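import Cfsg.Agent.Lib.AP0b

/-! The piece `P0` of the pushing up theorem for groups of characteristic 2 type. -/

set_option autoImplicit false
set_option linter.unusedSectionVars false

namespace Cfsg.Agent.Lib.AP0

open Cfsg Subgroup Cfsg.Agent.Lib.PCoreConj Cfsg.Agent.Lib.PCore Cfsg.Agent.Lib.PCoreResidual
  Cfsg.Agent.Lib.FTDefs Cfsg.Agent.Lib.AP
open scoped MatrixGroups

universe u

variable {G : Type*} [Group G] [Finite G] {T K W : Subgroup G}

theorem cases_of {X : Type} [Group X] (xp : XP X) (φ : K ⧸ pCore 2 K ≃* X) {x : G} (h : St K W T x)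
    (b : IsBaumannBlock 2 T K) : A3 K W ∨ A5 K W ∨ NatM K W := by
  have cq := Blk.card_eq_quot 2 K
  have cX := Nat.card_congr φ.toEquiv
  rw [← h.W_eq] at cq
  have a3 : Nat.card X = 3 → W ⊓ C[K] = ⊥ := fun e =>
    cent_bot h.pW ⟨⟨fun a b => Subtype.ext (by
      have i : ∀ w ∈ W, w⁻¹ = w := fun w hw => inv_eq_of_mul_eq_one_right (h.eW w hw)
      change a.1 * b.1 = b.1 * a.1
      rw [← i _ (mul_mem a.2 b.2), mul_inv_rev, i _ a.2, i _ b.2])⟩⟩ h.W_le (le_normalizer.trans h.NKW) h.WK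
      (by rw [cq, cX, e])
  obtain ⟨-, -, -, -, ⟨F, _, _, n, hF, ⟨ψ⟩, act, e | e⟩ | ⟨-, m, ⟨ψ⟩, act, e⟩⟩ := b
  · rw [← e, ← h.W_eq] at act
    have cψ := Nat.card_congr ψ.toEquiv
    rcases n with _ | _ | n
    · have := Fintype.one_lt_card (α := F)
      omega
    · left
      have d := card_subgroup_dvd_card (commutator SL(2, F))
      rw [LinearOrders.card_SL2 hF, ← cψ, cX] at d
      have c3 := xp.card.resolve_right (not_lt.2 (Nat.le_of_dvd (by decide) d))
      obtain ⟨-, -, ρ, χ, -, sχ, kχ, -⟩ := act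
      have c4 : Nat.card W = 4 := by
        rw [Nat.card_congr (Equiv.ofBijective χ ⟨(injective_iff_map_eq_one χ).2 fun u hu =>
          Subtype.ext (mem_bot.1 (a3 c3 ▸ (kχ u).1 hu)), sχ⟩), Nat.card_congr Multiplicative.toAdd,
          Nat.card_fun, Nat.card_eq_fintype_card (α := F), hF]
        simp
      exact ⟨c4, by rw [cq, cX, c3, c4]⟩
    · have q4 : 4 ≤ Nat.card F := by
        rw [Nat.card_eq_fintype_card, hF, pow_succ, pow_succ]
        have := Nat.one_le_two_pow (n := n)
        omega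
      rw [Blk.comm_eq_top q4] at act cψ
      exact Or.inr (Or.inr ⟨F, _, _, n + 1 + 1, by omega, hF, act, by rw [cq, cψ, card_top]⟩)
  · exact absurd e.1 (by decide)
  · rw [← e, ← h.W_eq] at act
    have cψ := Nat.card_congr ψ.toEquiv
    rcases m with _ | _ | _ | m
    · have := card_subgroup_dvd_card (alternatingGroup (Fin (2 * 0 + 1)))
      rw [← cψ, cX, Nat.card_perm] at this
      have := xp.card
      simp at *
      omega
    · left
      have c3 : Nat.card X = 3 := by
        rw [← cX, cψ, nat_card_alternatingGroup, Nat.card_fin]; rfl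
      obtain ⟨-, -, ρ, χ, -, s0, sχ, kχ, -⟩ := act
      have c4 : Nat.card W = 4 := by
        rw [Nat.card_congr (Equiv.ofBijective (fun u : W => (⟨(χ u).toAdd, s0 u⟩ : {v : Fin 3 → ZMod 2 // ∑ i, v i = 0}))
          ⟨fun u v e => (injective_iff_map_eq_one χ).2 (fun u hu => Subtype.ext (mem_bot.1 (a3 c3 ▸ (kχ u).1 hu)))
            (congrArg Subtype.val e), fun v => (sχ v.1 v.2).imp fun _ e => Subtype.ext e⟩), Nat.card_eq_fintype_card]
        decide
      exact ⟨c4, by rw [cq, cX, c3, c4]⟩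
    · refine Or.inr (Or.inl ⟨act, ?_⟩)
      rw [cq, cψ, nat_card_alternatingGroup, Nat.card_fin]; rfl
    · obtain ⟨y, h1, h2⟩ := alt_four (d := 2 * (m + 1 + 1 + 1) + 1) (by omega)
      have := xp.four (φ (ψ.symm y)) (by rw [← map_pow, ← map_pow, h1, map_one, map_one])
      rw [← map_pow, ← map_pow, EmbeddingLike.map_eq_one_iff, EmbeddingLike.map_eq_one_iff] at this
      exact (h2 this).elim

instance : P0.{u} := ⟨fun {G} _ _ hG H T hq hs hu hn => by
  have eK : oddGenerated H = pResidualOf 2 H := by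
    rw [pResidualOf_eq_closure]
    simp only [oddGenerated, Nat.coprime_two_right]
  set K := oddGenerated H
  have m : N[K] ∈ maxTwoLocalsContaining H := hu ▸ Set.mem_singleton _
  have su : Su H ((T : Subgroup H).map H.subtype) K := by
    refine ⟨eK, fun X pX nX g hg => ?_, isSylowIn_map_subtype T, fun P h1 h2 h3 h4 => hs P h1 h2 h3
      fun s hs k hk => commutator_le.1 h4 s hs k hk, fun X pX nX l => ?_, m.1.1, hn⟩
    · exact ⟨⟨g, hg.2⟩, hG.2 X pX nX ((Blk.map_mem_cent (subtype_injective _)).1 hg.1), rfl⟩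
    · obtain ⟨M, h1, h2, h3⟩ := exists_maximal_ge (P := IsTwoLocal) (H := N[X]) ⟨X, pX, nX, rfl⟩
      have : M ∈ maxTwoLocalsContaining H := ⟨⟨h1, h3⟩, l.trans h2⟩
      rw [hu] at this
      exact h2.trans (le_of_eq this)
  have main : ∀ (X : Type) [Group X], XP X → (K ⧸ pCore 2 K ≃* X) → ∃ (K W T' : Subgroup G) (x : G),
      St K W T' x ∧ (A3 K W ∨ A5 K W ∨ NatM K W) := fun X _ xp φ => by
    have s : Function.Surjective (φ.toMonoidHom.comp (QuotientGroup.mk' (pCore 2 K))) :=
      φ.surjective.comp (QuotientGroup.mk'_surjective _)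
    have k : pker (φ.toMonoidHom.comp (QuotientGroup.mk' (pCore 2 K))) = pCoreOf 2 K := by
      rw [pker, MonoidHom.ker_comp_of_injective _ _ φ.injective, QuotientGroup.ker_mk']; rfl
    obtain ⟨x, h⟩ := su.st xp s k
    exact ⟨_, _, _, x, h, cases_of xp φ h (Blk.blk_iff.2 (su.blk xp s k))⟩
  rcases hq with ⟨⟨φ⟩⟩ | ⟨n, h1, ⟨φ⟩⟩
  · exact main _ (xp_three (by simp)) φ
  · haveI := Fintype.ofFinite (GaloisField 2 n)
    have c : Fintype.card (GaloisField 2 n) = 2 ^ n := by
      rw [← Nat.card_eq_fintype_card, GaloisField.card 2 n (by omega)]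
    rcases h1.eq_or_lt with rfl | h1
    · refine (res_six (X := SL(2, GaloisField 2 1)) (LinearOrders.card_SL2 c) ?_).elim
      have s : Function.Surjective (φ.toMonoidHom.comp (QuotientGroup.mk' (pCore 2 K))) :=
        φ.surjective.comp (QuotientGroup.mk'_surjective _)
      rw [← map_pResidual_of_surjective s, ← pResidualOf_subgroupOf, su.res, subgroupOf_self,
        map_top_of_surjective _ s]
    · exact main _ (xp_sl c h1) φ⟩

end Cfsg.Agent.Lib.AP0
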