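import Cfsg.Agent.Lib.CgAlt

/-! The local `C*(G,T)`-theorem and the local `C(G,T)`-theorem. -/

set_option autoImplicit false
open Cfsg

namespace Cfsg.Agent.Lib.Blk

open Subgroup Cfsg.Agent.Lib.PCoreConj Cfsg.Agent.Lib.PCore Cfsg.Agent.Lib.PCoreResidual Cfsg.Agent.Lib.PCoreMod
open Cfsg.Agent.Lib.ThompsonJ Cfsg.Agent.Lib.PushBase Cfsg.Agent.Lib.PIrred Equiv
open scoped Pointwise commutatorElement MatrixGroups

universe u

theorem aa (p : ℕ) [Fact p.Prime] (n : ℕ) : ∀ (G : Type u) [Group G] [Finite G], Nat.card G = n → AA p G := by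
  induction n using Nat.strong_induction_on with
  | _ n ih =>
    intro G _ _ e T M₀ h ne
    by_contra k
    refine MC.false (p := p) ⟨h, ne, fun E s => by_contra fun k' => k ⟨E, s, k'⟩, fun H _ n => h.ind_of fun K hK =>
      ih _ ?_ K rfl⟩
    rw [← e, ← card_top (G := G)]
    exact card_lt_of_lt (hK.trans_lt (lt_top_iff_ne_top.2 n))

variable {G : Type u} [Group G] {p : ℕ} {T E E' A X Y M₀ M₁ : Subgroup G} {g t u w : G} [hp : Fact p.Prime] [Finite G]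

namespace CM
variable (h : CM p T M₀)
include h

theorem exists_sb (ne : M₀ ≠ ⊤) : ∃ E, SB p E ∧ ¬ E ≤ M₀ := aa p _ G rfl T M₀ h ne

theorem ind : Ind p T M₀ ⊤ := h.ind_of fun K _ => aa p _ K rfl

theorem cent_of_cent (s : SB p E) (s' : SB p E') (ne : E' ≠ E) (hA : MaxAb p T A) (c : A ⊓ C(WE p E') ≤ C(WE p E)) :
    A ≤ C(WE p E) := by
  have b' := s'.blk h.hG h.syl
  have V₁ : WE p E ≤ VG p G := s.W_le_V h.hG
  have V₂ : WE p E' ≤ VG p G := s'.W_le_V h.hG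
  have n' := s'.max_norm h.hG h.Q_le hA
  have c₁ := (card_le_of_maxAb (isElementaryAbelian_of_le V_elem (sup_le V₁ V₂)) ((sup_le V₁ V₂).trans h.V_le) hA).1
  have c₂ := b'.not_over n' ((comm_bot_of_cent hA.abExp.le_centralizer).le.trans bot_le)
    fun x hx => hA.abExp.pow hx ▸ one_mem _
  have c₃ : Nat.card ↥(A ⊓ C(WE p E')) ≤ Nat.card ↥(A ⊓ C((WE p E ⊔ WE p E' : Subgroup G))) :=
    Subgroup.card_le_of_le (le_inf inf_le_left (by rw [centralizer_sup]; exact le_inf c inf_le_right))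
  have l : (WE p E ⊔ WE p E') ⊓ C(A) ≤ WE p E ⊔ WE p E' := inf_le_left
  have c₄ := card_sup_mul_card_inf (le_normalizer_of_le_centralizer
    ((l.trans (sup_le V₁ V₂)).trans (V_comm.trans (centralizer_anti V₂))))
  rw [inf_right_comm, inf_eq_right.2 (le_sup_right : WE p E' ≤ _)] at c₄
  have e := eq_of_le_of_card_le (sup_le l le_sup_right) (Nat.le_of_mul_le_mul_right
    (c := Nat.card ↥(A ⊓ C(WE p E')) * Nat.card ↥(WE p E' ⊓ C(A)))
    (calc _ = Nat.card ↥(A ⊓ C(WE p E')) * Nat.card ↥(WE p E ⊔ WE p E') * Nat.card ↥(WE p E' ⊓ C(A)) := by ring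
      _ ≤ _ := Nat.mul_le_mul_right _ ((Nat.mul_le_mul_right _ c₃).trans c₁)
      _ = Nat.card ↥((WE p E ⊔ WE p E') ⊓ C(A)) * (Nat.card A * Nat.card ↥(WE p E' ⊓ C(A))) := by ring
      _ ≤ _ := Nat.mul_le_mul_left _ c₂
      _ = Nat.card ↥(A ⊓ C(WE p E')) * (Nat.card ↥((WE p E ⊔ WE p E') ⊓ C(A)) * Nat.card (WE p E')) := by ring
      _ = _ := by rw [← c₄]; ring) (Nat.mul_pos Nat.card_pos Nat.card_pos))
  have k : WE p E' ≤ C(E) := (WE_le_E p E').trans (cent_of_comm_bot' ((s'.eq_or_comm h.hG s).resolve_left ne))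
  refine (s.blk h.hG h.syl).cent_of_comm (s.max_norm h.hG h.Q_le hA) (((commutator_comm _ _).le.trans
    ((commutator_mono le_rfl (le_sup_left.trans e.ge)).trans (commutator_sup_le
      (inf_le_left.trans (le_normalizer_of_le_centralizer ((sup_le V₁ V₂).trans (V_comm.trans (centralizer_anti V₂)))))
      le_normalizer ((comm_bot_of_cent' inf_le_right).le.trans bot_le)
      (commutator_le_right_of_le_normalizer (n'.trans (norm_WE p E')))))).trans k)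

theorem exists_indep (s : SB p E) (𝓢 : Set (Subgroup G)) (hs : 𝓢.Finite) : (∀ E' ∈ 𝓢, SB p E' ∧ E' ≠ E) →
    ∃ A, MaxAb p T A ∧ ¬ A ≤ C(WE p E) ∧ ∀ E' ∈ 𝓢, A ≤ C(WE p E') := by
  induction 𝓢, hs using Set.Finite.induction_on with
  | empty =>
    obtain ⟨A, hA⟩ := not_forall.1 fun k => (s.blk h.hG h.syl).not_J_cent h.syl h.hG (J_le_iff.2 k)
    exact fun _ => ⟨A, (Classical.not_imp.1 hA).1, (Classical.not_imp.1 hA).2, fun _ k => k.elim⟩
  | @insert E' 𝓢 _ _ ih =>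
    intro k
    obtain ⟨A, hA, h₁, h₂⟩ := ih fun F hF => k F (.inr hF)
    obtain ⟨s', ne⟩ := k E' (.inl rfl)
    obtain ⟨M, _, R, m, ⟨a⟩⟩ := (s'.blk h.hG h.syl).model
    have V₂ : WE p E' ≤ VG p G := s'.W_le_V h.hG
    refine ⟨_, ((s'.blk h.hG h.syl).off m a (V₂.trans h.V_le) hA (s'.max_norm h.hG h.Q_le hA)).2.2,
      fun c => h₁ (h.cent_of_cent s s' ne hA (le_sup_left.trans c)), fun F hF => sup_le ?_
        (V₂.trans (V_comm.trans (centralizer_anti ((k F hF).1.W_le_V h.hG))))⟩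
    rcases hF with rfl | hF
    exacts [inf_le_right, inf_le_left.trans (h₂ F hF)]

omit h in
theorem _root_.Cfsg.Agent.Lib.Blk.Blk.inf_rel' (b : Blk p T E) : E ⊓ rel (ZW p E) (WE p E) = pCoreOf p E :=
  (b.inf_rel le_normalizer).trans (le_antisymm b.faith' (le_inf (pCoreOf_le p E) (core_le_cent' p E)))

section Lin
variable {F : Type} [Field F] [Finite F] [CharP F p] (a : ActS (RL F) E (WE p E) (ZW p E)) {v : Fin 2 → F} (hv : v ≠ 0)
  (s : SB p E)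
include hv s

theorem line_of_mem (hM : ¬ E ≤ M₀) (e₁ : a.im (J p T) = UL v) (hg : g ∈ E ⊔ J p T) (hm : g ∈ M₀) :
    a.θ g v ∈ line v := by_contra fun k => by
  have nJ := s.J_norm h.hG h.Q_le
  have n : (E ⊔ J p T) ⊓ M₀ ≤ NN (WE p E) (ZW p E) := inf_le_left.trans ((sup_le le_normalizer nJ).trans (norm_NN p E))
  have l : a.im ((E ⊔ J p T) ⊓ M₀) ≤ PL F := (a.im_mono inf_le_left).trans (by
    rw [a.im_sup a.norm (nJ.trans (norm_NN p E)), a.eq, e₁]; exact sup_le RL_le_PL (UL_le_PL v))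
  have e := le_antisymm l (PL_le_of hv l (e₁.ge.trans (a.im_mono (le_inf le_sup_right ((J_le p T).trans h.T_le))))
    (a.θ_mem (mem_inf.2 ⟨hg, hm⟩)) k)
  refine hM (((s.blk h.hG h.syl).le_sup_of_im a.toSect ((pResidualOf_mono inf_le_left).trans
    (pResidualOf_sup_le (h.pT.to_le (J_le p T)) nJ)) ?_).trans
      (sup_le ((pResidualOf_le p _).trans inf_le_right) (s.U_le.trans h.Q_le_M)))
  rw [a.im_res n, e, res_PL, a.eq]

theorem mem_of_line (e₂ : a.im (Bm p T) = UL v) (hg : g ∈ E) (k : a.θ g v ∈ line v) : g ∈ M₀ := by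
  have b := s.blk h.hG h.syl
  have l := pResidualOf_le p ((E ⊔ Bm p T) ⊓ a.cm (UL v))
  have n := (inf_le_right : (E ⊔ Bm p T) ⊓ a.cm (UL v) ≤ _).trans a.cm_le
  have hP : IsPGroup p ↥((E ⊔ Bm p T) ⊓ a.cm (UL v)) := isPGroup_of_pResidualOf_le (pCoreOf_isPGroup p E)
    ((le_inf ((pResidualOf_mono inf_le_left).trans (pResidualOf_sup_le (h.pT.to_le (Bm_le p T)) b.B_norm))
      ((a.im_eq_bot_iff (l.trans n)).1 (by
        rw [a.im_res n, pResidualOf_eq_bot_of_isPGroup ((UL_isPGroup v).to_le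
          (a.le_cm_iff.1 inf_le_right).2)]))).trans b.inf_rel'.le)
  refine h.NB_le ?_
  rw [← Bm_eq_of_pgroup h.syl hP le_top (le_inf le_sup_right (a.le_cm_iff.2 ⟨b.B_norm.trans (norm_NN p E), e₂.le⟩))]
  have l' : E ⊓ a.cm N(UL v) ≤ N((E ⊔ Bm p T) ⊓ a.cm (UL v)) := le_normalizer_inf
    (inf_le_left.trans (le_sup_left.trans le_normalizer))
      (a.norm_cm (inf_le_right.trans a.cm_le) (a.le_cm_iff.1 inf_le_right).2)
  exact normalizer_le_normalizer_Bm p _ (l' (mem_inf.2 ⟨hg, a.mem_cm.2 ⟨a.norm hg,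
    norm_of_line hv (RL_le_PL (a.θ_mem' hg)) k⟩⟩))

end Lin

end CM

/-- What the block structure needs to know about one of its members. -/
structure Fc (p : ℕ) (T M₀ E : Subgroup G) : Prop where
  self : ∀ e ∈ E, ∀ A, MaxAb p T A → ¬ A ≤ C(WE p E) → (∀ m ∈ M₀, m ∈ E ⊔ A → e * m * e⁻¹ ∈ M₀) → e ∈ M₀
  cl : Cl7 p T (M₀ ⊓ E) E

variable {α : Type*} [Fintype α] [DecidableEq α] {x z : α} {π : α → α}

theorem CM.fc_lin (h : CM p T M₀) (s : SB p E) (hM : ¬ E ≤ M₀) {F : Type} [Field F] [Finite F] [CharP F p]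
    (a : ActS (RL F) E (WE p E) (ZW p E)) : Fc p T M₀ E := by
  have b := s.blk h.hG h.syl
  obtain ⟨v, hv, e₁, -, e₂⟩ := b.lin_B a h.pT ((s.W_le_Q h.hG).trans h.Q_le) b.B_norm (b.not_J_cent h.syl h.hG)
  refine ⟨fun e he A hA c k => h.mem_of_line a hv s e₂ he ?_, cl7_lin a b.inf_rel' (h.syl.inf_subnormalIn s.sub) hv
    (a.im_le_iff.2 fun g hg => ?_) inf_le_right fun g hg => ⟨fun k => h.line_of_mem a hv s hM e₁ (mem_sup_left hg) k.1,
      fun k => ⟨h.mem_of_line a hv s e₂ hg k, hg⟩⟩⟩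
  · obtain ⟨y, hy, c⟩ := SetLike.not_le_iff_exists.1 c
    have n := s.max_norm h.hG h.Q_le hA hy
    obtain ⟨r, e₃⟩ := e₁.le (a.θ_mem (hA.le_J hy))
    obtain ⟨γ, e₄⟩ := RL_le_PL (a.θ_mem' he)
    have r₀ : r ≠ 0 := fun k => c ((b.θ_eq_one a.toSect n).1 (by rw [← e₃, k, tv_zero, map_one]))
    have := h.line_of_mem a hv s hM e₁ (mul_mem (mul_mem (mem_sup_left he) (mem_sup_right (hA.le_J hy)))
      (inv_mem (mem_sup_left he))) (k y (h.T_le (hA.le hy)) (mem_sup_right hy))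
    rwa [a.θ_conj (a.norm he) (norm_NN p E n), ← e₃, ← e₄, ← map_inv, ← map_mul, ← map_mul, conj_tv, toA_tv, mem_line,
      det2_add, det2_self, det2_smul, zero_add, det2_swap _ v, mul_assoc, mul_eq_zero, or_iff_right r₀, neg_mul,
      neg_eq_zero, mul_self_eq_zero, e₄] at this
  · obtain ⟨k, hk⟩ := isPGroup_iff_forall_mem.1 (a.im_isPGroup h.pT) _ (a.θ_mem (mem_inf.1 hg).1)
    have n := a.θ_mem_norm (normalizer_le_normalizer_J p T (le_normalizer (mem_inf.1 hg).1))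
    rw [e₁] at n
    exact mem_UL_of_line (p := p) hv (RL_le_PL (a.θ_mem' (mem_inf.1 hg).2)) (line_of_norm hv n) hk

omit hp in
theorem CM.sy (h : CM 2 T M₀) (s : SB 2 E) {m : ℕ} (hm : 1 ≤ m) (zw : ZW 2 E = ⊥)
    (a : ActS (RS (Fin (2 * m + 1))) E (WE 2 E) (ZW 2 E)) : SY T M₀ a :=
  ⟨h, odd_fin m, three_le_fin hm, s.blk h.hG h.syl, zw, h.syl.inf_subnormalIn s.sub⟩

omit hp in
theorem SY.fc {m : ℕ} {a : ActS (RS (Fin (2 * m + 1))) E (WE 2 E) (ZW 2 E)} (h : SY T M₀ a) (hM : ¬ E ≤ M₀) :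
    Fc 2 T M₀ E := by
  have s := h.sp
  obtain ⟨z, π, m⟩ := s.exists_mt
  refine ⟨fun e he A hA c k => ?_, cl7_sym a h.blk.inf_rel' z fun g hg σ e' =>
    (and_iff_left hg).trans (h.mem_iff m hM (mem_sup_left hg) e')⟩
  obtain ⟨τ, e₁⟩ := s.perm (le_normalizer he)
  refine h.stab_le m (mem_sup_left he) e₁ (by_contra fun k' => ?_)
  have n := hA.le_J.trans s.JH
  obtain ⟨y, hy, c⟩ := SetLike.not_le_iff_exists.1 c
  obtain ⟨σ, e₂⟩ := s.perm (n hy)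
  obtain ⟨x, hx⟩ := not_forall.1 fun k' : ∀ x, σ x = x => c ((s.θ_eq_one (n hy)).1 (by
    rw [← e₂, show σ = 1 from Equiv.ext k', map_one]))
  obtain ⟨t, ht, e₃⟩ := (mem_PP (n.trans s.nn)).1 (s.swap_mem hA (PP_of hy e₂) x)
  have hc : τ⁻¹ z ≠ z := fun e => k' (Perm.inv_eq_iff_eq.1 e).symm
  obtain ⟨g, hg, ρ, e₄, e₅, -⟩ := s.exists_conj (Ne.symm hx) (m.ne _ hc).symm
  have e₆ := θ_conj_swap (a.norm hg) (s.nn (n ht)) e₄ e₃
  rw [e₅] at e₆
  have m₁ : g * t * g⁻¹ ∈ HE T E := mul_mem (mul_mem (mem_sup_left hg) (mem_sup_right ⟨hA.le ht, n ht⟩))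
    (inv_mem (mem_sup_left hg))
  have := (h.mem_iff m hM (mul_mem (mul_mem (mem_sup_left he) m₁) (inv_mem (mem_sup_left he)))
    (θ_conj_swap (a.norm he) (s.nn (HE_le m₁)) e₁ e₆).symm).1 (k _ (h.stab_le m m₁ e₆.symm
      (swap_apply_of_ne_of_ne hc.symm (m.ne_z hc).symm)) (mul_mem (mul_mem (mem_sup_left hg) (mem_sup_right ht))
        (inv_mem (mem_sup_left hg))))
  rw [app_inv, swap_apply_left] at this
  exact m.ne _ hc (Perm.eq_inv_iff_eq.2 this)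

namespace CM
variable (h : CM p T M₀)
include h

theorem fc (s : SB p E) (hM : ¬ E ≤ M₀) : Fc p T M₀ E := by
  rcases (s.blk h.hG h.syl).cases' with ⟨F, _, _, _, ⟨a⟩, -⟩ | ⟨rfl, m, hm, ⟨a⟩, -, zw⟩
  exacts [h.fc_lin s hM a, (h.sy s hm zw a).fc hM]

theorem inf_le (𝓢 : Set (Subgroup G)) (hs : 𝓢.Finite) : (∀ E ∈ 𝓢, SB p E ∧ ¬ E ≤ M₀) →
    M₀ ⊓ sSup 𝓢 ≤ ⨆ E ∈ 𝓢, M₀ ⊓ E := by
  induction 𝓢, hs using Set.Finite.induction_on with
  | empty => exact fun _ => inf_le_right.trans (sSup_empty.le.trans bot_le)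
  | @insert E 𝓢 hn hs ih =>
    rintro k x ⟨hm, hx⟩
    obtain ⟨s, hM⟩ := k E (.inl rfl)
    have ne : ∀ E' ∈ 𝓢, SB p E' ∧ E' ≠ E := fun E' h' => ⟨(k E' (.inr h')).1, fun e => hn (e ▸ h')⟩
    have cm : ∀ E' ∈ 𝓢, E' ≤ C(E) := fun E' h' =>
      cent_of_comm_bot' (((ne E' h').1.eq_or_comm h.hG s).resolve_left (ne E' h').2)
    rw [sSup_insert] at hx
    obtain ⟨e, he, y, hy, rfl⟩ := (mem_sup_iff_of_le_normalizer' (le_normalizer_of_le_centralizer (sSup_le cm))).1 hx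
    obtain ⟨A, hA, h₁, h₂⟩ := h.exists_indep s 𝓢 hs ne
    have k' : e ∈ M₀ := (h.fc s hM).self e he A hA h₁ fun m hm' k' => by
      have l : sSup 𝓢 ≤ rel (pCore p G) (zpowers m) := sSup_le fun E' h' => by
        have s' := (ne E' h').1
        have b := s'.blk h.hG h.syl
        have c := (zpowers_le_of_mem k').trans (sup_le ((le_centralizer_iff.1 (cm E' h')).trans
          (centralizer_anti (WE_le_E p E'))) (h₂ E' h'))
        exact le_rel_iff.2 ⟨nQ p _, (le_inf (commutator_le_right_of_le_normalizer (c.trans (b.cent_le_norm h.syl h.hG)))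
          ((commutator_mono c le_rfl).trans (commutator_le_left_of_le_normalizer (le_normalizer.trans
            (norm_C p _))))).trans (b.faith'.trans s'.U_le)⟩
      have := mul_mem (h.Q_le_M (cQ e ((mem_rel.1 (l hy)).2 m (mem_zpowers m)))) (mul_mem (mul_mem hm hm') (inv_mem hm))
      rwa [show e * ⁅m, y⁆ * e⁻¹ * (e * y * m * (e * y)⁻¹) = e * m * e⁻¹ by rw [commutatorElement_def]; group] at this
    rw [iSup_insert]
    exact mul_mem (mem_sup_left ⟨k', he⟩) (mem_sup_right (ih (fun E' h' => k E' (.inr h'))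
      ⟨(mul_mem_cancel_left k').1 hm, hy⟩))

end CM

theorem cStar_main (hG : C(pCore p G) ≤ pCore p G) (hT : IsSylowIn p T ⊤) :
    HasBaumannBlockStructure p T (Bs p T (cStarOf p T) ⊤) := by
  have h := cm_cStar hG hT
  refine ⟨fun E s => blk_iff.2 s.1.blk, fun E s g => h.conj_bs le_top s (mem_top g), fun E s E' s' =>
    (h.eq_or_comm le_top s.1 s'.1).resolve_left, by_contra fun k => ?_, fun F b k =>
      h.exists_bs le_top h.ind (blk_iff.1 b) le_top k, le_antisymm (h.inf_le _ (Set.toFinite _) fun E s =>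
        ⟨s.1.top hT, s.2⟩) (iSup₂_le fun E s => inf_le_inf_left _ (le_sSup s)), fun E s => (h.fc (s.1.top hT) s.2).cl⟩
  obtain ⟨E, s, l⟩ := (h.mono le_sup_left).exists_sb k
  exact l (le_sup_of_le_right (le_sSup ⟨⟨s.blk hG hT, s.sub⟩, fun e => l (e.trans le_sup_left)⟩))

section Char
omit hp [Finite G]

theorem norm_le_join (h₁ : X ≤ T) (h₂ : X ≠ ⊥) : (N(chcl T X) : Subgroup G) ≤ charNormalizersJoin T :=
  le_iSup (fun C : {C : Subgroup G // C ≤ T ∧ C ≠ ⊥ ∧ (C.subgroupOf T).Characteristic} =>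
    normalizer ((C : Subgroup G) : Set G)) ⟨_, chcl_le _ _, fun e => h₂ (le_bot_iff.1 ((le_chcl h₁).trans e.le)),
      chcl_char _ _⟩

theorem norm_le_join' (h₁ : X ≤ T) (h₂ : X ≠ ⊥) (h₃ : ∀ φ : T ≃* T, tw φ X ≤ X) :
    (N(X) : Subgroup G) ≤ charNormalizersJoin T :=
  le_antisymm (iSup_le h₃) (le_chcl h₁) ▸ norm_le_join h₁ h₂

theorem tw_zpowers (φ : T ≃* T) (w : T) : tw φ (zpowers (w : G)) = zpowers (φ w : G) := by
  rw [tw, ← coe_subtype, ← MonoidHom.map_zpowers, map_subtype_subgroupOf, MonoidHom.map_zpowers]; rfl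

theorem exists_tw_nc (hX : ¬ X ≤ charNormalizersJoin T) {w : T} (hw : (w : G) ≠ 1) :
    ∃ φ : T ≃* T, ¬ X ≤ C(zpowers (φ w : G)) := not_forall.1 fun k => hX ((le_normalizer_of_le_centralizer
  (le_centralizer_iff.1 (iSup_le fun φ => (tw_zpowers φ w).le.trans (le_centralizer_iff.1 (k φ))))).trans
    (norm_le_join (zpowers_le_of_mem w.2) (zpowers_ne_bot.2 hw)))

theorem Tri.tw (φ : T ≃* T) {t u w : T} (k : Tri T (t : G) u w) : Tri T (φ t : G) (φ u) (φ w) :=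
  ⟨tw_Bm φ 2 ▸ (mem_tw' φ).2 k.tB, tw_Bm φ 2 ▸ (mem_tw' φ).2 k.uB, tw_orbit φ (tw_Bm φ 2) k.ht,
    tw_orbit φ (tw_Bm φ 2) k.hu, by
      rw [← show ⁅t, u⁆ = w from Subtype.ext k.eq, map_commutatorElement]; rfl⟩

theorem card_cent_tw (φ : T ≃* T) (w : T) :
    Nat.card ↥(T ⊓ C(zpowers (φ w : G))) = Nat.card ↥(T ⊓ C(zpowers (w : G))) := by
  rw [← card_tw φ (inf_le_left : T ⊓ C(zpowers (w : G)) ≤ T), tw_cent φ (zpowers_le_of_mem w.2), tw_self, tw_zpowers]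

end Char

theorem cm_join (hG : C(pCore p G) ≤ pCore p G) (hT : IsSylowIn p T ⊤) (ne : charNormalizersJoin T ≠ ⊤) :
    CM p T (charNormalizersJoin T) := by
  have n : T ≠ ⊥ := fun e => ne (eq_top_iff.2 (centralizer_bot'.ge.trans ((centralizer_anti
    (hT.pCore_le.trans e.le)).trans (hG.trans (hT.pCore_le.trans (e.le.trans bot_le))))))
  refine ⟨hG, hT, fun A h₁ h₂ => norm_le_join' ((map_subtype_le A).trans (Bm_le p T)) (fun e => h₁
    ((Subgroup.map_eq_bot_iff_of_injective _ (Bm p T).subtype_injective).1 e)) fun φ => ?_,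
    (centralizer_le_normalizer _).trans (norm_le_join' (omegaOneCenter_le p T) (omegaOneCenter_ne_bot hT.isPGroup n)
      fun φ => le_of_eq ?_)⟩
  · let ψ : Bm p T ≃* Bm p T := ((subgroupOfEquivOfLe (Bm_le p T)).symm.trans
      (equivMapOfInjective _ _ (τa_inj φ))).trans (MulEquiv.subgroupCongr (tw_Bm φ p))
    rintro _ ⟨x, ⟨y, hy, e⟩, rfl⟩
    obtain rfl : x = ⟨y, Bm_le p T y.2⟩ := Subtype.ext e.symm
    exact ⟨ψ y, characteristic_iff_map_le.1 h₂ ψ ⟨y, hy, rfl⟩, rfl⟩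
  · have e := map_omegaOneCenter_subtype (p := p) (T.subgroupOf T)
    rw [map_subgroupOf_eq_of_le le_rfl] at e
    conv_lhs => rw [tw, ← e, map_subtype_subgroupOf, map_omegaOneCenter (τa_inj φ), ← tw, tw_self]

omit hp in
theorem tri_lin (hG : C(pCore 2 G) ≤ pCore 2 G) (hT : IsSylowIn 2 T ⊤) (b : Blk 2 T E) {q : ℕ} (hq : 2 < q)
    (l : LinQ 2 T E q) (k : Tri T t u w) : E ≤ C(zpowers w) := by
  obtain ⟨F, _, _, _, a, rfl, -⟩ := l
  obtain ⟨v, hv, -, -, e⟩ := b.lin_B a hT.isPGroup ((b.WE_le_Q hT hG).trans hT.pCore_le) b.B_norm (b.not_J_cent hT hG)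
  have key : ∀ t ∈ Bm 2 T, (∀ g ∈ Bm 2 T, ⁅t, g⁆ = 1 ∨ ⁅t, g⁆ = w) → t ∈ NC 2 E := fun t ht k =>
    mem_inf.2 ⟨b.B_norm ht, by_contra fun c => by
      have c₁ := card_le_two fun g hg => k g (b.W_le_B hT hG hg)
      have c₂ : Nat.card ↥(WE 2 E ⊓ C(zpowers t)) ≤ Nat.card (a.pre (line v)) := Subgroup.card_le_of_le fun y hy =>
        ⟨hy.1, mem_line_of_fix hv (e.le (a.θ_mem ht)) (fun e => c ((b.θ_eq_one a.toSect (b.B_norm ht)).1 e)) (by
          rw [a.θ_ψ (norm_NN 2 E (b.B_norm ht)) hy.1, ← mem_cent_zp.1 hy.2, mul_inv_cancel_right])⟩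
      rw [a.card_pre, card_line hv] at c₂
      rw [a.card_U, card_vec] at c₁
      have := Nat.le_of_mul_le_mul_right (c := Nat.card F * Nat.card (ZW 2 E)) (a := Nat.card F) (b := 2)
        (calc _ = _ := by ring
          _ ≤ _ := c₁.trans (Nat.mul_le_mul_right _ c₂)
          _ = _ := by ring) (Nat.mul_pos Nat.card_pos Nat.card_pos)
      omega⟩
  have c : ⁅NC 2 E, E⁆ ≤ C(NC 2 E) := ((b.NC_comm' le_rfl).trans b.core_two.le).trans (le_centralizer_iff.1 inf_le_right)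
  exact le_centralizer_iff.1 (zpowers_le_of_mem (k.eq ▸ three_cent c ((commutator_comm _ _).le.trans c)
    (commutator_mem_commutator (key _ k.tB k.ht) (key _ k.uB k.hu))))

omit hp in
theorem SY.card_cent {a : ActS (RS α) E (WE 2 E) (ZW 2 E)} (h : SY T M₀ a) (s : SB 2 E) {v : Ev α} (hv : v ≠ 0) :
    Nat.card ↥(T ⊓ C(zpowers (a.σ v))) = Nat.card ↥(PP a.toSect (T ⊓ N(E)) ⊓ (stabM v).comap toP) *
      Nat.card ↥(T ⊓ C(WE 2 E)) := by
  have hw := a.σ_mem v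
  have ew := a.ψ_σ v
  generalize a.σ v = w at hw ew
  have n : T ⊓ C(zpowers w) ≤ N(E) := fun g hg => s.norm_of_fix h.hG hw (fun c => hv (by
    rw [← ew, mem_bot.1 (h.zw.le (mem_inf.2 ⟨hw, c⟩)), a.one])) (by rw [mem_cent_zp.1 hg.2, mul_inv_cancel_right])
  rw [h.blk.card_eq_im a.toSect n, inf_assoc, inf_eq_right.2 (centralizer_anti (zpowers_le_of_mem hw)),
    ← card_map_of_injective (toP_injective h.ho)]
  congr 3
  refine le_antisymm (a.im_le_iff.2 fun g hg => ?_) ?_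
  · obtain ⟨σ, e⟩ := h.sp.perm (n hg)
    refine ⟨σ, ⟨PP_of (mem_inf.2 ⟨hg.1, n hg⟩) e, mem_stabM.2 ?_⟩, e⟩
    rw [e, ← ew, a.θ_ψ (norm_NN 2 E (n hg)) hw, mem_cent_zp.1 hg.2, mul_inv_cancel_right]
  · rintro _ ⟨σ, ⟨h₁, h₂⟩, rfl⟩
    obtain ⟨g, hg, e⟩ := (mem_PP (inf_le_right.trans (norm_NN 2 E))).1 h₁
    exact e ▸ a.θ_mem (mem_inf.2 ⟨hg.1, mem_cent_zp.2 (mul_inv_eq_iff_eq_mul.1 (h.sp.conj_eq hg.2 hw (by
      rw [e, ew]; exact h₂)))⟩)

omit hp in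
theorem SY.card_eq {a : ActS (RS α) E (WE 2 E) (ZW 2 E)} (h : SY T M₀ a) (s : SB 2 E) (hM : ¬ E ≤ M₀)
    (ne : charNormalizersJoin T ≠ ⊤) : ∃ n, Fintype.card α = 2 * 2 ^ n + 1 := by
  have h' := cm_join h.hG h.syl ne
  obtain ⟨F, s', hF⟩ := h'.exists_sb ne
  obtain ⟨z, π, m⟩ := h.sp.exists_mt
  have key : ∀ X, ¬ X ≤ charNormalizersJoin T → ∀ x, x ≠ z → ∃ t u w, Tri T t u w ∧ ¬ X ≤ C(zpowers w) ∧
      Nat.card ↥(T ⊓ C(zpowers w)) = Nat.card ↥(T ⊓ C(zpowers (a.σ (pr x (π x))))) := fun X hX x hx => by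
    obtain ⟨t, u, -, -, k⟩ := h.exists_tri m hM hx
    obtain ⟨φ, hφ⟩ := exists_tw_nc hX (w := ⟨_, h.WT (a.σ_mem (pr x (π x)))⟩) fun e => pr_ne_zero (m.ne x hx).symm (by
      rw [← a.ψ_σ (pr x (π x)), show a.σ (pr x (π x)) = 1 from e, a.one])
    exact ⟨_, _, _, Tri.tw φ (t := ⟨t, Bm_le 2 T k.tB⟩) (u := ⟨u, Bm_le 2 T k.uB⟩) k, hφ, card_cent_tw φ _⟩
  rcases (s'.blk h.hG h.syl).cases2 with ⟨q, hq, l⟩ | ⟨-, zw, r, hr, ⟨a'⟩⟩
  · obtain ⟨x, hx, -⟩ := exists_third' h.h3 z z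
    obtain ⟨t, u, w, k, c, -⟩ := key F hF x hx
    exact absurd (tri_lin h.hG h.syl (s'.blk h.hG h.syl) hq l k) c
  have y := h'.sy s' hr zw a'
  obtain ⟨z', π', m'⟩ := y.sp.exists_mt
  obtain ⟨x', hx', -⟩ := exists_third' y.h3 z' z'
  have key' : ∀ x, x ≠ z → Nat.card ↥(T ⊓ C(zpowers (a'.σ (pr x' (π' x'))))) =
      Nat.card ↥(PP a.toSect (T ⊓ N(E)) ⊓ (stabM (pr x (π x))).comap toP) * Nat.card ↥(T ⊓ C(WE 2 E)) := fun x hx => by
    obtain ⟨t, u, w, k, c, e⟩ := key _ (y.FX_not_le m' hF hx') x hx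
    rw [← y.of_tri m' k c, e, h.card_cent s (pr_ne_zero (m.ne x hx).symm)]
  exact m.card_eq h.h3 fun x y hx hy => Nat.eq_of_mul_eq_mul_right Nat.card_pos ((key' x hx).symm.trans (key' y hy))

theorem CM.deg (h : CM p T M₀) (s : SB p E) (hM : ¬ E ≤ M₀) (ne : charNormalizersJoin T ≠ ⊤) {m : ℕ}
    (φ : ↥E ⧸ pCore p ↥E ≃* ↥(alternatingGroup (Fin (2 * m + 1)))) : ∃ n : ℕ, 2 * m + 1 = 2 ^ n + 1 := by
  have b := s.blk h.hG h.syl
  rcases b.cases' with ⟨F, _, _, _, ⟨a⟩, -⟩ | ⟨rfl, r, hr, ⟨a⟩, -, zw⟩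
  · obtain ⟨ψ⟩ := ActS.iso (f := toA) (R := commutator SL(2, F)) a toA_injective b.inf_rel'
    exact deg_of_lin (F := F) (p := p) (((equivMapOfInjective (commutator SL(2, F)) toA toA_injective).symm.trans
      ψ.symm).trans φ)
  · obtain ⟨n, e⟩ := (h.sy s hr zw a).card_eq s hM ne
    obtain rfl : r = 2 ^ n := by rw [Fintype.card_fin] at e; omega
    obtain ⟨ψ⟩ := ActS.iso (f := toP) a (toP_injective (odd_fin _)) b.inf_rel'
    exact deg_of_alt (ψ.symm.trans φ)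

end Cfsg.Agent.Lib.Blk
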