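import Cfsg.Agent.Lib.AP0a
import Cfsg.Agent.Lib.CgFin

/-! Extraction of the block in the pushing up theorem for groups of characteristic 2 type. -/

set_option autoImplicit false
set_option linter.unusedSectionVars false

namespace Cfsg.Agent.Lib.AP0

open Cfsg Subgroup Cfsg.Agent.Lib.PCoreConj Cfsg.Agent.Lib.PCore Cfsg.Agent.Lib.PCoreResidual
  Cfsg.Agent.Lib.FTDefs Cfsg.Agent.Lib.AP
open scoped MatrixGroups

variable {G : Type*} [Group G] [Finite G] {H T K : Subgroup G}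

/-- The hypotheses in ambient form. -/
structure Su (H T K : Subgroup G) : Prop where
  K_eq : K = pResidualOf 2 H
  loc : Loc G
  syl : IsSylowIn 2 T H
  mx : ∀ P : Subgroup G, IsPGroup 2 P → pCoreOf 2 H ≤ P → P ≤ N[K] → ⁅P, K⁆ ≤ pCoreOf 2 K → P = pCoreOf 2 H
  uq : ∀ X : Subgroup G, IsPGroup 2 X → X ≠ ⊥ → H ≤ N[X] → N[X] ≤ N[K]
  tl : IsTwoLocal N[K]
  nT : ¬ N[T] ≤ N[K]

theorem cK {P : Subgroup G} (hP : IsPGroup 2 P) (h1 : P ≤ N[K]) (h2 : K ≤ N[P]) : ⁅P, K⁆ ≤ pCoreOf 2 K :=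
  (le_inf (commutator_le_left_of_le_normalizer h2) (commutator_le_right_of_le_normalizer h1)).trans
    (inf_le_pCoreOf h2 hP)

namespace Su
variable (h : Su H T K)
include h

theorem KH : K ≤ H := h.K_eq ▸ pResidualOf_le 2 H
theorem HK : H ≤ N[K] := h.K_eq ▸ le_normalizer_pResidualOf 2 H
theorem sup : K ⊔ T = H := h.K_eq ▸ pResidualOf_sup_of_isSylowIn h.syl
theorem TK : T ≤ N[K] := h.syl.le.trans h.HK
theorem WQ : pCoreOf 2 K ≤ pCoreOf 2 H := pCoreOf_le_of_normal h.KH h.HK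
theorem QN : pCoreOf 2 H ≤ N[K] := (pCoreOf_le 2 H).trans h.HK
theorem QK : ⁅pCoreOf 2 H, K⁆ ≤ pCoreOf 2 K :=
  cK (pCoreOf_isPGroup 2 H) h.QN (h.KH.trans (le_normalizer_pCoreOf 2 H))
theorem res : pResidualOf 2 K = K := by rw [h.K_eq, pResidualOf_idem]

theorem cQ : C[pCoreOf 2 H] ⊓ H ≤ pCoreOf 2 H := by
  obtain ⟨X, pX, nX, e⟩ := h.tl
  have n := le_normalizer_pCoreOf 2 N[K]
  have nW := normalizer_le_normalizer_pCoreOf 2 K
  have l : pCoreOf 2 N[K] ≤ pCoreOf 2 H := by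
    refine le_sup_left.trans (h.mx _ (isPGroup_sup (pCoreOf_isPGroup 2 _) (pCoreOf_isPGroup 2 H)
      (h.QN.trans n)) le_sup_right (sup_le (pCoreOf_le 2 _) h.QN) ?_).le
    rw [commutator_comm]
    refine commutator_sup_le ((pCoreOf_le 2 _).trans nW) (h.QN.trans nW) ?_ ?_ <;> rw [commutator_comm]
    exacts [cK (pCoreOf_isPGroup 2 _) (pCoreOf_le 2 _) (le_normalizer.trans n), h.QK]
  have := h.loc X pX nX
  rw [← e] at this
  exact (inf_le_inf (centralizer_anti l) h.HK).trans (this.trans l)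

theorem K_ne : ¬ IsPGroup 2 K := fun e => h.nT (by
  rw [← h.res, pResidualOf_eq_bot_iff.2 e]
  exact le_top.trans (normal_iff_top_le.1 inferInstance))

theorem T_ne : T ≠ ⊥ := fun e => by
  have q : pCoreOf 2 H = ⊥ := le_bot_iff.1 (e ▸ h.syl.pCoreOf_le)
  have c := h.cQ
  refine h.K_ne ((pCoreOf_isPGroup 2 H).to_le (h.KH.trans (le_trans (le_inf ?_ le_rfl) c)))
  rw [q]
  exact le_centralizer_iff.1 bot_le

variable {X : Type} [Group X] (xp : XP X) {π : K →* X} (s : Function.Surjective π) (k : pker π = pCoreOf 2 K)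
include xp s k

theorem umax : ∃ B, ¬ H ≤ B ∧ ∀ Y, T ≤ Y → Y ≤ H → ¬ H ≤ Y → Y ≤ B := by
  have r : π.range = ⊤ := MonoidHom.range_eq_top.2 s
  have sy := sylow_pim Nat.prime_two (h.syl.inf_normal h.KH h.HK) le_rfl π
  rw [pim_dom, r] at sy
  obtain ⟨B, hB, um⟩ := xp.umax _ sy
  have WT : pker π ≤ T ⊓ K := k ▸ le_inf (h.WQ.trans h.syl.pCoreOf_le) (pCoreOf_le 2 K)
  have key : ∀ Z, T ⊓ K ≤ Z → Z ≤ K → ¬ K ≤ Z → Z ≤ ppre π B := fun Z h1 h2 h3 =>
    (pim_le_iff h2).1 (um _ (pim_mono π h1) fun e =>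
      h3 (le_of_pim_le le_rfl h2 (WT.trans h1) (e ▸ le_top)))
  have nB : ¬ K ≤ ppre π B := fun e => hB (top_le_iff.1 (by
    rw [← r, ← pim_dom]; exact pim_le_of_le_ppre e))
  have TB : T ⊓ K ≤ ppre π B := key _ le_rfl inf_le_right fun e => h.K_ne (h.syl.isPGroup.to_le (e.trans inf_le_left))
  have TN : T ≤ N[ppre π B] := le_normalizer_iff_conj_le.2 fun t ht => by
    have e := conj_eq_of_mem_normalizer (h.TK ht)
    refine key _ ?_ ((conj_mono t (ppre_le π B)).trans e.le) fun l => nB ?_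
    · rw [← conj_eq_of_mem_normalizer (le_normalizer_inf le_normalizer h.TK ht)]
      exact conj_mono t TB
    · have := conj_mono t⁻¹ (e.le.trans l)
      rwa [conj_conj_inv, conj_conj_inv] at this
  refine ⟨ppre π B ⊔ T, fun e => nB fun x hx => ?_, fun Y h1 h2 h3 y hy => ?_⟩
  · obtain ⟨b, hb, t, ht, rfl⟩ := (mem_sup_iff_of_le_normalizer' TN).1 (e (h.KH hx))
    exact mul_mem hb (TB ⟨ht, (K.mul_mem_cancel_left (ppre_le π B hb)).1 hx⟩)
  · obtain ⟨b, hb, t, ht, rfl⟩ := (mem_sup_iff_of_le_normalizer' h.TK).1 (h.sup.ge (h2 hy))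
    refine mul_mem_sup (key (Y ⊓ K) (inf_le_inf_right _ h1) inf_le_right (fun e => h3 ?_)
      ⟨(Y.mul_mem_cancel_right (h1 ht)).1 hy, hb⟩) ht
    exact h.sup.ge.trans (sup_le (e.trans inf_le_left) h1)

theorem cstar : cStarOf 2 (T.subgroupOf H) ≠ ⊤ := by
  obtain ⟨B, hB, um⟩ := h.umax xp s k
  have m : (T.subgroupOf H).map H.subtype = T := subgroupOf_map_subtype_of_le h.syl.le
  have pT : IsPGroup 2 (T.subgroupOf H) := isPGroup_subgroupOf h.syl.isPGroup H
  have key : ∀ C : Subgroup H, C ≤ T.subgroupOf H → C ≠ ⊥ → N[T] ≤ N[C.map H.subtype] →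
      N[C] ≤ B.subgroupOf H := fun C h1 h2 h3 g hg => by
    refine um (H ⊓ N[C.map H.subtype]) (le_inf h.syl.le (le_normalizer.trans h3)) inf_le_left (fun e => ?_)
      ⟨g.2, (Blk.map_mem_norm H.subtype_injective).2 hg⟩
    exact h.nT (h3.trans (h.uq _ ((pT.to_le h1).map _)
      (fun z => h2 ((map_eq_bot_iff_of_injective _ H.subtype_injective).1 z)) (e.trans inf_le_right)))
  intro e
  refine hB (subgroupOf_eq_top.1 (top_le_iff.1 (e.ge.trans (sup_le ?_ (iSup_le fun C => ?_)))))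
  · refine (le_normalizer_of_le_centralizer le_rfl).trans (key _ ((omegaOne_le _ _).trans inf_le_left)
      (omegaOneCenter_ne_bot pT fun z => h.T_ne (by rw [← m, z, Subgroup.map_bot])) ?_)
    rw [map_omegaOneCenter_subtype, m]
    exact normalizer_le_normalizer_omegaOneCenter 2 T
  · obtain ⟨C, h1, h2, h3⟩ := C
    refine key C (h1.trans inf_le_left) h2 (le_trans ?_ (char_map H.subtype_injective h1 h3))
    rw [Blk.baumann_eq, Blk.map_Bm H.subtype_injective, m]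
    exact Blk.normalizer_le_normalizer_Bm 2 T

theorem blk : Blk.Blk 2 T K := by
  have m : (T.subgroupOf H).map H.subtype = T := subgroupOf_map_subtype_of_le h.syl.le
  have hG : C[pCore 2 H] ≤ pCore 2 H := fun g hg => by
    have := h.cQ ⟨(Blk.map_mem_cent H.subtype_injective).2 hg, g.2⟩
    rwa [← pCoreOf_subgroupOf]
  have sy := h.syl.subgroupOf (le_refl H)
  rw [subgroupOf_self] at sy
  have e := (Blk.cStar_main hG sy).2.2.2.1
  obtain ⟨E, hE, -⟩ : (Blk.Bs 2 (T.subgroupOf H) (cStarOf 2 (T.subgroupOf H)) ⊤).Nonempty := by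
    rw [Set.nonempty_iff_ne_empty]
    intro z
    rw [z, sSup_empty, sup_bot_eq] at e
    exact h.cstar xp s k e
  have b := (Blk.blk_map_iff H.subtype_injective).2 hE.blk
  have sb := hE.sub.map H.subtype
  rw [m] at b
  rw [← MonoidHom.range_eq_map, range_subtype] at sb
  set E' := E.map H.subtype
  have EK : E' ≤ K := by rw [← b.res, h.K_eq]; exact pResidualOf_mono sb.le
  have sK := sb.of_le EK h.KH
  have simple : ∀ L : Subgroup X, SubnormalIn ⊤ L → L = ⊥ ∨ L = ⊤ := fun L hL => by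
    induction hL with
    | refl => exact Or.inr rfl
    | step h1 h2 _ ih =>
      rcases ih with rfl | rfl
      exacts [Or.inl (le_bot_iff.1 h1), xp.simple _ (normal_iff_top_le.2 h2)]
  have s2 := (sK.comap K.subtype).map π
  have r : π.range = ⊤ := MonoidHom.range_eq_top.2 s
  rw [comap_subtype, subgroupOf_self, ← MonoidHom.range_eq_map, r] at s2
  rcases simple (pim π E') s2 with z | z
  · exact (b.not_pgroup ((pCoreOf_isPGroup 2 K).to_le (k ▸ (pim_eq_bot_iff EK).1 z))).elim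
  · have e2 := ppre_pim (f := π) EK
    have e3 := pResidualOf_sup_pCoreOf (p := 2) sK
    have : ppre π ⊤ = K := le_antisymm (ppre_le _ _) fun x hx => (mem_ppre_iff hx).2 (mem_top _)
    rw [z, this, k] at e2
    rw [← e2, h.res, b.res] at e3
    rwa [e3]

theorem st : ∃ x, St K (pCoreOf 2 K) T x := by
  have b := h.blk xp s k
  have e0 : pCoreOf 2 K = Blk.W0 2 K := by
    rcases b.cases with ⟨F, _, _, _, -, e | e⟩ | ⟨-, m, -, -, e⟩
    exacts [e, absurd e.three (by decide), e]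
  have e1 := b.core_eq e0
  have nW := normalizer_le_normalizer_pCoreOf 2 K
  have QC := b.cent_of_pgroup (pCoreOf_isPGroup 2 H) h.QN (h.KH.trans (le_normalizer_pCoreOf 2 H))
  have fa := b.faith'
  rw [← e1] at QC fa
  have eQ : T ⊓ C[pCoreOf 2 K] = pCoreOf 2 H := by
    refine h.mx _ h.syl.isPGroup.to_inf_left (le_inf h.syl.pCoreOf_le QC) (inf_le_left.trans h.TK)
      (le_trans (le_inf (commutator_le_right_of_le_normalizer (inf_le_left.trans h.TK)) ?_) fa)
    exact (commutator_mono inf_le_right le_rfl).trans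
      (commutator_le_left_of_le_normalizer (le_normalizer_centralizer (le_normalizer.trans nW)))
  have WT := h.WQ.trans h.syl.pCoreOf_le
  obtain ⟨x, hx, nc⟩ : ∃ x ∈ N[T], ¬ pCoreOf 2 K ^ᶜ x ≤ C[pCoreOf 2 K] := by
    by_contra! c
    have V : nclIn (pCoreOf 2 K) N[T] ≤ pCoreOf 2 H :=
      eQ ▸ nclIn_le_iff.2 fun x hx => le_inf (conj_le_of_mem_normalizer WT hx) (c x hx)
    have n := le_normalizer_nclIn (pCoreOf 2 K) N[T]
    refine h.nT (n.trans (h.uq _ ((pCoreOf_isPGroup 2 H).to_le V)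
      (fun z => b.WE_ne_bot (e1 ▸ le_bot_iff.1 (z ▸ le_nclIn _ _))) (h.sup.ge.trans (sup_le ?_ (le_normalizer.trans n)))))
    exact le_normalizer_of_commutator_le ((commutator_mono V le_rfl).trans (h.QK.trans (le_nclIn _ _)))
  refine ⟨x, h.loc, h.TK, h.sup.symm ▸ h.syl, rfl, fun w hw => ?_, b.cq, fun L hL => b.le_of_coprime fun y hy o =>
    hL y hy (Nat.coprime_two_right.1 o), eQ ▸ h.QK, eQ ▸ h.mx, h.sup.symm ▸ h.uq, hx, nc⟩
  rw [← sq]
  exact (e0 ▸ Blk.W0_elem 2 K : IsElementaryAbelian 2 (pCoreOf 2 K)).2 w hw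

end Su

end Cfsg.Agent.Lib.AP0
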