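import Cfsg.Agent.Lib.BlkFin

/-! The setting of the local `C*(G,T)`-theorem: blocks subnormal in overgroups of a Sylow subgroup. -/

set_option autoImplicit false
open Cfsg

namespace Cfsg.Agent.Lib.Blk

open Subgroup Cfsg.Agent.Lib.PCoreConj Cfsg.Agent.Lib.PCore Cfsg.Agent.Lib.PCoreResidual Cfsg.Agent.Lib.PCoreMod
open Cfsg.Agent.Lib.ThompsonJ Cfsg.Agent.Lib.PushBase Cfsg.Agent.Lib.PIrred
open scoped Pointwise commutatorElement MatrixGroups

universe u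
variable {G : Type u} [Group G] {p : ℕ} {T E F H K U X Y S P M₀ M₁ : Subgroup G} {g x y : G}

theorem nb (X : Subgroup G) : X ≤ N((⊥ : Subgroup G)) :=
  le_normalizer_of_le_centralizer (le_top.trans centralizer_bot'.ge)

theorem comm_bot_of_cent (h : X ≤ C(Y)) : ⁅X, Y⁆ = ⊥ := commutator_eq_bot_iff_le_centralizer.2 h

theorem comm_bot_of_cent' (h : Y ≤ C(X)) : ⁅X, Y⁆ = ⊥ := commutator_eq_bot_iff_le_centralizer'.2 h

/-- Three subgroups lemma for centralizers. -/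
theorem three_cent {A B D : Subgroup G} (h₁ : ⁅B, D⁆ ≤ C(A)) (h₂ : ⁅D, A⁆ ≤ C(B)) : ⁅A, B⁆ ≤ C(D) :=
  cent_of_comm_bot' (le_bot_iff.1 (three_subgroups (nb _) (nb _) (nb _) (comm_bot_of_cent h₁).le (comm_bot_of_cent h₂).le))

theorem exists_fixed_mod [Fact p.Prime] [Finite G] (hP : IsPGroup p P) (hU : P ≤ N(U)) :
    ∀ X : Subgroup G, IsPGroup p X → P ≤ N(X) → ¬ X ≤ U → ∃ x ∈ X, x ∉ U ∧ ∀ g ∈ P, ⁅x, g⁆ ∈ U := fun X => by
  induction X using WellFoundedLT.induction with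
  | ind X ih =>
    intro hX hn hl
    by_cases h : ⁅X, P⁆ ≤ U
    · obtain ⟨x, hx, hx'⟩ := SetLike.not_le_iff_exists.1 hl
      exact ⟨x, hx, hx', fun g hg => h (commutator_mem_commutator hx hg)⟩
    · have lt := commutator_lt hP hX hn fun e => hl (e.le.trans bot_le)
      obtain ⟨x, hx, k⟩ := ih _ lt (hX.to_le lt.le) (le_normalizer_commutator hn le_normalizer) h
      exact ⟨x, lt.le hx, k⟩

section Tw

/-- The embedding given by an automorphism of a subgroup. -/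
def τa (φ : S ≃* S) : S →* G := S.subtype.comp φ.toMonoidHom

theorem τa_inj (φ : S ≃* S) : Function.Injective (τa φ) := S.subtype_injective.comp φ.injective

/-- The image of a subgroup under an automorphism of an overgroup. -/
def tw (φ : S ≃* S) (X : Subgroup G) : Subgroup G := (X.subgroupOf S).map (τa φ)

variable (φ : S ≃* S)

theorem mem_tw : y ∈ tw φ X ↔ ∃ x : S, (x : G) ∈ X ∧ (φ x : G) = y := Iff.rfl

theorem mem_tw' {x : S} : (φ x : G) ∈ tw φ X ↔ (x : G) ∈ X :=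
  mem_map_iff_mem (K := X.subgroupOf S) (τa_inj φ)

theorem tw_le (X : Subgroup G) : tw φ X ≤ S := by rintro _ ⟨x, -, rfl⟩; exact (φ x).2

theorem tw_self : tw φ S = S := le_antisymm (tw_le φ S) fun x hx =>
  ⟨φ.symm ⟨x, hx⟩, (φ.symm _).2, congrArg Subtype.val (φ.apply_symm_apply _)⟩

theorem tw_mono (h : X ≤ Y) : tw φ X ≤ tw φ Y := map_mono (comap_mono h)

theorem tw_tw_symm (h : X ≤ S) : tw φ (tw φ.symm X) = X := le_antisymm
  (by rintro _ ⟨x, ⟨y, hy, e⟩, rfl⟩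
      rw [← show φ.symm y = x from Subtype.ext e]
      show (φ (φ.symm y) : G) ∈ X
      rwa [φ.apply_symm_apply])
  fun x hx => ⟨φ.symm ⟨x, h hx⟩, ⟨⟨x, h hx⟩, hx, rfl⟩, congrArg Subtype.val (φ.apply_symm_apply _)⟩

theorem tw_symm_tw (h : X ≤ S) : tw φ.symm (tw φ X) = X := tw_tw_symm φ.symm h

theorem tw_le_tw (h : X ≤ S) : tw φ X ≤ tw φ Y ↔ X ≤ Y :=
  ⟨fun k x hx => (mem_tw' φ (x := ⟨x, h hx⟩)).1 (k ((mem_tw' φ).2 hx)), tw_mono φ⟩

theorem tw_refl (h : X ≤ S) : tw (MulEquiv.refl S) X = X := map_subgroupOf_eq_of_le h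

theorem tw_bot : tw φ ⊥ = ⊥ := by rw [tw, bot_subgroupOf, Subgroup.map_bot]

theorem tw_comm (hX : X ≤ S) (hY : Y ≤ S) : tw φ ⁅X, Y⁆ = ⁅tw φ X, tw φ Y⁆ := by
  rw [tw, tw, tw, ← map_commutator]
  refine congrArg _ (map_injective S.subtype_injective ?_)
  rw [map_commutator, map_subgroupOf_eq_of_le hX, map_subgroupOf_eq_of_le hY,
    map_subgroupOf_eq_of_le ((commutator_mono hX hY).trans (commutator_le_self S))]

theorem card_tw (h : X ≤ S) : Nat.card (tw φ X) = Nat.card X :=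
  (card_map_of_injective (τa_inj φ)).trans (Nat.card_congr (subgroupOfEquivOfLe h).toEquiv)

theorem tw_inf (X Y : Subgroup G) : tw φ (X ⊓ Y) = tw φ X ⊓ tw φ Y :=
  Subgroup.map_inf (X.subgroupOf S) (Y.subgroupOf S) _ (τa_inj φ)

theorem tw_cent (hX : X ≤ S) (Y : Subgroup G) : tw φ (Y ⊓ C(X)) = tw φ Y ⊓ C(tw φ X) := by
  rw [tw, tw, tw, ← map_centralizer_inf (τa_inj φ), centralizer_subgroupOf hX]
  rfl

theorem tw_le_cent (hX : X ≤ S) (hY : Y ≤ S) : tw φ Y ≤ C(tw φ X) ↔ Y ≤ C(X) := by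
  rw [← inf_eq_left, ← tw_cent φ hX]
  exact ⟨fun e => ((tw_le_tw φ hY).1 e.ge).trans inf_le_right, fun e => by rw [inf_eq_left.2 e]⟩

theorem tw_elem (h : IsElementaryAbelian p X) : IsElementaryAbelian p (tw φ X) :=
  isElementaryAbelian_map (isElementaryAbelian_subgroupOf h S) _

theorem tw_norm (h : S ≤ N(X)) : S ≤ N(tw φ X) := by
  have := le_normalizer_map (τa φ) (le_normalizer_subgroupOf h S)
  rwa [← tw, tw_self] at this

theorem tw_J (p : ℕ) : tw φ (J p S) = J p S := by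
  rw [tw, ← J_subgroupOf le_rfl, map_J (inf_ker_of_injective (τa_inj φ) _), ← tw, tw_self]

theorem tw_ZJ (p : ℕ) : tw φ (ZJ p S) = ZJ p S := by
  rw [tw, ← ZJ_subgroupOf le_rfl, map_ZJ (inf_ker_of_injective (τa_inj φ) _), ← tw, tw_self]

theorem tw_Bm (p : ℕ) : tw φ (Bm p S) = Bm p S := by
  rw [tw, ← Bm_subgroupOf le_rfl, map_Bm (τa_inj φ), ← tw, tw_self]

theorem tw_maxAb {A : Subgroup G} (h : MaxAb p S A) : MaxAb p S (tw φ A) := by
  have k : MaxAb p (S.subgroupOf S) (A.subgroupOf S) := MaxAb.of_map (inf_ker_of_injective S.subtype_injective _)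
    (comap_mono h.le) (by rwa [map_subgroupOf_eq_of_le le_rfl, map_subgroupOf_eq_of_le h.le])
  have := k.map (inf_ker_of_injective (τa_inj φ) _)
  rwa [← tw, ← tw, tw_self] at this

/-- The characteristic closure. -/
def chcl (S X : Subgroup G) : Subgroup G := ⨆ φ : S ≃* S, tw φ X

theorem tw_le_chcl (X : Subgroup G) : tw φ X ≤ chcl S X := le_iSup (fun φ : S ≃* S => tw φ X) φ

theorem le_chcl (h : X ≤ S) : X ≤ chcl S X := (tw_refl h).ge.trans (tw_le_chcl _ X)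

theorem chcl_le (S X : Subgroup G) : chcl S X ≤ S := iSup_le fun φ => tw_le φ X

theorem chcl_eq (S X : Subgroup G) :
    chcl S X = (⨆ φ : S ≃* S, (X.subgroupOf S).map φ.toMonoidHom).map S.subtype := by
  rw [Subgroup.map_iSup]
  exact iSup_congr fun φ => (map_map _ _ _).symm

theorem chcl_char (S X : Subgroup G) : ((chcl S X).subgroupOf S).Characteristic := by
  rw [chcl_eq, map_subtype_subgroupOf]
  exact char_iSup _

end Tw

/-- The hypothesis of the local theorem: `M₀` contains `C*(G,T)`. -/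
structure CM (p : ℕ) (T M₀ : Subgroup G) : Prop where
  hG : C(pCore p G) ≤ pCore p G
  syl : IsSylowIn p T ⊤
  hd : ∀ A : Subgroup (Bm p T), A ≠ ⊥ → A.Characteristic → N(A.map (Bm p T).subtype) ≤ M₀
  hz : C(omegaOneCenter p T) ≤ M₀

/-- The key statement: a proper overgroup of `C*(G,T)` does not contain all subnormal blocks. -/
def AA (p : ℕ) (G : Type u) [Group G] : Prop := ∀ T M₀ : Subgroup G, CM p T M₀ → M₀ ≠ ⊤ → ∃ E, SB p E ∧ ¬ E ≤ M₀

/-- A block which is subnormal in `H`. -/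
structure SBr (p : ℕ) (T H E : Subgroup G) : Prop where
  blk : Blk p T E
  sub : SubnormalIn H E

/-- The key statement for an overgroup `H` of `T`. -/
def Ind (p : ℕ) (T M₀ H : Subgroup G) : Prop := ∀ K, T ≤ K → K ≤ H → ¬ K ≤ M₀ → ∃ E, SBr p T K E ∧ ¬ E ≤ M₀

theorem Ind.mono (h : Ind p T M₀ H) (hK : K ≤ H) : Ind p T M₀ K := fun L h₁ h₂ => h L h₁ (h₂.trans hK)

theorem blk_sub_iff (hT : T ≤ H) (hE : E ≤ H) : Blk p (T.subgroupOf H) (E.subgroupOf H) ↔ Blk p T E := by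
  rw [← blk_map_iff H.subtype_injective, map_subgroupOf_eq_of_le hT, map_subgroupOf_eq_of_le hE]

theorem syl_sub (hT : IsSylowIn p T ⊤) (h : T ≤ H) : IsSylowIn p (T.subgroupOf H) ⊤ :=
  subgroupOf_self H ▸ (hT.of_le h le_top).subgroupOf le_rfl

theorem Q_le_core (hT : IsSylowIn p T ⊤) (h : T ≤ H) : pCore p G ≤ pCoreOf p H :=
  (le_inf le_rfl (hT.pCore_le.trans h)).trans (pCore_inf_le H)

theorem char_sub (hG : C(pCore p G) ≤ pCore p G) (hT : IsSylowIn p T ⊤) (h : T ≤ H) : C(pCore p H) ≤ pCore p H :=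
  charP_iff.2 (inf_le_right.trans ((centralizer_anti (Q_le_core hT h)).trans (hG.trans (Q_le_core hT h))))

theorem SBr.le (h : SBr p T H E) : E ≤ H := h.sub.le

theorem SBr.sb (h : SBr p T H E) (hT : IsSylowIn p T ⊤) (l : T ≤ H) : SB p (E.subgroupOf H) :=
  ⟨⟨_, syl_sub hT l, (blk_sub_iff l h.le).2 h.blk⟩, subnormalIn_top_iff.2 (subnormalIn_iff.1 h.sub).2⟩

theorem SBr.U_le (h : SBr p T H E) : pCoreOf p E ≤ pCoreOf p H := pCoreOf_le_of_subnormalIn h.sub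

theorem SBr.top (h : SBr p T ⊤ E) (hT : IsSylowIn p T ⊤) : SB p E := ⟨⟨T, hT, h.blk⟩, h.sub⟩

theorem SBr.of_le (h : SBr p T H E) (h₁ : E ≤ K) (h₂ : K ≤ H) : SBr p T K E := ⟨h.blk, h.sub.of_le h₁ h₂⟩

variable [hp : Fact p.Prime] [Finite G]

theorem SBr.up (h : SBr p T (K ⊔ T) E) (hT : IsPGroup p T) (hn : T ≤ N(K)) (hK : SubnormalIn H K) : SBr p T H E :=
  have l : E ≤ K := h.blk.res.ge.trans ((pResidualOf_mono h.le).trans (pResidualOf_sup_le hT hn))
  ⟨h.blk, (h.sub.of_le l le_sup_left).trans hK⟩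

namespace CM
variable (h : CM p T M₀)
include h

omit hp [Finite G] in
theorem Z_le : omegaOneCenter p T ≤ VG p G :=
  have k := (omegaOneCenter_le_centralizer p T).trans (centralizer_anti h.syl.pCore_le)
  le_omegaOneCenter (isElementaryAbelian_omegaOneCenter p _) (k.trans h.hG) k

omit hp [Finite G] in
theorem Q_le : pCore p G ≤ T := h.syl.pCore_le

omit hp [Finite G] in
theorem V_le : VG p G ≤ T := (omegaOneCenter_le p _).trans h.Q_le

omit hp [Finite G] in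
theorem pT : IsPGroup p T := h.syl.isPGroup

omit hp [Finite G] in
theorem CV_le : C(VG p G) ≤ M₀ := (centralizer_anti h.Z_le).trans h.hz

omit hp [Finite G] in
theorem T_le : T ≤ M₀ := (le_centralizer_omegaOneCenter p T).trans h.hz

omit hp [Finite G] in
theorem Q_le_M : pCore p G ≤ M₀ := h.Q_le.trans h.T_le

omit hp [Finite G] in
theorem mono (l : M₀ ≤ M₁) : CM p T M₁ := ⟨h.hG, h.syl, fun A a b => (h.hd A a b).trans l, h.hz.trans l⟩

omit hp [Finite G] in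
theorem hd' (h₁ : X ≤ Bm p T) (h₂ : X ≠ ⊥) (h₃ : (X.subgroupOf (Bm p T)).Characteristic) : (N(X) : Subgroup G) ≤ M₀ :=
  map_subgroupOf_eq_of_le h₁ ▸ h.hd _ (fun e => h₂ (by rw [← map_subgroupOf_eq_of_le h₁, e, Subgroup.map_bot])) h₃

omit hp [Finite G] in
theorem norm_chcl (h₁ : X ≤ Bm p T) (h₂ : X ≠ ⊥) : (N(chcl (Bm p T) X) : Subgroup G) ≤ M₀ :=
  h.hd' (chcl_le _ _) (fun e => h₂ (le_bot_iff.1 ((le_chcl h₁).trans e.le))) (chcl_char _ _)

omit hp [Finite G] in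
theorem norm_of_tw (h₁ : X ≤ Bm p T) (h₂ : X ≠ ⊥) (h₃ : ∀ φ : Bm p T ≃* Bm p T, tw φ X ≤ X) :
    (N(X) : Subgroup G) ≤ M₀ :=
  le_antisymm (iSup_le h₃) (le_chcl h₁) ▸ h.norm_chcl h₁ h₂

omit hp [Finite G] in
theorem le_of_bot (e : T = ⊥) (X : Subgroup G) : X ≤ M₀ :=
  le_top.trans (centralizer_bot'.ge.trans ((centralizer_anti ((omegaOneCenter_le p T).trans e.le)).trans h.hz))

theorem NZJ_le : (N(ZJ p T) : Subgroup G) ≤ M₀ := (eq_or_ne T ⊥).elim (fun e => h.le_of_bot e _) fun e =>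
  h.norm_of_tw ((ZJ_le_J p T).trans (J_le_Bm p T)) (ZJ_ne_bot h.pT e dvd_rfl) fun φ => by
    have := tw_ZJ φ p
    rw [ZJ_Bm] at this
    exact this.le

theorem NJ_le : (N(J p T) : Subgroup G) ≤ M₀ := (normalizer_J_le_normalizer_ZJ p T).trans h.NZJ_le

theorem NT_le : (N(T) : Subgroup G) ≤ M₀ := (normalizer_le_normalizer_J p T).trans h.NJ_le

theorem NB_le : (N(Bm p T) : Subgroup G) ≤ M₀ := (J_Bm p T ▸ normalizer_le_normalizer_J p _ :).trans h.NJ_le

omit hp in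
theorem cStar_le : cStarOf p T ≤ M₀ := by
  rw [cStarOf, baumann_eq]
  exact sup_le h.hz (iSup_le fun C => h.hd' C.2.1 C.2.2.1 C.2.2.2)

omit hp [Finite G] in
theorem sub (l : T ≤ H) : CM p (T.subgroupOf H) (M₀.subgroupOf H) := by
  refine ⟨char_sub h.hG h.syl l, syl_sub h.syl l, fun A h₁ h₂ => ?_, ?_⟩
  · have e : (Bm p (T.subgroupOf H)).map H.subtype = Bm p T := by
      rw [map_Bm H.subtype_injective, map_subgroupOf_eq_of_le l]
    let ψ : Bm p (T.subgroupOf H) ≃* Bm p T :=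
      (equivMapOfInjective _ _ H.subtype_injective).trans (MulEquiv.subgroupCongr e)
    have c : (A.map ψ.toMonoidHom).Characteristic := characteristic_iff_map_le.2 fun φ => by
      rintro _ ⟨_, ⟨a, ha, rfl⟩, rfl⟩
      exact ⟨_, characteristic_iff_map_le.1 h₂ (ψ.trans (φ.trans ψ.symm)) ⟨a, ha, rfl⟩, by simp⟩
    have := h.hd _ (fun k => h₁ ((Subgroup.map_eq_bot_iff_of_injective _ ψ.injective).1 k)) c
    rw [normalizer_eq_subgroupOf, map_map]
    rw [map_map] at this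
    exact comap_mono this
  · rw [centralizer_eq_subgroupOf, map_omegaOneCenter_subtype, map_subgroupOf_eq_of_le l]
    exact comap_mono h.hz

section SBr
variable (l : T ≤ H)
include l

theorem of_sb {E : Subgroup H} (s : SB p E) : SBr p T H (E.map H.subtype) :=
  ⟨(blk_sub_iff l (map_subtype_le E)).1 (by
    rw [map_subtype_subgroupOf]; exact s.blk (char_sub h.hG h.syl l) (syl_sub h.syl l)),
    subnormalIn_map_subtype (subnormalIn_top_iff.1 s.sub)⟩

theorem exists_sbr (a : AA p H) (k : ¬ H ≤ M₀) : ∃ E, SBr p T H E ∧ ¬ E ≤ M₀ := by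
  obtain ⟨E, s, hE⟩ := a _ _ (h.sub l) fun e => k (subgroupOf_eq_top.1 e)
  exact ⟨_, h.of_sb l s, fun e => hE (map_le_iff_le_comap.1 e)⟩

omit h l hp [Finite G] in
theorem comm_of_sub (hE : E ≤ H) (hF : F ≤ H) (e : ⁅E.subgroupOf H, F.subgroupOf H⁆ = ⊥) : ⁅E, F⁆ = ⊥ := by
  rw [← map_subgroupOf_eq_of_le hE, ← map_subgroupOf_eq_of_le hF, ← map_commutator, e, Subgroup.map_bot]

theorem eq_or_comm (s : SBr p T H E) (s' : SBr p T H F) : E = F ∨ ⁅E, F⁆ = ⊥ :=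
  (SB.eq_or_comm (char_sub h.hG h.syl l) (s.sb h.syl l) (s'.sb h.syl l)).imp (fun e => by
    rw [← map_subgroupOf_eq_of_le s.le, e, map_subgroupOf_eq_of_le s'.le]) (comm_of_sub s.le s'.le)

theorem conj (s : SBr p T H E) (hg : g ∈ H) : SBr p T H (E ^ᶜ g) := by
  have := h.of_sb l ((s.sb h.syl l).conj ⟨g, hg⟩)
  rwa [conj_subgroupOf, map_subgroupOf_eq_of_le (conj_le_of_mem s.le hg)] at this

theorem le_or_comm (s : SBr p T H E) (b : Blk p T F) (hF : F ≤ H) : F ≤ E ∨ ⁅F, E⁆ = ⊥ :=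
  ((s.sb h.syl l).le_or_comm (char_sub h.hG h.syl l) (syl_sub h.syl l) ((blk_sub_iff l hF).2 b)).imp
    (fun e x hx => e (x := ⟨x, hF hx⟩) hx) (comm_of_sub hF s.le)

theorem conj_not_le (s : SBr p T H E) (k : ¬ E ≤ M₀) (hg : g ∈ H) : ¬ E ^ᶜ g ≤ M₀ := fun e => by
  obtain ⟨b, hb, n, hn, e'⟩ := exists_BG_mul (syl_sub h.syl l) ⟨g, hg⟩
  have h₁ := conj_eq_of_mem_normalizer (((s.sb h.syl l).conj n).BG_norm (char_sub h.hG h.syl l) hb)
  rw [conj_conj, ← e', conj_subgroupOf, conj_subgroupOf] at h₁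
  have h₂ : E ^ᶜ (n : G) ≤ M₀ := fun x hx => e (h₁.ge (x := ⟨x, conj_le_of_mem s.le n.2 hx⟩) hx)
  rw [conj_le_iff_le_conj_inv, conj_eq_of_mem (inv_mem (show (n : G) ∈ M₀ from (h.sub l).NB_le hn))] at h₂
  exact k h₂

theorem core_norm (s : SBr p T H E) : pCoreOf p H ≤ N(E) :=
  s.blk.norm_of_inv h.syl (pCoreOf_isPGroup p H) (((Bm_le p T).trans l).trans (le_normalizer_pCoreOf p H))
    (s.le.trans (le_normalizer_pCoreOf p H))

theorem core_cent (s : SBr p T H E) : pCoreOf p H ≤ C(WE p E) :=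
  s.blk.cent_of_pgroup (pCoreOf_isPGroup p H) (h.core_norm l s) (s.le.trans (le_normalizer_pCoreOf p H))

theorem U_le_T (s : SBr p T H E) : pCoreOf p E ≤ T := s.U_le.trans (h.syl.of_le l le_top).pCoreOf_le

end SBr

end CM

/-- The subnormal blocks of `H` outside `M₀`. -/
def Bs (p : ℕ) (T M₀ H : Subgroup G) : Set (Subgroup G) := {E | SBr p T H E ∧ ¬ E ≤ M₀}

namespace CM
variable (h : CM p T M₀) (l : T ≤ H)
include h l

theorem conj_bs (s : E ∈ Bs p T M₀ H) (hg : g ∈ H) : E ^ᶜ g ∈ Bs p T M₀ H := ⟨h.conj l s.1 hg, h.conj_not_le l s.1 s.2 hg⟩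

theorem norm_bs : H ≤ N((sSup (Bs p T M₀ H) : Subgroup G)) := TIOffCls.le_normalizer_sSup fun _ hg _ s => h.conj_bs l s hg

omit h l hp [Finite G] in
theorem bs_le : sSup (Bs p T M₀ H) ≤ H := sSup_le fun _ s => s.1.le

theorem bs_norm (s : SBr p T H E) : sSup (Bs p T M₀ H) ≤ N(E) := sSup_le fun _ s' =>
  (h.eq_or_comm l s'.1 s).elim (fun e => e ▸ le_normalizer) fun e => le_normalizer_of_le_centralizer (cent_of_comm_bot' e)

theorem exists_bs (i : Ind p T M₀ H) (b : Blk p T F) (hF : F ≤ H) (k : ¬ F ≤ M₀) : ∃ E ∈ Bs p T M₀ H, F ≤ E := by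
  by_contra hn
  have n₀ := h.norm_bs l
  have ls : ∀ E ∈ Bs p T M₀ H, E ≤ sSup (Bs p T M₀ H) := fun E s => le_sSup s
  have c₀ : ∀ E ∈ Bs p T M₀ H, E ≤ C(F) := fun E s =>
    cent_of_comm_bot ((h.le_or_comm l s.1 b hF).resolve_left fun e => hn ⟨E, s, e⟩)
  have c : F ≤ C((sSup (Bs p T M₀ H) : Subgroup G)) := le_centralizer_iff.1 (sSup_le c₀)
  generalize sSup (Bs p T M₀ H) = K at n₀ ls c
  have n : H ≤ N(H ⊓ C(K)) := le_normalizer_inf le_normalizer (le_normalizer_centralizer n₀)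
  have k' : ¬ (H ⊓ C(K) : Subgroup G) ⊔ T ≤ M₀ := fun e => k ((le_inf hF c).trans (le_sup_left.trans e))
  obtain ⟨E, s, hE⟩ := i _ le_sup_right (sup_le inf_le_left l) k'
  have l' : E ≤ H ⊓ C(K) := s.blk.res.ge.trans ((pResidualOf_mono s.le).trans (pResidualOf_sup_le h.pT (l.trans n)))
  have s' : SBr p T H E := s.up h.pT (l.trans n) (SubnormalIn.of_normal inf_le_left n)
  have l₂ : WE p E ≤ K := (WE_le_E p E).trans (ls E ⟨s', hE⟩)
  have l₃ : E ≤ C(K) := l'.trans inf_le_right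
  exact s.blk.not_cent (l₃.trans (centralizer_anti l₂))

omit l in
theorem ind_of (a : ∀ K : Subgroup G, K ≤ H → AA p K) : Ind p T M₀ H := fun K h₁ h₂ h₃ => h.exists_sbr h₁ (a K h₂) h₃

end CM

omit hp in
theorem cm_cStar (hG : C(pCore p G) ≤ pCore p G) (hT : IsSylowIn p T ⊤) : CM p T (cStarOf p T) :=
  ⟨hG, hT, fun A h₁ h₂ => by
    rw [cStarOf, baumann_eq]
    exact le_sup_of_le_right (le_iSup (fun C : {C : Subgroup G // C ≤ Bm p T ∧ C ≠ ⊥ ∧
      (C.subgroupOf (Bm p T)).Characteristic} => normalizer ((C : Subgroup G) : Set G)) ⟨_, map_subtype_le A,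
        fun e => h₁ ((Subgroup.map_eq_bot_iff_of_injective _ (Bm p T).subtype_injective).1 e),
          by rwa [map_subtype_subgroupOf]⟩), le_sup_left⟩

end Cfsg.Agent.Lib.Blk
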