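import Cfsg.Agent.Lib.Large
import Cfsg.Agent.Lib.SzBasic
import Cfsg.Agent.Lib.LinearOrders

/-! Groups `L` with an elementary abelian `p`-subgroup `Y` as in the class `𝔏_G(Y_M)`. -/

set_option autoImplicit false
open Cfsg

namespace Cfsg.Agent.Lib.FrakL

open Subgroup Cfsg.Agent.Lib.PCoreConj Cfsg.Agent.Lib.PCore Cfsg.Agent.Lib.PCoreResidual Cfsg.Agent.Lib.PCoreMod
open Cfsg.Agent.Lib.PReduced Cfsg.Agent.Lib.PIrred Cfsg.Agent.Lib.Large
open scoped Pointwise commutatorElement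

variable {G : Type*} [Group G] {p : ℕ}

structure Hyp (p : ℕ) (Y : Subgroup G) : Prop where
  ea : IsElementaryAbelian p Y
  norm : pCore p G ≤ normalizer (Y : Set G)
  ncl : nclIn (Y ⊓ pCore p G) ⊤ = pCore p G
  min : MinOver Y (normalizer (Y : Set G)) ⊤
  charP : centralizer (pCore p G : Set G) ≤ pCore p G

variable {Y : Subgroup G}

theorem Hyp.conj (h : Hyp p Y) (g : G) : Hyp p (Y ^ᶜ g) where
  ea := isElementaryAbelian_map h.ea _
  norm := by
    have := le_normalizer_conj h.norm g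
    rwa [conj_eq_of_normal] at this
  ncl := by
    have := nclIn_conj_of_mem (Y ⊓ pCore p G) (mem_top g)
    rw [conj_inf, conj_eq_of_normal (pCore p G)] at this
    rw [this, h.ncl]
  min := by
    have := h.min.conj g
    rwa [conj_normalizer, conj_top] at this
  charP := h.charP

theorem Hyp.comm (h : Hyp p Y) {a b : G} (ha : a ∈ Y) (hb : b ∈ Y) : a * b = b * a :=
  le_centralizer_of_isElementaryAbelian h.ea hb a ha

theorem conj_inf_center (Y : Subgroup G) (g : G) : (Y ^ᶜ g) ⊓ center G = Y ⊓ center G := by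
  ext x
  simp only [mem_inf, mem_conj_iff]
  refine and_congr_left fun hx => ?_
  rw [mul_assoc, ← mem_center_iff.1 hx g, inv_mul_cancel_left]

instance inf_center_normal (Y : Subgroup G) : (Y ⊓ center G).Normal :=
  ⟨fun x hx g => by
    rwa [mem_center_iff.1 (mem_inf.1 hx).2 g, mul_inv_cancel_right]⟩

theorem Hyp.commutator_mem (h : Hyp p Y) {a y : G} (ha : a ∈ pCore p G) (hy : y ∈ Y) :
    ⁅a, y⁆ ∈ Y ⊓ pCore p G :=
  mem_inf.2 ⟨commutator_le_right_of_le_normalizer h.norm (commutator_mem_commutator ha hy),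
    commutator_le_left (pCore p G) Y (commutator_mem_commutator ha hy)⟩

theorem Hyp.mem_center_of (h : Hyp p Y) {d : G} (hd : d ∈ Y) (hc : ∀ g, ⁅d, g⁆ ∈ center G) :
    d ∈ center G := by
  have : nclIn Y ⊤ ≤ centralizer ({d} : Set G) := by
    refine nclIn_le_iff.2 fun g _ => conj_le_iff.2 fun y hy => mem_centralizer_singleton_iff.2 ?_
    have e₁ := mem_center_iff.1 (hc g⁻¹)
    have e₂ : g⁻¹ * d * g = ⁅d, g⁻¹⁆⁻¹ * d := by simp only [commutatorElement_def]; group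
    have e₃ : y * (g⁻¹ * d * g) = (g⁻¹ * d * g) * y := by
      rw [e₂, ← mul_assoc, mem_center_iff.1 (inv_mem (hc g⁻¹)) y, mul_assoc, h.comm hy hd,
        mul_assoc]
    calc g * y * g⁻¹ * d = g * (y * (g⁻¹ * d * g)) * g⁻¹ := by group
      _ = d * (g * y * g⁻¹) := by rw [e₃]; group
  rw [h.min.ncl] at this
  exact mem_center_iff.2 fun g => mem_centralizer_singleton_iff.1 (this (mem_top g))

/-- The elements commuting with `a` modulo `C`. -/
def fixer (C : Subgroup G) [C.Normal] (a : G) : Subgroup G :=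
  (centralizer ({(a : G ⧸ C)} : Set (G ⧸ C))).comap (QuotientGroup.mk' C)

theorem mem_fixer {C : Subgroup G} [C.Normal] {a x : G} : x ∈ fixer C a ↔ ⁅a, x⁆ ∈ C := by
  rw [fixer, mem_comap, mem_centralizer_singleton_iff, ← QuotientGroup.eq_one_iff,
    ← QuotientGroup.mk'_apply C ⁅a, x⁆, map_commutatorElement, commutatorElement_eq_one_iff_mul_comm]
  exact eq_comm

theorem mem_fixer_comm {C : Subgroup G} [C.Normal] {a x : G} : x ∈ fixer C a ↔ a ∈ fixer C x := by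
  rw [mem_fixer, mem_fixer, ← commutatorElement_inv, inv_mem_iff]

theorem mem_fixer_of_comm {C : Subgroup G} [C.Normal] {a x : G} (h : a * x = x * a) :
    x ∈ fixer C a := by
  rw [mem_fixer, commutatorElement_eq_one_iff_mul_comm.2 h]; exact C.one_mem

variable [Finite G] {g : G}

theorem Hyp.sup_conj (h : Hyp p Y) (hg : g ∉ normalizer (Y : Set G)) : Y ⊔ Y ^ᶜ g = ⊤ :=
  h.min.sup_conj (mem_top g) hg

theorem Hyp.mem_of_conj_le (h : Hyp p Y) (hg : Y ^ᶜ g ≤ normalizer (Y : Set G)) :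
    g ∈ normalizer (Y : Set G) :=
  h.min.mem_of_conj_le (mem_top g) hg

omit [Finite G] in
theorem Hyp.exists_not_mem (h : Hyp p Y) : ∃ g, g ∉ normalizer (Y : Set G) := by
  obtain ⟨g, -, hg⟩ := SetLike.exists_of_lt h.min.lt
  exact ⟨g, hg⟩

theorem Hyp.inf_conj_le (h : Hyp p Y) (hg : g ∉ normalizer (Y : Set G)) :
    Y ⊓ Y ^ᶜ g ≤ Y ⊓ center G := by
  refine le_inf inf_le_left fun x hx => ?_
  rw [← centralizer_univ, ← coe_top, ← h.sup_conj hg, centralizer_sup]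
  exact mem_inf.2 ⟨le_centralizer_of_isElementaryAbelian h.ea (mem_inf.1 hx).1,
    le_centralizer_of_isElementaryAbelian (h.conj g).ea (mem_inf.1 hx).2⟩

theorem Hyp.exists_mul (h : Hyp p Y) (hg : g ∉ normalizer (Y : Set G)) {a : G}
    (ha : a ∈ pCore p G) : ∃ d ∈ Y ⊓ pCore p G, ∃ d' ∈ (Y ^ᶜ g) ⊓ pCore p G, d * d' = a := by
  have h' := h.conj g
  have n₁ : pCore p G ≤ normalizer (((Y ^ᶜ g) ⊓ pCore p G : Subgroup G) : Set G) :=
    le_normalizer_inf h'.norm le_normalizer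
  refine (mem_sup_iff_of_le_normalizer (inf_le_right.trans n₁)).1 ?_
  have hle : (Y ⊓ pCore p G) ⊔ ((Y ^ᶜ g) ⊓ pCore p G) ≤ pCore p G := sup_le inf_le_right inf_le_right
  rw [← h.ncl] at ha
  refine nclIn_le le_sup_left ?_ ha
  rw [← h.sup_conj hg]
  exact sup_le
    (le_normalizer_of_commutator_le_of_le (commutator_le.2 fun a ha y hy =>
      mem_sup_left (h.commutator_mem ha hy)) hle)
    (le_normalizer_of_commutator_le_of_le (commutator_le.2 fun a ha y hy =>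
      mem_sup_right (h'.commutator_mem ha hy)) hle)

theorem Hyp.mem_fixer_of_mem (h : Hyp p Y) {a b : G} (ha : a ∈ pCore p G) (hb : b ∈ pCore p G) :
    b ∈ fixer (Y ⊓ center G) a := by
  obtain ⟨g, hg⟩ := h.exists_not_mem
  have h' := h.conj g
  have key : ∀ d ∈ Y ⊓ pCore p G, ∀ d' ∈ (Y ^ᶜ g) ⊓ pCore p G, d' ∈ fixer (Y ⊓ center G) d := by
    intro d hd d' hd'
    refine mem_fixer.2 (h.inf_conj_le hg (mem_inf.2 ⟨?_, ?_⟩))
    · rw [← inv_mem_iff, commutatorElement_inv]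
      exact (mem_inf.1 (h.commutator_mem (mem_inf.1 hd').2 (mem_inf.1 hd).1)).1
    · exact (mem_inf.1 (h'.commutator_mem (mem_inf.1 hd).2 (mem_inf.1 hd').1)).1
  obtain ⟨d, hd, d', hd', rfl⟩ := h.exists_mul hg ha
  obtain ⟨e, he, e', he', rfl⟩ := h.exists_mul hg hb
  refine mul_mem (mem_fixer_comm.2 (mul_mem ?_ ?_)) (mem_fixer_comm.2 (mul_mem ?_ ?_))
  · exact mem_fixer_of_comm (h.comm (mem_inf.1 he).1 (mem_inf.1 hd).1)
  · exact key e he d' hd'
  · exact mem_fixer_comm.1 (key d hd e' he')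
  · exact mem_fixer_of_comm (h'.comm (mem_inf.1 he').1 (mem_inf.1 hd').1)

variable [hp : Fact p.Prime]

theorem Hyp.mem_pCore_of_fixer (h : Hyp p Y) {x : G}
    (hx : ∀ a ∈ pCore p G, x ∈ fixer (Y ⊓ center G) a) : x ∈ pCore p G := by
  set K : Subgroup G := (centralizer (((pCore p G).map (QuotientGroup.mk' (Y ⊓ center G)) :
    Subgroup _) : Set (G ⧸ (Y ⊓ center G)))).comap (QuotientGroup.mk' (Y ⊓ center G)) with hK
  have hmem : ∀ x, x ∈ K ↔ ∀ a ∈ pCore p G, x ∈ fixer (Y ⊓ center G) a := by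
    intro x
    simp only [hK, fixer, mem_comap, mem_centralizer_iff, SetLike.mem_coe, mem_map,
      Set.mem_singleton_iff, forall_eq]
    exact ⟨fun H a ha => H _ ⟨a, ha, rfl⟩, fun H b ⟨a, ha, e⟩ => e ▸ H a ha⟩
  haveI : ((pCore p G).map (QuotientGroup.mk' (Y ⊓ center G))).Normal :=
    Normal.map inferInstance _ (QuotientGroup.mk'_surjective _)
  have hKn : K.Normal := inferInstance
  refine le_pCore hKn (isPGroup_of_pResidualOf ((pCore_isPGroup p G).to_le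
    (le_trans ?_ h.charP))) ((hmem x).2 hx)
  refine pResidualOf_le_centralizer_of_le (N := Y ⊓ center G) (pCore_isPGroup p G)
    (le_normalizer_of_normal) (commutator_le.2 fun a ha k hk =>
      mem_fixer.1 ((hmem k).1 (pResidualOf_le p K hk) a ha)) fun k _ c hc => ?_
  exact (mem_center_iff.1 (mem_inf.1 hc).2 k).symm

theorem Hyp.mem_pCore_of_mem_normalizer (h : Hyp p Y) (hg : g ∉ normalizer (Y : Set G)) {y : G}
    (hy : y ∈ Y) (hn : y ∈ normalizer ((Y ^ᶜ g : Subgroup G) : Set G)) : y ∈ pCore p G := by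
  refine h.mem_pCore_of_fixer fun a ha => ?_
  obtain ⟨d, hd, d', hd', rfl⟩ := h.exists_mul hg ha
  refine mem_fixer_comm.2 (mul_mem (mem_fixer_of_comm (h.comm hy (mem_inf.1 hd).1))
    (mem_fixer_comm.1 (mem_fixer.2 (h.inf_conj_le hg (mem_inf.2 ⟨?_, ?_⟩)))))
  · exact (mem_inf.1 (h.commutator_mem (mem_inf.1 hd').2 hy)).1
  · rw [commutatorElement_def, mul_assoc, mul_assoc, ← mul_assoc y]
    exact mul_mem (mem_inf.1 hd').1 ((mem_normalizer_iff.1 hn _).1 (inv_mem (mem_inf.1 hd').1))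

/-- An element of a conjugate of `Y` outside `O_p` normalizing `Y` lies in `Y`. -/
theorem Hyp.mem_normalizer_of (h : Hyp p Y) {y : G} (hy : y ∈ Y ^ᶜ g) (hA : y ∉ pCore p G)
    (hn : y ∈ normalizer (Y : Set G)) : g ∈ normalizer (Y : Set G) := by
  by_contra hg
  refine hA ((h.conj g).mem_pCore_of_mem_normalizer (g := g⁻¹) (fun hc => hg ?_) hy ?_)
  · rw [mem_normalizer_iff_conj_eq, conj_conj_inv] at hc
    exact mem_normalizer_iff_conj_eq.2 hc.symm
  · rwa [conj_conj_inv]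

theorem Hyp.mem_of_fixer (h : Hyp p Y) {y a : G} (hy : y ∈ Y) (hA : y ∉ pCore p G)
    (ha : a ∈ pCore p G) (hf : y ∈ fixer (Y ⊓ center G) a) : a ∈ Y := by
  obtain ⟨g, hg⟩ := h.exists_not_mem
  have h' := h.conj g
  obtain ⟨d, hd, d', hd', rfl⟩ := h.exists_mul hg ha
  have h₁ : y ∈ fixer (Y ⊓ center G) d' := by
    rw [mem_fixer_comm] at hf ⊢
    exact (Subgroup.mul_mem_cancel_left _ (mem_fixer_of_comm (h.comm hy (mem_inf.1 hd).1))).1 hf
  have h₂ : fixer (Y ⊓ center G) d' = ⊤ := h'.min.eq_of_not_le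
    (fun x hx => mem_fixer_of_comm (h'.comm (mem_inf.1 hd').1 hx)) le_top
    fun hc => hA (h.mem_pCore_of_mem_normalizer hg hy (hc h₁))
  have h₃ : d' ∈ center G := h'.mem_center_of (mem_inf.1 hd').1 fun x =>
    (mem_inf.1 (mem_fixer.1 (h₂ ▸ mem_top x))).2
  have h₄ : d' ∈ Y ⊓ center G := conj_inf_center Y g ▸ mem_inf.2 ⟨(mem_inf.1 hd').1, h₃⟩
  exact mul_mem (mem_inf.1 hd).1 (mem_inf.1 h₄).1

theorem Hyp.mem_of_fixer_mul (h : Hyp p Y) (hg : g ∉ normalizer (Y : Set G)) {y y' a : G}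
    (hy : y ∈ Y) (hA : y ∉ pCore p G) (hy' : y' ∈ Y ^ᶜ g) (hA' : y' ∉ pCore p G)
    (ha : a ∈ pCore p G) (hf : y * y' ∈ fixer (Y ⊓ center G) a) : a ∈ Y ⊓ center G := by
  have h' := h.conj g
  have e : ⁅a, y'⁆ = ⁅a, y⁻¹⁆ * (y⁻¹ * ⁅a, y * y'⁆ * y⁻¹⁻¹) := by
    simp only [commutatorElement_def]; group
  have h₁ : ⁅a, y'⁆ ∈ Y ⊓ center G := by
    refine h.inf_conj_le hg (mem_inf.2 ⟨?_, (mem_inf.1 (h'.commutator_mem ha hy')).1⟩)
    rw [e]
    exact mul_mem (mem_inf.1 (h.commutator_mem ha (inv_mem hy))).1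
      (mem_inf.1 ((inf_center_normal Y).conj_mem _ (mem_fixer.1 hf) _)).1
  have h₂ : y' ∈ fixer (Y ⊓ center G) a := mem_fixer.2 h₁
  have h₃ : y ∈ fixer (Y ⊓ center G) a := (Subgroup.mul_mem_cancel_right _ h₂).1 hf
  refine h.inf_conj_le hg (mem_inf.2 ⟨h.mem_of_fixer hy hA ha h₃, h'.mem_of_fixer hy' hA' ha ?_⟩)
  rw [mem_fixer, conj_inf_center]; exact h₁

section Quot
variable {X : Type*} [Group X] {φ : G →* X}

/-- Every element of order `p` lies in a conjugate of `Z`. -/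
def Cov (p : ℕ) (Z : Subgroup X) : Prop := ∀ t : X, t ^ p = 1 → ∃ g, t ∈ Z ^ᶜ g

/-- Elements of prime order `r ≠ p` are, up to a commuting `p`-element, products of two elements of
order `p`. -/
def Fac (p : ℕ) (X : Type*) [Group X] : Prop :=
  ∀ (x : X) (r : ℕ), r.Prime → r ≠ p → orderOf x = r → ∃ w u u' : X, (∃ k, w ^ p ^ k = 1) ∧
    Commute x w ∧ u ^ p = 1 ∧ u' ^ p = 1 ∧ u ≠ 1 ∧ u' ≠ 1 ∧ x * w = u * u'

omit [Finite G] hp in
theorem Cov.exists_lift (hI : Cov p (Y.map φ)) (hs : Function.Surjective φ) {t : X}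
    (ht : t ^ p = 1) : ∃ g, ∃ y ∈ Y ^ᶜ g, φ y = t := by
  obtain ⟨g, hg⟩ := hI t ht
  obtain ⟨g, rfl⟩ := hs g
  rw [← map_conj] at hg
  exact ⟨g, hg⟩

theorem Hyp.fpf (h : Hyp p Y) (hs : Function.Surjective φ) (hk : φ.ker = pCore p G)
    (hI : Cov p (Y.map φ)) (hII : Fac p X) {x : G} (hx : ¬ ∃ k, orderOf x = p ^ k) {a : G}
    (ha : a ∈ pCore p G) (hf : x ∈ fixer (Y ⊓ center G) a) : a ∈ Y ⊓ center G := by
  haveI : Finite X := Finite.of_surjective φ hs
  have hAp := pCore_isPGroup p G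
  have hker : ∀ z, φ z = 1 ↔ z ∈ pCore p G := fun z => by rw [← hk, MonoidHom.mem_ker]
  have hpe : ∀ z k, φ z ^ p ^ k = 1 → ∃ j, z ^ p ^ j = 1 := by
    intro z k hz
    obtain ⟨j, hj⟩ := isPGroup_iff_forall_mem.1 hAp _ ((hker _).1 ((map_pow φ z _).trans hz))
    exact ⟨k + j, by rw [pow_add, pow_mul, hj]⟩
  obtain ⟨r, hr, hrp, hrd⟩ : ∃ r : ℕ, r.Prime ∧ r ≠ p ∧ r ∣ orderOf (φ x) := by
    by_contra hc
    push Not at hc
    have := Nat.eq_prime_pow_of_unique_prime_dvd (p := p) (orderOf_pos (φ x)).ne'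
      fun {d} hd hdv => by_contra fun hne => hc d hd hne hdv
    obtain ⟨j, hj⟩ := hpe x _ (this ▸ pow_orderOf_eq_one (φ x))
    exact hx (exists_orderOf_eq_of_pow_eq_one hj)
  set z := x ^ (orderOf (φ x) / r) with hz
  have hzr : orderOf (φ z) = r := by
    rw [hz, map_pow, orderOf_pow_orderOf_div (orderOf_pos _).ne' hrd]
  have hzf : z ∈ fixer (Y ⊓ center G) a := pow_mem hf _
  obtain ⟨w, u, u', ⟨k, hw⟩, hc, hu, hu', hu1, hu1', e⟩ := hII _ r hr hrp hzr
  obtain ⟨w, rfl⟩ := hs w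
  obtain ⟨g₁, y, hy, rfl⟩ := hI.exists_lift hs hu
  obtain ⟨g₂, y', hy', rfl⟩ := hI.exists_lift hs hu'
  by_contra hne
  set π := QuotientGroup.mk' (Y ⊓ center G) with hπ
  set W := pCore p G ⊓ fixer (Y ⊓ center G) z with hW
  have hwW : zpowers w ≤ normalizer (W : Set G) := by
    refine zpowers_le.2 (mem_normalizer_of_conj_le (conj_le_iff.2 fun b hb => ?_))
    have hb' : w * b * w⁻¹ ∈ pCore p G := Normal.conj_mem inferInstance _ (mem_inf.1 hb).1 w
    refine mem_inf.2 ⟨hb', mem_fixer_comm.1 ?_⟩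
    have h₁ : w * z * w⁻¹ ∈ fixer (Y ⊓ center G) (w * b * w⁻¹) := by
      have := (inf_center_normal Y).conj_mem _ (mem_fixer.1 (mem_fixer_comm.1 (mem_inf.1 hb).2)) w
      rw [mem_fixer]
      convert this using 1
      simp only [commutatorElement_def]; group
    have h₂ : (w * z * w⁻¹)⁻¹ * z ∈ pCore p G := by
      rw [← hker, map_mul, map_inv, map_mul, map_mul, map_inv, ← hc.eq]; group
    have := mul_mem h₁ (h.mem_fixer_of_mem hb' h₂)
    rwa [mul_inv_cancel_left] at this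
  obtain ⟨j, hj⟩ := hpe w k hw
  have hne' : W.map π ≠ ⊥ := fun hb => hne (by
    have := (Subgroup.map_eq_bot_iff _).1 hb (mem_inf.2 ⟨ha, mem_fixer_comm.1 hzf⟩)
    rwa [hπ, QuotientGroup.ker_mk'] at this)
  obtain ⟨_, ⟨b, hb, rfl⟩, hbc, hb1, -⟩ := exists_mem_centralizer_pow_eq_one
    ((isPGroup_zpowers hj).map π) ((hAp.to_le (inf_le_left : W ≤ _)).map π)
    (le_normalizer_map π hwW) hne'
  have hbA := (mem_inf.1 hb).1
  have h₁ : w ∈ fixer (Y ⊓ center G) b :=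
    mem_centralizer_singleton_iff.2 (hbc _ (mem_map_of_mem π (mem_zpowers w)))
  have h₂ : (z * w)⁻¹ * (y * y') ∈ pCore p G := by
    rw [← hker, map_mul, map_inv, map_mul, map_mul, e, inv_mul_cancel]
  have h₃ := mul_mem (mul_mem (mem_fixer_comm.1 (mem_inf.1 hb).2) h₁) (h.mem_fixer_of_mem hbA h₂)
  rw [mul_inv_cancel_left] at h₃
  have e₂ : Y ^ᶜ g₂ = (Y ^ᶜ g₁) ^ᶜ (g₂ * g₁⁻¹) := by rw [conj_conj, inv_mul_cancel_right]
  by_cases hn : g₂ * g₁⁻¹ ∈ normalizer ((Y ^ᶜ g₁ : Subgroup G) : Set G)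
  · rw [conj_eq_of_mem_normalizer hn] at e₂
    rw [e₂] at hy'
    have h₄ : (φ z * φ w) ^ p = 1 := by
      rw [e, Commute.mul_pow (by
        change φ y * φ y' = φ y' * φ y
        rw [← map_mul, (h.conj g₁).comm hy hy', map_mul]), hu, hu', one_mul]
    have h₅ : φ z ^ p ^ (k + 1) = 1 := by
      have : (φ z * φ w) ^ p ^ (k + 1) = 1 := by rw [pow_succ', pow_mul, h₄, one_pow]
      rwa [hc.mul_pow, pow_succ p k, pow_mul (φ w), hw, one_pow, mul_one] at this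
    have h₆ := eq_one_of_coprime_of_pow_eq_one
      (by rw [hzr]; exact (Nat.coprime_primes hr hp.out).2 hrp) h₅
    rw [h₆, orderOf_one] at hzr
    exact hr.one_lt.ne hzr
  · have := (h.conj g₁).mem_of_fixer_mul hn hy (fun hc => hu1 ((hker _).2 hc)) (e₂ ▸ hy')
      (fun hc => hu1' ((hker _).2 hc)) hbA (by rw [mem_fixer, conj_inf_center]; exact mem_fixer.1 h₃)
    rw [conj_inf_center] at this
    exact hb1 ((QuotientGroup.eq_one_iff b).2 this)

/-- An element of order `p` of `N(Y)/O_p` lies in the image of `Y`. -/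
theorem Hyp.mem_map_of_pow (h : Hyp p Y) (hs : Function.Surjective φ) (hk : φ.ker = pCore p G)
    (hI : Cov p (Y.map φ)) {b : G} (hb : b ∈ normalizer (Y : Set G)) (hbp : φ b ^ p = 1) :
    φ b ∈ Y.map φ := by
  obtain ⟨g, y, hy, e⟩ := hI.exists_lift hs hbp
  by_cases hA : y ∈ pCore p G
  · rw [← hk, MonoidHom.mem_ker] at hA
    rw [← e, hA]; exact one_mem _
  · have h₁ : b⁻¹ * y ∈ pCore p G := by
      rw [← hk, MonoidHom.mem_ker, map_mul, map_inv, e, inv_mul_cancel]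
    have h₂ := mul_mem hb (h.norm h₁)
    rw [mul_inv_cancel_left] at h₂
    rw [conj_eq_of_mem_normalizer (h.mem_normalizer_of hy hA h₂)] at hy
    exact ⟨y, hy, e⟩

/-- The image of `Y` is a trivial intersection subgroup. -/
theorem Hyp.mem_normalizer_of_mem (h : Hyp p Y) (hk : φ.ker = pCore p G) {t : X}
    (h₁ : t ∈ Y.map φ) (h₂ : t ∈ (Y.map φ) ^ᶜ (φ g)) (ht : t ≠ 1) : g ∈ normalizer (Y : Set G) := by
  rw [← map_conj] at h₂
  obtain ⟨y, hy, rfl⟩ := h₁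
  obtain ⟨y', hy', e⟩ := h₂
  refine h.mem_normalizer_of hy' (fun hc => ht ?_) ?_
  · rw [← hk, MonoidHom.mem_ker] at hc
    rw [← e, hc]
  · have h₃ : y⁻¹ * y' ∈ pCore p G := by
      rw [← hk, MonoidHom.mem_ker, map_mul, map_inv, e, inv_mul_cancel]
    have := mul_mem (le_normalizer hy) (h.norm h₃)
    rwa [mul_inv_cancel_left] at this

omit [Finite G] in
theorem Hyp.map_ne_bot (h : Hyp p Y) (hk : φ.ker = pCore p G) : Y.map φ ≠ ⊥ := fun hb => by
  have h₁ : Y ≤ pCore p G := hk ▸ (Subgroup.map_eq_bot_iff _).1 hb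
  have h₂ := h.ncl
  rw [inf_eq_left.2 h₁, h.min.ncl] at h₂
  exact h.min.lt.not_ge (h₂.le.trans h.norm)

omit [Finite G] hp in
theorem conj_or_comm [Finite X] {s t : X} (hs : s ^ 2 = 1) (ht : t ^ 2 = 1) :
    (∃ k, k * s * k⁻¹ = t) ∨ ∃ z : X, z ≠ 1 ∧ z ^ 2 = 1 ∧ z * s = s * z ∧ z * t = t * z := by
  have hs' : s⁻¹ = s := inv_eq_of_mul_eq_one_right ((pow_two s).symm.trans hs)
  have ht' : t⁻¹ = t := inv_eq_of_mul_eq_one_right ((pow_two t).symm.trans ht)
  have e₁ : ∀ m : ℕ, s * (s * t) ^ m * s⁻¹ = ((s * t) ^ m)⁻¹ := fun m => by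
    rw [← conj_pow, ← inv_pow, mul_inv_rev, ← mul_assoc, ← pow_two, hs, one_mul, ht']
  have e₂ : ∀ m : ℕ, t * (s * t) ^ m * t⁻¹ = ((s * t) ^ m)⁻¹ := fun m => by
    rw [← conj_pow, ← inv_pow, mul_inv_rev, mul_assoc, mul_inv_cancel_right, hs', ht']
  obtain ⟨m, hm | hm⟩ := Nat.even_or_odd' (orderOf (s * t))
  · have h₂ : ((s * t) ^ m) ^ 2 = 1 := by rw [← pow_mul, mul_comm m, ← hm, pow_orderOf_eq_one]
    have h₃ : ((s * t) ^ m)⁻¹ = (s * t) ^ m :=
      inv_eq_of_mul_eq_one_right ((pow_two _).symm.trans h₂)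
    have hpos := orderOf_pos (s * t)
    refine Or.inr ⟨(s * t) ^ m, pow_ne_one_of_lt_orderOf (by omega) (by omega), h₂, ?_, ?_⟩
    · rw [← mul_inv_eq_iff_eq_mul.1 ((e₁ m).trans h₃)]
    · rw [← mul_inv_eq_iff_eq_mul.1 ((e₂ m).trans h₃)]
  · refine Or.inl ⟨(s * t) ^ m, ?_⟩
    have h₂ : (s * t) ^ m * (s * t) ^ m * (s * t) = 1 := by
      rw [← pow_add, ← pow_succ, ← two_mul, ← hm, pow_orderOf_eq_one]
    calc (s * t) ^ m * s * ((s * t) ^ m)⁻¹ = (s * t) ^ m * (s * (s * (s * t) ^ m * s⁻¹)) := by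
          rw [e₁, mul_assoc]
      _ = (s * t) ^ m * (s * t) ^ m * (s * t) * t⁻¹ * (s⁻¹ * s⁻¹) := by
          rw [← mul_assoc s, ← mul_assoc s, ← pow_two, hs]; group
      _ = t := by rw [h₂, hs', ← pow_two, hs, ht', one_mul, mul_one]

/-- For `p = 2` all involutions of the image of `Y` are conjugate under `N(Y)`. -/
theorem Hyp.exists_conj_two (h : Hyp 2 Y) (hs : Function.Surjective φ) (hk : φ.ker = pCore 2 G)
    (hI : Cov 2 (Y.map φ)) {s t : X} (hs₁ : s ∈ Y.map φ) (ht₁ : t ∈ Y.map φ) (hs1 : s ≠ 1)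
    (ht1 : t ≠ 1) : ∃ b ∈ normalizer (Y : Set G), φ b * s * (φ b)⁻¹ = t := by
  haveI : Finite X := Finite.of_surjective φ hs
  have hE := isElementaryAbelian_map h.ea φ
  obtain ⟨g, hg⟩ := h.exists_not_mem
  have hs2 : s ^ 2 = 1 := hE.2 s hs₁
  have ht2 : (φ g * t * (φ g)⁻¹) ^ 2 = 1 := by rw [conj_pow, hE.2 t ht₁]; group
  rcases conj_or_comm hs2 ht2 with ⟨k, e⟩ | ⟨z, hz1, hz2, e₁, e₂⟩
  · obtain ⟨k, rfl⟩ := hs k
    have e' : φ (g⁻¹ * k) * s * (φ (g⁻¹ * k))⁻¹ = t := by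
      rw [map_mul, map_inv]
      calc _ = (φ g)⁻¹ * (φ k * s * (φ k)⁻¹) * φ g := by group
        _ = t := by rw [e]; group
    exact ⟨g⁻¹ * k, h.mem_normalizer_of_mem hk ht₁ (e' ▸ conj_mem_conj _ hs₁) ht1, e'⟩
  · obtain ⟨z, rfl⟩ := hs z
    have h₁ : φ z ∈ Y.map φ := by
      refine h.mem_map_of_pow hs hk hI (h.mem_normalizer_of_mem hk hs₁ ?_ hs1) hz2
      have := conj_mem_conj (φ z) hs₁
      rwa [e₁, mul_inv_cancel_right] at this
    have h₂ : φ (g⁻¹ * z * g) ∈ Y.map φ := by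
      have e₃ : φ (g⁻¹ * z * g) * t * (φ (g⁻¹ * z * g))⁻¹ = t := by
        rw [map_mul, map_mul, map_inv]
        calc _ = (φ g)⁻¹ * (φ z * (φ g * t * (φ g)⁻¹)) * (φ z)⁻¹ * φ g := by group
          _ = t := by rw [e₂]; group
      refine h.mem_map_of_pow hs hk hI
        (h.mem_normalizer_of_mem hk ht₁ (e₃ ▸ conj_mem_conj _ ht₁) ht1) ?_
      rw [map_mul, map_mul, map_inv, ← inv_inv (φ g), inv_inv (φ g)⁻¹, conj_pow, hz2]; group
    refine absurd (h.mem_normalizer_of_mem hk h₁ (mem_conj_iff.2 ?_) hz1) hg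
    rwa [map_mul, map_mul, map_inv] at h₂

omit [Finite G] in
theorem cov_of_isSylowIn [Finite X] {Z : Subgroup X} (hZ : IsSylowIn p Z ⊤) : Cov p Z := fun t ht => by
  obtain ⟨g, -, hg⟩ := hZ.exists_le_conj le_top (isPGroup_zpowers (k := 1) (by rwa [pow_one]))
  exact ⟨g, hg (mem_zpowers t)⟩

end Quot

section Dihedral

theorem fac_dihedral (n : ℕ) : Fac 2 (DihedralGroup n) := by
  rintro (i | i) r hr hr2 hx
  · exact ⟨1, .sr 0, .sr i, ⟨0, by simp⟩, Commute.one_right _, by simp [pow_two],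
      by simp [pow_two], (fun h => by cases h), (fun h => by cases h), by simp⟩
  · exact absurd (hx.symm.trans (DihedralGroup.orderOf_sr i)) hr2

theorem isSylowIn_dihedral {n : ℕ} (hn : Odd n) {Z : Subgroup (DihedralGroup n)}
    (hZ : IsPGroup 2 Z) (h : Z ≠ ⊥) : IsSylowIn 2 Z ⊤ := by
  haveI : NeZero n := ⟨hn.pos.ne'⟩
  refine isSylowIn_of_not_dvd_relIndex le_top hZ fun hd => ?_
  have := mul_dvd_mul (dvd_card_of_isPGroup_of_ne_bot hZ h) hd
  rw [relIndex_top_right, card_mul_index, DihedralGroup.nat_card] at this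
  exact hn.not_two_dvd_nat (Nat.dvd_of_mul_dvd_mul_left two_pos this)

end Dihedral

section Sz

theorem fac_Sz {F : Type*} [Field F] [CharP F 2] [Finite F] {k : ℕ} {Z : Subgroup (Lie.Sz F (2 ^ k))}
    (hZ : IsPGroup 2 Z) (h : nclIn Z ⊤ = ⊤) : Fac 2 (Lie.Sz F (2 ^ k)) := by
  intro x r hr hr2 hx
  haveI := Fact.mk hr
  have hres : pResidual r (Lie.Sz F (2 ^ k)) = ⊤ := by
    refine eq_top_iff.2 (h.ge.trans (nclIn_le (fun z hz => mem_pResidual ?_) le_normalizer_of_normal))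
    obtain ⟨j, hj⟩ := isPGroup_iff_forall_orderOf.1 hZ z hz
    rw [hj]
    exact ((Nat.coprime_primes Nat.prime_two hr).2 hr2.symm).pow_left j
  obtain ⟨t, ht2, ht1, e⟩ := SzBasic.exists_inverting (subtype_injective _) (fun x => x.2) hr2 hres hx
  have ht' : t⁻¹ = t := inv_eq_of_mul_eq_one_right ((pow_two t).symm.trans ht2)
  refine ⟨1, t, t * x, ⟨0, by simp⟩, Commute.one_right _, ht2, ?_, ht1, fun hc => ?_, ?_⟩
  · rw [pow_two, ← mul_assoc, ← ht' , ht', ← inv_mul_cancel x, ← e, ht']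
  · rw [mul_eq_one_iff_inv_eq, ht'] at hc
    rw [← hc, orderOf_eq_prime ht2 ht1] at hx
    exact hr2 hx.symm
  · rw [← mul_assoc, ← pow_two, ht2, one_mul, mul_one]

end Sz

section SL2
open Matrix MatrixGroups
variable {F : Type*} [Field F]

/-- An element of `SL₂` given by its entries. -/
def mk2 (a b c d : F) (h : a * d - b * c = 1) : SL(2, F) :=
  ⟨!![a, b; c, d], by rwa [det_fin_two_of]⟩

@[simp] theorem coe_mk2 (a b c d : F) (h : a * d - b * c = 1) :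
    (mk2 a b c d h : Matrix (Fin 2) (Fin 2) F) = !![a, b; c, d] := rfl

/-- The upper unitriangular matrices. -/
def upper (F : Type*) [Field F] : Multiplicative F →* SL(2, F) where
  toFun s := mk2 1 s.toAdd 0 1 (by simp)
  map_one' := by ext i j; fin_cases i <;> fin_cases j <;> simp
  map_mul' a b := by
    ext i j; fin_cases i <;> fin_cases j <;> simp [add_comm]

@[simp] theorem coe_upper (s : Multiplicative F) :
    (upper F s : Matrix (Fin 2) (Fin 2) F) = !![1, s.toAdd; 0, 1] := rfl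

theorem upper_injective : Function.Injective (upper F) := fun a b h => by
  have := congrArg (fun g : SL(2, F) => g.1 0 1) h
  simpa using this

omit hp in
theorem pow_eq_of_trace {g : SL(2, F)} (h : g.1.trace = 2) (n : ℕ) :
    g.1 ^ n = 1 + (n : F) • (g.1 - 1) := by
  have h₁ : (g.1 - 1) * (g.1 - 1) = 0 := by
    have hd := g.2
    rw [det_fin_two] at hd
    rw [trace_fin_two] at h
    ext i j
    fin_cases i <;> fin_cases j <;> simp [Matrix.mul_apply, Fin.sum_univ_two]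
    · linear_combination g.1 0 0 * h - hd
    · linear_combination g.1 0 1 * h
    · linear_combination g.1 1 0 * h
    · linear_combination g.1 1 1 * h - hd
  induction n with
  | zero => simp
  | succ n ih =>
    rw [pow_succ, ih]
    generalize g.1 = M at h₁
    obtain ⟨N, rfl⟩ : ∃ N, M = 1 + N := ⟨M - 1, by simp⟩
    rw [add_sub_cancel_left] at h₁ ⊢
    rw [mul_add, mul_one, add_mul, one_mul, smul_mul_assoc, h₁]
    simp [add_smul, add_assoc]

omit hp in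
theorem pow_eq_one_of_trace [CharP F p] {g : SL(2, F)} (h : g.1.trace = 2) : g ^ p = 1 := by
  refine Subtype.ext ((Matrix.SpecialLinearGroup.coe_pow g p).trans ?_)
  rw [pow_eq_of_trace h, CharP.cast_eq_zero, zero_smul, add_zero]
  rfl

theorem exists_trace {g : SL(2, F)} (h : ¬ (g.1 0 1 = 0 ∧ g.1 1 0 = 0 ∧ g.1 0 0 = g.1 1 1)) :
    ∃ v : SL(2, F), v.1.trace = 2 ∧ (v * g).1.trace = 2 := by
  by_cases hc : g.1 1 0 = 0
  · by_cases hb : g.1 0 1 = 0
    · have ha : g.1 0 0 - g.1 1 1 ≠ 0 := fun e => h ⟨hb, hc, sub_eq_zero.1 e⟩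
      obtain ⟨s, hs⟩ : ∃ s, s * (g.1 0 0 - g.1 1 1) = 2 - g.1 0 0 - g.1 1 1 :=
        ⟨_, div_mul_cancel₀ _ ha⟩
      refine ⟨mk2 (1 + s) (-s) s (1 - s) (by ring), by simp; ring, ?_⟩
      simp [trace_fin_two, vecMul, dotProduct, hb, hc]
      linear_combination hs
    · obtain ⟨s, hs⟩ : ∃ s, s * g.1 0 1 = 2 - g.1 0 0 - g.1 1 1 := ⟨_, div_mul_cancel₀ _ hb⟩
      refine ⟨mk2 1 0 s 1 (by ring), by simp; ring, ?_⟩
      simp [trace_fin_two, vecMul, dotProduct]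
      linear_combination hs
  · obtain ⟨s, hs⟩ : ∃ s, s * g.1 1 0 = 2 - g.1 0 0 - g.1 1 1 := ⟨_, div_mul_cancel₀ _ hc⟩
    refine ⟨mk2 1 s 0 1 (by ring), by simp; ring, ?_⟩
    simp [trace_fin_two, vecMul, dotProduct]
    linear_combination hs

omit hp in
theorem exists_mul [CharP F p] {g : SL(2, F)} (h : ¬ (g.1 0 1 = 0 ∧ g.1 1 0 = 0 ∧ g.1 0 0 = g.1 1 1))
    (hg : g ^ p ≠ 1) : ∃ u u' : SL(2, F), u ^ p = 1 ∧ u' ^ p = 1 ∧ u ≠ 1 ∧ u' ≠ 1 ∧ g = u * u' := by
  obtain ⟨v, h₁, h₂⟩ := exists_trace h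
  have e₁ := pow_eq_one_of_trace (p := p) h₁
  have e₂ := pow_eq_one_of_trace (p := p) h₂
  refine ⟨v⁻¹, v * g, by rw [inv_pow, e₁, inv_one], e₂, fun hc => hg ?_, fun hc => hg ?_, by group⟩
  · rw [inv_eq_one] at hc
    rwa [hc, one_mul] at e₂
  · rw [mul_eq_one_iff_eq_inv] at hc
    rwa [hc, inv_pow, inv_eq_one] at e₁

theorem upper_pow [CharP F p] (s : Multiplicative F) : upper F s ^ p = 1 :=
  pow_eq_one_of_trace (by simp; ring)

theorem fac_SL2 [CharP F p] : Fac p SL(2, F) := by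
  intro x r hr hrp hx
  have hxp : x ^ p ≠ 1 := fun hc => by
    have := orderOf_dvd_of_pow_eq_one hc
    rw [hx] at this
    exact hrp ((Nat.prime_dvd_prime_iff_eq hr hp.out).1 this)
  by_cases h : x.1 0 1 = 0 ∧ x.1 1 0 = 0 ∧ x.1 0 0 = x.1 1 1
  · obtain ⟨h₁, h₂, h₃⟩ := h
    have hd := x.2
    rw [det_fin_two, h₁, ← h₃] at hd
    have hc : Commute x (upper F (.ofAdd 1)) := by
      change x * _ = _ * x
      ext i j
      fin_cases i <;> fin_cases j <;> simp [Matrix.mul_apply, h₁, h₂, h₃]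
    obtain ⟨u, u', H⟩ := exists_mul (p := p) (g := x * upper F (.ofAdd 1)) (fun ⟨e, _⟩ => by
      simp [Matrix.mul_apply, h₁] at e
      simp [e] at hd) (by rwa [hc.mul_pow, upper_pow, mul_one])
    exact ⟨_, u, u', ⟨1, by rw [pow_one, upper_pow]⟩, hc, H⟩
  · obtain ⟨u, u', H⟩ := exists_mul h hxp
    exact ⟨1, u, u', ⟨0, by simp⟩, Commute.one_right _, by rwa [mul_one]⟩

theorem isSylowIn_SL2 [Fintype F] [CharP F p] {Z : Subgroup SL(2, F)} (hZ : IsPGroup p Z)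
    (hc : Nat.card Z = Fintype.card F) : IsSylowIn p Z ⊤ := by
  refine isSylowIn_of_not_dvd_relIndex le_top hZ fun hd => ?_
  have h₁ := Z.card_mul_index
  rw [hc, LinearOrders.card_SL2 rfl] at h₁
  rw [relIndex_top_right, Nat.eq_of_mul_eq_mul_left Fintype.card_pos h₁] at hd
  obtain ⟨n, -, hn⟩ := FiniteField.card F p
  have h₂ : p ∣ Fintype.card F ^ 2 := (hn ▸ dvd_pow_self p n.ne_zero).trans (dvd_pow_self _ two_ne_zero)
  have h₃ := (Nat.dvd_sub_iff_right (Nat.one_le_pow _ _ Fintype.card_pos) h₂).1 hd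
  exact hp.out.one_lt.ne' (Nat.dvd_one.1 h₃)

theorem isSylowIn_upper [Fintype F] [CharP F p] : IsSylowIn p (upper F).range ⊤ :=
  isSylowIn_SL2 (isPGroup_iff_forall_mem.2 (by
      rintro _ ⟨s, rfl⟩; exact ⟨1, by rw [pow_one, upper_pow]⟩))
    (by rw [← Nat.card_congr (MonoidHom.ofInjective upper_injective).toEquiv,
      Nat.card_eq_fintype_card, Fintype.card_multiplicative])

/-- The diagonal matrices. -/
def diag (a : F) (ha : a ≠ 0) : SL(2, F) := mk2 a 0 0 a⁻¹ (by simp [ha])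

theorem diag_conj (a : F) (ha : a ≠ 0) (s : F) :
    diag a ha * upper F (.ofAdd s) * (diag a ha)⁻¹ = upper F (.ofAdd (a ^ 2 * s)) := by
  rw [mul_inv_eq_iff_eq_mul]
  ext i j
  fin_cases i <;> fin_cases j <;> simp [diag]
  field_simp

theorem eq_upper [Finite F] (h2 : (2 : F) ≠ 0) {V : Subgroup SL(2, F)} (h₁ : V ≤ (upper F).range) (h₂ : V ≠ ⊥)
    (h₃ : normalizer ((upper F).range : Set SL(2, F)) ≤ normalizer (V : Set SL(2, F))) :
    V = (upper F).range := by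
  obtain ⟨⟨v, hv⟩, hv1⟩ := ne_bot_iff_exists_ne_one.1 h₂
  obtain ⟨s, rfl⟩ := h₁ hv
  have hs : s.toAdd ≠ 0 := fun e => hv1 (Subtype.ext (by
    rw [toAdd_eq_zero] at e; simp [e]))
  have key : ∀ a : F, upper F (.ofAdd (a ^ 2 * s.toAdd)) ∈ V := by
    intro a
    by_cases ha : a = 0
    · simp [ha]
    · rw [← diag_conj a ha]
      refine (mem_normalizer_iff.1 (h₃ (mem_normalizer_of_conj_le (conj_le_iff.2 ?_))) _).1 hv
      rintro _ ⟨t, rfl⟩
      exact ⟨_, (diag_conj a ha t.toAdd).symm⟩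
  refine le_antisymm h₁ ?_
  rintro _ ⟨t, rfl⟩
  have := mul_mem (key ((t.toAdd / s.toAdd + 1) / 2)) (inv_mem (key ((t.toAdd / s.toAdd - 1) / 2)))
  rw [← map_inv, ← map_mul] at this
  convert this using 2
  rw [← ofAdd_neg, ← ofAdd_add, ← ofAdd_toAdd t, toAdd_ofAdd]
  congr 1
  field_simp; ring

theorem eq_of_isSylowIn_SL2 [Fintype F] [CharP F p] (hp2 : p ≠ 2) {V Z : Subgroup SL(2, F)}
    (hZ : IsSylowIn p Z ⊤) (h₁ : V ≤ Z) (h₂ : V ≠ ⊥)
    (h₃ : normalizer (Z : Set SL(2, F)) ≤ normalizer (V : Set SL(2, F))) : V = Z := by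
  obtain ⟨g, -, e⟩ := hZ.exists_conj_eq isSylowIn_upper
  have h2 : (2 : F) ≠ 0 := fun hc => hp2 ((Nat.prime_dvd_prime_iff_eq hp.out Nat.prime_two).1
    ((CharP.cast_eq_zero_iff F p 2).1 (by exact_mod_cast hc)))
  rw [← conj_inj (g := g), e]
  refine eq_upper h2 (e ▸ conj_mono g h₁) (fun hc => h₂ (conj_eq_bot_iff.1 hc)) ?_
  rw [← e, ← conj_normalizer, ← conj_normalizer]
  exact conj_mono g h₃

end SL2

section Main
variable {M L : Subgroup G}

omit [Finite G] in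
theorem hyp_of_isInFrakL (hL : IsInFrakL p M L) : Hyp p ((largestPReducedOf p M).subgroupOf L) := by
  obtain ⟨hYL, hA, hAN, hmin, hcp, ⟨hlt, hmax⟩, -⟩ := hL
  set Y := largestPReducedOf p M
  have hn : normalizer ((Y.subgroupOf L : Subgroup L) : Set L) =
      (L ⊓ normalizer (Y : Set G)).subgroupOf L := by
    rw [normalizer_eq_subgroupOf, subgroupOf_map_subtype_of_le hYL, inf_subgroupOf_left]
  refine ⟨isElementaryAbelian_subgroupOf (isPRed_largest p M).elem L, ?_, ?_, ?_, hcp⟩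
  · rw [hn, ← pCoreOf_subgroupOf]
    exact comap_mono (le_inf (pCoreOf_le p L) hAN)
  · apply map_injective (subtype_injective L)
    rw [pCoreOf_def, hA, nclIn_top, ← pCoreOf_subgroupOf]
    rfl
  · rw [hn]
    refine MinOver.subgroupOf ⟨?_, le_inf hYL le_normalizer, hlt, hmax⟩
    rw [← map_normalClosure_subgroupOf hYL, hmin.1, ← MonoidHom.range_eq_map, range_subtype]

theorem exists_hom_of_isInFrakL (hL : IsInFrakL p M L) :
    ∃ (X : Type) (_ : Group X) (φ : L →* X), Function.Surjective φ ∧ φ.ker = pCore p L ∧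
      Cov p (((largestPReducedOf p M).subgroupOf L).map φ) ∧ Fac p X ∧
      (p ≠ 2 → ∀ V ≤ ((largestPReducedOf p M).subgroupOf L).map φ, V ≠ ⊥ →
        normalizer ((((largestPReducedOf p M).subgroupOf L).map φ : Subgroup X) : Set X) ≤
          normalizer (V : Set X) → V = ((largestPReducedOf p M).subgroupOf L).map φ) := by
  have h := hyp_of_isInFrakL hL
  obtain ⟨hYL, -, -, -, -, -, hc⟩ := hL
  set Y := largestPReducedOf p M
  have key : ∀ {X : Type} [Group X] (e : L ⧸ pCore p L ≃* X), ∃ φ : L →* X,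
      Function.Surjective φ ∧ φ.ker = pCore p L ∧ (Y.subgroupOf L).map φ ≠ ⊥ ∧
      IsElementaryAbelian p ((Y.subgroupOf L).map φ) ∧ nclIn ((Y.subgroupOf L).map φ) ⊤ = ⊤ ∧
      Nat.card ((Y.subgroupOf L).map φ) = (Y ⊓ pCoreOf p L).relIndex Y := by
    intro X _ e
    have hs : Function.Surjective (e.toMonoidHom.comp (QuotientGroup.mk' (pCore p L))) :=
      e.surjective.comp (QuotientGroup.mk'_surjective _)
    have hk : (e.toMonoidHom.comp (QuotientGroup.mk' (pCore p L))).ker = pCore p L := by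
      ext x; simp
    refine ⟨_, hs, hk, h.map_ne_bot hk, isElementaryAbelian_map h.ea _, ?_, ?_⟩
    · rw [← map_top_of_surjective _ hs, ← map_nclIn, h.min.ncl]
    · rw [← relIndex_ker, hk, inf_relIndex_left, ← pCoreOf_subgroupOf, relIndex_subgroupOf hYL]
  rcases hc with ⟨F, _, _, hq, ⟨e⟩⟩ | ⟨rfl, F, _, _, m, hF, hq, ⟨e⟩⟩ | ⟨rfl, r, hr, hr2, ⟨e⟩⟩
  · obtain ⟨φ, h₁, h₂, h₃, h₄, h₅, h₆⟩ := key e
    have hp' := isPGroup_of_isElementaryAbelian h₄
    obtain ⟨n, hn⟩ := hp'.exists_card_eq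
    haveI : CharP F p := charP_of_card_eq_prime_pow (hq.trans (h₆.symm.trans hn))
    have hS := isSylowIn_SL2 hp' (h₆.trans hq.symm)
    exact ⟨_, _, φ, h₁, h₂, cov_of_isSylowIn hS, fac_SL2,
      fun hp2 V hV₁ hV₂ hV₃ => eq_of_isSylowIn_SL2 hp2 hS hV₁ hV₂ hV₃⟩
  · obtain ⟨φ, h₁, h₂, h₃, h₄, h₅, h₆⟩ := key e
    haveI : CharP F 2 := charP_of_card_eq_prime_pow hF
    exact ⟨_, _, φ, h₁, h₂, fun t ht => SzBasic.exists_mem_conj (subtype_injective _) (fun x => x.2) h₄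
      (h₆.trans (hq.symm.trans Nat.card_eq_fintype_card.symm)) ht,
      fac_Sz (isPGroup_of_isElementaryAbelian h₄) h₅, fun hc => absurd rfl hc⟩
  · obtain ⟨φ, h₁, h₂, h₃, h₄, h₅, h₆⟩ := key e
    haveI : NeZero r := ⟨hr.ne_zero⟩
    exact ⟨_, _, φ, h₁, h₂, cov_of_isSylowIn (isSylowIn_dihedral (hr.odd_of_ne_two hr2)
      (isPGroup_of_isElementaryAbelian h₄) h₃), fac_dihedral r, fun hc => absurd rfl hc⟩

end Main

end Cfsg.Agent.Lib.FrakL
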