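import Mathlib
import Cfsg.Agent.Lib.APC5
import Cfsg.Agent.Lib.CgBase
import Cfsg.Agent.Lib.FrakL

/-!
The natural configuration of S3090: field involutions and swapping involutions; the conclusion.
-/

set_option autoImplicit false
set_option linter.unusedSectionVars false

namespace Cfsg.Agent.Lib.AP

open Cfsg Subgroup Cfsg.Agent.Lib.PCoreConj Cfsg.Agent.Lib.PCore Cfsg.Agent.Lib.PCoreResidual
  Cfsg.Agent.Lib.FTDefs
open scoped Classical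

universe u

variable {G : Type u} [Group G] [Finite G] {q : ℕ} {K K' W U C C' A B E T P O X : Subgroup G}
  {n n' x g a b c c' d f k m m' s t u w y z : G}

namespace Bi
variable (h : Bi q K K' W U C C' n n')
include h

theorem Tm (mK : m ∈ K) : (W ⊔ U) ^ᶜ m = W ⊔ U ^ᶜ m := by rw [conj_sup, conj_eq_of_mem_normalizer (h.a.KN mK)]
theorem Ym (mK : m ∈ K) : (W ⊓ U) ^ᶜ m = W ⊓ U ^ᶜ m := by rw [conj_inf, conj_eq_of_mem_normalizer (h.a.KN mK)]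
theorem two1 (hg : g ∈ K) (gU : g ∈ N[U]) (g2 : g * g = 1) : g ∈ W ⊔ U :=
  h.two_mem ⟨hg, gU⟩ (k := 1) (by simpa [pow_two] using g2)
theorem fTm (mK : m ∈ K) (f2 : f * f = 1) (fU : f ∈ N[U]) (fT : f ∉ W ⊔ U) : f ∉ W ⊔ U ^ᶜ m := fun k =>
  fT (h.two1 ((h.cjK mK).TK k) fU f2)

theorem tiO (ht : t ∈ U) (tW : t ∉ W) (tc : t ∈ c[f]) : pCoreOf 2 c[f] ⊓ N[W] ≤ N[U] :=
  le_sup_left.trans (h.a.ti _ (sup_pg (pg_sq (h.eU t ht)) ((pCoreOf_isPGroup 2 _).to_le inf_le_left)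
    (le_normalizer_inf (zpowers_le.2 (cO f tc)) (zpowers_le.2 (le_normalizer (h.UW ht)))))
    (sup_le inf_le_right (zpowers_le.2 (h.UW ht))) t (mem_sup_right (mem_zpowers t)) ht tW)

theorem OK (ht : t ∈ U) (tW : t ∉ W) (tc : t ∈ c[f]) : pCoreOf 2 c[f] ⊓ K ≤ W ⊔ U := fun a ha => by
  obtain ⟨j, hj⟩ := isPGroup_iff_forall_mem.1 (pCoreOf_isPGroup 2 c[f]) a ha.1
  exact h.two_mem ⟨ha.2, h.tiO ht tW tc ⟨ha.1, h.a.KN ha.2⟩⟩ hj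

theorem fh1 (f2 : f * f = 1) (fW : f ∈ N[W]) (fU : f ∈ N[U]) (fT : f ∉ W ⊔ U) (mK : m ∈ K)
    (mY : (W ⊓ U) ⊓ (W ⊓ U) ^ᶜ m ≤ C[K]) (fm : f ∈ N[U ^ᶜ m]) : pCoreOf 2 c[f] ⊓ (W ⊔ U) ≤ W ∧
      (pCoreOf 2 c[f] ⊓ (W ⊔ U) ≤ U → pCoreOf 2 c[f] ⊓ (W ⊔ U) ≤ C[K]) := by
  have h' := h.cjK mK
  obtain ⟨t, ht, tW, tc⟩ := h'.ex_t fW fm (h.fTm mK f2 fU fT) f2
  have l : pCoreOf 2 c[f] ⊓ (W ⊔ U) ≤ W := fun a ha => h.TT mK mY ha.2 (h.Tm mK ▸ h'.OK ht tW tc ⟨ha.1, h.TK ha.2⟩)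
  refine ⟨l, fun l2 a ha => ?_⟩
  rw [h.Ym mK] at mY
  by_cases k : a ∈ U ^ᶜ m
  · exact mY ⟨⟨l ha, l2 ha⟩, l ha, k⟩
  have k2 := h'.cm (l ha) ht
  exact absurd (mY ⟨⟨k2.1, l2 ⟨cmO ha.1 (cO f tc), mem_sup_left k2.1⟩⟩, k2⟩) (h'.a.nd a (l ha) k t ht tW)

theorem fk (f2 : f * f = 1) (fW : f ∈ N[W]) (fU : f ∈ N[U]) (fT : f ∉ W ⊔ U) (mK : m ∈ K)
    (mY : (W ⊓ U) ⊓ (W ⊓ U) ^ᶜ m ≤ C[K]) (fm : f ∈ N[U ^ᶜ m]) (hO : pCoreOf 2 c[f] ⊓ (W ⊔ U) = ⊥) :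
    pCoreOf 2 c[f] ⊓ N[W] ≤ N[U] ∧
    ∃ k ∈ K, k ∈ c[f] ∧ (orderOf k).Coprime 2 ∧ k ∉ C[pCoreOf 2 c[f]] ∧ k ∈ C[pCoreOf 2 c[f] ⊓ N[W]] := by
  have h' := h.cjK mK
  obtain ⟨t, ht, tW, tc⟩ := h.ex_t fW fU fT f2
  obtain ⟨t', ht', tW', tc'⟩ := h'.ex_t fW fm (h.fTm mK f2 fU fT) f2
  have z : ∀ a ∈ pCoreOf 2 c[f], a ∈ K → a = 1 := fun a ha k => mem_bot.1 (hO.le ⟨ha, h.OK ht tW tc ⟨ha, k⟩⟩)
  have c1 : t ∈ C[pCoreOf 2 c[f] ⊓ N[W]] := mem_cent_iff.2 fun a ha =>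
    cmm (z _ (cmO ha.1 (cO f tc)) (h.a.UK (cmO' (h.tiO ht tW tc ha) ht)))
  have c2 : t' ∈ C[pCoreOf 2 c[f] ⊓ N[W]] := mem_cent_iff.2 fun a ha =>
    cmm (z _ (cmO ha.1 (cO f tc')) (h'.a.UK (cmO' (h'.tiO ht' tW' tc' ha) ht')))
  obtain ⟨j, hj⟩ := exists_pow_coprime (p := 2) (isOfFinOrder_of_finite (t * t'))
  have tK := mul_mem (h.a.UK ht) (h'.a.UK ht')
  have kc := pow_mem (mul_mem tc tc') (2 ^ j)
  refine ⟨h.tiO ht tW tc, _, pow_mem tK _, kc, hj, fun k => ?_, pow_mem (mul_mem c1 c2) _⟩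
  have k1 := z _ (h.loc.inv f2 (fun e => fT (e ▸ one_mem _)) ⟨k, kc⟩) (pow_mem tK _)
  have tn : zpowers t ≤ N[zpowers (t * t')] := zpowers_le.2 (mem_normalizer_iff_conj_eq.2 (by
    rw [conj_zpowers, ← zpowers_inv (g := t * t'), mul_inv_rev, inv_sq (h'.eU _ ht'), ← mul_assoc, h.eU _ ht, one_mul]))
  have := h.a.ti _ (sup_pg (pg_sq (h.eU t ht)) (isPGroup_zpowers k1) tn)
    (sup_le (zpowers_le.2 (h.a.KN tK)) (zpowers_le.2 (h.UW ht))) t (mem_sup_right (mem_zpowers t)) ht tW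
  have t2 := (mul_mem_cancel_left (le_normalizer ht)).1 (this (mem_sup_left (mem_zpowers _)))
  exact tW' (h.TT mK mY (h.two1 (h'.a.UK ht') t2 (h'.eU _ ht')) (h.Tm mK ▸ mem_sup_right ht'))

theorem c3 (gY : g ∈ N[W ⊓ U]) (g2 : g * g = 1) (c : 4 < Nat.card ↥(W ⊓ U)) : 3 ≤ Nat.card ↥(W ⊓ U ⊓ c[g]) := by
  have k1 := card_fx_ge h.eY bot_le gY (mem_N fun _ k => by rw [mem_bot.1 k]; simp) (fun a _ => by simp [g2])
  rw [fx_bot, card_bot, mul_one] at k1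
  by_contra k
  have := Nat.pow_le_pow_left (show Nat.card ↥(W ⊓ U ⊓ c[g]) ≤ 2 by omega) 2
  omega

theorem pick (hD : W ⊓ C[K] = ⊥) (hq : 4 < q) (f2 : f * f = 1) (fW : f ∈ N[W]) (fU : f ∈ N[U]) (gc : g ∈ c[f])
    (e : ∀ w ∈ W ⊓ c[f], g * w * g⁻¹ * w⁻¹ = 1 ∨ g * w * g⁻¹ * w⁻¹ = f) : g ∈ N[W ⊔ U] := by
  have i := card_le_two (A := W ⊓ U ⊓ c[f]) (B := c[g]) fun a ha a1 b hb b1 => by
    have ea := (e a ⟨ha.1.1, ha.2⟩).resolve_left fun k => a1 (mem_cent1.2 (cmm k).symm)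
    have eb := (e b ⟨hb.1.1, hb.2⟩).resolve_left fun k => b1 (mem_cent1.2 (cmm k).symm)
    have ec := mem_cent1.1 (mul_mem ha.2 (Subgroup.inv_mem _ hb.2))
    refine mem_cent1.2 (cmm ?_).symm
    calc _ = g * a * g⁻¹ * a⁻¹ * (a * b⁻¹ * (g * b * g⁻¹ * b⁻¹)⁻¹) * (a * b⁻¹)⁻¹ := by group
      _ = 1 := by rw [ea, eb, inv_sq f2, ec, ← mul_assoc, f2]; group
  have := h.c3 (h.NY (N0_le fW fU)) f2 (by rwa [h.cYq hD])
  obtain ⟨y, hy, y1⟩ := ex_ne (A := W ⊓ U ⊓ c[f] ⊓ c[g]) fun e => by rw [e, card_bot] at i; omega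
  exact h.goodL hD hq hy.1.1 y1 (mem_cent1.2 (mem_cent1.1 hy.2).symm)

theorem noF (hq : W ⊓ C[K] = ⊥ → 4 < q) : NoF W U := fun g gW gU g2 => by_contra fun gT => by
  obtain ⟨t, ht, f2, k⟩ := h.ex_inv (N0_le gW gU) g2
  obtain ⟨⟨m, mK, mY, fm⟩, m', mK', mY', fm'⟩ := k gW
  have fW := mul_mem (h.TW ht) gW
  have fU := mul_mem (h.TU ht) gU
  have fT : t * g ∉ W ⊔ U := fun k => gT ((mul_mem_cancel_left ht).1 k)
  generalize t * g = f at *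
  have a1 := h.fh1 f2 fW fU fT mK mY fm
  have a2 := h.symm.fh1 f2 fU fW (sup_comm W U ▸ fT) mK' mY' fm'
  rw [sup_comm U W] at a2
  have hO := eq_bot_iff.2 ((le_inf (le_inf a1.1 (a1.2 a2.1)) (le_inf a2.1 (a2.2 a1.1))).trans h.DD.le)
  obtain ⟨oU, k, kK, kc, ko, k1, k2⟩ := h.fk f2 fW fU fT mK mY fm hO
  have pO := pCoreOf_isPGroup 2 c[f]
  by_cases hD : W ⊓ C[K] = ⊥
  · obtain ⟨x, hx, xW, e⟩ := Blk.exists_fixed_mod (p := 2) (P := W ⊓ c[f]) (U := N[W]) (h.eW.pg.to_le inf_le_left)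
      (inf_le_left.trans (le_normalizer.trans le_normalizer)) _ pO (inf_le_right.trans (cO f))
      (fun l => k1 (by rwa [inf_eq_left.2 l] at k2))
    have fO : f ∈ pCoreOf 2 c[f] := h.loc.inv f2 (fun e => fT (e ▸ one_mem _))
      ⟨mem_cent_iff.2 fun a ha => mem_cent1.1 (pCoreOf_le 2 _ ha), mem_cent1.2 rfl⟩
    have z : ∀ a ∈ pCoreOf 2 c[f], a ∈ W ⊔ U → a = 1 := fun a ha k => mem_bot.1 (hO.le ⟨ha, k⟩)
    have e2 : ∀ w ∈ W ⊓ c[f], x * w * x⁻¹ * w⁻¹ = 1 ∨ x * w * x⁻¹ * w⁻¹ = f := fun w hw => by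
      have p1 : x * w * x⁻¹ * w⁻¹ ∈ pCoreOf 2 c[f] := cmO hx (cO f hw.2)
      have p2 : x * w * x⁻¹ * w⁻¹ ∈ N[W] := e w hw
      have p3 := cmm (z _ (cmO p1 (cO f hw.2)) (mem_sup_left (cmO' p2 hw.1)))
      have w2 := h.eW w hw.1
      have p4 : x * w * x⁻¹ * w⁻¹ * (x * w * x⁻¹ * w⁻¹) = 1 := by
        calc _ = x * w * x⁻¹ * w⁻¹ * w⁻¹ * (w * (x * w * x⁻¹ * w⁻¹)) := by group
          _ = x * (w * x⁻¹ * (w * w)⁻¹ * x * w) * x⁻¹ := by rw [← p3]; group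
          _ = 1 := by rw [w2, inv_one, mul_one, inv_mul_cancel_right, w2]; group
      generalize x * w * x⁻¹ * w⁻¹ = φ at *
      by_cases e1 : φ = 1
      · exact Or.inl e1
      have c := mem_cent1.1 (pCoreOf_le 2 _ p1)
      have := z _ (mul_mem p1 fO) (h.rank1 p2 (oU ⟨p1, p2⟩) fW fU (fun k => e1 (z _ p1 k)) fT (p4 ▸ one_mem _)
        (f2 ▸ one_mem _) (by rw [mul_assoc, ← mul_assoc f, ← c, mul_assoc, f2, mul_one, p4]; exact one_mem _))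
      exact Or.inr ((eq_inv_of_mul_eq_one_left this).trans (inv_sq f2))
    have h' := h.cjK mK
    have xc := pCoreOf_le 2 _ hx
    have s1 := (h.swap_of (h.pick hD (hq hD) f2 fW fU xc e2) xW).1
    have s2 := (h'.swap_of (h'.pick hD (hq hD) f2 fW fm xc e2) xW).1
    obtain ⟨u, hu, uW⟩ := h.symm.exW
    exact uW (h.TT mK mY (mem_sup_right hu) (h.Tm mK ▸ mem_sup_right (s2 ▸ s1 ▸ hu)))
  · obtain ⟨d, hd, d1⟩ := ex_ne (inf_centralizer_ne_bot (pg_sq f2) (h.eW.pg.to_le inf_le_left)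
      (zpowers_le.2 (h.ND fW)) hD)
    have dc : d ∈ c[f] := mem_cent1.2 (mem_cent_iff.1 hd.2 f (mem_zpowers f)).symm
    refine k1 (zpowers_le.1 (cop_axb Nat.prime_two pO (pg_sq (h.eW d hd.1.1)) (by rwa [Nat.card_zpowers])
      (zpowers_le.2 (cO f dc)) (zpowers_le.2 (cO f kc))
      (zpowers_le.2 (le_centralizer_iff.1 (zpowers_le.2 (centralizer_anti (zpowers_le.2 kK) hd.1.2)) (mem_zpowers k)))
      (zpowers_le.2 (centralizer_anti (inf_le_inf_left _ fun a ha => h.CdW hd.1 d1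
        (mem_cent1.2 (mem_cent_iff.1 ha d (mem_zpowers d)).symm)) k2))))

section
variable (nf : NoF W U) (c4 : 4 < Nat.card ↥(W ⊓ U))
  (gd : ∀ x, W ^ᶜ x = U → U ^ᶜ x = W → ∀ y ∈ W ⊓ U, y ≠ 1 → x ∈ c[y] → c[y] ≤ N[W ⊔ U])
include nf c4 gd

theorem sk1 (hy : y ∈ W ⊓ U) (yN : c[y] ≤ N[W ⊔ U]) (k : g * y * g⁻¹ ∈ N[W ⊔ U]) : g * y * g⁻¹ ∈ W ⊔ U := by
  have s2 := h.eY.conj g _ (conj_mem_conj g hy)
  by_cases s1 : g * y * g⁻¹ ∈ N[W]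
  · exact nf _ s1 (h.ofW k s1) (s2 ▸ one_mem _)
  have h' := h.conj g
  have cN : c[g * y * g⁻¹] ≤ N[W ^ᶜ g ⊔ U ^ᶜ g] := by
    rw [← conj_sup, ← conj_normalizer, ← conj_centralizer_singleton]; exact conj_mono g yN
  obtain ⟨a, ha, a1, aT⟩ := h'.exT (nf.conj g) (h.eY.of_le inf_le_left) (inf_le_right.trans cN) (h.c3 (h.NY k) s2 c4)
  have aN := gd _ (h.swap_of k s1).1 (h.swap_of k s1).2 a ha.1 a1 (mem_cent1.2 (mem_cent1.1 ha.2).symm)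
  have key : ∀ V : Subgroup G, El V → Nat.card V = Nat.card W → a ∈ V → V ≤ W ⊔ U := fun V eV cV hv =>
    (h.wc eV cV fun v k => aN (mem_cent1.2 (eV.comm k hv))).elim (fun e => e.le.trans le_sup_left)
      fun e => e.le.trans le_sup_right
  rcases h'.inv_mem aT (h.eY a ha.1) with e | e
  · exact key _ h'.eW (card_conj _ _) e (conj_mem_conj g hy.1)
  · exact key _ h'.eU ((card_conj _ _).trans h.cUW) e (conj_mem_conj g hy.2)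

theorem sk2 (hs : s ∈ N[W ⊔ U]) (s1 : s ∉ N[W]) (hy : y ∈ W ⊓ U ⊓ c[s]) (y1 : y ≠ 1) (hg : g ∈ c[s])
    (k : g * y * g⁻¹ ∈ N[W ⊔ U]) : g ∈ N[W ⊔ U] := by
  have yN := gd _ (h.swap_of hs s1).1 (h.swap_of hs s1).2 y hy.1 y1 (mem_cent1.2 (mem_cent1.1 hy.2).symm)
  have yY := h.sw_fix hs s1 (h.sk1 nf c4 gd hy.1 yN k) (h.eY.conj g _ (conj_mem_conj g hy.1)) (by
    rw [← mem_cent1.1 (mul_mem (mul_mem hg hy.2) (Subgroup.inv_mem _ hg))]; group)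
  have := h.wcT (g := g⁻¹) (conj_le_iff_le_conj_inv.2 ((h.Tc yY).trans (by
    rw [inv_inv, ← conj_centralizer_singleton]; exact conj_mono g yN)))
  simpa using N[W ⊔ U].inv_mem this

theorem sk3 (hs : s ∈ N[W ⊔ U]) (s1 : s ∉ N[W]) (s2 : s * s = 1) : c[s] ≤ N[W ⊔ U] := fun g hg => by
  have i := h.c3 (h.NY hs) s2 c4
  obtain ⟨y, hy, y1⟩ := ex_ne (A := W ⊓ U ⊓ c[s]) fun e => by rw [e, card_bot] at i; omega
  have pO := pCoreOf_isPGroup 2 c[s]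
  have yN : y ∈ N[W ⊔ U] := le_normalizer (mem_sup_left hy.1.1)
  have oN : pCoreOf 2 c[s] ≤ N[W ⊔ U] := by_contra fun k => by
    obtain ⟨x, hx, xN, e⟩ := Blk.exists_fixed_mod (p := 2) (P := zpowers y) (U := N[W ⊔ U]) (pg_sq (h.eY y hy.1))
      (zpowers_le.2 (le_normalizer yN)) _ pO (zpowers_le.2 (cO s hy.2)) k
    exact xN (h.sk2 nf c4 gd hs s1 hy y1 (pCoreOf_le 2 _ hx)
      ((mul_mem_cancel_right (Subgroup.inv_mem _ yN)).1 (e y (mem_zpowers y))))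
  have s0 : s ≠ 1 := fun e => s1 (e ▸ one_mem _)
  have sO : s ∈ pCoreOf 2 c[s] := h.loc.inv s2 s0
    ⟨mem_cent_iff.2 fun a ha => mem_cent1.1 (pCoreOf_le 2 _ ha), mem_cent1.2 rfl⟩
  have l := nf.le (pO.to_le inf_le_left) inf_le_right fun a ha => h.ofW (oN ha.1) ha.2
  have yO : y ∈ pCoreOf 2 c[s] := h.loc.inv s2 s0 ⟨mem_cent_iff.2 fun a ha => by
    by_cases a1 : a ∈ N[W]
    · exact (h.cY (l ⟨ha, a1⟩) hy.1).symm
    have := mul_mem (h.Tc hy.1 (l ⟨mul_mem ha (Subgroup.inv_mem _ sO), h.sw_mul (oN ha) a1 hs s1⟩))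
      (mem_cent1.2 (mem_cent1.1 hy.2).symm : s ∈ c[y])
    exact mem_cent1.1 (by simpa using this), hy.2⟩
  exact h.sk2 nf c4 gd hs s1 hy y1 hg (oN (nconj (cO s hg) yO))

theorem sk : False := by
  obtain ⟨x, x1, x2, -⟩ := h.sw
  obtain ⟨j, hj, i, hi⟩ := exists_pow_pElement (p := 2) (isOfFinOrder_of_finite x)
  have xN := sw_mem x1 x2
  have x0 : x * x ∈ N[W] := mem_normalizer_iff_conj_eq.2 (by rw [← conj_conj, x1, x2])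
  obtain ⟨l, rfl⟩ := Nat.coprime_two_right.1 hj
  have g1 : x ^ (2 * l + 1) ∉ N[W] := fun k => h.sw_not x1 (by
    rw [pow_succ, pow_mul, pow_two] at k; exact (mul_mem_cancel_left (pow_mem x0 l)).1 k)
  have gN := pow_mem xN (2 * l + 1)
  have g0 : x ^ (2 * l + 1) * x ^ (2 * l + 1) ∈ N[W] := by
    rw [← pow_two, ← pow_mul, mul_comm, pow_mul, pow_two]; exact pow_mem x0 _
  have pg := isPGroup_zpowers (hi ▸ pow_orderOf_eq_one (x ^ (2 * l + 1)))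
  generalize x ^ (2 * l + 1) = g at *
  obtain ⟨t, ht, s2, -⟩ := h.ex_inv gN (nf.le (P := zpowers (g * g))
    (pg.to_le (zpowers_le.2 (mul_mem (mem_zpowers g) (mem_zpowers g)))) (zpowers_le.2 g0)
    (zpowers_le.2 (h.ofW (mul_mem gN gN) g0)) (mem_zpowers _))
  have hs := mul_mem (le_normalizer ht) gN
  have s1 : t * g ∉ N[W] := fun k => g1 ((mul_mem_cancel_left (h.TW ht)).1 k)
  generalize t * g = s at *
  have i := h.c3 (h.NY hs) s2 c4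
  obtain ⟨y, hy, y1⟩ := ex_ne (A := W ⊓ U ⊓ c[s]) fun e => by rw [e, card_bot] at i; omega
  have gd' := gd _ (h.swap_of hs s1).1 (h.swap_of hs s1).2
  have yN := gd' y hy.1 y1 (mem_cent1.2 (mem_cent1.1 hy.2).symm)
  have all : ∀ g : G, g * y * g⁻¹ ∈ W ⊔ U := fun g => by
    rcases FrakL.conj_or_comm (s := g * y * g⁻¹) (t := s)
      (by rw [pow_two]; exact h.eY.conj g _ (conj_mem_conj g hy.1)) (by rw [pow_two, s2]) with ⟨k, e⟩ | ⟨z, z1, z2, z3, z4⟩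
    · have e' : k * g * y * (k * g)⁻¹ = s := by rw [← e]; group
      exact absurd (h.TW (e' ▸ h.sk1 nf c4 gd hy.1 yN (e' ▸ hs))) s1
    rw [pow_two] at z2
    have zN := h.sk3 nf c4 gd hs s1 s2 (mem_cent1.2 z4)
    refine h.sk1 nf c4 gd hy.1 yN ((?_ : c[z] ≤ _) (mem_cent1.2 z3.symm))
    by_cases zW : z ∈ N[W]
    · exact gd' z (h.sw_fix hs s1 (nf z zW (h.ofW zN zW) (z2 ▸ one_mem _)) z2 (by rw [← z4]; group)) z1
        (mem_cent1.2 z4.symm)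
    · exact h.sk3 nf c4 gd zN zW z2
  have all' : ∀ g m : G, g * y * g⁻¹ ∈ (W ⊔ U) ^ᶜ m := fun g m =>
    mem_conj_iff.2 (by have := all (m⁻¹ * g); convert this using 1; group)
  have aY : ∀ g : G, g * y * g⁻¹ ∈ W ⊓ U := fun g => ⟨h.TT h.a.nK h.a.nY (all g) (all' g n),
    h.symm.TT h.b.nK h.b.nY (sup_comm W U ▸ all g) (sup_comm W U ▸ all' g n')⟩
  have aY' : ∀ m : G, y ∈ (W ⊓ U) ^ᶜ m := fun m => mem_conj_iff.2 (by simpa using aY m⁻¹)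
  exact y1 (mem_bot.1 (h.DD.le ⟨⟨hy.1.1, h.a.nY ⟨hy.1, aY' n⟩⟩, hy.1.2,
    h.b.nY (inf_comm W U ▸ ⟨hy.1, aY' n'⟩)⟩))

end

theorem trz (s1 : s ∈ N[W]) (s2 : s ∈ N[U]) (ps : IsPGroup 2 (zpowers s)) (e : ∀ w ∈ W, s * w * s⁻¹ * w⁻¹ ∈ U) :
    s ∈ W ⊔ U := by
  refine h.triv ps (zpowers_le.2 s1) (zpowers_le.2 s2) (fun g hg w hw => ?_) (mem_zpowers s)
  obtain ⟨j, rfl⟩ := mem_powers_iff_mem_zpowers.2 hg
  induction j with
  | zero => simp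
  | succ j ih =>
    have := mul_mem (nconj s2 (ih (pow_mem (mem_zpowers s) j))) (e w hw)
    convert this using 1
    simp only [pow_succ']; group

theorem main [P4.{u}] : SectionalPRankLE 2 4 G := by
  have q4 := h.q4
  by_cases k : W ⊓ C[K] = ⊥ → 4 < q
  · refine (h.sk (h.noF k) ?_ fun x x1 x2 y hy y1 xc => ?_).elim
    · by_cases hD : W ⊓ C[K] = ⊥
      · rw [h.cYq hD]; exact k hD
      · rw [h.a.cY, h.cD hD]; nlinarith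
    · by_cases hD : W ⊓ C[K] = ⊥
      · exact h.goodL hD (k hD) hy y1
      · exact h.goodS hD (h.noF k) hy y1 x1 x2 xc
  obtain ⟨hD, k⟩ := Classical.not_imp.1 k
  obtain rfl : q = 4 := by omega
  obtain ⟨S, hS, l⟩ := exists_isSylowIn_ge (le_top (a := W ⊔ U)) h.pT
  have SN := h.sylN hS.isPGroup l
  have cW : Nat.card W = 16 := by rw [h.a.cW, h.cYq hD]
  refine P4.out hS (le_sup_left.trans l) (le_sup_right.trans l) h.eW h.eU cW (h.cUW.trans cW) (h.cYq hD) h.WU h.UW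
    (fun w hw w1 u hu u1 => h.nc hw w1 hu u1) (fun s hs => h.dich (SN hs)) fun s hs s1 sT => ?_
  have s2 := h.ofW (SN hs) s1
  have ps := hS.isPGroup.to_le (zpowers_le.2 hs)
  refine ⟨by_contra fun e => sT (h.a.cent s ⟨s1, s2⟩ (isPGroup_iff_forall_mem.1 hS.isPGroup s hs) fun y hy => ?_),
    by_contra fun e => sT (h.trz s1 s2 ps fun w hw => by_contra fun k => e ⟨w, hw, k⟩),
    by_contra fun e => sT (sup_comm U W ▸ h.symm.trz s2 s1 ps fun w hw => by_contra fun k => e ⟨w, hw, k⟩)⟩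
  have : s * y = y * s := by_contra fun k => e ⟨y, hy, k⟩
  rw [this]; simp

end Bi

end Cfsg.Agent.Lib.AP
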