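import Mathlib
import Cfsg.Agent.Lib.ZStar2
import Cfsg.Agent.Lib.FTBase5
import Cfsg.Agent.Lib.FusionControl

/-!
Glauberman's theorem on automorphisms centralizing a Sylow `2`-subgroup: if `N ⊴ X`,
`C_X(N) = 1` and `O(N) = 1`, then the derived subgroup of `C_X(S)` has odd order for `S` Sylow
in `N`.
-/

set_option autoImplicit false

namespace Cfsg.Agent.Lib.AutSylow

open scoped commutatorElement
open Subgroup Cfsg.Agent.Lib.PCoreConj Cfsg.Agent.Lib.PCore Cfsg.Agent.Lib.PCoreResidual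
  Cfsg.Agent.Lib.FTDefs

variable {X : Type*} [Group X] {N P S C : Subgroup X} {t : X}

instance factTwo : Fact (Nat.Prime 2) := ⟨Nat.prime_two⟩

/-- every `2`-element of `C_N(P)` lies in `P` -/
def Cen (N P : Subgroup X) : Prop := ∀ x ∈ N, x ∈ C[P] → (∃ k, x ^ 2 ^ k = 1) → x ∈ P

theorem Cen.sylow (h : Cen N P) (hP : IsPGroup 2 P) (hPN : P ≤ N) :
    IsSylowIn 2 (P ⊓ C[P]) (N ⊓ C[P]) :=
  ⟨inf_le_inf_right _ hPN, hP.to_le inf_le_left, fun Q h1 h2 h3 => le_antisymm (fun x hx =>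
    mem_inf.2 ⟨h x (h1 hx).1 (h1 hx).2 (by
      obtain ⟨k, hk⟩ := h2 ⟨x, hx⟩
      exact ⟨k, congrArg Subtype.val hk⟩), (h1 hx).2⟩) h3⟩

theorem Cen.sup_eq [Finite X] (h : Cen N P) (hP : IsPGroup 2 P) (hPN : P ≤ N) :
    pPrimeCoreOf 2 (N ⊓ C[P]) ⊔ (P ⊓ C[P]) = N ⊓ C[P] :=
  ((npc_of_norm_le_cent Nat.prime_two (h.sylow hP hPN)
    (inf_le_left.trans (inf_le_right.trans (centralizer_anti inf_le_left)))).sdp Nat.prime_two
      (h.sylow hP hPN)).sup

theorem norm_core [N.Normal] (P : Subgroup X) : N[P] ≤ N[pPrimeCoreOf 2 (N ⊓ C[P])] :=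
  (le_normalizer_inf le_normalizer_of_normal (normalizer_le_normalizer_centralizer P)).trans
    (normalizer_le_normalizer_pPrimeCoreOf 2 _)

theorem Cen.comm_le' [Finite X] [N.Normal] (h : Cen N P) (hP : IsPGroup 2 P) (hPN : P ≤ N)
    (hC : C ≤ C[P]) : ⁅N ⊓ C[P], C⁆ ≤ pPrimeCoreOf 2 (N ⊓ C[P]) := by
  have hn := norm_core (N := N) P
  rw [commutator_comm]
  conv_lhs => rw [← h.sup_eq hP hPN]
  refine commutator_sup_le le_normalizer (inf_le_left.trans (le_normalizer.trans hn))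
    (commutator_le_right_of_le_normalizer (hC.trans ((centralizer_le_normalizer _).trans hn))) ?_
  rw [commutator_comm, commutator_eq_bot_iff_le_centralizer'.2 (hC.trans (centralizer_anti inf_le_left))]
  exact bot_le

theorem Cen.comm_le [Finite X] [N.Normal] (h : Cen N P) (hP : IsPGroup 2 P) (hPN : P ≤ N)
    (hC : C ≤ C[P]) : ⁅⁅C, C⁆, N ⊓ N[P]⁆ ≤ pPrimeCoreOf 2 (N ⊓ C[P]) := by
  have hn := norm_core (N := N) P
  have hC' := hC.trans ((centralizer_le_normalizer _).trans hn)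
  have h1 : ⁅N ⊓ N[P], C⁆ ≤ N ⊓ C[P] := le_inf
    ((commutator_mono inf_le_left le_rfl).trans (commutator_le_left _ _))
    ((commutator_mono le_rfl hC).trans (commutator_le_right_of_le_normalizer
      (inf_le_right.trans (normalizer_le_normalizer_centralizer P))))
  have h2 := (commutator_mono h1 le_rfl).trans (h.comm_le' hP hPN hC)
  exact three_subgroups hC' hC' (inf_le_right.trans hn) (by rwa [commutator_comm C (N ⊓ N[P])]) h2

theorem isolated [Finite X] [hN : N.Normal] {k : ℕ} (ht : t ^ 2 ^ k = 1) (hX : N ⊔ zpowers t = ⊤)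
    (hS : IsSylowIn 2 S N) (htS : t ∈ C[S])
    (hloc : ∀ P ≤ S, Cen N P → ∀ a ∈ N, a ∈ N[P] → Odd (orderOf ⁅t, a⁆)) : IsIsolated t := by
  have hz : IsPGroup 2 (zpowers t) := by
    obtain ⟨j, -, hj⟩ := (Nat.dvd_prime_pow Nat.prime_two).1 (orderOf_dvd_of_pow_eq_one ht)
    exact IsPGroup.of_card (n := j) (by rw [Nat.card_zpowers, hj])
  have hR : IsSylowIn 2 (zpowers t ⊔ S) ⊤ := by
    have := (isSylowIn_self hz).sup hS le_normalizer_of_normal
      (zpowers_le.2 (centralizer_le_normalizer _ htS))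
    rwa [sup_comm _ N, hX] at this
  generalize hRe : zpowers t ⊔ S = R at hR
  have tR : t ∈ R := hRe ▸ mem_sup_left (mem_zpowers t)
  have Rt : R ≤ c[t] := hRe ▸ sup_le (zpowers_le.2 (self_mem_cent1 t)) (le_cent1_iff.2 htS)
  have RN : R ⊓ N = S := hS.eq_of_le inf_le_right (hR.isPGroup.to_le inf_le_left)
    (le_inf (hRe ▸ le_sup_right) hS.le)
  have dec : ∀ x : X, ∃ n ∈ N, ∃ i : ℤ, n * t ^ i = x := fun x => by
    obtain ⟨n, hn, _, ⟨i, rfl⟩, e⟩ := (mem_sup_iff_of_le_normalizer'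
      (le_normalizer_of_normal : zpowers t ≤ N[N])).1 (hX ▸ mem_top x)
    exact ⟨n, hn, i, e⟩
  have key : ∀ D ≤ R, (∀ g, R ⊓ C[D ^ᶜ g] ≤ D ^ᶜ g) → N[D] ≤ c[t] := fun D hD hc => by
    have tD : ∀ g, D ^ᶜ g ≤ R → t ∈ D ^ᶜ g := fun g hg =>
      hc g (mem_inf.2 ⟨tR, le_cent1_iff.1 (hg.trans Rt)⟩)
    have tD1 : t ∈ D := conj_one D ▸ tD 1 ((conj_one D).symm ▸ hD)
    have hDP : N[D] ≤ N[D ⊓ N] := le_normalizer_inf le_rfl le_normalizer_of_normal
    have cen : Cen N (D ⊓ N) := fun x hx hxc ⟨j, hj⟩ => by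
      obtain ⟨U, hU, hDU⟩ := exists_isSylowIn_ge (le_normalizer.trans hDP) (hR.isPGroup.to_le hD)
      obtain ⟨m, hm, hy⟩ := (hU.inf_normal (N := N ⊓ C[D ⊓ N])
        (inf_le_right.trans (centralizer_le_normalizer _))
        (le_normalizer_inf le_normalizer_of_normal
          (normalizer_le_normalizer_centralizer _))).exists_conj_mem (mem_inf.2 ⟨hx, hxc⟩) hj
      generalize hye : m * x * m⁻¹ = y at hy
      obtain ⟨g, -, hg⟩ := hR.exists_conj_le le_top hU.isPGroup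
      have hDg := (conj_mono g hDU).trans hg
      have y1 : g * y * g⁻¹ ∈ R := hg (conj_mem_conj g hy.1)
      have y2 : y ∈ D := conj_mem_conj_iff.1 (hc g (mem_inf.2 ⟨y1, fun d hd => by
        obtain ⟨n, hn, i, rfl⟩ := dec d
        have n1 : n ∈ D ^ᶜ g := by
          simpa using mul_mem hd (inv_mem (zpow_mem (tD g hDg) i))
        have c1 := hy.2.2 _ (mem_inf.2 ⟨mem_conj_iff.1 n1, by
          simpa using hN.conj_mem n hn g⁻¹⟩)
        have c2 : Commute (t ^ i) (g * y * g⁻¹) := (Commute.zpow_left (mem_cent1.1 (Rt y1)).symm i)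
        have c3 : n * (g * y * g⁻¹) = g * y * g⁻¹ * n := by
          calc _ = g * (g⁻¹ * n * g * y) * g⁻¹ := by group
            _ = _ := by rw [c1]; group
        rw [mul_assoc n, c2.eq, ← mul_assoc n, c3, mul_assoc _ n]⟩))
      have y3 : y ∈ D ⊓ N := mem_inf.2 ⟨y2, hy.2.1⟩
      have : x = y := by
        have := hm.2 y y3
        rw [← mul_left_inj m⁻¹, mul_assoc, mul_inv_cancel, mul_one] at this
        rw [← mul_right_inj m, ← mul_left_inj m⁻¹, hye, ← this]
      exact this ▸ y3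
    intro n hn
    obtain ⟨a, ha, i, rfl⟩ := dec n
    have a1 : a ∈ N[D] := by simpa using mul_mem hn (inv_mem (zpow_mem (le_normalizer tD1) i))
    have a2 : ⁅t, a⁆ ∈ D := by
      simpa only [commutatorElement_def, mul_assoc] using
        mul_mem tD1 ((mem_normalizer_iff.1 a1 _).1 (inv_mem tD1))
    obtain ⟨j, hj⟩ := hR.isPGroup ⟨_, hD a2⟩
    have a3 : ⁅t, a⁆ = 1 := orderOf_eq_one_iff.1 (Nat.Coprime.eq_one_of_dvd
      (Nat.Coprime.pow_right j (Nat.coprime_two_right.2 (hloc _ (RN ▸ inf_le_inf_right N hD) cen a ha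
        (hDP a1)))) (orderOf_dvd_of_pow_eq_one (congrArg Subtype.val hj)))
    exact mul_mem (mem_cent1.2 (commutatorElement_eq_one_iff_mul_comm.1 a3).symm)
      (zpow_mem (self_mem_cent1 t) i)
  intro g hg
  obtain ⟨c, hc, h1⟩ := (hR.of_le Rt le_top).exists_conj_mem (x := g * t * g⁻¹) (k := k)
    (mem_cent1.2 hg.symm) (by rw [conj_pow, ht]; simp)
  obtain ⟨x, hx, h2⟩ := TransferAlperin.inducedBy_of_local hR.toSylowTop c[t]
    (fun n hn => .of_mem (key R le_rfl (fun _ => FusionControl.centric_conj hR.isPGroup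
      (TransferAlperin.isExtremal_self hR.toSylowTop) inf_le_left) hn))
    (fun D hD he hcr n hn => .of_mem (key D hD.le (fun _ => FusionControl.centric_conj hR.isPGroup
      he (hcr.centric hD.le)) hn)) (zpowers t) (c * g) (zpowers_le.2 tR) (by
        change zpowers t ^ᶜ (c * g) ≤ R
        rw [conj_zpowers, zpowers_le]
        simpa only [mul_assoc, mul_inv_rev] using h1)
  have h3 := h2 t (mem_zpowers t)
  rw [mem_cent1.1 hx, mul_inv_cancel_right] at h3
  calc _ = c⁻¹ * (c * g * t * (c * g)⁻¹) * c := by group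
    _ = _ := by rw [h3, mul_assoc, ← mem_cent1.1 hc]; group

/-- a `2`-element of the derived subgroup of `C_X(S)` centralizes `N` -/
theorem mem_cent [Finite X] [hN : N.Normal]
    (hO : ∀ W ≤ N, N ≤ N[W] → Odd (Nat.card W) → W = ⊥) (hS : IsSylowIn 2 S N)
    {k : ℕ} (ht : t ^ 2 ^ k = 1) (h : t ∈ ⁅C[S], C[S]⁆) : t ∈ C[N] := by
  have htS : t ∈ C[S] := der_le _ h
  set H := N ⊔ zpowers t with hH
  have NH : N ≤ H := le_sup_left
  have tH : t ∈ H := mem_sup_right (mem_zpowers t)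
  have iso : IsIsolated (⟨t, tH⟩ : H) := isolated (N := N.subgroupOf H) (S := S.subgroupOf H) (k := k)
    (Subtype.ext ht) (by
      apply map_injective H.subtype_injective
      rw [Subgroup.map_sup, subgroupOf_map_subtype_of_le NH, MonoidHom.map_zpowers,
        ← MonoidHom.range_eq_map, range_subtype]; rfl)
    (hS.subgroupOf NH) (fun s hs => Subtype.ext (htS s hs)) fun P hP hc a ha han => by
      have h1 : P.map H.subtype ≤ S := map_le_iff_le_comap.2 hP
      have h2 : Cen N (P.map H.subtype) := fun x hx hxc ⟨j, hj⟩ =>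
        ⟨⟨x, NH hx⟩, hc _ hx (fun s hs => Subtype.ext (hxc s ⟨s, hs, rfl⟩)) ⟨j, Subtype.ext hj⟩, rfl⟩
      have h3 := h2.comm_le (hS.isPGroup.to_le h1) (h1.trans hS.le) (centralizer_anti h1)
        (commutator_mem_commutator h (mem_inf.2 ⟨ha, by
          rw [normalizer_eq_subgroupOf] at han; exact han⟩))
      rw [← orderOf_injective H.subtype H.subtype_injective, map_commutatorElement]
      exact Nat.coprime_two_right.1 ((piSub_pPrimeCoreOf Nat.prime_two _).piElt h3 |>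
        (piElt_compl_singleton_iff Nat.prime_two).1)
  have hz := ZStar2.zstar' k H _ (Subtype.ext ht) iso
  have e : N ⊓ (pPrimeCore 2 H).map H.subtype = ⊥ := hO _ inf_le_left
    (le_normalizer_inf le_normalizer (NH.trans (le_normalizer_map_subtype _)))
    (odd_of_le (odd_map (Nat.coprime_two_right.1 (coprime_card_pPrimeCore 2 H)) _) inf_le_right)
  intro n hn
  have : n * t * n⁻¹ * t⁻¹ ∈ N ⊓ (pPrimeCore 2 H).map H.subtype := mem_inf.2 ⟨by
    simpa only [mul_assoc] using mul_mem hn (hN.conj_mem _ (inv_mem hn) t),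
    ⟨_, hz ⟨n, NH hn⟩, rfl⟩⟩
  rw [e, mem_bot, mul_inv_eq_one, mul_inv_eq_iff_eq_mul] at this
  exact this

end Cfsg.Agent.Lib.AutSylow
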