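import Mathlib
import Cfsg.Agent.Lib.AutSylowA
import Cfsg.Agent.Lib.FStarAct
import Cfsg.Agent.Lib.PCoreMod
import Cfsg.Prelude.Def_KGroupFacts

/-!
Solvability of `X / N` for `N ⊴ X` with `C_X(N) = 1`, `O(N) = 1`: derived series bookkeeping and
the passage to `Aut(G)`.
-/

set_option autoImplicit false

namespace Cfsg.Agent.Lib.AutSylow

open scoped commutatorElement
open Subgroup Cfsg.Agent.Lib.PCoreConj Cfsg.Agent.Lib.PCore Cfsg.Agent.Lib.PCoreResidual
  Cfsg.Agent.Lib.FTDefs

variable {X : Type*} [Group X] {N P S T C A B K L : Subgroup X} {t : X}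

/-- the derived series of a subgroup -/
def dser (n : ℕ) (B : Subgroup X) : Subgroup X := (fun H : Subgroup X => ⁅H, H⁆)^[n] B

theorem dser_succ (n : ℕ) (B : Subgroup X) : dser (n + 1) B = ⁅dser n B, dser n B⁆ :=
  Function.iterate_succ_apply' _ _ _

theorem dser_add (m n : ℕ) (B : Subgroup X) : dser (m + n) B = dser m (dser n B) :=
  Function.iterate_add_apply _ _ _ _

theorem dser_mono (n : ℕ) (h : A ≤ B) : dser n A ≤ dser n B := by
  induction n with
  | zero => exact h
  | succ n ih => rw [dser_succ, dser_succ]; exact der_mono ih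

theorem dser_le (n : ℕ) (B : Subgroup X) : dser n B ≤ B := by
  induction n with
  | zero => exact le_rfl
  | succ n ih => rw [dser_succ]; exact (der_le _).trans ih

theorem norm_dser (n : ℕ) (B : Subgroup X) : N[B] ≤ N[dser n B] := by
  induction n with
  | zero => exact le_rfl
  | succ n ih => rw [dser_succ]; exact ih.trans (normalizer_le_normalizer_der _)

theorem map_dser {Y : Type*} [Group Y] (f : X →* Y) (n : ℕ) (B : Subgroup X) :
    (dser n B).map f = dser n (B.map f) := by
  induction n with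
  | zero => rfl
  | succ n ih => rw [dser_succ, dser_succ, map_commutator, ih]

theorem pim_dser {Y : Type*} [Group Y] {D : Subgroup X} (f : D →* Y) (n : ℕ) (h : B ≤ D) :
    pim f (dser n B) = dser n (pim f B) := by
  induction n with
  | zero => rfl
  | succ n ih =>
    rw [dser_succ, dser_succ, pim_comm ((dser_le n B).trans h) ((dser_le n B).trans h), ih]

theorem dser_top (n : ℕ) : dser n (⊤ : Subgroup X) = derivedSeries X n := by
  induction n with
  | zero => rfl
  | succ n ih => rw [dser_succ, ih, derivedSeries_succ]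

theorem dser_of_perfect (h : ⁅K, K⁆ = K) (n : ℕ) : dser n K = K := by
  induction n with
  | zero => rfl
  | succ n ih => rw [dser_succ, ih, h]

/-- `B` is solvable modulo `L` -/
def SolvMod (B L : Subgroup X) : Prop := ∃ n, dser n B ≤ L

theorem SolvMod.of_le (h : B ≤ L) : SolvMod B L := ⟨0, h⟩

theorem SolvMod.trans (h : SolvMod A B) (h' : SolvMod B L) : SolvMod A L := by
  obtain ⟨m, hm⟩ := h
  obtain ⟨n, hn⟩ := h'
  exact ⟨n + m, (dser_add n m A).le.trans ((dser_mono n hm).trans hn)⟩

theorem SolvMod.der (B : Subgroup X) : SolvMod B ⁅B, B⁆ := ⟨1, le_rfl⟩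

theorem SolvMod.inf (h : SolvMod B L) : SolvMod B (B ⊓ L) :=
  h.imp fun n hn => le_inf (dser_le n B) hn

theorem SolvMod.le (h : SolvMod K L) (hK : ⁅K, K⁆ = K) : K ≤ L := by
  obtain ⟨n, hn⟩ := h
  rwa [dser_of_perfect hK] at hn

theorem solvMod_bot_iff : SolvMod B ⊥ ↔ Group.IsSolvable B := by
  rw [isSolvable_def]
  refine exists_congr fun n => ?_
  rw [← dser_top, le_bot_iff, ← map_eq_bot_iff_of_injective _ B.subtype_injective, map_dser,
    ← MonoidHom.range_eq_map, range_subtype]

theorem SolvMod.of_solv (h : Group.IsSolvable B) (L : Subgroup X) : SolvMod B L :=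
  (solvMod_bot_iff.2 h).trans (.of_le bot_le)

theorem SolvMod.solv (h : SolvMod B L) (h' : Group.IsSolvable L) : Group.IsSolvable B :=
  solvMod_bot_iff.1 (h.trans (.of_solv h' _))

theorem SolvMod.of_pim {Y : Type*} [Group Y] {D : Subgroup X} {f : D →* Y} (hB : B ≤ D)
    (hL : L ≤ D) (h : SolvMod (pim f B) (pim f L)) : SolvMod B (L ⊔ pker f) :=
  h.imp fun n hn => (pim_le_pim_iff ((dser_le n B).trans hB) hL).1 (pim_dser f n hB ▸ hn)

theorem SolvMod.of_hom {Y : Type*} [Group Y] (f : B →* Y) (h : Group.IsSolvable f.range) :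
    SolvMod B (pker f) := by
  have := SolvMod.of_pim (f := f) le_rfl bot_le (.of_solv (pim_dom f ▸ h) _)
  rwa [bot_sup_eq] at this

theorem SolvMod.sup [N.Normal] (h : SolvMod B (N ⊔ L)) : SolvMod (N ⊔ B) (N ⊔ L) :=
  h.imp fun n hn => by
    have e : ∀ H : Subgroup X, (N ⊔ H).map (QuotientGroup.mk' N) = H.map (QuotientGroup.mk' N) :=
      fun H => by
        rw [Subgroup.map_sup, (map_eq_bot_iff N).2 (QuotientGroup.ker_mk' N).ge, bot_sup_eq]
    have := map_mono (f := QuotientGroup.mk' N) hn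
    rw [map_dser, ← e B, ← map_dser, Subgroup.map_le_map_iff, QuotientGroup.ker_mk'] at this
    exact this.trans (sup_le le_rfl le_sup_left)

theorem SolvMod.quotient [N.Normal] (h : SolvMod ⊤ N) : Group.IsSolvable (X ⧸ N) := by
  obtain ⟨n, hn⟩ := h
  refine ⟨⟨n, ?_⟩⟩
  rw [← dser_top, ← map_top_of_surjective _ (QuotientGroup.mk'_surjective N), ← map_dser,
    Subgroup.map_eq_bot_iff, QuotientGroup.ker_mk']
  exact hn

theorem SolvMod.of_perfect [Finite X]
    (h : ∀ K ≤ B, N[B] ≤ N[K] → ⁅K, K⁆ = K → K ≤ L) : SolvMod B L := by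
  obtain ⟨_, ⟨n, rfl⟩, hm⟩ := (wellFounded_lt (α := Subgroup X)).has_min
    (Set.range fun n => dser n B) ⟨_, 0, rfl⟩
  refine ⟨n, h _ (dser_le n B) (norm_dser n B) ?_⟩
  by_contra e
  exact hm _ ⟨n + 1, dser_succ n B⟩ (lt_of_le_of_ne (der_le _) e)

theorem odd_of_forall [Finite X] (h : ∀ t ∈ B, t ^ 2 = 1 → t = 1) : Odd (Nat.card B) := by
  rw [← Nat.not_even_iff_odd, even_iff_two_dvd]
  intro e
  obtain ⟨x, hx⟩ := exists_prime_orderOf_dvd_card' 2 e
  have h1 : x = 1 := Subtype.ext (h x x.2 (by rw [← coe_pow, ← hx, pow_orderOf_eq_one]; rfl))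
  rw [h1, orderOf_one] at hx
  exact absurd hx (by norm_num)

/-- the standing hypothesis -/
structure Setup (N S : Subgroup X) : Prop where
  normal : N.Normal
  cent : C[N] = ⊥
  odd : ∀ W ≤ N, N ≤ N[W] → Odd (Nat.card W) → W = ⊥
  syl : IsSylowIn 2 S N

namespace Setup

variable [Finite X]

theorem solv_cent (h : Setup N S) (hFT : OddOrder) : Group.IsSolvable C[S] := by
  haveI := h.normal
  exact (SolvMod.der _).solv (hFT.solvable (odd_of_forall fun t ht e =>
    mem_bot.1 (h.cent ▸ mem_cent h.odd h.syl (k := 1) (by simpa using e) ht)))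

theorem solv_cent' (h : Setup N S) (hFT : OddOrder) (hT : T ≤ S) (hn : S ≤ N[T]) (hc : Cen N T) :
    Group.IsSolvable C[T] := by
  haveI := h.normal
  have h1 := (commutator_mono le_rfl (le_inf h.syl.le hn)).trans
    (hc.comm_le (h.syl.isPGroup.to_le hT) (hT.trans h.syl.le) le_rfl)
  have h2 := norm_core (N := N) T
  have h3 := coprime_card_pPrimeCoreOf 2 (N ⊓ C[T])
  generalize pPrimeCoreOf 2 (N ⊓ C[T]) = O at h1 h2 h3
  have hO : Group.IsSolvable O := hFT.solvable (Nat.coprime_two_right.1 h3)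
  have h4 : ⁅C[T], C[T]⁆ ≤ N[O] := (der_le _).trans ((centralizer_le_normalizer _).trans h2)
  have h5 : ⁅S, ⁅C[T], C[T]⁆ ⊔ O⁆ ≤ O := commutator_sup_le h4 le_normalizer
    (by rwa [commutator_comm S]) (commutator_le_right_of_le_normalizer (hn.trans h2))
  have h6 := cop_sup_cent_of_comm_le (coprime_of_isPGroup_left Nat.prime_two h.syl.isPGroup h3).symm
    (Or.inr hO) (K := ⁅C[T], C[T]⁆ ⊔ O) (by rwa [commutator_comm S] at h5) le_sup_right
  exact (SolvMod.der _).solv (solv_of_le (h6 ▸ solv_sup hO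
    (solv_of_le (h.solv_cent hFT) inf_le_right) (inf_le_left.trans (sup_le h4 le_normalizer)))
    le_sup_left)

theorem of_norm (h : Setup N S) (hFT : OddOrder) (hs : SolvMod N[S] C[S]) : SolvMod ⊤ N := by
  haveI := h.normal
  have := ((hs.trans (.of_solv (h.solv_cent hFT) (N ⊔ ⊥))).sup)
  rwa [h.syl.frattini_top, sup_bot_eq] at this

end Setup

theorem solvMod_cent (h : Group.IsSolvable (MulAut S)) : SolvMod N[S] C[S] :=
  (SolvMod.of_hom (conjAct (le_refl N[S])) inferInstance).trans (.of_le (by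
    rw [pker, ker_conjAct, subgroupOf_map_subtype]; exact inf_le_left))

section aut

variable {G : Type*} [Group G] [Finite G] [IsSimpleGroup G]

omit [Finite G] in
theorem conj_injective (hG : ¬ IsMulCommutative G) :
    Function.Injective (MulAut.conj : G →* MulAut G) := by
  rw [injective_iff_map_eq_one]
  intro a ha
  rcases IsSimpleGroup.eq_bot_or_eq_top_of_normal (center G) inferInstance with e | e
  · exact mem_bot.1 (e ▸ mem_center_iff.2 fun g => by
      have := DFunLike.congr_fun ha g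
      rw [MulAut.conj_apply, MulAut.one_apply, mul_inv_eq_iff_eq_mul] at this
      exact this.symm)
  · exact absurd ⟨⟨fun a b => (mem_center_iff.1 (e ▸ mem_top b) a)⟩⟩ hG

theorem setup_aut (hG : ¬ IsMulCommutative G) (S : Sylow 2 G) (hS : (S : Subgroup G) ≠ ⊥) :
    Setup (Inn G) ((S : Subgroup G).map MulAut.conj) where
  normal := inferInstance
  cent := eq_bot_iff.2 fun φ hφ => mem_bot.2 (MulEquiv.ext fun g => conj_injective hG (by
    have := hφ _ ⟨g, rfl⟩
    ext x
    simpa using (DFunLike.congr_fun this (φ⁻¹ x)).symm))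
  odd W h1 h2 h3 := by
    haveI : (W.comap MulAut.conj).Normal := normal_iff_top_le.2 (by
      have := le_normalizer_comap MulAut.conj h2
      rwa [Inn, MonoidHom.range_eq_map, comap_map_eq_self_of_injective (conj_injective hG)] at this)
    rcases IsSimpleGroup.eq_bot_or_eq_top_of_normal (W.comap MulAut.conj) inferInstance with e | e
    · rw [← map_comap_eq_self h1, e, Subgroup.map_bot]
    · have h4 : (S : Subgroup G).map MulAut.conj ≤ W := map_le_iff_le_comap.2 (e ▸ le_top)
      have h5 := (inf_eq_bot_of_cop (coprime_of_isPGroup_left Nat.prime_two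
        (S.isPGroup'.map MulAut.conj) (Nat.coprime_two_right.2 h3)))
      rw [inf_eq_left.2 h4, map_eq_bot_iff_of_injective _ (conj_injective hG)] at h5
      exact absurd h5 hS
  syl := by rw [Inn, MonoidHom.range_eq_map]; exact (isSylowIn_top S).map _

theorem out_solvable (hFT : OddOrder) (hG : ¬ IsMulCommutative G) (S : Sylow 2 G)
    (hS1 : (S : Subgroup G) ≠ ⊥) (hS : Group.IsSolvable (MulAut S)) : Group.IsSolvable (Out G) := by
  refine ((setup_aut hG S hS1).of_norm hFT (solvMod_cent ?_)).quotient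
  exact solvable_of_surjective (f := (MulAut.congr
    ((S : Subgroup G).equivMapOfInjective _ (conj_injective hG))).toMonoidHom) (MulEquiv.surjective _)

end aut

end Cfsg.Agent.Lib.AutSylow
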