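import Mathlib
import Cfsg.Agent.Lib.BurnsidePQ

/-! Solvable normal subgroups of perfect groups act by scalars in dimension two. -/

set_option autoImplicit false
set_option linter.style.haveILetI false

namespace Cfsg.Agent.Lib.GL2Solv

open Subgroup
open scoped commutatorElement

theorem hom_eq_one_of_solvable {X S : Type*} [Group X] [Group S] [Group.IsPerfect X]
    [Group.IsSolvable S] (f : X →* S) (x : X) : f x = 1 := by
  have : Group.IsPerfect f.range := Group.IsPerfect.range f
  by_contra h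
  have : Nontrivial f.range := ⟨⟨⟨f x, x, rfl⟩, 1, fun e => h (congrArg Subtype.val e)⟩⟩
  exact Group.IsPerfect.not_isSolvable f.range inferInstance

theorem hom_eq_one_of_commute {X M : Type*} [Group X] [Monoid M] [Group.IsPerfect X]
    (f : X →* M) (h : ∀ x y, f x * f y = f y * f x) (x : X) : f x = 1 := by
  have h1 : commutator X ≤ f.toHomUnits.ker := by
    rw [commutator_def, commutator_le]
    intro a _ b _
    rw [MonoidHom.mem_ker, map_commutatorElement, commutatorElement_eq_one_iff_mul_comm]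
    exact Units.ext (h a b)
  have := h1 (Group.IsPerfect.mem_commutator (g := x))
  exact congrArg Units.val this

theorem solvable_mulAut_of_card_le_four {A : Type*} [Group A] [Finite A] (h : Nat.card A ≤ 4) :
    Group.IsSolvable (MulAut A) := by
  have h1 : Nat.card (MulAut A) ∣ Nat.card (Equiv.Perm A) :=
    card_dvd_of_injective (MulAut.toPerm A) (fun a b e => MulEquiv.ext fun x => congrArg (· x) e)
  rw [Nat.card_perm] at h1
  exact BurnsidePQ.isSolvable_of_card_dvd (p := 2) (q := 3) (a := 3) (b := 1) Nat.prime_two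
    Nat.prime_three (h1.trans (Nat.factorial_dvd_factorial h))

variable {F : Type*} [Field F]

theorem exists_eq_of_commute (a c : Matrix (Fin 2) (Fin 2) F) (ha : ∀ r : F, a ≠ r • 1)
    (h : c * a = a * c) : ∃ α β : F, c = α • a + β • 1 := by
  have h00 := congrFun (congrFun h 0) 0
  have h01 := congrFun (congrFun h 0) 1
  have h10 := congrFun (congrFun h 1) 0
  simp only [Matrix.mul_apply, Fin.sum_univ_two] at h00 h01 h10
  by_cases hq : a 0 1 = 0
  · by_cases hr : a 1 0 = 0
    · have hp : a 0 0 - a 1 1 ≠ 0 := by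
        intro hp
        apply ha (a 0 0)
        ext i j
        fin_cases i <;> fin_cases j <;> simp [hq, hr]
        exact (sub_eq_zero.1 hp).symm
      refine ⟨(c 0 0 - c 1 1) / (a 0 0 - a 1 1),
        c 1 1 - (c 0 0 - c 1 1) / (a 0 0 - a 1 1) * a 1 1, ?_⟩
      ext i j
      fin_cases i <;> fin_cases j <;> simp [hq, hr]
      · field_simp; ring
      · rw [hq] at h01
        have : c 0 1 * (a 0 0 - a 1 1) = 0 := by linear_combination -h01
        exact (mul_eq_zero.1 this).resolve_right hp
      · rw [hr] at h10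
        have : c 1 0 * (a 0 0 - a 1 1) = 0 := by linear_combination h10
        exact (mul_eq_zero.1 this).resolve_right hp
    · refine ⟨c 1 0 / a 1 0, c 1 1 - c 1 0 / a 1 0 * a 1 1, ?_⟩
      ext i j
      fin_cases i <;> fin_cases j <;> simp
      · field_simp; linear_combination -h10
      · field_simp; linear_combination h00
      · field_simp
  · refine ⟨c 0 1 / a 0 1, c 1 1 - c 0 1 / a 0 1 * a 1 1, ?_⟩
    ext i j
    fin_cases i <;> fin_cases j <;> simp
    · field_simp; linear_combination h01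
    · field_simp
    · field_simp; linear_combination -h00

theorem commute_of_commute {a c d : Matrix (Fin 2) (Fin 2) F} (ha : ∀ r : F, a ≠ r • 1)
    (hc : c * a = a * c) (hd : d * a = a * d) : c * d = d * c := by
  obtain ⟨α, β, rfl⟩ := exists_eq_of_commute a c ha hc
  obtain ⟨γ, δ, rfl⟩ := exists_eq_of_commute a d ha hd
  simp only [add_mul, mul_add, smul_mul_assoc, mul_smul_comm, one_mul, mul_one, smul_smul, smul_add]
  module

theorem coeff_unique {a : Matrix (Fin 2) (Fin 2) F} (ha : ∀ r : F, a ≠ r • 1) {α β γ δ : F}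
    (h : α • a + β • 1 = γ • a + δ • 1) : α = γ := by
  by_contra hne
  have h1 : (α - γ) • a = (δ - β) • (1 : Matrix (Fin 2) (Fin 2) F) := by
    rw [sub_smul, sub_smul, sub_eq_sub_iff_add_eq_add, h, add_comm]
  apply ha ((α - γ)⁻¹ * (δ - β))
  rw [mul_smul, ← h1, smul_smul, inv_mul_cancel₀ (sub_ne_zero.2 hne), one_smul]

variable {X : Type*} [Group X] [Group.IsPerfect X]

theorem false_of_conj (h2 : (2 : F) ≠ 0) (ρ : X →* Matrix (Fin 2) (Fin 2) F) {a : X}
    (ha : ∀ r : F, ρ a ≠ r • 1) (h : ∀ x, ∃ α β : F, ρ (x * a * x⁻¹) = α • ρ a + β • 1) :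
    False := by
  choose α β hαβ using h
  have hinv : ∀ x, ρ x * ρ x⁻¹ = 1 := fun x => by rw [← map_mul, mul_inv_cancel, map_one]
  let φ : X →* F :=
    { toFun := α
      map_one' := by
        refine coeff_unique ha (β := β 1) (δ := 0) ?_
        rw [← hαβ]; simp
      map_mul' := fun x y => by
        refine coeff_unique ha (β := β (x * y)) (δ := α y * β x + β y) ?_
        rw [← hαβ]
        have e : x * y * a * (x * y)⁻¹ = x * (y * a * y⁻¹) * x⁻¹ := by group
        have e2 : ρ x * ρ a * ρ x⁻¹ = α x • ρ a + β x • 1 := by rw [← hαβ, map_mul, map_mul]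
        rw [e, map_mul, map_mul, hαβ y, mul_add, add_mul, mul_smul_comm, smul_mul_assoc, e2,
          mul_smul_comm, smul_mul_assoc, mul_one, hinv]
        module }
  have hα : ∀ x, α x = 1 := hom_eq_one_of_commute φ fun x y => mul_comm _ _
  have hβ : ∀ x, β x = 0 := fun x => by
    have h1 := congrArg Matrix.trace (hαβ x)
    rw [map_mul, map_mul, Matrix.trace_mul_cycle, ← map_mul, inv_mul_cancel, map_one, one_mul,
      hα, one_smul, Matrix.trace_add, Matrix.trace_smul, Matrix.trace_one] at h1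
    have h3 : β x * 2 = 0 := by simpa using h1
    exact (mul_eq_zero.1 h3).resolve_right h2
  have hc : ∀ x, ρ x * ρ a = ρ a * ρ x := fun x => by
    have h1 := hαβ x
    rw [hα, hβ, one_smul, zero_smul, add_zero] at h1
    conv_rhs => rw [← h1]
    rw [← map_mul, ← map_mul]; congr 1; group
  have := hom_eq_one_of_commute ρ (fun x y => commute_of_commute ha (hc x) (hc y)) a
  exact ha 1 (by rw [this, one_smul])

/-- the elements acting as scalars -/
def scal (ρ : X →* Matrix (Fin 2) (Fin 2) F) : Subgroup X where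
  carrier := {x | ∃ r : F, ρ x = r • 1}
  one_mem' := ⟨1, by simp⟩
  mul_mem' := by
    rintro x y ⟨r, hr⟩ ⟨s, hs⟩
    exact ⟨r * s, by rw [map_mul, hr, hs]; simp [smul_smul, mul_comm]⟩
  inv_mem' := by
    rintro x ⟨r, hr⟩
    have h1 : ρ x * ρ x⁻¹ = 1 := by rw [← map_mul, mul_inv_cancel, map_one]
    rw [hr, smul_mul_assoc, one_mul] at h1
    have hr0 : r ≠ 0 := by rintro rfl; simp at h1
    exact ⟨r⁻¹, by rw [← h1, smul_smul, inv_mul_cancel₀ hr0, one_smul]⟩

omit [Group.IsPerfect X] in
theorem scal_normal (ρ : X →* Matrix (Fin 2) (Fin 2) F) : (scal ρ).Normal :=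
  ⟨by
    rintro x ⟨r, hr⟩ g
    refine ⟨r, ?_⟩
    rw [map_mul, map_mul, hr, mul_smul_comm, smul_mul_assoc, mul_one, ← map_mul, mul_inv_cancel,
      map_one]⟩

omit [Group.IsPerfect X] in
theorem comm_or_anti (ρ : X →* Matrix (Fin 2) (Fin 2) F) {a c : X} (h : ⁅c, a⁆ ∈ scal ρ) :
    ρ c * ρ a = ρ a * ρ c ∨ ρ c * ρ a = - (ρ a * ρ c) := by
  obtain ⟨r, hr⟩ := h
  have h1 : ρ c * ρ a = r • (ρ a * ρ c) := by
    have : c * a = ⁅c, a⁆ * (a * c) := by rw [commutatorElement_def]; group
    rw [← map_mul, this, map_mul, hr, smul_mul_assoc, one_mul, map_mul]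
  have hd : ∀ x, (ρ x).det ≠ 0 := fun x h0 => by
    have : ρ x * ρ x⁻¹ = 1 := by rw [← map_mul, mul_inv_cancel, map_one]
    have := congrArg Matrix.det this
    rw [Matrix.det_mul, h0] at this
    simp at this
  have h3 := congrArg Matrix.det h1
  rw [Matrix.det_smul, Matrix.det_mul, Matrix.det_mul, Fintype.card_fin] at h3
  have h4 : (r - 1) * (r + 1) * ((ρ a).det * (ρ c).det) = 0 := by linear_combination -h3
  rcases mul_eq_zero.1 ((mul_eq_zero.1 h4).resolve_right (mul_ne_zero (hd a) (hd c))) with h | h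
  · left; rw [h1, sub_eq_zero.1 h, one_smul]
  · right; rw [h1, eq_neg_of_add_eq_zero_left h]; simp

theorem le_scal_of_commutator [Finite X] (h2 : (2 : F) ≠ 0) (ρ : X →* Matrix (Fin 2) (Fin 2) F)
    (A : Subgroup X) [hA : A.Normal] (h : ⁅A, A⁆ ≤ scal ρ) : A ≤ scal ρ := by
  classical
  intro a haA
  by_contra ha'
  have ha : ∀ r : F, ρ a ≠ r • 1 := fun r hr => ha' ⟨r, hr⟩
  by_cases hc : ∀ b ∈ A, ρ b * ρ a = ρ a * ρ b
  · exact false_of_conj h2 ρ ha fun x =>
      exists_eq_of_commute _ _ ha (hc _ (hA.conj_mem a haA x))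
  push Not at hc
  obtain ⟨b, hbA, hb⟩ := hc
  haveI := scal_normal ρ
  let q := QuotientGroup.mk' (scal ρ)
  haveI hn : (A.map q).Normal := hA.map q (QuotientGroup.mk'_surjective _)
  -- the image has at most four elements
  have hinv : ∀ x, ρ x⁻¹ * ρ x = 1 := fun x => by rw [← map_mul, inv_mul_cancel, map_one]
  have hsame : ∀ c d e : X, c ∈ A → d ∈ A → e ∈ A →
      (ρ c * ρ e = ρ e * ρ c ↔ ρ d * ρ e = ρ e * ρ d) →
      ρ (c⁻¹ * d) * ρ e = ρ e * ρ (c⁻¹ * d) := by
    intro c d e hc hd he hiff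
    have key : ∀ ε : F, ε * ε = 1 → ρ c * ρ e = ε • (ρ e * ρ c) → ρ d * ρ e = ε • (ρ e * ρ d) →
        ρ (c⁻¹ * d) * ρ e = ρ e * ρ (c⁻¹ * d) := by
      intro ε hε h1 h3
      have h4 : ρ e * ρ c⁻¹ = ε • (ρ c⁻¹ * ρ e) := by
        calc ρ e * ρ c⁻¹ = ρ c⁻¹ * (ρ c * ρ e) * ρ c⁻¹ := by rw [← mul_assoc, hinv, one_mul]
          _ = ε • (ρ c⁻¹ * ρ e) := by
            rw [h1, mul_smul_comm, smul_mul_assoc, mul_assoc, mul_assoc, ← map_mul ρ c,
              mul_inv_cancel, map_one, mul_one]
      rw [map_mul, mul_assoc, h3, ← mul_assoc, h4, mul_smul_comm, smul_mul_assoc, mul_assoc]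
    by_cases h1 : ρ c * ρ e = ρ e * ρ c
    · exact key 1 (by simp) (by simpa using h1) (by simpa using hiff.1 h1)
    · have h3 := (comm_or_anti ρ (h (commutator_mem_commutator hc he))).resolve_left h1
      have h4 := (comm_or_anti ρ (h (commutator_mem_commutator hd he))).resolve_left
        (fun h5 => h1 (hiff.2 h5))
      exact key (-1) (by simp) (by simpa using h3) (by simpa using h4)
  have hcard : Nat.card (A.map q) ≤ 4 := by
    have hex : ∀ u : A.map q, ∃ c ∈ A, q c = u := fun u => u.2
    choose s hsA hs using hex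
    let g : A.map q → Prop × Prop := fun u =>
      (ρ (s u) * ρ a = ρ a * ρ (s u), ρ (s u) * ρ b = ρ b * ρ (s u))
    have hg : Function.Injective g := by
      intro u v huv
      have h1 := hsame _ _ a (hsA u) (hsA v) haA (by
        have := congrArg Prod.fst huv; exact iff_of_eq this)
      have h3 := hsame _ _ b (hsA u) (hsA v) hbA (by
        have := congrArg Prod.snd huv; exact iff_of_eq this)
      have h4 : (s u)⁻¹ * s v ∈ scal ρ := by
        by_contra h5
        exact hb (commute_of_commute (fun r hr => h5 ⟨r, hr⟩) h3.symm h1.symm)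
      apply Subtype.ext
      rw [← hs, ← hs]
      exact QuotientGroup.eq.2 h4
    have := Nat.card_le_card_of_injective g hg
    simpa using this
  haveI := solvable_mulAut_of_card_le_four hcard
  refine false_of_conj h2 ρ ha fun x => ?_
  have h1 := hom_eq_one_of_solvable ((MulAut.conjNormal (H := A.map q)).comp q) x
  have h3 := congrArg (fun f : MulAut (A.map q) => ((f ⟨q a, mem_map_of_mem q haA⟩ : A.map q) :
    X ⧸ scal ρ)) h1
  simp only [MonoidHom.comp_apply, MulAut.conjNormal_apply, MulAut.one_apply] at h3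
  rw [← map_inv, ← map_mul, ← map_mul] at h3
  obtain ⟨r, hr⟩ : a⁻¹ * (x * a * x⁻¹) ∈ scal ρ := QuotientGroup.eq.1 h3.symm
  refine ⟨r, 0, ?_⟩
  have : x * a * x⁻¹ = a * (a⁻¹ * (x * a * x⁻¹)) := by group
  rw [this, map_mul, hr]; simp

theorem le_scal_of_solvable [Finite X] (h2 : (2 : F) ≠ 0) (ρ : X →* Matrix (Fin 2) (Fin 2) F)
    (N : Subgroup X) [hN : N.Normal] [hs : Group.IsSolvable N] : N ≤ scal ρ := by
  obtain ⟨n, hn⟩ := hs.solvable
  have key : ∀ k, (derivedSeries N k).map N.subtype ≤ scal ρ → N ≤ scal ρ := by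
    intro k
    induction k with
    | zero => intro h; simpa [← MonoidHom.range_eq_map] using h
    | succ k ih =>
      intro h
      refine ih ?_
      haveI : ((derivedSeries N k).map N.subtype).Normal :=
        inferInstanceAs ((derivedSeries N k).map N.subtype).Normal
      refine le_scal_of_commutator h2 ρ _ ?_
      rwa [derivedSeries_succ, map_commutator] at h
  exact key n (by rw [hn]; simp)

/-- In dimension at most two, a solvable normal subgroup of a perfect group commutes with the
whole action. -/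
theorem commute_of_finrank_le [Finite X] (h2 : (2 : F) ≠ 0) {V : Type*} [AddCommGroup V]
    [Module F V] [Module.Finite F V] (hV : Module.finrank F V ≤ 2) (ρ : X →* Module.End F V)
    (N : Subgroup X) [hN : N.Normal] [hs : Group.IsSolvable N] {n : X} (hn : n ∈ N) (x : X) :
    ρ n * ρ x = ρ x * ρ n := by
  by_cases h : Module.finrank F V = 2
  · let b := Module.finBasisOfFinrankEq F V h
    let e := LinearMap.toMatrixAlgEquiv b
    obtain ⟨r, hr⟩ := le_scal_of_solvable h2 (e.toMulEquiv.toMonoidHom.comp ρ) N hn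
    apply e.injective
    rw [map_mul, map_mul]
    have : e (ρ n) = r • 1 := hr
    rw [this]; simp
  · have h1 : Module.finrank F V ≤ 1 := by omega
    obtain ⟨v, hv⟩ := finrank_le_one_iff.1 h1
    obtain ⟨r, hr⟩ := hv (ρ n v)
    obtain ⟨s, hs⟩ := hv (ρ x v)
    ext w
    obtain ⟨t, rfl⟩ := hv w
    simp only [Module.End.mul_apply, map_smul, ← hr, ← hs, smul_smul]
    congr 1; ring

end Cfsg.Agent.Lib.GL2Solv
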