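import Mathlib
import Cfsg.Agent.Lib.AutSylowB
import Cfsg.Agent.Lib.EMod
import Cfsg.Agent.Lib.GL2Solv
import Cfsg.Agent.Lib.Zsigmondy

/-!
A linear group over `F₂` is solvable modulo any normal subgroup that is transitive on the nonzero
vectors.
-/

set_option autoImplicit false

namespace Cfsg.Agent.Lib.AutSylow

open scoped commutatorElement
open Subgroup Cfsg.Agent.Lib.PCoreConj Cfsg.Agent.Lib.PCore Cfsg.Agent.Lib.PCoreResidual
  Cfsg.Agent.Lib.FTDefs

variable {X : Type*} [Group X] [Finite X] {H K V M E A R U : Subgroup X} {m n : ℕ} {v : X}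

theorem card_mulAut_dvd (h : IsElementaryAbelian 2 V) (hc : Nat.card V = 2 ^ n) :
    Nat.card (MulAut V) ∣ ∏ i : Fin n, (2 ^ n - 2 ^ (i : ℕ)) := by
  have hr : Module.finrank (ZMod 2) (EMod.EM h) = n := by
    have := Module.natCard_eq_pow_finrank (K := ZMod 2) (V := EMod.EM h)
    rw [EMod.card_em, hc, Nat.card_zmod] at this
    exact Nat.pow_right_injective (a := 2) (by norm_num) this.symm
  let b := Module.finBasisOfFinrankEq (ZMod 2) (EMod.EM h) hr
  let l : MulAut V →* Module.End (ZMod 2) (EMod.EM h) :=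
    { toFun := fun φ => AddMonoidHom.toZModLinearMap 2
        (show EMod.EM h →+ EMod.EM h from MonoidHom.toAdditive φ.toMonoidHom)
      map_one' := rfl
      map_mul' := fun _ _ => rfl }
  let ρ : MulAut V →* GL (Fin n) (ZMod 2) :=
    ((LinearMap.toMatrixAlgEquiv b : _ →* _).comp l).toHomUnits
  have h1 : Function.Injective ρ := fun φ ψ e => by
    have e1 : l φ = l ψ := (LinearMap.toMatrixAlgEquiv b).injective (congrArg Units.val e)
    exact MulEquiv.ext fun x => LinearMap.congr_fun e1 (Additive.ofMul x)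
  have h2 := card_dvd_of_injective ρ h1
  rwa [Matrix.card_GL_field, ZMod.card] at h2

/-- conjugation action on the nonidentity elements -/
@[reducible] def sharpAct (hn : H ≤ N[K]) : MulAction H {k : K // k ≠ 1} where
  smul x k := ⟨conjAct hn x k.1, fun e => k.2 ((conjAct hn x).map_eq_one_iff.1 e)⟩
  one_smul k := Subtype.ext (by change conjAct hn 1 k.1 = k.1; simp)
  mul_smul x y k := Subtype.ext (by
    change conjAct hn (x * y) k.1 = conjAct hn x (conjAct hn y k.1); simp)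

theorem card_sharp (K : Subgroup X) : Nat.card {k : K // k ≠ 1} = Nat.card K - 1 := by
  classical
  haveI := Fintype.ofFinite K
  rw [Nat.card_eq_fintype_card, Nat.card_eq_fintype_card, Fintype.card_subtype_compl,
    Fintype.card_subtype_eq]

omit [Finite X] in
theorem card_orbit (hn : H ≤ N[K]) (k : {k : K // k ≠ 1}) :
    letI := sharpAct hn
    Nat.card (MulAction.orbit H k) = c[(k.1 : X)].relIndex H := by
  letI := sharpAct hn
  rw [Nat.card_coe_set_eq, ← MulAction.index_stabilizer, relIndex]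
  congr 1
  ext x
  rw [MulAction.mem_stabilizer_iff, mem_subgroupOf, mem_cent1, ← mul_inv_eq_iff_eq_mul,
    Subtype.ext_iff, Subtype.ext_iff]
  rfl

theorem dvd_card_sub_one (hn : H ≤ N[K]) (h : ∀ k ∈ K, k ≠ 1 → m ∣ c[k].relIndex H) :
    m ∣ Nat.card K - 1 := by
  classical
  letI := sharpAct hn
  haveI := Fintype.ofFinite (MulAction.orbitRel.Quotient H {k : K // k ≠ 1})
  rw [← card_sharp, Nat.card_congr (MulAction.selfEquivSigmaOrbits H _), Nat.card_sigma]
  exact Finset.dvd_sum fun ω _ => by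
    rw [card_orbit hn]
    exact h _ ω.out.1.2 fun e => ω.out.2 (Subtype.ext e)

theorem relIndex_of_trans (hn : H ≤ N[K]) (hv : v ∈ K) (h1 : v ≠ 1)
    (h : ∀ w ∈ K, w ≠ 1 → ∃ e ∈ H, e * v * e⁻¹ = w) : c[v].relIndex H = Nat.card K - 1 := by
  letI := sharpAct hn
  rw [← card_sharp, ← card_orbit hn ⟨⟨v, hv⟩, fun e => h1 (congrArg Subtype.val e)⟩,
    (Set.eq_univ_iff_forall (s := MulAction.orbit H _)).2 fun w => ?_, Nat.card_univ]
  obtain ⟨e, he, h2⟩ := h w.1 w.1.2 fun e => w.2 (Subtype.ext e)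
  exact ⟨⟨e, he⟩, Subtype.ext (Subtype.ext h2)⟩

theorem dvd_relIndex_sylow {r j : ℕ} (hr : r.Prime) (hR : IsSylowIn r R E) (h : r ^ j ∣ H.relIndex E) :
    r ^ j ∣ H.relIndex R := by
  haveI := Fact.mk hr
  refine (Nat.Coprime.pow_left j hR.coprime_relIndex.symm).dvd_of_dvd_mul_right ?_
  rw [← inf_relIndex_right H R, relIndex_mul_relIndex _ _ _ inf_le_right hR.le]
  exact h.trans (relIndex_dvd_of_le_left E inf_le_left)

/-- `A` acts irreducibly on `V` -/
def Irr (V A : Subgroup X) : Prop := ∀ U ≤ V, A ≤ N[U] → U = ⊥ ∨ U = V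

theorem irr_of_dvd (hc : Nat.card V = 2 ^ n) (hm : ∀ i, 0 < i → i < n → ¬ m ∣ 2 ^ i - 1)
    (h : ∀ U ≤ V, A ≤ N[U] → m ∣ Nat.card U - 1) : Irr V A := fun U h1 h2 => by
  obtain ⟨i, hi, e⟩ := (Nat.dvd_prime_pow Nat.prime_two).1 (hc ▸ card_dvd_of_le h1)
  rcases Nat.eq_zero_or_pos i with rfl | h3
  · exact Or.inl (card_eq_one.1 e)
  rcases hi.lt_or_eq with h4 | rfl
  · exact absurd (e ▸ h U h1 h2) (hm i h3 h4)
  · exact Or.inr (eq_of_le_of_card_le h1 (by rw [hc, e]))

omit [Finite X] in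
theorem Irr.semiReg (h : Irr V A) (hA : A ≤ N[V]) (hf : M ⊓ C[V] = ⊥) :
    SemiReg V (M ⊓ C[A]) := fun x hx h1 =>
  (h _ inf_le_left (le_normalizer_inf hA ((le_cent1_iff.2 hx.2).trans le_normalizer))).resolve_right
    fun e => h1 (mem_bot.1 (hf ▸ mem_inf.2 ⟨hx.1, le_cent1_iff.1 (e ▸ inf_le_right)⟩))

theorem Irr.odd (h : Irr V A) (hA : A ≤ N[V]) (hM : M ≤ N[V]) (hf : M ⊓ C[V] = ⊥)
    (h2 : 2 ∣ Nat.card V) : Odd (Nat.card ↥(M ⊓ C[A])) :=
  Nat.coprime_two_left.1 (((h.semiReg hA hf).coprime (inf_le_left.trans hM)).coprime_dvd_left h2)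

theorem solvMod_of_trans (hFT : OddOrder) (hV : IsElementaryAbelian 2 V) (hM : M ≤ N[V])
    (hf : M ⊓ C[V] = ⊥) (hE : NormalIn E M)
    (ht : ∀ v ∈ V, v ≠ 1 → ∀ w ∈ V, w ≠ 1 → ∃ e ∈ E, e * v * e⁻¹ = w) : SolvMod M E := by
  obtain ⟨n, hc⟩ := IsPGroup.iff_card.1 (show IsPGroup 2 V from fun x =>
    ⟨1, Subtype.ext (by simpa using hV.2 x x.2)⟩)
  rcases le_or_gt n 2 with hn | hn
  · haveI := GL2Solv.solvable_mulAut_of_card_le_four (A := V)
      (hc ▸ Nat.pow_le_pow_right (by norm_num) hn)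
    refine (SolvMod.of_hom (conjAct hM) inferInstance).trans (.of_le ?_)
    rw [pker, ker_conjAct, subgroupOf_map_subtype, inf_comm, hf]
    exact bot_le
  have h2 : 2 ∣ Nat.card V := hc ▸ dvd_pow_self 2 (by omega)
  have hV0 : V ≠ ⊥ := ne_bot_of_dvd_card Nat.prime_two h2
  have key : ∀ r j : ℕ, r.Prime → r ^ j ∣ 2 ^ n - 1 → (∀ i, 0 < i → i < n → ¬ r ^ j ∣ 2 ^ i - 1) →
      (∀ R ≤ M, IsPGroup r R → R ≠ ⊥ → Irr V R → Group.IsSolvable ↥(M ⊓ N[R])) → SolvMod M E := by
    intro r j hr h1 h3 h4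
    haveI := Fact.mk hr
    obtain ⟨R, hR⟩ := exists_isSylowIn r E
    have hRM := hR.le.trans hE.1
    have h5 : Irr V R := irr_of_dvd hc h3 fun U hU hRU => dvd_card_sub_one hRU fun k hk k1 =>
      dvd_relIndex_sylow hr hR (by
        rwa [relIndex_of_trans (hE.1.trans hM) (hU hk) k1 (ht k (hU hk) k1), hc])
    have h6 : R ≠ ⊥ := by
      rintro rfl
      obtain ⟨U, hU, e⟩ := exists_le_card_eq Nat.prime_two h2
      rcases h5 U hU bot_le with e1 | e1
      · rw [e1, card_bot] at e; omega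
      · rw [e1, hc] at e
        have := Nat.pow_right_injective (a := 2) (by norm_num) (e.trans (pow_one 2).symm)
        omega
    haveI := hE.normal_subgroupOf
    have h7 := (SolvMod.of_solv (solv_subgroupOf (h4 R hRM hR.isPGroup h6 h5) M)
      (E.subgroupOf M ⊔ ⊥)).sup
    rw [← subgroupOf_sup hE.1 inf_le_left, hR.frattini_sup hE.1 hE.2, sup_bot_eq] at h7
    have := SolvMod.of_pim (f := MonoidHom.id M) le_rfl hE.1 (by simpa only [pim, map_id] using h7)
    rwa [pker, MonoidHom.ker_id, Subgroup.map_bot, sup_bot_eq] at this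
  have cyc : ∀ R ≤ M, ∀ Z ≤ M, Irr V R → Z ≤ C[R] → IsMulCommutative Z → N[R] ≤ N[Z] → Irr V Z →
      Group.IsSolvable ↥(M ⊓ N[R]) := fun R hR Z hZ h1 h3 h4 h5 h6 =>
    (SolvMod.der _).solv (solv_of_le (hFT.solvable (h6.odd (hZ.trans hM) hM hf h2))
      (le_inf ((der_le _).trans inf_le_left) (der_le_cent_of_cyclic
        (SemiReg.cyclic_of_comm (fun x hx => h1.semiReg (hR.trans hM) hf x ⟨hZ hx, h3 hx⟩)
          (hZ.trans hM) hV0 h4) (inf_le_right.trans h5))))
  by_cases h6 : n = 6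
  · subst h6
    refine key 3 2 Nat.prime_three (by norm_num) (fun i _ _ => by interval_cases i <;> norm_num)
      fun R hR hp h0 hi => ?_
    by_cases ha : IsMulCommutative R
    · exact cyc R hR R hR hi (comm_iff_le_cent.1 ha) ha le_rfl hi
    have hd : Nat.card M ∣ 2 ^ 15 * 3 ^ 4 * 5 * 7 ^ 2 * 31 := by
      have := (relIndex_cent_dvd_card_aut hM).trans (card_mulAut_dvd hV hc)
      rw [← inf_relIndex_left, hf, relIndex_bot_left] at this
      simpa [Fin.prod_univ_six] using this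
    haveI := Fact.mk Nat.prime_three
    have bd : ∀ Q ≤ R, ∃ a ≤ 4, Nat.card Q = 3 ^ a := fun Q hQ => by
      obtain ⟨a, e⟩ := IsPGroup.iff_card.1 (hp.to_le hQ)
      refine ⟨a, ?_, e⟩
      by_contra hh
      have := ((pow_dvd_pow 3 (show 5 ≤ a by omega)).trans
        (e ▸ card_dvd_of_le (hQ.trans hR))).trans hd
      norm_num at this
    refine ((SolvMod.of_hom (conjAct (inf_le_right : M ⊓ N[R] ≤ N[R]))
      (BurnsidePQ.isSolvable_of_forall_prime Nat.prime_two Nat.prime_three fun s hs h1 => ?_)).solv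
      (solv_of_le (hFT.solvable (hi.odd (hR.trans hM) hM hf h2)) ?_))
    · by_contra hh
      haveI := Fact.mk hs
      obtain ⟨P, hP⟩ := exists_isSylowIn s (M ⊓ N[R])
      rw [← relIndex_cent_eq_card_range] at h1
      refine hP.not_dvd_relIndex_of_le ?_ h1
      have hPR := hP.le.trans inf_le_right
      have h3 : s ∣ 2 ^ 15 * 3 ^ 4 * 5 * 7 ^ 2 * 31 :=
        (h1.trans ((relIndex_dvd_card _ _).trans (card_dvd_of_le inf_le_left))).trans hd
      have h4 : s = 5 ∨ s = 7 ∨ s = 31 := by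
        simp only [hs.dvd_mul] at h3
        rcases h3 with (((h3 | h3) | h3) | h3) | h3
        · exact absurd (Or.inl ((Nat.prime_dvd_prime_iff_eq hs Nat.prime_two).1
            (hs.dvd_of_dvd_pow h3))) hh
        · exact absurd (Or.inr ((Nat.prime_dvd_prime_iff_eq hs Nat.prime_three).1
            (hs.dvd_of_dvd_pow h3))) hh
        · exact Or.inl ((Nat.prime_dvd_prime_iff_eq hs (by norm_num)).1 h3)
        · exact Or.inr (Or.inl ((Nat.prime_dvd_prime_iff_eq hs (by norm_num)).1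
            (hs.dvd_of_dvd_pow h3)))
        · exact Or.inr (Or.inr ((Nat.prime_dvd_prime_iff_eq hs (by norm_num)).1 h3))
      obtain ⟨a, ha4, ea⟩ := bd R le_rfl
      obtain ⟨b, hb4, eb⟩ := bd (R ⊓ C[P]) inf_le_left
      obtain ⟨c, hc4, ec⟩ := bd (R ⊓ C[R]) inf_le_left
      obtain ⟨d, hd4, ed⟩ := bd (R ⊓ C[R] ⊓ C[P]) (inf_le_left.trans inf_le_left)
      have m1 := card_modEq_card_cent hs hP.isPGroup hPR
      have m2 := card_modEq_card_cent hs hP.isPGroup (hPR.trans (normalizer_le_normalizer_center R))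
      have l1 : c < a := (Nat.pow_lt_pow_iff_right (a := 3) (by norm_num)).1 (ea ▸ ec ▸
        card_lt_of_lt (lt_of_le_of_ne inf_le_left fun e => ha (comm_iff_le_cent.2 (e.ge.trans inf_le_right))))
      have l2 : d ≤ b := (Nat.pow_le_pow_iff_right (a := 3) (by norm_num)).1 (eb ▸ ed ▸
        Subgroup.card_le_of_le (inf_le_inf_right _ inf_le_left))
      have l3 : c ≠ 0 := by
        rintro rfl
        haveI := nil_of_isPGroup Nat.prime_three hp
        obtain ⟨z, h1, h2, h3⟩ := BurnsidePQ.exists_central h0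
        exact ne_bot_of_mem (mem_inf.2 ⟨h1, le_cent1_iff.1 h3⟩) h2 (card_eq_one.1 ec)
      have l4 : b = a := by
        rw [ea, eb] at m1
        rw [ec, ed] at m2
        rcases h4 with rfl | rfl | rfl <;> interval_cases a <;> interval_cases b <;>
          first | rfl | (exfalso; revert m1; decide) | skip
        all_goals (interval_cases c <;> interval_cases d <;> first | omega | (exfalso; revert m2; decide))
      rw [le_cent_comm, ← inf_eq_left]
      exact eq_of_le_of_card_le inf_le_left (by rw [ea, eb, l4])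
    · rw [pker, ker_conjAct, subgroupOf_map_subtype, inf_comm]
      exact inf_le_inf_right _ inf_le_left
  obtain ⟨r, hr, h1, h3⟩ := Zsigmondy.zsigmondy 2 n (by norm_num) (by omega) (fun e => h6 e.2)
    (fun e => by omega)
  refine key r 1 hr (by rwa [pow_one]) (by rwa [pow_one]) fun R hR hp h0 hi => ?_
  refine cyc R hR (R ⊓ C[R]) (inf_le_left.trans hR) hi inf_le_right
    (comm_iff_le_cent.2 (inf_le_right.trans (centralizer_anti inf_le_left)))
    (normalizer_le_normalizer_center R) (irr_of_dvd hc h3 fun U hU hn =>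
      prime_dvd_card_sub_one hr (hp.to_le inf_le_left) hn ?_)
  haveI := nil_of_isPGroup hr hp
  obtain ⟨z, z1, z2, z3⟩ := BurnsidePQ.exists_central h0
  have hz := mem_inf.2 ⟨z1, le_cent1_iff.1 z3⟩
  exact le_bot_iff.1 ((inf_le_inf hU (cent_le_cent1 hz)).trans
    (hi.semiReg (hR.trans hM) hf z ⟨hR z1, hz.2⟩ z2).le)

end Cfsg.Agent.Lib.AutSylow
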