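import Cfsg.Agent.Lib.BlkPush

/-! Central extensions of symmetric groups in which disjoint transpositions have commuting lifts; small facts on
the two natural modules. -/

set_option autoImplicit false
open Cfsg

namespace Cfsg.Agent.Lib.Blk

open Subgroup Cfsg.Agent.Lib.PCoreConj Cfsg.Agent.Lib.PCore Cfsg.Agent.Lib.PCoreResidual
open Cfsg.Agent.Lib.PushBase Equiv
open scoped Pointwise commutatorElement MatrixGroups

section Lift
variable {α : Type*} [Fintype α] [DecidableEq α]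

theorem mem_of_swaps {Y : Subgroup (Perm α)} (P : α → Prop) (h : ∀ x y, P x → P y → swap x y ∈ Y) (σ : Perm α)
    (hσ : ∀ x, σ x ≠ x → P x) : σ ∈ Y := by
  induction hn : σ.support.card using Nat.strong_induction_on generalizing σ with
  | _ n ih =>
    by_cases e : ∀ x, σ x = x
    · rw [show σ = 1 from Equiv.ext e]; exact one_mem _
    obtain ⟨x, hx⟩ := not_forall.1 e
    have h₁ := hσ x hx
    have h₂ := hσ (σ x) fun k => hx (σ.injective k)
    have := ih _ (hn ▸ Perm.card_support_swap_mul hx) (swap x (σ x) * σ) (fun y hy => by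
      by_contra k
      have e' : σ y = y := by_contra fun e' => k (hσ y e')
      exact hy (by rw [Perm.mul_apply, e', swap_apply_of_ne_of_ne (fun e : y = x => k (e ▸ h₁))
        fun e : y = σ x => k (e ▸ h₂)])) rfl
    exact (mul_mem_cancel_left (h _ _ h₁ h₂)).1 this

omit [Fintype α] in
theorem exists_pair {a b x y : α} (hab : a ≠ b) (hxy : x ≠ y) : ∃ σ : Perm α, σ a = x ∧ σ b = y ∧
    ∀ w, w ≠ a → w ≠ b → w ≠ x → w ≠ y → σ w = w := by
  have h : swap a x b ≠ x := fun e => hab ((swap a x).injective (e.trans (swap_apply_left a x).symm)).symm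
  refine ⟨swap (swap a x b) y * swap a x, ?_, ?_, fun w h₁ h₂ h₃ h₄ => ?_⟩
  · rw [Perm.mul_apply, swap_apply_left, swap_apply_of_ne_of_ne h.symm hxy]
  · rw [Perm.mul_apply, swap_apply_left]
  · have k := swap_apply_of_ne_of_ne h₁ h₃
    rw [Perm.mul_apply, k, swap_apply_of_ne_of_ne (fun e => h₂ ((swap a x).injective (k.trans e))) h₄]

variable {Γ : Type*} [Group Γ] {π : Γ →* Perm α} (hs : Function.Surjective π) (hc : π.ker ≤ center Γ)
  {t : Γ} {a b : α} (hab : a ≠ b) (h2 : t * t = 1) (ht : π t = swap a b)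
  (hd : ∀ x y, x ≠ y → x ≠ a → x ≠ b → y ≠ a → y ≠ b → ∃ c d s, c ≠ d ∧ c ≠ a ∧ c ≠ b ∧ d ≠ a ∧ d ≠ b ∧
    π s = swap c d ∧ s * t = t * s)

include hs hc ht hd in
theorem comm_of_fix {g : Γ} (ha : π g a = a) (hb : π g b = b) : g * t * g⁻¹ = t := by
  have key : π g ∈ (centralizer {t}).map π := by
    refine mem_of_swaps (fun x => x ≠ a ∧ x ≠ b) (fun x y hx hy => ?_) _
      fun x hx => ⟨fun e => hx (e ▸ ha), fun e => hx (e ▸ hb)⟩
    rcases eq_or_ne x y with rfl | hxy
    · rw [swap_self]; exact one_mem _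
    obtain ⟨c, d, s, hcd, hca, hcb, hda, hdb, e, k⟩ := hd x y hxy hx.1 hx.2 hy.1 hy.2
    obtain ⟨σ, e₁, e₂, e₃⟩ := exists_pair hcd hxy
    obtain ⟨u, rfl⟩ := hs σ
    have hz : u⁻¹ * t * u * t⁻¹ ∈ center Γ := hc (by
      have := mul_swap_eq_swap_mul (π u) a b
      rw [e₃ a hca.symm hda.symm hx.1.symm hy.1.symm, e₃ b hcb.symm hdb.symm hx.2.symm hy.2.symm] at this
      rw [MonoidHom.mem_ker, map_mul, map_mul, map_mul, map_inv, map_inv, ht, mul_assoc _ _ (π u), ← this]
      group)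
    refine ⟨u * s * u⁻¹, mem_centralizer_singleton_iff.2 ?_, by
      rw [map_mul, map_mul, map_inv, e, ← swap_apply_apply, e₁, e₂]⟩
    have k' := mem_center_iff.1 hz s
    calc u * s * u⁻¹ * t = u * (s * (u⁻¹ * t * u * t⁻¹)) * t * u⁻¹ := by group
      _ = u * ((u⁻¹ * t * u * t⁻¹) * (s * t)) * u⁻¹ := by rw [k']; group
      _ = t * (u * s * u⁻¹) := by rw [k]; group
  obtain ⟨c, hc', e⟩ := key
  have hz : c⁻¹ * g ∈ center Γ := hc (by rw [MonoidHom.mem_ker, map_mul, map_inv, e, inv_mul_cancel])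
  have k := mem_center_iff.1 hz t
  have k' := mem_centralizer_singleton_iff.1 hc'
  calc g * t * g⁻¹ = c * (c⁻¹ * g * t) * g⁻¹ := by group
    _ = c * t * (c⁻¹ * g) * g⁻¹ := by rw [← k]; group
    _ = t := by rw [k']; group

include hs hc hab h2 ht hd in
theorem exists_tau : ∃ τ : α → α → Γ, (∀ x, τ x x = 1) ∧ (∀ x y, π (τ x y) = swap x y) ∧ (∀ x y, τ x y * τ x y = 1) ∧
    (∀ x y, τ x y = τ y x) ∧ ∀ g x y, g * τ x y * g⁻¹ = τ (π g x) (π g y) := by
  have ex : ∀ x y, ∃ g : Γ, x ≠ y → π g a = x ∧ π g b = y := fun x y => by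
    by_cases h : x = y
    · exact ⟨1, fun k => absurd h k⟩
    obtain ⟨σ, e₁, e₂, -⟩ := exists_pair hab h
    obtain ⟨u, rfl⟩ := hs σ
    exact ⟨u, fun _ => ⟨e₁, e₂⟩⟩
  choose f hf using ex
  let τ : α → α → Γ := fun x y => if x = y then 1 else f x y * t * (f x y)⁻¹
  have t₀ : ∀ x, τ x x = 1 := fun x => if_pos rfl
  have key : ∀ g : Γ, τ (π g a) (π g b) = g * t * g⁻¹ := fun g => by
    have h : π g a ≠ π g b := fun e => hab ((π g).injective e)
    obtain ⟨e₁, e₂⟩ := hf _ _ h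
    have := comm_of_fix hs hc ht hd (g := g⁻¹ * f (π g a) (π g b)) (by
      rw [map_mul, map_inv, Perm.mul_apply, e₁, Perm.inv_eq_iff_eq]) (by
      rw [map_mul, map_inv, Perm.mul_apply, e₂, Perm.inv_eq_iff_eq])
    rw [show τ _ _ = _ from if_neg h]
    conv_rhs => rw [← this]
    group
  have ind : ∀ P : α → α → Prop, (∀ x, P x x) → (∀ g : Γ, P (π g a) (π g b)) → ∀ x y, P x y := fun P h₁ h₂ x y => by
    rcases eq_or_ne x y with rfl | h
    · exact h₁ x
    · have := h₂ (f x y)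
      rwa [(hf x y h).1, (hf x y h).2] at this
  refine ⟨τ, t₀, ind _ (fun x => by rw [t₀, map_one, swap_self]; rfl) fun g => ?_,
    ind _ (fun x => by rw [t₀, one_mul]) fun g => ?_, ind _ (fun _ => rfl) fun g => ?_,
    fun h => ind _ (fun x => by rw [t₀, t₀, mul_one, mul_inv_cancel]) fun g => ?_⟩
  · rw [key, map_mul, map_mul, map_inv, ht, swap_apply_apply]
  · rw [key, show g * t * g⁻¹ * (g * t * g⁻¹) = g * (t * t) * g⁻¹ by group, h2, mul_one, mul_inv_cancel]
  · have := key (g * t)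
    rw [map_mul, ht, Perm.mul_apply, Perm.mul_apply, swap_apply_left, swap_apply_right] at this
    rw [key, this]; group
  · have := key (h * g)
    rw [map_mul, Perm.mul_apply, Perm.mul_apply] at this
    rw [key, this]; group

include hs hc hab h2 ht hd in
theorem lift_split : ∃ D : Subgroup Γ, (∀ d ∈ D, π d = 1 → d = 1) ∧ ∀ g, ∃ d ∈ D, π d = π g := by
  obtain ⟨τ, t₀, t₁, t₂, t₃, t₄⟩ := exists_tau hs hc hab h2 ht hd
  let D : Finset α → Subgroup Γ := fun s => closure {u | ∃ x ∈ s, ∃ y ∈ s, τ x y = u}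
  have mem : ∀ s, ∀ x ∈ s, ∀ y ∈ s, τ x y ∈ D s := fun s x hx y hy => subset_closure ⟨x, hx, y, hy, rfl⟩
  have fix : ∀ s, ∀ k ∉ s, ∀ d ∈ D s, π d k = k := fun s k hk d hd' => by
    have : D s ≤ (MulAction.stabilizer (Perm α) k).comap π := (closure_le _).2 (by
      rintro _ ⟨x, hx, y, hy, rfl⟩
      change π (τ x y) k = k
      rw [t₁, swap_apply_of_ne_of_ne (fun e : k = x => hk (e ▸ hx)) fun e : k = y => hk (e ▸ hy)])
    exact this hd'
  have inv : ∀ x y, (τ x y)⁻¹ = τ x y := fun x y => inv_eq_of_mul_eq_one_right (t₂ x y)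
  have step : ∀ s k, ∀ d ∈ D (insert k s), ∃ i ∈ insert k s, ∃ d' ∈ D s, d = τ i k * d' := fun s k d hd' => by
    have one : ∀ x ∈ insert k s, ∀ i ∈ insert k s, ∀ d' ∈ D s, ∃ i' ∈ insert k s, ∃ d'' ∈ D s,
        τ x k * (τ i k * d') = τ i' k * d'' := fun x hx i hi d' hD => by
      rcases eq_or_ne i k with rfl | h₁
      · exact ⟨x, hx, d', hD, by rw [t₀, one_mul]⟩
      rcases eq_or_ne x k with rfl | h₂
      · exact ⟨i, hi, d', hD, by rw [t₀, one_mul]⟩
      rcases eq_or_ne x i with rfl | h₃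
      · exact ⟨k, Finset.mem_insert_self _ _, d', hD, by rw [← mul_assoc, t₂, t₀]⟩
      refine ⟨i, hi, τ x i * d', mul_mem (mem s x ((Finset.mem_insert.1 hx).resolve_left h₂) i
        ((Finset.mem_insert.1 hi).resolve_left h₁)) hD, ?_⟩
      have := t₄ (τ i k) x k
      rw [t₁, swap_apply_of_ne_of_ne h₃ h₂, swap_apply_right, inv] at this
      rw [← this, ← mul_assoc, ← mul_assoc, ← mul_assoc, ← mul_assoc, t₂, one_mul]
    have gen : ∀ x ∈ insert k s, ∀ y ∈ insert k s, ∀ i ∈ insert k s, ∀ d' ∈ D s, ∃ i' ∈ insert k s, ∃ d'' ∈ D s,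
        τ x y * (τ i k * d') = τ i' k * d'' := fun x hx y hy i hi d' hD => by
      rcases eq_or_ne y k with rfl | h₁
      · exact one x hx i hi d' hD
      rcases eq_or_ne x k with rfl | h₂
      · exact t₃ y x ▸ one y hy i hi d' hD
      refine ⟨swap x y i, ?_, τ x y * d', mul_mem (mem s x ((Finset.mem_insert.1 hx).resolve_left h₂) y
        ((Finset.mem_insert.1 hy).resolve_left h₁)) hD, ?_⟩
      · rw [swap_apply_def]; split_ifs <;> assumption
      · have := t₄ (τ x y) i k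
        rw [t₁, swap_apply_of_ne_of_ne h₂.symm h₁.symm] at this
        rw [← this]; group
    induction hd' using closure_induction_left with
    | one => exact ⟨k, Finset.mem_insert_self _ _, 1, one_mem _, by rw [t₀, one_mul]⟩
    | mul_left u hu v _ ih =>
      obtain ⟨x, hx, y, hy, rfl⟩ := hu
      obtain ⟨i, hi, d', h', rfl⟩ := ih
      exact gen x hx y hy i hi d' h'
    | inv_mul_cancel u hu v _ ih =>
      obtain ⟨x, hx, y, hy, rfl⟩ := hu
      obtain ⟨i, hi, d', h', rfl⟩ := ih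
      exact (inv x y).symm ▸ gen x hx y hy i hi d' h'
  have main : ∀ s, ∀ d ∈ D s, π d = 1 → d = 1 := fun s => by
    induction s using Finset.induction_on with
    | empty => exact fun d hd' _ => mem_bot.1 ((closure_le ⊥).2 (by rintro _ ⟨x, hx, -⟩; simp at hx) hd')
    | insert k s hk ih =>
      intro d hd' e
      obtain ⟨i, -, d', h', rfl⟩ := step s k d hd'
      have := congrArg (fun σ : Perm α => σ k) e
      simp only [map_mul, Perm.mul_apply, fix s k hk d' h', t₁, swap_apply_right, Perm.one_apply] at this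
      rw [this, t₀, one_mul] at e ⊢
      exact ih d' h' e
  exact ⟨D Finset.univ, main _, fun g => mem_of_swaps (Y := (D Finset.univ).map π) (fun _ => True)
    (fun x y _ _ => ⟨_, mem _ x (Finset.mem_univ _) y (Finset.mem_univ _), t₁ x y⟩) _ fun _ _ => trivial⟩

omit hs hc h2 ht hd in
include hab in
theorem split_mod {H : Type*} [Group H] {ρ : H →* Perm α} (hs : Function.Surjective ρ) (U : Subgroup H) [U.Normal]
    (hU : U ≤ ρ.ker) (hc : ∀ k ∈ ρ.ker, ∀ g, ⁅k, g⁆ ∈ U) {t : H} (h2 : t * t = 1) (ht : ρ t = swap a b)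
    (hd : ∀ x y, x ≠ y → x ≠ a → x ≠ b → y ≠ a → y ≠ b → ∃ c d s, c ≠ d ∧ c ≠ a ∧ c ≠ b ∧ d ≠ a ∧ d ≠ b ∧
      ρ s = swap c d ∧ ⁅t, s⁆ ∈ U) : ∃ D : Subgroup H, U ≤ D ∧ D ⊓ ρ.ker ≤ U ∧ D ⊔ ρ.ker = ⊤ := by
  have cm : ∀ k g : H, ⁅k, g⁆ ∈ U → (g : H ⧸ U) * k = k * g := fun k g h => by
    have := (QuotientGroup.eq_one_iff _).2 h
    rw [← QuotientGroup.mk'_apply, map_commutatorElement, commutatorElement_eq_one_iff_mul_comm] at this
    exact this.symm
  obtain ⟨D, h₁, h₂⟩ := lift_split (π := QuotientGroup.lift U ρ hU) (fun σ => (hs σ).elim fun g e => ⟨g, e⟩)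
    (fun k hk => by
      obtain ⟨k, rfl⟩ := QuotientGroup.mk_surjective k
      refine mem_center_iff.2 fun g => ?_
      obtain ⟨g, rfl⟩ := QuotientGroup.mk_surjective g
      exact cm k g (hc k hk g)) hab (t := t) (by rw [← QuotientGroup.mk_mul, h2, QuotientGroup.mk_one]) ht
    fun x y k₁ k₂ k₃ k₄ k₅ => by
      obtain ⟨c, d, s, l₁, l₂, l₃, l₄, l₅, l₆, l₇⟩ := hd x y k₁ k₂ k₃ k₄ k₅
      exact ⟨c, d, s, l₁, l₂, l₃, l₄, l₅, l₆, cm t s l₇⟩
  refine ⟨D.comap (QuotientGroup.mk' U), fun u hu => ?_, fun d hd => (QuotientGroup.eq_one_iff _).1 (h₁ _ hd.1 hd.2),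
    eq_top_iff.2 fun g _ => ?_⟩
  · rw [mem_comap, QuotientGroup.mk'_apply, (QuotientGroup.eq_one_iff _).2 hu]; exact one_mem _
  · obtain ⟨d, hd, e⟩ := h₂ g
    obtain ⟨d, rfl⟩ := QuotientGroup.mk_surjective d
    rw [← mul_inv_cancel_left d g]
    refine mul_mem_sup hd ?_
    rw [MonoidHom.mem_ker, map_mul, map_inv, show ρ d = ρ g from e, inv_mul_cancel]

end Lift

section Sym
variable {α : Type*} [Fintype α] [DecidableEq α] (ho : Odd (Fintype.card α)) (h3 : 3 ≤ Fintype.card α)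
include ho h3

theorem res_PS : pResidualOf 2 (PS α) = RS α := le_antisymm
  (pResidualOf_le_iff.2 fun _ hr h => mem_RS_of_coprime ho hr h) ((model_sym ho h3).res.ge.trans (pResidualOf_mono RS_le_PS))

theorem RS_simple {K : Subgroup (AutM (Ev α))} (hK : K ≤ RS α) (hn : RS α ≤ N(K)) (hne : K ≠ ⊥) : RS α ≤ K := by
  haveI : IsSimpleGroup (alternatingGroup α) := by
    rcases (show Fintype.card α = 3 ∨ 5 ≤ Fintype.card α by obtain ⟨k, hk⟩ := ho; omega) with h | h
    · haveI : Nontrivial α := Fintype.one_lt_card_iff_nontrivial.1 (by omega)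
      haveI : Fact (Nat.Prime 3) := ⟨Nat.prime_three⟩
      exact isSimpleGroup_of_prime_card (p := 3) (by rw [nat_card_alternatingGroup, Nat.card_eq_fintype_card, h]; rfl)
    · exact alternatingGroup.isSimpleGroup (Nat.card_eq_fintype_card (α := α) ▸ h)
  let f := toP.comp (alternatingGroup α).subtype
  have e : f.range = RS α := by rw [MonoidHom.range_comp, range_subtype, RS]
  haveI : (K.comap f).Normal := ⟨fun k hk g => by
    rw [mem_comap, map_mul, map_mul, map_inv]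
    exact conj_mem_of_norm (hn (e.le ⟨g, rfl⟩)) hk⟩
  have e' : (K.comap f).map f = K := map_comap_eq_self (hK.trans e.ge)
  rcases IsSimpleGroup.eq_bot_or_eq_top_of_normal (K.comap f) inferInstance with h | h
  · exact absurd (by rw [← e', h, Subgroup.map_bot]) hne
  · rw [← e', h, ← MonoidHom.range_eq_map, e]

omit h3 in
theorem exists_eq_coord {v : Ev α} {z : α} (h : v ≠ fv ho z) : ∃ y, y ≠ z ∧ v.1 y = v.1 z := by
  by_contra k
  push Not at k
  obtain ⟨b, hb⟩ := exists_zero ho v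
  rcases z2_cases (v.1 z) with e | e
  · exact h (eq_fv ho e fun i hi => by_contra fun k' => k i k' (hi.trans e.symm))
  · obtain ⟨a, ha, e'⟩ := exists_one' e
    exact k a ha (e'.trans e.symm)

omit ho h3 in
theorem eq_top_of_stab {H : Subgroup (Perm α)} {z : α} (h : ∀ σ : Perm α, σ z = z → σ ∈ H) {σ : Perm α} (hσ : σ ∈ H)
    (hz : σ z ≠ z) (τ : Perm α) : τ ∈ H := by
  by_cases e : τ z = z
  · exact h τ e
  · have := h (τ⁻¹ * (swap (σ z) (τ z) * σ)) (by rw [Perm.mul_apply, Perm.mul_apply, swap_apply_left, Perm.inv_eq_iff_eq])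
    exact inv_mem_iff.1 ((mul_mem_cancel_right (mul_mem (h _ (swap_apply_of_ne_of_ne hz.symm (Ne.symm e))) hσ)).1 this)

omit ho h3 in
theorem pair_of_pr {a b c d : α} (hcd : c ≠ d) (e : pr c d = pr a b) : (c = a ∨ c = b) ∧ (d = a ∨ d = b) :=
  ⟨eq_or_eq_of_pr (e ▸ pr_left hcd), eq_or_eq_of_pr (e ▸ pr_right hcd)⟩

omit ho h3 in
theorem pr_eq_of {a b c d : α} (hcd : c ≠ d) (h₁ : c = a ∨ c = b) (h₂ : d = a ∨ d = b) : pr c d = pr a b := by
  rcases h₁ with rfl | rfl <;> rcases h₂ with rfl | rfl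
  exacts [absurd rfl hcd, rfl, pr_comm _ _, absurd rfl hcd]

omit ho h3 [Fintype α] in
theorem swap_pair {A : Subgroup (Perm α)} (hA : IsPGroup 2 A) {a b c : α} (hab : a ≠ b) (hac : a ≠ c)
    (h₁ : swap a b ∈ A) (h₂ : swap a c ∈ A) : c = b := by
  by_contra k
  obtain ⟨n, hn⟩ := isPGroup_iff_forall_mem.1 hA _ (mul_mem h₂ h₁)
  have h₃ : (swap a c * swap a b) ^ 3 = 1 := by
    have e : swap a b * swap a c * swap a b = swap b c := by
      rw [← swap_mul_swap_mul_swap (x := c) (y := a) (z := b) hac.symm k, swap_comm c a]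
    calc (swap a c * swap a b) ^ 3 = swap a c * (swap a b * swap a c * swap a b) * swap a c * swap a b := by
          simp only [pow_succ, pow_zero, one_mul, mul_assoc]
      _ = 1 := by
        rw [e, swap_comm a c, swap_mul_swap_mul_swap (Ne.symm k) hab.symm, swap_mul_self]
  have := (pow_eq_one_iff_of_coprime (show Nat.Coprime (2 ^ n) 3 from Nat.Coprime.pow_left _ (by norm_num))).1 ⟨hn, h₃⟩
  have := congrArg (fun σ : Perm α => σ b) this
  simp only [Perm.mul_apply, swap_apply_right, swap_apply_left, Perm.one_apply] at this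
  exact k this

omit h3 in
theorem eq_swap_of {σ : Perm α} {a b : α} (hab : a ≠ b) (h : ∀ v, toP σ v = v ∨ toP σ v = v + pr a b) (h1 : σ ≠ 1) :
    σ = swap a b := by
  have k : ∀ x, σ x = x ∨ ((x = a ∨ x = b) ∧ (σ x = a ∨ σ x = b)) := fun x => by
    refine (eq_or_ne (σ x) x).imp_right fun hx => pair_of_pr hx.symm ?_
    rcases h (fv ho x) with e | e <;> rw [toP_fv] at e
    · exact absurd (fv_injective ho e) hx
    · rw [← fv_add ho, e, ← add_assoc, Ev.add_self, zero_add]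
  have ka : σ a = b := by
    by_contra ka
    have ea : σ a = a := (k a).elim id fun l => l.2.resolve_right ka
    refine h1 (Equiv.ext fun x => (k x).elim id fun l => ?_)
    rcases l.1 with rfl | rfl
    · exact ea
    · exact l.2.resolve_left fun e => hab (σ.injective (ea.trans e.symm))
  refine Equiv.ext fun x => ?_
  rw [swap_apply_def]
  split_ifs with h₁ h₂
  · rw [h₁, ka]
  · rw [h₂]
    refine (k b).elim (fun e => absurd (σ.injective (ka.trans e.symm)) hab) fun l => l.2.resolve_right fun e => ?_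
    exact hab (σ.injective (ka.trans e.symm))
  · exact (k x).resolve_right fun l => l.1.elim h₁ h₂

end Sym

section Lin
variable {F : Type*} [Field F]

theorem mem_UL_of_PL {v : Fin 2 → F} (hv : v ≠ 0) {r : AutM (Fin 2 → F)} (hr : r ∈ PL F) (h : r v = v) : r ∈ UL v := by
  obtain ⟨w, hw⟩ := exists_det2 hv
  have l := PL_le_LinA hr
  have e₁ : det2 v (r w) = 1 := by
    obtain ⟨g, rfl⟩ := hr
    rw [← hw, ← det2_toA g v w, h]
  refine mem_UL.2 ⟨det2 (r w) w, fun m => ?_⟩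
  have := decomp hw (r w)
  rw [e₁, one_smul] at this
  conv_lhs => rw [decomp hw m, map_add, l, l, h, this]
  conv_rhs => rw [decomp hw m, det2_add, det2_smul, det2_smul, det2_self, hw]
  module

theorem PL_le_of {X : Subgroup (AutM (Fin 2 → F))} {v : Fin 2 → F} (hv : v ≠ 0) (hX : X ≤ PL F)
    (h : UL v ≤ X) {r₀ : AutM (Fin 2 → F)} (hg : r₀ ∈ X) (hl : r₀ v ∉ line v) : PL F ≤ X := by
  obtain ⟨g, rfl⟩ := hX hg
  set w := toA g v
  have hw : UL w ≤ X := conj_UL g v ▸ conj_le_of_mem h hg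
  have d : det2 v w ≠ 0 := hl
  have mv : ∀ u : Fin 2 → F, UL u ≤ X → ∀ m, det2 u m ≠ 0 → ∀ c : F, ∃ r ∈ X, r m = m + c • u := fun u hu m hm c =>
    ⟨_, hu (tv_mem u (c / det2 u m)), by rw [toA_tv, div_mul_cancel₀ _ hm]⟩
  have d' : det2 w v ≠ 0 := by rw [det2_swap]; exact neg_ne_zero.2 d
  have o₁ : ∀ a b : F, b ≠ 0 → ∃ r ∈ X, r v = a • v + b • w := fun a b hb => by
    obtain ⟨r, hr, e⟩ := mv w hw v d' b
    obtain ⟨s, hs, e'⟩ := mv v h (v + b • w) (by
      rw [det2_add, det2_self, det2_smul, zero_add]; exact mul_ne_zero hb d) (a - 1)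
    exact ⟨s * r, mul_mem hs hr, by rw [aut_mul, e, e']; module⟩
  have o₂ : ∀ m, m ≠ 0 → ∃ r ∈ X, r v = m := fun m hm => by
    have e : m = (det2 m w / det2 v w) • v + (det2 v m / det2 v w) • w := by
      refine vec_ext ?_ ?_ <;> simp only [Pi.add_apply, Pi.smul_apply, smul_eq_mul] <;> field_simp <;>
        simp only [det2] <;> ring
    by_cases k : det2 v m = 0
    · rw [k, zero_div, zero_smul, add_zero] at e
      obtain ⟨r, hr, e₁⟩ := o₁ (det2 m w / det2 v w) 1 one_ne_zero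
      obtain ⟨s, hs, e₂⟩ := mv w hw ((det2 m w / det2 v w) • v + (1 : F) • w) (by
        rw [det2_add, det2_smul, det2_smul, det2_self, mul_zero, add_zero]
        exact mul_ne_zero (fun k' => hm (by rw [e, k', zero_smul])) d') (-1)
      exact ⟨s * r, mul_mem hs hr, by rw [aut_mul, e₁, e₂, ← e]; module⟩
    · exact e ▸ o₁ _ _ (div_ne_zero k d)
  intro r hr
  obtain ⟨s, hs, e⟩ := o₂ (r v) fun e => hv (r.map_eq_zero_iff.1 e)
  exact (mul_mem_cancel_left (inv_mem hs)).1 (h (mem_UL_of_PL hv (mul_mem (inv_mem (hX hs)) hr) (by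
    rw [aut_mul, ← e, aut_inv_apply])))

theorem mem_PL_two (r : AutM (Fin 2 → ZMod 2)) : r ∈ PL (ZMod 2) := by
  have k : ∀ u v : Fin 2 → ZMod 2, u ≠ 0 → v ≠ 0 → u ≠ v → det2 u v = 1 := by unfold det2; decide
  exact mem_PL_of (mem_LinA_of_prime Nat.prime_two (Nat.card_zmod 2) r) (k _ _ (fun e => e0_ne (r.map_eq_zero_iff.1 e))
    (fun e => e1_ne (r.map_eq_zero_iff.1 e)) fun e => absurd (r.injective e) (by decide))

end Lin

end Cfsg.Agent.Lib.Blk
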