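import Cfsg.Agent.Lib.BlkCmp
import Cfsg.Agent.Lib.BlkLift

/-! Components of symmetric type: the fixed point, and the units of degree three. -/

set_option autoImplicit false
open Cfsg

namespace Cfsg.Agent.Lib.Blk

open Subgroup Cfsg.Agent.Lib.PCoreConj Cfsg.Agent.Lib.PCore Cfsg.Agent.Lib.PCoreResidual Cfsg.Agent.Lib.PCoreMod
open Cfsg.Agent.Lib.ThompsonJ Cfsg.Agent.Lib.PushBase Cfsg.Agent.Lib.PIrred Equiv
open scoped Pointwise commutatorElement MatrixGroups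

universe u
variable {G : Type u} [Group G] {p : ℕ} {T E U W Z X Y S L M₀ : Subgroup G} {g u v : G}
variable {M : Type*} [AddCommGroup M] {R P : Subgroup (AutM M)}

namespace Sect

theorem ψ_inj (s : Sect M U ⊥) (hu : u ∈ U) (hv : v ∈ U) (e : s.ψ u = s.ψ v) : u = v :=
  inv_mul_eq_one.1 (mem_bot.1 ((s.eq_iff hu hv).1 e))

theorem conj_eq (s : Sect M U ⊥) (hg : g ∈ NN U ⊥) (hu : u ∈ U) (e : s.θ g (s.ψ u) = s.ψ u) : g * u * g⁻¹ = u :=
  s.ψ_inj (conj_mem_of_norm hg.1 hu) hu ((s.θ_ψ hg hu).symm.trans e)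

theorem le_comm_sup (s : Sect M W Z) (m : Model p R) (hX : X ≤ NN W Z) (e : s.im X = R) : W ≤ ⁅W, X⁆ ⊔ Z := by
  refine s.le_sup_of_img_eq_top ((m.irr _ (e ▸ s.im_img (le_normalizer_commutator (hX.trans inf_le_left)
    le_normalizer))).resolve_left fun k => ?_)
  have := m.big
  rw [← e, (s.im_eq_bot_iff' hX).2 ((s.img_eq_bot_iff (commutator_le_left_of_le_normalizer (hX.trans inf_le_left))).1 k),
    card_bot] at this
  omega

variable {M' : Type*} [AddCommGroup M']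

theorem exists_sub [Finite G] (s : Sect M W Z) (j : M' →+ M) (hj : Function.Injective j) :
    ∃ (W' : Subgroup G) (s' : Sect M' W' Z), W' ≤ W ∧ (∀ u ∈ W', j (s'.ψ u) = s.ψ u) ∧
      (∀ g ∈ NN W Z, g ∈ N(W') → ∀ m, j (s'.θ g m) = s.θ g (j m)) ∧
      ∀ g ∈ NN W Z, (∀ m ∈ j.range, s.θ g m ∈ j.range) → g ∈ N(W') := by
  have k : ∀ u ∈ s.pre j.range, j (Function.invFun j (s.ψ u)) = s.ψ u := fun u hu =>
    Function.invFun_eq (s.mem_pre.1 hu).2
  let s' : Sect M' (s.pre j.range) Z :=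
    { ψ := fun u => Function.invFun j (s.ψ u)
      le := s.le_pre _
      add := fun u hu v hv => hj (by
        rw [map_add, k _ (mul_mem hu hv), k u hu, k v hv, s.add u (s.pre_le _ hu) v (s.pre_le _ hv)])
      onto := fun m => ⟨s.σ (j m), s.mem_pre.2 ⟨s.σ_mem _, ⟨m, (s.ψ_σ _).symm⟩⟩, by
        rw [s.ψ_σ, Function.leftInverse_invFun hj]⟩
      ker := fun u hu => by rw [← s.ker u (s.pre_le _ hu), ← map_eq_zero_iff j hj, k u hu] }
  refine ⟨_, s', s.pre_le _, k, fun g hg hn m => ?_, fun g hg h => mem_normalizer_of_conj_le (conj_le_iff.2 fun u hu =>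
    ⟨conj_mem_of_norm hg.1 hu.1, s.θ_ψ hg hu.1 ▸ h _ hu.2⟩)⟩
  obtain ⟨u, hu, rfl⟩ := s'.onto m
  rw [s'.θ_ψ ⟨hn, hg.2⟩ hu]
  exact (k _ (conj_mem_of_norm hn hu)).trans ((s.θ_ψ hg (s.pre_le _ hu)).symm.trans (congrArg _ (k u hu).symm))

end Sect

section Three
variable {α : Type*} [Fintype α] [DecidableEq α] {a b z x y : α}

/-- Coordinates on the even vectors supported on three points. -/
def j3 (a b z : α) : (Fin 2 → ZMod 2) →+ Ev α where
  toFun m := m 0 • pr a z + m 1 • pr b z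
  map_zero' := by simp
  map_add' m n := by simp only [Pi.add_apply, add_smul]; abel

theorem j3_apply (m : Fin 2 → ZMod 2) : j3 a b z m = m 0 • pr a z + m 1 • pr b z := rfl

theorem j3_injective (hab : a ≠ b) (ha : a ≠ z) (hb : b ≠ z) : Function.Injective (j3 a b z) :=
  (injective_iff_map_eq_zero _).2 fun m e => by
    have e₁ := congrArg (fun v : Ev α => v.1 a) e
    have e₂ := congrArg (fun v : Ev α => v.1 b) e
    simp only [j3_apply, Submodule.coe_add, Submodule.coe_smul, Pi.add_apply, Pi.smul_apply, pr_left ha, pr_left hb,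
      pr_of_ne hab ha, pr_of_ne hab.symm hb, smul_eq_mul, mul_one, mul_zero, add_zero, zero_add] at e₁ e₂
    exact vec_ext e₁ e₂

theorem j3_10 : j3 a b z ![1, 0] = pr a z := by simp [j3_apply]

theorem j3_01 : j3 a b z ![0, 1] = pr b z := by simp [j3_apply]

theorem j3_11 : j3 a b z ![1, 1] = pr a b := by simp [j3_apply, pr_comm b z, pr_add]

theorem pr_mem_j3 (hx : x = a ∨ x = b ∨ x = z) (hy : y = a ∨ y = b ∨ y = z) : pr x y ∈ (j3 a b z).range := by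
  have k : ∀ x, x = a ∨ x = b ∨ x = z → pr x z ∈ (j3 a b z).range := by
    rintro x (rfl | rfl | rfl)
    exacts [⟨_, j3_10⟩, ⟨_, j3_01⟩, pr_self x ▸ zero_mem _]
  rw [← pr_add x z y, pr_comm z y]
  exact add_mem (k x hx) (k y hy)

theorem toP_mem_j3 {σ : Perm α} (ha : σ a = a ∨ σ a = b ∨ σ a = z) (hb : σ b = a ∨ σ b = b ∨ σ b = z)
    (hz : σ z = a ∨ σ z = b ∨ σ z = z) : ∀ m ∈ (j3 a b z).range, toP σ m ∈ (j3 a b z).range := by
  rintro _ ⟨m, rfl⟩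
  have k : ∀ (c : ZMod 2), ∀ v ∈ (j3 a b z).range, c • v ∈ (j3 a b z).range := fun c v hv => by
    rcases z2_cases c with rfl | rfl
    · rw [zero_smul]; exact zero_mem _
    · rwa [one_smul]
  rw [j3_apply, map_add, aut_smul, aut_smul, toP_pr, toP_pr]
  exact add_mem (k _ _ (pr_mem_j3 ha hz)) (k _ _ (pr_mem_j3 hb hz))

theorem v11_ne : (![1, 1] : Fin 2 → ZMod 2) ≠ 0 := by decide

theorem UL_le_two {X : Subgroup (AutM (Fin 2 → ZMod 2))} {v : Fin 2 → ZMod 2} {r : AutM (Fin 2 → ZMod 2)} (hr : r ∈ X)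
    (h : r ∈ UL v) (h1 : r ≠ 1) : UL v ≤ X := fun r' hr' => by
  obtain ⟨s, e⟩ := mem_UL.1 h
  obtain ⟨s', e'⟩ := mem_UL.1 hr'
  rcases z2_cases s' with rfl | rfl
  · rw [show r' = 1 from aut_ext fun m => by rw [e', zero_mul, zero_smul, add_zero, aut_one]]; exact one_mem _
  rcases z2_cases s with rfl | rfl
  · exact absurd (aut_ext fun m => by rw [e, zero_mul, zero_smul, add_zero, aut_one]) h1
  · rwa [show r' = r from aut_ext fun m => by rw [e, e']]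

end Three

variable [Finite G] {α : Type*} [Fintype α] [DecidableEq α] (ho : Odd (Fintype.card α)) (h3 : 3 ≤ Fintype.card α)

namespace Cp
include ho h3

theorem Z_bot (h : Cp 2 T M₀ L U Z) (a : ActS (PS α) L U Z) : Z = ⊥ := by
  have l := pResidualOf_le 2 L
  have e := h.im_res a (res_PS ho h3)
  have nU : L ≤ N(U) := (h.nn' le_rfl).trans inf_le_left
  have nW := le_normalizer_commutator nU (le_normalizer.trans (normalizer_le_normalizer_pResidualOf 2 L))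
  refine eq_bot_sym ho h3 (E := pResidualOf 2 L) ⟨a.toSect, h.nn' l, e⟩ (isElementaryAbelian_of_le V_elem h.U_le)
    (h.Z_cent.trans (centralizer_anti l)) ((inf_le_inf_right _ (l.trans le_normalizer)).trans h.fa) ?_
  refine h.comm_U.trans ((commutator_mono (a.le_comm_sup (model_sym ho h3) (h.nn' l) e) le_rfl).trans ?_)
  rw [commutator_comm]
  exact commutator_sup_le le_normalizer (le_normalizer_of_le_centralizer ((a.le.trans h.U_le).trans (V_comm.trans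
    (centralizer_anti ((commutator_le_left_of_le_normalizer (l.trans nU)).trans h.U_le)))))
    (commutator_le_right_of_le_normalizer nW) ((commutator_eq_bot_iff_le_centralizer'.2 h.Z_cent).le.trans bot_le)

variable (h : Cp 2 T M₀ L U ⊥) (a : ActS (PS α) L U ⊥)
include h

theorem pre' : Pre 2 (RS α) N(L) a.toSect := h.pre a (model_sym ho h3) (res_PS ho h3)

include a in
theorem BN : Bm 2 T ≤ N(L) := h.B_norm a (model_sym ho h3) (res_PS ho h3)

theorem im_le (hX : X ≤ N(L)) : a.im X ≤ PS α :=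
  (a.im_mono hX).trans ((h.pre' ho h3 a).nr.trans (norm_le_PS ho h3))

theorem perm (hg : g ∈ N(L)) : ∃ σ, toP σ = a.θ g := h.im_le ho h3 a le_rfl (a.θ_mem hg)

theorem exists_z : ∃ z, ∀ g ∈ T ⊓ N(L), a.θ g (fv ho z) = fv ho z := by
  obtain ⟨z, hz⟩ := exists_fixed_pt ho ((a.im_isPGroup (h.syl.isPGroup.to_le (inf_le_left : T ⊓ N(L) ≤ _))).comap_of_injective
    toP (toP_injective ho))
  refine ⟨z, fun g hg => ?_⟩
  obtain ⟨σ, e⟩ := h.perm ho h3 a hg.2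
  rw [← e, toP_fv, hz σ (mem_comap.2 (e ▸ a.θ_mem hg))]

omit ho h3 [DecidableEq α] in
theorem mem_of_fix {v : Ev α} (hv : v ≠ 0) (hf : ∀ g ∈ T ⊓ N(L), a.θ g v = v) (hg : g ∈ L) (e : a.θ g v = v) :
    g ∈ M₀ := by
  obtain ⟨w, hw, rfl⟩ := a.onto v
  obtain ⟨y, hy, k⟩ := exists_orbit_prod (K := C(L)) V_elem.1 (nV 2 T) (h.U_le hw) fun t ht => (h.conj t).imp
    (fun e => have n := mem_normalizer_iff_conj_eq.2 e; a.conj_eq (h.nn n) hw (hf t ⟨ht, n⟩))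
    fun e => e (conj_mem_conj t hw)
  refine h.min.max C(zpowers y) (le_centralizer_iff.1 (zpowers_le_of_mem hy.2)) (lt_top_iff_ne_top.2 fun e' => hv ?_)
    (mem_cent_zp.2 ?_)
  · have : y ∈ (C(L) : Subgroup G) := le_centralizer_iff.1 (le_top.trans e'.ge) (mem_zpowers y)
    exact a.zero (h.eZ.le (mem_inf.2 ⟨hw, inv_mem_iff.1 ((mul_mem_cancel_right this).1 k)⟩))
  · have e₁ := a.conj_eq (a.norm hg) hw e
    have e₂ := conj_eq_of_cent' k hg
    rw [← mul_inv_eq_iff_eq_mul]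
    calc g * y * g⁻¹ = g * w * g⁻¹ * (g * (w⁻¹ * y) * g⁻¹) := by group
      _ = y := by rw [e₁, e₂, mul_inv_cancel_left]

variable {z : α} (hz : ∀ g ∈ T ⊓ N(L), a.θ g (fv ho z) = fv ho z)
include hz

theorem fix_of_mem (hg : g ∈ L) (hm : g ∈ M₀) {σ : Perm α} (e : toP σ = a.θ g) : σ z = z := by
  by_contra k
  refine h.not_le a (res_PS ho h3) (X := L ⊓ M₀) inf_le_left (RS_le_PS.trans ?_) inf_le_right
  rintro _ ⟨τ, rfl⟩
  refine eq_top_of_stab (H := (a.im (L ⊓ M₀)).comap toP) (fun σ' hσ' => ?_) (mem_comap.2 (e ▸ a.θ_mem ⟨hg, hm⟩)) k τ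
  obtain ⟨x, hx, e'⟩ := a.exists_θ ⟨σ', rfl⟩
  exact mem_comap.2 (e' ▸ a.θ_mem ⟨hx, h.mem_of_fix a (fv_ne_zero ho h3 z) hz hx (by rw [e', toP_fv, hσ'])⟩)

theorem mem_iff (hg : g ∈ L) {σ : Perm α} (e : toP σ = a.θ g) : g ∈ M₀ ↔ σ z = z :=
  ⟨fun hm => h.fix_of_mem ho h3 a hz hg hm e, fun k =>
    h.mem_of_fix a (fv_ne_zero ho h3 z) hz hg (by rw [← e, toP_fv, k])⟩

theorem eq_fv_of_fix {v : Ev α} (hv : v ≠ 0) (hf : ∀ g ∈ T ⊓ N(L), a.θ g v = v) : v = fv ho z := by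
  by_contra k
  obtain ⟨y, hy, e⟩ := exists_eq_coord ho k
  obtain ⟨x, hx, e'⟩ := a.exists_θ ⟨swap y z, rfl⟩
  exact hy ((swap_apply_right y z).symm.trans (h.fix_of_mem ho h3 a hz hx (h.mem_of_fix a hv hf hx (by
    rw [e', toP_swap, e, z2_add_self, zero_smul, add_zero])) e'.symm))

theorem le_cent : L ⊓ M₀ ≤ C(omegaOneCenter 2 T) := fun g hg y hy => by
  obtain ⟨u, hu, c, hc, rfl⟩ := (mem_sup_iff_of_le_normalizer (le_normalizer_of_le_centralizer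
    (h.U_le.trans (V_comm.trans (centralizer_anti inf_le_left))))).1 (h.dec (h.Z_le hy))
  have hf : ∀ t ∈ T ⊓ N(L), a.θ t (a.ψ u) = a.ψ u := fun t ht => by
    have n := h.nn ht.2
    have e := conj_eq_of_cent' (omegaOneCenter_le_centralizer 2 T hy) ht.1
    have k : u⁻¹ * (t * u * t⁻¹) ∈ U ⊓ C(L) := mem_inf.2 ⟨mul_mem (inv_mem hu) (conj_mem_of_norm n.1 hu), by
      rw [show u⁻¹ * (t * u * t⁻¹) = u⁻¹ * (t * (u * c) * t⁻¹) * (t * c * t⁻¹)⁻¹ by group, e, inv_mul_cancel_left]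
      exact mul_mem hc.2 (inv_mem (conj_mem_of_norm (le_normalizer_centralizer le_rfl ht.2) hc.2))⟩
    rw [a.θ_ψ n hu, ← inv_mul_eq_one.1 (mem_bot.1 (h.eZ.le k))]
  have k : a.θ g (a.ψ u) = a.ψ u := by
    rcases eq_or_ne (a.ψ u) 0 with e | e
    · rw [e, map_zero]
    · obtain ⟨σ, e'⟩ := h.perm ho h3 a (le_normalizer hg.1)
      rw [h.eq_fv_of_fix ho h3 a hz e hf, ← e', toP_fv, h.fix_of_mem ho h3 a hz hg.1 hg.2 e']
  have e₁ := a.conj_eq (a.norm hg.1) hu k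
  have e₂ := conj_eq_of_cent' hc.2 hg.1
  calc u * c * g = g * u * g⁻¹ * (g * c * g⁻¹) * g := by rw [e₁, e₂]
    _ = g * (u * c) := by group

omit hz in
theorem swap_mem {A : Subgroup G} (hA : MaxAb 2 T A) (hg : g ∈ A) {σ : Perm α} (e : toP σ = a.θ g) {x : α}
    (hx : σ x ≠ x) : toP (swap x (σ x)) ∈ a.im (J 2 T) := by
  have n := hA.le_J.trans h.JN
  have e' : ((a.im A).comap toP).map toP = a.im A := map_comap_eq_self (h.im_le ho h3 a n)
  refine a.im_mono hA.le_J (mem_comap.1 ((k1_perm ho (A := (a.im A).comap toP) (elem_of_map ho (e'.symm ▸ a.im_elem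
    (abExp_iff_isElementaryAbelian.1 hA.abExp)))).2 ?_ σ (mem_comap.2 (e ▸ a.θ_mem hg)) x hx))
  rw [← card_map_of_injective (toP_injective ho), e']
  exact ((h.pre' ho h3 a).off h.U_le_T hA n).1.le

omit hz in
theorem exists_swap : ∃ x y, x ≠ y ∧ (∃ t ∈ J 2 T, a.θ t = toP (swap x y)) ∧ ∀ g ∈ Bm 2 T, a.θ g (pr x y) = pr x y := by
  have k := h.pre' ho h3 a
  obtain ⟨A, hA⟩ := not_forall.1 fun k => h.nc (J_le_iff.2 k)
  obtain ⟨hA, hc⟩ := Classical.not_imp.1 hA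
  obtain ⟨g, hg, hg'⟩ := SetLike.not_le_iff_exists.1 hc
  have n := h.JN (hA.le_J hg)
  obtain ⟨σ, e⟩ := h.perm ho h3 a n
  obtain ⟨x, hx⟩ := not_forall.1 fun k' : ∀ x, σ x = x => hg' ((k.θ_eq_one n).1 (by
    rw [← e, show σ = 1 from Equiv.ext k', map_one]))
  have hs := h.swap_mem ho h3 a hA hg e hx
  generalize σ x = y at hx hs
  have hp := (a.im_isPGroup (h.syl.isPGroup.to_le (J_le 2 T))).comap_of_injective toP (toP_injective ho)
  have hJ : J 2 T ≤ a.cm (stabM (pr x y)) := J_le_iff.2 fun A hA g hg => by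
    have n := h.JN (hA.le_J hg)
    obtain ⟨σ, e⟩ := h.perm ho h3 a n
    refine a.mem_cm.2 ⟨h.nn n, mem_stabM.2 ?_⟩
    rw [← e, toP_pr]
    refine pr_eq_of (fun e => hx (σ.injective e).symm) ((eq_or_ne (σ x) x).imp_right fun k' =>
      swap_pair hp (Ne.symm hx) k'.symm hs (h.swap_mem ho h3 a hA hg e k')) ((eq_or_ne (σ y) y).symm.imp_left fun k' =>
      swap_pair hp hx k'.symm (swap_comm x y ▸ hs) (h.swap_mem ho h3 a hA hg e k'))
  exact ⟨x, y, Ne.symm hx, (a.mem_im' (h.JN.trans h.nn)).1 hs, fun g hg => k.B_fix h.U_le_T h.JN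
    (mem_fixM.2 fun r hr => mem_stabM.1 ((a.le_cm_iff.1 hJ).2 hr)) hg (h.nn (h.BN ho h3 a hg))⟩

omit hz in
include a in
theorem U_le_J : U ≤ J 2 T := by
  obtain ⟨A, hA⟩ := exists_maxAb 2 T
  exact le_sup_right.trans ((h.pre' ho h3 a).off h.U_le_T hA (hA.le_J.trans h.JN)).2.2.le_J

theorem exists_unit {x y : α} (hxy : x ≠ y) {t : G} (ht : t ∈ J 2 T) (e : a.θ t = toP (swap x y))
    (hB : ∀ g ∈ Bm 2 T, a.θ g (pr x y) = pr x y) : ∃ E ≤ L, Blk 2 T E ∧ ¬ E ≤ M₀ ∧ WE 2 E ≤ U ∧ ∃ w ∈ U,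
      a.ψ w = pr x y ∧ ∀ u ∈ WE 2 E, ∀ g ∈ Bm 2 T, ⁅u, g⁆ = 1 ∨ ⁅u, g⁆ = w := by
  have nB := h.BN ho h3 a
  have fz : ∀ g ∈ Bm 2 T, ∀ σ, toP σ = a.θ g → σ z = z := fun g hg σ e => fv_injective ho (by
    rw [← toP_fv, e, hz g ⟨Bm_le 2 T hg, nB hg⟩])
  have e₀ := fz t (J_le_Bm 2 T ht) _ e.symm
  have hx : x ≠ z := fun k => hxy (by rw [← k, swap_apply_left] at e₀; exact e₀.symm)
  have hy : y ≠ z := fun k => hxy (by rw [← k, swap_apply_right] at e₀; exact e₀)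
  have hj := j3_injective hxy hx hy
  obtain ⟨W, s, lW, s₁, s₂, s₃⟩ := a.exists_sub (j3 x y z) hj
  have nb : ∀ X : Subgroup G, X ≤ N((⊥ : Subgroup G)) := fun X =>
    le_normalizer_of_le_centralizer (le_top.trans centralizer_bot'.ge)
  have nW : ∀ g ∈ N(L), ∀ σ, toP σ = a.θ g → (σ x = x ∨ σ x = y ∨ σ x = z) → (σ y = x ∨ σ y = y ∨ σ y = z) →
      (σ z = x ∨ σ z = y ∨ σ z = z) → g ∈ (N(W) : Subgroup G) := fun g hg σ e h₁ h₂ h₃ =>
    s₃ g (h.nn hg) (e ▸ toP_mem_j3 h₁ h₂ h₃)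
  have nBW : Bm 2 T ≤ N(W) := fun g hg => by
    obtain ⟨σ, e⟩ := h.perm ho h3 a (nB hg)
    have k := hB g hg
    rw [← e, toP_pr] at k
    obtain ⟨k₁, k₂⟩ := pair_of_pr (fun e => hxy (σ.injective e)) k
    exact nW g (nB hg) σ e (k₁.imp_right .inl) (k₂.imp_right .inl) (.inr (.inr (fz g hg σ e)))
  have uB : ∀ g ∈ Bm 2 T, s.θ g ∈ UL ![1, 1] := fun g hg => mem_UL_of_PL v11_ne (mem_PL_two _) (hj (by
    rw [s₂ g (h.nn (nB hg)) (nBW hg), j3_11, hB g hg]))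
  have nH : L ⊓ N(W) ⊔ Bm 2 T ≤ NN W ⊥ := le_inf (sup_le inf_le_right nBW) (nb _)
  have l := (pResidualOf_sup_le (h.syl.isPGroup.to_le (Bm_le 2 T)) (le_normalizer_inf nB (nBW.trans le_normalizer))).trans
    (inf_le_left : L ⊓ N(W) ≤ _)
  have t₁ : s.θ t ≠ 1 := fun k => by
    have := s₂ t (h.nn (h.JN ht)) (nBW (J_le_Bm 2 T ht)) ![1, 0]
    rw [k, aut_one, j3_10, e, toP_pr, swap_apply_left, swap_apply_of_ne_of_ne hx.symm hy.symm] at this
    exact (pair_of_pr hx this).1.elim hxy hx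
  have hM : ∀ X ≤ pResidualOf 2 (L ⊓ N(W) ⊔ Bm 2 T), s.im X = RL (ZMod 2) → ¬ X ≤ M₀ := fun X hX e k => by
    obtain ⟨r, hr, e'⟩ := RL_trans v11_ne (e0_ne (F := ZMod 2))
    have n := hX.trans ((pResidualOf_le 2 _).trans nH)
    obtain ⟨g, hg, rfl⟩ := (s.mem_im' n).1 (e.ge hr)
    obtain ⟨σ, e₁⟩ := h.perm ho h3 a (le_normalizer (l (hX hg)))
    have := s₂ g (a.norm (l (hX hg))) (n hg).1 ![1, 1]
    rw [e', j3_10, j3_11, ← e₁, toP_pr, ← h.fix_of_mem ho h3 a hz (l (hX hg)) (k hg) e₁] at this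
    have k' := h.fix_of_mem ho h3 a hz (l (hX hg)) (k hg) e₁
    exact (pair_of_pr (k'.symm ▸ hx) this).2.elim (fun e => hx (σ.injective e).symm) fun e => hy (σ.injective e).symm
  have lQ : pCore 2 G ≤ C(VG 2 G) := le_centralizer_omegaOneCenter 2 _
  have pre : Pre 2 (RL (ZMod 2)) (L ⊓ N(W) ⊔ Bm 2 T) s := ⟨model_lin, isElementaryAbelian_of_le V_elem (lW.trans h.U_le),
    nH, fun r _ => PL_le_norm (mem_PL_two r), inf_le_right.trans (commutator_eq_bot_iff_le_centralizer'.1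
      (le_bot_iff.1 (comm_le_of_le_rel le_rfl)))⟩
  obtain ⟨E, h₁, h₂, h₃⟩ := pre.exists_blk h.syl h.hG ((lW.trans h.U_le).trans (omegaOneCenter_le 2 _))
    (le_antisymm (fun r _ => mem_PL_two r) (by
      obtain ⟨g, hg, e'⟩ := a.exists_θ ⟨swap x z, rfl⟩
      have n := nW g (le_normalizer hg) _ e'.symm (.inr (.inr (swap_apply_left _ _)))
        (.inr (.inl (swap_apply_of_ne_of_ne hxy.symm hy))) (.inl (swap_apply_right _ _))
      refine PL_le_of v11_ne (fun r _ => mem_PL_two r) (UL_le_two (s.θ_mem (mem_sup_right (J_le_Bm 2 T ht)))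
        (uB t (J_le_Bm 2 T ht)) t₁) (s.θ_mem (mem_sup_left (mem_inf.2 ⟨hg, n⟩))) ?_
      rw [show s.θ g ![1, 1] = ![0, 1] from hj (by rw [s₂ g (a.norm hg) n, j3_11, j3_01, e', toP_pr, swap_apply_left,
        swap_apply_of_ne_of_ne hxy.symm hy, pr_comm]), mem_line]
      unfold det2; decide)) le_sup_right
    ((le_inf (lQ.trans h.cent) (le_normalizer_of_le_centralizer (lQ.trans (centralizer_anti (lW.trans h.U_le))))).trans
      le_sup_left) (fun k => t₁ (s.θ_of_cent (k ht))) h.hd h.hz hM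
  have nE := h₁.trans ((pResidualOf_le 2 _).trans nH)
  have c := s.le_comm_sup model_lin nE h₃
  rw [sup_bot_eq] at c
  have eW : WE 2 E ≤ W := (h₂.irr (c.trans ((commutator_mono (lW.trans h.U_le) le_rfl).trans
    ((h₂.VE h.syl h.hG).trans (WE_le 2 E)))) (nE.trans inf_le_left)).resolve_left fun k => by
      exact v11_ne ((s.ψ_σ _).symm.trans (s.zero
        (c.trans (commutator_eq_bot_iff_le_centralizer.2 k).le (s.σ_mem ![1, 1]))))
  refine ⟨E, h₁.trans l, h₂, hM E h₁ h₃, eW.trans lW, s.σ ![1, 1], lW (s.σ_mem _), by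
    rw [← s₁ _ (s.σ_mem _), s.ψ_σ, j3_11], fun u hu g hg => ?_⟩
  have m : ⁅u, g⁆ ∈ W := commutator_le_left_of_le_normalizer nBW (commutator_mem_commutator (eW hu) hg)
  obtain ⟨c, hc⟩ := (mem_line_iff v11_ne).1 (UL_sub (uB g hg) (s.ψ u))
  rw [← s.ψ_comm (nH (mem_sup_right hg)) (eW hu)] at hc
  rcases z2_cases c with rfl | rfl
  · exact .inl (mem_bot.1 ((s.ker _ m).1 (hc.trans (zero_smul _ _))))
  · exact .inr (s.ψ_inj m (s.σ_mem _) (by rw [hc, one_smul, s.ψ_σ]))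

omit ho h3 h hz in
theorem _root_.Cfsg.Agent.Lib.Blk.Blk.core_two (b : Blk 2 T E) : pCoreOf 2 E = WE 2 E :=
  b.cases'.elim (fun ⟨_, _, _, _, _, k⟩ => k.resolve_right fun k => absurd k.three (by decide)) fun ⟨_, _, _, _, k, _⟩ => k

omit hz in
theorem exists_t {x y : α} (hxy : x ≠ y) (b : Blk 2 T E) (hM : ¬ E ≤ M₀) (lW : WE 2 E ≤ U) {w : G} (hw : w ∈ U)
    (e : a.ψ w = pr x y) (hc : ∀ u ∈ WE 2 E, ∀ g ∈ Bm 2 T, ⁅u, g⁆ = 1 ∨ ⁅u, g⁆ = w) :
    ∃ t ∈ Bm 2 T, t * t = 1 ∧ a.θ t = toP (swap x y) ∧ ∀ g ∈ Bm 2 T, ⁅t, g⁆ ∈ U := by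
  have UB := (h.U_le_J ho h3 a).trans (J_le_Bm 2 T)
  have lX := (map_subgroupOf_eq_of_le (lW.trans UB)).ge.trans (map_mono (f := (Bm 2 T).subtype)
    (le_char_iSup ((WE 2 E).subgroupOf (Bm 2 T))))
  have k := fun k : map (Bm 2 T).subtype _ ≤ C(WE 2 E) => hM (le_trans (le_normalizer_of_commutator_le ((le_inf
    (commutator_le_right_of_le_normalizer ((map_subtype_le _).trans b.B_norm)) ((commutator_mono k le_rfl).trans
      (commutator_le_left_of_le_normalizer (le_normalizer.trans (norm_C 2 E))))).trans (b.faith'.trans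
        (b.core_two.le.trans lX)))) (h.hd _ (fun e => b.WE_ne_bot (le_bot_iff.1 (lX.trans (by rw [e, Subgroup.map_bot]))))
          (char_iSup _)))
  rw [Subgroup.map_iSup, iSup_le_iff] at k
  obtain ⟨φ, hφ⟩ := not_forall.1 k
  obtain ⟨_, ⟨_, ⟨u, hu, rfl⟩, rfl⟩, ht⟩ := SetLike.not_le_iff_exists.1 hφ
  change (φ u : G) ∉ _ at ht
  have key : ∀ g ∈ Bm 2 T, ⁅(φ u : G), g⁆ = 1 ∨ ⁅(φ u : G), g⁆ = φ ⟨w, UB hw⟩ := fun g hg => by
    have e₁ : ⁅(φ u : G), g⁆ = φ ⁅u, φ.symm ⟨g, hg⟩⁆ := by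
      rw [map_commutatorElement, φ.apply_symm_apply]; rfl
    refine (hc u hu _ (φ.symm ⟨g, hg⟩).2).imp (fun k => ?_) fun k => ?_
    · rw [e₁, show ⁅u, φ.symm ⟨g, hg⟩⁆ = 1 from Subtype.ext k, map_one]; rfl
    · rw [e₁, show ⁅u, φ.symm ⟨g, hg⟩⁆ = ⟨w, UB hw⟩ from Subtype.ext k]
  obtain ⟨w', hw'⟩ := not_forall.1 ht
  obtain ⟨hw', hn⟩ := Classical.not_imp.1 hw'
  have e₁ := (hc w' hw' _ (φ u).2).resolve_left fun k => hn (commutatorElement_eq_one_iff_mul_comm.1 k)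
  have e₂ := (key w' (UB (lW hw'))).resolve_left fun k => hn (commutatorElement_eq_one_iff_mul_comm.1 k).symm
  rw [← commutatorElement_inv, e₁] at e₂
  rw [← e₂] at key
  have n := h.BN ho h3 a (φ u).2
  obtain ⟨σ, e'⟩ := h.perm ho h3 a n
  refine ⟨φ u, (φ u).2, ?_, ?_, fun g hg => (key g hg).elim (fun k => k ▸ one_mem _) fun k => k ▸ inv_mem hw⟩
  · have : u * u = 1 := Subtype.ext ((pow_two (u : G)).symm.trans ((WE_elem 2 E).2 _ hu))
    rw [← coe_mul, ← map_mul, this, map_one, coe_one]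
  · rw [← e', eq_swap_of ho hxy (σ := σ) (fun v => ?_) fun k => ht (centralizer_anti lW (((h.pre' ho h3 a).θ_eq_one n).1
      (by rw [← e', k, map_one])))]
    obtain ⟨u', hu', rfl⟩ := a.onto v
    have e₃ := a.ψ_comm (h.nn n) hu'
    rw [← commutatorElement_inv, ← e'] at e₃
    refine (key u' (UB hu')).imp (fun k => ?_) fun k => ?_
    · rw [k, inv_one, a.one] at e₃
      exact (sub_eq_zero.1 e₃.symm).symm
    · rw [k, inv_inv, e] at e₃
      rw [← Ev.neg (pr x y), e₃]; abel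

end Cp

end Cfsg.Agent.Lib.Blk
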