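import Cfsg.Agent.Lib.BlkAlt

/-! Components of symmetric type contain a block. -/

set_option autoImplicit false
open Cfsg

namespace Cfsg.Agent.Lib.Blk

open Subgroup Cfsg.Agent.Lib.PCoreConj Cfsg.Agent.Lib.PCore Cfsg.Agent.Lib.PCoreResidual Cfsg.Agent.Lib.PCoreMod
open Cfsg.Agent.Lib.ThompsonJ Cfsg.Agent.Lib.PushBase Cfsg.Agent.Lib.PIrred Equiv
open scoped Pointwise commutatorElement MatrixGroups

universe u
variable {G : Type u} [Group G] {p : ℕ} {T E E' U W Z X Y S L M₀ : Subgroup G} {g u v t : G}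

theorem eq_or_of_zpowers (h : t * t = 1) (hg : g ∈ zpowers t) : g = 1 ∨ g = t := by
  obtain ⟨n, rfl⟩ := mem_zpowers_iff.1 hg
  obtain ⟨k, rfl | rfl⟩ := Int.even_or_odd' n
  · exact .inl (by rw [zpow_mul, zpow_two, h, one_zpow])
  · exact .inr (by rw [zpow_add, zpow_mul, zpow_two, h, one_zpow, one_mul, zpow_one])

variable {α : Type*} [Fintype α] [DecidableEq α]

theorem disj_of {A : Subgroup (Perm α)} (hA : IsPGroup 2 A) {x y c d : α} (hxy : x ≠ y) (hcd : c ≠ d)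
    (h₁ : swap x y ∈ A) (h₂ : swap c d ∈ A) (h : pr c d ≠ pr x y) : c ≠ x ∧ c ≠ y ∧ d ≠ x ∧ d ≠ y := by
  refine ⟨?_, ?_, ?_, ?_⟩ <;> rintro rfl
  · exact h (by rw [swap_pair hA hxy hcd h₁ h₂])
  · exact h (by rw [swap_pair hA hxy.symm hcd (swap_comm x c ▸ h₁) h₂, pr_comm])
  · exact h (by rw [swap_pair hA hxy hcd.symm h₁ (swap_comm c d ▸ h₂), pr_comm])
  · exact h (by rw [swap_pair hA hxy.symm hcd.symm (swap_comm x d ▸ h₁) (swap_comm c d ▸ h₂)])

theorem mul_swap_mem {σ : Perm α} {x y : α} (hxy : x ≠ y) (h : σ ∉ alternatingGroup α) :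
    σ * swap x y ∈ alternatingGroup α := by
  rw [Perm.mem_alternatingGroup] at h ⊢
  rw [map_mul, Perm.sign_swap hxy, (Int.units_eq_one_or _).resolve_left h]; rfl

variable [Finite G] (ho : Odd (Fintype.card α)) (h3 : 3 ≤ Fintype.card α)

/-- A subgroup of a component of symmetric type with the properties of the block to be found. -/
structure AltE (T M₀ L U E : Subgroup G) (a : ActS (PS α) L U ⊥) : Prop extends Cp 2 T M₀ L U ⊥ where
  res : pResidualOf 2 E = E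
  le : E ≤ L
  nE : (N(L) : Subgroup G) ≤ N(E)
  eE : a.im E = RS α
  KQ : E ⊓ C(U) ≤ pCore 2 G
  QE : ⁅pCore 2 G, E⁆ ≤ U

namespace Cp
include ho h3
variable (h : Cp 2 T M₀ L U ⊥) (a : ActS (PS α) L U ⊥)
include h

theorem exists_altE (l : E' ≤ L) (b : Blk 2 T E') (lW : WE 2 E' ≤ U) : ∃ E, AltE T M₀ L U E a ∧ E' ≤ E := by
  have nD : ∀ X : Subgroup G, X ≤ N(rel (VG 2 G) (pCore 2 G)) := fun X => le_norm_rel (nV 2 X) (nQ 2 X)
  have l₁ := pResidualOf_le 2 (L ⊓ rel (VG 2 G) (pCore 2 G))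
  have nE := (le_normalizer_inf le_rfl (nD N(L))).trans (normalizer_le_normalizer_pResidualOf 2 _)
  have l₂ := pResidualOf_le 2 (rel (VG 2 G) (pCore 2 G) ⊓ C(VG 2 G))
  have DC : rel (VG 2 G) (pCore 2 G) ⊓ C(VG 2 G) ≤ pCore 2 G := le_pCore (normal_iff_top_le.2 (le_normalizer_inf (nD ⊤)
    (le_normalizer_centralizer (nV 2 ⊤)))) (isPGroup_of_pResidualOf_le (pCore_isPGroup 2 G)
      ((pResidualOf_le_centralizer_of_le (pCore_isPGroup 2 G) (nQ 2 _) (comm_le_of_le_rel (l₂.trans inf_le_left))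
        (l₂.trans inf_le_right)).trans h.hG))
  have l₃ := b.res.ge.trans (pResidualOf_mono (le_inf l (le_rel_iff.2 ⟨nV 2 _, (b.QE h.syl).trans
    (b.core_two.le.trans (b.WE_le_V h.syl h.hG))⟩)))
  have l₄ := (a.im_mono (pResidualOf_mono (p := 2) (inf_le_left : L ⊓ rel (VG 2 G) (pCore 2 G) ≤ _))).trans
    (h.im_res a (res_PS ho h3)).le
  refine ⟨_, ⟨h, pResidualOf_idem 2 _, l₁.trans inf_le_left, nE, le_antisymm l₄ (RS_simple ho h3 l₄
    (RS_le_PS.trans (a.eq.ge.trans (a.im_le_norm (le_normalizer.trans nE)))) fun e => b.not_cent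
      ((((h.pre' ho h3 a).im_eq_bot_iff (l.trans le_normalizer)).1 (le_bot_iff.1 ((a.im_mono l₃).trans e.le))).trans
        (centralizer_anti lW))), le_trans (le_inf (inf_le_left.trans (l₁.trans inf_le_right)) ((inf_le_inf
          (l₁.trans inf_le_left) (le_rel_of_cent le_rfl bot_le)).trans h.faith)) DC, ?_⟩, l₃⟩
  rw [← commutator_commutator_pResidualOf (pCore_isPGroup 2 G) (nQ 2 _)]
  exact (commutator_mono (comm_le_of_le_rel (l₁.trans inf_le_right)) (l₁.trans inf_le_left)).trans h.eU.le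

end Cp

namespace AltE
include ho h3
variable {a : ActS (PS α) L U ⊥} (h : AltE T M₀ L U E a)
include h

theorem UE : U ≤ ⁅U, E⁆ := (a.le_comm_sup (model_sym ho h3) (h.nn' h.le) h.eE).trans (sup_bot_eq _).le

theorem U_le_E : U ≤ E := (h.UE ho h3).trans (commutator_le_right_of_le_normalizer
  (((h.U_le.trans V_comm).trans h.cent).trans (le_normalizer.trans h.nE)))

theorem CE : U ⊓ C(E) ≤ ⊥ := (a.img_eq_bot_iff inf_le_left).1 (((model_sym ho h3).irr _ (h.eE ▸ a.im_img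
  (le_normalizer_inf ((h.nn' h.le).trans inf_le_left) (le_normalizer_centralizer le_normalizer)))).resolve_right fun e =>
    h.not_le_Z ((h.UE ho h3).trans (commutator_eq_bot_iff_le_centralizer.2 ((a.le_sup_of_img_eq_top e).trans
      (sup_le inf_le_right bot_le))).le))

theorem KB : E ⊓ C(U) ≤ Bm 2 T := by
  have nU : E ≤ N(U) := (h.nn' h.le).trans inf_le_left
  have QT := h.syl.pCore_le
  have ZC : ZJ 2 T ≤ C(U) := (ZJ_le_centralizer_J 2 T).trans (centralizer_anti (h.U_le_J ho h3 a))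
  have l : ⁅E, ZJ 2 T ⊔ pCore 2 G⁆ ≤ pCore 2 G := commutator_sup_le (nQ 2 _) (nQ 2 _) ((le_inf
    (commutator_le_left_of_le_normalizer (((ZJ_le_J 2 T).trans h.JN).trans h.nE)) ((commutator_mono le_rfl ZC).trans
      (commutator_le_right_of_le_normalizer (le_normalizer_centralizer nU)))).trans h.KQ)
    (commutator_le_right_of_le_normalizer (nQ 2 _))
  rw [commutator_comm] at l
  have k := commutator_commutator_pResidualOf (K := E) (h.syl.isPGroup.to_le (sup_le (ZJ_le 2 T) QT))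
    (h.res.symm ▸ le_normalizer_of_commutator_le (l.trans le_sup_right))
  rw [h.res] at k
  have ZE : ⁅ZJ 2 T, E⁆ ≤ U := (commutator_mono le_sup_left le_rfl).trans (k.ge.trans ((commutator_mono l le_rfl).trans h.QE))
  have nb : ∀ X : Subgroup G, X ≤ N((⊥ : Subgroup G)) := fun X =>
    le_normalizer_of_le_centralizer (le_top.trans centralizer_bot'.ge)
  refine le_inf (h.KQ.trans QT) (commutator_eq_bot_iff_le_centralizer.1 (le_bot_iff.1 (le_trans (le_inf
    ((commutator_mono inf_le_left le_rfl).trans ((commutator_comm _ _).le.trans ZE))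
    (commutator_eq_bot_iff_le_centralizer.1 (le_bot_iff.1 (three_subgroups (nb _) (nb _) (nb _) ?_ ?_)))) (h.CE ho h3))))
  · exact (commutator_mono ZE le_rfl).trans (commutator_eq_bot_iff_le_centralizer'.2 inf_le_right).le
  · exact (commutator_mono ((commutator_mono le_rfl h.KQ).trans ((commutator_comm _ _).le.trans h.QE)) le_rfl).trans
      (commutator_eq_bot_iff_le_centralizer'.2 ZC).le

theorem exists_move {x y : α} (hxy : x ≠ y) (ht : t ∈ Bm 2 T) (e : a.θ t = toP (swap x y)) {z : α}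
    (hz : ∀ g ∈ T ⊓ N(L), a.θ g (fv ho z) = fv ho z) {x' y' : α} (h₀ : x' ≠ y') (h₁ : x' ≠ x) (h₂ : x' ≠ y) (h₃ : y' ≠ x)
    (h₄ : y' ≠ y) : ∃ g ∈ T ⊓ E, a.θ g (pr x y) ≠ pr x y := by
  have n : t ∈ T ⊓ N(L) := ⟨Bm_le 2 T ht, h.BN ho h3 a ht⟩
  have k : ¬ ∀ g ∈ T ⊓ N(L), a.θ g (pr x y) = pr x y := fun k => by
    have e' := h.eq_fv_of_fix ho h3 a hz (pr_ne_zero hxy) k
    have : ∀ w, w ≠ x → w ≠ y → w = z := fun w k₁ k₂ => by_contra fun k₃ =>
      zero_ne_one ((pr_of_ne k₁ k₂).symm.trans (e' ▸ fv_of_ne ho k₃))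
    exact h₀ ((this x' h₁ h₂).trans (this y' h₃ h₄).symm)
  obtain ⟨g, hg⟩ := not_forall.1 k
  obtain ⟨hg, hn⟩ := Classical.not_imp.1 hg
  have s := a.im_sylow (h.syl.inf_subnormalIn ((SubnormalIn.of_normal h.le (le_normalizer.trans h.nE)).trans h.sub))
    (h.nn' h.le)
  have k' := s.eq_of_le (Q := a.im (T ⊓ N(L)) ⊓ a.im E) inf_le_right ((a.im_isPGroup (h.syl.isPGroup.to_le
    inf_le_left)).to_le inf_le_left) (le_inf (a.im_mono (inf_le_inf_left _ (h.le.trans le_normalizer))) s.le)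
  have key : ∀ g ∈ T ⊓ N(L), a.θ g ∈ RS α → a.θ g (pr x y) ≠ pr x y → ∃ g ∈ T ⊓ E, a.θ g (pr x y) ≠ pr x y :=
    fun g hg hr hn => by
      obtain ⟨g', hg', e'⟩ := (a.mem_im' (h.nn' (inf_le_right.trans h.le))).1 (k'.le ⟨a.θ_mem hg, h.eE.ge hr⟩)
      exact ⟨g', hg', e' ▸ hn⟩
  obtain ⟨σ, e'⟩ := h.perm ho h3 a hg.2
  by_cases k : σ ∈ alternatingGroup α
  · exact key g hg (e' ▸ mem_map_of_mem _ k) hn
  · have e₁ := a.θ_mul (h.nn hg.2) (h.nn n.2)
    refine key (g * t) (mul_mem hg n) (by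
      rw [e₁, ← e', e, ← map_mul]; exact mem_map_of_mem _ (mul_swap_mem hxy k)) ?_
    rwa [e₁, aut_mul, e, toP_pr, swap_apply_left, swap_apply_right, pr_comm y x]

theorem K_le {x y : α} (hxy : x ≠ y) (ht : t ∈ Bm 2 T) (h2 : t * t = 1) (e : a.θ t = toP (swap x y))
    (hc : ∀ g ∈ Bm 2 T, ⁅t, g⁆ ∈ U) : E ⊓ C(U) ≤ U := by
  obtain ⟨z, hz⟩ := h.exists_z ho h3 a
  have nB := h.BN ho h3 a
  have nH : E ⊔ zpowers t ≤ N(L) := sup_le (h.le.trans le_normalizer) (zpowers_le_of_mem (nB ht))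
  have nU : E ⊔ zpowers t ≤ N(U) := (nH.trans h.nn).trans inf_le_left
  have tH : t ∈ E ⊔ zpowers t := mem_sup_right (mem_zpowers t)
  have eH : a.im (E ⊔ zpowers t) = ⊤[Perm α].map toP := by
    rw [← MonoidHom.range_eq_map]
    refine le_antisymm (h.im_le ho h3 a nH) ?_
    rintro _ ⟨σ, rfl⟩
    have l := h.eE.ge.trans (a.im_mono (le_sup_left : E ≤ E ⊔ zpowers t))
    by_cases k : σ ∈ alternatingGroup α
    · exact l (mem_map_of_mem _ k)
    · have := l (mem_map_of_mem _ (mul_swap_mem hxy k))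
      rwa [map_mul, ← e, mul_mem_cancel_right (a.θ_mem tH)] at this
  obtain ⟨ρ, r₁, r₂, r₃⟩ := ActS.exists_hom (f := toP) ⟨a.toSect, nH.trans h.nn, eH⟩ (toP_injective ho)
  change ∀ g, toP (ρ g) = a.θ g at r₂
  have kK : ∀ k ∈ ρ.ker, (k : G) ∈ E ⊓ C(U) := fun k hk => by
    have e₁ : a.θ k = 1 := by rw [← r₂, hk, map_one]
    refine ⟨?_, ((h.pre' ho h3 a).θ_eq_one (nH k.2)).1 e₁⟩
    obtain ⟨u, hu, v, hv, e₂⟩ := (mem_sup_iff_of_le_normalizer' ((zpowers_le_of_mem (nB ht)).trans h.nE)).1 k.2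
    rcases eq_or_of_zpowers h2 hv with rfl | rfl
    · rwa [← e₂, mul_one]
    · obtain ⟨σ, hσ, e₃⟩ := h.eE.le (a.θ_mem hu)
      rw [← e₂, a.θ_mul (a.norm (h.le hu)) (h.nn (nB ht)), ← e₃, e, ← map_mul, map_eq_one_iff _ (toP_injective ho)] at e₁
      have := congrArg Perm.sign e₁
      rw [map_mul, Perm.mem_alternatingGroup.1 hσ, Perm.sign_swap hxy, map_one] at this
      exact absurd this (by decide)
  have cK : ⁅E ⊓ C(U), E ⊔ zpowers t⁆ ≤ U := commutator_sup_le (le_sup_left.trans nU) (le_sup_right.trans nU)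
    ((commutator_mono h.KQ le_rfl).trans h.QE) (comm_le_of_le_rel (zpowers_le_of_mem (mem_rel.2 ⟨nU tH, fun k hk => by
      rw [← commutatorElement_inv]; exact inv_mem (hc k (h.KB ho h3 hk))⟩)))
  haveI : (U.subgroupOf (E ⊔ zpowers t)).Normal := normal_subgroupOf_of_le_normalizer nU
  have lU := (h.U_le_E ho h3).trans (le_sup_left : E ≤ E ⊔ zpowers t)
  obtain ⟨D, d₁, d₂, d₃⟩ := split_mod hxy (MonoidHom.range_eq_top.1 r₁) (U.subgroupOf (E ⊔ zpowers t))
    (r₃ ▸ comap_mono (le_rel_of_cent (h.U_le.trans (V_comm.trans (centralizer_anti h.U_le))) bot_le))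
    (fun k hk g => cK (commutator_mem_commutator (kK k hk) g.2)) (t := ⟨t, tH⟩) (Subtype.ext h2)
    (toP_injective ho ((r₂ _).trans e)) fun x' y' h₀ h₁ h₂ h₃ h₄ => by
      obtain ⟨g, hg, hn⟩ := h.exists_move ho h3 hxy ht e hz h₀ h₁ h₂ h₃ h₄
      obtain ⟨τ, e₁⟩ := h.perm ho h3 a (le_normalizer (h.le hg.2))
      have sB : g * t * g⁻¹ ∈ Bm 2 T := conj_mem_of_norm (le_normalizer_Bm 2 T hg.1) ht
      have e₂ : a.θ (g * t * g⁻¹) = toP (swap (τ x) (τ y)) := by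
        rw [a.θ_conj (a.norm (h.le hg.2)) (h.nn (nB ht)), ← e₁, e, ← map_inv, ← map_mul, ← map_mul, swap_apply_apply]
      have k : τ x ≠ τ y := fun k => hxy (τ.injective k)
      obtain ⟨k₁, k₂, k₃, k₄⟩ := disj_of ((a.im_isPGroup (h.syl.isPGroup.to_le (Bm_le 2 T))).comap_of_injective toP
        (toP_injective ho)) hxy k (mem_comap.2 (e ▸ a.θ_mem ht)) (mem_comap.2 (e₂ ▸ a.θ_mem sB)) (by
          rwa [← toP_pr, e₁])
      exact ⟨τ x, τ y, ⟨g * t * g⁻¹, mul_mem (mul_mem (mem_sup_left hg.2) tH) (inv_mem (mem_sup_left hg.2))⟩, k, k₁, k₂,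
        k₃, k₄, toP_injective ho ((r₂ _).trans e₂), hc _ sB⟩
  have l₁ : U ≤ D.map (E ⊔ zpowers t).subtype := (map_subgroupOf_eq_of_le lU).ge.trans (map_mono d₁)
  have l₂ : E ⊔ zpowers t ≤ D.map (E ⊔ zpowers t).subtype ⊔ E ⊓ C(U) := by
    have := congrArg (Subgroup.map (E ⊔ zpowers t).subtype) d₃
    rw [Subgroup.map_sup, ← MonoidHom.range_eq_map, range_subtype] at this
    exact this.ge.trans (sup_le_sup_left (map_le_iff_le_comap.2 kK) _)
  have l₃ := h.res.ge.trans ((pResidualOf_mono (le_sup_left.trans l₂)).trans (pResidualOf_sup_le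
    ((pCore_isPGroup 2 G).to_le h.KQ) (le_normalizer_of_commutator_le ((commutator_mono (map_subtype_le _) le_rfl).trans
      ((commutator_comm _ _).le.trans (cK.trans l₁))))))
  intro k hk
  obtain ⟨d, hd, rfl⟩ := l₃ hk.1
  exact d₂ ⟨hd, r₃ ▸ le_rel_of_cent le_rfl bot_le hk.2⟩

end AltE

theorem Cp.exists_sym {m : ℕ} (hm : 1 ≤ m) (h : Cp 2 T M₀ L U ⊥) (a : ActS (PS (Fin (2 * m + 1))) L U ⊥) :
    ∃ E ≤ L, Blk 2 T E ∧ a.im E = RS (Fin (2 * m + 1)) := by
  have ho := odd_fin m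
  have h3 := three_le_fin hm
  obtain ⟨z, hz⟩ := h.exists_z ho h3 a
  obtain ⟨x, y, hxy, ⟨t₀, ht₀, e₀⟩, hB⟩ := h.exists_swap ho h3 a
  obtain ⟨E', l, b, hM, lW, w, hw, e₁, hc⟩ := h.exists_unit ho h3 a hz hxy ht₀ e₀ hB
  obtain ⟨t, ht, h2, e, hc'⟩ := h.exists_t ho h3 a hxy b hM lW hw e₁ hc
  obtain ⟨E, k, l'⟩ := h.exists_altE ho h3 a l b lW
  have hK := k.K_le ho h3 hxy ht h2 e hc'
  have el := isElementaryAbelian_of_le V_elem h.U_le
  have cU : U ≤ C(U) := h.U_le.trans (V_comm.trans (centralizer_anti h.U_le))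
  have nU : E ≤ N(U) := (h.nn' k.le).trans inf_le_left
  have e₂ : pCoreOf 2 E = U := le_antisymm ((le_inf (pCoreOf_le 2 E) ((pCoreOf_le_pCore_of_isSubnormal
    (subnormalIn_top_iff.1 ((SubnormalIn.of_normal k.le (le_normalizer.trans k.nE)).trans h.sub))).trans
      ((le_centralizer_omegaOneCenter 2 _).trans (centralizer_anti h.U_le)))).trans hK)
    (le_pCoreOf (k.U_le_E ho h3) nU (isPGroup_of_isElementaryAbelian el))
  have e₃ : W0 2 E = U := by
    rw [W0, e₂]; exact le_antisymm (omegaOneCenter_le 2 U) (le_omegaOneCenter el le_rfl cU)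
  have e₄ : ZE 2 E = ⊥ := by rw [ZE, e₃]; exact le_bot_iff.1 (k.CE ho h3)
  have nB := (h.BN ho h3 a).trans k.nE
  have l₁ := commutator_le_left_of_le_normalizer nB
  have fa : E ⊓ rel ⊥ U ≤ U := (le_inf inf_le_left ((inf_le_inf_right _ (k.le.trans le_normalizer)).trans h.fa)).trans hK
  refine ⟨E, k.le, ⟨k.res, le_antisymm l₁ (k.res.ge.trans ((pResidualOf_mono ?_).trans (pResidualOf_sup_le
    (isPGroup_of_isElementaryAbelian el) ((k.U_le_E ho h3).trans (normalizer_commutator_ge_left _ _))))),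
    e₂.symm ▸ le_antisymm (commutator_le_left_of_le_normalizer nU) (k.UE ho h3),
    fun e => b.nz (le_bot_iff.1 ((commutator_mono l' le_rfl).trans e.le)), ?_,
    .inr ⟨rfl, m, hm, ?_, e₂.trans e₃.symm⟩⟩, k.eE⟩
  · have n := h.nn' (l₁.trans k.le)
    have := le_inf (a.le_sup_of_im_le (h.nn' k.le) n (k.eE.le.trans (RS_simple ho h3 ((a.im_mono l₁).trans k.eE.le)
      (k.eE.ge.trans (a.im_le_norm (normalizer_commutator_ge_left _ _))) fun e => b.not_cent
        ((((h.pre' ho h3 a).im_eq_bot_iff (l.trans le_normalizer)).1 (le_bot_iff.1 ((a.im_mono (b.comm.ge.trans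
          (commutator_mono l' le_rfl))).trans e.le))).trans (centralizer_anti lW))))) le_rfl
    rw [sup_inf_of_le_normalizer (le_norm_rel (n.trans inf_le_right) (n.trans inf_le_left)) l₁, inf_comm] at this
    exact this.trans (sup_le_sup_left fa _)
  · rw [e₄, e₃, e₂]
    exact le_antisymm fa (le_inf (k.U_le_E ho h3) (le_rel_of_cent cU bot_le))
  · rw [e₄, e₃]
    exact ⟨⟨a.toSect, h.nn' k.le, k.eE⟩⟩

end Cfsg.Agent.Lib.Blk
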