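import Cfsg.Agent.Lib.PushBase
import Cfsg.Prelude.Def_BaumannBlocks

/-! Baumann subgroups: basic facts and weak closure. -/

set_option autoImplicit false
open Cfsg

namespace Cfsg.Agent.Lib.Blk

open Subgroup Cfsg.Agent.Lib.PCoreConj Cfsg.Agent.Lib.PCore Cfsg.Agent.Lib.PCoreResidual Cfsg.Agent.Lib.PCoreMod
open Cfsg.Agent.Lib.ThompsonJ Cfsg.Agent.Lib.PushBase
open scoped Pointwise commutatorElement

variable {G : Type*} [Group G] {p : ℕ}

/-- The Baumann subgroup. -/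
def Bm (p : ℕ) (T : Subgroup G) : Subgroup G := T ⊓ C(ZJ p T)

variable {T R Q E S : Subgroup G}

theorem baumann_eq (p : ℕ) (T : Subgroup G) [Finite T] : baumannSubgroupOf p T = Bm p T := by
  unfold baumannSubgroupOf Bm
  rw [omegaOne_centerThompsonOf_eq]

theorem Bm_le (p : ℕ) (T : Subgroup G) : Bm p T ≤ T := inf_le_left

theorem Bm_le_cent (p : ℕ) (T : Subgroup G) : Bm p T ≤ C(ZJ p T) := inf_le_right

theorem ZJ_le_cent_Bm (p : ℕ) (T : Subgroup G) : ZJ p T ≤ C(Bm p T) :=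
  le_centralizer_iff.1 (Bm_le_cent p T)

theorem J_le_Bm (p : ℕ) (T : Subgroup G) : J p T ≤ Bm p T :=
  le_inf (J_le p T) (J_le_centralizer_ZJ p T)

theorem conj_Bm (p : ℕ) (T : Subgroup G) (g : G) : (Bm p T) ^ᶜ g = Bm p (T ^ᶜ g) := by
  unfold Bm
  rw [conj_inf, conj_centralizer, conj_ZJ]

theorem normalizer_le_normalizer_Bm (p : ℕ) (T : Subgroup G) : (N(T) : Subgroup G) ≤ N(Bm p T) := by
  intro g hg
  rw [mem_normalizer_iff_conj_eq] at hg ⊢
  rw [conj_Bm, hg]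

theorem le_normalizer_Bm (p : ℕ) (T : Subgroup G) : T ≤ N(Bm p T) :=
  le_normalizer.trans (normalizer_le_normalizer_Bm p T)

theorem J_Bm (p : ℕ) (T : Subgroup G) [Finite T] : J p (Bm p T) = J p T :=
  J_eq_of_J_le (J_le_Bm p T) (Bm_le p T)

theorem ZJ_Bm (p : ℕ) (T : Subgroup G) [Finite T] : ZJ p (Bm p T) = ZJ p T :=
  ZJ_eq_of_J_le (J_le_Bm p T) (Bm_le p T)

theorem Bm_eq_inf [Finite T] (h₁ : J p T ≤ R) (h₂ : R ≤ T) : Bm p R = R ⊓ Bm p T := by
  unfold Bm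
  rw [ZJ_eq_of_J_le h₁ h₂, ← inf_assoc, inf_eq_left.2 h₂]

theorem Bm_eq_of_le [Finite T] (h₁ : Bm p T ≤ R) (h₂ : R ≤ T) : Bm p R = Bm p T := by
  rw [Bm_eq_inf ((J_le_Bm p T).trans h₁) h₂, inf_eq_right.2 h₁]

theorem Bm_Bm (p : ℕ) (T : Subgroup G) [Finite T] : Bm p (Bm p T) = Bm p T :=
  Bm_eq_of_le le_rfl (Bm_le p T)

theorem omegaOneCenter_Bm (p : ℕ) (T : Subgroup G) [Finite T] : omegaOneCenter p (Bm p T) = ZJ p T := by
  apply le_antisymm
  · intro x hx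
    rw [mem_omegaOneCenter_iff] at hx
    exact mem_ZJ_iff.2 ⟨Bm_le p T hx.1, centralizer_anti (J_le_Bm p T) hx.2.1, hx.2.2⟩
  · intro x hx
    have h := mem_ZJ_iff.1 hx
    exact mem_omegaOneCenter_iff.2 ⟨J_le_Bm p T (ZJ_le_J p T hx), ZJ_le_cent_Bm p T hx, h.2.2⟩

theorem omegaOneCenter_le_ZJ (p : ℕ) (T : Subgroup G) [Finite T] : omegaOneCenter p T ≤ ZJ p T := by
  intro x hx
  rw [mem_omegaOneCenter_iff] at hx
  exact mem_ZJ_of_centralizer hx.1 hx.2.1 hx.2.2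

theorem map_Bm {G' : Type*} [Group G'] {f : G →* G'} (hf : Function.Injective f) (T : Subgroup G) :
    (Bm p T).map f = Bm p (T.map f) := by
  unfold Bm
  rw [← map_ZJ (inf_ker_of_injective hf T)]
  ext x
  constructor
  · rintro ⟨y, ⟨hy, hc⟩, rfl⟩
    refine mem_inf.2 ⟨mem_map_of_mem f hy, ?_⟩
    rw [mem_centralizer_iff]
    rintro _ ⟨z, hz, rfl⟩
    rw [← map_mul, ← map_mul, (mem_centralizer_iff.1 hc) z hz]
  · intro hx
    obtain ⟨⟨y, hy, rfl⟩, hc⟩ := mem_inf.1 hx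
    refine ⟨y, mem_inf.2 ⟨hy, ?_⟩, rfl⟩
    rw [mem_centralizer_iff]
    intro z hz
    apply hf
    rw [map_mul, map_mul]
    exact mem_centralizer_iff.1 hc _ (mem_map_of_mem f hz)

theorem Bm_subgroupOf (h : T ≤ S) : Bm p (T.subgroupOf S) = (Bm p T).subgroupOf S := by
  apply map_injective S.subtype_injective
  rw [map_Bm S.subtype_injective, subgroupOf_map_subtype_of_le h,
    subgroupOf_map_subtype_of_le ((Bm_le p T).trans h)]

variable [hp : Fact p.Prime] [Finite G]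

/-- A `p`-subgroup containing `J(T)` has the same Thompson subgroup. -/
theorem J_eq_of_pgroup (hT : IsSylowIn p T S) (hR : IsPGroup p R) (hS : R ≤ S) (h : J p T ≤ R) :
    J p R = J p T := by
  obtain ⟨g, -, hg⟩ := hT.exists_conj_le hS hR
  have h1 : (J p T) ^ᶜ g = J p T := conj_J_eq_of_le ((conj_mono g h).trans hg)
  have h2 : J p (R ^ᶜ g) = J p T := J_eq_of_J_le (h1 ▸ conj_mono g h) hg
  rw [← conj_J, ← h1, conj_inj] at h2
  exact h2

theorem ZJ_eq_of_pgroup (hT : IsSylowIn p T S) (hR : IsPGroup p R) (hS : R ≤ S) (h : J p T ≤ R) :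
    ZJ p R = ZJ p T := by
  rw [← ZJ_J p R, J_eq_of_pgroup hT hR hS h, ZJ_J]

/-- Weak closure of the Baumann subgroup. -/
theorem Bm_eq_of_pgroup (hT : IsSylowIn p T S) (hR : IsPGroup p R) (hS : R ≤ S) (h : Bm p T ≤ R) :
    Bm p R = Bm p T := by
  obtain ⟨g, -, hg⟩ := hT.exists_le_conj hS hR
  have hJ := (J_le_Bm p T).trans h
  have e1 : ZJ p R = ZJ p T := ZJ_eq_of_pgroup hT hR hS hJ
  have h1 : (J p T) ^ᶜ g⁻¹ = J p T := conj_J_eq_of_le (le_conj_iff_conj_inv_le.1 (hJ.trans hg))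
  have h1' : J p (T ^ᶜ g) = J p T := by
    rw [← conj_J]
    exact (conj_eq_iff_eq_conj_inv.2 h1.symm)
  have e2 : ZJ p (T ^ᶜ g) = ZJ p T := by rw [← ZJ_J p (T ^ᶜ g), h1', ZJ_J]
  have h3 : Bm p T ≤ Bm p (T ^ᶜ g) := le_inf (h.trans hg) (by rw [e2]; exact Bm_le_cent p T)
  have h4 : Bm p T = Bm p (T ^ᶜ g) := eq_of_le_of_card_le h3 (by rw [← conj_Bm, card_conj])
  rw [h4] at h ⊢
  exact Bm_eq_of_le h hg

theorem le_normalizer_Bm_of (hT : IsSylowIn p T S) (hQ : IsPGroup p Q) (hS : Q ≤ S)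
    (h : Bm p T ≤ N(Q)) : Q ≤ N(Bm p T) := by
  have hB : IsPGroup p (Bm p T) := hT.isPGroup.to_le (Bm_le p T)
  have hR : IsPGroup p ↥(Bm p T ⊔ Q) := hB.to_sup_of_normal_right' hQ h
  have e := Bm_eq_of_pgroup hT hR (sup_le ((Bm_le p T).trans hT.le) hS) le_sup_left
  have := le_normalizer_Bm p (Bm p T ⊔ Q)
  rw [e] at this
  exact le_sup_right.trans this

theorem le_normalizer_J_of (hT : IsSylowIn p T S) (hQ : IsPGroup p Q) (hS : Q ≤ S)
    (h : J p T ≤ N(Q)) : Q ≤ N(J p T) := by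
  have hB : IsPGroup p (J p T) := hT.isPGroup.to_le (J_le p T)
  have hR : IsPGroup p ↥(J p T ⊔ Q) := hB.to_sup_of_normal_right' hQ h
  have e := J_eq_of_pgroup hT hR (sup_le ((J_le p T).trans hT.le) hS) le_sup_left
  have := le_normalizer.trans (normalizer_le_normalizer_J p (J p T ⊔ Q))
  rw [e] at this
  exact le_sup_right.trans this

omit [Finite G] in
theorem pResidualOf_sup_eq [Finite Q] (hE : pResidualOf p E = E) (hQ : IsPGroup p Q) (h : Q ≤ N(E)) :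
    pResidualOf p (Q ⊔ E) = E := by
  apply le_antisymm
  · have := pResidualOf_sup_le_sup (p := p) h
    rwa [pResidualOf_eq_bot_iff.2 hQ, bot_sup_eq] at this
  · exact hE.ge.trans (pResidualOf_mono le_sup_right)

omit hp [Finite G] in
theorem le_normalizer_of_comm_eq {B : Subgroup G} (h : ⁅E, B⁆ = E) : B ≤ N(E) :=
  le_normalizer_of_commutator_le h.le

/-- A `p`-subgroup normalized by `B(T)` and by `E = O^p(E) = [E, B(T)]` normalizes `E`. -/
theorem le_normalizer_of_inv (hT : IsSylowIn p T ⊤) (hE : pResidualOf p E = E) (hB : ⁅E, Bm p T⁆ = E)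
    (hQ : IsPGroup p Q) (h₁ : Bm p T ≤ N(Q)) (h₂ : E ≤ N(Q)) : Q ≤ N(E) := by
  have h3 : Q ≤ N(nclIn (Bm p T) E) := by
    unfold nclIn
    refine le_normalizer_iSup fun e => ?_
    have := le_normalizer_conj (le_normalizer_Bm_of hT hQ le_top h₁) (e : G)
    rwa [conj_eq_of_mem_normalizer (h₂ e.2)] at this
  rw [nclIn_eq_sup_commutator, commutator_comm, hB] at h3
  have h4 := le_normalizer_pResidualOf_of (p := p) h3
  rwa [pResidualOf_sup_eq hE (hT.isPGroup.to_le (Bm_le p T)) (le_normalizer_of_comm_eq hB)] at h4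

end Cfsg.Agent.Lib.Blk
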