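import Cfsg.Agent.Lib.BlkExc

/-! A block is normalized by the centralizer of its module. -/

set_option autoImplicit false
open Cfsg

namespace Cfsg.Agent.Lib.Blk

open Subgroup Cfsg.Agent.Lib.PCoreConj Cfsg.Agent.Lib.PCore Cfsg.Agent.Lib.PCoreResidual Cfsg.Agent.Lib.PCoreMod
open Cfsg.Agent.Lib.ThompsonJ Cfsg.Agent.Lib.PushBase
open scoped Pointwise commutatorElement MatrixGroups

universe u
variable {G : Type u} [Group G] {p : ℕ} {T E X Y : Subgroup G} {g x y z t u v : G}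

/-- The elements of `O_p(G)` centralizing `O_p(E) / W`. -/
def Y0 (p : ℕ) (E : Subgroup G) : Subgroup G := pCore p G ⊓ rel (WE p E) (pCoreOf p E)

/-- The normal closure of `E` under `C(W)`. -/
def LC (p : ℕ) (E : Subgroup G) : Subgroup G := nclIn E C(WE p E)

/-- Its part centralizing `W`. -/
def DC (p : ℕ) (E : Subgroup G) : Subgroup G := C(WE p E) ⊓ LC p E

theorem nQ (p : ℕ) (X : Subgroup G) : X ≤ N(pCore p G) := le_normalizer_of_normal

theorem nQ' (p : ℕ) (g : G) : g ∈ (N(pCore p G) : Subgroup G) := nQ p ⊤ (mem_top g)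

theorem cQ (g : G) (hx : x ∈ pCore p G) : g * x * g⁻¹ ∈ pCore p G := conj_mem_of_norm (nQ' p g) hx

theorem C_norm_W : (C(X) : Subgroup G) ≤ N(X) := le_normalizer_of_le_centralizer le_rfl

theorem norm_C (p : ℕ) (E : Subgroup G) : (N(E) : Subgroup G) ≤ N((C(WE p E) : Subgroup G)) := le_normalizer_centralizer (norm_WE p E)

theorem norm_Y0 (p : ℕ) (E : Subgroup G) : (N(E) : Subgroup G) ≤ N(Y0 p E) :=
  le_normalizer_inf (nQ p _) (le_norm_rel (norm_WE p E) (normalizer_le_normalizer_pCoreOf p E))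

theorem E_le_LC (p : ℕ) (E : Subgroup G) : E ≤ LC p E := le_nclIn _ _

theorem C_norm_LC (p : ℕ) (E : Subgroup G) : (C(WE p E) : Subgroup G) ≤ N(LC p E) := le_normalizer_nclIn _ _

theorem norm_LC (p : ℕ) (E : Subgroup G) : (N(E) : Subgroup G) ≤ N(LC p E) := le_normalizer_nclIn_of le_rfl (norm_C p E)

theorem C_norm_DC (p : ℕ) (E : Subgroup G) : (C(WE p E) : Subgroup G) ≤ N(DC p E) := le_normalizer_inf le_normalizer (C_norm_LC p E)

theorem norm_DC (p : ℕ) (E : Subgroup G) : (N(E) : Subgroup G) ≤ N(DC p E) := le_normalizer_inf (norm_C p E) (norm_LC p E)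

theorem LC_eq (p : ℕ) (E : Subgroup G) : LC p E = E ⊔ DC p E := by
  rw [DC, ← sup_inf_of_le_normalizer (le_normalizer.trans (norm_C p E)) (E_le_LC p E), inf_of_le_right]
  exact nclIn_le le_sup_left (le_normalizer_of_le le_sup_right)

theorem comm_mem_DC (hg : g ∈ C(WE p E)) (hx : x ∈ E) : ⁅g, x⁆ ∈ DC p E :=
  mem_inf.2 ⟨comm_mem_of_norm (norm_C p E (le_normalizer hx)) hg,
    comm_mem_swap (comm_mem_of_norm (C_norm_LC p E hg) (E_le_LC p E hx))⟩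

theorem rel_anti {W A B : Subgroup G} (h : A ≤ B) : rel W B ≤ rel W A := fun _ hx =>
  mem_rel.2 ⟨(mem_rel.1 hx).1, fun a ha => (mem_rel.1 hx).2 a (h ha)⟩

theorem mem_cent_zp : g ∈ (C(zpowers z) : Subgroup G) ↔ g * z = z * g :=
  ⟨fun h => (mem_centralizer_iff.1 h z (mem_zpowers z)).symm, fun h => mem_centralizer_iff.2 fun _ ⟨k, e⟩ =>
    e ▸ ((show Commute z g from h.symm).zpow_left k).eq⟩

variable [hp : Fact p.Prime] [Finite G]

theorem cent_of_le {P K : Subgroup G} (hP : IsPGroup p P) (hz : (orderOf z).Coprime p) (hn : z ∈ N(P))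
    (h₁ : ⁅P, zpowers z⁆ ≤ K) (h₂ : z ∈ C(K)) : z ∈ C(P) :=
  pResidualOf_le_centralizer_of_le hP ((pResidualOf_le p _).trans (zpowers_le_of_mem hn))
    ((commutator_mono le_rfl (pResidualOf_le p _)).trans h₁) ((pResidualOf_le p _).trans (zpowers_le_of_mem h₂))
    (mem_pResidualOf (mem_zpowers z) hz)

omit [Finite G] in
theorem coprime_of_sq (h2 : p ≠ 2) (hz : z ^ 2 = 1) : (orderOf z).Coprime p :=
  ((Nat.coprime_primes Nat.prime_two hp.out).2 h2.symm).coprime_dvd_left (orderOf_dvd_of_pow_eq_one hz)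

namespace Blk
variable (h : Blk p T E) (hT : IsSylowIn p T ⊤)
include h hT

theorem QE : ⁅pCore p G, E⁆ ≤ pCoreOf p E :=
  (le_inf (commutator_le_left_of_le_normalizer (nQ p E)) (commutator_le_right_of_le_normalizer (h.Q_norm hT))).trans
    (pCore_inf_le E)

theorem norm_of_cent (hG : C(pCore p G) ≤ pCore p G) (hD : pResidualOf p (DC p E) ≤ C(pCore p G)) : (C(WE p E) : Subgroup G) ≤ N(E) := by
  have k := isPGroup_of_pResidualOf_le (pCore_isPGroup p G) (hD.trans hG)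
  have e := pResidualOf_sup_eq h.res k (h.norm_of_inv hT k (h.B_norm.trans (norm_DC p E))
    (le_normalizer.trans (norm_DC p E)))
  rw [sup_comm, ← LC_eq] at e
  have := (C_norm_LC p E).trans (normalizer_le_normalizer_pResidualOf p _)
  rwa [e] at this

omit hT in
theorem comm_le_WE (hX : IsPGroup p X) (hn : E ≤ N(X)) (hc : ⁅X, E⁆ ≤ W0 p E) : ⁅X, E⁆ ≤ WE p E :=
  (h.comm_comm hX hn).ge.trans (commutator_mono hc le_rfl)

end Blk

namespace XB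
variable {F : Type} [Field F] [Finite F] [CharP F p] (d : XB p T E F)
include d

theorem nn (hg : g ∈ N(WE p E)) : g ∈ NN (WE p E) (ZW p E) :=
  mem_inf.2 ⟨hg, by rw [d.ZW_eq]; exact le_normalizer_of_normal (mem_top g)⟩

theorem mem_W (ht : t ∈ E) (e : d.a.θ t = negA _) (hx : x ∈ W0 p E) (h : t * x * t⁻¹ = x⁻¹) : x ∈ WE p E := by
  obtain ⟨w, hw, z, hz, rfl⟩ := (mem_sup_iff_of_le_normalizer ((WE_le_E p E).trans
    (le_normalizer.trans (norm_ZE p E)))).1 (d.blk.W0_le_sup hx)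
  have e₁ := d.blk.inverts d.a.toSect ht e hw
  have e₂ := conj_eq_of_cent' (ZE_cent p E hz) ht
  have e₃ := conj_eq_of_cent' (ZE_cent p E hz) (WE_le_E p E hw)
  have : z ^ 2 = 1 := by
    calc z ^ 2 = w * ((t * w * t⁻¹) * (t * z * t⁻¹)) * z := by rw [e₁, e₂, pow_two]; group
      _ = w * (t * (w * z) * t⁻¹) * z := by group
      _ = (w * z * w⁻¹)⁻¹ * z := by rw [h]; group
      _ = 1 := by rw [e₃, inv_mul_cancel]
  rw [eq_one_of_sq d.ne_two ((W0_elem p E).2 z (ZE_le p E hz)) this, mul_one]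
  exact hw

theorem inf_rel_W : pCoreOf p E ⊓ rel (WE p E) (pCoreOf p E) = W0 p E := by
  refine le_antisymm ((d.irr inf_le_left (le_normalizer_inf (le_normalizer.trans
    (normalizer_le_normalizer_pCoreOf p E)) (le_norm_rel (le_normalizer.trans (norm_WE p E))
      (le_normalizer.trans (normalizer_le_normalizer_pCoreOf p E))))).resolve_right fun k => d.ZE_ne_bot ?_)
    (le_inf (W0_le p E) (le_rel_of_cent (le_centralizer_iff.1 (core_le_cent p E)) (WE_le_core p E)))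
  have k' := comm_le_of_le_rel (k.trans (sup_le inf_le_right
    (le_rel_of_cent (le_centralizer_iff.1 (core_le_cent p E)) (WE_le_core p E))))
  rw [d.exc.comm] at k'
  exact eq_bot_iff.2 ((le_inf k' le_rfl).trans d.WE_inf.le)

theorem exists_form : ∃ c : Sect F (W0 p E) (WE p E), ∀ u ∈ pCoreOf p E, ∀ v ∈ pCoreOf p E,
    c.ψ ⁅u, v⁆ = det2 (d.s.ψ u) (d.s.ψ v) := by
  have ab : W0 p E ≤ C(W0 p E) := (W0_le p E).trans (core_le_cent p E)
  obtain ⟨A, _, ⟨c⟩⟩ := exists_sect (WE_le p E) ((commutator_eq_bot_iff_le_centralizer.2 ab).le.trans bot_le)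
  have cz : ∀ {u v}, u ∈ pCoreOf p E → v ∈ pCoreOf p E → ⁅u, v⁆ ∈ ZE p E := fun hu hv =>
    d.exc.comm.le (commutator_mem_commutator hu hv)
  have ml : ∀ {u u' v}, u ∈ pCoreOf p E → u' ∈ pCoreOf p E → v ∈ pCoreOf p E →
      c.ψ ⁅u * u', v⁆ = c.ψ ⁅u, v⁆ + c.ψ ⁅u', v⁆ := fun hu hu' hv => by
    rw [comm_mul_left, conj_eq_of_cent' (ZE_cent p E (cz hu' hv)) (pCoreOf_le p E hu),
      c.add _ (ZE_le p E (cz hu' hv)) _ (ZE_le p E (cz hu hv)), add_comm]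
  have mr : ∀ {u v v'}, u ∈ pCoreOf p E → v ∈ pCoreOf p E → v' ∈ pCoreOf p E →
      c.ψ ⁅u, v * v'⁆ = c.ψ ⁅u, v⁆ + c.ψ ⁅u, v'⁆ := fun hu hv hv' => by
    rw [comm_mul_right, conj_eq_of_cent' (ZE_cent p E (cz hu hv')) (pCoreOf_le p E hv),
      c.add _ (ZE_le p E (cz hu hv)) _ (ZE_le p E (cz hu hv'))]
  have cg : ∀ {u u' v v'}, u ∈ pCoreOf p E → u' ∈ pCoreOf p E → v ∈ pCoreOf p E → v' ∈ pCoreOf p E →
      d.s.ψ u = d.s.ψ u' → d.s.ψ v = d.s.ψ v' → c.ψ ⁅u, v⁆ = c.ψ ⁅u', v'⁆ := fun {u u' v v'} hu hu' hv hv' e₁ e₂ => by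
    have k₁ := (d.s.eq_iff hu hu').1 e₁
    have k₂ := (d.s.eq_iff hv hv').1 e₂
    rw [← mul_inv_cancel_left u u', ← mul_inv_cancel_left v v', ml hu (W0_le p E k₁) (mul_mem hv (W0_le p E k₂)),
      mr hu hv (W0_le p E k₂), comm_eq_one_of_cent (core_le_cent p E (mul_mem hv (W0_le p E k₂))) k₁,
      comm_eq_one_of_cent' (core_le_cent p E hu) k₂, c.one, add_zero, add_zero]
  have σ := d.s.σ_mem
  let β : (Fin 2 → F) →+ (Fin 2 → F) →+ A := AddMonoidHom.mk' (fun m => AddMonoidHom.mk' (fun n => c.ψ ⁅d.s.σ m, d.s.σ n⁆)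
    fun n n' => by
      rw [← mr (σ m) (σ n) (σ n')]
      exact cg (σ _) (σ _) (σ _) (mul_mem (σ _) (σ _)) rfl (by rw [d.s.add _ (σ _) _ (σ _), d.s.ψ_σ, d.s.ψ_σ, d.s.ψ_σ]))
    fun m m' => AddMonoidHom.ext fun n => by
      show c.ψ ⁅d.s.σ (m + m'), d.s.σ n⁆ = c.ψ ⁅d.s.σ m, d.s.σ n⁆ + c.ψ ⁅d.s.σ m', d.s.σ n⁆
      rw [← ml (σ m) (σ m') (σ n)]
      exact cg (σ _) (mul_mem (σ _) (σ _)) (σ _) (σ _) (by rw [d.s.add _ (σ _) _ (σ _), d.s.ψ_σ, d.s.ψ_σ, d.s.ψ_σ]) rfl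
  have hβ : ∀ u ∈ pCoreOf p E, ∀ v ∈ pCoreOf p E, c.ψ ⁅u, v⁆ = β (d.s.ψ u) (d.s.ψ v) := fun u hu v hv =>
    cg hu (σ _) hv (σ _) (d.s.ψ_σ _).symm (d.s.ψ_σ _).symm
  have fe := form_eq (card_ne_two d.ne_two) β (fun m => by
      show c.ψ ⁅d.s.σ m, d.s.σ m⁆ = 0
      rw [commutatorElement_self, c.one])
    (fun r hr m n => by
      obtain ⟨e, he, rfl⟩ := d.s.exists_θ hr
      obtain ⟨u, hu, rfl⟩ := d.s.onto m
      obtain ⟨v, hv, rfl⟩ := d.s.onto n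
      rw [d.s.θ_ψ (d.s.norm he) hu, d.s.θ_ψ (d.s.norm he) hv, ← hβ _ (conj_mem_of_norm (d.s.norm he).1 hu) _
        (conj_mem_of_norm (d.s.norm he).1 hv), ← hβ u hu v hv, ← conj_comm, conj_eq_of_cent' (ZE_cent p E (cz hu hv)) he])
    (fun a ha => by
      obtain ⟨w, hw, rfl⟩ := c.onto a
      have e := c.pow hw p
      rw [(W0_elem p E).2 w hw, c.one] at e
      generalize c.ψ w = a at e ha
      rw [d.exc.three, succ_nsmul, two_nsmul, ha, zero_add] at e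
      exact e.symm)
  let j : F →+ A := AddMonoidHom.mk' (fun a => β (a • ![1, 0]) ![0, 1]) fun a b => by
    rw [add_smul, map_add, AddMonoidHom.add_apply]
  have hj : ∀ u ∈ pCoreOf p E, ∀ v ∈ pCoreOf p E, c.ψ ⁅u, v⁆ = j (det2 (d.s.ψ u) (d.s.ψ v)) := fun u hu v hv =>
    (hβ u hu v hv).trans (fe _ _)
  have hZ : W0 p E ≤ ZE p E ⊔ WE p E := d.blk.W0_le_sup.trans (sup_comm _ _).le
  have sj : Function.Surjective j := fun a => by
    obtain ⟨z, hz, -, rfl⟩ : a ∈ c.img (ZE p E) := c.img_eq_top_of_le (ZE_le p E) hZ ▸ AddSubgroup.mem_top a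
    exact (d.exc.comm.ge.trans (commutator_le (H₃ := c.pre j.range).2 fun u hu v hv =>
      ⟨ZE_le p E (cz hu hv), _, (hj u hu v hv).symm⟩) hz).2
  have cA : Nat.card F = Nat.card A := by
    rw [← d.exc.card, (c.restrict (ZE_le p E) hZ).card_U, inf_comm, d.WE_inf, card_bot, mul_one]
  have bj : Function.Bijective j := (Nat.bijective_iff_surjective_and_card j).2 ⟨sj, cA⟩
  exact ⟨c.congr (AddEquiv.ofBijective j bj).symm, fun u hu v hv =>
    (AddEquiv.symm_apply_eq _).2 (hj u hu v hv)⟩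

variable (hT : IsSylowIn p T ⊤) (hG : C(pCore p G) ≤ pCore p G)
include hT hG

theorem UQ : ⁅pCoreOf p E, pCore p G⁆ ≤ W0 p E :=
  (commutator_mono le_rfl (le_inf (d.blk.Q_norm hT) (d.blk.Q_cent hT))).trans (d.comm_le_W0 hT hG)

theorem QW : pCore p G ≤ C(W0 p E) := d.cent_W0 (d.UQ hT hG) (d.blk.Q_cent hT)

theorem U_le_or : ⁅pCore p G, E⁆ ≤ WE p E ∨ pCoreOf p E ≤ pCore p G :=
  (d.irr (d.blk.QE hT) (normalizer_commutator_ge_right _ _)).imp (d.blk.comm_le_WE (pCore_isPGroup p G) (nQ p E)) fun k =>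
    d.blk.cq.ge.trans ((commutator_comm _ _).le.trans ((commutator_mono le_rfl k).trans (commutator_sup_le (nQ p _) (nQ p _)
      (commutator_le_right_of_le_normalizer (normalizer_commutator_ge_right _ _) |>.trans
        (commutator_le_left_of_le_normalizer (nQ p E)))
      ((commutator_comm _ _).le.trans (d.blk.WE_le_Q hT hG)))))

theorem cent_le_Y0 (ht : t ∈ E) (e : d.a.θ t = negA _) (e' : d.s.θ t = negA _) : pCore p G ⊓ C(zpowers t) ≤ Y0 p E :=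
  fun x hx => mem_inf.2 ⟨hx.1, mem_rel.2 ⟨C_norm_W (d.blk.Q_cent hT hx.1), fun u hu => by
    have k := d.UQ hT hG (commutator_mem_commutator hu hx.1)
    have n := d.s.norm ht
    have k₁ : u * (t * u * t⁻¹) ∈ W0 p E := by
      rw [← d.s.ker _ (mul_mem hu (conj_mem_of_norm n.1 hu)), d.s.add _ hu _ (conj_mem_of_norm n.1 hu), ← d.s.θ_ψ n hu,
        e', negA_apply, add_neg_cancel]
    refine d.mem_W ht e k ?_
    rw [conj_comm, conj_eq_of_cent' hx.2 (mem_zpowers t), ← inv_mul_cancel_left u (t * u * t⁻¹), comm_mul_left,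
      comm_eq_one_of_cent (d.QW hT hG hx.1) k₁]
    conv_rhs => rw [← conj_eq_of_cent (core_le_cent p E (inv_mem hu)) (inv_mem k)]
    simp only [commutatorElement_def]
    group⟩⟩

end XB

/-- An exceptional block with `O_p(E) ≤ O_p(G)`, with coordinates. -/
structure XQ (p : ℕ) (T E : Subgroup G) (F : Type) [Field F] extends XB p T E F where
  hT : IsSylowIn p T ⊤
  hG : C(pCore p G) ≤ pCore p G
  hU : pCoreOf p E ≤ pCore p G
  /-- an involution -/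
  t : G
  tE : t ∈ E
  t2 : t ^ 2 = 1
  ts : s.θ t = negA _
  U_eq : ⁅pCore p G, zpowers t⁆ ⊔ W0 p E = pCoreOf p E
  inf : pCoreOf p E ⊓ Y0 p E = W0 p E
  sup : pCoreOf p E ⊔ Y0 p E = pCore p G
  /-- coordinates on `Q / Y₀` -/
  π : Sect (Fin 2 → F) (pCore p G) (Y0 p E)
  πs : ∀ u ∈ pCoreOf p E, π.ψ u = s.ψ u
  /-- coordinates on `W₀ / W` -/
  c : Sect F (W0 p E) (WE p E)
  form₀ : ∀ u ∈ pCoreOf p E, ∀ v ∈ pCoreOf p E, c.ψ ⁅u, v⁆ = det2 (s.ψ u) (s.ψ v)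

theorem XB.exists_XQ {F : Type} [Field F] [Finite F] [CharP F p] (d : XB p T E F) (hT : IsSylowIn p T ⊤)
    (hG : C(pCore p G) ≤ pCore p G) (hU : pCoreOf p E ≤ pCore p G) : Nonempty (XQ p T E F) := by
  obtain ⟨t, ht, t2, ta⟩ := d.blk.exists_inv d.a d.ne_two
  have ts : d.s.θ t = negA _ := eq_negA d.ne_two (RL_le_PL (d.s.θ_mem' ht))
    (by rw [← d.s.θ_pow (d.s.norm ht), t2, d.s.θ_one]) fun e => negA_ne_one (F := F) d.ne_two (by
      rw [← ta]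
      exact d.a.θ_of_cent (core_le_cent' p E (d.faith.le ⟨ht, (d.s.θ_eq_one_iff' (d.s.norm ht)).1 e⟩)))
  have hi : pCoreOf p E ⊓ Y0 p E = W0 p E := by rw [Y0, ← inf_assoc, inf_of_le_left hU, d.inf_rel_W]
  have hq := CoprimeBasic.commutator_sup_centralizer (nQ p (zpowers t)) (by
    rw [Nat.card_zpowers]
    exact (coprime_card_of_isPGroup (pCore_isPGroup p G) (coprime_of_sq d.ne_two t2)).symm)
      (Or.inl (CoprimeBasic.solvable_zpowers t))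
  have hk : ⁅pCore p G, zpowers t⁆ ≤ pCoreOf p E := (commutator_mono le_rfl (zpowers_le_of_mem ht)).trans (d.blk.QE hT)
  have hc := d.cent_le_Y0 hT hG ht ta ts
  have hs : pCoreOf p E ⊔ Y0 p E = pCore p G := le_antisymm (sup_le hU inf_le_left) (hq.ge.trans (sup_le_sup hk hc))
  obtain ⟨π, hπ⟩ := d.s.extend hi hs ((pCoreOf_le p E).trans (le_normalizer.trans (norm_Y0 p E)))
  obtain ⟨c, hc'⟩ := d.exists_form
  refine ⟨⟨d, hT, hG, hU, t, ht, t2, ts, le_antisymm (sup_le hk (W0_le p E)) ?_, hi, hs, π, hπ, c, hc'⟩⟩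
  refine (le_inf (hU.trans hq.ge) le_rfl).trans ?_
  rw [sup_inf_of_le_normalizer' (inf_le_left.trans (normalizer_commutator_ge_left _ _)) hk, ← hi]
  exact sup_le_sup_left (le_inf inf_le_right (inf_le_left.trans hc)) _

namespace XQ
variable {F : Type} [Field F] [Finite F] [CharP F p] (d : XQ p T E F)
include d

omit hp [Finite G] [Finite F] [CharP F p] in
theorem dec (hx : x ∈ pCore p G) : ∃ u ∈ pCoreOf p E, ∃ y ∈ Y0 p E, u * y = x ∧ d.π.ψ x = d.π.ψ u := by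
  obtain ⟨u, hu, y, hy, rfl⟩ := (mem_sup_iff_of_le_normalizer
    ((pCoreOf_le p E).trans (le_normalizer.trans (norm_Y0 p E)))).1 (d.sup.ge hx)
  exact ⟨u, hu, y, hy, rfl, by rw [d.π.add _ (d.hU hu) _ hy.1, d.π.zero hy, add_zero]⟩

omit hp [Finite G] [Finite F] [CharP F p] in
theorem onto (m : Fin 2 → F) : ∃ u ∈ pCoreOf p E, d.π.ψ u = m :=
  let ⟨u, hu, e⟩ := d.s.onto m
  ⟨u, hu, (d.πs u hu).trans e⟩

theorem UQ' : ⁅pCoreOf p E, pCore p G⁆ ≤ W0 p E := d.UQ d.hT d.hG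

theorem form (hu : u ∈ pCoreOf p E) (hx : x ∈ pCore p G) : d.c.ψ ⁅u, x⁆ = det2 (d.π.ψ u) (d.π.ψ x) := by
  obtain ⟨v, hv, y, hy, rfl, e⟩ := d.dec hx
  have k := (mem_rel.1 hy.2).2 u hu
  rw [e, comm_mul_right, conj_eq_of_cent (core_le_cent' p E hv) k, d.c.add _ (d.UQ' (commutator_mem_commutator hu (d.hU hv)))
    _ (WE_le p E k), d.c.zero k, add_zero, d.form₀ u hu v hv, d.πs u hu, d.πs v hv]

omit hp [Finite G] [Finite F] [CharP F p] in
theorem πU (hg : g ∈ N(pCoreOf p E)) (hu : u ∈ pCoreOf p E) : d.π.ψ (g * u * g⁻¹) = d.s.θ g (d.π.ψ u) := by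
  rw [d.πs _ (conj_mem_of_norm hg hu), d.πs u hu, d.s.θ_ψ (XB.norm_U hg) hu]

omit hp [Finite G] [Finite F] [CharP F p] in
theorem πE (hg : g ∈ E) (hx : x ∈ pCore p G) : d.π.ψ (g * x * g⁻¹) = d.s.θ g (d.π.ψ x) := by
  obtain ⟨v, hv, y, hy, rfl, e⟩ := d.dec hx
  have k := conj_mem_of_norm (norm_Y0 p E (le_normalizer hg)) hy
  rw [e, show g * (v * y) * g⁻¹ = g * v * g⁻¹ * (g * y * g⁻¹) by group, d.π.add _ (cQ g (d.hU hv)) _ k.1, d.π.zero k,
    add_zero, d.πU (d.s.norm hg).1 hv]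

omit [Finite F] [CharP F p] in
theorem YE : ⁅Y0 p E, E⁆ ≤ WE p E :=
  d.blk.comm_le_WE ((pCore_isPGroup p G).to_le inf_le_left) (le_normalizer.trans (norm_Y0 p E))
    ((le_inf ((commutator_mono inf_le_left le_rfl).trans (d.blk.QE d.hT))
      (commutator_le_left_of_le_normalizer (le_normalizer.trans (norm_Y0 p E)))).trans d.inf.le)

omit [Finite F] [CharP F p] in
theorem QE' (g : G) : ⁅pCore p G, E ^ᶜ g⁆ ≤ (pCoreOf p E) ^ᶜ g := by
  have := conj_mono g (d.blk.QE d.hT)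
  rwa [conj_commutator, conj_eq_of_normal] at this

theorem not_le_Y0 (hg : g ∈ C(WE p E)) : ¬ (pCoreOf p E) ^ᶜ g ≤ Y0 p E := fun h => by
  have cW : ∀ {c : G}, c ∈ C(WE p E) → (WE p E) ^ᶜ c = WE p E := fun hc => conj_eq_of_mem_centralizer hc
  have nE : E ≤ N(WE p E) := le_normalizer.trans (norm_WE p E)
  have nE' : E ^ᶜ g ≤ N(WE p E) := cW hg ▸ le_normalizer_conj nE g
  have h₁ : (pCoreOf p E) ^ᶜ g⁻¹ ≤ Y0 p E := by
    refine le_inf (conj_le_of_normal d.hU _) (le_rel_iff.2 ⟨(conj_le_of_normal d.hU _).trans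
      ((d.blk.Q_cent d.hT).trans C_norm_W), ?_⟩)
    have := conj_mono g⁻¹ (comm_le_of_le_rel (h.trans inf_le_right))
    rwa [conj_commutator, conj_conj_inv, cW (inv_mem hg), commutator_comm] at this
  have h₂ : ⁅pCoreOf p E, E ^ᶜ g⁆ ≤ WE p E := by
    have := conj_mono g ((commutator_mono h₁ le_rfl).trans d.YE)
    rwa [conj_commutator, conj_inv_conj, cW hg] at this
  have h₃ : ⁅⁅E, E ^ᶜ g⁆, pCore p G⁆ ≤ WE p E := three_subgroups nE nE' ((d.blk.Q_cent d.hT).trans C_norm_W)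
    ((commutator_mono ((commutator_comm _ _).le.trans ((d.QE' g).trans h)) le_rfl).trans d.YE)
    ((commutator_mono (d.blk.QE d.hT) le_rfl).trans h₂)
  have h₄ : ⁅pCoreOf p E, ⁅E, E ^ᶜ g⁆⁆ ≤ WE p E := (commutator_comm _ _).le.trans ((commutator_mono le_rfl d.hU).trans h₃)
  have n' : E ^ᶜ g ≤ NN (WE p E) (ZW p E) := fun _ hx => d.nn (nE' hx)
  have h₅ : d.a.im ⁅E, E ^ᶜ g⁆ = ⁅RL F, RL F⁆ := by
    rw [d.a.im_comm d.a.norm n', d.a.im_conj (d.nn (C_norm_W hg)), d.a.θ_of_cent hg, conj_one, d.a.eq]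
  refine comm_RL_ne d.ne_two (h₅ ▸ eq_bot_iff.2 (d.a.im_le_iff.2 fun k hk => ?_))
  obtain ⟨e, he, he'⟩ := d.a.exists_θ (commutator_le_left_of_le_normalizer le_normalizer (h₅.le (d.a.θ_mem hk)))
  have kn : k ∈ NN (WE p E) (ZW p E) := (commutator_le_sup _ _).trans (sup_le d.a.norm n') hk
  have kU : k ∈ (N(pCoreOf p E) : Subgroup G) := le_normalizer_of_commutator_le (h₄.trans (WE_le_core p E)) hk
  have k₁ : d.s.θ k = 1 := (d.s.θ_eq_one_iff (XB.norm_U kU)).2 fun u hu => WE_le p E (h₄ (commutator_mem_commutator hu hk))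
  have k₂ : e⁻¹ * k ∈ C(WE p E) := mem_centralizer_iff.2 fun w hw => commutatorElement_eq_one_iff_mul_comm.1
    (mem_bot.1 (d.ZW_eq.le ((mem_rel.1 ((d.a.θ_eq_iff (d.a.norm he) kn).1 he')).2 w hw)))
  have k₃ : d.s.θ (e⁻¹ * k) = d.s.θ e⁻¹ := by rw [d.s.θ_mul (d.s.norm (inv_mem he)) (XB.norm_U kU), k₁, mul_one]
  have k₄ := d.PL_triv d.hT d.hG (mul_mem (d.s.norm (inv_mem he)).1 kU) k₂ (k₃ ▸ RL_le_PL (d.s.θ_mem' (inv_mem he)))
  rw [k₃, d.s.θ_inv (d.s.norm he), inv_eq_one] at k₄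
  rw [← he']
  exact d.a.θ_of_cent (core_le_cent' p E (d.faith.le ⟨he, (d.s.θ_eq_one_iff' (d.s.norm he)).1 k₄⟩))

theorem C_norm_W0 : (C(WE p E) : Subgroup G) ≤ N(W0 p E) := fun g hg => by
  obtain ⟨x, hx, hx'⟩ := SetLike.not_le_iff_exists.1 (d.not_le_Y0 hg)
  have xQ := conj_le_of_normal d.hU g hx
  obtain ⟨m, hm⟩ := exists_det2 (v := d.π.ψ x) fun e => hx' ((d.π.ker x xQ).1 e)
  refine mem_normalizer_iff_conj_eq.2 (eq_of_le_of_card_le (fun w hw => ?_) (card_conj _ g).le).symm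
  obtain ⟨u, hu, e⟩ := d.onto ((-d.c.ψ w) • m)
  have k := d.form hu xQ
  rw [e, smul_det2, det2_swap, hm, neg_mul_neg, mul_one, d.c.eq_iff (d.UQ' (commutator_mem_commutator hu xQ)) hw] at k
  have k₁ := conj_mono g d.UQ'
  have k₂ := conj_mono g (WE_le p E)
  rw [conj_commutator, conj_eq_of_normal (pCore p G)] at k₁
  rw [conj_eq_of_mem_centralizer hg] at k₂
  rw [← mul_inv_cancel_left ⁅u, x⁆ w]
  exact mul_mem (comm_mem_swap (k₁ (commutator_mem_commutator hx (d.hU hu)))) (k₂ k)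

theorem LC_rel : LC p E ≤ rel (WE p E) (W0 p E) :=
  nclIn_le (le_rel_iff.2 ⟨le_normalizer.trans (norm_WE p E), le_rfl⟩) (le_norm_rel C_norm_W d.C_norm_W0)

theorem LC_norm : LC p E ≤ N(W0 p E) := nclIn_le (le_normalizer.trans (norm_W0 p E)) (le_normalizer_of_le d.C_norm_W0)

theorem adj (hg : g ∈ LC p E) (hu : u ∈ pCoreOf p E) (hv : v ∈ pCoreOf p E) :
    det2 (d.π.ψ u) (d.π.ψ (g * v * g⁻¹)) = det2 (d.π.ψ (g⁻¹ * u * g⁻¹⁻¹)) (d.π.ψ v) := by
  have n : g ∈ NN (W0 p E) (WE p E) := d.c.rel_le_NN (d.LC_rel hg)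
  have k := d.UQ' (commutator_mem_commutator hv (cQ g⁻¹ (d.hU hu)))
  rw [← d.form hu (cQ g (d.hU hv)), det2_swap, ← d.form hv (cQ g⁻¹ (d.hU hu)), ← d.c.inv k,
    ← aut_one (d.c.ψ _⁻¹), ← (d.c.θ_eq_one_iff' n).2 (d.LC_rel hg), d.c.θ_ψ n (inv_mem k)]
  congr 1
  simp only [commutatorElement_def]
  group

theorem triv (hg : g ∈ DC p E) (hn : g ∈ N(pCoreOf p E)) : d.s.θ g = 1 := by
  have k : ∀ m n, det2 m (d.s.θ g n) = det2 ((d.s.θ g)⁻¹ m) n := fun m n => by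
    obtain ⟨u, hu, rfl⟩ := d.onto m
    obtain ⟨v, hv, rfl⟩ := d.onto n
    rw [← d.πU hn hv, d.adj hg.2 hu hv, d.πU (inv_mem hn) hu, d.s.θ_inv (XB.norm_U hn)]
  refine d.PL_triv d.hT d.hG hn hg.1 (mem_PL_of (fun a m => eq_of_det2 fun n => ?_) ?_)
  · rw [k, det2_smul, det2_smul, k]
  · rw [k, aut_inv_apply]
    simp [det2]

theorem norm_U' (hg : g ∈ C(WE p E)) (e : g * d.t = d.t * g) : g ∈ N(pCoreOf p E) := by
  rw [← d.U_eq]
  exact le_normalizer_sup (le_normalizer_commutator (nQ p _) (zpowers_le_of_mem (C_norm_W (mem_cent_zp.2 e))))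
    (zpowers_le_of_mem (d.C_norm_W0 hg)) (mem_zpowers g)

theorem cent_U (hz : z ∈ DC p E) (h2 : z ^ 2 = 1) (e : z * d.t = d.t * z) : z ∈ C(pCoreOf p E) := by
  have n := d.norm_U' hz.1 e
  have c := coprime_of_sq d.ne_two h2
  exact cent_of_le (pCoreOf_isPGroup p E) c n (comm_le_of_le_rel (zpowers_le_of_mem
    ((d.s.θ_eq_one_iff' (XB.norm_U n)).1 (d.triv hz n)))) (cent_of_le ((pCoreOf_isPGroup p E).to_le (W0_le p E)) c
      (d.LC_norm hz.2) (comm_le_of_le_rel (zpowers_le_of_mem (d.LC_rel hz.2))) hz.1)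

omit hp [Finite G] [Finite F] [CharP F p] in
theorem t_inv : d.t⁻¹ = d.t := inv_eq_of_mul_eq_one_right (by rw [← pow_two, d.t2])

omit hp [Finite G] [Finite F] [CharP F p] in
theorem t_comm (g : G) (n : ℕ) : d.t * ⁅g, d.t⁆ ^ n * d.t⁻¹ = (⁅g, d.t⁆ ^ n)⁻¹ := by
  rw [← conj_pow, ← inv_pow]
  congr 1
  calc d.t * ⁅g, d.t⁆ * d.t⁻¹ = d.t * g * d.t * g⁻¹ * (d.t ^ 2)⁻¹ := by rw [commutatorElement_def]; group
    _ = d.t * g * d.t⁻¹ * g⁻¹ := by rw [d.t2, d.t_inv]; group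
    _ = _ := by rw [commutatorElement_def]; group

theorem odd (hg : g ∈ C(WE p E)) : Odd (orderOf ⁅g, d.t⁆) := by
  refine Nat.not_even_iff_odd.1 fun ⟨k, hk⟩ => ?_
  have o := orderOf_pos ⁅g, d.t⁆
  set z := ⁅g, d.t⁆ ^ k with hz
  have z2 : z ^ 2 = 1 := by rw [hz, ← pow_mul, mul_two, ← hk, pow_orderOf_eq_one]
  have zD : z ∈ DC p E := pow_mem (comm_mem_DC hg d.tE) k
  have zt : z * d.t = d.t * z := by
    have := d.t_comm g k
    rw [← hz, inv_eq_of_mul_eq_one_right (show z * z = 1 by rw [← pow_two, z2])] at this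
    conv_lhs => rw [← this]
    group
  have zx : z * ⁅g, d.t⁆ = ⁅g, d.t⁆ * z := by rw [hz, ← pow_succ, ← pow_succ']
  have et : g * d.t * g⁻¹ = ⁅g, d.t⁆ * d.t := by rw [commutatorElement_def]; group
  have zt' : z * (g * d.t * g⁻¹) = g * d.t * g⁻¹ * z := by rw [et, ← mul_assoc, zx, mul_assoc, zt, mul_assoc]
  have c₁ := d.cent_U zD z2 zt
  have c₂ : z ∈ C((pCoreOf p E) ^ᶜ g) := by
    rw [← conj_centralizer, mem_conj_iff]
    refine d.cent_U (by simpa using conj_mem_of_norm (C_norm_DC p E (inv_mem hg)) zD) ?_ ?_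
    · rw [show g⁻¹ * z * g = g⁻¹ * z * g⁻¹⁻¹ by group, conj_pow, z2]
      group
    · calc g⁻¹ * z * g * d.t = g⁻¹ * (z * (g * d.t * g⁻¹)) * g := by group
        _ = _ := by rw [zt']; group
  have r : ∀ {s : G} {X : Subgroup G}, z * s = s * z → z ∈ C(X) → ⁅pCore p G, zpowers s⁆ ≤ X →
      s ∈ rel (pCore p G ⊓ C(zpowers z)) (pCore p G) := fun {s X} e c h => mem_rel.2
    ⟨le_normalizer_inf (nQ p _) (le_normalizer_of_le (zpowers_le_of_mem (mem_cent_zp.2 e.symm))) (mem_zpowers s),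
      fun a ha => ⟨comm_mem_of_norm (nQ' p s) ha, mem_cent_zp.2
        (mem_centralizer_iff.1 c _ (h (commutator_mem_commutator ha (mem_zpowers s))))⟩⟩
  have r₁ := r zt c₁ ((commutator_mono le_rfl (zpowers_le_of_mem d.tE)).trans (d.blk.QE d.hT))
  have r₂ := r zt' c₂ ((commutator_mono le_rfl (zpowers_le_of_mem (conj_mem_conj g d.tE))).trans (d.QE' g))
  have r₃ : z ∈ rel (pCore p G ⊓ C(zpowers z)) (pCore p G) := pow_mem (mul_mem r₂ (inv_mem r₁)) k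
  have c := coprime_of_sq d.ne_two z2
  obtain ⟨j, hj⟩ := isPGroup_iff_forall_mem.1 (pCore_isPGroup p G) z (d.hG (cent_of_le (pCore_isPGroup p G) c (nQ' p z)
    (comm_le_of_le_rel (zpowers_le_of_mem r₃)) (le_centralizer_iff.1 inf_le_right (mem_zpowers z))))
  have := Nat.le_of_dvd (by omega) (orderOf_dvd_of_pow_eq_one (eq_one_of_coprime_of_pow_eq_one c hj))
  omega

theorem split (hg : g ∈ C(WE p E)) :
    ∃ y ∈ DC p E, d.t * y * d.t⁻¹ = y⁻¹ ∧ (y ^ 2)⁻¹ * g ∈ (N(pCoreOf p E) : Subgroup G) := by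
  obtain ⟨m, hm⟩ := exists_pow_eq_self_of_coprime (x := ⁅g, d.t⁆) (n := 2 ^ 2)
    ((Nat.coprime_two_left.2 (d.odd hg)).pow_left 2)
  have yD := pow_mem (comm_mem_DC hg d.tE) m
  have e := d.t_comm g m
  refine ⟨_, yD, e, d.norm_U' (mul_mem (inv_mem (pow_mem yD.1 2)) hg) ?_⟩
  rw [← pow_mul, mul_comm, pow_mul] at hm
  generalize ⁅g, d.t⁆ ^ m = y at e hm
  calc (y ^ 2)⁻¹ * g * d.t = (y ^ 2)⁻¹ * ⁅g, d.t⁆ * d.t * g := by rw [commutatorElement_def]; group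
    _ = (d.t * y * d.t⁻¹)⁻¹ ^ 2 * d.t * g := by rw [← hm, e]; group
    _ = _ := by rw [pow_two, pow_two]; group

/-- `g` induces the scalar `a` from `U` to `Q / Y₀`. -/
def Sc (g : G) (a : F) : Prop := ∀ v ∈ pCoreOf p E, d.π.ψ (g * v * g⁻¹) = a • d.π.ψ v

theorem sc_inv {a : F} (hg : g ∈ LC p E) (h : d.Sc g a) : d.Sc g⁻¹ a := fun u hu => eq_of_det2 fun m => by
  obtain ⟨v, hv, rfl⟩ := d.onto m
  rw [det2_swap, ← d.adj hg hu hv, h v hv, det2_smul, det2_smul, det2_swap, mul_neg, neg_neg]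

theorem sc_of_inv (hy : y ∈ LC p E) (e : d.t * y * d.t⁻¹ = y⁻¹) : ∃ a, d.Sc y a := by
  have k : ∀ u ∈ pCoreOf p E, d.π.ψ (y⁻¹ * u * y⁻¹⁻¹) = d.π.ψ (y * u * y⁻¹) := fun u hu => by
    have n := (d.s.norm d.tE).1
    have k₁ : d.π.ψ (y * (d.t * u * d.t⁻¹) * y⁻¹) = -d.π.ψ (y * u * y⁻¹) := eq_of_det2 fun m => by
      obtain ⟨v, hv, rfl⟩ := d.onto m
      rw [det2_neg, d.adj hy hv (conj_mem_of_norm n hu), d.adj hy hv hu, d.πU n hu, d.ts, negA_apply, det2_neg]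
    have k₂ := d.πE d.tE (cQ y (d.hU (conj_mem_of_norm n hu)))
    rw [k₁, d.ts, negA_apply, neg_neg] at k₂
    rw [← k₂]
    congr 1
    calc y⁻¹ * u * y⁻¹⁻¹ = d.t * y * d.t⁻¹ * u * (d.t * y * d.t⁻¹)⁻¹ := by rw [e]
      _ = d.t * y * d.t⁻¹ * u * d.t * y⁻¹ * d.t⁻¹ := by group
      _ = d.t * y * d.t * u * d.t⁻¹ * y⁻¹ * d.t⁻¹ := by rw [d.t_inv]
      _ = _ := by group
  obtain ⟨u₀, hu₀, e₀⟩ := d.onto ![1, 0]
  obtain ⟨u₁, hu₁, e₁⟩ := d.onto ![0, 1]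
  have a₀ := fun v hv => (d.adj hy hu₀ (v := v) hv).trans (by rw [k u₀ hu₀])
  have a₁ := fun v hv => (d.adj hy hu₁ (v := v) hv).trans (by rw [k u₁ hu₁])
  have b₀ := a₀ u₀ hu₀
  have b₁ := a₀ u₁ hu₁
  have b₂ := a₁ u₁ hu₁
  simp only [e₀, e₁, det2, Matrix.cons_val_zero, Matrix.cons_val_one] at a₀ a₁ b₀ b₁ b₂
  have c₀ : d.π.ψ (y * u₀ * y⁻¹) 1 = 0 := eq_zero_of_neg d.ne_two (by linear_combination b₀)
  have c₁ : d.π.ψ (y * u₁ * y⁻¹) 0 = 0 := eq_zero_of_neg d.ne_two (by linear_combination -b₂)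
  refine ⟨d.π.ψ (y * u₀ * y⁻¹) 0, fun v hv => vec_ext ?_ ?_⟩
  · rw [Pi.smul_apply, smul_eq_mul]
    linear_combination -a₁ v hv - d.π.ψ v 1 * c₁ + d.π.ψ v 0 * b₁
  · rw [Pi.smul_apply, smul_eq_mul]
    linear_combination a₀ v hv - d.π.ψ v 0 * c₀

theorem sc_mul {a : F} (h : d.Sc y a) (hg : g ∈ DC p E) (hy : y ∈ DC p E) (hn : y⁻¹ * g ∈ (N(pCoreOf p E) : Subgroup G)) :
    d.Sc g a := fun v hv => by
  rw [show g * v * g⁻¹ = y * (y⁻¹ * g * v * (y⁻¹ * g)⁻¹) * y⁻¹ by group, h _ (conj_mem_of_norm hn hv), d.πU hn hv,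
    d.triv (mul_mem (inv_mem hy) hg) hn, aut_one]

theorem exists_sc (hg : g ∈ DC p E) : ∃ a, d.Sc g a := by
  obtain ⟨y, hy, e, hn⟩ := d.split hg.1
  obtain ⟨a, ha⟩ := d.sc_of_inv (pow_mem hy 2).2 (by rw [← conj_pow, e, inv_pow])
  exact ⟨a, d.sc_mul ha hg (pow_mem hy 2) hn⟩

theorem sc_conj {a : F} (hg : g ∈ DC p E) (h : d.Sc g a) (hx : x ∈ E) (hv : v ∈ pCoreOf p E) :
    d.π.ψ (g * x * g⁻¹ * v * (g * x * g⁻¹)⁻¹) = (a * a) • d.s.θ x (d.π.ψ v) + (1 - a * a) • d.π.ψ v := by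
  obtain ⟨u, hu, y, hy, e, e'⟩ := d.dec (cQ g⁻¹ (d.hU hv))
  have n := (d.s.norm hx).1
  have k₁ := comm_mem_swap (comm_mem_of_norm n hu)
  have k₂ := d.YE (commutator_mem_commutator (inv_mem hy) hx)
  have k₃ : ⁅y⁻¹, x⁆ ∈ Y0 p E := (d.inf.ge (WE_le p E k₂)).2
  have e₁ : g * x * g⁻¹ * v * (g * x * g⁻¹)⁻¹ = g * ⁅x, u⁆ * g⁻¹ * v * ⁅y⁻¹, x⁆ := by
    rw [← conj_eq_of_cent hg.1 k₂]
    calc g * x * g⁻¹ * v * (g * x * g⁻¹)⁻¹ = g * x * (g⁻¹ * v * g⁻¹⁻¹) * x⁻¹ * g⁻¹ := by group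
      _ = g * ⁅x, u⁆ * (u * y) * ⁅y⁻¹, x⁆ * g⁻¹ := by rw [← e]; simp only [commutatorElement_def]; group
      _ = _ := by rw [e]; group
  rw [d.sc_inv hg.2 h v hv] at e'
  rw [e₁, d.π.add _ (mul_mem (cQ g (d.hU k₁)) (d.hU hv)) _ k₃.1, d.π.zero k₃, add_zero, d.π.add _ (cQ g (d.hU k₁)) _ (d.hU hv),
    h _ k₁, commutatorElement_def, d.π.add _ (cQ x (d.hU hu)) _ (inv_mem (d.hU hu)), d.π.inv (d.hU hu), d.πU n hu, ← e',
    PL_le_LinA (RL_le_PL (d.s.θ_mem' hx))]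
  module

theorem sc_sq {a : F} (hg : g ∈ DC p E) (h : d.Sc g a) : a * a = 1 := by
  obtain ⟨r, hr, h₁⟩ := exists_nonscal (F := F)
  obtain ⟨x, hx, rfl⟩ := d.s.exists_θ hr
  obtain ⟨b, hb⟩ := d.exists_sc (comm_mem_DC hg.1 hx)
  have k : ∀ m, (b - a * a) • d.s.θ x m = (1 - a * a) • m := fun m => by
    obtain ⟨v, hv, rfl⟩ := d.onto m
    have k₁ := hb _ (conj_mem_of_norm (d.s.norm hx).1 hv)
    rw [d.πU (d.s.norm hx).1 hv, show ⁅g, x⁆ * (x * v * x⁻¹) * ⁅g, x⁆⁻¹ = g * x * g⁻¹ * v * (g * x * g⁻¹)⁻¹ by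
      simp only [commutatorElement_def]; group, d.sc_conj hg h hx hv] at k₁
    rw [sub_smul, ← k₁, add_sub_cancel_left]
  by_contra e
  by_cases e' : b - a * a = 0
  · have := k ![1, 0]
    rw [e', zero_smul, eq_comm, smul_eq_zero, sub_eq_zero] at this
    exact this.elim (fun h => e h.symm) e0_ne
  · exact h₁ ⟨(b - a * a)⁻¹ * (1 - a * a), fun m => by rw [mul_smul, ← k, smul_smul, inv_mul_cancel₀ e', one_smul]⟩

theorem sc_one (hg : g ∈ DC p E) : d.Sc g 1 := by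
  obtain ⟨y, hy, e, hn⟩ := d.split hg.1
  obtain ⟨a, ha⟩ := d.exists_sc hy
  refine d.sc_mul (fun v hv => ?_) hg (pow_mem hy 2) hn
  have n := (d.s.norm d.tE).1
  have k := d.sc_conj hy ha d.tE (conj_mem_of_norm n hv)
  rw [d.sc_sq hy ha, sub_self, zero_smul, add_zero, d.πU n hv, d.ts, negA_apply, negA_apply, neg_neg] at k
  rw [← k]
  congr 1
  calc y ^ 2 * v * (y ^ 2)⁻¹ = y * y⁻¹⁻¹ * v * y⁻¹ * y⁻¹ := by rw [pow_two]; group
    _ = y * (d.t * y * d.t⁻¹)⁻¹ * v * (d.t * y * d.t⁻¹) * y⁻¹ := by rw [e]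
    _ = y * d.t * y⁻¹ * d.t⁻¹ * v * d.t * y * d.t⁻¹ * y⁻¹ := by group
    _ = y * d.t * y⁻¹ * d.t * v * d.t⁻¹ * y * d.t⁻¹ * y⁻¹ := by rw [d.t_inv]
    _ = _ := by group

theorem UD : ⁅pCoreOf p E, DC p E⁆ ≤ Y0 p E := commutator_le.2 fun v hv g hg => by
  rw [← d.π.ker _ (comm_mem_of_norm (nQ' p g) (d.hU hv)), show ⁅v, g⁆ = v * (g * v⁻¹ * g⁻¹) by
    rw [commutatorElement_def]; group, d.π.add _ (d.hU hv) _ (cQ g (inv_mem (d.hU hv))), d.sc_one hg _ (inv_mem hv),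
    one_smul, d.π.inv (d.hU hv), add_neg_cancel]

theorem res_cent : pResidualOf p (DC p E) ≤ C(pCore p G) := by
  set P := nclIn (pCoreOf p E) C(WE p E) with hP
  have QC := d.blk.Q_cent d.hT
  have nP : (C(WE p E) : Subgroup G) ≤ N(P) := le_normalizer_nclIn _ _
  have nY : (C(WE p E) : Subgroup G) ≤ N(pCore p G ⊓ rel (WE p E) P) := le_normalizer_inf (nQ p _) (le_norm_rel C_norm_W nP)
  have h₁ : P ≤ nclIn (pCoreOf p E) (DC p E) := nclIn_le_iff.2 fun c hc => by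
    obtain ⟨y, hy, -, hn⟩ := d.split hc
    rw [← mul_inv_cancel_left (y ^ 2) c, ← conj_conj, conj_eq_of_mem_normalizer hn]
    exact conj_le_nclIn _ (pow_mem hy 2)
  have h₂ : ⁅pCoreOf p E, DC p E⁆ ≤ pCore p G ⊓ rel (WE p E) P := le_inf (d.UD.trans inf_le_left) (le_rel_iff.2
    ⟨d.UD.trans (inf_le_left.trans (QC.trans C_norm_W)), (commutator_comm _ _).le.trans ((commutator_mono le_rfl h₁).trans
      (commutator_nclIn_le (inf_le_left.trans C_norm_W) ((core_le_cent' p E).trans C_norm_W)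
        (normalizer_commutator_ge_right _ _)
        ((commutator_comm _ _).le.trans (comm_le_of_le_rel (d.UD.trans inf_le_right)))))⟩)
  have h₃ : ⁅P, DC p E⁆ ≤ pCore p G ⊓ rel (WE p E) P := (commutator_comm _ _).le.trans
    (commutator_nclIn_le nY ((core_le_cent' p E).trans nY) (C_norm_DC p E) ((commutator_comm _ _).le.trans h₂))
  have h₄ : ⁅pCore p G ⊓ rel (WE p E) P, LC p E⁆ ≤ WE p E := commutator_nclIn_le C_norm_W
    (le_normalizer.trans (norm_WE p E)) nY ((commutator_mono (inf_le_inf_left _ (rel_anti (le_nclIn _ _))) le_rfl).trans d.YE)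
  have h₅ : ⁅pCore p G, LC p E⁆ ≤ P := commutator_nclIn_le nP (le_normalizer_nclIn_of
    (le_normalizer.trans (normalizer_le_normalizer_pCoreOf p E)) (le_normalizer.trans (norm_C p E))) (nQ p _)
      ((d.blk.QE d.hT).trans (le_nclIn _ _))
  have r := pResidualOf_le p (DC p E)
  exact pResidualOf_le_centralizer_of_le (pCore_isPGroup p G) (nQ p _) (comm_res_trans (pCore_isPGroup p G) (nQ p _)
    (comm_res_trans (pCore_isPGroup p G) (nQ p _) ((commutator_mono le_rfl (r.trans inf_le_right)).trans h₅)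
      ((commutator_mono le_rfl r).trans h₃)) ((commutator_mono le_rfl (r.trans inf_le_right)).trans h₄)) (r.trans inf_le_left)

end XQ

/-- A block is normalized by the centralizer of its module. -/
theorem Blk.cent_le_norm (h : Blk p T E) (hT : IsSylowIn p T ⊤) (hG : C(pCore p G) ≤ pCore p G) : (C(WE p E) : Subgroup G) ≤ N(E) := by
  have k : ⁅pCore p G, E⁆ ≤ WE p E → (C(WE p E) : Subgroup G) ≤ N(E) := fun e => h.norm_of_cent hT hG
    (pResidualOf_le_centralizer_of_le (pCore_isPGroup p G) (nQ p _) ((commutator_mono le_rfl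
      ((pResidualOf_le p _).trans inf_le_right)).trans (commutator_nclIn_le C_norm_W (le_normalizer.trans (norm_WE p E))
        (nQ p _) e)) ((pResidualOf_le p _).trans inf_le_left))
  rcases h.cases_XB with e | ⟨F, _, _, _, ⟨d⟩⟩
  · exact k (e ▸ h.QE hT)
  · refine (d.U_le_or hT hG).elim k fun e => ?_
    obtain ⟨d'⟩ := d.exists_XQ hT hG e
    exact h.norm_of_cent hT hG d'.res_cent

end Cfsg.Agent.Lib.Blk
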