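import Cfsg.Agent.Lib.BlkPre
import Cfsg.Agent.Lib.MinParOff
import Cfsg.Agent.Lib.PMinimal

/-! The components of a minimal parabolic group acting on `Ω₁ Z O_p(G)`. -/

set_option autoImplicit false
open Cfsg

namespace Cfsg.Agent.Lib.Blk

open Subgroup Cfsg.Agent.Lib.PCoreConj Cfsg.Agent.Lib.PCore Cfsg.Agent.Lib.PCoreResidual Cfsg.Agent.Lib.PCoreMod
open Cfsg.Agent.Lib.ThompsonJ Cfsg.Agent.Lib.PushBase Cfsg.Agent.Lib.PIrred
open scoped Pointwise commutatorElement MatrixGroups

universe u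
variable {G : Type u} [Group G] {p : ℕ} {T E U Z X Y S L M₀ : Subgroup G} {g : G}
variable {M : Type*} [AddCommGroup M] {R P : Subgroup (AutM M)}

section Fam
open FFRep MinParFF MinParDec TIOff TIOffCls

theorem exists_fam' [Fact p.Prime] {V : Type*} [AddCommGroup V] [Module (ZMod p) V] {ρ : Representation (ZMod p) G V}
    {B : Subgroup G} [Finite G] [Finite V] (c : Ctx ρ T M₀) (h : MinOff ρ B) :
    ∃ (r : ℕ) (E : Fin r → Subgroup G), 1 ≤ r ∧ Fam ρ T B E ∧ ∀ i, ∀ t ∈ T, ∃ j, E i ^ᶜ t = E j := by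
  obtain ⟨A, hA, A', L, s, k⟩ := c.exists_struct h
  let S : Set (Subgroup G) := {X | ∃ t ∈ T, X = L ^ᶜ t}
  have hL : L ∈ S := ⟨1, one_mem _, (conj_one L).symm⟩
  let e := (Finite.equivFin S).symm
  have hsup : ⨆ i, (e i : Subgroup G) = sSup S := by
    rw [sSup_eq_iSup']; exact e.iSup_congr fun _ => rfl
  have hcm : ∀ X ∈ S, ∀ Y ∈ S, X ≠ Y → Cm X Y := by
    rintro _ ⟨s, hs, rfl⟩ _ ⟨t, ht, rfl⟩ hne
    have := ((k.conj _ (mul_mem (inv_mem hs) ht)).resolve_left fun e => hne (by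
      rw [← mul_inv_cancel_left s t, ← conj_conj, e])).conj s
    rwa [conj_conj, mul_inv_cancel_left] at this
  have hgen : ∀ X ∈ S, X ≤ sSup (Dl A X) := by
    rintro _ ⟨s, -, rfl⟩
    exact (conj_mono s k.gen).trans (conj_sSup_le fun D hD => le_sSup (conj_mem_dl hD s))
  obtain ⟨h₁, h₂⟩ := normal_of_not_le c.min (K := sSup S) (le_normalizer_sSup (by
    rintro g hg _ ⟨s, hs, rfl⟩
    exact ⟨_, mul_mem hg hs, conj_conj _ _ _⟩)) fun e => s.not_le (le_sup_right.trans (k.le.trans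
      ((le_sSup hL).trans e)))
  have hne : ∀ i j, i ≠ j → (e i : Subgroup G) ≠ e j := fun i j h e' => h (e.injective (Subtype.ext e'))
  refine ⟨_, fun i => e i, Nat.card_pos_iff.mpr ⟨⟨⟨L, hL⟩⟩, inferInstance⟩,
    ⟨fun i j h => hcm _ (e i).2 _ (e j).2 (hne i j h), fun i j h' => com_le_fix_of_gen c.base
      (ti_of_mem (c.ti h) hA) (hgen _ (e i).2) (hgen _ (e j).2) (hcm _ (e i).2 _ (e j).2 (hne i j h')), ?_,
    hsup ▸ h₁, fun i j => ?_, fun i => ?_⟩, fun i t ht => ?_⟩
  · rw [hsup, ← cls_eq hA]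
    refine le_antisymm (sSup_le fun X hX => (hgen X hX).trans (sSup_le_sSup fun D hD => hD.1)) (sSup_le ?_)
    rintro _ ⟨g, rfl⟩
    exact conj_le_of_normal (le_sup_left.trans (k.le.trans (le_sSup hL))) g
  · obtain ⟨s, hs, e₁⟩ := (e i).2
    obtain ⟨t, ht, e₂⟩ := (e j).2
    exact ⟨_, mul_mem ht (inv_mem hs), by rw [e₁, e₂, conj_conj, inv_mul_cancel_right]⟩
  · obtain ⟨s, -, e₁⟩ := (e i).2
    exact e₁ ▸ k.nat.conj s
  · obtain ⟨s, hs, e₁⟩ := (e i).2
    exact ⟨e.symm ⟨_, _, mul_mem ht hs, rfl⟩, by beta_reduce; rw [e.apply_symm_apply, e₁, conj_conj]⟩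

end Fam

/-- `Ω₁ Z O_p(G)`. -/
abbrev VG (p : ℕ) (G : Type u) [Group G] : Subgroup G := omegaOneCenter p (pCore p G)

theorem nV (p : ℕ) (X : Subgroup G) : X ≤ N(VG p G) := le_normalizer_omegaOneCenter (nQ p X)

theorem V_elem : IsElementaryAbelian p (VG p G) := isElementaryAbelian_omegaOneCenter p _

theorem V_comm : VG p G ≤ C(VG p G) := le_centralizer_of_isElementaryAbelian V_elem

theorem conj_V (g : G) : VG p G ^ᶜ g = VG p G := conj_eq_of_mem_normalizer (nV p ⊤ (mem_top g))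

/-- The pushing up hypothesis for a minimal parabolic group. -/
structure MP (p : ℕ) (T M₀ : Subgroup G) : Prop where
  hG : C(pCore p G) ≤ pCore p G
  syl : IsSylowIn p T ⊤
  min : MinOver T M₀ ⊤
  hd : ∀ A : Subgroup (Bm p T), A ≠ ⊥ → A.Characteristic → N(A.map (Bm p T).subtype) ≤ M₀
  hz : C(omegaOneCenter p T) ≤ M₀

/-- A component of a minimal parabolic group, with its module. -/
structure Cp (p : ℕ) (T M₀ L U Z : Subgroup G) : Prop extends MP p T M₀ where
  eU : ⁅VG p G, L⁆ = U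
  eZ : U ⊓ C(L) = Z
  cent : C(VG p G) ≤ L
  conj : ∀ g, L ^ᶜ g = L ∨ U ^ᶜ g ≤ C(L)
  sub : SubnormalIn ⊤ L
  JN : J p T ≤ N(L)
  nc : ¬ J p T ≤ C(U)
  dec : VG p G ≤ U ⊔ VG p G ⊓ C(L)
  notM : ¬ L ≤ M₀

variable [hp : Fact p.Prime] [Finite G]

namespace MP
variable (h : MP p T M₀)
include h

omit hp [Finite G] in
theorem Z_le : omegaOneCenter p T ≤ VG p G :=
  have k := (omegaOneCenter_le_centralizer p T).trans (centralizer_anti h.syl.pCore_le)
  le_omegaOneCenter (isElementaryAbelian_omegaOneCenter p _) (k.trans h.hG) k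

omit hp [Finite G] in
theorem V_le : VG p G ≤ T := (omegaOneCenter_le p _).trans h.syl.pCore_le

omit hp [Finite G] in
theorem CV_le : C(VG p G) ≤ M₀ := (centralizer_anti h.Z_le).trans h.hz

theorem red (h₁ : SubnormalIn ⊤ X) (h₂ : ∀ x ∈ X, ∃ k, x ^ p ^ k ∈ (C(VG p G) : Subgroup G)) : X ≤ C(VG p G) :=
  ((h.min.pIrrIn h.syl.isPGroup).redOn (nV p ⊤)
    (fun e => PMinimal.MinOver.not_pResidualOf_le h.min h.syl (e.trans h.CV_le))
      (pCoreOf_top p G ▸ le_centralizer_omegaOneCenter p _)).le_centralizer h₁ h₂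

theorem NJ_le : N(J p T) ≤ M₀ := by
  have e : (J p ⊤[Bm p T]).map (Bm p T).subtype = J p T := by
    rw [map_J (inf_ker_of_injective (subtype_injective _) _), map_top_subtype, J_Bm]
  refine e ▸ h.hd _ (fun k => J_ne_bot h.syl.isPGroup (fun e' => h.min.lt.ne' ?_) dvd_rfl ?_)
    (char_of_funct (J p) fun f hf => map_J (inf_ker_of_injective hf _))
  · rw [← h.min.ncl, e', nclIn_eq_self (le_normalizer_of_le_centralizer centralizer_bot'.ge)]
    exact le_antisymm bot_le (h.min.lt.le.trans (h.min.ncl.ge.trans (by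
      rw [e', nclIn_eq_self (le_normalizer_of_le_centralizer centralizer_bot'.ge)])))
  · rw [← e, k, Subgroup.map_bot]

open FFRep EMod SL2Amb MinParFF MinParDec TIOff TIOffCls in
theorem exists_cp : ∃ L U Z, Cp p T M₀ L U Z ∧
    ((∃ (F : Type) (_ : Field F) (_ : Finite F) (_ : CharP F p), Nonempty (ActS (PL F) L U Z)) ∨
      (p = 2 ∧ ∃ n, Nonempty (ActS (PS (Fin (2 * 2 ^ n + 1))) L U Z))) := by
  set V := VG p G
  have hV : IsElementaryAbelian p V := V_elem
  have hN : ⊤ ≤ normalizer (V : Set G) := nV p ⊤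
  let ρ := arep hV (MonoidHom.id G) fun x => hN (mem_top x)
  let φ := QuotientGroup.mk' (cent ρ ⊤)
  have hφ : Function.Surjective φ := QuotientGroup.mk'_surjective _
  have hK : cent ρ ⊤ = centralizer (V : Set G) := by rw [cent_arep_top, comap_id]
  have hK' : φ.ker = centralizer (V : Set G) := (QuotientGroup.ker_mk' _).trans hK
  have hZ : centralizer ((V ⊓ centralizer (T : Set G) : Subgroup G) : Set G) ≤ M₀ :=
    (centralizer_anti (le_inf h.Z_le (omegaOneCenter_le_centralizer p _))).trans h.hz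
  have c : Ctx (quo ρ) (T.map φ) (M₀.map φ) := by
    refine ⟨cent_quo ρ, h.syl.map_mk' _, ?_, (pCore_quotient_eq_bot_iff _).mpr fun N hN' k => ?_, fun x hx => ?_⟩
    · simpa only [map_top_of_surjective φ hφ] using h.min.map_of_ker φ (inf_le_right.trans (hK'.le.trans h.CV_le))
    · rw [hK] at k ⊢
      exact h.red (SubnormalIn.of_normal le_top (normal_iff_top_le.mp hN')) k
    · obtain ⟨x, rfl⟩ := hφ x
      rw [fix_quo] at hx
      have : x ∈ cent ρ (fix ρ T) := hx
      rw [cent_arep, toSub_fix, Subgroup.map_id, comap_id] at this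
      exact mem_map_of_mem φ (hZ this)
  have hoff : ∀ A, MaxAb p ⊤ A → IsElementaryAbelian p (A.map φ) ∧ Nat.card (EM hV) ≤ ms (quo ρ) ⊤ (A.map φ) :=
    fun A hA => ⟨isElementaryAbelian_map (abExp_iff_isElementaryAbelian.mp hA.abExp) φ, by
      have := (card_le_of_maxAb hV le_top hA).1
      rw [card_eq_card_map_mul φ A, hK', mul_comm, mul_right_comm] at this
      rw [ms_top, fix_quo, card_fix, card_em, Subgroup.map_id]
      exact Nat.le_of_mul_le_mul_right this Nat.card_pos⟩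
  have hJC : ¬ J p T ≤ centralizer (V : Set G) := fun k => by
    haveI : (centralizer (V : Set G)).Normal := hK ▸ inferInstance
    refine h.min.lt.not_ge ((h.syl.inf_normal le_top (normal_iff_top_le.1 this)).frattini_top.ge.trans
      (sup_le h.CV_le ((normalizer_le_normalizer_J p _).trans (le_trans ?_ h.NJ_le))))
    rw [J_eq_of_J_le (le_inf (J_le p _) k) inf_le_left]
  have hmax : ∀ A, MaxAb p T A → MaxAb p ⊤ A := fun A hA => ⟨le_top, hA.abExp, fun B _ hB => by
    obtain ⟨g, -, hg⟩ := h.syl.exists_conj_le (le_top : B ≤ ⊤) (isPGroup_of_elem (abExp_iff_isElementaryAbelian.mp hB))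
    exact (card_conj B g).ge.trans (hA.card_le hg (hB.map _))⟩
  obtain ⟨A, hA, hAC⟩ : ∃ A, MaxAb p T A ∧ ¬ A ≤ centralizer (V : Set G) := by
    by_contra! k
    exact hJC (J_le_iff.2 k)
  obtain ⟨B, hBA, hB, -⟩ := exists_minOff (hoff A (hmax A hA)).1
    (fun e => hAC (hK' ▸ (Subgroup.map_eq_bot_iff _).mp e)) (hoff A (hmax A hA)).2
  obtain ⟨r, L, hr, f, fc⟩ := exists_fam' c hB
  have hJ : (J p T).map φ ≤ ⨆ i, L i := map_le_iff_le_comap.mpr (J_le_iff.mpr fun X hX => map_le_iff_le_comap.mp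
    (f.eq ▸ MinParOff.Ctx.le_of_offender c hB (hoff X (hmax X hX)).1 (hoff X (hmax X hX)).2))
  have hE : ∀ i, ((L i).comap φ).map φ = L i := fun i => map_comap_eq_self_of_surjective hφ _
  have hfix : ∀ X : Subgroup G, toSub (fix (quo ρ) (X.map φ)) = V ⊓ centralizer (X : Set G) := fun X => by
    rw [fix_quo, toSub_fix, Subgroup.map_id]
  have hcom : ∀ i, toSub (com (quo ρ) ⊤ (L i)) = ⁅V, (L i).comap φ⁆ := fun i => by
    conv_lhs => rw [← hE, com_quo, toSub_com_top, Subgroup.map_id]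
  have hn : ∀ i, ⨆ j, L j ≤ normalizer (L i : Set _) := fun i => iSup_le fun j => by
    rcases eq_or_ne j i with rfl | e
    exacts [le_normalizer, le_normalizer_of_le_centralizer (cm_iff_le.1 (f.cm i j e.symm))]
  have cj : ∀ i j (g : G), L i ^ᶜ φ g = L j → ((L i).comap φ) ^ᶜ g = (L j).comap φ := fun i j g e =>
    Subgroup.ext fun x => by rw [← e, mem_comap, mem_conj_iff, mem_conj_iff, mem_comap, map_mul, map_mul, map_inv]
  let i : Fin r := ⟨0, hr⟩
  refine ⟨(L i).comap φ, _, _, ⟨h, rfl, rfl, hK' ▸ ker_le_comap φ _, fun g => ?_, ?_, ?_, fun e => hJC ?_, ?_,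
    fun e => c.min.lt.not_ge (f.gen.ge.trans (sup_le (iSup_le fun j => ?_) c.min.le))⟩, ?_⟩
  · haveI := f.normal
    obtain ⟨k, hk, t, ht, e⟩ := (mem_sup_iff_of_le_normalizer' (le_top.trans (normal_iff_top_le.1 this))).1
      (f.gen.ge (mem_top (φ g)))
    obtain ⟨j, hj⟩ := fc i t ht
    have e' := cj i j g (by rw [← e, ← conj_conj, hj, conj_eq_of_mem_normalizer (hn j hk)])
    rcases eq_or_ne j i with rfl | k
    · exact .inl e'
    · have := toSub_le_toSub.mpr (f.orth j i k)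
      rw [hcom, ← hE i, hfix] at this
      exact .inr (by rw [conj_commutator, conj_V, e']; exact this.trans inf_le_right)
  · exact comap_top φ ▸ ((SubnormalIn.of_normal (le_iSup L i) (hn i)).trans
      (SubnormalIn.of_normal le_top (normal_iff_top_le.1 f.normal))).comap φ
  · exact (map_le_iff_le_comap.1 hJ).trans (le_normalizer_comap φ (hn i))
  · have := congrArg toSub f.decomp
    rw [← map_comap_eq_self_of_surjective hφ (⨆ i, L i)] at this
    simp only [toSub_sup, toSub_iSup, hfix, hcom, toSub_top] at this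
    refine le_centralizer_iff.1 (this.ge.trans (sup_le (inf_le_right.trans (centralizer_anti
      (map_le_iff_le_comap.1 hJ))) (iSup_le fun j => le_centralizer_iff.1 ?_)))
    obtain ⟨_, ⟨t, ht, rfl⟩, e'⟩ := f.conj i j
    have := conj_mono t e
    rwa [conj_centralizer, conj_commutator, conj_V, cj i j t e',
      conj_eq_of_mem_normalizer (normalizer_le_normalizer_J p T (le_normalizer ht))] at this
  · have := congrArg toSub (f.nat i).sup_eq_top
    rw [toSub_sup, hcom, ← hE i, hfix, toSub_top, sup_comm, comap_map_eq_self (ker_le_comap φ _)] at this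
    exact this.ge
  · obtain ⟨t, ht, e'⟩ := f.conj i j
    exact e'.ge.trans (conj_le_of_mem ((hE i).ge.trans (map_mono e)) (c.min.le ht))
  · let ψ := φ.comp ((L i).comap φ).subtype
    have e : ψ.range = L i := by rw [MonoidHom.range_comp, range_subtype, hE]
    have hE : ∀ x : (L i).comap φ, ((L i).comap φ).subtype x ∈ normalizer (V : Set G) := fun x => hN (mem_top _)
    obtain ⟨n, h₀, ⟨F, _, _, hF, k⟩ | ⟨hp, k⟩⟩ := f.nat i
    · refine .inl ⟨F, inferInstance, inferInstance, SL2Nat.charP_of_card p hF, ?_⟩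
      rw [PL, MonoidHom.range_eq_map]
      exact actS_lin_iff.1 (actsAs_of_natSL hE ψ rfl (e ▸ k))
    · obtain ⟨n, rfl⟩ := Nat.exists_eq_add_of_le' h₀
      rw [pow_succ'] at k
      refine .inr ⟨hp, n, ?_⟩
      rw [PS, MonoidHom.range_eq_map]
      exact (actS_sym_iff (odd_two_mul_add_one _)).1 (actsAs_of_natSym hE ψ rfl (e ▸ k))

end MP

namespace Cp
variable (h : Cp p T M₀ L U Z)
include h

omit hp [Finite G] in
theorem U_le : U ≤ VG p G := h.eU ▸ commutator_le_left_of_le_normalizer (nV p L)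

omit hp [Finite G] in
theorem U_le_T : U ≤ T := h.U_le.trans h.V_le

omit hp [Finite G] in
theorem nn : (N(L) : Subgroup G) ≤ NN U Z :=
  have k : (N(L) : Subgroup G) ≤ N(U) := h.eU ▸ le_normalizer_commutator (nV p _) le_rfl
  le_inf k (h.eZ ▸ le_normalizer_inf k (normalizer_le_normalizer_centralizer L))

omit hp [Finite G] in
theorem nn' (hX : X ≤ L) : X ≤ NN U Z := (le_normalizer_of_le hX).trans h.nn

omit hp [Finite G] in
theorem Z_cent : Z ≤ C(L) := h.eZ ▸ inf_le_right

omit hp [Finite G] in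
theorem comm_V (hX : X ≤ L) {D : Subgroup G} (hD : D ≤ VG p G) (k : ⁅U, X⁆ ≤ D) : ⁅VG p G, X⁆ ≤ D := by
  have n : VG p G ≤ N(D) := le_normalizer_of_le_centralizer (V_comm.trans (centralizer_anti hD))
  rw [commutator_comm] at k ⊢
  exact (commutator_mono le_rfl h.dec).trans (commutator_sup_le (h.U_le.trans n) (inf_le_left.trans n) k
    ((commutator_eq_bot_iff_le_centralizer'.2 (inf_le_right.trans (centralizer_anti hX))).le.trans bot_le))

omit hp [Finite G] in
theorem comm_U : U ≤ ⁅U, L⁆ := h.eU.ge.trans (h.comm_V le_rfl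
  ((commutator_le_left_of_le_normalizer ((h.nn' le_rfl).trans inf_le_left)).trans h.U_le) le_rfl)

theorem faith : L ⊓ rel Z U ≤ C(VG p G) := by
  have n := h.nn' le_rfl
  refine h.red ((SubnormalIn.of_normal inf_le_left (le_normalizer_inf le_normalizer
    (le_norm_rel (n.trans inf_le_right) (n.trans inf_le_left)))).trans h.sub) (pResidualOf_le_iff_pow_mem.1 ?_)
  have l := pResidualOf_le p (L ⊓ rel Z U)
  exact pResidualOf_le_centralizer_of_le (isPGroup_of_isElementaryAbelian V_elem) (nV p _)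
    (h.comm_V (l.trans inf_le_left) ((h.eZ ▸ inf_le_left : Z ≤ U).trans h.U_le)
      (comm_le_of_le_rel (l.trans inf_le_right))) ((l.trans inf_le_left).trans (le_centralizer_iff.1 h.Z_cent))

theorem fa : N(L) ⊓ rel Z U ≤ C(U) := by
  have n := h.nn' le_rfl
  have b : ∀ X : Subgroup G, X ≤ N((⊥ : Subgroup G)) := fun X => le_normalizer_of_le_centralizer (le_top.trans centralizer_bot'.ge)
  refine le_trans (commutator_eq_bot_iff_le_centralizer'.1 (le_bot_iff.1 (three_subgroups (A := L) (B := U) (b _) (b _)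
    (b _) ?_ ?_))) (centralizer_anti (h.comm_U.trans (commutator_comm _ _).le))
  · exact (commutator_eq_bot_iff_le_centralizer.2 ((comm_le_of_le_rel inf_le_right).trans h.Z_cent)).le
  · refine (commutator_eq_bot_iff_le_centralizer.2 ((le_inf (commutator_le_right_of_le_normalizer inf_le_left)
      ((commutator_mono inf_le_right le_rfl).trans (commutator_le_left_of_le_normalizer (le_norm_rel
        (n.trans inf_le_right) (n.trans inf_le_left))))).trans (h.faith.trans (centralizer_anti h.U_le)))).le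

omit hp [Finite G] in
theorem not_le_Z : ¬ U ≤ Z := fun e => h.nc ((J_le p T).trans (le_top.trans (by
  rw [le_bot_iff.1 (h.comm_U.trans (commutator_eq_bot_iff_le_centralizer.2 (e.trans h.Z_cent)).le), centralizer_bot'])))

variable (a : ActS P L U Z) (m : Model p R) (hR : pResidualOf p P = R)

include hR m in
theorem pre : Pre p R N(L) a.toSect := ⟨m, isElementaryAbelian_of_le V_elem h.U_le, h.nn,
  (a.im_norm le_rfl).trans (hR ▸ normalizer_le_normalizer_pResidualOf p P), h.fa⟩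

include a hR m in
theorem B_norm : Bm p T ≤ N(L) := fun b hb => mem_normalizer_iff_conj_eq.2 ((h.conj b).resolve_right fun e => by
  obtain ⟨w, hw, h₁, h₂⟩ := (h.pre a m hR).exists_cent_J h.syl.isPGroup h.U_le_T h.JN h.not_le_Z
  exact h₂ (h.eZ.le ⟨hw, e (conj_eq_of_cent (Bm_le_cent p T hb) h₁ ▸ conj_mem_conj b hw)⟩))

theorem le_sup_C (hX : X ≤ L) (hY : Y ≤ L) (e : a.im Y ≤ a.im X) : Y ≤ X ⊔ C(VG p G) := by
  have n := h.nn' hX
  have := le_inf (a.le_sup_of_im_le (h.nn' hY) n e) hY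
  rw [sup_inf_of_le_normalizer (le_norm_rel (n.trans inf_le_right) (n.trans inf_le_left)) hX, inf_comm] at this
  exact this.trans (sup_le_sup_left h.faith _)

include hR in
theorem im_res : a.im (pResidualOf p L) = R := by rw [a.im_res (h.nn' le_rfl), a.eq, hR]

include hR in
theorem not_le (hX : X ≤ L) (e : R ≤ a.im X) : ¬ X ≤ M₀ := fun k => h.notM
  ((pResidualOf_sup_of_isSylowIn (h.syl.inf_subnormalIn h.sub)).ge.trans (sup_le ((h.le_sup_C a hX (pResidualOf_le p L)
    ((h.im_res a hR).le.trans e)).trans (sup_le k h.CV_le)) (inf_le_left.trans h.min.le)))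

theorem exists_lin {F : Type*} [Field F] [Finite F] [CharP F p] (a : ActS (PL F) L U Z) :
    a.im (J p T) ≤ PL F ∧ ∃ E ≤ L, Blk p T E ∧ a.im E = RL F := by
  have hB := h.B_norm a model_lin res_PL
  have k := h.pre a model_lin res_PL
  obtain ⟨v, -, e₁, -, e₂⟩ := k.lin_B h.syl.isPGroup h.U_le_T hB h.nc
  have l := pResidualOf_sup_le (h.syl.isPGroup.to_le (Bm_le p T)) hB
  obtain ⟨E, h₁, h₂, h₃⟩ := (k.mono (sup_le le_normalizer hB)).exists_blk h.syl h.hG
    (h.U_le.trans (omegaOneCenter_le p _)) (by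
      rw [a.im_sup a.norm (hB.trans h.nn), a.eq, e₂, sup_eq_left.2 (UL_le_PL v)]) le_sup_right
    (((le_centralizer_omegaOneCenter p _).trans h.cent).trans le_sup_left) h.nc h.hd h.hz
    fun X hX e => h.not_le a res_PL (hX.trans l) e.ge
  exact ⟨e₁.le.trans (UL_le_PL v), E, h₁.trans l, h₂, h₃⟩

section Blk
variable (hE : E ≤ L) (b : Blk p T E) (e : a.im E = R)
include hR hE b e

omit b in
theorem sup_C : E ⊔ C(VG p G) = pResidualOf p L ⊔ C(VG p G) := le_antisymm
  (sup_le (h.le_sup_C a (pResidualOf_le p L) hE (e.trans (h.im_res a hR).symm).le) le_sup_right)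
  (sup_le (h.le_sup_C a hE (pResidualOf_le p L) ((h.im_res a hR).trans e.symm).le) le_sup_right)

omit b in
theorem norm_sup : (N(L) : Subgroup G) ≤ N(E ⊔ C(VG p G)) := h.sup_C a hR hE e ▸
  le_normalizer_sup (normalizer_le_normalizer_pResidualOf p L) (le_normalizer_centralizer (nV p _))

theorem sb : SB p E := ⟨⟨T, h.syl, b⟩, (SubnormalIn.of_normal le_sup_left (sup_le le_normalizer
  ((centralizer_anti (b.WE_le_V h.syl h.hG)).trans (b.cent_le_norm h.syl h.hG)))).trans
    ((SubnormalIn.of_normal (sup_le hE h.cent) (le_normalizer.trans (h.norm_sup a hR hE e))).trans h.sub)⟩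

theorem norm_E : (N(L) : Subgroup G) ≤ N(E) := fun g hg => mem_normalizer_iff_conj_eq.2
  (((h.sb a hR hE b e).conj_cases h.hG g).resolve_right fun k => b.not_cent (le_sup_left.trans
    ((conj_eq_of_mem_normalizer (h.norm_sup a hR hE e hg)).ge.trans (by
      rw [conj_sup, conj_centralizer, conj_V]
      exact sup_le (k.trans (centralizer_anti (WE_le_E p E))) (centralizer_anti (b.WE_le_V h.syl h.hG))))))

include m in
theorem WE_eq : WE p E = U ∧ ZW p E = Z := by
  have n := h.nn' hE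
  have l : WE p E ≤ U := b.comm_WE.ge.trans ((commutator_mono (b.WE_le_V h.syl h.hG) hE).trans h.eU.le)
  have nW := (le_normalizer.trans (h.norm_E a hR hE b e)).trans (norm_WE p E)
  have k : WE p E = U := by
    refine le_antisymm l (h.comm_U.trans ((commutator_mono (a.le_sup_of_img_eq_top ((m.irr _ (e ▸ a.im_img
      (le_normalizer.trans (norm_WE p E)))).resolve_left fun k => b.not_le_cent (((a.img_eq_bot_iff l).1 k).trans
        (h.Z_cent.trans (centralizer_anti hE))))) le_rfl).trans ?_))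
    rw [commutator_comm]
    exact commutator_sup_le le_normalizer (le_normalizer_of_le_centralizer ((a.le.trans h.U_le).trans (V_comm.trans
      (centralizer_anti (l.trans h.U_le))))) (commutator_le_right_of_le_normalizer nW)
        ((commutator_eq_bot_iff_le_centralizer'.2 h.Z_cent).le.trans bot_le)
  refine ⟨k, le_antisymm ((a.img_eq_bot_iff ((ZW_le p E).trans l)).1 ((m.irr _ (e ▸ a.im_img
    (le_normalizer.trans (norm_ZW p E)))).resolve_right fun k' => b.not_le_cent (k.le.trans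
      ((a.le_sup_of_img_eq_top k').trans (sup_le (ZW_cent p E) (h.Z_cent.trans (centralizer_anti hE)))))))
    (le_inf (a.le.trans k.ge) (h.Z_cent.trans (centralizer_anti hE)))⟩

include m in
theorem indep (hJ : a.im (J p T) ≤ P) {j : G} (hj : j ∈ J p T) : ∃ t ∈ T, t ∈ N(E) ∧ j⁻¹ * t ∈ C(WE p E) ∧
    ∀ g, E ^ᶜ g ≠ E → t ∈ C(WE p (E ^ᶜ g)) := by
  have s := a.im_sylow (h.syl.inf_subnormalIn h.sub) a.norm
  have k := s.eq_of_le (Q := a.im (T ⊓ N(L)) ⊓ a.im L) inf_le_right ((a.im_isPGroup (h.syl.isPGroup.to_le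
    inf_le_left)).to_le inf_le_left) (le_inf (a.im_mono (inf_le_inf_left _ le_normalizer)) s.le)
  obtain ⟨t, ht, e'⟩ := (a.mem_im' (h.nn' inf_le_right)).1 (k.le ⟨a.θ_mem ⟨J_le p T hj, h.JN hj⟩,
    a.eq.ge (hJ (a.θ_mem hj))⟩)
  have w := (h.WE_eq a m hR hE b e).1
  refine ⟨t, ht.1, h.norm_E a hR hE b e (le_normalizer ht.2), w ▸ h.fa (mem_inf.2 ⟨mul_mem (inv_mem (h.JN hj))
    (le_normalizer ht.2), (a.θ_eq_iff (h.nn (h.JN hj)) (a.norm ht.2)).1 e'.symm⟩), fun g hg => ?_⟩
  rw [← conj_WE, w]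
  exact le_centralizer_iff.1 ((h.conj g).resolve_left fun k => hg (conj_eq_of_mem_normalizer
    (h.norm_E a hR hE b e (mem_normalizer_iff_conj_eq.2 k)))) ht.2

end Blk

end Cp

end Cfsg.Agent.Lib.Blk
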