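import Cfsg.Agent.Lib.PushJ

/-! Centrally large subgroups in the rank one pushing up situation. -/

set_option autoImplicit false
open Cfsg

namespace Cfsg.Agent.Lib.PushBase

open Subgroup Cfsg.Agent.Lib.PCoreConj Cfsg.Agent.Lib.PCore Cfsg.Agent.Lib.PCoreResidual Cfsg.Agent.Lib.PCoreMod
open Cfsg.Agent.Lib.PReduced Cfsg.Agent.Lib.PIrred Cfsg.Agent.Lib.ThompsonJ
open scoped Pointwise commutatorElement IsMulCommutative

variable {H : Type*} [Group H] {p : ℕ} {H' : Type*} [Group H'] {f : H →* H'}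
variable {G S T M V A B Q R K : Subgroup H} {g a : H}

section Phi

/-- The Frattini subgroup of a subgroup. -/
def Phi (P : Subgroup H) : Subgroup H := (frattini P).map P.subtype

theorem Phi_le (P : Subgroup H) : Phi P ≤ P := map_subtype_le _

theorem map_Phi_le (P : Subgroup H) (f : H →* H') : (Phi P).map f ≤ Phi (P.map f) := by
  rintro _ ⟨_, ⟨x, hx, rfl⟩, rfl⟩
  exact ⟨_, frattini_le_comap_frattini_of_surjective (f.subgroupMap_surjective P) hx, rfl⟩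

theorem map_Phi (hf : Function.Injective f) (P : Subgroup H) : (Phi P).map f = Phi (P.map f) := by
  refine le_antisymm (map_Phi_le P f) ?_
  rintro _ ⟨x, hx, rfl⟩
  have := frattini_le_comap_frattini_of_surjective
    (φ := (P.equivMapOfInjective f hf).symm.toMonoidHom) (MulEquiv.surjective _) hx
  refine ⟨_, ⟨_, this, rfl⟩, ?_⟩
  have e := coe_equivMapOfInjective_apply P f hf ((P.equivMapOfInjective f hf).symm x)
  rw [MulEquiv.apply_symm_apply] at e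
  exact e.symm

theorem Phi_top : Phi (⊤ : Subgroup H) = frattini H := by
  refine le_antisymm ?_ fun x hx => ⟨⟨x, trivial⟩, frattini_le_comap_frattini_of_surjective
    (φ := (topEquiv (G := H)).symm.toMonoidHom) (MulEquiv.surjective _) hx, rfl⟩
  rintro _ ⟨x, hx, rfl⟩
  exact frattini_le_comap_frattini_of_surjective
    (φ := (topEquiv (G := H)).toMonoidHom) (MulEquiv.surjective _) hx

theorem conj_Phi (P : Subgroup H) (g : H) : (Phi P) ^ᶜ g = Phi (P ^ᶜ g) :=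
  map_Phi (MulAut.conj g).injective P

theorem le_norm_Phi (h : K ≤ N(A)) : K ≤ N(Phi A) := le_normalizer_map_frattini h

theorem map_powerClosure (f : H →* H') (n : ℕ) (A : Subgroup H) :
    (powerClosure p n A).map f = powerClosure p n (A.map f) := by
  rw [powerClosure, powerClosure, MonoidHom.map_closure]
  congr 1
  ext y
  constructor
  · rintro ⟨_, ⟨x, hx, rfl⟩, rfl⟩; exact ⟨f x, ⟨x, hx, rfl⟩, map_pow f x _⟩
  · rintro ⟨_, ⟨x, hx, rfl⟩, rfl⟩; exact ⟨_, ⟨x, hx, rfl⟩, map_pow f x _⟩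

theorem pow_mem_powerClosure {x : H} (hx : x ∈ A) : x ^ p ∈ powerClosure p 1 A :=
  subset_closure ⟨x, hx, by rw [pow_one]⟩

theorem powerClosure_le_iff : powerClosure p 1 A ≤ K ↔ ∀ x ∈ A, x ^ p ∈ K :=
  ⟨fun h _ hx => h (pow_mem_powerClosure hx), fun h => (closure_le _).2 (by
    rintro _ ⟨x, hx, rfl⟩; rw [pow_one]; exact h x hx)⟩

theorem card_omega_mul (hA : A ≤ C(A)) :
    Nat.card (powerClosure p 1 A) * Nat.card (omegaOne p A) = Nat.card A := by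
  have hc := (abExp_of_le_cent hA).isMulCommutative
  let φ : A →* A := powMonoidHom p
  have e₁ : (φ.range).map A.subtype = powerClosure p 1 A := le_antisymm (by
    rintro _ ⟨_, ⟨x, rfl⟩, rfl⟩; exact pow_mem_powerClosure x.2)
      (powerClosure_le_iff.2 fun x hx => ⟨_, ⟨⟨x, hx⟩, rfl⟩, rfl⟩)
  have e₂ : (φ.ker).map A.subtype = omegaOne p A := le_antisymm (by
    rintro _ ⟨x, hx, rfl⟩; exact mem_omegaOne x.2 (congrArg Subtype.val hx))
      (omegaOne_le_iff.2 fun x hx e => ⟨⟨x, hx⟩, Subtype.ext e, rfl⟩)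
  rw [← e₁, ← e₂, card_map_of_injective A.subtype_injective, card_map_of_injective A.subtype_injective,
    ← card_top (G := A), card_eq_card_map_mul φ ⊤, top_inf_eq, MonoidHom.range_eq_map]

variable [hp : Fact p.Prime]

theorem Phi_le_of [Finite A] (hc : ⁅A, A⁆ ≤ K) (h : ∀ x ∈ A, x ^ p ∈ K) : Phi A ≤ K :=
  map_frattini_le_of_pow hc h

theorem comm_le_Phi [Finite A] (hA : IsPGroup p A) : ⁅A, A⁆ ≤ Phi A := commutator_le_map_frattini hA

theorem pow_mem_Phi [Finite A] (hA : IsPGroup p A) (ha : a ∈ A) : a ^ p ∈ Phi A :=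
  pow_mem_map_frattini hA ha

theorem Phi_mono [Finite B] (hB : IsPGroup p B) (h : A ≤ B) : Phi A ≤ Phi B :=
  haveI := finite_of_le h
  Phi_le_of ((commutator_mono h h).trans (comm_le_Phi hB)) fun _ hx => pow_mem_Phi hB (h hx)

theorem isElem_of_Phi [Finite A] (hA : IsPGroup p A) (h : Phi A = ⊥) : IsElementaryAbelian p A :=
  abExp_iff_isElementaryAbelian.1 ⟨fun a ha b hb => commutatorElement_eq_one_iff_mul_comm.1
    (mem_bot.1 (h ▸ comm_le_Phi hA (commutator_mem_commutator ha hb))),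
      fun a ha => mem_bot.1 (h ▸ pow_mem_Phi hA ha)⟩

end Phi

section CL

/-- Centrally large subgroups of `S`. -/
structure CL (S Q : Subgroup H) : Prop where
  cd : CD S Q
  cent : S ⊓ C(Q) ≤ Q

/-- Minimal centrally large subgroups of `S`. -/
structure MCL (S Q : Subgroup H) : Prop extends CL S Q where
  min : ∀ R, R ≤ Q → CL S R → R = Q

/-- Minimal centrally large subgroups with largest `Ω₁Z`. -/
structure MZ (p : ℕ) (S Q : Subgroup H) : Prop extends MCL S Q where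
  max : ∀ R, MCL S R → Nat.card (omegaOneCenter p R) ≤ Nat.card (omegaOneCenter p Q)

/-- `S_MCL`. -/
def SMCL (S : Subgroup H) : Subgroup H := ⨆ Q : {Q // MCL S Q}, Q.1

/-- `S_Φ`. -/
def SPhi (p : ℕ) (S : Subgroup H) : Subgroup H := ⨆ Q : {Q // MZ p S Q}, Phi Q.1

theorem CL.le (h : CL S Q) : Q ≤ S := h.cd.le

theorem CL.center_eq (h : CL S Q) : Z(Q) = S ⊓ C(Q) :=
  le_antisymm (inf_le_inf_right _ h.le) (le_inf h.cent inf_le_right)

theorem exists_map_eq {R' : Subgroup H'} (h : R' ≤ S.map f) : ∃ R, R ≤ S ∧ R.map f = R' :=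
  ⟨_, inf_le_left, map_inf_comap f h⟩

theorem map_center (hf : Function.Injective f) (S : Subgroup H) : (Z(S)).map f = Z(S.map f) :=
  map_centralizer_inf hf S S

theorem meas_map (hf : Function.Injective f) (S R : Subgroup H) :
    meas (S.map f) (R.map f) = meas S R := by
  rw [meas, meas, ← map_centralizer_inf hf, card_map_of_injective hf, card_map_of_injective hf]

theorem cd_map_iff (hf : Function.Injective f) : CD (S.map f) (R.map f) ↔ CD S R :=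
  ⟨fun h => ⟨bot_le, (map_le_map_iff_of_injective hf).1 h.le, fun Y _ hY => by
    rw [← meas_map hf, ← meas_map hf S R]; exact h.max' (map_mono hY)⟩,
  fun h => ⟨bot_le, map_mono h.le, fun Y _ hY => by
    obtain ⟨Y, hY', rfl⟩ := exists_map_eq hY
    rw [meas_map hf, meas_map hf]; exact h.max' hY'⟩⟩

theorem cl_map_iff (hf : Function.Injective f) : CL (S.map f) (R.map f) ↔ CL S R :=
  ⟨fun h => ⟨(cd_map_iff hf).1 h.cd, (map_le_map_iff_of_injective hf).1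
    (map_centralizer_inf hf S R ▸ h.cent)⟩,
  fun h => ⟨(cd_map_iff hf).2 h.cd, map_centralizer_inf hf S R ▸ map_mono h.cent⟩⟩

theorem mcl_map_iff (hf : Function.Injective f) : MCL (S.map f) (R.map f) ↔ MCL S R :=
  ⟨fun h => ⟨(cl_map_iff hf).1 h.toCL, fun Y hY h' => map_injective hf
    (h.min _ (map_mono hY) ((cl_map_iff hf).2 h'))⟩,
  fun h => ⟨(cl_map_iff hf).2 h.toCL, fun Y hY h' => by
    obtain ⟨Y, hY', rfl⟩ := exists_map_eq hY
    rw [h.min Y hY' ((cl_map_iff hf).1 h')]⟩⟩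

theorem card_omegaOneCenter_map (hf : Function.Injective f) (R : Subgroup H) :
    Nat.card (omegaOneCenter p (R.map f)) = Nat.card (omegaOneCenter p R) := by
  rw [← omegaOneCenter_def, ← omegaOneCenter_def, ← map_center hf, ← map_omegaOne_of_injective hf,
    card_map_of_injective hf]

theorem mz_map_iff (hf : Function.Injective f) : MZ p (S.map f) (R.map f) ↔ MZ p S R :=
  ⟨fun h => ⟨(mcl_map_iff hf).1 h.toMCL, fun Y hY => by
    rw [← card_omegaOneCenter_map hf, ← card_omegaOneCenter_map hf R]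
    exact h.max _ ((mcl_map_iff hf).2 hY)⟩,
  fun h => ⟨(mcl_map_iff hf).2 h.toMCL, fun Y hY => by
    obtain ⟨Y, -, rfl⟩ := exists_map_eq hY.le
    rw [card_omegaOneCenter_map hf, card_omegaOneCenter_map hf]
    exact h.max _ ((mcl_map_iff hf).1 hY)⟩⟩

theorem MCL.le_SMCL (h : MCL S Q) : Q ≤ SMCL S := le_iSup (fun Q : {Q // MCL S Q} => Q.1) ⟨Q, h⟩

theorem SMCL_le_iff : SMCL S ≤ K ↔ ∀ Q, MCL S Q → Q ≤ K :=
  ⟨fun h _ hQ => hQ.le_SMCL.trans h, fun h => iSup_le fun Q => h Q.1 Q.2⟩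

theorem MZ.le_SPhi (h : MZ p S Q) : Phi Q ≤ SPhi p S :=
  le_iSup (fun Q : {Q // MZ p S Q} => Phi Q.1) ⟨Q, h⟩

theorem SPhi_le_iff : SPhi p S ≤ K ↔ ∀ Q, MZ p S Q → Phi Q ≤ K :=
  ⟨fun h _ hQ => hQ.le_SPhi.trans h, fun h => iSup_le fun Q => h Q.1 Q.2⟩

theorem map_SMCL (hf : Function.Injective f) (S : Subgroup H) : (SMCL S).map f = SMCL (S.map f) :=
  le_antisymm (map_le_iff_le_comap.2 (SMCL_le_iff.2 fun _ hQ => map_le_iff_le_comap.1
    ((mcl_map_iff hf).2 hQ).le_SMCL)) (SMCL_le_iff.2 fun Q hQ => by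
      obtain ⟨Q, -, rfl⟩ := exists_map_eq hQ.le
      exact map_mono ((mcl_map_iff hf).1 hQ).le_SMCL)

theorem map_SPhi (hf : Function.Injective f) (S : Subgroup H) :
    (SPhi p S).map f = SPhi p (S.map f) :=
  le_antisymm (map_le_iff_le_comap.2 (SPhi_le_iff.2 fun Q hQ => map_le_iff_le_comap.1
    (map_Phi hf Q ▸ ((mz_map_iff hf).2 hQ).le_SPhi))) (SPhi_le_iff.2 fun Q hQ => by
      obtain ⟨Q, -, rfl⟩ := exists_map_eq hQ.le
      exact map_Phi hf Q ▸ map_mono ((mz_map_iff hf).1 hQ).le_SPhi)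

theorem norm_SMCL (h : K ≤ N(S)) : K ≤ N(SMCL S) := fun g hg => mem_normalizer_iff_conj_eq.2
  ((map_SMCL (MulAut.conj g).injective S).trans (congrArg SMCL (conj_eq_of_mem_normalizer (h hg))))

theorem norm_SPhi (h : K ≤ N(S)) : K ≤ N(SPhi p S) := fun g hg => mem_normalizer_iff_conj_eq.2
  ((map_SPhi (MulAut.conj g).injective S).trans
    (congrArg (SPhi p) (conj_eq_of_mem_normalizer (h hg))))

theorem cd_top_iff [Finite H] : CD ⊤ R ↔ IsCentralizerLarge R := by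
  rw [CDLattice.isCD_iff]
  exact ⟨fun h X => by simpa only [meas, top_inf_eq] using h.max' (le_top : X ≤ ⊤),
    fun h => ⟨bot_le, le_top, fun X _ _ => by simpa only [meas, top_inf_eq] using h X⟩⟩

theorem cl_top_iff [Finite H] : CL ⊤ R ↔ IsCentrallyLarge R := by
  rw [CDLattice.isCL_iff, ← cd_top_iff]
  exact ⟨fun h => ⟨h.cd, fun _ hx => h.cent ⟨trivial, hx⟩⟩, fun h => ⟨h.1, inf_le_right.trans h.2⟩⟩

theorem mcl_top_iff [Finite H] : MCL ⊤ R ↔ IsMinimalCentrallyLarge R :=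
  ⟨fun h => ⟨cl_top_iff.1 h.toCL, fun Y hY h' => h.min Y hY (cl_top_iff.2 h')⟩,
    fun h => ⟨cl_top_iff.2 h.1, fun Y hY h' => h.2 Y hY (cl_top_iff.1 h')⟩⟩

theorem mz_top_iff [Finite H] : MZ p ⊤ R ↔ IsMinimalCentrallyLarge R ∧
    Nat.card (omegaOneCenter p R) = maxOmegaCenterOfMinimalCL p H := by
  have hb : BddAbove {k : ℕ | ∃ Q : Subgroup H, IsMinimalCentrallyLarge Q ∧
      Nat.card ↥(omegaOneCenter p Q) = k} :=
    ⟨Nat.card H, by rintro _ ⟨Q, -, rfl⟩; exact card_le_card_group _⟩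
  refine ⟨fun h => ⟨mcl_top_iff.1 h.toMCL, le_antisymm (le_csSup hb ⟨R, mcl_top_iff.1 h.toMCL, rfl⟩)
    (csSup_le ⟨_, R, mcl_top_iff.1 h.toMCL, rfl⟩ ?_)⟩, fun h => ⟨mcl_top_iff.2 h.1, fun Y hY =>
      h.2 ▸ le_csSup hb ⟨Y, mcl_top_iff.1 hY, rfl⟩⟩⟩
  rintro _ ⟨Q, hQ, rfl⟩
  exact h.max Q (mcl_top_iff.2 hQ)

theorem SMCL_top [Finite H] : SMCL (⊤ : Subgroup H) = minimalCentrallyLargeJoin H :=
  le_antisymm (SMCL_le_iff.2 fun _ hQ => le_sSup (mcl_top_iff.1 hQ))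
    (sSup_le fun _ hQ => (mcl_top_iff.2 hQ).le_SMCL)

theorem SPhi_top [Finite H] : SPhi p (⊤ : Subgroup H) = frattiniOfMinimalCLJoin p H :=
  le_antisymm (SPhi_le_iff.2 fun Q hQ => le_iSup_of_le ⟨Q, mz_top_iff.1 hQ⟩ le_rfl)
    (iSup_le fun Q => (mz_top_iff.2 Q.2).le_SPhi)

theorem map_top_subtype (S : Subgroup H) : (⊤ : Subgroup S).map S.subtype = S := by
  rw [← MonoidHom.range_eq_map, range_subtype]

theorem mcl_iff_map [Finite S] {Q : Subgroup S} :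
    IsMinimalCentrallyLarge Q ↔ MCL S (Q.map S.subtype) := by
  rw [← mcl_top_iff, ← mcl_map_iff S.subtype_injective, map_top_subtype]

theorem cl_iff_map [Finite S] {Q : Subgroup S} :
    IsCentrallyLarge Q ↔ CL S (Q.map S.subtype) := by
  rw [← cl_top_iff, ← cl_map_iff S.subtype_injective, map_top_subtype]

theorem MCL.exists_map [Finite S] (h : MCL S Q) :
    ∃ Q₀ : Subgroup S, IsMinimalCentrallyLarge Q₀ ∧ Q₀.map S.subtype = Q :=
  ⟨Q.subgroupOf S, mcl_iff_map.2 (by rwa [subgroupOf_map_subtype_of_le h.le]),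
    subgroupOf_map_subtype_of_le h.le⟩

theorem CL.exists_map [Finite S] (h : CL S Q) :
    ∃ Q₀ : Subgroup S, IsCentrallyLarge Q₀ ∧ Q₀.map S.subtype = Q :=
  ⟨Q.subgroupOf S, cl_iff_map.2 (by rwa [subgroupOf_map_subtype_of_le h.le]),
    subgroupOf_map_subtype_of_le h.le⟩

theorem MCL.comm_eq [Finite S] (hQ : MCL S Q) (hR : MCL S R) : ⁅Q, Q⁆ = ⁅R, R⁆ := by
  obtain ⟨Q, hQ', rfl⟩ := hQ.exists_map
  obtain ⟨R, hR', rfl⟩ := hR.exists_map
  rw [← map_commutator, ← map_commutator, CDLattice.minCL_commutator hQ' hR']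

theorem MCL.card_eq [Finite S] (hQ : MCL S Q) (hR : MCL S R) : Nat.card Q = Nat.card R := by
  obtain ⟨Q, hQ', rfl⟩ := hQ.exists_map
  obtain ⟨R, hR', rfl⟩ := hR.exists_map
  rw [card_map_of_injective S.subtype_injective, card_map_of_injective S.subtype_injective,
    (CDLattice.minCL_card hQ' hR').1]

theorem MCL.inf_sup [Finite S] (hQ : MCL S Q) (hR : CL S R) : Q ⊓ R ⊔ S ⊓ C(Q) = Q := by
  obtain ⟨Q, hQ', rfl⟩ := hQ.exists_map
  obtain ⟨R, hR', rfl⟩ := hR.exists_map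
  rw [← map_centralizer_subtype, ← map_inf _ _ _ S.subtype_injective, ← Subgroup.map_sup,
    CDLattice.minCL_eq hQ' hR']

theorem CL.exists_mcl [Finite S] (hQ : CL S Q) : ∃ R, R ≤ Q ∧ MCL S R := by
  obtain ⟨Q, hQ', rfl⟩ := hQ.exists_map
  obtain ⟨R, h₁, h₂⟩ := CDLattice.exists_minCL_le hQ'
  exact ⟨_, map_mono h₁, mcl_iff_map.1 h₂⟩

theorem exists_mcl (S : Subgroup H) [Finite S] : ∃ R, MCL S R :=
  let ⟨_, h⟩ := CDLattice.exists_minCL (G := S)
  ⟨_, mcl_iff_map.1 h⟩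

theorem exists_mz (p : ℕ) (S : Subgroup H) [Finite S] : ∃ R, MZ p S R := by
  obtain ⟨R, hR, hm⟩ := Set.exists_max_image {R | MCL S R} (fun R => Nat.card (omegaOneCenter p R))
    ((finite_setOf_le S).subset fun R hR => hR.le) (exists_mcl S)
  exact ⟨R, hR, hm⟩

theorem cd_of_le_cent_ZJ [Finite S] (h : S ≤ C(ZJ 0 S)) : CD S S := by
  obtain ⟨Q, hQ⟩ := CDLattice.exists_isCL (G := S)
  have h₁ := CDLattice.centralizer_center_thompson_le hQ
  have h₂ := (cl_iff_map.1 (CDLattice.cl_sup_thompson hQ)).cd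
  have e : thompsonSubgroupA S ⊓ C(thompsonSubgroupA S) = ZJ 0 ⊤ := by
    rw [thompsonSubgroupA_eq, ← inf_centralizer_J_eq, top_inf_eq]
    exact inf_eq_right.2 (le_trans (by rw [← inf_centralizer_J_eq, top_inf_eq]) (ZJ_le_J 0 ⊤))
  have h₃ : Q ⊔ thompsonSubgroupA S = ⊤ := top_le_iff.1 (le_trans (fun x _ => by
    rw [e, centralizer_eq_subgroupOf, map_ZJ (inf_ker_of_injective S.subtype_injective _),
      map_top_subtype]
    exact h x.2) h₁)
  rwa [h₃, map_top_subtype] at h₂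

end CL

namespace PK
variable (h : PK p G S T M V) (hS : CD S S)
include h hS

theorem cl_T : CL S T := ⟨h.cd_T hS, h.cent_T_le hS⟩

theorem cl_iff : CL T Q ↔ CL S Q ∧ Q ≤ T := by
  haveI := h.finT
  refine ⟨fun hQ => ⟨⟨h.cd_extend hS hQ.cd, le_trans (le_inf ?_ inf_le_right) hQ.cent⟩, hQ.le⟩,
    fun hQ => ⟨h.cd_restrict hQ.1.cd ((le_inf h.V_le_S (h.V_le_C.trans
      (centralizer_anti hQ.2))).trans hQ.1.cent) hQ.2, (inf_le_inf_right _ h.T_le).trans hQ.1.cent⟩⟩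
  exact (inf_le_inf_left _ (centralizer_anti (h.center_T hS ▸ hQ.cd.center_le))).trans h.cent_eq.le

theorem mcl_iff : MCL T Q ↔ MCL S Q ∧ Q ≤ T :=
  ⟨fun hQ => ⟨⟨((h.cl_iff hS).1 hQ.toCL).1, fun R hR h' => hQ.min R hR ((h.cl_iff hS).2
    ⟨h', hR.trans hQ.le⟩)⟩, hQ.le⟩, fun hQ => ⟨(h.cl_iff hS).2 ⟨hQ.1.toCL, hQ.2⟩,
      fun R hR h' => hQ.1.min R hR ((h.cl_iff hS).1 h').1⟩⟩

theorem norm_comm_mcl (hQ : MCL S Q) : G ≤ N(⁅Q, Q⁆) := by
  haveI := h.finS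
  haveI := h.finT
  obtain ⟨R, hRT, hR⟩ := (h.cl_T hS).exists_mcl
  have hR' := (h.mcl_iff hS).2 ⟨hR, hRT⟩
  rw [hQ.comm_eq hR]
  refine fun g hg => mem_normalizer_iff_conj_eq.2 ?_
  have := (mcl_map_iff (f := (MulAut.conj g).toMonoidHom) (MulAut.conj g).injective).2 hR'
  rw [conj_commutator]
  exact MCL.comm_eq (h.conj_T hg ▸ this) hR'

theorem cent_not_le (hQ : MCL S Q) (hQT : ¬ Q ≤ T) : ¬ S ⊓ C(Q) ≤ T := fun e => hQT (by
  haveI := h.finS
  rw [← hQ.inf_sup (h.cl_T hS)]; exact sup_le inf_le_right e)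

theorem comm_mcl_central (hQ : MCL S Q) (hQT : ¬ Q ≤ T) : G ≤ C(V ⊓ ⁅Q, Q⁆) := by
  haveI := h.finS
  refine h.cent_of_norm (le_normalizer_inf h.V_norm (h.norm_comm_mcl hS hQ)) ?_
  rw [← h.sup_cd hS hQ.cd.cent (h.cent_not_le hS hQ hQT)]
  exact sup_le (inf_le_right.trans (centralizer_anti (inf_le_right.trans
    (commutator_le_left_of_le_normalizer le_normalizer))))
    (h.V_cent.trans (centralizer_anti inf_le_left))

theorem norm_SMCL' (hQ : ∀ Q, MCL S Q → Q ≤ T) : G ≤ N(SMCL S) := by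
  have : SMCL S = SMCL T := le_antisymm (SMCL_le_iff.2 fun Q h' =>
    ((h.mcl_iff hS).2 ⟨h', hQ Q h'⟩).le_SMCL) (SMCL_le_iff.2 fun Q h' =>
      ((h.mcl_iff hS).1 h').1.le_SMCL)
  rw [this]
  exact norm_SMCL h.T_norm

theorem cent_inf_sup (hQ : CD S Q) : S ⊓ C(Q ⊓ T ⊔ V) = S ⊓ C(Q) ⊓ T ⊔ V := by
  haveI := h.finS
  rw [centralizer_sup, inf_inf_distrib_left, hQ.centralizer_inf (h.cd_T hS), h.cent_T hS, h.cent_eq,
    sup_comm, sup_inf_of_le_normalizer' (inf_le_left.trans (h.S_le.trans h.V_norm)) h.V_le, sup_comm]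

theorem mcl_inf_sup (hQ : MCL S Q) (hQT : ¬ Q ≤ T) : MCL S (Q ⊓ T ⊔ V) := by
  haveI := h.finS
  have hcl : CL S (Q ⊓ T ⊔ V) := ⟨(hQ.cd.inf (h.cd_T hS)).sup (h.cd_V hS), by
    rw [h.cent_inf_sup hS hQ.cd]
    exact sup_le_sup_right (inf_le_inf_right _ hQ.cent) _⟩
  obtain ⟨R, h₁, h₂⟩ := hcl.exists_mcl
  haveI := finite_of_le hcl.le
  have hV : ¬ V ≤ Q := fun e => h.cent_not_le hS hQ hQT
    ((inf_le_inf_left _ (centralizer_anti e)).trans h.cent_eq.le)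
  rwa [eq_of_le_of_card_le h₁ (by
    rw [h.card_inf_sup hQ.le (h.inf_cd hS hQ.cd hV) (h.sup_cd hS hQ.cd hQT), hQ.card_eq h₂])] at h₂

variable [hp : Fact p.Prime]

theorem mz_aux (hQ : MCL S Q) (hQT : ¬ Q ≤ T) :
    Nat.card (omegaOneCenter p Q) ≤ Nat.card (omegaOneCenter p (Q ⊓ T ⊔ V)) ∧
    (Nat.card (omegaOneCenter p (Q ⊓ T ⊔ V)) ≤ Nat.card (omegaOneCenter p Q) →
      Phi Q ≤ Phi (Q ⊓ T ⊔ V)) := by
  haveI := h.finS
  have hR := h.mcl_inf_sup hS hQ hQT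
  set R := Q ⊓ T ⊔ V with hRdef
  haveI := finite_of_le hQ.le
  haveI := finite_of_le hR.le
  have hA : Z(Q) ≤ C(Z(Q)) := inf_le_right.trans (centralizer_anti inf_le_left)
  have hB : Z(R) ≤ C(Z(R)) := inf_le_right.trans (centralizer_anti inf_le_left)
  have eB : Z(R) = Z(Q) ⊓ T ⊔ V := by rw [hR.center_eq, hQ.center_eq, h.cent_inf_sup hS hQ.cd]
  have hc : Nat.card ↥(Z(Q)) = Nat.card ↥(Z(R)) := by
    have := hQ.cd.meas_eq hR.cd
    rw [meas, meas, hQ.card_eq hR, ← hQ.center_eq, ← hR.center_eq] at this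
    exact Nat.eq_of_mul_eq_mul_left Nat.card_pos this
  have hle : powerClosure p 1 Z(R) ≤ powerClosure p 1 Z(Q) := powerClosure_le_iff.2 fun x hx => by
    rw [eB] at hx
    obtain ⟨a, ha, v, hv, rfl⟩ := (mem_sup_iff_of_le_normalizer (le_normalizer_of_le_centralizer
      (inf_le_right.trans h.V_cent))).1 hx
    obtain ⟨w, hw, e⟩ := h.exists_pow_eq' hv
    rw [Commute.mul_pow (h.V_cent ha.2 v hv).symm, e]
    refine mul_mem (pow_mem_powerClosure ha.1) (pow_mem_powerClosure ?_)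
    rw [hQ.center_eq]
    exact hQ.cd.cent.center_le (h.W_le hw)
  have e₁ := card_omega_mul (p := p) hA
  have e₂ := card_omega_mul (p := p) hB
  rw [omegaOneCenter_def] at e₁ e₂
  haveI := finite_of_le ((powerClosure_le_self (p := p) 1 _).trans (inf_le_left : Z(Q) ≤ Q))
  haveI := finite_of_le hle
  have hle' := card_le_of_le hle
  refine ⟨Nat.le_of_mul_le_mul_left ((Nat.mul_le_mul_right _ hle').trans
    (e₁.trans (hc.trans e₂.symm)).le) Nat.card_pos, fun hm => ?_⟩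
  have heq := eq_of_le_of_card_le hle (Nat.le_of_mul_le_mul_right
    ((e₁.trans (hc.trans e₂.symm)).le.trans (Nat.mul_le_mul_left _ hm))
      (card_pos_of_le (omegaOneCenter_le p Q)))
  have hp' := h.pS.to_le hR.le
  refine Phi_le_of (p := p) (hQ.comm_eq hR ▸ comm_le_Phi hp') fun x hx => ?_
  rw [← hQ.inf_sup hR.toCL, ← hQ.center_eq] at hx
  obtain ⟨a, ha, z, hz, rfl⟩ := (mem_sup_iff_of_le_normalizer (le_normalizer_of_le_centralizer
      (inf_le_left.trans (le_centralizer_iff.1 inf_le_right)))).1 hx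
  rw [Commute.mul_pow (hz.2 a ha.1)]
  refine mul_mem (pow_mem_Phi hp' ha.2) ?_
  have k : powerClosure p 1 Z(R) ≤ Phi R :=
    powerClosure_le_iff.2 fun y hy => pow_mem_Phi hp' (mem_inf.1 hy).1
  exact k (heq.ge (pow_mem_powerClosure hz))

theorem norm_SPhi' : G ≤ N(SPhi p S) := by
  have : SPhi p S = SPhi p T := le_antisymm (SPhi_le_iff.2 fun Q h' => by
    by_cases hQT : Q ≤ T
    · exact MZ.le_SPhi ⟨(h.mcl_iff hS).2 ⟨h'.toMCL, hQT⟩, fun R hR =>
        h'.max R ((h.mcl_iff hS).1 hR).1⟩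
    · have hR := h.mcl_inf_sup hS h'.toMCL hQT
      obtain ⟨h₁, h₂⟩ := h.mz_aux hS h'.toMCL hQT
      exact (h₂ (h'.max _ hR)).trans (MZ.le_SPhi ⟨(h.mcl_iff hS).2 ⟨hR, h.inf_sup_le Q⟩,
        fun R hR => (h'.max R ((h.mcl_iff hS).1 hR).1).trans h₁⟩))
    (SPhi_le_iff.2 fun Q h' => MZ.le_SPhi ⟨((h.mcl_iff hS).1 h'.toMCL).1, fun R hR => by
      by_cases hRT : R ≤ T
      · exact h'.max R ((h.mcl_iff hS).2 ⟨hR, hRT⟩)
      · exact (h.mz_aux hS hR hRT).1.trans (h'.max _ ((h.mcl_iff hS).2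
          ⟨h.mcl_inf_sup hS hR hRT, h.inf_sup_le R⟩))⟩)
  rw [this]
  exact norm_SPhi h.T_norm

end PK

variable [hp : Fact p.Prime]

theorem PU.pk_of_cent (h : PU p G S T M) (nc : ¬ G ≤ C(Z(S))) (hJ : S ≤ C(ZJ 0 S)) :
    PK p G S T M (nclIn Z(S) G) :=
  h.exists_pk nc fun e => h.not_norm (by
    have := h.norm_of_J_le nc e
    rwa [inf_eq_left.2 hJ] at this)

theorem PU.mcl (h : PU p G S T M) (hJ : S ≤ C(ZJ 0 S)) (hQ : MCL S Q) :
    G ≤ C(Z(S) ⊓ ⁅Q, Q⁆) ∨ G ≤ N(SMCL S) := by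
  haveI := h.finS
  by_cases nc : G ≤ C(Z(S))
  · exact .inl (nc.trans (centralizer_anti inf_le_left))
  have h' := h.pk_of_cent nc hJ
  have hS := cd_of_le_cent_ZJ hJ
  by_cases hT : ∀ Q, MCL S Q → Q ≤ T
  · exact .inr (h'.norm_SMCL' hS hT)
  push Not at hT
  obtain ⟨R, hR, hRT⟩ := hT
  rw [hQ.comm_eq hR]
  exact .inl ((h'.comm_mcl_central hS hR hRT).trans (centralizer_anti (inf_le_inf_right _ h'.Y_le)))

theorem PU.sphi (h : PU p G S T M) (hJ : S ≤ C(ZJ 0 S)) : G ≤ C(Z(S)) ∨ G ≤ N(SPhi p S) :=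
  haveI := h.finS
  or_iff_not_imp_left.2 fun nc => (h.pk_of_cent nc hJ).norm_SPhi' (cd_of_le_cent_ZJ hJ)

end Cfsg.Agent.Lib.PushBase
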