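import Cfsg.Agent.Lib.PushPK
import Cfsg.Agent.Lib.SL2Nat

/-! The rank one structure of groups with a quotient `PSL₂(q)`. -/

set_option autoImplicit false
open Cfsg

namespace Cfsg.Agent.Lib.PushBase

open Subgroup Cfsg.Agent.Lib.PCoreConj Cfsg.Agent.Lib.PCore Cfsg.Agent.Lib.PCoreResidual Cfsg.Agent.Lib.PCoreMod
open Cfsg.Agent.Lib.PReduced Cfsg.Agent.Lib.PIrred Cfsg.Agent.Lib.ThompsonJ
open scoped Pointwise commutatorElement MatrixGroups

variable {H : Type*} [Group H] {p : ℕ} [hp : Fact p.Prime] {H' : Type*} [Group H']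
variable {G S T M : Subgroup H}

omit hp in
theorem RO.mem_of_map (h : RO p G S T M) (f : H →* H') (hk : G ⊓ f.ker ≤ M) {g x : H} (hg : g ∈ G)
    (hx : x ∈ G) (e : f x ∈ (M ^ᶜ g).map f) : x ∈ M ^ᶜ g := by
  obtain ⟨m, hm, e⟩ := e
  have hmG := (h.conj_mem hg).M_le hm
  have : g⁻¹ * (m⁻¹ * x) * g ∈ M := hk (mem_inf.2 ⟨mul_mem (mul_mem (inv_mem hg)
    (mul_mem (inv_mem hmG) hx)) hg,
    by simp only [MonoidHom.mem_ker, map_mul, map_inv, e, inv_mul_cancel, mul_one]⟩)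
  simpa only [mul_inv_cancel_left] using mul_mem hm (mem_conj_iff.2 this)

theorem RO.map (h : RO p G S T M) (f : H →* H') (hk : G ⊓ f.ker ≤ M) :
    RO p (G.map f) (S.map f) (T.map f) (M.map f) := by
  haveI := h.fin
  have ti : ∀ g ∈ G.map f, g ∉ M.map f → S.map f ⊓ (M.map f) ^ᶜ g ≤ T.map f := by
    rintro _ ⟨g, hg, rfl⟩ hgM _ ⟨⟨s, hs, rfl⟩, e⟩
    rw [← map_conj] at e
    exact ⟨s, h.ti g hg (fun e => hgM ⟨g, e, rfl⟩) ⟨hs, h.mem_of_map f hk hg (h.S_le hs) e⟩, rfl⟩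
  have min := h.min.map_of_ker f hk
  have syl := h.syl.map f
  refine ⟨Finite.of_surjective _ (f.subgroupMap_surjective G), syl, le_antisymm ?_
    (h.core ▸ map_pCoreOf_le f G), min, ti, ?_, ?_, fun X h₁ h₂ h₃ => ?_⟩
  · obtain ⟨g, hg, hgM⟩ := SetLike.not_le_iff_exists.1 min.lt.not_ge
    exact (le_inf syl.pCoreOf_le ((syl.conj_of_mem hg).pCoreOf_le.trans
      (conj_mono g min.le))).trans (ti g hg hgM)
  · rw [← map_commutator]; exact map_mono h.comm
  · rintro _ ⟨s, hs, rfl⟩; exact ⟨s ^ p, h.pow s hs, map_pow f s p⟩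
  · have e : (S ⊓ X.comap f).map f = X := map_inf_comap f h₂
    refine (h.irr (S ⊓ X.comap f) (le_inf h.T_le (map_le_iff_le_comap.1 h₁)) inf_le_left
      (le_normalizer_inf inf_le_right fun x hx => ?_)).imp (fun k => by rw [← e, k])
        fun k => by rw [← e, k]
    exact Subgroup.le_normalizer_comap f (h₃ ⟨⟨x, hx.1, rfl⟩, Subgroup.le_normalizer_map f ⟨x, hx.2, rfl⟩⟩)

theorem RO.lift [Finite H] {B : Subgroup H'} (f : H →* H') (hf : Function.Surjective f)
    (hS : IsSylowIn p S ⊤) (hM : M < ⊤) (hu : ∀ K, S ≤ K → K < ⊤ → K ≤ M)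
    (hQ : RO p ⊤ (S.map f) ⊥ B) : RO p ⊤ S (pCore p H) M := by
  have hB : B.comap f < ⊤ := lt_top_iff_ne_top.2 fun e => hQ.min.lt.ne (by
    rw [← map_comap_eq_self_of_surjective hf B, e, ← MonoidHom.range_eq_map,
      MonoidHom.range_eq_top.2 hf])
  have hBM : B.comap f ≤ M := hu _ (map_le_iff_le_comap.1 hQ.S_le_M) hB
  have hk : f.ker ≤ M := (ker_le_comap f B).trans hBM
  have hSM : S ≤ M := (map_le_iff_le_comap.1 hQ.S_le_M).trans hBM
  have hMB : M.map f ≤ B := hQ.min.max _ (map_mono hSM) (lt_top_iff_ne_top.2 fun e => hM.ne (by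
    rw [← comap_map_eq_self hk, e, comap_top]))
  have htop : (⊤ : Subgroup H).map f = ⊤ := map_top_of_surjective f hf
  have min : MinOver S M ⊤ := ⟨by_contra fun e => hQ.min.lt.not_ge (by
    rw [← hQ.min.ncl, ← htop, ← map_nclIn]
    exact (map_mono (hu _ (le_nclIn _ _) (lt_top_iff_ne_top.2 e))).trans hMB), hSM, hM, hu⟩
  have hT : S ⊓ f.ker ≤ pCore p H := pCoreOf_top p H ▸ le_pCoreOf_of_isPClosed
    (min.isPClosed hS.isPGroup hk (normal_iff_top_le.1 inferInstance))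
    (SubnormalIn.of_normal le_top (normal_iff_top_le.1 inferInstance))
    (hS.isPGroup.to_le inf_le_left) inf_le_right
  refine ⟨inferInstance, hS, pCoreOf_top p H, min, fun g _ hgM s hs => hT ⟨hs.1, ?_⟩,
    le_trans (le_inf (commutator_le_left_of_le_normalizer le_normalizer) ?_) hT,
    fun s hs => hT ⟨pow_mem hs p, ?_⟩, fun X h₁ h₂ h₃ => ?_⟩
  · refine mem_bot.1 (hQ.ti (f g) trivial (fun e => hgM (hBM e)) ⟨⟨s, hs.1, rfl⟩, ?_⟩)
    exact conj_mono _ hMB (map_conj f M g ▸ mem_map_of_mem f hs.2)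
  · rw [← Subgroup.map_eq_bot_iff, map_commutator]; exact le_bot_iff.1 hQ.comm
  · have := hQ.pow _ (mem_map_of_mem f hs)
    rwa [← map_pow] at this
  · refine (hQ.irr (X.map f) bot_le (map_mono h₂) fun y hy => ?_).imp (fun e => le_antisymm
      ((le_inf h₂ ((Subgroup.map_eq_bot_iff X).1 e)).trans hT) h₁) fun e => le_antisymm h₂ fun s hs => ?_
    · obtain ⟨x, rfl⟩ := hf y
      have hn : x ∈ N(S ⊔ f.ker) := by
        rw [← comap_map_eq]
        exact Subgroup.le_normalizer_comap f hy.2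
      obtain ⟨n, hn', z, hz, rfl⟩ := (hS.of_le le_sup_left le_top).frattini hn
      rw [map_mul]
      refine mul_mem ?_ (Subgroup.le_normalizer_map f ⟨z, h₃ ⟨trivial, hz⟩, rfl⟩)
      rw [← comap_map_eq] at hn'
      refine le_normalizer_of_commutator_le ((commutator_mono (map_mono h₂) le_rfl).trans
        (hQ.comm.trans bot_le)) hn'
    · obtain ⟨x, hx, e⟩ : f s ∈ X.map f := e ▸ mem_map_of_mem f hs
      have : x⁻¹ * s ∈ X := h₁ (hT (mem_inf.2 ⟨mul_mem (inv_mem (h₂ hx)) hs, by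
        simp only [MonoidHom.mem_ker, map_mul, map_inv, e, inv_mul_cancel]⟩))
      simpa only [mul_inv_cancel_left] using mul_mem hx this

section SL2
open SL2Nat
variable {F : Type*} [Field F]

omit hp in
theorem eq_top_of_U_le {K : Subgroup SL(2, F)} (hK : U F ≤ K) {g : SL(2, F)} (hg : g ∈ K)
    (hB : g ∉ B F) : K = ⊤ := by
  rw [mem_B] at hB
  have hl : ∀ s, xl s ∈ K := fun s => by
    set w := xu (-(g.1 0 0 / g.1 1 0)) * g
    have hw : w ∈ K := mul_mem (hK (xu_mem _)) hg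
    have e : xl s = w * xu (-(s / g.1 1 0 ^ 2)) * w⁻¹ := by
      have hd := det_eq g
      refine sl_ext ?_ ?_ ?_ ?_ <;> simp only [w, mul_apply', inv_val, coe_xu, coe_xl] <;> simp <;>
        field_simp
      · linear_combination (-(g.1 1 0)) * hd
      · ring
      · ring
      · linear_combination (-(g.1 1 0)) * hd
    exact e ▸ mul_mem (mul_mem hw (hK (xu_mem _))) (inv_mem hw)
  refine eq_top_iff.2 fun x _ => ?_
  refine Matrix.SL2.transvection_induction (fun x => x ∈ K) (fun i j h c => ?_) (fun _ _ => mul_mem) x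
  fin_cases i
  · obtain rfl : j = 1 := by fin_cases j <;> tauto
    convert hK (xu_mem c) using 1
    refine sl_ext ?_ ?_ ?_ ?_ <;> simp [Matrix.SpecialLinearGroup.transvection_coe, Matrix.transvection]
  · obtain rfl : j = 0 := by fin_cases j <;> tauto
    convert hl c using 1
    refine sl_ext ?_ ?_ ?_ ?_ <;> simp [Matrix.SpecialLinearGroup.transvection_coe, Matrix.transvection]

theorem ro_SL2 [Finite F] [CharP F p] : RO p ⊤ (U F) ⊥ (B F) := by
  have hw : (wy : SL(2, F)) ∉ B F := by simp [mem_B]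
  refine ⟨inferInstance, U_isSylowIn p, (pCoreOf_top p _).trans (pCore_SL2 p), ⟨?_, U_le_B,
    B_isCoatom.lt_top, fun K hK hK' g hg => by_contra fun e => hK'.ne (eq_top_of_U_le hK hg e)⟩,
    fun g _ hg => ?_, ?_, ?_, fun X _ h₂ h₃ => ?_⟩
  · refine eq_top_of_U_le (le_nclIn _ _) (conj_le_nclIn _ (mem_top wy)
      (conj_mem_conj wy (xu_mem 1))) ?_
    rw [wy_xu]; simp [mem_B]
  · have := U_inf_conj (fun e => hg (inv_mem_iff.1 e))
    rw [← conj_eq_bot_iff (g := g), conj_inf, conj_inv_conj, inf_comm] at this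
    exact this.le
  · exact (commutator_eq_bot_iff_le_centralizer'.2 (abExp_zero_iff.2 U_comm).le_centralizer).le
  · rintro _ ⟨t, rfl⟩; exact xu_pow_char p t
  · refine or_iff_not_imp_left.2 fun hX => le_antisymm h₂ ?_
    obtain ⟨x, hx, hx1⟩ := (bot_or_exists_ne_one X).resolve_left hX
    obtain ⟨t, rfl⟩ := h₂ hx
    have ht : t ≠ 0 := fun e => hx1 (xu_eq_one_iff.2 e)
    have hsq : ∀ a : F, xu (a ^ 2 * t) ∈ X := fun a => by
      by_cases ha : a = 0
      · rw [ha, zero_pow two_ne_zero, zero_mul, xu_zero]; exact one_mem _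
      · rw [← dg_xu a ha]
        exact conj_mem_of_norm (h₃ ⟨trivial, normalizer_U.ge (dg_mem_B a ha)⟩) hx
    rintro _ ⟨s, rfl⟩
    by_cases h2 : (2 : F) = 0
    · have hc : ringChar F = 2 := by
        have := (CharP.charP_iff_prime_eq_zero (R := F) (p := 2) Nat.prime_two).2 h2
        exact ringChar.eq F 2
      obtain ⟨a, ha⟩ := FiniteField.isSquare_of_char_two hc (s / t)
      have : s = a ^ 2 * t := by rw [sq, ← ha]; field_simp
      exact this ▸ hsq a
    · have : s = ((s / t + 1) / 2) ^ 2 * t + -(((s / t - 1) / 2) ^ 2 * t) := by field_simp; ring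
      rw [this, xu_add, xu_neg]
      exact mul_mem (hsq _) (inv_mem (hsq _))

theorem ro_PSL2 [Finite F] [CharP F p] {P : Subgroup PSL(2, F)} (hP : IsSylowIn p P ⊤) :
    ∃ B, RO p ⊤ P ⊥ B := by
  have h := (ro_SL2 (p := p) (F := F)).map (QuotientGroup.mk' (center SL(2, F))) (by
    rw [QuotientGroup.ker_mk', ← normalizer_U]
    exact inf_le_right.trans (center_le_normalizer _))
  rw [map_top_of_surjective _ (QuotientGroup.mk'_surjective _), Subgroup.map_bot] at h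
  obtain ⟨g, hg, rfl⟩ := h.syl.exists_conj_eq hP
  exact ⟨_, h.conj_mem hg⟩

end SL2

omit hp in
theorem exists_of_existsUnique [Finite H] (h : ∃! M : Subgroup H, IsCoatom M ∧ S ≤ M) :
    ∃ M : Subgroup H, M < ⊤ ∧ ∀ K, S ≤ K → K < ⊤ → K ≤ M := by
  obtain ⟨M, hM, hu⟩ := h
  refine ⟨M, hM.1.lt_top, fun K h₁ h₂ => ?_⟩
  obtain ⟨N, hN, hKN⟩ := (eq_top_or_exists_le_coatom K).resolve_left h₂.ne
  exact hu N ⟨hN, h₁.trans hKN⟩ ▸ hKN

theorem pu_of_E [Finite H] (hS : IsSylowIn p S ⊤) (hE₁ : C(pCore p H) ≤ pCore p H)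
    (hE₂ : ∃! M : Subgroup H, IsCoatom M ∧ S ≤ M) (K : Subgroup H) [K.Normal] (F : Type*) [Field F]
    [Fintype F] {n : ℕ} (hF : Fintype.card F = p ^ n) (hE₃ : Nonempty (H ⧸ K ≃* PSL(2, F))) :
    ∃ M, PU p ⊤ S (pCore p H) M := by
  haveI : CharP F p := SL2Nat.charP_of_card p hF
  obtain ⟨e⟩ := hE₃
  obtain ⟨M, hM, hu⟩ := exists_of_existsUnique hE₂
  let f : H →* PSL(2, F) := e.toMonoidHom.comp (QuotientGroup.mk' K)
  have hf : Function.Surjective f := e.surjective.comp (QuotientGroup.mk'_surjective K)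
  have := hS.map f
  rw [map_top_of_surjective f hf] at this
  obtain ⟨B, hB⟩ := ro_PSL2 this
  exact ⟨M, RO.lift f hf hS hM hu hB, inf_le_right.trans hE₁⟩

theorem pu_of_situation [Finite H] (h : IsPushingUpSituation p S) :
    ∃ M, PU p ⊤ S (pCore p H) M := by
  obtain ⟨-, hS, h₁, h₂, K, _, F, _, _, n, hF, h₃⟩ := h
  exact pu_of_E (isSylowIn_top_iff.2 hS) h₁ h₂ K F hF h₃

omit hp in
theorem map_centralizer_inf {f : H →* H'} (hf : Function.Injective f) (A B : Subgroup H) :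
    (A ⊓ C(B)).map f = A.map f ⊓ C(B.map f) := by
  ext x
  constructor
  · rintro ⟨a, ha, rfl⟩
    refine ⟨⟨a, ha.1, rfl⟩, ?_⟩
    rintro _ ⟨b, hb, rfl⟩
    rw [← map_mul, ← map_mul, ha.2 b hb]
  · rintro ⟨⟨a, ha, rfl⟩, h⟩
    exact ⟨a, ⟨ha, fun b hb => hf (by rw [map_mul, map_mul, h _ ⟨b, hb, rfl⟩])⟩, rfl⟩

theorem PU.map (h : PU p G S T M) {f : H →* H'} (hf : Function.Injective f) :
    PU p (G.map f) (S.map f) (T.map f) (M.map f) where
  toRO := h.toRO.map f ((inf_ker_of_injective hf G).le.trans bot_le)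
  char := by rw [← map_centralizer_inf hf]; exact map_mono h.char

end Cfsg.Agent.Lib.PushBase
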