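import Cfsg.Agent.Lib.BlkSym
import Cfsg.Agent.Lib.PushE
import Cfsg.Agent.Lib.PushCL

/-! A normal form for Baumann blocks and their first properties. -/

set_option autoImplicit false
open Cfsg

namespace Cfsg.Agent.Lib.Blk

open Subgroup Cfsg.Agent.Lib.PCoreConj Cfsg.Agent.Lib.PCore Cfsg.Agent.Lib.PCoreResidual Cfsg.Agent.Lib.PCoreMod
open Cfsg.Agent.Lib.ThompsonJ Cfsg.Agent.Lib.PushBase
open scoped Pointwise commutatorElement MatrixGroups

variable {G : Type*} [Group G] {p : ℕ} {T E U U₀ X Y : Subgroup G} {g : G}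

section Conv
variable {M : Type*} [AddCommGroup M] {H : Type*} [Group H] {f : H →* AutM M} {R : Subgroup H}

theorem ActS.exists_hom (a : ActS (R.map f) E U U₀) (hf : Function.Injective f) :
    ∃ ρ : E →* H, ρ.range = R ∧ (∀ e, f (ρ e) = a.θ e) ∧ ρ.ker = (rel U₀ U).subgroupOf E := by
  choose ρ h₁ h₂ using fun e : E => a.θ_mem' e.2
  let ρ' : E →* H := MonoidHom.mk' ρ fun x y => hf (by
    rw [map_mul, h₂, h₂, h₂, ← a.θ_mul (a.norm x.2) (a.norm y.2), coe_mul])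
  refine ⟨ρ', le_antisymm ?_ fun r hr => ?_, h₂, Subgroup.ext fun x => ?_⟩
  · rintro _ ⟨e, rfl⟩
    exact h₁ e
  · obtain ⟨e, he, h⟩ := a.exists_θ (mem_map_of_mem f hr)
    exact ⟨⟨e, he⟩, hf ((h₂ _).trans h)⟩
  · rw [MonoidHom.mem_ker, mem_subgroupOf, ← a.θ_eq_one_iff' (a.norm x.2), ← h₂, ← map_one f, hf.eq_iff]
    rfl

theorem ActS.iso (a : ActS (R.map f) E U U₀) (hf : Function.Injective f) (h : E ⊓ rel U₀ U = pCoreOf p E) :
    Nonempty (E ⧸ pCore p E ≃* R) := by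
  obtain ⟨ρ, h₁, -, h₂⟩ := a.exists_hom hf
  have : pCore p E = ρ.ker := by rw [h₂, ← pCoreOf_subgroupOf, ← h, inf_subgroupOf_left]
  exact ⟨((QuotientGroup.quotientMulEquivOfEq this).trans (QuotientGroup.quotientKerEquivRange ρ)).trans
    (MulEquiv.subgroupCongr h₁)⟩

theorem card_eq_quot (p : ℕ) (E : Subgroup G) : Nat.card E = Nat.card (E ⧸ pCore p E) * Nat.card (pCoreOf p E) := by
  rw [card_eq_card_quotient_mul_card_subgroup (pCore p E), ← pCoreOf_def, card_map_of_injective E.subtype_injective]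

theorem ActS.faith [Finite E] {R : Subgroup (AutM M)} (a : ActS R E U U₀) (hc : Nat.card (E ⧸ pCore p E) = Nat.card R)
    (h : pCoreOf p E ≤ rel U₀ U) : E ⊓ rel U₀ U = pCoreOf p E := by
  haveI : Finite ↥(E ⊓ rel U₀ U) := finite_of_le (inf_le_left : _ ≤ E)
  refine (eq_of_le_of_card_le (le_inf (pCoreOf_le p E) h) (le_of_eq ?_)).symm
  have := a.card_eq
  rw [card_eq_quot p, hc] at this
  exact (Nat.eq_of_mul_eq_mul_left (hc ▸ Nat.card_pos) this).symm

theorem nonempty_actS_of {M' : Type*} [AddCommGroup M'] (j : M →+ M') (hj : Function.Injective j) (hn : E ≤ N(U))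
    (hl : U₀ ≤ U) (ρ : E →* H) (ψ : U →* Multiplicative M') (hρ : ρ.range = R)
    (h₁ : ∀ u, ∃ m, j m = (ψ u).toAdd) (h₂ : ∀ m, ∃ u, (ψ u).toAdd = j m) (h₃ : ∀ u : U, ψ u = 1 ↔ (u : G) ∈ U₀)
    (h₄ : ∀ (e : E) (u : U) m, j m = (ψ u).toAdd → ∃ w : U, (w : G) = e * u * (e : G)⁻¹ ∧ (ψ w).toAdd = j (f (ρ e) m)) :
    Nonempty (ActS (R.map f) E U U₀) := by
  classical
  choose φ hφ using h₁
  let s : Sect M U U₀ :=
    { ψ := fun g => if h : g ∈ U then φ ⟨g, h⟩ else 0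
      le := hl
      add := fun u hu v hv => hj (by
        rw [dif_pos hu, dif_pos hv, dif_pos (mul_mem hu hv), map_add, hφ, hφ, hφ, ← toAdd_mul, ← map_mul]
        rfl)
      onto := fun m => by
        obtain ⟨u, h⟩ := h₂ m
        exact ⟨u, u.2, hj (by rw [dif_pos u.2, hφ, h])⟩
      ker := fun u hu => by
        rw [dif_pos hu, ← hj.eq_iff, hφ, map_zero, toAdd_eq_zero, h₃] }
  have key : ∀ e (he : e ∈ E), ∀ u ∈ U, s.ψ (e * u * e⁻¹) = f (ρ ⟨e, he⟩) (s.ψ u) := fun e he u hu => by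
    obtain ⟨w, hw, h⟩ := h₄ ⟨e, he⟩ ⟨u, hu⟩ _ (hφ _)
    have hw' : e * u * e⁻¹ ∈ U := conj_mem_of_norm (hn he) hu
    change (if h : _ then _ else _) = f _ (if h : _ then _ else _)
    rw [dif_pos hu, dif_pos hw']
    exact hj (by rw [hφ, ← h, show w = ⟨_, hw'⟩ from Subtype.ext hw])
  obtain ⟨a, -⟩ := nonempty_actS (R := R.map f) s hn
    (fun e he => ⟨_, mem_map_of_mem f (hρ.le ⟨_, rfl⟩), key e he⟩) (by
      rintro _ ⟨r, hr, rfl⟩
      obtain ⟨e, rfl⟩ := hρ.ge hr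
      exact ⟨e, e.2, key e e.2⟩)
  exact ⟨a⟩

theorem actS_lin_iff {F : Type*} [Field F] {R : Subgroup SL(2, F)} :
    ActsAsSL2OnSection F R E U U₀ ↔ Nonempty (ActS (R.map toA) E U U₀) := by
  refine ⟨fun ⟨hn, hl, ρ, ψ, hρ, h₂, h₃, h₄⟩ => nonempty_actS_of (AddMonoidHom.id _) Function.injective_id hn hl ρ ψ hρ
    (fun u => ⟨_, rfl⟩) (fun m => h₂ (Multiplicative.ofAdd m)) h₃ fun e u m hm => ?_, fun ⟨a⟩ => ?_⟩
  · obtain ⟨w, hw, h⟩ := h₄ e u
    exact ⟨w, hw, by rw [h, ← hm]; rfl⟩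
  · obtain ⟨ρ, h₁, h₂, -⟩ := a.exists_hom toA_injective
    refine ⟨a.norm.trans inf_le_left, a.le, ρ, a.hom, h₁, fun m => ?_, fun u => a.ker u u.2, fun e u =>
      ⟨⟨_, conj_mem_of_norm (a.norm e.2).1 u.2⟩, rfl, ?_⟩⟩
    · obtain ⟨u, hu, h⟩ := a.onto m.toAdd
      exact ⟨⟨u, hu⟩, congrArg Multiplicative.ofAdd h⟩
    · rw [← toA_apply, h₂]
      exact (a.θ_ψ (a.norm e.2) u.2).symm

theorem actS_sym_iff {n : ℕ} (ho : Odd n) {R : Subgroup (Equiv.Perm (Fin n))} :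
    ActsAsOddPermModuleOnSection n R E U U₀ ↔ Nonempty (ActS (R.map toP) E U U₀) := by
  refine ⟨fun ⟨hn, hl, ρ, ψ, hρ, h₁, h₂, h₃, h₄⟩ => nonempty_actS_of (Ev (Fin n)).subtype.toAddMonoidHom
    Subtype.val_injective hn hl ρ ψ hρ (fun u => ⟨⟨_, h₁ u⟩, rfl⟩) (fun m => h₂ m.1 m.2) h₃ fun e u m hm => ?_,
    fun ⟨a⟩ => ?_⟩
  · obtain ⟨w, hw, h⟩ := h₄ e u
    exact ⟨w, hw, funext fun i => by rw [h, ← hm]; rfl⟩
  · obtain ⟨ρ, h₁, h₂, -⟩ := a.exists_hom (toP_injective (by rwa [Fintype.card_fin]))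
    refine ⟨a.norm.trans inf_le_left, a.le, ρ, (AddMonoidHom.toMultiplicative
      (Ev (Fin n)).subtype.toAddMonoidHom).comp a.hom, h₁, fun u => (a.ψ u).2, fun v hv => ?_, fun u => ?_, fun e u =>
      ⟨⟨_, conj_mem_of_norm (a.norm e.2).1 u.2⟩, rfl, fun i => ?_⟩⟩
    · obtain ⟨u, hu, h⟩ := a.onto ⟨v, hv⟩
      exact ⟨⟨u, hu⟩, congrArg Subtype.val h⟩
    · rw [← a.ker u u.2]
      exact ⟨fun h => Subtype.ext (congrArg Multiplicative.toAdd h), fun h =>
        congrArg (fun v : Ev (Fin n) => Multiplicative.ofAdd v.1) h⟩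
    · change (a.ψ _).1 i = (toP (ρ e) (a.ψ u)).1 i
      rw [h₂, a.θ_ψ (a.norm e.2) u.2]

end Conv

/-- `Ω₁ Z O_p(E)`. -/
def W0 (p : ℕ) (E : Subgroup G) : Subgroup G := omegaOneCenter p (pCoreOf p E)

/-- The `E`-fixed points in `W0`. -/
def ZE (p : ℕ) (E : Subgroup G) : Subgroup G := W0 p E ⊓ C(E)

/-- The module `[W0, E]` of a block. -/
def WE (p : ℕ) (E : Subgroup G) : Subgroup G := ⁅W0 p E, E⁆

/-- The `E`-fixed points in `WE`. -/
def ZW (p : ℕ) (E : Subgroup G) : Subgroup G := WE p E ⊓ C(E)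

theorem W0_le (p : ℕ) (E : Subgroup G) : W0 p E ≤ pCoreOf p E := omegaOneCenter_le p _

theorem W0_le_E (p : ℕ) (E : Subgroup G) : W0 p E ≤ E := (W0_le p E).trans (pCoreOf_le p E)

theorem W0_elem (p : ℕ) (E : Subgroup G) : IsElementaryAbelian p (W0 p E) := isElementaryAbelian_omegaOneCenter p _

theorem core_le_cent (p : ℕ) (E : Subgroup G) : pCoreOf p E ≤ C(W0 p E) := le_centralizer_omegaOneCenter p _

theorem norm_W0 (p : ℕ) (E : Subgroup G) : (N(E) : Subgroup G) ≤ N(W0 p E) :=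
  le_normalizer_omegaOneCenter (normalizer_le_normalizer_pCoreOf p E)

theorem norm_ZE (p : ℕ) (E : Subgroup G) : (N(E) : Subgroup G) ≤ N(ZE p E) :=
  le_normalizer_inf (norm_W0 p E) (normalizer_le_normalizer_centralizer E)

theorem norm_WE (p : ℕ) (E : Subgroup G) : (N(E) : Subgroup G) ≤ N(WE p E) :=
  le_normalizer_commutator (norm_W0 p E) le_rfl

theorem norm_ZW (p : ℕ) (E : Subgroup G) : (N(E) : Subgroup G) ≤ N(ZW p E) :=
  le_normalizer_inf (norm_WE p E) (normalizer_le_normalizer_centralizer E)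

theorem norm_NN (p : ℕ) (E : Subgroup G) : (N(E) : Subgroup G) ≤ NN (WE p E) (ZW p E) :=
  le_inf (norm_WE p E) (norm_ZW p E)

theorem norm_NN' (p : ℕ) (E : Subgroup G) : (N(E) : Subgroup G) ≤ NN (pCoreOf p E) (W0 p E) :=
  le_inf (normalizer_le_normalizer_pCoreOf p E) (norm_W0 p E)

theorem WE_le (p : ℕ) (E : Subgroup G) : WE p E ≤ W0 p E :=
  commutator_le_left_of_le_normalizer (le_normalizer.trans (norm_W0 p E))

theorem WE_le_core (p : ℕ) (E : Subgroup G) : WE p E ≤ pCoreOf p E := (WE_le p E).trans (W0_le p E)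

theorem WE_le_E (p : ℕ) (E : Subgroup G) : WE p E ≤ E := (WE_le p E).trans (W0_le_E p E)

theorem WE_elem (p : ℕ) (E : Subgroup G) : IsElementaryAbelian p (WE p E) :=
  isElementaryAbelian_of_le (W0_elem p E) (WE_le p E)

theorem WE_pgroup (p : ℕ) (E : Subgroup G) : IsPGroup p (WE p E) := isPGroup_of_isElementaryAbelian (WE_elem p E)

theorem core_le_cent' (p : ℕ) (E : Subgroup G) : pCoreOf p E ≤ C(WE p E) :=
  (core_le_cent p E).trans (centralizer_anti (WE_le p E))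

theorem ZE_le (p : ℕ) (E : Subgroup G) : ZE p E ≤ W0 p E := inf_le_left

theorem ZE_cent (p : ℕ) (E : Subgroup G) : ZE p E ≤ C(E) := inf_le_right

theorem ZW_le (p : ℕ) (E : Subgroup G) : ZW p E ≤ WE p E := inf_le_left

theorem ZW_cent (p : ℕ) (E : Subgroup G) : ZW p E ≤ C(E) := inf_le_right

theorem ZW_eq (p : ℕ) (E : Subgroup G) : WE p E ⊓ ZE p E = ZW p E := by
  rw [ZE, ← inf_assoc, inf_eq_left.2 (WE_le p E), ZW]

section Map
variable {G' : Type*} [Group G'] {f : G →* G'} (hf : Function.Injective f)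
include hf

theorem map_omegaOneCenter (X : Subgroup G) : (omegaOneCenter p X).map f = omegaOneCenter p (X.map f) := by
  rw [omegaOneCenter, map_omegaOne_of_injective hf, map_centralizer_inf hf, omegaOneCenter]

theorem map_W0 (E : Subgroup G) : (W0 p E).map f = W0 p (E.map f) := by
  rw [W0, map_omegaOneCenter hf, map_pCoreOf_of_injective hf, W0]

theorem map_ZE (E : Subgroup G) : (ZE p E).map f = ZE p (E.map f) := by
  rw [ZE, map_centralizer_inf hf, map_W0 hf, ZE]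

theorem map_WE (E : Subgroup G) : (WE p E).map f = WE p (E.map f) := by
  rw [WE, map_commutator, map_W0 hf, WE]

theorem map_ZW (E : Subgroup G) : (ZW p E).map f = ZW p (E.map f) := by
  rw [ZW, map_centralizer_inf hf, map_WE hf, ZW]

theorem map_mem_cent {x : G} : f x ∈ (C(X.map f) : Subgroup G') ↔ x ∈ (C(X) : Subgroup G) := by
  rw [← mem_map_iff_mem hf (K := C(X)), ← top_inf_eq (C(X) : Subgroup G), map_centralizer_inf hf, mem_inf,
    and_iff_right (mem_map_of_mem f (mem_top x))]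

theorem map_mem_norm {x : G} : f x ∈ (N(X.map f) : Subgroup G') ↔ x ∈ (N(X) : Subgroup G) := by
  rw [mem_normalizer_iff_conj_eq, mem_normalizer_iff_conj_eq, ← map_conj, (map_injective hf).eq_iff]

theorem map_mem_rel {x : G} : f x ∈ rel (X.map f) (Y.map f) ↔ x ∈ rel X Y := by
  rw [mem_rel, mem_rel, map_mem_norm hf]
  refine and_congr_right fun _ => ⟨fun h a ha => ?_, ?_⟩
  · rw [← mem_map_iff_mem hf, map_commutatorElement]
    exact h _ (mem_map_of_mem f ha)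
  · rintro h _ ⟨a, ha, rfl⟩
    rw [← map_commutatorElement]
    exact mem_map_of_mem f (h a ha)

end Map

theorem conj_W0 (p : ℕ) (E : Subgroup G) (g : G) : (W0 p E) ^ᶜ g = W0 p (E ^ᶜ g) := map_W0 (MulAut.conj g).injective E

theorem conj_ZE (p : ℕ) (E : Subgroup G) (g : G) : (ZE p E) ^ᶜ g = ZE p (E ^ᶜ g) := map_ZE (MulAut.conj g).injective E

theorem conj_WE (p : ℕ) (E : Subgroup G) (g : G) : (WE p E) ^ᶜ g = WE p (E ^ᶜ g) := map_WE (MulAut.conj g).injective E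

theorem conj_ZW (p : ℕ) (E : Subgroup G) (g : G) : (ZW p E) ^ᶜ g = ZW p (E ^ᶜ g) := map_ZW (MulAut.conj g).injective E

/-- The exceptional structure. -/
structure ExcB (p : ℕ) (T E : Subgroup G) (F : Type) [Field F] : Prop where
  three : p = 3
  act : Nonempty (ActS (RL F) E (pCoreOf p E) (W0 p E))
  comm : ⁅pCoreOf p E, pCoreOf p E⁆ = ZE p E
  phi : Phi (pCoreOf p E) = ZE p E
  cent : Z(E) = ZE p E
  card : Nat.card (ZE p E) = Nat.card F
  nq : ∀ b ∈ Bm p T, b ∉ C(W0 p E) → ¬ ⁅⁅pCoreOf p E, zpowers b⁆, zpowers b⁆ ≤ ZE p E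

/-- Normal form of a Baumann block. -/
structure Blk (p : ℕ) (T E : Subgroup G) : Prop where
  res : pResidualOf p E = E
  comm : ⁅E, Bm p T⁆ = E
  cq : ⁅pCoreOf p E, E⁆ = pCoreOf p E
  nz : ⁅E, omegaOneCenter p T⁆ ≠ ⊥
  faith : E ⊓ rel (ZE p E) (W0 p E) = pCoreOf p E
  cases : (∃ (F : Type) (_ : Field F) (_ : Finite F) (_ : CharP F p), Nonempty (ActS (RL F) E (W0 p E) (ZE p E)) ∧
      (pCoreOf p E = W0 p E ∨ ExcB p T E F)) ∨
    (p = 2 ∧ ∃ m, 1 ≤ m ∧ Nonempty (ActS (RS (Fin (2 * m + 1))) E (W0 p E) (ZE p E)) ∧ pCoreOf p E = W0 p E)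

theorem le_rel_of_cent (h : X ≤ C(U)) (h₀ : U₀ ≤ U) : X ≤ rel U₀ U := le_rel_iff.2
  ⟨le_normalizer_of_le_centralizer (h.trans (centralizer_anti h₀)),
    (commutator_eq_bot_iff_le_centralizer'.2 h).le.trans bot_le⟩

theorem odd_fin (m : ℕ) : Odd (Fintype.card (Fin (2 * m + 1))) := by
  rw [Fintype.card_fin]
  exact odd_two_mul_add_one m

theorem three_le_fin {m : ℕ} (h : 1 ≤ m) : 3 ≤ Fintype.card (Fin (2 * m + 1)) := by
  rw [Fintype.card_fin]
  omega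

variable [hp : Fact p.Prime]

theorem blk_iff [Finite G] : IsBaumannBlock p T E ↔ Blk p T E := by
  have hr := le_rel_of_cent (core_le_cent p E) (ZE_le p E)
  rw [IsBaumannBlock, baumann_eq]
  refine ⟨fun ⟨h₁, h₂, h₃, h₄, h₅⟩ => ?_, fun h => ⟨h.res, h.comm, h.cq, h.nz, ?_⟩⟩
  · rcases h₅ with ⟨F, _, _, n, hF, ⟨e⟩, ha, h₆⟩ | ⟨h2, m, ⟨e⟩, ha, h₆⟩
    · obtain ⟨a⟩ := actS_lin_iff.1 ha
      refine ⟨h₁, h₂, h₃, h₄, a.faith (by rw [Nat.card_congr e.toEquiv, card_map_of_injective toA_injective]) hr,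
        Or.inl ⟨F, inferInstance, inferInstance, SL2Nat.charP_of_card p hF, ⟨a⟩,
          h₆.imp_right fun ⟨k₁, k₂, k₃, k₄, k₅, k₆, k₇⟩ => ⟨k₁, actS_lin_iff.1 k₂, k₃, k₄, k₅, ?_, fun b hb hb' => ?_⟩⟩⟩
      · subst k₁
        rw [Nat.card_eq_fintype_card (α := F), hF, ← k₆, k₅]
        rfl
      · have := k₇ b hb hb'
        rwa [k₅] at this
    · obtain ⟨a⟩ := (actS_sym_iff (odd_two_mul_add_one m)).1 ha
      refine ⟨h₁, h₂, h₃, h₄, a.faith (by
        rw [Nat.card_congr e.toEquiv, card_map_of_injective (toP_injective (odd_fin m))]) hr,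
        Or.inr ⟨h2, m, Nat.one_le_iff_ne_zero.2 ?_, ⟨a⟩, h₆⟩⟩
      rintro rfl
      haveI : Subsingleton (Fin (2 * 0 + 1)) := Fin.subsingleton_one
      have hc := card_eq_quot p E
      rw [Nat.card_congr e.toEquiv, Nat.card_unique (α := alternatingGroup (Fin (2 * 0 + 1))), one_mul] at hc
      have := pResidualOf_eq_bot_iff.2 (pCoreOf_eq_self_iff.1 (eq_of_le_of_card_le (pCoreOf_le p E) hc.le))
      rw [h₁] at this
      exact h₄ (by rw [this, commutator_bot_left])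
  · rcases h.cases with ⟨F, _, _, _, ⟨a⟩, h₆⟩ | ⟨h2, m, -, ⟨a⟩, h₆⟩
    · haveI := Fintype.ofFinite F
      obtain ⟨n, -, hn⟩ := FiniteField.card F p
      refine Or.inl ⟨F, inferInstance, inferInstance, n, hn, a.iso toA_injective h.faith, actS_lin_iff.2 ⟨a⟩,
        h₆.imp_right fun k => ⟨k.three, actS_lin_iff.2 k.act, k.comm, k.phi, k.cent, ?_, fun b hb hb' => ?_⟩⟩
      · rw [k.cent, k.card, Nat.card_eq_fintype_card, hn, k.three]
      · rw [k.cent]
        exact k.nq b hb hb'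
    · exact Or.inr ⟨h2, m, a.iso (toP_injective (odd_fin m)) h.faith, (actS_sym_iff (odd_two_mul_add_one m)).2 ⟨a⟩, h₆⟩

section Map
variable {G' : Type*} [Group G'] {f : G →* G'} (hf : Function.Injective f)
include hf
omit hp

theorem nonempty_map_iff {M : Type*} [AddCommGroup M] {R : Subgroup (AutM M)} :
    Nonempty (ActS R (E.map f) (U.map f) (U₀.map f)) ↔ Nonempty (ActS R E U U₀) :=
  ⟨fun ⟨a⟩ => a.of_map hf, fun ⟨a⟩ => a.map hf⟩

theorem excB_map_iff {F : Type} [Field F] : ExcB p (T.map f) (E.map f) F ↔ ExcB p T E F := by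
  have e := (map_injective hf).eq_iff (a := ⁅pCoreOf p E, pCoreOf p E⁆) (b := ZE p E)
  have e₂ := (map_injective hf).eq_iff (a := Phi (pCoreOf p E)) (b := ZE p E)
  have e₃ := (map_injective hf).eq_iff (a := Z(E)) (b := ZE p E)
  have e₄ : Nat.card (ZE p (E.map f)) = Nat.card (ZE p E) := by rw [← map_ZE hf, card_map_of_injective hf]
  have e₅ := nonempty_map_iff (R := RL F) (E := E) (U := pCoreOf p E) (U₀ := W0 p E) hf
  have e₆ : ∀ b, (f b ∉ (C(W0 p (E.map f)) : Subgroup G') → ¬ ⁅⁅pCoreOf p (E.map f), zpowers (f b)⁆, zpowers (f b)⁆ ≤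
      ZE p (E.map f)) ↔ (b ∉ (C(W0 p E) : Subgroup G) → ¬ ⁅⁅pCoreOf p E, zpowers b⁆, zpowers b⁆ ≤ ZE p E) := fun b => by
    rw [← map_W0 hf, map_mem_cent hf, ← map_pCoreOf_of_injective hf, ← map_ZE hf, ← MonoidHom.map_zpowers,
      ← map_commutator, ← map_commutator, map_le_map_iff_of_injective hf]
  rw [map_commutator, map_pCoreOf_of_injective hf, map_ZE hf] at e
  rw [map_Phi hf, map_pCoreOf_of_injective hf, map_ZE hf] at e₂
  rw [map_centralizer_inf hf, map_ZE hf] at e₃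
  rw [map_pCoreOf_of_injective hf, map_W0 hf] at e₅
  refine ⟨fun h => ⟨h.three, e₅.1 h.act, e.1 h.comm, e₂.1 h.phi, e₃.1 h.cent, e₄ ▸ h.card, fun b hb =>
    (e₆ b).1 (h.nq _ (map_Bm hf T ▸ mem_map_of_mem f hb))⟩,
    fun h => ⟨h.three, e₅.2 h.act, e.2 h.comm, e₂.2 h.phi, e₃.2 h.cent, e₄ ▸ h.card, fun b hb => ?_⟩⟩
  rw [← map_Bm hf] at hb
  obtain ⟨b, hb, rfl⟩ := hb
  exact (e₆ b).2 (h.nq b hb)

theorem blk_map_iff : Blk p (T.map f) (E.map f) ↔ Blk p T E := by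
  have e₁ := (map_injective hf).eq_iff (a := pResidualOf p E) (b := E)
  have e₂ := (map_injective hf).eq_iff (a := ⁅E, Bm p T⁆) (b := E)
  have e₃ := (map_injective hf).eq_iff (a := ⁅pCoreOf p E, E⁆) (b := pCoreOf p E)
  have e₄ := (map_injective hf).ne_iff (x := ⁅E, omegaOneCenter p T⁆) (y := ⊥)
  have e₅ := (map_injective hf).eq_iff (a := E ⊓ rel (ZE p E) (W0 p E)) (b := pCoreOf p E)
  have e₆ := (map_injective hf).eq_iff (a := pCoreOf p E) (b := W0 p E)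
  have e₇ : ∀ {M : Type} [AddCommGroup M] (R : Subgroup (AutM M)),
      Nonempty (ActS R (E.map f) (W0 p (E.map f)) (ZE p (E.map f))) ↔ Nonempty (ActS R E (W0 p E) (ZE p E)) :=
    fun R => by rw [← map_W0 hf, ← map_ZE hf, nonempty_map_iff hf]
  have e₈ : (E ⊓ rel (ZE p E) (W0 p E)).map f = E.map f ⊓ rel (ZE p (E.map f)) (W0 p (E.map f)) := by
    rw [← map_W0 hf, ← map_ZE hf]
    refine le_antisymm ?_ ?_
    · rintro _ ⟨x, hx, rfl⟩
      exact ⟨mem_map_of_mem f hx.1, (map_mem_rel hf).2 hx.2⟩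
    · rintro _ ⟨⟨x, hx, rfl⟩, h⟩
      exact mem_map_of_mem f ⟨hx, (map_mem_rel hf).1 h⟩
  rw [map_pResidualOf_of_injective hf] at e₁
  rw [map_commutator, map_Bm hf] at e₂
  rw [map_commutator, map_pCoreOf_of_injective hf] at e₃
  rw [map_commutator, map_omegaOneCenter hf, Subgroup.map_bot] at e₄
  rw [e₈, map_pCoreOf_of_injective hf] at e₅
  rw [map_W0 hf, map_pCoreOf_of_injective hf] at e₆
  refine ⟨fun h => ⟨e₁.1 h.res, e₂.1 h.comm, e₃.1 h.cq, e₄.1 h.nz, e₅.1 h.faith, ?_⟩,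
    fun h => ⟨e₁.2 h.res, e₂.2 h.comm, e₃.2 h.cq, e₄.2 h.nz, e₅.2 h.faith, ?_⟩⟩
  · simpa only [e₆, e₇, excB_map_iff hf] using h.cases
  · simpa only [e₆, e₇, excB_map_iff hf] using h.cases

end Map

omit hp in
theorem Blk.conj (h : Blk p T E) (g : G) : Blk p (T ^ᶜ g) (E ^ᶜ g) := (blk_map_iff (MulAut.conj g).injective).2 h

omit hp in
theorem Blk.of_eq {T' : Subgroup G} (h : Blk p T E) (e : Bm p T' = Bm p T) (hz : ⁅E, omegaOneCenter p T'⁆ ≠ ⊥) :
    Blk p T' E :=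
  ⟨h.res, e ▸ h.comm, h.cq, hz, h.faith, h.cases.imp_left fun ⟨F, _, _, _, a, k⟩ => ⟨F, _, ‹_›, ‹_›, a,
    k.imp_right fun k => ⟨k.three, k.act, k.comm, k.phi, k.cent, k.card, e ▸ k.nq⟩⟩⟩

namespace Blk
variable [Finite G] (h : Blk p T E)
include h

omit hp [Finite G] in
theorem ne_bot : E ≠ ⊥ := fun e => h.nz (by rw [e, commutator_bot_left])

theorem not_pgroup : ¬ IsPGroup p E := fun e => h.ne_bot (h.res.symm.trans (pResidualOf_eq_bot_iff.2 e))

theorem not_le_core : ¬ E ≤ pCoreOf p E := fun e => h.not_pgroup ((pCoreOf_isPGroup p E).to_le e)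

omit hp [Finite G] in
theorem B_norm : Bm p T ≤ N(E) := le_normalizer_of_comm_eq h.comm

omit hp [Finite G] in
theorem le_of_coprime (hX : ∀ x ∈ E, (orderOf x).Coprime p → x ∈ X) : E ≤ X := h.res.ge.trans (pResidualOf_le_iff.2 hX)

omit [Finite G] in
theorem model₀ : ∃ (M : Type) (_ : AddCommGroup M) (R : Subgroup (AutM M)), Model p R ∧
    Nonempty (ActS R E (W0 p E) (ZE p E)) := by
  rcases h.cases with ⟨F, _, _, _, a, -⟩ | ⟨rfl, m, hm, a, -⟩
  · exact ⟨_, _, _, model_lin, a⟩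
  · exact ⟨_, _, _, model_sym (odd_fin m) (three_le_fin hm), a⟩

theorem irr₀ (hY : Y ≤ W0 p E) (hn : E ≤ N(Y)) : Y ≤ ZE p E ∨ W0 p E ≤ Y ⊔ ZE p E := by
  obtain ⟨M, _, R, m, ⟨a⟩⟩ := h.model₀
  exact (m.irr _ fun r hr => a.im_img hn r (a.eq.ge hr)).imp (a.img_eq_bot_iff hY).1 a.le_sup_of_img_eq_top

theorem not_le_ZE : ¬ WE p E ≤ ZE p E := fun e =>
  h.not_le_core ((le_inf le_rfl (le_rel_iff.2 ⟨le_normalizer.trans (norm_ZE p E), e⟩)).trans h.faith.le)

theorem not_le_cent : ¬ WE p E ≤ C(E) := fun e => h.not_le_ZE (le_inf (WE_le p E) e)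

theorem not_cent : ¬ E ≤ C(WE p E) := fun e => h.not_le_cent (le_centralizer_iff.1 e)

theorem WE_ne_bot : WE p E ≠ ⊥ := fun e => h.not_le_cent (e ▸ bot_le)

theorem W0_le_sup : W0 p E ≤ WE p E ⊔ ZE p E :=
  (h.irr₀ (WE_le p E) (le_normalizer.trans (norm_WE p E))).resolve_left h.not_le_ZE

theorem comm_comm {P : Subgroup G} (hP : IsPGroup p P) (hn : E ≤ N(P)) : ⁅⁅P, E⁆, E⁆ = ⁅P, E⁆ := by
  have := commutator_commutator_pResidualOf (K := E) hP (h.res.symm ▸ hn)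
  rwa [h.res] at this

theorem comm_WE : ⁅WE p E, E⁆ = WE p E :=
  h.comm_comm (isPGroup_of_isElementaryAbelian (W0_elem p E)) (le_normalizer.trans (norm_W0 p E))

theorem irr (hY : Y ≤ W0 p E) (hn : E ≤ N(Y)) : Y ≤ C(E) ∨ WE p E ≤ Y :=
  (h.irr₀ hY hn).imp (fun e => e.trans (ZE_cent p E)) fun e => by
    rw [WE, commutator_comm]
    refine (commutator_mono le_rfl e).trans (commutator_sup_le le_normalizer (le_normalizer_of_le_centralizer
      ((ZE_le p E).trans ((le_centralizer_of_isElementaryAbelian (W0_elem p E)).trans (centralizer_anti hY))))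
      (commutator_le_right_of_le_normalizer hn) ?_)
    rw [commutator_eq_bot_iff_le_centralizer'.2 (ZE_cent p E)]
    exact bot_le

theorem rel_of_cent (hg : g ∈ N(E)) (hc : g ∈ C(WE p E)) : g ∈ rel (ZE p E) (W0 p E) := by
  refine mem_rel.2 ⟨norm_ZE p E hg, fun w hw => ?_⟩
  obtain ⟨a, ha, z, hz, rfl⟩ := (mem_sup_iff_of_le_normalizer ((WE_le_E p E).trans
    (le_normalizer.trans (norm_ZE p E)))).1 (h.W0_le_sup hw)
  rw [comm_mul_left, comm_eq_one_of_cent hc ha, mul_one]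
  exact conj_mem_of_norm (norm_ZE p E (le_normalizer (WE_le_E p E ha))) (comm_mem_of_norm (norm_ZE p E hg) hz)

theorem faith' : E ⊓ C(WE p E) ≤ pCoreOf p E := fun _ hg =>
  h.faith.le ⟨hg.1, h.rel_of_cent (le_normalizer hg.1) hg.2⟩

theorem cent_of_comm (hX : X ≤ N(E)) (hc : ⁅WE p E, X⁆ ≤ C(E)) : X ≤ C(WE p E) := by
  have h₁ : ⁅X, E⁆ ≤ C(WE p E) := by
    refine le_trans (fun x hx => h.faith.le ⟨commutator_le_right_of_le_normalizer hX hx, ?_⟩) (core_le_cent' p E)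
    have k : X ≤ rel (ZE p E) (W0 p E) := le_rel_iff.2 ⟨hX.trans (norm_ZE p E), by
      rw [commutator_comm]
      refine (commutator_mono le_rfl h.W0_le_sup).trans (commutator_sup_le ((WE_le_E p E).trans
        (le_normalizer.trans (norm_ZE p E))) le_normalizer ?_
        (commutator_le_right_of_le_normalizer (hX.trans (norm_ZE p E))))
      rw [commutator_comm]
      exact le_inf ((commutator_le_left_of_le_normalizer (hX.trans (norm_WE p E))).trans (WE_le p E)) hc⟩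
    exact (commutator_mono k le_rfl).trans (commutator_le_left_of_le_normalizer (le_norm_rel
      (le_normalizer.trans (norm_ZE p E)) (le_normalizer.trans (norm_W0 p E)))) hx
  rw [← commutator_eq_bot_iff_le_centralizer', ← h.comm_WE, commutator_comm (WE p E) E]
  exact commutator_commutator_eq_bot_of_rotate (commutator_eq_bot_iff_le_centralizer.2 hc)
    (commutator_eq_bot_iff_le_centralizer.2 h₁)

theorem θ_eq_one {M : Type*} [AddCommGroup M] (a : Sect M (WE p E) (ZW p E)) (hg : g ∈ N(E)) :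
    a.θ g = 1 ↔ g ∈ C(WE p E) :=
  ⟨fun e => h.cent_of_comm (zpowers_le_of_mem hg) ((comm_le_of_le_rel (zpowers_le_of_mem
    ((a.θ_eq_one_iff' (norm_NN p E hg)).1 e))).trans (ZW_cent p E)) (mem_zpowers g), a.θ_of_cent⟩

theorem inf_rel (hX : X ≤ N(E)) : X ⊓ rel (ZW p E) (WE p E) = X ⊓ C(WE p E) :=
  le_antisymm (le_inf inf_le_left (h.cent_of_comm (inf_le_left.trans hX)
    ((comm_le_of_le_rel inf_le_right).trans (ZW_cent p E)))) (inf_le_inf_left _ (le_rel_of_cent le_rfl (ZW_le p E)))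

theorem restrict {M : Type*} [AddCommGroup M] {R : Subgroup (AutM M)} (a : ActS R E (W0 p E) (ZE p E)) :
    Nonempty (ActS R E (WE p E) (ZW p E)) := by
  obtain ⟨b, -⟩ := a.restrict' (WE_le p E) h.W0_le_sup (le_normalizer.trans (norm_WE p E))
  exact ⟨ZW_eq p E ▸ b⟩

omit hp [Finite G] in
theorem core_eq (e : pCoreOf p E = W0 p E) : pCoreOf p E = WE p E := by rw [WE, ← e, h.cq]

theorem cases' : (∃ (F : Type) (_ : Field F) (_ : Finite F) (_ : CharP F p),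
      Nonempty (ActS (RL F) E (WE p E) (ZW p E)) ∧ (pCoreOf p E = WE p E ∨ ExcB p T E F)) ∨
    (p = 2 ∧ ∃ m, 1 ≤ m ∧ Nonempty (ActS (RS (Fin (2 * m + 1))) E (WE p E) (ZW p E)) ∧ pCoreOf p E = WE p E ∧
      ZW p E = ⊥) := by
  rcases h.cases with ⟨F, _, _, _, ⟨a⟩, k⟩ | ⟨rfl, m, hm, ⟨a⟩, k⟩
  · exact Or.inl ⟨F, _, ‹_›, ‹_›, h.restrict a, k.imp_left h.core_eq⟩
  · obtain ⟨b⟩ := h.restrict a
    exact Or.inr ⟨rfl, m, hm, ⟨b⟩, h.core_eq k, eq_bot_sym (odd_fin m) (three_le_fin hm) b (WE_elem 2 E) (ZW_cent 2 E)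
      ((h.inf_rel le_normalizer).le.trans inf_le_right) h.comm_WE.ge⟩

theorem model : ∃ (M : Type) (_ : AddCommGroup M) (R : Subgroup (AutM M)), Model p R ∧
    Nonempty (ActS R E (WE p E) (ZW p E)) := by
  obtain ⟨M, _, R, m, ⟨a⟩⟩ := h.model₀
  exact ⟨M, _, R, m, h.restrict a⟩

theorem norm_of_inv (hT : IsSylowIn p T ⊤) {P : Subgroup G} (hP : IsPGroup p P) (h₁ : Bm p T ≤ N(P)) (h₂ : E ≤ N(P)) :
    P ≤ N(E) := le_normalizer_of_inv hT h.res h.comm hP h₁ h₂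

theorem Q_norm (hT : IsSylowIn p T ⊤) : pCore p G ≤ N(E) :=
  h.norm_of_inv hT (pCore_isPGroup p G) (le_top.trans (normal_iff_top_le.1 inferInstance))
    (le_top.trans (normal_iff_top_le.1 inferInstance))

theorem cent_of_pgroup {P : Subgroup G} (hP : IsPGroup p P) (h₁ : P ≤ N(E)) (h₂ : E ≤ N(P)) : P ≤ C(WE p E) :=
  h.cent_of_comm h₁ ((h.irr ((commutator_le_left_of_le_normalizer (h₁.trans (norm_WE p E))).trans (WE_le p E))
    (le_normalizer_commutator (le_normalizer.trans (norm_WE p E)) h₂)).resolve_right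
      (commutator_lt hP (WE_pgroup p E) (h₁.trans (norm_WE p E)) h.WE_ne_bot).not_ge)

variable (hT : IsSylowIn p T ⊤) (hG : C(pCore p G) ≤ pCore p G)
include hT

theorem Q_cent : pCore p G ≤ C(WE p E) :=
  h.cent_of_pgroup (pCore_isPGroup p G) (h.Q_norm hT) (le_top.trans (normal_iff_top_le.1 inferInstance))

include hG

theorem WE_le_V : WE p E ≤ omegaOneCenter p (pCore p G) :=
  le_omegaOneCenter (WE_elem p E) ((le_centralizer_iff.1 (h.Q_cent hT)).trans hG) (le_centralizer_iff.1 (h.Q_cent hT))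

theorem WE_le_Q : WE p E ≤ pCore p G := (h.WE_le_V hT hG).trans (omegaOneCenter_le p _)

theorem not_B_cent : ¬ Bm p T ≤ C(WE p E) := fun e => h.not_cent (h.comm.ge.trans ((commutator_mono le_rfl e).trans
  (commutator_le_right_of_le_normalizer (le_normalizer_centralizer (le_normalizer.trans (norm_WE p E))))))

theorem not_J_cent : ¬ J p T ≤ C(WE p E) := fun e => h.not_B_cent hT hG ((Bm_le_cent p T).trans
  (centralizer_anti fun w hw => mem_ZJ_iff.2 ⟨hT.pCore_le (h.WE_le_Q hT hG hw), le_centralizer_iff.1 e hw,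
    (WE_elem p E).2 w hw⟩))

end Blk

end Cfsg.Agent.Lib.Blk
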