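import Cfsg.Agent.Lib.BlkOff

/-! Exceptional blocks; `p'`-elements centralizing the module of a block. -/

set_option autoImplicit false
open Cfsg

namespace Cfsg.Agent.Lib.Blk

open Subgroup Cfsg.Agent.Lib.PCoreConj Cfsg.Agent.Lib.PCore Cfsg.Agent.Lib.PCoreResidual Cfsg.Agent.Lib.PCoreMod
open Cfsg.Agent.Lib.ThompsonJ Cfsg.Agent.Lib.PushBase
open scoped Pointwise commutatorElement MatrixGroups

section Alg
variable {F : Type*} [Field F] {p : ℕ} [hp : Fact p.Prime] [CharP F p]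

variable (F) in
/-- Scalar automorphisms. -/
def Scal : Subgroup (AutM (Fin 2 → F)) where
  carrier := {r | IsScal r}
  one_mem' := ⟨1, fun m => (one_smul F m).symm⟩
  mul_mem' := by
    rintro r s ⟨a, ha⟩ ⟨b, hb⟩
    exact ⟨a * b, fun m => by rw [aut_mul, hb, ha, mul_smul]⟩
  inv_mem' := by
    rintro r ⟨a, ha⟩
    have h : a ≠ 0 := fun e => e0_ne (F := F) (r.map_eq_zero_iff.1 (by rw [ha, e, zero_smul]))
    exact ⟨a⁻¹, fun m => r.injective (by rw [aut_apply_inv, ha, smul_smul, mul_inv_cancel₀ h, one_smul])⟩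

omit hp [CharP F p] in
theorem scal_comm {r s : AutM (Fin 2 → F)} (hr : r ∈ Scal F) (hs : s ∈ LinA F) : s * r = r * s := by
  obtain ⟨a, ha⟩ := hr
  exact aut_ext fun m => by rw [aut_mul, aut_mul, ha, ha, hs]

theorem scal_eq_one {r : AutM (Fin 2 → F)} (hr : r ∈ Scal F) {k : ℕ} (hk : r ^ p ^ k = 1) : r = 1 := by
  obtain ⟨a, ha⟩ := hr
  have e : ∀ n m, (r ^ n) m = a ^ n • m := fun n m => by
    induction n with
    | zero => rw [pow_zero, pow_zero, aut_one, one_smul]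
    | succ n ih => rw [pow_succ', aut_mul, ih, ha, smul_smul, pow_succ']
  have h₁ : a ^ p ^ k = 1 := smul_cancel e0_ne (by rw [← e, hk, aut_one, one_smul])
  have h₂ : (a - 1) ^ p ^ k = 0 := by rw [sub_pow_char_pow, h₁, one_pow, sub_self]
  rw [pow_eq_zero_iff (pow_ne_zero k hp.out.ne_zero), sub_eq_zero] at h₂
  exact aut_ext fun m => by rw [ha, h₂, one_smul, aut_one]

theorem two_ne (h2 : p ≠ 2) : (2 : F) ≠ 0 := fun e => h2 ((Nat.prime_dvd_prime_iff_eq hp.out Nat.prime_two).1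
  ((CharP.cast_eq_zero_iff F p 2).1 (by exact_mod_cast e)))

theorem eq_zero_of_neg (h2 : p ≠ 2) {a : F} (h : a = -a) : a = 0 :=
  (mul_eq_zero.1 (show 2 * a = 0 by linear_combination h)).resolve_left (two_ne h2)

theorem negA_ne_one (h2 : p ≠ 2) : negA (Fin 2 → F) ≠ 1 := fun e => by
  have := congrArg (fun r : AutM (Fin 2 → F) => r ![1, 0] 0) e
  simp only [negA_apply, aut_one, Pi.neg_apply, Matrix.cons_val_zero] at this
  exact one_ne_zero (eq_zero_of_neg h2 this.symm)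

theorem eq_negA (h2 : p ≠ 2) {r : AutM (Fin 2 → F)} (hr : r ∈ PL F) (h : r ^ 2 = 1) (h1 : r ≠ 1) : r = negA _ := by
  obtain ⟨g, rfl⟩ := hr
  rw [← map_pow, ← map_one toA, toA_injective.eq_iff, pow_two] at h
  have d := SL2Nat.det_eq g
  have e := fun i j => SL2Nat.mul_apply' g g i j
  simp only [h, SL2Nat.one_val] at e
  have e₀ := e 0 0
  have e₁ := e 0 1
  have e₂ := e 1 0
  simp at e₀ e₁ e₂
  have t : g.1 0 0 + g.1 1 1 ≠ 0 := fun t => two_ne h2 (show (2 : F) = 0 by linear_combination e₀ - d + g.1 0 0 * t)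
  have b : g.1 0 1 = 0 := (mul_eq_zero.1 (show g.1 0 1 * (g.1 0 0 + g.1 1 1) = 0 by linear_combination -e₁)).resolve_right t
  have c : g.1 1 0 = 0 := (mul_eq_zero.1 (show g.1 1 0 * (g.1 0 0 + g.1 1 1) = 0 by linear_combination -e₂)).resolve_right t
  rw [b] at d e₀
  rw [← toA_neg_one]
  rcases mul_self_eq_one_iff.1 (show g.1 0 0 * g.1 0 0 = 1 by linear_combination -e₀) with a | a <;> rw [a] at d
  · exact absurd (by rw [← map_one toA]; exact congrArg toA (SL2Nat.sl_ext a b c (by simpa using d))) h1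
  · refine congrArg toA (SL2Nat.sl_ext (by simpa using a) (by simpa using b) (by simpa using c) ?_)
    simp
    linear_combination -d

variable [Finite F]

theorem card_ne_two (h2 : p ≠ 2) : Nat.card F ≠ 2 := fun e => h2 (eq_of_card Nat.prime_two e)

omit hp [CharP F p] [Finite F] in
theorem exists_nonscal : ∃ r ∈ RL F, r ∉ Scal F := by
  obtain ⟨r, hr, e⟩ := RL_trans (F := F) e0_ne e1_ne
  refine ⟨r, hr, fun ⟨c, hc⟩ => ?_⟩
  rw [hc] at e
  simpa using congrFun e 1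

theorem eq_bot_of_scal (h2 : p ≠ 2) {K : Subgroup (AutM (Fin 2 → F))} (hK : K ≤ PL F) (hn : RL F ≤ N(K))
    (h : K ⊓ Scal F = ⊥) : K = ⊥ := by
  have k : negA _ ∉ K := fun e => negA_ne_one h2 (mem_bot.1 (h.le ⟨e, -1, fun m => by simp⟩))
  have h₁ : K ⊓ RL F = ⊥ := by
    rcases (model_lin (F := F) (p := p)).cases with c | c
    · rcases c.quasi _ inf_le_right (le_normalizer_inf hn le_normalizer) with e | e
      · exact absurd (e (neg_mem_RL h2)).1 k
      · exact eq_bot_iff.2 fun r hr => h.le ⟨hr.1, scal_of_comm (card_ne_two h2) fun s hs =>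
          commutatorElement_eq_one_iff_mul_comm.1 (mem_bot.1 (e.le (commutator_mem_commutator hr hs)))⟩
    · refine eq_bot_iff.2 fun r hr => ?_
      rcases (c.mem r).1 hr.2 with ⟨e, -⟩ | ⟨-, e | e | e⟩
      exacts [absurd e h2, e, absurd (e ▸ hr.1) k, absurd (e ▸ pow_mem hr.1 2) k]
  exact eq_bot_iff.2 fun r hr => h.le ⟨hr, scal_of_comm (card_ne_two h2) fun s hs =>
    commutatorElement_eq_one_iff_mul_comm.1 (mem_bot.1 (h₁.le ⟨comm_mem_of_norm (hn hs) hr,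
      comm_mem_swap (comm_mem_of_norm (PL_le_norm (hK hr)) hs)⟩))⟩

theorem comm_RL_ne (h2 : p ≠ 2) : ⁅RL F, RL F⁆ ≠ ⊥ := fun e => by
  obtain ⟨r, hr, h⟩ := exists_nonscal (F := F)
  exact h (scal_of_comm (card_ne_two h2) fun s hs =>
    commutatorElement_eq_one_iff_mul_comm.1 (mem_bot.1 (e.le (commutator_mem_commutator hr hs))))

omit hp [CharP F p] in
theorem form_eq {A : Type*} [AddCommGroup A] (h2 : Nat.card F ≠ 2) (β : (Fin 2 → F) →+ (Fin 2 → F) →+ A)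
    (alt : ∀ m, β m m = 0) (inv : ∀ r ∈ RL F, ∀ m n, β (r m) (r n) = β m n) (ht : ∀ a : A, a + a = 0 → a = 0)
    (m n : Fin 2 → F) : β m n = β (det2 m n • ![1, 0]) ![0, 1] := by
  have sk : ∀ u v, β u v = -β v u := fun u v => by
    have := alt (u + v)
    simp only [map_add, AddMonoidHom.add_apply, alt, zero_add, add_zero] at this
    rw [eq_neg_iff_add_eq_zero, add_comm, this]
  have k : (∀ (v : Fin 2 → F) (a b : F), β (a • v) (b • v) = 0) ∧
      ∀ a b : F, β (a • ![1, 0]) (b • ![0, 1]) = β ((a * b) • ![1, 0]) ![0, 1] := by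
    rcases card_cases (F := F) with e | e | e
    · exact absurd e h2
    · refine ⟨fun v a b => ?_, fun a b => ?_⟩
      · obtain ⟨i, rfl⟩ := cast_surj Nat.prime_three e a
        obtain ⟨j, rfl⟩ := cast_surj Nat.prime_three e b
        simp only [Nat.cast_smul_eq_nsmul, map_nsmul, AddMonoidHom.nsmul_apply, alt, nsmul_zero]
      · obtain ⟨j, rfl⟩ := cast_surj Nat.prime_three e b
        rw [mul_comm, mul_smul]
        simp only [Nat.cast_smul_eq_nsmul, map_nsmul, AddMonoidHom.nsmul_apply]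
    · rw [RL_eq_PL e] at inv
      have t : ∀ (v w : Fin 2 → F), det2 v w = 1 → ∀ s a b : F,
          β (a • w) ((s * b) • v) + β ((s * a) • v) (b • w) + β ((s * a) • v) ((s * b) • v) = 0 := fun v w h s a b => by
        have := inv _ (UL_le_PL v (tv_mem v s)) (a • w) (b • w)
        simp only [toA_tv, det2_smul, h, mul_one, map_add, AddMonoidHom.add_apply] at this
        rw [← add_left_cancel_iff (a := β (a • w) (b • w)), add_zero]
        conv_rhs => rw [← this]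
        abel
      have t₁ : ∀ (v : Fin 2 → F) (a b : F), β (a • v) (b • v) = 0 := fun v a b => by
        by_cases hv : v = 0
        · simp [hv]
        obtain ⟨w, hw⟩ := exists_det2 hv
        have u₁ := t v w hw 1 a b
        have u₂ := t v w hw (-1) a b
        simp only [one_mul, neg_mul, neg_smul, map_neg, AddMonoidHom.neg_apply, neg_neg] at u₁ u₂
        refine ht _ ?_
        rw [← add_zero (0 : A)]
        conv_rhs => lhs; rw [← u₁]
        conv_rhs => rhs; rw [← u₂]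
        abel
      refine ⟨t₁, fun a b => ?_⟩
      have := t ![1, 0] ![0, 1] (by simp [det2]) a 1 b
      rwa [t₁, add_zero, one_smul, mul_one, sk, neg_add_eq_zero, eq_comm] at this
  conv_lhs => rw [basis_eq m, basis_eq n]
  simp only [map_add, AddMonoidHom.add_apply, k.1, zero_add, add_zero]
  rw [sk (m 1 • _), k.2, k.2, det2, sub_smul, map_sub, AddMonoidHom.sub_apply, mul_comm (n 0)]
  abel

end Alg

universe u
variable {G : Type u} [Group G] {p : ℕ} {T E U U₀ X Y S A : Subgroup G} {g x : G}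

theorem cent_of_coprime_of_comm [Fact p.Prime] {P : Subgroup G} (hP : IsPGroup p P) (hx : (orderOf x).Coprime p)
    (h₁ : ⁅x, g⁆ ∈ P) (h₂ : x ∈ C(P)) : ⁅x, g⁆ = 1 := by
  have := commutatorElement_pow_left (x := g) (mem_centralizer_iff.1 h₂ _ h₁).symm (orderOf x)
  rw [pow_orderOf_eq_one, commutatorElement_one_left] at this
  obtain ⟨k, hk⟩ := isPGroup_iff_forall_mem.1 hP _ h₁
  exact eq_one_of_coprime_of_pow_eq_one (hx.coprime_dvd_left (orderOf_dvd_of_pow_eq_one this.symm)) hk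

theorem eq_one_of_sq [hp : Fact p.Prime] (h2 : p ≠ 2) (h₁ : x ^ p = 1) (h₂ : x ^ 2 = 1) : x = 1 :=
  eq_one_of_coprime_of_pow_eq_one (k := 1) (((Nat.coprime_primes Nat.prime_two hp.out).2 h2.symm).coprime_dvd_left
    (orderOf_dvd_of_pow_eq_one h₂)) (by rwa [pow_one])

variable [hp : Fact p.Prime] [Finite G]

namespace Blk
variable (h : Blk p T E) {M : Type*} [AddCommGroup M] {R : Subgroup (AutM M)}
include h

theorem inverts (a : Sect M (WE p E) (ZW p E)) {t : G} (ht : t ∈ E) (e : a.θ t = negA M) {w : G} (hw : w ∈ WE p E) :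
    t * w * t⁻¹ = w⁻¹ := by
  have ab : ∀ a ∈ WE p E, ∀ b ∈ WE p E, a * b = b * a := isMulCommutative_iff_forall.1 (WE_elem p E).1
  have n : ∀ {x}, x ∈ E → x ∈ NN (WE p E) (ZW p E) := fun hx => norm_NN p E (le_normalizer hx)
  let K : Subgroup G :=
    { carrier := {w | w ∈ WE p E ∧ t * w * t⁻¹ = w⁻¹}
      one_mem' := ⟨one_mem _, by group⟩
      mul_mem' := fun {a b} ha hb => ⟨mul_mem ha.1 hb.1, by
        rw [mul_inv_rev, ← ab _ (inv_mem ha.1) _ (inv_mem hb.1), ← ha.2, ← hb.2]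
        group⟩
      inv_mem' := fun {a} ha => ⟨inv_mem ha.1, by
        conv_rhs => rw [← ha.2]
        group⟩ }
  refine (h.comm_WE.ge.trans (commutator_le (H₃ := K).2 fun w hw x hx =>
    ⟨comm_mem_of_norm (n hx).1 hw, ?_⟩) hw).2
  have hz : t * w * t⁻¹ * w ∈ ZW p E := by
    rw [← a.ker _ (mul_mem (conj_mem_of_norm (n ht).1 hw) hw), a.add _ (conj_mem_of_norm (n ht).1 hw) _ hw,
      ← a.θ_ψ (n ht) hw, e, negA_apply, neg_add_cancel]
  have hc : t⁻¹ * (x⁻¹ * t * x) ∈ C(WE p E) := by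
    have m := mul_mem (mul_mem (inv_mem hx) ht) hx
    rw [← h.θ_eq_one a (le_normalizer (mul_mem (inv_mem ht) m)), a.θ_mul (n (inv_mem ht)) (n m),
      a.θ_mul (n (mul_mem (inv_mem hx) ht)) (n hx), a.θ_mul (n (inv_mem hx)) (n ht), a.θ_inv (n ht), a.θ_inv (n hx), e,
      negA_comm, mul_assoc, inv_mul_cancel, mul_one, inv_mul_cancel]
  have e₁ := conj_eq_of_cent hc (inv_mem hw)
  have e₂ := conj_eq_of_cent' (ZW_cent p E (inv_mem hz)) hx
  have e₃ := ab _ (inv_mem hw) _ (conj_mem_of_norm (n hx).1 hw)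
  have e₄ := ab _ hz.1 _ (mul_mem (inv_mem hw) (conj_mem_of_norm (n hx).1 hw))
  generalize hz' : t * w * t⁻¹ * w = z at e₂ e₄
  have e₅ : t * w * t⁻¹ = z * w⁻¹ := by rw [← hz']; group
  calc t * ⁅w, x⁆ * t⁻¹ = (t * w * t⁻¹) * (x * (t * (t⁻¹ * (x⁻¹ * t * x) * w⁻¹ * (t⁻¹ * (x⁻¹ * t * x))⁻¹) * t⁻¹) * x⁻¹) := by
        rw [commutatorElement_def]; group
    _ = (t * w * t⁻¹) * (x * (t * w * t⁻¹)⁻¹ * x⁻¹) := by rw [e₁]; group
    _ = z * (w⁻¹ * (x * w * x⁻¹)) * (x * z⁻¹ * x⁻¹) := by rw [e₅]; group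
    _ = _ := by rw [e₂, e₄, e₃, commutatorElement_def]; group

variable {F : Type} [Field F] [Finite F] [CharP F p] (a : ActS (RL F) E (WE p E) (ZW p E))
include a

theorem exists_inv (h2 : p ≠ 2) : ∃ t ∈ E, t ^ 2 = 1 ∧ a.θ t = negA _ := by
  obtain ⟨e, he, h₁⟩ := a.exists_θ (neg_mem_RL h2)
  have e₂ : negA (Fin 2 → F) ^ 2 = 1 := aut_ext fun m => by simp [pow_two, aut_mul]
  obtain ⟨t, ht, ⟨k, hk⟩, h₂⟩ := exists_preimage_pElement (p := 2) (a.θh.comp (inclusion a.norm)) (x := ⟨e, he⟩) (j := 1)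
    (isOfFinOrder_of_finite _) (by rw [MonoidHom.comp_apply, a.θh_eq]; exact h₁ ▸ e₂)
  rw [MonoidHom.comp_apply, MonoidHom.comp_apply, a.θh_eq, a.θh_eq] at h₂
  have h₃ : a.θ t = negA _ := h₂.trans h₁
  refine ⟨t, t.2, ?_, h₃⟩
  obtain ⟨j, hj⟩ := isPGroup_iff_forall_mem.1 (pCoreOf_isPGroup p E) _ (h.faith' ⟨pow_mem t.2 2,
    (h.θ_eq_one a.toSect (le_normalizer (pow_mem t.2 2))).1 (by rw [a.θ_pow (a.norm t.2), h₃, e₂])⟩)
  refine eq_one_of_coprime_of_pow_eq_one (Nat.Coprime.coprime_dvd_left (orderOf_pow_dvd 2) ?_) hj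
  rw [orderOf_coe, hk]
  exact ((Nat.coprime_primes Nat.prime_two hp.out).2 h2.symm).pow_left k

theorem ZW_eq_bot (h2 : p ≠ 2) : ZW p E = ⊥ := eq_bot_iff.2 fun z hz => by
  obtain ⟨t, ht, -, e⟩ := h.exists_inv a h2
  have := h.inverts a.toSect ht e hz.1
  rw [conj_eq_of_cent' hz.2 ht] at this
  exact eq_one_of_sq h2 ((WE_elem p E).2 z hz.1) (by rw [pow_two]; exact mul_eq_one_iff_eq_inv.2 this)

end Blk

/-- The data of an exceptional block. -/
structure XB (p : ℕ) (T E : Subgroup G) (F : Type) [Field F] where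
  blk : Blk p T E
  exc : ExcB p T E F
  /-- the action on `W` -/
  a : ActS (RL F) E (WE p E) (ZW p E)
  /-- the action on `U / W₀` -/
  s : ActS (RL F) E (pCoreOf p E) (W0 p E)

namespace XB
variable {F : Type} [Field F] [Finite F] [CharP F p] (d : XB p T E F)
include d

omit hp [Finite G] [Finite F] [CharP F p] in
theorem ne_two : p ≠ 2 := by rw [d.exc.three]; decide

theorem ZW_eq : ZW p E = ⊥ := d.blk.ZW_eq_bot d.a d.ne_two

theorem WE_inf : WE p E ⊓ ZE p E = ⊥ := (Blk.ZW_eq p E).trans d.ZW_eq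

omit [CharP F p] in
theorem ZE_ne_bot : ZE p E ≠ ⊥ := fun e => by
  have := d.exc.card
  rw [e, card_bot] at this
  exact (Finite.one_lt_card (α := F)).ne this

omit [CharP F p] in
theorem faith : E ⊓ rel (W0 p E) (pCoreOf p E) = pCoreOf p E := by
  refine d.s.faith ?_ fun u hu => (d.s.θ_eq_one_iff' (d.s.U_le_NN hu)).1 (d.s.θ_of_mem hu)
  have := d.a.card_eq
  rw [d.blk.inf_rel le_normalizer, le_antisymm d.blk.faith' (le_inf (pCoreOf_le p E) (core_le_cent' p E)),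
    card_eq_quot p] at this
  exact Nat.eq_of_mul_eq_mul_right Nat.card_pos this

omit [Finite F] [CharP F p] [Finite G] hp in
theorem irr (hY : Y ≤ pCoreOf p E) (hn : E ≤ N(Y)) : Y ≤ W0 p E ∨ pCoreOf p E ≤ Y ⊔ W0 p E :=
  (RL_irr _ fun r hr => d.s.im_img hn r (d.s.eq.ge hr)).imp (d.s.img_eq_bot_iff hY).1 d.s.le_sup_of_img_eq_top

omit [Finite F] [CharP F p] [Finite G] hp in
theorem cent_Z (hc : ⁅pCoreOf p E, X⁆ ≤ W0 p E) : X ≤ C(ZE p E) := by
  have := hc.trans (le_centralizer_iff.1 (core_le_cent p E))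
  rw [← commutator_eq_bot_iff_le_centralizer', ← d.exc.comm]
  refine commutator_commutator_eq_bot_of_rotate (commutator_eq_bot_iff_le_centralizer.2 this) ?_
  rw [commutator_comm X]
  exact commutator_eq_bot_iff_le_centralizer.2 this

omit [Finite F] [CharP F p] in
theorem cent_W0 (hc : ⁅pCoreOf p E, X⁆ ≤ W0 p E) (hX : X ≤ C(WE p E)) : X ≤ C(W0 p E) := by
  refine le_trans ?_ (centralizer_anti d.blk.W0_le_sup)
  rw [centralizer_sup]
  exact le_inf hX (d.cent_Z hc)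

omit [Finite F] [CharP F p] [Finite G] hp in
theorem norm_Z : (N(pCoreOf p E) : Subgroup G) ≤ N(ZE p E) := d.exc.comm ▸ le_normalizer_commutator le_rfl le_rfl

omit d [Finite F] [CharP F p] [Finite G] hp in
theorem norm_U : (N(pCoreOf p E) : Subgroup G) ≤ NN (pCoreOf p E) (W0 p E) :=
  le_inf le_rfl (normalizer_le_normalizer_omegaOneCenter p _)

theorem scal_of_cent (hx : x ∈ N(E)) (hc : x ∈ C(WE p E)) : d.s.θ x ∈ Scal F :=
  scal_of_comm (card_ne_two d.ne_two) fun r hr => by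
    obtain ⟨e, he, rfl⟩ := d.s.exists_θ hr
    rw [← commutatorElement_eq_one_iff_mul_comm, ← d.s.θ_comm (norm_NN' p E hx) (d.s.norm he)]
    exact d.s.θ_of_mem (d.blk.faith' ⟨comm_mem_swap (comm_mem_of_norm hx he),
      comm_mem_of_norm (le_normalizer_centralizer (le_normalizer.trans (norm_WE p E)) he) hc⟩)

variable (hT : IsSylowIn p T ⊤) (hG : C(pCore p G) ≤ pCore p G)
include hT hG

theorem B_UL {b : G} (hb : b ∈ Bm p T) : ∃ u, d.s.θ b ∈ UL u := by
  have hn := d.blk.B_norm hb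
  have hl : d.s.θ b ∈ LinA F := by
    rcases card_cases (F := F) with e | e | e
    · exact mem_LinA_of_prime Nat.prime_two e _
    · exact mem_LinA_of_prime Nat.prime_three e _
    obtain ⟨x, hx, h⟩ := d.a.exists_θ ((RL_eq_PL e).ge (d.blk.lin_B_le d.a hT.isPGroup
      ((d.blk.WE_le_Q hT hG).trans hT.pCore_le) d.blk.B_norm (d.a.θ_mem hb)))
    have n := mul_mem (inv_mem (le_normalizer hx)) hn
    obtain ⟨c, hc⟩ := d.scal_of_cent n ((d.blk.inf_rel le_rfl).le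
      ⟨n, (d.a.θ_eq_iff (d.a.norm hx) (norm_NN p E hn)).1 h⟩).2
    rw [← mul_inv_cancel_left x b, d.s.θ_mul (d.s.norm hx) (norm_NN' p E n)]
    exact mul_mem (PL_le_LinA (RL_le_PL (d.s.θ_mem' hx))) fun k m => by rw [hc, hc, smul_comm]
  obtain ⟨k, hk⟩ := isPGroup_iff_forall_mem.1 (d.s.im_isPGroup (hT.isPGroup.to_le (Bm_le p T))) _ (d.s.θ_mem hb)
  obtain ⟨v, -, hv, hf⟩ := exists_fixed (isPGroup_zpowers hk) ⊤ (fun _ _ _ _ => trivial)
    (fun m _ => vec_tors m) (fun e => e0_ne (F := F) (AddSubgroup.mem_bot.1 (e ▸ AddSubgroup.mem_top _)))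
  exact ⟨v, mem_UL_of hv hl (hf _ (mem_zpowers _)) hk⟩

theorem B_PL : d.s.im (Bm p T) ≤ PL F := d.s.im_le_iff.2 fun _ hb =>
  let ⟨u, h⟩ := d.B_UL hT hG hb
  UL_le_PL u h

/-- An element of `B` commuting with a non-trivial scalar acts quadratically. -/
theorem quad {b : G} (hb : b ∈ Bm p T) (hx : x ∈ N(pCoreOf p E)) (hc : x ∈ C(WE p E)) (hs : d.s.θ x ∈ Scal F)
    (h1 : d.s.θ x ≠ 1) (hbx : b * x = x * b) : ⁅⁅pCoreOf p E, zpowers b⁆, zpowers b⁆ ≤ ZE p E := by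
  obtain ⟨M, _, ⟨r⟩⟩ := exists_sect ((ZE_le p E).trans (W0_le p E)) d.exc.comm.le
  have hn := d.blk.B_norm hb
  have hbU := normalizer_le_normalizer_pCoreOf p E hn
  have nb : b ∈ NN (pCoreOf p E) (ZE p E) := ⟨hbU, norm_ZE p E hn⟩
  have nx : x ∈ NN (pCoreOf p E) (ZE p E) := ⟨hx, d.norm_Z hx⟩
  have q₁ : ∀ w ∈ W0 p E, ⁅⁅w, b⁆, b⁆ ∈ ZE p E := fun w hw => by
    obtain ⟨v, -, -, e₂, e₃⟩ := d.blk.lin_B d.a hT.isPGroup ((d.blk.WE_le_Q hT hG).trans hT.pCore_le) d.blk.B_norm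
      (d.blk.not_J_cent hT hG)
    obtain ⟨y, hy, z, hz, rfl⟩ := (mem_sup_iff_of_le_normalizer ((WE_le_E p E).trans
      (le_normalizer.trans (norm_ZE p E)))).1 (d.blk.W0_le_sup hw)
    have k₁ := comm_mem_of_norm (norm_ZE p E hn) hz
    have k₂ := comm_mem_of_norm (norm_WE p E hn) hy
    have k₃ : ⁅⁅y, b⁆, b⁆ ∈ ZW p E := by
      rw [← d.a.fix_iff (norm_NN p E hn) k₂, d.a.ψ_comm (norm_NN p E hn) hy]
      exact UL_fix (e₃.le (d.a.θ_mem hb)) (UL_sub (e₃.le (d.a.θ_mem hb)) _)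
    rw [comm_mul_left, conj_eq_of_cent' (ZE_cent p E k₁) (WE_le_E p E hy), comm_mul_left]
    exact mul_mem (conj_mem_of_norm (le_normalizer k₁) ((Blk.ZW_eq p E).ge k₃).2) (comm_mem_of_norm (norm_ZE p E hn) k₁)
  have q₂ : ∀ u ∈ pCoreOf p E, ⁅⁅u, b⁆, b⁆ ∈ W0 p E := fun u hu => by
    obtain ⟨v, hv⟩ := d.B_UL hT hG hb
    rw [← d.s.fix_iff (norm_U hbU) (comm_mem_of_norm hbU hu), d.s.ψ_comm (norm_U hbU) hu]
    exact UL_fix hv (UL_sub hv _)
  have q₃ : ∀ w ∈ W0 p E, ⁅w, x⁆ ∈ ZE p E := fun w hw => by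
    obtain ⟨y, hy, z, hz, rfl⟩ := (mem_sup_iff_of_le_normalizer ((WE_le_E p E).trans
      (le_normalizer.trans (norm_ZE p E)))).1 (d.blk.W0_le_sup hw)
    rw [comm_mul_left, comm_eq_one_of_cent hc hy, mul_one]
    exact conj_mem_of_norm (norm_ZE p E (le_normalizer (WE_le_E p E hy))) (comm_mem_of_norm nx.2 hz)
  have q₄ : ∀ u ∈ pCoreOf p E, ⁅⁅u, b⁆, b⁆ ∈ ZE p E := fun u hu => by
    obtain ⟨c, hc⟩ := hs
    have hc1 : 1 - c ≠ 0 := fun e => h1 (aut_ext fun m => by rw [hc, ← sub_eq_zero.1 e, one_smul, aut_one])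
    obtain ⟨v, hv, e⟩ := d.s.onto ((1 - c)⁻¹ • d.s.ψ u)
    have k₁ := comm_mem_of_norm hx hv
    have k₂ : ⁅v, x⁆⁻¹ * u ∈ W0 p E := (d.s.eq_iff k₁ hu).1 (by
      rw [d.s.ψ_comm (norm_U hx) hv, hc, e, smul_smul, ← sub_smul, ← one_sub_mul, mul_inv_cancel₀ hc1, one_smul])
    have cm : ∀ m, r.θ b (r.θ x m) = r.θ x (r.θ b m) := fun m => by
      rw [← aut_mul, ← aut_mul, ← r.θ_mul nb nx, ← r.θ_mul nx nb, hbx]
    have k₃ := r.zero (q₁ _ k₂)
    have k₄ := r.zero (q₃ _ (q₂ v hv))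
    have k₅ := comm_mem_of_norm hbU hv
    rw [r.ψ_comm nb (comm_mem_of_norm hbU (W0_le p E k₂)), r.ψ_comm nb (W0_le p E k₂), r.add _ (inv_mem k₁) _ hu,
      r.inv k₁, r.ψ_comm nx hv] at k₃
    rw [r.ψ_comm nx (comm_mem_of_norm hbU k₅), r.ψ_comm nb k₅, r.ψ_comm nb hv] at k₄
    rw [← r.ker _ (comm_mem_of_norm hbU (comm_mem_of_norm hbU hu)), r.ψ_comm nb (comm_mem_of_norm hbU hu), r.ψ_comm nb hu]
    simp only [map_sub, map_add, map_neg, cm] at k₃ k₄ ⊢
    rw [← add_zero (0 : M)]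
    conv_rhs => lhs; rw [← k₃]
    conv_rhs => rhs; rw [← k₄]
    abel
  let Y := r.pre (fixM (zpowers (r.θ b)))
  have hY : ∀ u ∈ pCoreOf p E, u ∈ Y ↔ ⁅u, b⁆ ∈ ZE p E := fun u hu => by
    rw [← r.fix_iff nb hu]
    exact ⟨fun k => k.2 _ (mem_zpowers _), fun k => ⟨hu, fun t ht => zpowers_le_of_mem (H := stabM _) k ht⟩⟩
  have k₁ : b ∈ rel (ZE p E) Y := mem_rel.2 ⟨nb.2, fun u hu => (hY u hu.1).1 hu⟩
  have k₂ : b ∈ rel Y (pCoreOf p E) := mem_rel.2 ⟨le_normalizer_of_commutator_le ((comm_le_of_le_rel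
    (zpowers_le_of_mem k₁)).trans (r.le_pre _)) (mem_zpowers b), fun u hu =>
      (hY _ (comm_mem_of_norm hbU hu)).2 (q₄ u hu)⟩
  exact (commutator_mono (comm_le_of_le_rel (zpowers_le_of_mem k₂)) le_rfl).trans
    (comm_le_of_le_rel (zpowers_le_of_mem k₁))

/-- Scalars centralizing `W` are trivial. -/
theorem scal_triv (hx : x ∈ N(pCoreOf p E)) (hc : x ∈ C(WE p E)) (hs : d.s.θ x ∈ Scal F) : d.s.θ x = 1 := by
  set X := C(WE p E) ⊓ d.s.cm (Scal F) with hX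
  have hB := d.blk.B_norm
  have bl : d.s.im (Bm p T) ≤ LinA F := (d.B_PL hT hG).trans PL_le_LinA
  have nB : Bm p T ≤ N(X) := le_normalizer_inf (le_normalizer_centralizer (hB.trans (norm_WE p E)))
    (d.s.norm_cm (hB.trans (norm_NN' p E)) (le_normalizer_iff_conj_le.2 fun r hr => conj_le_iff.2 fun t ht => by
      rwa [scal_comm ht (bl hr), mul_inv_cancel_right]))
  set X₁ := X ⊓ rel (W0 p E) (pCoreOf p E) with hX₁
  have xN : X ≤ NN (pCoreOf p E) (W0 p E) := inf_le_right.trans d.s.cm_le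
  have n₁ : X ⊔ Bm p T ≤ N(X₁) := le_normalizer_inf (sup_le le_normalizer nB) (le_norm_rel
    ((sup_le xN (hB.trans (norm_NN' p E))).trans inf_le_right) ((sup_le xN (hB.trans (norm_NN' p E))).trans inf_le_left))
  have c₁ : ⁅X, Bm p T⁆ ≤ X₁ := commutator_le.2 fun y hy b hb => mem_inf.2 ⟨comm_mem_of_norm (nB hb) hy, by
    rw [← d.s.θ_eq_one_iff' (comm_mem_of_norm (le_normalizer (norm_NN' p E (hB hb))) (xN hy)),
      d.s.θ_comm (xN hy) (norm_NN' p E (hB hb)), commutatorElement_eq_one_iff_mul_comm]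
    exact (scal_comm (d.s.mem_cm.1 hy.2).2 (bl (d.s.θ_mem hb))).symm⟩
  have n₂ : X ≤ N(X₁ ⊔ Bm p T) := le_normalizer_iff_conj_le.2 fun y hy => by
    rw [conj_sup, conj_eq_of_mem_normalizer (n₁ (mem_sup_left hy))]
    refine sup_le le_sup_left (conj_le_iff.2 fun b hb => ?_)
    have := mul_mem_sup (c₁ (commutator_mem_commutator hy hb)) hb
    rwa [commutatorElement_def, inv_mul_cancel_right] at this
  obtain ⟨S, hS, hBS⟩ := exists_isSylowIn_ge (le_sup_right : Bm p T ≤ X₁ ⊔ Bm p T) (hT.isPGroup.to_le (Bm_le p T))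
  have hx' : x ∈ X := ⟨hc, d.s.mem_cm.2 ⟨norm_U hx, hs⟩⟩
  obtain ⟨k, hk, n, hn, e⟩ := hS.frattini (n₂ hx')
  obtain ⟨x₁, h₁, b₁, hb₁, rfl⟩ := (mem_sup_iff_of_le_normalizer' (le_sup_right.trans n₁)).1 hk
  have m₁ : b₁ * n ∈ X := by
    have := X.mul_mem (X.inv_mem h₁.1) hx'
    rwa [e, mul_assoc, inv_mul_cancel_left] at this
  have m₂ : b₁ * n ∈ (N(Bm p T) : Subgroup G) := mul_mem (le_normalizer hb₁)
    (Bm_eq_of_pgroup hT hS.isPGroup le_top hBS ▸ normalizer_le_normalizer_Bm p S hn)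
  obtain ⟨y, hy, z, hz, ⟨j, hj⟩, hz', e'⟩ := exists_pPart (p := p) (isOfFinOrder_of_finite (b₁ * n))
  have y₁ := zpowers_le_of_mem m₁ hy
  have z₁ := zpowers_le_of_mem m₁ hz
  have z₂ := zpowers_le_of_mem m₂ hz
  rw [e, mul_assoc, d.s.θ_mul (xN h₁.1) (xN m₁), (d.s.θ_eq_one_iff' (xN h₁.1)).2 h₁.2, one_mul, e',
    d.s.θ_mul (xN y₁) (xN z₁), scal_eq_one (p := p) (k := j) (d.s.mem_cm.1 y₁.2).2 (by
      rw [← d.s.θ_pow (xN y₁), ← hj, pow_orderOf_eq_one, d.s.θ_one]), one_mul]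
  by_contra h1
  refine d.blk.not_B_cent hT hG ?_
  have pB := hT.isPGroup.to_le (Bm_le p T)
  rw [← CoprimeBasic.commutator_sup_centralizer (zpowers_le_of_mem z₂) (by
    rw [Nat.card_zpowers]; exact (coprime_card_of_isPGroup pB hz').symm) (Or.inl (CoprimeBasic.solvable_zpowers z))]
  refine sup_le ((commutator_mono le_rfl (zpowers_le_of_mem z₁)).trans ((commutator_comm _ _).le.trans
    (c₁.trans (inf_le_left.trans inf_le_left)))) fun b hb => ?_
  by_contra hb'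
  exact d.exc.nq b hb.1 (fun k => hb' (centralizer_anti (WE_le p E) k)) (d.quad hT hG hb.1 (xN z₁).1 z₁.1
    (d.s.mem_cm.1 z₁.2).2 h1 (mem_centralizer_iff.1 hb.2 z (mem_zpowers z)).symm)

theorem PL_triv (hx : x ∈ N(pCoreOf p E)) (hc : x ∈ C(WE p E)) (hs : d.s.θ x ∈ PL F) : d.s.θ x = 1 := by
  have xN : C(WE p E) ⊓ d.s.cm (PL F) ≤ NN (pCoreOf p E) (W0 p E) := inf_le_right.trans d.s.cm_le
  have := eq_bot_of_scal d.ne_two (K := d.s.im (C(WE p E) ⊓ d.s.cm (PL F)))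
    ((d.s.im_mono inf_le_right).trans d.s.im_cm_le) (d.s.eq.ge.trans (d.s.im_le_norm (le_normalizer_inf
      (le_normalizer_centralizer (le_normalizer.trans (norm_WE p E)))
      (d.s.norm_cm d.s.norm (d.s.eq.le.trans (RL_le_PL.trans le_normalizer)))))) (eq_bot_iff.2 fun r hr => by
        obtain ⟨y, hy, e⟩ := (d.s.mem_im' xN).1 hr.1
        rw [← e]
        exact d.scal_triv hT hG (xN hy).1 hy.1 (e ▸ hr.2))
  exact mem_bot.1 (this.le (d.s.θ_mem ⟨hc, d.s.mem_cm.2 ⟨norm_U hx, hs⟩⟩))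

theorem comm_le_W0 : ⁅pCoreOf p E, N(E) ⊓ C(WE p E)⁆ ≤ W0 p E :=
  (d.s.im_eq_bot_iff' (inf_le_left.trans (norm_NN' p E))).1 (eq_bot_iff.2 (d.s.im_le_iff.2 fun _ hx =>
    d.scal_triv hT hG (normalizer_le_normalizer_pCoreOf p E hx.1) hx.2 (d.scal_of_cent hx.1 hx.2)))

end XB

namespace Blk
variable (h : Blk p T E)
include h

theorem cases_XB : pCoreOf p E = WE p E ∨
    ∃ (F : Type) (_ : Field F) (_ : Finite F) (_ : CharP F p), Nonempty (XB p T E F) := by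
  rcases h.cases' with ⟨F, _, _, _, ⟨a⟩, k | k⟩ | ⟨-, -, -, -, k, -⟩
  · exact Or.inl k
  · obtain ⟨s⟩ := k.act
    exact Or.inr ⟨F, _, ‹_›, ‹_›, ⟨⟨h, k, a, s⟩⟩⟩
  · exact Or.inl k

variable (hT : IsSylowIn p T ⊤) (hG : C(pCore p G) ≤ pCore p G)
include hT hG

theorem cent_core (hX : X ≤ N(E)) (hc : X ≤ C(WE p E)) : pResidualOf p X ≤ C(pCoreOf p E) := by
  rcases h.cases_XB with e | ⟨F, _, _, _, ⟨d⟩⟩
  · exact (pResidualOf_le p X).trans (e ▸ hc)
  · have k := (commutator_mono le_rfl (le_inf hX hc)).trans (d.comm_le_W0 hT hG)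
    exact pResidualOf_le_centralizer_of_le (pCoreOf_isPGroup p E) ((pResidualOf_le p X).trans
      (hX.trans (normalizer_le_normalizer_pCoreOf p E))) ((commutator_mono le_rfl (pResidualOf_le p X)).trans k)
      ((pResidualOf_le p X).trans (d.cent_W0 k hc))

/-- `p'`-elements normalizing a block and centralizing its module centralize the block. -/
theorem cent_res (hX : X ≤ N(E)) (hc : X ≤ C(WE p E)) : pResidualOf p X ≤ C(E) :=
  pResidualOf_le_iff.2 fun x hx ho => mem_centralizer_iff.2 fun e he =>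
    (commutatorElement_eq_one_iff_mul_comm.1 (cent_of_coprime_of_comm (pCoreOf_isPGroup p E) ho
      (h.faith' ⟨comm_mem_swap (comm_mem_of_norm (hX hx) he), comm_mem_of_norm
        (le_normalizer_centralizer (le_normalizer.trans (norm_WE p E)) he) (hc hx)⟩)
      (h.cent_core hT hG hX hc (mem_pResidualOf hx ho)))).symm

end Blk

end Cfsg.Agent.Lib.Blk
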