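import Cfsg.Agent.Lib.BlkAlt2

/-! The members of the block structure of a minimal parabolic group. -/

set_option autoImplicit false
open Cfsg

namespace Cfsg.Agent.Lib.Blk

open Subgroup Cfsg.Agent.Lib.PCoreConj Cfsg.Agent.Lib.PCore Cfsg.Agent.Lib.PCoreResidual Cfsg.Agent.Lib.PCoreMod
open Cfsg.Agent.Lib.ThompsonJ Cfsg.Agent.Lib.PushBase Cfsg.Agent.Lib.PIrred Equiv
open scoped Pointwise commutatorElement MatrixGroups

universe u

section Pure

theorem stab_iso {n : ℕ} (z : Fin (n + 1)) : Nonempty (↥(alternatingGroup (Fin (n + 1)) ⊓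
    MulAction.stabilizer (Perm (Fin (n + 1))) z) ≃* alternatingGroup (Fin n)) := by
  have e : (alternatingGroup ({z}ᶜ : Finset (Fin (n + 1)))).map Perm.ofSubtype = alternatingGroup (Fin (n + 1)) ⊓
      MulAction.stabilizer (Perm (Fin (n + 1))) z := by
    rw [alternatingGroup.map_ofSubtype, inf_comm]
    congr 1
    ext σ
    rw [Perm.mem_range_ofSubtype_iff, Finset.setOf_mem, Finset.coe_subset, Finset.subset_compl_singleton,
      Perm.notMem_support]; rfl
  exact ⟨((MulEquiv.subgroupCongr e).symm.trans (equivMapOfInjective _ _ Perm.ofSubtype_injective).symm).trans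
    (Fintype.equivFinOfCardEq (by simp [Finset.card_compl])).altCongrHom⟩

theorem two_mul_card_alt {n : ℕ} (h : 2 ≤ n) : 2 * Nat.card (alternatingGroup (Fin n)) = n.factorial := by
  haveI : Nontrivial (Fin n) := Fin.nontrivial_iff_two_le.2 h
  rw [two_mul_nat_card_alternatingGroup, Nat.card_perm, Nat.card_fin]

theorem card_alt_one : Nat.card (alternatingGroup (Fin (2 * 0 + 1))) ≤ 1 :=
  Finite.card_le_one_iff_subsingleton.2 (inferInstanceAs (Subsingleton (alternatingGroup (Fin 1))))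

theorem deg_of_alt {m n : ℕ} (e : alternatingGroup (Fin (2 * 2 ^ n + 1)) ≃* alternatingGroup (Fin (2 * m + 1))) :
    ∃ k, 2 * m + 1 = 2 ^ k + 1 := by
  have h₁ := Nat.card_congr e.toEquiv
  have h : 1 ≤ 2 ^ n := Nat.one_le_two_pow
  have h₂ := two_mul_card_alt (n := 2 * 2 ^ n + 1) (by omega)
  rcases Nat.eq_zero_or_pos m with rfl | hm
  · have := card_alt_one
    have := Nat.self_le_factorial (2 * 2 ^ n + 1)
    omega
  · have h₃ := two_mul_card_alt (n := 2 * m + 1) (by omega)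
    exact ⟨n + 1, by rw [pow_succ', (Nat.factorial_inj (by omega)).1 (h₂.symm.trans (h₁ ▸ h₃))]⟩

theorem exists_four {n : ℕ} (h : 6 ≤ n) : ∃ σ : alternatingGroup (Fin n), σ ^ 2 ^ 2 = 1 ∧ σ ^ 2 ≠ 1 := by
  let f := Perm.extendDomainHom (Fin.castLEEmb h).toEquivRange
  let σ : Perm (Fin 6) := swap 0 1 * swap 1 2 * swap 2 3 * swap 4 5
  refine ⟨⟨f σ, Perm.mem_alternatingGroup.2 ((Perm.sign_extendDomain _ _).trans (by decide))⟩, Subtype.ext ?_,
    fun e => ?_⟩
  · change f σ ^ 2 ^ 2 = 1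
    rw [← map_pow, show σ ^ 2 ^ 2 = 1 by decide, map_one]
  · have : f σ ^ 2 = 1 := congrArg Subtype.val e
    rw [← map_pow, map_eq_one_iff _ (Perm.extendDomainHom_injective _)] at this
    exact absurd this (by decide)

variable {F : Type*} [Field F] [Finite F] {p : ℕ} [hp : Fact p.Prime]

include hp in
theorem deg_of_lin [CharP F p] {m : ℕ} (e : RL F ≃* alternatingGroup (Fin (2 * m + 1))) : ∃ k, 2 * m + 1 = 2 ^ k + 1 := by
  rcases (show m = 0 ∨ m = 1 ∨ m = 2 ∨ 3 ≤ m by omega) with rfl | rfl | rfl | hm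
  · have := card_alt_one
    have := (model_lin (F := F) (p := p)).big
    have := Nat.card_congr e.toEquiv
    omega
  · exact ⟨1, rfl⟩
  · exact ⟨2, rfl⟩
  by_cases h2 : p = 2
  · subst h2
    obtain ⟨σ, h₁, h₂⟩ := exists_four (n := 2 * m + 1) (by omega)
    obtain ⟨r, rfl⟩ := e.surjective σ
    rw [← map_pow, e.map_eq_one_iff] at h₁
    have h₁ : (r : AutM (Fin 2 → F)) ^ 2 ^ 2 = 1 := congrArg Subtype.val h₁
    obtain ⟨v, -, hv, k⟩ := exists_fixed (p := 2) (A := zpowers (r : AutM (Fin 2 → F))) (isPGroup_iff_forall_mem.2 fun x hx => by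
      obtain ⟨n, rfl⟩ := mem_zpowers_iff.1 hx
      exact ⟨2, by rw [← zpow_natCast, ← zpow_mul, mul_comm, zpow_mul, zpow_natCast, h₁, one_zpow]⟩) ⊤
      (fun _ _ _ _ => trivial) (fun m _ => vec_tors m) fun k => e0_ne (AddSubgroup.mem_bot.1 (k.le (AddSubgroup.mem_top _)))
    exact absurd (by rw [← map_pow, show r ^ 2 = 1 from Subtype.ext (UL_pow (mem_UL_of_PL hv (RL_le_PL r.2)
      (k _ (mem_zpowers _)))), map_one]) h₂
  · have : e ⟨_, neg_mem_RL h2⟩ ∈ center (alternatingGroup (Fin (2 * m + 1))) := mem_center_iff.2 fun g => by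
      obtain ⟨r, rfl⟩ := e.surjective g
      rw [← map_mul, ← map_mul]
      exact congrArg e (Subtype.ext (negA_comm _))
    rw [alternatingGroup.center_eq_bot (by rw [Nat.card_fin]; omega), mem_bot, e.map_eq_one_iff] at this
    exact absurd (congrArg Subtype.val this) (negA_ne_one h2)

include hp in
theorem card_RL_two [CharP F p] (h : Nat.card F = 2) : Nat.card (RL F) = 3 := by
  have s := small_lin (p := p) (.inl h)
  have := Nat.card_le_card_of_injective (fun o : Option (RL F) => o.elim 0 fun r => (r : AutM (Fin 2 → F)) ![1, 0]) (by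
    rintro (_ | a) (_ | b) e
    · rfl
    · exact absurd (b.1.map_eq_zero_iff.1 e.symm) e0_ne
    · exact absurd (a.1.map_eq_zero_iff.1 e) e0_ne
    · have k := s.eq_one (mul_mem (inv_mem b.2) a.2) (k := 1) (by
        rw [pow_one]
        exact UL_pow (mem_UL_of_PL e0_ne (RL_le_PL (mul_mem (inv_mem b.2) a.2)) (by
          rw [aut_mul, show a.1 ![1, 0] = b.1 ![1, 0] from e, aut_inv_apply])))
      exact congrArg some (Subtype.ext (inv_mul_eq_one.1 k).symm))
  have h₁ := (model_lin (F := F) (p := p)).big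
  rw [Finite.card_option, card_vec, h] at this
  omega

omit hp in
theorem comm_iso {n : ℕ} [Fact n.Prime] (h : Nat.card F = n) :
    Nonempty (commutator SL(2, F) ≃* commutator SL(2, ZMod n)) := by
  haveI := Fintype.ofFinite F
  let e := (ZMod.ringEquivOfPrime F Fact.out (Nat.card_eq_fintype_card.symm.trans h)).symm
  let φ : SL(2, F) ≃* SL(2, ZMod n) := MonoidHom.toMulEquiv (Matrix.SpecialLinearGroup.map e.toRingHom)
    (Matrix.SpecialLinearGroup.map e.symm.toRingHom) (by ext; simp) (by ext; simp)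
  exact ⟨(φ.subgroupMap _).trans (MulEquiv.subgroupCongr (by
    rw [commutator_def, map_commutator, map_top_of_surjective (φ : SL(2, F) →* SL(2, ZMod n)) φ.surjective, commutator_def]))⟩

omit hp [Finite F] in
theorem line_of_norm {v : Fin 2 → F} (hv : v ≠ 0) {r : AutM (Fin 2 → F)} (h : r ∈ (N(UL v) : Subgroup _)) :
    r v ∈ line v := fix_UL hv ▸ mem_fixM.2 fun s hs => by
  have := UL_fix (conj_mem_of_norm (inv_mem h) hs) (self_mem_line v)
  rw [aut_mul, aut_mul, inv_inv] at this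
  conv_rhs => rw [← this, aut_apply_inv]

omit hp [Finite F] in
theorem norm_of_line {v : Fin 2 → F} (hv : v ≠ 0) {r : AutM (Fin 2 → F)} (hr : r ∈ PL F) (h : r v ∈ line v) :
    r ∈ (N(UL v) : Subgroup _) := by
  obtain ⟨g, rfl⟩ := hr
  exact mem_normalizer_iff_conj_eq.2 ((conj_UL g v).trans (UL_eq hv (fun e => hv ((toA g).map_eq_zero_iff.1 e)) h))

omit [Finite F] in
theorem mem_UL_of_line [CharP F p] {v : Fin 2 → F} (hv : v ≠ 0) {r : AutM (Fin 2 → F)} (hr : r ∈ PL F) (h : r v ∈ line v) {k : ℕ}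
    (hk : r ^ p ^ k = 1) : r ∈ UL v := by
  obtain ⟨c, e⟩ := (mem_line_iff hv).1 h
  have e' : ∀ n, (r ^ n) v = c ^ n • v := fun n => by
    induction n with
    | zero => rw [pow_zero, pow_zero, aut_one, one_smul]
    | succ n ih => rw [pow_succ', aut_mul, ih, PL_le_LinA hr, e, smul_smul, pow_succ]
  have := e' (p ^ k)
  rw [hk, aut_one] at this
  have h₂ : (c - 1) ^ p ^ k = 0 := by
    rw [sub_pow_char_pow, ← smul_cancel hv ((one_smul F v).trans this), one_pow, sub_self]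
  refine mem_UL_of_PL hv hr ?_
  rw [e, sub_eq_zero.1 (pow_eq_zero_iff (pow_ne_zero k hp.out.ne_zero) |>.1 h₂), one_smul]

theorem img_iso {E H : Type*} [Group E] [Group H] (ρ : E →* H) {K : Subgroup E} [K.Normal] (h : K = ρ.ker)
    (D : Subgroup E) : Nonempty (D.map (QuotientGroup.mk' K) ≃* D.map ρ) := by
  subst h
  exact ⟨(equivMapOfInjective _ _ (QuotientGroup.kerLift_injective ρ)).trans (MulEquiv.subgroupCongr (by
    rw [map_map]; rfl))⟩

end Pure

variable {G : Type u} [Group G] {p : ℕ} {T E U W Z X Y S L M₀ D : Subgroup G} {g u v t : G}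

/-- The last clause of the block structure. -/
def Cl7 (p : ℕ) (T D E : Subgroup G) : Prop :=
  (∃ (F : Type) (_ : Field F) (_ : Fintype F) (m : ℕ), 3 < p ^ m ∧ Fintype.card F = p ^ m ∧
      Nonempty (↥E ⧸ pCore p ↥E ≃* Matrix.SpecialLinearGroup (Fin 2) F) ∧
      D = E ⊓ Subgroup.normalizer ((T ⊓ E : Subgroup G) : Set G)) ∨
  (p = 2 ∧ ∃ m : ℕ, Nonempty (↥E ⧸ pCore p ↥E ≃* ↥(alternatingGroup (Fin (2 * m + 1)))) ∧
      Nonempty (↥((D.subgroupOf E).map (QuotientGroup.mk' (pCore p ↥E))) ≃* ↥(alternatingGroup (Fin (2 * m))))) ∨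
  (p = 3 ∧ Nonempty (↥E ⧸ pCore p ↥E ≃* ↥(commutator (Matrix.SpecialLinearGroup (Fin 2) (ZMod 3)))) ∧
      (D.subgroupOf E).map (QuotientGroup.mk' (pCore p ↥E)) = Subgroup.center (↥E ⧸ pCore p ↥E))

theorem Sect.mk_eq {M : Type*} [AddCommGroup M] (s : Sect M U Z) (hE : E ≤ NN U Z) (h : E ⊓ rel Z U = pCoreOf p E)
    (x y : E) : (x : E ⧸ pCore p E) = y ↔ s.θ x = s.θ y := by
  rw [QuotientGroup.eq, s.θ_eq_iff (hE x.2) (hE y.2), ← pCoreOf_subgroupOf, ← h, inf_subgroupOf_left]; rfl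

variable [hp : Fact p.Prime] [Finite G]

/-- The last clause for a block of linear type, `D` being the stabilizer of the line fixed by `T ⊓ E`. -/
theorem cl7_lin {F : Type} [Field F] [Finite F] [CharP F p] (a : ActS (RL F) E U Z) (hf : E ⊓ rel Z U = pCoreOf p E)
    (hT : IsSylowIn p (T ⊓ E) E) {v : Fin 2 → F} (hv : v ≠ 0) (hU : a.im (T ⊓ E) ≤ UL v) (hD : D ≤ E)
    (h : ∀ g ∈ E, g ∈ D ↔ a.θ g v ∈ line v) : Cl7 p T D E := by
  obtain ⟨φ⟩ := ActS.iso (f := toA) a toA_injective hf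
  rcases card_cases (F := F) with c | c | c
  · obtain rfl := eq_of_card (p := p) Nat.prime_two c
    haveI : Fact (Nat.Prime 3) := ⟨Nat.prime_three⟩
    have e : (D.subgroupOf E).map (QuotientGroup.mk' (pCore 2 E)) = ⊥ := le_bot_iff.1 (by
      rintro _ ⟨x, hx, rfl⟩
      have r := a.θ_mem' x.2
      obtain ⟨k, hk⟩ := (mem_line_iff hv).1 ((h x x.2).1 hx)
      refine (a.mk_eq a.norm hf x 1).2 (((small_lin (.inl c)).eq_one r (k := 1) ?_).trans a.θ_one.symm)
      rcases two_cases c k with rfl | rfl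
      · exact absurd ((a.θ x).map_eq_zero_iff.1 (hk.trans (zero_smul _ _))) hv
      · exact (pow_one 2).symm ▸ UL_pow (mem_UL_of_PL hv (RL_le_PL r) (hk.trans (one_smul _ _))))
    have h₂ := two_mul_card_alt (n := 2 * 1) le_rfl
    have h₃ := two_mul_card_alt (n := 2 * 1 + 1) (by norm_num)
    haveI : Subsingleton (alternatingGroup (Fin (2 * 1))) := Finite.card_le_one_iff_subsingleton.1 (by
      simp only [Nat.factorial] at h₂; omega)
    haveI := uniqueOfSubsingleton (1 : alternatingGroup (Fin (2 * 1)))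
    refine .inr (.inl ⟨rfl, 1, ⟨φ.trans (mulEquivOfPrimeCardEq (p := 3) ?_ ?_)⟩, ?_⟩)
    · rw [← card_map_of_injective toA_injective]; exact card_RL_two (p := 2) c
    · simp only [Nat.factorial] at h₃; omega
    · rw [e]; exact ⟨MulEquiv.ofUnique⟩
  · obtain rfl := eq_of_card (p := p) Nat.prime_three c
    obtain ⟨ψ⟩ := comm_iso c
    refine .inr (.inr ⟨rfl, ⟨φ.trans ψ⟩, le_antisymm ?_ fun x hx => ?_⟩)
    · rintro _ ⟨x, hx, rfl⟩
      refine mem_center_iff.2 fun y => ?_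
      obtain ⟨y, rfl⟩ := QuotientGroup.mk_surjective y
      refine (a.mk_eq a.norm hf (y * x) (x * y)).2 ?_
      rw [coe_mul, coe_mul, a.θ_mul (a.norm y.2) (a.norm x.2), a.θ_mul (a.norm x.2) (a.norm y.2)]
      obtain ⟨k, hk⟩ := (mem_line_iff hv).1 ((h x x.2).1 hx)
      rcases ((small_lin (p := 3) (.inr c)).mem _).1 (a.θ_mem' x.2) with ⟨e, -⟩ | ⟨-, e | e | e⟩
      · exact absurd e (by decide)
      · rw [e, mul_one, one_mul]
      · rw [e, negA_comm]
      · have : (k * k) • v = (-1 : F) • v := by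
          rw [mul_smul, ← hk, ← PL_le_LinA (RL_le_PL (a.θ_mem' x.2)), ← hk, ← aut_mul, ← pow_two, e, negA_apply,
            neg_one_smul]
        have := smul_cancel hv this
        rcases three_cases c k with rfl | rfl | rfl
        · simp at this
        · exact absurd (eq_zero_of_neg (p := 3) (by decide) ((one_mul _).symm.trans this)) one_ne_zero
        · exact absurd (eq_zero_of_neg (p := 3) (by decide) ((neg_mul_neg 1 1).symm.trans this |>.symm.trans
            (one_mul (1 : F)) |>.symm)) one_ne_zero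
    · obtain ⟨x, rfl⟩ := QuotientGroup.mk_surjective x
      obtain ⟨k, hk⟩ := scal_of_comm (F := F) (by omega) (r := a.θ x) fun s hs => by
        obtain ⟨y, hy, rfl⟩ := a.exists_θ hs
        rw [← a.θ_mul (a.norm x.2) (a.norm hy), ← a.θ_mul (a.norm hy) (a.norm x.2)]
        exact (a.mk_eq a.norm hf (x * (⟨y, hy⟩ : E)) ((⟨y, hy⟩ : E) * x)).1 (mem_center_iff.1 hx (⟨y, hy⟩ : E)).symm
      exact ⟨x, (h x x.2).2 (hk v ▸ smul_mem_line v k), rfl⟩
  · letI := Fintype.ofFinite F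
    obtain ⟨n, -, hn⟩ := FiniteField.card F p
    have e := (a.im_sylow hT a.norm).eq_of_le ((UL_le_PL v).trans ((RL_eq_PL c).ge.trans a.eq.ge)) (UL_isPGroup v) hU
    refine .inl ⟨F, _, _, n, by rw [← hn, ← Nat.card_eq_fintype_card]; omega, hn,
      ⟨(φ.trans (MulEquiv.subgroupCongr (comm_eq_top c))).trans topEquiv⟩, le_antisymm (le_inf hD ?_) fun g hg =>
        (h g hg.1).2 (line_of_norm hv (e ▸ a.θ_mem_norm hg.2))⟩
    have n := (inf_le_right : T ⊓ E ≤ E).trans a.norm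
    have l := le_inf (a.le_sup_of_im_le (X := E ⊓ a.cm (UL v)) (inf_le_left.trans a.norm) n
      ((a.le_cm_iff.1 inf_le_right).2.trans e.le)) inf_le_left
    rw [sup_inf_of_le_normalizer (le_norm_rel (n.trans inf_le_right) (n.trans inf_le_left)) inf_le_right,
      inf_comm (rel Z U), hf, sup_eq_left.2 hT.pCoreOf_le] at l
    rw [← le_antisymm l (le_inf inf_le_right (a.le_cm_iff.2 ⟨n, hU⟩))]
    exact le_normalizer_inf (hD.trans le_normalizer) (a.norm_cm (hD.trans a.norm) (a.im_le_iff.2 fun g hg =>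
      norm_of_line hv (RL_le_PL (a.θ_mem' (hD hg))) ((h g (hD hg)).1 hg)))

omit hp [Finite G] in
/-- The last clause for a block of symmetric type, `D` being the stabilizer of a point. -/
theorem cl7_sym {m : ℕ} (a : ActS (RS (Fin (2 * m + 1))) E U Z) (hf : E ⊓ rel Z U = pCoreOf 2 E) (z : Fin (2 * m + 1))
    (h : ∀ g ∈ E, ∀ σ, toP σ = a.θ g → (g ∈ D ↔ σ z = z)) : Cl7 2 T D E := by
  have i := toP_injective (odd_fin m)
  obtain ⟨ρ, r₁, r₂, r₃⟩ := ActS.exists_hom (f := toP) a i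
  obtain ⟨φ⟩ := img_iso ρ (K := pCore 2 E) (by rw [r₃, ← pCoreOf_subgroupOf, ← hf, inf_subgroupOf_left]) (D.subgroupOf E)
  obtain ⟨ψ⟩ := stab_iso z
  refine .inr (.inl ⟨rfl, m, ActS.iso (f := toP) a i hf, ⟨φ.trans ((MulEquiv.subgroupCongr (le_antisymm ?_ ?_)).trans ψ)⟩⟩)
  · rintro _ ⟨x, hx, rfl⟩
    exact ⟨r₁.le ⟨x, rfl⟩, (h x x.2 _ (r₂ x)).1 hx⟩
  · rintro σ ⟨h₁, h₂⟩
    obtain ⟨x, rfl⟩ := r₁.ge h₁
    exact ⟨x, (h x x.2 _ (r₂ x)).2 h₂, rfl⟩

/-- What the block structure needs to know about one of its members. -/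
structure Fb (p : ℕ) (T M₀ E : Subgroup G) : Prop where
  sb : SB p E
  notM : ¬ E ≤ M₀
  low : M₀ ⊓ E ≤ cStarOf p T
  self : ∀ e ∈ E, (∀ m ∈ M₀, (∀ g, E ^ᶜ g ≠ E → m ∈ C(WE p (E ^ᶜ g))) → e * m * e⁻¹ ∈ M₀) → e ∈ M₀
  cl : Cl7 p T (M₀ ⊓ E) E
  deg : ∀ m : ℕ, Nonempty (↥E ⧸ pCore p ↥E ≃* ↥(alternatingGroup (Fin (2 * m + 1)))) → ∃ n : ℕ, 2 * m + 1 = 2 ^ n + 1

omit hp in
theorem NB_le_cStar (h : Bm p T ≠ ⊥) : (N(Bm p T) : Subgroup G) ≤ cStarOf p T := by
  rw [cStarOf, baumann_eq]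
  exact le_sup_of_le_right (le_iSup (fun C : {C : Subgroup G // C ≤ Bm p T ∧ C ≠ ⊥ ∧ (C.subgroupOf (Bm p T)).Characteristic}
    => normalizer ((C : Subgroup G) : Set G)) ⟨_, le_rfl, h, by rw [subgroupOf_self]; infer_instance⟩)

omit hp in
theorem MP.cStar_le (h : MP p T M₀) : cStarOf p T ≤ M₀ := by
  rw [cStarOf, baumann_eq]
  exact sup_le h.hz (iSup_le fun C => map_subgroupOf_eq_of_le C.2.1 ▸ h.hd _ (fun e => C.2.2.1 (by
    rw [← map_subgroupOf_eq_of_le C.2.1, e, Subgroup.map_bot])) C.2.2.2)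

namespace Cp
variable (h : Cp p T M₀ L U Z)
include h

omit hp [Finite G] in
theorem conj' (ht : t ∈ T) : Cp p T M₀ (L ^ᶜ t) (U ^ᶜ t) (Z ^ᶜ t) where
  toMP := h.toMP
  eU := by rw [← h.eU, conj_commutator, conj_V]
  eZ := by rw [← h.eZ, conj_inf, conj_centralizer]
  cent := by simpa only [conj_centralizer, conj_V] using conj_mono t h.cent
  conj g := (h.conj (t⁻¹ * g * t)).imp (fun e => by
    rw [conj_conj, show g * t = t * (t⁻¹ * g * t) by group, ← conj_conj, e]) fun e => by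
    rw [conj_conj, show g * t = t * (t⁻¹ * g * t) by group, ← conj_conj, ← conj_centralizer]; exact conj_mono t e
  sub := conj_top t ▸ h.sub.conj t
  JN := by simpa only [conj_normalizer, conj_eq_of_mem_normalizer (normalizer_le_normalizer_J p T (le_normalizer ht))]
    using conj_mono t h.JN
  nc e := h.nc (conj_le_conj_iff.1 (by
    rwa [conj_centralizer, conj_eq_of_mem_normalizer (normalizer_le_normalizer_J p T (le_normalizer ht))]))
  dec := by simpa only [conj_sup, conj_inf, conj_centralizer, conj_V] using conj_mono t h.dec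
  notM e := h.notM (conj_le_conj_iff.1 (e.trans (conj_eq_of_mem (h.min.le ht)).ge))

variable {M : Type*} [AddCommGroup M] {R P : Subgroup (AutM M)} (a : ActS P L U Z) (m : Model p R)
  (hR : pResidualOf p P = R) (hE : E ≤ L) (b : Blk p T E) (e : a.im E = R)

include m hR hE b e in
theorem core_eq : E ⊓ rel Z U = pCoreOf p E := by
  have w := (h.WE_eq a m hR hE b e).1
  exact le_antisymm ((le_inf inf_le_left ((inf_le_inf_right _ (hE.trans le_normalizer)).trans (w ▸ h.fa))).trans b.faith')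
    (le_inf (pCoreOf_le p E) (le_rel_of_cent (w ▸ core_le_cent' p E) a.le))

include m hR hE b e in
theorem cent_other (hx : t ∈ L) (g : G) (hg : E ^ᶜ g ≠ E) : t ∈ C(WE p (E ^ᶜ g)) := by
  rw [← conj_WE, (h.WE_eq a m hR hE b e).1]
  exact le_centralizer_iff.1 ((h.conj g).resolve_left fun k => hg (conj_eq_of_mem_normalizer
    (h.norm_E a hR hE b e (mem_normalizer_iff_conj_eq.2 k)))) hx

section Lin
variable {F : Type} [Field F] [Finite F] [CharP F p] (a : ActS (PL F) L U Z) {v : Fin 2 → F} (hv : v ≠ 0)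
include hv

theorem im_TL (e₁ : a.im (J p T) = UL v) : a.im (T ⊓ L) = UL v := by
  have s := a.im_sylow (h.syl.inf_subnormalIn h.sub) a.norm
  have k := s.eq_of_le (Q := a.im (T ⊓ N(L)) ⊓ a.im L) inf_le_right ((a.im_isPGroup (h.syl.isPGroup.to_le
    inf_le_left)).to_le inf_le_left) (le_inf (a.im_mono (inf_le_inf_left _ le_normalizer)) s.le)
  have l₁ : UL v ≤ a.im (T ⊓ N(L)) := e₁.ge.trans (a.im_mono (le_inf (J_le p T) h.JN))
  have l₂ : UL v ≤ a.im L := (UL_le_PL v).trans a.eq.ge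
  refine le_antisymm (a.im_le_iff.2 fun g hg => ?_) ((le_inf l₁ l₂).trans k.le)
  obtain ⟨k, hk⟩ := isPGroup_iff_forall_mem.1 s.isPGroup _ (a.θ_mem hg)
  have n := a.θ_mem_norm (normalizer_le_normalizer_J p T (le_normalizer (mem_inf.1 hg).1))
  rw [e₁] at n
  exact mem_UL_of_line (p := p) hv (a.θ_mem' (mem_inf.1 hg).2) (line_of_norm hv n) hk

theorem line_of_mem (eT : a.im (T ⊓ L) = UL v) (hg : g ∈ L) (hm : g ∈ M₀) : a.θ g v ∈ line v := by_contra fun k =>
  h.not_le a res_PL (X := L ⊓ M₀) inf_le_left (RL_le_PL.trans (PL_le_of hv ((a.im_mono inf_le_left).trans a.eq.le)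
    (eT.ge.trans (a.im_mono (le_inf inf_le_right (inf_le_left.trans h.min.le)))) (a.θ_mem ⟨hg, hm⟩) k)) inf_le_right

theorem mem_of_line (hE : E ≤ L) (b : Blk p T E) (e : a.im E = RL F) (e₂ : a.im (Bm p T) = UL v) (hg : g ∈ E)
    (k : a.θ g v ∈ line v) : g ∈ cStarOf p T := by
  have hB := h.B_norm a model_lin res_PL
  have hf := h.core_eq a model_lin res_PL hE b e
  have l := pResidualOf_le p ((E ⊔ Bm p T) ⊓ a.cm (UL v))
  have n := (inf_le_right : (E ⊔ Bm p T) ⊓ a.cm (UL v) ≤ _).trans a.cm_le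
  have hP : IsPGroup p ↥((E ⊔ Bm p T) ⊓ a.cm (UL v)) := isPGroup_of_pResidualOf_le (pCoreOf_isPGroup p E)
    ((le_inf ((pResidualOf_mono inf_le_left).trans (pResidualOf_sup_le (h.syl.isPGroup.to_le (Bm_le p T)) b.B_norm))
      ((a.im_eq_bot_iff (l.trans n)).1 (by
        rw [a.im_res n, pResidualOf_eq_bot_of_isPGroup ((UL_isPGroup v).to_le
          (a.le_cm_iff.1 inf_le_right).2)]))).trans hf.le)
  refine NB_le_cStar (fun e => h.nc ((J_le_Bm p T).trans (e.le.trans bot_le))) ?_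
  rw [← Bm_eq_of_pgroup h.syl hP le_top (le_inf le_sup_right (a.le_cm_iff.2 ⟨hB.trans h.nn, e₂.le⟩))]
  have l' : E ⊓ a.cm N(UL v) ≤ N((E ⊔ Bm p T) ⊓ a.cm (UL v)) := le_normalizer_inf
    (inf_le_left.trans (le_sup_left.trans le_normalizer))
      (a.norm_cm (inf_le_right.trans a.cm_le) (a.le_cm_iff.1 inf_le_right).2)
  exact normalizer_le_normalizer_Bm p _ (l' (mem_inf.2 ⟨hg, a.mem_cm.2 ⟨a.norm (hE hg),
    norm_of_line hv (a.θ_mem' (hE hg)) k⟩⟩))

omit hv in
theorem fb_lin (a : ActS (PL F) L U Z) : ∃ E, Fb p T M₀ E ∧ WE p E = U := by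
  obtain ⟨-, E, hE, b, e⟩ := h.exists_lin a
  obtain ⟨v, hv, e₁, -, e₂⟩ := (h.pre a model_lin res_PL).lin_B h.syl.isPGroup h.U_le_T (h.B_norm a model_lin res_PL) h.nc
  have sb := h.sb a res_PL hE b e
  have hf := h.core_eq a model_lin res_PL hE b e
  have eT := h.im_TL a hv e₁
  have L₁ : ∀ g ∈ L, g ∈ M₀ → a.θ g v ∈ line v := fun g => h.line_of_mem a hv eT
  have L₂ : ∀ g ∈ E, a.θ g v ∈ line v → g ∈ cStarOf p T := fun g => h.mem_of_line a hv hE b e e₂
  let a' : ActS (RL F) E U Z := ⟨a.toSect, h.nn' hE, e⟩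
  refine ⟨E, ⟨sb, h.not_le a res_PL hE e.ge, fun g hg => L₂ g hg.2 (L₁ g (hE hg.2) hg.1), fun x hx k => ?_,
    cl7_lin a' hf (h.syl.inf_subnormalIn sb.sub) hv ((a.im_mono (inf_le_inf_left _ hE)).trans eT.le)
      inf_le_right fun g hg => ⟨fun k => L₁ g (hE hg) k.1, fun k => ⟨h.cStar_le (L₂ g hg k), hg⟩⟩, fun m ⟨φ⟩ => ?_⟩,
    (h.WE_eq a model_lin res_PL hE b e).1⟩
  · obtain ⟨y, hy, e₃⟩ := (a.mem_im' (inf_le_right.trans a.norm)).1 (eT.ge (tv_mem v 1))
    obtain ⟨γ, e₄⟩ := a.θ_mem' (hE hx)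
    have := L₁ _ (mul_mem (mul_mem (hE hx) hy.2) (inv_mem (hE hx))) (k y (h.min.le hy.1)
      (h.cent_other a model_lin res_PL hE b e hy.2))
    rw [a.θ_conj (a.norm (hE hx)) (a.norm hy.2), e₃, ← e₄, ← map_inv, ← map_mul, ← map_mul, conj_tv, toA_tv, mem_line,
      det2_add, det2_self, det2_smul, zero_add, one_mul, det2_swap, neg_mul, neg_eq_zero, mul_self_eq_zero, e₄] at this
    exact h.cStar_le (L₂ x hx this)
  · obtain ⟨ψ⟩ := ActS.iso (f := toA) (R := commutator SL(2, F)) a' toA_injective hf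
    exact deg_of_lin (F := F) (p := p) (((equivMapOfInjective (commutator SL(2, F)) toA toA_injective).symm.trans
      ψ.symm).trans φ)

end Lin

end Cp

omit hp in
theorem Cp.fb_sym (h : Cp 2 T M₀ L U Z) {n : ℕ} (a : ActS (PS (Fin (2 * 2 ^ n + 1))) L U Z) :
    ∃ E, Fb 2 T M₀ E ∧ WE 2 E = U := by
  have ho := odd_fin (2 ^ n)
  have h3 := three_le_fin (Nat.one_le_two_pow (n := n))
  obtain rfl := h.Z_bot ho h3 a
  obtain ⟨E, hE, b, e⟩ := h.exists_sym Nat.one_le_two_pow a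
  obtain ⟨z, hz⟩ := h.exists_z ho h3 a
  have m := model_sym ho h3
  have r := res_PS ho h3
  have hf := h.core_eq a m r hE b e
  refine ⟨E, ⟨h.sb a r hE b e, h.not_le a r hE e.ge, ((le_inf (inf_le_right.trans hE) inf_le_left).trans
    (h.le_cent ho h3 a hz)).trans le_sup_left, fun x hx k => ?_, cl7_sym ⟨a.toSect, h.nn' hE, e⟩ hf z
      fun g hg σ e' => (and_iff_left hg).trans (h.mem_iff ho h3 a hz (hE hg) e'), fun m ⟨φ⟩ => ?_⟩,
    (h.WE_eq a m r hE b e).1⟩
  · obtain ⟨σ, e₁⟩ := a.θ_mem' (hE hx)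
    refine (h.mem_iff ho h3 a hz (hE hx) e₁).2 (by_contra fun k' => ?_)
    obtain ⟨w, h₁, h₂⟩ := exists_third' h3 z (σ⁻¹ z)
    have k₁ : z ≠ σ⁻¹ z := fun e => k' (Perm.eq_inv_iff_eq.1 e)
    obtain ⟨y, hy, e₂⟩ := a.exists_θ ⟨swap (σ⁻¹ z) w, rfl⟩
    have := h.fix_of_mem ho h3 a hz (mul_mem (mul_mem (hE hx) hy) (inv_mem (hE hx))) (k y ((h.mem_iff ho h3 a hz hy
      e₂.symm).2 (swap_apply_of_ne_of_ne k₁ h₁.symm)) (h.cent_other a m r hE b e hy)) (σ := σ * swap (σ⁻¹ z) w * σ⁻¹)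
        (by rw [a.θ_conj (a.norm (hE hx)) (a.norm hy), e₂, ← e₁, map_mul, map_mul, map_inv])
    rw [Perm.mul_apply, Perm.mul_apply, swap_apply_left] at this
    exact h₂ (Perm.eq_inv_iff_eq.2 this)
  · obtain ⟨ψ⟩ := ActS.iso (f := toP) ⟨a.toSect, h.nn' hE, e⟩ (toP_injective ho) hf
    exact deg_of_alt (ψ.symm.trans φ)

theorem MP.exists_fb (h : MP p T M₀) : ∃ E, ∀ t ∈ T, Fb p T M₀ (E ^ᶜ t) := by
  obtain ⟨L, U, Z, c, k⟩ := h.exists_cp
  have key : ∀ t ∈ T, ∃ E, Fb p T M₀ E ∧ WE p E = U ^ᶜ t := fun t ht => by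
    rcases k with ⟨F, _, _, _, ⟨a⟩⟩ | ⟨rfl, n, ⟨a⟩⟩
    · exact (a.map (MulAut.conj t).injective).elim fun a' => (c.conj' ht).fb_lin a'
    · exact (a.map (MulAut.conj t).injective).elim fun a' => (c.conj' ht).fb_sym a'
  obtain ⟨E, h₁, h₂⟩ := key 1 (one_mem _)
  refine ⟨E, fun t ht => ?_⟩
  obtain ⟨E', h₃, h₄⟩ := key t ht
  refine ((h₁.sb.conj t).eq_or_comm h.hG h₃.sb).elim (fun e => e ▸ h₃) fun e => absurd ?_
    ((h₁.sb.conj t).blk h.hG h.syl).not_cent
  rw [← conj_WE, h₂, conj_one, ← h₄]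
  exact (cent_of_comm_bot' e).trans (centralizer_anti (WE_le_E p E'))

theorem MP.main (h : MP p T M₀) : ∃ 𝓑 : Set (Subgroup G), HasBaumannBlockStructure p T 𝓑 ∧
    (∀ E ∈ 𝓑, ∀ m : ℕ, Nonempty (↥E ⧸ pCore p ↥E ≃* ↥(alternatingGroup (Fin (2 * m + 1)))) →
      ∃ n : ℕ, 2 * m + 1 = 2 ^ n + 1) ∧ cStarOf p T = (cStarOf p T ⊓ sSup 𝓑) ⊔ T := by
  obtain ⟨E₀, h₀⟩ := h.exists_fb
  have s₀ : SB p E₀ := conj_one E₀ ▸ (h₀ 1 (one_mem _)).sb
  let 𝓑 : Set (Subgroup G) := Set.range fun g => E₀ ^ᶜ g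
  have sb : ∀ E ∈ 𝓑, SB p E := by rintro _ ⟨g, rfl⟩; exact s₀.conj g
  have cj : ∀ E ∈ 𝓑, ∀ g, E ^ᶜ g ∈ 𝓑 := by rintro _ ⟨g, rfl⟩ g'; exact ⟨_, (conj_conj _ _ _).symm⟩
  have cm : ∀ E ∈ 𝓑, ∀ E' ∈ 𝓑, E ≠ E' → ⁅E, E'⁆ = ⊥ := fun E hE E' hE' =>
    ((sb E hE).eq_or_comm h.hG (sb E' hE')).resolve_left
  have nK : ∀ X : Subgroup G, X ≤ N((sSup 𝓑 : Subgroup G)) := fun X => le_normalizer_iff_conj_le.2 fun g _ => by
    rw [sSup_range, conj_iSup]
    exact iSup_le fun g' => (conj_conj _ _ _).le.trans (le_iSup (fun g => E₀ ^ᶜ g) _)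
  have m₀ : E₀ ∈ 𝓑 := ⟨1, conj_one _⟩
  have top : T ⊔ sSup 𝓑 = ⊤ := h.min.eq_of_not_le le_sup_left le_top fun k =>
    (h₀ 1 (one_mem _)).notM ((conj_one E₀).le.trans ((le_sSup m₀).trans (le_sup_right.trans k)))
  have fb : ∀ E ∈ 𝓑, Fb p T M₀ E := by
    rintro _ ⟨g, rfl⟩
    obtain ⟨t, ht, k, hk, rfl⟩ := (mem_sup_iff_of_le_normalizer (nK T)).1 (top.ge (mem_top g))
    have : sSup 𝓑 ≤ N(E₀) := sSup_le fun E hE => (eq_or_ne E E₀).elim (fun e => e ▸ le_normalizer)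
      fun e => le_normalizer_of_le_centralizer (cent_of_comm_bot' (cm E hE E₀ m₀ e))
    change Fb p T M₀ (E₀ ^ᶜ (t * k))
    rw [← conj_conj, conj_eq_of_mem_normalizer (this hk)]
    exact h₀ t ht
  have lT : T ≤ cStarOf p T := (le_centralizer_omegaOneCenter p T).trans le_sup_left
  have eC : ∀ E ∈ 𝓑, cStarOf p T ⊓ E = M₀ ⊓ E := fun E hE =>
    le_antisymm (inf_le_inf_right _ h.cStar_le) (le_inf (fb E hE).low inf_le_right)
  have QM := h.syl.pCore_le.trans h.min.le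
  have key : ∀ s : Set (Subgroup G), s.Finite → s ⊆ 𝓑 → ∀ x ∈ sSup s, x ∈ M₀ → x ∈ ⨆ E ∈ 𝓑, cStarOf p T ⊓ E :=
    fun s hs => by
    induction s, hs using Set.Finite.induction_on with
    | empty => exact fun _ x hx _ => by rw [sSup_empty, mem_bot] at hx; exact hx ▸ one_mem _
    | @insert E s hn _ ih =>
      intro hs x hx hm
      have hE := hs (Set.mem_insert E s)
      have hs' := (Set.subset_insert E s).trans hs
      have ne : ∀ E' ∈ s, E ≠ E' := fun E' h' e => hn (e ▸ h')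
      rw [sSup_insert] at hx
      obtain ⟨e, he, y, hy, rfl⟩ := (mem_sup_iff_of_le_normalizer' (le_normalizer_of_le_centralizer
        (sSup_le fun E' h' => cent_of_comm_bot (cm E hE E' (hs' h') (ne E' h'))))).1 hx
      have k : e ∈ M₀ := (fb E hE).self e he fun m hm' k => by
        have l : sSup s ≤ rel (pCore p G) (zpowers m) := sSup_le fun E' h' => by
          have b := (sb E' (hs' h')).blk h.hG h.syl
          obtain ⟨g, rfl⟩ := hE
          obtain ⟨g', rfl⟩ := hs' h'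
          have c := k (g' * g⁻¹)
          rw [conj_conj, inv_mul_cancel_right] at c
          have c := zpowers_le_of_mem (c (ne _ h').symm)
          exact le_rel_iff.2 ⟨nQ p _, (le_inf (commutator_le_right_of_le_normalizer (c.trans (b.cent_le_norm h.syl h.hG)))
            ((commutator_mono c le_rfl).trans (commutator_le_left_of_le_normalizer (le_normalizer.trans
              (norm_C p _))))).trans (b.faith'.trans (sb _ (hs' h')).U_le)⟩
        have := mul_mem (QM (cQ e ((mem_rel.1 (l hy)).2 m (mem_zpowers m)))) (mul_mem (mul_mem hm hm') (inv_mem hm))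
        rwa [show e * ⁅m, y⁆ * e⁻¹ * (e * y * m * (e * y)⁻¹) = e * m * e⁻¹ by rw [commutatorElement_def]; group] at this
      exact mul_mem (le_iSup₂_of_le (f := fun E (_ : E ∈ 𝓑) => cStarOf p T ⊓ E) E hE (eC E hE).ge ⟨k, he⟩)
        (ih hs' y hy ((mul_mem_cancel_left k).1 hm))
  refine ⟨𝓑, ⟨fun E hE => blk_iff.2 ((sb E hE).blk h.hG h.syl), cj, cm, eq_top_iff.2 (top.ge.trans
    (sup_le_sup_right lT _)), fun F hF _ => ?_, le_antisymm (fun x hx => key 𝓑 (Set.toFinite _) subset_rfl x hx.2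
      (h.cStar_le hx.1)) (iSup₂_le fun E hE => inf_le_inf_left _ (le_sSup hE)), fun E hE => ?_⟩,
    fun E hE => (fb E hE).deg, ?_⟩
  · have b := blk_iff.1 hF
    by_contra k
    have l : F ≤ sSup 𝓑 := b.res.ge.trans ((pResidualOf_mono (le_top.trans (top.ge.trans (sup_comm _ _).le))).trans
      (pResidualOf_sup_le h.syl.isPGroup (nK T)))
    exact b.not_cent ((l.trans (sSup_le fun E hE => cent_of_comm_bot (((sb E hE).le_or_comm h.hG h.syl b).resolve_left
      fun e => k ⟨E, hE, e⟩))).trans (centralizer_anti (WE_le_E p F)))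
  · have := (fb E hE).cl
    rwa [← eC E hE] at this
  · rw [sup_comm, inf_comm, ← sup_inf_of_le_normalizer (nK T) lT, top, top_inf_eq]

end Cfsg.Agent.Lib.Blk
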