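import Cfsg.Agent.Lib.BlkSec
import Cfsg.Agent.Lib.SL2Nat
import Cfsg.Agent.Lib.SL2Mod
import Mathlib.LinearAlgebra.Projectivization.PSL.PSL2

/-! Abstract properties of the natural modules of blocks, and the linear model. -/

set_option autoImplicit false
open Cfsg

namespace Cfsg.Agent.Lib.Blk

open Subgroup Cfsg.Agent.Lib.PCoreConj Cfsg.Agent.Lib.PCore Cfsg.Agent.Lib.PCoreResidual
open Cfsg.Agent.Lib.PushBase Cfsg.Agent.Lib.SL2Nat Matrix
open scoped Pointwise commutatorElement MatrixGroups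

section Model
variable {M : Type*} [AddCommGroup M]

/-- The quasisimple case. -/
structure Perf (p : ℕ) (R : Subgroup (AutM M)) : Prop where
  perf : ⁅R, R⁆ = R
  quasi : ∀ K, K ≤ R → R ≤ N(K) → R ≤ K ∨ ⁅K, R⁆ = ⊥
  elt : ∃ r ∈ R, r ≠ 1 ∧ r ^ p = 1

/-- The intrinsic description of the two small groups. -/
def SmallP (p : ℕ) (r : AutM M) : Prop := (p = 2 ∧ r ^ 3 = 1) ∨ (p = 3 ∧ (r = 1 ∨ r = negA M ∨ r ^ 2 = negA M))

/-- The solvable case. -/
structure Small (p : ℕ) (R : Subgroup (AutM M)) : Prop where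
  card : Nat.card M = p ^ 2
  mem : ∀ r, r ∈ R ↔ SmallP p r

/-- The common properties of the natural modules. -/
structure Model (p : ℕ) (R : Subgroup (AutM M)) : Prop where
  fin : Finite M
  tors : ∀ m : M, p • m = 0
  irr : ∀ A : AddSubgroup M, (∀ r ∈ R, ∀ m ∈ A, r m ∈ A) → A = ⊥ ∨ A = ⊤
  big : 2 < Nat.card R
  sq : p ^ 2 ≤ Nat.card M
  cases : Perf p R ∨ Small p R
  k1 : ∀ A : Subgroup (AutM M), A ≤ N(R) → IsElementaryAbelian p A → Nat.card A * Nat.card (fixM A) ≤ Nat.card M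

theorem card_le_of_fiber {H β : Type*} [Group H] {X Y : Subgroup H} [Finite X] [Finite β] (f : X → β)
    (h : ∀ a b : X, f a = f b → (a : H)⁻¹ * b ∈ Y) : Nat.card X ≤ Nat.card ↥(X ⊓ Y) * Nat.card β := by
  haveI : Finite ↥(X ⊓ Y) := finite_of_le (inf_le_left : _ ≤ X)
  rw [← Nat.card_prod]
  let c : β → X := Function.invFun f
  have hc : ∀ a, f (c (f a)) = f a := fun a => Function.invFun_eq ⟨a, rfl⟩
  refine Nat.card_le_card_of_injective (fun a : X => ((⟨(c (f a) : H)⁻¹ * a, X.mul_mem (X.inv_mem (c _).2) a.2,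
    h _ _ (hc a)⟩ : ↥(X ⊓ Y)), f a)) fun a b e => ?_
  have e₂ : f a = f b := congrArg Prod.snd e
  have e₁ : (c (f a) : H)⁻¹ * a = (c (f b) : H)⁻¹ * b := congrArg (fun x => (x.1 : H)) e
  rw [e₂] at e₁
  exact Subtype.ext (mul_left_cancel e₁)

theorem two_lt_card {R : Subgroup (AutM M)} [Finite M] {a b c v : M} (hab : a ≠ b) (hac : a ≠ c) (hbc : b ≠ c)
    (ha : ∃ r ∈ R, r v = a) (hb : ∃ r ∈ R, r v = b) (hc : ∃ r ∈ R, r v = c) : 2 < Nat.card R := by
  obtain ⟨r, hr, rfl⟩ := ha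
  obtain ⟨s, hs, rfl⟩ := hb
  obtain ⟨t, ht, rfl⟩ := hc
  haveI := Fintype.ofFinite R
  rw [Nat.card_eq_fintype_card, Fintype.two_lt_card_iff]
  refine ⟨⟨r, hr⟩, ⟨s, hs⟩, ⟨t, ht⟩, fun e => hab ?_, fun e => hac ?_, fun e => hbc ?_⟩ <;>
    rw [Subtype.mk.injEq] at e <;> rw [e]

theorem SmallP.pow {p : ℕ} {r : AutM M} (h : SmallP p r) : ∃ n, n.Coprime p ∧ r ^ n = 1 := by
  have e : negA M ^ 2 = 1 := aut_ext fun m => by simp [pow_two, aut_mul]
  rcases h with ⟨rfl, h⟩ | ⟨rfl, h⟩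
  · exact ⟨3, by decide, h⟩
  · refine ⟨4, by decide, ?_⟩
    rcases h with rfl | rfl | h
    · exact one_pow _
    · rw [show 4 = 2 * 2 from rfl, pow_mul, e, one_pow]
    · rw [show 4 = 2 * 2 from rfl, pow_mul, h, e]

theorem Small.eq_one {p : ℕ} {R : Subgroup (AutM M)} (h : Small p R) {r : AutM M} (hr : r ∈ R) {k : ℕ}
    (e : r ^ p ^ k = 1) : r = 1 := by
  obtain ⟨n, hn, e'⟩ := ((h.mem r).1 hr).pow
  exact eq_one_of_coprime_of_pow_eq_one (hn.coprime_dvd_left (orderOf_dvd_of_pow_eq_one e')) e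

end Model

section Lin
variable {F : Type*} [Field F]

/-- `SL₂(F)` acting on its natural module. -/
def toA : SL(2, F) →* AutM (Fin 2 → F) := DistribMulAction.toModuleAut ℤ (Fin 2 → F)

theorem toA_apply (g : SL(2, F)) (m : Fin 2 → F) : toA g m = g.1 *ᵥ m := rfl

theorem toA_zero (g : SL(2, F)) (m : Fin 2 → F) : toA g m 0 = g.1 0 0 * m 0 + g.1 0 1 * m 1 :=
  SL2Mod.sl_smul_zero g m

theorem toA_one (g : SL(2, F)) (m : Fin 2 → F) : toA g m 1 = g.1 1 0 * m 0 + g.1 1 1 * m 1 :=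
  SL2Mod.sl_smul_one g m

theorem toA_injective : Function.Injective (toA : SL(2, F) →* _) := fun _ _ e =>
  SL2Mod.sl_eq_of_mulVec fun c => congrArg (fun r : AutM (Fin 2 → F) => r c) e

theorem vec_ext {u v : Fin 2 → F} (h₀ : u 0 = v 0) (h₁ : u 1 = v 1) : u = v := by
  funext i
  fin_cases i
  exacts [h₀, h₁]

theorem toA_mk (a b c d : F) (h : (!![a, b; c, d] : Matrix (Fin 2) (Fin 2) F).det = 1) (m : Fin 2 → F) :
    toA ⟨!![a, b; c, d], h⟩ m = ![a * m 0 + b * m 1, c * m 0 + d * m 1] := by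
  refine vec_ext ?_ ?_
  · exact (toA_zero _ _).trans (by simp)
  · exact (toA_one _ _).trans (by simp)

theorem toA_neg_one : toA (-1 : SL(2, F)) = negA _ := aut_ext fun m => by
  refine vec_ext ?_ ?_ <;> simp [toA_zero, toA_one]

variable (F) in
/-- The image of `SL₂(F)`. -/
def PL : Subgroup (AutM (Fin 2 → F)) := (toA : SL(2, F) →* _).range

variable (F) in
/-- The image of the derived group of `SL₂(F)`. -/
def RL : Subgroup (AutM (Fin 2 → F)) := (commutator SL(2, F)).map toA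

theorem RL_le_PL : RL F ≤ PL F := map_le_range _ _

theorem PL_le_norm : PL F ≤ N(RL F) := by
  rw [PL, MonoidHom.range_eq_map]
  exact le_normalizer_map _ (normal_iff_top_le.1 inferInstance)

/-- The determinant form. -/
def det2 (u v : Fin 2 → F) : F := u 0 * v 1 - u 1 * v 0

theorem det2_add (u v w : Fin 2 → F) : det2 u (v + w) = det2 u v + det2 u w := by simp [det2]; ring

theorem det2_sub (u v w : Fin 2 → F) : det2 u (v - w) = det2 u v - det2 u w := by simp [det2]; ring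

theorem det2_smul (u v : Fin 2 → F) (a : F) : det2 u (a • v) = a * det2 u v := by simp [det2]; ring

theorem det2_neg (u v : Fin 2 → F) : det2 u (-v) = -det2 u v := by simp [det2]; ring

theorem add_det2 (u v w : Fin 2 → F) : det2 (u + v) w = det2 u w + det2 v w := by simp [det2]; ring

theorem smul_det2 (u v : Fin 2 → F) (a : F) : det2 (a • u) v = a * det2 u v := by simp [det2]; ring

theorem det2_self (u : Fin 2 → F) : det2 u u = 0 := by simp [det2]; ring

theorem det2_zero (u : Fin 2 → F) : det2 u 0 = 0 := by simp [det2]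

theorem det2_swap (u v : Fin 2 → F) : det2 u v = -det2 v u := by simp [det2]; ring

theorem det2_toA (g : SL(2, F)) (u v : Fin 2 → F) : det2 (toA g u) (toA g v) = det2 u v := by
  have := det_eq g
  simp only [det2, toA_zero, toA_one]
  linear_combination (u 0 * v 1 - u 1 * v 0) * this

theorem ne_zero_iff {v : Fin 2 → F} : v ≠ 0 ↔ v 0 ≠ 0 ∨ v 1 ≠ 0 := by
  rw [← not_and_or, Ne, not_iff_not]
  exact ⟨fun h => h ▸ ⟨rfl, rfl⟩, fun h => vec_ext h.1 h.2⟩

theorem exists_det2 {v : Fin 2 → F} (hv : v ≠ 0) : ∃ w, det2 v w = 1 := by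
  rcases ne_zero_iff.1 hv with h | h
  · exact ⟨![0, (v 0)⁻¹], by simp [det2, h]⟩
  · exact ⟨![-(v 1)⁻¹, 0], by simp [det2, h]⟩

theorem decomp {v w : Fin 2 → F} (h : det2 v w = 1) (m : Fin 2 → F) : m = det2 m w • v + det2 v m • w := by
  simp only [det2] at h
  refine vec_ext ?_ ?_ <;> simp only [det2, Pi.add_apply, Pi.smul_apply, smul_eq_mul]
  · linear_combination (-m 0) * h
  · linear_combination (-m 1) * h

theorem eq_zero_of_det2 {m : Fin 2 → F} (h : ∀ u, det2 u m = 0) : m = 0 := by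
  have h₀ := h ![0, 1]
  have h₁ := h ![1, 0]
  simp [det2] at h₀ h₁
  exact vec_ext h₀ h₁

theorem eq_of_det2 {m n : Fin 2 → F} (h : ∀ u, det2 u m = det2 u n) : m = n :=
  sub_eq_zero.1 (eq_zero_of_det2 fun u => by rw [det2_sub, h, sub_self])

theorem smul_cancel {v : Fin 2 → F} (hv : v ≠ 0) {a b : F} (h : a • v = b • v) : a = b :=
  smul_left_injective F hv h

/-- The line spanned by a vector. -/
def line (v : Fin 2 → F) : AddSubgroup (Fin 2 → F) where
  carrier := {m | det2 v m = 0}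
  zero_mem' := det2_zero v
  add_mem' {a b} ha hb := by
    change det2 v (a + b) = 0
    rw [det2_add, show det2 v a = 0 from ha, show det2 v b = 0 from hb, add_zero]
  neg_mem' {a} ha := by
    change det2 v (-a) = 0
    rw [det2_neg, show det2 v a = 0 from ha, neg_zero]

theorem mem_line {v m : Fin 2 → F} : m ∈ line v ↔ det2 v m = 0 := Iff.rfl

theorem smul_mem_line (v : Fin 2 → F) (a : F) : a • v ∈ line v := by rw [mem_line, det2_smul, det2_self, mul_zero]

theorem self_mem_line (v : Fin 2 → F) : v ∈ line v := det2_self v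

theorem mem_line_iff {v m : Fin 2 → F} (hv : v ≠ 0) : m ∈ line v ↔ ∃ a : F, m = a • v := by
  refine ⟨fun h => ?_, fun ⟨a, e⟩ => e ▸ smul_mem_line v a⟩
  obtain ⟨w, hw⟩ := exists_det2 hv
  exact ⟨_, by simpa [mem_line.1 h] using decomp hw m⟩

theorem line_ne_top {v : Fin 2 → F} (hv : v ≠ 0) : line v ≠ ⊤ := fun e => by
  obtain ⟨w, hw⟩ := exists_det2 hv
  have : w ∈ line v := e ▸ AddSubgroup.mem_top w
  exact one_ne_zero (hw.symm.trans this)

theorem card_line {v : Fin 2 → F} (hv : v ≠ 0) : Nat.card (line v) = Nat.card F :=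
  (Nat.card_congr (Equiv.ofBijective (fun a : F => (⟨a • v, smul_mem_line v a⟩ : line v))
    ⟨fun _ _ e => smul_cancel hv (congrArg Subtype.val e), fun m => by
      obtain ⟨a, e⟩ := (mem_line_iff hv).1 m.2
      exact ⟨a, Subtype.ext e.symm⟩⟩)).symm

theorem line_eq {v w : Fin 2 → F} (hv : v ≠ 0) (hw : w ≠ 0) (h : w ∈ line v) : line w = line v := by
  obtain ⟨a, rfl⟩ := (mem_line_iff hv).1 h
  have ha : a ≠ 0 := fun e => hw (by rw [e, zero_smul])
  ext m
  rw [mem_line, mem_line, smul_det2, mul_eq_zero, or_iff_right ha]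

/-- Transvections with a given axis. -/
def tv (v : Fin 2 → F) (s : F) : SL(2, F) :=
  ⟨!![1 - s * v 0 * v 1, s * v 0 ^ 2; -(s * v 1 ^ 2), 1 + s * v 0 * v 1], by rw [det_fin_two_of]; ring⟩

theorem toA_tv (v : Fin 2 → F) (s : F) (m : Fin 2 → F) : toA (tv v s) m = m + (s * det2 v m) • v := by
  rw [tv, toA_mk]
  refine vec_ext ?_ ?_ <;> simp [det2] <;> ring

theorem toA_smul (g : SL(2, F)) (a : F) (m : Fin 2 → F) : toA g (a • m) = a • toA g m := by
  rw [toA_apply, toA_apply, mulVec_smul]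

theorem conj_tv (g : SL(2, F)) (v : Fin 2 → F) (s : F) : g * tv v s * g⁻¹ = tv (toA g v) s :=
  toA_injective (aut_ext fun m => by
    rw [map_mul, map_mul, aut_mul, aut_mul, toA_tv, toA_tv, map_add, toA_smul, ← det2_toA g v, map_inv,
      aut_apply_inv])

theorem tv_add (v : Fin 2 → F) (s t : F) : tv v (s + t) = tv v s * tv v t :=
  toA_injective (aut_ext fun m => by
    rw [map_mul, aut_mul, toA_tv, toA_tv, toA_tv, det2_add, det2_smul, det2_self]
    module)

theorem tv_zero (v : Fin 2 → F) : tv v 0 = 1 := toA_injective (aut_ext fun m => by simp [toA_tv])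

theorem tv_pow (v : Fin 2 → F) (s : F) (n : ℕ) : tv v s ^ n = tv v (n * s) := by
  induction n with
  | zero => simp [tv_zero]
  | succ n ih => rw [pow_succ, ih, ← tv_add]; congr 1; push_cast; ring

/-- The group of transvections with a given axis. -/
def UL (v : Fin 2 → F) : Subgroup (AutM (Fin 2 → F)) where
  carrier := {r | ∃ s, toA (tv v s) = r}
  one_mem' := ⟨0, by rw [tv_zero, map_one]⟩
  mul_mem' := by
    rintro _ _ ⟨s, rfl⟩ ⟨t, rfl⟩
    exact ⟨s + t, by rw [tv_add, map_mul]⟩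
  inv_mem' := by
    rintro _ ⟨s, rfl⟩
    exact ⟨-s, by rw [← map_inv, eq_inv_of_mul_eq_one_left (a := tv v (-s)) (b := tv v s)
      (by rw [← tv_add, neg_add_cancel, tv_zero])]⟩

theorem mem_UL {v : Fin 2 → F} {r : AutM (Fin 2 → F)} : r ∈ UL v ↔ ∃ s, ∀ m, r m = m + (s * det2 v m) • v :=
  exists_congr fun s => ⟨fun e m => e ▸ toA_tv v s m, fun h => aut_ext fun m => by rw [h, toA_tv]⟩

theorem tv_mem (v : Fin 2 → F) (s : F) : toA (tv v s) ∈ UL v := ⟨s, rfl⟩

theorem UL_le_PL (v : Fin 2 → F) : UL v ≤ PL F := fun _ ⟨s, e⟩ => ⟨tv v s, e⟩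

theorem UL_fix {v m : Fin 2 → F} {r : AutM (Fin 2 → F)} (hr : r ∈ UL v) (hm : m ∈ line v) : r m = m := by
  obtain ⟨s, h⟩ := mem_UL.1 hr
  rw [h, mem_line.1 hm, mul_zero, zero_smul, add_zero]

theorem UL_sub {v : Fin 2 → F} {r : AutM (Fin 2 → F)} (hr : r ∈ UL v) (m : Fin 2 → F) : m - r m ∈ line v := by
  obtain ⟨s, h⟩ := mem_UL.1 hr
  rw [h, sub_add_cancel_left]
  exact neg_mem (smul_mem_line _ _)

theorem mem_line_of_fix {v m : Fin 2 → F} (hv : v ≠ 0) {r : AutM (Fin 2 → F)} (hr : r ∈ UL v) (h1 : r ≠ 1)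
    (hm : r m = m) : m ∈ line v := by
  obtain ⟨s, h⟩ := mem_UL.1 hr
  rw [h, add_eq_left, smul_eq_zero, or_iff_left hv, mul_eq_zero] at hm
  exact hm.resolve_left fun e => h1 (aut_ext fun n => by rw [h, e, zero_mul, zero_smul, add_zero, aut_one])

theorem tv_ne_one {v : Fin 2 → F} (hv : v ≠ 0) {s : F} (hs : s ≠ 0) : toA (tv v s) ≠ 1 := fun e => by
  obtain ⟨w, hw⟩ := exists_det2 hv
  have := toA_tv v s w
  rw [e, aut_one, left_eq_add, hw, mul_one, smul_eq_zero] at this
  exact this.elim hs hv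

theorem fix_UL {v : Fin 2 → F} (hv : v ≠ 0) : fixM (UL v) = line v :=
  le_antisymm (fun _ hm => mem_line_of_fix hv (tv_mem v 1) (tv_ne_one hv one_ne_zero) (hm _ (tv_mem v 1)))
    fun _ hm _ hr => UL_fix hr hm

theorem UL_eq {v w : Fin 2 → F} (hv : v ≠ 0) (hw : w ≠ 0) (h : w ∈ line v) : UL w = UL v := by
  have key : ∀ (u : Fin 2 → F) (a : F), UL (a • u) ≤ UL u := fun u a r hr => by
    obtain ⟨s, h⟩ := mem_UL.1 hr
    exact mem_UL.2 ⟨s * a * a, fun m => by rw [h, smul_det2, smul_smul]; congr 2; ring⟩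
  obtain ⟨a, rfl⟩ := (mem_line_iff hv).1 h
  have ha : a ≠ 0 := fun e => hw (by rw [e, zero_smul])
  refine le_antisymm (key v a) ?_
  have := key (a • v) a⁻¹
  rwa [smul_smul, inv_mul_cancel₀ ha, one_smul] at this

theorem card_UL {v : Fin 2 → F} (hv : v ≠ 0) : Nat.card (UL v) = Nat.card F :=
  (Nat.card_congr (Equiv.ofBijective (fun s : F => (⟨_, tv_mem v s⟩ : UL v))
    ⟨fun s t e => by
      obtain ⟨w, hw⟩ := exists_det2 hv
      have := congrArg (fun r : UL v => (r : AutM (Fin 2 → F)) w) e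
      simp only [toA_tv, hw, mul_one, add_right_inj] at this
      exact smul_cancel hv this, fun ⟨_, s, e⟩ => ⟨s, Subtype.ext e⟩⟩)).symm

theorem conj_UL (g : SL(2, F)) (v : Fin 2 → F) : (UL v) ^ᶜ (toA g) = UL (toA g v) := by
  ext r
  rw [mem_conj_iff']
  refine ⟨?_, fun ⟨s, e⟩ => ⟨_, tv_mem v s, ?_⟩⟩
  · rintro ⟨_, ⟨s, rfl⟩, rfl⟩
    exact ⟨s, by rw [← conj_tv, map_mul, map_mul, map_inv]⟩
  · rw [← e, ← conj_tv, map_mul, map_mul, map_inv]

theorem exists_SL {v : Fin 2 → F} (hv : v ≠ 0) : ∃ g : SL(2, F), toA g ![1, 0] = v := by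
  obtain ⟨w, hw⟩ := exists_det2 hv
  refine ⟨⟨!![v 0, w 0; v 1, w 1], by rw [det_fin_two_of, ← hw, det2]; ring⟩, ?_⟩
  rw [toA_mk]
  refine vec_ext ?_ ?_ <;> simp

theorem e0_ne : (![1, 0] : Fin 2 → F) ≠ 0 := ne_zero_iff.2 (Or.inl (by simp))

theorem e1_ne : (![0, 1] : Fin 2 → F) ≠ 0 := ne_zero_iff.2 (Or.inr (by simp))

theorem exists_SL' {v w : Fin 2 → F} (hv : v ≠ 0) (hw : w ≠ 0) : ∃ g : SL(2, F), toA g v = w := by
  obtain ⟨g, rfl⟩ := exists_SL hv
  obtain ⟨h, rfl⟩ := exists_SL hw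
  exact ⟨h * g⁻¹, by rw [← aut_mul, ← map_mul, inv_mul_cancel_right]⟩

theorem exists_tv_comm {v : Fin 2 → F} (hv : v ≠ 0) (g : SL(2, F)) : ∃ s, g * (tv v s)⁻¹ ∈ commutator SL(2, F) := by
  have key : ∀ {w : Fin 2 → F}, w ≠ 0 → ∀ s, Abelianization.of (tv w s) = Abelianization.of (tv v s) := fun hw s => by
    obtain ⟨h, rfl⟩ := exists_SL' hv hw
    rw [← conj_tv, map_mul, map_mul, map_inv, mul_inv_cancel_comm]
  suffices ∃ s, Abelianization.of g = Abelianization.of (tv v s) by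
    obtain ⟨s, h⟩ := this
    exact ⟨s, by rw [← Abelianization.ker_of, MonoidHom.mem_ker, map_mul, map_inv, h, mul_inv_cancel]⟩
  refine SL2Mod.sl2_induction (fun g => ∃ s, Abelianization.of g = Abelianization.of (tv v s)) (fun c => ⟨c, ?_⟩)
    (fun c => ⟨-c, ?_⟩) (fun A B ⟨s, hs⟩ ⟨t, ht⟩ => ⟨s + t, by rw [map_mul, hs, ht, tv_add, map_mul]⟩) g
  · rw [← key e0_ne]
    refine congrArg _ (SL2Mod.sl_eq_of_mulVec fun m => ?_)
    rw [SL2Mod.transvection01_mulVec]
    refine Eq.trans ?_ (toA_tv _ _ _).symm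
    refine vec_ext ?_ ?_ <;> simp [det2]
  · rw [← key e1_ne]
    refine congrArg _ (SL2Mod.sl_eq_of_mulVec fun m => ?_)
    rw [SL2Mod.transvection10_mulVec]
    refine Eq.trans ?_ (toA_tv _ _ _).symm
    refine vec_ext ?_ ?_ <;> simp [det2]

theorem PL_le_sup {v : Fin 2 → F} (hv : v ≠ 0) {r : AutM (Fin 2 → F)} (hr : r ∈ PL F) :
    ∃ c ∈ RL F, ∃ u ∈ UL v, c * u = r := by
  obtain ⟨g, rfl⟩ := hr
  obtain ⟨s, h⟩ := exists_tv_comm hv g
  exact ⟨_, mem_map_of_mem _ h, _, tv_mem v s, by rw [← map_mul, inv_mul_cancel_right]⟩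

theorem RL_trans {v w : Fin 2 → F} (hv : v ≠ 0) (hw : w ≠ 0) : ∃ r ∈ RL F, r v = w := by
  obtain ⟨g, rfl⟩ := exists_SL' hv hw
  obtain ⟨c, hc, u, hu, e⟩ := PL_le_sup hv (⟨g, rfl⟩ : toA g ∈ PL F)
  exact ⟨c, hc, by rw [← e, aut_mul, UL_fix hu (self_mem_line v)]⟩

theorem RL_irr (A : AddSubgroup (Fin 2 → F)) (h : ∀ r ∈ RL F, ∀ m ∈ A, r m ∈ A) : A = ⊥ ∨ A = ⊤ := by
  refine (AddSubgroup.bot_or_exists_ne_zero A).imp_right fun ⟨v, hv, h0⟩ => eq_top_iff.2 fun w _ => ?_
  by_cases hw : w = 0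
  · exact hw ▸ A.zero_mem
  · obtain ⟨r, hr, rfl⟩ := RL_trans h0 hw
    exact h r hr v hv

variable (F) in
/-- Linear automorphisms. -/
def LinA : Subgroup (AutM (Fin 2 → F)) where
  carrier := {r | ∀ (a : F) m, r (a • m) = a • r m}
  one_mem' _ _ := rfl
  mul_mem' ha hb c m := by rw [aut_mul, aut_mul, hb, ha]
  inv_mem' {r} hr c m := by
    conv_lhs => rw [← aut_apply_inv r m, ← hr, aut_inv_apply]

theorem mem_LinA {r : AutM (Fin 2 → F)} : r ∈ LinA F ↔ ∀ (a : F) m, r (a • m) = a • r m := Iff.rfl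

theorem PL_le_LinA : PL F ≤ LinA F := by
  rintro _ ⟨g, rfl⟩
  exact toA_smul g

theorem basis_eq (m : Fin 2 → F) : m = m 0 • ![1, 0] + m 1 • ![0, 1] := by
  refine vec_ext ?_ ?_ <;> simp

theorem mem_PL_of {r : AutM (Fin 2 → F)} (hr : r ∈ LinA F) (hd : det2 (r ![1, 0]) (r ![0, 1]) = 1) : r ∈ PL F := by
  refine ⟨⟨!![r ![1, 0] 0, r ![0, 1] 0; r ![1, 0] 1, r ![0, 1] 1], by rw [det_fin_two_of, mul_comm (r ![0, 1] 0)]; exact hd⟩,
    aut_ext fun m => ?_⟩
  rw [toA_mk]
  conv_rhs => rw [basis_eq m, map_add, hr, hr]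
  refine vec_ext ?_ ?_ <;> simp <;> ring

/-- Scalar multiplication by a unit. -/
def IsScal (r : AutM (Fin 2 → F)) : Prop := ∃ c : F, ∀ m, r m = c • m

variable {p : ℕ} [hp : Fact p.Prime] [CharP F p]

omit hp in
theorem tv_pow_char (v : Fin 2 → F) (s : F) : tv v s ^ p = 1 := by
  rw [tv_pow, CharP.cast_eq_zero, zero_mul, tv_zero]

omit hp in
theorem UL_pow {v : Fin 2 → F} {r : AutM (Fin 2 → F)} (hr : r ∈ UL v) : r ^ p = 1 := by
  obtain ⟨s, rfl⟩ := hr
  rw [← map_pow, tv_pow_char, map_one]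

omit hp in
theorem UL_isPGroup (v : Fin 2 → F) : IsPGroup p (UL v) :=
  isPGroup_iff_forall_mem.2 fun _ hr => ⟨1, by rw [pow_one, UL_pow hr]⟩

omit hp in
theorem mem_commutator_of_coprime {g : SL(2, F)} (h : (orderOf g).Coprime p) : g ∈ commutator SL(2, F) := by
  obtain ⟨s, hs⟩ := exists_tv_comm e0_ne g
  refine mem_of_pow_mem_of_coprime h ?_
  rw [← Abelianization.ker_of, MonoidHom.mem_ker] at hs ⊢
  rw [map_mul, map_inv, mul_inv_eq_one] at hs
  rw [map_pow, hs, ← map_pow, tv_pow_char, map_one]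

omit hp in
theorem mem_RL_of_coprime {r : AutM (Fin 2 → F)} (hr : r ∈ PL F) (h : (orderOf r).Coprime p) : r ∈ RL F := by
  obtain ⟨g, rfl⟩ := hr
  rw [orderOf_injective _ toA_injective] at h
  exact mem_map_of_mem _ (mem_commutator_of_coprime h)

omit hp in
theorem mem_RL_of_pow {r : AutM (Fin 2 → F)} (hr : r ∈ PL F) {n : ℕ} (hn : n.Coprime p) (h : r ^ n = 1) : r ∈ RL F :=
  mem_RL_of_coprime hr (hn.coprime_dvd_left (orderOf_dvd_of_pow_eq_one h))

theorem neg_mem_RL (h2 : p ≠ 2) : negA _ ∈ RL F :=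
  mem_RL_of_pow (p := p) ⟨_, toA_neg_one⟩ ((Nat.coprime_primes Nat.prime_two hp.out).2 h2.symm)
    (aut_ext fun m => by simp [pow_two, aut_mul])

theorem mem_UL_of {v : Fin 2 → F} (hv : v ≠ 0) {r : AutM (Fin 2 → F)} (hr : r ∈ LinA F) (h : r v = v) {k : ℕ}
    (hk : r ^ p ^ k = 1) : r ∈ UL v := by
  obtain ⟨w, hw⟩ := exists_det2 hv
  have e : ∀ m, det2 v (r m) = det2 v (r w) * det2 v m := fun m => by
    conv_lhs => rw [decomp hw m, map_add, hr, hr, h, det2_add, det2_smul, det2_smul, det2_self]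
    ring
  have e' : ∀ n, det2 v ((r ^ n) w) = det2 v (r w) ^ n := fun n => by
    induction n with
    | zero => rw [pow_zero, pow_zero, aut_one, hw]
    | succ n ih => rw [pow_succ', aut_mul, e, ih, pow_succ']
  have e₁ : det2 v (r w) = 1 := by
    have := e' (p ^ k)
    rw [hk, aut_one, hw] at this
    have h₂ : (det2 v (r w) - 1) ^ p ^ k = 0 := by rw [sub_pow_char_pow, ← this, one_pow, sub_self]
    exact sub_eq_zero.1 (pow_eq_zero_iff (pow_ne_zero k hp.out.ne_zero) |>.1 h₂)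
  refine mem_UL.2 ⟨det2 (r w) w, fun m => ?_⟩
  have := decomp hw (r w)
  rw [e₁, one_smul] at this
  conv_lhs => rw [decomp hw m, map_add, hr, hr, h, this]
  conv_rhs => rw [decomp hw m, det2_add, det2_smul, det2_smul, det2_self, hw]
  module

omit hp in
theorem vec_tors (m : Fin 2 → F) : p • m = 0 := by
  rw [← Nat.cast_smul_eq_nsmul F, CharP.cast_eq_zero, zero_smul]

section Fin
variable [Finite F]

omit hp [CharP F p] in
theorem card_vec : Nat.card (Fin 2 → F) = Nat.card F ^ 2 := by rw [Nat.card_fun, Nat.card_fin]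

omit hp [CharP F p] in
theorem cast_surj {n : ℕ} (hn : n.Prime) (h : Nat.card F = n) (a : F) : ∃ k : ℕ, a = k := by
  haveI := Fintype.ofFinite F
  obtain ⟨x, rfl⟩ := (ZMod.ringEquivOfPrime F hn (Nat.card_eq_fintype_card.symm.trans h)).surjective a
  haveI : NeZero n := ⟨hn.ne_zero⟩
  exact ⟨x.val, by conv_lhs => rw [← ZMod.natCast_zmod_val x, map_natCast]⟩

omit hp [CharP F p] in
theorem lin_of_prime {n : ℕ} (hn : n.Prime) (h : Nat.card F = n) {A : Type*} [AddCommGroup A] [Module F A]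
    (φ : (Fin 2 → F) →+ A) (a : F) (m : Fin 2 → F) : φ (a • m) = a • φ m := by
  obtain ⟨k, rfl⟩ := cast_surj hn h a
  rw [Nat.cast_smul_eq_nsmul, Nat.cast_smul_eq_nsmul, map_nsmul]

omit hp [CharP F p] in
theorem mem_LinA_of_prime {n : ℕ} (hn : n.Prime) (h : Nat.card F = n) (r : AutM (Fin 2 → F)) : r ∈ LinA F :=
  lin_of_prime hn h r.toLinearMap.toAddMonoidHom

omit hp [CharP F p] in
theorem card_cases : Nat.card F = 2 ∨ Nat.card F = 3 ∨ 4 ≤ Nat.card F := by
  have : 1 < Nat.card F := Finite.one_lt_card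
  omega

theorem eq_of_card {n : ℕ} (hn : n.Prime) (h : Nat.card F = n) : p = n := by
  haveI := Fintype.ofFinite F
  have := FiniteField.cast_card_eq_zero F
  rw [← Nat.card_eq_fintype_card, h, CharP.cast_eq_zero_iff F p] at this
  exact (Nat.prime_dvd_prime_iff_eq hp.out hn).1 this

theorem le_card : p ≤ Nat.card F := by
  haveI := Fintype.ofFinite F
  obtain ⟨n, -, h⟩ := FiniteField.card F p
  rw [Nat.card_eq_fintype_card, h]
  exact Nat.le_self_pow n.ne_zero p

omit hp [CharP F p] in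
theorem three_cases (h : Nat.card F = 3) (a : F) : a = 0 ∨ a = 1 ∨ a = -1 := by
  haveI := Fintype.ofFinite F
  obtain ⟨x, rfl⟩ := (ZMod.ringEquivOfPrime F Nat.prime_three (Nat.card_eq_fintype_card.symm.trans h)).surjective a
  have : ∀ x : ZMod 3, x = 0 ∨ x = 1 ∨ x = -1 := by decide
  rcases this x with rfl | rfl | rfl <;> simp

omit hp [CharP F p] in
theorem two_cases (h : Nat.card F = 2) (a : F) : a = 0 ∨ a = 1 := by
  haveI := Fintype.ofFinite F
  obtain ⟨x, rfl⟩ := (ZMod.ringEquivOfPrime F Nat.prime_two (Nat.card_eq_fintype_card.symm.trans h)).surjective a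
  have : ∀ x : ZMod 2, x = 0 ∨ x = 1 := by decide
  rcases this x with rfl | rfl <;> simp

omit hp [CharP F p] in
theorem exists_sq_ne (h : 4 ≤ Nat.card F) : ∃ a : F, a ≠ 0 ∧ a ^ 2 ≠ 1 := by
  classical
  by_contra! hc
  haveI := Fintype.ofFinite F
  have : (Finset.univ : Finset F) ⊆ {0, 1, -1} := fun a _ => by
    by_cases ha : a = 0
    · simp [ha]
    · rcases mul_self_eq_one_iff.1 ((sq a).symm.trans (hc a ha)) with e | e <;> simp [e]
  have h₂ := (Finset.card_le_card this).trans Finset.card_le_three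
  rw [Finset.card_univ, ← Nat.card_eq_fintype_card] at h₂
  omega

omit hp [CharP F p] in
theorem comm_eq_top (h : 4 ≤ Nat.card F) : commutator SL(2, F) = ⊤ :=
  let ⟨_, ha, hb⟩ := exists_sq_ne h
  SL2.commutator_eq_top ha hb

omit hp [CharP F p] in
theorem RL_eq_PL (h : 4 ≤ Nat.card F) : RL F = PL F := by rw [RL, comm_eq_top h, PL, MonoidHom.range_eq_map]

omit hp [CharP F p] in
/-- Schur's lemma for the natural module. -/
theorem schur (h2 : Nat.card F ≠ 2) (φ : (Fin 2 → F) →+ (Fin 2 → F)) (h : ∀ r ∈ RL F, ∀ m, φ (r m) = r (φ m)) :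
    ∃ c : F, ∀ m, φ m = c • m := by
  rcases card_cases (F := F) with e | e | e
  · exact absurd e h2
  · haveI := Fintype.ofFinite F
    haveI : CharP F 3 := charP_of_card 3 (n := 1) (Nat.card_eq_fintype_card.symm.trans e)
    have h3 : (3 : F) = 0 := by exact_mod_cast CharP.cast_eq_zero F 3
    have hl := lin_of_prime Nat.prime_three e φ
    have hI := h _ (mem_RL_of_pow (p := 3) (n := 4) ⟨⟨!![0, 1; -1, 0], by rw [det_fin_two_of]; ring⟩, rfl⟩ (by decide)
      (aut_ext fun m => by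
        simp only [pow_succ, pow_zero, aut_mul, aut_one, toA_mk]
        refine vec_ext ?_ ?_ <;> simp)) ![1, 0]
    have hJ := h _ (mem_RL_of_pow (p := 3) (n := 4) ⟨⟨!![1, 1; 1, -1], by
      rw [det_fin_two_of]; linear_combination -h3⟩, rfl⟩ (by decide)
      (aut_ext fun m => by
        simp only [pow_succ, pow_zero, aut_mul, aut_one, toA_mk]
        refine vec_ext ?_ ?_
        · simp; linear_combination m 0 * h3
        · simp; linear_combination m 1 * h3)) ![1, 0]
    rw [toA_mk, toA_mk, basis_eq ![_, _], map_add, hl, hl] at hI hJ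
    have i₀ := congrFun hI 0
    have i₁ := congrFun hI 1
    have j₀ := congrFun hJ 0
    simp at i₀ i₁ j₀
    refine ⟨φ ![1, 0] 0, fun m => ?_⟩
    rw [basis_eq m, map_add, hl, hl]
    refine vec_ext ?_ ?_
    · simp; linear_combination m 1 * (φ ![0, 1] 0 * h3 - j₀ + i₀)
    · simp; linear_combination m 1 * i₁ + m 0 * (j₀ + i₀ + (φ ![1, 0] 1) * h3)
  · rw [RL_eq_PL e] at h
    have k : ∀ (v : Fin 2 → F) s m, φ ((s * det2 v m) • v) = (s * det2 v (φ m)) • v := fun v s m => by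
      have := h _ (UL_le_PL v (tv_mem v s)) m
      rwa [toA_tv, toA_tv, map_add, add_right_inj] at this
    have k₀ : ∀ s : F, φ (s • ![1, 0]) = (s * φ ![0, 1] 1) • ![1, 0] := fun s => by simpa [det2] using k ![1, 0] s ![0, 1]
    have k₁ : ∀ s : F, φ (s • ![0, 1]) = (s * φ ![1, 0] 0) • ![0, 1] := fun s => by
      simpa [det2] using k ![0, 1] (-s) ![1, 0]
    have k₂ : φ ![1, 0] 0 = φ ![0, 1] 1 := by
      have := congrFun (k₀ 1) 0
      rwa [one_smul, one_mul, Pi.smul_apply, smul_eq_mul, cons_val_zero, mul_one] at this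
    refine ⟨φ ![1, 0] 0, fun m => ?_⟩
    rw [basis_eq m, map_add, k₀, k₁, ← k₂]
    module

omit hp [CharP F p] in
theorem scal_of_comm (h2 : Nat.card F ≠ 2) {r : AutM (Fin 2 → F)} (h : ∀ s ∈ RL F, r * s = s * r) : IsScal r :=
  schur h2 r.toLinearMap.toAddMonoidHom fun s hs m => congrArg (fun t : AutM (Fin 2 → F) => t m) (h s hs)

omit hp [CharP F p] in
/-- The normalizer acts semilinearly. -/
theorem exists_sigma {r : AutM (Fin 2 → F)} (hr : r ∈ (N(RL F) : Subgroup _)) (a : F) :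
    ∃ b : F, ∀ m, r (a • m) = b • r m := by
  by_cases h2 : Nat.card F = 2
  · exact ⟨a, mem_LinA_of_prime Nat.prime_two h2 r a⟩
  let φ : (Fin 2 → F) →+ (Fin 2 → F) :=
    { toFun := fun m => r (a • r⁻¹ m)
      map_zero' := by simp
      map_add' := fun m n => by rw [map_add, smul_add, map_add] }
  obtain ⟨b, hb⟩ := schur h2 φ fun s hs m => by
    have h₁ : r⁻¹ * s * r⁻¹⁻¹ ∈ RL F := conj_mem_of_norm (inv_mem hr) hs
    have := PL_le_LinA (RL_le_PL h₁) a (r⁻¹ m)
    simp only [inv_inv, aut_mul, aut_apply_inv] at this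
    change r (a • r⁻¹ (s m)) = s (r (a • r⁻¹ m))
    rw [← this, aut_apply_inv]
  refine ⟨b, fun m => ?_⟩
  rw [← hb]
  change _ = r (a • r⁻¹ (r m))
  rw [aut_inv_apply]

omit hp [CharP F p] in
theorem lin_of_fix {r : AutM (Fin 2 → F)} (hr : r ∈ (N(RL F) : Subgroup _)) {v : Fin 2 → F} (hv : v ≠ 0)
    (h : ∀ m ∈ line v, r m = m) : r ∈ LinA F := fun a m => by
  obtain ⟨b, hb⟩ := exists_sigma hr a
  have := hb v
  rw [h _ (smul_mem_line v a), h _ (self_mem_line v)] at this
  rw [hb, smul_cancel hv this]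

theorem mem_UL_of_fix {r : AutM (Fin 2 → F)} (hr : r ∈ (N(RL F) : Subgroup _)) {v : Fin 2 → F} (hv : v ≠ 0)
    (h : ∀ m ∈ line v, r m = m) {k : ℕ} (hk : r ^ p ^ k = 1) : r ∈ UL v :=
  mem_UL_of hv (lin_of_fix hr hv h) (h _ (self_mem_line v)) hk

omit hp [CharP F p] [Finite F] in
/-- The scalars commuting with a group of automorphisms. -/
def F0 (A : Subgroup (AutM (Fin 2 → F))) : Subfield F where
  carrier := {x | ∀ r ∈ A, ∀ m, r (x • m) = x • r m}
  zero_mem' r _ m := by simp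
  one_mem' r _ m := by simp
  add_mem' ha hb r hr m := by rw [add_smul, map_add, ha r hr, hb r hr, add_smul]
  mul_mem' ha hb r hr m := by rw [mul_smul, ha r hr, hb r hr, mul_smul]
  neg_mem' ha r hr m := by rw [neg_smul, map_neg, ha r hr, neg_smul]
  inv_mem' x hx r hr m := by
    by_cases h : x = 0
    · simp [h]
    · have := hx r hr (x⁻¹ • m)
      rw [smul_smul, mul_inv_cancel₀ h, one_smul] at this
      rw [this, smul_smul, inv_mul_cancel₀ h, one_smul]

omit hp [CharP F p] in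
theorem sq_le_card {K : Subfield F} (h : K ≠ ⊤) : Nat.card K * Nat.card K ≤ Nat.card F := by
  obtain ⟨x, hx⟩ : ∃ x, x ∉ K := by
    by_contra! hc
    exact h (eq_top_iff.2 fun x _ => hc x)
  rw [← Nat.card_prod]
  refine Nat.card_le_card_of_injective (fun a : K × K => (a.1 : F) + a.2 * x) fun a b e => ?_
  have e' : (a.1 : F) + a.2 * x = b.1 + b.2 * x := e
  by_cases h₂ : (a.2 : F) = b.2
  · rw [h₂, add_left_inj] at e'
    exact Prod.ext (Subtype.ext e') (Subtype.ext h₂)
  · refine absurd ?_ hx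
    have : x = (b.1 - a.1) / (a.2 - b.2) := by
      rw [eq_div_iff (sub_ne_zero.2 h₂)]
      linear_combination e'
    exact this ▸ K.div_mem (K.sub_mem b.1.2 a.1.2) (K.sub_mem a.2.2 b.2.2)

theorem k1_aux {A : Subgroup (AutM (Fin 2 → F))} (hA : A ≤ N(RL F)) (he : IsElementaryAbelian p A)
    {v : Fin 2 → F} (hv : v ≠ 0) (hf : v ∈ fixM A) :
    Nat.card ↥(A ⊓ LinA F) * Nat.card (fixM A) ≤ Nat.card (F0 A) * Nat.card (F0 A) := by
  have hU : A ⊓ LinA F ≤ UL v := fun r hr => mem_UL_of (p := p) (k := 1) hv hr.2 (hf r hr.1) (by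
    rw [pow_one, he.2 r hr.1])
  have mem : ∀ {x : F}, (∀ r ∈ A, ∀ b, (∀ m, r (x • m) = b • r m) → b = x) → x ∈ F0 A := fun h r hr m => by
    obtain ⟨b, hb⟩ := exists_sigma (hA hr) _
    rw [hb, h r hr b hb]
  obtain ⟨w, hw⟩ := exists_det2 hv
  by_cases hl : fixM A ≤ line v
  · refine Nat.mul_le_mul ?_ ?_
    · by_cases hb : A ⊓ LinA F = ⊥
      · rw [hb, card_bot]
        exact Nat.card_pos
      obtain ⟨r₁, hr₁, h₁⟩ := (bot_or_exists_ne_one _).resolve_left hb
      have key : ∀ r ∈ A ⊓ LinA F, ∀ a ∈ A, ∀ b, (∀ m, a (det2 (r w - w) w • m) = b • a m) →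
          b = det2 (r w - w) w * det2 v (a w) := fun r hr a ha b hb => by
        obtain ⟨s, hs⟩ := mem_UL.1 (hU hr)
        have e : a (r w) = r (a w) := congrArg (fun t : AutM (Fin 2 → F) => t w)
          (isMulCommutative_iff_forall.1 he.1 a ha r hr.1)
        have e₂ : det2 (r w - w) w = s := by rw [hs, add_sub_cancel_left, smul_det2, hw, mul_one, mul_one]
        rw [e₂] at hb ⊢
        rw [hs, hs, map_add, hw, mul_one, hb, hf a ha, add_right_inj] at e
        exact smul_cancel hv e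
      have inj : ∀ r ∈ A ⊓ LinA F, ∀ m, r m = m + (det2 (r w - w) w * det2 v m) • v := fun r hr m => by
        obtain ⟨s, hs⟩ := mem_UL.1 (hU hr)
        rw [hs w, add_sub_cancel_left, smul_det2, hw, mul_one, mul_one, hs]
      have h₀ : det2 (r₁ w - w) w ≠ 0 := fun e => h₁ (aut_ext fun m => by
        rw [inj r₁ hr₁, e, zero_mul, zero_smul, add_zero, aut_one])
      refine Nat.card_le_card_of_injective (fun r : ↥(A ⊓ LinA F) => (⟨det2 (r.1 w - w) w / det2 (r₁ w - w) w,
        mem fun a ha b hb => ?_⟩ : F0 A)) fun r s e => Subtype.ext (aut_ext fun m => ?_)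
      · obtain ⟨c, hc⟩ := exists_sigma (hA ha) (det2 (r₁ w - w) w)
        have e₁ := key r₁ hr₁ a ha c hc
        have e₂ := key r r.2 a ha (b * c) fun m => by
          rw [mul_smul, ← hc, ← hb, smul_smul, div_mul_cancel₀ _ h₀]
        have hc0 : c ≠ 0 := fun e => by
          have := hc v
          rw [e, zero_smul, LinearEquiv.map_eq_zero_iff, smul_eq_zero] at this
          exact this.elim h₀ hv
        have hd : det2 v (a w) ≠ 0 := fun e => hc0 (by rw [e₁, e, mul_zero])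
        rw [eq_div_iff h₀]
        refine mul_right_cancel₀ hd ?_
        rw [← e₂, e₁, mul_assoc]
      · have e' : det2 (r.1 w - w) w = det2 (s.1 w - w) w := (div_left_inj' h₀).1 (congrArg Subtype.val e)
        rw [inj r r.2, inj s s.2, e']
    · have e₁ : ∀ m ∈ fixM A, m = det2 m w • v := fun m hm => by simpa [mem_line.1 (hl hm)] using decomp hw m
      refine Nat.card_le_card_of_injective (fun m : fixM A => (⟨det2 m.1 w, mem fun a ha b hb => ?_⟩ : F0 A))
        fun m n e => Subtype.ext ?_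
      · have := hb v
        rw [← e₁ _ m.2, m.2 a ha, hf a ha] at this
        exact smul_cancel hv (this.symm.trans (e₁ _ m.2))
      · rw [e₁ _ m.2, e₁ _ n.2, show det2 m.1 w = det2 n.1 w from congrArg Subtype.val e]
  · obtain ⟨u, hu, hu'⟩ := SetLike.not_le_iff_exists.1 hl
    have hb : A ⊓ LinA F = ⊥ := eq_bot_iff.2 fun r hr => by
      by_contra h
      exact hu' (mem_line_of_fix hv (hU hr) h (hu r hr.1))
    rw [hb, card_bot, one_mul, ← Nat.card_prod]
    have hd : det2 v u ≠ 0 := hu'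
    have e₁ : ∀ m, m = (det2 m u / det2 v u) • v + (det2 v m / det2 v u) • u := fun m => by
      have := decomp (v := v) (w := (det2 v u)⁻¹ • u) (by rw [det2_smul, inv_mul_cancel₀ hd]) m
      rw [det2_smul, smul_smul] at this
      rw [div_eq_inv_mul, div_eq_mul_inv]
      exact this
    have key : ∀ m ∈ fixM A, det2 m u / det2 v u ∈ F0 A ∧ det2 v m / det2 v u ∈ F0 A := fun m hm => by
      have k : ∀ a ∈ A, ∀ b c, (∀ n, a ((det2 m u / det2 v u) • n) = b • a n) →
          (∀ n, a ((det2 v m / det2 v u) • n) = c • a n) → b = det2 m u / det2 v u ∧ c = det2 v m / det2 v u :=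
        fun a ha b c hb hc => by
          have := hm a ha
          conv at this => lhs; rw [e₁ m, map_add, hb, hc, hf a ha, hu a ha]
          have t₁ := congrArg (fun x => det2 x u) this
          have t₂ := congrArg (det2 v) this
          simp only [add_det2, smul_det2, det2_add, det2_smul, det2_self, mul_zero, add_zero, zero_add] at t₁ t₂
          exact ⟨by rw [eq_div_iff hd, t₁], by rw [eq_div_iff hd, t₂]⟩
      refine ⟨mem fun a ha b hb => ?_, mem fun a ha c hc => ?_⟩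
      · obtain ⟨c, hc⟩ := exists_sigma (hA ha) (det2 v m / det2 v u)
        exact (k a ha b c hb hc).1
      · obtain ⟨b, hb⟩ := exists_sigma (hA ha) (det2 m u / det2 v u)
        exact (k a ha b c hb hc).2
    refine Nat.card_le_card_of_injective (fun m : fixM A => ((⟨_, (key _ m.2).1⟩ : F0 A), (⟨_, (key _ m.2).2⟩ : F0 A)))
      fun m n e => Subtype.ext ?_
    rw [e₁ m.1, e₁ n.1, show det2 m.1 u / det2 v u = det2 n.1 u / det2 v u from congrArg (fun x => (x.1 : F)) e,
      show det2 v m.1 / det2 v u = det2 v n.1 / det2 v u from congrArg (fun x => (x.2 : F)) e]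

theorem k1_lin {A : Subgroup (AutM (Fin 2 → F))} (hA : A ≤ N(RL F)) (he : IsElementaryAbelian p A) :
    Nat.card A * Nat.card (fixM A) ≤ Nat.card (Fin 2 → F) ∧
      (A ≠ ⊥ → Nat.card (Fin 2 → F) ≤ Nat.card A * Nat.card (fixM A) → ∃ v, v ≠ 0 ∧ A = UL v) := by
  obtain ⟨v, -, hv, hf⟩ := exists_fixed (isPGroup_of_isElementaryAbelian he) ⊤ (fun _ _ _ _ => trivial)
    (fun m _ => vec_tors m) (fun e => e0_ne (F := F) (AddSubgroup.mem_bot.1 (e ▸ AddSubgroup.mem_top _)))
  have h := k1_aux hA he hv hf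
  rw [card_vec, pow_two]
  by_cases h0 : F0 A = ⊤
  · have hl : A ≤ LinA F := fun r hr a => (show a ∈ F0 A from h0 ▸ Subfield.mem_top a) r hr
    have hU : A ≤ UL v := fun r hr => mem_UL_of (p := p) (k := 1) hv (hl hr) (hf r hr) (by rw [pow_one, he.2 r hr])
    rw [inf_eq_left.2 hl, h0, Nat.card_congr Subfield.topEquiv.toEquiv] at h
    refine ⟨h, fun hne hc => ⟨v, hv, eq_of_le_of_card_le hU ?_⟩⟩
    obtain ⟨r, hr, h1⟩ := (bot_or_exists_ne_one _).resolve_left hne
    have : Nat.card (fixM A) ≤ Nat.card F := card_line hv ▸ AddSubgroup.card_le_of_le fun m hm =>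
      mem_line_of_fix hv (hU hr) h1 (hm r hr)
    rw [card_UL hv]
    exact Nat.le_of_mul_le_mul_right (hc.trans (Nat.mul_le_mul_left _ this)) Nat.card_pos
  · obtain ⟨ζ, hζ⟩ := IsCyclic.exists_monoid_generator (α := Fˣ)
    have hs := fun r : A => exists_sigma (hA r.2) (ζ : F)
    choose f hf' using hs
    have h₁ : Nat.card A ≤ Nat.card ↥(A ⊓ LinA F) * Nat.card Fˣ := by
      refine card_le_of_fiber (fun r => Units.mk0 (f r) fun e => ?_) fun a b e x m => ?_
      · have := hf' r v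
        rw [e, zero_smul, LinearEquiv.map_eq_zero_iff, smul_eq_zero] at this
        exact this.elim ζ.ne_zero hv
      · have e' : f a = f b := congrArg Units.val e
        have k : ∀ m, ((a : AutM (Fin 2 → F))⁻¹ * b) ((ζ : F) • m) = (ζ : F) • ((a : AutM (Fin 2 → F))⁻¹ * b) m :=
          fun m => by
            rw [aut_mul, aut_mul, hf', ← e']
            conv_lhs => rw [← aut_apply_inv a.1 (b.1 m), ← hf', aut_inv_apply]
        by_cases hx : x = 0
        · simp [hx]
        · obtain ⟨n, hn⟩ := hζ (Units.mk0 x hx)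
          have hn' : (ζ : F) ^ n = x := by simpa using congrArg Units.val hn
          rw [← hn']
          clear hn hn'
          induction n with
          | zero => simp
          | succ n ih => rw [pow_succ', mul_smul, k, ih, mul_smul]
    have h₂ := sq_le_card h0
    have h₃ : Nat.card A * Nat.card (fixM A) < Nat.card F * Nat.card F := by
      have h₄ : Nat.card Fˣ < Nat.card F := by
        rw [Nat.card_units]
        exact Nat.sub_one_lt Nat.card_pos.ne'
      calc _ ≤ Nat.card Fˣ * (Nat.card ↥(A ⊓ LinA F) * Nat.card (fixM A)) := by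
            rw [← mul_assoc, mul_comm (Nat.card Fˣ)]
            exact Nat.mul_le_mul_right _ h₁
        _ ≤ Nat.card Fˣ * Nat.card F := Nat.mul_le_mul_left _ (h.trans h₂)
        _ < _ := Nat.mul_lt_mul_of_pos_right h₄ Nat.card_pos
    exact ⟨h₃.le, fun _ hc => absurd hc h₃.not_ge⟩

theorem perf_lin (h : 4 ≤ Nat.card F) : Perf p (RL F) where
  perf := by rw [RL, ← map_commutator, comm_eq_top h, ← commutator_def, comm_eq_top h]
  quasi K hK hn := by
    rw [RL_eq_PL h] at hK hn ⊢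
    obtain ⟨K, rfl⟩ : ∃ K' : Subgroup SL(2, F), K'.map toA = K := ⟨K.comap toA, map_comap_eq_self hK⟩
    haveI : K.Normal := ⟨fun k hk g => by
      have := conj_mem_of_norm (hn ⟨g, rfl⟩) (mem_map_of_mem toA hk)
      rwa [← map_inv, ← map_mul, ← map_mul, mem_map_iff_mem toA_injective] at this⟩
    haveI := ProjectiveSpecialLinearGroup.rank_two_simple h
    rw [PL, MonoidHom.range_eq_map]
    have hn' : (K.map (QuotientGroup.mk' (center SL(2, F)))).Normal := Normal.map inferInstance _ (QuotientGroup.mk'_surjective _)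
    rcases IsSimpleGroup.eq_bot_or_eq_top_of_normal (G := PSL(2, F)) _ hn' with e | e
    · right
      rw [← map_commutator, commutator_eq_bot_iff_le_centralizer.2, Subgroup.map_bot]
      rw [coe_top, centralizer_univ]
      exact ((Subgroup.map_eq_bot_iff _).1 e).trans (QuotientGroup.ker_mk' _).le
    · left
      refine map_mono ?_
      have e' : K ⊔ center SL(2, F) = ⊤ := by
        have := congrArg (comap (QuotientGroup.mk' (center SL(2, F)))) e
        rwa [comap_map_eq, QuotientGroup.ker_mk', comap_top] at this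
      rw [← comm_eq_top h, commutator_def, commutator_le]
      intro a _ b _
      obtain ⟨k, hk, z, hz, rfl⟩ := mem_sup_of_normal_right.1 (e'.symm ▸ mem_top a)
      obtain ⟨k', hk', z', hz', rfl⟩ := mem_sup_of_normal_right.1 (e'.symm ▸ mem_top b)
      have : ⁅k * z, k' * z'⁆ = ⁅k, k'⁆ := by
        simp only [commutatorElement_def, _root_.mul_inv_rev]
        rw [show k * z * (k' * z') * (z⁻¹ * k⁻¹) * (z'⁻¹ * k'⁻¹) = k * (z * (k' * z')) * z⁻¹ * (k⁻¹ * z'⁻¹) * k'⁻¹ by group,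
          ← mem_center_iff.1 hz, mem_center_iff.1 (inv_mem hz') k⁻¹]
        group
      rw [this]
      exact mul_mem (mul_mem (mul_mem hk hk') (inv_mem hk)) (inv_mem hk')
  elt := ⟨_, RL_eq_PL h ▸ UL_le_PL _ (tv_mem _ 1), tv_ne_one e0_ne one_ne_zero, UL_pow (tv_mem _ 1)⟩

omit hp [CharP F p] in
theorem comm_small {n : ℕ} [Fact n.Prime] (h : Nat.card F = n) (P : SL(2, ZMod n) → Prop)
    (hP : ∀ g ∈ commutator SL(2, ZMod n), P g) {g : SL(2, F)} (hg : g ∈ commutator SL(2, F)) :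
    ∃ f : SL(2, F) →* SL(2, ZMod n), Function.Injective f ∧ f (-1) = -1 ∧ P (f g) := by
  haveI := Fintype.ofFinite F
  let e := (ZMod.ringEquivOfPrime F Fact.out (Nat.card_eq_fintype_card.symm.trans h)).symm
  refine ⟨Matrix.SpecialLinearGroup.map e.toRingHom, fun a b h => Matrix.SpecialLinearGroup.ext _ _ fun i j => e.injective ?_, ?_,
    hP _ ?_⟩
  · exact congrArg (fun x : SL(2, ZMod n) => x.1 i j) h
  · refine Matrix.SpecialLinearGroup.ext _ _ fun i j => ?_
    fin_cases i <;> fin_cases j <;> simp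
  · exact (map_commutator ⊤ ⊤ _).le.trans (commutator_mono le_top le_top) (mem_map_of_mem _ hg)

omit hp [CharP F p] [Finite F] in
private theorem comm_two : ∀ g ∈ commutator SL(2, ZMod 2), g ^ 3 = 1 := by
  let K : Subgroup SL(2, ZMod 2) :=
    { carrier := {g | g ^ 3 = 1}
      one_mem' := one_pow 3
      mul_mem' := fun {a b} => (by decide : ∀ a b : SL(2, ZMod 2), a ^ 3 = 1 → b ^ 3 = 1 → (a * b) ^ 3 = 1) a b
      inv_mem' := fun {a} h => by rw [Set.mem_setOf_eq, inv_pow, show a ^ 3 = 1 from h, inv_one] }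
  exact (commutator_le (H₃ := K)).2 fun a _ b _ =>
    (by decide : ∀ a b : SL(2, ZMod 2), (a * b * a⁻¹ * b⁻¹) ^ 3 = 1) a b

omit hp [CharP F p] [Finite F] in
private theorem comm_three : ∀ g ∈ commutator SL(2, ZMod 3), g = 1 ∨ g = -1 ∨ g ^ 2 = -1 := by
  let K : Subgroup SL(2, ZMod 3) :=
    { carrier := {g | g ^ 4 = 1}
      one_mem' := one_pow 4
      mul_mem' := fun {a b} => (by decide +kernel :
        ∀ a b : SL(2, ZMod 3), a ^ 4 = 1 → b ^ 4 = 1 → (a * b) ^ 4 = 1) a b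
      inv_mem' := fun {a} h => by rw [Set.mem_setOf_eq, inv_pow, show a ^ 4 = 1 from h, inv_one] }
  exact fun g hg => (by decide +kernel : ∀ g : SL(2, ZMod 3), g ^ 4 = 1 → g = 1 ∨ g = -1 ∨ g ^ 2 = -1) g
    ((commutator_le (H₃ := K)).2 (fun a _ b _ =>
      (by decide +kernel : ∀ a b : SL(2, ZMod 3), (a * b * a⁻¹ * b⁻¹) ^ 4 = 1) a b) hg)

theorem small_lin (h : Nat.card F = 2 ∨ Nat.card F = 3) : Small p (RL F) := by
  rcases h with h | h
  · obtain rfl : p = 2 := eq_of_card Nat.prime_two h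
    refine ⟨by rw [card_vec, h], fun r => ⟨?_, fun hr => ?_⟩⟩
    · rintro ⟨g, hg, rfl⟩
      obtain ⟨f, hf, -, e⟩ := comm_small h _ comm_two hg
      exact Or.inl ⟨rfl, by rw [← map_pow, show g ^ 3 = 1 from hf (by rw [map_pow, e, map_one]), map_one]⟩
    · obtain ⟨n, hn, e⟩ := hr.pow
      have hl := mem_LinA_of_prime Nat.prime_two h r
      refine mem_RL_of_pow (mem_PL_of hl ((two_cases h _).resolve_left fun e => ?_)) hn e
      have h₀ : r ![1, 0] ≠ 0 := fun e => e0_ne (r.map_eq_zero_iff.1 e)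
      obtain ⟨a, ha⟩ := (mem_line_iff h₀).1 e
      rw [← hl] at ha
      simpa using congrFun (r.injective ha) 1
  · obtain rfl : p = 3 := eq_of_card Nat.prime_three h
    refine ⟨by rw [card_vec, h], fun r => ⟨?_, fun hr => ?_⟩⟩
    · rintro ⟨g, hg, rfl⟩
      obtain ⟨f, hf, h1, e⟩ := comm_small h _ comm_three hg
      refine Or.inr ⟨rfl, ?_⟩
      rw [← toA_neg_one, ← map_pow, ← map_one toA, toA_injective.eq_iff, toA_injective.eq_iff, toA_injective.eq_iff]
      rwa [← h1, ← map_pow, ← map_one f, hf.eq_iff, hf.eq_iff, hf.eq_iff] at e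
    · obtain ⟨n, hn, e⟩ := hr.pow
      have hl := mem_LinA_of_prime Nat.prime_three h r
      refine mem_RL_of_pow (mem_PL_of hl ?_) hn e
      rcases hr with ⟨h2, -⟩ | ⟨-, rfl | rfl | h2⟩
      · exact absurd h2 (by decide)
      · simp [det2]
      · simp [det2]
      · have h3 : (3 : F) = 0 := by exact_mod_cast CharP.cast_eq_zero F 3
        have k₀ := congrArg (fun t : AutM (Fin 2 → F) => t ![1, 0]) h2
        have k₁ := congrArg (fun t : AutM (Fin 2 → F) => t ![0, 1]) h2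
        simp only [pow_two, aut_mul] at k₀ k₁
        rw [basis_eq (r ![1, 0]), map_add, hl, hl] at k₀
        rw [basis_eq (r ![0, 1]), map_add, hl, hl] at k₁
        have i₀ := congrFun k₀ 0
        have i₁ := congrFun k₀ 1
        have j₀ := congrFun k₁ 0
        simp only [Pi.add_apply, Pi.smul_apply, smul_eq_mul, negA_apply, Pi.neg_apply, cons_val_zero, cons_val_one,
          neg_zero] at i₀ i₁ j₀
        rw [det2]
        by_cases ht : r ![1, 0] 0 + r ![0, 1] 1 = 0
        · linear_combination r ![1, 0] 0 * ht - i₀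
        · have hc : r ![1, 0] 1 = 0 := (mul_eq_zero.1 (show r ![1, 0] 1 * (r ![1, 0] 0 + r ![0, 1] 1) = 0 by
            linear_combination i₁)).resolve_right ht
          rw [hc] at i₀
          exfalso
          rcases three_cases h (r ![1, 0] 0) with e | e | e <;> rw [e] at i₀
          · exact one_ne_zero (α := F) (by linear_combination i₀)
          · exact one_ne_zero (α := F) (by linear_combination h3 - i₀)
          · exact one_ne_zero (α := F) (by linear_combination h3 - i₀)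

theorem model_lin : Model p (RL F) where
  fin := inferInstance
  tors := vec_tors
  irr := RL_irr
  big := two_lt_card (a := ![1, 0]) (b := ![0, 1]) (c := ![1, 1]) (v := ![1, 0])
    (fun e => by simpa using congrFun e 0) (fun e => by simpa using congrFun e 1)
    (fun e => by simpa using congrFun e 0) (RL_trans e0_ne e0_ne) (RL_trans e0_ne e1_ne)
    (RL_trans e0_ne (ne_zero_iff.2 (Or.inl (by simp))))
  sq := card_vec (F := F) ▸ Nat.pow_le_pow_left le_card 2
  cases := by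
    rcases card_cases (F := F) with h | h | h
    exacts [Or.inr (small_lin (Or.inl h)), Or.inr (small_lin (Or.inr h)), Or.inl (perf_lin h)]
  k1 _ hA he := (k1_lin hA he).1

end Fin

end Lin

end Cfsg.Agent.Lib.Blk
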