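import Cfsg.Agent.Lib.BlkSub

/-! Subnormal blocks are normal in the Baumann subgroup. -/

set_option autoImplicit false
open Cfsg

namespace Cfsg.Agent.Lib.Blk

open Subgroup Cfsg.Agent.Lib.PCoreConj Cfsg.Agent.Lib.PCore Cfsg.Agent.Lib.PCoreResidual Cfsg.Agent.Lib.PCoreMod
open Cfsg.Agent.Lib.ThompsonJ Cfsg.Agent.Lib.PushBase
open scoped Pointwise commutatorElement MatrixGroups

universe u
variable {G : Type u} [Group G] {p : ℕ} {T T' S E F X Y A : Subgroup G} {g x y : G}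

theorem exists_orbit_prod [Finite G] {V L K : Subgroup G} (hV : IsMulCommutative V) (hLV : L ≤ N(V)) {v : G} (hv : v ∈ V)
    (hK : ∀ g ∈ L, g * v * g⁻¹ = v ∨ g * v * g⁻¹ ∈ K) : ∃ z ∈ V ⊓ C(L), v⁻¹ * z ∈ K := by
  classical
  let _ : CommGroup V := { (inferInstance : Group V) with mul_comm := mul_comm' }
  let _ : Fintype V := Fintype.ofFinite V
  let O : Finset V := Finset.univ.filter fun u => ∃ g ∈ L, g * v * g⁻¹ = u
  have hO : ∀ u : V, u ∈ O ↔ ∃ g ∈ L, g * v * g⁻¹ = u := fun u => by simp [O]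
  refine ⟨(∏ u ∈ O, u : V), ⟨SetLike.coe_mem _, mem_centralizer_iff.2 fun g hg => ?_⟩, ?_⟩
  · let φ := V.normalizerMonoidHom ⟨g, hLV hg⟩
    have e : φ (∏ u ∈ O, u) = ∏ u ∈ O, u := by
      rw [map_prod]
      refine Finset.prod_equiv φ.toEquiv (fun u => ?_) fun _ _ => rfl
      rw [hO, hO]
      exact ⟨fun ⟨x, hx, e⟩ => ⟨g * x, mul_mem hg hx, by
          show _ = g * (u : G) * g⁻¹
          rw [← e]; group⟩,
        fun ⟨x, hx, e⟩ => ⟨g⁻¹ * x, mul_mem (inv_mem hg) hx, by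
          change _ = g * (u : G) * g⁻¹ at e
          calc _ = g⁻¹ * (x * v * x⁻¹) * g := by group
            _ = _ := by rw [e]; group⟩⟩
    exact mul_inv_eq_iff_eq_mul.1 (congrArg Subtype.val e)
  · rw [← Finset.mul_prod_erase O _ ((hO ⟨v, hv⟩).2 ⟨1, one_mem _, by group⟩), coe_mul, inv_mul_cancel_left]
    refine Subgroup.prod_mem (K.subgroupOf V) fun u hu => ?_
    obtain ⟨g, hg, e⟩ := (hO u).1 (Finset.mem_of_mem_erase hu)
    exact mem_subgroupOf.2 (e ▸ (hK g hg).resolve_left fun k => Finset.ne_of_mem_erase hu (Subtype.ext (e.symm.trans k)))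

theorem pow_le_relIndex [Finite G] {ι : Type*} (s : Finset ι) (W K : ι → Subgroup G) {m : ℕ} (hW : ∀ i ∈ s, W i ≤ Y)
    (hc : ∀ i ∈ s, ∀ j ∈ s, i ≠ j → W i ≤ K j) (hm : ∀ i ∈ s, m ≤ (K i).relIndex (W i)) :
    m ^ s.card ≤ (⨅ i ∈ s, K i).relIndex Y := by
  classical
  induction s using Finset.induction_on with
  | empty => simp
  | insert a s ha ih =>
    rw [Finset.card_insert_of_notMem ha, Finset.iInf_insert, ← relIndex_inf_mul_relIndex, pow_succ']
    refine Nat.mul_le_mul ((hm a (by simp)).trans (relIndex_le_of_le_right (le_inf (le_iInf₂ fun j hj =>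
      hc a (by simp) j (by simp [hj]) fun e => ha (e ▸ hj)) (hW a (by simp))) FiniteIndex.index_ne_zero))
      (ih (fun i hi => hW i (by simp [hi])) (fun i hi j hj => hc i (by simp [hi]) j (by simp [hj]))
        fun i hi => hm i (by simp [hi]))

theorem arith_pow {m k : ℕ} (hm : 4 ≤ m) (hk : 2 ≤ k) : k * m < m ^ k := by
  obtain ⟨j, rfl⟩ := Nat.exists_eq_add_of_le' hk
  rw [pow_succ]
  refine Nat.mul_lt_mul_of_pos_right (lt_of_lt_of_le ?_ (Nat.pow_le_pow_left hm _)) (by omega)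
  have := Nat.lt_pow_self (n := j) (show 1 < 4 by norm_num)
  rw [pow_succ]
  omega

theorem arith_off {m k c y a f a₁ i c₁ x r z₁ z : ℕ} (hm : 4 ≤ m) (hk : 2 ≤ k) (hc : 0 < c) (hz : 0 < z)
    (h₁ : c * y ≤ a * f) (h₂ : a ≤ a₁ * k) (h₃ : a₁ = i * c₁) (h₄ : c₁ ≤ c) (h₅ : i * x ≤ m) (h₆ : m ^ k ≤ r)
    (h₇ : f ≤ z₁ * x) (h₈ : z₁ ≤ z) (h₉ : z * r = y) : False := by
  subst h₃ h₉
  refine (arith_pow hm hk).not_ge (Nat.le_of_mul_le_mul_left (c := c * z) ?_ (Nat.mul_pos hc hz))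
  calc c * z * m ^ k ≤ c * (z * r) := by rw [mul_assoc]; gcongr
    _ ≤ (i * c * k) * (z * x) := h₁.trans (Nat.mul_le_mul (h₂.trans (by gcongr)) (h₇.trans (by gcongr)))
    _ = c * z * (k * (i * x)) := by ring
    _ ≤ _ := by gcongr

variable (p G) in
/-- The Baumann subgroup of the group. -/
def BG : Subgroup G := ⨆ T : Sylow p G, Bm p (T : Subgroup G)

theorem BG_eq [Finite G] : baumannSubgroup p G = BG G p := iSup_congr fun T => baumann_eq p _

theorem Bm_le_BG (hT : IsSylowIn p T ⊤) : Bm p T ≤ BG G p := by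
  obtain ⟨S, rfl⟩ := isSylowIn_top_iff.1 hT
  exact le_iSup (fun T : Sylow p G => Bm p (T : Subgroup G)) S

theorem BG_le (h : ∀ T, IsSylowIn p T ⊤ → Bm p T ≤ X) : BG G p ≤ X := iSup_le fun T => h _ (isSylowIn_top T)

instance BG_normal : (BG G p).Normal := normal_of_conj_le fun g => conj_le_iff_le_conj_inv.2 (BG_le fun T hT =>
  conj_le_iff_le_conj_inv.1 ((conj_Bm p T g).le.trans (Bm_le_BG (hT.conj_top g))))

variable [hp : Fact p.Prime] [Finite G]

theorem exists_BG_mul (hT : IsSylowIn p T ⊤) (g : G) : ∃ k ∈ BG G p, ∃ n ∈ (N(Bm p T) : Subgroup G), g = k * n := by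
  obtain ⟨k, hk, n, hn, e⟩ := (hT.inf_normal (N := BG G p) le_top le_normalizer_of_normal).frattini
    (le_normalizer_of_normal (mem_top g))
  exact ⟨k, hk, n, Bm_eq_of_le (le_inf (Bm_le p T) (Bm_le_BG hT)) inf_le_left ▸ normalizer_le_normalizer_Bm p _ hn, e⟩

omit hp in
theorem relIndex_W {M : Type*} [AddCommGroup M] (s : Sect M (WE p E) (ZW p E)) (x : G) :
    (C(E ^ᶜ x) : Subgroup G).relIndex (WE p (E ^ᶜ x)) = Nat.card M := by
  have e := s.relIndex_eq (le_refl (WE p E))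
  rw [s.img_U, AddSubgroup.card_top] at e
  rw [← conj_WE, ← conj_centralizer, ← e, ZW, inf_relIndex_left]
  exact relIndex_map_map_of_injective (f := (MulAut.conj x).toMonoidHom) _ _ (MulAut.conj x).injective

omit hp in
theorem Blk.le_BG (h : Blk p T E) (hT : IsSylowIn p T ⊤) : E ≤ BG G p :=
  h.comm.ge.trans ((commutator_mono le_rfl (Bm_le_BG hT)).trans (commutator_le_right _ _))

namespace SB
variable (h : SB p E) (hG : C(pCore p G) ≤ pCore p G)
include h hG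

theorem W_le_V : WE p E ≤ omegaOneCenter p (pCore p G) :=
  let ⟨_, hT, k⟩ := h.ex
  k.WE_le_V hT hG

theorem W_le_Q : WE p E ≤ pCore p G := (h.W_le_V hG).trans (omegaOneCenter_le p _)

theorem conj_cases (g : G) : E ^ᶜ g = E ∨ E ^ᶜ g ≤ C(E) :=
  (SB.eq_or_comm hG (h.conj g) h).imp_right cent_of_comm_bot'

theorem max_norm (hS : pCore p G ≤ S) (hA : MaxAb p S A) : A ≤ N(E) := by
  classical
  by_contra hn
  obtain ⟨a, ha, ha'⟩ := SetLike.not_le_iff_exists.1 hn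
  obtain ⟨T, hT, k⟩ := h.ex
  obtain ⟨M, _, R, m, ⟨s⟩⟩ := k.model
  haveI := m.fin
  let _ := Fintype.ofFinite A
  let O : Finset (Subgroup G) := Finset.univ.image fun x : A => E ^ᶜ (x : G)
  have hO : ∀ X, X ∈ O ↔ ∃ x ∈ A, E ^ᶜ x = X := fun X => by simp [O]
  set Y := nclIn (WE p E) A with hY
  have YV : Y ≤ omegaOneCenter p (pCore p G) :=
    nclIn_le (h.W_le_V hG) ((nQ p A).trans (normalizer_le_normalizer_omegaOneCenter p _))
  have eY := isElementaryAbelian_of_le (isElementaryAbelian_omegaOneCenter p _) YV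
  have h₁ := (card_le_of_maxAb eY (YV.trans ((omegaOneCenter_le p _).trans hS)) hA).1
  have h₂ : Nat.card A ≤ Nat.card ↥(A ⊓ N(E)) * O.card := by
    rw [← Nat.card_eq_finsetCard]
    exact card_le_of_fiber (fun x : A => (⟨E ^ᶜ (x : G), (hO _).2 ⟨x, x.2, rfl⟩⟩ : O)) fun x y e =>
      mem_normalizer_iff_conj_eq.2 (by rw [← conj_conj, ← Subtype.mk.inj e, conj_conj_inv])
  have h₃ := k.card_eq_im s.toSect (inf_le_right : A ⊓ N(E) ≤ _)
  have h₄ : Nat.card ↥(A ⊓ N(E) ⊓ C(WE p E)) ≤ Nat.card ↥(A ⊓ C(Y)) := card_le_of_le (le_inf (inf_le_left.trans inf_le_left)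
    (le_centralizer_iff.1 (nclIn_le (le_centralizer_iff.1 inf_le_right) (le_normalizer_centralizer
      (le_normalizer_of_le_centralizer (hA.abExp.le_centralizer.trans
        (centralizer_anti (inf_le_left.trans inf_le_left))))))))
  have h₅ := m.k1 (s.im (A ⊓ N(E))) (s.im_norm inf_le_right)
    (s.im_elem (abExp_iff_isElementaryAbelian.1 (hA.abExp.mono inf_le_left)))
  have h₆ := pow_le_relIndex (Y := Y) (m := Nat.card M) O (WE p) (fun X => (C(X) : Subgroup G))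
    (fun X hX => by
      obtain ⟨x, hx, rfl⟩ := (hO X).1 hX
      exact (conj_WE p E x).ge.trans (conj_le_nclIn _ hx))
    (fun X hX X' hX' ne => by
      obtain ⟨x, -, rfl⟩ := (hO X).1 hX
      obtain ⟨x', -, rfl⟩ := (hO X').1 hX'
      exact (WE_le_E p _).trans (cent_of_comm_bot' ((SB.eq_or_comm hG (h.conj x) (h.conj x')).resolve_left ne)))
    (fun X hX => by
      obtain ⟨x, -, rfl⟩ := (hO X).1 hX
      exact (relIndex_W s.toSect x).ge)
  have hW : ∀ y : ↥(Y ⊓ C(A)), ∃ w ∈ WE p E, w⁻¹ * y ∈ (C(E) : Subgroup G) := fun y => by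
    have : Y ≤ WE p E ⊔ C(E) := nclIn_le_iff.2 fun x _ => by
      rw [conj_WE]
      rcases h.conj_cases hG x with e | e
      · rw [e]; exact le_sup_left
      · exact (WE_le_E p _).trans (e.trans le_sup_right)
    obtain ⟨w, hw, c, hc, e⟩ := (mem_sup_iff_of_le_normalizer ((WE_le_E p E).trans
      (le_normalizer_centralizer le_normalizer))).1 (this y.2.1)
    exact ⟨w, hw, by rwa [← e, inv_mul_cancel_left]⟩
  choose w hw hw' using hW
  have h₇ : Nat.card ↥(Y ⊓ C(A)) ≤ Nat.card ↥(Y ⊓ C(A) ⊓ ⨅ X ∈ O, (C(X) : Subgroup G)) * Nat.card (fixM (s.im (A ⊓ N(E)))) :=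
    card_le_of_fiber (fun y => (⟨s.ψ (w y), (s.mem_fix_iff (inf_le_right.trans (norm_NN p E)) (hw y)).2 fun x hx =>
      ⟨comm_mem_of_norm (norm_WE p E hx.2) (hw y), by
        have e := comm_eq_one_of_cent' y.2.2 hx.1
        rw [← mul_inv_cancel_left (w y) y, comm_mul_left, mul_eq_one_iff_inv_eq] at e
        rw [← e]
        exact Subgroup.inv_mem _ (conj_mem_of_norm (le_normalizer_centralizer le_normalizer (WE_le_E p E (hw y)))
          (comm_mem_of_norm (le_normalizer_centralizer le_rfl hx.2) (hw' y)))⟩⟩ : fixM (s.im (A ⊓ N(E))))) fun y y' e => by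
      have e₁ := ((s.eq_iff (hw y) (hw y')).1 (Subtype.mk.inj e)).2
      have e₂ : (y : G)⁻¹ * y' ∈ (C(E) : Subgroup G) := by
        have := mul_mem (mul_mem (inv_mem (hw' y)) e₁) (hw' y')
        simpa [mul_assoc] using this
      refine mem_iInf.2 fun X => mem_iInf.2 fun hX => ?_
      obtain ⟨x, hx, rfl⟩ := (hO X).1 hX
      rw [← conj_centralizer, ← conj_eq_of_cent' (mul_mem (inv_mem y.2) y'.2).2 hx]
      exact conj_mem_conj x e₂
  have h₈ : Nat.card ↥(Y ⊓ C(A) ⊓ ⨅ X ∈ O, (C(X) : Subgroup G)) ≤ Nat.card ↥((⨅ X ∈ O, (C(X) : Subgroup G)) ⊓ Y) :=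
    card_le_of_le (le_inf inf_le_right (inf_le_left.trans inf_le_left))
  have h₉ := card_inf_mul_relIndex (⨅ X ∈ O, (C(X) : Subgroup G)) Y
  have two : 2 ≤ O.card := Finset.one_lt_card.2 ⟨_, (hO _).2 ⟨a, ha, rfl⟩, _, (hO _).2 ⟨1, one_mem _, conj_one E⟩,
    fun e => ha' (mem_normalizer_iff_conj_eq.2 e)⟩
  have four : 4 ≤ Nat.card M := le_trans (Nat.pow_le_pow_left hp.out.two_le 2) m.sq
  exact arith_off four two Nat.card_pos Nat.card_pos h₁ h₂ h₃ h₄ h₅ h₆ h₇ h₈ h₉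

theorem J_norm (hS : pCore p G ≤ S) : J p S ≤ N(E) := J_le_iff.2 fun _ hA => h.max_norm hG hS hA

theorem norm_of_fix (hx : x ∈ WE p E) (hx' : x ∉ C(E)) (e : g * x * g⁻¹ = x) : g ∈ N(E) :=
  mem_normalizer_iff_conj_eq.2 ((h.conj_cases hG g).resolve_right fun k => hx' (k (e ▸ conj_mem_conj g (WE_le_E p E hx))))

theorem B_norm (hS : IsPGroup p S) (hQ : pCore p G ≤ S) : Bm p S ≤ N(E) := fun b hb => by
  obtain ⟨T, -, k⟩ := h.ex
  obtain ⟨w, hw, h₁, h₂⟩ := k.exists_cent_J hS ((h.W_le_Q hG).trans hQ) (h.J_norm hG hQ)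
  exact h.norm_of_fix hG hw h₂ (conj_eq_of_cent (Bm_le_cent p S hb) h₁)

theorem BG_norm : BG G p ≤ N(E) := BG_le fun _ hT => h.B_norm hG hT.isPGroup hT.pCore_le

theorem exists_fixed (hT : IsSylowIn p T ⊤) (hJ : ¬ J p T ≤ C(WE p E)) :
    ∃ y ∈ WE p E, y ∈ C(T ⊓ N(E)) ∧ y ∉ C(E) ∧ ∃ z ∈ omegaOneCenter p T, y⁻¹ * z ∈ C(E) := by
  obtain ⟨T₀, -, k⟩ := h.ex
  obtain ⟨y, hy, h₁, h₂⟩ := k.exists_fixed_pt (P := T ⊓ N(E)) hT.isPGroup ((h.W_le_Q hG).trans hT.pCore_le)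
    (h.J_norm hG hT.pCore_le) hJ (hT.isPGroup.to_le inf_le_left) inf_le_right
    (inf_le_left.trans (le_normalizer.trans (normalizer_le_normalizer_J p T)))
  obtain ⟨z, hz, h₃⟩ := exists_orbit_prod (K := C(E)) (isElementaryAbelian_omegaOneCenter p (pCore p G)).1
    ((nQ p T).trans (normalizer_le_normalizer_omegaOneCenter p _)) (h.W_le_V hG hy) fun g hg =>
      (h.conj_cases hG g).imp (fun e => conj_eq_of_cent' h₁ ⟨hg, mem_normalizer_iff_conj_eq.2 e⟩)
        fun e => e (conj_mem_conj g (WE_le_E p E hy))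
  exact ⟨y, hy, h₁, h₂, z, le_omegaOneCenter (isElementaryAbelian_of_le (isElementaryAbelian_omegaOneCenter p _) inf_le_left)
    (inf_le_left.trans ((omegaOneCenter_le p _).trans hT.pCore_le)) inf_le_right hz, h₃⟩

/-- A subnormal block is a block for every Sylow subgroup. -/
theorem blk (hT : IsSylowIn p T ⊤) : Blk p T E := by
  obtain ⟨T₀, hT₀, k⟩ := h.ex
  obtain ⟨g, -, rfl⟩ := hT₀.exists_conj_eq hT
  obtain ⟨b, hb, n, hn, rfl⟩ := exists_BG_mul hT₀ g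
  have e : Bm p (T₀ ^ᶜ n) = Bm p T₀ := by rw [← conj_Bm, conj_eq_of_mem_normalizer hn]
  have := (k.of_eq e fun c => by
    obtain ⟨y, -, -, h₁, z, hz, h₂⟩ := h.exists_fixed hG (hT₀.conj_top n)
      (by rw [← J_Bm, e, J_Bm]; exact k.not_J_cent hT₀ hG)
    exact h₁ (inv_mem_iff.1 ((mul_mem_cancel_right (cent_of_comm_bot c hz)).1 h₂))).conj b
  rwa [conj_conj, conj_eq_of_mem_normalizer (h.BG_norm hG hb)] at this

theorem mem_sup_of_BG (hx : x ∈ BG G p) (ho : (orderOf x).Coprime p) : x ∈ E ⊔ C(WE p E) := by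
  obtain ⟨T, -, k⟩ := h.ex
  have n := h.BG_norm hG
  have key : ∀ {M : Type} [AddCommGroup M] {R : Subgroup (AutM M)} (a : ActS R E (WE p E) (ZW p E)),
      ((orderOf (a.θ x)).Coprime p → a.θ x ∈ R) → x ∈ E ⊔ C(WE p E) := fun a ha => by
    obtain ⟨y, hy, e⟩ := a.exists_θ (ha (ho.coprime_dvd_left (orderOf_dvd_of_pow_eq_one (by
      rw [← a.θ_pow (norm_NN p E (n hx)), pow_orderOf_eq_one, a.θ_one]))))
    rw [← mul_inv_cancel_left y x]
    exact mul_mem_sup hy ((k.inf_rel le_rfl).le (mem_inf.2 ⟨mul_mem (inv_mem (le_normalizer hy)) (n hx),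
      (a.θ_eq_iff (a.norm hy) (norm_NN p E (n hx))).1 e⟩)).2
  rcases k.cases' with ⟨F, _, _, _, ⟨a⟩, -⟩ | ⟨rfl, m, hm, ⟨a⟩, -⟩
  · refine key a (mem_RL_of_coprime (a.im_cm_le (a.θ_mem (BG_le (fun S hS => a.le_cm_iff.2 ⟨?_, ?_⟩) hx))))
    · exact (h.B_norm hG hS.isPGroup hS.pCore_le).trans (norm_NN p E)
    · exact k.lin_B_le a hS.isPGroup ((h.W_le_Q hG).trans hS.pCore_le) (h.B_norm hG hS.isPGroup hS.pCore_le)
  · exact key a (mem_RS_of_coprime (odd_fin m) (norm_le_PS (odd_fin m) (three_le_fin hm) (a.θ_norm (n hx))))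

theorem le_or_comm (hT : IsSylowIn p T ⊤) (h' : Blk p T F) : F ≤ E ∨ ⁅F, E⁆ = ⊥ := by
  have n := (h'.le_BG hT).trans (h.BG_norm hG)
  refine ((h.blk hG hT).comm_or_le hT h' hT hG n).symm.imp (fun e => ?_) (commutator_comm _ _).trans
  exact (h.blk hG hT).le_of_le_sup hT h' hT hG n e (h'.le_of_coprime fun x hx => h.mem_sup_of_BG hG (h'.le_BG hT hx))

end SB

end Cfsg.Agent.Lib.Blk
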