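import Cfsg.Agent.Lib.BlkData

/-! Offenders on the module of a block. -/

set_option autoImplicit false
open Cfsg

namespace Cfsg.Agent.Lib.Blk

open Subgroup Cfsg.Agent.Lib.PCoreConj Cfsg.Agent.Lib.PCore Cfsg.Agent.Lib.PCoreResidual Cfsg.Agent.Lib.PCoreMod
open Cfsg.Agent.Lib.ThompsonJ Cfsg.Agent.Lib.PushBase
open scoped Pointwise commutatorElement MatrixGroups

universe u
variable {G : Type u} [Group G] {p : ℕ} {T E U U₀ X Y S A : Subgroup G} {g : G}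
variable {M : Type*} [AddCommGroup M] {R : Subgroup (AutM M)}

namespace Sect
variable (s : Sect M U U₀)

/-- The elements acting as elements of `R`. -/
noncomputable def cm (R : Subgroup (AutM M)) : Subgroup G := (R.comap s.θh).map (NN U U₀).subtype

theorem mem_cm : g ∈ s.cm R ↔ g ∈ NN U U₀ ∧ s.θ g ∈ R :=
  ⟨fun ⟨x, hx, e⟩ => e ▸ ⟨x.2, s.θh_eq x ▸ hx⟩, fun ⟨h₁, h₂⟩ => ⟨⟨g, h₁⟩, (s.θ_eq h₁ ▸ h₂ :), rfl⟩⟩

theorem cm_le : s.cm R ≤ NN U U₀ := map_subtype_le _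

theorem le_cm_iff : X ≤ s.cm R ↔ X ≤ NN U U₀ ∧ s.im X ≤ R :=
  ⟨fun h => ⟨h.trans s.cm_le, s.im_le_iff.2 fun _ hx => (s.mem_cm.1 (h hx)).2⟩,
    fun h _ hx => s.mem_cm.2 ⟨h.1 hx, h.2 (s.θ_mem hx)⟩⟩

theorem im_cm_le : s.im (s.cm R) ≤ R := (s.le_cm_iff.1 le_rfl).2

theorem norm_cm (hX : X ≤ NN U U₀) (h : s.im X ≤ N(R)) : X ≤ N(s.cm R) :=
  le_normalizer_iff_conj_le.2 fun g hg => conj_le_iff.2 fun x hx => by
    obtain ⟨h₁, h₂⟩ := s.mem_cm.1 hx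
    refine s.mem_cm.2 ⟨mul_mem (mul_mem (hX hg) h₁) (inv_mem (hX hg)), ?_⟩
    rw [s.θ_conj (hX hg) h₁]
    exact conj_mem_of_norm (h (s.θ_mem hg)) h₂

theorem extend (h₁ : U ⊓ Y = U₀) (h₂ : U ⊔ Y = X) (h₃ : U ≤ N(Y)) :
    ∃ s' : Sect M X Y, ∀ u ∈ U, s'.ψ u = s.ψ u := by
  classical
  have hX : ∀ x ∈ X, ∃ u ∈ U, u⁻¹ * x ∈ Y := fun x hx => by
    obtain ⟨u, hu, y, hy, rfl⟩ := (mem_sup_iff_of_le_normalizer h₃).1 (h₂.ge hx)
    exact ⟨u, hu, by rwa [inv_mul_cancel_left]⟩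
  let ψ : G → M := fun x => if h : ∃ u ∈ U, u⁻¹ * x ∈ Y then s.ψ h.choose else 0
  have hψ : ∀ x, ∀ u ∈ U, u⁻¹ * x ∈ Y → ψ x = s.ψ u := fun x u hu h => by
    have h' : ∃ u ∈ U, u⁻¹ * x ∈ Y := ⟨u, hu, h⟩
    rw [show ψ x = s.ψ h'.choose from dif_pos h', s.eq_iff h'.choose_spec.1 hu, ← h₁]
    refine ⟨U.mul_mem (U.inv_mem h'.choose_spec.1) hu, ?_⟩
    have := Y.mul_mem h'.choose_spec.2 (Y.inv_mem h)
    rwa [mul_inv_rev, inv_inv, mul_assoc, mul_inv_cancel_left] at this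
  refine ⟨⟨ψ, h₂ ▸ le_sup_right, fun x hx y hy => ?_, fun m => ?_, fun x hx => ?_⟩, fun u hu =>
    hψ u u hu (by rw [inv_mul_cancel]; exact one_mem _)⟩
  · obtain ⟨u, hu, h⟩ := hX x hx
    obtain ⟨v, hv, k⟩ := hX y hy
    rw [hψ x u hu h, hψ y v hv k, hψ (x * y) (u * v) (mul_mem hu hv), s.add u hu v hv]
    have := mul_mem (conj_mem_of_norm (h₃ (inv_mem hv)) h) k
    convert this using 1
    group
  · obtain ⟨u, hu, rfl⟩ := s.onto m
    exact ⟨u, h₂.le (mem_sup_left hu), hψ u u hu (by rw [inv_mul_cancel]; exact one_mem _)⟩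
  · obtain ⟨u, hu, h⟩ := hX x hx
    rw [hψ x u hu h, s.ker u hu, ← h₁]
    refine ⟨fun k => ?_, fun k => ⟨hu, ?_⟩⟩
    · have := Y.mul_mem k.2 h
      rwa [mul_inv_cancel_left] at this
    · have := Y.mul_mem k (Y.inv_mem h)
      rwa [mul_inv_rev, inv_inv, mul_inv_cancel_left] at this

include s in
theorem exists_fixed' [Fact p.Prime] [Finite M] (hS : IsPGroup p S) (hn : S ≤ NN U U₀) (ht : ∀ m : M, p • m = 0)
    (hY : Y ≤ U) (hSY : S ≤ N(Y)) (hne : ¬ Y ≤ U₀) : ∃ y ∈ Y, y ∉ U₀ ∧ ∀ x ∈ S, ⁅y, x⁆ ∈ U₀ := by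
  obtain ⟨_, ⟨y, hy, hy', rfl⟩, h0, hf⟩ := exists_fixed (s.im_isPGroup hS) (s.img Y) (s.im_img hSY) (fun m _ => ht m)
    fun e => hne ((s.img_eq_bot_iff hY).1 e)
  exact ⟨y, hy, fun e => h0 (s.zero e), (s.mem_fix_iff hn hy').1 hf⟩

end Sect

theorem exists_sect (h : U₀ ≤ U) (hc : ⁅U, U⁆ ≤ U₀) : ∃ (M : Type u) (_ : AddCommGroup M), Nonempty (Sect M U U₀) := by
  classical
  haveI : (U₀.subgroupOf U).Normal := normal_subgroupOf_of_le (le_normalizer_of_commutator_le_of_le hc h)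
  letI : CommGroup (U ⧸ U₀.subgroupOf U) :=
    { QuotientGroup.Quotient.group _ with
      mul_comm := fun a b => by
        obtain ⟨a, rfl⟩ := QuotientGroup.mk_surjective a
        obtain ⟨b, rfl⟩ := QuotientGroup.mk_surjective b
        rw [← QuotientGroup.mk_mul, ← QuotientGroup.mk_mul, QuotientGroup.eq, mem_subgroupOf]
        have := hc (commutator_mem_commutator (inv_mem b.2) (inv_mem a.2))
        convert this using 1
        simp only [commutatorElement_def, coe_mul, coe_inv]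
        group }
  refine ⟨Additive (U ⧸ U₀.subgroupOf U), inferInstance,
    ⟨⟨fun g => if h : g ∈ U then Additive.ofMul (QuotientGroup.mk ⟨g, h⟩) else 0, h, fun u hu v hv => ?_, fun m => ?_,
      fun u hu => ?_⟩⟩⟩
  · rw [dif_pos hu, dif_pos hv, dif_pos (mul_mem hu hv)]
    rfl
  · obtain ⟨u, hu⟩ := QuotientGroup.mk_surjective m.toMul
    exact ⟨u, u.2, by rw [dif_pos u.2, hu]; rfl⟩
  · rw [dif_pos hu, ofMul_eq_zero, QuotientGroup.eq_one_iff, mem_subgroupOf]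

open Classical in
/-- The tautological coordinates on an elementary abelian subgroup. -/
noncomputable def emSect (h : IsElementaryAbelian p U) : Sect (EMod.EM h) U ⊥ where
  ψ g := if hg : g ∈ U then EMod.mk h g hg else 0
  le := bot_le
  add u hu v hv := by
    rw [dif_pos hu, dif_pos hv, dif_pos (mul_mem hu hv)]
    rfl
  onto m := ⟨m.val, EMod.val_mem m, by rw [dif_pos (EMod.val_mem m), EMod.mk_val]⟩
  ker u hu := by rw [dif_pos hu, ← EMod.val_eq_one, EMod.val_mk, mem_bot]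

theorem emSect_val (h : IsElementaryAbelian p U) (m : EMod.EM h) : (emSect h).ψ m.val = m :=
  (dif_pos (EMod.val_mem m)).trans (EMod.mk_val m)

theorem card_le_of_maxAb [Finite S] {V : Subgroup G} (hV : IsElementaryAbelian p V) (hVS : V ≤ S) (hA : MaxAb p S A) :
    Nat.card ↥(A ⊓ C(V)) * Nat.card V ≤ Nat.card A * Nat.card ↥(V ⊓ C(A)) ∧
      (Nat.card A * Nat.card ↥(V ⊓ C(A)) ≤ Nat.card ↥(A ⊓ C(V)) * Nat.card V → MaxAb p S (A ⊓ C(V) ⊔ V)) := by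
  haveI : Finite V := finite_of_le hVS
  haveI : Finite ↥(V ⊓ C(A)) := finite_of_le (inf_le_left : _ ≤ V)
  have h₁ : A ⊓ C(V) ⊔ V ≤ S := sup_le (inf_le_left.trans hA.le) hVS
  have h₂ := (hA.abExp.mono (inf_le_left : A ⊓ C(V) ≤ A)).sup (abExp_iff_isElementaryAbelian.2 hV) inf_le_right
  have h₃ : Nat.card ↥(A ⊓ C(V) ⊓ V) ≤ Nat.card ↥(V ⊓ C(A)) :=
    Subgroup.card_le_of_le (le_inf inf_le_right ((inf_le_left.trans inf_le_left).trans hA.abExp.le_centralizer))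
  rw [← card_sup_mul_card_inf (le_normalizer_of_le_centralizer inf_le_right)]
  refine ⟨Nat.mul_le_mul (hA.card_le h₁ h₂) h₃, fun h => hA.of_card_le h₁ h₂ ?_⟩
  exact Nat.le_of_mul_le_mul_right (h.trans (Nat.mul_le_mul_left _ h₃)) Nat.card_pos

variable [hp : Fact p.Prime] [Finite G]

namespace Blk
variable (h : Blk p T E)
include h

theorem card_eq_im (a : Sect M (WE p E) (ZW p E)) (hX : X ≤ N(E)) :
    Nat.card X = Nat.card (a.im X) * Nat.card ↥(X ⊓ C(WE p E)) := by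
  rw [a.card_eq_im (hX.trans (norm_NN p E)), h.inf_rel hX]

theorem im_eq_bot_iff (a : Sect M (WE p E) (ZW p E)) (hX : X ≤ N(E)) : a.im X = ⊥ ↔ X ≤ C(WE p E) := by
  rw [eq_bot_iff, a.im_le_iff]
  exact forall₂_congr fun x hx => by rw [mem_bot, h.θ_eq_one a (hX hx)]

theorem off (m : Model p R) (a : ActS R E (WE p E) (ZW p E)) (hW : WE p E ≤ S) (hA : MaxAb p S A) (hn : A ≤ N(E)) :
    Nat.card M = Nat.card (a.im A) * Nat.card (fixM (a.im A)) ∧ a.pre (fixM (a.im A)) = WE p E ⊓ C(A) ∧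
      MaxAb p S (A ⊓ C(WE p E) ⊔ WE p E) := by
  haveI := m.fin
  obtain ⟨h₁, h₂⟩ := card_le_of_maxAb (WE_elem p E) hW hA
  have k₁ := m.k1 _ (a.im_norm hn) (a.im_elem (abExp_iff_isElementaryAbelian.1 hA.abExp))
  have l₁ : WE p E ⊓ C(A) ≤ a.pre (fixM (a.im A)) := fun w hw =>
    ⟨hw.1, a.img_cent_le (hn.trans (norm_NN p E)) (a.ψ_mem_img hw hw.1)⟩
  have l₂ := Subgroup.card_le_of_le l₁
  rw [h.card_eq_im a.toSect hn, a.card_U] at h₁ h₂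
  have l₃ := a.card_pre (fixM (a.im A))
  have p₁ : 0 < Nat.card ↥(A ⊓ C(WE p E)) := Nat.card_pos
  have p₂ : 0 < Nat.card (ZW p E) := Nat.card_pos
  have p₃ : 0 < Nat.card (a.im A) := Nat.card_pos
  rw [l₃] at l₂
  generalize Nat.card ↥(A ⊓ C(WE p E)) = c₀ at *
  have e₁ : Nat.card M * Nat.card (ZW p E) ≤ Nat.card (a.im A) * Nat.card ↥(WE p E ⊓ C(A)) :=
    Nat.le_of_mul_le_mul_left (h₁.trans_eq (by ring)) p₁
  have e₂ : Nat.card (a.im A) * (Nat.card (fixM (a.im A)) * Nat.card (ZW p E)) ≤ Nat.card M * Nat.card (ZW p E) := by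
    rw [← mul_assoc]
    exact Nat.mul_le_mul_right _ k₁
  refine ⟨le_antisymm (Nat.le_of_mul_le_mul_right ((e₁.trans (Nat.mul_le_mul_left _ l₂)).trans_eq
    (mul_assoc _ _ _).symm) p₂) k₁, (eq_of_le_of_card_le l₁ ?_).symm, h₂ ?_⟩
  · rw [l₃]
    exact Nat.le_of_mul_le_mul_left (e₂.trans e₁) p₃
  · rw [mul_comm (Nat.card (a.im A)), mul_assoc]
    exact Nat.mul_le_mul_left _ ((Nat.mul_le_mul_left _ l₂).trans e₂)

theorem pre_fix_J (m : Model p R) (a : ActS R E (WE p E) (ZW p E)) (hW : WE p E ≤ S) (hn : J p S ≤ N(E)) :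
    a.pre (fixM (a.im (J p S))) = WE p E ⊓ C(J p S) := by
  refine le_antisymm (le_inf (a.pre_le _) (le_centralizer_iff.1 (J_le_iff.2 fun A hA => le_centralizer_iff.1 ?_)))
    fun w hw => ⟨hw.1, a.img_cent_le (hn.trans (norm_NN p E)) (a.ψ_mem_img hw hw.1)⟩
  refine le_trans (fun w hw => ?_) ((h.off m a hW hA (hA.le_J.trans hn)).2.1.le.trans inf_le_right)
  exact ⟨hw.1, fixM_anti (a.im_mono hA.le_J) hw.2⟩

omit h hp in
theorem inf_cent_J_le (hW : WE p E ≤ S) : WE p E ⊓ C(J p S) ≤ ZJ p S := fun w hw =>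
  mem_ZJ_iff.2 ⟨hW hw.1, hw.2, (WE_elem p E).2 w hw.1⟩

theorem exists_cent_J (hS : IsPGroup p S) (hW : WE p E ≤ S) (hn : J p S ≤ N(E)) :
    ∃ w ∈ WE p E, w ∈ ZJ p S ∧ w ∉ C(E) := by
  obtain ⟨M, _, R, m, ⟨a⟩⟩ := h.model
  haveI := m.fin
  obtain ⟨w, hw, h₁, h₂⟩ := a.exists_fixed' (hS.to_le (J_le p S)) (hn.trans (norm_NN p E)) m.tors le_rfl
    (hn.trans (norm_WE p E)) fun e => h.not_le_cent (e.trans (ZW_cent p E))
  exact ⟨w, hw, inf_cent_J_le hW ((h.pre_fix_J m a hW hn).le ⟨hw, (a.mem_fix_iff (hn.trans (norm_NN p E)) hw).2 h₂⟩),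
    fun e => h₁ ⟨hw, e⟩⟩

omit h hp in
theorem B_cent_of (hW : WE p E ≤ S) (hJ : J p S ≤ C(WE p E)) : Bm p S ≤ C(WE p E) :=
  (Bm_le_cent p S).trans (centralizer_anti ((le_inf le_rfl (le_centralizer_iff.1 hJ)).trans (inf_cent_J_le hW)))

section Lin
variable {F : Type*} [Field F] [Finite F] [CharP F p] (a : ActS (RL F) E (WE p E) (ZW p E))

theorem lin_A (hW : WE p E ≤ S) (hA : MaxAb p S A) (hn : A ≤ N(E)) (hc : ¬ A ≤ C(WE p E)) :
    ∃ v, v ≠ 0 ∧ a.im A = UL v :=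
  (k1_lin (a.im_norm hn) (a.im_elem (abExp_iff_isElementaryAbelian.1 hA.abExp))).2
    (fun e => hc ((h.im_eq_bot_iff a.toSect hn).1 e)) (h.off model_lin a hW hA hn).1.le

theorem lin_J (hS : IsPGroup p S) (hW : WE p E ≤ S) (hn : J p S ≤ N(E)) (hc : ¬ J p S ≤ C(WE p E)) :
    ∃ v, v ≠ 0 ∧ a.im (J p S) = UL v ∧ a.pre (line v) = WE p E ⊓ C(J p S) := by
  obtain ⟨v, -, hv, hf⟩ := exists_fixed (a.im_isPGroup (hS.to_le (J_le p S))) ⊤ (fun _ _ _ _ => trivial)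
    (fun m _ => vec_tors m) (fun e => e0_ne (F := F) (AddSubgroup.mem_bot.1 (e ▸ AddSubgroup.mem_top _)))
  have key : ∀ A, MaxAb p S A → ¬ A ≤ C(WE p E) → a.im A = UL v := fun A hA hc => by
    obtain ⟨w, hw, e⟩ := h.lin_A a hW hA (hA.le_J.trans hn) hc
    have := fixM_anti (a.im_mono hA.le_J) hf
    rw [e, fix_UL hw] at this
    rw [e, UL_eq hw hv this]
  have e : a.im (J p S) = UL v := by
    refine le_antisymm (a.le_cm_iff.1 (J_le_iff.2 fun A hA => a.le_cm_iff.2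
      ⟨(hA.le_J.trans hn).trans (norm_NN p E), ?_⟩)).2 ?_
    · by_cases hc : A ≤ C(WE p E)
      · exact ((h.im_eq_bot_iff a.toSect (hA.le_J.trans hn)).2 hc).le.trans bot_le
      · exact (key A hA hc).le
    · obtain ⟨A, hA, hc⟩ : ∃ A, MaxAb p S A ∧ ¬ A ≤ C(WE p E) := by
        by_contra! k
        exact hc (J_le_iff.2 k)
      exact (key A hA hc).ge.trans (a.im_mono hA.le_J)
  exact ⟨v, hv, e, by rw [← h.pre_fix_J model_lin a hW hn, e, fix_UL hv]⟩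

theorem lin_B (hS : IsPGroup p S) (hW : WE p E ≤ S) (hn : Bm p S ≤ N(E)) (hc : ¬ J p S ≤ C(WE p E)) :
    ∃ v, v ≠ 0 ∧ a.im (J p S) = UL v ∧ a.pre (line v) = WE p E ⊓ C(J p S) ∧ a.im (Bm p S) = UL v := by
  obtain ⟨v, hv, e₁, e₂⟩ := h.lin_J a hS hW ((J_le_Bm p S).trans hn) hc
  refine ⟨v, hv, e₁, e₂, le_antisymm (a.im_le_iff.2 fun b hb => ?_) (e₁.ge.trans (a.im_mono (J_le_Bm p S)))⟩
  obtain ⟨k, hk⟩ := isPGroup_iff_forall_mem.1 (a.im_isPGroup (hS.to_le (Bm_le p S))) _ (a.θ_mem hb)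
  refine mem_UL_of_fix (a.θ_norm (hn hb)) hv (fun m hm => ?_) hk
  obtain ⟨w, hw, rfl⟩ := a.onto m
  rw [a.fix_iff (norm_NN p E (hn hb)) hw, comm_eq_one_of_cent (Bm_le_cent p S hb) (inf_cent_J_le hW (e₂.le ⟨hw, hm⟩))]
  exact one_mem _

theorem lin_B_le (hS : IsPGroup p S) (hW : WE p E ≤ S) (hn : Bm p S ≤ N(E)) : a.im (Bm p S) ≤ PL F := by
  by_cases hc : J p S ≤ C(WE p E)
  · exact ((h.im_eq_bot_iff a.toSect hn).2 (B_cent_of hW hc)).le.trans bot_le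
  · obtain ⟨v, -, -, -, e⟩ := h.lin_B a hS hW hn hc
    exact e.le.trans (UL_le_PL v)

end Lin

/-- A `p`-group normalizing `J` and `E` has a fixed point on `W` not centralized by `E`. -/
theorem exists_fixed_pt {P : Subgroup G} (hS : IsPGroup p S) (hW : WE p E ≤ S) (hn : J p S ≤ N(E))
    (hc : ¬ J p S ≤ C(WE p E)) (hP : IsPGroup p P) (h₁ : P ≤ N(E)) (h₂ : P ≤ N(J p S)) :
    ∃ y ∈ WE p E, y ∈ C(P) ∧ y ∉ C(E) := by
  rcases h.cases' with ⟨F, _, _, _, ⟨a⟩, -⟩ | ⟨-, -, -, -, -, e⟩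
  swap
  · obtain ⟨y, hy, k₁, k₂, -⟩ := exists_mem_centralizer_pow_eq_one hP (WE_pgroup p E) (h₁.trans (norm_WE p E)) h.WE_ne_bot
    exact ⟨y, hy, k₁, fun k => k₂ (mem_bot.1 (e.le ⟨hy, k⟩))⟩
  obtain ⟨v, hv, e₁, e₂⟩ := h.lin_J a hS hW hn hc
  let s : Sect F (WE p E) (WE p E ⊓ C(J p S)) :=
    { ψ := fun g => det2 v (a.ψ g)
      le := inf_le_left
      add := fun u hu w hw => by rw [a.add u hu w hw, det2_add]
      onto := fun c => by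
        obtain ⟨w, hw⟩ := exists_det2 hv
        obtain ⟨u, hu, e⟩ := a.onto (c • w)
        exact ⟨u, hu, by rw [e, det2_smul, hw, mul_one]⟩
      ker := fun u hu => by rw [← e₂, a.mem_pre, and_iff_right hu, mem_line] }
  have hw := h₁.trans (norm_WE p E)
  obtain ⟨w, hw₁, hw₂, hw₃⟩ := s.exists_fixed' hP (le_inf hw (le_normalizer_inf hw (le_normalizer_centralizer h₂)))
    (fun c => by rw [nsmul_eq_mul, CharP.cast_eq_zero, zero_mul]) le_rfl hw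
    fun e => hc (le_centralizer_iff.1 (e.trans inf_le_right))
  have k : ∀ j ∈ J p S, ⁅w, j⁆ ∈ WE p E ⊓ C(J p S) := fun j hj => e₂.le ⟨comm_mem_of_norm (norm_WE p E (hn hj)) hw₁, by
    rw [a.ψ_comm (norm_NN p E (hn hj)) hw₁]
    exact UL_sub (e₁.le (a.θ_mem hj)) _⟩
  let f : J p S →* G := MonoidHom.mk' (fun j => ⁅w, (j : G)⁆) fun i j => by
    rw [coe_mul, comm_mul_right, conj_eq_of_cent' (k _ j.2).2 i.2]
  have f₁ : f.range ≤ WE p E := by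
    rintro _ ⟨j, rfl⟩
    exact (k _ j.2).1
  obtain ⟨_, ⟨j, rfl⟩, k₁, k₂, -⟩ := exists_mem_centralizer_pow_eq_one (N := f.range) hP ((WE_pgroup p E).to_le f₁)
    (le_normalizer_iff_conj_le.2 fun x hx => conj_le_iff.2 (by
      rintro _ ⟨j, rfl⟩
      have hj := conj_mem_of_norm (h₂ hx) j.2
      refine ⟨⟨_, hj⟩, ?_⟩
      change ⁅w, x * j * x⁻¹⁆ = x * ⁅w, (j : G)⁆ * x⁻¹
      rw [conj_comm, conj_eq_comm x w, comm_mul_left, comm_eq_one_of_cent' (inv_mem (hw₃ x hx).2) hj, mul_one,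
        conj_eq_of_cent (le_centralizer_of_isElementaryAbelian (WE_elem p E) (inv_mem (hw₃ x hx).1)) (k _ hj).1]))
    (fun e => hw₂ ⟨hw₁, mem_centralizer_iff.2 fun j hj => (commutatorElement_eq_one_iff_mul_comm.1
      (mem_bot.1 (e.le ⟨⟨j, hj⟩, rfl⟩))).symm⟩)
  refine ⟨_, f₁ ⟨j, rfl⟩, k₁, fun e => k₂ ?_⟩
  refine comm_eq_one_of_cent ((h.θ_eq_one a.toSect (hn j.2)).1 ?_) hw₁
  by_contra k₃
  exact hw₂ (e₂.le ⟨hw₁, mem_line_of_fix hv (e₁.le (a.θ_mem j.2)) k₃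
    ((a.fix_iff (norm_NN p E (hn j.2)) hw₁).2 ⟨f₁ ⟨j, rfl⟩, e⟩)⟩)

end Blk

end Cfsg.Agent.Lib.Blk
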