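import Cfsg.Agent.Lib.PushE

/-! Baumann's argument in the rank one pushing up situation. -/

set_option autoImplicit false
open Cfsg

namespace Cfsg.Agent.Lib.PushBase

open Subgroup Cfsg.Agent.Lib.PCoreConj Cfsg.Agent.Lib.PCore Cfsg.Agent.Lib.PCoreResidual Cfsg.Agent.Lib.PCoreMod
open Cfsg.Agent.Lib.PReduced Cfsg.Agent.Lib.PIrred Cfsg.Agent.Lib.ThompsonJ
open scoped Pointwise commutatorElement

variable {H : Type*} [Group H] {p : ℕ} {G S T M V A R K : Subgroup H} {g a : H}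

theorem RO.nclIn_le (h : RO p G S T M) (hR : R ⊔ T = S) (hTR : T ≤ N(R)) (hK : R ≤ K) (ha : a ∈ G)
    (haM : a ∉ M) (haK : a ∈ K) : nclIn R G ≤ K := by
  have hRG : R ≤ G := (hR ▸ le_sup_left : R ≤ S).trans h.S_le
  have h₁ : G ≤ (K ⊓ G) ⊔ T := h.gen' (hR ▸ sup_le_sup_right (le_inf hK hRG) _) ha haM
    (mem_sup_left ⟨haK, ha⟩)
  refine nclIn_le_iff.2 fun x hx => ?_
  obtain ⟨k, hk, t, ht, rfl⟩ := (mem_sup_iff_of_le_normalizer (inf_le_right.trans h.T_norm)).1 (h₁ hx)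
  rw [← conj_conj, conj_eq_of_mem_normalizer (hTR ht)]
  exact conj_le_of_mem hK hk.1

theorem PU.cent_ncl (h : PU p G S T M) (nc : ¬ G ≤ C(Z(S))) : S ⊓ C(nclIn Z(S) G) = T :=
  have hn : G ≤ N(nclIn Z(S) G) := le_normalizer_nclIn _ _
  (h.irr _ (le_inf h.T_le h.ncl_cent) inf_le_left (le_normalizer_inf inf_le_right
    (le_normalizer_centralizer (inf_le_left.trans hn)))).resolve_right fun e =>
      nc ((h.cent_of_norm hn (e.ge.trans inf_le_right)).trans (centralizer_anti (le_nclIn _ _)))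

theorem PU.norm_of_J_le (h : PU p G S T M) (nc : ¬ G ≤ C(Z(S))) (hJ : J 0 S ≤ T) :
    G ≤ N(S ⊓ C(ZJ 0 S)) := by
  haveI := h.finS
  have hn : G ≤ N(ZJ 0 S) := by
    rw [← ZJ_eq_of_J_le hJ h.T_le]; exact h.T_norm.trans (normalizer_le_normalizer_ZJ 0 T)
  have e : S ⊓ C(ZJ 0 S) = T ⊓ C(ZJ 0 S) := le_antisymm (le_inf ((inf_le_inf_left _
    (centralizer_anti (nclIn_le (inf_centralizer_le_ZJ S) hn))).trans (h.cent_ncl nc).le)
      inf_le_right) (inf_le_inf_right _ h.T_le)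
  rw [e]
  exact le_normalizer_inf h.T_norm (le_normalizer_centralizer hn)

theorem PK.baumann (h : PK p G S T M V) (hJ : ¬ J 0 S ≤ T) :
    ∃ D, D ≤ ZJ 0 S ∧ G ≤ N(D) ∧ ZJ 0 S ≤ Z(S) ⊔ D ∧ D ⊓ Z(S) ≤ Z(G) := by
  haveI := h.finS
  obtain ⟨A, hA, hAT⟩ : ∃ A, MaxAb 0 S A ∧ ¬ A ≤ T := by
    by_contra! e; exact hJ (J_le_iff.2 e)
  obtain ⟨g, hg, hgM⟩ := h.exists_G
  have h' := h.conj_mem hg
  have hAT' : ¬ A ^ᶜ g ≤ T := by rw [← h.conj_T hg, conj_le_conj_iff]; exact hAT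
  have hA' := hA.conj g
  obtain ⟨a, ha, haT⟩ := SetLike.not_le_iff_exists.1 hAT'
  have haG := h.conj_S_le hg (hA'.le ha)
  have haM := h.not_mem_of_conj hg hgM (hA'.le ha) haT
  have hJT : J 0 S ⊔ T = S := le_antisymm (sup_le (J_le 0 S) h.T_le)
    ((h.sup_maxAb hA hAT).ge.trans (sup_le_sup_right hA.le_J _))
  have hSJ : S ≤ N(J 0 S) := le_normalizer.trans (normalizer_le_normalizer_J 0 S)
  have hW : G ≤ N(ZJ 0 T) := h.T_norm.trans (normalizer_le_normalizer_ZJ 0 T)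
  have hWS := (ZJ_le 0 T).trans h.T_le
  obtain ⟨B, hB, hBT⟩ := h.exists_maxAb_le
  refine ⟨ZJ 0 T ⊓ C(nclIn (J 0 S) G), ?_, le_normalizer_inf hW
    (le_normalizer_centralizer (le_normalizer_nclIn _ _)), fun w hw => ?_, ?_⟩
  · rw [← inf_centralizer_J_eq S]
    exact inf_le_inf hWS (centralizer_anti (le_nclIn _ _))
  · have hwW := hB.ZJ_le_ZJ hBT h.T_le hw
    have hZW := (inf_centralizer_le_ZJ S).trans (hB.ZJ_le_ZJ hBT h.T_le)
    obtain ⟨b, hb, v, hv, e⟩ := (mem_sup_iff_of_le_normalizer (le_normalizer_of_le_centralizer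
      (inf_le_right.trans h.V_cent))).1 (((h'.maxAb_inf_sup hA' hAT').of_le (h'.inf_sup_le _)
        h'.T_le).ZJ_le hwW)
    obtain ⟨z, hz, u, hu, rfl⟩ := h.exists_mul hg hgM hv
    haveI := h'.finS
    have huA : u ∈ A ^ᶜ g := center_le_maxAb hA' (conj_center S g ▸ hu)
    have e' : w = z * (b * u) := by rw [← e, ← mul_assoc, hz.2 b (h.T_le hb.2), mul_assoc]
    have hd : b * u ∈ ZJ 0 S := by
      have := mul_mem (inv_mem (inf_centralizer_le_ZJ S hz)) hw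
      rwa [e', inv_mul_cancel_left] at this
    rw [e']
    refine mul_mem_sup hz ⟨hB.ZJ_le_ZJ hBT h.T_le hd, fun x hx => ?_⟩
    refine mem_centralizer_singleton_iff.1 (h.nclIn_le (K := centralizer {b * u}) hJT
      (h.T_le.trans hSJ) (fun y hy => ?_) haG haM ?_ hx)
    · exact mem_centralizer_singleton_iff.2 (ZJ_le_centralizer_J 0 S hd y hy)
    · exact mem_centralizer_singleton_iff.2 (hA'.abExp.comm ha (mul_mem hb.1 huA))
  · refine le_inf (inf_le_left.trans (inf_le_left.trans (hWS.trans h.S_le)))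
      (le_centralizer_iff.1 (h.le_of_norm (le_centralizer_iff.1 (inf_le_right.trans inf_le_right))
        ?_))
    have hc : nclIn (J 0 S) G ≤ C(ZJ 0 T ⊓ C(nclIn (J 0 S) G) ⊓ Z(S)) :=
      le_centralizer_iff.1 (inf_le_left.trans inf_le_right)
    refine le_normalizer_of_le (h.gen₂ hg hgM (hA'.le ha) haT
      (le_centralizer_iff.1 (inf_le_right.trans inf_le_right)) (hc ?_))
    exact conj_le_nclIn _ hg (conj_mono g hA.le_J ha)

variable [hp : Fact p.Prime]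

theorem PU.exists_pk (h : PU p G S T M) (nc : ¬ G ≤ C(Z(S))) (hJ : ¬ J 0 S ≤ T) :
    PK p G S T M (nclIn Z(S) G) := by
  obtain ⟨A, hA, hAT⟩ : ∃ A, MaxAb 0 S A ∧ ¬ A ≤ T := by
    by_contra! e; exact hJ (J_le_iff.2 e)
  exact h.pk_of_maxAb nc hA hAT

theorem PU.isSylowIn_baumann (h : PU p G S T M) (nc : ¬ G ≤ C(Z(S))) :
    IsSylowIn p (S ⊓ C(ZJ 0 S)) (nclIn (S ⊓ C(ZJ 0 S)) G) := by
  haveI := h.fin
  by_cases hJ : J 0 S ≤ T
  · rw [nclIn_eq_self (h.norm_of_J_le nc hJ)]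
    exact isSylowIn_self (h.pS.to_le inf_le_left)
  obtain ⟨D, h₁, h₂, h₃, -⟩ := (h.exists_pk nc hJ).baumann hJ
  have e : S ⊓ C(ZJ 0 S) = S ⊓ C(D) := le_antisymm (inf_le_inf_left _ (centralizer_anti h₁))
    (le_inf inf_le_left (le_trans (by
      rw [centralizer_sup]; exact inf_le_inf_right _ (le_centralizer_iff.1 inf_le_right))
        (centralizer_anti h₃)))
  rw [e]
  exact (isSylowIn_inf_centralizer (h.S_le.trans h₂) h.syl).of_le (le_nclIn _ _)
    (nclIn_le (inf_le_inf_right _ h.S_le)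
      (le_normalizer_inf le_normalizer (le_normalizer_centralizer h₂)))

theorem PU.comm_ZJ (h : PU p G S T M) :
    G ≤ C(⁅ZJ 0 S, S⁆ ⊓ Z(S)) ∨ G ≤ N(S ⊓ C(ZJ 0 S)) := by
  by_cases nc : G ≤ C(Z(S))
  · exact .inl (nc.trans (centralizer_anti inf_le_right))
  by_cases hJ : J 0 S ≤ T
  · exact .inr (h.norm_of_J_le nc hJ)
  obtain ⟨D, h₁, h₂, h₃, h₄⟩ := (h.exists_pk nc hJ).baumann hJ
  refine .inl (le_centralizer_iff.1 (le_trans (inf_le_inf_right _ ?_) (h₄.trans inf_le_right)))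
  rw [commutator_comm]
  exact (commutator_mono le_rfl h₃).trans (commutator_sup_le
    (inf_le_left.trans (h.S_le.trans h₂)) le_normalizer
    ((commutator_eq_bot_iff_le_centralizer'.2 inf_le_right).trans_le bot_le)
    (commutator_le_right_of_le_normalizer (h.S_le.trans h₂)))

omit hp in
theorem PK.powerClosure_le (h : PK p G S T M V) : powerClosure p 1 Z(S) ≤ Z(G) := by
  refine (closure_le _).2 ?_
  rintro _ ⟨x, hx, rfl⟩
  rw [pow_one]
  exact h.pow_mem_W (h.Y_le hx)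

omit hp in
theorem powerClosure_le_self (n : ℕ) (A : Subgroup H) : powerClosure p n A ≤ A := by
  refine (closure_le _).2 ?_
  rintro _ ⟨x, hx, rfl⟩
  exact pow_mem hx _

theorem PU.pow_center (h : PU p G S T M) :
    G ≤ C(powerClosure p 1 Z(S)) ∨ G ≤ N(S ⊓ C(ZJ 0 S)) := by
  by_cases nc : G ≤ C(Z(S))
  · exact .inl (nc.trans (centralizer_anti (powerClosure_le_self 1 _)))
  by_cases hJ : J 0 S ≤ T
  · exact .inr (h.norm_of_J_le nc hJ)
  exact .inl (le_centralizer_iff.1 ((h.exists_pk nc hJ).powerClosure_le.trans inf_le_right))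

end Cfsg.Agent.Lib.PushBase
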