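import Cfsg.Agent.Lib.BlkPush
import Cfsg.Agent.Lib.PushJ

/-! Offenders on a natural section, and Baumann's argument. -/

set_option autoImplicit false
open Cfsg

namespace Cfsg.Agent.Lib.Blk

open Subgroup Cfsg.Agent.Lib.PCoreConj Cfsg.Agent.Lib.PCore Cfsg.Agent.Lib.PCoreResidual Cfsg.Agent.Lib.PCoreMod
open Cfsg.Agent.Lib.ThompsonJ Cfsg.Agent.Lib.PushBase Cfsg.Agent.Lib.PIrred
open scoped Pointwise commutatorElement MatrixGroups

universe u
variable {G : Type u} [Group G] {p : ℕ} {T E H W Z X Y S A L Q M₀ : Subgroup G} {g : G}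
variable {M : Type*} [AddCommGroup M] {R : Subgroup (AutM M)}

/-- `H` acts on the section `W / Z` normalizing the model group `R`, faithfully modulo `C(W)`. -/
structure Pre (p : ℕ) (R : Subgroup (AutM M)) (H : Subgroup G) (s : Sect M W Z) : Prop where
  m : Model p R
  el : IsElementaryAbelian p W
  nn : H ≤ NN W Z
  nr : s.im H ≤ N(R)
  fa : H ⊓ rel Z W ≤ C(W)

theorem cent_J_le [Finite S] (el : IsElementaryAbelian p W) (hW : W ≤ S) : W ⊓ C(J p S) ≤ ZJ p S := fun w hw =>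
  mem_ZJ_iff.2 ⟨hW hw.1, hw.2, el.2 w hw.1⟩

theorem Sect.im_sylow [Fact p.Prime] [Finite G] (s : Sect M W Z) (h : IsSylowIn p S X) (hX : X ≤ NN W Z) :
    IsSylowIn p (s.im S) (s.im X) := (h.subgroupOf hX).map s.θh

namespace Pre
variable {s : Sect M W Z} (h : Pre p R H s)
include h

theorem mono (hX : X ≤ H) : Pre p R X s :=
  ⟨h.m, h.el, hX.trans h.nn, (s.im_mono hX).trans h.nr, (inf_le_inf_right _ hX).trans h.fa⟩

theorem θ_eq_one (hg : g ∈ H) : s.θ g = 1 ↔ g ∈ C(W) :=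
  ⟨fun e => h.fa ⟨hg, (s.θ_eq_one_iff' (h.nn hg)).1 e⟩, s.θ_of_cent⟩

theorem inf_rel (hX : X ≤ H) : X ⊓ rel Z W = X ⊓ C(W) :=
  le_antisymm (le_inf inf_le_left ((inf_le_inf_right _ hX).trans h.fa))
    (inf_le_inf_left _ (le_rel_of_cent le_rfl s.le))

theorem im_eq_bot_iff (hX : X ≤ H) : s.im X = ⊥ ↔ X ≤ C(W) := by
  rw [eq_bot_iff, s.im_le_iff]
  exact forall₂_congr fun x hx => by rw [mem_bot, h.θ_eq_one (hX hx)]

variable [hp : Fact p.Prime] [Finite G]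

theorem off (hW : W ≤ S) (hA : MaxAb p S A) (hn : A ≤ H) :
    Nat.card M = Nat.card (s.im A) * Nat.card (fixM (s.im A)) ∧ s.pre (fixM (s.im A)) = W ⊓ C(A) ∧
      MaxAb p S (A ⊓ C(W) ⊔ W) := by
  haveI := h.m.fin
  obtain ⟨h₁, h₂⟩ := card_le_of_maxAb h.el hW hA
  have k₁ := h.m.k1 _ ((s.im_mono hn).trans h.nr) (s.im_elem (abExp_iff_isElementaryAbelian.1 hA.abExp))
  have l₁ : W ⊓ C(A) ≤ s.pre (fixM (s.im A)) := fun w hw =>
    ⟨hw.1, s.img_cent_le (hn.trans h.nn) (s.ψ_mem_img hw hw.1)⟩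
  have l₂ := Subgroup.card_le_of_le l₁
  rw [s.card_eq_im (hn.trans h.nn), h.inf_rel hn, s.card_U] at h₁ h₂
  have l₃ := s.card_pre (fixM (s.im A))
  have p₁ : 0 < Nat.card ↥(A ⊓ C(W)) := Nat.card_pos
  have p₂ : 0 < Nat.card Z := Nat.card_pos
  have p₃ : 0 < Nat.card (s.im A) := Nat.card_pos
  rw [l₃] at l₂
  generalize Nat.card ↥(A ⊓ C(W)) = c₀ at *
  have e₁ : Nat.card M * Nat.card Z ≤ Nat.card (s.im A) * Nat.card ↥(W ⊓ C(A)) :=
    Nat.le_of_mul_le_mul_left (h₁.trans_eq (by ring)) p₁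
  have e₂ : Nat.card (s.im A) * (Nat.card (fixM (s.im A)) * Nat.card Z) ≤ Nat.card M * Nat.card Z := by
    rw [← mul_assoc]
    exact Nat.mul_le_mul_right _ k₁
  refine ⟨le_antisymm (Nat.le_of_mul_le_mul_right ((e₁.trans (Nat.mul_le_mul_left _ l₂)).trans_eq
    (mul_assoc _ _ _).symm) p₂) k₁, (eq_of_le_of_card_le l₁ ?_).symm, h₂ ?_⟩
  · rw [l₃]
    exact Nat.le_of_mul_le_mul_left (e₂.trans e₁) p₃
  · rw [mul_comm (Nat.card (s.im A)), mul_assoc]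
    exact Nat.mul_le_mul_left _ ((Nat.mul_le_mul_left _ l₂).trans e₂)

theorem pre_fix_J (hW : W ≤ S) (hn : J p S ≤ H) : s.pre (fixM (s.im (J p S))) = W ⊓ C(J p S) := by
  refine le_antisymm (le_inf (s.pre_le _) (le_centralizer_iff.1 (J_le_iff.2 fun A hA => le_centralizer_iff.1 ?_)))
    fun w hw => ⟨hw.1, s.img_cent_le (hn.trans h.nn) (s.ψ_mem_img hw hw.1)⟩
  refine le_trans (fun w hw => ?_) ((h.off hW hA (hA.le_J.trans hn)).2.1.le.trans inf_le_right)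
  exact ⟨hw.1, fixM_anti (s.im_mono hA.le_J) hw.2⟩

theorem B_fix (hW : W ≤ S) (hn : J p S ≤ H) {m : M} (hm : m ∈ fixM (s.im (J p S))) (hg : g ∈ Bm p S)
    (hg' : g ∈ NN W Z) : s.θ g m = m := by
  obtain ⟨w, hw, rfl⟩ := s.onto m
  rw [s.fix_iff hg' hw, comm_eq_one_of_cent (Bm_le_cent p S hg) (cent_J_le h.el hW ((h.pre_fix_J hW hn).le ⟨hw, hm⟩))]
  exact one_mem _

theorem exists_cent_J (hS : IsPGroup p S) (hW : W ≤ S) (hn : J p S ≤ H) (hZ : ¬ W ≤ Z) :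
    ∃ w ∈ W, w ∈ ZJ p S ∧ w ∉ Z := by
  haveI := h.m.fin
  obtain ⟨w, hw, h₁, h₂⟩ := s.exists_fixed' (hS.to_le (J_le p S)) (hn.trans h.nn) h.m.tors le_rfl
    ((hn.trans h.nn).trans inf_le_left) hZ
  exact ⟨w, hw, cent_J_le h.el hW ((h.pre_fix_J hW hn).le ⟨hw, (s.mem_fix_iff (hn.trans h.nn) hw).2 h₂⟩), h₁⟩

end Pre

variable [hp : Fact p.Prime] [Finite G] {F : Type*} [Field F] [Finite F] [CharP F p] {s : Sect (Fin 2 → F) W Z}

namespace Pre
variable (h : Pre p (RL F) H s)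
include h

theorem lin_B (hS : IsPGroup p S) (hW : W ≤ S) (hn : Bm p S ≤ H) (hc : ¬ J p S ≤ C(W)) :
    ∃ v, v ≠ 0 ∧ s.im (J p S) = UL v ∧ s.pre (line v) = W ⊓ C(J p S) ∧ s.im (Bm p S) = UL v := by
  have hJ := (J_le_Bm p S).trans hn
  obtain ⟨v, -, hv, hf⟩ := exists_fixed (s.im_isPGroup (hS.to_le (J_le p S))) ⊤ (fun _ _ _ _ => trivial)
    (fun m _ => vec_tors m) (fun e => e0_ne (F := F) (AddSubgroup.mem_bot.1 (e ▸ AddSubgroup.mem_top _)))
  have key : ∀ A, MaxAb p S A → ¬ A ≤ C(W) → s.im A = UL v := fun A hA hc => by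
    have hAH := hA.le_J.trans hJ
    obtain ⟨w, hw, e⟩ := (k1_lin ((s.im_mono hAH).trans h.nr) (s.im_elem (abExp_iff_isElementaryAbelian.1 hA.abExp))).2
      (fun e => hc ((h.im_eq_bot_iff hAH).1 e)) (h.off hW hA hAH).1.le
    have := fixM_anti (s.im_mono hA.le_J) hf
    rw [e, fix_UL hw] at this
    rw [e, UL_eq hw hv this]
  have e : s.im (J p S) = UL v := by
    refine le_antisymm (s.le_cm_iff.1 (J_le_iff.2 fun A hA => s.le_cm_iff.2
      ⟨(hA.le_J.trans hJ).trans h.nn, ?_⟩)).2 ?_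
    · by_cases hc : A ≤ C(W)
      · exact ((h.im_eq_bot_iff (hA.le_J.trans hJ)).2 hc).le.trans bot_le
      · exact (key A hA hc).le
    · obtain ⟨A, hA, hc⟩ : ∃ A, MaxAb p S A ∧ ¬ A ≤ C(W) := by
        by_contra! k
        exact hc (J_le_iff.2 k)
      exact (key A hA hc).ge.trans (s.im_mono hA.le_J)
  refine ⟨v, hv, e, by rw [← h.pre_fix_J hW hJ, e, fix_UL hv], le_antisymm (s.im_le_iff.2 fun b hb => ?_)
    (e.ge.trans (s.im_mono (J_le_Bm p S)))⟩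
  obtain ⟨k, hk⟩ := isPGroup_iff_forall_mem.1 (s.im_isPGroup (hS.to_le (Bm_le p S))) _ (s.θ_mem hb)
  exact mem_UL_of_fix (h.nr (s.θ_mem (hn hb))) hv
    (fun m hm => h.B_fix hW hJ (by rwa [e, fix_UL hv]) hb (h.nn (hn hb))) hk

theorem baumann (k : PU p H S Q M₀) (hH : s.im H = PL F) (hW : W ≤ Q) (hQ : Q ≤ C(W)) (hc : ¬ J p S ≤ C(W)) :
    IsSylowIn p (Bm p S) (nclIn (Bm p S) H) := by
  have hWS := hW.trans k.T_le
  obtain ⟨v, hv, -, e₂, -⟩ := h.lin_B k.pS hWS ((Bm_le p S).trans k.S_le) hc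
  have nW : H ≤ N(W) := h.nn.trans inf_le_left
  have hSJ : (N(S) : Subgroup G) ≤ N(J p S) := normalizer_le_normalizer_J p S
  have c₁ : S ⊓ C(W) = Q := (k.irr _ (le_inf k.T_le hQ) inf_le_left (le_normalizer_inf inf_le_right
    (le_normalizer_centralizer (inf_le_left.trans nW)))).resolve_right fun e =>
      hc ((J_le p S).trans (e.ge.trans inf_le_right))
  have c₂ : J p S ⊔ Q = S := k.eq_S le_sup_right (sup_le (J_le p S) k.T_le) (le_normalizer_sup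
    (inf_le_right.trans hSJ) (inf_le_left.trans k.T_norm)) fun e => hc (le_sup_left.trans (e.trans hQ))
  have c₃ : S ≤ C(W ⊓ C(J p S)) := c₂.ge.trans (sup_le (le_centralizer_iff.1 inf_le_right)
    (hQ.trans (centralizer_anti inf_le_left)))
  have hY := cent_J_le h.el hWS
  obtain ⟨g, hg, hgM⟩ := k.exists_G
  have lin : ∀ x ∈ H, s.θ x ∈ LinA F := fun x hx => PL_le_LinA (hH.le (s.θ_mem hx))
  have ex : ∀ a : F, ∃ y ∈ W ⊓ C(J p S), s.ψ y = a • v := fun a => by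
    obtain ⟨y, hy, e⟩ := s.onto (a • v)
    exact ⟨y, e₂.le ⟨hy, e ▸ smul_mem_line v a⟩, e⟩
  have d : det2 v (s.θ g v) ≠ 0 := fun e => by
    have n : g ∈ N(W ⊓ C(J p S)) := mem_normalizer_of_conj_le (conj_le_iff.2 fun y hy => by
      obtain ⟨a, ha⟩ := (mem_line_iff hv).1 (e₂.ge hy).2
      refine e₂.le ⟨conj_mem_of_norm (nW hg) hy.1, ?_⟩
      rw [← s.θ_ψ (h.nn hg) hy.1, ha, lin g hg]
      exact mem_line.2 (by rw [det2_smul, e, mul_zero]))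
    have c := k.gen₃ hg hgM c₃ ((conj_mono g c₃).trans (by rw [conj_centralizer, conj_eq_of_mem_normalizer n]))
    obtain ⟨w, hw⟩ := exists_det2 hv
    obtain ⟨r, hr, e'⟩ := RL_trans hv (show w ≠ 0 from fun e => by simp [e, det2_zero] at hw)
    obtain ⟨x, hx, rfl⟩ := (s.mem_im' h.nn).1 (hH.ge (RL_le_PL hr))
    obtain ⟨y, hy, e''⟩ := ex 1
    rw [one_smul] at e''
    rw [← e'', s.θ_ψ (h.nn hx) hy.1, conj_eq_of_cent (c hx) hy, e''] at e'
    rw [← e', det2_self] at hw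
    exact zero_ne_one hw
  have dec : ∀ w ∈ W, ∃ z ∈ W ⊓ C(J p S), ∃ y ∈ W ⊓ C(J p S), w = z * (g * y * g⁻¹) := fun w hw => by
    obtain ⟨y, hy, e⟩ := ex (det2 v (s.ψ w) / det2 v (s.θ g v))
    have hy' := conj_mem_of_norm (nW hg) hy.1
    refine ⟨w * (g * y * g⁻¹)⁻¹, e₂.le ⟨mul_mem hw (inv_mem hy'), mem_line.2 ?_⟩, y, hy, by group⟩
    rw [s.add _ hw _ (inv_mem hy'), s.inv hy', ← s.θ_ψ (h.nn hg) hy.1, e, lin g hg, det2_add, det2_neg, det2_smul,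
      div_mul_cancel₀ _ d, add_neg_cancel]
  obtain ⟨A, hA, hAW⟩ : ∃ A, MaxAb p S A ∧ ¬ A ≤ C(W) := by
    by_contra! e
    exact hc (J_le_iff.2 e)
  have hB := (h.off hWS hA (hA.le.trans k.S_le)).2.2
  have hBQ : A ⊓ C(W) ⊔ W ≤ Q := sup_le ((inf_le_inf_right _ hA.le).trans c₁.le) hW
  obtain ⟨a, ha, haQ⟩ := SetLike.not_le_iff_exists.1 (show ¬ A ^ᶜ g ≤ Q by
    rw [← k.conj_T hg, conj_le_conj_iff]; exact fun e => hAW (e.trans hQ))
  have hA' := hA.conj g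
  have hZ : H ≤ N(ZJ p Q) := k.T_norm.trans (normalizer_le_normalizer_ZJ p Q)
  have hD : H ≤ N(ZJ p Q ⊓ C(nclIn (J p S) H)) :=
    le_normalizer_inf hZ (le_normalizer_centralizer (le_normalizer_nclIn _ _))
  have main : ZJ p S ≤ W ⊓ C(J p S) ⊔ ZJ p Q ⊓ C(nclIn (J p S) H) := fun w hw => by
    have h₁ := conj_mem_of_norm (hZ (inv_mem hg)) (hB.ZJ_le_ZJ hBQ k.T_le hw)
    obtain ⟨b, hb, u, hu, e⟩ := (mem_sup_iff_of_le_normalizer (le_normalizer_of_le_centralizer inf_le_right)).1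
      ((hB.of_le hBQ k.T_le).ZJ_le h₁)
    obtain ⟨z, hz, y, hy, e'⟩ := dec _ (conj_mem_of_norm (nW hg) hu)
    have hb' : g * b * g⁻¹ ∈ C(W) := conj_mem_of_norm (le_normalizer_centralizer nW hg) hb.2
    have e₃ : w = z * (g * (b * y) * g⁻¹) := by
      calc w = g * (b * u) * g⁻¹ := by rw [e]; group
        _ = g * b * g⁻¹ * (g * u * g⁻¹) := by group
        _ = _ := by rw [e', ← mul_assoc, ← hb' z hz.1]; group
    have hd : g * (b * y) * g⁻¹ ∈ ZJ p S := by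
      have := mul_mem (inv_mem (hY hz)) hw
      rwa [e₃, inv_mul_cancel_left] at this
    rw [e₃]
    refine mul_mem_sup hz ⟨hB.ZJ_le_ZJ hBQ k.T_le hd, fun x hx => ?_⟩
    refine mem_centralizer_singleton_iff.1 (k.nclIn_le (K := centralizer {g * (b * y) * g⁻¹}) c₂
      (k.T_le.trans (le_normalizer.trans hSJ)) (fun y hy => ?_) (k.conj_S_le hg (hA'.le ha))
      (k.not_mem_of_conj hg hgM (hA'.le ha) haQ) ?_ hx)
    · exact mem_centralizer_singleton_iff.2 (ZJ_le_centralizer_J p S hd y hy)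
    · exact mem_centralizer_singleton_iff.2 (hA'.abExp.comm ha (conj_mem_conj g (mul_mem hb.1 (hA.ZJ_le (hY hy)))))
  have e : Bm p S = S ⊓ C(ZJ p Q ⊓ C(nclIn (J p S) H)) := le_antisymm (le_inf (Bm_le p S)
    ((Bm_le_cent p S).trans (centralizer_anti fun x hx => mem_ZJ_iff.2 ⟨k.T_le (ZJ_le p Q hx.1),
      centralizer_anti (le_nclIn _ _) hx.2, (abExp_ZJ p Q).pow hx.1⟩)))
    (le_inf inf_le_left (le_trans (by rw [centralizer_sup]; exact inf_le_inf_right _ c₃) (centralizer_anti main)))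
  rw [e]
  exact (PReduced.isSylowIn_inf_centralizer (k.S_le.trans hD) k.syl).of_le (le_nclIn _ _)
    (nclIn_le (inf_le_inf_right _ k.S_le) (le_normalizer_inf le_normalizer (le_normalizer_centralizer hD)))

omit h in
theorem exists_ro (hH : H ≤ NN W Z) (e : s.im H = PL F) (hX : X ≤ H) (hp : IsPGroup p X) : ∃ L S M₁, X ≤ S ∧ L ≤ H ∧
    s.im L = PL F ∧ RO p L S (pCoreOf p L) M₁ ∧ pCoreOf p L ≤ rel Z W := by
  obtain ⟨L, ⟨h₁, h₂, h₃⟩, hm⟩ := (wellFounded_lt (α := Subgroup G)).has_min {L | X ≤ L ∧ L ≤ H ∧ s.im L = PL F}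
    ⟨H, hX, le_rfl, e⟩
  obtain ⟨S, hS, hXS⟩ := exists_isSylowIn_ge h₁ hp
  obtain ⟨ρ, r₁, r₂, r₃⟩ := ActS.exists_hom (f := toA) (R := ⊤) ⟨s, h₂.trans hH, h₃.trans (MonoidHom.range_eq_map _)⟩
    toA_injective
  have hρ := MonoidHom.range_eq_top.1 r₁
  have hS' := hS.subgroupOf le_rfl
  rw [subgroupOf_self] at hS'
  have hS'' := hS'.map ρ
  rw [map_top_of_surjective ρ hρ] at hS''
  obtain ⟨g, hg, e₁⟩ := (ro_SL2 (p := p) (F := F)).syl.exists_conj_eq hS''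
  have hQ := (ro_SL2 (p := p) (F := F)).conj_mem hg
  rw [e₁] at hQ
  have k := (RO.lift ρ hρ hS' (M := (SL2Nat.B F ^ᶜ g).comap ρ) (lt_top_iff_ne_top.2 fun e => hQ.min.lt.ne (by
      rw [← map_comap_eq_self_of_surjective hρ (_ ^ᶜ g), e, map_top_of_surjective ρ hρ]))
    (fun K k₁ k₂ => map_le_iff_le_comap.1 (hQ.min.max _ (map_mono k₁) (lt_top_iff_ne_top.2 fun e => hm
      (K.map L.subtype) ⟨hXS.trans ((subgroupOf_map_subtype_of_le hS.le).ge.trans (map_mono k₁)),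
        (map_subtype_le K).trans h₂, le_antisymm ((s.im_mono (map_subtype_le K)).trans h₃.le) (by
          rintro _ ⟨r, rfl⟩
          obtain ⟨x, hx, rfl⟩ := e.ge (mem_top r)
          exact r₂ x ▸ s.θ_mem (mem_map_of_mem _ hx))⟩
      (lt_of_le_of_ne (map_subtype_le K) fun e => k₂.ne (by rw [← map_subtype_subgroupOf K, e, subgroupOf_self])))))
    hQ).map L.subtype (by rw [ker_subtype, inf_bot_eq]; exact bot_le)
  rw [map_top_subtype, subgroupOf_map_subtype_of_le hS.le, pCoreOf_def] at k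
  refine ⟨L, S, _, hXS, h₂, h₃, k, map_le_iff_le_comap.2 (le_trans ?_ r₃.le)⟩
  rw [← Subgroup.map_eq_bot_iff, eq_bot_iff, ← SL2Nat.pCore_SL2 (F := F) p]
  exact map_pCore_le_of_surjective hρ

theorem exists_blk (hT : IsSylowIn p T ⊤) (hG : C(pCore p G) ≤ pCore p G) (hW : W ≤ pCore p G) (hH : s.im H = PL F)
    (hB : Bm p T ≤ H) (hQ : pCore p G ≤ H) (hJ : ¬ J p T ≤ C(W))
    (hd : ∀ A : Subgroup (Bm p T), A ≠ ⊥ → A.Characteristic → N(A.map (Bm p T).subtype) ≤ M₀)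
    (hz : C(omegaOneCenter p T) ≤ M₀) (hM : ∀ X ≤ pResidualOf p H, s.im X = RL F → ¬ X ≤ M₀) :
    ∃ E ≤ pResidualOf p H, Blk p T E ∧ s.im E = RL F := by
  obtain ⟨L, S, M₁, h₁, h₂, h₃, k, h₄⟩ := exists_ro h.nn hH (sup_le hB hQ)
    (hT.isPGroup.to_le (sup_le (Bm_le p T) hT.pCore_le))
  have hQL : pCore p G ≤ pCoreOf p L := (le_inf le_rfl (le_sup_right.trans (h₁.trans k.S_le))).trans (pCore_inf_le L)
  have k : PU p L S (pCoreOf p L) M₁ := ⟨k, inf_le_right.trans ((centralizer_anti hQL).trans (hG.trans hQL))⟩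
  have hc : pCoreOf p L ≤ C(W) := (le_inf ((pCoreOf_le p L).trans h₂) h₄).trans h.fa
  have e₁ := Bm_eq_of_pgroup hT k.pS le_top (le_sup_left.trans h₁)
  have e₂ := J_eq_of_pgroup hT k.pS le_top ((J_le_Bm p T).trans (le_sup_left.trans h₁))
  have sy := (h.mono h₂).baumann k h₃ (hW.trans hQL) hc (e₂ ▸ hJ)
  rw [e₁] at sy
  have hL : nclIn (Bm p T) L ≤ L := nclIn_le_of_le (le_sup_left.trans (h₁.trans k.S_le))
  have e₃ : nclIn (Bm p T) L ⊓ S = Bm p T := sy.eq_of_le inf_le_left (k.pS.to_le inf_le_right)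
    (le_inf sy.le (le_sup_left.trans h₁))
  have nB : ¬ nclIn (Bm p T) L ⊓ S ≤ pCoreOf p L := fun e => hJ ((J_le_Bm p T).trans (e₃.ge.trans (e.trans hc)))
  have k' := k.normal hL (le_normalizer_nclIn _ _) nB
  rw [e₃] at k'
  have hn := (hL.trans h₂).trans h.nn
  have e₄ : s.im (pResidualOf p (nclIn (Bm p T) L)) = RL F := by
    rw [s.im_res hn, ← res_PL (p := p), ← h₃]
    refine congrArg _ (le_antisymm (s.im_mono hL) ((s.im_mono (k.le_of_norm ((k.inf_sup (le_normalizer_nclIn _ _)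
      nB).ge.trans (sup_le_sup_right inf_le_left _)) (le_normalizer_sup (le_normalizer_nclIn _ _) k.T_norm))).trans ?_))
    rw [s.im_sup hn (h₄.trans s.rel_le_NN), (s.im_eq_bot_iff (h₄.trans s.rel_le_NN)).2 h₄, sup_bot_eq]
  have nM := hM _ (pResidualOf_mono (hL.trans h₂)) e₄
  exact ⟨_, pResidualOf_mono (hL.trans h₂), (blk_of_pu k' (fun A a₁ a₂ e => nM ((pResidualOf_le p _).trans
    (e.trans (hd A a₁ a₂)))) (Bm_Bm p T)).of_eq (Bm_Bm p T).symm fun e =>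
      nM ((commutator_eq_bot_iff_le_centralizer.1 e).trans hz), e₄⟩

end Pre

end Cfsg.Agent.Lib.Blk
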