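import Mathlib
import Cfsg.Prelude.Def_LocalEven
import Cfsg.Agent.Lib.SL2Nat

/-! The affine group `Qd(F) = F² : SL₂(F)` inside `SL₃(F)`. -/

set_option autoImplicit false

namespace Cfsg.Agent.Lib.Qd

open Subgroup Cfsg.Agent.Lib.PCoreConj Cfsg.Agent.Lib.PCore Cfsg.Agent.Lib.PCoreResidual
open Cfsg.Agent.Lib.SL2Nat Matrix
open scoped MatrixGroups

variable {F : Type*} [Field F]

theorem exists_mulVec_eq {b : Fin 2 → F} (hb : b ≠ 0) : ∃ g : SL(2, F), g.1 *ᵥ ![1, 0] = b := by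
  by_cases h : b 0 = 0
  · have h1 : b 1 ≠ 0 := fun h1 => hb (funext fun i => by fin_cases i <;> simp [h, h1])
    refine ⟨⟨!![0, -(b 1)⁻¹; b 1, 0], by simp [det_fin_two, h1]⟩, ?_⟩
    ext i
    fin_cases i <;> simp [mulVec, dotProduct, Fin.sum_univ_two, h]
  · refine ⟨⟨!![b 0, 0; b 1, (b 0)⁻¹], by simp [det_fin_two, h]⟩, ?_⟩
    ext i
    fin_cases i <;> simp [mulVec, dotProduct, Fin.sum_univ_two]

theorem exists_mulVec_eq' {a b : Fin 2 → F} (ha : a ≠ 0) (hb : b ≠ 0) :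
    ∃ g : SL(2, F), g.1 *ᵥ a = b := by
  obtain ⟨g, rfl⟩ := exists_mulVec_eq ha
  obtain ⟨h, rfl⟩ := exists_mulVec_eq hb
  exact ⟨h * g⁻¹, by rw [mulVec_mulVec, ← mul_val, inv_mul_cancel_right]⟩

/-- A natural module is irreducible. -/
theorem eq_of_natData {G : Type*} [Group G] {V L W : Subgroup G} (D : NatData F V L) (hW : W ≤ V)
    (hL : L ≤ normalizer (W : Set G)) (hne : W ≠ ⊥) : W = V := by
  obtain ⟨⟨x, hx⟩, hx1⟩ := ne_bot_iff_exists_ne_one.mp hne
  obtain ⟨a, rfl⟩ := (D.mem_iff x).mp (hW hx)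
  have ha : a ≠ 0 := fun h => hx1 (Subtype.ext (D.v_eq_one.mpr h))
  refine le_antisymm hW fun y hy => ?_
  obtain ⟨b, rfl⟩ := (D.mem_iff y).mp hy
  by_cases hb : b = 0
  · rw [D.v_eq_one.mpr hb]; exact one_mem _
  obtain ⟨g, rfl⟩ := exists_mulVec_eq' ha hb
  obtain ⟨l, rfl⟩ := D.surj g
  exact D.act l a ▸ (mem_normalizer_iff.mp (hL l.2) _).mp hx

theorem mul_apply3 (g h : SL(3, F)) (i j : Fin 3) :
    (g * h).1 i j = g.1 i 0 * h.1 0 j + g.1 i 1 * h.1 1 j + g.1 i 2 * h.1 2 j :=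
  (Matrix.mul_apply).trans (Fin.sum_univ_three _)

theorem mem_qdOver {M : SL(3, F)} : M ∈ qdOver F ↔ M.1 2 0 = 0 ∧ M.1 2 1 = 0 ∧ M.1 2 2 = 1 := by
  let Q : Subgroup SL(3, F) :=
    { carrier := {M | M.1 2 0 = 0 ∧ M.1 2 1 = 0 ∧ M.1 2 2 = 1}
      mul_mem' := fun {g h} hg hh => by
        obtain ⟨a, b, c⟩ := hg
        obtain ⟨d, e, f⟩ := hh
        simp only [Set.mem_ofPred_eq, mul_apply3, a, b, c, d, e, f]
        simp
      one_mem' := by simp
      inv_mem' := fun {g} hg => by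
        obtain ⟨a, b, c⟩ := hg
        have h : (g⁻¹).1 = _ := adjugate_fin_three g.1
        have hd := g.2
        rw [det_fin_three, a, b, c] at hd
        simp only [Set.mem_ofPred_eq, h]
        simp [a, b]
        linear_combination hd }
  exact (show qdOver F = Q from closure_eq Q) ▸ Iff.rfl

/-- The affine map `x ↦ g x + a`. -/
def aff (g : SL(2, F)) (a : Fin 2 → F) : qdOver F :=
  ⟨⟨!![g.1 0 0, g.1 0 1, a 0; g.1 1 0, g.1 1 1, a 1; 0, 0, 1], by
    simp [det_fin_three, det_eq g]⟩, mem_qdOver.mpr (by simp)⟩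

theorem aff_val (g : SL(2, F)) (a : Fin 2 → F) :
    (aff g a).1.1 = !![g.1 0 0, g.1 0 1, a 0; g.1 1 0, g.1 1 1, a 1; 0, 0, 1] := rfl

/-- The linear part. -/
def lin : qdOver F →* SL(2, F) where
  toFun M := ⟨!![M.1.1 0 0, M.1.1 0 1; M.1.1 1 0, M.1.1 1 1], by
    obtain ⟨a, b, c⟩ := mem_qdOver.mp M.2
    have hd := M.1.2
    rw [det_fin_three, a, b, c] at hd
    rw [det_fin_two_of]
    linear_combination hd⟩
  map_one' := by apply sl_ext <;> simp
  map_mul' M N := by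
    obtain ⟨a, b, c⟩ := mem_qdOver.mp N.2
    apply sl_ext
    all_goals
      refine (mul_apply3 M.1 N.1 _ _).trans (Eq.trans ?_ (SL2Nat.mul_apply' _ _ _ _).symm)
      simp [a, b]

theorem lin_val (M : qdOver F) :
    (lin M).1 = !![M.1.1 0 0, M.1.1 0 1; M.1.1 1 0, M.1.1 1 1] := rfl

/-- The translation part. -/
def tr (M : qdOver F) : Fin 2 → F := ![M.1.1 0 2, M.1.1 1 2]

@[simp] theorem lin_aff (g : SL(2, F)) (a : Fin 2 → F) : lin (aff g a) = g := by
  apply sl_ext <;> rfl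

@[simp] theorem tr_aff (g : SL(2, F)) (a : Fin 2 → F) : tr (aff g a) = a := by
  ext i
  fin_cases i <;> rfl

theorem aff_lin_tr (M : qdOver F) : aff (lin M) (tr M) = M := by
  obtain ⟨a, b, c⟩ := mem_qdOver.mp M.2
  ext i j
  fin_cases i <;> fin_cases j
  all_goals first | rfl | exact a.symm | exact b.symm | exact c.symm

theorem qd_ext {M N : qdOver F} (h₁ : lin M = lin N) (h₂ : tr M = tr N) : M = N := by
  rw [← aff_lin_tr M, h₁, h₂, aff_lin_tr]

theorem exists_aff (M : qdOver F) : ∃ g a, aff g a = M := ⟨_, _, aff_lin_tr M⟩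

theorem tr_mul (M N : qdOver F) : tr (M * N) = (lin M).1 *ᵥ tr N + tr M := by
  obtain ⟨a, b, c⟩ := mem_qdOver.mp N.2
  rw [mulVec_eq]
  ext i
  fin_cases i
  · exact (mul_apply3 M.1 N.1 0 2).trans (by rw [c, mul_one]; rfl)
  · exact (mul_apply3 M.1 N.1 1 2).trans (by rw [c, mul_one]; rfl)

theorem tr_one : tr (1 : qdOver F) = 0 := by
  ext i
  fin_cases i <;> simp [tr]

theorem aff_mul (g h : SL(2, F)) (a b : Fin 2 → F) :
    aff g a * aff h b = aff (g * h) (g.1 *ᵥ b + a) :=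
  qd_ext (by simp only [map_mul, lin_aff]) (by simp only [tr_mul, lin_aff, tr_aff])

theorem aff_one : aff (1 : SL(2, F)) 0 = 1 := qd_ext (by simp) (by rw [tr_aff, tr_one])

theorem lin_surjective : Function.Surjective (lin : qdOver F → SL(2, F)) := fun g =>
  ⟨aff g 0, lin_aff g 0⟩

/-- `Qd(F)` is in bijection with `SL₂(F) × F²`. -/
def affEquiv : SL(2, F) × (Fin 2 → F) ≃ qdOver F where
  toFun x := aff x.1 x.2
  invFun M := (lin M, tr M)
  left_inv x := by simp
  right_inv M := aff_lin_tr M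

/-- The block diagonal embedding. -/
def blk : SL(2, F) →* qdOver F where
  toFun g := aff g 0
  map_one' := aff_one
  map_mul' g h := by rw [aff_mul, mulVec_zero, add_zero]

theorem blk_injective : Function.Injective (blk : SL(2, F) → qdOver F) := fun g h e => by
  simpa [blk] using congrArg lin e

theorem mem_range_blk {M : qdOver F} : M ∈ (blk : SL(2, F) →* qdOver F).range ↔ tr M = 0 :=
  ⟨by rintro ⟨g, rfl⟩; exact tr_aff g 0, fun h => ⟨lin M, by rw [← aff_lin_tr M, h, lin_aff]; rfl⟩⟩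

/-- The translations form a natural module. -/
def natData (L : Subgroup (qdOver F)) (hL : L.map lin = ⊤) : NatData F lin.ker L where
  ρ := lin.comp L.subtype
  v := aff 1
  surj := fun g => by
    obtain ⟨x, hx, rfl⟩ : g ∈ L.map lin := hL ▸ mem_top g
    exact ⟨⟨x, hx⟩, rfl⟩
  inj := fun a b h => by simpa using congrArg tr h
  v_add := fun a b => by rw [aff_mul, one_mul, one_val, one_mulVec, add_comm]
  mem_iff := fun x => ⟨fun h => ⟨tr x, by rw [← MonoidHom.mem_ker.mp h, aff_lin_tr]⟩, by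
    rintro ⟨a, rfl⟩; exact lin_aff 1 a⟩
  act := fun l a => by
    rw [mul_inv_eq_iff_eq_mul]
    refine qd_ext (by simp) ?_
    rw [tr_mul, tr_mul, tr_aff, tr_aff, lin_aff, one_val, one_mulVec, add_comm]
    rfl

variable (p : ℕ) [hp : Fact p.Prime] [CharP F p]

omit hp in
theorem ker_isPGroup : IsPGroup p (lin : qdOver F →* SL(2, F)).ker := by
  let D := natData (F := F) ⊤ (map_top_of_surjective _ lin_surjective)
  refine isPGroup_iff_forall_mem.mpr fun x hx => ⟨1, ?_⟩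
  obtain ⟨a, rfl⟩ := (D.mem_iff x).mp hx
  have : ∀ n : ℕ, D.v a ^ n = D.v (n • a) := fun n => by
    induction n with
    | zero => rw [pow_zero, zero_smul, D.v_zero]
    | succ n ih => rw [pow_succ, ih, ← D.v_add, succ_nsmul]
  rw [pow_one, this, D.v_eq_one]
  ext i
  simp

theorem pCore_qd [Finite F] : pCore p (qdOver F) = lin.ker := by
  rw [← comap_pCore_of_surjective lin_surjective (ker_isPGroup p), pCore_SL2, MonoidHom.comap_bot]

theorem isSylowIn_comap_U [Finite F] : IsSylowIn p ((U F).comap lin) ⊤ := by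
  refine isSylowIn_of_not_dvd_relIndex le_top ((U_isPGroup p).comap_of_ker_isPGroup _
    (ker_isPGroup p)) ?_
  rw [relIndex_top_right, index_comap_of_surjective _ lin_surjective, ← relIndex_top_right]
  exact (U_isSylowIn p).not_dvd_relIndex

end Cfsg.Agent.Lib.Qd
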