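import Cfsg.Agent.Lib.PushMaster
import Cfsg.Agent.Lib.SL2Amb
import Cfsg.Agent.Lib.Qd

/-! Natural modules and chief factors in the rank one pushing up situation. -/

set_option autoImplicit false
open Cfsg

namespace Cfsg.Agent.Lib.PushBase

open Subgroup Cfsg.Agent.Lib.PCoreConj Cfsg.Agent.Lib.PCore Cfsg.Agent.Lib.PCoreResidual Cfsg.Agent.Lib.PCoreMod
open Cfsg.Agent.Lib.PReduced Cfsg.Agent.Lib.PIrred Cfsg.Agent.Lib.ThompsonJ
open scoped Pointwise commutatorElement MatrixGroups Matrix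

variable {H : Type*} [Group H] {p : ℕ} {H' : Type*} [Group H']
variable {G S T M V W X Y A B D N U : Subgroup H}

section Sec
variable {F : Type*} [Field F]

/-- Coordinates exhibiting the section `V / W` as a natural `SL₂(F)`-module for the whole group. -/
structure Sec (F : Type*) [Field F] (V W : Subgroup H) where
  /-- the representation -/
  ρ : H →* SL(2, F)
  /-- the coordinates -/
  ψ : H → Fin 2 → F
  normal : V.Normal
  surj : Function.Surjective ρ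
  add : ∀ u ∈ V, ∀ v ∈ V, ψ (u * v) = ψ u + ψ v
  onto : ∀ a, ∃ v ∈ V, ψ v = a
  ker : ∀ v ∈ V, ψ v = 0 ↔ v ∈ W
  act : ∀ g, ∀ v ∈ V, ψ (g * v * g⁻¹) = (ρ g).1 *ᵥ ψ v

theorem Sec.of_acts (f : H →* H') {E U U₀ : Subgroup H'} (hE : ∀ g, f g ∈ E) (hE' : E ≤ f.range)
    (h : ActsAsSL2OnSection F ⊤ E U U₀) (hn : V.Normal) (hV : V.map f = U)
    (hW : ∀ v ∈ V, f v ∈ U₀ ↔ v ∈ W) : Nonempty (Sec F V W) := by
  classical
  obtain ⟨-, -, ρ, ψ, h₁, h₂, h₃, h₄⟩ := h
  have hm : ∀ v ∈ V, f v ∈ U := fun v hv => hV ▸ mem_map_of_mem f hv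
  let ψ' : H → Fin 2 → F := fun x => if hx : f x ∈ U then (ψ ⟨f x, hx⟩).toAdd else 0
  have e : ∀ v (hv : v ∈ V), ψ' v = (ψ ⟨f v, hm v hv⟩).toAdd := fun v hv => dif_pos _
  refine ⟨⟨ρ.comp (f.codRestrict E hE), ψ', hn, fun g => ?_, fun u hu v hv => ?_, fun a => ?_,
    fun v hv => ?_, fun g v hv => ?_⟩⟩
  · obtain ⟨⟨x, hx⟩, rfl⟩ : g ∈ ρ.range := h₁ ▸ mem_top g
    obtain ⟨y, rfl⟩ := hE' hx
    exact ⟨y, rfl⟩
  · rw [e _ hu, e _ hv, e _ (mul_mem hu hv), ← toAdd_mul, ← map_mul]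
    exact congrArg (fun x => (ψ x).toAdd) (Subtype.ext (map_mul f u v))
  · obtain ⟨⟨x, hx⟩, hx'⟩ := h₂ (Multiplicative.ofAdd a)
    obtain ⟨v, hv, rfl⟩ := hV.ge hx
    exact ⟨v, hv, by rw [e _ hv, hx']; rfl⟩
  · rw [e _ hv, toAdd_eq_zero, h₃, hW v hv]
  · obtain ⟨w, hw, hw'⟩ := h₄ ⟨f g, hE g⟩ ⟨f v, hm v hv⟩
    rw [e _ hv, e _ (hn.conj_mem v hv g)]
    refine Eq.trans (congrArg (fun x => (ψ x).toAdd) (Subtype.ext ?_)) hw'
    exact (by rw [map_mul, map_mul, map_inv] : f (g * v * g⁻¹) = f g * f v * (f g)⁻¹).trans hw.symm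

namespace Sec
variable (c : Sec F V W) {g u v : H}

/-- Transport along a field isomorphism. -/
def congr {F' : Type*} [Field F'] (e : F ≃+* F') : Sec F' V W where
  ρ := (Matrix.SpecialLinearGroup.map (e : F →+* F')).comp c.ρ
  ψ x := e ∘ c.ψ x
  normal := c.normal
  surj := Function.Surjective.comp (g := Matrix.SpecialLinearGroup.map (e : F →+* F'))
    (fun g => ⟨Matrix.SpecialLinearGroup.map (e.symm : F' →+* F) g, by ext i j; simp⟩) c.surj
  add u hu v hv := by ext i; simp [c.add u hu v hv]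
  onto a := by
    obtain ⟨v, hv, h⟩ := c.onto (e.symm ∘ a)
    exact ⟨v, hv, by ext i; simp [h]⟩
  ker v hv := by
    rw [← c.ker v hv]
    exact ⟨fun h => funext fun i => by simpa using congrFun h i, fun h => by ext i; simp [h]⟩
  act g v hv := by
    ext i
    rw [c.act g v hv]
    exact RingHom.map_mulVec (e : F →+* F') _ _ i

theorem one : c.ψ 1 = 0 := by
  have := c.add 1 (one_mem _) 1 (one_mem _)
  rwa [mul_one, left_eq_add] at this

theorem inv (hv : v ∈ V) : c.ψ v⁻¹ = -c.ψ v := by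
  rw [eq_neg_iff_add_eq_zero, ← c.add _ (inv_mem hv) _ hv, inv_mul_cancel, c.one]

theorem eq_iff (hu : u ∈ V) (hv : v ∈ V) : c.ψ u = c.ψ v ↔ u⁻¹ * v ∈ W := by
  rw [← c.ker _ (mul_mem (inv_mem hu) hv), c.add _ (inv_mem hu) _ hv, c.inv hu, neg_add_eq_zero]

theorem comm (hv : v ∈ V) (g : H) : c.ψ ⁅v, g⁆ = c.ψ v - (c.ρ g).1 *ᵥ c.ψ v := by
  have : ⁅v, g⁆ = v * (g * v * g⁻¹)⁻¹ := by rw [commutatorElement_def]; group
  rw [this, c.add _ hv _ (inv_mem (c.normal.conj_mem v hv g)), c.inv (c.normal.conj_mem v hv g),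
    c.act g v hv, sub_eq_add_neg]

theorem rho_eq_one_iff : c.ρ g = 1 ↔ ∀ v ∈ V, ⁅v, g⁆ ∈ W := by
  have hm : ∀ v ∈ V, ⁅v, g⁆ ∈ V := fun v hv =>
    comm_mem_of_norm (normal_iff_top_le.1 c.normal (mem_top g)) hv
  refine ⟨fun h v hv => by rw [← c.ker _ (hm v hv), c.comm hv, h]; simp, fun h => ?_⟩
  have : ∀ a, (c.ρ g).1 *ᵥ a = a := fun a => by
    obtain ⟨v, hv, rfl⟩ := c.onto a
    have := (c.ker _ (hm v hv)).2 (h v hv)
    rw [c.comm hv, sub_eq_zero] at this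
    exact this.symm
  exact Subtype.ext (Matrix.ext_of_mulVec_single fun i => by rw [this]; exact (Matrix.one_mulVec _).symm)

theorem le_ker (h : ⁅V, T⁆ ≤ W) : T ≤ c.ρ.ker := fun _ ht =>
  c.rho_eq_one_iff.2 fun _ hv => h (commutator_mem_commutator hv ht)

theorem ker_eq (h : ⁅V, T⁆ ≤ W) (hf : ∀ g, (∀ v ∈ V, ⁅v, g⁆ ∈ W) → g ∈ T) : c.ρ.ker = T :=
  le_antisymm (fun g hg => hf g (c.rho_eq_one_iff.1 hg)) (c.le_ker h)

include c in
theorem quot_equiv [T.Normal] (h : ⁅V, T⁆ ≤ W) (hf : ∀ g, (∀ v ∈ V, ⁅v, g⁆ ∈ W) → g ∈ T) :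
    Nonempty (H ⧸ T ≃* SL(2, F)) :=
  ⟨(QuotientGroup.quotientMulEquivOfEq (c.ker_eq h hf).symm).trans
    (QuotientGroup.quotientKerEquivOfSurjective c.ρ c.surj)⟩

theorem onto_of (hD : D ≤ V) (hn : D.Normal) (h : ¬ D ≤ W) (a : Fin 2 → F) : ∃ v ∈ D, c.ψ v = a := by
  by_cases ha : a = 0
  · exact ⟨1, one_mem _, c.one.trans ha.symm⟩
  obtain ⟨v, hv, hvW⟩ := SetLike.not_le_iff_exists.1 h
  obtain ⟨g, hg⟩ := Qd.exists_mulVec_eq' (fun e => hvW ((c.ker v (hD hv)).1 e)) ha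
  obtain ⟨x, rfl⟩ := c.surj g
  exact ⟨_, hn.conj_mem v hv x, (c.act x v (hD hv)).trans hg⟩

include c in
theorem le_sup (hD : D ≤ V) (hn : D.Normal) (h : ¬ D ≤ W) : V ≤ D ⊔ W := fun v hv => by
  obtain ⟨u, hu, e⟩ := c.onto_of hD hn h (c.ψ v)
  simpa only [mul_inv_cancel_left] using mul_mem_sup hu ((c.eq_iff (hD hu) hv).1 e)

include c in
theorem not_le : ¬ V ≤ W := fun h => by
  obtain ⟨v, hv, e⟩ := c.onto 1
  exact one_ne_zero (e.symm.trans ((c.ker v hv).2 (h hv)))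

include c in
theorem isChiefFactor (h : W ≤ V) (hn : W.Normal) : IsChiefFactor V W :=
  ⟨lt_of_le_not_ge h c.not_le, c.normal, hn, fun N hN h₁ h₂ => or_iff_not_imp_left.2 fun e =>
    le_antisymm h₂ ((c.le_sup h₂ hN fun k => e (le_antisymm k h₁)).trans (sup_le le_rfl h₁))⟩

include c in
theorem not_comm_le : ¬ ⁅V, ⊤[H]⁆ ≤ W := fun h => by
  obtain ⟨g, hg⟩ := c.surj (SL2Nat.xu 1)
  exact one_ne_zero (SL2Nat.xu_eq_one_iff.1 (hg.symm.trans (c.le_ker h (mem_top g))))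

/-- Restriction to a normal subgroup covering the section. -/
def restrict (hD : D ≤ V) (hn : D.Normal) (h : ¬ D ≤ W) (hB : ∀ v ∈ D, v ∈ W ↔ v ∈ B) : Sec F D B where
  ρ := c.ρ
  ψ := c.ψ
  normal := hn
  surj := c.surj
  add u hu v hv := c.add u (hD hu) v (hD hv)
  onto := c.onto_of hD hn h
  ker v hv := (c.ker v (hD hv)).trans (hB v hv)
  act g v hv := c.act g v (hD hv)

theorem natural [W.Normal] (hW : W ≤ c.ρ.ker) :
    IsNaturalSL2Module F (V.map (QuotientGroup.mk' W)) ⊤ := by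
  choose v hv hv' using c.onto
  have key : ∀ {x y}, x ∈ V → y ∈ V →
      (QuotientGroup.mk' W x = QuotientGroup.mk' W y ↔ c.ψ x = c.ψ y) := fun hx hy =>
    QuotientGroup.eq.trans (c.eq_iff hx hy).symm
  refine SL2Nat.isNaturalSL2Module_iff.2 ⟨⟨(QuotientGroup.lift W c.ρ hW).comp (Subgroup.subtype ⊤),
    fun a => QuotientGroup.mk' W (v a), fun g => ?_, fun a b e => ?_, fun a b => ?_, fun x => ⟨?_, ?_⟩,
    fun l a => ?_⟩⟩
  · obtain ⟨x, rfl⟩ := c.surj g
    exact ⟨⟨x, trivial⟩, rfl⟩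
  · rwa [key (hv a) (hv b), hv', hv'] at e
  · rw [← map_mul, key (hv _) (mul_mem (hv a) (hv b)), c.add _ (hv a) _ (hv b), hv', hv', hv']
  · rintro ⟨x, hx, rfl⟩
    exact ⟨c.ψ x, (key (hv _) hx).2 (hv' _)⟩
  · rintro ⟨a, rfl⟩
    exact mem_map_of_mem _ (hv a)
  · obtain ⟨l, hl⟩ := l
    obtain ⟨g, rfl⟩ := QuotientGroup.mk'_surjective W l
    show QuotientGroup.mk' W g * _ * (QuotientGroup.mk' W g)⁻¹ = QuotientGroup.mk' W (v ((c.ρ g).1 *ᵥ a))
    rw [← map_inv, ← map_mul, ← map_mul, key (c.normal.conj_mem _ (hv a) g) (hv _), c.act g _ (hv a),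
      hv', hv']

end Sec
end Sec

theorem le_norm_of_normal [hB : B.Normal] : A ≤ N(B) := le_top.trans (normal_iff_top_le.1 hB)

variable [hp : Fact p.Prime]

theorem RM.nm (h : RM p G S T M V Y W) (f : H →* H') (hk : G ⊓ f.ker = W) :
    NM p (G.map f) (S.map f) (T.map f) (M.map f) (V.map f) (Y.map f) ⊥ := by
  have hVG := h.V_le.trans h.T_le_G
  have hWT := (h.W_le.trans h.Y_le).trans h.V_le
  have k₁ : ∀ {x}, x ∈ W → f x = 1 := fun hx => (hk.ge hx).2
  have k₂ : ∀ {v g}, v ∈ V → g ∈ G → (f g * f v = f v * f g ↔ ⁅v, g⁆ ∈ W) := fun {v g} hv hg => by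
    rw [eq_comm, ← commutatorElement_eq_one_iff_mul_comm, ← map_commutatorElement, ← hk]
    exact ⟨fun e => ⟨hVG (comm_mem_of_norm (h.V_norm hg) hv), e⟩, fun e => e.2⟩
  have hW : V.map f ⊓ C(G.map f) = ⊥ := le_bot_iff.1 (by
    rintro _ ⟨⟨v, hv, rfl⟩, hc⟩
    exact k₁ (h.fix v hv fun g hg => (k₂ hv hg).1 (hc _ (mem_map_of_mem f hg))))
  have idx : ∀ {A B : Subgroup H}, W ≤ A → A ≤ B → B ≤ G →
      (A.map f).relIndex (B.map f) = A.relIndex B := fun {A B} hA hAB hB => by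
    rw [← relIndex_comap, ← inf_relIndex_right]
    congr 1
    refine le_antisymm ?_ (le_inf (le_comap_map f A) hAB)
    rintro x ⟨⟨a, ha, e⟩, hx⟩
    simpa only [mul_inv_cancel_left] using mul_mem ha (hA (hk.le (mem_inf.2 ⟨hB (mul_mem (inv_mem (hAB ha)) hx),
      by simp only [MonoidHom.mem_ker, map_mul, map_inv, e, inv_mul_cancel]⟩)))
  refine ⟨h.toRO.map f (hk.le.trans (hWT.trans h.T_le_M)), map_mono h.V_le, le_normalizer_map f h.V_norm,
    ?_, le_antisymm ?_ (le_inf (map_mono h.Y_le) ?_), hW, ?_, ?_, fun e => h.nc fun v hv => ?_, ?_⟩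
  · rintro _ ⟨t, ht, rfl⟩ _ ⟨v, hv, rfl⟩
    exact ((k₂ hv (h.T_le_G ht)).2 (h.comm_T (commutator_mem_commutator hv ht))).symm
  · rintro _ ⟨⟨v, hv, rfl⟩, hc⟩
    obtain ⟨a, ha, haT⟩ := h.exists_S
    exact mem_map_of_mem f (h.key v hv a ha haT ((k₂ hv (h.S_le ha)).1 (hc _ (mem_map_of_mem f ha))))
  · rintro _ ⟨y, hy, rfl⟩ _ ⟨s, hs, rfl⟩
    exact (k₂ (h.Y_le hy) (h.S_le hs)).2 (h.comm_Y (commutator_mem_commutator hy hs))
  · rw [← map_commutator]; exact map_mono h.quad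
  · rw [← map_nclIn]; exact map_mono h.ncl
  · exact hk.le ⟨hVG hv, hW.le ⟨mem_map_of_mem f hv, le_centralizer_iff.1 e (mem_map_of_mem f hv)⟩⟩
  · rw [idx h.W_le h.Y_le hVG, idx hWT h.T_le h.S_le]; exact h.idx

theorem NM.acts [Finite H] (h : NM p G S T M V Y ⊥) : ∃ (F : Type) (_ : Field F) (_ : Fintype F),
    Fintype.card F = T.relIndex S ∧ ActsAsSL2OnSection F ⊤ G V ⊥ := by
  have hc : Nat.card T * T.relIndex S = Nat.card S := card_mul_relIndex h.T_le
  obtain ⟨F, _, _, h₁, -, -, -, h₂⟩ := SL2Amb.recog (p := p) (V := V)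
    ⟨CDLattice.comm_of_le_centralizer h.V_comm, fun v hv => h.pow_mem_W hv⟩ h.V_norm h.syl h.min le_rfl
    (h.comm.trans h.V_cent) (fun a ha => h.V_cent (h.pow a ha)) (by
      rw [h.cent_eq, h.hY, ← card_mul_relIndex h.Y_le, h.idx_eq, ← hc]; exact le_of_eq (by ring))
    (fun B h₁ h₂ => by
      rw [h.cent_eq] at h₁
      rw [h.hY]
      exact (Nat.mul_le_mul_left _ (card_le_of_le (h.inf_cent_le h₂.le h₁.not_ge))).trans_lt
        (Nat.mul_lt_mul_of_pos_right (card_lt_of_lt h₂) Nat.card_pos))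
    (by rw [h.hY]; exact fun e => h.not_Y_le ((le_inf h.Y_le e).trans h.hW.le))
    (fun x hx hxM => le_antisymm (sup_le (sup_le h.S_le (h.conj_S_le hx)) inf_le_left)
      (h.gen₃ hx hxM (le_sup_left.trans le_sup_left) (le_sup_right.trans le_sup_left)))
  rw [h.cent_eq, ← hc, mul_comm] at h₁
  exact ⟨F, _, _, Nat.eq_of_mul_eq_mul_left Nat.card_pos h₁, h.hW ▸ h₂⟩

theorem RM.sec [Finite H] (h : RM p ⊤ S T M V Y W) (F : Type*) [Field F] [Fintype F]
    (hF : Fintype.card F = T.relIndex S) : Nonempty (Sec F V W) := by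
  haveI : W.Normal := normal_iff_top_le.2 h.W_norm
  have k := h.nm (QuotientGroup.mk' W) (by rw [QuotientGroup.ker_mk', top_inf_eq])
  obtain ⟨F', _, _, h₁, h₂⟩ := k.acts
  obtain ⟨c⟩ := Sec.of_acts (W := W) (QuotientGroup.mk' W) (fun g => mem_map_of_mem _ (mem_top g))
    (map_le_range _ _) h₂ (normal_iff_top_le.2 h.V_norm) rfl fun v _ => QuotientGroup.eq_one_iff v
  refine ⟨c.congr (FiniteField.ringEquivOfCardEq (h₁.trans (Eq.trans ?_ hF.symm)))⟩
  rw [← relIndex_comap, comap_map_eq, QuotientGroup.ker_mk',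
    sup_eq_left.2 ((h.W_le.trans h.Y_le).trans h.V_le)]

theorem RO.relIndex_eq_card (h : RO p ⊤ S T M) (f : H →* H') (hf : Function.Surjective f)
    {B : Subgroup H'} (hQ : RO p ⊤ (S.map f) ⊥ B) : T.relIndex S = Nat.card (S.map f) := by
  have h₁ : T ≤ f.ker := (Subgroup.map_eq_bot_iff T).1 (le_bot_iff.1 (hQ.le_T le_top
    (map_top_of_surjective f hf ▸ le_normalizer_map f h.T_norm) (h.pT.map f)))
  rcases h.irr (S ⊓ f.ker) (le_inf h.T_le h₁) inf_le_left (le_normalizer_inf inf_le_right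
    (le_top.trans (normal_iff_top_le.1 inferInstance))) with e | e
  · rw [← relIndex_ker, ← e, inf_comm, inf_relIndex_right]
  · exact absurd ((Subgroup.map_eq_bot_iff S).2 (inf_eq_left.1 e)).le hQ.not_le

theorem RO.idx_of_E (h : RO p ⊤ S T M) (K : Subgroup H) [K.Normal] (F : Type*) [Field F]
    [Fintype F] {n : ℕ} (hF : Fintype.card F = p ^ n) (hE₃ : Nonempty (H ⧸ K ≃* PSL(2, F))) :
    Fintype.card F = T.relIndex S := by
  haveI : CharP F p := SL2Nat.charP_of_card p hF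
  haveI := h.fin
  obtain ⟨e⟩ := hE₃
  let f : H →* PSL(2, F) := e.toMonoidHom.comp (QuotientGroup.mk' K)
  have hf : Function.Surjective f := e.surjective.comp (QuotientGroup.mk'_surjective K)
  have h₁ := h.syl.map f
  rw [map_top_of_surjective f hf] at h₁
  obtain ⟨B, hB⟩ := ro_PSL2 h₁
  have hs := QuotientGroup.mk'_surjective (center SL(2, F))
  have h₂ := (SL2Nat.U_isSylowIn (F := F) p).map (QuotientGroup.mk' (center SL(2, F)))
  rw [map_top_of_surjective _ hs] at h₂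
  obtain ⟨B', hB'⟩ := ro_PSL2 h₂
  obtain ⟨g, -, e⟩ := h₁.exists_conj_eq h₂
  rw [h.relIndex_eq_card f hf hB, ← card_conj _ g, e, ← ro_SL2.relIndex_eq_card _ hs hB',
    relIndex_bot_left, SL2Nat.card_U, Nat.card_eq_fintype_card]

section Chief
variable [Finite H]

theorem RO.le_of_le_sup (h : RO p ⊤ S T M) [W.Normal] [U.Normal] (hU : U ≤ T)
    (hc : ⁅U, pResidualOf p ⊤[H]⁆ ≤ W) (e : U ≤ W ⊔ ⁅U, ⊤[H]⁆) : U ≤ W := by
  have hn := @le_norm_of_normal H _
  refine le_of_le_sup_commutator h.pS (h.pT.to_le hU) hn hn hn (e.trans (sup_le le_sup_left ?_))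
  rw [← h.res_sup]
  refine commutator_sup_le (le_normalizer_of_commutator_le ?_) (le_normalizer_sup hn
    (le_normalizer_commutator hn le_normalizer)) (hc.trans le_sup_left) le_sup_right
  rw [commutator_comm]
  refine (commutator_sup_le hn hn (commutator_le_right _ _) ?_).trans le_sup_left
  rw [commutator_comm]
  exact (commutator_mono (commutator_le_left _ _) le_rfl).trans hc

theorem RO.exists_iter (h : RO p ⊤ S T M) [W.Normal] [U.Normal] (hU : U ≤ T)
    (hc : ⁅U, pResidualOf p ⊤[H]⁆ ≤ W) : ∃ k, iterCommutator U ⊤ k ≤ W := by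
  have hn : ∀ k, (iterCommutator U ⊤ k).Normal := fun k => by
    induction k with
    | zero => assumption
    | succ k ih => exact commutator_normal _ _
  have ha : Antitone (iterCommutator U ⊤) := antitone_nat_of_succ_le fun k =>
    haveI := hn k
    commutator_le_left _ _
  obtain ⟨k, hk⟩ := WellFoundedLT.antitone_chain_condition ha
  haveI := hn k
  exact ⟨k, h.le_of_le_sup ((ha k.zero_le).trans hU) ((commutator_mono (ha k.zero_le) le_rfl).trans hc)
    ((hk _ k.le_succ).le.trans le_sup_right)⟩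

omit hp [Finite H] in
theorem chief_cases (c : IsChiefFactor U W) (hN : N.Normal) : U ⊓ N ≤ W ∨ U ≤ W ⊔ U ⊓ N :=
  haveI := c.2.1
  haveI := c.2.2.1
  (c.2.2.2 (W ⊔ U ⊓ N) inferInstance le_sup_left (sup_le c.1.le inf_le_left)).imp
    (fun e => le_sup_right.trans e.le) fun e => e.ge

theorem RO.chief_central (h : RO p ⊤ S T M) (c : IsChiefFactor U W) (hU : U ≤ T)
    (hc : ⁅U, pResidualOf p ⊤[H]⁆ ≤ W) : ⁅U, ⊤[H]⁆ ≤ W :=
  haveI := c.2.1
  haveI := c.2.2.1
  (chief_cases c (N := ⁅U, ⊤[H]⁆) inferInstance).elim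
    (fun e => (le_inf (commutator_le_left _ _) le_rfl).trans e) fun e =>
      absurd (h.le_of_le_sup hU hc (e.trans (sup_le_sup_left inf_le_right _))) c.1.not_ge

theorem RO.chief_step (h : RO p ⊤ S T M) (c : IsChiefFactor U W) (hU : U ≤ T) (nc : ¬ ⁅U, ⊤[H]⁆ ≤ W)
    (hB : B.Normal) (hc : ⁅A, pResidualOf p ⊤[H]⁆ ≤ B) (e : U ≤ W ⊔ U ⊓ A) : U ≤ W ⊔ U ⊓ B := by
  haveI := c.2.1
  haveI := c.2.2.1
  have hn := @le_norm_of_normal H _
  refine (chief_cases c hB).resolve_left fun k => nc (h.chief_central c hU ?_)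
  refine (commutator_mono e le_rfl).trans ?_
  rw [commutator_comm]
  refine commutator_sup_le hn hn (commutator_le_right _ _) ?_
  rw [commutator_comm]
  exact (le_inf ((commutator_mono inf_le_left le_rfl).trans (commutator_le_left _ _))
    ((commutator_mono inf_le_right le_rfl).trans hc)).trans k

omit hp [Finite H] in
theorem Sec.chief_natural {F : Type*} [Field F] (s : Sec F A B) [W.Normal] (c : IsChiefFactor U W)
    (hB : B.Normal) (hW : W ≤ s.ρ.ker) (e : U ≤ W ⊔ U ⊓ A) (k : U ⊓ B ≤ W) :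
    IsNaturalSL2Module F (U.map (QuotientGroup.mk' W)) ⊤ := by
  haveI := c.2.1
  haveI := s.normal
  have h₁ : ¬ U ⊓ A ≤ B := fun h => c.1.not_ge (e.trans (sup_le le_rfl ((le_inf inf_le_left h).trans k)))
  have h₂ : W ⊓ A ≤ B := by_contra fun h => by
    refine c.1.not_ge (e.trans (sup_le le_rfl fun x hx => ?_))
    obtain ⟨w, hw, b, hb, rfl⟩ := (mem_sup_iff_of_le_normalizer (le_top.trans (normal_iff_top_le.1 hB))).1
      (s.le_sup inf_le_right inferInstance h hx.2)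
    exact mul_mem hw.1 (k ⟨(mul_mem_cancel_left (c.1.le hw.1)).1 hx.1, hb⟩)
  have h₃ := (s.restrict (B := W) inf_le_right inferInstance h₁ fun v hv =>
    ⟨fun hb => k ⟨hv.1, hb⟩, fun hw => h₂ ⟨hw, hv.2⟩⟩).natural hW
  have h₄ : (U ⊓ A).map (QuotientGroup.mk' W) = U.map (QuotientGroup.mk' W) :=
    le_antisymm (map_mono inf_le_left) ((map_mono e).trans (by
      rw [Subgroup.map_sup, QuotientGroup.map_mk'_self, bot_sup_eq]))
  rwa [h₄] at h₃

theorem PK.chief_natural (h : PK p ⊤ S T M V) (F : Type*) [Field F] [Fintype F]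
    (hF : Fintype.card F = T.relIndex S) [W.Normal] (c : IsChiefFactor U W) (hU : U ≤ T)
    (nc : ¬ ⁅U, ⊤[H]⁆ ≤ W) (e : U ≤ W ⊔ U ⊓ V) :
    IsNaturalSL2Module F (U.map (QuotientGroup.mk' W)) ⊤ := by
  obtain ⟨s⟩ := h.rm.sec F hF
  have hZ := normal_iff_top_le.2 h.W_norm
  refine s.chief_natural c hZ ((c.1.le.trans hU).trans (s.le_ker h.rm.comm_T)) e
    ((chief_cases c hZ).resolve_right fun k => c.1.not_ge ?_)
  have := h.chief_step c hU nc (B := ⊥) inferInstance (commutator_eq_bot_iff_le_centralizer'.2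
    (le_top.trans h.W_cent)).le k
  rwa [inf_bot_eq, sup_bot_eq] at this

theorem One.chief_natural (h : One p ⊤ S T M V) (F : Type*) [Field F] [Fintype F]
    (hF : Fintype.card F = T.relIndex S) [W.Normal] (c : IsChiefFactor U W) (hU : U ≤ T)
    (nc : ¬ ⁅U, ⊤[H]⁆ ≤ W) : IsNaturalSL2Module F (U.map (QuotientGroup.mk' W)) ⊤ :=
  h.toPK.chief_natural F hF c hU nc (h.chief_step c hU nc (normal_iff_top_le.2 h.V_norm) h.one
    ((le_inf le_rfl hU).trans le_sup_right))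

theorem Tw.chief_natural (h : Tw p ⊤ S T M V X) (F : Type*) [Field F] [Fintype F]
    (hF : Fintype.card F = T.relIndex S) [W.Normal] (c : IsChiefFactor U W) (hU : U ≤ T)
    (nc : ¬ ⁅U, ⊤[H]⁆ ≤ W) : IsNaturalSL2Module F (U.map (QuotientGroup.mk' W)) ⊤ := by
  obtain ⟨s⟩ := h.rm.sec F hF
  have hV := normal_iff_top_le.2 h.V_norm
  exact (chief_cases c hV).elim (s.chief_natural c hV ((c.1.le.trans hU).trans (s.le_ker h.rm.comm_T))
    (h.chief_step c hU nc s.normal h.comm_TE ((le_inf le_rfl hU).trans le_sup_right)))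
    (h.toPK.chief_natural F hF c hU nc)

theorem One.quot_equiv (h : One p ⊤ S T M V) (F : Type*) [Field F] [Fintype F]
    (hF : Fintype.card F = T.relIndex S) [T.Normal] : Nonempty (H ⧸ T ≃* SL(2, F)) := by
  obtain ⟨s⟩ := h.rm.sec F hF
  exact s.quot_equiv h.rm.comm_T fun g hg => h.faith ⟨trivial, mem_rel.2 ⟨h.W_norm trivial, hg⟩⟩

theorem Tw.quot_equiv (h : Tw p ⊤ S T M V X) (F : Type*) [Field F] [Fintype F]
    (hF : Fintype.card F = T.relIndex S) [T.Normal] : Nonempty (H ⧸ T ≃* SL(2, F)) := by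
  obtain ⟨s⟩ := h.rm.sec F hF
  exact s.quot_equiv h.rm.comm_T fun g hg => h.faith g trivial hg

end Chief

section Twist

/-- If no nontrivial characteristic subgroup of `S` is normal, there are one or two noncentral chief
factors. -/
theorem PU.one_or_tw (h : PU p ⊤ S T M)
    (hd : ∀ A : Subgroup S, A ≠ ⊥ → A.Characteristic → ¬ (A.map S.subtype).Normal) :
    Small p S ∧ ∃ V, One p ⊤ S T M V ∨ ∃ X, Tw p ⊤ S T M V X := by
  haveI := h.finS
  haveI : Nontrivial S := (nontrivial_iff_ne_bot S).2 fun e => h.not_le (e.le.trans bot_le)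
  have hτ := S.subtype_injective
  have h' : PU p ⊤ (⊤[S].map S.subtype) T M := by rwa [map_top_subtype]
  have sm : Small p S := (master h.pS).resolve_left fun ⟨S₁, S₂, g, _⟩ =>
    (g.norm H _ T M hτ h').elim (hd _ g.ne₁ g.ch₁) (hd _ g.ne₂ g.ch₂)
  have hZ := center_ne_bot (h.pS.to_subgroup ⊤) top_ne_bot
  have nc : ¬ ⊤[H] ≤ C(Z(⊤[S].map S.subtype)) := fun e => hd _ hZ
    (char_of_funct (fun S => Z(S)) fun f hf => map_center hf _) (by
      rw [map_center hτ]; exact normal_iff_top_le.2 (le_normalizer_of_le_centralizer e))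
  have k := h'.pk_of_cent nc (map_cent_ZJ hτ sm.cent)
  obtain ⟨V, -, hV⟩ := exists_map_eq k.V_le_S
  rw [← hV] at k
  refine ⟨sm, V.map S.subtype, by_contra fun hn => ?_⟩
  rw [not_or, not_exists] at hn
  have key : ∀ φ : S ≃* S, ⊤[H] ≤ N((V ⊔ V.map φ.toMonoidHom).map S.subtype) := fun φ => by
    have e : ∀ B : Subgroup S, B.map (S.subtype.comp φ.symm.toMonoidHom) =
        (B.map φ.symm.toMonoidHom).map S.subtype := fun B => (map_map _ _ _).symm
    have e₁ : (V.map φ.toMonoidHom).map φ.symm.toMonoidHom = V := by rw [map_map]; simp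
    have e₂ := map_top_of_surjective φ.symm.toMonoidHom φ.symm.surjective
    rcases two_emb (τ₂ := S.subtype.comp φ.symm.toMonoidHom) (V₂ := V.map φ.toMonoidHom) hτ
      (hτ.comp φ.symm.injective) k (by rwa [e, e, e₁, e₂]) sm.rp sm.J_eq.ge with c | c | c | c
    · rw [map_top_subtype] at c
      exact absurd c hn.1
    · rw [e, e, e₁, e₂, map_top_subtype] at c
      exact absurd c hn.1
    · rw [map_top_subtype] at c
      exact absurd c (hn.2 _)
    · exact c.2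
  have hVW : V ≤ ⨆ φ : S ≃* S, V.map φ.toMonoidHom := le_iSup_of_le (MulEquiv.refl S) (map_id V).ge
  refine hd (⨆ φ : S ≃* S, V.map φ.toMonoidHom) (fun e => k.not_le_Y ?_)
    (characteristic_iff_map_le.2 fun ψ => ?_) (normal_iff_top_le.2 ?_)
  · rw [le_bot_iff.1 (hVW.trans e.le), Subgroup.map_bot]; exact bot_le
  · rw [Subgroup.map_iSup]
    exact iSup_le fun φ => le_iSup_of_le (φ.trans ψ) (map_map _ _ _).le
  · rw [show (⨆ φ : S ≃* S, V.map φ.toMonoidHom) = ⨆ φ : S ≃* S, V ⊔ V.map φ.toMonoidHom from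
      le_antisymm (iSup_mono fun _ => le_sup_right) (iSup_le fun φ => sup_le hVW (le_iSup_of_le φ le_rfl)),
      Subgroup.map_iSup]
    exact le_normalizer_iSup key

end Twist

end Cfsg.Agent.Lib.PushBase
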