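import Cfsg.Agent.Lib.BlkNorm
import Cfsg.Agent.Lib.PushNat
import Cfsg.Agent.Lib.FStarAct

/-! The rank one pushing up situation produces a block. -/

set_option autoImplicit false
open Cfsg

namespace Cfsg.Agent.Lib.Blk

open Subgroup Cfsg.Agent.Lib.PCoreConj Cfsg.Agent.Lib.PCore Cfsg.Agent.Lib.PCoreResidual Cfsg.Agent.Lib.PCoreMod
open Cfsg.Agent.Lib.ThompsonJ Cfsg.Agent.Lib.PushBase Cfsg.Agent.Lib.PIrred
open scoped Pointwise commutatorElement MatrixGroups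

universe u v

section Alt
variable {H : Type*} [Group H] {H' : Type*} [Group H'] {f : H →* H'} {p : ℕ} {G S T M V X : Subgroup H}

/-- The exceptional configuration, with more detail. -/
structure Tx (p : ℕ) (G S T M V X : Subgroup H) : Prop extends Tw p G S T M V X where
  ut : ⁅nclIn X G, T⁆ ≤ Z(G)
  powU : ∀ u ∈ nclIn X G, u ^ p ∈ Z(G)
  cub : ∀ x ∈ nclIn X G, x ∉ X → ∀ y ∈ S, y ∉ T → ⁅⁅x, y⁆, y⁆ ∉ Z(G)
  nd : ∀ u ∈ X, u ∉ V → ∀ a ∈ nclIn X G, ⁅u, a⁆ = 1 → a ∈ X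
  exY : ∃ Y T₂, Y ⊔ T = S ∧ nclIn X G ⊔ T₂ = S ∧ V ≤ T₂ ∧ ⁅T₂, Y⁆ ≤ ⁅V, S⁆

theorem Tx.of_map (h₀ : PK p G S T M V) (hf : Function.Injective f)
    (h : Tx p (G.map f) (S.map f) (T.map f) (M.map f) (V.map f) (X.map f)) : Tx p G S T M V X where
  toTw := h.toTw.of_map h₀ hf
  ut := by
    have := h.ut
    rwa [← map_nclIn, ← map_commutator, ← map_center hf, map_le_map_iff_of_injective hf] at this
  powU u hu := by
    have := h.powU _ (map_nclIn f X G ▸ mem_map_of_mem f hu)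
    rwa [← map_pow, ← map_center hf, mem_map_inj hf] at this
  cub x hx hxX y hy hyT e := h.cub _ (map_nclIn f X G ▸ mem_map_of_mem f hx) (mt (mem_map_inj hf).1 hxX) _
    (mem_map_of_mem f hy) (mt (mem_map_inj hf).1 hyT) (by
      rw [← map_commutatorElement, ← map_commutatorElement, ← map_center hf]; exact mem_map_of_mem f e)
  nd u hu huV a ha e := (mem_map_inj hf).1 (h.nd _ (mem_map_of_mem f hu) (mt (mem_map_inj hf).1 huV) _
    (map_nclIn f X G ▸ mem_map_of_mem f ha) (by rw [← map_commutatorElement, e, map_one]))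
  exY := by
    obtain ⟨Y, T₂, h₁, h₂, h₃, h₄⟩ := h.exY
    obtain ⟨Y, -, rfl⟩ := PushBase.exists_map_eq (le_sup_left.trans h₁.le)
    obtain ⟨T₂, -, rfl⟩ := PushBase.exists_map_eq (le_sup_right.trans h₂.le)
    rw [← Subgroup.map_sup] at h₁
    rw [← map_nclIn, ← Subgroup.map_sup] at h₂
    rw [← map_commutator, ← map_commutator, map_le_map_iff_of_injective hf] at h₄
    exact ⟨Y, T₂, map_injective hf h₁, map_injective hf h₂, (map_le_map_iff_of_injective hf).1 h₃, h₄⟩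

variable [hp : Fact p.Prime]

theorem two_tx {G₁ G₂ T₁ T₂ M₁ M₂ V₁ V₂ : Subgroup H} (h : Two p G₁ G₂ S T₁ T₂ M₁ M₂ V₁ V₂) :
    Tx p G₁ S T₁ M₁ V₁ (V₁ ⊔ V₂) where
  toTw := h.tw
  ut := h.comm_UT
  powU _ hu := h.pow_U hu
  cub _ hx hxX _ hy hyT := h.cubic hx hxX hy hyT hy hyT
  nd u hu huV a ha e := by
    obtain ⟨v, hv, w, hw, rfl⟩ := h.exists_mul h.c hu
    rw [comm_mul_left, comm_eq_one_of_cent (h.k₁.V_cent (h.U_le ha)) hv, mul_one, mul_inv_eq_one,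
      mul_eq_left] at e
    exact h.U_inf ⟨ha, h.k₂.key' hw (fun k => huV (mul_mem hv (h.k₁.Y_le k))) (h.k₁.T_le (h.U_le ha))
      (e ▸ one_mem _)⟩
  exY := by
    obtain ⟨Y, -, h₂, h₃⟩ := h.exists_Y
    obtain ⟨g, hg, hgM⟩ := h.k₁.exists_G
    refine ⟨Y, T₂, h₂, le_antisymm (sup_le (h.U_le.trans h.k₁.T_le) h.k₂.T_le) (h.sup_T.ge.trans (sup_le
      ((h.sup_D (h.cdX.conj_mem (h.k₁.T_norm hg)) (h.not_le_T₂ hg hgM)).ge.trans
        (sup_le_sup (conj_le_nclIn _ hg) inf_le_right)) le_sup_right)), le_sup_left.trans h.XT₂, h₃⟩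

theorem two_cases' {G₁ G₂ T₁ T₂ M₁ M₂ V₁ V₂ : Subgroup H} (k₁ : PK p G₁ S T₁ M₁ V₁)
    (k₂ : PK p G₂ S T₂ M₂ V₂) (rp : RP S) (hJ : S ≤ J 0 S) :
    One p G₁ S T₁ M₁ V₁ ∨ One p G₂ S T₂ M₂ V₂ ∨ Tx p G₁ S T₁ M₁ V₁ (V₁ ⊔ V₂) ∨
      (V₁ ≤ C(V₂) ∧ G₁ ≤ N(V₁ ⊔ V₂)) := by
  by_cases e : T₁ = T₂
  · subst e
    obtain rfl := k₁.eq_of_T_eq k₂ rp.top
    exact .inr (.inr (.inr ⟨k₁.V_comm, (sup_idem V₁).symm ▸ k₁.V_norm⟩))
  have o : ∀ {G T M V : Subgroup H}, PK p G S T M V → ∃ A, MaxAb 0 S A ∧ ¬ A ≤ T := fun k => by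
    by_contra hn
    push Not at hn
    exact k.not_le (hJ.trans (J_le_iff.2 hn))
  have h : Pair p G₁ G₂ S T₁ T₂ M₁ M₂ V₁ V₂ := ⟨k₁, k₂, rp, e, o k₁, o k₂⟩
  rcases h.concl with c | c | ⟨c, r₁, r₂, n | n⟩
  · exact .inl ⟨k₁, c⟩
  · exact .inr (.inl ⟨k₂, c⟩)
  · exact .inr (.inr (.inr ⟨c, n.1⟩))
  · exact .inr (.inr (.inl (two_tx ⟨h, n, c, r₁, r₂⟩)))

end Alt

section Emb
variable {p : ℕ} [hp : Fact p.Prime] {P : Type v} {G₁ G₂ : Type u} [Group P] [Group G₁] [Group G₂]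
    {τ₁ : P →* G₁} {τ₂ : P →* G₂} (h₁ : Function.Injective τ₁) (h₂ : Function.Injective τ₂)
    {S V₁ V₂ : Subgroup P} {L₁ T₁ M₁ : Subgroup G₁} {L₂ T₂ M₂ : Subgroup G₂}
    (k₁ : PK p L₁ (S.map τ₁) T₁ M₁ (V₁.map τ₁)) (k₂ : PK p L₂ (S.map τ₂) T₂ M₂ (V₂.map τ₂))
include h₁ h₂ k₁ k₂

theorem two_emb' (rp : RP S) (hJ : S ≤ J 0 S) :
    One p L₁ (S.map τ₁) T₁ M₁ (V₁.map τ₁) ∨ One p L₂ (S.map τ₂) T₂ M₂ (V₂.map τ₂) ∨
      Tx p L₁ (S.map τ₁) T₁ M₁ (V₁.map τ₁) ((V₁ ⊔ V₂).map τ₁) ∨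
      (V₁ ≤ C(V₂) ∧ L₁ ≤ N((V₁ ⊔ V₂).map τ₁)) := by
  obtain ⟨H, _, f₁, f₂, i₁, i₂, e⟩ := exists_amalgam h₁ h₂
  have hi : Function.Injective (f₁.comp τ₁) := i₁.comp h₁
  have e₁ : ∀ A : Subgroup P, (A.map τ₁).map f₁ = A.map (f₁.comp τ₁) := fun A => map_map _ _ _
  have e₂ : ∀ A : Subgroup P, (A.map τ₂).map f₂ = A.map (f₁.comp τ₁) := fun A => e ▸ map_map _ _ _
  have l₁ := k₁.map i₁
  have l₂ := k₂.map i₂
  rw [e₁, e₁] at l₁
  rw [e₂, e₂] at l₂
  rcases two_cases' l₁ l₂ (rp.map hi)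
    ((map_mono hJ).trans (map_J (inf_ker_of_injective hi S)).le) with c | c | c | c
  · exact .inl (.of_map k₁ i₁ (by rw [e₁]; exact c.one))
  · exact .inr (.inl (.of_map k₂ i₂ (by rw [e₂]; exact c.one)))
  · refine .inr (.inr (.inl (.of_map k₁ i₁ ?_)))
    rwa [e₁, e₁, e₁, Subgroup.map_sup]
  · refine .inr (.inr (.inr ⟨(map_le_cent_iff hi).1 c.1, (map_le_norm_iff i₁).1 ?_⟩))
    rw [e₁, Subgroup.map_sup]
    exact c.2

theorem crit_emb (hc : ¬ V₂ ≤ C(V₁)) : V₂.map τ₁ ⊔ T₁ = S.map τ₁ ∧ ⁅V₂, S⁆ = ⁅V₁, S⁆ := by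
  obtain ⟨H, _, f₁, f₂, i₁, i₂, e⟩ := exists_amalgam h₁ h₂
  have hi : Function.Injective (f₁.comp τ₁) := i₁.comp h₁
  have e₁ : ∀ A : Subgroup P, (A.map τ₁).map f₁ = A.map (f₁.comp τ₁) := fun A => map_map _ _ _
  have e₂ : ∀ A : Subgroup P, (A.map τ₂).map f₂ = A.map (f₁.comp τ₁) := fun A => e ▸ map_map _ _ _
  have l₁ := k₁.map i₁
  have l₂ := k₂.map i₂
  rw [e₁, e₁] at l₁
  rw [e₂, e₂] at l₂
  have c := mt (map_le_cent_iff hi).1 hc
  refine ⟨map_injective i₁ ?_, map_injective hi ?_⟩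
  · rw [Subgroup.map_sup, e₁, e₁]
    exact l₂.crit_sup l₁ l₂.V_le_S l₁.V_le_S c
  · rw [map_commutator, map_commutator]
    exact l₂.crit_comm l₁ l₂.V_le_S l₁.V_le_S c

end Emb

theorem char_iSup {P : Type*} [Group P] (V : Subgroup P) :
    (⨆ φ : P ≃* P, V.map φ.toMonoidHom).Characteristic := characteristic_iff_map_le.2 fun ψ => by
  rw [Subgroup.map_iSup]
  exact iSup_le fun φ => le_iSup_of_le (φ.trans ψ) (map_map _ _ _).le

theorem le_char_iSup {P : Type*} [Group P] (V : Subgroup P) : V ≤ ⨆ φ : P ≃* P, V.map φ.toMonoidHom :=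
  le_iSup_of_le (MulEquiv.refl P) (map_id V).ge

theorem norm_char {P H : Type*} [Group P] [Group H] (τ : P →* H) (A : Subgroup P) [A.Characteristic] :
    ⊤[P].map τ ≤ N(A.map τ) := le_normalizer_map τ (normal_iff_top_le.1 inferInstance)

theorem one_or_tx {p : ℕ} [hp : Fact p.Prime] {P H : Type u} [Group P] [Group H] {τ : P →* H}
    (hτ : Function.Injective τ) {S T M : Subgroup H} (hS : ⊤[P].map τ = S) (h : PU p ⊤ S T M)
    (hd : ∀ A : Subgroup P, A ≠ ⊥ → A.Characteristic → ¬ (A.map τ).Normal) :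
    (∀ z ∈ Z(S), z ^ p = 1) ∧ ∃ V, (One p ⊤ S T M V ∧ ∃ Y, Y ⊔ T = S ∧ ⁅Y, S⁆ ≤ ⁅V, S⁆) ∨
      ∃ X, Tx p ⊤ S T M V X := by
  subst hS
  haveI := h.finS
  haveI : Finite P := Finite.of_injective (fun x : P => (⟨τ x, mem_map_of_mem τ (mem_top x)⟩ : ⊤[P].map τ))
    fun x y e => hτ (congrArg Subtype.val e)
  have hne : ⊤[P] ≠ ⊥ := fun e => h.not_le (by rw [e, Subgroup.map_bot]; exact bot_le)
  haveI : Nontrivial P := (Subgroup.nontrivial_iff (G := P)).1 ⟨_, _, hne⟩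
  have hP := (isPGroup_map_iff_of_injective hτ).1 h.pS
  have sm : PushBase.Small p P := (master (isPGroup_top_iff.1 hP)).resolve_left fun ⟨S₁, S₂, g, _⟩ =>
    (g.norm H _ T M hτ h).elim (hd _ g.ne₁ g.ch₁) (hd _ g.ne₂ g.ch₂)
  have nc : ¬ ⊤[H] ≤ C(Z(⊤[P].map τ)) := fun e => hd _ (center_ne_bot hP hne)
    (char_of_funct (fun S => Z(S)) fun f hf => map_center hf _) (by
      rw [map_center hτ]; exact normal_iff_top_le.2 (le_normalizer_of_le_centralizer e))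
  have k := h.pk_of_cent nc (map_cent_ZJ hτ sm.cent)
  obtain ⟨V, -, hV⟩ := PushBase.exists_map_eq k.V_le_S
  rw [← hV] at k
  have hV0 : (⨆ φ : P ≃* P, V.map φ.toMonoidHom) ≠ ⊥ := fun e => k.not_le_Y (by
    rw [le_bot_iff.1 ((le_char_iSup V).trans e.le), Subgroup.map_bot]; exact bot_le)
  have e : ∀ (φ : P ≃* P) (B : Subgroup P), B.map (τ.comp φ.symm.toMonoidHom) =
      (B.map φ.symm.toMonoidHom).map τ := fun φ B => (map_map _ _ _).symm
  have e₁ : ∀ φ : P ≃* P, (V.map φ.toMonoidHom).map φ.symm.toMonoidHom = V := fun φ => by rw [map_map]; simp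
  have e₂ := fun φ : P ≃* P => map_top_of_surjective φ.symm.toMonoidHom φ.symm.surjective
  have k' : ∀ φ : P ≃* P, PK p ⊤ (⊤[P].map (τ.comp φ.symm.toMonoidHom)) T M
      ((V.map φ.toMonoidHom).map (τ.comp φ.symm.toMonoidHom)) := fun φ => by rwa [e, e, e₁, e₂]
  refine ⟨fun z hz => ?_, V.map τ, ?_⟩
  · rw [← map_center hτ] at hz
    obtain ⟨z, hz, rfl⟩ := hz
    have : z ^ p = 1 := mem_bot.1 (sm.pow.le (subset_closure ⟨z, hz, by rw [pow_one]⟩))
    rw [← map_pow, this, map_one]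
  by_cases o : One p ⊤ (⊤[P].map τ) T M (V.map τ)
  · refine .inl ⟨o, by_contra fun hn => hd _ hV0 (char_iSup V) (normal_iff_top_le.2 ?_)⟩
    haveI := char_iSup V
    refine h.res_sup.ge.trans (sup_le (le_normalizer_of_commutator_le (((commutator_mono ?_ le_rfl).trans
      o.one).trans (map_mono (le_char_iSup V)))) (norm_char τ _))
    rw [Subgroup.map_iSup]
    refine iSup_le fun φ => k.le_T_of_cent (map_mono le_top) ((map_le_cent_iff hτ).2 (by_contra fun c => hn ?_))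
    obtain ⟨c₁, c₂⟩ := crit_emb (τ₂ := τ.comp φ.symm.toMonoidHom) hτ (hτ.comp φ.symm.injective) k (k' φ) c
    exact ⟨_, c₁, by rw [← map_commutator, c₂, map_commutator]⟩
  refine .inr (by_contra fun hn => hd _ hV0 (char_iSup V) (normal_iff_top_le.2 ?_))
  rw [show (⨆ φ : P ≃* P, V.map φ.toMonoidHom) = ⨆ φ : P ≃* P, V ⊔ V.map φ.toMonoidHom from
    le_antisymm (iSup_mono fun _ => le_sup_right)
      (iSup_le fun φ => sup_le (le_char_iSup V) (le_iSup_of_le φ le_rfl)), Subgroup.map_iSup]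
  refine le_normalizer_iSup fun φ => ?_
  rcases two_emb' (τ₂ := τ.comp φ.symm.toMonoidHom) hτ (hτ.comp φ.symm.injective) k (k' φ) sm.rp sm.J_eq.ge with c | c | c | c
  · exact absurd c o
  · rw [e, e, e₁, e₂] at c
    exact absurd c o
  · exact absurd ⟨_, c⟩ hn
  · exact c.2

section Aux
variable {G : Type u} [Group G] {p : ℕ} [hp : Fact p.Prime] {E U W Z D A P : Subgroup G}

theorem eq_one_of_central [Finite G] (hr : pResidualOf p ⊤[G] = ⊤) (hP : IsSylowIn p P ⊤) (hc : P ≤ C(P))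
    {z : G} (hz : z ∈ P) (hz' : z ∈ C(⊤[G])) : z = 1 := by
  letI : CommGroup P := { (inferInstance : Group P) with mul_comm := fun a b => Subtype.ext (hc b.2 a a.2) }
  have h₁ := pResidualOf_le_ker (H := ⊤) (MonoidHom.transfer (MonoidHom.id P)) (hP.isPGroup.to_subgroup _)
  have h₂ : MonoidHom.transfer (MonoidHom.id P) z = 1 := h₁ (hr.ge (mem_top z))
  rw [MonoidHom.transfer_eq_pow _ z fun k g _ => by
    rw [mul_assoc, ← pow_mem hz' k g (mem_top g), inv_mul_cancel_left]] at h₂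
  obtain ⟨k, hk⟩ := isPGroup_iff_forall_mem.1 hP.isPGroup z hz
  refine eq_one_of_coprime_of_pow_eq_one (Nat.Coprime.coprime_dvd_left
    (orderOf_dvd_of_pow_eq_one (congrArg Subtype.val h₂)) ?_) hk
  exact relIndex_top_right (H := P) ▸ hP.coprime_relIndex

theorem le_of_central [Finite E] (hE : pResidualOf p E = E) (hP : IsSylowIn p P E) (hU : E ≤ N(U))
    (hPP : ⁅P, P⁆ ≤ U) (hZ : Z ≤ P) (hc : ⁅Z, E⁆ ≤ U) : Z ≤ U := fun z hz => by
  haveI := normal_subgroupOf_of_le hU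
  let π := QuotientGroup.mk' (U.subgroupOf E)
  have hπ : Function.Surjective π := QuotientGroup.mk'_surjective _
  have c : ∀ x y : E, ⁅(x : G), (y : G)⁆ ∈ U → π x * π y = π y * π x := fun x y h => by
    rw [← commutatorElement_eq_one_iff_mul_comm, ← map_commutatorElement]
    exact (QuotientGroup.eq_one_iff _).2 h
  have h₁ := hP.subgroupOf le_rfl
  rw [subgroupOf_self] at h₁
  have := eq_one_of_central (p := p) (P := (P.subgroupOf E).map π) (by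
      rw [pResidualOf_top, ← map_pResidual_of_surjective hπ, ← pResidualOf_subgroupOf, hE, subgroupOf_self,
        map_top_of_surjective π hπ])
    (h₁.map_mk' _) (by
      rintro _ ⟨x, hx, rfl⟩ _ ⟨y, hy, rfl⟩
      exact c y x (hPP (commutator_mem_commutator hy hx)))
    (z := π ⟨z, hP.le (hZ hz)⟩) (mem_map_of_mem π (hZ hz)) fun y _ => by
      obtain ⟨y, rfl⟩ := hπ y
      exact (c _ y (hc (commutator_mem_commutator hz y.2))).symm
  exact (QuotientGroup.eq_one_iff (N := U.subgroupOf E) ⟨z, hP.le (hZ hz)⟩).1 this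

omit hp in
theorem pow_four_mem {t z : G} (hU : E ≤ N(U)) (hUU : ⁅U, U⁆ = D) (hc : U ≤ ⁅U, E⁆) (ht : t ∈ E)
    (h₀ : ∀ e ∈ E, ⁅e, t⁆ ∈ U) (h₁ : ∀ u ∈ U, u * (t * u * t⁻¹) ∈ A) (hA : A ≤ U)
    (h₂ : ∀ a ∈ A, a * (t * a * t⁻¹) ∈ C(E)) (hz : z ∈ U) (hz' : z ∈ C(E)) : z ^ 4 ∈ D := by
  obtain ⟨M, _, ⟨s⟩⟩ := exists_sect (hUU ▸ commutator_le_left_of_le_normalizer le_normalizer : D ≤ U) hUU.le
  have hn : E ≤ NN U D := le_inf hU (hUU ▸ le_normalizer_commutator hU hU)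
  let f : M →+ M := AddMonoidHom.mk' (fun m => m + s.θ t m) fun a b => by rw [map_add]; abel
  have hf : ∀ u ∈ U, f (s.ψ u) = s.ψ (u * (t * u * t⁻¹)) := fun u hu => by
    rw [s.add u hu _ (conj_mem_of_norm (hU ht) hu), ← s.θ_ψ (hn ht) hu]; rfl
  have hθ : ∀ e ∈ E, ∀ m, f (s.θ e m) = s.θ e (f m) := fun e he m => by
    have := (s.θ_comm (hn he) (hn ht)).symm.trans (s.θ_of_mem (h₀ e he))
    change s.θ e m + s.θ t (s.θ e m) = s.θ e (m + s.θ t m)
    rw [map_add, ← aut_mul, ← aut_mul, commutatorElement_eq_one_iff_mul_comm.1 this]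
  have key : U ≤ s.pre (f.comp f).ker := hc.trans (commutator_le.2 fun u hu e he =>
    ⟨comm_mem_of_norm (hU he) hu, by
      change f (f (s.ψ ⁅u, e⁆)) = 0
      rw [s.ψ_comm (hn he) hu, map_sub, map_sub, hθ e he, hθ e he, hf u hu, hf _ (hA (h₁ u hu)),
        s.θ_ψ (hn he) (mul_mem (hA (h₁ u hu)) (conj_mem_of_norm (hU ht) (hA (h₁ u hu)))),
        conj_eq_of_cent' (h₂ _ (h₁ u hu)) he, sub_self]⟩)
  have e : f (f (s.ψ z)) = 0 := (key hz).2
  rw [hf z hz, conj_eq_of_cent' hz' ht, hf _ (mul_mem hz hz), conj_eq_of_cent' (mul_mem hz' hz') ht] at e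
  have := (s.ker _ (mul_mem (mul_mem hz hz) (mul_mem hz hz))).1 e
  rwa [show z * z * (z * z) = z ^ 4 by simp only [pow_succ, pow_zero, one_mul, mul_assoc]] at this

omit hp in
theorem exists_form' {F : Type*} [Field F] [Finite F] (s : ActS (RL F) E U W) (h2 : Nat.card F ≠ 2) {B : Type*}
    [AddCommGroup B] (c : Sect B Z D) (hz : ⁅U, U⁆ ≤ Z) (hUE : U ≤ E) (hZ : Z ≤ C(E)) (hW : U ≤ C(W))
    (ht : ∀ a : B, a + a = 0 → a = 0) :
    ∃ j : F →+ B, ∀ u ∈ U, ∀ v ∈ U, c.ψ ⁅u, v⁆ = j (det2 (s.ψ u) (s.ψ v)) := by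
  have cz : ∀ {u v}, u ∈ U → v ∈ U → ⁅u, v⁆ ∈ Z := fun hu hv => hz (commutator_mem_commutator hu hv)
  have ml : ∀ {u u' v}, u ∈ U → u' ∈ U → v ∈ U → c.ψ ⁅u * u', v⁆ = c.ψ ⁅u, v⁆ + c.ψ ⁅u', v⁆ := fun hu hu' hv => by
    rw [comm_mul_left, conj_eq_of_cent' (hZ (cz hu' hv)) (hUE hu), c.add _ (cz hu' hv) _ (cz hu hv), add_comm]
  have mr : ∀ {u v v'}, u ∈ U → v ∈ U → v' ∈ U → c.ψ ⁅u, v * v'⁆ = c.ψ ⁅u, v⁆ + c.ψ ⁅u, v'⁆ := fun hu hv hv' => by
    rw [comm_mul_right, conj_eq_of_cent' (hZ (cz hu hv')) (hUE hv), c.add _ (cz hu hv) _ (cz hu hv')]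
  have cg : ∀ {u u' v v'}, u ∈ U → u' ∈ U → v ∈ U → v' ∈ U →
      s.ψ u = s.ψ u' → s.ψ v = s.ψ v' → c.ψ ⁅u, v⁆ = c.ψ ⁅u', v'⁆ := fun {u u' v v'} hu hu' hv hv' e₁ e₂ => by
    have k₁ := (s.eq_iff hu hu').1 e₁
    have k₂ := (s.eq_iff hv hv').1 e₂
    rw [← mul_inv_cancel_left u u', ← mul_inv_cancel_left v v', ml hu (s.le k₁) (mul_mem hv (s.le k₂)),
      mr hu hv (s.le k₂), comm_eq_one_of_cent (hW (mul_mem hv (s.le k₂))) k₁,
      comm_eq_one_of_cent' (hW hu) k₂, c.one, add_zero, add_zero]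
  have σ := s.σ_mem
  let β : (Fin 2 → F) →+ (Fin 2 → F) →+ B := AddMonoidHom.mk' (fun m => AddMonoidHom.mk' (fun n => c.ψ ⁅s.σ m, s.σ n⁆)
    fun n n' => by
      rw [← mr (σ m) (σ n) (σ n')]
      exact cg (σ _) (σ _) (σ _) (mul_mem (σ _) (σ _)) rfl (by rw [s.add _ (σ _) _ (σ _), s.ψ_σ, s.ψ_σ, s.ψ_σ]))
    fun m m' => AddMonoidHom.ext fun n => by
      show c.ψ ⁅s.σ (m + m'), s.σ n⁆ = c.ψ ⁅s.σ m, s.σ n⁆ + c.ψ ⁅s.σ m', s.σ n⁆
      rw [← ml (σ m) (σ m') (σ n)]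
      exact cg (σ _) (mul_mem (σ _) (σ _)) (σ _) (σ _) (by rw [s.add _ (σ _) _ (σ _), s.ψ_σ, s.ψ_σ, s.ψ_σ]) rfl
  have hβ : ∀ u ∈ U, ∀ v ∈ U, c.ψ ⁅u, v⁆ = β (s.ψ u) (s.ψ v) := fun u hu v hv =>
    cg hu (σ _) hv (σ _) (s.ψ_σ _).symm (s.ψ_σ _).symm
  have fe := form_eq h2 β (fun m => by
      show c.ψ ⁅s.σ m, s.σ m⁆ = 0
      rw [commutatorElement_self, c.one])
    (fun r hr m n => by
      obtain ⟨e, he, rfl⟩ := s.exists_θ hr
      obtain ⟨u, hu, rfl⟩ := s.onto m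
      obtain ⟨v, hv, rfl⟩ := s.onto n
      rw [s.θ_ψ (s.norm he) hu, s.θ_ψ (s.norm he) hv, ← hβ _ (conj_mem_of_norm (s.norm he).1 hu) _
        (conj_mem_of_norm (s.norm he).1 hv), ← hβ u hu v hv, ← conj_comm, conj_eq_of_cent' (hZ (cz hu hv)) he]) ht
  exact ⟨AddMonoidHom.mk' (fun a => β (a • ![1, 0]) ![0, 1]) fun a b => by
    rw [add_smul, map_add, AddMonoidHom.add_apply], fun u hu v hv => (hβ u hu v hv).trans (fe _ _)⟩

theorem Model.res {M : Type*} [AddCommGroup M] {R : Subgroup (AutM M)} (m : Model p R) : pResidualOf p R = R := by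
  haveI := m.fin
  rcases m.cases with s | s
  · exact FStarAct.pResidualOf_eq_of_perfect p s.perf
  · refine le_antisymm (pResidualOf_le p R) fun r hr => ?_
    obtain ⟨n, hn, e⟩ := ((s.mem r).1 hr).pow
    exact mem_pResidualOf hr (hn.coprime_dvd_left (orderOf_dvd_of_pow_eq_one e))

variable {F : Type*} [Field F] [Finite F] [CharP F p]

theorem res_PL : pResidualOf p (PL F) = RL F := le_antisymm
  (pResidualOf_le_iff.2 fun _ hr h => mem_RL_of_coprime hr h) (model_lin.res.ge.trans (pResidualOf_mono RL_le_PL))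

theorem res_SL : pResidualOf p ⊤[SL(2, F)] = commutator SL(2, F) := map_injective toA_injective (by
  rw [map_pResidualOf_of_injective toA_injective, ← MonoidHom.range_eq_map]; exact res_PL)

theorem sec_actS [Finite G] (c : Sec F U W) (h : W ≤ U) : ∃ a : ActS (RL F) (pResidualOf p ⊤) U W,
    (∀ g ∈ NN U W, a.θ g ∈ PL F) ∧ ∀ g, (∀ u ∈ U, ⁅u, g⁆ ∈ W) ↔ c.ρ g = 1 := by
  have e : (pResidualOf p ⊤[G]).map c.ρ = commutator SL(2, F) := by
    rw [map_pResidualOf, map_top_of_surjective _ c.surj, res_SL]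
  obtain ⟨a, ha⟩ := nonempty_actS (R := RL F) (E := pResidualOf p ⊤) ⟨c.ψ, h, c.add, c.onto, c.ker⟩
    (le_top.trans (normal_iff_top_le.1 c.normal))
    (fun g hg => ⟨_, mem_map_of_mem toA (e.le (mem_map_of_mem c.ρ hg)), c.act g⟩) (by
      rintro _ ⟨r, hr, rfl⟩
      obtain ⟨g, hg, rfl⟩ := e.ge hr
      exact ⟨g, hg, c.act g⟩)
  exact ⟨a, fun g hg => ⟨c.ρ g, (a.eq_θ hg (by rw [ha]; exact c.act g)).symm⟩, fun g => c.rho_eq_one_iff.symm⟩

end Aux

section Main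
variable {H : Type u} [Group H] [Finite H] {p : ℕ} [hp : Fact p.Prime] {S T M V X : Subgroup H}

omit [Finite H] hp in
theorem nE (X : Subgroup H) : X ≤ N((pResidualOf p ⊤[H])) := le_top.trans (le_normalizer_pResidualOf p ⊤)

omit [Finite H] in
theorem pk_not_VE (k : PK p ⊤ S T M V) : ¬ ⁅V, (pResidualOf p ⊤[H])⁆ ≤ Z(⊤[H]) := fun e =>
  k.not_le_Y ((le_inf le_rfl (k.cent_res_of_le k.V_le k.V_norm e)).trans (k.inf_cent_res.trans k.W_le))

omit [Finite H] hp in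
theorem ro_core (k : RO p ⊤ S T M) : pCoreOf p (pResidualOf p ⊤[H]) = T ⊓ (pResidualOf p ⊤[H]) := by
  rw [pCoreOf_eq_inf_of_normal le_top (nE ⊤), k.core]

omit [Finite H] in
theorem ro_field (k : RO p ⊤ S T M) : ∃ (F : Type) (_ : Field F) (_ : Fintype F) (_ : CharP F p),
    Fintype.card F = T.relIndex S := by
  haveI := k.finS
  obtain ⟨n, hn⟩ := k.pS.index (T.subgroupOf S)
  have h₀ : n ≠ 0 := fun e => k.one_lt_relIndex.ne' (hn.trans (by rw [e, pow_zero]))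
  letI := Fintype.ofFinite (GaloisField p n)
  exact ⟨GaloisField p n, inferInstance, inferInstance, inferInstance, by
    rw [← Nat.card_eq_fintype_card, GaloisField.card p n h₀]; exact hn.symm⟩

omit [Finite H] in
theorem pk_VS (k : PK p ⊤ S T M V) {F : Type*} [Field F] (c : Sec F V Z(⊤[H])) : ⁅V, S⁆ ≤ ⁅V, (pResidualOf p ⊤[H])⁆ := by
  have hn := le_normalizer_commutator k.V_norm (nE (p := p) ⊤)
  refine (commutator_mono (c.le_sup (commutator_le_left_of_le_normalizer (le_top.trans k.V_norm))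
    (normal_iff_top_le.2 hn) (pk_not_VE k)) le_rfl).trans ?_
  rw [commutator_comm]
  exact commutator_sup_le le_normalizer (le_top.trans hn) (commutator_le_right_of_le_normalizer (le_top.trans hn))
    ((commutator_eq_bot_iff_le_centralizer'.2 (inf_le_right.trans (centralizer_anti le_top))).le.trans bot_le)

/-- The common part of the two configurations. -/
structure PB (p : ℕ) (S T M V : Subgroup H) : Prop extends PK p ⊤ S T M V where
  el : ∀ z ∈ Z(S), z ^ p = 1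
  exY : ∃ Y, Y ⊔ T = S ∧ ⁅Y, S⁆ ≤ ⁅T, pResidualOf p ⊤[H]⁆

namespace PB
variable (h : PB p S T M V)
include h

omit hp [Finite H] in
theorem elem : IsElementaryAbelian p V := ⟨le_centralizer_iff_isMulCommutative.1 h.V_comm, fun v hv => by
  obtain ⟨g, hg, hgM⟩ := h.exists_G
  obtain ⟨y, hy, u, hu, rfl⟩ := h.exists_mul hg hgM hv
  obtain ⟨z, hz, rfl⟩ := mem_conj_iff'.1 hu
  rw [Commute.mul_pow (h.V_comm (h.conj_Y_le hg hu) y (h.Y_le hy)), h.el y hy, conj_pow, h.el z hz]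
  group⟩

theorem core' : pCoreOf p (pResidualOf p ⊤[H]) = ⁅T, (pResidualOf p ⊤[H])⁆ := by
  obtain ⟨Y, h₁, h₂⟩ := h.exY
  have hn := le_normalizer_commutator h.T_norm (nE (p := p) ⊤)
  rw [ro_core h.toRO]
  refine le_antisymm (le_of_central (pResidualOf_idem p ⊤) (h.syl.inf_normal le_top (nE ⊤)) (le_top.trans hn) ?_
    (inf_le_inf_right _ h.T_le) (commutator_mono inf_le_left le_rfl))
    (le_inf (commutator_le_left_of_le_normalizer (le_top.trans h.T_norm)) (commutator_le_right_of_le_normalizer (nE T)))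
  refine (commutator_mono le_rfl (inf_le_left.trans h₁.ge)).trans (commutator_sup_le (le_top.trans hn)
    (le_top.trans hn) ?_ ?_) <;> rw [commutator_comm]
  exacts [(commutator_mono le_rfl inf_le_left).trans h₂, commutator_mono le_rfl inf_le_right]

variable {F : Type} [Field F] [Finite F] [CharP F p] (c : Sec F V Z(⊤[H])) (hk : ∀ g, c.ρ g = 1 → g ∈ T)
  (hW : W0 p (pResidualOf p ⊤[H]) ≤ V) (hW' : ⁅V, (pResidualOf p ⊤[H])⁆ ≤ W0 p (pResidualOf p ⊤[H]))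
include c hk hW hW'

theorem act : (pResidualOf p ⊤[H]) ⊓ rel (ZE p (pResidualOf p ⊤[H])) (W0 p (pResidualOf p ⊤[H])) = pCoreOf p (pResidualOf p ⊤[H]) ∧ Nonempty (ActS (RL F) (pResidualOf p ⊤[H]) (W0 p (pResidualOf p ⊤[H])) (ZE p (pResidualOf p ⊤[H]))) := by
  obtain ⟨a, -, ha⟩ := sec_actS (p := p) (c.restrict (B := ZE p (pResidualOf p ⊤[H])) hW (normal_iff_top_le.2 ((nE ⊤).trans (norm_W0 p _)))
    (fun e => pk_not_VE h.toPK (hW'.trans e)) fun v hv => ⟨fun e => ⟨hv, centralizer_anti le_top e.2⟩,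
      fun e => h.inf_cent_res ⟨hW hv, e.2⟩⟩) (ZE_le p _)
  refine ⟨le_antisymm (fun g hg => ?_) (le_inf (pCoreOf_le p _) (le_rel_of_cent (core_le_cent p _) (ZE_le p _))), ⟨a⟩⟩
  rw [ro_core h.toRO]
  exact ⟨hk g ((ha g).1 (mem_rel.1 hg.2).2), hg.1⟩

theorem blk (hB : Bm p S = S) (hx : pCoreOf p (pResidualOf p ⊤[H]) = W0 p (pResidualOf p ⊤[H]) ∨ ExcB p S (pResidualOf p ⊤[H]) F) : Blk p S (pResidualOf p ⊤[H]) where
  res := pResidualOf_idem p ⊤
  comm := by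
    rw [hB]
    exact commutator_pResidualOf_eq_of_nclIn le_top h.min.ncl h.pS
  cq := by
    haveI := h.finT
    rw [h.core']
    exact commutator_commutator_pResidualOf h.pT (le_top.trans h.T_norm)
  nz e := h.not_cent (h.res_sup.ge.trans (sup_le ((commutator_eq_bot_iff_le_centralizer.1 e).trans
    (centralizer_anti fun z hz => mem_omegaOneCenter_iff.2 ⟨hz.1, hz.2, h.el z hz⟩))
      (le_centralizer_iff.1 inf_le_right)))
  faith := (h.act c hk hW hW').1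
  cases := .inl ⟨F, inferInstance, inferInstance, inferInstance, (h.act c hk hW hW').2, hx⟩

end PB

theorem blk_one (h : One p ⊤ S T M V) (el : ∀ z ∈ Z(S), z ^ p = 1) (hY : ∃ Y, Y ⊔ T = S ∧ ⁅Y, S⁆ ≤ ⁅V, S⁆)
    (hB : Bm p S = S) : Blk p S (pResidualOf p ⊤[H]) := by
  obtain ⟨F, _, _, _, hF⟩ := ro_field h.toRO
  obtain ⟨c⟩ := h.toNM.rm.sec F hF
  have b : PB p S T M V := ⟨h.toPK, el, hY.imp fun Y k => ⟨k.1, k.2.trans ((pk_VS h.toPK c).trans
    (commutator_mono h.V_le le_rfl))⟩⟩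
  have h₁ : pCoreOf p (pResidualOf p ⊤[H]) ≤ V := b.core'.le.trans h.one
  have h₂ : pCoreOf p (pResidualOf p ⊤[H]) = W0 p (pResidualOf p ⊤[H]) := le_antisymm (le_omegaOneCenter (isElementaryAbelian_of_le b.elem h₁) le_rfl
    (h₁.trans (h.V_comm.trans (centralizer_anti h₁)))) (W0_le p _)
  exact b.blk c (fun g hg => h.faith ⟨mem_top g, mem_rel.2 ⟨h.W_norm (mem_top g), c.rho_eq_one_iff.1 hg⟩⟩)
    (h₂.ge.trans h₁) ((commutator_mono h.V_le le_rfl).trans (b.core'.ge.trans h₂.le)) hB (.inl h₂)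

theorem blk_tx (h : Tx p ⊤ S T M V X) (el : ∀ z ∈ Z(S), z ^ p = 1) (hB : Bm p S = S) : Blk p S (pResidualOf p ⊤[H]) := by
  obtain ⟨F, _, _, _, hF⟩ := ro_field h.toRO
  obtain ⟨c⟩ := h.toNM.rm.sec F hF
  obtain ⟨s⟩ := h.rm.sec F hF
  have h2 : p ≠ 2 := by rw [h.three]; decide
  have hn := le_normalizer_commutator h.T_norm (nE (p := p) ⊤)
  have n₁ : ¬ ⁅T, (pResidualOf p ⊤[H])⁆ ≤ V := fun e => h.res_not_le fun g hg => h.T_le_M (h.faith g (mem_top g) fun u hu =>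
    e (commutator_mem_commutator (h.rm.V_le hu) hg))
  have hU := s.le_sup h.comm_TE (normal_iff_top_le.2 hn) n₁
  have b : PB p S T M V := ⟨h.toPK, el, by
    obtain ⟨Y, T₂, h₁, h₂, h₃, h₄⟩ := h.exY
    refine ⟨Y, h₁, (commutator_mono le_rfl (h₂.ge.trans (sup_le (hU.trans (sup_le_sup_left h₃ _)) le_sup_right))).trans
      (commutator_sup_le le_normalizer (le_top.trans hn) (commutator_le_right_of_le_normalizer (le_top.trans hn)) ?_)⟩
    rw [commutator_comm]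
    exact h₄.trans ((pk_VS h.toPK c).trans (commutator_mono h.V_le le_rfl))⟩
  rw [← b.core'] at hn n₁ hU
  have hUU : pCoreOf p (pResidualOf p ⊤[H]) ≤ nclIn X ⊤ := b.core'.le.trans h.comm_TE
  have hUT : pCoreOf p (pResidualOf p ⊤[H]) ≤ T := hUU.trans h.rm.V_le
  have nX : ¬ nclIn X ⊤ ≤ X := fun e => h.not_le fun g hg => h.faith g (mem_top g) fun u hu =>
    h.rm.comm_Y (commutator_mem_commutator (e hu) hg)
  have nV : ¬ X ≤ V := fun e => h.rm.nc (nclIn_le e h.V_norm)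
  have hZ : Z(pCoreOf p (pResidualOf p ⊤[H])) ≤ V := by_contra fun e => by
    have k := s.le_sup (inf_le_left.trans hUU) (normal_iff_top_le.2 (le_norm_center hn)) e
    have k' : Z(pCoreOf p (pResidualOf p ⊤[H])) ⊔ V ≤ C(nclIn X ⊤) := le_trans (sup_le (by
      rw [centralizer_sup]; exact le_inf inf_le_right (inf_le_left.trans (hUT.trans h.V_cent))) (by
      rw [centralizer_sup]; exact le_inf (h.V_le_C.trans (centralizer_anti hUT)) h.V_comm)) (centralizer_anti hU)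
    obtain ⟨u, hu, huV⟩ := SetLike.not_le_iff_exists.1 nV
    exact nX fun a ha => h.nd u hu huV a ha (comm_eq_one_of_cent (k' (k ha)) (le_nclIn _ _ hu))
  have hW : W0 p (pResidualOf p ⊤[H]) = pCoreOf p (pResidualOf p ⊤[H]) ⊓ V := le_antisymm (le_inf (W0_le p _) ((le_inf (W0_le p _)
    (omegaOneCenter_le_centralizer p _)).trans hZ)) (le_omegaOneCenter (isElementaryAbelian_of_le b.elem inf_le_right)
      inf_le_left (inf_le_right.trans (h.V_le_C.trans (centralizer_anti hUT))))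
  have k₁ : s.ρ.ker = T := s.ker_eq h.rm.comm_T fun g => h.faith g (mem_top g)
  have hk : ∀ g, c.ρ g = 1 → g ∈ T := by
    have e := relIndex_mul_index (c.le_ker ((commutator_eq_bot_iff_le_centralizer'.2 h.V_cent).le.trans bot_le))
    rw [← k₁, index_ker, index_ker, MonoidHom.range_eq_top.2 c.surj, MonoidHom.range_eq_top.2 s.surj,
      Nat.mul_eq_right Nat.card_pos.ne', k₁, relIndex_eq_one] at e
    exact e
  have hW₁ : W0 p (pResidualOf p ⊤[H]) ≤ V := hW.le.trans inf_le_right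
  have hW₂ : ⁅V, (pResidualOf p ⊤[H])⁆ ≤ W0 p (pResidualOf p ⊤[H]) := le_trans (le_inf ((commutator_mono h.V_le le_rfl).trans b.core'.ge)
    (commutator_le_left_of_le_normalizer (le_top.trans h.V_norm))) hW.ge
  obtain ⟨fa, ⟨a⟩⟩ := b.act c hk hW₁ hW₂
  obtain ⟨a', lin, ha'⟩ := sec_actS (p := p) (s.restrict (B := W0 p (pResidualOf p ⊤[H])) hUU (normal_iff_top_le.2 hn) n₁
    fun v hv => by rw [hW, mem_inf, and_iff_right hv]) (W0_le p _)
  have fa' : ∀ g ∈ (pResidualOf p ⊤[H]), a'.θ g = 1 → g ∈ pCoreOf p (pResidualOf p ⊤[H]) := fun g hg e => by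
    rw [ro_core h.toRO]
    exact ⟨k₁.le ((ha' g).1 ((a'.θ_eq_one_iff (a'.norm hg)).1 e)), hg⟩
  have hZE : pCoreOf p (pResidualOf p ⊤[H]) ⊓ Z(⊤[H]) ≤ ZE p (pResidualOf p ⊤[H]) := le_inf ((inf_le_inf_left _ h.W_le_V).trans hW.ge)
    (inf_le_right.trans (inf_le_right.trans (centralizer_anti le_top)))
  have c₁ : ⁅pCoreOf p (pResidualOf p ⊤[H]), pCoreOf p (pResidualOf p ⊤[H])⁆ ≤ ZE p (pResidualOf p ⊤[H]) := (le_inf (commutator_le_left_of_le_normalizer le_normalizer)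
    ((commutator_mono hUU hUT).trans h.ut)).trans hZE
  obtain ⟨t, ht, e₁⟩ := a'.exists_θ (neg_mem_RL h2)
  have e₂ : a.θ t = negA _ := eq_negA h2 (RL_le_PL (a.θ_mem' ht)) (by
      rw [← a.θ_pow (a.norm ht)]
      exact a.θ_of_cent (core_le_cent p _ (fa' _ (pow_mem ht 2) (by
        rw [a'.θ_pow (a'.norm ht), e₁]; exact aut_ext fun m => by rw [pow_two, aut_mul, aut_one]; simp))))
    fun e => negA_ne_one h2 (e₁.symm.trans (a'.θ_of_mem (fa.le ⟨ht, (a.θ_eq_one_iff' (a.norm ht)).1 e⟩)))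
  have cq : ⁅pCoreOf p (pResidualOf p ⊤[H]), (pResidualOf p ⊤[H])⁆ = pCoreOf p (pResidualOf p ⊤[H]) := by
    haveI := h.finT
    rw [b.core']
    exact commutator_commutator_pResidualOf h.pT (le_top.trans h.T_norm)
  have c₂ : ⁅pCoreOf p (pResidualOf p ⊤[H]), pCoreOf p (pResidualOf p ⊤[H])⁆ = ZE p (pResidualOf p ⊤[H]) := le_antisymm c₁ fun z hz => by
    have := pow_four_mem (A := W0 p (pResidualOf p ⊤[H])) (le_top.trans hn) rfl cq.ge ht (fun e he => fa' _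
        (mul_mem (mul_mem (mul_mem he ht) (inv_mem he)) (inv_mem ht)) (by
          rw [a'.θ_comm (a'.norm he) (a'.norm ht), e₁]
          exact commutatorElement_eq_one_iff_mul_comm.2 (negA_comm _)))
      (fun u hu => (a'.ker _ (mul_mem hu (conj_mem_of_norm (hn (mem_top t)) hu))).1 (by
        rw [a'.add u hu _ (conj_mem_of_norm (hn (mem_top t)) hu), ← a'.θ_ψ (a'.norm ht) hu, e₁, negA_apply,
          add_neg_cancel])) (W0_le p _)
      (fun u hu => ((a.ker _ (mul_mem hu (conj_mem_of_norm (a.norm ht).1 hu))).1 (by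
        rw [a.add u hu _ (conj_mem_of_norm (a.norm ht).1 hu), ← a.θ_ψ (a.norm ht) hu, e₂, negA_apply,
          add_neg_cancel])).2) (W0_le p _ hz.1) hz.2
    have e := (W0_elem p (pResidualOf p ⊤[H])).2 z hz.1
    rw [h.three] at e
    rwa [pow_succ, e, one_mul] at this
  refine b.blk c hk hW₁ hW₂ hB (.inr ⟨h.three, ⟨a'⟩, c₂, le_antisymm (Phi_le_of c₁ fun x hx =>
    hZE ⟨pow_mem hx p, h.powU x (hUU hx)⟩) (c₂.ge.trans (comm_le_Phi (pCoreOf_isPGroup p _))),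
    le_antisymm (fun z hz => ?_) (le_inf ((ZE_le p _).trans (W0_le_E p _)) (ZE_cent p _)), ?_, fun y hy hyW e => ?_⟩)
  · have k : z ∈ C(pCoreOf p (pResidualOf p ⊤[H])) := centralizer_anti (pCoreOf_le p _) hz.2
    have k' := fa' z hz.1 (a'.θ_of_cent k)
    exact ⟨hW.ge ⟨k', hZ ⟨k', k⟩⟩, hz.2⟩
  · have hel := isElementaryAbelian_of_le (W0_elem p (pResidualOf p ⊤[H])) (ZE_le p _)
    obtain ⟨j, hj⟩ := exists_form' a' (card_ne_two h2) (emSect hel) c₁ (pCoreOf_le p _) (ZE_cent p _)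
      (core_le_cent p _) fun m hm => by
        obtain ⟨w, hw, rfl⟩ := (emSect hel).onto m
        rw [← two_nsmul, ← (emSect hel).pow hw, (emSect hel).ker _ (pow_mem hw 2)] at hm
        rw [eq_one_of_sq h2 (hel.2 w hw) hm, Sect.one]
    rw [(emSect hel).card_U, card_bot, mul_one]
    refine (Nat.card_eq_of_bijective j ⟨(injective_iff_map_eq_zero j).2 fun x hx => ?_, fun m => ?_⟩).symm
    · obtain ⟨u, hu, huV⟩ : ∃ u ∈ X ⊓ pCoreOf p (pResidualOf p ⊤[H]), u ∉ V := SetLike.not_le_iff_exists.1 fun e => nV (by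
        have := sup_inf_of_le_normalizer' (A := V) (B := pCoreOf p (pResidualOf p ⊤[H])) (C := X) (le_top.trans h.V_norm) h.rm.W_le
        rw [sup_comm, inf_eq_right.2 (h.rm.Y_le.trans hU), inf_comm] at this
        exact this.le.trans (sup_le le_rfl e))
      have m0 : a'.ψ u ≠ 0 := fun e => huV (hW₁ ((a'.ker u hu.2).1 e))
      obtain ⟨w, hw⟩ := exists_det2 m0
      obtain ⟨v, hv, e⟩ := a'.onto (x • w)
      have e₃ : det2 (a'.ψ u) (a'.ψ v) = x := by rw [e, det2_smul, hw, mul_one]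
      have hvX := h.nd u hu.1 huV v (hUU hv) (mem_bot.1 (((emSect hel).ker _
        (c₁ (commutator_mem_commutator hu.2 hv))).1 (by rw [hj u hu.2 v hv, e₃, hx])))
      obtain ⟨y, hy, hyT⟩ := h.exists_S
      have ny : y ∈ NN (pCoreOf p (pResidualOf p ⊤[H])) (W0 p (pResidualOf p ⊤[H])) := norm_NN' p _ (nE ⊤ (mem_top y))
      have fx : ∀ x ∈ X, ∀ hx : x ∈ pCoreOf p (pResidualOf p ⊤[H]), a'.θ y (a'.ψ x) = a'.ψ x := fun x h₁ h₂ => (a'.fix_iff ny h₂).2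
        (hW.ge ⟨comm_mem_of_norm ny.1 h₂, h.rm.comm_Y (commutator_mem_commutator h₁ hy)⟩)
      obtain ⟨k, hk'⟩ := isPGroup_iff_forall_mem.1 (a'.im_isPGroup h.pS) _ (a'.θ_mem hy)
      exact e₃.symm.trans (mem_line.1 (mem_line_of_fix m0 (mem_UL_of m0 (PL_le_LinA (lin y ny)) (fx u hu.1 hu.2) hk')
        (fun e => hyT (k₁.le ((ha' y).1 ((a'.θ_eq_one_iff ny).1 e)))) (fx v hvX hv)))
    · obtain ⟨z, hz, rfl⟩ := (emSect hel).onto m
      exact (c₂.ge.trans (commutator_le (H₃ := (emSect hel).pre j.range).2 fun u hu v hv =>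
        ⟨c₁ (commutator_mem_commutator hu hv), _, (hj u hu v hv).symm⟩) hz).2
  · obtain ⟨x, hx, hxX⟩ := SetLike.not_le_iff_exists.1 fun e : pCoreOf p (pResidualOf p ⊤[H]) ≤ X => nX (hU.trans (sup_le e h.rm.W_le))
    exact h.cub x (hUU hx) hxX y (hB.le hy) (fun k => hyW (centralizer_anti hW₁ (h.V_cent k)))
      (h.inf_cent_res ((inf_le_inf_right _ hW₁) (e (commutator_mem_commutator
        (commutator_mem_commutator hx (mem_zpowers y)) (mem_zpowers y)))))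

end Main

theorem ro_subgroupOf {G : Type*} [Group G] {p : ℕ} {L S T M : Subgroup G} (h : RO p L S T M) :
    RO p ⊤ (S.subgroupOf L) (T.subgroupOf L) (M.subgroupOf L) where
  fin := haveI := h.fin; inferInstance
  syl := subgroupOf_self L ▸ h.syl.subgroupOf le_rfl
  core := by rw [pCoreOf_top, ← pCoreOf_subgroupOf, h.core]
  min := h.min.subgroupOf
  ti g _ hg x hx := h.ti g g.2 hg ⟨hx.1, mem_conj_iff.2 (mem_conj_iff.1 (mem_inf.1 hx).2 :)⟩
  comm := commutator_le.2 fun x hx y hy => h.comm (commutator_mem_commutator hx hy)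
  pow s hs := h.pow s hs
  irr X h₁ h₂ h₃ := by
    have := h.irr (X.map L.subtype) ((subgroupOf_map_subtype_of_le h.T_le_G).ge.trans (map_mono h₁))
      ((map_mono h₂).trans (subgroupOf_map_subtype_of_le h.S_le).le) (by
        refine le_trans ?_ (le_normalizer_map L.subtype h₃)
        rw [top_inf_eq, map_normalizer_subtype, subgroupOf_map_subtype_of_le h.S_le])
    exact this.imp (fun e => by rw [← e, map_subtype_subgroupOf]) fun e => by rw [← e, map_subtype_subgroupOf]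

/-- Rank one pushing up gives a block. -/
theorem blk_of_pu {G : Type u} [Group G] {p : ℕ} [Fact p.Prime] {L S T M : Subgroup G} (h : PU p L S T M)
    (hd : ∀ A : Subgroup S, A ≠ ⊥ → A.Characteristic → ¬ L ≤ N(A.map S.subtype)) (hB : Bm p S = S) :
    Blk p S (pResidualOf p L) := by
  haveI := h.fin
  have h' : PU p ⊤ (S.subgroupOf L) (T.subgroupOf L) (M.subgroupOf L) := ⟨ro_subgroupOf h.toRO, by
    rw [top_inf_eq, centralizer_subgroupOf h.T_le_G]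
    exact fun x hx => h.char ⟨x.2, hx⟩⟩
  have hB' : Bm p (S.subgroupOf L) = S.subgroupOf L := by rw [Bm_subgroupOf h.S_le, hB]
  obtain ⟨el, V, k⟩ := one_or_tx (inclusion_injective h.S_le) (by
    rw [← MonoidHom.range_eq_map, inclusion_range]) h' fun A h₁ h₂ hn => hd A h₁ h₂ (by
      have := le_normalizer_map_subtype (A.map (inclusion h.S_le))
      rwa [map_map] at this)
  have := (blk_map_iff L.subtype_injective).2 (k.elim (fun k => blk_one k.1 el k.2 hB') fun ⟨_, k⟩ => blk_tx k el hB')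
  rwa [subgroupOf_map_subtype_of_le h.S_le, pResidualOf_top, pResidualOf_def] at this

end Cfsg.Agent.Lib.Blk
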