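import Cfsg.Agent.Lib.PushPair

/-! Pushing up groups with one noncentral chief factor. -/

set_option autoImplicit false
open Cfsg

namespace Cfsg.Agent.Lib.PushBase

open Subgroup Cfsg.Agent.Lib.PCoreConj Cfsg.Agent.Lib.PCore Cfsg.Agent.Lib.PCoreResidual Cfsg.Agent.Lib.PCoreMod
open Cfsg.Agent.Lib.PReduced Cfsg.Agent.Lib.PIrred Cfsg.Agent.Lib.ThompsonJ
open scoped Pointwise commutatorElement

variable {H : Type*} [Group H] {p : ℕ}

section Rel
variable {W A L K : Subgroup H} {x : H}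

/-- The elements of `N(W)` centralizing `A` modulo `W`. -/
def rel (W A : Subgroup H) : Subgroup H := N(W) ⊓ ⨅ a : A, stab W a

theorem mem_rel : x ∈ rel W A ↔ x ∈ N(W) ∧ ∀ a ∈ A, ⁅a, x⁆ ∈ W :=
  ⟨fun h => ⟨h.1, fun a ha => (mem_stab.1 (mem_iInf.1 h.2 ⟨a, ha⟩)).2⟩,
    fun h => ⟨h.1, mem_iInf.2 fun a => mem_stab.2 ⟨h.1, h.2 a a.2⟩⟩⟩

theorem le_rel_iff : L ≤ rel W A ↔ L ≤ N(W) ∧ ⁅A, L⁆ ≤ W :=
  ⟨fun h => ⟨h.trans inf_le_left, commutator_le.2 fun a ha _ hx => (mem_rel.1 (h hx)).2 a ha⟩,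
    fun h _ hx => mem_rel.2 ⟨h.1 hx, fun _ ha => h.2 (commutator_mem_commutator ha hx)⟩⟩

theorem comm_le_of_le_rel (h : L ≤ rel W A) : ⁅A, L⁆ ≤ W := (le_rel_iff.1 h).2

theorem le_norm_rel (h₁ : K ≤ N(W)) (h₂ : K ≤ N(A)) : K ≤ N(rel W A) := by
  refine le_normalizer_iff_conj_le.2 fun k hk => le_rel_iff.2 ⟨?_, ?_⟩
  · exact conj_le_of_mem inf_le_left (h₁ hk)
  · rw [← conj_eq_of_mem_normalizer (h₂ hk), ← conj_commutator, conj_eq_of_mem_normalizer (h₂ hk)]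
    exact conj_le_of_mem_normalizer (comm_le_of_le_rel le_rfl) (h₁ hk)

theorem comm_mem_swap {a b : H} (h : ⁅a, b⁆ ∈ W) : ⁅b, a⁆ ∈ W :=
  commutatorElement_inv a b ▸ inv_mem h

theorem conj_eq_comm (x v : H) : x * v * x⁻¹ = ⁅v, x⁆⁻¹ * v := by
  simp only [commutatorElement_def]; group

theorem comm_res_trans [Fact p.Prime] {P B : Subgroup H} [Finite P] (hP : IsPGroup p P)
    (hn : pResidualOf p K ≤ N(P)) (h₁ : ⁅P, pResidualOf p K⁆ ≤ A) (h₂ : ⁅A, pResidualOf p K⁆ ≤ B) :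
    ⁅P, pResidualOf p K⁆ ≤ B :=
  (commutator_commutator_pResidualOf hP hn).ge.trans ((commutator_mono h₁ le_rfl).trans h₂)

end Rel

namespace NM
variable {G S T M V Y W : Subgroup H} {g b x x' u v y : H} (h : NM p G S T M V Y W)
include h

theorem inf_conj' (hx : x ∈ G) (hx' : x' ∈ G) (hM : x⁻¹ * x' ∉ M) : Y ^ᶜ x ⊓ Y ^ᶜ x' = W := by
  have := congrArg (· ^ᶜ x) (h.inf_conj (mul_mem (inv_mem hx) hx') hM)
  simpa only [conj_inf, conj_conj, mul_inv_cancel_left, h.conj_W hx] using this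

theorem cover (hg : g ∈ G) (hgM : g ∉ M) (hv : v ∈ V) (hvY : v ∉ Y) : ∃ s ∈ S, v ∈ Y ^ᶜ (s * g) := by
  obtain ⟨y, hy, u, hu, e⟩ := h.exists_mul hg hgM hv
  obtain ⟨s, hs, hw⟩ := h.surj₁ (h.conj_Y_le hg hu) (fun hu => hvY (e ▸ mul_mem hy hu)) (inv_mem hy)
  refine ⟨s, hs, ?_⟩
  have e₁ : v = (⁅u, s⁆⁻¹ * y⁻¹)⁻¹ * (s * u * s⁻¹) := by
    rw [← e]; simp only [commutatorElement_def]; group
  rw [e₁]
  exact mul_mem (inv_mem ((h.conj_mem (mul_mem (h.S_le hs) hg)).W_le hw))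
    (conj_conj Y g s ▸ conj_mem_conj s hu)

theorem exists_swap (hg : g ∈ G) (hgM : g ∉ M) (hy : y ∈ S) (hyT : y ∉ T) :
    ∃ b ∈ S ^ᶜ g, b * y * g ∈ M := by
  have h' := h.conj_mem hg
  have hyg := mul_mem (h.S_le hy) hg
  obtain ⟨u, hu, huW⟩ := SetLike.not_le_iff_exists.1 (h.conj_mem hyg).not_Y_le
  have huY : u ∉ Y ^ᶜ g := fun e => huW ((h.inf_conj' hg hyg (by
    have := h.not_mem_conj hg hgM hy hyT
    rwa [mem_conj_iff, mul_assoc] at this)).le ⟨e, hu⟩)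
  obtain ⟨s, hs, e⟩ := h'.cover (inv_mem hg) (RO.inv_not_mem hgM) (h.conj_Y_le hyg hu) huY
  rw [conj_conj, inv_mul_cancel_right] at e
  refine ⟨s⁻¹, inv_mem hs, by_contra fun k => huW ((h.inf_conj' (h'.S_le hs) hyg ?_).le ⟨e, hu⟩)⟩
  rwa [← mul_assoc]

theorem mem_M_of_norm (hx : x ∈ G) (hn : x ∈ N(Y)) : x ∈ M := by_contra fun e =>
  h.not_Y_le (h.le_W_of_norm le_rfl
    (h.gen' (le_normalizer_of_le_centralizer h.Y_cent) hx e hn))

theorem conj_swap (hg : g ∈ G) (hb : b ∈ S ^ᶜ g) (hu : u ∈ Y ^ᶜ g) (y : H) :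
    b * y * u * (b * y)⁻¹ = ⁅u, y⁆⁻¹ * (⁅⁅u, y⁆, b⁆ * u) := by
  have e := (h.conj_mem hg).Y_cent (inv_mem hb) u hu
  calc _ = b * ⁅u, y⁆⁻¹ * (u * b⁻¹) := by simp only [commutatorElement_def]; group
    _ = _ := by rw [e]; simp only [commutatorElement_def]; group

theorem swap_iff (hg : g ∈ G) (hgM : g ∉ M) (hb : b ∈ S ^ᶜ g) (hy : y ∈ S) :
    b * y * g ∈ M ↔ ∀ u ∈ Y ^ᶜ g, ⁅⁅u, y⁆, b⁆ * u ∈ W := by
  have h' := h.conj_mem hg
  refine ⟨fun e u hu => ?_, fun e => h.mem_M_of_norm (mul_mem (mul_mem (h'.S_le hb) (h.S_le hy)) hg)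
    ?_⟩
  · have hz := h.comm_mem (h'.Y_le hu) hy
    refine (h.inf_conj hg hgM).le (mem_inf.2 ⟨?_, mul_mem (h'.comm_mem (h.Y_le hz) hb) hu⟩)
    have := conj_mem_conj (b * y) hu
    rw [conj_conj, conj_eq_of_mem_normalizer (h.M_norm e), h.conj_swap hg hb hu] at this
    simpa only [mul_inv_cancel_left] using mul_mem hz this
  · haveI := h.finY
    refine mem_normalizer_of_conj_le ?_
    rw [← conj_conj]
    refine conj_le_iff.2 fun u hu => ?_
    rw [h.conj_swap hg hb hu]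
    exact mul_mem (inv_mem (h.comm_mem (h'.Y_le hu) hy)) (h.W_le (e u hu))

theorem exists_inv : ∃ c ∈ G, ∀ v ∈ V, c * v * c⁻¹ * v ∈ W := by
  obtain ⟨g, hg, hgM⟩ := h.exists_G
  obtain ⟨y, hy, hyT⟩ := h.exists_S
  obtain ⟨b, hb, e⟩ := h.exists_swap hg hgM hy hyT
  have h' := h.conj_mem hg
  have hc : b * y ∈ G := mul_mem (h'.S_le hb) (h.S_le hy)
  set c := b * y with hcdef
  have key : ∀ u ∈ Y ^ᶜ g, c ^ 3 * u * (c ^ 3)⁻¹ * u ∈ W := fun u hu => by
    have hw := (h.swap_iff hg hgM hb hy).1 e u hu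
    have e₁ : c * u * c⁻¹ = _ := h.conj_swap hg hb hu y
    have hz := h.comm_mem (h'.Y_le hu) hy
    set z := ⁅u, y⁆
    set w := ⁅z, b⁆ * u with hwdef
    have e₂ : c * z⁻¹ * c⁻¹ = z⁻¹ * w * u⁻¹ := by
      calc _ = b * (y * z⁻¹ * y⁻¹) * b⁻¹ := by rw [hcdef]; group
        _ = _ := by
          rw [conj_eq_of_cent (h.Y_cent hy) (inv_mem hz), hwdef]
          simp only [commutatorElement_def]; group
    have e₃ : c * w * c⁻¹ = w := conj_eq_of_cent (h.W_cent hc) hw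
    have e₄ : c ^ 3 * u * (c ^ 3)⁻¹ = c * (c * (c * u * c⁻¹) * c⁻¹) * c⁻¹ := by
      simp only [pow_succ, pow_zero]; group
    have e₅ : ∀ a b : H, c * (a * b) * c⁻¹ = c * a * c⁻¹ * (c * b * c⁻¹) := fun a b => by group
    have e₆ : c * u⁻¹ * c⁻¹ = (z⁻¹ * w)⁻¹ := by rw [← e₁]; group
    rw [e₄, e₁, e₅ z⁻¹ w, e₂, e₃, e₅ _ w, e₅ _ u⁻¹, e₅ z⁻¹ w, e₂, e₃, e₆]
    have hwC := h.W_le_C hw
    have hzG := h.V_le_G (h.Y_le hz)
    have huG := h.V_le_G (h'.Y_le hu)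
    have e₇ : z⁻¹ * w * u⁻¹ * w * (z⁻¹ * w)⁻¹ * w * u = w * w := by
      calc _ = z⁻¹ * w * (u⁻¹ * z) * w * u := by group
        _ = z⁻¹ * w * z * (u⁻¹ * w * u) := by
          rw [← h.V_comm (inv_mem (h'.Y_le hu)) z (h.Y_le hz)]; group
        _ = _ := by rw [hwC _ (inv_mem hzG), hwC _ (inv_mem huG)]; group
    rw [e₇]
    exact mul_mem hw hw
  refine ⟨c ^ 3, pow_mem hc 3, fun v hv => ?_⟩
  obtain ⟨z, hz, u, hu, rfl⟩ := h.exists_mul hg hgM hv
  have hzu : c⁻¹ * z * c ∈ Y ^ᶜ g := by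
    rw [← conj_eq_of_mem_normalizer (h.M_norm e), ← conj_conj, mem_conj_iff] at hz
    exact hz
  have k₁ := conj_mem_of_norm (h.W_norm hc) (key _ hzu)
  have e₁ : c * (c ^ 3 * (c⁻¹ * z * c) * (c ^ 3)⁻¹ * (c⁻¹ * z * c)) * c⁻¹ =
      c ^ 3 * z * (c ^ 3)⁻¹ * z := by simp only [pow_succ, pow_zero]; group
  rw [e₁] at k₁
  have e₂ : c ^ 3 * (z * u) * (c ^ 3)⁻¹ * (z * u) =
      c ^ 3 * z * (c ^ 3)⁻¹ * (c ^ 3 * u * (c ^ 3)⁻¹ * z) * u := by group
  rw [e₂, ← h.V_comm (conj_mem_of_norm (h.V_norm (pow_mem hc 3)) (h'.Y_le hu)) z (h.Y_le hz)]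
  simpa only [mul_assoc] using mul_mem k₁ (key u hu)

theorem inv_mul_rel {c k : H} (hc : c ∈ G) (hi : ∀ v ∈ V, c * v * c⁻¹ * v ∈ W) (hk : k ∈ rel W V) :
    ∀ v ∈ V, c * k * v * (c * k)⁻¹ * v ∈ W := fun v hv => by
  have e : c * k * v * (c * k)⁻¹ * v = c * ⁅v, k⁆⁻¹ * c⁻¹ * (c * v * c⁻¹ * v) := by
    simp only [commutatorElement_def]; group
  rw [e]
  exact mul_mem (conj_mem_of_norm (h.W_norm hc) (inv_mem ((mem_rel.1 hk).2 v hv))) (hi v hv)

theorem mul_mem_rel {c d : H} (hc : c ∈ G) (hd : d ∈ G) (hi : ∀ v ∈ V, c * v * c⁻¹ * v ∈ W)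
    (hj : ∀ v ∈ V, d * v * d⁻¹ * v ∈ W) : c * d ∈ rel W V := by
  refine mem_rel.2 ⟨h.W_norm (mul_mem hc hd), fun v hv => ?_⟩
  have e : ⁅v, c * d⁆ = (c * v⁻¹ * c⁻¹ * v⁻¹)⁻¹ * (c * (v⁻¹ * (d * v⁻¹ * d⁻¹)) * c⁻¹) := by
    simp only [commutatorElement_def]; group
  rw [e, h.V_comm (conj_mem_of_norm (h.V_norm hd) (inv_mem hv)) _ (inv_mem hv)]
  exact mul_mem (inv_mem (hi _ (inv_mem hv))) (conj_mem_of_norm (h.W_norm hc) (hj _ (inv_mem hv)))

variable [hp : Fact p.Prime]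

theorem exists_inv' (hp2 : p ≠ 2) :
    ∃ c ∈ G, (orderOf c).Coprime p ∧ ∀ v ∈ V, c * v * c⁻¹ * v ∈ W := by
  haveI := h.fin
  obtain ⟨c, hc, hi⟩ := h.exists_inv
  obtain ⟨k, hk⟩ := exists_pow_coprime (p := p) (isOfFinOrder_of_mem hc)
  obtain ⟨m, hm⟩ := (hp.out.odd_of_ne_two hp2).pow (n := k)
  refine ⟨_, pow_mem hc _, hk, ?_⟩
  rw [hm, pow_succ', pow_mul, sq]
  exact h.inv_mul_rel hc hi (pow_mem (h.mul_mem_rel hc hc hi hi) m)

theorem mem_W_of_sq (hp2 : p ≠ 2) (hv : v ∈ V) (h2 : v * v ∈ W) : v ∈ W := by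
  obtain ⟨m, hm⟩ := hp.out.odd_of_ne_two hp2
  have := h.pow_mem_W hv
  rw [hm, pow_succ, pow_mul, sq] at this
  simpa only [inv_mul_cancel_left] using mul_mem (inv_mem (pow_mem h2 m)) this

theorem inf_cent_res : V ⊓ C(pResidualOf p G) ≤ W := by
  have hn : G ≤ N(V ⊓ C(pResidualOf p G)) :=
    le_normalizer_inf h.V_norm (le_normalizer_centralizer (le_normalizer_pResidualOf p G))
  refine h.le_W_of_norm (fun v hv => by_contra fun hvY => h.not_Y_le (h.le_W_of_norm le_rfl ?_)) hn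
  refine le_normalizer_of_le_centralizer (h.res_sup.ge.trans (sup_le (le_centralizer_iff.1
    fun y hy => ?_) h.Y_cent))
  obtain ⟨s, hs, e⟩ := h.surj₁ hv.1 hvY hy
  rw [← mul_inv_cancel_left ⁅v, s⁆ y]
  exact mul_mem (comm_mem_of_norm (hn (h.S_le hs)) hv).2
    (centralizer_anti (pResidualOf_le p G) (h.W_le_C e))

end NM

variable [hp : Fact p.Prime] {G S T M V N K A : Subgroup H}

theorem PU.isPGroup_of (h : PU p G S T M) (hK : K ≤ G) (hc : ⁅T, pResidualOf p K⁆ ≤ Z(G)) :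
    IsPGroup p K := by
  haveI := h.fin
  haveI := h.finT
  haveI := finite_of_le hK
  have hKG := (pResidualOf_le p K).trans hK
  exact isPGroup_of_pResidualOf_le h.pT ((le_inf hKG (pResidualOf_le_centralizer_of_le h.pT
    (hKG.trans h.T_norm) hc (hKG.trans (le_centralizer_iff.1 inf_le_right)))).trans h.char)

theorem RO.cent_res_of_le (h : RO p G S T M) (hN : N ≤ T) (hn : G ≤ N(N))
    (hc : ⁅N, pResidualOf p G⁆ ≤ Z(G)) : N ≤ C(pResidualOf p G) := by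
  haveI := h.finT
  haveI := finite_of_le hN
  exact le_centralizer_iff.1 (pResidualOf_le_centralizer_of_le (h.pT.to_le hN)
    ((pResidualOf_le p G).trans hn) hc
      ((pResidualOf_le p G).trans (le_centralizer_iff.1 inf_le_right)))

theorem RO.Phi_le (h : RO p G S T M) (hNG : N ≤ G) (h₁ : ⁅T, pResidualOf p G⁆ ≤ N)
    (h₂ : ⁅N, T⁆ ≤ Z(G)) (h₃ : ∀ u ∈ N, u ^ p ∈ Z(G)) : Phi T ≤ C(pResidualOf p G) := by
  haveI := h.finT
  have hEG := pResidualOf_le p G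
  have hZ : G ≤ N(Z(G)) := le_norm_center le_normalizer
  refine h.cent_res_of_le (PushBase.Phi_le T) (le_norm_Phi h.T_norm) ?_
  rw [commutator_comm]
  refine comm_le_of_le_rel (Phi_le_of (p := p) (le_rel_iff.2 ⟨?_, ?_⟩) fun t ht => mem_rel.2
    ⟨hZ (h.T_le_G (pow_mem ht p)), fun e he => ?_⟩)
  · exact ((commutator_le_left_of_le_normalizer le_normalizer).trans h.T_le_G).trans hZ
  · rw [commutator_comm]
    have k : ⁅⁅T, pResidualOf p G⁆, T⁆ ≤ Z(G) := (commutator_mono h₁ le_rfl).trans h₂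
    exact three_subgroups (h.T_le_G.trans hZ) (h.T_le_G.trans hZ) (hEG.trans hZ) k
      (commutator_comm (pResidualOf p G) T ▸ k)
  · have hu : ⁅e, t⁆ ∈ N := comm_mem_swap (h₁ (commutator_mem_commutator ht he))
    have hc : ⁅t, ⁅e, t⁆⁆ ∈ Z(G) := comm_mem_swap (h₂ (commutator_mem_commutator hu ht))
    have e₁ : ⁅e, t ^ p⁆ = (⁅e, t⁆ * t) ^ p * (t ^ p)⁻¹ := by
      rw [show ⁅e, t⁆ * t = e * t * e⁻¹ by rw [commutatorElement_def]; group, conj_pow,
        commutatorElement_def]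
    rw [e₁, mul_pow_of_commutator_comm (hc.2 _ (hNG hu)) (hc.2 _ (h.T_le_G ht)),
      mul_inv_cancel_right]
    exact mul_mem (pow_mem hc _) (h₃ _ hu)

/-- The pushing up situation with exactly one noncentral chief factor. -/
structure One (p : ℕ) (G S T M V : Subgroup H) : Prop extends PK p G S T M V where
  one : ⁅T, pResidualOf p G⁆ ≤ V

namespace One
variable (h : One p G S T M V)
include h

theorem Phi_le : Phi T ≤ T ⊓ C(pResidualOf p G) :=
  le_inf (PushBase.Phi_le T) (h.toRO.Phi_le h.V_le_G h.one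
    ((commutator_eq_bot_iff_le_centralizer'.2 h.V_cent).trans_le bot_le) fun _ => h.pow_mem_W)

theorem comm_TT : ⁅T, T⁆ ≤ T ⊓ C(pResidualOf p G) :=
  haveI := h.finT
  (comm_le_Phi h.pT).trans h.Phi_le

omit hp in
theorem C_norm : G ≤ N(T ⊓ C(pResidualOf p G)) :=
  le_normalizer_inf h.T_norm (le_normalizer_centralizer (le_normalizer_pResidualOf p G))

theorem mem_Z {v : H} (hv : v ∈ V) (hc : v ∈ T ⊓ C(pResidualOf p G)) : v ∈ Z(G) :=
  h.inf_cent_res ⟨hv, hc.2⟩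

omit hp in
theorem Z_le : Z(G) ≤ T ⊓ C(pResidualOf p G) :=
  le_inf (h.W_le_V.trans h.V_le) (inf_le_right.trans (centralizer_anti (pResidualOf_le p G)))

theorem faith : G ⊓ rel Z(G) V ≤ T := by
  haveI := h.finT
  have hE : pResidualOf p (G ⊓ rel Z(G) V) ≤ G := (pResidualOf_le p _).trans inf_le_left
  refine h.le_T inf_le_left (le_normalizer_inf le_normalizer (le_norm_rel h.W_norm h.V_norm))
    (h.pu.isPGroup_of inf_le_left (comm_res_trans h.pT (hE.trans h.T_norm)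
      ((commutator_mono le_rfl (pResidualOf_mono inf_le_left)).trans h.one) ?_))
  exact comm_le_of_le_rel ((pResidualOf_le p _).trans inf_le_right)

theorem split {z : H} (hz : z ∈ G) (ho : (orderOf z).Coprime p) (hn : G ≤ N(zpowers z ⊔ T))
    (hf : ∀ v ∈ V, ⁅v, z⁆ ∈ Z(G) → v ∈ Z(G)) : T ≤ V ⊔ T ⊓ C(pResidualOf p G) := by
  haveI := h.fin
  set C := T ⊓ C(pResidualOf p G)
  have hzE := mem_pResidualOf hz ho
  have hn₀ : G ≤ N(T ⊓ rel C (zpowers z ⊔ T)) :=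
    le_normalizer_inf h.T_norm (le_norm_rel h.C_norm hn)
  have h₀ : T ⊓ rel C (zpowers z ⊔ T) ≤ C := le_inf inf_le_left (h.toRO.cent_res_of_le inf_le_left hn₀
    (commutator_le.2 fun t ht e he => by
      have hv := h.one (commutator_mem_commutator ht.1 he)
      have := (mem_rel.1 (comm_mem_of_norm (hn₀ (pResidualOf_le p G he)) ht).2).2 z
        (mem_sup_left (mem_zpowers z))
      exact hf _ hv (h.mem_Z (h.comm_mem_V hv hz) (comm_mem_swap this))))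
  intro t ht
  have hP : zpowers t ⊔ V ≤ T := sup_le (zpowers_le.2 ht) h.V_le
  have hc : ⁅zpowers t ⊔ V, zpowers z⁆ ≤ V := (commutator_mono hP (zpowers_le.2 hzE)).trans h.one
  haveI := finite_of_le (zpowers_le.2 hz)
  have := exists_fixed_mul (p := p) (V := zpowers t ⊔ V) (L := zpowers z) (S := ⊥) (N := V)
    ((abExp_zpowers (pow_zero t)).sup (abExp_of_le_cent h.V_comm)
      ((zpowers_le.2 ht).trans h.V_cent)).isMulCommutative (h.pT.to_le hP)
    (le_normalizer_of_commutator_le (hc.trans le_sup_right))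
    (by rw [relIndex_bot_left, Nat.card_zpowers]; exact (hp.out.coprime_iff_not_dvd).1 ho.symm)
    (v := t) ⟨mem_sup_left (mem_zpowers t), centralizer_bot'.ge trivial⟩
    fun g hg => comm_mem_swap (hc (commutator_mem_commutator (mem_sup_left (mem_zpowers t)) hg))
  refine (sup_le (le_trans (le_trans (le_inf (inf_le_left.trans hP) (le_rel_iff.2 ⟨?_, ?_⟩)) h₀)
    le_sup_right) (inf_le_right.trans le_sup_left)) this
  · exact ((inf_le_left.trans hP).trans h.T_le_G).trans h.C_norm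
  · rw [commutator_comm]
    exact commutator_sup_le ((zpowers_le.2 hz).trans h.C_norm) (h.T_le_G.trans h.C_norm)
      ((commutator_eq_bot_iff_le_centralizer'.2 (le_centralizer_iff.1 inf_le_right)).trans_le bot_le)
      ((commutator_mono (inf_le_left.trans hP) le_rfl).trans h.comm_TT)

theorem comm_inv_mem {c x : H} (hc : c ∈ G) (hi : ∀ v ∈ V, c * v * c⁻¹ * v ∈ Z(G)) (hx : x ∈ G) :
    ⁅x, c⁆ ∈ T := by
  have hi' : ∀ v ∈ V, c⁻¹ * v * c⁻¹⁻¹ * v ∈ Z(G) := fun v hv => by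
    have := conj_mem_of_norm (h.W_norm (inv_mem hc)) (hi v hv)
    rw [← h.V_comm (conj_mem_of_norm (h.V_norm (inv_mem hc)) hv) v hv]
    simpa only [mul_assoc, inv_mul_cancel_left, inv_inv] using this
  refine h.faith (mem_inf.2 ⟨mul_mem (mul_mem (mul_mem hx hc) (inv_mem hx)) (inv_mem hc),
    h.mul_mem_rel (mul_mem (mul_mem hx hc) (inv_mem hx)) (inv_mem hc) (fun v hv => ?_) hi'⟩)
  have := conj_mem_of_norm (h.W_norm hx) (hi _ (conj_mem_of_norm (h.V_norm (inv_mem hx)) hv))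
  simpa only [mul_assoc, mul_inv_rev, inv_inv, mul_inv_cancel_left, mul_inv_cancel, mul_one]
    using this

theorem split_odd (hp2 : p ≠ 2) : T ≤ V ⊔ T ⊓ C(pResidualOf p G) := by
  obtain ⟨c, hc, ho, hi⟩ := h.exists_inv' hp2
  refine h.split hc ho (le_normalizer_iff_conj_le.2 fun x hx => ?_) fun v hv e => ?_
  · rw [conj_sup, h.conj_T hx, conj_zpowers]
    refine sup_le (zpowers_le.2 ?_) le_sup_right
    rw [conj_eq_comm]
    exact mul_mem (inv_mem (mem_sup_right (comm_mem_swap (h.comm_inv_mem hc hi hx))))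
      (mem_sup_left (mem_zpowers c))
  · refine h.mem_W_of_sq hp2 hv ?_
    have := mul_mem e (hi v hv)
    rwa [conj_eq_comm, mul_assoc, mul_inv_cancel_left] at this

theorem split_two (hp2 : p = 2) (hE : pResidualOf p G ⊓ S ≤ T) :
    T ≤ V ⊔ T ⊓ C(pResidualOf p G) := by
  haveI := h.fin
  subst hp2
  set E := pResidualOf 2 G
  have hEG : E ≤ G := pResidualOf_le 2 G
  have hGE : G ≤ N(E) := le_normalizer_pResidualOf 2 G
  have hET : G ≤ N(E ⊔ T) := le_normalizer_sup hGE h.T_norm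
  have hGG : ⁅G, S⁆ ≤ E ⊔ T := by
    rw [commutator_comm]
    refine (commutator_mono le_rfl h.res_sup.ge).trans (commutator_sup_le (hEG.trans hET)
      (h.S_le.trans hET) ?_ (h.comm.trans le_sup_right))
    exact (commutator_le_right_of_le_normalizer (h.S_le.trans hGE)).trans le_sup_left
  have hES : (E ⊔ T) ⊓ S ≤ T := by
    rw [sup_comm, sup_inf_of_le_normalizer (h.T_le_G.trans hGE) h.T_le]
    exact sup_le le_rfl hE
  obtain ⟨a, ha, haT⟩ := h.exists_S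
  obtain ⟨g, hg, hgM⟩ := h.exists_G
  have hS : zpowers a ⊔ T = S := h.eq_S le_sup_right (sup_le (zpowers_le.2 ha) h.T_le)
    (le_normalizer_iff_conj_le.2 fun x hx => by
      rw [conj_sup, h.conj_T hx.1, conj_zpowers]
      refine sup_le (zpowers_le.2 ?_) le_sup_right
      rw [conj_eq_comm]
      exact mul_mem (inv_mem (mem_sup_right (hES ⟨comm_mem_swap (hGG
        (commutator_mem_commutator hx.1 ha)), comm_mem_of_norm hx.2 ha⟩)))
          (mem_sup_left (mem_zpowers a))) fun e => haT (e (mem_sup_left (mem_zpowers a)))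
  have haG := h.S_le ha
  have ha' : g * a * g⁻¹ ∈ S ^ᶜ g := conj_mem_conj g ha
  have ha'T : g * a * g⁻¹ ∉ T := fun e => haT (conj_mem_conj_iff.1 ((h.conj_T hg).ge e))
  set a' := g * a * g⁻¹
  have hx : a * a' ∈ G := mul_mem haG (h.conj_S_le hg ha')
  obtain ⟨k, hk⟩ := exists_pow_coprime (p := 2) (isOfFinOrder_of_mem hx)
  set x := a * a' with hxdef
  have hxa : a * x * a⁻¹ * x ∈ T := by
    have e : a * x * a⁻¹ * x = a ^ 2 * a' ^ 2 := by rw [hxdef, sq, sq]; group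
    exact e ▸ mul_mem (h.pow a ha) ((h.conj_mem hg).pow a' ha')
  have hinv : ∀ n : ℕ, a ∈ N(zpowers (x ^ n) ⊔ T) := fun n => by
    haveI := finite_of_le (sup_le (zpowers_le.2 (pow_mem hx n)) h.T_le_G)
    refine mem_normalizer_of_conj_le ?_
    rw [conj_sup, h.conj_T haG, conj_zpowers]
    refine sup_le (zpowers_le.2 ?_) le_sup_right
    have ht : x * (a * x * a⁻¹ * x) * x⁻¹ ∈ T := conj_mem_of_norm (h.T_norm hx) hxa
    have := inv_pow_mul_pow_mem (h.T_norm (inv_mem hx)) ht n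
    rw [show x⁻¹ * (x * (a * x * a⁻¹ * x) * x⁻¹) = a * x * a⁻¹ by group, conj_pow, inv_pow] at this
    simpa only [inv_inv, inv_mul_cancel_left] using
      mul_mem (inv_mem (mem_sup_left (mem_zpowers (x ^ n)))) (mem_sup_right this)
  have hgen : ∀ K, a ∈ K → x ∈ K → T ≤ K → G ≤ K := fun K h₁ h₂ h₃ =>
    h.gen₂ hg hgM ha' ha'T (hS ▸ sup_le (zpowers_le.2 h₁) h₃)
      (by simpa only [hxdef, inv_mul_cancel_left] using mul_mem (inv_mem h₁) h₂)
  have hn : ∀ n : ℕ, G ≤ N(zpowers (x ^ n) ⊔ T) := fun n => hgen _ (hinv n)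
    (le_normalizer_sup (le_normalizer_of_le_centralizer (zpowers_le.2 (by
      rintro _ ⟨m, rfl⟩; exact ((Commute.refl x).pow_left n).zpow_left m)))
        ((zpowers_le.2 hx).trans h.T_norm) (mem_zpowers x)) (le_normalizer_of_le le_sup_right)
  have hEx : E ≤ zpowers (x ^ 2 ^ k) ⊔ T := by
    refine pResidualOf_le_of_pow_mem fun y hy => ⟨1 + k, ?_⟩
    have h₁ : y ^ 2 ∈ zpowers x ⊔ T := by
      have hy' := hgen (zpowers a ⊔ (zpowers (x ^ 1) ⊔ T)) (mem_sup_left (mem_zpowers a))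
        (mem_sup_right (mem_sup_left (by rw [pow_one]; exact mem_zpowers x)))
        (le_sup_right.trans le_sup_right) hy
      obtain ⟨_, ⟨m, rfl⟩, c, hc, rfl⟩ := (mem_sup_iff_of_le_normalizer
        ((zpowers_le.2 haG).trans (hn 1))).1 hy'
      have := inv_pow_mul_pow_mem (hn 1 (zpow_mem haG m)) hc 2
      have h₂ : (a ^ m) ^ 2 ∈ zpowers (x ^ 1) ⊔ T := mem_sup_right (h.pow _ (zpow_mem ha m))
      simpa only [mul_inv_cancel_left, pow_one] using mul_mem h₂ this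
    obtain ⟨_, ⟨m, rfl⟩, c, hc, e⟩ := (mem_sup_iff_of_le_normalizer
        ((zpowers_le.2 hx).trans h.T_norm)).1 h₁
    have := inv_pow_mul_pow_mem (h.T_norm (zpow_mem hx m)) hc (2 ^ k)
    have h₂ : (x ^ m) ^ 2 ^ k ∈ zpowers (x ^ 2 ^ k) := by
      rw [← zpow_natCast (x ^ m), ← zpow_mul, mul_comm, zpow_mul, zpow_natCast]
      exact zpow_mem_zpowers _ _
    rw [pow_add, pow_mul, pow_one, ← e]
    simpa only [mul_inv_cancel_left] using mul_mem (mem_sup_left h₂) (mem_sup_right this)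
  refine h.split (pow_mem hx _) hk (hn _) fun v hv e => ?_
  have hN : G ≤ N(V ⊓ rel Z(G) E) := le_normalizer_inf h.V_norm (le_norm_rel h.W_norm hGE)
  refine h.inf_cent_res ⟨hv, h.toRO.cent_res_of_le (inf_le_left.trans h.V_le) hN
    (commutator_comm E _ ▸ comm_le_of_le_rel inf_le_right) ⟨hv, mem_rel.2
      ⟨h.W_norm (h.V_le_G hv), fun y hy => comm_mem_swap (mem_stab.1 ((sup_le (zpowers_le.2
        (mem_stab.2 ⟨h.W_norm (pow_mem hx _), e⟩)) fun t ht => mem_stab.2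
          ⟨h.W_norm (h.T_le_G ht), ?_⟩ : _ ≤ stab Z(G) v) (hEx hy))).2⟩⟩⟩
  rw [comm_eq_one_of_cent (h.V_cent ht) hv]
  exact one_mem _

theorem comm_TS : ⁅T, S⁆ ≤ Z(S) ⊔ T ⊓ C(pResidualOf p G) := by
  have hn : S ≤ N(Z(S) ⊔ T ⊓ C(pResidualOf p G)) :=
    le_normalizer_sup (le_norm_center le_normalizer) (h.S_le.trans h.C_norm)
  by_cases hs : T ≤ V ⊔ T ⊓ C(pResidualOf p G)
  · rw [commutator_comm]
    refine (commutator_mono le_rfl hs).trans (commutator_sup_le (h.V_le_S.trans hn)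
      ((inf_le_left.trans h.T_le).trans hn) ?_ ?_)
    · rw [commutator_comm]; exact h.quad.trans le_sup_left
    · exact (commutator_le_right_of_le_normalizer (h.S_le.trans h.C_norm)).trans le_sup_right
  have hp2 : p = 2 := by_contra fun e => hs (h.split_odd e)
  have hS := h.inf_sup (le_normalizer_pResidualOf p G) fun e => hs (h.split_two hp2 e)
  refine (commutator_mono le_rfl hS.ge).trans (commutator_sup_le (inf_le_right.trans hn)
    (h.T_le.trans hn) (commutator_le.2 fun t ht a ha => ?_) (h.comm_TT.trans le_sup_right))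
  by_cases haT : a ∈ T
  · exact mem_sup_right (h.comm_TT (commutator_mem_commutator ht haT))
  have hv := h.one (commutator_mem_commutator ht ha.1)
  have h₁ := h.comm_TT (commutator_mem_commutator ht (h.pow a ha.2))
  have h₂ := h.pow_mem_W hv
  rw [hp2, sq] at h₁ h₂
  rw [comm_mul_right, ← hp2] at h₁
  have h₃ := h.mem_Z (mul_mem hv (conj_mem_of_norm (h.V_norm (h.S_le ha.2)) hv)) h₁
  refine mem_sup_left (h.key hv ha.2 haT ?_)
  rw [conj_eq_comm, h.V_comm hv _ (inv_mem (h.comm_mem_V hv (h.S_le ha.2))), ← mul_assoc] at h₃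
  simpa only [inv_mem_iff, inv_mul_cancel_left] using mul_mem (inv_mem h₂) h₃

theorem comm_SS (hA : MaxAb 0 S A) (hAT : ¬ A ≤ T) : ⁅S, S⁆ ≤ Z(S) ⊔ T ⊓ C(pResidualOf p G) := by
  have hn : S ≤ N(Z(S) ⊔ T ⊓ C(pResidualOf p G)) :=
    le_normalizer_sup (le_norm_center le_normalizer) (h.S_le.trans h.C_norm)
  have hS := (h.sup_maxAb hA hAT).ge
  refine (commutator_mono le_rfl hS).trans (commutator_sup_le (hA.le.trans hn) (h.T_le.trans hn) ?_
    (commutator_comm T S ▸ h.comm_TS))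
  rw [commutator_comm]
  refine (commutator_mono le_rfl hS).trans (commutator_sup_le (hA.le.trans hn) (h.T_le.trans hn)
    ((commutator_eq_bot_iff_le_centralizer'.2 hA.abExp.le_centralizer).trans_le bot_le) ?_)
  rw [commutator_comm]
  exact (commutator_mono le_rfl hA.le).trans h.comm_TS

theorem comm_Phi (hA : MaxAb 0 S A) (hAT : ¬ A ≤ T) : ⁅Phi S, S⁆ ≤ T ⊓ C(pResidualOf p G) := by
  haveI := h.finS
  haveI := h.finT
  have hn := h.S_le.trans h.C_norm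
  have h₁ : Z(S) ⊔ T ⊓ C(pResidualOf p G) ≤ rel (T ⊓ C(pResidualOf p G)) S := sup_le
    (le_rel_iff.2 ⟨inf_le_left.trans hn,
      (commutator_eq_bot_iff_le_centralizer'.2 inf_le_right).trans_le bot_le⟩)
    (le_rel_iff.2 ⟨le_normalizer, commutator_le_right_of_le_normalizer hn⟩)
  rw [commutator_comm]
  refine comm_le_of_le_rel (Phi_le_of (p := p) ((h.comm_SS hA hAT).trans h₁) fun s hs => mem_rel.2
    ⟨hn (pow_mem hs p), fun t ht => ?_⟩)
  obtain ⟨z, hz, c, hc, e⟩ := (mem_sup_iff_of_le_normalizer (inf_le_left.trans hn)).1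
    (h.comm_SS hA hAT (commutator_mem_commutator ht hs))
  have e₁ : ⁅t, s ^ p⁆ = (z * (c * s)) ^ p * (s ^ p)⁻¹ := by
    rw [← mul_assoc, e, show ⁅t, s⁆ * s = t * s * t⁻¹ by rw [commutatorElement_def]; group, conj_pow,
      commutatorElement_def]
  rw [e₁, Commute.mul_pow (hz.2 _ (mul_mem (h.T_le hc.1) hs)).symm, mul_assoc]
  refine mul_mem (h.Z_le (h.pow_mem_W (h.Y_le hz))) ?_
  have := conj_mem_of_norm (hn (pow_mem hs p))
    (inv_pow_mul_pow_mem (hn hs) (conj_mem_of_norm (hn (inv_mem hs)) hc) p)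
  simpa only [mul_assoc, inv_inv, mul_inv_cancel_left] using this

theorem pow_mul_mem (hp2 : p ≠ 2) {s t : H} (hs : s ∈ S) (ht : t ∈ T) :
    (s ^ p)⁻¹ * (s * t) ^ p ∈ T ⊓ C(pResidualOf p G) := by
  obtain ⟨v, hv, c, hc, rfl⟩ := (mem_sup_iff_of_le_normalizer (h.V_le_G.trans h.C_norm)).1
    (h.split_odd hp2 ht)
  have h₁ := inv_pow_mul_pow_mem (h.C_norm (mul_mem (h.S_le hs) (h.V_le_G hv))) hc p
  have hz := h.comm_mem hv hs
  have h₂ := mul_pow_of_commutator_comm (hz.2 s hs) (hz.2 v (h.V_le_S hv)) p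
  obtain ⟨m, hm⟩ : p ∣ p.choose 2 := hp.out.dvd_choose_self two_ne_zero
    (lt_of_le_of_ne hp.out.two_le (Ne.symm hp2))
  rw [hm, pow_mul, h.comm_pow_p hv hs, one_pow, one_mul] at h₂
  rw [h₂] at h₁
  simpa only [mul_inv_rev, mul_assoc, mul_inv_cancel_left] using
    mul_mem (h.Z_le (h.pow_mem_W hv)) h₁

theorem pow_mem_C (hp2 : p ≠ 2) {s : H} (hs : s ∈ S) : s ^ p ∈ T ⊓ C(pResidualOf p G) := by
  obtain ⟨c, hc, -, hi⟩ := h.exists_inv' hp2
  obtain ⟨v, hv, d, hd, e⟩ := (mem_sup_iff_of_le_normalizer (h.V_le_G.trans h.C_norm)).1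
    (h.split_odd hp2 (h.pow s hs))
  have h₁ := h.pow_mul_mem hp2 hs (h.comm_inv_mem hc hi (inv_mem (h.S_le hs)))
  have h₂ := h.pow_mul_mem hp2 (inv_mem hs) (one_mem T)
  rw [show s * ⁅s⁻¹, c⁆ = c * s * c⁻¹ by rw [commutatorElement_def]; group, conj_pow, ← e] at h₁
  have h₃ : v⁻¹ * (c * v * c⁻¹) ∈ T ⊓ C(pResidualOf p G) := by
    have := mul_mem (mul_mem hd h₁) (inv_mem (conj_mem_of_norm (h.C_norm hc) hd))
    simpa only [mul_inv_rev, mul_assoc, mul_inv_cancel_left, inv_inv, inv_mul_cancel_left,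
      mul_inv_cancel, mul_one] using this
  have h₄ := h.mem_Z (mul_mem (inv_mem hv) (conj_mem_of_norm (h.V_norm hc) hv)) h₃
  have h₅ : v * v ∈ Z(G) := by
    have := mul_mem (inv_mem h₄) (hi v hv)
    rwa [mul_inv_rev, inv_inv, ← h.V_comm (inv_mem (conj_mem_of_norm (h.V_norm hc) hv)) v hv,
      mul_assoc, inv_mul_cancel_left] at this
  exact e ▸ mul_mem (h.Z_le (h.mem_W_of_sq hp2 hv h₅)) hd

theorem C_inf : T ⊓ C(pResidualOf p G) ⊓ Z(S) ≤ Z(G) := fun _ hv => h.mem_Z (h.Y_le hv.2) hv.1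

end One

end Cfsg.Agent.Lib.PushBase
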