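import Cfsg.Agent.Lib.BlkBase
import Cfsg.Agent.Lib.PushOne

/-! Sections `U / U₀` with coordinates in an additive group, and the action of the normalizer. -/

set_option autoImplicit false
open Cfsg

namespace Cfsg.Agent.Lib.Blk

open Subgroup Cfsg.Agent.Lib.PCoreConj Cfsg.Agent.Lib.PCore Cfsg.Agent.Lib.PCoreResidual Cfsg.Agent.Lib.PCoreMod
open Cfsg.Agent.Lib.ThompsonJ Cfsg.Agent.Lib.PushBase
open scoped Pointwise commutatorElement

/-- Automorphisms of an additive group, as a multiplicative group. -/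
abbrev AutM (M : Type*) [AddCommGroup M] := M ≃ₗ[ℤ] M

section Aut
variable {M : Type*} [AddCommGroup M] {p : ℕ}

instance finite_autM [Finite M] : Finite (AutM M) :=
  Finite.of_injective (fun r : AutM M => (r : M → M)) DFunLike.coe_injective

theorem aut_mul (r s : AutM M) (m : M) : (r * s) m = r (s m) := rfl

theorem aut_one (m : M) : (1 : AutM M) m = m := rfl

theorem aut_inv_apply (r : AutM M) (m : M) : r⁻¹ (r m) = m := by rw [← aut_mul, inv_mul_cancel, aut_one]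

theorem aut_apply_inv (r : AutM M) (m : M) : r (r⁻¹ m) = m := by rw [← aut_mul, mul_inv_cancel, aut_one]

theorem aut_ext {r s : AutM M} (h : ∀ m, r m = s m) : r = s := LinearEquiv.ext h

/-- The automorphism `-1`. -/
def negA (M : Type*) [AddCommGroup M] : AutM M := LinearEquiv.neg ℤ

@[simp] theorem negA_apply (m : M) : negA M m = -m := rfl

theorem negA_comm (r : AutM M) : r * negA M = negA M * r := aut_ext fun m => by simp [aut_mul]

/-- Common fixed vectors. -/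
def fixM (A : Subgroup (AutM M)) : AddSubgroup M where
  carrier := {m | ∀ r ∈ A, r m = m}
  zero_mem' r _ := map_zero r
  add_mem' ha hb r hr := by rw [map_add, ha r hr, hb r hr]
  neg_mem' ha r hr := by rw [map_neg, ha r hr]

theorem mem_fixM {A : Subgroup (AutM M)} {m : M} : m ∈ fixM A ↔ ∀ r ∈ A, r m = m := Iff.rfl

theorem fixM_anti {A B : Subgroup (AutM M)} (h : A ≤ B) : fixM B ≤ fixM A := fun _ hm r hr => hm r (h hr)

/-- The stabilizer of a vector. -/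
def stabM (m : M) : Subgroup (AutM M) where
  carrier := {r | r m = m}
  one_mem' := rfl
  mul_mem' {a b} ha hb := by
    change a (b m) = m
    rw [show b m = m from hb, show a m = m from ha]
  inv_mem' {a} ha := by
    change a⁻¹ m = m
    conv_lhs => rw [← show a m = m from ha]
    exact aut_inv_apply a m

theorem mem_stabM {m : M} {r : AutM M} : r ∈ stabM m ↔ r m = m := Iff.rfl

theorem exists_fixed [hp : Fact p.Prime] [Finite M] {A : Subgroup (AutM M)} (hA : IsPGroup p A) (X : AddSubgroup M)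
    (hX : ∀ r ∈ A, ∀ m ∈ X, r m ∈ X) (ht : ∀ m ∈ X, p • m = 0) (hne : X ≠ ⊥) :
    ∃ m ∈ X, m ≠ 0 ∧ m ∈ fixM A := by
  letI : MulAction A X :=
    { smul := fun r m => ⟨(r : AutM M) m, hX _ r.2 _ m.2⟩
      one_smul := fun _ => rfl
      mul_smul := fun _ _ _ => rfl }
  have hd : p ∣ Nat.card X := by
    obtain ⟨m, hm, h0⟩ := (AddSubgroup.bot_or_exists_ne_zero X).resolve_left hne
    have : addOrderOf (⟨m, hm⟩ : X) = p := addOrderOf_eq_prime (Subtype.ext (ht m hm))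
      (fun e => h0 (congrArg Subtype.val e))
    exact this ▸ addOrderOf_dvd_natCard _
  obtain ⟨b, hb, hb0⟩ := hA.exists_fixed_point_of_prime_dvd_card_of_fixed_point X hd
    (a := ⟨0, X.zero_mem⟩) (fun r => Subtype.ext (map_zero (r : AutM M)))
  exact ⟨b, b.2, fun e => hb0 (Subtype.ext e.symm), fun r hr => congrArg Subtype.val (hb ⟨r, hr⟩)⟩

end Aut

variable {G : Type*} [Group G] {M : Type*} [AddCommGroup M] {p : ℕ}

/-- Coordinates on the section `U / U₀`. -/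
structure Sect (M : Type*) [AddCommGroup M] (U U₀ : Subgroup G) where
  /-- the coordinate map -/
  ψ : G → M
  le : U₀ ≤ U
  add : ∀ u ∈ U, ∀ v ∈ U, ψ (u * v) = ψ u + ψ v
  onto : ∀ m, ∃ u ∈ U, ψ u = m
  ker : ∀ u ∈ U, ψ u = 0 ↔ u ∈ U₀

/-- The common normalizer. -/
abbrev NN (U U₀ : Subgroup G) : Subgroup G := N(U) ⊓ N(U₀)

namespace Sect
variable {U U₀ X Y : Subgroup G} (s : Sect M U U₀) {u v g h : G}

theorem one : s.ψ 1 = 0 := (s.ker 1 U.one_mem).2 U₀.one_mem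

theorem inv (hu : u ∈ U) : s.ψ u⁻¹ = -s.ψ u := by
  rw [eq_neg_iff_add_eq_zero, ← s.add _ (U.inv_mem hu) _ hu, inv_mul_cancel, s.one]

theorem eq_iff (hu : u ∈ U) (hv : v ∈ U) : s.ψ u = s.ψ v ↔ u⁻¹ * v ∈ U₀ := by
  rw [← s.ker _ (U.mul_mem (U.inv_mem hu) hv), s.add _ (U.inv_mem hu) _ hv, s.inv hu, neg_add_eq_zero]

theorem eq_iff' (hu : u ∈ U) (hv : v ∈ U) : s.ψ u = s.ψ v ↔ u * v⁻¹ ∈ U₀ := by
  rw [← s.ker _ (U.mul_mem hu (U.inv_mem hv)), s.add _ hu _ (U.inv_mem hv), s.inv hv, add_neg_eq_zero]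

theorem zero (hu : u ∈ U₀) : s.ψ u = 0 := (s.ker u (s.le hu)).2 hu

theorem pow (hu : u ∈ U) (n : ℕ) : s.ψ (u ^ n) = n • s.ψ u := by
  induction n with
  | zero => simp [s.one]
  | succ n ih => rw [pow_succ, s.add _ (U.pow_mem hu n) _ hu, ih, succ_nsmul]

/-- The coordinate homomorphism. -/
def hom : U →* Multiplicative M where
  toFun u := Multiplicative.ofAdd (s.ψ u)
  map_one' := by simp [s.one]
  map_mul' a b := by simp [s.add _ a.2 _ b.2]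

include s in
theorem U_le_NN : U ≤ NN U U₀ := le_inf le_normalizer (le_normalizer_iff_conj_le.2 fun g hg => conj_le_iff.2 fun x hx => by
  rw [← s.ker _ (U.mul_mem (U.mul_mem hg (s.le hx)) (U.inv_mem hg)), s.add _ (U.mul_mem hg (s.le hx)) _ (U.inv_mem hg),
    s.add _ hg _ (s.le hx), s.inv hg, s.zero hx]
  simp)

/-- A section of the coordinate map. -/
noncomputable def σ (m : M) : G := (s.onto m).choose

theorem σ_mem (m : M) : s.σ m ∈ U := (s.onto m).choose_spec.1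

theorem ψ_σ (m : M) : s.ψ (s.σ m) = m := (s.onto m).choose_spec.2

theorem conj_congr (hg : g ∈ NN U U₀) (hu : u ∈ U) (hv : v ∈ U) (e : s.ψ u = s.ψ v) :
    s.ψ (g * u * g⁻¹) = s.ψ (g * v * g⁻¹) := by
  rw [s.eq_iff (conj_mem_of_norm hg.1 hu) (conj_mem_of_norm hg.1 hv)]
  have := conj_mem_of_norm hg.2 ((s.eq_iff hu hv).1 e)
  convert this using 1
  group

private noncomputable def θf (g : G) (m : M) : M := s.ψ (g * s.σ m * g⁻¹)

private theorem θf_ψ (hg : g ∈ NN U U₀) (hu : u ∈ U) : s.θf g (s.ψ u) = s.ψ (g * u * g⁻¹) :=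
  s.conj_congr hg (s.σ_mem _) hu (s.ψ_σ _)

private theorem θf_mul (hg : g ∈ NN U U₀) (hh : h ∈ NN U U₀) (m : M) : s.θf (g * h) m = s.θf g (s.θf h m) := by
  rw [θf, θf.eq_def s h, s.θf_ψ hg (conj_mem_of_norm hh.1 (s.σ_mem m))]
  congr 1
  group

private theorem θf_one (m : M) : s.θf 1 m = m := by simp [θf, s.ψ_σ]

private theorem θf_add (hg : g ∈ NN U U₀) (m n : M) : s.θf g (m + n) = s.θf g m + s.θf g n := by
  obtain ⟨u, hu, rfl⟩ := s.onto m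
  obtain ⟨v, hv, rfl⟩ := s.onto n
  rw [← s.add u hu v hv, s.θf_ψ hg (U.mul_mem hu hv), s.θf_ψ hg hu, s.θf_ψ hg hv,
    ← s.add _ (conj_mem_of_norm hg.1 hu) _ (conj_mem_of_norm hg.1 hv)]
  congr 1
  group

private noncomputable def θe (g : NN U U₀) : AutM M :=
  AddEquiv.toIntLinearEquiv
    { toFun := s.θf g
      invFun := s.θf (g : G)⁻¹
      left_inv := fun m => by rw [← s.θf_mul (inv_mem g.2) g.2, inv_mul_cancel, θf_one]
      right_inv := fun m => by rw [← s.θf_mul g.2 (inv_mem g.2), mul_inv_cancel, θf_one]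
      map_add' := s.θf_add g.2 }

/-- The action of the normalizer. -/
noncomputable def θh : NN U U₀ →* AutM M where
  toFun := s.θe
  map_one' := aut_ext fun m => s.θf_one m
  map_mul' a b := aut_ext fun m => s.θf_mul a.2 b.2 m

open Classical in
/-- The action of an element (trivial outside the normalizer). -/
noncomputable def θ (g : G) : AutM M := if h : g ∈ NN U U₀ then s.θh ⟨g, h⟩ else 1

theorem θ_eq (hg : g ∈ NN U U₀) : s.θ g = s.θh ⟨g, hg⟩ := dif_pos hg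

theorem θh_eq (g : NN U U₀) : s.θh g = s.θ g := (s.θ_eq g.2).symm

theorem θ_ψ (hg : g ∈ NN U U₀) (hu : u ∈ U) : s.θ g (s.ψ u) = s.ψ (g * u * g⁻¹) := by
  rw [s.θ_eq hg]
  exact s.θf_ψ hg hu

theorem θ_mul (hg : g ∈ NN U U₀) (hh : h ∈ NN U U₀) : s.θ (g * h) = s.θ g * s.θ h := by
  rw [s.θ_eq hg, s.θ_eq hh, s.θ_eq (mul_mem hg hh), ← map_mul]
  rfl

theorem θ_one : s.θ 1 = 1 := by
  rw [s.θ_eq (one_mem _)]
  exact map_one s.θh

theorem θ_inv (hg : g ∈ NN U U₀) : s.θ g⁻¹ = (s.θ g)⁻¹ := by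
  rw [s.θ_eq hg, s.θ_eq (inv_mem hg), ← map_inv]
  rfl

theorem θ_pow (hg : g ∈ NN U U₀) (n : ℕ) : s.θ (g ^ n) = s.θ g ^ n := by
  rw [s.θ_eq hg, s.θ_eq (pow_mem hg n), ← map_pow]
  rfl

theorem θ_conj (hg : g ∈ NN U U₀) (hh : h ∈ NN U U₀) : s.θ (g * h * g⁻¹) = s.θ g * s.θ h * (s.θ g)⁻¹ := by
  rw [s.θ_mul (mul_mem hg hh) (inv_mem hg), s.θ_mul hg hh, s.θ_inv hg]

theorem θ_comm (hg : g ∈ NN U U₀) (hh : h ∈ NN U U₀) : s.θ ⁅g, h⁆ = ⁅s.θ g, s.θ h⁆ := by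
  rw [commutatorElement_def, commutatorElement_def, s.θ_mul (mul_mem (mul_mem hg hh) (inv_mem hg)) (inv_mem hh),
    s.θ_conj hg hh, s.θ_inv hh]

theorem eq_θ (hg : g ∈ NN U U₀) {r : AutM M} (h : ∀ u ∈ U, s.ψ (g * u * g⁻¹) = r (s.ψ u)) : s.θ g = r :=
  aut_ext fun m => by
    obtain ⟨u, hu, rfl⟩ := s.onto m
    rw [s.θ_ψ hg hu, h u hu]

theorem ψ_comm (hg : g ∈ NN U U₀) (hu : u ∈ U) : s.ψ ⁅u, g⁆ = s.ψ u - s.θ g (s.ψ u) := by
  have e : ⁅u, g⁆ = u * (g * u * g⁻¹)⁻¹ := by rw [commutatorElement_def]; group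
  rw [e, s.add _ hu _ (inv_mem (conj_mem_of_norm hg.1 hu)), s.inv (conj_mem_of_norm hg.1 hu), s.θ_ψ hg hu,
    sub_eq_add_neg]

theorem fix_iff (hg : g ∈ NN U U₀) (hu : u ∈ U) : s.θ g (s.ψ u) = s.ψ u ↔ ⁅u, g⁆ ∈ U₀ := by
  rw [← s.ker _ (comm_mem_of_norm hg.1 hu), s.ψ_comm hg hu, sub_eq_zero, eq_comm]

theorem θ_eq_one_iff (hg : g ∈ NN U U₀) : s.θ g = 1 ↔ ∀ u ∈ U, ⁅u, g⁆ ∈ U₀ := by
  refine ⟨fun h u hu => (s.fix_iff hg hu).1 (by rw [h, aut_one]), fun h => aut_ext fun m => ?_⟩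
  obtain ⟨u, hu, rfl⟩ := s.onto m
  exact (s.fix_iff hg hu).2 (h u hu)

theorem θ_eq_one_iff' (hg : g ∈ NN U U₀) : s.θ g = 1 ↔ g ∈ rel U₀ U := by
  rw [s.θ_eq_one_iff hg, mem_rel]
  exact ⟨fun h => ⟨hg.2, h⟩, fun h => h.2⟩

theorem θ_eq_iff (hg : g ∈ NN U U₀) (hh : h ∈ NN U U₀) : s.θ g = s.θ h ↔ g⁻¹ * h ∈ rel U₀ U := by
  rw [← s.θ_eq_one_iff' (mul_mem (inv_mem hg) hh), s.θ_mul (inv_mem hg) hh, s.θ_inv hg, inv_mul_eq_one]

theorem θ_of_cent (hg : g ∈ C(U)) : s.θ g = 1 := by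
  have h : g ∈ NN U U₀ := ⟨centralizer_le_normalizer _ hg, centralizer_le_normalizer _ (centralizer_anti s.le hg)⟩
  exact (s.θ_eq_one_iff h).2 fun u hu => by rw [comm_eq_one_of_cent hg hu]; exact one_mem _

include s in
theorem comm_UU : ⁅U, U⁆ ≤ U₀ := commutator_le.2 fun u hu v hv => by
  rw [← s.ker _ (comm_mem_of_norm (le_normalizer hv) hu), commutatorElement_def,
    s.add _ (mul_mem (mul_mem hu hv) (inv_mem hu)) _ (inv_mem hv), s.add _ (mul_mem hu hv) _ (inv_mem hu),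
    s.add _ hu _ hv, s.inv hu, s.inv hv]
  abel

theorem θ_of_mem (hu : u ∈ U) : s.θ u = 1 :=
  (s.θ_eq_one_iff (s.U_le_NN hu)).2 fun _ hv => s.comm_UU (commutator_mem_commutator hv hu)

include s in
theorem rel_le_NN : rel U₀ U ≤ NN U U₀ := fun g hg => ⟨by
  have h : zpowers g ≤ rel U₀ U := (zpowers_le_of_mem hg)
  exact le_normalizer_of_commutator_le ((comm_le_of_le_rel h).trans s.le) (mem_zpowers g), (mem_rel.1 hg).1⟩

/-- The group induced on the section. -/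
noncomputable def im (X : Subgroup G) : Subgroup (AutM M) := (X.subgroupOf (NN U U₀)).map s.θh

theorem mem_im {r : AutM M} : r ∈ s.im X ↔ ∃ x ∈ X, x ∈ NN U U₀ ∧ s.θ x = r :=
  ⟨fun ⟨x, hx, e⟩ => ⟨x, hx, x.2, (s.θh_eq x).symm.trans e⟩,
    fun ⟨x, hx, h, e⟩ => ⟨⟨x, h⟩, hx, (s.θ_eq h).symm.trans e⟩⟩

theorem mem_im' (hX : X ≤ NN U U₀) {r : AutM M} : r ∈ s.im X ↔ ∃ x ∈ X, s.θ x = r :=
  s.mem_im.trans ⟨fun ⟨x, hx, _, e⟩ => ⟨x, hx, e⟩, fun ⟨x, hx, e⟩ => ⟨x, hx, hX hx, e⟩⟩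

theorem θ_mem (hg : g ∈ X) : s.θ g ∈ s.im X := by
  by_cases h : g ∈ NN U U₀
  · exact s.mem_im.2 ⟨g, hg, h, rfl⟩
  · rw [θ, dif_neg h]
    exact one_mem _

theorem im_le_iff {R : Subgroup (AutM M)} : s.im X ≤ R ↔ ∀ x ∈ X, s.θ x ∈ R :=
  ⟨fun h _ hx => h (s.θ_mem hx), fun h _ hr => by
    obtain ⟨x, hx, -, rfl⟩ := s.mem_im.1 hr
    exact h x hx⟩

theorem im_mono (h : X ≤ Y) : s.im X ≤ s.im Y := s.im_le_iff.2 fun _ hx => s.θ_mem (h hx)

theorem im_eq_bot_iff (hX : X ≤ NN U U₀) : s.im X = ⊥ ↔ X ≤ rel U₀ U := by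
  rw [eq_bot_iff, s.im_le_iff]
  exact forall₂_congr fun x hx => by rw [mem_bot, s.θ_eq_one_iff' (hX hx)]

theorem im_eq_bot_iff' (hX : X ≤ NN U U₀) : s.im X = ⊥ ↔ ⁅U, X⁆ ≤ U₀ := by
  rw [s.im_eq_bot_iff hX, le_rel_iff]
  exact ⟨fun h => h.2, fun h => ⟨hX.trans inf_le_right, h⟩⟩

theorem im_sup (hX : X ≤ NN U U₀) (hY : Y ≤ NN U U₀) : s.im (X ⊔ Y) = s.im X ⊔ s.im Y := by
  rw [im, subgroupOf_sup hX hY, Subgroup.map_sup, im, im]

theorem im_iSup {ι : Sort*} {X : ι → Subgroup G} (hX : ∀ i, X i ≤ NN U U₀) : s.im (⨆ i, X i) = ⨆ i, s.im (X i) := by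
  refine le_antisymm (s.im_le_iff.2 fun x hx => ?_) (iSup_le fun i => s.im_mono (le_iSup X i))
  have : x ∈ NN U U₀ ∧ s.θ x ∈ ⨆ i, s.im (X i) := by
    refine iSup_induction X (C := fun x => x ∈ NN U U₀ ∧ s.θ x ∈ ⨆ i, s.im (X i)) hx (fun i x hx => ⟨hX i hx,
      mem_iSup_of_mem i (s.θ_mem hx)⟩) ⟨one_mem _, s.θ_one ▸ one_mem _⟩ fun a b ha hb =>
        ⟨mul_mem ha.1 hb.1, s.θ_mul ha.1 hb.1 ▸ mul_mem ha.2 hb.2⟩
  exact this.2

theorem im_comm (hX : X ≤ NN U U₀) (hY : Y ≤ NN U U₀) : s.im ⁅X, Y⁆ = ⁅s.im X, s.im Y⁆ := by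
  have : ⁅X, Y⁆.subgroupOf (NN U U₀) = ⁅X.subgroupOf (NN U U₀), Y.subgroupOf (NN U U₀)⁆ := by
    conv_lhs => rw [← subgroupOf_map_subtype_of_le hX, ← subgroupOf_map_subtype_of_le hY, ← map_commutator,
      map_subtype_subgroupOf]
  rw [im, this, map_commutator, im, im]

theorem im_conj (hg : g ∈ NN U U₀) : s.im (X ^ᶜ g) = (s.im X) ^ᶜ (s.θ g) := by
  rw [im, im, s.θ_eq hg, ← map_conj, conj_subgroupOf]

theorem im_le_norm (h : X ≤ N(Y)) : s.im X ≤ N(s.im Y) := le_normalizer_map _ (le_normalizer_subgroupOf h _)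

theorem θ_mem_norm (h : g ∈ N(Y)) : s.θ g ∈ N(s.im Y) :=
  s.im_le_norm (zpowers_le_of_mem h) (s.θ_mem (mem_zpowers g))

theorem im_isPGroup (h : IsPGroup p X) : IsPGroup p (s.im X) := (isPGroup_subgroupOf h _).map _

theorem im_elem (h : IsElementaryAbelian p X) : IsElementaryAbelian p (s.im X) :=
  isElementaryAbelian_map (isElementaryAbelian_subgroupOf h _) _

theorem im_res [Fact p.Prime] [Finite X] (hX : X ≤ NN U U₀) : s.im (pResidualOf p X) = pResidualOf p (s.im X) := by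
  haveI : Finite (X.subgroupOf (NN U U₀)) := Finite.of_equiv _ (subgroupOfEquivOfLe hX).toEquiv.symm
  rw [im, im, ← map_pResidualOf]
  congr 1
  conv_lhs => rw [← map_pResidualOf_subgroupOf hX, map_subtype_subgroupOf]

theorem card_eq_im (hX : X ≤ NN U U₀) : Nat.card X = Nat.card (s.im X) * Nat.card ↥(X ⊓ rel U₀ U) := by
  rw [← Nat.card_congr (subgroupOfEquivOfLe hX).toEquiv, card_eq_card_map_mul s.θh, im]
  congr 1
  rw [← Nat.card_congr (subgroupOfEquivOfLe (inf_le_left.trans hX : X ⊓ rel U₀ U ≤ _)).toEquiv]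
  congr 2
  ext x
  rw [mem_inf, mem_subgroupOf, mem_subgroupOf, mem_inf, MonoidHom.mem_ker, s.θh_eq, s.θ_eq_one_iff' x.2]

theorem le_sup_of_im_le (hX : X ≤ NN U U₀) (hY : Y ≤ NN U U₀) (h : s.im X ≤ s.im Y) : X ≤ Y ⊔ rel U₀ U := fun x hx => by
  obtain ⟨y, hy, e⟩ := (s.mem_im' hY).1 (h (s.θ_mem hx))
  have := mul_mem_sup hy ((s.θ_eq_iff (hY hy) (hX hx)).1 e)
  rwa [mul_inv_cancel_left] at this

/-- The preimage of an additive subgroup. -/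
def pre (A : AddSubgroup M) : Subgroup G where
  carrier := {u | u ∈ U ∧ s.ψ u ∈ A}
  one_mem' := ⟨one_mem _, s.one ▸ A.zero_mem⟩
  mul_mem' ha hb := ⟨mul_mem ha.1 hb.1, s.add _ ha.1 _ hb.1 ▸ A.add_mem ha.2 hb.2⟩
  inv_mem' ha := ⟨inv_mem ha.1, s.inv ha.1 ▸ A.neg_mem ha.2⟩

theorem mem_pre {A : AddSubgroup M} : u ∈ s.pre A ↔ u ∈ U ∧ s.ψ u ∈ A := Iff.rfl

theorem pre_le (A : AddSubgroup M) : s.pre A ≤ U := fun _ h => h.1

theorem le_pre (A : AddSubgroup M) : U₀ ≤ s.pre A := fun _ h => ⟨s.le h, s.zero h ▸ A.zero_mem⟩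

/-- The image of a subgroup. -/
def img (Y : Subgroup G) : AddSubgroup M where
  carrier := {m | ∃ u ∈ Y, u ∈ U ∧ s.ψ u = m}
  zero_mem' := ⟨1, one_mem _, one_mem _, s.one⟩
  add_mem' := by
    rintro _ _ ⟨a, ha, ha', rfl⟩ ⟨b, hb, hb', rfl⟩
    exact ⟨a * b, mul_mem ha hb, mul_mem ha' hb', s.add _ ha' _ hb'⟩
  neg_mem' := by
    rintro _ ⟨a, ha, ha', rfl⟩
    exact ⟨a⁻¹, inv_mem ha, inv_mem ha', s.inv ha'⟩

theorem mem_img {m : M} : m ∈ s.img Y ↔ ∃ u ∈ Y, u ∈ U ∧ s.ψ u = m := Iff.rfl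

theorem ψ_mem_img (hu : u ∈ Y) (h : u ∈ U) : s.ψ u ∈ s.img Y := ⟨u, hu, h, rfl⟩

theorem img_mono (h : X ≤ Y) : s.img X ≤ s.img Y := fun _ ⟨u, hu, h'⟩ => ⟨u, h hu, h'⟩

theorem img_pre (A : AddSubgroup M) : s.img (s.pre A) = A := by
  ext m
  refine ⟨fun ⟨u, hu, _, e⟩ => e ▸ hu.2, fun hm => ?_⟩
  obtain ⟨u, hu, rfl⟩ := s.onto m
  exact ⟨u, ⟨hu, hm⟩, hu, rfl⟩

theorem img_U : s.img U = ⊤ := eq_top_iff.2 fun m _ => by
  obtain ⟨u, hu, rfl⟩ := s.onto m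
  exact s.ψ_mem_img hu hu

theorem img_eq_bot_iff (hY : Y ≤ U) : s.img Y = ⊥ ↔ Y ≤ U₀ := by
  rw [eq_bot_iff]
  exact ⟨fun h u hu => (s.ker u (hY hu)).1 (h (s.ψ_mem_img hu (hY hu))), fun h _ ⟨u, hu, _, e⟩ => e ▸ s.zero (h hu)⟩

theorem le_sup_of_img_le (hX : X ≤ U) (h : s.img X ≤ s.img Y) : X ≤ Y ⊔ U₀ := fun x hx => by
  obtain ⟨y, hy, hy', e⟩ := h (s.ψ_mem_img hx (hX hx))
  have := mul_mem_sup hy ((s.eq_iff hy' (hX hx)).1 e)
  rwa [mul_inv_cancel_left] at this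

theorem le_sup_of_img_eq_top (h : s.img Y = ⊤) : U ≤ Y ⊔ U₀ := s.le_sup_of_img_le le_rfl (h ▸ le_top)

theorem img_eq_top_of_le (hY : Y ≤ U) (h : U ≤ Y ⊔ U₀) : s.img Y = ⊤ := eq_top_iff.2 fun m _ => by
  obtain ⟨u, hu, rfl⟩ := s.onto m
  obtain ⟨a, ha, b, hb, rfl⟩ := (mem_sup_iff_of_le_normalizer (hY.trans (s.U_le_NN.trans inf_le_right))).1 (h hu)
  rw [s.add _ (hY ha) _ (s.le hb), s.zero hb, add_zero]
  exact s.ψ_mem_img ha (hY ha)

theorem θ_img (hg : g ∈ N(Y)) {m : M} (hm : m ∈ s.img Y) : s.θ g m ∈ s.img Y := by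
  by_cases h : g ∈ NN U U₀
  · obtain ⟨u, hu, hu', rfl⟩ := hm
    rw [s.θ_ψ h hu']
    exact s.ψ_mem_img (conj_mem_of_norm hg hu) (conj_mem_of_norm h.1 hu')
  · rwa [θ, dif_neg h]

theorem im_img (h : X ≤ N(Y)) : ∀ r ∈ s.im X, ∀ m ∈ s.img Y, r m ∈ s.img Y := fun r hr m hm => by
  obtain ⟨x, hx, -, rfl⟩ := s.mem_im.1 hr
  exact s.θ_img (h hx) hm

theorem norm_pre {A : AddSubgroup M} (hX : X ≤ NN U U₀) (h : ∀ x ∈ X, ∀ m ∈ A, s.θ x m ∈ A) : X ≤ N(s.pre A) :=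
  le_normalizer_iff_conj_le.2 fun g hg => conj_le_iff.2 fun u hu =>
    ⟨conj_mem_of_norm (hX hg).1 hu.1, s.θ_ψ (hX hg) hu.1 ▸ h g hg _ hu.2⟩

theorem card_eq_img (hY : Y ≤ U) : Nat.card Y = Nat.card (s.img Y) * Nat.card ↥(Y ⊓ U₀) := by
  rw [← Nat.card_congr (subgroupOfEquivOfLe hY).toEquiv, card_eq_card_map_mul s.hom]
  congr 1
  · refine Nat.card_congr (Equiv.subtypeEquiv Multiplicative.toAdd fun m => ?_)
    exact ⟨fun ⟨u, hu, e⟩ => ⟨u, hu, u.2, congrArg Multiplicative.toAdd e⟩,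
      fun ⟨u, hu, h, e⟩ => ⟨⟨u, h⟩, hu, congrArg Multiplicative.ofAdd e⟩⟩
  · rw [← Nat.card_congr (subgroupOfEquivOfLe (inf_le_left.trans hY : Y ⊓ U₀ ≤ _)).toEquiv]
    congr 2
    ext x
    rw [mem_inf, mem_subgroupOf, mem_subgroupOf, mem_inf, MonoidHom.mem_ker, ← s.ker _ x.2]
    rfl

include s in
theorem card_U : Nat.card U = Nat.card M * Nat.card U₀ := by
  rw [s.card_eq_img le_rfl, s.img_U, inf_eq_right.2 s.le, AddSubgroup.card_top]

theorem card_pre (A : AddSubgroup M) : Nat.card (s.pre A) = Nat.card A * Nat.card U₀ := by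
  rw [s.card_eq_img (s.pre_le A), s.img_pre, inf_eq_right.2 (s.le_pre A)]

theorem relIndex_eq [Finite U] (hY : Y ≤ U) : U₀.relIndex Y = Nat.card (s.img Y) := by
  haveI : Finite Y := finite_of_le hY
  haveI : Finite ↥(Y ⊓ U₀) := finite_of_le (inf_le_left : _ ≤ Y)
  have := card_inf_mul_relIndex U₀ Y
  rw [s.card_eq_img hY, inf_comm, mul_comm] at this
  exact Nat.eq_of_mul_eq_mul_right Nat.card_pos this

include s in
theorem finite_M [Finite U] : Finite M :=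
  Finite.of_surjective (fun u : U => s.ψ u) fun m => by
    obtain ⟨u, hu, rfl⟩ := s.onto m
    exact ⟨⟨u, hu⟩, rfl⟩

theorem mem_fix_iff (hX : X ≤ NN U U₀) (hu : u ∈ U) : s.ψ u ∈ fixM (s.im X) ↔ ∀ x ∈ X, ⁅u, x⁆ ∈ U₀ := by
  refine ⟨fun h x hx => (s.fix_iff (hX hx) hu).1 (h _ (s.θ_mem hx)), fun h r hr => ?_⟩
  obtain ⟨x, hx, -, rfl⟩ := s.mem_im.1 hr
  exact (s.fix_iff (hX hx) hu).2 (h x hx)

theorem img_cent_le (hX : X ≤ NN U U₀) : s.img (Y ⊓ C(X)) ≤ fixM (s.im X) := by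
  rintro _ ⟨u, hu, hu', rfl⟩
  refine (s.mem_fix_iff hX hu').2 fun x hx => ?_
  rw [comm_eq_one_of_cent' hu.2 hx]
  exact one_mem _

/-- Restriction to a supplement. -/
def restrict (hY : Y ≤ U) (h : U ≤ Y ⊔ U₀) : Sect M Y (Y ⊓ U₀) where
  ψ := s.ψ
  le := inf_le_left
  add u hu v hv := s.add u (hY hu) v (hY hv)
  onto m := by
    obtain ⟨u, hu, -, e⟩ : m ∈ s.img Y := s.img_eq_top_of_le hY h ▸ AddSubgroup.mem_top m
    exact ⟨u, hu, e⟩
  ker u hu := (s.ker u (hY hu)).trans ⟨fun h => ⟨hu, h⟩, fun h => h.2⟩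

/-- Change of coordinates. -/
def congr {M' : Type*} [AddCommGroup M'] (e : M ≃+ M') : Sect M' U U₀ where
  ψ g := e (s.ψ g)
  le := s.le
  add u hu v hv := by rw [s.add u hu v hv, map_add]
  onto m := by
    obtain ⟨u, hu, h⟩ := s.onto (e.symm m)
    exact ⟨u, hu, by rw [h, e.apply_symm_apply]⟩
  ker u hu := by rw [← s.ker u hu, e.map_eq_zero_iff]

end Sect

/-- `E` acts on `U / U₀` as `R` acts on `M`. -/
structure ActS (R : Subgroup (AutM M)) (E U U₀ : Subgroup G) extends Sect M U U₀ where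
  norm : E ≤ NN U U₀
  eq : toSect.im E = R

theorem nonempty_actS {R : Subgroup (AutM M)} {E U U₀ : Subgroup G} (s : Sect M U U₀) (hn : E ≤ N(U))
    (h₁ : ∀ e ∈ E, ∃ r ∈ R, ∀ u ∈ U, s.ψ (e * u * e⁻¹) = r (s.ψ u))
    (h₂ : ∀ r ∈ R, ∃ e ∈ E, ∀ u ∈ U, s.ψ (e * u * e⁻¹) = r (s.ψ u)) :
    ∃ a : ActS R E U U₀, a.toSect = s := by
  have hN : E ≤ NN U U₀ := le_inf hn (le_normalizer_iff_conj_le.2 fun e he => conj_le_iff.2 fun u hu => by
    obtain ⟨r, -, h⟩ := h₁ e he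
    rw [← s.ker _ (conj_mem_of_norm (hn he) (s.le hu)), h u (s.le hu), s.zero hu, map_zero])
  refine ⟨⟨s, hN, le_antisymm (s.im_le_iff.2 fun e he => ?_) fun r hr => ?_⟩, rfl⟩
  · obtain ⟨r, hr, h⟩ := h₁ e he
    rwa [s.eq_θ (hN he) h]
  · obtain ⟨e, he, h⟩ := h₂ r hr
    rw [← s.eq_θ (hN he) h]
    exact s.θ_mem he

namespace ActS
variable {R : Subgroup (AutM M)} {E U U₀ X Y : Subgroup G} (a : ActS R E U U₀) {e : G}

theorem θ_mem' (he : e ∈ E) : a.θ e ∈ R := a.eq.le (a.θ_mem he)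

theorem exists_θ {r : AutM M} (hr : r ∈ R) : ∃ e ∈ E, a.θ e = r := (a.mem_im' a.norm).1 (a.eq.symm ▸ hr)

theorem act (he : e ∈ E) : ∃ r ∈ R, ∀ u ∈ U, a.ψ (e * u * e⁻¹) = r (a.ψ u) :=
  ⟨_, a.θ_mem' he, fun _ hu => (a.θ_ψ (a.norm he) hu).symm⟩

theorem sur {r : AutM M} (hr : r ∈ R) : ∃ e ∈ E, ∀ u ∈ U, a.ψ (e * u * e⁻¹) = r (a.ψ u) := by
  obtain ⟨e, he, rfl⟩ := a.exists_θ hr
  exact ⟨e, he, fun _ hu => (a.θ_ψ (a.norm he) hu).symm⟩

theorem θ_norm {g : G} (hg : g ∈ N(E)) : a.θ g ∈ N(R) := by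
  have := a.θ_mem_norm hg
  rwa [a.eq] at this

theorem im_norm (h : X ≤ N(E)) : a.im X ≤ N(R) := by
  have := a.im_le_norm h
  rwa [a.eq] at this

include a in
theorem map {G' : Type*} [Group G'] {f : G →* G'} (hf : Function.Injective f) :
    Nonempty (ActS R (E.map f) (U.map f) (U₀.map f)) := by
  classical
  have e1 : ∀ x, Function.invFun f (f x) = x := Function.leftInverse_invFun hf
  let s : Sect M (U.map f) (U₀.map f) :=
    { ψ := fun x => a.ψ (Function.invFun f x)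
      le := map_mono a.le
      add := by
        rintro _ ⟨u, hu, rfl⟩ _ ⟨v, hv, rfl⟩
        rw [← map_mul, e1, e1, e1, a.add u hu v hv]
      onto := fun m => by
        obtain ⟨u, hu, rfl⟩ := a.onto m
        exact ⟨f u, mem_map_of_mem f hu, by rw [e1]⟩
      ker := by
        rintro _ ⟨u, hu, rfl⟩
        rw [e1, a.ker u hu, mem_map_iff_mem hf] }
  have key : ∀ (e : G) (r : AutM M), (∀ u ∈ U, a.ψ (e * u * e⁻¹) = r (a.ψ u)) →
      ∀ u ∈ U.map f, s.ψ (f e * u * (f e)⁻¹) = r (s.ψ u) := by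
    rintro e r h _ ⟨u, hu, rfl⟩
    change a.ψ (Function.invFun f _) = r (a.ψ (Function.invFun f _))
    rw [← map_inv, ← map_mul, ← map_mul, e1, e1, h u hu]
  obtain ⟨b, -⟩ := nonempty_actS (R := R) s (le_normalizer_map f (a.norm.trans inf_le_left)) (by
    rintro _ ⟨e, he, rfl⟩
    obtain ⟨r, hr, h⟩ := a.act he
    exact ⟨r, hr, key e r h⟩) fun r hr => by
      obtain ⟨e, he, h⟩ := a.sur hr
      exact ⟨f e, mem_map_of_mem f he, key e r h⟩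
  exact ⟨b⟩

theorem of_map {G' : Type*} [Group G'] {f : G' →* G} (hf : Function.Injective f) {E U U₀ : Subgroup G'}
    (a : ActS R (E.map f) (U.map f) (U₀.map f)) : Nonempty (ActS R E U U₀) := by
  let s : Sect M U U₀ :=
    { ψ := fun x => a.ψ (f x)
      le := (map_le_map_iff_of_injective hf).1 a.le
      add := fun u hu v hv => by rw [map_mul, a.add _ (mem_map_of_mem f hu) _ (mem_map_of_mem f hv)]
      onto := fun m => by
        obtain ⟨_, ⟨u, hu, rfl⟩, rfl⟩ := a.onto m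
        exact ⟨u, hu, rfl⟩
      ker := fun u hu => by rw [a.ker _ (mem_map_of_mem f hu), mem_map_iff_mem hf] }
  have key : ∀ (e : G') (r : AutM M), (∀ u ∈ U.map f, a.ψ (f e * u * (f e)⁻¹) = r (a.ψ u)) →
      ∀ u ∈ U, s.ψ (e * u * e⁻¹) = r (s.ψ u) := fun e r h u hu => by
    change a.ψ (f _) = r (a.ψ (f u))
    rw [map_mul, map_mul, map_inv, h _ (mem_map_of_mem f hu)]
  obtain ⟨b, -⟩ := nonempty_actS (R := R) (E := E) s (le_normalizer_iff_conj_le.2 fun e he => conj_le_iff.2 fun u hu => by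
    rw [← mem_map_iff_mem hf, map_mul, map_mul, map_inv]
    exact conj_mem_of_norm (a.norm (mem_map_of_mem f he)).1 (mem_map_of_mem f hu)) (fun e he => by
      obtain ⟨r, hr, h⟩ := a.act (mem_map_of_mem f he)
      exact ⟨r, hr, key e r h⟩) fun r hr => by
        obtain ⟨_, ⟨e, he, rfl⟩, h⟩ := a.sur hr
        exact ⟨e, he, key e r h⟩
  exact ⟨b⟩

/-- Restriction to an invariant supplement. -/
theorem restrict' (hY : Y ≤ U) (h : U ≤ Y ⊔ U₀) (hn : E ≤ N(Y)) :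
    ∃ b : ActS R E Y (Y ⊓ U₀), b.ψ = a.ψ := by
  obtain ⟨b, hb⟩ := nonempty_actS (R := R) (a.toSect.restrict hY h) hn (fun e he => by
    obtain ⟨r, hr, h⟩ := a.act he
    exact ⟨r, hr, fun u hu => h u (hY hu)⟩) fun r hr => by
      obtain ⟨e, he, h⟩ := a.sur hr
      exact ⟨e, he, fun u hu => h u (hY hu)⟩
  exact ⟨b, by rw [hb]; rfl⟩

include a in
theorem card_eq : Nat.card E = Nat.card R * Nat.card ↥(E ⊓ rel U₀ U) := by
  rw [a.card_eq_im a.norm, a.eq]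

end ActS

end Cfsg.Agent.Lib.Blk
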