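import Cfsg.Agent.Lib.BlkCent

/-! Subnormal blocks are equal or commute. -/

set_option autoImplicit false
open Cfsg

namespace Cfsg.Agent.Lib.Blk

open Subgroup Cfsg.Agent.Lib.PCoreConj Cfsg.Agent.Lib.PCore Cfsg.Agent.Lib.PCoreResidual Cfsg.Agent.Lib.PCoreMod
open Cfsg.Agent.Lib.ThompsonJ Cfsg.Agent.Lib.PushBase
open scoped Pointwise commutatorElement MatrixGroups

universe u
variable {G : Type u} [Group G] {p : ℕ} {T T' E F X Y : Subgroup G} {g x y : G}

theorem cent_of_comm_bot (h : ⁅X, Y⁆ = ⊥) : Y ≤ C(X) := commutator_eq_bot_iff_le_centralizer'.1 h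

theorem cent_of_comm_bot' (h : ⁅X, Y⁆ = ⊥) : X ≤ C(Y) := commutator_eq_bot_iff_le_centralizer.1 h

variable [hp : Fact p.Prime] [Finite G]

namespace Blk
variable {M : Type*} [AddCommGroup M] {R : Subgroup (AutM M)} (h : Blk p T E)
include h

theorem VE (hT : IsSylowIn p T ⊤) (hG : C(pCore p G) ≤ pCore p G) : ⁅omegaOneCenter p (pCore p G), E⁆ ≤ WE p E := by
  have k := commutator_mono (omegaOneCenter_le p (pCore p G)) (le_refl E)
  have n : E ≤ N(omegaOneCenter p (pCore p G)) := (nQ p E).trans (normalizer_le_normalizer_omegaOneCenter p _)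
  rcases h.cases_XB with e | ⟨F, _, _, _, ⟨d⟩⟩
  · exact k.trans (e ▸ h.QE hT)
  · refine (d.U_le_or hT hG).elim k.trans fun e => h.comm_le_WE (isPGroup_of_isElementaryAbelian
      (isElementaryAbelian_omegaOneCenter p _)) n (le_omegaOneCenter (isElementaryAbelian_of_le
        (isElementaryAbelian_omegaOneCenter p _) (commutator_le_left_of_le_normalizer n)) (k.trans (h.QE hT))
        ((commutator_le_left_of_le_normalizer n).trans ((omegaOneCenter_le_centralizer p _).trans (centralizer_anti e))))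

theorem card_E (a : ActS R E (WE p E) (ZW p E)) : Nat.card E = Nat.card R * Nat.card (pCoreOf p E) := by
  rw [a.card_eq, h.inf_rel le_normalizer, le_antisymm h.faith' (le_inf (pCoreOf_le p E) (core_le_cent' p E))]

theorem small_ZW (a : ActS R E (WE p E) (ZW p E)) (s : Small p R) : ZW p E = ⊥ := by
  obtain ⟨τ, h₁, h₂, h₃, h₄, -⟩ := exists_trace (S := pCoreOf p E) (WE_elem p E).1 (le_normalizer.trans (norm_WE p E))
  have c : ∀ {w}, w ∈ WE p E → w ∈ WE p E ⊓ C(pCoreOf p E) := fun hw => ⟨hw, le_centralizer_iff.1 (core_le_cent' p E) hw⟩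
  have o : τ 1 = 1 := by rw [h₃ 1 (one_mem _), one_pow]
  have i : ∀ {w}, w ∈ WE p E → τ w⁻¹ = (τ w)⁻¹ := fun hw =>
    eq_inv_of_mul_eq_one_left (by rw [← h₂ _ (c (inv_mem hw)) _ (c hw), inv_mul_cancel, o])
  let K : Subgroup G :=
    { carrier := {w | w ∈ WE p E ∧ τ w = 1}
      one_mem' := ⟨one_mem _, o⟩
      mul_mem' := fun ha hb => ⟨mul_mem ha.1 hb.1, by rw [h₂ _ (c ha.1) _ (c hb.1), ha.2, hb.2, one_mul]⟩
      inv_mem' := fun ha => ⟨inv_mem ha.1, by rw [i ha.1, ha.2, inv_one]⟩ }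
  have k : WE p E ≤ K := h.comm_WE.ge.trans (commutator_le.2 fun w hw e he => by
    have n := norm_WE p E (le_normalizer he)
    refine ⟨comm_mem_of_norm n hw, ?_⟩
    rw [show ⁅w, e⁆ = w * (e * w⁻¹ * e⁻¹) by rw [commutatorElement_def]; group, h₂ _ (c hw) _
      (c (conj_mem_of_norm n (inv_mem hw))), h₄ e (le_normalizer he) (normalizer_le_normalizer_pCoreOf p E
        (le_normalizer he)) n _ (c (inv_mem hw)), conj_eq_of_cent' (h₁ _ (c (inv_mem hw))).2 he, i hw, mul_inv_cancel])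
  have e : (pCoreOf p E).relIndex E = Nat.card R := Nat.eq_of_mul_eq_mul_left (Nat.card_pos (α := pCoreOf p E))
    (by rw [card_mul_relIndex (pCoreOf_le p E), h.card_E a, mul_comm])
  haveI := a.finite_M
  have d : ¬ p ∣ Nat.card R := fun d => by
    obtain ⟨r, hr⟩ := exists_prime_orderOf_dvd_card' p d
    have : (r : AutM M) = 1 := s.eq_one r.2 (k := 1) (by rw [pow_one, ← coe_pow, ← hr, pow_orderOf_eq_one, coe_one])
    rw [← orderOf_coe, this, orderOf_one] at hr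
    exact hp.out.one_lt.ne hr
  refine eq_bot_iff.2 fun z hz => eq_one_of_coprime_of_pow_eq_one (k := 1) (Nat.Coprime.coprime_dvd_left
    (orderOf_dvd_of_pow_eq_one ((h₃ z hz).symm.trans (k hz.1).2)) ?_) (by rw [pow_one, (WE_elem p E).2 z hz.1])
  rw [e]
  exact (hp.out.coprime_iff_not_dvd.2 d).symm

theorem sq_le_card : p ^ 2 ≤ Nat.card (WE p E) := by
  obtain ⟨M, _, R, m, ⟨a⟩⟩ := h.model
  rw [a.card_U]
  exact m.sq.trans (Nat.le_mul_of_pos_right _ Nat.card_pos)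

theorem small_card (a : ActS R E (WE p E) (ZW p E)) (s : Small p R) : Nat.card (WE p E) = p ^ 2 := by
  rw [a.card_U, h.small_ZW a s, card_bot, mul_one, s.card]

theorem perf_cases (a : ActS R E (WE p E) (ZW p E)) (s : Perf p R) (hn : X ≤ N(E)) :
    E ≤ ⁅E, X⁆ ⊔ pCoreOf p E ∨ ⁅E, X⁆ ≤ pCoreOf p E := by
  have k := commutator_le_left_of_le_normalizer hn
  have n := hn.trans (norm_NN p E)
  refine (s.quasi (a.im ⁅E, X⁆) ((a.im_mono k).trans a.eq.le)
    (a.eq.ge.trans (a.im_le_norm (normalizer_commutator_ge_left _ _)))).imp (fun e => ?_) fun e => ?_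
  · refine (le_inf (a.le_sup_of_im_le a.norm (k.trans a.norm) (a.eq.le.trans e)) le_rfl).trans ?_
    rw [sup_inf_of_le_normalizer ((k.trans a.norm).trans (le_norm_rel inf_le_right inf_le_left)) k, inf_comm,
      h.inf_rel le_normalizer]
    exact sup_le_sup_left h.faith' _
  · rw [a.im_comm a.norm n, a.eq] at e
    have e' := commutator_commutator_eq_bot_of_rotate e (by rwa [commutator_comm (a.im X)])
    rw [s.perf] at e'
    exact (le_inf k ((h.im_eq_bot_iff a.toSect (k.trans le_normalizer)).1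
      (by rw [a.im_comm a.norm n, a.eq, e']))).trans h.faith'

theorem not_two {f : G} (hf : f ∈ E) (hc : ∀ g ∈ E, g ∈ C(WE p E) ∨ f⁻¹ * g ∈ C(WE p E)) : False := by
  obtain ⟨M, _, R, m, ⟨a⟩⟩ := h.model
  have k : (R : Set (AutM M)) ⊆ {1, a.θ f} := fun r hr => by
    obtain ⟨g, hg, rfl⟩ := a.exists_θ hr
    refine (hc g hg).imp a.θ_of_cent fun e => ?_
    have := a.θ_of_cent e
    rw [a.θ_mul (a.norm (inv_mem hf)) (a.norm hg), a.θ_inv (a.norm hf), inv_mul_eq_one] at this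
    exact this.symm
  exact m.big.not_ge ((Set.ncard_le_ncard k (Set.toFinite _)).trans ((Set.ncard_insert_le _ _).trans (by simp)))

variable (hT : IsSylowIn p T ⊤) (h' : Blk p T' F) (hT' : IsSylowIn p T' ⊤) (hG : C(pCore p G) ≤ pCore p G)
include hT h' hT' hG

theorem comm_or_le (hn : F ≤ N(E)) : ⁅E, F⁆ = ⊥ ∨ WE p F ≤ WE p E := by
  have n := hn.trans (norm_WE p E)
  refine (h'.irr ((commutator_mono (h.WE_le_V hT hG) le_rfl).trans ((h'.VE hT' hG).trans (WE_le p F)))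
    (normalizer_commutator_ge_right _ _)).imp (fun e => ?_) fun e => e.trans (commutator_le_left_of_le_normalizer n)
  have := commutator_eq_bot_iff_le_centralizer.2 e
  rw [h'.comm_comm (WE_pgroup p E) n] at this
  exact commutator_eq_bot_iff_le_centralizer'.2 (h'.res.ge.trans (h.cent_res hT hG hn (cent_of_comm_bot this)))

theorem pgroup_cent (hn : F ≤ N(E)) (hc : WE p F ≤ WE p E) : IsPGroup p ↥((E ⊔ F) ⊓ C(WE p E)) := by
  have d := pResidualOf_le p ((E ⊔ F) ⊓ C(WE p E))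
  have c₁ := h.cent_res hT hG (inf_le_left.trans (sup_le le_normalizer hn)) (inf_le_right (a := E ⊔ F))
  have c₂ := h'.cent_res hT' hG ((inf_le_right.trans (centralizer_anti hc)).trans (h'.cent_le_norm hT' hG))
    ((inf_le_right (a := E ⊔ F)).trans (centralizer_anti hc))
  have c₃ : ⁅pCore p G, E ⊔ F⁆ ≤ E ⊔ F := commutator_sup_le (le_normalizer_of_le le_sup_left)
    (le_normalizer_of_le le_sup_right) ((h.QE hT).trans ((pCoreOf_le p E).trans le_sup_left))
      ((h'.QE hT').trans ((pCoreOf_le p F).trans le_sup_right))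
  refine isPGroup_of_pResidualOf_le (pCore_isPGroup p G) ((pResidualOf_le_centralizer_of_le (pCore_isPGroup p G) (nQ p _)
    ((commutator_mono le_rfl (d.trans inf_le_left)).trans c₃) ?_).trans hG)
  rw [centralizer_sup]
  exact le_inf c₁ c₂

theorem le_of_le_sup (hn : F ≤ N(E)) (hc : WE p F ≤ WE p E) (hl : F ≤ E ⊔ C(WE p E)) : F ≤ E := by
  have k : F ≤ E ⊔ (C(WE p E) ⊓ (E ⊔ F)) := by
    rw [← sup_inf_of_le_normalizer (le_normalizer.trans (norm_C p E)) le_sup_left]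
    exact le_inf hl le_sup_right
  rw [inf_comm] at k
  exact h'.res.ge.trans ((pResidualOf_mono k).trans (pResidualOf_sup_le (h.pgroup_cent hT h' hT' hG hn hc)
    (inf_le_left.trans (sup_le le_normalizer hn))))

omit hT hT' hG in
theorem ZW_le_of (hn : F ≤ N(E)) (hW : WE p E = WE p F) : ZW p E ≤ ZW p F :=
  le_inf (hW ▸ ZW_le p E) ((h'.irr ((ZW_le p E).trans (hW.le.trans (WE_le p F))) (hn.trans (norm_ZW p E))).resolve_right
    fun e => h.not_le_cent (hW.le.trans (e.trans (ZW_cent p E))))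

omit hT hT' hG in
theorem le_of_perf (a : ActS R E (WE p E) (ZW p E)) (m : Model p R) (s : Perf p R) (hn : F ≤ N(E)) (hn' : E ≤ N(F))
    (hW : WE p E = WE p F) : E ≤ F := by
  rcases h.perf_cases a s hn with e | e
  · exact h.res.ge.trans ((pResidualOf_mono (e.trans (sup_le_sup_right (commutator_le_right_of_le_normalizer hn') _))).trans
      (pResidualOf_sup_le (pCoreOf_isPGroup p E) ((pCoreOf_le p E).trans hn')))
  exfalso
  obtain ⟨r, hr, h₁, h₂⟩ := s.elt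
  haveI := m.fin
  have n := hn.trans (norm_NN p E)
  have c : ∀ x ∈ F, a.θ x * r = r * a.θ x := fun x hx => by
    obtain ⟨y, hy, rfl⟩ := a.exists_θ hr
    rw [eq_comm, ← commutatorElement_eq_one_iff_mul_comm, ← a.θ_comm (a.norm hy) (n hx)]
    exact a.θ_of_cent (core_le_cent' p E (e (commutator_mem_commutator hy hx)))
  obtain ⟨v, -, hv, hf⟩ := exists_fixed (isPGroup_zpowers (k := 1) (by rwa [pow_one])) ⊤ (fun _ _ _ _ => trivial)
    (fun v _ => m.tors v) fun e => by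
      have := m.sq
      rw [← AddSubgroup.card_top, e, AddSubgroup.card_bot] at this
      exact (Nat.one_lt_pow two_ne_zero hp.out.one_lt).not_ge this
  rcases h'.irr ((a.pre_le (fixM (zpowers r))).trans (hW.le.trans (WE_le p F))) (a.norm_pre n fun x hx v hv t ht => by
    refine zpowers_le_of_mem (H := stabM _) ?_ ht
    rw [mem_stabM, ← aut_mul, ← c x hx, aut_mul, hv r (mem_zpowers r)]) with k | k
  · obtain ⟨w, hw, rfl⟩ := a.onto v
    exact hv (a.zero (h'.ZW_le_of h hn' hW.symm ⟨hW.le hw, k ⟨hw, hf⟩⟩))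
  · refine h₁ (aut_ext fun v => ?_)
    obtain ⟨w, hw, rfl⟩ := a.onto v
    exact (k (hW.le hw)).2 r (mem_zpowers r)

theorem le_of_small (a : ActS R E (WE p E) (ZW p E)) (s : Small p R) (hn : F ≤ N(E)) (hn' : E ≤ N(F))
    (hW : WE p E = WE p F) : F ≤ E := by
  obtain ⟨M', _, R', m, ⟨b⟩⟩ := h'.model
  have hZ := le_antisymm (h.ZW_le_of h' hn hW) (h'.ZW_le_of h hn' hW.symm)
  have n := hn.trans (norm_NN p E)
  have k₁ : ∀ x ∈ F, b.θ x = 1 → a.θ x = 1 := fun x hx e =>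
    a.θ_of_cent (hW ▸ (h'.θ_eq_one b.toSect (le_normalizer hx)).1 e)
  have k₂ : ∀ x ∈ F, b.θ x = negA _ → a.θ x = negA _ := fun x hx e => a.eq_θ (n hx) fun w hw => by
    have := h'.inverts b.toSect hx e (hW.le hw)
    rw [this, a.inv hw, negA_apply]
  rcases m.cases with c | c
  · exact h'.le_of_perf h b m c hn' hn hW.symm
  refine h.le_of_le_sup hT h' hT' hG hn hW.ge fun x hx => ?_
  have k : a.θ x ∈ R := (s.mem _).2 (((c.mem _).1 (b.θ_mem' hx)).imp (And.imp_right fun e => by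
      rw [← a.θ_pow (n hx)]
      exact k₁ _ (pow_mem hx 3) (by rw [b.θ_pow (b.norm hx), e]))
    (And.imp_right (Or.imp (k₁ x hx) (Or.imp (k₂ x hx) fun e => by
      rw [← a.θ_pow (n hx)]
      exact k₂ _ (pow_mem hx 2) (by rw [b.θ_pow (b.norm hx), e])))))
  obtain ⟨y, hy, e⟩ := a.exists_θ k
  rw [← mul_inv_cancel_left y x]
  exact mul_mem_sup hy ((h.inf_rel le_rfl).le (mem_inf.2 ⟨mul_mem (inv_mem (le_normalizer hy)) (hn hx),
    (a.θ_eq_iff (a.norm hy) (n hx)).1 e⟩)).2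

theorem eq_of_W (hn : F ≤ N(E)) (hn' : E ≤ N(F)) (hW : WE p E = WE p F) : E = F := by
  obtain ⟨M, _, R, m, ⟨a⟩⟩ := h.model
  obtain ⟨M', _, R', m', ⟨b⟩⟩ := h'.model
  rcases m.cases with c | c <;> rcases m'.cases with c' | c'
  · exact le_antisymm (h.le_of_perf h' a m c hn hn' hW) (h'.le_of_perf h b m' c' hn' hn hW.symm)
  · exfalso
    obtain ⟨r, hr, h₁, h₂⟩ := c.elt
    obtain ⟨x, hx, rfl⟩ := a.exists_θ hr
    have hx' := h.le_of_perf h' a m c hn hn' hW hx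
    rw [← a.θ_pow (a.norm hx), h.θ_eq_one a.toSect (le_normalizer (pow_mem hx p)), hW] at h₂
    refine h₁ (a.θ_of_cent (hW ▸ (h'.θ_eq_one b.toSect (le_normalizer hx')).1 (c'.eq_one (b.θ_mem' hx') (k := 1) ?_)))
    rw [pow_one, ← b.θ_pow (b.norm hx'), b.θ_of_cent h₂]
  · exfalso
    obtain ⟨r, hr, h₁, h₂⟩ := c'.elt
    obtain ⟨x, hx, rfl⟩ := b.exists_θ hr
    have hx' := h'.le_of_perf h b m' c' hn' hn hW.symm hx
    rw [← b.θ_pow (b.norm hx), h'.θ_eq_one b.toSect (le_normalizer (pow_mem hx p)), ← hW] at h₂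
    refine h₁ (b.θ_of_cent (hW ▸ (h.θ_eq_one a.toSect (le_normalizer hx')).1 (c.eq_one (a.θ_mem' hx') (k := 1) ?_)))
    rw [pow_one, ← a.θ_pow (a.norm hx'), a.θ_of_cent h₂]
  · exact le_antisymm (h'.le_of_small hT' h hT hG b c' hn' hn hW.symm) (h.le_of_small hT h' hT' hG a c hn hn' hW)

theorem norm_or_norm (cE : ∀ g ∈ F, ∀ g' ∈ F, E ^ᶜ g = E ^ᶜ g' ∨ ⁅E ^ᶜ g, E ^ᶜ g'⁆ = ⊥)
    (cF : ∀ e ∈ E, F ^ᶜ e = F ∨ ⁅F ^ᶜ e, F⁆ = ⊥) : E ≤ N(F) ∨ F ≤ N(E) := by
  by_contra hc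
  rw [not_or] at hc
  obtain ⟨e, he, he'⟩ := SetLike.not_le_iff_exists.1 hc.1
  obtain ⟨f, hf, hfo, hf'⟩ : ∃ f ∈ F, (orderOf f).Coprime p ∧ f ∉ (N(E) : Subgroup G) := by
    by_contra k
    push Not at k
    exact hc.2 (h'.le_of_coprime k)
  have c₁ := cent_of_comm_bot' ((cF e he).resolve_left (mt mem_normalizer_iff_conj_eq.2 he'))
  have ne : E ≠ E ^ᶜ f := fun k => hf' (mem_normalizer_iff_conj_eq.2 k.symm)
  have c₂ : E ^ᶜ f ≤ C(E) := by
    have := cE 1 (one_mem _) f hf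
    rw [conj_one] at this
    exact cent_of_comm_bot (this.resolve_left ne)
  have nW : ∀ {x}, x ∈ E → x ∈ (N(WE p E) : Subgroup G) := fun hx => norm_WE p E (le_normalizer hx)
  have yF : ∀ w ∈ WE p E, ⁅w⁻¹, f⁆ ∈ WE p F := fun w hw =>
    h'.VE hT' hG (commutator_mem_commutator (inv_mem (h.WE_le_V hT hG hw)) hf)
  have fx : ∀ g ∈ F, ∀ w ∈ WE p E, g * w⁻¹ * g⁻¹ * (g * f * (e * w * e⁻¹) * (g * f)⁻¹) = w⁻¹ * (f * (e * w * e⁻¹) * f⁻¹) :=
    fun g hg w hw => by
      have hw' := conj_mem_of_norm (nW he) hw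
      have k₁ := conj_eq_of_cent (c₁ (conj_mem_conj e hg)) (WE_le_E p F (yF _ hw'))
      have k₂ := conj_eq_of_cent' (c₂ (conj_mem_conj f (WE_le_E p E hw'))) he
      rw [show ⁅(e * w * e⁻¹)⁻¹, f⁆ = e * w⁻¹ * e⁻¹ * (f * (e * w * e⁻¹) * f⁻¹) by
        rw [commutatorElement_def]; group, ← k₂] at k₁
      generalize hb : f * (e * w * e⁻¹) * f⁻¹ = b at k₁
      calc _ = g * w⁻¹ * g⁻¹ * (g * b * g⁻¹) := by rw [← hb]; group
        _ = e⁻¹ * (e * g * e⁻¹ * (e * w⁻¹ * e⁻¹ * (e * b * e⁻¹)) * (e * g * e⁻¹)⁻¹) * e := by group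
        _ = _ := by rw [k₁]; group
  obtain ⟨w, hw, hw'⟩ := SetLike.not_le_iff_exists.1 h.not_le_cent
  have wE := WE_le_E p E hw
  have wE' := WE_le_E p E (conj_mem_of_norm (nW he) hw)
  have pr : ∀ g ∈ F, (E ^ᶜ g = E ∧ E ^ᶜ (g * f) = E ^ᶜ f) ∨ (E ^ᶜ g = E ^ᶜ f ∧ E ^ᶜ (g * f) = E) := fun g hg => by
    have k := fx g hg w hw
    have gf := mul_mem hg hf
    have k₁ : E ^ᶜ g = E ∨ E ^ᶜ (g * f) = E := by
      by_contra k₁
      rw [not_or] at k₁
      have a₁ := cE g hg 1 (one_mem _)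
      have a₂ := cE _ gf 1 (one_mem _)
      rw [conj_one] at a₁ a₂
      have := mul_mem (cent_of_comm_bot' (a₁.resolve_left k₁.1) (conj_mem_conj g (inv_mem wE)))
        (cent_of_comm_bot' (a₂.resolve_left k₁.2) (conj_mem_conj (g * f) wE'))
      rw [k] at this
      exact hw' (inv_mem_iff.1 ((mul_mem_cancel_right (c₂ (conj_mem_conj f wE'))).1 this))
    have k₂ : E ^ᶜ g = E ^ᶜ f ∨ E ^ᶜ (g * f) = E ^ᶜ f := by
      by_contra k₂
      rw [not_or] at k₂
      have := mul_mem (cent_of_comm_bot' ((cE g hg f hf).resolve_left k₂.1) (conj_mem_conj g (inv_mem wE)))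
        (cent_of_comm_bot' ((cE _ gf f hf).resolve_left k₂.2) (conj_mem_conj (g * f) wE'))
      rw [k, mul_mem_cancel_left (le_centralizer_iff.1 c₂ (inv_mem wE)), ← conj_centralizer, conj_mem_conj_iff] at this
      exact hw' (by simpa [mul_assoc] using conj_mem_of_norm (le_normalizer_centralizer le_normalizer (inv_mem he)) this)
    rcases k₁ with k₁ | k₁ <;> rcases k₂ with k₂ | k₂
    exacts [absurd (k₁.symm.trans k₂) ne, Or.inl ⟨k₁, k₂⟩, Or.inr ⟨k₂, k₁⟩, absurd (k₁.symm.trans k₂) ne]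
  have fixp : ∀ g ∈ F ⊓ N(E), E ^ᶜ g = E ∧ E ^ᶜ (g * f) = E ^ᶜ f := fun g hg => (pr g hg.1).resolve_right fun k =>
    ne ((conj_eq_of_mem_normalizer hg.2).symm.trans k.1)
  have c₃ : F ⊓ N(E) ≤ C(WE p E) := h.cent_of_comm inf_le_right (commutator_le.2 fun v hv g hg => by
    have hv' := WE_le_E p E (conj_mem_of_norm (nW he) hv)
    have : ⁅v, g⁆ = f * (e * v * e⁻¹) * f⁻¹ * (g * f * (e * v * e⁻¹) * (g * f)⁻¹)⁻¹ := by
      rw [eq_mul_inv_iff_mul_eq, ← inv_mul_cancel_left v⁻¹ (f * _ * f⁻¹), ← fx g hg.1 v hv, commutatorElement_def]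
      group
    rw [this]
    exact c₂ (mul_mem (conj_mem_conj f hv') (inv_mem ((fixp g hg).2.le (conj_mem_conj _ hv')))))
  have nK : F ≤ N(F ⊓ N(E)) := le_normalizer_iff_conj_le.2 fun x hx => conj_le_iff.2 fun g hg =>
    mem_inf.2 ⟨conj_mem_of_norm (le_normalizer hx) hg.1, mem_normalizer_iff_conj_eq.2 (by
      have : (E ^ᶜ x⁻¹) ^ᶜ g = E ^ᶜ x⁻¹ := by
        rcases pr _ (inv_mem hx) with k | k <;> rw [k.1]
        exacts [(fixp g hg).1, (conj_conj _ _ _).trans (fixp g hg).2]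
      rw [← conj_conj, ← conj_conj, this, conj_inv_conj])⟩
  have yc : ⁅w⁻¹, f⁆ ∈ WE p F ⊓ C(F ⊓ N(E)) := mem_inf.2 ⟨yF w hw, by
    rw [show ⁅w⁻¹, f⁆ = w⁻¹ * (f * w * f⁻¹) by rw [commutatorElement_def]; group]
    exact mul_mem (inv_mem (le_centralizer_iff.1 c₃ hw))
      (conj_mem_of_norm (le_normalizer_centralizer nK hf) (le_centralizer_iff.1 c₃ hw))⟩
  rcases h'.irr (Y := WE p F ⊓ C(F ⊓ N(E))) (inf_le_left.trans (WE_le p F))
    (le_normalizer_inf (le_normalizer.trans (norm_WE p F)) (le_normalizer_centralizer nK)) with k | k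
  · have := cent_of_coprime_of_comm ((WE_pgroup p F).to_le inf_le_left) hfo (comm_mem_swap yc) (le_centralizer_iff.1 k hf)
    refine hw' (c₂ ?_)
    rw [commutatorElement_eq_one_iff_mul_comm] at this
    rw [mem_conj_iff, ← inv_mem_iff, show (f⁻¹ * w * f)⁻¹ = f⁻¹ * (w⁻¹ * f) by group, ← this, inv_mul_cancel_left]
    exact inv_mem wE
  · have k' := le_centralizer_iff.1 (k.trans inf_le_right)
    refine h'.not_two hf fun g hg => (pr g hg).imp (fun a => k' ⟨hg, mem_normalizer_iff_conj_eq.2 a.1⟩) fun a =>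
      k' ⟨F.mul_mem (F.inv_mem hf) hg, mem_normalizer_iff_conj_eq.2 ?_⟩
    rw [← conj_conj, a.1, conj_conj_inv]

theorem eq_or_of_norm (hs : SubnormalIn ⊤ F) (hn : F ≤ N(E))
    (cF : nclIn F (E ⊔ F) < E ⊔ F → ∀ e ∈ E, F ^ᶜ e = F ∨ ⁅F ^ᶜ e, F⁆ = ⊥) : E = F ∨ ⁅E, F⁆ = ⊥ := by
  rcases h.comm_or_le hT h' hT' hG hn with k | k
  · exact Or.inr k
  have hn' : E ≤ N(F) := by
    by_cases e : F = E ⊔ F
    · exact le_normalizer_of_le (le_sup_left.trans e.ge)
    have lt := (hs.of_le le_sup_right le_top).nclIn_lt e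
    obtain ⟨M, _, R, m, ⟨a⟩⟩ := h.model
    rcases m.cases with c | c
    · rcases h.perf_cases a c hn with c' | c'
      · refine absurd (sup_le (h.res.ge.trans ((pResidualOf_mono (c'.trans (sup_le_sup_right ?_ _))).trans
          (pResidualOf_sup_le (pCoreOf_isPGroup p E) ((pCoreOf_le p E).trans (le_sup_left.trans
            (le_normalizer_nclIn _ _)))))) (le_nclIn _ _)) lt.not_ge
        exact (commutator_comm _ _).le.trans ((commutator_mono le_rfl le_sup_left).trans (commutator_le_nclIn _ _))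
      · have k₁ : E ≤ N(F ⊔ pCoreOf p E) := le_normalizer_of_commutator_le ((commutator_comm _ _).le.trans
          (commutator_sup_le (le_normalizer_of_le le_sup_left) (le_normalizer_of_le le_sup_right) (c'.trans le_sup_right)
            ((commutator_le_right_of_le_normalizer (le_normalizer.trans
              (normalizer_le_normalizer_pCoreOf p E))).trans le_sup_right)))
        have k₂ := pResidualOf_sup_le_of_subnormalIn (pCoreOf_isPGroup p E)
          (hn.trans (normalizer_le_normalizer_pCoreOf p E)) (hs.of_le le_sup_left le_top)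
        have k₃ := le_normalizer_pResidualOf_of (p := p) k₁
        rwa [le_antisymm k₂ (h'.res.ge.trans (pResidualOf_mono le_sup_left))] at k₃
    · have e' := eq_of_le_of_card_le k ((h.small_card a c).le.trans h'.sq_le_card)
      refine fun x hx => mem_normalizer_iff_conj_eq.2 ((cF lt x hx).resolve_right fun c' => h'.not_cent ?_)
      refine (cent_of_comm_bot c').trans (centralizer_anti ?_)
      rw [e', ← conj_eq_of_mem_normalizer (norm_WE p E (le_normalizer hx)), ← e']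
      exact conj_mono x (WE_le_E p F)
  rcases h'.comm_or_le hT' h hT hG hn' with k' | k'
  · exact Or.inr ((commutator_comm _ _).trans k')
  · exact Or.inl (h.eq_of_W hT h' hT' hG hn hn' (le_antisymm k' k))

end Blk

/-- Subnormal blocks. -/
structure SB (p : ℕ) (E : Subgroup G) : Prop where
  ex : ∃ T, IsSylowIn p T ⊤ ∧ Blk p T E
  sub : SubnormalIn ⊤ E

omit hp [Finite G] in
theorem SB.conj (h : SB p E) (g : G) : SB p (E ^ᶜ g) :=
  let ⟨_, hT, k⟩ := h.ex
  ⟨⟨_, hT.conj_top g, k.conj g⟩, h.sub.conj_of_mem (le_normalizer (mem_top g))⟩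

omit hp [Finite G] in
theorem SB.U_le (h : SB p E) : pCoreOf p E ≤ pCore p G := (pCoreOf_le_of_subnormalIn h.sub).trans (pCoreOf_top p G).le

theorem SB.eq_or_comm (hG : C(pCore p G) ≤ pCore p G) (hE : SB p E) (hF : SB p F) : E = F ∨ ⁅E, F⁆ = ⊥ := by
  induction hn : Nat.card ↥(E ⊔ F) using Nat.strong_induction_on generalizing E F with
  | _ n ih =>
  subst hn
  have k : ∀ {X}, SB p X → nclIn X (E ⊔ F) < E ⊔ F → ∀ g ∈ E ⊔ F, ∀ g' ∈ E ⊔ F, X ^ᶜ g = X ^ᶜ g' ∨ ⁅X ^ᶜ g, X ^ᶜ g'⁆ = ⊥ :=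
    fun hX lt g hg g' hg' => ih _ (card_lt_of_lt ((sup_le (conj_le_nclIn _ hg) (conj_le_nclIn _ hg')).trans_lt lt))
      (hX.conj g) (hX.conj g') rfl
  have k' : ∀ {X}, SB p X → nclIn X (E ⊔ F) < E ⊔ F → ∀ g ∈ E ⊔ F, X ^ᶜ g = X ∨ ⁅X ^ᶜ g, X⁆ = ⊥ := fun hX lt g hg => by
    have := k hX lt g hg 1 (one_mem _)
    rwa [conj_one] at this
  obtain ⟨T, hT, h⟩ := hE.ex
  obtain ⟨T', hT', h'⟩ := hF.ex
  have a₁ : F ≤ N(E) → E = F ∨ ⁅E, F⁆ = ⊥ := fun hn =>
    h.eq_or_of_norm hT h' hT' hG hF.sub hn fun lt e he => k' hF lt e (mem_sup_left he)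
  have a₂ : E ≤ N(F) → E = F ∨ ⁅E, F⁆ = ⊥ := fun hn =>
    (h'.eq_or_of_norm hT' h hT hG hE.sub hn fun lt e he => k' hE (by rwa [sup_comm] at lt) e (mem_sup_right he)).imp
      Eq.symm (commutator_comm _ _).trans
  by_cases e₁ : E = E ⊔ F
  · exact a₁ (le_normalizer_of_le (le_sup_right.trans e₁.ge))
  by_cases e₂ : F = E ⊔ F
  · exact a₂ (le_normalizer_of_le (le_sup_left.trans e₂.ge))
  exact (h.norm_or_norm hT h' hT' hG (fun g hg g' hg' => k hE ((hE.sub.of_le le_sup_left le_top).nclIn_lt e₁) g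
    (mem_sup_right hg) g' (mem_sup_right hg')) fun e he => k' hF ((hF.sub.of_le le_sup_right le_top).nclIn_lt e₂) e
      (mem_sup_left he)).elim a₂ a₁

end Cfsg.Agent.Lib.Blk
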