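import Cfsg.Agent.Lib.AltPres
import Cfsg.Agent.Lib.GL2Solv
import Cfsg.Agent.Lib.FStar
import Cfsg.Agent.Lib.PCoreResidual

/-! Permutation groups containing a three-cycle. -/

set_option autoImplicit false
set_option linter.style.haveILetI false

namespace Cfsg.Agent.Lib.ThreeCyc

open Subgroup Equiv Equiv.Perm Cfsg Cfsg.Agent.Lib.AltPres Cfsg.Agent.Lib.PCoreConj

variable {α : Type*} [Fintype α] [DecidableEq α]

/-- The alternating group on a subset. -/
def altOn (Ω : Finset α) : Subgroup (Perm α) :=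
  (alternatingGroup Ω).map (Perm.ofSubtype : Perm Ω →* Perm α)

theorem mem_altOn {Ω : Finset α} {g : Perm α} :
    g ∈ altOn Ω ↔ g.support ⊆ Ω ∧ sign g = 1 := by
  rw [altOn, alternatingGroup.map_ofSubtype, mem_inf, Perm.mem_range_ofSubtype_iff,
    mem_alternatingGroup]
  simp

theorem nonempty_equiv (Ω : Finset α) : Nonempty (altOn Ω ≃* alternatingGroup (Fin Ω.card)) :=
  ⟨((alternatingGroup Ω).equivMapOfInjective _ Perm.ofSubtype_injective).symm.trans
    (Finset.equivFin Ω).altCongrHom⟩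

theorem isSimpleGroup_altOn {Ω : Finset α} (h : 5 ≤ Ω.card) : IsSimpleGroup (altOn Ω) := by
  obtain ⟨e⟩ := nonempty_equiv Ω
  haveI := alternatingGroup.isSimpleGroup (α := Fin Ω.card) (by simpa using h)
  exact e.isSimpleGroup

theorem cyc_mem_altOn {Ω : Finset α} {a b c : α} (ha : a ∈ Ω) (hb : b ∈ Ω) (hc : c ∈ Ω)
    (hab : a ≠ b) (hac : a ≠ c) : cyc a b c ∈ altOn Ω := by
  refine mem_altOn.2 ⟨fun x hx => ?_, cyc_mem hab hac⟩
  by_contra h
  exact mem_support.1 hx (cyc_apply_of_ne (fun e => h (e ▸ ha)) (fun e => h (e ▸ hb))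
    (fun e => h (e ▸ hc)))

theorem altOn_le {Ω : Finset α} {H : Subgroup (Perm α)} {a b : α} (ha : a ∈ Ω) (hb : b ∈ Ω)
    (hab : a ≠ b) (h : ∀ c ∈ Ω, c ≠ a → c ≠ b → cyc a b c ∈ H) : altOn Ω ≤ H := by
  rw [altOn, ← closure_cyc (a := (⟨a, ha⟩ : Ω)) (b := ⟨b, hb⟩) (fun e => hab (congrArg Subtype.val e)),
    map_le_iff_le_comap, closure_le]
  rintro _ ⟨c, hc, rfl⟩
  show Perm.ofSubtype (cyc _ _ _) ∈ H
  rw [cyc, map_mul, ofSubtype_swap_eq, ofSubtype_swap_eq]
  exact h c c.2 (fun e => hc.1 (Subtype.ext e)) (fun e => hc.2 (Subtype.ext e))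

theorem eq_cyc {s : Perm α} (hs : s.IsThreeCycle) {x : α} (hx : x ∈ s.support) :
    s = cyc x (s (s x)) (s x) ∧ x ≠ s x ∧ x ≠ s (s x) ∧ s x ≠ s (s x) := by
  have h1 := hs.nodup_iff_mem_support.2 hx
  simp only [List.nodup_cons, List.mem_cons, List.not_mem_nil, or_false, not_or,
    not_false_eq_true, List.nodup_nil, and_true] at h1
  refine ⟨?_, h1.1.1, h1.1.2, h1.2⟩
  have h2 := hs.eq_swap_mul_swap_iff_mem_support.2 hx
  obtain ⟨⟨h3, h4⟩, h5⟩ := h1
  generalize s (s x) = w at *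
  generalize s x = y at *
  rw [h2]
  ext u
  simp only [cyc, coe_mul, Function.comp_apply, swap_apply_def]
  split_ifs <;> simp_all

theorem conj_altOn (Ω : Finset α) (h : Perm α) : (altOn Ω) ^ᶜ h = altOn (Ω.map h.toEmbedding) := by
  ext g
  rw [mem_conj_iff, mem_altOn, mem_altOn]
  refine and_congr ?_ (by rw [map_mul, map_mul, mul_right_comm, ← map_mul]; simp)
  constructor
  · intro hg x hx
    refine Finset.mem_map.2 ⟨h⁻¹ x, hg (mem_support.2 fun e => mem_support.1 hx ?_), by simp⟩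
    simpa using e
  · intro hg x hx
    have : h x ∈ g.support := mem_support.2 fun e => mem_support.1 hx (by simp [e])
    simpa using hg this

/-- A perfect group preserving a set of at most four points fixes them. -/
theorem fix_of_perfect {K : Subgroup (Perm α)} (hK : ⁅K, K⁆ = K) {s : Finset α} (hs : s.card ≤ 4)
    (h : ∀ k ∈ K, ∀ x ∈ s, k x ∈ s) {k : Perm α} (hk : k ∈ K) {x : α} (hx : x ∈ s) : k x = x := by
  haveI : Group.IsPerfect K := isPerfect_iff.2 hK
  have hiff : ∀ k : K, ∀ x, (k : Perm α) x ∈ s ↔ x ∈ s := fun k x =>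
    ⟨fun hx => by simpa using h _ (inv_mem k.2) _ hx, h _ k.2 x⟩
  let f : K →* Perm s := MonoidHom.mk' (fun k => (k : Perm α).subtypePerm (hiff k)) fun _ _ => rfl
  haveI : Group.IsSolvable (Perm s) := by
    refine BurnsidePQ.isSolvable_of_card_dvd (p := 2) (q := 3) (a := 3) (b := 1) Nat.prime_two
      Nat.prime_three ?_
    rw [Nat.card_perm]
    exact Nat.factorial_dvd_factorial (n := 4) (by simpa using hs)
  have := GL2Solv.hom_eq_one_of_solvable f ⟨k, hk⟩
  exact congrArg Subtype.val (congrArg (fun g : Perm s => g ⟨x, hx⟩) this)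

theorem exists_block {H : Subgroup (Perm α)} {t : Perm α} (ht : t.IsThreeCycle) (htH : t ∈ H) :
    ∃ Ω : Finset α, t.support ⊆ Ω ∧ altOn Ω ≤ H ∧
      ∀ s ∈ H, s.IsThreeCycle → ∀ x ∈ s.support, x ∈ Ω → s.support ⊆ Ω := by
  classical
  obtain ⟨a, ha⟩ : t.support.Nonempty := Finset.card_pos.1 (by rw [ht.card_support]; norm_num)
  obtain ⟨h1, h2, h3, h4⟩ := eq_cyc ht ha
  set b := t (t a) with hb
  set c := t a with hc
  let Ω : Finset α := Finset.univ.filter fun x => x = a ∨ x = b ∨ cyc a b x ∈ H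
  have hΩ : ∀ x, x ∈ Ω ↔ x = a ∨ x = b ∨ cyc a b x ∈ H := fun x => by simp [Ω]
  have haΩ : a ∈ Ω := (hΩ a).2 (Or.inl rfl)
  have hbΩ : b ∈ Ω := (hΩ b).2 (Or.inr (Or.inl rfl))
  have hcΩ : c ∈ Ω := (hΩ c).2 (Or.inr (Or.inr (h1 ▸ htH)))
  have hle : altOn Ω ≤ H := altOn_le haΩ hbΩ h3 fun x hx hxa hxb =>
    (((hΩ x).1 hx).resolve_left hxa).resolve_left hxb
  have hmove : ∀ y ∉ Ω, ∀ u ∈ Ω, ∀ v ∈ Ω, ∀ u' ∈ Ω, u ≠ v → u' ≠ v → cyc u v y ∈ H →
      cyc v u' y ∈ H := by
    intro y hy u hu v hv u' hu' huv hu'v h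
    have hyu : u ≠ y := fun e => hy (e ▸ hu)
    have hyv : v ≠ y := fun e => hy (e ▸ hv)
    by_cases e : u' = u
    · rw [e, cyc_swap huv hyu hyv]; exact inv_mem h
    · have hg := hle (cyc_mem_altOn hu hu' hv (Ne.symm e) huv)
      have := mul_mem (mul_mem hg h) (inv_mem hg)
      rwa [conj_cyc, cyc_apply_left huv hu'v, cyc_apply_right,
        cyc_apply_of_ne hyu.symm (fun e => hy (e ▸ hu')) hyv.symm] at this
  have hin : ∀ y, ∀ u ∈ Ω, ∀ v ∈ Ω, u ≠ v → cyc u v y ∈ H → y ∈ Ω := by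
    intro y u hu v hv huv h
    by_contra hy
    apply hy
    refine (hΩ y).2 (Or.inr (Or.inr ?_))
    by_cases e : v = a
    · exact e ▸ hmove y hy u hu v hv b hbΩ huv (e ▸ h3.symm) h
    · exact hmove y hy v hv a haΩ b hbΩ e h3.symm (hmove y hy u hu v hv a haΩ huv (Ne.symm e) h)
  have hstep : ∀ s ∈ H, s.IsThreeCycle → ∀ x ∈ s.support, x ∈ Ω → s x ∈ Ω := by
    intro s hs hs3 x hx hxΩ
    obtain ⟨e1, e2, e3, e4⟩ := eq_cyc hs3 hx
    by_cases hw : s (s x) ∈ Ω
    · exact hin _ x hxΩ _ hw e3 (e1 ▸ hs)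
    by_contra hy
    obtain ⟨u, hu, v, hv, huv, hux, hvx⟩ : ∃ u ∈ Ω, ∃ v ∈ Ω, u ≠ v ∧ u ≠ x ∧ v ≠ x := by
      by_cases ea : x = a
      · exact ⟨b, hbΩ, c, hcΩ, h4.symm, ea ▸ h3.symm, ea ▸ h2.symm⟩
      by_cases eb : x = b
      · exact ⟨a, haΩ, c, hcΩ, h2, Ne.symm ea, eb ▸ h4⟩
      · exact ⟨a, haΩ, b, hbΩ, h3, Ne.symm ea, Ne.symm eb⟩
    have hfix : ∀ w ∈ Ω, w ≠ x → s w = w := fun w hw' hwx => by
      rw [e1]
      exact cyc_apply_of_ne hwx (fun e => hw (e ▸ hw')) (fun e => hy (e ▸ hw'))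
    have := mul_mem (mul_mem hs (hle (cyc_mem_altOn hu hv hxΩ huv hux))) (inv_mem hs)
    rw [conj_cyc, hfix u hu hux, hfix v hv hvx] at this
    exact hy (hin _ u hu v hv huv this)
  refine ⟨Ω, ?_, hle, fun s hs hs3 x hx hxΩ => ?_⟩
  · rw [ht.support_eq_iff_mem_support.2 ha]
    intro x hx
    simp only [Finset.mem_insert, Finset.mem_singleton] at hx
    rcases hx with rfl | rfl | rfl <;> assumption
  · rw [hs3.support_eq_iff_mem_support.2 hx]
    have h5 := hstep s hs hs3 x hx hxΩ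
    have h6 := hstep s hs hs3 _ (apply_mem_support.2 hx) h5
    intro y hy
    simp only [Finset.mem_insert, Finset.mem_singleton] at hy
    rcases hy with rfl | rfl | rfl <;> assumption

theorem exists_third {Ω : Finset α} (h : 3 ≤ Ω.card) (x y : α) : ∃ w ∈ Ω, w ≠ x ∧ w ≠ y := by
  by_contra hc
  push Not at hc
  have : Ω ⊆ {x, y} := fun w hw => by
    by_cases e : w = x
    · simp [e]
    · simp [hc w hw e]
  have h1 := (Finset.card_le_card this).trans Finset.card_le_two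
  omega

theorem commute_of_disjoint {Ω : Finset α} {g k : Perm α} (hg : ∀ x ∈ Ω, g x = x)
    (hk : k.support ⊆ Ω) : Commute g k :=
  Perm.Disjoint.commute fun x => by
    by_cases hx : x ∈ Ω
    · exact Or.inl (hg x hx)
    · exact Or.inr (notMem_support.1 fun h => hx (hk h))

theorem subnormalIn_block {H : Subgroup (Perm α)} {Ω : Finset α} (h3 : 3 ≤ Ω.card)
    (hle : altOn Ω ≤ H)
    (hmax : ∀ s ∈ H, s.IsThreeCycle → ∀ x ∈ s.support, x ∈ Ω → s.support ⊆ Ω) :
    SubnormalIn H (altOn Ω) := by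
  refine (SubnormalIn.of_normal (le_nclIn _ H) (nclIn_le_iff.2 fun h hh => ?_)).trans
    (SubnormalIn.of_normal (nclIn_le_of_le hle) (le_normalizer_nclIn _ H))
  have hle' : altOn (Ω.map h.toEmbedding) ≤ H := conj_altOn Ω h ▸ conj_le_of_mem hle hh
  rw [conj_altOn]
  by_cases hd : ∃ x ∈ Ω.map h.toEmbedding, x ∈ Ω
  · obtain ⟨x, hx, hxΩ⟩ := hd
    have hsub : Ω.map h.toEmbedding ⊆ Ω := by
      intro y hy
      by_cases e : y = x
      · exact e ▸ hxΩ
      obtain ⟨w, hw, hwx, hwy⟩ := exists_third (Ω := Ω.map h.toEmbedding) (by simpa using h3) x y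
      have hs := isThreeCycle_cyc hwx.symm (Ne.symm e) hwy
      refine hmax _ (hle' (cyc_mem_altOn hx hw hy hwx.symm (Ne.symm e))) hs x ?_ hxΩ ?_
      · rw [mem_support, cyc_apply_left (Ne.symm e) hwy]; exact e
      · rw [mem_support, cyc_apply_right]; exact hwy
    rw [Finset.eq_of_subset_of_card_le hsub (by simp)]
    exact le_normalizer
  · push Not at hd
    refine le_normalizer_of_le_centralizer fun g hg k hk => ?_
    exact (commute_of_disjoint (fun x hx => notMem_support.1 fun h => hd x ((mem_altOn.1 hg).1 h) hx)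
      (mem_altOn.1 hk).1).eq.symm

/-- A permutation group containing a three-cycle whose generalized Fitting subgroup is quasisimple. -/
theorem exists_omega {H : Subgroup (Perm α)} (hF : IsQuasisimple (generalizedFittingSubgroup H))
    {t : Perm α} (ht : t.IsThreeCycle) (htH : t ∈ H) :
    ∃ Ω : Finset α, (generalizedFittingSubgroup H).map H.subtype = altOn Ω ∧ 5 ≤ Ω.card ∧
      (∀ h ∈ H, ∀ x ∈ Ω, h x ∈ Ω) ∧ (∀ g ∈ H, (∀ x ∈ Ω, g x = x) → g = 1) ∧
      ∀ s ∈ H, s.IsThreeCycle → s.support ⊆ Ω := by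
  obtain ⟨Ω, htΩ, hle, hmax⟩ := exists_block ht htH
  have h3 : 3 ≤ Ω.card := ht.card_support ▸ Finset.card_le_card htΩ
  set K := (generalizedFittingSubgroup H).map H.subtype with hK
  have hKp : ⁅K, K⁆ = K := by rw [hK, ← map_commutator, FStarComp.IsQuasisimple.perfect hF]
  have hC : ∀ g ∈ H, g ∈ centralizer (K : Set (Perm α)) → g ∈ K := fun g hg hc =>
    mem_map_of_mem H.subtype (FStar.centralizer_fstar_le (x := ⟨g, hg⟩)
      fun k hk => Subtype.ext (hc _ (mem_map_of_mem _ hk)))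
  have hcomp : IsComponent (generalizedFittingSubgroup H) := ⟨FStar.fstar_normal.isSubnormal, hF⟩
  have htA : t ∈ altOn Ω := mem_altOn.2 ⟨htΩ, ht.sign⟩
  have hKA : K ≤ altOn Ω := by
    rcases FStarComp.IsComponent.le_or_commutator_eq_bot hcomp
      (subnormalIn_iff.1 (subnormalIn_block h3 hle hmax)).2 with h | h
    · exact map_le_iff_le_comap.2 h
    · exfalso
      have h1 : t ∈ centralizer (K : Set (Perm α)) := by
        rintro _ ⟨k, hk, rfl⟩
        exact congrArg Subtype.val (commutator_eq_bot_iff_le_centralizer.1 h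
          (show (⟨t, htH⟩ : H) ∈ (altOn Ω).subgroupOf H from htA) k hk)
      obtain ⟨a, ha⟩ : t.support.Nonempty := Finset.card_pos.1 (by rw [ht.card_support]; norm_num)
      refine mem_support.1 ha (fix_of_perfect hKp (s := t.support)
        (by rw [ht.card_support]; norm_num) (fun k hk x hx => ?_) (hC t htH h1) ha)
      rw [mem_support] at hx ⊢
      intro e
      apply hx
      apply k.injective
      rw [← e, ← Perm.mul_apply, h1 k hk, Perm.mul_apply, e]
  have hKne : K ≠ ⊥ := fun h => FStarComp.IsQuasisimple.ne_bot hF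
    ((Subgroup.map_eq_bot_iff_of_injective _ H.subtype_injective).1 h)
  have hpres : ∀ k ∈ altOn Ω, ∀ x ∈ Ω, k x ∈ Ω := fun k hk x hx => by
    by_cases e : k x = x
    · rwa [e]
    · exact (mem_altOn.1 hk).1 (apply_mem_support.2 (mem_support.2 e))
  have h5 : 5 ≤ Ω.card := by
    by_contra h
    apply hKne
    rw [eq_bot_iff]
    intro k hk
    ext x
    by_cases hx : x ∈ Ω
    · exact fix_of_perfect hKp (by omega) (fun k hk => hpres k (hKA hk)) hk hx
    · exact notMem_support.1 fun h => hx ((mem_altOn.1 (hKA hk)).1 h)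
  have hHK : H ≤ normalizer (K : Set (Perm α)) :=
    haveI := FStar.fstar_normal (G := H)
    le_normalizer_map_subtype _
  have hKeq : K = altOn Ω := by
    haveI := isSimpleGroup_altOn h5
    rcases (normal_subgroupOf_of_le (hle.trans hHK)).eq_bot_or_eq_top with h | h
    · exact absurd ((subgroupOf_eq_bot.1 h).eq_bot_of_le hKA) hKne
    · exact le_antisymm hKA (subgroupOf_eq_top.1 h)
  have hfix : ∀ g ∈ H, (∀ x ∈ Ω, g x = x) → g = 1 := fun g hg h => by
    have h1 := hKA (hC g hg fun k hk => (commute_of_disjoint h (mem_altOn.1 (hKA hk)).1).eq.symm)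
    ext x
    by_cases hx : x ∈ Ω
    · exact h x hx
    · exact notMem_support.1 fun h => hx ((mem_altOn.1 h1).1 h)
  refine ⟨Ω, hKeq, h5, fun h hh x hx => ?_, hfix, fun s hs hs3 => ?_⟩
  · obtain ⟨y, hy, hyx, -⟩ := exists_third h3 x x
    obtain ⟨w, hw, hwx, hwy⟩ := exists_third h3 x y
    have h1 := (mem_normalizer_iff.1 (hHK hh) _).1 (hKeq.ge (cyc_mem_altOn hx hy hw hyx.symm hwx.symm))
    rw [conj_cyc] at h1
    refine (mem_altOn.1 (hKA h1)).1 (mem_support.2 ?_)
    rw [cyc_apply_left (h.injective.ne hwx.symm) (h.injective.ne hwy.symm)]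
    exact h.injective.ne hwx
  · by_contra hc
    refine hs3.ne_one (hfix s hs fun x hx => notMem_support.1 fun h => hc (hmax s hs hs3 x h hx))

end Cfsg.Agent.Lib.ThreeCyc
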