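import Cfsg.Agent.Lib.BlkLin
import Cfsg.Agent.Lib.ThreeCyc
import Cfsg.Agent.Lib.EMod
import Mathlib.GroupTheory.SpecificGroups.Alternating.Simple

/-! The even-weight permutation module of a symmetric group of odd degree. -/

set_option autoImplicit false
open Cfsg

namespace Cfsg.Agent.Lib.Blk

open Subgroup Cfsg.Agent.Lib.PCoreConj Cfsg.Agent.Lib.PCore Cfsg.Agent.Lib.PCoreResidual
open Cfsg.Agent.Lib.PushBase Cfsg.Agent.Lib.AltPres Cfsg.Agent.Lib.ThreeCyc Equiv
open scoped Pointwise commutatorElement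

variable {α : Type*} [Fintype α]

variable (α) in
/-- The even-weight vectors. -/
def Ev : Submodule (ZMod 2) (α → ZMod 2) where
  carrier := {v | ∑ i, v i = 0}
  zero_mem' := by simp
  add_mem' {a b} ha hb := by
    change ∑ i, (a i + b i) = 0
    rw [Finset.sum_add_distrib, show ∑ i, a i = 0 from ha, show ∑ i, b i = 0 from hb, add_zero]
  smul_mem' c a ha := by
    change ∑ i, c * a i = 0
    rw [← Finset.mul_sum, show ∑ i, a i = 0 from ha, mul_zero]

theorem Ev.sum (v : Ev α) : ∑ i, v.1 i = 0 := v.2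

theorem Ev.ext {u v : Ev α} (h : ∀ i, u.1 i = v.1 i) : u = v := Subtype.ext (funext h)

theorem z2_cases (x : ZMod 2) : x = 0 ∨ x = 1 := by revert x; decide

theorem z2_add_self (x : ZMod 2) : x + x = 0 := by revert x; decide

theorem Ev.add_self (v : Ev α) : v + v = 0 := Ev.ext fun i => z2_add_self (v.1 i)

theorem Ev.neg (v : Ev α) : -v = v := neg_eq_of_add_eq_zero_left (Ev.add_self v)

private def pf (σ : Perm α) (v : Ev α) : Ev α := ⟨fun i => v.1 (σ⁻¹ i), (Equiv.sum_comp σ⁻¹ v.1).trans v.2⟩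

/-- The permutation action on the even-weight module. -/
def toP : Perm α →* AutM (Ev α) where
  toFun σ := AddEquiv.toIntLinearEquiv
    { toFun := pf σ
      invFun := pf σ⁻¹
      left_inv := fun v => Ev.ext fun i => by simp [pf]
      right_inv := fun v => Ev.ext fun i => by simp [pf]
      map_add' := fun _ _ => rfl }
  map_one' := aut_ext fun _ => rfl
  map_mul' _ _ := aut_ext fun _ => rfl

theorem toP_apply (σ : Perm α) (v : Ev α) (i : α) : (toP σ v).1 i = v.1 (σ⁻¹ i) := rfl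

theorem toP_apply' (σ : Perm α) (v : Ev α) (i : α) : (toP σ v).1 (σ i) = v.1 i := by simp [toP_apply]

theorem toP_eq {σ : Perm α} {u v : Ev α} (h : ∀ i, v.1 (σ i) = u.1 i) : toP σ u = v := Ev.ext fun i => by
  obtain ⟨i, rfl⟩ := σ.surjective i
  rw [toP_apply', h]

variable (α) in
/-- The image of the symmetric group. -/
def PS : Subgroup (AutM (Ev α)) := (toP : Perm α →* _).range

variable [DecidableEq α]

variable (α) in
/-- The image of the alternating group. -/
def RS : Subgroup (AutM (Ev α)) := (alternatingGroup α).map toP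

theorem RS_le_PS : RS α ≤ PS α := map_le_range _ _

theorem PS_le_norm : PS α ≤ N(RS α) := by
  rw [PS, MonoidHom.range_eq_map]
  exact le_normalizer_map _ (normal_iff_top_le.1 inferInstance)

/-- Vectors of weight two. -/
def pr (a b : α) : Ev α := ⟨fun i => (if i = a then 1 else 0) + (if i = b then 1 else 0), by
  change ∑ i, ((if i = a then (1 : ZMod 2) else 0) + (if i = b then 1 else 0)) = 0
  rw [Finset.sum_add_distrib]
  simp [z2_add_self]⟩

theorem pr_apply (a b i : α) : (pr a b).1 i = (if i = a then 1 else 0) + (if i = b then 1 else 0) := rfl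

theorem pr_left {a b : α} (h : a ≠ b) : (pr a b).1 a = 1 := by simp [pr_apply, h]

theorem pr_right {a b : α} (h : a ≠ b) : (pr a b).1 b = 1 := by simp [pr_apply, h.symm]

theorem pr_of_ne {a b i : α} (ha : i ≠ a) (hb : i ≠ b) : (pr a b).1 i = 0 := by simp [pr_apply, ha, hb]

theorem pr_comm (a b : α) : pr a b = pr b a := Ev.ext fun _ => add_comm _ _

theorem pr_self (a : α) : pr a a = 0 := Ev.ext fun _ => z2_add_self _

theorem pr_add (a b c : α) : pr a b + pr b c = pr a c := Ev.ext fun i => by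
  simp only [Submodule.coe_add, Pi.add_apply, pr_apply]
  rw [add_assoc, ← add_assoc (if i = b then (1 : ZMod 2) else 0), z2_add_self, zero_add]

theorem toP_pr (σ : Perm α) (a b : α) : toP σ (pr a b) = pr (σ a) (σ b) := toP_eq fun i => by simp [pr_apply]

theorem pr_ne_zero {a b : α} (h : a ≠ b) : pr a b ≠ 0 := fun e => by
  have := pr_left h
  rw [e] at this
  exact zero_ne_one this

theorem eq_or_eq_of_pr {a b i : α} (h : (pr a b).1 i = 1) : i = a ∨ i = b := by
  by_contra! hc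
  rw [pr_of_ne hc.1 hc.2] at h
  exact zero_ne_one h

theorem sum_pr (a : α) (v : Ev α) : ∑ i, v.1 i • pr a i = v := Ev.ext fun j => by
  rw [Submodule.coe_sum, Finset.sum_apply]
  simp only [Submodule.coe_smul, Pi.smul_apply, pr_apply, smul_eq_mul, mul_add, Finset.sum_add_distrib]
  rw [← Finset.sum_mul, Ev.sum]
  simp

theorem eq_top_of_pr {A : AddSubgroup (Ev α)} {a : α} (h : ∀ b, pr a b ∈ A) : A = ⊤ := eq_top_iff.2 fun v _ => by
  rw [← sum_pr a v]
  refine A.sum_mem fun i _ => ?_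
  rcases z2_cases (v.1 i) with e | e <;> rw [e]
  · rw [zero_smul]; exact A.zero_mem
  · rw [one_smul]; exact h i

theorem aut_ext_pr {r s : AutM (Ev α)} (h : ∀ a b, r (pr a b) = s (pr a b)) : r = s := aut_ext fun v => by
  by_cases hv : v = 0
  · rw [hv, map_zero, map_zero]
  · obtain ⟨a, -⟩ : ∃ a, v.1 a ≠ 0 := by
      by_contra! hc
      exact hv (Ev.ext hc)
    have : v ∈ fixM (zpowers (s⁻¹ * r)) := by
      rw [eq_top_of_pr (a := a) (A := fixM (zpowers (s⁻¹ * r))) fun b t ht =>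
        zpowers_le_of_mem (H := stabM (pr a b)) (by rw [mem_stabM, aut_mul, h, aut_inv_apply]) ht]
      trivial
    conv_rhs => rw [← this _ (mem_zpowers _), aut_mul, aut_apply_inv]

theorem toP_swap (a b : α) (v : Ev α) : toP (swap a b) v = v + (v.1 a + v.1 b) • pr a b := toP_eq fun i => by
  simp only [Submodule.coe_add, Pi.add_apply, Submodule.coe_smul, Pi.smul_apply, smul_eq_mul]
  by_cases hab : a = b
  · subst hab
    simp [z2_add_self]
  by_cases ha : i = a
  · rw [ha, swap_apply_left, pr_right hab, mul_one, add_comm (v.1 a), ← add_assoc, z2_add_self, zero_add]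
  by_cases hb : i = b
  · rw [hb, swap_apply_right, pr_left hab, mul_one, ← add_assoc, z2_add_self, zero_add]
  · rw [swap_apply_of_ne_of_ne ha hb, pr_of_ne ha hb, mul_zero, add_zero]

omit [DecidableEq α] in
theorem aut_smul (r : AutM (Ev α)) (c : ZMod 2) (v : Ev α) : r (c • v) = c • r v := by
  rcases z2_cases c with rfl | rfl <;> simp

theorem toP_cyc {a b c : α} (hab : a ≠ b) (hac : a ≠ c) (hbc : b ≠ c) (v : Ev α) :
    toP (cyc a b c) v = v + (v.1 a + v.1 c) • pr b c + (v.1 a + v.1 b) • pr a b + 0 := by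
  rw [cyc, map_mul, aut_mul, toP_swap a c, map_add, toP_swap, aut_smul, toP_pr, swap_apply_left,
    swap_apply_of_ne_of_ne hac.symm hbc.symm]
  abel

theorem toP_cyc₁ {a b c : α} (hab : a ≠ b) (hac : a ≠ c) (hbc : b ≠ c) {v : Ev α} (h₁ : v.1 a ≠ v.1 b)
    (h₂ : v.1 c = v.1 a) : toP (cyc a b c) v = v + pr a b := by
  have : ∀ x y : ZMod 2, x ≠ y → x + y = 1 := by decide
  rw [toP_cyc hab hac hbc, h₂, z2_add_self, this _ _ h₁, zero_smul, one_smul, add_zero, add_zero]

section Odd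
variable (ho : Odd (Fintype.card α))

/-- Vectors of weight `n - 1`. -/
def fv (a : α) : Ev α := ⟨fun i => 1 + (if i = a then 1 else 0), by
  change ∑ i, (1 + (if i = a then (1 : ZMod 2) else 0)) = 0
  rw [Finset.sum_add_distrib]
  simp [ZMod.natCast_eq_one_iff_odd.2 ho, z2_add_self]⟩

theorem fv_apply (a i : α) : (fv ho a).1 i = 1 + (if i = a then 1 else 0) := rfl

theorem fv_self (a : α) : (fv ho a).1 a = 0 := by simp [fv_apply, z2_add_self]

theorem fv_of_ne {a i : α} (h : i ≠ a) : (fv ho a).1 i = 1 := by simp [fv_apply, h]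

theorem fv_injective : Function.Injective (fv ho) := fun a b e => by
  by_contra h
  have := fv_of_ne ho h
  rw [← e, fv_self] at this
  exact zero_ne_one this

theorem fv_add (a b : α) : fv ho a + fv ho b = pr a b := Ev.ext fun i => by
  simp only [Submodule.coe_add, Pi.add_apply, fv_apply, pr_apply]
  rw [add_add_add_comm, z2_add_self, zero_add]

theorem toP_fv (σ : Perm α) (a : α) : toP σ (fv ho a) = fv ho (σ a) := toP_eq fun i => by simp [fv_apply]

theorem sum_fv (v : Ev α) : ∑ i, v.1 i • fv ho i = v := Ev.ext fun j => by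
  rw [Submodule.coe_sum, Finset.sum_apply]
  simp only [Submodule.coe_smul, Pi.smul_apply, fv_apply, smul_eq_mul, mul_add, Finset.sum_add_distrib, mul_one]
  rw [Ev.sum]
  simp

include ho in
theorem toP_injective : Function.Injective (toP : Perm α →* _) := fun σ τ e =>
  Equiv.ext fun a => fv_injective ho (by rw [← toP_fv, ← toP_fv, e])

theorem mem_PS_of {r : AutM (Ev α)} (h : ∀ i, ∃ j, r (fv ho i) = fv ho j) : r ∈ PS α := by
  choose f hf using h
  have hi : Function.Injective f := fun a b e => fv_injective ho (r.injective (by rw [hf, hf, e]))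
  refine ⟨Equiv.ofBijective f (Finite.injective_iff_bijective.1 hi), aut_ext_pr fun a b => ?_⟩
  rw [toP_pr, ← fv_add ho, ← fv_add ho, map_add, hf, hf]
  rfl

include ho in
theorem exists_zero (v : Ev α) : ∃ b, v.1 b = 0 := by
  by_contra! hc
  have := Ev.sum v
  rw [Finset.sum_congr rfl fun i _ => (z2_cases (v.1 i)).resolve_left (hc i)] at this
  simp [ZMod.natCast_eq_one_iff_odd.2 ho] at this

omit [DecidableEq α] in
theorem exists_one {v : Ev α} (hv : v ≠ 0) : ∃ a, v.1 a = 1 := by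
  by_contra! hc
  exact hv (Ev.ext fun i => (z2_cases _).resolve_right (hc i))

theorem exists_one' {v : Ev α} {a : α} (ha : v.1 a = 1) : ∃ a', a' ≠ a ∧ v.1 a' = 1 := by
  by_contra! hc
  have := Ev.sum v
  rw [Finset.sum_eq_single a (fun i _ hi => (z2_cases _).resolve_right (hc i hi)) (by simp), ha] at this
  exact one_ne_zero this

theorem eq_fv {v : Ev α} {b : α} (hb : v.1 b = 0) (h : ∀ i, v.1 i = 0 → i = b) : v = fv ho b := Ev.ext fun i => by
  by_cases hi : i = b
  · rw [hi, hb, fv_self]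
  · rw [fv_of_ne ho hi, (z2_cases _).resolve_left fun e => hi (h i e)]

theorem cyc_mem_RS {a b c : α} (hab : a ≠ b) (hac : a ≠ c) : toP (cyc a b c) ∈ RS α := mem_map_of_mem _ (cyc_mem hab hac)

variable (h3 : 3 ≤ Fintype.card α)

omit [DecidableEq α] in
include h3 in
theorem exists_third' (x y : α) : ∃ w, w ≠ x ∧ w ≠ y := by
  classical
  obtain ⟨w, -, h⟩ := exists_third (Ω := Finset.univ) h3 x y
  exact ⟨w, h⟩

include h3 in
theorem fv_ne_zero (a : α) : fv ho a ≠ 0 := fun e => by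
  obtain ⟨w, hw, -⟩ := exists_third' h3 a a
  have := fv_of_ne ho hw
  rw [e] at this
  exact zero_ne_one this

include h3 in
theorem exists_alt (a b : α) : ∃ σ ∈ alternatingGroup α, σ a = b := by
  by_cases h : a = b
  · exact ⟨1, one_mem _, h⟩
  · obtain ⟨w, h₁, h₂⟩ := exists_third' h3 a b
    exact ⟨cyc a w b, cyc_mem h₁.symm h, cyc_apply_left h h₂⟩

include ho h3 in
theorem norm_le_PS : (N(RS α) : Subgroup _) ≤ PS α := fun r hr => mem_PS_of ho fun i => by
  obtain ⟨b, hb⟩ := exists_zero ho (r (fv ho i))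
  refine ⟨b, eq_fv ho hb fun b' hb' => ?_⟩
  by_contra hne
  obtain ⟨a, ha⟩ := exists_one (v := r (fv ho i)) fun e => fv_ne_zero ho h3 i (r.map_eq_zero_iff.1 e)
  obtain ⟨a', ha', ha''⟩ := exists_one' ha
  have key : ∀ x x' y, x' ≠ x → (r (fv ho i)).1 x = 1 → (r (fv ho i)).1 x' = 1 → (r (fv ho i)).1 y = 0 →
      ∃ j, r (fv ho j) = r (fv ho i) + pr x y := fun x x' y h hx hx' hy => by
    have n₁ : x ≠ y := fun e => zero_ne_one (hy.symm.trans (e ▸ hx))
    have n₂ : y ≠ x' := fun e => zero_ne_one (hy.symm.trans (e ▸ hx'))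
    obtain ⟨σ, -, e⟩ := conj_mem_of_norm (inv_mem hr) (cyc_mem_RS n₁ h.symm)
    refine ⟨σ i, ?_⟩
    rw [← toP_fv, e, ← toP_cyc₁ n₁ h.symm n₂ (by rw [hx, hy]; exact one_ne_zero) (hx'.trans hx.symm)]
    simp only [inv_inv, aut_mul, aut_apply_inv]
  obtain ⟨j₁, e₁⟩ := key a a' b ha' ha ha'' hb
  obtain ⟨j₂, e₂⟩ := key a a' b' ha' ha ha'' hb'
  obtain ⟨j₃, e₃⟩ := key a' a b ha'.symm ha'' ha hb
  obtain ⟨j₄, e₄⟩ := key a' a b' ha'.symm ha'' ha hb'
  have nab : a ≠ b := fun e => zero_ne_one (hb.symm.trans (e ▸ ha))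
  have nab' : a ≠ b' := fun e => zero_ne_one (hb'.symm.trans (e ▸ ha))
  have nb : b ≠ a' := fun e => zero_ne_one (hb.symm.trans (e ▸ ha''))
  have k : ∀ {j j' x y}, r (fv ho j) = r (fv ho i) + pr x y → j₁ = j → (pr x y).1 j' = (pr a b).1 j' :=
    fun h e => by rw [← e, e₁, add_right_inj] at h; rw [h]
  have n₂ : j₁ ≠ j₂ := fun e => by
    have := k (j := j₂) (j' := b) e₂ e
    rw [pr_right nab, pr_of_ne nab.symm (Ne.symm hne)] at this
    exact zero_ne_one this
  have n₃ : j₁ ≠ j₃ := fun e => by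
    have := k (j := j₃) (j' := a) e₃ e
    rw [pr_left nab, pr_of_ne ha'.symm nab] at this
    exact zero_ne_one this
  have n₄ : j₁ ≠ j₄ := fun e => by
    have := k (j := j₄) (j' := a) e₄ e
    rw [pr_left nab, pr_of_ne ha'.symm nab'] at this
    exact zero_ne_one this
  have t : ∀ x, r (fv ho i) + pr x b + (r (fv ho i) + pr x b') = pr b b' := fun x => by
    rw [add_add_add_comm, Ev.add_self, zero_add, pr_comm x, pr_add]
  have : pr j₁ j₂ = pr j₃ j₄ := r.injective (by
    rw [← fv_add ho, ← fv_add ho, map_add, map_add, e₁, e₂, e₃, e₄, t, t])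
  have h := pr_left n₂
  rw [this, pr_of_ne n₃ n₄] at h
  exact zero_ne_one h

include ho h3 in
theorem RS_irr (A : AddSubgroup (Ev α)) (h : ∀ r ∈ RS α, ∀ m ∈ A, r m ∈ A) : A = ⊥ ∨ A = ⊤ := by
  refine (AddSubgroup.bot_or_exists_ne_zero A).imp_right fun ⟨v, hv, h0⟩ => ?_
  obtain ⟨a, ha⟩ := exists_one h0
  obtain ⟨c, hc, hc'⟩ := exists_one' ha
  obtain ⟨b, hb⟩ := exists_zero ho v
  have n₁ : a ≠ b := fun e => zero_ne_one (hb.symm.trans (e ▸ ha))
  have n₂ : b ≠ c := fun e => zero_ne_one (hb.symm.trans (e ▸ hc'))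
  have h₁ : pr a b ∈ A := by
    have := A.sub_mem (h _ (cyc_mem_RS n₁ hc.symm) v hv) hv
    rwa [toP_cyc₁ n₁ hc.symm n₂ (by rw [ha, hb]; exact one_ne_zero) (hc'.trans ha.symm), add_sub_cancel_left] at this
  refine eq_top_of_pr (a := a) fun z => ?_
  by_cases hz : z = a
  · rw [hz, pr_self]; exact A.zero_mem
  by_cases hz' : z = b
  · rwa [hz']
  have := h _ (cyc_mem_RS n₁ (Ne.symm hz)) _ h₁
  rwa [toP_pr, cyc_apply_left (Ne.symm hz) (Ne.symm hz'), cyc_apply_mid n₁ (Ne.symm hz'), pr_comm] at this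

omit [DecidableEq α] in
theorem card_Ev [Nonempty α] : Nat.card (Ev α) * 2 = 2 ^ Fintype.card α := by
  classical
  let f : (α → ZMod 2) →+ ZMod 2 := ⟨⟨fun v => ∑ i, v i, by simp⟩, fun a b => Finset.sum_add_distrib⟩
  have hf : Function.Surjective f := fun x => ⟨Pi.single (Classical.arbitrary α) x, by simp [f]⟩
  have := AddSubgroup.card_eq_card_quotient_mul_card_addSubgroup f.ker
  rw [Nat.card_congr (QuotientAddGroup.quotientKerEquivOfSurjective f hf).toEquiv, Nat.card_fun, Nat.card_zmod,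
    Nat.card_eq_fintype_card (α := α)] at this
  rw [this, mul_comm]
  rfl

include ho in
theorem mem_RS_of_coprime {r : AutM (Ev α)} (hr : r ∈ PS α) (h : (orderOf r).Coprime 2) : r ∈ RS α := by
  obtain ⟨σ, rfl⟩ := hr
  rw [orderOf_injective _ (toP_injective ho)] at h
  refine mem_map_of_mem _ (mem_of_pow_mem_of_coprime h ?_)
  rw [Perm.mem_alternatingGroup, map_pow, Int.units_sq]

include ho in
theorem perf_sym (h : 5 ≤ Fintype.card α) : Perf 2 (RS α) where
  perf := by rw [RS, ← map_commutator, commutator_alternatingGroup_eq_self (Nat.card_eq_fintype_card (α := α) ▸ h)]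
  quasi K hK hn := by
    haveI := alternatingGroup.isSimpleGroup (Nat.card_eq_fintype_card (α := α) ▸ h)
    let f := toP.comp (alternatingGroup α).subtype
    have e : f.range = RS α := by rw [MonoidHom.range_comp, range_subtype, RS]
    haveI : (K.comap f).Normal := ⟨fun k hk g => by
      rw [mem_comap, map_mul, map_mul, map_inv]
      exact conj_mem_of_norm (hn (e.le ⟨g, rfl⟩)) hk⟩
    have e' : (K.comap f).map f = K := map_comap_eq_self (hK.trans e.ge)
    rcases IsSimpleGroup.eq_bot_or_eq_top_of_normal (K.comap f) inferInstance with h | h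
    · right
      rw [← e', h, Subgroup.map_bot, commutator_bot_left]
    · left
      rw [← e', h, ← MonoidHom.range_eq_map, e]
  elt := by
    obtain ⟨s, -, hs⟩ := Finset.exists_subset_card_eq (s := (Finset.univ : Finset α)) (n := 4) (by rw [Finset.card_univ]; omega)
    obtain ⟨a, b, c, d, hab, hac, had, hbc, hbd, hcd, -⟩ := Finset.card_eq_four.1 hs
    refine ⟨toP (swap a b * swap c d), mem_map_of_mem _ (by simp [Perm.mem_alternatingGroup, hab, hcd]), fun e => ?_, ?_⟩
    · have := congrArg (fun σ : Perm α => σ a) (toP_injective ho (e.trans (map_one toP).symm))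
      simp [swap_apply_of_ne_of_ne hac had] at this
      exact hab this.symm
    · have hc : swap c d * swap a b = swap a b * swap c d := by
        rw [mul_swap_eq_swap_mul, swap_apply_of_ne_of_ne hac had, swap_apply_of_ne_of_ne hbc hbd]
      rw [← map_pow, pow_two, mul_assoc, ← mul_assoc (swap c d), hc]
      simp

include ho in
theorem small_sym (h : Fintype.card α = 3) : Small 2 (RS α) where
  card := by
    haveI : Nonempty α := Fintype.card_pos_iff.1 (by omega)
    have := card_Ev (α := α)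
    rw [h] at this
    omega
  mem r := by
    haveI : Nontrivial α := Fintype.one_lt_card_iff_nontrivial.1 (by omega)
    refine ⟨?_, fun hr => ?_⟩
    · rintro ⟨σ, hσ, rfl⟩
      have hc : Nat.card (alternatingGroup α) = 3 := by
        rw [nat_card_alternatingGroup, Nat.card_eq_fintype_card, h]; rfl
      have := congrArg Subtype.val (pow_card_eq_one' (x := (⟨σ, hσ⟩ : alternatingGroup α)))
      rw [hc] at this
      exact Or.inl ⟨rfl, by rw [← map_pow, show σ ^ 3 = 1 from this, map_one]⟩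
    · obtain ⟨n, hn, e⟩ := hr.pow
      refine mem_RS_of_coprime ho (mem_PS_of ho fun i => ?_) (hn.coprime_dvd_left (orderOf_dvd_of_pow_eq_one e))
      obtain ⟨b, hb⟩ := exists_zero ho (r (fv ho i))
      refine ⟨b, eq_fv ho hb fun b' hb' => ?_⟩
      obtain ⟨a, ha⟩ := exists_one (v := r (fv ho i)) fun e => fv_ne_zero ho h.ge i (r.map_eq_zero_iff.1 e)
      obtain ⟨a', ha', ha''⟩ := exists_one' ha
      by_contra hne
      have : ({a, a', b, b'} : Finset α).card = 4 := Finset.card_eq_four.2 ⟨a, a', b, b', ha'.symm,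
        fun e => zero_ne_one (hb.symm.trans (e ▸ ha)), fun e => zero_ne_one (hb'.symm.trans (e ▸ ha)),
        fun e => zero_ne_one (hb.symm.trans (e ▸ ha'')), fun e => zero_ne_one (hb'.symm.trans (e ▸ ha'')),
        Ne.symm hne, rfl⟩
      have h₂ := Finset.card_le_univ ({a, a', b, b'} : Finset α)
      omega

include ho in
theorem exists_fixed_pt {A : Subgroup (Perm α)} (hA : IsPGroup 2 A) : ∃ z, ∀ a ∈ A, a z = z := by
  obtain ⟨z, hz⟩ := hA.nonempty_fixed_point_of_prime_not_dvd_card α (by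
    rw [Nat.card_eq_fintype_card]
    exact ho.not_two_dvd_nat)
  exact ⟨z, fun a ha => hz ⟨a, ha⟩⟩

include ho in
theorem k1_perm {A : Subgroup (Perm α)} (he : IsElementaryAbelian 2 A) :
    Nat.card A * Nat.card (fixM (A.map toP)) ≤ Nat.card (Ev α) ∧
      (Nat.card (Ev α) ≤ Nat.card A * Nat.card (fixM (A.map toP)) → ∀ a ∈ A, ∀ x, a x ≠ x → swap x (a x) ∈ A) := by
  obtain ⟨z, hz⟩ := exists_fixed_pt ho (isPGroup_of_isElementaryAbelian he)
  let o : α → α := fun x => (Quotient.mk (MulAction.orbitRel A α) x).out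
  have o₁ : ∀ x, ∃ a ∈ A, a (o x) = x := fun x => by
    obtain ⟨a, e⟩ := (MulAction.orbitRel A α).symm (Quotient.mk_out (s := MulAction.orbitRel A α) x)
    exact ⟨a, a.2, e⟩
  have o₂ : ∀ a ∈ A, ∀ x, o (a x) = o x := fun a ha x =>
    congrArg Quotient.out (Quotient.sound (s := MulAction.orbitRel A α) ⟨⟨a, ha⟩, rfl⟩)
  have o₃ : ∀ x, o (o x) = o x := fun x => by
    obtain ⟨a, ha, e⟩ := o₁ x
    conv_rhs => rw [← e, o₂ a ha]
  have oz : ∀ x, o x = z → x = z := fun x h => by
    obtain ⟨a, ha, e⟩ := o₁ x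
    rw [← e, h, hz a ha]
  let u : Perm α → α → ZMod 2 := fun a x => if x = a (o x) ∧ x ≠ o x then 1 else 0
  have u₁ : ∀ a x, u a (o x) = 0 := fun a x => if_neg fun h => h.2 (o₃ x).symm
  have u₂ : ∀ a x, u a x = 1 ↔ x = a (o x) ∧ x ≠ o x := fun a x => by
    by_cases h : x = a (o x) ∧ x ≠ o x
    · exact ⟨fun _ => h, fun _ => if_pos h⟩
    · exact ⟨fun e => absurd ((if_neg h).symm.trans e) zero_ne_one, fun e => absurd e h⟩
  let v : Perm α → Ev α := fun a => ∑ i, u a i • pr z i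
  have v₁ : ∀ a x, x ≠ z → (v a).1 x = u a x := fun a x hx => by
    simp only [v, Submodule.coe_sum, Finset.sum_apply, Submodule.coe_smul, Pi.smul_apply, pr_apply, smul_eq_mul,
      if_neg hx, zero_add]
    simp
  have c₁ : ∀ c ∈ fixM (A.map toP), ∀ x, c.1 x = c.1 (o x) := fun c hc x => by
    obtain ⟨a, ha, e⟩ := o₁ x
    conv_lhs => rw [← e, ← hc _ (mem_map_of_mem toP ha), toP_apply']
  have key : ∀ a ∈ A, ∀ b ∈ A, (∀ x, x ≠ z → u a x = u b x) → ∀ x, a (o x) ≠ o x → a (o x) = b (o x) :=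
    fun a ha b hb h x hx => by
      have n : a (o x) ≠ z := fun e => hx (by
        have : o x = z := by rw [← hz a ha] at e; exact a.injective e
        rw [this, hz a ha])
      have := (u₂ a (a (o x))).2 ⟨by rw [o₂ a ha, o₃], by rw [o₂ a ha, o₃]; exact hx⟩
      rw [h _ n, u₂, o₂ a ha, o₃] at this
      exact this.1
  let f : A × fixM (A.map toP) → Ev α := fun y => y.2.1 + v y.1
  have hf : Function.Injective f := fun ⟨a, c⟩ ⟨b, d⟩ e => by
    have e₀ : c.1 + v a = d.1 + v b := e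
    have e₁ : ∀ x, x ≠ z → c.1.1 x + u a x = d.1.1 x + u b x := fun x hx => by
      rw [← v₁ a x hx, ← v₁ b x hx]
      exact congrArg (fun w : Ev α => w.1 x) e₀
    have e₂ : ∀ x, x ≠ z → u a x = u b x := fun x hx => by
      have h₁ := e₁ x hx
      have h₂ := e₁ (o x) fun e => hx (oz x e)
      rw [u₁, u₁, add_zero, add_zero, ← c₁ _ c.2, ← c₁ _ d.2] at h₂
      rwa [h₂, add_right_inj] at h₁
    have e₃ : a = b := Subtype.ext (Equiv.ext fun x => by
      have k : a.1 (o x) = b.1 (o x) := by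
        by_cases h₁ : a.1 (o x) = o x
        · by_cases h₂ : b.1 (o x) = o x
          · rw [h₁, h₂]
          · exact (key _ b.2 _ a.2 (fun x hx => (e₂ x hx).symm) x h₂).symm
        · exact key _ a.2 _ b.2 e₂ x h₁
      obtain ⟨g, hg, e⟩ := o₁ x
      have cm := isMulCommutative_iff_forall.1 he.1
      rw [← e, ← Perm.mul_apply, ← Perm.mul_apply, cm _ a.2 _ hg, cm _ b.2 _ hg, Perm.mul_apply, Perm.mul_apply, k])
    subst e₃
    exact Prod.ext rfl (Subtype.ext (add_right_cancel e₀))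
  rw [← Nat.card_prod]
  refine ⟨Nat.card_le_card_of_injective f hf, fun hc a ha x hx => ?_⟩
  have hs := (hf.bijective_of_nat_card_le hc).2
  have S : ∀ y y', y ≠ o y → (y' = z ∨ y' ≠ o y') → ∃ b ∈ A, ∀ w, w ≠ z → u b w = (pr y y').1 w := fun y y' h h' => by
    obtain ⟨⟨b, c⟩, e⟩ := hs (pr y y')
    have e₁ : ∀ w, w ≠ z → c.1.1 w + u b w = (pr y y').1 w := fun w hw => by
      rw [← v₁ b w hw]
      exact congrArg (fun t : Ev α => t.1 w) e
    refine ⟨b, b.2, fun w hw => ?_⟩
    have hw' : o w ≠ z := fun e => hw (oz w e)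
    have := e₁ (o w) hw'
    rw [u₁, add_zero, ← c₁ _ c.2, pr_of_ne (fun e => h (by rw [← e, o₃]))
      (fun e => h'.elim (fun e' => hw' (e.trans e')) fun e' => e' (by rw [← e, o₃]))] at this
    rw [← e₁ w hw, this, zero_add]
  have nz : ∀ y, y ≠ o y → y ≠ z := fun y h e => h (by
    obtain ⟨g, hg, e'⟩ := o₁ z
    rw [e, ← g.injective.eq_iff, e', hz g hg])
  have T : ∀ y y', y ≠ o y → y' ≠ o y' → o y = o y' → y = y' := fun y y' h h' e => by
    by_contra hne
    obtain ⟨b, -, hb⟩ := S y y' h (Or.inr h')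
    have h₁ := (u₂ b y).1 ((hb y (nz y h)).trans (pr_left hne))
    have h₂ := (u₂ b y').1 ((hb y' (nz y' h')).trans (pr_right hne))
    exact hne (by rw [h₁.1, h₂.1, e])
  have R : ∀ y, y ≠ o y → swap (o y) y ∈ A := fun y h => by
    obtain ⟨b, hb, hb'⟩ := S y z h (Or.inl rfl)
    have h₁ := ((u₂ b y).1 ((hb' y (nz y h)).trans (pr_left (nz y h)))).1
    convert hb using 1
    refine Equiv.ext fun w => ?_
    by_cases h₂ : w = o y
    · rw [h₂, swap_apply_left, ← h₁]
    by_cases h₃ : w = y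
    · rw [h₃, swap_apply_right]
      conv_rhs => rw [h₁, ← Perm.mul_apply, ← pow_two, he.2 b hb, Perm.one_apply]
    rw [swap_apply_of_ne_of_ne h₂ h₃]
    have k : b (o w) = o w := by
      by_contra hk
      have hk' : b (o w) ≠ o (b (o w)) := by rwa [o₂ b hb, o₃]
      have := (u₂ b (b (o w))).2 ⟨by rw [o₂ b hb, o₃], hk'⟩
      rw [hb' _ (nz _ hk')] at this
      have e := (eq_or_eq_of_pr this).resolve_right (nz _ hk')
      have e' : o y = o w := by rw [← e, o₂ b hb, o₃]
      exact h₃ (T w y (e' ▸ h₂) h e'.symm)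
    obtain ⟨g, hg, e⟩ := o₁ w
    rw [← e, ← Perm.mul_apply, isMulCommutative_iff_forall.1 he.1 _ hb _ hg, Perm.mul_apply, k]
  by_cases h : x = o x
  · have := R (a x) (by rwa [o₂ a ha, ← h])
    rwa [o₂ a ha, ← h] at this
  · have e : a x = o x := by
      by_contra h'
      exact hx (T _ _ (by rwa [o₂ a ha]) h (o₂ a ha x))
    rw [e, swap_comm]
    exact R x h

include ho h3 in
theorem exists_map_eq {A : Subgroup (AutM (Ev α))} (hA : A ≤ N(RS α)) : ∃ A' : Subgroup (Perm α), A'.map toP = A :=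
  ⟨A.comap toP, map_comap_eq_self (hA.trans (norm_le_PS ho h3))⟩

include ho in
theorem elem_of_map {A : Subgroup (Perm α)} (h : IsElementaryAbelian 2 (A.map toP)) : IsElementaryAbelian 2 A :=
  ThompsonJ.abExp_iff_isElementaryAbelian.1 ((ThompsonJ.abExp_iff_isElementaryAbelian.2 h).of_map
    (ThompsonJ.inf_ker_of_injective (toP_injective ho) A))

include ho h3 in
theorem model_sym : Model 2 (RS α) where
  fin := inferInstance
  tors m := by rw [two_nsmul, Ev.add_self]
  irr := RS_irr ho h3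
  big := by
    obtain ⟨a, b, c, hab, hac, hbc⟩ := Fintype.two_lt_card_iff.1 h3
    have key : ∀ x, ∃ r ∈ RS α, r (fv ho a) = fv ho x := fun x => by
      obtain ⟨σ, hσ, rfl⟩ := exists_alt h3 a x
      exact ⟨_, mem_map_of_mem _ hσ, toP_fv ho σ a⟩
    exact two_lt_card ((fv_injective ho).ne hab) ((fv_injective ho).ne hac) ((fv_injective ho).ne hbc)
      (key a) (key b) (key c)
  sq := by
    haveI : Nonempty α := Fintype.card_pos_iff.1 (by omega)
    have := card_Ev (α := α)
    have h := Nat.pow_le_pow_right two_pos h3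
    omega
  cases := by
    obtain ⟨k, hk⟩ := id ho
    rcases (by omega : Fintype.card α = 3 ∨ 5 ≤ Fintype.card α) with h | h
    exacts [Or.inr (small_sym ho h), Or.inl (perf_sym ho h)]
  k1 A hA he := by
    obtain ⟨A, rfl⟩ := exists_map_eq ho h3 hA
    rw [card_map_of_injective (toP_injective ho)]
    exact (k1_perm ho (elem_of_map ho he)).1

section Grp
open EMod
variable {G : Type*} [Group G] {E W Z : Subgroup G}

include ho h3 in
/-- The even-weight module has no non-split central extension. -/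
theorem eq_bot_sym (a : ActS (RS α) E W Z) (hW : IsElementaryAbelian 2 W) (hZ : Z ≤ C(E))
    (hf : E ⊓ rel Z W ≤ C(W)) (hc : W ≤ ⁅W, E⁆) : Z = ⊥ := by
  obtain ⟨i₀, j₀, k₀, hij, h₁, h₂⟩ := Fintype.two_lt_card_iff.1 h3
  obtain ⟨w₀, hw₀, e₀⟩ := a.onto (fv ho k₀)
  have hn : ∀ {e}, e ∈ E → e ∈ (N(W) : Subgroup G) := fun he => (a.norm he).1
  have ker : ∀ e ∈ E, ∀ e' ∈ E, a.θ e = a.θ e' → ∀ w ∈ W, e' * w * e'⁻¹ = e * w * e⁻¹ := fun e he e' he' h w hw => by
    have := conj_eq_of_cent (hf ⟨E.mul_mem (E.inv_mem he) he', (a.θ_eq_iff (a.norm he) (a.norm he')).1 h⟩) hw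
    conv_rhs => rw [← this]
    group
  let H : Subgroup (Perm α) :=
    { carrier := {σ | ∃ e ∈ E, a.θ e = toP σ ∧ e * w₀ * e⁻¹ = w₀}
      one_mem' := ⟨1, one_mem _, by rw [a.θ_one, map_one], by group⟩
      mul_mem' := by
        rintro σ τ ⟨e, he, h, h'⟩ ⟨f, hf, k, k'⟩
        refine ⟨e * f, mul_mem he hf, by rw [a.θ_mul (a.norm he) (a.norm hf), h, k, map_mul], ?_⟩
        conv_rhs => rw [← h', ← k']
        group
      inv_mem' := by
        rintro σ ⟨e, he, h, h'⟩
        refine ⟨e⁻¹, inv_mem he, by rw [a.θ_inv (a.norm he), h, map_inv], ?_⟩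
        conv_lhs => rw [← h']
        group }
  have hH : altOn (Finset.univ.erase k₀) ≤ H := by
    refine altOn_le (a := i₀) (b := j₀) (by simp [h₁]) (by simp [h₂]) hij fun c hc n₁ n₂ => ?_
    have hc' : k₀ ≠ c := (Finset.ne_of_mem_erase hc).symm
    obtain ⟨e, he, h⟩ := a.exists_θ (cyc_mem_RS hij n₁.symm)
    refine ⟨e, he, h, ?_⟩
    have hz : ⁅w₀, e⁆ ∈ Z := (a.fix_iff (a.norm he) hw₀).1 (by
      rw [h, e₀, toP_fv, cyc_apply_of_ne h₁.symm h₂.symm hc'])
    have t₁ := conj_eq_comm e w₀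
    have t₂ := conj_eq_of_cent' (hZ (inv_mem hz)) he
    have t₃ := ker 1 (one_mem _) (e ^ 3) (pow_mem he 3) (by
      rw [a.θ_one, a.θ_pow (a.norm he), h, ← map_pow, cyc_pow_three hij n₁.symm n₂.symm, map_one]) w₀ hw₀
    have t₄ := hW.2 _ (inv_mem (a.le hz))
    generalize ⁅w₀, e⁆⁻¹ = z at t₁ t₂ t₄
    have t₅ : e ^ 3 * w₀ * (e ^ 3)⁻¹ = z ^ 2 * z * w₀ := by
      have t₆ : ∀ y, e * (z * y) * e⁻¹ = z * (e * y * e⁻¹) := fun y => by
        conv_rhs => rw [← t₂]
        group
      calc _ = e * (e * (e * w₀ * e⁻¹) * e⁻¹) * e⁻¹ := by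
            simp only [pow_succ, pow_zero, one_mul, mul_inv_rev, mul_assoc]
        _ = _ := by rw [t₁, t₆, t₁, t₆, t₆, t₁, pow_two, mul_assoc, mul_assoc]
    rw [t₁, ← one_mul z, ← t₄, ← t₅, t₃]
    group
  choose τ hτ hτ' using exists_alt h3 k₀
  choose g hg hg' using fun j => a.exists_θ (mem_map_of_mem toP (hτ j))
  let w : α → EM hW := fun j => mk hW (g j * w₀ * (g j)⁻¹) (conj_mem_of_norm (hn (hg j)) hw₀)
  have hw : ∀ j, a.ψ (w j).val = fv ho j := fun j => by
    rw [val_mk, ← a.θ_ψ (a.norm (hg j)) hw₀, hg', e₀, toP_fv, hτ']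
  have hw' : ∀ e (he : e ∈ E) (σ : Perm α), σ ∈ alternatingGroup α → a.θ e = toP σ → ∀ j,
      act hW e (hn he) (w j) = w (σ j) := fun e he σ hσ h j => by
    have m : (τ (σ j))⁻¹ * σ * τ j ∈ altOn (Finset.univ.erase k₀) := mem_altOn.2 ⟨fun x hx => by
      rw [Finset.mem_erase, and_iff_left (Finset.mem_univ x)]
      rintro rfl
      exact Perm.mem_support.1 hx (by rw [Perm.mul_apply, Perm.mul_apply, hτ', Perm.inv_eq_iff_eq, hτ']),
      Perm.mem_alternatingGroup.1 (mul_mem (mul_mem (inv_mem (hτ _)) hσ) (hτ _))⟩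
    obtain ⟨f, hf, k, k'⟩ := hH m
    have := ker f hf ((g (σ j))⁻¹ * e * g j) (mul_mem (mul_mem (inv_mem (hg _)) he) (hg _)) (by
      rw [k, a.θ_mul (a.norm (mul_mem (inv_mem (hg _)) he)) (a.norm (hg _)), a.θ_mul (a.norm (inv_mem (hg _))) (a.norm he),
        a.θ_inv (a.norm (hg _)), hg', hg', h, map_mul, map_mul, map_inv]) w₀ hw₀
    refine EMod.ext ?_
    rw [val_act, val_mk, val_mk]
    conv_rhs => rw [← k', ← this]
    group
  let ψ' : EM hW →+ Ev α := ⟨⟨fun x => a.ψ x.val, a.one⟩, fun x y => a.add _ (val_mem x) _ (val_mem y)⟩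
  let Φ : Ev α →+ EM hW := ⟨⟨fun v => ∑ i, v.1 i • w i, by simp⟩, fun u v => by
    simp [add_smul, Finset.sum_add_distrib]⟩
  have hΦ : ∀ v, ψ' (Φ v) = v := fun v => by
    change ψ' (∑ i, v.1 i • w i) = v
    rw [map_sum]
    conv_rhs => rw [← sum_fv ho v]
    exact Finset.sum_congr rfl fun i _ => by rw [ZMod.map_smul]; exact congrArg _ (hw i)
  let ρ : EM hW →+ EM hW := AddMonoidHom.id _ - Φ.comp ψ'
  have hρ : ∀ x, ρ x = x - Φ (ψ' x) := fun _ => rfl
  have hρ' : ∀ e (he : e ∈ E) x, ρ (act hW e (hn he) x) = ρ x := fun e he x => by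
    obtain ⟨σ, hσ, h⟩ := a.θ_mem' he
    have e₁ : ψ' (act hW e (hn he) x) = toP σ (ψ' x) := by rw [h]; exact (a.θ_ψ (a.norm he) (val_mem x)).symm
    have e₂ : Φ (toP σ (ψ' x)) = act hW e (hn he) (Φ (ψ' x)) := by
      change ∑ i, _ = act hW e (hn he) (∑ i, (ψ' x).1 i • w i)
      rw [map_sum, ← Equiv.sum_comp σ]
      exact Finset.sum_congr rfl fun i _ => by rw [map_smul, hw' e he σ hσ h.symm, toP_apply']
    rw [hρ, e₁, e₂, ← map_sub, ← hρ]
    refine EMod.ext ?_
    rw [val_act]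
    refine conj_eq_of_cent' (hZ ((a.ker _ (val_mem _)).1 ?_)) he
    change ψ' (ρ x) = 0
    rw [hρ, map_sub, hΦ, sub_self]
  have hK : ⁅W, E⁆ ≤ toSub (AddSubgroup.toZModSubmodule 2 ρ.ker) := commutator_le.2 fun u hu e he => by
    refine mem_toSub.2 ⟨mk hW u hu - act hW e (hn he) (mk hW u hu), ?_, ?_⟩
    · change ρ _ = 0
      rw [map_sub, hρ' e he, sub_self]
    · rw [val_sub, val_act, val_mk, commutatorElement_def]
      group
  refine eq_bot_iff.2 fun z hz => ?_
  obtain ⟨x, hx, rfl⟩ := mem_toSub.1 (hK (hc (a.le hz)))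
  have hx' : ρ x = 0 := hx
  rw [hρ, show ψ' x = 0 from a.zero hz, map_zero, sub_zero] at hx'
  rw [hx']
  exact one_mem _

end Grp

end Odd

end Cfsg.Agent.Lib.Blk
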