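import Cfsg.Agent.Lib.CgSym

/-! The minimal counterexample: blocks of symmetric type. -/

set_option autoImplicit false
open Cfsg

namespace Cfsg.Agent.Lib.Blk

open Subgroup Cfsg.Agent.Lib.PCoreConj Cfsg.Agent.Lib.PCore Cfsg.Agent.Lib.PCoreResidual Cfsg.Agent.Lib.PCoreMod
open Cfsg.Agent.Lib.ThompsonJ Cfsg.Agent.Lib.PushBase Cfsg.Agent.Lib.PIrred Equiv
open scoped Pointwise commutatorElement MatrixGroups

universe u

section Frame
open TIOff TIOffCls TIOffTwo TIOffFrame TIOffSym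
variable {G : Type*} [Group G] {V : Type*} [AddCommGroup V] [Module (ZMod 2) V]
variable {ρ : Representation (ZMod 2) G V} {A T : Subgroup G} [Finite G] [Finite V]

theorem exists_frame (τ : Tv ρ A) (hT : IsSylowIn 2 T ⊤) {a a' : G} (ha : In A a) (ha' : In A a') (haT : a ∈ T)
    (hn : a * a' ≠ a' * a) (k : ∀ d, In A d → d ∈ T → d ≠ a → τ.φ a' (τ.u d) = 0) :
    ∃ (m : ℕ) (L : Subgroup G), 1 ≤ m ∧ NatSym ρ (2 * m + 1) L ∧ a ∈ L ∧ L ≤ sSup (Cls A) ∧ sSup (Cls A) ≤ N(L) ∧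
      ∀ g, g * a * g⁻¹ = a → g ∈ (N(L) : Subgroup G) := by
  classical
  obtain ⟨n, h2, ⟨F₀⟩, hmax⟩ := exists_max τ
  obtain ⟨F, m⟩ : ∃ F : Frame τ (Fin n), a ∈ F.grp := by
    have h01 : (⟨0, by omega⟩ : Fin n) ≠ ⟨1, by omega⟩ := by simp
    obtain ⟨g, e⟩ := τ.exists_conj (F₀.mem h01) ha
    exact ⟨F₀.conj g, e ▸ (F₀.conj g).t_mem h01⟩
  have m' := (F.mem_or_cm hmax ha').resolve_right fun e => hn (e _ (mem_zpowers _) _ m).symm
  obtain ⟨i, j, ij, rfl⟩ := F.eq_t_of_mem hmax ha' m'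
  have key : ∀ i' j', i' ≠ j' → F.t i' j' = F.t i j → ∀ y, P F T i' y → F.t i' y = a := fun i' j' h e y p =>
    by_contra fun h' => by
      have := k _ (F.mem p.1) p.2 h'
      rw [← e, F.φ_u h p.1, dl_self, dl_ne p.1, dl_ne h.symm] at this
      obtain rfl : j' = y := by_contra fun h'' => by rw [dl_ne h''] at this; exact absurd this (by decide)
      exact hn ((τ.comm_iff ha ha').2 (φ_eq_zero_of_mem hT.isPGroup ha ha' haT (e ▸ p.2)))
  obtain ⟨o, ho⟩ : ∃ o, ∀ y, ¬ P F T o y := by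
    by_contra! h
    obtain ⟨y, p⟩ := h i
    obtain ⟨y', p'⟩ := h j
    have e := key i j ij rfl y p
    rcases F.eq_of_t_eq p.1 p'.1 (e.trans (key j i ij.symm (F.t_symm ij).symm y' p').symm) with ⟨h, -⟩ | ⟨-, rfl⟩
    exacts [ij h, hn (by rw [e])]
  have : ∀ x, ∃ y, x = o ∧ y = o ∨ P F T x y := fun x => (eq_or_ne x o).elim (fun e => ⟨o, .inl ⟨e, rfl⟩⟩) fun e => by
    by_contra! h
    exact e (unmatched hmax hT (fun y => (h y).2) ho)
  choose f hf using this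
  have odd : Odd n := by
    have i : Function.Involutive f := fun x => by
      rcases hf x with ⟨rfl, e⟩ | p
      · rw [e, e]
      · exact P.unique hT.isPGroup ((hf (f x)).resolve_left fun e => ho x (e.1 ▸ p.symm)) p.symm
    let f' : Function.End (Fin n) := f
    have c := Perm.card_fixedPoints_modEq (f := f') (p := 2) (n := 1) (by
      rw [pow_one, pow_two]; exact funext i)
    rw [Fintype.card_fin, (Fintype.card_eq_one_iff (α := Function.fixedPoints f')).2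
      ⟨⟨o, ((hf o).resolve_right (ho _)).2⟩, fun x =>
      Subtype.ext ((hf x).resolve_right fun p => p.1 (show f x = x from x.2).symm).1⟩] at c
    exact Nat.odd_iff.2 c
  obtain ⟨r, rfl⟩ := odd
  exact ⟨r, F.grp, by omega, F.natSym ⟨r, rfl⟩ (by omega), m, (grp_le_sSup F).trans (sSup_le_sSup fun _ h => h.1),
    F.sSup_cls_le hmax, fun g e => mem_normalizer_iff_conj_eq.2 ((F.grp_conj g).symm.trans
      ((F.eq_or_cm hmax _).resolve_right fun c => hn (c _ m' _ (F.grp_conj g ▸ e ▸ conj_mem_conj g m)).symm))⟩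

end Frame

variable {G : Type u} [Group G] {T E E' U W Z X Y S L M₀ : Subgroup G} {g u v t w : G} [Finite G]
variable {α : Type*} [Fintype α] [DecidableEq α] {x y z : α} {π : α → α}

/-- A subnormal subgroup with its module in the minimal counterexample. -/
structure Cq (T M₀ L U Z : Subgroup G) : Prop extends MC 2 T M₀ where
  eU : ⁅VG 2 G, L⁆ = U
  eZ : U ⊓ C(L) = Z
  cent : C(VG 2 G) ≤ L
  sub : SubnormalIn ⊤ L
  BN : Bm 2 T ≤ N(L)
  nc : ¬ J 2 T ≤ C(U)
  dec : VG 2 G ≤ U ⊔ VG 2 G ⊓ C(L)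

namespace Cq
variable (h : Cq T M₀ L U Z)
include h

omit [Finite G] in
theorem U_le : U ≤ VG 2 G := h.eU ▸ commutator_le_left_of_le_normalizer (nV 2 L)

omit [Finite G] in
theorem nn : (N(L) : Subgroup G) ≤ NN U Z :=
  have k : (N(L) : Subgroup G) ≤ N(U) := h.eU ▸ le_normalizer_commutator (nV 2 _) le_rfl
  le_inf k (h.eZ ▸ le_normalizer_inf k (normalizer_le_normalizer_centralizer L))

omit [Finite G] in
theorem nn' (hX : X ≤ L) : X ≤ NN U Z := (le_normalizer_of_le hX).trans h.nn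

omit [Finite G] in
theorem Z_cent : Z ≤ C(L) := h.eZ ▸ inf_le_right

omit [Finite G] in
theorem comm_V (hX : X ≤ L) {D : Subgroup G} (hD : D ≤ VG 2 G) (k : ⁅U, X⁆ ≤ D) : ⁅VG 2 G, X⁆ ≤ D := by
  have n : VG 2 G ≤ N(D) := le_normalizer_of_le_centralizer (V_comm.trans (centralizer_anti hD))
  rw [commutator_comm] at k ⊢
  exact (commutator_mono le_rfl h.dec).trans (commutator_sup_le (h.U_le.trans n) (inf_le_left.trans n) k
    ((commutator_eq_bot_iff_le_centralizer'.2 (inf_le_right.trans (centralizer_anti hX))).le.trans bot_le))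

omit [Finite G] in
theorem comm_U : U ≤ ⁅U, L⁆ := h.eU.ge.trans (h.comm_V le_rfl
  ((commutator_le_left_of_le_normalizer ((h.nn' le_rfl).trans inf_le_left)).trans h.U_le) le_rfl)

theorem faith : L ⊓ rel Z U ≤ C(VG 2 G) := by
  have n := h.nn' le_rfl
  refine h.red ((SubnormalIn.of_normal inf_le_left (le_normalizer_inf le_normalizer
    (le_norm_rel (n.trans inf_le_right) (n.trans inf_le_left)))).trans h.sub) (pResidualOf_le_iff_pow_mem.1 ?_)
  have l := pResidualOf_le 2 (L ⊓ rel Z U)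
  exact pResidualOf_le_centralizer_of_le (isPGroup_of_isElementaryAbelian V_elem) (nV 2 _)
    (h.comm_V (l.trans inf_le_left) ((h.eZ ▸ inf_le_left : Z ≤ U).trans h.U_le)
      (comm_le_of_le_rel (l.trans inf_le_right))) ((l.trans inf_le_left).trans (le_centralizer_iff.1 h.Z_cent))

theorem fa : N(L) ⊓ rel Z U ≤ C(U) := by
  have n := h.nn' le_rfl
  refine le_trans (commutator_eq_bot_iff_le_centralizer'.1 (le_bot_iff.1 (three_subgroups (A := L) (B := U) (nb _) (nb _)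
    (nb _) ?_ ?_))) (centralizer_anti (h.comm_U.trans (commutator_comm _ _).le))
  · exact (commutator_eq_bot_iff_le_centralizer.2 ((comm_le_of_le_rel inf_le_right).trans h.Z_cent)).le
  · refine (commutator_eq_bot_iff_le_centralizer.2 ((le_inf (commutator_le_right_of_le_normalizer inf_le_left)
      ((commutator_mono inf_le_right le_rfl).trans (commutator_le_left_of_le_normalizer (le_norm_rel
        (n.trans inf_le_right) (n.trans inf_le_left))))).trans (h.faith.trans (centralizer_anti h.U_le)))).le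

omit [Finite G] in
theorem not_le_Z : ¬ U ≤ Z := fun e => h.nc ((J_le 2 T).trans (le_top.trans (by
  rw [le_bot_iff.1 (h.comm_U.trans (commutator_eq_bot_iff_le_centralizer.2 (e.trans h.Z_cent)).le), centralizer_bot'])))

variable (ho : Odd (Fintype.card α)) (h3 : 3 ≤ Fintype.card α) (a : ActS (PS α) L U Z)
include ho h3

theorem pre : Pre 2 (RS α) N(L) a.toSect := ⟨model_sym ho h3, isElementaryAbelian_of_le V_elem h.U_le, h.nn,
  (a.im_norm le_rfl).trans (res_PS ho h3 ▸ normalizer_le_normalizer_pResidualOf 2 _), h.fa⟩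

theorem im_res : a.im (pResidualOf 2 L) = RS α := by rw [a.im_res (h.nn' le_rfl), a.eq, res_PS ho h3]

include a in
theorem Z_bot : Z = ⊥ := by
  have l := pResidualOf_le 2 L
  have e := h.im_res ho h3 a
  have nU : L ≤ N(U) := (h.nn' le_rfl).trans inf_le_left
  have nW := le_normalizer_commutator nU (le_normalizer.trans (normalizer_le_normalizer_pResidualOf 2 L))
  refine eq_bot_sym ho h3 (E := pResidualOf 2 L) ⟨a.toSect, h.nn' l, e⟩ (isElementaryAbelian_of_le V_elem h.U_le)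
    (h.Z_cent.trans (centralizer_anti l)) ((inf_le_inf_right _ (l.trans le_normalizer)).trans h.fa) ?_
  refine h.comm_U.trans ((commutator_mono (a.le_comm_sup (model_sym ho h3) (h.nn' l) e) le_rfl).trans ?_)
  rw [commutator_comm]
  exact commutator_sup_le le_normalizer (le_normalizer_of_le_centralizer ((a.le.trans h.U_le).trans (V_comm.trans
    (centralizer_anti ((commutator_le_left_of_le_normalizer (l.trans nU)).trans h.U_le)))))
    (commutator_le_right_of_le_normalizer nW) ((commutator_eq_bot_iff_le_centralizer'.2 h.Z_cent).le.trans bot_le)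

end Cq

/-- A subgroup with the properties of the block to be found. -/
structure AlQ (T M₀ L U E : Subgroup G) (a : ActS (PS α) L U ⊥) : Prop extends Cq T M₀ L U ⊥ where
  ho : Odd (Fintype.card α)
  h3 : 3 ≤ Fintype.card α
  res : pResidualOf 2 E = E
  le : E ≤ L
  nE : (N(L) : Subgroup G) ≤ N(E)
  eE : a.im E = RS α
  QE : ⁅pCore 2 G, E⁆ ≤ U

theorem Cq.exists_alQ (h : Cq T M₀ L U ⊥) (ho : Odd (Fintype.card α)) (h3 : 3 ≤ Fintype.card α) (a : ActS (PS α) L U ⊥)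
    (l : E' ≤ L) (b : Blk 2 T E') (lW : WE 2 E' ≤ U) : ∃ E, AlQ T M₀ L U E a ∧ E' ≤ E := by
  have nD : ∀ X : Subgroup G, X ≤ N(rel (VG 2 G) (pCore 2 G)) := fun X => le_norm_rel (nV 2 X) (nQ 2 X)
  have l₁ := pResidualOf_le 2 (L ⊓ rel (VG 2 G) (pCore 2 G))
  have nE := (le_normalizer_inf le_rfl (nD N(L))).trans (normalizer_le_normalizer_pResidualOf 2 _)
  have l₃ := b.res.ge.trans (pResidualOf_mono (le_inf l (le_rel_iff.2 ⟨nV 2 _, (b.QE h.syl).trans
    (b.core_two.le.trans (b.WE_le_V h.syl h.hG))⟩)))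
  have l₄ := (a.im_mono (pResidualOf_mono (p := 2) (inf_le_left : L ⊓ rel (VG 2 G) (pCore 2 G) ≤ _))).trans
    (h.im_res ho h3 a).le
  refine ⟨_, ⟨h, ho, h3, pResidualOf_idem 2 _, l₁.trans inf_le_left, nE, le_antisymm l₄ (RS_simple ho h3 l₄
    (RS_le_PS.trans (a.eq.ge.trans (a.im_le_norm (le_normalizer.trans nE)))) fun e => b.not_cent
      ((((h.pre ho h3 a).im_eq_bot_iff (l.trans le_normalizer)).1 (le_bot_iff.1 ((a.im_mono l₃).trans e.le))).trans
        (centralizer_anti lW))), ?_⟩, l₃⟩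
  rw [← commutator_commutator_pResidualOf (pCore_isPGroup 2 G) (nQ 2 _)]
  exact (commutator_mono (comm_le_of_le_rel (l₁.trans inf_le_right)) (l₁.trans inf_le_left)).trans h.eU.le

namespace AlQ
variable {a : ActS (PS α) L U ⊥} (h : AlQ T M₀ L U E a)
include h

theorem LC : L ⊓ C(U) ≤ pCore 2 G :=
  ((inf_le_inf_left _ (le_rel_of_cent le_rfl bot_le)).trans h.faith).trans h.CV_le_Q

theorem KQ : E ⊓ C(U) ≤ pCore 2 G := (inf_le_inf_right _ h.le).trans h.LC

omit [Finite G] in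
theorem sub' : SubnormalIn ⊤ E := (SubnormalIn.of_normal h.le (le_normalizer.trans h.nE)).trans h.sub

theorem sp : SP2 T E N(L) a.toSect := ⟨h.pre h.ho h.h3 a, h.ho, h.h3, rfl, h.syl, h.U_le.trans h.V_le, h.BN,
  h.le.trans le_normalizer, h.eE, h.syl.inf_subnormalIn h.sub', h.nc⟩

theorem UE : U ≤ ⁅U, E⁆ := (a.le_comm_sup (model_sym h.ho h.h3) (h.nn' h.le) h.eE).trans (sup_bot_eq _).le

theorem U_le_E : U ≤ E := h.UE.trans (commutator_le_right_of_le_normalizer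
  (((h.U_le.trans V_comm).trans h.cent).trans (le_normalizer.trans h.nE)))

theorem CE : U ⊓ C(E) ≤ ⊥ := (a.img_eq_bot_iff inf_le_left).1 (((model_sym h.ho h.h3).irr _ (h.eE ▸ a.im_img
  (le_normalizer_inf ((h.nn' h.le).trans inf_le_left) (le_normalizer_centralizer le_normalizer)))).resolve_right fun e =>
    h.not_le_Z (h.UE.trans (commutator_eq_bot_iff_le_centralizer.2 ((a.le_sup_of_img_eq_top e).trans
      (sup_le inf_le_right bot_le))).le))

theorem KB : E ⊓ C(U) ≤ Bm 2 T := by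
  have ZC : ZJ 2 T ≤ C(U) := (ZJ_le_cent_Bm 2 T).trans (centralizer_anti h.sp.U_le_B)
  have ZE : ⁅ZJ 2 T, E⁆ ≤ U := (commutator_mono h.ZJ_le_Q le_rfl).trans h.QE
  refine le_inf (h.KQ.trans h.Q_le) (commutator_eq_bot_iff_le_centralizer.1 (le_bot_iff.1 (le_trans (le_inf
    ((commutator_mono inf_le_left le_rfl).trans ((commutator_comm _ _).le.trans ZE))
    (commutator_eq_bot_iff_le_centralizer.1 (le_bot_iff.1 (three_subgroups (nb _) (nb _) (nb _) ?_ ?_)))) h.CE)))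
  · exact (commutator_mono ZE le_rfl).trans (commutator_eq_bot_iff_le_centralizer'.2 inf_le_right).le
  · exact (commutator_mono ((commutator_mono le_rfl h.KQ).trans ((commutator_comm _ _).le.trans h.QE)) le_rfl).trans
      (commutator_eq_bot_iff_le_centralizer'.2 ZC).le

variable (hxy : x ≠ y) (ht : t ∈ Bm 2 T) (tL : t ∈ L) (h2 : t * t = 1) (e : a.θ t = toP (swap x y))
  (hc : ∀ g ∈ Bm 2 T, ⁅t, g⁆ = 1 ∨ ⁅t, g⁆ = w)
include hxy ht tL h2 e hc

theorem exists_second {x' y' : α} (h₀ : x' ≠ y') (h₁ : x' ≠ x) (h₂ : x' ≠ y) (h₃ : y' ≠ x) (h₄ : y' ≠ y) :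
    ∃ c d, ∃ g ∈ E, c ≠ d ∧ c ≠ x ∧ c ≠ y ∧ d ≠ x ∧ d ≠ y ∧ a.θ (g * t * g⁻¹) = toP (swap c d) ∧ g * t * g⁻¹ ∈ Bm 2 T := by
  have s := h.sp
  obtain ⟨z, π, m⟩ := s.exists_mt
  have tT := Bm_le 2 T ht
  obtain rfl := (m.uniq (PP_of (mem_inf.2 ⟨tT, h.BN ht⟩) e.symm)).resolve_left hxy.symm
  obtain ⟨c, hc₀, hc₁, hc₂⟩ : ∃ c, c ≠ z ∧ c ≠ x ∧ c ≠ π x := (eq_or_ne x' z).elim
    (fun k => ⟨y', k ▸ h₀.symm, h₃, h₄⟩) fun k => ⟨x', k, h₁, h₂⟩
  obtain ⟨g, hg, τ, e₁, e₂, -⟩ := s.exists_conj hxy (m.ne c hc₀).symm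
  have e₃ := θ_conj_swap (a.norm (h.le hg)) (a.norm tL) e₁ e
  rw [e₂] at e₃
  have sL := mul_mem (mul_mem (h.le hg) tL) (inv_mem (h.le hg))
  obtain ⟨t', ht', e₄⟩ := (mem_PP (inf_le_right.trans a.norm)).1 (((s.sylow inf_le_left (inf_le_inf_left _ h.le) hxy
    (PP_of (mem_inf.2 ⟨tT, tL⟩) e.symm)).eq_of_le le_top m.syl.isPGroup (PP_mono (inf_le_inf_left _ le_normalizer))).le
      (m.mem c))
  obtain ⟨A, hA⟩ := exists_maxAb 2 T
  have hA' := (card_le_of_maxAb V_elem h.V_le hA).2 (h.noOv (abExp_iff_isElementaryAbelian.1 hA.abExp))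
  have l : A ⊓ C(VG 2 G) ⊔ VG 2 G ≤ C(VG 2 G) := sup_le inf_le_right V_comm
  refine ⟨c, π c, g, hg, (m.ne c hc₀).symm, hc₁, hc₂, fun k => hc₂ (m.eq_π k.symm),
    fun k => hc₁ ((m.eq_π k).trans (m.inv c)).symm, e₃, J_le_Bm 2 T (mem_J_of_conj hA' h2 (fun k => hxy ?_)
      (fun b hb => hc b (J_le_Bm 2 T (hA'.le_J hb))) ((conj_le_of_mem_normalizer (l.trans h.CV_le_Q) (nQ' 2 g)).trans
        h.Q_le) ((mul_mem_cancel_left (inv_mem (mem_inf.1 ht').1)).1 (h.CV_le_T (h.faith (mem_inf.2 ⟨mul_mem (inv_mem (mem_inf.1 ht').2) sL,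
          (a.θ_eq_iff (a.norm ht'.2) (a.norm sL)).1 (e₄.trans e₃.symm)⟩)))))⟩
  have := toP_injective h.ho (e.symm.trans ((a.θ_of_cent (centralizer_anti h.U_le (l k))).trans (map_one _).symm))
  rw [← swap_apply_left x (π x), this, Perm.one_apply]

theorem K_le (hw : w ∈ U) : E ⊓ C(U) ≤ U := by
  have ho := h.ho
  have hc' : ∀ g ∈ Bm 2 T, ⁅t, g⁆ ∈ U := fun g hg => (hc g hg).elim (fun k => k ▸ one_mem _) fun k => k ▸ hw
  have nB := h.BN
  have nH : E ⊔ zpowers t ≤ N(L) := sup_le (h.le.trans le_normalizer) (zpowers_le_of_mem (nB ht))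
  have nU : E ⊔ zpowers t ≤ N(U) := (nH.trans h.nn).trans inf_le_left
  have tH : t ∈ E ⊔ zpowers t := mem_sup_right (mem_zpowers t)
  have eH : a.im (E ⊔ zpowers t) = ⊤[Perm α].map toP := by
    rw [← MonoidHom.range_eq_map]
    refine le_antisymm ((a.im_mono (sup_le h.le (zpowers_le_of_mem tL))).trans a.eq.le) ?_
    rintro _ ⟨σ, rfl⟩
    have l := h.eE.ge.trans (a.im_mono (le_sup_left : E ≤ E ⊔ zpowers t))
    by_cases k : σ ∈ alternatingGroup α
    · exact l (mem_map_of_mem _ k)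
    · have := l (mem_map_of_mem _ (mul_swap_mem hxy k))
      rwa [map_mul, ← e, mul_mem_cancel_right (a.θ_mem tH)] at this
  obtain ⟨ρ, r₁, r₂, r₃⟩ := ActS.exists_hom (f := toP) ⟨a.toSect, nH.trans h.nn, eH⟩ (toP_injective ho)
  change ∀ g, toP (ρ g) = a.θ g at r₂
  have kK : ∀ k ∈ ρ.ker, (k : G) ∈ E ⊓ C(U) := fun k hk => by
    have e₁ : a.θ k = 1 := by rw [← r₂, hk, map_one]
    refine ⟨?_, (h.sp.θ_eq_one (nH k.2)).1 e₁⟩
    obtain ⟨u, hu, v, hv, e₂⟩ := (mem_sup_iff_of_le_normalizer' ((zpowers_le_of_mem (nB ht)).trans h.nE)).1 k.2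
    rcases eq_or_of_zpowers h2 hv with rfl | rfl
    · rwa [← e₂, mul_one]
    · obtain ⟨σ, hσ, e₃⟩ := h.eE.le (a.θ_mem hu)
      rw [← e₂, a.θ_mul (a.norm (h.le hu)) (h.nn (nB ht)), ← e₃, e, ← map_mul, map_eq_one_iff _ (toP_injective ho)] at e₁
      have := congrArg Perm.sign e₁
      rw [map_mul, Perm.mem_alternatingGroup.1 hσ, Perm.sign_swap hxy, map_one] at this
      exact absurd this (by decide)
  have cK : ⁅E ⊓ C(U), E ⊔ zpowers t⁆ ≤ U := commutator_sup_le (le_sup_left.trans nU) (le_sup_right.trans nU)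
    ((commutator_mono h.KQ le_rfl).trans h.QE) (comm_le_of_le_rel (zpowers_le_of_mem (mem_rel.2 ⟨nU tH, fun k hk => by
      rw [← commutatorElement_inv]; exact inv_mem (hc' k (h.KB hk))⟩)))
  haveI : (U.subgroupOf (E ⊔ zpowers t)).Normal := normal_subgroupOf_of_le_normalizer nU
  have lU := h.U_le_E.trans (le_sup_left : E ≤ E ⊔ zpowers t)
  obtain ⟨D, d₁, d₂, d₃⟩ := split_mod hxy (MonoidHom.range_eq_top.1 r₁) (U.subgroupOf (E ⊔ zpowers t))
    (r₃ ▸ comap_mono (le_rel_of_cent (h.U_le.trans (V_comm.trans (centralizer_anti h.U_le))) bot_le))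
    (fun k hk g => cK (commutator_mem_commutator (kK k hk) g.2)) (t := ⟨t, tH⟩) (Subtype.ext h2)
    (toP_injective ho ((r₂ _).trans e)) fun x' y' h₀ h₁ h₂ h₃ h₄ => by
      obtain ⟨c, d, g, hg, k, k₁, k₂, k₃, k₄, e₂, sB⟩ := h.exists_second hxy ht tL h2 e hc h₀ h₁ h₂ h₃ h₄
      exact ⟨c, d, ⟨g * t * g⁻¹, mul_mem (mul_mem (mem_sup_left hg) tH) (inv_mem (mem_sup_left hg))⟩, k, k₁, k₂,
        k₃, k₄, toP_injective ho ((r₂ _).trans e₂), hc' _ sB⟩
  have l₁ : U ≤ D.map (E ⊔ zpowers t).subtype := (map_subgroupOf_eq_of_le lU).ge.trans (map_mono d₁)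
  have l₂ : E ⊔ zpowers t ≤ D.map (E ⊔ zpowers t).subtype ⊔ E ⊓ C(U) := by
    have := congrArg (Subgroup.map (E ⊔ zpowers t).subtype) d₃
    rw [Subgroup.map_sup, ← MonoidHom.range_eq_map, range_subtype] at this
    exact this.ge.trans (sup_le_sup_left (map_le_iff_le_comap.2 kK) _)
  have l₃ := h.res.ge.trans ((pResidualOf_mono (le_sup_left.trans l₂)).trans (pResidualOf_sup_le
    ((pCore_isPGroup 2 G).to_le h.KQ) (le_normalizer_of_commutator_le ((commutator_mono (map_subtype_le _) le_rfl).trans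
      ((commutator_comm _ _).le.trans (cK.trans l₁))))))
  intro k hk
  obtain ⟨d, hd, rfl⟩ := l₃ hk.1
  exact d₂ ⟨hd, r₃ ▸ le_rel_of_cent le_rfl bot_le hk.2⟩

end AlQ

theorem Cq.exists_sb {m : ℕ} (hm : 1 ≤ m) (h : Cq T M₀ L U Z) (a : ActS (PS (Fin (2 * m + 1))) L U Z) (l : E' ≤ L)
    (b : Blk 2 T E') (ht : t ∈ Bm 2 T) (tL : t ∈ L) (h2 : t * t = 1) (hn : t ∉ (C(WE 2 E') : Subgroup G))
    (hc : ∀ g ∈ Bm 2 T, ⁅t, g⁆ = 1 ∨ ⁅t, g⁆ = w) : ∃ E, SB 2 E ∧ E' ≤ E := by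
  have ho := odd_fin m
  have h3 := three_le_fin hm
  obtain rfl := h.Z_bot ho h3 a
  have lW : WE 2 E' ≤ U := b.comm_WE.ge.trans ((commutator_mono (b.WE_le_V h.syl h.hG) l).trans h.eU.le)
  obtain ⟨E, k, l'⟩ := h.exists_alQ ho h3 a l b lW
  obtain ⟨x, y, hxy, e, hw, -⟩ := k.sp.swap_of (h.BN ht) (fun k => hn (centralizer_anti lW k))
    fun u hu => hc u (k.sp.U_le_B hu)
  have hK := k.K_le hxy ht tL h2 e hc hw
  have el := isElementaryAbelian_of_le V_elem h.U_le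
  have cU : U ≤ C(U) := h.U_le.trans (V_comm.trans (centralizer_anti h.U_le))
  have nU : E ≤ N(U) := (h.nn' k.le).trans inf_le_left
  have e₂ : pCoreOf 2 E = U := le_antisymm ((le_inf (pCoreOf_le 2 E) ((pCoreOf_le_pCore_of_isSubnormal
    (subnormalIn_top_iff.1 k.sub')).trans (Q_le_CV.trans (centralizer_anti h.U_le)))).trans hK)
    (le_pCoreOf k.U_le_E nU (isPGroup_of_isElementaryAbelian el))
  have e₃ : W0 2 E = U := by
    rw [W0, e₂]; exact le_antisymm (omegaOneCenter_le 2 U) (le_omegaOneCenter el le_rfl cU)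
  have e₄ : ZE 2 E = ⊥ := by rw [ZE, e₃]; exact le_bot_iff.1 k.CE
  have nB := h.BN.trans k.nE
  have l₁ := commutator_le_left_of_le_normalizer nB
  have fa : E ⊓ rel ⊥ U ≤ U := (le_inf inf_le_left ((inf_le_inf_right _ (k.le.trans le_normalizer)).trans h.fa)).trans hK
  refine ⟨E, ⟨⟨T, h.syl, k.res, le_antisymm l₁ (k.res.ge.trans ((pResidualOf_mono ?_).trans (pResidualOf_sup_le
    (isPGroup_of_isElementaryAbelian el) (k.U_le_E.trans (normalizer_commutator_ge_left _ _))))),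
    e₂.symm ▸ le_antisymm (commutator_le_left_of_le_normalizer nU) k.UE,
    fun e => b.nz (le_bot_iff.1 ((commutator_mono l' le_rfl).trans e.le)), ?_,
    .inr ⟨rfl, m, hm, ?_, e₂.trans e₃.symm⟩⟩, k.sub'⟩, l'⟩
  · have n := h.nn' (l₁.trans k.le)
    have := le_inf (a.le_sup_of_im_le (h.nn' k.le) n (k.eE.le.trans (RS_simple ho h3 ((a.im_mono l₁).trans k.eE.le)
      (k.eE.ge.trans (a.im_le_norm (normalizer_commutator_ge_left _ _))) fun e => b.not_cent
        ((((h.pre ho h3 a).im_eq_bot_iff (l.trans le_normalizer)).1 (le_bot_iff.1 ((a.im_mono (b.comm.ge.trans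
          (commutator_mono l' le_rfl))).trans e.le))).trans (centralizer_anti lW))))) le_rfl
    rw [sup_inf_of_le_normalizer (le_norm_rel (n.trans inf_le_right) (n.trans inf_le_left)) l₁, inf_comm] at this
    exact this.trans (sup_le_sup_left fa _)
  · rw [e₄, e₃, e₂]
    exact le_antisymm fa (le_inf k.U_le_E (le_rel_of_cent cU bot_le))
  · rw [e₄, e₃]
    exact ⟨⟨a.toSect, h.nn' k.le, k.eE⟩⟩

theorem swap_not_comm (hxy : x ≠ y) (hxz : x ≠ z) (hyz : y ≠ z) : swap x y * swap x z ≠ swap x z * swap x y := fun e => by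
  have := congrArg (fun σ : Perm α => σ x) e
  simp only [Perm.mul_apply, swap_apply_left] at this
  rw [swap_apply_of_ne_of_ne hxz.symm hyz.symm, swap_apply_of_ne_of_ne hxy.symm hyz] at this
  exact hyz this.symm

theorem SY.le_of_mem {a : ActS (RS α) E (WE 2 E) (ZW 2 E)} (h : SY T M₀ a) (hX : WE 2 E ≤ X) (hn : E ≤ N(X))
    (ht : t ∈ X) (ht' : t ∈ (N(E) : Subgroup G)) (hxy : x ≠ y) (e : a.θ t = toP (swap x y)) : E ≤ X := by
  refine (h.blk.le_sup_of_im a.toSect (X := E ⊓ X) inf_le_left (a.eq.le.trans (RS_simple h.ho h.h3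
    ((a.im_mono inf_le_left).trans a.eq.le) (a.eq.ge.trans (a.im_le_norm (le_normalizer_inf le_normalizer hn)))
      fun k => ?_))).trans (sup_le inf_le_right (h.blk.core_two.le.trans hX))
  obtain ⟨z, hx, hy⟩ := exists_third' h.h3 x y
  obtain ⟨g, hg, τ, e₁, e₂, -⟩ := h.sp.exists_conj hxy hx.symm
  have n := norm_NN 2 E ht'
  have e₃ := θ_conj_swap (a.norm hg) n e₁ e
  have := mem_bot.1 (k.le (a.θ_mem (mem_inf.2 ⟨comm_mem_of_norm ht' hg, comm_mem_swap (comm_mem_of_norm (hn hg) ht)⟩)))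
  rw [commutatorElement_def, a.θ_mul (mul_mem (mul_mem (a.norm hg) n) (inv_mem (a.norm hg))) (inv_mem n), e₃, a.θ_inv n,
    e, e₂, mul_inv_eq_one] at this
  exact hy ((swap_apply_left x z).symm.trans (by rw [toP_injective h.ho this, swap_apply_left]))

section Main
open FFRep hiding rel stab mem_rel mem_stab le_rel_iff card_le_of_le
open EMod hiding ext mk
open SL2Amb TIOff TIOffCls TIOffTwo MinParDec

theorem ti_two (h2 : t * t = 1) (hc : ∀ v ∈ VG 2 G, ⁅t, v⁆ = 1 ∨ ⁅t, v⁆ = w) (hw : t * w = w * t)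
    (hn : t ∉ (C(VG 2 G) : Subgroup G)) : TI (rV 2 G) 2 (zpowers (φV 2 G t)) := by
  have h1 : φV 2 G t ≠ 1 := fun e => hn (φV_eq_one.1 e)
  have h2' : φV 2 G t * φV 2 G t = 1 := by rw [← map_mul, h2, map_one]
  have hq : com (rV 2 G) ⊤ (zpowers (φV 2 G t)) ≤ fix (rV 2 G) (zpowers (φV 2 G t)) := by
    rw [← MonoidHom.map_zpowers, com_le_fixV]
    refine commutator_le.2 fun v hv g hg => comm_mem_swap ?_
    rcases eq_or_of_zpowers h2 hg with rfl | rfl
    · rw [commutatorElement_one_left]; exact one_mem _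
    · exact (hc v hv).elim (fun e => e ▸ one_mem _) fun e => e ▸ mem_cent_zp.2 hw.symm
  refine ⟨elem_of_quad (cent_quo _) hq, fun e => h1 (zpowers_eq_bot.1 e), by
    rw [Nat.card_zpowers, orderOf_eq_prime ((pow_two _).trans h2') h1], hq, ?_, fun a ha k v e => ?_⟩
  · rw [← MonoidHom.map_zpowers, card_fixV, card_em]
    have c := card_le_two hc
    obtain ⟨k, hk⟩ := card_dvd_of_le (inf_le_left : VG 2 G ⊓ C(zpowers t) ≤ _)
    have c₁ := card_lt_of_lt (lt_of_le_of_ne (inf_le_left : VG 2 G ⊓ C(zpowers t) ≤ _) fun e =>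
      hn (le_centralizer_iff.1 (e.ge.trans inf_le_right) (mem_zpowers t)))
    rw [hk] at c c₁ ⊢
    have k₁ := Nat.le_of_mul_le_mul_left c Nat.card_pos
    have k₂ := Nat.lt_of_mul_lt_mul_left ((mul_one _).trans_lt c₁)
    rw [show k = 2 by omega, mul_comm]
  · rw [(eq_or_of_zpowers h2' ha).resolve_left k] at e
    exact mem_fix_zpowers.2 e

omit [Finite G] in
theorem u_cases {A : Subgroup (GB 2 G)} (τ : Tv (rV 2 G) A) (hd : In A (φV 2 G g)) (hv : v ∈ VG 2 G) :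
    ⁅g, v⁆ = 1 ∨ ⁅g, v⁆ = (τ.u (φV 2 G g)).val := by
  obtain ⟨v, rfl⟩ := exists_val (h := V_elem) hv
  rw [← val_rV_sub, τ.sub_eq hd]
  exact (z2 (τ.φ (φV 2 G g) v)).imp (fun e => by rw [e, zero_smul, val_zero]) fun e => by rw [e, one_smul]

theorem MC.sym_false (h : MC 2 T M₀) (s : E ∈ EE 2 T M₀) (zw : ZW 2 E = ⊥) {r : ℕ} (hr : 1 ≤ r)
    (a : ActS (RS (Fin (2 * r + 1))) E (WE 2 E) (ZW 2 E)) : False := by
  have b := EE.blk s
  have y : SY T M₀ a := ⟨h.toCM, odd_fin r, three_le_fin hr, b, zw,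
    let ⟨_, l, _, k⟩ := s; (h.syl.of_le l le_top).inf_subnormalIn k.1.sub⟩
  have sp := y.sp
  have WV := b.WE_le_V h.syl h.hG
  obtain ⟨z, π, m⟩ := sp.exists_mt
  obtain ⟨x, hx, -⟩ := exists_third' y.h3 z z
  have hxy := (m.ne x hx).symm
  obtain ⟨t, u, h2, e, k⟩ := y.exists_tri m (EE.notM s) hx
  have hw := a.σ_mem (pr x (π x))
  have ew := a.ψ_σ (pr x (π x))
  generalize a.σ (pr x (π x)) = w at k hw ew
  have w1 : w ≠ 1 := fun e => pr_ne_zero hxy (by rw [← ew, e, a.one])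
  have tN := b.B_norm k.tB
  have tC : t ∉ (C(WE 2 E) : Subgroup G) := fun c => hxy (by
    rw [← swap_apply_left x (π x), toP_injective y.ho (e.symm.trans ((a.θ_of_cent c).trans (map_one _).symm)),
      Perm.one_apply])
  have ti := ti_two h2 (fun v hv => k.ht v (h.V_le_B hv)) (mul_inv_eq_iff_eq_mul.1 (sp.conj_eq tN hw (by
    rw [ew, e, toP_pr, swap_apply_left, swap_apply_right, pr_comm]))) fun c => tC (centralizer_anti WV c)
  obtain ⟨g, hg, σ, e₁, e₂, -⟩ := sp.exists_conj hxy hx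
  have e₃ := θ_conj_swap (a.norm hg) (sp.nn tN) e₁ e
  rw [e₂] at e₃
  have tN' := conj_mem_of_norm (le_normalizer_normalizer le_normalizer hg) tN
  have i₁ : In (zpowers (φV 2 G t)) (φV 2 G t) := self_mem_cls _
  have i₂ : In (zpowers (φV 2 G t)) (φV 2 G (g * t * g⁻¹)) := by rw [map_mul, map_mul, map_inv]; exact i₁.conj _
  have nc : φV 2 G t * φV 2 G (g * t * g⁻¹) ≠ φV 2 G (g * t * g⁻¹) * φV 2 G t := fun c => by
    rw [← commutatorElement_eq_one_iff_mul_comm, ← map_commutatorElement, φV_eq_one] at c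
    have := a.θ_of_cent (centralizer_anti WV c)
    rw [a.θ_comm (sp.nn tN) (sp.nn tN'), e, e₃, ← map_commutatorElement, map_eq_one_iff _ (toP_injective y.ho),
      commutatorElement_eq_one_iff_mul_comm] at this
    exact swap_not_comm hxy hx (m.ne_z hx) this
  obtain ⟨τ⟩ := nonempty_tv h.base ti i₂ fun c => nc (c _ (mem_zpowers _) _ (mem_zpowers _))
  obtain ⟨n, L, hn, nat, tL, l₁, l₂, l₃⟩ := exists_frame τ h.sylV i₁ i₂ (mem_map_of_mem _ (Bm_le 2 T k.tB)) nc (by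
    rintro _ hd ⟨d, dT, rfl⟩ ne
    have dN := h.norm_of_ti s (zpowers_le_of_mem dT) (by rw [MonoidHom.map_zpowers]; exact τ.ti' hd) (mem_zpowers d)
    refine (τ.act_eq_iff i₂).1 (EMod.ext ?_)
    rw [val_rV]
    by_cases c : d ∈ (C(WE 2 E) : Subgroup G)
    · have c₁ : (τ.u (φV 2 G d)).val ∈ (C(E) : Subgroup G) := by
        have := val_mem_toSub.2 (τ.u_mem_com hd)
        rw [← MonoidHom.map_zpowers, toSub_comV] at this
        exact h.V_NC s (commutator_mono le_rfl (zpowers_le_of_mem (mem_inf.2 ⟨dN, c⟩)) this)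
      have c₂ := (k.ht _ (h.V_le_B (val_mem (τ.u (φV 2 G d))))).resolve_right fun c' => w1 (mem_bot.1 (zw.le
        (mem_inf.2 ⟨hw, c' ▸ comm_mem_swap (comm_mem_of_norm (le_normalizer_centralizer le_rfl tN) c₁)⟩)))
      generalize (τ.u (φV 2 G d)).val = v at c₁ c₂
      calc _ = g * (t * (g⁻¹ * v * g⁻¹⁻¹) * t⁻¹) * g⁻¹ := by group
        _ = v := by
          rw [conj_eq_of_cent' c₁ (inv_mem hg), commutatorElement_eq_one_iff_mul_comm.1 c₂, mul_inv_cancel_right,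
            conj_eq_of_cent' c₁ hg]
    · obtain ⟨c, d', hcd, e₄, hw', e₅⟩ := sp.swap_of dN c fun v hv => u_cases τ hd (WV hv)
      obtain rfl := (m.uniq (PP_of (mem_inf.2 ⟨dT, dN⟩) e₄.symm)).resolve_left hcd.symm
      have c₀ : c ≠ z := fun e => hcd (by rw [e, m.πz])
      have key : pr c (π c) ≠ pr x (π x) := fun e' => ne (τ.eq_of_u hd i₁ (EMod.ext ((sp.inj hw' hw
        (e₅.trans (e'.trans ew.symm))).trans ?_)))
      · refine sp.conj_eq tN' hw' ?_
        rw [e₅, e₃, toP_pr, swap_apply_of_ne_of_ne (fun e => key (by rw [e])) c₀, swap_apply_of_ne_of_ne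
          (fun e => key (by rw [← e, m.inv, pr_comm])) (m.ne_z c₀)]
      · obtain ⟨v, hv⟩ := not_forall.1 tC
        obtain ⟨hv, hv'⟩ := Classical.not_imp.1 hv
        have n₁ : ⁅t, v⁆ ≠ 1 := fun k => hv' (commutatorElement_eq_one_iff_mul_comm.1 k).symm
        exact ((k.ht v (sp.U_le_B hv)).resolve_left n₁).symm.trans ((u_cases τ i₁ (WV hv)).resolve_left n₁))
  have WC := WV.trans V_comm
  have nL := (comap_mono l₂).trans (le_normalizer_comap (φV 2 G) le_rfl)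
  have EK : E ≤ (sSup (Cls (zpowers (φV 2 G t)))).comap (φV 2 G) := y.le_of_mem (WC.trans (CV_le_comap _))
    (le_top.trans (normal_iff_top_le.1 ((normal_sSup_cls _).comap _))) (l₁ tL) tN hxy e
  have EL : E ≤ L.comap (φV 2 G) := y.le_of_mem (WC.trans (CV_le_comap _)) (EK.trans nL) tL tN hxy e
  have c : Cq T M₀ (L.comap (φV 2 G)) ⁅VG 2 G, L.comap (φV 2 G)⁆ (⁅VG 2 G, L.comap (φV 2 G)⁆ ⊓ C(L.comap (φV 2 G))) := by
    refine ⟨h, rfl, rfl, CV_le_comap _, h.sub_comap l₁ l₂, fun g hg => le_normalizer_comap (φV 2 G) le_rfl (l₃ _ ?_),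
      fun c => b.not_J_cent h.syl h.hG (c.trans (centralizer_anti (b.comm_WE.ge.trans (commutator_mono WV EL)))), ?_⟩
    · rw [mul_inv_eq_iff_eq_mul, eq_comm, ← commutatorElement_eq_one_iff_mul_comm, ← map_commutatorElement, φV_eq_one]
      exact (k.ht g hg).elim (fun e => e ▸ one_mem _) fun e => e ▸ WC hw
    · obtain ⟨ψ, -, -, h₁, h₂, h₃, -⟩ := nat
      rw [← toSub_comV, ← toSub_fixV, ← toSub_sup, map_comapV]
      refine toSub_top.ge.trans (toSub_le_toSub.2 fun v _ => ?_)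
      obtain ⟨v', hv', e'⟩ := h₂ _ (h₁ v)
      exact Submodule.mem_sup.2 ⟨v', hv', v - v', (h₃ _).1 (by rw [map_sub, e', sub_self]), add_sub_cancel _ _⟩
  let ψ := (φV 2 G).comp (L.comap (φV 2 G)).subtype
  have e' : ψ.range = L := by rw [MonoidHom.range_comp, range_subtype, map_comapV]
  obtain ⟨a'⟩ := (actS_sym_iff (odd_two_mul_add_one _)).1 (actsAs_of_natSym (fun x => nV 2 ⊤ (mem_top _)) ψ rfl (e' ▸ nat))
  rw [← MonoidHom.range_eq_map] at a'
  obtain ⟨E', s', l⟩ := c.exists_sb hn a' EL b k.tB tL h2 tC k.ht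
  exact EE.notM s (l.trans (h.no E' s'))

end Main

theorem MC.false {p : ℕ} [Fact p.Prime] (h : MC p T M₀) : False := h.lin_false fun _ s =>
  (EE.blk s).cases2.resolve_right fun ⟨e, zw, _, hr, ⟨a⟩⟩ => by subst e; exact h.sym_false s zw hr a

end Cfsg.Agent.Lib.Blk
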