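import Cfsg.Agent.Lib.CgOff

/-! The minimal counterexample: `Ω₁ Z J(T) ≤ O_p(G)` and absence of over-offenders. -/

set_option autoImplicit false
open Cfsg

namespace Cfsg.Agent.Lib.Blk

open Subgroup Cfsg.Agent.Lib.PCoreConj Cfsg.Agent.Lib.PCore Cfsg.Agent.Lib.PCoreResidual Cfsg.Agent.Lib.PCoreMod
open Cfsg.Agent.Lib.ThompsonJ Cfsg.Agent.Lib.PushBase Cfsg.Agent.Lib.PIrred
open scoped Pointwise commutatorElement MatrixGroups

universe u
variable {G : Type u} [Group G] {p : ℕ} {T E H K X Y S A P V W D R M₀ M₁ : Subgroup G} {g x y z w : G}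

/-- The commutator map of an element on an abelian subgroup. -/
def cmap (hW : W ≤ C(W)) (hz : z ∈ N(W)) : W →* G := MonoidHom.mk' (fun w => ⁅(w : G), z⁆) fun a b => by
  rw [coe_mul, comm_mul_left, conj_eq_of_cent (hW a.2) (comm_mem_of_norm hz b.2)]
  exact hW (comm_mem_of_norm hz a.2) _ (comm_mem_of_norm hz b.2)

theorem mem_cmap {hW : W ≤ C(W)} {hz : z ∈ N(W)} : x ∈ (cmap hW hz).range ↔ ∃ w ∈ W, ⁅w, z⁆ = x :=
  ⟨fun ⟨w, e⟩ => ⟨w, w.2, e⟩, fun ⟨w, hw, e⟩ => ⟨⟨w, hw⟩, e⟩⟩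

theorem comm_congr (hw : w ∈ W) (h : x⁻¹ * y ∈ (C(W) : Subgroup G)) : ⁅w, y⁆ = ⁅w, x⁆ := by
  rw [← mul_inv_cancel_left x y, comm_mul_right, comm_eq_one_of_cent h hw, mul_one, mul_inv_cancel, mul_one]

variable [hp : Fact p.Prime] [Finite G]

namespace Blk
variable (h : Blk p T E) {F : Type*} [Field F] [Finite F] [CharP F p] (a : ActS (RL F) E (WE p E) (ZW p E))
  {v : Fin 2 → F} (hv : v ≠ 0) (e₁ : a.im (J p T) = UL v) (e₂ : a.pre (line v) = WE p E ⊓ C(J p T))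
include h hv e₁ e₂

omit [Finite F] [CharP F p] in
theorem comm_eq_one_of_UL (hz : z ∈ N(E)) (h₁ : a.θ z ∈ UL v) (h₂ : a.θ z ≠ 1) (hw : w ∈ WE p E) (k : ⁅w, z⁆ ∈ C(E)) :
    w ∈ a.pre (line v) ∧ ⁅w, z⁆ = 1 :=
  have m : w ∈ a.pre (line v) := ⟨hw, mem_line_of_fix hv h₁ h₂ ((a.fix_iff (norm_NN p E hz) hw).2
    ⟨comm_mem_of_norm (norm_WE p E hz) hw, k⟩)⟩
  ⟨m, h.fix_of_im a.toSect ((J_le_Bm p T).trans h.B_norm) hz (e₁.ge h₁) (e₂.le m)⟩

omit [Finite F] [CharP F p] in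
theorem lin_R (hz : z ∈ N(E)) (h₁ : a.θ z ∈ UL v) (h₂ : a.θ z ≠ 1) (hW : W ≤ WE p E) (hn : z ∈ N(W))
    (hl : ¬ W ≤ a.pre (line v)) (hP : P ≤ N(W)) (hc : ∀ g ∈ P, ⁅z, g⁆ ∈ C(WE p E)) (hX : ∀ w ∈ W, ⁅w, z⁆ ∈ X) :
    ∃ R ≤ WE p E, R ⊓ C(E) = ⊥ ∧ P ≤ N(R) ∧ R ⊓ X ≠ ⊥ := by
  have ab : W ≤ C(W) := hW.trans ((le_centralizer_of_isElementaryAbelian (WE_elem p E)).trans (centralizer_anti hW))
  refine ⟨(cmap ab hn).range, fun x hx => ?_, eq_bot_iff.2 fun x hx => ?_,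
    le_normalizer_iff_conj_le.2 fun g hg => conj_le_iff.2 fun x hx => ?_, fun e => hl fun w hw => ?_⟩
  · obtain ⟨w, hw, rfl⟩ := mem_cmap.1 hx
    exact hW (comm_mem_of_norm hn hw)
  · obtain ⟨w, hw, rfl⟩ := mem_cmap.1 hx.1
    exact (h.comm_eq_one_of_UL a hv e₁ e₂ hz h₁ h₂ (hW hw) hx.2).2
  · obtain ⟨w, hw, rfl⟩ := mem_cmap.1 hx
    refine mem_cmap.2 ⟨_, conj_mem_of_norm (hP hg) hw, ?_⟩
    rw [conj_comm]
    refine (comm_congr (hW (conj_mem_of_norm (hP hg) hw)) ?_).symm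
    have := conj_mem_of_norm (norm_C p E (inv_mem hz)) (inv_mem (hc g hg))
    simpa only [commutatorElement_def, mul_inv_rev, inv_inv, mul_assoc, inv_mul_cancel, mul_one] using this
  · have : ⁅w, z⁆ = 1 := mem_bot.1 (e.le (mem_inf.2 ⟨mem_cmap.2 ⟨w, hw, rfl⟩, hX w hw⟩))
    exact (h.comm_eq_one_of_UL a hv e₁ e₂ hz h₁ h₂ (hW hw) (by rw [this]; exact one_mem _)).1

end Blk

namespace MC
variable (h : MC p T M₀)
include h

theorem no_R (s : E ∈ EE p T M₀) (hP : P ≤ T) (hn : P ≤ N(X))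
    (hc : VG p G ⊓ X ⊓ C(P) ≤ C((sSup (EE p T M₀) : Subgroup G))) (h₁ : R ≤ WE p E) (h₂ : R ⊓ C(E) = ⊥)
    (h₃ : P ⊓ N(E) ≤ N(R)) : nclIn R P ⊓ X = ⊥ := by
  classical
  by_contra h₄
  let _ := Fintype.ofFinite P
  have RV := h₁.trans ((EE.blk s).WE_le_V h.syl h.hG)
  have l : nclIn R P ≤ VG p G := nclIn_le RV (nV p P)
  obtain ⟨x, hx, hx₁, hx₂, -⟩ := exists_mem_centralizer_pow_eq_one (h.pT.to_le hP)
    (h.pT.to_le ((inf_le_left.trans l).trans h.V_le)) (le_normalizer_inf (le_normalizer_nclIn R P) hn) h₄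
  refine hx₂ (indep_cent Finset.univ (fun g : P => R ^ᶜ (g : G)) (fun g => E ^ᶜ (g : G)) V_comm
    (fun g => conj_le_of_mem_normalizer RV (nV p ⊤ (mem_top _))) (fun g g' => ?_) (fun g => ?_) x
    ((nclIn_le_iff.2 fun g hg => le_iSup₂_of_le (f := fun (i : P) (_ : i ∈ Finset.univ) => R ^ᶜ (i : G)) ⟨g, hg⟩
      (Finset.mem_univ _) le_rfl) hx.1) fun g => centralizer_anti (le_sSup (h.conj_EE s (le_normalizer (hP g.2))))
      (hc (mem_inf.2 ⟨mem_inf.2 ⟨l hx.1, hx.2⟩, hx₁⟩)))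
  · refine (h.cj s (hP g.2) (hP g'.2)).imp (fun e => ?_) fun e =>
      (conj_mono _ (h₁.trans (WE_le_E p E))).trans (cent_of_comm_bot e)
    rw [conj_eq_iff_eq_conj_inv, conj_conj, eq_comm, ← mem_normalizer_iff_conj_eq] at e ⊢
    exact h₃ (mem_inf.2 ⟨mul_mem (inv_mem g.2) g'.2, e⟩)
  · rw [← conj_centralizer, ← conj_inf, h₂, conj_bot]

theorem exists_R (s : E ∈ EE p T M₀) (hP : P ≤ T) (hQ : pCore p G ≤ P) (hT : T ≤ N(P)) (hn : P ≤ N(X)) (hy : y ∈ P)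
    (h₁ : ∀ g ∈ P, ⁅y, g⁆ ∈ pCore p G) (h₂ : y ∉ C(WE p E)) (h₃ : ∀ v ∈ VG p G, ⁅v, y⁆ ∈ X) :
    ∃ R ≤ WE p E, R ⊓ C(E) = ⊥ ∧ P ⊓ N(E) ≤ N(R) ∧ nclIn R P ⊓ X ≠ ⊥ := by
  have b := EE.blk s
  have WV := b.WE_le_V h.syl h.hG
  have WT := WV.trans h.V_le
  have JN := (J_le_Bm p T).trans b.B_norm
  by_cases hyN : y ∈ (N(E) : Subgroup G)
  swap
  · obtain ⟨w, hw, k₁, k₂⟩ := b.exists_fixed_pt (P := P ⊓ N(E)) h.pT WT JN (b.not_J_cent h.syl h.hG)
      (h.pT.to_le (inf_le_left.trans hP)) inf_le_right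
      ((inf_le_left.trans hP).trans (le_normalizer.trans (normalizer_le_normalizer_J p T)))
    refine ⟨zpowers w, zpowers_le_of_mem hw, zpowers_inf_eq_bot ((WE_elem p E).2 w hw) k₂,
      le_normalizer_of_le_centralizer (le_centralizer_iff.1 (zpowers_le_of_mem k₁)), fun e => k₂ ?_⟩
    have := mem_bot.1 (e.le (mem_inf.2 ⟨comm_mem_of_norm (le_normalizer_nclIn _ P hy) (le_nclIn _ P (mem_zpowers w)),
      h₃ w (WV hw)⟩))
    rw [← mul_inv_eq_iff_eq_mul.2 (commutatorElement_eq_one_iff_mul_comm.1 this).symm]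
    exact h.cj' s (hP hy) hyN (conj_mem_conj y (WE_le_E p E hw))
  suffices k : ∃ R ≤ WE p E, R ⊓ C(E) = ⊥ ∧ P ⊓ N(E) ≤ N(R) ∧ R ⊓ X ≠ ⊥ by
    obtain ⟨R, k₁, k₂, k₃, k₄⟩ := k
    exact ⟨R, k₁, k₂, k₃, fun e => k₄ (le_bot_iff.1 ((inf_le_inf_right _ (le_nclIn R P)).trans e.le))⟩
  rcases b.cases' with ⟨F, _, _, _, ⟨a⟩, -⟩ | ⟨-, -, -, -, -, e⟩
  swap
  · refine ⟨_, le_rfl, e, inf_le_right.trans (norm_WE p E), fun k => h₂ (mem_centralizer_iff.2 fun w hw =>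
      commutatorElement_eq_one_iff_mul_comm.1 (mem_bot.1 (k.le (mem_inf.2
        ⟨comm_mem_of_norm (norm_WE p E hyN) hw, h₃ w (WV hw)⟩))))⟩
  obtain ⟨v, hv, e₁, e₂⟩ := b.lin_J a h.pT WT JN (b.not_J_cent h.syl h.hG)
  have QC := b.Q_cent h.syl
  have pw : ∀ z ∈ T, ∃ k, a.θ z ^ p ^ k = 1 := fun z hz =>
    isPGroup_iff_forall_mem.1 (a.im_isPGroup h.pT) _ (a.θ_mem hz)
  by_cases hl : X ⊓ WE p E ≤ a.pre (line v)
  · obtain ⟨k, hk⟩ := pw y (hP hy)
    refine b.lin_R a hv e₁ e₂ hyN (mem_UL_of_sub (a.θ_norm hyN) hv (fun m => ?_) hk)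
      (fun e => h₂ ((b.θ_eq_one a.toSect hyN).1 e)) le_rfl (norm_WE p E hyN) (fun e => line_ne_top hv ?_)
      (inf_le_right.trans (norm_WE p E)) (fun g hg => QC (h₁ g hg.1)) fun w hw => h₃ w (WV hw)
    · obtain ⟨w, hw, rfl⟩ := a.onto m
      rw [← a.ψ_comm (norm_NN p E hyN) hw]
      exact (hl (mem_inf.2 ⟨h₃ w (WV hw), comm_mem_of_norm (norm_WE p E hyN) hw⟩)).2
    · refine eq_top_iff.2 fun m _ => ?_
      obtain ⟨w, hw, rfl⟩ := a.onto m
      exact (e hw).2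
  have JT := J_le p T
  have n₁ : J p T ≤ N((P ⊓ rel (pCore p G) P ⊓ N(E) : Subgroup G)) := le_normalizer_inf (le_normalizer_inf (JT.trans hT)
    (le_norm_rel (nQ p _) (JT.trans hT))) (JN.trans le_normalizer)
  obtain ⟨z, hz, k₁, k₂⟩ := exists_fixed_mod (U := P ⊓ rel (pCore p G) P ⊓ N(E) ⊓ C(WE p E)) (h.pT.to_le JT)
    (le_normalizer_inf n₁ (JN.trans (norm_C p E))) _ (h.pT.to_le ((inf_le_left.trans inf_le_left).trans hP)) n₁
    fun e => h₂ (e (mem_inf.2 ⟨mem_inf.2 ⟨hy, mem_rel.2 ⟨nQ' p y, fun g hg => comm_mem_swap (h₁ g hg)⟩⟩, hyN⟩)).2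
  obtain ⟨k, hk⟩ := pw z (hP hz.1.1)
  refine b.lin_R a hv e₁ e₂ hz.2 (mem_UL_of_comm (a.θ_norm hz.2) hv (fun r hr => ?_) hk)
    (fun e => k₁ (mem_inf.2 ⟨hz, (b.θ_eq_one a.toSect hz.2).1 e⟩)) inf_le_right
    (le_normalizer_inf (inf_le_left.trans hn) (inf_le_right.trans (norm_WE p E)) (mem_inf.2 ⟨hz.1.1, hz.2⟩)) hl
    (le_normalizer_inf (inf_le_left.trans hn) (inf_le_right.trans (norm_WE p E)))
    (fun g hg => QC (comm_mem_swap ((mem_rel.1 hz.1.2).2 g hg.1))) fun w hw => comm_mem_of_norm (hn hz.1.1) hw.1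
  obtain ⟨j, hj, rfl⟩ := (a.mem_im' (JN.trans (norm_NN p E))).1 (e₁.ge hr)
  rw [← commutatorElement_eq_one_iff_mul_comm, ← a.θ_comm (norm_NN p E hz.2) (norm_NN p E (JN hj))]
  exact a.θ_of_cent (k₂ j hj).2

omit h in
theorem pxq (hQ : pCore p G ≤ pCoreOf p P) (h₁ : pResidualOf p P ≤ C(omegaOneCenter p (pCoreOf p P)))
    (h₂ : ⁅pCoreOf p P, pResidualOf p P⁆ ≤ pCore p G) : pResidualOf p P ≤ C(VG p G) := by
  by_contra k
  obtain ⟨v, hv, k₁, k₂⟩ := exists_fixed_mod (U := VG p G ⊓ C(pResidualOf p P)) (pCoreOf_isPGroup p P)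
    (le_normalizer_inf (nV p _) (le_normalizer_centralizer ((pCoreOf_le p P).trans (le_normalizer_pResidualOf p P))))
    (VG p G) (isPGroup_of_isElementaryAbelian V_elem) (nV p _)
    fun e => k (le_centralizer_iff.1 (e.trans inf_le_right))
  have l := zpowers_le_of_mem hv
  have k₃ : ⁅zpowers v, pResidualOf p P⁆ ≤ C(pCoreOf p P) := three_cent
    (((commutator_comm _ _).le.trans h₂).trans ((le_centralizer_omegaOneCenter p _).trans (centralizer_anti l)))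
    ((comm_le_of_le_rel (zpowers_le_of_mem (mem_rel.2 ⟨le_normalizer_of_le_centralizer
      (V_comm.trans (centralizer_anti inf_le_left)) hv, fun g hg => comm_mem_swap (k₂ g hg)⟩))).trans inf_le_right)
  have k₄ : ⁅zpowers v, pResidualOf p P⁆ ≤ VG p G :=
    (commutator_mono l le_rfl).trans (commutator_le_left_of_le_normalizer (nV p _))
  have k₅ := le_omegaOneCenter (isElementaryAbelian_of_le V_elem k₄) (k₄.trans ((omegaOneCenter_le p _).trans hQ)) k₃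
  refine k₁ (mem_inf.2 ⟨hv, le_centralizer_iff.1 (pResidualOf_le_iff.2 fun x hx ho => mem_cent_zp.2 ?_) (mem_zpowers v)⟩)
  exact commutatorElement_eq_one_iff_mul_comm.1 (cent_of_coprime_of_comm
    (isPGroup_of_isElementaryAbelian (isElementaryAbelian_omegaOneCenter p _)) ho
    (comm_mem_swap (k₅ (commutator_mem_commutator (mem_zpowers v) (mem_pResidualOf hx ho)))) (h₁ (mem_pResidualOf hx ho)))

theorem lemD (h₁ : pCore p G ≤ D) (h₂ : D ≤ T) (h₃ : T ≤ N(D)) (h₄ : ∀ E ∈ EE p T M₀, ⁅D, E⁆ ≤ pCore p G)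
    (h₅ : ∀ P M₁, MinOver T M₁ P → ¬ pResidualOf p P ≤ C(omegaOneCenter p (pCoreOf p P)) → P ≤ N(D)) :
    D ≤ pCore p G := by
  by_contra hD
  have n₁ : (N(D) : Subgroup G) ≠ ⊤ := fun e => hD (le_pCore (normal_iff_top_le.2 e.ge) (h.pT.to_le h₂))
  have EN : ∀ E ∈ EE p T M₀, E ≤ N(D) := fun E s => le_normalizer_of_commutator_le ((h₄ E s).trans h₁)
  have KN : sSup (EE p T M₀) ≤ N(D) := sSup_le EN
  have NK := h.norm_EE h₃ n₁ KN
  obtain ⟨E₀, s₀⟩ := h.exists_EE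
  have n₂ : ¬ ⊤[G] ≤ N((sSup (EE p T M₀) : Subgroup G)) := fun e => (h.normal_cases e).elim
    (fun k => EE.notM s₀ ((le_sSup s₀).trans k)) fun k => n₁ (top_le_iff.1 (k.ge.trans (sup_le KN h₃)))
  obtain ⟨P, hP, hm, hn⟩ : ∃ P, T ≤ P ∧ IsPMinimal p P ∧ ¬ P ≤ N((sSup (EE p T M₀) : Subgroup G)) := by
    by_contra! k
    exact n₂ (PMinimal.mcBride ⊤ h.syl (inf_le_right.trans (TIOffCls.le_normalizer_sSup fun _ hg _ s => h.conj_EE s hg))
      fun P a _ b => k P a b)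
  have sy := h.syl.of_le hP le_top
  obtain ⟨M₁, hm⟩ := (PMinimal.isPMinimal_iff sy).1 hm
  have top : P ⊔ sSup (EE p T M₀) = ⊤ := by
    by_contra k
    exact hn (le_sup_left.trans (h.norm_EE (hP.trans le_sup_left) k le_sup_right))
  have hL : pResidualOf p P ≤ C(omegaOneCenter p (pCoreOf p P)) := by
    by_contra k
    exact hn ((h₅ P M₁ hm k).trans NK)
  have QQ := Q_le_core h.syl hP
  have QT : pCoreOf p P ≤ T := sy.pCoreOf_le
  obtain ⟨z, hz, z₁, z₂⟩ := exists_fixed_mod h.pT (nQ p T) D (h.pT.to_le h₂) h₃ hD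
  have nR : P ≤ N((P ⊓ rel (pCore p G) (pCoreOf p P) : Subgroup G)) :=
    le_normalizer_inf le_normalizer (le_norm_rel (nQ p P) (le_normalizer_pCoreOf p P))
  have zQ : z ∈ pCoreOf p P := by
    rcases PMinimal.MinOver.pResidualOf_le_or hm h.pT inf_le_left (hP.trans nR) with k | k
    · exact absurd ((pResidualOf_sup_of_isSylowIn sy).ge.trans (sup_le ((((pxq QQ hL
        (comm_le_of_le_rel (k.trans inf_le_right))).trans h.CV_le_Q).trans h₁).trans (le_normalizer.trans NK))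
        (h₃.trans NK))) hn
    · exact PMinimal.MinOver.inf_le_pCoreOf hm h.pT (SubnormalIn.of_normal inf_le_left nR) k (mem_inf.2
        ⟨mem_inf.2 ⟨hP (h₂ hz), mem_rel.2 ⟨nQ' p z, fun g hg => comm_mem_swap (z₂ g (QT hg))⟩⟩, h₂ hz⟩)
  have VD : ⁅VG p G, D⁆ ≤ C((sSup (EE p T M₀) : Subgroup G)) := le_centralizer_iff.1 (sSup_le fun E s =>
    le_centralizer_iff.1 (three_cent ((h₄ E s).trans (le_centralizer_omegaOneCenter p _))
      (((commutator_comm _ _).le.trans ((EE.blk s).VE h.syl h.hG)).trans (le_centralizer_iff.1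
        ((EE.blk s).cent_of_pgroup (h.pT.to_le h₂) ((EE.blk s).norm_of_inv h.syl (h.pT.to_le h₂)
          ((Bm_le p T).trans h₃) (EN E s)) (EN E s))))))
  obtain ⟨l, hl, E, s, hy⟩ : ∃ l ∈ P, ∃ E ∈ EE p T M₀, l * z * l⁻¹ ∉ C(WE p E) := by
    by_contra! k
    have l₁ : ∀ E ∈ EE p T M₀, WE p E ≤ nclIn (⨆ E ∈ EE p T M₀, WE p E) P := fun E s =>
      (le_iSup₂ (f := fun E (_ : E ∈ EE p T M₀) => WE p E) E s).trans (le_nclIn _ _)
    have l₂ : nclIn (⨆ E ∈ EE p T M₀, WE p E) P ≤ VG p G :=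
      nclIn_le (iSup₂_le fun E s => (EE.blk s).WE_le_V h.syl h.hG) (nV p P)
    have l₃ : nclIn (⨆ E ∈ EE p T M₀, WE p E) P ≤ C(zpowers z) := nclIn_le_iff.2 fun g hg => by
      rw [conj_le_iff_le_conj_inv, conj_centralizer, conj_zpowers]
      exact iSup₂_le fun E s => le_centralizer_iff.1 (zpowers_le_of_mem (k _ (inv_mem hg) E s))
    exact z₁ (h.le_Q (EE.blk s₀) (EE.notM s₀) (le_normalizer_centralizer (top.ge.trans (sup_le (le_normalizer_nclIn _ _)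
      (sSup_le fun E s => le_normalizer_of_commutator_le ((commutator_mono l₂ le_rfl).trans
        (((EE.blk s).VE h.syl h.hG).trans (l₁ E s))))))) (centralizer_anti (l₁ E₀ s₀))
      (le_centralizer_iff.1 l₃ (mem_zpowers z)))
  have nl := le_normalizer_pCoreOf p P hl
  have nX : pCoreOf p P ≤ N((C(sSup (EE p T M₀) ^ᶜ l) : Subgroup G)) := le_normalizer_centralizer
    ((conj_eq_of_mem_normalizer nl).ge.trans (le_normalizer_conj (QT.trans (h₃.trans NK)) l))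
  obtain ⟨R, r₁, r₂, r₃, r₄⟩ := h.exists_R s QT QQ (hP.trans (le_normalizer_pCoreOf p P)) nX (conj_mem_of_norm nl zQ)
    (fun g hg => by
      have := cQ l (z₂ _ (QT (conj_mem_of_norm (inv_mem nl) hg)))
      rwa [conj_comm, show l * (l⁻¹ * g * l⁻¹⁻¹) * l⁻¹ = g by group] at this) hy fun v hv => by
      have := conj_mem_conj l (VD (commutator_mem_commutator (conj_mem_of_norm (nV p ⊤ (mem_top l⁻¹)) hv) hz))
      rwa [conj_centralizer, conj_comm, show l * (l⁻¹ * v * l⁻¹⁻¹) * l⁻¹ = v by group] at this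
  refine r₄ (h.no_R s QT nX (fun x hx => ?_) r₁ r₂ r₃)
  obtain ⟨l', hl', t, ht, rfl⟩ := (mem_sup_iff_of_le_normalizer' (hP.trans (le_normalizer_pResidualOf p P))).1
    ((pResidualOf_sup_of_isSylowIn sy).ge hl)
  have k := hx.1.2
  rw [← conj_conj, conj_eq_of_mem_normalizer (NK (h₃ ht)), ← conj_centralizer, ← conj_eq_of_cent (hL hl')
    (le_omegaOneCenter (isElementaryAbelian_of_le V_elem (inf_le_left.trans inf_le_left))
      ((inf_le_left.trans inf_le_left).trans ((omegaOneCenter_le p _).trans QQ)) inf_le_right hx)] at k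
  exact conj_mem_conj_iff.1 k

omit h in
theorem cent_le_core (hT : IsSylowIn p T P) (hm : MinOver T M₁ P) (hP : P ≤ N(V)) (hL : ¬ pResidualOf p P ≤ C(V)) :
    T ⊓ C(V) ≤ pCoreOf p P :=
  have n : P ≤ N((P ⊓ C(V) : Subgroup G)) := le_normalizer_inf le_normalizer (le_normalizer_centralizer hP)
  (le_inf (inf_le_inf_right _ hT.le) inf_le_left).trans (PMinimal.MinOver.inf_le_pCoreOf hm hT.isPGroup
    (SubnormalIn.of_normal inf_le_left n) ((PMinimal.MinOver.pResidualOf_le_or hm hT.isPGroup inf_le_left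
      (hT.le.trans n)).resolve_left fun e => hL (e.trans inf_le_right)))

theorem VP_le_Q (l : T ≤ P) : omegaOneCenter p (pCoreOf p P) ≤ pCore p G :=
  (omegaOneCenter_le_centralizer p _).trans ((centralizer_anti (Q_le_core h.syl l)).trans h.hG)

theorem ZJ_le_Q : ZJ p T ≤ pCore p G := by
  have nZ : T ≤ N(ZJ p T) := le_normalizer.trans (normalizer_le_normalizer_ZJ p T)
  refine le_sup_left.trans (h.lemD le_sup_right (sup_le (ZJ_le p T) h.Q_le) (le_normalizer_sup nZ (nQ p T))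
    (fun E s => (commutator_comm _ _).le.trans (commutator_sup_le (nQ p _) (nQ p _) ((commutator_comm _ _).le.trans
      ((EE.blk s).ZJ_comm h.syl h.hG (h.U_le_T s))) (commutator_le_right_of_le_normalizer (nQ p E)))) fun P M₁ hm hL => ?_)
  have sy := h.syl.of_le hm.le_top' le_top
  have el := isElementaryAbelian_omegaOneCenter p (pCoreOf p P)
  have nP := le_normalizer_omegaOneCenter (p := p) (le_normalizer_pCoreOf p P)
  have VQ := omegaOneCenter_le p (pCoreOf p P)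
  have QT := sy.pCoreOf_le
  have VG' := h.VP_le_Q hm.le_top'
  have QV := le_centralizer_omegaOneCenter p (pCoreOf p P)
  generalize omegaOneCenter p (pCoreOf p P) = V at hL el nP VQ VG' QV
  have key : ∀ A, MaxAb p T A → MaxAb p T (A ⊓ C(V) ⊔ V) ∧ A ⊓ C(V) ⊔ V ≤ pCoreOf p P := fun A hA =>
    ⟨(card_le_of_maxAb el (VQ.trans QT) hA).2 (noOver sy hm el nP QV hL (hA.le.trans hm.le_top')
      ((comm_bot_of_cent hA.abExp.le_centralizer).le.trans bot_le) fun a ha => by rw [hA.abExp.pow ha]; exact one_mem _),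
    sup_le ((inf_le_inf_right _ hA.le).trans (cent_le_core sy hm nP hL)) VQ⟩
  obtain ⟨A₀, hA₀⟩ := exists_maxAb p T
  have ZZ := (key A₀ hA₀).1.ZJ_le_ZJ (key A₀ hA₀).2 QT
  have nZ₁ : P ≤ N(ZJ p (pCoreOf p P)) := (le_normalizer_pCoreOf p P).trans (normalizer_le_normalizer_ZJ p _)
  have nR : P ≤ N((P ⊓ rel V (ZJ p (pCoreOf p P)) : Subgroup G)) := le_normalizer_inf le_normalizer (le_norm_rel nP nZ₁)
  rcases PMinimal.MinOver.pResidualOf_le_or hm h.pT inf_le_left (hm.le_top'.trans nR) with k | k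
  · refine (pResidualOf_sup_of_isSylowIn sy).ge.trans (sup_le (le_normalizer_of_commutator_le ((commutator_comm _ _).le.trans
      ((commutator_sup_le (nQ p _) (nQ p _) ((commutator_comm _ _).le.trans (((commutator_mono ZZ le_rfl).trans
        (comm_le_of_le_rel (k.trans inf_le_right))).trans VG')) (commutator_le_right_of_le_normalizer (nQ p _))).trans
        le_sup_right))) (le_normalizer_sup nZ (nQ p T)))
  · have JQ : J p T ≤ pCoreOf p P := (le_inf (J_le_iff.2 fun A hA => le_inf (hA.le.trans hm.le_top') (le_rel_iff.2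
      ⟨(hA.le.trans hm.le_top').trans nP, (commutator_mono ((key A hA).1.of_le (key A hA).2 QT).ZJ_le le_rfl).trans
        ((commutator_comm _ _).le.trans (commutator_sup_le (inf_le_right.trans C_norm_W) le_normalizer
          ((comm_bot_of_cent (hA.abExp.le_centralizer.trans (centralizer_anti inf_le_left))).le.trans bot_le)
          (commutator_le_right_of_le_normalizer ((hA.le.trans hm.le_top').trans nP))))⟩)) (J_le p T)).trans
      (PMinimal.MinOver.inf_le_pCoreOf hm h.pT (SubnormalIn.of_normal inf_le_left nR) k)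
    exact le_normalizer_sup (ZJ_eq_of_J_le JQ QT ▸ nZ₁) (nQ p P)

theorem V_le_B : VG p G ≤ Bm p T :=
  le_inf h.V_le ((omegaOneCenter_le_centralizer p _).trans (centralizer_anti h.ZJ_le_Q))

theorem U_le_Q (s : E ∈ EE p T M₀) : pCoreOf p E ≤ pCore p G :=
  (h.UV (EE.blk s) (EE.notM s) (h.U_le_T s) h.V_le_B).trans h.CV_le_Q

end MC

/-- An over-offender on every invariant subgroup of `V`. -/
structure Ov (p : ℕ) (X : Subgroup G) : Prop where
  comm : ⁅X, X⁆ ≤ C(VG p G)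
  pow : ∀ x ∈ X, x ^ p ∈ C(VG p G)
  ov : ∀ W ≤ VG p G, X ≤ N(W) → ¬ X ≤ C(W) →
    Nat.card ↥(X ⊓ C(W)) * Nat.card W < Nat.card X * Nat.card ↥(W ⊓ C(X))

omit hp [Finite G] in
theorem Ov.conj (o : Ov p X) (g : G) : Ov p (X ^ᶜ g) where
  comm := by rw [← conj_commutator, ← conj_V g, ← conj_centralizer]; exact conj_mono g o.comm
  pow x hx := by
    obtain ⟨y, hy, rfl⟩ := mem_conj_iff'.1 hx
    rw [conj_pow, ← conj_V g, ← conj_centralizer]
    exact conj_mem_conj g (o.pow y hy)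
  ov W h₁ h₂ h₃ := by
    obtain ⟨W, rfl⟩ : ∃ W', W = W' ^ᶜ g := ⟨_, (conj_inv_conj W g).symm⟩
    rw [← conj_centralizer, ← conj_centralizer, ← conj_inf, ← conj_inf, card_conj, card_conj, card_conj, card_conj]
    rw [← conj_normalizer, conj_le_conj_iff] at h₂
    rw [← conj_centralizer, conj_le_conj_iff] at h₃
    rw [← conj_V g, conj_le_conj_iff] at h₁
    exact o.ov W h₁ h₂ h₃

namespace MC
variable (h : MC p T M₀)
include h

theorem norm_of_ov (s : E ∈ EE p T M₀) (hX : X ≤ T) (h₁ : ⁅X, X⁆ ≤ C(VG p G)) (h₂ : ∀ x ∈ X, x ^ p ∈ C(VG p G))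
    (h₃ : ∀ W ≤ VG p G, X ≤ N(W) → ¬ X ≤ C(W) →
      Nat.card ↥(X ⊓ C(W)) * Nat.card W ≤ Nat.card X * Nat.card ↥(W ⊓ C(X))) : X ≤ N(E) := by
  have b := EE.blk s
  by_cases k : X ≤ C(nclIn (WE p E) X)
  · exact (k.trans (centralizer_anti (le_nclIn _ _))).trans (b.cent_le_norm h.syl h.hG)
  · exact b.norm_of_off h.syl h.hG (fun x hx y hy => h.cj s (hX hx) (hX hy)) h₁ h₂
      (h₃ _ (nclIn_le (b.WE_le_V h.syl h.hG) (nV p X)) (le_normalizer_nclIn _ _) k)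

theorem ov_le_Q (o : Ov p X) : X ≤ pCore p G := by
  suffices k : ∀ X, Ov p X → X ≤ T → X ≤ pCore p G by
    obtain ⟨g, -, hg⟩ := h.syl.exists_conj_le (le_top : X ≤ ⊤) (isPGroup_of_pow_mem (pCore_isPGroup p G)
      fun x hx => ⟨1, by rw [pow_one]; exact h.CV_le_Q (o.pow x hx)⟩)
    exact (conj_le_iff_le_conj_inv.1 (k _ (o.conj g) hg)).trans (conj_eq_of_normal _ _).le
  intro X o hX
  have nD : ∀ P, (∀ X, Ov p X → X ≤ T → ∀ g ∈ P, X ^ᶜ g ≤ T) →
      P ≤ N((sSup {X | Ov p X ∧ X ≤ T} ⊔ pCore p G : Subgroup G)) := fun P k =>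
    le_normalizer_sup (TIOffCls.le_normalizer_sSup fun g hg X hX => ⟨hX.1.conj g, k X hX.1 hX.2 g hg⟩) (nQ p P)
  refine ((le_sSup (show X ∈ {X | Ov p X ∧ X ≤ T} from ⟨o, hX⟩)).trans le_sup_left).trans (h.lemD le_sup_right
    (sup_le (sSup_le fun X hX => hX.2) h.Q_le) (nD T fun X _ hX g hg => conj_le_of_mem hX hg)
    (fun E s => (commutator_comm _ _).le.trans (commutator_sup_le (nQ p _) (nQ p _)
      (comm_le_of_le_rel (sSup_le fun X hX => le_rel_iff.2 ⟨nQ p _, ?_⟩))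
      (commutator_le_right_of_le_normalizer (nQ p E)))) fun P M₁ hm hL => nD P fun X o hX g hg => ?_)
  · have b := EE.blk s
    have n := h.norm_of_ov s hX.2 hX.1.comm hX.1.pow fun W a₁ a₂ a₃ => (hX.1.ov W a₁ a₂ a₃).le
    have CV : (C(VG p G) : Subgroup G) ≤ C(WE p E) := centralizer_anti (b.WE_le_V h.syl h.hG)
    refine (commutator_comm _ _).le.trans ((b.NC_comm' (le_inf n ?_)).trans (h.U_le_Q s))
    by_contra k
    exact (b.not_over n (hX.1.comm.trans CV) fun x hx => CV (hX.1.pow x hx)).not_gt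
      (hX.1.ov _ (b.WE_le_V h.syl h.hG) (n.trans (norm_WE p E)) k)
  · have sy := h.syl.of_le hm.le_top' le_top
    have el := isElementaryAbelian_omegaOneCenter p (pCoreOf p P)
    have nP := le_normalizer_omegaOneCenter (p := p) (le_normalizer_pCoreOf p P)
    have VV := le_omegaOneCenter el (h.VP_le_Q hm.le_top') ((omegaOneCenter_le_centralizer p _).trans
      (centralizer_anti (Q_le_core h.syl hm.le_top')))
    refine (conj_le_of_mem_normalizer ((le_inf hX ?_).trans (cent_le_core sy hm nP hL))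
      (le_normalizer_pCoreOf p P hg)).trans sy.pCoreOf_le
    by_contra k
    exact (noOver sy hm el nP (le_centralizer_omegaOneCenter p _) hL (hX.trans hm.le_top')
      (o.comm.trans (centralizer_anti VV)) fun x hx => centralizer_anti VV (o.pow x hx)).not_gt
      (o.ov _ VV ((hX.trans hm.le_top').trans nP) k)

end MC

end Cfsg.Agent.Lib.Blk
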