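import Cfsg.Agent.Lib.CgBase

/-! Exceptional blocks and the Baumann subgroup. -/

set_option autoImplicit false
open Cfsg

namespace Cfsg.Agent.Lib.Blk

open Subgroup Cfsg.Agent.Lib.PCoreConj Cfsg.Agent.Lib.PCore Cfsg.Agent.Lib.PCoreResidual Cfsg.Agent.Lib.PCoreMod
open Cfsg.Agent.Lib.ThompsonJ Cfsg.Agent.Lib.PushBase Cfsg.Agent.Lib.PIrred
open scoped Pointwise commutatorElement MatrixGroups

universe u
variable {G : Type u} [Group G] {p : ℕ} {T E H K U X Y S A M₀ : Subgroup G} {g x y u v w a b e : G}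

/-- Elements normalizing a block and centralizing its module. -/
abbrev NC (p : ℕ) (E : Subgroup G) : Subgroup G := N(E) ⊓ C(WE p E)

theorem norm_chcl_of (hX : X ≤ S) (h : ∀ φ : S ≃* S, ⁅tw φ X, E⁆ ≤ X) : E ≤ N(chcl S X) :=
  le_normalizer_of_commutator_le ((commutator_comm _ _).le.trans (commutator_iSup_le
    (fun φ => (tw_le_chcl φ X).trans le_normalizer) fun φ => (commutator_comm _ _).le.trans ((h φ).trans (le_chcl hX))))

theorem CM.exists_tw (h : CM p T M₀) (hM : ¬ E ≤ M₀) (h₁ : X ≤ Bm p T) (h₂ : X ≠ ⊥) :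
    ∃ φ : Bm p T ≃* Bm p T, ¬ ⁅tw φ X, E⁆ ≤ X := by
  by_contra! k
  exact hM ((norm_chcl_of h₁ k).trans (h.norm_chcl h₁ h₂))

variable [hp : Fact p.Prime] [Finite G]

theorem Blk.NC_comm (h : Blk p T E) (hx : x ∈ NC p E) (he : e ∈ E) : ⁅x, e⁆ ∈ pCoreOf p E :=
  h.faith' ⟨comm_mem_swap (comm_mem_of_norm hx.1 he),
    comm_mem_of_norm (le_normalizer_centralizer (le_normalizer.trans (norm_WE p E)) he) hx.2⟩

theorem Blk.NC_comm' (h : Blk p T E) (hX : X ≤ NC p E) : ⁅X, E⁆ ≤ pCoreOf p E :=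
  commutator_le.2 fun _ hx _ he => h.NC_comm (hX hx) he

theorem Blk.norm_sup (h : Blk p T E) (hX : X ≤ NC p E) : E ≤ N(X ⊔ pCoreOf p E) :=
  le_normalizer_of_commutator_le (((commutator_comm _ _).le.trans (commutator_sup_le
    ((hX.trans inf_le_left).trans (normalizer_le_normalizer_pCoreOf p E)) le_normalizer
    ((commutator_comm _ _).le.trans (h.NC_comm' hX))
    (commutator_le_right_of_le_normalizer (le_normalizer_pCoreOf p E)))).trans le_sup_right)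

theorem Blk.W_le_J (h : Blk p T E) (hT : IsSylowIn p T ⊤) (hG : C(pCore p G) ≤ pCore p G) : WE p E ≤ J p T := by
  obtain ⟨M, _, R, m, ⟨a⟩⟩ := h.model
  obtain ⟨A, hA⟩ := exists_maxAb p T
  exact le_sup_right.trans (h.off m a ((h.WE_le_Q hT hG).trans hT.pCore_le) hA
    (hA.le_J.trans ((J_le_Bm p T).trans h.B_norm))).2.2.le_J

theorem Blk.W_le_B (h : Blk p T E) (hT : IsSylowIn p T ⊤) (hG : C(pCore p G) ≤ pCore p G) : WE p E ≤ Bm p T :=
  (h.W_le_J hT hG).trans (J_le_Bm p T)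

theorem Blk.ZJ_le_NC (h : Blk p T E) (hT : IsSylowIn p T ⊤) (hG : C(pCore p G) ≤ pCore p G) : ZJ p T ≤ NC p E :=
  le_inf ((ZJ_le_J p T).trans ((J_le_Bm p T).trans h.B_norm))
    ((ZJ_le_centralizer_J p T).trans (centralizer_anti (h.W_le_J hT hG)))

/-- An exceptional block with coordinates. -/
structure XD (p : ℕ) (T E : Subgroup G) (F : Type) [Field F] extends XB p T E F where
  hT : IsSylowIn p T ⊤
  hG : C(pCore p G) ≤ pCore p G
  hU : pCoreOf p E ≤ T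
  /-- an involution -/
  t : G
  tE : t ∈ E
  ta : a.θ t = negA _
  ts : s.θ t = negA _
  /-- coordinates on `W₀ / W` -/
  c : Sect F (W0 p E) (WE p E)
  form : ∀ u ∈ pCoreOf p E, ∀ v ∈ pCoreOf p E, c.ψ ⁅u, v⁆ = det2 (s.ψ u) (s.ψ v)

theorem XB.exists_XD {F : Type} [Field F] [Finite F] [CharP F p] (d : XB p T E F) (hT : IsSylowIn p T ⊤)
    (hG : C(pCore p G) ≤ pCore p G) (hU : pCoreOf p E ≤ T) : ∃ d' : XD p T E F, d'.toXB = d := by
  obtain ⟨t, ht, t2, ta⟩ := d.blk.exists_inv d.a d.ne_two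
  have ts : d.s.θ t = negA _ := eq_negA d.ne_two (RL_le_PL (d.s.θ_mem' ht))
    (by rw [← d.s.θ_pow (d.s.norm ht), t2, d.s.θ_one]) fun e => negA_ne_one (F := F) d.ne_two (by
      rw [← ta]
      exact d.a.θ_of_cent (core_le_cent' p E (d.faith.le ⟨ht, (d.s.θ_eq_one_iff' (d.s.norm ht)).1 e⟩)))
  obtain ⟨c, hc⟩ := d.exists_form
  exact ⟨⟨d, hT, hG, hU, t, ht, ta, ts, c, hc⟩, rfl⟩

namespace XD
variable {F : Type} [Field F] [Finite F] [CharP F p] (d : XD p T E F)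

/-- The vector attached to an element centralizing `W`. -/
noncomputable def mv (x : G) : Fin 2 → F := d.s.ψ (x⁻¹ * (d.t * x * d.t⁻¹))

include d

omit hp [Finite G] [Finite F] [CharP F p] in
theorem UU (hu : u ∈ pCoreOf p E) (hv : v ∈ pCoreOf p E) : ⁅u, v⁆ ∈ ZE p E :=
  d.exc.comm.le (commutator_mem_commutator hu hv)

theorem cW0 (hx : x ∈ NC p E) (hu : u ∈ pCoreOf p E) : ⁅u, x⁆ ∈ W0 p E :=
  d.comm_le_W0 d.hT d.hG (commutator_mem_commutator hu hx)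

theorem NC_W0 : NC p E ≤ C(W0 p E) := d.cent_W0 (d.comm_le_W0 d.hT d.hG) inf_le_right

omit [Finite F] [CharP F p] in
theorem mv_mem (hx : x ∈ NC p E) : x⁻¹ * (d.t * x * d.t⁻¹) ∈ pCoreOf p E := by
  have := d.blk.NC_comm (inv_mem hx) d.tE
  rwa [commutatorElement_def, inv_inv, mul_assoc, mul_assoc, ← mul_assoc d.t] at this

theorem eq_of_c (hu : u ∈ ZE p E) (hv : v ∈ ZE p E) (e : d.c.ψ u = d.c.ψ v) : u = v :=
  inv_mul_eq_one.1 (mem_bot.1 (d.WE_inf.le (mem_inf.2 ⟨(d.c.eq_iff (ZE_le p E hu) (ZE_le p E hv)).1 e,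
    mul_mem (inv_mem hu) hv⟩)))

omit hp [Finite G] [Finite F] [CharP F p] in
theorem c_E (he : e ∈ E) (hw : w ∈ W0 p E) : d.c.ψ (e * w * e⁻¹) = d.c.ψ w :=
  (d.c.eq_iff' (conj_mem_of_norm (norm_W0 p E (le_normalizer he)) hw) hw).2
    (comm_mem_swap (commutator_mem_commutator hw he))

theorem gform (hx : x ∈ NC p E) (hu : u ∈ pCoreOf p E) : d.c.ψ ⁅u, x⁆ = det2 (d.s.ψ u) (d.mv x) := by
  have n := d.s.norm d.tE
  have hv := conj_mem_of_norm n.1 hu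
  have e₁ : d.s.ψ (d.t * u * d.t⁻¹) = -d.s.ψ u := by rw [← d.s.θ_ψ n hu, d.ts, negA_apply]
  have k₁ : u * (d.t * u * d.t⁻¹) ∈ W0 p E := by
    rw [← d.s.ker _ (mul_mem hu hv), d.s.add _ hu _ hv, e₁, add_neg_cancel]
  have e₂ := comm_eq_one_of_cent (d.NC_W0 hx) k₁
  rw [comm_mul_left, conj_eq_of_cent (core_le_cent p E hu) (d.cW0 hx hv)] at e₂
  have e₃ := d.c.add _ (d.cW0 hx hv) _ (d.cW0 hx hu)
  rw [e₂, d.c.one] at e₃
  have e₄ := d.c_E d.tE (d.cW0 hx hu)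
  have k₂ := ZE_le p E (d.UU hv (d.mv_mem hx))
  rw [conj_comm, ← mul_inv_cancel_left x (d.t * x * d.t⁻¹), comm_mul_right, conj_eq_of_cent (d.NC_W0 hx) k₂,
    d.c.add _ (d.cW0 hx hv) _ k₂, d.form _ hv _ (d.mv_mem hx), e₁, det2_swap, det2_neg, det2_swap] at e₄
  have three : (3 : F) = 0 := by
    have := CharP.cast_eq_zero F p
    rwa [d.exc.three, Nat.cast_ofNat] at this
  rw [mv]
  linear_combination (d.c.ψ ⁅u, x⁆) * three + e₄ + e₃

theorem dich (hA : A ≤ NC p E) (hu : u ∈ pCoreOf p E) (hu' : u ∉ W0 p E) (h : ∀ a ∈ A, ⁅u, a⁆ ∈ ZE p E) :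
    ⁅pCoreOf p E, A⁆ ≤ ZE p E := by
  have nZ : A ⊔ pCoreOf p E ≤ N(ZE p E) := (sup_le (hA.trans inf_le_left) ((pCoreOf_le p E).trans le_normalizer)).trans
    (norm_ZE p E)
  have k : pCoreOf p E ≤ rel (ZE p E) (A ⊔ pCoreOf p E) := by
    refine ((d.irr (inf_le_left (b := rel (ZE p E) (A ⊔ pCoreOf p E))) (le_normalizer_inf (le_normalizer_pCoreOf p E)
      (le_norm_rel (le_normalizer.trans (norm_ZE p E)) (d.blk.norm_sup hA)))).resolve_left fun k => hu' (k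
        (mem_inf.2 ⟨hu, mem_rel.2 ⟨nZ (mem_sup_right hu), fun a ha => comm_mem_swap (mem_stab.1 ((sup_le ?_ ?_ :
          A ⊔ pCoreOf p E ≤ stab (ZE p E) u) ha)).2⟩⟩))).trans (sup_le inf_le_right fun w hw => mem_rel.2
            ⟨nZ (mem_sup_right (W0_le p E hw)), fun a ha => ?_⟩)
    · exact fun a ha => mem_stab.2 ⟨nZ (mem_sup_left ha), h a ha⟩
    · exact fun a ha => mem_stab.2 ⟨nZ (mem_sup_right ha), d.UU hu ha⟩
    · rw [comm_eq_one_of_cent' ((sup_le (hA.trans d.NC_W0) (core_le_cent p E) : _ ≤ C(W0 p E)) ha) hw]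
      exact one_mem _
  exact (commutator_comm _ _).le.trans ((commutator_mono le_sup_left le_rfl).trans (comm_le_of_le_rel k))

theorem x1 (hx : x ∈ NC p E) (h₀ : ∀ u ∈ pCoreOf p E, ⁅u, x⁆ ∈ ZE p E) (hm : d.mv x ≠ 0) (hA : A ≤ NC p E)
    (h : ∀ a ∈ A, ⁅x, a⁆ ∈ ZE p E) : ⁅pCoreOf p E, A⁆ ≤ ZE p E := by
  refine d.dich hA (d.mv_mem hx) (fun k => hm (d.s.zero k)) fun a ha => ?_
  have nx := norm_ZE p E hx.1
  have na := norm_ZE p E (hA ha).1
  have k := conj_mem_of_norm (norm_ZE p E (le_normalizer d.tE)) (h a ha)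
  rw [conj_comm, ← mul_inv_cancel_left x (d.t * x * d.t⁻¹), ← mul_inv_cancel_left a (d.t * a * d.t⁻¹), comm_mul_left,
    comm_mul_right x, mul_mem_cancel_right (mul_mem (h a ha) (conj_mem_of_norm na
      (comm_mem_swap (h₀ _ (d.mv_mem (hA ha)))))), ← mem_normalizer_iff.1 nx, comm_mul_right,
    mul_mem_cancel_right (conj_mem_of_norm na (d.UU (d.mv_mem hx) (d.mv_mem (hA ha))))] at k
  exact k

theorem B_Z : Bm p T ≤ C(ZE p E) := fun b hb => by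
  have n := norm_NN' p E (d.blk.B_norm hb)
  obtain ⟨r, hr⟩ := d.B_PL d.hT d.hG (d.s.θ_mem hb)
  have : ZE p E ≤ C(zpowers b) := d.exc.comm.ge.trans (commutator_le.2 fun u hu v hv => mem_cent_zp.2
    (mul_inv_eq_iff_eq_mul.1 (d.eq_of_c (conj_mem_of_norm (norm_ZE p E (d.blk.B_norm hb)) (d.UU hu hv)) (d.UU hu hv) (by
      rw [conj_comm, d.form _ (conj_mem_of_norm n.1 hu) _ (conj_mem_of_norm n.1 hv), d.form _ hu _ hv, ← d.s.θ_ψ n hu,
        ← d.s.θ_ψ n hv, ← hr, det2_toA]))).symm)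
  exact le_centralizer_iff.1 this (mem_zpowers b)

omit [Finite F] [CharP F p] in
theorem dec (hw : w ∈ W0 p E) : ∃ y ∈ WE p E, ∃ z ∈ ZE p E, y * z = w :=
  (mem_sup_iff_of_le_normalizer ((WE_le_E p E).trans (le_normalizer.trans (norm_ZE p E)))).1 (d.blk.W0_le_sup hw)

theorem c_B (hb : b ∈ Bm p T) (hw : w ∈ W0 p E) : d.c.ψ (b * w * b⁻¹) = d.c.ψ w := by
  obtain ⟨y, hy, z, hz, rfl⟩ := d.dec hw
  have k := conj_mem_of_norm (norm_WE p E (d.blk.B_norm hb)) hy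
  rw [show b * (y * z) * b⁻¹ = b * y * b⁻¹ * (b * z * b⁻¹) by group, conj_eq_of_cent (d.B_Z hb) hz,
    d.c.add _ (WE_le p E k) _ (ZE_le p E hz), d.c.add _ (WE_le p E hy) _ (ZE_le p E hz), d.c.zero k, d.c.zero hy]

theorem fix_mv (hx : x ∈ NC p E) (hb : b ∈ Bm p T) (e : b * x * b⁻¹ = x) : d.s.θ b (d.mv x) = d.mv x := by
  have n := norm_NN' p E (d.blk.B_norm hb)
  obtain ⟨r, hr⟩ := d.B_PL d.hT d.hG (d.s.θ_mem hb)
  refine eq_of_det2 fun m => ?_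
  obtain ⟨u, hu, e'⟩ := d.s.onto ((d.s.θ b)⁻¹ m)
  have k := d.c_B hb (d.cW0 hx hu)
  rw [conj_comm, e, d.gform hx (conj_mem_of_norm n.1 hu), d.gform hx hu, ← d.s.θ_ψ n hu, e', aut_apply_inv] at k
  rw [k, ← det2_toA r ((d.s.θ b)⁻¹ m), hr, aut_apply_inv]

theorem θs_ne (hb : b ∈ Bm p T) (hc : b ∉ C(WE p E)) : d.s.θ b ≠ 1 := fun k => by
  have n := d.blk.B_norm hb
  obtain ⟨j, hj⟩ := isPGroup_iff_forall_mem.1 (d.a.im_isPGroup (d.hT.isPGroup.to_le (Bm_le p T))) _ (d.a.θ_mem hb)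
  refine hc ((d.blk.θ_eq_one d.a.toSect n).1 (scal_eq_one (scal_of_comm (card_ne_two d.ne_two) fun r hr => ?_) hj))
  obtain ⟨e, he, rfl⟩ := d.a.exists_θ hr
  rw [← commutatorElement_eq_one_iff_mul_comm, ← d.a.θ_comm (norm_NN p E n) (d.a.norm he)]
  have l := comm_mem_swap (comm_mem_of_norm n he)
  refine d.a.θ_of_cent (core_le_cent' p E (d.faith.le (mem_inf.2 ⟨l, (d.s.θ_eq_one_iff' (d.s.norm l)).1 ?_⟩)))
  rw [d.s.θ_comm (norm_NN' p E n) (d.s.norm he), k, commutatorElement_one_left]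

theorem pow3 (hu : u ∈ pCoreOf p E) : u ^ p = 1 := by
  have z := d.exc.phi.le (pow_mem_Phi (pCoreOf_isPGroup p E) hu)
  have n := d.s.norm d.tE
  have hv := conj_mem_of_norm n.1 hu
  have k₁ : u * (d.t * u * d.t⁻¹) ∈ W0 p E := by
    rw [← d.s.ker _ (mul_mem hu hv), d.s.add _ hu _ hv, ← d.s.θ_ψ n hu, d.ts, negA_apply, add_neg_cancel]
  have e₁ := conj_eq_of_cent' (ZE_cent p E z) d.tE
  rw [← conj_pow, ← inv_mul_cancel_left u (d.t * u * d.t⁻¹), Commute.mul_pow (core_le_cent p E (inv_mem hu) _ k₁).symm,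
    (W0_elem p E).2 _ k₁, mul_one, inv_pow] at e₁
  exact eq_one_of_sq d.ne_two ((W0_elem p E).2 _ (ZE_le p E z)) (by rw [pow_two]; exact mul_eq_one_iff_eq_inv.2 e₁.symm)

theorem UC_le : pCoreOf p E ⊓ C(pCoreOf p E) ≤ W0 p E :=
  (inf_le_inf_left _ (le_rel_of_cent le_rfl (WE_le_core p E))).trans d.inf_rel_W.le

theorem mv_ne (hx : x ∈ NC p E) (hu : u ∈ pCoreOf p E) (h : ⁅u, x⁆ ∉ WE p E) : d.mv x ≠ 0 := fun k =>
  h ((d.c.ker _ (d.cW0 hx hu)).1 (by rw [d.gform hx hu, k, det2_zero]))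

theorem mv_ne' (hx : x ∈ NC p E) (h₀ : ∀ u ∈ pCoreOf p E, ⁅u, x⁆ ∈ ZE p E) (h : x ∉ C(pCoreOf p E)) : d.mv x ≠ 0 := by
  by_contra k
  exact h (mem_centralizer_iff.2 fun u hu => commutatorElement_eq_one_iff_mul_comm.1
    (d.eq_of_c (h₀ u hu) (one_mem _) (by rw [d.gform hx hu, k, det2_zero, d.c.one])))

omit hp [Finite G] [CharP F p] in
theorem card_U : Nat.card (pCoreOf p E) = Nat.card F * (Nat.card F * Nat.card (W0 p E)) := by
  rw [d.s.card_U, card_vec, pow_two, mul_assoc]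

omit hp [Finite G] [Finite F] [CharP F p] in
theorem card_pre {m : Fin 2 → F} (hm : m ≠ 0) : Nat.card (d.s.pre (line m)) = Nat.card F * Nat.card (W0 p E) := by
  rw [d.s.card_pre, card_line hm]

theorem UZJ : ⁅pCoreOf p E, ZJ p T⁆ ≤ ZE p E := by
  have l := d.blk.ZJ_le_NC d.hT d.hG
  have n : ZJ p T ⊔ pCoreOf p E ≤ N((W0 p E ⊓ C(Bm p T) : Subgroup G)) := le_normalizer_of_le_centralizer
    ((sup_le (l.trans d.NC_W0) (core_le_cent p E)).trans (centralizer_anti inf_le_left))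
  have k : ⁅pCoreOf p E, ZJ p T ⊔ pCoreOf p E⁆ ≤ W0 p E ⊓ C(Bm p T) :=
    commutator_sup_le (le_sup_left.trans n) (le_sup_right.trans n) (le_inf ((commutator_mono le_rfl l).trans
      (d.comm_le_W0 d.hT d.hG)) ((commutator_le_right_of_le_normalizer (d.hU.trans (le_normalizer.trans
        (normalizer_le_normalizer_ZJ p T)))).trans (ZJ_le_cent_Bm p T)))
      (d.exc.comm.le.trans (le_inf (ZE_le p E) (le_centralizer_iff.1 d.B_Z)))
  rcases d.blk.irr (k.trans inf_le_left) (le_normalizer_commutator (le_normalizer_pCoreOf p E) (d.blk.norm_sup l)) with e | e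
  · exact (commutator_mono le_rfl le_sup_left).trans (le_inf (k.trans inf_le_left) e)
  · exact absurd (le_centralizer_iff.1 (e.trans (k.trans inf_le_right))) (d.blk.not_B_cent d.hT d.hG)

theorem pre_elem {m : Fin 2 → F} (hm : m ≠ 0) : AbExp p (d.s.pre (line m)) :=
  abExp_iff_isElementaryAbelian.2 (FFRep.elem_iff.2 ⟨fun u hu v hv => commutatorElement_eq_one_iff_mul_comm.1
    (d.eq_of_c (d.UU hu.1 hv.1) (one_mem _) (by
      obtain ⟨c, e⟩ := (mem_line_iff hm).1 hu.2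
      rw [d.form _ hu.1 _ hv.1, d.c.one, e, smul_det2, mem_line.1 hv.2, mul_zero])), fun u hu => d.pow3 hu.1⟩)

theorem ZJ_cent : ZJ p T ≤ C(pCoreOf p E) := fun x hx => by
  by_contra hn
  have l := d.blk.ZJ_le_NC d.hT d.hG
  have h₀ : ∀ u ∈ pCoreOf p E, ⁅u, x⁆ ∈ ZE p E := fun u hu => d.UZJ (commutator_mem_commutator hu hx)
  have hm := d.mv_ne' (l hx) h₀ hn
  obtain ⟨A, hA, hc⟩ : ∃ A, MaxAb p T A ∧ ¬ A ≤ C(WE p E) := by
    by_contra! k
    exact d.blk.not_J_cent d.hT d.hG (J_le_iff.2 k)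
  have AB := hA.le_J.trans (J_le_Bm p T)
  obtain ⟨b, hb, hb'⟩ := SetLike.not_le_iff_exists.1 hc
  obtain ⟨v, hv⟩ := d.B_UL d.hT d.hG (AB hb)
  have h1 := d.θs_ne (AB hb) hb'
  have v0 : v ≠ 0 := fun e => h1 (aut_ext fun m => by
    obtain ⟨s, hs⟩ := mem_UL.1 hv
    rw [hs, e, smul_zero, add_zero, aut_one])
  have m₁ := (d.blk.off model_lin d.a ((d.blk.WE_le_Q d.hT d.hG).trans d.hT.pCore_le) hA (AB.trans d.blk.B_norm)).2.2
  have l₀ : A ⊓ C(WE p E) ≤ NC p E := inf_le_inf_right _ (AB.trans d.blk.B_norm)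
  have lW : WE p E ≤ C(pCoreOf p E) := le_centralizer_iff.1 (core_le_cent' p E)
  have l₁ : A ⊓ C(WE p E) ⊔ WE p E ≤ NC p E := sup_le l₀ (le_inf ((WE_le_E p E).trans le_normalizer)
    (le_centralizer_of_isElementaryAbelian (WE_elem p E)))
  have r₁ : A ⊓ C(WE p E) ⊔ WE p E ≤ rel (WE p E) (d.s.pre (line v)) := sup_le (fun a ha => mem_rel.2
    ⟨C_norm_W ha.2, fun u hu => (d.c.ker _ (d.cW0 (l₀ ha) hu.1)).1 (by
      obtain ⟨c, e⟩ := (mem_line_iff v0).1 hu.2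
      rw [d.gform (l₀ ha) hu.1, e, smul_det2, mem_line.1 (mem_line_of_fix v0 hv h1 (d.fix_mv (l₀ ha) (AB hb)
        (by rw [hA.abExp.comm hb ha.1, mul_inv_cancel_right]))), mul_zero])⟩)
    fun w hw => mem_rel.2 ⟨le_normalizer hw, fun u hu => by rw [comm_eq_one_of_cent (lW hw) hu.1]; exact one_mem _⟩
  generalize A ⊓ C(WE p E) ⊔ WE p E = A₁ at m₁ l₁ r₁
  have z₁ := d.x1 (l hx) h₀ hm l₁ fun a ha => by
    rw [comm_eq_one_of_cent' (ZJ_le_centralizer_J p T hx) (m₁.le_J ha)]; exact one_mem _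
  obtain ⟨u₀, hu₀, e₀⟩ := d.s.onto v
  have c₁ : Nat.card A₁ ≤ Nat.card ↥(A₁ ⊓ C(pCoreOf p E)) * Nat.card (line v) :=
    card_le_of_fiber (fun a : A₁ => (⟨d.mv a, by
      rw [mem_line, ← e₀, ← d.gform (l₁ a.2) hu₀]
      exact d.c.zero ((mem_rel.1 (r₁ a.2)).2 u₀ ⟨hu₀, e₀ ▸ self_mem_line v⟩)⟩ : line v)) fun a a' e =>
      mem_centralizer_iff.2 fun u hu => by
        have k := d.eq_of_c (z₁ (commutator_mem_commutator (inv_mem hu) a.2))
          (z₁ (commutator_mem_commutator (inv_mem hu) a'.2))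
          (by rw [d.gform (l₁ a.2) (inv_mem hu), d.gform (l₁ a'.2) (inv_mem hu), Subtype.mk.inj e])
        simp only [commutatorElement_def, inv_inv, mul_assoc, mul_right_inj] at k
        calc u * ((a : G)⁻¹ * a') = (a : G)⁻¹ * (a * (u * (a : G)⁻¹)) * a' := by group
          _ = _ := by rw [k]; group
  obtain ⟨w, hw⟩ := exists_det2 hm
  have w0 : w ≠ 0 := fun e => by rw [e, det2_zero] at hw; exact zero_ne_one hw
  have cc : d.s.pre (line w) ≤ C((A₁ ⊓ C(pCoreOf p E) : Subgroup G)) :=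
    (d.s.pre_le _).trans (le_centralizer_iff.1 inf_le_right)
  have ab := (d.pre_elem w0).sup (m₁.abExp.mono (inf_le_left (b := C(pCoreOf p E)))) cc
  have c₂ := card_sup_mul_card_inf (le_normalizer_of_le_centralizer cc)
  have c₃ : Nat.card ↥(d.s.pre (line w) ⊓ (A₁ ⊓ C(pCoreOf p E))) ≤ Nat.card (W0 p E) :=
    card_le_of_le ((inf_le_inf (d.s.pre_le _) inf_le_right).trans d.UC_le)
  have m₂ := m₁.of_card_le (sup_le ((d.s.pre_le _).trans d.hU) (inf_le_left.trans m₁.le)) ab (by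
    rw [d.card_pre w0] at c₂
    rw [card_line v0] at c₁
    refine c₁.trans (Nat.le_of_mul_le_mul_right ?_ (Nat.card_pos (α := W0 p E)))
    calc _ = Nat.card F * Nat.card (W0 p E) * Nat.card ↥(A₁ ⊓ C(pCoreOf p E)) := by ring
      _ ≤ _ := c₂ ▸ Nat.mul_le_mul_left _ c₃)
  obtain ⟨u, hu, e⟩ := d.s.onto w
  have k := d.gform (l hx) hu
  rw [commutatorElement_eq_one_iff_mul_comm.2 (ab.comm (mem_sup_left (show u ∈ d.s.pre (line w) from
    ⟨hu, e ▸ self_mem_line w⟩)) (m₂.ZJ_le hx)), d.c.one, e, det2_swap, hw] at k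
  exact one_ne_zero (neg_eq_zero.1 k.symm)

theorem U_le_B : pCoreOf p E ≤ Bm p T := le_inf d.hU (le_centralizer_iff.1 d.ZJ_cent)

theorem W0_le_B : W0 p E ≤ Bm p T := (W0_le p E).trans d.U_le_B

theorem ab_NC (h₁ : X ≤ Bm p T) (h₂ : X ≤ C(X)) (h₃ : Bm p T ≤ N(X)) : X ≤ NC p E := fun b hb => by
  refine mem_inf.2 ⟨d.blk.B_norm (h₁ hb), centralizer_anti (WE_le p E) ?_⟩
  by_contra k
  exact d.exc.nq b (h₁ hb) k ((commutator_mono ((commutator_mono d.U_le_B (zpowers_le_of_mem hb)).trans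
    (commutator_le_right_of_le_normalizer h₃)) (zpowers_le_of_mem hb)).trans ((comm_bot_of_cent h₂).le.trans bot_le))

theorem tw_NC (φ : Bm p T ≃* Bm p T) (h₁ : X ≤ Bm p T) (h₂ : X ≤ C(X)) (h₃ : Bm p T ≤ N(X)) : tw φ X ≤ NC p E :=
  d.ab_NC (tw_le φ X) ((tw_le_cent φ h₁ h₁).2 h₂) (tw_norm φ h₃)

theorem card_W : Nat.card (WE p E) = Nat.card F * Nat.card F := by
  rw [d.a.card_U, d.ZW_eq, card_bot, mul_one, card_vec, pow_two]

theorem card_WB : Nat.card ↥⁅W0 p E, Bm p T⁆ ≤ Nat.card F := by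
  obtain ⟨v, hv, -, -, e₃⟩ := d.blk.lin_B d.a d.hT.isPGroup ((d.blk.WE_le_Q d.hT d.hG).trans d.hT.pCore_le) d.blk.B_norm
    (d.blk.not_J_cent d.hT d.hG)
  refine (card_le_of_le (commutator_le.2 fun w hw b hb => ?_ : _ ≤ d.a.pre (line v))).trans
    (by rw [d.a.card_pre, d.ZW_eq, card_bot, mul_one, card_line hv])
  obtain ⟨y, hy, z, hz, rfl⟩ := d.dec hw
  have n := norm_NN p E (d.blk.B_norm hb)
  rw [comm_mul_left, comm_eq_one_of_cent (d.B_Z hb) hz, mul_one, mul_inv_cancel, one_mul]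
  exact ⟨comm_mem_of_norm n.1 hy, by rw [d.a.ψ_comm n hy]; exact UL_sub (e₃.le (d.a.θ_mem hb)) _⟩

variable (h : CM p T M₀) (hM : ¬ E ≤ M₀)
include h hM

theorem ut : ⁅pCoreOf p E, Bm p T ⊓ C(WE p E)⁆ ≤ ZE p E := by
  have ab : W0 p E ≤ C(W0 p E) := (W0_le p E).trans (core_le_cent p E)
  have nB := d.blk.B_norm.trans (norm_W0 p E)
  obtain ⟨φ, hφ⟩ := h.exists_tw hM d.W0_le_B fun e => d.blk.WE_ne_bot (le_bot_iff.1 ((WE_le p E).trans e.le))
  have l := d.tw_NC φ d.W0_le_B ab nB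
  have cR : Nat.card (tw φ ⁅W0 p E, Bm p T⁆) ≤ Nat.card F :=
    (card_tw φ ((commutator_le_left_of_le_normalizer nB).trans d.W0_le_B)).trans_le d.card_WB
  have eR : ⁅tw φ (W0 p E), Bm p T⁆ ≤ tw φ ⁅W0 p E, Bm p T⁆ := by rw [tw_comm φ d.W0_le_B le_rfl, tw_self]
  have RU : tw φ ⁅W0 p E, Bm p T⁆ ≤ tw φ (W0 p E) := tw_mono φ (commutator_le_left_of_le_normalizer nB)
  generalize tw φ ⁅W0 p E, Bm p T⁆ = R at cR eR RU
  generalize tw φ (W0 p E) = Y at hφ l eR RU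
  have uR : ⁅pCoreOf p E, Y⁆ ≤ R := (commutator_comm _ _).le.trans ((commutator_mono le_rfl d.U_le_B).trans eR)
  have nZ : R ≤ N(ZE p E) := (RU.trans (l.trans inf_le_left)).trans (norm_ZE p E)
  have z₁ : ⁅pCoreOf p E, Y⁆ ≤ ZE p E := by
    have n : Y ⊔ pCoreOf p E ≤ N((W0 p E ⊓ (R ⊔ ZE p E) : Subgroup G)) := le_normalizer_of_le_centralizer
      ((sup_le (l.trans d.NC_W0) (core_le_cent p E)).trans (centralizer_anti inf_le_left))
    have k : ⁅pCoreOf p E, Y ⊔ pCoreOf p E⁆ ≤ W0 p E ⊓ (R ⊔ ZE p E) :=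
      commutator_sup_le (le_sup_left.trans n) (le_sup_right.trans n) (le_inf ((commutator_mono le_rfl l).trans
        (d.comm_le_W0 d.hT d.hG)) (uR.trans le_sup_left)) (d.exc.comm.le.trans (le_inf (ZE_le p E) le_sup_right))
    rcases d.blk.irr (k.trans inf_le_left) (le_normalizer_commutator (le_normalizer_pCoreOf p E) (d.blk.norm_sup l))
      with e | e
    · exact (commutator_mono le_rfl le_sup_left).trans (le_inf (k.trans inf_le_left) e)
    · have c₁ := card_le_of_le (d.blk.W0_le_sup.trans (sup_le (e.trans (k.trans inf_le_right)) le_sup_right))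
      have c₂ := Nat.le_of_dvd (Nat.mul_pos Nat.card_pos Nat.card_pos) (card_sup_dvd nZ)
      rw [d.c.card_U, d.card_W] at c₁
      rw [d.exc.card] at c₂
      have := Finite.one_lt_card (α := F)
      nlinarith [(c₁.trans c₂).trans (Nat.mul_le_mul_right _ cR)]
  obtain ⟨y, hy, hy'⟩ : ∃ y ∈ Y, y ∉ rel (WE p E) (pCoreOf p E) := by
    by_contra! k
    exact hφ ((le_inf (d.blk.NC_comm' l) ((commutator_mono k le_rfl).trans (commutator_le_left_of_le_normalizer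
      (le_norm_rel (le_normalizer.trans (norm_WE p E)) (le_normalizer_pCoreOf p E))))).trans d.inf_rel_W.le)
  have hm : d.mv y ≠ 0 := by
    by_contra k
    exact hy' (mem_rel.2 ⟨C_norm_W (l hy).2, fun u hu => by_contra fun k' => d.mv_ne (l hy) hu k' k⟩)
  have c₁ : Nat.card (pCoreOf p E) ≤ Nat.card ↥(pCoreOf p E ⊓ d.s.pre (line (d.mv y))) * Nat.card ↥(R ⊓ ZE p E) :=
    card_le_of_fiber (fun u : pCoreOf p E => (⟨⁅(u : G), y⁆, uR (commutator_mem_commutator u.2 hy),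
      z₁ (commutator_mem_commutator u.2 hy)⟩ : ↥(R ⊓ ZE p E))) fun u u' e => ⟨mul_mem (inv_mem u.2) u'.2, by
        have k := d.gform (l hy) u.2
        rw [Subtype.mk.inj e, d.gform (l hy) u'.2] at k
        rw [mem_line, d.s.add _ (inv_mem u.2) _ u'.2, d.s.inv u.2, det2_add, det2_neg, det2_swap _ (d.s.ψ u), ← k,
          det2_swap _ (d.s.ψ u'), neg_add_cancel]⟩
  rw [inf_of_le_right (d.s.pre_le _), d.card_pre hm, d.card_U, mul_comm] at c₁
  have RZ : R ≤ ZE p E := inf_eq_left.1 (eq_of_le_of_card_le inf_le_left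
    (cR.trans (Nat.le_of_mul_le_mul_left c₁ (Nat.mul_pos Nat.card_pos Nat.card_pos))))
  exact d.x1 (l hy) (fun u hu => z₁ (commutator_mem_commutator hu hy)) hm (inf_le_inf_right _ d.blk.B_norm)
    fun a ha => RZ (eR (commutator_mem_commutator hy ha.1))

variable (hV : VG p G ≤ Bm p T)
include hV

theorem UV : pCoreOf p E ≤ C(VG p G) := cent_of_comm_bot' (le_bot_iff.1 ((le_inf
  ((commutator_comm _ _).le.trans ((commutator_mono le_rfl (pCoreOf_le p E)).trans (d.blk.VE d.hT d.hG)))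
  ((commutator_mono le_rfl (le_inf hV (V_comm.trans (centralizer_anti (d.blk.WE_le_V d.hT d.hG))))).trans
    (d.ut h hM))).trans d.WE_inf.le))

theorem V_dec : VG p G ≤ WE p E ⊔ VG p G ⊓ C(E) := fun x hx => by
  have WV := d.blk.WE_le_V d.hT d.hG
  have cw : ∀ y ∈ VG p G, ∀ e ∈ E, y⁻¹ * (e * y * e⁻¹) ∈ WE p E := fun y hy e he => by
    have := d.blk.VE d.hT d.hG (commutator_mem_commutator (inv_mem hy) he)
    rwa [commutatorElement_def, inv_inv, mul_assoc, mul_assoc, ← mul_assoc e] at this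
  obtain ⟨w, hw, e₁⟩ : ∃ w ∈ WE p E, d.t * x * d.t⁻¹ = x * w := ⟨_, cw x hx _ d.tE, (mul_inv_cancel_left _ _).symm⟩
  have w3 := (WE_elem p E).2 w hw
  rw [d.exc.three] at w3
  have hy := mul_mem hx (inv_mem (WV hw))
  have e₂ : d.t * (x * w⁻¹) * d.t⁻¹ = x * w⁻¹ := by
    calc _ = d.t * x * d.t⁻¹ * (d.t * w * d.t⁻¹)⁻¹ := by group
      _ = x * w ^ 3 * w⁻¹ := by
          rw [e₁, d.blk.inverts d.a.toSect d.tE d.ta hw, inv_inv, pow_succ, pow_two]; group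
      _ = _ := by rw [w3, mul_one]
  rw [sup_comm, ← inv_mul_cancel_right x w]
  refine mul_mem_sup (mem_inf.2 ⟨hy, mem_centralizer_iff.2 fun e he => ?_⟩) hw
  generalize x * w⁻¹ = y at hy e₂
  have u₁ : (e * d.t)⁻¹ * (d.t * e) ∈ E := mul_mem (inv_mem (mul_mem he d.tE)) (mul_mem d.tE he)
  have u₀ : (e * d.t)⁻¹ * (d.t * e) ∈ pCoreOf p E := d.blk.faith' ⟨u₁,
    (d.blk.inf_rel le_normalizer).le (mem_inf.2 ⟨u₁,
      (d.a.θ_eq_iff (d.a.norm (mul_mem he d.tE)) (d.a.norm (mul_mem d.tE he))).1 (by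
        rw [d.a.θ_mul (d.a.norm he) (d.a.norm d.tE), d.a.θ_mul (d.a.norm d.tE) (d.a.norm he), d.ta, negA_comm])⟩) |>.2⟩
  have e₃ := conj_eq_of_cent (d.UV h hM hV u₀) hy
  have k := cw y hy e he
  have e₄ : d.t * (y⁻¹ * (e * y * e⁻¹)) * d.t⁻¹ = y⁻¹ * (e * y * e⁻¹) := by
    calc _ = (d.t * y * d.t⁻¹)⁻¹ * (e * (d.t * ((e * d.t)⁻¹ * (d.t * e) * y * ((e * d.t)⁻¹ * (d.t * e))⁻¹) * d.t⁻¹) * e⁻¹) := by
          group
      _ = _ := by rw [e₃, e₂]
  rw [d.blk.inverts d.a.toSect d.tE d.ta k] at e₄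
  have := eq_one_of_sq d.ne_two ((WE_elem p E).2 _ k) (by rw [pow_two]; exact mul_eq_one_iff_eq_inv.2 e₄.symm)
  rw [inv_mul_eq_one] at this
  exact mul_inv_eq_iff_eq_mul.1 this.symm

theorem exists_Y : ∃ Y ≤ Bm p T, d.a.im Y = d.a.im (Bm p T) ∧ VG p G ≤ WE p E ⊔ VG p G ⊓ C(Y) := by
  have WB := d.blk.W_le_B d.hT d.hG
  obtain ⟨φ, hφ⟩ := h.exists_tw hM d.U_le_B fun e => d.blk.WE_ne_bot (le_bot_iff.1 ((WE_le_core p E).trans e.le))
  have nE := (tw_le φ (pCoreOf p E)).trans d.blk.B_norm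
  have hc : ¬ tw φ (pCoreOf p E) ≤ C(WE p E) := fun k => hφ (d.blk.NC_comm' (le_inf nE k))
  obtain ⟨v, hv, -, e₂, e₃⟩ := d.blk.lin_B d.a d.hT.isPGroup ((d.blk.WE_le_Q d.hT d.hG).trans d.hT.pCore_le) d.blk.B_norm
    (d.blk.not_J_cent d.hT d.hG)
  have key : ∀ X, X ≤ Bm p T → X ≤ C(X) → Bm p T ≤ N(X) → ⁅pCoreOf p E, tw φ.symm X⁆ ≤ ZE p E := fun X h₁ h₂ h₃ =>
    (commutator_mono le_rfl (le_inf (tw_le _ _) ((d.tw_NC φ.symm h₁ h₂ h₃).trans inf_le_right))).trans (d.ut h hM)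
  have k₁ : ⁅tw φ (pCoreOf p E), VG p G⁆ ≤ tw φ (ZE p E) := by
    have := tw_mono φ (key _ hV V_comm (nV p _))
    rwa [tw_comm φ d.U_le_B (tw_le _ _), tw_tw_symm φ hV] at this
  have cZ : Nat.card (tw φ (ZE p E)) = Nat.card F := (card_tw φ ((ZE_le p E).trans d.W0_le_B)).trans d.exc.card
  have ZW : tw φ (ZE p E) ≤ WE p E := by
    obtain ⟨y, hy, hy'⟩ := SetLike.not_le_iff_exists.1 hc
    have n := norm_NN p E (nE hy)
    have c₁ : Nat.card (WE p E) ≤ Nat.card ↥(WE p E ⊓ d.a.pre (line v)) * Nat.card ↥(tw φ (ZE p E) ⊓ WE p E) :=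
      card_le_of_fiber (fun w : WE p E => (⟨⁅(w : G), y⁆, comm_mem_swap (k₁ (commutator_mem_commutator hy
        (d.blk.WE_le_V d.hT d.hG w.2))), comm_mem_of_norm n.1 w.2⟩ : ↥(tw φ (ZE p E) ⊓ WE p E))) fun w w' e =>
        ⟨mul_mem (inv_mem w.2) w'.2, mem_line_of_fix hv (e₃.le (d.a.θ_mem (tw_le φ _ hy)))
          (fun k => hy' ((d.blk.θ_eq_one d.a.toSect (nE hy)).1 k)) (by
            have k := d.a.ψ_comm n w.2
            rw [Subtype.mk.inj e, d.a.ψ_comm n w'.2] at k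
            rw [d.a.add _ (inv_mem w.2) _ w'.2, d.a.inv w.2, map_add, map_neg]
            linear_combination (norm := abel_nf) -k)⟩
    rw [inf_of_le_right (d.a.pre_le _), d.a.card_pre, d.ZW_eq, card_bot, mul_one, card_line hv, d.card_W] at c₁
    exact inf_eq_left.1 (eq_of_le_of_card_le inf_le_left (cZ.trans_le (Nat.le_of_mul_le_mul_left c₁ Nat.card_pos)))
  refine ⟨_, tw_le φ _, eq_of_le_of_card_le (d.a.im_mono (tw_le φ _)) ?_, (d.V_dec h hM hV).trans (sup_le_sup_left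
    (le_inf inf_le_left (cent_of_comm_bot (le_bot_iff.1 ((le_inf ((commutator_mono le_rfl inf_le_left).trans
      (k₁.trans ZW)) ((commutator_mono le_rfl inf_le_right).trans (commutator_le_right_of_le_normalizer
        (le_normalizer_centralizer nE)))).trans d.ZW_eq.le)))) _)⟩
  have abW := le_centralizer_of_isElementaryAbelian (WE_elem p E)
  have nW := d.blk.B_norm.trans (norm_WE p E)
  have c₁ := d.blk.card_eq_im d.a.toSect nE
  have e₄ := tw_cent φ (tw_le φ.symm (WE p E)) (pCoreOf p E)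
  rw [tw_tw_symm φ WB] at e₄
  rw [card_tw φ d.U_le_B, ← e₄, card_tw φ (inf_le_left.trans d.U_le_B), d.card_U] at c₁
  obtain ⟨w, hw, hw'⟩ := SetLike.not_le_iff_exists.1 (show ¬ tw φ.symm (WE p E) ≤ C(pCoreOf p E) from fun k => hc (by
    have := (tw_le_cent φ (tw_le φ.symm (WE p E)) d.U_le_B).2 (le_centralizer_iff.1 k)
    rwa [tw_tw_symm φ WB] at this))
  have l := d.tw_NC φ.symm WB abW nW hw
  have hm := d.mv_ne' l (fun u hu => key _ WB abW nW (commutator_mem_commutator hu hw)) hw'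
  have c₂ : Nat.card ↥(pCoreOf p E ⊓ C(tw φ.symm (WE p E))) ≤ Nat.card (d.s.pre (line (d.mv w))) :=
    card_le_of_le fun u hu => ⟨hu.1, by
      rw [mem_line, det2_swap, ← d.gform l hu.1, comm_eq_one_of_cent' hu.2 hw, d.c.one, neg_zero]⟩
  rw [d.card_pre hm] at c₂
  rw [e₃, card_UL hv]
  exact Nat.le_of_mul_le_mul_right (c₁.trans_le (Nat.mul_le_mul_left _ c₂)) (Nat.mul_pos Nat.card_pos Nat.card_pos)

end XD

namespace Blk
variable (bl : Blk p T E) (hT : IsSylowIn p T ⊤) (hG : C(pCore p G) ≤ pCore p G) (hU : pCoreOf p E ≤ T)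
include bl hT hG hU

theorem cases_XD : pCoreOf p E = WE p E ∨
    ∃ (F : Type) (_ : Field F) (_ : Finite F) (_ : CharP F p), Nonempty (XD p T E F) :=
  bl.cases_XB.imp_right fun ⟨F, _, _, _, ⟨d⟩⟩ => ⟨F, _, ‹_›, ‹_›, let ⟨d', _⟩ := d.exists_XD hT hG hU; ⟨d'⟩⟩

theorem U_le_B : pCoreOf p E ≤ Bm p T := by
  rcases bl.cases_XD hT hG hU with e | ⟨F, _, _, _, ⟨d⟩⟩
  exacts [e.le.trans (bl.W_le_B hT hG), d.U_le_B]

theorem ZJ_comm : ⁅ZJ p T, E⁆ ≤ pCore p G := by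
  have k := bl.NC_comm' (bl.ZJ_le_NC hT hG)
  rcases bl.cases_XD hT hG hU with e | ⟨F, _, _, _, ⟨d⟩⟩
  · exact k.trans (e.le.trans (bl.WE_le_Q hT hG))
  · exact (le_inf k ((commutator_mono d.ZJ_cent le_rfl).trans (commutator_le_left_of_le_normalizer
      (le_normalizer_centralizer (le_normalizer_pCoreOf p E))))).trans
      (d.UC_le.trans ((le_centralizer_iff.1 (d.QW hT hG)).trans hG))

end Blk

namespace CM
variable (h : CM p T M₀) (bl : Blk p T E) (hM : ¬ E ≤ M₀) (hU : pCoreOf p E ≤ T) (hV : VG p G ≤ Bm p T)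
include h bl hM hU hV

theorem UV : pCoreOf p E ≤ C(VG p G) := by
  rcases bl.cases_XD h.syl h.hG hU with e | ⟨F, _, _, _, ⟨d⟩⟩
  exacts [e.le.trans ((bl.WE_le_V h.syl h.hG).trans V_comm), d.UV h hM hV]

omit hU in
theorem exists_tw_W (e : pCoreOf p E = WE p E) : ∃ φ : Bm p T ≃* Bm p T, ¬ tw φ (WE p E) ≤ C(WE p E) := by
  obtain ⟨φ, hφ⟩ := h.exists_tw hM (bl.W_le_B h.syl h.hG) bl.WE_ne_bot
  exact ⟨φ, fun k => hφ ((bl.NC_comm' (le_inf ((tw_le φ _).trans bl.B_norm) k)).trans e.le)⟩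

theorem exists_Y {F : Type} [Field F] [Finite F] [CharP F p] (a : ActS (RL F) E (WE p E) (ZW p E))
    (k : pCoreOf p E = WE p E ∨ ExcB p T E F) :
    ∃ Y ≤ Bm p T, a.im Y = a.im (Bm p T) ∧ VG p G ≤ WE p E ⊔ VG p G ⊓ C(Y) := by
  rcases k with e | k
  swap
  · obtain ⟨s⟩ := k.act
    obtain ⟨d, rfl⟩ : ∃ d : XD p T E F, d.a = a :=
      let ⟨d, e⟩ := (⟨bl, k, a, s⟩ : XB p T E F).exists_XD h.syl h.hG hU
      ⟨d, by rw [e]⟩
    exact d.exists_Y h hM hV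
  have WB := bl.W_le_B h.syl h.hG
  obtain ⟨v, hv, -, e₂, e₃⟩ := bl.lin_B a h.pT (WB.trans (Bm_le p T)) bl.B_norm (bl.not_J_cent h.syl h.hG)
  have nW := bl.B_norm.trans (norm_WE p E)
  have key : ∀ φ : Bm p T ≃* Bm p T, ¬ tw φ (WE p E) ≤ C(WE p E) →
      Bm p T ≤ WE p E ⊔ Bm p T ⊓ C(tw φ (WE p E)) := fun φ hφ => by
    obtain ⟨y, hy, hy'⟩ := SetLike.not_le_iff_exists.1 hφ
    have n := bl.B_norm (tw_le φ _ hy)
    have c₁ := bl.card_eq_im a.toSect bl.B_norm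
    rw [e₃, card_UL hv, ← card_tw φ (inf_le_left (b := C(WE p E))), tw_cent φ WB, tw_self] at c₁
    have c₂ : Nat.card ↥(Bm p T ⊓ C(tw φ (WE p E)) ⊓ WE p E) ≤ Nat.card (a.pre (line v)) :=
      card_le_of_le fun w hw => ⟨hw.2, mem_line_of_fix hv (e₃.le (a.θ_mem (tw_le φ _ hy)))
        (fun k => hy' ((bl.θ_eq_one a.toSect n).1 k)) (by
          rw [a.θ_ψ (norm_NN p E n) hw.2, conj_eq_of_cent' hw.1.2 hy])⟩
    have c₃ := card_sup_mul_card_inf ((inf_le_left (b := C(tw φ (WE p E)))).trans nW)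
    rw [a.card_pre, card_line hv] at c₂
    rw [a.card_U, card_vec] at c₃
    rw [sup_comm]
    refine (eq_of_le_of_card_le (sup_le inf_le_left WB) (Nat.le_of_mul_le_mul_right ?_
      (Nat.mul_pos (Nat.card_pos (α := F)) (Nat.card_pos (α := ZW p E))))).ge
    calc _ = Nat.card ↥(Bm p T ⊓ C(tw φ (WE p E))) * (Nat.card F ^ 2 * Nat.card (ZW p E)) := by rw [c₁]; ring
      _ ≤ _ := c₃ ▸ Nat.mul_le_mul_left _ c₂
  obtain ⟨φ, hφ⟩ := h.exists_tw_W bl hM hV e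
  refine ⟨tw φ (WE p E), tw_le φ _, le_antisymm (a.im_mono (tw_le φ _)) ?_, ?_⟩
  · have := tw_mono φ (key φ.symm fun k => hφ (by
      have := (tw_le_cent φ WB (tw_le φ.symm (WE p E))).2 k
      rw [tw_tw_symm φ WB] at this
      exact le_centralizer_iff.1 this))
    rw [tw_self, tw, subgroupOf_sup WB inf_le_left, Subgroup.map_sup, ← tw, ← tw, tw_cent φ (tw_le _ _), tw_self,
      tw_tw_symm φ WB] at this
    refine (a.im_mono this).trans ?_
    rw [a.im_sup ((tw_le φ _).trans (bl.B_norm.trans (norm_NN p E))) (inf_le_left.trans (bl.B_norm.trans (norm_NN p E))),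
      (bl.im_eq_bot_iff a.toSect (inf_le_left.trans bl.B_norm)).2 inf_le_right, sup_bot_eq]
  · refine (le_inf (hV.trans (key φ hφ)) le_rfl).trans ?_
    rw [sup_inf_of_le_normalizer' (inf_le_left.trans nW) (bl.WE_le_V h.syl h.hG)]
    exact sup_le_sup_left (le_inf inf_le_right (inf_le_left.trans inf_le_right)) _

end CM

end Cfsg.Agent.Lib.Blk
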