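import Cfsg.Agent.Lib.CgTI

/-! The minimal counterexample: blocks of linear type over fields with more than two elements. -/

set_option autoImplicit false
open Cfsg

namespace Cfsg.Agent.Lib.Blk

open Subgroup Cfsg.Agent.Lib.PCoreConj Cfsg.Agent.Lib.PCore Cfsg.Agent.Lib.PCoreResidual Cfsg.Agent.Lib.PCoreMod
open Cfsg.Agent.Lib.ThompsonJ Cfsg.Agent.Lib.PushBase Cfsg.Agent.Lib.PIrred
open Cfsg.Agent.Lib.FFRep hiding rel stab mem_rel mem_stab le_rel_iff card_le_of_le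
open Cfsg.Agent.Lib.EMod hiding ext mk
open Cfsg.Agent.Lib.SL2Amb Cfsg.Agent.Lib.MinParFF Cfsg.Agent.Lib.TIOff Cfsg.Agent.Lib.TIOffCls Cfsg.Agent.Lib.CgRep
open scoped Pointwise commutatorElement MatrixGroups

universe u
variable {G : Type u} [Group G] {p : ℕ} {T E H K X Y Y' S A P W R M₀ : Subgroup G} {g x y z w u : G}
variable [hp : Fact p.Prime] [Finite G] {q : ℕ}

theorem Blk.off_of_ineq (h : Blk p T E) {M : Type*} [AddCommGroup M] (a : Sect M (WE p E) (ZW p E)) (hX : X ≤ N(E))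
    (k : Nat.card ↥(X ⊓ C(WE p E)) * Nat.card (WE p E) ≤ Nat.card X * Nat.card ↥(WE p E ⊓ C(X))) :
    Nat.card M ≤ Nat.card (a.im X) * Nat.card (fixM (a.im X)) := by
  have l₁ : WE p E ⊓ C(X) ≤ a.pre (fixM (a.im X)) := fun w hw =>
    ⟨hw.1, a.img_cent_le (hX.trans (norm_NN p E)) (a.ψ_mem_img hw hw.1)⟩
  have l₂ := Subgroup.card_le_of_le l₁
  rw [a.card_pre] at l₂
  rw [h.card_eq_im a hX, a.card_U] at k
  refine Nat.le_of_mul_le_mul_right (c := Nat.card ↥(X ⊓ C(WE p E)) * Nat.card (ZW p E)) ?_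
    (Nat.mul_pos Nat.card_pos Nat.card_pos)
  calc _ = Nat.card ↥(X ⊓ C(WE p E)) * (Nat.card M * Nat.card (ZW p E)) := by ring
    _ ≤ _ := k
    _ ≤ Nat.card (a.im X) * Nat.card ↥(X ⊓ C(WE p E)) * (Nat.card (fixM (a.im X)) * Nat.card (ZW p E)) :=
      Nat.mul_le_mul_left _ l₂
    _ = _ := by ring

theorem Blk.le_sup_of_im (h : Blk p T E) {M : Type*} [AddCommGroup M] (a : Sect M (WE p E) (ZW p E)) (hX : X ≤ E)
    (k : a.im E ≤ a.im X) : E ≤ X ⊔ pCoreOf p E := by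
  have n := hX.trans (le_normalizer.trans (norm_NN p E))
  have := le_inf (a.le_sup_of_im_le (le_normalizer.trans (norm_NN p E)) n k) le_rfl
  rw [sup_inf_of_le_normalizer (le_norm_rel (n.trans inf_le_right) (n.trans inf_le_left)) hX, inf_comm,
    h.inf_rel le_normalizer] at this
  exact this.trans (sup_le_sup_left h.faith' _)

section
variable {F : Type} [Field F] [Finite F] [CharP F p] {a : ActS (RL F) E (WE p E) (ZW p E)} {v v' : Fin 2 → F}

theorem LY.le_sup (h : LY T a v Y) (h' : LY T a v' Y') (hl : v' ∉ line v) (hY : IsPGroup p Y) (l : Y' ≤ E ⊔ Y) :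
    E ≤ Y ⊔ Y' ⊔ pCoreOf p E := by
  have e : a.im (Y ⊔ Y') = PL F := by
    rw [a.im_sup h.nn h'.nn, h.im, h'.im]
    refine le_antisymm (sup_le (UL_le_PL _) (UL_le_PL _)) (PL_le_of h.hv (sup_le (UL_le_PL _) (UL_le_PL _)) le_sup_left
      (mem_sup_right (tv_mem v' 1)) ?_)
    rw [toA_tv, mem_line, det2_add, det2_self, det2_smul, zero_add, one_mul, det2_swap v' v, neg_mul, neg_eq_zero,
      mul_self_eq_zero]
    exact hl
  refine (h.blk.le_sup_of_im a.toSect ((pResidualOf_mono (sup_le le_sup_right l)).trans (pResidualOf_sup_le hY h.norm))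
    ?_).trans (sup_le_sup_right (pResidualOf_le p _) _)
  rw [a.im_res (sup_le h.nn h'.nn), e, res_PL, a.eq]

variable (a) in
theorem MC.exists_LY (h : MC p T M₀) (s : E ∈ EE p T M₀) (k : pCoreOf p E = WE p E ∨ ExcB p T E F) :
    ∃ v Y, LY T a v Y ∧ Y ≤ Bm p T ∧ a.im (J p T) = UL v := by
  have b := EE.blk s
  have WT := (b.WE_le_Q h.syl h.hG).trans h.Q_le
  obtain ⟨v, hv, e₁, e₂, e₃⟩ := b.lin_B a h.pT WT b.B_norm (b.not_J_cent h.syl h.hG)
  obtain ⟨Y, h₁, h₂, h₃⟩ := h.exists_Y b (EE.notM s) (h.U_le_T s) h.V_le_B a k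
  exact ⟨v, Y, ⟨b, b.WE_le_V h.syl h.hG, hv, h₁.trans b.B_norm, h₂.trans e₃, e₂.le.trans ((Blk.inf_cent_J_le WT).trans
    ((ZJ_le_cent_Bm p T).trans (centralizer_anti h₁))), h₃⟩, h₁, e₁⟩

theorem MC.orth (h : MC p T M₀) (s : E ∈ EE p T M₀) (l : LY T a v Y) (e₁ : a.im (J p T) = UL v)
    (hD : TI (rV p G) q (X.map (φV p G))) (hq : q ≤ Nat.card F) (hX : X ≤ T) (ne : X.map (φV p G) ≠ Y.map (φV p G)) :
    ⁅VG p G, X⁆ ≤ C(E) := by
  have n := h.norm_of_ti s hX hD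
  by_cases hc : X ≤ C(WE p E)
  · exact (commutator_mono le_rfl (le_inf n hc)).trans (h.V_NC s)
  refine absurd ?_ ne
  have c := centralizer_anti l.WV
  obtain ⟨v', -, e⟩ := (k1_lin (a.im_norm n) (Blk.im_elem' a.toSect n ((of_elemV hD.elem).1.trans c)
    fun x hx => c ((of_elemV hD.elem).2 x hx))).2 (fun e => hc ((l.blk.im_eq_bot_iff a.toSect n).1 e))
      (l.blk.off_of_ineq a.toSect n (ti_ineq hD l.WV hc))
  obtain ⟨x, hx, hx'⟩ := SetLike.not_le_iff_exists.1 hc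
  have m := e.le (a.θ_mem hx)
  have k := a.θ_mem_norm (normalizer_le_normalizer_J p T (le_normalizer (hX hx)))
  rw [e₁] at k
  obtain ⟨y, hy, e'⟩ := l.exists_θ (mem_UL_of_line (p := p) (k := 1) l.hv (UL_le_PL _ m) (line_of_norm l.hv k)
    ((pow_one p).symm ▸ UL_pow m))
  have c₁ := l.blk.cent_of_θ_eq a.toSect (n hx) (l.norm hy) e'.symm
  have l' : fix (rV p G) (X.map (φV p G)) ≤ fix (rV p G) (Y.map (φV p G)) := fix_le_fixV.2 fun u hu =>
    l.key hu.1 hy (fun k => hx' (inv_mem_iff.1 ((mul_mem_cancel_right k).1 c₁))) (by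
      rw [← mul_inv_cancel_left x y, comm_mul_right, comm_eq_one_of_cent' hu.2 hx, one_mul]
      exact conj_mem_of_norm (le_normalizer_centralizer n hx) (h.V_NC s (commutator_mem_commutator hu.1
        (mem_inf.2 ⟨mul_mem (inv_mem (n hx)) (l.norm hy), c₁⟩))))
  obtain rfl : q = Nat.card F := le_antisymm hq (Nat.le_of_mul_le_mul_right
    (l.ti.idx.ge.trans (hD.idx.le.trans (Nat.mul_le_mul_left _ (FFRep.card_le_of_le l')))) (card_pos' _))
  exact hD.eq_of_fix_le h.base l.ti l'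

end

/-- A block of linear type over a field with `q` elements. -/
def LinQ (p : ℕ) (T E : Subgroup G) (q : ℕ) : Prop :=
  ∃ (F : Type) (_ : Field F) (_ : Finite F) (_ : CharP F p) (_ : ActS (RL F) E (WE p E) (ZW p E)), Nat.card F = q ∧
    (pCoreOf p E = WE p E ∨ ExcB p T E F)

namespace MC
variable (h : MC p T M₀)
include h

theorem le_map_of {D : Subgroup (GB p G)} (k : D.comap (φV p G) ≤ M₀) : D ≤ M₀.map (φV p G) :=
  (map_comapV D).ge.trans (map_mono k)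

theorem NT_V : normalizer ((T.map (φV p G) : Subgroup _) : Set (GB p G)) ≤ M₀.map (φV p G) :=
  h.le_map_of ((le_normalizer_comap (φV p G) le_rfl).trans (h.comap_T.symm ▸ h.NT_le))

theorem cent_V : cent (rV p G) (fix (rV p G) (T.map (φV p G))) ≤ M₀.map (φV p G) := h.le_map_of fun x hx =>
  h.hz fun y hy => (mul_inv_eq_iff_eq_mul.1 (congrArg EM.val (hx (EMod.mk V_elem y (h.Z_le hy))
    (mem_fixV.2 (omegaOneCenter_le_centralizer p T hy))))).symm

theorem sub_comap {D D' : Subgroup (GB p G)} (h₁ : D ≤ sSup (Cls D')) (h₂ : sSup (Cls D') ≤ normalizer (D : Set _)) :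
    SubnormalIn ⊤ (D.comap (φV p G)) :=
  comap_top (φV p G) ▸ ((SubnormalIn.of_normal h₁ h₂).trans
    (SubnormalIn.of_normal le_top (normal_iff_top_le.1 (normal_sSup_cls D')))).comap (φV p G)

theorem lin_false (all : ∀ E ∈ EE p T M₀, ∃ q, 2 < q ∧ LinQ p T E q) : False := by
  choose! f hf using all
  obtain ⟨E, s, hm⟩ := Set.exists_max_image (EE p T M₀) f (Set.toFinite _) h.exists_EE
  obtain ⟨two, F, _, _, _, a, hF, k⟩ := hf E s
  obtain ⟨v, Y, l, hY, e₁⟩ := h.exists_LY a s k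
  obtain ⟨v', hv'⟩ := exists_det2 l.hv
  obtain ⟨r, hr, rfl⟩ := RL_trans l.hv (w := v') (fun e => by rw [e, det2_zero] at hv'; exact zero_ne_one hv')
  obtain ⟨e, he, rfl⟩ := a.exists_θ hr
  have l' := l.conj he
  have hl : a.θ e v ∉ line v := fun k => one_ne_zero (hv'.symm.trans k)
  have YT := hY.trans (Bm_le p T)
  have EL : E ≤ (Y.map (φV p G) ⊔ (Y ^ᶜ e).map (φV p G)).comap (φV p G) := by
    rw [← Subgroup.map_sup, comap_mapV]
    exact (l.le_sup l' hl (h.pT.to_le YT) (conj_le_of_mem le_sup_right (mem_sup_left he))).trans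
      (sup_le_sup_left ((h.U_le_Q s).trans Q_le_CV) _)
  have LN : (Y.map (φV p G) ⊔ (Y ^ᶜ e).map (φV p G)).comap (φV p G) ≤ N(E) := by
    rw [← Subgroup.map_sup, comap_mapV]
    exact sup_le (sup_le l.norm l'.norm) (h.CV_le_Q.trans (l.blk.Q_norm h.syl))
  have cl : (Y ^ᶜ e).map (φV p G) ∈ Cls (Y.map (φV p G)) := ⟨_, map_conj _ _ _⟩
  have c : RC (rV p G) (Nat.card F) (T.map (φV p G)) (M₀.map (φV p G)) (Y.map (φV p G)) ((Y ^ᶜ e).map (φV p G))
      {D | ∃ q' ≤ Nat.card F, TI (rV p G) q' D} := by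
    refine ⟨h.base, h.sylV, h.NT_V, h.cent_V, fun D ⟨q', l, t⟩ g => ⟨q', l, t.conj g⟩, fun D hD => hD, l.ti,
      hF ▸ two, ⟨_, le_rfl, l.ti⟩, map_mono YT, cl, l.good l' hl, fun k => EE.notM s (EL.trans ((comap_mono
        (sup_le (map_mono (YT.trans h.T_le)) k)).trans h.comap_M.le)), fun D ⟨⟨q', hq, t⟩, hD⟩ ne => ?_,
          h.le_map_of ?_⟩
    · rw [← map_comapV D] at t ne ⊢
      have := le_inf (commutator_le_left_of_le_normalizer (nV p _)) (h.orth s l e₁ t hq (h.comap_le hD) ne)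
      rw [← Subgroup.map_sup, com_le_fixV, centralizer_sup]
      exact le_inf (this.trans l.CE) (this.trans l'.CE)
    · generalize hD : sSup (DD {D | ∃ q' ≤ Nat.card F, TI (rV p G) q' D} (T.map (φV p G))) = D
      have DT : D ≤ T.map (φV p G) := hD ▸ sSup_le fun _ k => k.2
      have lD : ∀ D' q', q' ≤ Nat.card F → TI (rV p G) q' D' → D' ≤ T.map (φV p G) → D' ≤ D := fun D' q' h₁ h₂ h₃ =>
        hD ▸ le_sSup ⟨⟨q', h₁, h₂⟩, h₃⟩
      have TN : T.map (φV p G) ≤ normalizer (D : Set _) := hD ▸ le_normalizer_sSup fun g hg D' ⟨⟨q', h₁, h₂⟩, h₃⟩ =>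
        ⟨⟨q', h₁, h₂.conj g⟩, conj_le_of_mem h₃ hg⟩
      have lT := map_le_iff_le_comap.1 TN
      have ne : (normalizer (D : Set _)).comap (φV p G) ≠ ⊤ := fun e => l.ti.ne_bot (le_bot_iff.1
        ((lD _ _ le_rfl l.ti (map_mono YT)).trans (pCore_eq_bot_iff.1 h.coreV D (normal_iff_top_le.2
          ((map_top_of_surjective _ φV_surj).ge.trans (map_le_iff_le_comap.2 e.ge))) (h.sylV.isPGroup.to_le DT)).le))
      by_contra hn
      obtain ⟨E', s', hE'⟩ := h.ind _ lT ne _ lT le_rfl hn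
      have s₁ : E' ∈ EE p T M₀ := ⟨_, lT, ne, s', hE'⟩
      obtain ⟨-, F', _, _, _, a', hF', k'⟩ := hf E' s₁
      obtain ⟨v₁, Y₁, l₁, hY₁, -⟩ := h.exists_LY a' s₁ k'
      obtain ⟨y, hy, hc⟩ := l₁.exists_nc
      exact hc (h.core_cent lT s' (le_pCoreOf (comap_mono le_normalizer) (le_normalizer_comap (φV p G) le_rfl)
        (h.pT.to_le (h.comap_le DT)) (lD _ _ (hF' ▸ hF ▸ hm E' s₁) l₁.ti (map_mono (hY₁.trans (Bm_le p T)))
          (mem_map_of_mem _ hy))))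
  exact EE.notM s (h.no E ⟨⟨T, h.syl, l.blk⟩, (SubnormalIn.of_normal EL LN).trans
    (h.sub_comap (sup_le (le_sSup (self_mem_cls _)) (le_sSup cl)) c.main)⟩)

end MC

end Cfsg.Agent.Lib.Blk
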