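import Cfsg.Agent.Lib.CgFin

/-! Pairs of linear blocks in characteristic two with non-commuting modules. -/

set_option autoImplicit false
open Cfsg

namespace Cfsg.Agent.Lib.Blk

open Subgroup Cfsg.Agent.Lib.PCoreConj Cfsg.Agent.Lib.PCore Cfsg.Agent.Lib.PCoreResidual Cfsg.Agent.Lib.PCoreMod
open Cfsg.Agent.Lib.ThompsonJ Cfsg.Agent.Lib.PushBase Cfsg.Agent.Lib.PIrred Cfsg.Agent.Lib.PReduced Equiv
open scoped Pointwise commutatorElement MatrixGroups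

universe u
variable {G : Type u} [Group G] {T R E E' E'' K P X X' M₀ : Subgroup G} {g t u w c d m : G}

/-- A block of linear type in characteristic two. -/
structure LB (R E : Subgroup G) : Prop where
  blk : Blk 2 R E
  lin : ∃ (F : Type) (_ : Field F) (_ : Finite F) (_ : CharP F 2), Nonempty (ActS (RL F) E (WE 2 E) (ZW 2 E))
  pR : IsPGroup 2 R
  WB : WE 2 E ≤ Bm 2 R
  nc : ¬ J 2 R ≤ C(WE 2 E)

/-- The fixed points of the Baumann subgroup on the module of a block. -/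
abbrev YE (R E : Subgroup G) : Subgroup G := WE 2 E ⊓ C(J 2 R)

/-- `X` induces the same action as the Baumann subgroup. -/
def Full (R E X : Subgroup G) : Prop := X ≤ Bm 2 R ∧ ∀ b ∈ Bm 2 R, ∃ x ∈ X, x⁻¹ * b ∈ (C(WE 2 E) : Subgroup G)

theorem LB.map {G' : Type u} [Group G'] {f : G →* G'} (hf : Function.Injective f) (h : LB R E) :
    LB (R.map f) (E.map f) := by
  refine ⟨(blk_map_iff hf).2 h.blk, ?_, h.pR.map f, by rw [← map_WE hf, ← map_Bm hf]; exact map_mono h.WB,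
    fun e => h.nc fun x hx => (map_mem_cent hf).1 ?_⟩
  · obtain ⟨F, _, _, _, ⟨a⟩⟩ := h.lin
    exact ⟨F, _, ‹_›, ‹_›, map_WE hf E ▸ map_ZW hf E ▸ a.map hf⟩
  · rw [map_WE hf]
    exact e (map_J (inf_ker_of_injective hf R) ▸ mem_map_of_mem f hx)

theorem LB.conj (h : LB R E) (hg : g ∈ (N(R) : Subgroup G)) : LB R (E ^ᶜ g) :=
  conj_eq_of_mem_normalizer hg ▸ h.map (MulAut.conj g).injective

theorem W_comm (E : Subgroup G) : WE 2 E ≤ C(WE 2 E) := le_centralizer_of_isElementaryAbelian (WE_elem 2 E)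

theorem W_inv (hu : u ∈ WE 2 E) : u⁻¹ = u := inv_eq_of_mul_eq_one_left ((pow_two u).symm.trans ((WE_elem 2 E).2 u hu))

theorem not_cent_symm (h : ¬ X ≤ C(X')) : ¬ X' ≤ C(X) := fun e => h (le_centralizer_iff.1 e)

variable [Finite G]

theorem Blk.norm_of_B {p : ℕ} [Fact p.Prime] (b : Blk p R E) (hR : IsPGroup p R) (h₁ : P ≤ N(Bm p R)) (h₂ : E ≤ N(P)) :
    P ≤ N(E) := by
  have h3 : P ≤ N(nclIn (Bm p R) E) := by
    unfold nclIn
    refine le_normalizer_iSup fun e => ?_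
    have := le_normalizer_conj h₁ (e : G)
    rwa [conj_eq_of_mem_normalizer (h₂ e.2)] at this
  rw [nclIn_eq_sup_commutator, commutator_comm, b.comm] at h3
  have h4 := le_normalizer_pResidualOf_of (p := p) h3
  rwa [pResidualOf_sup_eq b.res (hR.to_le (Bm_le p R)) b.B_norm] at h4

namespace LB
variable (h : LB R E)
include h

theorem data : ∃ (F : Type) (_ : Field F) (_ : Finite F) (_ : CharP F 2) (a : ActS (RL F) E (WE 2 E) (ZW 2 E))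
    (v : Fin 2 → F), v ≠ 0 ∧ a.pre (line v) = YE R E ∧ a.im (Bm 2 R) = UL v := by
  obtain ⟨F, _, _, _, ⟨a⟩⟩ := h.lin
  obtain ⟨v, hv, -, e₁, e₂⟩ := h.blk.lin_B a h.pR (h.WB.trans (Bm_le 2 R)) h.blk.B_norm h.nc
  exact ⟨F, _, ‹_›, ‹_›, a, v, hv, e₁, e₂⟩

theorem Y_cent : YE R E ≤ C(Bm 2 R) := (Blk.inf_cent_J_le (h.WB.trans (Bm_le 2 R))).trans (ZJ_le_cent_Bm 2 R)

theorem ZW_le : ZW 2 E ≤ YE R E := let ⟨_, _, _, _, a, _, _, e, _⟩ := h.data; e ▸ a.le_pre _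

theorem fix (hx : g ∈ Bm 2 R) (hc : g ∉ (C(WE 2 E) : Subgroup G)) (hu : u ∈ WE 2 E) (k : ⁅u, g⁆ ∈ (C(E) : Subgroup G)) :
    u ∈ YE R E := by
  obtain ⟨F, _, _, _, a, v, hv, e₁, e₂⟩ := h.data
  have n := h.blk.B_norm hx
  exact e₁.le ⟨hu, mem_line_of_fix hv (e₂.le (a.θ_mem hx)) (fun e => hc ((h.blk.θ_eq_one a.toSect n).1 e))
    ((a.fix_iff (norm_NN 2 E n) hu).2 (mem_inf.2 ⟨comm_mem_of_norm (norm_WE 2 E n) hu, k⟩))⟩

theorem inf_cent (hX : X ≤ Bm 2 R) (hc : ¬ X ≤ C(WE 2 E)) : WE 2 E ⊓ C(X) = YE R E := by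
  obtain ⟨x, hx, hc⟩ := SetLike.not_le_iff_exists.1 hc
  exact le_antisymm (fun u hu => h.fix (hX hx) hc hu.1 (comm_eq_one_of_cent' hu.2 hx ▸ one_mem _))
    (le_inf inf_le_left (h.Y_cent.trans (centralizer_anti hX)))

theorem comm_le_Y : ⁅WE 2 E, Bm 2 R⁆ ≤ YE R E := by
  obtain ⟨F, _, _, _, a, v, hv, e₁, e₂⟩ := h.data
  refine commutator_le.2 fun u hu b hb => e₁.le ⟨comm_mem_of_norm (norm_WE 2 E (h.blk.B_norm hb)) hu, ?_⟩
  rw [a.ψ_comm (norm_NN 2 E (h.blk.B_norm hb)) hu]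
  exact UL_sub (e₂.le (a.θ_mem hb)) _

theorem card_le (hX : X ≤ Bm 2 R) :
    Nat.card X * Nat.card (YE R E) ≤ Nat.card (WE 2 E) * Nat.card ↥(X ⊓ C(WE 2 E)) ∧
    (Nat.card (WE 2 E) * Nat.card ↥(X ⊓ C(WE 2 E)) ≤ Nat.card X * Nat.card (YE R E) → Full R E X) := by
  obtain ⟨F, _, _, _, a, v, hv, e₁, e₂⟩ := h.data
  haveI : Finite (AutM (Fin 2 → F)) := Finite.of_injective _ DFunLike.coe_injective
  have l := (a.im_mono hX).trans e₂.le
  have c := Subgroup.card_le_of_le l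
  have n := hX.trans h.blk.B_norm
  rw [card_UL hv] at c
  rw [← e₁, a.card_pre, card_line hv, a.card_U, card_vec, h.blk.card_eq_im a.toSect n]
  refine ⟨calc _ ≤ Nat.card F * Nat.card ↥(X ⊓ C(WE 2 E)) * (Nat.card F * Nat.card (ZW 2 E)) :=
      Nat.mul_le_mul_right _ (Nat.mul_le_mul_right _ c)
    _ = _ := by ring, fun k => ⟨hX, fun b hb => ?_⟩⟩
  have e := eq_of_le_of_card_le l ((card_UL hv).le.trans (Nat.le_of_mul_le_mul_right
    (c := Nat.card ↥(X ⊓ C(WE 2 E)) * (Nat.card F * Nat.card (ZW 2 E))) (calc _ = _ := by ring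
      _ ≤ _ := k
      _ = _ := by ring) (Nat.mul_pos Nat.card_pos (Nat.mul_pos Nat.card_pos Nat.card_pos))))
  obtain ⟨x, hx, e'⟩ := (a.mem_im' (n.trans (norm_NN 2 E))).1 (e.ge (e₂.le (a.θ_mem hb)))
  exact ⟨x, hx, h.blk.cent_of_θ_eq a.toSect (n hx) (h.blk.B_norm hb) e'⟩

theorem full (h' : LB R E') (k : ¬ WE 2 E' ≤ C(WE 2 E)) : Full R E (WE 2 E') := (h.card_le h'.WB).2 (by
  have := (h'.card_le h.WB).1
  rwa [h.inf_cent h'.WB k, ← h'.inf_cent h.WB (not_cent_symm k)] at this)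

theorem le_two (f : Full R E X) : ∃ e ∈ E, E ≤ X ⊔ X ^ᶜ e ⊔ WE 2 E ∧
    ∀ u ∈ WE 2 E, ∃ y ∈ YE R E, u * (e * y * e⁻¹)⁻¹ ∈ YE R E := by
  obtain ⟨F, _, _, _, a, v, hv, e₁, e₂⟩ := h.data
  have n := f.1.trans h.blk.B_norm
  have eX : a.im X = UL v := le_antisymm ((a.im_mono f.1).trans e₂.le) (e₂.ge.trans (a.im_le_iff.2 fun b hb => by
    obtain ⟨x, hx, k⟩ := f.2 b hb
    rw [← mul_inv_cancel_left x b, a.θ_mul (norm_NN 2 E (n hx)) (norm_NN 2 E (mul_mem (inv_mem (n hx))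
      (h.blk.B_norm hb))), a.θ_of_cent k, mul_one]
    exact a.θ_mem hx))
  obtain ⟨v', hv'⟩ := exists_det2 hv
  obtain ⟨r, hr, e₃⟩ := RL_trans hv (w := v') fun e => by rw [e, det2_zero] at hv'; exact zero_ne_one hv'
  obtain ⟨e, he, rfl⟩ := a.exists_θ hr
  obtain ⟨γ, e₄⟩ := RL_le_PL hr
  have n' : X ^ᶜ e ≤ N(E) := conj_le_of_mem n (le_normalizer he)
  have nK := (sup_le n n').trans (norm_NN 2 E)
  have eK : a.im (X ⊔ X ^ᶜ e) = PL F := by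
    rw [a.im_sup (n.trans (norm_NN 2 E)) (n'.trans (norm_NN 2 E)), a.im_conj (a.norm he), eX, ← e₄, conj_UL, e₄, e₃]
    refine le_antisymm (sup_le (UL_le_PL _) (UL_le_PL _)) (PL_le_of hv (sup_le (UL_le_PL _) (UL_le_PL _)) le_sup_left
      (mem_sup_right (tv_mem v' 1)) ?_)
    rw [toA_tv, mem_line, det2_add, det2_self, det2_smul, zero_add, one_mul, det2_swap v' v, hv', mul_one, neg_eq_zero]
    exact one_ne_zero
  refine ⟨e, he, (h.blk.le_sup_of_im a.toSect ((pResidualOf_mono (sup_le (f.1.trans le_sup_right)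
    (conj_le_of_mem (f.1.trans le_sup_right) (mem_sup_left he)))).trans (pResidualOf_sup_le (h.pR.to_le (Bm_le 2 R))
      h.blk.B_norm)) (by rw [a.im_res nK, eK, res_PL, a.eq])).trans
    (sup_le_sup (pResidualOf_le 2 _) h.blk.core_two.le), fun u hu => ?_⟩
  have m := a.σ_mem (det2 v (a.ψ u) • v)
  have m' := conj_mem_of_norm (a.norm he).1 m
  refine ⟨_, e₁.le ⟨m, by rw [a.ψ_σ]; exact smul_mem_line _ _⟩, e₁.le ⟨mul_mem hu (inv_mem m'), ?_⟩⟩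
  rw [a.add _ hu _ (inv_mem m'), a.inv m', ← a.θ_ψ (a.norm he) m, a.ψ_σ, PL_le_LinA (RL_le_PL hr), e₃, ← sub_eq_add_neg,
    sub_eq_of_eq_add (decomp hv' (a.ψ u))]
  exact smul_mem_line _ _

theorem dec (f : Full R E X) (hd : d ∈ Bm 2 R) (c₁ : d ∈ (C(WE 2 E) : Subgroup G)) (c₂ : d ∈ (C(X) : Subgroup G)) :
    ∃ y ∈ YE R E, d * y ∈ (C(E) : Subgroup G) := by
  obtain ⟨e, he, l, k⟩ := h.le_two f
  obtain ⟨y, hy, k⟩ := k _ (h.blk.core_two.le (h.blk.NC_comm (inv_mem (mem_inf.2 ⟨h.blk.B_norm hd, c₁⟩)) he))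
  have cX := h.Y_cent.trans (centralizer_anti f.1)
  refine ⟨_, k, centralizer_anti l ?_⟩
  rw [centralizer_sup, centralizer_sup]
  refine ⟨⟨mul_mem c₂ (cX k), ?_⟩, mul_mem c₁ (W_comm E k.1)⟩
  rw [show d * (⁅d⁻¹, e⁆ * (e * y * e⁻¹)⁻¹) = e * (d * y⁻¹) * e⁻¹ by rw [commutatorElement_def]; group,
    SetLike.mem_coe, ← conj_centralizer]
  exact conj_mem_conj e (mul_mem c₂ (inv_mem (cX hy)))

variable (h' : LB R E') (k : ¬ WE 2 E' ≤ C(WE 2 E))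
include h' k

theorem cent (hc : c ∈ Bm 2 R) (c₁ : c ∈ (C(E) : Subgroup G)) : c ∈ (C(WE 2 E') : Subgroup G) := by
  obtain ⟨u, hu, c₂⟩ := (h'.full h (not_cent_symm k)).2 c hc
  obtain ⟨y, hy, c₃⟩ := h.dec (h.full h' k) (mul_mem (inv_mem (h.WB hu)) hc)
    (mul_mem (inv_mem (W_comm E hu)) (centralizer_anti (WE_le_E 2 E) c₁)) c₂
  rw [mul_assoc, h.Y_cent hy c hc, ← mul_assoc, mul_mem_cancel_right c₁] at c₃
  have := h.ZW_le (mem_inf.2 ⟨mul_mem (inv_mem hu) hy.1, c₃⟩)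
  rw [mul_mem_cancel_right hy] at this
  exact (mul_mem_cancel_left (centralizer_anti h'.WB (h.Y_cent this))).1 c₂

theorem comm_le (hX : X ≤ Bm 2 R ⊓ C(WE 2 E) ⊓ C(WE 2 E')) (hX' : X' ≤ Bm 2 R ⊓ C(WE 2 E) ⊓ C(WE 2 E')) :
    ⁅X, X'⁆ ≤ C(E) := commutator_le.2 fun x hx x' hx' => by
  obtain ⟨y, hy, c⟩ := h.dec (h.full h' k) (hX hx).1.1 (hX hx).1.2 (hX hx).2
  obtain ⟨y', hy', c'⟩ := h.dec (h.full h' k) (hX' hx').1.1 (hX' hx').1.2 (hX' hx').2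
  have := comm_mem_of_norm (le_normalizer c') c
  rwa [comm_mul_right, comm_eq_one_of_cent (h.Y_cent hy') (mul_mem (hX hx).1.1 (h.WB hy.1)), mul_one, mul_inv_cancel,
    mul_one, comm_mul_left, comm_eq_one_of_cent' (h.Y_cent hy) (hX' hx').1.1, mul_one, mul_inv_cancel, one_mul] at this

variable (h'' : LB R E'') (k' : ¬ WE 2 E'' ≤ C(WE 2 E))
include h'' k'

theorem comm : WE 2 E'' ≤ C(WE 2 E') := fun x hx => by
  obtain ⟨w, hw, c₁⟩ := (h.full h' k).2 x (h''.WB hx)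
  have m₁ := mul_mem (inv_mem (h'.WB hw)) (h''.WB hx)
  obtain ⟨u, hu, c₂⟩ := (h'.full h (not_cent_symm k)).2 _ m₁
  have c₃ := mul_mem (inv_mem (W_comm E hu)) c₁
  obtain ⟨y, hy, c₄⟩ := h.dec (h.full h' k) (mul_mem (inv_mem (h.WB hu)) m₁) c₃ c₂
  by_cases hc : w ∈ (C(WE 2 E) : Subgroup G)
  · exact centralizer_anti h'.WB (h''.Y_cent ((h''.inf_cent h.WB (not_cent_symm k')).le
      ⟨hx, (mul_mem_cancel_left (inv_mem hc)).1 c₁⟩))
  have e : x = w * (u * (u⁻¹ * (w⁻¹ * x))) := by group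
  have m₂ := mul_mem (inv_mem (h.WB hu)) m₁
  generalize u⁻¹ * (w⁻¹ * x) = c at c₂ c₃ c₄ e m₂
  have := h.fix (h'.WB hw) hc hu (by
    have e₁ := W_inv hx
    have e₂ : ⁅u, w⁆ = c * y * (c * y) := by
      rw [e, inv_eq_iff_mul_eq_one] at e₁
      calc ⁅u, w⁆ = u⁻¹ * w⁻¹ * u⁻¹ * w⁻¹ * (w * (u * c) * (w * (u * c))) := by
            rw [e₁, mul_one, commutatorElement_def, W_inv hu, W_inv hw]
        _ = u⁻¹ * w⁻¹ * (c * w) * u * c := by group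
        _ = u⁻¹ * (c * u) * c := by rw [← c₂ w hw]; group
        _ = c * (y * y) * c := by rw [← c₃ u hu, ← pow_two, (WE_elem 2 E).2 y hy.1]; group
        _ = c * y * (y * c) := by group
        _ = _ := by rw [← h.Y_cent hy c m₂]
    exact e₂ ▸ mul_mem c₄ c₄)
  exact e ▸ mul_mem (W_comm E' hw) (mul_mem (centralizer_anti h'.WB (h.Y_cent this)) c₂)

theorem cent_le : Bm 2 R ⊓ C(WE 2 E') ≤ C(WE 2 E'') := fun c hc => by
  obtain ⟨w, hw, c₁⟩ := (h.full h' k).2 c hc.1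
  have m := mul_mem (inv_mem (h'.WB hw)) hc.1
  obtain ⟨y, hy, c₂⟩ := h.dec (h.full h' k) m c₁ (mul_mem (inv_mem (W_comm E' hw)) hc.2)
  have := h.cent h'' k' (mul_mem m (h.WB hy.1)) c₂
  rwa [mul_mem_cancel_right (centralizer_anti h''.WB (h.Y_cent hy)),
    mul_mem_cancel_left (inv_mem (h.comm h'' k' h' k hw))] at this

theorem tri (l : LB R K) (k'' : ¬ WE 2 E'' ≤ C(WE 2 K)) : ¬ WE 2 E' ≤ C(WE 2 K) := fun e =>
  k'' (le_centralizer_iff.1 ((le_inf l.WB (le_centralizer_iff.1 e)).trans (h.cent_le h' k h'' k')))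

end LB

theorem LB.match_false (h : LB R E) (hT : IsSylowIn 2 T ⊤)
    (ec : ∀ X : Subgroup G, X ≠ ⊥ → X ≤ T → T ≤ N(X) → CharPIn 2 (N(X) : Subgroup G)) (hM : T ≤ M₀) (hR : M₀ ≤ N(R))
    (RT : R ≤ T) (h₁ : ∀ t ∈ T, WE 2 (E ^ᶜ t) ≤ C(WE 2 E)) (hm : m ∈ M₀) : WE 2 (E ^ᶜ m) ≤ C(WE 2 E) := by
  by_contra k
  let adj : G → G → Prop := fun a b => ¬ WE 2 (E ^ᶜ b) ≤ C(WE 2 (E ^ᶜ a))
  have lb : ∀ a ∈ M₀, LB R (E ^ᶜ a) := fun a ha => h.conj (hR ha)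
  have sy : ∀ {a b}, adj a b → adj b a := not_cent_symm
  have eq : ∀ {a b} g, adj a b → adj (g * a) (g * b) := fun g k e => k (by
    rwa [← conj_conj, ← conj_conj, ← conj_WE 2 _ g, ← conj_WE 2 _ g, ← conj_centralizer, conj_le_conj_iff] at e)
  have tri : ∀ {a b c k}, a ∈ M₀ → b ∈ M₀ → c ∈ M₀ → k ∈ M₀ → adj a b → adj a c → adj k c → adj k b :=
    fun ha hb hc hk h₁ h₂ h₃ => (lb _ ha).tri (lb _ hb) h₁ (lb _ hc) h₂ (lb _ hk) h₃
  have k₀ : adj 1 m := by simpa only [adj, conj_one] using k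
  have k₁ : ∀ j, adj 1 (m ^ (2 * j + 1)) := fun j => by
    induction j with
    | zero => simpa using k₀
    | succ j ih =>
      refine tri (pow_mem hm (2 * j + 2)) (pow_mem hm _) (pow_mem hm _) (one_mem _) ?_ (sy ?_) ih
      · simpa only [mul_one, ← pow_succ, mul_add] using eq (m ^ (2 * j + 2)) k₀
      · simpa only [mul_one, ← pow_succ] using eq (m ^ (2 * j + 1)) k₀
  obtain ⟨n, _, ⟨j, rfl⟩, e⟩ := Nat.exists_eq_two_pow_mul_odd (orderOf_pos m).ne'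
  obtain ⟨g, hg, ht⟩ := (hT.of_le hM le_top).exists_conj_mem (pow_mem hm (2 * j + 1)) (k := n)
    (by rw [← pow_mul, mul_comm, ← e, pow_orderOf_eq_one])
  have k₂ := eq g (k₁ j)
  rw [mul_one, ← inv_mul_cancel_right (g * _) g] at k₂
  generalize g * m ^ (2 * j + 1) * g⁻¹ = t at ht k₂
  have c₁ : ∀ s ∈ T, ¬ adj 1 (s * g) := fun s hs k => by
    have m₁ := mul_mem (mul_mem hs ht) (inv_mem hs)
    have k₃ := eq (s * t * s⁻¹) k
    rw [mul_one, show s * t * s⁻¹ * (s * g) = s * (t * g) by group] at k₃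
    refine tri (mul_mem (hM hs) hg) (one_mem _) (mul_mem (hM hs) (mul_mem (hM ht) hg)) (hM m₁) (sy k) (eq s k₂) k₃ ?_
    rw [conj_one]
    exact le_centralizer_iff.1 (h₁ _ m₁)
  have c₂ : ∀ s ∈ T, ¬ adj m (s * g) := fun s hs k => c₁ _ (mul_mem hs ht) (sy (tri hm (one_mem _) (mul_mem (hM hs) hg)
    (mul_mem (hM (mul_mem hs ht)) hg) (sy k₀) k (sy (mul_assoc s t g ▸ eq s k₂))))
  have c₃ : ∀ s ∈ T, ⁅WE 2 (E ^ᶜ 1), WE 2 (E ^ᶜ m)⁆ ≤ C(E ^ᶜ (s * g)) := fun s hs =>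
    have st := mul_mem hs ht
    (lb _ (mul_mem (hM hs) hg)).comm_le (lb _ (mul_mem (hM st) hg)) (mul_assoc s t g ▸ eq s k₂)
      (le_inf (le_inf (lb _ (one_mem _)).WB (not_not.1 fun k => c₁ s hs (sy k))) (not_not.1 fun k => c₁ _ st (sy k)))
      (le_inf (le_inf (lb _ hm).WB (not_not.1 fun k => c₂ s hs (sy k))) (not_not.1 fun k => c₂ _ st (sy k)))
  have l₀ : ⁅WE 2 (E ^ᶜ 1), WE 2 (E ^ᶜ m)⁆ ≤ T := (commutator_mono (lb _ (one_mem _)).WB (lb _ hm).WB).trans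
    ((commutator_le_self _).trans ((Bm_le 2 R).trans RT))
  have n₀ : ⁅WE 2 (E ^ᶜ 1), WE 2 (E ^ᶜ m)⁆ ≠ ⊥ := fun e => k₀ (cent_of_comm_bot e)
  generalize ⁅WE 2 (E ^ᶜ 1), WE 2 (E ^ᶜ m)⁆ = Y at c₃ l₀ n₀
  have nT := le_normalizer_nclIn Y T
  have cp := ec _ (fun e => n₀ (le_bot_iff.1 ((le_nclIn Y T).trans e.le))) (nclIn_le_of_le l₀) nT
  have c₄ : ∀ s ∈ T, E ^ᶜ (s * g) ≤ N(nclIn Y T) := fun s hs => le_normalizer_of_le_centralizer
    (le_centralizer_iff.1 (nclIn_le_iff.2 fun s' hs' => by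
      rw [conj_le_iff_le_conj_inv, conj_centralizer, conj_conj, ← mul_assoc]
      exact c₃ _ (mul_mem (inv_mem hs') hs)))
  generalize (N(nclIn Y T) : Subgroup G) = M at nT cp c₄
  have c₅ : ∀ s ∈ T, pCoreOf 2 M ≤ C(WE 2 (E ^ᶜ (s * g))) := fun s hs =>
    have l := lb _ (mul_mem (hM hs) hg)
    have n := (c₄ s hs).trans (le_normalizer_pCoreOf 2 M)
    l.blk.cent_of_pgroup (pCoreOf_isPGroup 2 M) (l.blk.norm_of_B h.pR (((hT.of_le nT le_top).pCoreOf_le.trans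
      (hM.trans hR)).trans (normalizer_le_normalizer_Bm 2 R)) n) n
  exact k₂ ((cp.le_pCoreOf ((WE_le_E 2 _).trans (c₄ t ht)) (le_centralizer_iff.1 (c₅ t ht))).trans
    (by simpa only [one_mul] using c₅ 1 (one_mem _)))

variable {α : Type*} [Fintype α] [DecidableEq α] {x z : α} {π : α → α}

theorem SY.exists_unit {a : ActS (RS α) E (WE 2 E) (ZW 2 E)} (h : SY T M₀ a) (m : Mt (PP a.toSect (T ⊓ N(E))) z π)
    (hM : ¬ E ≤ M₀) (hx : x ≠ z) : ∃ E' ≤ E, LB T E' ∧ ¬ E' ≤ M₀ ∧ ZW 2 E' = ⊥ ∧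
      ∀ u, u ∈ WE 2 E' ↔ u ∈ WE 2 E ∧ a.ψ u ∈ (j3 x (π x) z).range := by
  have sp := h.sp
  have nB := h.blk.B_norm
  have hxy := (m.ne x hx).symm
  have hy := m.ne_z hx
  have fz : ∀ g ∈ Bm 2 T, ∀ σ, toP σ = a.θ g → σ z = z := fun g hg σ e => m.fix σ (PP_of ⟨Bm_le 2 T hg, nB hg⟩ e)
  have hB := fun g hg => sp.fix_pr hxy (h.J_swap m x) (g := g) hg
  obtain ⟨t, ht, e⟩ := (mem_PP (sp.JH.trans sp.nn)).1 (h.J_swap m x)
  have hj := j3_injective hxy hx hy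
  obtain ⟨W, s, lW, s₁, s₂, s₃⟩ := a.exists_sub (j3 x (π x) z) hj
  have zw := h.zw
  have nW : ∀ g ∈ N(E), ∀ σ, toP σ = a.θ g → (σ x = x ∨ σ x = π x ∨ σ x = z) → (σ (π x) = x ∨ σ (π x) = π x ∨ σ (π x) = z) →
      (σ z = x ∨ σ z = π x ∨ σ z = z) → g ∈ (N(W) : Subgroup G) := fun g hg σ e h₁ h₂ h₃ =>
    s₃ g (sp.nn hg) (e ▸ toP_mem_j3 h₁ h₂ h₃)
  have nBW : Bm 2 T ≤ N(W) := fun g hg => by
    obtain ⟨σ, e⟩ := sp.perm (nB hg)
    have k := hB g hg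
    rw [← e, toP_pr] at k
    obtain ⟨k₁, k₂⟩ := pair_of_pr (fun e => hxy (σ.injective e)) k
    exact nW g (nB hg) σ e (k₁.imp_right .inl) (k₂.imp_right .inl) (.inr (.inr (fz g hg σ e)))
  have uB : ∀ g ∈ Bm 2 T, s.θ g ∈ UL ![1, 1] := fun g hg => mem_UL_of_PL v11_ne (mem_PL_two _) (hj (by
    rw [s₂ g (sp.nn (nB hg)) (nBW hg), j3_11, hB g hg]))
  have nH : HE T E ⊓ N(W) ≤ NN W (ZW 2 E) := le_inf inf_le_right (zw ▸ nb _)
  have l : pResidualOf 2 (HE T E ⊓ N(W)) ≤ E := (pResidualOf_mono inf_le_left).trans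
    (pResidualOf_sup_le (h.pT.to_le inf_le_left) inf_le_right)
  have BH : Bm 2 T ≤ HE T E ⊓ N(W) := le_inf ((le_inf (Bm_le 2 T) nB).trans le_sup_right) nBW
  have t₁ : s.θ t ≠ 1 := fun k => by
    have := s₂ t (sp.nn (sp.JH ht)) (nBW (J_le_Bm 2 T ht)) ![1, 0]
    rw [k, aut_one, j3_10, e, toP_pr, swap_apply_left, swap_apply_of_ne_of_ne hx.symm hy.symm] at this
    exact (pair_of_pr hx this).1.elim hxy hx
  have hM' : ∀ X ≤ pResidualOf 2 (HE T E ⊓ N(W)), s.im X = RL (ZMod 2) → ¬ X ≤ M₀ := fun X hX e k => by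
    obtain ⟨r, hr, e'⟩ := RL_trans v11_ne (e0_ne (F := ZMod 2))
    have n := hX.trans ((pResidualOf_le 2 _).trans nH)
    obtain ⟨g, hg, rfl⟩ := (s.mem_im' n).1 (e.ge hr)
    obtain ⟨σ, e₁⟩ := sp.perm (le_normalizer (l (hX hg)))
    have := s₂ g (a.norm (l (hX hg))) (n hg).1 ![1, 1]
    have k' := (h.mem_iff m hM (mem_sup_left (l (hX hg))) e₁).1 (k hg)
    rw [e', j3_10, j3_11, ← e₁, toP_pr, ← k'] at this
    exact (pair_of_pr (k'.symm ▸ hx) this).2.elim (fun e => hx (σ.injective e).symm) fun e => hy (σ.injective e).symm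
  have WV := lW.trans (h.blk.WE_le_V h.syl h.hG)
  have pre : Pre 2 (RL (ZMod 2)) (HE T E ⊓ N(W)) s := ⟨model_lin, isElementaryAbelian_of_le V_elem WV,
    nH, fun r _ => PL_le_norm (mem_PL_two r), inf_le_right.trans (commutator_eq_bot_iff_le_centralizer'.1
      (le_bot_iff.1 ((comm_le_of_le_rel le_rfl).trans zw.le)))⟩
  obtain ⟨E', h₁, h₂, h₃⟩ := pre.exists_blk h.syl h.hG (WV.trans (omegaOneCenter_le 2 _))
    (le_antisymm (fun r _ => mem_PL_two r) (by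
      obtain ⟨g, hg, e'⟩ := h.onto (swap x z)
      have n := nW g (HE_le hg) _ e'.symm (.inr (.inr (swap_apply_left _ _)))
        (.inr (.inl (swap_apply_of_ne_of_ne hxy.symm hy))) (.inl (swap_apply_right _ _))
      refine PL_le_of v11_ne (fun r _ => mem_PL_two r) (UL_le_two (s.θ_mem (BH (J_le_Bm 2 T ht)))
        (uB t (J_le_Bm 2 T ht)) t₁) (s.θ_mem (mem_inf.2 ⟨hg, n⟩)) ?_
      rw [show s.θ g ![1, 1] = ![0, 1] from hj (by rw [s₂ g (sp.nn (HE_le hg)) n, j3_11, j3_01, e', toP_pr,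
        swap_apply_left, swap_apply_of_ne_of_ne hxy.symm hy, pr_comm]), mem_line]
      unfold det2; decide)) BH
    (le_inf ((le_inf h.Q_le (h.blk.Q_norm h.syl)).trans le_sup_right) (le_normalizer_of_le_centralizer
      (Q_le_CV.trans (centralizer_anti WV)))) (fun k => t₁ (s.θ_of_cent (k ht))) h.hd h.hz hM'
  have nE := h₁.trans ((pResidualOf_le 2 _).trans nH)
  have c := (s.le_comm_sup model_lin nE h₃).trans (sup_le le_rfl (zw.le.trans bot_le))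
  have c' := c.trans ((commutator_mono WV le_rfl).trans (h₂.VE h.syl h.hG))
  have nc : ¬ W ≤ C(E') := fun k => v11_ne ((s.ψ_σ _).symm.trans (s.zero (bot_le (a := ZW 2 E)
    (c.trans (commutator_eq_bot_iff_le_centralizer.2 k).le (s.σ_mem ![1, 1])))))
  obtain rfl : WE 2 E' = W := le_antisymm ((h₂.irr (c'.trans (WE_le 2 E')) (nE.trans inf_le_left)).resolve_left nc) c'
  have zw' : ZW 2 E' = ⊥ := le_bot_iff.1 (((s.img_eq_bot_iff (ZW_le 2 E')).1 ((model_lin.irr _ (h₃ ▸ s.im_img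
    (le_normalizer.trans (norm_ZW 2 E')))).resolve_right fun e => nc ((s.le_sup_of_img_eq_top e).trans
      (sup_le (ZW_cent 2 E') (zw.le.trans bot_le))))).trans zw.le)
  refine ⟨E', h₁.trans l, ⟨h₂, ⟨ZMod 2, _, inferInstance, inferInstance, ?_⟩, h.pT, h₂.W_le_B h.syl h.hG,
    h₂.not_J_cent h.syl h.hG⟩, hM' E' h₁ h₃, zw', fun u => ⟨fun hu => ⟨lW hu, _, s₁ u hu⟩, fun ⟨hu, v, e⟩ => ?_⟩⟩
  · rw [zw', ← zw]; exact ⟨⟨s, nE, h₃⟩⟩
  · rw [← sp.inj (lW (s.σ_mem v)) hu (by rw [← s₁ _ (s.σ_mem v), s.ψ_σ, e])]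
    exact s.σ_mem v

theorem CM.exists_lb (h : CM 2 T M₀) (ne : M₀ ≠ ⊤) : ∃ E, LB T E ∧ ¬ E ≤ M₀ := by
  obtain ⟨E, s, hM⟩ := h.exists_sb ne
  have b := s.blk h.hG h.syl
  rcases b.cases' with ⟨F, _, _, _, a, -⟩ | ⟨-, r, hr, ⟨a⟩, -, zw⟩
  · exact ⟨E, ⟨b, ⟨F, _, ‹_›, ‹_›, a⟩, h.pT, b.W_le_B h.syl h.hG, b.not_J_cent h.syl h.hG⟩, hM⟩
  · have y := h.sy s hr zw a
    obtain ⟨z, π, m⟩ := y.sp.exists_mt
    obtain ⟨x, hx, -⟩ := exists_third' y.h3 z z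
    obtain ⟨E', -, l, k, -⟩ := y.exists_unit m hM hx
    exact ⟨E', l, k⟩

/-- A linear block inside a subgroup of characteristic two. -/
theorem exists_lb_in {H : Subgroup G} (hH : CharPIn 2 H) (hR : IsSylowIn 2 R H) (hM : ¬ H ≤ M₀)
    (hd : ∀ X ≤ Bm 2 R, X ≠ ⊥ → (N(Bm 2 R) : Subgroup G) ≤ N(X) → H ⊓ N(X) ≤ M₀)
    (hz : H ⊓ C(omegaOneCenter 2 R) ≤ M₀) :
    ∃ E ≤ H, LB R E ∧ ¬ E ≤ M₀ ∧ WE 2 E ≤ omegaOneCenter 2 (pCoreOf 2 H) := by
  have s : IsSylowIn 2 (R.subgroupOf H) ⊤ := subgroupOf_self H ▸ hR.subgroupOf le_rfl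
  have e : (Bm 2 (R.subgroupOf H)).map H.subtype = Bm 2 R := by
    rw [map_Bm H.subtype_injective, map_subgroupOf_eq_of_le hR.le]
  have c : CM 2 (R.subgroupOf H) (M₀.subgroupOf H) := by
    refine ⟨charPIn_iff.2 hH, s, fun A h₁ h₂ => ?_, ?_⟩
    · let ψ : Bm 2 (R.subgroupOf H) ≃* Bm 2 R :=
        (equivMapOfInjective _ _ H.subtype_injective).trans (MulEquiv.subgroupCongr e)
      haveI : (A.map ψ.toMonoidHom).Characteristic := characteristic_iff_map_le.2 fun φ => by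
        rintro _ ⟨_, ⟨a, ha, rfl⟩, rfl⟩
        exact ⟨_, characteristic_iff_map_le.1 h₂ (ψ.trans (φ.trans ψ.symm)) ⟨a, ha, rfl⟩, by simp⟩
      have := hd _ (map_subtype_le (A.map ψ.toMonoidHom)) (fun k => h₁ ((Subgroup.map_eq_bot_iff_of_injective _
        ψ.injective).1 ((Subgroup.map_eq_bot_iff_of_injective _ (Bm 2 R).subtype_injective).1 k)))
        (normalizer_le_normalizer_map_subtype _)
      rw [normalizer_eq_subgroupOf, map_map, ← inf_subgroupOf_left]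
      rw [map_map] at this
      exact comap_mono this
    · rw [centralizer_eq_subgroupOf, map_omegaOneCenter_subtype, map_subgroupOf_eq_of_le hR.le, ← inf_subgroupOf_left]
      exact comap_mono hz
  obtain ⟨E, l, k⟩ := c.exists_lb fun e => hM (subgroupOf_eq_top.1 e)
  refine ⟨E.map H.subtype, map_subtype_le E, map_subgroupOf_eq_of_le hR.le ▸ l.map H.subtype_injective,
    fun e => k (map_le_iff_le_comap.1 e), ?_⟩
  rw [← map_WE H.subtype_injective, pCoreOf, ← map_omegaOneCenter_subtype]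
  exact map_mono (l.blk.WE_le_V c.syl c.hG)

end Cfsg.Agent.Lib.Blk
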