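import Cfsg.Agent.Lib.CgExc

/-! Offenders normalize blocks; minimal parabolics have no over-offenders; the minimal counterexample. -/

set_option autoImplicit false
open Cfsg

namespace Cfsg.Agent.Lib.Blk

open Subgroup Cfsg.Agent.Lib.PCoreConj Cfsg.Agent.Lib.PCore Cfsg.Agent.Lib.PCoreResidual Cfsg.Agent.Lib.PCoreMod
open Cfsg.Agent.Lib.ThompsonJ Cfsg.Agent.Lib.PushBase Cfsg.Agent.Lib.PIrred
open scoped Pointwise commutatorElement MatrixGroups

universe u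
variable {G : Type u} [Group G] {p : ℕ} {T E H K X Y S A P V D M₀ M₁ : Subgroup G} {g x y w : G}

section Lin
variable {F : Type*} [Field F] [Finite F] [hp : Fact p.Prime] [CharP F p] {v : Fin 2 → F} {r : AutM (Fin 2 → F)} {k : ℕ}

theorem mem_UL_of_scal (hr : r ∈ (N(RL F) : Subgroup _)) (hv : v ≠ 0) {c : F} (h : ∀ a : F, r (a • v) = (a * c) • v)
    (hk : r ^ p ^ k = 1) : r ∈ UL v := by
  have e' : ∀ n, (r ^ n) v = c ^ n • v := fun n => by
    induction n with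
    | zero => rw [pow_zero, pow_zero, aut_one, one_smul]
    | succ n ih => rw [pow_succ', aut_mul, ih, h, pow_succ]
  have := e' (p ^ k)
  rw [hk, aut_one] at this
  have h₂ : (c - 1) ^ p ^ k = 0 := by
    rw [sub_pow_char_pow, ← smul_cancel hv ((one_smul F v).trans this), one_pow, sub_self]
  refine mem_UL_of_fix hr hv (fun m hm => ?_) hk
  obtain ⟨a, rfl⟩ := (mem_line_iff hv).1 hm
  rw [h, sub_eq_zero.1 (pow_eq_zero_iff (pow_ne_zero k hp.out.ne_zero) |>.1 h₂), mul_one]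

theorem mem_UL_of_comm (hr : r ∈ (N(RL F) : Subgroup _)) (hv : v ≠ 0) (h : ∀ s ∈ UL v, r * s = s * r)
    (hk : r ^ p ^ k = 1) : r ∈ UL v := by
  obtain ⟨w, hw⟩ := exists_det2 hv
  refine mem_UL_of_scal hr hv (c := det2 v (r w)) (fun a => ?_) hk
  have := congrArg (fun s : AutM (Fin 2 → F) => s w) (h _ (tv_mem v a))
  simp only [aut_mul, toA_tv, hw, mul_one, map_add] at this
  exact add_left_cancel this

theorem mem_UL_of_sub (hr : r ∈ (N(RL F) : Subgroup _)) (hv : v ≠ 0) (h : ∀ m, m - r m ∈ line v)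
    (hk : r ^ p ^ k = 1) : r ∈ UL v := by
  obtain ⟨w, hw⟩ := exists_det2 hv
  obtain ⟨c, hc⟩ := (mem_line_iff hv).1 (show r v ∈ line v by simpa using sub_mem (self_mem_line v) (h v))
  refine mem_UL_of_scal hr hv (c := c) (fun a => ?_) hk
  obtain ⟨b, hb⟩ := exists_sigma hr a
  have h₁ := mem_line.1 (h w)
  have h₂ := mem_line.1 (h (a • w))
  rw [hb, det2_sub, det2_smul, det2_smul, hw] at h₂
  rw [det2_sub, hw] at h₁
  rw [hb, hc, smul_smul, show b = a by linear_combination b * h₁ - h₂]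

end Lin

theorem indep_cent {ι : Type*} (s : Finset ι) (R K : ι → Subgroup G) (hV : V ≤ C(V)) (hR : ∀ i, R i ≤ V)
    (h : ∀ i j, R i = R j ∨ R j ≤ C(K i)) (h₀ : ∀ i, R i ⊓ C(K i) = ⊥) :
    ∀ x ∈ ⨆ i ∈ s, R i, (∀ i, x ∈ (C(K i) : Subgroup G)) → x = 1 := by
  classical
  induction s using Finset.induction_on with
  | empty => simp
  | insert a s ha ih =>
    intro x hx hc
    rw [Finset.iSup_insert] at hx
    by_cases k : ∃ j ∈ s, R a = R j
    · obtain ⟨j, hj, e⟩ := k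
      exact ih x (sup_le (e.le.trans (le_iSup₂ (f := fun i (_ : i ∈ s) => R i) j hj)) le_rfl hx) hc
    · obtain ⟨r, hr, y, hy, rfl⟩ := (mem_sup_iff_of_le_normalizer (le_normalizer_of_le_centralizer
        ((hR a).trans (hV.trans (centralizer_anti (iSup₂_le fun i _ => hR i)))))).1 hx
      have k' : y ∈ (C(K a) : Subgroup G) :=
        (iSup₂_le fun j hj => (h a j).resolve_left fun e => k ⟨j, hj, e⟩ : (⨆ i ∈ s, R i) ≤ _) hy
      have e : r = 1 := mem_bot.1 ((h₀ a).le (mem_inf.2 ⟨hr, (mul_mem_cancel_right k').1 (hc a)⟩))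
      rw [e, one_mul] at hc ⊢
      exact ih y hy hc

variable [hp : Fact p.Prime] [Finite G]

theorem zpowers_inf_eq_bot (h : w ^ p = 1) (hw : w ∉ K) : zpowers w ⊓ K = ⊥ := eq_bot_iff.2 fun x hx => by
  obtain ⟨n, rfl⟩ := (mem_powers_iff_mem_zpowers.2 hx.1)
  by_cases k : p ∣ n
  · obtain ⟨c, rfl⟩ := k
    exact mem_bot.2 (by beta_reduce; rw [pow_mul, h, one_pow])
  · exact absurd (mem_of_pow_mem_of_coprime (Nat.Coprime.coprime_dvd_left (orderOf_dvd_of_pow_eq_one h)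
      ((Nat.Prime.coprime_iff_not_dvd hp.out).2 k)) hx.2) hw

namespace Blk
variable (h : Blk p T E) {M : Type*} [AddCommGroup M]
include h

omit h hp [Finite G] in
theorem im_elem' (s : Sect M (WE p E) (ZW p E)) (hX : X ≤ N(E)) (h₁ : ⁅X, X⁆ ≤ C(WE p E))
    (h₂ : ∀ x ∈ X, x ^ p ∈ C(WE p E)) : IsElementaryAbelian p (s.im X) :=
  have n := hX.trans (norm_NN p E)
  FFRep.elem_iff.2 ⟨fun r hr r' hr' => by
    obtain ⟨x, hx, rfl⟩ := (s.mem_im' n).1 hr
    obtain ⟨y, hy, rfl⟩ := (s.mem_im' n).1 hr'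
    rw [← commutatorElement_eq_one_iff_mul_comm, ← s.θ_comm (n hx) (n hy)]
    exact s.θ_of_cent (h₁ (commutator_mem_commutator hx hy)), fun r hr => by
    obtain ⟨x, hx, rfl⟩ := (s.mem_im' n).1 hr
    rw [← s.θ_pow (n hx)]
    exact s.θ_of_cent (h₂ x hx)⟩

theorem cent_of_θ_eq (s : Sect M (WE p E) (ZW p E)) (hx : x ∈ N(E)) (hy : y ∈ N(E)) (e : s.θ x = s.θ y) :
    x⁻¹ * y ∈ (C(WE p E) : Subgroup G) :=
  ((h.inf_rel le_rfl).le (mem_inf.2 ⟨mul_mem (inv_mem hx) hy, (s.θ_eq_iff (norm_NN p E hx) (norm_NN p E hy)).1 e⟩)).2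

theorem fix_of_im (s : Sect M (WE p E) (ZW p E)) (hX : X ≤ N(E)) (hx : x ∈ N(E)) (e : s.θ x ∈ s.im X)
    (hw : w ∈ WE p E ⊓ C(X)) : ⁅w, x⁆ = 1 := by
  obtain ⟨y, hy, e'⟩ := (s.mem_im' (hX.trans (norm_NN p E))).1 e
  rw [← mul_inv_cancel_left y x, comm_mul_right, comm_eq_one_of_cent' hw.2 hy,
    comm_eq_one_of_cent (h.cent_of_θ_eq s (hX hy) hx e') hw.1, mul_one, mul_inv_cancel, mul_one]

/-- An offender normalizing a block is not an over-offender. -/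
theorem not_over (hX : X ≤ N(E)) (h₁ : ⁅X, X⁆ ≤ C(WE p E)) (h₂ : ∀ x ∈ X, x ^ p ∈ C(WE p E)) :
    Nat.card X * Nat.card ↥(WE p E ⊓ C(X)) ≤ Nat.card ↥(X ⊓ C(WE p E)) * Nat.card (WE p E) := by
  obtain ⟨M, _, R, m, ⟨a⟩⟩ := h.model
  haveI := m.fin
  have k₁ := m.k1 _ (a.im_norm hX) (im_elem' a.toSect hX h₁ h₂)
  have l₁ : WE p E ⊓ C(X) ≤ a.pre (fixM (a.im X)) := fun w hw =>
    ⟨hw.1, a.img_cent_le (hX.trans (norm_NN p E)) (a.ψ_mem_img hw hw.1)⟩
  have l₂ := Subgroup.card_le_of_le l₁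
  rw [a.card_pre] at l₂
  rw [h.card_eq_im a.toSect hX, a.card_U]
  calc _ ≤ Nat.card (a.im X) * Nat.card ↥(X ⊓ C(WE p E)) * (Nat.card (fixM (a.im X)) * Nat.card (ZW p E)) :=
        Nat.mul_le_mul_left _ l₂
    _ = Nat.card ↥(X ⊓ C(WE p E)) * (Nat.card (a.im X) * Nat.card (fixM (a.im X)) * Nat.card (ZW p E)) := by ring
    _ ≤ _ := by gcongr

theorem norm_of_off (hT : IsSylowIn p T ⊤) (hG : C(pCore p G) ≤ pCore p G)
    (cj : ∀ x ∈ A, ∀ y ∈ A, E ^ᶜ x = E ^ᶜ y ∨ ⁅E ^ᶜ x, E ^ᶜ y⁆ = ⊥) (hc : ⁅A, A⁆ ≤ C(VG p G))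
    (hpow : ∀ x ∈ A, x ^ p ∈ C(VG p G))
    (h₁ : Nat.card ↥(A ⊓ C(nclIn (WE p E) A)) * Nat.card (nclIn (WE p E) A) ≤
      Nat.card A * Nat.card ↥(nclIn (WE p E) A ⊓ C(A))) : A ≤ N(E) := by
  classical
  by_contra hn
  obtain ⟨a, ha, ha'⟩ := SetLike.not_le_iff_exists.1 hn
  obtain ⟨M, _, R, m, ⟨s⟩⟩ := h.model
  haveI := m.fin
  let _ := Fintype.ofFinite A
  let O : Finset (Subgroup G) := Finset.univ.image fun x : A => E ^ᶜ (x : G)
  have hO : ∀ X, X ∈ O ↔ ∃ x ∈ A, E ^ᶜ x = X := fun X => by simp [O]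
  have CV : (C(VG p G) : Subgroup G) ≤ C(WE p E) := centralizer_anti (h.WE_le_V hT hG)
  have h₄ : Nat.card ↥(A ⊓ N(E) ⊓ C(WE p E)) ≤ Nat.card ↥(A ⊓ C(nclIn (WE p E) A)) :=
    card_le_of_le ((inf_le_inf_right _ inf_le_left).trans (le_inf inf_le_left
      (le_centralizer_iff.1 (nclIn_le (le_centralizer_iff.1 inf_le_right) (le_normalizer_centralizer
        (le_normalizer_of_commutator_le (le_inf ((commutator_mono inf_le_left le_rfl).trans (commutator_le_self A))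
          ((commutator_mono inf_le_left le_rfl).trans (hc.trans CV)))))))))
  have hl : ∀ x ∈ A, WE p E ^ᶜ x ≤ nclIn (WE p E) A := fun x hx => conj_le_nclIn _ hx
  have hl' : nclIn (WE p E) A ≤ WE p E ⊔ C(E) := nclIn_le_iff.2 fun x hx => by
    rw [conj_WE]
    rcases cj x hx 1 (one_mem _) with e | e
    · rw [e, conj_one]; exact le_sup_left
    · rw [conj_one] at e
      exact (WE_le_E p _).trans ((cent_of_comm_bot' e).trans le_sup_right)
  generalize nclIn (WE p E) A = Y at h₁ h₄ hl hl'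
  have h₂ : Nat.card A ≤ Nat.card ↥(A ⊓ N(E)) * O.card := by
    rw [← Nat.card_eq_finsetCard]
    exact card_le_of_fiber (fun x : A => (⟨E ^ᶜ (x : G), (hO _).2 ⟨x, x.2, rfl⟩⟩ : O)) fun x y e =>
      mem_normalizer_iff_conj_eq.2 (by rw [← conj_conj, ← Subtype.mk.inj e, conj_conj_inv])
  have h₃ := h.card_eq_im s.toSect (inf_le_right : A ⊓ N(E) ≤ _)
  have h₅ := m.k1 (s.im (A ⊓ N(E))) (s.im_norm inf_le_right) (im_elem' s.toSect inf_le_right
    ((commutator_mono inf_le_left inf_le_left).trans (hc.trans CV)) fun x hx => CV (hpow x hx.1))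
  have h₆ := pow_le_relIndex (Y := Y) (m := Nat.card M) O (WE p) (fun X => (C(X) : Subgroup G))
    (fun X hX => by
      obtain ⟨x, hx, rfl⟩ := (hO X).1 hX
      exact (conj_WE p E x).ge.trans (hl x hx))
    (fun X hX X' hX' ne => by
      obtain ⟨x, hx, rfl⟩ := (hO X).1 hX
      obtain ⟨x', hx', rfl⟩ := (hO X').1 hX'
      exact (WE_le_E p _).trans (cent_of_comm_bot' ((cj x hx x' hx').resolve_left ne)))
    (fun X hX => by
      obtain ⟨x, -, rfl⟩ := (hO X).1 hX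
      exact (relIndex_W s.toSect x).ge)
  have hW : ∀ y : ↥(Y ⊓ C(A)), ∃ w ∈ WE p E, w⁻¹ * y ∈ (C(E) : Subgroup G) := fun y => by
    obtain ⟨w, hw, c, hc, e⟩ := (mem_sup_iff_of_le_normalizer ((WE_le_E p E).trans
      (le_normalizer_centralizer le_normalizer))).1 (hl' y.2.1)
    exact ⟨w, hw, by rwa [← e, inv_mul_cancel_left]⟩
  choose w hw hw' using hW
  have h₇ : Nat.card ↥(Y ⊓ C(A)) ≤ Nat.card ↥(Y ⊓ C(A) ⊓ ⨅ X ∈ O, (C(X) : Subgroup G)) * Nat.card (fixM (s.im (A ⊓ N(E)))) :=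
    card_le_of_fiber (fun y => (⟨s.ψ (w y), (s.mem_fix_iff (inf_le_right.trans (norm_NN p E)) (hw y)).2 fun x hx =>
      ⟨comm_mem_of_norm (norm_WE p E hx.2) (hw y), by
        have e := comm_eq_one_of_cent' y.2.2 hx.1
        rw [← mul_inv_cancel_left (w y) y, comm_mul_left, mul_eq_one_iff_inv_eq] at e
        rw [← e]
        exact Subgroup.inv_mem _ (conj_mem_of_norm (le_normalizer_centralizer le_normalizer (WE_le_E p E (hw y)))
          (comm_mem_of_norm (le_normalizer_centralizer le_rfl hx.2) (hw' y)))⟩⟩ : fixM (s.im (A ⊓ N(E))))) fun y y' e => by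
      have e₁ := ((s.eq_iff (hw y) (hw y')).1 (Subtype.mk.inj e)).2
      have e₂ : (y : G)⁻¹ * y' ∈ (C(E) : Subgroup G) := by
        have := mul_mem (mul_mem (inv_mem (hw' y)) e₁) (hw' y')
        simpa [mul_assoc] using this
      refine mem_iInf.2 fun X => mem_iInf.2 fun hX => ?_
      obtain ⟨x, hx, rfl⟩ := (hO X).1 hX
      rw [← conj_centralizer, ← conj_eq_of_cent' (mul_mem (inv_mem y.2) y'.2).2 hx]
      exact conj_mem_conj x e₂
  have h₈ : Nat.card ↥(Y ⊓ C(A) ⊓ ⨅ X ∈ O, (C(X) : Subgroup G)) ≤ Nat.card ↥((⨅ X ∈ O, (C(X) : Subgroup G)) ⊓ Y) :=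
    card_le_of_le (le_inf inf_le_right (inf_le_left.trans inf_le_left))
  have h₉ := card_inf_mul_relIndex (⨅ X ∈ O, (C(X) : Subgroup G)) Y
  have two : 2 ≤ O.card := Finset.one_lt_card.2 ⟨_, (hO _).2 ⟨a, ha, rfl⟩, _, (hO _).2 ⟨1, one_mem _, conj_one E⟩,
    fun e => ha' (mem_normalizer_iff_conj_eq.2 e)⟩
  have four : 4 ≤ Nat.card M := le_trans (Nat.pow_le_pow_left hp.out.two_le 2) m.sq
  exact arith_off four two Nat.card_pos Nat.card_pos h₁ h₂ h₃ h₄ h₅ h₆ h₇ h₈ h₉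

end Blk

open FFRep EMod SL2Amb MinParFF in
/-- A minimal parabolic has no over-offenders. -/
theorem noOver (hT : IsSylowIn p T P) (hm : MinOver T M₁ P) (hV : IsElementaryAbelian p V) (hP : P ≤ N(V))
    (hQ : pCoreOf p P ≤ C(V)) (hL : ¬ pResidualOf p P ≤ C(V)) (hA : A ≤ P) (h₁ : ⁅A, A⁆ ≤ C(V))
    (h₂ : ∀ a ∈ A, a ^ p ∈ C(V)) : Nat.card A * Nat.card ↥(V ⊓ C(A)) ≤ Nat.card ↥(A ⊓ C(V)) * Nat.card V := by
  by_contra! hn
  let ρ := arep hV P.subtype fun x => hP x.2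
  let φ := QuotientGroup.mk' (cent ρ ⊤)
  have hφ : Function.Surjective φ := QuotientGroup.mk'_surjective _
  have hK : cent ρ ⊤ = (C(V) : Subgroup G).subgroupOf P := cent_arep_top
  have hK' : φ.ker = (C(V) : Subgroup G).subgroupOf P := (QuotientGroup.ker_mk' _).trans hK
  have CM : P ⊓ C(V) ≤ M₁ := (PMinimal.MinOver.pResidualOf_le_or hm hT.isPGroup inf_le_left (hT.le.trans
    (le_normalizer_inf le_normalizer (le_normalizer_centralizer hP)))).resolve_left fun e => hL (e.trans inf_le_right)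
  have syl : IsSylowIn p ((T.subgroupOf P).map φ) ⊤ := (subgroupOf_self P ▸ hT.subgroupOf le_rfl :).map_mk' _
  have min : MinOver ((T.subgroupOf P).map φ) ((M₁.subgroupOf P).map φ) ⊤ := by
    simpa only [map_top_of_surjective φ hφ] using hm.subgroupOf.map_of_ker φ fun x hx =>
      CM (mem_inf.2 ⟨x.2, hK'.le hx.2⟩)
  have core : pCore p (P ⧸ cent ρ ⊤) = ⊥ := (pCore_quotient_eq_bot_iff _).mpr fun N hN' k => by
    rw [hK] at k ⊢
    exact map_le_iff_le_comap.1 (((hm.pIrrIn hT.isPGroup).redOn hP hL hQ).le_centralizer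
      (SubnormalIn.of_normal (map_subtype_le N) (le_normalizer_map_subtype N)) (by
        rintro _ ⟨x, hx, rfl⟩
        exact k x hx))
  have el : IsElementaryAbelian p ((A.subgroupOf P).map φ) := elem_iff.2 ⟨by
    rintro _ ⟨x, hx, rfl⟩ _ ⟨y, hy, rfl⟩
    rw [← commutatorElement_eq_one_iff_mul_comm, ← map_commutatorElement]
    exact hK'.ge (h₁ (commutator_mem_commutator hx hy)), by
    rintro _ ⟨x, hx, rfl⟩
    rw [← map_pow]
    exact hK'.ge (h₂ x hx)⟩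
  have ov : Nat.card (EM hV) < ms (quo ρ) ⊤ ((A.subgroupOf P).map φ) := by
    have e := card_eq_card_map_mul φ (A.subgroupOf P)
    rw [hK', show A.subgroupOf P ⊓ (C(V) : Subgroup G).subgroupOf P = (A ⊓ C(V)).subgroupOf P from rfl,
      Nat.card_congr (subgroupOfEquivOfLe hA).toEquiv,
      Nat.card_congr (subgroupOfEquivOfLe (inf_le_left.trans hA)).toEquiv] at e
    rw [e, mul_comm, mul_right_comm] at hn
    rw [ms_top, fix_quo, card_fix, card_em, map_subgroupOf_eq_of_le hA]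
    exact Nat.lt_of_mul_lt_mul_right hn
  obtain ⟨B, -, hB, -⟩ := exists_minOff el (fun e => by rw [e, ms_bot, card_top_submodule] at ov; exact ov.ne rfl) ov.le
  have c : Ctx (quo ρ) _ _ := ⟨cent_quo ρ, syl, min, core, min.max _ (le_cent_fix _) (lt_top_iff_ne_top.2 fun e =>
    MinParOff.not_fix_le (cent_quo ρ) syl min core hB (le_fix_iff.2 e.ge))⟩
  exact (c.base.noOver _ el).not_gt ov

/-- The minimal counterexample. -/
structure MC (p : ℕ) (T M₀ : Subgroup G) : Prop extends CM p T M₀ where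
  ne : M₀ ≠ ⊤
  no : ∀ E, SB p E → E ≤ M₀
  ind : ∀ H, T ≤ H → H ≠ ⊤ → Ind p T M₀ H

/-- The blocks outside `M₀` which are subnormal in a proper overgroup of `T`. -/
def EE (p : ℕ) (T M₀ : Subgroup G) : Set (Subgroup G) := {E | ∃ H, T ≤ H ∧ H ≠ ⊤ ∧ E ∈ Bs p T M₀ H}

omit hp [Finite G] in
theorem EE.blk (s : E ∈ EE p T M₀) : Blk p T E := let ⟨_, _, _, k⟩ := s; k.1.blk

omit hp [Finite G] in
theorem EE.notM (s : E ∈ EE p T M₀) : ¬ E ≤ M₀ := let ⟨_, _, _, k⟩ := s; k.2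

namespace MC
variable (h : MC p T M₀)
include h

theorem exists_EE : ∃ E, E ∈ EE p T M₀ := by
  by_contra! hn
  have m : MinOver T M₀ ⊤ := PMinimal.minOver_of_max h.syl (fun e => h.ne (top_le_iff.1 (e.trans h.NT_le)))
    (lt_top_iff_ne_top.2 h.ne) h.T_le fun K h₁ h₂ => by
      by_contra k
      obtain ⟨E, s⟩ := h.ind K h₁ h₂.ne K h₁ le_rfl k
      exact hn E ⟨K, h₁, h₂.ne, s⟩
  obtain ⟨E, s⟩ := MP.exists_fb ⟨h.hG, h.syl, m, h.hd, h.hz⟩
  exact (s 1 (one_mem _)).notM (h.no _ (s 1 (one_mem _)).sb)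

theorem U_le_T (s : E ∈ EE p T M₀) : pCoreOf p E ≤ T := let ⟨_, l, _, k⟩ := s; h.toCM.U_le_T l k.1

theorem cj (s : E ∈ EE p T M₀) (hx : x ∈ T) (hy : y ∈ T) : E ^ᶜ x = E ^ᶜ y ∨ ⁅E ^ᶜ x, E ^ᶜ y⁆ = ⊥ :=
  let ⟨_, l, _, k⟩ := s
  h.eq_or_comm l (h.conj l k.1 (l hx)) (h.conj l k.1 (l hy))

theorem cj' (s : E ∈ EE p T M₀) (hx : x ∈ T) (hn : x ∉ N(E)) : E ^ᶜ x ≤ C(E) := by
  have := h.cj s hx (one_mem T)
  rw [conj_one] at this
  exact cent_of_comm_bot' (this.resolve_left fun e => hn (mem_normalizer_iff_conj_eq.2 e))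

theorem conj_EE (s : E ∈ EE p T M₀) (hg : g ∈ N(T)) : E ^ᶜ g ∈ EE p T M₀ :=
  let ⟨H, l, n, k⟩ := s
  have e := conj_eq_of_mem_normalizer hg
  ⟨H ^ᶜ g, e ▸ conj_mono g l, fun e' => n (conj_eq_top_iff.1 e'), ⟨e ▸ k.1.blk.conj g, k.1.sub.conj g⟩,
    fun e' => k.2 ((conj_le_iff_le_conj_inv.1 e').trans (conj_eq_of_mem (inv_mem (h.NT_le hg))).le)⟩

theorem normal_cases (hK : ⊤[G] ≤ N(K)) : K ≤ M₀ ∨ K ⊔ T = ⊤ := by
  by_contra! k
  obtain ⟨E, s, hE⟩ := h.ind _ le_sup_right k.2 _ le_sup_right le_rfl fun e => k.1 (le_sup_left.trans e)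
  exact hE (h.no E ((s.up h.pT (le_top.trans hK) (SubnormalIn.of_normal le_top hK)).top h.syl))

theorem le_Q (b : Blk p T E) (hM : ¬ E ≤ M₀) (hK : ⊤[G] ≤ N(K)) (hc : K ≤ C(WE p E)) : K ≤ pCore p G := by
  have k₁ := b.cent_res h.syl h.hG (hc.trans (b.cent_le_norm h.syl h.hG)) hc
  have n := le_normalizer_centralizer (le_normalizer_pResidualOf_of (p := p) hK)
  have k₂ := (h.normal_cases n).resolve_left fun e => hM ((le_centralizer_iff.1 k₁).trans e)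
  have k₃ : pResidualOf p K ≤ C(pResidualOf p K) :=
    (pResidualOf_mono (le_top.trans k₂.ge)).trans (pResidualOf_sup_le h.pT (le_top.trans n))
  refine le_pCore (normal_iff_top_le.2 hK) (pResidualOf_eq_bot_iff.1 (eq_bot_iff.2 (pResidualOf_le_iff.2 fun x hx ho => ?_)))
  have m := mem_pResidualOf hx ho
  obtain ⟨j, hj⟩ := isPGroup_iff_forall_mem.1 (pCore_isPGroup p G) x (h.hG (mem_centralizer_iff.2 fun q hq =>
    (commutatorElement_eq_one_iff_mul_comm.1 (cent_of_coprime_of_comm (P := pCore p G ⊓ pResidualOf p K)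
      ((pCore_isPGroup p G).to_le inf_le_left) ho ⟨comm_mem_swap (comm_mem_of_norm (nQ' p x) hq),
        comm_mem_of_norm (le_normalizer_pResidualOf_of hK (mem_top q)) m⟩
        (centralizer_anti inf_le_right (k₃ m)))).symm))
  exact eq_one_of_coprime_of_pow_eq_one ho hj

theorem CV_le_Q : (C(VG p G) : Subgroup G) ≤ pCore p G :=
  let ⟨_, s⟩ := h.exists_EE
  h.le_Q (EE.blk s) (EE.notM s) (le_normalizer_centralizer (nV p ⊤)) (centralizer_anti ((EE.blk s).WE_le_V h.syl h.hG))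

theorem bs_eq (l : T ≤ H) (n : H ≠ ⊤) (k : sSup (EE p T M₀) ≤ H) : sSup (Bs p T M₀ H) = sSup (EE p T M₀) :=
  le_antisymm (sSup_le_sSup fun _ s => ⟨H, l, n, s⟩) (sSup_le fun _ s =>
    let ⟨_, s', e⟩ := h.exists_bs l (h.ind H l n) (EE.blk s) ((le_sSup s).trans k) (EE.notM s)
    e.trans (le_sSup s'))

theorem norm_EE (l : T ≤ H) (n : H ≠ ⊤) (k : sSup (EE p T M₀) ≤ H) : H ≤ N((sSup (EE p T M₀) : Subgroup G)) :=
  h.bs_eq l n k ▸ h.norm_bs l

end MC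

end Cfsg.Agent.Lib.Blk
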