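import Cfsg.Agent.Lib.CgBase

/-! Sylow `2`-subgroups of symmetric groups of odd degree and their matchings. -/

set_option autoImplicit false
open Cfsg

namespace Cfsg.Agent.Lib.Blk

open Subgroup Cfsg.Agent.Lib.PCoreConj Cfsg.Agent.Lib.PCore Cfsg.Agent.Lib.PCoreResidual Cfsg.Agent.Lib.PCoreMod
open Cfsg.Agent.Lib.PushBase Equiv
open scoped Pointwise commutatorElement

variable {α : Type*} [DecidableEq α] {P D S : Subgroup (Perm α)} {x y z a b c d : α} {σ τ π g : Perm α}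

omit [DecidableEq α] in
theorem app_inv (σ : Perm α) (x : α) : σ (σ⁻¹ x) = x := σ.apply_symm_apply x

omit [DecidableEq α] in
theorem inv_app (σ : Perm α) (x : α) : σ⁻¹ (σ x) = x := σ.symm_apply_apply x

theorem swap_comm_of (h₁ : a ≠ c) (h₂ : a ≠ d) (h₃ : b ≠ c) (h₄ : b ≠ d) : swap a b * swap c d = swap c d * swap a b := by
  have := swap_apply_apply (swap c d) a b
  rw [swap_apply_of_ne_of_ne h₁ h₂, swap_apply_of_ne_of_ne h₃ h₄] at this
  exact eq_mul_inv_iff_mul_eq.1 this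

theorem swap_conj_mem (hg : g ∈ D) (h : swap a b ∈ D) : swap (g a) (g b) ∈ D :=
  swap_apply_apply g a b ▸ mul_mem (mul_mem hg h) (inv_mem hg)

theorem pgroup_zp {H : Type*} [Group H] {t : H} (h : t * t = 1) : IsPGroup 2 (zpowers t) :=
  isPGroup_zpowers (k := 1) (by rw [pow_one, pow_two, h])

/-- The permutations moving points only along transpositions of `P`. -/
def D0 (P : Subgroup (Perm α)) : Subgroup (Perm α) where
  carrier := {σ | ∀ x, swap x (σ x) ∈ P}
  one_mem' x := by rw [Perm.one_apply, swap_self]; exact P.one_mem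
  mul_mem' {σ τ} h₁ h₂ x := SubmonoidClass.swap_mem_trans P (h₂ x) (h₁ _)
  inv_mem' {σ} h x := by
    have := h (σ⁻¹ x)
    rwa [app_inv, swap_comm] at this

omit [DecidableEq α] in
/-- The permutations preserving a set. -/
def pres (O : Set α) : Subgroup (Perm α) where
  carrier := {σ | ∀ x, σ x ∈ O ↔ x ∈ O}
  one_mem' _ := Iff.rfl
  mul_mem' {σ τ} h₁ h₂ x := (h₁ _).trans (h₂ x)
  inv_mem' {σ} h x := by rw [← h, app_inv]

theorem exists_exchange {O O' : Set α} (e : O ≃ O') (h : ∀ x ∈ O, x ∉ O') :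
    ∃ τ : Perm α, τ * τ = 1 ∧ (∀ x, τ x ∈ O ↔ x ∈ O') ∧ ∀ x, τ x ∈ O' ↔ x ∈ O := by
  classical
  let f : α → α := fun x => if k : x ∈ O then e ⟨x, k⟩ else if k : x ∈ O' then e.symm ⟨x, k⟩ else x
  have f₁ : ∀ x (k : x ∈ O), f x = e ⟨x, k⟩ := fun x k => dif_pos k
  have f₂ : ∀ x (k : x ∈ O'), f x = e.symm ⟨x, k⟩ := fun x k => (dif_neg fun k' => h x k' k).trans (dif_pos k)
  have f₃ : ∀ x, x ∉ O → x ∉ O' → f x = x := fun x k k' => (dif_neg k).trans (dif_neg k')
  have i : Function.Involutive f := fun x => by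
    by_cases k : x ∈ O
    · rw [f₁ x k, f₂ _ (e _).2, Subtype.coe_eta, e.symm_apply_apply]
    by_cases k' : x ∈ O'
    · rw [f₂ x k', f₁ _ (e.symm _).2, Subtype.coe_eta, e.apply_symm_apply]
    · rw [f₃ x k k', f₃ x k k']
  have g₁ : ∀ x ∈ O, f x ∈ O' := fun x k => f₁ x k ▸ (e _).2
  have g₂ : ∀ x ∈ O', f x ∈ O := fun x k => f₂ x k ▸ (e.symm _).2
  exact ⟨i.toPerm f, Equiv.ext i, fun x => ⟨fun k => i x ▸ g₁ _ k, g₂ x⟩, fun x => ⟨fun k => i x ▸ g₂ _ k, g₁ x⟩⟩

variable [Fintype α]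

theorem sylow_of_swap (hS : IsSylowIn 2 S (alternatingGroup α)) (h : S ≤ P) (hP : IsPGroup 2 P) (hab : a ≠ b)
    (hs : swap a b ∈ P) : IsSylowIn 2 P ⊤ := by
  obtain ⟨P', h₁, h₂⟩ := exists_isSylowIn_ge (le_top : P ≤ ⊤) hP
  have e := hS.eq_of_le (Q := P' ⊓ alternatingGroup α) inf_le_right (h₁.isPGroup.to_le inf_le_left)
    (le_inf (h.trans h₂) hS.le)
  refine le_antisymm (fun σ hσ => ?_) h₂ ▸ h₁
  by_cases k : σ ∈ alternatingGroup α
  · exact h (e.le ⟨hσ, k⟩)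
  · exact (mul_mem_cancel_right hs).1 (h (e.le ⟨mul_mem hσ (h₂ hs), mul_swap_mem hab k⟩))

theorem exists_partner (hP : IsSylowIn 2 P ⊤) (hz : ∀ σ ∈ P, σ z = z) (hx : x ≠ z) : ∃ y, y ≠ x ∧ swap x y ∈ P := by
  by_contra! hn
  refine hn z hx.symm (TIOffCls.le_of_cm hP (TIOffCls.self_mem_cls (zpowers (swap x z))) (pgroup_zp (swap_mul_self x z))
    ?_ (mem_zpowers _))
  rintro _ ⟨⟨g, rfl⟩, l⟩
  rw [conj_zpowers, ← swap_apply_apply] at l ⊢
  have m := l (mem_zpowers _)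
  have k : g x ≠ g z := fun e => hx (g.injective e)
  have e := hz _ m
  refine TIOffTwo.Tv.cm_zpowers_iff.2 (swap_comm_of (fun e' => hn (g z) (e' ▸ k.symm) (e' ▸ m))
    (fun e' => hn (g x) (e' ▸ k) (swap_comm x (g x) ▸ e' ▸ m)) (fun e' => k ?_) fun e' => k ?_)
  · rw [← e', swap_apply_left] at e; rw [← e', e]
  · rw [← e', swap_apply_right] at e; rw [← e', e]

/-- The matching defined by the transpositions in a Sylow `2`-subgroup. -/
structure Mt (P : Subgroup (Perm α)) (z : α) (π : α → α) : Prop where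
  syl : IsSylowIn 2 P ⊤
  fix : ∀ σ ∈ P, σ z = z
  mem : ∀ x, swap x (π x) ∈ P
  ne : ∀ x, x ≠ z → π x ≠ x

theorem exists_mt (hP : IsSylowIn 2 P ⊤) (hz : ∀ σ ∈ P, σ z = z) : ∃ π, Mt P z π := by
  have : ∀ x, ∃ y, swap x y ∈ P ∧ (x ≠ z → y ≠ x) := fun x => (eq_or_ne x z).elim
    (fun e => ⟨x, by rw [swap_self]; exact P.one_mem, fun k => absurd e k⟩) fun e =>
      let ⟨y, h₁, h₂⟩ := exists_partner hP hz e; ⟨y, h₂, fun _ => h₁⟩
  choose π h₁ h₂ using this
  exact ⟨π, hP, hz, h₁, h₂⟩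

namespace Mt
variable {π : α → α} (h : Mt P z π)
include h

theorem uniq (k : swap x y ∈ P) : y = x ∨ y = π x := or_iff_not_imp_left.2 fun e =>
  swap_pair h.syl.isPGroup (h.ne x fun e' => e (by rw [e'] at k ⊢; simpa using h.fix _ k)).symm (Ne.symm e) (h.mem x) k

theorem inv (x : α) : π (π x) = x :=
  (h.uniq (swap_comm x (π x) ▸ h.mem x)).elim (fun e => by rw [← e, ← e]) Eq.symm

theorem πz : π z = z := by simpa using h.fix _ (h.mem z)

theorem ne_z (hx : x ≠ z) : π x ≠ z := fun e => hx (by rw [← h.inv x, e, h.πz])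

theorem eq_π (e : x = π y) : y = π x := by rw [e, h.inv]

theorem apply_ne (hg : g ∈ P) (hx : x ≠ z) : g x ≠ z := fun e => hx (g.injective (e.trans (h.fix g hg).symm))

theorem comm (hg : g ∈ P) (x : α) : g (π x) = π (g x) := (h.uniq (swap_conj_mem hg (h.mem x))).elim
  (fun e => by
    obtain rfl : x = z := by_contra fun k => h.ne x k (g.injective e)
    rw [e, h.fix g hg, h.πz]) id

theorem mem_D0 : σ ∈ D0 P ↔ ∀ x, σ x = x ∨ σ x = π x :=
  forall_congr' fun x => ⟨h.uniq, fun k => k.elim (fun e => by rw [e, swap_self]; exact P.one_mem) fun e => e ▸ h.mem x⟩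

theorem D0_pgroup : IsPGroup 2 (D0 P) := isPGroup_iff_forall_mem.2 fun σ hσ => ⟨1, Equiv.ext fun x => by
  rw [pow_one, pow_two, Perm.mul_apply, Perm.one_apply]
  rcases h.mem_D0.1 hσ x with e | e
  · rw [e, e]
  · rcases h.mem_D0.1 hσ (π x) with e' | e'
    · rw [e, e', σ.injective (e'.trans e.symm)]
    · rw [e, e', h.inv]⟩

theorem norm_D0 (k : ∀ x, τ (π x) = π (τ x)) : τ ∈ (N(D0 P) : Subgroup _) :=
  mem_normalizer_of_conj_le (conj_le_iff.2 fun σ hσ => h.mem_D0.2 fun x => (h.mem_D0.1 hσ (τ⁻¹ x)).imp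
    (fun e => by rw [Perm.mul_apply, Perm.mul_apply, e, app_inv]) fun e => by
      rw [Perm.mul_apply, Perm.mul_apply, e, k, app_inv])

theorem D0_le : D0 P ≤ P := h.syl.le_of_le_normalizer' le_top h.D0_pgroup fun _ hg => h.norm_D0 (h.comm hg)

theorem swap_mem (x : α) : swap x (π x) ∈ D0 P := h.mem_D0.2 fun y => by
  rcases eq_or_ne y x with rfl | e
  · exact .inr (swap_apply_left _ _)
  rcases eq_or_ne y (π x) with rfl | e'
  · exact .inr (by rw [swap_apply_right, h.inv])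
  · exact .inl (swap_apply_of_ne_of_ne e e')

theorem exists_kappa (hx : x ≠ z) (hy : y ≠ z) (h₂ : y ≠ π x) : ∃ κ : Perm α, κ ∈ (N(D0 P) : Subgroup _) ∧ κ * κ = 1 ∧
    κ x = y ∧ ∀ a, a ≠ x → a ≠ y → a ≠ π x → a ≠ π y → κ a = a := by
  have c := swap_comm_of (h.ne x hx).symm (fun e => h₂ (h.eq_π e)) h₂ (h.ne y hy).symm
  let π' := Function.Involutive.toPerm π h.inv
  have e : π' * (swap x y * swap (π x) (π y)) * π'⁻¹ = swap x y * swap (π x) (π y) := by
    have e₁ : swap (π x) (π y) = π' * swap x y * π'⁻¹ := swap_apply_apply π' x y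
    have e₂ := swap_apply_apply π' (π x) (π y)
    change swap (π (π x)) (π (π y)) = _ at e₂
    rw [h.inv, h.inv] at e₂
    calc _ = π' * swap x y * π'⁻¹ * (π' * swap (π x) (π y) * π'⁻¹) := by group
      _ = _ := by rw [← e₁, ← e₂, c]
  refine ⟨swap x y * swap (π x) (π y), h.norm_D0 fun a => (congrArg (fun σ : Perm α => σ a)
    (mul_inv_eq_iff_eq_mul.1 e)).symm, ?_, ?_, fun a k₁ k₂ k₃ k₄ => ?_⟩
  · calc _ = swap x y * (swap (π x) (π y) * swap x y) * swap (π x) (π y) := by group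
      _ = 1 := by rw [← c, ← mul_assoc, swap_mul_self, one_mul, swap_mul_self]
  · rw [Perm.mul_apply, swap_apply_of_ne_of_ne (h.ne x hx).symm fun e => h₂ (h.eq_π e), swap_apply_left]
  · rw [Perm.mul_apply, swap_apply_of_ne_of_ne k₃ k₄, swap_apply_of_ne_of_ne k₁ k₂]

theorem stab_le (hD : P ≤ D) (h₁ : (N(D0 P) : Subgroup _) ≤ D) (h₂ : ∀ a, ∀ g ∈ P, swap a (g a) ∈ D) (hσ : σ z = z) :
    σ ∈ D := by
  refine mem_of_swaps (fun x => x ≠ z) (fun x y hx hy => ?_) σ fun x hx e => hx (e ▸ hσ)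
  by_cases k : y = x ∨ y = π x
  · exact hD (k.elim (fun e => by rw [e, swap_self]; exact P.one_mem) fun e => e ▸ h.mem x)
  obtain ⟨g, hg, a, k₁, k₂⟩ : ∃ g ∈ P, ∃ a, g a ≠ a ∧ g a ≠ π a := by
    by_contra! hn
    have e := le_antisymm (fun g hg => h.mem_D0.2 fun a => or_iff_not_imp_left.2 (hn g hg a)) h.D0_le
    obtain ⟨κ, h₁, h₂, h₃, -⟩ := h.exists_kappa hx hy (not_or.1 k).2
    exact k (h₃ ▸ h.mem_D0.1 (e.le (h.syl.le_of_le_normalizer le_top (pgroup_zp h₂) (zpowers_le_of_mem (e ▸ h₁))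
      (mem_zpowers κ))) x)
  have ha : a ≠ z := fun e => k₁ (e ▸ h.fix g hg)
  have key : ∀ e, e ≠ z → swap a e ∈ D := fun e he => by
    rcases eq_or_ne e a with rfl | e₁
    · rw [swap_self]; exact D.one_mem
    rcases eq_or_ne e (π a) with rfl | e₂
    · exact hD (h.mem a)
    rcases eq_or_ne e (g a) with rfl | e₃
    · exact h₂ a g hg
    rcases eq_or_ne e (π (g a)) with rfl | e₄
    · exact SubmonoidClass.swap_mem_trans D (h₂ a g hg) (hD (h.mem _))
    obtain ⟨κ, m, -, h₃, h₄⟩ := h.exists_kappa (h.apply_ne hg ha) he e₄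
    have := swap_conj_mem (h₁ m) (h₂ a g hg)
    rwa [h₃, h₄ a k₁.symm e₁.symm (fun e => k₂ (h.eq_π e)) fun e => e₂ (h.eq_π e)] at this
  exact SubmonoidClass.swap_mem_trans D (swap_comm a x ▸ key x hx) (key y hy)

theorem card_pair (hx : x ≠ z) : Nat.card ↥(P ⊓ (stabM (pr x (π x))).comap toP) =
    Nat.card ↥(P ⊓ MulAction.stabilizer (Perm α) x) * 2 := by
  have n := (h.ne x hx).symm
  have := card_sup_mul_card_inf (H := P ⊓ MulAction.stabilizer (Perm α) x) (N := zpowers (swap x (π x)))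
    (le_normalizer_of_le_centralizer fun g hg => mem_cent_zp.2 (by
      rw [← mul_inv_eq_iff_eq_mul, ← swap_apply_apply, h.comm hg.1, show g x = x from hg.2]))
  rw [Nat.card_zpowers, (Perm.IsSwap.orderOf ⟨_, _, n, rfl⟩ :), show P ⊓ MulAction.stabilizer (Perm α) x ⊓
    zpowers (swap x (π x)) = ⊥ from le_bot_iff.1 fun g hg => (eq_or_of_zpowers (swap_mul_self _ _) hg.2).resolve_right
      fun e => n ((show g x = x from hg.1.2).symm.trans (by rw [e, swap_apply_left])), card_bot, mul_one] at this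
  rw [← this]
  refine congrArg (fun X : Subgroup (Perm α) => Nat.card X) (le_antisymm (fun g hg => ?_) (sup_le (fun g hg => ⟨hg.1, ?_⟩)
    (zpowers_le_of_mem ⟨h.mem x, ?_⟩)))
  · have e : pr (g x) (g (π x)) = pr x (π x) := (toP_pr g _ _).symm.trans hg.2
    rcases (pair_of_pr (fun k => n (g.injective k)) e).1 with k | k
    · exact mem_sup_left ⟨hg.1, k⟩
    · refine (mul_mem_cancel_left (mem_sup_right (mem_zpowers _))).1 (mem_sup_left ⟨mul_mem (h.mem x) hg.1, ?_⟩)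
      change swap x (π x) (g x) = x
      rw [k, swap_apply_right]
  · change toP g _ = _
    rw [toP_pr, h.comm hg.1, show g x = x from hg.2]
  · change toP _ _ = _
    rw [toP_pr, swap_apply_left, swap_apply_right, pr_comm]

theorem card_eq (h3 : 3 ≤ Fintype.card α) (k : ∀ x y, x ≠ z → y ≠ z →
    Nat.card ↥(P ⊓ (stabM (pr x (π x))).comap toP) = Nat.card ↥(P ⊓ (stabM (pr y (π y))).comap toP)) :
    ∃ n, Fintype.card α = 2 * 2 ^ n + 1 := by
  obtain ⟨x, hx, -⟩ := exists_third' h3 z z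
  have c : ∀ x : α, (MulAction.orbit P x).ncard * Nat.card ↥(P ⊓ MulAction.stabilizer (Perm α) x) = Nat.card P := fun x => by
    rw [← MulAction.index_stabilizer, ← Nat.card_congr (subgroupOfEquivOfLe (inf_le_left :
      P ⊓ MulAction.stabilizer (Perm α) x ≤ P)).toEquiv, show (P ⊓ MulAction.stabilizer (Perm α) x).subgroupOf P =
        MulAction.stabilizer P x from Subgroup.ext fun g => ⟨fun k => k.2, fun k => ⟨g.2, k⟩⟩]
    exact index_mul_card _
  have pr : ∀ x : α, P ≤ pres (MulAction.orbit P x) := fun x g hg y =>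
    ⟨fun k => inv_app g y ▸ MulAction.mapsTo_smul_orbit (⟨g, hg⟩ : P)⁻¹ x k,
      fun k => MulAction.mapsTo_smul_orbit (⟨g, hg⟩ : P) x k⟩
  have e : MulAction.orbit P x = {z}ᶜ := Set.ext fun y => ⟨fun ⟨g, e⟩ => e ▸ h.apply_ne g.2 hx, fun hy => by
    by_contra hn
    have e₁ := k x y hx hy
    rw [h.card_pair hx, h.card_pair hy, mul_left_inj' two_ne_zero] at e₁
    have e₂ := (c x).trans (c y).symm
    rw [e₁, mul_left_inj' Nat.card_pos.ne'] at e₂
    obtain ⟨τ, h₁, h₂, h₃⟩ := exists_exchange ((Finite.card_eq (α := MulAction.orbit P x) (β := MulAction.orbit P y)).1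
      e₂).some fun a k₁ k₂ => hn (MulAction.orbit_eq_iff.1 ((MulAction.orbit_eq_iff.2 k₂).symm.trans
        (MulAction.orbit_eq_iff.2 k₁)))
    have n : zpowers τ ≤ N(pres (MulAction.orbit P x) ⊓ pres (MulAction.orbit P y)) := zpowers_le_of_mem
      (mem_normalizer_of_conj_le (conj_le_iff.2 fun σ hσ => ⟨fun a => by
        rw [Perm.mul_apply, Perm.mul_apply, h₂, hσ.2, ← h₂, app_inv], fun a => by
        rw [Perm.mul_apply, Perm.mul_apply, h₃, hσ.1, ← h₃, app_inv]⟩))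
    have l := le_inf (pr x) (pr y)
    have := (pResidualOf_sup_of_isSylowIn (h.syl.of_le (l.trans le_sup_left) le_top)).ge.trans
      (sup_le (pResidualOf_sup_le (pgroup_zp h₁) n) l) (mem_sup_right (mem_zpowers τ))
    exact hn ((h₃ y).1 ((this.2 y).2 (MulAction.mem_orbit_self y)))⟩
  obtain ⟨n, hn⟩ := h.syl.isPGroup.card_orbit x
  have := Set.ncard_compl_add_ncard ({z} : Set α)
  rw [← e, Set.ncard_singleton, ← Nat.card_coe_set_eq, hn, Nat.card_eq_fintype_card] at this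
  rcases n with _ | n
  · omega
  · exact ⟨n, by rw [← this, pow_succ']⟩

end Mt

end Cfsg.Agent.Lib.Blk
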