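import Cfsg.Agent.Lib.MinParOff

/-! Opposite offenders of order greater than two generate a subnormal subgroup. -/

set_option autoImplicit false

namespace Cfsg.Agent.Lib.CgRep

open Cfsg Cfsg.Agent.Lib.PCoreConj Cfsg.Agent.Lib.PCore Cfsg.Agent.Lib.FFRep Cfsg.Agent.Lib.SL2Mod
  Cfsg.Agent.Lib.TIOff Cfsg.Agent.Lib.TIOffCls Cfsg.Agent.Lib.TIOffQ Subgroup
open scoped commutatorElement

variable {G : Type*} [Group G] {p : ℕ} [hp : Fact p.Prime] {V : Type*} [AddCommGroup V] [Module (ZMod p) V]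
variable {ρ : Representation (ZMod p) G V} {A A' B C D T M S Y : Subgroup G} {q q' : ℕ} {g : G}
variable [Finite G] [Finite V]

theorem cm_of_com_le' (hb : Base ρ) (hD : TI ρ q' D) (hB : TI ρ q B) (hq : q' ≤ q) (h : com ρ ⊤ D ≤ fix ρ B) :
    Cm D B := by
  rcases hq.eq_or_lt with rfl | hq
  · exact hD.cm_of_com_le hb hB h
  refine cm_iff_le.2 fun b hb' => mem_centralizer_iff.2 fun d hd => ?_
  have n : d ∈ normalizer (B : Set G) := mem_normalizer_iff_conj_eq.2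
    (hB.conj_eq_of_stab hb (le_stab_of_com_top_le h hd))
  obtain ⟨v, hv, hv'⟩ : ∃ v, v ∉ fix ρ B ∧ ρ b v - v ∈ fix ρ D := by
    by_contra! k
    haveI : Finite (V ⧸ fix ρ D) := Finite.of_surjective _ (fix ρ D).mkQ_surjective
    have := card_le_mul_of_map' (U := fix ρ B) (W := ⊤) le_top
      (fun v => (fix ρ D).mkQ (ρ b v - v)) fun v w e => by
        by_contra k'
        refine k _ k' ?_
        rw [map_sub, sub_sub_sub_comm]
        exact (Submodule.Quotient.eq _).1 e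
    have e := Submodule.card_eq_card_quotient_mul_card (fix ρ D)
    rw [hD.idx, mul_comm] at e
    rw [card_top_submodule, hB.idx, ← Nat.eq_of_mul_eq_mul_left (card_pos' _) e, mul_comm] at this
    exact (Nat.le_of_mul_le_mul_left this (card_pos' _)).not_gt hq
  have m : d * b * d⁻¹ ∈ B := (mem_normalizer_iff.1 n b).1 hb'
  have e₁ := h (sub_mem_com (w := v) trivial (inv_mem hd)) b hb'
  have e₂ := hv' d hd
  have e₃ : ρ (b⁻¹ * (d * b * d⁻¹)) v = v := by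
    rw [act_mul, act_inv_eq, act_mul, act_mul]
    rw [map_sub] at e₁ e₂
    have e₄ : ρ b (ρ d⁻¹ v) = ρ d⁻¹ v + (ρ b v - v) := by linear_combination (norm := abel) e₁
    rw [e₄, map_add, act_act_inv, map_sub, e₂, add_sub_cancel]
  have := hB.eq_one (mul_mem (inv_mem hb') m) hv e₃
  rw [inv_mul_eq_one, eq_mul_inv_iff_mul_eq] at this
  exact this.symm

section Rel
variable (hb : Base ρ) (hA : TI ρ q A)
  (tri : ∀ B ∈ Cls A, ∀ C ∈ Cls A, ∀ b ∈ B, b ≠ 1 → b ∈ normalizer (C : Set G) → Cm B C)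
include hb hA tri

theorem conj_ne (hB : B ∈ Cls A) (hC : C ∈ Cls A) (h : ¬ Cm B C) {b : G} (hb' : b ∈ B) (h1 : b ≠ 1) :
    ¬ Cm C (C ^ᶜ b) := fun e =>
  h (tri B hB C hC b hb' h1 (mem_normalizer_iff_conj_eq.2 ((ti_of_mem hA hC).conj_eq_of_cm hb (ti_of_mem hA hB) hb' e)))

theorem sup_eq_top (hB : B ∈ Cls A) (hC : C ∈ Cls A) (h : ¬ Cm B C) : fix ρ B ⊔ fix ρ C = ⊤ := by
  obtain ⟨B₀, C₀, hB₀, hC₀, h₀, hmax⟩ : ∃ B₀ C₀, B₀ ∈ Cls A ∧ C₀ ∈ Cls A ∧ ¬ Cm B₀ C₀ ∧ ∀ B C, B ∈ Cls A → C ∈ Cls A →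
      ¬ Cm B C → Nat.card ↥(fix ρ B ⊓ fix ρ C) ≤ Nat.card ↥(fix ρ B₀ ⊓ fix ρ C₀) := by
    obtain ⟨x, hx, hmax⟩ := Set.exists_max_image
      {x : Subgroup G × Subgroup G | x.1 ∈ Cls A ∧ x.2 ∈ Cls A ∧ ¬ Cm x.1 x.2}
      (fun x => Nat.card ↥(fix ρ x.1 ⊓ fix ρ x.2)) (Set.toFinite _) ⟨(B, C), hB, hC, h⟩
    exact ⟨x.1, x.2, hx.1, hx.2.1, hx.2.2, fun B C h₁ h₂ h₃ => hmax (B, C) ⟨h₁, h₂, h₃⟩⟩
  have tB := ti_of_mem hA hB₀
  have tC := ti_of_mem hA hC₀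
  obtain ⟨v, hvC, hvB⟩ := SetLike.not_le_iff_exists.mp fun e => h₀ (tC.eq_of_fix_le hb tB e ▸ tC.cm_self)
  have key : ∀ b ∈ B₀, ρ b v - v ∈ fix ρ B₀ ⊓ fix ρ C₀ → b = 1 := fun b hab e => by
    by_contra h1
    have h5 : fix ρ B₀ ⊓ fix ρ C₀ ≤ fix ρ (C₀ ^ᶜ b) := fun w hw => by
      rw [← hw.1 _ hab]; exact act_mem_fix_conj _ hw.2
    have h2 : fix ρ B₀ ⊓ fix ρ C₀ = fix ρ C₀ ⊓ fix ρ (C₀ ^ᶜ b) := FFRep.eq_of_le_of_card_ge
      (le_inf inf_le_right h5) (hmax _ _ hC₀ (conj_mem_cls hC₀ _) (conj_ne hb hA tri hB₀ hC₀ h₀ hab h1))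
    rw [Submodule.mem_inf] at e
    have h3 : ρ b v ∈ fix ρ C₀ := by simpa using add_mem e.2 hvC
    have h4 : ρ b v ∈ fix ρ B₀ := (h2.ge ⟨h3, act_mem_fix_conj _ hvC⟩).1
    exact hvB (by simpa using sub_mem h4 e.1)
  have h1 := card_mul_le_of_map' (A := B₀) (B := ⊥) bot_le (U := fix ρ B₀ ⊓ fix ρ C₀) (W := fix ρ B₀) inf_le_left
    (fun b => ρ b v - v) (fun b hb' => tB.quad (sub_mem_com trivial hb')) fun a ha b hb' e => by
      refine mem_bot.mpr (key _ (mul_mem (inv_mem ha) hb') ?_)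
      rw [sub_eq_of_quad tB.quad ha hb', ← neg_mem_iff, neg_sub, ← sub_sub_sub_cancel_right _ _ v]
      exact e
  rw [card_bot, one_mul, tB.card] at h1
  refine (ti_of_mem hA hB).sup_of_card_inf ((Nat.mul_le_mul_left _ (hmax B C hB hC h)).trans (h1.trans ?_))
  exact (tB.card_fix_eq (ti_of_mem hA hC)).le

theorem sub_eq_zero_of_ne (hC : C ∈ Cls A) (hD : D ∈ Cls A) (h : ¬ Cm C D) {c : G} (hc : c ∈ C)
    {v : V} (hv : ρ c v - v ∈ fix ρ D) : ρ c v - v = 0 := by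
  rcases eq_or_ne c 1 with rfl | h1
  · rw [act_one, sub_self]
  obtain ⟨u, hu, w, hw, rfl⟩ := Submodule.mem_sup.mp ((sup_eq_top hb hA tri hC hD h).ge (Submodule.mem_top (x := v)))
  rw [map_add, hu c hc, add_sub_add_left_eq_sub] at hv ⊢
  have hD' := conj_mem_cls hD c
  have h2 := (ti_of_mem hA hD).inf_eq_of_le (ti_of_mem hA hD')
    (sup_eq_top hb hA tri hD hD' (conj_ne hb hA tri hC hD h hc h1))
    (W := fix ρ C) ((ti_of_mem hA hD').card_fix_eq (ti_of_mem hA hC)).le fun w hw => by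
      rw [← hw.2 _ hc]; exact act_mem_fix_conj _ hw.1
  have h3 : ρ c w ∈ fix ρ C := (h2.ge ⟨by simpa using add_mem hv hw, act_mem_fix_conj _ hw⟩).2
  have h4 := h3 _ (inv_mem hc)
  rw [act_inv_act] at h4
  rw [← h4, sub_self]

theorem spread' (hA' : A' ∈ Cls A) (hg : Good ρ ⊤ A A') (hC : C ∈ Cls A) : Cm C A ∨ ∃ a ∈ A, Cm C (A' ^ᶜ a) := by
  by_contra! k
  refine (ti_of_mem hA hC).fix_ne_top (eq_top_iff.2 fun v _ c hc => sub_eq_zero.1 ?_)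
  rcases cover hg hA (ρ c v - v) with e | ⟨a, ha, e⟩
  exacts [sub_eq_zero_of_ne hb hA tri hC (self_mem_cls A) k.1 hc e,
    sub_eq_zero_of_ne hb hA tri hC (conj_mem_cls hA' a) (k.2 a ha) hc e]

end Rel

/-- The members of a set of subgroups contained in `Y`. -/
def DD (𝒯 : Set (Subgroup G)) (Y : Subgroup G) : Set (Subgroup G) := {D | D ∈ 𝒯 ∧ D ≤ Y}

/-- The hypothesis: an opposite pair of offenders of maximal order. -/
structure RC (ρ : Representation (ZMod p) G V) (q : ℕ) (T M A A' : Subgroup G) (𝒯 : Set (Subgroup G)) : Prop where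
  base : Base ρ
  syl : IsSylowIn p T ⊤
  NT : normalizer (T : Set G) ≤ M
  cent : cent ρ (fix ρ T) ≤ M
  cj : ∀ D ∈ 𝒯, ∀ g, D ^ᶜ g ∈ 𝒯
  ti : ∀ D ∈ 𝒯, ∃ q' ≤ q, TI ρ q' D
  tiA : TI ρ q A
  two : 2 < q
  mem : A ∈ 𝒯
  le : A ≤ T
  cls : A' ∈ Cls A
  good : Good ρ ⊤ A A'
  not_le : ¬ A' ≤ M
  orth : ∀ D ∈ DD 𝒯 T, D ≠ A → com ρ ⊤ D ≤ fix ρ (A ⊔ A')
  ND : normalizer ((sSup (DD 𝒯 T) : Subgroup G) : Set G) ≤ M

namespace RC
variable {𝒯 : Set (Subgroup G)} (c : RC ρ q T M A A' 𝒯)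
include c

omit [Finite G] [Finite V] in
theorem TM : T ≤ M := le_normalizer.trans c.NT

omit [Finite G] [Finite V] in
theorem of_cls (h : B ∈ Cls A) : B ∈ 𝒯 := by
  obtain ⟨g, rfl⟩ := h
  exact c.cj A c.mem g

omit [Finite G] [Finite V] in
theorem dd_conj (Y : Subgroup G) (g : G) : DD 𝒯 (Y ^ᶜ g) = (fun D => D ^ᶜ g) '' DD 𝒯 Y := by
  ext D
  refine ⟨fun h => ⟨D ^ᶜ g⁻¹, ⟨c.cj _ h.1 _, le_conj_iff_conj_inv_le.1 h.2⟩, conj_inv_conj _ _⟩, ?_⟩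
  rintro ⟨D, h, rfl⟩
  exact ⟨c.cj _ h.1 g, conj_mono g h.2⟩

omit [Finite V] in
theorem eq_dd (hS : IsSylowIn p S ⊤) {s : Set (Subgroup G)} (h : s ⊆ DD 𝒯 S) (hc : (DD 𝒯 T).ncard ≤ s.ncard) :
    s = DD 𝒯 S := by
  obtain ⟨g, -, rfl⟩ := c.syl.exists_conj_eq hS
  exact Set.eq_of_subset_of_ncard_le h (by rwa [c.dd_conj, Set.ncard_image_of_injective _ fun _ _ => conj_inj.mp])

omit [Finite G] [Finite V] in
theorem ND' (g : G) : normalizer ((sSup (DD 𝒯 (T ^ᶜ g)) : Subgroup G) : Set G) ≤ M ^ᶜ g := by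
  have : sSup (DD 𝒯 (T ^ᶜ g)) = (sSup (DD 𝒯 T)) ^ᶜ g := by
    rw [c.dd_conj, sSup_image, sSup_eq_iSup, conj_iSup]
    exact iSup_congr fun D => (conj_iSup _ g).symm
  rw [this, ← conj_normalizer]
  exact conj_mono g c.ND

omit [Finite V] in
theorem conj_eq (hS : IsSylowIn p S ⊤) {g g' : G} (h₁ : S ≤ M ^ᶜ g) (h₂ : S ≤ M ^ᶜ g') : M ^ᶜ g = M ^ᶜ g' := by
  obtain ⟨k, -, rfl⟩ := c.syl.exists_conj_eq hS
  have key : ∀ g, T ^ᶜ k ≤ M ^ᶜ g → M ^ᶜ g = M ^ᶜ k := fun g h => by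
    rw [le_conj_iff_conj_inv_le, conj_conj] at h
    obtain ⟨m, hm, e⟩ := ((c.syl.conj_top _).of_le h le_top).exists_conj_eq (c.syl.of_le c.TM le_top)
    rw [conj_conj, ← mem_normalizer_iff_conj_eq] at e
    rw [← mul_inv_cancel_left g k, ← conj_conj, conj_eq_of_mem ((mul_mem_cancel_left hm).1 (c.NT e))]
  rw [key g h₁, key g' h₂]

omit [Finite V] in
theorem exists_sylow_le (hY : IsPGroup p Y) (h : Y ≤ M ^ᶜ g) : ∃ k, Y ≤ T ^ᶜ k ∧ M ^ᶜ k = M ^ᶜ g := by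
  obtain ⟨S, hS, h₁⟩ := exists_isSylowIn_ge h hY
  have h₂ := hS.trans_of_le le_top (c.syl.conj_top g) (conj_mono g c.TM)
  obtain ⟨k, -, rfl⟩ := c.syl.exists_conj_eq h₂
  exact ⟨k, h₁, c.conj_eq h₂ (conj_mono k c.TM) hS.le⟩

omit [Finite V] in
theorem normalizer_conj_le (g : G) : normalizer ((M ^ᶜ g : Subgroup G) : Set G) ≤ M ^ᶜ g := by
  rw [← conj_normalizer]
  exact conj_mono g ((le_inf le_top le_rfl).trans (c.syl.inf_normalizer_le le_top (inf_le_right.trans c.NT)))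

omit [Finite V] in
theorem le_of_mem (hB : TI ρ q B) {b : G} (hb : b ∈ B) (h1 : b ≠ 1) (h : b ∈ M ^ᶜ g) : B ≤ M ^ᶜ g := by
  obtain ⟨n, hn⟩ := isPGroup_iff_forall_mem.mp hB.isPGroup b hb
  obtain ⟨k, h₁, h₂⟩ := c.exists_sylow_le (isPGroup_zpowers hn) (zpowers_le.mpr h)
  have h₃ : fix ρ (T ^ᶜ k) ≤ fix ρ B := fun v hv => hB.ti b hb h1 v (hv b (zpowers_le.mp h₁))
  refine (le_fix_iff.mp h₃).trans ?_
  rw [← tr_fix, ← conj_cent]
  exact (conj_mono k c.cent).trans h₂.le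

theorem cm_of_fix (hB : B ∈ Cls A) (h : fix ρ (A ⊔ A') ≤ fix ρ B) : Cm B (sSup (DD 𝒯 T \ {A})) :=
  cm_sSup fun D hD =>
    let ⟨_, hq, t⟩ := c.ti D hD.1.1
    (cm_of_com_le' c.base t (ti_of_mem c.tiA hB) hq ((c.orth D hD.1 hD.2).trans h)).symm

theorem spread (hC : C ∈ Cls A) (h : Cm C (sSup (DD 𝒯 T \ {A}))) : C ≤ T ∨ ∃ a ∈ A, C = A' ^ᶜ a := by
  have hb := c.base
  have hA := c.tiA
  have hAd : A ∈ DD 𝒯 T := ⟨c.mem, c.le⟩
  have cA := c.cm_of_fix (self_mem_cls A) (fix_anti le_sup_left)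
  have cA' := c.cm_of_fix c.cls (fix_anti le_sup_right)
  set X := sSup (DD 𝒯 T \ {A}) with hX
  have hXT : X ≤ T := sSup_le fun D hD => hD.1.2
  have hXp := c.syl.isPGroup.to_le hXT
  let S : Set (Subgroup G) := {B | B ∈ Cls A ∧ B ∉ DD 𝒯 T \ {A} ∧ Cm B X}
  have hJp : ∀ B ∈ S, IsPGroup p ↥(X ⊔ B) := fun B hB =>
    IsPGroup.to_sup_of_normal_left' hXp (ti_of_mem hA hB.1).isPGroup hB.2.2.le_normalizer
  have hdl : ∀ B ∈ S, ∀ Y, IsSylowIn p Y ⊤ → X ⊔ B ≤ Y → insert B (DD 𝒯 T \ {A}) = DD 𝒯 Y := fun B hB Y hY h =>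
    c.eq_dd hY (Set.insert_subset ⟨c.of_cls hB.1, le_sup_right.trans h⟩
      fun D hD => ⟨hD.1.1, (le_sSup hD).trans (le_sup_left.trans h)⟩)
      (by rw [Set.ncard_insert_of_notMem hB.2.1, Set.ncard_diff_singleton_add_one hAd])
  have hsup : ∀ B ∈ S, ∀ Y, IsSylowIn p Y ⊤ → X ⊔ B ≤ Y → X ⊔ B = sSup (DD 𝒯 Y) := fun B hB Y hY h => by
    rw [← hdl B hB Y hY h, sSup_insert, sup_comm]
  have hN : ∀ B ∈ S, ∀ Y, IsSylowIn p Y ⊤ → X ⊔ B ≤ Y → Y ≤ normalizer ((X ⊔ B : Subgroup G) : Set G) :=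
    fun B hB Y hY h => by
      rw [hsup B hB Y hY h]
      exact le_normalizer_sSup fun g hg D hD => ⟨c.cj _ hD.1 g, conj_le_of_mem hD.2 hg⟩
  let μ : Subgroup G → Subgroup G := fun B =>
    sSup {Y | (∃ g, Y = M ^ᶜ g) ∧ normalizer ((X ⊔ B : Subgroup G) : Set G) ≤ Y}
  have hμ : ∀ B ∈ S, ∀ g, normalizer ((X ⊔ B : Subgroup G) : Set G) ≤ M ^ᶜ g → μ B = M ^ᶜ g := fun B hB g h => by
    obtain ⟨Y, hY, h₁⟩ := exists_isSylowIn_ge le_top (hJp B hB)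
    refine le_antisymm (sSup_le ?_) (le_sSup ⟨⟨g, rfl⟩, h⟩)
    rintro _ ⟨⟨g', rfl⟩, h'⟩
    exact (c.conj_eq hY ((hN B hB Y hY h₁).trans h') ((hN B hB Y hY h₁).trans h)).le
  have hex : ∀ B ∈ S, ∃ g, normalizer ((X ⊔ B : Subgroup G) : Set G) ≤ M ^ᶜ g := fun B hB => by
    obtain ⟨g, -, h₁⟩ := c.syl.exists_le_conj le_top (hJp B hB)
    exact ⟨g, by rw [hsup B hB _ (c.syl.conj_top g) h₁]; exact c.ND' g⟩
  have hle : ∀ B ∈ S, X ⊔ B ≤ μ B := fun B hB => by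
    obtain ⟨g, h⟩ := hex B hB
    rw [hμ B hB g h]
    exact le_normalizer.trans h
  have hcl : ∀ B ∈ S, ∀ k ∈ centralizer (X : Set G), B ^ᶜ k ∈ S := fun B hB k hk =>
    ⟨conj_mem_cls hB.1 k, fun h => hB.2.1 (by
      have := conj_eq_of_mem_centralizer (centralizer_anti (le_sSup h) (inv_mem hk))
      rwa [← this, conj_conj_inv] at h), conj_eq_of_mem_centralizer hk ▸ hB.2.2.conj k⟩
  have l : Lab ρ q S (centralizer (X : Set G)) μ := by
    refine ⟨fun B hB => ti_of_mem hA hB.1, fun B hB => hB.2.2.le_centralizer, hcl, fun B hB k hk => ?_,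
      fun B hB => le_sup_right.trans ((hle B hB).trans le_normalizer), fun B hB C hC b hb h1 h => ?_⟩
    · obtain ⟨g, h⟩ := hex B hB
      rw [hμ B hB g h, conj_conj]
      refine hμ _ (hcl B hB k hk) _ ?_
      rw [← conj_conj, ← conj_eq_of_mem_centralizer hk, ← conj_sup, ← conj_normalizer]
      exact conj_mono k h
    · obtain ⟨g, h₁⟩ := hex C hC
      obtain ⟨g', h₂⟩ := hex B hB
      rw [hμ C hC g h₁] at h
      obtain ⟨k, h₃, h₄⟩ := c.exists_sylow_le (hJp B hB) (sup_le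
        (le_sup_left.trans (le_normalizer.trans h₁)) (c.le_of_mem (ti_of_mem hA hB.1) hb h1
          (c.normalizer_conj_le g h)))
      rw [hμ C hC g h₁, hμ B hB g' h₂, ← h₄]
      exact c.conj_eq (c.syl.conj_top k) ((hN B hB _ (c.syl.conj_top k) h₃).trans h₂) (conj_mono k c.TM)
  have hAS : A ∈ S := ⟨self_mem_cls A, fun h => h.2 rfl, cA⟩
  have hA'S : A' ∈ S := ⟨c.cls, fun h => c.not_le (h.1.2.trans c.TM), cA'⟩
  have hμA : μ A = M := (hμ A hAS 1 (by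
    rw [conj_one, hsup A hAS T c.syl (sup_le hXT c.le)]
    exact c.ND)).trans (conj_one M)
  have heq : ∀ B ∈ S, ∀ C ∈ S, Cm C B → C = B := fun B hB C hC h => by
    obtain ⟨Y, hY, h₁⟩ := exists_isSylowIn_ge le_top (IsPGroup.to_sup_of_normal_left' (hJp B hB)
      (ti_of_mem hA hC.1).isPGroup (hC.2.2.sup_right h).le_normalizer)
    exact ((hdl B hB Y hY (le_sup_left.trans h₁)).ge ⟨c.of_cls hC.1, le_sup_right.trans h₁⟩).resolve_right hC.2.1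
  by_cases h₁ : C ∈ DD 𝒯 T \ {A}
  · exact Or.inl h₁.1.2
  have hCS : C ∈ S := ⟨hC, h₁, h⟩
  rcases l.spread hb hAS hA'S (fun e => c.not_le (le_sup_right.trans ((hle _ hA'S).trans (e.symm.trans hμA).le)))
    c.good hCS with h₂ | ⟨a, ha, h₂⟩
  · exact Or.inl (heq _ hAS _ hCS h₂ ▸ c.le)
  · exact Or.inr ⟨a, ha, heq _ (hcl _ hA'S a (l.le _ hAS ha)) _ hCS h₂⟩

theorem mem_eq_one {a : G} (ha : a ∈ A') (hn : a ∈ normalizer (A : Set G)) : a = 1 := by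
  by_contra h1
  refine c.not_le ((c.tiA.eq_of_fix_le c.base (ti_of_mem c.tiA c.cls) fun v hv =>
    MinParOff.mem_fix_of_sub_mem c.good.symm ha h1 (sub_mem (act_mem (normalizer_le_stab_fix A hn) hv) hv)).ge.trans
    (c.le.trans c.TM))

theorem tri₀ (hB : B ∈ Cls A) {b : G} (hb : b ∈ B) (h1 : b ≠ 1) (hn : b ∈ normalizer (A : Set G))
    (hD : ∀ D ∈ DD 𝒯 T, D ^ᶜ b ∈ DD 𝒯 T) (hD' : ∀ D ∈ DD 𝒯 T, D ^ᶜ b⁻¹ ∈ DD 𝒯 T) : Cm B A := by
  have tB := ti_of_mem c.tiA hB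
  have tA' := ti_of_mem c.tiA c.cls
  by_cases hf : fix ρ (A ⊔ A') ≤ fix ρ B
  · rcases c.spread hB (c.cm_of_fix hB hf) with h | ⟨a, ha, rfl⟩
    · exact tB.cm_of_isPGroup c.base c.syl.isPGroup c.tiA h c.le
    · refine absurd (c.mem_eq_one (mem_conj_iff.1 hb) (mul_mem (mul_mem (inv_mem (le_normalizer ha)) hn)
        (le_normalizer ha))) fun e => h1 ?_
      rw [← mul_inv_cancel_left a b, ← mul_inv_cancel_right (a⁻¹ * b) a, e]; group
  have cA' := c.cm_of_fix c.cls (fix_anti le_sup_right)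
  obtain ⟨a₀, ha₀, e₀⟩ := (c.spread (conj_mem_cls c.cls b) (cm_sSup fun D h => by
    have := (cA'.mono le_rfl (le_sSup (show D ^ᶜ b⁻¹ ∈ DD 𝒯 T \ {A} from ⟨hD' D h.1, fun e => h.2 (by
      rw [← conj_inv_conj D b, e]; exact conj_eq_of_mem_normalizer hn)⟩))).conj b
    rwa [conj_inv_conj] at this)).resolve_left fun h => c.not_le (by
      have := (hD' _ ⟨c.of_cls (conj_mem_cls c.cls b), h⟩).2
      rw [conj_conj_inv] at this
      exact this.trans c.TM)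
  have cL : Nat.card (fix ρ A) = q * Nat.card (fix ρ (A ⊔ A')) := by
    rw [c.tiA.card_fix_eq tA', fix_sup]
    exact c.tiA.card_inf_of_sup (top_le_iff.1 (c.good.left.sup.trans (sup_le_sup inf_le_right inf_le_right)))
  have key : ∀ a ∈ A, b * a * b⁻¹ * a₀ = a := fun a ha => by
    have m := mul_mem ((mem_normalizer_iff.1 hn a).1 ha) ha₀
    obtain ⟨v, hv, hv'⟩ := SetLike.not_le_iff_exists.1 (show ¬ fix ρ (A' ^ᶜ a) ⊓ fix ρ B ≤ fix ρ A from fun k => by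
      have k₁ : fix ρ (A' ^ᶜ a) ⊓ fix ρ B < fix ρ (A ⊔ A') := by
        refine lt_of_le_of_ne (fun v hv => ?_) fun e => hf (e.ge.trans inf_le_right)
        have k₂ := (Submodule.mem_inf.1 hv).1
        rw [← tr_fix, mem_tr, k hv _ (inv_mem ha)] at k₂
        rw [fix_sup]
        exact ⟨k hv, k₂⟩
      have k₂ := (tA'.conj a).card_inf_ge (fix ρ B)
      rw [tB.card_fix_eq c.tiA, cL] at k₂
      exact (Nat.le_of_mul_le_mul_left k₂ (zero_lt_two.trans c.two)).not_gt (card_lt_of_lt' k₁))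
    have k₁ := act_mem_fix_conj b hv.1
    rw [hv.2 b hb, conj_conj, show b * a = b * a * b⁻¹ * b by group, ← conj_conj, e₀, conj_conj, ← tr_fix, mem_tr] at k₁
    have k₂ := (Submodule.mem_inf.1 hv).1
    rw [← tr_fix, mem_tr] at k₂
    by_contra ne
    have k₃ := MinParOff.mem_fix_of_sub_mem c.good (mul_mem (inv_mem m) ha) (fun e => ne (inv_mul_eq_one.1 e))
      (v := ρ a⁻¹ v) (by rw [act_mul, act_act_inv]; exact sub_mem k₁ k₂)
    have k₄ := k₃ a ha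
    rw [act_act_inv] at k₄
    exact hv' (k₄ ▸ k₃)
  have e₁ := key 1 (one_mem _)
  rw [mul_one, mul_inv_cancel, one_mul] at e₁
  refine (c.tiA.cm_of_le_normalizer c.base tB fun a ha => mem_normalizer_iff_conj_eq.2
    ((tB.conj a).eq_of_mem c.base tB ?_ hb h1)).symm
  have := key a ha
  rw [e₁, mul_one, mul_inv_eq_iff_eq_mul] at this
  rw [← mul_inv_cancel_right b a, this]
  exact conj_mem_conj a hb

theorem tri₁ (hB : B ∈ Cls A) {b : G} (hb : b ∈ B) (h1 : b ≠ 1) (hn : b ∈ normalizer (A : Set G)) : Cm B A := by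
  have cA := c.cm_of_fix (self_mem_cls A) (fix_anti le_sup_left)
  have l : sSup (DD 𝒯 T) ≤ normalizer (A : Set G) := sSup_le fun D hD => by
    rcases eq_or_ne D A with rfl | e
    exacts [le_normalizer, (cA.mono le_rfl (le_sSup ⟨hD, e⟩)).symm.le_normalizer]
  obtain ⟨S₀, h₀, l₀⟩ := exists_isSylowIn_ge l (c.syl.isPGroup.to_le (sSup_le fun D hD => hD.2))
  obtain ⟨S, hS, l₁⟩ := exists_isSylowIn_ge (le_top : S₀ ≤ ⊤) h₀.isPGroup
  have e := c.eq_dd hS (s := DD 𝒯 T) (fun D hD => ⟨hD.1, (le_sSup hD).trans (l₀.trans l₁)⟩) le_rfl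
  obtain ⟨k, hk⟩ := isPGroup_iff_forall_mem.1 (ti_of_mem c.tiA hB).isPGroup b hb
  obtain ⟨n, hn', m⟩ := h₀.exists_conj_mem hn hk
  have key : ∀ x ∈ S, ∀ D ∈ DD 𝒯 T, D ^ᶜ x ∈ DD 𝒯 T := fun x hx D hD => by
    rw [e] at hD ⊢
    exact ⟨c.cj _ hD.1 x, conj_le_of_mem hD.2 hx⟩
  have := c.tri₀ (conj_mem_cls hB n) (conj_mem_conj n hb) (fun e => h1 (by simpa using e)) (h₀.le m) (key _ (l₁ m))
    (key _ (inv_mem (l₁ m)))
  rwa [← conj_eq_of_mem_normalizer hn', cm_conj_iff] at this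

theorem tri (B : Subgroup G) (hB : B ∈ Cls A) (C : Subgroup G) (hC : C ∈ Cls A) (b : G) (hb : b ∈ B) (h1 : b ≠ 1)
    (hn : b ∈ normalizer (C : Set G)) : Cm B C := by
  obtain ⟨g, rfl⟩ := hC
  rw [← conj_normalizer, mem_conj_iff] at hn
  have := (c.tri₁ (conj_mem_cls hB g⁻¹) (by simpa only [inv_inv] using conj_mem_conj g⁻¹ hb)
    (fun e => h1 (by rw [← mul_inv_cancel_left g b, ← mul_inv_cancel_right (g⁻¹ * b) g, e]; group)) hn).conj g
  rwa [conj_inv_conj] at this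

theorem main : sSup (Cls A) ≤ normalizer ((A ⊔ A' : Subgroup G) : Set G) := sSup_le fun C hC => by
  have tC := ti_of_mem c.tiA hC
  have tA' := ti_of_mem c.tiA c.cls
  rcases spread' c.base c.tiA c.tri c.cls c.good hC with h | ⟨a, ha, h⟩
  · rcases eq_or_ne A C with rfl | ne
    · exact le_sup_left.trans le_normalizer
    · exact (h.sup_right (cm_of_cm c.base c.good c.tiA tA' tC (card_com_of_mem hC).symm c.two h.symm ne).symm).le_normalizer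
  · have e : A ⊔ A' = A ⊔ A' ^ᶜ a := by
      rw [← conj_eq_of_mem (mem_sup_left ha : a ∈ A ⊔ A'), conj_sup, conj_eq_of_mem ha]
    rw [e]
    rcases eq_or_ne (A' ^ᶜ a) C with rfl | ne
    · exact le_sup_right.trans le_normalizer
    · have g := (Good.conj c.good a).symm
      rw [conj_eq_of_mem ha] at g
      exact ((cm_of_cm c.base g (tA'.conj a) c.tiA tC ((card_com_of_mem (conj_mem_cls c.cls a)).trans
        (card_com_of_mem hC).symm) c.two h.symm ne).symm.sup_right h).le_normalizer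

end RC

end Cfsg.Agent.Lib.CgRep
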