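import Cfsg.Agent.Lib.CgLin
import Cfsg.Agent.Lib.CgPerm

/-! Blocks of symmetric type outside `M₀`. -/

set_option autoImplicit false
open Cfsg

namespace Cfsg.Agent.Lib.Blk

open Subgroup Cfsg.Agent.Lib.PCoreConj Cfsg.Agent.Lib.PCore Cfsg.Agent.Lib.PCoreResidual Cfsg.Agent.Lib.PCoreMod
open Cfsg.Agent.Lib.ThompsonJ Cfsg.Agent.Lib.PushBase Cfsg.Agent.Lib.PIrred Equiv
open scoped Pointwise commutatorElement MatrixGroups

universe u
variable {G : Type u} [Group G] {p : ℕ} {T E H K U Z X Y S A B M₀ : Subgroup G} {g g' t u w : G}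

theorem tw_orbit (φ : S ≃* S) (hB : tw φ B = B) {u w : S} (h : ∀ g ∈ B, ⁅(u : G), g⁆ = 1 ∨ ⁅(u : G), g⁆ = w) :
    ∀ g ∈ B, ⁅(φ u : G), g⁆ = 1 ∨ ⁅(φ u : G), g⁆ = φ w := fun g hg => by
  obtain ⟨g, hg', rfl⟩ := (mem_tw φ).1 (hB.ge hg)
  have e : ⁅(φ u : G), (φ g : G)⁆ = φ ⁅u, g⁆ := by rw [map_commutatorElement]; rfl
  refine (h g hg').imp (fun k => ?_) fun k => ?_
  · rw [e, show ⁅u, g⁆ = 1 from Subtype.ext k, map_one]; rfl
  · rw [e, show ⁅u, g⁆ = w from Subtype.ext k]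

variable [Finite G]

theorem card_le_two (h : ∀ a ∈ A, ⁅t, a⁆ = 1 ∨ ⁅t, a⁆ = w) : Nat.card A ≤ Nat.card ↥(A ⊓ C(zpowers t)) * 2 := by
  refine (card_le_of_fiber (Y := C(zpowers t)) (fun a : A => ⁅t, (a : G)⁆ = 1) fun a b e => mem_cent_zp.2 ?_).trans_eq (by simp)
  have k : ⁅t, (a : G)⁆ = ⁅t, (b : G)⁆ := by
    by_cases k : ⁅t, (a : G)⁆ = 1
    · exact k.trans (e.mp k).symm
    · exact ((h _ a.2).resolve_left k).trans ((h _ b.2).resolve_left fun k' => k (e.mpr k')).symm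
  calc _ = (a : G)⁻¹ * ⁅t, (b : G)⁆⁻¹ * t * b := by rw [commutatorElement_def]; group
    _ = _ := by rw [← k, commutatorElement_def]; group

theorem mem_J_of_conj (hA : MaxAb 2 T A) (h2 : t * t = 1) (ht : t ∉ A) (hc : ∀ a ∈ A, ⁅t, a⁆ = 1 ∨ ⁅t, a⁆ = w)
    (hg : A ^ᶜ g ≤ T) (k : g * t * g⁻¹ ∈ T) : g * t * g⁻¹ ∈ J 2 T := by
  have h2' := (pow_two t).trans h2
  have c := card_sup_mul_card_inf (H := A ⊓ C(zpowers t)) (N := zpowers t) (le_normalizer_of_le_centralizer inf_le_right)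
  rw [inf_comm _ (zpowers t), zpowers_inf_eq_bot h2' fun k => ht (mem_inf.1 k).1, card_bot, mul_one, Nat.card_zpowers,
    orderOf_eq_prime h2' fun e => ht (e ▸ one_mem _)] at c
  have ab : AbExp 2 (A ⊓ C(zpowers t) ⊔ zpowers t) := (hA.abExp.mono inf_le_left).sup (abExp_zpowers h2') inf_le_right
  have c' := (card_le_two hc).trans c.ge
  have l : (A ⊓ C(zpowers t) ⊔ zpowers t) ^ᶜ g ≤ T := by
    rw [conj_sup, conj_zpowers]
    exact sup_le ((conj_mono g inf_le_left).trans hg) (zpowers_le_of_mem k)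
  have m : t ∈ A ⊓ C(zpowers t) ⊔ zpowers t := mem_sup_right (mem_zpowers t)
  generalize A ⊓ C(zpowers t) ⊔ zpowers t = B at ab c' l m
  exact (hA.of_card_le l (ab.map _) (c'.trans (card_conj B g).ge)).le_J (conj_mem_conj g m)

theorem Blk.cases2 [Fact p.Prime] (h : Blk p T E) : (∃ q, 2 < q ∧ LinQ p T E q) ∨ (p = 2 ∧ ZW p E = ⊥ ∧
    ∃ m, 1 ≤ m ∧ Nonempty (ActS (RS (Fin (2 * m + 1))) E (WE p E) (ZW p E))) := by
  rcases h.cases' with ⟨F, _, _, _, ⟨a⟩, k⟩ | ⟨e, m, hm, a, -, k⟩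
  swap
  · exact .inr ⟨e, k, m, hm, a⟩
  by_cases c : Nat.card F = 2
  swap
  · exact .inl ⟨_, by have := card_cases (F := F); omega, F, _, ‹_›, ‹_›, a, rfl, k⟩
  obtain rfl := eq_of_card (p := p) Nat.prime_two c
  have s₁ := small_lin (p := 2) (.inl c)
  have s₂ := small_sym (odd_fin 1) (Fintype.card_fin _)
  letI := Fintype.ofFinite F
  let ι := ZMod.ringEquivOfPrime F Nat.prime_two (Nat.card_eq_fintype_card.symm.trans c)
  let j : (Fin 2 → F) →+ Ev (Fin (2 * 1 + 1)) := (j3 0 1 2).comp (ι.symm.toAddMonoidHom.compLeft _)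
  have hj : Function.Injective j := (j3_injective (by decide) (by decide) (by decide)).comp
    (ι.symm.injective.comp_left)
  let e : (Fin 2 → F) ≃ₗ[ℤ] Ev (Fin (2 * 1 + 1)) :=
    (AddEquiv.ofBijective j (hj.bijective_of_nat_card_le (s₂.card.trans s₁.card.symm).le)).toIntLinearEquiv
  have cj : ∀ {M M' : Type} [AddCommGroup M] [AddCommGroup M'] (e : M ≃ₗ[ℤ] M') (r : AutM M), SmallP 2 r →
      SmallP 2 (e.symm.trans (r.trans e) : AutM M') := fun e r hr => .inl ⟨rfl, aut_ext fun m => by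
    have := congrArg (fun r : AutM _ => e (r (e.symm m))) (hr.resolve_right fun k => absurd k.1 (by decide)).2
    simpa [pow_succ, aut_mul] using this⟩
  obtain ⟨b, -⟩ := nonempty_actS (R := RS (Fin (2 * 1 + 1))) (a.congr e.toAddEquiv) (a.norm.trans inf_le_left)
    (fun g hg => ⟨_, (s₂.mem _).2 (cj e _ ((s₁.mem _).1 (a.θ_mem' hg))), fun u hu => by
      change e _ = e (a.θ g (e.symm (e _)))
      rw [e.symm_apply_apply, a.θ_ψ (a.norm hg) hu]⟩) fun r hr => by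
      obtain ⟨g, hg, k⟩ := a.exists_θ ((s₁.mem _).2 (cj e.symm _ ((s₂.mem _).1 hr)))
      refine ⟨g, hg, fun u hu => ?_⟩
      change e _ = r (e _)
      rw [← a.θ_ψ (a.norm hg) hu, k]
      exact e.apply_symm_apply _
  exact .inr ⟨rfl, h.small_ZW a s₁, 1, le_rfl, ⟨b⟩⟩

variable {α : Type*} [Fintype α] [DecidableEq α] {x y z c d : α} {σ τ : Perm α} {π : α → α}

/-- The permutations induced by a subgroup. -/
noncomputable def PP (s : Sect (Ev α) U Z) (X : Subgroup G) : Subgroup (Perm α) := (s.im X).comap toP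

omit [Finite G] [DecidableEq α] in
theorem mem_PP {s : Sect (Ev α) U Z} (hX : X ≤ NN U Z) : σ ∈ PP s X ↔ ∃ g ∈ X, s.θ g = toP σ := s.mem_im' hX

omit [Finite G] [DecidableEq α] in
theorem PP_of {s : Sect (Ev α) U Z} (hg : g ∈ X) (e : toP σ = s.θ g) : σ ∈ PP s X := mem_comap.2 (e ▸ s.θ_mem hg)

omit [Finite G] [DecidableEq α] in
theorem PP_mono {s : Sect (Ev α) U Z} (h : X ≤ Y) : PP s X ≤ PP s Y := comap_mono (s.im_mono h)

omit [Finite G] in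
theorem θ_conj_swap {s : Sect (Ev α) U Z} (hg : g ∈ NN U Z) (ht : t ∈ NN U Z) (e₁ : toP τ = s.θ g)
    (e₂ : s.θ t = toP (swap x y)) : s.θ (g * t * g⁻¹) = toP (swap (τ x) (τ y)) := by
  rw [s.θ_conj hg ht, ← e₁, e₂, ← map_inv, ← map_mul, ← map_mul, swap_apply_apply]

theorem swap_eq_of_pr (hcd : c ≠ d) (e : pr c d = pr x y) : swap c d = swap x y := by
  obtain ⟨rfl | rfl, rfl | rfl⟩ := pair_of_pr hcd e
  exacts [absurd rfl hcd, rfl, swap_comm _ _, absurd rfl hcd]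

/-- An alternating group of odd degree acting on its even permutation module. -/
structure SP2 (T E H : Subgroup G) (s : Sect (Ev α) U Z) : Prop extends Pre 2 (RS α) H s where
  ho : Odd (Fintype.card α)
  h3 : 3 ≤ Fintype.card α
  hZ : Z = ⊥
  hT : IsSylowIn 2 T ⊤
  UT : U ≤ T
  BH : Bm 2 T ≤ H
  EH : E ≤ H
  eE : s.im E = RS α
  syl : IsSylowIn 2 (T ⊓ E) E
  nc : ¬ J 2 T ≤ C(U)

namespace SP2
variable {s : Sect (Ev α) U Z} (h : SP2 T E H s)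
include h

omit [Finite G] in
theorem inj (hu : u ∈ U) (hw : w ∈ U) (e : s.ψ u = s.ψ w) : u = w := by
  obtain rfl := h.hZ; exact s.ψ_inj hu hw e

omit [Finite G] in
theorem conj_eq (hg : g ∈ H) (hu : u ∈ U) (e : s.θ g (s.ψ u) = s.ψ u) : g * u * g⁻¹ = u := by
  obtain rfl := h.hZ; exact s.conj_eq (h.nn hg) hu e

omit [Finite G] in
theorem JH : J 2 T ≤ H := (J_le_Bm 2 T).trans h.BH

omit [Finite G] in
theorem perm (hg : g ∈ H) : ∃ σ, toP σ = s.θ g := norm_le_PS h.ho h.h3 (h.nr (s.θ_mem hg))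

omit [Finite G] in
theorem pgroup (hX : X ≤ T) : IsPGroup 2 (PP s X) :=
  (s.im_isPGroup (h.hT.isPGroup.to_le hX)).comap_of_injective toP (toP_injective h.ho)

omit [Finite G] in
theorem even (hσ : σ ∈ alternatingGroup α) : ∃ g ∈ E, s.θ g = toP σ :=
  (s.mem_im' (h.EH.trans h.nn)).1 (h.eE.ge (mem_map_of_mem _ hσ))

omit [Finite G] in
theorem le_of_fv (k : ∀ x, s.σ (fv h.ho x) ∈ Y) : U ≤ Y := by
  obtain ⟨x, -⟩ := exists_zero h.ho 0
  have m : ∀ x, fv h.ho x ∈ s.img Y := fun x => s.ψ_σ (fv h.ho x) ▸ s.ψ_mem_img (k x) (s.σ_mem _)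
  exact (s.le_sup_of_img_eq_top (eq_top_of_pr (a := x) fun b => fv_add h.ho x b ▸ add_mem (m x) (m b))).trans
    (sup_le le_rfl (h.hZ.le.trans bot_le))

omit [Finite G] in
theorem comm_of (hg : g ∈ H) (hu : u ∈ U) (hw : w ∈ U) (k : s.θ g (s.ψ u) = s.ψ u ∨ s.θ g (s.ψ u) = s.ψ u + s.ψ w) :
    ⁅u, g⁆ = 1 ∨ ⁅u, g⁆ = w :=
  have m := comm_mem_of_norm (h.nn hg).1 hu
  k.imp (fun e => h.inj m (one_mem _) (by rw [s.ψ_comm (h.nn hg) hu, e, sub_self, s.one])) fun e =>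
    h.inj m hw (by rw [s.ψ_comm (h.nn hg) hu, e, sub_add_cancel_left, Ev.neg])

omit [Finite G] in
theorem comm_swap (hw : w ∈ U) (k : ⁅u, g⁆ = 1 ∨ ⁅u, g⁆ = w) : ⁅g, u⁆ = 1 ∨ ⁅g, u⁆ = w := by
  rw [← commutatorElement_inv]
  exact k.imp (fun e => by rw [e, inv_one]) fun e => by
    rw [e]; exact inv_eq_of_mul_eq_one_right ((pow_two w).symm.trans (h.el.2 w hw))

omit [Finite G] in
theorem swap_of (ht : t ∈ H) (hc : t ∉ (C(U) : Subgroup G)) (k : ∀ u ∈ U, ⁅t, u⁆ = 1 ∨ ⁅t, u⁆ = w) :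
    ∃ x y, x ≠ y ∧ s.θ t = toP (swap x y) ∧ w ∈ U ∧ s.ψ w = pr x y := by
  obtain ⟨σ, e⟩ := h.perm ht
  have h1 : σ ≠ 1 := fun k => hc ((h.θ_eq_one ht).1 (by rw [← e, k, map_one]))
  obtain ⟨u, hu⟩ := not_forall.1 hc
  obtain ⟨hu, hn⟩ := Classical.not_imp.1 hu
  have hw : w ∈ U := (k u hu).resolve_left (fun k => hn (commutatorElement_eq_one_iff_mul_comm.1 k).symm) ▸
    comm_mem_swap (comm_mem_of_norm (h.nn ht).1 hu)
  have key : ∀ v, toP σ v = v ∨ toP σ v = v + s.ψ w := fun v => by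
    obtain ⟨u, hu, rfl⟩ := s.onto v
    have e₃ := s.ψ_comm (h.nn ht) hu
    rw [← e] at e₃
    refine (h.comm_swap hw (k u hu)).imp (fun k => ?_) fun k => ?_
    · rw [k, s.one] at e₃
      exact (sub_eq_zero.1 e₃.symm).symm
    · rw [k] at e₃
      rw [← Ev.neg (s.ψ w), e₃]; abel
  obtain ⟨x, hx⟩ := not_forall.1 fun k' : ∀ x, σ x = x => h1 (Equiv.ext k')
  have e₁ := (key (fv h.ho x)).resolve_left fun k => hx (fv_injective h.ho ((toP_fv h.ho σ x).symm.trans k))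
  have e₂ : s.ψ w = pr x (σ x) := by
    rw [← fv_add h.ho, ← toP_fv, e₁, ← add_assoc, Ev.add_self, zero_add]
  exact ⟨x, σ x, Ne.symm hx, by rw [← e, ← eq_swap_of h.ho (Ne.symm hx) (e₂ ▸ key) h1], hw, e₂⟩

omit [Finite G] in
theorem exists_conj (hxy : x ≠ y) (hcd : c ≠ d) : ∃ g ∈ E, ∃ τ, toP τ = s.θ g ∧ swap (τ x) (τ y) = swap c d ∧
    ∀ a, a ≠ x → a ≠ y → a ≠ c → a ≠ d → τ a = a := by
  obtain ⟨τ, h₁, h₂, h₃⟩ := exists_pair hxy hcd
  by_cases k : τ ∈ alternatingGroup α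
  · obtain ⟨g, hg, e⟩ := h.even k
    exact ⟨g, hg, τ, e.symm, by rw [h₁, h₂], h₃⟩
  · obtain ⟨g, hg, e⟩ := h.even (mul_swap_mem hxy k)
    exact ⟨g, hg, _, e.symm, by rw [Perm.mul_apply, Perm.mul_apply, swap_apply_left, swap_apply_right, h₁, h₂, swap_comm],
      fun a k₁ k₂ k₃ k₄ => by rw [Perm.mul_apply, swap_apply_of_ne_of_ne k₁ k₂, h₃ a k₁ k₂ k₃ k₄]⟩

theorem U_le_B : U ≤ Bm 2 T := by
  obtain ⟨A, hA⟩ := exists_maxAb 2 T
  exact (le_sup_right.trans (h.off h.UT hA (hA.le_J.trans h.JH)).2.2.le_J).trans (J_le_Bm 2 T)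

theorem swap_mem (hA : MaxAb 2 T A) (hσ : σ ∈ PP s A) (x : α) : swap x (σ x) ∈ PP s A := by
  rcases eq_or_ne (σ x) x with e | hx
  · rw [e, swap_self]; exact one_mem _
  have n := hA.le_J.trans h.JH
  have e' : (PP s A).map toP = s.im A := map_comap_eq_self ((s.im_mono n).trans (h.nr.trans (norm_le_PS h.ho h.h3)))
  refine (k1_perm h.ho (elem_of_map h.ho (e'.symm ▸ s.im_elem (abExp_iff_isElementaryAbelian.1 hA.abExp)))).2 ?_ σ hσ x hx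
  rw [← card_map_of_injective (toP_injective h.ho), e']
  exact (h.off h.UT hA n).1.le

theorem fix_of_J {v : Ev α} (k : ∀ A, MaxAb 2 T A → ∀ σ ∈ PP s A, toP σ v = v) (hg : g ∈ Bm 2 T) : s.θ g v = v := by
  have hJ : J 2 T ≤ s.cm (stabM v) := J_le_iff.2 fun A hA g hg =>
    have n := h.JH (hA.le_J hg)
    let ⟨σ, e⟩ := h.perm n
    s.mem_cm.2 ⟨h.nn n, mem_stabM.2 (e ▸ k A hA σ (PP_of hg e))⟩
  exact h.B_fix h.UT h.JH (mem_fixM.2 fun r hr => mem_stabM.1 ((s.le_cm_iff.1 hJ).2 hr)) hg (h.nn (h.BH hg))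

theorem fix_pr (hxy : x ≠ y) (hs : swap x y ∈ PP s (J 2 T)) (hg : g ∈ Bm 2 T) : s.θ g (pr x y) = pr x y :=
  have hp := h.pgroup (J_le 2 T)
  h.fix_of_J (fun A hA σ hσ => by
    rw [toP_pr]
    exact pr_eq_of (fun e => hxy (σ.injective e)) ((eq_or_ne (σ x) x).imp_right fun k' =>
      swap_pair hp hxy k'.symm hs (PP_mono hA.le_J (h.swap_mem hA hσ x))) ((eq_or_ne (σ y) y).symm.imp_left fun k' =>
      swap_pair hp hxy.symm k'.symm (swap_comm x y ▸ hs) (PP_mono hA.le_J (h.swap_mem hA hσ y)))) hg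

theorem fv_cases (hxy : x ≠ y) (hs : swap x y ∈ PP s (J 2 T)) (hg : g ∈ Bm 2 T) :
    ⁅s.σ (fv h.ho x), g⁆ = 1 ∨ ⁅s.σ (fv h.ho x), g⁆ = s.σ (pr x y) := by
  obtain ⟨σ, e⟩ := h.perm (h.BH hg)
  have k := h.fix_pr hxy hs hg
  rw [← e, toP_pr] at k
  refine h.comm_of (h.BH hg) (s.σ_mem _) (s.σ_mem _) ?_
  rw [s.ψ_σ, s.ψ_σ, ← e, toP_fv]
  exact (pair_of_pr (fun e => hxy (σ.injective e)) k).1.imp (fun k => by rw [k]) fun k => by
    rw [k, ← fv_add h.ho, ← add_assoc, Ev.add_self, zero_add]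

theorem orbit (x : α) : ∃ w ∈ U, ∀ g ∈ Bm 2 T, ⁅s.σ (fv h.ho x), g⁆ = 1 ∨ ⁅s.σ (fv h.ho x), g⁆ = w := by
  by_cases k : ∀ A, MaxAb 2 T A → ∀ σ ∈ PP s A, σ x = x
  · exact ⟨1, one_mem _, fun g hg => h.comm_of (h.BH hg) (s.σ_mem _) (one_mem _) (.inl (by
      rw [s.ψ_σ]; exact h.fix_of_J (fun A hA σ hσ => by rw [toP_fv, k A hA σ hσ]) hg))⟩
  push Not at k
  obtain ⟨A, hA, σ, hσ, k⟩ := k
  exact ⟨_, s.σ_mem _, fun g => h.fv_cases k.symm (PP_mono hA.le_J (h.swap_mem hA hσ x))⟩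

theorem exists_swap : ∃ A, MaxAb 2 T A ∧ ∃ x y, x ≠ y ∧ swap x y ∈ PP s A := by
  obtain ⟨A, hA⟩ := not_forall.1 fun k => h.nc (J_le_iff.2 k)
  obtain ⟨hA, hc⟩ := Classical.not_imp.1 hA
  obtain ⟨g, hg, hg'⟩ := SetLike.not_le_iff_exists.1 hc
  have n := h.JH (hA.le_J hg)
  obtain ⟨σ, e⟩ := h.perm n
  obtain ⟨x, hx⟩ := not_forall.1 fun k' : ∀ x, σ x = x => hg' ((h.θ_eq_one n).1 (by
    rw [← e, show σ = 1 from Equiv.ext k', map_one]))
  exact ⟨A, hA, x, σ x, Ne.symm hx, h.swap_mem hA (PP_of hg e) x⟩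

theorem sylow (hX : X ≤ T) (l : T ⊓ E ≤ X) (hxy : x ≠ y) (hs : swap x y ∈ PP s X) : IsSylowIn 2 (PP s X) ⊤ := by
  have k := s.im_sylow h.syl (h.EH.trans h.nn)
  rw [h.eE] at k
  exact sylow_of_swap (k.comap_of_ker (by
    rw [(MonoidHom.ker_eq_bot_iff _).2 (toP_injective h.ho), inf_bot_eq]; exact IsPGroup.of_bot))
      (inf_le_right.trans (PP_mono l)) (h.pgroup hX) hxy hs

theorem exists_mt : ∃ z π, Mt (PP s (T ⊓ H)) z π := by
  obtain ⟨A, hA, x, y, hxy, hs⟩ := h.exists_swap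
  obtain ⟨z, hz⟩ := exists_fixed_pt h.ho (h.pgroup (inf_le_left : T ⊓ H ≤ T))
  exact ⟨z, Blk.exists_mt (h.sylow inf_le_left (inf_le_inf_left _ h.EH) hxy
    (PP_mono (le_inf hA.le (hA.le_J.trans h.JH)) hs)) hz⟩

end SP2

/-- A block of symmetric type. -/
structure SY (T M₀ : Subgroup G) (a : ActS (RS α) E (WE 2 E) (ZW 2 E)) : Prop extends CM 2 T M₀ where
  ho : Odd (Fintype.card α)
  h3 : 3 ≤ Fintype.card α
  blk : Blk 2 T E
  zw : ZW 2 E = ⊥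
  syl' : IsSylowIn 2 (T ⊓ E) E

/-- The block extended by its normalizer in `T`. -/
abbrev HE (T E : Subgroup G) : Subgroup G := E ⊔ T ⊓ N(E)

omit [Finite G] in
theorem HE_le : HE T E ≤ N(E) := sup_le le_normalizer inf_le_right

/-- The elements fixing all pairs but one. -/
noncomputable def FX (a : ActS (RS α) E (WE 2 E) (ZW 2 E)) (π : α → α) (x : α) : Subgroup G :=
  E ⊓ ⨅ c, ⨅ (_ : c ≠ x ∧ c ≠ π x), a.cm (stabM (pr c (π c)))

/-- A commutator of order two generated by the Baumann subgroup in two ways. -/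
structure Tri (T : Subgroup G) (t u w : G) : Prop where
  tB : t ∈ Bm 2 T
  uB : u ∈ Bm 2 T
  ht : ∀ g ∈ Bm 2 T, ⁅t, g⁆ = 1 ∨ ⁅t, g⁆ = w
  hu : ∀ g ∈ Bm 2 T, ⁅u, g⁆ = 1 ∨ ⁅u, g⁆ = w
  eq : ⁅t, u⁆ = w

namespace SY
variable {a : ActS (RS α) E (WE 2 E) (ZW 2 E)} (h : SY T M₀ a)
include h

theorem WT : WE 2 E ≤ T := (h.blk.WE_le_Q h.syl h.hG).trans h.Q_le

theorem sp : SP2 T E N(E) a.toSect := ⟨⟨model_sym h.ho h.h3, WE_elem 2 E, norm_NN 2 E, a.im_norm le_rfl,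
  (h.blk.inf_rel le_rfl).le.trans inf_le_right⟩, h.ho, h.h3, h.zw, h.syl, h.WT, h.blk.B_norm, le_normalizer, a.eq, h.syl',
    h.blk.not_J_cent h.syl h.hG⟩

theorem NC_E : ⁅NC 2 E, E⁆ ≤ WE 2 E := (h.blk.NC_comm' le_rfl).trans h.blk.core_two.le

theorem ker_le : HE T E ⊓ C(WE 2 E) ≤ T := by
  have p₁ := h.pT.to_le (inf_le_left : T ⊓ N(E) ≤ T)
  have s := (isSylowIn_self p₁).sup h.syl' inf_le_right (le_normalizer_inf (inf_le_left.trans le_normalizer) inf_le_right)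
  rw [sup_comm _ E] at s
  refine (s.le_of_le_normalizer' inf_le_left (isPGroup_of_pResidualOf_le (pCoreOf_isPGroup 2 E) ((le_inf
    ((pResidualOf_mono inf_le_left).trans (pResidualOf_sup_le p₁ inf_le_right)) ((pResidualOf_le 2 _).trans
      inf_le_right)).trans h.blk.faith')) (le_normalizer_inf (s.le.trans le_normalizer) ((s.le.trans HE_le).trans
        (norm_C 2 E)))).trans (sup_le inf_le_left inf_le_left)

theorem mem_of_θ (hX : T ≤ X) (hg : g ∈ HE T E) (hg' : g' ∈ HE T E) (m : g' ∈ X) (e : a.θ g' = a.θ g) : g ∈ X :=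
  (mul_mem_cancel_left (inv_mem m)).1 (hX (h.ker_le (mem_inf.2 ⟨mul_mem (inv_mem hg') hg,
    h.blk.cent_of_θ_eq a.toSect (HE_le hg') (HE_le hg) e⟩)))

theorem mem_of_PP (hX : T ≤ X) (hg : g ∈ HE T E) (e : toP σ = a.θ g) (m : σ ∈ PP a.toSect (HE T E ⊓ X)) : g ∈ X :=
  let ⟨_, hg', e'⟩ := (mem_PP (inf_le_left.trans (HE_le.trans (norm_NN 2 E)))).1 m
  h.mem_of_θ hX hg hg'.1 hg'.2 (e'.trans e)

theorem onto (σ : Perm α) : ∃ g ∈ HE T E, a.θ g = toP σ := by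
  obtain ⟨A, hA, x, y, hxy, hs⟩ := h.sp.exists_swap
  have ev : ∀ σ ∈ alternatingGroup α, σ ∈ PP a.toSect (HE T E) := fun σ hσ =>
    let ⟨_, hg, e⟩ := h.sp.even hσ; PP_of (mem_sup_left hg) e.symm
  refine (mem_PP (HE_le.trans (norm_NN 2 E))).1 ?_
  by_cases k : σ ∈ alternatingGroup α
  · exact ev σ k
  · exact (mul_mem_cancel_right (PP_mono ((le_inf hA.le (hA.le_J.trans h.sp.JH)).trans le_sup_right) hs)).1
      (ev _ (mul_swap_mem hxy k))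

theorem cent_Z (hg : g ∈ E) (k : ∀ v, (∀ t ∈ T ⊓ N(E), a.θ t v = v) → a.θ g v = v) :
    g ∈ (C(omegaOneCenter 2 T) : Subgroup G) := fun y hy => by
  have l := inf_centralizer_le_sup_commutator V_elem.1 (isPGroup_of_isElementaryAbelian V_elem) (nV 2 E) h.syl'
    ⟨h.Z_le hy, centralizer_anti inf_le_left (omegaOneCenter_le_centralizer 2 T hy)⟩
  rw [h.blk.res, sup_comm] at l
  obtain ⟨u, hu, c, hc, rfl⟩ := (mem_sup_iff_of_le_normalizer (le_normalizer_of_le_centralizer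
    ((h.blk.WE_le_V h.syl h.hG).trans (V_comm.trans (centralizer_anti inf_le_left))))).1
      (sup_le_sup_right (h.blk.VE h.syl h.hG) _ l)
  have hf : ∀ t ∈ T ⊓ N(E), a.θ t (a.ψ u) = a.ψ u := fun t ht => by
    have n := norm_NN 2 E ht.2
    have e := conj_eq_of_cent' (omegaOneCenter_le_centralizer 2 T hy) ht.1
    have k : u⁻¹ * (t * u * t⁻¹) ∈ ZW 2 E := mem_inf.2 ⟨mul_mem (inv_mem hu) (conj_mem_of_norm n.1 hu), by
      rw [show u⁻¹ * (t * u * t⁻¹) = u⁻¹ * (t * (u * c) * t⁻¹) * (t * c * t⁻¹)⁻¹ by group, e, inv_mul_cancel_left]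
      exact mul_mem hc.2 (inv_mem (conj_mem_of_norm (le_normalizer_centralizer le_rfl ht.2) hc.2))⟩
    rw [a.θ_ψ n hu, ← inv_mul_eq_one.1 (mem_bot.1 (h.zw.le k))]
  have e₁ := h.sp.conj_eq (le_normalizer hg) hu (k _ hf)
  have e₂ := conj_eq_of_cent' hc.2 hg
  calc u * c * g = g * u * g⁻¹ * (g * c * g⁻¹) * g := by rw [e₁, e₂]
    _ = g * (u * c) := by group

theorem exists_t (hX : X ≤ E) (hM : ¬ X ≤ M₀) : ∃ t ∈ Bm 2 T, t * t = 1 ∧ t ∉ rel (WE 2 E) X ∧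
    ∃ w, ∀ g ∈ Bm 2 T, ⁅t, g⁆ = 1 ∨ ⁅t, g⁆ = w := by
  have WB := h.sp.U_le_B
  obtain ⟨φ, hφ⟩ := h.exists_tw hM WB h.blk.WE_ne_bot
  by_contra! hn
  refine hφ ((commutator_comm _ _).le.trans (comm_le_of_le_rel ?_))
  have key : ∀ u : Bm 2 T, (u : G) ∈ tw φ.symm (rel (WE 2 E) X) ↔ (φ u : G) ∈ rel (WE 2 E) X := fun u => by
    rw [← mem_tw' φ.symm (x := φ u), φ.symm_apply_apply]
  rintro _ ⟨u, hu, rfl⟩
  refine (key u).1 (h.sp.le_of_fv (fun x => (key ⟨_, WB (a.σ_mem _)⟩).2 (by_contra fun k => ?_)) hu)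
  obtain ⟨w, hw, k'⟩ := h.sp.orbit x
  obtain ⟨g, hg, h₁, h₂⟩ := hn _ (φ _).2 (by
    rw [← coe_mul, ← map_mul, show (⟨_, WB (a.σ_mem (fv h.ho x))⟩ : Bm 2 T) * ⟨_, WB (a.σ_mem (fv h.ho x))⟩ = 1 from
      Subtype.ext ((pow_two _).symm.trans ((WE_elem 2 E).2 _ (a.σ_mem _))), map_one, coe_one]) k (φ ⟨w, WB hw⟩)
  exact (tw_orbit φ (tw_self φ) (u := ⟨_, WB (a.σ_mem _)⟩) (w := ⟨w, WB hw⟩) k' g hg).elim h₁ h₂

variable (m : Mt (PP a.toSect (T ⊓ N(E))) z π)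
include m

theorem J_swap (x : α) : swap x (π x) ∈ PP a.toSect (J 2 T) := by
  rcases eq_or_ne x z with rfl | hx
  · rw [m.πz, swap_self]; exact one_mem _
  have s := h.sp
  obtain ⟨A, hA, c, d, hcd, hs⟩ := s.exists_swap
  have n := hA.le_J.trans s.JH
  obtain ⟨t, ht, e₁⟩ := (mem_PP (n.trans s.nn)).1 hs
  obtain ⟨g, hg, τ, e₂, e₃, -⟩ := s.exists_conj hcd (m.ne x hx).symm
  have e₄ := θ_conj_swap (a.norm hg) (s.nn (n ht)) e₂ e₁
  rw [e₃] at e₄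
  have l : T ⊓ NC 2 E ≤ T := inf_le_left
  have nK : E ≤ N(T ⊓ NC 2 E) := le_normalizer_of_commutator_le ((commutator_mono inf_le_right le_rfl).trans
    (h.NC_E.trans (le_inf h.WT (le_inf ((WE_le_E 2 E).trans le_normalizer)
      (le_centralizer_of_isElementaryAbelian (WE_elem 2 E))))))
  have cW := le_centralizer_of_isElementaryAbelian (WE_elem 2 E)
  have tH : t ∈ HE T E := mem_sup_right ⟨hA.le ht, n ht⟩
  have hA' := (s.off s.UT hA n).2.2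
  refine PP_of (mem_J_of_conj (w := a.σ (pr c d)) hA' ((pow_two t).symm.trans (hA.abExp.pow ht))
    (fun k => hcd ((swap_apply_left c d).symm.trans (by
      rw [toP_injective h.ho (e₁.symm.trans ((a.θ_of_cent (sup_le inf_le_right cW k)).trans (map_one _).symm))]; rfl)).symm)
    (fun b hb => ?_) ((conj_le_of_mem_normalizer (le_inf hA'.le (le_inf (hA'.le_J.trans s.JH) (sup_le inf_le_right cW)))
      (nK hg)).trans l) (h.mem_of_PP le_rfl (mul_mem (mul_mem (mem_sup_left hg) tH) (inv_mem (mem_sup_left hg))) e₄.symm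
        (PP_mono (le_inf le_sup_right inf_le_left) (m.mem x)))) e₄.symm
  obtain ⟨b, hb', u, hu, rfl⟩ := (mem_sup_iff_of_le_normalizer (le_normalizer_of_le_centralizer inf_le_right)).1 hb
  rw [comm_mul_right, commutatorElement_eq_one_iff_mul_comm.2 (hA.abExp.comm ht hb'.1), one_mul,
    conj_eq_of_cent hb'.2 (comm_mem_swap (comm_mem_of_norm (s.nn (n ht)).1 hu))]
  refine s.comm_swap (a.σ_mem _) (s.comm_of (n ht) hu (a.σ_mem _) ?_)
  rw [e₁, toP_swap, a.ψ_σ]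
  rcases z2_cases ((a.ψ u).1 c + (a.ψ u).1 d) with e | e <;> rw [e]
  exacts [.inl (by rw [zero_smul, add_zero]), .inr (by rw [one_smul])]

theorem norm_J (hg : g ∈ HE T E) (e : toP τ = a.θ g) (hτ : τ ∈ (N(D0 (PP a.toSect (T ⊓ N(E)))) : Subgroup _)) :
    g ∈ (N(J 2 T) : Subgroup G) := by
  have s := h.sp
  have l₁ : HE T E ⊓ a.cm ((D0 (PP a.toSect (T ⊓ N(E)))).map toP) ≤ T := fun x hx =>
    let ⟨_, hσ, e⟩ := (a.mem_cm.1 hx.2).2
    h.mem_of_PP le_rfl hx.1 e (PP_mono (le_inf le_sup_right inf_le_left) (m.D0_le hσ))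
  have l₂ : J 2 T ≤ HE T E ⊓ a.cm ((D0 (PP a.toSect (T ⊓ N(E)))).map toP) := J_le_iff.2 fun A hA x hx =>
    have l := le_inf hA.le (hA.le_J.trans s.JH)
    let ⟨σ, e⟩ := s.perm (l hx).2
    ⟨mem_sup_right (l hx), a.mem_cm.2 ⟨s.nn (l hx).2, σ, fun y => PP_mono l (s.swap_mem hA (PP_of hx e) y), e⟩⟩
  rw [← J_eq_of_J_le l₂ l₁]
  exact normalizer_le_normalizer_J 2 _ (le_normalizer_inf (inf_le_left.trans le_normalizer) (a.norm_cm
    (inf_le_right.trans a.cm_le) ((a.le_cm_iff.1 inf_le_right).2.trans (le_normalizer_map toP le_rfl)))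
      (mem_inf.2 ⟨hg, a.mem_cm.2 ⟨s.nn (HE_le hg), τ, hτ, e⟩⟩))

theorem stab_le (hg : g ∈ HE T E) (e : toP σ = a.θ g) (hz : σ z = z) : g ∈ M₀ := by
  have l : PP a.toSect (T ⊓ N(E)) ≤ PP a.toSect (HE T E ⊓ M₀) := PP_mono (le_inf le_sup_right (inf_le_left.trans h.T_le))
  refine h.mem_of_PP h.T_le hg e (m.stab_le l (fun τ hτ => ?_) (fun c τ hτ => ?_) hz)
  · obtain ⟨g, hg, e⟩ := h.onto τ
    exact PP_of ⟨hg, h.NJ_le (h.norm_J m hg e.symm hτ)⟩ e.symm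
  rcases eq_or_ne (τ c) c with e | hc
  · rw [e, swap_self]; exact one_mem _
  obtain ⟨x, hx, -⟩ := exists_third' h.h3 z z
  obtain ⟨g, hg, e⟩ := h.sp.even (mul_swap_mem (σ := swap c (τ c)) (m.ne x hx).symm (by
    rw [Perm.mem_alternatingGroup, Perm.sign_swap hc.symm]; decide))
  refine (mul_mem_cancel_right (l (m.mem x))).1 (PP_of ⟨mem_sup_left hg, h.hz (h.cent_Z hg fun v hv => ?_)⟩ e.symm)
  have key : ∀ σ ∈ PP a.toSect (T ⊓ N(E)), toP σ v = v := fun σ hσ =>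
    let ⟨t, ht, e⟩ := (mem_PP (inf_le_right.trans (norm_NN 2 E))).1 hσ
    e ▸ hv t ht
  have := toP_apply' τ v c
  rw [key τ hτ] at this
  rw [e, map_mul, aut_mul, key _ (m.mem x), toP_swap, this, z2_add_self, zero_smul, add_zero]

variable (hM : ¬ E ≤ M₀)
include hM

theorem mem_iff (hg : g ∈ HE T E) (e : toP σ = a.θ g) : g ∈ M₀ ↔ σ z = z := ⟨fun k => by_contra fun hz => hM fun y hy =>
  let ⟨τ, e'⟩ := h.sp.perm (le_normalizer hy)
  h.mem_of_PP h.T_le (mem_sup_left hy) e' (eq_top_of_stab (fun σ' k' =>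
    let ⟨_, hg', e⟩ := h.onto σ'
    PP_of (mem_inf.2 ⟨hg', h.stab_le m hg' e.symm k'⟩) e.symm) (PP_of (mem_inf.2 ⟨hg, k⟩) e) hz τ), h.stab_le m hg e⟩

theorem FX_not_le (hx : x ≠ z) : ¬ FX a π x ≤ M₀ := fun k => by
  have n := (m.ne x hx).symm
  obtain ⟨g, hg, e⟩ := h.sp.even (mul_swap_mem (σ := swap x z) n (by
    rw [Perm.mem_alternatingGroup, Perm.sign_swap hx]; decide))
  have := (h.mem_iff m hM (mem_sup_left hg) e.symm).1 (k ⟨hg, mem_iInf.2 fun c => mem_iInf.2 fun hc => a.mem_cm.2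
    ⟨a.norm hg, mem_stabM.2 ?_⟩⟩)
  · rw [Perm.mul_apply, swap_apply_of_ne_of_ne hx.symm (m.ne_z hx).symm, swap_apply_right] at this
    exact hx this
  rcases eq_or_ne c z with rfl | hc'
  · rw [m.πz, pr_self, map_zero]
  have k₁ : π c ≠ x := fun e => hc.2 (m.eq_π e.symm)
  have k₂ : π c ≠ π x := fun e => hc.1 ((m.eq_π e).trans (m.inv c)).symm
  rw [e, toP_pr, Perm.mul_apply, Perm.mul_apply, swap_apply_of_ne_of_ne hc.1 hc.2, swap_apply_of_ne_of_ne hc.1 hc',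
    swap_apply_of_ne_of_ne k₁ k₂, swap_apply_of_ne_of_ne k₁ (m.ne_z hc')]

omit hM in
theorem pair_of (ht : t ∈ Bm 2 T) (hc : t ∉ (C(WE 2 E) : Subgroup G)) (k : ∀ g ∈ Bm 2 T, ⁅t, g⁆ = 1 ∨ ⁅t, g⁆ = w) :
    w ∈ WE 2 E ∧ ∀ x, ((FX a π x ≤ C(zpowers w) ∧ t ∈ rel (WE 2 E) (FX a π x)) ∨
      (a.θ t = toP (swap x (π x)) ∧ a.ψ w = pr x (π x))) := by
  have s := h.sp
  obtain ⟨c, d, hcd, e₁, hw, e₂⟩ := s.swap_of (s.BH ht) hc fun u hu => k u (s.U_le_B hu)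
  obtain rfl := (m.uniq (PP_of ⟨Bm_le 2 T ht, s.BH ht⟩ e₁.symm)).resolve_left hcd.symm
  refine ⟨hw, fun x => ?_⟩
  by_cases k : c ≠ x ∧ c ≠ π x
  · have key : ∀ g ∈ FX a π x, a.θ g (pr c (π c)) = pr c (π c) := fun g hg =>
      (a.mem_cm.1 (mem_iInf.1 (mem_iInf.1 hg.2 c) k)).2
    refine .inl ⟨fun g hg => mem_cent_zp.2 (mul_inv_eq_iff_eq_mul.1 (s.conj_eq (le_normalizer hg.1) hw
      (e₂ ▸ key g hg))), mem_rel.2 ⟨(s.nn (s.BH ht)).1, fun g hg => h.blk.core_two.le (h.blk.faith'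
        ⟨comm_mem_of_norm (s.BH ht) hg.1, ?_⟩)⟩⟩
    obtain ⟨τ, e⟩ := s.perm (le_normalizer hg.1)
    have e₃ := θ_conj_swap (a.norm hg.1) (s.nn (s.BH ht)) e e₁
    rw [swap_eq_of_pr (x := c) (y := π c) (fun k => hcd (τ.injective k)) (by rw [← toP_pr, e, key g hg]), ← e₁] at e₃
    have n := conj_mem_of_norm (le_normalizer_normalizer le_normalizer hg.1) (s.BH ht)
    have := inv_mem (h.blk.cent_of_θ_eq a.toSect (inv_mem n) (inv_mem (s.BH ht)) (by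
      rw [a.θ_inv (s.nn n), a.θ_inv (s.nn (s.BH ht)), e₃]))
    rwa [inv_mem_iff, inv_inv] at this
  · rw [not_and_or, not_not, not_not] at k
    rcases k with rfl | rfl
    · exact .inr ⟨e₁, e₂⟩
    · rw [m.inv] at e₁ e₂
      exact .inr ⟨by rw [e₁, swap_comm], by rw [e₂, pr_comm]⟩

theorem exists_tri (hx : x ≠ z) : ∃ t u, t * t = 1 ∧ a.θ t = toP (swap x (π x)) ∧ Tri T t u (a.σ (pr x (π x))) := by
  have s := h.sp
  have n := (m.ne x hx).symm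
  obtain ⟨t, ht, h2, h₁, w, h₂⟩ := h.exists_t inf_le_left (h.FX_not_le m hM hx)
  obtain ⟨hw, k⟩ := h.pair_of m ht (fun k => h₁ (mem_rel.2 ⟨(s.nn (s.BH ht)).1, fun g hg => comm_mem_swap
    (h.NC_E (commutator_mem_commutator (mem_inf.2 ⟨s.BH ht, k⟩) hg.1))⟩)) h₂
  obtain ⟨e₁, e₂⟩ := (k x).resolve_left fun k => h₁ k.2
  obtain rfl := s.inj hw (a.σ_mem _) (e₂.trans (a.ψ_σ _).symm)
  refine ⟨t, a.σ (fv h.ho x), h2, e₁, ht, s.U_le_B (a.σ_mem _), h₂, fun g => s.fv_cases n (h.J_swap m x),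
    (h₂ _ (s.U_le_B (a.σ_mem _))).resolve_left fun k => n (fv_injective h.ho ?_)⟩
  have := a.θ_ψ (s.nn (s.BH ht)) (a.σ_mem (fv h.ho x))
  rwa [commutatorElement_eq_one_iff_mul_comm.1 k, mul_inv_cancel_right, a.ψ_σ, e₁, toP_fv, swap_apply_left, eq_comm] at this

omit hM in
theorem of_tri (k : Tri T t u w) (hn : ¬ FX a π x ≤ C(zpowers w)) : w = a.σ (pr x (π x)) := by
  have key : ∀ t ∈ Bm 2 T, t ∉ (C(WE 2 E) : Subgroup G) → (∀ g ∈ Bm 2 T, ⁅t, g⁆ = 1 ∨ ⁅t, g⁆ = w) →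
      w = a.σ (pr x (π x)) := fun t ht hc k =>
    let ⟨hw, k'⟩ := h.pair_of m ht hc k
    h.sp.inj hw (a.σ_mem _) (((k' x).resolve_left fun k => hn k.1).2.trans (a.ψ_σ _).symm)
  by_contra hw
  have c : WE 2 E ≤ C(NC 2 E) := le_centralizer_iff.1 inf_le_right
  refine hn (inf_le_left.trans (le_centralizer_iff.1 (zpowers_le_of_mem (k.eq ▸ three_cent (h.NC_E.trans c)
    ((commutator_comm _ _).le.trans (h.NC_E.trans c)) (commutator_mem_commutator (mem_inf.2 ⟨h.blk.B_norm k.tB,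
      by_contra fun k' => hw (key _ k.tB k' k.ht)⟩) (mem_inf.2 ⟨h.blk.B_norm k.uB,
        by_contra fun k' => hw (key _ k.uB k' k.hu)⟩))))))

end SY

end Cfsg.Agent.Lib.Blk
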