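import Cfsg.Agent.Lib.CgD
import Cfsg.Agent.Lib.CgRep

/-! The module `Ω₁ Z O_p(G)` of the minimal counterexample. -/

set_option autoImplicit false
open Cfsg

namespace Cfsg.Agent.Lib.Blk

open Subgroup Cfsg.Agent.Lib.PCoreConj Cfsg.Agent.Lib.PCore Cfsg.Agent.Lib.PCoreResidual Cfsg.Agent.Lib.PCoreMod
open Cfsg.Agent.Lib.ThompsonJ Cfsg.Agent.Lib.PushBase Cfsg.Agent.Lib.PIrred
open Cfsg.Agent.Lib.FFRep hiding rel stab mem_rel mem_stab le_rel_iff card_le_of_le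
open Cfsg.Agent.Lib.EMod hiding ext mk
open Cfsg.Agent.Lib.SL2Amb Cfsg.Agent.Lib.MinParFF Cfsg.Agent.Lib.TIOff
open scoped Pointwise commutatorElement MatrixGroups

universe u
variable {G : Type u} [Group G] {p : ℕ} {T E H K X Y S A P W R M₀ : Subgroup G} {g x y z w u : G}

/-- The module `Ω₁ Z O_p(G)`. -/
abbrev VM (p : ℕ) (G : Type u) [Group G] := EM (V_elem (p := p) (G := G))

/-- The conjugation action. -/
noncomputable def r0 (p : ℕ) (G : Type u) [Group G] [Fact p.Prime] : Representation (ZMod p) G (VM p G) :=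
  arep V_elem (MonoidHom.id G) fun x => nV p ⊤ (mem_top x)

/-- The group acting faithfully. -/
abbrev GB (p : ℕ) (G : Type u) [Group G] [Fact p.Prime] := G ⧸ cent (r0 p G) ⊤

/-- The projection. -/
noncomputable abbrev φV (p : ℕ) (G : Type u) [Group G] [Fact p.Prime] : G →* GB p G := QuotientGroup.mk' _

/-- The faithful action. -/
noncomputable abbrev rV (p : ℕ) (G : Type u) [Group G] [Fact p.Prime] : Representation (ZMod p) (GB p G) (VM p G) :=
  quo (r0 p G)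

variable [hp : Fact p.Prime]

theorem φV_surj : Function.Surjective (φV p G) := QuotientGroup.mk'_surjective _

theorem cent_r0 : cent (r0 p G) ⊤ = C(VG p G) := by rw [r0, cent_arep_top, comap_id]

theorem φV_ker : (φV p G).ker = C(VG p G) := (QuotientGroup.ker_mk' _).trans cent_r0

theorem φV_eq_one : φV p G x = 1 ↔ x ∈ (C(VG p G) : Subgroup G) := by rw [← φV_ker]; rfl

theorem φV_eq : φV p G x = φV p G y ↔ x⁻¹ * y ∈ (C(VG p G) : Subgroup G) := by
  rw [← φV_eq_one, map_mul, map_inv, inv_mul_eq_one]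

theorem val_rV (x : G) (v : VM p G) : (rV p G (φV p G x) v).val = x * v.val * x⁻¹ := rfl

theorem val_rV_sub (x : G) (v : VM p G) : (rV p G (φV p G x) v - v).val = ⁅x, v.val⁆ := by
  rw [val_sub, val_rV, commutatorElement_def]

theorem toSub_fixV (X : Subgroup G) : toSub (fix (rV p G) (X.map (φV p G))) = VG p G ⊓ C(X) := by
  rw [fix_quo, r0, toSub_fix, Subgroup.map_id]

theorem mem_fixV {v : VM p G} : v ∈ fix (rV p G) (X.map (φV p G)) ↔ v.val ∈ (C(X) : Subgroup G) := by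
  rw [← val_mem_toSub, toSub_fixV]; exact and_iff_right (val_mem v)

theorem toSub_comV (X : Subgroup G) : toSub (com (rV p G) ⊤ (X.map (φV p G))) = ⁅VG p G, X⁆ := by
  rw [com_quo, r0, toSub_com_top, Subgroup.map_id]

theorem com_le_fixV : com (rV p G) ⊤ (X.map (φV p G)) ≤ fix (rV p G) (Y.map (φV p G)) ↔ ⁅VG p G, X⁆ ≤ C(Y) := by
  rw [← toSub_le_toSub, toSub_comV, toSub_fixV, le_inf_iff, and_iff_right (commutator_le_left_of_le_normalizer (nV p X))]

theorem fix_le_fixV : fix (rV p G) (X.map (φV p G)) ≤ fix (rV p G) (Y.map (φV p G)) ↔ VG p G ⊓ C(X) ≤ C(Y) := by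
  rw [← toSub_le_toSub, toSub_fixV, toSub_fixV, le_inf_iff, and_iff_right inf_le_left]

theorem card_fixV (X : Subgroup G) : Nat.card (fix (rV p G) (X.map (φV p G))) = Nat.card ↥(VG p G ⊓ C(X)) := by
  rw [← card_toSub, toSub_fixV]

theorem card_inf_fixV (hW : W ≤ VG p G) (X : Subgroup G) :
    Nat.card ↥(ofSub V_elem W ⊓ fix (rV p G) (X.map (φV p G))) = Nat.card ↥(W ⊓ C(X)) := by
  rw [← card_toSub, toSub_inf, toSub_fixV, toSub_ofSub_of_le hW, ← inf_assoc, inf_eq_left.2 hW]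

theorem card_ofSubV (hW : W ≤ VG p G) : Nat.card (ofSub (V_elem (p := p) (G := G)) W) = Nat.card W := by
  rw [card_ofSub, inf_eq_right.2 hW]

theorem card_mapV (X : Subgroup G) : Nat.card X = Nat.card (X.map (φV p G)) * Nat.card ↥(X ⊓ C(VG p G)) := by
  rw [card_eq_card_map_mul (φV p G) X, φV_ker]

theorem map_comapV (D : Subgroup (GB p G)) : (D.comap (φV p G)).map (φV p G) = D :=
  map_comap_eq_self_of_surjective φV_surj D

theorem comap_mapV (X : Subgroup G) : (X.map (φV p G)).comap (φV p G) = X ⊔ C(VG p G) := by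
  rw [comap_map_eq, φV_ker]

theorem CV_le_comap (D : Subgroup (GB p G)) : (C(VG p G) : Subgroup G) ≤ D.comap (φV p G) :=
  φV_ker.ge.trans (ker_le_comap _ D)

theorem of_elemV (h : IsElementaryAbelian p (X.map (φV p G))) :
    ⁅X, X⁆ ≤ C(VG p G) ∧ ∀ x ∈ X, x ^ p ∈ (C(VG p G) : Subgroup G) :=
  ⟨commutator_le.2 fun x hx y hy => φV_eq_one.1 (by
    rw [map_commutatorElement, commutatorElement_eq_one_iff_mul_comm]
    exact comm_of_elem h _ (mem_map_of_mem _ hx) _ (mem_map_of_mem _ hy)),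
    fun x hx => φV_eq_one.1 (by rw [map_pow]; exact h.2 _ (mem_map_of_mem _ hx))⟩

theorem ms_V (hW : W ≤ VG p G) (X : Subgroup G) :
    ms (rV p G) (ofSub V_elem W) (X.map (φV p G)) * Nat.card ↥(X ⊓ C(VG p G)) =
      Nat.card X * Nat.card ↥(W ⊓ C(X)) := by
  rw [ms, card_inf_fixV hW, mul_right_comm, ← card_mapV]

theorem ms_V' (hW : W ≤ VG p G) (X : Subgroup G) :
    ms (rV p G) (ofSub V_elem W) ((X ⊓ C(W)).map (φV p G)) * Nat.card ↥(X ⊓ C(VG p G)) =
      Nat.card ↥(X ⊓ C(W)) * Nat.card W := by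
  have := ms_V hW (X ⊓ C(W))
  rwa [inf_assoc, inf_eq_right.2 (centralizer_anti hW), inf_eq_left.2 (le_centralizer_iff.1 inf_le_right)] at this

omit hp in
theorem Q_le_CV : pCore p G ≤ C(VG p G) := le_centralizer_omegaOneCenter p _

variable [Finite G] {q : ℕ}

theorem ti_cent (hD : TI (rV p G) q (X.map (φV p G))) (hW : W ≤ VG p G) (hn : ¬ X ≤ C(W)) : X ⊓ C(W) ≤ C(VG p G) :=
  fun x hx => by_contra fun k => hn (le_centralizer_iff.1 fun w hw => mem_fixV.1 (hD.ti _ (mem_map_of_mem _ hx.1)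
    (fun e => k (φV_eq_one.1 e)) (EMod.mk V_elem w (hW hw)) (EMod.ext (conj_eq_of_cent hx.2 hw))))

theorem ti_ineq (hD : TI (rV p G) q (X.map (φV p G))) (hW : W ≤ VG p G) (hn : ¬ X ≤ C(W)) :
    Nat.card ↥(X ⊓ C(W)) * Nat.card W ≤ Nat.card X * Nat.card ↥(W ⊓ C(X)) := by
  rw [← ms_V hW, ← ms_V' hW, (Subgroup.map_eq_bot_iff _).2 ((ti_cent hD hW hn).trans φV_ker.ge), ms_bot, ms, hD.card,
    inf_comm (ofSub _ W)]
  exact Nat.mul_le_mul_right _ (hD.card_inf_ge _)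

namespace MC
variable (h : MC p T M₀)
include h

theorem base : Base (rV p G) := base_of (cent_quo _) fun B hB => not_lt.1 fun k => by
  obtain ⟨X, rfl⟩ : ∃ X : Subgroup G, X.map (φV p G) = B := ⟨_, map_comapV B⟩
  refine hB.ne_bot ((Subgroup.map_eq_bot_iff _).2 ((h.ov_le_Q ⟨(of_elemV hB.elem).1, (of_elemV hB.elem).2,
    fun W hW _ hn => ?_⟩).trans (Q_le_CV.trans φV_ker.ge)))
  have l : (X ⊓ C(W)).map (φV p G) ≤ X.map (φV p G) := map_mono inf_le_left
  rw [← ms_V hW, ← ms_V' hW]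
  refine Nat.mul_lt_mul_of_pos_right (ms_lt_of_lt le_top l ?_) Nat.card_pos
  rcases eq_or_ne ((X ⊓ C(W)).map (φV p G)) ⊥ with e | e
  · rwa [e, ms_bot, card_top_submodule]
  · refine hB.lt _ l e fun e' => hn ((map_le_iff_le_comap.1 e'.ge).trans ?_)
    rw [comap_mapV]
    exact sup_le inf_le_right (centralizer_anti hW)

theorem noOv (hA : IsElementaryAbelian p A) :
    Nat.card A * Nat.card ↥(VG p G ⊓ C(A)) ≤ Nat.card ↥(A ⊓ C(VG p G)) * Nat.card (VG p G) := by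
  rw [← ms_V le_rfl, ofSub_self, mul_comm, ← card_em V_elem]
  exact Nat.mul_le_mul_left _ (h.base.noOver _ (isElementaryAbelian_map hA _))

theorem red (h₁ : SubnormalIn ⊤ X) (h₂ : ∀ x ∈ X, ∃ k, x ^ p ^ k ∈ (C(VG p G) : Subgroup G)) : X ≤ C(VG p G) :=
  (le_pCore_of_isSubnormal (subnormalIn_top_iff.1 h₁) (isPGroup_of_pow_mem ((pCore_isPGroup p G).to_le h.CV_le_Q)
    h₂)).trans Q_le_CV

theorem coreV : pCore p (GB p G) = ⊥ := (pCore_quotient_eq_bot_iff _).mpr fun N hN k => by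
  rw [cent_r0] at k ⊢
  exact h.red (SubnormalIn.of_normal le_top (normal_iff_top_le.mp hN)) k

theorem CV_le_T : (C(VG p G) : Subgroup G) ≤ T := h.CV_le_Q.trans h.Q_le

theorem comap_T : (T.map (φV p G)).comap (φV p G) = T := by rw [comap_mapV, sup_eq_left.2 h.CV_le_T]

omit [Finite G] in
theorem comap_M : (M₀.map (φV p G)).comap (φV p G) = M₀ := by rw [comap_mapV, sup_eq_left.2 h.CV_le]

theorem comap_le {D : Subgroup (GB p G)} (hD : D ≤ T.map (φV p G)) : D.comap (φV p G) ≤ T :=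
  (comap_mono hD).trans h.comap_T.le

theorem sylV : IsSylowIn p (T.map (φV p G)) ⊤ := h.syl.map_mk' _

theorem norm_of_ti (s : E ∈ EE p T M₀) (hX : X ≤ T) (hD : TI (rV p G) q (X.map (φV p G))) : X ≤ N(E) :=
  h.norm_of_ov s hX (of_elemV hD.elem).1 (of_elemV hD.elem).2 fun _ hW _ hn => ti_ineq hD hW hn

theorem V_NC (s : E ∈ EE p T M₀) : ⁅VG p G, NC p E⁆ ≤ C(E) :=
  three_cent (((EE.blk s).NC_comm' le_rfl).trans ((h.U_le_Q s).trans Q_le_CV))
    (((commutator_comm _ _).le.trans ((EE.blk s).VE h.syl h.hG)).trans (le_centralizer_iff.1 inf_le_right))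

end MC

/-- A subgroup inducing the transvection group on a block of linear type and centralizing a complement. -/
structure LY (T : Subgroup G) {F : Type*} [Field F] (a : ActS (RL F) E (WE p E) (ZW p E)) (v : Fin 2 → F)
    (Y : Subgroup G) : Prop where
  blk : Blk p T E
  WV : WE p E ≤ VG p G
  hv : v ≠ 0
  norm : Y ≤ N(E)
  im : a.im Y = UL v
  fx : a.pre (line v) ≤ C(Y)
  dec : VG p G ≤ WE p E ⊔ VG p G ⊓ C(Y)

theorem eq_zero_of_lines {F : Type*} [Field F] {v v' m : Fin 2 → F} (hv : v ≠ 0) (h : v' ∉ line v) (h₁ : m ∈ line v)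
    (h₂ : m ∈ line v') : m = 0 := by
  obtain ⟨c, rfl⟩ := (mem_line_iff hv).1 h₁
  rw [mem_line, det2_smul, det2_swap, mul_neg, neg_eq_zero, mul_eq_zero] at h₂
  rw [h₂.resolve_right h, zero_smul]

namespace LY
variable {F : Type*} [Field F] [Finite F] {a : ActS (RL F) E (WE p E) (ZW p E)} {v v' : Fin 2 → F} {Y' : Subgroup G}
  (h : LY T a v Y)
include h

omit hp [Finite G] [Finite F] in
theorem conj (he : g ∈ E) : LY T a (a.θ g v) (Y ^ᶜ g) := by
  obtain ⟨γ, e⟩ := RL_le_PL (a.θ_mem' he)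
  have n := a.norm he
  refine ⟨h.blk, h.WV, fun k => h.hv ((a.θ g).map_eq_zero_iff.1 k), conj_le_of_mem h.norm (le_normalizer he), ?_,
    fun w hw => ?_, ?_⟩
  · rw [a.im_conj n, h.im, ← e, conj_UL]
  · rw [← conj_centralizer, mem_conj_iff]
    have m := conj_mem_of_norm (inv_mem n).1 hw.1
    rw [inv_inv] at m
    refine h.fx ⟨m, ?_⟩
    have := hw.2
    rw [show w = g * (g⁻¹ * w * g) * g⁻¹ by group, ← a.θ_ψ n m, ← e, mem_line, det2_toA] at this
    exact this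
  · simpa only [conj_sup, conj_inf, conj_centralizer, conj_V, conj_eq_of_mem_normalizer n.1] using conj_mono g h.dec

omit hp [Finite G] [Finite F] in
theorem nn : Y ≤ NN (WE p E) (ZW p E) := h.norm.trans (norm_NN p E)

omit hp [Finite G] [Finite F] in
theorem exists_θ {r : AutM (Fin 2 → F)} (hr : r ∈ UL v) : ∃ y ∈ Y, a.θ y = r := (a.mem_im' h.nn).1 (h.im.ge hr)

omit hp [Finite G] [Finite F] in
theorem split (hu : u ∈ VG p G) : ∃ w ∈ WE p E, w⁻¹ * u ∈ (C(Y) : Subgroup G) ∧ ∀ y ∈ Y, ⁅u, y⁆ = ⁅w, y⁆ := by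
  obtain ⟨w, hw, c, hc, rfl⟩ := (mem_sup_iff_of_le_normalizer (le_normalizer_of_le_centralizer
    (h.WV.trans (V_comm.trans (centralizer_anti inf_le_left))))).1 (h.dec hu)
  exact ⟨w, hw, by rw [inv_mul_cancel_left]; exact hc.2, fun y hy => by
    rw [comm_mul_left, comm_eq_one_of_cent' hc.2 hy, mul_one, mul_inv_cancel, one_mul]⟩

omit [Finite F] in
theorem θ_ne (hy : y ∈ Y) (hc : y ∉ (C(WE p E) : Subgroup G)) : a.θ y ≠ 1 :=
  fun e => hc ((h.blk.θ_eq_one a.toSect (h.norm hy)).1 e)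

omit [Finite F] in
theorem key (hu : u ∈ VG p G) (hy : y ∈ Y) (hc : y ∉ (C(WE p E) : Subgroup G)) (k : ⁅u, y⁆ ∈ (C(E) : Subgroup G)) :
    u ∈ (C(Y) : Subgroup G) := by
  obtain ⟨w, hw, h₁, h₂⟩ := h.split hu
  rw [h₂ y hy] at k
  exact (mul_mem_cancel_left (inv_mem (h.fx ⟨hw, mem_line_of_fix h.hv (h.im.le (a.θ_mem hy)) (h.θ_ne hy hc)
    ((a.fix_iff (h.nn hy) hw).2 ⟨comm_mem_of_norm (h.nn hy).1 hw, k⟩)⟩))).1 h₁

omit hp [Finite G] [Finite F] in
theorem exists_nc : ∃ y ∈ Y, y ∉ (C(WE p E) : Subgroup G) :=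
  let ⟨y, hy, e⟩ := h.exists_θ (tv_mem v 1)
  ⟨y, hy, fun k => tv_ne_one h.hv one_ne_zero (e.symm.trans (a.θ_of_cent k))⟩

omit [Finite F] in
theorem WC : WE p E ⊓ C(Y) = a.pre (line v) := le_antisymm (fun w hw =>
  let ⟨y, hy, hc⟩ := h.exists_nc
  ⟨hw.1, mem_line_of_fix h.hv (h.im.le (a.θ_mem hy)) (h.θ_ne hy hc)
    (by rw [a.θ_ψ (h.nn hy) hw.1, conj_eq_of_cent' hw.2 hy])⟩) (le_inf (a.pre_le _) h.fx)

omit hp [Finite G] [Finite F] in
theorem CW : Y ⊓ C(WE p E) ≤ C(VG p G) := le_centralizer_iff.1 (h.dec.trans (sup_le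
  (le_centralizer_iff.1 inf_le_right) (inf_le_right.trans (centralizer_anti inf_le_left))))

omit hp [Finite G] [Finite F] in
theorem comm_mem (hu : u ∈ VG p G) (hy : y ∈ Y) : ⁅u, y⁆ ∈ a.pre (line v) := by
  obtain ⟨w, hw, -, h₂⟩ := h.split hu
  rw [h₂ y hy]
  exact ⟨comm_mem_of_norm (h.nn hy).1 hw, a.ψ_comm (h.nn hy) hw ▸ UL_sub (h.im.le (a.θ_mem hy)) _⟩

omit [Finite F] in
theorem CE : VG p G ⊓ C(E) ≤ C(Y) := fun _ hu =>
  let ⟨_, hy, hc⟩ := h.exists_nc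
  h.key hu.1 hy hc (comm_mem_of_norm (le_normalizer_centralizer h.norm hy) hu.2)

omit [Finite F] in
theorem card : Nat.card (Y.map (φV p G)) = Nat.card F := by
  have e₁ := h.blk.card_eq_im a.toSect h.norm
  rw [h.im, card_UL h.hv, card_mapV (p := p) Y, le_antisymm (le_inf inf_le_left h.CW)
    (inf_le_inf_left _ (centralizer_anti h.WV))] at e₁
  exact Nat.eq_of_mul_eq_mul_right Nat.card_pos e₁

theorem card_W : Nat.card (WE p E) = Nat.card F * Nat.card ↥(WE p E ⊓ C(Y)) := by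
  rw [h.WC, a.card_pre, card_line h.hv, a.card_U, card_vec, sq, mul_assoc]

theorem ti : TI (rV p G) (Nat.card F) (Y.map (φV p G)) := by
  have hq : com (rV p G) ⊤ (Y.map (φV p G)) ≤ fix (rV p G) (Y.map (φV p G)) :=
    com_le_fixV.2 (commutator_le.2 fun u hu y hy => h.fx (h.comm_mem hu hy))
  refine ⟨elem_of_quad (cent_quo _) hq, fun e => ?_, h.card, hq, ?_, ?_⟩
  · obtain ⟨y, hy, hc⟩ := h.exists_nc
    exact hc (centralizer_anti h.WV (φV_ker.le ((Subgroup.map_eq_bot_iff _).1 e hy)))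
  · have := card_sup_mul_card_inf (H := WE p E) (N := VG p G ⊓ C(Y)) (le_normalizer_of_le_centralizer
      (h.WV.trans (V_comm.trans (centralizer_anti inf_le_left))))
    rw [le_antisymm (sup_le h.WV inf_le_left) h.dec, ← inf_assoc, inf_eq_left.2 h.WV, h.card_W, mul_right_comm] at this
    rw [card_em, card_fixV]
    exact Nat.eq_of_mul_eq_mul_right Nat.card_pos this
  · rintro _ ⟨y, hy, rfl⟩ h1 u e
    refine mem_fixV.2 (h.key (val_mem u) hy (fun k => h1 (φV_eq_one.2 (h.CW ⟨hy, k⟩))) (comm_mem_swap ?_))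
    rw [← val_rV_sub, e, sub_self, val_zero]
    exact one_mem _

theorem half (h' : LY T a v' Y') (hl : v' ∉ line v) :
    SL2Mod.Half (rV p G) (ofSub V_elem (WE p E)) (Y.map (φV p G)) (Y'.map (φV p G)) := by
  have hd : det2 v v' ≠ 0 := hl
  refine ⟨le_stab_iff.2 ?_, (com_mono le_top le_rfl).trans h.ti.quad, ?_, fun u hu => ?_, ?_, ?_⟩
  · rintro _ ⟨y, hy, rfl⟩ u hu
    exact mem_ofSub.2 (conj_mem_of_norm (h.nn hy).1 (mem_ofSub.1 hu))
  · rw [card_ofSubV h.WV, card_inf_fixV h.WV, h.card, h.card_W]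
  · have m := a.σ_mem ((det2 v (a.ψ u.val) / det2 v v') • v')
    obtain ⟨u', e⟩ := exists_val (h := V_elem) (h.WV m)
    have m' : (u - u').val ∈ a.pre (line v) := by
      rw [val_sub, e]
      refine ⟨mul_mem (mem_ofSub.1 hu) (inv_mem m), ?_⟩
      rw [a.add _ (mem_ofSub.1 hu) _ (inv_mem m), a.inv m, a.ψ_σ, mem_line, det2_add, det2_neg, det2_smul,
        div_mul_cancel₀ _ hd, add_neg_cancel]
    have m'' : u'.val ∈ a.pre (line v') := by
      rw [e]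
      exact ⟨m, (a.ψ_σ _).symm ▸ smul_mem_line _ _⟩
    exact Submodule.mem_sup.2 ⟨u - u', ⟨mem_ofSub.2 m'.1, mem_fixV.2 (h.fx m')⟩, u',
      ⟨mem_ofSub.2 m''.1, mem_fixV.2 (h'.fx m'')⟩, sub_add_cancel _ _⟩
  · rintro _ ⟨y, hy, rfl⟩ h1 u hu k
    have m := h.comm_mem (val_mem u) hy
    rw [mem_fixV, val_rV_sub] at k
    exact mem_fixV.2 (h.key (val_mem u) hy (fun k => h1 (φV_eq_one.2 (h.CW ⟨hy, k⟩))) (ZW_cent p E ((a.ker _ m.1).1
      (eq_zero_of_lines h.hv hl m.2 (h'.WC.le ⟨m.1, comm_mem_swap k⟩).2))))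
  · rintro _ ⟨y, hy, rfl⟩ h1
    obtain ⟨s, hs⟩ := mem_UL.1 (h.im.le (a.θ_mem hy))
    have s0 : s ≠ 0 := fun e => h.θ_ne hy (fun k => h1 (φV_eq_one.2 (h.CW ⟨hy, k⟩)))
      (aut_ext fun m => by rw [hs, e, zero_mul, zero_smul, add_zero, aut_one])
    obtain ⟨y', hy', e⟩ := h'.exists_θ (tv_mem v' (s * det2 v v' ^ 2)⁻¹)
    refine ⟨_, mem_map_of_mem _ hy', fun u hu => ?_⟩
    have m := mem_ofSub.1 hu.1
    have m₁ := conj_mem_of_norm (h.nn hy).1 m
    obtain ⟨c, hc⟩ := (mem_line_iff h'.hv).1 (h'.WC.le ⟨m, mem_fixV.1 hu.2⟩).2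
    refine mem_fixV.2 (h.fx ⟨conj_mem_of_norm (h'.nn hy').1 m₁, ?_⟩)
    change a.ψ (y' * (y * u.val * y⁻¹) * y'⁻¹) ∈ _
    rw [← a.θ_ψ (h'.nn hy') m₁, ← a.θ_ψ (h.nn hy) m, hc, e, toA_tv, hs, mem_line]
    simp only [det2_add, det2_smul, det2_self, det2_swap v' v]
    field_simp
    ring

theorem good (h' : LY T a v' Y') (hl : v' ∉ line v) : SL2Mod.Good (rV p G) ⊤ (Y.map (φV p G)) (Y'.map (φV p G)) :=
  ((⟨h.half h' hl, h'.half h fun k => hl (by rw [mem_line, det2_swap, mem_line.1 k, neg_zero]),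
    h.card.trans h'.card.symm⟩ : SL2Mod.Good (rV p G) (ofSub V_elem (WE p E)) _ _).toTop h.ti.quad h'.ti.quad
      h.ti.ms_eq.ge h'.ti.ms_eq.ge).1

end LY

end Cfsg.Agent.Lib.Blk
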