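import Cfsg.Agent.Lib.Co1DR
import Cfsg.Agent.Lib.Co1DT
import Cfsg.Agent.Lib.Co1DF
import Cfsg.Agent.Lib.Co1DM

set_option autoImplicit false
set_option maxRecDepth 100000

namespace Cfsg.Agent.Lib.Co1D
open Cfsg.Agent.Lib.PermNet Cfsg.Agent.Lib.DCE

def d0 : List Der := [.base,
  .base,
  .base,
  .base,
  .base,
  .base,
  .base,
  .base,
  .base,
  .base,
  .base,
  .base,
  .base,
  .base,
  .dfn,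
  .tm 1 [5, 22, 0, 28, 25, 28, 26, 38, 46] [] [⟨14, [], []⟩],
  .tm 0 [] [] [⟨14, [], [0]⟩, ⟨14, [1], []⟩],
  .tm 0 [] [] [⟨14, [], [2]⟩, ⟨14, [7], []⟩],
  .tm 0 [] [] [⟨14, [], [4]⟩, ⟨14, [9], []⟩],
  .tm 0 [] [] [⟨14, [], [6]⟩, ⟨14, [11], []⟩],
  .tm 0 [] [] [⟨14, [], [8]⟩, ⟨14, [13], []⟩],
  .tm 0 [] [] [⟨14, [], [10]⟩, ⟨14, [15], []⟩],
  .tm 0 [] [] [⟨14, [], [12]⟩, ⟨14, [17], []⟩],
  .tm 0 [] [] [⟨14, [], [14]⟩, ⟨14, [19], []⟩],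
  .tm 0 [] [] [⟨14, [], [16]⟩, ⟨14, [21], []⟩],
  .tm 0 [] [] [⟨14, [], [20]⟩, ⟨14, [5], []⟩],
  .tm 0 [] [] [⟨14, [], [26]⟩, ⟨14, [3], []⟩],
  .tm 0 [] [] [⟨14, [], [19, 24, 20, 19]⟩, ⟨14, [22], []⟩],
  .tm 2 [] [] [⟨14, [], [24, 18]⟩, ⟨14, [5, 22, 0, 28, 25, 28, 26, 38, 46], []⟩],
  .tm 3 [22, 14, 24, 18, 10, 46] [] [⟨14, [5], [18]⟩, ⟨14, [14, 24, 18, 10, 46], []⟩],
  .dfn,
  .tm 1 [5, 22, 0, 28, 25, 28, 26, 38, 46] [] [⟨30, [], []⟩],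
  .tm 0 [] [] [⟨30, [], [34]⟩, ⟨30, [47, 19], []⟩],
  .tm 0 [] [] [⟨30, [], [36]⟩, ⟨30, [17, 3, 21, 2], []⟩],
  .tm 0 [] [] [⟨30, [], [38]⟩, ⟨30, [11, 19, 9], []⟩],
  .tm 0 [] [] [⟨30, [], [40]⟩, ⟨30, [17, 9, 13], []⟩],
  .tm 0 [] [] [⟨30, [], [42]⟩, ⟨30, [47, 7, 13, 15], []⟩],
  .tm 0 [] [] [⟨30, [], [44]⟩, ⟨30, [7, 11, 17, 9, 13], []⟩],
  .tm 0 [] [] [⟨30, [], [46]⟩, ⟨30, [7, 11, 9, 13], []⟩],
  .tm 0 [] [] [⟨30, [], [48]⟩, ⟨30, [7, 17, 9, 13, 15], []⟩],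
  .tm 0 [] [] [⟨30, [], [50, 52]⟩, ⟨30, [3, 4], []⟩],
  .tm 0 [] [] [⟨30, [], [33, 39, 44, 32]⟩, ⟨30, [47, 7, 11, 45, 31, 35, 17, 25, 29, 27, 29, 1, 5, 15], []⟩],
  .tm 0 [] [] [⟨30, [], [33, 39, 48, 32]⟩, ⟨30, [47, 11, 45, 41, 31, 17, 25, 29, 27, 29, 1, 5], []⟩],
  .tm 0 [] [] [⟨30, [], [54, 53, 32, 42, 32]⟩, ⟨30, [47, 31, 17, 27, 29, 25, 29, 17, 1, 2, 5, 22, 3], []⟩],
  .tm 2 [] [] [⟨30, [], [55, 50]⟩, ⟨30, [3, 22, 20, 4, 28, 25, 16, 28, 24, 16, 28, 34, 30, 40, 44, 10], []⟩],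
  .tm 4 [] [] [⟨30, [23, 4, 2], [53, 55]⟩, ⟨29, [16, 23, 5, 2, 24, 26, 38, 10], [50, 55]⟩, ⟨30, [18, 8, 0, 28, 26, 28, 26, 16, 30, 40, 44, 10, 46], []⟩],
  .dfn,
  .tm 1 [5, 22, 0, 28, 25, 28, 26, 38, 46] [] [⟨46, [], []⟩],
  .tm 0 [] [] [⟨46, [], [34]⟩, ⟨46, [11, 45, 41, 19, 15], []⟩],
  .tm 0 [] [] [⟨46, [], [39, 44]⟩, ⟨46, [7, 11, 45, 31, 35, 17, 25, 29, 27, 29, 1, 5, 15], []⟩],
  .tm 0 [] [] [⟨46, [], [39, 48]⟩, ⟨46, [11, 45, 41, 31, 17, 25, 29, 27, 29, 1, 5], []⟩],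
  .tm 0 [] [] [⟨46, [], [33, 34, 32]⟩, ⟨46, [47, 19], []⟩],
  .tm 0 [] [] [⟨46, [], [33, 41, 44, 32]⟩, ⟨46, [45, 41, 35], []⟩],
  .tm 0 [] [] [⟨46, [], [33, 41, 46, 32]⟩, ⟨46, [47, 7, 45, 31, 35, 17, 29, 25, 29, 1, 5, 21], []⟩],
  .tm 0 [] [] [⟨46, [], [54, 54, 32]⟩, ⟨46, [47, 11, 31, 35, 19, 1, 5, 9, 21, 1, 22], []⟩],
  .tm 0 [] [] [⟨46, [], [33, 43, 32, 42]⟩, ⟨46, [7, 11, 45, 41, 31, 35, 27, 29, 24, 29, 5, 13, 1], []⟩],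
  .tm 0 [] [] [⟨46, [], [53, 54, 54, 52, 32]⟩, ⟨46, [45, 41, 35, 25, 29, 27, 29, 17, 4, 9, 22, 17, 1], []⟩],
  .tm 0 [] [] [⟨46, [], [50, 54, 50, 40, 38]⟩, ⟨46, [7, 39, 41, 31, 17, 27, 2, 17, 5, 22, 3], []⟩],
  .tm 0 [] [] [⟨46, [], [39, 54, 51, 54, 51, 40]⟩, ⟨46, [47, 11, 45, 41, 17, 27, 29, 25, 29, 1, 5, 15], []⟩],
  .tm 0 [] [] [⟨46, [], [37, 33, 53, 32, 40, 36, 32]⟩, ⟨46, [47, 7, 11, 45, 35, 29, 17, 25, 1, 3, 1, 3, 21], []⟩],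
  .tm 2 [] [] [⟨46, [], [40, 38]⟩, ⟨46, [23, 12, 5, 24, 34, 40, 10, 6, 46], []⟩],
  .tm 3 [14, 24, 18, 30, 10] [] [⟨46, [23, 4], [44, 38, 32, 36]⟩, ⟨46, [3, 22, 0, 8, 4, 26, 16, 28, 34, 40, 6], []⟩],
  .tm 4 [] [] [⟨46, [22, 5], [51, 54]⟩, ⟨29, [0, 2, 0, 25, 16, 28, 26, 16, 28, 24, 34, 44, 38, 10, 46], [50, 54, 42]⟩, ⟨46, [5, 0, 20, 22, 24, 28, 24, 28, 30, 40, 44, 38, 6, 46], []⟩],
  .tm 3 [23, 5] [] [⟨46, [3, 22], [55, 53, 40, 32]⟩, ⟨46, [2, 22, 8, 0, 3, 0, 24, 28, 26, 16, 34, 40, 10], []⟩],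
  .tm 3 [] [] [⟨46, [2, 0, 2], [36, 32, 40, 54, 52]⟩, ⟨46, [2, 20, 23, 5, 3, 0, 16, 28, 26, 18, 16, 30, 38, 10, 6], []⟩],
  .tm 3 [12, 8, 28, 26, 16, 28, 24, 16, 28, 30, 38, 10, 6, 46] [] [⟨46, [22, 5, 2], []⟩, ⟨30, [0, 16, 6, 3, 0, 16, 28, 24, 28, 30, 38, 10, 46], []⟩],
  .tm 1 [12, 23, 12, 28, 24, 16, 28, 26, 16, 28, 24, 16, 30, 38, 10] [] [⟨65, [], []⟩],
  .dfn,
  .tm 1 [5, 22, 0, 28, 25, 28, 26, 38, 46] [] [⟨67, [], []⟩],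
  .tm 0 [] [] [⟨67, [], [71, 80]⟩, ⟨67, [7, 45, 41, 31, 19, 21, 3, 4], []⟩],
  .tm 0 [] [] [⟨67, [], [75, 68, 64]⟩, ⟨67, [7, 39, 45, 41, 31, 35, 15], []⟩],
  .tm 0 [] [] [⟨67, [], [69, 80, 64]⟩, ⟨67, [47, 11, 39, 45, 31, 17, 29, 17, 25, 29, 17, 27, 29, 3, 21, 22], []⟩],
  .tm 0 [] [] [⟨67, [], [75, 85, 80, 84]⟩, ⟨67, [47, 11, 45, 35, 17, 25, 13, 22], []⟩],
  .tm 0 [] [] [⟨67, [], [83, 81, 64, 86]⟩, ⟨67, [7, 39, 35, 19, 27, 2, 23, 2, 17], []⟩],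
  .tm 0 [] [] [⟨67, [], [75, 90, 90, 84, 64]⟩, ⟨67, [47, 39, 45, 35, 17, 29, 17, 27, 2, 7, 23, 3, 17], []⟩],
  .tm 2 [] [] [⟨67, [], [78, 68]⟩, ⟨67, [22, 4, 18, 30, 40, 38, 46], []⟩],
  .tm 3 [22, 20, 28, 24, 16, 28, 24, 16, 28, 24, 16, 34, 30, 40, 10] [] [⟨67, [14, 5, 2, 0, 3], [90, 68, 90, 81, 66]⟩, ⟨66, [20, 14, 8, 28, 24, 16, 28, 26, 16, 30, 44, 46], []⟩],
  .tm 1 [2, 23, 0, 8, 28, 24, 16, 28, 24, 16, 28, 16, 34, 30, 40, 44, 38, 10, 6] [] [⟨76, [], []⟩],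
  .tm 3 [22, 16, 2, 22, 3, 18, 16, 40, 38] [] [⟨67, [16, 5, 2, 0, 3], [86, 64, 91, 86]⟩, ⟨67, [3, 23, 16, 0, 2, 26, 28, 26, 16, 34, 30, 44, 38, 6], []⟩],
  .tm 0 [] [] [⟨77, [], [97, 118, 96]⟩, ⟨77, [47, 39, 45, 41, 31, 35, 29, 17, 25, 29, 17, 25, 29, 3, 7, 23], []⟩],
  .tm 5 [20, 10, 0, 2, 26, 16, 28, 16, 40, 38, 10, 6, 46] [] [⟨77, [8, 3, 0, 2, 20, 28, 26, 28, 18, 16, 34, 40, 38, 6], [124, 111, 119, 107]⟩, ⟨76, [5, 22, 2], []⟩],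
  .dfn,
  .tm 1 [5, 22, 0, 28, 25, 28, 26, 38, 46] [] [⟨81, [], []⟩],
  .tm 0 [] [] [⟨81, [], [105, 110, 98]⟩, ⟨81, [47, 7, 39, 45, 41, 17, 19, 27, 13, 15, 21], []⟩]]

theorem fc0 : checkL (nat_lit 12) (nat_lit 4095) tH tK tK' BB FF TM XW d0 (nat_lit 0) = true := by decide +kernel

def d84 : List Der := [.tm 0 [] [] [⟨81, [], [103, 116, 114, 104]⟩, ⟨81, [47, 7, 11, 31, 35, 17, 29, 24, 29, 1, 5, 21], []⟩],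
  .tm 0 [] [] [⟨81, [], [99, 116, 114, 110]⟩, ⟨81, [47, 11, 41, 31, 35, 17, 27, 29, 25, 29, 1, 5], []⟩],
  .tm 0 [] [] [⟨81, [], [107, 114, 100, 114]⟩, ⟨81, [39, 31, 17, 29, 25, 29, 1, 5, 21], []⟩],
  .tm 0 [] [] [⟨81, [], [101, 114, 110, 114]⟩, ⟨81, [11, 45, 17, 2, 5, 17, 22, 3], []⟩],
  .tm 0 [] [] [⟨81, [], [113, 115, 124, 116]⟩, ⟨81, [7, 11, 35, 17, 27, 23, 21, 1, 4], []⟩],
  .tm 0 [] [] [⟨81, [], [105, 125, 118, 125]⟩, ⟨81, [47, 7, 11, 39, 45, 41, 35, 29, 17, 25, 29, 17, 25, 5, 13, 1, 21, 22], []⟩],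
  .tm 2 [] [] [⟨81, [], [110, 106]⟩, ⟨81, [16, 23, 5, 24, 18, 34, 40, 38, 10, 46], []⟩],
  .tm 3 [22, 12, 8, 0, 28, 24, 28, 24, 40, 38, 6] [] [⟨81, [4, 3, 22, 0, 2], [118, 117, 124, 108]⟩, ⟨77, [4, 16, 0, 2, 0, 26, 28, 18, 16, 44, 46], []⟩],
  .tm 1 [2, 16, 0, 8, 4, 24, 16, 28, 26, 16, 28, 34, 30, 40, 38] [] [⟨91, [], []⟩],
  .tm 4 [] [] [⟨81, [23, 0, 3, 0, 3], [124, 118, 108, 124]⟩, ⟨63, [12, 23, 0, 2, 24, 28, 24, 16, 28, 44, 10, 6, 46], [114, 98]⟩, ⟨81, [12, 0, 2, 20, 28, 26, 28, 18, 34, 30, 40, 44, 6], []⟩],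
  .tm 3 [22, 20, 28, 24, 16, 28, 24, 16, 28, 24, 16, 34, 30, 40, 10] [] [⟨81, [14, 8, 5, 0, 3], [116, 124, 118, 100]⟩, ⟨81, [12, 6, 0, 8, 0, 2, 26, 40, 44, 38], []⟩]]

theorem fc84 : checkL (nat_lit 12) (nat_lit 4095) tH tK tK' BB FF TM XW d84 (nat_lit 84) = true := by decide +kernel

theorem cv0_1_0 : covB FF nets (nat_lit 7084) (nat_lit 13) (nat_lit 28) (nat_lit 3542) (nat_lit 95) (nat_lit 0) (nat_lit 1) [0, 1, 2, 3, 4, 5, 6, 7, 8, 9, 10, 11, 12, 13] [[0], [2], [4], [6], [8], [10], [12], [14], [16], [18], [20], [22], [24], [26]]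
    [14] [12, 11, 13, 12, 10, 13, 0, 11, 13, 11, 0, 13, 9, 11, 12, 0, 13, 11, 2, 13] k0_1 = true := by decide +kernel

theorem rw0 : rowB (nat_lit 7084) (ivl (nat_lit 3542) ((nat_lit 7084) - (nat_lit 3542))) row0 [0, 3542, 0, 0, 0, 0] 0 = true := by decide +kernel

theorem cv1_0_0 : covB FF nets (nat_lit 7084) (nat_lit 13) (nat_lit 28) (nat_lit 3542) (nat_lit 95) (nat_lit 1) (nat_lit 0) [16, 17, 18, 19, 20, 21, 22, 23, 24, 25, 26, 27] [[0], [2], [4], [10, 8, 12, 6, 54], [8], [16, 10, 14, 12, 54], [10, 8, 54], [16, 10, 8, 54], [10, 8, 14], [20], [26], [28, 21]]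
    [15] [] k1_0 = true := by decide +kernel

theorem cv1_1_0 : covB FF nets (nat_lit 7084) (nat_lit 13) (nat_lit 28) (nat_lit 3542) (nat_lit 95) (nat_lit 1) (nat_lit 1) [16, 17, 18, 19, 20, 21, 22, 23, 24, 25, 26, 27] [[0], [2], [4], [10, 8, 12, 6, 54], [8], [16, 10, 14, 12, 54], [10, 8, 54], [16, 10, 8, 54], [10, 8, 14], [20], [26], [28, 21]]
    [28, 29] [10, 9, 10, 0, 9, 10, 11, 10, 4, 9, 10, 9] k1_1 = true := by decide +kernel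

theorem cv1_2_0 : covB FF nets (nat_lit 7084) (nat_lit 13) (nat_lit 28) (nat_lit 3542) (nat_lit 95) (nat_lit 1) (nat_lit 2) [16, 17, 18, 19, 20, 21, 22, 23, 24, 25, 26, 27] [[0], [2], [4], [10, 8, 12, 6, 54], [8], [16, 10, 14, 12, 54], [10, 8, 54], [16, 10, 8, 54], [10, 8, 14], [20], [26], [28, 21]]
    [30] [10, 0, 10, 4, 2, 0, 11, 10, 9, 4, 10, 0, 10, 11, 10] k1_2 = true := by decide +kernel

theorem cv1_3_0 : covB FF nets (nat_lit 7084) (nat_lit 13) (nat_lit 28) (nat_lit 3542) (nat_lit 95) (nat_lit 1) (nat_lit 3) [16, 17, 18, 19, 20, 21, 22, 23, 24, 25, 26, 27] [[0], [2], [4], [10, 8, 12, 6, 54], [8], [16, 10, 14, 12, 54], [10, 8, 54], [16, 10, 8, 54], [10, 8, 14], [20], [26], [28, 21]]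
    [46] [10, 9, 4, 2, 0, 10, 2, 4, 0, 9, 1, 10, 11, 4, 9, 10, 9, 0] k1_3 = true := by decide +kernel

theorem rw1 : rowB (nat_lit 7084) (ivl (nat_lit 3542) ((nat_lit 7084) - (nat_lit 3542))) row1 [1, 181, 480, 2880, 0, 0] 0 = true := by decide +kernel

theorem cv2_1_0 : covB FF nets (nat_lit 7084) (nat_lit 13) (nat_lit 28) (nat_lit 3542) (nat_lit 95) (nat_lit 2) (nat_lit 1) [32, 33, 34, 35, 36, 37, 38, 39, 40, 41, 42, 43, 45] [[16, 10, 8], [8, 4, 14, 54], [16, 4, 12, 6], [10, 4, 54], [16, 10, 8, 14, 12, 2], [8, 4, 12, 6, 2], [10, 4, 12, 6, 2, 54], [16, 4, 14, 12, 2, 54], [26, 21], [0, 12, 21, 34, 30, 34, 40, 36, 48, 6, 2], [27, 29, 4, 26, 0, 12, 34, 30, 34, 30, 40, 48, 44], [29, 27, 28, 26, 20, 32, 12, 48, 52, 6], [26, 18, 24, 20, 8, 0, 8, 0, 14, 36, 48, 44]]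
    [31] [12, 8, 8, 12, 8, 8, 12, 8, 8, 11, 8] k2_1 = true := by decide +kernel

theorem cv2_2_0 : covB FF nets (nat_lit 7084) (nat_lit 13) (nat_lit 28) (nat_lit 3542) (nat_lit 95) (nat_lit 2) (nat_lit 2) [32, 33, 34, 35, 36, 37, 38, 39, 40, 41, 42, 43, 45] [[16, 10, 8], [8, 4, 14, 54], [16, 4, 12, 6], [10, 4, 54], [16, 10, 8, 14, 12, 2], [8, 4, 12, 6, 2], [10, 4, 12, 6, 2, 54], [16, 4, 14, 12, 2, 54], [26, 21], [0, 12, 21, 34, 30, 34, 40, 36, 48, 6, 2], [27, 29, 4, 26, 0, 12, 34, 30, 34, 30, 40, 48, 44], [29, 27, 28, 26, 20, 32, 12, 48, 52, 6], [26, 18, 24, 20, 8, 0, 8, 0, 14, 36, 48, 44]]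
    [44] [12, 8, 8, 12, 8, 8, 12, 8, 8, 11, 8] k2_2 = true := by decide +kernel

theorem cv2_3_0 : covB FF nets (nat_lit 7084) (nat_lit 13) (nat_lit 28) (nat_lit 3542) (nat_lit 95) (nat_lit 2) (nat_lit 3) [32, 33, 34, 35, 36, 37, 38, 39, 40, 41, 42, 43, 45] [[16, 10, 8], [8, 4, 14, 54], [16, 4, 12, 6], [10, 4, 54], [16, 10, 8, 14, 12, 2], [8, 4, 12, 6, 2], [10, 4, 12, 6, 2, 54], [16, 4, 14, 12, 2, 54], [26, 21], [0, 12, 21, 34, 30, 34, 40, 36, 48, 6, 2], [27, 29, 4, 26, 0, 12, 34, 30, 34, 30, 40, 48, 44], [29, 27, 28, 26, 20, 32, 12, 48, 52, 6], [26, 18, 24, 20, 8, 0, 8, 0, 14, 36, 48, 44]]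
    [66] [8, 3, 8, 2, 8, 3, 8, 12, 8, 8, 11, 8, 8, 12, 8, 8, 11, 8, 8] k2_3 = true := by decide +kernel

theorem cv2_4_0 : covB FF nets (nat_lit 7084) (nat_lit 13) (nat_lit 28) (nat_lit 3542) (nat_lit 95) (nat_lit 2) (nat_lit 4) [32, 33, 34, 35, 36, 37, 38, 39, 40, 41, 42, 43, 45] [[16, 10, 8], [8, 4, 14, 54], [16, 4, 12, 6], [10, 4, 54], [16, 10, 8, 14, 12, 2], [8, 4, 12, 6, 2], [10, 4, 12, 6, 2, 54], [16, 4, 14, 12, 2, 54], [26, 21], [0, 12, 21, 34, 30, 34, 40, 36, 48, 6, 2], [27, 29, 4, 26, 0, 12, 34, 30, 34, 30, 40, 48, 44], [29, 27, 28, 26, 20, 32, 12, 48, 52, 6], [26, 18, 24, 20, 8, 0, 8, 0, 14, 36, 48, 44]]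
    [67] [8, 3, 0, 8, 8, 3, 11, 8, 8, 12, 8, 8, 11, 8, 9, 8, 8, 11, 8, 3] k2_4 = true := by decide +kernel

theorem rw2 : rowB (nat_lit 7084) (ivl (nat_lit 3542) ((nat_lit 7084) - (nat_lit 3542))) row2 [0, 35, 35, 1680, 1792, 0] 0 = true := by decide +kernel

theorem cv3_1_0 : covB FF nets (nat_lit 7084) (nat_lit 13) (nat_lit 28) (nat_lit 3542) (nat_lit 95) (nat_lit 3) (nat_lit 1) [48, 49, 50, 51, 52, 53, 54, 55, 56, 57, 58, 59, 62] [[16, 10, 8, 0, 8, 0, 34, 30, 12, 34, 30, 12, 34, 40, 36, 52, 44, 2, 54], [0, 12, 21, 34, 30, 34, 40, 36, 48, 6, 2, 54], [27, 29, 4, 26, 0, 12, 34, 30, 34, 30, 40, 48, 44, 54], [16, 10, 8], [20, 16, 29, 0, 8, 34, 30, 34, 14, 36], [29, 14, 8, 0, 8, 34, 32, 34, 14, 40, 48, 52, 6, 2], [21, 0, 8, 4, 34, 31, 34, 32, 36, 52, 2, 54], [29, 8, 0, 8, 34, 32, 34, 12, 40,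 2], [0, 4, 0, 14, 40, 36, 48, 44, 6], [29, 10, 8, 32, 12, 40, 36, 48, 54], [16, 29, 14, 40, 36, 48, 52, 6], [8, 0, 26, 28, 34, 32, 34, 36, 48, 6, 2, 54], [20, 24, 20, 10, 0, 8, 0, 34, 31, 12, 34, 30, 12, 34, 30, 12, 40, 48, 44, 6, 2, 54]]
    [47] [12, 10, 11, 10] k3_1 = true := by decide +kernel

theorem cv3_2_0 : covB FF nets (nat_lit 7084) (nat_lit 13) (nat_lit 28) (nat_lit 3542) (nat_lit 95) (nat_lit 3) (nat_lit 2) [48, 49, 50, 51, 52, 53, 54, 55, 56, 57, 58, 59, 62] [[16, 10, 8, 0, 8, 0, 34, 30, 12, 34, 30, 12, 34, 40, 36, 52, 44, 2, 54], [0, 12, 21, 34, 30, 34, 40, 36, 48, 6, 2, 54], [27, 29, 4, 26, 0, 12, 34, 30, 34, 30, 40, 48, 44, 54], [16, 10, 8], [20, 16, 29, 0, 8, 34, 30, 34, 14, 36], [29, 14, 8, 0, 8, 34, 32, 34, 14, 40, 48, 52, 6, 2], [21, 0, 8, 4, 34, 31, 34, 32, 36, 52, 2,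 54], [29, 8, 0, 8, 34, 32, 34, 12, 40, 2], [0, 4, 0, 14, 40, 36, 48, 44, 6], [29, 10, 8, 32, 12, 40, 36, 48, 54], [16, 29, 14, 40, 36, 48, 52, 6], [8, 0, 26, 28, 34, 32, 34, 36, 48, 6, 2, 54], [20, 24, 20, 10, 0, 8, 0, 34, 31, 12, 34, 30, 12, 34, 30, 12, 40, 48, 44, 6, 2, 54]]
    [65] [10, 9, 8, 11, 10, 12, 10] k3_2 = true := by decide +kernel

theorem cv3_3_0 : covB FF nets (nat_lit 7084) (nat_lit 13) (nat_lit 28) (nat_lit 3542) (nat_lit 95) (nat_lit 3) (nat_lit 3) [48, 49, 50, 51, 52, 53, 54, 55, 56, 57, 58, 59, 62] [[16, 10, 8, 0, 8, 0, 34, 30, 12, 34, 30, 12, 34, 40, 36, 52, 44, 2, 54], [0, 12, 21, 34, 30, 34, 40, 36, 48, 6, 2, 54], [27, 29, 4, 26, 0, 12, 34, 30, 34, 30, 40, 48, 44, 54], [16, 10, 8], [20, 16, 29, 0, 8, 34, 30, 34, 14, 36], [29, 14, 8, 0, 8, 34, 32, 34, 14, 40, 48, 52,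 6, 2], [21, 0, 8, 4, 34, 31, 34, 32, 36, 52, 2, 54], [29, 8, 0, 8, 34, 32, 34, 12, 40, 2], [0, 4, 0, 14, 40, 36, 48, 44, 6], [29, 10, 8, 32, 12, 40, 36, 48, 54], [16, 29, 14, 40, 36, 48, 52, 6], [8, 0, 26, 28, 34, 32, 34, 36, 48, 6, 2, 54], [20, 24, 20, 10, 0, 8, 0, 34, 31, 12, 34, 30, 12, 34, 30, 12, 40, 48, 44, 6, 2, 54]]
    [60, 61, 63, 64] [10, 8, 3, 11, 10, 3, 9, 8, 12, 10, 11, 10, 3, 8] k3_3 = true := by decide +kernel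

theorem cv3_4_0 : covB FF nets (nat_lit 7084) (nat_lit 13) (nat_lit 28) (nat_lit 3542) (nat_lit 95) (nat_lit 3) (nat_lit 4) [48, 49, 50, 51, 52, 53, 54, 55, 56, 57, 58, 59, 62] [[16, 10, 8, 0, 8, 0, 34, 30, 12, 34, 30, 12, 34, 40, 36, 52, 44, 2, 54], [0, 12, 21, 34, 30, 34, 40, 36, 48, 6, 2, 54], [27, 29, 4, 26, 0, 12, 34, 30, 34, 30, 40, 48, 44, 54], [16, 10, 8], [20, 16, 29, 0, 8, 34, 30, 34, 14, 36], [29, 14, 8, 0, 8, 34, 32, 34, 14, 40, 48, 52, 6, 2], [21, 0, 8, 4, 34, 31, 34, 32, 36, 52, 2, 54], [29, 8, 0, 8, 34, 32, 34, 12, 40, 2], [0, 4, 0, 14, 40, 36, 48, 44, 6], [29, 10, 8, 32, 12, 40, 36, 48, 54], [16, 29, 14, 40, 36, 48, 52, 6], [8, 0, 26, 28, 34, 32, 34, 36, 48, 6, 2, 54], [20, 24, 20, 10, 0, 8, 0, 34, 31, 12, 34, 30, 12, 34, 30, 12, 40, 48, 44, 6, 2, 54]]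
    [77] [3, 10, 9, 8, 3, 7, 10, 9, 7, 12, 10, 11, 10, 3, 8] k3_4 = true := by decide +kernel

theorem cv3_5_0 : covB FF nets (nat_lit 7084) (nat_lit 13) (nat_lit 28) (nat_lit 3542) (nat_lit 95) (nat_lit 3) (nat_lit 5) [48, 49, 50, 51, 52, 53, 54, 55, 56, 57, 58, 59, 62] [[16, 10, 8, 0, 8, 0, 34, 30, 12, 34, 30, 12, 34, 40, 36, 52, 44, 2, 54], [0, 12, 21, 34, 30, 34, 40, 36, 48, 6, 2, 54], [27, 29, 4, 26, 0, 12, 34, 30, 34, 30, 40, 48, 44, 54], [16, 10, 8], [20, 16, 29, 0, 8, 34, 30, 34, 14, 36], [29, 14, 8, 0, 8, 34, 32, 34, 14, 40, 48, 52, 6, 2], [21, 0, 8, 4, 34, 31, 34, 32, 36, 52, 2, 54], [29, 8, 0, 8, 34, 32, 34, 12, 40, 2], [0, 4, 0, 14, 40, 36, 48, 44, 6], [29, 10, 8, 32, 12, 40, 36, 48, 54], [16, 29, 14, 40, 36, 48, 52, 6], [8, 0, 26, 28, 34, 32, 34, 36, 48, 6, 2, 54], [20, 24, 20,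 10, 0, 8, 0, 34, 31, 12, 34, 30, 12, 34, 30, 12, 40, 48, 44, 6, 2, 54]]
    [81] [3, 10, 9, 8, 3, 7, 10, 11, 3, 9, 8, 3, 10, 12, 10] k3_5 = true := by decide +kernel

theorem rw3 : rowB (nat_lit 7084) (ivl (nat_lit 3542) ((nat_lit 7084) - (nat_lit 3542))) row3 [0, 7, 56, 791, 1792, 896] 0 = true := by decide +kernel

theorem cv4_2_0 : covB FF nets (nat_lit 7084) (nat_lit 13) (nat_lit 28) (nat_lit 3542) (nat_lit 95) (nat_lit 4) (nat_lit 2) [69, 70, 71, 72, 73, 74, 79] [[29, 26, 4, 30, 14, 36, 48, 44], [14, 0, 8, 12, 34, 32, 34, 14, 36, 48, 44, 2], [28, 26, 4, 34, 32, 12, 34, 30, 12, 34, 12, 40, 52, 44, 6], [29, 12, 0, 8, 12, 34, 32, 34, 30, 12, 48, 52, 2, 54], [28, 26, 21, 4, 34, 30, 12, 34, 30, 12, 34, 36, 48, 6, 2, 54], [16, 4, 32, 34, 32, 12, 34, 30, 48, 52, 44, 6, 2], [12, 0, 26, 18, 0,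 27, 24, 12, 8, 0, 27, 16, 12, 34, 12, 30, 52, 54]]
    [68] [6, 0, 5, 3, 0, 1, 0] k4_2 = true := by decide +kernel

theorem cv4_3_0 : covB FF nets (nat_lit 7084) (nat_lit 13) (nat_lit 28) (nat_lit 3542) (nat_lit 95) (nat_lit 4) (nat_lit 3) [69, 70, 71, 72, 73, 74, 79] [[29, 26, 4, 30, 14, 36, 48, 44], [14, 0, 8, 12, 34, 32, 34, 14, 36, 48, 44, 2], [28, 26, 4, 34, 32, 12, 34, 30, 12, 34, 12, 40, 52, 44, 6], [29, 12, 0, 8, 12, 34, 32, 34, 30, 12, 48, 52, 2, 54], [28, 26, 21, 4, 34, 30, 12, 34, 30, 12, 34, 36, 48, 6, 2, 54], [16, 4, 32, 34, 32, 12, 34, 30, 48, 52, 44, 6, 2], [12, 0, 26, 18, 0, 27, 24, 12, 8, 0, 27, 16, 12, 34, 12, 30, 52, 54]]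
    [76] [0, 5, 0, 3, 5, 0, 6, 0, 3, 0, 1, 0, 6, 0, 0, 1] k4_3 = true := by decide +kernel

theorem cv4_4_0 : covB FF nets (nat_lit 7084) (nat_lit 13) (nat_lit 28) (nat_lit 3542) (nat_lit 95) (nat_lit 4) (nat_lit 4) [69, 70, 71, 72, 73, 74, 79] [[29, 26, 4, 30, 14, 36, 48, 44], [14, 0, 8, 12, 34, 32, 34, 14, 36, 48, 44, 2], [28, 26, 4, 34, 32, 12, 34, 30, 12, 34, 12, 40, 52, 44, 6], [29, 12, 0, 8, 12, 34, 32, 34, 30, 12, 48, 52, 2, 54], [28, 26, 21, 4, 34, 30, 12, 34, 30, 12, 34, 36, 48, 6, 2, 54], [16, 4, 32, 34, 32, 12, 34, 30, 48, 52, 44, 6, 2], [12, 0, 26, 18, 0, 27, 24, 12, 8, 0, 27, 16, 12, 34, 12, 30, 52, 54]]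
    [75, 78, 80] [0, 1, 0, 3, 5, 0, 6, 0, 5, 0, 1, 0, 5, 0, 5, 0] k4_4 = true := by decide +kernel

theorem cv4_5_0 : covB FF nets (nat_lit 7084) (nat_lit 13) (nat_lit 28) (nat_lit 3542) (nat_lit 95) (nat_lit 4) (nat_lit 5) [69, 70, 71, 72, 73, 74, 79] [[29, 26, 4, 30, 14, 36, 48, 44], [14, 0, 8, 12, 34, 32, 34, 14, 36, 48, 44, 2], [28, 26, 4, 34, 32, 12, 34, 30, 12, 34, 12, 40, 52, 44, 6], [29, 12, 0, 8, 12, 34, 32, 34, 30, 12, 48, 52, 2, 54], [28, 26, 21, 4, 34, 30, 12, 34, 30, 12, 34, 36, 48, 6, 2, 54], [16, 4, 32, 34, 32, 12, 34, 30, 48, 52, 44, 6, 2], [12, 0, 26, 18, 0, 27, 24, 12, 8, 0, 27, 16, 12, 34, 12, 30, 52, 54]]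
    [92] [0, 1, 0, 5, 0, 1, 0, 6, 0, 5, 0, 1, 0, 5, 0, 0, 1] k4_5 = true := by decide +kernel

theorem rw4 : rowB (nat_lit 7084) (ivl (nat_lit 3542) ((nat_lit 7084) - (nat_lit 3542))) row4 [0, 0, 21, 630, 1771, 1120] 0 = true := by decide +kernel

theorem cv5_3_0 : covB FF nets (nat_lit 7084) (nat_lit 13) (nat_lit 28) (nat_lit 3542) (nat_lit 95) (nat_lit 5) (nat_lit 3) [83, 84, 85, 86, 87, 88, 89, 93] [[8, 34, 31, 12, 34, 30, 12, 34, 12, 40, 48, 52, 44, 2, 54], [29, 0, 8, 12, 34, 30, 34, 30, 40, 52, 44, 6, 54], [29, 12, 0, 8, 34, 30, 34, 30, 12, 40, 48, 52, 44, 2], [26, 29, 27, 4, 34, 30, 12, 34, 30, 12, 34, 12, 40, 36, 52, 44, 54], [28, 0, 8, 34, 30, 34, 30, 12, 40, 44, 54], [21, 12, 0, 30, 12, 48, 52, 54], [21, 0, 8, 12, 34, 12, 30, 40, 52, 54], [27, 0, 27, 19, 24, 16, 0, 26, 20, 12, 34,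 31, 34, 32, 40, 36, 48, 52, 44]]
    [82] [7, 5, 6, 5, 1, 6, 7, 5, 6, 5, 1, 6, 7, 5, 6, 5] k5_3 = true := by decide +kernel

theorem cv5_4_0 : covB FF nets (nat_lit 7084) (nat_lit 13) (nat_lit 28) (nat_lit 3542) (nat_lit 95) (nat_lit 5) (nat_lit 4) [83, 84, 85, 86, 87, 88, 89, 93] [[8, 34, 31, 12, 34, 30, 12, 34, 12, 40, 48, 52, 44, 2, 54], [29, 0, 8, 12, 34, 30, 34, 30, 40, 52, 44, 6, 54], [29, 12, 0, 8, 34, 30, 34, 30, 12, 40, 48, 52, 44, 2], [26, 29, 27, 4, 34, 30, 12, 34, 30, 12, 34, 12, 40, 36, 52, 44, 54], [28, 0, 8, 34, 30, 34, 30, 12, 40, 44, 54], [21, 12, 0, 30, 12, 48, 52, 54], [21, 0, 8, 12, 34, 12, 30, 40, 52, 54], [27, 0, 27, 19, 24, 16, 0, 26, 20, 12, 34, 31, 34, 32, 40, 36, 48, 52, 44]]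
    [91] [5, 6, 5, 1, 6, 2, 7, 5, 6, 5, 6, 5, 4, 7, 5, 5, 6, 5] k5_4 = true := by decide +kernel

theorem cv5_5_0 : covB FF nets (nat_lit 7084) (nat_lit 13) (nat_lit 28) (nat_lit 3542) (nat_lit 95) (nat_lit 5) (nat_lit 5) [83, 84, 85, 86, 87, 88, 89, 93] [[8, 34, 31, 12, 34, 30, 12, 34, 12, 40, 48, 52, 44, 2, 54], [29, 0, 8, 12, 34, 30, 34, 30, 40, 52, 44, 6, 54], [29, 12, 0, 8, 34, 30, 34, 30, 12, 40, 48, 52, 44, 2], [26, 29, 27, 4, 34, 30, 12, 34, 30, 12, 34, 12, 40, 36, 52, 44, 54], [28, 0, 8, 34, 30, 34, 30, 12, 40, 44, 54], [21, 12, 0, 30, 12, 48, 52, 54], [21, 0, 8, 12, 34, 12, 30, 40, 52, 54], [27, 0, 27, 19, 24, 16, 0, 26, 20, 12, 34, 31, 34, 32, 40, 36, 48, 52, 44]]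
    [90, 94] [5, 6, 4, 5, 6, 7, 5, 6, 5, 6, 5, 7, 5, 6, 5, 6, 5, 7, 5, 6, 5, 5] k5_5 = true := by decide +kernel

theorem rw5 : rowB (nat_lit 7084) (ivl (nat_lit 3542) ((nat_lit 7084) - (nat_lit 3542))) row5 [0, 0, 0, 495, 1760, 1287] 0 = true := by decide +kernel

end Cfsg.Agent.Lib.Co1D
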