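import Cfsg.Agent.Lib.DCE2
import Cfsg.Agent.Lib.Co1DC0
import Cfsg.Agent.Lib.Co1DE0
import Cfsg.Agent.Lib.Co1DE1
import Cfsg.Agent.Lib.Co1DE2
import Cfsg.Agent.Lib.Co1DE3
import Cfsg.Agent.Lib.Co1DE4
import Cfsg.Agent.Lib.Co1DE5
import Cfsg.Agent.Lib.Co1DE6
import Cfsg.Agent.Lib.Co1DE7
import Cfsg.Agent.Lib.Co1DE8
import Cfsg.Agent.Lib.Co1DE9

set_option autoImplicit false
set_option maxRecDepth 100000

namespace Cfsg.Agent.Lib.Co1D
open Cfsg.Agent.Lib.PermNet Cfsg.Agent.Lib.DCE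

open Cfsg.Agent.Lib.Words Cfsg.Agent.Lib.PermGroup

/-- Relators of the subgroup. -/
def K1 : List (List ℕ) := [[2, 2], [4, 4], [6, 6], [8, 8], [10, 10], [12, 12], [14, 14], [16, 16], [2, 4, 2, 4, 6, 8, 6, 8], [2, 6, 2, 6], [2, 8, 2, 8], [2, 10, 2, 10], [2, 12, 2, 12], [2, 14, 2, 14], [2, 16, 2, 16], [4, 6, 4, 6], [4, 8, 4, 8], [4, 10, 4, 10], [4, 12, 4, 12], [4, 14, 4, 14], [4, 16, 4, 16], [6, 10, 6, 10], [6, 12, 6, 12], [6, 14, 6, 14], [6, 16, 6, 16], [8, 10, 8, 10], [8, 12, 8, 12], [8, 14, 8, 14], [8, 16, 8, 16], [10, 12, 10, 12, 6, 8, 6, 8], [10, 14, 10, 14], [10, 16, 10, 16], [12, 14, 12, 14], [12, 16, 12, 16], [14, 16, 14, 16, 6, 8, 6, 8], [6, 8, 6, 8, 6, 8, 6, 8], [18, 2, 19, 3], [18, 4, 19, 5], [18, 6, 19, 15, 7, 9, 7, 9, 7], [18, 8, 19, 13, 9], [18, 10, 19, 11, 7], [18, 12, 19, 17, 9], [18, 14, 19, 15, 11, 7, 9, 7, 9, 7], [18, 16, 19, 17, 13, 9], [20, 2, 21, 3],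 [20, 4, 21, 5], [20, 6, 21, 15, 7, 9, 7, 9, 7], [20, 8, 21, 9], [20, 10, 21, 15], [20, 12, 21, 17, 13, 9], [20, 14, 21, 15, 11, 9, 7, 9, 7], [20, 16, 21, 13], [18, 18, 18, 18, 18, 18, 18], [20, 20, 20], [20, 18, 21, 19, 19], [22, 2, 23, 3], [22, 4, 23, 15, 13, 5, 9, 7, 9, 7], [22, 6, 23, 15, 7, 9, 7, 9, 7], [22, 8, 23, 13, 9], [22, 10, 23, 11, 7, 3, 9, 7, 9, 7], [22, 12, 23, 17, 9, 3, 9, 7, 9, 7], [22, 14, 23, 15, 11, 7, 3], [22, 16, 23, 17, 13, 9, 3, 9, 7, 9, 7], [22, 22, 22, 22, 22, 22, 22], [18, 23, 18, 23], [18, 20, 23, 19, 22, 21, 22, 3], [24, 2, 25, 3], [24, 4, 25, 5], [24, 6, 25, 15, 11, 7, 9, 7, 9, 7], [24, 8, 25, 13, 9, 7, 9, 7], [24, 10, 25, 15, 7, 9, 7, 9, 7], [24, 12, 25, 15, 13, 9, 9, 7, 9, 7], [24, 14, 25, 15], [24, 16, 25, 17, 15, 9, 7], [24, 24, 24], [18, 20, 24, 19, 20, 18, 24], [18, 18, 21, 24, 18, 20, 24, 21], [18, 24, 18, 24, 18, 24, 18, 24], [20, 22,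 20, 25, 21, 23, 25, 22], [20, 25, 20, 25, 20, 25, 20, 25], [18, 23, 24, 18, 23, 24, 22, 19, 24, 3], [18, 18, 25, 18, 24, 18, 18, 25, 18, 24], [26, 2, 27, 15, 11, 7, 3], [26, 4, 27, 9], [26, 6, 27, 15, 11, 3], [26, 8, 27, 9, 5], [26, 10, 27, 11], [26, 12, 27, 13, 5], [26, 14, 27, 15], [26, 16, 27, 17, 5], [26, 26, 26], [20, 26, 21, 27], [19, 27, 18, 20, 19, 26, 18, 26, 19, 20, 18, 27], [21, 23, 18, 26, 19, 22, 20, 8, 22, 19, 26, 18, 23, 9], [18, 26, 19, 24, 18, 27, 19, 4, 25, 26, 25, 27, 24, 5], [23, 25, 22, 26, 23, 24, 22, 10, 26, 23, 24, 22, 27, 11], [0, 0], [4, 0, 4, 0, 4, 0], [0, 2, 0, 6, 8, 6, 8], [0, 18, 0, 19], [0, 20, 0, 21], [0, 24, 0, 25], [0, 22, 0, 6, 8, 19, 9, 7], [0, 6, 0, 19, 19, 23, 18, 18, 18, 23, 18, 18, 18, 18, 18, 23, 19, 19, 19], [0, 8, 0, 18, 18, 18, 18, 23, 19, 19, 23, 18, 18, 18, 23, 19, 19], [0, 10, 0, 19, 23, 18, 18, 23, 18, 18, 18, 23, 19], [0,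 12, 0, 19, 23, 18, 18, 18, 18, 18, 18, 23, 19, 19, 19, 23, 18], [0, 14, 0, 19, 19, 23, 18, 18, 18, 18, 18, 18, 23, 23, 19], [0, 16, 0, 18, 18, 23, 19, 19, 23, 18, 18, 18, 23], [0, 26, 0, 26, 0, 26, 0, 26, 0, 26], [0, 4, 26, 0, 4, 26, 0, 4, 26, 0, 4, 26, 0, 4, 26], [0, 4, 27, 0, 27, 0, 4, 27, 0, 27, 0, 4, 27, 0, 27, 0, 4, 27, 0, 27, 0, 4, 27, 0, 27, 20]]

def I1 : List ℕ := [0, 1, 2, 3, 4, 5, 6, 7, 8]

/-- Further relations in the subgroup. -/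
def X : List (List ℕ) := []

/-- Relators that involve the extra generator. -/
def RR : List (List ℕ) := [[0, 28, 1, 29], [26, 28, 27, 29], [20, 28, 21, 29], [2, 28, 3, 29], [4, 28, 5, 29], [6, 28, 13, 11, 9, 7, 29], [8, 28, 9, 29], [10, 28, 17, 15, 13, 11, 29], [12, 28, 11, 9, 9, 7, 9, 7, 29], [14, 28, 17, 11, 9, 9, 7, 9, 7, 29], [16, 28, 15, 11, 9, 29], [18, 21, 25, 18, 28, 19, 24, 19, 19, 29], [24, 20, 24, 20, 25, 28, 24, 21, 25, 21, 25, 28], [28, 28, 28], [18, 20, 25, 28, 24, 28, 19, 29]]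

noncomputable def dat : Dat where
  N := (nat_lit 7084)
  K := (nat_lit 13)
  nS := (nat_lit 3542)
  KS := (nat_lit 12)
  wb := (nat_lit 12)
  mask := (nat_lit 4095)
  n0 := 14
  nl := (nat_lit 152)
  k0 := 28
  nK := (nat_lit 24)
  idT := idT
  T := 501397585920
  TK := 141557760
  nF := (nat_lit 95)
  n := 6
  s0 := 0
  tot := 8292375
  nets := nets
  th := th
  tk := tk
  tk' := tk'
  F := FF
  TM := TM
  XW := XW
  defs := defs
  R := RR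
  cw := [[], [18, 26, 0, 26, 18], [24, 26, 0, 26, 18], [18], [18, 18], [26, 18], [26, 18, 18], [0, 26, 18], [0, 26, 18, 18], [26, 18, 0, 26, 18], [0, 26, 18, 0, 26, 18]]
  rows := [row0, row1, row2, row3, row4, row5]
  cs := [[0, 3542, 0, 0, 0, 0], [1, 181, 480, 2880, 0, 0], [0, 35, 35, 1680, 1792, 0], [0, 7, 56, 791, 1792, 896], [0, 0, 21, 630, 1771, 1120], [0, 0, 0, 495, 1760, 1287]]
  u := [24, 20, 24, 20, 25]
  v := [24, 21, 25, 21, 25]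
  live := [(nat_lit 0), (nat_lit 1), (nat_lit 2), (nat_lit 3), (nat_lit 4), (nat_lit 5)]
  cols := [1, 2, 3, 4, 5]
  sz := [1, 3542, 48576, 1457280, 4145152, 2637824]
  par := [0, 0, 1, 1, 2, 3]
  chH := chH
  chK := chK
  tc := [[([], 24)],
  [([], 24)],
  [([], 27)],
  [([19, 24, 20, 24, 20, 25, 28, 24, 21, 25, 21, 25], 29)],
  [([28, 19, 24, 20, 24, 20, 25, 28, 24, 21, 25, 21, 25], 29)],
  [([24, 21, 25, 21, 25], 29)]]

theorem hrels : ∀ w ∈ relW rels, wval nets.perm w = 1 :=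
  relW_one (wval_eq_of_relsOn (K := 13) hv (by norm_num) ((((((rels0_0.trans rels0_2).trans rels0_4).trans rels0_6).trans rels0_8).trans rels0_10).trans rels0_12))

theorem hK1 : ∀ w ∈ K1, wval nets.perm w = 1 := derive [] hrels _ (by decide +kernel)

theorem hX : ∀ w ∈ X, wval nets.perm w = 1 := derive [] hrels _ (by decide +kernel)

theorem hB : dat.B = BB := by decide +kernel

theorem facts : AllR (fun c => ∃ e, checkF (nat_lit 12) (nat_lit 4095) tH tK tK' BB FF TM XW c e = true) 0 (nat_lit 95) :=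
  ((allR_of_checkL d0 0 84 (by decide +kernel) fc0).trans
    (allR_of_checkL d84 84 95 (by decide +kernel) fc84))

theorem tab : AllR (fun l => tabB nets (nat_lit 7084) (nat_lit 13) (nat_lit 3542) (nat_lit 12) (nat_lit 12) (nat_lit 4095) tH l = true)
    0 (nat_lit 152) :=
  (((((((((allR_of 0 17 17 (by decide) tab0).trans
    (allR_of 17 17 34 (by decide) tab17)).trans
    (allR_of 34 17 51 (by decide) tab34)).trans
    (allR_of 51 17 68 (by decide) tab51)).trans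
    (allR_of 68 17 85 (by decide) tab68)).trans
    (allR_of 85 17 102 (by decide) tab85)).trans
    (allR_of 102 17 119 (by decide) tab102)).trans
    (allR_of 119 17 136 (by decide) tab119)).trans
    (allR_of 136 16 152 (by decide) tab136))

theorem cov0 : AllIdx (fun j m => Cov nets FF (nat_lit 3542) (nat_lit 95) (nat_lit 0) (getD 0 dat.live j) m) 0 row0 :=
  ⟨cov_zero,
    (cov_of_covB hv _ (by decide +kernel) _ _ _ _ cv0_1_0),
    cov_zero,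
    cov_zero,
    cov_zero,
    cov_zero, trivial⟩

theorem cov1 : AllIdx (fun j m => Cov nets FF (nat_lit 3542) (nat_lit 95) (nat_lit 1) (getD 0 dat.live j) m) 0 row1 :=
  ⟨(cov_of_covB hv _ (by decide +kernel) _ _ _ _ cv1_0_0),
    (cov_of_covB hv _ (by decide +kernel) _ _ _ _ cv1_1_0),
    (cov_of_covB hv _ (by decide +kernel) _ _ _ _ cv1_2_0),
    (cov_of_covB hv _ (by decide +kernel) _ _ _ _ cv1_3_0),
    cov_zero,
    cov_zero, trivial⟩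

theorem cov2 : AllIdx (fun j m => Cov nets FF (nat_lit 3542) (nat_lit 95) (nat_lit 2) (getD 0 dat.live j) m) 0 row2 :=
  ⟨cov_zero,
    (cov_of_covB hv _ (by decide +kernel) _ _ _ _ cv2_1_0),
    (cov_of_covB hv _ (by decide +kernel) _ _ _ _ cv2_2_0),
    (cov_of_covB hv _ (by decide +kernel) _ _ _ _ cv2_3_0),
    (cov_of_covB hv _ (by decide +kernel) _ _ _ _ cv2_4_0),
    cov_zero, trivial⟩

theorem cov3 : AllIdx (fun j m => Cov nets FF (nat_lit 3542) (nat_lit 95) (nat_lit 3) (getD 0 dat.live j) m) 0 row3 :=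
  ⟨cov_zero,
    (cov_of_covB hv _ (by decide +kernel) _ _ _ _ cv3_1_0),
    (cov_of_covB hv _ (by decide +kernel) _ _ _ _ cv3_2_0),
    (cov_of_covB hv _ (by decide +kernel) _ _ _ _ cv3_3_0),
    (cov_of_covB hv _ (by decide +kernel) _ _ _ _ cv3_4_0),
    (cov_of_covB hv _ (by decide +kernel) _ _ _ _ cv3_5_0), trivial⟩

theorem cov4 : AllIdx (fun j m => Cov nets FF (nat_lit 3542) (nat_lit 95) (nat_lit 4) (getD 0 dat.live j) m) 0 row4 :=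
  ⟨cov_zero,
    cov_zero,
    (cov_of_covB hv _ (by decide +kernel) _ _ _ _ cv4_2_0),
    (cov_of_covB hv _ (by decide +kernel) _ _ _ _ cv4_3_0),
    (cov_of_covB hv _ (by decide +kernel) _ _ _ _ cv4_4_0),
    (cov_of_covB hv _ (by decide +kernel) _ _ _ _ cv4_5_0), trivial⟩

theorem cov5 : AllIdx (fun j m => Cov nets FF (nat_lit 3542) (nat_lit 95) (nat_lit 5) (getD 0 dat.live j) m) 0 row5 :=
  ⟨cov_zero,
    cov_zero,
    cov_zero,
    (cov_of_covB hv _ (by decide +kernel) _ _ _ _ cv5_3_0),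
    (cov_of_covB hv _ (by decide +kernel) _ _ _ _ cv5_4_0),
    (cov_of_covB hv _ (by decide +kernel) _ _ _ _ cv5_5_0), trivial⟩

theorem ok : dat.OK :=
  ⟨hv, by decide +kernel, derive [] hrels _ (by decide +kernel), tab, cH, cK, hB ▸ facts,
    ⟨rw0, rw1, rw2, rw3, rw4, rw5, trivial⟩,
    ⟨cov0, cov1, cov2, cov3, cov4, cov5, trivial⟩⟩

end Cfsg.Agent.Lib.Co1D
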