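import Cfsg.Agent.Lib.DCEDefs

set_option autoImplicit false
set_option maxRecDepth 100000

namespace Cfsg.Agent.Lib.Co1D
open Cfsg.Agent.Lib.PermNet Cfsg.Agent.Lib.DCE

noncomputable def f0 : FT := (.node (nat_lit 16) (.node (nat_lit 8) (.node (nat_lit 4) (.node (nat_lit 2) (.node (nat_lit 1) (.leaf ⟨0, 0, false, [0], []⟩)
  (.leaf ⟨0, 0, false, [2], []⟩))
  (.node (nat_lit 3) (.leaf ⟨0, 0, false, [4], []⟩)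
  (.leaf ⟨0, 0, false, [6], []⟩)))
  (.node (nat_lit 6) (.node (nat_lit 5) (.leaf ⟨0, 0, false, [8], []⟩)
  (.leaf ⟨0, 0, false, [10], []⟩))
  (.node (nat_lit 7) (.leaf ⟨0, 0, false, [12], []⟩)
  (.leaf ⟨0, 0, false, [14], []⟩))))
  (.node (nat_lit 12) (.node (nat_lit 10) (.node (nat_lit 9) (.leaf ⟨0, 0, false, [16], []⟩)
  (.leaf ⟨0, 0, false, [18], []⟩))
  (.node (nat_lit 11) (.leaf ⟨0, 0, false, [20], []⟩)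
  (.leaf ⟨0, 0, false, [22], []⟩)))
  (.node (nat_lit 14) (.node (nat_lit 13) (.leaf ⟨0, 0, false, [24], []⟩)
  (.leaf ⟨0, 0, false, [26], []⟩))
  (.node (nat_lit 15) (.leaf ⟨0, 1, true, [], []⟩)
  (.leaf ⟨1, 0, true, [24, 18], [24, 18, 0, 34, 32, 34, 36, 6]⟩)))))
  (.node (nat_lit 24) (.node (nat_lit 20) (.node (nat_lit 18) (.node (nat_lit 17) (.leaf ⟨1, 1, false, [0], []⟩)
  (.leaf ⟨1, 1, false, [2], []⟩))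
  (.node (nat_lit 19) (.leaf ⟨1, 1, false, [4], []⟩)
  (.leaf ⟨1, 1, false, [10, 8, 12, 6, 54], []⟩)))
  (.node (nat_lit 22) (.node (nat_lit 21) (.leaf ⟨1, 1, false, [8], []⟩)
  (.leaf ⟨1, 1, false, [16, 10, 14, 12, 54], []⟩))
  (.node (nat_lit 23) (.leaf ⟨1, 1, false, [10, 8, 54], []⟩)
  (.leaf ⟨1, 1, false, [16, 10, 8, 54], []⟩))))
  (.node (nat_lit 28) (.node (nat_lit 26) (.node (nat_lit 25) (.leaf ⟨1, 1, false, [10, 8, 14], []⟩)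
  (.leaf ⟨1, 1, false, [20], []⟩))
  (.node (nat_lit 27) (.leaf ⟨1, 1, false, [26], []⟩)
  (.leaf ⟨1, 1, false, [28, 21], []⟩)))
  (.node (nat_lit 30) (.node (nat_lit 29) (.leaf ⟨1, 1, true, [], [24, 18, 28, 28, 0, 34, 32, 34]⟩)
  (.leaf ⟨1, 1, true, [18, 24], [18, 18, 28, 30, 40, 36, 48, 52, 2]⟩))
  (.node (nat_lit 31) (.leaf ⟨1, 2, true, [18, 26, 18], []⟩)
  (.leaf ⟨2, 1, true, [24, 18], [25, 27, 19, 16, 34, 12, 30, 34, 32, 12, 34, 30, 12, 40, 36, 44, 6, 54]⟩))))))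

noncomputable def f32 : FT := (.node (nat_lit 48) (.node (nat_lit 40) (.node (nat_lit 36) (.node (nat_lit 34) (.node (nat_lit 33) (.leaf ⟨2, 2, false, [16, 10, 8], []⟩)
  (.leaf ⟨2, 2, false, [8, 4, 14, 54], []⟩))
  (.node (nat_lit 35) (.leaf ⟨2, 2, false, [16, 4, 12, 6], []⟩)
  (.leaf ⟨2, 2, false, [10, 4, 54], []⟩)))
  (.node (nat_lit 38) (.node (nat_lit 37) (.leaf ⟨2, 2, false, [16, 10, 8, 14, 12, 2], []⟩)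
  (.leaf ⟨2, 2, false, [8, 4, 12, 6, 2], []⟩))
  (.node (nat_lit 39) (.leaf ⟨2, 2, false, [10, 4, 12, 6, 2, 54], []⟩)
  (.leaf ⟨2, 2, false, [16, 4, 14, 12, 2, 54], []⟩))))
  (.node (nat_lit 44) (.node (nat_lit 42) (.node (nat_lit 41) (.leaf ⟨2, 2, false, [26, 21], []⟩)
  (.leaf ⟨2, 2, false, [0, 12, 21, 34, 30, 34, 40, 36, 48, 6, 2], []⟩))
  (.node (nat_lit 43) (.leaf ⟨2, 2, false, [27, 29, 4, 26, 0, 12, 34, 30, 34, 30, 40, 48, 44], []⟩)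
  (.leaf ⟨2, 2, false, [29, 27, 28, 26, 20, 32, 12, 48, 52, 6], []⟩)))
  (.node (nat_lit 46) (.node (nat_lit 45) (.leaf ⟨2, 2, true, [], [24, 18, 29, 27, 29, 10, 34, 31, 12, 34, 30, 12, 34, 30, 12, 40, 6, 2, 54]⟩)
  (.leaf ⟨2, 2, false, [26, 18, 24, 20, 8, 0, 8, 0, 14, 36, 48, 44], []⟩))
  (.node (nat_lit 47) (.leaf ⟨1, 3, true, [18, 26, 0, 26, 18], []⟩)
  (.leaf ⟨3, 1, true, [24, 18], [25, 27, 0, 27, 21, 18, 29, 12, 0, 34, 30, 34, 40, 44, 6, 2, 54]⟩)))))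
  (.node (nat_lit 56) (.node (nat_lit 52) (.node (nat_lit 50) (.node (nat_lit 49) (.leaf ⟨3, 3, false, [16, 10, 8, 0, 8, 0, 34, 30, 12, 34, 30, 12, 34, 40, 36, 52, 44, 2, 54], []⟩)
  (.leaf ⟨3, 3, false, [0, 12, 21, 34, 30, 34, 40, 36, 48, 6, 2, 54], []⟩))
  (.node (nat_lit 51) (.leaf ⟨3, 3, false, [27, 29, 4, 26, 0, 12, 34, 30, 34, 30, 40, 48, 44, 54], []⟩)
  (.leaf ⟨3, 3, false, [16, 10, 8], []⟩)))
  (.node (nat_lit 54) (.node (nat_lit 53) (.leaf ⟨3, 3, false, [20, 16, 29, 0, 8, 34, 30, 34, 14, 36], []⟩)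
  (.leaf ⟨3, 3, false, [29, 14, 8, 0, 8, 34, 32, 34, 14, 40, 48, 52, 6, 2], []⟩))
  (.node (nat_lit 55) (.leaf ⟨3, 3, false, [21, 0, 8, 4, 34, 31, 34, 32, 36, 52, 2, 54], []⟩)
  (.leaf ⟨3, 3, false, [29, 8, 0, 8, 34, 32, 34, 12, 40, 2], []⟩))))
  (.node (nat_lit 60) (.node (nat_lit 58) (.node (nat_lit 57) (.leaf ⟨3, 3, false, [0, 4, 0, 14, 40, 36, 48, 44, 6], []⟩)
  (.leaf ⟨3, 3, false, [29, 10, 8, 32, 12, 40, 36, 48, 54], []⟩))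
  (.node (nat_lit 59) (.leaf ⟨3, 3, false, [16, 29, 14, 40, 36, 48, 52, 6], []⟩)
  (.leaf ⟨3, 3, false, [8, 0, 26, 28, 34, 32, 34, 36, 48, 6, 2, 54], []⟩)))
  (.node (nat_lit 62) (.node (nat_lit 61) (.leaf ⟨3, 3, true, [], [24, 18, 29, 20, 8, 30, 14, 6, 54]⟩)
  (.leaf ⟨3, 3, true, [19], [19, 24, 4, 0, 16, 29, 12, 36, 48, 2]⟩))
  (.node (nat_lit 63) (.leaf ⟨3, 3, false, [20, 24, 20, 10, 0, 8, 0, 34, 31, 12, 34, 30, 12, 34, 30, 12, 40, 48, 44, 6, 2, 54], []⟩)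
  (.leaf ⟨3, 3, true, [27, 25], [18, 24, 29, 4, 26, 0, 4, 30, 12, 34, 30, 48, 52, 44, 6, 54]⟩))))))

noncomputable def f64 : FT := (.node (nat_lit 79) (.node (nat_lit 71) (.node (nat_lit 67) (.node (nat_lit 65) (.leaf ⟨3, 3, true, [26, 0, 26, 24], [19, 16, 20, 10, 0, 8, 0, 31, 12, 34, 40, 36, 52, 44, 6, 2]⟩)
  (.node (nat_lit 66) (.leaf ⟨3, 2, true, [26, 21, 19], [19, 24, 28, 27, 8, 12, 34, 31, 34, 32, 12, 40, 48, 52, 44, 6]⟩)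
  (.leaf ⟨2, 3, true, [0, 27, 20, 24], [19, 16, 26, 29, 16, 31, 32, 12, 40, 48, 52]⟩)))
  (.node (nat_lit 69) (.node (nat_lit 68) (.leaf ⟨2, 4, true, [0, 26, 18, 0, 26, 18], []⟩)
  (.leaf ⟨4, 2, true, [24, 18], [25, 27, 19, 16, 0, 27, 8, 34, 30, 34, 30, 12, 48, 52, 44, 54]⟩))
  (.node (nat_lit 70) (.leaf ⟨4, 4, false, [29, 26, 4, 30, 14, 36, 48, 44], []⟩)
  (.leaf ⟨4, 4, false, [14, 0, 8, 12, 34, 32, 34, 14, 36, 48, 44, 2], []⟩))))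
  (.node (nat_lit 75) (.node (nat_lit 73) (.node (nat_lit 72) (.leaf ⟨4, 4, false, [28, 26, 4, 34, 32, 12, 34, 30, 12, 34, 12, 40, 52, 44, 6], []⟩)
  (.leaf ⟨4, 4, false, [29, 12, 0, 8, 12, 34, 32, 34, 30, 12, 48, 52, 2, 54], []⟩))
  (.node (nat_lit 74) (.leaf ⟨4, 4, false, [28, 26, 21, 4, 34, 30, 12, 34, 30, 12, 34, 36, 48, 6, 2, 54], []⟩)
  (.leaf ⟨4, 4, false, [16, 4, 32, 34, 32, 12, 34, 30, 48, 52, 44, 6, 2], []⟩)))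
  (.node (nat_lit 77) (.node (nat_lit 76) (.leaf ⟨4, 4, true, [], [24, 18, 16, 0, 8, 0, 34, 30, 12, 34, 30, 12, 34, 30, 12, 48, 52]⟩)
  (.leaf ⟨4, 3, true, [26, 0, 27, 21, 18], [25, 4, 0, 27, 19, 8, 0, 26, 4, 0, 12, 34, 12, 30, 40, 48, 52, 6, 2, 54]⟩))
  (.node (nat_lit 78) (.leaf ⟨3, 4, true, [26, 19, 0, 26, 21, 18], [26, 20, 24, 27, 0, 26, 21, 4, 0, 34, 31, 12, 34, 30, 12, 34, 40, 36, 48, 44, 2, 54]⟩)
  (.leaf ⟨4, 4, true, [4, 26, 0, 26, 19], [19, 24, 8, 4, 0, 26, 29, 12, 34, 30, 34, 14, 12, 36, 52, 44, 6]⟩)))))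
  (.node (nat_lit 87) (.node (nat_lit 83) (.node (nat_lit 81) (.node (nat_lit 80) (.leaf ⟨4, 4, false, [12, 0, 26, 18, 0, 27, 24, 12, 8, 0, 27, 16, 12, 34, 12, 30, 52, 54], []⟩)
  (.leaf ⟨4, 4, true, [26, 19, 26, 0, 23, 27, 18], [27, 22, 4, 0, 27, 18, 18, 8, 28, 4, 0, 26, 10, 32, 12, 34, 30, 12, 34, 30, 36, 52, 6]⟩))
  (.node (nat_lit 82) (.leaf ⟨3, 5, true, [18, 26, 0, 26, 18], []⟩)
  (.leaf ⟨5, 3, true, [24, 18], [25, 27, 0, 27, 21, 18, 29, 12, 0, 34, 30, 34, 40, 44, 6, 2, 54]⟩)))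
  (.node (nat_lit 85) (.node (nat_lit 84) (.leaf ⟨5, 5, false, [8, 34, 31, 12, 34, 30, 12, 34, 12, 40, 48, 52, 44, 2, 54], []⟩)
  (.leaf ⟨5, 5, false, [29, 0, 8, 12, 34, 30, 34, 30, 40, 52, 44, 6, 54], []⟩))
  (.node (nat_lit 86) (.leaf ⟨5, 5, false, [29, 12, 0, 8, 34, 30, 34, 30, 12, 40, 48, 52, 44, 2], []⟩)
  (.leaf ⟨5, 5, false, [26, 29, 27, 4, 34, 30, 12, 34, 30, 12, 34, 12, 40, 36, 52, 44, 54], []⟩))))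
  (.node (nat_lit 91) (.node (nat_lit 89) (.node (nat_lit 88) (.leaf ⟨5, 5, false, [28, 0, 8, 34, 30, 34, 30, 12, 40, 44, 54], []⟩)
  (.leaf ⟨5, 5, false, [21, 12, 0, 30, 12, 48, 52, 54], []⟩))
  (.node (nat_lit 90) (.leaf ⟨5, 5, false, [21, 0, 8, 12, 34, 12, 30, 40, 52, 54], []⟩)
  (.leaf ⟨5, 5, true, [], [24, 18, 8, 29, 20, 30, 44, 54]⟩)))
  (.node (nat_lit 93) (.node (nat_lit 92) (.leaf ⟨5, 4, true, [27, 0, 26, 18, 25], [18, 4, 0, 27, 24, 8, 28, 28, 34, 31, 12, 34, 12, 40, 48, 52, 2, 54]⟩)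
  (.leaf ⟨4, 5, true, [4, 0, 27, 24, 0, 26, 18, 18], [24, 26, 16, 0, 26, 0, 34, 32, 12, 34, 30, 12, 34, 30, 6, 54]⟩))
  (.node (nat_lit 94) (.leaf ⟨5, 5, false, [27, 0, 27, 19, 24, 16, 0, 26, 20, 12, 34, 31, 34, 32, 40, 36, 48, 52, 44], []⟩)
  (.leaf ⟨5, 5, true, [4, 0, 27, 21, 18], [18, 18, 26, 12, 10, 0, 4, 12, 34, 32, 34, 12, 40, 36, 48, 52, 44, 6, 54]⟩))))))



end Cfsg.Agent.Lib.Co1D
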