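import Cfsg.Agent.Lib.Co1DN0

set_option autoImplicit false
set_option maxRecDepth 100000

namespace Cfsg.Agent.Lib.Co1D
open Cfsg.Agent.Lib.PermNet

noncomputable def nets : NL := (.cons net0 (.cons net1 (.cons net2 (.cons net3 (.cons net4 (.cons net5 (.cons net6 (.cons net7 (.cons net8 (.cons net9 (.cons net10 (.cons net11 (.cons net12 (.cons net13 (.cons net14 (.cons net15 (.cons net16 (.cons net17 (.cons net18 (.cons net19 (.cons net20 (.cons net21 (.cons net22 (.cons net23 (.cons net24 (.cons net25 (.cons net26 (.cons net27 (.cons net28 (.cons net29 (.cons net30 (.cons net31 (.cons net32 (.cons net33 (.cons net34 (.cons net35 (.cons net36 (.cons net37 (.cons net38 (.cons net39 (.cons net40 (.cons net41 (.cons net42 (.cons net43 (.cons net44 (.cons net45 (.cons net46 (.cons net47 (.cons net48 (.cons net49 (.cons net50 (.cons net51 (.cons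 net52 (.cons net53 (.cons net54 (.cons net55 (.cons net56 (.cons net57 (.cons net58 (.cons net59 (.cons net60 (.cons net61 (.cons net62 (.cons net63 (.cons net64 (.cons net65 (.cons net66 (.cons net67 (.cons net68 (.cons net69 (.cons net70 (.cons net71 (.cons net72 (.cons net73 (.cons net74 (.cons net75 .nil))))))))))))))))))))))))))))))))))))))))))))))))))))))))))))))))))))))))))))

theorem hv : nets.Valid 7084 := ⟨valid0, ⟨valid1, ⟨valid2, ⟨valid3, ⟨valid4, ⟨valid5, ⟨valid6, ⟨valid7, ⟨valid8, ⟨valid9, ⟨valid10, ⟨valid11, ⟨valid12, ⟨valid13, ⟨valid14, ⟨valid15, ⟨valid16, ⟨valid17, ⟨valid18, ⟨valid19, ⟨valid20, ⟨valid21, ⟨valid22, ⟨valid23, ⟨valid24, ⟨valid25, ⟨valid26, ⟨valid27, ⟨valid28, ⟨valid29, ⟨valid30, ⟨valid31, ⟨valid32, ⟨valid33, ⟨valid34, ⟨valid35, ⟨valid36, ⟨valid37, ⟨valid38, ⟨valid39, ⟨valid40, ⟨valid41, ⟨valid42, ⟨valid43, ⟨valid44,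 ⟨valid45, ⟨valid46, ⟨valid47, ⟨valid48, ⟨valid49, ⟨valid50, ⟨valid51, ⟨valid52, ⟨valid53, ⟨valid54, ⟨valid55, ⟨valid56, ⟨valid57, ⟨valid58, ⟨valid59, ⟨valid60, ⟨valid61, ⟨valid62, ⟨valid63, ⟨valid64, ⟨valid65, ⟨valid66, ⟨valid67, ⟨valid68, ⟨valid69, ⟨valid70, ⟨valid71, ⟨valid72, ⟨valid73, ⟨valid74, ⟨valid75, trivial⟩⟩⟩⟩⟩⟩⟩⟩⟩⟩⟩⟩⟩⟩⟩⟩⟩⟩⟩⟩⟩⟩⟩⟩⟩⟩⟩⟩⟩⟩⟩⟩⟩⟩⟩⟩⟩⟩⟩⟩⟩⟩⟩⟩⟩⟩⟩⟩⟩⟩⟩⟩⟩⟩⟩⟩⟩⟩⟩⟩⟩⟩⟩⟩⟩⟩⟩⟩⟩⟩⟩⟩⟩⟩⟩⟩

def rels0 : List (List Nat × List Nat) := [([2], [3]),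
  ([4], [5]),
  ([6], [7]),
  ([8], [9]),
  ([10], [11]),
  ([12], [13]),
  ([14], [15]),
  ([16], [17]),
  ([2, 4, 2, 4], [9, 7, 9, 7]),
  ([2, 6], [7, 3]),
  ([2, 8], [9, 3]),
  ([2, 10], [11, 3]),
  ([2, 12], [13, 3]),
  ([2, 14], [15, 3]),
  ([2, 16], [17, 3]),
  ([4, 6], [7, 5]),
  ([4, 8], [9, 5]),
  ([4, 10], [11, 5]),
  ([4, 12], [13, 5]),
  ([4, 14], [15, 5]),
  ([4, 16], [17, 5]),
  ([6, 10], [11, 7]),
  ([6, 12], [13, 7]),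
  ([6, 14], [15, 7]),
  ([6, 16], [17, 7]),
  ([8, 10], [11, 9]),
  ([8, 12], [13, 9]),
  ([8, 14], [15, 9]),
  ([8, 16], [17, 9]),
  ([10, 12, 10, 12], [9, 7, 9, 7]),
  ([10, 14], [15, 11]),
  ([10, 16], [17, 11]),
  ([12, 14], [15, 13]),
  ([12, 16], [17, 13]),
  ([14, 16, 14, 16], [9, 7, 9, 7]),
  ([6, 8, 6, 8], [9, 7, 9, 7]),
  ([18, 2], [2, 18]),
  ([18, 4], [4, 18]),
  ([18, 6, 19, 15, 7], [6, 8, 6, 8]),
  ([18, 8, 19], [8, 12]),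
  ([18, 10, 19], [6, 10]),
  ([18, 12, 19], [8, 16]),
  ([18, 14, 19, 15, 11], [6, 8, 6, 8, 6]),
  ([18, 16, 19], [8, 12, 16]),
  ([20, 2], [2, 20]),
  ([20, 4], [4, 20]),
  ([20, 6, 21, 15, 7], [6, 8, 6, 8]),
  ([20, 8], [8, 20]),
  ([20, 10], [14, 20]),
  ([20, 12, 21], [8, 12, 16]),
  ([20, 14, 21, 15, 11], [6, 8, 6, 8]),
  ([20, 16], [12, 20]),
  ([18, 18, 18, 18], [19, 19, 19]),
  ([20, 20], [21]),
  ([20, 18, 21], [18, 18]),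
  ([22, 2], [2, 22]),
  ([22, 4, 23, 15, 13], [6, 8, 6, 8, 4]),
  ([22, 6, 23, 15, 7], [6, 8, 6, 8]),
  ([22, 8, 23], [8, 12]),
  ([22, 10, 23, 11, 7], [6, 8, 6, 8, 2]),
  ([22, 12, 23, 17, 9], [6, 8, 6, 8, 2]),
  ([22, 14, 23, 15], [2, 6, 10]),
  ([22, 16, 23, 17, 13, 9], [6, 8, 6, 8, 2]),
  ([22, 22, 22, 22], [23, 23, 23]),
  ([18, 23], [22, 19]),
  ([18, 20, 23, 19], [2, 23, 20, 23]),
  ([24, 2], [2, 24]),
  ([24, 4], [4, 24]),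
  ([24, 6, 25, 15, 11], [6, 8, 6, 8, 6]),
  ([24, 8, 25, 13], [6, 8, 6, 8]),
  ([24, 10, 25, 15, 7], [6, 8, 6, 8]),
  ([24, 12, 25, 15, 13], [6, 8, 6, 8, 8]),
  ([24, 14], [14, 24]),
  ([24, 16, 25, 17], [6, 8, 14]),
  ([24, 24], [25]),
  ([18, 20, 24, 19], [25, 19, 21]),
  ([18, 18, 21, 24], [20, 25, 21, 19]),
  ([18, 24, 18, 24], [25, 19, 25, 19]),
  ([20, 22, 20, 25], [23, 24, 22, 20]),
  ([20, 25, 20, 25], [24, 21, 24, 21]),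
  ([18, 23, 24, 18, 23], [2, 25, 18, 23, 25]),
  ([18, 18, 25, 18, 24], [25, 19, 24, 19, 19]),
  ([26, 2, 27, 15], [2, 6, 10]),
  ([26, 4], [8, 26]),
  ([26, 6, 27], [2, 10, 14]),
  ([26, 8, 27], [4, 8]),
  ([26, 10], [10, 26]),
  ([26, 12, 27], [4, 12]),
  ([26, 14], [14, 26]),
  ([26, 16, 27], [4, 16]),
  ([26, 26], [27]),
  ([20, 26], [26, 20]),
  ([19, 27, 18, 20, 19, 26], [26, 19, 21, 18, 27, 19]),
  ([21, 23, 18, 26, 19, 22, 20], [8, 22, 19, 27, 18, 23, 9]),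
  ([18, 26, 19, 24, 18, 27, 19], [4, 25, 26, 24, 27, 24, 5]),
  ([23, 25, 22, 26, 23, 24, 22], [10, 26, 23, 25, 22, 27, 11]),
  ([0], [1]),
  ([4, 0, 4], [1, 5, 1]),
  ([0, 2, 0, 6], [9, 7, 9]),
  ([0, 18], [18, 1]),
  ([0, 20], [20, 1]),
  ([0, 24], [24, 1]),
  ([0, 22, 0, 6], [6, 8, 18, 9]),
  ([0, 6, 0, 19, 19, 23, 18, 18, 18, 23], [18, 18, 18, 22, 19, 19, 19, 19, 19]),
  ([0, 8, 0, 18, 18, 18, 18, 23, 19], [18, 18, 22, 19, 19, 19, 22, 18]),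
  ([0, 10, 0, 19, 23, 18, 18], [18, 22, 19, 19, 19, 22]),
  ([0, 12, 0, 19, 23, 18, 18, 18, 18], [19, 22, 18, 18, 18, 22, 19, 19]),
  ([0, 14, 0, 19, 19, 23, 18, 18], [18, 22, 22, 19, 19, 19, 19]),
  ([0, 16, 0, 18, 18, 23, 19], [22, 19, 19, 19, 22, 18]),
  ([0, 26, 0, 26, 0], [27, 1, 27, 1, 27]),
  ([0, 4, 26, 0, 4, 26, 0, 4], [27, 5, 1, 27, 5, 1, 27]),
  ([0, 4, 27, 0, 27, 0, 4, 27, 0, 27, 0, 4, 27], [21, 26, 1, 26, 5, 1, 26, 1, 26, 5, 1, 26, 1]),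
  ([29, 19, 24, 20, 19], []),
  ([31, 20, 28, 10], []),
  ([33, 1, 13, 0, 16], []),
  ([35, 5, 1, 27, 0, 8, 4, 0], []),
  ([37, 30, 30], []),
  ([39, 35, 6, 34], []),
  ([41, 35, 14, 34], []),
  ([43, 15, 31, 14, 30], []),
  ([45, 15, 35, 2, 34], []),
  ([47, 33, 30, 32, 30, 14], []),
  ([49, 37, 38], []),
  ([51, 37, 46], []),
  ([53, 49, 50], []),
  ([55, 7, 42], []),
  ([57, 0], []),
  ([59, 0], []),
  ([61, 26], []),
  ([63, 26], []),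
  ([65, 20], []),
  ([67, 20], []),
  ([69, 2], []),
  ([71, 2], []),
  ([73, 4], []),
  ([75, 4], []),
  ([77, 6], []),
  ([79, 6, 8, 10, 12], []),
  ([81, 8], []),
  ([83, 8], []),
  ([85, 10], []),
  ([87, 10, 12, 14, 16], []),
  ([89, 12], []),
  ([91, 6, 8, 6, 8, 8, 10], []),
  ([93, 14], []),
  ([95, 6, 8, 6, 8, 8, 10, 16], []),
  ([97, 16], []),
  ([99, 8, 10, 14], []),
  ([101, 18, 21, 25, 18], []),
  ([103, 18, 18, 25, 18], []),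
  ([105, 100, 92, 65], []),
  ([107, 102, 94, 67], []),
  ([109, 57, 89, 56, 96], []),
  ([111, 59, 91, 58, 98], []),
  ([113, 73, 57, 61, 56, 80, 72, 56], []),
  ([115, 75, 59, 63, 58, 82, 74, 58], []),
  ([117, 104, 104], []),
  ([119, 106, 106], []),
  ([121, 113, 76, 112], []),
  ([123, 115, 78, 114], []),
  ([125, 113, 92, 112], []),
  ([127, 115, 94, 114], []),
  ([129, 93, 105, 92, 104], []),
  ([131, 95, 107, 94, 106], []),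
  ([133, 93, 113, 68, 112], []),
  ([135, 95, 115, 70, 114], []),
  ([137, 109, 105, 108, 104, 92], []),
  ([139, 111, 107, 110, 106, 94], []),
  ([141, 117, 120], []),
  ([143, 119, 122], []),
  ([145, 137, 140], []),
  ([147, 139, 142], []),
  ([149, 77, 128], []),
  ([151, 79, 130], [])]
def rels : List (List Nat × List Nat) := rels0

def defs : List (List Nat) := [[19, 24, 20, 19], [20, 28, 10], [1, 13, 0, 16], [5, 1, 27, 0, 8, 4, 0], [30, 30], [35, 6, 34], [35, 14, 34], [15, 31, 14, 30], [15, 35, 2, 34], [33, 30, 32, 30, 14], [37, 38], [37, 46], [49, 50], [7, 42], [0], [0], [26], [26], [20], [20], [2], [2], [4], [4], [6], [6, 8, 10, 12], [8], [8], [10], [10, 12, 14, 16], [12], [6, 8, 6, 8, 8, 10], [14], [6, 8, 6, 8, 8, 10, 16], [16], [8, 10, 14], [18, 21, 25, 18], [18, 18, 25, 18], [100, 92, 65], [102, 94, 67], [57, 89, 56, 96], [59, 91,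 58, 98], [73, 57, 61, 56, 80, 72, 56], [75, 59, 63, 58, 82, 74, 58], [104, 104], [106, 106], [113, 76, 112], [115, 78, 114], [113, 92, 112], [115, 94, 114], [93, 105, 92, 104], [95, 107, 94, 106], [93, 113, 68, 112], [95, 115, 70, 114], [109, 105, 108, 104, 92], [111, 107, 110, 106, 94], [117, 120], [119, 122], [137, 140], [139, 142], [77, 128], [79, 130]]

end Cfsg.Agent.Lib.Co1D
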