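import Cfsg.Agent.Lib.Co1SM

/-! Searches in the involution centraliser of the first Conway group. -/

set_option autoImplicit false
set_option maxRecDepth 100000

namespace Cfsg.Agent.Lib.Co1SN

open Cfsg.Agent.Lib.PermNet Cfsg.Agent.Lib.Words Cfsg.Agent.Lib.PermGroup Cfsg.Agent.Lib.DCE Cfsg.Agent.Lib.PermModel Cfsg.Agent.Lib.BT

open Co1SM

noncomputable def ts_t : List Tst := [⟨[], [⟨0, [0], [18], [18, 18]⟩], []⟩,
  ⟨[], [], [⟨0, [0], [18], [18, 18]⟩, ⟨0, [1], [19], [19, 19]⟩, ⟨0, [0, 0], [18, 18], [18, 18, 18, 18]⟩]⟩,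
  ⟨[⟨0, [1], [19], [19, 19]⟩], [], []⟩,
  ⟨[⟨0, [1], [19], [19, 19]⟩], [], []⟩,
  ⟨[], [⟨0, [0], [18], [18, 18]⟩], []⟩,
  ⟨[], [], [⟨0, [0], [18], [18, 18]⟩, ⟨0, [1], [19], [19, 19]⟩, ⟨0, [0, 0], [18, 18], [18, 18, 18, 18]⟩]⟩,
  ⟨[⟨0, [1], [19], [19, 19]⟩], [], []⟩,
  ⟨[⟨0, [1], [19], [19, 19]⟩], [], []⟩]
noncomputable def ct_t : CT := (.node 0 [] [] (nat_lit 0x0) (nd [(1, (nd [(4, (nd [(272, (nd [(80, (nd [(2, (nd [(168, (nd [(40, (lf [(32, [0, 18])]))]))]))]))]))])),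
  (84, (nd [(324, (nd [(276, (nd [(2, (nd [(128, (nd [(8, (lf [(160, [0, 18, 18])]))]))]))]))]))])),
  (324, (nd [(276, (nd [(320, (nd [(2, (nd [(8, (nd [(160, (lf [(136, [0])]))]))]))]))]))])),
  (276, (nd [(320, (nd [(4, (nd [(2, (nd [(160, (nd [(136, (lf [(168, [0, 19, 19])]))]))]))]))]))])),
  (80, (nd [(84, (nd [(324, (nd [(2, (nd [(32, (nd [(128, (lf [(8, [0, 19, 19, 19])]))]))]))]))]))])),
  (320, (nd [(4, (nd [(272, (nd [(2, (nd [(136, (nd [(168, (lf [(40, [0, 18, 18, 18])]))]))]))]))]))])),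
  (272, (nd [(80, (nd [(84, (nd [(2, (nd [(40, (nd [(32, (lf [(128, [0, 19])]))]))]))]))]))]))]))]) .nil)
theorem s_t : solveB (nat_lit 9) (nat_lit 511) htt (nat_lit 512) 500 (hch.map Lv.b) (fun _ => true) hch 0 []
    [[18]] [[18, 18]] (prEq 500 [[18]] [[18, 18]] ++ [[1000, 1000, 1000]]) [] [] (fun u => band (Nat.beq (u.headD 0) 0) (allL (okL [9]) u.tail)) (mkC [[20]]) ts_t ct_t = true := by
  decide +kernel

noncomputable def ts_c : List Tst := [⟨[], [⟨0, [0], [18], [18]⟩, ⟨0, [2], [20], [20]⟩], []⟩,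
  ⟨[], [⟨0, [1, 2], [19, 20], [19, 20]⟩], [⟨0, [0], [18], [18]⟩, ⟨0, [1], [19], [19]⟩, ⟨0, [2], [20], [20]⟩]⟩,
  ⟨[⟨0, [1], [19], [19]⟩], [], []⟩,
  ⟨[⟨0, [1], [19], [19]⟩], [], []⟩,
  ⟨[], [⟨0, [0], [18], [18]⟩, ⟨0, [2], [20], [20]⟩], []⟩,
  ⟨[], [⟨0, [2], [20], [20]⟩], [⟨0, [0], [18], [18]⟩, ⟨0, [1], [19], [19]⟩, ⟨0, [0, 0], [18, 18], [18, 18]⟩]⟩,
  ⟨[⟨0, [1], [19], [19]⟩], [], []⟩,
  ⟨[⟨0, [1], [19], [19]⟩], [], []⟩]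
noncomputable def ct_c : CT := (.node 0 [] [] (nat_lit 0x0) (nd [(1, (nd [(4, (nd [(324, (nd [(272, (nd [(2, (nd [(8, (nd [(40, (lf [(160, [])]))]))])),
  (258, (nd [(8, (nd [(40, (lf [(160, [2])]))]))]))]))]))]))])),
  (257, (nd [(4, (nd [(324, (nd [(272, (nd [(2, (nd [(8, (nd [(40, (lf [(160, [4])]))]))])),
  (258, (nd [(8, (nd [(40, (lf [(160, [2, 4])]))]))]))]))]))]))]))]) .nil)
theorem s_c : solveB (nat_lit 9) (nat_lit 511) htt (nat_lit 512) 500 (hch.map Lv.b) (fun _ => true) hch 0 []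
    [[18], [20]] [[18], [20]] (prEq 500 [[18], [20]] [[18], [20]] ++ []) [] [] (allL (okL [1, 2])) id ts_c ct_c = true := by
  decide +kernel

/-- An element that interchanges the first two generators. -/
def DW : List ℕ := [27, 31, 27, 5, 25, 22, 28, 33, 34, 33, 43, 3, 53, 57]

def us0 : List (List ℕ) := [[18], [20]]
def pa_s : List (List ℕ) := [[2]]
def ps_s : List (List ℕ) := [[0, 0, 0], [2, 2, 2, 0, 2, 4, 1, 2, 1, 3, 0, 2, 1, 2, 0, 3, 0, 5, 3, 1, 3, 3, 3, 3]]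
def U_s : List (List ℕ) := [[28]]
noncomputable def ts_s : List Tst := [⟨[], [], [⟨0, [0], [20], [20]⟩, ⟨0, [1], [21], [21]⟩]⟩,
  ⟨[⟨0, [1], [21], [21]⟩], [], []⟩,
  ⟨[], [], [⟨0, [0], [20], [20]⟩, ⟨0, [1], [21], [21]⟩]⟩,
  ⟨[], [⟨0, [0], [20], [20]⟩], []⟩,
  ⟨[], [⟨0, [0], [20], [20]⟩], []⟩,
  ⟨[], [], [⟨0, [0], [20], [20]⟩, ⟨0, [1], [21], [21]⟩]⟩,
  ⟨[⟨0, [1], [21], [21]⟩], [], []⟩]
noncomputable def ct_s : CT := (.node 0 [] [] (nat_lit 0x0) (nd [(220, (nd [(124, (nd [(40, (nd [(2, (nd [(8, (nd [(496, (lf [(152, [28])]))]))]))]))]))]))]) .nil)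
theorem s_s : solveB (nat_lit 9) (nat_lit 511) htt (nat_lit 512) 500 (hch.map Lv.b) (fun _ => true) hch 1 []
    (pa_s.map (subst us0)) (pa_s.map (subst us0)) (prEq 500 (pa_s.map (subst us0)) (pa_s.map (subst us0)) ++ ps_s.map (subst ([2 * 500] :: us0))) [] [] (memLL U_s) id ts_s ct_s = true := by
  decide +kernel

def us1 : List (List ℕ) := [28] :: us0
def pa_T : List (List ℕ) := [[0], [3, 0, 2]]
def ps_T : List (List ℕ) := [[0, 0, 0], [4, 6, 0, 5, 6, 3, 4, 0, 4, 1, 5, 2, 7, 4, 1, 7, 5, 5]]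
def U_T : List (List ℕ) := [[30], [6, 30, 7], [21, 2, 22, 22, 20, 23, 30, 22, 21, 23, 23, 3, 20], [4, 21, 2, 22, 22, 20, 23, 30, 22, 21, 23, 23, 3, 20, 5]]
noncomputable def ts_T : List Tst := [⟨[], [], [⟨0, [0], [28], [28]⟩, ⟨0, [1], [29], [29]⟩, ⟨0, [2], [19, 28, 18], [19, 28, 18]⟩]⟩,
  ⟨[⟨0, [0, 3], [28, 19, 29, 18], [28, 19, 29, 18]⟩], [], []⟩,
  ⟨[], [⟨0, [2, 0, 3], [19, 28, 18, 28, 19, 29, 18], [19, 28, 18, 28, 19, 29, 18]⟩], [⟨0, [0], [28], [28]⟩, ⟨0, [1], [29], [29]⟩, ⟨0, [2], [19, 28, 18], [19, 28, 18]⟩]⟩,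
  ⟨[], [⟨0, [0], [28], [28]⟩, ⟨0, [2], [19, 28, 18], [19, 28, 18]⟩], []⟩,
  ⟨[⟨2, [3], [19, 29, 18], [19, 29, 18]⟩], [], []⟩,
  ⟨[⟨2, [1], [29], [29]⟩], [], []⟩,
  ⟨[], [⟨0, [0, 2, 1], [28, 19, 28, 18, 29], [28, 19, 28, 18, 29]⟩, ⟨0, [1, 2, 0], [29, 19, 28, 18, 28], [29, 19, 28, 18, 28]⟩], [⟨0, [0], [28], [28]⟩, ⟨0, [1], [29], [29]⟩, ⟨0, [2], [19, 28, 18], [19, 28, 18]⟩]⟩]
noncomputable def ct_T : CT := (.node 0 [] [] (nat_lit 0x0) (nd [(88, (nd [(280, (nd [(60, (nd [(2, (nd [(340, (nd [(4, (lf [(160, [30])]))]))]))]))]))])),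
  (344, (nd [(24, (nd [(316, (nd [(2, (nd [(84, (nd [(260, (lf [(160, [6, 30, 7])]))]))]))]))]))])),
  (89, (nd [(281, (nd [(61, (nd [(351, (nd [(341, (nd [(5, (lf [(160, [4, 21, 2, 22, 22, 20, 23, 30, 22, 21, 23, 23, 3, 20, 5])]))]))]))]))]))])),
  (345, (nd [(25, (nd [(317, (nd [(95, (nd [(85, (nd [(261, (lf [(160, [21, 2, 22, 22, 20, 23, 30, 22, 21, 23, 23, 3, 20])]))]))]))]))]))]))]) .nil)
theorem s_T : solveB (nat_lit 9) (nat_lit 511) htt (nat_lit 512) 500 (hch.map Lv.b) (fun _ => true) hch 1 []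
    (pa_T.map (subst us1)) (pa_T.map (subst us1)) (prEq 500 (pa_T.map (subst us1)) (pa_T.map (subst us1)) ++ ps_T.map (subst ([2 * 500] :: us1))) [] [] (memLL U_T) id ts_T ct_T = true := by
  decide +kernel

def TW : List (List ℕ) := [[], [6], [21, 2, 22, 22, 20, 23], [4, 21, 2, 22, 22, 20, 23]]
def us2 : List (List ℕ) := [6, 8, 6, 8] :: [30] :: us1
def vs2 : List (List ℕ) := [2] :: [30] :: us1
def pa_e : List (List ℕ) := [[2], [6, 4, 9]]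
def ps_e : List (List ℕ) := [[0, 0, 3]]
def U_e : List (List ℕ) := [[20, 22, 18, 18, 22, 21, 23], [20, 22, 18, 18, 22, 21, 23, 2], [4, 20, 22, 18, 18, 22, 21, 23, 4], [4, 20, 22, 18, 18, 22, 21, 23, 4, 2]]
noncomputable def ts_e : List Tst := [⟨[], [⟨0, [2, 1, 2], [18, 28, 21, 31, 18, 28, 21], [18, 28, 21, 31, 18, 28, 21]⟩, ⟨0, [0, 2, 2, 0], [30, 18, 28, 21, 18, 28, 21, 30], [30, 18, 28, 21, 18, 28, 21, 30]⟩], [⟨0, [0], [30], [30]⟩, ⟨0, [1], [31], [31]⟩, ⟨0, [2], [18, 28, 21], [18, 28, 21]⟩, ⟨0, [3], [20, 29, 19], [20, 29, 19]⟩]⟩,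
  ⟨[⟨0, [0, 2, 1, 2, 1], [30, 18, 28, 21, 31, 18, 28, 21, 31], [30, 18, 28, 21, 31, 18, 28, 21, 31]⟩], [], []⟩,
  ⟨[], [⟨0, [1, 2, 1, 3], [31, 18, 28, 21, 31, 20, 29, 19], [31, 18, 28, 21, 31, 20, 29, 19]⟩, ⟨0, [0, 3, 3, 0, 2], [30, 20, 29, 19, 20, 29, 19, 30, 18, 28, 21], [30, 20, 29, 19, 20, 29, 19, 30, 18, 28, 21]⟩], [⟨0, [0], [30], [30]⟩, ⟨0, [1], [31], [31]⟩, ⟨0, [2], [18, 28, 21], [18, 28, 21]⟩, ⟨0, [3], [20, 29, 19], [20, 29, 19]⟩]⟩,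
  ⟨[], [⟨0, [0], [30], [30]⟩, ⟨0, [2], [18, 28, 21], [18, 28, 21]⟩], []⟩,
  ⟨[⟨3, [0, 2], [30, 18, 28, 21], [30, 18, 28, 21]⟩], [], []⟩,
  ⟨[⟨4, [0], [30], [30]⟩], [], []⟩,
  ⟨[⟨3, [0, 2], [30, 18, 28, 21], [30, 18, 28, 21]⟩], [], []⟩]
noncomputable def ct_e : CT := (.node 0 [] [] (nat_lit 0x0) (nd [(5, (nd [(325, (nd [(272, (nd [(271, (nd [(9, (nd [(41, (lf [(160, [4, 20, 22, 18, 18, 22, 21, 23, 4])]))]))])),
  (15, (nd [(9, (nd [(41, (lf [(160, [4, 20, 22, 18, 18, 22, 21, 23, 4, 2])]))]))]))]))]))])),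
  (261, (nd [(69, (nd [(272, (nd [(15, (nd [(265, (nd [(297, (lf [(160, [20, 22, 18, 18, 22, 21, 23])]))]))])),
  (271, (nd [(265, (nd [(297, (lf [(160, [20, 22, 18, 18, 22, 21, 23, 2])]))]))]))]))]))]))]) .nil)
theorem s_e : solveB (nat_lit 9) (nat_lit 511) htt (nat_lit 512) 500 (hch.map Lv.b) (fun _ => true) hch 1 []
    (pa_e.map (subst vs2)) (pa_e.map (subst vs2)) (prEq 500 (pa_e.map (subst vs2)) (pa_e.map (subst vs2)) ++ ps_e.map (subst ([2 * 500] :: vs2))) [] [] (memLL U_e) id ts_e ct_e = true := by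
  decide +kernel

/-- A basis of the elementary abelian subgroup of order `2 ^ 11`. -/
def AW : List (List ℕ) := [[6, 8, 6, 8], [2], [6, 10, 14], [2, 23, 21, 22, 22, 20], [24, 18, 24, 18, 25, 19, 25, 14, 19], [20, 6, 21, 7], [20, 10, 21, 11], [20, 20, 25, 20, 24, 19, 21, 18, 25, 21, 24, 21], [20, 24, 18, 24, 6, 18, 21, 19, 7, 25, 19, 25], [20, 6, 22, 21, 23, 23, 20, 21, 21, 22, 22, 20, 23, 7], [20, 10, 6, 22, 22, 20, 23, 21, 21, 20, 22, 21, 23, 23, 7, 11]]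

/-- The product of some of the words. -/
def aw : List (List ℕ) → ℕ → List ℕ
  | [], _ => []
  | a :: l, m => (if m % 2 = 1 then a else []) ++ aw l (m / 2)

noncomputable def ts_y : List Tst := [⟨[], [⟨0, [0], [20], [20]⟩], []⟩,
  ⟨[], [⟨0, [0], [20], [20]⟩], []⟩,
  ⟨[], [], [⟨0, [0], [20], [20]⟩, ⟨0, [1], [21], [21]⟩]⟩,
  ⟨[⟨0, [1], [21], [21]⟩], [], []⟩]
noncomputable def ct_y : CT := (.node 0 [] [] (nat_lit 0x0) (nd [(2, (nd [(8, (nd [(40, (lf [(160, [0])])),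
  (104, (lf [(496, [16])]))])),
  (264, (nd [(40, (lf [(160, [4])])),
  (104, (lf [(496, [20])]))]))])),
  (258, (nd [(8, (nd [(40, (lf [(160, [2])])),
  (104, (lf [(496, [18])]))])),
  (264, (nd [(40, (lf [(160, [6])])),
  (104, (lf [(496, [22])]))]))])),
  (342, (nd [(265, (nd [(40, (lf [(160, [10])])),
  (104, (lf [(496, [26])]))])),
  (9, (nd [(104, (lf [(496, [30])])),
  (40, (lf [(160, [14])]))]))])),
  (86, (nd [(265, (nd [(40, (lf [(160, [8])])),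
  (104, (lf [(496, [24])]))])),
  (9, (nd [(104, (lf [(496, [28])])),
  (40, (lf [(160, [12])]))]))]))]) .nil)
theorem s_y : solveB (nat_lit 9) (nat_lit 511) htt (nat_lit 512) 500 (hch.map Lv.b) (fun _ => true) hch 4 []
    [[20]] [[20]] (prEq 500 [[20]] [[20]] ++ []) [] [] (fun u => Nat.blt (u.headD 0) 32) (fun u => aw AW (u.headD 0)) ts_y ct_y = true := by
  decide +kernel



end Cfsg.Agent.Lib.Co1SN
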