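import Cfsg.Agent.Lib.TCGroup
import Cfsg.Agent.Lib.TCCo1aC0

set_option autoImplicit false
set_option maxRecDepth 100000

namespace Cfsg.Agent.Lib.TCCo1a
open Cfsg.Agent.Lib.TCCore

theorem rowsS : P.RowsS 0 P.N := s0

theorem rowsT : P.RowsT P.N P.M := t0

def base : List (List Nat) := [
  [0, 0],
  [1, 1],
  [2, 2],
  [3, 3],
  [4, 4],
  [5, 5],
  [6, 6],
  [7, 7],
  [8, 8],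
  [9, 10],
  [11, 12],
  [13, 14],
  [15, 16],
  [17, 18],
  [1, 2, 1, 2, 3, 4, 3, 4],
  [1, 3, 1, 3],
  [1, 4, 1, 4],
  [1, 5, 1, 5],
  [1, 6, 1, 6],
  [1, 7, 1, 7],
  [1, 8, 1, 8],
  [2, 3, 2, 3],
  [2, 4, 2, 4],
  [2, 5, 2, 5],
  [2, 6, 2, 6],
  [2, 7, 2, 7],
  [2, 8, 2, 8],
  [3, 5, 3, 5],
  [3, 6, 3, 6],
  [3, 7, 3, 7],
  [3, 8, 3, 8],
  [4, 5, 4, 5],
  [4, 6, 4, 6],
  [4, 7, 4, 7],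
  [4, 8, 4, 8],
  [5, 6, 5, 6, 3, 4, 3, 4],
  [5, 7, 5, 7],
  [5, 8, 5, 8],
  [6, 7, 6, 7],
  [6, 8, 6, 8],
  [7, 8, 7, 8, 3, 4, 3, 4],
  [3, 4, 3, 4, 3, 4, 3, 4],
  [9, 1, 10, 1],
  [9, 2, 10, 2],
  [9, 3, 10, 7, 3, 4, 3, 4, 3],
  [9, 4, 10, 6, 4],
  [9, 5, 10, 5, 3],
  [9, 6, 10, 8, 4],
  [9, 7, 10, 7, 5, 3, 4, 3, 4, 3],
  [9, 8, 10, 8, 6, 4],
  [11, 1, 12, 1],
  [11, 2, 12, 2],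
  [11, 3, 12, 7, 3, 4, 3, 4, 3],
  [11, 4, 12, 4],
  [11, 5, 12, 7],
  [11, 6, 12, 8, 6, 4],
  [11, 7, 12, 7, 5, 4, 3, 4, 3],
  [11, 8, 12, 6],
  [9, 9, 9, 9, 9, 9, 9],
  [11, 11, 11],
  [11, 9, 12, 10, 10],
  [13, 1, 14, 1],
  [13, 2, 14, 7, 6, 2, 4, 3, 4, 3],
  [13, 3, 14, 7, 3, 4, 3, 4, 3],
  [13, 4, 14, 6, 4],
  [13, 5, 14, 5, 3, 1, 4, 3, 4, 3],
  [13, 6, 14, 8, 4, 1, 4, 3, 4, 3],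
  [13, 7, 14, 7, 5, 3, 1],
  [13, 8, 14, 8, 6, 4, 1, 4, 3, 4, 3],
  [13, 13, 13, 13, 13, 13, 13],
  [9, 14, 9, 14],
  [9, 11, 14, 10, 13, 12, 13, 1],
  [15, 1, 16, 1],
  [15, 2, 16, 2],
  [15, 3, 16, 7, 5, 3, 4, 3, 4, 3],
  [15, 4, 16, 6, 4, 3, 4, 3],
  [15, 5, 16, 7, 3, 4, 3, 4, 3],
  [15, 6, 16, 7, 6, 3, 4, 3],
  [15, 7, 16, 7],
  [15, 8, 16, 8, 7, 4, 3],
  [15, 15, 15],
  [9, 11, 15, 10, 11, 9, 15],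
  [9, 9, 12, 15, 9, 11, 15, 12],
  [9, 15, 9, 15, 9, 15, 9, 15],
  [11, 13, 11, 16, 12, 14, 16, 13],
  [11, 16, 11, 16, 11, 16, 11, 16],
  [9, 14, 15, 9, 14, 15, 13, 10, 15, 1],
  [9, 9, 16, 9, 15, 9, 9, 16, 9, 15],
  [17, 1, 18, 7, 5, 3, 1],
  [17, 2, 18, 4],
  [17, 3, 18, 7, 5, 1],
  [17, 4, 18, 4, 2],
  [17, 5, 18, 5],
  [17, 6, 18, 6, 2],
  [17, 7, 18, 7],
  [17, 8, 18, 8, 2],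
  [17, 17, 17],
  [11, 17, 12, 18],
  [10, 18, 9, 11, 10, 17, 9, 17, 10, 11, 9, 18],
  [12, 14, 9, 17, 10, 13, 11, 4, 13, 10, 17, 9, 14, 4],
  [9, 17, 10, 15, 9, 18, 10, 2, 16, 17, 16, 18, 15, 2],
  [14, 16, 13, 17, 14, 15, 13, 5, 17, 14, 15, 13, 18, 5],
  [2, 0, 2, 0, 2, 0],
  [0, 1, 0, 3, 4, 3, 4],
  [0, 9, 0, 10],
  [0, 11, 0, 12],
  [0, 15, 0, 16],
  [0, 13, 0, 3, 4, 10, 4, 3],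
  [0, 3, 0, 10, 10, 14, 9, 9, 9, 14, 9, 9, 9, 9, 9, 14, 10, 10, 10],
  [0, 4, 0, 9, 9, 9, 9, 14, 10, 10, 14, 9, 9, 9, 14, 10, 10],
  [0, 5, 0, 10, 14, 9, 9, 14, 9, 9, 9, 14, 10],
  [0, 6, 0, 10, 14, 9, 9, 9, 9, 9, 9, 14, 10, 10, 10, 14, 9],
  [0, 7, 0, 10, 10, 14, 9, 9, 9, 9, 9, 9, 14, 14, 10],
  [0, 8, 0, 9, 9, 14, 10, 10, 14, 9, 9, 9, 14],
  [0, 17, 0, 17, 0, 17, 0, 17, 0, 17],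
  [0, 2, 17, 0, 2, 17, 0, 2, 17, 0, 2, 17, 0, 2, 17],
  [0, 2, 18, 0, 18, 0, 2, 18, 0, 18, 0, 2, 18, 0, 18, 0, 2, 18, 0, 18, 0, 2, 18, 0, 18, 11]]

theorem static_ok : TCGroup.static P base [0, 1, 2, 3, 4, 5, 6, 7, 8, 10, 9, 12, 11, 14, 13, 16, 15, 18, 17] 19 19 [1, 2, 3, 4, 5, 6, 7, 8, 9, 11, 13, 15, 17] = true := by decide +kernel

theorem bound {G : Type*} [Group G] (y : Nat → G) (H : Subgroup G)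
    (hrel : ∀ r ∈ base, (r.map y).prod = 1) (hinv : ∀ i < 19, y (List.getD [0, 1, 2, 3, 4, 5, 6, 7, 8, 10, 9, 12, 11, 14, 13, 16, 15, 18, 17] i i) = (y i)⁻¹)
    (hsub : ∀ i ∈ ([1, 2, 3, 4, 5, 6, 7, 8, 9, 11, 13, 15, 17] : List Nat), y i ∈ H) :
    H.relIndex (Subgroup.closure (y '' {i | i < 19})) ≠ 0 ∧
      H.relIndex (Subgroup.closure (y '' {i | i < 19})) ≤ 759 :=
  TCGroup.relIndex_le y 19 19 base [0, 1, 2, 3, 4, 5, 6, 7, 8, 10, 9, 12, 11, 14, 13, 16, 15, 18, 17] [1, 2, 3, 4, 5, 6, 7, 8, 9, 11, 13, 15, 17] P H hrel hinv hsub static_ok rowsS rowsT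

end Cfsg.Agent.Lib.TCCo1a
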