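import Cfsg.Agent.Lib.DCE2
import Cfsg.Agent.Lib.TCCo1a
import Cfsg.Agent.Lib.TCCo1b
import Cfsg.Agent.Lib.TCCo1c
import Cfsg.Agent.Lib.TCCo1d
import Cfsg.Agent.Lib.TCCo1e
import Cfsg.Agent.Lib.TCCo1f

/-! An order bound for `2 ^ 11 : M₂₄`. -/

set_option autoImplicit false
set_option maxRecDepth 100000

namespace Cfsg.Agent.Lib.Co1TC

open Cfsg.Agent.Lib.PermNet Cfsg.Agent.Lib.Words Cfsg.Agent.Lib.PermGroup Cfsg.Agent.Lib.DCE

def K1 : List (List ℕ) := [[2, 2], [4, 4], [6, 6], [8, 8], [10, 10], [12, 12], [14, 14], [16, 16], [2, 4, 2, 4, 6, 8, 6, 8], [2, 6, 2, 6], [2, 8, 2, 8], [2, 10, 2, 10], [2, 12, 2, 12], [2, 14, 2, 14], [2, 16, 2, 16], [4, 6, 4, 6], [4, 8, 4, 8], [4, 10, 4, 10], [4, 12, 4, 12], [4, 14, 4, 14], [4, 16, 4, 16], [6, 10, 6, 10], [6, 12, 6, 12], [6, 14, 6, 14], [6, 16, 6, 16], [8, 10, 8, 10], [8, 12, 8, 12], [8, 14, 8, 14], [8, 16, 8, 16], [10, 12, 10,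 12, 6, 8, 6, 8], [10, 14, 10, 14], [10, 16, 10, 16], [12, 14, 12, 14], [12, 16, 12, 16], [14, 16, 14, 16, 6, 8, 6, 8], [6, 8, 6, 8, 6, 8, 6, 8], [18, 2, 19, 3], [18, 4, 19, 5], [18, 6, 19, 15, 7, 9, 7, 9, 7], [18, 8, 19, 13, 9], [18, 10, 19, 11, 7], [18, 12, 19, 17, 9], [18, 14, 19, 15, 11, 7, 9, 7, 9, 7], [18, 16, 19, 17, 13, 9], [20, 2, 21, 3], [20, 4, 21, 5], [20, 6, 21, 15, 7, 9, 7, 9, 7], [20, 8, 21, 9], [20, 10, 21, 15], [20, 12, 21, 17, 13, 9], [20, 14, 21, 15, 11, 9, 7, 9, 7], [20, 16, 21, 13], [18, 18, 18, 18, 18, 18, 18], [20, 20, 20], [20, 18, 21, 19, 19], [22, 2, 23, 3], [22, 4, 23, 15, 13, 5, 9, 7, 9, 7], [22, 6, 23, 15, 7, 9, 7, 9, 7], [22, 8, 23, 13, 9], [22, 10, 23, 11, 7, 3, 9, 7, 9, 7], [22, 12, 23, 17, 9, 3, 9, 7, 9, 7], [22, 14, 23, 15, 11, 7, 3], [22, 16, 23, 17, 13, 9, 3, 9, 7, 9, 7], [22, 22, 22, 22, 22, 22, 22], [18, 23, 18, 23], [18, 20, 23,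 19, 22, 21, 22, 3], [24, 2, 25, 3], [24, 4, 25, 5], [24, 6, 25, 15, 11, 7, 9, 7, 9, 7], [24, 8, 25, 13, 9, 7, 9, 7], [24, 10, 25, 15, 7, 9, 7, 9, 7], [24, 12, 25, 15, 13, 9, 9, 7, 9, 7], [24, 14, 25, 15], [24, 16, 25, 17, 15, 9, 7], [24, 24, 24], [18, 20, 24, 19, 20, 18, 24], [18, 18, 21, 24, 18, 20, 24, 21], [18, 24, 18, 24, 18, 24, 18, 24], [20, 22, 20, 25, 21, 23, 25, 22], [20, 25, 20, 25, 20, 25, 20, 25], [18, 23, 24, 18, 23, 24, 22, 19, 24, 3], [18, 18, 25, 18, 24, 18, 18, 25, 18, 24], [26, 2, 27, 15, 11, 7, 3], [26, 4, 27, 9], [26, 6, 27, 15, 11, 3], [26, 8, 27, 9, 5], [26, 10, 27, 11], [26, 12, 27, 13, 5], [26, 14, 27, 15], [26, 16, 27, 17, 5], [26, 26, 26], [20, 26, 21, 27], [19, 27, 18, 20, 19, 26, 18, 26, 19, 20, 18, 27], [21, 23, 18, 26, 19, 22, 20, 8, 22, 19, 26, 18, 23, 9], [18, 26, 19, 24, 18, 27, 19, 4, 25, 26, 25, 27, 24, 5], [23, 25, 22, 26, 23, 24,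 22, 10, 26, 23, 24, 22, 27, 11], [0, 0], [4, 0, 4, 0, 4, 0], [0, 2, 0, 6, 8, 6, 8], [0, 18, 0, 19], [0, 20, 0, 21], [0, 24, 0, 25], [0, 22, 0, 6, 8, 19, 9, 7], [0, 6, 0, 19, 19, 23, 18, 18, 18, 23, 18, 18, 18, 18, 18, 23, 19, 19, 19], [0, 8, 0, 18, 18, 18, 18, 23, 19, 19, 23, 18, 18, 18, 23, 19, 19], [0, 10, 0, 19, 23, 18, 18, 23, 18, 18, 18, 23, 19], [0, 12, 0, 19, 23, 18, 18, 18, 18, 18, 18, 23, 19, 19, 19, 23, 18], [0, 14, 0, 19, 19, 23, 18, 18, 18, 18, 18, 18, 23, 23, 19], [0, 16, 0, 18, 18, 23, 19, 19, 23, 18, 18, 18, 23], [0, 26, 0, 26, 0, 26, 0, 26, 0, 26], [0, 4, 26, 0, 4, 26, 0, 4, 26, 0, 4, 26, 0, 4, 26], [0, 4, 27, 0, 27, 0, 4, 27, 0, 27, 0, 4, 27, 0, 27, 0, 4, 27, 0, 27, 0, 4, 27, 0, 27, 20]]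

theorem ba {X : Type*} [Group X] (z : ℕ → X) (hz : ∀ w ∈ K1, wval z w = 1) :
    (gp z [[2], [4], [6], [8], [10], [12], [14], [16], [18], [20], [22], [24], [26]]).relIndex (gp z [[0], [2], [4], [6], [8], [10], [12], [14], [16], [18], [20], [22], [24], [26]]) ≠ 0 ∧
    (gp z [[2], [4], [6], [8], [10], [12], [14], [16], [18], [20], [22], [24], [26]]).relIndex (gp z [[0], [2], [4], [6], [8], [10], [12], [14], [16], [18], [20], [22], [24], [26]]) ≤ 759 :=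
  tc_wrap [0, 1, 2, 3, 4, 5, 6, 7, 8] hz [[0], [2], [4], [6], [8], [10], [12], [14], [16], [18], [19], [20], [21], [22], [23], [24], [25], [26], [27]] TCCo1a.bound _ _ (by decide +kernel)

theorem bb {X : Type*} [Group X] (z : ℕ → X) (hz : ∀ w ∈ K1, wval z w = 1) :
    (gp z [[2], [4], [6], [8], [10], [12], [14], [16], [18], [20], [22], [24]]).relIndex (gp z [[2], [4], [6], [8], [10], [12], [14], [16], [18], [20], [22], [24], [26]]) ≠ 0 ∧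
    (gp z [[2], [4], [6], [8], [10], [12], [14], [16], [18], [20], [22], [24]]).relIndex (gp z [[2], [4], [6], [8], [10], [12], [14], [16], [18], [20], [22], [24], [26]]) ≤ 15 :=
  tc_wrap [0, 1, 2, 3, 4, 5, 6, 7, 8] hz [[2], [4], [6], [8], [10], [12], [14], [16], [18], [19], [20], [21], [22], [23], [24], [25], [26], [27]] TCCo1b.bound _ _ (by decide +kernel)

theorem bc {X : Type*} [Group X] (z : ℕ → X) (hz : ∀ w ∈ K1, wval z w = 1) :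
    (gp z [[2], [4], [6], [8], [10], [12], [14], [16], [18], [20], [22]]).relIndex (gp z [[2], [4], [6], [8], [10], [12], [14], [16], [18], [20], [22], [24]]) ≠ 0 ∧
    (gp z [[2], [4], [6], [8], [10], [12], [14], [16], [18], [20], [22]]).relIndex (gp z [[2], [4], [6], [8], [10], [12], [14], [16], [18], [20], [22], [24]]) ≤ 64 :=
  tc_wrap [0, 1, 2, 3, 4, 5, 6, 7, 8] hz [[2], [4], [6], [8], [10], [12], [14], [16], [18], [19], [20], [21], [22], [23], [24], [25]] TCCo1c.bound _ _ (by decide +kernel)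

theorem bd {X : Type*} [Group X] (z : ℕ → X) (hz : ∀ w ∈ K1, wval z w = 1) :
    (gp z [[2], [4], [6], [8], [10], [12], [14], [16], [18], [20]]).relIndex (gp z [[2], [4], [6], [8], [10], [12], [14], [16], [18], [20], [22]]) ≠ 0 ∧
    (gp z [[2], [4], [6], [8], [10], [12], [14], [16], [18], [20]]).relIndex (gp z [[2], [4], [6], [8], [10], [12], [14], [16], [18], [20], [22]]) ≤ 64 :=
  tc_wrap [0, 1, 2, 3, 4, 5, 6, 7, 8] hz [[2], [4], [6], [8], [10], [12], [14], [16], [18], [19], [20], [21], [22], [23]] TCCo1d.bound _ _ (by decide +kernel)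

theorem be {X : Type*} [Group X] (z : ℕ → X) (hz : ∀ w ∈ K1, wval z w = 1) :
    (gp z [[2], [4], [6], [8], [10], [12], [14], [16]]).relIndex (gp z [[2], [4], [6], [8], [10], [12], [14], [16], [18], [20]]) ≠ 0 ∧
    (gp z [[2], [4], [6], [8], [10], [12], [14], [16]]).relIndex (gp z [[2], [4], [6], [8], [10], [12], [14], [16], [18], [20]]) ≤ 21 :=
  tc_wrap [0, 1, 2, 3, 4, 5, 6, 7, 8] hz [[2], [4], [6], [8], [10], [12], [14], [16], [18], [19], [20], [21]] TCCo1e.bound _ _ (by decide +kernel)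

theorem bf {X : Type*} [Group X] (z : ℕ → X) (hz : ∀ w ∈ K1, wval z w = 1) :
    (gp z []).relIndex (gp z [[2], [4], [6], [8], [10], [12], [14], [16]]) ≠ 0 ∧
    (gp z []).relIndex (gp z [[2], [4], [6], [8], [10], [12], [14], [16]]) ≤ 512 :=
  tc_wrap [0, 1, 2, 3, 4, 5, 6, 7, 8] hz [[2], [4], [6], [8], [10], [12], [14], [16]] TCCo1f.bound _ _ (by decide +kernel)

theorem card_le {X : Type*} [Group X] (z : ℕ → X) (hz : ∀ w ∈ K1, wval z w = 1) :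
    Nat.card (gp z (sing 14)) ≠ 0 ∧ Nat.card (gp z (sing 14)) ≤ 501397585920 :=
  (card_le_of_relIndex (gp_mono (by decide)) (ba z hz)
    (card_le_of_relIndex (gp_mono (by decide)) (bb z hz)
    (card_le_of_relIndex (gp_mono (by decide)) (bc z hz)
    (card_le_of_relIndex (gp_mono (by decide)) (bd z hz)
    (card_le_of_relIndex (gp_mono (by decide)) (be z hz)
    (card_le_of_relIndex (gp_mono (by decide)) (bf z hz)
    (card_gp_nil z)))))))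

end Cfsg.Agent.Lib.Co1TC
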