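import Cfsg.Agent.Lib.Co1W3

/-! Computations for the intersection of order `4`. -/

set_option autoImplicit false
set_option maxRecDepth 100000

namespace Cfsg.Agent.Lib.Co1W

open Cfsg.Agent.Lib.Co1Q Cfsg.Agent.Lib.PermNet
open Cfsg.Agent.Lib.ThDefs hiding Hyp

/-- Generators of the centraliser. -/
def PA : List ℕ := [2, 4, 16, 32, 64, 128]

/-- The centre of the centraliser. -/
def Z8 : List ℕ := [0, 2, 4, 6, 256, 258, 260, 262]

/-- The intersection. -/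
def D4 : List ℕ := [0, 258, 260, 6]

/-- The possible images of the generators. -/
noncomputable def IA (m : ℕ) : List ℕ := [2, 4, qm 16 (D4.getD (m % 4) 0), qm 32 (D4.getD (m / 4 % 4) 0),
  qm 64 (D4.getD (m / 16 % 4) 0), qm 128 (D4.getD (m / 64 % 4) 0)]

/-- The images under a conjugate. -/
noncomputable def cj (e : List ℕ × List ℕ) (I : List ℕ) : List ℕ := ml (ml e.1 I) e.2

/-- The exponents of the generators. -/
def mk (y : ℕ) : ℕ := y / 2 % 4 + 4 * (y / 16)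

theorem th : ∀ e ∈ TH, Od a20 1 e.1 ∧ ml (ml e.1 PA) e.2 = PA := by decide +kernel

theorem th17 : ∀ i : Fin 17, TH.getD i ([], []) ∈ TH := by decide +kernel

theorem pa : ∀ a ∈ PA, a < 512 ∧ lin a20 a = a := by decide +kernel

theorem ia : ∀ c0 ∈ D4, ∀ c1 ∈ D4, ∀ c2 ∈ D4, ∀ c3 ∈ D4,
    D4.idxOf c0 + 4 * D4.idxOf c1 + 16 * D4.idxOf c2 + 64 * D4.idxOf c3 < 256 ∧
    [2, 4, qm 16 c0, qm 32 c1, qm 64 c2, qm 128 c3] =
      IA (D4.idxOf c0 + 4 * D4.idxOf c1 + 16 * D4.idxOf c2 + 64 * D4.idxOf c3) := by decide +kernel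

/-- A number for a list. -/
def hs (l : List ℕ) : ℕ := l.foldr (fun a r => a + 512 * r) 0

theorem nd17 : ∀ m < 256, m ∈ T0 ++ T2 ∨ fL (IA m) (fun I => fL ((List.finRange 17).map fun i : Fin 17 =>
    hs (cj (TH.getD i ([], [])) I)) fun l => decide l.Nodup) = true := by decide +kernel

theorem keys : ∀ a < 512, lin a20 a = a → ∃ c ∈ Z8, c < 512 ∧ a = qm (16 * (a / 16 % 16)) c := by
  decide +kernel

theorem z8 : ∀ c ∈ Z8, ∃ d ∈ D4, d < 512 ∧ (c = d ∨ c = qm 256 d) := by decide +kernel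

theorem k16 : ∀ k : Fin 16, 16 * k.1 < 512 ∧ lin a20 (16 * k) = 16 * k ∧ ∀ l : Fin 16, ∀ c ∈ D4,
    (16 * k.1 = qm (16 * l) c ∨ 16 * k.1 = qm (16 * l) (qm 256 c)) → k = l := by decide +kernel

theorem t2 : ∀ m ∈ T2, ∃ e ∈ TH, fL (cj e (IA m)) (fun J =>
    RV.any (J == IA ·.1) || RS.any (J == IA ·.1)) = true := by decide +kernel

theorem rv : ∀ v ∈ RV, TH.getD v.2 ([], []) ∈ TH ∧
    (TH.getD v.2 ([], [])).1 ≠ L0 ∧ (∀ c ∈ D4, lin (TH.getD v.2 ([], [])).1 c = c) ∧ ∀ m ∈ T0 ++ T2,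
      cj (TH.getD v.2 ([], [])) (IA m) = IA m ∨ ∃ e ∈ TH, fL (cj e (IA v.1)) (fun J =>
        ml PA (J.map mk) == J && fL (ml (IA m) (J.map mk)) fun K => (T0 ++ T2).all (K != IA ·)) = true := by
  decide +kernel

/-- The checks for the case of an involution of type `a₄`. -/
def SOK (m : ℕ) (st : List (ℕ × List ℕ × List (ℕ × ℕ))) (ms R C : List ℕ) (e : List ℕ × List ℕ)
    (ks : List ℕ) : Prop :=
  (valid a20 PA (IA m) st PA && (ml ((st.map Prod.fst).reverse ++ PA) ms == L0) &&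
    srch a20 (fun J => fL (ml J ms) fun M => fL (ml M a20) (fun a => fL (ml a20 M) fun b => a != b) ||
      (vv M == vv R || vv (ml M a20) == vv R)) st PA (IA m)) = true ∧
  (R.length = 8 ∧ (∀ a ∈ R, a < 512) ∧ vv (ml R R) ≠ vv a20 ∧ BasL C ∧ e ∈ TH) ∧
  (∀ i < 8, lin R (lin C (2 ^ i)) % 256 = lin C (a4.getD i 0) % 256) ∧
  (∀ x ∈ [2, 4, 32, 64], lin a20 (lin C x) = lin C x ∧ (∀ c ∈ D4, cq (lin C x) c = true) ∧
    ∃ k ∈ ks, k < 512 ∧ lin a4 k = k ∧ lin e.1 (lin C k) = lin C x) ∧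
  IA m ≠ PA ∧ cj e (IA m) ≠ PA ∧ cj e (IA m) ≠ IA m

noncomputable instance (m : ℕ) (st : List (ℕ × List ℕ × List (ℕ × ℕ))) (ms R C : List ℕ)
    (e : List ℕ × List ℕ) (ks : List ℕ) : Decidable (SOK m st ms R C e ks) :=
  inferInstanceAs (Decidable (_ ∧ _))

theorem rs : ∀ s ∈ RS, SOK s.1 s.2.1 s.2.2.1 s.2.2.2.1 s.2.2.2.2.1 (TH.getD s.2.2.2.2.2.1 ([], []))
    s.2.2.2.2.2.2 := by decide +kernel

theorem w5 : (∀ W ∈ W5, BasL W ∧ ∀ c ∈ Z8, lin W c = c) ∧ ∀ a < 512, (Nat.beq (qm a a) 0 && cq a 2 &&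
    cq a 4) = true → a ∈ Z8 ∨ ∃ W ∈ W5, lin W 32 = a := by decide +kernel

theorem w6 : (∀ W ∈ W6, BasL W ∧ ∀ c ∈ [2, 4, 32], lin W c = c) ∧ ∀ a < 512, (Nat.beq (qm a a) 0 && cq a 2 &&
    cq a 4 && cq a 32) = true → (∃ c ∈ Z8, c < 512 ∧ (a = c ∨ a = qm 32 c)) ∨ ∃ W ∈ W6, lin W 64 = a := by
  decide +kernel

end Cfsg.Agent.Lib.Co1W
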