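import Cfsg.Agent.Lib.Co2H1

/-! The elementary abelian subgroup of order `2 ^ 10` of the involution centraliser of the second
Conway group, in codes. -/

set_option autoImplicit false
set_option maxRecDepth 100000

namespace Cfsg.Agent.Lib.Co2H

open Subgroup Cfsg.Agent.Lib.PermNet Cfsg.Agent.Lib.Words Cfsg.Agent.Lib.PermGroup Cfsg.Agent.Lib.DCE
  Cfsg.Agent.Lib.BT Cfsg.Agent.Lib.Co2MH Cfsg.Agent.Lib.Co2SB

variable {G : Type*} [Group G] {z : G} {f : ℕ → G}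

/-- The linear map with the given images of the basis. -/
def ap : List ℕ → ℕ → ℕ
  | [], _ => 0
  | a :: A, m => (if m % 2 = 1 then a else 0) ^^^ ap A (m / 2)

/-- The matrix of a letter that normalises `E`. -/
noncomputable def mt (l : ℕ) : List ℕ := getD [] [[], [], [], [], [], [], [1, 2, 4, 8, 16, 32, 64, 128, 256, 512], [1, 3, 4, 8, 16, 57, 73, 149, 272, 524], [1, 2, 4, 8, 16, 32, 64, 128, 256, 512], [1, 2, 5, 8, 16, 40, 88, 139, 264, 515], [1, 2, 4, 8, 16, 32, 64, 128, 256, 512], [1, 2, 4, 9, 16, 38, 70, 133, 277, 531], [1, 2, 4, 8, 16, 32, 64, 128, 256, 512], [1, 2, 4, 8, 17, 34, 69, 130, 267, 521], [1, 2, 4, 8, 16, 32, 64, 128, 256, 512], [1, 2, 4, 8, 16, 32, 64, 128, 256, 512], [1, 15, 30, 18, 7, 32, 64, 128, 256, 992], [1, 2, 4, 10, 22, 32, 64, 128, 512, 256], [1, 8, 25, 2, 7, 32, 64, 256, 128, 512], [1, 6, 4, 18, 14, 32, 128, 64, 256, 512], [1, 4, 2, 25, 16, 32, 64, 192,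 320, 576], [1, 4, 2, 25, 16, 32, 64, 192, 320, 576], [1, 2, 4, 8, 16, 32, 64, 128, 256, 512], [1, 2, 4, 8, 16, 32, 64, 128, 256, 512], [1, 2, 4, 8, 16, 32, 64, 128, 256, 512], [1, 2, 4, 8, 16, 32, 64, 128, 256, 512], [1, 25, 4, 8, 11, 32, 384, 320, 256, 736], [1, 2, 15, 8, 27, 32, 480, 768, 640, 512], [1, 2, 4, 13, 21, 32, 864, 928, 480, 736], [1, 20, 18, 30, 16, 32, 64, 320, 192, 928], [1, 29, 4, 23, 16, 32, 640, 576, 480, 512], [1, 29, 4, 23, 16, 32, 640, 576, 480, 512], [1, 2, 6, 8, 24, 32, 992, 128, 256, 512], [1, 2, 13, 8, 16, 32, 736, 768, 256, 384]] (Nat.shiftRight l 1)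

/-- The action of a word on the codes. -/
noncomputable def apW (w : List ℕ) (p : ℕ) : ℕ := w.foldr (fun l q => ap (mt l) q) p

theorem ap_lt {A : List ℕ} (h : ∀ a ∈ A, a < 1024) (p : ℕ) : ap A p < 1024 := by
  induction A generalizing p with
  | nil => exact Nat.succ_pos _
  | cons a A ih =>
    refine Nat.xor_lt_two_pow (n := 10) ?_ (ih (fun b hb => h b (List.mem_cons_of_mem _ hb)) _)
    split_ifs
    · exact h a List.mem_cons_self
    · norm_num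

theorem ew_xor (F : ℕ → G) (L : List ℕ) (h1 : ∀ i ∈ L, F i * F i = 1)
    (h2 : ∀ i ∈ L, ∀ j ∈ L, F i * F j = F j * F i) (a b : ℕ) :
    wval F (ew L (a ^^^ b)) = wval F (ew L a) * wval F (ew L b) := by
  induction L generalizing a b with
  | nil => simp [ew]
  | cons i L ih =>
    have ih := ih (fun j hj => h1 j (List.mem_cons_of_mem _ hj))
      (fun j hj k hk => h2 j (List.mem_cons_of_mem _ hj) k (List.mem_cons_of_mem _ hk)) (a / 2) (b / 2)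
    have cm : ∀ (L' : List ℕ) (m : ℕ), (∀ j ∈ L', F i * F j = F j * F i) →
        F i * wval F (ew L' m) = wval F (ew L' m) * F i := fun L' => by
      induction L' with
      | nil => intro m _; simp [ew]
      | cons j L' ih' =>
        intro m h
        have e := ih' (m / 2) fun k hk => h k (List.mem_cons_of_mem _ hk)
        rw [ew, wval_append]
        split_ifs
        · rw [wval_single, ← mul_assoc, h j List.mem_cons_self, mul_assoc, e, mul_assoc]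
        · rw [wval_nil, one_mul, e]
    have c := cm L (a / 2) fun j hj => h2 i List.mem_cons_self j (List.mem_cons_of_mem _ hj)
    have s := h1 i List.mem_cons_self
    have x2 : (a ^^^ b) % 2 = 1 ↔ ¬ (a % 2 = 1 ↔ b % 2 = 1) := Nat.xor_mod_two_eq_one
    rw [ew, ew, ew, Nat.xor_div_two, wval_append, wval_append, wval_append, ih]
    by_cases ha : a % 2 = 1 <;> by_cases hb : b % 2 = 1
    · rw [if_neg (by tauto), if_pos ha, if_pos hb, wval_single, wval_nil, one_mul, c, mul_assoc,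
        ← mul_assoc (F i), s, one_mul]
    · rw [if_pos (by tauto), if_pos ha, if_neg hb, wval_single, wval_nil, one_mul, mul_assoc]
    · rw [if_pos (by tauto), if_neg ha, if_pos hb, wval_single, wval_nil, one_mul, ← mul_assoc, c,
        mul_assoc]
    · rw [if_neg (by tauto), if_neg ha, if_neg hb, wval_nil, one_mul, one_mul, one_mul]

theorem ee_xor (B : SB z f) (a b : ℕ) : ee f (a ^^^ b) = ee f a * ee f b := by
  obtain ⟨M, -⟩ := model B
  have h1 : allL (fun i => fixW (nat_lit 11) (nat_lit 2047) htt B0 [2 * i, 2 * i]) eb = true := by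
    decide +kernel
  have h2 : allL (fun i => allL (fun j => fixW (nat_lit 11) (nat_lit 2047) htt B0
      (([2 * i] ++ [2 * j]) ++ invW ([2 * j] ++ [2 * i]))) eb) eb = true := by decide +kernel
  refine ew_xor _ eb (fun i hi => ?_) (fun i hi j hj => ?_) a b
  · have := M.one _ (allL_all h1 i hi)
    rwa [show [2 * i, 2 * i] = [2 * i] ++ [2 * i] from rfl, wval_append, wval_single] at this
  · have := M.comm _ _ (allL_all (allL_all h2 i hi) j hj)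
    rwa [wval_single, wval_single] at this

theorem ee_zero : ee f 0 = 1 := rfl

theorem ee_sq (B : SB z f) (a : ℕ) : ee f a * ee f a = 1 := by
  rw [← ee_xor B, Nat.xor_self, ee_zero]

theorem ee_comm (B : SB z f) (a b : ℕ) : ee f a * ee f b = ee f b * ee f a := by
  rw [← ee_xor B, ← ee_xor B, Nat.xor_comm]

theorem ee_inv (B : SB z f) (a : ℕ) : (ee f a)⁻¹ = ee f a :=
  inv_eq_of_mul_eq_one_right (ee_sq B a)

theorem ee_one (B : SB z f) : ee f 1 = z := z14 B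

theorem ew_conj (B : SB z f) {g : G} {L A : List ℕ}
    (h : List.Forall₂ (fun i a => g * FF f i * g⁻¹ = ee f a) L A) (p : ℕ) :
    g * wval (FF f) (ew L p) * g⁻¹ = ee f (ap A p) := by
  induction h generalizing p with
  | nil => simp [ew, ap, ee_zero]
  | cons h1 _ ih =>
    rw [ew, ap, wval_append, ee_xor B, ← ih]
    split_ifs
    · rw [wval_single, ← h1]; group
    · rw [wval_nil, ee_zero, one_mul, one_mul]

theorem ee_conj (B : SB z f) {g : G} {A : List ℕ} (hl : A.length = 10)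
    (h : ∀ i < 10, g * ee f (2 ^ i) * g⁻¹ = ee f (A.getD i 0)) (p : ℕ) :
    g * ee f p * g⁻¹ = ee f (ap A p) := by
  refine ew_conj B (L := eb) (A := A) (List.forall₂_iff_get.2 ⟨hl.symm, fun i h1 h2 => ?_⟩) p
  have h3 : i < 10 := h1
  have e : ∀ i < 10, ew eb (2 ^ i) = [2 * eb.getD i 0] := by decide
  have := h i h3
  rw [ee, e i h3, wval_single, List.getD_eq_getElem _ _ h1, List.getD_eq_getElem _ _ h2] at this
  exact this

theorem mt_ok : allR (fun l => bif' (okL Co2MH.NL l) (band (Nat.beq (mt l).length 10)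
    (band (allL (fun a => Nat.blt a 1024) (mt l)) (allR (fun i => fixW (nat_lit 11) (nat_lit 2047) htt B0
      (([l] ++ ew eb (2 ^ i) ++ invW [l]) ++ invW (ew eb ((mt l).getD i 0)))) 0 10))) true) 0 68
    = true := by decide +kernel

theorem ee_apW (B : SB z f) (w : List ℕ) (hw : allL (okL Co2MH.NL) w = true) {p : ℕ} (hp : p < 1024) :
    apW w p < 1024 ∧ wval (FF f) w * ee f p * (wval (FF f) w)⁻¹ = ee f (apW w p) := by
  obtain ⟨M, -⟩ := model B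
  induction w with
  | nil => exact ⟨hp, by simp [apW]⟩
  | cons l w ih =>
    obtain ⟨h1, h2⟩ := band_eq hw
    obtain ⟨-, i2⟩ := ih h2
    have hl : l < 68 := by
      have h3 : l >>> 1 ∈ Co2MH.NL := memL_mem h1
      have h4 : ∀ i ∈ Co2MH.NL, i < 34 := by decide
      have := h4 _ h3
      rw [Nat.shiftRight_one] at this
      omega
    have k := allR_all mt_ok l (Nat.zero_le _) (by omega)
    rw [h1] at k
    obtain ⟨k1, k⟩ := band_eq k
    obtain ⟨k2, k3⟩ := band_eq k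
    refine ⟨ap_lt (fun a ha => blt_lt (allL_all k2 a ha)) _, ?_⟩
    have := ee_conj B (g := wval (FF f) [l]) (beq_eq k1)
      (fun i hi => M.cj _ _ _ (allR_all k3 i (Nat.zero_le _) (by omega))) (apW w p)
    rw [show apW (l :: w) p = ap (mt l) (apW w p) from rfl, ← this, ← i2,
      show l :: w = [l] ++ w from rfl, wval_append]
    group

theorem ee_ne : allR (fun r => bnot (fixW (nat_lit 11) (nat_lit 2047) htt B0 (ew eb r))) 1 1023
    = true := by decide +kernel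

theorem ee_inj (B : SB z f) {p q : ℕ} (hp : p < 1024) (hq : q < 1024) (h : ee f p = ee f q) :
    p = q := by
  obtain ⟨M, -⟩ := model B
  by_contra hn
  have h0 : p ^^^ q ≠ 0 := fun e => hn (Nat.xor_eq_zero_iff.1 e)
  have h1 : p ^^^ q < 1024 := Nat.xor_lt_two_pow (n := 10) hp hq
  refine M.ne_one _ (allR_all ee_ne (p ^^^ q) (by omega) (by omega)) ?_
  change ee f (p ^^^ q) = 1
  rw [ee_xor B, h, ee_sq B]

theorem ee_mem (B : SB z f) (p : ℕ) : ee f p ∈ centralizer ({z} : Set G) := by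
  obtain ⟨M, -⟩ := model B
  exact M.mem _

/-- The subgroup `E`. -/
def EE (B : SB z f) : Subgroup G where
  carrier := {g | ∃ p < 1024, g = ee f p}
  one_mem' := ⟨0, by norm_num, rfl⟩
  mul_mem' := by
    rintro _ _ ⟨p, hp, rfl⟩ ⟨q, hq, rfl⟩
    exact ⟨p ^^^ q, Nat.xor_lt_two_pow (n := 10) hp hq, (ee_xor B p q).symm⟩
  inv_mem' := by
    rintro _ ⟨p, hp, rfl⟩
    exact ⟨p, hp, ee_inv B p⟩

theorem mem_EE (B : SB z f) {g : G} : g ∈ EE B ↔ ∃ p < 1024, g = ee f p := Iff.rfl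

theorem eb_mem (B : SB z f) : ∀ i ∈ eb, FF f i ∈ EE B := fun i hi => by
  have e : ∀ i ∈ eb, ∃ p ∈ (List.range 10).map (2 ^ ·), p < 1024 ∧ ew eb p = [2 * i] := by decide
  obtain ⟨p, -, h1, h2⟩ := e i hi
  exact ⟨p, h1, by rw [ee, h2, wval_single]⟩

theorem gp_eb (B : SB z f) : gp (FF f) (sl eb) ≤ EE B := gp_le.2 fun w hw => by
  obtain ⟨i, hi, rfl⟩ := List.mem_map.1 hw
  rw [wval_single]
  exact eb_mem B i hi

theorem card_EE (B : SB z f) : Nat.card (EE B) = 1024 := by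
  rw [← Nat.card_eq_of_bijective (fun p : Fin 1024 => (⟨ee f p, p, p.2, rfl⟩ : EE B))
    ⟨fun p q h => Fin.ext (ee_inj B p.2 q.2 (congrArg Subtype.val h)), by
      rintro ⟨_, p, hp, rfl⟩
      exact ⟨⟨p, hp⟩, rfl⟩⟩]
  simp

noncomputable def ceT : List Tst := [⟨[], [⟨0, [0], [28], [28]⟩, ⟨0, [2], [12], [12]⟩, ⟨0, [4], [16], [16]⟩, ⟨0, [6], [20], [20]⟩, ⟨0, [8], [24], [24]⟩, ⟨0, [10], [30], [30]⟩], []⟩,
  ⟨[], [⟨0, [8, 16], [24, 48], [24, 48]⟩], []⟩,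
  ⟨[], [⟨0, [0], [28], [28]⟩], []⟩,
  ⟨[], [⟨0, [6, 10], [20, 30], [20, 30]⟩, ⟨0, [6, 16], [20, 48], [20, 48]⟩], []⟩]

noncomputable def ceC : CT := (.node 0 [] [] (nat_lit 0x0) (.node 512 [[28], [12], [16], [20], [24], [30], [44], [46], [48], [50]] [(2, 0), (2, 1), (2, 2), (2, 3), (2, 4), (2, 5), (2, 6), (2, 7), (2, 9), (258, 1), (258, 2), (258, 4), (258, 5), (258, 7), (258, 9), (3, 2), (3, 3), (3, 4), (3, 5), (3, 6), (3, 7), (3, 9), (6, 5), (66, 9), (259, 2), (259, 4), (259, 5), (259, 7), (259, 9), (7, 5), (67, 9)] (nat_lit 0x4) (nd [(2, (nd [(524, (lf [(12, []), (284, [77])])),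
  (1014, (lf [(92, [24, 48]), (332, [71, 77])])),
  (969, (lf [(284, [75]), (12, [75, 77])])),
  (1189, (lf [(25, [73, 69, 78]), (265, [73, 69, 81])])),
  (1024, (lf [(332, [75, 71]), (92, [75, 71, 77])])),
  (703, (lf [(332, [71, 75]), (92, [71, 75, 77])])),
  (627, (lf [(9, [28, 16, 24, 30, 44, 46, 48]), (281, [69, 71, 69, 77])])),
  (1224, (lf [(345, [73, 71, 69, 78]), (73, [73, 71, 69, 81])])),
  (592, (lf [(348, [69, 73, 69]), (76, [69, 73, 69, 77])])),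
  (622, (lf [(73, [71, 73, 69, 78]), (345, [71, 73, 69, 81])])),
  (837, (lf [(73, [75, 73, 69, 78]), (345, [75, 73, 69, 81])])),
  (887, (lf [(9, [28, 16, 24, 44, 48, 50]), (281, [73, 75, 69, 81])])),
  (1038, (lf [(28, [73, 69, 71, 78]), (268, [73, 69, 71, 81])])),
  (718, (lf [(284, [71, 75, 71]), (12, [71, 75, 71, 77])])),
  (1308, (lf [(9, [73, 69, 73, 78]), (281, [16, 20, 24, 30, 44, 50])])),
  (805, (lf [(332, [28, 20, 44]), (92, [73, 71, 73, 77])])),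
  (980, (lf [(345, [73, 69, 75, 79]), (73, [73, 69, 75, 79, 77])])),
  (705, (lf [(92, [24, 30, 46, 48, 50]), (332, [75, 71, 75, 77])])),
  (1187, (lf [(89, [28, 16, 30, 44, 46]), (329, [71, 69, 71, 69, 77])])),
  (847, (lf [(89, [75, 69, 71, 69]), (329, [75, 69, 71, 69, 77])])),
  (836, (lf [(25, [69, 73, 71, 69]), (265, [69, 73, 71, 69, 77])])),
  (772, (lf [(265, [71, 73, 71, 69, 78]), (25, [71, 73, 71, 69, 81])])),
  (1370, (lf [(265, [75, 73, 71, 69, 78]), (25, [75, 73, 71, 69, 81])])),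
  (776, (lf [(329, [16, 20, 24, 30, 46, 48]), (89, [73, 75, 71, 69, 81])])),
  (954, (lf [(76, [75, 69, 73, 69]), (348, [75, 69, 73, 69, 77])])),
  (761, (lf [(25, [75, 71, 73, 69, 78]), (265, [75, 71, 73, 69, 81])])),
  (1263, (lf [(25, [71, 75, 73, 69, 78]), (265, [71, 75, 73, 69, 81])])),
  (1258, (lf [(329, [16, 20, 24, 48, 50]), (89, [73, 71, 75, 69, 81])])),
  (1374, (lf [(89, [28, 16, 44, 50]), (329, [71, 73, 75, 69, 81])])),
  (1252, (lf [(89, [75, 73, 75, 69, 78]), (329, [75, 73, 75, 69, 81])])),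
  (1403, (lf [(348, [73, 71, 69, 71, 78]), (76, [73, 71, 69, 71, 81])])),
  (1000, (lf [(268, [75, 73, 69, 71, 78]), (28, [75, 73, 69, 71, 81])])),
  (1386, (lf [(284, [28, 20, 24, 44, 48]), (12, [73, 71, 73, 71, 77])])),
  (950, (lf [(12, [30, 46, 50]), (284, [75, 71, 75, 71, 77])])),
  (896, (lf [(329, [73, 71, 69, 73, 78]), (89, [28, 16, 24, 30, 50])])),
  (1046, (lf [(89, [71, 73, 69, 73, 78]), (329, [16, 20, 30, 44, 48, 50])])),
  (1206, (lf [(89, [75, 73, 69, 73, 78]), (329, [75, 73, 69, 73, 81])])),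
  (572, (lf [(25, [73, 75, 69, 73, 78]), (265, [73, 75, 69, 73, 81])])),
  (882, (lf [(12, [73, 69, 71, 73, 78]), (284, [28, 20, 46, 48, 50])])),
  (832, (lf [(92, [75, 73, 71, 73]), (332, [75, 73, 71, 73, 77])])),
  (621, (lf [(332, [28, 20, 30, 44, 46, 50]), (92, [69, 75, 71, 73, 79, 77])])),
  (614, (lf [(268, [73, 75, 71, 73]), (28, [73, 75, 71, 73, 77])])),
  (673, (lf [(268, [73, 71, 75, 73]), (28, [73, 71, 75, 73, 77])])),
  (886, (lf [(281, [69, 71, 69, 75]), (9, [69, 71, 69, 75, 77])])),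
  (663, (lf [(25, [73, 71, 69, 75, 79]), (265, [73, 71, 69, 75, 79, 77])])),
  (1165, (lf [(265, [71, 73, 69, 75, 79]), (25, [71, 73, 69, 75, 79, 77])])),
  (548, (lf [(348, [73, 69, 71, 75, 79]), (76, [73, 69, 71, 75, 79, 77])])),
  (812, (lf [(9, [75, 71, 69, 71, 69]), (281, [75, 71, 69, 71, 69, 77])])),
  (1229, (lf [(9, [71, 75, 69, 71, 69]), (281, [71, 75, 69, 71, 69, 77])])),
  (1312, (lf [(73, [71, 69, 73, 71, 69]), (345, [71, 69, 73, 71, 69, 77])])),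
  (1149, (lf [(73, [75, 69, 73, 71, 69]), (345, [75, 69, 73, 71, 69, 77])])),
  (1132, (lf [(28, [69, 71, 73, 71, 69]), (268, [69, 71, 73, 71, 69, 77])])),
  (571, (lf [(345, [75, 71, 73, 71, 69, 78]), (73, [75, 71, 73, 71, 69, 81])])),
  (1387, (lf [(28, [69, 75, 73, 71, 69, 79]), (268, [69, 75, 73, 71, 69, 79, 77])])),
  (870, (lf [(345, [71, 75, 73, 71, 69, 78]), (73, [71, 75, 73, 71, 69, 81])])),
  (1457, (lf [(332, [73, 69, 75, 71, 69, 79]), (92, [44, 46, 48, 50])])),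
  (1233, (lf [(281, [16, 20, 30, 46]), (9, [71, 73, 75, 71, 69, 81])])),
  (626, (lf [(281, [75, 73, 75, 71, 69, 78]), (9, [75, 73, 75, 71, 69, 81])])),
  (555, (lf [(28, [71, 75, 69, 73, 69]), (268, [71, 75, 69, 73, 69, 77])])),
  (1120, (lf [(268, [69, 75, 71, 73, 69, 79]), (28, [69, 75, 71, 73, 69, 79, 77])])),
  (1225, (lf [(73, [71, 75, 71, 73, 69, 78]), (345, [71, 75, 71, 73, 69, 81])])),
  (1482, (lf [(348, [69, 71, 75, 73, 69, 79]), (76, [69, 71, 75, 73, 69, 79, 77])])),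
  (1053, (lf [(73, [75, 71, 75, 73, 69, 78]), (345, [75, 71, 75, 73, 69, 81])])),
  (819, (lf [(281, [16, 20, 50]), (9, [71, 73, 71, 75, 69, 81])])),
  (1196, (lf [(89, [28, 16, 24, 46]), (329, [69, 75, 71, 75, 69, 77])])),
  (845, (lf [(345, [73, 75, 71, 75, 69, 78]), (73, [73, 75, 71, 75, 69, 81])])),
  (1379, (lf [(76, [75, 73, 71, 69, 71, 78]), (348, [75, 73, 71, 69, 71, 81])])),
  (1484, (lf [(284, [28, 20, 24, 30, 44, 46, 48, 50]), (12, [73, 75, 71, 69, 71, 81])])),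
  (593, (lf [(348, [71, 75, 73, 69, 71, 78]), (76, [71, 75, 73, 69, 71, 81])])),
  (1375, (lf [(12, [75, 73, 71, 73, 71]), (284, [75, 73, 71, 73, 71, 77])])),
  (936, (lf [(9, [28, 16, 46, 48]), (281, [69, 75, 71, 73, 71, 79, 77])])),
  (1494, (lf [(348, [73, 75, 71, 73, 71]), (76, [73, 75, 71, 73, 71, 77])])),
  (1202, (lf [(329, [69, 71, 69, 75, 71]), (89, [69, 71, 69, 75, 71, 77])])),
  (1201, (lf [(265, [73, 69, 71, 75, 71, 79]), (25, [73, 69, 71, 75, 71, 79, 77])])),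
  (1143, (lf [(281, [71, 73, 71, 69, 73, 78]), (9, [28, 16, 30, 48, 50])])),
  (1306, (lf [(281, [75, 73, 71, 69, 73, 78]), (9, [75, 73, 71, 69, 73, 81])])),
  (1148, (lf [(345, [73, 75, 71, 69, 73, 78]), (73, [73, 75, 71, 69, 73, 81])])),
  (1144, (lf [(9, [75, 71, 73, 69, 73, 78]), (281, [75, 71, 73, 69, 73, 81])])),
  (939, (lf [(9, [71, 75, 73, 69, 73, 78]), (281, [71, 75, 73, 69, 73, 81])])),
  (948, (lf [(345, [73, 71, 75, 69, 73, 78]), (73, [73, 71, 75, 69, 73, 81])])),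
  (1287, (lf [(73, [71, 73, 75, 69, 73, 78]), (345, [71, 73, 75, 69, 73, 81])])),
  (1133, (lf [(92, [71, 73, 69, 71, 73, 78]), (332, [28, 20, 24, 46, 50])])),
  (879, (lf [(284, [75, 73, 69, 71, 73, 78]), (12, [75, 73, 69, 71, 73, 81])])),
  (697, (lf [(76, [73, 75, 69, 71, 73, 78]), (348, [73, 75, 69, 71, 73, 81])])),
  (1475, (lf [(12, [71, 75, 73, 71, 73]), (284, [71, 75, 73, 71, 73, 77])])),
  (843, (lf [(92, [75, 69, 75, 71, 73, 79]), (332, [75, 69, 75, 71, 73, 79, 77])])),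
  (967, (lf [(76, [73, 71, 75, 71, 73]), (348, [73, 71, 75, 71, 73, 77])])),
  (909, (lf [(28, [75, 73, 75, 71, 73]), (268, [75, 73, 75, 71, 73, 77])])),
  (839, (lf [(28, [75, 73, 71, 75, 73]), (268, [75, 73, 71, 75, 73, 77])])),
  (1402, (lf [(329, [71, 69, 71, 69, 75]), (89, [71, 69, 71, 69, 75, 77])])),
  (1313, (lf [(73, [71, 73, 71, 69, 75, 79]), (345, [71, 73, 71, 69, 75, 79, 77])])),
  (1315, (lf [(9, [73, 75, 71, 69, 75, 79]), (281, [73, 75, 71, 69, 75, 79, 77])])),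
  (739, (lf [(28, [73, 71, 69, 71, 75, 79]), (268, [73, 71, 69, 71, 75, 79, 77])])),
  (670, (lf [(76, [75, 73, 69, 71, 75, 79]), (348, [75, 73, 69, 71, 75, 79, 77])])),
  (649, (lf [(284, [73, 75, 69, 71, 75, 79]), (12, [73, 75, 69, 71, 75, 79, 77])])),
  (683, (lf [(12, [73, 69, 73, 71, 75, 79]), (284, [73, 69, 73, 71, 75, 79, 77])])),
  (684, (lf [(76, [73, 69, 75, 71, 75, 78]), (348, [73, 69, 75, 71, 75, 81])])),
  (1381, (lf [(92, [30, 44, 48]), (332, [69, 75, 73, 69, 71, 69, 79, 77])])),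
  (1391, (lf [(25, [73, 75, 73, 69, 71, 69]), (265, [73, 75, 73, 69, 71, 69, 77])])),
  (1473, (lf [(268, [73, 69, 75, 69, 71, 69, 79]), (28, [73, 69, 75, 69, 71, 69, 79, 77])])),
  (1037, (lf [(25, [71, 75, 69, 73, 71, 69]), (265, [71, 75, 69, 73, 71, 69, 77])])),
  (1388, (lf [(268, [75, 69, 75, 73, 71, 69, 79]), (28, [75, 69, 75, 73, 71, 69, 79, 77])])),
  (1260, (lf [(265, [75, 71, 75, 73, 71, 69, 78]), (25, [75, 71, 75, 73, 71, 69, 81])])),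
  (1404, (lf [(332, [69, 73, 75, 73, 71, 69, 79]), (92, [69, 73, 75, 73, 71, 69, 79, 77])])),
  (647, (lf [(284, [71, 73, 69, 75, 71, 69, 79]), (12, [24, 44, 46, 50])])),
  (1469, (lf [(92, [75, 73, 69, 75, 71, 69, 79]), (332, [75, 73, 69, 75, 71, 69, 79, 77])])),
  (1319, (lf [(9, [69, 75, 69, 75, 71, 69]), (281, [16, 20, 24, 44, 46])])),
  (1462, (lf [(28, [73, 69, 73, 75, 71, 69, 79]), (268, [73, 69, 73, 75, 71, 69, 79, 77])])),
  (704, (lf [(268, [75, 71, 75, 69, 73, 69]), (28, [75, 71, 75, 69, 73, 69, 77])])),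
  (924, (lf [(348, [71, 69, 75, 71, 73, 69, 79]), (76, [71, 69, 75, 71, 73, 69, 79, 77])])),
  (740, (lf [(28, [75, 69, 75, 71, 73, 69, 79]), (268, [75, 69, 75, 71, 73, 69, 79, 77])])),
  (846, (lf [(265, [69, 71, 75, 71, 73, 69, 79]), (25, [69, 71, 75, 71, 73, 69, 79, 77])])),
  (1112, (lf [(92, [69, 73, 75, 71, 73, 69, 79]), (332, [69, 73, 75, 71, 73, 69, 79, 77])])),
  (1178, (lf [(265, [69, 75, 71, 75, 73, 69]), (25, [69, 75, 71, 75, 73, 69, 77])])),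
  (1317, (lf [(345, [69, 75, 73, 71, 69, 71, 79]), (73, [69, 75, 73, 71, 69, 71, 79, 77])])),
  (657, (lf [(89, [75, 69, 75, 71, 73, 71, 79]), (329, [75, 69, 75, 71, 73, 71, 79, 77])])),
  (685, (lf [(12, [24, 30, 44]), (284, [69, 71, 75, 71, 73, 71, 79, 77])])),
  (851, (lf [(329, [75, 71, 73, 71, 69, 73, 78]), (89, [75, 71, 73, 71, 69, 73, 81])])),
  (907, (lf [(265, [71, 73, 75, 71, 69, 73, 78]), (25, [71, 73, 75, 71, 69, 73, 81])])),
  (898, (lf [(89, [71, 75, 71, 73, 69, 73, 78]), (329, [71, 75, 71, 73, 69, 73, 81])])),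
  (660, (lf [(89, [75, 71, 75, 73, 69, 73, 78]), (329, [16, 20, 44, 46, 48])])),
  (576, (lf [(332, [75, 71, 73, 69, 71, 73, 78]), (92, [75, 71, 73, 69, 71, 73, 81])])),
  (1101, (lf [(76, [71, 73, 71, 69, 71, 75, 79]), (348, [71, 73, 71, 69, 71, 75, 79, 77])])),
  (643, (lf [(76, [73, 75, 69, 73, 71, 75, 79]), (348, [73, 75, 69, 73, 71, 75, 79, 77])])),
  (1090, (lf [(12, [69, 71, 75, 69, 75, 71, 69]), (284, [28, 20, 30, 48])])),
  (1084, (lf [(76, [73, 71, 75, 69, 75, 71, 69, 79]), (348, [73, 71, 75, 69, 75, 71, 69, 79, 77])])),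
  (741, (lf [(92, [73, 69, 75, 73, 71, 73, 69, 79]), (332, [28, 20, 24, 30])])),
  (1102, (lf [(284, [71, 75, 71, 73, 69, 71, 73, 78]), (12, [71, 75, 71, 73, 69, 71, 73, 81])]))]))]) (.node 519 [[28], [12], [16], [20], [24], [30], [44], [46], [48], [50]] [(274, 0), (274, 1), (274, 2), (274, 3), (274, 4), (274, 5), (274, 6), (274, 7), (274, 9), (18, 1), (18, 2), (18, 4), (18, 5), (18, 7), (18, 9), (275, 2), (275, 3), (275, 4), (275, 5), (275, 6), (275, 7), (275, 9), (278, 5), (338, 9), (19, 2), (19, 4), (19, 5), (19, 7), (19, 9), (279, 5), (339, 9)] (nat_lit 0x400000000000000000000000000000000000000000000000000000000000000000000) .nil (.node 520 [[28], [12], [16], [20], [24], [30], [44], [46], [48], [50]] [(70, 0), (70, 1), (70, 2), (70, 3), (70, 4), (70, 5), (70, 6), (70, 7), (70, 9), (326, 1), (326, 2), (326, 4), (326, 5), (326, 7), (326, 9), (71, 2), (71, 3), (71, 4), (71, 5), (71,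 6), (71, 7), (71, 9), (66, 5), (6, 9), (327, 2), (327, 4), (327, 5), (327, 7), (327, 9), (67, 5), (7, 9)] (nat_lit 0x400000000000000000) (nd [(70, (nd [(552, (lf [(13, [23, 37, 33]), (280, [23, 37, 33, 77])])),
  (1184, (lf [(88, [23, 37, 33, 71]), (333, [23, 37, 33, 71, 77])])),
  (965, (lf [(280, [23, 37, 33, 75]), (13, [23, 37, 33, 75, 77])])),
  (1031, (lf [(29, [23, 37, 33, 73, 69, 78]), (264, [23, 37, 33, 73, 69, 81])])),
  (1190, (lf [(333, [23, 37, 33, 75, 71]), (88, [23, 37, 33, 75, 71, 77])])),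
  (1034, (lf [(333, [23, 37, 33, 71, 75]), (88, [23, 37, 33, 71, 75, 77])])),
  (932, (lf [(8, [23, 37, 33, 69, 71, 69]), (285, [23, 37, 33, 69, 71, 69, 77])])),
  (1423, (lf [(349, [23, 37, 33, 73, 71, 69, 78]), (72, [23, 37, 33, 73, 71, 69, 81])])),
  (724, (lf [(344, [23, 37, 33, 69, 73, 69]), (77, [23, 37, 33, 69, 73, 69, 77])])),
  (978, (lf [(72, [23, 37, 33, 71, 73, 69, 78]), (349, [23, 37, 33, 71, 73, 69, 81])])),
  (706, (lf [(72, [23, 37, 33, 75, 73, 69, 78]), (349, [23, 37, 33, 75, 73, 69, 81])])),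
  (1070, (lf [(8, [23, 37, 33, 73, 75, 69, 78]), (285, [23, 37, 33, 73, 75, 69, 81])])),
  (1185, (lf [(24, [23, 37, 33, 73, 69, 71, 78]), (269, [23, 37, 33, 73, 69, 71, 81])])),
  (726, (lf [(280, [23, 37, 33, 71, 75, 71]), (13, [23, 37, 33, 71, 75, 71, 77])])),
  (1479, (lf [(8, [23, 37, 33, 73, 69, 73, 78]), (285, [23, 37, 33, 73, 69, 73, 81])])),
  (579, (lf [(333, [23, 37, 33, 73, 71, 73]), (88, [23, 37, 33, 73, 71, 73, 77])])),
  (533, (lf [(349, [23, 37, 33, 73, 69, 75, 79]), (72, [23, 37, 33, 73, 69, 75, 79, 77])])),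
  (904, (lf [(88, [23, 37, 33, 75, 71, 75]), (333, [23, 37, 33, 75, 71, 75, 77])])),
  (1005, (lf [(93, [23, 37, 33, 71, 69, 71, 69]), (328, [23, 37, 33, 71, 69, 71, 69, 77])])),
  (632, (lf [(93, [23, 37, 33, 75, 69, 71, 69]), (328, [23, 37, 33, 75, 69, 71, 69, 77])])),
  (826, (lf [(29, [23, 37, 33, 69, 73, 71, 69]), (264, [23, 37, 33, 69, 73, 71, 69, 77])])),
  (540, (lf [(264, [23, 37, 33, 71, 73, 71, 69, 78]), (29, [23, 37, 33, 71, 73, 71, 69, 81])])),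
  (1461, (lf [(264, [23, 37, 33, 75, 73, 71, 69, 78]), (29, [23, 37, 33, 75, 73, 71, 69, 81])])),
  (661, (lf [(328, [23, 37, 33, 73, 75, 71, 69, 78]), (93, [23, 37, 33, 73, 75, 71, 69, 81])])),
  (953, (lf [(77, [23, 37, 33, 75, 69, 73, 69]), (344, [23, 37, 33, 75, 69, 73, 69, 77])])),
  (563, (lf [(29, [23, 37, 33, 75, 71, 73, 69, 78]), (264, [23, 37, 33, 75, 71, 73, 69, 81])])),
  (1262, (lf [(29, [23, 37, 33, 71, 75, 73, 69, 78]), (264, [23, 37, 33, 71, 75, 73, 69, 81])])),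
  (1254, (lf [(328, [23, 37, 33, 73, 71, 75, 69, 78]), (93, [23, 37, 33, 73, 71, 75, 69, 81])])),
  (1405, (lf [(93, [23, 37, 33, 71, 73, 75, 69, 78]), (328, [23, 37, 33, 71, 73, 75, 69, 81])])),
  (1246, (lf [(93, [23, 37, 33, 75, 73, 75, 69, 78]), (328, [23, 37, 33, 75, 73, 75, 69, 81])])),
  (1217, (lf [(344, [23, 37, 33, 73, 71, 69, 71, 78]), (77, [23, 37, 33, 73, 71, 69, 71, 81])])),
  (1191, (lf [(269, [23, 37, 33, 75, 73, 69, 71, 78]), (24, [23, 37, 33, 75, 73, 69, 71, 81])])),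
  (1234, (lf [(280, [23, 37, 33, 73, 71, 73, 71]), (13, [23, 37, 33, 73, 71, 73, 71, 77])])),
  (748, (lf [(13, [23, 37, 33, 75, 71, 75, 71]), (280, [23, 37, 33, 75, 71, 75, 71, 77])])),
  (560, (lf [(328, [23, 37, 33, 73, 71, 69, 73, 78]), (93, [23, 37, 33, 73, 71, 69, 73, 81])])),
  (1047, (lf [(93, [23, 37, 33, 71, 73, 69, 73, 78]), (328, [23, 37, 33, 71, 73, 69, 73, 81])])),
  (1393, (lf [(93, [23, 37, 33, 75, 73, 69, 73, 78]), (328, [23, 37, 33, 75, 73, 69, 73, 81])])),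
  (768, (lf [(29, [23, 37, 33, 73, 75, 69, 73, 78]), (264, [23, 37, 33, 73, 75, 69, 73, 81])])),
  (803, (lf [(13, [23, 37, 33, 73, 69, 71, 73, 78]), (280, [23, 37, 33, 73, 69, 71, 73, 81])])),
  (728, (lf [(88, [23, 37, 33, 75, 73, 71, 73]), (333, [23, 37, 33, 75, 73, 71, 73, 77])])),
  (616, (lf [(333, [23, 37, 33, 69, 75, 71, 73, 79]), (88, [23, 37, 33, 69, 75, 71, 73, 79, 77])])),
  (639, (lf [(269, [23, 37, 33, 73, 75, 71, 73]), (24, [23, 37, 33, 73, 75, 71, 73, 77])])),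
  (742, (lf [(269, [23, 37, 33, 73, 71, 75, 73]), (24, [23, 37, 33, 73, 71, 75, 73, 77])])),
  (864, (lf [(285, [23, 37, 33, 69, 71, 69, 75]), (8, [23, 37, 33, 69, 71, 69, 75, 77])])),
  (763, (lf [(29, [23, 37, 33, 73, 71, 69, 75, 79]), (264, [23, 37, 33, 73, 71, 69, 75, 79, 77])])),
  (1385, (lf [(264, [23, 37, 33, 71, 73, 69, 75, 79]), (29, [23, 37, 33, 71, 73, 69, 75, 79, 77])])),
  (527, (lf [(344, [23, 37, 33, 73, 69, 71, 75, 79]), (77, [23, 37, 33, 73, 69, 71, 75, 79, 77])])),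
  (923, (lf [(8, [23, 37, 33, 75, 71, 69, 71, 69]), (285, [23, 37, 33, 75, 71, 69, 71, 69, 77])])),
  (1397, (lf [(8, [23, 37, 33, 71, 75, 69, 71, 69]), (285, [23, 37, 33, 71, 75, 69, 71, 69, 77])])),
  (1483, (lf [(72, [23, 37, 33, 71, 69, 73, 71, 69]), (349, [23, 37, 33, 71, 69, 73, 71, 69, 77])])),
  (1147, (lf [(72, [23, 37, 33, 75, 69, 73, 71, 69]), (349, [23, 37, 33, 75, 69, 73, 71, 69, 77])])),
  (1130, (lf [(24, [23, 37, 33, 69, 71, 73, 71, 69]), (269, [23, 37, 33, 69, 71, 73, 71, 69, 77])])),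
  (943, (lf [(349, [23, 37, 33, 75, 71, 73, 71, 69, 78]), (72, [23, 37, 33, 75, 71, 73, 71, 69, 81])])),
  (1162, (lf [(24, [23, 37, 33, 69, 75, 73, 71, 69, 79]), (269, [23, 37, 33, 69, 75, 73, 71, 69, 79, 77])])),
  (860, (lf [(349, [23, 37, 33, 71, 75, 73, 71, 69, 78]), (72, [23, 37, 33, 71, 75, 73, 71, 69, 81])])),
  (1367, (lf [(333, [23, 37, 33, 73, 69, 75, 71, 69, 79]), (88, [23, 37, 33, 73, 69, 75, 71, 69, 79, 77])])),
  (1424, (lf [(285, [23, 37, 33, 71, 73, 75, 71, 69, 78]), (8, [23, 37, 33, 71, 73, 75, 71, 69, 81])])),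
  (971, (lf [(285, [23, 37, 33, 75, 73, 75, 71, 69, 78]), (8, [23, 37, 33, 75, 73, 75, 71, 69, 81])])),
  (893, (lf [(24, [23, 37, 33, 71, 75, 69, 73, 69]), (269, [23, 37, 33, 71, 75, 69, 73, 69, 77])])),
  (1116, (lf [(269, [23, 37, 33, 69, 75, 71, 73, 69, 79]), (24, [23, 37, 33, 69, 75, 71, 73, 69, 79, 77])])),
  (1378, (lf [(72, [23, 37, 33, 71, 75, 71, 73, 69, 78]), (349, [23, 37, 33, 71, 75, 71, 73, 69, 81])])),
  (1330, (lf [(344, [23, 37, 33, 69, 71, 75, 73, 69, 79]), (77, [23, 37, 33, 69, 71, 75, 73, 69, 79, 77])])),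
  (884, (lf [(72, [23, 37, 33, 75, 71, 75, 73, 69, 78]), (349, [23, 37, 33, 75, 71, 75, 73, 69, 81])])),
  (700, (lf [(285, [23, 37, 33, 71, 73, 71, 75, 69, 78]), (8, [23, 37, 33, 71, 73, 71, 75, 69, 81])])),
  (1274, (lf [(93, [23, 37, 33, 69, 75, 71, 75, 69]), (328, [23, 37, 33, 69, 75, 71, 75, 69, 77])])),
  (702, (lf [(349, [23, 37, 33, 73, 75, 71, 75, 69, 78]), (72, [23, 37, 33, 73, 75, 71, 75, 69, 81])])),
  (1223, (lf [(77, [23, 37, 33, 75, 73, 71, 69, 71, 78]), (344, [23, 37, 33, 75, 73, 71, 69, 71, 81])])),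
  (1310, (lf [(280, [23, 37, 33, 73, 75, 71, 69, 71, 78]), (13, [23, 37, 33, 73, 75, 71, 69, 71, 81])])),
  (516, (lf [(344, [23, 37, 33, 71, 75, 73, 69, 71, 78]), (77, [23, 37, 33, 71, 75, 73, 69, 71, 81])])),
  (1219, (lf [(13, [23, 37, 33, 75, 73, 71, 73, 71]), (280, [23, 37, 33, 75, 73, 71, 73, 71, 77])])),
  (625, (lf [(8, [23, 37, 33, 69, 75, 71, 73, 71, 79]), (285, [23, 37, 33, 69, 75, 71, 73, 71, 79, 77])])),
  (1327, (lf [(344, [23, 37, 33, 73, 75, 71, 73, 71]), (77, [23, 37, 33, 73, 75, 71, 73, 71, 77])])),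
  (1006, (lf [(328, [23, 37, 33, 69, 71, 69, 75, 71]), (93, [23, 37, 33, 69, 71, 69, 75, 71, 77])])),
  (791, (lf [(264, [23, 37, 33, 73, 69, 71, 75, 71, 79]), (29, [23, 37, 33, 73, 69, 71, 75, 71, 79, 77])])),
  (1137, (lf [(285, [23, 37, 33, 71, 73, 71, 69, 73, 78]), (8, [23, 37, 33, 71, 73, 71, 69, 73, 81])])),
  (1177, (lf [(285, [23, 37, 33, 75, 73, 71, 69, 73, 78]), (8, [23, 37, 33, 75, 73, 71, 69, 73, 81])])),
  (1141, (lf [(349, [23, 37, 33, 73, 75, 71, 69, 73, 78]), (72, [23, 37, 33, 73, 75, 71, 69, 73, 81])])),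
  (1146, (lf [(8, [23, 37, 33, 75, 71, 73, 69, 73, 78]), (285, [23, 37, 33, 75, 71, 73, 69, 73, 81])])),
  (537, (lf [(8, [23, 37, 33, 71, 75, 73, 69, 73, 78]), (285, [23, 37, 33, 71, 75, 73, 69, 73, 81])])),
  (631, (lf [(349, [23, 37, 33, 73, 71, 75, 69, 73, 78]), (72, [23, 37, 33, 73, 71, 75, 69, 73, 81])])),
  (1096, (lf [(72, [23, 37, 33, 71, 73, 75, 69, 73, 78]), (349, [23, 37, 33, 71, 73, 75, 69, 73, 81])])),
  (1115, (lf [(88, [23, 37, 33, 71, 73, 69, 71, 73, 78]), (333, [23, 37, 33, 71, 73, 69, 71, 73, 81])])),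
  (800, (lf [(280, [23, 37, 33, 75, 73, 69, 71, 73, 78]), (13, [23, 37, 33, 75, 73, 69, 71, 73, 81])])),
  (798, (lf [(77, [23, 37, 33, 73, 75, 69, 71, 73, 78]), (344, [23, 37, 33, 73, 75, 69, 71, 73, 81])])),
  (1300, (lf [(13, [23, 37, 33, 71, 75, 73, 71, 73]), (280, [23, 37, 33, 71, 75, 73, 71, 73, 77])])),
  (581, (lf [(88, [23, 37, 33, 75, 69, 75, 71, 73, 79]), (333, [23, 37, 33, 75, 69, 75, 71, 73, 79, 77])])),
  (961, (lf [(77, [23, 37, 33, 73, 71, 75, 71, 73]), (344, [23, 37, 33, 73, 71, 75, 71, 73, 77])])),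
  (580, (lf [(24, [23, 37, 33, 75, 73, 75, 71, 73]), (269, [23, 37, 33, 75, 73, 75, 71, 73, 77])])),
  (624, (lf [(24, [23, 37, 33, 75, 73, 71, 75, 73]), (269, [23, 37, 33, 75, 73, 71, 75, 73, 77])])),
  (1463, (lf [(328, [23, 37, 33, 71, 69, 71, 69, 75]), (93, [23, 37, 33, 71, 69, 71, 69, 75, 77])])),
  (1091, (lf [(72, [23, 37, 33, 71, 73, 71, 69, 75, 79]), (349, [23, 37, 33, 71, 73, 71, 69, 75, 79, 77])])),
  (1480, (lf [(8, [23, 37, 33, 73, 75, 71, 69, 75, 79]), (285, [23, 37, 33, 73, 75, 71, 69, 75, 79, 77])])),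
  (686, (lf [(24, [23, 37, 33, 73, 71, 69, 71, 75, 79]), (269, [23, 37, 33, 73, 71, 69, 71, 75, 79, 77])])),
  (881, (lf [(77, [23, 37, 33, 75, 73, 69, 71, 75, 79]), (344, [23, 37, 33, 75, 73, 69, 71, 75, 79, 77])])),
  (867, (lf [(280, [23, 37, 33, 73, 75, 69, 71, 75, 79]), (13, [23, 37, 33, 73, 75, 69, 71, 75, 79, 77])])),
  (723, (lf [(13, [23, 37, 33, 73, 69, 73, 71, 75, 79]), (280, [23, 37, 33, 73, 69, 73, 71, 75, 79, 77])])),
  (725, (lf [(77, [23, 37, 33, 73, 69, 75, 71, 75, 78]), (344, [23, 37, 33, 73, 69, 75, 71, 75, 81])])),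
  (1172, (lf [(88, [23, 37, 33, 69, 75, 73, 69, 71, 69, 79]), (333, [23, 37, 33, 69, 75, 73, 69, 71, 69, 79, 77])])),
  (1468, (lf [(29, [23, 37, 33, 73, 75, 73, 69, 71, 69]), (264, [23, 37, 33, 73, 75, 73, 69, 71, 69, 77])])),
  (1418, (lf [(269, [23, 37, 33, 73, 69, 75, 69, 71, 69, 79]), (24, [23, 37, 33, 73, 69, 75, 69, 71, 69, 79, 77])])),
  (517, (lf [(29, [23, 37, 33, 71, 75, 69, 73, 71, 69]), (264, [23, 37, 33, 71, 75, 69, 73, 71, 69, 77])])),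
  (1163, (lf [(269, [23, 37, 33, 75, 69, 75, 73, 71, 69, 79]), (24, [23, 37, 33, 75, 69, 75, 73, 71, 69, 79, 77])])),
  (1256, (lf [(264, [23, 37, 33, 75, 71, 75, 73, 71, 69, 78]), (29, [23, 37, 33, 75, 71, 75, 73, 71, 69, 81])])),
  (1168, (lf [(333, [23, 37, 33, 69, 73, 75, 73, 71, 69, 79]), (88, [23, 37, 33, 69, 73, 75, 73, 71, 69, 79, 77])])),
  (648, (lf [(280, [23, 37, 33, 71, 73, 69, 75, 71, 69, 79]), (13, [23, 37, 33, 71, 73, 69, 75, 71, 69, 79, 77])])),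
  (1372, (lf [(88, [23, 37, 33, 75, 73, 69, 75, 71, 69, 79]), (333, [23, 37, 33, 75, 73, 69, 75, 71, 69, 79, 77])])),
  (1087, (lf [(8, [23, 37, 33, 69, 75, 69, 75, 71, 69]), (285, [23, 37, 33, 69, 75, 69, 75, 71, 69, 77])])),
  (1368, (lf [(24, [23, 37, 33, 73, 69, 73, 75, 71, 69, 79]), (269, [23, 37, 33, 73, 69, 73, 75, 71, 69, 79, 77])])),
  (894, (lf [(269, [23, 37, 33, 75, 71, 75, 69, 73, 69]), (24, [23, 37, 33, 75, 71, 75, 69, 73, 69, 77])])),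
  (824, (lf [(344, [23, 37, 33, 71, 69, 75, 71, 73, 69, 79]), (77, [23, 37, 33, 71, 69, 75, 71, 73, 69, 79, 77])])),
  (730, (lf [(24, [23, 37, 33, 75, 69, 75, 71, 73, 69, 79]), (269, [23, 37, 33, 75, 69, 75, 71, 73, 69, 79, 77])])),
  (833, (lf [(264, [23, 37, 33, 69, 71, 75, 71, 73, 69, 79]), (29, [23, 37, 33, 69, 71, 75, 71, 73, 69, 79, 77])])),
  (1129, (lf [(88, [23, 37, 33, 69, 73, 75, 71, 73, 69, 79]), (333, [23, 37, 33, 69, 73, 75, 71, 73, 69, 79, 77])])),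
  (1401, (lf [(264, [23, 37, 33, 69, 75, 71, 75, 73, 69]), (29, [23, 37, 33, 69, 75, 71, 75, 73, 69, 77])])),
  (1478, (lf [(349, [23, 37, 33, 69, 75, 73, 71, 69, 71, 79]), (72, [23, 37, 33, 69, 75, 73, 71, 69, 71, 79, 77])])),
  (755, (lf [(93, [23, 37, 33, 75, 69, 75, 71, 73, 71, 79]), (328, [23, 37, 33, 75, 69, 75, 71, 73, 71, 79, 77])])),
  (513, (lf [(13, [23, 37, 33, 69, 71, 75, 71, 73, 71, 79]), (280, [23, 37, 33, 69, 71, 75, 71, 73, 71, 79, 77])])),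
  (1044, (lf [(328, [23, 37, 33, 75, 71, 73, 71, 69, 73, 78]), (93, [23, 37, 33, 75, 71, 73, 71, 69, 73, 81])])),
  (708, (lf [(264, [23, 37, 33, 71, 73, 75, 71, 69, 73, 78]), (29, [23, 37, 33, 71, 73, 75, 71, 69, 73, 81])])),
  (713, (lf [(93, [23, 37, 33, 71, 75, 71, 73, 69, 73, 78]), (328, [23, 37, 33, 71, 75, 71, 73, 69, 73, 81])])),
  (770, (lf [(93, [23, 37, 33, 75, 71, 75, 73, 69, 73, 78]), (328, [23, 37, 33, 75, 71, 75, 73, 69, 73, 81])])),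
  (822, (lf [(333, [23, 37, 33, 75, 71, 73, 69, 71, 73, 78]), (88, [23, 37, 33, 75, 71, 73, 69, 71, 73, 81])])),
  (1291, (lf [(77, [23, 37, 33, 71, 73, 71, 69, 71, 75, 79]), (344, [23, 37, 33, 71, 73, 71, 69, 71, 75, 79, 77])])),
  (538, (lf [(77, [23, 37, 33, 73, 75, 69, 73, 71, 75, 79]), (344, [23, 37, 33, 73, 75, 69, 73, 71, 75, 79, 77])])),
  (1320, (lf [(13, [23, 37, 33, 69, 71, 75, 69, 75, 71, 69]), (280, [23, 37, 33, 69, 71, 75, 69, 75, 71, 69, 77])])),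
  (1293, (lf [(77, [23, 37, 33, 73, 71, 75, 69, 75, 71, 69, 79]), (344, [23, 37, 33, 73, 71, 75, 69, 75, 71, 69, 79, 77])])),
  (675, (lf [(88, [23, 37, 33, 73, 69, 75, 73, 71, 73, 69, 79]), (333, [23, 37, 33, 73, 69, 75, 73, 71, 73, 69, 79, 77])])),
  (1268, (lf [(280, [23, 37, 33, 71, 75, 71, 73, 69, 71, 73, 78]), (13, [23, 37, 33, 71, 75, 71, 73, 69, 71, 73, 81])]))]))]) (.node 521 [[28], [12], [16], [20], [24], [30], [44], [46], [48], [50]] [(71, 0), (71, 1), (71, 2), (71, 3), (71, 4), (71, 5), (71, 6), (71, 7), (71, 9), (327, 1), (327, 2), (327, 4), (327, 5), (327, 7), (327, 9), (70, 2), (70, 3), (70, 4), (70, 5), (70, 6), (70, 7), (70, 9), (67, 5), (7, 9), (326, 2), (326, 4), (326, 5), (326, 7), (326, 9), (66, 5), (6, 9)] (nat_lit 0x800000000000000000) .nil (.node 720 [[28], [12], [16], [20], [24], [30], [44], [46], [48], [50]] [(2, 0), (2, 1), (2, 2), (2, 3), (2, 4), (2, 5),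 (2, 6), (2, 7), (2, 9), (258, 1), (258, 2), (258, 4), (258, 5), (258, 7), (258, 9), (3, 2), (3, 3), (3, 4), (3, 5), (3, 6), (3, 7), (3, 9), (6, 5), (66, 9), (259, 2), (259, 4), (259, 5), (259, 7), (259, 9), (7, 5), (67, 9)] (nat_lit 0x4) .nil (.node 564 [[28], [12], [16], [20], [24], [30], [44], [46], [48], [50]] [(262, 0), (262, 1), (262, 2), (262, 3), (262, 4), (262, 5), (262, 6), (262, 7), (262, 9), (6, 1), (6, 2), (6, 4), (6, 5), (6, 7), (6, 9), (263, 2), (263, 3), (263, 4), (263, 5), (263, 6), (263, 7), (263, 9), (258, 5), (326, 9), (7, 2), (7, 4), (7, 5), (7, 7), (7, 9), (259, 5), (327, 9)] (nat_lit 0x400000000000000000000000000000000000000000000000000000000000000000) .nil (.node 565 [[28], [12], [16], [20], [24], [30], [44], [46], [48], [50]] [(18, 0), (18, 1), (18, 2), (18, 3), (18, 4), (18, 5), (18, 6), (18, 7), (18, 9), (274, 1), (274, 2), (274, 4), (274, 5), (274, 7), (274,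 9), (19, 2), (19, 3), (19, 4), (19, 5), (19, 6), (19, 7), (19, 9), (22, 5), (82, 9), (275, 2), (275, 4), (275, 5), (275, 7), (275, 9), (23, 5), (83, 9)] (nat_lit 0x40000) (nd [(18, (nd [(597, (lf [(89, [19, 15, 41]), (9, [19, 15, 41, 77])])),
  (1377, (lf [(329, [19, 15, 41, 71]), (281, [19, 15, 41, 71, 77])])),
  (973, (lf [(9, [19, 15, 41, 75]), (89, [19, 15, 41, 75, 77])])),
  (1220, (lf [(268, [19, 15, 41, 73, 69, 78]), (348, [19, 15, 41, 73, 69, 81])])),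
  (1400, (lf [(281, [19, 15, 41, 75, 71]), (329, [19, 15, 41, 75, 71, 77])])),
  (1486, (lf [(281, [19, 15, 41, 71, 75]), (329, [19, 15, 41, 71, 75, 77])])),
  (534, (lf [(92, [19, 15, 41, 69, 71, 69]), (12, [19, 15, 41, 69, 71, 69, 77])])),
  (1015, (lf [(76, [19, 15, 41, 73, 71, 69, 78]), (28, [19, 15, 41, 73, 71, 69, 81])])),
  (526, (lf [(73, [19, 15, 41, 69, 73, 69]), (25, [19, 15, 41, 69, 73, 69, 77])])),
  (536, (lf [(28, [19, 15, 41, 71, 73, 69, 78]), (76, [19, 15, 41, 71, 73, 69, 81])])),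
  (1369, (lf [(28, [19, 15, 41, 75, 73, 69, 78]), (76, [19, 15, 41, 75, 73, 69, 81])])),
  (861, (lf [(92, [19, 15, 41, 73, 75, 69, 78]), (12, [19, 15, 41, 73, 75, 69, 81])])),
  (1396, (lf [(265, [19, 15, 41, 73, 69, 71, 78]), (345, [19, 15, 41, 73, 69, 71, 81])])),
  (598, (lf [(9, [19, 15, 41, 71, 75, 71]), (89, [19, 15, 41, 71, 75, 71, 77])])),
  (895, (lf [(92, [19, 15, 41, 73, 69, 73, 78]), (12, [19, 15, 41, 73, 69, 73, 81])])),
  (888, (lf [(281, [19, 15, 41, 73, 71, 73]), (329, [19, 15, 41, 73, 71, 73, 77])])),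
  (934, (lf [(76, [19, 15, 41, 73, 69, 75, 79]), (28, [19, 15, 41, 73, 69, 75, 79, 77])])),
  (1477, (lf [(329, [19, 15, 41, 75, 71, 75]), (281, [19, 15, 41, 75, 71, 75, 77])])),
  (1221, (lf [(332, [19, 15, 41, 71, 69, 71, 69]), (284, [19, 15, 41, 71, 69, 71, 69, 77])])),
  (759, (lf [(332, [19, 15, 41, 75, 69, 71, 69]), (284, [19, 15, 41, 75, 69, 71, 69, 77])])),
  (829, (lf [(268, [19, 15, 41, 69, 73, 71, 69]), (348, [19, 15, 41, 69, 73, 71, 69, 77])])),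
  (765, (lf [(348, [19, 15, 41, 71, 73, 71, 69, 78]), (268, [19, 15, 41, 71, 73, 71, 69, 81])])),
  (606, (lf [(348, [19, 15, 41, 75, 73, 71, 69, 78]), (268, [19, 15, 41, 75, 73, 71, 69, 81])])),
  (583, (lf [(284, [19, 15, 41, 73, 75, 71, 69, 78]), (332, [19, 15, 41, 73, 75, 71, 69, 81])])),
  (955, (lf [(25, [19, 15, 41, 75, 69, 73, 69]), (73, [19, 15, 41, 75, 69, 73, 69, 77])])),
  (760, (lf [(268, [19, 15, 41, 75, 71, 73, 69, 78]), (348, [19, 15, 41, 75, 71, 73, 69, 81])])),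
  (1251, (lf [(268, [19, 15, 41, 71, 75, 73, 69, 78]), (348, [19, 15, 41, 71, 75, 73, 69, 81])])),
  (1111, (lf [(284, [19, 15, 41, 73, 71, 75, 69, 78]), (332, [19, 15, 41, 73, 71, 75, 69, 81])])),
  (802, (lf [(332, [19, 15, 41, 71, 73, 75, 69, 78]), (284, [19, 15, 41, 71, 73, 75, 69, 81])])),
  (1250, (lf [(332, [19, 15, 41, 75, 73, 75, 69, 78]), (284, [19, 15, 41, 75, 73, 75, 69, 81])])),
  (1029, (lf [(73, [19, 15, 41, 73, 71, 69, 71, 78]), (25, [19, 15, 41, 73, 71, 69, 71, 81])])),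
  (1392, (lf [(345, [19, 15, 41, 75, 73, 69, 71, 78]), (265, [19, 15, 41, 75, 73, 69, 71, 81])])),
  (1012, (lf [(9, [19, 15, 41, 73, 71, 73, 71]), (89, [19, 15, 41, 73, 71, 73, 71, 77])])),
  (970, (lf [(89, [19, 15, 41, 75, 71, 75, 71]), (9, [19, 15, 41, 75, 71, 75, 71, 77])])),
  (1181, (lf [(284, [19, 15, 41, 73, 71, 69, 73, 78]), (332, [19, 15, 41, 73, 71, 69, 73, 81])])),
  (830, (lf [(332, [19, 15, 41, 71, 73, 69, 73, 78]), (284, [19, 15, 41, 71, 73, 69, 73, 81])])),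
  (1271, (lf [(332, [19, 15, 41, 75, 73, 69, 73, 78]), (284, [19, 15, 41, 75, 73, 69, 73, 81])])),
  (543, (lf [(268, [19, 15, 41, 73, 75, 69, 73, 78]), (348, [19, 15, 41, 73, 75, 69, 73, 81])])),
  (1470, (lf [(89, [19, 15, 41, 73, 69, 71, 73, 78]), (9, [19, 15, 41, 73, 69, 71, 73, 81])])),
  (629, (lf [(329, [19, 15, 41, 75, 73, 71, 73]), (281, [19, 15, 41, 75, 73, 71, 73, 77])])),
  (617, (lf [(281, [19, 15, 41, 69, 75, 71, 73, 79]), (329, [19, 15, 41, 69, 75, 71, 73, 79, 77])])),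
  (635, (lf [(345, [19, 15, 41, 73, 75, 71, 73]), (265, [19, 15, 41, 73, 75, 71, 73, 77])])),
  (817, (lf [(345, [19, 15, 41, 73, 71, 75, 73]), (265, [19, 15, 41, 73, 71, 75, 73, 77])])),
  (642, (lf [(12, [19, 15, 41, 69, 71, 69, 75]), (92, [19, 15, 41, 69, 71, 69, 75, 77])])),
  (515, (lf [(268, [19, 15, 41, 73, 71, 69, 75, 79]), (348, [19, 15, 41, 73, 71, 69, 75, 79, 77])])),
  (1272, (lf [(348, [19, 15, 41, 71, 73, 69, 75, 79]), (268, [19, 15, 41, 71, 73, 69, 75, 79, 77])])),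
  (688, (lf [(73, [19, 15, 41, 73, 69, 71, 75, 79]), (25, [19, 15, 41, 73, 69, 71, 75, 79, 77])])),
  (1371, (lf [(92, [19, 15, 41, 75, 71, 69, 71, 69]), (12, [19, 15, 41, 75, 71, 69, 71, 69, 77])])),
  (1188, (lf [(92, [19, 15, 41, 71, 75, 69, 71, 69]), (12, [19, 15, 41, 71, 75, 69, 71, 69, 77])])),
  (897, (lf [(28, [19, 15, 41, 71, 69, 73, 71, 69]), (76, [19, 15, 41, 71, 69, 73, 71, 69, 77])])),
  (1139, (lf [(28, [19, 15, 41, 75, 69, 73, 71, 69]), (76, [19, 15, 41, 75, 69, 73, 71, 69, 77])])),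
  (1124, (lf [(265, [19, 15, 41, 69, 71, 73, 71, 69]), (345, [19, 15, 41, 69, 71, 73, 71, 69, 77])])),
  (562, (lf [(76, [19, 15, 41, 75, 71, 73, 71, 69, 78]), (28, [19, 15, 41, 75, 71, 73, 71, 69, 81])])),
  (1085, (lf [(265, [19, 15, 41, 69, 75, 73, 71, 69, 79]), (345, [19, 15, 41, 69, 75, 73, 71, 69, 79, 77])])),
  (880, (lf [(76, [19, 15, 41, 71, 75, 73, 71, 69, 78]), (28, [19, 15, 41, 71, 75, 73, 71, 69, 81])])),
  (878, (lf [(281, [19, 15, 41, 73, 69, 75, 71, 69, 79]), (329, [19, 15, 41, 73, 69, 75, 71, 69, 79, 77])])),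
  (1193, (lf [(12, [19, 15, 41, 71, 73, 75, 71, 69, 78]), (92, [19, 15, 41, 71, 73, 75, 71, 69, 81])])),
  (514, (lf [(12, [19, 15, 41, 75, 73, 75, 71, 69, 78]), (92, [19, 15, 41, 75, 73, 75, 71, 69, 81])])),
  (1488, (lf [(265, [19, 15, 41, 71, 75, 69, 73, 69]), (345, [19, 15, 41, 71, 75, 69, 73, 69, 77])])),
  (1117, (lf [(345, [19, 15, 41, 69, 75, 71, 73, 69, 79]), (265, [19, 15, 41, 69, 75, 71, 73, 69, 79, 77])])),
  (1186, (lf [(28, [19, 15, 41, 71, 75, 71, 73, 69, 78]), (76, [19, 15, 41, 71, 75, 71, 73, 69, 81])])),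
  (707, (lf [(73, [19, 15, 41, 69, 71, 75, 73, 69, 79]), (25, [19, 15, 41, 69, 71, 75, 73, 69, 79, 77])])),
  (862, (lf [(28, [19, 15, 41, 75, 71, 75, 73, 69, 78]), (76, [19, 15, 41, 75, 71, 75, 73, 69, 81])])),
  (1414, (lf [(12, [19, 15, 41, 71, 73, 71, 75, 69, 78]), (92, [19, 15, 41, 71, 73, 71, 75, 69, 81])])),
  (1154, (lf [(332, [19, 15, 41, 69, 75, 71, 75, 69]), (284, [19, 15, 41, 69, 75, 71, 75, 69, 77])])),
  (1267, (lf [(76, [19, 15, 41, 73, 75, 71, 75, 69, 78]), (28, [19, 15, 41, 73, 75, 71, 75, 69, 81])])),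
  (1026, (lf [(25, [19, 15, 41, 75, 73, 71, 69, 71, 78]), (73, [19, 15, 41, 75, 73, 71, 69, 71, 81])])),
  (710, (lf [(9, [19, 15, 41, 73, 75, 71, 69, 71, 78]), (89, [19, 15, 41, 73, 75, 71, 69, 71, 81])])),
  (595, (lf [(73, [19, 15, 41, 71, 75, 73, 69, 71, 78]), (25, [19, 15, 41, 71, 75, 73, 69, 71, 81])])),
  (1002, (lf [(89, [19, 15, 41, 75, 73, 71, 73, 71]), (9, [19, 15, 41, 75, 73, 71, 73, 71, 77])])),
  (968, (lf [(92, [19, 15, 41, 69, 75, 71, 73, 71, 79]), (12, [19, 15, 41, 69, 75, 71, 73, 71, 79, 77])])),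
  (711, (lf [(73, [19, 15, 41, 73, 75, 71, 73, 71]), (25, [19, 15, 41, 73, 75, 71, 73, 71, 77])])),
  (1227, (lf [(284, [19, 15, 41, 69, 71, 69, 75, 71]), (332, [19, 15, 41, 69, 71, 69, 75, 71, 77])])),
  (1083, (lf [(348, [19, 15, 41, 73, 69, 71, 75, 71, 79]), (268, [19, 15, 41, 73, 69, 71, 75, 71, 79, 77])])),
  (1145, (lf [(12, [19, 15, 41, 71, 73, 71, 69, 73, 78]), (92, [19, 15, 41, 71, 73, 71, 69, 73, 81])])),
  (999, (lf [(12, [19, 15, 41, 75, 73, 71, 69, 73, 78]), (92, [19, 15, 41, 75, 73, 71, 69, 73, 81])])),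
  (949, (lf [(76, [19, 15, 41, 73, 75, 71, 69, 73, 78]), (28, [19, 15, 41, 73, 75, 71, 69, 73, 81])])),
  (1140, (lf [(92, [19, 15, 41, 75, 71, 73, 69, 73, 78]), (12, [19, 15, 41, 75, 71, 73, 69, 73, 81])])),
  (935, (lf [(92, [19, 15, 41, 71, 75, 73, 69, 73, 78]), (12, [19, 15, 41, 71, 75, 73, 69, 73, 81])])),
  (732, (lf [(76, [19, 15, 41, 73, 71, 75, 69, 73, 78]), (28, [19, 15, 41, 73, 71, 75, 69, 73, 81])])),
  (1166, (lf [(28, [19, 15, 41, 71, 73, 75, 69, 73, 78]), (76, [19, 15, 41, 71, 73, 75, 69, 73, 81])])),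
  (1114, (lf [(329, [19, 15, 41, 71, 73, 69, 71, 73, 78]), (281, [19, 15, 41, 71, 73, 69, 71, 73, 81])])),
  (1465, (lf [(9, [19, 15, 41, 75, 73, 69, 71, 73, 78]), (89, [19, 15, 41, 75, 73, 69, 71, 73, 81])])),
  (1459, (lf [(25, [19, 15, 41, 73, 75, 69, 71, 73, 78]), (73, [19, 15, 41, 73, 75, 69, 71, 73, 81])])),
  (557, (lf [(89, [19, 15, 41, 71, 75, 73, 71, 73]), (9, [19, 15, 41, 71, 75, 73, 71, 73, 77])])),
  (811, (lf [(329, [19, 15, 41, 75, 69, 75, 71, 73, 79]), (281, [19, 15, 41, 75, 69, 75, 71, 73, 79, 77])])),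
  (952, (lf [(25, [19, 15, 41, 73, 71, 75, 71, 73]), (73, [19, 15, 41, 73, 71, 75, 71, 73, 77])])),
  (674, (lf [(265, [19, 15, 41, 75, 73, 75, 71, 73]), (345, [19, 15, 41, 75, 73, 75, 71, 73, 77])])),
  (615, (lf [(265, [19, 15, 41, 75, 73, 71, 75, 73]), (345, [19, 15, 41, 75, 73, 71, 75, 73, 77])])),
  (849, (lf [(284, [19, 15, 41, 71, 69, 71, 69, 75]), (332, [19, 15, 41, 71, 69, 71, 69, 75, 77])])),
  (1198, (lf [(28, [19, 15, 41, 71, 73, 71, 69, 75, 79]), (76, [19, 15, 41, 71, 73, 71, 69, 75, 79, 77])])),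
  (677, (lf [(92, [19, 15, 41, 73, 75, 71, 69, 75, 79]), (12, [19, 15, 41, 73, 75, 71, 69, 75, 79, 77])])),
  (743, (lf [(265, [19, 15, 41, 73, 71, 69, 71, 75, 79]), (345, [19, 15, 41, 73, 71, 69, 71, 75, 79, 77])])),
  (668, (lf [(25, [19, 15, 41, 75, 73, 69, 71, 75, 79]), (73, [19, 15, 41, 75, 73, 69, 71, 75, 79, 77])])),
  (645, (lf [(9, [19, 15, 41, 73, 75, 69, 71, 75, 79]), (89, [19, 15, 41, 73, 75, 69, 71, 75, 79, 77])])),
  (550, (lf [(89, [19, 15, 41, 73, 69, 73, 71, 75, 79]), (9, [19, 15, 41, 73, 69, 73, 71, 75, 79, 77])])),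
  (691, (lf [(25, [19, 15, 41, 73, 69, 75, 71, 75, 78]), (73, [19, 15, 41, 73, 69, 75, 71, 75, 81])])),
  (1098, (lf [(329, [19, 15, 41, 69, 75, 73, 69, 71, 69, 79]), (281, [19, 15, 41, 69, 75, 73, 69, 71, 69, 79, 77])])),
  (801, (lf [(268, [19, 15, 41, 73, 75, 73, 69, 71, 69]), (348, [19, 15, 41, 73, 75, 73, 69, 71, 69, 77])])),
  (698, (lf [(345, [19, 15, 41, 73, 69, 75, 69, 71, 69, 79]), (265, [19, 15, 41, 73, 69, 75, 69, 71, 69, 79, 77])])),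
  (1304, (lf [(268, [19, 15, 41, 71, 75, 69, 73, 71, 69]), (348, [19, 15, 41, 71, 75, 69, 73, 71, 69, 77])])),
  (1088, (lf [(345, [19, 15, 41, 75, 69, 75, 73, 71, 69, 79]), (265, [19, 15, 41, 75, 69, 75, 73, 71, 69, 79, 77])])),
  (1257, (lf [(348, [19, 15, 41, 75, 71, 75, 73, 71, 69, 78]), (268, [19, 15, 41, 75, 71, 75, 73, 71, 69, 81])])),
  (1092, (lf [(281, [19, 15, 41, 69, 73, 75, 73, 71, 69, 79]), (329, [19, 15, 41, 69, 73, 75, 73, 71, 69, 79, 77])])),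
  (842, (lf [(9, [19, 15, 41, 71, 73, 69, 75, 71, 69, 79]), (89, [19, 15, 41, 71, 73, 69, 75, 71, 69, 79, 77])])),
  (877, (lf [(329, [19, 15, 41, 75, 73, 69, 75, 71, 69, 79]), (281, [19, 15, 41, 75, 73, 69, 75, 71, 69, 79, 77])])),
  (1164, (lf [(92, [19, 15, 41, 69, 75, 69, 75, 71, 69]), (12, [19, 15, 41, 69, 75, 69, 75, 71, 69, 77])])),
  (922, (lf [(265, [19, 15, 41, 73, 69, 73, 75, 71, 69, 79]), (345, [19, 15, 41, 73, 69, 73, 75, 71, 69, 79, 77])])),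
  (1485, (lf [(345, [19, 15, 41, 75, 71, 75, 69, 73, 69]), (265, [19, 15, 41, 75, 71, 75, 69, 73, 69, 77])])),
  (1471, (lf [(73, [19, 15, 41, 71, 69, 75, 71, 73, 69, 79]), (25, [19, 15, 41, 71, 69, 75, 71, 73, 69, 79, 77])])),
  (745, (lf [(265, [19, 15, 41, 75, 69, 75, 71, 73, 69, 79]), (345, [19, 15, 41, 75, 69, 75, 71, 73, 69, 79, 77])])),
  (613, (lf [(348, [19, 15, 41, 69, 71, 75, 71, 73, 69, 79]), (268, [19, 15, 41, 69, 71, 75, 71, 73, 69, 79, 77])])),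
  (1126, (lf [(329, [19, 15, 41, 69, 73, 75, 71, 73, 69, 79]), (281, [19, 15, 41, 69, 73, 75, 71, 73, 69, 79, 77])])),
  (1285, (lf [(348, [19, 15, 41, 69, 75, 71, 75, 73, 69]), (268, [19, 15, 41, 69, 75, 71, 75, 73, 69, 77])])),
  (901, (lf [(76, [19, 15, 41, 69, 75, 73, 71, 69, 71, 79]), (28, [19, 15, 41, 69, 75, 73, 71, 69, 71, 79, 77])])),
  (666, (lf [(332, [19, 15, 41, 75, 69, 75, 71, 73, 71, 79]), (284, [19, 15, 41, 75, 69, 75, 71, 73, 71, 79, 77])])),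
  (690, (lf [(89, [19, 15, 41, 69, 71, 75, 71, 73, 71, 79]), (9, [19, 15, 41, 69, 71, 75, 71, 73, 71, 79, 77])])),
  (841, (lf [(284, [19, 15, 41, 75, 71, 73, 71, 69, 73, 78]), (332, [19, 15, 41, 75, 71, 73, 71, 69, 73, 81])])),
  (1333, (lf [(348, [19, 15, 41, 71, 73, 75, 71, 69, 73, 78]), (268, [19, 15, 41, 71, 73, 75, 71, 69, 73, 81])])),
  (1303, (lf [(332, [19, 15, 41, 71, 75, 71, 73, 69, 73, 78]), (284, [19, 15, 41, 71, 75, 71, 73, 69, 73, 81])])),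
  (545, (lf [(332, [19, 15, 41, 75, 71, 75, 73, 69, 73, 78]), (284, [19, 15, 41, 75, 71, 75, 73, 69, 73, 81])])),
  (746, (lf [(281, [19, 15, 41, 75, 71, 73, 69, 71, 73, 78]), (329, [19, 15, 41, 75, 71, 73, 69, 71, 73, 81])])),
  (1390, (lf [(25, [19, 15, 41, 71, 73, 71, 69, 71, 75, 79]), (73, [19, 15, 41, 71, 73, 71, 69, 71, 75, 79, 77])])),
  (659, (lf [(25, [19, 15, 41, 73, 75, 69, 73, 71, 75, 79]), (73, [19, 15, 41, 73, 75, 69, 73, 71, 75, 79, 77])])),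
  (1416, (lf [(89, [19, 15, 41, 69, 71, 75, 69, 75, 71, 69]), (9, [19, 15, 41, 69, 71, 75, 69, 75, 71, 69, 77])])),
  (1383, (lf [(25, [19, 15, 41, 73, 71, 75, 69, 75, 71, 69, 79]), (73, [19, 15, 41, 73, 71, 75, 69, 75, 71, 69, 79, 77])])),
  (578, (lf [(329, [19, 15, 41, 73, 69, 75, 73, 71, 73, 69, 79]), (281, [19, 15, 41, 73, 69, 75, 73, 71, 73, 69, 79, 77])])),
  (1399, (lf [(9, [19, 15, 41, 71, 75, 71, 73, 69, 71, 73, 78]), (89, [19, 15, 41, 71, 75, 71, 73, 69, 71, 73, 81])]))]))]) (.node 566 [[28], [12], [16], [20], [24], [30], [44], [46], [48], [50]] [(322, 0), (322, 1), (322, 2), (322, 3), (322, 4), (322, 5), (322, 6), (322, 7), (322, 9), (66, 1), (66, 2), (66, 4), (66, 5), (66, 7), (66, 9), (323, 2), (323, 3), (323, 4), (323, 5), (323, 6), (323, 7), (323, 9), (326, 5), (258, 9), (67, 2), (67, 4), (67, 5), (67, 7), (67, 9), (327, 5), (259, 9)] (nat_lit 0x400000000000000000000000000000000000000000000000000000000000000000000000000000000)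 (nd [(322, (nd [(1201, (lf [(332, [23, 15, 61]), (9, [23, 15, 61, 77])])),
  (1000, (lf [(329, [23, 15, 61, 71]), (12, [23, 15, 61, 71, 77])])),
  (999, (lf [(9, [23, 15, 61, 75]), (332, [23, 15, 61, 75, 77])])),
  (526, (lf [(345, [23, 15, 61, 73, 69, 78]), (28, [23, 15, 61, 73, 69, 81])])),
  (1002, (lf [(12, [23, 15, 61, 75, 71]), (329, [23, 15, 61, 75, 71, 77])])),
  (1399, (lf [(12, [23, 15, 61, 71, 75]), (329, [23, 15, 61, 71, 75, 77])])),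
  (571, (lf [(284, [23, 15, 61, 69, 71, 69]), (89, [23, 15, 61, 69, 71, 69, 77])])),
  (1124, (lf [(25, [23, 15, 61, 73, 71, 69, 78]), (348, [23, 15, 61, 73, 71, 69, 81])])),
  (1015, (lf [(73, [23, 15, 61, 69, 73, 69]), (268, [23, 15, 61, 69, 73, 69, 77])])),
  (536, (lf [(348, [23, 15, 61, 71, 73, 69, 78]), (25, [23, 15, 61, 71, 73, 69, 81])])),
  (621, (lf [(348, [23, 15, 61, 75, 73, 69, 78]), (25, [23, 15, 61, 75, 73, 69, 81])])),
  (980, (lf [(284, [23, 15, 61, 73, 75, 69, 78]), (89, [23, 15, 61, 73, 75, 69, 81])])),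
  (1029, (lf [(265, [23, 15, 61, 73, 69, 71, 78]), (76, [23, 15, 61, 73, 69, 71, 81])])),
  (1188, (lf [(9, [23, 15, 61, 71, 75, 71]), (332, [23, 15, 61, 71, 75, 71, 77])])),
  (909, (lf [(284, [23, 15, 61, 73, 69, 73, 78]), (89, [23, 15, 61, 73, 69, 73, 81])])),
  (1317, (lf [(12, [23, 15, 61, 73, 71, 73]), (329, [23, 15, 61, 73, 71, 73, 77])])),
  (887, (lf [(25, [23, 15, 61, 73, 69, 75, 79]), (348, [23, 15, 61, 73, 69, 75, 79, 77])])),
  (1387, (lf [(329, [23, 15, 61, 75, 71, 75]), (12, [23, 15, 61, 75, 71, 75, 77])])),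
  (593, (lf [(281, [23, 15, 61, 71, 69, 71, 69]), (92, [23, 15, 61, 71, 69, 71, 69, 77])])),
  (841, (lf [(281, [23, 15, 61, 75, 69, 71, 69]), (92, [23, 15, 61, 75, 69, 71, 69, 77])])),
  (765, (lf [(345, [23, 15, 61, 69, 73, 71, 69]), (28, [23, 15, 61, 69, 73, 71, 69, 77])])),
  (829, (lf [(28, [23, 15, 61, 71, 73, 71, 69, 78]), (345, [23, 15, 61, 71, 73, 71, 69, 81])])),
  (685, (lf [(28, [23, 15, 61, 75, 73, 71, 69, 78]), (345, [23, 15, 61, 75, 73, 71, 69, 81])])),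
  (846, (lf [(92, [23, 15, 61, 73, 75, 71, 69, 78]), (281, [23, 15, 61, 73, 75, 71, 69, 81])])),
  (1196, (lf [(268, [23, 15, 61, 75, 69, 73, 69]), (73, [23, 15, 61, 75, 69, 73, 69, 77])])),
  (1046, (lf [(345, [23, 15, 61, 75, 71, 73, 69, 78]), (28, [23, 15, 61, 75, 71, 73, 69, 81])])),
  (1258, (lf [(345, [23, 15, 61, 71, 75, 73, 69, 78]), (28, [23, 15, 61, 71, 75, 73, 69, 81])])),
  (1263, (lf [(92, [23, 15, 61, 73, 71, 75, 69, 78]), (281, [23, 15, 61, 73, 71, 75, 69, 81])])),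
  (548, (lf [(281, [23, 15, 61, 71, 73, 75, 69, 78]), (92, [23, 15, 61, 71, 73, 75, 69, 81])])),
  (1250, (lf [(281, [23, 15, 61, 75, 73, 75, 69, 78]), (92, [23, 15, 61, 75, 73, 75, 69, 81])])),
  (922, (lf [(73, [23, 15, 61, 73, 71, 69, 71, 78]), (268, [23, 15, 61, 73, 71, 69, 71, 81])])),
  (1014, (lf [(76, [23, 15, 61, 75, 73, 69, 71, 78]), (265, [23, 15, 61, 75, 73, 69, 71, 81])])),
  (924, (lf [(9, [23, 15, 61, 73, 71, 73, 71]), (332, [23, 15, 61, 73, 71, 73, 71, 77])])),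
  (1165, (lf [(332, [23, 15, 61, 75, 71, 75, 71]), (9, [23, 15, 61, 75, 71, 75, 71, 77])])),
  (643, (lf [(92, [23, 15, 61, 73, 71, 69, 73, 78]), (281, [23, 15, 61, 73, 71, 69, 73, 81])])),
  (761, (lf [(281, [23, 15, 61, 71, 73, 69, 73, 78]), (92, [23, 15, 61, 71, 73, 69, 73, 81])])),
  (973, (lf [(281, [23, 15, 61, 75, 73, 69, 73, 78]), (92, [23, 15, 61, 75, 73, 69, 73, 81])])),
  (543, (lf [(345, [23, 15, 61, 73, 75, 69, 73, 78]), (28, [23, 15, 61, 73, 75, 69, 73, 81])])),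
  (1379, (lf [(332, [23, 15, 61, 73, 69, 71, 73, 78]), (9, [23, 15, 61, 73, 69, 71, 73, 81])])),
  (849, (lf [(329, [23, 15, 61, 75, 73, 71, 73]), (12, [23, 15, 61, 75, 73, 71, 73, 77])])),
  (837, (lf [(12, [23, 15, 61, 69, 75, 71, 73, 79]), (329, [23, 15, 61, 69, 75, 71, 73, 79, 77])])),
  (801, (lf [(76, [23, 15, 61, 73, 75, 71, 73]), (265, [23, 15, 61, 73, 75, 71, 73, 77])])),
  (1333, (lf [(76, [23, 15, 61, 73, 71, 75, 73]), (265, [23, 15, 61, 73, 71, 75, 73, 77])])),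
  (935, (lf [(89, [23, 15, 61, 69, 71, 69, 75]), (284, [23, 15, 61, 69, 71, 69, 75, 77])])),
  (660, (lf [(345, [23, 15, 61, 73, 71, 69, 75, 79]), (28, [23, 15, 61, 73, 71, 69, 75, 79, 77])])),
  (950, (lf [(28, [23, 15, 61, 71, 73, 69, 75, 79]), (345, [23, 15, 61, 71, 73, 69, 75, 79, 77])])),
  (1374, (lf [(73, [23, 15, 61, 73, 69, 71, 75, 79]), (268, [23, 15, 61, 73, 69, 71, 75, 79, 77])])),
  (629, (lf [(284, [23, 15, 61, 75, 71, 69, 71, 69]), (89, [23, 15, 61, 75, 71, 69, 71, 69, 77])])),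
  (1126, (lf [(284, [23, 15, 61, 71, 75, 69, 71, 69]), (89, [23, 15, 61, 71, 75, 69, 71, 69, 77])])),
  (817, (lf [(348, [23, 15, 61, 71, 69, 73, 71, 69]), (25, [23, 15, 61, 71, 69, 73, 71, 69, 77])])),
  (1143, (lf [(348, [23, 15, 61, 75, 69, 73, 71, 69]), (25, [23, 15, 61, 75, 69, 73, 71, 69, 77])])),
  (1220, (lf [(265, [23, 15, 61, 69, 71, 73, 71, 69]), (76, [23, 15, 61, 69, 71, 73, 71, 69, 77])])),
  (627, (lf [(25, [23, 15, 61, 75, 71, 73, 71, 69, 78]), (348, [23, 15, 61, 75, 71, 73, 71, 69, 81])])),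
  (705, (lf [(265, [23, 15, 61, 69, 75, 73, 71, 69, 79]), (76, [23, 15, 61, 69, 75, 73, 71, 69, 79, 77])])),
  (936, (lf [(25, [23, 15, 61, 71, 75, 73, 71, 69, 78]), (348, [23, 15, 61, 71, 75, 73, 71, 69, 81])])),
  (1473, (lf [(12, [23, 15, 61, 73, 69, 75, 71, 69, 79]), (329, [23, 15, 61, 73, 69, 75, 71, 69, 79, 77])])),
  (1120, (lf [(89, [23, 15, 61, 71, 73, 75, 71, 69, 78]), (284, [23, 15, 61, 71, 73, 75, 71, 69, 81])])),
  (514, (lf [(89, [23, 15, 61, 75, 73, 75, 71, 69, 78]), (284, [23, 15, 61, 75, 73, 75, 71, 69, 81])])),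
  (1381, (lf [(265, [23, 15, 61, 71, 75, 69, 73, 69]), (76, [23, 15, 61, 71, 75, 69, 73, 69, 77])])),
  (1233, (lf [(76, [23, 15, 61, 69, 75, 71, 73, 69, 79]), (265, [23, 15, 61, 69, 75, 71, 73, 69, 79, 77])])),
  (1133, (lf [(348, [23, 15, 61, 71, 75, 71, 73, 69, 78]), (25, [23, 15, 61, 71, 75, 71, 73, 69, 81])])),
  (1484, (lf [(73, [23, 15, 61, 69, 71, 75, 73, 69, 79]), (268, [23, 15, 61, 69, 71, 75, 73, 69, 79, 77])])),
  (732, (lf [(348, [23, 15, 61, 75, 71, 75, 73, 69, 78]), (25, [23, 15, 61, 75, 71, 75, 73, 69, 81])])),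
  (839, (lf [(89, [23, 15, 61, 71, 73, 71, 75, 69, 78]), (284, [23, 15, 61, 71, 73, 71, 75, 69, 81])])),
  (954, (lf [(281, [23, 15, 61, 69, 75, 71, 75, 69]), (92, [23, 15, 61, 69, 75, 71, 75, 69, 77])])),
  (635, (lf [(25, [23, 15, 61, 73, 75, 71, 75, 69, 78]), (348, [23, 15, 61, 73, 75, 71, 75, 69, 81])])),
  (882, (lf [(268, [23, 15, 61, 75, 73, 71, 69, 71, 78]), (73, [23, 15, 61, 75, 73, 71, 69, 71, 81])])),
  (1482, (lf [(9, [23, 15, 61, 73, 75, 71, 69, 71, 78]), (332, [23, 15, 61, 73, 75, 71, 69, 71, 81])])),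
  (1187, (lf [(73, [23, 15, 61, 71, 75, 73, 69, 71, 78]), (268, [23, 15, 61, 71, 75, 73, 69, 71, 81])])),
  (877, (lf [(332, [23, 15, 61, 75, 73, 71, 73, 71]), (9, [23, 15, 61, 75, 73, 71, 73, 71, 77])])),
  (870, (lf [(284, [23, 15, 61, 69, 75, 71, 73, 71, 79]), (89, [23, 15, 61, 69, 75, 71, 73, 71, 79, 77])])),
  (1485, (lf [(73, [23, 15, 61, 73, 75, 71, 73, 71]), (268, [23, 15, 61, 73, 75, 71, 73, 71, 77])])),
  (598, (lf [(92, [23, 15, 61, 69, 71, 69, 75, 71]), (281, [23, 15, 61, 69, 71, 69, 75, 71, 77])])),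
  (524, (lf [(28, [23, 15, 61, 73, 69, 71, 75, 71, 79]), (345, [23, 15, 61, 73, 69, 71, 75, 71, 79, 77])])),
  (1149, (lf [(89, [23, 15, 61, 71, 73, 71, 69, 73, 78]), (284, [23, 15, 61, 71, 73, 71, 69, 73, 81])])),
  (746, (lf [(89, [23, 15, 61, 75, 73, 71, 69, 73, 78]), (284, [23, 15, 61, 75, 73, 71, 69, 73, 81])])),
  (949, (lf [(25, [23, 15, 61, 73, 75, 71, 69, 73, 78]), (348, [23, 15, 61, 73, 75, 71, 69, 73, 81])])),
  (1140, (lf [(284, [23, 15, 61, 75, 71, 73, 69, 73, 78]), (89, [23, 15, 61, 75, 71, 73, 69, 73, 81])])),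
  (642, (lf [(284, [23, 15, 61, 71, 75, 73, 69, 73, 78]), (89, [23, 15, 61, 71, 75, 73, 69, 73, 81])])),
  (862, (lf [(25, [23, 15, 61, 73, 71, 75, 69, 73, 78]), (348, [23, 15, 61, 73, 71, 75, 69, 73, 81])])),
  (745, (lf [(348, [23, 15, 61, 71, 73, 75, 69, 73, 78]), (25, [23, 15, 61, 71, 73, 75, 69, 73, 81])])),
  (1225, (lf [(329, [23, 15, 61, 71, 73, 69, 71, 73, 78]), (12, [23, 15, 61, 71, 73, 69, 71, 73, 81])])),
  (1400, (lf [(9, [23, 15, 61, 75, 73, 69, 71, 73, 78]), (332, [23, 15, 61, 75, 73, 69, 71, 73, 81])])),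
  (1396, (lf [(268, [23, 15, 61, 73, 75, 69, 71, 73, 78]), (73, [23, 15, 61, 73, 75, 69, 71, 73, 81])])),
  (1486, (lf [(332, [23, 15, 61, 71, 75, 73, 71, 73]), (9, [23, 15, 61, 71, 75, 73, 71, 73, 77])])),
  (1303, (lf [(329, [23, 15, 61, 75, 69, 75, 71, 73, 79]), (12, [23, 15, 61, 75, 69, 75, 71, 73, 79, 77])])),
  (1166, (lf [(268, [23, 15, 61, 73, 71, 75, 71, 73]), (73, [23, 15, 61, 73, 71, 75, 71, 73, 77])])),
  (1308, (lf [(265, [23, 15, 61, 75, 73, 75, 71, 73]), (76, [23, 15, 61, 75, 73, 75, 71, 73, 77])])),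
  (819, (lf [(265, [23, 15, 61, 75, 73, 71, 75, 73]), (76, [23, 15, 61, 75, 73, 71, 75, 73, 77])])),
  (550, (lf [(92, [23, 15, 61, 71, 69, 71, 69, 75]), (281, [23, 15, 61, 71, 69, 71, 69, 75, 77])])),
  (741, (lf [(348, [23, 15, 61, 71, 73, 71, 69, 75, 79]), (25, [23, 15, 61, 71, 73, 71, 69, 75, 79, 77])])),
  (811, (lf [(284, [23, 15, 61, 73, 75, 71, 69, 75, 79]), (89, [23, 15, 61, 73, 75, 71, 69, 75, 79, 77])])),
  (1319, (lf [(265, [23, 15, 61, 73, 71, 69, 71, 75, 79]), (76, [23, 15, 61, 73, 71, 69, 71, 75, 79, 77])])),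
  (897, (lf [(268, [23, 15, 61, 75, 73, 69, 71, 75, 79]), (73, [23, 15, 61, 75, 73, 69, 71, 75, 79, 77])])),
  (677, (lf [(9, [23, 15, 61, 73, 75, 69, 71, 75, 79]), (332, [23, 15, 61, 73, 75, 69, 71, 75, 79, 77])])),
  (1371, (lf [(332, [23, 15, 61, 73, 69, 73, 71, 75, 79]), (9, [23, 15, 61, 73, 69, 73, 71, 75, 79, 77])])),
  (1267, (lf [(268, [23, 15, 61, 73, 69, 75, 71, 75, 78]), (73, [23, 15, 61, 73, 69, 75, 71, 75, 81])])),
  (555, (lf [(329, [23, 15, 61, 69, 75, 73, 69, 71, 69, 79]), (12, [23, 15, 61, 69, 75, 73, 69, 71, 69, 79, 77])])),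
  (691, (lf [(345, [23, 15, 61, 73, 75, 73, 69, 71, 69]), (28, [23, 15, 61, 73, 75, 73, 69, 71, 69, 77])])),
  (1457, (lf [(76, [23, 15, 61, 73, 69, 75, 69, 71, 69, 79]), (265, [23, 15, 61, 73, 69, 75, 69, 71, 69, 79, 77])])),
  (647, (lf [(345, [23, 15, 61, 71, 75, 69, 73, 71, 69]), (28, [23, 15, 61, 71, 75, 69, 73, 71, 69, 77])])),
  (711, (lf [(76, [23, 15, 61, 75, 69, 75, 73, 71, 69, 79]), (265, [23, 15, 61, 75, 69, 75, 73, 71, 69, 79, 77])])),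
  (1257, (lf [(28, [23, 15, 61, 75, 71, 75, 73, 71, 69, 78]), (345, [23, 15, 61, 75, 71, 75, 73, 71, 69, 81])])),
  (557, (lf [(12, [23, 15, 61, 69, 73, 75, 73, 71, 69, 79]), (329, [23, 15, 61, 69, 73, 75, 73, 71, 69, 79, 77])])),
  (1037, (lf [(9, [23, 15, 61, 71, 73, 69, 75, 71, 69, 79]), (332, [23, 15, 61, 71, 73, 69, 75, 71, 69, 79, 77])])),
  (1465, (lf [(329, [23, 15, 61, 75, 73, 69, 75, 71, 69, 79]), (12, [23, 15, 61, 75, 73, 69, 75, 71, 69, 79, 77])])),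
  (739, (lf [(284, [23, 15, 61, 69, 75, 69, 75, 71, 69]), (89, [23, 15, 61, 69, 75, 69, 75, 71, 69, 77])])),
  (1459, (lf [(265, [23, 15, 61, 73, 69, 73, 75, 71, 69, 79]), (76, [23, 15, 61, 73, 69, 73, 75, 71, 69, 79, 77])])),
  (1383, (lf [(76, [23, 15, 61, 75, 71, 75, 69, 73, 69]), (265, [23, 15, 61, 75, 71, 75, 69, 73, 69, 77])])),
  (1386, (lf [(73, [23, 15, 61, 71, 69, 75, 71, 73, 69, 79]), (268, [23, 15, 61, 71, 69, 75, 71, 73, 69, 79, 77])])),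
  (1285, (lf [(265, [23, 15, 61, 75, 69, 75, 71, 73, 69, 79]), (76, [23, 15, 61, 75, 69, 75, 71, 73, 69, 79, 77])])),
  (776, (lf [(28, [23, 15, 61, 69, 71, 75, 71, 73, 69, 79]), (345, [23, 15, 61, 69, 71, 75, 71, 73, 69, 79, 77])])),
  (1227, (lf [(329, [23, 15, 61, 69, 73, 75, 71, 73, 69, 79]), (12, [23, 15, 61, 69, 73, 75, 71, 73, 69, 79, 77])])),
  (952, (lf [(28, [23, 15, 61, 69, 75, 71, 75, 73, 69]), (345, [23, 15, 61, 69, 75, 71, 75, 73, 69, 77])])),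
  (805, (lf [(25, [23, 15, 61, 69, 75, 73, 71, 69, 71, 79]), (348, [23, 15, 61, 69, 75, 73, 71, 69, 71, 79, 77])])),
  (666, (lf [(281, [23, 15, 61, 75, 69, 75, 71, 73, 71, 79]), (92, [23, 15, 61, 75, 69, 75, 71, 73, 71, 79, 77])])),
  (1370, (lf [(332, [23, 15, 61, 69, 71, 75, 71, 73, 71, 79]), (9, [23, 15, 61, 69, 71, 75, 71, 73, 71, 79, 77])])),
  (759, (lf [(92, [23, 15, 61, 75, 71, 73, 71, 69, 73, 78]), (281, [23, 15, 61, 75, 71, 73, 71, 69, 73, 81])])),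
  (668, (lf [(28, [23, 15, 61, 71, 73, 75, 71, 69, 73, 78]), (345, [23, 15, 61, 71, 73, 75, 71, 69, 73, 81])])),
  (645, (lf [(281, [23, 15, 61, 71, 75, 71, 73, 69, 73, 78]), (92, [23, 15, 61, 71, 75, 71, 73, 69, 73, 81])])),
  (663, (lf [(281, [23, 15, 61, 75, 71, 75, 73, 69, 73, 78]), (92, [23, 15, 61, 75, 71, 75, 73, 69, 73, 81])])),
  (1271, (lf [(12, [23, 15, 61, 75, 71, 73, 69, 71, 73, 78]), (329, [23, 15, 61, 75, 71, 73, 69, 71, 73, 81])])),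
  (1090, (lf [(268, [23, 15, 61, 71, 73, 71, 69, 71, 75, 79]), (73, [23, 15, 61, 71, 73, 71, 69, 71, 75, 79, 77])])),
  (896, (lf [(268, [23, 15, 61, 73, 75, 69, 73, 71, 75, 79]), (73, [23, 15, 61, 73, 75, 69, 73, 71, 75, 79, 77])])),
  (1101, (lf [(332, [23, 15, 61, 69, 71, 75, 69, 75, 71, 69]), (9, [23, 15, 61, 69, 71, 75, 69, 75, 71, 69, 77])])),
  (1088, (lf [(268, [23, 15, 61, 73, 71, 75, 69, 75, 71, 69, 79]), (73, [23, 15, 61, 73, 71, 75, 69, 75, 71, 69, 79, 77])])),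
  (1313, (lf [(329, [23, 15, 61, 73, 69, 75, 73, 71, 73, 69, 79]), (12, [23, 15, 61, 73, 69, 75, 73, 71, 73, 69, 79, 77])])),
  (1092, (lf [(9, [23, 15, 61, 71, 75, 71, 73, 69, 71, 73, 78]), (332, [23, 15, 61, 71, 75, 71, 73, 69, 71, 73, 81])]))]))]) (.node 567 [[28], [12], [16], [20], [24], [30], [44], [46], [48], [50]] [(323, 0), (323, 1), (323, 2), (323, 3), (323, 4), (323, 5), (323, 6), (323, 7), (323, 9), (67, 1), (67, 2), (67, 4), (67, 5), (67, 7), (67, 9), (322, 2), (322, 3), (322, 4), (322, 5), (322, 6), (322, 7), (322, 9), (327, 5), (259, 9), (66, 2), (66, 4), (66, 5), (66, 7), (66, 9), (326, 5), (258, 9)] (nat_lit 0x800000000000000000000000000000000000000000000000000000000000000000000000000000000) .nil (.node 667 [[28], [12], [16], [20], [24], [30], [44], [46], [48], [50]] [(258, 0), (258, 1), (258, 2), (258, 3), (258, 4), (258, 5), (258, 6), (258, 7), (258, 9), (2, 1),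 (2, 2), (2, 4), (2, 5), (2, 7), (2, 9), (259, 2), (259, 3), (259, 4), (259, 5), (259, 6), (259, 7), (259, 9), (262, 5), (322, 9), (3, 2), (3, 4), (3, 5), (3, 7), (3, 9), (263, 5), (323, 9)] (nat_lit 0x40000000000000000000000000000000000000000000000000000000000000000) .nil (.node 722 [[28], [12], [16], [20], [24], [30], [44], [46], [48], [50]] [(274, 0), (274, 1), (274, 2), (274, 3), (274, 4), (274, 5), (274, 6), (274, 7), (274, 9), (18, 1), (18, 2), (18, 4), (18, 5), (18, 7), (18, 9), (275, 2), (275, 3), (275, 4), (275, 5), (275, 6), (275, 7), (275, 9), (278, 5), (338, 9), (19, 2), (19, 4), (19, 5), (19, 7), (19, 9), (279, 5), (339, 9)] (nat_lit 0x400000000000000000000000000000000000000000000000000000000000000000000) .nil (.node 568 [[28], [12], [16], [20], [24], [30], [44], [46], [48], [50]] [(258, 0), (258, 1), (258, 2), (258, 3), (258, 4), (258, 5), (258, 6), (258, 7), (258, 9),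 (2, 1), (2, 2), (2, 4), (2, 5), (2, 7), (2, 9), (259, 2), (259, 3), (259, 4), (259, 5), (259, 6), (259, 7), (259, 9), (262, 5), (322, 9), (3, 2), (3, 4), (3, 5), (3, 7), (3, 9), (263, 5), (323, 9)] (nat_lit 0x40000000000000000000000000000000000000000000000000000000000000000) (nd [(258, (nd [(1164, (lf [(284, [59, 15, 61, 41]), (281, [59, 15, 61, 41, 77])])),
  (878, (lf [(89, [59, 15, 61, 41, 71]), (92, [59, 15, 61, 41, 71, 77])])),
  (1189, (lf [(281, [59, 15, 61, 41, 75]), (284, [59, 15, 61, 41, 75, 77])])),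
  (886, (lf [(268, [59, 15, 61, 41, 73, 69, 78]), (265, [59, 15, 61, 41, 73, 69, 81])])),
  (697, (lf [(92, [59, 15, 61, 41, 75, 71]), (89, [59, 15, 61, 41, 75, 71, 77])])),
  (1494, (lf [(92, [59, 15, 61, 41, 71, 75]), (89, [59, 15, 61, 41, 71, 75, 77])])),
  (888, (lf [(9, [59, 15, 61, 41, 69, 71, 69]), (12, [59, 15, 61, 41, 69, 71, 69, 77])])),
  (847, (lf [(76, [59, 15, 61, 41, 73, 71, 69, 78]), (73, [59, 15, 61, 41, 73, 71, 69, 81])])),
  (1206, (lf [(345, [59, 15, 61, 41, 69, 73, 69]), (348, [59, 15, 61, 41, 69, 73, 69, 77])])),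
  (843, (lf [(73, [59, 15, 61, 41, 71, 73, 69, 78]), (76, [59, 15, 61, 41, 71, 73, 69, 81])])),
  (515, (lf [(73, [59, 15, 61, 41, 75, 73, 69, 78]), (76, [59, 15, 61, 41, 75, 73, 69, 81])])),
  (578, (lf [(9, [59, 15, 61, 41, 73, 75, 69, 78]), (12, [59, 15, 61, 41, 73, 75, 69, 81])])),
  (879, (lf [(25, [59, 15, 61, 41, 73, 69, 71, 78]), (28, [59, 15, 61, 41, 73, 69, 71, 81])])),
  (1178, (lf [(281, [59, 15, 61, 41, 71, 75, 71]), (284, [59, 15, 61, 41, 71, 75, 71, 77])])),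
  (1111, (lf [(9, [59, 15, 61, 41, 73, 69, 73, 78]), (12, [59, 15, 61, 41, 73, 69, 73, 81])])),
  (1181, (lf [(92, [59, 15, 61, 41, 73, 71, 73]), (89, [59, 15, 61, 41, 73, 71, 73, 77])])),
  (1117, (lf [(76, [59, 15, 61, 41, 73, 69, 75, 79]), (73, [59, 15, 61, 41, 73, 69, 75, 79, 77])])),
  (1477, (lf [(89, [59, 15, 61, 41, 75, 71, 75]), (92, [59, 15, 61, 41, 75, 71, 75, 77])])),
  (861, (lf [(332, [59, 15, 61, 41, 71, 69, 71, 69]), (329, [59, 15, 61, 41, 71, 69, 71, 69, 77])])),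
  (967, (lf [(332, [59, 15, 61, 41, 75, 69, 71, 69]), (329, [59, 15, 61, 41, 75, 69, 71, 69, 77])])),
  (718, (lf [(268, [59, 15, 61, 41, 69, 73, 71, 69]), (265, [59, 15, 61, 41, 69, 73, 71, 69, 77])])),
  (969, (lf [(265, [59, 15, 61, 41, 71, 73, 71, 69, 78]), (268, [59, 15, 61, 41, 71, 73, 71, 69, 81])])),
  (1139, (lf [(265, [59, 15, 61, 41, 75, 73, 71, 69, 78]), (268, [59, 15, 61, 41, 75, 73, 71, 69, 81])])),
  (970, (lf [(329, [59, 15, 61, 41, 73, 75, 71, 69, 78]), (332, [59, 15, 61, 41, 73, 75, 71, 69, 81])])),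
  (1186, (lf [(348, [59, 15, 61, 41, 75, 69, 73, 69]), (345, [59, 15, 61, 41, 75, 69, 73, 69, 77])])),
  (955, (lf [(268, [59, 15, 61, 41, 75, 71, 73, 69, 78]), (265, [59, 15, 61, 41, 75, 71, 73, 69, 81])])),
  (659, (lf [(268, [59, 15, 61, 41, 71, 75, 73, 69, 78]), (265, [59, 15, 61, 41, 71, 75, 73, 69, 81])])),
  (842, (lf [(329, [59, 15, 61, 41, 73, 71, 75, 69, 78]), (332, [59, 15, 61, 41, 73, 71, 75, 69, 81])])),
  (1145, (lf [(332, [59, 15, 61, 41, 71, 73, 75, 69, 78]), (329, [59, 15, 61, 41, 71, 73, 75, 69, 81])])),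
  (670, (lf [(332, [59, 15, 61, 41, 75, 73, 75, 69, 78]), (329, [59, 15, 61, 41, 75, 73, 75, 69, 81])])),
  (1404, (lf [(345, [59, 15, 61, 41, 73, 71, 69, 71, 78]), (348, [59, 15, 61, 41, 73, 71, 69, 71, 81])])),
  (698, (lf [(28, [59, 15, 61, 41, 75, 73, 69, 71, 78]), (25, [59, 15, 61, 41, 75, 73, 69, 71, 81])])),
  (1416, (lf [(281, [59, 15, 61, 41, 73, 71, 73, 71]), (284, [59, 15, 61, 41, 73, 71, 73, 71, 77])])),
  (1193, (lf [(284, [59, 15, 61, 41, 75, 71, 75, 71]), (281, [59, 15, 61, 41, 75, 71, 75, 71, 77])])),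
  (534, (lf [(329, [59, 15, 61, 41, 73, 71, 69, 73, 78]), (332, [59, 15, 61, 41, 73, 71, 69, 73, 81])])),
  (597, (lf [(332, [59, 15, 61, 41, 71, 73, 69, 73, 78]), (329, [59, 15, 61, 41, 71, 73, 69, 73, 81])])),
  (948, (lf [(332, [59, 15, 61, 41, 75, 73, 69, 73, 78]), (329, [59, 15, 61, 41, 75, 73, 69, 73, 81])])),
  (683, (lf [(268, [59, 15, 61, 41, 73, 75, 69, 73, 78]), (265, [59, 15, 61, 41, 73, 75, 69, 73, 81])])),
  (1470, (lf [(284, [59, 15, 61, 41, 73, 69, 71, 73, 78]), (281, [59, 15, 61, 41, 73, 69, 71, 73, 81])])),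
  (845, (lf [(89, [59, 15, 61, 41, 75, 73, 71, 73]), (92, [59, 15, 61, 41, 75, 73, 71, 73, 77])])),
  (802, (lf [(92, [59, 15, 61, 41, 69, 75, 71, 73, 79]), (89, [59, 15, 61, 41, 69, 75, 71, 73, 79, 77])])),
  (812, (lf [(28, [59, 15, 61, 41, 73, 75, 71, 73]), (25, [59, 15, 61, 41, 73, 75, 71, 73, 77])])),
  (1315, (lf [(28, [59, 15, 61, 41, 73, 71, 75, 73]), (25, [59, 15, 61, 41, 73, 71, 75, 73, 77])])),
  (740, (lf [(12, [59, 15, 61, 41, 69, 71, 69, 75]), (9, [59, 15, 61, 41, 69, 71, 69, 75, 77])])),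
  (688, (lf [(268, [59, 15, 61, 41, 73, 71, 69, 75, 79]), (265, [59, 15, 61, 41, 73, 71, 69, 75, 79, 77])])),
  (934, (lf [(265, [59, 15, 61, 41, 71, 73, 69, 75, 79]), (268, [59, 15, 61, 41, 71, 73, 69, 75, 79, 77])])),
  (1369, (lf [(345, [59, 15, 61, 41, 73, 69, 71, 75, 79]), (348, [59, 15, 61, 41, 73, 69, 71, 75, 79, 77])])),
  (572, (lf [(9, [59, 15, 61, 41, 75, 71, 69, 71, 69]), (12, [59, 15, 61, 41, 75, 71, 69, 71, 69, 77])])),
  (772, (lf [(9, [59, 15, 61, 41, 71, 75, 69, 71, 69]), (12, [59, 15, 61, 41, 71, 75, 69, 71, 69, 77])])),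
  (1252, (lf [(73, [59, 15, 61, 41, 71, 69, 73, 71, 69]), (76, [59, 15, 61, 41, 71, 69, 73, 71, 69, 77])])),
  (615, (lf [(73, [59, 15, 61, 41, 75, 69, 73, 71, 69]), (76, [59, 15, 61, 41, 75, 69, 73, 71, 69, 77])])),
  (1306, (lf [(25, [59, 15, 61, 41, 69, 71, 73, 71, 69]), (28, [59, 15, 61, 41, 69, 71, 73, 71, 69, 77])])),
  (674, (lf [(76, [59, 15, 61, 41, 75, 71, 73, 71, 69, 78]), (73, [59, 15, 61, 41, 75, 71, 73, 71, 69, 81])])),
  (1392, (lf [(25, [59, 15, 61, 41, 69, 75, 73, 71, 69, 79]), (28, [59, 15, 61, 41, 69, 75, 73, 71, 69, 79, 77])])),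
  (743, (lf [(76, [59, 15, 61, 41, 71, 75, 73, 71, 69, 78]), (73, [59, 15, 61, 41, 71, 75, 73, 71, 69, 81])])),
  (1098, (lf [(92, [59, 15, 61, 41, 73, 69, 75, 71, 69, 79]), (89, [59, 15, 61, 41, 73, 69, 75, 71, 69, 79, 77])])),
  (583, (lf [(12, [59, 15, 61, 41, 71, 73, 75, 71, 69, 78]), (9, [59, 15, 61, 41, 71, 73, 75, 71, 69, 81])])),
  (673, (lf [(12, [59, 15, 61, 41, 75, 73, 75, 71, 69, 78]), (9, [59, 15, 61, 41, 75, 73, 75, 71, 69, 81])])),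
  (1488, (lf [(25, [59, 15, 61, 41, 71, 75, 69, 73, 69]), (28, [59, 15, 61, 41, 71, 75, 69, 73, 69, 77])])),
  (1272, (lf [(28, [59, 15, 61, 41, 69, 75, 71, 73, 69, 79]), (25, [59, 15, 61, 41, 69, 75, 71, 73, 69, 79, 77])])),
  (760, (lf [(73, [59, 15, 61, 41, 71, 75, 71, 73, 69, 78]), (76, [59, 15, 61, 41, 71, 75, 71, 73, 69, 81])])),
  (1026, (lf [(345, [59, 15, 61, 41, 69, 71, 75, 73, 69, 79]), (348, [59, 15, 61, 41, 69, 71, 75, 73, 69, 79, 77])])),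
  (576, (lf [(73, [59, 15, 61, 41, 75, 71, 75, 73, 69, 78]), (76, [59, 15, 61, 41, 75, 71, 75, 73, 69, 81])])),
  (545, (lf [(12, [59, 15, 61, 41, 71, 73, 71, 75, 69, 78]), (9, [59, 15, 61, 41, 71, 73, 71, 75, 69, 81])])),
  (968, (lf [(332, [59, 15, 61, 41, 69, 75, 71, 75, 69]), (329, [59, 15, 61, 41, 69, 75, 71, 75, 69, 77])])),
  (657, (lf [(76, [59, 15, 61, 41, 73, 75, 71, 75, 69, 78]), (73, [59, 15, 61, 41, 73, 75, 71, 75, 69, 81])])),
  (1390, (lf [(348, [59, 15, 61, 41, 75, 73, 71, 69, 71, 78]), (345, [59, 15, 61, 41, 75, 73, 71, 69, 71, 81])])),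
  (1012, (lf [(281, [59, 15, 61, 41, 73, 75, 71, 69, 71, 78]), (284, [59, 15, 61, 41, 73, 75, 71, 69, 71, 81])])),
  (1198, (lf [(345, [59, 15, 61, 41, 71, 75, 73, 69, 71, 78]), (348, [59, 15, 61, 41, 71, 75, 73, 69, 71, 81])])),
  (1388, (lf [(284, [59, 15, 61, 41, 75, 73, 71, 73, 71]), (281, [59, 15, 61, 41, 75, 73, 71, 73, 71, 77])])),
  (1114, (lf [(9, [59, 15, 61, 41, 69, 75, 71, 73, 71, 79]), (12, [59, 15, 61, 41, 69, 75, 71, 73, 71, 79, 77])])),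
  (1024, (lf [(345, [59, 15, 61, 41, 73, 75, 71, 73, 71]), (348, [59, 15, 61, 41, 73, 75, 71, 73, 71, 77])])),
  (1053, (lf [(329, [59, 15, 61, 41, 69, 71, 69, 75, 71]), (332, [59, 15, 61, 41, 69, 71, 69, 75, 71, 77])])),
  (880, (lf [(265, [59, 15, 61, 41, 73, 69, 71, 75, 71, 79]), (268, [59, 15, 61, 41, 73, 69, 71, 75, 71, 79, 77])])),
  (617, (lf [(12, [59, 15, 61, 41, 71, 73, 71, 69, 73, 78]), (9, [59, 15, 61, 41, 71, 73, 71, 69, 73, 81])])),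
  (836, (lf [(12, [59, 15, 61, 41, 75, 73, 71, 69, 73, 78]), (9, [59, 15, 61, 41, 75, 73, 71, 69, 73, 81])])),
  (832, (lf [(76, [59, 15, 61, 41, 73, 75, 71, 69, 73, 78]), (73, [59, 15, 61, 41, 73, 75, 71, 69, 73, 81])])),
  (614, (lf [(9, [59, 15, 61, 41, 75, 71, 73, 69, 73, 78]), (12, [59, 15, 61, 41, 75, 71, 73, 69, 73, 81])])),
  (1132, (lf [(9, [59, 15, 61, 41, 71, 75, 73, 69, 73, 78]), (12, [59, 15, 61, 41, 71, 75, 73, 69, 73, 81])])),
  (1112, (lf [(76, [59, 15, 61, 41, 73, 71, 75, 69, 73, 78]), (73, [59, 15, 61, 41, 73, 71, 75, 69, 73, 81])])),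
  (851, (lf [(73, [59, 15, 61, 41, 71, 73, 75, 69, 73, 78]), (76, [59, 15, 61, 41, 71, 73, 75, 69, 73, 81])])),
  (1154, (lf [(89, [59, 15, 61, 41, 71, 73, 69, 71, 73, 78]), (92, [59, 15, 61, 41, 71, 73, 69, 71, 73, 81])])),
  (1462, (lf [(281, [59, 15, 61, 41, 75, 73, 69, 71, 73, 78]), (284, [59, 15, 61, 41, 75, 73, 69, 71, 73, 81])])),
  (1469, (lf [(348, [59, 15, 61, 41, 73, 75, 69, 71, 73, 78]), (345, [59, 15, 61, 41, 73, 75, 69, 71, 73, 81])])),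
  (1038, (lf [(284, [59, 15, 61, 41, 71, 75, 73, 71, 73]), (281, [59, 15, 61, 41, 71, 75, 73, 71, 73, 77])])),
  (1312, (lf [(89, [59, 15, 61, 41, 75, 69, 75, 71, 73, 79]), (92, [59, 15, 61, 41, 75, 69, 75, 71, 73, 79, 77])])),
  (1202, (lf [(348, [59, 15, 61, 41, 73, 71, 75, 71, 73]), (345, [59, 15, 61, 41, 73, 71, 75, 71, 73, 77])])),
  (1304, (lf [(25, [59, 15, 61, 41, 75, 73, 75, 71, 73]), (28, [59, 15, 61, 41, 75, 73, 75, 71, 73, 77])])),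
  (606, (lf [(25, [59, 15, 61, 41, 75, 73, 71, 75, 73]), (28, [59, 15, 61, 41, 75, 73, 71, 75, 73, 77])])),
  (1148, (lf [(329, [59, 15, 61, 41, 71, 69, 71, 69, 75]), (332, [59, 15, 61, 41, 71, 69, 71, 69, 75, 77])])),
  (613, (lf [(73, [59, 15, 61, 41, 71, 73, 71, 69, 75, 79]), (76, [59, 15, 61, 41, 71, 73, 71, 69, 75, 79, 77])])),
  (1260, (lf [(9, [59, 15, 61, 41, 73, 75, 71, 69, 75, 79]), (12, [59, 15, 61, 41, 73, 75, 71, 69, 75, 79, 77])])),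
  (1083, (lf [(25, [59, 15, 61, 41, 73, 71, 69, 71, 75, 79]), (28, [59, 15, 61, 41, 73, 71, 69, 71, 75, 79, 77])])),
  (898, (lf [(348, [59, 15, 61, 41, 75, 73, 69, 71, 75, 79]), (345, [59, 15, 61, 41, 75, 73, 69, 71, 75, 79, 77])])),
  (907, (lf [(281, [59, 15, 61, 41, 73, 75, 69, 71, 75, 79]), (284, [59, 15, 61, 41, 73, 75, 69, 71, 75, 79, 77])])),
  (1391, (lf [(284, [59, 15, 61, 41, 73, 69, 73, 71, 75, 79]), (281, [59, 15, 61, 41, 73, 69, 73, 71, 75, 79, 77])])),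
  (1402, (lf [(348, [59, 15, 61, 41, 73, 69, 75, 71, 75, 78]), (345, [59, 15, 61, 41, 73, 69, 75, 71, 75, 81])])),
  (1377, (lf [(89, [59, 15, 61, 41, 69, 75, 73, 69, 71, 69, 79]), (92, [59, 15, 61, 41, 69, 75, 73, 69, 71, 69, 79, 77])])),
  (1144, (lf [(268, [59, 15, 61, 41, 73, 75, 73, 69, 71, 69]), (265, [59, 15, 61, 41, 73, 75, 73, 69, 71, 69, 77])])),
  (1085, (lf [(28, [59, 15, 61, 41, 73, 69, 75, 69, 71, 69, 79]), (25, [59, 15, 61, 41, 73, 69, 75, 69, 71, 69, 79, 77])])),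
  (562, (lf [(268, [59, 15, 61, 41, 71, 75, 69, 73, 71, 69]), (265, [59, 15, 61, 41, 71, 75, 69, 73, 71, 69, 77])])),
  (1375, (lf [(28, [59, 15, 61, 41, 75, 69, 75, 73, 71, 69, 79]), (25, [59, 15, 61, 41, 75, 69, 75, 73, 71, 69, 79, 77])])),
  (649, (lf [(265, [59, 15, 61, 41, 75, 71, 75, 73, 71, 69, 78]), (268, [59, 15, 61, 41, 75, 71, 75, 73, 71, 69, 81])])),
  (1403, (lf [(92, [59, 15, 61, 41, 69, 73, 75, 73, 71, 69, 79]), (89, [59, 15, 61, 41, 69, 73, 75, 73, 71, 69, 79, 77])])),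
  (895, (lf [(281, [59, 15, 61, 41, 71, 73, 69, 75, 71, 69, 79]), (284, [59, 15, 61, 41, 71, 73, 69, 75, 71, 69, 79, 77])])),
  (1084, (lf [(89, [59, 15, 61, 41, 75, 73, 69, 75, 71, 69, 79]), (92, [59, 15, 61, 41, 75, 73, 69, 75, 71, 69, 79, 77])])),
  (830, (lf [(9, [59, 15, 61, 41, 69, 75, 69, 75, 71, 69]), (12, [59, 15, 61, 41, 69, 75, 69, 75, 71, 69, 77])])),
  (1102, (lf [(25, [59, 15, 61, 41, 73, 69, 73, 75, 71, 69, 79]), (28, [59, 15, 61, 41, 73, 69, 73, 75, 71, 69, 79, 77])])),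
  (1475, (lf [(28, [59, 15, 61, 41, 75, 71, 75, 69, 73, 69]), (25, [59, 15, 61, 41, 75, 71, 75, 69, 73, 69, 77])])),
  (1471, (lf [(345, [59, 15, 61, 41, 71, 69, 75, 71, 73, 69, 79]), (348, [59, 15, 61, 41, 71, 69, 75, 71, 73, 69, 79, 77])])),
  (1229, (lf [(25, [59, 15, 61, 41, 75, 69, 75, 71, 73, 69, 79]), (28, [59, 15, 61, 41, 75, 69, 75, 71, 73, 69, 79, 77])])),
  (595, (lf [(265, [59, 15, 61, 41, 69, 71, 75, 71, 73, 69, 79]), (268, [59, 15, 61, 41, 69, 71, 75, 71, 73, 69, 79, 77])])),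
  (1287, (lf [(89, [59, 15, 61, 41, 69, 73, 75, 71, 73, 69, 79]), (92, [59, 15, 61, 41, 69, 73, 75, 71, 73, 69, 79, 77])])),
  (939, (lf [(265, [59, 15, 61, 41, 69, 75, 71, 75, 73, 69]), (268, [59, 15, 61, 41, 69, 75, 71, 75, 73, 69, 77])])),
  (1251, (lf [(76, [59, 15, 61, 41, 69, 75, 73, 71, 69, 71, 79]), (73, [59, 15, 61, 41, 69, 75, 73, 71, 69, 71, 79, 77])])),
  (684, (lf [(332, [59, 15, 61, 41, 75, 69, 75, 71, 73, 71, 79]), (329, [59, 15, 61, 41, 75, 69, 75, 71, 73, 71, 79, 77])])),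
  (1414, (lf [(284, [59, 15, 61, 41, 69, 71, 75, 71, 73, 71, 79]), (281, [59, 15, 61, 41, 69, 71, 75, 71, 73, 71, 79, 77])])),
  (592, (lf [(329, [59, 15, 61, 41, 75, 71, 73, 71, 69, 73, 78]), (332, [59, 15, 61, 41, 75, 71, 73, 71, 69, 73, 81])])),
  (626, (lf [(265, [59, 15, 61, 41, 71, 73, 75, 71, 69, 73, 78]), (268, [59, 15, 61, 41, 71, 73, 75, 71, 69, 73, 81])])),
  (622, (lf [(332, [59, 15, 61, 41, 71, 75, 71, 73, 69, 73, 78]), (329, [59, 15, 61, 41, 71, 75, 71, 73, 69, 73, 81])])),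
  (690, (lf [(332, [59, 15, 61, 41, 75, 71, 75, 73, 69, 73, 78]), (329, [59, 15, 61, 41, 75, 71, 75, 73, 69, 73, 81])])),
  (1224, (lf [(92, [59, 15, 61, 41, 75, 71, 73, 69, 71, 73, 78]), (89, [59, 15, 61, 41, 75, 71, 73, 69, 71, 73, 81])])),
  (707, (lf [(348, [59, 15, 61, 41, 71, 73, 71, 69, 71, 75, 79]), (345, [59, 15, 61, 41, 71, 73, 71, 69, 71, 75, 79, 77])])),
  (901, (lf [(348, [59, 15, 61, 41, 73, 75, 69, 73, 71, 75, 79]), (345, [59, 15, 61, 41, 73, 75, 69, 73, 71, 75, 79, 77])])),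
  (710, (lf [(284, [59, 15, 61, 41, 69, 71, 75, 69, 75, 71, 69]), (281, [59, 15, 61, 41, 69, 71, 75, 69, 75, 71, 69, 77])])),
  (703, (lf [(348, [59, 15, 61, 41, 73, 71, 75, 69, 75, 71, 69, 79]), (345, [59, 15, 61, 41, 73, 71, 75, 69, 75, 71, 69, 79, 77])])),
  (1221, (lf [(89, [59, 15, 61, 41, 73, 69, 75, 73, 71, 73, 69, 79]), (92, [59, 15, 61, 41, 73, 69, 75, 73, 71, 73, 69, 79, 77])])),
  (704, (lf [(281, [59, 15, 61, 41, 71, 75, 71, 73, 69, 71, 73, 78]), (284, [59, 15, 61, 41, 71, 75, 71, 73, 69, 71, 73, 81])]))]))]) (.node 569 [[28], [12], [16], [20], [24], [30], [44], [46], [48], [50]] [(71, 0), (71, 1), (71, 2), (71, 3), (71, 4), (71, 5), (71, 6), (71, 7), (71, 9), (327, 1), (327, 2), (327, 4), (327, 5), (327, 7), (327, 9), (70, 2), (70, 3), (70, 4), (70, 5), (70, 6), (70, 7), (70, 9), (67, 5), (7, 9), (326, 2), (326, 4), (326, 5), (326, 7), (326, 9), (66, 5), (6, 9)] (nat_lit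 0x800000000000000000) .nil (.node 721 [[28], [12], [16], [20], [24], [30], [44], [46], [48], [50]] [(278, 0), (278, 1), (278, 2), (278, 3), (278, 4), (278, 5), (278, 6), (278, 7), (278, 9), (22, 1), (22, 2), (22, 4), (22, 5), (22, 7), (22, 9), (279, 2), (279, 3), (279, 4), (279, 5), (279, 6), (279, 7), (279, 9), (274, 5), (342, 9), (23, 2), (23, 4), (23, 5), (23, 7), (23, 9), (275, 5), (343, 9)] (nat_lit 0x4000000000000000000000000000000000000000000000000000000000000000000000) .nil (.node 574 [[28], [12], [16], [20], [24], [30], [44], [46], [48], [50]] [(274, 0), (274, 1), (274, 2), (274, 3), (274, 4), (274, 5), (274, 6), (274, 7), (274, 9), (18, 1), (18, 2), (18, 4), (18, 5), (18, 7), (18, 9), (275, 2), (275, 3), (275, 4), (275, 5), (275, 6), (275, 7), (275, 9), (278, 5), (338, 9), (19, 2), (19, 4), (19, 5), (19, 7), (19, 9), (279, 5), (339, 9)] (nat_lit 0x400000000000000000000000000000000000000000000000000000000000000000000)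 (nd [(274, (nd [(836, (lf [(12, [61, 19, 59]), (89, [61, 19, 59, 77])])),
  (704, (lf [(281, [61, 19, 59, 71]), (332, [61, 19, 59, 71, 77])])),
  (765, (lf [(89, [61, 19, 59, 75]), (12, [61, 19, 59, 75, 77])])),
  (973, (lf [(265, [61, 19, 59, 73, 69, 78]), (348, [61, 19, 59, 73, 69, 81])])),
  (711, (lf [(332, [61, 19, 59, 75, 71]), (281, [61, 19, 59, 75, 71, 77])])),
  (1383, (lf [(332, [61, 19, 59, 71, 75]), (281, [61, 19, 59, 71, 75, 77])])),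
  (1312, (lf [(92, [61, 19, 59, 69, 71, 69]), (9, [61, 19, 59, 69, 71, 69, 77])])),
  (746, (lf [(73, [61, 19, 59, 73, 71, 69, 78]), (28, [61, 19, 59, 73, 71, 69, 81])])),
  (841, (lf [(25, [61, 19, 59, 69, 73, 69]), (76, [61, 19, 59, 69, 73, 69, 77])])),
  (1303, (lf [(28, [61, 19, 59, 71, 73, 69, 78]), (73, [61, 19, 59, 71, 73, 69, 81])])),
  (832, (lf [(28, [61, 19, 59, 75, 73, 69, 78]), (73, [61, 19, 59, 75, 73, 69, 81])])),
  (1224, (lf [(92, [61, 19, 59, 73, 75, 69, 78]), (9, [61, 19, 59, 73, 75, 69, 81])])),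
  (557, (lf [(345, [61, 19, 59, 73, 69, 71, 78]), (268, [61, 19, 59, 73, 69, 71, 81])])),
  (829, (lf [(89, [61, 19, 59, 71, 75, 71]), (12, [61, 19, 59, 71, 75, 71, 77])])),
  (673, (lf [(92, [61, 19, 59, 73, 69, 73, 78]), (9, [61, 19, 59, 73, 69, 73, 81])])),
  (622, (lf [(332, [61, 19, 59, 73, 71, 73]), (281, [61, 19, 59, 73, 71, 73, 77])])),
  (1306, (lf [(73, [61, 19, 59, 73, 69, 75, 79]), (28, [61, 19, 59, 73, 69, 75, 79, 77])])),
  (1388, (lf [(281, [61, 19, 59, 75, 71, 75]), (332, [61, 19, 59, 75, 71, 75, 77])])),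
  (967, (lf [(329, [61, 19, 59, 71, 69, 71, 69]), (284, [61, 19, 59, 71, 69, 71, 69, 77])])),
  (1015, (lf [(329, [61, 19, 59, 75, 69, 71, 69]), (284, [61, 19, 59, 75, 69, 71, 69, 77])])),
  (999, (lf [(265, [61, 19, 59, 69, 73, 71, 69]), (348, [61, 19, 59, 69, 73, 71, 69, 77])])),
  (1188, (lf [(348, [61, 19, 59, 71, 73, 71, 69, 78]), (265, [61, 19, 59, 71, 73, 71, 69, 81])])),
  (683, (lf [(348, [61, 19, 59, 75, 73, 71, 69, 78]), (265, [61, 19, 59, 75, 73, 71, 69, 81])])),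
  (1189, (lf [(284, [61, 19, 59, 73, 75, 71, 69, 78]), (329, [61, 19, 59, 73, 75, 71, 69, 81])])),
  (847, (lf [(76, [61, 19, 59, 75, 69, 73, 69]), (25, [61, 19, 59, 75, 69, 73, 69, 77])])),
  (1202, (lf [(265, [61, 19, 59, 75, 71, 73, 69, 78]), (348, [61, 19, 59, 75, 71, 73, 69, 81])])),
  (898, (lf [(265, [61, 19, 59, 71, 75, 73, 69, 78]), (348, [61, 19, 59, 71, 75, 73, 69, 81])])),
  (907, (lf [(284, [61, 19, 59, 73, 71, 75, 69, 78]), (329, [61, 19, 59, 73, 71, 75, 69, 81])])),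
  (684, (lf [(329, [61, 19, 59, 71, 73, 75, 69, 78]), (284, [61, 19, 59, 71, 73, 75, 69, 81])])),
  (897, (lf [(329, [61, 19, 59, 75, 73, 75, 69, 78]), (284, [61, 19, 59, 75, 73, 75, 69, 81])])),
  (1092, (lf [(25, [61, 19, 59, 73, 71, 69, 71, 78]), (76, [61, 19, 59, 73, 71, 69, 71, 81])])),
  (703, (lf [(268, [61, 19, 59, 75, 73, 69, 71, 78]), (345, [61, 19, 59, 75, 73, 69, 71, 81])])),
  (1084, (lf [(89, [61, 19, 59, 73, 71, 73, 71]), (12, [61, 19, 59, 73, 71, 73, 71, 77])])),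
  (772, (lf [(12, [61, 19, 59, 75, 71, 75, 71]), (89, [61, 19, 59, 75, 71, 75, 71, 77])])),
  (670, (lf [(284, [61, 19, 59, 73, 71, 69, 73, 78]), (329, [61, 19, 59, 73, 71, 69, 73, 81])])),
  (1178, (lf [(329, [61, 19, 59, 71, 73, 69, 73, 78]), (284, [61, 19, 59, 71, 73, 69, 73, 81])])),
  (526, (lf [(329, [61, 19, 59, 75, 73, 69, 73, 78]), (284, [61, 19, 59, 75, 73, 69, 73, 81])])),
  (1371, (lf [(265, [61, 19, 59, 73, 75, 69, 73, 78]), (348, [61, 19, 59, 73, 75, 69, 73, 81])])),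
  (1403, (lf [(12, [61, 19, 59, 73, 69, 71, 73, 78]), (89, [61, 19, 59, 73, 69, 71, 73, 81])])),
  (949, (lf [(281, [61, 19, 59, 75, 73, 71, 73]), (332, [61, 19, 59, 75, 73, 71, 73, 77])])),
  (1148, (lf [(332, [61, 19, 59, 69, 75, 71, 73, 79]), (281, [61, 19, 59, 69, 75, 71, 73, 79, 77])])),
  (1140, (lf [(268, [61, 19, 59, 73, 75, 71, 73]), (345, [61, 19, 59, 73, 75, 71, 73, 77])])),
  (514, (lf [(268, [61, 19, 59, 73, 71, 75, 73]), (345, [61, 19, 59, 73, 71, 75, 73, 77])])),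
  (1220, (lf [(9, [61, 19, 59, 69, 71, 69, 75]), (92, [61, 19, 59, 69, 71, 69, 75, 77])])),
  (1402, (lf [(265, [61, 19, 59, 73, 71, 69, 75, 79]), (348, [61, 19, 59, 73, 71, 69, 75, 79, 77])])),
  (718, (lf [(348, [61, 19, 59, 71, 73, 69, 75, 79]), (265, [61, 19, 59, 71, 73, 69, 75, 79, 77])])),
  (657, (lf [(25, [61, 19, 59, 73, 69, 71, 75, 79]), (76, [61, 19, 59, 73, 69, 71, 75, 79, 77])])),
  (635, (lf [(92, [61, 19, 59, 75, 71, 69, 71, 69]), (9, [61, 19, 59, 75, 71, 69, 71, 69, 77])])),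
  (745, (lf [(92, [61, 19, 59, 71, 75, 69, 71, 69]), (9, [61, 19, 59, 71, 75, 69, 71, 69, 77])])),
  (811, (lf [(28, [61, 19, 59, 71, 69, 73, 71, 69]), (73, [61, 19, 59, 71, 69, 73, 71, 69, 77])])),
  (812, (lf [(28, [61, 19, 59, 75, 69, 73, 71, 69]), (73, [61, 19, 59, 75, 69, 73, 71, 69, 77])])),
  (935, (lf [(345, [61, 19, 59, 69, 71, 73, 71, 69]), (268, [61, 19, 59, 69, 71, 73, 71, 69, 77])])),
  (1315, (lf [(73, [61, 19, 59, 75, 71, 73, 71, 69, 78]), (28, [61, 19, 59, 75, 71, 73, 71, 69, 81])])),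
  (1024, (lf [(345, [61, 19, 59, 69, 75, 73, 71, 69, 79]), (268, [61, 19, 59, 69, 75, 73, 71, 69, 79, 77])])),
  (1229, (lf [(73, [61, 19, 59, 71, 75, 73, 71, 69, 78]), (28, [61, 19, 59, 71, 75, 73, 71, 69, 81])])),
  (1462, (lf [(332, [61, 19, 59, 73, 69, 75, 71, 69, 79]), (281, [61, 19, 59, 73, 69, 75, 71, 69, 79, 77])])),
  (740, (lf [(9, [61, 19, 59, 71, 73, 75, 71, 69, 78]), (92, [61, 19, 59, 71, 73, 75, 71, 69, 81])])),
  (1333, (lf [(9, [61, 19, 59, 75, 73, 75, 71, 69, 78]), (92, [61, 19, 59, 75, 73, 75, 71, 69, 81])])),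
  (1404, (lf [(345, [61, 19, 59, 71, 75, 69, 73, 69]), (268, [61, 19, 59, 71, 75, 69, 73, 69, 77])])),
  (939, (lf [(268, [61, 19, 59, 69, 75, 71, 73, 69, 79]), (345, [61, 19, 59, 69, 75, 71, 73, 69, 79, 77])])),
  (576, (lf [(28, [61, 19, 59, 71, 75, 71, 73, 69, 78]), (73, [61, 19, 59, 71, 75, 71, 73, 69, 81])])),
  (1475, (lf [(25, [61, 19, 59, 69, 71, 75, 73, 69, 79]), (76, [61, 19, 59, 69, 71, 75, 73, 69, 79, 77])])),
  (1227, (lf [(28, [61, 19, 59, 75, 71, 75, 73, 69, 78]), (73, [61, 19, 59, 75, 71, 75, 73, 69, 81])])),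
  (614, (lf [(9, [61, 19, 59, 71, 73, 71, 75, 69, 78]), (92, [61, 19, 59, 71, 73, 71, 75, 69, 81])])),
  (592, (lf [(329, [61, 19, 59, 69, 75, 71, 75, 69]), (284, [61, 19, 59, 69, 75, 71, 75, 69, 77])])),
  (629, (lf [(73, [61, 19, 59, 73, 75, 71, 75, 69, 78]), (28, [61, 19, 59, 73, 75, 71, 75, 69, 81])])),
  (1102, (lf [(76, [61, 19, 59, 75, 73, 71, 69, 71, 78]), (25, [61, 19, 59, 75, 73, 71, 69, 71, 81])])),
  (1494, (lf [(89, [61, 19, 59, 73, 75, 71, 69, 71, 78]), (12, [61, 19, 59, 73, 75, 71, 69, 71, 81])])),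
  (851, (lf [(25, [61, 19, 59, 71, 75, 73, 69, 71, 78]), (76, [61, 19, 59, 71, 75, 73, 69, 71, 81])])),
  (1088, (lf [(12, [61, 19, 59, 75, 73, 71, 73, 71]), (89, [61, 19, 59, 75, 73, 71, 73, 71, 77])])),
  (1287, (lf [(92, [61, 19, 59, 69, 75, 71, 73, 71, 79]), (9, [61, 19, 59, 69, 75, 71, 73, 71, 79, 77])])),
  (1486, (lf [(25, [61, 19, 59, 73, 75, 71, 73, 71]), (76, [61, 19, 59, 73, 75, 71, 73, 71, 77])])),
  (952, (lf [(284, [61, 19, 59, 69, 71, 69, 75, 71]), (329, [61, 19, 59, 69, 71, 69, 75, 71, 77])])),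
  (969, (lf [(348, [61, 19, 59, 73, 69, 71, 75, 71, 79]), (265, [61, 19, 59, 73, 69, 71, 75, 71, 79, 77])])),
  (845, (lf [(9, [61, 19, 59, 71, 73, 71, 69, 73, 78]), (92, [61, 19, 59, 71, 73, 71, 69, 73, 81])])),
  (1124, (lf [(9, [61, 19, 59, 75, 73, 71, 69, 73, 78]), (92, [61, 19, 59, 75, 73, 71, 69, 73, 81])])),
  (849, (lf [(73, [61, 19, 59, 73, 75, 71, 69, 73, 78]), (28, [61, 19, 59, 73, 75, 71, 69, 73, 81])])),
  (801, (lf [(92, [61, 19, 59, 75, 71, 73, 69, 73, 78]), (9, [61, 19, 59, 75, 71, 73, 69, 73, 81])])),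
  (1285, (lf [(92, [61, 19, 59, 71, 75, 73, 69, 73, 78]), (9, [61, 19, 59, 71, 75, 73, 69, 73, 81])])),
  (1271, (lf [(73, [61, 19, 59, 73, 71, 75, 69, 73, 78]), (28, [61, 19, 59, 73, 71, 75, 69, 73, 81])])),
  (1126, (lf [(28, [61, 19, 59, 71, 73, 75, 69, 73, 78]), (73, [61, 19, 59, 71, 73, 75, 69, 73, 81])])),
  (948, (lf [(281, [61, 19, 59, 71, 73, 69, 71, 73, 78]), (332, [61, 19, 59, 71, 73, 69, 71, 73, 81])])),
  (1396, (lf [(89, [61, 19, 59, 75, 73, 69, 71, 73, 78]), (12, [61, 19, 59, 75, 73, 69, 71, 73, 81])])),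
  (1400, (lf [(76, [61, 19, 59, 73, 75, 69, 71, 73, 78]), (25, [61, 19, 59, 73, 75, 69, 71, 73, 81])])),
  (1485, (lf [(12, [61, 19, 59, 71, 75, 73, 71, 73]), (89, [61, 19, 59, 71, 75, 73, 71, 73, 77])])),
  (536, (lf [(281, [61, 19, 59, 75, 69, 75, 71, 73, 79]), (332, [61, 19, 59, 75, 69, 75, 71, 73, 79, 77])])),
  (759, (lf [(76, [61, 19, 59, 73, 71, 75, 71, 73]), (25, [61, 19, 59, 73, 71, 75, 71, 73, 77])])),
  (626, (lf [(345, [61, 19, 59, 75, 73, 75, 71, 73]), (268, [61, 19, 59, 75, 73, 75, 71, 73, 77])])),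
  (1144, (lf [(345, [61, 19, 59, 75, 73, 71, 75, 73]), (268, [61, 19, 59, 75, 73, 71, 75, 73, 77])])),
  (691, (lf [(284, [61, 19, 59, 71, 69, 71, 69, 75]), (329, [61, 19, 59, 71, 69, 71, 69, 75, 77])])),
  (1112, (lf [(28, [61, 19, 59, 71, 73, 71, 69, 75, 79]), (73, [61, 19, 59, 71, 73, 71, 69, 75, 79, 77])])),
  (817, (lf [(92, [61, 19, 59, 73, 75, 71, 69, 75, 79]), (9, [61, 19, 59, 73, 75, 71, 69, 75, 79, 77])])),
  (886, (lf [(345, [61, 19, 59, 73, 71, 69, 71, 75, 79]), (268, [61, 19, 59, 73, 71, 69, 71, 75, 79, 77])])),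
  (1250, (lf [(76, [61, 19, 59, 75, 73, 69, 71, 75, 79]), (25, [61, 19, 59, 75, 73, 69, 71, 75, 79, 77])])),
  (1257, (lf [(89, [61, 19, 59, 73, 75, 69, 71, 75, 79]), (12, [61, 19, 59, 73, 75, 69, 71, 75, 79, 77])])),
  (543, (lf [(12, [61, 19, 59, 73, 69, 73, 71, 75, 79]), (89, [61, 19, 59, 73, 69, 73, 71, 75, 79, 77])])),
  (666, (lf [(76, [61, 19, 59, 73, 69, 75, 71, 75, 78]), (25, [61, 19, 59, 73, 69, 75, 71, 75, 81])])),
  (1038, (lf [(281, [61, 19, 59, 69, 75, 73, 69, 71, 69, 79]), (332, [61, 19, 59, 69, 75, 73, 69, 71, 69, 79, 77])])),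
  (550, (lf [(265, [61, 19, 59, 73, 75, 73, 69, 71, 69]), (348, [61, 19, 59, 73, 75, 73, 69, 71, 69, 77])])),
  (1469, (lf [(268, [61, 19, 59, 73, 69, 75, 69, 71, 69, 79]), (345, [61, 19, 59, 73, 69, 75, 69, 71, 69, 79, 77])])),
  (649, (lf [(265, [61, 19, 59, 71, 75, 69, 73, 71, 69]), (348, [61, 19, 59, 71, 75, 69, 73, 71, 69, 77])])),
  (1002, (lf [(268, [61, 19, 59, 75, 69, 75, 73, 71, 69, 79]), (345, [61, 19, 59, 75, 69, 75, 73, 71, 69, 79, 77])])),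
  (677, (lf [(348, [61, 19, 59, 75, 71, 75, 73, 71, 69, 78]), (265, [61, 19, 59, 75, 71, 75, 73, 71, 69, 81])])),
  (1029, (lf [(332, [61, 19, 59, 69, 73, 75, 73, 71, 69, 79]), (281, [61, 19, 59, 69, 73, 75, 73, 71, 69, 79, 77])])),
  (1260, (lf [(89, [61, 19, 59, 71, 73, 69, 75, 71, 69, 79]), (12, [61, 19, 59, 71, 73, 69, 75, 71, 69, 79, 77])])),
  (1459, (lf [(281, [61, 19, 59, 75, 73, 69, 75, 71, 69, 79]), (332, [61, 19, 59, 75, 73, 69, 75, 71, 69, 79, 77])])),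
  (1132, (lf [(92, [61, 19, 59, 69, 75, 69, 75, 71, 69]), (9, [61, 19, 59, 69, 75, 69, 75, 71, 69, 77])])),
  (1465, (lf [(345, [61, 19, 59, 73, 69, 73, 75, 71, 69, 79]), (268, [61, 19, 59, 73, 69, 73, 75, 71, 69, 79, 77])])),
  (1399, (lf [(268, [61, 19, 59, 75, 71, 75, 69, 73, 69]), (345, [61, 19, 59, 75, 71, 75, 69, 73, 69, 77])])),
  (1375, (lf [(25, [61, 19, 59, 71, 69, 75, 71, 73, 69, 79]), (76, [61, 19, 59, 71, 69, 75, 71, 73, 69, 79, 77])])),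
  (642, (lf [(345, [61, 19, 59, 75, 69, 75, 71, 73, 69, 79]), (268, [61, 19, 59, 75, 69, 75, 71, 73, 69, 79, 77])])),
  (1206, (lf [(348, [61, 19, 59, 69, 71, 75, 71, 73, 69, 79]), (265, [61, 19, 59, 69, 71, 75, 71, 73, 69, 79, 77])])),
  (732, (lf [(281, [61, 19, 59, 69, 73, 75, 71, 73, 69, 79]), (332, [61, 19, 59, 69, 73, 75, 71, 73, 69, 79, 77])])),
  (598, (lf [(348, [61, 19, 59, 69, 75, 71, 75, 73, 69]), (265, [61, 19, 59, 69, 75, 71, 75, 73, 69, 77])])),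
  (843, (lf [(73, [61, 19, 59, 69, 75, 73, 71, 69, 71, 79]), (28, [61, 19, 59, 69, 75, 73, 71, 69, 71, 79, 77])])),
  (1267, (lf [(329, [61, 19, 59, 75, 69, 75, 71, 73, 71, 79]), (284, [61, 19, 59, 75, 69, 75, 71, 73, 71, 79, 77])])),
  (572, (lf [(12, [61, 19, 59, 69, 71, 75, 71, 73, 71, 79]), (89, [61, 19, 59, 69, 71, 75, 71, 73, 71, 79, 77])])),
  (1166, (lf [(284, [61, 19, 59, 75, 71, 73, 71, 69, 73, 78]), (329, [61, 19, 59, 75, 71, 73, 71, 69, 73, 81])])),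
  (645, (lf [(348, [61, 19, 59, 71, 73, 75, 71, 69, 73, 78]), (265, [61, 19, 59, 71, 73, 75, 71, 69, 73, 81])])),
  (668, (lf [(329, [61, 19, 59, 71, 75, 71, 73, 69, 73, 78]), (284, [61, 19, 59, 71, 75, 71, 73, 69, 73, 81])])),
  (1391, (lf [(329, [61, 19, 59, 75, 71, 75, 73, 69, 73, 78]), (284, [61, 19, 59, 75, 71, 75, 73, 69, 73, 81])])),
  (862, (lf [(332, [61, 19, 59, 75, 71, 73, 69, 71, 73, 78]), (281, [61, 19, 59, 75, 71, 73, 69, 71, 73, 81])])),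
  (879, (lf [(76, [61, 19, 59, 71, 73, 71, 69, 71, 75, 79]), (25, [61, 19, 59, 71, 73, 71, 69, 71, 75, 79, 77])])),
  (1252, (lf [(76, [61, 19, 59, 73, 75, 69, 73, 71, 75, 79]), (25, [61, 19, 59, 73, 75, 69, 73, 71, 75, 79, 77])])),
  (697, (lf [(12, [61, 19, 59, 69, 71, 75, 69, 75, 71, 69]), (89, [61, 19, 59, 69, 71, 75, 69, 75, 71, 69, 77])])),
  (877, (lf [(76, [61, 19, 59, 73, 71, 75, 69, 75, 71, 69, 79]), (25, [61, 19, 59, 73, 71, 75, 69, 75, 71, 69, 79, 77])])),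
  (1053, (lf [(281, [61, 19, 59, 73, 69, 75, 73, 71, 73, 69, 79]), (332, [61, 19, 59, 73, 69, 75, 73, 71, 73, 69, 79, 77])])),
  (922, (lf [(89, [61, 19, 59, 71, 75, 71, 73, 69, 71, 73, 78]), (12, [61, 19, 59, 71, 75, 71, 73, 69, 71, 73, 81])]))]))]) .nil))))))))))))))) .nil)

theorem ce_ok : solveB (nat_lit 11) (nat_lit 2047) htt (nat_lit 2033) 500 B0 (fun _ => true) ch0 0 []
    (sl eb) (sl eb) [] [] eb (fun u => bif' (allL (okL eb) u) true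
      (bnot (fixW (nat_lit 11) (nat_lit 2047) htt B0 ((u ++ [46]) ++ invW ([46] ++ u))))) id ceT ceC
    = true := by decide +kernel

theorem cE (B : SB z f) {c : G} (hc : c ∈ centralizer ({z} : Set G))
    (h : ∀ i < 10, c * ee f (2 ^ i) = ee f (2 ^ i) * c) : ∃ p < 1024, c = ee f p := by
  obtain ⟨M, -, -, ch⟩ := model B
  have e : ∀ w ∈ sl eb, ∃ i < 10, ew eb (2 ^ i) = w := by decide
  obtain ⟨g, hg, u, hu, y, hy, e1⟩ := M.solve ch (fun l _ => M.lmem _) ce_ok hc hc (Or.inl rfl)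
    (comm_pairs _ fun w hw => by
      obtain ⟨i, hi, rfl⟩ := e w hw
      exact h i hi) (by simp) (by simp)
  rw [mem_bot.1 hy, mul_one, id] at e1
  have hg := gp_eb B hg
  cases hb : allL (okL eb) u with
  | true => exact e1 ▸ mul_mem hg (mem_word eb (eb_mem B) hb)
  | false =>
    rw [hb] at hu
    refine absurd ?_ (M.ne _ _ hu)
    obtain ⟨p, -, rfl⟩ := hg
    have h7 : c * ee f 128 = ee f 128 * c := h 7 (by norm_num)
    rw [wval_append, wval_append]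
    change wval (FF f) u * ee f 128 = ee f 128 * wval (FF f) u
    rw [e1, mul_assoc, ← mul_assoc (ee f 128), ee_comm B 128 p, mul_assoc] at h7
    exact mul_left_cancel h7

end Cfsg.Agent.Lib.Co2H
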