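import Cfsg.Agent.Lib.Co2HDR
import Cfsg.Agent.Lib.Co2HDT
import Cfsg.Agent.Lib.Co2HDF
import Cfsg.Agent.Lib.Co2HDM

set_option autoImplicit false
set_option maxRecDepth 100000

namespace Cfsg.Agent.Lib.Co2HD
open Cfsg.Agent.Lib.PermNet Cfsg.Agent.Lib.DCE

theorem tab0 : allR (tabB nets (nat_lit 1520) (nat_lit 11) (nat_lit 512) (nat_lit 9) (nat_lit 9) (nat_lit 511) tH) (nat_lit 0) (nat_lit 86) = true := by decide +kernel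

def lH0 : Lev := ⟨[[0], [2], [4], [6], [8], [10], [12], [14], [16], [18], [20], [22], [24], [26]], 0, [(0, 6), (0, 7), (0, 8), (0, 9), (0, 10), (0, 11), (0, 12), (0, 13), (1, 0), (1, 1), (1, 2), (1, 4), (1, 7), (1, 8), (1, 9), (1, 10), (1, 11), (1, 12), (1, 13), (2, 1), (2, 2), (2, 3), (2, 4), (2, 5), (2, 6), (2, 8), (2, 9), (2, 10), (2, 11), (2, 12), (2, 13), (4, 0), (4, 1), (4, 2), (4, 4), (4, 5), (4, 9), (4, 10), (4, 11), (4, 12), (4, 13), (8, 0), (8, 2), (8, 4), (8, 5), (8, 8), (8, 10), (8, 11), (8, 12), (8, 13), (16, 0), (16, 2), (16, 11), (16, 12), (16, 13), (32, 1), (32, 2), (32, 10), (32, 12), (32, 13), (64, 0), (64, 1), (64, 2), (64, 5), (64, 13), (128, 0), (128, 1), (128, 2), (128, 12), (389, 1), (389, 2), (389, 3), (389, 7), (389, 8), (389, 9), (389, 10), (389, 11), (389, 12), (389, 13), (400, 0), (400,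 5), (400, 7), (400, 8), (400, 9), (400, 10), (400, 11), (400, 12), (400, 13), (401, 0), (401, 4), (401, 7), (401, 11), (401, 12), (401, 13), (388, 1), (388, 3), (388, 7), (388, 9), (388, 12), (388, 13), (259, 1), (259, 2), (259, 3), (259, 4), (259, 5), (259, 6), (259, 8), (259, 9), (259, 10), (259, 11), (259, 12), (259, 13), (5, 0), (5, 1), (5, 2), (5, 5), (5, 9), (5, 10), (5, 13), (9, 0), (9, 4), (9, 5), (9, 8), (9, 10), (9, 11), (9, 12), (17, 0), (17, 4), (17, 11), (17, 12), (17, 13), (33, 2), (33, 4), (33, 5), (33, 10), (33, 12), (65, 0), (65, 1), (65, 2), (65, 3), (65, 4), (65, 5), (65, 13), (129, 12), (162, 0), (162, 2), (162, 3), (162, 4), (162, 6), (162, 8), (162, 9), (162, 10), (162, 12), (420, 1), (420, 9), (420, 10), (420, 12), (338, 2), (338, 6), (338, 8), (338, 9), (338, 10), (338, 11), (338, 12), (338,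 13), (26, 1), (26, 5), (26, 6), (26, 8), (26, 11), (26, 13), (422, 1), (422, 6), (422, 8), (422, 9), (422, 10), (422, 12), (422, 13), (3, 0), (3, 1), (3, 2), (3, 4), (3, 7), (3, 8), (3, 9), (3, 10), (3, 11), (3, 12), (3, 13), (6, 0), (6, 2), (6, 3), (6, 9), (6, 10), (6, 11), (6, 12), (6, 13), (10, 2), (10, 5), (10, 8), (10, 11), (18, 1), (18, 2), (18, 3), (18, 4), (18, 5), (18, 13), (34, 2), (34, 3), (34, 5), (34, 12), (66, 1), (66, 5), (66, 13), (130, 0), (130, 1), (130, 2), (130, 3), (130, 4), (130, 12), (161, 2), (161, 7), (161, 12), (500, 0), (500, 4), (500, 6), (500, 9), (500, 11), (500, 13), (496, 0), (496, 4), (496, 6), (496, 7), (496, 9), (496, 10), (496, 11), (496, 12), (496, 13), (289, 6), (289, 9), (289, 13), (336, 6), (336, 9), (268, 0), (268, 2), (268, 4), (268, 5), (268, 8), (268, 10), (268, 11),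 (268, 12), (268, 13), (20, 0), (20, 1), (20, 2), (20, 3), (20, 5), (20, 11), (20, 13), (36, 1), (36, 2), (36, 10), (36, 12), (36, 13), (68, 0), (68, 1), (68, 2), (68, 3), (68, 4), (68, 5), (132, 1), (132, 2), (132, 5), (132, 12), (266, 1), (266, 5), (266, 13), (281, 0), (281, 6), (281, 8), (281, 11), (281, 12), (74, 1), (74, 5), (74, 6), (74, 8), (74, 13), (137, 7), (137, 12), (12, 0), (12, 1), (12, 2), (12, 3), (12, 4), (12, 5), (12, 10), (12, 11), (12, 12), (24, 11), (40, 4), (40, 5), (40, 10), (40, 13), (72, 13), (136, 4), (136, 12), (88, 6), (88, 8), (88, 11), (88, 13), (409, 0), (409, 7), (409, 8), (409, 10), (409, 11), (304, 2), (304, 5), (304, 12), (138, 5), (138, 6), (138, 8), (138, 12), (462, 2), (462, 6), (462, 7), (462, 9), (462, 10), (462, 12), (48, 0), (48, 1), (48, 2), (48, 3), (48, 5), (96, 1), (96,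 2), (96, 4), (96, 5), (160, 12), (282, 6), (282, 8), (282, 11), (31, 9), (31, 11), (59, 2), (59, 7), (59, 8), (59, 10), (69, 7), (69, 9), (69, 11), (448, 0), (448, 1), (448, 3), (448, 5), (152, 8), (152, 11), (192, 0), (192, 1), (192, 5), (492, 1), (492, 8), (492, 9), (492, 10), (492, 12), (492, 13), (505, 0), (505, 1), (505, 7), (505, 8), (505, 12), (505, 13), (165, 1), (165, 9), (165, 10), (165, 12), (135, 3), (135, 5), (135, 11), (135, 12), (141, 4), (141, 11), (141, 12), (405, 0), (405, 2), (405, 12), (421, 1), (421, 2), (421, 10), (421, 12), (453, 1), (453, 3), (453, 5), (261, 12), (248, 7), (248, 9), (248, 10), (248, 12), (265, 12), (402, 1), (402, 3), (402, 5), (402, 10), (404, 1), (404, 12), (408, 8), (384, 13), (176, 2), (176, 4), (464, 0), (125, 7), (125, 9), (125, 10), (360, 8), (147, 4), (147, 5), (177,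 2), (177, 5), (177, 12), (465, 0), (465, 4), (465, 5), (273, 0), (380, 6), (380, 12), (37, 2), (37, 7), (37, 9), (390, 3), (390, 4), (390, 6), (390, 12), (140, 2), (452, 1), (260, 1), (260, 12), (50, 2), (50, 5), (50, 8), (309, 2), (466, 0), (466, 6), (466, 8), (466, 9), (158, 1), (158, 5), (158, 12), (182, 6), (267, 8), (267, 11), (291, 12), (323, 1), (387, 5), (353, 10), (269, 0), (269, 2), (269, 4), (133, 12), (143, 3), (206, 13), (13, 0), (13, 4), (13, 5), (41, 2), (41, 4), (73, 2), (221, 7), (305, 4), (305, 13), (145, 12), (351, 6), (351, 10), (351, 11), (351, 13), (293, 7), (97, 13), (159, 3), (399, 3), (410, 0), (410, 2), (410, 3), (406, 13), (86, 11), (287, 9), (163, 12), (166, 12), (170, 4), (170, 12), (502, 6), (502, 9), (502, 11), (172, 4), (262, 0), (339, 11), (346, 5), (346, 11), (346, 13), (30, 0),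 (30, 5), (154, 3), (418, 10), (438, 11), (294, 3), (397, 12), (53, 12), (19, 0), (38, 1), (70, 2), (445, 1), (424, 2), (332, 4), (308, 1)], 512⟩

def lH1 : Lev := ⟨[[0], [2], [4], [6], [8], [10]], 3, [(3, 0), (3, 1), (3, 2), (3, 3), (3, 4), (3, 5), (397, 0), (397, 1), (397, 2), (397, 3), (397, 4), (397, 5), (306, 0), (306, 1), (306, 2), (306, 3), (306, 5), (53, 0), (53, 1), (53, 2), (53, 3), (53, 4), (53, 5), (210, 0), (210, 1), (210, 2), (210, 4), (414, 0), (414, 1), (414, 3), (414, 4), (414, 5), (438, 1), (438, 2), (142, 1), (142, 2), (142, 3), (364, 1), (364, 2), (364, 3), (364, 4), (364, 5), (480, 0), (480, 1), (480, 2), (480, 3), (480, 4), (437, 0), (437, 1), (437, 2), (437, 3), (437, 4), (75, 1), (75, 4), (75, 5), (209, 2), (464, 0), (464, 3), (464, 4), (49, 0), (243, 0), (243, 2), (243, 3), (243, 5), (463,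 0), (463, 4), (509, 2), (252, 0), (252, 1), (252, 3), (252, 4), (252, 5), (503, 0), (503, 1), (54, 0), (54, 1), (54, 3), (54, 4), (185, 0), (185, 1), (185, 2), (185, 5), (332, 0), (332, 1), (332, 3), (332, 4), (283, 5), (234, 1), (234, 2), (300, 1), (300, 2), (300, 4), (300, 5), (158, 0), (158, 2), (158, 4), (158, 5), (484, 0), (484, 1), (484, 3), (484, 4), (347, 1), (347, 3), (327, 1), (327, 3), (327, 5), (127, 2), (127, 3), (127, 4), (127, 5), (413, 1), (413, 3), (374, 1), (374, 2), (333, 1), (411, 1), (411, 2), (94, 3), (94, 4), (469, 1), (469, 3), (469, 5), (103, 1), (103, 2), (103, 3), (481, 0), (481, 4), (481, 5), (284, 3), (284, 5), (43, 0), (43, 2), (43, 4), (472, 1), (470, 2), (314, 3), (314, 4), (314, 5), (30, 4), (92, 1), (383, 1), (174, 0), (312, 1), (312, 2), (312, 4), (429, 1), (429, 3), (198, 0),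 (482, 4), (387, 0), (387, 1), (387, 4), (510, 3), (239, 3), (449, 0), (156, 1), (156, 4), (323, 0), (140, 0), (201, 5), (112, 3), (178, 0), (178, 4), (178, 5), (308, 3), (78, 3), (78, 4), (450, 0), (450, 3), (450, 4), (453, 3), (107, 0), (107, 2), (107, 3), (107, 4), (466, 1), (466, 3), (247, 1), (247, 2), (267, 4), (474, 5), (177, 1), (363, 1), (430, 2), (430, 4), (377, 3), (319, 1), (319, 2), (319, 4), (319, 5), (208, 1), (254, 0), (254, 4), (254, 5), (295, 4), (458, 0), (458, 1), (458, 4), (458, 5), (91, 0), (91, 1), (91, 3), (76, 0), (76, 5), (157, 0), (157, 4), (118, 5), (155, 1), (233, 1), (186, 3), (108, 4), (176, 0), (176, 2), (176, 4), (176, 5), (225, 1), (369, 2), (507, 3), (35, 1), (490, 3), (304, 2), (191, 3), (147, 3), (172, 4), (7, 1), (226, 0), (479, 1), (441, 3), (131, 3), (19, 5), (301, 2), (224,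 2), (63, 3), (485, 2), (457, 0), (465, 2), (39, 3), (436, 1), (448, 1)], 240⟩

def lH2 : Lev := ⟨[[28], [30], [32], [34]], 13, [(13, 0), (13, 1), (13, 2), (13, 3), (441, 0), (441, 1), (441, 2), (441, 3), (217, 0), (217, 1), (217, 2), (217, 3), (378, 0), (378, 1), (378, 2), (378, 3), (209, 0), (209, 2), (209, 3), (30, 1), (30, 2), (429, 0), (429, 2), (429, 3), (141, 0), (141, 1), (141, 2), (141, 3), (438, 2), (365, 0), (365, 1), (365, 2), (365, 3), (194, 2), (194, 3), (186, 0), (186, 1), (186, 3), (286, 0), (286, 3), (54, 0), (54, 1), (54, 2), (54, 3), (457, 2), (457, 3), (433, 0), (433, 1), (433, 3), (482, 2), (482, 3), (142, 1), (142, 2), (58, 0), (58, 1), (58, 2), (58, 3), (78, 0), (78, 3), (109, 0), (109, 3), (93, 1), (481, 0), (481, 1), (481, 3), (370, 1), (370, 3), (302, 2), (302, 3), (233, 0), (233, 1), (234,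 2), (218, 0), (218, 1), (398, 3), (213, 0), (202, 1), (202, 2), (182, 2), (77, 2), (285, 1), (285, 2), (349, 0), (349, 3), (29, 0), (29, 2), (174, 0), (174, 2), (174, 3), (437, 2), (269, 0), (269, 2), (117, 3), (306, 0), (306, 3), (14, 3), (253, 1), (214, 0), (509, 3), (333, 2), (46, 1), (490, 3), (458, 1), (178, 0), (114, 2), (449, 0), (413, 3), (469, 0), (369, 3), (301, 3), (470, 0)], 112⟩

def lH3 : Lev := ⟨[[36], [38], [40], [42]], 16, [(16, 0), (16, 1), (16, 2), (16, 3), (416, 0), (416, 1), (416, 2), (416, 3), (476, 0), (476, 1), (476, 2), (476, 3), (475, 0), (96, 0), (96, 3), (320, 0), (320, 1), (320, 3), (316, 0), (316, 1), (128, 0), (231, 2), (32, 3), (204, 3), (380, 3), (215, 1)], 27⟩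

def lH4 : Lev := ⟨[[44]], 32, [(32, 0)], 2⟩

def chH : List Lev := [lH0, lH1, lH2, lH3, lH4]

theorem cH : chainB (nat_lit 9) (nat_lit 511) tH (nat_lit 512) chH [] = true := by decide +kernel

def lK0 : Lev := ⟨[[0], [2], [4], [6], [8]], 0, [(0, 4), (1, 1), (1, 2), (1, 3), (81, 2), (81, 3), (81, 4), (5, 3), (277, 1), (277, 3), (85, 4), (80, 3), (320, 1), (320, 2), (320, 3), (320, 4), (65, 3), (65, 4), (84, 3), (273, 1), (273, 4), (16, 3), (16, 4), (321, 1), (336, 4), (324, 2), (69, 3), (340, 4), (337, 1), (337, 3), (257, 4)], 32⟩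

def lK1 : Lev := ⟨[[0], [2], [4], [6]], 3, [(3, 0), (3, 1), (3, 2), (3, 3), (339, 1), (339, 2), (339, 3), (83, 2), (83, 3), (7, 3), (473, 0), (473, 1), (473, 3), (259, 2), (259, 3), (343, 3), (456, 0), (456, 1), (456, 3), (87, 3), (200, 0), (200, 1), (200, 3), (396, 0), (396, 1), (396, 2), (396, 3), (216, 1), (216, 2), (216, 3), (127, 3), (218, 0), (218, 1), (218, 2), (263, 3), (217, 0), (217, 1), (217, 3), (413, 0), (413, 1), (413, 2), (413, 3), (201, 1), (201, 2), (201, 3), (314, 3), (155, 0), (155, 1), (155, 2), (157, 0), (457, 3), (58, 3), (411, 1), (411, 2), (141, 1), (141, 3), (122, 3), (46, 3), (139, 1), (302, 0), (302, 3), (378, 3), (207, 0), (207, 3), (52, 0), (52, 1), (52, 2), (52, 3), (395, 1), (300, 0), (300, 3), (376, 3), (140, 0), (472, 3), (383, 3), (474, 1), (474, 2), (156, 1), (156, 3), (319,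 3), (363, 3), (202, 1), (107, 0), (107, 3), (142, 0), (142, 3), (49, 1), (49, 2), (49, 3), (458, 1), (57, 0), (57, 3), (109, 3), (398, 3), (305, 1), (305, 2), (305, 3), (313, 0), (313, 3), (365, 3), (299, 3), (158, 3), (372, 1), (372, 2), (372, 3), (48, 0), (48, 1), (48, 2), (48, 3), (301, 3), (43, 3), (304, 0), (304, 1), (304, 2), (304, 3), (116, 1), (116, 2), (116, 3), (414, 3), (23, 1), (113, 1), (113, 2), (113, 3), (310, 0), (310, 2), (310, 3), (331, 1), (331, 2), (45, 3), (121, 3), (508, 1), (508, 2), (508, 3), (184, 1), (184, 2), (463, 3), (308, 1), (308, 2), (308, 3), (44, 0), (44, 3), (120, 3), (369, 1), (369, 2), (369, 3), (53, 1), (53, 2), (53, 3), (56, 3), (309, 1), (309, 2), (309, 3), (479, 3), (355, 0), (355, 2), (355, 3), (11, 1), (11, 2), (312, 3), (364, 3), (232, 1), (232, 2), (232, 3), (428, 1),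 (428, 2), (99, 0), (99, 2), (99, 3), (267, 1), (267, 2), (108, 3), (488, 1), (488, 2), (488, 3), (172, 1), (172, 2), (112, 3), (370, 2), (117, 1), (117, 3), (306, 2), (233, 0), (233, 1), (233, 2), (368, 2), (368, 3), (373, 3), (50, 2), (50, 3), (30, 1), (30, 2), (270, 1), (270, 2), (39, 2), (291, 3), (198, 3), (391, 3), (239, 0), (239, 3), (285, 3), (489, 1), (489, 2), (268, 3), (332, 3), (54, 2), (54, 3), (75, 1), (75, 2), (295, 2), (359, 2), (509, 1), (151, 3), (470, 3), (269, 3), (253, 2), (284, 3), (348, 3), (407, 3), (214, 3), (13, 3), (28, 3), (92, 3), (466, 3), (194, 3), (333, 3), (450, 3), (210, 3), (76, 3), (12, 3), (131, 3), (403, 3), (93, 3), (77, 3), (243, 0), (454, 3), (135, 3), (387, 3), (147, 3), (349, 3)], 240⟩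

def lK2 : Lev := ⟨[[10], [12], [14], [16]], 13, [(13, 0), (13, 1), (13, 2), (13, 3), (285, 1), (186, 0), (186, 1), (186, 2), (186, 3), (433, 0), (433, 1), (433, 3), (181, 1), (510, 0), (510, 1), (510, 2), (510, 3), (482, 1), (93, 1), (93, 2), (93, 3), (174, 0), (174, 1), (174, 3), (94, 1), (233, 1), (437, 0), (177, 2), (438, 1), (333, 1), (490, 0), (486, 2), (486, 3), (234, 2), (234, 3), (481, 0), (481, 1), (481, 3), (229, 1), (230, 1), (178, 1), (78, 0), (78, 1), (442, 1), (254, 1), (254, 3), (14, 1)], 48⟩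

def lK3 : Lev := ⟨[[18]], 16, [], 1⟩

def lK4 : Lev := ⟨[[18]], 32, [(32, 0)], 2⟩

def chK : List Lev := [lK0, lK1, lK2, lK3, lK4]

theorem cK : chainB (nat_lit 9) (nat_lit 511) tK (nat_lit 512) chK [] = true := by decide +kernel

def d0 : List Der := [.base,
  .base,
  .base,
  .base,
  .base,
  .base,
  .base,
  .base,
  .base,
  .base,
  .base,
  .base,
  .base,
  .base,
  .dfn,
  .tm 2 [] [] [⟨14, [], []⟩],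
  .tm 1 [] [] [⟨14, [], [2, 4]⟩, ⟨14, [17, 7, 5, 6, 3, 6], []⟩],
  .tm 1 [] [] [⟨14, [], [10]⟩, ⟨14, [11, 17, 12, 1, 6, 3, 6, 3, 7], []⟩],
  .tm 1 [] [] [⟨14, [], [12]⟩, ⟨14, [9], []⟩],
  .tm 1 [] [] [⟨14, [], [16]⟩, ⟨14, [7, 3, 9, 3, 6], []⟩],
  .tm 1 [] [] [⟨14, [], [24]⟩, ⟨14, [3, 7, 9, 6, 3, 9], []⟩],
  .tm 1 [] [] [⟨14, [], [1, 3, 4, 0]⟩, ⟨14, [6], []⟩],
  .tm 1 [] [] [⟨14, [], [0, 6, 0]⟩, ⟨14, [3, 7, 5, 6, 3], []⟩],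
  .tm 1 [] [] [⟨14, [], [8, 0]⟩, ⟨14, [11, 13, 16, 5, 6, 1, 3, 7], []⟩],
  .tm 1 [] [] [⟨14, [], [3, 6, 3]⟩, ⟨14, [11, 5, 6, 5, 6, 3, 7], []⟩],
  .dfn,
  .tm 2 [] [] [⟨25, [], []⟩],
  .tm 1 [] [] [⟨25, [], [33, 34]⟩, ⟨25, [11, 17, 3, 6, 9, 7, 3, 6, 9, 7], []⟩],
  .tm 1 [] [] [⟨25, [], [36]⟩, ⟨25, [19, 11, 13, 13, 7, 1, 7, 1, 9, 3, 5, 9, 7], []⟩],
  .tm 1 [] [] [⟨25, [], [38]⟩, ⟨25, [19, 12, 9, 3, 5, 9], []⟩],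
  .tm 1 [] [] [⟨25, [], [40]⟩, ⟨25, [19, 11, 7, 1, 7, 1, 9, 3, 5, 9, 7], []⟩],
  .tm 1 [] [] [⟨25, [], [33, 42]⟩, ⟨25, [19, 3, 7, 3, 5, 9, 6, 3, 9], []⟩],
  .tm 1 [] [] [⟨25, [], [48]⟩, ⟨25, [11, 17], []⟩],
  .tm 1 [] [] [⟨25, [], [34, 48, 32]⟩, ⟨25, [7, 9, 6], []⟩],
  .tm 1 [] [] [⟨25, [], [42, 46, 43]⟩, ⟨25, [11, 17, 3], []⟩],
  .tm 1 [] [] [⟨25, [], [45, 46, 44]⟩, ⟨25, [3, 5], []⟩],
  .tm 3 [] [] [⟨25, [4, 2, 8, 6, 4, 6, 2, 0, 12, 14], [33, 45]⟩, ⟨14, [7, 2, 7, 4], [18]⟩, ⟨14, [8, 7, 2, 7, 8, 6, 2, 6, 2, 7, 2, 0, 16, 12, 14], [44, 32]⟩, ⟨25, [7, 8, 4, 6, 8, 2, 7, 2, 7, 2, 12, 16, 10], []⟩],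
  .tm 4 [] [] [⟨25, [7, 2, 7, 8, 6, 0, 7], [34, 47, 43]⟩, ⟨14, [2, 6], [11, 4, 2]⟩, ⟨14, [2, 6, 2, 7, 2, 10], [42, 46]⟩, ⟨25, [8, 4, 6, 8, 0, 2, 6, 4, 6, 2, 12, 14, 12], []⟩],
  .dfn,
  .tm 2 [] [] [⟨38, [], []⟩],
  .tm 1 [] [] [⟨38, [], [38]⟩, ⟨38, [19, 12, 16, 7, 3], []⟩],
  .tm 1 [] [] [⟨38, [], [37, 40]⟩, ⟨38, [19, 15, 6, 1, 7], []⟩],
  .tm 1 [] [] [⟨38, [], [47, 34, 32]⟩, ⟨38, [17, 13, 3, 7, 5, 6, 3, 9, 7], []⟩],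
  .dfn,
  .tm 2 [] [] [⟨43, [], []⟩],
  .tm 1 [] [] [⟨43, [], [37, 40]⟩, ⟨43, [19, 15, 6, 1, 7], []⟩],
  .tm 1 [] [] [⟨43, [], [47, 34, 32]⟩, ⟨43, [12, 5, 6, 1, 9, 3, 9, 7, 3], []⟩],
  .tm 1 [] [] [⟨43, [], [42, 32]⟩, ⟨43, [19, 12, 1, 5, 6, 9, 7, 3, 6, 9, 7], []⟩],
  .tm 1 [] [] [⟨43, [], [35, 41, 48, 46]⟩, ⟨43, [19, 13, 13, 16, 13, 3, 7, 5, 7, 3, 6, 9, 3, 9, 7, 3], []⟩],
  .tm 1 [] [] [⟨43, [], [43, 45, 46, 44, 42]⟩, ⟨43, [19, 13, 15, 12, 1, 5, 6, 1, 3, 9, 5, 7, 9, 5], []⟩],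
  .dfn,
  .tm 2 [] [] [⟨50, [], []⟩],
  .tm 1 [] [] [⟨50, [], [33, 38]⟩, ⟨50, [17, 3, 7, 3, 5], []⟩],
  .tm 1 [] [] [⟨50, [], [35, 41, 42, 35]⟩, ⟨50, [19, 17, 12, 3, 7, 3, 5], []⟩],
  .tm 1 [] [] [⟨50, [], [41, 48, 40]⟩, ⟨50, [19, 11, 17, 13, 1, 3, 5], []⟩],
  .tm 1 [] [] [⟨50, [], [42, 37, 46, 43]⟩, ⟨50, [19, 11, 17, 3], []⟩],
  .tm 1 [] [] [⟨50, [], [33, 45, 46, 44]⟩, ⟨50, [19, 12, 17, 3, 7, 3, 5], []⟩],
  .tm 1 [] [] [⟨50, [], [35, 43, 48, 44]⟩, ⟨50, [19, 11, 13, 15, 12, 1, 3, 6, 1, 9, 3, 9, 7, 3, 7, 9], []⟩],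
  .dfn,
  .tm 2 [] [] [⟨58, [], []⟩],
  .tm 1 [] [] [⟨58, [], [55, 68]⟩, ⟨58, [7, 1, 7, 9, 7, 3, 6, 9, 7], []⟩],
  .tm 1 [] [] [⟨58, [], [72]⟩, ⟨58, [15, 13, 17, 6, 1, 3, 6, 9, 3, 9, 7], []⟩],
  .tm 1 [] [] [⟨58, [], [55, 63, 72, 62]⟩, ⟨58, [11, 12, 5, 7, 3, 6, 3, 9, 7, 3, 6], []⟩],
  .tm 6 [7, 2, 6, 2, 6, 12, 16, 18] [] [⟨58, [7, 2, 7, 2, 6], [72]⟩, ⟨26, [6, 4, 8, 4, 7, 4, 0, 12, 16, 10], [43, 46, 35]⟩, ⟨25, [4, 2, 8, 6, 2, 0, 7, 4, 10, 13, 10, 18], [62, 72]⟩, ⟨26, [8, 4, 2, 8, 6, 2, 6, 2, 7, 13, 10, 18], []⟩, ⟨15, [8, 4, 6, 8, 7, 4, 0, 16], [22, 18]⟩, ⟨14, [7, 2, 6, 8, 6, 2, 7, 2, 7, 4, 12, 14, 12, 12], [46, 32]⟩, ⟨25, [7, 8, 4, 6, 8, 7, 0, 2, 6, 17, 12], [62, 72]⟩, ⟨26, [6, 8, 0, 2, 6, 2, 7, 10, 13], [44, 43]⟩, ⟨25, [7, 8, 4, 6, 8, 4, 7, 4, 6, 0, 16, 12], [70, 54, 62, 54]⟩, ⟨58, [2, 8, 4, 2, 0, 16, 18], []⟩],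
  .tm 2 [2, 6, 8, 6, 2, 0, 7, 4, 0, 10, 12] [] [⟨63, [], []⟩],
  .tm 1 [] [] [⟨64, [], [122, 120]⟩, ⟨63, [7, 2, 8, 7, 2, 6, 0, 12, 16, 10], []⟩],
  .tm 1 [] [] [⟨63, [], [125, 131]⟩, ⟨59, [2, 7, 8, 6, 4, 12, 12], []⟩],
  .tm 0 [] [] [⟨58, [], [132]⟩],
  .tm 7 [7, 8, 7, 2, 12, 14, 18] [] [⟨67, [0, 2, 7, 2, 7, 0, 14], [63]⟩, ⟨25, [2, 7, 8, 4, 2], [42, 38, 35]⟩, ⟨43, [2, 7, 8, 2, 7, 2, 7, 0, 14, 12, 12], []⟩],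
  .tm 2 [2, 6, 8, 4, 7, 4, 6, 12, 16, 10] [] [⟨68, [], []⟩],
  .tm 1 [] [] [⟨68, [], [55, 74]⟩, ⟨68, [13, 13, 7, 1, 7, 1, 9, 3, 5, 9, 7], []⟩],
  .tm 8 [] [] [⟨38, [2, 7, 8, 6, 2, 7, 2, 0, 12, 10, 18], [45, 49]⟩, ⟨44, [8, 6, 4, 8, 0, 7, 14, 13, 18], [141, 97]⟩, ⟨43, [7, 2, 7, 4, 2], []⟩, ⟨38, [8, 7, 2, 6, 8, 4, 6, 4, 0, 7, 12, 16, 10, 18], []⟩],
  .dfn,
  .dfn,
  .tm 2 [] [] [⟨73, [], []⟩],
  .tm 1 [] [] [⟨73, [], [55, 70]⟩, ⟨73, [15, 13, 17, 6, 1, 3, 6, 3, 7], []⟩],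
  .tm 1 [] [] [⟨73, [], [55, 63, 64, 62]⟩, ⟨73, [17, 13, 3, 7, 5, 7, 3, 1], []⟩],
  .dfn,
  .tm 2 [] [] [⟨77, [], []⟩],
  .tm 1 [] [] [⟨77, [], [83, 84]⟩, ⟨77, [19, 11, 13, 13, 3, 6, 1, 6, 9, 6, 3], []⟩],
  .tm 1 [] [] [⟨77, [], [83, 142]⟩, ⟨77, [12, 16, 1, 7, 3, 6, 3, 9, 3, 5, 9, 7], []⟩],
  .tm 9 [8, 6, 2, 6, 8, 2, 8, 2, 7, 2, 6, 10, 18] [] [⟨77, [8, 7, 2, 7, 8, 6, 0, 7, 17, 12, 12, 18], [83]⟩, ⟨38, [4, 7, 2, 6, 4], []⟩, ⟨43, [7, 2, 7, 0, 12, 17, 12, 12, 18], []⟩],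
  .tm 2 [8, 6, 2, 7, 0, 12, 14, 12, 18] [] [⟨81, [], []⟩],
  .tm 7 [7, 8, 4, 6, 8, 2, 6, 4, 0, 14, 12, 10, 18] [] [⟨77, [4, 2, 8, 6, 4, 0, 10, 13, 10, 18], [81, 83]⟩, ⟨38, [8, 2, 7, 0, 7], [34, 43]⟩, ⟨50, [6, 8, 6, 0, 2, 0, 7, 0, 13], []⟩],
  .tm 2 [8, 4, 6, 8, 6, 2, 0, 6, 12, 14, 12, 12, 18] [] [⟨83, [], []⟩],
  .tm 10 [] [] [⟨82, [2, 7, 8, 7, 2, 7, 4, 6, 17, 12], [96]⟩, ⟨81, [6, 8, 7, 2, 6, 8, 6, 4, 6, 2, 10, 18], [160]⟩, ⟨82, [6, 8, 7, 2, 6, 8, 2, 6, 0, 16, 18], [91, 97]⟩, ⟨81, [7, 2, 6, 8, 6, 2, 6, 2, 7, 2, 0, 17, 12], [161, 161, 159, 160]⟩, ⟨82, [7, 8, 4, 6, 8, 6, 2, 0, 7, 4, 0, 17, 12, 12], [141, 96]⟩, ⟨81, [4, 2, 8, 7, 4, 6, 2, 0, 12, 16, 18], [161, 159]⟩, ⟨82, [8, 7, 2, 6, 8, 4, 0, 7, 14, 13, 10], [91]⟩, ⟨43, [6, 2, 0, 6, 12, 16, 10], []⟩, ⟨39, [4, 2, 8, 2, 0, 7, 2, 7, 13, 14, 12, 10, 18], [143, 85]⟩, ⟨38,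 [7, 4, 2, 6], [46, 44, 35, 38]⟩, ⟨43, [6, 8, 0, 7, 2, 6, 4, 14, 12], []⟩],
  .tm 0 [] [] [⟨82, [], [170]⟩],
  .tm 0 [] [] [⟨84, [], [170]⟩],
  .tm 0 [4, 8, 6, 4, 8, 6, 2, 6, 2, 7, 2, 12, 18] [171] [⟨78, [], []⟩],
  .tm 1 [] [] [⟨88, [], []⟩, ⟨69, [], []⟩],
  .tm 0 [] [] [⟨38, [], [178]⟩],
  .tm 0 [6, 2, 6, 8, 2, 8, 0, 2, 0, 7, 0, 13, 16, 10, 18] [171] [⟨83, [], []⟩],
  .tm 0 [6, 8, 2, 8, 0, 7, 0, 16, 10, 18] [179] [⟨39, [], []⟩],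
  .tm 1 [] [] [⟨92, [], [72, 64, 62, 60]⟩, ⟨72, [8, 2, 7, 4, 6, 2, 14, 12], []⟩],
  .walk [187],
  .tm 0 [] [] [⟨72, [], [188]⟩],
  .tm 4 [] [] [⟨86, [2, 7, 8, 2, 7, 4, 6, 12, 14, 12, 18], [91, 141]⟩, ⟨43, [2, 8, 4, 0, 2], [42, 36]⟩, ⟨43, [8, 7, 2, 6, 8, 7, 2, 6, 4, 0, 12, 12], [140, 90]⟩, ⟨86, [8, 6, 4, 8, 7, 4, 6, 2, 0, 12, 14, 12, 12], []⟩],
  .tm 7 [8, 2, 7, 8, 7, 2, 0, 7, 0, 10, 12, 14, 18] [] [⟨86, [8, 6, 2, 6, 8, 2, 8, 7, 0, 2, 6, 4, 6, 14, 13], [141]⟩, ⟨68, [2, 8, 4, 0, 2], [74, 58, 62, 54]⟩, ⟨73, [8, 7, 2, 6, 8, 0, 2, 6, 2, 7, 13, 14, 12, 10], []⟩],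
  .tm 2 [4, 8, 6, 4, 8, 4, 2, 6, 17, 12] [] [⟨97, [], []⟩],
  .dfn,
  .tm 2 [] [] [⟨99, [], []⟩],
  .tm 1 [] [] [⟨99, [], [93, 192]⟩, ⟨99, [13, 13, 15, 13, 3, 5, 9, 7, 5, 9], []⟩],
  .tm 5 [] [] [⟨99, [6, 8, 4, 7, 4, 6, 2, 16, 18], [93, 95]⟩, ⟨43, [8, 4, 2, 6, 4], [38]⟩, ⟨43, [6, 2, 6, 8, 2, 8, 2, 6, 0, 7, 2, 17, 12, 12], [94, 92]⟩, ⟨99, [6, 4, 8, 7, 2, 6, 4, 16, 13], []⟩],
  .tm 11 [] [] [⟨99, [6, 4, 8, 2, 7, 0, 10, 12], [141, 97, 193]⟩, ⟨87, [7, 2, 8, 2, 6, 0, 7, 14, 12], [105, 113]⟩, ⟨91, [8, 7, 4, 0, 2], [192, 96, 140]⟩, ⟨99, [6, 4, 8, 4, 2, 16, 18], []⟩],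
  .dfn,
  .tm 2 [] [] [⟨104, [], []⟩],
  .tm 1 [] [] [⟨104, [], [91, 95, 98, 90]⟩, ⟨104, [16, 6, 1, 5, 6, 5], []⟩],
  .tm 1 [] [] [⟨104, [], [97, 192, 90]⟩, ⟨104, [19, 11, 13, 15, 12, 7, 1, 3, 7, 3, 6, 9, 6, 3, 9], []⟩],
  .tm 1 [] [] [⟨104, [], [96, 95, 92, 193]⟩, ⟨104, [13, 16, 13, 7, 1, 3, 7, 9, 5], []⟩],
  .tm 6 [8, 4, 2, 8, 7, 2, 7, 4, 6, 0, 16, 12, 12, 18] [] [⟨104, [7, 4, 2, 7], [140, 90]⟩, ⟨97, [6, 2, 6, 8, 2, 8, 0, 7, 2, 12, 14, 12], [152]⟩, ⟨98, [8, 4, 6, 8, 0, 2, 6, 4, 6, 2, 12, 12, 18], [140, 98]⟩, ⟨99, [6, 8, 6, 2, 6, 2, 7, 2, 0], [202, 204]⟩, ⟨100, [6, 8, 2, 8, 7, 2, 6, 4, 6, 17, 12, 10, 18], [98]⟩, ⟨99, [8, 6, 2, 6, 8, 2, 8, 7, 2, 7, 4, 12, 17], [203, 204]⟩, ⟨100, [4, 2, 8, 7, 2, 7, 2, 0, 14, 13, 18], [193, 92, 140]⟩, ⟨97, [2, 6, 8, 2, 8, 0, 17, 13], [150, 152]⟩, ⟨98, [8, 2, 7, 8, 7, 2, 6, 4, 12,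 18], [92, 140]⟩, ⟨104, [8, 7, 2, 7, 4, 0, 12, 14, 12, 12], []⟩],
  .tm 2 [7, 8, 2, 8, 7, 2, 6, 2, 6, 0] [] [⟨109, [], []⟩],
  .tm 1 [] [] [⟨110, [], [215]⟩, ⟨109, [4, 2, 8, 6, 2, 0, 7, 4, 18], []⟩],
  .tm 12 [] [] [⟨97, [8, 4, 2, 8, 6, 2, 7, 2, 0, 12, 14, 12, 12, 18], [141, 95]⟩, ⟨105, [6, 8, 7, 2, 6, 8, 6, 2, 10, 12, 14], [222]⟩, ⟨104, [7, 2, 8, 2, 0, 6, 0, 12, 14, 12, 12], [99]⟩, ⟨105, [7, 4, 8, 0, 2, 6, 0], [223, 213]⟩, ⟨104, [8, 4, 2, 8, 7, 2, 6, 2, 14, 12, 10, 18], []⟩, ⟨100, [8, 6, 2, 6, 8, 2, 8, 6, 4, 7, 4, 6, 17, 12, 18], [205, 207, 203]⟩, ⟨99, [8, 2, 7, 8, 2, 6, 4, 6, 2, 13], [99]⟩, ⟨105, [2, 7, 8, 4, 2, 0, 17, 12, 10], [222, 214]⟩, ⟨104, [2, 6, 2, 7], [90, 94]⟩, ⟨104, [4, 6, 8, 7, 0, 2, 6, 17, 12, 10, 18], [215, 222]⟩, ⟨105, [8, 2, 7, 2, 6, 0, 16], []⟩],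
  .tm 0 [] [] [⟨73, [], [224]⟩],
  .tm 0 [] [] [⟨97, [], [224]⟩],
  .tm 0 [7, 4, 8, 0, 2, 6, 4, 6, 2, 12, 14] [225] [⟨74, [], []⟩],
  .tm 1 [] [] [⟨115, [], []⟩, ⟨99, [], []⟩],
  .walk [233],
  .tm 0 [] [] [⟨99, [], [234]⟩],
  .dfn,
  .tm 2 [] [] [⟨119, [], []⟩],
  .tm 1 [] [] [⟨119, [], [95, 93, 96, 94]⟩, ⟨119, [11, 13, 11, 7, 3, 7, 5], []⟩],
  .tm 1 [] [] [⟨119, [], [193, 94, 192]⟩, ⟨119, [15, 13, 11, 5, 7, 3, 6, 5, 9, 3], []⟩],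
  .tm 1 [] [] [⟨119, [], [96, 99, 192, 94, 90]⟩, ⟨119, [13, 16, 13, 3, 7, 3, 9, 6, 3, 6, 9], []⟩],
  .tm 6 [8, 7, 2, 7, 8, 6, 2, 6, 2, 7, 0, 13, 14, 12, 10, 18] [] [⟨119, [2, 6, 4, 6], [193, 97, 94]⟩, ⟨91, [7, 8, 2, 8, 6, 4, 7, 2, 6, 0, 13, 14, 12], [108]⟩, ⟨87, [4, 6, 8, 7, 2, 7, 4, 0, 16, 10, 18], [94]⟩, ⟨91, [2, 7, 8, 4, 7, 2, 0, 6, 0, 12, 14, 18], []⟩, ⟨51, [7, 2, 6, 8, 4, 0, 7, 0, 12, 14, 12, 12], [46, 34, 32]⟩, ⟨50, [8, 6, 2, 6, 8, 2, 8, 7, 2, 6, 2, 6, 0, 16, 18], [104, 114]⟩, ⟨87, [8, 7, 2, 6, 8, 2, 7, 4, 0, 10, 12, 14], [140, 94]⟩, ⟨91, [6, 4, 8, 7, 2, 7, 0, 10, 13, 10], [104]⟩, ⟨87, [6, 4, 8, 6, 0, 12, 16, 10, 18], [98, 192, 96]⟩, ⟨119, [6, 8, 6, 2, 6, 0, 14, 13, 10], []⟩],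
  .tm 10 [] [] [⟨87, [6, 8, 7, 2, 7, 4, 6, 0, 13, 14, 12, 10, 18], [105]⟩, ⟨91, [6, 4, 8, 6, 2, 0, 7, 13, 18], [95]⟩, ⟨87, [7, 8, 2, 8, 7, 10, 12], [105]⟩, ⟨91, [8, 4, 6, 8, 6, 4, 7, 2, 6, 0, 12, 17], [99, 192, 96]⟩, ⟨120, [8, 7, 2, 6, 8, 7, 2, 6, 2, 12, 14, 18], []⟩, ⟨124, [4, 8, 7, 2, 6, 4, 6, 17, 13, 18], [243, 245]⟩, ⟨119, [6, 8, 4, 2, 8, 0, 2, 6, 4, 6, 2, 10, 18], [141, 97]⟩, ⟨120, [4, 2, 8, 2, 16, 12, 12], []⟩, ⟨124, [7, 8, 2, 8, 2, 7, 2, 6, 0, 12, 17, 12, 18], [246]⟩, ⟨119, [7, 4, 2, 7], [140, 97]⟩, ⟨119, [7, 8, 2, 8, 4, 6, 2, 7, 2, 0, 16, 12, 10], []⟩],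
  .walk [251],
  .tm 0 [] [] [⟨119, [], [252]⟩],
  .tm 4 [] [] [⟨91, [7, 8, 4, 6, 8, 4, 7, 4, 0, 18], []⟩, ⟨127, [6, 8, 0, 7], [192, 140, 90]⟩, ⟨104, [2, 6, 4, 6, 13, 16], [216]⟩, ⟨109, [4, 6, 8, 7, 2, 6, 2, 0, 17, 12, 18], []⟩],
  .walk [257],
  .walk [259, 212, 258],
  .tm 0 [] [] [⟨104, [], [258]⟩],
  .tm 0 [6, 4, 8, 2, 6, 2, 14, 18] [259] [⟨105, [], []⟩],
  .tm 0 [7, 2, 8, 2, 7, 2, 0, 6, 12, 14, 12, 12, 18] [259] [⟨109, [], [258]⟩]]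

theorem fc0 : checkL (nat_lit 9) (nat_lit 511) tH tK tK' BB FF TM XW d0 (nat_lit 0) = true := by decide +kernel

theorem cv0_1_0 : covB FF nets (nat_lit 1520) (nat_lit 11) (nat_lit 28) (nat_lit 512) (nat_lit 134) (nat_lit 0) (nat_lit 1) [0, 1, 2, 3, 4, 5, 6, 7, 8, 9, 10, 11, 12, 13] [[0], [2], [4], [6], [8], [10], [12], [14], [16], [18], [20], [22], [24], [26]]
    [14] [13, 11, 9, 7, 4, 3, 1, 4, 2, 3, 5, 1, 0, 5, 4, 3, 2, 3, 4, 4] k0_1 = true := by decide +kernel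

theorem rw0 : rowB (nat_lit 1520) (ivl (nat_lit 512) ((nat_lit 1520) - (nat_lit 512))) row0 [0, 1008, 0, 0, 0] 0 = true := by decide +kernel

theorem cv1_0_0 : covB FF nets (nat_lit 1520) (nat_lit 11) (nat_lit 28) (nat_lit 512) (nat_lit 134) (nat_lit 1) (nat_lit 0) [16, 17, 18, 19, 20, 21, 22, 23, 24] [[10, 4, 33, 31, 37, 39, 36], [16, 10, 12, 4, 31, 34, 37, 44], [0, 5, 0, 31, 32, 28, 37, 37, 44], [2, 10, 6, 4, 31, 28, 30, 44], [0, 5, 0, 34, 33, 28, 39, 36], [12, 6, 14, 5, 7, 4, 33, 30, 34, 36, 36, 44], [12, 10, 16, 7, 0, 5, 29, 30, 32, 40, 36, 36], [14, 12, 14, 9, 2, 1, 34, 32, 34, 42], [29, 32, 42, 39]]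
    [15] [] k1_0 = true := by decide +kernel

theorem cv1_2_0 : covB FF nets (nat_lit 1520) (nat_lit 11) (nat_lit 28) (nat_lit 512) (nat_lit 134) (nat_lit 1) (nat_lit 2) [16, 17, 18, 19, 20, 21, 22, 23, 24] [[10, 4, 33, 31, 37, 39, 36], [16, 10, 12, 4, 31, 34, 37, 44], [0, 5, 0, 31, 32, 28, 37, 37, 44], [2, 10, 6, 4, 31, 28, 30, 44], [0, 5, 0, 34, 33, 28, 39, 36], [12, 6, 14, 5, 7, 4, 33, 30, 34, 36, 36, 44], [12, 10, 16, 7, 0, 5, 29, 30, 32, 40, 36, 36], [14, 12, 14, 9, 2, 1, 34, 32, 34, 42], [29, 32, 42, 39]]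
    [25, 90] [0, 8, 7, 5, 1, 4, 8, 0, 5, 7, 8, 6, 7] k1_2 = true := by decide +kernel

theorem cv1_3_0 : covB FF nets (nat_lit 1520) (nat_lit 11) (nat_lit 28) (nat_lit 512) (nat_lit 134) (nat_lit 1) (nat_lit 4) [16, 17, 18, 19, 20, 21, 22, 23, 24] [[10, 4, 33, 31, 37, 39, 36], [16, 10, 12, 4, 31, 34, 37, 44], [0, 5, 0, 31, 32, 28, 37, 37, 44], [2, 10, 6, 4, 31, 28, 30, 44], [0, 5, 0, 34, 33, 28, 39, 36], [12, 6, 14, 5, 7, 4, 33, 30, 34, 36, 36, 44], [12, 10, 16, 7, 0, 5, 29, 30, 32, 40, 36, 36], [14, 12, 14, 9, 2, 1, 34, 32, 34, 42], [29, 32, 42, 39]]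
    [43] [8, 0, 8, 4, 8, 3, 6, 7, 5, 8, 7, 4, 8, 0] k1_3 = true := by decide +kernel

theorem cv1_4_0 : covB FF nets (nat_lit 1520) (nat_lit 11) (nat_lit 28) (nat_lit 512) (nat_lit 134) (nat_lit 1) (nat_lit 5) [16, 17, 18, 19, 20, 21, 22, 23, 24] [[10, 4, 33, 31, 37, 39, 36], [16, 10, 12, 4, 31, 34, 37, 44], [0, 5, 0, 31, 32, 28, 37, 37, 44], [2, 10, 6, 4, 31, 28, 30, 44], [0, 5, 0, 34, 33, 28, 39, 36], [12, 6, 14, 5, 7, 4, 33, 30, 34, 36, 36, 44], [12, 10, 16, 7, 0, 5, 29, 30, 32, 40, 36, 36], [14, 12, 14, 9, 2, 1, 34, 32, 34, 42], [29, 32, 42, 39]]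
    [50] [8, 0, 8, 4, 1, 7, 0, 8, 3, 5, 8, 1, 8, 4] k1_4 = true := by decide +kernel

theorem rw1 : rowB (nat_lit 1520) (ivl (nat_lit 512) ((nat_lit 1520) - (nat_lit 512))) row1 [1, 0, 135, 360, 512] 0 = true := by decide +kernel

theorem cv2_1_0 : covB FF nets (nat_lit 1520) (nat_lit 11) (nat_lit 28) (nat_lit 512) (nat_lit 134) (nat_lit 2) (nat_lit 1) [27, 28, 29, 30, 31, 32, 33, 34, 35, 36, 37] [[11, 5, 3], [12, 0, 4, 31, 32, 29, 39, 36, 44], [16, 10, 3, 6, 4, 33, 28, 38, 43, 44], [24, 0, 4, 31, 32, 29, 39, 36, 44], [9, 5, 31], [5, 1, 34, 28, 30], [44], [8, 4, 30], [0, 6, 2, 34, 33, 28, 42], [11, 24, 14, 1, 7, 5, 34, 33, 28, 42], [6, 9, 2, 1, 31, 29, 35, 36, 44]]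
    [26, 95] [6, 4, 0, 1, 8, 4, 0, 9, 4, 10, 6, 0] k2_1 = true := by decide +kernel

theorem cv2_2_0 : covB FF nets (nat_lit 1520) (nat_lit 11) (nat_lit 28) (nat_lit 512) (nat_lit 134) (nat_lit 2) (nat_lit 2) [27, 28, 29, 30, 31, 32, 33, 34, 35, 36, 37] [[11, 5, 3], [12, 0, 4, 31, 32, 29, 39, 36, 44], [16, 10, 3, 6, 4, 33, 28, 38, 43, 44], [24, 0, 4, 31, 32, 29, 39, 36, 44], [9, 5, 31], [5, 1, 34, 28, 30], [44], [8, 4, 30], [0, 6, 2, 34, 33, 28, 42], [11, 24, 14, 1, 7, 5, 34, 33, 28, 42], [6, 9, 2, 1, 31, 29, 35, 36, 44]]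
    [67] [7, 4, 0, 10, 6, 0, 6, 4, 10] k2_2 = true := by decide +kernel

theorem cv2_3_0 : covB FF nets (nat_lit 1520) (nat_lit 11) (nat_lit 28) (nat_lit 512) (nat_lit 134) (nat_lit 2) (nat_lit 4) [27, 28, 29, 30, 31, 32, 33, 34, 35, 36, 37] [[11, 5, 3], [12, 0, 4, 31, 32, 29, 39, 36, 44], [16, 10, 3, 6, 4, 33, 28, 38, 43, 44], [24, 0, 4, 31, 32, 29, 39, 36, 44], [9, 5, 31], [5, 1, 34, 28, 30], [44], [8, 4, 30], [0, 6, 2, 34, 33, 28, 42], [11, 24, 14, 1, 7, 5, 34, 33, 28, 42], [6, 9, 2, 1, 31, 29, 35, 36, 44]]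
    [113, 68] [6, 7, 6, 0, 6, 4, 1, 0, 7, 6, 4, 8, 10, 6, 1, 7, 0, 8] k2_3 = true := by decide +kernel

theorem rw2 : rowB (nat_lit 1520) (ivl (nat_lit 512) ((nat_lit 1520) - (nat_lit 512))) row2 [0, 108, 36, 864, 0] 0 = true := by decide +kernel

theorem cv3_1_0 : covB FF nets (nat_lit 1520) (nat_lit 11) (nat_lit 28) (nat_lit 512) (nat_lit 134) (nat_lit 4) (nat_lit 1) [45, 46, 47, 48, 49, 70, 96] [[24, 10, 12, 10, 5, 28, 35, 43, 38], [10, 7, 4, 32, 30, 43, 38, 44], [10, 16, 12, 10, 2, 1, 34, 28, 30], [24, 10, 12, 5, 7, 9, 33, 34, 28, 40, 44], [20, 3, 6, 8, 5, 28, 33, 37, 39, 36, 44], [9, 14, 0, 12, 11, 5, 3, 34, 29], [26, 0, 12, 2, 8, 29, 32, 35, 36, 36, 44]]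
    [44] [5, 6, 2, 3] k3_1 = true := by decide +kernel

theorem cv3_2_0 : covB FF nets (nat_lit 1520) (nat_lit 11) (nat_lit 28) (nat_lit 512) (nat_lit 134) (nat_lit 4) (nat_lit 2) [45, 46, 47, 48, 49, 70, 96] [[24, 10, 12, 10, 5, 28, 35, 43, 38], [10, 7, 4, 32, 30, 43, 38, 44], [10, 16, 12, 10, 2, 1, 34, 28, 30], [24, 10, 12, 5, 7, 9, 33, 34, 28, 40, 44], [20, 3, 6, 8, 5, 28, 33, 37, 39, 36, 44], [9, 14, 0, 12, 11, 5, 3, 34, 29], [26, 0, 12, 2, 8, 29, 32, 35, 36, 36, 44]]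
    [69, 118] [6, 1, 5, 4, 3, 2] k3_2 = true := by decide +kernel

theorem cv3_3_0 : covB FF nets (nat_lit 1520) (nat_lit 11) (nat_lit 28) (nat_lit 512) (nat_lit 134) (nat_lit 4) (nat_lit 4) [45, 46, 47, 48, 49, 70, 96] [[24, 10, 12, 10, 5, 28, 35, 43, 38], [10, 7, 4, 32, 30, 43, 38, 44], [10, 16, 12, 10, 2, 1, 34, 28, 30], [24, 10, 12, 5, 7, 9, 33, 34, 28, 40, 44], [20, 3, 6, 8, 5, 28, 33, 37, 39, 36, 44], [9, 14, 0, 12, 11, 5, 3, 34, 29], [26, 0, 12, 2, 8, 29, 32, 35, 36, 36, 44]]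
    [86, 127, 114] [5, 0, 6, 3, 2, 1, 5, 6, 4, 3, 6, 2] k3_3 = true := by decide +kernel

theorem cv3_4_0 : covB FF nets (nat_lit 1520) (nat_lit 11) (nat_lit 28) (nat_lit 512) (nat_lit 134) (nat_lit 4) (nat_lit 5) [45, 46, 47, 48, 49, 70, 96] [[24, 10, 12, 10, 5, 28, 35, 43, 38], [10, 7, 4, 32, 30, 43, 38, 44], [10, 16, 12, 10, 2, 1, 34, 28, 30], [24, 10, 12, 5, 7, 9, 33, 34, 28, 40, 44], [20, 3, 6, 8, 5, 28, 33, 37, 39, 36, 44], [9, 14, 0, 12, 11, 5, 3, 34, 29], [26, 0, 12, 2, 8, 29, 32, 35, 36, 36, 44]]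
    [91, 131] [1, 2, 0, 5, 1, 2, 6, 3, 2, 0, 5] k3_4 = true := by decide +kernel

theorem rw3 : rowB (nat_lit 1520) (ivl (nat_lit 512) ((nat_lit 1520) - (nat_lit 512))) row3 [0, 9, 27, 684, 288] 0 = true := by decide +kernel

theorem cv4_1_0 : covB FF nets (nat_lit 1520) (nat_lit 11) (nat_lit 28) (nat_lit 512) (nat_lit 134) (nat_lit 5) (nat_lit 1) [52, 53, 54, 55, 56, 57, 130] [[16, 5, 3], [11, 24, 10, 3, 1, 34, 34, 28, 43, 37], [10, 16, 12, 9, 5, 1, 32, 31, 39], [11, 24, 16, 11, 0, 4, 28, 32, 31, 40], [1, 7, 5, 34, 33, 28, 42], [6, 9, 7, 4, 35, 30], [0, 24, 11, 4, 7, 35, 31, 28, 37, 37]]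
    [51] [6, 0, 5, 0, 4, 6, 5, 4, 6] k4_1 = true := by decide +kernel

theorem cv4_3_0 : covB FF nets (nat_lit 1520) (nat_lit 11) (nat_lit 28) (nat_lit 512) (nat_lit 134) (nat_lit 5) (nat_lit 4) [52, 53, 54, 55, 56, 57, 130] [[16, 5, 3], [11, 24, 10, 3, 1, 34, 34, 28, 43, 37], [10, 16, 12, 9, 5, 1, 32, 31, 39], [11, 24, 16, 11, 0, 4, 28, 32, 31, 40], [1, 7, 5, 34, 33, 28, 42], [6, 9, 7, 4, 35, 30], [0, 24, 11, 4, 7, 35, 31, 28, 37, 37]]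
    [87, 132] [0, 4, 5, 0, 6, 0, 5, 0, 4, 5, 0, 6, 5, 0, 4, 1] k4_3 = true := by decide +kernel

theorem cv4_4_0 : covB FF nets (nat_lit 1520) (nat_lit 11) (nat_lit 28) (nat_lit 512) (nat_lit 134) (nat_lit 5) (nat_lit 5) [52, 53, 54, 55, 56, 57, 130] [[16, 5, 3], [11, 24, 10, 3, 1, 34, 34, 28, 43, 37], [10, 16, 12, 9, 5, 1, 32, 31, 39], [11, 24, 16, 11, 0, 4, 28, 32, 31, 40], [1, 7, 5, 34, 33, 28, 42], [6, 9, 7, 4, 35, 30], [0, 24, 11, 4, 7, 35, 31, 28, 37, 37]]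
    [133] [0, 5, 2, 0, 6, 0, 5, 0, 4, 1, 5, 0, 5] k4_4 = true := by decide +kernel

theorem rw4 : rowB (nat_lit 1520) (ivl (nat_lit 512) ((nat_lit 1520) - (nat_lit 512))) row4 [0, 36, 0, 810, 162] 0 = true := by decide +kernel

end Cfsg.Agent.Lib.Co2HD
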