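import Cfsg.Agent.Lib.DCE7
import Cfsg.Agent.Lib.Co2HDC0
import Cfsg.Agent.Lib.Co2HDE0

set_option autoImplicit false
set_option maxRecDepth 100000

namespace Cfsg.Agent.Lib.Co2HD
open Cfsg.Agent.Lib.PermNet Cfsg.Agent.Lib.DCE

open Cfsg.Agent.Lib.Words Cfsg.Agent.Lib.PermGroup

/-- Relators of the subgroup. -/
def K1 : List (List ℕ) := [[2, 0, 2, 0], [0, 0, 0], [2, 2, 2], [4, 4, 4], [6, 6, 6], [8, 8, 8], [10, 10, 10], [0, 3, 0, 2, 1, 2], [0, 2, 4, 3, 1, 4], [0, 4, 0, 5, 1, 3], [0, 6, 0, 7, 1, 7], [0, 7, 4, 6, 1, 5], [4, 8, 5, 9], [0, 7, 8, 6, 1, 8], [0, 9, 0, 8, 1, 8], [6, 10, 7, 11], [8, 10, 9, 11], [2, 4, 10, 5, 3, 10], [2, 10, 2, 11, 3, 5], [12, 12], [14, 14], [16, 16], [18, 18], [20, 20], [22, 22], [24, 24], [26, 26], [12, 14, 12, 14, 12, 14, 12, 14], [12, 16, 12, 16], [12, 18, 12, 18], [12, 20, 12, 20], [12, 22, 12, 22], [12, 24, 12, 24], [12,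 26, 12, 26], [14, 16, 14, 16], [14, 18, 14, 18], [14, 20, 14, 20], [14, 22, 14, 22], [14, 24, 14, 24], [14, 26, 14, 26], [16, 18, 16, 18, 12, 14, 12, 14], [16, 20, 16, 20], [16, 22, 16, 22], [16, 24, 16, 24], [16, 26, 16, 26], [18, 20, 18, 20], [18, 22, 18, 22], [18, 24, 18, 24], [18, 26, 18, 26], [20, 22, 20, 22, 12, 14, 12, 14], [20, 24, 20, 24], [20, 26, 20, 26], [22, 24, 22, 24], [22, 26, 22, 26], [24, 26, 24, 26, 12, 14, 12, 14], [0, 12, 1, 26, 16, 14, 12, 14, 12], [0, 14, 1, 18, 14, 14, 12, 14, 12], [0, 16, 1, 26, 22, 16, 12], [0, 18, 1, 14], [0, 20, 1, 24, 18], [0, 22, 1, 26, 22, 14, 12, 14, 12], [0, 24, 1, 24, 20, 18, 14], [0, 26, 1, 22], [2, 12, 3, 26, 20, 12, 14, 12, 14, 12], [2, 14, 3, 26, 22, 14, 12, 14, 12], [2, 16, 3, 26, 24, 22, 20, 14, 12, 14, 12], [2, 18, 3, 26, 18, 14, 12, 14, 12], [2, 20, 3, 18, 12, 14, 12, 14, 12], [2, 22, 3,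 26, 22, 18, 14, 14, 12, 14, 12], [2, 24, 3, 24, 20, 18, 16, 14, 12, 14, 12, 14, 12], [2, 26, 3, 18], [4, 12, 5, 26, 20, 14, 12, 14, 12], [4, 14, 5, 26, 22, 16, 14, 14, 12, 14, 12], [4, 16, 5, 26, 24, 22, 20, 16, 14, 12, 14, 12], [4, 18, 5, 20, 12], [4, 20, 5, 26, 18, 12], [4, 22, 5, 26, 24, 22, 18, 16, 14, 14, 12, 14, 12], [4, 24, 5, 24, 22, 20, 18, 14, 12], [4, 26, 5, 20, 18], [6, 12, 7, 26, 12], [6, 14, 7, 24, 20, 14, 12, 14, 12], [6, 16, 7, 26, 22, 14, 12, 14, 12], [6, 18, 7, 20, 18], [6, 20, 7, 18], [6, 22, 7, 26, 22, 16, 12], [6, 24, 7, 24, 20, 18, 14], [6, 26, 7, 12], [8, 12, 9, 26, 16, 12, 14, 12, 14, 12], [8, 14, 9, 20, 18], [8, 16, 9, 22, 16, 12], [8, 18, 9, 24, 14], [8, 20, 9, 24, 20, 18], [8, 22, 9, 26, 12], [8, 24, 9, 24, 20, 14], [8, 26, 9, 22, 16, 14, 12, 14, 12], [10, 12, 11, 20, 12], [10, 14, 11, 26, 22, 16, 14, 12, 14, 12], [10,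 16, 11, 24, 20, 16, 14, 12, 14, 12], [10, 18, 11, 26, 12], [10, 20, 11, 12], [10, 22, 11, 24, 22, 18, 14], [10, 24, 11, 16, 12, 14, 12, 14, 12], [10, 26, 11, 26, 20, 18]]

def I1 : List ℕ := []

/-- Further relations in the subgroup. -/
def X : List (List ℕ) := []

/-- Relators that involve the extra generator. -/
def RR : List (List ℕ) := [[10, 3, 6, 4, 28, 21, 17, 13, 29], [3, 9, 6, 1, 2, 28, 3, 0, 7, 8, 2, 29], [6, 9, 0, 6, 28, 3, 6, 3, 8, 2, 6, 9, 29], [0, 5, 1, 28, 0, 8, 2, 6, 5, 9, 10, 5, 1, 25, 29], [12, 28, 0, 6, 5, 0, 5, 6, 8, 2, 6, 5, 11, 3, 0, 6, 3, 8, 7, 10, 29], [28, 28], [28, 26, 5, 3, 28, 26, 5, 3, 28, 26, 5, 3, 28, 26, 5, 3, 0, 6, 5, 0, 5, 6, 8, 2, 6, 5, 11, 3, 0, 6, 3, 8, 7, 10, 13], [28, 26, 5, 3, 28, 3, 0, 6, 4, 11, 2, 7, 9, 1, 5, 28, 2, 4, 27, 28, 5, 1, 7, 1, 5, 8, 1, 4, 6, 11, 4, 1], [28, 14, 5, 3, 28, 14, 5, 3, 28, 14, 5, 3,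 28, 14, 5, 3, 28, 14, 5, 3, 28, 14, 5, 3, 28, 14, 5, 3, 28, 14, 5, 3, 28, 14, 5, 3, 28, 14, 5, 3, 28, 14, 5, 3]]

noncomputable def dat : Dat where
  N := (nat_lit 1520)
  K := (nat_lit 11)
  nS := (nat_lit 512)
  KS := (nat_lit 9)
  wb := (nat_lit 9)
  mask := (nat_lit 511)
  n0 := 14
  nl := (nat_lit 86)
  k0 := 23
  nK := (nat_lit 10)
  idT := idT
  T := 743178240
  TK := 737280
  nF := (nat_lit 134)
  n := 5
  s0 := 0
  tot := 56925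
  nets := nets
  th := th
  tk := tk
  tk' := tk'
  F := FF
  TM := TM
  XW := XW
  defs := defs
  R := RR
  cw := []
  rows := [row0, row1, row2, row3, row4]
  cs := [[0, 1008, 0, 0, 0], [1, 0, 135, 360, 512], [0, 108, 36, 864, 0], [0, 9, 27, 684, 288], [0, 36, 0, 810, 162]]
  u := []
  v := []
  live := [(nat_lit 0), (nat_lit 1), (nat_lit 2), (nat_lit 4), (nat_lit 5)]
  cols := [1, 2, 3, 4]
  sz := [1, 1008, 1260, 40320, 14336]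
  par := [0, 0, 1, 1, 1]
  chH := chH
  chK := chK
  tc := [[([], 10)],
  [([], 10)],
  [([], 10)],
  [([28, 26, 5, 3, 28, 26, 5, 3, 0, 6, 5, 0, 5, 6, 8, 2, 6, 5, 11, 3, 0, 6, 3, 8, 7, 10, 13], 13)],
  [([28, 2, 4, 27, 28, 5, 1, 7, 1, 5, 8, 1, 4, 6, 11, 4, 1], 15)],
  [([28, 5, 1, 7, 1, 5, 8, 1, 4, 6, 11, 4, 1], 15)],
  [([14, 5, 3], 17)],
  [([2, 4, 27, 28, 5, 1, 7, 1, 5, 8, 1, 4, 6, 11, 4, 1], 15)],
  [([28, 26, 5, 3, 0, 6, 5, 0, 5, 6, 8, 2, 6, 5, 11, 3, 0, 6, 3, 8, 7, 10, 13], 13)],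
  [([26, 5, 3, 28, 26, 5, 3, 0, 6, 5, 0, 5, 6, 8, 2, 6, 5, 11, 3, 0, 6, 3, 8, 7, 10, 13], 13)],
  [([], 17)],
  [([28, 5, 1, 7, 1, 5, 8, 1, 4, 6, 11, 4, 1], 15)],
  [([], 17)]]

theorem hrels : ∀ w ∈ relW rels, wval nets.perm w = 1 :=
  relW_one (wval_eq_of_relsOn (K := 11) hv (by norm_num) rels0_0)

theorem hK1 : ∀ w ∈ K1, wval nets.perm w = 1 := derive [] hrels _ (by decide +kernel)

theorem hX : ∀ w ∈ X, wval nets.perm w = 1 := derive [] hrels _ (by decide +kernel)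

theorem hB : dat.B = BB := by decide +kernel

theorem facts : AllR (fun c => ∃ e, checkF (nat_lit 9) (nat_lit 511) tH tK tK' BB FF TM XW c e = true) 0 (nat_lit 134) :=
  (allR_of_checkL d0 0 134 (by decide +kernel) fc0)

theorem tab : AllR (fun l => tabB nets (nat_lit 1520) (nat_lit 11) (nat_lit 512) (nat_lit 9) (nat_lit 9) (nat_lit 511) tH l = true)
    0 (nat_lit 86) :=
  (allR_of 0 86 86 (by decide) tab0)

theorem cov0 : AllIdx (fun j m => Cov nets FF (nat_lit 512) (nat_lit 134) (nat_lit 0) (getD 0 dat.live j) m) 0 row0 :=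
  ⟨cov_zero,
    (cov_of_covB hv _ (by decide +kernel) _ _ _ _ cv0_1_0),
    cov_zero,
    cov_zero,
    cov_zero, trivial⟩

theorem cov1 : AllIdx (fun j m => Cov nets FF (nat_lit 512) (nat_lit 134) (nat_lit 1) (getD 0 dat.live j) m) 0 row1 :=
  ⟨(cov_of_covB hv _ (by decide +kernel) _ _ _ _ cv1_0_0),
    cov_zero,
    (cov_of_covB hv _ (by decide +kernel) _ _ _ _ cv1_2_0),
    (cov_of_covB hv _ (by decide +kernel) _ _ _ _ cv1_3_0),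
    (cov_of_covB hv _ (by decide +kernel) _ _ _ _ cv1_4_0), trivial⟩

theorem cov2 : AllIdx (fun j m => Cov nets FF (nat_lit 512) (nat_lit 134) (nat_lit 2) (getD 0 dat.live j) m) 0 row2 :=
  ⟨cov_zero,
    (cov_of_covB hv _ (by decide +kernel) _ _ _ _ cv2_1_0),
    (cov_of_covB hv _ (by decide +kernel) _ _ _ _ cv2_2_0),
    (cov_of_covB hv _ (by decide +kernel) _ _ _ _ cv2_3_0),
    cov_zero, trivial⟩

theorem cov3 : AllIdx (fun j m => Cov nets FF (nat_lit 512) (nat_lit 134) (nat_lit 4) (getD 0 dat.live j) m) 0 row3 :=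
  ⟨cov_zero,
    (cov_of_covB hv _ (by decide +kernel) _ _ _ _ cv3_1_0),
    (cov_of_covB hv _ (by decide +kernel) _ _ _ _ cv3_2_0),
    (cov_of_covB hv _ (by decide +kernel) _ _ _ _ cv3_3_0),
    (cov_of_covB hv _ (by decide +kernel) _ _ _ _ cv3_4_0), trivial⟩

theorem cov4 : AllIdx (fun j m => Cov nets FF (nat_lit 512) (nat_lit 134) (nat_lit 5) (getD 0 dat.live j) m) 0 row4 :=
  ⟨cov_zero,
    (cov_of_covB hv _ (by decide +kernel) _ _ _ _ cv4_1_0),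
    cov_zero,
    (cov_of_covB hv _ (by decide +kernel) _ _ _ _ cv4_3_0),
    (cov_of_covB hv _ (by decide +kernel) _ _ _ _ cv4_4_0), trivial⟩

theorem ok : dat.OKI :=
  ⟨hv, by decide +kernel, derive [] hrels _ (by decide +kernel), tab, cH, cK, hB ▸ facts,
    ⟨rw0, rw1, rw2, rw3, rw4, trivial⟩,
    ⟨cov0, cov1, cov2, cov3, cov4, trivial⟩⟩

end Cfsg.Agent.Lib.Co2HD
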