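import Cfsg.Agent.Lib.DCEDefs

set_option autoImplicit false
set_option maxRecDepth 100000

namespace Cfsg.Agent.Lib.Co2HD
open Cfsg.Agent.Lib.PermNet Cfsg.Agent.Lib.DCE

noncomputable def f0 : FT := (.node (nat_lit 16) (.node (nat_lit 8) (.node (nat_lit 4) (.node (nat_lit 2) (.node (nat_lit 1) (.leaf ⟨0, 0, false, [0], []⟩)
  (.leaf ⟨0, 0, false, [2], []⟩))
  (.node (nat_lit 3) (.leaf ⟨0, 0, false, [4], []⟩)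
  (.leaf ⟨0, 0, false, [6], []⟩)))
  (.node (nat_lit 6) (.node (nat_lit 5) (.leaf ⟨0, 0, false, [8], []⟩)
  (.leaf ⟨0, 0, false, [10], []⟩))
  (.node (nat_lit 7) (.leaf ⟨0, 0, false, [12], []⟩)
  (.leaf ⟨0, 0, false, [14], []⟩))))
  (.node (nat_lit 12) (.node (nat_lit 10) (.node (nat_lit 9) (.leaf ⟨0, 0, false, [16], []⟩)
  (.leaf ⟨0, 0, false, [18], []⟩))
  (.node (nat_lit 11) (.leaf ⟨0, 0, false, [20], []⟩)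
  (.leaf ⟨0, 0, false, [22], []⟩)))
  (.node (nat_lit 14) (.node (nat_lit 13) (.leaf ⟨0, 0, false, [24], []⟩)
  (.leaf ⟨0, 0, false, [26], []⟩))
  (.node (nat_lit 15) (.leaf ⟨0, 1, true, [], []⟩)
  (.leaf ⟨1, 0, true, [], []⟩)))))
  (.node (nat_lit 24) (.node (nat_lit 20) (.node (nat_lit 18) (.node (nat_lit 17) (.leaf ⟨1, 1, false, [10, 4, 33, 31, 37, 39, 36], []⟩)
  (.leaf ⟨1, 1, false, [16, 10, 12, 4, 31, 34, 37, 44], []⟩))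
  (.node (nat_lit 19) (.leaf ⟨1, 1, false, [0, 5, 0, 31, 32, 28, 37, 37, 44], []⟩)
  (.leaf ⟨1, 1, false, [2, 10, 6, 4, 31, 28, 30, 44], []⟩)))
  (.node (nat_lit 22) (.node (nat_lit 21) (.leaf ⟨1, 1, false, [0, 5, 0, 34, 33, 28, 39, 36], []⟩)
  (.leaf ⟨1, 1, false, [12, 6, 14, 5, 7, 4, 33, 30, 34, 36, 36, 44], []⟩))
  (.node (nat_lit 23) (.leaf ⟨1, 1, false, [12, 10, 16, 7, 0, 5, 29, 30, 32, 40, 36, 36], []⟩)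
  (.leaf ⟨1, 1, false, [14, 12, 14, 9, 2, 1, 34, 32, 34, 42], []⟩))))
  (.node (nat_lit 28) (.node (nat_lit 26) (.node (nat_lit 25) (.leaf ⟨1, 1, false, [29, 32, 42, 39], []⟩)
  (.leaf ⟨1, 2, true, [14], []⟩))
  (.node (nat_lit 27) (.leaf ⟨2, 1, true, [], [14]⟩)
  (.leaf ⟨2, 2, false, [11, 5, 3], []⟩)))
  (.node (nat_lit 30) (.node (nat_lit 29) (.leaf ⟨2, 2, false, [12, 0, 4, 31, 32, 29, 39, 36, 44], []⟩)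
  (.leaf ⟨2, 2, false, [16, 10, 3, 6, 4, 33, 28, 38, 43, 44], []⟩))
  (.node (nat_lit 31) (.leaf ⟨2, 2, false, [24, 0, 4, 31, 32, 29, 39, 36, 44], []⟩)
  (.leaf ⟨2, 2, false, [9, 5, 31], []⟩))))))

noncomputable def f32 : FT := (.node (nat_lit 48) (.node (nat_lit 40) (.node (nat_lit 36) (.node (nat_lit 34) (.node (nat_lit 33) (.leaf ⟨2, 2, false, [5, 1, 34, 28, 30], []⟩)
  (.leaf ⟨2, 2, false, [44], []⟩))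
  (.node (nat_lit 35) (.leaf ⟨2, 2, false, [8, 4, 30], []⟩)
  (.leaf ⟨2, 2, false, [0, 6, 2, 34, 33, 28, 42], []⟩)))
  (.node (nat_lit 38) (.node (nat_lit 37) (.leaf ⟨2, 2, false, [11, 24, 14, 1, 7, 5, 34, 33, 28, 42], []⟩)
  (.leaf ⟨2, 2, false, [6, 9, 2, 1, 31, 29, 35, 36, 44], []⟩))
  (.node (nat_lit 39) (.leaf ⟨1, 3, true, [2, 0], []⟩)
  (.leaf ⟨3, 1, true, [], [2, 0]⟩))))
  (.node (nat_lit 44) (.node (nat_lit 42) (.node (nat_lit 41) (.leaf ⟨3, 3, false, [1, 7, 5, 35, 30, 32, 43, 38, 44], []⟩)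
  (.leaf ⟨3, 3, false, [24, 10, 12, 10, 5, 28, 35, 43, 38], []⟩))
  (.node (nat_lit 43) (.leaf ⟨3, 3, false, [7, 0, 5, 31, 34], []⟩)
  (.leaf ⟨1, 4, true, [14, 2, 0], []⟩)))
  (.node (nat_lit 46) (.node (nat_lit 45) (.leaf ⟨4, 1, true, [], [2, 0, 14]⟩)
  (.leaf ⟨4, 4, false, [24, 10, 12, 10, 5, 28, 35, 43, 38], []⟩))
  (.node (nat_lit 47) (.leaf ⟨4, 4, false, [10, 7, 4, 32, 30, 43, 38, 44], []⟩)
  (.leaf ⟨4, 4, false, [10, 16, 12, 10, 2, 1, 34, 28, 30], []⟩)))))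
  (.node (nat_lit 56) (.node (nat_lit 52) (.node (nat_lit 50) (.node (nat_lit 49) (.leaf ⟨4, 4, false, [24, 10, 12, 5, 7, 9, 33, 34, 28, 40, 44], []⟩)
  (.leaf ⟨4, 4, false, [20, 3, 6, 8, 5, 28, 33, 37, 39, 36, 44], []⟩))
  (.node (nat_lit 51) (.leaf ⟨1, 5, true, [0], []⟩)
  (.leaf ⟨5, 1, true, [], [1]⟩)))
  (.node (nat_lit 54) (.node (nat_lit 53) (.leaf ⟨5, 5, false, [16, 5, 3], []⟩)
  (.leaf ⟨5, 5, false, [11, 24, 10, 3, 1, 34, 34, 28, 43, 37], []⟩))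
  (.node (nat_lit 55) (.leaf ⟨5, 5, false, [10, 16, 12, 9, 5, 1, 32, 31, 39], []⟩)
  (.leaf ⟨5, 5, false, [11, 24, 16, 11, 0, 4, 28, 32, 31, 40], []⟩))))
  (.node (nat_lit 60) (.node (nat_lit 58) (.node (nat_lit 57) (.leaf ⟨5, 5, false, [1, 7, 5, 34, 33, 28, 42], []⟩)
  (.leaf ⟨5, 5, false, [6, 9, 7, 4, 35, 30], []⟩))
  (.node (nat_lit 59) (.leaf ⟨2, 6, true, [14], []⟩)
  (.leaf ⟨6, 2, true, [], [14]⟩)))
  (.node (nat_lit 62) (.node (nat_lit 61) (.leaf ⟨6, 6, false, [26, 0, 12, 8, 2, 5, 31, 34, 29], []⟩)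
  (.leaf ⟨6, 6, false, [26, 0, 12, 3, 9, 4, 31, 33, 31, 36], []⟩))
  (.node (nat_lit 63) (.leaf ⟨6, 6, false, [20, 16, 3, 6, 8, 5, 33, 34, 40, 39], []⟩)
  (.leaf ⟨6, 6, true, [10, 22], [20, 2, 22, 9, 2, 0, 32, 38, 36, 36, 44]⟩))))))

noncomputable def f64 : FT := (.node (nat_lit 80) (.node (nat_lit 72) (.node (nat_lit 68) (.node (nat_lit 66) (.node (nat_lit 65) (.leaf ⟨6, 6, true, [22, 18], [18, 10, 12, 8, 4, 7, 29, 32, 35, 40, 36]⟩)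
  (.leaf ⟨6, 6, false, [14, 0, 12, 1, 4, 2, 34, 32, 29, 37, 39, 44], []⟩))
  (.node (nat_lit 67) (.leaf ⟨6, 2, false, [16, 18, 14, 12, 6, 5, 0, 35, 30, 39, 44], []⟩)
  (.leaf ⟨2, 2, true, [14], [16, 18, 14, 12, 6, 5, 0, 35, 30, 39, 44]⟩)))
  (.node (nat_lit 70) (.node (nat_lit 69) (.leaf ⟨2, 4, true, [6, 9, 4, 12, 7, 2, 0], [2, 0, 16, 11, 5, 33, 34, 28, 42, 39]⟩)
  (.leaf ⟨4, 2, true, [26, 14], [14, 11, 18, 6, 29, 33, 39, 36]⟩))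
  (.node (nat_lit 71) (.leaf ⟨4, 4, false, [9, 14, 0, 12, 11, 5, 3, 34, 29], []⟩)
  (.leaf ⟨3, 3, false, [1, 2, 16, 9, 31, 29, 35, 40, 36], []⟩))))
  (.node (nat_lit 76) (.node (nat_lit 74) (.node (nat_lit 73) (.leaf ⟨2, 7, true, [6, 2], []⟩)
  (.leaf ⟨2, 8, true, [0], []⟩))
  (.node (nat_lit 75) (.leaf ⟨8, 2, true, [], [1]⟩)
  (.leaf ⟨8, 8, false, [26, 0, 12, 6, 8, 5, 31, 33, 30, 40], []⟩)))
  (.node (nat_lit 78) (.node (nat_lit 77) (.leaf ⟨8, 8, false, [20, 10, 16, 2, 8, 7, 33, 30, 28, 37, 44], []⟩)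
  (.leaf ⟨3, 9, true, [14], []⟩))
  (.node (nat_lit 79) (.leaf ⟨9, 3, true, [], [14]⟩)
  (.leaf ⟨9, 9, false, [10, 24, 12, 10, 2, 5, 34, 32, 40, 36, 36, 44], []⟩)))))
  (.node (nat_lit 88) (.node (nat_lit 84) (.node (nat_lit 82) (.node (nat_lit 81) (.leaf ⟨9, 9, false, [10, 24, 12, 5, 2, 0, 32, 31, 43, 39], []⟩)
  (.leaf ⟨9, 4, true, [22, 18], [12, 14, 6, 0, 5, 1, 34, 29, 30, 36, 36, 44]⟩))
  (.node (nat_lit 83) (.leaf ⟨4, 9, true, [18, 14], [2, 0, 14, 11, 7, 4, 35, 32, 38, 43, 44]⟩)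
  (.leaf ⟨9, 5, true, [20, 10, 4, 7, 8, 3], [26, 18, 16, 2, 8, 7, 32, 28, 39, 44]⟩)))
  (.node (nat_lit 86) (.node (nat_lit 85) (.leaf ⟨5, 9, true, [18], [5, 20, 16, 1, 34, 34, 32, 42, 36]⟩)
  (.leaf ⟨9, 4, false, [5, 22, 14, 8, 7, 5, 33, 28, 35, 42, 36, 44], []⟩))
  (.node (nat_lit 87) (.leaf ⟨4, 4, true, [18, 14], [22, 10, 35, 30, 38, 36, 36]⟩)
  (.leaf ⟨5, 4, true, [18], [22, 12, 6, 9, 2, 0, 29, 32, 35, 40, 36]⟩))))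
  (.node (nat_lit 92) (.node (nat_lit 90) (.node (nat_lit 89) (.leaf ⟨4, 3, true, [26, 14], [5, 14, 12, 6, 9, 4, 34, 28, 39, 44]⟩)
  (.leaf ⟨3, 2, false, [5, 7, 24, 12, 4, 7, 9, 31, 34, 43, 39], []⟩))
  (.node (nat_lit 91) (.leaf ⟨1, 2, true, [2, 0], [5, 7, 24, 12, 4, 7, 9, 31, 34, 43, 39]⟩)
  (.leaf ⟨4, 5, true, [6, 16, 10, 9, 4, 7, 2, 0], [26, 16, 14, 6, 0, 34, 34, 29, 37, 39, 36]⟩)))
  (.node (nat_lit 94) (.node (nat_lit 93) (.leaf ⟨2, 1, true, [6, 9, 4, 16, 7, 2, 0], [16, 2, 32, 30, 28, 37, 37]⟩)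
  (.leaf ⟨1, 7, false, [14, 3, 12, 6, 5, 34, 33, 28, 42, 36, 44], []⟩))
  (.node (nat_lit 95) (.leaf ⟨7, 1, false, [24, 10, 2, 0, 32, 29, 37], []⟩)
  (.leaf ⟨2, 1, true, [6, 2], [24, 10, 2, 0, 32, 29, 37]⟩))))))

noncomputable def f96 : FT := (.node (nat_lit 112) (.node (nat_lit 104) (.node (nat_lit 100) (.node (nat_lit 98) (.node (nat_lit 97) (.leaf ⟨4, 4, false, [26, 0, 12, 2, 8, 29, 32, 35, 36, 36, 44], []⟩)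
  (.leaf ⟨4, 8, true, [12, 11, 4, 2], [10, 1, 12, 6, 8, 31, 28, 38, 36, 36, 44]⟩))
  (.node (nat_lit 99) (.leaf ⟨8, 4, true, [11, 14], [6, 5, 0, 12, 4, 0, 33, 31, 29, 38]⟩)
  (.leaf ⟨4, 10, true, [2, 0], []⟩)))
  (.node (nat_lit 102) (.node (nat_lit 101) (.leaf ⟨10, 4, true, [], [2, 0]⟩)
  (.leaf ⟨10, 10, false, [26, 2, 12, 9, 30, 33, 31, 29, 42, 36], []⟩))
  (.node (nat_lit 103) (.leaf ⟨10, 10, false, [2, 0, 16, 2, 1, 7, 30, 34, 29, 43], []⟩)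
  (.leaf ⟨10, 10, false, [24, 8, 16, 9], []⟩))))
  (.node (nat_lit 108) (.node (nat_lit 106) (.node (nat_lit 105) (.leaf ⟨4, 11, true, [14, 2, 0], []⟩)
  (.leaf ⟨11, 4, true, [], [2, 0, 14]⟩))
  (.node (nat_lit 107) (.leaf ⟨11, 11, false, [24, 10, 12, 7, 0, 5, 31, 34, 29, 39, 37, 44], []⟩)
  (.leaf ⟨11, 11, false, [24, 6, 9, 2, 0, 29, 33, 29, 36, 44], []⟩)))
  (.node (nat_lit 110) (.node (nat_lit 109) (.leaf ⟨11, 11, false, [10, 12, 6, 9, 2, 1, 34, 33, 28, 40, 36], []⟩)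
  (.leaf ⟨11, 11, true, [10, 14], [5, 0, 12, 3, 6, 0, 34, 34, 28, 38, 36, 36, 44]⟩))
  (.node (nat_lit 111) (.leaf ⟨11, 11, true, [11, 18], [26, 5, 2, 8, 35, 35, 30, 40, 39]⟩)
  (.leaf ⟨11, 11, false, [18, 1, 2, 12, 10, 5, 6, 1, 30, 34, 43, 37, 44], []⟩)))))
  (.node (nat_lit 120) (.node (nat_lit 116) (.node (nat_lit 114) (.node (nat_lit 113) (.leaf ⟨8, 4, false, [24, 10, 12, 8, 1, 31, 33, 37], []⟩)
  (.leaf ⟨2, 4, true, [0], [24, 10, 12, 8, 1, 31, 33, 37]⟩))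
  (.node (nat_lit 115) (.leaf ⟨4, 4, true, [12, 11, 4, 2], [24, 26, 18, 2, 11, 35, 31, 29, 43, 37]⟩)
  (.leaf ⟨4, 2, true, [2, 0], [24, 12, 5, 1, 30, 34, 29, 39, 44]⟩)))
  (.node (nat_lit 118) (.node (nat_lit 117) (.leaf ⟨2, 10, false, [0, 16, 9, 2, 0, 34, 29, 30, 38, 43, 44], []⟩)
  (.leaf ⟨10, 2, false, [24, 12, 5, 1, 30, 34, 29, 39, 44], []⟩))
  (.node (nat_lit 119) (.leaf ⟨4, 2, true, [2, 0], [24, 12, 5, 1, 30, 34, 29, 39, 44]⟩)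
  (.leaf ⟨4, 12, true, [6], []⟩))))
  (.node (nat_lit 124) (.node (nat_lit 122) (.node (nat_lit 121) (.leaf ⟨12, 4, true, [], [7]⟩)
  (.leaf ⟨12, 12, false, [20, 16, 11, 8, 32, 28, 43, 37, 44], []⟩))
  (.node (nat_lit 123) (.leaf ⟨12, 12, false, [7, 8, 5, 29, 30, 32, 40, 36, 36], []⟩)
  (.leaf ⟨12, 12, false, [20, 16, 4, 3, 29, 32, 38, 44], []⟩)))
  (.node (nat_lit 126) (.node (nat_lit 125) (.leaf ⟨12, 12, true, [22], [4, 22, 18, 5, 1, 34, 34, 32, 38, 36, 36]⟩)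
  (.leaf ⟨4, 12, false, [10, 24, 12, 6, 3, 8, 34, 34, 43, 36], []⟩))
  (.node (nat_lit 127) (.leaf ⟨12, 4, false, [8, 24, 12, 11, 1, 2, 7, 30, 34, 29, 38, 36, 36, 44], []⟩)
  (.leaf ⟨4, 4, true, [6], [8, 24, 12, 11, 1, 2, 7, 30, 34, 29, 38, 36, 36, 44]⟩))))))

noncomputable def f128 : FT := (.node (nat_lit 131) (.node (nat_lit 129) (.leaf ⟨5, 11, false, [18, 10, 12, 7, 2, 8, 29, 31, 44], []⟩)
  (.node (nat_lit 130) (.leaf ⟨11, 5, false, [24, 16, 14, 6, 0, 34, 29, 44], []⟩)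
  (.leaf ⟨5, 5, false, [0, 24, 11, 4, 7, 35, 31, 28, 37, 37], []⟩)))
  (.node (nat_lit 132) (.leaf ⟨4, 5, true, [14, 2, 0], [24, 16, 14, 6, 0, 34, 29, 44]⟩)
  (.node (nat_lit 133) (.leaf ⟨5, 4, true, [6, 18, 9, 4, 7, 2, 0], [2, 24, 22, 4, 3, 33, 34, 32, 37, 37]⟩)
  (.leaf ⟨5, 5, true, [6, 9, 4, 16, 7, 2, 0], [20, 4, 14, 8, 1, 31, 28, 39, 37, 44]⟩))))



end Cfsg.Agent.Lib.Co2HD
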