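import Cfsg.Agent.Lib.Co2SB
import Cfsg.Agent.Lib.Co2LC0
import Cfsg.Agent.Lib.Co2LC1
import Cfsg.Agent.Lib.Co2LC2
import Cfsg.Agent.Lib.Co2LC3
import Cfsg.Agent.Lib.Co2LC4
import Cfsg.Agent.Lib.Co2LC5

/-! The model on `2300` points. -/

set_option autoImplicit false
set_option maxRecDepth 100000

namespace Cfsg.Agent.Lib.Co2Fin

open Cfsg.Agent.Lib.PermNet Cfsg.Agent.Lib.Words Cfsg.Agent.Lib.PermGroup Cfsg.Agent.Lib.DCE Cfsg.Agent.Lib.PermModel Cfsg.Agent.Lib.BT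

theorem lok : TabsOK (nat_lit 2300) (nat_lit 12) (nat_lit 4095) (nat_lit 53) lth lid := ⟨lok_id, ((((allR_of 0 14 14 (by decide) lok_0).trans (allR_of 14 14 28 (by decide) lok_14)).trans (allR_of 28 14 42 (by decide) lok_28)).trans (allR_of 42 11 53 (by decide) lok_42))⟩

theorem lTM : TM 15 (nat_lit 2300) (nat_lit 12) (nat_lit 4095) (nat_lit 53) lid 42305421312000 lth ldefs lch :=
  ⟨lok, (all_append (lok.relsA _ ld0) (all_append (lok.relsA _ ld1) (all_append (lok.relsA _ ld2) (all_append (lok.relsA _ ld3) (all_append (lok.relsA _ ld4) (all_append (lok.relsA _ ld5) (all_append (lok.relsA _ ld6) (lok.relsA _ ld7)))))))), lc, by decide +kernel⟩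

theorem lrel : ∀ w ∈ Co2TC.KH ++ Co2HD.RR, wval (tp (nat_lit 2300) (nat_lit 12) (nat_lit 4095) ltt) w = 1 := by
  rw [show Co2TC.KH ++ Co2HD.RR = lrL0 ++ (lrL1 ++ (lrL2 ++ (lrL3 ++ (lrL4 ++ (lrL5 ++ (lrL6 ++ (lrL7 ++ (lrL8 ++ (lrL9 ++ (lrL10 ++ (lrL11 ++ (lrL12 ++ (lrL13 ++ (lrL14 ++ (lrL15 ++ (lrL16 ++ (lrL17 ++ (lrL18 ++ (lrL19))))))))))))))))))) by decide +kernel]
  exact (all_append (lok.relsA _ lr0) (all_append (lok.relsA _ lr1) (all_append (lok.relsA _ lr2) (all_append (lok.relsA _ lr3) (all_append (lok.relsA _ lr4) (all_append (lok.relsA _ lr5) (all_append (lok.relsA _ lr6) (all_append (lok.relsA _ lr7) (all_append (lok.relsA _ lr8) (all_append (lok.relsA _ lr9) (all_append (lok.relsA _ lr10) (all_append (lok.relsA _ lr11) (all_append (lok.relsA _ lr12) (all_append (lok.relsA _ lr13) (all_append (lok.relsA _ lr14) (all_append (lok.relsA _ lr15) (all_append (lok.relsA _ lr16) (all_append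 (lok.relsA _ lr17) (all_append (lok.relsA _ lr18) (lok.relsA _ lr19))))))))))))))))))))

def Tk : List (List ℕ) := [[], [70], [71], [72], [81], [82], [83], [84], [85], [87], [70, 70], [83, 71], [84, 71], [86, 71], [82, 82]]

def Uk : List (List ℕ) := [[28], [52, 28], [14, 66], [3, 68], [71, 28], [84, 26, 28], [90, 70], [84, 22, 28], [76, 70], [22, 73, 28], [68, 28], [62, 45], [82, 28], [62, 38], [83, 26, 28], [71, 38], [83, 22, 28], [88, 28], [72, 38], [22, 28], [73, 28], [86, 28], [76, 85], [18, 71, 28], [38], [70, 44, 28], [80, 28], [58, 56, 28], [40, 68, 28], [70, 22, 28], [72, 22, 28], [77, 90], [66, 38], [26, 28], [71, 73, 38], [90, 76], [68, 38], [44, 28], [86, 38], [85, 38], [83, 28], [46, 74, 28], [2, 68], [10, 45], [0, 84], [102, 28], [28, 84], [83, 52, 28], [28, 82], [102, 38], [73, 38], [22, 66, 28], [22, 38], [40, 83, 28], [28, 49], [66, 28], [6, 70], [28, 66], [82, 52, 28],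 [38, 49], [28, 68], [28, 70], [70, 102, 28], [82, 66, 28], [81, 38], [10, 14, 28], [104, 28], [84, 28], [84, 38], [104, 38]]

def nT : List (ℕ × List ℕ) := [(35, [1, 10, 0, 6, 9, 12, 8, 4, 13, 11, 2, 7, 5, 3, 14]),
  (36, [3, 8, 0, 11, 2, 5, 7, 1, 10, 14, 9, 12, 13, 4, 6]),
  (40, [2, 1, 4, 11, 0, 3, 9, 14, 7, 10, 6, 5, 12, 13, 8]),
  (41, [5, 1, 6, 9, 8, 14, 0, 10, 12, 13, 7, 2, 4, 3, 11]),
  (42, [7, 1, 12, 9, 8, 13, 6, 4, 0, 11, 3, 10, 2, 5, 14]),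
  (43, [7, 1, 13, 9, 8, 12, 6, 3, 11, 0, 4, 10, 5, 2, 14]),
  (44, [0, 1, 12, 3, 4, 13, 6, 8, 7, 10, 9, 11, 2, 5, 14])]

def nU : List (ℕ × List ℕ) := [(35, [1, 2, 4, 6, 0, 9, 11, 13, 10, 5, 16, 18, 20, 21, 15, 24, 26, 27, 3, 29, 31, 32, 33, 35, 36, 37, 8, 40, 42, 44, 46, 47, 7, 49, 50, 52, 14, 25, 54, 43, 57, 53, 59, 34, 60, 62, 63, 12, 30, 56, 39, 28, 66, 41, 55, 64, 22, 17, 67, 51, 19, 65, 45, 48, 38, 68, 23, 58, 69, 61]),
  (36, [1, 3, 5, 7, 8, 10, 12, 14, 11, 15, 17, 19, 4, 22, 23, 25, 2, 28, 26, 30, 0, 33, 34, 20, 18, 38, 39, 41, 43, 45, 6, 46, 48, 49, 51, 27, 53, 31, 55, 56, 54, 58, 47, 16, 61, 32, 52, 40, 64, 42, 24, 65, 44, 9, 21, 36, 67, 62, 57, 13, 29, 68, 66, 59, 69, 63, 35, 50, 37, 60]),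
  (40, [26, 0, 25, 68, 59, 14, 34, 27, 4, 31, 58, 13, 63, 30, 41, 42, 46, 45, 20, 19, 69, 44, 6, 23, 37, 60, 1, 35, 21, 15, 11, 50, 10, 43, 22, 7, 55, 64, 16, 48, 53, 5, 29, 49, 28, 52, 38, 36, 66, 33, 9, 12, 17, 67, 54, 47, 62, 3, 32, 8, 2, 56, 61, 51, 24, 65, 39, 40, 57, 18]),
  (41, [12, 58, 25, 27, 4, 17, 56, 49, 54, 3, 39, 40, 37, 45, 33, 51, 19, 21, 7, 44, 5, 67, 22, 61, 20, 59, 38, 18, 47, 64, 50, 32, 31, 13, 23, 30, 28, 57, 41, 65, 0, 46, 36, 66, 35, 15, 29, 1, 68, 9, 16, 14, 43, 48, 60, 63, 62, 11, 42, 2, 8, 34, 6, 10, 26, 69, 53, 24, 52, 55]),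
  (42, [67, 40, 4, 63, 60, 49, 6, 19, 2, 9, 35, 42, 43, 26, 33, 20, 17, 29, 53, 7, 38, 66, 61, 62, 68, 54, 13, 10, 41, 45, 46, 36, 27, 5, 56, 32, 50, 39, 69, 24, 0, 28, 30, 12, 57, 16, 11, 65, 51, 14, 55, 3, 52, 18, 25, 31, 22, 21, 58, 59, 8, 34, 23, 48, 64, 47, 44, 1, 37, 15]),
  (43, [21, 44, 4, 63, 60, 36, 6, 19, 2, 64, 0, 48, 47, 7, 55, 5, 32, 66, 28, 26, 68, 29, 61, 62, 38, 54, 13, 45, 18, 10, 3, 49, 1, 20, 56, 17, 37, 15, 14, 31, 35, 53, 30, 12, 16, 57, 11, 65, 51, 69, 33, 46, 58, 41, 25, 24, 22, 67, 52, 59, 8, 34, 23, 42, 9, 43, 40, 27, 50, 39]),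
  (44, [17, 45, 2, 3, 8, 39, 6, 7, 4, 9, 27, 30, 12, 13, 68, 20, 67, 0, 53, 19, 15, 57, 34, 62, 33, 54, 26, 10, 41, 40, 11, 55, 35, 24, 22, 32, 50, 49, 69, 5, 29, 28, 42, 43, 66, 1, 46, 47, 48, 37, 36, 63, 52, 18, 25, 31, 56, 21, 58, 59, 60, 61, 23, 51, 64, 65, 44, 16, 14, 38])]

def nC : List (ℕ × List ℕ) := [(37, [1, 0]),
  (38, [0, 1]),
  (39, [1, 0]),
  (45, [0, 1]),
  (46, [0, 1]),
  (47, [0, 1]),
  (48, [1, 0]),
  (49, [0, 1]),
  (50, [0, 1]),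
  (51, [0, 1]),
  (52, [0, 1])]

def kT : List (List ℕ) := [[1, 877, 2040, 2124, 412, 460], [0, 864, 1598, 1480, 1028, 1076], [217, 123, 406, 456, 2283, 2003], [267, 72, 1464, 1581, 1076, 1028], [72, 267, 2124, 2040, 1287, 1335], [123, 217, 713, 663, 1602, 1526], [71, 268, 2028, 2148, 460, 412], [326, 13, 1074, 1024, 1526, 1602], [215, 125, 1024, 1074, 1537, 1461], [125, 215, 1331, 1281, 2005, 2272], [13, 326, 1281, 1331, 2003, 2283], [877, 1, 1581, 1464, 715, 667], [32, 307, 456, 406, 2272, 2005], [307, 32, 663, 713, 1461, 1537], [268, 71, 1480, 1598, 667, 715]]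

def kU : List (List ℕ) := [[427, 429, 132, 2242, 1335, 1287], [120, 220, 418, 1311, 152, 2195], [864, 0, 1484, 1594, 1078, 1030], [266, 269, 1468, 1577, 669, 717], [864, 0, 1532, 1591, 1062, 1044], [519, 521, 1048, 703, 1470, 1481], [0, 864, 2148, 2028, 1333, 1285], [855, 885, 2148, 2028, 410, 458], [864, 0, 2098, 2275, 1303, 1317], [662, 664, 2148, 2028, 450, 1277], [853, 878, 320, 1570, 1034, 719], [493, 491, 1040, 1056, 1559, 325], [710, 712, 2028, 2148, 1325, 402], [712, 710, 2148, 2028, 402, 1325], [863, 888, 1496, 23, 1082, 671], [698, 700, 2231, 143, 1287, 1335], [774, 776, 430, 1321, 2130, 2031], [445, 443, 144, 2234, 1287, 1335], [746, 748, 438, 422, 2236, 209], [407, 409, 2148, 2028, 1279, 452], [684, 682, 2239, 131, 1335, 1287], [682, 684, 131, 2239, 1287, 1335], [0, 864, 1591, 1532, 1044, 1062], [0, 864, 1588, 1535, 1046, 1060], [443, 445, 2234, 144, 1335, 1287], [864, 0,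 2099, 2273, 1301, 1319], [73, 70, 2148, 2028, 1335, 1287], [881, 854, 192, 2196, 462, 1291], [748, 746, 422, 438, 209, 2236], [860, 887, 187, 2194, 1339, 414], [764, 762, 1299, 1315, 2241, 206], [728, 726, 1323, 432, 2151, 2074], [726, 728, 432, 1323, 2074, 2151], [429, 427, 2242, 132, 1287, 1335], [0, 864, 2275, 2098, 1317, 1303], [473, 471, 705, 1050, 1596, 1576], [854, 881, 2196, 192, 1291, 462], [12, 33, 1293, 436, 151, 2201], [118, 218, 1036, 693, 314, 1494], [776, 774, 1321, 430, 2031, 2130], [888, 863, 23, 1496, 671, 1082], [509, 507, 681, 697, 324, 1558], [269, 266, 1577, 1468, 717, 669], [70, 73, 2028, 2148, 1287, 1335], [306, 327, 675, 1054, 18, 1569], [33, 12, 436, 1293, 2201, 151], [886, 856, 2129, 2073, 1287, 1335], [885, 855, 2028, 2148, 458, 410], [856, 886, 2073, 2129, 1335, 1287], [220, 120, 1311, 418, 2195, 152], [878, 853, 1570, 320, 719, 1034], [491, 493, 1056, 1040,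 325, 1559], [455, 457, 2028, 2148, 404, 1327], [507, 509, 697, 681, 1558, 324], [864, 0, 1535, 1588, 1060, 1046], [471, 473, 1050, 705, 1576, 1596], [0, 864, 1594, 1484, 1030, 1078], [700, 698, 143, 2231, 1335, 1287], [664, 662, 2028, 2148, 1277, 450], [864, 0, 2028, 2148, 1285, 1333], [864, 0, 2061, 2153, 1287, 1335], [0, 864, 2153, 2061, 1335, 1287], [0, 864, 2273, 2099, 1319, 1301], [762, 764, 1315, 1299, 206, 2241], [457, 455, 2148, 2028, 1327, 404], [409, 407, 2028, 2148, 452, 1279], [218, 118, 693, 1036, 1494, 314], [521, 519, 703, 1048, 1481, 1470], [887, 860, 2194, 187, 414, 1339], [327, 306, 1054, 675, 1569, 18]]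



end Cfsg.Agent.Lib.Co2Fin
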