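import Cfsg.Agent.Lib.Co2MS0
import Cfsg.Agent.Lib.Co2MS1
import Cfsg.Agent.Lib.Co2MS2
import Cfsg.Agent.Lib.Co2MS3

/-! The list of vectors is complete. -/

set_option autoImplicit false
set_option maxRecDepth 100000

namespace Cfsg.Agent.Lib.Co2M

open Cfsg.Agent.Lib.Golay Cfsg.Agent.Lib.Leech Cfsg.Agent.Lib.PermNet Cfsg.Agent.Lib.DCE Cfsg.Spor
open Cfsg.Agent.Lib.CoM (forceI forceL forceL_eq sum_pt')

theorem all : allSp top ((List.finRange 12).map bm) 0 = true :=
  (by decide +kernel : bm 0 :: bm 1 :: bm 2 :: bm 3 :: bm 4 :: gs = (List.finRange 12).map bm) ▸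
    (allSp_cons (allSp_cons (allSp_cons (allSp_cons (allSp_cons all0 all1) (allSp_cons all2 all3)) (allSp_cons (allSp_cons all4 all5) (allSp_cons all6 all7))) (allSp_cons (allSp_cons (allSp_cons all8 all9) (allSp_cons all10 all11)) (allSp_cons (allSp_cons all12 all13) (allSp_cons all14 all15)))) (allSp_cons (allSp_cons (allSp_cons (allSp_cons all16 all17) (allSp_cons all18 all19)) (allSp_cons (allSp_cons all20 all21) (allSp_cons all22 all23))) (allSp_cons (allSp_cons (allSp_cons all24 all25) (allSp_cons all26 all27)) (allSp_cons (allSp_cons all28 all29) (allSp_cons all30 all31)))))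

theorem near {y : V} (hy : y ∈ leechLattice) (h₁ : sqNorm y = 32) (h₂ : dotInt y vecU = 16) :
    ∃ p < 2300, y = vec (L p) ∨ y = vec (wl (L p)) := by
  obtain ⟨p₁, p₂, p₃⟩ := mem_iff.1 hy
  obtain ⟨c, hc, e⟩ := exists_mask (w := W y + if y none % 4 < 2 then 0 else 1)
    (add_mem (mem_golay_iff.2 (funext p₃)) (by split_ifs; exacts [zero_mem _, one_mem_code]))
  have hr : ∀ i < 24, y (Golay.pt i) % 4 = rs (y none % 2) c i := fun i hi => by
    have := congrFun e (Golay.pt i)
    have := p₁ (Golay.pt i)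
    simp only [W, wd, idx_pt i hi, Pi.add_apply, ite_apply, Pi.zero_apply, Pi.one_apply, rs] at *
    cases hb : c.testBit i <;> simp only [hb] at * <;> split_ifs at * <;> first | contradiction | (simp; omega)
  have hx : ∀ p, y p * y p ≤ 32 := fun p => (sq (y p)).ge.trans
    (h₁ ▸ Finset.single_le_sum (fun q _ => sq_nonneg (y q)) (Finset.mem_univ p))
  have h0 : y (Golay.pt 0) = 4 - y none := by
    rw [dotInt, sum_pt] at h₂
    simp only [Finset.sum_range_succ, Finset.range_zero, Finset.sum_empty] at h₂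
    change 0 + _ * 4 + _ * 0 + _ * 0 + _ * 0 + _ * 0 + _ * 0 + _ * 0 + _ * 0 + _ * 0 + _ * 0 + _ * 0 + _ * 0 + _ * 0 +
      _ * 0 + _ * 0 + _ * 0 + _ * 0 + _ * 0 + _ * 0 + _ * 0 + _ * 0 + _ * 0 + _ * 0 + y none * 4 = _ at h₂
    omega
  have e₁ : ((List.range' 1 22).reverse.map fun i => y (Golay.pt i)).map (· % 4) =
      (List.range' 1 22).reverse.map (rs (y none % 2) c) := by
    rw [List.map_map]
    exact List.map_congr_left fun i hi => hr i (by simp at hi; omega)
  have h₄ := (Bool.or_eq_true_iff.1 (List.all_eq_true.1 (allSp_sound all (Nat.xor_zero c ▸ hc)) (y none % 2)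
    (by simp; omega))).resolve_left (by
      rw [← hr 0 (by decide), ← hr 23 (by decide), h0, show Golay.pt 23 = none from rfl]
      simp only [bne_iff_ne]
      omega)
  rw [forceL_eq, forceI_eq, ← e₁] at h₄
  have h₅ := List.all_eq_true.1 h₄ (y none) (by
    have := mem_cand (hx none); rwa [show y none % 4 = _ from hr 23 (by decide)] at this)
  rw [forceI_eq] at h₅
  have h₆ := srch_sound (fun x h => by obtain ⟨i, -, rfl⟩ := List.mem_map.1 h; exact hx _) (le_of_eq (by
    rw [sqNorm, sum_pt] at h₁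
    simp only [Finset.sum_range_succ, Finset.range_zero, Finset.sum_empty, h0, show Golay.pt 23 = none from rfl] at h₁
    simp only [List.range', List.reverse_cons, List.reverse_nil, List.nil_append, List.cons_append, List.map_cons,
      List.map_nil, List.sum_cons, List.sum_nil, Nat.reduceAdd]
    linear_combination h₁)) h₅
  rw [← List.map_reverse, List.reverse_reverse, ← h0] at h₆
  change lf ((List.range 24).map fun i => y (Golay.pt i)) = true at h₆
  have h₇ : ldot ((List.range 24).map fun i => y (Golay.pt i)) ((List.range 24).map fun i => y (Golay.pt i)) = 32 := by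
    rw [← dot_vec (by simp), vec_map, ← CoM.sq_eq, h₁]
  have h₈ : (((List.range 24).map fun i => y (Golay.pt i)).sum -
      4 * ((List.range 24).map fun i => y (Golay.pt i)).getD 23 0) % 8 = 0 := by
    rw [sum_pt] at p₂
    exact p₂
  simp only [lf, fnd, forceL_eq, forceB_eq, h₇, h₈, bne_self_eq_false, Bool.false_or, Bool.and_eq_true,
    Bool.or_eq_true, beq_iff_eq, Nat.blt_eq] at h₆
  exact ⟨_, h₆.1, h₆.2.imp (fun e => by rw [e, vec_map]) fun e => by rw [e, vec_map]⟩

end Cfsg.Agent.Lib.Co2M
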