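import Cfsg.Agent.Lib.Co2MV
import Cfsg.Agent.Lib.CoM

/-! The 4600 shortest vectors of the Leech lattice that are nearest to `(4, 4, 0²²)`. -/

set_option autoImplicit false
set_option maxRecDepth 100000

namespace Cfsg.Agent.Lib.Co2M

open Cfsg.Agent.Lib.Golay Cfsg.Agent.Lib.Leech Cfsg.Agent.Lib.PermNet Cfsg.Agent.Lib.DCE Cfsg.Spor
open Cfsg.Agent.Lib.CoM (forceI forceL forceL_eq sum_pt')

noncomputable def L (p : ℕ) : List ℤ :=
  Leech.dec 24 (lk (nat_lit 96) (nat_lit 0xffffffffffffffffffffffff) TV p)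

def ul : List ℤ := [4, 0, 0, 0, 0, 0, 0, 0, 0, 0, 0, 0, 0, 0, 0, 0, 0, 0, 0, 0, 0, 0, 0, 4]

def wl (l : List ℤ) : List ℤ := List.zipWith (fun a b => a - b) ul l

def enc (l : List ℤ) : ℕ := l.foldr (fun x r => (x + 8).toNat + 16 * r) 0

noncomputable def ix (e : ℕ) : ℕ := lk (nat_lit 12) (nat_lit 4095) H2
  ((e % 1000003 + lk (nat_lit 12) (nat_lit 4095) H1 (e % 2003)) % 8192)

noncomputable def fnd (l : List ℤ) : Bool :=
  forceB (enc l) fun e => forceB (ix e) fun p => Nat.blt p 2300 && forceL (L p) fun m => m == l || wl m == l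

noncomputable def lf (l : List ℤ) : Bool :=
  forceL l fun l => (l.sum - 4 * l.getD 23 0) % 8 != 0 || ldot l l != 32 || fnd l

def mc (r : ℤ) : ℤ := if r % 2 = 1 then 1 else 2 * r

theorem forceI_eq (x : ℤ) (k : ℤ → Bool) : forceI x k = k x := by cases x <;> rfl

noncomputable def srch (k : List ℤ → Bool) : List ℤ → ℤ → List ℤ → Bool
  | [], _, acc => k acc
  | r :: l, b, acc => [r - 8, r - 4, r, r + 4].all fun x => forceI x fun x =>
      forceI (b - (x * x - mc r)) fun b => decide (b < 0) || srch k l b (x :: acc)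

theorem cost_nonneg (l : List ℤ) : 0 ≤ (l.map fun x => x * x - mc (x % 4)).sum := List.sum_nonneg fun _ h => by
  obtain ⟨x, -, rfl⟩ := List.mem_map.1 h
  rw [mc]
  split_ifs
  · rcases (by omega : x ≤ -1 ∨ 1 ≤ x) with h | h <;> nlinarith
  · rcases (by omega : x % 4 = 0 ∨ x % 4 = 2 ∧ (x ≤ -2 ∨ 2 ≤ x)) with h | ⟨h, h' | h'⟩ <;> rw [h] <;> nlinarith

theorem srch_sound {k : List ℤ → Bool} {xs : List ℤ} (hx : ∀ x ∈ xs, x * x ≤ 32) {b : ℤ}
    (hb : (xs.map fun x => x * x - mc (x % 4)).sum ≤ b) {acc : List ℤ}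
    (h : srch k (xs.map (· % 4)) b acc = true) : k (xs.reverse ++ acc) = true := by
  induction xs generalizing b acc with
  | nil => exact h
  | cons x xs ih =>
    obtain ⟨h₁, h₂⟩ := List.forall_mem_cons.1 hx
    have := cost_nonneg xs
    rw [List.map_cons, List.sum_cons] at hb
    rw [List.reverse_cons, List.append_assoc]
    have h3 := List.all_eq_true.1 h x (mem_cand h₁)
    simp only [forceI_eq] at h3
    exact ih h₂ (by omega) ((Bool.or_eq_true_iff.1 h3).resolve_left fun e => by have := of_decide_eq_true e; omega)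

def rs (m : ℤ) (c i : ℕ) : ℤ := m + 2 * (c.testBit i).toNat

noncomputable def top (c : ℕ) : Bool := [0, 1].all fun m : ℤ => (rs m c 0 + rs m c 23) % 4 != 0 ||
  forceL ((List.range' 1 22).reverse.map (rs m c)) fun r => forceI (r.map mc).sum fun s =>
    [rs m c 23 - 8, rs m c 23 - 4, rs m c 23, rs m c 23 + 4].all fun a => forceI a fun a =>
      srch (fun l => lf ((4 - a) :: l)) r (32 - a * a - (4 - a) * (4 - a) - s) [a]

def gs : List ℕ := ((List.finRange 12).map bm).drop 5

theorem allSp_cons {k : ℕ → Bool} {gs : List ℕ} {g c : ℕ} (h1 : allSp k gs c = true)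
    (h2 : allSp k gs (c ^^^ g) = true) : allSp k (g :: gs) c = true := by
  rw [allSp, forceB_eq, h1, h2]; rfl

end Cfsg.Agent.Lib.Co2M
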