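import Cfsg.Agent.Lib.Co2MHT

/-! The automorphisms of the centraliser of a four-group: searches. -/

set_option autoImplicit false
set_option maxRecDepth 100000

namespace Cfsg.Agent.Lib.Co2MH

open Cfsg.Agent.Lib.PermNet Cfsg.Agent.Lib.Words Cfsg.Agent.Lib.PermGroup Cfsg.Agent.Lib.DCE Cfsg.Agent.Lib.PermModel Cfsg.Agent.Lib.BT

noncomputable def ts_n : List Tst := [⟨[], [⟨0, [0], [44], [44]⟩], []⟩,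
  ⟨[], [⟨0, [0], [44], [44]⟩], []⟩,
  ⟨[], [⟨0, [0], [44], [44]⟩], []⟩,
  ⟨[], [], [⟨0, [0], [44], [44]⟩]⟩]

noncomputable def ct_n : CT := (.node 0 [] [] (nat_lit 0x0) (nd [(0, (nd [(582, (nd [(523, (lf [(852, [0, 32])])),
  (529, (lf [(1077, [0, 32, 34, 36])]))])),
  (528, (nd [(582, (lf [(852, [0])])),
  (605, (lf [(1364, [0, 34, 36])]))])),
  (928, (nd [(605, (lf [(1208, [0, 32, 34, 36, 32])])),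
  (582, (lf [(1077, [0, 36, 32])]))])),
  (605, (nd [(523, (lf [(1208, [0, 34, 36, 32])])),
  (529, (lf [(1364, [0, 36])]))]))]))]) .nil)

theorem s_n : solveB (nat_lit 11) (nat_lit 2047) htt (nat_lit 2033) 500 B0 (fun _ => true) chK 3 []
    [[44]] [[44]] (prEq 500 [[44]] [[44]] ++ [[1000, 1000, 1000]]) [[1000]] [] (fun u => band (Nat.blt (u.headD 0) 1) (allL (cmW (nat_lit 11) (nat_lit 2047) htt B0 u.tail) [[44], [30], [28]])) (mkC [[32, 34]]) ts_n ct_n = true := by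
  decide +kernel

noncomputable def ts_n_0_0_0_0_0 : List Tst := [⟨[], [⟨0, [2], [44], [44]⟩, ⟨0, [4], [30], [30]⟩, ⟨0, [6], [28], [28]⟩, ⟨0, [8], [32, 34, 32], [32, 34, 32]⟩], [⟨0, [0], [38], [38]⟩, ⟨0, [0, 2], [38, 44], [38, 44]⟩, ⟨0, [0, 4], [38, 30], [38, 30]⟩]⟩,
  ⟨[], [⟨0, [0], [38], [38]⟩, ⟨0, [6], [28], [28]⟩, ⟨0, [8], [32, 34, 32], [32, 34, 32]⟩, ⟨0, [10], [36, 32, 40, 32, 34, 36], [36, 32, 40, 32, 34, 36]⟩], [⟨0, [2], [44], [44]⟩, ⟨0, [4], [30], [30]⟩, ⟨0, [0, 2], [38, 44], [38, 44]⟩]⟩,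
  ⟨[], [⟨0, [0], [38], [38]⟩, ⟨0, [2], [44], [44]⟩, ⟨0, [4], [30], [30]⟩, ⟨0, [8], [32, 34, 32], [32, 34, 32]⟩], [⟨0, [6], [28], [28]⟩, ⟨0, [0, 6], [38, 28], [38, 28]⟩, ⟨0, [2, 6], [44, 28], [44, 28]⟩]⟩,
  ⟨[], [⟨0, [0], [38], [38]⟩, ⟨0, [2], [44], [44]⟩, ⟨0, [4], [30], [30]⟩, ⟨0, [6], [28], [28]⟩], [⟨0, [8], [32, 34, 32], [32, 34, 32]⟩, ⟨0, [0, 8], [38, 32, 34, 32], [38, 32, 34, 32]⟩, ⟨0, [2, 8], [44, 32, 34, 32], [44, 32, 34, 32]⟩]⟩,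
  ⟨[⟨0, [8], [32, 34, 32], [32, 34, 32]⟩], [], []⟩,
  ⟨[], [⟨0, [0], [38], [38]⟩, ⟨0, [4], [30], [30]⟩, ⟨0, [6], [28], [28]⟩, ⟨0, [8], [32, 34, 32], [32, 34, 32]⟩], [⟨0, [2], [44], [44]⟩, ⟨0, [0, 2], [38, 44], [38, 44]⟩, ⟨0, [2, 0], [44, 38], [44, 38]⟩]⟩]

noncomputable def ct_n_0_0_0_0_0 : CT := (.node 0 [] [] (nat_lit 0x0) (nd [(1718, (nd [(1144, (nd [(341, (nd [(586, (nd [(628, (lf [(852, [0])]))]))]))]))]))]) .nil)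

theorem s_n_0_0_0_0_0 : stepB (nat_lit 11) (nat_lit 2047) htt B0 (nat_lit 2033) 500 chK [28] [30]
    [[56], [52], [60], [58], [52, 54], [60, 62], [28], [30]] [[36], [32], [40], [38], [32, 34], [44], [30], [28]] [44] [14] [12]
    [([6], [6]), ([10], [10]), ([12], [12]), ([14], [14]), ([8, 2], [8, 2]), ([0, 2, 4, 8, 0], [0, 2, 4, 8, 0]), ([0, 4, 6, 8, 0], [0, 4, 6, 8, 0])]
    [[0, 0], [0, 10, 16, 0, 10, 16, 0, 10, 16]] [[0, 16]] [[60, 62]] ts_n_0_0_0_0_0 ct_n_0_0_0_0_0 = true := by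
  decide +kernel

noncomputable def ts_n_0_0_0_0_2 : List Tst := [⟨[], [⟨0, [2], [44], [44]⟩, ⟨0, [4], [30], [30]⟩, ⟨0, [6], [28], [28]⟩, ⟨0, [8], [32, 34, 32], [32, 34, 32]⟩], [⟨0, [0], [38], [38]⟩, ⟨0, [0, 2], [38, 44], [38, 44]⟩, ⟨0, [0, 4], [38, 30], [38, 30]⟩]⟩,
  ⟨[], [⟨0, [0], [38], [38]⟩, ⟨0, [6], [28], [28]⟩, ⟨0, [8], [32, 34, 32], [32, 34, 32]⟩], [⟨0, [2], [44], [44]⟩, ⟨0, [4], [30], [30]⟩, ⟨0, [0, 2], [38, 44], [38, 44]⟩]⟩,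
  ⟨[], [⟨0, [0], [38], [38]⟩, ⟨0, [2], [44], [44]⟩, ⟨0, [4], [30], [30]⟩, ⟨0, [8], [32, 34, 32], [32, 34, 32]⟩], [⟨0, [6], [28], [28]⟩, ⟨0, [0, 6], [38, 28], [38, 28]⟩, ⟨0, [2, 6], [44, 28], [44, 28]⟩]⟩,
  ⟨[], [⟨0, [0], [38], [38]⟩, ⟨0, [2], [44], [44]⟩, ⟨0, [4], [30], [30]⟩, ⟨0, [6], [28], [28]⟩], [⟨0, [8], [32, 34, 32], [32, 34, 32]⟩, ⟨0, [0, 8], [38, 32, 34, 32], [38, 32, 34, 32]⟩, ⟨0, [2, 8], [44, 32, 34, 32], [44, 32, 34, 32]⟩]⟩,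
  ⟨[⟨0, [8], [32, 34, 32], [32, 34, 32]⟩], [], []⟩,
  ⟨[], [⟨0, [0], [38], [38]⟩, ⟨0, [4], [30], [30]⟩, ⟨0, [6], [28], [28]⟩, ⟨0, [8], [32, 34, 32], [32, 34, 32]⟩], [⟨0, [2], [44], [44]⟩, ⟨0, [0, 2], [38, 44], [38, 44]⟩, ⟨0, [2, 0], [44, 38], [44, 38]⟩]⟩]

noncomputable def ct_n_0_0_0_0_2 : CT := (.node 0 [] [] (nat_lit 0x0) (nd [(1718, (nd [(1144, (nd [(341, (nd [(586, (nd [(628, (lf [(852, [0])]))]))]))]))]))]) .nil)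

theorem s_n_0_0_0_0_2 : stepB (nat_lit 11) (nat_lit 2047) htt B0 (nat_lit 2033) 500 chK [28] [30]
    [[56], [52], [60], [58], [52, 54], [60, 62], [28], [30]] [[48, 46, 36], [32], [40], [38], [32, 34], [44], [30], [28]] [44] [14] [12]
    [([6], [6]), ([10], [10]), ([12], [12]), ([14], [14]), ([8, 2], [8, 2]), ([0, 2, 4, 8, 0], [0, 2, 4, 8, 0]), ([0, 4, 6, 8, 0], [0, 4, 6, 8, 0])]
    [[0, 0], [0, 10, 16, 0, 10, 16, 0, 10, 16]] [[0, 16]] [[60, 62]] ts_n_0_0_0_0_2 ct_n_0_0_0_0_2 = true := by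
  decide +kernel

noncomputable def ts_n_0_0_0_0_3 : List Tst := [⟨[], [⟨0, [2], [44], [44]⟩, ⟨0, [4], [30], [30]⟩, ⟨0, [6], [28], [28]⟩, ⟨0, [8], [32, 34, 32], [32, 34, 32]⟩], [⟨0, [0], [38], [38]⟩, ⟨0, [0, 2], [38, 44], [38, 44]⟩, ⟨0, [0, 4], [38, 30], [38, 30]⟩]⟩,
  ⟨[], [⟨0, [0], [38], [38]⟩, ⟨0, [6], [28], [28]⟩, ⟨0, [8], [32, 34, 32], [32, 34, 32]⟩], [⟨0, [2], [44], [44]⟩, ⟨0, [4], [30], [30]⟩, ⟨0, [0, 2], [38, 44], [38, 44]⟩]⟩,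
  ⟨[], [⟨0, [0], [38], [38]⟩, ⟨0, [2], [44], [44]⟩, ⟨0, [4], [30], [30]⟩, ⟨0, [8], [32, 34, 32], [32, 34, 32]⟩], [⟨0, [6], [28], [28]⟩, ⟨0, [0, 6], [38, 28], [38, 28]⟩, ⟨0, [2, 6], [44, 28], [44, 28]⟩]⟩,
  ⟨[], [⟨0, [0], [38], [38]⟩, ⟨0, [2], [44], [44]⟩, ⟨0, [4], [30], [30]⟩, ⟨0, [6], [28], [28]⟩], [⟨0, [8], [32, 34, 32], [32, 34, 32]⟩, ⟨0, [0, 8], [38, 32, 34, 32], [38, 32, 34, 32]⟩, ⟨0, [2, 8], [44, 32, 34, 32], [44, 32, 34, 32]⟩]⟩,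
  ⟨[⟨0, [8], [32, 34, 32], [32, 34, 32]⟩], [], []⟩,
  ⟨[], [⟨0, [0], [38], [38]⟩, ⟨0, [4], [30], [30]⟩, ⟨0, [6], [28], [28]⟩, ⟨0, [8], [32, 34, 32], [32, 34, 32]⟩], [⟨0, [2], [44], [44]⟩, ⟨0, [0, 2], [38, 44], [38, 44]⟩, ⟨0, [2, 0], [44, 38], [44, 38]⟩]⟩]

noncomputable def ct_n_0_0_0_0_3 : CT := (.node 0 [] [] (nat_lit 0x0) (nd [(1718, (nd [(1144, (nd [(341, (nd [(586, (nd [(628, (lf [(852, [0])]))]))]))]))]))]) .nil)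

theorem s_n_0_0_0_0_3 : stepB (nat_lit 11) (nat_lit 2047) htt B0 (nat_lit 2033) 500 chK [28] [30]
    [[56], [52], [60], [58], [52, 54], [60, 62], [28], [30]] [[58, 42, 32], [32], [40], [38], [32, 34], [44], [30], [28]] [44] [14] [12]
    [([6], [6]), ([10], [10]), ([12], [12]), ([14], [14]), ([8, 2], [8, 2]), ([0, 2, 4, 8, 0], [0, 2, 4, 8, 0]), ([0, 4, 6, 8, 0], [0, 4, 6, 8, 0])]
    [[0, 0], [0, 10, 16, 0, 10, 16, 0, 10, 16]] [[0, 16]] [[60, 62]] ts_n_0_0_0_0_3 ct_n_0_0_0_0_3 = true := by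
  decide +kernel

noncomputable def ts_n_0_0_0_0 : List Tst := [⟨[], [⟨0, [0], [32], [32]⟩, ⟨0, [2], [40], [40]⟩, ⟨0, [4], [44], [44]⟩], []⟩,
  ⟨[], [⟨0, [0], [32], [32]⟩, ⟨0, [2], [40], [40]⟩], [⟨0, [4], [44], [44]⟩, ⟨0, [0, 4], [32, 44], [32, 44]⟩, ⟨0, [2, 4], [40, 44], [40, 44]⟩]⟩,
  ⟨[], [⟨0, [0], [32], [32]⟩, ⟨0, [2], [40], [40]⟩, ⟨0, [4], [44], [44]⟩], []⟩,
  ⟨[], [⟨0, [0], [32], [32]⟩, ⟨0, [2], [40], [40]⟩, ⟨0, [4], [44], [44]⟩], []⟩,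
  ⟨[], [⟨0, [2], [40], [40]⟩, ⟨0, [4], [44], [44]⟩], [⟨0, [0], [32], [32]⟩, ⟨0, [0, 2], [32, 40], [32, 40]⟩, ⟨0, [0, 4], [32, 44], [32, 44]⟩]⟩,
  ⟨[], [⟨0, [0], [32], [32]⟩], [⟨0, [2], [40], [40]⟩, ⟨0, [4], [44], [44]⟩, ⟨0, [0, 2], [32, 40], [32, 40]⟩]⟩]

noncomputable def ct_n_0_0_0_0 : CT := (.node 0 [] [] (nat_lit 0x0) (nd [(1718, (nd [(949, (nd [(0, (nd [(523, (nd [(605, (lf [(1208, [0])]))]))]))])),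
  (1149, (nd [(325, (nd [(523, (nd [(825, (lf [(1334, [1])]))]))]))])),
  (748, (nd [(0, (nd [(523, (nd [(778, (lf [(641, [2])]))]))]))])),
  (981, (nd [(325, (nd [(523, (nd [(997, (lf [(853, [3])]))]))]))]))]))]) .nil)

theorem s_n_0_0_0_0 : stepB (nat_lit 11) (nat_lit 2047) htt B0 (nat_lit 2033) 500 chK [28] [30]
    [[52], [60], [58], [52, 54], [60, 62], [28], [30]] [[32], [40], [38], [32, 34], [44], [30], [28]] [56] [12] [10]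
    [([0], [0]), ([2], [2]), ([8], [8])]
    [[0, 0], [0, 6, 0, 6, 0, 6], [0, 2, 8, 0, 2, 8, 0, 2, 8]] ([] : List (List ℕ)) [[36], [52, 40, 52], [48, 46, 36], [58, 42, 32]] ts_n_0_0_0_0 ct_n_0_0_0_0 = true := by
  decide +kernel

noncomputable def ts_n_0_0_0 : List Tst := [⟨[], [⟨0, [2], [40], [40]⟩, ⟨0, [6], [44], [44]⟩, ⟨0, [0], [32, 34], [35, 33]⟩, ⟨0, [4, 6, 4], [38, 44, 38], [38, 44, 38]⟩], [⟨0, [4], [38], [38]⟩, ⟨0, [2, 4], [40, 38], [40, 38]⟩, ⟨0, [4, 2], [38, 40], [38, 40]⟩]⟩,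
  ⟨[], [⟨0, [2], [40], [40]⟩, ⟨0, [4], [38], [38]⟩, ⟨0, [0], [32, 34], [35, 33]⟩], [⟨0, [6], [44], [44]⟩, ⟨0, [2, 6], [40, 44], [40, 44]⟩, ⟨0, [4, 6], [38, 44], [38, 44]⟩]⟩,
  ⟨[], [⟨0, [2], [40], [40]⟩, ⟨0, [4], [38], [38]⟩, ⟨0, [6], [44], [44]⟩, ⟨0, [0], [32, 34], [35, 33]⟩], []⟩,
  ⟨[], [⟨0, [2], [40], [40]⟩, ⟨0, [4], [38], [38]⟩, ⟨0, [6], [44], [44]⟩], [⟨0, [0], [32, 34], [35, 33]⟩, ⟨0, [1], [35, 33], [32, 34]⟩, ⟨0, [0, 2], [32, 34, 40], [35, 33, 40]⟩]⟩,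
  ⟨[⟨0, [1], [35, 33], [32, 34]⟩], [], []⟩,
  ⟨[], [⟨0, [4], [38], [38]⟩, ⟨0, [0], [32, 34], [35, 33]⟩, ⟨0, [6, 4, 6], [44, 38, 44], [44, 38, 44]⟩], [⟨0, [2], [40], [40]⟩, ⟨0, [6], [44], [44]⟩, ⟨0, [2, 4], [40, 38], [40, 38]⟩]⟩]

noncomputable def ct_n_0_0_0 : CT := (.node 0 [] [] (nat_lit 0x0) (nd [(1718, (nd [(949, (nd [(0, (nd [(523, (nd [(582, (lf [(852, [0])]))])),
  (582, (nd [(528, (lf [(852, [0, 32, 34])]))])),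
  (528, (nd [(523, (lf [(852, [0, 34, 32])]))]))])),
  (256, (nd [(523, (nd [(582, (lf [(852, [1])]))])),
  (582, (nd [(528, (lf [(852, [1, 32, 34])]))])),
  (528, (nd [(523, (lf [(852, [1, 34, 32])]))]))]))])),
  (1111, (nd [(0, (nd [(523, (nd [(582, (lf [(852, [2])]))])),
  (582, (nd [(528, (lf [(852, [2, 32, 34])]))])),
  (528, (nd [(523, (lf [(852, [2, 34, 32])]))]))])),
  (256, (nd [(523, (nd [(582, (lf [(852, [3])]))])),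
  (582, (nd [(528, (lf [(852, [3, 32, 34])]))])),
  (528, (nd [(523, (lf [(852, [3, 34, 32])]))]))]))]))]))]) .nil)

theorem s_n_0_0_0 : stepB (nat_lit 11) (nat_lit 2047) htt B0 (nat_lit 2033) 500 chK [28] [30]
    [[60], [58], [52, 54], [60, 62], [28], [30]] [[40], [38], [32, 34], [44], [30], [28]] [52] [10] [8]
    [([4], [5]), ([0], [0]), ([2], [2]), ([6], [6])]
    [[0, 0]] ([] : List (List ℕ)) [[32], [28, 32], [30, 32], [30, 28, 32]] ts_n_0_0_0 ct_n_0_0_0 = true := by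
  decide +kernel

noncomputable def ts_n_0_0 : List Tst := [⟨[], [⟨0, [2], [44], [44]⟩, ⟨0, [0], [32, 34], [32, 34]⟩], []⟩,
  ⟨[], [⟨0, [0], [32, 34], [32, 34]⟩], [⟨0, [2], [44], [44]⟩, ⟨0, [0, 2], [32, 34, 44], [32, 34, 44]⟩, ⟨0, [1, 2], [35, 33, 44], [35, 33, 44]⟩]⟩,
  ⟨[], [⟨0, [2], [44], [44]⟩, ⟨0, [0], [32, 34], [32, 34]⟩], []⟩,
  ⟨[], [⟨0, [2], [44], [44]⟩], [⟨0, [0], [32, 34], [32, 34]⟩, ⟨0, [1], [35, 33], [35, 33]⟩, ⟨0, [0, 2], [32, 34, 44], [32, 34, 44]⟩]⟩,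
  ⟨[⟨0, [1], [35, 33], [35, 33]⟩], [], []⟩,
  ⟨[], [⟨0, [0], [32, 34], [32, 34]⟩], [⟨0, [2], [44], [44]⟩, ⟨0, [0, 2], [32, 34, 44], [32, 34, 44]⟩, ⟨0, [1, 2], [35, 33, 44], [35, 33, 44]⟩]⟩]

noncomputable def ct_n_0_0 : CT := (.node 0 [] [] (nat_lit 0x0) (nd [(1718, (nd [(949, (nd [(0, (nd [(523, (nd [(528, (lf [(1180, [0])]))]))]))])),
  (613, (nd [(0, (nd [(523, (nd [(528, (lf [(1155, [0, 46, 44])]))]))]))]))]))]) .nil)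

theorem s_n_0_0 : stepB (nat_lit 11) (nat_lit 2047) htt B0 (nat_lit 2033) 500 chK [28] [30]
    [[58], [52, 54], [60, 62], [28], [30]] [[38], [32, 34], [44], [30], [28]] [60] [8] [6]
    [([2], [2]), ([4], [4])]
    [[0, 0], [0, 2, 0, 2, 0, 2]] ([] : List (List ℕ)) [[40]] ts_n_0_0 ct_n_0_0 = true := by
  decide +kernel

noncomputable def ts_n_0 : List Tst := [⟨[], [⟨0, [0], [32, 34], [32, 34]⟩], []⟩,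
  ⟨[], [⟨0, [0], [32, 34], [32, 34]⟩], []⟩,
  ⟨[], [⟨0, [0], [32, 34], [32, 34]⟩], []⟩,
  ⟨[], [], [⟨0, [0], [32, 34], [32, 34]⟩, ⟨0, [1], [35, 33], [35, 33]⟩]⟩,
  ⟨[⟨0, [1], [35, 33], [35, 33]⟩], [], []⟩,
  ⟨[], [⟨0, [0], [32, 34], [32, 34]⟩], []⟩]

noncomputable def ct_n_0 : CT := (.node 0 [] [] (nat_lit 0x0) (nd [(1907, (nd [(949, (nd [(0, (nd [(523, (nd [(528, (lf [(852, [0])]))]))])),
  (256, (nd [(523, (nd [(528, (lf [(852, [1])]))]))]))])),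
  (1111, (nd [(0, (nd [(523, (nd [(528, (lf [(852, [2])]))]))])),
  (256, (nd [(523, (nd [(528, (lf [(852, [3])]))]))]))])),
  (1427, (nd [(0, (nd [(523, (nd [(528, (lf [(852, [0, 44])]))]))])),
  (256, (nd [(523, (nd [(528, (lf [(852, [1, 44])]))]))]))])),
  (1405, (nd [(0, (nd [(523, (nd [(528, (lf [(852, [2, 44])]))]))])),
  (256, (nd [(523, (nd [(528, (lf [(852, [3, 44])]))]))]))]))])),
  (1973, (nd [(949, (nd [(0, (nd [(523, (nd [(528, (lf [(1456, [0, 40])]))]))])),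
  (256, (nd [(523, (nd [(528, (lf [(1456, [1, 40])]))]))]))])),
  (1111, (nd [(0, (nd [(523, (nd [(528, (lf [(1456, [2, 40])]))]))])),
  (256, (nd [(523, (nd [(528, (lf [(1456, [3, 40])]))]))]))])),
  (517, (nd [(0, (nd [(523, (nd [(528, (lf [(575, [0, 42])]))]))])),
  (256, (nd [(523, (nd [(528, (lf [(575, [1, 42])]))]))]))])),
  (554, (nd [(0, (nd [(523, (nd [(528, (lf [(575, [2, 42])]))]))])),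
  (256, (nd [(523, (nd [(528, (lf [(575, [3, 42])]))]))]))]))]))]) .nil)

theorem s_n_0 : stepB (nat_lit 11) (nat_lit 2047) htt B0 (nat_lit 2033) 500 chK [28] [30]
    [[52, 54], [60, 62], [28], [30]] [[32, 34], [44], [30], [28]] [58] [6] [4]
    [([0], [0])]
    [[0, 0]] [[0, 4, 0, 4]] [[38], [28, 38], [30, 38], [30, 28, 38]] ts_n_0 ct_n_0 = true := by
  decide +kernel

noncomputable def ts_kn_0_0_0_0_2_0 : List Tst := [⟨[], [⟨0, [0], [44], [44]⟩, ⟨0, [8], [58], [48, 46, 58]⟩, ⟨0, [4, 0, 4], [52, 44, 52], [48, 52, 44, 48, 52]⟩, ⟨0, [6, 0, 6], [60, 44, 60], [50, 60, 44, 50, 60]⟩], [⟨0, [4], [52], [48, 52]⟩, ⟨0, [6], [60], [50, 60]⟩, ⟨0, [0, 4], [44, 52], [44, 48, 52]⟩]⟩,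
  ⟨[], [⟨0, [6], [60], [50, 60]⟩, ⟨0, [11, 2, 10], [55, 53, 56, 52, 54], [55, 53, 31, 49, 50, 48, 32, 62, 32, 48, 30, 52, 54]⟩], [⟨0, [0], [44], [44]⟩, ⟨0, [4], [52], [48, 52]⟩, ⟨0, [8], [58], [48, 46, 58]⟩]⟩,
  ⟨[], [⟨0, [0], [44], [44]⟩, ⟨0, [4, 0, 4], [52, 44, 52], [48, 52, 44, 48, 52]⟩, ⟨0, [6, 0, 6], [60, 44, 60], [50, 60, 44, 50, 60]⟩, ⟨0, [2, 6], [56, 60], [50, 48, 32, 62, 32, 50, 60]⟩], [⟨0, [4], [52], [48, 52]⟩, ⟨0, [6], [60], [50, 60]⟩, ⟨0, [8], [58], [48, 46, 58]⟩]⟩,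
  ⟨[], [⟨0, [0], [44], [44]⟩, ⟨0, [4], [52], [48, 52]⟩, ⟨0, [8], [58], [48, 46, 58]⟩, ⟨0, [2, 6], [56, 60], [50, 48, 32, 62, 32, 50, 60]⟩], [⟨0, [6], [60], [50, 60]⟩, ⟨0, [0, 6], [44, 60], [44, 50, 60]⟩, ⟨0, [6, 0], [60, 44], [50, 60, 44]⟩]⟩,
  ⟨[], [⟨0, [0], [44], [44]⟩, ⟨0, [2], [56], [50, 48, 32, 62, 32]⟩, ⟨0, [4, 8, 11], [52, 58, 55, 53], [48, 52, 48, 46, 58, 55, 53, 31, 49]⟩], [⟨0, [4], [52], [48, 52]⟩, ⟨0, [6], [60], [50, 60]⟩, ⟨0, [8], [58], [48, 46, 58]⟩]⟩,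
  ⟨[], [⟨0, [4], [52], [48, 52]⟩, ⟨0, [6], [60], [50, 60]⟩, ⟨0, [0, 4, 0], [44, 52, 44], [44, 48, 52, 44]⟩, ⟨0, [0, 6, 0], [44, 60, 44], [44, 50, 60, 44]⟩], [⟨0, [0], [44], [44]⟩, ⟨0, [8], [58], [48, 46, 58]⟩, ⟨0, [0, 4], [44, 52], [44, 48, 52]⟩]⟩]

noncomputable def ct_kn_0_0_0_0_2_0 : CT := .nil

theorem s_kn_0_0_0_0_2_0 : solveB (nat_lit 11) (nat_lit 2047) htt (nat_lit 2033) 500 B0 (fun _ => true) chK 1 []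
    [[44], [56], [52], [60], [58], [52, 54]] [[44], [50, 48, 32, 62, 32], [48, 52], [50, 60], [48, 46, 58], [48, 30, 52, 54]] (prEq 500 [[44], [56], [52], [60], [58], [52, 54]] [[44], [50, 48, 32, 62, 32], [48, 52], [50, 60], [48, 46, 58], [48, 30, 52, 54]] ++ ([] : List (List ℕ))) ([] : List (List ℕ)) [] (fun _ => false) id ts_kn_0_0_0_0_2_0 ct_kn_0_0_0_0_2_0 = true := by
  decide +kernel

noncomputable def ts_kn_0_0_0_0_3_0 : List Tst := [⟨[], [⟨0, [0], [44], [44]⟩, ⟨0, [8], [58], [42, 36, 32]⟩, ⟨0, [6, 0, 6], [60, 44, 60], [50, 28, 62, 44, 50, 28, 62]⟩, ⟨0, [4, 11], [52, 55, 53], [60, 48, 56, 38, 25, 55, 53, 31, 49]⟩], [⟨0, [6], [60], [50, 28, 62]⟩, ⟨0, [2], [56], [50, 48, 28, 56]⟩, ⟨0, [4], [52], [60, 48, 56, 38]⟩]⟩,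
  ⟨[], [⟨0, [6], [60], [50, 28, 62]⟩, ⟨0, [11, 2, 10], [55, 53, 56, 52, 54], [25, 55, 53, 31, 49, 50, 48, 28, 56, 48, 30, 52, 54, 24]⟩], [⟨0, [0], [44], [44]⟩, ⟨0, [8], [58], [42, 36, 32]⟩, ⟨0, [2], [56], [50, 48, 28, 56]⟩]⟩,
  ⟨[], [⟨0, [0], [44], [44]⟩, ⟨0, [2, 6], [56, 60], [50, 48, 28, 56, 50, 28, 62]⟩, ⟨0, [6, 0, 6], [60, 44, 60], [50, 28, 62, 44, 50, 28, 62]⟩, ⟨0, [4, 0, 4], [52, 44, 52], [60, 48, 56, 38, 44, 60, 48, 56, 38]⟩], [⟨0, [6], [60], [50, 28, 62]⟩, ⟨0, [8], [58], [42, 36, 32]⟩, ⟨0, [2], [56], [50, 48, 28, 56]⟩]⟩,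
  ⟨[], [⟨0, [0], [44], [44]⟩, ⟨0, [8], [58], [42, 36, 32]⟩, ⟨0, [4], [52], [60, 48, 56, 38]⟩, ⟨0, [2, 6], [56, 60], [50, 48, 28, 56, 50, 28, 62]⟩], [⟨0, [6], [60], [50, 28, 62]⟩, ⟨0, [2], [56], [50, 48, 28, 56]⟩, ⟨0, [0, 6], [44, 60], [44, 50, 28, 62]⟩]⟩,
  ⟨[], [⟨0, [0], [44], [44]⟩, ⟨0, [2], [56], [50, 48, 28, 56]⟩, ⟨0, [4, 8, 11], [52, 58, 55, 53], [60, 48, 56, 38, 42, 36, 32, 25, 55, 53, 31, 49]⟩], [⟨0, [6], [60], [50, 28, 62]⟩, ⟨0, [8], [58], [42, 36, 32]⟩, ⟨0, [4], [52], [60, 48, 56, 38]⟩]⟩,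
  ⟨[], [⟨0, [6], [60], [50, 28, 62]⟩, ⟨0, [2], [56], [50, 48, 28, 56]⟩, ⟨0, [4], [52], [60, 48, 56, 38]⟩, ⟨0, [0, 6, 0], [44, 60, 44], [44, 50, 28, 62, 44]⟩], [⟨0, [0], [44], [44]⟩, ⟨0, [8], [58], [42, 36, 32]⟩, ⟨0, [0, 6], [44, 60], [44, 50, 28, 62]⟩]⟩]

noncomputable def ct_kn_0_0_0_0_3_0 : CT := .nil

theorem s_kn_0_0_0_0_3_0 : solveB (nat_lit 11) (nat_lit 2047) htt (nat_lit 2033) 500 B0 (fun _ => true) chK 1 []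
    [[44], [56], [52], [60], [58], [52, 54]] [[44], [50, 48, 28, 56], [60, 48, 56, 38], [50, 28, 62], [42, 36, 32], [48, 30, 52, 54, 24]] (prEq 500 [[44], [56], [52], [60], [58], [52, 54]] [[44], [50, 48, 28, 56], [60, 48, 56, 38], [50, 28, 62], [42, 36, 32], [48, 30, 52, 54, 24]] ++ ([] : List (List ℕ))) ([] : List (List ℕ)) [] (fun _ => false) id ts_kn_0_0_0_0_3_0 ct_kn_0_0_0_0_3_0 = true := by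
  decide +kernel

noncomputable def ts_cK : List Tst := [⟨[], [⟨0, [0], [32], [32]⟩, ⟨0, [2], [34], [34]⟩, ⟨0, [4], [36], [36]⟩, ⟨0, [8], [40], [40]⟩], [⟨0, [6], [38], [38]⟩, ⟨0, [0, 6], [32, 38], [32, 38]⟩, ⟨0, [2, 6], [34, 38], [34, 38]⟩]⟩,
  ⟨[], [⟨0, [0], [32], [32]⟩, ⟨0, [2], [34], [34]⟩, ⟨0, [4], [36], [36]⟩, ⟨0, [6], [38], [38]⟩], [⟨0, [10], [42], [42]⟩, ⟨0, [12], [60, 62], [60, 62]⟩, ⟨0, [0, 10], [32, 42], [32, 42]⟩]⟩,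
  ⟨[], [⟨0, [0], [32], [32]⟩, ⟨0, [2], [34], [34]⟩, ⟨0, [4], [36], [36]⟩, ⟨0, [6], [38], [38]⟩], [⟨0, [12], [60, 62], [60, 62]⟩, ⟨0, [0, 12], [32, 60, 62], [32, 60, 62]⟩, ⟨0, [2, 12], [34, 60, 62], [34, 60, 62]⟩]⟩,
  ⟨[], [⟨0, [0], [32], [32]⟩, ⟨0, [4], [36], [36]⟩, ⟨0, [6], [38], [38]⟩, ⟨0, [8], [40], [40]⟩], [⟨0, [2], [34], [34]⟩, ⟨0, [12], [60, 62], [60, 62]⟩, ⟨0, [0, 2], [32, 34], [32, 34]⟩]⟩,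
  ⟨[⟨0, [2, 0], [34, 32], [34, 32]⟩], [], []⟩,
  ⟨[], [⟨0, [0], [32], [32]⟩, ⟨0, [2], [34], [34]⟩, ⟨0, [6], [38], [38]⟩, ⟨0, [12], [60, 62], [60, 62]⟩], [⟨0, [4], [36], [36]⟩, ⟨0, [8], [40], [40]⟩, ⟨0, [10], [42], [42]⟩]⟩]

noncomputable def ct_cK : CT := (.node 0 [] [] (nat_lit 0x0) (nd [(1718, (nd [(949, (nd [(0, (nd [(523, (nd [(528, (lf [(852, [])]))]))])),
  (256, (nd [(523, (nd [(528, (lf [(852, [28])]))]))]))])),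
  (1111, (nd [(0, (nd [(523, (nd [(528, (lf [(852, [30])]))]))])),
  (256, (nd [(523, (nd [(528, (lf [(852, [28, 30])]))]))]))]))]))]) .nil)

theorem s_cK : solveB (nat_lit 11) (nat_lit 2047) htt (nat_lit 2033) 500 B0 (fun _ => true) chK 1 []
    [[32], [34], [36], [38], [40], [42], [60, 62]] [[32], [34], [36], [38], [40], [42], [60, 62]] (prEq 500 [[32], [34], [36], [38], [40], [42], [60, 62]] [[32], [34], [36], [38], [40], [42], [60, 62]] ++ ([] : List (List ℕ))) ([] : List (List ℕ)) [] (memLL [[], [28], [30], [28, 30]]) id ts_cK ct_cK = true := by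
  decide +kernel

def us3 : List (List ℕ) := [[26, 5, 3, 33, 57, 63], [34], [36], [54], [42, 40], [62, 60]]

def vs3 : List (List ℕ) := [[12, 46, 48, 50, 2, 4, 27, 33, 57, 33, 43, 63], [38, 42, 38], [48, 46, 36], [54], [48, 46, 44], [48, 46, 62, 60]]

def pp3 : List (List ℕ × List ℕ) := [([4], [1, 2, 0]), ([6, 2, 6], [2]), ([2], [6, 8, 6, 2, 6, 8, 6]), ([10], [4, 2, 10, 1, 2, 1, 4]), ([1, 6, 0], [8, 1, 6, 0, 8]), ([0, 2, 0], [4, 1, 4, 0, 4, 10]), ([6], [10, 4, 0, 8, 6, 0, 6, 2, 0])]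

noncomputable def ts_sg : List Tst := [⟨[], [⟨0, [2], [54, 38, 42, 38, 54], [38, 42, 38]⟩, ⟨0, [4], [38, 42, 38], [54, 48, 46, 44, 54, 38, 42, 38, 54, 48, 46, 44, 54]⟩, ⟨0, [0], [48, 46, 36], [62, 42, 32, 56, 32, 26, 5, 3, 51, 49, 47, 13, 38, 42, 38, 12, 46, 48, 50, 2, 4, 27, 33, 57, 33, 43, 63]⟩, ⟨0, [8], [62, 42, 32, 56, 32, 26, 5, 3, 51, 49, 47, 13, 54, 12, 46, 48, 50, 2, 4, 27, 33, 57, 33, 43, 63], [48, 46, 44, 62, 42, 32, 56, 32, 26, 5, 3, 51, 49, 47, 13, 54, 12, 46, 48, 50, 2, 4, 27, 33, 57, 33, 43, 63, 48, 46, 44]⟩], []⟩,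
  ⟨[], [⟨0, [2], [54, 38, 42, 38, 54], [38, 42, 38]⟩, ⟨0, [4], [38, 42, 38], [54, 48, 46, 44, 54, 38, 42, 38, 54, 48, 46, 44, 54]⟩, ⟨0, [8], [62, 42, 32, 56, 32, 26, 5, 3, 51, 49, 47, 13, 54, 12, 46, 48, 50, 2, 4, 27, 33, 57, 33, 43, 63], [48, 46, 44, 62, 42, 32, 56, 32, 26, 5, 3, 51, 49, 47, 13, 54, 12, 46, 48, 50, 2, 4, 27, 33, 57, 33, 43, 63, 48, 46, 44]⟩, ⟨0, [10], [12, 46, 48, 50, 2, 4, 27, 33, 57, 33, 43, 63, 38, 42, 38, 12, 46, 48, 50, 2, 4, 27, 33, 57, 33, 43, 63], [48, 46, 36, 62, 42, 32, 56, 32, 26, 5, 3, 51, 49, 47, 13, 48, 46, 36, 12, 46, 48, 50, 2, 4, 27, 33, 57, 33, 43, 63, 48, 46, 36, 48, 46, 62, 60]⟩], [⟨0, [0], [48, 46, 36], [62, 42, 32, 56, 32, 26, 5, 3, 51, 49, 47, 13, 38, 42, 38, 12, 46, 48, 50, 2, 4, 27, 33, 57, 33, 43, 63]⟩, ⟨0, [0, 2], [48, 46, 36, 54, 38, 42, 38,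 54], [62, 42, 32, 56, 32, 26, 5, 3, 51, 49, 47, 13, 38, 42, 38, 12, 46, 48, 50, 2, 4, 27, 33, 57, 33, 43, 63, 38, 42, 38]⟩, ⟨0, [2, 0], [54, 38, 42, 38, 54, 48, 46, 36], [38, 42, 38, 62, 42, 32, 56, 32, 26, 5, 3, 51, 49, 47, 13, 38, 42, 38, 12, 46, 48, 50, 2, 4, 27, 33, 57, 33, 43, 63]⟩]⟩,
  ⟨[], [⟨0, [2], [54, 38, 42, 38, 54], [38, 42, 38]⟩, ⟨0, [4], [38, 42, 38], [54, 48, 46, 44, 54, 38, 42, 38, 54, 48, 46, 44, 54]⟩, ⟨0, [0], [48, 46, 36], [62, 42, 32, 56, 32, 26, 5, 3, 51, 49, 47, 13, 38, 42, 38, 12, 46, 48, 50, 2, 4, 27, 33, 57, 33, 43, 63]⟩, ⟨0, [8], [62, 42, 32, 56, 32, 26, 5, 3, 51, 49, 47, 13, 54, 12, 46, 48, 50, 2, 4, 27, 33, 57, 33, 43, 63], [48, 46, 44, 62, 42, 32, 56, 32, 26, 5, 3, 51, 49, 47, 13, 54, 12, 46, 48, 50, 2, 4, 27, 33, 57, 33, 43, 63, 48, 46, 44]⟩], []⟩,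
  ⟨[], [⟨0, [2], [54, 38, 42, 38, 54], [38, 42, 38]⟩, ⟨0, [4], [38, 42, 38], [54, 48, 46, 44, 54, 38, 42, 38, 54, 48, 46, 44, 54]⟩, ⟨0, [0], [48, 46, 36], [62, 42, 32, 56, 32, 26, 5, 3, 51, 49, 47, 13, 38, 42, 38, 12, 46, 48, 50, 2, 4, 27, 33, 57, 33, 43, 63]⟩, ⟨0, [8], [62, 42, 32, 56, 32, 26, 5, 3, 51, 49, 47, 13, 54, 12, 46, 48, 50, 2, 4, 27, 33, 57, 33, 43, 63], [48, 46, 44, 62, 42, 32, 56, 32, 26, 5, 3, 51, 49, 47, 13, 54, 12, 46, 48, 50, 2, 4, 27, 33, 57, 33, 43, 63, 48, 46, 44]⟩], [⟨0, [10], [12, 46, 48, 50, 2, 4, 27, 33, 57, 33, 43, 63, 38, 42, 38, 12, 46, 48, 50, 2, 4, 27, 33, 57, 33, 43, 63], [48, 46, 36, 62, 42, 32, 56, 32, 26, 5, 3, 51, 49, 47, 13, 48, 46, 36, 12, 46, 48, 50, 2, 4, 27, 33, 57, 33, 43, 63, 48, 46, 36, 48, 46, 62, 60]⟩, ⟨0, [11], [62, 42, 32, 56, 32, 26, 5,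 3, 51, 49, 47, 13, 39, 43, 39, 62, 42, 32, 56, 32, 26, 5, 3, 51, 49, 47, 13], [61, 63, 47, 49, 37, 47, 49, 62, 42, 32, 56, 32, 26, 5, 3, 51, 49, 47, 13, 37, 47, 49, 12, 46, 48, 50, 2, 4, 27, 33, 57, 33, 43, 63, 37, 47, 49]⟩, ⟨0, [2, 10], [54, 38, 42, 38, 54, 12, 46, 48, 50, 2, 4, 27, 33, 57, 33, 43, 63, 38, 42, 38, 12, 46, 48, 50, 2, 4, 27, 33, 57, 33, 43, 63], [38, 42, 38, 48, 46, 36, 62, 42, 32, 56, 32, 26, 5, 3, 51, 49, 47, 13, 48, 46, 36, 12, 46, 48, 50, 2, 4, 27, 33, 57, 33, 43, 63, 48, 46, 36, 48, 46, 62, 60]⟩]⟩,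
  ⟨[], [⟨0, [8], [62, 42, 32, 56, 32, 26, 5, 3, 51, 49, 47, 13, 54, 12, 46, 48, 50, 2, 4, 27, 33, 57, 33, 43, 63], [48, 46, 44, 62, 42, 32, 56, 32, 26, 5, 3, 51, 49, 47, 13, 54, 12, 46, 48, 50, 2, 4, 27, 33, 57, 33, 43, 63, 48, 46, 44]⟩, ⟨0, [6], [48, 46, 62, 60], [48, 46, 36, 38, 42, 38, 48, 46, 62, 60, 62, 42, 32, 56, 32, 26, 5, 3, 51, 49, 47, 13, 38, 42, 38, 62, 42, 32, 56, 32, 26, 5, 3, 51, 49, 47, 13, 48, 46, 36]⟩, ⟨0, [2, 6, 2], [54, 38, 42, 38, 54, 48, 46, 62, 60, 54, 38, 42, 38, 54], [38, 42, 38, 48, 46, 36, 38, 42, 38, 48, 46, 62, 60, 62, 42, 32, 56, 32, 26, 5, 3, 51, 49, 47, 13, 38, 42, 38, 62, 42, 32, 56, 32, 26, 5, 3, 51, 49, 47, 13, 48, 46, 36, 38, 42, 38]⟩, ⟨0, [2, 8, 4], [54, 38, 42, 38, 54, 62, 42, 32, 56, 32, 26, 5, 3, 51, 49, 47, 13, 54, 12, 46, 48, 50, 2, 4, 27, 33,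 57, 33, 43, 63, 38, 42, 38], [38, 42, 38, 48, 46, 44, 62, 42, 32, 56, 32, 26, 5, 3, 51, 49, 47, 13, 54, 12, 46, 48, 50, 2, 4, 27, 33, 57, 33, 43, 63, 48, 46, 44, 54, 48, 46, 44, 54, 38, 42, 38, 54, 48, 46, 44, 54]⟩], [⟨0, [2], [54, 38, 42, 38, 54], [38, 42, 38]⟩, ⟨0, [4], [38, 42, 38], [54, 48, 46, 44, 54, 38, 42, 38, 54, 48, 46, 44, 54]⟩, ⟨0, [2, 4], [54, 38, 42, 38, 54, 38, 42, 38], [38, 42, 38, 54, 48, 46, 44, 54, 38, 42, 38, 54, 48, 46, 44, 54]⟩]⟩,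
  ⟨[⟨0, [0, 4], [48, 46, 36, 38, 42, 38], [62, 42, 32, 56, 32, 26, 5, 3, 51, 49, 47, 13, 38, 42, 38, 12, 46, 48, 50, 2, 4, 27, 33, 57, 33, 43, 63, 54, 48, 46, 44, 54, 38, 42, 38, 54, 48, 46, 44, 54]⟩], [], []⟩,
  ⟨[], [⟨0, [2], [54, 38, 42, 38, 54], [38, 42, 38]⟩, ⟨0, [4], [38, 42, 38], [54, 48, 46, 44, 54, 38, 42, 38, 54, 48, 46, 44, 54]⟩, ⟨0, [0], [48, 46, 36], [62, 42, 32, 56, 32, 26, 5, 3, 51, 49, 47, 13, 38, 42, 38, 12, 46, 48, 50, 2, 4, 27, 33, 57, 33, 43, 63]⟩], [⟨0, [8], [62, 42, 32, 56, 32, 26, 5, 3, 51, 49, 47, 13, 54, 12, 46, 48, 50, 2, 4, 27, 33, 57, 33, 43, 63], [48, 46, 44, 62, 42, 32, 56, 32, 26, 5, 3, 51, 49, 47, 13, 54, 12, 46, 48, 50, 2, 4, 27, 33, 57, 33, 43, 63, 48, 46, 44]⟩, ⟨0, [2, 8], [54, 38, 42, 38, 54, 62, 42, 32, 56, 32, 26, 5, 3, 51, 49, 47, 13, 54, 12, 46,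 48, 50, 2, 4, 27, 33, 57, 33, 43, 63], [38, 42, 38, 48, 46, 44, 62, 42, 32, 56, 32, 26, 5, 3, 51, 49, 47, 13, 54, 12, 46, 48, 50, 2, 4, 27, 33, 57, 33, 43, 63, 48, 46, 44]⟩, ⟨0, [8, 2], [62, 42, 32, 56, 32, 26, 5, 3, 51, 49, 47, 13, 54, 12, 46, 48, 50, 2, 4, 27, 33, 57, 33, 43, 63, 54, 38, 42, 38, 54], [48, 46, 44, 62, 42, 32, 56, 32, 26, 5, 3, 51, 49, 47, 13, 54, 12, 46, 48, 50, 2, 4, 27, 33, 57, 33, 43, 63, 48, 46, 44, 38, 42, 38]⟩]⟩,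
  ⟨[], [⟨0, [2], [54, 38, 42, 38, 54], [38, 42, 38]⟩, ⟨0, [0, 4, 0], [48, 46, 36, 38, 42, 38, 48, 46, 36], [62, 42, 32, 56, 32, 26, 5, 3, 51, 49, 47, 13, 38, 42, 38, 12, 46, 48, 50, 2, 4, 27, 33, 57, 33, 43, 63, 54, 48, 46, 44, 54, 38, 42, 38, 54, 48, 46, 44, 54, 62, 42, 32, 56, 32, 26, 5, 3, 51, 49, 47, 13, 38, 42, 38, 12, 46, 48, 50, 2, 4, 27, 33, 57, 33, 43, 63]⟩, ⟨0, [10, 8, 11], [12, 46, 48, 50, 2, 4, 27, 33, 57, 33, 43, 63, 38, 42, 38, 12, 46, 48, 50, 2, 4, 27, 33, 57, 33, 43, 63, 62, 42, 32, 56, 32, 26, 5, 3, 51, 49, 47, 13, 54, 12, 46, 48, 50, 2, 4, 27, 33, 57, 33, 43, 63, 62, 42, 32, 56, 32, 26, 5, 3, 51, 49, 47, 13, 39, 43, 39, 62, 42, 32, 56, 32, 26, 5, 3, 51, 49, 47, 13], [48, 46, 36, 62, 42, 32, 56, 32, 26, 5, 3, 51, 49, 47, 13, 48, 46, 36, 12, 46, 48, 50, 2, 4, 27, 33, 57,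 33, 43, 63, 48, 46, 36, 48, 46, 62, 60, 48, 46, 44, 62, 42, 32, 56, 32, 26, 5, 3, 51, 49, 47, 13, 54, 12, 46, 48, 50, 2, 4, 27, 33, 57, 33, 43, 63, 48, 46, 44, 61, 63, 47, 49, 37, 47, 49, 62, 42, 32, 56, 32, 26, 5, 3, 51, 49, 47, 13, 37, 47, 49, 12, 46, 48, 50, 2, 4, 27, 33, 57, 33, 43, 63, 37, 47, 49]⟩], [⟨0, [4], [38, 42, 38], [54, 48, 46, 44, 54, 38, 42, 38, 54, 48, 46, 44, 54]⟩, ⟨0, [2, 4], [54, 38, 42, 38, 54, 38, 42, 38], [38, 42, 38, 54, 48, 46, 44, 54, 38, 42, 38, 54, 48, 46, 44, 54]⟩, ⟨0, [0], [48, 46, 36], [62, 42, 32, 56, 32, 26, 5, 3, 51, 49, 47, 13, 38, 42, 38, 12, 46, 48, 50, 2, 4, 27, 33, 57, 33, 43, 63]⟩]⟩]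

noncomputable def ct_sg : CT := (.node 0 [] [] (nat_lit 0x0) (nd [(1577, (nd [(1583, (nd [(1748, (nd [(1364, (nd [(1436, (nd [(1433, (nd [(0, (lf [(546, [0, 5, 10, 7, 5, 0, 9, 4, 0, 6, 0, 4])]))]))]))]))]))]))]))]) .nil)

theorem s_sg : solveB (nat_lit 11) (nat_lit 2047) htt (nat_lit 2033) 500 B0 (fun _ => true) chT 0 []
    (pp3.map fun p => subst vs3 p.1) (pp3.map fun p => subst vs3 p.2)
    (prEq 500 (pp3.map fun p => subst vs3 p.1) (pp3.map fun p => subst vs3 p.2) ++ [[1000, 1000, 1000]]) [] []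
    (fun u => eqL u [0, 5, 10, 7, 5, 0, 9, 4, 0, 6, 0, 4]) id ts_sg ct_sg = true := by
  decide +kernel



end Cfsg.Agent.Lib.Co2MH
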