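import Cfsg.Agent.Lib.TCGroup
import Cfsg.Agent.Lib.TCCo2HC0

set_option autoImplicit false
set_option maxRecDepth 100000

namespace Cfsg.Agent.Lib.TCCo2H
open Cfsg.Agent.Lib.TCCore

theorem rowsS : P.RowsS 0 P.N := s0

theorem rowsT : P.RowsT P.N P.M := t0

def base : List (List Nat) := [
  [0, 1],
  [2, 3],
  [4, 5],
  [6, 7],
  [8, 9],
  [10, 11],
  [12, 12],
  [13, 13],
  [14, 14],
  [15, 15],
  [16, 16],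
  [17, 17],
  [18, 18],
  [19, 19],
  [2, 0, 2, 0],
  [0, 0, 0],
  [2, 2, 2],
  [4, 4, 4],
  [6, 6, 6],
  [8, 8, 8],
  [10, 10, 10],
  [0, 3, 0, 2, 1, 2],
  [0, 2, 4, 3, 1, 4],
  [0, 4, 0, 5, 1, 3],
  [0, 6, 0, 7, 1, 7],
  [0, 7, 4, 6, 1, 5],
  [4, 8, 5, 9],
  [0, 7, 8, 6, 1, 8],
  [0, 9, 0, 8, 1, 8],
  [6, 10, 7, 11],
  [8, 10, 9, 11],
  [2, 4, 10, 5, 3, 10],
  [2, 10, 2, 11, 3, 5],
  [12, 13, 12, 13, 12, 13, 12, 13],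
  [12, 14, 12, 14],
  [12, 15, 12, 15],
  [12, 16, 12, 16],
  [12, 17, 12, 17],
  [12, 18, 12, 18],
  [12, 19, 12, 19],
  [13, 14, 13, 14],
  [13, 15, 13, 15],
  [13, 16, 13, 16],
  [13, 17, 13, 17],
  [13, 18, 13, 18],
  [13, 19, 13, 19],
  [14, 15, 14, 15, 12, 13, 12, 13],
  [14, 16, 14, 16],
  [14, 17, 14, 17],
  [14, 18, 14, 18],
  [14, 19, 14, 19],
  [15, 16, 15, 16],
  [15, 17, 15, 17],
  [15, 18, 15, 18],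
  [15, 19, 15, 19],
  [16, 17, 16, 17, 12, 13, 12, 13],
  [16, 18, 16, 18],
  [16, 19, 16, 19],
  [17, 18, 17, 18],
  [17, 19, 17, 19],
  [18, 19, 18, 19, 12, 13, 12, 13],
  [0, 12, 1, 19, 14, 13, 12, 13, 12],
  [0, 13, 1, 15, 12, 13, 12],
  [0, 14, 1, 19, 17, 14, 12],
  [0, 15, 1, 13],
  [0, 16, 1, 18, 15],
  [0, 17, 1, 19, 17, 13, 12, 13, 12],
  [0, 18, 1, 18, 16, 15, 13],
  [0, 19, 1, 17],
  [2, 12, 3, 19, 16, 12, 13, 12, 13, 12],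
  [2, 13, 3, 19, 17, 13, 12, 13, 12],
  [2, 14, 3, 19, 18, 17, 16, 13, 12, 13, 12],
  [2, 15, 3, 19, 15, 13, 12, 13, 12],
  [2, 16, 3, 15, 12, 13, 12, 13, 12],
  [2, 17, 3, 19, 17, 15, 12, 13, 12],
  [2, 18, 3, 18, 16, 15, 14, 13, 12, 13, 12, 13, 12],
  [2, 19, 3, 15],
  [4, 12, 5, 19, 16, 13, 12, 13, 12],
  [4, 13, 5, 19, 17, 14, 12, 13, 12],
  [4, 14, 5, 19, 18, 17, 16, 14, 13, 12, 13, 12],
  [4, 15, 5, 16, 12],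
  [4, 16, 5, 19, 15, 12],
  [4, 17, 5, 19, 18, 17, 15, 14, 12, 13, 12],
  [4, 18, 5, 18, 17, 16, 15, 13, 12],
  [4, 19, 5, 16, 15],
  [6, 12, 7, 19, 12],
  [6, 13, 7, 18, 16, 13, 12, 13, 12],
  [6, 14, 7, 19, 17, 13, 12, 13, 12],
  [6, 15, 7, 16, 15],
  [6, 16, 7, 15],
  [6, 17, 7, 19, 17, 14, 12],
  [6, 18, 7, 18, 16, 15, 13],
  [6, 19, 7, 12],
  [8, 12, 9, 19, 14, 12, 13, 12, 13, 12],
  [8, 13, 9, 16, 15],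
  [8, 14, 9, 17, 14, 12],
  [8, 15, 9, 18, 13],
  [8, 16, 9, 18, 16, 15],
  [8, 17, 9, 19, 12],
  [8, 18, 9, 18, 16, 13],
  [8, 19, 9, 17, 14, 13, 12, 13, 12],
  [10, 12, 11, 16, 12],
  [10, 13, 11, 19, 17, 14, 13, 12, 13, 12],
  [10, 14, 11, 18, 16, 14, 13, 12, 13, 12],
  [10, 15, 11, 19, 12],
  [10, 16, 11, 12],
  [10, 17, 11, 18, 17, 15, 13],
  [10, 18, 11, 14, 12, 13, 12, 13, 12],
  [10, 19, 11, 19, 16, 15]]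

theorem static_ok : TCGroup.static P base [1, 0, 3, 2, 5, 4, 7, 6, 9, 8, 11, 10, 12, 13, 14, 15, 16, 17, 18, 19] 20 20 [0, 2, 4, 6, 8, 10] = true := by decide +kernel

theorem bound {G : Type*} [Group G] (y : Nat → G) (H : Subgroup G)
    (hrel : ∀ r ∈ base, (r.map y).prod = 1) (hinv : ∀ i < 20, y (List.getD [1, 0, 3, 2, 5, 4, 7, 6, 9, 8, 11, 10, 12, 13, 14, 15, 16, 17, 18, 19] i i) = (y i)⁻¹)
    (hsub : ∀ i ∈ ([0, 2, 4, 6, 8, 10] : List Nat), y i ∈ H) :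
    H.relIndex (Subgroup.closure (y '' {i | i < 20})) ≠ 0 ∧
      H.relIndex (Subgroup.closure (y '' {i | i < 20})) ≤ 512 :=
  TCGroup.relIndex_le y 20 20 base [1, 0, 3, 2, 5, 4, 7, 6, 9, 8, 11, 10, 12, 13, 14, 15, 16, 17, 18, 19] [0, 2, 4, 6, 8, 10] P H hrel hinv hsub static_ok rowsS rowsT

end Cfsg.Agent.Lib.TCCo2H
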