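import Cfsg.Agent.Lib.Co3A
import Cfsg.Agent.Lib.TCCo2H

/-! An order bound for the split extension of the extraspecial group of order `2 ^ 9` by `Sp₆(2)`. -/

set_option autoImplicit false
set_option maxRecDepth 100000

namespace Cfsg.Agent.Lib.Co2TC

open Cfsg.Agent.Lib.PermNet Cfsg.Agent.Lib.Words Cfsg.Agent.Lib.PermGroup Cfsg.Agent.Lib.DCE

/-- The relators of the extraspecial group and the action on it. -/
def KQ : List (List ℕ) := [[12, 12], [14, 14], [16, 16], [18, 18], [20, 20], [22, 22], [24, 24], [26, 26], [12, 14, 12, 14, 12, 14, 12, 14], [12, 16, 12, 16], [12, 18, 12, 18], [12, 20, 12, 20], [12, 22, 12, 22], [12, 24, 12, 24], [12, 26, 12, 26], [14, 16, 14, 16], [14, 18, 14, 18], [14, 20, 14, 20], [14, 22, 14, 22], [14, 24, 14, 24], [14, 26, 14, 26], [16, 18, 16, 18, 12, 14, 12, 14], [16, 20, 16, 20], [16, 22, 16, 22], [16, 24, 16, 24], [16, 26, 16, 26], [18,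 20, 18, 20], [18, 22, 18, 22], [18, 24, 18, 24], [18, 26, 18, 26], [20, 22, 20, 22, 12, 14, 12, 14], [20, 24, 20, 24], [20, 26, 20, 26], [22, 24, 22, 24], [22, 26, 22, 26], [24, 26, 24, 26, 12, 14, 12, 14], [0, 12, 1, 26, 16, 14, 12, 14, 12], [0, 14, 1, 18, 14, 14, 12, 14, 12], [0, 16, 1, 26, 22, 16, 12], [0, 18, 1, 14], [0, 20, 1, 24, 18], [0, 22, 1, 26, 22, 14, 12, 14, 12], [0, 24, 1, 24, 20, 18, 14], [0, 26, 1, 22], [2, 12, 3, 26, 20, 12, 14, 12, 14, 12], [2, 14, 3, 26, 22, 14, 12, 14, 12], [2, 16, 3, 26, 24, 22, 20, 14, 12, 14, 12], [2, 18, 3, 26, 18, 14, 12, 14, 12], [2, 20, 3, 18, 12, 14, 12, 14, 12], [2, 22, 3, 26, 22, 18, 14, 14, 12, 14, 12], [2, 24, 3, 24, 20, 18, 16, 14, 12, 14, 12, 14, 12], [2, 26, 3, 18], [4, 12, 5, 26, 20, 14, 12, 14, 12], [4, 14, 5, 26, 22, 16, 14, 14, 12, 14, 12], [4, 16, 5, 26, 24, 22, 20, 16, 14, 12, 14, 12], [4, 18, 5, 20, 12], [4,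 20, 5, 26, 18, 12], [4, 22, 5, 26, 24, 22, 18, 16, 14, 14, 12, 14, 12], [4, 24, 5, 24, 22, 20, 18, 14, 12], [4, 26, 5, 20, 18], [6, 12, 7, 26, 12], [6, 14, 7, 24, 20, 14, 12, 14, 12], [6, 16, 7, 26, 22, 14, 12, 14, 12], [6, 18, 7, 20, 18], [6, 20, 7, 18], [6, 22, 7, 26, 22, 16, 12], [6, 24, 7, 24, 20, 18, 14], [6, 26, 7, 12], [8, 12, 9, 26, 16, 12, 14, 12, 14, 12], [8, 14, 9, 20, 18], [8, 16, 9, 22, 16, 12], [8, 18, 9, 24, 14], [8, 20, 9, 24, 20, 18], [8, 22, 9, 26, 12], [8, 24, 9, 24, 20, 14], [8, 26, 9, 22, 16, 14, 12, 14, 12], [10, 12, 11, 20, 12], [10, 14, 11, 26, 22, 16, 14, 12, 14, 12], [10, 16, 11, 24, 20, 16, 14, 12, 14, 12], [10, 18, 11, 26, 12], [10, 20, 11, 12], [10, 22, 11, 24, 22, 18, 14], [10, 24, 11, 16, 12, 14, 12, 14, 12], [10, 26, 11, 26, 20, 18]]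

/-- All relators. -/
def KH : List (List ℕ) := ([2, 0, 2, 0] :: Co3HTC.K1) ++ KQ

theorem b1 {X : Type*} [Group X] (z : ℕ → X) (hz : ∀ w ∈ KH, wval z w = 1) :
    (gp z (sing 6)).relIndex (gp z (sing 14)) ≠ 0 ∧ (gp z (sing 6)).relIndex (gp z (sing 14)) ≤ 512 :=
  tc_wrap [6, 7, 8, 9, 10, 11, 12, 13] hz [[0], [1], [2], [3], [4], [5], [6], [7], [8], [9], [10], [11],
    [12], [14], [16], [18], [20], [22], [24], [26]] TCCo2H.bound _ _ (by decide +kernel)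

theorem card_le {X : Type*} [Group X] (z : ℕ → X) (hz : ∀ w ∈ KH, wval z w = 1) :
    Nat.card (gp z (sing 14)) ≠ 0 ∧ Nat.card (gp z (sing 14)) ≤ 743178240 :=
  card_le_of_relIndex (gp_mono (by decide)) (b1 z hz)
    (Co3A.card_le' z fun w hw => hz w (List.mem_append_left _ hw))

end Cfsg.Agent.Lib.Co2TC
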