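import Cfsg.Agent.Lib.Co3HTC
import Cfsg.Agent.Lib.TCCo3H4
import Cfsg.Agent.Lib.MatChk
import Cfsg.Agent.Lib.FormOrder
import Cfsg.Agent.Lib.BT3
import Cfsg.Prelude.Def_SporadicB

/-! Generators and relations for a non-split double cover of `Sp₆(2)`. -/

set_option autoImplicit false
set_option maxRecDepth 100000

namespace Cfsg.Agent.Lib.Co3A

open Subgroup Cfsg.Agent.Lib.PermNet Cfsg.Agent.Lib.Words Cfsg.Agent.Lib.PermGroup Cfsg.Agent.Lib.DCE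
  Cfsg.Agent.Lib.MatChk Cfsg.Agent.Lib.Co3HTC Matrix

theorem b4 {X : Type*} [Group X] (z : ℕ → X) (hz : ∀ w ∈ [2, 0, 2, 0] :: K1, wval z w = 1) :
    (gp z []).relIndex (gp z [[0], [2], [4]]) ≠ 0 ∧
    (gp z []).relIndex (gp z [[0], [2], [4]]) ≤ 60 :=
  tc_wrap [] hz [[0], [1], [2], [3], [4], [5]] TCCo3H4.bound _ _ (by decide +kernel)

theorem card_le' {X : Type*} [Group X] (z : ℕ → X) (hz : ∀ w ∈ [2, 0, 2, 0] :: K1, wval z w = 1) :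
    Nat.card (gp z (sing 6)) ≠ 0 ∧ Nat.card (gp z (sing 6)) ≤ 1451520 :=
  (card_le_of_relIndex (gp_mono (by decide)) (b1 z fun w hw => hz w (List.mem_cons_of_mem _ hw))
    (card_le_of_relIndex (gp_mono (by decide)) (b2 z fun w hw => hz w (List.mem_cons_of_mem _ hw))
    (card_le_of_relIndex (gp_mono (by decide)) (b4 z hz)
    (card_gp_nil z))))

/-- The matrices. -/
def ms : List Mat :=
  [[[1,0,0,0,0,0], [0,1,1,0,1,0], [0,0,0,0,1,1], [0,0,0,1,0,0], [0,0,0,0,1,0], [0,0,1,0,1,1]],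
   [[1,0,0,0,0,0], [0,1,1,0,1,1], [0,0,1,0,0,1], [0,0,0,1,0,0], [0,0,0,0,1,0], [0,0,1,0,1,0]],
   [[1,0,0,0,0,0], [1,0,1,0,1,0], [0,0,1,0,0,0], [1,1,0,1,0,0], [1,1,0,0,1,0], [1,1,1,0,1,1]],
   [[1,0,0,0,0,0], [0,1,1,0,1,0], [0,0,1,0,0,0], [1,1,1,1,1,0], [1,1,1,0,0,0], [0,0,1,0,1,1]],
   [[1,0,0,1,0,0], [0,1,0,0,0,0], [0,0,1,0,0,0], [1,1,0,0,0,0], [1,1,0,1,1,0], [0,0,0,0,0,1]],
   [[0,1,0,1,0,0], [0,1,0,0,0,0], [0,0,1,0,0,0], [1,1,0,1,0,0], [1,1,0,0,1,0], [0,0,0,0,0,1]],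
   [[1,0,0,0,0,0], [0,1,1,0,1,0], [0,0,1,0,0,0], [0,0,0,1,0,0], [0,1,1,0,0,0], [0,0,1,0,1,1]],
   [[1,0,0,0,0,0], [0,0,1,0,1,0], [0,0,1,0,0,0], [0,0,0,1,0,0], [0,1,0,0,1,0], [0,1,1,0,1,1]],
   [[1,0,0,0,0,0], [0,1,0,0,0,0], [0,0,1,0,0,1], [0,0,0,1,0,0], [0,0,0,0,1,0], [0,0,1,0,0,0]],
   [[1,0,0,0,0,0], [0,1,0,0,0,0], [0,0,0,0,0,1], [0,0,0,1,0,0], [0,0,0,0,1,0], [0,0,1,0,0,1]],
   [[0,0,0,1,0,0], [0,1,0,0,0,0], [0,0,1,0,0,0], [1,0,0,1,0,0], [0,0,0,0,1,0], [0,0,0,0,0,1]],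
   [[1,0,0,1,0,0], [0,1,0,0,0,0], [0,0,1,0,0,0], [1,0,0,0,0,0], [0,0,0,0,1,0], [0,0,0,0,0,1]],
   [[1,1,0,0,0,0], [0,1,0,0,0,0], [0,0,1,0,0,0], [0,0,0,1,0,0], [0,1,0,1,1,0], [0,0,0,0,0,1]],
   [[1,1,0,1,0,1], [0,1,0,0,0,0], [0,1,1,1,0,0], [0,0,0,1,0,0], [0,1,0,1,1,1], [0,0,0,0,0,1]],
   [[1,1,1,1,0,0], [0,1,0,0,0,0], [0,0,1,0,0,0], [0,0,0,1,0,0], [0,1,1,1,1,0], [0,1,0,1,0,1]],
   [[1,0,0,1,0,1], [0,1,1,1,1,0], [0,1,0,0,1,0], [0,0,0,1,0,0], [0,1,0,0,1,1], [0,0,1,1,1,1]],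
   [[1,0,0,0,1,1], [0,1,0,1,1,0], [0,1,1,0,1,0], [0,0,0,1,0,0], [0,1,0,1,0,1], [0,0,0,0,0,1]],
   [[1,0,0,1,1,0], [0,1,0,1,1,0], [0,1,1,1,1,1], [0,0,0,1,0,0], [0,1,0,1,0,1], [0,0,0,0,0,1]],
   [[1,0,0,1,1,0], [0,1,0,1,1,0], [0,1,0,1,1,1], [0,0,0,1,0,0], [0,1,1,1,0,1], [0,0,1,0,0,1]],
   [[1,1,0,0,0,1], [0,0,0,0,0,1], [0,1,0,1,1,1], [0,0,0,1,0,0], [0,1,1,1,0,1], [0,1,0,0,0,0]],
   [[1,0,0,0,0,0], [0,1,0,0,0,0], [0,0,1,0,0,0], [0,0,0,1,0,0], [0,0,0,0,1,0], [0,0,1,0,0,1]],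
   [[1,0,0,0,0,0], [0,1,0,0,0,0], [0,1,0,0,0,1], [0,0,0,1,0,0], [0,1,1,0,1,1], [0,0,1,0,0,1]],
   [[1,0,0,0,0,0], [0,1,0,0,0,0], [0,1,0,0,0,1], [0,0,0,1,0,0], [0,1,1,0,1,1], [0,1,1,0,0,0]]]


theorem hw : wf (arZ 2 6) ms = true := by decide +kernel

/-- The straight line program. -/
def st : List (ℕ × List ℕ × List ℕ) :=
  [(12, [], [4, 11, 4]), (13, [], [2, 1, 6, 3, 5, 7, 1, 2]), (14, [], [9, 9, 13, 9, 13]), (15,
  [], [13, 7, 12]), (16, [], [9, 9, 12, 7, 9, 13]), (17, [], [16, 16, 16, 16]), (18, [], [14, 16,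
  16, 14, 16, 14]), (19, [], [14, 16, 14, 15]), (20, [], [17, 17, 18]), (21, [], [17, 18, 17, 18,
  17]), (22, [], [20, 21])]

theorem hst : slp (arZ 2 6) ms st (List.range 12) = true := by decide +kernel

def t0 : T :=
  (.nd (.nd (.nd (.nd (.nd (.nd .lf 1 0 0 .lf) 2 7 2 (.nd .lf 3 6 7 .lf)) 4 3 0 (.nd (.nd .lf 5 4
  11 .lf) 6 3 9 (.nd .lf 7 4 11 .lf))) 8 1 11 (.nd (.nd (.nd .lf 9 1 10 .lf) 10 7 11 (.nd .lf 11
  7 10 .lf)) 12 3 6 (.nd (.nd .lf 13 3 6 .lf) 14 3 9 (.nd .lf 15 3 9 .lf)))) 16 3 6 (.nd (.nd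
  (.nd (.nd .lf 17 2 11 .lf) 18 8 5 (.nd .lf 19 5 3 .lf)) 20 9 9 (.nd (.nd .lf 21 4 3 .lf) 22 4 9
  (.nd .lf 23 3 11 .lf))) 24 1 4 (.nd (.nd (.nd .lf 25 1 2 .lf) 26 6 11 (.nd .lf 27 6 10 .lf)) 28
  5 11 (.nd (.nd .lf 29 5 10 .lf) 30 3 9 (.nd .lf 31 2 9 .lf))))) 32 4 8 (.nd (.nd (.nd (.nd (.nd
  .lf 33 5 11 .lf) 34 2 5 (.nd .lf 35 3 11 .lf)) 36 4 3 (.nd (.nd .lf 37 4 11 .lf) 38 3 5 (.nd
  .lf 39 4 11 .lf))) 40 4 8 (.nd (.nd (.nd .lf 41 4 8 .lf) 42 2 7 (.nd .lf 43 2 7 .lf)) 44 4 6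
  (.nd (.nd .lf 45 3 6 .lf) 46 3 7 (.nd .lf 47 3 7 .lf)))) 48 8 3 (.nd (.nd (.nd (.nd .lf 49 5 8
  .lf) 50 3 5 (.nd .lf 51 2 11 .lf)) 52 9 1 (.nd (.nd .lf 53 4 2 .lf) 54 4 6 (.nd .lf 55 3 11
  .lf))) 56 6 11 (.nd (.nd (.nd .lf 57 6 10 .lf) 58 2 4 (.nd .lf 59 1 3 .lf)) 60 5 11 (.nd (.nd
  .lf 61 5 10 .lf) 62 2 1 (.nd .lf 63 2 1 .lf))))))

theorem tl0 : level (arZ 2 6) ms [0, 1, 2, 3, 4, 5, 6, 7, 8, 9, 10, 11] [] 1 t0 63 = true := by decide +kernel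

def t1 : T :=
  (.nd (.nd (.nd (.nd (.nd (.nd .lf 8 3 12 .lf) 9 2 12 .lf) 10 6 7 (.nd .lf 11 6 7 .lf)) 12 2 13
  (.nd (.nd .lf 13 3 13 .lf) 14 2 9 (.nd .lf 15 2 7 .lf))) 24 2 7 (.nd (.nd (.nd .lf 25 1 7 .lf)
  26 7 7 (.nd .lf 27 7 7 .lf)) 28 3 13 (.nd (.nd .lf 29 4 13 .lf) 30 2 12 (.nd .lf 31 1 9 .lf))))
  40 4 9 (.nd (.nd (.nd (.nd .lf 41 4 9 .lf) 42 1 13 (.nd .lf 43 2 7 .lf)) 44 3 9 (.nd (.nd .lf
  45 3 7 .lf) 46 3 13 (.nd .lf 47 3 7 .lf))) 56 5 9 (.nd (.nd (.nd .lf 57 5 12 .lf) 58 1 12 (.nd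
  .lf 59 0 9 .lf)) 60 4 9 (.nd (.nd .lf 61 4 12 .lf) 62 3 12 (.nd .lf 63 2 9 .lf)))))

theorem tl1 : level (arZ 2 6) ms [9, 7, 12, 13] [1] 59 t1 32 = true := by decide +kernel

def t2 : T :=
  (.nd (.nd (.nd (.nd .lf 8 4 15 .lf) 11 3 15 (.nd .lf 13 3 16 .lf)) 14 3 14 (.nd (.nd .lf 25 0
  14 .lf) 26 4 15 (.nd .lf 28 1 16 .lf))) 31 2 15 (.nd (.nd (.nd .lf 40 1 14 .lf) 43 3 16 (.nd
  .lf 45 3 16 .lf)) 46 2 14 (.nd (.nd .lf 57 4 15 .lf) 60 2 16 (.nd .lf 63 1 15 .lf))))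

theorem tl2 : level (arZ 2 6) ms [14, 15, 16] [59, 1] 25 t2 15 = true := by decide +kernel

def t3 : T :=
  (.nd (.nd (.nd (.nd .lf 8 0 17 .lf) 11 1 17 .lf) 28 1 19 (.nd .lf 31 2 17 .lf)) 40 2 19 (.nd
  (.nd .lf 43 3 19 .lf) 60 2 18 (.nd .lf 63 2 18 .lf)))

theorem tl3 : level (arZ 2 6) ms [17, 18, 19] [25, 59, 1] 8 t3 8 = true := by decide +kernel

def t4 : T :=
  (.nd (.nd .lf 11 1 21 .lf) 31 0 20 (.nd .lf 63 1 20 .lf))

theorem tl4 : level (arZ 2 6) ms [20, 21] [8, 25, 59, 1] 31 t4 3 = true := by decide +kernel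

def t5 : T :=
  (.nd (.nd .lf 11 1 22 .lf) 63 0 22 .lf)

theorem tl5 : level (arZ 2 6) ms [22] [31, 8, 25, 59, 1] 63 t5 2 = true := by decide +kernel

/-- The meaning of the codes. -/
def sm : Sem (arZ 2 6) (ZMod 2) (Fin 3 ⊕ Fin 3) :=
  semZ 2 6 (by norm_num) (finSumFinEquiv : Fin 3 ⊕ Fin 3 ≃ Fin 6)

/-- The symplectic group. -/
abbrev X := symplecticGroup (Fin 3) (ZMod 2)

/-- The matrix of an element. -/
def ρ : X →* Matrix (Fin 3 ⊕ Fin 3) (Fin 3 ⊕ Fin 3) (ZMod 2) := Submonoid.subtype _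

theorem ρ_inj : Function.Injective ρ := Subtype.val_injective

theorem rep_top : ∀ l ∈ [0, 2, 4, 6, 8, 10], sm.Rep ρ ms ⊤ l := fun l hl =>
  ⟨⟨sm.mat (gm ms l), by rw [gm_eq, SymplecticGroup.mem_iff]; revert l; decide +kernel⟩, trivial, rfl⟩

/-- The generators. -/
noncomputable def f (i : ℕ) : X := sm.el ρ ms ⊤ (2 * i)

theorem hF : ∀ l < 12, ρ (lval f l) = sm.mat (gm ms l) := fun l hl => by
  have h1 : ρ (f (l / 2)) = sm.mat (gm ms (2 * (l / 2))) :=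
    sm.rho_el ρ rep_top _ ((by decide : ∀ l < 12, 2 * (l / 2) ∈ [0, 2, 4, 6, 8, 10]) l hl)
  unfold lval
  split_ifs with h
  · rw [h1, show 2 * (l / 2) = l by omega]
  · have h2 := sm.mul_eq_one hw (k := 2 * (l / 2)) (l := 2 * (l / 2) + 1)
      ((by decide +kernel : ∀ i < 6, eqB (arZ 2 6) ms [2 * i, 2 * i + 1] [] 1 = true) (l / 2) (by omega))
    rw [show 2 * (l / 2) + 1 = l by omega, ← h1] at h2
    rw [← mul_one (ρ _), ← h2, ← mul_assoc, ← map_mul, inv_mul_cancel, map_one, one_mul]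

theorem hf : ∀ w ∈ [2, 0, 2, 0] :: K1, wval f w = 1 := fun w hw' => ρ_inj (by
  have h := List.all_eq_true.1 (by decide +kernel : ([2, 0, 2, 0] :: K1).all (fun w =>
    w.all (fun l => decide (l < 12)) && eqB (arZ 2 6) ms w [] 1) = true) w hw'
  rw [Bool.and_eq_true] at h
  rw [wval, sm.map_prod ρ hF h.1, sm.wm_eq_one hw h.2, map_one]
  rfl)

theorem card_ge : 1451520 ≤ Nat.card (gp f (sing 6)) := by
  have h := sm.rep_of_slp hw ρ st (kn := List.range 12) (A := gp f (sing 6)) (fun l hl => ⟨lval f l, by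
    have := List.mem_range.1 hl
    have h1 : f (l / 2) ∈ gp f (sing 6) := mem_sing f (by omega)
    unfold lval
    split_ifs
    exacts [h1, inv_mem h1], hF l (List.mem_range.1 hl)⟩) hst
  rw [← sm.fx_nil ρ (gp _ _)]
  exact (sm.le_card ρ hw (Sem.Rep.sub _ _ h (by decide)) tl0
    (sm.le_card ρ hw (Sem.Rep.sub _ _ h (by decide)) tl1
    (sm.le_card ρ hw (Sem.Rep.sub _ _ h (by decide)) tl2
    (sm.le_card ρ hw (Sem.Rep.sub _ _ h (by decide)) tl3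
    (sm.le_card ρ hw (Sem.Rep.sub _ _ h (by decide)) tl4
    (sm.le_card ρ hw (Sem.Rep.sub _ _ h (by decide)) tl5
    (sm.one_le ρ _)))))))

theorem card_X : Nat.card X = 1451520 := by
  rw [FormOrder.card_symplecticGroup, ZMod.card]
  decide

theorem gp_top : gp f (sing 6) = ⊤ := Subgroup.eq_top_of_le_card _ (card_X.le.trans card_ge)

/-- The conjugation relations. -/
def RB : List (List ℕ × ℕ × ℕ) := [([0, 3], 0, 3), ([0, 2], 4, 5), ([0, 4], 0, 2), ([0, 6], 0, 6),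
  ([0, 7], 4, 4), ([4], 8, 8), ([0, 7], 8, 9), ([0, 9], 0, 9), ([6], 10, 10), ([8], 10, 10),
  ([2, 4], 10, 11), ([2, 10], 2, 4)]

theorem exists_lift {H : Type*} [Group H] [Finite H] {z : H} (hz : z ≠ 1) (hc : z ∈ center H)
    (hC : IsNonsplitDoubleCover H X) : ∃ y : ℕ → H, gp y (sing 6) = ⊤ ∧ (∀ w ∈ K1, wval y w = 1) ∧
      wval y [2, 0, 2, 0] = z ∧ Nat.card H = 2903040 := by
  obtain ⟨h2, ⟨e⟩, hn⟩ := hC
  let π : H →* X := e.toMonoidHom.comp (QuotientGroup.mk' _)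
  have hs : Function.Surjective π := e.surjective.comp (QuotientGroup.mk'_surjective _)
  have hk : ∀ g, π g = 1 ↔ g ∈ center H := fun g =>
    (map_eq_one_iff e e.injective).trans (QuotientGroup.eq_one_iff g)
  have key : ∀ g ∈ center H, g = 1 ∨ g = z := fun g hg => by
    obtain ⟨y, -, hy⟩ := (Nat.card_eq_two_iff' (1 : center H)).mp h2
    by_cases h : g = 1
    · exact .inl h
    · exact .inr (congrArg Subtype.val ((hy ⟨g, hg⟩ fun e => h (congrArg Subtype.val e)).trans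
        (hy ⟨z, hc⟩ fun e => hz (congrArg Subtype.val e)).symm))
  have zz : z * z = 1 := (key _ (mul_mem hc hc)).resolve_right fun e => hz (mul_eq_left.1 e)
  have card : Nat.card H = 2903040 := by
    rw [card_eq_card_quotient_mul_card_subgroup (center H), Nat.card_congr e.toEquiv, card_X, h2]
  have f3 : ∀ i < 6, f i ^ 3 = 1 := fun i hi => by
    have := hf [2 * i, 2 * i, 2 * i] (by revert i; decide)
    simpa [wval, lval, pow_succ, mul_assoc] using this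
  have h1 : ∀ i < 6, ∃ y : H, π y = f i ∧ y ^ 3 = 1 := fun i hi => by
    obtain ⟨x, hx⟩ := hs (f i)
    refine ⟨x ^ 4, by rw [map_pow, hx, pow_succ, f3 i hi, one_mul], ?_⟩
    rw [← pow_mul, show 4 * 3 = 3 * 2 * 2 from rfl, pow_mul, pow_mul]
    rcases key _ ((hk (x ^ 3)).1 (by rw [map_pow, hx, f3 i hi])) with h | h <;> rw [h]
    · simp
    · rw [sq z, zz, one_pow]
  choose! y hy y3 using h1
  have hw : ∀ w : List ℕ, w.all (fun l => decide (l < 2 * 6)) = true → π (wval y w) = wval f w :=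
    fun w h => (map_wval π y w).trans (wval_congr hy (by simpa using h))
  have l3 : ∀ l < 12, wval y [l] ^ (2 * 1 + 1) = 1 := fun l hl => by
    have := y3 (l / 2) (by omega)
    rw [wval_cons, wval_nil, mul_one, lval]
    split_ifs
    · exact this
    · rw [inv_pow, this, inv_one]
  have rel : ∀ w ∈ K1, wval y w = 1 := by
    rw [show K1 = (List.range 6).map (fun i => [2 * i, 2 * i, 2 * i]) ++
      RB.map fun r => (r.1 ++ [r.2.1] ++ invW r.1) ++ invW [r.2.2] by decide, List.forall_mem_append,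
      List.forall_mem_map, List.forall_mem_map]
    refine ⟨fun i hi => by
      simpa [wval, lval, pow_succ, mul_assoc] using y3 i (List.mem_range.1 hi), fun r hr => ?_⟩
    obtain ⟨a1, a2, a3, a4⟩ := (by decide : ∀ r ∈ RB, r.2.1 < 12 ∧ r.2.2 < 12 ∧
      (r.1 ++ [r.2.1] ++ invW r.1) ++ invW [r.2.2] ∈ [2, 0, 2, 0] :: K1 ∧
      ((r.1 ++ [r.2.1] ++ invW r.1) ++ invW [r.2.2]).all (fun l => decide (l < 2 * 6)) = true) r hr
    have := key _ ((hk _).1 ((hw _ a4).trans (hf _ a3)))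
    rw [wval_append, wval_invW] at this ⊢
    rw [mul_inv_eq_one]
    refine BT.rigid (k := 1) zz (mem_center_iff.1 hc _) ?_ (l3 _ a2) ((BT.mem_zpowers_two zz).2 this)
    rw [wval_append, wval_append, wval_invW, conj_pow, l3 _ a1]; simp
  have sur : ∀ g : H, ∃ x ∈ gp y (sing 6), g * x⁻¹ ∈ center H := fun g => by
    have : π g ∈ (gp y (sing 6)).map π := by
      rw [map_gp, gp_congr hy (by decide), gp_top]; exact mem_top _
    obtain ⟨x, hx, e⟩ := this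
    exact ⟨x, hx, (hk _).1 (by rw [map_mul, map_inv, e, mul_inv_cancel])⟩
  have zm : z ∈ gp y (sing 6) := by_contra fun h => hn (gp y (sing 6))
    (isComplement'_of_disjoint_and_mul_eq_univ (disjoint_def.2 fun {g} h1 h2 =>
      (key g h1).resolve_right fun e => h (e ▸ h2)) (Set.eq_univ_of_forall fun g => by
        obtain ⟨x, hx, e⟩ := sur g
        exact ⟨_, e, x, hx, by simp⟩))
  have top : gp y (sing 6) = ⊤ := eq_top_iff.2 fun g _ => by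
    obtain ⟨x, hx, e⟩ := sur g
    have : g * x⁻¹ ∈ gp y (sing 6) := by
      rcases key _ e with h | h <;> rw [h]
      exacts [one_mem _, zm]
    simpa using mul_mem this hx
  refine ⟨y, top, rel, (key _ ((hk _).1 ((hw _ (by decide)).trans
    (hf _ List.mem_cons_self)))).resolve_left fun h => ?_, card⟩
  have := (card_le' y (List.forall_mem_cons.2 ⟨h, rel⟩)).2
  rw [top, card_top, card] at this
  omega

theorem exists_gens {G : Type*} [Group G] [Finite G] {z : G} (hz : orderOf z = 2)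
    (hC : IsNonsplitDoubleCover (centralizer {z}) (Matrix.symplecticGroup (Fin 3) (ZMod 2))) :
    ∃ f : ℕ → G, gp f (sing 6) = centralizer {z} ∧ (∀ w ∈ K1, wval f w = 1) ∧
      wval f [2, 0, 2, 0] = z ∧ Nat.card (centralizer ({z} : Set G)) = 2903040 := by
  obtain ⟨y, h1, h2, h3, h4⟩ := exists_lift (H := centralizer ({z} : Set G))
    (z := ⟨z, mem_centralizer_singleton_iff.2 rfl⟩)
    (fun e => by rw [show z = 1 from congrArg Subtype.val e] at hz; simp at hz)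
    (mem_center_iff.2 fun g => Subtype.ext (mem_centralizer_singleton_iff.1 g.2)) hC
  refine ⟨fun i => y i, ?_, fun w hw => (map_wval (centralizer {z}).subtype y w).symm.trans
    (congrArg Subtype.val (h2 w hw)), (map_wval (centralizer {z}).subtype y _).symm.trans
    (congrArg Subtype.val h3), h4⟩
  have := congrArg (map (centralizer {z}).subtype) h1
  rwa [map_gp, ← MonoidHom.range_eq_map, range_subtype] at this

end Cfsg.Agent.Lib.Co3A
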