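import Cfsg.Agent.Lib.Co3HDF0

set_option autoImplicit false
set_option maxRecDepth 100000

namespace Cfsg.Agent.Lib.Co3HD
open Cfsg.Agent.Lib.PermNet Cfsg.Agent.Lib.DCE

noncomputable def FF : FT := (.node (nat_lit 160) (.node (nat_lit 64) (.node (nat_lit 32) f0 f32) (.node (nat_lit 96) f64 (.node (nat_lit 128) f96 f128))) (.node (nat_lit 224) (.node (nat_lit 192) f160 f192) (.node (nat_lit 256) f224 (.node (nat_lit 288) f256 f288))))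

def TM : List Tm := [⟨true, [], [(true, [])]⟩,
  ⟨false, [], [(false, []), (true, [])]⟩,
  ⟨true, [], [(false, [])]⟩,
  ⟨true, [7, 4, 10], [(false, [7, 4, 10]), (true, [7, 4, 10])]⟩,
  ⟨true, [0, 8, 2, 6, 5, 9, 11, 2], [(false, [0, 8, 2, 6, 5, 9, 11, 2]), (true, [0, 8, 2, 6, 5, 9, 11, 2]), (true, [0, 8, 2, 6, 5, 9, 11, 2]), (true, [0, 8, 2, 6, 5, 9, 11, 2])]⟩,
  ⟨false, [0, 8, 2, 6, 5, 9, 11, 2], [(false, [0, 8, 2, 6, 5, 9, 11, 2]), (false, [0, 8, 2, 6, 5, 9, 11, 2]), (false, [0, 8, 2, 6, 5, 9, 11, 2]), (true, [0, 8, 2, 6, 5, 9, 11, 2]), (true, [])]⟩,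
  ⟨false, [0, 8, 2, 6, 5, 9, 11, 2], [(false, [0, 8, 2, 6, 5, 9, 11, 2]), (true, [0, 8, 2, 6, 5, 9, 11, 2]), (true, [0, 8, 2, 6, 5, 9, 11, 2]), (true, [0, 8, 2, 6, 5, 9, 11, 2]), (true, [])]⟩,
  ⟨true, [0, 8, 2, 6, 5, 9, 11, 2], [(false, [0, 8, 2, 6, 5, 9, 11, 2]), (false, [0, 8, 2, 6, 5, 9, 11, 2]), (false, [0, 8, 2, 6, 5, 9, 11, 2]), (true, [0, 8, 2, 6, 5, 9, 11, 2])]⟩,
  ⟨true, [0, 8, 2, 6, 5, 9, 11, 2], [(false, [0, 8, 2, 6, 5, 9, 11, 2]), (false, [0, 8, 2, 6, 5, 9, 11, 2]), (true, [0, 8, 2, 6, 5, 9, 11, 2]), (true, [0, 8, 2, 6, 5, 9, 11, 2])]⟩,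
  ⟨false, [0, 8, 2, 6, 5, 9, 11, 2], [(false, [0, 8, 2, 6, 5, 9, 11, 2]), (false, [0, 8, 2, 6, 5, 9, 11, 2]), (true, [0, 8, 2, 6, 5, 9, 11, 2]), (true, [0, 8, 2, 6, 5, 9, 11, 2]), (true, [])]⟩,
  ⟨true, [0, 8, 2, 6, 5, 9, 11, 2], [(false, [0, 8, 2, 6, 5, 9, 11, 2]), (false, [0, 8, 2, 6, 5, 9, 11, 2]), (false, [0, 8, 2, 6, 5, 9, 11, 2]), (false, [0, 8, 2, 6, 5, 9, 11, 2])]⟩,
  ⟨false, [0, 8, 2, 6, 5, 9, 11, 2], [(false, [0, 8, 2, 6, 5, 9, 11, 2]), (false, [0, 8, 2, 6, 5, 9, 11, 2]), (false, [0, 8, 2, 6, 5, 9, 11, 2]), (false, [0, 8, 2, 6, 5, 9, 11, 2]), (false, [])]⟩,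
  ⟨false, [0, 8, 2, 6, 5, 9, 11, 2], [(false, [0, 8, 2, 6, 5, 9, 11, 2]), (false, [0, 8, 2, 6, 5, 9, 11, 2]), (false, [0, 8, 2, 6, 5, 9, 11, 2]), (false, [0, 8, 2, 6, 5, 9, 11, 2]), (true, [])]⟩]

def XW : List (List (List Nat)) := [[],
  [[]],
  [[], [10, 4]],
  [[], [4]],
  [[], [8, 4]],
  [[], [10, 8]],
  [[], [10, 8, 4]],
  [[], [4], [10, 0, 4]],
  [[], [4], [10, 6, 4]],
  [[], [4], [8, 0, 4]],
  [[], [4], [8, 6, 4]],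
  [[], [4], [10, 9]],
  [[], [4], [9, 5]],
  [[], [4], [4]],
  [[], [4], [10]],
  [[], [4], [10, 4]],
  [[], [4], [8, 4]],
  [[], [4], [10, 8]],
  [[], [4], [8, 5]],
  [[], [4], [8, 1, 4]],
  [[], [4], [10, 8, 4]],
  [[], [4], [10, 9, 1, 4]],
  [[], [8, 4], [10, 9]],
  [[], [8, 4], [9, 5]],
  [[], [8, 4], [10]],
  [[], [8, 4], [11]],
  [[], [8, 4], [8, 0, 4]],
  [[], [8, 4], [8, 6, 4]],
  [[], [8, 4], [6, 8, 4]],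
  [[], [8, 4], [8, 1, 4]],
  [[], [8, 4], [11, 9]],
  [[], [8, 4], [10, 9, 5]],
  [[], [8, 4], [4]]]

def BB : List Nat := [(nat_lit 0), (nat_lit 4), (nat_lit 8), (nat_lit 1)]



end Cfsg.Agent.Lib.Co3HD
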