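import Cfsg.Agent.Lib.Co3HDR
import Cfsg.Agent.Lib.Co3HDT
import Cfsg.Agent.Lib.Co3HDF
import Cfsg.Agent.Lib.Co3HDM

set_option autoImplicit false
set_option maxRecDepth 100000

namespace Cfsg.Agent.Lib.Co3HD
open Cfsg.Agent.Lib.PermNet Cfsg.Agent.Lib.DCE

theorem tab0 : allR (tabB nets (nat_lit 870) (nat_lit 10) (nat_lit 240) (nat_lit 8) (nat_lit 8) (nat_lit 255) tH) (nat_lit 0) (nat_lit 68) = true := by decide +kernel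

def lH0 : Lev := ⟨[[0], [2], [4], [6], [8], [10]], 0, [(0, 0), (0, 1), (0, 2), (0, 3), (0, 4), (0, 5), (177, 1), (177, 2), (177, 3), (177, 4), (118, 0), (118, 1), (118, 2), (118, 3), (118, 4), (118, 5), (105, 1), (105, 2), (105, 3), (105, 4), (105, 5), (80, 0), (80, 1), (80, 2), (80, 3), (80, 4), (80, 5), (16, 0), (16, 1), (16, 3), (16, 5), (209, 1), (209, 2), (10, 0), (10, 1), (10, 2), (10, 3), (10, 4), (10, 5), (13, 0), (13, 1), (13, 2), (13, 3), (13, 4), (13, 5), (18, 0), (18, 1), (18, 2), (18, 3), (18, 4), (8, 0), (8, 1), (8, 4), (51, 1), (51, 3), (51, 4), (51, 5), (227, 0), (227, 2), (227, 3), (227, 4), (227, 5), (90, 0), (90, 1), (90, 2), (90, 3), (238, 0), (238, 1), (238, 2), (238, 3), (100, 0), (100, 3), (31, 1), (31, 2), (31, 5), (232, 0), (232, 1), (232, 3), (232, 4), (239, 0), (239,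 1), (239, 3), (239, 4), (239, 5), (191, 0), (191, 2), (191, 3), (191, 5), (33, 1), (33, 5), (98, 2), (98, 5), (14, 1), (14, 5), (52, 0), (52, 1), (52, 2), (52, 4), (52, 5), (97, 2), (187, 1), (187, 2), (187, 4), (187, 5), (192, 1), (192, 4), (192, 5), (29, 1), (180, 0), (180, 1), (180, 2), (180, 3), (180, 5), (28, 1), (28, 2), (28, 3), (161, 0), (161, 2), (161, 3), (161, 4), (161, 5), (233, 2), (144, 0), (144, 1), (144, 4), (20, 2), (145, 1), (145, 3), (230, 0), (230, 2), (230, 4), (26, 3), (26, 4), (88, 0), (107, 1), (107, 5), (19, 5), (36, 0), (36, 1), (36, 3), (36, 4), (220, 0), (220, 1), (220, 4), (185, 0), (185, 1), (185, 5), (11, 0), (11, 1), (11, 3), (11, 4), (11, 5), (58, 0), (58, 4), (147, 5), (30, 2), (143, 0), (143, 1), (143, 5), (214, 0), (214, 1), (214, 4), (47, 0), (47, 3), (82, 0),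 (82, 1), (82, 2), (82, 3), (213, 1), (213, 5), (199, 0), (167, 1), (167, 2), (167, 4), (95, 0), (95, 1), (95, 4), (95, 5), (63, 4), (237, 1), (7, 0), (211, 0), (211, 1), (211, 3), (121, 0), (121, 3), (121, 4), (121, 5), (174, 3), (174, 5), (190, 5), (4, 4), (9, 4), (128, 3), (226, 1), (226, 2), (226, 4), (103, 1), (157, 1), (157, 2), (50, 0), (186, 4), (109, 0), (109, 2), (179, 0), (179, 1), (166, 3), (59, 0), (59, 3), (59, 4), (125, 2), (125, 4), (196, 0), (6, 0), (6, 1), (175, 1), (175, 3), (175, 4), (159, 0), (91, 1), (91, 2), (78, 2), (119, 1), (3, 2), (77, 4), (150, 0), (176, 0), (205, 0), (84, 1), (136, 2), (204, 2), (111, 0), (111, 1), (70, 2), (148, 4), (137, 3), (156, 4), (202, 5), (69, 4)], 240⟩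

def lH1 : Lev := ⟨[[12], [14], [16], [18]], 4, [(4, 1), (4, 2), (4, 3), (77, 0), (77, 1), (77, 2), (77, 3), (114, 0), (114, 1), (114, 2), (114, 3), (141, 0), (141, 1), (141, 2), (141, 3), (79, 0), (79, 2), (213, 0), (213, 1), (213, 2), (213, 3), (160, 0), (160, 1), (160, 2), (160, 3), (119, 0), (119, 1), (119, 2), (60, 0), (60, 1), (60, 2), (60, 3), (221, 0), (221, 3), (8, 0), (8, 1), (8, 3), (42, 1), (42, 3), (231, 1), (231, 2), (175, 1), (226, 0), (226, 3), (54, 1), (54, 3), (87, 0), (87, 1), (87, 3), (206, 0), (206, 2), (206, 3), (99, 1), (99, 3), (170, 0), (170, 1), (94, 1), (94, 2), (94, 3), (205, 0), (205, 1), (205, 3), (34, 0), (34, 2), (165, 0), (165, 1), (39, 0), (39, 1), (39, 2), (29, 0), (29, 1), (29, 3), (130, 0), (130, 1), (130, 2), (124, 2), (140, 1), (65, 0), (65, 1), (65, 2), (48,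 1), (193, 2), (179, 2), (203, 0), (180, 1), (190, 3), (36, 0), (210, 2), (111, 1), (40, 0), (46, 3), (125, 3), (103, 0), (171, 1), (171, 2), (171, 3), (196, 2), (10, 1), (110, 2), (110, 3), (143, 0), (143, 1), (198, 3), (136, 0), (136, 3), (38, 2), (71, 0), (71, 2), (109, 0), (52, 0), (52, 3), (12, 0), (238, 3), (138, 1), (138, 2), (138, 3), (107, 2), (93, 0), (53, 0), (182, 1), (183, 0), (215, 1), (215, 3), (72, 1), (76, 2)], 126⟩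

def lH2 : Lev := ⟨[[12], [20], [22], [24]], 8, [(8, 0), (8, 1), (8, 2), (8, 3), (180, 0), (180, 1), (180, 2), (180, 3), (207, 0), (207, 1), (207, 2), (207, 3), (29, 0), (29, 1), (29, 2), (29, 3), (108, 0), (108, 1), (108, 2), (108, 3), (48, 3), (185, 0), (185, 1), (185, 2), (185, 3), (87, 0), (87, 1), (87, 2), (214, 3), (117, 1), (205, 0), (205, 2), (205, 3), (215, 0), (215, 2), (215, 3), (114, 1), (30, 0), (30, 3), (93, 1), (69, 1), (138, 2), (60, 3), (103, 0), (103, 3), (125, 1), (213, 1)], 48⟩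

def lH3 : Lev := ⟨[[26]], 1, [(1, 0)], 2⟩

def chH : List Lev := [lH0, lH1, lH2, lH3]

theorem cH : chainB (nat_lit 8) (nat_lit 255) tH (nat_lit 240) chH [] = true := by decide +kernel

def lK0 : Lev := ⟨[[0], [2], [4], [6], [8], [10]], 0, [(0, 0), (0, 1), (0, 2), (0, 3), (0, 4), (0, 5), (149, 0), (149, 1), (149, 2), (149, 3), (149, 4), (149, 5), (186, 0), (186, 2), (186, 3), (186, 4), (186, 5), (219, 0), (219, 1), (219, 3), (219, 4), (219, 5), (168, 0), (168, 1), (168, 3), (168, 4), (168, 5), (118, 0), (118, 4), (118, 5), (3, 0), (3, 2), (3, 5), (162, 0), (162, 1), (162, 2), (162, 3), (162, 4), (162, 5), (28, 2), (28, 3), (28, 4), (28, 5), (195, 1), (195, 3), (195, 4), (195, 5), (16, 0), (16, 4), (16, 5), (208, 4), (208, 5), (128, 0), (128, 5), (154, 3), (192, 3), (192, 4), (192, 5), (39, 0),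 (39, 3), (39, 4), (39, 5), (135, 4), (135, 5), (24, 5), (78, 4), (78, 5), (56, 4), (56, 5), (207, 3), (207, 4), (207, 5), (231, 4), (231, 5), (112, 5), (126, 3), (126, 4), (126, 5), (190, 4), (190, 5), (101, 4), (101, 5), (143, 3), (143, 5), (38, 4), (38, 5), (153, 3), (153, 5), (62, 0), (62, 5), (95, 3), (95, 5), (178, 5), (107, 0), (107, 4), (224, 3), (102, 4), (102, 5), (93, 4), (93, 5), (160, 4), (160, 5), (215, 5), (49, 5), (103, 0), (103, 4), (103, 5), (124, 4), (124, 5), (45, 5), (148, 5), (145, 4), (145, 5), (82, 4), (82, 5), (158, 5), (46, 4), (46, 5), (68, 3), (68, 5), (142, 5), (174, 3), (10, 0), (10, 5), (98, 3), (98, 5), (193, 0), (193, 4), (156, 4), (223, 4), (223, 5), (66, 4), (66, 5), (85, 5), (87, 4), (87, 5), (191, 4), (191, 5), (166, 3), (12, 3), (238, 0), (167, 0), (167, 4),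 (181, 4), (236, 4), (37, 4), (37, 5), (8, 3), (165, 5), (22, 4), (58, 4), (58, 5), (202, 5), (205, 3), (55, 3), (198, 3), (198, 5), (119, 3), (65, 5), (44, 3), (226, 4), (226, 5), (206, 5), (176, 4), (121, 4), (59, 4), (29, 3), (111, 3), (164, 5), (81, 4), (125, 5), (33, 4), (33, 5), (34, 3), (34, 5), (17, 3), (80, 3), (80, 5), (196, 5), (41, 4), (218, 5), (7, 5), (117, 5), (209, 4), (6, 3), (122, 4), (64, 3), (109, 3), (235, 4), (183, 4), (188, 4)], 192⟩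

def lK1 : Lev := ⟨[[12], [14], [16], [18]], 4, [(4, 0), (4, 1), (4, 2), (4, 3), (176, 0), (176, 1), (176, 2), (176, 3), (38, 0), (38, 1), (38, 2), (93, 0), (93, 2), (93, 3), (193, 3), (166, 0), (166, 1), (166, 2), (83, 0), (83, 1), (103, 3), (98, 2), (136, 0)], 24⟩

def chK : List Lev := [lK0, lK1]

theorem cK : chainB (nat_lit 8) (nat_lit 255) tK (nat_lit 240) chK [] = true := by decide +kernel

def d0 : List Der := [.base,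
  .base,
  .base,
  .base,
  .base,
  .base,
  .dfn,
  .tm 2 [] [] [⟨6, [], []⟩],
  .tm 1 [] [] [⟨6, [], [0]⟩, ⟨6, [17, 3, 11], []⟩],
  .tm 1 [] [] [⟨6, [], [2]⟩, ⟨6, [3, 6], []⟩],
  .tm 1 [] [] [⟨6, [], [6]⟩, ⟨6, [12, 1, 4, 9], []⟩],
  .tm 1 [] [] [⟨6, [], [11, 3, 6, 0, 4]⟩, ⟨6, [3, 6, 8], []⟩],
  .tm 1 [] [] [⟨6, [], [4, 8, 7, 10, 3, 9]⟩, ⟨6, [13, 14, 1, 6, 9], []⟩],
  .tm 3 [8, 5, 0, 13] [] [⟨6, [], [11, 5]⟩, ⟨6, [8, 7, 8, 3, 12, 12], []⟩],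
  .dfn,
  .tm 2 [] [] [⟨14, [], []⟩],
  .tm 1 [] [] [⟨14, [], [20, 24]⟩, ⟨14, [15, 15, 3, 6, 9], []⟩],
  .tm 1 [] [] [⟨14, [], [19, 20, 16]⟩, ⟨14, [15, 10], []⟩],
  .tm 3 [8, 5, 0, 13] [] [⟨14, [], [20, 17]⟩, ⟨14, [9, 10, 7, 18, 12], []⟩],
  .tm 4 [9, 11, 11, 1] [] [⟨14, [10, 9, 11, 2], []⟩, ⟨7, [11, 3, 14, 12], [3, 10, 0, 4]⟩, ⟨6, [9, 7, 2, 16, 15], [22, 16]⟩, ⟨14, [7, 3, 0, 12, 12], []⟩],
  .tm 5 [] [] [⟨18, [9, 10, 5, 15], []⟩, ⟨19, [10, 9, 7, 1, 19, 13], [35]⟩, ⟨14, [10, 9, 7, 4], [22, 18]⟩, ⟨14, [8, 7, 0, 15], [34]⟩, ⟨19, [9, 11, 11, 0, 16], []⟩],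
  .tm 1 [] [] [⟨18, [], [41, 34, 32, 40]⟩, ⟨15, [7, 8, 7, 13], []⟩],
  .tm 0 [] [] [⟨14, [], [42]⟩],
  .dfn,
  .tm 2 [] [] [⟨23, [], []⟩],
  .tm 1 [] [] [⟨23, [], [17, 23, 24, 17]⟩, ⟨23, [12, 16, 1, 7, 10, 9], []⟩],
  .tm 1 [] [] [⟨23, [], [17, 23, 16, 18]⟩, ⟨23, [17, 2, 8, 10], []⟩],
  .tm 1 [] [] [⟨23, [], [19, 25, 18, 20]⟩, ⟨23, [13, 15, 15, 1, 2, 6], []⟩],
  .tm 3 [8, 5, 0, 13] [] [⟨23, [], [25, 21]⟩, ⟨23, [8, 7, 8, 2, 14, 14], []⟩],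
  .dfn,
  .tm 2 [] [] [⟨29, [], []⟩],
  .tm 1 [] [] [⟨29, [], [20, 24]⟩, ⟨29, [13, 15, 15, 5, 10], []⟩],
  .tm 1 [] [] [⟨29, [], [17, 20, 24, 16]⟩, ⟨29, [13, 15, 15, 1, 3, 7], []⟩],
  .tm 1 [] [] [⟨29, [], [23, 24, 22, 25]⟩, ⟨29, [1, 1, 6, 11], []⟩],
  .dfn,
  .tm 2 [] [] [⟨34, [], []⟩],
  .tm 1 [] [] [⟨34, [], [18, 20, 16]⟩, ⟨34, [15, 6, 11, 8], []⟩],
  .tm 1 [] [] [⟨34, [], [18, 22, 24, 19]⟩, ⟨34, [13, 0, 11, 8], []⟩],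
  .tm 1 [] [] [⟨34, [], [23, 24, 22, 18, 16]⟩, ⟨34, [19, 19, 6, 11, 8], []⟩],
  .tm 3 [8, 5, 0, 13] [] [⟨34, [], [23, 20]⟩, ⟨29, [9, 6, 15, 13], []⟩],
  .tm 2 [9, 10, 3, 14, 14] [] [⟨39, [], []⟩],
  .dfn,
  .dfn,
  .dfn,
  .tm 1 [] [] [⟨43, [], [52, 51]⟩, ⟨43, [13, 13, 14, 1, 4, 10], []⟩],
  .tm 1 [] [] [⟨43, [], [50, 54, 51]⟩, ⟨43, [13, 15, 15, 3, 7, 8], []⟩],
  .tm 3 [8, 5, 0, 13] [] [⟨43, [], []⟩, ⟨42, [9, 10, 7, 19, 13], []⟩],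
  .tm 2 [7, 8, 7, 0, 15, 12] [] [⟨46, [], []⟩],
  .dfn,
  .dfn,
  .dfn,
  .dfn,
  .dfn,
  .tm 2 [] [] [⟨52, [], []⟩],
  .tm 1 [] [] [⟨52, [], [51, 51, 54, 51]⟩, ⟨52, [14, 17, 1, 3], []⟩],
  .tm 3 [8, 5, 0, 13] [] [⟨52, [], [50, 50, 50]⟩, ⟨52, [8, 7, 8, 2, 13], []⟩],
  .dfn,
  .tm 2 [] [] [⟨56, [], []⟩],
  .tm 1 [] [] [⟨56, [], [52, 51]⟩, ⟨56, [13, 13, 19, 4, 11], []⟩],
  .tm 3 [8, 5, 0, 13] [] [⟨56, [], [50, 50, 50]⟩, ⟨56, [9, 1], []⟩],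
  .dfn,
  .tm 2 [] [] [⟨60, [], []⟩],
  .tm 3 [8, 5, 0, 13] [] [⟨60, [], [54, 52, 50]⟩, ⟨60, [8, 12, 12], []⟩],
  .tm 6 [] [] [⟨60, [10, 9, 11, 2], []⟩, ⟨24, [11, 3, 14, 12], [25, 22, 18]⟩, ⟨22, [9, 5, 16, 15], [19, 17]⟩, ⟨23, [9, 11, 11, 1, 18, 13], [52, 52, 50]⟩, ⟨60, [11, 2, 14, 12], []⟩],
  .tm 7 [11, 9, 2, 17] [] [⟨43, [9, 7, 3, 0, 13], [55]⟩, ⟨61, [8, 7, 5, 14, 12], [127]⟩, ⟨60, [10, 9, 11, 4], [53, 50, 52, 50]⟩, ⟨60, [8, 10, 0, 19, 13], []⟩],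
  .tm 2 [6, 3, 16, 12] [] [⟨64, [], []⟩],
  .tm 8 [11, 5, 17] [] [⟨65, [7, 8, 3, 15, 13], []⟩, ⟨60, [10, 9, 7, 9], []⟩, ⟨28, [11, 11, 6, 18, 13], [54, 50]⟩, ⟨42, [6, 9, 7, 12, 12], []⟩],
  .tm 9 [] [] [⟨65, [10, 10, 18, 13], []⟩, ⟨60, [10, 8, 8, 6, 2], []⟩, ⟨24, [10, 6, 3, 18, 12], [18, 16]⟩, ⟨23, [10, 9, 0, 15, 13], [54, 52, 50]⟩, ⟨60, [7, 8, 0, 12, 12], []⟩],
  .walk [135],
  .walk [137, 126, 136],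
  .tm 0 [] [] [⟨60, [], [136]⟩],
  .tm 0 [8, 7, 8, 2, 15] [137] [⟨61, [], []⟩],
  .tm 0 [11, 2, 0, 12, 12] [137] [⟨62, [], [136]⟩],
  .tm 1 [] [] [⟨72, [], [138, 90, 88]⟩, ⟨71, [9, 10, 4, 16, 15], []⟩],
  .tm 0 [] [] [⟨70, [], [146]⟩],
  .tm 0 [] [] [⟨43, [], [146]⟩],
  .tm 0 [] [] [⟨47, [], [146]⟩],
  .tm 0 [10, 9, 12, 12] [147] [⟨66, [], []⟩],
  .tm 1 [] [] [⟨77, [], []⟩, ⟨24, [], []⟩],
  .tm 0 [] [] [⟨42, [], [156]⟩],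
  .tm 0 [10, 7, 14] [157] [⟨76, [], []⟩],
  .tm 1 [] [] [⟨80, [], [24, 19, 17]⟩, ⟨41, [10, 6, 4, 17, 13], []⟩],
  .walk [163],
  .tm 0 [] [] [⟨41, [], [164]⟩],
  .tm 7 [9, 10, 0, 17] [] [⟨52, [9, 7, 2, 17], [51, 53]⟩, ⟨83, [10, 9, 7, 18], [19, 22, 24]⟩, ⟨79, [11, 7, 9, 2], [52, 52]⟩, ⟨56, [7, 7, 13], []⟩],
  .tm 2 [9, 2, 18, 13] [] [⟨84, [], []⟩],
  .tm 10 [7, 4] [] [⟨84, [11, 5, 15, 13], [109]⟩, ⟨52, [6, 3, 15, 12], [51, 55]⟩, ⟨57, [6, 2, 0, 13], []⟩, ⟨84, [10, 6, 2], []⟩],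
  .tm 2 [8, 7, 8, 3, 14, 14] [] [⟨86, [], []⟩],
  .tm 1 [] [] [⟨86, [], [116]⟩, ⟨86, [19, 19, 1, 6, 8], []⟩],
  .tm 1 [] [] [⟨84, [], [176]⟩, ⟨84, [13, 13, 19, 9, 10], []⟩],
  .tm 8 [9, 6, 12, 12] [] [⟨87, [5, 14, 14, 12], []⟩, ⟨85, [7, 9, 2], [116]⟩, ⟨85, [11, 0, 0, 19, 13], [108, 176]⟩, ⟨53, [10, 9, 1, 19], []⟩],
  .tm 2 [8, 11, 6, 0, 16, 12] [] [⟨90, [], []⟩],
  .tm 4 [10, 6, 18, 13] [] [⟨85, [11, 9, 2], [116, 178]⟩, ⟨59, [7, 9, 7, 13], []⟩, ⟨85, [11, 2, 18, 18], []⟩, ⟨53, [10, 9, 5, 12], []⟩],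
  .tm 2 [8, 1, 14, 14, 12] [] [⟨92, [], []⟩],
  .tm 7 [8, 4, 15] [] [⟨75, [11, 0, 0, 16, 12], []⟩, ⟨92, [9, 9, 15], [177]⟩, ⟨85, [9, 10, 2], [116, 178]⟩, ⟨57, [8, 4, 0, 14, 14], []⟩],
  .tm 11 [] [] [⟨34, [10, 7, 0, 18, 18], [16, 19]⟩, ⟨79, [11, 5, 0, 16, 12], [51, 55]⟩, ⟨94, [8, 11, 6, 0, 13], [50, 52, 52]⟩, ⟨92, [10, 10, 0, 0, 15, 13], [177]⟩, ⟨85, [9, 10, 4], []⟩],
  .walk [191],
  .tm 0 [] [] [⟨56, [], [192]⟩],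
  .tm 0 [] [] [⟨91, [], [192]⟩],
  .tm 0 [] [] [⟨84, [], [192]⟩],
  .tm 0 [8, 8, 0, 14, 14, 12] [193] [⟨57, [], []⟩],
  .tm 0 [8, 11, 9, 0, 19] [193] [⟨59, [], [192]⟩],
  .tm 0 [9, 10, 5, 0, 13] [193] [⟨85, [], []⟩],
  .tm 0 [8, 3, 0, 18, 18] [193] [⟨86, [], []⟩],
  .tm 1 [] [] [⟨103, [], []⟩, ⟨39, [], []⟩],
  .tm 0 [] [] [⟨52, [], [208]⟩],
  .tm 0 [] [] [⟨93, [], [208]⟩],
  .tm 0 [] [] [⟨102, [], [208]⟩],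
  .tm 0 [8, 10, 0, 14] [193] [⟨90, [], []⟩],
  .tm 0 [11, 4, 0, 12] [209] [⟨53, [], []⟩],
  .tm 0 [9, 7, 3, 0, 17] [209] [⟨55, [], [208]⟩],
  .tm 0 [5, 2, 0, 14, 14] [209] [⟨99, [], []⟩],
  .tm 0 [11, 5, 0, 17, 13] [209] [⟨92, [], []⟩],
  .dfn,
  .tm 2 [] [] [⟨113, [], []⟩],
  .dfn,
  .tm 2 [] [] [⟨115, [], []⟩],
  .tm 1 [] [] [⟨115, [], [50, 50, 52]⟩, ⟨115, [19, 19, 0, 6, 8, 6], []⟩],
  .dfn,
  .tm 2 [] [] [⟨118, [], []⟩],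
  .tm 3 [8, 5, 0, 13] [] [⟨118, [], []⟩, ⟨115, [8, 11, 6, 17, 13], []⟩],
  .tm 2 [9, 11, 11, 1, 18, 12, 12] [] [⟨120, [], []⟩],
  .dfn,
  .tm 2 [] [] [⟨122, [], []⟩],
  .tm 1 [] [] [⟨122, [], [53, 54, 52]⟩, ⟨122, [13, 13, 19, 1, 1, 11, 11], []⟩],
  .tm 3 [8, 5, 0, 13] [] [⟨122, [], [53, 51, 51]⟩, ⟨113, [11, 6, 9, 19], []⟩],
  .tm 2 [10, 7, 1, 16] [] [⟨125, [], []⟩],
  .dfn,
  .tm 2 [] [] [⟨127, [], []⟩],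
  .tm 3 [8, 5, 0, 13] [] [⟨127, [], [53, 54, 51]⟩, ⟨127, [8, 7, 8, 2, 19], []⟩],
  .dfn,
  .tm 2 [] [] [⟨130, [], []⟩],
  .tm 3 [8, 5, 0, 13] [] [⟨130, [], [54, 52, 51, 51]⟩, ⟨130, [7, 9, 7, 17], []⟩],
  .dfn,
  .dfn,
  .tm 2 [] [] [⟨134, [], []⟩],
  .tm 3 [8, 5, 0, 13] [] [⟨134, [], []⟩, ⟨133, [8, 11, 6, 17, 13], []⟩],
  .dfn,
  .tm 2 [] [] [⟨137, [], []⟩],
  .tm 3 [8, 5, 0, 13] [] [⟨137, [], [64]⟩, ⟨137, [6, 9, 7, 14, 14, 12], []⟩],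
  .dfn,
  .tm 2 [] [] [⟨140, [], []⟩],
  .tm 1 [] [] [⟨140, [], [64]⟩, ⟨140, [19, 19, 0, 6, 8, 6], []⟩],
  .tm 1 [] [] [⟨140, [], [63, 65, 66, 62]⟩, ⟨140, [15, 15, 3, 6, 9], []⟩],
  .tm 3 [8, 5, 0, 13] [] [⟨140, [], [67, 62]⟩, ⟨140, [6, 6, 1, 14, 14], []⟩],
  .dfn,
  .tm 2 [] [] [⟨145, [], []⟩],
  .tm 1 [] [] [⟨145, [], [63, 66]⟩, ⟨145, [13, 15, 1, 6, 9], []⟩],
  .tm 1 [] [] [⟨145, [], [65, 62, 64]⟩, ⟨145, [13, 13, 19, 4, 11], []⟩],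
  .dfn,
  .tm 2 [] [] [⟨149, [], []⟩],
  .tm 3 [8, 5, 0, 13] [] [⟨149, [], []⟩, ⟨145, [9, 10, 7, 19, 13], []⟩],
  .tm 2 [7, 8, 7, 0, 15, 12] [] [⟨151, [], []⟩],
  .dfn,
  .tm 2 [] [] [⟨153, [], []⟩],
  .tm 1 [] [] [⟨153, [], [62]⟩, ⟨153, [13, 15, 15, 1, 2, 11], []⟩],
  .dfn,
  .dfn,
  .dfn,
  .dfn,
  .tm 2 [] [] [⟨159, [], []⟩],
  .tm 1 [] [] [⟨159, [], [63, 65, 66, 62]⟩, ⟨159, [13, 13, 14, 1, 4, 10], []⟩],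
  .tm 4 [9, 10, 1, 17] [] [⟨159, [11, 9, 6], [62, 64]⟩, ⟨109, [9, 1, 16, 15], [50, 52]⟩, ⟨105, [8, 8, 2, 12], [64, 62, 64]⟩, ⟨159, [9, 5, 13], []⟩],
  .tm 4 [9, 10, 2, 12, 12] [] [⟨159, [11, 9, 7], [66]⟩, ⟨109, [6, 3, 14, 14, 12], [53, 50, 52, 50]⟩, ⟨74, [8, 11, 9, 2, 18, 12], [53, 54, 52, 50]⟩, ⟨127, [3, 15], []⟩],
  .tm 2 [7, 8, 7, 18, 18] [] [⟨163, [], []⟩],
  .tm 4 [10, 10, 1, 17] [] [⟨159, [11, 9, 6, 2], [62, 64]⟩, ⟨109, [10, 10, 1, 15], [53, 53, 50]⟩, ⟨127, [9, 7, 3, 14, 14, 12], []⟩, ⟨164, [9, 9, 0, 14, 14, 12], []⟩],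
  .tm 2 [6, 2, 0] [] [⟨165, [], []⟩],
  .tm 10 [8, 8, 0, 15, 12] [] [⟨160, [8, 7, 1, 14], []⟩, ⟨166, [6, 6, 0], [323]⟩, ⟨162, [9, 9, 17, 13], []⟩, ⟨159, [9, 10, 6, 2], []⟩],
  .tm 4 [11, 6, 4, 12] [] [⟨159, [8, 8, 10, 2], [64, 62, 64, 62, 64, 62]⟩, ⟨167, [7, 8, 7], [62, 64]⟩, ⟨109, [8, 6, 6, 12, 12], [54, 52, 51]⟩, ⟨127, [16, 12], []⟩],
  .tm 9 [] [] [⟨166, [10, 7, 7, 16], [323]⟩, ⟨159, [11, 8, 6, 4], [62, 64]⟩, ⟨109, [9, 12], [53, 51]⟩, ⟨74, [8, 7, 2, 18, 18], [52, 51]⟩, ⟨105, [9, 10, 0, 18, 12, 12], []⟩],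
  .tm 0 [] [] [⟨159, [], [338]⟩],
  .tm 0 [9, 6, 2, 18, 18] [339] [⟨168, [], []⟩],
  .tm 0 [6, 9, 7] [339] [⟨163, [], []⟩],
  .tm 11 [] [] [⟨127, [8, 7, 14], [51, 52, 50, 53, 55]⟩, ⟨74, [8, 11, 6, 16, 12], [51, 53, 51]⟩, ⟨128, [8, 7, 2, 14, 12], []⟩, ⟨172, [11, 11, 1, 12], [67]⟩, ⟨167, [8, 7, 0], []⟩],
  .tm 0 [] [] [⟨127, [], [346]⟩],
  .tm 0 [] [] [⟨171, [], [346]⟩],
  .tm 0 [] [] [⟨172, [], [346]⟩],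
  .tm 0 [8, 3, 0, 17, 13] [347] [⟨128, [], []⟩],
  .tm 0 [11, 6, 0, 18, 12, 12] [347] [⟨129, [], [346]⟩],
  .tm 4 [8, 0, 18] [] [⟨170, [10, 8, 7, 9], [64, 62]⟩, ⟨112, [6, 2, 0, 16], [52, 50, 52]⟩, ⟨174, [7, 9, 7, 1, 16], [64, 62, 64]⟩, ⟨178, [10, 6, 3, 15, 12, 12], []⟩],
  .tm 2 [11, 16, 15] [] [⟨179, [], []⟩],
  .tm 7 [8, 2, 0, 17, 13] [] [⟨178, [8, 0, 17, 13], [65, 63, 65]⟩, ⟨179, [10, 6, 14], [63, 65, 63, 65, 63, 67]⟩, ⟨170, [10, 9, 7, 9], [67, 62]⟩, ⟨140, [8, 8, 2], []⟩],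
  .tm 2 [5, 2, 0, 18, 12] [] [⟨181, [], []⟩],
  .tm 5 [] [] [⟨156, [11, 11, 18, 13], []⟩, ⟨179, [9, 3, 18], [63, 65, 63, 65, 63, 67]⟩, ⟨170, [10, 8, 8, 6, 2], []⟩, ⟨140, [10, 6, 3, 18, 12], [284, 286]⟩, ⟨182, [5, 2, 13], []⟩],
  .tm 0 [] [] [⟨156, [], [366]⟩],
  .tm 5 [] [] [⟨113, [11, 4, 0, 15, 13], [53, 55]⟩, ⟨112, [8, 7, 8, 0, 18, 18], [65, 63]⟩, ⟨170, [9, 6, 2], [64, 62, 64, 62]⟩, ⟨179, [10, 10, 1, 15], []⟩, ⟨178, [8, 4, 2, 14, 14, 12], []⟩],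
  .tm 0 [] [] [⟨113, [], [370]⟩],
  .tm 0 [] [] [⟨125, [], [370]⟩],
  .tm 0 [3, 0, 12, 12] [371] [⟨114, [], []⟩],
  .tm 1 [] [] [⟨188, [], []⟩, ⟨181, [], []⟩],
  .walk [379],
  .tm 0 [] [] [⟨140, [], [380]⟩],
  .tm 0 [] [] [⟨181, [], [380]⟩],
  .tm 0 [9, 7, 4] [371] [⟨126, [], []⟩],
  .tm 0 [9, 7, 2, 16, 15] [381] [⟨141, [], []⟩],
  .tm 1 [] [] [⟨194, [], [52, 51]⟩, ⟨49, [11, 8, 18], []⟩],
  .walk [391],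
  .tm 0 [] [] [⟨49, [], [392]⟩],
  .tm 0 [7, 7, 14, 14] [381] [⟨144, [], [380]⟩],
  .tm 1 [] [] [⟨198, [], [52, 51]⟩, ⟨48, [11, 4, 0, 15], []⟩],
  .walk [399],
  .tm 0 [] [] [⟨48, [], [400]⟩],
  .tm 12 [] [] [⟨153, [6, 3, 18, 13], []⟩, ⟨178, [9, 6, 6, 12, 12], [65, 63, 65]⟩, ⟨179, [10, 6, 4, 15], []⟩, ⟨170, [10, 6, 2], [64]⟩, ⟨111, [7, 5, 0, 16, 15], []⟩],
  .walk [405, 310, 404],
  .tm 0 [] [] [⟨153, [], [404]⟩],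
  .tm 0 [11, 9, 1, 14] [405] [⟨154, [], []⟩],
  .tm 10 [10, 9, 7, 1, 19] [] [⟨178, [10, 6, 0, 12], [65, 63, 65]⟩, ⟨174, [10, 2, 0, 14], [53, 53, 53]⟩, ⟨191, [6, 8, 8, 18], [66]⟩, ⟨170, [7, 8, 2], []⟩],
  .tm 5 [] [] [⟨122, [10, 6, 4], [51, 55, 51]⟩, ⟨191, [11, 6, 0, 16], [66]⟩, ⟨170, [7, 9, 2], [66, 62]⟩, ⟨179, [8, 11, 9, 2, 18, 13], []⟩, ⟨193, [8, 7, 3, 16], []⟩],
  .tm 4 [7, 18, 12, 12] [] [⟨170, [9, 10, 2], [64]⟩, ⟨111, [11, 15, 12, 12], [72, 72, 72]⟩, ⟨205, [9, 10, 4, 0], []⟩, ⟨193, [11, 1, 17, 13], []⟩],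
  .tm 2 [10, 9, 7, 1, 18, 12, 12] [] [⟨208, [], []⟩],
  .tm 8 [11, 11, 14, 12] [] [⟨111, [7, 5, 16, 12], [63, 65, 63]⟩, ⟨170, [8, 6, 4], [64, 62, 64, 62]⟩, ⟨179, [9, 12], []⟩, ⟨193, [9, 2, 0, 18, 12, 12], []⟩],
  .tm 2 [11, 9, 5, 14, 14, 12] [] [⟨210, [], []⟩],
  .tm 8 [2, 0, 12] [] [⟨208, [10, 2, 12, 12], []⟩, ⟨170, [9, 10, 4], []⟩, ⟨191, [10, 9, 17, 13], [52]⟩, ⟨122, [7, 8, 1, 16], []⟩]]

theorem fc0 : checkL (nat_lit 8) (nat_lit 255) tH tK tK' BB FF TM XW d0 (nat_lit 0) = true := by decide +kernel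

def d213 : List Der := [.tm 7 [8, 8, 18] [] [⟨130, [8, 11, 9, 2, 19, 13], [52, 50, 55, 50]⟩, ⟨192, [7, 8, 2, 18, 13], [63, 65, 66]⟩, ⟨174, [8, 11, 2], [50, 52]⟩, ⟨122, [9, 0, 19, 13], []⟩],
  .tm 2 [6, 3, 12, 12] [] [⟨213, [], []⟩],
  .tm 7 [9, 6, 1, 15, 13] [] [⟨118, [7, 3, 15, 12], [51, 52, 52]⟩, ⟨192, [10, 9, 15, 12, 12], [63, 65, 66]⟩, ⟨174, [8, 11, 4], [50, 52, 51]⟩, ⟨115, [9, 0, 13], []⟩],
  .tm 2 [10, 5, 17] [] [⟨215, [], []⟩],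
  .tm 8 [8, 5, 18, 18] [] [⟨176, [11, 6, 0, 15], []⟩, ⟨174, [7, 8, 6], [50, 50, 50]⟩, ⟨94, [11, 6, 9, 15, 13], [50]⟩, ⟨186, [10, 7, 7, 18, 12, 12], []⟩],
  .tm 2 [11, 0, 0, 14] [] [⟨217, [], []⟩],
  .tm 12 [] [] [⟨122, [8, 0, 0, 18], []⟩, ⟨177, [9, 9, 14, 12], [65, 63, 67]⟩, ⟨217, [9, 6, 18], [66]⟩, ⟨174, [11, 9, 6], [53, 54, 52, 51]⟩, ⟨115, [10, 6, 18, 12, 12], []⟩],
  .walk [439, 248, 438],
  .walk [439, 414, 438],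
  .tm 0 [] [] [⟨122, [], [438]⟩],
  .tm 0 [] [] [⟨208, [], [438]⟩],
  .tm 0 [] [] [⟨193, [], [438]⟩],
  .tm 0 [] [] [⟨210, [], [438]⟩],
  .tm 0 [] [] [⟨213, [], [438]⟩],
  .tm 0 [9, 10, 0, 0, 19] [439] [⟨123, [], []⟩],
  .tm 0 [11, 5, 17, 13] [439] [⟨187, [], []⟩],
  .tm 0 [10, 6, 2, 16, 15] [439] [⟨209, [], []⟩],
  .tm 0 [11, 9, 2, 18] [439] [⟨211, [], []⟩],
  .tm 0 [9, 10, 1, 16, 12] [439] [⟨212, [], [438]⟩],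
  .tm 0 [10, 6, 15] [439] [⟨214, [], []⟩],
  .tm 6 [] [] [⟨174, [9, 7, 8], [51]⟩, ⟨186, [8, 11, 6, 0, 14, 14, 12], [66, 62, 64]⟩, ⟨177, [10, 7, 0, 0, 15, 12], []⟩, ⟨222, [6, 8, 8, 12, 12], [442, 234, 443, 440]⟩, ⟨216, [6, 4, 14], []⟩],
  .walk [467],
  .tm 0 [] [] [⟨118, [], [468]⟩],
  .tm 0 [] [] [⟨121, [], [468]⟩],
  .tm 0 [] [] [⟨216, [], [468]⟩],
  .tm 0 [6, 8, 8, 19] [469] [⟨119, [], []⟩],
  .tm 0 [10, 6, 0, 18, 13] [469] [⟨120, [], []⟩],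
  .tm 0 [10, 9, 1, 15] [469] [⟨215, [], []⟩],
  .tm 8 [11, 9, 1, 15, 12] [] [⟨178, [8, 7, 8, 12, 12], [65, 63, 65]⟩, ⟨174, [11, 6, 9], [50]⟩, ⟨222, [7, 2, 17], [442, 234, 442]⟩, ⟨229, [8, 0, 18], []⟩],
  .tm 7 [11, 9, 17] [] [⟨240, [10, 9, 5], [65, 63, 67]⟩, ⟨218, [10, 7, 0, 0, 18, 18], [63]⟩, ⟨174, [11, 7, 9], [53, 54, 52, 51]⟩, ⟨235, [11, 6, 15, 12], []⟩],
  .tm 2 [9, 10, 14] [] [⟨242, [], []⟩],
  .tm 8 [7, 4, 0, 14, 14] [] [⟨224, [10, 6, 3, 17], [63, 65, 66]⟩, ⟨174, [11, 8, 10], [50, 52, 51]⟩, ⟨235, [7, 7, 16, 15], [66, 62, 64, 62]⟩, ⟨224, [8, 4, 0, 15, 13], []⟩],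
  .tm 12 [] [] [⟨240, [3, 18, 12], []⟩, ⟨178, [3, 14, 14], [67]⟩, ⟨176, [10, 6, 15, 12], []⟩, ⟨174, [7, 8, 6, 0], [52, 51, 54, 51]⟩, ⟨130, [9, 7, 18, 13], []⟩],
  .walk [491],
  .tm 0 [] [] [⟨130, [], [492]⟩],
  .tm 0 [] [] [⟨232, [], [492]⟩],
  .tm 0 [10, 6, 0, 18, 12, 12] [493] [⟨131, [], []⟩],
  .tm 0 [9, 6, 2, 14, 14, 12] [493] [⟨132, [], [492]⟩],
  .tm 0 [2, 0, 15, 13] [493] [⟨226, [], []⟩],
  .tm 4 [4, 0, 12, 12] [] [⟨174, [11, 8, 6, 0], [53, 54, 52, 51]⟩, ⟨115, [11, 6, 9, 18], [440]⟩, ⟨248, [10, 6, 14, 14], [443, 234, 442]⟩, ⟨244, [9, 10, 0, 0, 14, 14], []⟩],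
  .tm 2 [8, 7, 3, 18, 12, 12] [] [⟨252, [], []⟩],
  .tm 7 [11, 2, 18] [] [⟨179, [11, 11, 0, 13], [65, 63, 65, 66]⟩, ⟨241, [10, 2, 15], [65, 63, 65, 63, 66]⟩, ⟨175, [11, 2], [64, 62, 64]⟩, ⟨223, [8, 8, 15, 12, 12], []⟩],
  .tm 2 [11, 9, 1, 14, 12] [] [⟨254, [], []⟩],
  .tm 9 [] [] [⟨145, [11, 8, 7, 2, 17, 13], [63]⟩, ⟨175, [7, 4], [66, 64, 62, 64]⟩, ⟨252, [10, 6, 18, 18], [234, 443, 234]⟩, ⟨253, [9, 9, 0, 16], [62]⟩, ⟨145, [8, 4, 2], []⟩],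
  .tm 8 [10, 7, 0] [] [⟨241, [5, 2, 15, 12], [65, 63, 65, 63, 66]⟩, ⟨175, [11, 4], [66, 62, 64]⟩, ⟨176, [8, 1, 18, 12, 12], [64]⟩, ⟨180, [8, 4, 0, 14, 12], []⟩],
  .tm 7 [9, 6, 3, 13] [] [⟨243, [9, 10, 4, 19], [63]⟩, ⟨180, [7, 9, 7, 1, 19, 13], [63, 65, 63, 65, 63]⟩, ⟨175, [9, 6], [64, 62, 64]⟩, ⟨223, [10, 10, 1, 18, 12], []⟩],
  .tm 5 [] [] [⟨152, [11, 6, 0, 14, 14, 12], [512, 295]⟩, ⟨145, [7, 9, 7, 1, 19], [63]⟩, ⟨175, [7, 8], [67, 62]⟩, ⟨175, [11, 6, 0, 18, 12, 12], [67, 62, 64, 62, 64]⟩, ⟨241, [10, 9, 7, 1, 17, 13], []⟩],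
  .tm 0 [] [] [⟨149, [], [518]⟩],
  .tm 0 [] [] [⟨152, [], [518]⟩],
  .tm 0 [11, 9, 5] [519] [⟨150, [], []⟩],
  .tm 1 [] [] [⟨262, [], [67]⟩, ⟨157, [9, 6, 16, 12], []⟩],
  .walk [527],
  .tm 0 [] [] [⟨157, [], [528]⟩],
  .tm 0 [8, 7, 8, 0, 15, 13] [519] [⟨151, [], []⟩],
  .tm 1 [] [] [⟨266, [], [67]⟩, ⟨158, [11, 19], []⟩],
  .walk [535],
  .tm 0 [] [] [⟨158, [], [536]⟩],
  .tm 7 [4, 2, 16, 12] [] [⟨254, [10, 6, 2, 16, 12], [67]⟩, ⟨180, [8, 11, 9, 18], [65, 63, 65, 63, 66]⟩, ⟨175, [8, 10], []⟩, ⟨145, [10, 10, 0], []⟩],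
  .tm 2 [10, 4, 0, 18, 12, 12] [] [⟨270, [], []⟩],
  .tm 10 [9, 10, 5, 15, 12, 12] [] [⟨250, [10, 7, 18, 18], [235, 443, 235, 442, 235]⟩, ⟨225, [10, 9, 7, 1, 18], [72, 72, 75]⟩, ⟨97, [9, 2, 16, 12], [51, 52, 50]⟩, ⟨100, [7, 8, 10, 9, 2], []⟩],
  .tm 2 [6, 6, 1] [] [⟨272, [], []⟩],
  .tm 8 [2, 18, 12] [] [⟨247, [11, 5, 0, 15, 12], [51, 52, 50, 53, 55]⟩, ⟨100, [9], [406, 73]⟩, ⟨100, [10, 2, 14, 12], [54, 52, 50, 50]⟩, ⟨247, [11, 9, 5, 14, 14], []⟩],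
  .tm 9 [] [] [⟨137, [9, 10, 4, 18, 18], [65]⟩, ⟨107, [6, 8, 6], [73, 73, 406]⟩, ⟨273, [6, 15, 13], [234, 442, 234, 443, 440]⟩, ⟨244, [10, 3, 0], [443, 234, 442, 234, 442, 440]⟩, ⟨249, [10, 3, 14, 14], []⟩],
  .tm 0 [] [] [⟨137, [], [550]⟩],
  .tm 0 [11, 3, 17] [551] [⟨138, [], []⟩],
  .tm 1 [] [] [⟨277, [], [52]⟩, ⟨50, [8, 7, 8, 2, 17, 13], []⟩],
  .walk [557],
  .tm 0 [] [] [⟨50, [], [558]⟩],
  .tm 0 [10, 4, 16, 12] [551] [⟨139, [], [550]⟩],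
  .tm 1 [] [] [⟨281, [], [52]⟩, ⟨51, [7, 9, 7, 18], []⟩],
  .walk [565],
  .tm 0 [] [] [⟨51, [], [566]⟩],
  .tm 11 [] [] [⟨134, [10, 7, 0, 16, 12], [63]⟩, ⟨235, [9, 7, 3, 14, 14], [51, 55, 50]⟩, ⟨249, [7, 0, 12], [441, 443, 235, 443, 235, 442]⟩, ⟨240, [9, 10, 3, 18, 13], [65, 63, 67]⟩, ⟨107, [10, 9, 6], []⟩],
  .tm 0 [] [] [⟨134, [], [570]⟩],
  .tm 0 [7, 1, 18] [571] [⟨135, [], []⟩],
  .tm 0 [8, 10, 0, 18, 12, 12] [571] [⟨136, [], []⟩],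
  .tm 1 [] [] [⟨288, [], [72]⟩, ⟨287, [10, 6, 2, 16], []⟩],
  .tm 0 [] [] [⟨133, [], [578]⟩]]

theorem fc213 : checkL (nat_lit 8) (nat_lit 255) tH tK tK' BB FF TM XW d213 (nat_lit 213) = true := by decide +kernel

theorem cv0_1_0 : covB FF nets (nat_lit 870) (nat_lit 10) (nat_lit 12) (nat_lit 240) (nat_lit 291) (nat_lit 0) (nat_lit 1) [0, 1, 2, 3, 4, 5] [[0], [2], [4], [6], [8], [10]]
    [6] [5, 4, 2, 1, 3, 4, 3, 2, 1, 4, 3, 5, 2, 3, 4, 1, 3] k0_1 = true := by decide +kernel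

theorem rw0 : rowB (nat_lit 870) (ivl (nat_lit 240) ((nat_lit 870) - (nat_lit 240))) row0 [0, 630, 0, 0, 0, 0, 0] 0 = true := by decide +kernel

theorem cv1_0_0 : covB FF nets (nat_lit 870) (nat_lit 10) (nat_lit 12) (nat_lit 240) (nat_lit 291) (nat_lit 1) (nat_lit 0) [8, 9, 10, 11, 12] [[3, 7, 2, 16, 14, 16, 24, 21], [5, 6, 2, 14, 18, 16, 22], [3, 7, 1, 19, 13, 14, 26], [1, 4, 17, 12, 18, 14, 14, 22, 20, 26], [11, 3, 18, 13, 14, 14, 13, 25, 26]]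
    [7] [] k1_0 = true := by decide +kernel

theorem cv1_1_0 : covB FF nets (nat_lit 870) (nat_lit 10) (nat_lit 12) (nat_lit 240) (nat_lit 291) (nat_lit 1) (nat_lit 1) [8, 9, 10, 11, 12] [[3, 7, 2, 16, 14, 16, 24, 21], [5, 6, 2, 14, 18, 16, 22], [3, 7, 1, 19, 13, 14, 26], [1, 4, 17, 12, 18, 14, 14, 22, 20, 26], [11, 3, 18, 13, 14, 14, 13, 25, 26]]
    [22, 13] [2, 1, 3, 2, 4, 0, 2] k1_1 = true := by decide +kernel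

theorem cv1_2_0 : covB FF nets (nat_lit 870) (nat_lit 10) (nat_lit 12) (nat_lit 240) (nat_lit 291) (nat_lit 1) (nat_lit 3) [8, 9, 10, 11, 12] [[3, 7, 2, 16, 14, 16, 24, 21], [5, 6, 2, 14, 18, 16, 22], [3, 7, 1, 19, 13, 14, 26], [1, 4, 17, 12, 18, 14, 14, 22, 20, 26], [11, 3, 18, 13, 14, 14, 13, 25, 26]]
    [23, 83] [2, 1, 0, 2, 1, 4, 0, 3, 1, 2, 1, 2] k1_2 = true := by decide +kernel

theorem cv1_3_0 : covB FF nets (nat_lit 870) (nat_lit 10) (nat_lit 12) (nat_lit 240) (nat_lit 291) (nat_lit 1) (nat_lit 4) [8, 9, 10, 11, 12] [[3, 7, 2, 16, 14, 16, 24, 21], [5, 6, 2, 14, 18, 16, 22], [3, 7, 1, 19, 13, 14, 26], [1, 4, 17, 12, 18, 14, 14, 22, 20, 26], [11, 3, 18, 13, 14, 14, 13, 25, 26]]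
    [29] [2, 1, 0, 3, 1, 4, 3, 1, 0, 2] k1_3 = true := by decide +kernel

theorem cv1_4_0 : covB FF nets (nat_lit 870) (nat_lit 10) (nat_lit 12) (nat_lit 240) (nat_lit 291) (nat_lit 1) (nat_lit 5) [8, 9, 10, 11, 12] [[3, 7, 2, 16, 14, 16, 24, 21], [5, 6, 2, 14, 18, 16, 22], [3, 7, 1, 19, 13, 14, 26], [1, 4, 17, 12, 18, 14, 14, 22, 20, 26], [11, 3, 18, 13, 14, 14, 13, 25, 26]]
    [34] [2, 1, 4, 0, 2, 1, 3, 2, 3, 0] k1_4 = true := by decide +kernel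

theorem rw1 : rowB (nat_lit 870) (ivl (nat_lit 240) ((nat_lit 870) - (nat_lit 240))) row1 [1, 37, 336, 128, 128, 0, 0] 0 = true := by decide +kernel

theorem cv2_1_0 : covB FF nets (nat_lit 870) (nat_lit 10) (nat_lit 12) (nat_lit 240) (nat_lit 291) (nat_lit 3) (nat_lit 1) [25, 26, 27] [[11, 8, 3, 13, 17, 15, 12, 26], [2, 13, 18, 14, 22], [11, 0, 2, 14, 19, 24, 22, 26]]
    [24, 79] [1, 1, 2, 1] k2_1 = true := by decide +kernel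

theorem cv2_2_0 : covB FF nets (nat_lit 870) (nat_lit 10) (nat_lit 12) (nat_lit 240) (nat_lit 291) (nat_lit 3) (nat_lit 3) [25, 26, 27] [[11, 8, 3, 13, 17, 15, 12, 26], [2, 13, 18, 14, 22], [11, 0, 2, 14, 19, 24, 22, 26]]
    [74, 28, 201, 75, 94, 284] [1, 2, 1, 0, 1, 2, 1, 0, 1] k2_2 = true := by decide +kernel

theorem cv2_3_0 : covB FF nets (nat_lit 870) (nat_lit 10) (nat_lit 12) (nat_lit 240) (nat_lit 291) (nat_lit 3) (nat_lit 4) [25, 26, 27] [[11, 8, 3, 13, 17, 15, 12, 26], [2, 13, 18, 14, 22], [11, 0, 2, 14, 19, 24, 22, 26]]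
    [105, 186, 235, 197, 174, 280, 106] [1, 0, 1, 2, 1, 1, 0, 1, 2, 1, 1] k2_3 = true := by decide +kernel

theorem cv2_4_0 : covB FF nets (nat_lit 870) (nat_lit 10) (nat_lit 12) (nat_lit 240) (nat_lit 291) (nat_lit 3) (nat_lit 5) [25, 26, 27] [[11, 8, 3, 13, 17, 15, 12, 26], [2, 13, 18, 14, 22], [11, 0, 2, 14, 19, 24, 22, 26]]
    [97, 98] [1, 2, 1, 0, 1, 0, 1] k2_4 = true := by decide +kernel

theorem cv2_5_0 : covB FF nets (nat_lit 870) (nat_lit 10) (nat_lit 12) (nat_lit 240) (nat_lit 291) (nat_lit 3) (nat_lit 17) [25, 26, 27] [[11, 8, 3, 13, 17, 15, 12, 26], [2, 13, 18, 14, 22], [11, 0, 2, 14, 19, 24, 22, 26]]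
    [115, 222, 247] [1, 2, 1, 0, 1, 2, 1, 1, 0, 1] k2_5 = true := by decide +kernel

theorem rw2 : rowB (nat_lit 870) (ivl (nat_lit 240) ((nat_lit 870) - (nat_lit 240))) row2 [0, 7, 111, 272, 48, 192, 0] 0 = true := by decide +kernel

theorem cv3_1_0 : covB FF nets (nat_lit 870) (nat_lit 10) (nat_lit 12) (nat_lit 240) (nat_lit 291) (nat_lit 4) (nat_lit 1) [31, 32, 33] [[2, 0, 14, 14, 26], [0, 2, 0, 16, 14, 17, 14, 23, 26], [10, 5, 1, 18, 15, 25, 21]]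
    [30] [] k3_1 = true := by decide +kernel

theorem cv3_2_0 : covB FF nets (nat_lit 870) (nat_lit 10) (nat_lit 12) (nat_lit 240) (nat_lit 291) (nat_lit 4) (nat_lit 3) [31, 32, 33] [[2, 0, 14, 14, 26], [0, 2, 0, 16, 14, 17, 14, 23, 26], [10, 5, 1, 18, 15, 25, 21]]
    [276, 109, 191, 177, 112, 192, 238] [0, 2, 1, 0, 1, 0, 2, 1] k3_2 = true := by decide +kernel

theorem cv3_3_0 : covB FF nets (nat_lit 870) (nat_lit 10) (nat_lit 12) (nat_lit 240) (nat_lit 291) (nat_lit 4) (nat_lit 4) [31, 32, 33] [[2, 0, 14, 14, 26], [0, 2, 0, 16, 14, 17, 14, 23, 26], [10, 5, 1, 18, 15, 25, 21]]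
    [170, 218, 260, 110, 167, 290, 241, 184, 178, 180, 175, 265, 217, 176, 179, 206, 257] [0, 2, 1, 0, 1, 0, 1, 0] k3_3 = true := by decide +kernel

theorem cv3_4_0 : covB FF nets (nat_lit 870) (nat_lit 10) (nat_lit 12) (nat_lit 240) (nat_lit 291) (nat_lit 4) (nat_lit 5) [31, 32, 33] [[2, 0, 14, 14, 26], [0, 2, 0, 16, 14, 17, 14, 23, 26], [10, 5, 1, 18, 15, 25, 21]]
    [40, 204, 111, 286] [0, 1, 2, 0] k3_4 = true := by decide +kernel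

theorem cv3_5_0 : covB FF nets (nat_lit 870) (nat_lit 10) (nat_lit 12) (nat_lit 240) (nat_lit 291) (nat_lit 4) (nat_lit 17) [31, 32, 33] [[2, 0, 14, 14, 26], [0, 2, 0, 16, 14, 17, 14, 23, 26], [10, 5, 1, 18, 15, 25, 21]]
    [243, 223, 240, 224, 252, 239, 254] [0, 2, 0, 1, 0, 1, 0, 1] k3_5 = true := by decide +kernel

theorem cv3_6_0 : covB FF nets (nat_lit 870) (nat_lit 10) (nat_lit 12) (nat_lit 240) (nat_lit 291) (nat_lit 4) (nat_lit 26) [31, 32, 33] [[2, 0, 14, 14, 26], [0, 2, 0, 16, 14, 17, 14, 23, 26], [10, 5, 1, 18, 15, 25, 21]]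
    [145, 269] [0, 2, 1] k3_6 = true := by decide +kernel

theorem rw3 : rowB (nat_lit 870) (ivl (nat_lit 240) ((nat_lit 870) - (nat_lit 240))) row3 [0, 1, 102, 353, 18, 144, 12] 0 = true := by decide +kernel

theorem cv4_1_0 : covB FF nets (nat_lit 870) (nat_lit 10) (nat_lit 12) (nat_lit 240) (nat_lit 291) (nat_lit 5) (nat_lit 1) [36, 37, 38, 203] [[5, 6, 16, 14], [7, 4, 16, 18, 15, 23], [8, 6, 2, 15, 18, 23, 26], [8, 1, 17, 19, 14, 26]]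
    [35] [3, 0, 1, 1, 3] k4_1 = true := by decide +kernel

theorem cv4_2_0 : covB FF nets (nat_lit 870) (nat_lit 10) (nat_lit 12) (nat_lit 240) (nat_lit 291) (nat_lit 5) (nat_lit 3) [36, 37, 38, 203] [[5, 6, 16, 14], [7, 4, 16, 18, 15, 23], [8, 6, 2, 15, 18, 23, 26], [8, 1, 17, 19, 14, 26]]
    [100, 108] [0, 3, 0, 1, 2, 3, 0, 1, 1] k4_2 = true := by decide +kernel

theorem cv4_3_0 : covB FF nets (nat_lit 870) (nat_lit 10) (nat_lit 12) (nat_lit 240) (nat_lit 291) (nat_lit 5) (nat_lit 4) [36, 37, 38, 203] [[5, 6, 16, 14], [7, 4, 16, 18, 15, 23], [8, 6, 2, 15, 18, 23, 26], [8, 1, 17, 19, 14, 26]]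
    [39, 107, 287, 205] [0, 3, 1, 0, 2, 3, 0, 1, 1] k4_3 = true := by decide +kernel

theorem cv4_4_0 : covB FF nets (nat_lit 870) (nat_lit 10) (nat_lit 12) (nat_lit 240) (nat_lit 291) (nat_lit 5) (nat_lit 5) [36, 37, 38, 203] [[5, 6, 16, 14], [7, 4, 16, 18, 15, 23], [8, 6, 2, 15, 18, 23, 26], [8, 1, 17, 19, 14, 26]]
    [101] [0, 3, 0, 1, 2, 3, 0, 1, 1] k4_4 = true := by decide +kernel

theorem cv4_5_0 : covB FF nets (nat_lit 870) (nat_lit 10) (nat_lit 12) (nat_lit 240) (nat_lit 291) (nat_lit 5) (nat_lit 17) [36, 37, 38, 203] [[5, 6, 16, 14], [7, 4, 16, 18, 15, 23], [8, 6, 2, 15, 18, 23, 26], [8, 1, 17, 19, 14, 26]]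
    [225, 273] [0, 3, 0, 1, 2, 3, 0, 1, 3, 0, 0] k4_5 = true := by decide +kernel

theorem rw4 : rowB (nat_lit 870) (ivl (nat_lit 240) ((nat_lit 870) - (nat_lit 240))) row4 [0, 9, 162, 162, 81, 216, 0] 0 = true := by decide +kernel

theorem cv5_2_0 : covB FF nets (nat_lit 870) (nat_lit 10) (nat_lit 12) (nat_lit 240) (nat_lit 291) (nat_lit 17) (nat_lit 3) [117, 220, 221] [[9, 3, 1, 19, 15, 23, 26], [2, 4, 12, 18, 14, 14, 20, 23, 26], [1, 8, 6, 15, 18, 15, 23, 25, 26]]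
    [116, 249, 227] [2, 0, 1, 2, 0, 2, 0, 2, 0] k5_2 = true := by decide +kernel

theorem cv5_3_0 : covB FF nets (nat_lit 870) (nat_lit 10) (nat_lit 12) (nat_lit 240) (nat_lit 291) (nat_lit 17) (nat_lit 4) [117, 220, 221] [[9, 3, 1, 19, 15, 23, 26], [2, 4, 12, 18, 14, 14, 20, 23, 26], [1, 8, 6, 15, 18, 15, 23, 25, 26]]
    [236, 237, 242, 255, 229, 253, 228] [0, 2, 1, 0, 2, 0, 2, 0, 2] k5_3 = true := by decide +kernel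

theorem cv5_4_0 : covB FF nets (nat_lit 870) (nat_lit 10) (nat_lit 12) (nat_lit 240) (nat_lit 291) (nat_lit 17) (nat_lit 5) [117, 220, 221] [[9, 3, 1, 19, 15, 23, 26], [2, 4, 12, 18, 14, 14, 20, 23, 26], [1, 8, 6, 15, 18, 15, 23, 25, 26]]
    [230, 272] [0, 2, 1, 0, 2, 0, 2, 2] k5_4 = true := by decide +kernel

theorem cv5_5_0 : covB FF nets (nat_lit 870) (nat_lit 10) (nat_lit 12) (nat_lit 240) (nat_lit 291) (nat_lit 17) (nat_lit 17) [117, 220, 221] [[9, 3, 1, 19, 15, 23, 26], [2, 4, 12, 18, 14, 14, 20, 23, 26], [1, 8, 6, 15, 18, 15, 23, 25, 26]]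
    [231, 248, 250, 251, 274, 244, 258] [0, 2, 1, 0, 2, 0, 2, 0, 2] k5_5 = true := by decide +kernel

theorem cv5_6_0 : covB FF nets (nat_lit 870) (nat_lit 10) (nat_lit 12) (nat_lit 240) (nat_lit 291) (nat_lit 17) (nat_lit 26) [117, 220, 221] [[9, 3, 1, 19, 15, 23, 26], [2, 4, 12, 18, 14, 14, 20, 23, 26], [1, 8, 6, 15, 18, 15, 23, 25, 26]]
    [270] [0, 1, 2] k5_6 = true := by decide +kernel

theorem rw5 : rowB (nat_lit 870) (ivl (nat_lit 240) ((nat_lit 870) - (nat_lit 240))) row5 [0, 0, 120, 240, 40, 225, 5] 0 = true := by decide +kernel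

theorem cv6_3_0 : covB FF nets (nat_lit 870) (nat_lit 10) (nat_lit 12) (nat_lit 240) (nat_lit 291) (nat_lit 26) (nat_lit 4) [147, 148, 256] [[9, 7, 14, 13, 14, 24, 24, 13, 26], [2, 7, 14, 12, 19, 15, 24, 22, 26], [11, 3, 18, 16, 24, 24, 13, 26]]
    [146, 261] [2, 2, 1, 0, 2, 1, 2, 0, 2, 1, 2, 0, 1, 2] k6_3 = true := by decide +kernel

theorem cv6_5_0 : covB FF nets (nat_lit 870) (nat_lit 10) (nat_lit 12) (nat_lit 240) (nat_lit 291) (nat_lit 26) (nat_lit 17) [147, 148, 256] [[9, 7, 14, 13, 14, 24, 24, 13, 26], [2, 7, 14, 12, 19, 15, 24, 22, 26], [11, 3, 18, 16, 24, 24, 13, 26]]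
    [271] [2, 1, 2, 0, 2, 1, 2, 0, 1, 2, 0, 2] k6_5 = true := by decide +kernel

theorem rw6 : rowB (nat_lit 870) (ivl (nat_lit 240) ((nat_lit 870) - (nat_lit 240))) row6 [0, 0, 0, 504, 0, 126, 0] 0 = true := by decide +kernel

end Cfsg.Agent.Lib.Co3HD
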