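import Cfsg.Agent.Lib.DCE7
import Cfsg.Agent.Lib.Co3HDC0
import Cfsg.Agent.Lib.Co3HDE0

set_option autoImplicit false
set_option maxRecDepth 100000

namespace Cfsg.Agent.Lib.Co3HD
open Cfsg.Agent.Lib.PermNet Cfsg.Agent.Lib.DCE

open Cfsg.Agent.Lib.Words Cfsg.Agent.Lib.PermGroup

/-- Relators of the subgroup. -/
def K1 : List (List ℕ) := [[0, 0, 0], [2, 2, 2], [4, 4, 4], [6, 6, 6], [8, 8, 8], [10, 10, 10], [0, 3, 0, 2, 1, 2], [0, 2, 4, 3, 1, 4], [0, 4, 0, 5, 1, 3], [0, 6, 0, 7, 1, 7], [0, 7, 4, 6, 1, 5], [4, 8, 5, 9], [0, 7, 8, 6, 1, 8], [0, 9, 0, 8, 1, 8], [6, 10, 7, 11], [8, 10, 9, 11], [2, 4, 10, 5, 3, 10], [2, 10, 2, 11, 3, 5]]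

def I1 : List ℕ := []

/-- Further relations in the subgroup. -/
def X : List (List ℕ) := []

/-- Relators that involve the extra generator. -/
def RR : List (List ℕ) := [[0, 3, 6, 12, 0, 3, 6, 13], [1, 7, 2, 12, 1, 7, 2, 13], [2, 1, 7, 12, 2, 1, 7, 13], [1, 7, 12, 5, 1, 7, 1, 5, 8, 1, 5, 6, 9, 13], [2, 5, 1, 7, 2, 10, 12, 1, 5, 7, 0, 5, 10, 13], [5, 7, 9, 1, 5, 7, 5, 2, 9, 0, 12, 1, 7, 13], [12, 12], [12, 11, 5, 6, 12, 11, 5, 6, 12, 11, 5, 6], [12, 3, 10, 8, 4, 7, 3, 9, 1, 12, 3, 10, 8, 4, 7, 3, 9, 1, 12, 3, 10, 8, 4, 7, 3, 9, 1, 12, 3, 10, 8, 4, 7, 3, 9, 1, 12, 3, 10, 8, 4, 7, 3, 9, 1]]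

noncomputable def dat : Dat where
  N := (nat_lit 870)
  K := (nat_lit 10)
  nS := (nat_lit 240)
  KS := (nat_lit 8)
  wb := (nat_lit 8)
  mask := (nat_lit 255)
  n0 := 6
  nl := (nat_lit 68)
  k0 := 14
  nK := (nat_lit 10)
  idT := idT
  T := 2903040
  TK := 4608
  nF := (nat_lit 291)
  n := 7
  s0 := 0
  tot := 170775
  nets := nets
  th := th
  tk := tk
  tk' := tk'
  F := FF
  TM := TM
  XW := XW
  defs := defs
  R := RR
  cw := []
  rows := [row0, row1, row2, row3, row4, row5, row6]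
  cs := [[0, 630, 0, 0, 0, 0, 0], [1, 37, 336, 128, 128, 0, 0], [0, 7, 111, 272, 48, 192, 0], [0, 1, 102, 353, 18, 144, 12], [0, 9, 162, 162, 81, 216, 0], [0, 0, 120, 240, 40, 225, 5], [0, 0, 0, 504, 0, 126, 0]]
  u := []
  v := []
  live := [(nat_lit 0), (nat_lit 1), (nat_lit 3), (nat_lit 4), (nat_lit 5), (nat_lit 17), (nat_lit 26)]
  cols := [1, 2, 3, 4, 5, 6]
  sz := [1, 630, 30240, 80640, 8960, 48384, 1920]
  par := [0, 0, 1, 1, 1, 2, 3]
  chH := chH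
  chK := chK
  tc := [[([], 12)],
  [([], 12)],
  [([], 12)],
  [([11, 5, 6], 15)],
  [([3, 10, 8, 4, 7, 3, 9, 1], 17)],
  [([], 17)],
  [([], 17)],
  [([3, 10, 8, 4, 7, 3, 9, 1], 17)],
  [([3, 10, 8, 4, 7, 3, 9, 1], 17)],
  [([], 17)],
  [([3, 10, 8, 4, 7, 3, 9, 1], 17)],
  [([], 17)],
  [([], 17)]]

theorem hrels : ∀ w ∈ relW rels, wval nets.perm w = 1 :=
  relW_one (wval_eq_of_relsOn (K := 10) hv (by norm_num) rels0_0)

theorem hK1 : ∀ w ∈ K1, wval nets.perm w = 1 := derive [] hrels _ (by decide +kernel)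

theorem hX : ∀ w ∈ X, wval nets.perm w = 1 := derive [] hrels _ (by decide +kernel)

theorem hB : dat.B = BB := by decide +kernel

theorem facts : AllR (fun c => ∃ e, checkF (nat_lit 8) (nat_lit 255) tH tK tK' BB FF TM XW c e = true) 0 (nat_lit 291) :=
  ((allR_of_checkL d0 0 213 (by decide +kernel) fc0).trans
    (allR_of_checkL d213 213 291 (by decide +kernel) fc213))

theorem tab : AllR (fun l => tabB nets (nat_lit 870) (nat_lit 10) (nat_lit 240) (nat_lit 8) (nat_lit 8) (nat_lit 255) tH l = true)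
    0 (nat_lit 68) :=
  (allR_of 0 68 68 (by decide) tab0)

theorem cov0 : AllIdx (fun j m => Cov nets FF (nat_lit 240) (nat_lit 291) (nat_lit 0) (getD 0 dat.live j) m) 0 row0 :=
  ⟨cov_zero,
    (cov_of_covB hv _ (by decide +kernel) _ _ _ _ cv0_1_0),
    cov_zero,
    cov_zero,
    cov_zero,
    cov_zero,
    cov_zero, trivial⟩

theorem cov1 : AllIdx (fun j m => Cov nets FF (nat_lit 240) (nat_lit 291) (nat_lit 1) (getD 0 dat.live j) m) 0 row1 :=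
  ⟨(cov_of_covB hv _ (by decide +kernel) _ _ _ _ cv1_0_0),
    (cov_of_covB hv _ (by decide +kernel) _ _ _ _ cv1_1_0),
    (cov_of_covB hv _ (by decide +kernel) _ _ _ _ cv1_2_0),
    (cov_of_covB hv _ (by decide +kernel) _ _ _ _ cv1_3_0),
    (cov_of_covB hv _ (by decide +kernel) _ _ _ _ cv1_4_0),
    cov_zero,
    cov_zero, trivial⟩

theorem cov2 : AllIdx (fun j m => Cov nets FF (nat_lit 240) (nat_lit 291) (nat_lit 3) (getD 0 dat.live j) m) 0 row2 :=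
  ⟨cov_zero,
    (cov_of_covB hv _ (by decide +kernel) _ _ _ _ cv2_1_0),
    (cov_of_covB hv _ (by decide +kernel) _ _ _ _ cv2_2_0),
    (cov_of_covB hv _ (by decide +kernel) _ _ _ _ cv2_3_0),
    (cov_of_covB hv _ (by decide +kernel) _ _ _ _ cv2_4_0),
    (cov_of_covB hv _ (by decide +kernel) _ _ _ _ cv2_5_0),
    cov_zero, trivial⟩

theorem cov3 : AllIdx (fun j m => Cov nets FF (nat_lit 240) (nat_lit 291) (nat_lit 4) (getD 0 dat.live j) m) 0 row3 :=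
  ⟨cov_zero,
    (cov_of_covB hv _ (by decide +kernel) _ _ _ _ cv3_1_0),
    (cov_of_covB hv _ (by decide +kernel) _ _ _ _ cv3_2_0),
    (cov_of_covB hv _ (by decide +kernel) _ _ _ _ cv3_3_0),
    (cov_of_covB hv _ (by decide +kernel) _ _ _ _ cv3_4_0),
    (cov_of_covB hv _ (by decide +kernel) _ _ _ _ cv3_5_0),
    (cov_of_covB hv _ (by decide +kernel) _ _ _ _ cv3_6_0), trivial⟩

theorem cov4 : AllIdx (fun j m => Cov nets FF (nat_lit 240) (nat_lit 291) (nat_lit 5) (getD 0 dat.live j) m) 0 row4 :=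
  ⟨cov_zero,
    (cov_of_covB hv _ (by decide +kernel) _ _ _ _ cv4_1_0),
    (cov_of_covB hv _ (by decide +kernel) _ _ _ _ cv4_2_0),
    (cov_of_covB hv _ (by decide +kernel) _ _ _ _ cv4_3_0),
    (cov_of_covB hv _ (by decide +kernel) _ _ _ _ cv4_4_0),
    (cov_of_covB hv _ (by decide +kernel) _ _ _ _ cv4_5_0),
    cov_zero, trivial⟩

theorem cov5 : AllIdx (fun j m => Cov nets FF (nat_lit 240) (nat_lit 291) (nat_lit 17) (getD 0 dat.live j) m) 0 row5 :=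
  ⟨cov_zero,
    cov_zero,
    (cov_of_covB hv _ (by decide +kernel) _ _ _ _ cv5_2_0),
    (cov_of_covB hv _ (by decide +kernel) _ _ _ _ cv5_3_0),
    (cov_of_covB hv _ (by decide +kernel) _ _ _ _ cv5_4_0),
    (cov_of_covB hv _ (by decide +kernel) _ _ _ _ cv5_5_0),
    (cov_of_covB hv _ (by decide +kernel) _ _ _ _ cv5_6_0), trivial⟩

theorem cov6 : AllIdx (fun j m => Cov nets FF (nat_lit 240) (nat_lit 291) (nat_lit 26) (getD 0 dat.live j) m) 0 row6 :=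
  ⟨cov_zero,
    cov_zero,
    cov_zero,
    (cov_of_covB hv _ (by decide +kernel) _ _ _ _ cv6_3_0),
    cov_zero,
    (cov_of_covB hv _ (by decide +kernel) _ _ _ _ cv6_5_0),
    cov_zero, trivial⟩

theorem ok : dat.OKI :=
  ⟨hv, by decide +kernel, derive [] hrels _ (by decide +kernel), tab, cH, cK, hB ▸ facts,
    ⟨rw0, rw1, rw2, rw3, rw4, rw5, rw6, trivial⟩,
    ⟨cov0, cov1, cov2, cov3, cov4, cov5, cov6, trivial⟩⟩

end Cfsg.Agent.Lib.Co3HD
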