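import Cfsg.Agent.Lib.DCEDefs

set_option autoImplicit false
set_option maxRecDepth 100000

namespace Cfsg.Agent.Lib.Co3HD
open Cfsg.Agent.Lib.PermNet Cfsg.Agent.Lib.DCE

noncomputable def f0 : FT := (.node (nat_lit 16) (.node (nat_lit 8) (.node (nat_lit 4) (.node (nat_lit 2) (.node (nat_lit 1) (.leaf ⟨0, 0, false, [0], []⟩)
  (.leaf ⟨0, 0, false, [2], []⟩))
  (.node (nat_lit 3) (.leaf ⟨0, 0, false, [4], []⟩)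
  (.leaf ⟨0, 0, false, [6], []⟩)))
  (.node (nat_lit 6) (.node (nat_lit 5) (.leaf ⟨0, 0, false, [8], []⟩)
  (.leaf ⟨0, 0, false, [10], []⟩))
  (.node (nat_lit 7) (.leaf ⟨0, 1, true, [], []⟩)
  (.leaf ⟨1, 0, true, [], []⟩))))
  (.node (nat_lit 12) (.node (nat_lit 10) (.node (nat_lit 9) (.leaf ⟨1, 1, false, [3, 7, 2, 16, 14, 16, 24, 21], []⟩)
  (.leaf ⟨1, 1, false, [5, 6, 2, 14, 18, 16, 22], []⟩))
  (.node (nat_lit 11) (.leaf ⟨1, 1, false, [3, 7, 1, 19, 13, 14, 26], []⟩)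
  (.leaf ⟨1, 1, false, [1, 4, 17, 12, 18, 14, 14, 22, 20, 26], []⟩)))
  (.node (nat_lit 14) (.node (nat_lit 13) (.leaf ⟨1, 1, false, [11, 3, 18, 13, 14, 14, 13, 25, 26], []⟩)
  (.leaf ⟨1, 1, true, [11, 5], [4, 3, 17, 14, 23, 26]⟩))
  (.node (nat_lit 15) (.leaf ⟨1, 2, true, [10, 4], []⟩)
  (.leaf ⟨2, 1, true, [], [5, 0, 13]⟩)))))
  (.node (nat_lit 24) (.node (nat_lit 20) (.node (nat_lit 18) (.node (nat_lit 17) (.leaf ⟨2, 2, false, [17, 14, 14, 23, 26], []⟩)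
  (.leaf ⟨2, 2, false, [3, 4, 1, 14, 13, 18, 12, 20], []⟩))
  (.node (nat_lit 19) (.leaf ⟨2, 2, true, [11, 5], [7, 2, 4, 14, 12, 17, 20, 22, 12, 26]⟩)
  (.leaf ⟨2, 2, true, [3, 10, 0, 4], [2, 9, 4, 17, 19, 14, 13]⟩)))
  (.node (nat_lit 22) (.node (nat_lit 21) (.leaf ⟨2, 2, false, [3, 6, 0, 18, 14, 12, 19, 15, 23, 25], []⟩)
  (.leaf ⟨2, 1, false, [1, 2, 19, 16, 19, 15, 22, 13], []⟩))
  (.node (nat_lit 23) (.leaf ⟨1, 1, true, [10, 4], [1, 2, 19, 16, 19, 15, 22, 13]⟩)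
  (.leaf ⟨1, 3, true, [4], []⟩))))
  (.node (nat_lit 28) (.node (nat_lit 26) (.node (nat_lit 25) (.leaf ⟨3, 1, true, [], [5]⟩)
  (.leaf ⟨3, 3, false, [11, 8, 3, 13, 17, 15, 12, 26], []⟩))
  (.node (nat_lit 27) (.leaf ⟨3, 3, false, [2, 13, 18, 14, 22], []⟩)
  (.leaf ⟨3, 3, false, [11, 0, 2, 14, 19, 24, 22, 26], []⟩)))
  (.node (nat_lit 30) (.node (nat_lit 29) (.leaf ⟨3, 3, true, [11, 5], [7, 4, 0, 13, 19, 19, 22, 13]⟩)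
  (.leaf ⟨1, 4, true, [8, 4], []⟩))
  (.node (nat_lit 31) (.leaf ⟨4, 1, true, [], [9, 5]⟩)
  (.leaf ⟨4, 4, false, [2, 0, 14, 14, 26], []⟩))))))

noncomputable def f32 : FT := (.node (nat_lit 48) (.node (nat_lit 40) (.node (nat_lit 36) (.node (nat_lit 34) (.node (nat_lit 33) (.leaf ⟨4, 4, false, [0, 2, 0, 16, 14, 17, 14, 23, 26], []⟩)
  (.leaf ⟨4, 4, false, [10, 5, 1, 18, 15, 25, 21], []⟩))
  (.node (nat_lit 35) (.leaf ⟨1, 5, true, [10, 8], []⟩)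
  (.leaf ⟨5, 1, true, [], [9, 0, 13]⟩)))
  (.node (nat_lit 38) (.node (nat_lit 37) (.leaf ⟨5, 5, false, [5, 6, 16, 14], []⟩)
  (.leaf ⟨5, 5, false, [7, 4, 16, 18, 15, 23], []⟩))
  (.node (nat_lit 39) (.leaf ⟨5, 5, false, [8, 6, 2, 15, 18, 23, 26], []⟩)
  (.leaf ⟨5, 4, true, [11, 5], [7, 1, 18, 13, 18, 12, 21, 26]⟩))))
  (.node (nat_lit 44) (.node (nat_lit 42) (.node (nat_lit 41) (.leaf ⟨4, 5, true, [11, 5], [3, 1, 19, 13, 17, 15, 23, 26]⟩)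
  (.leaf ⟨1, 6, true, [10, 8, 4], []⟩))
  (.node (nat_lit 43) (.leaf ⟨3, 7, true, [10, 0, 4], []⟩)
  (.leaf ⟨3, 8, true, [10, 6, 4], []⟩)))
  (.node (nat_lit 46) (.node (nat_lit 45) (.leaf ⟨8, 8, false, [14, 18, 16, 12], []⟩)
  (.leaf ⟨8, 8, false, [6, 3, 4, 13, 19, 16, 19, 15, 22, 21, 12, 26], []⟩))
  (.node (nat_lit 47) (.leaf ⟨8, 7, true, [11, 5], [7, 2, 4, 17, 19, 15]⟩)
  (.leaf ⟨7, 8, true, [11, 5], [6, 0, 17, 14, 17, 14]⟩)))))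
  (.node (nat_lit 56) (.node (nat_lit 52) (.node (nat_lit 50) (.node (nat_lit 49) (.leaf ⟨3, 9, true, [8, 0, 4], []⟩)
  (.leaf ⟨3, 10, true, [8, 6, 4], []⟩))
  (.node (nat_lit 51) (.leaf ⟨3, 11, true, [10, 9], []⟩)
  (.leaf ⟨3, 12, true, [9, 5], []⟩)))
  (.node (nat_lit 54) (.node (nat_lit 53) (.leaf ⟨3, 13, true, [4], []⟩)
  (.leaf ⟨13, 3, true, [], [5]⟩))
  (.node (nat_lit 55) (.leaf ⟨13, 13, false, [3, 7, 1, 13, 19, 24, 21], []⟩)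
  (.leaf ⟨13, 13, true, [11, 5], [2, 0, 2, 18, 13, 18, 12, 21, 26]⟩))))
  (.node (nat_lit 60) (.node (nat_lit 58) (.node (nat_lit 57) (.leaf ⟨3, 14, true, [10], []⟩)
  (.leaf ⟨14, 3, true, [], [0, 13]⟩))
  (.node (nat_lit 59) (.leaf ⟨14, 14, false, [2, 7, 14, 12, 19, 15, 24, 22, 26], []⟩)
  (.leaf ⟨14, 14, true, [11, 5], [0, 7, 2, 18, 13, 18, 12, 21, 26]⟩)))
  (.node (nat_lit 62) (.node (nat_lit 61) (.leaf ⟨3, 15, true, [10, 4], []⟩)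
  (.leaf ⟨15, 3, true, [], [5, 0, 13]⟩))
  (.node (nat_lit 63) (.leaf ⟨15, 15, true, [11, 5], [6, 0, 15, 16, 13, 23, 26]⟩)
  (.leaf ⟨15, 15, false, [7, 0, 17, 12, 18, 14, 14, 12, 20, 26], []⟩))))))

noncomputable def f64 : FT := (.node (nat_lit 80) (.node (nat_lit 72) (.node (nat_lit 68) (.node (nat_lit 66) (.node (nat_lit 65) (.leaf ⟨8, 15, true, [9, 5, 7, 0, 5, 10, 7, 5, 0, 9, 0, 4], [2, 8, 18, 15, 12, 24, 26]⟩)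
  (.leaf ⟨15, 8, true, [7, 8, 2, 10, 6, 9, 4], [1, 9, 0, 19, 13, 17, 15, 21, 12, 26]⟩))
  (.node (nat_lit 67) (.leaf ⟨8, 7, true, [10, 5, 7, 8, 2, 10, 7, 3, 9, 0, 4], [3, 4, 7, 18, 13, 17, 14, 21, 22, 26]⟩)
  (.leaf ⟨8, 15, false, [0, 6, 3, 16, 18, 14, 24, 13], []⟩)))
  (.node (nat_lit 70) (.node (nat_lit 69) (.leaf ⟨15, 8, false, [11, 3, 1, 16, 12, 19, 15, 24, 13], []⟩)
  (.leaf ⟨8, 8, false, [9, 2, 0, 14, 13, 17, 21, 22], []⟩))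
  (.node (nat_lit 71) (.leaf ⟨3, 8, true, [10, 4], [11, 3, 1, 16, 12, 19, 15, 24, 13]⟩)
  (.leaf ⟨8, 3, true, [3, 10, 0, 4], [1, 4, 0, 12, 19, 16, 19, 15, 22, 13]⟩))))
  (.node (nat_lit 76) (.node (nat_lit 74) (.node (nat_lit 73) (.leaf ⟨8, 8, true, [3, 10, 6, 4], [5, 6, 3, 14, 14, 12, 19, 15, 20, 12]⟩)
  (.leaf ⟨8, 3, false, [0, 6, 18, 12, 16, 24, 20, 12, 26], []⟩))
  (.node (nat_lit 75) (.leaf ⟨3, 3, true, [10, 4], [1, 6, 1, 18, 15, 24, 13, 26]⟩)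
  (.leaf ⟨3, 3, true, [10, 6, 4], [0, 6, 18, 12, 16, 24, 20, 12, 26]⟩)))
  (.node (nat_lit 78) (.node (nat_lit 77) (.leaf ⟨7, 3, true, [11, 5], [3, 1, 3, 15, 12, 17, 23, 21]⟩)
  (.leaf ⟨3, 7, true, [], [2, 4, 18, 13, 14, 14, 25, 12]⟩))
  (.node (nat_lit 79) (.leaf ⟨7, 1, false, [4, 0, 6, 12, 19, 12, 24, 26], []⟩)
  (.leaf ⟨3, 1, true, [10, 0, 4], [4, 0, 6, 12, 19, 12, 24, 26]⟩)))))
  (.node (nat_lit 88) (.node (nat_lit 84) (.node (nat_lit 82) (.node (nat_lit 81) (.leaf ⟨1, 3, true, [3, 8, 7, 2, 10, 3, 9, 4], [1, 9, 17, 14, 16, 13, 20, 26]⟩)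
  (.leaf ⟨3, 6, false, [3, 8, 1, 15, 12, 16, 15, 13, 23], []⟩))
  (.node (nat_lit 83) (.leaf ⟨6, 3, false, [7, 2, 4, 19, 16, 21, 12], []⟩)
  (.leaf ⟨1, 3, true, [10, 8, 4], [7, 2, 4, 19, 16, 21, 12]⟩)))
  (.node (nat_lit 86) (.node (nat_lit 85) (.leaf ⟨13, 14, true, [10, 2, 9, 7, 1, 2, 10, 7, 3, 9, 0, 4], [5, 3, 0, 19, 16, 19, 15, 22, 24, 26]⟩)
  (.leaf ⟨14, 13, true, [5, 7, 8, 2, 10, 4, 7, 3, 9, 0, 4], [10, 3, 0, 13, 19, 16, 19, 15, 24, 20, 12, 26]⟩))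
  (.node (nat_lit 87) (.leaf ⟨14, 13, true, [3, 10, 4], [2, 1, 19, 14, 20, 22, 12, 26]⟩)
  (.leaf ⟨13, 14, true, [7, 8, 2, 10, 6, 9, 6, 4], [2, 5, 0, 18, 13, 14, 14, 25, 26]⟩))))
  (.node (nat_lit 92) (.node (nat_lit 90) (.node (nat_lit 89) (.leaf ⟨13, 13, false, [4, 0, 6, 19, 15, 23, 13, 26], []⟩)
  (.leaf ⟨14, 14, false, [3, 11, 3, 18, 16, 22, 12, 26], []⟩))
  (.node (nat_lit 91) (.leaf ⟨14, 3, true, [10, 3, 6, 8, 2, 10, 7, 3, 9, 0, 4], [1, 9, 1, 19, 25, 21, 26]⟩)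
  (.leaf ⟨3, 14, true, [8, 4, 7, 2, 10, 0, 9, 0, 4], [9, 3, 13, 18, 14, 23, 13, 26]⟩)))
  (.node (nat_lit 94) (.node (nat_lit 93) (.leaf ⟨13, 3, true, [2, 10, 0, 4], [2, 6, 3, 14, 17, 14, 12, 20]⟩)
  (.leaf ⟨3, 13, true, [7, 8, 2, 10, 5, 7, 3, 9, 1, 4], [0, 7, 2, 14, 17, 14, 23, 20, 26]⟩))
  (.node (nat_lit 95) (.leaf ⟨3, 3, true, [10, 3, 9, 5], [15, 13, 16, 20, 22, 12]⟩)
  (.leaf ⟨5, 14, false, [6, 1, 17, 15, 17, 14, 21, 12, 26], []⟩))))))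

noncomputable def f96 : FT := (.node (nat_lit 112) (.node (nat_lit 104) (.node (nat_lit 100) (.node (nat_lit 98) (.node (nat_lit 97) (.leaf ⟨14, 5, false, [6, 1, 17, 15, 17, 14, 21, 12, 26], []⟩)
  (.leaf ⟨3, 5, true, [10], [6, 1, 17, 15, 17, 14, 21, 12, 26]⟩))
  (.node (nat_lit 99) (.leaf ⟨3, 5, true, [8, 4, 7, 2, 10, 0, 9, 0, 4], [5, 6, 2, 12, 15, 19, 15, 13, 26]⟩)
  (.leaf ⟨13, 5, true, [10, 2, 9, 7, 1, 2, 10, 7, 3, 9, 0, 4], [3, 8, 0, 18, 13, 17, 14, 25]⟩)))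
  (.node (nat_lit 102) (.node (nat_lit 101) (.leaf ⟨5, 3, true, [2, 10, 1, 4], [1, 5, 0, 14, 18, 15, 22]⟩)
  (.leaf ⟨5, 5, true, [3, 10, 4], [7, 4, 2, 14, 18, 15, 20, 22, 12]⟩))
  (.node (nat_lit 103) (.leaf ⟨5, 13, true, [10, 3, 6, 8, 2, 10, 7, 3, 9, 0, 4], [4, 0, 6, 14, 19, 15, 22, 12, 26]⟩)
  (.leaf ⟨5, 13, true, [11, 5], [4, 6, 19, 12, 16, 23, 26]⟩))))
  (.node (nat_lit 108) (.node (nat_lit 106) (.node (nat_lit 105) (.leaf ⟨13, 4, false, [3, 6, 1, 19, 16, 18, 13, 21], []⟩)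
  (.leaf ⟨3, 4, true, [4], [3, 6, 1, 19, 16, 18, 13, 21]⟩))
  (.node (nat_lit 107) (.leaf ⟨3, 4, true, [7, 8, 2, 10, 5, 7, 3, 9, 1, 4], [1, 3, 14, 18, 18, 23, 13, 26]⟩)
  (.leaf ⟨5, 4, true, [10, 3, 6, 8, 2, 10, 7, 3, 9, 0, 4], [0, 6, 0, 17, 12, 18, 14, 14, 12, 20, 26]⟩)))
  (.node (nat_lit 110) (.node (nat_lit 109) (.leaf ⟨5, 3, true, [5, 7, 8, 2, 10, 4, 7, 3, 9, 0, 4], [3, 19, 19, 23, 13, 26]⟩)
  (.leaf ⟨4, 3, true, [7, 8, 2, 10, 6, 9, 4], [9, 0, 2, 17, 12, 18, 14, 14, 12, 22]⟩))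
  (.node (nat_lit 111) (.leaf ⟨4, 4, true, [8, 2, 10, 6, 9, 1, 4], [3, 9, 14, 12, 17, 13, 21]⟩)
  (.leaf ⟨4, 5, true, [3, 10, 0, 4], [1, 3, 1, 15, 12, 18, 23, 20, 26]⟩)))))
  (.node (nat_lit 120) (.node (nat_lit 116) (.node (nat_lit 114) (.node (nat_lit 113) (.leaf ⟨4, 3, true, [5, 7, 8, 2, 10, 7, 5, 0, 9, 0, 4], [3, 8, 0, 15, 18, 14, 24]⟩)
  (.leaf ⟨3, 16, true, [8, 4], []⟩))
  (.node (nat_lit 115) (.leaf ⟨16, 3, true, [], [9, 5]⟩)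
  (.leaf ⟨3, 17, true, [10, 8], []⟩)))
  (.node (nat_lit 118) (.node (nat_lit 117) (.leaf ⟨17, 3, true, [], [9, 0, 13]⟩)
  (.leaf ⟨17, 17, false, [9, 3, 1, 19, 15, 23, 26], []⟩))
  (.node (nat_lit 119) (.leaf ⟨3, 18, true, [8, 5], []⟩)
  (.leaf ⟨18, 3, true, [], [9, 4]⟩))))
  (.node (nat_lit 124) (.node (nat_lit 122) (.node (nat_lit 121) (.leaf ⟨18, 17, true, [11, 5], [7, 4, 0, 18, 15, 23, 26]⟩)
  (.leaf ⟨17, 18, true, [11, 5], [4, 3, 17, 14, 23, 26]⟩))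
  (.node (nat_lit 123) (.leaf ⟨3, 19, true, [8, 1, 4], []⟩)
  (.leaf ⟨19, 3, true, [], [1, 4, 16]⟩)))
  (.node (nat_lit 126) (.node (nat_lit 125) (.leaf ⟨19, 19, false, [0, 5, 0, 18, 14, 12, 19, 15, 25, 23], []⟩)
  (.leaf ⟨19, 16, true, [11, 5], [9, 5, 18, 12]⟩))
  (.node (nat_lit 127) (.leaf ⟨16, 19, true, [11, 5], [11, 8, 3, 18, 16, 13, 23, 26]⟩)
  (.leaf ⟨3, 20, true, [10, 8, 4], []⟩))))))

noncomputable def f128 : FT := (.node (nat_lit 144) (.node (nat_lit 136) (.node (nat_lit 132) (.node (nat_lit 130) (.node (nat_lit 129) (.leaf ⟨20, 3, true, [], [9, 5, 0, 13]⟩)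
  (.leaf ⟨20, 20, true, [11, 5], [6, 2, 1, 14, 17, 14, 22]⟩))
  (.node (nat_lit 131) (.leaf ⟨3, 21, true, [10, 9, 1, 4], []⟩)
  (.leaf ⟨21, 3, true, [], [6, 0, 15, 13]⟩)))
  (.node (nat_lit 134) (.node (nat_lit 133) (.leaf ⟨21, 21, true, [11, 5], [2, 11, 3, 14, 18, 15, 22, 12]⟩)
  (.leaf ⟨4, 22, true, [10, 9], []⟩))
  (.node (nat_lit 135) (.leaf ⟨4, 23, true, [9, 5], []⟩)
  (.leaf ⟨23, 4, true, [], [8, 4]⟩))))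
  (.node (nat_lit 140) (.node (nat_lit 138) (.node (nat_lit 137) (.leaf ⟨23, 22, true, [11, 5], [7, 4, 0, 18, 15, 23, 26]⟩)
  (.leaf ⟨4, 24, true, [10], []⟩))
  (.node (nat_lit 139) (.leaf ⟨24, 4, true, [], [0, 13]⟩)
  (.leaf ⟨24, 24, true, [11, 5], [8, 7, 0, 13, 19, 16, 19, 15, 24, 22, 26]⟩)))
  (.node (nat_lit 142) (.node (nat_lit 141) (.leaf ⟨4, 25, true, [11], []⟩)
  (.leaf ⟨25, 4, true, [], [1, 12]⟩))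
  (.node (nat_lit 143) (.leaf ⟨25, 25, false, [9, 3, 1, 19, 15, 23, 26], []⟩)
  (.leaf ⟨25, 25, false, [17, 14, 14, 23, 26], []⟩)))))
  (.node (nat_lit 152) (.node (nat_lit 148) (.node (nat_lit 146) (.node (nat_lit 145) (.leaf ⟨25, 25, true, [11, 5], [6, 0, 2, 17, 19, 15, 23, 12]⟩)
  (.leaf ⟨4, 26, true, [8, 0, 4], []⟩))
  (.node (nat_lit 147) (.leaf ⟨26, 4, true, [], [0, 3, 1, 16]⟩)
  (.leaf ⟨26, 26, false, [9, 7, 14, 13, 14, 24, 24, 13, 26], []⟩)))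
  (.node (nat_lit 150) (.node (nat_lit 149) (.leaf ⟨26, 26, false, [2, 7, 14, 12, 19, 15, 24, 22, 26], []⟩)
  (.leaf ⟨4, 27, true, [8, 6, 4], []⟩))
  (.node (nat_lit 151) (.leaf ⟨27, 4, true, [], [10, 2, 1, 14, 12]⟩)
  (.leaf ⟨27, 26, true, [11, 5], [7, 2, 4, 17, 19, 15]⟩))))
  (.node (nat_lit 156) (.node (nat_lit 154) (.node (nat_lit 153) (.leaf ⟨26, 27, true, [11, 5], [6, 0, 17, 14, 17, 14]⟩)
  (.leaf ⟨4, 28, true, [6, 8, 4], []⟩))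
  (.node (nat_lit 155) (.leaf ⟨28, 4, true, [], [3, 9, 17, 15]⟩)
  (.leaf ⟨28, 28, false, [3, 6, 1, 14, 14, 26], []⟩)))
  (.node (nat_lit 158) (.node (nat_lit 157) (.leaf ⟨4, 29, true, [8, 1, 4], []⟩)
  (.leaf ⟨4, 30, true, [11, 9], []⟩))
  (.node (nat_lit 159) (.leaf ⟨4, 31, true, [10, 9, 5], []⟩)
  (.leaf ⟨4, 32, true, [4], []⟩))))))

noncomputable def f160 : FT := (.node (nat_lit 176) (.node (nat_lit 168) (.node (nat_lit 164) (.node (nat_lit 162) (.node (nat_lit 161) (.leaf ⟨32, 4, true, [], [5]⟩)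
  (.leaf ⟨32, 32, false, [14, 18, 16, 12], []⟩))
  (.node (nat_lit 163) (.leaf ⟨32, 32, true, [10, 2, 9, 7, 1, 2, 10, 7, 3, 9, 0, 4], [3, 4, 14, 18, 16, 12, 21, 26]⟩)
  (.leaf ⟨32, 20, true, [8, 2, 10, 6, 9, 0, 4], [2, 4, 15, 12, 16, 15, 13, 23, 26]⟩)))
  (.node (nat_lit 166) (.node (nat_lit 165) (.leaf ⟨20, 32, true, [3, 10, 0, 4], [1, 2, 0, 15, 16, 14, 21, 12]⟩)
  (.leaf ⟨32, 32, true, [10, 3, 8, 7, 2, 10, 3, 9, 0, 4], [8, 0, 14, 17, 14, 25]⟩))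
  (.node (nat_lit 167) (.leaf ⟨32, 32, true, [10, 3, 6, 8, 2, 10, 7, 3, 9, 0, 4], [11, 2, 18, 16, 22, 24, 26]⟩)
  (.leaf ⟨4, 4, true, [2, 10, 5], [2, 4, 1, 16, 13, 14, 20, 20]⟩))))
  (.node (nat_lit 172) (.node (nat_lit 170) (.node (nat_lit 169) (.leaf ⟨32, 20, true, [2, 10, 0, 4], [9, 3, 0, 13, 18, 14, 24, 24, 13, 26]⟩)
  (.leaf ⟨32, 4, false, [7, 3, 1, 12, 18, 14, 14, 25, 13], []⟩))
  (.node (nat_lit 171) (.leaf ⟨4, 4, true, [4], [7, 3, 1, 12, 18, 14, 14, 25, 13]⟩)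
  (.leaf ⟨4, 20, true, [1, 2, 10, 7, 3, 9, 4], [10, 5, 16, 14, 23, 25, 26]⟩)))
  (.node (nat_lit 174) (.node (nat_lit 173) (.leaf ⟨4, 20, true, [10, 4, 6, 9], [7, 16, 14, 17, 14, 20, 12]⟩)
  (.leaf ⟨20, 4, false, [10, 2, 14, 17, 22, 21, 12, 26], []⟩))
  (.node (nat_lit 175) (.leaf ⟨3, 4, true, [10, 8, 4], [10, 2, 14, 17, 22, 21, 12, 26]⟩)
  (.leaf ⟨4, 4, true, [1, 2, 10, 7, 3, 9, 4], [3, 8, 3, 19, 23, 21]⟩)))))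
  (.node (nat_lit 184) (.node (nat_lit 180) (.node (nat_lit 178) (.node (nat_lit 177) (.leaf ⟨4, 4, true, [10, 4, 6, 9], [8, 3, 0, 19, 16, 18, 23, 25]⟩)
  (.leaf ⟨4, 3, true, [9, 1, 4, 7, 2, 10, 0, 9, 4], [9, 5, 16, 14, 22, 21, 12]⟩))
  (.node (nat_lit 179) (.leaf ⟨4, 4, true, [9, 7, 0, 5, 10, 7, 3, 9, 0, 4], [11, 3, 0, 19, 19, 12, 21, 26]⟩)
  (.leaf ⟨4, 4, true, [5, 10, 6, 9, 1, 4], [8, 13, 19, 12, 20]⟩)))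
  (.node (nat_lit 182) (.node (nat_lit 181) (.leaf ⟨4, 4, true, [0, 5, 10, 7, 5, 0, 9, 0, 4], [9, 1, 13, 17, 15, 22, 21, 12, 26]⟩)
  (.leaf ⟨4, 25, true, [2, 11, 8], [1, 6, 5, 15, 17, 14, 25, 21, 26]⟩))
  (.node (nat_lit 183) (.leaf ⟨25, 4, true, [8, 6, 3, 10, 6, 9, 0, 4], [9, 2, 0, 14, 17, 14, 12]⟩)
  (.leaf ⟨29, 4, false, [6, 0, 2, 18, 17, 12, 22], []⟩))))
  (.node (nat_lit 188) (.node (nat_lit 186) (.node (nat_lit 185) (.leaf ⟨4, 4, true, [8, 1, 4], [6, 0, 2, 18, 17, 12, 22]⟩)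
  (.leaf ⟨16, 4, false, [9, 6, 0, 18, 14, 14, 24, 13], []⟩))
  (.node (nat_lit 187) (.leaf ⟨3, 4, true, [8, 4], [9, 6, 0, 18, 14, 14, 24, 13]⟩)
  (.leaf ⟨19, 4, true, [11, 5], [10, 1, 2, 18, 16, 22, 20]⟩)))
  (.node (nat_lit 190) (.node (nat_lit 189) (.leaf ⟨4, 3, true, [2, 11, 8], [1, 15, 12, 17, 20, 26]⟩)
  (.leaf ⟨3, 25, false, [11, 6, 2, 17, 12, 18, 16, 24, 21, 26], []⟩))
  (.node (nat_lit 191) (.leaf ⟨25, 3, false, [0, 7, 13, 14, 14, 20, 23], []⟩)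
  (.leaf ⟨4, 3, true, [11], [0, 7, 13, 14, 14, 20, 23]⟩))))))

noncomputable def f192 : FT := (.node (nat_lit 208) (.node (nat_lit 200) (.node (nat_lit 196) (.node (nat_lit 194) (.node (nat_lit 193) (.leaf ⟨4, 3, true, [2, 11, 8], [1, 15, 12, 17, 20, 26]⟩)
  (.leaf ⟨4, 19, true, [11, 8, 6, 4], [3, 18, 13, 18, 12, 21, 26]⟩))
  (.node (nat_lit 195) (.leaf ⟨3, 4, true, [1, 7, 2, 10, 5, 0, 9, 0, 4], [2, 0, 18, 12, 16, 25, 23]⟩)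
  (.leaf ⟨4, 10, false, [10, 4, 3, 18, 13, 14, 14, 22, 21, 12, 26], []⟩)))
  (.node (nat_lit 198) (.node (nat_lit 197) (.leaf ⟨10, 4, false, [0, 6, 0, 18, 12, 16, 25, 23], []⟩)
  (.leaf ⟨3, 4, true, [8, 6, 4], [0, 6, 0, 18, 12, 16, 25, 23]⟩))
  (.node (nat_lit 199) (.leaf ⟨3, 3, true, [9, 7, 0, 4, 11, 3, 9, 0, 4], [3, 9, 16, 18, 24, 24, 13]⟩)
  (.leaf ⟨3, 9, false, [3, 5, 1, 15, 25, 26], []⟩))))
  (.node (nat_lit 204) (.node (nat_lit 202) (.node (nat_lit 201) (.leaf ⟨9, 3, false, [3, 5, 0, 17, 14, 14, 25, 13], []⟩)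
  (.leaf ⟨3, 3, true, [8, 0, 4], [3, 5, 0, 17, 14, 14, 25, 13]⟩))
  (.node (nat_lit 203) (.leaf ⟨28, 5, false, [2, 4, 0, 12, 19, 14, 12, 20], []⟩)
  (.leaf ⟨5, 5, false, [8, 1, 17, 19, 14, 26], []⟩)))
  (.node (nat_lit 206) (.node (nat_lit 205) (.leaf ⟨4, 5, true, [6, 8, 4], [2, 4, 0, 12, 19, 14, 12, 20]⟩)
  (.leaf ⟨5, 4, true, [7, 2, 10, 0, 9, 0, 4], [2, 8, 7, 13, 17, 15, 22, 26]⟩))
  (.node (nat_lit 207) (.leaf ⟨4, 4, true, [4, 11, 8, 4], [0, 4, 2, 18, 18, 22, 24, 26]⟩)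
  (.leaf ⟨19, 19, false, [3, 8, 3, 17, 15, 17, 14, 24, 12], []⟩)))))
  (.node (nat_lit 216) (.node (nat_lit 212) (.node (nat_lit 210) (.node (nat_lit 209) (.leaf ⟨4, 19, true, [1, 2, 10, 7, 3, 9, 1, 4], [8, 1, 17, 15, 17, 14, 20, 13, 26]⟩)
  (.leaf ⟨19, 4, true, [8, 7, 2, 10, 0, 9, 0, 4], [6, 4, 15, 13, 14, 12, 21]⟩))
  (.node (nat_lit 211) (.leaf ⟨5, 19, true, [9], [2, 9, 4, 14, 13, 14, 25, 23]⟩)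
  (.leaf ⟨19, 5, true, [10, 1, 4], [8, 7, 19, 24, 12]⟩)))
  (.node (nat_lit 214) (.node (nat_lit 213) (.leaf ⟨19, 19, true, [2, 10, 4], [9, 2, 0, 19, 16, 19, 15, 22, 13]⟩)
  (.leaf ⟨21, 19, true, [7, 8, 2, 10, 6, 9, 0, 4], [4, 7, 0, 13, 19, 16, 19, 15]⟩))
  (.node (nat_lit 215) (.leaf ⟨19, 21, true, [8, 2, 10, 6, 9, 6, 4], [10, 2, 1, 18, 14, 16, 23, 13, 26]⟩)
  (.leaf ⟨18, 17, true, [8, 7, 2, 10, 0, 9, 0, 4], [6, 3, 15, 17, 14, 24, 13]⟩))))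
  (.node (nat_lit 220) (.node (nat_lit 218) (.node (nat_lit 217) (.leaf ⟨17, 18, true, [10, 3, 8, 7, 2, 10, 3, 9, 0, 4], [9, 2, 0, 16, 22, 24]⟩)
  (.leaf ⟨4, 4, true, [2, 10, 9, 5], [10, 2, 16, 12, 19, 15, 21, 22]⟩))
  (.node (nat_lit 219) (.leaf ⟨4, 4, true, [8, 5], [2, 8, 15, 18, 14, 14, 12, 21]⟩)
  (.leaf ⟨19, 17, false, [3, 6, 0, 14, 17, 20, 13], []⟩)))
  (.node (nat_lit 222) (.node (nat_lit 221) (.leaf ⟨17, 17, false, [2, 4, 12, 18, 14, 14, 20, 23, 26], []⟩)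
  (.leaf ⟨17, 17, false, [1, 8, 6, 15, 18, 15, 23, 25, 26], []⟩))
  (.node (nat_lit 223) (.leaf ⟨3, 17, true, [8, 1, 4], [3, 6, 0, 14, 17, 20, 13]⟩)
  (.leaf ⟨4, 17, true, [1, 2, 10, 7, 3, 9, 1, 4], [6, 4, 2, 16, 18, 14, 20, 23]⟩))))))

noncomputable def f224 : FT := (.node (nat_lit 240) (.node (nat_lit 232) (.node (nat_lit 228) (.node (nat_lit 226) (.node (nat_lit 225) (.leaf ⟨4, 17, true, [11, 8, 6, 4], [9, 3, 13, 14, 22, 20]⟩)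
  (.leaf ⟨5, 17, true, [9], [11, 5, 0, 14, 17, 26]⟩))
  (.node (nat_lit 227) (.leaf ⟨21, 17, true, [7, 8, 2, 10, 6, 9, 0, 4], [2, 7, 4, 16, 13, 14, 21, 23]⟩)
  (.leaf ⟨17, 3, true, [2, 10, 6, 4], [0, 4, 3, 15, 18, 15]⟩)))
  (.node (nat_lit 230) (.node (nat_lit 229) (.leaf ⟨17, 4, true, [2, 10, 0, 4], [4, 3, 0, 14, 12, 16, 25, 13, 26]⟩)
  (.leaf ⟨17, 4, true, [3, 8, 7, 2, 10, 5, 0, 9, 0, 4], [0, 2, 0, 18, 16, 14, 24, 12]⟩))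
  (.node (nat_lit 231) (.leaf ⟨17, 5, true, [5], [5, 6, 2, 15, 13, 16, 26]⟩)
  (.leaf ⟨17, 17, true, [10], [6, 3, 4, 15, 13, 17, 14, 22, 13]⟩))))
  (.node (nat_lit 236) (.node (nat_lit 234) (.node (nat_lit 233) (.leaf ⟨17, 21, true, [8, 7, 0, 4, 11, 3, 9, 6, 4], [0, 8, 16, 18, 14, 21, 23, 26]⟩)
  (.leaf ⟨4, 18, false, [3, 4, 6, 13, 17, 15, 21, 23, 26], []⟩))
  (.node (nat_lit 235) (.leaf ⟨18, 4, false, [4, 1, 9, 16, 15, 13, 23, 26], []⟩)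
  (.leaf ⟨3, 4, true, [8, 5], [4, 1, 9, 16, 15, 13, 23, 26]⟩)))
  (.node (nat_lit 238) (.node (nat_lit 237) (.leaf ⟨17, 4, true, [11, 5], [1, 8, 6, 17, 19, 14, 12]⟩)
  (.leaf ⟨17, 4, true, [10, 3, 8, 7, 2, 10, 3, 9, 0, 4], [7, 9, 0, 14, 13, 17, 25, 26]⟩))
  (.node (nat_lit 239) (.leaf ⟨4, 3, true, [2, 11, 6, 9, 4], [8, 0, 4, 19, 16, 13]⟩)
  (.leaf ⟨4, 17, true, [11, 3, 6, 9, 4], [8, 2, 0, 14, 12, 17, 24, 21]⟩)))))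
  (.node (nat_lit 248) (.node (nat_lit 244) (.node (nat_lit 242) (.node (nat_lit 241) (.leaf ⟨4, 17, true, [7, 0, 3, 10, 9, 6, 4], [18, 18, 21, 22, 26]⟩)
  (.leaf ⟨4, 4, true, [1, 2, 10, 7, 5, 0, 9, 0, 4], [9, 4, 14, 12, 17, 12, 20, 12, 26]⟩))
  (.node (nat_lit 243) (.leaf ⟨17, 4, true, [7, 8, 2, 10, 6, 9, 6, 4], [2, 0, 15, 17, 14, 21, 12]⟩)
  (.leaf ⟨4, 17, true, [7, 0, 3, 10, 9], [6, 4, 18, 16, 14, 21, 23]⟩)))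
  (.node (nat_lit 246) (.node (nat_lit 245) (.leaf ⟨17, 17, true, [3, 8, 7, 2, 10, 3, 9, 6, 4], [2, 4, 1, 14, 18, 22, 13, 26]⟩)
  (.leaf ⟨17, 21, false, [6, 9, 17, 15, 16, 12, 20, 12, 26], []⟩))
  (.node (nat_lit 247) (.leaf ⟨21, 17, false, [4, 3, 1, 19, 14, 24, 13, 26], []⟩)
  (.leaf ⟨3, 17, true, [10, 9, 1, 4], [4, 3, 1, 19, 14, 24, 13, 26]⟩))))
  (.node (nat_lit 252) (.node (nat_lit 250) (.node (nat_lit 249) (.leaf ⟨17, 17, true, [8, 7, 0, 4, 11, 3, 9, 6, 4], [7, 5, 3, 14, 19, 15, 21, 23, 26]⟩)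
  (.leaf ⟨17, 3, true, [10, 6, 9, 0, 4], [7, 1, 17, 21, 23, 26]⟩))
  (.node (nat_lit 251) (.leaf ⟨17, 17, true, [10, 6, 9, 6, 4], [6, 2, 0, 16, 15, 25, 26]⟩)
  (.leaf ⟨17, 17, true, [2, 10, 7, 9, 0, 4], [4, 0, 6, 18, 13, 18, 24, 24, 13]⟩)))
  (.node (nat_lit 254) (.node (nat_lit 253) (.leaf ⟨4, 17, true, [0, 4, 11, 3, 9, 0, 4], [0, 7, 18, 16, 14, 13, 20, 26]⟩)
  (.leaf ⟨17, 4, true, [7, 8, 2, 10, 6, 9, 0, 4], [7, 0, 15, 16, 20, 20]⟩))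
  (.node (nat_lit 255) (.leaf ⟨4, 17, true, [7, 5, 10, 0, 9, 4], [3, 4, 7, 18, 18, 25, 12]⟩)
  (.leaf ⟨17, 4, true, [2, 9, 4], [8, 2, 0, 18, 16, 24, 13]⟩))))))

noncomputable def f256 : FT := (.node (nat_lit 272) (.node (nat_lit 264) (.node (nat_lit 260) (.node (nat_lit 258) (.node (nat_lit 257) (.leaf ⟨26, 26, false, [11, 3, 18, 16, 24, 24, 13, 26], []⟩)
  (.leaf ⟨4, 4, true, [3, 8, 6, 4, 11, 7, 3, 9, 0, 4], [1, 6, 5, 15, 17, 13, 20, 26]⟩))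
  (.node (nat_lit 259) (.leaf ⟨17, 17, true, [6, 5, 10, 7, 9, 0, 4], [1, 2, 1, 18, 17, 21, 12, 26]⟩)
  (.leaf ⟨27, 4, false, [5, 2, 0, 18, 18, 20, 23], []⟩)))
  (.node (nat_lit 262) (.node (nat_lit 261) (.leaf ⟨4, 4, true, [8, 6, 4], [5, 2, 0, 18, 18, 20, 23]⟩)
  (.leaf ⟨26, 4, true, [11, 5], [5, 7, 17, 14, 24, 24, 13, 26]⟩))
  (.node (nat_lit 263) (.leaf ⟨4, 4, true, [3, 0, 6, 4, 11, 3, 9, 0, 4], [5, 3, 1, 18, 13, 14, 14, 12, 22, 12]⟩)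
  (.leaf ⟨4, 30, false, [5, 2, 9, 19, 17, 22, 12], []⟩))))
  (.node (nat_lit 268) (.node (nat_lit 266) (.node (nat_lit 265) (.leaf ⟨30, 4, false, [3, 4, 6, 12, 22], []⟩)
  (.leaf ⟨4, 4, true, [11, 9], [3, 4, 6, 12, 22]⟩))
  (.node (nat_lit 267) (.leaf ⟨4, 26, true, [3, 0, 6, 4, 11, 3, 9, 6, 4], [4, 17, 19, 15]⟩)
  (.leaf ⟨26, 31, false, [2, 7, 3, 18, 16, 14, 22, 12], []⟩)))
  (.node (nat_lit 270) (.node (nat_lit 269) (.leaf ⟨31, 26, false, [9, 5, 12, 16, 15, 21, 22], []⟩)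
  (.leaf ⟨4, 26, true, [10, 9, 5], [9, 5, 12, 16, 15, 21, 22]⟩))
  (.node (nat_lit 271) (.leaf ⟨17, 26, true, [6, 5, 10, 0, 9, 4], [0, 2, 19, 12, 16, 23, 26]⟩)
  (.leaf ⟨26, 17, true, [7, 8, 2, 10, 6, 9, 4], [1, 13, 17, 15, 21, 12, 26]⟩)))))
  (.node (nat_lit 280) (.node (nat_lit 276) (.node (nat_lit 274) (.node (nat_lit 273) (.leaf ⟨17, 5, true, [11, 6, 9, 4], [5, 1, 18, 13, 19, 13, 14, 12, 22, 12]⟩)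
  (.leaf ⟨5, 17, true, [8, 7, 2, 10, 5, 0, 9, 4], [3, 11, 3, 13, 19, 19, 21, 12]⟩))
  (.node (nat_lit 275) (.leaf ⟨17, 17, true, [2, 8, 7, 5, 10, 0, 9, 0, 4], [7, 0, 17, 12, 18, 16, 13, 21]⟩)
  (.leaf ⟨24, 3, false, [11, 5, 1, 19, 17, 14, 20, 22, 12], []⟩)))
  (.node (nat_lit 278) (.node (nat_lit 277) (.leaf ⟨4, 3, true, [10], [11, 5, 1, 19, 17, 14, 20, 22, 12]⟩)
  (.leaf ⟨3, 4, true, [11, 9, 6, 4], [11, 8, 3, 19, 14, 25, 26]⟩))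
  (.node (nat_lit 279) (.leaf ⟨4, 11, false, [7, 5, 0, 19, 13, 17, 15, 23, 26], []⟩)
  (.leaf ⟨11, 4, false, [6, 5, 2, 18, 14, 12, 19, 15, 21, 23, 26], []⟩))))
  (.node (nat_lit 284) (.node (nat_lit 282) (.node (nat_lit 281) (.leaf ⟨3, 4, true, [10, 9], [6, 5, 2, 18, 14, 12, 19, 15, 21, 23, 26]⟩)
  (.leaf ⟨3, 3, true, [11, 9, 0, 4], [8, 7, 14, 18, 16, 20, 20, 26]⟩))
  (.node (nat_lit 283) (.leaf ⟨3, 12, false, [4, 6, 0, 15, 15, 12, 22, 12], []⟩)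
  (.leaf ⟨12, 3, false, [11, 3, 15, 18, 15, 12, 24, 26], []⟩)))
  (.node (nat_lit 286) (.node (nat_lit 285) (.leaf ⟨3, 3, true, [9, 5], [11, 3, 15, 18, 15, 12, 24, 26]⟩)
  (.leaf ⟨23, 5, false, [0, 8, 1, 15, 16, 14, 12, 22, 12, 26], []⟩))
  (.node (nat_lit 287) (.leaf ⟨4, 5, true, [9, 5], [0, 8, 1, 15, 16, 14, 12, 22, 12, 26]⟩)
  (.leaf ⟨5, 4, true, [1, 8], [3, 7, 2, 19, 23, 13]⟩))))))

noncomputable def f288 : FT := (.node (nat_lit 289) (.leaf ⟨5, 22, true, [6, 3, 9], [10, 3, 0, 14, 13, 18, 25, 13, 26]⟩)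
  (.node (nat_lit 290) (.leaf ⟨22, 4, false, [3, 4, 6, 14, 18, 15, 25, 21, 26], []⟩)
  (.leaf ⟨4, 4, true, [10, 9], [3, 4, 6, 14, 18, 15, 25, 21, 26]⟩)))



end Cfsg.Agent.Lib.Co3HD
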