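import Cfsg.Agent.Lib.Co3MHT

/-! Involutions. -/

set_option autoImplicit false
set_option maxRecDepth 100000

namespace Cfsg.Agent.Lib.Co3MH

open Cfsg.Agent.Lib.PermNet Cfsg.Agent.Lib.Words Cfsg.Agent.Lib.PermGroup Cfsg.Agent.Lib.DCE Cfsg.Agent.Lib.PermModel Cfsg.Agent.Lib.BT

def reps : List (List ℕ) := [[], [12], [14], [22]]

noncomputable def ts_i : List Tst := [⟨[], [], []⟩,
  ⟨[], [], []⟩]

noncomputable def ct_i : CT := (.node 0 [] [] (nat_lit 0x0) (nd [(0, (lf [(4, [0]), (108, [2, 21, 44, 5]), (190, [2, 31, 5]), (106, [2, 22, 9]), (98, [2, 5, 42, 4]), (43, [2, 21, 42, 4]), (166, [2, 0, 36]), (205, [2, 31, 43, 4]), (92, [2, 36, 16, 4]), (87, [2, 6, 40])])),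
  (51, (lf [(189, [3, 32, 40]), (234, [3, 36, 24, 0])])),
  (64, (lf [(105, [3, 40]), (24, [3, 36, 34, 20])])),
  (119, (lf [(106, [2, 34, 36])])),
  (214, (lf [(4, [2, 36])])),
  (228, (lf [(4, [2, 42]), (108, [2, 31, 42, 4]), (205, [2, 36, 24, 4]), (106, [2, 41, 9])])),
  (47, (lf [(106, [2, 46]), (205, [2, 11, 46, 4]), (108, [2, 21, 49, 4]), (4, [2, 24, 4])])),
  (206, (lf [(226, [2, 7, 36])])),
  (124, (lf [(67, [2, 27, 41, 4])])),
  (148, (lf [(106, [1]), (205, [2, 20, 42, 5]), (87, [2, 21, 4]), (4, [2, 17, 4]), (185, [2, 17, 48, 9]), (72, [2, 31, 47, 5]), (218, [2, 6, 36]), (108, [2, 36, 17, 4]), (140, [2, 41, 10, 4]), (190, [2, 28, 36])])),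
  (28, (lf [(234, [3, 24, 44]), (156, [3, 41, 29, 9])])),
  (219, (lf [(24, [3, 28, 44]), (126, [3, 29, 40])])),
  (78, (lf [(146, [3, 41]), (3, [3, 6, 44])])),
  (186, (lf [(197, [3, 42]), (177, [3, 3, 44])])),
  (212, (lf [(115, [3, 28, 24]), (35, [3, 36, 28, 24])])),
  (31, (lf [(172, [3, 20, 44]), (216, [3, 36, 31]), (4, [3, 20, 44, 20]), (205, [3, 1, 36, 20])])),
  (22, (lf [(68, [3, 41, 34]), (123, [3, 30, 46, 20])])),
  (169, (lf [(20, [3, 36, 2, 24]), (36, [3, 27, 9, 4]), (106, [3, 9, 26, 9]), (108, [3, 7, 36, 20])])),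
  (154, (lf [(158, [3, 20, 41]), (103, [3, 24, 40])])),
  (102, (lf [(95, [3, 36, 26]), (207, [3, 40, 17, 9])])),
  (174, (lf [(123, [2, 32, 36])])),
  (232, (lf [(35, [2, 49, 36])])),
  (213, (lf [(155, [3, 5, 44, 31]), (143, [3, 43, 32])])),
  (26, (lf [(137, [3, 21, 42, 26]), (105, [3, 42, 32])])),
  (29, (lf [(44, [3, 21, 40]), (83, [3, 49, 32])])),
  (217, (lf [(152, [3, 36, 43, 21]), (189, [3, 24, 16])])),
  (164, (lf [(103, [3, 7, 40]), (88, [3, 48, 34])])),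
  (134, (lf [(207, [3, 2, 40]), (77, [3, 44])])),
  (65, (lf [(123, [2, 26, 36])])),
  (91, (lf [(35, [2, 20, 36])])),
  (55, (lf [(44, [3, 27, 44]), (215, [3, 40, 24, 9])])),
  (161, (lf [(152, [3, 44, 36, 26]), (3, [3, 30, 9, 3])])),
  (159, (lf [(155, [3, 31, 44]), (125, [3, 17, 40])])),
  (81, (lf [(137, [3, 16, 41, 10]), (177, [3, 24, 9])])),
  (132, (lf [(123, [3, 28, 10, 9]), (68, [3, 16, 42]), (32, [3, 27, 42, 26]), (50, [3, 24, 41])])),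
  (1, (lf [(35, [3, 27, 40, 21]), (115, [3, 16, 41]), (129, [3, 8, 30, 9]), (237, [3, 28, 41])])),
  (41, (lf [(68, [2, 36, 9])])),
  (180, (lf [(54, [3, 30, 44, 20]), (77, [3, 34, 32])])),
  (198, (lf [(173, [3, 24, 10, 9]), (88, [3, 47, 40])])),
  (203, (lf [(115, [3, 27, 41, 21]), (35, [3, 32])])),
  (109, (lf [(68, [3, 20, 36]), (123, [3, 30, 21])])),
  (14, (lf [(173, [3, 16, 42, 10]), (125, [3, 31, 9, 6])])),
  (101, (lf [(54, [3, 30, 47, 26]), (215, [3, 24, 21, 9])])),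
  (176, (lf [(115, [2, 30, 46, 4])])),
  (30, (lf [(93, [2, 10, 4])])),
  (231, (lf [(233, [2, 40, 10, 4])])),
  (9, (lf [(68, [3, 16, 9, 2]), (123, [3, 9, 36, 20])])),
  (238, (lf [(201, [3, 47, 36, 20]), (39, [3, 21, 49, 32]), (4, [3, 46, 36, 20]), (36, [3, 40, 36, 20]), (20, [3, 36, 20]), (106, [3, 42, 36, 20])])),
  (239, (lf [(115, [3, 11, 16, 2]), (35, [3, 20, 47, 20])])),
  (117, (lf [(127, [3, 16, 42, 11]), (46, [3, 17, 46]), (106, [3, 49, 36, 20]), (216, [3, 27, 43, 20]), (172, [3, 26, 40]), (4, [3, 48, 36, 20])])),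
  (111, (lf [(4, [3, 5, 40, 5]), (141, [2, 41, 8]), (106, [3, 27, 44, 30]), (178, [2, 49, 8])])),
  (182, (lf [(106, [3, 36, 32]), (178, [2, 46, 8]), (4, [3, 46, 30, 40]), (141, [2, 48, 8])])),
  (73, (lf [(4, [3, 34]), (106, [3, 9, 7, 2])])),
  (18, (lf [(106, [3, 43]), (4, [3, 9, 3])])),
  (114, (lf [(106, [2, 30, 43, 5])])),
  (53, (lf [(4, [2, 49, 10, 4])])),
  (163, (lf [(207, [3, 5, 29]), (179, [3, 8, 36, 20])])),
  (211, (lf [(103, [3, 29, 9]), (76, [3, 21, 47, 21])])),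
  (58, (lf [(83, [3, 43, 40]), (179, [3, 27, 40, 20])])),
  (110, (lf [(168, [2, 2, 36])])),
  (165, (lf [(33, [2, 49, 36, 9])])),
  (160, (lf [(143, [3, 0, 6, 0]), (76, [3, 29, 10, 9])])),
  (12, (lf [(77, [3, 47, 32]), (95, [3, 36, 7, 29])])),
  (96, (lf [(88, [3, 34, 40]), (158, [3, 20, 43, 32])])),
  (153, (lf [(32, [3, 16, 41, 11]), (85, [2, 44, 8]), (5, [3, 41, 36, 26]), (68, [2, 28, 5])])),
  (99, (lf [(129, [3, 26, 42, 31]), (128, [2, 48, 9]), (225, [3, 30, 48, 20]), (115, [2, 9])])),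
  (49, (lf [(80, [2, 3, 36]), (16, [2, 24, 36]), (123, [2]), (112, [2, 22, 10, 4])])),
  (162, (lf [(151, [2, 16, 40]), (223, [2, 40, 8]), (35, [2, 38]), (45, [2, 16, 36])])),
  (74, (lf [(189, [3, 42, 34]), (3, [3, 6, 47, 8])])),
  (150, (lf [(105, [3]), (177, [3, 48, 8, 0])])),
  (183, (lf [(202, [2, 17, 46])])),
  (221, (lf [(6, [2, 17, 42])])),
  (59, (lf [(108, [3, 43, 8, 0]), (205, [3, 40, 32])])),
  (2, (lf [(205, [3, 40, 9, 6]), (108, [3, 49, 41])])),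
  (188, (lf [(8, [2, 17, 41])])),
  (60, (lf [(34, [2, 17, 40])])),
  (10, (lf [(106, [2, 44, 36])])),
  (57, (lf [(4, [2, 47, 36])])),
  (131, (lf [(144, [3, 17, 41]), (146, [3, 22, 42])])),
  (187, (lf [(215, [3, 32, 9, 6]), (77, [3, 16, 21, 1])])),
  (90, (lf [(184, [3, 27, 40]), (197, [3, 38, 40])])),
  (157, (lf [(125, [3, 6, 9, 2]), (88, [3, 26, 21])])),
  (75, (lf [(108, [3, 36, 9, 3]), (201, [3, 24, 11, 9]), (39, [3, 27, 42]), (106, [3, 36, 43])])),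
  (56, (lf [(205, [3, 17, 43, 32]), (127, [3, 8, 27, 9]), (46, [3, 27, 41]), (4, [3, 36, 34])])),
  (236, (lf [(68, [2, 48, 10, 4])])),
  (133, (lf [(106, [3, 44, 34]), (4, [3, 8, 40, 2])])),
  (230, (lf [(4, [3, 48, 42]), (106, [3, 41, 9, 3])])),
  (42, (lf [(61, [2, 27, 43, 4])])),
  (107, (lf [(130, [2, 27, 40, 4])])),
  (38, (lf [(115, [2, 27, 49, 4])])),
  (170, (lf [(227, [3, 17, 44]), (128, [2, 8]), (115, [2, 8, 40]), (237, [3, 30, 40])])),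
  (196, (lf [(145, [3, 38, 36, 20]), (85, [2, 27, 4]), (68, [2, 44, 9]), (50, [3, 1, 36, 26])])),
  (193, (lf [(25, [3, 17, 11, 9]), (146, [3, 17, 28])])),
  (122, (lf [(27, [3, 21, 9, 4]), (197, [3, 29, 16])])),
  (222, (lf [(123, [3, 21, 16, 2]), (68, [3, 31, 42, 26])])),
  (79, (lf [(35, [3, 30, 27]), (115, [3, 21, 40, 21])])),
  (66, (lf [(4, [3, 20, 8, 0]), (108, [3, 26, 49, 21])])),
  (208, (lf [(106, [3, 28, 9]), (205, [3, 20, 49, 21])])),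
  (40, (lf [(11, [2, 20, 43, 5]), (70, [2, 20, 46, 4]), (16, [2, 6, 9]), (123, [2, 41])])),
  (52, (lf [(23, [2, 21, 41, 4]), (199, [2, 21, 48, 10]), (223, [2, 3, 9]), (35, [2, 40])])),
  (181, (lf [(35, [3, 36, 7, 0]), (115, [3, 40, 34])])),
  (135, (lf [(123, [3, 5, 31, 4]), (68, [3, 7, 0])])),
  (192, (lf [(5, [3, 36, 17, 0]), (68, [3, 17, 38, 40]), (145, [3, 21, 41]), (123, [3, 21, 41, 21])])),
  (149, (lf [(225, [3, 30, 36]), (115, [3, 28, 21, 40]), (227, [3, 21, 42]), (35, [3, 21, 47, 30])])),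
  (71, (lf [(175, [2, 30, 44, 4])])),
  (86, (lf [(229, [2, 27, 48, 5])])),
  (235, (lf [(103, [3, 14, 8, 0]), (143, [3, 44, 41])])),
  (121, (lf [(207, [3, 8, 0]), (83, [3, 48])])),
  (84, (lf [(13, [2, 44, 10, 4])])),
  (194, (lf [(89, [2, 47, 10, 4])])),
  (195, (lf [(83, [3, 49, 34]), (215, [3, 0, 44])])),
  (224, (lf [(143, [3, 32, 41]), (125, [3, 6, 46])])),
  (191, (lf [(205, [3, 41, 32]), (108, [3, 22, 9, 3])])),
  (82, (lf [(108, [3, 3, 1]), (205, [3, 9, 6])])),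
  (17, (lf [(3, [3, 46, 17, 9]), (144, [3, 31, 46])])),
  (147, (lf [(177, [3, 42, 24, 9]), (184, [3, 21, 44])])),
  (142, (lf [(115, [3, 27, 8, 0]), (35, [3, 36, 3, 1])])),
  (100, (lf [(68, [3, 21, 8, 0]), (123, [3, 26, 47, 20])])),
  (19, (lf [(126, [3, 1, 40]), (105, [3, 47, 34])])),
  (62, (lf [(156, [3, 0, 41]), (189, [3, 46])])),
  (136, (lf [(106, [2, 46, 10, 4])])),
  (69, (lf [(4, [2, 20, 42, 11])])),
  (209, (lf [(108, [3, 20, 48, 20]), (4, [3, 21, 9, 6])])),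
  (167, (lf [(205, [3, 26, 48, 20]), (106, [3, 27, 9, 6])])),
  (204, (lf [(156, [3, 21, 9, 3]), (25, [3, 31, 49, 20])])),
  (7, (lf [(126, [3, 17, 9]), (27, [3, 21, 43, 20])])),
  (118, (lf [(197, [3, 7, 3]), (126, [3, 9, 49, 1])])),
  (37, (lf [(146, [3, 6, 2]), (156, [3, 6, 43, 8])]))]) .nil)

theorem s_i : solveB (nat_lit 11) (nat_lit 2047) htt (nat_lit 1068) 500 B2 (fun _ => true) hch2 2 []
    ([] : List (List ℕ)) ([] : List (List ℕ)) (prEq 500 ([] : List (List ℕ)) ([] : List (List ℕ)) ++ [[1000, 1000]]) [] [] (fun u => Nat.blt (u.headD 0) 4) (mkC reps) ts_i ct_i = true := by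
  decide +kernel

noncomputable def ts_q : List Tst := [⟨[], [⟨0, [0], [22], [22]⟩], []⟩,
  ⟨[], [], [⟨0, [0], [22], [22]⟩]⟩,
  ⟨[⟨0, [0], [22], [22]⟩], [], []⟩]

noncomputable def ct_q : CT := .nil

theorem s_q : solveB (nat_lit 11) (nat_lit 2047) htt (nat_lit 1068) 500 B2 (fun _ => true) hch 0 []
    [[22]] [[22]] (prEq 500 [[22]] [[22]] ++ [[1000, 1000, 23]]) [] [] (fun _ => false) id ts_q ct_q = true := by
  decide +kernel



end Cfsg.Agent.Lib.Co3MH
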