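import Cfsg.Agent.Lib.Co3MHT

/-! Consequences of the action on the centraliser of a four-group. -/

set_option autoImplicit false
set_option maxRecDepth 100000

namespace Cfsg.Agent.Lib.Co3MH

open Cfsg.Agent.Lib.PermNet Cfsg.Agent.Lib.Words Cfsg.Agent.Lib.PermGroup Cfsg.Agent.Lib.DCE Cfsg.Agent.Lib.PermModel Cfsg.Agent.Lib.BT

def us : List (List ℕ) := [[22], [20], [16], [12], [14]]

def vsA : List (List ℕ) := [[22], [20], [18], [14], [12]]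

def vsB : List (List ℕ) := [[22, 14, 12], [20], [18], [14], [12]]

def vsC : List (List ℕ) := [[22, 12], [20], [18], [14], [12]]

def vsD : List (List ℕ) := [[22, 14], [20], [18], [14], [12]]

variable {G : Type*} [Group G] {F : ℕ → G} {H : Subgroup G}
  {M : Model F H ⊥ (nat_lit 1068) (nat_lit 11) (nat_lit 2047) htt B2 2903040} (S : M.SC hch [12] [14]) {t : G}

noncomputable def ts_kB : List Tst := [⟨[], [], [⟨0, [0], [30, 21], [30, 21]⟩, ⟨0, [1], [20, 31], [20, 31]⟩, ⟨0, [4], [22, 31], [22, 31]⟩]⟩,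
  ⟨[⟨0, [5], [30, 23], [30, 23]⟩], [], []⟩]

noncomputable def ct_kB : CT := .nil

theorem s_kB : solveB (nat_lit 11) (nat_lit 2047) htt (nat_lit 1068) 500 B2 (fun _ => true) hch 1 []
    [[30, 21], [21, 26], [22, 31], [31, 22, 30]] [[30, 21], [17, 30, 16, 21], [22, 31], [31, 22, 30]] (prEq 500 [[30, 21], [21, 26], [22, 31], [31, 22, 30]] [[30, 21], [17, 30, 16, 21], [22, 31], [31, 22, 30]] ++ ([] : List (List ℕ))) [] [] (fun _ => false) id ts_kB ct_kB = true := by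
  decide +kernel

noncomputable def ts_kC : List Tst := [⟨[], [], [⟨0, [2], [20], [20]⟩, ⟨0, [3], [21], [21]⟩, ⟨0, [4], [16], [16]⟩]⟩,
  ⟨[⟨0, [0], [22], [12, 14, 22]⟩], [], []⟩]

noncomputable def ct_kC : CT := .nil

theorem s_kC : solveB (nat_lit 11) (nat_lit 2047) htt (nat_lit 1068) 500 B2 (fun _ => true) hch 1 []
    [[22], [20], [16]] [[12, 14, 22], [20], [16]] (prEq 500 [[22], [20], [16]] [[12, 14, 22], [20], [16]] ++ ([] : List (List ℕ))) [] [] (fun _ => false) id ts_kC ct_kC = true := by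
  decide +kernel

noncomputable def ts_cK : List Tst := [⟨[], [], [⟨0, [0], [22], [22]⟩, ⟨0, [2], [20], [20]⟩, ⟨0, [3], [21], [21]⟩]⟩,
  ⟨[⟨0, [0], [22], [22]⟩], [], []⟩]

noncomputable def ct_cK : CT := (.node 0 [] [] (nat_lit 0x0) (nd [(114, (lf [(29, [])])),
  (53, (lf [(213, [12])])),
  (100, (lf [(90, [14])])),
  (142, (lf [(131, [14, 12])]))]) .nil)

theorem s_cK : solveB (nat_lit 11) (nat_lit 2047) htt (nat_lit 1068) 500 B2 (fun _ => true) hch 1 []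
    [[22], [20], [16]] [[22], [20], [16]] (prEq 500 [[22], [20], [16]] [[22], [20], [16]] ++ ([] : List (List ℕ))) [] [] (memLL [[], [12], [14], [14, 12]]) id ts_cK ct_cK = true := by
  decide +kernel

noncomputable def ts_cE : List Tst := [⟨[], [], [⟨0, [0], [22, 31, 22, 31], [22, 31, 22, 31]⟩, ⟨0, [2], [16, 26, 31, 17], [16, 26, 31, 17]⟩, ⟨0, [0, 2], [22, 31, 22, 31, 16, 26, 31, 17], [22, 31, 22, 31, 16, 26, 31, 17]⟩]⟩,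
  ⟨[], [], [⟨0, [0], [22, 31, 22, 31], [22, 31, 22, 31]⟩, ⟨0, [2], [16, 26, 31, 17], [16, 26, 31, 17]⟩, ⟨0, [0, 2], [22, 31, 22, 31, 16, 26, 31, 17], [22, 31, 22, 31, 16, 26, 31, 17]⟩]⟩]

noncomputable def ct_cE : CT := (.node 0 [] [] (nat_lit 0x0) (nd [(114, (lf [(29, [])])),
  (53, (lf [(213, [12])])),
  (100, (lf [(90, [14])])),
  (142, (lf [(131, [12, 14])])),
  (239, (lf [(78, [16, 26, 31, 17])])),
  (191, (lf [(206, [16, 29, 17, 22])])),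
  (69, (lf [(224, [17, 24, 17, 24])])),
  (82, (lf [(30, [12, 16, 29, 17, 22])])),
  (135, (lf [(165, [22, 30, 22, 30])])),
  (9, (lf [(186, [12, 16, 26, 31, 17])])),
  (22, (lf [(147, [16, 28, 17, 22])])),
  (181, (lf [(110, [16, 24, 28, 17])])),
  (136, (lf [(195, [12, 17, 24, 17, 24])])),
  (212, (lf [(17, [12, 16, 28, 17, 22])])),
  (2, (lf [(55, [16, 24, 29, 17])])),
  (59, (lf [(159, [22, 31, 22, 31])]))]) .nil)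

theorem s_cE : solveB (nat_lit 11) (nat_lit 2047) htt (nat_lit 1068) 500 B2 (fun _ => true) hch 1 []
    [[22, 31, 22, 31], [16, 26, 31, 17]] [[22, 31, 22, 31], [16, 26, 31, 17]] (prEq 500 [[22, 31, 22, 31], [16, 26, 31, 17]] [[22, 31, 22, 31], [16, 26, 31, 17]] ++ ([] : List (List ℕ))) [] [] (memLL [[], [12], [14], [22, 31, 22, 31], [16, 26, 31, 17], [12, 14], [16, 24, 29, 17], [12, 16, 26, 31, 17], [12, 16, 28, 17, 22], [17, 24, 17, 24], [22, 30, 22, 30], [16, 28, 17, 22], [12, 17, 24, 17, 24], [16, 24, 28, 17], [12, 16, 29, 17, 22], [16, 29, 17, 22]]) id ts_cE ct_cE = true := by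
  decide +kernel

include S

theorem killB (C : Cj t F us vsB) : False := by
  obtain ⟨u, h, -⟩ := S.power C [[8, 2, 1, 5, 11, 7, 3, 9, 4, 7], [8, 2, 1, 5, 11, 7, 3, 9, 4, 7], [8, 2, 1, 5, 11, 7, 3, 9, 4, 7]]
    [([8, 2, 1, 5, 11, 7, 3, 9, 4, 7], [8]), ([8, 2, 1, 5, 11, 7, 3, 9, 4, 7], [0, 3, 0, 3, 6]), ([8, 2, 1, 5, 11, 7, 3, 9, 4, 7], [6])]
    [([8, 2, 1, 5, 11, 7, 3, 9, 4, 7], [6]), ([8, 2, 1, 5, 11, 7, 3, 9, 4, 7], [8]), ([8, 2, 1, 5, 11, 7, 3, 9, 4, 7], [0, 3, 0, 3, 6])]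
    [([30, 21], [([8, 2, 1, 5, 11, 7, 3, 9, 4, 7], [0, 4, 4, 4, 0, 8]), ([8, 2, 1, 5, 11, 7, 3, 9, 4, 7], [2, 4, 4, 4, 0]), ([8, 2, 1, 5, 11, 7, 3, 9, 4, 7], [0, 3, 6])], [30, 21]),
    ([21, 26], [([8, 2, 1, 5, 11, 7, 3, 9, 4, 7], [2, 5, 5, 3, 5, 8]), ([8, 2, 1, 5, 11, 7, 3, 9, 4, 7], [0, 4, 3, 5, 6, 8]), ([8, 2, 1, 5, 11, 7, 3, 9, 4, 7], [2, 4, 4, 3, 4, 6, 8])], [17, 30, 16, 21]),
    ([22, 31], [([8, 2, 1, 5, 11, 7, 3, 9, 4, 7], [0, 4, 4, 4, 3, 8]), ([8, 2, 1, 5, 11, 7, 3, 9, 4, 7], [2, 0, 6, 8]), ([8, 2, 1, 5, 11, 7, 3, 9, 4, 7], [4, 2, 5, 5, 3, 4])], [22, 31]),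
    ([31, 22, 30], [([8, 2, 1, 5, 11, 7, 3, 9, 4, 7], [4, 3, 0, 2, 4]), ([8, 2, 1, 5, 11, 7, 3, 9, 4, 7], [0, 2, 0, 3, 0, 6, 8]), ([8, 2, 1, 5, 11, 7, 3, 9, 4, 7], [4, 3, 4, 2, 4, 8])], [31, 22, 30])] s_kB (by decide +kernel)
  cases h

theorem killC (C : Cj t F us vsC) : False := by
  obtain ⟨u, h, -⟩ := S.power C [[], []]
    [([], [8]), ([], [6])]
    [([], [6]), ([], [8])]
    [([22], [([], [0, 6]), ([], [0])], [12, 14, 22]),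
    ([20], [([], [2]), ([], [2])], [20]),
    ([16], [([], [5]), ([], [4])], [16])] s_kC (by decide +kernel)
  cases h

theorem killD (C : Cj t F us vsD) : False := by
  obtain ⟨u, h, -⟩ := S.power C [[], []]
    [([], [8]), ([], [6])]
    [([], [6]), ([], [8])]
    [([22], [([], [0, 8]), ([], [0])], [12, 14, 22]),
    ([20], [([], [2]), ([], [2])], [20]),
    ([16], [([], [5]), ([], [4])], [16])] s_kC (by decide +kernel)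
  cases h

theorem p2 (C : Cj t F us vsA) :
    ∃ u ∈ ([[], [14, 12]] : List (List ℕ)), tv t F (List.replicate 2 [[]]).flatten = wval F u :=
  S.powIn C _ _ [([], [8]), ([], [6])]
    [([], [6]), ([], [8])]
    [([22], [([], [0]), ([], [0])], [22]),
    ([20], [([], [2]), ([], [2])], [20]),
    ([16], [([], [5]), ([], [4])], [16])] _
    [([], [([], [])]),
    ([12], [([], [6])]),
    ([14], [([], [8])]),
    ([14, 12], [([], [6, 8])])] s_cK (by decide +kernel)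

theorem p3 (C : Cj t F us vsA) :
    ∃ u ∈ ([[]] : List (List ℕ)), tv t F (List.replicate 3 [[11, 5, 6]]).flatten = wval F u :=
  S.powIn C _ _ [([11, 5, 6], [8]), ([11, 5, 6], [6, 8]), ([11, 5, 6], [6])]
    [([11, 5, 6], [6]), ([11, 5, 6], [8]), ([11, 5, 6], [6, 8])]
    [([22], [([11, 5, 6], [0]), ([11, 5, 6], [3, 0, 5, 2, 4, 2, 6, 8]), ([11, 5, 6], [3, 0, 4, 2, 5, 2, 8])], [22]),
    ([20], [([11, 5, 6], [2]), ([11, 5, 6], [0, 4, 0, 4, 2, 8]), ([11, 5, 6], [2, 0, 4, 0, 4, 8])], [20]),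
    ([16], [([11, 5, 6], [5]), ([11, 5, 6], [2, 4, 2, 4, 3, 6, 8]), ([11, 5, 6], [0, 3, 0, 4, 4, 2, 6, 8])], [16])] _
    [([], [([11, 5, 6], [])]),
    ([12], [([11, 5, 6], [6])]),
    ([14], [([11, 5, 6], [6, 8])]),
    ([14, 12], [([11, 5, 6], [8])])] s_cK (by decide +kernel)

theorem p5 (C : Cj t F us vsA) :
    ∃ u ∈ ([[]] : List (List ℕ)), tv t F (List.replicate 5 [[3, 10, 8, 4, 7, 3, 9, 1]]).flatten = wval F u :=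
  S.powIn C _ _ [([3, 10, 8, 4, 7, 3, 9, 1], [8]), ([3, 10, 8, 4, 7, 3, 9, 1], [0, 3, 0, 3, 8]), ([3, 10, 8, 4, 7, 3, 9, 1], [2, 0, 3, 0, 2, 8]), ([3, 10, 8, 4, 7, 3, 9, 1], [0, 2, 0, 2, 6, 8]), ([3, 10, 8, 4, 7, 3, 9, 1], [6])]
    [([3, 10, 8, 4, 7, 3, 9, 1], [6]), ([3, 10, 8, 4, 7, 3, 9, 1], [8]), ([3, 10, 8, 4, 7, 3, 9, 1], [0, 3, 0, 3, 8]), ([3, 10, 8, 4, 7, 3, 9, 1], [2, 0, 3, 0, 2, 8]), ([3, 10, 8, 4, 7, 3, 9, 1], [0, 2, 0, 2, 6, 8])]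
    [([22, 31, 22, 31], [([3, 10, 8, 4, 7, 3, 9, 1], [0, 3, 0, 3, 6, 8]), ([3, 10, 8, 4, 7, 3, 9, 1], [2, 0, 3, 0, 2]), ([3, 10, 8, 4, 7, 3, 9, 1], [2, 0, 3, 0, 2, 6]), ([3, 10, 8, 4, 7, 3, 9, 1], [2, 0, 3, 0, 2, 6, 8]), ([3, 10, 8, 4, 7, 3, 9, 1], [0, 2, 0, 2, 6])], [22, 31, 22, 31]),
    ([16, 26, 31, 17], [([3, 10, 8, 4, 7, 3, 9, 1], [2, 0, 3, 0, 2]), ([3, 10, 8, 4, 7, 3, 9, 1], [2, 0, 3, 0, 2, 6]), ([3, 10, 8, 4, 7, 3, 9, 1], [2, 0, 3, 0, 2, 6, 8]), ([3, 10, 8, 4, 7, 3, 9, 1], [0, 2, 0, 2, 6]), ([3, 10, 8, 4, 7, 3, 9, 1], [0, 3, 0, 3, 6, 8])], [16, 26, 31, 17])] _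
    [([], [([3, 10, 8, 4, 7, 3, 9, 1], [])]),
    ([12], [([3, 10, 8, 4, 7, 3, 9, 1], [6])]),
    ([14], [([3, 10, 8, 4, 7, 3, 9, 1], [0, 2, 0, 2, 6, 8])]),
    ([22, 31, 22, 31], [([3, 10, 8, 4, 7, 3, 9, 1], [0, 2, 0, 2, 6])]),
    ([16, 26, 31, 17], [([3, 10, 8, 4, 7, 3, 9, 1], [0, 3, 0, 3, 6, 8])]),
    ([12, 14], [([3, 10, 8, 4, 7, 3, 9, 1], [0, 2, 0, 2, 8])]),
    ([16, 24, 29, 17], [([3, 10, 8, 4, 7, 3, 9, 1], [0, 2, 0, 2])]),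
    ([12, 16, 26, 31, 17], [([3, 10, 8, 4, 7, 3, 9, 1], [0, 3, 0, 3, 8])]),
    ([12, 16, 28, 17, 22], [([3, 10, 8, 4, 7, 3, 9, 1], [8])]),
    ([17, 24, 17, 24], [([3, 10, 8, 4, 7, 3, 9, 1], [2, 0, 3, 0, 2])]),
    ([22, 30, 22, 30], [([3, 10, 8, 4, 7, 3, 9, 1], [2, 0, 3, 0, 2, 8])]),
    ([16, 28, 17, 22], [([3, 10, 8, 4, 7, 3, 9, 1], [6, 8])]),
    ([12, 17, 24, 17, 24], [([3, 10, 8, 4, 7, 3, 9, 1], [2, 0, 3, 0, 2, 6])]),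
    ([16, 24, 28, 17], [([3, 10, 8, 4, 7, 3, 9, 1], [2, 0, 3, 0, 2, 6, 8])]),
    ([12, 16, 29, 17, 22], [([3, 10, 8, 4, 7, 3, 9, 1], [0, 3, 0, 3, 6])]),
    ([16, 29, 17, 22], [([3, 10, 8, 4, 7, 3, 9, 1], [0, 3, 0, 3])])] s_cE (by decide +kernel)

omit S in
theorem der (M : Model F H ⊥ (nat_lit 1068) (nat_lit 11) (nat_lit 2047) htt B2 2903040)
    (C : Cj t F us vsA) : Cj t F [[7, 2, 1], [3, 6, 0], [6, 0, 3], [8, 7, 4, 0, 9, 4, 0, 6, 0, 4], [11, 4, 1, 6, 4, 0], [6, 0]]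
    [[0, 3, 6], [1, 7, 2], [2, 1, 7], [1, 7], [2, 5, 1, 7, 2, 10], [5, 7, 9, 1, 5, 7, 5, 2, 9, 0]] :=
  M.derive C [([5, 5, 5], [7, 2, 1], [0, 3, 6]),
    ([0, 5, 5, 5, 0], [3, 6, 0], [1, 7, 2]),
    ([3, 5, 5, 5, 2], [6, 0, 3], [2, 1, 7]),
    ([0, 2, 0, 5], [8, 7, 4, 0, 9, 4, 0, 6, 0, 4], [1, 7]),
    ([0, 3, 4, 0, 4, 2, 0], [11, 4, 1, 6, 4, 0], [2, 5, 1, 7, 2, 10]),
    ([5, 0, 3, 0], [6, 0], [5, 7, 9, 1, 5, 7, 5, 2, 9, 0])] (by decide +kernel)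



end Cfsg.Agent.Lib.Co3MH
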