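import Cfsg.Agent.Lib.Co3MHT

/-! The automorphisms of the centraliser of a four-group. -/

set_option autoImplicit false
set_option maxRecDepth 100000

namespace Cfsg.Agent.Lib.Co3MH

open Cfsg.Agent.Lib.PermNet Cfsg.Agent.Lib.Words Cfsg.Agent.Lib.PermGroup Cfsg.Agent.Lib.DCE Cfsg.Agent.Lib.PermModel Cfsg.Agent.Lib.BT

noncomputable def ts_1 : List Tst := [⟨[], [], []⟩,
  ⟨[], [], []⟩]

noncomputable def ct_1 : CT := (.node 0 [] [] (nat_lit 0x0) (nd [(0, (lf [(83, [0]), (215, [0, 22, 24, 27]), (44, [1, 29, 17])])),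
  (144, (lf [(74, [0, 30, 22, 31]), (231, [0, 26, 24]), (157, [1, 20, 17])])),
  (29, (lf [(4, [0, 22, 26, 22]), (190, [1, 27, 17, 28]), (185, [1, 22])])),
  (77, (lf [(2, [1, 27, 31, 21]), (82, [1, 16, 16, 26]), (142, [0, 16, 30, 22])])),
  (78, (lf [(223, [0, 28, 22, 20]), (98, [0, 16, 21, 26]), (166, [0, 22, 30, 22])])),
  (154, (lf [(46, [0, 21]), (68, [0, 22, 31, 22]), (50, [1, 22, 31, 27])])),
  (148, (lf [(143, [1, 27, 22]), (125, [1, 22, 27]), (155, [0, 24, 31, 22])])),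
  (49, (lf [(197, [1, 31, 17, 24]), (177, [1, 22, 17, 21]), (184, [0, 28, 22, 16, 20])])),
  (75, (lf [(126, [1, 20, 22, 27]), (95, [1, 17, 24]), (77, [0, 21, 24, 22])])),
  (85, (lf [(7, [0, 16, 28]), (84, [0, 17, 21, 24]), (235, [0, 24, 17, 21])])),
  (156, (lf [(79, [0, 17, 20, 24]), (236, [0, 29]), (176, [1, 22, 24])])),
  (155, (lf [(180, [1, 21, 24, 22, 20]), (101, [1, 21]), (26, [0, 17, 24])])),
  (184, (lf [(150, [1, 21, 16, 26]), (124, [1, 31]), (187, [0, 16, 22])])),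
  (192, (lf [(234, [0, 30]), (189, [1, 28, 31, 17]), (103, [0, 28, 16, 29])])),
  (88, (lf [(191, [0, 16, 16, 29]), (100, [1, 29, 22, 21]), (59, [0, 28, 16, 30])])),
  (52, (lf [(44, [0, 24, 17, 24]), (146, [1, 16, 28, 17]), (226, [1, 20, 24])])),
  (4, (lf [(86, [0, 31, 22, 30]), (58, [0, 20, 22, 27]), (121, [0, 16, 16, 28])])),
  (183, (lf [(205, [1, 20, 26, 22]), (50, [0, 21, 16, 27]), (128, [1, 17, 24, 27])])),
  (83, (lf [(222, [1, 27, 21]), (208, [1, 16, 30, 26]), (109, [0, 27, 17, 24])])),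
  (19, (lf [(237, [0, 17, 26, 30]), (227, [1, 22, 20]), (141, [1, 16, 28])])),
  (119, (lf [(125, [1, 21, 26, 22]), (184, [0, 17, 17, 27]), (93, [1, 17, 21, 24])])),
  (213, (lf [(106, [1, 22, 27, 17]), (87, [0, 17, 22, 29]), (98, [0, 26])])),
  (90, (lf [(123, [1, 29, 21, 17]), (223, [0, 27, 16, 27, 21]), (45, [0, 26, 20, 31])])),
  (177, (lf [(82, [0, 22, 20, 26]), (69, [1, 26, 31]), (114, [1, 17, 30, 16])])),
  (39, (lf [(114, [1]), (9, [1, 16, 26]), (2, [0, 17, 28, 31])])),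
  (35, (lf [(204, [0, 21, 22, 20]), (37, [0, 30, 22, 27]), (193, [0, 17, 28])])),
  (189, (lf [(22, [0, 24, 26]), (135, [0, 17, 29]), (53, [1, 27, 17])])),
  (20, (lf [(133, [0, 26, 20, 22]), (41, [1, 17, 27, 16]), (109, [1, 21, 27])])),
  (186, (lf [(16, [1, 22, 20, 27]), (185, [1, 29, 16, 30]), (218, [1, 20, 24, 16])])),
  (224, (lf [(190, [1, 24, 16]), (112, [1, 21, 24, 16]), (80, [1, 26, 16, 22])])),
  (123, (lf [(122, [1, 17, 20]), (118, [1, 16, 22, 28]), (7, [1, 21, 22, 28])])),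
  (102, (lf [(39, [1, 20, 28]), (115, [1, 26, 22, 30]), (237, [0, 16, 20, 27])])),
  (219, (lf [(227, [1, 26, 24]), (108, [1, 31, 22, 27]), (20, [0, 24, 22])])),
  (202, (lf [(58, [1, 20, 16]), (193, [1, 16]), (194, [1, 31, 16])])),
  (162, (lf [(146, [0, 30, 21]), (3, [0, 29, 22, 21]), (144, [1, 28, 16, 24, 28])])),
  (56, (lf [(156, [0, 22, 16, 28]), (158, [0, 21, 31]), (88, [1, 20, 29, 17])])),
  (12, (lf [(128, [1, 22, 26]), (68, [1, 16, 20, 22]), (145, [1, 29, 16])])),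
  (128, (lf [(204, [1, 16, 20]), (194, [1, 30, 17, 27]), (121, [1, 22, 29, 21])])),
  (178, (lf [(86, [1, 17, 26, 16]), (211, [1, 16, 22, 24]), (193, [1, 27, 16])])),
  (206, (lf [(106, [0, 22, 24, 26]), (166, [1, 27, 17, 24]), (45, [1, 22, 21, 17])])),
  (126, (lf [(222, [1, 30, 17, 26]), (38, [1, 26]), (41, [0, 30, 26, 22])])),
  (207, (lf [(133, [1, 17, 26, 30]), (208, [1, 26, 20, 31]), (209, [0, 20, 26, 22])])),
  (44, (lf [(198, [0, 30, 22, 21]), (14, [0, 20, 28]), (217, [1, 31, 21, 17])])),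
  (149, (lf [(24, [1, 28]), (105, [0, 24, 30, 22]), (207, [1, 30, 22, 27])])),
  (3, (lf [(53, [0, 30, 17, 22, 30]), (136, [0, 27, 24]), (191, [1, 22, 20, 29])])),
  (46, (lf [(239, [0, 16, 29]), (59, [1, 31, 17]), (53, [0, 22, 26])])),
  (105, (lf [(181, [1, 17, 26]), (114, [0, 26, 22]), (212, [1, 24, 29])])),
  (151, (lf [(135, [1, 20, 26, 30]), (136, [0, 20, 22]), (59, [1, 22, 31, 22])])),
  (40, (lf [(155, [1, 17, 28, 20]), (197, [0, 20, 22, 28]), (93, [0, 21, 24, 28])])),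
  (47, (lf [(184, [1, 31, 17, 29]), (143, [0, 22, 26, 22, 31]), (168, [0, 26, 20])])),
  (98, (lf [(18, [0, 22, 21]), (41, [0, 28, 20, 31]), (208, [1, 17, 20, 31])])),
  (223, (lf [(101, [0, 22, 21, 27]), (150, [0, 24, 27]), (42, [1, 27, 31, 17])])),
  (106, (lf [(71, [1, 30, 16, 30]), (160, [1, 20, 27, 16]), (235, [1, 17, 31, 21])])),
  (65, (lf [(3, [1, 20, 27, 22, 26]), (83, [1, 20, 29, 16]), (226, [1, 17, 17, 22])])),
  (147, (lf [(123, [0, 28, 17, 24]), (87, [1, 20, 22]), (166, [1, 17, 24, 16])])),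
  (221, (lf [(108, [0, 20, 27]), (237, [1, 21, 22, 31]), (85, [0, 17, 27])])),
  (60, (lf [(115, [0, 26, 31]), (20, [1, 28, 17]), (141, [0, 16, 16, 27])])),
  (205, (lf [(161, [1, 26, 20]), (150, [0, 22]), (26, [1, 29, 17, 28])])),
  (143, (lf [(79, [0, 16, 16, 22]), (66, [0, 22, 17, 21]), (203, [1, 22, 31, 22, 27])])),
  (197, (lf [(230, [0, 24]), (236, [0, 22, 17, 31]), (73, [1, 21, 26, 17])])),
  (6, (lf [(84, [0, 16, 26, 22]), (122, [0, 27, 17, 28]), (160, [0, 28, 22, 29])])),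
  (168, (lf [(71, [0, 22, 20]), (84, [0, 26, 22, 30]), (118, [0, 17, 24, 27])])),
  (62, (lf [(50, [1, 17, 24, 31]), (145, [0, 22, 28]), (178, [0, 27, 21])])),
  (164, (lf [(172, [1, 17, 20, 24]), (46, [0, 29, 17, 29]), (128, [0, 27, 31])])),
  (214, (lf [(215, [0, 21, 27]), (144, [1, 22, 21]), (226, [0, 30, 17, 27])])),
  (232, (lf [(3, [0, 31, 27]), (44, [1, 22, 31]), (33, [0, 28, 17, 29])])),
  (131, (lf [(35, [0, 21, 29, 22]), (16, [1, 31, 22, 24, 28]), (112, [1, 21, 30, 22])])),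
  (190, (lf [(231, [1, 22, 24, 29, 22]), (81, [0, 31, 22, 16, 31]), (198, [1, 17, 21])])),
  (215, (lf [(135, [1, 22, 30, 22]), (239, [0, 20, 24, 27]), (100, [0, 28, 16, 24, 28])])),
  (91, (lf [(143, [0, 22, 24, 31]), (177, [0, 20, 17, 31]), (93, [0, 17, 17, 26])])),
  (185, (lf [(66, [0, 31, 17, 24]), (176, [1, 21, 31]), (73, [1, 20, 16, 26])])),
  (145, (lf [(100, [0, 24, 16, 20]), (136, [0, 21, 22, 31]), (22, [1, 21, 17])])),
  (45, (lf [(109, [0, 22, 31]), (38, [1, 17]), (209, [0, 28])])),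
  (87, (lf [(161, [1, 27, 21, 17]), (180, [0, 29, 21]), (124, [0, 22, 31, 27])])),
  (24, (lf [(26, [1, 20, 26]), (42, [1, 16, 21, 26]), (124, [0, 21, 26, 22])])),
  (33, (lf [(37, [1, 16, 21]), (194, [1, 26, 22, 28]), (86, [1, 22, 28])])),
  (172, (lf [(230, [1, 22, 28, 17]), (176, [0, 17, 22, 27]), (203, [0, 22, 24, 22])])),
  (50, (lf [(79, [1, 29, 17, 22]), (167, [0, 16, 22, 31]), (73, [0, 20, 28, 20])])),
  (195, (lf [(87, [0, 22, 27, 24]), (45, [0, 22, 21, 22, 31]), (151, [0, 29, 22, 27])])),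
  (112, (lf [(167, [1, 30]), (203, [1, 16, 27, 16]), (236, [0, 27, 22])])),
  (132, (lf [(207, [1, 29, 22, 28]), (95, [1, 28, 16, 30]), (202, [1, 20, 16, 22])])),
  (1, (lf [(158, [0, 28, 16, 28]), (103, [0, 17, 31, 27]), (6, [0, 21, 22, 29])])),
  (28, (lf [(145, [0, 31]), (205, [0, 16, 27, 17, 27]), (172, [1, 22, 21, 27])])),
  (8, (lf [(211, [1, 21, 16]), (37, [1, 22, 21, 24]), (121, [1, 16, 30, 21])])),
  (34, (lf [(118, [0, 22, 24, 28]), (235, [0, 31, 22, 24, 28]), (163, [0, 17, 20, 22])])),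
  (10, (lf [(146, [1, 28, 31, 16]), (215, [1, 17, 21, 29]), (33, [1, 28, 16])])),
  (182, (lf [(8, [1, 26, 20, 22]), (105, [0, 16, 16, 26]), (95, [1, 31, 22, 30])])),
  (125, (lf [(9, [1, 20, 27]), (142, [1, 16, 16, 20, 16]), (181, [0, 22, 30, 26])])),
  (115, (lf [(198, [1, 16, 27, 21]), (107, [0, 20, 24]), (157, [0, 26, 22, 21])])),
  (55, (lf [(80, [0, 22, 29, 16, 20]), (4, [1, 26, 22, 31]), (16, [0, 16, 31])])),
  (111, (lf [(34, [0, 20, 26, 30]), (158, [0, 24, 22, 21]), (189, [1, 16, 16, 22])])),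
  (96, (lf [(85, [0, 22, 29]), (115, [0, 17, 31]), (227, [0, 22, 27, 22])])),
  (51, (lf [(141, [0, 24, 16, 28]), (108, [0, 17, 21]), (39, [0, 27, 17, 21])])),
  (141, (lf [(71, [0, 24, 22, 29]), (163, [0, 31, 17, 28]), (122, [0, 22, 27])])),
  (57, (lf [(168, [0, 16, 26]), (125, [0, 29, 17, 28]), (197, [0, 22, 20, 24])])),
  (30, (lf [(4, [1, 22, 24, 22]), (218, [0, 27, 31, 21]), (112, [0, 26, 20, 22, 28])])),
  (110, (lf [(35, [1, 24, 22, 24]), (80, [0, 24, 29]), (185, [0, 16, 29, 22, 31])])),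
  (103, (lf [(230, [0, 17, 24, 31]), (66, [0, 21, 28, 31]), (167, [1, 22, 16, 28])])),
  (227, (lf [(69, [1, 17, 17, 26]), (212, [0, 21, 27, 22]), (142, [1, 30, 21])])),
  (80, (lf [(181, [0, 29, 16, 30]), (69, [1, 17, 27, 17]), (2, [0, 22, 24, 29])])),
  (218, (lf [(82, [0, 24, 30]), (9, [1, 16, 31, 16]), (212, [0, 17, 21, 26, 22])])),
  (228, (lf [(144, [0, 22, 17, 24]), (83, [1, 17, 29, 17]), (33, [1, 24, 31])])),
  (159, (lf [(151, [1, 16, 22, 17]), (223, [1, 30, 22]), (106, [0, 29, 22])])),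
  (238, (lf [(202, [1, 17, 17, 24]), (105, [0, 20, 16, 27]), (126, [1, 29, 21])])),
  (16, (lf [(14, [1, 24, 17, 28]), (74, [1, 27]), (107, [0, 24, 28, 22])])),
  (17, (lf [(35, [1, 26, 22, 21]), (190, [0, 16, 21]), (218, [0, 22, 21, 24])])),
  (188, (lf [(68, [1, 27, 24]), (172, [0, 26, 24, 22]), (178, [1, 16, 22, 31])])),
  (108, (lf [(81, [0, 24, 31]), (74, [1, 26, 17]), (217, [0, 26, 22, 31])])),
  (146, (lf [(133, [1, 27, 31]), (38, [1, 24, 22, 27]), (18, [0, 21, 22])])),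
  (234, (lf [(107, [0, 17, 28, 20]), (217, [0, 20, 29]), (231, [1, 21, 27, 17])])),
  (226, (lf [(204, [1, 26, 16, 31]), (211, [1, 27, 16, 31]), (58, [1, 16, 31])])),
  (134, (lf [(20, [0, 30, 17, 26]), (39, [1, 24, 16, 26]), (85, [1, 24])])),
  (174, (lf [(177, [1, 24, 29, 22]), (155, [0, 16, 27]), (168, [1, 31, 17, 28])])),
  (99, (lf [(24, [1, 22, 17, 27]), (202, [1, 24, 30]), (77, [0, 17, 26])])),
  (196, (lf [(88, [1, 30, 22, 31]), (103, [0, 27]), (34, [0, 17, 20])])),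
  (170, (lf [(77, [0, 28, 22]), (8, [1, 17, 28]), (207, [1, 26, 22])])),
  (158, (lf [(157, [0, 28, 31]), (81, [0, 31, 17, 29]), (14, [1, 20, 22, 24])])),
  (93, (lf [(160, [0, 17, 29, 21]), (163, [0, 31, 22, 27]), (7, [0, 24, 16, 26])])),
  (237, (lf [(222, [0, 26, 30, 22]), (209, [1, 22, 20, 24, 17]), (18, [1, 31, 27])])),
  (169, (lf [(156, [0, 31, 17, 31]), (234, [0, 24, 17, 28]), (34, [0, 31, 22, 29])])),
  (31, (lf [(24, [1, 21, 29, 16]), (126, [1, 17, 21, 26, 22]), (8, [1, 26, 24, 16])])),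
  (68, (lf [(42, [1, 21, 24, 28]), (187, [1, 22, 30, 22, 30]), (180, [0, 17, 17, 24])])),
  (153, (lf [(6, [0, 24, 28]), (88, [1, 17, 29]), (234, [0, 21, 22, 28])])),
  (64, (lf [(178, [1, 24, 16, 20]), (205, [1, 17, 20, 28]), (46, [1, 31, 22, 26, 20])])),
  (165, (lf [(123, [0, 20, 29, 22]), (151, [1, 21, 22]), (98, [1, 16, 22, 27])])),
  (166, (lf [(191, [1, 24, 28]), (239, [0, 30, 22]), (22, [1, 22, 20, 28, 31])])),
  (117, (lf [(6, [0, 17, 31, 21]), (189, [1, 30, 22, 21]), (156, [0, 24, 29, 21])])),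
  (95, (lf [(161, [1, 17, 20, 27]), (187, [1, 30, 26]), (101, [0, 24, 29, 22])]))]) .nil)

theorem s_1 : stepB (nat_lit 11) (nat_lit 2047) htt B2 (nat_lit 1068) 500 hch [12] [14]
    [[12], [14]] [[14], [12]] [16] [2] [0]
    []
    [[0, 0, 0, 0, 0, 0, 2, 4]] [[0, 0, 0, 0]] [[18], [28, 22]] ts_1 ct_1 = true := by
  decide +kernel

noncomputable def ts_20 : List Tst := [⟨[], [], []⟩,
  ⟨[], [], []⟩]

noncomputable def ct_20 : CT := (.node 0 [] [] (nat_lit 0x0) (nd [(114, (lf [(228, [0, 17, 17])])),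
  (222, (lf [(119, [0])])),
  (150, (lf [(134, [2])])),
  (211, (lf [(183, [0, 16])])),
  (18, (lf [(65, [2, 21, 30])])),
  (191, (lf [(132, [1, 21, 30])])),
  (107, (lf [(111, [0, 17])])),
  (26, (lf [(12, [0, 21, 30])])),
  (69, (lf [(183, [2, 17, 17])])),
  (161, (lf [(30, [2, 16, 16])])),
  (135, (lf [(78, [1, 16, 16])])),
  (41, (lf [(17, [0, 16, 16])])),
  (122, (lf [(224, [1, 16])])),
  (37, (lf [(56, [1, 17]), (29, [1])])),
  (86, (lf [(52, [2, 16])])),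
  (176, (lf [(196, [2, 17])])),
  (212, (lf [(75, [1, 17, 17])]))]) .nil)

theorem s_20 : stepB (nat_lit 11) (nat_lit 2047) htt B2 (nat_lit 1068) 500 hch [12] [14]
    [[16], [12], [14]] [[18], [14], [12]] [20] [4] [2]
    []
    [[0, 0, 0], [3, 1, 2, 0, 3, 1, 2, 0], [3, 3, 3, 1, 3, 3, 7, 3, 1, 3, 3, 3, 1], [0, 3, 0, 3, 0, 4, 3, 0, 3, 0, 3, 0, 3]] ([] : List (List ℕ)) [[20], [22, 26, 30, 22], [22, 17, 24, 26]] ts_20 ct_20 = true := by
  decide +kernel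

noncomputable def ts_21 : List Tst := [⟨[], [], []⟩,
  ⟨[], [], []⟩]

noncomputable def ct_21 : CT := .nil

theorem s_21 : stepB (nat_lit 11) (nat_lit 2047) htt B2 (nat_lit 1068) 500 hch [12] [14]
    [[16], [12], [14]] [[28, 22], [14], [12]] [20] [4] [2]
    []
    [[0, 0, 0], [3, 3, 3, 1, 3, 3, 7, 3, 1, 3, 3, 3, 1]] ([] : List (List ℕ)) ([] : List (List ℕ)) ts_21 ct_21 = true := by
  decide +kernel

noncomputable def ts_30 : List Tst := [⟨[], [], [⟨0, [0], [20], [21, 18, 20, 18, 21, 18]⟩, ⟨0, [1], [21], [19, 20, 19, 21, 19, 20]⟩, ⟨0, [2], [18], [20, 18, 18, 20, 18, 20, 19]⟩]⟩,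
  ⟨[], [], [⟨0, [0], [20], [21, 18, 20, 18, 21, 18]⟩, ⟨0, [1], [21], [19, 20, 19, 21, 19, 20]⟩, ⟨0, [2], [18], [20, 18, 18, 20, 18, 20, 19]⟩]⟩]

noncomputable def ct_30 : CT := (.node 0 [] [] (nat_lit 0x0) (nd [(29, (lf [(114, [0])])),
  (213, (lf [(53, [2])])),
  (90, (lf [(100, [3])])),
  (131, (lf [(142, [1])]))]) .nil)

theorem s_30 : stepB (nat_lit 11) (nat_lit 2047) htt B2 (nat_lit 1068) 500 hch [12] [14]
    [[20], [16], [12], [14]] [[20], [18], [14], [12]] [22] [6] [4]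
    [([0], [1, 2, 0, 2, 1, 2]), ([2], [0, 2, 2, 0, 2, 0, 3])]
    ([] : List (List ℕ)) ([] : List (List ℕ)) [[22], [22, 14, 12], [22, 12], [22, 14]] ts_30 ct_30 = true := by
  decide +kernel

noncomputable def ts_31 : List Tst := [⟨[], [], [⟨0, [0], [22, 26, 30, 22], [23, 31, 27, 23, 18, 22, 26, 30, 22, 18, 23, 31, 27, 23, 18]⟩, ⟨0, [1], [23, 31, 27, 23], [19, 22, 26, 30, 22, 19, 23, 31, 27, 23, 19, 22, 26, 30, 22]⟩, ⟨0, [2], [18], [22, 26, 30, 22, 18, 18, 22, 26, 30, 22, 18, 22, 26, 30, 22, 19]⟩]⟩,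
  ⟨[], [⟨0, [0], [22, 26, 30, 22], [23, 31, 27, 23, 18, 22, 26, 30, 22, 18, 23, 31, 27, 23, 18]⟩], [⟨0, [2], [18], [22, 26, 30, 22, 18, 18, 22, 26, 30, 22, 18, 22, 26, 30, 22, 19]⟩, ⟨0, [3], [19], [18, 23, 31, 27, 23, 19, 23, 31, 27, 23, 19, 19, 23, 31, 27, 23]⟩, ⟨0, [0, 2], [22, 26, 30, 22, 18], [23, 31, 27, 23, 18, 22, 26, 30, 22, 18, 23, 31, 27, 23, 18, 22, 26, 30, 22, 18, 18, 22, 26, 30, 22, 18, 22, 26, 30, 22, 19]⟩]⟩]

noncomputable def ct_31 : CT := .nil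

theorem s_31 : stepB (nat_lit 11) (nat_lit 2047) htt B2 (nat_lit 1068) 500 hch [12] [14]
    [[20], [16], [12], [14]] [[22, 26, 30, 22], [18], [14], [12]] [22] [6] [4]
    [([0], [1, 2, 0, 2, 1, 2]), ([2], [0, 2, 2, 0, 2, 0, 3])]
    ([] : List (List ℕ)) ([] : List (List ℕ)) ([] : List (List ℕ)) ts_31 ct_31 = true := by
  decide +kernel

noncomputable def ts_32 : List Tst := [⟨[], [], [⟨0, [0], [22, 17, 24, 26], [27, 25, 16, 23, 18, 22, 17, 24, 26, 18, 27, 25, 16, 23, 18]⟩, ⟨0, [1], [27, 25, 16, 23], [19, 22, 17, 24, 26, 19, 27, 25, 16, 23, 19, 22, 17, 24, 26]⟩, ⟨0, [2], [18], [22, 17, 24, 26, 18, 18, 22, 17, 24, 26, 18, 22, 17, 24, 26, 19]⟩]⟩,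
  ⟨[], [], [⟨0, [0], [22, 17, 24, 26], [27, 25, 16, 23, 18, 22, 17, 24, 26, 18, 27, 25, 16, 23, 18]⟩, ⟨0, [1], [27, 25, 16, 23], [19, 22, 17, 24, 26, 19, 27, 25, 16, 23, 19, 22, 17, 24, 26]⟩, ⟨0, [2], [18], [22, 17, 24, 26, 18, 18, 22, 17, 24, 26, 18, 22, 17, 24, 26, 19]⟩]⟩]

noncomputable def ct_32 : CT := .nil

theorem s_32 : stepB (nat_lit 11) (nat_lit 2047) htt B2 (nat_lit 1068) 500 hch [12] [14]
    [[20], [16], [12], [14]] [[22, 17, 24, 26], [18], [14], [12]] [22] [6] [4]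
    [([0], [1, 2, 0, 2, 1, 2]), ([2], [0, 2, 2, 0, 2, 0, 3])]
    ([] : List (List ℕ)) ([] : List (List ℕ)) ([] : List (List ℕ)) ts_32 ct_32 = true := by
  decide +kernel



end Cfsg.Agent.Lib.Co3MH
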