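import Cfsg.Agent.S1667
import Cfsg.Agent.Lib.BT2

/-! The third Conway group: its order is at most 495766656000, and it acts faithfully on 276 points. -/

set_option autoImplicit false
set_option maxRecDepth 100000

namespace Cfsg.Agent.Lib.Co3Model

open Cfsg.Agent.Lib.PermNet Cfsg.Agent.Lib.Words Cfsg.Agent.Lib.PermGroup Cfsg.Agent.Lib.DCE Cfsg.Agent.Lib.PermModel
  Cfsg.Agent.Lib.BT Cfsg.Agent.Lib.Leech Cfsg.Agent.Lib.LeechRep Cfsg.Agent.Lib.Rk3Aut Cfsg.Spor Equiv
open scoped Pointwise

theorem card_McL : Nat.card McL = 898128000 := by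
  obtain ⟨lab, φ, R⟩ := S1667.rep
  have h₃ := (card_le_of_bd (bd_of_exec_sep McR.hv (S1667.hT R) S1667.h₀ McR.ex)).trans
    (show _ ≤ 2 * 898128000 by decide +kernel)
  have hA := (S1667.e₃ R).trans (S1667.hA R)
  have l := S1667.card_ls
  have := finite_of_fix fun g (hg : g ∈ autG (adj S1667.L 8) 275) => hg.1
  have h := (final (S1667.hA R) (S1667.e₃ R) hA (by omega) le_rfl le_rfl
    (mem_autG McR.hv (S1667.hT R) S1667.h₀ (fun _ _ h => S1667.hL ▸ h.1) McR.sig)
    (R.not_mem S1667.hq (by decide +kernel) S1667.hC (by decide) S1667.hv'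
      (bs' := [229, 268, 106, 176, 48, 76, 209, 254, 162, 91, 191, 257, 115, 224, 118, 252, 200, 262, 177, 19, 85, 6])
      (y := vec (dec 24 0x8a88a88aaaaa8888888888a8)) (by decide +kernel) (by decide +kernel) (by decide +kernel))).2
  obtain ⟨e⟩ := S1667.equiv R hA (by omega)
  rw [← Nat.card_congr e.toEquiv]
  omega

def ev : List ℕ → List ℕ
  | a :: _ :: l => a :: ev l
  | _ => []

noncomputable def L : List (List ℤ) := (ev LeechNear.Z).map (dec 24)

def wl (l : List ℤ) : List ℤ := List.zipWith (fun a b => -a - b) vl l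

theorem hL : L.length = 276 := by decide +kernel

theorem hL₁ : ∀ l ∈ L, l.length = 24 ∧ Chk (vec l) ∧ ldot l l = 32 ∧ ldot l vl = -24 ∧ l.getD 23 0 % 2 = 0 := by
  decide +kernel

theorem hZ : LeechNear.Z.map (dec 24) = L.flatMap fun l => [l, wl l] := by decide +kernel

theorem nodup : L.Nodup := .of_map LeechNear.enc (by decide +kernel)

theorem mem_L {p : ℕ} (hp : p < 276) : L.getD p [] ∈ L :=
  List.getD_eq_getElem L [] (hL ▸ hp) ▸ List.getElem_mem _

/-- The chosen vector of the pair `p`. -/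
noncomputable def x (p : ℕ) : leechLattice := ⟨vec (L.getD p []), by
  by_cases hp : p < 276
  · exact mem_iff.2 (hL₁ _ (mem_L hp)).2.1
  · rw [List.getD_eq_default _ _ (by rw [hL]; omega)]
    exact leechLattice.zero_mem⟩

/-- The other vector of a pair. -/
def w (y : leechLattice) : leechLattice := -leechV - y

theorem w_w (y : leechLattice) : w (w y) = y := by simp [w]

theorem vec_wl {l : List ℤ} (h : l.length = 24) : vec (wl l) = -vecV - vec l := funext fun p => by
  have := Golay.idx_lt p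
  rw [vec_vl, Pi.sub_apply, Pi.neg_apply, vec, vec, vec, List.getD_eq_getElem _ _ (by simp [wl, vl, h, this]),
    List.getD_eq_getElem _ _ (by simp [vl, this]), List.getD_eq_getElem _ _ (h ▸ this)]
  exact List.getElem_zipWith

theorem w_x {p : ℕ} (hp : p < 276) : (w (x p)).1 = vec (wl (L.getD p [])) := (vec_wl (hL₁ _ (mem_L hp)).1).symm

theorem smul_w (s : Co3) (y : leechLattice) : s • w y = w (s • y) := by
  have := map_sub (AddMonoidHom.mk' s.1 s.2.1.1) (-leechV) y
  rw [map_neg] at this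
  exact this.trans (congrArg (fun z => -z - s.1 y) s.2.2)

theorem sq_eq (y : V) : sqNorm y = dotInt y y := Finset.sum_congr rfl fun _ _ => sq _

theorem near' (s : Co3) {p : ℕ} (hp : p < 276) : ∃ q < 276, s • x p = x q ∨ s • x p = w (x q) := by
  obtain ⟨a₁, -, a₂, a₃, -⟩ := hL₁ _ (mem_L hp)
  have e₁ : sqNorm (s.1 (x p)).1 = 32 := by rw [s.2.1.2, sq_eq]; exact (dot_vec a₁.le _).trans a₂
  have e₂ : dotInt (s.1 (x p)).1 vecV = -24 := by
    have := dot_eq s.2.1 (x p) leechV
    rw [show s.1 leechV = leechV from s.2.2] at this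
    exact this.trans (by rw [← a₃, ← dot_vec a₁.le, ← vec_vl]; rfl)
  have := LeechNear.mem (L := LeechNear.Z) (ql := []) (c := 0) (fun _ h _ => h) _ (near LeechNear.all (s.1 (x p)).2 e₁ e₂)
    (by rw [← dot_vec (by simp), vec_map, ← sq_eq, e₁]) (by cases h : List.map _ (List.range 24) <;> rfl)
  rw [hZ] at this
  obtain ⟨l, hl, h⟩ := List.mem_flatMap.1 this
  obtain ⟨q, hq, rfl⟩ := List.getElem_of_mem hl
  rw [← List.getD_eq_getElem L [] hq] at h
  refine ⟨q, hL ▸ hq, (List.mem_pair.1 h).imp (fun e => Subtype.ext ?_) fun e => Subtype.ext ?_⟩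
  · exact (vec_map _).symm.trans (congrArg vec e)
  · exact ((vec_map _).symm.trans (congrArg vec e)).trans (w_x (hL ▸ hq)).symm

theorem x_inj {p q : ℕ} (hp : p < 276) (hq : q < 276) (e : x p = x q) : p = q := by
  refine (List.Nodup.getElem_inj_iff nodup).1 ((List.getD_eq_getElem L [] (hL ▸ hp)).symm.trans (.trans ?_
    (List.getD_eq_getElem L [] (hL ▸ hq))))
  refine List.ext_getElem ((hL₁ _ (mem_L hp)).1.trans (hL₁ _ (mem_L hq)).1.symm) fun i hi hi' => ?_
  have : vec (L.getD p []) (Golay.pt i) = vec (L.getD q []) (Golay.pt i) :=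
    congrFun (congrArg Subtype.val e) (Golay.pt i)
  rwa [vec, vec, Golay.idx_pt i ((hL₁ _ (mem_L hp)).1 ▸ hi), List.getD_eq_getElem _ _ hi,
    List.getD_eq_getElem _ _ hi'] at this

theorem x_ne {p q : ℕ} (hp : p < 276) (hq : q < 276) : x p ≠ w (x q) := fun e => by
  have : (L.getD p []).getD 23 0 = 5 - (L.getD q []).getD 23 0 := congrFun (congrArg Subtype.val e) none
  have := (hL₁ _ (mem_L hp)).2.2.2.2
  have := (hL₁ _ (mem_L hq)).2.2.2.2
  omega

/-- The pair `p`. -/
def lab (p : ℕ) : Set leechLattice := {x p, w (x p)}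

theorem smul_lab (s : Co3) {p q : ℕ} (h : s • x p = x q ∨ s • x p = w (x q)) : s • lab p = lab q := by
  rw [lab, Set.smul_set_insert, Set.smul_set_singleton, smul_w]
  rcases h with h | h
  · rw [h, lab]
  · rw [h, w_w, lab, Set.pair_comm]

theorem lab_inj : Set.InjOn lab (Set.Iio 276) := fun _ hp _ hq e =>
  (Set.mem_insert_iff.1 (e.le (Set.mem_insert _ _))).elim (x_inj hp hq) fun h => absurd h (x_ne hp hq)

theorem card_aux : Nat.card Co3 ≠ 0 ∧ Nat.card Co3 ≤ 495766656000 := by
  have h := (MulAction.stabilizer Co3 leechU).index_mul_card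
  have e : Nat.card (MulAction.stabilizer Co3 leechU) = 898128000 :=
    card_McL ▸ Nat.card_congr (Subgroup.subgroupOfEquivOfLe (show McL ≤ Co3 from inf_le_left)).toEquiv ▸
      congrArg (fun H : Subgroup Co3 => Nat.card H) (Subgroup.ext fun g => ⟨fun h => ⟨g.2, h⟩, fun h => h.2⟩)
  have u : leechU = x 0 := Subtype.ext (by decide +kernel)
  have le : MulAction.orbit Co3 leechU ⊆ x '' Set.Iio 276 ∪ (w ∘ x) '' Set.Iio 276 := by
    rintro _ ⟨s, rfl⟩
    obtain ⟨q, hq, h⟩ := near' s (p := 0) (by decide)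
    exact h.imp (fun h => ⟨q, hq, (u ▸ h).symm⟩) fun h => ⟨q, hq, (u ▸ h).symm⟩
  have f : (x '' Set.Iio 276 ∪ (w ∘ x) '' Set.Iio 276).Finite :=
    ((Set.finite_Iio _).image _).union ((Set.finite_Iio _).image _)
  have h₁ := (Set.ncard_le_ncard le f).trans ((Set.ncard_union_le _ _).trans (Nat.add_le_add
    (Set.ncard_image_le (Set.finite_Iio _)) (Set.ncard_image_le (Set.finite_Iio _))))
  have h₂ := (Set.ncard_pos (f.subset le)).2 ⟨_, MulAction.mem_orbit_self _⟩
  rw [Set.ncard_Iio_nat, ← MulAction.index_stabilizer] at h₁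
  rw [← MulAction.index_stabilizer] at h₂
  rw [e] at h
  omega

theorem card_le : Nat.card Co3 ≤ 495766656000 := card_aux.2

instance : Finite Co3 := Nat.finite_of_card_ne_zero card_aux.1

/-- A basis of the space. -/
noncomputable def b (k : Fin 24) : leechLattice := if k.1 < 23 then x k else leechV

def C (p : GolayPt) (k : Fin 24) : ℤ :=
  (if p = none then 1 else -1) * (if k.1 < 23 then 1 else 4) + if k.1 < 23 ∧ Golay.idx p = k then 18 else 0

theorem hC : ∀ p r, ∑ k, C p k * (b k).1 r = if p = r then 72 else 0 := by decide +kernel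

theorem eq_one {s : Co3} (h : ∀ p < 276, s • x p = x p ∨ s • x p = w (x p)) : s = 1 := by
  have d : ∀ p < 23, 0 < p → dotInt (x p).1 (x 0).1 = 16 ∧ dotInt (w (x p)).1 (x 0).1 = 8 ∧
      dotInt (x p).1 (w (x 0)).1 = 8 := by decide +kernel
  have sp := span hC s.2.1
  rcases h 0 (by decide) with e | e
  · have k : ∀ k, s.1 (b k) = b k := fun k => by
      rw [b]
      split_ifs with hk
      · rcases Nat.eq_zero_or_pos k with z | z
        · rw [z]; exact e
        refine (h k (by omega)).resolve_right fun e' => ?_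
        have := dot_eq s.2.1 (x k) (x 0)
        rw [show s.1 (x k) = _ from e', show s.1 (x 0) = _ from e, (d k hk z).1, (d k hk z).2.1] at this
        omega
      · exact s.2.2
    refine Subtype.ext (Equiv.ext fun y => Subtype.ext (smul_right_injective V (show (72 : ℤ) ≠ 0 by decide)
      (congrArg Subtype.val (show (72 : ℤ) • s.1 y = (72 : ℤ) • y from (sp y).trans ?_))))
    simpa only [k, Perm.one_apply] using (span hC Co0.one_mem y).symm
  · have k : ∀ k, s.1 (b k) = if k.1 < 23 then w (b k) else b k := fun k => by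
      rw [b]
      split_ifs with hk
      · rcases Nat.eq_zero_or_pos k with z | z
        · rw [z]; exact e
        refine (h k (by omega)).resolve_left fun e' => ?_
        have := dot_eq s.2.1 (x k) (x 0)
        rw [show s.1 (x k) = _ from e', show s.1 (x 0) = _ from e, (d k hk z).1, (d k hk z).2.2] at this
        omega
      · exact s.2.2
    have := congrFun (congrArg Subtype.val (sp leechU')) (some 1)
    simp only [k, AddSubgroup.coe_zsmul, AddSubgroup.val_finsetSum, Finset.sum_apply, Pi.smul_apply,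
      smul_eq_mul] at this
    rw [show ∑ k : Fin 24, (∑ p, leechU'.1 p * C p k) * (if k.1 < 23 then w (b k) else b k).1 (some 1) = 48 by
      decide +kernel] at this
    omega

noncomputable def ct0 : ℕ := (nat_lit 0x6331588c389b0a24c1602fe22be5eaf1771087ae972b85bada1cb55a2cd650d58ac218af572b5590b55aa9530a5429d4ca55228e13085141d42a04fa7a0c9d4e26d35054ca612f044b255290381405269248c0120ff47bf91c8d4622d14897ea210e867e21508837da0902803f9f8fafa3e3e4f67a7c1e5eef63c1dcec757a9d0e6727a1c5e670379b8daf2361acd469343c5e06777998ca6431bb8c4613017dda5e76174b8eb7516dd25a2c960ae5674154a85329145cee62813c9ce572134984b71b889449243848e467011488df21909bc41200fc7cdd1eb7078db1d8e872da1c0dc6c351a0cdb232188c1b02f1735c5ad66a8b1a82b1534c52d21409c4c2568891a0cf11b399a2210881981f0f07438cb0db2834c90c861901763854281309044200f07034180b050241007030140803010040016)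
noncomputable def ct1 : ℕ := (nat_lit 0x87c36130481bf5f0f5783b1cae471375b0d46833d9cca643197ebb5bac15cab54aa1469f4ea61249147a290a83401fcfa77389c0d86b33998c45f2e164a852281308a411f0f076391b0d05e2d160a852251007838190bc4e25118843a190b854220f0682c0a03007fbf9f8fb7d3e5eef67a3cde4f177bb9daeb753a5d0e77338dc2e06fb79b8db6d365aed66ab4da4d166b3196c963b1588c36130580be5eaf174b95c2d96ab459ac962af56ab154a75329548a250a813c9c4da6932974b2552893482391a8c45a2510874321104813f1f0f67a3c9e0ec753a1cce46f371b4d46934194c86330980bc5d2d968b0572b154a651279389a4b251249047231108642200fc7a3a1c0dc6a33190c4602e158a04e261208c44210f874361a0c0002c150a04c24110803c1c0d0602c14090401c0c050200c0401)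
noncomputable def ct2 : ℕ := (nat_lit 0x8385f50e1344150af1630a130883a95dcce0d83507001fb05fa2f37445f2f80a20896cc47bc9bc3e46414fcb739af578284d311aa650313a2408073c49a525117088bb2ca99ca7f1cb49a2343b4105af4342cd2630218918ae630c29fc0533121d4e96c260e2647604936b465258ba7c862b95a1f42aa8ad0d3835a0c2a22b6c62670c04d3a4a5ab9c12ba2d2c8d641649e4da6079a2404ef1b9b11c511da19568480bd902806a3b44eb0238a524110eb3cea3d7596d72a7053ed228a4a8acbccb502fdc8b81e0798690191a562da3925dae0b03aa4aa5429b71104611b89ba257aa7092be3d94146d9638b928207fbc0e86343811a638458d86ad01097d42c87e1099b0b35290f4e83ec3c98c627888664056188ee1681868329f0b87006f74f2d8f11307b7e040c2c1bd32e02bb8d803a0aa340200)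
noncomputable def cid : ℕ := (nat_lit 0x89c4a231087c3a1b0c85c2a130883c1a0b0481c0a03007fbf9fafc7dbe9f2f87bbd9eaf479bc9e2f077bb9daec75ba9d2e873b99cae471b89c2e06fb79badc6db69b2d86bb59aad469b49a2d067b399acc65b2992c863b198ac461b0982c05faf97abc5dae972b85bad96ab459ac962b057ab95aac55aa952a853a994aa451a8942a04fa793a9c4da6932984ba592a9449a49229047a391a8c45a29128843a190a8441a0902803f9f8fa7c3d9e8f2783b9d8ea74399c8e270379b8da6c359a8d26833998ca6431988c2602f978ba5c2d968b2582b958aa5429948a250279389a4c259289248239188a442190882401f8f87a3c1d8e872381b8d86a34198c86230178b85a2c158a85228138984a241188842200f8783a1c0d86832180b8582a14098482210078381a0c058281208038180a04018080200)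
noncomputable def cth : TT := (.node (nat_lit 2) (.node (nat_lit 1) (.leaf ct0) (.leaf ct1)) (.node (nat_lit 3) (.leaf ct2) (.leaf ct2)))
noncomputable abbrev ctt : TT := tabs (nat_lit 2) cth cid

theorem cok_id : idB (nat_lit 276) (nat_lit 9) (nat_lit 511) cid = true := by decide +kernel

theorem cok_0 : allR (fun i => okT (nat_lit 276) (nat_lit 9) (nat_lit 511) (ctt.get (2 * i)) (ctt.get (2 * i + 1)))
    (nat_lit 0) (nat_lit 2) = true := by decide +kernel

theorem cok : TabsOK (nat_lit 276) (nat_lit 9) (nat_lit 511) (nat_lit 2) cth cid :=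
  ⟨cok_id, allR_of 0 2 2 (by decide) cok_0⟩

/-- The translation of the coordinates. -/
def g : M24 := ⟨Golay.ofList [1, 2, 3, 4, 5, 6, 7, 8, 9, 10, 11, 12, 13, 14, 15, 16, 17, 18, 19, 20, 21, 22, 0, 23]
  [22, 0, 1, 2, 3, 4, 5, 6, 7, 8, 9, 10, 11, 12, 13, 14, 15, 16, 17, 18, 19, 20, 21, 23] (by decide +kernel),
  Golay.mem_M24_of (by decide +kernel)⟩

theorem gen₀ : ∃ s : Co3, ∀ p < 276, s • x p = x (lk 9 511 ct1 p) := by
  have h : ∀ p < 276, vec (L.getD p []) ∘ g.1.symm = vec (L.getD (lk 9 511 ct1 p) []) := by decide +kernel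
  exact ⟨⟨(mono g).1, (mono g).2, Subtype.ext (show vecV ∘ g.1.symm = vecV by decide +kernel)⟩,
    fun p hp => Subtype.ext (h p hp)⟩

theorem gen₁ : ∃ s : Co3, ∀ p < 276, s • x p = x (lk 9 511 ct2 p) ∨ s • x p = w (x (lk 9 511 ct2 p)) := by
  have h₀ : ∀ p, (S1667.A.getD (Golay.idx p) []).length = 24 ∧
      ldot (S1667.A.getD (Golay.idx p) []) vl = 8 * vec vl p := by decide +kernel
  have h₁ : ∀ p r, vec (S1667.A.getD (Golay.idx p) []) r = vec (S1667.A.getD (Golay.idx r) []) p ∧
      ldot (S1667.A.getD (Golay.idx p) []) (S1667.A.getD (Golay.idx r) []) = if p = r then 64 else 0 := by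
    decide +kernel
  have h₃ : ∀ p < 276, lk 9 511 ct2 p < 276 ∧ S1667.A.map (ldot · (L.getD p [])) ∈
      [L.getD (lk 9 511 ct2 p) [], wl (L.getD (lk 9 511 ct2 p) [])].map (List.map (8 * ·)) := by decide +kernel
  obtain ⟨s, hs, e⟩ := exists_mat (Matrix.of fun p => vec (S1667.A.getD (Golay.idx p) [])) (Matrix.ext fun p r =>
    (Finset.sum_congr rfl fun k _ => congrArg (_ * ·) (h₁ k r).1).trans (((dot_vec (h₀ p).1.le _).trans
      (h₁ p r).2).trans (by simp [Matrix.one_apply]))) (Matrix.ext fun p r => (h₁ r p).1)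
    (show ∀ i, (∀ p, dotInt (vec (S1667.A.getD (Golay.idx p) [])) (gen i) % 8 = 0) ∧
      Chk fun p => dotInt (vec (S1667.A.getD (Golay.idx p) [])) (gen i) / 8 by decide +kernel)
  have inj := smul_right_injective V (show (8 : ℤ) ≠ 0 by decide)
  have k : ∀ p m, S1667.A.map (ldot · (L.getD p [])) = List.map (8 * ·) m → (s (x p)).1 = vec m := fun p m h =>
    inj ((e _).trans (funext fun r => by
      have := congrArg (·.getD (Golay.idx r) 0) h
      simp only [show (0 : ℤ) = ldot [] (L.getD p []) from rfl, List.getD_map S1667.A [] (ldot · (L.getD p []))] at this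
      exact ((dot_vec (h₀ r).1.le _).trans this).trans (List.getD_map _ (0 : ℤ) (8 * ·))))
  refine ⟨⟨s, hs, Subtype.ext (inj ((e _).trans (funext fun p => ?_)))⟩, fun p hp => ?_⟩
  · rw [show leechV.1 = vec vl from vec_vl]
    exact (dot_vec (h₀ p).1.le vl).trans (h₀ p).2
  · exact (List.mem_pair.1 (h₃ p hp).2).imp (fun h => Subtype.ext (k p _ h))
      fun h => Subtype.ext ((k p _ h).trans (w_x (h₃ p hp).1).symm)

/-- The faithful action on the 276 pairs. -/
theorem exists_pi : ∃ π : Co3 →* Perm ℕ, Function.Injective π ∧ (∀ s i, 276 ≤ i → π s i = i) ∧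
    ∀ i < 2, tp (nat_lit 276) (nat_lit 9) (nat_lit 511) ctt i ∈ π.range := by
  obtain ⟨π, h₁, h₂⟩ := Rk3Iso.exists_phi (S := Co3) lab lab_inj fun s p hp =>
    (near' s hp).imp fun q h => ⟨h.1, (smul_lab s h.2).symm⟩
  have k : ∀ i, ∀ s : Co3, (∀ p < 276, s • lab p = lab (lk 9 511 (ctt.get (2 * i + 1)) p)) →
      tp (nat_lit 276) (nat_lit 9) (nat_lit 511) ctt i ∈ π.range := fun i s h => ⟨s, Equiv.ext fun p => by
    by_cases hp : p < 276
    · rw [cok.apply i hp]
      exact lab_inj (lt_of_fix (h₁ s) hp) ((cok.tok i).symm p hp).1 ((h₂ s p hp).trans (h p hp))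
    · rw [h₁ s p (not_lt.1 hp)]
      simpa [wval, lval] using (tp_fix (wb := nat_lit 9) (mask := nat_lit 511) ctt [2 * i] (not_lt.1 hp)).symm⟩
  refine ⟨π, (injective_iff_map_eq_one π).2 fun s hs => eq_one fun p hp => ?_, h₁, fun i hi => ?_⟩
  · have := h₂ s p hp
    rw [hs] at this
    exact this.ge (Set.smul_mem_smul_set (Set.mem_insert _ _))
  · obtain rfl | rfl : i = 0 ∨ i = 1 := by omega
    · exact gen₀.elim fun s h => k 0 s fun p hp => smul_lab s (.inl (h p hp))
    · exact gen₁.elim fun s h => k 1 s fun p hp => smul_lab s (h p hp)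

end Cfsg.Agent.Lib.Co3Model
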