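import Cfsg.Agent.Lib.Co3Tab
import Cfsg.Agent.Lib.DCE

/-! The permutations given by the tables, and the evaluation of words on points. -/

set_option autoImplicit false
set_option maxRecDepth 100000

namespace Cfsg.Agent.Lib.Co3

open Cfsg.Agent.Lib.PermNet Cfsg.Agent.Lib.Words Cfsg.Agent.Lib.PermGroup Cfsg.Agent.Lib.DCE
  Cfsg.Agent.Lib.Co3Tab Equiv

/-- The tables of the first `n` generators. -/
noncomputable def tm (n : ℕ) : TT := .node (Nat.add n n) tt (.leaf idT)

noncomputable def lu (T p : ℕ) : ℕ := lk (nat_lit 10) (nat_lit 1023) T p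

def InvT (T T' : ℕ) : Prop := ∀ p < 552, lu T p < 552 ∧ lu T' (lu T p) = p

open Classical in
noncomputable def tp (T T' : ℕ) : Perm ℕ :=
  if h : InvT T T' ∧ InvT T' T then
    ⟨fun p => if p < 552 then lu T p else p, fun p => if p < 552 then lu T' p else p,
      fun p => by by_cases hp : p < 552 <;> simp [hp, h.1 p],
      fun p => by by_cases hp : p < 552 <;> simp [hp, h.2 p]⟩ else 1

/-- The first `n` generators. -/
noncomputable def fm (n i : ℕ) : Perm ℕ :=
  if i < n then tp (tt.get (2 * i + 1)) (tt.get (2 * i)) else 1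

theorem inv_all : allR (fun l => allR (fun p => forceB (lu (tt.get l) p) fun q =>
    band (Nat.blt q 552) (Nat.beq (lu (tt.get (Nat.xor l 1)) q) p)) 0 552) 0 72 = true := by
  decide +kernel

theorem id_all : allR (fun p => Nat.beq (lu idT p) p) 0 552 = true := by decide +kernel

theorem invT {l : ℕ} (h : l < 72) : InvT (tt.get l) (tt.get (l ^^^ 1)) := fun p hp => by
  obtain ⟨h1, h2⟩ := band_eq (allR_all (allR_all inv_all l (by omega) (by omega)) p (by omega)
    (by omega))
  exact ⟨blt_lt h1, beq_eq h2⟩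

theorem invT2 {i : ℕ} (h : i < 36) : InvT (tt.get (2 * i + 1)) (tt.get (2 * i)) ∧
    InvT (tt.get (2 * i)) (tt.get (2 * i + 1)) := by
  have h1 := invT (l := 2 * i + 1) (by omega)
  have h2 := invT (l := 2 * i) (by omega)
  rw [Nat.xor_one_of_odd (by simp)] at h1
  rw [Nat.xor_one_of_even (by simp)] at h2
  exact ⟨h1, h2⟩

theorem fm_fix (n i : ℕ) {p : ℕ} (hp : 552 ≤ p) : fm n i p = p := by
  unfold fm tp
  split_ifs
  · exact if_neg (by omega)
  all_goals rfl

theorem fm_of_lt {n m i : ℕ} (h1 : i < n) (h2 : i < m) : fm n i = fm m i := by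
  rw [fm, fm, if_pos h1, if_pos h2]

theorem fm_of_ge {n i : ℕ} (h : n ≤ i) : fm n i = 1 := if_neg (by omega)

theorem good {n : ℕ} (hn : n ≤ 36) :
    Good (MonoidHom.id _) 552 (nat_lit 10) (nat_lit 1023) (tm n) (fm n) := by
  intro l p hp
  by_cases hl : l < n + n
  · have e : (tm n).get l = tt.get l := by
      change @Bool.rec (fun _ => ℕ) (tt.get l) idT (Nat.ble (n + n) l) = _
      rw [show Nat.ble (n + n) l = false from
        Bool.eq_false_iff.2 fun hh => by have := Nat.le_of_ble_eq_true hh; omega]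
    have h := invT2 (i := l / 2) (by omega)
    rw [e, MonoidHom.id_apply, lval, fm, if_pos (show l / 2 < n by omega), tp, dif_pos h]
    split_ifs with h2
    · change _ = (if p < 552 then _ else _) ∧ (if p < 552 then _ else _) < 552
      rw [if_pos hp]
      exact ⟨congrArg (fun k => lu (tt.get k) p) (show l = 2 * (l / 2) by omega), (h.2 p hp).1⟩
    · change _ = (if p < 552 then _ else _) ∧ (if p < 552 then _ else _) < 552
      rw [if_pos hp]
      exact ⟨congrArg (fun k => lu (tt.get k) p) (show l = 2 * (l / 2) + 1 by omega), (h.1 p hp).1⟩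
  · have e : (tm n).get l = idT := by
      change @Bool.rec (fun _ => ℕ) (tt.get l) idT (Nat.ble (n + n) l) = _
      rw [Nat.ble_eq_true_of_le (by omega)]
    have e2 : lval (fm n) l = 1 := by
      unfold lval
      rw [fm_of_ge (by omega)]; simp
    rw [e, e2, map_one]
    exact ⟨beq_eq (allR_all id_all p (Nat.zero_le _) (by omega)), hp⟩

/-- The image of a point under the inverse of a word. -/
noncomputable def ap (n : ℕ) (w : List ℕ) (p : ℕ) : ℕ := ap1 (nat_lit 10) (nat_lit 1023) (tm n) w p

theorem wval_fix (n : ℕ) (w : List ℕ) {p : ℕ} (hp : 552 ≤ p) : wval (fm n) w p = p := by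
  induction w with
  | nil => rfl
  | cons a w ih =>
    rw [wval_cons, Perm.mul_apply, ih]
    unfold lval
    split_ifs
    · exact fm_fix _ _ hp
    · rw [Perm.inv_eq_iff_eq, fm_fix _ _ hp]

variable {n : ℕ} (hn : n ≤ 36)
include hn

theorem ap_eq (w : List ℕ) {p : ℕ} (hp : p < 552) : ap n w p = (wval (fm n) w)⁻¹ p :=
  ap1_eq (good hn) w hp

theorem ap_lt (w : List ℕ) {p : ℕ} (hp : p < 552) : ap n w p < 552 := by
  rw [ap_eq hn w hp]; exact (good hn).lt w hp

/-- Two words that agree on all points. -/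
theorem eq_of_all {u v : List ℕ}
    (h : allR (fun p => Nat.beq (ap n u p) (ap n v p)) 0 552 = true) :
    wval (fm n) u = wval (fm n) v := by
  rw [← inv_inj]
  ext p
  by_cases hp : p < 552
  · rw [← ap_eq hn u hp, ← ap_eq hn v hp]
    exact beq_eq (allR_all h p (Nat.zero_le _) (by omega))
  · rw [← wval_invW, ← wval_invW, wval_fix _ _ (by omega), wval_fix _ _ (by omega)]

end Cfsg.Agent.Lib.Co3
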