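import Cfsg.Agent.Lib.Co3TT

/-! Certificates. -/

set_option autoImplicit false
set_option maxRecDepth 100000

namespace Cfsg.Agent.Lib.Co3Top

open Cfsg.Agent.Lib.PermNet Cfsg.Agent.Lib.Words Cfsg.Agent.Lib.PermGroup Cfsg.Agent.Lib.DCE Cfsg.Agent.Lib.PermModel Cfsg.Agent.Lib.BT

theorem vok_id : idB (nat_lit 276) (nat_lit 9) (nat_lit 511) vid = true := by decide +kernel

theorem vok_0 : allR (fun i => okT (nat_lit 276) (nat_lit 9) (nat_lit 511) (vtt.get (2 * i)) (vtt.get (2 * i + 1))) (nat_lit 0) (nat_lit 15) = true := by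
  decide +kernel

def vdL0 : List (List ℕ) := [[5, 0, 0, 0, 2, 0, 2, 0, 0, 0, 0, 0, 3, 1], [7, 1, 1, 2, 1, 2, 0, 2, 0, 3, 0, 0, 0, 0, 3, 1], [9, 5, 2, 4, 4, 6, 4], [11, 7, 5, 7, 5, 6, 6, 4, 6], [13, 2, 10, 8, 8], [15, 8, 10, 8, 3, 9], [17, 8, 10, 2, 10, 8, 11, 9], [19, 12, 17, 12, 17], [21, 12, 12, 14, 14, 17], [23, 12, 14, 14, 12, 16, 12, 16], [25, 19, 22, 20], [27, 23, 20, 19, 21], [29, 18, 21, 19, 20, 18, 21]]

theorem vd0 : allL (fixA (nat_lit 9) (nat_lit 511) vtt (nat_lit 276)) vdL0 = true := by decide +kernel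

theorem vc : chB (nat_lit 9) (nat_lit 511) vtt (nat_lit 276) (fun _ => true) vch [] = true := by decide +kernel

noncomputable def ts23 : List Tst := [⟨[], [], [⟨0, [0], [0], [0]⟩, ⟨0, [1], [1], [1]⟩, ⟨0, [0, 0], [0, 0], [0, 0]⟩]⟩,
  ⟨[⟨0, [1], [1], [1]⟩], [], []⟩,
  ⟨[⟨0, [1], [1], [1]⟩], [], []⟩,
  ⟨[⟨0, [1], [1], [1]⟩], [], []⟩,
  ⟨[⟨0, [1], [1], [1]⟩], [], []⟩,
  ⟨[⟨0, [1], [1], [1]⟩], [], []⟩]

noncomputable def ct23 : CT := (.node 0 [[0]] [(0, 0), (22, 0), (21, 0), (20, 0), (19, 0), (18, 0), (17, 0), (16, 0), (15, 0), (14, 0), (13, 0), (12, 0), (11, 0), (10, 0), (9, 0), (8, 0), (7, 0), (6, 0), (5, 0), (4, 0), (3, 0), (2, 0), (28, 0), (201, 0), (144, 0), (103, 0), (227, 0), (162, 0), (116, 0), (83, 0), (61, 0), (45, 0), (208, 0), (259, 0), (271, 0), (275, 0), (198, 0), (254, 0), (182, 0), (130, 0), (93, 0), (68, 0), (50, 0), (39, 0), (141, 0), (101, 0), (74, 0), (55, 0), (42, 0), (206, 0), (257, 0), (185,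 0), (132, 0), (94, 0), (69, 0), (217, 0), (154, 0), (110, 0), (79, 0), (59, 0), (213, 0), (151, 0), (108, 0), (229, 0), (265, 0), (273, 0), (247, 0), (177, 0), (125, 0), (233, 0), (166, 0), (119, 0), (232, 0), (165, 0), (118, 0), (85, 0), (62, 0), (215, 0), (153, 0), (109, 0), (78, 0), (58, 0), (44, 0), (207, 0), (258, 0), (186, 0), (133, 0), (237, 0), (147, 0), (104, 0), (75, 0), (56, 0), (43, 0), (35, 0), (30, 0), (202, 0), (256, 0), (184, 0), (131, 0), (236, 0), (266, 0), (191, 0), (253, 0), (270, 0), (194, 0), (139, 0), (99, 0), (72, 0), (53, 0), (41, 0), (51, 0), (40, 0), (34, 0), (29, 0), (26, 0), (24, 0), (23, 0), (199, 0), (143, 0), (239, 0), (171, 0), (248, 0), (269, 0), (274, 0), (197, 0), (142, 0), (102, 0), (226, 0), (263, 0), (189, 0), (135, 0), (96, 0), (158, 0), (113, 0), (231, 0), (164, 0), (117, 0), (84, 0), (221, 0), (262, 0), (188, 0), (134, 0), (95, 0), (224, 0), (160, 0), (114, 0), (81,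 0), (60, 0), (214, 0), (152, 0), (242, 0), (173, 0), (123, 0), (89, 0), (228, 0), (264, 0), (190, 0), (136, 0), (97, 0), (71, 0), (52, 0), (210, 0), (149, 0), (106, 0), (77, 0), (57, 0), (212, 0), (260, 0), (272, 0), (195, 0), (140, 0), (100, 0), (73, 0), (54, 0), (211, 0), (150, 0), (230, 0), (163, 0), (245, 0), (268, 0), (193, 0), (138, 0), (238, 0), (170, 0), (121, 0), (87, 0), (64, 0), (47, 0), (209, 0), (148, 0), (105, 0), (76, 0), (218, 0), (155, 0), (111, 0), (80, 0), (219, 0), (156, 0), (86, 0), (63, 0), (46, 0), (36, 0), (31, 0), (27, 0), (25, 0), (200, 0), (255, 0), (183, 0), (251, 0), (180, 0), (128, 0), (235, 0), (168, 0), (246, 0), (176, 0), (250, 0), (179, 0), (127, 0), (234, 0), (167, 0), (192, 0), (137, 0), (98, 0), (225, 0), (161, 0), (115, 0), (82, 0), (220, 0), (157, 0), (243, 0), (174, 0), (249, 0), (178, 0), (126, 0), (91, 0), (67, 0), (49, 0), (38, 0), (32, 0), (203, 0), (145, 0), (240,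 0), (241, 0), (172, 0), (122, 0), (88, 0), (65, 0), (216, 0), (261, 0), (187, 0), (252, 0), (181, 0), (129, 0), (92, 0), (223, 0), (159, 0), (244, 0), (175, 0), (124, 0), (90, 0), (66, 0), (48, 0), (37, 0), (204, 0)] (nat_lit 0x82005000000001000000004008200000000000004000000008000010000001) (nd [(0, (nd [(1, (nd [(2, (nd [(3, (nd [(4, (lf [(5, [])]))]))]))]))]))]) .nil)

theorem s23 : solveB (nat_lit 9) (nat_lit 511) vtt (nat_lit 276) 500 (vch.map Lv.b) (fun _ => true) vch 0 []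
    [[0]] [[0]] [] [] [0] (memLL [[]]) id ts23 ct23 = true := by
  decide +kernel

theorem vok : TabsOK (nat_lit 276) (nat_lit 9) (nat_lit 511) (nat_lit 15) vth vid := ⟨vok_id, (allR_of 0 15 15 (by decide) vok_0)⟩

theorem vTM : TM 2 (nat_lit 276) (nat_lit 9) (nat_lit 511) (nat_lit 15) vid 495766656000 vth vdefs vch :=
  ⟨vok, (vok.relsA _ vd0), vc, by decide +kernel⟩

end Cfsg.Agent.Lib.Co3Top
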