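import Mathlib
import Cfsg.Agent.Lib.SmallTC
import Cfsg.Agent.Lib.LinearOrders

/-! The amalgam of two groups `S₄` over `D₈`: order bounds for its small quotients, and the
recognition of `SL₃(2)` and `A₆`. -/

set_option autoImplicit false

namespace Cfsg.Agent.Lib.D8Amalg

open Subgroup Cfsg.Agent.Lib.SmallTC

variable {G : Type*} [Group G]

/-- The letters. -/
def gn (a b c d : G) : ℕ → G
  | 1 => a
  | 2 => b
  | 3 => c
  | 4 => d
  | _ => 1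

/-- Value of a word. -/
def ev (a b c d : G) (w : List ℕ) : G := (w.map (gn a b c d)).prod

def rl3 : List (List ℕ) := [[], [1,1], [2,2], [3,3], [1,2,1,2,1,2,1,2], [1,3,1,3], [2,3,2,3,2,3],
  [3,1,2,1,2,3,1,2,1,2,1]]

/-- The relators of the amalgam, followed by further relators. -/
def rl (extra : List (List ℕ)) : List (List ℕ) := [[], [1,1], [2,2], [3,3], [4,4],
  [1,2,1,2,1,2,1,2], [1,3,1,3], [2,3,2,3,2,3], [3,1,2,1,2,3,1,2,1,2,1],
  [2,4,2,4], [1,4,1,4,1,4], [4,1,2,1,2,4,1,2,1,2,2]] ++ extra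

def w1 (k : ℕ) : List ℕ := (List.replicate k [3,4]).flatten
def w2 (k : ℕ) : List ℕ := (List.replicate k [3,4,2]).flatten
def w3 (k : ℕ) : List ℕ := (List.replicate k [1,2,3,4]).flatten

def tPF : Tr :=
    (.node (.node (.node (.node (.node (.node .leaf 19 3 21 .leaf) 9 2 16 .leaf) 3 2 8 (.node .leaf 5 1 3
    .leaf)) 1 2 4 (.node (.node (.node .leaf 23 3 16 .leaf) 12 3 20 .leaf) 6 2 12 (.node .leaf 17 1 10
    .leaf))) 0 2 2 (.node (.node (.node (.node .leaf 22 3 15 .leaf) 10 2 18 .leaf) 4 3 10 (.node .leaf 14 3 8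
    .leaf)) 2 1 6 (.node (.node .leaf 14 1 22 .leaf) 7 2 14 (.node .leaf 19 2 20 .leaf)))) 0 1 1 (.node (.node
    (.node (.node (.node .leaf 17 2 22 .leaf) 9 3 17 .leaf) 4 1 9 (.node .leaf 13 1 7 .leaf)) 1 3 5 (.node
    (.node .leaf 13 2 21 .leaf) 6 3 13 (.node .leaf 18 3 11 .leaf))) 0 3 3 (.node (.node (.node (.node .leaf
    20 1 23 .leaf) 11 1 19 .leaf) 5 2 11 (.node .leaf 16 1 12 .leaf)) 2 3 7 (.node (.node .leaf 15 2 23 .leaf)
    8 1 15 (.node .leaf 21 1 18 .leaf)))))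

def tPS : List (ℕ × ℕ × List ℕ) :=
    [(0,0,[]), (0,0,[]), (0,0,[]), (0,0,[]), (0,0,[]), (0,0,[]), (0,0,[]), (0,0,[]), (0,0,[]), (0,0,[]),
    (0,0,[]), (0,0,[]), (0,0,[]), (0,0,[]), (0,0,[]), (0,0,[]), (0,0,[]), (0,0,[]), (0,0,[]), (0,0,[]),
    (0,0,[]), (0,0,[]), (0,0,[]), (7,2,[5,0,8]), (7,2,[13,10,24]), (8,3,[15,5,2,12,26]),
    (6,4,[23,11,3,0,6,16,30]), (7,2,[19,16,32]), (8,3,[21,9,6,18,34]), (9,4,[39,53,31,17,7,1,4,47,20,36]),
    (9,8,[35,55,33,17,7,1,2,12,49,40]), (8,3,[41,25,22,38,59]), (9,7,[43,27,49,25,11,3,0,6,18,55]),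
    (9,0,[29,15,47,20,57,61,41,48,26,42]), (9,6,[45,29,15,47,9,1,2,10,22,38]),
    (9,0,[52,23,11,3,4,47,20,36,58,68])]

def tPR : List (ℕ × List ℕ) :=
    [(0,[0,2,4]), (1,[1,6,8]), (2,[10,3,12]), (3,[47,14,5]), (4,[16,7,18]), (5,[46,20,9]), (6,[11,22,24]),
    (7,[49,26,13]), (8,[28,15,51]), (9,[17,30,32]), (10,[55,34,19]), (11,[36,21,57]), (12,[53,23,38]),
    (13,[48,40,25]), (14,[42,27,50]), (15,[29,44,67]), (16,[52,31,71]), (17,[54,64,33]), (18,[61,35,56]),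
    (19,[37,58,62]), (20,[68,59,39]), (21,[60,41,63]), (22,[43,65,66]), (23,[69,45,70])]

theorem tPC : check id rl3 [] [1,2,3] tPF tPS tPR = true := by decide +kernel

def t33F : Tr :=
    (.node (.node (.node (.node .leaf 2 2 2 .leaf) 0 2 0 .leaf) 1 3 2 (.node (.node .leaf 1 0 0 .leaf) 1 2 1
    .leaf)) 0 4 1 (.node (.node (.node .leaf 2 0 1 .leaf) 0 3 0 .leaf) 0 1 0 (.node (.node .leaf 0 4 0 .leaf)
    2 4 2 .leaf)))

def t33S : List (ℕ × ℕ × List ℕ) :=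
    [(0,0,[]), (0,0,[]), (1,0,[]), (1,0,[]), (1,0,[]), (11,2,[1,7,0]), (14,3,[3,1,9,0,2]),
    (15,5,[3,1,6,9,0,11,2,13]), (9,0,[11,2,15,3,11,2]), (6,0,[0,17,13,16]), (6,0,[0,18])]

def t33R : List (ℕ × List ℕ) :=
    [(0,[5,7,9,21])]

theorem t33C : check id (rl [w1 3, w2 3]) [1,2,3] [1,2,3,4] t33F t33S t33R = true := by decide +kernel

def t34F : Tr :=
    (.node (.node (.node (.node (.node .leaf 5 1 5 .leaf) 0 2 0 .leaf) 2 3 4 (.node (.node .leaf 4 4 6 .leaf)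
    2 2 2 .leaf)) 1 1 2 (.node (.node (.node .leaf 6 1 6 .leaf) 1 2 1 .leaf) 4 2 6 (.node .leaf 4 1 3 .leaf)))
    0 4 1 (.node (.node (.node (.node .leaf 5 4 5 .leaf) 0 3 0 .leaf) 3 2 5 (.node .leaf 3 4 3 .leaf)) 1 3 3
    (.node (.node (.node .leaf 6 3 6 .leaf) 2 4 2 .leaf) 0 1 0 (.node .leaf 5 3 5 .leaf))))

def t34S : List (ℕ × ℕ × List ℕ) :=
    [(0,0,[]), (0,0,[]), (0,0,[]), (0,0,[]), (0,0,[]), (0,0,[]), (1,0,[]), (1,0,[]), (1,0,[]),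
    (11,2,[1,15,0]), (12,3,[3,1,13,0,2]), (13,2,[3,18,1,12,14,12,14,14,0,2]), (14,3,[5,1,17,0,4]),
    (8,2,[5,2,6]), (9,3,[9,5,19,4,8]), (10,8,[9,27,7,3,19,2,23,6,26,8]), (15,4,[9,5,1,14,16,0,18,4,25,8,29]),
    (10,3,[11,7,3,18,2,22,3,4,27,10]), (9,3,[11,7,23,6,10]), (13,5,[34,11,26,8,9,25,27,10,35,11])]

def t34R : List (ℕ × List ℕ) :=
    [(0,[13,15,17,0]), (1,[2,19,4,1]), (2,[3,23,6,21]), (3,[27,8,5,25]), (4,[26,10,7,38]), (5,[31,9,29,33]),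
    (6,[35,11,37,39])]

theorem t34C : check id (rl [w1 3, w2 4]) [1,2,3] [1,2,3,4] t34F t34S t34R = true := by decide +kernel

def t35F : Tr :=
    (.node (.node (.node (.node .leaf 2 4 2 .leaf) 0 1 0 (.node .leaf 1 0 0 .leaf)) 1 3 2 (.node (.node .leaf
    3 4 3 .leaf) 0 3 0 .leaf)) 0 4 1 (.node (.node (.node .leaf 3 3 3 .leaf) 0 2 0 (.node .leaf 0 4 0 .leaf))
    2 2 3 (.node (.node .leaf 0 0 2 .leaf) 1 2 1 .leaf)))

def t35S : List (ℕ × ℕ × List ℕ) :=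
    [(0,0,[]), (0,0,[]), (0,0,[]), (1,0,[]), (1,0,[]), (1,0,[]), (11,2,[1,9,0]), (14,3,[3,1,11,0,2]),
    (9,3,[5,3,13,2,4]), (11,1,[5,14,4]), (15,0,[3,1,9,11,0,13,2,15,4,17,19,5,3,1,9]), (5,0,[10,20,3]),
    (6,0,[0,22])]

def t35R : List (ℕ × List ℕ) :=
    [(0,[7,9,11,25])]

theorem t35C : check id (rl [w1 3, w2 5]) [1,2,3] [1,2,3,4] t35F t35S t35R = true := by decide +kernel

def t43F : Tr :=
    (.node (.node (.node (.node (.node .leaf 5 1 5 .leaf) 0 2 0 .leaf) 2 3 4 (.node (.node .leaf 6 4 6 .leaf)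
    2 2 2 .leaf)) 1 1 2 (.node (.node (.node .leaf 6 1 6 .leaf) 1 2 1 .leaf) 4 2 6 (.node .leaf 3 4 5 .leaf)))
    0 4 1 (.node (.node (.node (.node .leaf 4 4 4 .leaf) 0 3 0 .leaf) 3 2 5 (.node .leaf 4 1 3 .leaf)) 1 3 3
    (.node (.node (.node .leaf 6 3 6 .leaf) 2 4 2 .leaf) 0 1 0 (.node .leaf 5 3 5 .leaf))))

def t43S : List (ℕ × ℕ × List ℕ) :=
    [(0,0,[]), (0,0,[]), (0,0,[]), (0,0,[]), (0,0,[]), (0,0,[]), (1,0,[]), (1,0,[]), (1,0,[]),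
    (11,2,[1,15,0]), (12,3,[3,1,13,0,2]), (13,2,[3,18,1,12,14,12,14,14,0,2]), (8,2,[5,2,6]),
    (15,4,[9,5,1,14,17,0,19,4]), (9,3,[9,5,19,4,8]), (10,8,[9,25,7,3,19,2,23,6,24,8]),
    (12,1,[24,26,30,27,25]), (10,3,[11,7,3,18,2,22,3,4,25,10]), (9,3,[11,7,23,6,10]),
    (15,4,[11,7,20,22,6,33,10,37])]

def t43R : List (ℕ × List ℕ) :=
    [(0,[13,15,17,0]), (1,[2,19,4,1]), (2,[3,23,6,21]), (3,[25,8,5,26]), (4,[24,10,7,33]), (5,[31,9,29,27]),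
    (6,[35,11,37,39])]

theorem t43C : check id (rl [w1 4, w2 3]) [1,2,3] [1,2,3,4] t43F t43S t43R = true := by decide +kernel

def t44F : Tr :=
    (.node (.node (.node (.node (.node .leaf 5 1 5 .leaf) 0 1 0 (.node .leaf 4 0 1 .leaf)) 2 3 4 (.node (.node
    .leaf 7 0 6 .leaf) 2 4 2 .leaf)) 1 1 2 (.node (.node (.node .leaf 7 2 6 .leaf) 0 3 0 (.node .leaf 1 0 0
    .leaf)) 3 4 6 (.node (.node .leaf 3 0 4 .leaf) 4 1 3 .leaf))) 0 4 1 (.node (.node (.node (.node .leaf 6 3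
    6 .leaf) 0 2 0 (.node .leaf 1 0 2 .leaf)) 3 2 5 (.node (.node .leaf 5 0 3 .leaf) 2 2 2 .leaf)) 1 3 3
    (.node (.node (.node .leaf 7 3 7 .leaf) 1 2 1 (.node .leaf 0 4 0 .leaf)) 5 4 7 (.node (.node .leaf 3 0 1
    .leaf) 5 3 5 .leaf))))

def t44S : List (ℕ × ℕ × List ℕ) :=
    [(0,0,[]), (0,0,[]), (0,0,[]), (0,0,[]), (0,0,[]), (0,0,[]), (0,0,[]), (1,0,[]), (1,0,[]), (1,0,[]),
    (11,2,[1,17,0]), (12,3,[3,1,15,0,2]), (13,2,[3,20,1,14,16,14,16,16,0,2]), (8,2,[5,2,6]),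
    (9,3,[9,5,21,4,8]), (10,8,[9,27,7,3,21,2,25,6,26,8]), (14,4,[11,5,1,19,0,4,10]), (11,2,[11,8,12]),
    (15,9,[13,9,5,1,17,19,0,21,4,10,35]), (9,0,[35,37,34,33,35,37]), (6,0,[10,39,13]), (3,0,[26,41,31,40]),
    (5,0,[4,41,29,40]), (2,0,[45,42]), (3,0,[3,47,26,44]), (6,0,[0,48,23,49]), (6,0,[0,50])]

def t44R : List (ℕ × List ℕ) :=
    [(0,[15,17,19,53])]

theorem t44C : check id (rl [w1 4, w2 4]) [1,2,3] [1,2,3,4] t44F t44S t44R = true := by decide +kernel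

def t45F : Tr :=
    (.node (.node (.node (.node (.node .leaf 1 0 2 .leaf) 0 3 0 .leaf) 2 4 4 (.node .leaf 5 2 4 .leaf)) 1 3 2
    (.node (.node (.node .leaf 1 0 0 .leaf) 3 3 3 .leaf) 0 1 0 (.node .leaf 4 0 3 .leaf))) 0 4 1 (.node (.node
    (.node (.node .leaf 3 0 1 .leaf) 1 2 1 .leaf) 3 4 5 (.node .leaf 5 0 2 .leaf)) 2 2 3 (.node (.node (.node
    .leaf 0 4 0 .leaf) 4 3 4 .leaf) 0 2 0 (.node .leaf 3 4 2 .leaf))))

def t45S : List (ℕ × ℕ × List ℕ) :=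
    [(0,0,[]), (0,0,[]), (0,0,[]), (0,0,[]), (0,0,[]), (1,0,[]), (1,0,[]), (1,0,[]), (11,2,[1,13,0]),
    (9,3,[5,3,17,2,4]), (14,4,[7,3,1,15,0,2,6]), (11,2,[7,4,8]),
    (15,2,[4,19,8,22,21,7,4,19,8,22,21,7,4,19,8]), (4,0,[5,25,22]), (6,0,[6,26]),
    (15,3,[3,1,13,15,0,17,2,29,5,3,1,13,15,0,17]), (4,0,[16,30,4]), (6,0,[0,30,29,32]), (6,0,[0,34])]

def t45R : List (ℕ × List ℕ) :=
    [(0,[11,13,15,37])]

theorem t45C : check id (rl [w1 4, w2 5]) [1,2,3] [1,2,3,4] t45F t45S t45R = true := by decide +kernel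

def t53F : Tr :=
    (.node (.node (.node (.node .leaf 2 4 3 .leaf) 0 1 0 (.node .leaf 1 0 0 .leaf)) 1 3 2 (.node (.node .leaf
    3 0 1 .leaf) 0 3 0 .leaf)) 0 4 1 (.node (.node (.node .leaf 3 3 3 .leaf) 0 2 0 (.node .leaf 0 4 0 .leaf))
    2 2 3 (.node (.node .leaf 2 0 1 .leaf) 1 2 1 .leaf)))

def t53S : List (ℕ × ℕ × List ℕ) :=
    [(0,0,[]), (0,0,[]), (0,0,[]), (1,0,[]), (1,0,[]), (1,0,[]), (11,2,[1,9,0]), (15,4,[5,3,1,8,11,0,13,2]),
    (9,3,[5,3,13,2,4]), (14,0,[2,14,17,15,3,1,11,0,2,14]), (4,0,[12,19,5]), (6,0,[0,19,15,20]), (6,0,[0,22])]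

def t53R : List (ℕ × List ℕ) :=
    [(0,[7,9,11,25])]

theorem t53C : check id (rl [w1 5, w2 3]) [1,2,3] [1,2,3,4] t53F t53S t53R = true := by decide +kernel

def t54F : Tr :=
    (.node (.node (.node (.node (.node .leaf 5 3 5 .leaf) 0 1 0 (.node .leaf 2 0 1 .leaf)) 3 3 4 (.node (.node
    .leaf 3 0 5 .leaf) 4 4 4 (.node .leaf 0 4 0 .leaf))) 1 3 2 (.node (.node (.node .leaf 4 2 4 .leaf) 0 3 0
    (.node .leaf 7 0 1 .leaf)) 5 3 6 (.node (.node .leaf 5 0 2 .leaf) 7 3 7 .leaf))) 0 4 1 (.node (.node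
    (.node (.node .leaf 5 4 7 .leaf) 0 2 0 (.node .leaf 5 0 1 .leaf)) 3 2 5 (.node (.node .leaf 3 0 2 .leaf) 7
    2 2 .leaf)) 2 4 3 (.node (.node (.node .leaf 4 0 3 .leaf) 1 2 1 (.node .leaf 1 0 0 .leaf)) 6 4 7 (.node
    (.node .leaf 2 0 7 .leaf) 6 0 5 .leaf))))

def t54S : List (ℕ × ℕ × List ℕ) :=
    [(0,0,[]), (0,0,[]), (0,0,[]), (0,0,[]), (0,0,[]), (0,0,[]), (0,0,[]), (1,0,[]), (1,0,[]), (1,0,[]),
    (11,2,[1,17,0]), (14,5,[7,5,3,1,19,0,2,4,6]), (15,8,[3,1,16,19,0,21,2,4,8,10,12]), (9,3,[24,3,21,2,25]),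
    (11,2,[9,5,25,13]), (5,0,[10,28]), (6,0,[13,28]), (9,4,[7,8,31,9,6]),
    (15,0,[6,23,35,7,5,25,27,33,9,6,23,35]), (4,0,[9,37,35,36]), (6,0,[4,37,23,36]), (2,0,[41,38]),
    (4,0,[24,43,9,40]), (5,0,[2,43,31,42]), (2,0,[47,43]), (2,0,[47,44]), (6,0,[0,49,32,50]), (6,0,[0,52])]

def t54R : List (ℕ × List ℕ) :=
    [(0,[15,17,19,55])]

theorem t54C : check id (rl [w1 5, w2 4]) [1,2,3] [1,2,3,4] t54F t54S t54R = true := by decide +kernel

def t553F : Tr :=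
    (.node (.node (.node (.node (.node .leaf 4 0 2 .leaf) 0 3 0 .leaf) 2 3 4 (.node (.node .leaf 1 0 0 .leaf)
    4 1 3 .leaf)) 1 1 2 (.node (.node (.node .leaf 5 0 2 .leaf) 2 4 2 .leaf) 0 1 0 (.node .leaf 5 1 5 .leaf)))
    0 4 1 (.node (.node (.node (.node .leaf 3 0 1 .leaf) 1 2 1 .leaf) 3 2 5 (.node (.node .leaf 0 4 0 .leaf) 5
    3 5 .leaf)) 1 3 3 (.node (.node (.node .leaf 2 0 1 .leaf) 2 2 2 .leaf) 0 2 0 (.node .leaf 4 4 5 .leaf))))

def t553S : List (ℕ × ℕ × List ℕ) :=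
    [(0,0,[]), (0,0,[]), (0,0,[]), (0,0,[]), (0,0,[]), (1,0,[]), (1,0,[]), (1,0,[]), (11,2,[1,13,0]),
    (12,3,[3,1,11,0,2]), (13,2,[3,16,1,10,12,10,12,12,0,2]), (8,2,[5,2,6]), (9,3,[9,5,17,4,8]),
    (10,8,[9,23,7,3,17,2,21,6,22,8]), (16,3,[26,9,5,1,10,12,14,0,2,21,6]),
    (14,0,[6,28,25,29,7,19,6,28,25,29]), (3,0,[2,31,22]), (6,0,[18,31,28]), (4,0,[16,33,8,34]),
    (6,0,[0,37,19,36]), (6,0,[0,38])]

def t553R : List (ℕ × List ℕ) :=
    [(0,[11,13,15,41])]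

theorem t553C : check id (rl [w1 5, w2 5, w3 3]) [1,2,3] [1,2,3,4] t553F t553S t553R = true := by decide +kernel

def t554F : Tr :=
    (.node (.node (.node (.node (.node (.node .leaf 9 1 11 .leaf) 0 2 0 .leaf) 4 4 8 (.node .leaf 7 1 7
    .leaf)) 2 3 4 (.node (.node (.node .leaf 14 4 14 .leaf) 2 2 2 .leaf) 7 4 12 (.node .leaf 12 2 8 .leaf))) 1
    1 2 (.node (.node (.node (.node .leaf 12 1 14 .leaf) 1 2 1 .leaf) 6 1 10 (.node .leaf 9 2 6 .leaf)) 3 4 6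
    (.node (.node .leaf 5 3 5 .leaf) 11 2 14 (.node .leaf 10 2 13 .leaf)))) 0 4 1 (.node (.node (.node (.node
    (.node .leaf 12 3 8 .leaf) 0 3 0 .leaf) 5 4 9 (.node .leaf 7 3 7 .leaf)) 3 2 5 (.node (.node .leaf 4 1 3
    .leaf) 8 1 13 (.node .leaf 13 4 10 .leaf))) 1 3 3 (.node (.node (.node (.node .leaf 14 3 13 .leaf) 2 4 2
    .leaf) 6 3 11 (.node .leaf 11 4 11 .leaf)) 4 2 7 (.node (.node .leaf 5 1 5 .leaf) 0 1 0 (.node .leaf 10 3
    9 .leaf)))))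

def t554S : List (ℕ × ℕ × List ℕ) :=
    [(0,0,[]), (0,0,[]), (0,0,[]), (0,0,[]), (0,0,[]), (0,0,[]), (0,0,[]), (0,0,[]), (0,0,[]), (0,0,[]),
    (0,0,[]), (0,0,[]), (0,0,[]), (0,0,[]), (1,0,[]), (1,0,[]), (1,0,[]), (11,2,[1,31,0]),
    (12,3,[3,1,29,0,2]), (13,2,[3,34,1,28,30,28,30,30,0,2]), (8,2,[5,2,6]), (9,3,[9,5,35,4,8]),
    (10,8,[9,41,7,3,35,2,39,6,40,8]), (10,3,[13,7,3,34,2,38,3,4,41,12]), (9,3,[13,7,39,6,12]),
    (11,2,[11,8,16]), (14,5,[21,11,5,1,33,0,4,10,20]), (11,2,[15,12,22]), (12,3,[19,11,41,14,24]),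
    (13,2,[25,55,23,46,13,40,8,9,10,18]), (16,14,[17,44,9,5,1,29,31,33,0,2,39,6,14,24,59]), (8,2,[21,18,60]),
    (10,5,[24,59,19,51,62,21,18,58,25,55]), (13,6,[27,63,50,51,17,44,9,41,12,22]),
    (16,6,[56,19,51,61,57,25,55,64,15,40,8,43,16,62,26]), (16,7,[67,54,65,23,46,13,7,36,3,34,4,10,18,58,69])]

def t554R : List (ℕ × List ℕ) :=
    [(0,[29,31,33,0]), (1,[2,35,4,1]), (2,[3,39,6,37]), (3,[41,8,5,10]), (4,[40,12,7,14]), (5,[45,9,43,16]),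
    (6,[18,51,20,11]), (7,[47,13,49,22]), (8,[24,55,65,15]), (9,[62,50,61,17]), (10,[19,58,60,57]),
    (11,[63,26,21,53]), (12,[66,54,64,23]), (13,[25,59,69,56]), (14,[67,27,68,71])]

theorem t554C : check id (rl [w1 5, w2 5, w3 4]) [1,2,3] [1,2,3,4] t554F t554S t554R = true := by decide +kernel

def t555F : Tr :=
    (.node (.node (.node (.node (.node (.node (.node .leaf 9 0 4 .leaf) 5 1 5 .leaf) 9 3 16 (.node (.node
    .leaf 1 0 0 .leaf) 16 4 24 .leaf)) 4 4 8 (.node (.node (.node .leaf 4 0 8 .leaf) 15 4 15 .leaf) 16 2 24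
    (.node .leaf 22 0 24 .leaf))) 2 3 4 (.node (.node (.node (.node .leaf 21 0 18 .leaf) 11 4 11 .leaf) 13 3
    20 (.node .leaf 22 2 17 .leaf)) 7 4 12 (.node (.node (.node .leaf 4 0 3 .leaf) 19 4 19 .leaf) 1 2 1 (.node
    .leaf 19 0 9 .leaf)))) 1 1 2 (.node (.node (.node (.node (.node .leaf 13 0 7 .leaf) 7 3 7 .leaf) 11 2 18
    (.node .leaf 21 1 24 .leaf)) 6 1 10 (.node (.node (.node .leaf 8 0 4 .leaf) 18 4 18 .leaf) 0 2 0 (.node
    .leaf 21 0 24 .leaf))) 3 4 6 (.node (.node (.node (.node .leaf 14 0 18 .leaf) 13 4 10 .leaf) 14 4 22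
    (.node .leaf 16 0 17 .leaf)) 8 3 14 (.node (.node (.node .leaf 14 0 1 .leaf) 22 3 22 .leaf) 2 2 2 (.node
    .leaf 24 0 21 .leaf))))) 0 4 1 (.node (.node (.node (.node (.node (.node .leaf 10 0 4 .leaf) 7 1 7 .leaf)
    10 3 17 (.node (.node .leaf 0 4 0 .leaf) 24 3 18 .leaf)) 5 4 9 (.node (.node (.node .leaf 7 0 4 .leaf) 17
    1 11 .leaf) 0 1 0 (.node .leaf 10 0 9 .leaf))) 3 2 5 (.node (.node (.node (.node .leaf 22 0 18 .leaf) 12 2
    8 .leaf) 14 2 21 (.node .leaf 23 0 11 .leaf)) 8 1 13 (.node (.node (.node .leaf 8 0 3 .leaf) 20 1 14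
    .leaf) 2 4 2 (.node .leaf 6 0 3 .leaf)))) 1 3 3 (.node (.node (.node (.node (.node .leaf 7 0 8 .leaf) 9 2
    6 .leaf) 12 1 19 (.node .leaf 17 4 21 .leaf)) 6 3 11 (.node (.node (.node .leaf 13 0 4 .leaf) 19 2 15
    .leaf) 0 3 0 (.node .leaf 22 0 21 .leaf))) 4 2 7 (.node (.node (.node (.node .leaf 19 0 4 .leaf) 10 2 13
    .leaf) 15 3 23 (.node .leaf 15 0 6 .leaf)) 9 1 15 (.node (.node (.node .leaf 18 0 1 .leaf) 23 1 16 .leaf)
    4 1 3 (.node .leaf 21 3 18 .leaf))))))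

def t555S : List (ℕ × ℕ × List ℕ) :=
    [(0,0,[]), (0,0,[]), (0,0,[]), (0,0,[]), (0,0,[]), (0,0,[]), (0,0,[]), (0,0,[]), (0,0,[]), (0,0,[]),
    (0,0,[]), (0,0,[]), (0,0,[]), (0,0,[]), (0,0,[]), (0,0,[]), (0,0,[]), (0,0,[]), (0,0,[]), (0,0,[]),
    (0,0,[]), (0,0,[]), (0,0,[]), (0,0,[]), (1,0,[]), (1,0,[]), (1,0,[]), (11,2,[1,51,0]),
    (12,3,[3,1,49,0,2]), (13,2,[3,54,1,48,50,48,50,50,0,2]), (8,2,[5,2,6]), (10,8,[9,61,7,3,55,2,59,6,60,8]),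
    (10,3,[13,7,3,54,2,58,3,4,61,12]), (9,3,[13,7,59,6,12]), (11,2,[11,8,16]),
    (14,5,[21,11,5,1,53,0,4,10,20]), (11,2,[15,12,22]), (12,3,[19,11,61,14,24]),
    (13,2,[25,73,23,64,13,60,8,9,10,18]), (12,3,[29,17,63,16,28]), (8,2,[21,18,32]), (11,1,[35,70,34]),
    (13,7,[29,68,69,17,62,9,61,12,22,36]), (13,5,[37,72,24,77,76,74,19,69,28,85]), (8,2,[27,24,38]),
    (14,4,[43,27,15,7,56,6,14,26,42]), (8,2,[31,28,44]), (15,7,[47,31,17,9,5,1,50,53,0,55,4,10,69,30]),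
    (9,3,[35,21,69,30,46]), (10,8,[47,93,45,29,68,18,76,38,88,40]),
    (16,3,[98,47,31,17,62,9,5,1,48,50,52,0,2,58,6,14,24,77,32]),
    (15,11,[33,75,77,32,100,41,27,15,12,67,22,72,26,42]), (12,5,[70,81,100,98,95,93]), (3,0,[80,105,92]),
    (5,0,[20,105,45]), (4,0,[47,106,103]), (5,0,[30,106,33]), (6,0,[95,106,100]), (2,0,[114,111]),
    (4,0,[68,109,85]), (6,0,[10,109,79,108]), (2,0,[117,110]), (5,0,[97,122]), (3,0,[60,121,18,112]),
    (2,0,[127,113]), (4,0,[13,129,76]), (6,0,[15,129,75,130]), (5,0,[125,117,91,116]), (2,0,[135,117]),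
    (6,0,[82,137,43]), (2,0,[127,119]), (6,0,[15,141,87,140]), (2,0,[142,133]), (2,0,[145,132]),
    (2,0,[145,131]), (3,0,[61,149,25,146]), (2,0,[151,147]), (5,0,[4,153,26]), (2,0,[155,138]),
    (6,0,[0,157,83,156]), (6,0,[0,158])]

def t555R : List (ℕ × List ℕ) :=
    [(0,[49,51,53,161])]

theorem t555C : check id (rl [w1 5, w2 5, w3 5]) [1,2,3] [1,2,3,4] t555F t555S t555R = true := by decide +kernel

/-- All relators of a list hold. -/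
def Rel (a b c d : G) (l : List (List ℕ)) : Prop := ∀ r ∈ l, ev a b c d r = 1

instance {A : Type*} [Group A] [DecidableEq A] (a b c d : A) (l : List (List ℕ)) :
    Decidable (Rel a b c d l) := by unfold Rel; infer_instance

theorem ev_replicate (a b c d : G) (w : List ℕ) (k : ℕ) :
    ev a b c d (List.replicate k w).flatten = ev a b c d w ^ k := by
  induction k with
  | zero => simp [ev]
  | succ k ih =>
    rw [List.replicate_succ, List.flatten_cons, pow_succ', ← ih]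
    simp [ev]

theorem ev_w1 (a b c d : G) (k : ℕ) : ev a b c d (w1 k) = (c * d) ^ k := by
  rw [w1, ev_replicate]; simp [ev, gn]

theorem ev_w2 (a b c d : G) (k : ℕ) : ev a b c d (w2 k) = (c * (d * b)) ^ k := by
  rw [w2, ev_replicate]; simp [ev, gn]

theorem ev_w3 (a b c d : G) (k : ℕ) : ev a b c d (w3 k) = (a * (b * (c * d))) ^ k := by
  rw [w3, ev_replicate]; simp [ev, gn]

theorem Rel.extra {a b c d : G} (h : Rel a b c d (rl [])) {l : List (List ℕ)} (hl : Rel a b c d l) :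
    Rel a b c d (rl l) := by
  intro r hr
  rcases List.mem_append.mp hr with h1 | h1
  · exact h r (List.mem_append_left _ h1)
  · exact hl r h1

theorem Rel.prod {A : Type*} [Group A] {a b c d : G} {a' b' c' d' : A} {l : List (List ℕ)}
    (h : Rel a b c d l) (h' : Rel a' b' c' d' l) : Rel (a, a') (b, b') (c, c') (d, d') l := by
  have key : ∀ w, ev (a, a') (b, b') (c, c') (d, d') w = (ev a b c d w, ev a' b' c' d' w) := by
    intro w
    induction w with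
    | nil => rfl
    | cons i w ih =>
      have : gn (a, a') (b, b') (c, c') (d, d') i = (gn a b c d i, gn a' b' c' d' i) := by
        unfold gn; split <;> rfl
      simp only [ev, List.map_cons, List.prod_cons] at ih ⊢
      rw [ih, this]; rfl
  intro r hr
  rw [key, h r hr, h' r hr]; rfl

theorem Rel.inv {a b c d : G} {l : List (List ℕ)} (h : Rel a b c d (rl l)) (i : ℕ) :
    gn a b c d (id i) = (gn a b c d i)⁻¹ := by
  have h1 := h [1,1] (by simp [rl])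
  have h2 := h [2,2] (by simp [rl])
  have h3 := h [3,3] (by simp [rl])
  have h4 := h [4,4] (by simp [rl])
  simp only [ev, gn, List.map_cons, List.map_nil, List.prod_cons, List.prod_nil, mul_one] at h1 h2 h3 h4
  rw [id, eq_inv_iff_mul_eq_one]
  unfold gn; split <;> simp [*]

theorem card_le {a b c d : G} {l : List (List ℕ)} (h : Rel a b c d (rl l)) {F : Tr}
    {S : List (ℕ × ℕ × List ℕ)} {R : List (ℕ × List ℕ)}
    (hc : check id (rl l) [1,2,3] [1,2,3,4] F S R = true) :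
    Finite (closure {x | x ∈ [a, b, c, d]}) ∧
      Nat.card (closure {x | x ∈ [a, b, c, d]}) ≤ R.length * 24 := by
  obtain ⟨h1, h2⟩ := card_closure_le (gen := gn a b c d) (H := ⊥) rfl h.inv (rels := rl3)
    (fun r hr => h r (List.mem_append_left _ (by revert r; decide))) (by simp) (by simp) tPC
  obtain ⟨h3, h4⟩ := card_closure_le (gen := gn a b c d)
    (H := closure {x | x ∈ [1,2,3].map (gn a b c d)}) rfl h.inv h
    (fun g hg => subset_closure (List.mem_map_of_mem hg)) (by simp) hc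
  refine ⟨h3, h4.trans (Nat.mul_le_mul_left _ ?_)⟩
  rw [card_bot] at h2
  exact h2

theorem exists_equiv [Finite G] [IsSimpleGroup G] {A : Type*} [Group A] [Finite A] {a b c d : G}
    {a' b' c' d' : A} {l : List (List ℕ)} (h : Rel a b c d (rl l)) (h' : Rel a' b' c' d' (rl l))
    (hgen : closure {x | x ∈ [a, b, c, d]} = ⊤) (ha : a' ≠ 1) {F : Tr}
    {S : List (ℕ × ℕ × List ℕ)} {R : List (ℕ × List ℕ)}
    (hc : check id (rl l) [1,2,3] [1,2,3,4] F S R = true) (hG : Nat.card G = R.length * 24)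
    (hA : Nat.card A = R.length * 24) : Nonempty (G ≃* A) := by
  obtain ⟨f, hf⟩ := exists_hom [(a, a'), (b, b'), (c, c'), (d, d')] hgen
    (hG ▸ card_le (h.prod h') hc)
  have hinj : Function.Injective f := by
    rw [← MonoidHom.ker_eq_bot_iff]
    refine (IsSimpleGroup.eq_bot_or_eq_top_of_normal f.ker inferInstance).resolve_right fun ht => ha ?_
    have h1 : a ∈ f.ker := ht ▸ mem_top a
    exact (hf (a, a') (by simp)).symm.trans h1
  exact ⟨MulEquiv.ofBijective f (hinj.bijective_of_nat_card_le (by rw [hG, hA]))⟩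

theorem card_SL3 : Nat.card (Matrix.SpecialLinearGroup (Fin 3) (ZMod 2)) = 168 := by
  have h := LinearOrders.card_SL_mul (F := ZMod 2) (n := Fin 3)
  rw [Matrix.card_GL_field, ZMod.card] at h
  simpa [Fin.prod_univ_three] using h

theorem card_A6 : Nat.card (alternatingGroup (Fin 6)) = 360 := by
  have h := two_mul_nat_card_alternatingGroup (α := Fin 6)
  rw [Nat.card_perm, Nat.card_fin] at h
  have : Nat.factorial 6 = 720 := rfl
  omega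

def mA : Matrix.SpecialLinearGroup (Fin 3) (ZMod 2) := ⟨!![0,0,1; 0,1,0; 1,0,0], by decide⟩
def mB : Matrix.SpecialLinearGroup (Fin 3) (ZMod 2) := ⟨!![0,1,0; 1,0,0; 1,1,1], by decide⟩
def mC : Matrix.SpecialLinearGroup (Fin 3) (ZMod 2) := ⟨!![0,1,1; 0,1,0; 1,1,0], by decide⟩
def mD : Matrix.SpecialLinearGroup (Fin 3) (ZMod 2) := ⟨!![1,0,0; 0,1,0; 1,1,1], by decide⟩
def mD' : Matrix.SpecialLinearGroup (Fin 3) (ZMod 2) := ⟨!![0,1,0; 1,0,0; 0,0,1], by decide⟩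

theorem rel34 : Rel mA mB mC mD (rl [w1 3, w2 4]) := by decide +kernel
theorem rel43 : Rel mA mB mC mD' (rl [w1 4, w2 3]) := by decide +kernel

def pA : alternatingGroup (Fin 6) := ⟨Equiv.swap 2 3 * Equiv.swap 4 5,
  Equiv.Perm.mem_alternatingGroup.mpr (by decide)⟩
def pB : alternatingGroup (Fin 6) := ⟨Equiv.swap 0 1 * Equiv.swap 3 4,
  Equiv.Perm.mem_alternatingGroup.mpr (by decide)⟩
def pC : alternatingGroup (Fin 6) := ⟨Equiv.swap 0 1 * Equiv.swap 4 5,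
  Equiv.Perm.mem_alternatingGroup.mpr (by decide)⟩
def pD : alternatingGroup (Fin 6) := ⟨Equiv.swap 0 3 * Equiv.swap 1 4,
  Equiv.Perm.mem_alternatingGroup.mpr (by decide)⟩

theorem rel554 : Rel pA pB pC pD (rl [w1 5, w2 5, w3 4]) := by decide +kernel

theorem rel2 {a b c d : G} (h : Rel a b c d (rl [])) {k l : ℕ} (h1 : (c * d) ^ k = 1)
    (h2 : (c * (d * b)) ^ l = 1) : Rel a b c d (rl [w1 k, w2 l]) := by
  refine h.extra fun r hr => ?_
  simp only [List.mem_cons, List.not_mem_nil, or_false] at hr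
  rcases hr with rfl | rfl
  · rwa [ev_w1]
  · rwa [ev_w2]

theorem rel3 {a b c d : G} (h : Rel a b c d (rl [])) {k l m : ℕ} (h1 : (c * d) ^ k = 1)
    (h2 : (c * (d * b)) ^ l = 1) (h3 : (a * (b * (c * d))) ^ m = 1) :
    Rel a b c d (rl [w1 k, w2 l, w3 m]) := by
  refine h.extra fun r hr => ?_
  simp only [List.mem_cons, List.not_mem_nil, or_false] at hr
  rcases hr with rfl | rfl | rfl
  · rwa [ev_w1]
  · rwa [ev_w2]
  · rwa [ev_w3]

theorem card_le' {a b c d : G} {l : List (List ℕ)} (h : Rel a b c d (rl l))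
    (hgen : closure {x | x ∈ [a, b, c, d]} = ⊤) {F : Tr}
    {S : List (ℕ × ℕ × List ℕ)} {R : List (ℕ × List ℕ)}
    (hc : check id (rl l) [1,2,3] [1,2,3,4] F S R = true) : Nat.card G ≤ R.length * 24 := by
  have := (card_le h hc).2
  rwa [hgen, card_top] at this

/-- Recognition of `SL₃(2)`. -/
theorem equiv_SL3 [Finite G] [IsSimpleGroup G] {a b c d : G} (h : Rel a b c d (rl []))
    (hgen : closure {x | x ∈ [a, b, c, d]} = ⊤) (hG : Nat.card G = 168)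
    (h1 : (c * d) ^ 3 = 1 ∨ (c * d) ^ 4 = 1) (h2 : (c * (d * b)) ^ 3 = 1 ∨ (c * (d * b)) ^ 4 = 1) :
    Nonempty (G ≃* Matrix.SpecialLinearGroup (Fin 3) (ZMod 2)) := by
  rcases h1 with h1 | h1 <;> rcases h2 with h2 | h2
  · exact absurd (card_le' (rel2 h h1 h2) hgen t33C) (by rw [hG]; decide)
  · exact exists_equiv (rel2 h h1 h2) rel34 hgen (by decide) t34C hG card_SL3
  · exact exists_equiv (rel2 h h1 h2) rel43 hgen (by decide) t43C hG card_SL3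
  · exact absurd (card_le' (rel2 h h1 h2) hgen t44C) (by rw [hG]; decide)

/-- Recognition of `A₆`. -/
theorem equiv_A6 [Finite G] [IsSimpleGroup G] {a b c d : G} (h : Rel a b c d (rl []))
    (hgen : closure {x | x ∈ [a, b, c, d]} = ⊤) (hG : Nat.card G = 360)
    (ho : ∀ g : G, g ^ 3 = 1 ∨ g ^ 4 = 1 ∨ g ^ 5 = 1) :
    Nonempty (G ≃* alternatingGroup (Fin 6)) := by
  rcases ho (c * d) with h1 | h1 | h1 <;> rcases ho (c * (d * b)) with h2 | h2 | h2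
  · exact absurd (card_le' (rel2 h h1 h2) hgen t33C) (by rw [hG]; decide)
  · exact absurd (card_le' (rel2 h h1 h2) hgen t34C) (by rw [hG]; decide)
  · exact absurd (card_le' (rel2 h h1 h2) hgen t35C) (by rw [hG]; decide)
  · exact absurd (card_le' (rel2 h h1 h2) hgen t43C) (by rw [hG]; decide)
  · exact absurd (card_le' (rel2 h h1 h2) hgen t44C) (by rw [hG]; decide)
  · exact absurd (card_le' (rel2 h h1 h2) hgen t45C) (by rw [hG]; decide)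
  · exact absurd (card_le' (rel2 h h1 h2) hgen t53C) (by rw [hG]; decide)
  · exact absurd (card_le' (rel2 h h1 h2) hgen t54C) (by rw [hG]; decide)
  · rcases ho (a * (b * (c * d))) with h3 | h3 | h3
    · exact absurd (card_le' (rel3 h h1 h2 h3) hgen t553C) (by rw [hG]; decide)
    · exact exists_equiv (rel3 h h1 h2 h3) rel554 hgen (by decide) t554C hG card_A6
    · exact absurd (card_le' (rel3 h h1 h2 h3) hgen t555C) (by rw [hG]; decide)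

end Cfsg.Agent.Lib.D8Amalg
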