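import Cfsg.Agent.Lib.DCE2

/-! Further tools for the double coset certificates. -/

set_option autoImplicit false

namespace Cfsg.Agent.Lib.DCE

open Cfsg.Agent.Lib.PermNet Cfsg.Agent.Lib.Words Cfsg.Agent.Lib.PermGroup

theorem Dat.OK.le_card {d : Dat} (h : d.OK) (hf : Finite (gp d.nets.perm (sing d.n0))) :
    d.T ≤ Nat.card (gp d.nets.perm (sing d.n0)) := by
  have hl := h.light
  simp only [Dat.lightB, Bool.and_eq_true, decide_eq_true_eq] at hl
  obtain ⟨⟨⟨⟨⟨⟨⟨⟨⟨⟨⟨⟨⟨⟨⟨l1, l2⟩, l3⟩, -⟩, -⟩, -⟩, -⟩, -⟩, -⟩, l10⟩, -⟩, -⟩, -⟩, -⟩, -⟩, -⟩ := hl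
  have hπ := pi_ZZ d.nets.perm d.nets d.n0 d.defs h.hdefs (by simpa using l3)
  have := chainB_sound (good_of_tabB h.hv hπ l1 l10 fun l hl => h.tab l (Nat.zero_le _) hl)
    (A := gp d.nets.perm (sing d.n0)) (fun w => pi_range d.nets.perm d.nets d.n0 ▸ ⟨_, rfl⟩)
    d.chH [] h.cH
  rw [fixer_nil] at this
  exact ((mul_one _).ge.trans (Nat.mul_le_mul l2.2.2.2.2.1 (one_le_card_fixer _))).trans this

/-- New relators one after the other: `x` is a relator as soon as two coprime powers are. -/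
def killB (I : List ℕ) (goal : List (List ℕ)) : List (List ℕ) →
    List (List ℕ × ℕ × List (List ℕ × ℕ) × ℕ × List (List ℕ × ℕ)) → Bool
  | K, [] => goal.all K.contains
  | K, (x, n, c, m, e) :: rest => derivP I K [rep n x, rep m x] [c, e] && (Nat.gcd n m == 1) &&
      killB I goal (K ++ [x]) rest

theorem one_of_killB {G : Type*} [Group G] {f : ℕ → G} (I : List ℕ) (goal : List (List ℕ))
    (steps : List (List ℕ × ℕ × List (List ℕ × ℕ) × ℕ × List (List ℕ × ℕ))) {K : List (List ℕ)}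
    (hK : ∀ w ∈ K, wval f w = 1) (h : killB I goal K steps = true) : ∀ w ∈ goal, wval f w = 1 := by
  induction steps generalizing K with
  | nil =>
    simp only [killB, List.all_eq_true, List.contains_iff_mem] at h
    exact fun w hw => hK w (h w hw)
  | cons a steps ih =>
    obtain ⟨x, n, c, m, e⟩ := a
    simp only [killB, Bool.and_eq_true, beq_iff_eq] at h
    obtain ⟨⟨h1, h2⟩, h3⟩ := h
    have h1 := deriveP I hK _ _ h1
    refine ih (all_append hK fun w hw => ?_) h3
    rw [List.mem_singleton.1 hw]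
    have := pow_gcd_eq_one.2 ⟨(wval_rep f n x).symm.trans (h1 _ (by simp)),
      (wval_rep f m x).symm.trans (h1 _ (by simp))⟩
    rwa [h2, pow_one] at this

theorem le_of_killB {G : Type*} [Group G] {f : ℕ → G} {K : List (List ℕ)}
    (hK : ∀ w ∈ K, wval f w = 1) (I : List ℕ) (gs goal : List (List ℕ))
    (steps : List (List ℕ × ℕ × List (List ℕ × ℕ) × ℕ × List (List ℕ × ℕ)))
    (h : killB I goal (K ++ gs) steps = true) (M : Subgroup G) (hM : M.Normal)
    (hg : ∀ w ∈ gs, wval f w ∈ M) : gp f goal ≤ M := by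
  have e : ∀ w, wval (fun i => QuotientGroup.mk' M (f i)) w = 1 ↔ wval f w ∈ M := fun w => by
    rw [← map_wval]; exact QuotientGroup.eq_one_iff _
  exact gp_le.2 fun w hw => (e w).1 (one_of_killB I goal steps (all_append
    (fun w hw => (e w).2 (hK w hw ▸ one_mem M)) fun w hw => (e w).2 (hg w hw)) h w hw)

/-- Simplicity from a maximal core-free subgroup, with all elements of order `q` at hand. -/
theorem simple_of_kill {G : Type*} [Group G] [Finite G] {f : ℕ → G} {K : List (List ℕ)}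
    (hK : ∀ w ∈ K, wval f w = 1) {H : Subgroup G} (hco : IsCoatom H)
    (hcore : ∀ M : Subgroup G, M.Normal → M ≤ H → M = ⊥) {q : ℕ} (hq : q.Prime)
    (hqH : ¬ q ∣ Nat.card H) (I : List ℕ) (gs goal : List (List ℕ)) (htop : gp f goal = ⊤)
    (hg : ∀ w ∈ gs, wval f w ^ q = 1)
    (steps : List (List ℕ × ℕ × List (List ℕ × ℕ) × ℕ × List (List ℕ × ℕ)))
    (h : killB I goal (K ++ gs) steps = true) : IsSimpleGroup G :=
  isSimpleGroup_of hco hcore hq hqH fun M hM hp => eq_top_iff.2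
    (htop ▸ le_of_killB hK I gs goal steps h M hM fun w hw => hp _ (hg w hw))

end Cfsg.Agent.Lib.DCE
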