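import Cfsg.Agent.Lib.DCE3

/-! A simple permutation model is isomorphic to every non-trivial solution of its relators. -/

set_option autoImplicit false

namespace Cfsg.Agent.Lib.DCE

open Cfsg.Agent.Lib.PermNet Cfsg.Agent.Lib.Words Cfsg.Agent.Lib.PermGroup

variable {G : Type*} [Group G] (f : ℕ → G) (nets : NL) (n0 : ℕ) (defs : List (List ℕ))

theorem val_ZZ {w : List ℕ} (hw : w.all (fun l => decide (l < 2 * n0)) = true) :
    (wval (ZZ f nets n0 defs) w).1 = wval (fun i => (f i, nets.perm i)) w := by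
  refine (map_wval (WW f nets n0).subtype _ w).trans ?_
  refine wval_congr (n := n0) (fun i hi => ?_) (by simpa using hw)
  rw [ZZ, ext_of_lt _ _ hi, dif_pos hi]; rfl

theorem top_ZZ : gp (ZZ f nets n0 defs) (sing n0) = ⊤ := by
  refine Subgroup.map_injective (WW f nets n0).subtype_injective ?_
  rw [← MonoidHom.range_eq_map, Subgroup.range_subtype, map_gp]
  unfold gp
  congr 1
  ext g
  refine exists_congr fun w => and_congr_right fun hw => ?_
  obtain ⟨i, hi, rfl⟩ := List.mem_map.1 hw
  rw [wval_single, wval_single, ZZ, ext_of_lt _ _ (List.mem_range.1 hi), dif_pos (List.mem_range.1 hi)]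
  rfl

theorem rels_ZZ {K : List (List ℕ)} (h1 : ∀ w ∈ K, wval f w = 1)
    (h2 : ∀ w ∈ K, wval nets.perm w = 1)
    (h : K.all (fun w => w.all (fun l => decide (l < 2 * n0))) = true) :
    ∀ w ∈ K, wval (ZZ f nets n0 defs) w = 1 := fun w hw =>
  Subtype.ext ((val_ZZ f nets n0 defs (List.all_eq_true.1 h w hw)).trans (rels_pair h1 h2 w hw))

theorem equiv_of_simple (hs : IsSimpleGroup (WW f nets n0))
    (hπ : ∀ g, pi' f nets n0 g = 1 → g = 1) {i : ℕ} (hi : i < n0) (hne : f i ≠ 1) :
    Nonempty (gp f (sing n0) ≃* gp nets.perm (sing n0)) := by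
  have h1 : Function.Injective (psi f nets n0) := by
    rw [← MonoidHom.ker_eq_bot_iff]
    refine (IsSimpleGroup.eq_bot_or_eq_top_of_normal _ inferInstance).resolve_right fun e => hne ?_
    exact (e ▸ Subgroup.mem_top _ :
      (⟨_, mem_sing (fun i => (f i, nets.perm i)) hi⟩ : WW f nets n0) ∈ (psi f nets n0).ker)
  have h2 : Function.Injective (pi' f nets n0) := (injective_iff_map_eq_one _).2 hπ
  rw [← psi_range f nets, ← pi_range f nets]
  exact ⟨(MonoidHom.ofInjective h1).symm.trans (MonoidHom.ofInjective h2)⟩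

end Cfsg.Agent.Lib.DCE
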