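import Cfsg.Agent.Lib.DCE4

/-! A level of a stabiliser chain whose orbit contains an interval. -/

set_option autoImplicit false

namespace Cfsg.Agent.Lib.DCE

open Cfsg.Agent.Lib.PermNet Cfsg.Agent.Lib.Words Cfsg.Agent.Lib.PermGroup

theorem le_card_fixerI {N : ℕ} {nets : NL} (hv : nets.Valid N) {A : Subgroup (Equiv.Perm ℕ)}
    [Finite A] (ws : List (List ℕ)) (hws : ∀ w ∈ ws, wval nets.perm w ∈ A) (bs : List ℕ) (b : ℕ)
    (seq : List ℕ) (lo n : ℕ)
    (h : band (fixPtsB nets ws bs) (subB (ivl lo n) (grow nets ws seq (pt b))) = true) {m : ℕ}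
    (hm : m ≤ Nat.card (fixer A (b :: bs))) : n * m ≤ Nat.card (fixer A bs) := by
  obtain ⟨h1, h2⟩ := band_eq h
  have hws' : ∀ w ∈ ws, wval nets.perm w ∈ fixer A bs := fun w hw =>
    ⟨hws w hw, fix_of_fixPtsB hv h1 w hw⟩
  have ho := (inOrb_pt (fixer A bs) b).grow hv hws' seq
  have := finite_fixer (A := A) bs
  rw [card_fixer bs b]
  refine Nat.mul_le_mul ?_ hm
  have e : n = (Set.Ico lo (lo + n)).ncard := by simp
  rw [e]
  refine Set.ncard_le_ncard (fun i hi => ?_) (Set.finite_range _)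
  obtain ⟨g, hg, e⟩ := ho i (testBit_of_subB h2 (by rw [testBit_ivl]; simpa using hi))
  exact ⟨⟨g, hg⟩, e⟩

end Cfsg.Agent.Lib.DCE
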