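import Cfsg.Agent.Lib.DCE6

/-! The double cosets named by a certificate cover the group. -/

set_option autoImplicit false

namespace Cfsg.Agent.Lib.DCE

open Cfsg.Agent.Lib.PermNet Cfsg.Agent.Lib.Words Cfsg.Agent.Lib.PermGroup

namespace Dat

theorem OK'.cover {d : Dat} {m0 : ℕ} {cws : List (List (List ℕ))} (h : d.OK' m0 cws) {G : Type*} [Group G] (f : ℕ → G)
    (hR : ∀ w ∈ d.R, wval f w = 1) (htop : gp f (sing (d.n0 + 1)) = ⊤)
    (hub : Nat.card (WW f d.nets d.n0) ≠ 0 ∧ Nat.card (WW f d.nets d.n0) ≤ d.T)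
    (hX0 : d.XW.all (fun l => l.all fun w => w.all fun c => decide (c < 2 * d.n0)) = true) (g : G) :
    ∃ j < d.n, ∃ s ∈ gp f (sing d.n0), ∃ s' ∈ gp f (sing d.n0),
      g = s * (((getD [] d.XW (getD 0 d.live j)).map fun a => wval f a * f d.n0).prod)⁻¹ * s' := by
  have hl := h.light
  simp only [lightB', Bool.and_eq_true, decide_eq_true_eq] at hl
  obtain ⟨⟨⟨⟨⟨⟨⟨⟨⟨⟨⟨⟨⟨⟨⟨l1, l2⟩, l3⟩, l4⟩, l5⟩, l6⟩, l7⟩, l8⟩, l9⟩, l10⟩, l11⟩, l12⟩, l13⟩, l14⟩,
    l15⟩, l16⟩ := hl
  obtain ⟨m1, m2, m3, m4, m5, m6, m7⟩ := l2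
  set ψ := psi f d.nets d.n0 with hψ
  set π := pi' f d.nets d.n0 with hπd
  set Z := ZZ f d.nets d.n0 d.defs with hZ
  have hfin : Finite (WW f d.nets d.n0) := Nat.finite_of_card_ne_zero hub.1
  have hπ : ∀ i, π (Z i) = d.nets.perm i :=
    pi_ZZ f d.nets d.n0 d.defs h.hdefs (by simpa using l3)
  have hπw : ∀ w, π (wval Z w) = wval d.nets.perm w := fun w => map_wval' hπ w
  have gH : Good π d.nS d.wb d.mask d.tH Z :=
    good_of_tabB h.hv hπ l1 l10 fun l hl => h.tab l (Nat.zero_le _) hl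
  have gK : Good π d.nS d.wb d.mask d.tK (kfun Z d.k0 d.nK) := good_kfun gH l10 l11
  have gK' : Good π d.nS d.wb d.mask d.tK' (kfun Z (d.k0 + 1) d.nK) := good_kfun gH l10 l12
  have hword : ∀ x, ∃ w, π x = π (wval Z w) := fun x => by
    have : π x ∈ gp d.nets.perm (sing d.n0) := pi_range f d.nets d.n0 ▸ ⟨x, rfl⟩
    generalize π x = g at this
    induction this using Subgroup.closure_induction with
    | mem g hg => obtain ⟨w, -, rfl⟩ := hg; exact ⟨w, (hπw w).symm⟩
    | one => exact ⟨[], by simp⟩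
    | mul a b _ _ ha hb =>
      obtain ⟨u, rfl⟩ := ha
      obtain ⟨v, rfl⟩ := hb
      exact ⟨u ++ v, by rw [wval_append, map_mul]⟩
    | inv a _ ha => obtain ⟨u, rfl⟩ := ha; exact ⟨invW u, by rw [wval_invW, map_inv]⟩
  have hltS : ∀ x, ∀ p < d.nS, π x p < d.nS := fun x p hp => by
    obtain ⟨w, e⟩ := hword x
    rw [e]; exact gH.lt' w hp
  have hD : ∀ x, d.nS ≤ π x d.nS ∧ π x d.nS < d.N := fun x => by
    refine ⟨Nat.le_of_not_lt fun hh => ?_, ?_⟩
    · have := hltS x⁻¹ _ hh
      simp at this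
    · obtain ⟨w, e⟩ := hword x
      rw [e, hπw]; exact wval_lt h.hv w m1
  have hfr : Finite π.range := Finite.of_surjective _ π.rangeRestrict_surjective
  have hch := chainB_sound gH (A := π.range) (fun w => ⟨_, rfl⟩) d.chH [] h.cH
  rw [fixer_nil, List.append_nil] at hch
  have hcr : Nat.card π.range ≤ Nat.card (WW f d.nets d.n0) :=
    Nat.card_le_card_of_surjective _ π.rangeRestrict_surjective
  have hf1 := one_le_card_fixer (A := π.range) (d.chH.map Lev.b).reverse
  have hT : Nat.card (WW f d.nets d.n0) = d.T ∧ Nat.card π.range = d.T ∧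
      Nat.card (fixer π.range (d.chH.map Lev.b).reverse) ≤ 1 := by
    have a1 := Nat.mul_le_mul m5 hf1
    have a2 := Nat.mul_le_mul_right (Nat.card (fixer π.range (d.chH.map Lev.b).reverse)) m5
    refine ⟨by omega, by omega, Nat.le_of_mul_le_mul_left (c := d.T) ?_ (by omega)⟩
    omega
  have hπi : Function.Injective π := by
    have := ((Nat.bijective_iff_surjective_and_card π.rangeRestrict).2
      ⟨π.rangeRestrict_surjective, by omega⟩).1
    exact fun a b e => this (Subtype.ext e)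
  have faith : ∀ x, (∀ b ∈ d.B, π x b = b) → x = 1 := fun x hx => by
    have := finite_fixer (A := π.range) (d.chH.map Lev.b).reverse
    have hs := Finite.card_le_one_iff_subsingleton.1 hT.2.2
    have := hs.elim ⟨π x, ⟨x, rfl⟩, fun b hb => hx b (List.mem_reverse.1 hb)⟩ 1
    exact hπi (by rw [map_one]; exact congrArg Subtype.val this)
  have hpair := pair_of_pairB f d.nets d.n0 d.defs hR l3.1 l8
  have C : Ctx ψ π Z (kfun Z d.k0 d.nK) (kfun Z (d.k0 + 1) d.nK) (f d.n0) d.nS d.wb d.mask d.tH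
      d.tK d.tK' d.B := ⟨gH, gK, gK', hltS, by simpa using l5, faith, hpair⟩
  have hrev : (f d.n0)⁻¹ = wval f d.u * f d.n0 * wval f d.v := by
    have := hR _ (List.contains_iff_mem.1 l7.2)
    rw [wval_append, wval_cons, wval_append, wval_single, lval, if_pos (by omega),
      show 2 * d.n0 / 2 = d.n0 by omega, ← mul_assoc, ← mul_assoc] at this
    exact (eq_inv_of_mul_eq_one_left this).symm
  have hTM := tmOK_of_tmB f d.nets d.n0 d.defs hrev hR d.TM d.tc l9
  have hq : ∀ x, ψ x • ((1 : G) : G ⧸ ψ.range) = ((1 : G) : G ⧸ ψ.range) :=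
    fun x => smul_one_eq.2 ⟨x, rfl⟩
  have hX : getD [] d.XW 0 = [] := by simpa using l6.1
  set q := node ψ Z (f d.n0) d.XW ((1 : G) : G ⧸ ψ.range) with hqd
  have hV : ∀ c < d.nF, V ψ Z (f d.n0) q (d.F.get c) := fun c => by
    induction c using Nat.strong_induction_on with | _ c ih => ?_
    intro hc
    obtain ⟨e, he⟩ := h.facts c (Nat.zero_le _) hc
    exact C.checkF_sound hq hX hTM (fun x hx => ih x hx (hx.trans hc)) e he
  have hlen : ∀ i < d.n, (getD [] d.rows i).length = d.n := fun i hi => by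
    have := AllIdx.get (P := fun _ r => r.length = d.n) [] (l := d.rows) (j0 := 0) (by
      generalize d.rows = l at l4
      generalize 0 = j
      induction l generalizing j with
      | nil => trivial
      | cons a l ih =>
        rw [List.all_cons, Bool.and_eq_true] at l4
        exact ⟨by simpa using l4.1, ih l4.2 _⟩) (j := i) (by omega)
    exact this
  have hrow := fun i (hi : i < d.n) => rowB_sound _ _ _
    (by simpa using h.row.get [] (j := i) (by omega) :
      rowB d.N (ivl d.nS (d.N - d.nS)) (getD [] d.rows i) (getD [] d.cs i) 0 = true)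
  set D : ℕ → ℕ → Finset ℕ := fun i j =>
    (Finset.range d.N).filter fun p => (getD 0 (getD [] d.rows i) j).testBit p = true with hDd
  have hc : ∀ i < d.n, ∀ j < d.n, (D i j).card = getD 0 (getD [] d.cs i) j :=
    fun i hi j hj => ((hrow i hi).2 j (by rw [hlen i hi]; exact hj)).1
  have hedge : ∀ i < d.n, ∀ j < d.n, ∀ p ∈ D i j, ∃ a b, π a d.nS = p ∧
      (ψ a * f d.n0 * ψ b) • q (getD 0 d.live j) = q (getD 0 d.live i) := by
    intro i hi j hj p hp
    have := (h.cov.get [] (j := i) (by omega)).get 0 (j := j) (by rw [hlen i hi]; exact hj)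
    rw [zero_add, zero_add] at this
    refine this (fun p => ∃ a b, π a d.nS = p ∧
      (ψ a * f d.n0 * ψ b) • q (getD 0 d.live j) = q (getD 0 d.live i)) (fun c hc e1 e2 e3 => ?_)
      (fun c hc e1 e2 e3 p hp => ?_) p (Finset.mem_filter.1 hp).2
    · exact ⟨_, _, by rw [hπw], e2 ▸ e3 ▸ (hV c hc).1 e1⟩
    · obtain ⟨a, b, e4, e5⟩ := hp
      have e6 := (hV c hc).2 e1
      rw [e2, e3] at e6
      refine ⟨(wval Z (d.F.get c).a)⁻¹ * a, b, ?_, ?_⟩
      · rw [map_mul, Equiv.Perm.mul_apply, e4, map_inv, hπw]; simp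
      · rw [map_mul, mul_assoc, mul_assoc, mul_smul, ← mul_assoc, e5, map_inv, inv_smul_eq_iff, e6]
  have hstab : ∀ x, π x d.nS = d.nS → x ∈ gp (kfun Z d.k0 d.nK) (sing d.nK) := by
    classical
    have := Fintype.ofFinite (WW f d.nets d.n0)
    let St : Subgroup (WW f d.nets d.n0) := (fixer ⊤ [d.nS]).comap π
    have hSt : ∀ x, x ∈ St ↔ π x d.nS = d.nS := fun x => by simp [St, fixer]
    have hle : gp (kfun Z d.k0 d.nK) (sing d.nK) ≤ St := gp_le.2 fun w hw => by
      obtain ⟨j, hj, rfl⟩ := List.mem_map.1 hw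
      have := fix_of_fixB h.hv l13 _ (List.mem_map.2 ⟨j, hj, rfl⟩) d.nS
      rw [hSt, wval_single, kfun, if_pos (List.mem_range.1 hj), hπ]
      simpa [testBit_pt, wval_single] using this
    have a1 := card_pre (fun a => π a d.nS)
      (fun a b c e => by simp only [map_mul, Equiv.Perm.mul_apply, e]) (D 0 1) (fun x hx => by
        obtain ⟨a, -, e, -⟩ := hedge 0 (by omega) 1 m2 x hx
        exact ⟨a, e⟩)
    have a2 : (Finset.univ.filter fun a => π a d.nS = π 1 d.nS).card = Nat.card St := by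
      rw [Nat.card_eq_fintype_card, Fintype.card_subtype]
      congr 1
      ext x; simp [hSt]
    have a3 := Finset.card_le_univ (Finset.univ.filter fun a => π a d.nS ∈ D 0 1)
    rw [a1, a2, hc 0 (by omega) 1 m2, ← Nat.card_eq_fintype_card, hT.1] at a3
    have hfk : Finite ((gp (kfun Z d.k0 d.nK) (sing d.nK)).map π) :=
      Finite.of_surjective _ (π.subgroupMap_surjective _)
    have a4 := chainB_sound gK (A := (gp (kfun Z d.k0 d.nK) (sing d.nK)).map π)
      (fun w => ⟨_, wval_mem fun l _ => by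
        by_cases hl : l / 2 < d.nK
        · exact mem_sing _ hl
        · rw [kfun, if_neg hl]; exact one_mem _, rfl⟩) d.chK [] h.cK
    rw [fixer_nil] at a4
    have a5 := (Nat.mul_le_mul_left _ (one_le_card_fixer _)).trans a4
    have a6 : Nat.card ((gp (kfun Z d.k0 d.nK) (sing d.nK)).map π) ≤
        Nat.card (gp (kfun Z d.k0 d.nK) (sing d.nK)) := Nat.card_le_card_of_surjective _
      (π.subgroupMap_surjective (gp (kfun Z d.k0 d.nK) (sing d.nK)))
    have a7 : Nat.card St ≤ Nat.card (gp (kfun Z d.k0 d.nK) (sing d.nK)) := by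
      refine Nat.le_of_mul_le_mul_left (c := d.N - d.nS) ?_ (by omega)
      exact ((Nat.mul_le_mul_right _ m7).trans (a3.trans m4)).trans
        (Nat.mul_le_mul_left _ (((mul_one _).ge.trans a5).trans a6))
    intro x hx
    rw [Subgroup.eq_of_le_of_card_ge hle a7, hSt]; exact hx
  have S : Sys ψ π (f d.n0) d.nS d.n (fun i => q (getD 0 d.live i)) D := by
    refine ⟨fun x hx => ?_, ?_, m2, ?_, ⟨wval Z d.u, wval Z d.v, ?_⟩, hedge, fun i hi a => ?_,
      fun i hi j hj k hk e => ?_⟩
    · have := hstab x hx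
      clear hx
      induction this using Subgroup.closure_induction with
      | mem g hg => obtain ⟨w, -, rfl⟩ := hg; exact ⟨_, C.pairW w⟩
      | one => exact ⟨1, by simp⟩
      | mul a b _ _ ha hb =>
        obtain ⟨u, hu⟩ := ha
        obtain ⟨v, hv⟩ := hb
        exact ⟨u * v, by rw [map_mul, map_mul, mul_assoc, hv, ← mul_assoc, hu, mul_assoc]⟩
      | inv a _ ha =>
        obtain ⟨u, hu⟩ := ha
        exact ⟨u⁻¹, by rw [map_inv, map_inv, inv_mul_eq_iff_eq_mul, ← mul_assoc, hu]; simp⟩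
    · have : getD 0 d.live 0 = 0 := by simpa using l6.2
      simp only [this]
      exact node_zero hX
    · rw [eq_top_iff, ← htop]
      refine gp_le.2 fun w hw => Subgroup.subset_closure ?_
      obtain ⟨i, hi, rfl⟩ := List.mem_map.1 hw
      rw [wval_single]
      rcases Nat.lt_succ_iff_lt_or_eq.1 (List.mem_range.1 hi) with hi | rfl
      · right
        have : f i ∈ ψ.range := psi_range f d.nets d.n0 ▸ mem_sing f hi
        exact this
      · exact Or.inl rfl
    · rw [psi_wval _ _ _ _ l7.1.1, psi_wval _ _ _ _ l7.1.2]; exact hrev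
    · have := (hrow i hi).1 (π a d.nS) (by
        rw [testBit_ivl]; have := hD a; simp only [decide_eq_true_eq]; omega)
      rcases this with h' | ⟨j, hj, h'⟩
      · simp at h'
      · exact ⟨j, by rwa [hlen i hi] at hj,
          Finset.mem_filter.2 ⟨Finset.mem_range.2 (hD a).2, h'⟩⟩
    · refine Finset.disjoint_left.2 fun p h1 h2 => ?_
      have h1 := (Finset.mem_filter.1 h1).2
      have h2 := (Finset.mem_filter.1 h2).2
      rcases Nat.lt_or_gt_of_ne e with e | e
      · rw [(((hrow i hi).2 k (by rw [hlen i hi]; exact hk)).2 p h2).2 j e] at h1; cases h1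
      · rw [(((hrow i hi).2 j (by rw [hlen i hi]; exact hj)).2 p h1).2 k e] at h2; cases h2
  obtain ⟨j, hj, y, hy⟩ := S.cover (g : G ⧸ ψ.range)
  have ex : xval ψ Z (f d.n0) (getD [] d.XW (getD 0 d.live j)) =
      ((getD [] d.XW (getD 0 d.live j)).map fun a => wval f a * f d.n0).prod := by
    rw [xval]
    congr 1
    refine List.map_congr_left fun a ha => ?_
    rcases getD_mem_or [] d.XW (getD 0 d.live j) with e | e
    · rw [psi_wval _ _ _ _ (List.all_eq_true.1 (List.all_eq_true.1 hX0 _ e) a ha)]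
    · rw [e] at ha; cases ha
  rw [hqd, node, ex] at hy
  rw [← mul_smul, MulAction.Quotient.smul_mk, smul_eq_mul, mul_one, QuotientGroup.eq] at hy
  rw [← psi_range f d.nets d.n0]
  exact ⟨j, hj, ψ y, ⟨y, rfl⟩, _, hy, (mul_inv_cancel_left _ _).symm⟩

end Dat

end Cfsg.Agent.Lib.DCE
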