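import Cfsg.Agent.Lib.ZJ
import Cfsg.Prelude.Def_DStar

/-!
The characteristic subgroup `D*(S)` of Glauberman and Solomon.
-/

set_option autoImplicit false

namespace Cfsg.Agent.Lib.DStar

open Subgroup Cfsg Cfsg.Agent.Lib.PCoreConj Cfsg.Agent.Lib.PCore Cfsg.Agent.Lib.PCoreResidual
open Cfsg.Agent.Lib.PCoreMod Cfsg.Agent.Lib.ZJ Cfsg.Agent.Lib.ThompsonJ
open scoped Pointwise commutatorElement

variable {G : Type*} [Group G] {A B P : Subgroup G} {x : G}

/-- `⟨A, x⟩` has class at most two -/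
def Cl2 (A : Subgroup G) (x : G) : Prop := ⁅⁅A ⊔ zpowers x, A ⊔ zpowers x⁆, A ⊔ zpowers x⁆ = ⊥

/-- the defining family -/
def DF (P A : Subgroup G) : Prop :=
  A ≤ P ∧ AbExp 0 A ∧ ∀ x ∈ P, Cl2 A x → x ∈ centralizer (A : Set G)

/-- `D*(P)` -/
def D (P : Subgroup G) : Subgroup G := sSup {A | DF P A}

theorem cl2_of (hA : AbExp 0 A) (h1 : ⁅A, zpowers x⁆ ≤ centralizer (A : Set G))
    (h2 : ⁅A, zpowers x⁆ ≤ centralizer (zpowers x : Set G)) : Cl2 A x := by
  have n := le_normalizer_centralizer (le_normalizer : A ⊔ zpowers x ≤ _)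
  have h : ⁅A, zpowers x⁆ ≤ centralizer ((A ⊔ zpowers x : Subgroup G) : Set G) := by
    rw [centralizer_sup]; exact le_inf h1 h2
  have s : ∀ K : Subgroup G, ⁅K, A⁆ ≤ centralizer ((A ⊔ zpowers x : Subgroup G) : Set G) →
      ⁅K, zpowers x⁆ ≤ centralizer ((A ⊔ zpowers x : Subgroup G) : Set G) → ⁅K, A ⊔ zpowers x⁆ ≤ _ :=
    fun K => commutator_sup_le (le_sup_left.trans n) (le_sup_right.trans n)
  refine commutator_eq_bot_iff_le_centralizer.mpr (s _ ?_ ?_) <;> rw [Subgroup.commutator_comm]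
  · exact s _ ((commutator_eq_bot_iff_le_centralizer.mpr hA.le_centralizer).le.trans bot_le) h
  · refine s _ (by rwa [Subgroup.commutator_comm]) ((commutator_eq_bot_iff_le_centralizer.mpr
      (abExp_zpowers (n := 0) (pow_zero x)).le_centralizer).le.trans bot_le)

theorem Cl2.mono (h : Cl2 B x) (hA : A ≤ B) : Cl2 A x :=
  le_bot_iff.mp ((commutator_mono (commutator_mono (sup_le_sup_right hA _) (sup_le_sup_right hA _))
    (sup_le_sup_right hA _)).trans h.le)

theorem Cl2.quad (h : Cl2 B x) : Quad B x :=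
  le_bot_iff.mp ((commutator_mono (commutator_mono le_sup_left le_sup_right) le_sup_right).trans h.le)

theorem cl2_map_iff {G' : Type*} [Group G'] {f : G →* G'} (hf : Function.Injective f) :
    Cl2 (A.map f) (f x) ↔ Cl2 A x := by
  rw [Cl2, Cl2, ← MonoidHom.map_zpowers, ← Subgroup.map_sup, ← map_commutator, ← map_commutator,
    map_eq_bot_iff_of_injective _ hf]

theorem DF.map {G' : Type*} [Group G'] {f : G →* G'} (hf : Function.Injective f) (h : DF P A) :
    DF (P.map f) (A.map f) := by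
  refine ⟨map_mono h.1, h.2.1.map f, ?_⟩
  rintro _ ⟨x, hx, rfl⟩ h1
  exact map_centralizer_le f A (mem_map_of_mem f (h.2.2 x hx ((cl2_map_iff hf).mp h1)))

theorem DF.of_map {G' : Type*} [Group G'] {f : G →* G'} (hf : Function.Injective f)
    (h : DF (P.map f) (A.map f)) : DF P A :=
  ⟨(map_le_map_iff_of_injective hf).mp h.1, h.2.1.of_map (inf_ker_of_injective hf A), fun x hx h1 a ha =>
    hf (by
      rw [map_mul, map_mul]
      exact h.2.2 _ (mem_map_of_mem f hx) ((cl2_map_iff hf).mpr h1) _ (mem_map_of_mem f ha))⟩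

theorem DF.le_D (h : DF P A) : A ≤ D P := le_sSup h

theorem D_le_iff : D P ≤ B ↔ ∀ A, DF P A → A ≤ B := sSup_le_iff

theorem D_le (P : Subgroup G) : D P ≤ P := D_le_iff.mpr fun _ h => h.1

theorem map_D {G' : Type*} [Group G'] {f : G →* G'} (hf : Function.Injective f) (P : Subgroup G) :
    (D P).map f = D (P.map f) := by
  refine le_antisymm (map_le_iff_le_comap.mpr (D_le_iff.mpr fun A h =>
    map_le_iff_le_comap.mp (h.map hf).le_D)) (D_le_iff.mpr fun A h => ?_)
  have e : (A.comap f).map f = A := map_comap_eq_self (h.1.trans (map_le_range f P))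
  rw [← e] at h ⊢
  exact map_mono (h.of_map hf).le_D

theorem normalizer_le_normalizer_D (P : Subgroup G) :
    normalizer (P : Set G) ≤ normalizer (D P : Set G) := fun g hg => by
  rw [mem_normalizer_iff_conj_eq] at hg ⊢
  rw [map_D (MulAut.conj g).injective, hg]

theorem mem_dStarFamily_iff : A ∈ dStarFamily G ↔ DF ⊤ A :=
  ⟨fun h => ⟨le_top, abExp_zero_iff.mpr h.1, fun x _ h1 => h.2 x h1⟩,
    fun h => ⟨abExp_zero_iff.mp h.2.1, fun x h1 => h.2.2 x (mem_top x) h1⟩⟩

theorem dStar_eq : dStar G = D ⊤ := congrArg sSup (Set.ext fun _ => mem_dStarFamily_iff)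

theorem dStarOf_eq (P : Subgroup G) : dStarOf P = D P := by
  rw [dStarOf, dStar_eq, map_D P.subtype_injective, ← MonoidHom.range_eq_map, range_subtype]

theorem center_le_D (P : Subgroup G) : P ⊓ centralizer (P : Set G) ≤ D P :=
  DF.le_D ⟨inf_le_left, ⟨fun a ha _ hb => hb.2 a ha.1, fun _ _ => pow_zero _⟩,
    fun x hx _ _ ha => (ha.2 x hx).symm⟩

variable {p : ℕ} [hp : Fact p.Prime] [Finite G]

theorem DF.le_centralizer (hP : IsPGroup p P) (h : DF P A) (hB : AbExp 0 B) (hBP : B ≤ P)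
    (hAB : A ≤ normalizer (B : Set G)) : B ≤ centralizer (A : Set G) := by
  induction hk : Nat.card B using Nat.strong_induction_on generalizing B with
  | _ k ih =>
  by_cases h0 : B = ⊥
  · rw [h0]; exact bot_le
  have h1 := commutator_lt (hP.to_le h.1) (hP.to_le hBP) hAB h0
  have h2 := ih _ (hk ▸ card_lt_of_lt h1) (hB.mono h1.le) (h1.le.trans hBP)
    (le_normalizer_commutator hAB le_normalizer) rfl
  intro x hx
  have h3 : ⁅A, zpowers x⁆ ≤ ⁅B, A⁆ := by
    rw [Subgroup.commutator_comm]; exact commutator_mono (zpowers_le.mpr hx) le_rfl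
  exact h.2.2 x (hBP hx) (cl2_of h.2.1 (h3.trans h2) (h3.trans (h1.le.trans
    (hB.le_centralizer.trans (centralizer_anti (zpowers_le.mpr hx))))))

theorem D_le_of_max (hP : IsPGroup p P) (hB : AbExp 0 B) (hBP : B ≤ P) (hn : P ≤ normalizer (B : Set G))
    (hmax : ∀ C : Subgroup G, AbExp 0 C → B ≤ C → C ≤ P → P ≤ normalizer (C : Set G) → C = B) :
    D P ≤ B := by
  have h1 : D P ≤ centralizer (B : Set G) := D_le_iff.mpr fun A h =>
    le_centralizer_iff.mp (h.le_centralizer hP hB hBP (h.1.trans hn))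
  suffices ∀ M : Subgroup G, M ≤ P ⊓ centralizer (B : Set G) → P ≤ normalizer (M : Set G) → M ≤ B from
    this _ (le_inf (D_le P) h1) (le_normalizer.trans (normalizer_le_normalizer_D P))
  intro M hM hMn
  induction hk : Nat.card M using Nat.strong_induction_on generalizing M with
  | _ k ih =>
  by_cases h0 : M = ⊥
  · rw [h0]; exact bot_le
  have h2 := commutator_lt hP (hP.to_le (hM.trans inf_le_left)) hMn h0
  have h3 := ih _ (hk ▸ card_lt_of_lt h2) _ (h2.le.trans hM) (le_normalizer_commutator hMn le_normalizer) rfl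
  intro x hx
  rw [← hmax (B ⊔ zpowers x) (hB.sup (abExp_zpowers (pow_zero x))
    (le_centralizer_iff.mp (zpowers_le.mpr (hM hx).2))) le_sup_left (sup_le hBP (zpowers_le.mpr (hM hx).1)) ?_]
  · exact mem_sup_right (mem_zpowers x)
  refine le_normalizer_iff_conj_le.mpr fun g hg => ?_
  rw [conj_sup, conj_eq_of_mem_normalizer (hn hg), conj_zpowers]
  refine sup_le le_sup_left (zpowers_le.mpr ?_)
  have : g * x * g⁻¹ = ⁅x, g⁆⁻¹ * x := by rw [commutatorElement_def]; group
  rw [this]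
  exact mul_mem (mem_sup_left (inv_mem (h3 (commutator_mem_commutator hx hg)))) (mem_sup_right (mem_zpowers x))

theorem abExp_D (hP : IsPGroup p P) : AbExp 0 (D P) := by
  obtain ⟨B, hB, hmax⟩ := Set.exists_max_image
    {B : Subgroup G | AbExp 0 B ∧ B ≤ P ∧ P ≤ normalizer (B : Set G)} (fun B => Nat.card B) (Set.toFinite _)
    ⟨⊥, abExp_bot 0, bot_le, le_normalizer_of_normal⟩
  exact hB.1.mono (D_le_of_max hP hB.1 hB.2.1 hB.2.2 fun C h1 h2 h3 h4 =>
    (eq_of_le_of_card_le h2 (hmax C ⟨h1, h3, h4⟩)).symm)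

theorem DF_D (hP : IsPGroup p P) : DF P (D P) :=
  ⟨D_le P, abExp_D hP, fun x hx h => zpowers_le.mp (le_centralizer_iff.mp (D_le_iff.mpr fun _ hA =>
    le_centralizer_iff.mp (zpowers_le.mpr (hA.2.2 x hx (h.mono hA.le_D)))))⟩

theorem D_le_ZJ (hP : IsPGroup p P) : D P ≤ ZJ 0 P := by
  refine le_ZJ (D_le P) fun A hA => ?_
  by_contra hn
  obtain ⟨A, hA, hn, hmax⟩ := exists_maxAb_max (D P) (fun A => ¬ D P ≤ A) hA hn
  have h1 : D P ≤ normalizer (A : Set G) := by
    by_contra h
    obtain ⟨S, s1, s2, s3, -⟩ := hA.thompson_replacement hP (D_le P) (abExp_D hP)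
      (hA.le.trans (le_normalizer.trans (normalizer_le_normalizer_D P))) h
    exact h ((not_not.mp (hmax S s1 s2)).trans s3)
  exact hn (hA.le_of_le_centralizer (D_le P) (abExp_D hP)
    ((DF_D hP).le_centralizer hP hA.abExp hA.le h1))

/-- The `D*`-theorem. -/
theorem D_normal (hst : Stable p G) (hc : centralizer (pCore p G : Set G) ≤ pCore p G)
    (hP : IsSylowIn p P ⊤) : (D P).Normal := by
  have hQP := hP.pCore_le
  have hD := DF_D hP.isPGroup
  have hn : P ≤ normalizer (D P : Set G) := le_normalizer.trans (normalizer_le_normalizer_D P)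
  have h1 : D P ≤ pCore p G := le_pCore_of_abelian hst hc hD.2.1.1 (hQP.trans hn)
  have h2 : ∀ g : G, (D P) ^ᶜ g ≤ centralizer (D P : Set G) := fun g =>
    hD.le_centralizer hP.isPGroup (hD.2.1.map _) ((conj_le_of_normal h1 g).trans hQP) (h1.trans (by
      have := le_normalizer_conj (hQP.trans hn) g
      rwa [conj_eq_of_normal] at this))
  set W := nclIn (D P) ⊤
  have hW : W.Normal := normal_iff_top_le.mpr (le_normalizer_nclIn _ _)
  have hWQ : W ≤ pCore p G := nclIn_le h1 le_normalizer_of_normal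
  have h3 : W ≤ centralizer (W : Set G) := nclIn_le_centralizer le_normalizer_of_normal
    (le_centralizer_iff.mp (nclIn_le_iff.mpr fun g _ => h2 g))
  have h4 : DF P W := ⟨hWQ.trans hQP, ⟨fun a ha b hb => h3 hb a ha, fun _ _ => pow_zero _⟩, fun x hx h => by
    have m := hst W hW ((pCore_isPGroup p G).to_le hWQ) x h.quad
    set L := pCoreMod p ⊤ (centralizer (W : Set G))
    have hL : L.Normal := normal_iff_top_le.mpr (le_normalizer_pCoreMod _ _ _)
    refine zpowers_le.mp (le_centralizer_iff.mp (nclIn_le_iff.mpr fun g _ => ?_))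
    obtain ⟨y, hy, l, hl, rfl⟩ := sc_frattini hP (FusionControl.isStronglyClosed_self P) L g
    have e := pCoreMod_eq_sup (C := centralizer (W : Set G)) le_normalizer_of_normal hP
    rw [top_inf_eq, sup_comm] at e
    obtain ⟨t, ht, c, hc, rfl⟩ := SolvBasic.mem_sup_normal_iff.mp (e.ge hl)
    rw [← conj_conj, ← conj_conj, conj_eq_of_mem_centralizer (centralizer_anti (le_nclIn _ _) hc),
      conj_eq_of_mem_normalizer (hn ht.1)]
    have m' : y⁻¹ * x * y ∈ P ⊓ L := (mem_normalizer_iff''.mp hy x).mp ⟨hx, m⟩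
    have e' : (MulAut.conj y).toMonoidHom (y⁻¹ * x * y) = x := by simp [mul_assoc]
    have h5 := hD.2.2 _ m'.1 ((cl2_map_iff (f := (MulAut.conj y).toMonoidHom) (MulAut.conj y).injective).mp
      (by rw [e']; exact h.mono (conj_le_nclIn _ (mem_top y))))
    refine le_centralizer_iff.mp (zpowers_le.mpr ?_)
    rw [← conj_centralizer, mem_conj_iff]
    exact h5⟩
  rw [← le_antisymm h4.le_D (le_nclIn _ _)]
  exact hW

end Cfsg.Agent.Lib.DStar
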