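import Cfsg.Prelude.Def_SporadicB
import Cfsg.Agent.Lib.PermGroup

/-! Recognising non-split double covers. -/

set_option autoImplicit false

namespace Cfsg.Agent.Lib.DoubleCover

open Cfsg.Agent.Lib.PermNet Cfsg.Agent.Lib.Words
open scoped commutatorElement

/-- A perfect group with a quotient map onto a non-abelian simple group whose kernel has two
elements is a non-split double cover. -/
theorem nonsplit {G S : Type*} [Group G] [Group S] [IsSimpleGroup S] (α : G →* S)
    (hα : Function.Surjective α) {z : G} (hk : ∀ g, α g = 1 ↔ g = 1 ∨ g = z) (hz : z ≠ 1)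
    (hS : ¬ ∀ a b : S, a * b = b * a) (hp : commutator G = ⊤) : IsNonsplitDoubleCover G S := by
  have hker : α.ker = Subgroup.center G := by
    apply le_antisymm
    · intro g hg
      rw [Subgroup.mem_center_iff]
      intro x
      rcases (hk g).1 hg with rfl | rfl
      · simp
      · have : α (x * g * x⁻¹) = 1 := by rw [map_mul, map_mul, hg]; simp
        rcases (hk _).1 this with e | e
        · exact absurd (by simpa using e) hz
        · rw [mul_inv_eq_iff_eq_mul] at e; exact e
    · intro g hg
      have h1 : α g ∈ Subgroup.center S := by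
        rw [Subgroup.mem_center_iff]
        intro x
        obtain ⟨x, rfl⟩ := hα x
        rw [← map_mul, ← map_mul, Subgroup.mem_center_iff.1 hg x]
      rcases (inferInstance : (Subgroup.center S).Normal).eq_bot_or_eq_top with h | h
      · rw [h] at h1; exact h1
      · exact absurd (fun a b => Subgroup.mem_center_iff.1 (h ▸ Subgroup.mem_top b) a) hS
  refine ⟨?_, ⟨(QuotientGroup.quotientMulEquivOfEq hker.symm).trans
    (QuotientGroup.quotientKerEquivOfSurjective α hα)⟩, fun L hL => ?_⟩
  · rw [← hker, ← Set.ncard_pair (Ne.symm hz), ← Nat.card_coe_set_eq]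
    refine Nat.card_congr (Equiv.setCongr ?_)
    ext g
    exact hk g
  · have hn : commutator G ≤ L := by
      rw [commutator_def, Subgroup.commutator_le]
      intro a _ b _
      obtain ⟨⟨⟨c, hc⟩, ⟨l, hl⟩⟩, rfl⟩ := hL.2 a
      obtain ⟨⟨⟨d, hd⟩, ⟨m, hm⟩⟩, rfl⟩ := hL.2 b
      have hc := Subgroup.mem_center_iff.1 hc
      have hd := Subgroup.mem_center_iff.1 hd
      have : ⁅c * l, d * m⁆ = ⁅l, m⁆ := by
        simp only [commutatorElement_def, mul_inv_rev]
        calc c * l * (d * m) * (l⁻¹ * c⁻¹) * (m⁻¹ * d⁻¹)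
            = (c * (l * (d * m) * l⁻¹) * c⁻¹) * (m⁻¹ * d⁻¹) := by group
          _ = l * (d * m) * l⁻¹ * (m⁻¹ * d⁻¹) := by rw [← hc]; group
          _ = l * (d * (m * l⁻¹ * m⁻¹) * d⁻¹) := by group
          _ = l * m * l⁻¹ * m⁻¹ := by rw [← hd]; group
      exact this ▸ L.mul_mem (L.mul_mem (L.mul_mem hl hm) (L.inv_mem hl)) (L.inv_mem hm)
    have : z ∈ Subgroup.center G ⊓ L :=
      ⟨hker ▸ (hk z).2 (Or.inr rfl), hn (hp ▸ Subgroup.mem_top z)⟩
    rw [hL.disjoint.eq_bot] at this
    exact hz this

theorem nonsplit_of_equiv {G H S : Type*} [Group G] [Group H] [Group S] [IsSimpleGroup S]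
    (e : G ≃* H) (α : G →* S)
    (hα : Function.Surjective α) {z : G} (hk : ∀ g, α g = 1 ↔ g = 1 ∨ g = z) (hz : z ≠ 1)
    (hS : ¬ ∀ a b : S, a * b = b * a) (hp : commutator G = ⊤) : IsNonsplitDoubleCover H S := by
  refine nonsplit (α.comp (e.symm : H →* G)) (hα.comp e.symm.surjective) (z := e z) (fun g => ?_)
    (by simpa using hz) hS ?_
  · rw [MonoidHom.comp_apply, hk]
    simp [MulEquiv.symm_apply_eq]
  · have := Subgroup.map_commutator (⊤ : Subgroup G) ⊤ (e : G →* H)
    rw [← commutator_def, hp, Subgroup.map_top_of_surjective _ e.surjective] at this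
    rw [commutator_def, ← this]

theorem not_comm_of_card {S : Type*} [Group S] [IsSimpleGroup S] (h : ¬ (Nat.card S).Prime) :
    ¬ ∀ a b : S, a * b = b * a := fun hc =>
  let _ : CommGroup S := { ‹Group S› with mul_comm := hc }
  h (IsSimpleGroup.prime_card)

theorem eq_of_braid {A : Type*} [CommGroup A] {f : ℕ → A} (I : List ℕ) {K : List (List ℕ)}
    (hK : ∀ w ∈ K, wval f w = 1) (i j : ℕ)
    (h : deriveB I K [[2 * i, 2 * i], [2 * j, 2 * j], rep 3 [2 * i, 2 * j]] = true) : f i = f j := by
  have h := derive I hK _ h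
  have h1 : f i * f i = 1 := by simpa [wval, lval] using h [2 * i, 2 * i] (by simp)
  have h2 : f j * f j = 1 := by simpa [wval, lval] using h [2 * j, 2 * j] (by simp)
  have h3 : (f i * f j) ^ 3 = 1 := by
    have := h (rep 3 [2 * i, 2 * j]) (by simp)
    rw [wval_rep] at this
    simpa [wval, lval] using this
  have : (f i * f j) ^ 3 = (f i * f i) * (f j * f j) * (f i * f j) := by
    simp only [pow_succ, pow_zero, mul_one, mul_comm, mul_left_comm, mul_assoc]
  rw [this, h1, h2, one_mul, one_mul] at h3
  rw [eq_inv_of_mul_eq_one_left h3, eq_comm, eq_inv_iff_mul_eq_one, h2]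

theorem wval_const {A : Type*} [Group A] {f : ℕ → A} {t : A} {n : ℕ} (h : ∀ i < n, f i = t)
    (ht : t * t = 1) (w : List ℕ) (hw : w.all (fun l => decide (l < 2 * n)) = true) :
    wval f w = t ^ w.length := by
  induction w with
  | nil => simp
  | cons a w ih =>
    simp only [List.all_cons, Bool.and_eq_true, decide_eq_true_eq] at hw
    rw [wval_cons, ih hw.2, List.length_cons, pow_succ']
    congr 1
    unfold lval
    rw [h _ (by omega)]
    split_ifs
    · rfl
    · exact inv_eq_of_mul_eq_one_right ht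

end Cfsg.Agent.Lib.DoubleCover
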