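import Cfsg.Agent.Lib.Fi22TC
import Cfsg.Agent.Lib.Fi22AC0
import Cfsg.Agent.Lib.Fi22AC1

/-! The presented group Fi22 acting on 3510 points: index, suborbits, order, simplicity. -/

set_option autoImplicit false
set_option maxRecDepth 100000

namespace Cfsg.Agent.Lib.Fi22A

open Cfsg.Agent.Lib.PermNet Cfsg.Agent.Lib.Words Cfsg.Agent.Lib.PermGroup Cfsg.Agent.Lib.Fi22Base

theorem hrels : ∀ w ∈ relW rels, wval nets.perm w = 1 :=
  relW_one (wval_eq_of_relsOn (K := 12) hv (by norm_num) (rels0_0.trans rels0_8))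

/-- The generators followed by the auxiliary elements. -/
def Y : ℕ → Spor.Fi22 := ext y 9 defs

theorem hdefs : ∀ w ∈ defRels 9 defs, wval nets.perm w = 1 :=
  derive I hrels _ (by decide +kernel)

theorem exists_phi : ∃ φ : Spor.Fi22 →* Equiv.Perm ℕ, ∀ i, φ (Y i) = nets.perm i := by
  obtain ⟨φ, h⟩ := exists_hom nets.perm (derive I hrels K (by decide +kernel))
  exact ⟨φ, map_ext φ y 9 defs nets h hdefs (by decide +kernel)⟩

noncomputable def phi : Spor.Fi22 →* Equiv.Perm ℕ := exists_phi.choose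

theorem hphi : ∀ i, phi (Y i) = nets.perm i := exists_phi.choose_spec

theorem gpY (ws : List (List ℕ))
    (hw : ws.all (fun w => w.all (fun l => decide (l < 2 * 9))) = true) : gp Y ws = gp y ws :=
  gp_ext y 9 defs ws hw

theorem hKY : ∀ w ∈ K, wval Y w = 1 := (rels_ext 9 defs (by decide +kernel)).2 hK

theorem htr : InOrb phi.range 0 (ones 3510) := (InOrb.step hv (wval_mem_range hphi _) [1, 0, 2, 3, 1, 4, 7, 5, 8, 3, 2, 6, 4, 7, 3, 1, 5, 4, 2, 7, 8, 3, 5, 1, 0, 6, 7, 8, 2, 4, 3, 1, 5, 0, 6, 2, 7, 1, 3, 2] (inOrb_pt _ 0) tr_0)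

theorem index_hs : (gp Y hs).index = 3510 ∧ ∀ g, g ∈ gp Y hs ↔ phi g 0 = 0 :=
  index_gp_eq hv hphi (by rw [gpY hs (by decide)]; exact Fi22TC.indexC) fix0 htr

theorem index_eq : (gp y hs).index = 3510 := by rw [← gpY hs (by decide)]; exact index_hs.1

theorem orb0 : InOrb (gp nets.perm hs) 1 (ivl 1 693) := (InOrb.step hv (fun _ h => mem_gp h) [1, 3, 6, 2, 4, 7, 5, 3, 6, 4, 2, 1, 3, 8, 7, 4, 6, 3, 5, 2, 1, 4, 6, 7, 2] (inOrb_pt _ 1) o0_0)

theorem suborbit0 : ∃ q : Spor.Fi22 ⧸ gp Y hs,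
    toPt index_hs.2 '' MulAction.orbit (gp Y hs) q = Set.Ico 1 (1 + 693) ∧
      (MulAction.orbit (gp Y hs) q).ncard = 693 :=
  exists_suborbit hv hphi index_hs.2 htr (by norm_num) (by norm_num) orb0 fix1

theorem orb1 : InOrb (gp nets.perm hs) 694 (ivl 694 2816) := (InOrb.step hv (fun _ h => mem_gp h) [0, 1, 2, 3, 6, 4, 7, 2, 5, 1, 3, 6, 2, 4, 3, 6, 1, 7, 4, 2, 5, 6, 1, 3, 4, 2, 8, 4, 7, 5, 6, 3, 2, 1] (inOrb_pt _ 694) o1_0)

theorem suborbit1 : ∃ q : Spor.Fi22 ⧸ gp Y hs,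
    toPt index_hs.2 '' MulAction.orbit (gp Y hs) q = Set.Ico 694 (694 + 2816) ∧
      (MulAction.orbit (gp Y hs) q).ncard = 2816 :=
  exists_suborbit hv hphi index_hs.2 htr (by norm_num) (by norm_num) orb1 fix2

theorem topY : gp Y allg = ⊤ := by rw [gpY allg (by decide)]; exact gp_top (by decide)

theorem coatom : IsCoatom (gp Y hs) :=
  isCoatom_of_cover hv hphi index_hs.2 [2] (by rw [gpY _ (by decide)]; exact gp_top (by decide)) 694 (by norm_num) (by decide +kernel)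
    [(693, [14, 8, 6, 2, 4, 0, 2], [4, 6, 1, 1]), (2816, [2], [0])]
    (by decide +kernel) ⟨orb0, orb1, trivial⟩

instance finiteG : Finite Spor.Fi22 := by
  have := Fi22TC.card_top.1
  rw [gp_top (by decide), Subgroup.card_top] at this
  exact Nat.finite_of_card_ne_zero this

theorem card_range : 64561751654400 ≤ Nat.card phi.range := by
  have : Finite phi.range := Finite.of_surjective _ phi.rangeRestrict_surjective
  rw [← fixer_nil phi.range]
  exact (le_card_fixer hv [[0], [2], [4], [6], [8], [10], [12], [14], [16]] (wval_mem_range hphi _) [] 0 [1, 0, 2, 3, 1, 4, 7, 5, 8, 3, 2, 6, 4, 7, 3, 1, 5, 4, 2, 7, 8, 3, 5, 1, 0, 6, 7, 8, 2, 4, 3, 1, 5, 0, 6, 2, 7, 1, 3, 2] 0 3510 3510 ch_0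
    (le_card_fixer hv [[0], [4], [6], [8], [10], [12], [14], [16], [18]] (wval_mem_range hphi _) [0] 694 [0, 1, 2, 3, 6, 4, 7, 8, 2, 5, 1, 4, 7, 6, 2, 3, 1, 8, 7, 2, 4, 5, 6, 8, 7, 4, 3, 2, 8, 1] 694 2816 2816 ch_1
    (le_card_fixer hv [[6], [8], [10], [12], [14], [16], [18]] (wval_mem_range hphi _) [694, 0] 855 [1, 3, 5, 2, 6, 0, 4, 1, 3, 2, 5, 0, 4, 1, 3, 0, 6, 5, 2, 1, 2] 855 2655 1680 ch_2
    (le_card_fixer hv [[6], [20], [22]] (wval_mem_range hphi _) [855, 694, 0] 16 [0, 1, 2, 1, 0, 2, 1, 2, 1, 0, 1, 2, 0] 16 676 243 ch_3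
    (le_card_fixer hv [[6, 21, 22, 6], [6, 21, 6, 20, 6], [20, 23, 20, 20, 23]] (wval_mem_range hphi _) [16, 855, 694, 0] 2 [0, 1, 2, 0, 0] 2 341 16 ch_4
    (one_le_card_fixer _))))))

theorem faithful : Nat.card (⊤ : Subgroup Spor.Fi22) = 64561751654400 ∧
    ∀ g ∈ (⊤ : Subgroup Spor.Fi22), phi g = 1 → g = 1 :=
  faithful_of_card phi (gp_top (ws := [[0], [2], [4], [6], [8], [10], [12], [14], [16]]) (by decide) ▸ Fi22TC.card_top)
    (by rw [← MonoidHom.range_eq_map]; exact card_range)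

theorem card_eq : Nat.card Spor.Fi22 = 64561751654400 := by
  rw [← Subgroup.card_top]; exact faithful.1

theorem phi_eq_one {g : Spor.Fi22} (h : phi g = 1) : g = 1 := faithful.2 g trivial h

/-- Every relation checked on the networks holds in the group. -/
theorem hrelsY : ∀ w ∈ relW rels, wval Y w = 1 :=
  rels_of_faithful (L := ⊤) hphi (fun _ _ h => phi_eq_one h) (fun _ _ => trivial) hrels

theorem card_hs : Nat.card (gp Y hs) = 18393661440 := by
  have := (gp Y hs).index_mul_card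
  rw [index_hs.1, card_eq] at this
  omega

theorem simple : IsSimpleGroup Spor.Fi22 := by
  refine isSimpleGroup_of coatom (fun M hM h => ?_) (p := 13) (by norm_num)
    (by rw [card_hs]; norm_num) (fun M hM h => ?_)
  · exact eq_bot_iff.2 fun g hg =>
      phi_eq_one (core_of_faithful hv hphi topY index_hs.2 htr hM h hg)
  · rw [eq_top_iff, ← topY]
    exact le_of_steps I (all_append hKY hrelsY) 13 [[0, 12, 10, 14, 6, 2, 4, 2, 16, 8]] allg
      [([0, 12, 10, 14, 6, 2, 4, 2, 16, 8], [0], 9, 2), ([0], [2], 3, 2), ([2], [4], 3, 2), ([4], [6], 3, 2), ([6], [8], 3, 2), ([6], [14], 3, 2), ([8], [10], 3, 2), ([10], [12], 3, 2), ([14], [16], 3, 2)]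
      (by decide +kernel) M hM h

end Cfsg.Agent.Lib.Fi22A
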