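import Cfsg.Agent.Lib.Fi22Base
import Cfsg.Agent.Lib.TCFiA
import Cfsg.Agent.Lib.TCFiB
import Cfsg.Agent.Lib.TCFiE6
import Cfsg.Agent.Lib.TCFiD5
import Cfsg.Agent.Lib.TCFiA4
import Cfsg.Agent.Lib.TCFi22S
import Cfsg.Agent.Lib.TCFi22C

/-! Upper bounds for indices and orders in the presented group Fi22. -/

set_option autoImplicit false
set_option maxRecDepth 100000

namespace Cfsg.Agent.Lib.Fi22TC

open Cfsg.Agent.Lib.PermNet Cfsg.Agent.Lib.Words Cfsg.Agent.Lib.PermGroup Cfsg.Agent.Lib.Fi22Base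

theorem bA : (gp y [[2], [4], [6], [8], [10], [12], [14], [16]]).relIndex (gp y [[0], [2], [4], [6], [8], [10], [12], [14], [16]]) ≠ 0 ∧
    (gp y [[2], [4], [6], [8], [10], [12], [14], [16]]).relIndex (gp y [[0], [2], [4], [6], [8], [10], [12], [14], [16]]) ≤ 14080 :=
  tc_wrap I hK [[0], [2], [4], [6], [8], [10], [12], [14], [16]] TCFiA.bound _ _ (by decide +kernel)

theorem bB : (gp y [[2], [4], [6], [8], [10], [12], [14]]).relIndex (gp y [[2], [4], [6], [8], [10], [12], [14], [16]]) ≠ 0 ∧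
    (gp y [[2], [4], [6], [8], [10], [12], [14]]).relIndex (gp y [[2], [4], [6], [8], [10], [12], [14], [16]]) ≤ 3159 :=
  tc_wrap I hK [[2], [4], [6], [8], [10], [12], [14], [16]] TCFiB.bound _ _ (by decide +kernel)

theorem bS : (gp y [[2], [4], [6], [8], [10], [14]]).relIndex (gp y [[2], [4], [6], [8], [10], [12], [14]]) ≠ 0 ∧
    (gp y [[2], [4], [6], [8], [10], [14]]).relIndex (gp y [[2], [4], [6], [8], [10], [12], [14]]) ≤ 28 :=
  tc_wrap I hK [[2], [4], [6], [8], [10], [12], [14]] TCFi22S.bound _ _ (by decide +kernel)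

theorem bE6 : (gp y [[4], [6], [8], [10], [14]]).relIndex (gp y [[2], [4], [6], [8], [10], [14]]) ≠ 0 ∧
    (gp y [[4], [6], [8], [10], [14]]).relIndex (gp y [[2], [4], [6], [8], [10], [14]]) ≤ 27 :=
  tc_wrap I hK [[2], [4], [6], [8], [10], [14]] TCFiE6.bound _ _ (by decide +kernel)

theorem bD5 : (gp y [[4], [6], [8], [10]]).relIndex (gp y [[4], [6], [8], [10], [14]]) ≠ 0 ∧
    (gp y [[4], [6], [8], [10]]).relIndex (gp y [[4], [6], [8], [10], [14]]) ≤ 16 :=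
  tc_wrap I hK [[4], [6], [8], [10], [14]] TCFiD5.bound _ _ (by decide +kernel)

theorem bA4 : (gp y []).relIndex (gp y [[4], [6], [8], [10]]) ≠ 0 ∧
    (gp y []).relIndex (gp y [[4], [6], [8], [10]]) ≤ 120 :=
  tc_wrap I hK [[4], [6], [8], [10]] TCFiA4.bound _ _ (by decide +kernel)

theorem bC : (gp y [[0], [4], [6], [8], [10], [12], [14], [16], [0, 2, 4, 6, 8, 14, 0, 2, 4, 6, 8, 14, 0, 2, 4, 6, 8, 14, 0, 2, 4, 6, 8, 14, 0, 2, 4, 6, 8, 14]]).relIndex (gp y [[0], [2], [4], [6], [8], [10], [12], [14], [16]]) ≠ 0 ∧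
    (gp y [[0], [4], [6], [8], [10], [12], [14], [16], [0, 2, 4, 6, 8, 14, 0, 2, 4, 6, 8, 14, 0, 2, 4, 6, 8, 14, 0, 2, 4, 6, 8, 14, 0, 2, 4, 6, 8, 14]]).relIndex (gp y [[0], [2], [4], [6], [8], [10], [12], [14], [16]]) ≤ 3510 :=
  tc_wrap I hK [[0], [2], [4], [6], [8], [10], [12], [14], [16], [0, 2, 4, 6, 8, 14, 0, 2, 4, 6, 8, 14, 0, 2, 4, 6, 8, 14, 0, 2, 4, 6, 8, 14, 0, 2, 4, 6, 8, 14], [15, 9, 7, 5, 3, 1, 15, 9, 7, 5, 3, 1, 15, 9, 7, 5, 3, 1, 15, 9, 7, 5, 3, 1, 15, 9, 7, 5, 3, 1]] TCFi22C.bound _ _ (by decide +kernel)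

theorem indexC : (gp y [[0], [4], [6], [8], [10], [12], [14], [16], [0, 2, 4, 6, 8, 14, 0, 2, 4, 6, 8, 14, 0, 2, 4, 6, 8, 14, 0, 2, 4, 6, 8, 14, 0, 2, 4, 6, 8, 14]]).index ≠ 0 ∧
    (gp y [[0], [4], [6], [8], [10], [12], [14], [16], [0, 2, 4, 6, 8, 14, 0, 2, 4, 6, 8, 14, 0, 2, 4, 6, 8, 14, 0, 2, 4, 6, 8, 14, 0, 2, 4, 6, 8, 14]]).index ≤ 3510 := by
  have := bC
  rwa [gp_top (ws := [[0], [2], [4], [6], [8], [10], [12], [14], [16]]) (by decide), Subgroup.relIndex_top_right] at this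

theorem indexA : (gp y [[2], [4], [6], [8], [10], [12], [14], [16]]).index ≠ 0 ∧
    (gp y [[2], [4], [6], [8], [10], [12], [14], [16]]).index ≤ 14080 := by
  have := bA
  rwa [gp_top (ws := [[0], [2], [4], [6], [8], [10], [12], [14], [16]]) (by decide), Subgroup.relIndex_top_right] at this

theorem card_bi : Nat.card (gp y [[2], [4], [6], [8], [10], [12], [14], [16]]) ≠ 0 ∧
    Nat.card (gp y [[2], [4], [6], [8], [10], [12], [14], [16]]) ≤ 4585351680 :=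
  (card_le_of_relIndex (gp_mono (by decide)) bB
    (card_le_of_relIndex (gp_mono (by decide)) bS
    (card_le_of_relIndex (gp_mono (by decide)) bE6
    (card_le_of_relIndex (gp_mono (by decide)) bD5
    (card_le_of_relIndex (gp_mono (by decide)) bA4
    (card_gp_nil y))))))

theorem card_top : Nat.card (gp y [[0], [2], [4], [6], [8], [10], [12], [14], [16]]) ≠ 0 ∧
    Nat.card (gp y [[0], [2], [4], [6], [8], [10], [12], [14], [16]]) ≤ 64561751654400 :=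
  card_le_of_relIndex (gp_mono (by decide)) bA card_bi

end Cfsg.Agent.Lib.Fi22TC
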