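import Cfsg.Agent.Lib.Fi24AN0
import Cfsg.Agent.Lib.Fi24AN1
import Cfsg.Agent.Lib.Fi24AN2
import Cfsg.Agent.Lib.Fi24AN3
import Cfsg.Agent.Lib.Fi24AN4
import Cfsg.Agent.Lib.Fi24AN5
import Cfsg.Agent.Lib.Fi24AN6
import Cfsg.Agent.Lib.Fi24AN7
import Cfsg.Agent.Lib.Fi24AN8
import Cfsg.Agent.Lib.Fi24AN9
import Cfsg.Agent.Lib.Fi24AN10
import Cfsg.Agent.Lib.Fi24AN11
import Cfsg.Agent.Lib.Fi24AN12
import Cfsg.Agent.Lib.Fi24AN13

set_option autoImplicit false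
set_option maxRecDepth 100000

namespace Cfsg.Agent.Lib.Fi24A
open Cfsg.Agent.Lib.PermNet

noncomputable def nets : NL := (.cons net0 (.cons net1 (.cons net2 (.cons net3 (.cons net4 (.cons net5 (.cons net6 (.cons net7 (.cons net8 (.cons net9 (.cons net10 (.cons net11 (.cons net12 (.cons net13 .nil))))))))))))))

theorem hv : nets.Valid 306936 := ⟨valid0, ⟨valid1, ⟨valid2, ⟨valid3, ⟨valid4, ⟨valid5, ⟨valid6, ⟨valid7, ⟨valid8, ⟨valid9, ⟨valid10, ⟨valid11, ⟨valid12, ⟨valid13, trivial⟩⟩⟩⟩⟩⟩⟩⟩⟩⟩⟩⟩⟩⟩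

def rels0 : List (List Nat × List Nat) := [([0, 0], []),
  ([2, 2], []),
  ([4, 4], []),
  ([6, 6], []),
  ([8, 8], []),
  ([10, 10], []),
  ([12, 12], []),
  ([14, 14], []),
  ([16, 16], []),
  ([18, 18], []),
  ([20, 20], []),
  ([22, 22], []),
  ([0, 2, 0], [2, 0, 2]),
  ([0, 4], [4, 0]),
  ([0, 6], [6, 0]),
  ([0, 8], [8, 0]),
  ([0, 10], [10, 0]),
  ([0, 12], [12, 0])]
def rels1 : List (List Nat × List Nat) := [([0, 14], [14, 0]),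
  ([0, 16], [16, 0]),
  ([0, 18], [18, 0]),
  ([0, 20, 0], [20, 0, 20]),
  ([0, 22], [22, 0]),
  ([2, 4, 2], [4, 2, 4]),
  ([2, 6], [6, 2]),
  ([2, 8], [8, 2]),
  ([2, 10], [10, 2]),
  ([2, 12], [12, 2]),
  ([2, 14], [14, 2])]
def rels2 : List (List Nat × List Nat) := [([2, 16], [16, 2]),
  ([2, 18], [18, 2]),
  ([2, 20], [20, 2]),
  ([2, 22], [22, 2]),
  ([4, 6, 4], [6, 4, 6]),
  ([4, 8], [8, 4]),
  ([4, 10], [10, 4]),
  ([4, 12], [12, 4]),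
  ([4, 14], [14, 4]),
  ([4, 16], [16, 4]),
  ([4, 18], [18, 4]),
  ([4, 20], [20, 4])]
def rels3 : List (List Nat × List Nat) := [([4, 22], [22, 4]),
  ([6, 8, 6], [8, 6, 8]),
  ([6, 10], [10, 6]),
  ([6, 12], [12, 6]),
  ([6, 14, 6], [14, 6, 14]),
  ([6, 16], [16, 6]),
  ([6, 18], [18, 6]),
  ([6, 20], [20, 6]),
  ([6, 22], [22, 6]),
  ([8, 10, 8], [10, 8, 10]),
  ([8, 12], [12, 8])]
def rels4 : List (List Nat × List Nat) := [([8, 14], [14, 8]),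
  ([8, 16], [16, 8]),
  ([8, 18], [18, 8]),
  ([8, 20], [20, 8]),
  ([8, 22], [22, 8]),
  ([10, 12, 10], [12, 10, 12]),
  ([10, 14], [14, 10]),
  ([10, 16], [16, 10]),
  ([10, 18], [18, 10]),
  ([10, 20], [20, 10]),
  ([10, 22], [22, 10]),
  ([12, 14], [14, 12])]
def rels5 : List (List Nat × List Nat) := [([12, 16], [16, 12]),
  ([12, 18, 12], [18, 12, 18]),
  ([12, 20], [20, 12]),
  ([12, 22], [22, 12]),
  ([14, 16, 14], [16, 14, 16]),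
  ([14, 18], [18, 14]),
  ([14, 20], [20, 14]),
  ([14, 22], [22, 14]),
  ([16, 18], [18, 16]),
  ([16, 20], [20, 16]),
  ([16, 22], [22, 16])]
def rels6 : List (List Nat × List Nat) := [([18, 20], [20, 18]),
  ([18, 22], [22, 18]),
  ([20, 22, 20], [22, 20, 22])]
def rels7 : List (List Nat × List Nat) := [([22, 14, 10, 8, 6, 4, 2, 0, 14, 10, 8, 6, 4, 2, 0, 14, 10, 8, 6, 4, 2, 0, 14, 10, 8, 6, 4, 2, 0, 14, 10, 8], [0, 2, 4, 6, 8, 10, 14, 0, 2, 4, 6, 8, 10, 14, 0, 2, 4, 6, 8, 10, 14, 0, 2, 4, 6, 8, 10, 14, 0, 2, 4, 6])]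
def rels8 : List (List Nat × List Nat) := [([25, 6, 4, 2, 0, 20, 22, 6, 8, 10, 12, 18, 6, 14, 16], []),
  ([27, 10, 6, 4, 2, 0, 20, 22, 6, 8, 10, 12, 18, 6, 14, 16, 8, 20, 22, 6, 8, 4, 2], [])]
def rels9 : List (List Nat × List Nat) := [([24, 24, 24, 24, 24, 24, 24, 24, 24], [25, 25, 25, 25, 25, 25, 25, 25]),
  ([26, 26, 26, 26, 26, 26, 26, 26, 26, 26, 26, 26, 26, 26, 26], [27, 27, 27, 27, 27, 27, 27, 27, 27, 27, 27, 27, 27, 27])]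
def rels10 : List (List Nat × List Nat) := [([26, 0, 2, 26, 0, 2, 26, 0, 2, 26, 0, 2, 26, 0, 2, 26, 0, 2, 26, 0, 2, 26, 0, 2, 26, 0, 2, 26, 0, 2, 26, 0, 2, 26, 0], [2, 0, 27, 2, 0, 27, 2, 0, 27, 2, 0, 27, 2, 0, 27, 2, 0, 27, 2, 0, 27, 2, 0, 27, 2, 0, 27, 2, 0, 27, 2, 0, 27, 2])]
def rels : List (List Nat × List Nat) := ((((((((((rels0 ++ rels1) ++ rels2) ++ rels3) ++ rels4) ++ rels5) ++ rels6) ++ rels7) ++ rels8) ++ rels9) ++ rels10)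

def defs : List (List Nat) := [[6, 4, 2, 0, 20, 22, 6, 8, 10, 12, 18, 6, 14, 16], [10, 6, 4, 2, 0, 20, 22, 6, 8, 10, 12, 18, 6, 14, 16, 8, 20, 22, 6, 8, 4, 2]]

def allg : List (List Nat) := [[0], [2], [4], [6], [8], [10], [12], [14], [16], [18], [20], [22]]

def gw : List (List Nat) := [[0], [2], [4], [6], [8], [10], [12], [14], [16], [18], [20], [22], [24], [26]]

def hs : List (List Nat) := [[0], [2], [4], [6], [8], [10], [12], [14], [16], [18], [22]]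

end Cfsg.Agent.Lib.Fi24A
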