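import Cfsg.Agent.Lib.DoubleCover

/-! Relations derived from a faithful model of a presented subgroup; parity of words. -/

set_option autoImplicit false

namespace Cfsg.Agent.Lib.PermModel

open Cfsg.Agent.Lib.PermNet Cfsg.Agent.Lib.Words Cfsg.Agent.Lib.PermGroup

/-- If the relators `K` bound the order of the group generated by `ls` by `T`, and a model of `K`
reaches this bound, then every relation of the model follows from `K`. -/
theorem rels_of_model {G X : Type*} [Group G] [Group X] {y : ℕ → G} {f : ℕ → X}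
    {K : List (List ℕ)} (hy : ∀ w ∈ K, wval y w = 1) (hf : ∀ w ∈ K, wval f w = 1)
    {ls : List (List ℕ)} {T : ℕ}
    (hub : ∀ z : ℕ → G × X, (∀ w ∈ K, wval z w = 1) →
      Nat.card (gp z ls) ≠ 0 ∧ Nat.card (gp z ls) ≤ T)
    (hlb : Finite (gp f ls) → T ≤ Nat.card (gp f ls)) {R : List (List ℕ)}
    (hR : lettersIn ls R = true) (hRf : ∀ w ∈ R, wval f w = 1) : ∀ w ∈ R, wval y w = 1 := by
  let z : ℕ → G × X := fun i => (y i, f i)
  have h1 : ∀ w, (wval z w).1 = wval y w := fun w => map_wval (MonoidHom.fst G X) z w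
  have h2 : ∀ w, (wval z w).2 = wval f w := fun w => map_wval (MonoidHom.snd G X) z w
  have hb := hub z fun w hw => Prod.ext (by rw [h1, hy w hw]; rfl) (by rw [h2, hf w hw]; rfl)
  have e : (gp z ls).map (MonoidHom.snd G X) = gp f ls := map_gp _ _
  have hfin := finite_map (MonoidHom.snd G X) hb.1
  rw [e] at hfin
  have := (faithful_of_card (MonoidHom.snd G X) hb (by rw [e]; exact hlb hfin)).2
  intro w hw
  rw [← h1, this _ (mem_gp_of_lettersIn hR w hw) ((h2 w).trans (hRf w hw))]
  rfl

/-- Under the same hypotheses the generated subgroup is a quotient of the model. -/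
theorem exists_hom_of_model {G X : Type*} [Group G] [Group X] {y : ℕ → G} {f : ℕ → X}
    {K : List (List ℕ)} (hy : ∀ w ∈ K, wval y w = 1) (hf : ∀ w ∈ K, wval f w = 1)
    {ls : List (List ℕ)} {T : ℕ}
    (hub : ∀ z : ℕ → G × X, (∀ w ∈ K, wval z w = 1) →
      Nat.card (gp z ls) ≠ 0 ∧ Nat.card (gp z ls) ≤ T)
    (h1 : T ≤ Nat.card (gp y ls)) (h2 : T ≤ Nat.card (gp f ls)) :
    ∃ e : gp y ls ≃* gp f ls, ∀ w (hw : wval y w ∈ gp y ls),
      wval (fun i => (y i, f i)) w ∈ gp (fun i => (y i, f i)) ls → (e ⟨_, hw⟩ : X) = wval f w := by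
  let z : ℕ → G × X := fun i => (y i, f i)
  have p1 : ∀ w, (wval z w).1 = wval y w := fun w => map_wval (MonoidHom.fst G X) z w
  have p2 : ∀ w, (wval z w).2 = wval f w := fun w => map_wval (MonoidHom.snd G X) z w
  have hb := hub z fun w hw => Prod.ext (by rw [p1, hy w hw]; rfl) (by rw [p2, hf w hw]; rfl)
  have e1 : (gp z ls).map (MonoidHom.fst G X) = gp y ls := map_gp _ _
  have e2 : (gp z ls).map (MonoidHom.snd G X) = gp f ls := map_gp _ _
  have : Finite (gp z ls) := Nat.finite_of_card_ne_zero hb.1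
  have b1 : Function.Bijective ((MonoidHom.fst G X).subgroupMap (gp z ls)) := by
    have hs := (MonoidHom.fst G X).subgroupMap_surjective (gp z ls)
    have := Nat.card_le_card_of_surjective _ hs
    exact (Nat.bijective_iff_surjective_and_card _).2 ⟨hs, by rw [e1] at this ⊢; omega⟩
  have b2 : Function.Bijective ((MonoidHom.snd G X).subgroupMap (gp z ls)) := by
    have hs := (MonoidHom.snd G X).subgroupMap_surjective (gp z ls)
    have := Nat.card_le_card_of_surjective _ hs
    exact (Nat.bijective_iff_surjective_and_card _).2 ⟨hs, by rw [e2] at this ⊢; omega⟩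
  refine ⟨(MulEquiv.subgroupCongr e1.symm).trans ((MulEquiv.ofBijective _ b1).symm.trans
    ((MulEquiv.ofBijective _ b2).trans (MulEquiv.subgroupCongr e2))), fun w hw hz => ?_⟩
  have : (MulEquiv.ofBijective _ b1).symm (MulEquiv.subgroupCongr e1.symm ⟨_, hw⟩) = ⟨_, hz⟩ := by
    rw [MulEquiv.symm_apply_eq]
    exact Subtype.ext (p1 w).symm
  simp only [MulEquiv.trans_apply, this]
  exact p2 w

theorem exists_word {G : Type*} [Group G] {y : ℕ → G} {n : ℕ} {ws : List (List ℕ)}
    (hw : ws.all (fun w => w.all (fun l => decide (l < 2 * n))) = true) {g : G}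
    (hg : g ∈ gp y ws) : ∃ w : List ℕ, w.all (fun l => decide (l < 2 * n)) = true ∧ wval y w = g := by
  induction hg using Subgroup.closure_induction with
  | mem g hg =>
    obtain ⟨w, h, rfl⟩ := hg
    exact ⟨w, List.all_eq_true.1 hw w h, rfl⟩
  | one => exact ⟨[], rfl, rfl⟩
  | mul a b _ _ ha hb =>
    obtain ⟨u, hu, rfl⟩ := ha
    obtain ⟨v, hv, rfl⟩ := hb
    exact ⟨u ++ v, by rw [List.all_append, hu, hv]; rfl, wval_append _ _ _⟩
  | inv a _ ha =>
    obtain ⟨u, hu, rfl⟩ := ha
    refine ⟨invW u, ?_, wval_invW _ _⟩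
    simp only [invW, List.all_eq_true, decide_eq_true_eq, List.mem_reverse, List.mem_map] at hu ⊢
    rintro _ ⟨l, hl, rfl⟩
    have := hu l hl
    unfold invL
    split_ifs <;> omega

theorem wval_mul_central {G : Type*} [Group G] {y : ℕ → G} {c : G} {n : ℕ} (hc : c * c = 1)
    (h : ∀ i < n, Commute (y i) c) (w : List ℕ)
    (hw : w.all (fun l => decide (l < 2 * n)) = true) :
    wval (fun i => y i * c) w = wval y w * c ^ w.length := by
  induction w with
  | nil => simp
  | cons a w ih =>
    simp only [List.all_cons, Bool.and_eq_true, decide_eq_true_eq] at hw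
    have hcw : Commute c (wval y w) := by
      have : wval y w ∈ Subgroup.centralizer {c} := by
        refine wval_mem fun l hl => Subgroup.mem_centralizer_singleton_iff.2 (h _ ?_).eq
        have := List.all_eq_true.1 hw.2 l hl
        simp only [decide_eq_true_eq] at this
        omega
      exact (Subgroup.mem_centralizer_singleton_iff.1 this).symm
    have e : lval (fun i => y i * c) a = lval y a * c := by
      unfold lval
      split_ifs
      · rfl
      · rw [mul_inv_rev, inv_eq_of_mul_eq_one_right hc]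
        exact ((h _ (by omega)).inv_left.eq).symm
    rw [wval_cons, wval_cons, ih hw.2, e, List.length_cons, pow_succ', mul_assoc, mul_assoc,
      ← mul_assoc c, hcw.eq, mul_assoc]

/-- If all generators agree modulo the normal subgroup `M`, it contains the commutator subgroup. -/
theorem commutator_le_of_eq {G : Type*} [Group G] {y : ℕ → G} {n : ℕ} {ws : List (List ℕ)}
    (ht : gp y ws = ⊤) (hw : ws.all (fun w => w.all (fun l => decide (l < 2 * n))) = true)
    (M : Subgroup G) [M.Normal] (h : ∀ i < n, (y i : G ⧸ M) = y 0) : commutator G ≤ M := by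
  have key : ∀ g : G, (g : G ⧸ M) ∈ Subgroup.zpowers (y 0 : G ⧸ M) := by
    intro g
    obtain ⟨w, h1, rfl⟩ := exists_word hw (ht ▸ Subgroup.mem_top g)
    rw [← QuotientGroup.mk'_apply M (wval y w), map_wval]
    refine wval_mem fun l hl => ?_
    have := List.all_eq_true.1 h1 l hl
    simp only [decide_eq_true_eq] at this
    have e := h (l / 2) (by omega)
    change ((y (l / 2) : G) : G ⧸ M) ∈ _
    rw [e]
    exact Subgroup.mem_zpowers _
  rw [commutator_def, Subgroup.commutator_le]
  intro a _ b _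
  rw [commutatorElement_def, ← QuotientGroup.eq_one_iff (N := M)]
  obtain ⟨i, hi⟩ := key a
  obtain ⟨j, hj⟩ := key b
  simp only [QuotientGroup.mk_mul, QuotientGroup.mk_inv, ← hi, ← hj]
  group

/-- Simplicity of a normal subgroup `D` of index two in a group with a suitable maximal subgroup. -/
theorem isSimpleGroup_of_index_two {G : Type*} [Group G] [Finite G] {H D : Subgroup G} [D.Normal]
    (hD : D.index = 2) (hco : IsCoatom H)
    (hcore : ∀ M : Subgroup G, M.Normal → M ≤ H → M ≤ D → M = ⊥) {p : ℕ} (hp : p.Prime)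
    (hpH : ¬ p ∣ Nat.card H) (hsq : ¬ IsSquare (Nat.card D))
    (hgen : ∀ M : Subgroup G, M.Normal → (∀ g, g ^ p = 1 → g ∈ M) → D ≤ M) : IsSimpleGroup D := by
  have key : ∀ M : Subgroup G, M.Normal → M ≤ D → M = ⊥ ∨ M = D := by
    intro M hM hMD
    by_cases h : M ≤ H
    · exact Or.inl (hcore M hM h hMD)
    · exact Or.inr (le_antisymm hMD (hgen M hM fun g hg => mem_of_not_le hco h hp hpH hg))
  have : Nontrivial D := by
    by_contra h
    rw [not_nontrivial_iff_subsingleton] at h
    exact hsq (by rw [Nat.card_of_subsingleton (1 : D)]; exact IsSquare.one)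
  refine ⟨fun N hN => ?_⟩
  obtain ⟨t, ht⟩ := Subgroup.index_eq_two_iff'.1 hD
  set M := N.map D.subtype with hM
  have hMD : M ≤ D := Subgroup.map_subtype_le N
  have hc : ∀ d ∈ D, ∀ m ∈ M, d * m * d⁻¹ ∈ M := by
    rintro d hd _ ⟨m, hm, rfl⟩
    exact ⟨_, hN.conj_mem m hm ⟨d, hd⟩, rfl⟩
  have htD : t ∉ D := by
    intro h
    have := ht 1
    simp [h, D.one_mem] at this
  have hg : ∀ g : G, g ∈ D ∨ t * g ∈ D := fun g => (ht g).or.symm
  have htt : t * t ∈ D := (hg t).resolve_left htD
  set M' := M.comap (MulAut.conj t).toMonoidHom with hM'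
  have hm' : ∀ x, x ∈ M' ↔ t * x * t⁻¹ ∈ M := fun x => Iff.rfl
  have hM'D : M' ≤ D := fun x hx => by
    simpa [mul_assoc] using (inferInstance : D.Normal).conj_mem _ (hMD ((hm' x).1 hx)) t⁻¹
  have hc' : ∀ d ∈ D, ∀ m ∈ M', d * m * d⁻¹ ∈ M' := by
    intro d hd m hm
    have := hc _ ((inferInstance : D.Normal).conj_mem d hd t) _ ((hm' m).1 hm)
    rw [hm']
    convert this using 1
    group
  have s1 : ∀ g, t * g ∈ D → ∀ m ∈ M, g * m * g⁻¹ ∈ M' := by
    intro g h m hm
    have := hc _ h m hm
    rw [hm']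
    convert this using 1
    group
  have s2 : ∀ g, t * g ∈ D → ∀ m ∈ M', g * m * g⁻¹ ∈ M := by
    intro g h m hm
    have h' : g * t⁻¹ ∈ D := by
      have := D.mul_mem ((inferInstance : D.Normal).conj_mem _ h t⁻¹) (D.inv_mem htt)
      convert this using 1
      group
    have := hc _ h' _ ((hm' m).1 hm)
    convert this using 1
    group
  have n1 : (M ⊓ M').Normal := ⟨fun m hm g => by
    rcases hg g with h | h
    · exact ⟨hc g h m hm.1, hc' g h m hm.2⟩
    · exact ⟨s2 g h m hm.2, s1 g h m hm.1⟩⟩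
  have n2 : (M ⊔ M').Normal := by
    refine ⟨fun m hm g => ?_⟩
    have : M ⊔ M' ≤ (M ⊔ M').comap (MulAut.conj g).toMonoidHom := by
      refine sup_le (fun x hx => ?_) (fun x hx => ?_)
      · rcases hg g with h | h
        · exact Subgroup.mem_sup_left (hc g h x hx)
        · exact Subgroup.mem_sup_right (s1 g h x hx)
      · rcases hg g with h | h
        · exact Subgroup.mem_sup_right (hc' g h x hx)
        · exact Subgroup.mem_sup_left (s2 g h x hx)
    exact this hm
  have top_of : D ≤ M → N = ⊤ := fun h => eq_top_iff.2 fun x _ => by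
    obtain ⟨n, hn, e⟩ := h x.2
    rwa [← Subtype.ext e]
  rcases key _ n1 (inf_le_left.trans hMD) with h1 | h1
  · rcases key _ n2 (sup_le hMD hM'D) with h2 | h2
    · left
      rw [← Subgroup.map_eq_bot_iff_of_injective N D.subtype_injective]
      exact le_bot_iff.1 (le_sup_left.trans h2.le)
    · exfalso
      apply hsq
      refine ⟨Nat.card M, ?_⟩
      have hcard : Nat.card M' = Nat.card M := by
        refine Nat.card_congr ⟨fun x => ⟨t * x * t⁻¹, x.2⟩, fun x => ⟨t⁻¹ * x * t, ?_⟩, ?_, ?_⟩
        · rw [hm']; simp [mul_assoc]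
        · intro x; ext; simp [mul_assoc]
        · intro x; ext; simp [mul_assoc]
      have hN' : (M.subgroupOf D).Normal := ⟨fun m hm g => hc g g.2 m hm⟩
      have hcomp : (M.subgroupOf D).IsComplement' (M'.subgroupOf D) := by
        apply Subgroup.isComplement'_of_disjoint_and_mul_eq_univ
        · rw [disjoint_iff, Subgroup.subgroupOf, Subgroup.subgroupOf, ← Subgroup.comap_inf, h1]
          exact Subgroup.bot_subgroupOf _
        · rw [← Subgroup.normal_mul, ← Subgroup.subgroupOf_sup hMD hM'D, h2,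
            Subgroup.subgroupOf_self, Subgroup.coe_top]
      rw [← hcomp.card_mul_card, Nat.card_congr (Subgroup.subgroupOfEquivOfLe hMD).toEquiv,
        Nat.card_congr (Subgroup.subgroupOfEquivOfLe hM'D).toEquiv, hcard]
  · exact Or.inr (top_of (h1.ge.trans inf_le_left))

end Cfsg.Agent.Lib.PermModel
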