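import Cfsg.Agent.Lib.Fi24Base
import Cfsg.Agent.Lib.PermModel
import Cfsg.Agent.Lib.TCFi24B
import Cfsg.Agent.Lib.TCFi24C
import Cfsg.Agent.Lib.TCFiE7
import Cfsg.Agent.Lib.TCFiE6
import Cfsg.Agent.Lib.TCFiD5
import Cfsg.Agent.Lib.TCFiA4
import Cfsg.Agent.Lib.Fi24MC0

/-! Relations in the presented group Fi24, derived from a faithful model of the subgroup generated by all generators but `g` and `j`. -/

set_option autoImplicit false
set_option maxRecDepth 100000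

namespace Cfsg.Agent.Lib.Fi24M

open Cfsg.Agent.Lib.PermNet Cfsg.Agent.Lib.Words Cfsg.Agent.Lib.PermGroup Cfsg.Agent.Lib.Fi24Base Cfsg.Agent.Lib.PermModel

def K1 : List (List ℕ) := [[0, 0], [2, 2], [4, 4], [6, 6], [8, 8], [10, 10], [14, 14], [16, 16], [20, 20], [22, 22], [0, 2, 0, 2, 0, 2], [0, 4, 0, 4], [0, 6, 0, 6], [0, 8, 0, 8], [0, 10, 0, 10], [0, 14, 0, 14], [0, 16, 0, 16], [0, 20, 0, 20, 0, 20], [0, 22, 0, 22], [2, 4, 2, 4, 2, 4], [2, 6, 2, 6], [2, 8, 2, 8], [2, 10, 2, 10], [2, 14, 2, 14], [2, 16, 2, 16], [2, 20, 2, 20], [2, 22, 2, 22], [4, 6, 4, 6, 4, 6], [4, 8, 4, 8], [4, 10, 4, 10], [4, 14, 4, 14], [4, 16, 4, 16], [4, 20, 4, 20], [4, 22, 4, 22], [6, 8, 6, 8, 6, 8], [6, 10, 6, 10], [6, 14, 6, 14, 6, 14], [6, 16, 6, 16], [6, 20, 6, 20], [6, 22, 6, 22], [8, 10, 8, 10, 8, 10], [8, 14, 8, 14], [8, 16, 8, 16], [8, 20, 8, 20], [8, 22, 8, 22], [10, 14, 10, 14], [10, 16, 10, 16],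 [10, 20, 10, 20], [10, 22, 10, 22], [14, 16, 14, 16, 14, 16], [14, 20, 14, 20], [14, 22, 14, 22], [16, 20, 16, 20], [16, 22, 16, 22], [20, 22, 20, 22, 20, 22], [22, 15, 11, 9, 7, 5, 3, 1, 15, 11, 9, 7, 5, 3, 1, 15, 11, 9, 7, 5, 3, 1, 15, 11, 9, 7, 5, 3, 1, 15, 11, 9, 7, 5, 3, 1, 15, 11, 9, 7, 5, 3, 1, 15, 11, 9, 7, 5, 3, 1, 15, 11, 9, 7, 5, 3, 1, 15, 11, 9, 7, 5, 3, 1]]

def I1 : List ℕ := [0, 1, 2, 3, 4, 5, 7, 8, 10, 11]

theorem bB {X : Type*} [Group X] (z : ℕ → X) (hz : ∀ w ∈ K1, wval z w = 1) :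
    (gp z [[0], [2], [4], [6], [8], [10], [14], [20], [22]]).relIndex (gp z [[0], [2], [4], [6], [8], [10], [14], [16], [20], [22]]) ≠ 0 ∧
    (gp z [[0], [2], [4], [6], [8], [10], [14], [20], [22]]).relIndex (gp z [[0], [2], [4], [6], [8], [10], [14], [16], [20], [22]]) ≤ 28431 :=
  tc_wrap I1 hz [[0], [2], [4], [6], [8], [10], [14], [16], [20], [22]] TCFi24B.bound _ _ (by decide +kernel)

theorem bC {X : Type*} [Group X] (z : ℕ → X) (hz : ∀ w ∈ K1, wval z w = 1) :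
    (gp z [[0], [2], [4], [6], [8], [10], [14]]).relIndex (gp z [[0], [2], [4], [6], [8], [10], [14], [20], [22]]) ≠ 0 ∧
    (gp z [[0], [2], [4], [6], [8], [10], [14]]).relIndex (gp z [[0], [2], [4], [6], [8], [10], [14], [20], [22]]) ≤ 120 :=
  tc_wrap I1 hz [[0], [2], [4], [6], [8], [10], [14], [20], [22]] TCFi24C.bound _ _ (by decide +kernel)

theorem bE7 {X : Type*} [Group X] (z : ℕ → X) (hz : ∀ w ∈ K1, wval z w = 1) :
    (gp z [[2], [4], [6], [8], [10], [14]]).relIndex (gp z [[0], [2], [4], [6], [8], [10], [14]]) ≠ 0 ∧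
    (gp z [[2], [4], [6], [8], [10], [14]]).relIndex (gp z [[0], [2], [4], [6], [8], [10], [14]]) ≤ 56 :=
  tc_wrap I1 hz [[10], [8], [6], [4], [2], [0], [14]] TCFiE7.bound _ _ (by decide +kernel)

theorem bE6 {X : Type*} [Group X] (z : ℕ → X) (hz : ∀ w ∈ K1, wval z w = 1) :
    (gp z [[4], [6], [8], [10], [14]]).relIndex (gp z [[2], [4], [6], [8], [10], [14]]) ≠ 0 ∧
    (gp z [[4], [6], [8], [10], [14]]).relIndex (gp z [[2], [4], [6], [8], [10], [14]]) ≤ 27 :=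
  tc_wrap I1 hz [[2], [4], [6], [8], [10], [14]] TCFiE6.bound _ _ (by decide +kernel)

theorem bD5 {X : Type*} [Group X] (z : ℕ → X) (hz : ∀ w ∈ K1, wval z w = 1) :
    (gp z [[4], [6], [8], [10]]).relIndex (gp z [[4], [6], [8], [10], [14]]) ≠ 0 ∧
    (gp z [[4], [6], [8], [10]]).relIndex (gp z [[4], [6], [8], [10], [14]]) ≤ 16 :=
  tc_wrap I1 hz [[4], [6], [8], [10], [14]] TCFiD5.bound _ _ (by decide +kernel)

theorem bA4 {X : Type*} [Group X] (z : ℕ → X) (hz : ∀ w ∈ K1, wval z w = 1) :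
    (gp z []).relIndex (gp z [[4], [6], [8], [10]]) ≠ 0 ∧
    (gp z []).relIndex (gp z [[4], [6], [8], [10]]) ≤ 120 :=
  tc_wrap I1 hz [[4], [6], [8], [10]] TCFiA4.bound _ _ (by decide +kernel)

theorem card_le {X : Type*} [Group X] (z : ℕ → X) (hz : ∀ w ∈ K1, wval z w = 1) :
    Nat.card (gp z [[0], [2], [4], [6], [8], [10], [14], [16], [20], [22]]) ≠ 0 ∧
    Nat.card (gp z [[0], [2], [4], [6], [8], [10], [14], [16], [20], [22]]) ≤ 9904359628800 :=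
  (card_le_of_relIndex (gp_mono (by decide)) (bB z hz)
    (card_le_of_relIndex (gp_mono (by decide)) (bC z hz)
    (card_le_of_relIndex (gp_mono (by decide)) (bE7 z hz)
    (card_le_of_relIndex (gp_mono (by decide)) (bE6 z hz)
    (card_le_of_relIndex (gp_mono (by decide)) (bD5 z hz)
    (card_le_of_relIndex (gp_mono (by decide)) (bA4 z hz)
    (card_gp_nil z)))))))

theorem hrels : ∀ w ∈ relW rels, wval nets.perm w = 1 :=
  relW_one (wval_eq_of_relsOn (K := 11) hv (by norm_num) rels0_0)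

theorem hdefs : ∀ w ∈ defRels 12 defs, wval nets.perm w = 1 :=
  derive I1 hrels _ (by decide +kernel)

theorem mem_ls (goal : List (List ℕ))
    (h : slpB (defRels 12 defs) goal [[0], [2], [4], [6], [8], [10], [14], [16], [20], [22]]
      [(12, [4, 6, 8, 10, 14, 12, 6, 8, 4, 6, 12, 14, 10, 8, 6, 12]), (13, [6, 8, 20, 6, 20, 6, 20, 8, 6, 21])] = true) :
    ∀ w ∈ goal, wval nets.perm w ∈ gp nets.perm [[0], [2], [4], [6], [8], [10], [14], [16], [20], [22]] :=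
  mem_of_slp hdefs goal _ _ le_rfl h

theorem card_ge (_ : Finite (gp nets.perm [[0], [2], [4], [6], [8], [10], [14], [16], [20], [22]])) :
    9904359628800 ≤ Nat.card (gp nets.perm [[0], [2], [4], [6], [8], [10], [14], [16], [20], [22]]) := by
  rw [← fixer_nil (gp nets.perm _)]
  exact (le_card_fixer hv [[0], [2], [4], [6], [8], [10], [14], [16], [20], [22]] (mem_ls _ (by decide +kernel)) [] 0 [8, 0, 9, 1, 2, 8, 3, 0, 4, 6, 5, 7, 3, 2, 1, 4, 6, 3, 2, 0, 4, 6, 1, 5, 7, 0, 8, 3, 9, 4, 0, 6] 0 1080 1080 ch_0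
    (le_card_fixer hv [[0], [2], [4], [6], [8], [10], [14], [16], [22]] (mem_ls _ (by decide +kernel)) [0] 1 [0, 8, 1, 2, 3, 4, 6, 5, 7, 3, 2, 1, 4, 6, 3, 0, 2, 4, 6, 1, 3, 0, 5, 7, 2, 4, 1, 3, 6, 2, 3, 2] 1 1079 728 ch_1
    (le_card_fixer hv [[2], [4], [6], [8], [10], [14], [16]] (mem_ls _ (by decide +kernel)) [1, 0] 3 [0, 1, 2, 3, 5, 4, 6, 2, 1, 0, 3, 5, 2, 1, 3, 5, 4, 6, 2, 0, 3, 5, 1, 2, 1, 3, 4] 3 1060 243 ch_2
    (le_card_fixer hv [[4], [6], [8], [10], [14], [16]] (mem_ls _ (by decide +kernel)) [3, 1, 0] 15 [0, 4, 5, 1, 4, 1, 2, 0, 3, 1, 2] 15 686 90 ch_3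
    (le_card_fixer hv [[6], [8], [24]] (mem_ls _ (by decide +kernel)) [15, 3, 1, 0] 151 [0, 2, 0, 1, 2, 0, 2, 2, 0] 151 556 32 ch_4
    (le_card_fixer hv [[8], [25, 6, 24], [26]] (mem_ls _ (by decide +kernel)) [151, 15, 3, 1, 0] 6 [0, 2, 2, 1] 6 506 9 ch_5
    (le_card_fixer hv [[25, 6, 24]] (mem_ls _ (by decide +kernel)) [6, 151, 15, 3, 1, 0] 7 [0] 7 2 2 ch_6
    (one_le_card_fixer _))))))))

/-- The derived relators: the spider relator, two `E8` relators and a second `E7` relator. -/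
def R : List (List ℕ) := [rep 10 [6, 4, 2, 6, 8, 10, 6, 14, 16], rep 15 [20, 0, 2, 4, 6, 8, 10, 14],
  rep 15 [20, 0, 2, 4, 6, 8, 14, 16], 22 :: rep 9 [0, 2, 4, 6, 8, 14, 16]]

theorem hR : ∀ w ∈ R, wval y w = 1 :=
  rels_of_model (K := K1) (derive I hK _ (by decide +kernel)) (derive I1 hrels _ (by decide +kernel))
    card_le card_ge (by decide +kernel) (derive I1 hrels _ (by decide +kernel))

end Cfsg.Agent.Lib.Fi24M
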