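import Cfsg.Agent.Lib.Fi24MN0

set_option autoImplicit false
set_option maxRecDepth 100000

namespace Cfsg.Agent.Lib.Fi24M
open Cfsg.Agent.Lib.PermNet

noncomputable def nets : NL := (.cons net0 (.cons net1 (.cons net2 (.cons net3 (.cons net4 (.cons net5 (.cons net6 (.cons net7 (.cons net8 (.cons net9 (.cons net10 (.cons net11 (.cons net12 (.cons net13 .nil))))))))))))))

theorem hv : nets.Valid 1080 := ⟨valid0, ⟨valid1, ⟨valid2, ⟨valid3, ⟨valid4, ⟨valid5, ⟨valid6, ⟨valid7, ⟨valid8, ⟨valid9, ⟨valid10, ⟨valid11, ⟨valid12, ⟨valid13, trivial⟩⟩⟩⟩⟩⟩⟩⟩⟩⟩⟩⟩⟩⟩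

def rels0 : List (List Nat × List Nat) := [([0, 0], []),
  ([2, 2], []),
  ([4, 4], []),
  ([6, 6], []),
  ([8, 8], []),
  ([10, 10], []),
  ([14, 14], []),
  ([16, 16], []),
  ([20, 20], []),
  ([22, 22], []),
  ([0, 2, 0], [2, 0, 2]),
  ([0, 4], [4, 0]),
  ([0, 6], [6, 0]),
  ([0, 8], [8, 0]),
  ([0, 10], [10, 0]),
  ([0, 14], [14, 0]),
  ([0, 16], [16, 0]),
  ([0, 20, 0], [20, 0, 20]),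
  ([0, 22], [22, 0]),
  ([2, 4, 2], [4, 2, 4]),
  ([2, 6], [6, 2]),
  ([2, 8], [8, 2]),
  ([2, 10], [10, 2]),
  ([2, 14], [14, 2]),
  ([2, 16], [16, 2]),
  ([2, 20], [20, 2]),
  ([2, 22], [22, 2]),
  ([4, 6, 4], [6, 4, 6]),
  ([4, 8], [8, 4]),
  ([4, 10], [10, 4]),
  ([4, 14], [14, 4]),
  ([4, 16], [16, 4]),
  ([4, 20], [20, 4]),
  ([4, 22], [22, 4]),
  ([6, 8, 6], [8, 6, 8]),
  ([6, 10], [10, 6]),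
  ([6, 14, 6], [14, 6, 14]),
  ([6, 16], [16, 6]),
  ([6, 20], [20, 6]),
  ([6, 22], [22, 6]),
  ([8, 10, 8], [10, 8, 10]),
  ([8, 14], [14, 8]),
  ([8, 16], [16, 8]),
  ([8, 20], [20, 8]),
  ([8, 22], [22, 8]),
  ([10, 14], [14, 10]),
  ([10, 16], [16, 10]),
  ([10, 20], [20, 10]),
  ([10, 22], [22, 10]),
  ([14, 16, 14], [16, 14, 16]),
  ([14, 20], [20, 14]),
  ([14, 22], [22, 14]),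
  ([16, 20], [20, 16]),
  ([16, 22], [22, 16]),
  ([20, 22, 20], [22, 20, 22]),
  ([22, 14, 10, 8, 6, 4, 2, 0, 14, 10, 8, 6, 4, 2, 0, 14, 10, 8, 6, 4, 2, 0, 14, 10, 8, 6, 4, 2, 0, 14, 10, 8], [0, 2, 4, 6, 8, 10, 14, 0, 2, 4, 6, 8, 10, 14, 0, 2, 4, 6, 8, 10, 14, 0, 2, 4, 6, 8, 10, 14, 0, 2, 4, 6]),
  ([25, 4, 6, 8, 10, 16, 14, 6, 8, 4, 6, 14, 16, 10, 8, 6, 14], []),
  ([27, 6, 8, 24, 6, 24, 6, 24, 8, 6, 25], []),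
  ([6, 4, 2, 6, 8, 10, 6, 14, 16, 6, 4, 2, 6, 8, 10, 6, 14, 16, 6, 4, 2, 6, 8, 10, 6, 14, 16, 6, 4, 2, 6, 8, 10, 6, 14, 16, 6, 4, 2, 6, 8, 10, 6, 14, 16], [16, 14, 6, 10, 8, 6, 2, 4, 6, 16, 14, 6, 10, 8, 6, 2, 4, 6, 16, 14, 6, 10, 8, 6, 2, 4, 6, 16, 14, 6, 10, 8, 6, 2, 4, 6, 16, 14, 6, 10, 8, 6, 2, 4, 6]),
  ([20, 0, 2, 4, 6, 8, 10, 14, 20, 0, 2, 4, 6, 8, 10, 14, 20, 0, 2, 4, 6, 8, 10, 14, 20, 0, 2, 4, 6, 8, 10, 14, 20, 0, 2, 4, 6, 8, 10, 14, 20, 0, 2, 4, 6, 8, 10, 14, 20, 0, 2, 4, 6, 8, 10, 14, 20, 0, 2, 4], [14, 10, 8, 6, 4, 2, 0, 20, 14, 10, 8, 6, 4, 2, 0, 20, 14, 10, 8, 6, 4, 2, 0, 20, 14, 10, 8, 6, 4, 2, 0, 20, 14, 10, 8, 6, 4, 2, 0, 20, 14, 10, 8, 6, 4, 2, 0, 20, 14, 10, 8, 6, 4, 2, 0, 20, 14, 10, 8, 6]),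
  ([20, 0, 2, 4, 6, 8, 14, 16, 20, 0, 2, 4, 6, 8, 14, 16, 20, 0, 2, 4, 6, 8, 14, 16, 20, 0, 2, 4, 6, 8, 14, 16, 20, 0, 2, 4, 6, 8, 14, 16, 20, 0, 2, 4, 6, 8, 14, 16, 20, 0, 2, 4, 6, 8, 14, 16, 20, 0, 2, 4], [16, 14, 8, 6, 4, 2, 0, 20, 16, 14, 8, 6, 4, 2, 0, 20, 16, 14, 8, 6, 4, 2, 0, 20, 16, 14, 8, 6, 4, 2, 0, 20, 16, 14, 8, 6, 4, 2, 0, 20, 16, 14, 8, 6, 4, 2, 0, 20, 16, 14, 8, 6, 4, 2, 0, 20, 16, 14, 8, 6]),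
  ([22, 0, 2, 4, 6, 8, 14, 16, 0, 2, 4, 6, 8, 14, 16, 0, 2, 4, 6, 8, 14, 16, 0, 2, 4, 6, 8, 14, 16, 0, 2, 4], [16, 14, 8, 6, 4, 2, 0, 16, 14, 8, 6, 4, 2, 0, 16, 14, 8, 6, 4, 2, 0, 16, 14, 8, 6, 4, 2, 0, 16, 14, 8, 6])]
def rels : List (List Nat × List Nat) := rels0

def defs : List (List Nat) := [[4, 6, 8, 10, 16, 14, 6, 8, 4, 6, 14, 16, 10, 8, 6, 14], [6, 8, 24, 6, 24, 6, 24, 8, 6, 25]]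

end Cfsg.Agent.Lib.Fi24M
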