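import Cfsg.Agent.Lib.Fis22A

/-! Fi22: generators of centralisers. -/

set_option autoImplicit false
set_option maxRecDepth 100000
set_option Elab.async false

namespace Cfsg.Agent.Lib.Fis22

open Cfsg Subgroup Cfsg.Agent.Lib.FisCore Cfsg.Agent.Lib.FisLoc Cfsg.Agent.Lib.FisPrim
  Cfsg.Agent.Lib.PermNet Cfsg.Agent.Lib.Words Cfsg.Agent.Lib.PermGroup Cfsg.Agent.Lib.FisPM
  Cfsg.Agent.Lib.Fi22A

def ps : List Desc := [(0, []), (6, []), (2, []), (3, []), (4, []), (7, []), (8, []), (9, []), (4, [10, 12, 18, 10])]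

theorem upX : Nat.card (fixer phi.range [192, 0]) ≤ 26542080 :=
  P.card_fixer_leI [[4], [6], [8], [10], [12], [14], [16], [18]] [0] 192 ([(192, 3), (129, 2), (79, 1), (47, 0), (129, 4), (84, 2), (50, 1), (25, 0), (50, 3), (28, 1), (10, 0), (10, 2), (22, 0), (14, 1), (47, 5), (24, 0), (16, 1), (31, 2), (55, 3), (24, 4), (9, 0), (5, 1), (12, 2), (9, 3), (2, 0), (1, 1), (2, 2), (8, 0), (8, 1), (24, 6), (48, 0), (39, 1), (58, 2), (93, 3), (48, 4), (26, 0), (18, 1), (32, 2), (26, 3), (11, 0), (7, 1), (11, 2), (23, 0), (23, 1), (58, 5), (99, 2), (147, 1), (213, 0), (147, 3), (211, 1), (285, 0), (285, 2), (358, 0), (422, 1), (99, 4), (60, 2), (95, 1), (150, 0), (60, 3), (45, 5), (491, 5), (572, 6), (129, 7)], [7, 3, 6, 2, 4, 1, 5, 3, 7, 3]) 1 22 693 (by decide +kernel) (up1.trans_lt (by norm_num))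

theorem upY : Nat.card (fixer phi.range [695, 0]) ≤ 6531840 :=
  P.card_fixer_leI [[0], [4], [6], [8], [10], [12], [14], [16], [18]] [0] 695 ([(695, 0), (695, 1), (697, 0), (697, 2), (699, 0), (699, 3), (702, 0), (702, 4), (707, 0), (707, 5), (716, 0), (699, 6), (703, 0), (703, 3), (708, 0), (708, 2), (719, 0), (719, 1), (738, 0), (708, 4), (717, 0), (717, 2), (734, 0), (734, 1), (765, 0), (734, 3), (766, 0), (766, 1), (750, 0), (750, 2), (726, 0), (717, 5), (732, 0), (732, 2), (760, 0), (760, 1), (802, 0), (760, 3), (803, 0), (803, 1), (781, 0), (781, 2), (744, 0), (803, 4), (865, 0), (865, 1), (831, 0), (831, 2), (783, 0), (783, 3), (835, 0), (726, 6), (712, 0), (712, 5), (723, 0), (723, 4), (745, 0), (745, 3), (785, 0), (785, 2), (838, 0), (838, 1), (919, 0)], [7, 8, 6, 2, 4, 3, 1, 7, 2, 4, 5, 6, 2, 3, 1, 7, 4]) 694 88 2816 (by decide +kernel) (up1.trans_lt (by norm_num))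

theorem lowX5 : 2 ≤ Nat.card (fixer (gp nets.perm (ps.map nd.W)) [28, 22, 36, 84, 695]) :=
  P.lower (ps.map nd.W) [[12]] [28, 22, 36, 84, 695] 21 ([(21, 0)], []) 21 1 2 (by decide +kernel) (P.lower_one _ _)

theorem lowX4 : 2 ≤ Nat.card (fixer (gp nets.perm (ps.map nd.W)) [22, 36, 84, 695]) :=
  P.lower (ps.map nd.W) [] [22, 36, 84, 695] 28 ([], []) 28 1 1 (by decide +kernel) lowX5

theorem lowX3 : 24 ≤ Nat.card (fixer (gp nets.perm (ps.map nd.W)) [36, 84, 695]) :=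
  P.lower (ps.map nd.W) [[10], [12], [8, 16, 14, 2]] [36, 84, 695] 22 ([(22, 0), (8, 1), (22, 2), (196, 0), (196, 1), (269, 0), (135, 1), (204, 0), (23, 2), (418, 1), (349, 0)], []) 8 13 12 (by decide +kernel) lowX4

theorem lowX2 : 648 ≤ Nat.card (fixer (gp nets.perm (ps.map nd.W)) [84, 695]) :=
  P.lower (ps.map nd.W) [[6], [10], [12], [8, 16, 14, 2]] [84, 695] 36 ([(36, 0), (14, 1), (4, 2), (14, 3), (165, 0), (165, 1), (165, 2), (238, 0), (238, 1), (315, 0), (314, 1), (393, 0), (114, 2), (172, 1), (249, 0), (15, 3), (401, 0), (469, 1), (401, 2), (318, 0), (318, 1), (314, 3), (572, 1), (491, 0), (572, 2), (330, 3)], []) 4 20 27 (by decide +kernel) lowX3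

theorem lowX1 : 51840 ≤ Nat.card (fixer (gp nets.perm (ps.map nd.W)) [695]) :=
  P.lower (ps.map nd.W) [[2], [6], [8], [10], [12], [14], [16]] [695] 84 ([(84, 0), (84, 2), (50, 0), (50, 1), (25, 0), (25, 3), (9, 0), (9, 4), (26, 0), (84, 5), (138, 0), (138, 2), (85, 0), (85, 1), (51, 0), (51, 3), (27, 0), (138, 4), (186, 0), (186, 2), (139, 0), (139, 1), (86, 0), (186, 3), (126, 0), (126, 1), (78, 0), (126, 2), (188, 0), (188, 1), (264, 0), (78, 2), (127, 0), (127, 1), (190, 0), (86, 3), (140, 0), (140, 1), (208, 0), (208, 2), (143, 0), (27, 4), (53, 0), (53, 3), (89, 0), (89, 1), (141, 0), (141, 2), (87, 0), (26, 5), (52, 0), (52, 4), (88, 0), (88, 3), (144, 0), (144, 1), (90, 0), (90, 2), (54, 0), (26, 6), (267, 0), (267, 1), (343, 0)], [5, 2, 4, 3]) 9 13 80 (by decide +kernel) lowX2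

theorem lowX0 : 26542080 ≤ Nat.card (fixer (gp nets.perm (ps.map nd.W)) []) :=
  P.lower (ps.map nd.W) [[0], [4], [6], [8], [10], [12], [16]] [] 695 ([(695, 0), (695, 1), (697, 0), (697, 2), (699, 0), (699, 3), (702, 0), (699, 4), (703, 0), (703, 3), (708, 0), (708, 2), (719, 0), (719, 1), (738, 0), (703, 5), (709, 0), (709, 3), (720, 0), (720, 2), (739, 0), (739, 1), (772, 0), (739, 4), (773, 0), (773, 1), (756, 0), (756, 2), (730, 0), (730, 3), (715, 0), (699, 6), (763, 0), (763, 3), (809, 0), (809, 2), (876, 0), (876, 1), (969, 0), (763, 4), (807, 0), (807, 2), (869, 0), (869, 1), (827, 0), (807, 3), (873, 0), (763, 5), (810, 0), (810, 3), (877, 0), (877, 2), (970, 0), (970, 1), (1102, 0), (810, 4), (878, 0), (878, 2), (973, 0), (973, 1), (1108, 0), (878, 3), (971, 0)], [5, 4, 2, 3, 6, 2, 1, 5, 4, 2, 5, 3, 1]) 694 77 512 (by decide +kernel) lowX1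

def ys : List Desc := [(3, []), (4, []), (5, []), (6, []), (7, []), (8, []), (9, [])]

theorem lowY4 : 2 ≤ Nat.card (fixer (gp nets.perm (ys.map nd.W)) [192, 84, 28, 22]) :=
  P.lower (ys.map nd.W) [[10]] [192, 84, 28, 22] 21 ([(21, 0)], []) 21 1 2 (by decide +kernel) (P.lower_one _ _)

theorem lowY3 : 24 ≤ Nat.card (fixer (gp nets.perm (ys.map nd.W)) [84, 28, 22]) :=
  P.lower (ys.map nd.W) [[10], [6, 4, 8, 0, 2, 0, 8, 4, 6], [12, 4, 8, 0, 2, 0, 8, 4, 12]] [84, 28, 22] 192 ([(192, 1), (9, 0), (192, 2), (49, 0), (49, 1), (187, 0), (83, 1), (81, 0), (26, 2), (88, 0), (52, 1)], []) 9 13 12 (by decide +kernel) lowY4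

theorem lowY2 : 648 ≤ Nat.card (fixer (gp nets.perm (ys.map nd.W)) [28, 22]) :=
  P.lower (ys.map nd.W) [[6], [10], [12], [4, 8, 0, 2, 0, 8, 4]] [28, 22] 84 ([(84, 0), (84, 2), (138, 0), (138, 1), (186, 0), (84, 3), (2, 1), (11, 2), (193, 3), (82, 1), (136, 2), (186, 3), (54, 0), (54, 2), (87, 0), (87, 1), (143, 0), (263, 3), (276, 0), (276, 1), (200, 0), (276, 2), (355, 0), (142, 3), (347, 2), (269, 1)], []) 2 12 27 (by decide +kernel) lowY3

theorem lowY1 : 51840 ≤ Nat.card (fixer (gp nets.perm (ys.map nd.W)) [22]) :=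
  P.lower (ys.map nd.W) [[0], [4], [6], [10], [12], [8, 0, 2, 0, 8]] [22] 28 ([(28, 0), (28, 1), (50, 0), (50, 2), (79, 0), (50, 4), (85, 0), (85, 2), (130, 0), (130, 1), (194, 0), (85, 3), (139, 0), (139, 2), (195, 0), (195, 1), (268, 0), (268, 4), (345, 0), (28, 5), (8, 0), (8, 3), (23, 0), (23, 4), (46, 0), (46, 1), (78, 0), (78, 2), (128, 0), (194, 5), (135, 0), (135, 3), (204, 0), (204, 4), (281, 0), (281, 1), (341, 0), (341, 2), (264, 0), (139, 5), (127, 0), (127, 1), (90, 0), (127, 2), (191, 0), (191, 1), (267, 0), (90, 2), (145, 0), (145, 1), (210, 0), (90, 4), (141, 0), (141, 2), (207, 0), (207, 1), (282, 0), (141, 3), (208, 0), (208, 2), (272, 0), (272, 1), (348, 0)], [4, 3]) 8 13 80 (by decide +kernel) lowY2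

theorem lowY0 : 6531840 ≤ Nat.card (fixer (gp nets.perm (ys.map nd.W)) []) :=
  P.lower (ys.map nd.W) [[0], [2], [4], [6], [8], [10], [12]] [] 22 ([(22, 1), (10, 0), (10, 2), (25, 0), (50, 1), (25, 3), (47, 0), (79, 1), (129, 2), (22, 4), (8, 0), (8, 1), (2, 2), (9, 3), (8, 5), (23, 0), (23, 1), (11, 2), (26, 3), (45, 4), (25, 6), (51, 0), (85, 1), (138, 2), (51, 3), (80, 0), (130, 1), (80, 2), (131, 0), (131, 1), (51, 4), (27, 3), (49, 2), (82, 1), (135, 0), (51, 5), (86, 0), (139, 1), (186, 2), (86, 3), (132, 0), (195, 1), (132, 2), (197, 0), (197, 1), (86, 4), (140, 0), (208, 1), (143, 2), (140, 3), (198, 0), (272, 1), (198, 2), (270, 0), (270, 1), (346, 0), (348, 1), (283, 0), (209, 2), (276, 1), (354, 0), (88, 3), (134, 2)], [5, 4, 0, 1, 3]) 2 14 126 (by decide +kernel) lowY1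

theorem memX (g : Spor.Fi22) (h1 : Commute g d) (h2 : Commute g (el nd Y ta)) :
    g ∈ gp Y (ps.map nd.W) :=
  P.mem_gp_of_card (by decide +kernel) upX lowX0
    (P.fix_of_at (ts := [ta, td]) (by decide +kernel) (by simp [el_d, h1, h2]))

theorem memY (g : Spor.Fi22) (h1 : Commute g d) (h2 : Commute g (el nd Y tj)) :
    g ∈ gp Y (ys.map nd.W) :=
  P.mem_gp_of_card (by decide +kernel) upY lowY0
    (P.fix_of_at (ts := [tj, td]) (by decide +kernel) (by simp [el_d, h1, h2]))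

end Cfsg.Agent.Lib.Fis22
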