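import Cfsg.Agent.Lib.Fis22P
import Cfsg.Agent.Lib.FisInv

/-! The involutions of Fi22 are products of at most three commuting transpositions. -/

set_option autoImplicit false
set_option maxRecDepth 100000

namespace Cfsg.Agent.Lib.Fis22

open Cfsg Subgroup Cfsg.Agent.Lib.FisCore Cfsg.Agent.Lib.FisLoc Cfsg.Agent.Lib.FisPrim
  Cfsg.Agent.Lib.PermNet Cfsg.Agent.Lib.Words Cfsg.Agent.Lib.PermGroup Cfsg.Agent.Lib.FisPM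
  Cfsg.Agent.Lib.FisInv Cfsg.Agent.Lib.Fi22A

def ts : List Desc := [(0, []), (2, []), (4, []), (7, []), (6, []), (9, []), (2, [6, 8, 14, 6]), (4, [10, 12, 18, 10]), (2, [6, 8, 10, 12, 14, 6, 8, 10]), (2, [6, 8, 10, 12, 14, 6, 8, 10, 16, 14, 18, 16]), (0, [2, 4, 6, 8, 14, 6, 4, 2]), (2, [6, 8, 10, 12, 14, 6, 18, 10]), (3, [8, 10, 12, 14, 18, 10, 8, 6]), (2, [6, 8, 10, 12, 18, 10, 8, 6]), (2, [6, 8, 10, 12, 14, 6, 18, 10, 16, 14, 18, 16]), (2, [6, 8, 10, 12, 18, 10, 8, 6, 16, 14, 18, 16]), (0, [2, 4, 6, 8, 10, 12, 18, 10, 8, 6, 4, 2]), (0, [2, 4, 6, 8, 10, 12, 18, 10, 8, 6, 4, 2, 16, 14, 18, 16]), (2, [6, 8, 10, 12, 14, 6, 8, 10, 16, 14, 6, 4, 18, 16, 14, 6]), (2, [6, 8, 10, 12, 14, 6, 8, 10, 16, 14, 6, 8, 18, 16, 14, 6]), (2, [6, 8, 10, 12, 14, 6, 8, 10, 16, 14, 18, 10, 8, 12, 10, 16]), (2, [6, 8, 10, 12, 14, 6,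 8, 10, 16, 14, 18, 10, 8, 16, 18, 10])]

def cs : List ℕ := [1, 2, 4, 8, 16, 32, 64, 128, 256, 512, 111, 411, 188, 489, 655, 762, 350, 601, 810, 829, 1015, 972]

theorem base : Base d (tup nd Y ts) ts.length 10 cs := base_of_baseB P.toPM0 hd2 (by decide +kernel)

theorem up2 : Nat.card (fixer phi.range [36, 0]) ≤ 26542080 :=
  P.card_fixer_leI [[4], [6], [8], [10], [12], [14], [16], [18]] [0] 36 ([(36, 1), (14, 0), (14, 2), (6, 0), (10, 1), (6, 3), (17, 0), (25, 1), (50, 2), (17, 4), (38, 0), (47, 1), (79, 2), (129, 3), (14, 5), (4, 0), (8, 1), (4, 2), (1, 0), (1, 1), (1, 3), (5, 0), (5, 1), (12, 2), (5, 4), (16, 0), (16, 1), (31, 2), (55, 3), (4, 6), (15, 0), (23, 1), (15, 2), (7, 0), (7, 1), (7, 3), (18, 0), (18, 1), (32, 2), (18, 4), (39, 0), (39, 1), (58, 2), (93, 3), (45, 5), (13, 5), (34, 3), (60, 2), (95,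 1), (150, 0), (60, 4), (99, 2), (147, 1), (213, 0), (147, 3), (211, 1), (285, 0), (285, 2), (358, 0), (422, 1), (491, 5), (572, 6), (17, 7)], [7, 3, 6, 2, 4, 1, 5, 3, 7, 3]) 1 22 693 (by decide +kernel) (up1.trans_lt (by norm_num))

theorem up3 : Nat.card (fixer phi.range [28, 36, 0]) ≤ 147456 :=
  P.card_fixer_leI [[8], [10], [12], [14], [16], [18], [7, 15, 9, 7, 4, 6, 8, 14, 6]] [36, 0] 28 ([(28, 1), (50, 0), (50, 2), (79, 0), (129, 1), (50, 5), (85, 0), (138, 1), (85, 2), (130, 0), (130, 1), (85, 4), (139, 0), (186, 1), (139, 2), (195, 0), (195, 1), (139, 3), (188, 0), (126, 1), (188, 2), (265, 0), (265, 1), (125, 5), (76, 3), (45, 4), (268, 5), (345, 3), (279, 4), (50, 6), (30, 0), (12, 1), (30, 2), (55, 0), (55, 1), (30, 4), (56, 0), (32, 1), (56, 2), (93, 0), (93, 1), (56, 3), (95, 0), (60, 1), (95, 2), (147,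 0), (147, 1), (30, 5), (57, 0), (57, 1), (57, 2), (94, 0), (59, 1), (57, 4), (98, 0), (98, 1), (98, 2), (149, 0), (102, 1), (98, 3), (64, 0), (64, 1), (64, 2)], [5, 1, 0, 2, 3, 4, 6, 1, 4]) 3 22 180 (by decide +kernel) (up2.trans_lt (by norm_num))

theorem up4 : Nat.card (fixer phi.range [21, 28, 36, 0]) ≤ 3072 :=
  P.card_fixer_leI [[12], [14], [16], [18], [7, 15, 9, 7, 4, 6, 8, 14, 6], [11, 19, 13, 11, 8, 10, 12, 18, 10], [11, 9, 7, 15, 13, 11, 9, 7, 4, 6, 8, 10, 12, 14, 6, 8, 10]] [28, 36, 0] 21 ([(21, 2), (45, 1), (45, 3), (77, 1), (125, 2), (45, 4), (34, 1), (13, 2), (34, 3), (63, 1), (63, 2), (45, 5), (342, 1), (268, 2), (342, 3), (279, 1), (279, 2), (342, 4), (591, 1), (591, 2), (591, 3), (540, 1), (599, 2), (45, 6), (211, 1), (146, 2), (211, 3), (286, 1), (286, 2), (211, 4), (572, 1), (572, 2), (572, 3),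 (642, 1), (573, 2), (211, 5), (157, 1), (157, 2), (157, 3), (228, 1), (308, 2), (157, 4), (394, 1), (467, 2), (394, 3), (314, 1), (314, 2)], []) 3 21 48 (by decide +kernel) (up3.trans_lt (by norm_num))

theorem up5 : Nat.card (fixer phi.range [192, 21, 28, 36, 0]) ≤ 1024 :=
  P.card_fixer_leI [[10, 8, 10, 12, 10, 12, 10, 8, 10, 18, 10, 18, 16, 14, 16, 18, 16, 18, 6, 4, 6, 10, 18, 12, 10, 8, 6, 8, 10, 12, 18, 8, 10, 12, 10, 12, 16, 14, 16, 18, 16, 18, 8, 6, 8, 10, 18, 12, 10, 8, 6, 8, 10, 12, 18, 10, 16, 14, 16, 18, 16, 18, 6, 4, 6, 10, 18, 12, 10, 8, 6, 8, 10, 12, 18, 10, 16, 14, 16, 18, 16, 18]] [21, 28, 36, 0] 192 ([(192, 0), (655, 0)], []) 192 15 3 (by decide +kernel) (up4.trans_lt (by norm_num))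

theorem lowA : 1024 ≤ Nat.card (fixer (gp nets.perm (ts.map nd.W)) []) :=
  (P.lower (ts.map nd.W) [[2], [4], [6], [14], [18]] [] 1 ([(1, 0), (1, 1), (4, 0), (1, 2), (6, 0), (6, 1), (14, 0), (1, 3), (114, 0), (114, 1), (68, 0), (114, 2), (165, 0), (165, 1), (110, 0), (1, 4), (647, 0), (647, 1), (578, 0), (647, 2), (575, 0), (575, 1), (494, 0), (647, 3), (463, 0), (463, 1), (545, 0), (463, 2), (546, 0), (546, 1), (631, 0)], []) 1 22 32 (by decide +kernel)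
    (P.lower (ts.map nd.W) [[0], [8], [10], [16], [20]] [1] 725 ([(725, 0), (725, 1), (743, 0), (725, 2), (751, 0), (751, 1), (782, 0), (725, 3), (996, 0), (996, 1), (901, 0), (996, 2), (1138, 0), (1138, 1), (1001, 0), (725, 4), (1417, 0), (1417, 1), (1618, 0), (1417, 2), (1218, 0), (1218, 1), (1379, 0), (1417, 3), (2315, 0), (2315, 1), (2643, 0), (2315, 2), (2021, 0), (2021, 1), (2415, 0)], []) 725 60 32 (by decide +kernel)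
    (P.lower_one _ _)))

theorem hc : 2 ^ 10 ≤ Nat.card base.grp :=
  (lowA.trans_eq (P.card_gp _)).trans (card_le_of_le (gp_le_grp base))

theorem hcen (g : Spor.Fi22) (hg : ∀ i < ts.length, Commute g (tup nd Y ts i)) : g ∈ base.grp := by
  refine gp_le_grp base (P.mem_gp_of_card (by decide +kernel) up5 lowA
    (P.fix_of_at (ts := [(6, []), (7, []), (4, []), (2, []), (0, [])]) (by decide +kernel) fun t ht => ?_))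
  have : t ∈ ts := by revert t; decide
  obtain ⟨i, hi, e⟩ := exists_tup (n := nd) (Y := Y) this
  exact e ▸ hg i hi

def cov : List (List ℕ) := [[], [0], [1], [0, 1], [2], [0, 2], [1, 2], [0, 1, 2], [3], [0, 3], [1, 3], [0, 1, 3], [2, 3], [0, 2, 3], [1, 2, 3], [5, 6, 10], [4], [0, 4], [1, 4], [0, 1, 4], [2, 4], [0, 2, 4], [0, 18, 19], [18, 19], [3, 4], [0, 3, 4], [1, 3, 4], [5, 20, 21], [2, 3, 4], [10, 11, 13], [6, 8, 16], [3, 18, 19], [5], [0, 5], [1, 5], [0, 1, 5], [2, 5], [0, 2, 5], [1, 2, 5], [3, 6, 10], [3, 5], [0, 3, 5], [1, 3, 5], [2, 6, 10], [2, 3, 5], [1, 6, 10], [0, 6, 10], [6, 10], [4, 5], [0, 4, 5], [1, 4, 5], [3, 20, 21], [2, 4, 5], [6, 14, 15], [8, 15, 21], [5, 18, 19], [2, 7, 12], [1, 20, 21], [0, 20, 21], [20, 21], [7, 12], [0, 7, 12], [1, 7, 12], [2, 20, 21], [6], [0, 6], [1, 6], [0, 1, 6], [2,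 6], [0, 2, 6], [1, 2, 6], [3, 5, 10], [3, 6], [0, 3, 6], [1, 3, 6], [2, 5, 10], [2, 3, 6], [1, 5, 10], [0, 5, 10], [5, 10], [4, 6], [0, 4, 6], [1, 4, 6], [7, 10, 12], [2, 4, 6], [5, 14, 15], [3, 8, 16], [6, 18, 19], [0, 9, 17], [9, 17], [2, 8, 16], [1, 9, 17], [1, 8, 16], [2, 9, 17], [8, 16], [0, 8, 16], [5, 6], [0, 5, 6], [1, 5, 6], [2, 3, 10], [2, 5, 6], [1, 3, 10], [0, 3, 10], [3, 10], [3, 5, 6], [1, 2, 10], [0, 2, 10], [2, 10], [0, 1, 10], [1, 10], [0, 10], [10], [1, 11, 13], [2, 14, 15], [11, 13], [0, 11, 13], [0, 14, 15], [14, 15], [2, 11, 13], [1, 14, 15], [8, 14, 20], [5, 9, 17], [3, 11, 13], [2, 4, 10], [6, 7, 12], [1, 4, 10], [0, 4, 10], [4, 10], [7], [0, 7], [1, 7], [0, 1, 7], [2, 7], [0, 2, 7], [1, 2, 7], [3, 9, 14], [3, 7], [0, 3, 7], [1, 3, 7], [2, 9, 14], [2, 3, 7], [1, 9, 14], [0, 9, 14], [9, 14],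 [4, 7], [0, 4, 7], [1, 4, 7], [3, 8, 11], [2, 4, 7], [8, 17, 21], [6, 14, 17], [5, 13, 16], [2, 5, 12], [1, 8, 11], [0, 8, 11], [8, 11], [5, 12], [0, 5, 12], [1, 5, 12], [2, 8, 11], [5, 7], [0, 5, 7], [0, 15, 17], [15, 17], [2, 5, 7], [8, 14, 18], [6, 18, 21], [2, 15, 17], [2, 4, 12], [6, 8, 13], [10, 11, 16], [3, 15, 17], [4, 12], [0, 4, 12], [1, 4, 12], [5, 9, 14], [2, 3, 12], [6, 19, 21], [8, 14, 19], [2, 13, 16], [3, 12], [0, 3, 12], [0, 13, 16], [13, 16], [2, 12], [0, 2, 12], [1, 2, 12], [5, 8, 11], [12], [0, 12], [1, 12], [0, 1, 12], [6, 7], [0, 6, 7], [1, 6, 7], [4, 10, 12], [0, 11, 16], [11, 16], [4, 14, 17], [1, 11, 16], [1, 19, 20], [5, 8, 13], [19, 20], [0, 19, 20], [8, 9, 21], [3, 11, 16], [2, 19, 20], [5, 7, 10], [4, 6, 7], [1, 10, 12], [0, 10, 12], [10, 12], [1, 14, 17], [3, 18, 20], [14, 17], [0, 14,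 17], [10, 13, 16], [2, 18, 20], [4, 19, 20], [3, 10, 12], [0, 18, 20], [18, 20], [3, 14, 17], [1, 18, 20], [5, 6, 7], [3, 8, 13], [2, 18, 21], [6, 15, 17], [1, 18, 21], [5, 11, 16], [18, 21], [0, 18, 21], [0, 8, 13], [8, 13], [4, 9, 15], [1, 8, 13], [4, 6, 12], [1, 7, 10], [0, 7, 10], [7, 10], [0, 19, 21], [19, 21], [3, 9, 15], [1, 19, 21], [3, 6, 12], [2, 19, 21], [4, 18, 21], [6, 13, 16], [1, 9, 15], [3, 19, 21], [9, 15], [0, 9, 15], [6, 12], [0, 6, 12], [1, 6, 12], [4, 7, 10], [8], [0, 8], [1, 8], [0, 1, 8], [2, 8], [0, 2, 8], [1, 2, 8], [5, 11, 12], [3, 8], [0, 3, 8], [1, 3, 8], [4, 7, 11], [0, 15, 20], [15, 20], [4, 6, 16], [1, 15, 20], [4, 8], [0, 4, 8], [1, 4, 8], [3, 7, 11], [2, 4, 8], [6, 12, 13], [3, 6, 16], [8, 18, 19], [3, 4, 8], [1, 7, 11], [0, 7, 11], [7, 11], [1, 6, 16], [4, 15, 20], [6, 16], [0, 6,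 16], [5, 8], [0, 5, 8], [1, 5, 8], [2, 11, 12], [2, 5, 8], [1, 11, 12], [0, 11, 12], [11, 12], [1, 9, 18], [6, 7, 13], [9, 18], [0, 9, 18], [10, 14, 21], [4, 9, 19], [2, 9, 18], [3, 11, 12], [0, 10, 16], [10, 16], [2, 15, 21], [1, 10, 16], [1, 15, 21], [2, 10, 16], [15, 21], [0, 15, 21], [6, 14, 20], [2, 9, 19], [4, 9, 18], [5, 7, 11], [0, 9, 19], [9, 19], [3, 15, 21], [1, 9, 19], [6, 8], [0, 6, 8], [0, 14, 21], [14, 21], [2, 6, 8], [4, 12, 13], [3, 4, 16], [2, 14, 21], [3, 6, 8], [5, 7, 13], [2, 4, 16], [3, 14, 21], [1, 4, 16], [6, 15, 20], [4, 16], [0, 4, 16], [4, 6, 8], [2, 12, 13], [2, 3, 16], [4, 14, 21], [0, 12, 13], [12, 13], [3, 16], [0, 3, 16], [1, 2, 16], [8, 9, 17], [2, 16], [0, 2, 16], [1, 16], [0, 1, 16], [16], [0, 16], [2, 17, 19], [3, 7, 13], [7, 12, 16], [4, 17, 18], [17, 19], [0, 17, 19], [1, 17,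 19], [3, 8, 10], [0, 7, 13], [7, 13], [6, 9, 18], [1, 7, 13], [3, 17, 19], [1, 8, 10], [0, 8, 10], [8, 10], [3, 14, 20], [1, 17, 18], [0, 17, 18], [17, 18], [4, 17, 19], [5, 12, 13], [3, 5, 16], [2, 17, 18], [14, 20], [0, 14, 20], [1, 14, 20], [3, 17, 18], [1, 5, 16], [6, 9, 19], [5, 16], [0, 5, 16], [7, 8], [0, 7, 8], [1, 7, 8], [3, 4, 11], [1, 10, 13], [4, 17, 21], [10, 13], [0, 10, 13], [3, 7, 8], [1, 4, 11], [0, 4, 11], [4, 11], [6, 9, 21], [7, 15, 20], [3, 10, 13], [2, 4, 11], [4, 7, 8], [1, 3, 11], [0, 3, 11], [3, 11], [0, 17, 21], [17, 21], [4, 10, 13], [1, 17, 21], [0, 1, 11], [1, 11], [0, 11], [11], [5, 8, 12], [1, 2, 11], [0, 2, 11], [2, 11], [5, 7, 8], [2, 14, 18], [4, 14, 19], [8, 15, 17], [0, 14, 18], [14, 18], [3, 17, 20], [1, 14, 18], [0, 6, 13], [6, 13], [2, 17, 20], [1, 6, 13], [1, 17, 20], [2, 6,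 13], [17, 20], [0, 17, 20], [1, 14, 19], [7, 10, 16], [14, 19], [0, 14, 19], [3, 8, 12], [4, 14, 18], [2, 14, 19], [6, 9, 20], [2, 8, 12], [1, 5, 11], [0, 5, 11], [5, 11], [8, 12], [0, 8, 12], [1, 8, 12], [2, 5, 11], [4, 15, 18], [3, 5, 13], [5, 12, 16], [2, 15, 19], [3, 9, 21], [1, 15, 19], [0, 15, 19], [15, 19], [0, 5, 13], [5, 13], [8, 19, 20], [1, 5, 13], [9, 21], [0, 9, 21], [1, 9, 21], [3, 15, 19], [15, 18], [0, 15, 18], [1, 15, 18], [3, 6, 11], [2, 15, 18], [6, 17, 21], [3, 7, 16], [4, 15, 19], [3, 15, 18], [1, 6, 11], [0, 6, 11], [6, 11], [1, 7, 16], [8, 18, 20], [7, 16], [0, 7, 16], [0, 3, 13], [3, 13], [12, 16], [0, 12, 16], [4, 10, 11], [2, 3, 13], [2, 12, 16], [4, 9, 20], [0, 13], [13], [0, 1, 13], [1, 13], [0, 2, 13], [2, 13], [6, 17, 20], [1, 2, 13], [2, 10, 11], [3, 4, 13], [4, 12, 16], [2, 9, 20],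 [10, 11], [0, 10, 11], [0, 9, 20], [9, 20], [0, 4, 13], [4, 13], [8, 9, 15], [1, 4, 13], [3, 10, 11], [2, 4, 13], [5, 7, 16], [3, 9, 20], [9], [0, 9], [1, 9], [0, 1, 9], [2, 9], [0, 2, 9], [1, 2, 9], [3, 7, 14], [3, 9], [0, 3, 9], [1, 3, 9], [2, 7, 14], [2, 3, 9], [1, 7, 14], [0, 7, 14], [7, 14], [4, 9], [0, 4, 9], [1, 4, 9], [5, 12, 14], [2, 4, 9], [7, 10, 15], [3, 13, 20], [6, 11, 21], [0, 6, 17], [6, 17], [2, 13, 20], [1, 6, 17], [1, 13, 20], [2, 6, 17], [13, 20], [0, 13, 20], [5, 9], [0, 5, 9], [1, 5, 9], [4, 12, 14], [0, 13, 21], [13, 21], [4, 10, 17], [1, 13, 21], [1, 8, 18], [7, 16, 20], [8, 18], [0, 8, 18], [6, 11, 20], [3, 13, 21], [2, 8, 18], [5, 7, 14], [4, 5, 9], [1, 12, 14], [0, 12, 14], [12, 14], [1, 10, 17], [3, 8, 19], [10, 17], [0, 10, 17], [10, 11, 21], [2, 8, 19], [4, 8, 18], [3, 12, 14], [0, 8,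 19], [8, 19], [3, 10, 17], [1, 8, 19], [6, 9], [0, 6, 9], [1, 6, 9], [5, 16, 19], [1, 12, 15], [8, 10, 18], [12, 15], [0, 12, 15], [0, 4, 17], [4, 17], [10, 13, 21], [1, 4, 17], [5, 11, 20], [2, 4, 17], [3, 12, 15], [5, 9, 10], [0, 3, 17], [3, 17], [8, 10, 19], [1, 3, 17], [5, 16, 18], [1, 11, 21], [0, 11, 21], [11, 21], [0, 17], [17], [0, 1, 17], [1, 17], [0, 2, 17], [2, 17], [6, 13, 20], [1, 2, 17], [5, 6, 9], [1, 16, 19], [0, 16, 19], [16, 19], [3, 11, 20], [6, 13, 21], [5, 12, 15], [2, 16, 19], [2, 11, 20], [4, 5, 17], [4, 7, 15], [2, 9, 10], [11, 20], [0, 11, 20], [0, 9, 10], [9, 10], [2, 16, 18], [3, 5, 17], [3, 7, 15], [4, 16, 19], [16, 18], [0, 16, 18], [1, 16, 18], [5, 11, 21], [0, 5, 17], [5, 17], [7, 15], [0, 7, 15], [3, 16, 18], [2, 5, 17], [2, 7, 15], [4, 9, 10], [7, 9], [0, 7, 9], [1, 7, 9], [2, 3,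 14], [2, 7, 9], [1, 3, 14], [0, 3, 14], [3, 14], [3, 7, 9], [1, 2, 14], [0, 2, 14], [2, 14], [0, 1, 14], [1, 14], [0, 14], [14], [1, 16, 21], [2, 10, 15], [16, 21], [0, 16, 21], [0, 10, 15], [10, 15], [2, 16, 21], [1, 10, 15], [8, 10, 20], [6, 7, 17], [3, 16, 21], [2, 4, 14], [5, 9, 12], [1, 4, 14], [0, 4, 14], [4, 14], [5, 7, 9], [3, 16, 20], [2, 11, 19], [8, 10, 21], [1, 11, 19], [6, 12, 17], [11, 19], [0, 11, 19], [0, 16, 20], [16, 20], [4, 6, 15], [1, 16, 20], [4, 9, 12], [1, 5, 14], [0, 5, 14], [5, 14], [0, 11, 18], [11, 18], [3, 6, 15], [1, 11, 18], [3, 9, 12], [2, 11, 18], [4, 11, 19], [6, 8, 20], [1, 6, 15], [3, 11, 18], [6, 15], [0, 6, 15], [9, 12], [0, 9, 12], [1, 9, 12], [4, 5, 14], [5, 10, 14], [1, 13, 18], [0, 13, 18], [13, 18], [3, 8, 21], [5, 12, 17], [7, 12, 15], [2, 13, 18], [2, 8, 21], [4, 7, 17],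 [4, 5, 15], [2, 6, 14], [8, 21], [0, 8, 21], [0, 6, 14], [6, 14], [2, 13, 19], [3, 7, 17], [3, 5, 15], [4, 13, 18], [13, 19], [0, 13, 19], [1, 13, 19], [5, 8, 20], [0, 7, 17], [7, 17], [5, 15], [0, 5, 15], [3, 13, 19], [2, 7, 17], [2, 5, 15], [4, 6, 14], [10, 14], [0, 10, 14], [1, 10, 14], [5, 13, 18], [0, 12, 17], [12, 17], [6, 11, 19], [1, 12, 17], [1, 4, 15], [6, 16, 20], [4, 15], [0, 4, 15], [5, 8, 21], [3, 12, 17], [2, 4, 15], [5, 6, 14], [1, 3, 15], [6, 11, 18], [3, 15], [0, 3, 15], [5, 13, 19], [1, 8, 20], [0, 8, 20], [8, 20], [1, 15], [0, 1, 15], [15], [0, 15], [1, 2, 15], [10, 16, 21], [2, 15], [0, 2, 15], [8, 9], [0, 8, 9], [1, 8, 9], [2, 16, 17], [2, 8, 9], [1, 16, 17], [0, 16, 17], [16, 17], [1, 5, 18], [10, 13, 14], [5, 18], [0, 5, 18], [6, 7, 21], [4, 5, 19], [2, 5, 18], [3, 16, 17], [2, 11, 14], [1,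 13, 15], [0, 13, 15], [13, 15], [11, 14], [0, 11, 14], [1, 11, 14], [2, 13, 15], [7, 10, 20], [2, 5, 19], [4, 5, 18], [3, 13, 15], [0, 5, 19], [5, 19], [6, 9, 16], [1, 5, 19], [1, 3, 18], [6, 11, 15], [3, 18], [0, 3, 18], [7, 15, 16], [3, 4, 19], [2, 3, 18], [5, 16, 17], [1, 18], [0, 1, 18], [18], [0, 18], [0, 4, 19], [4, 19], [2, 18], [0, 2, 18], [6, 12, 21], [2, 3, 19], [3, 4, 18], [5, 13, 15], [0, 3, 19], [3, 19], [8, 10, 17], [1, 3, 19], [0, 2, 19], [2, 19], [4, 18], [0, 4, 18], [0, 19], [19], [0, 1, 19], [1, 19], [6, 8, 9], [2, 10, 18], [4, 10, 19], [3, 12, 20], [0, 10, 18], [10, 18], [5, 13, 14], [1, 10, 18], [2, 7, 21], [1, 12, 20], [0, 12, 20], [12, 20], [7, 21], [0, 7, 21], [1, 7, 21], [2, 12, 20], [1, 10, 19], [3, 8, 17], [10, 19], [0, 10, 19], [6, 11, 14], [4, 10, 18], [2, 10, 19], [5, 7, 20], [0, 8, 17],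 [8, 17], [2, 9, 16], [1, 8, 17], [1, 9, 16], [2, 8, 17], [9, 16], [0, 9, 16], [0, 11, 15], [11, 15], [2, 13, 14], [1, 11, 15], [1, 13, 14], [2, 11, 15], [13, 14], [0, 13, 14], [1, 6, 18], [3, 11, 15], [6, 18], [0, 6, 18], [5, 7, 21], [4, 6, 19], [2, 6, 18], [8, 9, 10], [12, 21], [0, 12, 21], [1, 12, 21], [2, 7, 20], [2, 12, 21], [1, 7, 20], [0, 7, 20], [7, 20], [3, 12, 21], [2, 6, 19], [4, 6, 18], [10, 11, 14], [0, 6, 19], [6, 19], [5, 9, 16], [1, 6, 19], [0, 12, 19], [12, 19], [6, 11, 17], [1, 12, 19], [3, 6, 21], [2, 12, 19], [4, 12, 18], [3, 8, 14], [2, 6, 21], [3, 12, 19], [5, 7, 18], [2, 8, 14], [6, 21], [0, 6, 21], [0, 8, 14], [8, 14], [3, 10, 20], [4, 12, 19], [2, 12, 18], [3, 9, 11], [1, 12, 18], [8, 10, 15], [12, 18], [0, 12, 18], [10, 20], [0, 10, 20], [0, 9, 11], [9, 11], [2, 10, 20], [5, 7, 19], [3, 12,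 18], [2, 9, 11], [2, 15, 16], [1, 10, 21], [0, 10, 21], [10, 21], [15, 16], [0, 15, 16], [1, 15, 16], [2, 10, 21], [1, 7, 18], [6, 9, 13], [7, 18], [0, 7, 18], [3, 15, 16], [4, 7, 19], [2, 7, 18], [5, 8, 14], [13, 17], [0, 13, 17], [1, 13, 17], [2, 6, 20], [2, 13, 17], [1, 6, 20], [0, 6, 20], [6, 20], [3, 13, 17], [2, 7, 19], [4, 7, 18], [5, 9, 11], [0, 7, 19], [7, 19], [10, 14, 16], [1, 7, 19], [1, 11, 17], [4, 14, 16], [11, 17], [0, 11, 17], [3, 21], [0, 3, 21], [1, 3, 21], [4, 5, 20], [2, 21], [0, 2, 21], [1, 2, 21], [7, 12, 20], [21], [0, 21], [1, 21], [0, 1, 21], [0, 14, 16], [14, 16], [4, 11, 17], [1, 14, 16], [3, 4, 21], [1, 5, 20], [0, 5, 20], [5, 20], [2, 4, 21], [3, 14, 16], [5, 8, 15], [6, 9, 11], [4, 21], [0, 4, 21], [1, 4, 21], [3, 5, 20], [8, 10, 14], [3, 9, 13], [5, 11, 17], [2, 4, 20], [3, 5, 21],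 [1, 4, 20], [0, 4, 20], [4, 20], [0, 9, 13], [9, 13], [4, 8, 15], [1, 9, 13], [5, 21], [0, 5, 21], [1, 5, 21], [3, 4, 20], [6, 13, 17], [1, 2, 20], [0, 2, 20], [2, 20], [0, 1, 20], [1, 20], [0, 20], [20], [1, 8, 15], [4, 9, 13], [8, 15], [0, 8, 15], [4, 5, 21], [1, 3, 20], [0, 3, 20], [3, 20]]

theorem hcov : covB ts.length (2 ^ 10) cs 0 cov = true := by decide +kernel

def SS : List (List ℕ × List ℕ) := [([0, 1, 2, 3, 4, 5, 6, 7, 8, 9, 10, 11, 12, 13, 14, 15, 16, 17, 18, 19, 20, 21], []), ([0, 1, 2, 5, 4, 3, 10, 12, 9, 8, 6, 14, 7, 15, 11, 13, 17, 16, 18, 19, 21, 20], [0, 5, 2, 1]), ([0, 1, 2, 7, 4, 12, 20, 3, 11, 14, 21, 8, 5, 17, 9, 16, 15, 13, 18, 19, 6, 10], [0, 5, 2, 0, 1]), ([0, 1, 2, 12, 4, 7, 21, 5, 14, 11, 20, 9, 3, 16, 8, 17, 13, 15, 18, 19, 10, 6], [1, 5, 2, 1]), ([0, 1, 4, 3, 2, 7, 8, 5, 6, 20, 11, 10,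 12, 13, 21, 17, 16, 15, 19, 18, 9, 14], [1, 5]), ([0, 1, 4, 5, 2, 12, 9, 3, 10, 21, 14, 6, 7, 15, 20, 16, 17, 13, 19, 18, 8, 11], []), ([0, 1, 4, 7, 2, 3, 11, 12, 20, 6, 8, 21, 5, 17, 10, 13, 15, 16, 19, 18, 14, 9], []), ([0, 1, 4, 12, 2, 5, 14, 7, 21, 10, 9, 20, 3, 16, 6, 15, 13, 17, 19, 18, 11, 8], [1, 5, 2]), ([1, 0, 2, 3, 4, 5, 10, 7, 11, 14, 6, 8, 12, 16, 9, 17, 13, 15, 19, 18, 21, 20], [3, 4, 5]), ([1, 0, 2, 5, 4, 3, 6, 12, 14, 11, 10, 9, 7, 17, 8, 16, 15, 13, 19, 18, 20, 21], [2, 3, 4, 5]), ([1, 0, 2, 7, 4, 12, 21, 3, 8, 9, 20, 11, 5, 15, 14, 13, 17, 16, 19, 18, 10, 6], [2, 3, 4, 5, 0]), ([1, 0, 2, 12, 4, 7, 20, 5, 9, 8, 21, 14, 3, 13, 11, 15, 16, 17, 19, 18, 6, 10], [0, 2, 0, 2, 3, 4, 5]), ([1, 0, 4, 3, 2, 7, 11, 5, 10, 21, 8, 6, 12, 16, 20, 15, 13, 17, 18, 19, 14, 9], [1, 5, 2, 4, 3, 4, 2]), ([1, 0, 4, 5,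 2, 12, 14, 3, 6, 20, 9, 10, 7, 17, 21, 13, 15, 16, 18, 19, 11, 8], []), ([1, 0, 4, 7, 2, 3, 8, 12, 21, 10, 11, 20, 5, 15, 6, 16, 17, 13, 18, 19, 9, 14], []), ([1, 0, 4, 12, 2, 5, 9, 7, 20, 6, 14, 21, 3, 13, 10, 17, 16, 15, 18, 19, 8, 11], [1, 5, 2, 4, 3, 4]), ([6, 10, 2, 3, 4, 5, 0, 7, 13, 17, 1, 16, 12, 8, 15, 14, 11, 9, 20, 21, 18, 19], [3, 5, 2, 4, 2, 0]), ([6, 10, 2, 5, 4, 3, 1, 12, 17, 13, 0, 15, 7, 14, 16, 8, 9, 11, 20, 21, 19, 18], []), ([6, 10, 2, 7, 4, 12, 18, 3, 16, 15, 19, 13, 5, 9, 17, 11, 14, 8, 20, 21, 0, 1], []), ([6, 10, 2, 12, 4, 7, 19, 5, 15, 16, 18, 17, 3, 11, 13, 9, 8, 14, 20, 21, 1, 0], []), ([6, 10, 4, 3, 2, 7, 13, 5, 0, 18, 16, 1, 12, 8, 19, 9, 11, 14, 21, 20, 17, 15], []), ([6, 10, 4, 5, 2, 12, 17, 3, 1, 19, 15, 0, 7, 14, 18, 11, 9, 8, 21, 20, 13, 16], []), ([6, 10, 4, 7, 2, 3, 16, 12, 18,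 0, 13, 19, 5, 9, 1, 8, 14, 11, 21, 20, 15, 17], []), ([6, 10, 4, 12, 2, 5, 15, 7, 19, 1, 17, 18, 3, 11, 0, 14, 8, 9, 21, 20, 16, 13], []), ([8, 11, 2, 3, 4, 5, 13, 7, 0, 19, 16, 1, 12, 6, 18, 20, 10, 21, 14, 9, 15, 17], [3, 5, 2, 4, 2]), ([8, 11, 2, 5, 4, 3, 16, 12, 19, 0, 13, 18, 7, 20, 1, 6, 21, 10, 14, 9, 17, 15], []), ([8, 11, 2, 7, 4, 12, 15, 3, 1, 18, 17, 0, 5, 21, 19, 10, 20, 6, 14, 9, 13, 16], []), ([8, 11, 2, 12, 4, 7, 17, 5, 18, 1, 15, 19, 3, 10, 0, 21, 6, 20, 14, 9, 16, 13], []), ([8, 11, 4, 3, 2, 7, 0, 5, 13, 15, 1, 16, 12, 6, 17, 21, 10, 20, 9, 14, 19, 18], []), ([8, 11, 4, 5, 2, 12, 19, 3, 16, 17, 18, 13, 7, 20, 15, 10, 21, 6, 9, 14, 0, 1], []), ([8, 11, 4, 7, 2, 3, 1, 12, 15, 13, 0, 17, 5, 21, 16, 6, 20, 10, 9, 14, 18, 19], []), ([8, 11, 4, 12, 2, 5, 18, 7, 17, 16, 19, 15, 3, 10, 13, 20, 6, 21, 9,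 14, 1, 0], []), ([9, 14, 2, 3, 4, 5, 17, 7, 19, 0, 15, 18, 12, 21, 1, 10, 20, 6, 11, 8, 16, 13], [3, 5, 2, 4]), ([9, 14, 2, 5, 4, 3, 15, 12, 0, 19, 17, 1, 7, 10, 18, 21, 6, 20, 11, 8, 13, 16], []), ([9, 14, 2, 7, 4, 12, 16, 3, 18, 1, 13, 19, 5, 6, 0, 20, 10, 21, 11, 8, 17, 15], []), ([9, 14, 2, 12, 4, 7, 13, 5, 1, 18, 16, 0, 3, 20, 19, 6, 21, 10, 11, 8, 15, 17], []), ([9, 14, 4, 3, 2, 7, 19, 5, 17, 16, 18, 15, 12, 21, 13, 6, 20, 10, 8, 11, 0, 1], []), ([9, 14, 4, 5, 2, 12, 0, 3, 15, 13, 1, 17, 7, 10, 16, 20, 6, 21, 8, 11, 19, 18], []), ([9, 14, 4, 7, 2, 3, 18, 12, 16, 17, 19, 13, 5, 6, 15, 21, 10, 20, 8, 11, 1, 0], []), ([9, 14, 4, 12, 2, 5, 1, 7, 13, 15, 0, 16, 3, 20, 17, 10, 21, 6, 8, 11, 18, 19], []), ([10, 6, 2, 3, 4, 5, 1, 7, 16, 15, 0, 13, 12, 11, 17, 9, 8, 14, 21, 20, 19, 18], [3, 5, 2, 4, 2, 0, 1]), ([10,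 6, 2, 5, 4, 3, 0, 12, 15, 16, 1, 17, 7, 9, 13, 11, 14, 8, 21, 20, 18, 19], []), ([10, 6, 2, 7, 4, 12, 19, 3, 13, 17, 18, 16, 5, 14, 15, 8, 9, 11, 21, 20, 1, 0], []), ([10, 6, 2, 12, 4, 7, 18, 5, 17, 13, 19, 15, 3, 8, 16, 14, 11, 9, 21, 20, 0, 1], []), ([10, 6, 4, 3, 2, 7, 16, 5, 1, 19, 13, 0, 12, 11, 18, 14, 8, 9, 20, 21, 15, 17], []), ([10, 6, 4, 5, 2, 12, 15, 3, 0, 18, 17, 1, 7, 9, 19, 8, 14, 11, 20, 21, 16, 13], []), ([10, 6, 4, 7, 2, 3, 13, 12, 19, 1, 16, 18, 5, 14, 0, 11, 9, 8, 20, 21, 17, 15], []), ([10, 6, 4, 12, 2, 5, 17, 7, 18, 0, 15, 19, 3, 8, 1, 9, 11, 14, 20, 21, 13, 16], []), ([11, 8, 2, 3, 4, 5, 16, 7, 1, 18, 13, 0, 12, 10, 19, 21, 6, 20, 9, 14, 17, 15], [3, 5, 2, 4, 2, 1]), ([11, 8, 2, 5, 4, 3, 13, 12, 18, 1, 16, 19, 7, 21, 0, 10, 20, 6, 9, 14, 15, 17], []), ([11, 8, 2, 7, 4, 12, 17, 3, 0, 19, 15,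 1, 5, 20, 18, 6, 21, 10, 9, 14, 16, 13], []), ([11, 8, 2, 12, 4, 7, 15, 5, 19, 0, 17, 18, 3, 6, 1, 20, 10, 21, 9, 14, 13, 16], []), ([11, 8, 4, 3, 2, 7, 1, 5, 16, 17, 0, 13, 12, 10, 15, 20, 6, 21, 14, 9, 18, 19], []), ([11, 8, 4, 5, 2, 12, 18, 3, 13, 15, 19, 16, 7, 21, 17, 6, 20, 10, 14, 9, 1, 0], []), ([11, 8, 4, 7, 2, 3, 0, 12, 17, 16, 1, 15, 5, 20, 13, 10, 21, 6, 14, 9, 19, 18], []), ([11, 8, 4, 12, 2, 5, 19, 7, 15, 13, 18, 17, 3, 6, 16, 21, 10, 20, 14, 9, 0, 1], []), ([13, 16, 2, 3, 4, 5, 8, 7, 6, 21, 11, 10, 12, 0, 20, 18, 1, 19, 15, 17, 14, 9], [3, 5]), ([13, 16, 2, 5, 4, 3, 11, 12, 21, 6, 8, 20, 7, 18, 10, 0, 19, 1, 15, 17, 9, 14], []), ([13, 16, 2, 7, 4, 12, 14, 3, 10, 20, 9, 6, 5, 19, 21, 1, 18, 0, 15, 17, 8, 11], []), ([13, 16, 2, 12, 4, 7, 9, 5, 20, 10, 14, 21, 3, 1, 6, 19, 0, 18, 15, 17, 11, 8], []),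 ([13, 16, 4, 3, 2, 7, 6, 5, 8, 14, 10, 11, 12, 0, 9, 19, 1, 18, 17, 15, 21, 20], [0, 2, 1, 3, 5, 2, 4]), ([13, 16, 4, 5, 2, 12, 21, 3, 11, 9, 20, 8, 7, 18, 14, 1, 19, 0, 17, 15, 6, 10], []), ([13, 16, 4, 7, 2, 3, 10, 12, 14, 8, 6, 9, 5, 19, 11, 0, 18, 1, 17, 15, 20, 21], []), ([13, 16, 4, 12, 2, 5, 20, 7, 9, 11, 21, 14, 3, 1, 8, 18, 0, 19, 17, 15, 10, 6], []), ([14, 9, 2, 3, 4, 5, 15, 7, 18, 1, 17, 19, 12, 20, 0, 6, 21, 10, 8, 11, 13, 16], [3, 5, 2, 0, 1, 4]), ([14, 9, 2, 5, 4, 3, 17, 12, 1, 18, 15, 0, 7, 6, 19, 20, 10, 21, 8, 11, 16, 13], []), ([14, 9, 2, 7, 4, 12, 13, 3, 19, 0, 16, 18, 5, 10, 1, 21, 6, 20, 8, 11, 15, 17], []), ([14, 9, 2, 12, 4, 7, 16, 5, 0, 19, 13, 1, 3, 21, 18, 10, 20, 6, 8, 11, 17, 15], []), ([14, 9, 4, 3, 2, 7, 18, 5, 15, 13, 19, 17, 12, 20, 16, 10, 21, 6, 11, 8, 1, 0], []), ([14, 9, 4, 5,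 2, 12, 1, 3, 17, 16, 0, 15, 7, 6, 13, 21, 10, 20, 11, 8, 18, 19], []), ([14, 9, 4, 7, 2, 3, 19, 12, 13, 15, 18, 16, 5, 10, 17, 20, 6, 21, 11, 8, 0, 1], []), ([14, 9, 4, 12, 2, 5, 0, 7, 16, 17, 1, 13, 3, 21, 15, 6, 20, 10, 11, 8, 19, 18], []), ([15, 17, 2, 3, 4, 5, 14, 7, 20, 10, 9, 21, 12, 18, 6, 0, 19, 1, 13, 16, 8, 11], [3, 5, 2]), ([15, 17, 2, 5, 4, 3, 9, 12, 10, 20, 14, 6, 7, 0, 21, 18, 1, 19, 13, 16, 11, 8], []), ([15, 17, 2, 7, 4, 12, 8, 3, 21, 6, 11, 20, 5, 1, 10, 19, 0, 18, 13, 16, 14, 9], []), ([15, 17, 2, 12, 4, 7, 11, 5, 6, 21, 8, 10, 3, 19, 20, 1, 18, 0, 13, 16, 9, 14], []), ([15, 17, 4, 3, 2, 7, 20, 5, 14, 8, 21, 9, 12, 18, 11, 1, 19, 0, 16, 13, 10, 6], []), ([15, 17, 4, 5, 2, 12, 10, 3, 9, 11, 6, 14, 7, 0, 8, 19, 1, 18, 16, 13, 20, 21], []), ([15, 17, 4, 7, 2, 3, 21, 12, 8, 14, 20, 11, 5, 1, 9, 18,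 0, 19, 16, 13, 6, 10], []), ([15, 17, 4, 12, 2, 5, 6, 7, 11, 9, 10, 8, 3, 19, 14, 0, 18, 1, 16, 13, 21, 20], [0, 2, 1, 3, 5, 2, 4, 2]), ([16, 13, 2, 3, 4, 5, 11, 7, 10, 20, 8, 6, 12, 1, 21, 19, 0, 18, 17, 15, 9, 14], [3, 5, 2, 0, 2]), ([16, 13, 2, 5, 4, 3, 8, 12, 20, 10, 11, 21, 7, 19, 6, 1, 18, 0, 17, 15, 14, 9], []), ([16, 13, 2, 7, 4, 12, 9, 3, 6, 21, 14, 10, 5, 18, 20, 0, 19, 1, 17, 15, 11, 8], []), ([16, 13, 2, 12, 4, 7, 14, 5, 21, 6, 9, 20, 3, 0, 10, 18, 1, 19, 17, 15, 8, 11], []), ([16, 13, 4, 3, 2, 7, 10, 5, 11, 9, 6, 8, 12, 1, 14, 18, 0, 19, 15, 17, 20, 21], [0, 5, 2, 4, 3, 4, 2, 4]), ([16, 13, 4, 5, 2, 12, 20, 3, 8, 14, 21, 11, 7, 19, 9, 0, 18, 1, 15, 17, 10, 6], []), ([16, 13, 4, 7, 2, 3, 6, 12, 9, 11, 10, 14, 5, 18, 8, 1, 19, 0, 15, 17, 21, 20], []), ([16, 13, 4, 12, 2, 5, 21, 7, 14, 8, 20, 9, 3, 0, 11,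 19, 1, 18, 15, 17, 6, 10], []), ([17, 15, 2, 3, 4, 5, 9, 7, 21, 6, 14, 20, 12, 19, 10, 1, 18, 0, 16, 13, 11, 8], [3, 5, 2, 0]), ([17, 15, 2, 5, 4, 3, 14, 12, 6, 21, 9, 10, 7, 1, 20, 19, 0, 18, 16, 13, 8, 11], []), ([17, 15, 2, 7, 4, 12, 11, 3, 20, 10, 8, 21, 5, 0, 6, 18, 1, 19, 16, 13, 9, 14], []), ([17, 15, 2, 12, 4, 7, 8, 5, 10, 20, 11, 6, 3, 18, 21, 0, 19, 1, 16, 13, 14, 9], []), ([17, 15, 4, 3, 2, 7, 21, 5, 9, 11, 20, 14, 12, 19, 8, 0, 18, 1, 13, 16, 6, 10], []), ([17, 15, 4, 5, 2, 12, 6, 3, 14, 8, 10, 9, 7, 1, 11, 18, 0, 19, 13, 16, 21, 20], []), ([17, 15, 4, 7, 2, 3, 20, 12, 11, 9, 21, 8, 5, 0, 14, 19, 1, 18, 13, 16, 10, 6], []), ([17, 15, 4, 12, 2, 5, 10, 7, 8, 14, 6, 11, 3, 18, 9, 1, 19, 0, 13, 16, 20, 21], [1, 2, 1, 4, 2, 3, 5]), ([18, 19, 2, 3, 4, 5, 20, 7, 14, 11, 21, 9, 12, 15, 8, 13, 17, 16, 0, 1, 6,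 10], [3, 5, 2, 0, 1]), ([18, 19, 2, 5, 4, 3, 21, 12, 11, 14, 20, 8, 7, 13, 9, 15, 16, 17, 0, 1, 10, 6], [0, 5, 2, 1, 4, 3, 4]), ([18, 19, 2, 7, 4, 12, 6, 3, 9, 8, 10, 14, 5, 16, 11, 17, 13, 15, 0, 1, 20, 21], [2, 3, 5, 1, 3, 4]), ([18, 19, 2, 12, 4, 7, 10, 5, 8, 9, 6, 11, 3, 17, 14, 16, 15, 13, 0, 1, 21, 20], [1, 2, 0, 3, 5, 2, 5, 0]), ([18, 19, 4, 3, 2, 7, 14, 5, 20, 6, 9, 21, 12, 15, 10, 16, 17, 13, 1, 0, 11, 8], []), ([18, 19, 4, 5, 2, 12, 11, 3, 21, 10, 8, 20, 7, 13, 6, 17, 16, 15, 1, 0, 14, 9], []), ([18, 19, 4, 7, 2, 3, 9, 12, 6, 20, 14, 10, 5, 16, 21, 15, 13, 17, 1, 0, 8, 11], []), ([18, 19, 4, 12, 2, 5, 8, 7, 10, 21, 11, 6, 3, 17, 20, 13, 15, 16, 1, 0, 9, 14], []), ([19, 18, 2, 3, 4, 5, 21, 7, 9, 8, 20, 14, 12, 17, 11, 16, 15, 13, 1, 0, 10, 6], [3, 5, 2, 1]), ([19, 18, 2, 5, 4, 3, 20, 12, 8, 9, 21, 11, 7,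 16, 14, 17, 13, 15, 1, 0, 6, 10], [2, 3, 5, 3, 4]), ([19, 18, 2, 7, 4, 12, 10, 3, 14, 11, 6, 9, 5, 13, 8, 15, 16, 17, 1, 0, 21, 20], [2, 4, 2, 3, 4, 5]), ([19, 18, 2, 12, 4, 7, 6, 5, 11, 14, 10, 8, 3, 15, 9, 13, 17, 16, 1, 0, 20, 21], [1, 2, 0, 3, 5, 2, 5]), ([19, 18, 4, 3, 2, 7, 9, 5, 21, 10, 14, 20, 12, 17, 6, 13, 15, 16, 0, 1, 8, 11], []), ([19, 18, 4, 5, 2, 12, 8, 3, 20, 6, 11, 21, 7, 16, 10, 15, 13, 17, 0, 1, 9, 14], []), ([19, 18, 4, 7, 2, 3, 14, 12, 10, 21, 9, 6, 5, 13, 20, 17, 16, 15, 0, 1, 11, 8], []), ([19, 18, 4, 12, 2, 5, 11, 7, 6, 20, 8, 10, 3, 15, 21, 16, 17, 13, 0, 1, 14, 9], []), ([20, 21, 2, 3, 4, 5, 18, 7, 15, 16, 19, 17, 12, 14, 13, 8, 9, 11, 6, 10, 0, 1], [3, 5, 2, 1, 4]), ([20, 21, 2, 5, 4, 3, 19, 12, 16, 15, 18, 13, 7, 8, 17, 14, 11, 9, 6, 10, 1, 0], []), ([20, 21, 2, 7, 4, 12, 0, 3, 17, 13,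 1, 15, 5, 11, 16, 9, 8, 14, 6, 10, 18, 19], []), ([20, 21, 2, 12, 4, 7, 1, 5, 13, 17, 0, 16, 3, 9, 15, 11, 14, 8, 6, 10, 19, 18], []), ([20, 21, 4, 3, 2, 7, 15, 5, 18, 0, 17, 19, 12, 14, 1, 11, 9, 8, 10, 6, 16, 13], []), ([20, 21, 4, 5, 2, 12, 16, 3, 19, 1, 13, 18, 7, 8, 0, 9, 11, 14, 10, 6, 15, 17], []), ([20, 21, 4, 7, 2, 3, 17, 12, 0, 18, 15, 1, 5, 11, 19, 14, 8, 9, 10, 6, 13, 16], []), ([20, 21, 4, 12, 2, 5, 13, 7, 1, 19, 16, 0, 3, 9, 18, 8, 14, 11, 10, 6, 17, 15], []), ([21, 20, 2, 3, 4, 5, 19, 7, 17, 13, 18, 15, 12, 9, 16, 11, 14, 8, 10, 6, 1, 0], [3, 5, 2, 0, 4]), ([21, 20, 2, 5, 4, 3, 18, 12, 13, 17, 19, 16, 7, 11, 15, 9, 8, 14, 10, 6, 0, 1], []), ([21, 20, 2, 7, 4, 12, 1, 3, 15, 16, 0, 17, 5, 8, 13, 14, 11, 9, 10, 6, 19, 18], []), ([21, 20, 2, 12, 4, 7, 0, 5, 16, 15, 1, 13, 3, 14, 17, 8, 9, 11, 10, 6, 18,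 19], []), ([21, 20, 4, 3, 2, 7, 17, 5, 19, 1, 15, 18, 12, 9, 0, 8, 14, 11, 6, 10, 13, 16], []), ([21, 20, 4, 5, 2, 12, 13, 3, 18, 0, 16, 19, 7, 11, 1, 14, 8, 9, 6, 10, 17, 15], []), ([21, 20, 4, 7, 2, 3, 15, 12, 1, 19, 17, 0, 5, 8, 18, 9, 11, 14, 6, 10, 16, 13], []), ([21, 20, 4, 12, 2, 5, 16, 7, 0, 18, 13, 1, 3, 14, 19, 11, 9, 8, 6, 10, 15, 17], [])]

def sw : List (List ℕ) := [[17, 14, 16, 19, 16, 18], [2, 5, 7, 15, 9, 7, 5, 2, 4, 6, 8, 14, 6, 4], [11, 8, 10, 13, 10, 12]]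

def gs : List (List ℕ) := [[0, 1, 2, 3, 4, 5, 6, 7, 8, 9, 10, 11, 12, 13, 14, 15, 16, 17, 18, 19, 20, 21], [0, 1, 2, 5, 4, 3, 10, 12, 9, 8, 6, 14, 7, 15, 11, 13, 17, 16, 18, 19, 21, 20], [10, 6, 2, 3, 4, 5, 1, 7, 16, 15, 0, 13, 12, 11, 17, 9, 8, 14, 21, 20, 19, 18], [0, 1, 4, 3, 2, 7, 8, 5, 6, 20, 11, 10, 12, 13, 21, 17, 16, 15, 19, 18, 9, 14]]

theorem hcl : closedB ts.length gs (SS.map Prod.fst) = true := by decide +kernel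

theorem as0 : Act (tup nd Y ts) ts.length (wval Y [17, 14, 16, 19, 16, 18]) [0, 1, 2, 5, 4, 3, 10, 12, 9, 8, 6, 14, 7, 15, 11, 13, 17, 16, 18, 19, 21, 20] := act_of_actB P.toPM0 (by decide +kernel)

theorem as1 : Act (tup nd Y ts) ts.length (wval Y [2, 5, 7, 15, 9, 7, 5, 2, 4, 6, 8, 14, 6, 4]) [10, 6, 2, 3, 4, 5, 1, 7, 16, 15, 0, 13, 12, 11, 17, 9, 8, 14, 21, 20, 19, 18] := act_of_actB P.toPM0 (by decide +kernel)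

theorem as2 : Act (tup nd Y ts) ts.length (wval Y [11, 8, 10, 13, 10, 12]) [0, 1, 4, 3, 2, 7, 8, 5, 6, 20, 11, 10, 12, 13, 21, 17, 16, 15, 19, 18, 9, 14] := act_of_actB P.toPM0 (by decide +kernel)

theorem hX : ∀ x ∈ {g | ∃ w ∈ ts.map nd.W ++ sw, wval Y w = g},
    x * x = 1 ∧ ∃ s ∈ gs, Act (tup nd Y ts) ts.length x s := by
  rintro _ ⟨w, hw, rfl⟩
  rcases List.mem_append.1 hw with hw | hw
  · obtain ⟨t, ht, rfl⟩ := List.mem_map.1 hw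
    obtain ⟨i, hi', e⟩ := exists_tup (n := nd) (Y := Y) ht
    rw [show wval Y (nd.W t) = _ from e]
    exact ⟨mul_self hd2 (base.mem i hi'), _, by decide, act_id (base.comm i hi')⟩
  · simp only [sw, List.mem_cons, List.not_mem_nil, or_false] at hw
    rcases hw with rfl | rfl | rfl
    · exact ⟨by rw [← wval_append]; exact P.one (v := []) (by decide +kernel), _, by decide, as0⟩
    · exact ⟨by rw [← wval_append]; exact P.one (v := []) (by decide +kernel), _, by decide, as1⟩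
    · exact ⟨by rw [← wval_append]; exact P.one (v := []) (by decide +kernel), _, by decide, as2⟩

theorem lowT : 131072 ≤ Nat.card (fixer (gp nets.perm (ts.map nd.W ++ sw)) []) :=
  (P.lower (ts.map nd.W ++ sw) [[44], [46], [48]] [] 0 ([(0, 1), (97, 0), (97, 2), (101, 0), (3, 2), (92, 0), (388, 2), (664, 0), (3, 1), (101, 1), (237, 0), (553, 2), (644, 0), (664, 1), (649, 2)], []) 0 21 16 (by decide +kernel)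
    (P.lower (ts.map nd.W ++ sw) [[44], [48]] [0] 21 ([(21, 0), (187, 1), (194, 0)], []) 21 6 4 (by decide +kernel)
    (P.lower (ts.map nd.W ++ sw) [[48]] [21, 0] 28 ([(28, 0)], []) 28 6 2 (by decide +kernel)
    (P.lower (ts.map nd.W ++ sw) [[2], [4], [6], [14], [18]] [28, 21, 0] 1 ([(1, 0), (1, 1), (4, 0), (1, 2), (6, 0), (6, 1), (14, 0), (1, 3), (114, 0), (114, 1), (68, 0), (114, 2), (165, 0), (165, 1), (110, 0), (1, 4), (647, 0), (647, 1), (578, 0), (647, 2), (575, 0), (575, 1), (494, 0), (647, 3), (463, 0), (463, 1), (545, 0), (463, 2), (546, 0), (546, 1), (631, 0)], []) 1 22 32 (by decide +kernel)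
    (P.lower (ts.map nd.W ++ sw) [[0], [8], [10], [16], [20]] [1, 28, 21, 0] 725 ([(725, 0), (725, 1), (743, 0), (725, 2), (751, 0), (751, 1), (782, 0), (725, 3), (996, 0), (996, 1), (901, 0), (996, 2), (1138, 0), (1138, 1), (1001, 0), (725, 4), (1417, 0), (1417, 1), (1618, 0), (1417, 2), (1218, 0), (1218, 1), (1379, 0), (1417, 3), (2315, 0), (2315, 1), (2643, 0), (2315, 2), (2021, 0), (2021, 1), (2415, 0)], []) 725 60 32 (by decide +kernel)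
    (P.lower_one _ _))))))

def ns : List (List ℕ) := [[0, 1, 4, 3, 2, 7, 8, 5, 6, 20, 11, 10, 12, 13, 21, 17, 16, 15, 19, 18, 9, 14], [0, 1, 5, 3, 7, 2, 10, 4, 11, 21, 6, 8, 12, 13, 20, 19, 16, 18, 17, 15, 14, 9], [0, 1, 2, 5, 4, 3, 10, 12, 9, 8, 6, 14, 7, 15, 11, 13, 17, 16, 18, 19, 21, 20], [1, 0, 2, 3, 4, 5, 10, 7, 11, 14, 6, 8, 12, 16, 9, 17, 13, 15, 19, 18, 21, 20], [0, 13, 7, 12, 4, 5, 11, 2, 8, 15, 10, 6, 3, 1, 18, 9, 16, 21, 14, 20, 19, 17], [0, 7, 13, 11, 4, 5, 12, 1, 8, 21, 10, 3, 6, 2, 19, 17, 16, 15, 20, 14, 18, 9]]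

theorem an0 : Act (tup nd Y ts) ts.length (wval Y [11, 8, 10, 13, 10, 12]) [0, 1, 4, 3, 2, 7, 8, 5, 6, 20, 11, 10, 12, 13, 21, 17, 16, 15, 19, 18, 9, 14] := act_of_actB P.toPM0 (by decide +kernel)

theorem an1 : Act (tup nd Y ts) ts.length (wval Y [11, 8, 10, 19, 10, 18]) [0, 1, 5, 3, 7, 2, 10, 4, 11, 21, 6, 8, 12, 13, 20, 19, 16, 18, 17, 15, 14, 9] := act_of_actB P.toPM0 (by decide +kernel)

theorem an2 : Act (tup nd Y ts) ts.length (wval Y [17, 14, 16, 19, 16, 18]) [0, 1, 2, 5, 4, 3, 10, 12, 9, 8, 6, 14, 7, 15, 11, 13, 17, 16, 18, 19, 21, 20] := act_of_actB P.toPM0 (by decide +kernel)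

theorem an3 : Act (tup nd Y ts) ts.length (wval Y [3, 0, 2, 5, 2, 4]) [1, 0, 2, 3, 4, 5, 10, 7, 11, 14, 6, 8, 12, 16, 9, 17, 13, 15, 19, 18, 21, 20] := act_of_actB P.toPM0 (by decide +kernel)

theorem an4 : Act (tup nd Y ts) ts.length (wval Y [9, 6, 8, 11, 19, 13, 11, 9, 6, 8, 10, 12, 18, 10]) [0, 13, 7, 12, 4, 5, 11, 2, 8, 15, 10, 6, 3, 1, 18, 9, 16, 21, 14, 20, 19, 17] := act_of_actB P.toPM0 (by decide +kernel)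

theorem an5 : Act (tup nd Y ts) ts.length (wval Y [7, 4, 6, 11, 19, 13, 11, 9, 6, 8, 10, 12, 18, 10]) [0, 7, 13, 11, 4, 5, 12, 1, 8, 21, 10, 3, 6, 2, 19, 17, 16, 15, 20, 14, 18, 9] := act_of_actB P.toPM0 (by decide +kernel)

theorem hns : ∀ s ∈ ns, ∃ g, Act (tup nd Y ts) ts.length g s := by
  intro s hs
  simp only [ns, List.mem_cons, List.not_mem_nil, or_false] at hs
  rcases hs with rfl | rfl | rfl | rfl | rfl | rfl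
  exacts [⟨_, an0⟩, ⟨_, an1⟩, ⟨_, an2⟩, ⟨_, an3⟩, ⟨_, an4⟩, ⟨_, an5⟩]

def om : List ℕ := [0, 2, 1, 6, 4, 5, 3, 13, 8, 17, 10, 12, 11, 7, 20, 21, 16, 9, 19, 18, 14, 15]

def ww : List ℕ := [9, 7, 4, 6, 8, 6]

theorem hinv : invB ts.length cs ns om SS = true := by decide +kernel

theorem aw : Act (tup nd Y ts) ts.length (wval Y ww) om := act_of_actB P.toPM0 (by decide +kernel)

theorem hcos : cosB 10 cs om [0, 1, 32, 33] [0, 2, 8, 10, 128, 130, 136, 138, 512, 514, 520, 522, 640, 642, 648, 650] = true := by decide +kernel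

theorem hreps : ∀ k ∈ [0, 1, 32, 33], Cls d (wval Y ww * pi (tup nd Y ts) 10 k) := by
  have key : ∀ k l, clsB nd (ww ++ subst (ts.map nd.W) (piW 10 k)) l = true →
      Cls d (wval Y ww * pi (tup nd Y ts) 10 k) := fun k l h => by
    have := cls_of_clsB P h
    rwa [wval_append, ← wval_tup, wval_piW] at this
  intro k hk
  simp only [List.mem_cons, List.not_mem_nil, or_false] at hk
  rcases hk with rfl | rfl | rfl | rfl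
  · exact key _ [(3, []), (2, [6, 8])] (by decide +kernel)
  · exact key _ [(0, []), (3, []), (2, [6, 8])] (by decide +kernel)
  · exact key _ [(3, []), (9, []), (2, [6, 8])] (by decide +kernel)
  · exact key _ [(3, [8, 14]), (2, [6, 14]), (0, [2, 4, 6, 8, 14, 6, 4, 2])] (by decide +kernel)

theorem classify {u : Spor.Fi22} (hu : u * u = 1) : Cls d u :=
  base.classify hc hcen hcov hcl hX (m := 17) (lowT.trans_eq (P.card_gp _))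
    (by rw [card_eq]; norm_num) hns hinv aw
    (by rw [← wval_append]; exact P.one (v := []) (by decide +kernel)) hcos hreps hu

end Cfsg.Agent.Lib.Fis22
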