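import Cfsg.Agent.Lib.Fis22C

/-! Fi22: rigidity of the centraliser of two commuting transpositions. -/

set_option autoImplicit false
set_option maxRecDepth 100000
set_option Elab.async false

namespace Cfsg.Agent.Lib.Fis22

open Cfsg Subgroup Cfsg.Agent.Lib.FisCore Cfsg.Agent.Lib.FisLoc Cfsg.Agent.Lib.FisPrim
  Cfsg.Agent.Lib.PermNet Cfsg.Agent.Lib.Words Cfsg.Agent.Lib.PermGroup Cfsg.Agent.Lib.FisPM
  Cfsg.Agent.Lib.Fi22A

/-- The diagram symmetry. -/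
def sg : List (List ℕ) := [[12], [10], [8], [6], [4], [2], [0], [14], [16], [3, 5, 7, 9, 11, 19, 13, 11, 9, 7, 5, 3, 0, 2, 4, 6, 8, 10, 12, 18, 10, 8, 6, 4, 2]]

theorem exists_tau : ∃ τ : Spor.Fi22 ≃* Spor.Fi22, ∀ i < 10, τ (Y i) = wval Y (sg.getD i []) := by
  obtain ⟨τ, h⟩ := Fi22Base.exists_hom (fun i => wval Y (sg.getD i [])) fun w hw => by
    rw [← wval_subst]
    exact one' (v := []) ((by decide +kernel :
      ∀ w ∈ Fi22Base.K, nd.oneB (subst sg w) [] = true) w hw)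
  have hs : Function.Surjective τ := by
    rw [← MonoidHom.range_eq_top, eq_top_iff, ← topY]
    refine gp_le.2 fun w hw => ?_
    obtain ⟨i, hi, rfl⟩ := (by decide : ∀ w ∈ allg, ∃ i < 9, sg.getD i [] = w) w hw
    exact ⟨_, h i hi⟩
  have h' : ∀ i < 9, τ (Y i) = wval Y (sg.getD i []) := fun i hi => by rw [Y_eq hi, h i hi]
  refine ⟨MulEquiv.ofBijective τ ⟨Finite.injective_iff_surjective.2 hs, hs⟩, fun i hi => ?_⟩
  by_cases e : i = 9
  · change τ (Y i) = _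
    rw [e, ← wval_single Y 9, ← t_eq, map_wval,
      wval_congr h' (by decide), ← wval_subst]
    exact one' (by decide +kernel)
  · exact h' i (by omega)

theorem claim_out {rs : List Desc} (m : List ℕ) (h : ps.length ≤ rs.length ∧ ∀ i < ps.length,
    (∀ l ∈ (ps.map nd.W).getD i [], l < 2 * 10) ∧
    nd.oneB (m ++ subst sg ((ps.map nd.W).getD i []) ++ invW m) ((rs.map nd.W).getD i []) = true) :
    Claim nd Y d ps rs := by
  obtain ⟨τ, hτ⟩ := exists_tau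
  refine claim_aut (τ.trans (MulAut.conj (wval Y m))) (fun y => ?_) h.1 fun i hi => ?_
  · have h0 : IsConj d (τ d) := by
      rw [d, show [0] = [2 * 0] from rfl, wval_single, hτ 0 (by decide)]
      exact (wval_single Y 0).symm ▸ (show wval Y [2 * 6] ∈ DD d from
        (wval_single Y 6).symm ▸ gen_mem (by decide))
    refine (conj_mem_iff _).trans ⟨fun h => ?_, fun h => h0.trans (τ.toMonoidHom.map_isConj h)⟩
    exact isConj_iff.2 (by simpa using τ.symm.toMonoidHom.map_isConj (h0.symm.trans h))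
  · have := map_wval τ.toMonoidHom Y ((ps.map nd.W).getD i [])
    simp only [MulEquiv.coe_toMonoidHom] at this
    rw [MulEquiv.trans_apply, MulAut.conj_apply, tup, tup, this, wval_congr hτ (h.2 i hi).1,
      ← wval_subst, ← wval_invW, ← wval_append, ← wval_append]
    exact one' (h.2 i hi).2

theorem claim4 : Claim nd Y d ps [(0, []), (6, []), (2, []), (3, []), (7, []), (2, [6, 8, 14, 6])] :=
  P.claim_branch [] [] (by decide +kernel) (by simp)

theorem claim5 : Claim nd Y d ps [(0, []), (6, []), (2, []), (3, []), (7, []), (4, [])] :=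
  P.claim_branch [] [] (by decide +kernel) (by simp)

theorem claim6 : Claim nd Y d ps [(0, []), (6, []), (2, []), (3, []), (7, []), (2, [6, 8, 10, 12, 14, 6, 18, 10])] :=
  P.claim_branch [] [] (by decide +kernel) (by simp)

theorem claim7 : Claim nd Y d ps [(0, []), (6, []), (2, []), (3, []), (7, []), (4, [10, 12, 18, 10])] :=
  P.claim_branch [] [] (by decide +kernel) (by simp)

theorem claim8 : Claim nd Y d ps [(0, []), (6, []), (2, []), (3, []), (7, []), (3, [8, 10, 12, 14, 18, 10, 8, 6])] :=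
  P.claim_branch [] [] (by decide +kernel) (by simp)

theorem claim9 : Claim nd Y d ps [(0, []), (6, []), (2, []), (3, []), (7, []), (2, [6, 8, 10, 12, 18, 10, 8, 6])] :=
  P.claim_branch [] [] (by decide +kernel) (by simp)

theorem claim10 : Claim nd Y d ps [(0, []), (6, []), (2, []), (3, []), (7, []), (2, [6, 8, 10, 12, 14, 6, 8, 10, 16, 14, 18, 16])] :=
  P.claim_branch [] [] (by decide +kernel) (by simp)

theorem claim11 : Claim nd Y d ps [(0, []), (6, []), (2, []), (3, []), (7, []), (2, [6, 8, 10, 12, 14, 6, 18, 10, 16, 14, 18, 16])] :=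
  P.claim_branch [] [] (by decide +kernel) (by simp)

theorem claim12 : Claim nd Y d ps [(0, []), (6, []), (2, []), (3, []), (7, []), (2, [6, 8, 10, 12, 18, 10, 8, 6, 16, 14, 18, 16])] :=
  P.claim_branch [] [] (by decide +kernel) (by simp)

theorem claim13 : Claim nd Y d ps [(0, []), (6, []), (2, []), (3, []), (7, []), (0, [2, 4, 6, 8, 10, 12, 18, 10, 8, 6, 4, 2, 16, 14, 18, 16])] :=
  P.claim_branch [] [] (by decide +kernel) (by simp)

theorem claim14 : Claim nd Y d ps [(0, []), (6, []), (2, []), (3, []), (7, []), (2, [6, 8, 10, 12, 14, 6, 8, 10, 16, 14, 6, 4, 18, 16, 14, 6])] :=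
  P.claim_branch [] [] (by decide +kernel) (by simp)

theorem claim15 : Claim nd Y d ps [(0, []), (6, []), (2, []), (3, []), (7, []), (2, [6, 8, 10, 12, 14, 6, 8, 10, 16, 14, 6, 8, 18, 16, 14, 6])] :=
  P.claim_branch [] [] (by decide +kernel) (by simp)

theorem claim16 : Claim nd Y d ps [(0, []), (6, []), (2, []), (3, []), (7, []), (2, [6, 8, 10, 12, 14, 6, 8, 10, 16, 14, 18, 10, 8, 12, 10, 16])] :=
  P.claim_branch [] [] (by decide +kernel) (by simp)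

theorem claim17 : Claim nd Y d ps [(0, []), (6, []), (2, []), (3, []), (7, []), (2, [6, 8, 10, 12, 14, 6, 8, 10, 16, 14, 18, 10, 8, 16, 18, 10])] :=
  P.claim_branch [] [] (by decide +kernel) (by simp)

theorem claim3 : Claim nd Y d ps [(0, []), (6, []), (2, []), (3, []), (7, [])] :=
  P.claim_branch [] [((2, [6, 8, 14, 6]), [], []), ((4, []), [], []), ((2, [6, 8, 10, 12, 14, 6, 18, 10]), [], []), ((4, [10, 12, 18, 10]), [], []), ((3, [8, 10, 12, 14, 18, 10, 8, 6]), [], []), ((2, [6, 8, 10, 12, 18, 10, 8, 6]), [], []), ((2, [6, 8, 10, 12, 14, 6, 8, 10, 16, 14, 18, 16]), [], []), ((2, [6, 8, 10, 12, 14, 6, 18, 10, 16, 14, 18, 16]), [], []), ((2, [6, 8, 10, 12, 18, 10, 8, 6, 16, 14, 18, 16]), [], []), ((0, [2, 4, 6, 8, 10, 12, 18, 10, 8, 6, 4, 2, 16, 14, 18, 16]), [], []), ((2, [6, 8, 10, 12, 14, 6, 8, 10, 16, 14, 6, 4, 18, 16, 14, 6]), [], []), ((2, [6, 8, 10, 12, 14, 6, 8, 10, 16, 14, 6, 8, 18, 16,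 14, 6]), [], []), ((2, [6, 8, 10, 12, 14, 6, 8, 10, 16, 14, 18, 10, 8, 12, 10, 16]), [], []), ((2, [6, 8, 10, 12, 14, 6, 8, 10, 16, 14, 18, 10, 8, 16, 18, 10]), [], [])] (by decide +kernel)
    (by simp only [List.forall_mem_cons]; exact ⟨claim4, claim5, claim6, claim7, claim8, claim9, claim10, claim11, claim12, claim13, claim14, claim15, claim16, claim17, by simp⟩)

theorem rel0 : wval Y (subst (ps.map nd.W) [10, 6, 12, 14, 4, 8, 10, 6, 12, 14, 4, 8, 10, 6, 12, 14, 4, 8, 10, 6, 12, 14, 4, 8, 10, 6, 12, 14, 4, 8, 0]) = 1 :=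
  one' (v := []) (by decide +kernel)

theorem claim21 : Claim nd Y d ps [(0, []), (6, []), (2, []), (3, []), (4, []), (7, []), (8, []), (2, [6, 8, 10, 12, 14, 6, 8, 10])] :=
  P.claim_kill1 [10, 6, 12, 14, 4, 8, 10, 6, 12, 14, 4, 8, 10, 6, 12, 14, 4, 8, 10, 6, 12, 14, 4, 8, 10, 6, 12, 14, 4, 8, 0] rel0 695 (by decide +kernel)

theorem rel1 : wval Y (subst (ps.map nd.W) [6, 16, 12, 6, 10, 12, 6, 16, 12, 6, 10, 12, 6, 16, 12, 6, 10, 12]) = 1 :=
  one' (v := []) (by decide +kernel)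

theorem claim23 : Claim nd Y d ps [(0, []), (6, []), (2, []), (3, []), (4, []), (7, []), (8, []), (0, [2, 4, 6, 8, 14, 6, 4, 2]), (2, [6, 8, 14, 6])] :=
  P.claim_kill1 [6, 16, 12, 6, 10, 12, 6, 16, 12, 6, 10, 12, 6, 16, 12, 6, 10, 12] rel1 695 (by decide +kernel)

theorem rel2 : wval Y (subst (ps.map nd.W) [8, 10, 12, 14, 16, 8, 10, 12, 14, 16, 8, 10, 12, 14, 16, 2]) = 1 :=
  one' (v := []) (by decide +kernel)

theorem claim24 : Claim nd Y d ps [(0, []), (6, []), (2, []), (3, []), (4, []), (7, []), (8, []), (0, [2, 4, 6, 8, 14, 6, 4, 2]), (2, [6, 8, 10, 12, 14, 6, 18, 10])] :=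
  P.claim_kill1 [8, 10, 12, 14, 16, 8, 10, 12, 14, 16, 8, 10, 12, 14, 16, 2] rel2 695 (by decide +kernel)

theorem claim25 : Claim nd Y d ps [(0, []), (6, []), (2, []), (3, []), (4, []), (7, []), (8, []), (0, [2, 4, 6, 8, 14, 6, 4, 2]), (4, [10, 12, 18, 10])] :=
  P.claim_kill1 [8, 10, 12, 14, 16, 8, 10, 12, 14, 16, 8, 10, 12, 14, 16, 2] rel2 695 (by decide +kernel)

theorem claim26 : Claim nd Y d ps [(0, []), (6, []), (2, []), (3, []), (4, []), (7, []), (8, []), (0, [2, 4, 6, 8, 14, 6, 4, 2]), (3, [8, 10, 12, 14, 18, 10, 8, 6])] :=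
  P.claim_kill1 [8, 10, 12, 14, 16, 8, 10, 12, 14, 16, 8, 10, 12, 14, 16, 2] rel2 695 (by decide +kernel)

theorem claim27 : Claim nd Y d ps [(0, []), (6, []), (2, []), (3, []), (4, []), (7, []), (8, []), (0, [2, 4, 6, 8, 14, 6, 4, 2]), (2, [6, 8, 10, 12, 18, 10, 8, 6])] :=
  P.claim_kill1 [8, 10, 12, 14, 16, 8, 10, 12, 14, 16, 8, 10, 12, 14, 16, 2] rel2 695 (by decide +kernel)

theorem claim28 : Claim nd Y d ps [(0, []), (6, []), (2, []), (3, []), (4, []), (7, []), (8, []), (0, [2, 4, 6, 8, 14, 6, 4, 2]), (2, [6, 8, 10, 12, 14, 6, 8, 10, 16, 14, 18, 16])] :=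
  P.claim_kill1 [6, 16, 12, 6, 10, 12, 6, 16, 12, 6, 10, 12, 6, 16, 12, 6, 10, 12] rel1 695 (by decide +kernel)

theorem claim29 : Claim nd Y d ps [(0, []), (6, []), (2, []), (3, []), (4, []), (7, []), (8, []), (0, [2, 4, 6, 8, 14, 6, 4, 2]), (2, [6, 8, 10, 12, 14, 6, 18, 10, 16, 14, 18, 16])] :=
  P.claim_kill1 [8, 10, 12, 14, 16, 8, 10, 12, 14, 16, 8, 10, 12, 14, 16, 2] rel2 695 (by decide +kernel)

theorem claim30 : Claim nd Y d ps [(0, []), (6, []), (2, []), (3, []), (4, []), (7, []), (8, []), (0, [2, 4, 6, 8, 14, 6, 4, 2]), (2, [6, 8, 10, 12, 18, 10, 8, 6, 16, 14, 18, 16])] :=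
  P.claim_kill1 [8, 10, 12, 14, 16, 8, 10, 12, 14, 16, 8, 10, 12, 14, 16, 2] rel2 695 (by decide +kernel)

theorem claim31 : Claim nd Y d ps [(0, []), (6, []), (2, []), (3, []), (4, []), (7, []), (8, []), (0, [2, 4, 6, 8, 14, 6, 4, 2]), (0, [2, 4, 6, 8, 10, 12, 18, 10, 8, 6, 4, 2, 16, 14, 18, 16])] :=
  P.claim_kill1 [6, 16, 12, 6, 10, 12, 6, 16, 12, 6, 10, 12, 6, 16, 12, 6, 10, 12] rel1 695 (by decide +kernel)

theorem claim32 : Claim nd Y d ps [(0, []), (6, []), (2, []), (3, []), (4, []), (7, []), (8, []), (0, [2, 4, 6, 8, 14, 6, 4, 2]), (2, [6, 8, 10, 12, 14, 6, 8, 10, 16, 14, 18, 10, 8, 12, 10, 16])] :=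
  P.claim_kill1 [8, 10, 12, 14, 16, 8, 10, 12, 14, 16, 8, 10, 12, 14, 16, 2] rel2 695 (by decide +kernel)

theorem claim33 : Claim nd Y d ps [(0, []), (6, []), (2, []), (3, []), (4, []), (7, []), (8, []), (0, [2, 4, 6, 8, 14, 6, 4, 2]), (2, [6, 8, 10, 12, 14, 6, 8, 10, 16, 14, 18, 10, 8, 16, 18, 10])] :=
  P.claim_kill1 [8, 10, 12, 14, 16, 8, 10, 12, 14, 16, 8, 10, 12, 14, 16, 2] rel2 695 (by decide +kernel)

theorem claim22 : Claim nd Y d ps [(0, []), (6, []), (2, []), (3, []), (4, []), (7, []), (8, []), (0, [2, 4, 6, 8, 14, 6, 4, 2])] :=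
  P.claim_branch [] [((2, [6, 8, 14, 6]), [], []), ((2, [6, 8, 10, 12, 14, 6, 18, 10]), [], []), ((4, [10, 12, 18, 10]), [], []), ((3, [8, 10, 12, 14, 18, 10, 8, 6]), [], []), ((2, [6, 8, 10, 12, 18, 10, 8, 6]), [], []), ((2, [6, 8, 10, 12, 14, 6, 8, 10, 16, 14, 18, 16]), [], []), ((2, [6, 8, 10, 12, 14, 6, 18, 10, 16, 14, 18, 16]), [], []), ((2, [6, 8, 10, 12, 18, 10, 8, 6, 16, 14, 18, 16]), [], []), ((0, [2, 4, 6, 8, 10, 12, 18, 10, 8, 6, 4, 2, 16, 14, 18, 16]), [], []), ((2, [6, 8, 10, 12, 14, 6, 8, 10, 16, 14, 18, 10, 8, 12, 10, 16]), [], []), ((2, [6, 8, 10, 12, 14, 6, 8, 10, 16, 14, 18, 10, 8, 16, 18, 10]), [], [])] (by decide +kernel)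
    (by simp only [List.forall_mem_cons]; exact ⟨claim23, claim24, claim25, claim26, claim27, claim28, claim29, claim30, claim31, claim32, claim33, by simp⟩)

theorem claim35 : Claim nd Y d ps [(0, []), (6, []), (2, []), (3, []), (4, []), (7, []), (8, []), (9, []), (2, [6, 8, 14, 6])] :=
  P.claim_kill1 [8, 10, 12, 14, 16, 8, 10, 12, 14, 16, 8, 10, 12, 14, 16, 2] rel2 695 (by decide +kernel)

theorem claim36 : Claim nd Y d ps [(0, []), (6, []), (2, []), (3, []), (4, []), (7, []), (8, []), (9, []), (2, [6, 8, 10, 12, 14, 6, 18, 10])] :=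
  P.claim_kill1 [8, 10, 12, 14, 16, 8, 10, 12, 14, 16, 8, 10, 12, 14, 16, 2] rel2 695 (by decide +kernel)

theorem claim37 : Claim nd Y d ps [(0, []), (6, []), (2, []), (3, []), (4, []), (7, []), (8, []), (9, []), (4, [10, 12, 18, 10])] := claim_done ps

theorem rel3 : wval Y (subst (ps.map nd.W) [6, 10, 16, 4, 12, 6, 10, 16, 4, 12, 6, 10, 16, 4, 12, 6, 10, 16, 4, 12, 6, 10, 16, 4, 12, 0, 2]) = 1 :=
  one' (v := []) (by decide +kernel)

theorem claim38 : Claim nd Y d ps [(0, []), (6, []), (2, []), (3, []), (4, []), (7, []), (8, []), (9, []), (3, [8, 10, 12, 14, 18, 10, 8, 6])] :=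
  P.claim_kill1 [6, 10, 16, 4, 12, 6, 10, 16, 4, 12, 6, 10, 16, 4, 12, 6, 10, 16, 4, 12, 6, 10, 16, 4, 12, 0, 2] rel3 84 (by decide +kernel)

theorem claim39 : Claim nd Y d ps [(0, []), (6, []), (2, []), (3, []), (4, []), (7, []), (8, []), (9, []), (2, [6, 8, 10, 12, 18, 10, 8, 6])] :=
  P.claim_kill1 [8, 10, 12, 14, 16, 8, 10, 12, 14, 16, 8, 10, 12, 14, 16, 2] rel2 695 (by decide +kernel)

theorem claim40 : Claim nd Y d ps [(0, []), (6, []), (2, []), (3, []), (4, []), (7, []), (8, []), (9, []), (2, [6, 8, 10, 12, 14, 6, 8, 10, 16, 14, 18, 16])] :=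
  P.claim_kill1 [8, 10, 12, 14, 16, 8, 10, 12, 14, 16, 8, 10, 12, 14, 16, 2] rel2 695 (by decide +kernel)

theorem claim41 : Claim nd Y d ps [(0, []), (6, []), (2, []), (3, []), (4, []), (7, []), (8, []), (9, []), (2, [6, 8, 10, 12, 14, 6, 18, 10, 16, 14, 18, 16])] :=
  P.claim_kill1 [8, 10, 12, 14, 16, 8, 10, 12, 14, 16, 8, 10, 12, 14, 16, 2] rel2 695 (by decide +kernel)

theorem claim42 : Claim nd Y d ps [(0, []), (6, []), (2, []), (3, []), (4, []), (7, []), (8, []), (9, []), (2, [6, 8, 10, 12, 18, 10, 8, 6, 16, 14, 18, 16])] :=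
  P.claim_kill1 [8, 10, 12, 14, 16, 8, 10, 12, 14, 16, 8, 10, 12, 14, 16, 2] rel2 695 (by decide +kernel)

theorem claim43 : Claim nd Y d ps [(0, []), (6, []), (2, []), (3, []), (4, []), (7, []), (8, []), (9, []), (0, [2, 4, 6, 8, 10, 12, 18, 10, 8, 6, 4, 2, 16, 14, 18, 16])] :=
  P.claim_kill1 [8, 10, 12, 14, 16, 8, 10, 12, 14, 16, 8, 10, 12, 14, 16, 2] rel2 695 (by decide +kernel)

theorem claim44 : Claim nd Y d ps [(0, []), (6, []), (2, []), (3, []), (4, []), (7, []), (8, []), (9, []), (2, [6, 8, 10, 12, 14, 6, 8, 10, 16, 14, 18, 10, 8, 12, 10, 16])] :=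
  P.claim_kill1 [8, 10, 12, 14, 16, 8, 10, 12, 14, 16, 8, 10, 12, 14, 16, 2] rel2 695 (by decide +kernel)

theorem claim45 : Claim nd Y d ps [(0, []), (6, []), (2, []), (3, []), (4, []), (7, []), (8, []), (9, []), (2, [6, 8, 10, 12, 14, 6, 8, 10, 16, 14, 18, 10, 8, 16, 18, 10])] :=
  P.claim_kill1 [8, 10, 12, 14, 16, 8, 10, 12, 14, 16, 8, 10, 12, 14, 16, 2] rel2 695 (by decide +kernel)

theorem claim34 : Claim nd Y d ps [(0, []), (6, []), (2, []), (3, []), (4, []), (7, []), (8, []), (9, [])] :=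
  P.claim_branch [] [((2, [6, 8, 14, 6]), [], []), ((2, [6, 8, 10, 12, 14, 6, 18, 10]), [], []), ((4, [10, 12, 18, 10]), [], []), ((3, [8, 10, 12, 14, 18, 10, 8, 6]), [], []), ((2, [6, 8, 10, 12, 18, 10, 8, 6]), [], []), ((2, [6, 8, 10, 12, 14, 6, 8, 10, 16, 14, 18, 16]), [], []), ((2, [6, 8, 10, 12, 14, 6, 18, 10, 16, 14, 18, 16]), [], []), ((2, [6, 8, 10, 12, 18, 10, 8, 6, 16, 14, 18, 16]), [], []), ((0, [2, 4, 6, 8, 10, 12, 18, 10, 8, 6, 4, 2, 16, 14, 18, 16]), [], []), ((2, [6, 8, 10, 12, 14, 6, 8, 10, 16, 14, 18, 10, 8, 12, 10, 16]), [], []), ((2, [6, 8, 10, 12, 14, 6, 8, 10, 16, 14, 18, 10, 8, 16, 18, 10]), [], [])] (by decide +kernel)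
    (by simp only [List.forall_mem_cons]; exact ⟨claim35, claim36, claim37, claim38, claim39, claim40, claim41, claim42, claim43, claim44, claim45, by simp⟩)

theorem claim46 : Claim nd Y d ps [(0, []), (6, []), (2, []), (3, []), (4, []), (7, []), (8, []), (0, [2, 4, 6, 8, 10, 12, 18, 10, 8, 6, 4, 2])] :=
  P.claim_kill1 [10, 6, 12, 14, 4, 8, 10, 6, 12, 14, 4, 8, 10, 6, 12, 14, 4, 8, 10, 6, 12, 14, 4, 8, 10, 6, 12, 14, 4, 8, 0] rel0 695 (by decide +kernel)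

theorem claim20 : Claim nd Y d ps [(0, []), (6, []), (2, []), (3, []), (4, []), (7, []), (8, [])] :=
  P.claim_branch [] [((2, [6, 8, 10, 12, 14, 6, 8, 10]), [], []), ((0, [2, 4, 6, 8, 14, 6, 4, 2]), [], []), ((9, []), [], []), ((0, [2, 4, 6, 8, 10, 12, 18, 10, 8, 6, 4, 2]), [], [])] (by decide +kernel)
    (by simp only [List.forall_mem_cons]; exact ⟨claim21, claim22, claim34, claim46, by simp⟩)

theorem claim19 : Claim nd Y d ps [(0, []), (6, []), (2, []), (3, []), (4, []), (7, [])] :=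
  P.claim_branch [[18], [11, 9, 7, 15, 13, 11, 9, 7, 4, 6, 8, 10, 12, 14, 6, 8, 10], [3, 5, 7, 15, 9, 7, 5, 3, 0, 2, 4, 6, 8, 14, 6, 4, 2]] [((8, []), [(76, 0), (76, 1), (146, 0), (76, 2), (63, 0), (63, 1), (642, 0)], [])] (by decide +kernel)
    (by simp only [List.forall_mem_cons]; exact ⟨claim20, by simp⟩)

theorem claim49 : Claim nd Y d ps [(0, []), (6, []), (2, []), (3, []), (4, []), (4, [10, 12, 18, 10, 16, 14]), (9, []), (2, [6, 8, 14, 6, 16, 14])] :=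
  P.claim_kill1 [10, 6, 12, 14, 4, 8, 10, 6, 12, 14, 4, 8, 10, 6, 12, 14, 4, 8, 10, 6, 12, 14, 4, 8, 10, 6, 12, 14, 4, 8, 0] rel0 695 (by decide +kernel)

theorem claim51 : Claim nd Y d ps [(0, []), (6, []), (2, []), (3, []), (4, []), (4, [10, 12, 18, 10, 16, 14]), (9, []), (8, []), (2, [6, 8, 14, 6, 16, 18])] :=
  P.claim_kill1 [8, 10, 12, 14, 16, 8, 10, 12, 14, 16, 8, 10, 12, 14, 16, 2] rel2 695 (by decide +kernel)

theorem rel4 : wval Y (subst (ps.map nd.W) [12, 16, 8, 4, 14, 6, 12, 16, 8, 4, 14, 6, 12, 16, 8, 4, 14, 6, 12, 16, 8, 4, 14, 6, 12, 16, 8, 4, 14, 6, 0, 2]) = 1 :=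
  one' (v := []) (by decide +kernel)

theorem claim52 : Claim nd Y d ps [(0, []), (6, []), (2, []), (3, []), (4, []), (4, [10, 12, 18, 10, 16, 14]), (9, []), (8, []), (7, [16, 18])] :=
  P.claim_kill1 [12, 16, 8, 4, 14, 6, 12, 16, 8, 4, 14, 6, 12, 16, 8, 4, 14, 6, 12, 16, 8, 4, 14, 6, 12, 16, 8, 4, 14, 6, 0, 2] rel4 84 (by decide +kernel)

theorem claim53 : Claim nd Y d ps [(0, []), (6, []), (2, []), (3, []), (4, []), (4, [10, 12, 18, 10, 16, 14]), (9, []), (8, []), (2, [6, 8, 10, 12, 14, 6, 8, 10, 16, 14])] :=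
  P.claim_kill1 [8, 10, 12, 14, 16, 8, 10, 12, 14, 16, 8, 10, 12, 14, 16, 2] rel2 695 (by decide +kernel)

theorem claim54 : Claim nd Y d ps [(0, []), (6, []), (2, []), (3, []), (4, []), (4, [10, 12, 18, 10, 16, 14]), (9, []), (8, []), (2, [6, 8, 10, 12, 14, 6, 18, 10, 16, 14])] :=
  P.claim_kill1 [8, 10, 12, 14, 16, 8, 10, 12, 14, 16, 8, 10, 12, 14, 16, 2] rel2 695 (by decide +kernel)

theorem claim55 : Claim nd Y d ps [(0, []), (6, []), (2, []), (3, []), (4, []), (4, [10, 12, 18, 10, 16, 14]), (9, []), (8, []), (2, [6, 8, 10, 12, 14, 6, 18, 10, 16, 18])] :=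
  P.claim_kill1 [8, 10, 12, 14, 16, 8, 10, 12, 14, 16, 8, 10, 12, 14, 16, 2] rel2 695 (by decide +kernel)

theorem claim56 : Claim nd Y d ps [(0, []), (6, []), (2, []), (3, []), (4, []), (4, [10, 12, 18, 10, 16, 14]), (9, []), (8, []), (4, [10, 12, 18, 10, 16, 18])] :=
  claim_out [16, 18, 16, 8, 4, 6, 8, 4, 6, 10, 8, 6, 12, 10, 4, 8, 6, 2, 0, 4, 2, 6, 8, 4, 10, 12, 6, 8, 10] (by decide +kernel)

theorem claim57 : Claim nd Y d ps [(0, []), (6, []), (2, []), (3, []), (4, []), (4, [10, 12, 18, 10, 16, 14]), (9, []), (8, []), (2, [6, 8, 10, 12, 18, 10, 8, 6, 16, 14])] :=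
  P.claim_kill1 [8, 10, 12, 14, 16, 8, 10, 12, 14, 16, 8, 10, 12, 14, 16, 2] rel2 695 (by decide +kernel)

theorem claim58 : Claim nd Y d ps [(0, []), (6, []), (2, []), (3, []), (4, []), (4, [10, 12, 18, 10, 16, 14]), (9, []), (8, []), (2, [6, 8, 10, 12, 18, 10, 8, 6, 16, 18])] :=
  P.claim_kill1 [8, 10, 12, 14, 16, 8, 10, 12, 14, 16, 8, 10, 12, 14, 16, 2] rel2 695 (by decide +kernel)

theorem claim59 : Claim nd Y d ps [(0, []), (6, []), (2, []), (3, []), (4, []), (4, [10, 12, 18, 10, 16, 14]), (9, []), (8, []), (0, [2, 4, 6, 8, 10, 12, 18, 10, 8, 6, 4, 2, 16, 14])] :=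
  P.claim_kill1 [8, 10, 12, 14, 16, 8, 10, 12, 14, 16, 8, 10, 12, 14, 16, 2] rel2 695 (by decide +kernel)

theorem claim60 : Claim nd Y d ps [(0, []), (6, []), (2, []), (3, []), (4, []), (4, [10, 12, 18, 10, 16, 14]), (9, []), (8, []), (2, [6, 8, 10, 12, 14, 6, 8, 10, 16, 18, 10, 8, 12, 10])] :=
  P.claim_kill1 [8, 10, 12, 14, 16, 8, 10, 12, 14, 16, 8, 10, 12, 14, 16, 2] rel2 695 (by decide +kernel)

theorem claim61 : Claim nd Y d ps [(0, []), (6, []), (2, []), (3, []), (4, []), (4, [10, 12, 18, 10, 16, 14]), (9, []), (8, []), (2, [6, 8, 10, 12, 14, 6, 16, 18, 10, 8, 12, 16, 18, 10])] :=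
  P.claim_kill1 [8, 10, 12, 14, 16, 8, 10, 12, 14, 16, 8, 10, 12, 14, 16, 2] rel2 695 (by decide +kernel)

theorem claim50 : Claim nd Y d ps [(0, []), (6, []), (2, []), (3, []), (4, []), (4, [10, 12, 18, 10, 16, 14]), (9, []), (8, [])] :=
  P.claim_branch [] [((2, [6, 8, 14, 6, 16, 18]), [], []), ((7, [16, 18]), [], []), ((2, [6, 8, 10, 12, 14, 6, 8, 10, 16, 14]), [], []), ((2, [6, 8, 10, 12, 14, 6, 18, 10, 16, 14]), [], []), ((2, [6, 8, 10, 12, 14, 6, 18, 10, 16, 18]), [], []), ((4, [10, 12, 18, 10, 16, 18]), [], []), ((2, [6, 8, 10, 12, 18, 10, 8, 6, 16, 14]), [], []), ((2, [6, 8, 10, 12, 18, 10, 8, 6, 16, 18]), [], []), ((0, [2, 4, 6, 8, 10, 12, 18, 10, 8, 6, 4, 2, 16, 14]), [], []), ((2, [6, 8, 10, 12, 14, 6, 8, 10, 16, 18, 10, 8, 12, 10]), [], []), ((2, [6, 8, 10, 12, 14, 6, 16, 18, 10, 8, 12, 16, 18, 10]), [], [])] (by decide +kernel)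
    (by simp only [List.forall_mem_cons]; exact ⟨claim51, claim52, claim53, claim54, claim55, claim56, claim57, claim58, claim59, claim60, claim61, by simp⟩)

theorem claim63 : Claim nd Y d ps [(0, []), (6, []), (2, []), (3, []), (4, []), (4, [10, 12, 18, 10, 16, 14]), (9, []), (2, [6, 8, 10, 12, 14, 6, 8, 10, 16, 18]), (2, [6, 8, 14, 6, 16, 18])] :=
  P.claim_kill1 [8, 10, 12, 14, 16, 8, 10, 12, 14, 16, 8, 10, 12, 14, 16, 2] rel2 695 (by decide +kernel)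

theorem claim64 : Claim nd Y d ps [(0, []), (6, []), (2, []), (3, []), (4, []), (4, [10, 12, 18, 10, 16, 14]), (9, []), (2, [6, 8, 10, 12, 14, 6, 8, 10, 16, 18]), (7, [16, 18])] :=
  P.claim_kill1 [8, 10, 12, 14, 16, 8, 10, 12, 14, 16, 8, 10, 12, 14, 16, 2] rel2 695 (by decide +kernel)

theorem claim65 : Claim nd Y d ps [(0, []), (6, []), (2, []), (3, []), (4, []), (4, [10, 12, 18, 10, 16, 14]), (9, []), (2, [6, 8, 10, 12, 14, 6, 8, 10, 16, 18]), (2, [6, 8, 10, 12, 14, 6, 8, 10, 16, 14])] :=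
  P.claim_kill1 [8, 10, 12, 14, 16, 8, 10, 12, 14, 16, 8, 10, 12, 14, 16, 2] rel2 695 (by decide +kernel)

theorem claim66 : Claim nd Y d ps [(0, []), (6, []), (2, []), (3, []), (4, []), (4, [10, 12, 18, 10, 16, 14]), (9, []), (2, [6, 8, 10, 12, 14, 6, 8, 10, 16, 18]), (2, [6, 8, 10, 12, 14, 6, 18, 10, 16, 14])] :=
  P.claim_kill1 [8, 10, 12, 14, 16, 8, 10, 12, 14, 16, 8, 10, 12, 14, 16, 2] rel2 695 (by decide +kernel)

theorem claim67 : Claim nd Y d ps [(0, []), (6, []), (2, []), (3, []), (4, []), (4, [10, 12, 18, 10, 16, 14]), (9, []), (2, [6, 8, 10, 12, 14, 6, 8, 10, 16, 18]), (2, [6, 8, 10, 12, 14, 6, 18, 10, 16, 18])] :=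
  P.claim_kill1 [6, 16, 12, 6, 10, 12, 6, 16, 12, 6, 10, 12, 6, 16, 12, 6, 10, 12] rel1 695 (by decide +kernel)

theorem claim68 : Claim nd Y d ps [(0, []), (6, []), (2, []), (3, []), (4, []), (4, [10, 12, 18, 10, 16, 14]), (9, []), (2, [6, 8, 10, 12, 14, 6, 8, 10, 16, 18]), (4, [10, 12, 18, 10, 16, 18])] :=
  P.claim_kill1 [8, 10, 12, 14, 16, 8, 10, 12, 14, 16, 8, 10, 12, 14, 16, 2] rel2 695 (by decide +kernel)

theorem claim69 : Claim nd Y d ps [(0, []), (6, []), (2, []), (3, []), (4, []), (4, [10, 12, 18, 10, 16, 14]), (9, []), (2, [6, 8, 10, 12, 14, 6, 8, 10, 16, 18]), (2, [6, 8, 10, 12, 18, 10, 8, 6, 16, 14])] :=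
  P.claim_kill1 [6, 16, 12, 6, 10, 12, 6, 16, 12, 6, 10, 12, 6, 16, 12, 6, 10, 12] rel1 695 (by decide +kernel)

theorem claim70 : Claim nd Y d ps [(0, []), (6, []), (2, []), (3, []), (4, []), (4, [10, 12, 18, 10, 16, 14]), (9, []), (2, [6, 8, 10, 12, 14, 6, 8, 10, 16, 18]), (2, [6, 8, 10, 12, 18, 10, 8, 6, 16, 18])] :=
  P.claim_kill1 [8, 10, 12, 14, 16, 8, 10, 12, 14, 16, 8, 10, 12, 14, 16, 2] rel2 695 (by decide +kernel)

theorem claim71 : Claim nd Y d ps [(0, []), (6, []), (2, []), (3, []), (4, []), (4, [10, 12, 18, 10, 16, 14]), (9, []), (2, [6, 8, 10, 12, 14, 6, 8, 10, 16, 18]), (0, [2, 4, 6, 8, 10, 12, 18, 10, 8, 6, 4, 2, 16, 14])] :=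
  P.claim_kill1 [8, 10, 12, 14, 16, 8, 10, 12, 14, 16, 8, 10, 12, 14, 16, 2] rel2 695 (by decide +kernel)

theorem claim72 : Claim nd Y d ps [(0, []), (6, []), (2, []), (3, []), (4, []), (4, [10, 12, 18, 10, 16, 14]), (9, []), (2, [6, 8, 10, 12, 14, 6, 8, 10, 16, 18]), (2, [6, 8, 10, 12, 14, 6, 8, 10, 16, 18, 10, 8, 12, 10])] :=
  P.claim_kill1 [6, 16, 12, 6, 10, 12, 6, 16, 12, 6, 10, 12, 6, 16, 12, 6, 10, 12] rel1 695 (by decide +kernel)

theorem claim73 : Claim nd Y d ps [(0, []), (6, []), (2, []), (3, []), (4, []), (4, [10, 12, 18, 10, 16, 14]), (9, []), (2, [6, 8, 10, 12, 14, 6, 8, 10, 16, 18]), (2, [6, 8, 10, 12, 14, 6, 16, 18, 10, 8, 12, 16, 18, 10])] :=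
  P.claim_kill1 [8, 10, 12, 14, 16, 8, 10, 12, 14, 16, 8, 10, 12, 14, 16, 2] rel2 695 (by decide +kernel)

theorem claim62 : Claim nd Y d ps [(0, []), (6, []), (2, []), (3, []), (4, []), (4, [10, 12, 18, 10, 16, 14]), (9, []), (2, [6, 8, 10, 12, 14, 6, 8, 10, 16, 18])] :=
  P.claim_branch [] [((2, [6, 8, 14, 6, 16, 18]), [], []), ((7, [16, 18]), [], []), ((2, [6, 8, 10, 12, 14, 6, 8, 10, 16, 14]), [], []), ((2, [6, 8, 10, 12, 14, 6, 18, 10, 16, 14]), [], []), ((2, [6, 8, 10, 12, 14, 6, 18, 10, 16, 18]), [], []), ((4, [10, 12, 18, 10, 16, 18]), [], []), ((2, [6, 8, 10, 12, 18, 10, 8, 6, 16, 14]), [], []), ((2, [6, 8, 10, 12, 18, 10, 8, 6, 16, 18]), [], []), ((0, [2, 4, 6, 8, 10, 12, 18, 10, 8, 6, 4, 2, 16, 14]), [], []), ((2, [6, 8, 10, 12, 14, 6, 8, 10, 16, 18, 10, 8, 12, 10]), [], []), ((2, [6, 8, 10, 12, 14, 6, 16, 18, 10, 8, 12, 16, 18, 10]), [], [])] (by decide +kernel)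
    (by simp only [List.forall_mem_cons]; exact ⟨claim63, claim64, claim65, claim66, claim67, claim68, claim69, claim70, claim71, claim72, claim73, by simp⟩)

theorem claim74 : Claim nd Y d ps [(0, []), (6, []), (2, []), (3, []), (4, []), (4, [10, 12, 18, 10, 16, 14]), (9, []), (0, [2, 4, 6, 8, 10, 12, 18, 10, 8, 6, 4, 2, 16, 18])] :=
  P.claim_kill1 [10, 6, 12, 14, 4, 8, 10, 6, 12, 14, 4, 8, 10, 6, 12, 14, 4, 8, 10, 6, 12, 14, 4, 8, 10, 6, 12, 14, 4, 8, 0] rel0 695 (by decide +kernel)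

theorem claim48 : Claim nd Y d ps [(0, []), (6, []), (2, []), (3, []), (4, []), (4, [10, 12, 18, 10, 16, 14]), (9, [])] :=
  P.claim_branch [] [((2, [6, 8, 14, 6, 16, 14]), [], []), ((8, []), [], []), ((2, [6, 8, 10, 12, 14, 6, 8, 10, 16, 18]), [], []), ((0, [2, 4, 6, 8, 10, 12, 18, 10, 8, 6, 4, 2, 16, 18]), [], [])] (by decide +kernel)
    (by simp only [List.forall_mem_cons]; exact ⟨claim49, claim50, claim62, claim74, by simp⟩)

theorem claim47 : Claim nd Y d ps [(0, []), (6, []), (2, []), (3, []), (4, []), (4, [10, 12, 18, 10, 16, 14])] :=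
  P.claim_branch [[16], [15, 17, 7, 15, 9, 7, 4, 6, 8, 14, 6, 16, 14], [19, 17, 11, 9, 7, 15, 13, 11, 9, 7, 4, 6, 8, 10, 12, 14, 6, 8, 10, 16, 18]] [((9, []), [(187, 0), (187, 1), (63, 0), (187, 2), (146, 0), (146, 1), (643, 0)], [])] (by decide +kernel)
    (by simp only [List.forall_mem_cons]; exact ⟨claim48, by simp⟩)

theorem claim77 : Claim nd Y d ps [(0, []), (6, []), (2, []), (3, []), (4, []), (4, [10, 12, 18, 10]), (8, []), (2, [6, 8, 10, 12, 14, 6, 8, 10])] :=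
  P.claim_kill1 [10, 6, 12, 14, 4, 8, 10, 6, 12, 14, 4, 8, 10, 6, 12, 14, 4, 8, 10, 6, 12, 14, 4, 8, 10, 6, 12, 14, 4, 8, 0] rel0 695 (by decide +kernel)

theorem claim78 : Claim nd Y d ps [(0, []), (6, []), (2, []), (3, []), (4, []), (4, [10, 12, 18, 10]), (8, []), (0, [2, 4, 6, 8, 14, 6, 4, 2])] :=
  P.claim_kill1 [10, 6, 12, 14, 4, 8, 10, 6, 12, 14, 4, 8, 10, 6, 12, 14, 4, 8, 10, 6, 12, 14, 4, 8, 10, 6, 12, 14, 4, 8, 0] rel0 695 (by decide +kernel)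

theorem claim79 : Claim nd Y d ps [(0, []), (6, []), (2, []), (3, []), (4, []), (4, [10, 12, 18, 10]), (8, []), (9, [])] :=
  P.claim_kill1 [10, 6, 12, 14, 4, 8, 10, 6, 12, 14, 4, 8, 10, 6, 12, 14, 4, 8, 10, 6, 12, 14, 4, 8, 10, 6, 12, 14, 4, 8, 0] rel0 84 (by decide +kernel)

theorem claim80 : Claim nd Y d ps [(0, []), (6, []), (2, []), (3, []), (4, []), (4, [10, 12, 18, 10]), (8, []), (0, [2, 4, 6, 8, 10, 12, 18, 10, 8, 6, 4, 2])] :=
  P.claim_kill1 [10, 6, 12, 14, 4, 8, 10, 6, 12, 14, 4, 8, 10, 6, 12, 14, 4, 8, 10, 6, 12, 14, 4, 8, 10, 6, 12, 14, 4, 8, 0] rel0 84 (by decide +kernel)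

theorem claim76 : Claim nd Y d ps [(0, []), (6, []), (2, []), (3, []), (4, []), (4, [10, 12, 18, 10]), (8, [])] :=
  P.claim_branch [] [((2, [6, 8, 10, 12, 14, 6, 8, 10]), [], []), ((0, [2, 4, 6, 8, 14, 6, 4, 2]), [], []), ((9, []), [], []), ((0, [2, 4, 6, 8, 10, 12, 18, 10, 8, 6, 4, 2]), [], [])] (by decide +kernel)
    (by simp only [List.forall_mem_cons]; exact ⟨claim77, claim78, claim79, claim80, by simp⟩)

theorem claim75 : Claim nd Y d ps [(0, []), (6, []), (2, []), (3, []), (4, []), (4, [10, 12, 18, 10])] :=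
  P.claim_branch [[18], [11, 9, 7, 15, 13, 11, 9, 7, 4, 6, 8, 10, 12, 14, 6, 8, 10], [3, 5, 7, 15, 9, 7, 5, 3, 0, 2, 4, 6, 8, 14, 6, 4, 2]] [((8, []), [(76, 0), (76, 1), (146, 0), (76, 2), (63, 0), (63, 1), (642, 0)], [])] (by decide +kernel)
    (by simp only [List.forall_mem_cons]; exact ⟨claim76, by simp⟩)

theorem claim81 : Claim nd Y d ps [(0, []), (6, []), (2, []), (3, []), (4, []), (2, [6, 8, 10, 12, 14, 6, 8, 10, 16, 14, 6, 4, 18, 16, 14, 6])] :=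
  P.claim_branch [] [] (by decide +kernel) (by simp)

theorem claim82 : Claim nd Y d ps [(0, []), (6, []), (2, []), (3, []), (4, []), (2, [6, 8, 10, 12, 14, 6, 8, 10, 16, 14, 6, 8, 18, 16, 14, 6])] :=
  P.claim_branch [] [] (by decide +kernel) (by simp)

theorem claim18 : Claim nd Y d ps [(0, []), (6, []), (2, []), (3, []), (4, [])] :=
  P.claim_branch [[16], [18], [15, 17, 7, 15, 9, 7, 4, 6, 8, 14, 6, 16, 14], [11, 9, 7, 15, 13, 11, 9, 7, 4, 6, 8, 10, 12, 14, 6, 8, 10]] [((7, []), [(21, 0), (45, 1), (21, 2), (13, 0), (13, 1), (45, 3), (211, 1), (286, 0), (286, 2), (644, 0), (573, 1)], []), ((4, [10, 12, 18, 10, 16, 14]), [(342, 1), (279, 0), (279, 2), (664, 0), (599, 1), (342, 3), (157, 0), (157, 1), (157, 2), (553, 0), (467, 1)], []), ((4, [10, 12, 18, 10]), [(194, 0), (268, 1), (194, 2), (591, 0), (591, 1), (268, 3), (227, 1), (308, 0), (308, 2), (237, 0), (314, 1)], []), ((2, [6, 8, 10, 12, 14,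 6, 8, 10, 16, 14, 6, 4, 18, 16, 14, 6]), [], []), ((2, [6, 8, 10, 12, 14, 6, 8, 10, 16, 14, 6, 8, 18, 16, 14, 6]), [], [])] (by decide +kernel)
    (by simp only [List.forall_mem_cons]; exact ⟨claim19, claim47, claim75, claim81, claim82, by simp⟩)

theorem claim2 : Claim nd Y d ps [(0, []), (6, []), (2, []), (3, [])] :=
  P.claim_branch [[16], [18], [15, 17, 7, 15, 9, 7, 4, 6, 8, 14, 6, 16, 14], [11, 9, 7, 15, 13, 11, 9, 7, 4, 6, 8, 10, 12, 14, 6, 8, 10], [14, 4, 16, 6, 14, 4, 10, 18, 12, 10, 8, 10, 12, 18, 10, 16, 14, 6, 10, 18, 12, 10, 8, 10, 12, 18, 10, 16, 4, 14, 6, 14]] [((7, []), [(21, 0), (45, 1), (21, 2), (13, 0), (13, 1), (45, 3), (211, 1), (286, 0), (286, 2), (644, 0), (573, 1), (21, 4), (342, 1), (279, 0), (279, 2), (664, 0), (599, 1), (342, 3), (157, 0), (157, 1), (157, 2), (553, 0), (467, 1), (342, 4), (268, 0), (268, 1), (268, 2), (663, 0), (591, 1), (268, 3), (227, 1), (308, 0), (308,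 2), (237, 0), (314, 1)], []), ((4, []), [(28, 4), (649, 4)], [])] (by decide +kernel)
    (by simp only [List.forall_mem_cons]; exact ⟨claim3, claim18, by simp⟩)

theorem claim1 : Claim nd Y d ps [(0, []), (6, []), (2, [])] :=
  P.claim_branch [[4], [8], [14], [16], [18], [11, 19, 13, 11, 8, 10, 12, 18, 10], [7, 15, 9, 7, 4, 6, 8, 14, 6]] [((3, []), [(22, 0), (22, 1), (10, 0), (22, 2), (8, 0), (8, 1), (2, 0), (8, 3), (23, 0), (23, 1), (11, 0), (23, 4), (46, 0), (46, 1), (29, 0), (22, 5), (131, 0), (131, 1), (196, 0), (131, 2), (82, 0), (82, 1), (135, 0), (131, 3), (197, 0), (197, 1), (269, 0), (197, 2), (270, 0), (270, 1), (346, 0), (82, 3), (136, 0), (136, 1), (204, 0), (136, 2), (205, 0), (205, 1), (280, 0), (197, 4), (271, 0), (271, 1), (347, 0), (271, 2), (349, 0), (349, 1), (419, 0), (349, 3), (418, 0), (418, 1), (356, 0), (136, 4), (206, 0), (206, 1), (281, 0), (206, 2), (283, 0), (283, 1), (348,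 0), (283, 3), (353, 0), (353, 1), (282, 0)], [6, 3, 5])] (by decide +kernel)
    (by simp only [List.forall_mem_cons]; exact ⟨claim2, by simp⟩)

theorem claim0 : Claim nd Y d ps [(0, []), (6, [])] :=
  P.claim_branch [[4], [6], [8], [14], [16], [18], [11, 19, 13, 11, 8, 10, 12, 18, 10]] [((2, []), [(36, 1), (14, 0), (14, 2), (6, 0), (10, 1), (14, 3), (4, 0), (8, 1), (4, 2), (1, 0), (1, 1), (4, 4), (15, 0), (23, 1), (15, 2), (7, 0), (7, 1), (45, 3), (13, 3), (15, 5), (37, 0), (46, 1), (37, 2), (20, 0), (20, 1), (77, 3), (35, 3), (125, 4), (63, 4), (14, 6), (110, 0), (131, 1), (110, 2), (165, 0), (165, 1), (110, 3), (68, 0), (68, 1), (68, 2), (114, 0), (135, 1), (110, 4), (166, 0), (197, 1), (166, 2), (238, 0), (238, 1), (166, 3), (239, 0), (239, 1), (317, 0), (270, 1), (348, 0), (239, 2), (315, 0), (315, 1), (395, 0), (346, 1), (418, 0), (317, 2), (399, 0), (399, 1), (470, 0)], [4, 5, 3, 4, 6, 1, 4])]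 (by decide +kernel)
    (by simp only [List.forall_mem_cons]; exact ⟨claim1, by simp⟩)

theorem rigid : Rigid d (el nd Y ta) :=
  P.rigid el_d (us := ps.drop 2) (by decide +kernel) memX claim0

end Cfsg.Agent.Lib.Fis22
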