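import Cfsg.Agent.Lib.Fis23P

/-! Fi23: transitivity on commuting tuples of transpositions. -/

set_option autoImplicit false
set_option maxRecDepth 100000
set_option Elab.async false

namespace Cfsg.Agent.Lib.Fis23

open Cfsg Subgroup Cfsg.Agent.Lib.FisCore Cfsg.Agent.Lib.FisLoc Cfsg.Agent.Lib.FisPrim
  Cfsg.Agent.Lib.PermNet Cfsg.Agent.Lib.Words Cfsg.Agent.Lib.PermGroup Cfsg.Agent.Lib.FisPM
  Cfsg.Agent.Lib.Fi23A

abbrev td : Desc := (10, [])
abbrev ta : Desc := (0, [])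
abbrev tc : Desc := (2, [])
abbrev ts : Desc := (4, [])
abbrev ti : Desc := (8, [])
abbrev tj : Desc := (9, [])

theorem adj_d {t : Desc} (h : nd.adjB td t = true) : Adj d d (el nd Y t) := by
  have := P.adj h
  rwa [el_d] at this

theorem geo : Geo d (el nd Y ta) (el nd Y tc) (el nd Y ts) [] where
  sq := hd2
  ha := adj_d (by decide +kernel)
  hc1 := adj_d (by decide +kernel)
  hc2 := P.adj (by decide +kernel)
  hs1 := adj_d (by decide +kernel)
  hs2 := P.adj (by decide +kernel)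
  hs3 := P.adj (by decide +kernel)
  t1 := P.c_t1 el_d (ws := [[0], [2], [4], [6], [8], [10], [12], [14], [16]]) (seq := ([(2400, 1), (2102, 0), (2102, 2), (1792, 0), (1529, 1), (1792, 3), (1465, 0), (1253, 1), (1528, 2), (1465, 4), (1169, 0), (994, 1), (1252, 2), (1526, 3), (1169, 5), (904, 0), (750, 1), (992, 2), (1250, 3), (1527, 4), (904, 6), (681, 0), (549, 1), (763, 2), (1002, 3), (1258, 4), (1532, 5), (1465, 7), (1168, 0), (993, 1), (1251, 2), (1525, 3), (1168, 4), (903, 0), (749, 1), (991, 2), (903, 3), (671, 0), (538, 1), (671, 2), (479, 0), (479, 1), (903, 5), (670, 0), (537, 1), (747, 2), (670, 3), (477, 0), (374, 1), (477, 2), (332, 0), (332, 1), (477, 4), (331, 0), (249, 1), (331, 2), (220, 0), (220, 1), (220, 3), (139, 0), (139, 1), (206, 2), (670, 6)], [8, 6, 7, 5, 3, 4, 8, 2, 5, 1, 3, 6, 0, 7, 2, 4, 8, 3, 1, 0, 2, 7, 1, 3, 4, 0])) (by decide +kernel)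
  t2 := P.c_t2 el_d (ws := [[4], [6], [8], [10], [12], [14], [16], [11, 9, 7, 15, 5, 7, 9, 3, 5, 7, 15, 11, 9, 7, 5, 3, 0, 2, 4, 6, 8, 10, 14, 6, 4, 2, 8, 6, 4, 14, 6, 8, 10]]) (seq := ([(1825, 1), (1528, 0), (1528, 2), (1252, 0), (1526, 1), (1252, 3), (992, 0), (1250, 1), (1527, 2), (992, 4), (763, 0), (1002, 1), (1258, 2), (1532, 3), (1528, 5), (1251, 0), (1525, 1), (1251, 2), (991, 0), (991, 1), (991, 3), (747, 0), (747, 1), (536, 2), (747, 4), (548, 0), (548, 1), (382, 2), (254, 3), (1251, 6), (1021, 0), (1260, 1), (1021, 2), (801, 0), (801, 1), (801, 3), (597, 0), (597, 1), (428, 2), (597, 4), (429, 0), (429, 1), (294, 2), (195, 3), (1533, 5), (596, 5), (427, 3), (293, 2), (194, 1), (121, 0), (293, 4), (193, 2), (119, 1), (72, 0), (119, 3), (71, 1), (41, 0), (41, 2), (23, 0), (13, 1), (7, 5), (3, 6), (992, 7)], [7, 3, 6, 2, 4, 1, 5, 3, 0, 1, 0])) (by decide +kernel)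
  t3 := P.c_t3 el_d (es := []) (ws := [[8], [10], [12], [14], [16], [7, 15, 9, 7, 4, 6, 8, 14, 6], [3, 5, 7, 15, 9, 7, 5, 3, 0, 2, 4, 6, 8, 14, 6, 4, 2]]) (seq := ([(1823, 1), (1527, 0), (1527, 2), (1258, 0), (1532, 1), (1527, 5), (373, 0), (536, 1), (373, 2), (254, 0), (254, 1), (373, 4), (295, 0), (428, 1), (295, 2), (195, 0), (195, 1), (295, 3), (194, 0), (293, 1), (194, 2), (119, 0), (119, 1), (596, 5), (1828, 3), (1533, 4), (120, 5), (7, 3), (3, 4), (1527, 6), (310, 0), (448, 1), (310, 2), (208, 0), (208, 1), (310, 4), (449, 0), (627, 1), (449, 2), (314, 0), (314, 1), (449, 3), (628, 0), (843, 1), (628, 2), (453, 0), (453, 1), (310, 5), (430, 0), (430, 1), (430, 2), (296, 0), (196, 1), (430, 4), (600, 0), (600, 1), (600, 2), (431, 0), (298, 1), (600, 3), (804, 0), (804, 1), (804, 2)], [5, 1, 0, 2, 3, 4, 1, 6, 1, 4])) (by decide +kernel)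
  hE := by simp
  hs := by
    have c := P.cen (ws := [nd.W (6, []), nd.W (0, [2, 4, 6, 8, 10, 12, 14, 6, 4, 2, 8, 6, 4, 10, 8, 6, 16, 14, 6, 4, 2, 0, 8, 6, 4, 2, 14, 6, 8, 16, 14, 6]), nd.W (0, [2, 4, 6, 8, 10, 12, 14, 6, 4, 2, 8, 6, 4, 10, 8, 6, 16, 14, 6, 4, 2, 0, 8, 6, 4, 2, 14, 6, 4, 16, 14, 6])]) (ts := [td, ta]) (by decide +kernel)
    simp only [List.forall_mem_cons, el_d] at c
    refine ⟨el nd Y (6, []), el nd Y (0, [2, 4, 6, 8, 10, 12, 14, 6, 4, 2, 8, 6, 4, 10, 8, 6, 16, 14, 6, 4, 2, 0, 8, 6, 4, 2, 14, 6, 8, 16, 14, 6]), el nd Y (0, [2, 4, 6, 8, 10, 12, 14, 6, 4, 2, 8, 6, 4, 10, 8, 6, 16, 14, 6, 4, 2, 0, 8, 6, 4, 2, 14, 6, 4, 16, 14, 6]), P.adj (by decide +kernel), P.adj (by decide +kernel),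
      P.adj (by decide +kernel), c.1.1.mul_right c.1.2.1, c.2.1.1.mul_right c.2.1.2.1,
      c.2.2.1.1.mul_right c.2.2.1.2.1, ?_⟩
    rw [← el_d]
    simp only [el, ← wval_append]
    exact eqc (by decide +kernel)
  fix2 := by
    have := P.c_fix el_d (w := nd.W td ++ nd.W ta) (by decide +kernel)
    rwa [wval_append, show wval Y (nd.W td) = d from el_d] at this
  fix3 := by
    have := P.c_fix el_d (w := nd.W td ++ nd.W ta ++ nd.W tc) (by decide +kernel)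
    rwa [wval_append, wval_append, show wval Y (nd.W td) = d from el_d] at this

theorem r1 : ∀ x ∈ DD d, ¬ Commute x d → ∃ h, Commute h d ∧ h * el nd Y tj * h⁻¹ = x :=
  P.c_r1 el_d (ws := [[0], [2], [4], [6], [8], [10], [12], [14], [16]]) (seq := ([(8895, 6), (7859, 5), (6997, 4), (6280, 3), (5685, 2), (5193, 1), (4788, 0), (5685, 7), (5192, 2), (4787, 1), (4471, 0), (4787, 3), (4470, 1), (4223, 0), (4223, 2), (4031, 0), (4162, 1), (4470, 4), (4222, 1), (4030, 0), (4030, 2), (3882, 0), (3984, 1), (3882, 3), (3772, 0), (3848, 1), (3953, 2), (4222, 5), (4035, 1), (3885, 0), (3885, 2), (3774, 0), (3850, 1), (3774, 3), (3695, 0), (3748, 1), (3827, 2), (3695, 4), (3642, 0), (3679, 1), (3735, 2), (3817, 3), (4035, 6), (3889, 1), (3777, 0), (3777, 2), (3697, 0), (3750, 1), (3697, 3), (3640, 0), (3677, 1), (3733, 2), (3640, 4), (3603, 0), (3628, 1), (3667, 2), (3727, 3), (3603, 5), (3575, 0), (3592,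 1), (3620, 2), (3663, 3), (3729, 4)], [8, 7, 3, 8, 2, 4, 1, 5, 3, 0, 6, 7, 4, 2, 3, 8, 5, 2, 1, 7, 4, 3, 0, 2, 7, 8, 4, 1, 5, 0, 3, 4, 3, 2, 1, 3, 6])) (by decide +kernel)

theorem r2 : ∀ x ∈ DD d, Commute x (el nd Y ta) → ¬ Commute x d →
    ∃ h, Commute h d ∧ Commute h (el nd Y ta) ∧ h * el nd Y tj * h⁻¹ = x :=
  P.c_r2 el_d (ws := [[4], [6], [8], [10], [12], [14], [16], [11, 9, 7, 15, 5, 7, 9, 3, 5, 7, 15, 11, 9, 7, 5, 3, 0, 2, 4, 6, 8, 10, 14, 6, 4, 2, 8, 6, 4, 14, 6, 8, 10]]) (seq := ([(8895, 4), (7859, 3), (6997, 2), (6280, 1), (5685, 0), (5685, 5), (5192, 0), (4787, 1), (4470, 2), (4222, 3), (4035, 4), (5192, 6), (4874, 0), (4551, 1), (4295, 2), (4093, 3), (3933, 4), (4295, 5), (4092, 2), (3932, 1), (3809, 0), (3932, 3), (3808, 1), (3720, 0), (3720, 2), (3657, 0), (3614, 1), (3808, 4), (3724, 1), (3660, 0), (3660, 2), (3615, 0), (3585, 1), (3615, 3), (3586, 0), (3564, 1), (3548, 2), (3584,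 5), (3562, 4), (3547, 3), (3536, 2), (3529, 1), (3524, 0), (3562, 6), (3546, 4), (3535, 3), (3528, 2), (3523, 1), (3519, 0), (3519, 5), (3516, 0), (3515, 1), (3514, 2), (3513, 3), (3512, 4), (6997, 7), (4296, 2), (4094, 1), (3937, 0), (4094, 3), (3935, 1), (3814, 0), (3814, 2)], [6, 5, 4, 1, 6, 2, 0, 3, 1, 5, 4, 2, 6, 1, 0, 3, 2, 5, 1, 2, 3, 6, 5, 6, 7, 6, 0])) (by decide +kernel)

end Cfsg.Agent.Lib.Fis23
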