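import Cfsg.Agent.Lib.Fis23A

/-! Fi23: generators of centralisers. -/

set_option autoImplicit false
set_option maxRecDepth 100000
set_option Elab.async false

namespace Cfsg.Agent.Lib.Fis23

open Cfsg Subgroup Cfsg.Agent.Lib.FisCore Cfsg.Agent.Lib.FisLoc Cfsg.Agent.Lib.FisPrim
  Cfsg.Agent.Lib.PermNet Cfsg.Agent.Lib.Words Cfsg.Agent.Lib.PermGroup Cfsg.Agent.Lib.FisPM
  Cfsg.Agent.Lib.Fi23A

def ps : List Desc := [(10, []), (0, []), (2, []), (3, []), (4, []), (5, []), (7, []), (8, []), (6, []), (0, [2, 4, 6, 8, 10, 14, 6, 4, 2, 8, 6, 4, 14, 6, 8, 10])]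

theorem upX : Nat.card (fixer phi.range [2400, 0]) ≤ 36787322880 :=
  P.card_fixer_leI [[0], [2], [4], [6], [8], [10], [12], [14], [16]] [0] 2400 ([(2400, 1), (2102, 0), (2102, 2), (1792, 0), (1529, 1), (1792, 3), (1465, 0), (1253, 1), (1528, 2), (1465, 4), (1169, 0), (994, 1), (1252, 2), (1526, 3), (1169, 5), (904, 0), (750, 1), (992, 2), (1250, 3), (1527, 4), (904, 6), (681, 0), (549, 1), (763, 2), (1002, 3), (1258, 4), (1532, 5), (1465, 7), (1168, 0), (993, 1), (1251, 2), (1525, 3), (1168, 4), (903, 0), (749, 1), (991, 2), (903, 3), (671, 0), (538, 1), (671, 2), (479, 0), (479, 1), (903, 5), (670, 0), (537, 1), (747, 2), (670, 3), (477, 0), (374, 1), (477, 2), (332, 0), (332, 1), (477, 4), (331, 0), (249, 1), (331, 2), (220, 0), (220, 1), (220, 3), (139, 0), (139, 1), (206, 2), (670, 6)], [8, 6, 7, 5, 3, 4, 8, 2, 5, 1, 3, 6, 0, 7, 2, 4, 8, 3, 1, 0, 2, 7, 1, 3, 4, 0]) 1 110 3510 (by decide +kernel) (up1.trans_lt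 (by norm_num))

theorem upY : Nat.card (fixer phi.range [8895, 0]) ≤ 4585351680 :=
  P.card_fixer_leI [[0], [2], [4], [6], [8], [10], [12], [14], [16]] [0] 8895 ([(8895, 6), (7859, 5), (6997, 4), (6280, 3), (5685, 2), (5193, 1), (4788, 0), (5685, 7), (5192, 2), (4787, 1), (4471, 0), (4787, 3), (4470, 1), (4223, 0), (4223, 2), (4031, 0), (4162, 1), (4470, 4), (4222, 1), (4030, 0), (4030, 2), (3882, 0), (3984, 1), (3882, 3), (3772, 0), (3848, 1), (3953, 2), (4222, 5), (4035, 1), (3885, 0), (3885, 2), (3774, 0), (3850, 1), (3774, 3), (3695, 0), (3748, 1), (3827, 2), (3695, 4), (3642, 0), (3679, 1), (3735, 2), (3817, 3), (4035, 6), (3889, 1), (3777, 0), (3777, 2), (3697, 0), (3750, 1), (3697, 3), (3640, 0), (3677, 1), (3733, 2), (3640, 4), (3603, 0), (3628, 1), (3667, 2), (3727, 3), (3603, 5), (3575, 0), (3592, 1), (3620, 2), (3663, 3), (3729, 4)], [8, 7, 3, 8, 2, 4, 1, 5, 3, 0, 6, 7, 4, 2, 3, 8, 5, 2, 1, 7, 4, 3, 0,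 2, 7, 8, 4, 1, 5, 0, 3, 4, 3, 2, 1, 3, 6]) 3511 880 28160 (by decide +kernel) (up1.trans_lt (by norm_num))

theorem lowX6 : 2 ≤ Nat.card (fixer (gp nets.perm (ps.map nd.W)) [1824, 1823, 1825, 1822, 8895, 1826]) :=
  P.lower (ps.map nd.W) [[14]] [1824, 1823, 1825, 1822, 8895, 1826] 1821 ([(1821, 0)], []) 1533 10 2 (by decide +kernel) (P.lower_one _ _)

theorem lowX5 : 6 ≤ Nat.card (fixer (gp nets.perm (ps.map nd.W)) [1823, 1825, 1822, 8895, 1826]) :=
  P.lower (ps.map nd.W) [[14], [18]] [1823, 1825, 1822, 8895, 1826] 1824 ([(1824, 1), (430, 0)], []) 430 44 3 (by decide +kernel) lowX6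

theorem lowX4 : 24 ≤ Nat.card (fixer (gp nets.perm (ps.map nd.W)) [1825, 1822, 8895, 1826]) :=
  P.lower (ps.map nd.W) [[10], [14], [18]] [1825, 1822, 8895, 1826] 1823 ([(1823, 0), (1527, 2), (297, 1)], []) 297 48 4 (by decide +kernel) lowX5

theorem lowX3 : 1296 ≤ Nat.card (fixer (gp nets.perm (ps.map nd.W)) [1822, 8895, 1826]) :=
  P.lower (ps.map nd.W) [[6], [10], [14], [18], [12, 6, 8, 6, 12]] [1822, 8895, 1826] 1825 ([(1825, 0), (1825, 4), (991, 0), (991, 1), (747, 0), (991, 2), (801, 0), (801, 1), (597, 0), (597, 4), (194, 0), (747, 3), (206, 0), (206, 2), (311, 0), (311, 4), (1083, 0), (1083, 1), (1348, 0), (801, 3), (1344, 0), (1344, 1), (1081, 0), (1081, 4), (629, 0), (629, 2), (451, 0), (597, 3), (1567, 0), (1567, 1), (1282, 0), (1567, 2), (1287, 0), (1287, 1), (1039, 0), (1567, 4), (1356, 0), (1356, 1), (1089, 0), (1356, 2), (1573, 0), (1573, 1), (1350, 0), (1282, 4), (1347, 0), (1347, 1), (1546, 0),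 (1287, 4), (845, 0), (845, 2), (630, 0), (1350, 3), (628, 0)], []) 121 54 54 (by decide +kernel) lowX4

theorem lowX2 : 58320 ≤ Nat.card (fixer (gp nets.perm (ps.map nd.W)) [8895, 1826]) :=
  P.lower (ps.map nd.W) [[6], [8], [10], [12], [14], [18]] [8895, 1826] 1822 ([(1822, 1), (1526, 0), (1526, 2), (1250, 0), (1527, 1), (1822, 3), (1525, 0), (1525, 1), (1249, 2), (1525, 4), (1260, 0), (1260, 1), (1020, 2), (1533, 3), (1250, 5), (198, 0), (297, 1), (430, 2), (198, 3), (198, 4), (301, 0), (432, 1), (600, 2), (301, 3), (436, 0), (607, 1), (814, 2), (432, 3), (602, 0), (602, 1), (804, 0), (806, 1), (1027, 0), (804, 2), (1022, 0), (1261, 1), (1027, 2), (1269, 0), (1538, 1), (300, 4), (435, 3), (606, 0), (812, 1), (1037, 2)], []) 198 51 45 (by decide +kernel) lowX3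

theorem lowX1 : 13063680 ≤ Nat.card (fixer (gp nets.perm (ps.map nd.W)) [1826]) :=
  P.lower (ps.map nd.W) [[0], [6], [8], [10], [12], [14], [16], [18], [0]] [1826] 8895 ([(8895, 6), (7859, 3), (6997, 2), (6280, 1), (5685, 4), (5192, 5), (6997, 7), (4296, 2), (4094, 1), (4094, 3), (3935, 1), (3814, 2), (3937, 4), (4097, 3), (3938, 2), (3817, 1), (4296, 5), (4552, 2), (4297, 1), (4297, 3), (4095, 1), (3939, 2), (4552, 4), (4875, 1), (4875, 2), (4553, 1), (5278, 2), (5766, 1), (4553, 3), (4298, 1), (4554, 2), (5766, 3), (6350, 1), (5769, 2), (4098, 4), (4301, 1), (4558, 2), (4301, 3), (4100, 1), (4100, 2), (3944, 1), (4303, 2), (4561, 1), (4884, 3), (5293, 2), (4889, 1), (4097, 5), (4300, 3), (4099, 2), (3943, 1), (4300, 4), (4557, 1), (4882, 2), (4557, 3), (4302, 1), (4302, 2), (4104, 1), (4559, 2), (4886, 1), (5290, 3), (5783, 2), (5296, 1), (4103, 4)], [6, 3, 2, 4, 1, 7, 5, 3, 4, 2, 1, 6]) 3511 465 224 (by decide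 +kernel) lowX2

theorem lowX0 : 36787322880 ≤ Nat.card (fixer (gp nets.perm (ps.map nd.W)) []) :=
  P.lower (ps.map nd.W) [[2], [4], [6], [8], [10], [12], [14], [16], [18]] [] 1826 ([(1826, 0), (1826, 1), (1529, 0), (1529, 2), (1253, 0), (1253, 3), (994, 0), (994, 4), (750, 0), (1253, 5), (993, 0), (993, 3), (749, 0), (749, 2), (538, 0), (538, 1), (376, 0), (749, 4), (537, 0), (537, 2), (374, 0), (374, 1), (250, 0), (374, 3), (249, 0), (249, 1), (159, 0), (159, 2), (96, 0), (96, 5), (56, 0), (993, 6), (1254, 0), (1254, 3), (995, 0), (995, 2), (752, 0), (752, 1), (540, 0), (995, 4), (751, 0), (751, 2), (539, 0), (539, 1), (377, 0), (539, 3), (375, 0), (375, 1), (251, 0), (251, 2), (160, 0), (752, 5), (595, 0), (595, 1), (753, 0), (753, 2), (996, 0), (996, 3), (1255, 0), (595, 4), (426, 0), (426, 1), (541, 0)], [7, 4, 3, 2, 5, 6, 1, 7, 4, 3, 2, 5, 1, 3, 8, 4, 6, 3, 5, 2, 1, 7]) 2 110 2816 (by decide +kernel) lowX1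

def ys : List Desc := [(0, []), (1, []), (2, []), (3, []), (4, []), (5, []), (7, []), (8, [])]

theorem lowY6 : 2 ≤ Nat.card (fixer (gp nets.perm (ys.map nd.W)) [1824, 1823, 1822, 1825, 1826, 2400]) :=
  P.lower (ys.map nd.W) [[14]] [1824, 1823, 1822, 1825, 1826, 2400] 1821 ([(1821, 0)], []) 1533 10 2 (by decide +kernel) (P.lower_one _ _)

theorem lowY5 : 6 ≤ Nat.card (fixer (gp nets.perm (ys.map nd.W)) [1823, 1822, 1825, 1826, 2400]) :=
  P.lower (ys.map nd.W) [[14], [12, 8, 6, 12, 8, 6, 4, 6, 12, 8, 6, 4, 0, 2, 4, 6, 12, 8, 6, 4, 0, 2, 0, 4, 6, 8, 12, 6, 4, 2]] [1823, 1822, 1825, 1826, 2400] 1824 ([(1824, 1), (430, 0)], []) 430 44 3 (by decide +kernel) lowY6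

theorem lowY4 : 24 ≤ Nat.card (fixer (gp nets.perm (ys.map nd.W)) [1822, 1825, 1826, 2400]) :=
  P.lower (ys.map nd.W) [[10], [14], [12, 8, 6, 12, 8, 6, 4, 6, 12, 8, 6, 4, 0, 2, 4, 6, 12, 8, 6, 4, 0, 2, 0, 4, 6, 8, 12, 6, 4, 2]] [1822, 1825, 1826, 2400] 1823 ([(1823, 0), (1527, 2), (297, 1)], []) 297 48 4 (by decide +kernel) lowY5

theorem lowY3 : 720 ≤ Nat.card (fixer (gp nets.perm (ys.map nd.W)) [1825, 1826, 2400]) :=
  P.lower (ys.map nd.W) [[8], [10], [12], [14], [6, 12, 8, 6, 4, 6, 12, 8, 6, 4, 0, 2, 4, 6, 12, 8, 6, 4, 0, 2, 0, 4, 6, 8, 12, 6, 4, 2]] [1825, 1826, 2400] 1822 ([(1822, 0), (1526, 1), (1822, 2), (1525, 0), (1249, 1), (1525, 3), (1260, 0), (1020, 1), (1250, 4), (300, 2), (300, 3), (435, 2), (198, 3), (301, 2), (1260, 4), (1535, 0), (1535, 1), (1345, 0), (1261, 1), (1023, 0), (802, 4), (1283, 1), (1037, 0), (1283, 3), (1040, 1), (814, 0), (1040, 2), (1269, 1), (1027, 0)], []) 198 51 30 (by decide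 +kernel) lowY4

theorem lowY2 : 58320 ≤ Nat.card (fixer (gp nets.perm (ys.map nd.W)) [1826, 2400]) :=
  P.lower (ys.map nd.W) [[6], [8], [10], [12], [14], [4, 6, 12, 8, 6, 4, 0, 2, 4, 6, 12, 8, 6, 4, 0, 2, 0, 4, 6, 8, 12, 6, 4, 2]] [1826, 2400] 1825 ([(1825, 0), (1528, 1), (1252, 2), (1528, 3), (1251, 1), (991, 0), (991, 2), (747, 0), (536, 1), (1251, 4), (1021, 1), (801, 0), (801, 2), (597, 0), (428, 1), (596, 3), (427, 2), (293, 1), (194, 0), (992, 5), (448, 1), (310, 0), (448, 2), (206, 3), (448, 4), (627, 1), (449, 0), (627, 2), (627, 3), (843, 0), (843, 1), (628, 0), (1081, 1), (1346, 0), (843, 2), (1080, 0), (1344, 1), (1346, 2), (1537, 0), (1537, 1), (311, 3), (450, 0), (629, 1), (846, 2), (129, 4), (207, 3), (312, 0), (451, 1), (631, 2), (597, 5), (1090, 0), (1356, 1), (1090, 2), (848, 0), (848, 1), (630, 0), (1089, 1), (1286, 0), (1664, 2), (1839, 1), (1572, 0), (1356, 3), (1665, 1)], [4, 3, 5]) 73 56 81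 (by decide +kernel) lowY3

theorem lowY1 : 13063680 ≤ Nat.card (fixer (gp nets.perm (ys.map nd.W)) [2400]) :=
  P.lower (ys.map nd.W) [[0], [4], [6], [8], [10], [12], [14], [2, 4, 6, 12, 8, 6, 4, 0, 2, 0, 4, 6, 8, 12, 6, 4, 2]] [2400] 1826 ([(1826, 0), (1826, 1), (1529, 0), (1529, 2), (1253, 0), (1253, 3), (994, 0), (994, 4), (750, 0), (1253, 5), (993, 0), (993, 3), (749, 0), (749, 2), (538, 0), (538, 1), (376, 0), (749, 4), (537, 0), (537, 2), (374, 0), (374, 1), (250, 0), (374, 3), (249, 0), (249, 1), (159, 0), (159, 2), (96, 0), (96, 5), (56, 0), (993, 6), (1254, 0), (1254, 3), (995, 0), (995, 2), (752, 0), (752, 1), (540, 0), (995, 4), (751, 0), (751, 2), (539, 0), (539, 1), (377, 0), (539, 3), (375, 0), (375, 1), (251, 0), (251, 2), (160, 0), (752, 5), (595, 0), (595, 1), (753, 0), (753, 2), (996, 0), (996, 3), (1255, 0), (595, 4), (426, 0), (426, 1), (541, 0)], [5, 2, 1, 3, 4, 6, 7, 4, 3, 2, 1]) 56 65 224 (by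 decide +kernel) lowY2

theorem lowY0 : 4585351680 ≤ Nat.card (fixer (gp nets.perm (ys.map nd.W)) []) :=
  P.lower (ys.map nd.W) [[0], [2], [4], [6], [8], [10], [12], [14]] [] 2400 ([(2400, 1), (2102, 0), (2102, 2), (1792, 0), (1529, 1), (1792, 3), (1465, 0), (1253, 1), (1528, 2), (1465, 4), (1169, 0), (994, 1), (1252, 2), (1526, 3), (1169, 5), (904, 0), (750, 1), (992, 2), (1250, 3), (1527, 4), (1465, 6), (1168, 0), (993, 1), (1251, 2), (1525, 3), (1168, 4), (903, 0), (749, 1), (991, 2), (903, 3), (671, 0), (538, 1), (671, 2), (479, 0), (479, 1), (903, 5), (670, 0), (537, 1), (747, 2), (670, 3), (477, 0), (374, 1), (477, 2), (332, 0), (332, 1), (477, 4), (331, 0), (249, 1), (331, 2), (220, 0), (220, 1), (220, 3), (139, 0), (139, 1), (206, 2), (139, 6), (83, 0), (83, 1), (129, 2), (198, 3), (297, 4), (430, 5), (1168, 7)], [7, 6, 3, 4, 2, 1, 5, 0, 3, 4]) 56 74 351 (by decide +kernel) lowY1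

theorem memX (g : Spor.Fi23) (h1 : Commute g d) (h2 : Commute g (el nd Y ta)) :
    g ∈ gp Y (ps.map nd.W) :=
  P.mem_gp_of_card (by decide +kernel) upX lowX0
    (P.fix_of_at (ts := [ta, td]) (by decide +kernel) (by simp [el_d, h1, h2]))

theorem memY (g : Spor.Fi23) (h1 : Commute g d) (h2 : Commute g (el nd Y tj)) :
    g ∈ gp Y (ys.map nd.W) :=
  P.mem_gp_of_card (by decide +kernel) upY lowY0
    (P.fix_of_at (ts := [tj, td]) (by decide +kernel) (by simp [el_d, h1, h2]))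

end Cfsg.Agent.Lib.Fis23
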