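import Cfsg.Agent.Lib.Fis23C

/-! Fi23: rigidity of the centraliser of two commuting transpositions. -/

set_option autoImplicit false
set_option maxRecDepth 100000
set_option Elab.async false

namespace Cfsg.Agent.Lib.Fis23

open Cfsg Subgroup Cfsg.Agent.Lib.FisCore Cfsg.Agent.Lib.FisLoc Cfsg.Agent.Lib.FisPrim
  Cfsg.Agent.Lib.PermNet Cfsg.Agent.Lib.Words Cfsg.Agent.Lib.PermGroup Cfsg.Agent.Lib.FisPM
  Cfsg.Agent.Lib.Fi23A

theorem rel0 : wval Y (subst (ps.map nd.W) [18, 10, 8, 6, 14, 12, 18, 10, 8, 6, 14, 12, 18, 10, 8, 6, 14, 12, 18, 10, 8, 6, 14, 12]) = 1 :=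
  eqc (v := []) (by decide +kernel)

theorem claim8 : Claim nd Y d ps [(10, []), (0, []), (2, []), (3, []), (4, []), (5, []), (7, []), (8, []), (6, []), (2, [6, 8, 10, 12, 14, 6, 8, 10])] :=
  P.claim_kill1 [18, 10, 8, 6, 14, 12, 18, 10, 8, 6, 14, 12, 18, 10, 8, 6, 14, 12, 18, 10, 8, 6, 14, 12] rel0 8895 (by decide +kernel)

theorem claim9 : Claim nd Y d ps [(10, []), (0, []), (2, []), (3, []), (4, []), (5, []), (7, []), (8, []), (6, []), (0, [2, 4, 6, 8, 10, 14, 6, 4, 2, 8, 6, 4, 14, 6, 8, 10])] := claim_done ps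

theorem rel1 : wval Y (subst (ps.map nd.W) [12, 10, 16, 8, 14, 18, 12, 10, 16, 8, 14, 18, 12, 10, 16, 8, 14, 18, 12, 10, 16, 8, 14, 18, 12, 10, 16, 8, 14, 18, 0]) = 1 :=
  eqc (v := []) (by decide +kernel)

theorem claim10 : Claim nd Y d ps [(10, []), (0, []), (2, []), (3, []), (4, []), (5, []), (7, []), (8, []), (6, []), (0, [2, 4, 6, 8, 14, 6, 4, 2])] :=
  P.claim_kill1 [12, 10, 16, 8, 14, 18, 12, 10, 16, 8, 14, 18, 12, 10, 16, 8, 14, 18, 12, 10, 16, 8, 14, 18, 12, 10, 16, 8, 14, 18, 0] rel1 1826 (by decide +kernel)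

theorem claim7 : Claim nd Y d ps [(10, []), (0, []), (2, []), (3, []), (4, []), (5, []), (7, []), (8, []), (6, [])] :=
  P.claim_branch [] [((2, [6, 8, 10, 12, 14, 6, 8, 10]), [], []), ((0, [2, 4, 6, 8, 10, 14, 6, 4, 2, 8, 6, 4, 14, 6, 8, 10]), [], []), ((0, [2, 4, 6, 8, 14, 6, 4, 2]), [], [])] (by decide +kernel)
    (by simp only [List.forall_mem_cons]; exact ⟨claim8, claim9, claim10, by simp⟩)

theorem claim6 : Claim nd Y d ps [(10, []), (0, []), (2, []), (3, []), (4, []), (5, []), (7, []), (8, [])] :=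
  P.claim_branch [] [((6, []), [], [])] (by decide +kernel)
    (by simp only [List.forall_mem_cons]; exact ⟨claim7, by simp⟩)

theorem claim5 : Claim nd Y d ps [(10, []), (0, []), (2, []), (3, []), (4, []), (5, []), (7, [])] :=
  P.claim_branch [[19, 13, 11, 9, 7, 15, 5, 7, 9, 11, 13, 19, 18, 12, 10, 8, 6, 4, 2, 14, 6, 4, 8, 6, 10, 8, 12, 10, 14, 6, 4, 8, 6, 14, 18, 12, 10, 8, 6, 4, 2, 4, 6, 8, 10, 12, 18, 14, 6, 8, 4, 6, 14, 10, 12, 8, 10, 6, 8, 4, 6, 14, 2, 4, 6, 8, 10, 12, 18, 18, 12, 10, 8, 6, 4, 14, 6, 8, 10, 12, 18]] [((8, []), [(1828, 0)], [])] (by decide +kernel)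
    (by simp only [List.forall_mem_cons]; exact ⟨claim6, by simp⟩)

theorem rel2 : wval Y (subst (ps.map nd.W) [14, 6, 10, 8, 4, 16, 12, 14, 6, 10, 8, 4, 16, 12, 14, 6, 10, 8, 4, 16, 12, 14, 6, 10, 8, 4, 16, 12, 14, 6, 10, 8, 4, 16, 12, 14, 6, 10, 8, 4, 16, 12, 14, 6, 10, 8, 4, 16, 12, 14, 6, 10, 8, 4, 16, 12, 14, 6, 10, 8, 4, 16, 12, 0]) = 1 :=
  eqc (v := []) (by decide +kernel)

theorem claim13 : Claim nd Y d ps [(10, []), (0, []), (2, []), (3, []), (4, []), (5, []), (0, [2, 4, 6, 8, 10, 12, 14, 6, 4, 2, 8, 6, 10, 8, 14, 6]), (8, []), (6, [])] :=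
  P.claim_kill1 [14, 6, 10, 8, 4, 16, 12, 14, 6, 10, 8, 4, 16, 12, 14, 6, 10, 8, 4, 16, 12, 14, 6, 10, 8, 4, 16, 12, 14, 6, 10, 8, 4, 16, 12, 14, 6, 10, 8, 4, 16, 12, 14, 6, 10, 8, 4, 16, 12, 14, 6, 10, 8, 4, 16, 12, 14, 6, 10, 8, 4, 16, 12, 0] rel2 8895 (by decide +kernel)

theorem claim12 : Claim nd Y d ps [(10, []), (0, []), (2, []), (3, []), (4, []), (5, []), (0, [2, 4, 6, 8, 10, 12, 14, 6, 4, 2, 8, 6, 10, 8, 14, 6]), (8, [])] :=
  P.claim_branch [] [((6, []), [], [])] (by decide +kernel)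
    (by simp only [List.forall_mem_cons]; exact ⟨claim13, by simp⟩)

theorem claim11 : Claim nd Y d ps [(10, []), (0, []), (2, []), (3, []), (4, []), (5, []), (0, [2, 4, 6, 8, 10, 12, 14, 6, 4, 2, 8, 6, 10, 8, 14, 6])] :=
  P.claim_branch [[19, 13, 11, 9, 7, 15, 5, 7, 9, 11, 13, 19, 18, 12, 10, 8, 6, 4, 2, 14, 6, 4, 8, 6, 10, 8, 12, 10, 14, 6, 4, 8, 6, 14, 18, 12, 10, 8, 6, 4, 2, 4, 6, 8, 10, 12, 18, 14, 6, 8, 4, 6, 14, 10, 12, 8, 10, 6, 8, 4, 6, 14, 2, 4, 6, 8, 10, 12, 18, 18, 12, 10, 8, 6, 4, 14, 6, 8, 10, 12, 18]] [((8, []), [(1828, 0)], [])] (by decide +kernel)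
    (by simp only [List.forall_mem_cons]; exact ⟨claim12, by simp⟩)

theorem claim16 : Claim nd Y d ps [(10, []), (0, []), (2, []), (3, []), (4, []), (5, []), (0, [2, 4, 6, 8, 10, 12, 14, 6, 4, 2, 8, 6, 4, 10, 8, 6]), (8, []), (6, [])] :=
  P.claim_kill1 [14, 6, 10, 8, 4, 16, 12, 14, 6, 10, 8, 4, 16, 12, 14, 6, 10, 8, 4, 16, 12, 14, 6, 10, 8, 4, 16, 12, 14, 6, 10, 8, 4, 16, 12, 14, 6, 10, 8, 4, 16, 12, 14, 6, 10, 8, 4, 16, 12, 14, 6, 10, 8, 4, 16, 12, 14, 6, 10, 8, 4, 16, 12, 0] rel2 8895 (by decide +kernel)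

theorem claim15 : Claim nd Y d ps [(10, []), (0, []), (2, []), (3, []), (4, []), (5, []), (0, [2, 4, 6, 8, 10, 12, 14, 6, 4, 2, 8, 6, 4, 10, 8, 6]), (8, [])] :=
  P.claim_branch [] [((6, []), [], [])] (by decide +kernel)
    (by simp only [List.forall_mem_cons]; exact ⟨claim16, by simp⟩)

theorem claim14 : Claim nd Y d ps [(10, []), (0, []), (2, []), (3, []), (4, []), (5, []), (0, [2, 4, 6, 8, 10, 12, 14, 6, 4, 2, 8, 6, 4, 10, 8, 6])] :=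
  P.claim_branch [[19, 13, 11, 9, 7, 15, 5, 7, 9, 11, 13, 19, 18, 12, 10, 8, 6, 4, 2, 14, 6, 4, 8, 6, 10, 8, 12, 10, 14, 6, 4, 8, 6, 14, 18, 12, 10, 8, 6, 4, 2, 4, 6, 8, 10, 12, 18, 14, 6, 8, 4, 6, 14, 10, 12, 8, 10, 6, 8, 4, 6, 14, 2, 4, 6, 8, 10, 12, 18, 18, 12, 10, 8, 6, 4, 14, 6, 8, 10, 12, 18]] [((8, []), [(1828, 0)], [])] (by decide +kernel)
    (by simp only [List.forall_mem_cons]; exact ⟨claim15, by simp⟩)

theorem claim4 : Claim nd Y d ps [(10, []), (0, []), (2, []), (3, []), (4, []), (5, [])] :=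
  P.claim_branch [[16], [19, 13, 11, 9, 7, 15, 5, 7, 9, 11, 13, 19, 18, 12, 10, 8, 6, 4, 2, 14, 6, 4, 8, 6, 10, 8, 12, 10, 14, 6, 4, 8, 6, 14, 18, 12, 10, 8, 6, 4, 2, 4, 6, 8, 10, 12, 18, 14, 6, 8, 4, 6, 14, 10, 12, 8, 10, 6, 8, 4, 6, 14, 2, 4, 6, 8, 10, 12, 18, 18, 12, 10, 8, 6, 4, 14, 6, 8, 10, 12, 18]] [((7, []), [(1821, 0), (1533, 1)], []), ((0, [2, 4, 6, 8, 10, 12, 14, 6, 4, 2, 8, 6, 10, 8, 14, 6]), [(14, 0), (26, 1)], []), ((0, [2, 4, 6, 8, 10, 12, 14, 6, 4, 2, 8, 6, 4, 10, 8, 6]), [(126, 0), (203, 1)], [])] (by decide +kernel)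
    (by simp only [List.forall_mem_cons]; exact ⟨claim5, claim11, claim14, by simp⟩)

theorem claim3 : Claim nd Y d ps [(10, []), (0, []), (2, []), (3, []), (4, [])] :=
  P.claim_branch [[16], [12], [15, 17, 7, 15, 9, 7, 4, 6, 8, 14, 6, 16, 14], [3, 5, 7, 15, 9, 7, 5, 3, 0, 2, 4, 6, 8, 14, 6, 4, 2], [11, 9, 7, 15, 13, 11, 9, 7, 4, 6, 8, 10, 12, 14, 6, 8, 10]] [((5, []), [(1824, 1), (1824, 2), (293, 1), (1824, 3), (448, 0), (448, 1), (313, 0), (448, 2), (1357, 0), (1357, 1), (1104, 0), (293, 3), (1665, 0), (1665, 1), (1852, 0), (1665, 2), (600, 0), (600, 1), (431, 0), (1664, 3), (295, 0), (295, 1), (195, 0), (627, 4), (1377, 0), (1377, 1), (1681, 0), (1682, 3), (1901, 1), (1901, 2), (666, 1)], [])] (by decide +kernel)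
    (by simp only [List.forall_mem_cons]; exact ⟨claim4, by simp⟩)

theorem claim2 : Claim nd Y d ps [(10, []), (0, []), (2, []), (3, [])] :=
  P.claim_branch [[10], [16], [12], [15, 17, 7, 15, 9, 7, 4, 6, 8, 14, 6, 16, 14], [9, 7, 15, 11, 9, 7, 4, 6, 8, 10, 14, 6, 8], [3, 5, 7, 15, 9, 7, 5, 3, 0, 2, 4, 6, 8, 14, 6, 4, 2]] [((4, []), [(1823, 0), (1527, 2), (1527, 3), (194, 2), (119, 0), (1823, 4), (536, 0), (536, 1), (428, 0), (536, 2), (382, 1), (748, 3), (1533, 1), (294, 4), (1527, 5), (310, 1), (310, 2), (208, 0), (208, 1), (314, 0), (310, 3), (1573, 0), (1573, 1), (1356, 0), (1573, 2), (1297, 0), (1297, 1), (1589, 0), (1350, 2), (1097, 0), (1097, 1), (858, 0), (132, 3), (1318, 0), (1318, 1), (1621, 0), (1620, 2), (1903, 1), (449, 4), (602, 2), (433, 0), (602, 3), (843, 0), (843, 2), (208, 4), (122, 0), (122, 1), (197, 0), (196, 2), (297, 1), (122, 3), (475, 0), (475, 1),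 (669, 0), (668, 2), (901, 1), (196, 3), (1367, 0), (1367, 1), (1671, 0), (1367, 2), (1572, 0), (1572, 1)], [4, 2, 0, 5, 0, 1])] (by decide +kernel)
    (by simp only [List.forall_mem_cons]; exact ⟨claim3, by simp⟩)

theorem claim1 : Claim nd Y d ps [(10, []), (0, []), (2, [])] :=
  P.claim_branch [[4], [8], [10], [14], [16], [12], [7, 15, 9, 7, 4, 6, 8, 14, 6], [3, 5, 7, 15, 9, 7, 5, 3, 0, 2, 4, 6, 8, 14, 6, 4, 2]] [((3, []), [(1822, 0), (1822, 1), (1526, 0), (1526, 2), (1250, 0), (1822, 3), (1525, 0), (1525, 1), (1249, 0), (1249, 2), (990, 0), (1525, 4), (1260, 0), (1260, 1), (1020, 0), (1020, 2), (802, 0), (1250, 5), (1002, 0), (1002, 3), (762, 0), (762, 4), (598, 0), (802, 6), (121, 0), (121, 5), (72, 0), (72, 2), (41, 0), (41, 1), (23, 0), (1250, 7), (206, 0), (206, 3), (129, 0), (206, 4), (311, 0), (311, 3), (450, 0), (129, 4), (207, 0), (207, 3), (312, 0), (206, 5),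 (130, 0), (130, 2), (78, 0), (78, 1), (45, 0), (130, 3), (77, 0), (77, 2), (44, 0), (44, 1), (25, 0), (130, 4), (209, 0), (209, 2), (133, 0), (133, 1), (80, 0), (209, 3), (315, 0)], [4, 3, 6, 2, 1, 5, 4, 2, 6, 2, 4])] (by decide +kernel)
    (by simp only [List.forall_mem_cons]; exact ⟨claim2, by simp⟩)

theorem claim0 : Claim nd Y d ps [(10, []), (0, [])] :=
  P.claim_branch [[4], [6], [8], [10], [14], [16], [12], [11, 9, 7, 15, 5, 7, 9, 3, 5, 7, 15, 11, 9, 7, 5, 3, 0, 2, 4, 6, 8, 10, 14, 6, 4, 2, 8, 6, 4, 14, 6, 8, 10]] [((2, []), [(1825, 1), (1528, 0), (1528, 2), (1252, 0), (1526, 1), (1252, 3), (992, 0), (1250, 1), (1527, 2), (1528, 4), (1251, 0), (1525, 1), (1251, 2), (991, 0), (991, 1), (991, 3), (747, 0), (747, 1), (536, 2), (1251, 5), (1021, 0), (1260, 1), (1021, 2), (801, 0), (801, 1), (801, 3), (597, 0), (597, 1), (428, 2), (1533, 4), (596, 4), (427, 3), (293, 2),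 (194, 1), (121, 0), (992, 6), (763, 0), (1002, 1), (1258, 2), (1532, 3), (763, 4), (548, 0), (548, 1), (382, 2), (254, 3), (548, 5), (429, 0), (429, 1), (294, 2), (195, 3), (294, 4), (193, 2), (119, 1), (72, 0), (119, 3), (71, 1), (41, 0), (41, 2), (23, 0), (13, 1), (7, 4), (3, 5), (992, 7)], [7, 3, 5, 2, 6, 1, 4, 3, 0, 1, 0])] (by decide +kernel)
    (by simp only [List.forall_mem_cons]; exact ⟨claim1, by simp⟩)

theorem rigid : Rigid d (el nd Y ta) :=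
  P.rigid el_d (us := ps.drop 2) (by decide +kernel) memX claim0

end Cfsg.Agent.Lib.Fis23
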