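import Mathlib
import Cfsg.Agent.Lib.ZStar2

/-! A group with a class of transpositions inside a larger group with the same centralisers:
the larger group is not larger. -/

set_option autoImplicit false

namespace Cfsg.Agent.Lib.FisCore

open Cfsg Subgroup

section defs
variable {M : Type*} [Group M]

/-- The conjugacy class of `d`. -/
def DD (d : M) : Set M := {x | IsConj d x}

def Adj (d x y : M) : Prop := x ∈ DD d ∧ y ∈ DD d ∧ x ≠ y ∧ Commute x y

def IsPair (d u : M) : Prop := ∃ x y, Adj d x y ∧ u = x * y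

def IsTrip (d u : M) : Prop := ∃ x y w, Adj d x y ∧ Adj d x w ∧ Adj d y w ∧ u = x * y * w

theorem self_mem (d : M) : d ∈ DD d := IsConj.refl d

theorem conj_mem {d x : M} (h : x ∈ DD d) (g : M) : g * x * g⁻¹ ∈ DD d :=
  IsConj.trans h (isConj_iff.2 ⟨g, rfl⟩)

theorem exists_conj {d x y : M} (hx : x ∈ DD d) (hy : y ∈ DD d) : ∃ g, g * x * g⁻¹ = y :=
  isConj_iff.1 (IsConj.trans (IsConj.symm hx) hy)

theorem mul_self {d x : M} (hd : d * d = 1) (hx : x ∈ DD d) : x * x = 1 := by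
  obtain ⟨g, rfl⟩ := isConj_iff.1 hx
  calc g * d * g⁻¹ * (g * d * g⁻¹) = g * (d * d) * g⁻¹ := by group
    _ = 1 := by rw [hd]; group

theorem inv_eq {d x : M} (hd : d * d = 1) (hx : x ∈ DD d) : x⁻¹ = x :=
  inv_eq_of_mul_eq_one_right (mul_self hd hx)

theorem Adj.symm {d x y : M} (h : Adj d x y) : Adj d y x := ⟨h.2.1, h.1, h.2.2.1.symm, h.2.2.2.symm⟩

theorem commute_conj {a b : M} (h : Commute a b) (g : M) :
    Commute (g * a * g⁻¹) (g * b * g⁻¹) := by
  have := h.map (MulAut.conj g)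
  simpa using this

theorem commute_conj_iff {a b : M} (g : M) :
    Commute (g * a * g⁻¹) (g * b * g⁻¹) ↔ Commute a b :=
  ⟨fun h => by simpa [mul_assoc] using commute_conj h g⁻¹, fun h => commute_conj h g⟩

theorem conj_eq_of_commute {g a : M} (h : Commute g a) : g * a * g⁻¹ = a := by
  rw [h.eq, mul_inv_cancel_right]

theorem commute_of_conj_eq {g a : M} (h : g * a * g⁻¹ = a) : Commute g a :=
  mul_inv_eq_iff_eq_mul.1 h

theorem Adj.conj {d x y : M} (h : Adj d x y) (g : M) : Adj d (g * x * g⁻¹) (g * y * g⁻¹) :=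
  ⟨conj_mem h.1 g, conj_mem h.2.1 g, fun e => h.2.2.1 (by simpa using e), commute_conj h.2.2.2 g⟩

theorem IsPair.conj {d u : M} (h : IsPair d u) (g : M) : IsPair d (g * u * g⁻¹) := by
  obtain ⟨x, y, h, rfl⟩ := h
  exact ⟨_, _, h.conj g, by group⟩

theorem IsTrip.conj {d u : M} (h : IsTrip d u) (g : M) : IsTrip d (g * u * g⁻¹) := by
  obtain ⟨x, y, w, h1, h2, h3, rfl⟩ := h
  exact ⟨_, _, _, h1.conj g, h2.conj g, h3.conj g, by group⟩

/-- The facts about the small group that are used to show that the large group is not larger. -/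
structure S4 (d : M) (m k : ℕ) : Prop where
  sq : d * d = 1
  nsq : ∀ g : M, g * g ≠ d
  q1 : ∀ u : M, u * u = 1 → ∃ x ∈ DD d, Commute u x
  pair_sq : ∀ x y, Adj d x y → ∃ g, g * g = x * y
  trip_nD : ∀ u, IsTrip d u → u ∉ DD d
  q2 : ∀ x y s, Adj d x y → s ∈ DD d → Commute s (x * y) → Commute s x
  q4 : ∀ x y, Adj d x y → ∀ Y : Subgroup M, Odd (Nat.card Y) → (∀ g ∈ Y, Commute g (x * y)) →
    (∀ s ∈ DD d, Commute s x → Commute s y → ∀ g ∈ Y, s * g * s⁻¹ ∈ Y) → Y = ⊥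
  q5 : ∀ x y, Adj d x y → ∃ l : List M, Odd l.length ∧ l.prod = 1 ∧
    ∀ s ∈ l, s ∈ DD d ∧ Commute s (x * y)
  q6 : ∀ u, IsTrip d u → {s | s ∈ DD d ∧ Commute s u ∧ IsPair d (u * s)}.ncard ≤ m
  q7 : ∀ x y, Adj d x y → {s | s ∈ DD d ∧ Commute s x ∧ Commute s y}.ncard ≤ k
  q8 : m * k < (DD d).ncard
  ex : ∃ x y, Adj d x y

end defs

section dihedral
variable {G : Type*} [Group G]

theorem swap_pow {r s : G} (h : s * r = r⁻¹ * s) (n : ℕ) : s * (r ^ n)⁻¹ = r ^ n * s := by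
  have h1 : s * r * s⁻¹ = r⁻¹ := by rw [h, mul_inv_cancel_right]
  have h2 : s * (r ^ n)⁻¹ * s⁻¹ = r ^ n := by
    rw [← inv_pow, ← conj_pow, ← conj_inv, h1, inv_inv]
  rw [← h2, inv_mul_cancel_right, h2]

theorem dihedral [Finite G] {z e : G} (hz : z * z = 1) (he : e * e = 1) (h : ¬ IsConj z e) :
    ∃ u : G, u ≠ 1 ∧ u * u = 1 ∧ Commute u z ∧ Commute u e ∧
      ((IsConj e (u * z) ∧ IsConj z (u * e)) ∨ IsConj e (u * e)) := by
  have hzi := inv_eq_of_mul_eq_one_right hz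
  have hei := inv_eq_of_mul_eq_one_right he
  have sz := swap_pow (r := z * e) (s := z) (by rw [mul_inv_rev, hzi, hei, ← mul_assoc, hz,
    mul_assoc, hz, one_mul, mul_one])
  have se := swap_pow (r := z * e) (s := e) (by rw [mul_inv_rev, hzi, hei, mul_assoc])
  have evz : ∀ n : ℕ, (z * e) ^ n * z * ((z * e) ^ n)⁻¹ = (z * e) ^ (2 * n) * z := fun n => by
    rw [mul_assoc, sz, two_mul, pow_add, mul_assoc]
  have eve : ∀ n : ℕ, (z * e) ^ n * e * ((z * e) ^ n)⁻¹ = (z * e) ^ (2 * n) * e := fun n => by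
    rw [mul_assoc, se, two_mul, pow_add, mul_assoc]
  have odd1 : ∀ n : ℕ, IsConj e ((z * e) ^ (2 * n + 1) * z) := fun n => by
    refine isConj_iff.2 ⟨(z * e) ^ (n + 1), ?_⟩
    rw [eve, show 2 * (n + 1) = 2 * n + 1 + 1 by ring, pow_succ _ (2 * n + 1), mul_assoc,
      mul_assoc z, he, mul_one]
  have odd2 : ∀ n : ℕ, IsConj z ((z * e) ^ (2 * n + 1) * e) := fun n => by
    refine isConj_iff.2 ⟨(z * e) ^ n, ?_⟩
    rw [evz, pow_succ, mul_assoc, mul_assoc, he, mul_one]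
  have ev : ∀ n : ℕ, IsConj e ((z * e) ^ (2 * n) * e) := fun n => isConj_iff.2 ⟨_, eve n⟩
  have hpos := (isOfFinOrder_of_finite (z * e)).orderOf_pos
  rcases Nat.even_or_odd' (orderOf (z * e)) with ⟨n, hn | hn⟩
  · have hu : (z * e) ^ n * (z * e) ^ n = 1 := by
      rw [← pow_add, ← two_mul, ← hn, pow_orderOf_eq_one]
    have hui := inv_eq_of_mul_eq_one_right hu
    refine ⟨(z * e) ^ n, pow_ne_one_of_lt_orderOf (by omega) (by omega), hu, ?_, ?_, ?_⟩
    · have := sz n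
      rw [hui] at this
      exact this.symm
    · have := se n
      rw [hui] at this
      exact this.symm
    · rcases Nat.even_or_odd' n with ⟨j, rfl | rfl⟩
      · exact Or.inr (ev j)
      · exact Or.inl ⟨odd1 j, odd2 j⟩
  · exfalso
    apply h
    have := odd1 n
    rw [← hn, pow_orderOf_eq_one, one_mul] at this
    exact this.symm

end dihedral

section good
universe u
variable {M : Type*} [Group M] {G : Type u} [Group G]

/-- An embedding that contains the centraliser of `ι d0` and respects the classes locally. -/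
structure Good (d0 : M) (d : G) (ι : M →* G) : Prop where
  inj : Function.Injective ι
  conj : IsConj d (ι d0)
  cent : ∀ g, Commute g (ι d0) → g ∈ ι.range
  loc : ∀ e, IsConj d e → Commute e (ι d0) → ∃ x ∈ DD d0, ι x = e

variable {d0 : M} {d : G} {ι ι' : M →* G} {m k : ℕ}

theorem Good.conjugate (h : Good d0 d ι) (g : G) :
    Good d0 d ((MulAut.conj g).toMonoidHom.comp ι) := by
  refine ⟨(MulAut.conj g).injective.comp h.inj, h.conj.trans (isConj_iff.2 ⟨g, rfl⟩),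
    fun x hx => ?_, fun e he hx => ?_⟩
  · obtain ⟨y, hy⟩ := h.cent (g⁻¹ * x * g⁻¹⁻¹) (by simpa [mul_assoc] using commute_conj hx g⁻¹)
    exact ⟨y, by simp [hy, mul_assoc]⟩
  · obtain ⟨y, hy, e'⟩ := h.loc (g⁻¹ * e * g⁻¹⁻¹) (he.trans (isConj_iff.2 ⟨_, rfl⟩))
      (by simpa [mul_assoc] using commute_conj hx g⁻¹)
    exact ⟨y, hy, by simp [e', mul_assoc]⟩

theorem Good.isConj (h : Good d0 d ι) {x : M} (hx : x ∈ DD d0) : IsConj d (ι x) :=
  h.conj.trans (ι.map_isConj hx)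

theorem Good.cent' (h : Good d0 d ι) {x : M} (hx : x ∈ DD d0) {g : G} (hg : Commute g (ι x)) :
    g ∈ ι.range := by
  obtain ⟨c, rfl⟩ := isConj_iff.1 hx
  obtain ⟨y, hy⟩ := h.cent ((ι c)⁻¹ * g * (ι c)⁻¹⁻¹) (by
    simpa [mul_assoc] using commute_conj hg (ι c)⁻¹)
  exact ⟨c * y * c⁻¹, by simp [hy, mul_assoc]⟩

theorem Good.mem_of_conj (h : Good d0 d ι) {x y : M} (hx : x ∈ DD d0) (hy : y ∈ DD d0) {g : G}
    (hg : g * ι x * g⁻¹ = ι y) : g ∈ ι.range := by
  obtain ⟨c, rfl⟩ := exists_conj hx hy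
  have := h.cent' hx (g := (ι c)⁻¹ * g) (commute_of_conj_eq (by
    rw [mul_inv_rev, mul_assoc, mul_assoc, ← mul_assoc (ι x), ← mul_assoc g, ← mul_assoc g, hg]
    simp [mul_assoc]))
  simpa using ι.range.mul_mem ⟨c, rfl⟩ this

theorem Good.memD (h : Good d0 d ι) (hS : S4 d0 m k) {e : G} (he : IsConj d e)
    (hr : e ∈ ι.range) : ∃ x ∈ DD d0, ι x = e := by
  obtain ⟨u, rfl⟩ := hr
  have h1 : u * u = 1 := h.inj (by
    rw [map_mul, map_one]
    exact mul_self (d := ι d0) (by rw [← map_mul, hS.sq, map_one]) (h.conj.symm.trans he))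
  obtain ⟨x, hx, hc⟩ := hS.q1 u h1
  obtain ⟨c, rfl⟩ := isConj_iff.1 hx
  obtain ⟨y, hy, e⟩ := h.loc ((ι c)⁻¹ * ι u * (ι c)⁻¹⁻¹) (he.trans (isConj_iff.2 ⟨_, rfl⟩)) (by
    simpa [mul_assoc] using commute_conj (hc.map ι) (ι c)⁻¹)
  exact ⟨c * y * c⁻¹, conj_mem hy c, by simp [e, mul_assoc]⟩

theorem Good.nsq (h : Good d0 d ι) (hS : S4 d0 m k) {e : G} (he : IsConj d e) (g : G) :
    g * g ≠ e := by
  intro hg
  obtain ⟨c, hc⟩ := isConj_iff.1 (he.symm.trans h.conj)
  have h1 : (c * g * c⁻¹) * (c * g * c⁻¹) = ι d0 := by rw [← hc, ← hg]; group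
  obtain ⟨y, hy⟩ := h.cent (c * g * c⁻¹) (h1 ▸ (Commute.refl _).mul_right (Commute.refl _))
  exact hS.nsq y (h.inj (by rw [map_mul, hy, h1]))

theorem S4.eq_of_pair (hS : S4 d0 m k) {x y s : M} (hxy : Adj d0 x y) (hs : s ∈ DD d0)
    (hc : Commute s (x * y)) (hD : s * (x * y) ∈ DD d0) : s = x ∨ s = y := by
  by_contra hne
  push Not at hne
  have c1 := hS.q2 x y s hxy hs hc
  have c2 := hS.q2 y x s hxy.symm hs (hxy.2.2.2.eq ▸ hc)
  exact hS.trip_nD _ ⟨s, x, y, ⟨hs, hxy.1, hne.1, c1⟩, ⟨hs, hxy.2.1, hne.2, c2⟩, hxy,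
    (mul_assoc _ _ _).symm⟩ hD

theorem inv_of_fpf {Y : Subgroup G} [Finite Y] {s : G} (hs : s * s = 1)
    (hn : ∀ y ∈ Y, s * y * s⁻¹ ∈ Y) (hf : ∀ y ∈ Y, Commute s y → y = 1) :
    ∀ y ∈ Y, s * y * s⁻¹ = y⁻¹ := by
  let f : Y → Y := fun y => ⟨y⁻¹ * (s * y * s⁻¹), Y.mul_mem (Y.inv_mem y.2) (hn _ y.2)⟩
  have hi : Function.Injective f := fun a b e => by
    have e' : (a : G)⁻¹ * (s * a * s⁻¹) = (b : G)⁻¹ * (s * b * s⁻¹) := congrArg Subtype.val e
    have : (b : G) * (a : G)⁻¹ = 1 := hf _ (Y.mul_mem b.2 (Y.inv_mem a.2)) (commute_of_conj_eq (by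
      calc s * ((b : G) * (a : G)⁻¹) * s⁻¹
          = b * ((b : G)⁻¹ * (s * b * s⁻¹)) * (s * a * s⁻¹)⁻¹ := by group
        _ = _ := by rw [← e']; group))
    exact Subtype.ext (mul_inv_eq_one.1 this).symm
  intro y hy
  obtain ⟨a, ha⟩ := Finite.injective_iff_surjective.1 hi ⟨y, hy⟩
  have ha : (a : G)⁻¹ * (s * a * s⁻¹) = y := congrArg Subtype.val ha
  rw [← ha]
  calc s * ((a : G)⁻¹ * (s * a * s⁻¹)) * s⁻¹
      = s * (a : G)⁻¹ * s⁻¹ * (s * s) * a * (s * s)⁻¹ := by group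
    _ = _ := by rw [hs]; group

theorem Good.core_eq_bot [Finite G] (h : Good d0 d ι) (hS : S4 d0 m k) {x y : M}
    (hxy : Adj d0 x y) : pPrimeCore 2 (centralizer ({ι (x * y)} : Set G)) = ⊥ := by
  set C := centralizer ({ι (x * y)} : Set G) with hC
  let Y : Subgroup G := (pPrimeCore 2 C).map C.subtype
  have hodd : Odd (Nat.card Y) := by
    rw [card_map_of_injective C.subtype_injective]
    exact Nat.coprime_two_right.1 (PCoreResidual.coprime_card_pPrimeCore 2 C)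
  have hYC : ∀ g ∈ Y, Commute g (ι (x * y)) := by
    rintro _ ⟨g, -, rfl⟩
    exact mem_centralizer_singleton_iff.1 g.2
  have hn : ∀ s : G, Commute s (ι (x * y)) → ∀ g ∈ Y, s * g * s⁻¹ ∈ Y := by
    rintro s hs _ ⟨g, hg, rfl⟩
    exact ⟨_, (inferInstance : (pPrimeCore 2 C).Normal).conj_mem g hg
      ⟨s, mem_centralizer_singleton_iff.2 hs⟩, rfl⟩
  have h0 : Y.comap ι = ⊥ := by
    refine hS.q4 x y hxy _ ?_ (fun g hg => ?_) (fun s _ h1 h2 g hg => ?_)
    · have : Nat.card (Y.comap ι) ∣ Nat.card Y := by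
        rw [← card_map_of_injective h.inj]
        exact card_dvd_of_le (map_comap_le _ _)
      exact Odd.of_dvd_nat hodd this
    · exact h.inj (by simpa using (hYC _ hg).eq)
    · rw [mem_comap, map_mul, map_mul, map_inv]
      exact hn _ ((h1.mul_right h2).map ι) _ hg
  obtain ⟨l, hl1, hl2, hl3⟩ := hS.q5 x y hxy
  have hinv : ∀ s ∈ l, ∀ g ∈ Y, ι s * g * (ι s)⁻¹ = g⁻¹ := fun s hs =>
    inv_of_fpf (by rw [← map_mul, mul_self hS.sq (hl3 s hs).1, map_one])
      (hn _ ((hl3 s hs).2.map ι)) fun g hg hc => by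
        obtain ⟨g0, rfl⟩ := h.cent' (hl3 s hs).1 hc.symm
        have : g0 ∈ Y.comap ι := hg
        rw [h0, mem_bot] at this
        rw [this, map_one]
  have key : ∀ l' : List M, (∀ s ∈ l', s ∈ l) → ∀ g ∈ Y,
      ι l'.prod * g * (ι l'.prod)⁻¹ = g ^ ((-1 : ℤ) ^ l'.length) := by
    intro l'
    induction l' with
    | nil => simp
    | cons s l' ih =>
      intro hl g hg
      rw [List.prod_cons, map_mul, List.length_cons, pow_succ, mul_neg_one, zpow_neg,
        ← hinv s (hl s List.mem_cons_self) _ (Y.zpow_mem hg _),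
        ← ih (fun t ht => hl t (List.mem_cons_of_mem _ ht)) g hg]
      group
  refine eq_bot_iff.2 fun g hg => ?_
  have hg' : (g : G) ∈ Y := ⟨g, hg, rfl⟩
  have := key l (fun _ h => h) g hg'
  rw [hl2, hl1.neg_one_pow] at this
  have h2 : (g : G) ^ 2 = 1 := by
    rw [sq]; nth_rewrite 1 [show (g : G) = (g : G)⁻¹ by simpa using this]; simp
  have h3 : (g : G) ^ Nat.card Y = 1 := congrArg Subtype.val (pow_card_eq_one' (x := (⟨g, hg'⟩ : Y)))
  have := pow_gcd_eq_one.2 ⟨h2, h3⟩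
  rw [Nat.coprime_two_left.2 hodd, pow_one] at this
  exact Subtype.ext this

theorem Good.cent2 [Finite G] (h : Good d0 d ι) (hS : S4 d0 m k) {x y : M} (hxy : Adj d0 x y)
    {g : G} (hg : Commute g (ι (x * y))) : g ∈ ι.range := by
  have hO := h.core_eq_bot hS hxy
  set C := centralizer ({ι (x * y)} : Set G) with hC
  have hx2 := mul_self hS.sq hxy.1
  have hy2 := mul_self hS.sq hxy.2.1
  have hyx : x * y * x = y := by rw [hxy.2.2.2.eq, mul_assoc, hx2, mul_one]
  have hz2 : x * y * (x * y) = 1 := by rw [← mul_assoc, hyx, hy2]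
  let z : C := ⟨ι (x * y), mem_centralizer_singleton_iff.2 rfl⟩
  let t : C := ⟨ι x, mem_centralizer_singleton_iff.2
    (((Commute.refl x).mul_right hxy.2.2.2).map ι)⟩
  have hZ : zpowers z ≤ center C := zpowers_le.2 (mem_center_iff.2 fun c =>
    Subtype.ext (mem_centralizer_singleton_iff.1 c.2))
  have := ZStar2.normal_of_le_center hZ
  have hzz : z * z = 1 := Subtype.ext (by
    change ι (x * y) * ι (x * y) = 1
    rw [← map_mul, hz2, map_one])
  have hmem : ∀ c : C, c ∈ zpowers z → c = 1 ∨ c = z := by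
    rintro _ ⟨n, rfl⟩
    have h2 : z ^ (2 : ℤ) = 1 := by rw [zpow_two, hzz]
    rcases Int.even_or_odd' n with ⟨j, rfl | rfl⟩
    · left; simp only [zpow_mul, h2, one_zpow]
    · right; simp only [zpow_add, zpow_mul, h2, one_zpow, one_mul, zpow_one]
  have hconj : ∀ c : C, c * t * c⁻¹ * t⁻¹ ∈ zpowers z → (c : G) ∈ ι.range := by
    intro c hc
    rcases hmem _ hc with e | e
    · exact h.mem_of_conj hxy.1 hxy.1 (congrArg Subtype.val (mul_inv_eq_one.1 e))
    · refine h.mem_of_conj hxy.1 hxy.2.1 ?_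
      have := congrArg Subtype.val (mul_inv_eq_iff_eq_mul.1 e)
      change (c : G) * ι x * (c : G)⁻¹ = ι (x * y) * ι x at this
      rw [this, ← map_mul, hyx]
  have hiso : IsIsolated (QuotientGroup.mk' (zpowers z) t) := by
    intro c hc
    obtain ⟨c, rfl⟩ := QuotientGroup.mk'_surjective (zpowers z) c
    have h1 : (c * t * c⁻¹ : C) * t * (c * t * c⁻¹)⁻¹ * t⁻¹ ∈ zpowers z := by
      rw [← QuotientGroup.eq_one_iff]
      change QuotientGroup.mk' (zpowers z) _ = 1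
      simp only [map_mul, map_inv]
      rw [← hc.eq]; group
    have h2 := hconj _ h1
    obtain ⟨x1, hx1, e1⟩ := h.memD hS ((h.isConj hxy.1).trans (isConj_iff.2 ⟨(c : G), rfl⟩)) h2
    have hcz : (c : G) * ι (x * y) * (c : G)⁻¹ = ι (x * y) :=
      conj_eq_of_commute (mem_centralizer_singleton_iff.1 c.2)
    have e2 : ι (x1 * (x * y)) = (c : G) * ι y * (c : G)⁻¹ := by
      rw [map_mul, e1, ← hcz]
      calc (c : G) * ι x * (c : G)⁻¹ * (c * ι (x * y) * (c : G)⁻¹)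
          = c * ι (x * (x * y)) * (c : G)⁻¹ := by simp only [map_mul]; group
        _ = _ := by rw [← mul_assoc x, hx2, one_mul]
    obtain ⟨y1, hy1, e3⟩ := h.memD hS ((h.isConj hxy.2.1).trans (isConj_iff.2 ⟨(c : G), rfl⟩))
      ⟨_, e2⟩
    have hc1 : Commute x1 (x * y) := h.inj (by
      rw [map_mul ι x1, map_mul ι _ x1, e1]
      exact mem_centralizer_singleton_iff.1 (c * t * c⁻¹).2)
    rw [← map_inv, ← map_mul, ← map_mul]
    rcases hS.eq_of_pair hxy hx1 hc1 (by rw [← h.inj (e3.trans e2.symm)]; exact hy1) with e | e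
    · congr 1
      exact Subtype.ext (by rw [e] at e1; exact e1.symm)
    · have : c * t * c⁻¹ = t * z := Subtype.ext (by
        change (c : G) * ι x * (c : G)⁻¹ = ι x * ι (x * y)
        rw [← e1, e, ← map_mul, ← mul_assoc, hx2, one_mul])
      rw [this, map_mul, show QuotientGroup.mk' (zpowers z) z = 1 from
        (QuotientGroup.eq_one_iff _).2 (mem_zpowers _), mul_one]
  have hzs := ZStar.zstar _ _ (by
    rw [← map_pow, sq, show t * t = 1 from Subtype.ext (by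
      change ι x * ι x = 1
      rw [← map_mul, hx2, map_one]), map_one]) hiso
  refine hconj ⟨g, mem_centralizer_singleton_iff.2 hg⟩ (ZStar2.comap_le (p := 2) hO hZ ?_)
  rw [mem_comap]
  simpa only [map_mul, map_inv] using hzs (QuotientGroup.mk' _ ⟨g, _⟩)

/-- A pair product of one copy that lies in a second copy has its factors there. -/
theorem Good.pair_mem [Finite G] (h : Good d0 d ι) (h' : Good d0 d ι') (hS : S4 d0 m k) {x y : M}
    (hxy : Adj d0 x y) (hr : ι (x * y) ∈ ι'.range) :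
    ∃ p q, Adj d0 p q ∧ ι' p = ι x ∧ ι' q = ι y := by
  obtain ⟨v, hv⟩ := hr
  have hz2 : x * y * (x * y) = 1 := by
    rw [← mul_assoc, hxy.2.2.2.eq, mul_assoc y, mul_self hS.sq hxy.1, mul_one,
      mul_self hS.sq hxy.2.1]
  obtain ⟨s, hs, hc⟩ := hS.q1 v (h'.inj (by rw [map_mul, hv, ← map_mul, hz2, map_one, map_one]))
  have hc' : Commute (ι' s) (ι (x * y)) := hv ▸ (hc.map ι').symm
  obtain ⟨s', hs', e⟩ := h.memD hS (h'.isConj hs) (h.cent2 hS hxy hc')
  have hc2 : Commute s' (x * y) := h.inj (by rw [map_mul ι s', map_mul ι _ s', e]; exact hc')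
  have c1 := hS.q2 x y s' hxy hs' hc2
  have c2 := hS.q2 y x s' hxy.symm hs' (hxy.2.2.2.eq ▸ hc2)
  obtain ⟨p, hp, e1⟩ := h'.memD hS (h.isConj hxy.1) (h'.cent' hs (e ▸ (c1.map ι).symm))
  obtain ⟨q, hq, e2⟩ := h'.memD hS (h.isConj hxy.2.1) (h'.cent' hs (e ▸ (c2.map ι).symm))
  refine ⟨p, q, ⟨hp, hq, fun e' => hxy.2.2.1 (h.inj (by rw [← e1, ← e2, e'])), h'.inj ?_⟩, e1, e2⟩
  rw [map_mul, map_mul, e1, e2]
  exact (hxy.2.2.2.map ι).eq

theorem Good.not_disjoint [Finite G] (h : Good d0 d ι) (h' : Good d0 d ι') (hS : S4 d0 m k) :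
    ∃ x ∈ DD d0, ι x ∈ ι'.range := by
  classical
  by_contra hdis
  push Not at hdis
  have hdis' : ∀ x ∈ DD d0, ι' x ∉ ι.range := fun x hx hr => by
    obtain ⟨y, hy, e⟩ := h.memD hS (h'.isConj hx) hr
    exact hdis y hy ⟨x, e.symm⟩
  have : Finite M := Finite.of_injective ι h.inj
  obtain ⟨x, y, hxy⟩ := hS.ex
  have hx2 := mul_self hS.sq hxy.1
  have hy2 := mul_self hS.sq hxy.2.1
  have hz2 : x * y * (x * y) = 1 := by
    rw [← mul_assoc, hxy.2.2.2.eq, mul_assoc y, hx2, mul_one, hy2]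
  have key : ∀ e ∈ DD d0, ∃ s, (s ∈ DD d0 ∧ Commute s x ∧ Commute s y) ∧ ∃ u, IsTrip d0 u ∧
      ι' u = ι (s * (x * y)) ∧ Commute e u ∧ IsPair d0 (u * e) := by
    intro e he
    have he2 := mul_self hS.sq he
    obtain ⟨u, hu1, hu2, hu3, hu4, hu5⟩ := dihedral (z := ι (x * y)) (e := ι' e)
      (by rw [← map_mul, hz2, map_one]) (by rw [← map_mul, he2, map_one]) fun hc => by
        obtain ⟨g, hg⟩ := hS.pair_sq x y hxy
        exact h.nsq hS ((h'.isConj he).trans hc.symm) (ι g) (by rw [← map_mul, hg])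
    have r1 := h.cent2 hS hxy hu3
    have r2 := h'.cent' he hu4
    rcases hu5 with ⟨c1, c2⟩ | c1
    · obtain ⟨s, hs, es⟩ := h.memD hS ((h'.isConj he).trans c1) (ι.range.mul_mem r1 ⟨_, rfl⟩)
      have eu : u = ι (s * (x * y)) := by
        rw [map_mul, es, mul_assoc, ← map_mul, hz2, map_one, mul_one]
      have hc : Commute s (x * y) := h.inj (by
        rw [map_mul ι s, map_mul ι _ s, es]
        exact (hu3.mul_left (Commute.refl _)).eq)
      obtain ⟨g, hg⟩ := isConj_iff.1 c2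
      obtain ⟨p, q, hpq, e1, e2⟩ := (h.conjugate g).pair_mem h' hS hxy
        (by change g * ι (x * y) * g⁻¹ ∈ _; rw [hg]; exact ι'.range.mul_mem r2 ⟨_, rfl⟩)
      have e3 : ι' (p * q) = u * ι' e := by
        rw [map_mul, e1, e2, ← map_mul, ← hg]; rfl
      have e4 : ι' (p * q * e) = u := by rw [map_mul, e3, mul_assoc, ← map_mul, he2, map_one, mul_one]
      have hc' : Commute e (p * q) := h'.inj (by
        rw [map_mul ι' e, map_mul ι' _ e, e3]
        exact (hu4.symm.mul_right (Commute.refl _)).eq)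
      have d1 := hS.q2 p q e hpq he hc'
      have d2 := hS.q2 q p e hpq.symm he (hpq.2.2.2.eq ▸ hc')
      refine ⟨s, ⟨hs, hS.q2 x y s hxy hs hc, hS.q2 y x s hxy.symm hs (hxy.2.2.2.eq ▸ hc)⟩,
        p * q * e, ⟨p, q, e, hpq, ⟨hpq.1, he, fun e' => ?_, d1.symm⟩,
          ⟨hpq.2.1, he, fun e' => ?_, d2.symm⟩, rfl⟩, e4.trans eu,
        hc'.mul_right (Commute.refl _), p, q, hpq, by rw [mul_assoc, he2, mul_one]⟩
      · refine hdis' q hpq.2.1 ?_
        rw [← e4, ← e', hpq.2.2.2.eq, mul_assoc, mul_self hS.sq hpq.1, mul_one] at r1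
        exact r1
      · refine hdis' p hpq.1 ?_
        rw [← e4, ← e', mul_assoc, mul_self hS.sq hpq.2.1, mul_one] at r1
        exact r1
    · exfalso
      obtain ⟨f, hf, ef⟩ := h'.memD hS ((h'.isConj he).trans c1) (ι'.range.mul_mem r2 ⟨_, rfl⟩)
      have eu : ι' (f * e) = u := by rw [map_mul, ef, mul_assoc, ← map_mul, he2, map_one, mul_one]
      have hfe : Adj d0 f e := ⟨hf, he, fun e' => hu1 (by rw [← eu, e', he2, map_one]), h'.inj (by
        rw [map_mul, map_mul, ef]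
        exact (hu4.mul_left (Commute.refl _)).eq)⟩
      obtain ⟨p, q, hpq, e1, -⟩ := h'.pair_mem h hS hfe (eu ▸ r1)
      exact hdis p hpq.1 ⟨f, e1.symm⟩
  choose! σ hσ using key
  have hfin : ∀ S : Set M, S.Finite := fun S => Set.toFinite S
  have h1 := Finset.card_le_mul_card_image_of_maps_to (f := σ) (s := (hfin (DD d0)).toFinset)
    (t := (hfin {s | s ∈ DD d0 ∧ Commute s x ∧ Commute s y}).toFinset)
    (fun e he => (Set.Finite.mem_toFinset _).2 (hσ e (by simpa using he)).1) m (fun s _ => by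
      by_cases hne : ∃ e ∈ DD d0, σ e = s
      · obtain ⟨e0, he0, rfl⟩ := hne
        obtain ⟨u0, t0, eu0, -⟩ := (hσ e0 he0).2
        refine le_trans ?_ (hS.q6 u0 t0)
        rw [← Set.ncard_coe_finset]
        refine Set.ncard_le_ncard (fun e he => ?_) (hfin _)
        simp only [Finset.coe_filter, Set.Finite.mem_toFinset, Set.mem_ofPred_eq] at he
        obtain ⟨u, -, eu, h2, h3⟩ := (hσ e he.1).2
        rw [he.2, ← eu0] at eu
        rw [h'.inj eu] at h2 h3
        exact ⟨he.1, h2, h3⟩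
      · rw [Finset.filter_eq_empty_iff.2 fun e he e' => hne ⟨e, by simpa using he, e'⟩]
        simp)
  rw [← Set.ncard_eq_toFinset_card _ (hfin _), ← Set.ncard_eq_toFinset_card _ (hfin _)] at h1
  have := hS.q8
  have := Nat.mul_le_mul_left m (hS.q7 x y hxy)
  omega

theorem Good.surjective [Finite G] (h : Good d0 d ι) (hS : S4 d0 m k) : Function.Surjective ι := by
  intro g
  obtain ⟨x, hx, hr⟩ := (h.conjugate g).not_disjoint h hS
  obtain ⟨y, hy, e⟩ := h.memD hS ((h.conjugate g).isConj hx) hr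
  exact h.mem_of_conj hx hy e.symm

end good

end Cfsg.Agent.Lib.FisCore
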