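import Mathlib.Algebra.BigOperators.Fin
import Mathlib.Algebra.Group.Subgroup.Ker
import Cfsg.Agent.Lib.HJModel

/-!
Explicit models of `K = SL₂(3) ∘ SL₂(3)`, of `H = K : 2` and of `D = H / O₂(H)`.
The element of `Hm` with number `q + 32 d` is the product of `q ∈ O₂(H)` and of `a ^ i b ^ j s ^ e`, `d = i + 3 j + 9 e`.
-/

set_option autoImplicit false
set_option maxRecDepth 100000
set_option synthInstance.maxSize 100000
set_option synthInstance.maxHeartbeats 200000

namespace Cfsg.Agent.Lib.G3Model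

open Cfsg.Agent.Lib.HJModel (Num allN allN_iff force force_eq decEqNum decForallNum decExistsNum finiteNum card_Num
  cntN card_subtype)

def tQ : ℕ := 0x653216d7c654be75cf84443a54c74275b637df88072a90f64e36a6f3ee0c2622d2e6ca17aeb1fe14c1135c95d2f09f3f8d90e01b1e8556d1977d9d9ca30bdab45a9287b9ac18820398a4deb38ffbbca54c700653637dfc654b216d784443e75cf4275b2d2e688072eb1fe4e36aa90f60c2626f3eeca17ab1e8514c1177d9dd2f0935c9590e01f3f8d56d19398a49ca30ffbbc5a928bdab4188207b9acdeb384275be75cf00653a54c7c654b637df84443216d7ca17a6f3ee880722d2e64e36aeb1fe0c262a90f656d19f3f8d14c11b1e85d2f0977d9d90e0135c95deb387b9ac9ca30398a45a928ffbbc18820bdab4e75cfc654ba54c784443637df4275b216d7006536f3ee4e36a2d2e60c262eb1feca17aa90f688072f3f8dd2f09b1e8590e0177d9d56d1935c9514c117b9ac5a928398a418820ffbbcdeb38bdab49ca3084443a54c74275b637df00653216d7c654be75cf0c2622d2e6ca17aeb1fe88072a90f64e36a6f3ee90e01b1e8556d1977d9d14c1135c95d2f09f3f8d18820398a4deb38ffbbc9ca30bdab45a9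287b9ac216d784443e75cf4275ba54c700653637dfc654ba90f60c2626f3eeca17a2d2e688072eb1fe4e36a35c9590e01f3f8d56d19b1e8514c1177d9dd2f09bdab4188207b9acdeb38398a49ca30ffbbc5a928c654b637df84443216d74275be75cf00653a54c74e36aeb1fe0c262a90f6ca17a6f3ee880722d2e6d2f0977d9d90e0135c9556d19f3f8d14c11b1e855a928ffbbc18820bdab4deb387b9ac9ca30398a4637df4275b216d700653e75cfc654ba54c784443eb1feca17aa90f6880726f3ee4e36a2d2e60c26277d9d56d1935c9514c11f3f8dd2f09b1e8590e01ffbbcdeb38bdab49ca307b9ac5a928398a418820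

def tK : ℕ := 0x443214c74254b635cf8444009464418eb4a9cc6c5f00880428ce8329696b9908bcc740022190af8452a5b1ae418e2004a3245f05a54e634e830440214708bd4b4b5cc190a63a001131ae7c22952ca3220c71002e6362f82d2a2146741822035cc845ea5a5ac7292b83e241942011cc8639a95a9f180ca40082641dcd62d498c1e520c41020e6525707c5ac70402399041952b53e30639a0104c838ca45a93183dcd6082041cc520e0f8b58e5256732083284027c60c7352b5190719480106307b9ac5a928398a418820

def tA : ℕ := 0xa9af44e968ebbfc88a702d8e4cab786f9ec0c860394d4de7487b5dc18450bd6c45a558ff7cc9c640b5cb452f28f7dbc94c3031ea4d6d3873fac10e206f9ec2d8e44e96888a70ebbfca9af4cab780c860ff7ccbd6c4de748184507b5dc394d45a5589c64073fac31ea452f2894c30f7dbcb5cb4d6d3810e20cab78ebbfc2d8e488a704e9686f9eca9af40c8605a5587b5dcbd6c418450de748ff7cc394d49c640d6d38f7dbc31ea494c3052f2873facb5cb410e20d2768354f4f37ec1447056578b16e4775fc90660ced4829ed4efdcc08e504af58adcc46bfdc8cc405a928bdab47b9ac9ca30deb38398a4ffbbc18820b16e4f37ec5657814470354f4775fcd276890660adcc4efdcc4af5808e5029ed46bfdcced488cc40398a47b9acdeb389ca30bdab4ffbbc5a92818820775fc56578354f414470f37ecd2768b16e4906606bfdc4af5829ed408e50efdccced48adcc48cc40ffbbcdeb38bdab49ca307b9ac5a928398a418820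

def tJ : ℕ := 0x8d6268de248a63a8ae388f62e8fe2c8863288e308963689e348e62a8ee288b63e8be3c8c6228ce2081e0581a0486e1986a1883e0d83a0c84e1184a1085e1585a1482e0982a0887e1d87a1c80e0180a007d9f7795e47a9eb7e5f87f9ff7b5ec789e37c5f0799e77d5f47e9fb7a5e87b9ef7f5fc7c9f3785e0735de73ddc715d671dd4725da72dd8705d270dd0775ce77dcc755c675dc4765ca76dc8745c274dc06fdbd6f9bc6ddb56d9b46edb96e9b86cdb16c9b06bdad6b9ac69da5699a46ada96a9a868da1689a06398f6759c61987655946298b6659860983645906799f6358c65997615846699b6258864993605805e56a5ed685f56e5fd6c5957659d745857258d705a57a5ad785b57e5bd7c5d5665dd645c5625cd6052d495294853d4d5394c55d555595454d515495056d595695857d5d5795c51d455194450d41509404e93b4a5284f93f4b52c499274d534489234c5304a92b4e5384b92f4f53c4d937495244c9334852025497218942749f2389c2248b26888244932089021487258842348f2788c2649b2289820483248802d8a52dcb42f8ad2fcbc2a8b92aca82c8a12ccb0298b529ca42b8bd2bcac2e8a92ecb8288b128ca019c66194741bc6e1b47c1ec7a1e46818c62184701dc761d46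41fc7e1f46c1ac6a1a4781cc721c4603e4fb3a8f8394e73d8e43f4ff3b8fc3c4f3388f03a4eb3e8e83d4f7398f43b4ef3f8ec384e33c8e04690946d184191541d044790d47d1c4490144d104291942d084590545d144391d43d0c4091140d0032cca324d835cd6354c433cce334dc30cc2304d036cda364c831cc6314d437cde374cc34cd2344c00b42f0f82c0a42b0e828094270d8240c433088300f43f0b83c0e43b0a8380d43709834084230c8201385d13c4c1285912c481185511c441484114c501784d17c5c1684916c581584515c541085110c4007c1e0740c06c1a0640805c160540400c020041003c0e0341c02c0a0241801c060141404c1204400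

def tD : ℕ := 0x2307b9ac5a92428ce830440

def mq (a b : ℕ) : ℕ := Nat.land (Nat.shiftRight tQ (Nat.mul 5 (Nat.add (Nat.mul 32 a) b))) 31

def mk (a b : ℕ) : ℕ := Nat.land (Nat.shiftRight tK (Nat.mul 5 (Nat.add (Nat.mul 18 a) b))) 31

def act (k q : ℕ) : ℕ := Nat.land (Nat.shiftRight tA (Nat.mul 5 (Nat.add (Nat.mul 32 k) q))) 31

def mh (a b : ℕ) : ℕ :=
  Nat.add (mq (Nat.mod a 32) (act (Nat.div a 32) (Nat.mod b 32))) (Nat.mul 32 (mk (Nat.div a 32) (Nat.div b 32)))

def mhS (a b : ℕ) : ℕ := force a fun x => force b fun y => mh x y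

theorem mhS_eq (a b : ℕ) : mhS a b = mh a b := by rw [mhS, force_eq, force_eq]

theorem mq_lt (a b : ℕ) : mq a b < 32 := Nat.and_lt_two_pow _ (n := 5) (by decide)

theorem act_lt (a b : ℕ) : act a b < 32 := Nat.and_lt_two_pow _ (n := 5) (by decide)

theorem mk_lt {a b : ℕ} (ha : a < 18) (hb : b < 18) : mk a b < 18 := by
  have h : allN (fun a => allN (fun b => Nat.blt (mk a b) 18) 18) 18 = true := by decide +kernel
  exact Nat.blt_eq.mp (allN_iff.mp (allN_iff.mp h a ha) b hb)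

theorem mk_lt9 {a b : ℕ} (ha : a < 9) (hb : b < 9) : mk a b < 9 := by
  have h : allN (fun a => allN (fun b => Nat.blt (mk a b) 9) 9) 9 = true := by decide +kernel
  exact Nat.blt_eq.mp (allN_iff.mp (allN_iff.mp h a ha) b hb)

theorem mq_assoc {a b c : ℕ} (ha : a < 32) (hb : b < 32) (hc : c < 32) :
    mq (mq a b) c = mq a (mq b c) := by
  have h : allN (fun a => allN (fun b => allN (fun c =>
    Nat.beq (mq (mq a b) c) (mq a (mq b c))) 32) 32) 32 = true := by decide +kernel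
  exact Nat.eq_of_beq_eq_true (allN_iff.mp (allN_iff.mp (allN_iff.mp h a ha) b hb) c hc)

theorem mk_assoc {a b c : ℕ} (ha : a < 18) (hb : b < 18) (hc : c < 18) :
    mk (mk a b) c = mk a (mk b c) := by
  have h : allN (fun a => allN (fun b => allN (fun c =>
    Nat.beq (mk (mk a b) c) (mk a (mk b c))) 18) 18) 18 = true := by decide +kernel
  exact Nat.eq_of_beq_eq_true (allN_iff.mp (allN_iff.mp (allN_iff.mp h a ha) b hb) c hc)

theorem act_mq {a b c : ℕ} (ha : a < 18) (hb : b < 32) (hc : c < 32) :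
    act a (mq b c) = mq (act a b) (act a c) := by
  have h : allN (fun a => allN (fun b => allN (fun c =>
    Nat.beq (act a (mq b c)) (mq (act a b) (act a c))) 32) 32) 18 = true := by decide +kernel
  exact Nat.eq_of_beq_eq_true (allN_iff.mp (allN_iff.mp (allN_iff.mp h a ha) b hb) c hc)

theorem act_mk {a b c : ℕ} (ha : a < 18) (hb : b < 18) (hc : c < 32) :
    act (mk a b) c = act a (act b c) := by
  have h : allN (fun a => allN (fun b => allN (fun c =>
    Nat.beq (act (mk a b) c) (act a (act b c))) 32) 18) 18 = true := by decide +kernel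
  exact Nat.eq_of_beq_eq_true (allN_iff.mp (allN_iff.mp (allN_iff.mp h a ha) b hb) c hc)

theorem mh_mod (a b : ℕ) : Nat.mod (mh a b) 32 = mq (Nat.mod a 32) (act (Nat.div a 32) (Nat.mod b 32)) := by
  have := mq_lt (Nat.mod a 32) (act (Nat.div a 32) (Nat.mod b 32))
  change (_ + 32 * _) % 32 = _
  omega

theorem mh_div (a b : ℕ) : Nat.div (mh a b) 32 = mk (Nat.div a 32) (Nat.div b 32) := by
  have := mq_lt (Nat.mod a 32) (act (Nat.div a 32) (Nat.mod b 32))
  change (_ + 32 * _) / 32 = _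
  omega

theorem div_lt {a : ℕ} (ha : a < 575 + 1) : Nat.div a 32 < 17 + 1 := by
  change a / 32 < 18
  omega

theorem div_lt9 {a : ℕ} (ha : a < 287 + 1) : Nat.div a 32 < 9 := by
  change a / 32 < 9
  omega

theorem mh_lt {a b : ℕ} (ha : a < 575 + 1) (hb : b < 575 + 1) : mh a b < 575 + 1 := by
  have := mq_lt (Nat.mod a 32) (act (Nat.div a 32) (Nat.mod b 32))
  have := mk_lt (div_lt ha) (div_lt hb)
  change _ + 32 * _ < _
  omega

theorem mh_lt9 {a b : ℕ} (ha : a < 287 + 1) (hb : b < 287 + 1) : mh a b < 287 + 1 := by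
  have := mq_lt (Nat.mod a 32) (act (Nat.div a 32) (Nat.mod b 32))
  have := mk_lt9 (div_lt9 ha) (div_lt9 hb)
  change _ + 32 * _ < _
  omega

theorem mh_assoc {a b c : ℕ} (ha : a < 575 + 1) (hb : b < 575 + 1) (hc : c < 575 + 1) :
    mhS (mhS a b) c = mhS a (mhS b c) := by
  have hm : ∀ a, Nat.mod a 32 < 32 := fun a => Nat.mod_lt _ (by decide)
  have ha := div_lt ha
  have hb := div_lt hb
  have hc := div_lt hc
  have hd : ∀ a b, mh a b = Nat.add (mq (Nat.mod a 32) (act (Nat.div a 32) (Nat.mod b 32)))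
    (Nat.mul 32 (mk (Nat.div a 32) (Nat.div b 32))) := fun _ _ => rfl
  simp only [mhS_eq]
  rw [hd (mh a b), hd a (mh b c), mh_mod, mh_div, mh_mod, mh_div, mk_assoc ha hb hc,
    act_mq ha (hm _) (act_lt _ _), ← act_mk ha hb (hm _), mq_assoc (hm _) (act_lt _ _) (act_lt _ _)]

instance fintypeNum (n : ℕ) : Fintype (Num n) := Fintype.ofEquiv _ (Num.equiv n).symm

/-- A bounded sum. -/
def sumN (f : ℕ → ℕ) (n : ℕ) : ℕ := Nat.rec 0 (fun i ih => Nat.add (f i) ih) n

theorem sum_Num {n : ℕ} (f : Num n → ℕ) : ∑ x, f x = sumN (fun v => f (Num.of n v)) (n + 1) := by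
  have h : ∀ (g : ℕ → ℕ) (m : ℕ), sumN g m = ∑ i ∈ Finset.range m, g i := fun g m => by
    induction m with
    | zero => rfl
    | succ m ih => rw [Finset.sum_range_succ, ← ih, add_comm (sumN g m)]; rfl
  rw [h, Finset.sum_range, ← (Num.equiv n).sum_comp]
  exact Finset.sum_congr rfl fun x _ => congrArg f x.of_v.symm

/-- The model of `H`. -/
def Hm : Type := Num 575

instance decEqHm : DecidableEq Hm := decEqNum 575
instance decForallHm (P : Hm → Prop) [h : DecidablePred P] : Decidable (∀ q, P q) := @decForallNum 575 P h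
instance decExistsHm (P : Hm → Prop) [h : DecidablePred P] : Decidable (∃ q, P q) := @decExistsNum 575 P h
instance fintypeHm : Fintype Hm := fintypeNum 575
instance mulHm : Mul Hm := ⟨fun a b => ⟨mhS a.v b.v, mhS_eq _ _ ▸ mh_lt a.lt b.lt⟩⟩
instance oneHm : One Hm := ⟨⟨0, by decide⟩⟩
instance invHm : Inv Hm := ⟨fun a => Num.of 575 (Nat.land (Nat.shiftRight tJ (Nat.mul 10 a.v)) 1023)⟩

instance groupHm : Group Hm :=
  Group.ofLeftAxioms (fun a b c => Num.ext (mh_assoc a.lt b.lt c.lt)) (by decide +kernel) (by decide +kernel)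

theorem card_Hm : Nat.card Hm = 576 := card_Num 575

def Hm.of (v : ℕ) : Hm := Num.of 575 v

/-- The model of `K`. -/
def Km : Type := Num 287

instance decEqKm : DecidableEq Km := decEqNum 287
instance decForallKm (P : Km → Prop) [h : DecidablePred P] : Decidable (∀ q, P q) := @decForallNum 287 P h
instance decExistsKm (P : Km → Prop) [h : DecidablePred P] : Decidable (∃ q, P q) := @decExistsNum 287 P h
instance finiteKm : Finite Km := finiteNum 287
instance mulKm : Mul Km := ⟨fun a b => ⟨mhS a.v b.v, mhS_eq _ _ ▸ mh_lt9 a.lt b.lt⟩⟩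
instance oneKm : One Km := ⟨⟨0, by decide⟩⟩
instance invKm : Inv Km := ⟨fun a => Num.of 287 (Nat.land (Nat.shiftRight tJ (Nat.mul 10 a.v)) 1023)⟩

instance groupKm : Group Km :=
  Group.ofLeftAxioms (fun a b c => Num.ext (mh_assoc (a.lt.trans (by decide)) (b.lt.trans (by decide))
    (c.lt.trans (by decide)))) (by decide +kernel) (by decide +kernel)

theorem card_Km : Nat.card Km = 288 := card_Num 287

def Km.of (v : ℕ) : Km := Num.of 287 v

/-- The model of `H / O₂(H)`. -/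
def Dm : Type := Num 17

instance decEqDm : DecidableEq Dm := decEqNum 17
instance decForallDm (P : Dm → Prop) [h : DecidablePred P] : Decidable (∀ q, P q) := @decForallNum 17 P h
instance fintypeDm : Fintype Dm := fintypeNum 17
instance mulDm : Mul Dm := ⟨fun a b => ⟨mk a.v b.v, mk_lt a.lt b.lt⟩⟩
instance oneDm : One Dm := ⟨⟨0, by decide⟩⟩
instance invDm : Inv Dm := ⟨fun a => Num.of 17 (Nat.land (Nat.shiftRight tD (Nat.mul 5 a.v)) 31)⟩

instance groupDm : Group Dm :=
  Group.ofLeftAxioms (fun a b c => Num.ext (mk_assoc a.lt b.lt c.lt)) (by decide +kernel) (by decide +kernel)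

theorem card_Dm : Nat.card Dm = 18 := card_Num 17

/-- The projection. -/
def pr : Hm →* Dm := MonoidHom.mk' (fun a => ⟨Nat.div a.v 32, div_lt a.lt⟩) fun a b => Num.ext (by
  change Nat.div (mhS a.v b.v) 32 = _
  rw [mhS_eq, mh_div]; rfl)

def ea : Hm := Hm.of 32
def ek : Hm := Hm.of 1
def eb : Hm := Hm.of 96
def el : Hm := Hm.of 4
def es : Hm := Hm.of 288
def ez : Hm := Hm.of 16
def ep : Hm := Hm.of 51
def eq : Hm := Hm.of 124
def eu : Hm := Hm.of 5
def et : Hm := Hm.of 304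

def ka : Km := Km.of 32
def kk : Km := Km.of 1
def kb : Km := Km.of 96
def kl : Km := Km.of 4
def kz : Km := Km.of 16

/-! ### Faithfulness -/

theorem inj_aux {X G : Type*} [Group X] [Group G] {z : X} {Q : X → Prop}
    (h1 : ∀ x, Q x → x = 1 ∨ x = z ∨ ∃ g, g * x * g⁻¹ * x⁻¹ = z)
    (h2 : ∀ x, Q x ∨ ∃ g, Q (g * x * g⁻¹ * x⁻¹) ∧ g * x * g⁻¹ * x⁻¹ ≠ 1) (f : X →* G) (h : f z ≠ 1) :
    Function.Injective f := by
  have k : ∀ x, Q x → f x = 1 → x = 1 := fun x hx e => by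
    rcases h1 x hx with e' | rfl | ⟨g, rfl⟩
    · exact e'
    · exact absurd e h
    · exact absurd (by simp [e]) h
  refine (injective_iff_map_eq_one f).2 fun x e => ?_
  rcases h2 x with hx | ⟨g, hg, h3⟩
  · exact k x hx e
  · exact absurd (k _ hg (by simp [e])) h3

theorem inj_H {G : Type*} [Group G] (f : Hm →* G) (h : f ez ≠ 1) : Function.Injective f :=
  inj_aux (Q := fun x => x.v < 32) (by decide +kernel) (by decide +kernel) f h

theorem inj_K {G : Type*} [Group G] (f : Km →* G) (h : f kz ≠ 1) : Function.Injective f :=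
  inj_aux (Q := fun x => x.v < 32) (by decide +kernel) (by decide +kernel) f h

/-! ### Facts on `K` -/

/-- The first factor. -/
def in1 (x : Km) : Prop := x.v &&& 12 = 0 ∧ x.v < 96
/-- The second factor. -/
def in2 (x : Km) : Prop := x.v &&& 3 = 0 ∧ x.v / 32 % 3 = 0

instance decIn1 : DecidablePred in1 := fun _ => instDecidableAnd
instance decIn2 : DecidablePred in2 := fun _ => instDecidableAnd

theorem card_in1 : Nat.card {x // in1 x} = 24 := (@card_subtype 287 in1 decIn1).trans (by decide +kernel)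
theorem card_in2 : Nat.card {x // in2 x} = 24 := (@card_subtype 287 in2 decIn2).trans (by decide +kernel)

theorem in1_form : ∀ x, in1 x → ∃ i < 4, ∃ j < 2, ∃ d < 3, x = kk ^ i * (ka * kk * ka⁻¹) ^ j * ka ^ d := by
  decide +kernel

theorem in2_form : ∀ x, in2 x → ∃ i < 4, ∃ j < 2, ∃ d < 3, x = kl ^ i * (kb * kl * kb⁻¹) ^ j * kb ^ d := by
  decide +kernel

theorem kz_eq : kz = kk * kk := by decide +kernel

theorem k_comm : ∀ x : Km, x * x = 1 → ∀ y : Km, y * y = 1 → x * y * x * y = 1 ∨ x * y * x * y = kz := by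
  decide +kernel

theorem k_three : ∀ x : Km, x * x = 1 → ∀ c : Km, c * c * c = 1 → c * x = x * c → c = 1 ∨ x = 1 ∨ x = kz := by
  decide +kernel

theorem k_move : ∀ v : Km, v * v = 1 → v ≠ 1 → v ≠ kz → ∀ e : Km, e * e = 1 → e * v = v * e → e ≠ 1 → e ≠ kz →
    e ≠ v → e ≠ v * kz → ∃ u : Km, u * u = 1 ∧ u * v = v * u ∧ u * e * u * e = kz ∧ ∃ c, c * v * c⁻¹ = u := by
  decide +kernel

theorem k_split : ∀ e : Km, e * e = 1 → e ≠ 1 → e ≠ kz →
    ∃ i, in1 i ∧ i * i = kz ∧ ∃ j, in2 j ∧ j * j = kz ∧ e = i * j := by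
  decide +kernel

theorem k_swap : ∀ i, in1 i → i * i = kz → ∀ i', in1 i' → i' * i' = kz → ∀ j, in2 j → j * j = kz →
    ∀ j', in2 j' → j' * j' = kz → i' * j' * (i * j) = i * j * (i' * j') → i' * j' * (i * j) ≠ 1 →
      i' * j' * (i * j) ≠ kz → (i' ≠ i ∧ i' * i ≠ 1) ∧ j' ≠ j ∧ j' * j ≠ 1 := by
  decide +kernel

theorem k_gen1 : ∀ i, in1 i → i * i = kz → ∀ j, in1 j → j * j = kz → j ≠ i → j * i ≠ 1 →
    i * j * (j * i) = 1 ∧ ∃ a, in1 a ∧ a * a * a = 1 ∧ a * i * a⁻¹ * j = 1 ∧ a * j * a⁻¹ = i * j ∧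
      (∀ c, in1 c → c * c * c = 1 → c * j * c⁻¹ * i = 1 → c * i * c⁻¹ = j * i → c * a = 1) ∧
      ∃ k, in1 k ∧ (k = i * j ∨ k = j * i) ∧ k * k = kz ∧ k * a * (k * a) * (k * a) = 1 := by
  decide +kernel

theorem k_gen2 : ∀ i, in2 i → i * i = kz → ∀ j, in2 j → j * j = kz → j ≠ i → j * i ≠ 1 →
    i * j * (j * i) = 1 ∧ ∃ a, in2 a ∧ a * a * a = 1 ∧ a * i * a⁻¹ * j = 1 ∧ a * j * a⁻¹ = i * j ∧
      (∀ c, in2 c → c * c * c = 1 → c * j * c⁻¹ * i = 1 → c * i * c⁻¹ = j * i → c * a = 1) ∧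
      ∃ k, in2 k ∧ (k = i * j ∨ k = j * i) ∧ k * k = kz ∧ k * a * (k * a) * (k * a) = 1 := by
  decide +kernel

theorem k_cent : ∀ x, in1 x → ∀ y, in2 y → x * y = y * x := by decide +kernel

theorem kz_cent : ∀ x, x * kz = kz * x := by decide +kernel

theorem kz_sq : kz * kz = 1 := by decide +kernel

/-! ### Facts on `H` -/

theorem ez_cent : ∀ x, x * ez = ez * x := by decide +kernel

theorem ez_ne : ez ≠ 1 := by decide +kernel

theorem invol : ∀ x : Hm, x * x = 1 → x = 1 ∨ x = ez ∨ (∃ c, c * eu * c⁻¹ = x) ∨ ∃ c, c * es * c⁻¹ = x := by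
  decide +kernel

theorem pow_24 : ∀ x : Hm, x ^ 24 = 1 := by decide +kernel

theorem cent_s : ∀ x : Hm, x * es = es * x → x ∈ [1, ez, es, et, eu, eu * ez, eu * es, eu * et] := by
  decide +kernel

theorem inv_t : ∀ x : Hm, x * x * x = 1 → x ≠ 1 → et * x * et * x = 1 →
    ∃ y ∈ [ea, eb, ep, eq, ea * eb, ea * eb⁻¹, ea * eq, ea * eq⁻¹, ep * eb, ep * eb⁻¹, ep * eq, ep * eq⁻¹],
      x = y ∨ x = y⁻¹ := by
  decide +kernel

theorem cent_three : ∀ c : Hm, c * c * c = 1 → c ≠ 1 → ∀ x : Hm, x * x = 1 → x * c = c * x → x = 1 ∨ x = ez := by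
  decide +kernel

theorem conj_three : ∀ c : Hm, c * c * c = 1 → ∃ g, ∃ i < 3, ∃ j < 3, g * c * g⁻¹ = ea ^ i * eb ^ j := by
  decide +kernel

theorem conj_us : ∃ c, c * es * c⁻¹ = eu * es := by decide +kernel

theorem conj_uz : ∃ c, c * eu * c⁻¹ = eu * ez := by decide +kernel

/-! ### The class function -/

/-- The values of a generalised character of `D`. -/
def ad (x : Dm) : ℕ := if x.v < 9 ∧ x.v % 3 ≠ 0 then 3 else 0

/-- Its inflation. -/
def al (x : Hm) : ℕ := ad (pr x)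

theorem ad_conj : ∀ x c : Dm, ad (c * x * c⁻¹) = ad x := by decide +kernel

theorem al_conj (x c : Hm) : al (c * x * c⁻¹) = al x := by
  rw [al, map_mul, map_mul, map_inv, ad_conj, al]

theorem al_ne : ∀ k, al k ≠ 0 → al k⁻¹ ≠ 0 ∧ k ^ 4 * k ^ 4 * k ^ 4 = 1 ∧ k ^ 4 ≠ 1 := by decide +kernel

theorem sum_al : ∑ k, al k = 576 := (sum_Num al).trans (by decide +kernel)

theorem sum_al_sq : ∑ k, al k * al k = 1728 := (sum_Num fun k => al k * al k).trans (by decide +kernel)

theorem sum_al_invol : ∑ x : Hm, (if x * x = 1 ∧ x ≠ 1 then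
    ∑ y : Hm, (if y * y = 1 ∧ y ≠ 1 then al (x * y) else 0) else 0) = 10368 := by
  have h : ∀ x : Hm, ∑ y : Hm, (if y * y = 1 ∧ y ≠ 1 then al (x * y) else 0) =
      sumN (fun v => if Hm.of v * Hm.of v = 1 ∧ Hm.of v ≠ 1 then al (x * Hm.of v) else 0) 576 := fun x =>
    sum_Num fun y : Hm => if y * y = 1 ∧ y ≠ 1 then al (x * y) else 0
  simp only [h]
  exact (sum_Num fun x : Hm => if x * x = 1 ∧ x ≠ 1 then sumN (fun v =>
    if Hm.of v * Hm.of v = 1 ∧ Hm.of v ≠ 1 then al (x * Hm.of v) else 0) 576 else 0).trans (by decide +kernel)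

end Cfsg.Agent.Lib.G3Model
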