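import Cfsg.Agent.Lib.TCGroup
import Cfsg.Agent.Lib.TCG3C0

set_option autoImplicit false
set_option maxRecDepth 100000

namespace Cfsg.Agent.Lib.TCG3
open Cfsg.Agent.Lib.TCCore

theorem rowsS : P.RowsS 0 P.N := s0

theorem rowsT : P.RowsT P.N P.M := t0

def base : List (List Nat) := [
  [0, 1],
  [2, 3],
  [4, 5],
  [6, 6],
  [7, 7],
  [8, 9],
  [10, 11],
  [12, 12],
  [13, 14],
  [15, 16],
  [17, 17],
  [18, 19],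
  [3, 3, 3],
  [5, 5, 5],
  [9, 9, 12],
  [9, 11, 7],
  [9, 7, 11],
  [11, 11, 12],
  [14, 14, 14],
  [16, 16, 16],
  [6, 17, 12],
  [3, 5, 2, 4],
  [3, 9, 13, 8],
  [3, 11, 2, 10],
  [3, 14, 3, 8],
  [3, 14, 8, 14],
  [3, 16, 2, 15],
  [3, 8, 13, 9],
  [3, 6, 3, 6],
  [3, 17, 3, 17],
  [3, 7, 13, 7],
  [3, 12, 2, 12],
  [5, 9, 4, 8],
  [5, 11, 15, 10],
  [5, 14, 4, 13],
  [5, 16, 5, 10],
  [5, 16, 10, 16],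
  [5, 10, 15, 11],
  [5, 6, 5, 6],
  [5, 17, 5, 17],
  [5, 7, 15, 7],
  [5, 12, 4, 12],
  [9, 9, 9, 9],
  [9, 9, 11, 11],
  [9, 9, 10, 10],
  [9, 9, 6, 17],
  [9, 9, 17, 6],
  [9, 11, 9, 11],
  [9, 11, 8, 10],
  [9, 16, 8, 15],
  [9, 10, 9, 10],
  [9, 10, 7, 12],
  [9, 10, 12, 7],
  [9, 6, 9, 6],
  [9, 6, 8, 17],
  [9, 17, 9, 17],
  [9, 17, 8, 6],
  [9, 7, 8, 7],
  [9, 7, 10, 12],
  [9, 7, 12, 10],
  [9, 12, 8, 12],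
  [9, 12, 10, 7],
  [9, 12, 7, 10],
  [11, 11, 11, 11],
  [11, 11, 6, 17],
  [11, 11, 17, 6],
  [11, 14, 10, 13],
  [11, 6, 11, 6],
  [11, 6, 10, 17],
  [11, 17, 11, 17],
  [11, 17, 10, 6],
  [11, 7, 10, 7],
  [11, 12, 10, 12],
  [14, 16, 13, 15],
  [14, 6, 14, 6],
  [14, 17, 14, 17],
  [14, 12, 13, 12],
  [16, 6, 16, 6],
  [16, 17, 16, 17],
  [16, 12, 15, 12],
  [6, 17, 6, 17],
  [6, 7, 6, 7],
  [6, 12, 6, 12],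
  [17, 7, 17, 7],
  [17, 12, 17, 12],
  [7, 12, 7, 12],
  [0, 0, 0],
  [0, 12, 1, 6],
  [0, 6, 1, 17],
  [0, 17, 1, 12],
  [0, 7, 1, 7],
  [8, 0, 8, 0],
  [0, 13, 1, 19],
  [2, 18, 3, 19],
  [4, 18, 5, 19],
  [18, 18, 18],
  [6, 18, 6, 19],
  [12, 18, 12, 18]]

theorem static_ok : TCGroup.static P base [1, 0, 3, 2, 5, 4, 6, 7, 9, 8, 11, 10, 12, 14, 13, 16, 15, 17, 19, 18] 20 8 [2, 3, 4, 5, 6, 7, 8, 9, 10, 11, 12, 13, 14, 15, 16, 17] = true := by decide +kernel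

theorem bound {G : Type*} [Group G] (y : Nat → G) (H : Subgroup G)
    (hrel : ∀ r ∈ base, (r.map y).prod = 1) (hinv : ∀ i < 20, y (List.getD [1, 0, 3, 2, 5, 4, 6, 7, 9, 8, 11, 10, 12, 14, 13, 16, 15, 17, 19, 18] i i) = (y i)⁻¹)
    (hsub : ∀ i ∈ ([2, 3, 4, 5, 6, 7, 8, 9, 10, 11, 12, 13, 14, 15, 16, 17] : List Nat), y i ∈ H) :
    H.relIndex (Subgroup.closure (y '' {i | i < 8})) ≠ 0 ∧
      H.relIndex (Subgroup.closure (y '' {i | i < 8})) ≤ 7371 :=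
  TCGroup.relIndex_le y 20 8 base [1, 0, 3, 2, 5, 4, 6, 7, 9, 8, 11, 10, 12, 14, 13, 16, 15, 17, 19, 18] [2, 3, 4, 5, 6, 7, 8, 9, 10, 11, 12, 13, 14, 15, 16, 17] P H hrel hinv hsub static_ok rowsS rowsT

end Cfsg.Agent.Lib.TCG3
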