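import Mathlib.Tactic.Group
import Cfsg.Agent.Lib.TCList
import Cfsg.Agent.Lib.G3Model
import Cfsg.Agent.Lib.TCG3

/-! Presentations of `SL₂(3) ∘ SL₂(3)`, of its extension `H`, and of `G₂(3)` over `H`. -/

set_option autoImplicit false
set_option maxRecDepth 100000

namespace Cfsg.Agent.Lib.G3Pres

open Subgroup Cfsg.Agent.Lib.SmallTC Cfsg.Agent.Lib.TCList Cfsg.Agent.Lib.G3Model

/-- Inverse letters for `a A k K b B l L s`. -/
def tH : List ℕ := [2,1,4,3,6,5,8,7,9]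

def rK : List (List ℕ) :=
    [[], [1,2], [2,1], [3,4], [4,3], [5,6], [6,5], [7,8], [8,7], [1,1,1], [3,3,3,3], [3,1,3,1,3,1],
    [3,3,1,4,4,2], [5,5,5], [7,7,4,4], [7,5,7,5,7,5], [7,7,5,8,8,6], [1,5,2,6], [1,7,2,8], [3,5,4,6],
    [3,7,4,8]]

def rS : List (List ℕ) :=
    [[9,9], [9,1,9,1], [9,3,9,3], [9,5,9,5], [9,7,9,7]]

def cAW : List (List ℕ) :=
    [[], [1,2], [2,1], [3,4], [4,3], [1,1,1], [3,3,3,3], [3,1,3,1,3,1], [3,3,1,4,4,2]]

def cAF : Tr :=
    (.node (.node (.node (.node (.node (.node .leaf 6 4 16 .leaf) 5 3 16 (.node .leaf 22 1 23 .leaf)) 2 4 8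
    (.node (.node .leaf 12 3 20 .leaf) 1 1 2 .leaf)) 0 4 4 (.node (.node (.node .leaf 19 3 18 .leaf) 7 2 20
    .leaf) 4 1 12 (.node (.node .leaf 15 4 22 .leaf) 14 3 13 .leaf))) 0 2 2 (.node (.node (.node (.node .leaf
    13 3 17 .leaf) 6 2 18 .leaf) 3 2 10 (.node (.node .leaf 16 1 21 .leaf) 11 3 4 .leaf)) 1 4 6 (.node (.node
    (.node .leaf 19 1 20 .leaf) 8 1 22 .leaf) 5 1 14 (.node (.node .leaf 9 3 23 .leaf) 14 1 15 .leaf)))) 0 1 1
    (.node (.node (.node (.node (.node .leaf 10 4 17 .leaf) 6 1 17 .leaf) 3 1 9 (.node (.node .leaf 21 1 11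
    .leaf) 9 1 10 .leaf)) 1 3 5 (.node (.node (.node .leaf 15 3 19 .leaf) 7 3 21 .leaf) 4 2 13 (.node (.node
    .leaf 18 3 22 .leaf) 10 3 14 .leaf))) 0 3 3 (.node (.node (.node (.node .leaf 17 1 18 .leaf) 7 1 19 .leaf)
    3 3 11 (.node (.node .leaf 8 4 21 .leaf) 12 1 13 .leaf)) 2 3 7 (.node (.node (.node .leaf 20 3 9 .leaf) 8
    2 23 .leaf) 5 2 15 (.node (.node .leaf 23 3 12 .leaf) 11 1 16 .leaf)))))

def cAS : List (ℕ × ℕ × List ℕ) :=
    [(0,0,[]), (0,0,[]), (0,0,[]), (0,0,[]), (0,0,[]), (0,0,[]), (0,0,[]), (0,0,[]), (0,0,[]), (0,0,[]),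
    (0,0,[]), (0,0,[]), (0,0,[]), (0,0,[]), (0,0,[]), (0,0,[]), (0,0,[]), (0,0,[]), (0,0,[]), (0,0,[]),
    (0,0,[]), (0,0,[]), (0,0,[]), (7,1,[3,0]), (7,1,[19,16]), (8,2,[7,4,20]), (7,1,[25,22]),
    (9,4,[25,7,0,8,26]), (10,0,[54,25,51,21,18]), (7,1,[29,26]), (10,2,[31,9,1,4,20]), (10,4,[61,50,7,0,10]),
    (10,4,[33,11,8,26,57]), (10,0,[65,19,5,6,24]), (7,1,[35,32]), (9,4,[35,11,46,12,36]),
    (10,0,[70,35,62,31,28]), (7,1,[39,36]), (9,0,[48,56,58,72,74]), (10,0,[76,48,64,67,53]),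
    (10,2,[21,5,2,12,40]), (10,2,[41,13,47,8,30]), (10,4,[83,63,11,46,14]), (10,4,[43,15,12,36,73]),
    (10,0,[87,29,9,10,34]), (9,2,[45,15,3,4,16]), (10,0,[78,39,13,14,44]), (7,1,[45,42])]

def cAR : List (ℕ × List ℕ) :=
    [(0,[0,2,4,6]), (1,[46,1,8,10]), (2,[3,47,12,14]), (3,[16,18,20,5]), (4,[22,24,7,51]), (5,[26,28,30,9]),
    (6,[32,34,11,62]), (7,[36,38,40,13]), (8,[42,44,15,84]), (9,[48,17,90,77]), (10,[19,49,56,64]),
    (11,[60,81,50,21]), (12,[52,23,78,93]), (13,[25,53,66,55]), (14,[58,27,54,57]), (15,[29,59,72,86]),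
    (16,[82,61,63,31]), (17,[68,33,65,67]), (18,[35,69,88,71]), (19,[74,37,70,73]), (20,[39,75,76,79]),
    (21,[80,83,85,41]), (22,[94,43,87,89]), (23,[45,95,92,91])]

theorem cAC : check (inv tH) cAW [] [1,2,3,4] cAF cAS cAR = true := by decide +kernel

def cBW : List (List ℕ) :=
    [[], [1,2], [2,1], [3,4], [4,3], [5,6], [6,5], [7,8], [8,7], [1,1,1], [3,3,3,3], [3,1,3,1,3,1],
    [3,3,1,4,4,2], [5,5,5], [7,7,4,4], [7,5,7,5,7,5], [7,7,5,8,8,6], [1,5,2,6], [1,7,2,8], [3,5,4,6],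
    [3,7,4,8]]

def cBF : Tr :=
    (.node (.node (.node (.node (.node (.node .leaf 7 3 7 .leaf) 1 5 2 (.node .leaf 11 3 11 .leaf)) 4 5 8
    (.node (.node .leaf 10 7 9 .leaf) 4 4 4 .leaf)) 1 7 4 (.node (.node (.node .leaf 8 4 8 .leaf) 3 2 3 .leaf)
    0 2 0 (.node (.node .leaf 6 7 11 .leaf) 6 2 6 .leaf))) 0 6 2 (.node (.node (.node (.node .leaf 7 7 8
    .leaf) 2 3 2 .leaf) 5 5 10 (.node (.node .leaf 10 2 10 .leaf) 5 2 5 .leaf)) 3 5 6 (.node (.node (.node
    .leaf 9 1 9 .leaf) 1 8 4 .leaf) 1 2 1 (.node (.node .leaf 10 5 11 .leaf) 6 5 7 .leaf)))) 0 5 1 (.node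
    (.node (.node (.node (.node .leaf 8 7 7 .leaf) 2 1 2 .leaf) 4 6 9 (.node (.node .leaf 9 7 10 .leaf) 5 7 2
    .leaf)) 2 7 5 (.node (.node (.node .leaf 8 5 9 .leaf) 3 4 3 .leaf) 0 4 0 (.node (.node .leaf 6 8 11 .leaf)
    6 4 6 .leaf))) 0 7 3 (.node (.node (.node (.node .leaf 8 2 8 .leaf) 3 7 0 .leaf) 5 6 11 (.node (.node
    .leaf 10 4 10 .leaf) 5 4 5 .leaf)) 3 6 7 (.node (.node (.node .leaf 9 3 9 .leaf) 4 2 4 .leaf) 1 4 1 (.node
    (.node .leaf 11 1 11 .leaf) 7 1 7 .leaf)))))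

def cBS : List (ℕ × ℕ × List ℕ) :=
    [(0,0,[]), (0,0,[]), (0,0,[]), (0,0,[]), (0,0,[]), (0,0,[]), (0,0,[]), (0,0,[]), (0,0,[]), (0,0,[]),
    (0,0,[]), (1,0,[]), (1,0,[]), (19,2,[1,23,0]), (21,2,[1,25,0]), (15,1,[3,0]), (19,0,[3,22,2]),
    (21,0,[3,24,2]), (16,1,[24,24,4]), (20,2,[5,23,4]), (22,2,[5,25,4]), (18,3,[7,1,4,36,0]), (20,2,[7,27,6]),
    (22,2,[7,29,6]), (18,1,[3,37,5,2,8]), (20,2,[9,32,8]), (22,2,[9,34,8]), (19,2,[11,39,10]),
    (21,2,[11,41,10]), (15,1,[13,10]), (19,0,[13,38,12]), (21,0,[13,40,12]), (17,4,[13,36,0,6,14]),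
    (18,0,[64,13,5,37,12]), (19,2,[15,45,14]), (21,2,[15,47,14]), (15,1,[17,14]), (19,0,[17,44,16]),
    (21,0,[17,46,16]), (17,4,[17,43,30,8,18]), (18,0,[78,17,7,42,16]), (19,2,[19,51,18]), (21,2,[19,53,18]),
    (17,2,[21,48,3,4,10]), (18,3,[87,11,36,4,10]), (15,1,[21,18]), (19,0,[21,50,20]), (21,0,[21,52,20])]

def cBR : List (ℕ × List ℕ) :=
    [(0,[23,22,25,24,0,2,4,37]), (1,[27,26,29,28,30,1,6,42]), (2,[32,33,34,35,3,31,8,49]),
    (3,[39,38,41,40,10,12,36,5]), (4,[45,44,47,46,14,16,43,7]), (5,[51,50,53,52,18,20,48,9]),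
    (6,[55,54,57,56,58,11,86,88]), (7,[60,61,62,63,13,59,66,65]), (8,[69,68,71,70,72,15,64,67]),
    (9,[74,75,76,77,17,73,80,79]), (10,[83,82,85,84,90,19,78,81]), (11,[92,93,94,95,21,91,89,87])]

theorem cBC : check (inv tH) cBW [1,2,3,4] [1,2,3,4,5,6,7,8] cBF cBS cBR = true := by decide +kernel

def cCW : List (List ℕ) :=
    [[], [1,2], [2,1], [3,4], [4,3], [5,6], [6,5], [7,8], [8,7], [9,9], [1,1,1], [3,3,3,3], [3,1,3,1,3,1],
    [3,3,1,4,4,2], [5,5,5], [7,7,4,4], [7,5,7,5,7,5], [7,7,5,8,8,6], [1,5,2,6], [1,7,2,8], [3,5,4,6],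
    [3,7,4,8], [9,1,9,1], [9,3,9,3], [9,5,9,5], [9,7,9,7]]

def cCF : Tr :=
    (.node (.node (.node (.node (.node (.node (.node .leaf 13 3 13 .leaf) 3 2 3 (.node .leaf 21 1 21 .leaf)) 7
    6 16 (.node (.node .leaf 17 1 17 .leaf) 8 3 8 .leaf)) 2 9 8 (.node (.node (.node .leaf 15 4 15 .leaf) 6 1
    6 (.node .leaf 23 7 18 .leaf)) 0 2 0 (.node (.node .leaf 19 3 19 .leaf) 11 1 11 .leaf))) 0 9 4 (.node
    (.node (.node (.node .leaf 14 3 14 .leaf) 1 8 5 (.node .leaf 22 7 21 .leaf)) 12 9 20 (.node (.node .leaf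
    18 3 18 .leaf) 10 1 10 .leaf)) 5 5 12 (.node (.node (.node .leaf 16 1 16 .leaf) 7 4 7 (.node .leaf 23 3 23
    .leaf)) 1 5 2 (.node (.node .leaf 20 1 20 .leaf) 12 2 12 .leaf)))) 0 6 2 (.node (.node (.node (.node
    (.node .leaf 14 7 6 .leaf) 4 1 4 (.node .leaf 22 5 17 .leaf)) 9 9 18 (.node (.node .leaf 18 5 11 .leaf) 9
    4 9 .leaf)) 3 6 10 (.node (.node (.node .leaf 9 8 16 .leaf) 7 7 2 (.node .leaf 23 5 22 .leaf)) 1 2 1
    (.node (.node .leaf 19 7 20 .leaf) 12 7 10 .leaf))) 1 9 6 (.node (.node (.node (.node .leaf 13 7 15 .leaf)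
    5 4 5 (.node .leaf 22 3 22 .leaf)) 15 9 22 (.node (.node .leaf 19 5 18 .leaf) 4 7 11 .leaf)) 5 9 14 (.node
    (.node (.node .leaf 8 7 17 .leaf) 8 5 6 .leaf) 2 3 2 (.node (.node .leaf 14 5 21 .leaf) 12 5 13 .leaf)))))
    0 5 1 (.node (.node (.node (.node (.node (.node .leaf 6 7 14 .leaf) 3 4 3 (.node .leaf 21 3 21 .leaf)) 7 9
    17 (.node (.node .leaf 17 3 17 .leaf) 9 2 9 .leaf)) 3 5 9 (.node (.node (.node .leaf 9 7 16 .leaf) 6 3 6
    (.node .leaf 23 8 18 .leaf)) 0 4 0 (.node (.node .leaf 20 5 14 .leaf) 11 3 11 .leaf))) 1 7 5 (.node (.node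
    (.node (.node .leaf 15 7 13 .leaf) 5 2 5 (.node .leaf 22 1 22 .leaf)) 13 9 21 (.node (.node .leaf 11 5 19
    .leaf) 10 3 10 .leaf)) 5 6 13 (.node (.node (.node .leaf 16 3 16 .leaf) 4 5 8 .leaf) 2 1 2 (.node (.node
    .leaf 20 3 20 .leaf) 12 4 12 .leaf)))) 0 7 3 (.node (.node (.node (.node (.node .leaf 14 1 14 .leaf) 4 3 4
    (.node .leaf 21 7 22 .leaf)) 10 9 19 (.node (.node .leaf 18 1 18 .leaf) 9 5 10 .leaf)) 3 9 11 (.node
    (.node (.node .leaf 15 5 16 .leaf) 7 2 7 (.node .leaf 23 1 23 .leaf)) 1 4 1 (.node (.node .leaf 20 7 19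
    .leaf) 10 7 12 .leaf))) 2 7 7 (.node (.node (.node (.node .leaf 15 2 15 .leaf) 6 5 4 (.node .leaf 17 5 23
    .leaf)) 16 9 23 (.node (.node .leaf 19 1 19 .leaf) 11 7 4 .leaf)) 7 5 15 (.node (.node (.node .leaf 17 7 8
    .leaf) 8 1 8 .leaf) 3 7 0 (.node (.node .leaf 21 5 20 .leaf) 13 1 13 .leaf))))))

def cCS : List (ℕ × ℕ × List ℕ) :=
    [(0,0,[]), (0,0,[]), (0,0,[]), (0,0,[]), (0,0,[]), (0,0,[]), (0,0,[]), (0,0,[]), (0,0,[]), (0,0,[]),
    (0,0,[]), (0,0,[]), (0,0,[]), (0,0,[]), (0,0,[]), (0,0,[]), (0,0,[]), (0,0,[]), (0,0,[]), (0,0,[]),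
    (0,0,[]), (0,0,[]), (0,0,[]), (1,0,[]), (1,0,[]), (20,2,[1,47,0]), (22,2,[1,49,0]), (16,1,[3,0]),
    (20,0,[3,46,2]), (22,0,[3,48,2]), (17,1,[48,48,4]), (21,2,[5,47,4]), (23,2,[5,49,4]), (24,1,[7,47,6]),
    (25,1,[7,49,6]), (19,3,[9,1,4,60,0]), (21,2,[9,51,8]), (23,2,[9,53,8]), (26,3,[7,0,10]),
    (24,1,[11,51,10]), (25,1,[11,53,10]), (19,1,[3,61,5,2,12]), (21,2,[13,56,12]), (23,2,[13,58,12]),
    (26,1,[15,3,6]), (26,3,[11,54,14]), (24,1,[15,56,14]), (25,1,[15,58,14]), (20,2,[17,63,16]),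
    (22,2,[17,65,16]), (16,1,[19,16]), (20,0,[19,62,18]), (22,0,[19,64,18]), (27,1,[21,60,6]),
    (27,3,[7,4,20]), (24,1,[21,63,20]), (25,1,[21,65,20]), (18,4,[19,60,0,8,22]), (19,0,[114,19,5,61,18]),
    (20,2,[23,73,22]), (22,2,[23,75,22]), (16,1,[25,22]), (20,0,[25,72,24]), (22,0,[25,74,24]),
    (27,1,[27,71,10]), (27,3,[11,8,26]), (24,1,[27,73,26]), (25,1,[27,75,26]), (18,4,[25,71,54,12,28]),
    (19,0,[136,25,9,70,24]), (20,2,[29,85,28]), (22,2,[29,87,28]), (18,2,[31,82,3,4,16]),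
    (19,3,[145,17,60,4,16]), (16,1,[31,28]), (20,0,[31,84,30]), (22,0,[31,86,30]), (27,1,[33,82,14]),
    (27,3,[15,12,32]), (24,1,[33,85,32]), (25,1,[33,87,32]), (26,3,[21,16,34]), (24,1,[35,97,34]),
    (25,1,[35,99,34]), (26,1,[37,19,20]), (26,3,[35,100,36]), (24,1,[37,102,36]), (25,1,[37,104,36]),
    (26,3,[27,22,38]), (18,4,[176,130,76,106,168]), (19,0,[178,176,129,131,177]), (24,1,[39,119,38]),
    (25,1,[39,121,38]), (26,1,[41,25,26]), (26,3,[39,122,40]), (24,1,[41,124,40]), (25,1,[41,126,40]),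
    (26,3,[33,28,42]), (18,4,[194,156,90,128,186]), (19,0,[196,194,155,157,195]), (24,1,[43,141,42]),
    (25,1,[43,143,42]), (26,1,[45,31,32]), (18,2,[162,108,88,154,204]), (19,3,[207,205,156,154,204]),
    (26,3,[43,148,44]), (24,1,[45,150,44]), (25,1,[45,152,44])]

def cCR : List (ℕ × List ℕ) :=
    [(0,[47,46,49,48,0,2,4,61,6]), (1,[51,50,53,52,54,1,8,70,10]), (2,[56,57,58,59,3,55,12,83,14]),
    (3,[63,62,65,64,16,18,60,5,20]), (4,[66,67,68,69,88,77,106,109,7]), (5,[73,72,75,74,22,24,71,9,26]),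
    (6,[78,79,80,81,76,91,128,131,11]), (7,[85,84,87,86,28,30,82,13,32]), (8,[92,93,94,95,90,89,154,157,15]),
    (9,[97,96,99,98,100,17,144,146,34]), (10,[102,103,104,105,19,101,116,115,36]),
    (11,[110,111,112,113,168,163,108,107,21]), (12,[119,118,121,120,122,23,114,117,38]),
    (13,[124,125,126,127,25,123,138,137,40]), (14,[132,133,134,135,186,177,130,129,27]),
    (15,[141,140,143,142,148,29,136,139,42]), (16,[150,151,152,153,31,149,147,145,44]),
    (17,[158,159,160,161,204,195,156,155,33]), (18,[164,165,166,167,162,171,209,207,35]),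
    (19,[172,173,174,175,170,169,178,181,37]), (20,[182,183,184,185,176,189,180,179,39]),
    (21,[190,191,192,193,188,187,196,199,41]), (22,[200,201,202,203,194,211,198,197,43]),
    (23,[212,213,214,215,210,205,206,208,45])]

theorem cCC : check (inv tH) cCW [1,2,3,4] [1,2,3,4,5,6,7,8,9] cCF cCS cCR = true := by decide +kernel

/-- A word for the element with a given number. -/
def wd (n : ℕ) : List ℕ :=
  (if n % 2 = 1 then [3] else []) ++ (if n / 2 % 2 = 1 then [1,3,2] else []) ++ (if n / 4 % 2 = 1 then [7] else []) ++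
  (if n / 8 % 2 = 1 then [5,7,6] else []) ++ (if n / 16 % 2 = 1 then [3,3] else []) ++
  List.replicate (n / 32 % 3) 1 ++ List.replicate (n / 96 % 3) 5 ++ List.replicate (n / 288) 9

def lK : List Km := [ka, ka⁻¹, kk, kk⁻¹, kb, kb⁻¹, kl, kl⁻¹, 1]

def lH : List Hm := [ea, ea⁻¹, ek, ek⁻¹, eb, eb⁻¹, el, el⁻¹, es]

theorem gen_K : sub lK [1,2,3,4,5,6,7,8] = ⊤ := by
  have h : ∀ q : Km, ev lK (wd q.v) = q ∧ ∀ i ∈ wd q.v, i ∈ [1,2,3,4,5,6,7,8] := by decide +kernel
  exact eq_top_iff.mpr fun q _ => (h q).1 ▸ ev_mem fun i hi => gen_mem ((h q).2 i hi)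

theorem gen_H : sub lH [1,2,3,4,5,6,7,8,9] = ⊤ := by
  have h : ∀ q : Hm, ev lH (wd q.v) = q ∧ ∀ i ∈ wd q.v, i ∈ [1,2,3,4,5,6,7,8,9] := by decide +kernel
  exact eq_top_iff.mpr fun q _ => (h q).1 ▸ ev_mem fun i hi => gen_mem ((h q).2 i hi)

variable {G : Type*} [Group G]

/-- The relations of `SL₂(3) ∘ SL₂(3)`. -/
structure KR (a k b l : G) : Prop where
  a3 : a * a * a = 1
  k4 : k * k * (k * k) = 1
  ka : k * a * (k * a) * (k * a) = 1
  b3 : b * b * b = 1
  lk : l * l = k * k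
  lb : l * b * (l * b) * (l * b) = 1
  ab : a * b = b * a
  al : a * l = l * a
  kb : k * b = b * k
  kl : k * l = l * k

/-- The relations of the outer involution. -/
structure SR (a k b l s : G) : Prop where
  ss : s * s = 1
  sa : s * a * (s * a) = 1
  sk : s * k * (s * k) = 1
  sb : s * b * (s * b) = 1
  sl : s * l * (s * l) = 1

theorem KR.rel {a k b l : G} (h : KR a k b l) (s : G) : Rel [a, a⁻¹, k, k⁻¹, b, b⁻¹, l, l⁻¹, s] rK := by
  have h1 : k * k * a = a * (k * k) := by rw [← h.lk, mul_assoc, ← h.al, ← mul_assoc, ← h.al, mul_assoc]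
  have h2 : l * l * b = b * (l * l) := by rw [h.lk, mul_assoc, h.kb, ← mul_assoc, h.kb, mul_assoc]
  have c : ∀ {x y : G}, x * y = y * x → x * (y * (x⁻¹ * y⁻¹)) = 1 := fun e => by
    rw [← mul_assoc, e]; group
  simp only [TCList.Rel, rK, List.forall_mem_cons, ev_cons, ev_nil, gen, List.getD_cons_succ, List.getD_cons_zero, mul_one,
    mul_inv_cancel, inv_mul_cancel, true_and]
  refine ⟨by simpa only [mul_assoc] using h.a3, by simpa only [mul_assoc] using h.k4,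
    by simpa only [mul_assoc] using h.ka, by simpa only [mul_assoc, mul_inv_rev] using c h1,
    by simpa only [mul_assoc] using h.b3, by rw [← mul_assoc, h.lk]; group,
    by simpa only [mul_assoc] using h.lb, by simpa only [mul_assoc, mul_inv_rev] using c h2,
    c h.ab, c h.al, c h.kb, c h.kl, by simp⟩

theorem SR.rel {a k b l s : G} (h : SR a k b l s) : Rel [a, a⁻¹, k, k⁻¹, b, b⁻¹, l, l⁻¹, s] rS := by
  simp only [TCList.Rel, rS, List.forall_mem_cons, ev_cons, ev_nil, gen, List.getD_cons_succ, List.getD_cons_zero, mul_one]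
  exact ⟨h.ss, by simpa only [mul_assoc] using h.sa, by simpa only [mul_assoc] using h.sk,
    by simpa only [mul_assoc] using h.sb, by simpa only [mul_assoc] using h.sl, by simp⟩

theorem exists_homK {a k b l : G} (h : KR a k b l) :
    ∃ f : Km →* G, f ka = a ∧ f kk = k ∧ f kb = b ∧ f kl = l := by
  have hm : lK.length = [a, a⁻¹, k, k⁻¹, b, b⁻¹, l, l⁻¹, 1].length := rfl
  have h1 := Rel.zip hm (rs := rK ++ [[9,9]]) (by decide +kernel) ((h.rel 1).append (by simp [TCList.Rel, ev, gen]))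
  have hi := h1.mono (ss := invRels tH) (by decide +kernel)
  obtain ⟨f, hf⟩ := TCList.exists_hom hm gen_K (by
    rw [card_Km]
    exact card_le (t := tH) (by rfl) hi (h1.mono (by decide +kernel)) (by decide +kernel) cBC
      (card_le (t := tH) (by rfl) hi (h1.mono (by decide +kernel)) (by decide +kernel) cAC (card_nil _)))
  exact ⟨f, hf 1 (by decide), hf 3 (by decide), hf 5 (by decide), hf 7 (by decide)⟩

theorem exists_homH {a k b l s : G} (h : KR a k b l) (h' : SR a k b l s) :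
    ∃ f : Hm →* G, f ea = a ∧ f ek = k ∧ f eb = b ∧ f el = l ∧ f es = s := by
  have hm : lH.length = [a, a⁻¹, k, k⁻¹, b, b⁻¹, l, l⁻¹, s].length := rfl
  have h1 := Rel.zip hm (rs := rK ++ rS) (by decide +kernel) ((h.rel s).append h'.rel)
  have hi := h1.mono (ss := invRels tH) (by decide +kernel)
  obtain ⟨f, hf⟩ := TCList.exists_hom hm gen_H (by
    rw [card_Hm]
    exact card_le (t := tH) (by rfl) hi (h1.mono (by decide +kernel)) (by decide +kernel) cCC
      (card_le (t := tH) (by rfl) hi (h1.mono (by decide +kernel)) (by decide +kernel) cAC (card_nil _)))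
  exact ⟨f, hf 1 (by decide), hf 3 (by decide), hf 5 (by decide), hf 7 (by decide), hf 9 (by decide)⟩

theorem range_le {φ : Hm →* G} {L : Subgroup G} (ha : φ ea ∈ L) (hk : φ ek ∈ L) (hb : φ eb ∈ L) (hl : φ el ∈ L)
    (hs : φ es ∈ L) : φ.range ≤ L := by
  rw [MonoidHom.range_eq_map, ← gen_H, map_le_iff_le_comap]
  refine sub_le ?_
  simp only [List.forall_mem_cons, mem_comap, lH, gen, List.getD_cons_succ, List.getD_cons_zero, map_inv, inv_mem_iff]
  simp [*]

theorem rangeK_le {φ : Km →* G} {L : Subgroup G} (ha : φ ka ∈ L) (hk : φ kk ∈ L) (hb : φ kb ∈ L) (hl : φ kl ∈ L) :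
    φ.range ≤ L := by
  rw [MonoidHom.range_eq_map, ← gen_K, map_le_iff_le_comap]
  refine sub_le ?_
  simp only [List.forall_mem_cons, mem_comap, lK, gen, List.getD_cons_succ, List.getD_cons_zero, map_inv, inv_mem_iff]
  simp [*]

theorem ez_eq : ez = ek * ek := by decide +kernel
theorem et_eq : et = es * ez := by decide +kernel
theorem eu_eq : eu = ek * el := by decide +kernel
theorem ep_eq : ep = ek * ea * ek⁻¹ := by decide +kernel
theorem eq_eq : G3Model.eq = el * eb * el⁻¹ := by decide +kernel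

/-- The automorphism `s ↦ s z`. -/
theorem exists_σ₁ : ∃ σ : Hm →* Hm, σ ea = ea ∧ σ eb = eb ∧ σ es = et ∧ σ ez = ez := by
  obtain ⟨f, h1, h2, h3, -, h5⟩ := exists_homH (a := ea) (k := ek) (b := eb) (l := el) (s := et)
    (by constructor <;> decide +kernel) (by constructor <;> decide +kernel)
  exact ⟨f, h1, h3, h5, by rw [ez_eq, map_mul, h2]⟩

/-- The automorphism that interchanges the two factors. -/
theorem exists_σ₂ : ∃ σ : Hm →* Hm, σ ea = eb ∧ σ ek = el ∧ σ eb = ea ∧ σ es = es ∧ σ ez = ez ∧ σ et = et ∧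
    σ eu = eu ∧ σ ep = G3Model.eq ∧ σ G3Model.eq = ep := by
  obtain ⟨f, h1, h2, h3, h4, h5⟩ := exists_homH (a := eb) (k := el) (b := ea) (l := ek) (s := es)
    (by constructor <;> decide +kernel) (by constructor <;> decide +kernel)
  have h6 : f ez = ez := by rw [ez_eq, map_mul, h2]; decide +kernel
  refine ⟨f, h1, h2, h3, h5, h6, by rw [et_eq, map_mul, h5, h6], ?_, ?_, ?_⟩
  · rw [eu_eq, map_mul, h2, h4]; decide +kernel
  · rw [ep_eq, map_mul, map_mul, map_inv, h1, h2, eq_eq]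
  · rw [eq_eq, map_mul, map_mul, map_inv, h3, h4, ep_eq]

/-- The automorphism that inverts `b` and `l`. -/
theorem exists_σ₃ : ∃ σ : Hm →* Hm, σ ea = ea ∧ σ ek = ek ∧ σ eb = eb⁻¹ ∧ σ es = es ∧ σ ez = ez ∧ σ et = et ∧
    σ eu = eu * ez := by
  obtain ⟨f, h1, h2, h3, h4, h5⟩ := exists_homH (a := ea) (k := ek) (b := eb⁻¹) (l := el⁻¹) (s := es)
    (by constructor <;> decide +kernel) (by constructor <;> decide +kernel)
  have h6 : f ez = ez := by rw [ez_eq, map_mul, h2]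
  refine ⟨f, h1, h2, h3, h5, h6, by rw [et_eq, map_mul, h5, h6], ?_⟩
  rw [eu_eq, map_mul, h2, h4]; decide +kernel

/-! ### The elements `n` and `w` -/

/-- The relations of `n`. -/
structure NR (φ : Hm →* G) (n : G) : Prop where
  n3 : n * n * n = 1
  nz : n * φ ez * n⁻¹ = φ es
  ns : n * φ es * n⁻¹ = φ et
  nt : n * φ et * n⁻¹ = φ ez
  nu : n * φ eu * n⁻¹ = φ eu
  kn : φ ek * n * (φ ek * n) = 1

/-- The relations of `w`. -/
structure WR (φ : Hm →* G) (w : G) : Prop where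
  w3 : w * w * w = 1
  aw : φ ea * w = w * φ ea
  bw : φ eb * w = w * φ eb
  sw : φ es * w = w * φ es
  zw : φ ez * w * (φ ez * w) = 1

/-- The letters `a A k K b B l L s z p P q Q u t`. -/
def lm : List Hm := [32,64,1,17,96,192,4,20,288,16,51,82,124,216,5,304].map Hm.of

def lg (φ : Hm →* G) (n w : G) : List G := lm.map φ ++ [n, n⁻¹, w, w⁻¹]

def tG : List ℕ := [2,1,4,3,6,5,8,7,9,10,12,11,14,13,15,16,18,17,20,19]

def rM : List (List ℕ) :=
    [[17,18], [18,17], [19,20], [20,19], [17,17,17], [17,10,18,9], [17,9,18,16], [17,16,18,10], [17,15,18,15],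
    [3,17,3,17], [1,19,2,20], [5,19,6,20], [19,19,19], [9,19,9,20], [10,19,10,19]]

/-- A relator of the model, or a listed one. -/
def ok (ex : List (List ℕ)) (r : List ℕ) : Bool :=
  (r.all (Nat.ble · 16) && decide (ev lm r = 1)) || (rM ++ ex).contains r

/-- The check that some words lie in the subgroup generated by the letters `s`. -/
def cert (ex : List (List ℕ)) (s : List ℕ) (rs : List (List ℕ)) (F : Tr)
    (S : List (ℕ × ℕ × List ℕ)) (T : List (List ℕ × List ℕ)) : Bool :=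
  rs.all (ok ex) && T.all fun t => walk (inv tG) F (run (inv tG) rs s F 0 S) 0 0 t.1 t.2

def c0W : List (List ℕ) :=
    [[], [1,2], [2,1], [3,4], [4,3], [5,6], [6,5], [7,8], [8,7], [9,9], [10,10], [12,11], [13,14], [14,13],
    [15,15], [16,16], [17,18], [18,17], [19,20], [20,19], [2,2,2], [4,4,10], [4,8,15], [4,15,8], [8,8,10],
    [12,12,12], [14,14,14], [9,16,10], [2,4,11,3], [2,8,1,7], [2,12,2,3], [2,12,3,12], [2,14,1,13],
    [2,3,11,4], [2,9,2,9], [2,16,2,16], [2,15,11,15], [2,10,1,10], [6,4,5,3], [6,8,13,7], [6,12,5,11],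
    [6,14,6,7], [6,14,7,14], [6,7,13,8], [6,16,6,16], [6,15,13,15], [4,4,8,8], [4,4,7,7], [4,4,9,16],
    [4,4,16,9], [4,14,3,13], [4,7,10,15], [4,9,3,16], [4,16,3,9], [4,15,3,15], [4,15,7,10], [4,15,10,7],
    [8,8,9,16], [8,12,7,11], [8,9,8,9], [8,9,7,16], [12,14,11,13], [12,9,12,9], [12,16,12,16], [12,10,11,10],
    [14,9,14,9], [14,16,14,16], [14,10,13,10], [9,16,9,16], [16,15,16,15], [17,17,17], [17,10,18,9],
    [17,9,18,16], [17,16,18,10], [17,15,18,15], [3,17,3,17], [17,1,18,20], [1,19,2,20], [5,19,6,20],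
    [19,19,19], [9,19,9,20], [10,19,10,19]]

def c0F : Tr :=
    (.node (.node (.node (.node (.node (.node (.node (.node (.node .leaf 62 19 33 .leaf) 5 17 6 (.node .leaf
    11 0 1 .leaf)) 31 18 64 (.node (.node .leaf 91 10 92 .leaf) 31 19 31 .leaf)) 7 13 32 (.node (.node (.node
    .leaf 74 8 72 .leaf) 17 9 16 (.node .leaf 4 0 60 .leaf)) 62 17 96 (.node (.node .leaf 51 0 42 .leaf) 46 9
    28 .leaf))) 2 13 16 (.node (.node (.node (.node .leaf 34 8 36 .leaf) 12 14 11 (.node .leaf 2 0 1 .leaf))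
    41 3 80 (.node (.node .leaf 78 0 76 .leaf) 37 9 35 .leaf)) 16 20 48 (.node (.node (.node .leaf 82 9 78
    .leaf) 25 3 5 .leaf) 1 19 2 (.node (.node .leaf 87 0 38 .leaf) 52 5 39 .leaf)))) 1 4 8 (.node (.node
    (.node (.node (.node .leaf 65 4 53 .leaf) 9 16 9 (.node .leaf 35 0 9 .leaf)) 35 11 72 (.node (.node .leaf
    96 1 66 .leaf) 35 1 35 .leaf)) 11 18 40 (.node (.node (.node .leaf 76 2 78 .leaf) 22 9 21 (.node .leaf 0
    18 0 .leaf)) 0 15 0 (.node (.node .leaf 74 0 37 .leaf) 47 19 48 .leaf))) 4 2 24 (.node (.node (.node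
    (.node .leaf 71 4 35 .leaf) 16 2 16 (.node .leaf 55 0 29 .leaf)) 50 1 88 (.node (.node .leaf 82 0 51
    .leaf) 41 6 36 .leaf)) 26 15 56 (.node (.node (.node .leaf 89 6 69 .leaf) 29 16 28 .leaf) 4 15 4 (.node
    (.node .leaf 41 0 12 .leaf) 55 15 28 .leaf))))) 0 18 4 (.node (.node (.node (.node (.node (.node .leaf 65
    15 43 .leaf) 8 4 2 (.node .leaf 10 0 34 .leaf)) 34 4 68 (.node (.node .leaf 94 17 95 .leaf) 33 16 32
    .leaf)) 10 19 36 (.node (.node (.node .leaf 47 4 76 .leaf) 18 16 13 (.node .leaf 60 0 4 .leaf)) 0 4 0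
    (.node (.node .leaf 89 0 42 .leaf) 47 6 41 .leaf))) 3 20 20 (.node (.node (.node (.node .leaf 39 14 51
    .leaf) 13 4 9 (.node .leaf 91 0 6 .leaf)) 47 11 84 (.node (.node .leaf 79 0 76 .leaf) 34 6 38 .leaf)) 17
    20 52 (.node (.node (.node .leaf 78 3 85 .leaf) 20 1 27 .leaf) 3 9 3 (.node (.node .leaf 16 0 11 .leaf) 53
    16 50 .leaf)))) 1 14 12 (.node (.node (.node (.node (.node .leaf 67 17 57 .leaf) 10 1 10 (.node .leaf 73 0
    9 .leaf)) 39 3 76 (.node (.node .leaf 97 17 98 .leaf) 36 10 35 .leaf)) 14 19 44 (.node (.node (.node .leaf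
    80 9 75 .leaf) 23 17 9 .leaf) 1 9 1 (.node (.node .leaf 70 0 68 .leaf) 49 9 43 .leaf))) 6 1 28 (.node
    (.node (.node (.node .leaf 72 8 69 .leaf) 12 16 16 (.node .leaf 6 0 4 .leaf)) 55 20 92 (.node (.node .leaf
    78 0 39 .leaf) 44 2 26 .leaf)) 29 11 60 (.node (.node (.node .leaf 78 6 90 .leaf) 18 20 30 .leaf) 5 10 5
    (.node (.node .leaf 55 0 45 .leaf) 60 4 58 .leaf)))))) 0 20 2 (.node (.node (.node (.node (.node (.node
    (.node .leaf 63 1 63 .leaf) 7 16 7 (.node .leaf 29 0 45 .leaf)) 33 17 66 (.node (.node .leaf 94 3 93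
    .leaf) 32 4 11 .leaf)) 9 19 34 (.node (.node (.node .leaf 73 8 74 .leaf) 11 6 17 (.node .leaf 95 0 0
    .leaf)) 64 2 98 (.node (.node .leaf 71 0 35 .leaf) 37 18 46 .leaf))) 2 15 18 (.node (.node (.node (.node
    .leaf 34 7 35 .leaf) 12 7 11 (.node .leaf 70 0 1 .leaf)) 42 12 82 (.node (.node .leaf 76 0 47 .leaf) 34 10
    37 .leaf)) 16 18 50 (.node (.node (.node .leaf 84 10 78 .leaf) 22 2 25 .leaf) 2 16 1 (.node (.node .leaf
    38 0 11 .leaf) 51 19 52 .leaf)))) 1 8 10 (.node (.node (.node (.node (.node .leaf 66 9 65 .leaf) 10 8 2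
    (.node .leaf 74 0 9 .leaf)) 37 11 74 (.node (.node .leaf 97 1 97 .leaf) 36 2 36 .leaf)) 12 20 42 (.node
    (.node (.node .leaf 79 12 78 .leaf) 23 18 19 .leaf) 1 2 1 (.node (.node .leaf 73 0 36 .leaf) 38 10 48
    .leaf))) 5 19 26 (.node (.node (.node (.node .leaf 71 17 56 .leaf) 16 10 11 (.node .leaf 37 0 0 .leaf)) 52
    11 90 (.node (.node .leaf 47 0 84 .leaf) 42 9 39 .leaf)) 28 12 58 (.node (.node (.node .leaf 85 9 89
    .leaf) 15 4 30 .leaf) 3 3 4 (.node (.node .leaf 81 0 12 .leaf) 57 3 28 .leaf))))) 1 18 6 (.node (.node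
    (.node (.node (.node (.node .leaf 43 8 40 .leaf) 9 2 9 (.node .leaf 37 0 9 .leaf)) 34 12 70 (.node (.node
    .leaf 94 4 95 .leaf) 26 18 34 .leaf)) 11 19 38 (.node (.node (.node .leaf 77 4 47 .leaf) 21 15 5 (.node
    .leaf 0 0 4 .leaf)) 0 9 0 (.node (.node .leaf 72 0 35 .leaf) 36 6 47 .leaf))) 3 12 22 (.node (.node (.node
    (.node .leaf 54 17 68 .leaf) 15 9 6 (.node .leaf 6 0 46 .leaf)) 47 15 86 (.node (.node .leaf 72 0 36
    .leaf) 39 5 35 .leaf)) 26 3 54 (.node (.node (.node .leaf 82 5 87 .leaf) 28 18 26 .leaf) 4 9 4 (.node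
    (.node .leaf 70 0 34 .leaf) 55 4 27 .leaf)))) 2 17 14 (.node (.node (.node (.node (.node .leaf 36 15 67
    .leaf) 11 2 11 (.node .leaf 74 0 2 .leaf)) 39 11 78 (.node (.node .leaf 86 0 97 .leaf) 34 16 35 .leaf)) 15
    2 46 (.node (.node (.node .leaf 81 16 75 .leaf) 20 18 10 .leaf) 2 5 2 (.node (.node .leaf 92 0 45 .leaf)
    51 6 34 .leaf))) 6 3 30 (.node (.node (.node (.node .leaf 70 16 72 .leaf) 17 14 16 (.node .leaf 56 0 27
    .leaf)) 60 17 94 (.node (.node .leaf 85 0 39 .leaf) 45 10 28 .leaf)) 30 5 62 (.node (.node (.node .leaf 70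
    18 91 .leaf) 6 8 19 .leaf) 6 16 6 (.node (.node .leaf 75 0 1 .leaf) 58 16 60 .leaf))))))) 0 19 1 (.node
    (.node (.node (.node (.node (.node (.node (.node .leaf 31 3 62 .leaf) 7 6 7 (.node .leaf 27 0 44 .leaf))
    32 17 65 (.node (.node .leaf 91 15 92 .leaf) 32 15 12 .leaf)) 7 14 33 (.node (.node (.node .leaf 74 10 69
    .leaf) 17 16 11 (.node .leaf 20 0 4 .leaf)) 63 20 97 (.node (.node .leaf 82 0 42 .leaf) 46 10 29 .leaf)))
    2 14 17 (.node (.node (.node (.node .leaf 35 7 37 .leaf) 12 6 10 (.node .leaf 37 0 1 .leaf)) 41 4 81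
    (.node (.node .leaf 76 0 85 .leaf) 36 19 37 .leaf)) 16 17 49 (.node (.node (.node .leaf 49 1 83 .leaf) 25
    15 23 .leaf) 1 10 2 (.node (.node .leaf 38 0 48 .leaf) 52 9 48 .leaf)))) 1 7 9 (.node (.node (.node (.node
    (.node .leaf 50 8 49 .leaf) 10 15 7 (.node .leaf 38 0 1 .leaf)) 36 11 73 (.node (.node .leaf 96 12 88
    .leaf) 34 19 35 .leaf)) 12 19 41 (.node (.node (.node .leaf 72 6 78 .leaf) 18 17 22 .leaf) 0 16 0 (.node
    (.node .leaf 69 0 34 .leaf) 42 5 48 .leaf))) 4 11 25 (.node (.node (.node (.node .leaf 71 18 55 .leaf) 16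
    7 12 (.node .leaf 1 0 0 .leaf)) 51 11 89 (.node (.node .leaf 84 0 39 .leaf) 41 9 38 .leaf)) 27 15 57
    (.node (.node (.node .leaf 89 13 78 .leaf) 30 17 25 .leaf) 3 17 4 (.node (.node .leaf 52 0 12 .leaf) 56 4
    28 .leaf))))) 1 17 5 (.node (.node (.node (.node (.node (.node .leaf 65 3 40 .leaf) 8 10 7 (.node .leaf 10
    0 9 .leaf)) 34 11 69 (.node (.node .leaf 71 20 95 .leaf) 34 2 34 .leaf)) 10 20 37 (.node (.node (.node
    .leaf 71 6 76 .leaf) 19 10 20 (.node .leaf 4 0 3 .leaf)) 0 6 0 (.node (.node .leaf 35 0 36 .leaf) 47 10 39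
    .leaf))) 3 11 21 (.node (.node (.node (.node .leaf 68 15 35 .leaf) 5 1 14 (.node .leaf 92 0 29 .leaf)) 47
    12 85 (.node (.node .leaf 79 0 47 .leaf) 39 1 39 .leaf)) 17 18 53 (.node (.node (.node .leaf 86 7 76
    .leaf) 26 10 27 .leaf) 3 15 3 (.node (.node .leaf 34 0 37 .leaf) 53 10 40 .leaf)))) 1 15 13 (.node (.node
    (.node (.node (.node .leaf 37 4 67 .leaf) 10 9 9 (.node .leaf 9 0 2 .leaf)) 39 4 77 (.node (.node .leaf 83
    15 98 .leaf) 27 18 36 .leaf)) 15 1 45 (.node (.node (.node .leaf 81 5 76 .leaf) 9 17 19 .leaf) 2 1 2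
    (.node (.node .leaf 68 0 34 .leaf) 50 9 40 .leaf))) 6 2 29 (.node (.node (.node (.node .leaf 71 2 72
    .leaf) 16 6 12 (.node .leaf 61 0 4 .leaf)) 58 18 93 (.node (.node .leaf 89 0 51 .leaf) 44 18 35 .leaf)) 29
    15 61 (.node (.node (.node .leaf 87 9 90 .leaf) 19 8 15 .leaf) 3 1 5 (.node (.node .leaf 95 0 34 .leaf) 56
    2 60 .leaf)))))) 0 17 3 (.node (.node (.node (.node (.node (.node (.node .leaf 63 17 64 .leaf) 2 4 7
    (.node .leaf 34 0 9 .leaf)) 34 3 67 (.node (.node .leaf 95 10 93 .leaf) 33 6 18 .leaf)) 9 20 35 (.node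
    (.node (.node .leaf 75 4 48 .leaf) 18 7 7 (.node .leaf 94 0 0 .leaf)) 0 2 0 (.node (.node .leaf 81 0 52
    .leaf) 47 2 47 .leaf))) 3 19 19 (.node (.node (.node (.node .leaf 38 14 41 .leaf) 12 9 11 (.node .leaf 34
    0 1 .leaf)) 47 17 83 (.node (.node .leaf 78 0 47 .leaf) 36 16 37 .leaf)) 17 19 51 (.node (.node (.node
    .leaf 85 2 76 .leaf) 26 2 19 .leaf) 3 10 3 (.node (.node .leaf 16 0 38 .leaf) 35 5 52 .leaf)))) 1 13 11
    (.node (.node (.node (.node (.node .leaf 50 3 66 .leaf) 10 10 9 (.node .leaf 70 0 9 .leaf)) 38 4 75 (.node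
    (.node .leaf 98 4 88 .leaf) 36 9 34 .leaf)) 12 17 43 (.node (.node (.node .leaf 79 3 78 .leaf) 21 3 23
    .leaf) 1 6 1 (.node (.node .leaf 73 0 35 .leaf) 48 16 41 .leaf))) 5 20 27 (.node (.node (.node (.node
    .leaf 72 15 70 .leaf) 10 6 16 (.node .leaf 34 0 0 .leaf)) 54 19 91 (.node (.node .leaf 47 0 39 .leaf) 37 5
    42 .leaf)) 29 4 59 (.node (.node (.node .leaf 90 6 72 .leaf) 19 15 30 .leaf) 3 4 4 (.node (.node .leaf 56
    0 44 .leaf) 58 2 59 .leaf))))) 1 3 7 (.node (.node (.node (.node (.node (.node .leaf 43 7 53 .leaf) 9 7 2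
    (.node .leaf 35 0 10 .leaf)) 34 15 71 (.node (.node .leaf 96 3 64 .leaf) 28 17 34 .leaf)) 11 20 39 (.node
    (.node (.node .leaf 77 10 76 .leaf) 13 17 21 (.node .leaf 3 0 0 .leaf)) 0 10 0 (.node (.node .leaf 41 0 52
    .leaf) 48 5 37 .leaf))) 4 1 23 (.node (.node (.node (.node .leaf 70 2 68 .leaf) 15 10 6 (.node .leaf 6 0
    61 .leaf)) 48 12 87 (.node (.node .leaf 90 0 41 .leaf) 38 19 39 .leaf)) 26 4 55 (.node (.node (.node .leaf
    83 7 88 .leaf) 29 2 28 .leaf) 4 16 4 (.node (.node .leaf 74 0 34 .leaf) 55 10 54 .leaf)))) 2 18 15 (.node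
    (.node (.node (.node (.node .leaf 36 8 37 .leaf) 9 6 11 (.node .leaf 69 0 2 .leaf)) 39 12 79 (.node (.node
    .leaf 86 1 86 .leaf) 29 17 36 .leaf)) 16 19 47 (.node (.node (.node .leaf 75 14 81 .leaf) 24 3 22 .leaf) 2
    9 2 (.node (.node .leaf 81 0 41 .leaf) 51 9 47 .leaf))) 6 5 31 (.node (.node (.node (.node .leaf 73 10 72
    .leaf) 17 6 9 (.node .leaf 60 0 20 .leaf)) 60 18 95 (.node (.node .leaf 76 0 39 .leaf) 35 18 45 .leaf)) 31
    17 63 (.node (.node (.node .leaf 92 17 72 .leaf) 26 7 28 .leaf) 6 20 6 (.node (.node .leaf 1 0 16 .leaf)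
    55 11 61 .leaf))))))))

def c0S : List (ℕ × ℕ × List ℕ) :=
    [(0,0,[]), (0,0,[]), (0,0,[]), (0,0,[]), (0,0,[]), (0,0,[]), (0,0,[]), (0,0,[]), (0,0,[]), (0,0,[]),
    (0,0,[]), (0,0,[]), (0,0,[]), (0,0,[]), (0,0,[]), (0,0,[]), (0,0,[]), (0,0,[]), (0,0,[]), (0,0,[]),
    (0,0,[]), (0,0,[]), (0,0,[]), (0,0,[]), (0,0,[]), (0,0,[]), (0,0,[]), (0,0,[]), (0,0,[]), (0,0,[]),
    (0,0,[]), (0,0,[]), (0,0,[]), (0,0,[]), (0,0,[]), (0,0,[]), (0,0,[]), (0,0,[]), (0,0,[]), (0,0,[]),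
    (0,0,[]), (0,0,[]), (0,0,[]), (0,0,[]), (0,0,[]), (0,0,[]), (0,0,[]), (0,0,[]), (0,0,[]), (0,0,[]),
    (0,0,[]), (0,0,[]), (0,0,[]), (0,0,[]), (0,0,[]), (0,0,[]), (0,0,[]), (0,0,[]), (0,0,[]), (0,0,[]),
    (0,0,[]), (0,0,[]), (0,0,[]), (0,0,[]), (0,0,[]), (0,0,[]), (0,0,[]), (0,0,[]), (0,0,[]), (0,0,[]),
    (0,0,[]), (0,0,[]), (0,0,[]), (0,0,[]), (0,0,[]), (0,0,[]), (0,0,[]), (0,0,[]), (0,0,[]), (0,0,[]),
    (0,0,[]), (0,0,[]), (0,0,[]), (0,0,[]), (0,0,[]), (0,0,[]), (0,0,[]), (0,0,[]), (0,0,[]), (0,0,[]),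
    (0,0,[]), (0,0,[]), (0,0,[]), (0,0,[]), (0,0,[]), (0,0,[]), (0,0,[]), (0,0,[]), (1,0,[]), (1,0,[]),
    (1,0,[]), (1,0,[]), (1,0,[]), (1,0,[]), (1,0,[]), (79,2,[1,197,0]), (80,2,[1,201,0]), (82,2,[1,202,0]),
    (79,0,[3,196,2]), (80,0,[3,200,2]), (82,0,[3,202,2]), (81,2,[3,0]), (83,0,[3,205,0]), (29,1,[224,221]),
    (73,1,[5,202,4]), (74,1,[5,208,4]), (76,1,[5,206,4]), (73,3,[7,204,6]), (74,3,[7,202,6]),
    (76,3,[7,206,6]), (72,2,[7,4]), (77,0,[7,199,4]), (50,1,[235,237,243]), (73,1,[9,214,8]), (78,1,[9,1,4]),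
    (74,3,[11,214,10]), (78,3,[11,211,10]), (72,2,[11,8]), (40,0,[13,213,12]), (54,3,[13,214,12]),
    (23,0,[13,224]), (23,1,[225,14]), (23,2,[13,14]), (31,0,[17,211,16]), (49,3,[260,13,16]),
    (62,3,[17,214,16]), (24,2,[13,18]), (26,1,[225,18]), (26,2,[17,18]), (31,2,[19,210,18]),
    (59,2,[270,17,18]), (34,0,[21,211,20]), (43,0,[21,212,16]), (28,1,[21,22]), (43,2,[19,212,22]),
    (44,2,[21,212,22]), (67,1,[21,214,22]), (24,0,[17,24]), (78,1,[27,223,8]), (73,3,[11,224,28]),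
    (75,3,[11,227,28]), (34,0,[31,216,30]), (41,3,[288,274,30]), (69,3,[21,224,30]), (43,0,[31,219,275]),
    (68,3,[31,226,22]), (45,0,[290,287,305]), (28,1,[31,32]), (43,2,[268,219,32]), (67,1,[31,220,32]),
    (68,1,[21,227,32]), (43,0,[314,312,290]), (57,2,[265,262,34]), (71,2,[25,227,34]), (83,0,[39,229,36]),
    (38,3,[249,232,40]), (76,0,[330,9,24]), (64,1,[41,230,42]), (74,0,[334,333,327]), (78,2,[37,240,44]),
    (30,3,[45,243,40]), (77,1,[295,332,340]), (72,1,[339,342]), (73,2,[280,344,328]), (35,1,[43,244,46]),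
    (30,3,[249,244,48]), (38,3,[45,238,48]), (32,0,[49,46,348]), (79,2,[37,248,50]), (79,0,[53,249,38]),
    (83,0,[53,247,50]), (78,2,[51,254,54]), (22,1,[55,56]), (37,1,[55,250,56]), (77,1,[350,254,58]),
    (23,0,[59,301]), (76,3,[368,352,338]), (78,3,[368,355,337]), (25,2,[370,373]), (48,2,[376,370,59]),
    (31,3,[55,378,357]), (80,1,[61,252,60]), (47,3,[288,272,62]), (52,0,[21,12,62]), (43,2,[324,256,64]),
    (68,1,[63,258,64]), (79,2,[67,267,66]), (78,2,[67,344,357]), (72,2,[395,363]), (79,0,[69,266,68]),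
    (81,2,[69,66]), (79,2,[71,278,70]), (82,2,[67,281,70]), (83,2,[69,277,70]), (78,2,[71,347,358]),
    (29,1,[407,404]), (74,0,[404,397,367]), (82,0,[69,281,72]), (81,2,[73,70]), (83,0,[73,276,66]),
    (70,3,[414,411,405]), (80,2,[75,285,66]), (79,0,[77,282,76]), (80,0,[69,284,76]), (81,2,[77,74]),
    (80,2,[71,289,80]), (82,2,[75,293,80]), (82,0,[77,293,82]), (80,0,[83,288,72]), (79,2,[51,296,86]),
    (78,2,[401,395,439]), (39,3,[55,301,88]), (75,2,[442,396,410]), (36,1,[55,299,90]), (39,1,[57,301,90]),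
    (73,2,[446,396,418]), (79,2,[93,303,92]), (80,2,[81,313,92]), (83,2,[77,307,92]), (80,2,[93,309,70]),
    (80,0,[73,308,94]), (81,2,[95,92]), (80,0,[95,312,82]), (83,0,[95,306,74]), (46,1,[430,420,461]),
    (74,1,[85,310,96]), (73,3,[79,307,98]), (80,2,[67,317,100]), (82,2,[93,319,100]), (80,0,[77,322,102]),
    (82,0,[95,319,102]), (81,2,[103,100]), (80,0,[103,316,68]), (74,3,[99,319,104]), (75,3,[79,321,104]),
    (23,1,[361,108]), (23,2,[107,108]), (25,1,[381,108]), (24,0,[381,110]), (56,2,[495,490,112]),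
    (32,2,[117,364,114]), (35,3,[500,117,118]), (32,0,[119,364,497]), (65,3,[119,366,114]),
    (38,2,[121,364,495]), (80,1,[388,374,122]), (40,3,[123,59,60]), (78,1,[125,383,124]), (72,2,[127,124]),
    (76,1,[85,385,128]), (77,2,[79,387,128]), (25,2,[521,518]), (57,2,[488,521,518]), (24,0,[525,519]),
    (61,2,[470,522,473]), (74,1,[129,391,130]), (55,2,[530,526,486]), (77,1,[498,396,132]), (23,0,[133,418]),
    (76,3,[534,113,408]), (25,2,[536,539]), (48,2,[540,536,133]), (58,3,[536,539,406]), (53,1,[407,538,133]),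
    (43,1,[430,543,422]), (43,1,[474,546,427]), (25,1,[547,134]), (77,3,[135,395,106]), (32,2,[135,392,138]),
    (24,0,[547,140]), (76,2,[494,396,140]), (76,0,[111,394,140]), (38,3,[556,552,142]), (60,0,[137,546,142]),
    (32,0,[143,399,559]), (65,3,[143,411,138]), (66,3,[143,407,144]), (60,0,[143,544,146]),
    (66,3,[137,418,146]), (60,0,[147,541,144]), (23,1,[467,148]), (23,0,[151,457]), (40,0,[151,426,559]),
    (23,1,[456,152]), (23,2,[151,152]), (32,0,[155,425,150]), (42,0,[155,426,142]), (27,1,[155,156]),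
    (33,2,[155,425,156]), (55,3,[580,468,158]), (40,2,[583,454,160]), (51,2,[599,159,160]),
    (52,1,[161,549,148]), (64,1,[155,435,162]), (78,1,[165,93,96]), (66,3,[155,457,166]),
    (32,2,[583,452,168]), (35,1,[169,582,590]), (57,2,[589,586,170]), (42,2,[173,465,162]),
    (31,3,[175,528,608]), (42,0,[137,475,176]), (63,3,[155,550,176]), (64,3,[177,476,168]),
    (42,0,[143,484,178]), (42,0,[179,478,154]), (64,3,[179,480,172]), (78,2,[181,554,557]),
    (78,0,[569,560,182]), (83,0,[183,492,180]), (76,3,[636,564,634]), (77,2,[185,503,186]),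
    (75,3,[185,506,188]), (72,2,[189,186]), (78,3,[189,505,563]), (23,1,[644,643]), (77,2,[127,512,190]),
    (78,1,[131,511,190]), (32,1,[175,532,655]), (79,0,[193,515,192]), (30,1,[657,652,194]),
    (78,0,[195,517,192]), (24,2,[660,621]), (76,0,[662,665,165,170]), (3,0,[666,659,667]),
    (31,1,[617,668,616,590]), (4,0,[612,671,591]), (6,0,[582,671,614,673]), (2,0,[675,671]),
    (5,0,[583,677,597]), (2,0,[675,679]), (8,0,[458,677,593]), (7,0,[455,677,630]), (11,0,[476,677,607]),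
    (12,0,[457,677,611]), (13,0,[167,677,595,680]), (2,0,[689,691]), (2,0,[693,677]), (14,0,[551,695,625]),
    (2,0,[693,675,672]), (2,0,[693,675]), (11,0,[434,699,626,696]), (2,0,[703,687]), (8,0,[427,701,585]),
    (7,0,[478,701,601]), (2,0,[703,697]), (4,0,[402,683,569,706]), (2,0,[712,683]), (8,0,[485,715,629,684]),
    (10,0,[545,715,575]), (9,0,[546,715,566]), (12,0,[406,715,573]), (2,0,[712,723]), (16,0,[552,715,564]),
    (17,0,[410,715,571,726]), (18,0,[445,715,637]), (2,0,[716,709]), (11,0,[433,685,633]),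
    (8,0,[465,705,618,734]), (21,0,[76,693,462,737]), (20,0,[428,693,93]), (2,0,[739,741]),
    (7,0,[436,711,622,720]), (2,0,[729,727]), (2,0,[744,719]), (21,0,[82,703,482,717]), (2,0,[751,716]),
    (2,0,[751,733]), (19,0,[440,707,562]), (18,0,[445,707,560]), (20,0,[400,707,648]), (15,0,[22,755,605]),
    (17,0,[311,755,602,762]), (2,0,[764,742]), (19,0,[440,712,409]), (18,0,[445,712,413]),
    (21,0,[68,712,416,745]), (20,0,[400,712,71]), (2,0,[773,775]), (2,0,[773,744]), (7,0,[289,753,485]),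
    (2,0,[777,781]), (2,0,[767,739]), (2,0,[773,749]), (2,0,[773,747]), (2,0,[783,725]),
    (10,0,[269,787,579,790]), (2,0,[793,787]), (2,0,[793,773,721]), (12,0,[224,795,576,796]),
    (2,0,[799,793,779]), (2,0,[799,793,789]), (2,0,[799,793,773]), (18,0,[11,803,634]), (2,0,[770,731]),
    (12,0,[448,809,639,806]), (16,0,[121,809,641,806]), (2,0,[770,759]), (20,0,[0,785,75,766]),
    (2,0,[817,801]), (2,0,[817,805]), (18,0,[7,819,450,811]), (2,0,[823,812]), (2,0,[768,757]),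
    (3,0,[358,827,504]), (13,0,[119,815,508,824]), (2,0,[830,828]), (2,0,[821,761]), (6,0,[198,835,651]),
    (2,0,[833,829]), (19,0,[5,835,189,838]), (18,0,[7,835,647,836]), (2,0,[842,840]), (19,0,[4,844])]

def c0T : List (List ℕ × List ℕ) :=
    [([17],[847])]

theorem c0C : cert [[17,1,18,20]] [1,2,3,4,5,6,7,8,9,10,11,12,13,14,15,16] c0W c0F c0S c0T = true := by decide +kernel

def c1W : List (List ℕ) :=
    [[], [1,2], [2,1], [3,4], [4,3], [5,6], [6,5], [7,8], [8,7], [9,9], [10,10], [11,12], [12,11], [13,14],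
    [14,13], [15,15], [16,16], [17,18], [18,17], [19,20], [20,19], [2,2,2], [6,6,6], [4,4,10], [4,8,15],
    [4,15,8], [8,8,10], [12,12,12], [14,14,14], [9,16,10], [2,6,1,5], [2,4,11,3], [2,8,1,7], [2,12,2,3],
    [2,12,3,12], [2,14,1,13], [2,3,11,4], [2,9,2,9], [2,16,2,16], [2,15,11,15], [2,10,1,10], [6,4,5,3],
    [6,8,13,7], [6,12,5,11], [6,14,6,7], [6,14,7,14], [6,7,13,8], [6,9,6,9], [6,16,6,16], [6,15,13,15],
    [6,10,5,10], [4,4,7,7], [4,4,9,16], [4,4,16,9], [4,14,3,13], [4,7,15,10], [4,9,3,16], [4,16,3,9],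
    [4,15,3,15], [4,15,7,10], [4,15,10,7], [8,8,9,16], [8,8,16,9], [8,12,7,11], [8,9,7,16], [12,14,11,13],
    [12,9,12,9], [12,16,12,16], [12,10,11,10], [14,9,14,9], [14,16,14,16], [14,10,13,10], [9,16,9,16],
    [9,15,9,15], [16,15,16,15], [17,17,17], [17,10,18,9], [17,9,18,16], [17,16,18,10], [17,15,18,15],
    [3,17,3,17], [17,1,5,18,20], [1,19,2,20], [5,19,6,20], [19,19,19], [9,19,9,20], [10,19,10,19]]

def c1F : Tr :=
    (.node (.node (.node (.node (.node (.node (.node (.node (.node (.node .leaf 152 5 67 .leaf) 10 2 18 (.node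
    .leaf 42 0 0 .leaf)) 55 13 128 (.node (.node .leaf 91 0 109 .leaf) 72 2 47 .leaf)) 15 13 64 (.node (.node
    (.node .leaf 169 6 139 .leaf) 38 12 15 .leaf) 0 6 0 (.node (.node .leaf 134 0 20 .leaf) 87 6 103 .leaf)))
    4 11 32 (.node (.node (.node (.node .leaf 171 13 137 .leaf) 27 2 23 .leaf) 70 15 160 (.node (.node .leaf
    79 0 132 .leaf) 32 15 84 .leaf)) 29 18 96 (.node (.node (.node .leaf 159 20 178 .leaf) 57 9 55 .leaf) 8 10
    8 (.node (.node .leaf 98 0 94 .leaf) 133 10 129 .leaf)))) 2 5 16 (.node (.node (.node (.node (.node .leaf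
    70 15 71 .leaf) 17 15 21 (.node .leaf 113 0 0 .leaf)) 58 14 144 (.node (.node .leaf 77 8 134 .leaf) 77 16
    78 .leaf)) 22 13 80 (.node (.node (.node .leaf 173 15 92 .leaf) 43 9 46 .leaf) 1 3 2 (.node (.node .leaf
    56 0 7 .leaf) 113 20 107 .leaf))) 9 18 48 (.node (.node (.node (.node .leaf 179 5 142 .leaf) 33 2 33
    .leaf) 76 15 176 (.node (.node .leaf 55 0 56 .leaf) 78 2 96 .leaf)) 41 20 112 (.node (.node (.node .leaf
    185 7 78 .leaf) 20 2 64 .leaf) 15 3 10 (.node (.node .leaf 41 0 36 .leaf) 142 9 131 .leaf))))) 1 6 8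
    (.node (.node (.node (.node (.node (.node .leaf 160 4 158 .leaf) 20 10 20 (.node .leaf 34 0 0 .leaf)) 57 4
    136 (.node (.node .leaf 170 0 56 .leaf) 70 16 74 .leaf)) 19 13 72 (.node (.node (.node .leaf 141 14 77
    .leaf) 43 6 21 .leaf) 1 9 1 (.node (.node .leaf 132 0 21 .leaf) 106 2 46 .leaf))) 5 18 40 (.node (.node
    (.node (.node .leaf 175 7 139 .leaf) 29 9 28 .leaf) 75 6 168 (.node (.node .leaf 95 2 56 .leaf) 90 16 88
    .leaf)) 34 18 104 (.node (.node (.node .leaf 184 2 101 .leaf) 60 14 31 .leaf) 8 15 12 (.node (.node .leaf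
    186 0 45 .leaf) 136 16 124 .leaf)))) 3 7 24 (.node (.node (.node (.node (.node .leaf 122 12 167 .leaf) 24
    15 23 (.node .leaf 70 0 0 .leaf)) 67 1 152 (.node (.node .leaf 115 7 115 .leaf) 35 6 81 .leaf)) 26 18 88
    (.node (.node (.node .leaf 115 3 133 .leaf) 51 9 47 .leaf) 4 5 4 (.node (.node .leaf 7 0 11 .leaf) 76 6
    119 .leaf))) 11 20 56 (.node (.node (.node (.node .leaf 183 15 177 .leaf) 34 9 33 .leaf) 78 3 184 (.node
    (.node .leaf 143 0 43 .leaf) 101 9 95 .leaf)) 46 20 120 (.node (.node (.node .leaf 130 14 188 .leaf) 68 5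
    19 .leaf) 17 4 8 (.node (.node .leaf 165 0 117 .leaf) 146 2 78 .leaf)))))) 0 20 4 (.node (.node (.node
    (.node (.node (.node (.node .leaf 111 12 155 .leaf) 20 7 7 (.node .leaf 93 0 86 .leaf)) 56 13 132 (.node
    (.node .leaf 139 0 115 .leaf) 73 9 70 .leaf)) 17 12 68 (.node (.node (.node .leaf 76 7 169 .leaf) 41 1 12
    .leaf) 0 14 0 (.node (.node .leaf 128 0 21 .leaf) 105 6 85 .leaf))) 4 17 36 (.node (.node (.node (.node
    .leaf 172 8 77 .leaf) 24 6 28 .leaf) 71 17 164 (.node (.node .leaf 120 0 119 .leaf) 68 20 88 .leaf)) 32 18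
    100 (.node (.node (.node .leaf 91 2 169 .leaf) 55 16 58 .leaf) 11 15 7 (.node (.node .leaf 108 0 28 .leaf)
    135 9 124 .leaf)))) 2 13 20 (.node (.node (.node (.node (.node .leaf 84 18 159 .leaf) 23 10 22 (.node
    .leaf 5 0 0 .leaf)) 63 2 148 (.node (.node .leaf 116 0 175 .leaf) 80 15 29 .leaf)) 24 12 84 (.node (.node
    (.node .leaf 79 14 130 .leaf) 30 17 47 .leaf) 3 2 3 (.node (.node .leaf 78 0 8 .leaf) 55 6 115 .leaf))) 10
    19 52 (.node (.node (.node (.node .leaf 182 13 145 .leaf) 29 16 33 .leaf) 77 13 180 (.node (.node .leaf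
    140 0 76 .leaf) 43 1 99 .leaf)) 43 20 116 (.node (.node (.node .leaf 166 19 186 .leaf) 66 4 31 .leaf) 11 7
    16 (.node (.node .leaf 4 0 0 .leaf) 129 16 143 .leaf))))) 1 14 12 (.node (.node (.node (.node (.node
    (.node .leaf 164 1 156 .leaf) 21 7 8 (.node .leaf 186 0 0 .leaf)) 57 14 140 (.node (.node .leaf 110 0 95
    .leaf) 77 5 58 .leaf)) 20 19 76 (.node (.node (.node .leaf 119 4 143 .leaf) 46 7 43 .leaf) 2 10 2 (.node
    (.node .leaf 79 0 17 .leaf) 109 10 110 .leaf))) 7 18 44 (.node (.node (.node (.node .leaf 176 13 141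
    .leaf) 5 5 31 .leaf) 76 8 172 (.node (.node .leaf 119 18 103 .leaf) 93 19 94 .leaf)) 39 18 108 (.node
    (.node (.node .leaf 105 17 129 .leaf) 61 17 24 .leaf) 5 7 14 (.node (.node .leaf 2 0 1 .leaf) 140 9 128
    .leaf)))) 3 13 28 (.node (.node (.node (.node (.node .leaf 170 4 77 .leaf) 25 10 24 (.node .leaf 0 17 161
    .leaf)) 69 6 156 (.node (.node .leaf 115 13 140 .leaf) 82 3 29 .leaf)) 28 18 92 (.node (.node (.node .leaf
    82 18 173 .leaf) 53 9 50 .leaf) 5 10 5 (.node (.node .leaf 95 0 31 .leaf) 124 4 56 .leaf))) 14 6 60 (.node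
    (.node (.node (.node .leaf 182 0 76 .leaf) 35 16 30 .leaf) 79 13 188 (.node (.node .leaf 57 0 17 .leaf) 65
    20 102 .leaf)) 55 4 124 (.node (.node (.node .leaf 169 11 189 .leaf) 69 15 63 .leaf) 8 4 17 (.node (.node
    .leaf 33 0 2 .leaf) 149 6 111 .leaf))))))) 0 18 2 (.node (.node (.node (.node (.node (.node (.node (.node
    .leaf 153 8 122 .leaf) 19 9 18 (.node .leaf 178 0 0 .leaf)) 55 15 130 (.node (.node .leaf 76 0 124 .leaf)
    35 20 30 .leaf)) 16 11 66 (.node (.node (.node .leaf 169 13 137 .leaf) 39 2 11 .leaf) 0 10 0 (.node (.node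
    .leaf 56 0 20 .leaf) 104 9 96 .leaf))) 4 14 34 (.node (.node (.node (.node .leaf 171 15 170 .leaf) 27 9 26
    .leaf) 71 13 162 (.node (.node .leaf 132 0 78 .leaf) 86 17 65 .leaf)) 29 20 98 (.node (.node (.node .leaf
    95 3 173 .leaf) 58 9 56 .leaf) 9 10 9 (.node (.node .leaf 178 0 42 .leaf) 134 7 123 .leaf)))) 2 11 18
    (.node (.node (.node (.node (.node .leaf 159 15 100 .leaf) 4 4 22 (.node .leaf 166 0 0 .leaf)) 62 19 146
    (.node (.node .leaf 115 0 181 .leaf) 56 5 79 .leaf)) 23 14 82 (.node (.node (.node .leaf 128 6 130 .leaf)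
    47 15 31 .leaf) 1 7 2 (.node (.node .leaf 79 0 8 .leaf) 108 20 114 .leaf))) 9 20 50 (.node (.node (.node
    (.node .leaf 140 5 180 .leaf) 33 10 28 .leaf) 77 11 178 (.node (.node .leaf 76 0 140 .leaf) 98 9 94
    .leaf)) 43 18 114 (.node (.node (.node .leaf 186 3 101 .leaf) 65 9 61 .leaf) 16 19 16 (.node (.node .leaf
    102 0 4 .leaf) 143 10 139 .leaf))))) 1 12 10 (.node (.node (.node (.node (.node (.node .leaf 161 11 149
    .leaf) 21 14 20 (.node .leaf 28 0 0 .leaf)) 57 8 138 (.node (.node .leaf 56 0 130 .leaf) 75 3 54 .leaf))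
    19 20 74 (.node (.node (.node .leaf 143 6 136 .leaf) 11 6 43 .leaf) 2 9 2 (.node (.node .leaf 21 0 17
    .leaf) 109 2 55 .leaf))) 7 11 42 (.node (.node (.node (.node .leaf 174 6 144 .leaf) 30 8 22 .leaf) 76 4
    170 (.node (.node .leaf 101 19 41 .leaf) 61 20 92 .leaf)) 37 13 106 (.node (.node (.node .leaf 133 6 184
    .leaf) 61 8 31 .leaf) 14 19 14 (.node (.node .leaf 43 0 1 .leaf) 138 15 135 .leaf)))) 3 11 26 (.node
    (.node (.node (.node (.node .leaf 77 4 169 .leaf) 25 15 22 (.node .leaf 107 0 0 .leaf)) 67 14 154 (.node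
    (.node .leaf 143 0 116 .leaf) 81 20 80 .leaf)) 27 18 90 (.node (.node (.node .leaf 123 14 115 .leaf) 52 9
    49 .leaf) 3 10 4 (.node (.node .leaf 101 0 36 .leaf) 120 9 116 .leaf))) 12 20 58 (.node (.node (.node
    (.node .leaf 172 0 170 .leaf) 28 6 34 .leaf) 78 12 186 (.node (.node .leaf 120 0 46 .leaf) 102 9 92
    .leaf)) 54 2 122 (.node (.node (.node .leaf 189 15 95 .leaf) 68 9 66 .leaf) 17 7 12 (.node (.node .leaf 45
    0 0 .leaf) 148 6 63 .leaf)))))) 1 2 6 (.node (.node (.node (.node (.node (.node (.node .leaf 71 4 157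
    .leaf) 20 15 16 (.node .leaf 93 0 85 .leaf)) 56 15 134 (.node (.node .leaf 76 0 126 .leaf) 74 9 71 .leaf))
    18 19 70 (.node (.node (.node .leaf 76 15 77 .leaf) 42 6 9 .leaf) 0 16 0 (.node (.node .leaf 7 0 20 .leaf)
    105 10 98 .leaf))) 5 12 38 (.node (.node (.node (.node .leaf 172 6 143 .leaf) 29 6 25 .leaf) 74 14 166
    (.node (.node .leaf 58 4 78 .leaf) 89 2 81 .leaf)) 33 18 102 (.node (.node (.node .leaf 95 2 170 .leaf) 39
    8 59 .leaf) 12 9 11 (.node (.node .leaf 87 0 86 .leaf) 136 10 135 .leaf)))) 3 3 22 (.node (.node (.node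
    (.node (.node .leaf 166 9 162 .leaf) 24 2 24 (.node .leaf 0 20 121 .leaf)) 64 19 150 (.node (.node .leaf
    145 0 57 .leaf) 81 15 34 .leaf)) 25 17 86 (.node (.node (.node .leaf 123 6 133 .leaf) 49 10 50 .leaf) 3 9
    3 (.node (.node .leaf 21 0 8 .leaf) 115 10 116 .leaf))) 11 18 54 (.node (.node (.node (.node .leaf 182 7
    169 .leaf) 34 14 33 .leaf) 77 15 182 (.node (.node .leaf 43 0 116 .leaf) 100 9 88 .leaf)) 45 20 118 (.node
    (.node (.node .leaf 165 20 187 .leaf) 67 3 44 .leaf) 11 8 16 (.node (.node .leaf 101 0 0 .leaf) 144 10 140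
    .leaf))))) 2 1 14 (.node (.node (.node (.node (.node (.node .leaf 160 0 71 .leaf) 21 10 21 (.node .leaf
    159 0 0 .leaf)) 58 12 142 (.node (.node .leaf 77 4 55 .leaf) 78 6 55 .leaf)) 21 19 78 (.node (.node (.node
    .leaf 178 15 104 .leaf) 20 6 46 .leaf) 2 20 2 (.node (.node .leaf 43 0 46 .leaf) 112 16 109 .leaf))) 8 13
    46 (.node (.node (.node (.node .leaf 167 5 177 .leaf) 32 10 26 .leaf) 76 13 174 (.node (.node .leaf 175 0
    115 .leaf) 96 16 92 .leaf)) 39 20 110 (.node (.node (.node .leaf 185 4 79 .leaf) 63 3 48 .leaf) 15 2 14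
    (.node (.node .leaf 65 0 36 .leaf) 141 9 130 .leaf)))) 3 15 30 (.node (.node (.node (.node (.node .leaf
    170 5 136 .leaf) 25 16 25 (.node .leaf 0 18 0 .leaf)) 70 7 158 (.node (.node .leaf 128 0 78 .leaf) 83 15
    27 .leaf)) 28 20 94 (.node (.node (.node .leaf 132 15 132 .leaf) 54 15 44 .leaf) 8 6 7 (.node (.node .leaf
    93 0 87 .leaf) 125 15 124 .leaf))) 14 14 62 (.node (.node (.node (.node .leaf 170 6 143 .leaf) 37 6 31
    .leaf) 0 2 0 (.node (.node .leaf 77 0 7 .leaf) 103 6 97 .leaf)) 55 8 126 (.node (.node (.node .leaf 189 0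
    127 .leaf) 71 1 53 .leaf) 18 15 14 (.node (.node .leaf 0 0 3 .leaf) 151 1 77 .leaf)))))))) 0 17 1 (.node
    (.node (.node (.node (.node (.node (.node (.node (.node .leaf 153 6 67 .leaf) 19 2 9 (.node .leaf 95 0 0
    .leaf)) 55 14 129 (.node (.node .leaf 77 0 123 .leaf) 51 6 72 .leaf)) 15 14 65 (.node (.node (.node .leaf
    169 7 77 .leaf) 9 2 38 .leaf) 0 9 0 (.node (.node .leaf 78 0 21 .leaf) 98 16 103 .leaf))) 4 13 33 (.node
    (.node (.node (.node .leaf 171 7 77 .leaf) 27 5 27 .leaf) 70 17 161 (.node (.node .leaf 78 0 79 .leaf) 27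
    7 84 .leaf)) 29 19 97 (.node (.node (.node .leaf 173 20 162 .leaf) 57 16 56 .leaf) 9 15 5 (.node (.node
    .leaf 34 0 33 .leaf) 134 3 125 .leaf)))) 2 6 17 (.node (.node (.node (.node (.node .leaf 162 15 90 .leaf)
    22 6 22 (.node .leaf 166 0 4 .leaf)) 58 15 145 (.node (.node .leaf 136 0 79 .leaf) 79 9 77 .leaf)) 23 13
    81 (.node (.node (.node .leaf 150 15 179 .leaf) 46 15 46 .leaf) 1 4 2 (.node (.node .leaf 8 0 12 .leaf)
    114 20 86 .leaf))) 9 19 49 (.node (.node (.node (.node .leaf 180 10 174 .leaf) 33 7 29 .leaf) 76 17 177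
    (.node (.node .leaf 105 0 103 .leaf) 97 9 93 .leaf)) 42 18 113 (.node (.node (.node .leaf 185 9 169 .leaf)
    65 1 21 .leaf) 15 9 14 (.node (.node .leaf 36 0 4 .leaf) 142 16 127 .leaf))))) 1 11 9 (.node (.node (.node
    (.node (.node (.node .leaf 155 5 161 .leaf) 12 6 20 (.node .leaf 24 0 0 .leaf)) 57 7 137 (.node (.node
    .leaf 137 0 128 .leaf) 75 15 67 .leaf)) 19 19 73 (.node (.node (.node .leaf 145 6 144 .leaf) 43 10 43
    .leaf) 1 15 1 (.node (.node .leaf 20 0 7 .leaf) 61 6 106 .leaf))) 6 14 41 (.node (.node (.node (.node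
    .leaf 143 7 175 .leaf) 30 4 24 .leaf) 76 3 169 (.node (.node .leaf 101 1 58 .leaf) 90 6 70 .leaf)) 34 19
    105 (.node (.node (.node .leaf 184 16 169 .leaf) 61 2 20 .leaf) 14 7 5 (.node (.node .leaf 61 0 31 .leaf)
    137 16 125 .leaf)))) 3 8 25 (.node (.node (.node (.node (.node .leaf 168 15 154 .leaf) 24 16 24 (.node
    .leaf 107 0 121 .leaf)) 67 2 153 (.node (.node .leaf 116 0 115 .leaf) 28 4 81 .leaf)) 27 13 89 (.node
    (.node (.node .leaf 124 14 116 .leaf) 35 17 51 .leaf) 4 9 4 (.node (.node .leaf 58 0 8 .leaf) 120 5 77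
    .leaf))) 12 19 57 (.node (.node (.node (.node .leaf 176 0 77 .leaf) 34 10 29 .leaf) 78 4 185 (.node (.node
    .leaf 119 0 46 .leaf) 101 16 91 .leaf)) 47 20 121 (.node (.node (.node .leaf 126 6 188 .leaf) 68 7 51
    .leaf) 17 14 7 (.node (.node .leaf 47 0 42 .leaf) 147 5 63 .leaf)))))) 1 1 5 (.node (.node (.node (.node
    (.node (.node (.node .leaf 156 15 149 .leaf) 20 8 7 (.node .leaf 85 0 86 .leaf)) 56 14 133 (.node (.node
    .leaf 77 0 125 .leaf) 71 16 73 .leaf)) 18 17 69 (.node (.node (.node .leaf 145 0 174 .leaf) 42 15 39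
    .leaf) 0 15 0 (.node (.node .leaf 140 0 7 .leaf) 105 9 103 .leaf))) 5 6 37 (.node (.node (.node (.node
    .leaf 172 13 138 .leaf) 29 14 28 .leaf) 73 14 165 (.node (.node .leaf 136 0 78 .leaf) 88 5 74 .leaf)) 33
    17 101 (.node (.node (.node .leaf 150 12 95 .leaf) 14 5 59 .leaf) 11 10 11 (.node (.node .leaf 86 0 93
    .leaf) 136 4 58 .leaf)))) 2 14 21 (.node (.node (.node (.node (.node .leaf 165 9 159 .leaf) 23 5 23 (.node
    .leaf 0 0 118 .leaf)) 63 14 149 (.node (.node .leaf 145 0 185 .leaf) 30 6 80 .leaf)) 24 19 85 (.node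
    (.node (.node .leaf 78 14 134 .leaf) 48 15 40 .leaf) 3 6 3 (.node (.node .leaf 187 0 45 .leaf) 115 19 116
    .leaf))) 10 20 53 (.node (.node (.node (.node .leaf 182 10 176 .leaf) 33 6 29 .leaf) 77 14 181 (.node
    (.node .leaf 144 0 76 .leaf) 39 6 99 .leaf)) 45 19 117 (.node (.node (.node .leaf 187 9 178 .leaf) 66 17
    23 .leaf) 8 14 16 (.node (.node .leaf 96 0 0 .leaf) 144 14 143 .leaf))))) 1 19 13 (.node (.node (.node
    (.node (.node (.node .leaf 164 15 161 .leaf) 21 9 20 (.node .leaf 159 0 3 .leaf)) 57 15 141 (.node (.node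
    .leaf 112 0 101 .leaf) 76 10 77 .leaf)) 20 20 77 (.node (.node (.node .leaf 120 14 135 .leaf) 46 4 43
    .leaf) 2 15 2 (.node (.node .leaf 17 0 8 .leaf) 112 1 58 .leaf))) 8 12 45 (.node (.node (.node (.node
    .leaf 176 3 172 .leaf) 31 2 7 .leaf) 76 11 173 (.node (.node .leaf 57 0 58 .leaf) 95 10 91 .leaf)) 39 19
    109 (.node (.node (.node .leaf 98 17 143 .leaf) 21 1 62 .leaf) 9 4 14 (.node (.node .leaf 46 0 1 .leaf)
    140 16 132 .leaf)))) 3 14 29 (.node (.node (.node (.node (.node .leaf 170 10 169 .leaf) 25 9 24 (.node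
    .leaf 0 0 161 .leaf)) 70 3 157 (.node (.node .leaf 134 0 55 .leaf) 28 15 82 .leaf)) 28 19 93 (.node (.node
    (.node .leaf 128 15 128 .leaf) 49 16 53 .leaf) 7 10 7 (.node (.node .leaf 131 0 42 .leaf) 124 10 123
    .leaf))) 14 13 61 (.node (.node (.node (.node .leaf 141 0 180 .leaf) 36 1 8 .leaf) 80 17 189 (.node (.node
    .leaf 98 0 114 .leaf) 79 2 102 .leaf)) 55 7 125 (.node (.node (.node .leaf 142 18 81 .leaf) 69 3 40 .leaf)
    18 4 5 (.node (.node .leaf 33 0 1 .leaf) 76 2 150 .leaf))))))) 0 19 3 (.node (.node (.node (.node (.node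
    (.node (.node (.node .leaf 154 6 122 .leaf) 19 10 19 (.node .leaf 0 0 1 .leaf)) 56 11 131 (.node (.node
    .leaf 135 0 78 .leaf) 73 2 49 .leaf)) 16 17 67 (.node (.node (.node .leaf 169 15 170 .leaf) 39 10 39
    .leaf) 0 12 0 (.node (.node .leaf 20 0 16 .leaf) 104 2 76 .leaf))) 4 15 35 (.node (.node (.node (.node
    .leaf 172 15 169 .leaf) 28 2 28 .leaf) 71 15 163 (.node (.node .leaf 119 0 133 .leaf) 86 9 86 .leaf)) 31
    14 99 (.node (.node (.node .leaf 151 12 91 .leaf) 57 10 58 .leaf) 10 9 9 (.node (.node .leaf 114 0 94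
    .leaf) 135 16 123 .leaf)))) 2 12 19 (.node (.node (.node (.node (.node .leaf 83 18 162 .leaf) 23 4 4
    (.node .leaf 47 0 0 .leaf)) 63 1 147 (.node (.node .leaf 129 0 119 .leaf) 78 10 79 .leaf)) 24 11 83 (.node
    (.node (.node .leaf 132 6 134 .leaf) 47 12 11 .leaf) 2 7 1 (.node (.node .leaf 102 0 36 .leaf) 115 6 78
    .leaf))) 10 14 51 (.node (.node (.node (.node .leaf 139 7 181 .leaf) 25 6 33 .leaf) 77 12 179 (.node
    (.node .leaf 77 0 76 .leaf) 99 14 60 .leaf)) 43 19 115 (.node (.node (.node .leaf 186 9 173 .leaf) 25 18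
    65 .leaf) 7 3 16 (.node (.node .leaf 65 0 4 .leaf) 133 9 143 .leaf))))) 1 13 11 (.node (.node (.node
    (.node (.node (.node .leaf 163 10 160 .leaf) 21 6 11 (.node .leaf 61 0 0 .leaf)) 57 13 139 (.node (.node
    .leaf 184 0 58 .leaf) 57 6 76 .leaf)) 20 17 75 (.node (.node (.node .leaf 143 4 120 .leaf) 45 10 45 .leaf)
    2 16 2 (.node (.node .leaf 188 0 46 .leaf) 56 1 110 .leaf))) 7 14 43 (.node (.node (.node (.node .leaf 176
    4 171 .leaf) 30 7 23 .leaf) 76 7 171 (.node (.node .leaf 119 13 56 .leaf) 77 1 92 .leaf)) 38 18 107 (.node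
    (.node (.node .leaf 133 18 103 .leaf) 61 4 47 .leaf) 9 3 14 (.node (.node .leaf 2 0 43 .leaf) 140 14 139
    .leaf)))) 3 12 27 (.node (.node (.node (.node (.node .leaf 135 6 169 .leaf) 25 8 4 (.node .leaf 38 0 0
    .leaf)) 69 1 155 (.node (.node .leaf 143 0 115 .leaf) 82 6 30 .leaf)) 28 17 91 (.node (.node (.node .leaf
    81 18 178 .leaf) 52 16 50 .leaf) 4 16 3 (.node (.node .leaf 142 0 45 .leaf) 120 16 115 .leaf))) 13 17 59
    (.node (.node (.node (.node .leaf 171 0 169 .leaf) 35 8 23 .leaf) 79 12 187 (.node (.node .leaf 76 0 7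
    .leaf) 101 17 102 .leaf)) 55 3 123 (.node (.node (.node .leaf 179 2 189 .leaf) 22 18 68 .leaf) 17 9 16
    (.node (.node .leaf 31 0 0 .leaf) 148 8 111 .leaf)))))) 1 5 7 (.node (.node (.node (.node (.node (.node
    (.node .leaf 158 7 71 .leaf) 20 4 11 (.node .leaf 28 0 24 .leaf)) 57 3 135 (.node (.node .leaf 185 0 57
    .leaf) 73 10 74 .leaf)) 18 20 71 (.node (.node (.node .leaf 141 6 140 .leaf) 43 14 17 .leaf) 1 10 1 (.node
    (.node .leaf 16 0 7 .leaf) 93 6 105 .leaf))) 5 13 39 (.node (.node (.node (.node .leaf 175 14 174 .leaf)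
    29 7 28 .leaf) 75 1 167 (.node (.node .leaf 133 0 119 .leaf) 84 6 89 .leaf)) 33 19 103 (.node (.node
    (.node .leaf 101 12 146 .leaf) 60 6 59 .leaf) 12 10 12 (.node (.node .leaf 96 0 36 .leaf) 136 9 123
    .leaf)))) 3 4 23 (.node (.node (.node (.node (.node .leaf 166 10 165 .leaf) 24 7 4 (.node .leaf 0 0 121
    .leaf)) 64 20 151 (.node (.node .leaf 138 0 79 .leaf) 81 10 80 .leaf)) 25 19 87 (.node (.node (.node .leaf
    124 6 129 .leaf) 51 11 12 .leaf) 4 1 4 (.node (.node .leaf 120 0 43 .leaf) 117 10 118 .leaf))) 11 19 55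
    (.node (.node (.node (.node .leaf 183 1 168 .leaf) 34 6 24 .leaf) 77 17 183 (.node (.node .leaf 115 0 43
    .leaf) 100 6 71 .leaf)) 46 19 119 (.node (.node (.node .leaf 188 15 115 .leaf) 67 8 54 .leaf) 17 6 16
    (.node (.node .leaf 41 0 0 .leaf) 145 7 135 .leaf))))) 2 2 15 (.node (.node (.node (.node (.node (.node
    .leaf 163 0 70 .leaf) 8 7 21 (.node .leaf 108 0 0 .leaf)) 58 13 143 (.node (.node .leaf 133 0 120 .leaf)
    78 9 76 .leaf)) 21 20 79 (.node (.node (.node .leaf 79 15 78 .leaf) 43 4 46 .leaf) 1 17 2 (.node (.node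
    .leaf 132 0 8 .leaf) 113 15 108 .leaf))) 9 13 47 (.node (.node (.node (.node .leaf 177 11 154 .leaf) 23 2
    32 .leaf) 76 14 175 (.node (.node .leaf 77 0 140 .leaf) 95 17 96 .leaf)) 40 2 111 (.node (.node (.node
    .leaf 185 8 79 .leaf) 63 8 40 .leaf) 15 12 5 (.node (.node .leaf 106 0 5 .leaf) 141 16 134 .leaf)))) 3 17
    31 (.node (.node (.node (.node (.node .leaf 171 6 139 .leaf) 22 2 26 .leaf) 70 13 159 (.node (.node .leaf
    188 0 119 .leaf) 30 2 83 .leaf)) 29 17 95 (.node (.node (.node .leaf 91 3 178 .leaf) 55 10 56 .leaf) 8 9 7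
    (.node (.node .leaf 85 0 97 .leaf) 126 8 56 .leaf))) 14 17 63 (.node (.node (.node (.node .leaf 170 13 138
    .leaf) 8 1 37 .leaf) 0 4 0 (.node (.node .leaf 55 0 20 .leaf) 103 10 94 .leaf)) 55 11 127 (.node (.node
    (.node .leaf 169 0 55 .leaf) 70 10 71 .leaf) 18 10 18 (.node (.node .leaf 142 0 0 .leaf) 151 16 146
    .leaf)))))))))

def c1S : List (ℕ × ℕ × List ℕ) :=
    [(0,0,[]), (0,0,[]), (0,0,[]), (0,0,[]), (0,0,[]), (0,0,[]), (0,0,[]), (0,0,[]), (0,0,[]), (0,0,[]),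
    (0,0,[]), (0,0,[]), (0,0,[]), (0,0,[]), (0,0,[]), (0,0,[]), (0,0,[]), (0,0,[]), (0,0,[]), (0,0,[]),
    (0,0,[]), (0,0,[]), (0,0,[]), (0,0,[]), (0,0,[]), (0,0,[]), (0,0,[]), (0,0,[]), (0,0,[]), (0,0,[]),
    (0,0,[]), (0,0,[]), (0,0,[]), (0,0,[]), (0,0,[]), (0,0,[]), (0,0,[]), (0,0,[]), (0,0,[]), (0,0,[]),
    (0,0,[]), (0,0,[]), (0,0,[]), (0,0,[]), (0,0,[]), (0,0,[]), (0,0,[]), (0,0,[]), (0,0,[]), (0,0,[]),
    (0,0,[]), (0,0,[]), (0,0,[]), (0,0,[]), (0,0,[]), (0,0,[]), (0,0,[]), (0,0,[]), (0,0,[]), (0,0,[]),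
    (0,0,[]), (0,0,[]), (0,0,[]), (0,0,[]), (0,0,[]), (0,0,[]), (0,0,[]), (0,0,[]), (0,0,[]), (0,0,[]),
    (0,0,[]), (0,0,[]), (0,0,[]), (0,0,[]), (0,0,[]), (0,0,[]), (0,0,[]), (0,0,[]), (0,0,[]), (0,0,[]),
    (0,0,[]), (0,0,[]), (0,0,[]), (0,0,[]), (0,0,[]), (0,0,[]), (0,0,[]), (0,0,[]), (0,0,[]), (0,0,[]),
    (0,0,[]), (0,0,[]), (0,0,[]), (0,0,[]), (0,0,[]), (0,0,[]), (0,0,[]), (0,0,[]), (0,0,[]), (0,0,[]),
    (0,0,[]), (0,0,[]), (0,0,[]), (0,0,[]), (0,0,[]), (0,0,[]), (0,0,[]), (0,0,[]), (0,0,[]), (0,0,[]),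
    (0,0,[]), (0,0,[]), (0,0,[]), (0,0,[]), (0,0,[]), (0,0,[]), (0,0,[]), (0,0,[]), (0,0,[]), (0,0,[]),
    (0,0,[]), (0,0,[]), (0,0,[]), (0,0,[]), (0,0,[]), (0,0,[]), (0,0,[]), (0,0,[]), (0,0,[]), (0,0,[]),
    (0,0,[]), (0,0,[]), (0,0,[]), (0,0,[]), (0,0,[]), (0,0,[]), (0,0,[]), (0,0,[]), (0,0,[]), (0,0,[]),
    (0,0,[]), (0,0,[]), (0,0,[]), (0,0,[]), (0,0,[]), (0,0,[]), (0,0,[]), (0,0,[]), (0,0,[]), (0,0,[]),
    (0,0,[]), (0,0,[]), (0,0,[]), (0,0,[]), (0,0,[]), (0,0,[]), (0,0,[]), (0,0,[]), (0,0,[]), (0,0,[]),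
    (0,0,[]), (0,0,[]), (0,0,[]), (0,0,[]), (0,0,[]), (0,0,[]), (0,0,[]), (0,0,[]), (0,0,[]), (0,0,[]),
    (0,0,[]), (0,0,[]), (0,0,[]), (0,0,[]), (0,0,[]), (0,0,[]), (0,0,[]), (0,0,[]), (0,0,[]), (0,0,[]),
    (0,0,[]), (0,0,[]), (0,0,[]), (0,0,[]), (0,0,[]), (0,0,[]), (0,0,[]), (0,0,[]), (0,0,[]), (1,0,[]),
    (1,0,[]), (1,0,[]), (1,0,[]), (1,0,[]), (1,0,[]), (1,0,[]), (1,0,[]), (1,0,[]), (78,1,[1,384,0]),
    (79,1,[1,394,0]), (81,1,[1,392,0]), (78,3,[3,386,2]), (79,3,[3,384,2]), (80,3,[3,394,2]),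
    (81,3,[3,392,2]), (83,4,[3,379,383,2]), (77,2,[3,0]), (82,0,[3,381,0]), (54,1,[403,405,415]),
    (57,1,[408,407,415]), (62,3,[416,408,407]), (84,2,[5,379,4]), (85,2,[5,383,4]), (87,2,[5,384,4]),
    (84,0,[7,378,6]), (85,0,[7,382,6]), (87,0,[7,384,6]), (88,0,[7,387,4]), (31,1,[434,433]),
    (42,3,[9,396,8]), (52,3,[13,396,12]), (24,1,[13,14]), (49,1,[13,398,14]), (52,1,[15,396,14]),
    (41,3,[9,400,16]), (70,3,[17,396,16]), (68,1,[17,398,18]), (51,3,[13,400,20]), (73,3,[21,396,20]),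
    (71,1,[21,398,22]), (73,1,[23,396,22]), (51,1,[23,401,14]), (34,3,[9,421,26]), (84,1,[27,410,26]),
    (33,3,[27,415,16]), (34,3,[27,419,8]), (38,3,[27,417,16]), (23,1,[27,28]), (35,1,[9,414,28]),
    (38,1,[19,416,28]), (39,1,[27,402,28]), (85,1,[31,410,30]), (43,3,[31,415,12]), (44,3,[31,419,20]),
    (46,1,[31,420,14]), (48,3,[31,420,20]), (24,1,[31,32]), (43,1,[15,414,32]), (46,1,[13,418,32]),
    (48,1,[23,421,32]), (49,1,[31,402,32]), (43,1,[33,417,14]), (38,3,[9,414,34]), (41,3,[27,408,34]),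
    (70,3,[35,406,34]), (35,0,[35,28,478]), (35,2,[468,27,36]), (68,1,[35,402,36]), (70,1,[37,406,36]),
    (44,3,[13,421,38]), (48,3,[13,418,38]), (51,3,[31,408,38]), (56,0,[21,414,38]), (73,3,[39,406,38]),
    (46,0,[39,32,498]), (30,1,[39,40]), (46,2,[486,31,40]), (47,2,[488,31,40]), (71,1,[39,402,40]),
    (73,1,[41,406,40]), (48,1,[41,419,14]), (51,1,[41,409,32]), (43,0,[43,425,42]), (25,0,[43,434]),
    (25,1,[435,44]), (25,2,[43,44]), (43,2,[45,424,44]), (34,0,[47,423,46]), (53,3,[546,43,46]),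
    (57,2,[550,43,46]), (66,3,[47,426,46]), (26,2,[43,48]), (28,1,[435,48]), (28,2,[47,48]),
    (63,2,[560,47,48]), (64,2,[568,47,48]), (35,0,[51,422,42]), (35,2,[45,422,52]), (45,2,[53,424,52]),
    (68,1,[51,426,52]), (37,0,[55,423,54]), (46,0,[55,424,46]), (30,1,[55,56]), (46,2,[49,424,56]),
    (47,2,[55,424,56]), (71,1,[55,426,56]), (26,0,[47,58]), (27,2,[43,58]), (61,2,[550,43,58]),
    (83,2,[61,5,0,8]), (32,0,[13,8,598]), (70,3,[51,434,62]), (35,0,[63,429,549]), (37,0,[65,428,64]),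
    (44,3,[586,564,64]), (73,3,[55,434,64]), (46,0,[65,431,565]), (72,3,[65,436,56]), (48,0,[588,585,609]),
    (30,1,[65,66]), (46,2,[556,431,66]), (71,1,[65,432,66]), (73,1,[57,434,66]), (46,0,[618,616,588]),
    (27,2,[548,68]), (76,2,[59,437,68]), (83,1,[15,1,6,70]), (24,1,[599,72]), (32,2,[73,9,14]),
    (29,1,[476,74]), (35,0,[638,474,473]), (37,0,[21,8,76]), (73,3,[77,438,76]), (37,2,[23,10,80]),
    (41,3,[642,454,82]), (45,0,[17,12,82]), (30,1,[496,84]), (46,2,[534,442,84]), (73,1,[85,440,84]),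
    (46,0,[652,492,491]), (70,1,[89,446,88]), (44,3,[654,541,90]), (56,0,[652,503,90]), (46,0,[91,442,521]),
    (56,0,[91,495,653]), (71,3,[91,444,84]), (61,1,[662,657,668]), (51,3,[599,449,92]), (67,0,[21,16,92]),
    (81,0,[674,61,58]), (81,3,[79,449,94]), (88,0,[99,451,96]), (67,2,[23,18,100]), (71,1,[93,453,100]),
    (79,0,[686,679,631]), (87,2,[97,453,102]), (31,1,[683,691]), (87,0,[99,453,104]), (74,3,[694,693,690]),
    (81,3,[87,455,106]), (88,0,[111,457,108]), (87,2,[109,459,112]), (31,1,[701,703]), (87,0,[111,459,114]),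
    (88,0,[115,461,112]), (74,3,[706,705,702]), (83,2,[117,25,412,26]), (48,3,[713,464,76]), (24,1,[713,118]),
    (46,1,[599,470,118]), (37,0,[39,26,120]), (48,3,[599,470,120]), (56,0,[93,468,120]), (82,1,[593,678,725]),
    (37,2,[123,27,40]), (82,2,[95,468,124]), (26,1,[681,731]), (37,0,[127,29,38]), (37,2,[41,28,128]),
    (71,1,[121,481,128]), (78,2,[738,726,567]), (38,3,[600,484,130]), (82,1,[45,60,743]), (82,2,[87,484,132]),
    (26,1,[698,747]), (45,2,[37,32,134]), (65,2,[684,499,134]), (68,1,[131,501,134]), (78,2,[754,744,550]),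
    (81,1,[125,507,136]), (82,2,[79,505,136]), (84,0,[105,510,140]), (88,0,[141,509,138]),
    (37,0,[93,513,142]), (46,0,[143,751,752]), (83,4,[678,767,769,689]), (84,2,[97,513,144]),
    (87,2,[139,515,144]), (40,3,[772,696,763]), (87,0,[141,515,146]), (88,0,[147,517,144]),
    (74,3,[778,776,774]), (81,1,[133,523,148]), (82,2,[107,525,148]), (85,2,[151,529,112]),
    (85,0,[115,528,152]), (88,0,[153,527,150]), (85,2,[109,533,154]), (87,2,[151,537,154]),
    (50,3,[794,710,791]), (87,0,[153,537,156]), (85,0,[157,532,110]), (88,0,[157,539,154]),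
    (51,3,[586,562,158]), (46,0,[159,544,595]), (51,3,[620,558,160]), (73,3,[159,551,160]),
    (46,0,[161,553,629]), (56,0,[161,45,54]), (85,3,[809,771,814]), (46,2,[596,553,162]), (56,2,[57,44,162]),
    (51,1,[163,559,582]), (41,3,[574,559,164]), (35,0,[165,554,593]), (41,1,[167,558,604]),
    (65,2,[167,47,52]), (77,1,[741,170]), (79,1,[171,570,170]), (83,4,[175,573,545,756]),
    (85,0,[147,751,838]), (37,0,[161,575,176]), (46,0,[177,577,832]), (79,3,[175,579,178]),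
    (50,2,[782,841,847]), (83,4,[183,581,583,727]), (84,0,[851,720,152]), (86,2,[187,184]),
    (78,1,[181,591,188]), (79,3,[183,591,190]), (77,2,[191,188]), (40,0,[858,853,798]), (87,2,[185,591,192]),
    (87,0,[187,591,194]), (30,1,[718,196]), (37,2,[197,600,84]), (46,0,[868,716,715]), (78,3,[175,603,198]),
    (49,2,[779,841,875]), (79,1,[189,614,200]), (80,1,[181,611,200]), (78,3,[183,611,202]), (77,2,[203,200]),
    (83,4,[203,607,613,740]), (39,0,[882,853,801]), (85,2,[193,617,204]), (88,2,[187,611,204]),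
    (85,2,[205,613,172]), (31,1,[892,867]), (78,3,[191,625,206]), (39,2,[797,862,899]), (85,2,[169,621,208]),
    (87,2,[205,623,208]), (88,2,[195,625,208]), (85,2,[209,627,184]), (37,0,[91,636,210]),
    (46,0,[211,634,723]), (84,2,[109,643,216]), (84,0,[219,642,110]), (88,0,[219,645,216]),
    (84,0,[115,647,222]), (40,1,[914,710,921]), (81,3,[215,649,224]), (83,4,[213,641,651,224]),
    (83,4,[834,736,655,226]), (83,4,[227,870,873,214]), (85,2,[155,655,228]), (85,2,[229,659,108]),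
    (86,2,[231,228]), (88,0,[231,657,228]), (88,0,[235,661,232]), (85,2,[237,667,150]), (85,0,[153,666,238]),
    (87,0,[231,670,238]), (50,1,[932,799,945]), (25,1,[701,246]), (25,2,[245,246]), (57,2,[952,245,248]),
    (28,1,[701,250]), (73,1,[257,700,264]), (60,2,[954,950,266]), (61,2,[953,950,266]), (58,3,[245,703,268]),
    (59,3,[950,705,268]), (25,1,[709,270]), (25,2,[269,270]), (54,2,[965,269,270]), (55,2,[967,269,270]),
    (66,3,[249,703,272]), (26,2,[269,274]), (30,1,[277,278]), (71,1,[255,703,278]), (72,1,[263,705,278]),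
    (75,2,[259,703,280]), (76,2,[267,705,280]), (68,1,[261,707,282]), (69,1,[253,710,282]),
    (73,3,[277,708,284]), (71,3,[285,706,264]), (72,3,[285,711,256]), (30,1,[285,286]), (73,1,[279,708,286]),
    (61,2,[971,968,288]), (84,2,[155,728,290]), (83,2,[125,467,124,292]), (32,1,[292,1008,294]),
    (34,1,[221,733,294]), (46,2,[1013,1010,296]), (84,2,[299,735,150]), (84,0,[153,734,300]),
    (40,1,[1006,799,1019]), (83,2,[133,483,132,302]), (32,1,[302,1022,304]), (34,1,[243,749,304]),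
    (46,2,[1027,1024,306]), (35,1,[309,760,220]), (51,1,[297,759,310]), (25,0,[313,764]),
    (53,3,[1034,313,314]), (26,0,[315,318]), (83,2,[321,139,136,308]), (45,3,[1014,1030,1040]),
    (57,3,[1038,1036,324]), (83,1,[311,137,140,326]), (41,1,[1042,1033,1047]), (81,0,[326,1048,321,318]),
    (12,0,[764,1051,1045]), (17,0,[324,1052]), (51,3,[848,1054,322]), (51,3,[876,1055,316]),
    (81,2,[1056,179,827]), (81,2,[1058,199,830]), (71,1,[317,775,328]), (71,1,[323,779,330]),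
    (73,1,[329,780,330]), (35,1,[333,786,242]), (51,1,[307,785,334]), (25,0,[337,792]), (43,0,[337,789,268]),
    (25,1,[793,338]), (25,2,[337,338]), (43,2,[271,788,338]), (46,0,[277,788,340]), (48,2,[273,788,340]),
    (53,3,[1074,337,340]), (57,2,[1080,337,340]), (26,2,[337,342]), (28,1,[793,342]), (44,2,[275,788,342]),
    (46,0,[285,791,1095]), (30,1,[347,348]), (47,2,[277,788,348]), (48,1,[349,342,1098]),
    (47,0,[1000,1104,1100]), (26,0,[341,350]), (51,2,[281,788,350]), (60,2,[1092,337,350]),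
    (83,2,[353,151,148,332]), (45,3,[1028,1070,1114]), (45,2,[283,791,356]), (73,3,[347,792,358]),
    (52,2,[1120,1106,1002]), (48,1,[361,1089,1084]), (51,2,[289,791,362]), (57,3,[1108,1088,362]),
    (61,2,[1081,1078,362]), (83,1,[335,149,152,364]), (41,1,[1116,1073,1133]), (81,0,[364,1134,353,350]),
    (6,0,[1078,1137,1112]), (5,0,[1075,1137,1108]), (12,0,[792,1137,1129]), (16,0,[359,1137,1110]),
    (8,0,[1099,1138]), (15,0,[1097,1138]), (8,0,[1085,1140]), (9,0,[1089,1140]), (15,0,[1087,1140]),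
    (17,0,[1091,1140]), (9,0,[1131,1142]), (16,0,[347,1143,1126]), (17,0,[362,1142]), (8,0,[1122,1145]),
    (16,0,[358,1145]), (8,0,[1107,1161]), (24,1,[1083,1146]), (43,1,[944,1079,1146]), (43,1,[1147,339,942]),
    (46,1,[1076,1152,945]), (41,3,[900,1162,354]), (75,3,[796,1162,801]), (41,3,[853,1163,344]),
    (41,1,[357,1163,1016]), (49,2,[987,1164,982]), (50,2,[989,1164,984]), (71,2,[987,1166,801]),
    (72,2,[989,1166,798]), (49,2,[996,1170,972]), (50,2,[998,1170,974]), (59,2,[996,1172,948]),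
    (71,2,[947,1176,966]), (72,2,[949,1176,964]), (81,2,[1178,207,811]), (81,2,[1182,183,824]),
    (51,3,[1186,259,254]), (51,3,[1188,267,262]), (82,0,[1205,817,180]), (83,4,[1205,843,845,1062]),
    (83,4,[1061,829,821,1206]), (82,0,[1207,822,188]), (36,1,[1212,355,1019]), (38,0,[1075,354,1213]),
    (36,1,[1218,345,1016]), (38,0,[339,344,1219]), (69,2,[1021,1220,881]), (35,0,[1228,1006,366]),
    (58,3,[337,797,366]), (43,0,[367,933,1198]), (83,3,[205,200,1231,1235]), (78,0,[959,1236,905]),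
    (79,0,[997,1236,897]), (25,1,[805,368]), (26,1,[1180,368]), (53,3,[368,1242,1245]), (54,2,[1233,367,368]),
    (36,2,[1228,1006,370]), (68,1,[345,797,370]), (87,1,[1252,1216,1067]), (68,1,[355,801,372]),
    (87,3,[1256,1215,1065]), (51,3,[932,1181,374]), (30,2,[375,1190]), (46,0,[375,803,957]),
    (81,1,[189,807,376]), (41,0,[1266,1225,1184]), (41,2,[1266,1226,1157]), (83,3,[818,376,1269,1118]),
    (80,1,[993,1272,812,376]), (13,0,[252,1275,1271]), (4,0,[914,1277,1223]), (6,0,[245,1277,1075]),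
    (5,0,[247,1277,337]), (8,0,[794,1277,1077]), (7,0,[935,1277,1150]), (10,0,[249,1277,1152]),
    (9,0,[251,1277,1159]), (11,0,[702,1277,1249]), (12,0,[701,1277,1081]), (16,0,[255,1277,1154]),
    (17,0,[259,1277,1156,1294]), (18,0,[711,1277,1233]), (12,0,[856,1278,918]), (18,0,[880,1278,923]),
    (6,0,[244,1281]), (7,0,[944,1280,1194]), (10,0,[962,1281]), (11,0,[800,1280,973]), (15,0,[361,1280,1202]),
    (7,0,[943,1282,1196]), (15,0,[349,1282,1200]), (9,0,[1246,1285,1005]), (2,0,[1293,1321]),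
    (17,0,[1180,1285,979]), (9,0,[1314,1125,1286]), (9,0,[1326,1287,1103,1319]), (12,0,[939,1287,995]),
    (2,0,[1329,1331]), (15,0,[980,1286]), (5,0,[1307,1288,961]), (18,0,[799,1288,977,1296]),
    (7,0,[943,1290,1264]), (16,0,[263,1295,1148,1324]), (8,0,[803,1298,1187,1338]), (2,0,[1344,1342]),
    (15,0,[265,1298,1262,1340]), (2,0,[1348,1308]), (2,0,[1344,1313]), (6,0,[366,1300]), (2,0,[1351,1309]),
    (4,0,[916,1302]), (3,0,[921,1304]), (21,0,[222,1304]), (15,0,[264,1356]), (20,0,[1237,1356]),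
    (6,0,[1354,1353,271]), (2,0,[1329,1318]), (16,0,[1335,1314,361]), (16,0,[1365,1317,257]),
    (19,0,[1367,1317,1239]), (16,0,[1335,1371,349]), (2,0,[1378,1373]), (2,0,[1381,1372]),
    (7,0,[789,1323,1168]), (22,0,[937,1329,231]), (2,0,[1386,1328]), (2,0,[1389,1333]), (6,0,[664,1391,1175]),
    (2,0,[1393,1351]), (16,0,[84,1391,1001,1384]), (15,0,[653,1391,285,1369]), (19,0,[227,1391,1241]),
    (2,0,[1397,1381]), (9,0,[518,1403,1310,1336]), (2,0,[1405,1337]), (16,0,[530,1407,1193]),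
    (2,0,[1405,1374]), (17,0,[523,1407,267,1410]), (2,0,[1409,1339]), (2,0,[1397,1383]),
    (11,0,[537,1415,983,1416]), (2,0,[1418,1412]), (2,0,[1409,1347]), (2,0,[1421,1413]),
    (17,0,[542,1415,1209,1414]), (2,0,[1393,1341]), (2,0,[1427,1409,1344]), (15,0,[90,1429,375,1430]),
    (17,0,[672,1429,1260,1388]), (2,0,[1433,1427,1423]), (2,0,[1425,1411]), (17,0,[463,1437,1211,1436]),
    (2,0,[1433,1431]), (3,0,[632,1443,888]), (2,0,[1433,1427,1409]), (13,0,[89,1443,372]), (2,0,[1433,1427]),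
    (2,0,[1434,1395]), (8,0,[658,1453,944,1402]), (2,0,[1433,1399,1368]), (3,0,[632,1457,1361]),
    (13,0,[89,1457,282]), (4,0,[600,1439,1359]), (14,0,[83,1439,260]), (8,0,[894,1377,909]),
    (7,0,[891,1377,902]), (12,0,[893,1377,906]), (21,0,[204,1377,209]), (14,0,[83,1403,354]),
    (2,0,[1471,1400]), (22,0,[186,1477,931]), (21,0,[854,1477,928]), (2,0,[1480,1466]), (3,0,[632,1447,862]),
    (13,0,[89,1447,370]), (4,0,[600,1425,721]), (7,0,[12,1425,666,1435]), (15,0,[85,1425,39]),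
    (2,0,[1491,1493]), (2,0,[1491,1434]), (3,0,[632,1451,737]), (4,0,[9,1497,911]), (3,0,[632,1440,647]),
    (19,0,[70,1445,885,1458]), (2,0,[1505,1445]), (2,0,[1505,1499]), (22,0,[6,1507,887,1508]),
    (2,0,[1511,1505,1485]), (2,0,[1511,1505,1459]), (2,0,[1511,1505,1503]), (22,0,[233,1449,1259]),
    (14,0,[83,1454,677]), (5,0,[381,1515,1251,1486]), (11,0,[384,1515,878,1462]), (19,0,[3,1515,201]),
    (2,0,[1495,1527]), (22,0,[5,1515,1362,1516]), (2,0,[1523,1461]), (11,0,[384,1533,990,1464]),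
    (2,0,[1525,1463]), (2,0,[1535,1475]), (20,0,[1,1537,860,1512]), (2,0,[1483,1467]),
    (11,0,[836,1543,865,1469]), (2,0,[1544,1543]), (21,0,[168,1547,185]), (2,0,[1540,1529,1473]),
    (8,0,[382,1551,627,1548]), (2,0,[1553,1549]), (2,0,[1525,1489]), (2,0,[1523,1487]), (22,0,[5,1539,1215]),
    (2,0,[1530,1561]), (2,0,[1555,1479]), (17,0,[392,1565,925]), (21,0,[7,1559,1255]), (2,0,[1511,1569]),
    (2,0,[1535,1521]), (7,0,[383,1557,912,1500]), (12,0,[941,1519,1069,1570]), (22,0,[241,1572]),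
    (21,0,[1579,1523,234,1577]), (15,0,[391,1563,317]), (21,0,[1579,1567,926]), (2,0,[1580,1585]),
    (13,0,[389,1575,74]), (19,0,[321,1582]), (20,0,[1591,1587,213,1588]), (20,0,[1590,1593])]

def c1T : List (List ℕ × List ℕ) :=
    [([17],[1595])]

theorem c1C : cert [[17,1,5,18,20]] [1,2,3,4,5,6,7,8,9,10,11,12,13,14,15,16] c1W c1F c1S c1T = true := by decide +kernel

def c2W : List (List ℕ) :=
    [[], [1,2], [2,1], [3,4], [4,3], [5,6], [7,8], [8,7], [9,9], [10,10], [11,12], [12,11], [13,14], [15,15],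
    [16,16], [17,18], [18,17], [19,20], [20,19], [2,2,2], [6,6,6], [4,4,10], [4,8,15], [4,15,8], [8,8,10],
    [12,12,12], [14,14,14], [9,16,10], [2,6,1,5], [2,4,11,3], [2,8,1,7], [2,12,2,3], [2,12,3,12], [2,14,1,13],
    [2,3,11,4], [2,9,2,9], [2,16,2,16], [2,15,11,15], [2,10,1,10], [6,4,5,3], [6,8,13,7], [6,12,5,11],
    [6,14,6,7], [6,7,13,8], [6,9,6,9], [6,16,6,16], [6,15,13,15], [6,10,5,10], [4,4,9,16], [4,14,3,13],
    [4,7,15,10], [4,7,10,15], [4,9,4,9], [4,16,4,16], [4,15,3,15], [4,15,10,7], [4,10,3,10], [8,8,9,16],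
    [8,8,16,9], [8,12,7,11], [8,9,7,16], [12,9,12,9], [12,16,12,16], [12,10,11,10], [14,9,14,9],
    [14,16,14,16], [14,10,13,10], [9,16,9,16], [17,17,17], [17,10,18,9], [17,9,18,16], [17,16,18,10],
    [17,15,18,15], [3,17,3,17], [17,1,6,18,20], [1,19,2,20], [5,19,6,20], [19,19,19], [9,19,9,20],
    [10,19,10,19]]

def c2F : Tr :=
    (.node (.node (.node (.node (.node (.node (.node (.node (.node (.node .leaf 100 0 0 .leaf) 55 15 50 .leaf)
    0 8 0 (.node .leaf 66 7 77 .leaf)) 22 20 64 (.node (.node .leaf 96 19 105 .leaf) 22 2 22 (.node .leaf 41 0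
    23 .leaf))) 7 17 32 (.node (.node (.node .leaf 68 20 46 .leaf) 11 9 10 (.node .leaf 41 0 38 .leaf)) 48 1
    96 (.node (.node .leaf 80 8 118 .leaf) 43 9 40 (.node .leaf 78 0 3 .leaf)))) 2 6 16 (.node (.node (.node
    (.node .leaf 41 3 59 .leaf) 1 3 2 (.node .leaf 80 0 97 .leaf)) 34 2 80 (.node (.node .leaf 112 2 84 .leaf)
    27 6 30 (.node .leaf 50 0 3 .leaf))) 14 18 48 (.node (.node (.node .leaf 92 16 91 .leaf) 8 4 16 (.node
    .leaf 50 0 53 .leaf)) 55 12 112 (.node (.node .leaf 113 0 121 .leaf) 41 7 50 (.node .leaf 15 0 1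
    .leaf))))) 1 6 8 (.node (.node (.node (.node (.node .leaf 58 10 54 .leaf) 1 16 1 (.node .leaf 118 0 89
    .leaf)) 29 18 72 (.node (.node .leaf 76 8 110 .leaf) 22 6 24 (.node .leaf 41 0 22 .leaf))) 10 20 40 (.node
    (.node (.node .leaf 75 10 73 .leaf) 15 10 15 (.node .leaf 106 0 32 .leaf)) 52 12 104 (.node (.node .leaf
    112 16 119 .leaf) 46 17 22 (.node .leaf 29 0 0 .leaf)))) 3 13 24 (.node (.node (.node (.node .leaf 63 19
    64 .leaf) 3 19 4 (.node .leaf 98 0 34 .leaf)) 39 17 88 (.node (.node .leaf 115 4 113 .leaf) 38 15 32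
    (.node .leaf 11 0 46 .leaf))) 18 19 56 (.node (.node (.node .leaf 92 7 99 .leaf) 19 3 11 (.node .leaf 64 0
    38 .leaf)) 59 12 120 (.node (.node .leaf 70 3 122 .leaf) 53 10 50 (.node .leaf 35 0 1 .leaf)))))) 0 20 4
    (.node (.node (.node (.node (.node (.node .leaf 32 8 55 .leaf) 0 15 0 (.node .leaf 66 11 63 .leaf)) 24 18
    68 (.node (.node .leaf 79 7 108 .leaf) 23 8 4 (.node .leaf 83 0 23 .leaf))) 9 14 36 (.node (.node (.node
    .leaf 66 6 71 .leaf) 9 3 13 (.node .leaf 120 0 38 .leaf)) 51 17 100 (.node (.node .leaf 119 8 77 .leaf) 31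
    12 44 (.node .leaf 10 0 46 .leaf)))) 3 3 20 (.node (.node (.node (.node .leaf 60 6 39 .leaf) 3 2 3 (.node
    .leaf 41 0 90 .leaf)) 38 11 84 (.node (.node .leaf 113 8 57 .leaf) 35 10 33 (.node .leaf 105 0 3 .leaf)))
    16 17 52 (.node (.node (.node .leaf 96 10 94 .leaf) 11 6 18 (.node .leaf 107 0 32 .leaf)) 57 17 116 (.node
    (.node .leaf 57 15 60 .leaf) 52 16 52 (.node .leaf 1 0 11 .leaf))))) 1 19 12 (.node (.node (.node (.node
    (.node .leaf 59 16 55 .leaf) 2 10 2 (.node .leaf 84 0 63 .leaf)) 32 2 76 (.node (.node .leaf 111 8 81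
    .leaf) 5 6 27 (.node .leaf 53 0 3 .leaf))) 12 17 44 (.node (.node (.node .leaf 83 6 88 .leaf) 16 9 15
    (.node .leaf 76 0 50 .leaf)) 54 1 108 (.node (.node .leaf 87 5 121 .leaf) 49 4 35 (.node .leaf 2 0 10
    .leaf)))) 4 13 28 (.node (.node (.node (.node .leaf 66 10 64 .leaf) 8 16 7 (.node .leaf 41 0 89 .leaf)) 41
    12 92 (.node (.node .leaf 118 4 92 .leaf) 41 16 41 (.node .leaf 16 0 15 .leaf))) 19 19 60 (.node (.node
    (.node .leaf 102 12 79 .leaf) 16 15 19 (.node .leaf 94 0 78 .leaf)) 60 17 124 (.node (.node .leaf 111 0 66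
    .leaf) 53 8 38 (.node .leaf 51 0 0 .leaf))))))) 0 18 2 (.node (.node (.node (.node (.node (.node (.node
    .leaf 38 3 55 .leaf) 0 10 0 (.node .leaf 112 0 63 .leaf)) 23 19 66 (.node (.node .leaf 107 7 92 .leaf) 22
    16 22 (.node .leaf 106 0 3 .leaf))) 8 17 34 (.node (.node (.node .leaf 69 16 68 .leaf) 11 10 11 (.node
    .leaf 81 0 53 .leaf)) 50 2 98 (.node (.node .leaf 119 4 89 .leaf) 13 6 44 (.node .leaf 0 0 4 .leaf)))) 2
    13 18 (.node (.node (.node (.node .leaf 34 8 59 .leaf) 1 7 2 (.node .leaf 112 0 41 .leaf)) 37 19 82 (.node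
    (.node .leaf 112 9 111 .leaf) 34 10 32 (.node .leaf 19 0 18 .leaf))) 15 18 50 (.node (.node (.node .leaf
    80 15 92 .leaf) 18 15 15 (.node .leaf 80 0 32 .leaf)) 56 17 114 (.node (.node .leaf 113 3 60 .leaf) 51 5
    17 (.node .leaf 19 0 1 .leaf))))) 1 13 10 (.node (.node (.node (.node (.node .leaf 35 7 58 .leaf) 2 9 2
    (.node .leaf 99 0 77 .leaf)) 30 18 74 (.node (.node .leaf 111 4 83 .leaf) 25 9 24 (.node .leaf 34 0 3
    .leaf))) 11 19 42 (.node (.node (.node .leaf 75 3 82 .leaf) 10 7 15 (.node .leaf 83 0 38 .leaf)) 53 2 106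
    (.node (.node .leaf 120 10 112 .leaf) 49 16 49 (.node .leaf 65 0 1 .leaf)))) 3 15 26 (.node (.node (.node
    (.node .leaf 66 2 66 .leaf) 6 9 5 (.node .leaf 119 0 41 .leaf)) 41 2 90 (.node (.node .leaf 103 14 116
    .leaf) 41 10 38 (.node .leaf 16 0 27 .leaf))) 19 17 58 (.node (.node (.node .leaf 74 3 100 .leaf) 19 16 18
    (.node .leaf 97 0 32 .leaf)) 60 12 122 (.node (.node .leaf 87 18 71 .leaf) 34 3 53 (.node .leaf 35 0 0
    .leaf)))))) 1 2 6 (.node (.node (.node (.node (.node (.node .leaf 57 5 43 .leaf) 1 10 1 (.node .leaf 66 15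
    97 .leaf)) 28 17 70 (.node (.node .leaf 90 12 109 .leaf) 23 1 23 (.node .leaf 59 0 22 .leaf))) 10 17 38
    (.node (.node (.node .leaf 74 20 35 .leaf) 14 16 13 (.node .leaf 105 0 32 .leaf)) 52 2 102 (.node (.node
    .leaf 85 2 119 .leaf) 19 1 46 (.node .leaf 4 0 0 .leaf)))) 3 7 22 (.node (.node (.node (.node .leaf 61 15
    25 .leaf) 3 9 3 (.node .leaf 120 0 55 .leaf)) 38 19 86 (.node (.node .leaf 108 6 114 .leaf) 27 15 36
    (.node .leaf 95 0 3 .leaf))) 18 17 54 (.node (.node (.node .leaf 98 8 90 .leaf) 19 14 18 (.node .leaf 63 0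
    38 .leaf)) 59 2 118 (.node (.node .leaf 69 15 122 .leaf) 53 9 53 (.node .leaf 16 0 1 .leaf))))) 2 2 14
    (.node (.node (.node (.node (.node .leaf 59 15 53 .leaf) 2 20 2 (.node .leaf 41 0 63 .leaf)) 32 19 78
    (.node (.node .leaf 77 8 111 .leaf) 23 6 28 (.node .leaf 58 0 46 .leaf))) 13 14 46 (.node (.node (.node
    .leaf 92 12 91 .leaf) 16 10 16 (.node .leaf 107 0 53 .leaf)) 55 2 110 (.node (.node .leaf 124 15 116
    .leaf) 47 20 50 (.node .leaf 46 0 2 .leaf)))) 5 5 30 (.node (.node (.node (.node .leaf 67 9 64 .leaf) 10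
    15 7 (.node .leaf 83 0 41 .leaf)) 47 1 94 (.node (.node .leaf 118 3 85 .leaf) 42 9 39 (.node .leaf 35 0 27
    .leaf))) 22 17 62 (.node (.node (.node .leaf 104 16 103 .leaf) 21 4 4 (.node .leaf 38 0 23 .leaf)) 0 4 0
    (.node (.node .leaf 66 3 89 .leaf) 33 7 54 (.node .leaf 74 0 0 .leaf)))))))) 0 17 1 (.node (.node (.node
    (.node (.node (.node (.node (.node (.node .leaf 0 18 0 .leaf) 54 17 55 .leaf) 0 9 0 (.node .leaf 66 8 81
    .leaf)) 23 17 65 (.node (.node .leaf 90 8 106 .leaf) 22 15 21 (.node .leaf 32 0 3 .leaf))) 7 18 33 (.node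
    (.node (.node .leaf 68 2 60 .leaf) 11 16 10 (.node .leaf 119 0 38 .leaf)) 50 1 97 (.node (.node .leaf 119
    3 83 .leaf) 39 16 43 (.node .leaf 94 0 3 .leaf)))) 2 12 17 (.node (.node (.node (.node .leaf 38 4 59
    .leaf) 1 4 2 (.node .leaf 55 0 67 .leaf)) 34 11 81 (.node (.node .leaf 112 3 90 .leaf) 31 9 30 (.node
    .leaf 18 0 62 .leaf))) 15 17 49 (.node (.node (.node .leaf 92 10 85 .leaf) 17 2 9 (.node .leaf 50 0 32
    .leaf)) 56 8 113 (.node (.node .leaf 57 0 123 .leaf) 51 3 31 (.node .leaf 54 0 2 .leaf))))) 1 11 9 (.node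
    (.node (.node (.node (.node .leaf 58 15 52 .leaf) 1 15 1 (.node .leaf 110 0 83 .leaf)) 30 17 73 (.node
    (.node .leaf 111 3 89 .leaf) 25 6 23 (.node .leaf 22 0 29 .leaf))) 11 17 41 (.node (.node (.node .leaf 51
    18 82 .leaf) 7 3 15 (.node .leaf 118 0 38 .leaf)) 53 1 105 (.node (.node .leaf 120 16 111 .leaf) 48 10 47
    (.node .leaf 23 0 0 .leaf)))) 3 14 25 (.node (.node (.node (.node .leaf 65 10 62 .leaf) 3 10 4 (.node
    .leaf 64 0 41 .leaf)) 41 1 89 (.node (.node .leaf 116 16 114 .leaf) 39 10 40 (.node .leaf 96 0 0 .leaf)))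
    18 20 57 (.node (.node (.node .leaf 100 17 82 .leaf) 19 9 18 (.node .leaf 38 0 86 .leaf)) 60 4 121 (.node
    (.node .leaf 113 2 70 .leaf) 53 20 48 (.node .leaf 1 0 0 .leaf)))))) 1 1 5 (.node (.node (.node (.node
    (.node (.node .leaf 34 7 55 .leaf) 0 16 0 (.node .leaf 66 12 55 .leaf)) 25 18 69 (.node (.node .leaf 84 3
    109 .leaf) 23 10 22 (.node .leaf 23 0 22 .leaf))) 9 18 37 (.node (.node (.node .leaf 62 3 72 .leaf) 6 12
    13 (.node .leaf 59 0 38 .leaf)) 52 1 101 (.node (.node .leaf 119 10 111 .leaf) 45 2 15 (.node .leaf 11 0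
    10 .leaf)))) 3 4 21 (.node (.node (.node (.node .leaf 57 16 60 .leaf) 3 6 3 (.node .leaf 41 0 59 .leaf))
    38 12 85 (.node (.node .leaf 113 6 93 .leaf) 34 17 35 (.node .leaf 95 0 4 .leaf))) 16 18 53 (.node (.node
    (.node .leaf 97 19 94 .leaf) 10 4 18 (.node .leaf 32 0 34 .leaf)) 58 1 117 (.node (.node .leaf 87 5 113
    .leaf) 33 3 52 (.node .leaf 2 0 1 .leaf))))) 2 1 13 (.node (.node (.node (.node (.node .leaf 59 10 55
    .leaf) 2 15 2 (.node .leaf 85 0 64 .leaf)) 32 11 77 (.node (.node .leaf 92 2 111 .leaf) 8 1 27 (.node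
    .leaf 19 0 62 .leaf))) 13 5 45 (.node (.node (.node .leaf 90 9 83 .leaf) 16 16 15 (.node .leaf 110 0 38
    .leaf)) 55 1 109 (.node (.node .leaf 117 6 124 .leaf) 32 3 50 (.node .leaf 1 0 18 .leaf)))) 4 15 29 (.node
    (.node (.node (.node .leaf 63 16 64 .leaf) 9 15 5 (.node .leaf 83 0 59 .leaf)) 43 13 93 (.node (.node
    .leaf 118 8 76 .leaf) 41 15 34 (.node .leaf 27 0 15 .leaf))) 20 13 61 (.node (.node (.node .leaf 52 6 102
    .leaf) 4 4 20 (.node .leaf 23 0 86 .leaf)) 0 2 0 (.node (.node .leaf 92 0 66 .leaf) 54 15 49 (.node .leaf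
    74 0 3 .leaf))))))) 0 19 3 (.node (.node (.node (.node (.node (.node (.node .leaf 41 4 55 .leaf) 0 12 0
    (.node .leaf 119 0 64 .leaf)) 23 20 67 (.node (.node .leaf 107 10 99 .leaf) 23 15 20 (.node .leaf 3 0 4
    .leaf))) 8 18 35 (.node (.node (.node .leaf 57 2 69 .leaf) 8 15 11 (.node .leaf 77 0 50 .leaf)) 50 12 99
    (.node (.node .leaf 119 15 105 .leaf) 16 1 44 (.node .leaf 3 0 0 .leaf)))) 2 14 19 (.node (.node (.node
    (.node .leaf 59 8 32 .leaf) 2 7 1 (.node .leaf 84 0 41 .leaf)) 38 1 83 (.node (.node .leaf 98 15 112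
    .leaf) 35 16 33 (.node .leaf 54 0 46 .leaf))) 16 12 51 (.node (.node (.node .leaf 95 2 94 .leaf) 18 10 18
    (.node .leaf 99 0 32 .leaf)) 57 15 115 (.node (.node .leaf 87 0 93 .leaf) 52 10 49 (.node .leaf 11 0 2
    .leaf))))) 1 14 11 (.node (.node (.node (.node (.node .leaf 59 9 59 .leaf) 2 16 2 (.node .leaf 107 0 81
    .leaf)) 31 17 75 (.node (.node .leaf 111 15 97 .leaf) 26 4 22 (.node .leaf 55 0 22 .leaf))) 11 20 43
    (.node (.node (.node .leaf 73 4 82 .leaf) 16 7 11 (.node .leaf 80 0 53 .leaf)) 53 12 107 (.node (.node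
    .leaf 106 15 120 .leaf) 49 3 33 (.node .leaf 72 0 2 .leaf)))) 3 17 27 (.node (.node (.node (.node .leaf 66
    9 63 .leaf) 8 9 7 (.node .leaf 85 0 41 .leaf)) 41 11 91 (.node (.node .leaf 103 15 117 .leaf) 41 9 38
    (.node .leaf 15 0 27 .leaf))) 19 18 59 (.node (.node (.node .leaf 101 6 52 .leaf) 19 10 19 (.node .leaf 98
    0 32 .leaf)) 60 15 123 (.node (.node .leaf 88 3 71 .leaf) 41 8 53 (.node .leaf 16 0 0 .leaf)))))) 1 5 7
    (.node (.node (.node (.node (.node (.node .leaf 56 10 57 .leaf) 1 9 1 (.node .leaf 120 0 67 .leaf)) 28 19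
    71 (.node (.node .leaf 110 3 92 .leaf) 23 9 22 (.node .leaf 38 0 22 .leaf))) 10 19 39 (.node (.node (.node
    .leaf 73 17 74 .leaf) 15 3 7 (.node .leaf 90 0 38 .leaf)) 52 11 103 (.node (.node .leaf 81 8 119 .leaf) 36
    3 46 (.node .leaf 22 0 0 .leaf)))) 3 8 23 (.node (.node (.node (.node .leaf 28 4 61 .leaf) 4 5 4 (.node
    .leaf 55 0 38 .leaf)) 39 4 87 (.node (.node .leaf 114 14 104 .leaf) 36 18 26 (.node .leaf 62 0 18 .leaf)))
    18 18 55 (.node (.node (.node .leaf 95 20 98 .leaf) 19 6 10 (.node .leaf 67 0 38 .leaf)) 59 11 119 (.node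
    (.node .leaf 122 17 61 .leaf) 53 16 50 (.node .leaf 54 0 1 .leaf))))) 2 5 15 (.node (.node (.node (.node
    (.node .leaf 58 17 59 .leaf) 1 17 2 (.node .leaf 91 0 55 .leaf)) 33 1 79 (.node (.node .leaf 112 12 111
    .leaf) 29 3 22 (.node .leaf 98 0 3 .leaf))) 13 18 47 (.node (.node (.node .leaf 92 9 84 .leaf) 16 20 16
    (.node .leaf 53 0 32 .leaf)) 55 11 111 (.node (.node .leaf 115 0 60 .leaf) 38 8 50 (.node .leaf 58 0 2
    .leaf)))) 6 6 31 (.node (.node (.node (.node .leaf 66 16 67 .leaf) 10 10 10 (.node .leaf 41 0 55 .leaf))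
    47 2 95 (.node (.node .leaf 118 15 107 .leaf) 42 16 40 (.node .leaf 35 0 15 .leaf))) 22 19 63 (.node
    (.node (.node .leaf 79 5 104 .leaf) 21 10 20 (.node .leaf 90 0 23 .leaf)) 0 6 0 (.node (.node .leaf 66 4
    83 .leaf) 55 9 55 (.node .leaf 0 17 100 .leaf)))))))))

def c2S : List (ℕ × ℕ × List ℕ) :=
    [(0,0,[]), (0,0,[]), (0,0,[]), (0,0,[]), (0,0,[]), (0,0,[]), (0,0,[]), (0,0,[]), (0,0,[]), (0,0,[]),
    (0,0,[]), (0,0,[]), (0,0,[]), (0,0,[]), (0,0,[]), (0,0,[]), (0,0,[]), (0,0,[]), (0,0,[]), (0,0,[]),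
    (0,0,[]), (0,0,[]), (0,0,[]), (0,0,[]), (0,0,[]), (0,0,[]), (0,0,[]), (0,0,[]), (0,0,[]), (0,0,[]),
    (0,0,[]), (0,0,[]), (0,0,[]), (0,0,[]), (0,0,[]), (0,0,[]), (0,0,[]), (0,0,[]), (0,0,[]), (0,0,[]),
    (0,0,[]), (0,0,[]), (0,0,[]), (0,0,[]), (0,0,[]), (0,0,[]), (0,0,[]), (0,0,[]), (0,0,[]), (0,0,[]),
    (0,0,[]), (0,0,[]), (0,0,[]), (0,0,[]), (0,0,[]), (0,0,[]), (0,0,[]), (0,0,[]), (0,0,[]), (0,0,[]),
    (0,0,[]), (0,0,[]), (0,0,[]), (0,0,[]), (0,0,[]), (0,0,[]), (0,0,[]), (0,0,[]), (0,0,[]), (0,0,[]),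
    (0,0,[]), (0,0,[]), (0,0,[]), (0,0,[]), (0,0,[]), (0,0,[]), (0,0,[]), (0,0,[]), (0,0,[]), (0,0,[]),
    (0,0,[]), (0,0,[]), (0,0,[]), (0,0,[]), (0,0,[]), (0,0,[]), (0,0,[]), (0,0,[]), (0,0,[]), (0,0,[]),
    (0,0,[]), (0,0,[]), (0,0,[]), (0,0,[]), (0,0,[]), (0,0,[]), (0,0,[]), (0,0,[]), (0,0,[]), (0,0,[]),
    (0,0,[]), (0,0,[]), (0,0,[]), (0,0,[]), (0,0,[]), (0,0,[]), (0,0,[]), (0,0,[]), (0,0,[]), (0,0,[]),
    (0,0,[]), (0,0,[]), (0,0,[]), (0,0,[]), (0,0,[]), (0,0,[]), (0,0,[]), (0,0,[]), (0,0,[]), (0,0,[]),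
    (0,0,[]), (0,0,[]), (0,0,[]), (0,0,[]), (1,0,[]), (1,0,[]), (1,0,[]), (1,0,[]), (1,0,[]), (1,0,[]),
    (1,0,[]), (1,0,[]), (1,0,[]), (71,1,[1,256,0]), (72,1,[1,264,0]), (73,1,[1,258,0]), (74,1,[1,262,0]),
    (71,3,[3,258,2]), (72,3,[3,256,2]), (73,3,[3,264,2]), (74,3,[3,262,2]), (76,4,[3,249,252,2]),
    (70,2,[3,0]), (75,0,[3,251,0]), (50,1,[275,277,287]), (52,1,[280,279,287]), (57,3,[288,280,279]),
    (77,2,[5,249,4]), (78,2,[5,253,4]), (80,2,[5,256,4]), (78,0,[7,252,6]), (79,2,[7,4]), (81,0,[7,259,4]),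
    (37,1,[9,268,10]), (46,1,[13,268,14]), (47,1,[13,270,14]), (39,3,[9,272,16]), (48,3,[13,272,18]),
    (68,3,[19,266,18]), (66,1,[19,268,20]), (67,1,[19,270,20]), (68,1,[21,266,20]), (48,1,[21,273,14]),
    (31,3,[25,287,16]), (33,1,[25,289,10]), (38,1,[25,276,26]), (41,3,[13,288,28]), (49,3,[29,278,28]),
    (41,3,[29,287,12]), (42,3,[29,291,18]), (45,1,[21,293,30]), (46,1,[29,274,30]), (47,1,[29,276,30]),
    (49,1,[31,278,30]), (78,3,[31,283,30]), (41,1,[31,289,14]), (33,2,[326,25,32]), (48,3,[29,280,34]),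
    (68,3,[35,278,34]), (44,0,[35,30,340]), (51,0,[35,289,18]), (28,1,[35,36]), (44,2,[338,29,36]),
    (51,2,[21,288,36]), (66,1,[35,274,36]), (67,1,[35,276,36]), (68,1,[37,278,36]), (48,1,[37,281,30]),
    (23,0,[39,304]), (23,1,[305,40]), (23,2,[39,40]), (32,0,[43,295,42]), (52,2,[380,39,42]),
    (62,3,[43,298,42]), (24,2,[39,44]), (26,1,[305,44]), (26,2,[43,44]), (32,2,[45,294,44]),
    (59,2,[386,43,44]), (44,0,[47,296,42]), (44,2,[45,296,48]), (66,1,[47,298,48]), (24,0,[43,50]),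
    (76,2,[53,5,0,8]), (30,2,[407,9,14]), (44,0,[55,301,391]), (56,2,[384,378,56]), (22,2,[59,406]),
    (46,1,[59,307,60]), (71,1,[63,309,66]), (72,3,[65,309,68]), (73,3,[65,311,68]), (70,2,[69,66]),
    (48,1,[71,312,406]), (74,2,[51,52,426]), (74,1,[63,315,74]), (81,0,[79,317,76]), (71,1,[75,319,80]),
    (72,1,[75,321,80]), (73,1,[81,322,80]), (74,1,[67,324,80]), (80,2,[77,319,82]), (29,1,[433,443]),
    (80,0,[79,319,84]), (69,3,[446,445,442]), (76,2,[87,23,284,24]), (30,2,[451,25,30]), (43,1,[451,329,60]),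
    (30,0,[29,24,88]), (35,2,[91,25,36]), (51,2,[91,327,70]), (75,1,[405,429,460]), (73,3,[93,331,94]),
    (73,1,[97,334,96]), (75,2,[65,336,96]), (55,2,[420,469,467]), (75,0,[99,332,62]), (76,4,[99,457,89,92]),
    (25,2,[473,431]), (57,3,[473,431,435]), (34,2,[454,453,100]), (43,2,[33,30,100]), (71,1,[97,343,102]),
    (73,1,[103,346,102]), (58,2,[484,470,422]), (71,3,[105,346,104]), (72,3,[99,343,104]),
    (73,3,[99,345,104]), (76,4,[95,27,30,104]), (75,0,[105,351,66]), (59,1,[491,492,479]),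
    (60,0,[476,493,491]), (74,1,[97,355,106]), (52,1,[504,485,489]), (71,3,[109,356,108]),
    (74,3,[99,355,108]), (70,2,[109,106]), (75,0,[109,361,74]), (54,0,[509,515,437]), (24,1,[510,473]),
    (52,1,[510,495,499]), (78,0,[85,358,112]), (81,0,[113,357,110]), (71,1,[107,369,114]),
    (74,1,[103,374,114]), (53,1,[526,504,470]), (71,3,[117,372,116]), (72,3,[109,369,116]),
    (73,3,[109,371,116]), (74,3,[105,374,116]), (70,2,[117,114]), (75,0,[117,366,80]), (50,1,[533,534,515]),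
    (59,1,[533,534,521]), (60,0,[518,535,533]), (78,2,[77,365,118]), (47,3,[550,448,523]),
    (48,3,[400,388,120]), (51,0,[121,377,54]), (79,2,[127,124]), (71,1,[123,397,128]), (77,2,[131,394,130]),
    (80,2,[125,397,130]), (81,2,[127,393,130]), (29,1,[567,564]), (80,0,[127,397,132]), (69,3,[570,569,565]),
    (76,4,[462,383,398,134]), (77,2,[119,458,575]), (72,3,[135,403,136]), (38,0,[578,576,553]),
    (78,2,[141,411,130]), (75,0,[143,412,122]), (76,4,[69,408,414,146]), (70,2,[147,144]),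
    (71,1,[145,417,148]), (76,3,[163,73,353,483]), (75,0,[593,480,148]), (23,0,[595,590]),
    (76,2,[175,77,74,164]), (37,1,[165,437,178]), (27,1,[181,182]), (63,1,[167,437,182]),
    (64,1,[181,438,182]), (65,1,[169,435,182]), (39,1,[183,440,158]), (21,1,[187,188]), (40,3,[187,465,190]),
    (77,1,[187,474,192]), (32,1,[179,478,194]), (77,3,[195,475,188]), (61,2,[197,479,182]), (70,1,[593,198]),
    (75,0,[624,597,588]), (76,2,[103,348,102,200]), (33,1,[157,488,202]), (30,1,[203,629,201]),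
    (64,1,[205,486,206]), (43,2,[207,632,630]), (77,1,[209,496,190]), (32,1,[211,501,178]),
    (61,2,[183,500,212]), (65,1,[197,495,212]), (32,3,[215,507,156]), (31,3,[217,515,166]),
    (33,1,[217,517,178]), (36,1,[183,516,218]), (32,1,[219,519,150]), (31,3,[177,516,220]),
    (36,3,[165,514,220]), (39,3,[193,511,220]), (61,0,[161,520,220]), (33,0,[221,218,652]),
    (61,0,[221,519,152]), (27,1,[221,222]), (33,2,[648,217,222]), (34,2,[650,217,222]), (63,1,[221,508,222]),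
    (39,1,[223,510,194]), (26,1,[525,224]), (44,0,[185,523,679]), (76,2,[227,111,106,214]),
    (44,1,[637,646,682]), (24,0,[678,228]), (73,1,[227,524,230]), (67,0,[688,684,634]), (39,3,[233,528,204]),
    (31,1,[183,542,234]), (32,1,[151,549,234]), (36,1,[169,544,234]), (39,1,[213,539,234]),
    (32,1,[235,547,158]), (31,3,[165,544,236]), (36,3,[177,542,236]), (39,3,[209,539,236]),
    (61,0,[153,549,236]), (65,3,[221,537,236]), (33,0,[237,234,698]), (61,0,[237,547,160]),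
    (64,3,[237,534,222]), (64,1,[221,535,238]), (65,1,[223,537,238]), (39,1,[239,538,210]),
    (41,2,[241,550,172]), (76,2,[247,119,114,232]), (48,1,[691,692,728]), (74,0,[246,730,231,228]),
    (5,0,[241,733,686]), (15,0,[245,733,229]), (5,0,[240,735]), (7,0,[681,734,727]), (15,0,[244,737]),
    (7,0,[680,741]), (39,1,[243,743,580]), (74,0,[554,136,746]), (75,0,[748,557,138]), (36,0,[750,243,739]),
    (76,3,[141,138,753,745]), (75,0,[755,173,174]), (41,0,[582,757,599,659]), (4,0,[562,759,665]),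
    (5,0,[657,758]), (6,0,[659,758]), (8,0,[666,758]), (9,0,[663,758]), (10,0,[565,759,675]),
    (11,0,[567,759,713]), (12,0,[771,668,758]), (13,0,[220,758]), (15,0,[661,758]), (16,0,[573,759,721]),
    (6,0,[763,761,695]), (5,0,[765,761,653]), (9,0,[767,761,622]), (8,0,[769,761,643]), (10,0,[565,761,604]),
    (11,0,[567,761,608]), (13,0,[775,761,183]), (12,0,[777,761,602]), (15,0,[779,761,611]),
    (16,0,[573,761,606,796]), (2,0,[794,771]), (2,0,[794,791]), (3,0,[179,803,670,804]),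
    (6,0,[543,803,672,807]), (2,0,[800,781]), (11,0,[435,803,723,810]), (15,0,[441,803,677]),
    (16,0,[438,803,718,772]), (2,0,[817,773]), (2,0,[817,793]), (4,0,[177,819,715,820]), (6,0,[543,819,704]),
    (2,0,[808,825]), (5,0,[517,819,706,823]), (2,0,[813,829]), (2,0,[831,819]), (9,0,[502,833,717]),
    (8,0,[477,833,710]), (2,0,[813,811]), (2,0,[831,808]), (15,0,[431,833,708]), (2,0,[831,806]),
    (15,0,[431,839,725]), (2,0,[831,822,783]), (2,0,[831,827]), (9,0,[502,849,703]), (8,0,[477,849,696]),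
    (2,0,[851,785]), (2,0,[835,789]), (15,0,[431,849,700,858]), (9,0,[502,857,655,854]), (2,0,[861,863]),
    (2,0,[861,853]), (2,0,[865,837,787]), (2,0,[861,859]), (11,0,[418,869,645,870]), (2,0,[831,794]),
    (2,0,[813,800]), (2,0,[831,817]), (20,0,[171,875,558,878]), (2,0,[867,798]), (2,0,[872,815]),
    (20,0,[155,883,616]), (20,0,[171,877,133]), (2,0,[888,881]), (2,0,[891,845]), (2,0,[891,831]),
    (9,0,[44,893,619,884]), (2,0,[897,847]), (8,0,[391,893,640,898]), (2,0,[891,851]),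
    (10,0,[397,893,600,902]), (2,0,[905,891,841]), (2,0,[905,891]), (2,0,[905,895]), (5,0,[412,907,543,910]),
    (2,0,[897,872]), (2,0,[909,813]), (2,0,[897,861]), (18,0,[123,907,117]), (17,0,[462,907,541]),
    (2,0,[897,885]), (2,0,[897,865]), (18,0,[123,917,109]), (2,0,[928,921]), (17,0,[462,917,513]),
    (2,0,[897,843]), (20,0,[303,925,621]), (2,0,[900,937]), (2,0,[931,920]), (17,0,[462,911,81]),
    (19,0,[4,935,639]), (18,0,[53,919,105]), (18,0,[53,927,99]), (2,0,[948,947]), (2,0,[951,946]),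
    (18,0,[53,915,424]), (2,0,[953,955]), (3,0,[295,939,612,886]), (2,0,[959,887]), (11,0,[305,961,615,944]),
    (2,0,[962,901]), (17,0,[462,909,75]), (2,0,[966,943]), (2,0,[965,900]), (9,0,[254,971,391,904]),
    (2,0,[973,912]), (2,0,[973,905]), (18,0,[1,977,128]), (17,0,[3,975,142]), (6,0,[360,941,584,980]),
    (11,0,[356,941,561,978]), (2,0,[982,969,942]), (2,0,[987,923]), (8,0,[290,989,531,956]), (2,0,[987,933]),
    (2,0,[984,931]), (2,0,[982,969]), (14,0,[21,995,362,985]), (2,0,[998,996]), (2,0,[991,951]),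
    (2,0,[1001,993]), (2,0,[991,957]), (17,0,[0,1005,107,985]), (2,0,[1009,1007]), (2,0,[1009,1003]),
    (12,0,[261,1013,100]), (20,0,[5,1011,587]), (2,0,[965,1017]), (17,0,[199,1014]), (6,0,[250,1019,626]),
    (18,0,[1020,1022])]

def c2T : List (List ℕ × List ℕ) :=
    [([17],[1025])]

theorem c2C : cert [[17,1,6,18,20]] [1,2,3,4,5,6,7,8,9,10,11,12,13,14,15,16] c2W c2F c2S c2T = true := by decide +kernel

def c3W : List (List ℕ) :=
    [[], [1,2], [2,1], [3,4], [4,3], [5,6], [6,5], [7,8], [8,7], [9,9], [10,10], [11,12], [12,11], [13,14],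
    [14,13], [15,15], [16,16], [17,18], [18,17], [19,20], [20,19], [2,2,2], [6,6,6], [4,4,10], [4,8,15],
    [4,15,8], [8,8,10], [12,12,12], [14,14,14], [9,16,10], [2,6,1,5], [2,4,11,3], [2,8,1,7], [2,12,2,3],
    [2,12,3,12], [2,14,1,13], [2,3,11,4], [2,9,2,9], [2,16,2,16], [2,15,11,15], [2,10,1,10], [6,4,5,3],
    [6,8,13,7], [6,12,5,11], [6,14,6,7], [6,14,7,14], [6,7,13,8], [6,9,6,9], [6,16,6,16], [6,15,13,15],
    [6,10,5,10], [4,4,7,7], [4,4,9,16], [4,4,16,9], [4,14,3,13], [4,7,15,10], [4,9,3,16], [4,16,4,16],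
    [4,16,3,9], [4,15,3,15], [4,15,7,10], [4,15,10,7], [8,8,16,9], [8,12,7,11], [8,16,7,9], [12,14,11,13],
    [12,9,12,9], [12,16,12,16], [12,10,11,10], [14,9,14,9], [14,16,14,16], [14,10,13,10], [9,16,9,16],
    [9,15,9,15], [16,15,16,15], [17,17,17], [17,10,18,9], [17,9,18,16], [17,16,18,10], [17,15,18,15],
    [3,17,3,17], [17,1,13,18,20], [1,19,2,20], [5,19,6,20], [19,19,19], [9,19,9,20], [10,19,10,19]]

def c3F : Tr :=
    (.node (.node (.node (.node (.node (.node (.node (.node (.node (.node (.node .leaf 14 0 52 .leaf) 84 16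
    100 .leaf) 146 15 256 (.node .leaf 236 14 235 .leaf)) 49 20 128 (.node (.node .leaf 170 19 93 .leaf) 44 16
    40 (.node .leaf 187 0 117 .leaf))) 17 11 64 (.node (.node (.node (.node .leaf 122 0 0 .leaf) 143 17 144
    .leaf) 8 14 17 (.node .leaf 218 0 260 .leaf)) 92 11 192 (.node (.node .leaf 124 6 199 .leaf) 46 2 71
    (.node .leaf 228 0 177 .leaf)))) 6 13 32 (.node (.node (.node (.node (.node .leaf 0 0 1 .leaf) 118 5 55
    .leaf) 4 16 3 (.node .leaf 253 12 252 .leaf)) 74 11 160 (.node (.node .leaf 188 2 117 .leaf) 61 7 33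
    (.node .leaf 128 0 97 .leaf))) 34 4 96 (.node (.node (.node .leaf 157 5 88 .leaf) 7 2 30 (.node .leaf 221
    9 215 .leaf)) 125 18 224 (.node (.node .leaf 214 10 213 .leaf) 89 9 75 (.node .leaf 214 0 73 .leaf))))) 2
    2 16 (.node (.node (.node (.node (.node (.node .leaf 127 0 1 .leaf) 110 12 109 .leaf) 1 10 1 (.node .leaf
    248 6 211 .leaf)) 66 18 144 (.node (.node .leaf 182 7 97 .leaf) 52 10 51 (.node .leaf 235 0 161 .leaf)))
    28 4 80 (.node (.node (.node (.node .leaf 144 0 0 .leaf) 71 6 151 .leaf) 23 1 12 (.node .leaf 237 6 215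
    .leaf)) 119 14 208 (.node (.node .leaf 206 9 200 .leaf) 58 2 79 (.node .leaf 55 0 193 .leaf)))) 9 18 48
    (.node (.node (.node (.node (.node .leaf 102 0 0 .leaf) 127 10 128 .leaf) 8 15 12 (.node .leaf 229 1 258
    .leaf)) 84 14 176 (.node (.node .leaf 192 4 169 .leaf) 67 5 20 (.node .leaf 207 0 118 .leaf))) 40 11 112
    (.node (.node (.node .leaf 164 6 155 .leaf) 21 17 36 (.node .leaf 205 14 226 .leaf)) 132 19 240 (.node
    (.node .leaf 226 16 212 .leaf) 92 16 73 (.node .leaf 188 0 14 .leaf)))))) 1 6 8 (.node (.node (.node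
    (.node (.node (.node (.node .leaf 44 0 28 .leaf) 102 6 68 .leaf) 0 4 0 (.node .leaf 238 10 241 .leaf)) 58
    14 136 (.node (.node .leaf 177 8 97 .leaf) 49 11 12 (.node .leaf 249 0 119 .leaf))) 23 11 72 (.node (.node
    (.node (.node .leaf 0 0 70 .leaf) 149 2 124 .leaf) 10 2 19 (.node .leaf 237 0 252 .leaf)) 102 20 200
    (.node (.node .leaf 202 12 141 .leaf) 75 6 73 (.node .leaf 117 0 83 .leaf)))) 7 20 40 (.node (.node (.node
    (.node (.node .leaf 135 0 5 .leaf) 113 5 120 .leaf) 8 10 8 (.node .leaf 256 4 250 .leaf)) 76 11 168 (.node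
    (.node .leaf 189 2 119 .leaf) 64 8 46 (.node .leaf 113 0 167 .leaf))) 38 2 104 (.node (.node (.node .leaf
    161 12 160 .leaf) 34 2 28 (.node .leaf 238 0 218 .leaf)) 127 15 232 (.node (.node .leaf 223 4 214 .leaf)
    91 9 73 (.node .leaf 227 0 14 .leaf))))) 5 5 24 (.node (.node (.node (.node (.node (.node .leaf 46 0 1
    .leaf) 115 15 78 .leaf) 2 20 2 (.node .leaf 227 2 250 .leaf)) 71 20 152 (.node (.node .leaf 159 2 185
    .leaf) 46 17 52 (.node .leaf 213 0 174 .leaf))) 29 14 88 (.node (.node (.node .leaf 74 4 155 .leaf) 9 2 26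
    (.node .leaf 211 6 222 .leaf)) 124 13 216 (.node (.node .leaf 204 5 209 .leaf) 57 2 84 (.node .leaf 131 0
    98 .leaf)))) 13 17 56 (.node (.node (.node (.node (.node .leaf 0 0 43 .leaf) 138 7 93 .leaf) 9 4 15 (.node
    .leaf 223 13 261 .leaf)) 89 3 184 (.node (.node .leaf 166 2 193 .leaf) 69 2 46 (.node .leaf 100 0 136
    .leaf))) 45 12 120 (.node (.node (.node .leaf 167 5 84 .leaf) 9 6 41 (.node .leaf 199 0 169 .leaf)) 146 3
    248 (.node (.node .leaf 231 14 230 .leaf) 79 2 97 (.node .leaf 214 0 52 .leaf))))))) 0 20 4 (.node (.node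
    (.node (.node (.node (.node (.node (.node .leaf 79 0 44 .leaf) 101 3 57 .leaf) 147 14 260 (.node .leaf 237
    8 226 .leaf)) 55 14 132 (.node (.node .leaf 172 6 162 .leaf) 45 16 39 (.node .leaf 117 0 209 .leaf))) 19
    14 68 (.node (.node (.node (.node .leaf 202 0 0 .leaf) 127 2 146 .leaf) 18 7 12 (.node .leaf 249 14 214
    .leaf)) 98 13 196 (.node (.node .leaf 114 3 201 .leaf) 73 2 39 (.node .leaf 161 0 55 .leaf)))) 7 11 36
    (.node (.node (.node (.node (.node .leaf 180 0 0 .leaf) 57 6 119 .leaf) 6 10 6 (.node .leaf 230 2 254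
    .leaf)) 75 3 164 (.node (.node .leaf 189 4 92 .leaf) 63 2 56 (.node .leaf 161 0 146 .leaf))) 35 11 100
    (.node (.node (.node .leaf 85 6 158 .leaf) 31 9 24 (.node .leaf 230 6 225 .leaf)) 127 8 228 (.node (.node
    .leaf 218 17 208 .leaf) 89 10 90 (.node .leaf 166 0 100 .leaf))))) 2 12 20 (.node (.node (.node (.node
    (.node (.node .leaf 5 0 12 .leaf) 58 5 113 .leaf) 2 9 2 (.node .leaf 249 11 226 .leaf)) 69 17 148 (.node
    (.node .leaf 161 2 184 .leaf) 55 12 54 (.node .leaf 230 0 147 .leaf))) 28 12 84 (.node (.node (.node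
    (.node .leaf 244 0 0 .leaf) 152 16 153 .leaf) 25 6 24 (.node .leaf 212 6 217 .leaf)) 124 4 212 (.node
    (.node .leaf 205 10 206 .leaf) 83 3 58 (.node .leaf 209 0 83 .leaf)))) 13 4 52 (.node (.node (.node (.node
    (.node .leaf 48 0 2 .leaf) 136 9 133 .leaf) 14 16 13 (.node .leaf 216 6 260 .leaf)) 84 20 180 (.node
    (.node .leaf 192 2 118 .leaf) 68 7 41 (.node .leaf 97 0 132 .leaf))) 42 13 116 (.node (.node (.node .leaf
    166 3 120 .leaf) 14 5 40 (.node .leaf 222 0 192 .leaf)) 139 17 244 (.node (.node .leaf 228 16 214 .leaf)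
    96 4 35 (.node .leaf 14 0 132 .leaf)))))) 1 14 12 (.node (.node (.node (.node (.node (.node (.node .leaf
    13 0 1 .leaf) 40 4 106 .leaf) 0 12 0 (.node .leaf 243 14 171 .leaf)) 65 12 140 (.node (.node .leaf 181 1
    129 .leaf) 50 15 33 (.node .leaf 191 0 161 .leaf))) 25 20 76 (.node (.node (.node (.node .leaf 139 0 0
    .leaf) 150 9 147 .leaf) 10 7 20 (.node .leaf 232 12 147 .leaf)) 112 20 204 (.node (.node .leaf 205 6 127
    .leaf) 77 14 71 (.node .leaf 156 0 51 .leaf)))) 8 19 44 (.node (.node (.node (.node (.node .leaf 107 0 0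
    .leaf) 126 17 77 .leaf) 10 16 9 (.node .leaf 246 13 257 .leaf)) 79 14 172 (.node (.node .leaf 159 9 190
    .leaf) 38 3 65 (.node .leaf 100 0 203 .leaf))) 39 7 108 (.node (.node (.node .leaf 162 7 155 .leaf) 34 10
    35 (.node .leaf 214 12 152 .leaf)) 128 14 236 (.node (.node .leaf 225 9 212 .leaf) 92 1 45 (.node .leaf
    215 0 98 .leaf))))) 5 19 28 (.node (.node (.node (.node (.node (.node .leaf 1 0 2 .leaf) 102 9 116 .leaf)
    1 7 2 (.node .leaf 251 1 228 .leaf)) 73 4 156 (.node (.node .leaf 167 9 186 .leaf) 58 9 57 (.node .leaf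
    127 0 100 .leaf))) 31 20 92 (.node (.node (.node .leaf 110 2 156 .leaf) 14 1 29 (.node .leaf 231 0 220
    .leaf)) 125 11 220 (.node (.node .leaf 212 10 211 .leaf) 87 10 84 (.node .leaf 193 0 55 .leaf)))) 15 6 60
    (.node (.node (.node (.node (.node .leaf 0 0 148 .leaf) 140 9 139 .leaf) 6 8 16 (.node .leaf 251 0 249
    .leaf)) 91 3 188 (.node (.node .leaf 99 12 196 .leaf) 68 9 69 (.node .leaf 154 0 79 .leaf))) 46 19 124
    (.node (.node (.node .leaf 169 12 168 .leaf) 37 5 42 (.node .leaf 235 0 191 .leaf)) 146 11 252 (.node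
    (.node .leaf 234 16 215 .leaf) 85 9 99 (.node .leaf 174 0 14 .leaf)))))))) 0 18 2 (.node (.node (.node
    (.node (.node (.node (.node (.node (.node .leaf 213 0 13 .leaf) 101 12 100 .leaf) 147 11 258 (.node .leaf
    236 16 216 .leaf)) 54 13 130 (.node (.node .leaf 171 6 78 .leaf) 40 5 45 (.node .leaf 169 0 110 .leaf)))
    18 11 66 (.node (.node (.node (.node .leaf 123 0 0 .leaf) 145 3 78 .leaf) 18 6 17 (.node .leaf 249 5 217
    .leaf)) 96 19 194 (.node (.node .leaf 147 5 200 .leaf) 68 2 72 (.node .leaf 131 0 195 .leaf)))) 6 19 34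
    (.node (.node (.node (.node (.node .leaf 69 0 0 .leaf) 119 6 112 .leaf) 6 2 5 (.node .leaf 252 2 234
    .leaf)) 74 15 162 (.node (.node .leaf 164 11 188 .leaf) 62 7 23 (.node .leaf 190 0 150 .leaf))) 34 12 98
    (.node (.node (.node .leaf 158 8 74 .leaf) 31 6 30 (.node .leaf 220 14 230 .leaf)) 127 4 226 (.node (.node
    .leaf 218 4 213 .leaf) 90 1 40 (.node .leaf 73 0 208 .leaf))))) 2 6 18 (.node (.node (.node (.node (.node
    (.node .leaf 5 0 9 .leaf) 103 13 111 .leaf) 1 16 1 (.node .leaf 249 4 147 .leaf)) 68 19 146 (.node (.node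
    .leaf 184 2 109 .leaf) 52 16 52 (.node .leaf 222 0 176 .leaf))) 28 8 82 (.node (.node (.node (.node .leaf
    244 0 245 .leaf) 153 2 127 .leaf) 24 2 7 (.node .leaf 153 12 228 .leaf)) 121 17 210 (.node (.node .leaf
    200 1 206 .leaf) 55 2 80 (.node .leaf 113 0 98 .leaf)))) 10 18 50 (.node (.node (.node (.node (.node .leaf
    12 0 0 .leaf) 132 9 130 .leaf) 14 9 14 (.node .leaf 260 14 259 .leaf)) 84 18 178 (.node (.node .leaf 100 6
    192 .leaf) 68 1 49 (.node .leaf 147 0 58 .leaf))) 40 17 114 (.node (.node (.node .leaf 165 4 76 .leaf) 38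
    16 38 (.node .leaf 206 0 119 .leaf)) 136 20 242 (.node (.node .leaf 227 9 214 .leaf) 35 4 95 (.node .leaf
    100 0 14 .leaf)))))) 1 12 10 (.node (.node (.node (.node (.node (.node (.node .leaf 54 0 28 .leaf) 46 6
    102 .leaf) 0 9 0 (.node .leaf 242 9 241 .leaf)) 61 1 138 (.node (.node .leaf 180 1 135 .leaf) 49 10 49
    (.node .leaf 193 0 147 .leaf))) 24 20 74 (.node (.node (.node (.node .leaf 0 0 210 .leaf) 147 16 149
    .leaf) 20 3 6 (.node .leaf 232 2 229 .leaf)) 107 18 202 (.node (.node .leaf 203 2 183 .leaf) 74 5 76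
    (.node .leaf 110 0 101 .leaf)))) 8 12 42 (.node (.node (.node (.node (.node .leaf 185 0 0 .leaf) 124 19
    125 .leaf) 9 10 9 (.node .leaf 256 3 251 .leaf)) 78 1 170 (.node (.node .leaf 190 6 186 .leaf) 46 8 64
    (.node .leaf 87 0 118 .leaf))) 39 3 106 (.node (.node (.node .leaf 109 2 161 .leaf) 13 2 34 (.node .leaf
    162 19 130 .leaf)) 128 12 234 (.node (.node .leaf 224 9 219 .leaf) 34 6 91 (.node .leaf 175 0 164
    .leaf))))) 5 12 26 (.node (.node (.node (.node (.node (.node .leaf 149 0 5 .leaf) 116 10 116 .leaf) 1 3 2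
    (.node .leaf 251 15 248 .leaf)) 72 20 154 (.node (.node .leaf 186 3 161 .leaf) 57 10 54 (.node .leaf 124 0
    87 .leaf))) 30 20 90 (.node (.node (.node .leaf 156 4 74 .leaf) 12 1 27 (.node .leaf 215 0 236 .leaf)) 124
    15 218 (.node (.node .leaf 132 17 211 .leaf) 52 2 86 (.node .leaf 177 0 155 .leaf)))) 14 12 58 (.node
    (.node (.node (.node (.node .leaf 151 0 0 .leaf) 94 0 93 .leaf) 16 12 5 (.node .leaf 262 15 257 .leaf)) 89
    11 186 (.node (.node .leaf 196 18 124 .leaf) 49 6 69 (.node .leaf 69 0 134 .leaf))) 45 17 122 (.node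
    (.node (.node .leaf 119 2 167 .leaf) 42 9 36 (.node .leaf 205 0 187 .leaf)) 146 7 250 (.node (.node .leaf
    232 9 218 .leaf) 98 2 52 (.node .leaf 124 0 52 .leaf))))))) 1 2 6 (.node (.node (.node (.node (.node
    (.node (.node (.node .leaf 112 0 13 .leaf) 83 2 101 .leaf) 147 17 262 (.node .leaf 238 19 239 .leaf)) 57
    19 134 (.node (.node .leaf 174 7 84 .leaf) 46 12 11 (.node .leaf 212 0 97 .leaf))) 21 20 70 (.node (.node
    (.node (.node .leaf 126 0 0 .leaf) 125 5 147 .leaf) 19 15 15 (.node .leaf 248 5 222 .leaf)) 100 13 198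
    (.node (.node .leaf 201 13 140 .leaf) 73 10 74 (.node .leaf 225 0 84 .leaf)))) 7 17 38 (.node (.node
    (.node (.node (.node .leaf 84 0 0 .leaf) 120 12 119 .leaf) 8 6 7 (.node .leaf 255 14 254 .leaf)) 75 11 166
    (.node (.node .leaf 167 2 189 .leaf) 23 6 63 (.node .leaf 176 0 149 .leaf))) 36 14 102 (.node (.node
    (.node .leaf 160 3 110 .leaf) 25 1 31 (.node .leaf 216 19 172 .leaf)) 127 13 230 (.node (.node .leaf 220
    10 215 .leaf) 91 2 75 (.node .leaf 87 0 73 .leaf))))) 3 17 22 (.node (.node (.node (.node (.node (.node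
    .leaf 14 0 1 .leaf) 114 1 105 .leaf) 2 10 2 (.node .leaf 249 2 233 .leaf)) 69 20 150 (.node (.node .leaf
    185 11 107 .leaf) 15 13 56 (.node .leaf 152 0 96 .leaf))) 29 11 86 (.node (.node (.node (.node .leaf 0 18
    0 .leaf) 128 1 154 .leaf) 8 1 25 (.node .leaf 212 14 200 .leaf)) 124 8 214 (.node (.node .leaf 208 1 197
    .leaf) 51 2 83 (.node .leaf 14 0 182 .leaf)))) 13 11 54 (.node (.node (.node (.node (.node .leaf 23 0 0
    .leaf) 137 3 115 .leaf) 9 3 15 (.node .leaf 261 10 256 .leaf)) 87 15 182 (.node (.node .leaf 193 3 119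
    .leaf) 60 15 68 (.node .leaf 254 0 79 .leaf))) 44 12 118 (.node (.node (.node .leaf 83 6 166 .leaf) 41 15
    27 (.node .leaf 147 0 159 .leaf)) 145 1 246 (.node (.node .leaf 217 9 230 .leaf) 84 2 96 (.node .leaf 73 0
    52 .leaf)))))) 1 20 14 (.node (.node (.node (.node (.node (.node (.node .leaf 149 0 28 .leaf) 108 7 40
    .leaf) 0 15 0 (.node .leaf 243 15 247 .leaf)) 65 14 142 (.node (.node .leaf 88 11 181 .leaf) 14 4 51
    (.node .leaf 248 0 187 .leaf))) 27 18 78 (.node (.node (.node (.node .leaf 143 0 0 .leaf) 150 16 146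
    .leaf) 22 2 11 (.node .leaf 218 5 216 .leaf)) 116 20 206 (.node (.node .leaf 200 16 205 .leaf) 33 20 78
    (.node .leaf 190 0 54 .leaf)))) 9 13 46 (.node (.node (.node (.node (.node .leaf 2 0 0 .leaf) 127 16 125
    .leaf) 6 15 10 (.node .leaf 258 6 220 .leaf)) 82 12 174 (.node (.node .leaf 119 3 191 .leaf) 42 2 66
    (.node .leaf 149 0 54 .leaf))) 39 12 110 (.node (.node (.node .leaf 91 7 163 .leaf) 36 15 22 (.node .leaf
    235 4 206 .leaf)) 130 19 238 (.node (.node .leaf 136 17 225 .leaf) 90 5 92 (.node .leaf 98 0 185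
    .leaf))))) 6 5 30 (.node (.node (.node (.node (.node (.node .leaf 178 0 1 .leaf) 54 6 117 .leaf) 4 9 4
    (.node .leaf 217 6 251 .leaf)) 73 8 158 (.node (.node .leaf 156 2 187 .leaf) 60 4 41 (.node .leaf 46 0 179
    .leaf))) 33 6 94 (.node (.node (.node .leaf 157 15 156 .leaf) 30 2 24 (.node .leaf 215 14 235 .leaf)) 125
    14 222 (.node (.node .leaf 213 7 125 .leaf) 59 1 88 (.node .leaf 87 0 120 .leaf)))) 16 6 62 (.node (.node
    (.node (.node (.node .leaf 121 0 0 .leaf) 142 9 141 .leaf) 17 10 17 (.node .leaf 261 0 146 .leaf)) 91 11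
    190 (.node (.node .leaf 176 16 198 .leaf) 71 2 69 (.node .leaf 225 0 120 .leaf))) 48 20 126 (.node (.node
    (.node .leaf 161 5 169 .leaf) 44 9 39 (.node .leaf 150 0 57 .leaf)) 146 13 254 (.node (.node .leaf 235 10
    230 .leaf) 100 4 87 (.node .leaf 13 0 52 .leaf))))))))) 0 17 1 (.node (.node (.node (.node (.node (.node
    (.node (.node (.node (.node .leaf 14 0 13 .leaf) 100 2 55 .leaf) 146 17 257 (.node .leaf 236 9 221 .leaf))
    52 14 129 (.node (.node .leaf 170 5 78 .leaf) 45 5 14 (.node .leaf 225 0 208 .leaf))) 17 18 65 (.node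
    (.node (.node (.node .leaf 123 0 43 .leaf) 145 15 137 .leaf) 11 8 17 (.node .leaf 249 1 228 .leaf)) 92 12
    193 (.node (.node .leaf 200 5 125 .leaf) 72 6 71 (.node .leaf 227 0 182 .leaf)))) 6 18 33 (.node (.node
    (.node (.node (.node .leaf 179 0 0 .leaf) 110 5 118 .leaf) 5 10 5 (.node .leaf 233 3 253 .leaf)) 74 12 161
    (.node (.node .leaf 92 4 188 .leaf) 62 1 18 (.node .leaf 185 0 154 .leaf))) 34 11 97 (.node (.node (.node
    .leaf 157 18 73 .leaf) 25 9 30 (.node .leaf 221 11 127 .leaf)) 127 3 225 (.node (.node .leaf 217 14 216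
    .leaf) 39 2 89 (.node .leaf 208 0 84 .leaf))))) 2 5 17 (.node (.node (.node (.node (.node (.node .leaf 215
    0 5 .leaf) 55 5 110 .leaf) 1 9 1 (.node .leaf 147 4 248 .leaf)) 68 17 145 (.node (.node .leaf 156 13 183
    .leaf) 52 9 51 (.node .leaf 192 0 176 .leaf))) 28 7 81 (.node (.node (.node (.node .leaf 0 17 245 .leaf)
    152 1 125 .leaf) 6 14 23 (.node .leaf 223 5 221 .leaf)) 119 20 209 (.node (.node .leaf 205 19 206 .leaf)
    80 4 29 (.node .leaf 58 0 55 .leaf)))) 10 14 49 (.node (.node (.node (.node (.node .leaf 8 0 0 .leaf) 124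
    16 128 .leaf) 13 9 13 (.node .leaf 259 7 217 .leaf)) 84 15 177 (.node (.node .leaf 192 6 187 .leaf) 67 7
    49 (.node .leaf 207 0 87 .leaf))) 40 12 113 (.node (.node (.node .leaf 120 2 164 .leaf) 10 5 37 (.node
    .leaf 167 0 200 .leaf)) 133 20 241 (.node (.node .leaf 227 7 128 .leaf) 95 2 54 (.node .leaf 100 0 188
    .leaf)))))) 1 11 9 (.node (.node (.node (.node (.node (.node (.node .leaf 54 0 44 .leaf) 102 10 102 .leaf)
    0 6 0 (.node .leaf 240 16 241 .leaf)) 60 17 137 (.node (.node .leaf 134 2 179 .leaf) 49 9 46 (.node .leaf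
    193 0 159 .leaf))) 24 19 73 (.node (.node (.node (.node .leaf 0 17 210 .leaf) 127 6 149 .leaf) 20 2 9
    (.node .leaf 223 0 255 .leaf)) 106 18 201 (.node (.node .leaf 202 14 139 .leaf) 28 6 75 (.node .leaf 100 0
    178 .leaf)))) 8 11 41 (.node (.node (.node (.node (.node .leaf 5 0 0 .leaf) 122 17 123 .leaf) 9 15 5
    (.node .leaf 256 11 232 .leaf)) 76 12 169 (.node (.node .leaf 190 4 167 .leaf) 64 13 41 (.node .leaf 89 0
    45 .leaf))) 38 14 105 (.node (.node (.node .leaf 161 10 159 .leaf) 34 9 28 (.node .leaf 239 0 162 .leaf))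
    128 11 233 (.node (.node .leaf 223 17 203 .leaf) 44 2 91 (.node .leaf 14 0 51 .leaf))))) 5 6 25 (.node
    (.node (.node (.node (.node (.node .leaf 223 0 1 .leaf) 116 2 102 .leaf) 1 17 2 (.node .leaf 222 6 250
    .leaf)) 72 19 153 (.node (.node .leaf 185 2 112 .leaf) 53 18 24 (.node .leaf 112 0 97 .leaf))) 30 19 89
    (.node (.node (.node .leaf 113 2 155 .leaf) 27 1 23 (.node .leaf 211 14 199 .leaf)) 124 14 217 (.node
    (.node .leaf 125 4 211 .leaf) 86 3 55 (.node .leaf 177 0 189 .leaf)))) 14 11 57 (.node (.node (.node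
    (.node (.node .leaf 0 17 148 .leaf) 138 13 61 .leaf) 16 2 15 (.node .leaf 262 1 247 .leaf)) 89 4 185
    (.node (.node .leaf 179 2 194 .leaf) 69 8 37 (.node .leaf 218 0 14 .leaf))) 45 13 121 (.node (.node (.node
    .leaf 159 5 167 .leaf) 42 5 10 (.node .leaf 167 13 212 .leaf)) 146 4 249 (.node (.node .leaf 232 8 225
    .leaf) 84 9 97 (.node .leaf 155 0 13 .leaf))))))) 1 1 5 (.node (.node (.node (.node (.node (.node (.node
    (.node .leaf 124 0 13 .leaf) 101 10 98 .leaf) 147 15 261 (.node .leaf 237 16 218 .leaf)) 57 13 133 (.node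
    (.node .leaf 84 7 173 .leaf) 46 15 24 (.node .leaf 199 0 110 .leaf))) 20 13 69 (.node (.node (.node (.node
    .leaf 66 0 0 .leaf) 147 1 128 .leaf) 19 4 5 (.node .leaf 248 1 227 .leaf)) 99 15 197 (.node (.node .leaf
    201 11 142 .leaf) 73 6 28 (.node .leaf 192 0 54 .leaf)))) 7 12 37 (.node (.node (.node (.node (.node .leaf
    0 0 3 .leaf) 110 16 119 .leaf) 7 10 7 (.node .leaf 213 6 254 .leaf)) 75 4 165 (.node (.node .leaf 189 15
    163 .leaf) 63 12 22 (.node .leaf 73 0 232 .leaf))) 35 12 101 (.node (.node (.node .leaf 91 17 158 .leaf)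
    31 10 31 (.node .leaf 150 12 218 .leaf)) 127 12 229 (.node (.node .leaf 162 20 218 .leaf) 90 16 75 (.node
    .leaf 124 0 73 .leaf))))) 3 15 21 (.node (.node (.node (.node (.node (.node .leaf 219 0 0 .leaf) 114 16
    111 .leaf) 2 16 2 (.node .leaf 212 5 249 .leaf)) 69 19 149 (.node (.node .leaf 185 4 90 .leaf) 55 9 54
    (.node .leaf 147 0 198 .leaf))) 28 14 85 (.node (.node (.node (.node .leaf 245 0 0 .leaf) 154 1 147 .leaf)
    25 10 25 (.node .leaf 200 3 217 .leaf)) 124 7 213 (.node (.node .leaf 206 16 199 .leaf) 83 4 55 (.node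
    .leaf 204 0 166 .leaf)))) 13 7 53 (.node (.node (.node (.node (.node .leaf 48 0 0 .leaf) 136 10 132 .leaf)
    15 19 15 (.node .leaf 261 11 237 .leaf)) 86 14 181 (.node (.node .leaf 193 12 192 .leaf) 68 10 68 (.node
    .leaf 230 0 58 .leaf))) 44 11 117 (.node (.node (.node .leaf 166 4 118 .leaf) 39 10 40 (.node .leaf 125 0
    84 .leaf)) 141 17 245 (.node (.node .leaf 229 9 215 .leaf) 96 11 52 (.node .leaf 97 0 14 .leaf)))))) 1 19
    13 (.node (.node (.node (.node (.node (.node (.node .leaf 124 0 1 .leaf) 107 10 106 .leaf) 0 14 0 (.node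
    .leaf 171 12 246 .leaf)) 65 13 141 (.node (.node .leaf 181 3 132 .leaf) 51 16 51 (.node .leaf 211 0 100
    .leaf))) 26 14 77 (.node (.node (.node (.node .leaf 143 0 210 .leaf) 149 19 150 .leaf) 5 13 22 (.node
    .leaf 218 1 236 .leaf)) 116 19 205 (.node (.node .leaf 149 6 205 .leaf) 77 1 47 (.node .leaf 54 0 57
    .leaf)))) 8 20 45 (.node (.node (.node (.node (.node .leaf 167 0 0 .leaf) 127 9 124 .leaf) 10 10 10 (.node
    .leaf 243 12 257 .leaf)) 81 12 173 (.node (.node .leaf 161 16 190 .leaf) 66 6 64 (.node .leaf 235 0 55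
    .leaf))) 39 11 109 (.node (.node (.node .leaf 163 9 158 .leaf) 35 16 28 (.node .leaf 206 4 230 .leaf)) 128
    15 237 (.node (.node .leaf 128 4 225 .leaf) 92 5 35 (.node .leaf 185 0 79 .leaf))))) 5 20 29 (.node (.node
    (.node (.node (.node (.node .leaf 5 0 8 .leaf) 49 5 116 .leaf) 2 7 1 (.node .leaf 214 13 251 .leaf)) 73 7
    157 (.node (.node .leaf 186 2 113 .leaf) 58 10 55 (.node .leaf 224 0 178 .leaf))) 33 1 93 (.node (.node
    (.node .leaf 157 2 108 .leaf) 28 10 29 (.node .leaf 215 13 128 .leaf)) 125 13 221 (.node (.node .leaf 130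
    17 212 .leaf) 54 2 87 (.node .leaf 248 0 83 .leaf)))) 15 17 61 (.node (.node (.node (.node (.node .leaf 0
    19 0 .leaf) 104 3 140 .leaf) 17 3 7 (.node .leaf 250 0 248 .leaf)) 91 4 189 (.node (.node .leaf 197 13 189
    .leaf) 71 12 63 (.node .leaf 226 0 87 .leaf))) 46 20 125 (.node (.node (.node .leaf 169 10 167 .leaf) 44 6
    39 (.node .leaf 230 0 193 .leaf)) 146 12 253 (.node (.node .leaf 234 10 229 .leaf) 100 3 84 (.node .leaf
    228 0 13 .leaf)))))))) 0 19 3 (.node (.node (.node (.node (.node (.node (.node (.node (.node .leaf 223 0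
    13 .leaf) 101 2 51 .leaf) 147 13 259 (.node .leaf 236 10 231 .leaf)) 55 13 131 (.node (.node .leaf 172 1
    136 .leaf) 44 10 45 (.node .leaf 205 0 117 .leaf))) 18 12 67 (.node (.node (.node (.node .leaf 202 0 43
    .leaf) 146 6 124 .leaf) 18 14 7 (.node .leaf 249 8 147 .leaf)) 97 14 195 (.node (.node .leaf 199 10 200
    .leaf) 72 2 49 (.node .leaf 156 0 188 .leaf)))) 6 20 35 (.node (.node (.node (.node (.node .leaf 71 0 0
    .leaf) 119 10 117 .leaf) 6 9 5 (.node .leaf 254 7 222 .leaf)) 74 17 163 (.node (.node .leaf 169 2 188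
    .leaf) 42 4 62 (.node .leaf 190 0 57 .leaf))) 34 13 99 (.node (.node (.node .leaf 158 10 157 .leaf) 31 1 8
    (.node .leaf 216 1 237 .leaf)) 127 7 227 (.node (.node .leaf 218 7 212 .leaf) 74 1 90 (.node .leaf 84 0 73
    .leaf))))) 2 11 19 (.node (.node (.node (.node (.node (.node .leaf 190 0 5 .leaf) 112 6 57 .leaf) 1 15 1
    (.node .leaf 249 10 248 .leaf)) 68 20 147 (.node (.node .leaf 184 16 164 .leaf) 53 15 52 (.node .leaf 221
    0 175 .leaf))) 28 11 83 (.node (.node (.node (.node .leaf 0 0 245 .leaf) 146 2 153 .leaf) 24 10 24 (.node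
    .leaf 217 3 199 .leaf)) 124 3 211 (.node (.node .leaf 128 5 206 .leaf) 81 2 53 (.node .leaf 167 0 98
    .leaf)))) 13 3 51 (.node (.node (.node (.node (.node .leaf 9 0 0 .leaf) 133 10 130 .leaf) 13 10 14 (.node
    .leaf 260 1 236 .leaf)) 84 19 179 (.node (.node .leaf 159 16 192 .leaf) 68 6 46 (.node .leaf 215 0 131
    .leaf))) 41 18 115 (.node (.node (.node .leaf 118 2 165 .leaf) 39 6 13 (.node .leaf 217 0 190 .leaf)) 137
    6 243 (.node (.node .leaf 228 8 128 .leaf) 87 2 95 (.node .leaf 198 0 55 .leaf)))))) 1 13 11 (.node (.node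
    (.node (.node (.node (.node (.node .leaf 204 0 13 .leaf) 104 16 103 .leaf) 0 10 0 (.node .leaf 238 16 242
    .leaf)) 65 11 139 (.node (.node .leaf 179 19 180 .leaf) 50 10 48 (.node .leaf 190 13 124 .leaf))) 25 19 75
    (.node (.node (.node (.node .leaf 141 0 0 .leaf) 150 5 128 .leaf) 20 9 19 (.node .leaf 232 6 220 .leaf))
    110 13 203 (.node (.node .leaf 181 15 203 .leaf) 75 10 76 (.node .leaf 169 0 101 .leaf)))) 8 18 43 (.node
    (.node (.node (.node (.node .leaf 45 0 0 .leaf) 124 10 125 .leaf) 10 9 9 (.node .leaf 218 13 256 .leaf))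
    78 2 171 (.node (.node .leaf 97 6 190 .leaf) 65 9 65 (.node .leaf 146 0 55 .leaf))) 39 4 107 (.node (.node
    (.node .leaf 162 4 158 .leaf) 35 1 14 (.node .leaf 235 6 226 .leaf)) 128 13 235 (.node (.node .leaf 225 16
    211 .leaf) 74 16 91 (.node .leaf 221 0 164 .leaf))))) 5 14 27 (.node (.node (.node (.node (.node (.node
    .leaf 203 0 1 .leaf) 69 6 116 .leaf) 1 4 2 (.node .leaf 251 8 147 .leaf)) 73 3 155 (.node (.node .leaf 155
    2 186 .leaf) 58 12 57 (.node .leaf 223 0 177 .leaf))) 31 19 91 (.node (.node (.node .leaf 156 10 155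
    .leaf) 28 2 13 (.node .leaf 221 0 229 .leaf)) 124 18 219 (.node (.node .leaf 212 4 125 .leaf) 87 12 86
    (.node .leaf 147 0 55 .leaf)))) 14 14 59 (.node (.node (.node (.node (.node .leaf 77 0 0 .leaf) 93 5 33
    .leaf) 16 3 10 (.node .leaf 256 0 147 .leaf)) 90 11 187 (.node (.node .leaf 130 4 196 .leaf) 32 4 69
    (.node .leaf 54 0 135 .leaf))) 45 18 123 (.node (.node (.node .leaf 168 3 118 .leaf) 42 10 42 (.node .leaf
    167 19 102 .leaf)) 146 8 251 (.node (.node .leaf 234 12 233 .leaf) 98 3 54 (.node .leaf 174 0 51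
    .leaf))))))) 1 5 7 (.node (.node (.node (.node (.node (.node (.node (.node .leaf 185 0 44 .leaf) 102 14 66
    .leaf) 0 2 0 (.node .leaf 240 9 238 .leaf)) 57 20 135 (.node (.node .leaf 176 14 175 .leaf) 46 10 46
    (.node .leaf 249 0 186 .leaf))) 22 12 71 (.node (.node (.node (.node .leaf 0 18 70 .leaf) 146 10 147
    .leaf) 19 10 19 (.node .leaf 146 7 248 .leaf)) 102 19 199 (.node (.node .leaf 202 9 201 .leaf) 75 2 44
    (.node .leaf 73 0 173 .leaf)))) 7 19 39 (.node (.node (.node (.node (.node .leaf 0 0 4 .leaf) 120 5 58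
    .leaf) 8 9 7 (.node .leaf 221 6 255 .leaf)) 75 12 167 (.node (.node .leaf 162 17 189 .leaf) 64 6 19 (.node
    .leaf 155 0 189 .leaf))) 38 1 103 (.node (.node (.node .leaf 160 4 113 .leaf) 32 2 22 (.node .leaf 237 0
    242 .leaf)) 127 14 231 (.node (.node .leaf 222 14 221 .leaf) 91 6 89 (.node .leaf 223 0 155 .leaf))))) 4
    17 23 (.node (.node (.node (.node (.node (.node .leaf 46 0 14 .leaf) 104 14 114 .leaf) 2 15 2 (.node .leaf
    250 7 147 .leaf)) 70 17 151 (.node (.node .leaf 185 9 164 .leaf) 46 4 56 (.node .leaf 214 0 173 .leaf)))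
    29 12 87 (.node (.node (.node .leaf 155 6 79 .leaf) 26 12 16 (.node .leaf 222 3 200 .leaf)) 124 11 215
    (.node (.node .leaf 208 15 196 .leaf) 84 12 83 (.node .leaf 98 0 195 .leaf)))) 13 12 55 (.node (.node
    (.node (.node (.node .leaf 0 18 43 .leaf) 137 8 78 .leaf) 6 12 15 (.node .leaf 261 7 248 .leaf)) 88 15 183
    (.node (.node .leaf 193 5 101 .leaf) 27 3 68 (.node .leaf 208 0 120 .leaf))) 45 11 119 (.node (.node
    (.node .leaf 167 12 166 .leaf) 41 6 36 (.node .leaf 119 0 186 .leaf)) 145 14 247 (.node (.node .leaf 222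
    16 230 .leaf) 97 4 84 (.node .leaf 71 0 194 .leaf)))))) 2 1 15 (.node (.node (.node (.node (.node (.node
    (.node .leaf 28 0 5 .leaf) 59 6 108 .leaf) 0 16 0 (.node .leaf 248 11 225 .leaf)) 66 17 143 (.node (.node
    .leaf 125 17 181 .leaf) 52 4 14 (.node .leaf 248 0 117 .leaf))) 28 3 79 (.node (.node (.node (.node .leaf
    144 0 70 .leaf) 151 1 102 .leaf) 23 9 22 (.node .leaf 237 2 234 .leaf)) 117 14 207 (.node (.node .leaf 206
    5 150 .leaf) 29 4 79 (.node .leaf 193 0 58 .leaf)))) 9 14 47 (.node (.node (.node (.node (.node .leaf 102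
    0 3 .leaf) 128 9 125 .leaf) 11 15 7 (.node .leaf 258 10 252 .leaf)) 84 13 175 (.node (.node .leaf 192 3
    167 .leaf) 36 13 66 (.node .leaf 226 0 207 .leaf))) 39 17 111 (.node (.node (.node .leaf 163 6 99 .leaf)
    36 10 36 (.node .leaf 206 14 225 .leaf)) 130 20 239 (.node (.node .leaf 226 4 128 .leaf) 91 10 92 (.node
    .leaf 98 0 79 .leaf))))) 6 6 31 (.node (.node (.node (.node (.node (.node .leaf 224 0 1 .leaf) 118 12 117
    .leaf) 3 10 4 (.node .leaf 252 6 215 .leaf)) 73 12 159 (.node (.node .leaf 167 16 187 .leaf) 61 3 48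
    (.node .leaf 87 0 180 .leaf))) 34 3 95 (.node (.node (.node .leaf 81 13 157 .leaf) 30 10 30 (.node .leaf
    216 0 234 .leaf)) 125 15 223 (.node (.node .leaf 214 8 125 .leaf) 89 2 73 (.node .leaf 87 0 84 .leaf))))
    16 13 63 (.node (.node (.node (.node (.node .leaf 122 0 148 .leaf) 105 3 142 .leaf) 11 7 17 (.node .leaf
    232 0 258 .leaf)) 91 12 191 (.node (.node .leaf 199 6 146 .leaf) 71 14 26 (.node .leaf 120 0 84 .leaf)))
    49 19 127 (.node (.node (.node .leaf 117 2 169 .leaf) 13 6 44 (.node .leaf 128 0 112 .leaf)) 146 14 255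
    (.node (.node .leaf 217 16 235 .leaf) 100 10 97 (.node .leaf 213 0 14 .leaf))))))))))

def c3S : List (ℕ × ℕ × List ℕ) :=
    [(0,0,[]), (0,0,[]), (0,0,[]), (0,0,[]), (0,0,[]), (0,0,[]), (0,0,[]), (0,0,[]), (0,0,[]), (0,0,[]),
    (0,0,[]), (0,0,[]), (0,0,[]), (0,0,[]), (0,0,[]), (0,0,[]), (0,0,[]), (0,0,[]), (0,0,[]), (0,0,[]),
    (0,0,[]), (0,0,[]), (0,0,[]), (0,0,[]), (0,0,[]), (0,0,[]), (0,0,[]), (0,0,[]), (0,0,[]), (0,0,[]),
    (0,0,[]), (0,0,[]), (0,0,[]), (0,0,[]), (0,0,[]), (0,0,[]), (0,0,[]), (0,0,[]), (0,0,[]), (0,0,[]),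
    (0,0,[]), (0,0,[]), (0,0,[]), (0,0,[]), (0,0,[]), (0,0,[]), (0,0,[]), (0,0,[]), (0,0,[]), (0,0,[]),
    (0,0,[]), (0,0,[]), (0,0,[]), (0,0,[]), (0,0,[]), (0,0,[]), (0,0,[]), (0,0,[]), (0,0,[]), (0,0,[]),
    (0,0,[]), (0,0,[]), (0,0,[]), (0,0,[]), (0,0,[]), (0,0,[]), (0,0,[]), (0,0,[]), (0,0,[]), (0,0,[]),
    (0,0,[]), (0,0,[]), (0,0,[]), (0,0,[]), (0,0,[]), (0,0,[]), (0,0,[]), (0,0,[]), (0,0,[]), (0,0,[]),
    (0,0,[]), (0,0,[]), (0,0,[]), (0,0,[]), (0,0,[]), (0,0,[]), (0,0,[]), (0,0,[]), (0,0,[]), (0,0,[]),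
    (0,0,[]), (0,0,[]), (0,0,[]), (0,0,[]), (0,0,[]), (0,0,[]), (0,0,[]), (0,0,[]), (0,0,[]), (0,0,[]),
    (0,0,[]), (0,0,[]), (0,0,[]), (0,0,[]), (0,0,[]), (0,0,[]), (0,0,[]), (0,0,[]), (0,0,[]), (0,0,[]),
    (0,0,[]), (0,0,[]), (0,0,[]), (0,0,[]), (0,0,[]), (0,0,[]), (0,0,[]), (0,0,[]), (0,0,[]), (0,0,[]),
    (0,0,[]), (0,0,[]), (0,0,[]), (0,0,[]), (0,0,[]), (0,0,[]), (0,0,[]), (0,0,[]), (0,0,[]), (0,0,[]),
    (0,0,[]), (0,0,[]), (0,0,[]), (0,0,[]), (0,0,[]), (0,0,[]), (0,0,[]), (0,0,[]), (0,0,[]), (0,0,[]),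
    (0,0,[]), (0,0,[]), (0,0,[]), (0,0,[]), (0,0,[]), (0,0,[]), (0,0,[]), (0,0,[]), (0,0,[]), (0,0,[]),
    (0,0,[]), (0,0,[]), (0,0,[]), (0,0,[]), (0,0,[]), (0,0,[]), (0,0,[]), (0,0,[]), (0,0,[]), (0,0,[]),
    (0,0,[]), (0,0,[]), (0,0,[]), (0,0,[]), (0,0,[]), (0,0,[]), (0,0,[]), (0,0,[]), (0,0,[]), (0,0,[]),
    (0,0,[]), (0,0,[]), (0,0,[]), (0,0,[]), (0,0,[]), (0,0,[]), (0,0,[]), (0,0,[]), (0,0,[]), (0,0,[]),
    (0,0,[]), (0,0,[]), (0,0,[]), (0,0,[]), (0,0,[]), (0,0,[]), (0,0,[]), (0,0,[]), (0,0,[]), (0,0,[]),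
    (0,0,[]), (0,0,[]), (0,0,[]), (0,0,[]), (0,0,[]), (0,0,[]), (0,0,[]), (0,0,[]), (0,0,[]), (0,0,[]),
    (0,0,[]), (0,0,[]), (0,0,[]), (0,0,[]), (0,0,[]), (0,0,[]), (0,0,[]), (0,0,[]), (0,0,[]), (0,0,[]),
    (0,0,[]), (0,0,[]), (0,0,[]), (0,0,[]), (0,0,[]), (0,0,[]), (0,0,[]), (0,0,[]), (0,0,[]), (0,0,[]),
    (0,0,[]), (0,0,[]), (0,0,[]), (0,0,[]), (0,0,[]), (0,0,[]), (0,0,[]), (0,0,[]), (0,0,[]), (0,0,[]),
    (0,0,[]), (0,0,[]), (0,0,[]), (0,0,[]), (0,0,[]), (0,0,[]), (0,0,[]), (0,0,[]), (0,0,[]), (0,0,[]),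
    (0,0,[]), (0,0,[]), (0,0,[]), (0,0,[]), (0,0,[]), (0,0,[]), (0,0,[]), (0,0,[]), (0,0,[]), (0,0,[]),
    (0,0,[]), (0,0,[]), (0,0,[]), (0,0,[]), (0,0,[]), (0,0,[]), (0,0,[]), (0,0,[]), (0,0,[]), (0,0,[]),
    (0,0,[]), (0,0,[]), (1,0,[]), (1,0,[]), (1,0,[]), (1,0,[]), (1,0,[]), (1,0,[]), (1,0,[]), (1,0,[]),
    (1,0,[]), (78,1,[1,530,0]), (79,1,[1,540,0]), (80,1,[1,532,0]), (81,1,[1,538,0]), (78,3,[3,532,2]),
    (79,3,[3,530,2]), (80,3,[3,540,2]), (81,3,[3,538,2]), (83,4,[3,525,537,2]), (77,2,[3,0]),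
    (82,0,[3,527,0]), (54,1,[551,553,563]), (57,1,[556,555,563]), (63,3,[564,556,555]), (87,0,[7,530,6]),
    (88,0,[7,533,4]), (31,1,[572,571]), (42,3,[9,542,8]), (23,1,[9,10]), (39,1,[9,544,10]),
    (42,1,[11,542,10]), (52,3,[13,542,12]), (24,1,[13,14]), (49,1,[13,544,14]), (52,1,[15,542,14]),
    (41,3,[9,548,16]), (70,3,[17,542,16]), (68,1,[17,544,18]), (69,1,[17,546,18]), (70,1,[19,542,18]),
    (41,1,[19,549,10]), (51,3,[13,548,20]), (51,1,[23,549,14]), (87,2,[25,544,24]), (87,0,[27,544,26]),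
    (88,0,[27,543,24]), (31,1,[612,611]), (84,1,[29,558,28]), (33,3,[29,563,16]), (35,1,[29,565,10]),
    (38,3,[29,565,16]), (23,1,[29,30]), (35,1,[9,562,30]), (38,1,[19,564,30]), (34,1,[31,568,10]),
    (43,3,[13,564,32]), (52,3,[33,554,32]), (44,3,[33,567,20]), (46,1,[33,568,14]), (48,3,[33,568,20]),
    (24,1,[33,34]), (46,1,[13,566,34]), (48,1,[23,569,34]), (38,3,[9,562,36]), (41,3,[29,556,36]),
    (70,3,[37,554,36]), (35,0,[37,30,628]), (35,2,[618,29,38]), (36,2,[620,29,38]), (68,1,[37,550,38]),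
    (65,2,[39,567,18]), (83,2,[43,5,0,8]), (37,0,[21,8,664]), (79,1,[43,575,44]), (83,1,[23,1,6,44]),
    (71,0,[668,665,581]), (32,0,[13,8,46]), (52,3,[47,576,46]), (24,1,[47,48]), (52,1,[49,576,48]),
    (32,2,[49,9,14]), (29,1,[626,50]), (35,0,[684,624,623]), (37,2,[673,578,52]), (37,2,[53,9,22]),
    (84,2,[25,8,54]), (84,0,[57,9,26]), (88,0,[57,577,54]), (32,0,[47,579,58]), (52,3,[59,582,58]),
    (32,0,[59,11,12]), (49,3,[59,580,48]), (24,1,[59,60]), (32,2,[15,10,60]), (49,1,[47,581,60]),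
    (52,1,[61,582,60]), (32,2,[61,578,48]), (37,0,[665,579,62]), (84,2,[55,579,66]), (87,2,[55,581,66]),
    (84,2,[67,11,24]), (84,0,[27,10,68]), (88,0,[69,583,66]), (40,1,[692,615,725]), (41,3,[666,604,70]),
    (70,3,[71,584,70]), (81,0,[730,43,40]), (45,2,[73,13,18]), (80,1,[75,584,74]), (85,2,[25,12,76]),
    (85,0,[79,13,26]), (88,0,[79,585,76]), (41,3,[691,607,80]), (45,0,[71,587,80]), (45,0,[81,15,16]),
    (45,2,[19,14,82]), (68,1,[71,589,82]), (70,1,[83,590,82]), (45,2,[83,586,72]), (85,2,[77,587,86]),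
    (87,2,[77,589,86]), (85,2,[87,15,24]), (31,1,[745,763]), (85,0,[27,14,88]), (85,0,[89,586,78]),
    (88,0,[89,591,86]), (50,1,[740,615,769]), (51,3,[47,593,90]), (67,0,[21,16,90]), (73,3,[91,594,90]),
    (67,2,[23,18,96]), (71,1,[91,597,96]), (73,1,[97,600,96]), (80,3,[95,599,98]), (81,3,[65,602,98]),
    (58,3,[101,608,100]), (25,0,[101,612]), (25,1,[613,102]), (25,2,[101,102]), (54,2,[792,101,102]),
    (55,2,[800,101,102]), (57,2,[798,101,104]), (29,1,[107,108]), (68,1,[107,608,108]),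
    (83,2,[111,25,560,28]), (56,0,[811,623,90]), (82,1,[103,110,813]), (81,2,[777,814,805]),
    (70,3,[107,612,112]), (29,1,[113,114]), (68,1,[113,610,114]), (70,1,[109,612,114]), (43,1,[751,618,118]),
    (82,2,[95,618,120]), (57,1,[791,788,829]), (32,2,[35,30,122]), (48,1,[673,630,122]), (43,1,[123,628,753]),
    (37,0,[811,625,124]), (67,0,[665,627,124]), (46,0,[125,122,834]), (45,0,[37,32,126]),
    (65,0,[778,636,126]), (67,3,[81,638,126]), (65,0,[127,641,779]), (78,3,[129,634,128]),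
    (82,0,[129,632,74]), (45,0,[127,643,130]), (35,0,[131,833,837]), (67,3,[131,644,70]), (45,2,[39,34,132]),
    (65,2,[782,647,132]), (37,2,[97,654,134]), (46,2,[847,844,134]), (47,2,[849,844,134]),
    (73,1,[135,652,134]), (51,1,[135,650,118]), (56,2,[135,648,52]), (37,0,[91,657,136]),
    (48,3,[737,662,136]), (46,0,[137,863,864]), (56,0,[137,658,62]), (71,3,[137,660,134]), (29,1,[840,140]),
    (35,2,[885,716,140]), (67,1,[51,664,140]), (35,0,[888,838,813]), (45,0,[888,843,142]),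
    (35,0,[143,689,876]), (32,0,[882,891,897]), (84,2,[77,675,144]), (85,2,[55,46,144]), (88,0,[147,677,144]),
    (84,2,[87,682,148]), (85,2,[145,679,148]), (85,2,[149,49,54]), (85,0,[151,678,146]), (88,0,[151,681,148]),
    (30,1,[892,152]), (37,2,[93,686,152]), (83,4,[155,688,673,64]), (25,0,[157,696]), (35,2,[925,695,114]),
    (25,1,[697,158]), (35,2,[159,692,108]), (34,0,[105,693,160]), (33,3,[926,157,164]), (38,3,[930,159,164]),
    (35,0,[165,692,100]), (29,1,[165,166]), (36,0,[940,934,820]), (33,3,[930,928,170]), (35,0,[171,695,797]),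
    (29,1,[171,172]), (70,1,[167,696,172]), (36,0,[948,944,806]), (37,2,[175,695,116]), (84,2,[145,699,176]),
    (87,2,[149,704,176]), (84,2,[177,703,76]), (84,0,[79,702,178]), (84,0,[179,698,146]),
    (88,0,[179,701,176]), (40,1,[908,766,963]), (84,2,[149,714,180]), (85,2,[177,707,180]),
    (87,2,[145,711,180]), (84,2,[181,708,86]), (85,2,[181,61,66]), (40,3,[970,969,965]), (84,0,[89,709,182]),
    (85,0,[69,60,182]), (85,0,[183,706,178]), (88,0,[183,713,180]), (40,1,[902,775,983]),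
    (35,0,[107,722,188]), (25,0,[189,726]), (23,2,[992,952]), (25,1,[727,190]), (33,2,[103,722,190]),
    (35,2,[191,718,166]), (38,3,[1002,191,192]), (35,0,[193,718,156]), (68,3,[193,720,166]),
    (35,2,[103,722,194]), (36,2,[107,722,194]), (71,3,[197,720,168]), (33,3,[1002,998,198]),
    (38,3,[996,995,198]), (70,3,[193,726,198]), (69,3,[199,728,166]), (38,0,[937,941,1017]), (29,1,[199,200]),
    (35,2,[795,725,200]), (36,2,[113,725,200]), (70,1,[195,726,200]), (35,0,[1026,1024,937]),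
    (30,1,[861,202]), (46,2,[870,748,202]), (73,1,[203,732,202]), (46,0,[1036,856,851]), (40,1,[205,738,206]),
    (25,0,[211,744]), (25,2,[211,212]), (53,3,[1046,211,214]), (46,2,[1050,743,116]), (29,1,[217,218]),
    (45,2,[219,740,108]), (83,2,[221,77,74,204]), (45,0,[113,742,222]), (45,2,[225,743,114]),
    (80,1,[221,744,226]), (83,1,[209,75,78,226]), (72,0,[1064,1059,1045]), (81,3,[155,747,228]),
    (37,0,[1036,859,230]), (73,3,[231,756,230]), (46,0,[231,759,881]), (71,3,[231,754,202]),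
    (32,3,[1072,1038,866]), (45,0,[233,765,106]), (29,1,[233,234]), (45,2,[109,764,234]),
    (45,2,[235,760,218]), (45,0,[223,770,236]), (70,3,[233,772,236]), (45,0,[237,768,112]),
    (69,3,[237,774,218]), (29,1,[237,238]), (45,2,[115,769,238]), (45,2,[239,771,224]), (77,2,[245,242]),
    (86,2,[249,246]), (88,0,[249,781,246]), (83,0,[920,93,94,250]), (87,2,[247,785,252]), (31,1,[1109,1113]),
    (87,0,[249,785,254]), (88,0,[255,787,252]), (74,3,[1116,1115,1112]), (71,1,[259,809,262]),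
    (73,3,[259,819,264]), (71,1,[265,823,270]), (73,1,[263,825,270]), (82,2,[229,827,272]),
    (26,1,[1071,1131]), (34,3,[185,831,274]), (83,2,[121,617,120,274]), (44,1,[1135,1136,830,186]),
    (7,0,[186,1138]), (68,1,[277,852,278]), (38,1,[279,855,206]), (71,1,[281,852,282]), (56,2,[283,855,208]),
    (77,2,[287,284]), (81,1,[273,874,288]), (82,2,[155,876,288]), (85,2,[247,869,290]), (84,2,[291,866,252]),
    (84,0,[255,867,292]), (85,0,[293,868,248]), (88,0,[293,873,290]), (84,2,[247,879,296]),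
    (85,2,[297,883,252]), (40,3,[1166,1120,1161]), (85,0,[255,882,298]), (87,0,[293,886,298]),
    (86,2,[299,296]), (50,1,[1156,1120,1173]), (83,1,[203,735,138,300]), (32,1,[1180,1043,894]),
    (84,0,[249,894,302]), (84,2,[253,901,304]), (84,2,[305,899,290]), (40,3,[1186,1114,1185]),
    (84,0,[293,898,306]), (84,0,[307,900,254]), (43,0,[157,905,308]), (25,0,[309,906]),
    (32,0,[1196,927,1062]), (25,1,[907,310]), (25,2,[309,310]), (35,2,[311,902,218]), (34,0,[215,903,312]),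
    (57,2,[1204,309,312]), (48,2,[313,904,160]), (32,3,[955,1052,1209]), (83,3,[145,817,933,1212]),
    (28,1,[907,314]), (28,2,[313,314]), (46,2,[315,904,168]), (78,0,[1220,1216,975]), (33,3,[1206,1202,318]),
    (38,3,[1200,1199,318]), (29,1,[319,320]), (70,1,[317,906,320]), (36,0,[1230,1226,1054]),
    (26,0,[1218,322]), (62,2,[1205,1202,322]), (79,1,[1225,981,324]), (66,2,[1240,1218,980]),
    (49,2,[1015,1222,1241]), (43,0,[309,911,326]), (32,0,[1246,1201,1102]), (25,1,[917,328]),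
    (35,2,[329,908,234]), (33,3,[1248,327,330]), (38,3,[1252,329,330]), (45,0,[331,913,164]),
    (29,1,[331,332]), (45,2,[167,912,332]), (45,2,[333,910,316]), (36,0,[1260,1254,1098]),
    (33,3,[1252,1250,334]), (29,1,[335,336]), (70,1,[333,916,336]), (45,2,[337,915,320]),
    (36,0,[1270,1268,1084]), (84,1,[185,922,338]), (85,0,[923,1141,1279]), (32,1,[338,1280,340]),
    (37,2,[271,926,342]), (46,2,[1238,1196,342]), (65,2,[345,161,166]), (65,2,[167,162,346]),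
    (30,1,[349,350]), (27,2,[1004,352]), (84,2,[357,943,266]), (84,0,[269,942,358]), (86,2,[359,356]),
    (37,2,[257,946,360]), (56,2,[263,945,360]), (67,2,[361,171,174]), (83,0,[1302,257,815,248]),
    (62,2,[1021,1018,362]), (51,2,[365,1215,1210]), (35,0,[217,960,366]), (58,3,[327,959,366]),
    (23,2,[1314,1234]), (25,1,[967,368]), (33,2,[213,960,368]), (54,2,[1317,367,368]), (35,2,[369,956,316]),
    (35,0,[223,963,1321]), (33,3,[1318,367,370]), (35,0,[371,956,308]), (68,3,[371,958,332]),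
    (38,0,[1229,1231,1331]), (35,0,[373,965,1203]), (69,3,[373,968,332]), (35,0,[233,976,374]),
    (25,0,[375,988]), (38,2,[375,970,326]), (23,2,[1342,1276]), (25,1,[989,376]), (27,1,[1243,376]),
    (35,2,[377,970,332]), (82,3,[377,1224,1237]), (35,0,[237,983,1351]), (38,3,[1354,377,378]),
    (45,0,[371,973,378]), (45,0,[379,979,192]), (68,3,[379,974,316]), (69,3,[379,981,320]),
    (38,1,[381,376,1358]), (33,3,[1354,1350,382]), (38,3,[1348,1345,382]), (45,0,[373,986,382]),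
    (45,0,[383,984,198]), (69,3,[383,990,316]), (38,0,[1257,1261,1373]), (29,1,[383,384]),
    (36,2,[237,983,384]), (45,2,[201,985,384]), (35,0,[1384,1382,1257]), (84,2,[387,1003,356]),
    (83,3,[247,814,1011,390]), (56,0,[391,1012,258]), (67,0,[391,195,196]), (51,2,[1352,1244,392]),
    (72,3,[395,1023,350]), (85,2,[291,1039,396]), (85,2,[397,1043,246]), (85,0,[249,1042,398]),
    (85,0,[399,1038,292]), (88,0,[399,1041,396]), (82,0,[401,1047,226]), (38,2,[1149,1067,1414]),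
    (56,3,[1145,1068,1414]), (78,3,[401,1049,402]), (68,2,[1147,1417,1421]), (71,2,[1143,1419,1421]),
    (37,0,[1313,1207,404]), (41,3,[1426,365,1306]), (85,2,[253,1080,408]), (85,2,[409,1077,296]),
    (50,3,[1430,1114,1409]), (85,0,[299,1076,410]), (87,0,[399,1078,410]), (86,2,[411,408]),
    (84,0,[411,1072,398]), (85,0,[411,1081,254]), (88,0,[411,1075,408]), (50,1,[1404,1179,1437]),
    (37,2,[1400,1358,414]), (41,1,[1399,392,1451]), (85,0,[417,1090,406]), (25,0,[421,1108]),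
    (82,3,[1457,1308,1304]), (25,1,[1109,422]), (25,2,[421,422]), (82,3,[423,1395,1397]),
    (53,3,[1456,421,424]), (28,1,[1109,426]), (28,2,[425,426]), (30,1,[431,432]), (26,0,[425,434]),
    (62,2,[1462,421,434]), (81,0,[1452,1394,434]), (83,4,[1478,1450,1400,1357]), (70,3,[429,1108,438]),
    (30,1,[441,442]), (26,0,[1468,444]), (81,0,[1429,1309,444]), (78,3,[437,1108,446]), (58,3,[421,1113,448]),
    (60,3,[1460,1115,448]), (25,0,[449,1118]), (80,0,[1492,1459,1129]), (25,1,[1119,450]),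
    (55,2,[1495,449,450]), (53,3,[1496,449,452]), (66,3,[1468,1115,452]), (28,1,[1119,454]),
    (64,2,[1507,453,454]), (68,1,[429,1113,456]), (71,3,[459,1112,432]), (72,3,[459,1114,442]),
    (30,1,[459,460]), (27,2,[449,462]), (75,2,[435,1113,462]), (29,1,[465,466]), (69,1,[429,1120,466]),
    (70,1,[457,1118,466]), (73,3,[459,1118,468]), (72,3,[469,1121,432]), (30,1,[469,470]),
    (71,1,[441,1117,470]), (72,1,[431,1120,470]), (73,1,[461,1118,470]), (27,2,[1500,472]),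
    (76,2,[435,1120,472]), (86,2,[477,474]), (87,2,[475,1123,478]), (88,0,[481,1124,474]), (31,1,[1551,1549]),
    (87,0,[481,1127,482]), (74,3,[1554,1553,1548]), (46,1,[1282,1133,484]), (35,1,[491,1154,340]),
    (51,1,[493,1152,484]), (38,2,[449,1158,494]), (43,0,[421,1157,494]), (25,0,[495,1164]), (25,1,[1165,496]),
    (25,2,[495,496]), (33,2,[451,1158,496]), (43,2,[497,1156,422]), (35,0,[465,1161,1571]),
    (53,3,[1568,495,498]), (34,0,[499,1159,452]), (46,2,[1580,1163,442]), (26,2,[495,500]), (28,1,[1165,500]),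
    (34,2,[455,1158,500]), (44,2,[501,1156,426]), (46,2,[501,1156,432]), (45,0,[429,1157,502]),
    (29,1,[503,504]), (38,1,[505,496,1578]), (36,0,[1524,1600,1598]), (44,3,[1584,499,506]),
    (37,0,[507,1159,458]), (46,0,[507,1156,424]), (30,1,[507,508]), (47,0,[1610,1604,1484]), (26,0,[499,510]),
    (41,2,[463,1158,510]), (61,2,[1586,495,510]), (51,2,[511,1156,434]), (83,2,[513,291,288,490]),
    (67,0,[1623,1561,1559]), (45,0,[439,1162,514]), (70,3,[503,1164,514]), (42,2,[1628,1602,1528]),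
    (44,3,[1594,1588,516]), (30,1,[517,518]), (37,2,[471,1161,518]), (47,0,[1634,1632,1472]),
    (41,2,[473,1161,520]), (57,3,[1614,1580,520]), (62,2,[1573,1570,520]), (51,2,[521,1163,444]),
    (83,1,[493,289,292,522]), (41,1,[1625,1562,1649]), (81,0,[522,1650,513,510]), (6,0,[1570,1653,1618]),
    (5,0,[1569,1653,1614]), (12,0,[1164,1653,1643]), (14,0,[515,1653,1616]), (15,0,[519,1653,1621]),
    (3,0,[1591,1654]), (7,0,[1594,1654]), (10,0,[1589,1654]), (16,0,[1592,1654]), (3,0,[1582,1656]),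
    (7,0,[1584,1656]), (9,0,[1645,1658]), (14,0,[503,1659,1640]), (15,0,[509,1659,1647]), (4,0,[1630,1661]),
    (8,0,[1627,1661]), (14,0,[514,1661]), (3,0,[1637,1663]), (7,0,[1638,1663]), (4,0,[1603,1679]),
    (8,0,[1597,1679]), (7,0,[1612,1681]), (35,1,[1665,497,1188]), (43,3,[1404,496,1666]), (24,2,[1667,1577]),
    (43,3,[1667,1570,1410]), (46,1,[1411,1669,1577]), (43,3,[1411,1568,1674]), (24,2,[1675,1566]),
    (46,1,[1404,1676,1566]), (39,2,[1689,1523,1682,1512]), (11,0,[1512,1714,1536]), (12,0,[1482,1714,1540]),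
    (15,0,[470,1715]), (16,0,[1535,1715]), (18,0,[1526,1714,1538]), (11,0,[1513,1717]), (13,0,[456,1717]),
    (16,0,[1519,1718]), (3,0,[1692,1725]), (46,2,[1521,1684,1730]), (68,2,[1523,1686,1175]),
    (85,1,[1286,1480,1690]), (84,1,[483,1285,1739,1732]), (18,0,[1545,1740,1557]), (22,0,[1480,1743,1546]),
    (21,0,[476,1744]), (46,2,[1543,1694,1722]), (69,2,[1190,1698,1510]), (58,0,[1515,1700,1449]),
    (59,2,[1448,1701,1532]), (71,2,[1494,1706,1439]), (72,2,[1502,1706,1434]),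
    (83,2,[1707,1465,1747,1356,1355]), (4,0,[1266,1760,1442]), (6,0,[1360,1760,1704]), (5,0,[1372,1760,1709]),
    (8,0,[1263,1760,1408]), (7,0,[1264,1760,1411]), (11,0,[1335,1760,1439,1762]), (12,0,[1272,1760,1413]),
    (15,0,[1706,1761]), (18,0,[1341,1760,1434]), (21,0,[398,1761]), (6,0,[1371,1763,1755]),
    (5,0,[1386,1763,1752]), (8,0,[1094,1763,1436]), (7,0,[1091,1763,1445]), (12,0,[1093,1763,1447,1778]),
    (15,0,[415,1763,1756]), (18,0,[1096,1763,1448,1774]), (2,0,[1791,1779]), (21,0,[417,1763,1441,1796]),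
    (2,0,[1795,1775]), (8,0,[1364,1765,1703]), (7,0,[1363,1765,1667]), (2,0,[1772,1805]),
    (11,0,[1366,1765,1514,1784]), (2,0,[1770,1809]), (15,0,[432,1764]), (18,0,[1368,1765,1532,1782]),
    (8,0,[1378,1767,1711]), (7,0,[1377,1767,1675]), (2,0,[1791,1819]), (2,0,[1815,1783]),
    (15,0,[351,1769,442,1766]), (2,0,[1825,1767]), (15,0,[1293,1827,1484]), (2,0,[1811,1785]),
    (18,0,[1403,1827,1516,1830]), (3,0,[1003,1769,1185]), (10,0,[1289,1769,1469]), (9,0,[1290,1769,1467]),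
    (11,0,[1009,1769,1117,1788]), (12,0,[950,1769,1109]), (17,0,[353,1769,444]), (18,0,[1023,1769,1115]),
    (19,0,[355,1769,446]), (22,0,[357,1769,249]), (21,0,[359,1769,1107,1842]), (2,0,[1841,1789]),
    (3,0,[1192,1770,1326]), (11,0,[1174,1770,1366]), (2,0,[1787,1859]), (12,0,[1164,1770,1233]),
    (14,0,[1686,1770,317]), (18,0,[1171,1770,1380,1824]), (4,0,[1358,1772,1333]), (3,0,[1267,1772,1336]),
    (13,0,[236,1772,371]), (8,0,[1089,1801,1407,1842]), (7,0,[1056,1801,1404]), (16,0,[405,1801,1713,1816]),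
    (2,0,[1877,1863,1823]), (8,0,[1082,1797,1433]), (15,0,[413,1797,1758]), (7,0,[1086,1881,1748,1884]),
    (2,0,[1874,1887]), (12,0,[824,1881,1530,1830]), (16,0,[261,1881,1723]), (15,0,[263,1881,469,1854]),
    (2,0,[1891,1831]), (3,0,[927,1897,1606]), (7,0,[1100,1897,1734,1792]), (15,0,[271,1897,459,1846]),
    (13,0,[112,1787,1736]), (22,0,[267,1787,299]), (21,0,[269,1787,1177,1882]), (4,0,[1006,1855,1194]),
    (2,0,[1889,1885]), (2,0,[1901,1793]), (5,0,[1005,1855,1496,1914]), (10,0,[1294,1855,1509]),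
    (9,0,[1310,1855,1505]), (15,0,[389,1855,1721,1892]), (4,0,[1342,1791,1339]), (2,0,[1877,1863]),
    (2,0,[1883,1867,1825]), (2,0,[1917,1915]), (10,0,[1289,1931,1521,1865]), (13,0,[941,1931,1565,1820]),
    (19,0,[355,1931,1499,1903]), (3,0,[1035,1935,1276,1794]), (2,0,[1939,1795]), (3,0,[1029,1941,1348,1925]),
    (6,0,[1031,1941,1375,1928]), (2,0,[1944,1861]), (2,0,[1891,1811]), (7,0,[1388,1941,1275,1926]),
    (2,0,[1950,1948]), (12,0,[1033,1941,1272,1871]), (2,0,[1955,1870]), (2,0,[1935,1798]),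
    (7,0,[1259,1959,1455]), (9,0,[1310,1803,1477,1904]), (15,0,[389,1803,1777,1956]), (2,0,[1964,1923]),
    (4,0,[1358,1807,1664,1918]), (2,0,[1868,1969]), (2,0,[1953,1891]), (2,0,[1953,1949]), (2,0,[1935,1821]),
    (14,0,[1098,1807,1574,1912]), (2,0,[1917,1979]), (2,0,[1932,1837]), (2,0,[1917,1901]),
    (15,0,[415,1807,1670,1982]), (2,0,[1986,1984]), (4,0,[1024,1975,1391]), (2,0,[1989,1981,1843]),
    (2,0,[1989,1981]), (2,0,[1971,1845]), (2,0,[1962,1921]), (4,0,[938,1977,1672,1998]),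
    (8,0,[1246,1997,1696,1828]), (2,0,[2003,1829]), (2,0,[1967,1893]), (2,0,[1911,1857]),
    (11,0,[1324,2005,1726,2006]), (2,0,[2009,2011]), (2,0,[2000,1943,1924]), (14,0,[1347,2005,1728,1846]),
    (2,0,[2015,2017]), (2,0,[1973,1832]), (15,0,[263,2021,395,2018]), (2,0,[2022,1895]),
    (14,0,[1001,1835,1751,1982]), (22,0,[387,1835,303]), (2,0,[2027,1983]), (6,0,[102,2031,1487,1996]),
    (2,0,[2027,1993]), (12,0,[799,2031,1470,1838]), (2,0,[2000,2037]), (2,0,[2033,1971,1919]),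
    (18,0,[802,2031,1511,2040]), (2,0,[2039,1839]), (6,0,[796,2045,1475,1904]), (2,0,[2042,2047]),
    (2,0,[2049,2045]), (2,0,[2033,1997]), (7,0,[765,2051,1608,1898]), (2,0,[2042,2035]),
    (2,0,[2049,2025,1841]), (2,0,[2055,2009]), (4,0,[692,2059,1329,2060]), (7,0,[765,2059,1060,1945]),
    (2,0,[2063,2065]), (2,0,[2049,2019,1991,1961]), (21,0,[24,2059,406,2068]), (2,0,[2071,2057]),
    (2,0,[2067,1883]), (4,0,[9,2073,1167,2074]), (2,0,[2071,2049,2019,1847]),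
    (2,0,[2077,2063,2055,2013,2007]), (14,0,[17,2073,428,2080]), (2,0,[2077,2067,1947]),
    (15,0,[23,2073,1813,2084]), (19,0,[0,2073,436]), (2,0,[2071,2049]), (21,0,[27,2073,247]),
    (2,0,[2091,2093]), (2,0,[2071,2053]), (2,0,[2077,2075]), (2,0,[2091,2019,1878]),
    (20,0,[561,2097,1488,2100]), (7,0,[15,2079,1168,2098]), (2,0,[2091,2019,1936]), (2,0,[2107,1849]),
    (11,0,[544,2109,1490,2088]), (2,0,[2110,2095,1850]), (4,0,[524,2113,1297,1907]),
    (3,0,[525,2113,1392,2029]), (2,0,[2110,2071,2042,2027,1995,1852]), (22,0,[5,2113,1300,2118]),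
    (2,0,[2110,2071,2042,2027,1989]), (21,0,[7,2113,357,2122]), (2,0,[2077,2067,1908]),
    (4,0,[524,2119,1298,2126]), (2,0,[2129,2077,2063,2061]), (6,0,[526,2131,369,1872]),
    (14,0,[534,2131,1322]), (2,0,[2129,2077,2063,2055,2013,1957]), (2,0,[2110,2102]), (22,0,[5,2137,1780]),
    (2,0,[2120,2141]), (2,0,[2129,2104]), (2,0,[2129,2086]), (2,0,[2129,2082]), (19,0,[3,2149,94]),
    (2,0,[2139,2151]), (3,0,[525,2147,671]), (20,0,[85,2144]), (19,0,[2157,2110,1]), (19,0,[295,2114]),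
    (7,0,[529,2117,1182]), (16,0,[536,2117,919]), (20,0,[2161,2124,44,2154]), (21,0,[6,2125]),
    (16,0,[536,2133,240]), (20,0,[2161,2133,242]), (2,0,[2166,2173]), (19,0,[2157,2133,244]),
    (2,0,[2158,2177]), (19,0,[2157,2135,402]), (2,0,[2158,2181]), (15,0,[537,2143,1036]),
    (21,0,[2168,2153,250]), (20,0,[300,2162]), (19,0,[2189,2165,1111,2186]), (19,0,[419,2170]),
    (20,0,[2193,2175,1104,2178]), (13,0,[535,2183,1422]), (15,0,[537,2183,1424]), (20,0,[2193,2185,284]),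
    (2,0,[2194,2201]), (19,0,[2189,2185,286]), (2,0,[2190,2205]), (19,0,[489,2196]), (20,0,[2209,2199,486]),
    (20,0,[2209,2203,1150,2206]), (2,0,[2212,2211]), (2,0,[2215,2210]), (20,0,[2208,2216])]

def c3T : List (List ℕ × List ℕ) :=
    [([17],[2219])]

theorem c3C : cert [[17,1,13,18,20]] [1,2,3,4,5,6,7,8,9,10,11,12,13,14,15,16] c3W c3F c3S c3T = true := by decide +kernel

def c4W : List (List ℕ) :=
    [[], [1,2], [2,1], [3,4], [4,3], [5,6], [6,5], [7,8], [8,7], [9,9], [10,10], [11,12], [12,11], [13,14],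
    [14,13], [15,15], [16,16], [17,18], [18,17], [19,20], [20,19], [2,2,2], [6,6,6], [4,4,10], [4,8,15],
    [4,15,8], [8,8,10], [12,12,12], [14,14,14], [9,16,10], [2,6,1,5], [2,4,11,3], [2,8,1,7], [2,12,2,3],
    [2,12,3,12], [2,14,1,13], [2,3,11,4], [2,9,2,9], [2,16,2,16], [2,15,11,15], [2,10,1,10], [6,4,5,3],
    [6,8,13,7], [6,12,5,11], [6,14,6,7], [6,14,7,14], [6,7,13,8], [6,9,6,9], [6,16,6,16], [6,15,13,15],
    [6,10,5,10], [4,4,7,7], [4,4,9,16], [4,4,16,9], [4,14,3,13], [4,7,15,10], [4,9,4,9], [4,9,3,16],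
    [4,16,4,16], [4,16,3,9], [4,15,3,15], [4,15,7,10], [4,15,10,7], [4,10,3,10], [8,8,9,16], [8,8,16,9],
    [8,12,7,11], [8,9,7,16], [8,16,7,9], [12,14,11,13], [12,9,12,9], [12,16,12,16], [12,10,11,10],
    [14,9,14,9], [14,16,14,16], [14,10,13,10], [9,16,9,16], [16,15,16,15], [17,17,17], [17,10,18,9],
    [17,9,18,16], [17,16,18,10], [17,15,18,15], [3,17,3,17], [17,1,14,18,20], [1,19,2,20], [5,19,6,20],
    [19,19,19], [9,19,9,20], [10,19,10,19]]

def c4F : Tr :=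
    (.node (.node (.node (.node (.node (.node (.node (.node (.node (.node (.node .leaf 277 1 166 .leaf) 27 15
    26 (.node .leaf 160 0 163 .leaf)) 110 12 256 (.node (.node .leaf 402 11 337 .leaf) 120 20 132 .leaf)) 35
    20 128 (.node (.node (.node .leaf 340 2 336 .leaf) 91 10 91 (.node .leaf 5 0 6 .leaf)) 240 7 384 (.node
    (.node .leaf 336 12 279 .leaf) 208 6 89 .leaf))) 6 15 64 (.node (.node (.node (.node .leaf 309 6 176
    .leaf) 10 20 59 (.node .leaf 185 0 36 .leaf)) 175 19 320 (.node (.node .leaf 371 7 240 .leaf) 164 6 62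
    .leaf)) 61 15 192 (.node (.node (.node .leaf 368 2 380 .leaf) 19 6 105 .leaf) 6 9 6 (.node (.node .leaf
    132 0 99 .leaf) 249 10 246 .leaf)))) 4 17 32 (.node (.node (.node (.node (.node .leaf 152 1 293 .leaf) 38
    4 28 (.node .leaf 333 0 37 .leaf)) 146 5 288 (.node (.node .leaf 264 0 414 .leaf) 150 4 46 .leaf)) 45 11
    160 (.node (.node (.node .leaf 221 6 356 .leaf) 70 7 98 .leaf) 264 17 416 (.node (.node .leaf 319 0 167
    .leaf) 227 4 223 .leaf))) 15 6 96 (.node (.node (.node (.node .leaf 330 11 194 .leaf) 78 10 74 (.node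
    .leaf 125 0 45 .leaf)) 208 8 352 (.node (.node .leaf 269 0 268 .leaf) 183 11 64 .leaf)) 84 12 224 (.node
    (.node (.node .leaf 368 0 183 .leaf) 116 9 111 .leaf) 16 16 15 (.node (.node .leaf 329 0 284 .leaf) 223 0
    237 .leaf))))) 2 2 16 (.node (.node (.node (.node (.node (.node .leaf 286 2 187 .leaf) 32 9 23 (.node
    .leaf 44 0 27 .leaf)) 135 3 272 (.node (.node .leaf 409 7 403 .leaf) 43 2 140 .leaf)) 42 4 144 (.node
    (.node (.node .leaf 348 12 216 .leaf) 95 3 75 (.node .leaf 94 0 1 .leaf)) 258 1 400 (.node (.node .leaf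
    116 0 95 .leaf) 213 10 213 .leaf))) 10 12 80 (.node (.node (.node (.node .leaf 319 12 318 .leaf) 69 10 65
    (.node .leaf 48 0 25 .leaf)) 188 15 336 (.node (.node .leaf 402 14 371 .leaf) 49 8 175 .leaf)) 76 19 208
    (.node (.node (.node .leaf 371 9 386 .leaf) 111 4 68 .leaf) 8 15 12 (.node (.node .leaf 39 0 9 .leaf) 257
    4 254 .leaf)))) 5 8 48 (.node (.node (.node (.node (.node .leaf 296 15 300 .leaf) 48 8 6 (.node .leaf 63 0
    6 .leaf)) 160 15 304 (.node (.node .leaf 337 13 373 .leaf) 159 15 149 .leaf)) 48 12 176 (.node (.node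
    (.node .leaf 227 6 367 .leaf) 101 10 101 .leaf) 2 15 2 (.node (.node .leaf 391 0 77 .leaf) 240 19 241
    .leaf))) 19 14 112 (.node (.node (.node (.node .leaf 336 6 334 .leaf) 86 10 86 (.node .leaf 59 0 6 .leaf))
    227 19 368 (.node (.node .leaf 404 0 72 .leaf) 191 11 63 .leaf)) 91 19 240 (.node (.node (.node .leaf 366
    19 329 .leaf) 96 18 122 .leaf) 11 8 19 (.node (.node .leaf 127 0 16 .leaf) 268 2 240 .leaf)))))) 1 2 8
    (.node (.node (.node (.node (.node (.node (.node .leaf 281 15 276 .leaf) 29 2 29 (.node .leaf 180 0 9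
    .leaf)) 116 19 264 (.node (.node .leaf 405 8 260 .leaf) 56 4 136 .leaf)) 41 3 136 (.node (.node (.node
    .leaf 344 6 221 .leaf) 93 3 83 (.node .leaf 316 0 3 .leaf)) 241 14 392 (.node (.node .leaf 259 0 111
    .leaf) 95 18 211 .leaf))) 8 14 72 (.node (.node (.node (.node .leaf 316 20 174 .leaf) 63 10 52 (.node
    .leaf 168 0 30 .leaf)) 180 17 328 (.node (.node .leaf 376 2 404 .leaf) 59 14 169 .leaf)) 68 19 200 (.node
    (.node (.node .leaf 384 15 335 .leaf) 108 15 94 .leaf) 10 9 9 (.node (.node .leaf 325 0 87 .leaf) 253 2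
    237 .leaf)))) 5 18 40 (.node (.node (.node (.node (.node .leaf 156 2 297 .leaf) 44 10 43 (.node .leaf 38 0
    6 .leaf)) 153 5 296 (.node (.node .leaf 265 11 389 .leaf) 156 4 62 .leaf)) 46 15 168 (.node (.node (.node
    .leaf 233 6 361 .leaf) 32 7 100 .leaf) 0 16 0 (.node (.node .leaf 269 0 96 .leaf) 235 16 223 .leaf))) 17
    12 104 (.node (.node (.node (.node .leaf 334 11 288 .leaf) 80 9 75 (.node .leaf 305 0 29 .leaf)) 215 1 360
    (.node (.node .leaf 359 0 358 .leaf) 188 10 177 .leaf)) 88 1 232 (.node (.node (.node .leaf 221 20 176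
    .leaf) 119 17 112 .leaf) 18 14 9 (.node (.node .leaf 279 0 183 .leaf) 264 2 230 .leaf))))) 3 18 24 (.node
    (.node (.node (.node (.node (.node .leaf 290 3 177 .leaf) 35 5 35 (.node .leaf 147 0 27 .leaf)) 139 20 280
    (.node (.node .leaf 414 4 405 .leaf) 47 2 146 .leaf)) 43 14 152 (.node (.node (.node .leaf 352 10 351
    .leaf) 96 17 27 (.node .leaf 357 0 0 .leaf)) 259 14 408 (.node (.node .leaf 97 0 77 .leaf) 216 6 208
    .leaf))) 12 18 88 (.node (.node (.node (.node .leaf 324 4 231 .leaf) 76 12 75 (.node .leaf 208 0 46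
    .leaf)) 206 3 344 (.node (.node .leaf 336 0 339 .leaf) 51 12 178 .leaf)) 80 19 216 (.node (.node (.node
    .leaf 392 16 372 .leaf) 113 15 98 .leaf) 8 12 15 (.node (.node .leaf 191 0 60 .leaf) 259 10 260 .leaf))))
    6 1 56 (.node (.node (.node (.node (.node .leaf 304 3 301 .leaf) 55 10 40 (.node .leaf 158 0 59 .leaf))
    169 12 312 (.node (.node .leaf 404 16 402 .leaf) 157 6 162 .leaf)) 58 12 184 (.node (.node (.node .leaf
    325 3 375 .leaf) 104 3 71 .leaf) 3 6 3 (.node (.node .leaf 39 0 12 .leaf) 245 14 202 .leaf))) 24 4 120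
    (.node (.node (.node (.node .leaf 338 10 325 .leaf) 88 10 83 (.node .leaf 45 0 6 .leaf)) 231 12 376 (.node
    (.node .leaf 338 0 55 .leaf) 129 6 200 .leaf)) 98 12 248 (.node (.node (.node .leaf 342 7 397 .leaf) 97 12
    127 .leaf) 7 14 23 (.node (.node .leaf 179 0 51 .leaf) 271 19 131 .leaf))))))) 0 20 4 (.node (.node (.node
    (.node (.node (.node (.node (.node .leaf 279 6 139 .leaf) 28 10 27 (.node .leaf 367 0 280 .leaf)) 111 20
    260 (.node (.node .leaf 404 6 372 .leaf) 133 17 91 .leaf)) 40 3 132 (.node (.node (.node .leaf 341 15 220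
    .leaf) 86 16 91 (.node .leaf 27 0 3 .leaf)) 240 14 388 (.node (.node .leaf 265 0 116 .leaf) 210 3 180
    .leaf))) 7 13 68 (.node (.node (.node (.node .leaf 311 13 186 .leaf) 61 9 60 (.node .leaf 366 0 128
    .leaf)) 177 17 324 (.node (.node .leaf 371 18 339 .leaf) 62 7 167 .leaf)) 65 6 196 (.node (.node (.node
    .leaf 382 16 368 .leaf) 106 14 76 .leaf) 8 9 7 (.node (.node .leaf 298 0 147 .leaf) 198 6 250 .leaf)))) 4
    13 36 (.node (.node (.node (.node (.node .leaf 154 2 296 .leaf) 7 19 41 (.node .leaf 63 0 38 .leaf)) 148 6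
    292 (.node (.node .leaf 409 0 265 .leaf) 153 3 50 .leaf)) 46 8 164 (.node (.node (.node .leaf 358 6 230
    .leaf) 99 10 94 .leaf) 0 9 0 (.node (.node .leaf 312 0 47 .leaf) 233 16 221 .leaf))) 16 5 100 (.node
    (.node (.node (.node .leaf 192 13 332 .leaf) 11 6 79 (.node .leaf 367 0 128 .leaf)) 212 3 356 (.node
    (.node .leaf 390 0 383 .leaf) 60 6 186 .leaf)) 85 12 228 (.node (.node (.node .leaf 363 0 323 .leaf) 72 3
    116 .leaf) 10 14 17 (.node (.node .leaf 330 0 139 .leaf) 228 8 89 .leaf))))) 2 12 20 (.node (.node (.node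
    (.node (.node (.node .leaf 169 2 288 .leaf) 32 17 33 (.node .leaf 88 0 31 .leaf)) 136 14 276 (.node (.node
    .leaf 386 3 411 .leaf) 144 4 57 .leaf)) 43 1 148 (.node (.node (.node .leaf 234 5 350 .leaf) 67 14 95
    (.node .leaf 108 0 1 .leaf)) 259 7 404 (.node (.node .leaf 387 0 97 .leaf) 213 6 86 .leaf))) 11 19 84
    (.node (.node (.node (.node .leaf 315 16 314 .leaf) 72 6 54 (.node .leaf 174 0 25 .leaf)) 191 15 340
    (.node (.node .leaf 374 0 379 .leaf) 176 9 170 .leaf)) 79 19 212 (.node (.node (.node .leaf 389 17 318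
    .leaf) 112 7 79 .leaf) 15 10 15 (.node (.node .leaf 73 0 40 .leaf) 240 2 259 .leaf)))) 5 14 52 (.node
    (.node (.node (.node (.node .leaf 290 15 302 .leaf) 50 9 49 (.node .leaf 3 0 53 .leaf)) 165 14 308 (.node
    (.node .leaf 393 14 407 .leaf) 160 6 49 .leaf)) 54 6 180 (.node (.node (.node .leaf 373 14 372 .leaf) 39 1
    102 .leaf) 1 4 2 (.node (.node .leaf 383 0 133 .leaf) 243 12 232 .leaf))) 20 14 116 (.node (.node (.node
    (.node .leaf 337 16 326 .leaf) 86 17 44 (.node .leaf 29 0 27 .leaf)) 230 13 372 (.node (.node .leaf 373 0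
    102 .leaf) 193 7 151 .leaf)) 93 12 244 (.node (.node (.node .leaf 395 14 246 .leaf) 36 4 124 .leaf) 20 10
    20 (.node (.node .leaf 76 0 11 .leaf) 269 9 267 .leaf)))))) 1 12 12 (.node (.node (.node (.node (.node
    (.node (.node .leaf 241 17 283 .leaf) 30 7 29 (.node .leaf 131 0 10 .leaf)) 127 19 268 (.node (.node .leaf
    408 14 407 .leaf) 46 1 138 .leaf)) 41 11 140 (.node (.node (.node .leaf 226 6 346 .leaf) 82 3 94 (.node
    .leaf 323 0 3 .leaf)) 246 2 396 (.node (.node .leaf 260 0 101 .leaf) 212 6 206 .leaf))) 9 12 76 (.node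
    (.node (.node (.node .leaf 318 8 188 .leaf) 68 2 13 (.node .leaf 160 0 125 .leaf)) 184 15 332 (.node
    (.node .leaf 376 15 335 .leaf) 174 7 52 .leaf)) 75 17 204 (.node (.node (.node .leaf 385 8 241 .leaf) 109
    10 110 .leaf) 11 10 11 (.node (.node .leaf 264 0 2 .leaf) 255 16 252 .leaf)))) 5 4 44 (.node (.node (.node
    (.node (.node .leaf 191 3 298 .leaf) 47 7 6 (.node .leaf 31 0 5 .leaf)) 158 12 300 (.node (.node .leaf 413
    0 389 .leaf) 158 7 58 .leaf)) 48 19 172 (.node (.node (.node .leaf 365 10 364 .leaf) 101 6 100 .leaf) 1 15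
    1 (.node (.node .leaf 127 0 96 .leaf) 239 16 227 .leaf))) 19 18 108 (.node (.node (.node (.node .leaf 241
    3 335 .leaf) 83 15 66 (.node .leaf 366 0 28 .leaf)) 221 20 364 (.node (.node .leaf 297 0 44 .leaf) 62 12
    190 .leaf)) 89 8 236 (.node (.node (.node .leaf 233 19 175 .leaf) 121 15 120 .leaf) 19 15 15 (.node (.node
    .leaf 76 0 131 .leaf) 265 9 260 .leaf))))) 3 8 28 (.node (.node (.node (.node (.node (.node .leaf 160 3
    291 .leaf) 30 16 36 (.node .leaf 289 0 27 .leaf)) 141 15 284 (.node (.node .leaf 414 7 402 .leaf) 148 10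
    147 .leaf)) 44 13 156 (.node (.node (.node .leaf 355 5 241 .leaf) 98 10 93 .leaf) 260 13 412 (.node (.node
    .leaf 308 0 174 .leaf) 218 14 220 .leaf))) 13 18 92 (.node (.node (.node (.node .leaf 326 17 327 .leaf) 76
    18 38 (.node .leaf 123 0 40 .leaf)) 206 13 348 (.node (.node .leaf 324 0 326 .leaf) 100 14 180 .leaf)) 84
    17 220 (.node (.node (.node .leaf 394 2 274 .leaf) 116 14 115 .leaf) 16 8 8 (.node (.node .leaf 281 0 284
    .leaf) 114 0 257 .leaf)))) 6 11 60 (.node (.node (.node (.node (.node .leaf 278 15 307 .leaf) 57 10 42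
    (.node .leaf 332 0 36 .leaf)) 172 6 316 (.node (.node .leaf 324 11 405 .leaf) 163 15 155 .leaf)) 60 14 188
    (.node (.node (.node .leaf 378 14 377 .leaf) 91 7 104 .leaf) 4 9 4 (.node (.node .leaf 95 0 2 .leaf) 215 3
    246 .leaf))) 25 13 124 (.node (.node (.node (.node .leaf 339 13 278 .leaf) 90 9 85 (.node .leaf 28 0 27
    .leaf)) 233 19 380 (.node (.node .leaf 193 0 189 .leaf) 205 15 199 .leaf)) 109 17 252 (.node (.node (.node
    .leaf 342 6 400 .leaf) 127 2 91 .leaf) 26 4 4 (.node (.node .leaf 301 0 46 .leaf) 274 3 273 .leaf))))))))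
    0 18 2 (.node (.node (.node (.node (.node (.node (.node (.node (.node .leaf 278 4 166 .leaf) 28 15 25
    (.node .leaf 221 0 316 .leaf)) 111 17 258 (.node (.node .leaf 403 4 260 .leaf) 133 10 132 .leaf)) 39 20
    130 (.node (.node (.node .leaf 281 11 340 .leaf) 13 12 91 (.node .leaf 155 0 27 .leaf)) 240 11 386 (.node
    (.node .leaf 336 0 64 .leaf) 210 14 106 .leaf))) 7 18 66 (.node (.node (.node (.node .leaf 311 15 289
    .leaf) 50 16 60 (.node .leaf 139 0 35 .leaf)) 176 19 322 (.node (.node .leaf 384 0 376 .leaf) 166 5 50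
    .leaf)) 63 15 194 (.node (.node (.node .leaf 381 9 364 .leaf) 75 13 105 .leaf) 6 16 5 (.node (.node .leaf
    289 0 153 .leaf) 199 8 249 .leaf)))) 4 11 34 (.node (.node (.node (.node (.node .leaf 295 6 168 .leaf) 15
    14 39 (.node .leaf 49 0 31 .leaf)) 147 14 290 (.node (.node .leaf 264 4 405 .leaf) 153 2 147 .leaf)) 45 15
    162 (.node (.node (.node .leaf 357 16 353 .leaf) 99 9 99 .leaf) 0 4 0 (.node (.node .leaf 283 0 43 .leaf)
    229 10 225 .leaf))) 16 17 98 (.node (.node (.node (.node .leaf 183 6 330 .leaf) 79 6 75 (.node .leaf 310 0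
    30 .leaf)) 210 19 354 (.node (.node .leaf 391 0 387 .leaf) 61 5 184 .leaf)) 84 14 226 (.node (.node (.node
    .leaf 380 0 175 .leaf) 86 1 116 .leaf) 8 8 16 (.node (.node .leaf 294 0 333 .leaf) 256 0 227 .leaf))))) 2
    6 18 (.node (.node (.node (.node (.node (.node .leaf 287 5 147 .leaf) 32 14 8 (.node .leaf 98 0 27 .leaf))
    135 15 274 (.node (.node .leaf 398 6 410 .leaf) 60 2 141 .leaf)) 42 7 146 (.node (.node (.node .leaf 209 4
    349 .leaf) 95 19 95 (.node .leaf 40 0 2 .leaf)) 259 3 402 (.node (.node .leaf 72 0 75 .leaf) 111 6 213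
    .leaf))) 11 17 82 (.node (.node (.node (.node .leaf 320 9 315 .leaf) 54 7 71 (.node .leaf 159 0 124
    .leaf)) 190 18 338 (.node (.node .leaf 404 0 405 .leaf) 176 2 142 .leaf)) 76 14 210 (.node (.node (.node
    .leaf 389 4 384 .leaf) 91 2 111 .leaf) 10 15 14 (.node (.node .leaf 11 0 10 .leaf) 258 15 246 .leaf)))) 5
    12 50 (.node (.node (.node (.node (.node .leaf 175 13 301 .leaf) 48 9 47 (.node .leaf 51 0 5 .leaf)) 164
    11 306 (.node (.node .leaf 392 0 326 .leaf) 48 13 159 .leaf)) 50 13 178 (.node (.node (.node .leaf 327 3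
    369 .leaf) 102 14 54 .leaf) 1 17 2 (.node (.node .leaf 102 0 81 .leaf) 230 16 241 .leaf))) 20 19 114
    (.node (.node (.node (.node .leaf 337 10 335 .leaf) 39 3 86 (.node .leaf 46 0 5 .leaf)) 230 7 370 (.node
    (.node .leaf 324 0 39 .leaf) 139 11 192 .leaf)) 93 1 242 (.node (.node (.node .leaf 318 20 361 .leaf) 123
    18 79 .leaf) 20 3 8 (.node (.node .leaf 75 0 1 .leaf) 269 1 260 .leaf)))))) 1 6 10 (.node (.node (.node
    (.node (.node (.node (.node .leaf 151 2 283 .leaf) 30 14 29 (.node .leaf 121 0 94 .leaf)) 118 19 266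
    (.node (.node .leaf 406 3 386 .leaf) 44 11 137 .leaf)) 41 6 138 (.node (.node (.node .leaf 345 12 238
    .leaf) 93 8 66 (.node .leaf 174 0 5 .leaf)) 245 12 394 (.node (.node .leaf 111 0 101 .leaf) 204 3 211
    .leaf))) 9 18 74 (.node (.node (.node (.node .leaf 318 15 293 .leaf) 67 7 39 (.node .leaf 304 0 29 .leaf))
    182 15 330 (.node (.node .leaf 376 7 241 .leaf) 174 6 167 .leaf)) 69 5 202 (.node (.node (.node .leaf 336
    17 384 .leaf) 89 2 109 .leaf) 10 10 10 (.node (.node .leaf 335 0 10 .leaf) 254 8 110 .leaf)))) 5 2 42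
    (.node (.node (.node (.node (.node .leaf 298 14 297 .leaf) 44 16 44 (.node .leaf 43 0 28 .leaf)) 153 14
    298 (.node (.node .leaf 372 0 337 .leaf) 157 3 52 .leaf)) 47 11 170 (.node (.node (.node .leaf 226 12 362
    .leaf) 96 9 100 .leaf) 1 9 1 (.node (.node .leaf 267 0 15 .leaf) 236 9 223 .leaf))) 18 12 106 (.node
    (.node (.node (.node .leaf 335 9 326 .leaf) 77 9 81 (.node .leaf 316 0 36 .leaf)) 216 8 362 (.node (.node
    .leaf 230 0 86 .leaf) 190 12 187 .leaf)) 89 4 234 (.node (.node (.node .leaf 227 19 183 .leaf) 120 10 119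
    .leaf) 19 3 7 (.node (.node .leaf 101 0 2 .leaf) 264 9 259 .leaf))))) 3 4 26 (.node (.node (.node (.node
    (.node (.node .leaf 188 3 290 .leaf) 36 7 30 (.node .leaf 169 0 26 .leaf)) 139 12 282 (.node (.node .leaf
    414 10 409 .leaf) 147 3 49 .leaf)) 44 5 154 (.node (.node (.node .leaf 328 3 353 .leaf) 54 2 97 (.node
    .leaf 2 0 0 .leaf)) 260 17 410 (.node (.node .leaf 318 0 48 .leaf) 209 5 217 .leaf))) 12 20 90 (.node
    (.node (.node (.node .leaf 326 10 324 .leaf) 32 15 76 (.node .leaf 209 0 59 .leaf)) 206 8 346 (.node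
    (.node .leaf 259 0 260 .leaf) 179 14 178 .leaf)) 82 1 218 (.node (.node (.node .leaf 393 7 337 .leaf) 115
    15 100 .leaf) 16 2 15 (.node (.node .leaf 340 0 189 .leaf) 261 14 262 .leaf)))) 6 5 58 (.node (.node
    (.node (.node (.node .leaf 306 15 292 .leaf) 56 10 41 (.node .leaf 6 13 6 .leaf)) 170 20 314 (.node (.node
    .leaf 326 11 404 .leaf) 163 13 47 .leaf)) 59 11 186 (.node (.node (.node .leaf 376 10 371 .leaf) 54 15 104
    .leaf) 4 1 4 (.node (.node .leaf 378 0 81 .leaf) 246 17 211 .leaf))) 24 8 122 (.node (.node (.node (.node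
    .leaf 339 8 297 .leaf) 89 9 84 (.node .leaf 168 0 28 .leaf)) 231 14 378 (.node (.node .leaf 193 0 340
    .leaf) 196 9 202 .leaf)) 107 1 250 (.node (.node (.node .leaf 399 16 398 .leaf) 118 6 127 .leaf) 23 17 24
    (.node (.node .leaf 166 0 159 .leaf) 273 15 272 .leaf))))))) 1 20 6 (.node (.node (.node (.node (.node
    (.node (.node (.node .leaf 275 15 279 .leaf) 28 9 27 (.node .leaf 350 0 305 .leaf)) 114 17 262 (.node
    (.node .leaf 404 15 403 .leaf) 134 15 133 .leaf)) 40 7 134 (.node (.node (.node .leaf 343 9 341 .leaf) 92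
    15 74 (.node .leaf 25 0 5 .leaf)) 241 18 390 (.node (.node .leaf 403 0 68 .leaf) 211 9 211 .leaf))) 8 18
    70 (.node (.node (.node (.node .leaf 297 15 312 .leaf) 61 10 50 (.node .leaf 280 0 128 .leaf)) 178 17 326
    (.node (.node .leaf 406 0 379 .leaf) 168 4 163 .leaf)) 66 12 198 (.node (.node (.node .leaf 293 17 383
    .leaf) 107 15 93 .leaf) 9 10 9 (.node (.node .leaf 375 0 99 .leaf) 250 14 252 .leaf)))) 4 15 38 (.node
    (.node (.node (.node (.node .leaf 297 4 190 .leaf) 6 4 43 (.node .leaf 108 0 134 .leaf)) 150 13 294 (.node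
    (.node .leaf 265 4 404 .leaf) 154 10 149 .leaf)) 46 12 166 (.node (.node (.node .leaf 359 5 260 .leaf) 82
    4 99 .leaf) 0 14 0 (.node (.node .leaf 311 0 171 .leaf) 90 4 233 .leaf))) 16 14 102 (.node (.node (.node
    (.node .leaf 333 6 289 .leaf) 31 17 79 (.node .leaf 163 0 45 .leaf)) 213 19 358 (.node (.node .leaf 240 0
    91 .leaf) 188 14 187 .leaf)) 86 19 230 (.node (.node (.node .leaf 234 0 313 .leaf) 118 12 102 .leaf) 18 6
    17 (.node (.node .leaf 295 0 292 .leaf) 221 2 239 .leaf))))) 2 14 22 (.node (.node (.node (.node (.node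
    (.node .leaf 289 2 156 .leaf) 35 2 25 (.node .leaf 70 0 3 .leaf)) 138 11 278 (.node (.node .leaf 413 14
    412 .leaf) 144 2 60 .leaf)) 43 6 150 (.node (.node (.node .leaf 229 12 351 .leaf) 96 20 96 (.node .leaf 1
    0 5 .leaf)) 259 12 406 (.node (.node .leaf 412 0 126 .leaf) 211 3 214 .leaf))) 11 14 86 (.node (.node
    (.node (.node .leaf 320 16 323 .leaf) 75 15 68 (.node .leaf 271 0 59 .leaf)) 199 12 342 (.node (.node
    .leaf 231 0 230 .leaf) 140 15 176 .leaf)) 80 17 214 (.node (.node (.node .leaf 378 9 391 .leaf) 79 7 112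
    .leaf) 11 3 15 (.node (.node .leaf 187 0 61 .leaf) 260 1 241 .leaf)))) 6 17 54 (.node (.node (.node (.node
    (.node .leaf 187 6 303 .leaf) 54 1 21 (.node .leaf 167 0 48 .leaf)) 167 19 310 (.node (.node .leaf 335 13
    378 .leaf) 47 6 161 .leaf)) 57 14 182 (.node (.node (.node .leaf 374 17 302 .leaf) 103 6 19 .leaf) 2 7 1
    (.node (.node .leaf 369 0 132 .leaf) 244 14 232 .leaf))) 23 12 118 (.node (.node (.node (.node .leaf 240 3
    337 .leaf) 71 17 48 (.node .leaf 30 0 28 .leaf)) 230 15 374 (.node (.node .leaf 371 0 104 .leaf) 195 14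
    135 .leaf)) 95 17 246 (.node (.node (.node .leaf 246 14 396 .leaf) 126 1 77 .leaf) 16 15 20 (.node (.node
    .leaf 206 0 5 .leaf) 200 6 270 .leaf)))))) 1 14 14 (.node (.node (.node (.node (.node (.node (.node .leaf
    186 1 285 .leaf) 31 4 27 (.node .leaf 333 0 294 .leaf)) 129 5 270 (.node (.node .leaf 409 4 404 .leaf) 48
    1 139 .leaf)) 41 15 142 (.node (.node (.node .leaf 216 14 347 .leaf) 69 7 94 (.node .leaf 328 0 40 .leaf))
    249 11 398 (.node (.node .leaf 358 0 100 .leaf) 84 6 212 .leaf))) 10 18 78 (.node (.node (.node (.node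
    .leaf 177 8 318 .leaf) 39 6 68 (.node .leaf 163 0 125 .leaf)) 187 15 334 (.node (.node .leaf 374 5 376
    .leaf) 174 15 152 .leaf)) 75 19 206 (.node (.node (.node .leaf 385 9 370 .leaf) 111 8 75 .leaf) 12 16 11
    (.node (.node .leaf 87 0 73 .leaf) 256 2 233 .leaf)))) 5 6 46 (.node (.node (.node (.node (.node .leaf 188
    6 299 .leaf) 47 16 47 (.node .leaf 61 0 6 .leaf)) 160 13 302 (.node (.node .leaf 388 0 324 .leaf) 47 13
    158 .leaf)) 48 6 174 (.node (.node (.node .leaf 366 6 227 .leaf) 101 9 95 .leaf) 2 16 2 (.node (.node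
    .leaf 359 0 15 .leaf) 240 16 231 .leaf))) 19 20 110 (.node (.node (.node (.node .leaf 336 8 290 .leaf) 84
    10 85 (.node .leaf 349 0 28 .leaf)) 225 15 366 (.node (.node .leaf 335 0 54 .leaf) 177 16 190 .leaf)) 89
    13 238 (.node (.node (.node .leaf 356 20 319 .leaf) 122 15 119 .leaf) 19 10 19 (.node (.node .leaf 217 0
    201 .leaf) 230 2 266 .leaf))))) 3 14 30 (.node (.node (.node (.node (.node (.node .leaf 150 1 292 .leaf)
    37 6 27 (.node .leaf 294 0 37 .leaf)) 144 13 286 (.node (.node .leaf 415 14 416 .leaf) 149 3 58 .leaf)) 45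
    7 158 (.node (.node (.node .leaf 356 6 344 .leaf) 98 3 88 .leaf) 260 15 414 (.node (.node .leaf 302 0 47
    .leaf) 222 4 85 .leaf))) 15 18 94 (.node (.node (.node (.node .leaf 329 6 183 .leaf) 13 6 77 (.node .leaf
    172 0 28 .leaf)) 208 4 350 (.node (.node .leaf 309 0 318 .leaf) 182 14 181 .leaf)) 84 4 222 (.node (.node
    (.node .leaf 382 0 142 .leaf) 116 7 80 .leaf) 16 3 12 (.node (.node .leaf 288 0 282 .leaf) 114 11 239
    .leaf)))) 6 13 62 (.node (.node (.node (.node (.node .leaf 308 6 175 .leaf) 46 16 58 (.node .leaf 288 0 34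
    .leaf)) 174 11 318 (.node (.node .leaf 371 2 405 .leaf) 164 15 150 .leaf)) 61 13 190 (.node (.node (.node
    .leaf 379 17 312 .leaf) 64 17 104 .leaf) 4 16 3 (.node (.node .leaf 13 0 8 .leaf) 248 7 198 .leaf))) 32 6
    126 (.node (.node (.node (.node .leaf 193 2 339 .leaf) 84 16 90 (.node .leaf 25 0 6 .leaf)) 239 20 382
    (.node (.node .leaf 194 0 192 .leaf) 207 14 105 .leaf)) 109 8 254 (.node (.node (.node .leaf 401 6 399
    .leaf) 132 17 86 .leaf) 27 13 27 (.node (.node .leaf 349 0 317 .leaf) 190 2 275 .leaf))))))))) 0 17 1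
    (.node (.node (.node (.node (.node (.node (.node (.node (.node (.node .leaf 138 4 277 .leaf) 27 16 27
    (.node .leaf 356 0 310 .leaf)) 110 15 257 (.node (.node .leaf 260 4 402 .leaf) 133 4 55 .leaf)) 39 19 129
    (.node (.node (.node .leaf 340 6 339 .leaf) 54 4 91 (.node .leaf 163 0 5 .leaf)) 240 8 385 (.node (.node
    .leaf 336 13 278 .leaf) 208 10 209 .leaf))) 7 17 65 (.node (.node (.node (.node .leaf 283 15 309 .leaf) 60
    10 49 (.node .leaf 329 0 35 .leaf)) 175 20 321 (.node (.node .leaf 370 0 386 .leaf) 49 6 165 .leaf)) 62 15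
    193 (.node (.node (.node .leaf 380 16 364 .leaf) 86 8 105 .leaf) 5 10 6 (.node (.node .leaf 156 0 147
    .leaf) 249 16 249 .leaf)))) 4 18 33 (.node (.node (.node (.node (.node .leaf 193 14 294 .leaf) 38 3 27
    (.node .leaf 157 0 27 .leaf)) 147 13 289 (.node (.node .leaf 264 3 404 .leaf) 59 4 150 .leaf)) 45 13 161
    (.node (.node (.node .leaf 357 9 357 .leaf) 83 3 98 .leaf) 0 2 0 (.node (.node .leaf 174 0 176 .leaf) 228
    10 224 .leaf))) 15 13 97 (.node (.node (.node (.node .leaf 330 6 329 .leaf) 79 15 23 (.node .leaf 160 0 45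
    .leaf)) 210 18 353 (.node (.node .leaf 355 0 354 .leaf) 183 16 142 .leaf)) 84 13 225 (.node (.node (.node
    .leaf 381 0 170 .leaf) 116 10 116 .leaf) 16 10 16 (.node (.node .leaf 329 0 281 .leaf) 235 0 228
    .leaf))))) 2 5 17 (.node (.node (.node (.node (.node (.node .leaf 286 4 181 .leaf) 32 1 13 (.node .leaf
    122 0 99 .leaf)) 135 8 273 (.node (.node .leaf 410 16 401 .leaf) 141 12 140 .leaf)) 42 6 145 (.node (.node
    (.node .leaf 349 6 233 .leaf) 95 11 71 (.node .leaf 121 0 1 .leaf)) 259 17 401 (.node (.node .leaf 264 0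
    95 .leaf) 210 2 213 .leaf))) 10 13 81 (.node (.node (.node (.node .leaf 319 5 176 .leaf) 69 9 65 (.node
    .leaf 278 0 36 .leaf)) 190 17 337 (.node (.node .leaf 376 0 371 .leaf) 171 9 175 .leaf)) 76 20 209 (.node
    (.node (.node .leaf 388 9 372 .leaf) 111 10 111 .leaf) 13 15 9 (.node (.node .leaf 11 0 54 .leaf) 257 11
    239 .leaf)))) 5 11 49 (.node (.node (.node (.node (.node .leaf 301 15 291 .leaf) 48 10 47 (.node .leaf 49
    0 5 .leaf)) 161 19 305 (.node (.node .leaf 337 14 230 .leaf) 159 8 58 .leaf)) 49 14 177 (.node (.node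
    (.node .leaf 344 13 367 .leaf) 96 1 101 .leaf) 2 20 2 (.node (.node .leaf 378 0 102 .leaf) 240 10 241
    .leaf))) 20 17 113 (.node (.node (.node (.node .leaf 189 6 336 .leaf) 67 15 86 (.node .leaf 46 0 31
    .leaf)) 230 18 369 (.node (.node .leaf 389 0 71 .leaf) 188 11 191 .leaf)) 91 20 241 (.node (.node (.node
    .leaf 311 19 350 .leaf) 123 4 121 .leaf) 20 2 11 (.node (.node .leaf 72 0 1 .leaf) 267 16 268 .leaf))))))
    1 5 9 (.node (.node (.node (.node (.node (.node (.node .leaf 282 12 192 .leaf) 27 6 29 (.node .leaf 28 0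
    93 .leaf)) 116 20 265 (.node (.node .leaf 405 1 385 .leaf) 61 2 136 .leaf)) 41 4 137 (.node (.node (.node
    .leaf 223 13 345 .leaf) 93 4 88 (.node .leaf 317 0 3 .leaf)) 241 15 393 (.node (.node .leaf 71 0 22 .leaf)
    211 16 203 .leaf))) 9 17 73 (.node (.node (.node (.node .leaf 174 20 317 .leaf) 64 4 48 (.node .leaf 155 0
    29 .leaf)) 181 15 329 (.node (.node .leaf 376 3 389 .leaf) 156 15 169 .leaf)) 68 20 201 (.node (.node
    (.node .leaf 384 16 370 .leaf) 82 8 108 .leaf) 10 16 9 (.node (.node .leaf 133 0 94 .leaf) 110 4 253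
    .leaf)))) 5 1 41 (.node (.node (.node (.node (.node .leaf 231 17 297 .leaf) 44 9 43 (.node .leaf 43 0 93
    .leaf)) 153 13 297 (.node (.node .leaf 265 15 259 .leaf) 156 10 151 .leaf)) 47 5 169 (.node (.node (.node
    .leaf 362 15 361 .leaf) 32 8 100 .leaf) 1 10 1 (.node (.node .leaf 266 0 15 .leaf) 236 10 235 .leaf))) 18
    11 105 (.node (.node (.node (.node .leaf 334 13 292 .leaf) 76 5 80 (.node .leaf 317 0 36 .leaf)) 216 3 361
    (.node (.node .leaf 378 0 373 .leaf) 63 11 188 .leaf)) 89 3 233 (.node (.node (.node .leaf 323 20 221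
    .leaf) 120 4 33 .leaf) 18 7 14 (.node (.node .leaf 278 0 185 .leaf) 264 6 240 .leaf))))) 3 3 25 (.node
    (.node (.node (.node (.node (.node .leaf 290 18 230 .leaf) 36 2 36 (.node .leaf 156 0 27 .leaf)) 139 6 281
    (.node (.node .leaf 414 13 379 .leaf) 147 2 44 .leaf)) 44 2 153 (.node (.node (.node .leaf 225 12 352
    .leaf) 39 14 97 (.node .leaf 328 0 2 .leaf)) 259 15 409 (.node (.node .leaf 309 0 48 .leaf) 89 6 216
    .leaf))) 12 19 89 (.node (.node (.node (.node .leaf 324 17 325 .leaf) 76 10 76 (.node .leaf 209 0 271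
    .leaf)) 206 7 345 (.node (.node .leaf 264 0 265 .leaf) 177 9 178 .leaf)) 80 20 217 (.node (.node (.node
    .leaf 393 4 385 .leaf) 114 2 84 .leaf) 11 4 15 (.node (.node .leaf 61 0 63 .leaf) 247 15 261 .leaf)))) 6 2
    57 (.node (.node (.node (.node (.node .leaf 290 6 304 .leaf) 54 17 55 (.node .leaf 174 0 48 .leaf)) 170 19
    313 (.node (.node .leaf 404 9 403 .leaf) 163 6 51 .leaf)) 58 15 185 (.node (.node (.node .leaf 338 4 375
    .leaf) 104 7 91 .leaf) 3 9 3 (.node (.node .leaf 96 0 16 .leaf) 245 7 197 .leaf))) 24 7 121 (.node (.node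
    (.node (.node .leaf 337 17 338 .leaf) 88 15 70 (.node .leaf 163 0 6 .leaf)) 231 13 377 (.node (.node .leaf
    190 0 6 .leaf) 201 5 130 .leaf)) 101 17 249 (.node (.node (.node .leaf 399 7 342 .leaf) 111 2 127 .leaf)
    14 1 23 (.node (.node .leaf 179 0 49 .leaf) 201 6 271 .leaf))))))) 1 19 5 (.node (.node (.node (.node
    (.node (.node (.node (.node .leaf 167 1 279 .leaf) 28 13 28 (.node .leaf 315 0 305 .leaf)) 113 1 261
    (.node (.node .leaf 404 7 260 .leaf) 134 7 55 .leaf)) 40 4 133 (.node (.node (.node .leaf 227 17 341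
    .leaf) 43 18 91 (.node .leaf 28 0 3 .leaf)) 240 15 389 (.node (.node .leaf 354 0 210 .leaf) 91 6 210
    .leaf))) 8 17 69 (.node (.node (.node (.node .leaf 312 12 311 .leaf) 61 16 49 (.node .leaf 330 0 35
    .leaf)) 177 18 325 (.node (.node .leaf 411 0 374 .leaf) 151 15 167 .leaf)) 65 14 197 (.node (.node (.node
    .leaf 383 10 375 .leaf) 104 5 106 .leaf) 8 16 7 (.node (.node .leaf 153 0 157 .leaf) 251 17 127 .leaf))))
    4 14 37 (.node (.node (.node (.node (.node .leaf 297 2 289 .leaf) 43 16 43 (.node .leaf 162 0 29 .leaf))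
    148 14 293 (.node (.node .leaf 264 13 379 .leaf) 153 10 140 .leaf)) 46 11 165 (.node (.node (.node .leaf
    359 1 355 .leaf) 87 3 99 .leaf) 0 10 0 (.node (.node .leaf 171 0 161 .leaf) 233 9 222 .leaf))) 16 6 101
    (.node (.node (.node (.node .leaf 333 13 189 .leaf) 76 9 79 (.node .leaf 128 0 28 .leaf)) 213 18 357
    (.node (.node .leaf 91 0 241 .leaf) 187 12 62 .leaf)) 85 13 229 (.node (.node (.node .leaf 227 0 331
    .leaf) 117 20 99 .leaf) 13 8 17 (.node (.node .leaf 295 0 332 .leaf) 227 2 233 .leaf))))) 2 13 21 (.node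
    (.node (.node (.node (.node (.node .leaf 286 15 288 .leaf) 26 2 34 (.node .leaf 83 0 38 .leaf)) 137 6 277
    (.node (.node .leaf 391 2 412 .leaf) 144 10 143 .leaf)) 43 5 149 (.node (.node (.node .leaf 228 13 351
    .leaf) 96 4 79 (.node .leaf 251 0 1 .leaf)) 259 8 405 (.node (.node .leaf 178 0 5 .leaf) 214 10 204
    .leaf))) 11 20 85 (.node (.node (.node (.node .leaf 323 9 314 .leaf) 74 9 74 (.node .leaf 270 0 46 .leaf))
    196 11 341 (.node (.node .leaf 241 0 240 .leaf) 176 16 175 .leaf)) 79 13 213 (.node (.node (.node .leaf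
    390 10 369 .leaf) 112 3 23 .leaf) 15 19 15 (.node (.node .leaf 62 0 60 .leaf) 230 6 259 .leaf)))) 5 15 53
    (.node (.node (.node (.node (.node .leaf 303 14 302 .leaf) 54 9 39 (.node .leaf 40 18 9 .leaf)) 166 14 309
    (.node (.node .leaf 324 13 240 .leaf) 161 7 63 .leaf)) 57 13 181 (.node (.node (.node .leaf 374 4 370
    .leaf) 23 11 102 .leaf) 1 7 2 (.node (.node .leaf 390 0 133 .leaf) 93 14 243 .leaf))) 22 18 117 (.node
    (.node (.node (.node .leaf 337 3 241 .leaf) 47 18 67 (.node .leaf 356 0 30 .leaf)) 230 14 373 (.node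
    (.node .leaf 86 0 16 .leaf) 194 6 193 .leaf)) 94 6 245 (.node (.node (.node .leaf 396 12 360 .leaf) 29 15
    125 .leaf) 8 3 20 (.node (.node .leaf 76 0 10 .leaf) 241 1 269 .leaf)))))) 1 13 13 (.node (.node (.node
    (.node (.node (.node (.node .leaf 284 11 189 .leaf) 30 9 29 (.node .leaf 357 0 94 .leaf)) 127 20 269
    (.node (.node .leaf 408 7 372 .leaf) 139 15 136 .leaf)) 41 12 141 (.node (.node (.node .leaf 347 7 238
    .leaf) 65 8 94 (.node .leaf 3 0 0 .leaf)) 246 12 397 (.node (.node .leaf 268 0 96 .leaf) 212 9 208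
    .leaf))) 9 14 77 (.node (.node (.node (.node .leaf 175 6 318 .leaf) 32 2 68 (.node .leaf 303 0 59 .leaf))
    186 15 333 (.node (.node .leaf 376 18 336 .leaf) 174 9 169 .leaf)) 75 18 205 (.node (.node (.node .leaf
    385 10 384 .leaf) 111 7 75 .leaf) 12 9 11 (.node (.node .leaf 324 0 9 .leaf) 247 6 255 .leaf)))) 5 5 45
    (.node (.node (.node (.node (.node .leaf 299 8 160 .leaf) 47 15 44 (.node .leaf 60 0 6 .leaf)) 159 11 301
    (.node (.node .leaf 408 0 393 .leaf) 158 15 154 .leaf)) 48 20 173 (.node (.node (.node .leaf 366 2 349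
    .leaf) 101 8 72 .leaf) 2 9 2 (.node (.node .leaf 355 0 210 .leaf) 240 9 230 .leaf))) 19 19 109 (.node
    (.node (.node (.node .leaf 336 4 318 .leaf) 82 17 83 (.node .leaf 28 0 36 .leaf)) 222 19 365 (.node (.node
    .leaf 375 0 132 .leaf) 188 9 190 .leaf)) 89 11 237 (.node (.node (.node .leaf 309 19 344 .leaf) 100 18 121
    .leaf) 19 8 11 (.node (.node .leaf 216 0 200 .leaf) 264 10 265 .leaf))))) 3 13 29 (.node (.node (.node
    (.node (.node (.node .leaf 292 10 287 .leaf) 36 6 30 (.node .leaf 61 0 38 .leaf)) 144 6 285 (.node (.node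
    .leaf 398 15 415 .leaf) 49 3 148 .leaf)) 44 14 157 (.node (.node (.node .leaf 265 5 355 .leaf) 98 16 98
    .leaf) 260 14 413 (.node (.node .leaf 177 0 5 .leaf) 219 1 220 .leaf))) 15 17 93 (.node (.node (.node
    (.node .leaf 329 11 193 .leaf) 77 14 18 (.node .leaf 172 0 43 .leaf)) 208 3 349 (.node (.node .leaf 407 0
    412 .leaf) 62 2 181 .leaf)) 84 3 221 (.node (.node (.node .leaf 394 14 343 .leaf) 116 6 91 .leaf) 16 12 7
    (.node (.node .leaf 296 0 333 .leaf) 114 4 254 .leaf)))) 6 12 61 (.node (.node (.node (.node (.node .leaf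
    190 5 307 .leaf) 58 10 45 (.node .leaf 282 0 34 .leaf)) 173 6 317 (.node (.node .leaf 371 0 385 .leaf) 163
    9 159 .leaf)) 60 15 189 (.node (.node (.node .leaf 379 3 370 .leaf) 80 14 104 .leaf) 3 10 4 (.node (.node
    .leaf 324 0 12 .leaf) 246 8 199 .leaf))) 26 14 125 (.node (.node (.node (.node .leaf 339 6 192 .leaf) 89
    10 90 (.node .leaf 6 0 48 .leaf)) 234 20 381 (.node (.node .leaf 192 0 334 .leaf) 206 6 84 .leaf)) 109 3
    253 (.node (.node (.node .leaf 400 14 401 .leaf) 68 6 131 .leaf) 26 10 25 (.node (.node .leaf 320 0 310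
    .leaf) 274 18 142 .leaf)))))))) 0 19 3 (.node (.node (.node (.node (.node (.node (.node (.node (.node
    .leaf 150 2 278 .leaf) 28 8 4 (.node .leaf 323 0 317 .leaf)) 111 19 259 (.node (.node .leaf 403 10 402
    .leaf) 43 17 133 .leaf)) 39 5 131 (.node (.node (.node .leaf 296 13 340 .leaf) 86 9 91 (.node .leaf 27 0
    53 .leaf)) 240 13 387 (.node (.node .leaf 264 0 116 .leaf) 210 6 116 .leaf))) 7 6 67 (.node (.node (.node
    (.node .leaf 311 6 170 .leaf) 61 12 60 (.node .leaf 183 0 35 .leaf)) 176 20 323 (.node (.node .leaf 371 15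
    337 .leaf) 167 6 48 .leaf)) 65 1 195 (.node (.node (.node .leaf 382 1 364 .leaf) 106 2 79 .leaf) 8 2 7
    (.node (.node .leaf 298 0 156 .leaf) 250 7 232 .leaf)))) 4 12 35 (.node (.node (.node (.node (.node .leaf
    295 14 194 .leaf) 39 17 40 (.node .leaf 60 0 38 .leaf)) 148 5 291 (.node (.node .leaf 264 7 402 .leaf) 153
    4 61 .leaf)) 46 7 163 (.node (.node (.node .leaf 328 4 357 .leaf) 99 16 94 .leaf) 0 6 0 (.node (.node
    .leaf 361 0 173 .leaf) 230 10 231 .leaf))) 16 18 99 (.node (.node (.node (.node .leaf 185 2 332 .leaf) 79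
    10 79 (.node .leaf 221 0 36 .leaf)) 210 20 355 (.node (.node .leaf 283 0 293 .leaf) 64 13 185 .leaf)) 84
    15 227 (.node (.node (.node .leaf 221 0 322 .leaf) 101 15 116 .leaf) 13 7 17 (.node (.node .leaf 296 0 294
    .leaf) 223 12 89 .leaf))))) 2 11 19 (.node (.node (.node (.node (.node (.node .leaf 186 3 287 .leaf) 33 10
    24 (.node .leaf 92 0 70 .leaf)) 136 13 275 (.node (.node .leaf 411 5 376 .leaf) 142 3 139 .leaf)) 42 12
    147 (.node (.node (.node .leaf 350 10 349 .leaf) 75 3 95 (.node .leaf 99 0 1 .leaf)) 259 4 403 (.node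
    (.node .leaf 230 0 16 .leaf) 210 9 213 .leaf))) 11 18 83 (.node (.node (.node (.node .leaf 320 10 314
    .leaf) 67 9 71 (.node .leaf 159 0 46 .leaf)) 190 15 339 (.node (.node .leaf 389 0 393 .leaf) 176 7 50
    .leaf)) 78 19 211 (.node (.node (.node .leaf 389 8 337 .leaf) 86 6 111 .leaf) 15 7 7 (.node (.node .leaf
    325 0 73 .leaf) 215 8 258 .leaf)))) 5 13 51 (.node (.node (.node (.node (.node .leaf 302 7 188 .leaf) 48
    16 48 (.node .leaf 92 0 3 .leaf)) 164 12 307 (.node (.node .leaf 389 14 412 .leaf) 52 6 159 .leaf)) 50 14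
    179 (.node (.node (.node .leaf 370 15 324 .leaf) 102 6 32 .leaf) 1 3 2 (.node (.node .leaf 293 0 43 .leaf)
    242 14 93 .leaf))) 20 13 115 (.node (.node (.node (.node .leaf 337 9 324 .leaf) 14 11 86 (.node .leaf 350
    0 29 .leaf)) 230 12 371 (.node (.node .leaf 402 0 68 .leaf) 193 13 150 .leaf)) 93 2 243 (.node (.node
    (.node .leaf 349 19 308 .leaf) 124 4 29 .leaf) 20 9 19 (.node (.node .leaf 79 0 9 .leaf) 269 5 267
    .leaf)))))) 1 11 11 (.node (.node (.node (.node (.node (.node (.node .leaf 190 4 283 .leaf) 30 6 28 (.node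
    .leaf 251 0 99 .leaf)) 118 20 267 (.node (.node .leaf 406 5 371 .leaf) 50 2 137 .leaf)) 41 8 139 (.node
    (.node (.node .leaf 346 15 344 .leaf) 93 17 94 (.node .leaf 5 0 0 .leaf)) 246 1 395 (.node (.node .leaf
    259 0 101 .leaf) 204 4 203 .leaf))) 9 11 75 (.node (.node (.node (.node .leaf 318 6 308 .leaf) 10 1 67
    (.node .leaf 46 0 124 .leaf)) 183 20 331 (.node (.node .leaf 376 8 240 .leaf) 174 8 63 .leaf)) 74 20 203
    (.node (.node (.node .leaf 385 15 337 .leaf) 110 1 90 .leaf) 11 15 7 (.node (.node .leaf 12 0 9 .leaf) 254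
    1 236 .leaf)))) 5 3 43 (.node (.node (.node (.node (.node .leaf 298 3 179 .leaf) 46 20 10 (.node .leaf 31
    0 74 .leaf)) 158 11 299 (.node (.node .leaf 337 5 404 .leaf) 157 16 156 .leaf)) 47 12 171 (.node (.node
    (.node .leaf 363 19 364 .leaf) 100 17 28 .leaf) 1 16 1 (.node (.node .leaf 15 0 100 .leaf) 224 9 237
    .leaf))) 19 17 107 (.node (.node (.node (.node .leaf 335 16 324 .leaf) 82 15 65 (.node .leaf 349 0 36
    .leaf)) 221 19 363 (.node (.node .leaf 231 0 86 .leaf) 190 10 178 .leaf)) 89 7 235 (.node (.node (.node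
    .leaf 234 20 170 .leaf) 120 17 115 .leaf) 19 4 7 (.node (.node .leaf 111 0 2 .leaf) 260 16 264 .leaf)))))
    3 7 27 (.node (.node (.node (.node (.node (.node .leaf 291 2 149 .leaf) 28 6 36 (.node .leaf 153 0 27
    .leaf)) 140 13 283 (.node (.node .leaf 414 3 404 .leaf) 60 3 147 .leaf)) 44 6 155 (.node (.node (.node
    .leaf 240 6 354 .leaf) 32 12 97 (.node .leaf 0 17 0 .leaf)) 260 12 411 (.node (.node .leaf 175 0 167
    .leaf) 196 15 219 .leaf))) 12 13 91 (.node (.node (.node (.node .leaf 230 3 326 .leaf) 12 5 76 (.node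
    .leaf 120 0 108 .leaf)) 206 12 347 (.node (.node .leaf 402 0 403 .leaf) 180 6 72 .leaf)) 82 14 219 (.node
    (.node (.node .leaf 393 17 309 .leaf) 32 4 115 .leaf) 16 4 12 (.node (.node .leaf 334 0 192 .leaf) 255 15
    262 .leaf)))) 6 6 59 (.node (.node (.node (.node (.node .leaf 306 6 187 .leaf) 57 16 41 (.node .leaf 292 0
    36 .leaf)) 171 19 315 (.node (.node .leaf 405 9 402 .leaf) 163 7 59 .leaf)) 60 13 187 (.node (.node (.node
    .leaf 377 10 372 .leaf) 20 5 104 .leaf) 4 5 4 (.node (.node .leaf 54 0 10 .leaf) 246 3 205 .leaf))) 24 15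
    123 (.node (.node (.node (.node .leaf 339 2 334 .leaf) 89 16 85 (.node .leaf 28 0 44 .leaf)) 231 15 379
    (.node (.node .leaf 334 0 194 .leaf) 203 9 203 .leaf)) 108 20 251 (.node (.node (.node .leaf 400 7 360
    .leaf) 118 9 127 .leaf) 4 4 25 (.node (.node .leaf 344 0 172 .leaf) 245 1 273 .leaf))))))) 1 1 7 (.node
    (.node (.node (.node (.node (.node (.node (.node .leaf 173 1 280 .leaf) 28 16 28 (.node .leaf 180 0 39
    .leaf)) 116 17 263 (.node (.node .leaf 384 2 404 .leaf) 71 18 134 .leaf)) 41 17 135 (.node (.node (.node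
    .leaf 239 17 343 .leaf) 93 16 93 (.node .leaf 221 0 3 .leaf)) 241 13 391 (.node (.node .leaf 68 0 80
    .leaf) 211 10 203 .leaf))) 8 5 71 (.node (.node (.node (.node .leaf 171 5 312 .leaf) 63 14 62 (.node .leaf
    295 0 36 .leaf)) 178 18 327 (.node (.node .leaf 370 12 240 .leaf) 168 6 151 .leaf)) 68 18 199 (.node
    (.node (.node .leaf 384 7 241 .leaf) 88 8 107 .leaf) 10 6 9 (.node (.node .leaf 55 0 82 .leaf) 252 6 248
    .leaf)))) 5 17 39 (.node (.node (.node (.node (.node .leaf 297 10 283 .leaf) 44 4 6 (.node .leaf 117 0 108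
    .leaf)) 151 6 295 (.node (.node .leaf 265 7 403 .leaf) 155 10 150 .leaf)) 46 14 167 (.node (.node (.node
    .leaf 231 5 359 .leaf) 76 3 100 .leaf) 0 15 0 (.node (.node .leaf 311 0 161 .leaf) 234 9 221 .leaf))) 17
    11 103 (.node (.node (.node (.node .leaf 333 7 292 .leaf) 80 5 12 (.node .leaf 320 0 30 .leaf)) 213 20 359
    (.node (.node .leaf 267 0 266 .leaf) 188 16 178 .leaf)) 86 20 231 (.node (.node (.node .leaf 233 0 321
    .leaf) 86 2 118 .leaf) 18 8 14 (.node (.node .leaf 304 0 155 .leaf) 263 15 249 .leaf))))) 3 17 23 (.node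
    (.node (.node (.node (.node (.node .leaf 289 4 187 .leaf) 35 3 34 (.node .leaf 120 0 117 .leaf)) 138 14
    279 (.node (.node .leaf 372 7 413 .leaf) 146 15 144 .leaf)) 43 13 151 (.node (.node (.node .leaf 352 15
    349 .leaf) 18 1 96 (.node .leaf 1 0 0 .leaf)) 259 13 407 (.node (.node .leaf 391 0 97 .leaf) 214 17 215
    .leaf))) 12 17 87 (.node (.node (.node (.node .leaf 324 3 230 .leaf) 75 6 11 (.node .leaf 208 0 270
    .leaf)) 202 12 343 (.node (.node .leaf 335 0 337 .leaf) 52 11 177 .leaf)) 80 18 215 (.node (.node (.node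
    .leaf 392 14 391 .leaf) 96 15 112 .leaf) 7 7 15 (.node (.node .leaf 191 0 62 .leaf) 260 5 231 .leaf)))) 6
    18 55 (.node (.node (.node (.node (.node .leaf 304 2 162 .leaf) 54 14 16 (.node .leaf 187 0 6 .leaf)) 169
    11 311 (.node (.node .leaf 326 14 391 .leaf) 157 15 161 .leaf)) 57 15 183 (.node (.node (.node .leaf 375 9
    369 .leaf) 103 13 79 .leaf) 3 2 3 (.node (.node .leaf 370 0 13 .leaf) 198 7 244 .leaf))) 24 3 119 (.node
    (.node (.node (.node .leaf 338 9 327 .leaf) 88 16 83 (.node .leaf 303 0 6 .leaf)) 231 18 375 (.node (.node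
    .leaf 326 0 39 .leaf) 197 1 135 .leaf)) 98 11 247 (.node (.node (.node .leaf 397 14 360 .leaf) 126 14 101
    .leaf) 21 15 17 (.node (.node .leaf 51 0 49 .leaf) 131 19 270 .leaf)))))) 2 1 15 (.node (.node (.node
    (.node (.node (.node (.node .leaf 145 4 285 .leaf) 31 3 28 (.node .leaf 27 0 98 .leaf)) 130 5 271 (.node
    (.node .leaf 409 11 389 .leaf) 140 3 61 .leaf)) 42 3 143 (.node (.node (.node .leaf 348 8 226 .leaf) 95 2
    17 (.node .leaf 93 0 0 .leaf)) 249 12 399 (.node (.node .leaf 407 0 126 .leaf) 213 7 207 .leaf))) 10 11 79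
    (.node (.node (.node (.node .leaf 312 9 318 .leaf) 54 12 68 (.node .leaf 279 0 35 .leaf)) 188 17 335
    (.node (.node .leaf 379 5 371 .leaf) 175 10 170 .leaf)) 75 14 207 (.node (.node (.node .leaf 339 17 385
    .leaf) 111 15 95 .leaf) 12 10 12 (.node (.node .leaf 5 0 74 .leaf) 237 3 256 .leaf)))) 5 7 47 (.node
    (.node (.node (.node (.node .leaf 300 5 191 .leaf) 48 15 43 (.node .leaf 62 0 6 .leaf)) 160 14 303 (.node
    (.node .leaf 377 0 335 .leaf) 63 6 158 .leaf)) 48 11 175 (.node (.node (.node .leaf 367 2 361 .leaf) 101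
    16 95 .leaf) 2 10 2 (.node (.node .leaf 15 0 213 .leaf) 241 9 231 .leaf))) 19 13 111 (.node (.node (.node
    (.node .leaf 336 2 194 .leaf) 86 3 39 (.node .leaf 59 0 38 .leaf)) 226 15 367 (.node (.node .leaf 337 0 54
    .leaf) 191 14 190 .leaf)) 90 15 239 (.node (.node (.node .leaf 330 20 367 .leaf) 122 10 121 .leaf) 12 2 19
    (.node (.node .leaf 134 0 117 .leaf) 267 1 231 .leaf))))) 3 15 31 (.node (.node (.node (.node (.node
    (.node .leaf 293 18 240 .leaf) 37 7 36 (.node .leaf 298 0 27 .leaf)) 145 12 287 (.node (.node .leaf 410 15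
    416 .leaf) 45 3 149 .leaf)) 45 8 159 (.node (.node (.node .leaf 356 16 349 .leaf) 66 8 98 .leaf) 263 1 415
    (.node (.node .leaf 319 0 175 .leaf) 222 10 221 .leaf))) 15 5 95 (.node (.node (.node (.node .leaf 329 3
    288 .leaf) 78 9 78 (.node .leaf 344 0 28 .leaf)) 208 7 351 (.node (.node .leaf 312 0 302 .leaf) 182 1 63
    .leaf)) 84 7 223 (.node (.node (.node .leaf 364 0 176 .leaf) 116 11 22 .leaf) 16 9 15 (.node (.node .leaf
    292 0 332 .leaf) 224 0 236 .leaf)))) 6 14 63 (.node (.node (.node (.node (.node .leaf 167 11 308 .leaf) 59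
    10 46 (.node .leaf 281 0 35 .leaf)) 174 12 319 (.node (.node .leaf 371 3 393 .leaf) 164 8 59 .leaf)) 61 14
    191 (.node (.node (.node .leaf 380 9 365 .leaf) 105 8 86 .leaf) 5 9 5 (.node (.node .leaf 44 0 98 .leaf)
    248 16 247 .leaf))) 32 11 127 (.node (.node (.node (.node .leaf 279 11 339 .leaf) 91 15 71 (.node .leaf
    159 0 5 .leaf)) 240 18 383 (.node (.node .leaf 44 0 290 .leaf) 207 6 112 .leaf)) 110 17 255 (.node (.node
    (.node .leaf 402 2 386 .leaf) 55 4 132 .leaf) 27 7 4 (.node (.node .leaf 303 0 158 .leaf) 276 1 191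
    .leaf))))))))))

def c4S : List (ℕ × ℕ × List ℕ) :=
    [(0,0,[]), (0,0,[]), (0,0,[]), (0,0,[]), (0,0,[]), (0,0,[]), (0,0,[]), (0,0,[]), (0,0,[]), (0,0,[]),
    (0,0,[]), (0,0,[]), (0,0,[]), (0,0,[]), (0,0,[]), (0,0,[]), (0,0,[]), (0,0,[]), (0,0,[]), (0,0,[]),
    (0,0,[]), (0,0,[]), (0,0,[]), (0,0,[]), (0,0,[]), (0,0,[]), (0,0,[]), (0,0,[]), (0,0,[]), (0,0,[]),
    (0,0,[]), (0,0,[]), (0,0,[]), (0,0,[]), (0,0,[]), (0,0,[]), (0,0,[]), (0,0,[]), (0,0,[]), (0,0,[]),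
    (0,0,[]), (0,0,[]), (0,0,[]), (0,0,[]), (0,0,[]), (0,0,[]), (0,0,[]), (0,0,[]), (0,0,[]), (0,0,[]),
    (0,0,[]), (0,0,[]), (0,0,[]), (0,0,[]), (0,0,[]), (0,0,[]), (0,0,[]), (0,0,[]), (0,0,[]), (0,0,[]),
    (0,0,[]), (0,0,[]), (0,0,[]), (0,0,[]), (0,0,[]), (0,0,[]), (0,0,[]), (0,0,[]), (0,0,[]), (0,0,[]),
    (0,0,[]), (0,0,[]), (0,0,[]), (0,0,[]), (0,0,[]), (0,0,[]), (0,0,[]), (0,0,[]), (0,0,[]), (0,0,[]),
    (0,0,[]), (0,0,[]), (0,0,[]), (0,0,[]), (0,0,[]), (0,0,[]), (0,0,[]), (0,0,[]), (0,0,[]), (0,0,[]),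
    (0,0,[]), (0,0,[]), (0,0,[]), (0,0,[]), (0,0,[]), (0,0,[]), (0,0,[]), (0,0,[]), (0,0,[]), (0,0,[]),
    (0,0,[]), (0,0,[]), (0,0,[]), (0,0,[]), (0,0,[]), (0,0,[]), (0,0,[]), (0,0,[]), (0,0,[]), (0,0,[]),
    (0,0,[]), (0,0,[]), (0,0,[]), (0,0,[]), (0,0,[]), (0,0,[]), (0,0,[]), (0,0,[]), (0,0,[]), (0,0,[]),
    (0,0,[]), (0,0,[]), (0,0,[]), (0,0,[]), (0,0,[]), (0,0,[]), (0,0,[]), (0,0,[]), (0,0,[]), (0,0,[]),
    (0,0,[]), (0,0,[]), (0,0,[]), (0,0,[]), (0,0,[]), (0,0,[]), (0,0,[]), (0,0,[]), (0,0,[]), (0,0,[]),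
    (0,0,[]), (0,0,[]), (0,0,[]), (0,0,[]), (0,0,[]), (0,0,[]), (0,0,[]), (0,0,[]), (0,0,[]), (0,0,[]),
    (0,0,[]), (0,0,[]), (0,0,[]), (0,0,[]), (0,0,[]), (0,0,[]), (0,0,[]), (0,0,[]), (0,0,[]), (0,0,[]),
    (0,0,[]), (0,0,[]), (0,0,[]), (0,0,[]), (0,0,[]), (0,0,[]), (0,0,[]), (0,0,[]), (0,0,[]), (0,0,[]),
    (0,0,[]), (0,0,[]), (0,0,[]), (0,0,[]), (0,0,[]), (0,0,[]), (0,0,[]), (0,0,[]), (0,0,[]), (0,0,[]),
    (0,0,[]), (0,0,[]), (0,0,[]), (0,0,[]), (0,0,[]), (0,0,[]), (0,0,[]), (0,0,[]), (0,0,[]), (0,0,[]),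
    (0,0,[]), (0,0,[]), (0,0,[]), (0,0,[]), (0,0,[]), (0,0,[]), (0,0,[]), (0,0,[]), (0,0,[]), (0,0,[]),
    (0,0,[]), (0,0,[]), (0,0,[]), (0,0,[]), (0,0,[]), (0,0,[]), (0,0,[]), (0,0,[]), (0,0,[]), (0,0,[]),
    (0,0,[]), (0,0,[]), (0,0,[]), (0,0,[]), (0,0,[]), (0,0,[]), (0,0,[]), (0,0,[]), (0,0,[]), (0,0,[]),
    (0,0,[]), (0,0,[]), (0,0,[]), (0,0,[]), (0,0,[]), (0,0,[]), (0,0,[]), (0,0,[]), (0,0,[]), (0,0,[]),
    (0,0,[]), (0,0,[]), (0,0,[]), (0,0,[]), (0,0,[]), (0,0,[]), (0,0,[]), (0,0,[]), (0,0,[]), (0,0,[]),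
    (0,0,[]), (0,0,[]), (0,0,[]), (0,0,[]), (0,0,[]), (0,0,[]), (0,0,[]), (0,0,[]), (0,0,[]), (0,0,[]),
    (0,0,[]), (0,0,[]), (0,0,[]), (0,0,[]), (0,0,[]), (0,0,[]), (0,0,[]), (0,0,[]), (0,0,[]), (0,0,[]),
    (0,0,[]), (0,0,[]), (0,0,[]), (0,0,[]), (0,0,[]), (0,0,[]), (0,0,[]), (0,0,[]), (0,0,[]), (0,0,[]),
    (0,0,[]), (0,0,[]), (0,0,[]), (0,0,[]), (0,0,[]), (0,0,[]), (0,0,[]), (0,0,[]), (0,0,[]), (0,0,[]),
    (0,0,[]), (0,0,[]), (0,0,[]), (0,0,[]), (0,0,[]), (0,0,[]), (0,0,[]), (0,0,[]), (0,0,[]), (0,0,[]),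
    (0,0,[]), (0,0,[]), (0,0,[]), (0,0,[]), (0,0,[]), (0,0,[]), (0,0,[]), (0,0,[]), (0,0,[]), (0,0,[]),
    (0,0,[]), (0,0,[]), (0,0,[]), (0,0,[]), (0,0,[]), (0,0,[]), (0,0,[]), (0,0,[]), (0,0,[]), (0,0,[]),
    (0,0,[]), (0,0,[]), (0,0,[]), (0,0,[]), (0,0,[]), (0,0,[]), (0,0,[]), (0,0,[]), (0,0,[]), (0,0,[]),
    (0,0,[]), (0,0,[]), (0,0,[]), (0,0,[]), (0,0,[]), (0,0,[]), (0,0,[]), (0,0,[]), (0,0,[]), (0,0,[]),
    (0,0,[]), (0,0,[]), (0,0,[]), (0,0,[]), (0,0,[]), (0,0,[]), (0,0,[]), (0,0,[]), (0,0,[]), (0,0,[]),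
    (0,0,[]), (0,0,[]), (0,0,[]), (0,0,[]), (0,0,[]), (0,0,[]), (0,0,[]), (0,0,[]), (0,0,[]), (0,0,[]),
    (0,0,[]), (0,0,[]), (0,0,[]), (0,0,[]), (0,0,[]), (0,0,[]), (0,0,[]), (0,0,[]), (0,0,[]), (0,0,[]),
    (0,0,[]), (0,0,[]), (0,0,[]), (0,0,[]), (0,0,[]), (0,0,[]), (0,0,[]), (0,0,[]), (0,0,[]), (0,0,[]),
    (0,0,[]), (0,0,[]), (0,0,[]), (0,0,[]), (0,0,[]), (0,0,[]), (0,0,[]), (0,0,[]), (0,0,[]), (0,0,[]),
    (0,0,[]), (0,0,[]), (0,0,[]), (0,0,[]), (0,0,[]), (0,0,[]), (0,0,[]), (0,0,[]), (0,0,[]), (0,0,[]),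
    (0,0,[]), (0,0,[]), (0,0,[]), (0,0,[]), (0,0,[]), (0,0,[]), (0,0,[]), (0,0,[]), (0,0,[]), (0,0,[]),
    (0,0,[]), (0,0,[]), (0,0,[]), (0,0,[]), (0,0,[]), (0,0,[]), (0,0,[]), (0,0,[]), (0,0,[]), (0,0,[]),
    (0,0,[]), (0,0,[]), (0,0,[]), (0,0,[]), (0,0,[]), (0,0,[]), (1,0,[]), (1,0,[]), (1,0,[]), (1,0,[]),
    (1,0,[]), (1,0,[]), (1,0,[]), (1,0,[]), (81,1,[1,838,0]), (82,1,[1,846,0]), (83,1,[1,840,0]),
    (84,1,[1,844,0]), (81,3,[3,840,2]), (82,3,[3,838,2]), (83,3,[3,846,2]), (84,3,[3,844,2]),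
    (86,4,[3,833,842,2]), (80,2,[3,0]), (85,0,[3,835,0]), (54,1,[857,859,869]), (57,1,[862,861,869]),
    (64,3,[870,862,861]), (87,2,[5,833,4]), (88,2,[5,837,4]), (90,2,[5,838,4]), (87,0,[7,832,6]),
    (88,0,[7,836,6]), (90,0,[7,838,6]), (91,0,[7,841,4]), (31,1,[888,887]), (90,2,[9,850,8]),
    (90,0,[11,850,10]), (91,0,[11,849,8]), (31,1,[896,895]), (23,1,[13,14]), (39,1,[13,850,14]),
    (40,1,[13,852,14]), (52,3,[17,848,16]), (24,1,[17,18]), (49,1,[17,850,18]), (50,1,[17,852,18]),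
    (52,1,[19,848,18]), (41,3,[13,854,20]), (74,3,[21,848,20]), (72,1,[21,850,22]), (73,1,[21,852,22]),
    (74,1,[23,848,22]), (41,1,[23,855,14]), (51,3,[17,854,24]), (51,1,[27,855,18]), (34,3,[13,875,28]),
    (42,3,[29,860,28]), (87,1,[29,864,28]), (33,3,[29,869,20]), (34,3,[29,873,12]), (35,1,[29,871,14]),
    (38,3,[29,871,20]), (23,1,[29,30]), (33,1,[23,868,30]), (34,1,[15,872,30]), (35,1,[13,868,30]),
    (38,1,[23,870,30]), (39,1,[29,856,30]), (40,1,[29,858,30]), (42,1,[31,860,30]), (34,1,[31,874,14]),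
    (44,3,[33,873,24]), (46,1,[33,874,18]), (48,3,[33,874,24]), (24,1,[33,34]), (44,1,[27,872,34]),
    (46,1,[17,872,34]), (48,1,[27,875,34]), (33,3,[13,870,36]), (38,3,[13,868,36]), (41,3,[29,862,36]),
    (68,0,[21,872,36]), (74,3,[37,860,36]), (35,0,[37,30,954]), (68,0,[37,874,20]), (35,2,[938,29,38]),
    (36,2,[942,29,38]), (72,1,[37,856,38]), (74,1,[39,860,38]), (38,1,[39,869,14]), (41,1,[39,863,30]),
    (51,3,[33,862,40]), (86,2,[45,5,0,12]), (37,2,[1007,13,26]), (80,2,[47,44]), (25,0,[49,888]),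
    (25,1,[889,50]), (25,2,[49,50]), (48,2,[53,878,52]), (53,3,[1012,49,52]), (57,2,[1016,49,52]),
    (69,3,[53,880,52]), (26,2,[49,54]), (28,1,[889,54]), (28,2,[53,54]), (44,2,[55,878,54]),
    (66,2,[1024,53,54]), (67,2,[1034,53,54]), (37,0,[57,877,56]), (46,0,[57,878,52]), (30,1,[57,58]),
    (46,2,[55,878,58]), (47,2,[57,878,58]), (75,1,[57,880,58]), (26,0,[53,60]), (62,2,[1026,49,60]),
    (82,1,[45,891,62]), (86,1,[25,1,6,62]), (75,2,[902,1006,1055]), (83,3,[47,891,64]), (80,2,[65,62]),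
    (35,0,[67,883,1015]), (35,2,[1013,883,68]), (36,2,[67,883,68]), (45,2,[69,885,68]), (37,0,[71,882,70]),
    (44,3,[1044,1028,70]), (46,0,[71,885,1029]), (76,3,[71,890,58]), (48,0,[1046,1043,1075]),
    (46,2,[1020,885,72]), (47,2,[71,885,72]), (26,0,[1028,74]), (62,2,[1022,1014,74]), (86,2,[77,9,866,28]),
    (80,2,[79,76]), (87,1,[81,9,12]), (59,3,[85,892,84]), (25,0,[85,896]), (25,1,[897,86]), (25,2,[85,86]),
    (54,2,[1096,85,86]), (55,2,[1104,85,86]), (88,3,[19,8,90]), (53,3,[1098,85,92]), (57,2,[1102,85,92]),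
    (69,3,[93,892,92]), (26,2,[85,94]), (28,1,[897,94]), (28,2,[93,94]), (66,2,[1114,93,94]),
    (67,2,[1122,93,94]), (72,1,[97,892,98]), (82,1,[77,899,106]), (86,1,[41,867,10,106]),
    (75,2,[956,1090,1129]), (83,3,[79,899,108]), (80,2,[109,106]), (42,3,[81,896,110]), (40,1,[81,899,112]),
    (42,1,[83,896,112]), (52,3,[89,896,114]), (50,3,[115,898,90]), (52,1,[91,896,116]), (88,3,[117,11,18]),
    (74,3,[97,896,118]), (73,3,[119,898,98]), (29,1,[119,120]), (72,1,[119,894,120]), (73,1,[97,899,120]),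
    (74,1,[99,896,120]), (30,1,[123,124]), (77,1,[103,896,124]), (26,0,[1118,126]), (48,1,[1091,941,132]),
    (32,2,[133,13,18]), (37,0,[25,12,134]), (37,0,[135,901,1059]), (46,0,[135,132,1170]),
    (71,0,[135,953,1133]), (81,1,[129,903,136]), (82,1,[129,905,136]), (44,3,[141,962,1133]),
    (49,3,[141,902,132]), (46,2,[1186,141,142]), (81,3,[147,906,146]), (41,3,[1174,928,148]),
    (45,0,[21,16,148]), (29,1,[149,150]), (74,1,[151,906,150]), (41,1,[151,929,1057]), (45,2,[151,17,22]),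
    (84,2,[75,62,1202]), (30,1,[974,152]), (46,0,[1208,970,969]), (81,3,[155,914,154]), (83,3,[147,913,154]),
    (41,3,[1009,931,156]), (45,0,[149,909,156]), (74,3,[157,914,156]), (45,0,[157,19,20]),
    (72,3,[157,910,150]), (84,0,[1216,45,60]), (45,2,[23,18,158]), (72,1,[149,911,158]), (45,2,[159,908,150]),
    (75,3,[161,910,152]), (84,1,[129,917,162]), (84,3,[131,917,164]), (80,2,[165,162]), (91,0,[169,919,166]),
    (56,2,[1091,939,170]), (77,1,[171,918,170]), (51,1,[171,916,132]), (56,2,[171,944,1090]),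
    (71,2,[171,21,26]), (85,1,[87,76,1250]), (84,2,[1248,1254,1113]), (81,0,[1120,1256,1188]),
    (82,3,[165,921,174]), (83,3,[165,923,174]), (84,3,[139,926,174]), (90,2,[167,921,176]),
    (31,1,[1243,1267]), (90,0,[169,921,178]), (91,0,[179,925,176]), (78,3,[1270,1269,1266]),
    (51,3,[141,926,180]), (77,3,[181,924,180]), (56,0,[181,949,1133]), (71,0,[181,23,24]),
    (75,3,[181,920,170]), (76,3,[181,922,170]), (84,2,[1276,1258,1116]), (84,3,[147,929,182]),
    (83,1,[185,934,184]), (85,2,[165,938,184]), (60,2,[1260,1295,1293]), (26,1,[1239,1295]), (80,2,[187,184]),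
    (85,0,[187,945,162]), (27,2,[1303,1236]), (64,3,[1303,1236,1183]), (32,0,[33,28,188]),
    (43,3,[1196,944,188]), (45,3,[141,942,188]), (88,1,[189,937,188]), (43,3,[189,939,1197]),
    (46,1,[189,932,132]), (43,1,[1223,938,190]), (88,3,[191,936,190]), (32,2,[191,29,34]),
    (85,1,[1051,1226,1321]), (30,2,[193,1090]), (37,0,[193,947,1133]), (71,0,[193,943,1059]),
    (81,1,[185,957,194]), (83,1,[195,960,194]), (85,2,[175,949,194]), (28,1,[1334,1298]),
    (63,2,[1334,1296,1264]), (65,2,[1334,1296,1262]), (81,3,[197,960,196]), (82,3,[187,957,196]),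
    (83,3,[187,959,196]), (85,0,[197,954,172]), (54,1,[1347,1348,1303]), (43,3,[199,948,1204]),
    (44,3,[199,950,1059]), (48,3,[199,963,1059]), (49,3,[199,956,190]), (85,1,[1087,1207,1356]),
    (24,1,[199,200]), (44,1,[143,951,200]), (49,1,[189,957,200]), (50,1,[189,959,200]), (52,1,[201,960,200]),
    (32,2,[201,946,190]), (30,1,[1132,202]), (46,2,[1358,199,202]), (37,2,[203,946,1090]),
    (71,2,[203,952,1006]), (45,0,[37,32,204]), (71,3,[157,966,204]), (36,2,[1313,1308,206]),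
    (68,2,[1283,968,206]), (41,1,[207,1005,1131]), (45,2,[207,33,38]), (68,2,[207,965,1282]),
    (71,1,[207,967,158]), (85,3,[1390,1258,1169]), (68,0,[1253,973,208]), (45,0,[209,35,36]),
    (68,0,[209,976,1252]), (71,3,[209,974,148]), (35,2,[1321,1325,210]), (71,1,[151,975,210]),
    (45,2,[211,970,206]), (84,1,[185,983,212]), (26,1,[1418,1296]), (84,3,[187,983,214]), (26,1,[1422,1303]),
    (87,2,[217,989,176]), (87,0,[179,988,218]), (91,0,[219,987,216]), (44,3,[1196,990,220]),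
    (48,3,[1196,985,220]), (51,3,[189,983,220]), (56,0,[135,981,220]), (77,3,[221,986,220]),
    (37,0,[221,989,180]), (46,0,[221,1406,1409]), (47,2,[1389,1386,222]), (56,2,[1007,979,222]),
    (48,1,[223,984,1222]), (51,1,[223,982,190]), (84,1,[195,1002,224]), (87,2,[167,993,226]),
    (51,3,[199,1002,228]), (56,0,[229,994,1059]), (30,1,[229,230]), (46,2,[1398,1397,230]),
    (47,2,[1400,1397,230]), (71,2,[43,38,230]), (75,1,[221,997,230]), (77,1,[231,998,230]),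
    (37,2,[231,992,170]), (51,1,[231,1003,200]), (56,2,[231,1001,142]), (86,4,[197,31,42,232]),
    (29,1,[1385,234]), (35,0,[1482,1383,1250]), (85,1,[1448,1010,236]), (25,1,[1060,238]), (25,2,[237,238]),
    (85,1,[1461,1062,1489]), (57,2,[1490,237,240]), (84,2,[1494,1492,1458]), (26,2,[237,242]),
    (28,2,[241,242]), (84,2,[1498,1486,1453]), (26,0,[241,244]), (84,2,[1216,1010,244]), (56,0,[57,48,246]),
    (56,0,[247,1013,70]), (51,1,[249,1023,1040]), (32,2,[1211,1057,250]), (46,1,[1366,1361,250]),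
    (29,2,[253,1332]), (35,0,[253,1176,1439]), (45,0,[253,1381,1483]), (72,3,[253,1054,234]),
    (35,2,[1281,1330,1518]), (24,2,[261,1178]), (85,1,[1244,1092,262]), (25,0,[263,1135]),
    (86,4,[1530,1474,1462,1493]), (25,1,[1134,264]), (25,2,[263,264]), (85,3,[265,79,84]),
    (85,1,[1281,1136,1537]), (53,3,[1532,263,266]), (57,2,[1538,263,266]), (84,2,[1546,1542,1276]),
    (25,0,[271,1139]), (35,2,[1551,111,120]), (33,2,[273,81,86]), (35,2,[273,81,98]), (32,2,[275,81,90]),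
    (26,2,[271,276]), (34,2,[277,81,94]), (33,3,[1552,271,278]), (35,0,[279,81,84]), (29,1,[279,280]),
    (36,0,[1568,1564,1156]), (62,2,[1560,271,282]), (25,1,[1142,286]), (25,2,[285,286]),
    (35,0,[119,112,1575]), (57,2,[1576,285,290]), (34,0,[291,83,92]), (35,2,[87,82,292]), (36,2,[97,82,292]),
    (38,1,[293,286,1578]), (42,3,[1584,1102,294]), (33,3,[295,85,96]), (43,3,[115,1098,296]),
    (43,3,[297,85,88]), (43,1,[91,84,298]), (43,1,[299,1099,116]), (23,1,[1584,304]), (33,1,[121,1101,304]),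
    (35,3,[1556,1555,304]), (42,1,[1567,1103,304]), (52,3,[297,1103,306]), (52,1,[299,1103,308]),
    (56,0,[123,1101,310]), (77,3,[301,1103,310]), (56,2,[103,86,312]), (76,1,[311,1106,312]),
    (53,3,[1595,1597,314]), (57,2,[1610,1597,314]), (48,2,[315,89,92]), (46,2,[1622,115,124]),
    (26,2,[1597,316]), (28,1,[1144,316]), (44,2,[317,89,94]), (46,2,[317,89,102]), (45,0,[97,88,318]),
    (44,3,[1628,315,320]), (46,0,[321,89,92]), (63,1,[1640,1166,1619]), (51,0,[323,320,1645]),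
    (46,0,[101,90,324]), (48,2,[93,90,324]), (53,3,[1600,1598,324]), (57,2,[1612,1598,324]),
    (70,3,[1632,1147,324]), (26,2,[1598,326]), (28,1,[1148,326]), (46,0,[123,116,1661]), (45,0,[329,91,96]),
    (45,2,[99,90,330]), (46,2,[95,90,332]), (48,1,[333,326,1662]), (51,3,[1668,1116,300]), (26,0,[325,334]),
    (51,0,[1672,333,334]), (46,1,[337,1110,116]), (51,3,[337,1112,310]), (24,1,[1668,346]),
    (44,1,[125,1119,346]), (46,3,[1636,1635,346]), (49,1,[337,1123,346]), (51,1,[303,1117,346]),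
    (74,3,[339,1121,348]), (68,0,[349,95,96]), (72,3,[349,1122,340]), (35,2,[1572,1563,350]),
    (68,2,[99,94,350]), (72,1,[339,1123,350]), (73,1,[349,1124,350]), (41,1,[351,1116,1566]),
    (71,2,[353,97,102]), (71,0,[355,99,100]), (75,3,[355,1126,352]), (30,1,[355,356]), (24,1,[1190,358]),
    (46,1,[1716,1369,1366]), (37,0,[361,113,122]), (30,1,[361,362]), (37,2,[125,112,362]),
    (41,2,[127,112,364]), (79,2,[283,1141,364]), (45,2,[367,115,120]), (51,2,[369,115,126]),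
    (45,0,[371,117,118]), (71,0,[123,118,372]), (30,1,[373,374]), (76,1,[355,1154,374]),
    (77,1,[353,1153,374]), (71,2,[375,119,124]), (71,0,[373,1157,378]), (77,3,[355,1163,378]),
    (71,0,[379,121,122]), (75,3,[379,1158,374]), (76,3,[379,1160,352]), (30,1,[379,380]),
    (71,2,[125,120,380]), (71,2,[381,1156,374]), (41,2,[383,1552,1561]), (51,2,[1659,1662,384]),
    (63,2,[1617,1614,384]), (51,0,[385,1165,386]), (86,2,[269,1095,128,388]), (37,2,[1771,389,392]),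
    (88,2,[399,1179,256]), (88,0,[259,1178,400]), (49,3,[403,1184,390]), (90,0,[405,1192,404]),
    (84,3,[397,1195,408]), (88,2,[167,1197,410]), (30,1,[1411,412]), (46,2,[1446,1218,412]),
    (88,2,[177,1204,414]), (91,0,[417,1201,414]), (30,1,[1414,418]), (46,2,[1466,1233,418]),
    (56,2,[1719,1357,418]), (46,0,[1794,1417,1392]), (90,2,[421,1212,420]), (91,2,[405,1215,420]),
    (86,3,[421,155,1172,1318]), (31,1,[1805,1803]), (85,0,[1807,1310,406]), (54,1,[1780,1809,1811]),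
    (88,2,[411,1219,422]), (90,2,[415,1224,422]), (88,2,[423,1223,166]), (44,3,[1788,1451,424]),
    (77,3,[425,1220,424]), (37,0,[425,1413,1795]), (46,0,[425,1218,1435]), (75,3,[425,1225,418]),
    (48,0,[1405,1787,1821]), (81,1,[407,1231,426]), (65,2,[1832,1812,1805]), (80,2,[429,426]),
    (88,2,[415,1232,430]), (88,2,[431,1228,176]), (88,0,[433,1233,416]), (51,1,[437,1236,390]),
    (86,2,[439,167,162,434]), (37,2,[1847,435,436]), (25,1,[1243,442]), (25,2,[441,442]), (26,0,[445,452]),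
    (74,1,[447,1242,454]), (77,3,[449,1242,456]), (91,0,[461,1247,458]), (59,3,[441,1267,464]),
    (61,3,[1850,1269,464]), (25,0,[465,1272]), (54,2,[1863,465,466]), (69,3,[445,1267,468]), (28,2,[469,470]),
    (66,2,[1871,469,470]), (72,3,[473,1266,446]), (79,2,[453,1274,476]), (90,2,[459,1284,478]),
    (31,1,[1861,1881]), (90,0,[461,1284,480]), (89,2,[481,478]), (91,0,[481,1279,478]),
    (78,3,[1884,1883,1880]), (86,2,[185,937,184,482]), (35,1,[463,1297,484]), (37,1,[485,1893,483]),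
    (71,1,[1895,1897,486]), (68,2,[487,1298,394]), (46,1,[403,1306,488]), (48,1,[393,1304,488]),
    (80,1,[1807,490]), (85,2,[409,1316,490]), (85,0,[1906,1834,1836]), (26,1,[1783,1909]),
    (68,2,[395,1340,494]), (73,1,[493,1336,494]), (81,1,[491,1371,496]), (83,1,[497,1374,496]),
    (28,1,[1918,1912]), (34,3,[463,1420,498]), (48,0,[1924,1899,1901]), (86,0,[1521,221,214,500]),
    (86,2,[503,217,212,498]), (46,2,[1914,1926,1930]), (35,0,[473,1426,504]), (25,0,[505,1430]),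
    (28,1,[1431,506]), (34,2,[471,1426,506]), (83,1,[503,1430,508]), (50,0,[1942,1932,1916]),
    (35,2,[1867,1429,510]), (38,1,[511,1936,1934]), (26,0,[1938,512]), (41,2,[477,1429,512]),
    (84,1,[491,1437,514]), (26,1,[1954,1911]), (87,2,[517,1443,478]), (88,2,[517,1445,458]),
    (87,0,[481,1442,518]), (88,0,[461,1444,518]), (91,0,[519,1441,516]), (41,3,[521,1454,492]),
    (86,2,[523,227,224,520]), (51,1,[1971,1969,1944]), (84,3,[513,508,1972,523]), (6,0,[1951,1975]),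
    (13,0,[1953,1975]), (35,2,[1941,1977,1456,446]), (11,0,[1877,1980,1874]), (12,0,[1856,1980,1872]),
    (6,0,[1854,1982,1948]), (14,0,[472,1983]), (10,0,[468,1984]), (4,0,[1947,1986]), (35,0,[1979,1456,440]),
    (84,1,[497,1476,524]), (87,2,[459,1474,526]), (88,2,[479,1465,526]), (90,2,[517,1471,526]),
    (40,3,[1998,1890,1963]), (90,0,[519,1471,528]), (91,0,[529,1473,526]), (87,2,[531,1485,458]),
    (87,0,[461,1484,532]), (87,2,[479,1527,534]), (40,3,[2014,1882,2013]), (87,0,[519,1520,536]),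
    (88,0,[533,1522,536]), (90,0,[533,1524,536]), (87,0,[537,1526,480]), (24,2,[539,1774]),
    (88,1,[539,257,260]), (88,1,[261,258,540]), (24,2,[541,1777]), (26,2,[543,544]), (34,2,[545,1773,1905]),
    (62,2,[2034,543,546]), (84,2,[283,268,546]), (37,0,[549,1553,378]), (37,2,[381,1552,550]),
    (32,2,[1666,1556,552]), (43,1,[553,273,274]), (38,3,[2047,2049,554]), (35,0,[555,1559,1599]),
    (46,2,[277,274,556]), (37,2,[557,1559,332]), (51,3,[2054,1560,548]), (87,0,[559,1563,344]),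
    (51,1,[551,1561,560]), (29,1,[1763,562]), (37,0,[565,1567,300]), (56,0,[565,1564,378]),
    (86,0,[2067,301,1288,480]), (41,2,[377,1570,566]), (32,2,[569,1578,1734]), (43,1,[569,287,288]),
    (37,0,[373,1579,570]), (56,0,[361,1575,570]), (45,2,[293,288,572]), (38,1,[573,2076,2075]),
    (32,0,[575,1583,336]), (51,3,[575,1580,570]), (37,0,[311,1585,576]), (56,0,[373,1588,576]),
    (56,2,[353,1587,578]), (86,3,[459,1254,1585,578]), (56,2,[579,1589,374]), (32,0,[297,294,580]),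
    (43,3,[581,1593,1639]), (52,1,[2082,1591,582]), (32,2,[583,295,298]), (86,3,[479,1289,294,584]),
    (37,2,[585,295,302]), (30,2,[587,1765]), (24,1,[1676,588]), (46,1,[1768,1766,588]), (32,0,[591,305,306]),
    (37,0,[577,1603,592]), (56,0,[379,1605,592]), (77,3,[565,1609,592]), (37,0,[593,305,310]),
    (81,0,[2124,2071,1884]), (30,1,[593,594]), (56,2,[357,1607,594]), (56,2,[595,1604,380]),
    (68,0,[319,314,596]), (45,0,[597,1629,1744]), (45,2,[1758,1628,598]), (41,1,[599,1624,2118]),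
    (41,3,[2100,1631,600]), (71,3,[601,1635,348]), (44,3,[2138,2136,602]), (63,1,[2148,1742,2095]),
    (30,1,[603,604]), (47,0,[2152,2148,1738]), (41,0,[323,318,606]), (62,2,[2144,2103,606]),
    (51,0,[607,602,2151]), (41,3,[2107,1659,610]), (45,0,[1736,1663,610]), (41,1,[613,1658,2052]),
    (45,2,[613,1662,1750]), (46,2,[1695,1664,614]), (71,2,[615,329,332]), (46,2,[1700,1667,616]),
    (51,3,[2174,1707,564]), (41,3,[2090,1680,620]), (45,0,[339,336,620]), (71,3,[371,1678,620]),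
    (29,1,[621,622]), (41,1,[623,1681,2126]), (45,2,[623,337,340]), (88,3,[347,342,630]),
    (88,3,[633,345,346]), (41,3,[2111,1691,634]), (45,0,[2173,1683,634]), (68,0,[1745,1685,634]),
    (45,0,[635,347,348]), (68,0,[635,1686,1708]), (72,3,[635,1688,622]), (29,1,[635,636]),
    (45,2,[351,346,636]), (90,2,[629,1696,638]), (91,2,[627,1693,638]), (31,1,[2213,2210]),
    (90,0,[627,1703,644]), (78,3,[2216,2215,2211]), (85,2,[2097,2094,646]), (25,1,[1861,2221]),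
    (80,2,[649,646]), (81,1,[647,1712,650]), (65,2,[2226,2222,1861]), (80,2,[653,650]), (41,2,[385,1720,656]),
    (51,0,[365,360,656]), (62,2,[2089,2080,656]), (41,2,[387,1725,658]), (51,0,[657,1723,658]),
    (51,0,[659,363,364]), (41,0,[663,367,368]), (51,2,[663,1731,382]), (51,2,[377,1734,664]),
    (51,0,[2179,2182,664]), (63,2,[2104,2085,664]), (41,2,[2089,2078,666]), (51,2,[2163,2164,666]),
    (82,1,[651,1741,668]), (83,1,[647,1743,668]), (61,2,[2258,2229,1890]), (26,0,[2198,670]),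
    (27,2,[2099,670]), (41,0,[387,1744,670]), (51,0,[667,1739,670]), (51,0,[671,375,376]),
    (81,1,[669,1752,672]), (82,1,[647,1754,672]), (83,1,[651,1749,672]), (85,2,[2070,2069,672]),
    (65,2,[2274,2263,1889]), (81,3,[653,1749,674]), (83,3,[649,1754,674]), (80,2,[675,672]),
    (27,2,[2122,676]), (41,0,[667,1747,676]), (51,2,[2166,2169,676]), (51,0,[383,378,676]),
    (41,0,[677,1751,384]), (41,2,[677,2042,2058]), (41,0,[671,1760,678]), (51,0,[677,1757,678]),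
    (41,2,[679,2045,2063]), (51,2,[679,2141,2143]), (41,3,[1849,1845,680]), (84,0,[2310,439,452]),
    (72,1,[681,1778,684]), (82,0,[2314,2313,1879]), (43,0,[441,1785,686]), (48,2,[689,1784,444]),
    (71,0,[475,1989,2320]), (26,2,[687,690]), (46,2,[691,1784,450]), (68,2,[2323,689,692]),
    (47,1,[2328,475,1840]), (48,3,[2326,691,694]), (71,0,[2330,693,694]), (43,0,[465,1791,696]),
    (25,0,[697,1792]), (25,2,[697,698]), (43,2,[699,1790,466]), (48,2,[701,1790,1991]), (71,0,[2345,455,456]),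
    (26,2,[697,702]), (28,2,[701,702]), (74,0,[2350,2347,1858]), (85,0,[705,1798,654]), (88,2,[707,1801,478]),
    (88,0,[481,1800,708]), (88,0,[709,1796,528]), (43,0,[687,1815,710]), (59,3,[697,1817,710]),
    (43,0,[711,1819,440]), (81,3,[713,1822,712]), (82,3,[705,1828,712]), (54,1,[2369,2370,2355]),
    (88,2,[459,1831,714]), (87,0,[709,1824,716]), (88,0,[519,1826,716]), (88,0,[717,1830,460]),
    (43,0,[721,1841,464]), (26,2,[721,722]), (68,1,[723,2335,2332]), (89,2,[727,724]), (91,2,[727,1853,728]),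
    (41,0,[2349,2353,730]), (51,0,[453,448,730]), (41,0,[2385,2387,732]), (51,0,[733,451,452]),
    (51,2,[733,2326,2324]), (85,0,[737,2228,2230]), (57,2,[2227,2229,738]), (30,1,[743,744]),
    (26,0,[739,746]), (84,0,[2151,2096,746]), (81,3,[737,1860,748]), (85,0,[749,2223,2224]),
    (58,0,[2412,2403,2285]), (74,1,[741,1860,750]), (77,3,[743,1860,752]), (30,1,[753,754]),
    (62,2,[2404,2222,756]), (84,0,[2187,2129,756]), (90,2,[729,1865,758]), (87,2,[759,1993,734]),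
    (31,1,[2391,2429]), (90,0,[727,1869,760]), (87,0,[727,1994,762]), (40,1,[2430,2432,2437]),
    (83,3,[749,1883,764]), (80,2,[765,2109]), (53,3,[2281,2283,766]), (57,2,[2275,2283,766]),
    (69,3,[739,1881,766]), (84,0,[2446,669,670]), (26,2,[2283,768]), (28,1,[1889,768]), (28,2,[767,768]),
    (66,2,[2449,767,768]), (84,0,[2452,673,676]), (72,3,[771,1880,740]), (75,1,[743,1881,774]),
    (26,0,[767,776]), (27,2,[2283,776]), (84,0,[2194,2108,776]), (83,3,[737,1890,778]), (75,3,[781,1884,754]),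
    (30,1,[781,782]), (76,1,[743,1890,782]), (26,0,[2454,784]), (63,2,[2274,2263,784]),
    (84,0,[2177,2071,784]), (35,2,[2038,2037,786]), (71,1,[685,1903,786]), (86,0,[2041,2487,2488,2317,762]),
    (4,0,[1698,2491,2436]), (18,0,[1728,2491,2438]), (11,0,[1703,2493,2435]), (18,0,[1705,2493,2433]),
    (22,0,[643,2493,727]), (21,0,[645,2493,2389]), (21,0,[661,2495,735]), (22,0,[625,2497,761]),
    (21,0,[641,2499,759]), (22,0,[642,2501]), (22,0,[724,2502]), (21,0,[660,2505]), (22,0,[624,2507]),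
    (21,0,[640,2509]), (88,1,[2318,2510,2175]), (88,3,[2208,2511,2366]), (88,3,[2399,2514,2242]),
    (88,1,[2234,2515,2395]), (88,1,[2343,2516,2181]), (88,3,[2383,2518,2200]), (88,1,[2170,2519,2337]),
    (86,2,[491,1315,490,788]), (35,1,[719,1910,790]), (37,1,[791,2535,789]), (71,1,[2537,2539,792]),
    (68,2,[793,1912,682]), (68,2,[683,1922,796]), (73,1,[795,1920,796]), (34,3,[719,1956,798]),
    (48,0,[2548,2541,2543]), (86,2,[801,517,514,798]), (46,2,[2544,2550,2552]), (35,0,[771,1958,802]),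
    (38,2,[2283,1958,802]), (25,0,[803,1966]), (25,1,[1967,804]), (25,2,[803,804]), (46,0,[743,1960,806]),
    (53,3,[2560,803,806]), (57,2,[2564,803,806]), (34,0,[807,1959,766]), (28,1,[1967,808]),
    (34,2,[769,1958,808]), (36,2,[771,1958,810]), (45,2,[741,1960,810]), (30,1,[813,814]),
    (47,2,[743,1960,814]), (26,0,[807,816]), (41,2,[777,1958,816]), (63,2,[2564,803,816]),
    (83,1,[801,1966,818]), (50,0,[2592,2554,2546]), (45,2,[751,1965,820]), (38,1,[821,2560,2556]),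
    (37,0,[823,1962,780]), (30,1,[823,824]), (48,1,[825,2569,2566]), (26,0,[2574,826]), (51,2,[757,1965,826]),
    (57,3,[2586,2568,826]), (62,2,[2570,2562,826]), (63,2,[2565,2562,826]), (41,3,[829,1996,794]),
    (86,2,[831,527,524,828]), (51,1,[2619,2617,2594]), (84,3,[827,818,2620,831]), (5,0,[2613,2623]),
    (6,0,[2607,2623]), (9,0,[2615,2623]), (12,0,[2009,2622,2610]), (15,0,[2609,2623]), (6,0,[2587,2630]),
    (9,0,[2591,2630]), (13,0,[2589,2630]), (17,0,[816,2630]), (43,1,[2283,2001,2624,2566]), (7,0,[2566,2642]),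
    (10,0,[2468,2643,2604]), (9,0,[2482,2643,2585]), (11,0,[2277,2643,2465]), (12,0,[2275,2643,2421]),
    (15,0,[2406,2642]), (16,0,[742,2642]), (18,0,[2279,2643,2479]), (16,0,[2603,2646]), (16,0,[2583,2648]),
    (15,0,[774,2650]), (15,0,[2422,2652]), (16,0,[2477,2658]), (59,3,[803,2003,2624]),
    (61,3,[2562,2004,2624]), (38,2,[2625,1998,2228]), (54,2,[2671,2625,2626]), (33,2,[2627,1998,2221]),
    (35,2,[2577,2627,1998,740]), (4,0,[2576,2681]), (5,0,[2480,2681]), (9,0,[768,2681]),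
    (11,0,[2463,2680,2458]), (12,0,[2418,2680,2456]), (17,0,[2453,2681]), (20,0,[2460,2681]),
    (6,0,[2408,2688,2598]), (5,0,[2424,2688,2579]), (14,0,[770,2689]), (4,0,[2573,2690]), (5,0,[2466,2690]),
    (9,0,[2445,2690]), (10,0,[766,2690]), (17,0,[2447,2690]), (20,0,[2450,2690]), (7,0,[2597,2696]),
    (7,0,[2581,2698]), (47,3,[2717,2633,2628]), (48,2,[2719,2629,2000,2709]), (3,0,[2683,2721,2702]),
    (6,0,[2685,2721,2704]), (7,0,[2716,2721,2715]), (10,0,[2687,2721,2706]), (14,0,[740,2721,751]),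
    (17,0,[2693,2721,2710]), (19,0,[2695,2721,2712]), (6,0,[2634,2722,2627]), (10,0,[2569,2722,809]),
    (11,0,[2673,2722,2676]), (13,0,[2674,2722,2679]), (15,0,[2661,2724,2662]), (20,0,[2471,2724,2484]),
    (20,0,[2411,2726,2426]), (4,0,[2014,2729,2024]), (7,0,[2357,2729,2359]), (16,0,[773,2729,780]),
    (20,0,[2108,2729,2070]), (19,0,[765,2729,778]), (22,0,[1887,2729,481]), (2,0,[2760,2728]),
    (3,0,[2011,2731,2013]), (8,0,[2374,2731,2380]), (15,0,[745,2731,754]), (18,0,[1286,2763,1882,2730]),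
    (2,0,[2771,2731]), (20,0,[1255,2773,2128]), (19,0,[1530,2773,748]), (6,0,[1280,2763,2282,2733]),
    (2,0,[2779,2732]), (8,0,[1190,2781,2644]), (10,0,[1187,2781,2469]), (11,0,[1129,2781,2276]),
    (13,0,[1181,2781,2559]), (16,0,[1378,2781,2654]), (15,0,[1133,2781,2656,2770]), (17,0,[1395,2781,2693]),
    (2,0,[2787,2742]), (20,0,[1137,2781,2288]), (19,0,[106,2781,673]), (4,0,[2302,2734,2299]),
    (3,0,[2269,2734,2292]), (8,0,[2272,2734,2305,2803]), (7,0,[2271,2734,2296]), (2,0,[2808,2804]),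
    (9,0,[2267,2734,2290,2774]), (14,0,[2300,2735]), (15,0,[2295,2735]), (19,0,[1402,2795,2694,2735]),
    (6,0,[1479,2783,2635,2737]), (2,0,[2821,2736]), (8,0,[1796,2823,2360,2752]), (2,0,[2789,2740]),
    (10,0,[1467,2823,2636,2826]), (11,0,[1471,2823,2006,2739]), (14,0,[1469,2823,2638,2784]),
    (17,0,[1476,2823,2640,2830]), (2,0,[2835,2831]), (2,0,[2837,2738]), (3,0,[1376,2839,2019,2750]),
    (7,0,[1367,2839,2379,2766]), (16,0,[1516,2839,822,2745]), (18,0,[1373,2839,2004,2820]), (2,0,[2847,2821]),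
    (17,0,[1194,2827,2571,2782]), (2,0,[2793,2771]), (15,0,[1329,2797,2668,2754]), (19,0,[76,2797,651]),
    (2,0,[2845,2744]), (2,0,[2855,2755]), (4,0,[1515,2859,2601,2860]), (5,0,[1169,2819,2264,2747]),
    (2,0,[2865,2746]), (8,0,[1668,2867,2201]), (7,0,[347,2867,2196]), (10,0,[94,2867,2203]),
    (11,0,[1123,2867,2205,2748]), (14,0,[349,2867,2207]), (2,0,[2869,2877]), (13,0,[351,2867,635]),
    (17,0,[1117,2867,2194,2757]), (21,0,[345,2867,2530]), (2,0,[2875,2749]), (7,0,[1643,2887,2189]),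
    (13,0,[341,2887,2184]), (2,0,[2889,2891]), (2,0,[2841,2751]), (8,0,[190,2895,2020,2764]),
    (2,0,[2897,2765]), (11,0,[1363,2895,2022,2898]), (22,0,[1322,2895,537]), (2,0,[2825,2753]),
    (2,0,[2900,2843,2767]), (3,0,[1825,2905,2377,2906]), (2,0,[2863,2861]), (2,0,[2791,2769]),
    (11,0,[1235,2911,2475,2912]), (2,0,[2883,2756]), (20,0,[1541,2917,2442]), (2,0,[2919,2759]),
    (12,0,[1539,2921,2472]), (14,0,[1282,2763,2701]), (15,0,[180,2763,2665,2786]),
    (18,0,[958,2899,2016,2840]), (2,0,[2915,2913]), (15,0,[160,2931,2667,2778]), (4,0,[30,2853,1999,2848]),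
    (2,0,[2927,2787]), (10,0,[962,2853,738,2924]), (20,0,[195,2853,2097,2813]), (19,0,[197,2853,736,2922]),
    (4,0,[1584,2775,2127]), (3,0,[305,2775,2120]), (16,0,[311,2775,2131]), (2,0,[2945,2949]),
    (15,0,[313,2775,593]), (2,0,[2943,2777]), (6,0,[1354,2955,2417,2798]), (5,0,[1352,2955,2415]),
    (12,0,[1351,2955,2441,2918]), (2,0,[2933,2779]), (18,0,[913,2963,2260,2936]), (2,0,[2935,2849]),
    (2,0,[2965,2937]), (20,0,[145,2969,2224,2958]), (19,0,[147,2969,647,2872]), (2,0,[2965,2927]),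
    (16,0,[1132,2793,171]), (2,0,[2933,2977]), (2,0,[2971,2959]), (12,0,[1135,2799,2286,2980]),
    (14,0,[119,2801,1751]), (13,0,[121,2801,1746]), (16,0,[123,2801,1757]), (2,0,[2985,2989]),
    (15,0,[125,2801,379]), (2,0,[2807,2802]), (2,0,[2811,2805]), (13,0,[2072,2995,2307]),
    (15,0,[2248,2995,2309]), (14,0,[2064,2997,2254]), (16,0,[2247,2997,2256]), (13,0,[2072,2807,2233]),
    (2,0,[2998,3007]), (15,0,[2248,2807,2112]), (2,0,[3010,3001]), (13,0,[1762,2811,2239]),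
    (16,0,[2247,2811,2117]), (2,0,[3004,3017]), (7,0,[309,2812,2160]), (13,0,[1726,2819,2814]),
    (16,0,[1733,2819,2816]), (11,0,[856,2967,2002,2836]), (2,0,[3027,2835]), (7,0,[1529,2828,1233]),
    (22,0,[399,2828,430]), (21,0,[401,2828,432]), (19,0,[233,2833,1548]), (2,0,[2929,2903]),
    (10,0,[875,3029,1432,2851]), (2,0,[3041,2850]), (8,0,[17,3043,1219]), (14,0,[21,3043,1199]),
    (2,0,[2979,3047]), (22,0,[9,3043,410]), (14,0,[97,2857,1711]), (16,0,[101,2857,1715]), (2,0,[3053,3055]),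
    (16,0,[1635,2865,617]), (22,0,[343,2865,2520]), (16,0,[332,2869,2146]), (22,0,[619,2869,638]),
    (21,0,[2193,2871,2533]), (16,0,[1627,2875,2153]), (15,0,[1650,2875,603]), (22,0,[619,2879,2523]),
    (22,0,[2190,2880,2511]), (21,0,[2193,2880,644]), (4,0,[2061,2885,2397]), (22,0,[609,2889,628]),
    (22,0,[609,2893,2528]), (15,0,[1091,2900,1718]), (2,0,[2975,3085]), (20,0,[185,2900,1364]),
    (19,0,[187,2900,1496]), (19,0,[197,3039,1929]), (2,0,[3049,3030]), (19,0,[187,2908,712]),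
    (2,0,[3013,3000]), (20,0,[195,2929,1326]), (2,0,[3100,2941]), (19,0,[197,2929,1502]), (2,0,[3103,2940]),
    (19,0,[139,2939,182]), (6,0,[1050,3107,1338]), (5,0,[1088,3107,1345]), (9,0,[52,3107,1343]),
    (22,0,[1480,2943,1535]), (16,0,[1019,3103,310,2944]), (2,0,[3119,2945]), (17,0,[1023,3121,1680]),
    (18,0,[1024,3121,1621,2953]), (2,0,[3125,2947]), (5,0,[1088,3127,2092,2986]), (8,0,[1082,3127,2251,3098]),
    (2,0,[3119,2951]), (2,0,[3131,3099]), (2,0,[3125,2952]), (6,0,[1050,3133,2132,3056]),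
    (5,0,[1088,3133,2135,2990]), (2,0,[3129,2992]), (7,0,[1041,3137,1646]), (9,0,[1544,2956,1424]),
    (2,0,[3146,3036]), (20,0,[108,2956,1240,3112]), (19,0,[1300,2961,1541]), (2,0,[3088,3153]),
    (19,0,[147,2965,174,3110]), (2,0,[2972,3157]), (2,0,[3151,3141]), (2,0,[3151,3129]), (2,0,[3161,2985]),
    (2,0,[3151,3143]), (2,0,[3159,3139]), (2,0,[3169,3053]), (2,0,[3115,3109]), (17,0,[105,2972,1291,3172]),
    (20,0,[144,2982]), (10,0,[1118,3165,1670]), (2,0,[3163,2987]), (7,0,[117,3181,2154,3068]),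
    (10,0,[1118,3167,1685]), (15,0,[124,3166]), (10,0,[1085,3135,2252]), (2,0,[3189,3004]),
    (3,0,[1065,3123,2086,3002]), (2,0,[3193,3003]), (5,0,[1068,3195,2237,3008]), (4,0,[1072,3191,2245]),
    (2,0,[3197,3009]), (8,0,[1071,3201,2241,3014]), (7,0,[1070,3201,2234]), (21,0,[255,3201,2527]),
    (2,0,[3203,3015]), (21,0,[255,3209,2524,3078]), (2,0,[3189,3019]), (7,0,[1081,3213,2114]),
    (4,0,[1038,3145,2157,3020]), (2,0,[3217,3021]), (6,0,[1508,3219,2158,3062]), (17,0,[1513,3219,607]),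
    (2,0,[3183,3069]), (2,0,[3223,3070]), (2,0,[3205,3023]), (3,0,[1067,3229,2057,3178]), (2,0,[3199,3025]),
    (5,0,[1511,3233,2050,3058]), (2,0,[3220,3235]), (2,0,[3231,3185]), (22,0,[1108,3095,2028]),
    (21,0,[1151,3095,2031]), (7,0,[2027,3033,1838]), (2,0,[3241,3245]), (7,0,[2033,3035,1843]),
    (2,0,[3243,3249]), (2,0,[3149,3117]), (20,0,[3176,3045,1507]), (6,0,[85,3051,686,3060]),
    (2,0,[3155,3257]), (2,0,[3259,3061]), (8,0,[89,3171,1649,3226]), (2,0,[3263,3223]),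
    (8,0,[1044,3261,2363,3072]), (7,0,[1077,3261,2318]), (2,0,[3211,3079]), (16,0,[1033,3261,2400,3270]),
    (2,0,[3263,3227]), (2,0,[3267,3065]), (11,0,[1049,3277,2210,3080]), (18,0,[1079,3277,2218,3076]),
    (2,0,[3269,3074]), (2,0,[3281,3067]), (2,0,[3273,3207]), (4,0,[1072,3285,2393,3286]), (2,0,[3288,3285]),
    (6,0,[1086,3291,2339,3250]), (2,0,[3151,3293]), (5,0,[1052,3291,697,3246]), (2,0,[3159,3297]),
    (2,0,[3279,3083]), (12,0,[1031,3291,2341,3300]), (2,0,[3267,3073]), (18,0,[1036,3291,2365,3304]),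
    (2,0,[3295,3225]), (16,0,[3187,3309,605,3264]), (2,0,[3311,3275]), (2,0,[3307,3215]),
    (6,0,[1100,3313,1675,3314]), (2,0,[3103,3317]), (10,0,[1118,3313,1652,3294]), (2,0,[3320,3230]),
    (2,0,[3299,3237]), (11,0,[894,3313,1656,3324]), (2,0,[3326,3313]), (2,0,[3303,3217]),
    (17,0,[105,3329,1654,3330]), (2,0,[3174,3333]), (2,0,[3335,3319]), (2,0,[3326,3323]),
    (2,0,[3337,3288,3269]), (2,0,[3337,3288,3283]), (2,0,[3337,3288,3281]), (2,0,[3339,3239]),
    (21,0,[4,3343,2190,3346]), (2,0,[3345,3077]), (21,0,[4,3351,2512,3340]), (20,0,[3176,3087,654]),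
    (2,0,[3353,3337,3088]), (20,0,[1,3357,1300]), (2,0,[3359,3091]), (6,0,[869,3361,1505,3254]),
    (12,0,[848,3361,1501,3104]), (17,0,[854,3361,1494,3252]), (2,0,[3365,3093]), (22,0,[9,3369,501,3366]),
    (2,0,[3349,3371]), (2,0,[3373,3359,3097]), (2,0,[3363,3355]), (6,0,[834,3375,2373,3376]), (19,0,[2,3378])]

def c4T : List (List ℕ × List ℕ) :=
    [([17],[3380])]

theorem c4C : cert [[17,1,14,18,20]] [1,2,3,4,5,6,7,8,9,10,11,12,13,14,15,16] c4W c4F c4S c4T = true := by decide +kernel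

def c5W : List (List ℕ) :=
    [[], [1,2], [2,1], [3,4], [4,3], [5,6], [6,5], [7,8], [8,7], [9,9], [10,10], [11,12], [12,11], [13,14],
    [14,13], [15,15], [16,16], [17,18], [18,17], [19,20], [20,19], [2,2,2], [6,6,6], [4,4,10], [4,8,15],
    [4,15,8], [8,8,10], [12,12,12], [14,14,14], [9,16,10], [2,6,1,5], [2,4,11,3], [2,8,1,7], [2,12,2,3],
    [2,12,3,12], [2,14,1,13], [2,3,11,4], [2,9,2,9], [2,16,2,16], [2,15,11,15], [2,10,1,10], [6,4,5,3],
    [6,8,13,7], [6,12,5,11], [6,14,6,7], [6,14,7,14], [6,7,13,8], [6,9,6,9], [6,16,6,16], [6,15,13,15],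
    [6,10,5,10], [4,4,7,7], [4,4,9,16], [4,14,3,13], [4,7,15,10], [4,9,4,9], [4,9,3,16], [4,16,3,9],
    [4,15,3,15], [4,15,7,10], [4,15,10,7], [4,10,3,10], [8,12,7,11], [8,16,7,9], [12,14,11,13], [12,9,12,9],
    [12,16,12,16], [12,10,11,10], [14,9,14,9], [14,16,14,16], [14,10,13,10], [9,16,9,16], [9,15,9,15],
    [16,15,16,15], [17,17,17], [17,10,18,9], [17,9,18,16], [17,16,18,10], [17,15,18,15], [3,17,3,17],
    [17,11,13,18,20], [1,19,2,20], [5,19,6,20], [19,19,19], [9,19,9,20], [10,19,10,19]]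

def c5F : Tr :=
    (.node (.node (.node (.node (.node (.node (.node (.node (.node (.node .leaf 101 4 155 .leaf) 21 8 9 (.node
    .leaf 69 0 25 .leaf)) 63 12 128 (.node (.node .leaf 126 0 176 .leaf) 66 6 80 .leaf)) 13 19 64 (.node
    (.node (.node .leaf 172 5 146 .leaf) 13 2 54 (.node .leaf 0 17 0 .leaf)) 1 16 1 (.node (.node .leaf 99 0
    60 .leaf) 122 9 121 .leaf))) 3 14 32 (.node (.node (.node (.node .leaf 170 4 165 .leaf) 34 9 23 (.node
    .leaf 24 0 3 .leaf)) 79 11 160 (.node (.node .leaf 64 0 17 .leaf) 98 17 38 .leaf)) 32 17 96 (.node (.node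
    (.node .leaf 175 2 180 .leaf) 69 4 23 .leaf) 8 15 12 (.node (.node .leaf 6 0 1 .leaf) 144 9 133 .leaf))))
    2 2 16 (.node (.node (.node (.node (.node .leaf 157 2 162 .leaf) 4 4 25 (.node .leaf 53 0 8 .leaf)) 66 15
    144 (.node (.node .leaf 111 8 151 .leaf) 89 15 37 .leaf)) 21 19 80 (.node (.node (.node .leaf 176 7 136
    .leaf) 61 6 14 .leaf) 4 9 4 (.node (.node .leaf 118 0 53 .leaf) 131 7 65 .leaf))) 7 6 48 (.node (.node
    (.node (.node .leaf 163 15 164 .leaf) 20 14 44 (.node .leaf 0 0 1 .leaf)) 82 13 176 (.node (.node .leaf 66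
    0 10 .leaf) 110 2 64 .leaf)) 51 19 112 (.node (.node (.node .leaf 66 0 149 .leaf) 74 6 54 .leaf) 17 19 17
    (.node (.node .leaf 155 0 38 .leaf) 151 17 90 .leaf))))) 1 2 8 (.node (.node (.node (.node (.node (.node
    .leaf 119 0 122 .leaf) 22 10 22 (.node .leaf 97 0 12 .leaf)) 65 14 136 (.node (.node .leaf 148 0 81 .leaf)
    80 16 83 .leaf)) 16 6 72 (.node (.node (.node .leaf 83 8 174 .leaf) 58 15 58 .leaf) 1 3 2 (.node (.node
    .leaf 10 8 10 .leaf) 125 19 126 .leaf))) 5 1 40 (.node (.node (.node (.node .leaf 165 0 163 .leaf) 37 16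
    31 (.node .leaf 7 0 3 .leaf)) 80 13 168 (.node (.node .leaf 82 0 10 .leaf) 104 4 42 .leaf)) 41 6 104
    (.node (.node (.node .leaf 179 0 118 .leaf) 72 1 18 .leaf) 8 12 15 (.node (.node .leaf 53 0 86 .leaf) 148
    16 132 .leaf)))) 3 18 24 (.node (.node (.node (.node (.node .leaf 166 15 163 .leaf) 28 15 25 (.node .leaf
    25 0 7 .leaf)) 70 19 152 (.node (.node .leaf 125 0 61 .leaf) 92 12 91 .leaf)) 25 14 88 (.node (.node
    (.node .leaf 179 9 178 .leaf) 66 19 67 .leaf) 8 9 7 (.node (.node .leaf 145 0 59 .leaf) 139 10 138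
    .leaf))) 9 18 56 (.node (.node (.node (.node .leaf 82 14 137 .leaf) 14 1 51 (.node .leaf 93 0 0 .leaf)) 0
    9 0 (.node (.node .leaf 94 0 57 .leaf) 68 12 115 .leaf)) 56 2 120 (.node (.node (.node .leaf 180 0 117
    .leaf) 75 8 63 .leaf) 18 14 9 (.node (.node .leaf 89 0 86 .leaf) 151 1 154 .leaf)))))) 0 20 4 (.node
    (.node (.node (.node (.node (.node (.node .leaf 155 19 156 .leaf) 14 6 21 (.node .leaf 74 0 25 .leaf)) 64
    13 132 (.node (.node .leaf 124 0 123 .leaf) 82 9 80 .leaf)) 15 6 68 (.node (.node (.node .leaf 174 6 129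
    .leaf) 56 9 56 .leaf) 2 10 2 (.node (.node .leaf 110 0 47 .leaf) 125 9 123 .leaf))) 4 13 36 (.node (.node
    (.node (.node .leaf 171 11 161 .leaf) 36 10 31 (.node .leaf 10 0 3 .leaf)) 80 4 164 (.node (.node .leaf
    113 0 68 .leaf) 101 9 94 .leaf)) 36 18 100 (.node (.node (.node .leaf 67 0 174 .leaf) 54 7 71 .leaf) 14 10
    14 (.node (.node .leaf 95 0 23 .leaf) 146 9 134 .leaf)))) 2 12 20 (.node (.node (.node (.node (.node .leaf
    164 10 163 .leaf) 26 5 26 (.node .leaf 48 0 49 .leaf)) 67 14 148 (.node (.node .leaf 83 0 82 .leaf) 89 20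
    87 .leaf)) 24 19 84 (.node (.node (.node .leaf 151 7 178 .leaf) 64 10 65 .leaf) 5 10 6 (.node (.node .leaf
    88 0 38 .leaf) 137 3 131 .leaf))) 8 5 52 (.node (.node (.node (.node .leaf 82 12 100 .leaf) 47 18 33
    (.node .leaf 105 0 0 .leaf)) 89 17 180 (.node (.node .leaf 9 0 21 .leaf) 112 10 113 .leaf)) 54 19 116
    (.node (.node (.node .leaf 147 0 124 .leaf) 34 3 74 .leaf) 13 8 17 (.node (.node .leaf 155 0 33 .leaf) 151
    3 94 .leaf))))) 1 12 12 (.node (.node (.node (.node (.node (.node .leaf 159 3 127 .leaf) 23 17 24 (.node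
    .leaf 73 0 25 .leaf)) 66 7 140 (.node (.node .leaf 148 0 80 .leaf) 33 6 87 .leaf)) 18 11 76 (.node (.node
    (.node .leaf 131 13 174 .leaf) 61 7 58 .leaf) 3 2 3 (.node (.node .leaf 113 0 48 .leaf) 120 15 128
    .leaf))) 6 17 44 (.node (.node (.node (.node .leaf 164 6 147 .leaf) 7 19 40 (.node .leaf 4 0 0 .leaf)) 81
    12 172 (.node (.node .leaf 101 0 77 .leaf) 107 11 58 .leaf)) 46 18 108 (.node (.node (.node .leaf 129 0 81
    .leaf) 73 2 69 .leaf) 16 12 7 (.node (.node .leaf 38 0 98 .leaf) 89 18 150 .leaf)))) 3 8 28 (.node (.node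
    (.node (.node (.node .leaf 142 6 167 .leaf) 32 6 28 (.node .leaf 44 0 3 .leaf)) 74 20 156 (.node (.node
    .leaf 66 0 18 .leaf) 94 17 95 .leaf)) 30 13 92 (.node (.node (.node .leaf 180 10 179 .leaf) 18 1 68 .leaf)
    10 9 9 (.node (.node .leaf 100 0 34 .leaf) 144 4 140 .leaf))) 10 12 60 (.node (.node (.node (.node .leaf
    148 15 148 .leaf) 53 9 47 (.node .leaf 106 0 108 .leaf)) 0 15 0 (.node (.node .leaf 95 0 57 .leaf) 66 2
    117 .leaf)) 58 20 124 (.node (.node (.node .leaf 118 18 88 .leaf) 78 11 44 .leaf) 18 20 18 (.node (.node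
    .leaf 33 0 26 .leaf) 155 9 150 .leaf))))))) 0 18 2 (.node (.node (.node (.node (.node (.node (.node (.node
    .leaf 156 1 83 .leaf) 21 4 13 (.node .leaf 26 0 25 .leaf)) 64 4 130 (.node (.node .leaf 126 0 125 .leaf)
    80 10 81 .leaf)) 14 19 66 (.node (.node (.node .leaf 173 14 144 .leaf) 55 9 50 .leaf) 2 9 2 (.node (.node
    .leaf 155 0 53 .leaf) 124 5 65 .leaf))) 4 17 34 (.node (.node (.node (.node .leaf 170 13 144 .leaf) 12 14
    34 (.node .leaf 115 0 3 .leaf)) 80 17 162 (.node (.node .leaf 18 0 22 .leaf) 100 9 95 .leaf)) 35 15 98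
    (.node (.node (.node .leaf 134 0 94 .leaf) 69 17 26 .leaf) 13 10 13 (.node (.node .leaf 94 0 23 .leaf) 145
    10 142 .leaf)))) 2 6 18 (.node (.node (.node (.node (.node .leaf 81 4 163 .leaf) 26 10 25 (.node .leaf 8 0
    7 .leaf)) 67 12 146 (.node (.node .leaf 65 0 64 .leaf) 31 4 89 .leaf)) 22 19 82 (.node (.node (.node .leaf
    178 17 155 .leaf) 44 6 62 .leaf) 4 16 3 (.node (.node .leaf 44 0 34 .leaf) 133 8 129 .leaf))) 7 13 50
    (.node (.node (.node (.node .leaf 95 5 142 .leaf) 47 2 9 (.node .leaf 10 0 0 .leaf)) 87 17 178 (.node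
    (.node .leaf 151 0 47 .leaf) 112 2 66 .leaf)) 52 14 114 (.node (.node (.node .leaf 178 0 111 .leaf) 74 9
    69 .leaf) 13 7 17 (.node (.node .leaf 117 0 33 .leaf) 150 10 151 .leaf))))) 1 6 10 (.node (.node (.node
    (.node (.node (.node .leaf 127 0 128 .leaf) 18 15 22 (.node .leaf 114 0 8 .leaf)) 66 3 138 (.node (.node
    .leaf 144 0 66 .leaf) 86 18 47 .leaf)) 16 14 74 (.node (.node (.node .leaf 136 6 174 .leaf) 60 5 12 .leaf)
    1 7 2 (.node (.node .leaf 44 0 60 .leaf) 126 16 123 .leaf))) 5 6 42 (.node (.node (.node (.node .leaf 81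
    13 144 .leaf) 38 16 33 (.node .leaf 48 0 3 .leaf)) 80 15 170 (.node (.node .leaf 65 0 9 .leaf) 105 6 43
    .leaf)) 43 18 106 (.node (.node (.node .leaf 82 0 138 .leaf) 72 12 48 .leaf) 16 4 12 (.node (.node .leaf
    23 0 4 .leaf) 149 16 133 .leaf)))) 3 4 26 (.node (.node (.node (.node (.node .leaf 166 13 141 .leaf) 30 12
    29 (.node .leaf 34 0 3 .leaf)) 73 20 154 (.node (.node .leaf 173 0 58 .leaf) 90 1 93 .leaf)) 26 14 90
    (.node (.node (.node .leaf 174 2 179 .leaf) 64 16 67 .leaf) 9 10 9 (.node (.node .leaf 77 0 34 .leaf) 141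
    15 138 .leaf))) 9 14 58 (.node (.node (.node (.node .leaf 147 4 126 .leaf) 53 6 52 (.node .leaf 85 0 0
    .leaf)) 0 12 0 (.node (.node .leaf 22 0 10 .leaf) 64 2 116 .leaf)) 56 14 122 (.node (.node (.node .leaf
    118 15 99 .leaf) 77 3 53 .leaf) 18 9 17 (.node (.node .leaf 59 0 4 .leaf) 155 2 152 .leaf)))))) 1 20 6
    (.node (.node (.node (.node (.node (.node (.node .leaf 158 3 119 .leaf) 22 7 10 (.node .leaf 78 0 4
    .leaf)) 65 11 134 (.node (.node .leaf 123 0 173 .leaf) 83 9 81 .leaf)) 15 14 70 (.node (.node (.node .leaf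
    174 9 164 .leaf) 58 6 22 .leaf) 2 20 2 (.node (.node .leaf 74 0 53 .leaf) 124 16 125 .leaf))) 4 15 38
    (.node (.node (.node (.node .leaf 81 0 170 .leaf) 37 6 27 (.node .leaf 53 0 7 .leaf)) 80 8 166 (.node
    (.node .leaf 83 0 14 .leaf) 102 10 95 .leaf)) 37 18 102 (.node (.node (.node .leaf 65 0 164 .leaf) 53 14
    71 .leaf) 11 3 15 (.node (.node .leaf 73 0 52 .leaf) 136 9 147 .leaf)))) 2 14 22 (.node (.node (.node
    (.node (.node .leaf 164 5 139 .leaf) 27 7 4 (.node .leaf 7 0 51 .leaf)) 69 19 150 (.node (.node .leaf 117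
    18 89 .leaf) 90 11 90 .leaf)) 24 15 86 (.node (.node (.node .leaf 178 2 164 .leaf) 66 16 65 .leaf) 7 10 7
    (.node (.node .leaf 60 0 34 .leaf) 67 4 138 .leaf))) 8 13 54 (.node (.node (.node (.node .leaf 149 6 148
    .leaf) 50 2 13 (.node .leaf 46 0 0 .leaf)) 0 4 0 (.node (.node .leaf 102 0 57 .leaf) 107 15 114 .leaf)) 55
    20 118 (.node (.node (.node .leaf 65 11 94 .leaf) 25 18 74 .leaf) 18 4 10 (.node (.node .leaf 95 0 4
    .leaf) 80 2 153 .leaf))))) 1 14 14 (.node (.node (.node (.node (.node (.node .leaf 157 15 161 .leaf) 25 6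
    25 (.node .leaf 8 0 25 .leaf)) 66 11 142 (.node (.node .leaf 133 0 65 .leaf) 88 16 87 .leaf)) 19 14 78
    (.node (.node (.node .leaf 175 15 174 .leaf) 58 9 61 .leaf) 3 9 3 (.node (.node .leaf 100 0 44 .leaf) 130
    4 65 .leaf))) 6 11 46 (.node (.node (.node (.node .leaf 164 8 81 .leaf) 44 9 39 (.node .leaf 86 0 0
    .leaf)) 82 3 174 (.node (.node .leaf 10 0 18 .leaf) 109 12 72 .leaf)) 50 19 110 (.node (.node (.node .leaf
    67 12 101 .leaf) 74 14 73 .leaf) 16 10 16 (.node (.node .leaf 156 0 38 .leaf) 94 3 150 .leaf)))) 3 12 30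
    (.node (.node (.node (.node (.node .leaf 147 7 169 .leaf) 33 8 25 (.node .leaf 68 0 7 .leaf)) 75 11 158
    (.node (.node .leaf 144 0 18 .leaf) 97 11 61 .leaf)) 31 17 94 (.node (.node (.node .leaf 153 13 180 .leaf)
    69 2 21 .leaf) 11 15 7 (.node (.node .leaf 102 0 23 .leaf) 144 3 141 .leaf))) 12 13 62 (.node (.node
    (.node (.node .leaf 123 3 136 .leaf) 48 1 53 (.node .leaf 106 0 0 .leaf)) 1 10 1 (.node (.node .leaf 117 0
    53 .leaf) 117 10 118 .leaf)) 61 20 126 (.node (.node (.node .leaf 83 8 144 .leaf) 79 15 75 .leaf) 20 12 19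
    (.node (.node .leaf 47 0 25 .leaf) 87 18 155 .leaf)))))))) 0 17 1 (.node (.node (.node (.node (.node
    (.node (.node (.node (.node .leaf 99 3 155 .leaf) 21 15 17 (.node .leaf 26 0 69 .leaf)) 64 3 129 (.node
    (.node .leaf 126 7 125 .leaf) 81 5 67 .leaf)) 13 20 65 (.node (.node (.node .leaf 153 15 172 .leaf) 55 1
    14 .leaf) 1 15 1 (.node (.node .leaf 97 0 107 .leaf) 123 6 82 .leaf))) 3 15 33 (.node (.node (.node (.node
    .leaf 170 11 102 .leaf) 34 11 14 (.node .leaf 60 0 3 .leaf)) 79 14 161 (.node (.node .leaf 81 0 9 .leaf)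
    99 16 94 .leaf)) 34 5 97 (.node (.node (.node .leaf 101 0 146 .leaf) 69 10 69 .leaf) 13 15 9 (.node (.node
    .leaf 105 0 10 .leaf) 144 16 137 .leaf)))) 2 5 17 (.node (.node (.node (.node (.node .leaf 163 11 96
    .leaf) 26 4 4 (.node .leaf 69 0 8 .leaf)) 67 11 145 (.node (.node .leaf 111 17 155 .leaf) 38 6 89 .leaf))
    21 20 81 (.node (.node (.node .leaf 177 8 136 .leaf) 62 15 52 .leaf) 3 10 4 (.node (.node .leaf 99 0 44
    .leaf) 131 15 130 .leaf))) 7 12 49 (.node (.node (.node (.node .leaf 95 0 167 .leaf) 10 20 45 (.node .leaf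
    90 0 0 .leaf)) 83 13 177 (.node (.node .leaf 10 0 45 .leaf) 65 1 111 .leaf)) 51 20 113 (.node (.node
    (.node .leaf 163 0 64 .leaf) 74 7 53 .leaf) 9 3 17 (.node (.node .leaf 38 0 33 .leaf) 81 1 151 .leaf)))))
    1 5 9 (.node (.node (.node (.node (.node (.node .leaf 121 0 120 .leaf) 10 7 22 (.node .leaf 107 0 12
    .leaf)) 65 15 137 (.node (.node .leaf 66 0 67 .leaf) 84 19 85 .leaf)) 16 13 73 (.node (.node (.node .leaf
    101 11 174 .leaf) 60 12 59 .leaf) 1 4 2 (.node (.node .leaf 78 0 59 .leaf) 67 5 126 .leaf))) 5 3 41 (.node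
    (.node (.node (.node .leaf 81 11 102 .leaf) 38 8 26 (.node .leaf 103 0 3 .leaf)) 80 14 169 (.node (.node
    .leaf 9 0 17 .leaf) 45 4 104 .leaf)) 42 7 105 (.node (.node (.node .leaf 83 0 139 .leaf) 72 4 60 .leaf) 16
    2 15 (.node (.node .leaf 23 0 24 .leaf) 149 10 144 .leaf)))) 3 3 25 (.node (.node (.node (.node (.node
    .leaf 166 8 81 .leaf) 28 8 4 (.node .leaf 78 0 3 .leaf)) 73 19 153 (.node (.node .leaf 123 0 58 .leaf) 93
    14 92 .leaf)) 26 13 89 (.node (.node (.node .leaf 179 15 99 .leaf) 66 10 67 .leaf) 8 10 8 (.node (.node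
    .leaf 77 0 60 .leaf) 140 7 67 .leaf))) 9 11 57 (.node (.node (.node (.node .leaf 82 15 83 .leaf) 9 2 52
    (.node .leaf 85 0 4 .leaf)) 0 10 0 (.node (.node .leaf 156 0 53 .leaf) 115 2 60 .leaf)) 56 13 121 (.node
    (.node (.node .leaf 66 12 99 .leaf) 76 10 76 .leaf) 18 7 14 (.node (.node .leaf 89 0 33 .leaf) 154 16 152
    .leaf)))))) 1 19 5 (.node (.node (.node (.node (.node (.node (.node .leaf 157 14 127 .leaf) 22 6 13 (.node
    .leaf 53 0 25 .leaf)) 64 15 133 (.node (.node .leaf 81 7 133 .leaf) 81 16 82 .leaf)) 15 13 69 (.node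
    (.node (.node .leaf 174 16 163 .leaf) 58 14 18 .leaf) 2 15 2 (.node (.node .leaf 116 0 52 .leaf) 80 6 125
    .leaf))) 4 14 37 (.node (.node (.node (.node .leaf 162 15 171 .leaf) 28 6 36 (.node .leaf 49 0 7 .leaf))
    80 7 165 (.node (.node .leaf 118 0 72 .leaf) 102 16 100 .leaf)) 37 17 101 (.node (.node (.node .leaf 101
    12 145 .leaf) 47 11 71 .leaf) 15 10 15 (.node (.node .leaf 90 0 86 .leaf) 146 10 143 .leaf)))) 2 13 21
    (.node (.node (.node (.node (.node .leaf 164 11 94 .leaf) 26 9 25 (.node .leaf 73 0 7 .leaf)) 67 15 149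
    (.node (.node .leaf 117 7 155 .leaf) 90 3 32 .leaf)) 24 20 85 (.node (.node (.node .leaf 178 11 153 .leaf)
    66 9 64 .leaf) 6 16 5 (.node (.node .leaf 51 0 48 .leaf) 138 16 129 .leaf))) 8 6 53 (.node (.node (.node
    (.node .leaf 149 0 168 .leaf) 10 1 48 (.node .leaf 6 0 0 .leaf)) 0 2 0 (.node (.node .leaf 83 0 10 .leaf)
    114 6 74 .leaf)) 55 19 117 (.node (.node (.node .leaf 81 0 131 .leaf) 51 11 74 .leaf) 18 6 17 (.node
    (.node .leaf 53 0 33 .leaf) 152 2 82 .leaf))))) 1 13 13 (.node (.node (.node (.node (.node (.node .leaf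
    127 2 160 .leaf) 25 11 25 (.node .leaf 4 0 3 .leaf)) 66 8 141 (.node (.node .leaf 132 0 83 .leaf) 88 11 88
    .leaf)) 18 12 77 (.node (.node (.node .leaf 175 10 174 .leaf) 21 6 61 .leaf) 3 6 3 (.node (.node .leaf 51
    0 103 .leaf) 65 4 129 .leaf))) 6 6 45 (.node (.node (.node (.node .leaf 164 7 80 .leaf) 6 4 41 (.node
    .leaf 98 0 0 .leaf)) 81 14 173 (.node (.node .leaf 64 0 9 .leaf) 62 6 107 .leaf)) 48 12 109 (.node (.node
    (.node .leaf 83 0 141 .leaf) 21 2 73 .leaf) 16 9 15 (.node (.node .leaf 53 0 38 .leaf) 150 15 102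
    .leaf)))) 3 11 29 (.node (.node (.node (.node (.node .leaf 169 14 168 .leaf) 32 9 31 (.node .leaf 3 0 29
    .leaf)) 75 6 157 (.node (.node .leaf 61 0 58 .leaf) 96 10 94 .leaf)) 30 14 93 (.node (.node (.node .leaf
    180 15 101 .leaf) 53 12 68 .leaf) 10 16 9 (.node (.node .leaf 57 0 23 .leaf) 144 8 138 .leaf))) 10 13 61
    (.node (.node (.node (.node .leaf 129 14 123 .leaf) 53 15 34 (.node .leaf 0 0 108 .leaf)) 0 16 0 (.node
    (.node .leaf 112 0 48 .leaf) 118 1 67 .leaf)) 61 19 125 (.node (.node (.node .leaf 83 4 67 .leaf) 22 11 78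
    .leaf) 10 4 18 (.node (.node .leaf 117 0 26 .leaf) 82 2 155 .leaf))))))) 0 19 3 (.node (.node (.node
    (.node (.node (.node (.node (.node .leaf 156 17 88 .leaf) 21 10 21 (.node .leaf 155 0 25 .leaf)) 64 7 131
    (.node (.node .leaf 136 0 125 .leaf) 82 6 64 .leaf)) 14 20 67 (.node (.node (.node .leaf 125 15 173 .leaf)
    55 10 55 .leaf) 2 16 2 (.node (.node .leaf 100 0 60 .leaf) 125 6 66 .leaf))) 4 18 35 (.node (.node (.node
    (.node .leaf 170 3 166 .leaf) 34 17 35 (.node .leaf 10 0 29 .leaf)) 80 3 163 (.node (.node .leaf 67 0 18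
    .leaf) 101 10 99 .leaf)) 36 17 99 (.node (.node (.node .leaf 143 0 99 .leaf) 22 1 70 .leaf) 14 9 13 (.node
    (.node .leaf 47 0 69 .leaf) 146 12 145 .leaf)))) 2 11 19 (.node (.node (.node (.node (.node .leaf 164 4 81
    .leaf) 26 11 26 (.node .leaf 74 0 7 .leaf)) 67 13 147 (.node (.node .leaf 133 0 64 .leaf) 88 9 89 .leaf))
    22 20 83 (.node (.node (.node .leaf 178 15 96 .leaf) 63 15 56 .leaf) 6 9 6 (.node (.node .leaf 53 0 98
    .leaf) 135 10 132 .leaf))) 7 14 51 (.node (.node (.node (.node .leaf 95 12 80 .leaf) 23 15 47 (.node .leaf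
    24 0 0 .leaf)) 88 17 179 (.node (.node .leaf 133 0 9 .leaf) 67 1 113 .leaf)) 53 11 115 (.node (.node
    (.node .leaf 80 0 130 .leaf) 70 1 74 .leaf) 10 14 17 (.node (.node .leaf 74 0 33 .leaf) 96 3 151
    .leaf))))) 1 11 11 (.node (.node (.node (.node (.node (.node .leaf 127 11 63 .leaf) 11 13 23 (.node .leaf
    52 0 25 .leaf)) 66 4 139 (.node (.node .leaf 81 0 80 .leaf) 87 15 32 .leaf)) 17 17 75 (.node (.node (.node
    .leaf 82 7 174 .leaf) 60 7 44 .leaf) 2 7 1 (.node (.node .leaf 48 0 68 .leaf) 121 15 127 .leaf))) 5 13 43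
    (.node (.node (.node (.node .leaf 81 15 80 .leaf) 19 13 39 (.node .leaf 3 0 0 .leaf)) 81 17 171 (.node
    (.node .leaf 145 0 76 .leaf) 105 7 45 .leaf)) 44 5 107 (.node (.node (.node .leaf 136 0 126 .leaf) 72 10
    72 .leaf) 16 8 8 (.node (.node .leaf 103 0 48 .leaf) 150 2 80 .leaf)))) 3 7 27 (.node (.node (.node (.node
    (.node .leaf 166 6 147 .leaf) 30 2 26 (.node .leaf 26 0 7 .leaf)) 74 19 155 (.node (.node .leaf 80 0 9
    .leaf) 93 18 85 .leaf)) 29 13 91 (.node (.node (.node .leaf 155 7 179 .leaf) 68 10 68 .leaf) 10 6 9 (.node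
    (.node .leaf 101 0 34 .leaf) 141 8 67 .leaf))) 10 11 59 (.node (.node (.node (.node .leaf 125 14 139
    .leaf) 53 1 10 (.node .leaf 0 18 108 .leaf)) 0 14 0 (.node (.node .leaf 150 0 47 .leaf) 117 9 110 .leaf))
    58 19 123 (.node (.node (.node .leaf 118 17 156 .leaf) 53 3 77 .leaf) 18 10 18 (.node (.node .leaf 34 0 4
    .leaf) 155 6 116 .leaf)))))) 1 1 7 (.node (.node (.node (.node (.node (.node (.node .leaf 158 13 75 .leaf)
    22 9 21 (.node .leaf 44 0 4 .leaf)) 65 13 135 (.node (.node .leaf 144 0 67 .leaf) 82 10 83 .leaf)) 16 5 71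
    (.node (.node (.node .leaf 83 4 174 .leaf) 13 6 58 .leaf) 1 17 2 (.node (.node .leaf 58 0 1 .leaf) 126 5
    81 .leaf))) 5 17 39 (.node (.node (.node (.node .leaf 166 0 164 .leaf) 37 9 36 (.node .leaf 3 0 49 .leaf))
    80 11 167 (.node (.node .leaf 14 0 10 .leaf) 103 20 48 .leaf)) 40 6 103 (.node (.node (.node .leaf 66 0
    175 .leaf) 38 20 33 .leaf) 7 7 15 (.node (.node .leaf 4 0 24 .leaf) 148 14 147 .leaf)))) 3 17 23 (.node
    (.node (.node (.node (.node .leaf 165 15 164 .leaf) 27 15 26 (.node .leaf 48 0 7 .leaf)) 69 20 151 (.node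
    (.node .leaf 61 0 126 .leaf) 91 18 84 .leaf)) 25 13 87 (.node (.node (.node .leaf 179 17 156 .leaf) 67 9
    65 .leaf) 8 2 7 (.node (.node .leaf 59 0 76 .leaf) 139 4 67 .leaf))) 8 14 55 (.node (.node (.node (.node
    .leaf 126 14 138 .leaf) 51 10 51 (.node .leaf 43 0 0 .leaf)) 0 6 0 (.node (.node .leaf 111 0 47 .leaf) 115
    3 109 .leaf)) 56 1 119 (.node (.node (.node .leaf 83 0 135 .leaf) 75 3 56 .leaf) 18 8 14 (.node (.node
    .leaf 86 0 33 .leaf) 154 1 81 .leaf))))) 2 1 15 (.node (.node (.node (.node (.node (.node .leaf 160 13 162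
    .leaf) 25 16 25 (.node .leaf 74 0 8 .leaf)) 66 12 143 (.node (.node .leaf 64 3 80 .leaf) 36 15 88 .leaf))
    21 17 79 (.node (.node (.node .leaf 99 11 175 .leaf) 58 16 61 .leaf) 4 5 4 (.node (.node .leaf 53 0 72
    .leaf) 130 10 129 .leaf))) 7 5 47 (.node (.node (.node (.node .leaf 164 13 141 .leaf) 44 11 22 (.node
    .leaf 38 0 0 .leaf)) 82 4 175 (.node (.node .leaf 67 0 10 .leaf) 109 2 77 .leaf)) 50 20 111 (.node (.node
    (.node .leaf 131 0 148 .leaf) 74 1 22 .leaf) 8 8 16 (.node (.node .leaf 74 0 38 .leaf) 96 4 150 .leaf))))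
    3 13 31 (.node (.node (.node (.node (.node .leaf 168 6 148 .leaf) 33 7 26 (.node .leaf 33 0 7 .leaf)) 79 2
    159 (.node (.node .leaf 82 0 14 .leaf) 98 18 53 .leaf)) 31 18 95 (.node (.node (.node .leaf 155 8 180
    .leaf) 69 8 47 .leaf) 12 9 11 (.node (.node .leaf 37 0 4 .leaf) 144 7 139 .leaf))) 13 18 63 (.node (.node
    (.node (.node .leaf 172 2 96 .leaf) 38 17 53 (.node .leaf 108 0 0 .leaf)) 1 9 1 (.node (.node .leaf 142 0
    59 .leaf) 120 9 119 .leaf)) 63 5 127 (.node (.node (.node .leaf 125 0 177 .leaf) 79 3 63 .leaf) 20 9 19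
    (.node (.node .leaf 89 0 26 .leaf) 151 16 155 .leaf)))))))))

def c5S : List (ℕ × ℕ × List ℕ) :=
    [(0,0,[]), (0,0,[]), (0,0,[]), (0,0,[]), (0,0,[]), (0,0,[]), (0,0,[]), (0,0,[]), (0,0,[]), (0,0,[]),
    (0,0,[]), (0,0,[]), (0,0,[]), (0,0,[]), (0,0,[]), (0,0,[]), (0,0,[]), (0,0,[]), (0,0,[]), (0,0,[]),
    (0,0,[]), (0,0,[]), (0,0,[]), (0,0,[]), (0,0,[]), (0,0,[]), (0,0,[]), (0,0,[]), (0,0,[]), (0,0,[]),
    (0,0,[]), (0,0,[]), (0,0,[]), (0,0,[]), (0,0,[]), (0,0,[]), (0,0,[]), (0,0,[]), (0,0,[]), (0,0,[]),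
    (0,0,[]), (0,0,[]), (0,0,[]), (0,0,[]), (0,0,[]), (0,0,[]), (0,0,[]), (0,0,[]), (0,0,[]), (0,0,[]),
    (0,0,[]), (0,0,[]), (0,0,[]), (0,0,[]), (0,0,[]), (0,0,[]), (0,0,[]), (0,0,[]), (0,0,[]), (0,0,[]),
    (0,0,[]), (0,0,[]), (0,0,[]), (0,0,[]), (0,0,[]), (0,0,[]), (0,0,[]), (0,0,[]), (0,0,[]), (0,0,[]),
    (0,0,[]), (0,0,[]), (0,0,[]), (0,0,[]), (0,0,[]), (0,0,[]), (0,0,[]), (0,0,[]), (0,0,[]), (0,0,[]),
    (0,0,[]), (0,0,[]), (0,0,[]), (0,0,[]), (0,0,[]), (0,0,[]), (0,0,[]), (0,0,[]), (0,0,[]), (0,0,[]),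
    (0,0,[]), (0,0,[]), (0,0,[]), (0,0,[]), (0,0,[]), (0,0,[]), (0,0,[]), (0,0,[]), (0,0,[]), (0,0,[]),
    (0,0,[]), (0,0,[]), (0,0,[]), (0,0,[]), (0,0,[]), (0,0,[]), (0,0,[]), (0,0,[]), (0,0,[]), (0,0,[]),
    (0,0,[]), (0,0,[]), (0,0,[]), (0,0,[]), (0,0,[]), (0,0,[]), (0,0,[]), (0,0,[]), (0,0,[]), (0,0,[]),
    (0,0,[]), (0,0,[]), (0,0,[]), (0,0,[]), (0,0,[]), (0,0,[]), (0,0,[]), (0,0,[]), (0,0,[]), (0,0,[]),
    (0,0,[]), (0,0,[]), (0,0,[]), (0,0,[]), (0,0,[]), (0,0,[]), (0,0,[]), (0,0,[]), (0,0,[]), (0,0,[]),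
    (0,0,[]), (0,0,[]), (0,0,[]), (0,0,[]), (0,0,[]), (0,0,[]), (0,0,[]), (0,0,[]), (0,0,[]), (0,0,[]),
    (0,0,[]), (0,0,[]), (0,0,[]), (0,0,[]), (0,0,[]), (0,0,[]), (0,0,[]), (0,0,[]), (0,0,[]), (0,0,[]),
    (0,0,[]), (0,0,[]), (0,0,[]), (0,0,[]), (0,0,[]), (0,0,[]), (0,0,[]), (0,0,[]), (0,0,[]), (0,0,[]),
    (0,0,[]), (0,0,[]), (0,0,[]), (0,0,[]), (0,0,[]), (0,0,[]), (0,0,[]), (0,0,[]), (0,0,[]), (0,0,[]),
    (1,0,[]), (1,0,[]), (1,0,[]), (1,0,[]), (1,0,[]), (1,0,[]), (1,0,[]), (1,0,[]), (1,0,[]),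
    (77,1,[1,366,0]), (78,1,[1,376,0]), (79,1,[1,368,0]), (80,1,[1,374,0]), (77,3,[3,368,2]),
    (78,3,[3,366,2]), (79,3,[3,376,2]), (80,3,[3,374,2]), (82,4,[3,371,373,2]), (76,2,[3,0]),
    (81,0,[3,363,0]), (54,1,[387,389,399]), (56,1,[392,391,399]), (62,3,[400,392,391]), (83,2,[5,361,4]),
    (84,2,[5,365,4]), (86,2,[5,366,4]), (84,0,[7,364,6]), (86,0,[7,366,6]), (87,0,[7,369,4]),
    (31,1,[416,415]), (86,0,[11,380,10]), (87,0,[11,379,8]), (31,1,[422,421]), (42,3,[13,378,12]),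
    (23,1,[13,14]), (39,1,[13,380,14]), (42,1,[15,378,14]), (52,3,[17,378,16]), (24,1,[17,18]),
    (49,1,[17,380,18]), (50,1,[17,382,18]), (41,3,[13,384,20]), (67,1,[21,380,22]), (41,1,[23,385,14]),
    (51,3,[17,384,24]), (72,3,[25,378,24]), (70,1,[25,380,26]), (72,1,[27,378,26]), (42,3,[29,390,28]),
    (33,3,[29,399,20]), (34,3,[29,403,12]), (35,1,[29,401,14]), (23,1,[29,30]), (33,1,[23,398,30]),
    (34,1,[15,402,30]), (35,1,[13,398,30]), (39,1,[29,386,30]), (42,1,[31,390,30]), (34,1,[31,404,14]),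
    (84,1,[33,394,32]), (43,3,[33,399,16]), (44,3,[33,403,24]), (46,1,[33,404,18]), (48,3,[33,404,24]),
    (24,1,[33,34]), (43,1,[19,398,34]), (44,1,[27,402,34]), (46,1,[17,402,34]), (48,1,[27,405,34]),
    (49,1,[33,386,34]), (52,1,[35,390,34]), (84,3,[35,395,34]), (43,1,[35,401,18]), (29,1,[37,38]),
    (67,1,[37,386,38]), (48,3,[17,402,40]), (51,3,[33,392,40]), (55,0,[25,398,40]), (72,3,[41,390,40]),
    (46,0,[41,34,496]), (46,2,[482,33,42]), (47,2,[484,33,42]), (70,1,[41,386,42]), (72,1,[43,390,42]),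
    (48,1,[43,403,18]), (51,1,[43,393,34]), (82,2,[45,5,0,20]), (76,2,[47,44]), (38,2,[49,406,48]),
    (43,0,[49,409,48]), (58,3,[49,410,48]), (25,0,[49,416]), (25,1,[417,50]), (25,2,[49,50]),
    (33,2,[51,406,50]), (43,2,[51,408,50]), (54,2,[540,49,50]), (53,3,[542,49,52]), (56,2,[546,49,52]),
    (26,2,[49,54]), (28,1,[417,54]), (29,1,[57,58]), (35,2,[51,406,58]), (46,2,[55,408,62]),
    (70,1,[61,410,62]), (27,2,[49,64]), (61,2,[546,49,64]), (78,1,[45,419,66]), (82,1,[27,1,6,66]),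
    (70,0,[574,533,445]), (76,2,[69,66]), (72,3,[61,416,70]), (46,0,[71,413,561]), (46,2,[554,413,72]),
    (70,1,[71,414,72]), (71,1,[61,419,72]), (27,2,[544,74]), (75,2,[65,419,74]), (82,2,[77,9,396,36]),
    (83,1,[79,9,12]), (25,0,[81,422]), (78,1,[77,425,86]), (82,1,[43,397,10,86]), (70,0,[602,597,509]),
    (84,3,[89,11,18]), (32,0,[17,12,92]), (51,3,[93,443,532]), (80,2,[65,44,612]), (32,2,[95,13,18]),
    (37,0,[25,12,98]), (72,1,[101,426,100]), (37,2,[101,13,26]), (32,0,[103,15,16]), (24,1,[103,104]),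
    (32,2,[19,14,104]), (49,1,[93,431,104]), (51,1,[579,447,104]), (32,2,[105,428,94]), (78,0,[630,614,595]),
    (37,0,[107,15,24]), (37,2,[27,14,108]), (70,1,[99,431,108]), (72,1,[109,432,108]), (77,3,[111,434,110]),
    (30,1,[494,114]), (46,2,[522,436,114]), (46,0,[648,488,487]), (51,3,[650,531,649]), (29,1,[117,118]),
    (45,2,[23,18,118]), (64,2,[604,529,118]), (44,3,[650,529,120]), (46,0,[121,436,511]),
    (70,3,[121,438,114]), (71,3,[121,440,114]), (48,0,[493,649,663]), (51,3,[103,446,122]),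
    (46,0,[123,659,660]), (80,3,[111,449,124]), (87,0,[129,451,126]), (86,2,[127,453,130]), (31,1,[679,681]),
    (86,0,[129,453,132]), (85,2,[133,130]), (87,0,[133,455,130]), (73,3,[684,683,680]), (52,1,[135,456,134]),
    (32,2,[135,29,34]), (45,1,[135,463,104]), (37,0,[41,28,136]), (48,3,[93,460,136]), (55,0,[533,458,136]),
    (72,3,[137,456,136]), (81,1,[51,44,703]), (37,2,[139,29,42]), (44,3,[141,468,106]), (45,3,[141,470,92]),
    (46,1,[141,477,104]), (82,4,[615,712,715,637]), (32,2,[35,30,142]), (43,1,[658,467,142]),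
    (45,1,[95,471,142]), (52,1,[143,474,142]), (37,0,[137,465,144]), (37,0,[145,31,40]), (30,1,[145,146]),
    (37,2,[43,30,146]), (46,2,[710,141,146]), (47,2,[714,141,146]), (70,1,[137,473,146]),
    (37,2,[147,464,138]), (55,2,[147,466,578]), (66,2,[147,470,100]), (77,2,[738,706,546]),
    (81,2,[111,480,148]), (26,1,[676,749]), (69,3,[151,500,150]), (36,2,[696,695,152]), (38,1,[153,490,629]),
    (66,2,[607,506,154]), (66,2,[155,37,42]), (80,1,[149,513,156]), (81,2,[125,515,156]),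
    (84,2,[159,519,130]), (84,0,[133,518,160]), (87,0,[161,517,158]), (84,2,[127,521,162]),
    (86,2,[159,525,162]), (50,3,[772,690,769]), (86,0,[161,525,164]), (87,0,[165,527,162]),
    (73,3,[778,776,774]), (85,2,[169,166]), (80,2,[613,534,170]), (51,3,[566,558,172]), (46,0,[173,538,571]),
    (66,2,[175,537,174]), (71,1,[173,540,174]), (51,1,[175,559,584]), (51,3,[586,556,176]),
    (46,0,[177,551,593]), (55,0,[177,51,60]), (70,3,[177,552,174]), (84,3,[791,717,800]), (55,2,[63,50,178]),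
    (66,2,[179,549,178]), (82,3,[167,47,56,180]), (66,0,[181,563,182]), (30,1,[183,184]),
    (37,2,[185,564,178]), (82,3,[785,813,815,817]), (76,2,[189,186]), (77,1,[187,569,190]),
    (45,3,[670,577,192]), (80,2,[632,580,194]), (80,0,[75,68,194]), (79,1,[187,583,196]),
    (77,3,[189,583,198]), (77,1,[197,589,200]), (78,1,[187,591,200]), (78,3,[199,589,202]),
    (79,3,[189,591,202]), (84,3,[95,598,204]), (43,1,[83,80,206]), (43,1,[207,601,88]), (46,0,[85,82,208]),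
    (53,3,[848,846,208]), (45,3,[650,605,212]), (24,2,[213,674]), (29,1,[722,216]), (35,2,[754,635,216]),
    (83,2,[127,619,218]), (83,0,[221,618,128]), (83,2,[131,622,222]), (83,0,[225,623,132]),
    (87,0,[225,621,222]), (46,2,[736,626,226]), (51,1,[227,673,856]), (33,3,[860,757,228]), (29,2,[229,696]),
    (38,0,[721,859,877]), (83,2,[231,639,126]), (86,2,[219,643,232]), (83,2,[233,640,130]),
    (83,0,[133,641,234]), (87,0,[235,645,232]), (39,1,[237,646,238]), (70,1,[241,646,242]),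
    (84,2,[163,651,244]), (84,0,[129,652,246]), (84,2,[131,671,248]), (86,2,[245,666,248]),
    (84,2,[249,665,158]), (50,3,[900,682,899]), (84,0,[161,664,250]), (85,2,[251,248]), (84,0,[251,670,132]),
    (50,1,[896,777,909]), (51,3,[253,676,240]), (41,1,[255,676,238]), (25,0,[257,678]), (25,1,[679,258]),
    (25,2,[257,258]), (53,3,[920,257,260]), (56,2,[924,257,260]), (27,2,[257,264]), (72,3,[263,678,268]),
    (60,2,[928,922,272]), (58,3,[257,681,274]), (25,0,[275,688]), (25,1,[689,276]), (25,2,[275,276]),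
    (53,3,[938,275,278]), (26,2,[275,280]), (28,1,[689,280]), (26,0,[279,286]), (27,2,[275,286]),
    (60,2,[946,275,286]), (61,2,[942,275,286]), (74,2,[265,681,286]), (75,2,[273,683,286]),
    (69,3,[283,688,288]), (29,1,[289,290]), (67,1,[267,685,290]), (69,1,[285,688,290]), (70,3,[293,684,270]),
    (30,1,[293,294]), (71,1,[263,690,294]), (56,3,[950,944,296]), (75,2,[265,690,296]), (83,2,[159,699,298]),
    (82,3,[299,706,548,176]), (80,3,[203,799,982]), (81,0,[983,803,186]), (25,0,[987,825]),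
    (82,0,[810,179,707,300]), (83,0,[301,698,160]), (87,0,[301,705,298]), (81,0,[990,808,190]),
    (63,2,[825,988,994]), (83,2,[163,708,302]), (83,2,[305,729,158]), (83,0,[161,728,306]),
    (83,0,[307,726,300]), (40,1,[1000,777,1005]), (83,2,[303,740,308]), (84,2,[231,735,308]),
    (86,2,[299,739,308]), (83,2,[309,732,162]), (82,3,[309,747,536,172]), (40,3,[1010,1009,1007]),
    (57,0,[1014,987,839]), (59,2,[1014,987,833]), (83,0,[165,733,310]), (82,0,[792,175,746,310]),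
    (85,2,[311,308]), (46,1,[253,751,312]), (33,3,[237,749,314]), (82,2,[149,479,148,314]),
    (55,3,[243,749,1037,1034]), (11,0,[892,1038,894]), (17,0,[919,1041,916]), (13,0,[254,1043]),
    (38,1,[1044,765,316]), (35,0,[319,316,1046]), (51,1,[321,762,312]), (82,2,[323,159,156,318]),
    (37,0,[1053,1049,1033]), (38,2,[988,980,324]), (25,0,[325,770]), (25,1,[771,326]), (25,2,[325,326]),
    (33,2,[986,980,326]), (43,2,[277,766,326]), (56,2,[1062,325,328]), (26,2,[325,330]), (28,1,[771,330]),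
    (44,2,[281,766,330]), (46,0,[293,769,1073]), (45,0,[333,767,282]), (30,1,[335,336]),
    (48,1,[337,330,1076]), (47,0,[972,1082,1080]), (26,0,[329,338]), (41,2,[985,980,338]),
    (51,2,[287,766,338]), (60,2,[1070,325,338]), (82,1,[321,157,160,340]), (41,1,[1094,1051,1054]),
    (80,3,[339,322,1096,341]), (6,0,[1060,1098,1092]), (5,0,[1059,1098,1086]), (13,0,[1089,1099]),
    (15,0,[1091,1099]), (17,0,[338,1099]), (8,0,[1077,1100]), (9,0,[330,1100]), (10,0,[1073,1100]),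
    (15,0,[1075,1100]), (17,0,[1069,1102]), (69,0,[333,770,1104,842]), (7,0,[1078,1121]), (14,0,[332,1121]),
    (68,2,[841,1105,776]), (72,0,[335,770,1106,977]), (8,0,[1085,1129]), (47,1,[953,1107,909]),
    (71,2,[961,1107,776]), (74,3,[778,1108,775]), (43,1,[908,1061,1110]), (46,1,[1067,1112,904]),
    (51,1,[295,296,1130]), (71,2,[915,1132,936]), (59,2,[970,1138,914]), (35,2,[996,993,342]),
    (45,2,[291,769,342]), (41,1,[343,1108,1002]), (30,1,[1107,344]), (51,1,[345,1108,904]),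
    (43,0,[257,773,346]), (58,3,[325,775,346]), (59,3,[1060,776,346]), (25,0,[347,780]), (27,2,[347,1136]),
    (38,2,[347,1016,1023]), (43,0,[347,897,1146]), (53,2,[1167,1164,347]), (55,3,[347,1134,934]),
    (25,2,[347,348]), (27,1,[1173,348]), (33,2,[349,1016,1025]), (44,3,[1170,1173,350]),
    (48,3,[1170,1167,352]), (76,1,[1019,354]), (80,1,[191,789,354]), (56,1,[1188,824,999]),
    (41,2,[1152,1148,1189]), (41,0,[1119,1056,1189]), (76,1,[1028,356]), (78,1,[355,795,356]),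
    (80,1,[197,796,356]), (39,0,[1198,1194,1163]), (65,2,[1198,1191,1020]), (77,1,[357,804,358]),
    (80,1,[201,799,358]), (82,2,[359,806,354,1192]), (28,1,[1206,1205]), (42,0,[1206,1203,1177]),
    (51,0,[1151,1153,1210,1208]), (11,0,[839,1216,966]), (12,0,[837,1216,968]), (14,0,[1169,1216,291]),
    (14,0,[965,1217]), (13,0,[1064,1219,267]), (14,0,[1181,1221,285]), (3,0,[888,1222,1202]),
    (6,0,[940,1222,1165]), (5,0,[939,1222,347]), (8,0,[913,1222,1171]), (7,0,[768,1222,1158]),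
    (10,0,[948,1222,1167]), (14,0,[1168,1223]), (15,0,[295,1222,1175]), (17,0,[297,1222,1179,1229]),
    (18,0,[690,1222,1160]), (4,0,[865,1226,1195]), (6,0,[922,1226,327]), (7,0,[898,1226,1110]),
    (9,0,[926,1226,1114]), (13,0,[1065,1227]), (16,0,[269,1226,1116,1241]), (3,0,[887,1228,1214]),
    (14,0,[1180,1229]), (17,0,[1201,1230]), (19,0,[1197,1230]), (20,0,[356,1230]), (6,0,[941,1233]),
    (10,0,[956,1233]), (16,0,[353,1232,1141]), (16,0,[351,1234,1133]), (9,0,[1276,1184,1236]),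
    (10,0,[1281,1278,1182,1236]), (2,0,[1283,1237]), (11,0,[903,1285,970,1254]), (9,0,[930,1238]),
    (15,0,[345,1239,1144]), (5,0,[1273,1240,955]), (2,0,[1256,1244]), (8,0,[769,1295,1131,1247]),
    (2,0,[1296,1293]), (17,0,[1109,1295,1143,1294]), (2,0,[1301,1295]), (18,0,[783,1303,974]),
    (18,0,[683,1246,978]), (5,0,[1301,1058,1248]), (10,0,[1190,1250]), (19,0,[1187,1250]),
    (5,0,[1308,1252,922]), (2,0,[1315,1307]), (12,0,[780,1260,932,1304]), (9,0,[1212,1262]),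
    (20,0,[358,1262]), (22,0,[911,1283,251]), (2,0,[1324,1282]), (18,0,[668,1327,907,1286]),
    (2,0,[1329,1290]), (16,0,[114,1331,345,1300]), (15,0,[649,1331,1154,1298]), (17,0,[654,1331,1157,1326]),
    (2,0,[1335,1299]), (10,0,[497,1339,1275,1318]), (11,0,[499,1339,958,1316]), (2,0,[1333,1301]),
    (17,0,[531,1339,287,1334]), (2,0,[1335,1296]), (4,0,[695,1349,868]), (3,0,[718,1349,889]),
    (2,0,[1341,1319]), (6,0,[504,1349,1273,1354]), (2,0,[1357,1341]), (7,0,[489,1349,769,1344]),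
    (2,0,[1360,1343,1315]), (14,0,[151,1349,288]), (13,0,[153,1349,1242]), (2,0,[1360,1343]),
    (22,0,[502,1349,133,1356]), (2,0,[1370,1349]), (2,0,[1370,1335]), (21,0,[609,1373,687,1374]),
    (4,0,[610,1345,992]), (2,0,[1369,1317]), (10,0,[510,1345,1288,1380]), (2,0,[1357,1355]),
    (14,0,[113,1345,1104]), (4,0,[610,1363,864]), (14,0,[113,1363,1258]), (3,0,[628,1385,1027]),
    (2,0,[1370,1346]), (4,0,[610,1333,981]), (14,0,[113,1333,1125]), (4,0,[617,1375,867]),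
    (3,0,[628,1375,886]), (14,0,[117,1375,282]), (13,0,[119,1375,1264]), (13,0,[854,1337,827]),
    (3,0,[628,1359,1016]), (13,0,[119,1359,1126]), (4,0,[610,1369,863]), (3,0,[625,1369,882]),
    (3,0,[628,1395,733]), (8,0,[18,1395,651]), (10,0,[528,1394]), (14,0,[117,1395,760]),
    (13,0,[119,1395,605]), (12,0,[692,1351,871,1400]), (2,0,[1428,1351]), (22,0,[844,1431,225]),
    (2,0,[1426,1413]), (12,0,[724,1353,891,1402]), (2,0,[1436,1353]), (2,0,[1426,1407]),
    (17,0,[633,1439,1266,1440]), (20,0,[828,1439,1268,1392]), (19,0,[636,1439,1270]), (4,0,[617,1357,622]),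
    (2,0,[1443,1426]), (12,0,[752,1365,962,1404]), (2,0,[1452,1365]), (14,0,[656,1455,1225,1366]),
    (2,0,[1451,1457]), (2,0,[1459,1367]), (2,0,[1443,1435]), (11,0,[575,1461,838,1390]), (2,0,[1465,1387]),
    (19,0,[66,1461,201]), (8,0,[18,1376,89]), (9,0,[1423,1376,853]), (2,0,[1465,1391]),
    (10,0,[700,1379,1311,1388]), (2,0,[1465,1399]), (20,0,[786,1379,990]), (3,0,[625,1382,728]),
    (20,0,[535,1467,203,1468]), (20,0,[786,1389,1312,1410]), (20,0,[535,1475,822,1478]), (2,0,[1484,1489]),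
    (2,0,[1449,1432]), (20,0,[828,1393,1028,1446]), (2,0,[1494,1445]), (2,0,[1497,1393]), (2,0,[1497,1419]),
    (2,0,[1497,1411]), (21,0,[717,1499,1031,1502]), (2,0,[1505,1497,1403]), (2,0,[1505,1501]),
    (2,0,[1505,1503]), (2,0,[1505,1497]), (2,0,[1491,1479]), (2,0,[1513,1486]), (20,0,[786,1397,983]),
    (2,0,[1517,1519]), (8,0,[413,1515,1122,1404]), (11,0,[414,1515,835,1462]), (10,0,[573,1507,1320,1510]),
    (2,0,[1527,1507]), (11,0,[553,1529,884,1414]), (2,0,[1527,1521]), (2,0,[1531,1476]),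
    (19,0,[706,1529,1322,1532]), (2,0,[1535,1537]), (2,0,[1539,1527,1511]), (2,0,[1539,1527,1509]),
    (2,0,[1539,1527,1513]), (2,0,[1523,1425]), (2,0,[1525,1443]), (13,0,[23,1421,855,1409]),
    (2,0,[1551,1408]), (17,0,[446,1553,874]), (7,0,[539,1541,1012,1416]), (2,0,[1557,1483]),
    (5,0,[48,1543,743,1524]), (8,0,[538,1543,873,1554]), (2,0,[1562,1543]), (2,0,[1562,1545]),
    (2,0,[1562,1535]), (11,0,[431,1565,738,1568]), (2,0,[1571,1565]), (13,0,[97,1573,745,1448]),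
    (2,0,[1571,1562,1559]), (15,0,[101,1573,730,1576]), (2,0,[1578,1448]), (2,0,[1571,1562]),
    (2,0,[1561,1547]), (2,0,[1561,1525]), (2,0,[1583,1539]), (2,0,[1561,1549]), (14,0,[57,1585,758,1590]),
    (2,0,[1581,1428]), (2,0,[1589,1527]), (2,0,[1561,1484]), (2,0,[1587,1451]), (4,0,[406,1601,881]),
    (14,0,[57,1601,119]), (2,0,[1592,1605]), (2,0,[1581,1574]), (2,0,[1571,1567]), (13,0,[97,1595,878,1602]),
    (2,0,[1612,1608]), (2,0,[1615,1581,1493]), (2,0,[1615,1581]), (21,0,[4,1617,844,1618]), (2,0,[1621,1561]),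
    (2,0,[1621,1615,1611,1444]), (2,0,[1621,1615,1597,1517]), (2,0,[1621,1615,1597,1505]),
    (20,0,[1,1625,830,1628]), (2,0,[1627,1481]), (2,0,[1621,1607]), (2,0,[1621,1599]), (2,0,[1635,1473]),
    (2,0,[1630,1471]), (14,0,[370,1641,90]), (7,0,[365,1639,850]), (4,0,[360,1633,818]), (21,0,[7,1637,168]),
    (2,0,[1623,1649]), (20,0,[215,1642]), (19,0,[1653,1645,210]), (19,0,[1653,1647,820,1650]),
    (2,0,[1656,1655]), (2,0,[1659,1654]), (19,0,[1652,1660])]

def c5T : List (List ℕ × List ℕ) :=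
    [([17],[1662])]

theorem c5C : cert [[17,11,13,18,20]] [1,2,3,4,5,6,7,8,9,10,11,12,13,14,15,16] c5W c5F c5S c5T = true := by decide +kernel

def c6W : List (List ℕ) :=
    [[], [1,2], [2,1], [3,4], [4,3], [5,6], [6,5], [7,8], [8,7], [9,9], [10,10], [11,12], [12,11], [13,14],
    [14,13], [15,15], [16,16], [17,18], [18,17], [19,20], [20,19], [2,2,2], [4,4,10], [4,8,15], [4,15,8],
    [8,8,10], [12,12,12], [14,14,14], [9,16,10], [2,6,1,5], [2,4,11,3], [2,8,1,7], [2,12,2,3], [2,12,3,12],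
    [2,3,11,4], [2,9,2,9], [2,16,2,16], [2,15,11,15], [2,10,1,10], [6,4,5,3], [6,8,13,7], [6,12,5,11],
    [6,14,6,7], [6,14,7,14], [6,7,13,8], [6,9,6,9], [6,16,6,16], [6,15,13,15], [6,10,5,10], [4,4,7,7],
    [4,4,9,16], [4,14,3,13], [4,7,15,10], [4,9,4,9], [4,9,3,16], [4,16,4,16], [4,15,7,10], [4,15,10,7],
    [8,8,9,16], [8,8,16,9], [8,16,7,9], [12,14,11,13], [12,9,12,9], [12,16,12,16], [12,10,11,10], [14,9,14,9],
    [14,16,14,16], [14,10,13,10], [9,16,9,16], [16,15,16,15], [17,17,17], [17,10,18,9], [17,9,18,16],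
    [17,16,18,10], [17,15,18,15], [3,17,3,17], [17,11,14,18,20], [1,19,2,20], [5,19,6,20], [19,19,19],
    [9,19,9,20], [10,19,10,19]]

def c6F : Tr :=
    (.node (.node (.node (.node (.node (.node (.node (.node (.node (.node .leaf 86 0 19 .leaf) 45 15 33 .leaf)
    56 14 128 (.node .leaf 128 7 97 .leaf)) 16 19 64 (.node (.node .leaf 75 9 72 .leaf) 9 4 12 (.node .leaf
    100 0 33 .leaf))) 5 6 32 (.node (.node (.node (.node .leaf 93 0 0 .leaf) 16 6 59 .leaf) 2 9 2 (.node .leaf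
    143 10 142 .leaf)) 38 5 96 (.node (.node .leaf 103 16 102 .leaf) 22 13 22 (.node .leaf 72 0 33 .leaf)))) 2
    11 16 (.node (.node (.node (.node (.node .leaf 2 0 5 .leaf) 33 8 53 .leaf) 68 15 144 (.node .leaf 133 3 96
    .leaf)) 25 18 80 (.node (.node .leaf 92 3 51 .leaf) 17 3 6 (.node .leaf 88 0 33 .leaf))) 10 17 48 (.node
    (.node (.node .leaf 67 16 63 .leaf) 4 16 3 (.node .leaf 75 13 53 .leaf)) 47 4 112 (.node (.node .leaf 99 7
    120 .leaf) 32 15 26 (.node .leaf 45 0 3 .leaf))))) 1 6 8 (.node (.node (.node (.node (.node (.node .leaf 6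
    0 5 .leaf) 52 16 52 .leaf) 64 17 136 (.node .leaf 81 7 129 .leaf)) 19 20 72 (.node (.node .leaf 73 7 80
    .leaf) 15 9 14 (.node .leaf 38 0 53 .leaf))) 7 17 40 (.node (.node (.node (.node .leaf 117 0 118 .leaf) 63
    9 63 .leaf) 2 7 1 (.node .leaf 79 17 112 .leaf)) 41 17 104 (.node (.node .leaf 109 11 113 .leaf) 23 3 28
    (.node .leaf 96 0 19 .leaf)))) 3 12 24 (.node (.node (.node (.node (.node .leaf 54 0 1 .leaf) 56 16 53
    .leaf) 0 12 0 (.node .leaf 124 6 137 .leaf)) 33 14 88 (.node (.node .leaf 98 10 85 .leaf) 4 4 19 (.node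
    .leaf 67 0 45 .leaf))) 13 18 56 (.node (.node (.node .leaf 43 7 69 .leaf) 10 9 9 (.node .leaf 38 0 72
    .leaf)) 53 5 120 (.node (.node .leaf 109 3 123 .leaf) 38 9 33 (.node .leaf 98 0 19 .leaf)))))) 0 20 4
    (.node (.node (.node (.node (.node (.node (.node .leaf 95 0 19 .leaf) 48 15 38 .leaf) 62 11 132 (.node
    .leaf 84 7 128 .leaf)) 17 19 68 (.node (.node .leaf 76 15 28 .leaf) 13 9 12 (.node .leaf 109 0 67 .leaf)))
    5 20 36 (.node (.node (.node (.node .leaf 50 0 0 .leaf) 61 12 18 .leaf) 2 20 2 (.node .leaf 137 15 145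
    .leaf)) 38 14 100 (.node (.node .leaf 106 10 103 .leaf) 9 14 26 (.node .leaf 19 0 89 .leaf)))) 3 4 20
    (.node (.node (.node (.node (.node .leaf 6 0 2 .leaf) 55 10 52 .leaf) 0 6 0 (.node .leaf 78 13 135 .leaf))
    33 6 84 (.node (.node .leaf 88 11 94 .leaf) 13 15 17 (.node .leaf 63 0 133 .leaf))) 12 17 52 (.node (.node
    (.node .leaf 48 8 67 .leaf) 6 10 6 (.node .leaf 134 0 109 .leaf)) 49 13 116 (.node (.node .leaf 123 14 122
    .leaf) 7 2 37 (.node .leaf 63 0 3 .leaf))))) 2 1 12 (.node (.node (.node (.node (.node (.node .leaf 20 0 0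
    .leaf) 53 9 53 .leaf) 67 6 140 (.node .leaf 131 7 115 .leaf)) 22 11 76 (.node (.node .leaf 83 9 80 .leaf)
    16 4 5 (.node .leaf 84 0 33 .leaf))) 8 20 44 (.node (.node (.node (.node .leaf 0 18 0 .leaf) 48 7 63
    .leaf) 4 1 4 (.node .leaf 75 4 109 .leaf)) 45 11 108 (.node (.node .leaf 119 14 52 .leaf) 29 16 25 (.node
    .leaf 38 0 19 .leaf)))) 4 12 28 (.node (.node (.node (.node (.node .leaf 43 0 0 .leaf) 38 8 56 .leaf) 1 10
    1 (.node .leaf 140 7 114 .leaf)) 35 11 92 (.node (.node .leaf 100 16 99 .leaf) 20 9 19 (.node .leaf 63 0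
    45 .leaf))) 15 18 60 (.node (.node (.node .leaf 74 9 71 .leaf) 12 10 12 (.node .leaf 38 0 96 .leaf)) 55 1
    124 (.node (.node .leaf 97 14 126 .leaf) 41 10 42 (.node .leaf 69 0 0 .leaf))))))) 0 18 2 (.node (.node
    (.node (.node (.node (.node (.node (.node .leaf 35 0 54 .leaf) 48 10 45 .leaf) 59 19 130 (.node .leaf 128
    16 122 .leaf)) 17 17 66 (.node (.node .leaf 71 10 75 .leaf) 13 4 10 (.node .leaf 71 0 38 .leaf))) 5 18 34
    (.node (.node (.node (.node .leaf 106 0 0 .leaf) 60 10 58 .leaf) 2 10 2 (.node .leaf 144 7 143 .leaf)) 38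
    11 98 (.node (.node .leaf 105 16 104 .leaf) 24 2 20 (.node .leaf 75 0 33 .leaf)))) 2 13 18 (.node (.node
    (.node (.node (.node .leaf 54 0 2 .leaf) 54 4 30 .leaf) 0 2 0 (.node .leaf 99 4 134 .leaf)) 28 18 82
    (.node (.node .leaf 50 2 93 .leaf) 17 16 16 (.node .leaf 139 0 45 .leaf))) 11 11 50 (.node (.node (.node
    .leaf 67 15 56 .leaf) 6 9 5 (.node .leaf 127 0 74 .leaf)) 48 14 114 (.node (.node .leaf 122 8 96 .leaf) 11
    1 36 (.node .leaf 53 0 19 .leaf))))) 1 12 10 (.node (.node (.node (.node (.node (.node .leaf 3 0 0 .leaf)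
    52 4 49 .leaf) 66 11 138 (.node .leaf 64 6 130 .leaf)) 20 19 74 (.node (.node .leaf 81 3 77 .leaf) 8 4 15
    (.node .leaf 128 0 33 .leaf))) 7 20 42 (.node (.node (.node (.node .leaf 117 0 0 .leaf) 33 3 63 .leaf) 3 6
    3 (.node .leaf 75 0 123 .leaf)) 43 12 106 (.node (.node .leaf 116 10 111 .leaf) 29 10 25 (.node .leaf 133
    0 4 .leaf)))) 3 17 26 (.node (.node (.node (.node (.node .leaf 1 0 0 .leaf) 48 3 56 .leaf) 0 15 0 (.node
    .leaf 96 3 139 .leaf)) 34 2 90 (.node (.node .leaf 88 9 99 .leaf) 20 10 19 (.node .leaf 45 0 114 .leaf)))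
    14 18 58 (.node (.node (.node .leaf 73 16 70 .leaf) 6 15 10 (.node .leaf 122 0 38 .leaf)) 53 13 122 (.node
    (.node .leaf 90 8 125 .leaf) 39 9 35 (.node .leaf 6 0 54 .leaf)))))) 1 2 6 (.node (.node (.node (.node
    (.node (.node (.node .leaf 36 0 6 .leaf) 49 10 46 .leaf) 63 13 134 (.node .leaf 76 18 129 .leaf)) 19 17 70
    (.node (.node .leaf 75 1 79 .leaf) 13 10 13 (.node .leaf 87 0 38 .leaf))) 6 17 38 (.node (.node (.node
    (.node .leaf 107 0 0 .leaf) 62 3 34 .leaf) 1 3 2 (.node .leaf 143 0 135 .leaf)) 40 11 102 (.node (.node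
    .leaf 106 13 107 .leaf) 28 16 23 (.node .leaf 33 0 89 .leaf)))) 3 8 22 (.node (.node (.node (.node (.node
    .leaf 2 0 1 .leaf) 34 8 55 .leaf) 0 9 0 (.node .leaf 136 6 125 .leaf)) 33 12 86 (.node (.node .leaf 95 11
    87 .leaf) 19 11 19 (.node .leaf 141 0 48 .leaf))) 13 13 54 (.node (.node (.node .leaf 69 15 58 .leaf) 8 9
    7 (.node .leaf 87 0 71 .leaf)) 51 17 118 (.node (.node .leaf 123 3 114 .leaf) 37 18 29 (.node .leaf 13 0
    12 .leaf))))) 2 5 14 (.node (.node (.node (.node (.node (.node .leaf 73 0 1 .leaf) 45 3 53 .leaf) 68 3 142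
    (.node .leaf 131 6 62 .leaf)) 24 17 78 (.node (.node .leaf 36 4 91 .leaf) 16 10 16 (.node .leaf 56 0 33
    .leaf))) 9 18 46 (.node (.node (.node .leaf 66 15 55 .leaf) 3 19 4 (.node .leaf 122 0 72 .leaf)) 46 1 110
    (.node (.node .leaf 116 0 115 .leaf) 30 14 10 (.node .leaf 19 0 20 .leaf)))) 4 17 30 (.node (.node (.node
    (.node (.node .leaf 91 0 0 .leaf) 37 3 57 .leaf) 1 16 1 (.node .leaf 141 10 134 .leaf)) 35 17 94 (.node
    (.node .leaf 101 10 94 .leaf) 22 15 19 (.node .leaf 95 0 86 .leaf))) 16 17 62 (.node (.node (.node .leaf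
    71 16 72 .leaf) 9 3 12 (.node .leaf 127 0 53 .leaf)) 56 5 126 (.node (.node .leaf 123 16 127 .leaf) 44 5
    11 (.node .leaf 85 0 19 .leaf)))))))) 0 17 1 (.node (.node (.node (.node (.node (.node (.node (.node
    (.node .leaf 54 0 6 .leaf) 46 15 34 .leaf) 57 19 129 (.node .leaf 128 3 109 .leaf)) 16 20 65 (.node (.node
    .leaf 74 19 75 .leaf) 13 2 12 (.node .leaf 133 0 48 .leaf))) 5 17 33 (.node (.node (.node (.node .leaf 11
    0 0 .leaf) 57 9 59 .leaf) 2 16 2 (.node .leaf 112 11 143 .leaf)) 38 6 97 (.node (.node .leaf 102 14 104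
    .leaf) 19 2 23 (.node .leaf 75 0 38 .leaf)))) 2 12 17 (.node (.node (.node (.node (.node .leaf 1 0 12
    .leaf) 38 7 53 .leaf) 68 17 145 (.node .leaf 122 15 133 .leaf)) 28 17 81 (.node (.node .leaf 93 12 92
    .leaf) 17 9 16 (.node .leaf 96 0 33 .leaf))) 10 18 49 (.node (.node (.node .leaf 67 10 63 .leaf) 5 10 5
    (.node .leaf 75 14 72 .leaf)) 47 17 113 (.node (.node .leaf 121 7 88 .leaf) 25 17 32 (.node .leaf 19 0 29
    .leaf))))) 1 11 9 (.node (.node (.node (.node (.node (.node .leaf 0 0 4 .leaf) 52 3 46 .leaf) 65 17 137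
    (.node .leaf 130 9 129 .leaf)) 20 17 73 (.node (.node .leaf 81 16 78 .leaf) 15 16 14 (.node .leaf 38 0 33
    .leaf))) 7 19 41 (.node (.node (.node (.node .leaf 0 0 118 .leaf) 63 15 53 .leaf) 3 2 3 (.node .leaf 113 3
    79 .leaf)) 42 17 105 (.node (.node .leaf 115 10 110 .leaf) 29 4 22 (.node .leaf 45 0 4 .leaf)))) 3 15 25
    (.node (.node (.node (.node (.node .leaf 0 0 2 .leaf) 56 10 53 .leaf) 0 14 0 (.node .leaf 138 15 124
    .leaf)) 33 19 89 (.node (.node .leaf 99 10 87 .leaf) 20 4 4 (.node .leaf 114 0 48 .leaf))) 14 12 57 (.node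
    (.node (.node .leaf 73 10 70 .leaf) 10 16 9 (.node .leaf 53 0 74 .leaf)) 53 6 121 (.node (.node .leaf 125
    16 124 .leaf) 38 16 38 (.node .leaf 70 0 12 .leaf)))))) 1 1 5 (.node (.node (.node (.node (.node (.node
    (.node .leaf 36 0 54 .leaf) 49 16 46 .leaf) 63 5 133 (.node .leaf 114 3 128 .leaf)) 18 18 69 (.node (.node
    .leaf 76 13 76 .leaf) 13 16 12 (.node .leaf 114 0 63 .leaf))) 6 5 37 (.node (.node (.node (.node .leaf 44
    0 0 .leaf) 62 15 52 .leaf) 1 17 2 (.node .leaf 144 0 65 .leaf)) 39 17 101 (.node (.node .leaf 107 10 105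
    .leaf) 28 2 19 (.node .leaf 133 0 45 .leaf)))) 3 7 21 (.node (.node (.node (.node (.node .leaf 1 0 6
    .leaf) 55 16 55 .leaf) 0 8 0 (.node .leaf 132 14 136 .leaf)) 33 11 85 (.node (.node .leaf 95 16 94 .leaf)
    18 15 14 (.node .leaf 63 0 48 .leaf))) 12 18 53 (.node (.node (.node .leaf 68 2 47 .leaf) 7 10 7 (.node
    .leaf 88 0 72 .leaf)) 50 17 117 (.node (.node .leaf 123 6 99 .leaf) 32 9 37 (.node .leaf 12 0 70
    .leaf))))) 2 2 13 (.node (.node (.node (.node (.node (.node .leaf 29 0 0 .leaf) 52 17 53 .leaf) 67 13 141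
    (.node .leaf 90 12 131 .leaf)) 23 18 77 (.node (.node .leaf 70 7 83 .leaf) 16 15 12 (.node .leaf 127 0 33
    .leaf))) 9 17 45 (.node (.node (.node .leaf 64 10 65 .leaf) 4 9 4 (.node .leaf 99 0 75 .leaf)) 45 14 109
    (.node (.node .leaf 111 0 110 .leaf) 30 9 26 (.node .leaf 84 0 19 .leaf)))) 4 15 29 (.node (.node (.node
    (.node (.node .leaf 35 0 0 .leaf) 56 8 33 .leaf) 1 9 1 (.node .leaf 141 4 99 .leaf)) 35 12 93 (.node
    (.node .leaf 100 10 88 .leaf) 21 7 4 (.node .leaf 94 0 85 .leaf))) 16 13 61 (.node (.node (.node .leaf 74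
    10 72 .leaf) 12 19 12 (.node .leaf 38 0 56 .leaf)) 55 2 125 (.node (.node .leaf 127 10 122 .leaf) 43 10 40
    (.node .leaf 85 0 98 .leaf))))))) 0 19 3 (.node (.node (.node (.node (.node (.node (.node (.node .leaf 35
    0 6 .leaf) 48 9 45 .leaf) 62 1 131 (.node .leaf 128 10 123 .leaf)) 17 18 67 (.node (.node .leaf 74 16 75
    .leaf) 13 3 10 (.node .leaf 128 0 38 .leaf))) 5 19 35 (.node (.node (.node (.node .leaf 51 0 0 .leaf) 43 3
    60 .leaf) 2 15 2 (.node .leaf 138 14 145 .leaf)) 38 13 99 (.node (.node .leaf 105 14 103 .leaf) 25 4 21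
    (.node .leaf 74 0 33 .leaf)))) 3 3 19 (.node (.node (.node (.node (.node .leaf 13 0 1 .leaf) 54 17 19
    .leaf) 0 4 0 (.node .leaf 135 8 65 .leaf)) 29 18 83 (.node (.node .leaf 85 14 94 .leaf) 17 10 17 (.node
    .leaf 141 0 63 .leaf))) 11 12 51 (.node (.node (.node .leaf 38 3 67 .leaf) 6 16 5 (.node .leaf 141 0 114
    .leaf)) 49 1 115 (.node (.node .leaf 88 6 122 .leaf) 35 10 36 (.node .leaf 13 0 70 .leaf))))) 1 20 11
    (.node (.node (.node (.node (.node (.node .leaf 19 0 0 .leaf) 52 8 34 .leaf) 67 5 139 (.node .leaf 78 7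
    130 .leaf)) 20 20 75 (.node (.node .leaf 82 10 77 .leaf) 16 3 5 (.node .leaf 84 0 53 .leaf))) 8 17 43
    (.node (.node (.node (.node .leaf 118 0 0 .leaf) 38 4 63 .leaf) 3 9 3 (.node .leaf 75 3 114 .leaf)) 44 17
    107 (.node (.node .leaf 119 3 110 .leaf) 29 7 19 (.node .leaf 4 0 3 .leaf)))) 3 18 27 (.node (.node (.node
    (.node (.node .leaf 6 0 0 .leaf) 45 4 56 .leaf) 0 16 0 (.node .leaf 127 15 139 .leaf)) 35 3 91 (.node
    (.node .leaf 100 14 99 .leaf) 20 5 20 (.node .leaf 48 0 45 .leaf))) 15 11 59 (.node (.node (.node .leaf 73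
    3 31 .leaf) 12 7 5 (.node .leaf 88 0 38 .leaf)) 53 14 123 (.node (.node .leaf 87 7 126 .leaf) 40 16 40
    (.node .leaf 52 0 6 .leaf)))))) 1 5 7 (.node (.node (.node (.node (.node (.node (.node .leaf 5 0 54 .leaf)
    51 12 50 .leaf) 64 8 135 (.node .leaf 129 15 82 .leaf)) 19 19 71 (.node (.node .leaf 80 15 27 .leaf) 7 3
    14 (.node .leaf 38 0 97 .leaf))) 6 19 39 (.node (.node (.node (.node .leaf 0 17 118 .leaf) 49 8 62 .leaf)
    1 4 2 (.node .leaf 135 12 112 .leaf)) 40 12 103 (.node (.node .leaf 108 14 113 .leaf) 28 10 24 (.node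
    .leaf 33 0 19 .leaf)))) 3 11 23 (.node (.node (.node (.node (.node .leaf 6 0 1 .leaf) 56 9 56 .leaf) 0 10
    0 (.node .leaf 137 16 136 .leaf)) 33 13 87 (.node (.node .leaf 84 9 96 .leaf) 19 16 19 (.node .leaf 134 0
    67 .leaf))) 13 17 55 (.node (.node (.node .leaf 63 20 69 .leaf) 9 15 5 (.node .leaf 100 0 53 .leaf)) 52 11
    119 (.node (.node .leaf 123 9 122 .leaf) 38 10 33 (.node .leaf 52 0 54 .leaf))))) 2 6 15 (.node (.node
    (.node (.node (.node (.node .leaf 83 0 2 .leaf) 48 4 53 .leaf) 68 4 143 (.node .leaf 90 6 132 .leaf)) 24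
    20 79 (.node (.node .leaf 51 2 91 .leaf) 17 2 9 (.node .leaf 87 0 33 .leaf))) 9 19 47 (.node (.node (.node
    .leaf 67 9 67 .leaf) 3 10 4 (.node .leaf 128 0 71 .leaf)) 46 13 111 (.node (.node .leaf 115 14 49 .leaf)
    31 10 27 (.node .leaf 56 0 19 .leaf)))) 4 18 31 (.node (.node (.node (.node (.node .leaf 36 0 0 .leaf) 57
    17 22 .leaf) 1 15 1 (.node .leaf 114 6 141 .leaf)) 36 17 95 (.node (.node .leaf 100 11 101 .leaf) 22 8 4
    (.node .leaf 101 0 85 .leaf))) 16 18 63 (.node (.node (.node .leaf 75 5 75 .leaf) 6 12 12 (.node .leaf 53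
    0 33 .leaf)) 56 13 127 (.node (.node .leaf 128 6 87 .leaf) 44 9 42 (.node .leaf 94 0 19 .leaf)))))))))

def c6S : List (ℕ × ℕ × List ℕ) :=
    [(0,0,[]), (0,0,[]), (0,0,[]), (0,0,[]), (0,0,[]), (0,0,[]), (0,0,[]), (0,0,[]), (0,0,[]), (0,0,[]),
    (0,0,[]), (0,0,[]), (0,0,[]), (0,0,[]), (0,0,[]), (0,0,[]), (0,0,[]), (0,0,[]), (0,0,[]), (0,0,[]),
    (0,0,[]), (0,0,[]), (0,0,[]), (0,0,[]), (0,0,[]), (0,0,[]), (0,0,[]), (0,0,[]), (0,0,[]), (0,0,[]),
    (0,0,[]), (0,0,[]), (0,0,[]), (0,0,[]), (0,0,[]), (0,0,[]), (0,0,[]), (0,0,[]), (0,0,[]), (0,0,[]),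
    (0,0,[]), (0,0,[]), (0,0,[]), (0,0,[]), (0,0,[]), (0,0,[]), (0,0,[]), (0,0,[]), (0,0,[]), (0,0,[]),
    (0,0,[]), (0,0,[]), (0,0,[]), (0,0,[]), (0,0,[]), (0,0,[]), (0,0,[]), (0,0,[]), (0,0,[]), (0,0,[]),
    (0,0,[]), (0,0,[]), (0,0,[]), (0,0,[]), (0,0,[]), (0,0,[]), (0,0,[]), (0,0,[]), (0,0,[]), (0,0,[]),
    (0,0,[]), (0,0,[]), (0,0,[]), (0,0,[]), (0,0,[]), (0,0,[]), (0,0,[]), (0,0,[]), (0,0,[]), (0,0,[]),
    (0,0,[]), (0,0,[]), (0,0,[]), (0,0,[]), (0,0,[]), (0,0,[]), (0,0,[]), (0,0,[]), (0,0,[]), (0,0,[]),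
    (0,0,[]), (0,0,[]), (0,0,[]), (0,0,[]), (0,0,[]), (0,0,[]), (0,0,[]), (0,0,[]), (0,0,[]), (0,0,[]),
    (0,0,[]), (0,0,[]), (0,0,[]), (0,0,[]), (0,0,[]), (0,0,[]), (0,0,[]), (0,0,[]), (0,0,[]), (0,0,[]),
    (0,0,[]), (0,0,[]), (0,0,[]), (0,0,[]), (0,0,[]), (0,0,[]), (0,0,[]), (0,0,[]), (0,0,[]), (0,0,[]),
    (0,0,[]), (0,0,[]), (0,0,[]), (0,0,[]), (0,0,[]), (0,0,[]), (0,0,[]), (0,0,[]), (0,0,[]), (0,0,[]),
    (0,0,[]), (0,0,[]), (0,0,[]), (0,0,[]), (0,0,[]), (0,0,[]), (0,0,[]), (0,0,[]), (0,0,[]), (0,0,[]),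
    (0,0,[]), (0,0,[]), (0,0,[]), (0,0,[]), (0,0,[]), (1,0,[]), (1,0,[]), (1,0,[]), (1,0,[]), (1,0,[]),
    (1,0,[]), (1,0,[]), (1,0,[]), (1,0,[]), (1,0,[]), (73,1,[1,298,0]), (74,1,[1,308,0]), (75,1,[1,300,0]),
    (76,1,[1,306,0]), (73,3,[3,300,2]), (74,3,[3,298,2]), (75,3,[3,308,2]), (76,3,[3,306,2]),
    (78,4,[3,303,304,2]), (72,2,[3,0]), (77,0,[3,293,0]), (52,1,[319,321,331]), (59,3,[332,324,323]),
    (79,2,[5,291,4]), (80,2,[5,295,4]), (82,2,[5,298,4]), (79,0,[7,290,6]), (82,0,[7,298,6]), (81,2,[7,4]),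
    (83,0,[7,301,4]), (30,1,[348,345]), (40,3,[9,310,8]), (37,1,[9,312,10]), (38,1,[9,314,10]),
    (40,1,[11,310,10]), (50,3,[13,310,12]), (47,1,[13,312,14]), (39,3,[9,316,16]), (64,1,[17,312,18]),
    (65,1,[17,314,18]), (39,1,[19,317,10]), (33,3,[9,335,22]), (40,3,[23,322,22]), (79,1,[23,326,22]),
    (32,3,[23,331,16]), (34,1,[23,333,10]), (36,3,[23,333,16]), (23,1,[23,24]), (32,1,[19,330,24]),
    (36,1,[19,332,24]), (37,1,[23,318,24]), (38,1,[23,320,24]), (40,1,[25,322,24]), (41,3,[27,331,12]),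
    (47,1,[27,318,28]), (48,1,[27,320,28]), (41,1,[29,333,14]), (32,3,[9,332,30]), (36,3,[9,330,30]),
    (39,3,[23,324,30]), (66,3,[31,322,30]), (34,2,[378,23,32]), (35,2,[380,23,32]), (64,1,[31,318,32]),
    (65,1,[31,320,32]), (66,1,[33,322,32]), (39,1,[33,325,24]), (49,3,[27,324,34]), (36,2,[37,336,36]),
    (56,3,[37,340,36]), (24,0,[37,348]), (24,1,[349,38]), (24,2,[37,38]), (41,2,[39,338,38]),
    (52,2,[428,37,38]), (51,3,[430,37,40]), (25,2,[37,42]), (27,1,[349,42]), (42,2,[43,338,42]),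
    (34,0,[45,336,36]), (34,2,[39,336,46]), (25,0,[41,48]), (78,2,[51,5,0,16]), (34,2,[431,343,54]),
    (65,1,[45,351,54]), (66,1,[47,348,54]), (36,1,[55,430,448]), (25,0,[444,56]), (54,3,[452,440,56]),
    (58,2,[435,432,56]), (71,2,[49,351,56]), (74,1,[51,351,58]), (67,2,[366,454,473]), (75,3,[53,351,60]),
    (49,1,[455,364,62]), (76,0,[478,51,48]), (79,0,[71,9,20]), (83,0,[71,353,68]), (31,0,[73,11,12]),
    (47,3,[73,354,62]), (74,2,[470,480,488]), (73,1,[65,355,74]), (74,1,[65,357,74]), (75,1,[75,358,74]),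
    (82,2,[69,355,76]), (75,1,[79,360,78]), (83,0,[83,361,80]), (73,1,[79,363,84]), (80,0,[21,14,86]),
    (82,0,[83,363,86]), (76,1,[65,365,88]), (76,3,[67,365,90]), (73,1,[89,367,94]), (74,1,[89,369,94]),
    (76,1,[75,370,94]), (74,3,[91,367,96]), (75,3,[91,369,96]), (28,1,[99,100]), (75,1,[103,374,102]),
    (77,2,[91,378,102]), (57,2,[520,529,527]), (25,1,[513,529]), (73,3,[105,374,104]), (72,2,[105,102]),
    (77,0,[105,383,88]), (55,0,[535,539,517]), (26,2,[539,510]), (59,3,[539,510,493]), (53,0,[474,387,106]),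
    (77,1,[431,58,547]), (73,1,[103,391,108]), (75,1,[109,394,108]), (27,1,[550,532]), (73,3,[111,394,110]),
    (74,3,[105,391,110]), (75,3,[105,393,110]), (77,0,[111,388,94]), (52,1,[557,558,539]),
    (60,1,[557,558,545]), (61,0,[542,559,557]), (36,1,[113,397,486]), (77,1,[465,491,570]),
    (43,0,[117,29,30]), (64,3,[117,398,112]), (75,3,[115,401,118]), (77,0,[119,403,84]), (63,0,[35,30,120]),
    (76,1,[103,409,122]), (77,2,[67,407,122]), (25,1,[584,530]), (73,3,[125,410,124]), (76,3,[105,409,124]),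
    (77,0,[125,404,64]), (55,0,[591,595,495]), (54,1,[592,561,563]), (83,0,[129,411,126]),
    (76,1,[109,422,130]), (73,3,[133,420,132]), (74,3,[125,417,132]), (75,3,[125,419,132]),
    (76,3,[111,422,132]), (77,0,[133,414,74]), (60,1,[605,606,599]), (79,2,[93,413,134]),
    (76,3,[115,425,136]), (78,4,[137,583,121,124]), (54,1,[618,579,581]), (73,1,[139,439,144]),
    (75,1,[139,435,144]), (77,2,[61,433,144]), (82,2,[141,439,146]), (83,2,[143,435,146]), (30,1,[633,630]),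
    (80,0,[149,437,148]), (82,0,[143,439,148]), (81,2,[149,146]), (83,0,[149,434,140]), (70,3,[638,635,631]),
    (39,3,[456,443,150]), (63,3,[151,447,150]), (79,0,[157,450,148]), (76,3,[53,48,158]),
    (54,1,[652,477,629]), (75,1,[155,461,160]), (77,2,[153,462,160]), (75,3,[153,459,162]),
    (73,3,[159,467,164]), (62,2,[662,655,626]), (24,0,[181,484]), (34,2,[667,483,100]), (32,3,[668,181,182]),
    (28,1,[183,184]), (35,0,[672,670,524]), (78,2,[187,69,64,168]), (63,2,[677,169,174]),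
    (75,1,[187,484,188]), (78,1,[173,65,70,188]), (47,3,[191,494,166]), (66,3,[169,493,194]),
    (69,3,[173,493,196]), (67,3,[197,494,174]), (29,1,[197,198]), (68,1,[197,496,198]), (69,1,[175,493,198]),
    (73,1,[187,499,200]), (66,2,[698,679,697]), (65,1,[203,500,204]), (78,2,[207,81,78,202]),
    (75,1,[207,502,208]), (68,2,[702,704,707]), (66,1,[205,505,210]), (73,1,[209,509,212]),
    (69,2,[712,708,711]), (78,2,[225,93,88,214]), (63,2,[717,215,216]), (40,3,[219,523,228]),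
    (69,3,[221,523,230]), (32,3,[219,529,236]), (78,2,[103,377,102,236]), (53,0,[725,726,528,220]),
    (12,0,[720,729,723]), (16,0,[230,730]), (42,3,[239,545,196]), (46,1,[175,542,240]), (46,3,[191,544,242]),
    (44,0,[243,240,736]), (29,1,[243,244]), (44,2,[734,239,244]), (53,2,[227,540,244]), (67,1,[243,534,244]),
    (53,2,[245,539,216]), (38,1,[247,552,248]), (33,1,[249,555,178]), (42,3,[251,568,172]),
    (44,1,[251,567,192]), (69,3,[243,561,252]), (68,3,[253,558,244]), (44,2,[756,251,254]),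
    (45,2,[758,251,254]), (53,2,[217,564,254]), (68,1,[243,559,254]), (69,1,[245,561,254]),
    (46,1,[255,568,166]), (53,2,[255,563,226]), (78,3,[257,572,150,649]), (76,3,[163,647,778]),
    (54,1,[780,660,659]), (82,2,[257,576,258]), (80,2,[259,575,126]), (62,2,[784,783,656]),
    (33,3,[229,588,260]), (34,1,[261,586,178]), (46,0,[589,733,791]), (43,0,[263,795,793]),
    (41,3,[191,596,264]), (49,3,[265,592,242]), (53,0,[267,597,196]), (27,1,[601,268]), (42,2,[269,786,789]),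
    (78,2,[271,127,122,262]), (44,2,[755,796,808]), (75,1,[271,600,272]), (48,0,[812,810,752]),
    (39,3,[247,603,274]), (41,3,[277,613,190]), (49,3,[277,610,252]), (46,1,[227,614,278]),
    (53,0,[197,612,280]), (69,3,[267,609,280]), (44,0,[281,278,822]), (24,2,[283,284]), (32,2,[285,616,222]),
    (58,2,[830,283,286]), (78,2,[289,135,130,274]), (49,1,[837,816,814]), (76,0,[272,838,289,286]),
    (10,0,[804,841,834]), (14,0,[832,842]), (78,0,[845,807,155,156]), (77,0,[846,223,224]),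
    (32,1,[751,718,848,651]), (5,0,[747,851]), (6,0,[750,851]), (7,0,[636,850,744]), (11,0,[639,850,748]),
    (12,0,[642,850,773]), (15,0,[244,851]), (16,0,[859,743,851]), (18,0,[644,850,762]), (6,0,[853,857,825]),
    (5,0,[855,857,802]), (11,0,[639,857,691]), (12,0,[642,857,688]), (16,0,[863,857,693]),
    (15,0,[865,857,197]), (18,0,[644,857,695,876]), (2,0,[878,859]), (2,0,[878,873]), (8,0,[191,883,741,884]),
    (9,0,[567,883,738,887]), (2,0,[880,867]), (12,0,[493,883,761,890]), (2,0,[893,877]), (17,0,[518,883,800]),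
    (18,0,[496,883,771,860]), (2,0,[899,861]), (6,0,[613,901,768]), (5,0,[597,901,777]), (2,0,[899,875]),
    (7,0,[193,901,764,906]), (10,0,[545,901,766,909]), (2,0,[893,911]), (2,0,[913,901]), (9,0,[543,915,775]),
    (2,0,[893,917]), (2,0,[893,891]), (2,0,[913,888]), (2,0,[913,907]), (2,0,[913,885]), (2,0,[913,886]),
    (17,0,[510,921,820]), (2,0,[905,869]), (8,0,[265,933,829,904]), (2,0,[897,935]), (2,0,[937,933]),
    (2,0,[903,871]), (12,0,[515,939,826,940]), (2,0,[937,905]), (15,0,[227,939,281,942]), (2,0,[946,944]),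
    (2,0,[949,937]), (14,0,[169,927,678]), (13,0,[171,925,683]), (14,0,[169,895,700]), (2,0,[913,878]),
    (11,0,[494,959,639]), (2,0,[913,961]), (2,0,[893,880]), (22,0,[177,959,143]), (2,0,[949,897]),
    (22,0,[177,965,640,962]), (2,0,[966,971]), (2,0,[973,929]), (6,0,[430,975,818,930]), (2,0,[977,969]),
    (5,0,[36,975,799,978]), (2,0,[973,913]), (2,0,[973,919]), (11,0,[438,975,685,984]), (2,0,[973,923]),
    (2,0,[981,977]), (9,0,[468,989,568,972]), (2,0,[973,893]), (20,0,[139,989,111]), (2,0,[991,951]),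
    (20,0,[139,995,105]), (2,0,[1000,997]), (19,0,[548,995,537]), (14,0,[427,983,194]), (2,0,[1003,996]),
    (19,0,[548,983,75]), (2,0,[1010,1005]), (21,0,[4,999,620]), (12,0,[686,953,699,956]), (2,0,[1007,1017]),
    (2,0,[1019,953]), (18,0,[428,1021,681,954]), (2,0,[1013,1004]), (19,0,[548,1021,187]), (2,0,[1025,1027]),
    (2,0,[1023,955]), (19,0,[548,1031,189]), (2,0,[1025,1033]), (19,0,[548,973,65]), (2,0,[1036,1024]),
    (22,0,[347,981,7]), (2,0,[1040,980]), (5,0,[293,1043,38,987]), (2,0,[1045,986]), (2,0,[1045,992]),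
    (20,0,[1,1047,144]), (19,0,[3,1049,164]), (10,0,[373,1009,664,1052]), (12,0,[374,1009,625,1050]),
    (2,0,[1054,1039,1025]), (2,0,[1056,1003]), (2,0,[1054,1039]), (3,0,[11,1061,384,1057]), (2,0,[1064,1062]),
    (2,0,[1067,1063]), (2,0,[1067,1059]), (20,0,[329,1071,548,1044]), (2,0,[1072,1066]), (2,0,[1075,1069]),
    (9,0,[297,1015,623]), (2,0,[1077,1029]), (6,0,[292,1081,180]), (2,0,[1077,1035]), (13,0,[303,1081,184]),
    (3,0,[291,1085,483]), (13,0,[303,1079,210]), (4,0,[290,1083,669]), (4,0,[290,1087,675]),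
    (7,0,[295,1089,507]), (16,0,[304,1091,714]), (19,0,[235,1092]), (20,0,[1101,1095,232]),
    (20,0,[1101,1097,212,1098]), (2,0,[1104,1103]), (2,0,[1107,1102]), (20,0,[1100,1108])]

def c6T : List (List ℕ × List ℕ) :=
    [([17],[1111])]

theorem c6C : cert [[17,11,14,18,20]] [1,2,3,4,5,6,7,8,9,10,11,12,13,14,15,16] c6W c6F c6S c6T = true := by decide +kernel

def cSW : List (List ℕ) :=
    [[7,8], [16,16], [4,4,10], [4,8,15], [4,15,8], [8,8,10], [9,16,10], [8,8,9,16], [8,9,7,16], [16,15,16,15],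
    [16,10,16,10], [17,17,17], [17,10,18,9], [17,9,18,16], [17,16,18,10], [17,15,18,15], [3,17,3,17]]

def cSF : Tr :=
    (.node (.node (.node (.node (.node (.node .leaf 5 16 4 .leaf) 15 16 16 (.node .leaf 17 15 24 .leaf)) 7 17
    8 (.node (.node .leaf 14 18 20 .leaf) 4 3 24 .leaf)) 2 18 4 (.node (.node (.node .leaf 18 15 14 .leaf) 1 8
    20 .leaf) 11 17 12 (.node (.node .leaf 23 15 21 .leaf) 9 16 8 .leaf))) 0 16 2 (.node (.node (.node (.node
    .leaf 12 15 1 .leaf) 0 4 18 (.node .leaf 16 7 4 .leaf)) 0 10 10 (.node (.node .leaf 9 4 21 .leaf) 8 9 3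
    .leaf)) 4 16 6 (.node (.node (.node .leaf 20 15 19 .leaf) 3 7 22 .leaf) 0 7 14 (.node (.node .leaf 16 17
    23 .leaf) 9 17 4 .leaf)))) 0 17 1 (.node (.node (.node (.node (.node .leaf 10 17 3 .leaf) 4 8 17 (.node
    .leaf 16 0 17 .leaf)) 3 10 9 (.node (.node .leaf 15 17 20 .leaf) 8 10 1 .leaf)) 3 17 5 (.node (.node
    (.node .leaf 19 17 18 .leaf) 3 3 21 .leaf) 3 15 13 (.node (.node .leaf 23 9 20 .leaf) 2 17 9 .leaf))) 1 16
    3 (.node (.node (.node (.node .leaf 13 16 12 .leaf) 1 3 19 .leaf) 0 15 11 (.node (.node .leaf 22 16 20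
    .leaf) 9 9 1 .leaf)) 0 9 7 (.node (.node (.node .leaf 20 8 8 .leaf) 3 8 23 .leaf) 14 17 15 (.node (.node
    .leaf 24 17 21 .leaf) 6 0 5 .leaf)))))

def cSS : List (ℕ × ℕ × List ℕ) :=
    [(0,0,[]), (0,0,[]), (0,0,[]), (0,0,[]), (0,0,[]), (0,0,[]), (0,0,[]), (0,0,[]), (0,0,[]), (0,0,[]),
    (0,0,[]), (0,0,[]), (0,0,[]), (0,0,[]), (0,0,[]), (0,0,[]), (0,0,[]), (0,0,[]), (0,0,[]), (0,0,[]),
    (0,0,[]), (0,0,[]), (0,0,[]), (0,0,[]), (14,1,[1,12,14]), (8,0,[5,49]), (8,0,[4,16]), (12,2,[48,4,16]),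
    (15,0,[52,1,2]), (13,1,[7,56]), (16,2,[9,16,58,10]), (3,0,[10,60]), (16,0,[5,1,18]), (17,1,[1,20,22]),
    (11,2,[66,4,24]), (6,1,[27,34]), (18,1,[35,0,36]), (5,2,[37,38]), (7,1,[48,38]), (17,2,[74,72,70]),
    (13,2,[79,28]), (4,0,[41,16]), (10,3,[76,50,42]), (5,2,[41,44]), (9,2,[85,43,44]), (15,0,[88,81,30]),
    (18,1,[83,58,46]), (5,2,[47,32]), (17,3,[94,92,87,91]), (2,0,[32,97])]

def cST : List (List ℕ × List ℕ) :=
    [([17,16,17,16,17,16],[0,4,8,62,7,3]), ([17,16,10,16,18,9],[0,4,16,54,15,13]),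
    ([17,16,9,16,18,16],[0,4,51,55,57,3]), ([17,16,16,16,18,10],[0,4,5,4,65,19]),
    ([17,16,15,16,18,15],[0,4,24,68,23,21]), ([7,17,16,7,17,16],[26,28,30,98,7,3])]

theorem cSC : cert [] [] cSW cSF cSS cST = true := by decide +kernel

variable {φ : Hm →* G} {n w : G}

theorem ev_lg {v : List ℕ} (h : v.all (Nat.ble · 16) = true) : ev (lg φ n w) v = φ (ev lm v) := by
  rw [lg, ev_append_list (l := lm.map φ) _ fun i hi =>
    Nat.le_of_ble_eq_true (List.all_eq_true.mp h i hi), ev_map]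

theorem sq_s (φ : Hm →* G) : φ es * φ es = 1 := by rw [← map_mul, show es * es = 1 by decide +kernel, map_one]
theorem sq_t (φ : Hm →* G) : φ et * φ et = 1 := by rw [← map_mul, show et * et = 1 by decide +kernel, map_one]
theorem sq_z (φ : Hm →* G) : φ ez * φ ez = 1 := by rw [← map_mul, show ez * ez = 1 by decide +kernel, map_one]
theorem sq_u (φ : Hm →* G) : φ eu * φ eu = 1 := by rw [← map_mul, show eu * eu = 1 by decide +kernel, map_one]

theorem rel_M (N : NR φ n) (W : WR φ w) : Rel (lg φ n w) rM := by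
  have e : ∀ i, gen (lg φ n w) i = (1 :: (lg φ n w)).getD i 1 := fun i => by cases i <;> rfl
  have c : ∀ {x y z : G}, x * y * x⁻¹ = z → z * z = 1 → x * (y * (x⁻¹ * z)) = 1 := fun e e' => by
    rw [← mul_assoc, ← mul_assoc, e, e']
  have h1 : gen (lg φ n w) 1 = φ ea := rfl
  have h2 : gen (lg φ n w) 2 = (φ ea)⁻¹ := by rw [← map_inv, show ea⁻¹ = Hm.of 64 by decide +kernel]; rfl
  have h3 : gen (lg φ n w) 3 = φ ek := rfl
  have h5 : gen (lg φ n w) 5 = φ eb := rfl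
  have h6 : gen (lg φ n w) 6 = (φ eb)⁻¹ := by rw [← map_inv, show eb⁻¹ = Hm.of 192 by decide +kernel]; rfl
  have h9 : gen (lg φ n w) 9 = φ es := rfl
  have h10 : gen (lg φ n w) 10 = φ ez := rfl
  have h15 : gen (lg φ n w) 15 = φ eu := rfl
  have h16 : gen (lg φ n w) 16 = φ et := rfl
  have h17 : gen (lg φ n w) 17 = n := rfl
  have h18 : gen (lg φ n w) 18 = n⁻¹ := rfl
  have h19 : gen (lg φ n w) 19 = w := rfl
  have h20 : gen (lg φ n w) 20 = w⁻¹ := rfl
  simp only [TCList.Rel, rM, List.forall_mem_cons, ev_cons, ev_nil, mul_one, h1, h2, h3, h5, h6, h9, h10, h15, h16, h17,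
    h18, h19, h20, mul_inv_cancel, inv_mul_cancel, true_and]
  refine ⟨by simpa only [mul_assoc] using N.n3, c N.nz (sq_s φ), c N.ns (sq_t φ), c N.nt (sq_z φ), c N.nu (sq_u φ),
    by simpa only [mul_assoc] using N.kn, by rw [← mul_assoc, W.aw]; group, by rw [← mul_assoc, W.bw]; group,
    by simpa only [mul_assoc] using W.w3, ?_, by simpa only [mul_assoc] using W.zw, by simp⟩
  rw [← mul_assoc w, ← W.sw, mul_inv_cancel_right, sq_s]

theorem rel_ok (N : NR φ n) (W : WR φ w) {ex rs : List (List ℕ)} (hx : Rel (lg φ n w) ex)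
    (h : rs.all (ok ex) = true) : Rel (lg φ n w) rs := fun r hr => by
  have h1 := List.all_eq_true.mp h r hr
  rw [ok, Bool.or_eq_true, Bool.and_eq_true, decide_eq_true_eq, List.contains_iff_mem,
    List.mem_append] at h1
  rcases h1 with ⟨h1, h2⟩ | h1 | h1
  · rw [ev_lg h1, h2, map_one]
  · exact rel_M N W r h1
  · exact hx r h1

theorem rel_nil : Rel (lg φ n w) [] := by simp [TCList.Rel]

theorem lg_inv (N : NR φ n) (W : WR φ w) (i : ℕ) : gen (lg φ n w) (inv tG i) = (gen (lg φ n w) i)⁻¹ :=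
  gen_inv (l := lg φ n w) (t := tG) rfl (rel_ok N W rel_nil (by decide +kernel)) i

theorem mem_of_cert (N : NR φ n) (W : WR φ w) {ex : List (List ℕ)} (hx : Rel (lg φ n w) ex) {s : List ℕ}
    {K : Subgroup G} (hK : ∀ i ∈ s, gen (lg φ n w) i ∈ K) {rs : List (List ℕ)} {F : Tr}
    {S : List (ℕ × ℕ × List ℕ)} {T : List (List ℕ × List ℕ)} (h : cert ex s rs F S T = true) :
    ∀ v ∈ T.map Prod.fst, ev (lg φ n w) v ∈ K := by
  rw [cert, Bool.and_eq_true] at h
  intro v hv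
  obtain ⟨t, ht, rfl⟩ := List.mem_map.mp hv
  have h1 := walk_sound rfl (lg_inv N W) (run_sound (F := F) rfl (lg_inv N W) (rel_ok N W hx h.1) hK S 0
    fun j hj => absurd hj (Nat.not_lt_zero j)) _ _ _ (List.all_eq_true.mp h.2 t ht)
  rw [pt] at h1
  simpa [ev] using h1

theorem gen_range {i : ℕ} (hi : i ≤ 16) : gen (lg φ n w) i ∈ φ.range := by
  rw [lg, gen_append (l := lm.map φ) _ hi, gen_map]
  exact ⟨_, rfl⟩

theorem range_H : ∀ i ∈ [1,2,3,4,5,6,7,8,9,10,11,12,13,14,15,16], gen (lg φ n w) i ∈ φ.range := fun i hi =>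
  gen_range (by revert i; decide)

theorem rel_x {v : List ℕ} (h : v.all (Nat.ble · 16) = true) (e : n * φ (ev lm v) * n⁻¹ = w) :
    Rel (lg φ n w) [17 :: (v ++ [18, 20])] := fun r hr => by
  rw [List.mem_singleton.1 hr, ev_cons, ev_append, ev_lg h, ev_cons, ev_cons, ev_nil]
  change n * (_ * (n⁻¹ * (w⁻¹ * 1))) = 1
  rw [← e]; group

/-- The cases in which the group collapses. -/
theorem collapse (N : NR φ n) (W : WR φ w) {x : Hm} (hx : x ∈ [ea, ea * eb, ea * eb⁻¹, ea * G3Model.eq,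
    ea * G3Model.eq⁻¹, ep * G3Model.eq, ep * G3Model.eq⁻¹]) (e : n * φ x * n⁻¹ = w) : n ∈ φ.range := by
  have k : ∀ {v : List ℕ} {rs F S T}, v.all (Nat.ble · 16) = true → x = ev lm v →
      cert [17 :: (v ++ [18, 20])] [1,2,3,4,5,6,7,8,9,10,11,12,13,14,15,16] rs F S T = true →
      [17] ∈ T.map Prod.fst → n ∈ φ.range := fun h1 h2 h3 h4 => by
    have := mem_of_cert N W (rel_x h1 (h2 ▸ e)) range_H h3 _ h4
    rwa [ev_cons, ev_nil, mul_one] at this
  simp only [List.mem_cons, List.not_mem_nil, or_false] at hx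
  rcases hx with h | h | h | h | h | h | h
  · exact k (v := [1]) rfl (h.trans (by decide +kernel)) c0C (by decide +kernel)
  · exact k (v := [1,5]) rfl (h.trans (by decide +kernel)) c1C (by decide +kernel)
  · exact k (v := [1,6]) rfl (h.trans (by decide +kernel)) c2C (by decide +kernel)
  · exact k (v := [1,13]) rfl (h.trans (by decide +kernel)) c3C (by decide +kernel)
  · exact k (v := [1,14]) rfl (h.trans (by decide +kernel)) c4C (by decide +kernel)
  · exact k (v := [11,13]) rfl (h.trans (by decide +kernel)) c5C (by decide +kernel)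
  · exact k (v := [11,14]) rfl (h.trans (by decide +kernel)) c6C (by decide +kernel)

theorem WR.inv (W : WR φ w) : WR φ w⁻¹ := by
  have c : ∀ {x : G}, x * w = w * x → x * w⁻¹ = w⁻¹ * x := fun e => (Commute.inv_right e).eq
  refine ⟨by rw [← mul_inv_rev, ← mul_inv_rev, ← mul_assoc, W.w3, inv_one], c W.aw, c W.bw, c W.sw, ?_⟩
  have := congrArg (fun x => φ ez * x⁻¹ * φ ez) W.zw
  simp only [mul_inv_rev, inv_eq_of_mul_eq_one_right (sq_z φ), inv_one, mul_one, mul_assoc, sq_z] at this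
  simpa only [mul_assoc] using this

theorem NR.swap (N : NR φ n) {σ : Hm →* Hm} (hk : σ ek = el) (hs : σ es = es) (hz : σ ez = ez) (ht : σ et = et)
    (hu : σ eu = eu) : NR (φ.comp σ) (n * φ et) := by
  have W : WR φ 1 := ⟨by simp, by simp, by simp, by simp, by simp [sq_z]⟩
  have h := mem_of_cert (K := ⊥) N W rel_nil (by simp) cSC
  have h7 : gen (lg φ n 1) 7 = φ el := rfl
  have h9 : gen (lg φ n 1) 9 = φ es := rfl
  have h10 : gen (lg φ n 1) 10 = φ ez := rfl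
  have h15 : gen (lg φ n 1) 15 = φ eu := rfl
  have h16 : gen (lg φ n 1) 16 = φ et := rfl
  have h17 : gen (lg φ n 1) 17 = n := rfl
  have h18 : gen (lg φ n 1) 18 = n⁻¹ := rfl
  have c : ∀ {y z : G}, n * (φ et * (y * (φ et * (n⁻¹ * z)))) = 1 → z * z = 1 →
      n * φ et * y * (n * φ et)⁻¹ = z := fun e e' => by
    rw [mul_inv_rev, inv_eq_of_mul_eq_one_right (sq_t φ), ← inv_eq_of_mul_eq_one_right e', eq_inv_iff_mul_eq_one]
    simpa only [mul_assoc] using e
  simp only [cST, List.map_cons, List.map_nil, List.forall_mem_cons, mem_bot, ev_cons, ev_nil, mul_one, h7, h9, h10, h15,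
    h16, h17, h18] at h
  obtain ⟨e1, e2, e3, e4, e5, e6, -⟩ := h
  refine ⟨by simpa only [mul_assoc] using e1, ?_, ?_, ?_, ?_, ?_⟩ <;>
    simp only [MonoidHom.comp_apply, hk, hs, hz, ht, hu]
  exacts [c e2 (sq_s φ), c e3 (sq_t φ), c e4 (sq_z φ), c e5 (sq_u φ), by simpa only [mul_assoc] using e6]

/-- Either `n` lies in `H`, or one may assume that `w` is the conjugate of `p`. -/
theorem reduce (N : NR φ n) (W : WR φ w) (hw : w ≠ 1) (hi : Function.Injective φ) (hx : n⁻¹ * w * n ∈ φ.range) :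
    n ∈ φ.range ∨ ∃ (σ : Hm →* Hm) (n' : G), σ ez = ez ∧ NR (φ.comp σ) n' ∧
      WR (φ.comp σ) (n' * φ.comp σ ep * n'⁻¹) := by
  obtain ⟨x, hx⟩ := hx
  have e : n * φ x * n⁻¹ = w := by rw [hx]; group
  have h1 : x * x * x = 1 := hi (by
    rw [map_mul, map_mul, map_one, hx]
    calc _ = n⁻¹ * (w * w * w) * n := by group
      _ = 1 := by rw [W.w3]; group)
  have h2 : et * x * et * x = 1 := hi (by
    have : φ et = n⁻¹ * φ ez * n := by rw [← N.nt]; group
    rw [map_mul, map_mul, map_mul, map_one, hx, this]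
    calc _ = n⁻¹ * (φ ez * w * (φ ez * w)) * n := by group
      _ = 1 := by rw [W.zw]; group)
  obtain ⟨y, hy, h3⟩ := inv_t x h1 (by rintro rfl; exact hw (by rw [← e]; simp)) h2
  obtain ⟨w', W', e'⟩ : ∃ w', WR φ w' ∧ n * φ y * n⁻¹ = w' := by
    rcases h3 with rfl | rfl
    · exact ⟨w, W, e⟩
    · exact ⟨w⁻¹, W.inv, by rw [← e, map_inv]; group⟩
  clear e h1 h2 h3 hx hw W
  obtain ⟨σ, s1, s2, s3, s4, s5, s6, s7, s8, s9⟩ := exists_σ₂
  have N2 := N.swap s2 s4 s5 s6 s7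
  have W2 : WR (φ.comp σ) w' := by
    refine ⟨W'.w3, ?_, ?_, ?_, ?_⟩ <;> simp only [MonoidHom.comp_apply, s1, s3, s4, s5]
    exacts [W'.bw, W'.aw, W'.sw, W'.zw]
  have e2 : ∀ y', σ y' = et * y * et → n * φ et * φ.comp σ y' * (n * φ et)⁻¹ = w' := fun y' h => by
    rw [MonoidHom.comp_apply, h, map_mul, map_mul, ← e', mul_inv_rev, inv_eq_of_mul_eq_one_right (sq_t φ)]
    simp only [mul_assoc, ← mul_assoc (φ et) (φ et), sq_t, one_mul]
  have e3 : ∀ y', σ y' = (et * y * et)⁻¹ → n * φ et * φ.comp σ y' * (n * φ et)⁻¹ = w'⁻¹ := fun y' h => by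
    rw [← e2 y'⁻¹ (by rw [map_inv, h, inv_inv]), map_inv]; group
  have c2 : n * φ et ∈ (φ.comp σ).range → n ∈ φ.range := fun ⟨c, h⟩ =>
    ⟨σ c * et⁻¹, by rw [map_mul, map_inv, ← MonoidHom.comp_apply, h, mul_inv_cancel_right]⟩
  simp only [List.mem_cons, List.not_mem_nil, or_false] at hy
  rcases hy with h | h | h | h | h | h | h | h | h | h | h | h
  · exact .inl (collapse N W' (by simp [h]) e')
  · exact .inl (c2 (collapse N2 W2.inv (x := ea) (by simp) (e3 _ (by rw [s1, h]; decide +kernel))))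
  · exact .inr ⟨MonoidHom.id _, n, rfl, N, by rw [MonoidHom.comp_id, ← h, e']; exact W'⟩
  · exact .inr ⟨σ, _, s5, N2, by rw [e3 _ (by rw [s8, h]; decide +kernel)]; exact W2.inv⟩
  · exact .inl (collapse N W' (by simp [h]) e')
  · exact .inl (collapse N W' (by simp [h]) e')
  · exact .inl (collapse N W' (by simp [h]) e')
  · exact .inl (collapse N W' (by simp [h]) e')
  · exact .inl (c2 (collapse N2 W2.inv (x := ea * G3Model.eq) (by simp)
      (e3 _ (by rw [map_mul, s1, s9, h]; decide +kernel))))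
  · exact .inl (c2 (collapse N2 W2 (x := ea * G3Model.eq⁻¹) (by simp)
      (e2 _ (by rw [map_mul, map_inv, s1, s9, h]; decide +kernel))))
  · exact .inl (collapse N W' (by simp [h]) e')
  · exact .inl (collapse N W' (by simp [h]) e')

/-- The letters of the big enumeration. -/
def mp (i : ℕ) : ℕ := [17,18,1,2,5,6,9,15,3,4,7,8,10,11,12,13,14,16,19,20].getD i 0

theorem card_le_G (N : NR φ n) (W : WR φ (n * φ ep * n⁻¹)) :
    Finite (φ.range ⊔ zpowers n : Subgroup G) ∧ Nat.card (φ.range ⊔ zpowers n : Subgroup G) ≤ 4245696 := by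
  set w := n * φ ep * n⁻¹ with hw
  have h1 : Finite φ.range := Finite.of_surjective _ φ.rangeRestrict_surjective
  have h4 : Nat.card φ.range ≤ 576 :=
    card_Hm ▸ Nat.card_le_card_of_surjective _ φ.rangeRestrict_surjective
  have h5 := rel_ok N W (rel_x (v := [11]) rfl (by rw [hw, show ev lm [11] = ep by decide +kernel]))
    (rs := TCG3.base.map (·.map mp)) (by decide +kernel)
  obtain ⟨h2, h3⟩ := TCG3.bound (fun i => gen (lg φ n w) (mp i)) φ.range (fun r hr => by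
      have := h5 _ (List.mem_map_of_mem hr)
      rwa [ev, List.map_map] at this)
    (fun i hi => by
      rw [← lg_inv N W]
      exact congrArg _ ((show ∀ i < 20, mp (List.getD [1, 0, 3, 2, 5, 4, 6, 7, 9, 8, 11, 10, 12, 14, 13, 16, 15, 17, 19,
        18] i i) = inv tG (mp i) by decide) i hi))
    (fun i hi => gen_range ((show ∀ i ∈ [2, 3, 4, 5, 6, 7, 8, 9, 10, 11, 12, 13, 14, 15, 16, 17], mp i ≤ 16 by decide)
      i hi))
  generalize hL : closure ((fun i => gen (lg φ n w) (mp i)) '' {i | i < 8}) = L at h2 h3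
  have h6 : ∀ i < 8, gen (lg φ n w) (mp i) ∈ L := fun i hi => hL ▸ subset_closure ⟨i, hi, rfl⟩
  have h6' : ∀ v : List ℕ, v.all (Nat.ble · 16) = true → (∀ i ∈ v, ∃ j < 8, mp j = i) → φ (ev lm v) ∈ L :=
    fun v hv hv' => by
      rw [← ev_lg (n := n) (w := w) hv]
      exact ev_mem fun i hi => (hv' i hi).elim fun j hj => hj.2 ▸ h6 j hj.1
  have h7 : φ.range ≤ L := range_le (h6 2 (by decide))
    ((show ev lm [1,15,1,15,1] = ek by decide +kernel) ▸ h6' _ rfl (by decide)) (h6 4 (by decide))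
    ((show ev lm [5,15,5,15,5] = el by decide +kernel) ▸ h6' _ rfl (by decide)) (h6 6 (by decide))
  have h8 : φ.range ⊔ zpowers n ≤ L := sup_le h7 (zpowers_le.mpr (h6 0 (by decide)))
  have h9 := (φ.range.subgroupOf L).card_mul_index
  rw [Nat.card_congr (subgroupOfEquivOfLe h7).toEquiv] at h9
  have h10 : Nat.card φ.range ≠ 0 := Nat.card_pos.ne'
  have : Finite L := Nat.finite_of_card_ne_zero (h9 ▸ Nat.mul_ne_zero h10 h2)
  refine ⟨Finite.of_injective _ (inclusion_injective h8), (card_le_of_le h8).trans ?_⟩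
  rw [← h9]
  exact Nat.mul_le_mul h4 h3

/-- A homomorphism from a large enough group with the same relations. -/
theorem exists_hom_G {B : Type*} [Group B] [Finite B] {ψ : Hm →* B} {m : B} (N' : NR ψ m)
    (W' : WR ψ (m * ψ ep * m⁻¹)) (hB : ψ.range ⊔ zpowers m = ⊤) (hc : 4245696 ≤ Nat.card B) (N : NR φ n)
    (W : WR φ (n * φ ep * n⁻¹)) :
    Nat.card B = 4245696 ∧ ∃ f : B →* G, (∀ x, f (ψ x) = φ x) ∧ f m = n := by
  have N2 : NR (ψ.prod φ) (m, n) := ⟨Prod.ext N'.n3 N.n3, Prod.ext N'.nz N.nz, Prod.ext N'.ns N.ns, Prod.ext N'.nt N.nt,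
    Prod.ext N'.nu N.nu, Prod.ext N'.kn N.kn⟩
  have W2 : WR (ψ.prod φ) ((m, n) * ψ.prod φ ep * (m, n)⁻¹) := ⟨Prod.ext W'.w3 W.w3, Prod.ext W'.aw W.aw,
    Prod.ext W'.bw W.bw, Prod.ext W'.sw W.sw, Prod.ext W'.zw W.zw⟩
  obtain ⟨h1, h2⟩ := card_le_G N2 W2
  set P := (ψ.prod φ).range ⊔ zpowers (m, n)
  let p : P →* B := (MonoidHom.fst B G).comp P.subtype
  have hp : Function.Surjective p := by
    rw [← MonoidHom.range_eq_top, eq_top_iff, ← hB]
    refine sup_le ?_ (zpowers_le.2 ⟨⟨(m, n), mem_sup_right (mem_zpowers _)⟩, rfl⟩)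
    rintro _ ⟨x, rfl⟩
    exact ⟨⟨_, mem_sup_left ⟨x, rfl⟩⟩, rfl⟩
  have h3 := Nat.card_le_card_of_surjective p hp
  have hb : Function.Bijective p := hp.bijective_of_nat_card_le (h2.trans hc)
  let e := MulEquiv.ofBijective p hb
  have he : ∀ x : P, ((MonoidHom.snd B G).comp P.subtype).comp e.symm.toMonoidHom x.1.1 = x.1.2 := fun x =>
    congrArg (fun y : P => y.1.2) (e.symm_apply_apply x)
  exact ⟨by omega, _, fun x => he ⟨_, mem_sup_left ⟨x, rfl⟩⟩, he ⟨(m, n), mem_sup_right (mem_zpowers _)⟩⟩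

end Cfsg.Agent.Lib.G3Pres
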