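import Cfsg.Agent.Lib.D8Amalg

/-! Coset enumerations for the amalgam of `GL₂(3)` and `S₄` over `D₈`. -/

set_option autoImplicit false
set_option maxRecDepth 100000

namespace Cfsg.Agent.Lib.GL23TC

open Subgroup SmallTC D8Amalg

/-- The relators of `GL₂(3)`. -/
def rl3 : List (List ℕ) := [[], [1,1], [2,2], [3,3], [1,2,1,2,1,2], [2,3,2,3,2,3,2,3], [1,3,1,3,1,3], [1,2,3,2,3,1,3,2,3,2]]

/-- The relators of the amalgam, followed by further relators. -/
def rl (extra : List (List ℕ)) : List (List ℕ) :=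
  rl3 ++ [[4,4], [2,4,2,4], [3,4,3,4,3,4], [4,2,3,2,3,4,2,2,3,2,3]] ++ extra

/-- The commutator of `x = ab` with a word. -/
def cm (w : List ℕ) : List ℕ := [1,2] ++ w ++ [1,2].reverse ++ w.reverse

/-- The word `x y`. -/
def wxy : List ℕ := [1,2,4,1,2,4]

/-- The conjugating word. -/
def wg : List ℕ := [3, 4, 1, 2, 1, 3, 1, 4, 3]

/-- The relators `[x, y]` and `(x y)⁻¹ g w g⁻¹`. -/
def ex (w : List ℕ) : List (List ℕ) := [cm [4,1,2,4], wxy.reverse ++ (wg ++ w ++ wg.reverse)]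

def tHF : Tr :=
    (.node (.node (.node (.node (.node (.node (.node .leaf 43 2 34 .leaf) 17 3 32 .leaf) 7 2 16
    (.node .leaf 10 2 6 .leaf)) 3 1 8 (.node (.node (.node .leaf 47 1 44 .leaf) 23 1 40 .leaf) 13 1
    24 (.node .leaf 38 2 32 .leaf))) 1 2 4 (.node (.node (.node (.node .leaf 45 2 33 .leaf) 20 2 36
    .leaf) 10 3 20 (.node .leaf 31 2 18 .leaf)) 5 1 12 (.node (.node .leaf 26 2 44 .leaf) 15 2 28
    (.node .leaf 39 1 30 .leaf)))) 0 2 2 (.node (.node (.node (.node (.node .leaf 42 1 27 .leaf) 19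
    1 34 .leaf) 9 1 18 (.node .leaf 26 3 15 .leaf)) 4 1 10 (.node (.node .leaf 24 3 42 .leaf) 14 1
    26 (.node .leaf 29 3 38 .leaf))) 2 1 6 (.node (.node (.node (.node .leaf 46 3 40 .leaf) 22 1 38
    .leaf) 11 2 22 (.node .leaf 36 3 34 .leaf)) 6 3 14 (.node (.node .leaf 35 2 46 .leaf) 16 3 30
    (.node .leaf 41 2 29 .leaf))))) 0 1 1 (.node (.node (.node (.node (.node (.node .leaf 43 3 27
    .leaf) 18 3 33 .leaf) 8 2 17 (.node .leaf 12 3 8 .leaf)) 3 2 9 (.node (.node .leaf 23 3 41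
    .leaf) 13 3 25 (.node .leaf 37 1 32 .leaf))) 1 3 5 (.node (.node (.node (.node .leaf 46 1 45
    .leaf) 21 2 37 .leaf) 11 1 21 (.node .leaf 35 3 21 .leaf)) 5 2 13 (.node (.node .leaf 28 3 45
    .leaf) 16 1 29 (.node .leaf 40 2 24 .leaf)))) 0 3 3 (.node (.node (.node (.node (.node .leaf 44
    3 31 .leaf) 20 1 35 .leaf) 9 3 19 (.node .leaf 30 2 19 .leaf)) 4 3 11 (.node (.node .leaf 25 1
    43 .leaf) 14 2 27 (.node .leaf 39 2 25 .leaf))) 2 3 7 (.node (.node (.node (.node .leaf 47 2 42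
    .leaf) 22 3 39 .leaf) 12 2 23 (.node .leaf 33 1 36 .leaf)) 7 1 15 (.node (.node .leaf 37 3 47
    .leaf) 17 1 31 (.node .leaf 28 1 41 .leaf))))))

def tHS : List (ℕ × ℕ × List ℕ) :=
    [(0,0,[]), (0,0,[]), (0,0,[]), (0,0,[]), (0,0,[]), (0,0,[]), (0,0,[]), (0,0,[]), (0,0,[]),
    (0,0,[]), (0,0,[]), (0,0,[]), (0,0,[]), (0,0,[]), (0,0,[]), (0,0,[]), (0,0,[]), (0,0,[]),
    (0,0,[]), (0,0,[]), (0,0,[]), (0,0,[]), (0,0,[]), (0,0,[]), (0,0,[]), (0,0,[]), (0,0,[]),
    (0,0,[]), (0,0,[]), (0,0,[]), (0,0,[]), (0,0,[]), (0,0,[]), (0,0,[]), (0,0,[]), (0,0,[]),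
    (0,0,[]), (0,0,[]), (0,0,[]), (0,0,[]), (0,0,[]), (0,0,[]), (0,0,[]), (0,0,[]), (0,0,[]),
    (0,0,[]), (0,0,[]), (6,1,[11,3,0,6,18]), (8,1,[15,5,0,8,22]), (8,1,[29,13,10,26,50]),
    (7,2,[37,17,5,2,12,30,58]), (6,1,[35,17,14,32,60]), (8,1,[41,21,18,38,68]),
    (9,4,[67,37,17,5,2,10,95,38,70]), (8,0,[106,67,37,34,64]), (9,1,[63,33,97,23,9,6,20,42,74]),
    (6,4,[111,75,43,40,72]), (9,6,[110,63,33,15,16,36,101,59,56]), (7,2,[49,25,9,6,20,42,76]),
    (8,2,[59,56,114,75,76]), (6,1,[47,25,22,44,78]), (7,2,[114,110,63,33,97,44,80]),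
    (6,0,[122,57,31,28,54]), (6,1,[67,101,119,116,84]), (9,6,[53,27,95,19,7,8,24,48,84]),
    (8,4,[129,85,49,46,82]), (9,2,[102,64,108,106,127,128,53,50,86]),
    (7,2,[65,103,133,87,98,54,88]), (6,2,[134,108,71,68,90]),
    (9,2,[120,82,130,129,126,107,71,68,90]), (7,2,[83,121,139,91,104,72,92]),
    (8,2,[132,61,62,113,92])]

def tHR : List (ℕ × List ℕ) :=
    [(0,[0,2,4]), (1,[1,6,8]), (2,[10,3,12]), (3,[14,16,5]), (4,[18,7,20]), (5,[22,24,9]),
    (6,[11,95,26]), (7,[28,30,13]), (8,[15,32,97]), (9,[34,17,36]), (10,[19,94,38]),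
    (11,[40,42,21]), (12,[23,44,96]), (13,[46,25,48]), (14,[50,52,27]), (15,[29,54,99]),
    (16,[56,31,58]), (17,[60,33,62]), (18,[35,103,64]), (19,[66,101,37]), (20,[68,70,39]),
    (21,[41,72,105]), (22,[74,43,76]), (23,[78,45,80]), (24,[47,121,82]), (25,[84,117,49]),
    (26,[51,86,98]), (27,[131,53,129]), (28,[124,55,88]), (29,[57,123,114]), (30,[119,100,59]),
    (31,[61,102,133]), (32,[113,111,63]), (33,[108,135,65]), (34,[67,127,107]), (35,[69,90,104]),
    (36,[109,71,106]), (37,[112,73,92]), (38,[75,110,115]), (39,[118,116,77]), (40,[79,120,139]),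
    (41,[125,122,81]), (42,[130,141,83]), (43,[85,126,128]), (44,[143,87,132]), (45,[137,134,89]),
    (46,[136,91,138]), (47,[142,140,93])]

theorem tHC : check id rl3 [] [1,2,3] tHF tHS tHR = true := by decide +kernel

def tLF : Tr :=
    (.node (.node (.node (.node (.node (.node (.node (.node (.node (.node .leaf 103 1 135 .leaf)
    167 1 256 (.node .leaf 36 0 196 .leaf)) 70 4 128 (.node (.node .leaf 363 2 331 .leaf) 312 4 384
    (.node .leaf 93 0 30 .leaf))) 35 4 64 (.node (.node (.node .leaf 267 3 232 .leaf) 220 3 320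
    (.node .leaf 48 0 344 .leaf)) 115 3 192 (.node (.node .leaf 62 4 62 .leaf) 72 1 42 (.node .leaf
    75 4 97 .leaf)))) 19 1 32 (.node (.node (.node (.node .leaf 218 3 218 .leaf) 198 3 288 (.node
    .leaf 181 0 129 .leaf)) 92 4 160 (.node (.node .leaf 377 0 217 .leaf) 18 3 13 (.node .leaf 66 2
    44 .leaf))) 53 3 96 (.node (.node (.node .leaf 326 3 236 .leaf) 265 4 352 (.node .leaf 191 0
    271 .leaf)) 140 4 224 (.node (.node .leaf 143 0 226 .leaf) 126 4 122 .leaf)))) 8 4 16 (.node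
    (.node (.node (.node (.node .leaf 190 3 145 .leaf) 183 4 272 (.node .leaf 87 0 326 .leaf)) 81 4
    144 (.node (.node .leaf 383 3 319 .leaf) 0 1 0 (.node .leaf 136 0 87 .leaf))) 44 4 80 (.node
    (.node (.node .leaf 300 3 296 .leaf) 239 4 336 (.node .leaf 195 0 80 .leaf)) 127 1 208 (.node
    (.node .leaf 63 0 384 .leaf) 94 2 53 .leaf))) 28 2 48 (.node (.node (.node (.node .leaf 243 3
    173 .leaf) 210 3 304 (.node .leaf 79 0 338 .leaf)) 104 1 176 (.node (.node .leaf 246 0 339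
    .leaf) 41 2 41 (.node .leaf 43 1 50 .leaf))) 62 2 112 (.node (.node (.node .leaf 344 3 298
    .leaf) 294 2 368 (.node .leaf 39 0 369 .leaf)) 156 3 240 (.node (.node .leaf 143 4 143 .leaf)
    150 2 99 .leaf))))) 4 3 8 (.node (.node (.node (.node (.node (.node .leaf 86 4 86 .leaf) 175 3
    264 (.node .leaf 133 1 192 .leaf)) 76 2 136 (.node (.node .leaf 372 1 356 .leaf) 337 1 392
    (.node .leaf 91 0 44 .leaf))) 40 2 72 (.node (.node (.node .leaf 279 1 193 .leaf) 229 4 328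
    (.node .leaf 109 2 129 .leaf)) 120 4 200 (.node (.node .leaf 114 0 391 .leaf) 83 4 65 .leaf)))
    23 1 40 (.node (.node (.node (.node .leaf 230 3 197 .leaf) 203 4 296 (.node .leaf 117 0 199
    .leaf)) 96 1 168 (.node (.node .leaf 347 2 374 .leaf) 29 4 17 (.node .leaf 99 0 73 .leaf))) 57
    4 104 (.node (.node (.node .leaf 336 2 241 .leaf) 277 4 360 (.node .leaf 139 0 117 .leaf)) 148
    4 232 (.node (.node .leaf 64 0 383 .leaf) 139 2 80 .leaf)))) 14 1 24 (.node (.node (.node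
    (.node (.node .leaf 208 3 129 .leaf) 191 3 280 (.node .leaf 242 0 139 .leaf)) 86 2 152 (.node
    (.node .leaf 392 3 362 .leaf) 9 2 6 (.node .leaf 193 0 362 .leaf))) 49 1 88 (.node (.node
    (.node .leaf 317 2 219 .leaf) 254 2 344 (.node .leaf 87 0 399 .leaf)) 134 2 216 (.node (.node
    .leaf 194 0 229 .leaf) 107 1 107 .leaf))) 32 2 56 (.node (.node (.node (.node .leaf 255 3 204
    .leaf) 214 3 312 (.node .leaf 172 1 111 .leaf)) 110 3 184 (.node (.node .leaf 92 0 276 .leaf)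
    55 2 55 (.node .leaf 73 4 54 .leaf))) 67 3 120 (.node (.node (.node .leaf 356 2 285 .leaf) 305
    4 376 (.node .leaf 133 2 192 .leaf)) 161 3 248 (.node (.node .leaf 117 0 319 .leaf) 164 2 125
    .leaf)))))) 2 2 4 (.node (.node (.node (.node (.node (.node (.node .leaf 181 1 120 .leaf) 171 4
    260 (.node .leaf 194 3 231 .leaf)) 74 2 132 (.node (.node .leaf 369 2 296 .leaf) 315 3 388
    (.node .leaf 33 0 59 .leaf))) 37 4 68 (.node (.node (.node .leaf 270 1 239 .leaf) 226 1 324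
    (.node .leaf 172 0 274 .leaf)) 118 1 196 (.node (.node .leaf 112 4 112 .leaf) 77 3 72 .leaf)))
    20 4 36 (.node (.node (.node (.node .leaf 228 1 228 .leaf) 200 3 292 (.node .leaf 154 0 236
    .leaf)) 94 3 164 (.node (.node .leaf 378 3 315 .leaf) 25 2 25 (.node .leaf 150 0 75 .leaf))) 55
    1 100 (.node (.node (.node .leaf 330 4 237 .leaf) 272 3 356 (.node .leaf 37 0 69 .leaf)) 145 2
    228 (.node (.node .leaf 239 4 156 .leaf) 135 2 131 .leaf)))) 11 1 20 (.node (.node (.node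
    (.node (.node .leaf 196 3 119 .leaf) 187 3 276 (.node .leaf 114 0 305 .leaf)) 84 2 148 (.node
    (.node .leaf 386 4 386 .leaf) 3 4 3 (.node .leaf 130 0 61 .leaf))) 46 3 84 (.node (.node (.node
    .leaf 311 4 261 .leaf) 248 1 340 (.node .leaf 147 4 129 .leaf)) 129 4 212 (.node (.node .leaf
    190 0 324 .leaf) 99 1 61 .leaf))) 30 2 52 (.node (.node (.node (.node .leaf 250 1 165 .leaf)
    212 3 308 (.node .leaf 117 0 140 .leaf)) 108 1 180 (.node (.node .leaf 160 0 247 .leaf) 47 2 47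
    (.node .leaf 75 0 173 .leaf))) 64 1 116 (.node (.node (.node .leaf 352 2 266 .leaf) 301 4 372
    (.node .leaf 144 0 351 .leaf)) 159 2 244 (.node (.node .leaf 270 4 231 .leaf) 157 4 91
    .leaf))))) 6 3 12 (.node (.node (.node (.node (.node (.node .leaf 186 2 114 .leaf) 179 1 268
    (.node .leaf 86 0 373 .leaf)) 80 1 140 (.node (.node .leaf 380 1 311 .leaf) 341 4 396 (.node
    .leaf 116 3 225 .leaf))) 43 1 76 (.node (.node (.node .leaf 292 4 202 .leaf) 236 2 332 (.node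
    .leaf 79 0 393 .leaf)) 124 2 204 (.node (.node .leaf 235 0 359 .leaf) 90 2 58 .leaf))) 25 1 44
    (.node (.node (.node (.node .leaf 235 2 190 .leaf) 207 4 300 (.node .leaf 92 0 163 .leaf)) 100
    4 172 (.node (.node .leaf 201 0 249 .leaf) 33 2 33 (.node .leaf 193 3 392 .leaf))) 59 4 108
    (.node (.node (.node .leaf 341 3 252 .leaf) 290 4 364 (.node .leaf 141 0 89 .leaf)) 154 1 236
    (.node (.node .leaf 183 4 269 .leaf) 144 1 87 .leaf)))) 16 1 28 (.node (.node (.node (.node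
    (.node .leaf 215 2 141 .leaf) 193 4 284 (.node .leaf 357 0 385 .leaf)) 89 1 156 (.node (.node
    .leaf 396 2 376 .leaf) 13 1 13 (.node .leaf 30 4 51 .leaf))) 51 2 92 (.node (.node (.node .leaf
    323 2 268 .leaf) 260 1 348 (.node .leaf 133 0 184 .leaf)) 139 1 220 (.node (.node .leaf 353 0
    183 .leaf) 115 2 64 .leaf))) 34 3 60 (.node (.node (.node (.node .leaf 259 2 177 .leaf) 217 3
    316 (.node .leaf 88 0 209 .leaf)) 113 1 188 (.node (.node .leaf 112 0 187 .leaf) 62 3 37 (.node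
    .leaf 56 4 43 .leaf))) 69 1 124 (.node (.node (.node .leaf 360 2 278 .leaf) 309 2 380 (.node
    .leaf 169 0 174 .leaf)) 164 1 252 (.node (.node .leaf 147 0 302 .leaf) 171 1 171 .leaf))))))) 1
    1 2 (.node (.node (.node (.node (.node (.node (.node (.node .leaf 178 2 118 .leaf) 168 2 258
    (.node .leaf 190 0 376 .leaf)) 73 1 130 (.node (.node .leaf 366 1 336 .leaf) 314 3 386 (.node
    .leaf 68 0 38 .leaf))) 36 3 66 (.node (.node (.node .leaf 269 2 231 .leaf) 223 2 322 (.node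
    .leaf 143 0 389 .leaf)) 116 4 194 (.node (.node .leaf 147 0 330 .leaf) 75 2 73 .leaf))) 20 2 34
    (.node (.node (.node (.node .leaf 224 2 180 .leaf) 199 1 290 (.node .leaf 110 0 381 .leaf)) 93
    3 162 (.node (.node .leaf 307 3 217 .leaf) 21 2 21 (.node .leaf 50 3 44 .leaf))) 54 3 98 (.node
    (.node (.node .leaf 327 1 235 .leaf) 271 1 354 (.node .leaf 51 0 53 .leaf)) 143 4 226 (.node
    (.node .leaf 363 0 284 .leaf) 130 3 74 .leaf)))) 10 2 18 (.node (.node (.node (.node (.node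
    .leaf 192 2 184 .leaf) 185 2 274 (.node .leaf 61 0 287 .leaf)) 83 3 146 (.node (.node .leaf 385
    4 380 .leaf) 0 3 0 (.node .leaf 105 0 137 .leaf))) 45 3 82 (.node (.node (.node .leaf 306 2 212
    .leaf) 242 4 338 (.node .leaf 271 1 322 .leaf)) 128 1 210 (.node (.node .leaf 148 0 149 .leaf)
    96 2 71 .leaf))) 28 4 50 (.node (.node (.node (.node .leaf 246 4 163 .leaf) 211 4 306 (.node
    .leaf 66 0 224 .leaf)) 105 3 178 (.node (.node .leaf 68 0 123 .leaf) 45 2 27 (.node .leaf 75 1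
    85 .leaf))) 63 1 114 (.node (.node (.node .leaf 350 1 265 .leaf) 299 2 370 (.node .leaf 88 2 71
    .leaf)) 157 1 242 (.node (.node .leaf 194 0 331 .leaf) 152 1 152 .leaf))))) 5 1 10 (.node
    (.node (.node (.node (.node (.node .leaf 182 2 147 .leaf) 176 4 266 (.node .leaf 111 0 261
    .leaf)) 79 3 138 (.node (.node .leaf 375 3 346 .leaf) 339 2 394 (.node .leaf 156 0 225 .leaf)))
    41 1 74 (.node (.node (.node .leaf 284 2 194 .leaf) 232 1 330 (.node .leaf 92 0 94 .leaf)) 121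
    3 202 (.node (.node .leaf 84 0 232 .leaf) 87 2 50 .leaf))) 24 2 42 (.node (.node (.node (.node
    .leaf 232 2 149 .leaf) 206 2 298 (.node .leaf 109 0 211 .leaf)) 98 4 170 (.node (.node .leaf
    293 0 340 .leaf) 31 2 19 (.node .leaf 54 0 98 .leaf))) 58 3 106 (.node (.node (.node .leaf 337
    3 279 .leaf) 283 1 362 (.node .leaf 157 0 80 .leaf)) 149 3 234 (.node (.node .leaf 231 3 331
    .leaf) 142 4 105 .leaf)))) 15 2 26 (.node (.node (.node (.node (.node .leaf 210 4 204 .leaf)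
    192 1 282 (.node .leaf 119 0 224 .leaf)) 87 3 154 (.node (.node .leaf 394 1 368 .leaf) 10 3 7
    (.node .leaf 270 0 335 .leaf))) 50 1 90 (.node (.node (.node .leaf 319 1 222 .leaf) 255 4 346
    (.node .leaf 81 0 317 .leaf)) 136 1 218 (.node (.node .leaf 231 0 233 .leaf) 112 3 92 .leaf)))
    32 4 58 (.node (.node (.node (.node .leaf 256 4 250 .leaf) 216 4 314 (.node .leaf 47 0 378
    .leaf)) 112 1 186 (.node (.node .leaf 62 0 113 .leaf) 60 2 49 (.node .leaf 279 3 193 .leaf)))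
    68 1 122 (.node (.node (.node .leaf 359 2 324 .leaf) 308 1 378 (.node .leaf 74 0 111 .leaf))
    163 2 250 (.node (.node .leaf 184 0 311 .leaf) 167 2 161 .leaf)))))) 2 4 6 (.node (.node (.node
    (.node (.node (.node (.node .leaf 181 4 147 .leaf) 173 1 262 (.node .leaf 157 0 220 .leaf)) 75
    1 134 (.node (.node .leaf 370 1 305 .leaf) 322 1 390 (.node .leaf 117 2 80 .leaf))) 39 1 70
    (.node (.node (.node .leaf 272 2 233 .leaf) 227 1 326 (.node .leaf 195 0 290 .leaf)) 119 2 198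
    (.node (.node .leaf 63 0 277 .leaf) 82 2 82 .leaf))) 22 2 38 (.node (.node (.node (.node .leaf
    228 4 145 .leaf) 202 1 294 (.node .leaf 66 1 66 .leaf)) 95 3 166 (.node (.node .leaf 399 2 345
    .leaf) 26 3 26 (.node .leaf 87 3 132 .leaf))) 57 1 102 (.node (.node (.node .leaf 332 3 287
    .leaf) 275 2 358 (.node .leaf 159 0 108 .leaf)) 146 4 230 (.node (.node .leaf 191 4 191 .leaf)
    137 3 134 .leaf)))) 12 1 22 (.node (.node (.node (.node (.node .leaf 201 4 124 .leaf) 188 4 278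
    (.node .leaf 186 0 252 .leaf)) 85 1 150 (.node (.node .leaf 389 2 386 .leaf) 4 1 4 (.node .leaf
    31 0 169 .leaf))) 47 1 86 (.node (.node (.node .leaf 314 2 217 .leaf) 252 2 342 (.node .leaf 67
    0 39 .leaf)) 133 1 214 (.node (.node .leaf 239 0 241 .leaf) 102 3 59 .leaf))) 31 1 54 (.node
    (.node (.node (.node .leaf 251 2 207 .leaf) 213 3 310 (.node .leaf 357 0 236 .leaf)) 109 4 182
    (.node (.node .leaf 37 0 189 .leaf) 52 1 52 (.node .leaf 106 0 72 .leaf))) 65 3 118 (.node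
    (.node (.node .leaf 355 2 330 .leaf) 304 1 374 (.node .leaf 154 0 132 .leaf)) 160 1 246 (.node
    (.node .leaf 146 1 194 .leaf) 160 2 93 .leaf))))) 7 4 14 (.node (.node (.node (.node (.node
    (.node .leaf 187 2 113 .leaf) 183 2 270 (.node .leaf 60 0 371 .leaf)) 81 2 142 (.node (.node
    .leaf 381 4 371 .leaf) 344 1 398 (.node .leaf 39 2 37 .leaf))) 43 4 78 (.node (.node (.node
    .leaf 295 3 256 .leaf) 237 2 334 (.node .leaf 245 0 107 .leaf)) 125 1 206 (.node (.node .leaf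
    115 0 360 .leaf) 91 2 66 .leaf))) 27 1 46 (.node (.node (.node (.node .leaf 194 1 230 .leaf)
    208 4 302 (.node .leaf 180 4 195 .leaf)) 102 2 174 (.node (.node .leaf 161 0 294 .leaf) 38 3 38
    (.node .leaf 270 3 239 .leaf))) 60 4 110 (.node (.node (.node .leaf 342 1 298 .leaf) 291 4 366
    (.node .leaf 46 0 217 .leaf)) 155 3 238 (.node (.node .leaf 105 0 151 .leaf) 147 3 86 .leaf))))
    17 1 30 (.node (.node (.node (.node (.node .leaf 216 3 216 .leaf) 195 4 286 (.node .leaf 86 0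
    308 .leaf)) 90 3 158 (.node (.node .leaf 397 2 343 .leaf) 16 2 11 (.node .leaf 33 1 33 .leaf)))
    52 4 94 (.node (.node (.node .leaf 325 2 234 .leaf) 263 2 350 (.node .leaf 100 0 171 .leaf))
    140 2 222 (.node (.node .leaf 148 4 84 .leaf) 120 2 88 .leaf))) 35 1 62 (.node (.node (.node
    (.node .leaf 264 2 243 .leaf) 219 3 318 (.node .leaf 71 0 120 .leaf)) 114 4 190 (.node (.node
    .leaf 88 4 120 .leaf) 67 1 67 (.node .leaf 97 3 56 .leaf))) 70 2 126 (.node (.node (.node .leaf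
    281 1 360 .leaf) 311 3 382 (.node .leaf 280 0 183 .leaf)) 166 1 254 (.node (.node .leaf 144 0
    227 .leaf) 174 3 171 .leaf)))))))) 0 4 1 (.node (.node (.node (.node (.node (.node (.node
    (.node (.node .leaf 175 2 104 .leaf) 167 3 257 (.node .leaf 65 3 65 .leaf)) 71 1 129 (.node
    (.node .leaf 365 1 334 .leaf) 313 1 385 (.node .leaf 52 4 92 .leaf))) 36 1 65 (.node (.node
    (.node .leaf 268 4 220 .leaf) 223 1 321 (.node .leaf 184 0 309 .leaf)) 116 2 193 (.node (.node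
    .leaf 109 0 334 .leaf) 72 4 72 (.node .leaf 72 3 58 .leaf)))) 19 3 33 (.node (.node (.node
    (.node .leaf 222 4 180 .leaf) 198 4 289 (.node .leaf 34 0 398 .leaf)) 93 1 161 (.node (.node
    .leaf 316 0 307 .leaf) 21 4 12 (.node .leaf 90 0 43 .leaf))) 54 2 97 (.node (.node (.node .leaf
    326 2 288 .leaf) 269 4 353 (.node .leaf 37 0 296 .leaf)) 141 1 225 (.node (.node .leaf 284 1
    235 .leaf) 128 2 122 .leaf)))) 9 3 17 (.node (.node (.node (.node (.node .leaf 143 1 190 .leaf)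
    184 1 273 (.node .leaf 144 3 144 .leaf)) 82 1 145 (.node (.node .leaf 385 2 348 .leaf) 0 2 0
    (.node .leaf 132 4 192 .leaf))) 45 1 81 (.node (.node (.node .leaf 304 2 248 .leaf) 240 2 337
    (.node .leaf 64 0 223 .leaf)) 127 2 209 (.node (.node .leaf 269 0 272 .leaf) 96 4 71 .leaf)))
    28 3 49 (.node (.node (.node (.node .leaf 244 1 198 .leaf) 211 3 305 (.node .leaf 159 0 179
    .leaf)) 104 3 177 (.node (.node .leaf 93 0 202 .leaf) 42 4 24 (.node .leaf 78 0 56 .leaf))) 62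
    4 113 (.node (.node (.node .leaf 348 4 309 .leaf) 295 4 369 (.node .leaf 39 1 39 .leaf)) 156 4
    241 (.node (.node .leaf 235 0 396 .leaf) 150 4 97 .leaf))))) 4 4 9 (.node (.node (.node (.node
    (.node (.node .leaf 152 4 152 .leaf) 176 2 265 (.node .leaf 273 0 380 .leaf)) 77 1 137 (.node
    (.node .leaf 373 4 308 .leaf) 338 1 393 (.node .leaf 76 0 50 .leaf))) 40 3 73 (.node (.node
    (.node .leaf 283 2 271 .leaf) 231 4 329 (.node .leaf 62 0 300 .leaf)) 121 1 201 (.node (.node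
    .leaf 182 0 355 .leaf) 85 2 65 .leaf))) 23 3 41 (.node (.node (.node (.node .leaf 231 3 229
    .leaf) 205 1 297 (.node .leaf 63 0 370 .leaf)) 98 1 169 (.node (.node .leaf 395 0 257 .leaf) 30
    3 22 (.node .leaf 61 3 74 .leaf))) 58 1 105 (.node (.node (.node .leaf 241 1 329 .leaf) 279 4
    361 (.node .leaf 91 0 364 .leaf)) 149 1 233 (.node (.node .leaf 192 0 214 .leaf) 142 1 83
    .leaf)))) 14 3 25 (.node (.node (.node (.node (.node .leaf 210 2 201 .leaf) 191 4 281 (.node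
    .leaf 91 0 268 .leaf)) 86 4 153 (.node (.node .leaf 393 2 364 .leaf) 9 1 6 (.node .leaf 337 0
    193 .leaf))) 49 4 89 (.node (.node (.node .leaf 318 2 316 .leaf) 254 4 345 (.node .leaf 273 0
    213 .leaf)) 134 4 217 (.node (.node .leaf 115 0 312 .leaf) 110 2 89 .leaf))) 32 3 57 (.node
    (.node (.node (.node .leaf 256 2 246 .leaf) 214 4 313 (.node .leaf 260 0 274 .leaf)) 111 1 185
    (.node (.node .leaf 88 0 200 .leaf) 55 4 41 (.node .leaf 54 3 54 .leaf))) 67 4 121 (.node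
    (.node (.node .leaf 358 4 324 .leaf) 307 3 377 (.node .leaf 215 0 110 .leaf)) 162 1 249 (.node
    (.node .leaf 282 0 133 .leaf) 165 4 161 .leaf)))))) 2 3 5 (.node (.node (.node (.node (.node
    (.node (.node .leaf 181 3 181 .leaf) 172 1 261 (.node .leaf 195 0 222 .leaf)) 74 4 133 (.node
    (.node .leaf 369 3 303 .leaf) 317 3 389 (.node .leaf 117 1 80 .leaf))) 38 4 69 (.node (.node
    (.node .leaf 270 4 233 .leaf) 226 3 325 (.node .leaf 159 0 244 .leaf)) 118 4 197 (.node (.node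
    .leaf 89 0 366 .leaf) 79 1 79 .leaf))) 21 1 37 (.node (.node (.node (.node .leaf 228 3 182
    .leaf) 201 3 293 (.node .leaf 111 0 332 .leaf)) 95 2 165 (.node (.node .leaf 398 3 371 .leaf)
    26 1 18 (.node .leaf 85 0 262 .leaf))) 56 3 101 (.node (.node (.node .leaf 332 1 274 .leaf) 273
    4 357 (.node .leaf 44 0 364 .leaf)) 146 1 229 (.node (.node .leaf 279 0 361 .leaf) 136 3 132
    .leaf)))) 11 3 21 (.node (.node (.node (.node (.node .leaf 200 2 155 .leaf) 188 2 277 (.node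
    .leaf 112 0 251 .leaf)) 84 4 149 (.node (.node .leaf 387 1 352 .leaf) 3 2 3 (.node .leaf 55 1
    55 .leaf))) 46 4 85 (.node (.node (.node .leaf 313 2 261 .leaf) 251 1 341 (.node .leaf 120 0
    303 .leaf)) 132 4 213 (.node (.node .leaf 327 0 284 .leaf) 101 2 98 .leaf))) 30 4 53 (.node
    (.node (.node (.node .leaf 250 3 209 .leaf) 213 1 309 (.node .leaf 390 0 271 .leaf)) 109 2 181
    (.node (.node .leaf 51 0 292 .leaf) 48 1 34 (.node .leaf 58 2 43 .leaf))) 64 3 117 (.node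
    (.node (.node .leaf 354 3 273 .leaf) 302 3 373 (.node .leaf 192 0 213 .leaf)) 159 4 245 (.node
    (.node .leaf 279 4 279 .leaf) 157 2 117 .leaf))))) 7 2 13 (.node (.node (.node (.node (.node
    (.node .leaf 186 3 186 .leaf) 182 1 269 (.node .leaf 181 0 208 .leaf)) 80 3 141 (.node (.node
    .leaf 380 3 322 .leaf) 342 4 397 (.node .leaf 85 0 134 .leaf))) 43 2 77 (.node (.node (.node
    .leaf 293 2 257 .leaf) 236 4 333 (.node .leaf 244 0 108 .leaf)) 124 3 205 (.node (.node .leaf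
    156 0 336 .leaf) 90 4 56 .leaf))) 26 4 45 (.node (.node (.node (.node .leaf 235 4 186 .leaf)
    208 2 301 (.node .leaf 112 0 164 .leaf)) 101 4 173 (.node (.node .leaf 256 0 394 .leaf) 38 1 38
    (.node .leaf 279 0 392 .leaf))) 60 1 109 (.node (.node (.node .leaf 341 2 305 .leaf) 291 2 365
    (.node .leaf 116 0 321 .leaf)) 155 1 237 (.node (.node .leaf 81 0 325 .leaf) 146 2 143
    .leaf)))) 16 3 29 (.node (.node (.node (.node (.node .leaf 216 1 138 .leaf) 194 3 285 (.node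
    .leaf 185 0 172 .leaf)) 89 3 157 (.node (.node .leaf 363 1 396 .leaf) 15 3 15 (.node .leaf 38 4
    37 .leaf))) 51 4 93 (.node (.node (.node .leaf 323 4 319 .leaf) 262 3 349 (.node .leaf 172 0
    260 .leaf)) 139 3 221 (.node (.node .leaf 142 0 234 .leaf) 117 4 66 .leaf))) 34 4 61 (.node
    (.node (.node (.node .leaf 260 2 172 .leaf) 218 4 317 (.node .leaf 67 0 70 .leaf)) 113 3 189
    (.node (.node .leaf 49 0 291 .leaf) 63 3 48 (.node .leaf 101 0 97 .leaf))) 69 3 125 (.node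
    (.node (.node .leaf 278 1 328 .leaf) 309 3 381 (.node .leaf 279 0 283 .leaf)) 165 3 253 (.node
    (.node .leaf 109 0 301 .leaf) 173 2 170 .leaf))))))) 1 3 3 (.node (.node (.node (.node (.node
    (.node (.node (.node .leaf 179 2 108 .leaf) 170 3 259 (.node .leaf 186 0 341 .leaf)) 73 4 131
    (.node (.node .leaf 367 3 294 .leaf) 315 2 387 (.node .leaf 59 0 107 .leaf))) 37 2 67 (.node
    (.node (.node .leaf 269 3 269 .leaf) 224 1 323 (.node .leaf 192 0 333 .leaf)) 117 1 195 (.node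
    (.node .leaf 186 0 275 .leaf) 76 3 44 .leaf))) 20 3 35 (.node (.node (.node (.node .leaf 227 2
    151 .leaf) 200 1 291 (.node .leaf 190 0 397 .leaf)) 94 1 163 (.node (.node .leaf 388 0 378
    .leaf) 23 2 14 (.node .leaf 156 3 116 .leaf))) 54 4 99 (.node (.node (.node .leaf 327 3 327
    .leaf) 272 1 355 (.node .leaf 160 0 52 .leaf)) 144 3 227 (.node (.node .leaf 270 0 329 .leaf)
    132 1 132 .leaf)))) 10 4 19 (.node (.node (.node (.node (.node .leaf 192 4 154 .leaf) 187 1 275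
    (.node .leaf 66 0 119 .leaf)) 84 1 147 (.node (.node .leaf 322 4 370 .leaf) 1 2 1 (.node .leaf
    110 3 133 .leaf))) 46 2 83 (.node (.node (.node .leaf 310 2 221 .leaf) 247 1 339 (.node .leaf
    27 0 315 .leaf)) 129 2 211 (.node (.node .leaf 46 0 267 .leaf) 97 1 56 .leaf))) 29 1 51 (.node
    (.node (.node (.node .leaf 247 2 202 .leaf) 212 1 307 (.node .leaf 91 0 180 .leaf)) 107 4 179
    (.node (.node .leaf 67 0 238 .leaf) 47 4 47 (.node .leaf 135 0 97 .leaf))) 63 4 115 (.node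
    (.node (.node .leaf 351 2 349 .leaf) 301 1 371 (.node .leaf 88 4 71 .leaf)) 158 4 243 (.node
    (.node .leaf 284 3 284 .leaf) 154 2 111 .leaf))))) 5 4 11 (.node (.node (.node (.node (.node
    (.node .leaf 184 4 111 .leaf) 178 4 267 (.node .leaf 236 0 385 .leaf)) 79 4 139 (.node (.node
    .leaf 379 3 343 .leaf) 340 2 395 (.node .leaf 89 3 80 .leaf))) 42 3 75 (.node (.node (.node
    .leaf 289 2 199 .leaf) 233 3 331 (.node .leaf 62 0 125 .leaf)) 122 3 203 (.node (.node .leaf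
    114 0 358 .leaf) 88 3 51 .leaf))) 24 3 43 (.node (.node (.node (.node .leaf 234 4 151 .leaf)
    207 1 299 (.node .leaf 62 0 207 .leaf)) 100 2 171 (.node (.node .leaf 167 0 368 .leaf) 33 4 25
    (.node .leaf 101 0 135 .leaf))) 59 2 107 (.node (.node (.node .leaf 340 3 249 .leaf) 284 3 363
    (.node .leaf 80 1 139 .leaf)) 152 3 235 (.node (.node .leaf 182 0 372 .leaf) 144 2 105
    .leaf)))) 15 4 27 (.node (.node (.node (.node (.node .leaf 213 2 133 .leaf) 193 3 283 (.node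
    .leaf 354 0 322 .leaf)) 88 4 155 (.node (.node .leaf 395 3 368 .leaf) 12 2 12 (.node .leaf 183
    3 191 .leaf))) 50 3 91 (.node (.node (.node .leaf 321 3 225 .leaf) 257 1 347 (.node .leaf 192 0
    273 .leaf)) 137 4 219 (.node (.node .leaf 269 0 356 .leaf) 114 3 109 .leaf))) 33 1 59 (.node
    (.node (.node (.node .leaf 258 1 211 .leaf) 217 1 315 (.node .leaf 147 0 212 .leaf)) 112 4 187
    (.node (.node .leaf 181 0 237 .leaf) 61 2 36 (.node .leaf 32 3 32 .leaf))) 68 3 123 (.node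
    (.node (.node .leaf 359 1 284 .leaf) 308 2 379 (.node .leaf 55 0 100 .leaf)) 163 3 251 (.node
    (.node .leaf 154 0 313 .leaf) 169 3 100 .leaf)))))) 3 1 7 (.node (.node (.node (.node (.node
    (.node (.node .leaf 153 0 86 .leaf) 175 1 263 (.node .leaf 66 0 323 .leaf)) 75 4 135 (.node
    (.node .leaf 372 2 302 .leaf) 334 3 391 (.node .leaf 66 0 79 .leaf))) 39 3 71 (.node (.node
    (.node .leaf 276 4 247 .leaf) 229 2 327 (.node .leaf 115 0 322 .leaf)) 119 4 199 (.node (.node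
    .leaf 64 0 278 .leaf) 82 4 82 .leaf))) 22 4 39 (.node (.node (.node (.node .leaf 230 2 226
    .leaf) 203 2 295 (.node .leaf 91 0 198 .leaf)) 95 4 167 (.node (.node .leaf 399 1 351 .leaf) 29
    2 29 (.node .leaf 58 0 77 .leaf))) 57 2 103 (.node (.node (.node .leaf 335 2 280 .leaf) 275 4
    359 (.node .leaf 59 0 245 .leaf)) 148 1 231 (.node (.node .leaf 230 0 146 .leaf) 138 2 130
    .leaf)))) 13 4 23 (.node (.node (.node (.node (.node .leaf 204 1 126 .leaf) 191 2 279 (.node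
    .leaf 286 0 180 .leaf)) 85 3 151 (.node (.node .leaf 384 1 391 .leaf) 8 2 5 (.node .leaf 98 0
    131 .leaf))) 48 4 87 (.node (.node (.node .leaf 266 1 314 .leaf) 252 4 343 (.node .leaf 96 0 88
    .leaf)) 133 3 215 (.node (.node .leaf 191 0 281 .leaf) 103 3 97 .leaf))) 31 3 55 (.node (.node
    (.node (.node .leaf 253 2 205 .leaf) 214 2 311 (.node .leaf 333 0 273 .leaf)) 110 1 183 (.node
    (.node .leaf 120 0 155 .leaf) 52 3 52 (.node .leaf 73 1 61 .leaf))) 66 1 119 (.node (.node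
    (.node .leaf 355 4 334 .leaf) 304 4 375 (.node .leaf 142 0 219 .leaf)) 160 3 247 (.node (.node
    .leaf 146 4 146 .leaf) 162 2 123 .leaf))))) 8 1 15 (.node (.node (.node (.node (.node (.node
    .leaf 189 4 123 .leaf) 183 3 271 (.node .leaf 114 0 342 .leaf)) 81 3 143 (.node (.node .leaf
    382 2 320 .leaf) 344 4 399 (.node .leaf 105 0 349 .leaf))) 44 2 79 (.node (.node (.node .leaf
    297 3 206 .leaf) 239 3 335 (.node .leaf 157 0 195 .leaf)) 126 3 207 (.node (.node .leaf 116 0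
    328 .leaf) 92 1 92 .leaf))) 27 3 47 (.node (.node (.node (.node .leaf 238 4 162 .leaf) 209 4
    303 (.node .leaf 139 1 157 .leaf)) 103 4 175 (.node (.node .leaf 121 0 162 .leaf) 40 4 40
    (.node .leaf 32 0 57 .leaf))) 61 3 111 (.node (.node (.node .leaf 342 3 301 .leaf) 293 1 367
    (.node .leaf 71 0 303 .leaf)) 156 2 239 (.node (.node .leaf 65 0 118 .leaf) 148 3 142 .leaf))))
    18 4 31 (.node (.node (.node (.node (.node .leaf 218 2 137 .leaf) 196 2 287 (.node .leaf 120 0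
    127 .leaf)) 91 1 159 (.node (.node .leaf 389 1 397 .leaf) 17 2 17 (.node .leaf 19 0 102
    .leaf))) 53 1 95 (.node (.node (.node .leaf 325 4 227 .leaf) 265 3 351 (.node .leaf 195 4 364
    .leaf)) 140 3 223 (.node (.node .leaf 83 0 197 .leaf) 121 2 68 .leaf))) 35 2 63 (.node (.node
    (.node (.node .leaf 267 2 197 .leaf) 220 2 319 (.node .leaf 129 3 129 .leaf)) 115 1 191 (.node
    (.node .leaf 35 0 188 .leaf) 69 2 39 (.node .leaf 97 4 173 .leaf))) 70 3 127 (.node (.node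
    (.node .leaf 361 2 281 .leaf) 312 2 383 (.node .leaf 37 2 369 .leaf)) 166 2 255 (.node (.node
    .leaf 105 3 85 .leaf) 131 1 174 .leaf)))))))))

def tLS : List (ℕ × ℕ × List ℕ) :=
    [(0,0,[]), (0,0,[]), (0,0,[]), (0,0,[]), (0,0,[]), (0,0,[]), (0,0,[]), (0,0,[]), (0,0,[]),
    (0,0,[]), (0,0,[]), (0,0,[]), (0,0,[]), (0,0,[]), (0,0,[]), (0,0,[]), (0,0,[]), (0,0,[]),
    (0,0,[]), (0,0,[]), (0,0,[]), (0,0,[]), (0,0,[]), (0,0,[]), (0,0,[]), (0,0,[]), (0,0,[]),
    (0,0,[]), (0,0,[]), (0,0,[]), (0,0,[]), (0,0,[]), (0,0,[]), (0,0,[]), (0,0,[]), (0,0,[]),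
    (0,0,[]), (0,0,[]), (0,0,[]), (0,0,[]), (0,0,[]), (0,0,[]), (0,0,[]), (0,0,[]), (0,0,[]),
    (0,0,[]), (0,0,[]), (0,0,[]), (0,0,[]), (0,0,[]), (0,0,[]), (0,0,[]), (0,0,[]), (0,0,[]),
    (0,0,[]), (0,0,[]), (0,0,[]), (0,0,[]), (0,0,[]), (0,0,[]), (0,0,[]), (0,0,[]), (0,0,[]),
    (0,0,[]), (0,0,[]), (0,0,[]), (0,0,[]), (0,0,[]), (0,0,[]), (0,0,[]), (0,0,[]), (0,0,[]),
    (0,0,[]), (0,0,[]), (0,0,[]), (0,0,[]), (0,0,[]), (0,0,[]), (0,0,[]), (0,0,[]), (0,0,[]),
    (0,0,[]), (0,0,[]), (0,0,[]), (0,0,[]), (0,0,[]), (0,0,[]), (0,0,[]), (0,0,[]), (0,0,[]),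
    (0,0,[]), (0,0,[]), (0,0,[]), (0,0,[]), (0,0,[]), (0,0,[]), (0,0,[]), (0,0,[]), (0,0,[]),
    (0,0,[]), (0,0,[]), (0,0,[]), (0,0,[]), (0,0,[]), (0,0,[]), (0,0,[]), (0,0,[]), (0,0,[]),
    (0,0,[]), (0,0,[]), (0,0,[]), (0,0,[]), (0,0,[]), (0,0,[]), (0,0,[]), (0,0,[]), (0,0,[]),
    (0,0,[]), (0,0,[]), (0,0,[]), (0,0,[]), (0,0,[]), (0,0,[]), (0,0,[]), (0,0,[]), (0,0,[]),
    (0,0,[]), (0,0,[]), (0,0,[]), (0,0,[]), (0,0,[]), (0,0,[]), (0,0,[]), (0,0,[]), (0,0,[]),
    (0,0,[]), (0,0,[]), (0,0,[]), (0,0,[]), (0,0,[]), (0,0,[]), (0,0,[]), (0,0,[]), (0,0,[]),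
    (0,0,[]), (0,0,[]), (0,0,[]), (0,0,[]), (0,0,[]), (0,0,[]), (0,0,[]), (0,0,[]), (0,0,[]),
    (0,0,[]), (0,0,[]), (0,0,[]), (0,0,[]), (0,0,[]), (0,0,[]), (0,0,[]), (0,0,[]), (0,0,[]),
    (0,0,[]), (0,0,[]), (0,0,[]), (0,0,[]), (0,0,[]), (0,0,[]), (0,0,[]), (0,0,[]), (0,0,[]),
    (0,0,[]), (0,0,[]), (0,0,[]), (0,0,[]), (0,0,[]), (0,0,[]), (0,0,[]), (0,0,[]), (0,0,[]),
    (0,0,[]), (0,0,[]), (0,0,[]), (0,0,[]), (0,0,[]), (0,0,[]), (0,0,[]), (0,0,[]), (0,0,[]),
    (0,0,[]), (0,0,[]), (0,0,[]), (0,0,[]), (0,0,[]), (0,0,[]), (0,0,[]), (0,0,[]), (0,0,[]),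
    (0,0,[]), (0,0,[]), (0,0,[]), (0,0,[]), (0,0,[]), (0,0,[]), (0,0,[]), (0,0,[]), (0,0,[]),
    (0,0,[]), (0,0,[]), (0,0,[]), (0,0,[]), (0,0,[]), (0,0,[]), (0,0,[]), (0,0,[]), (0,0,[]),
    (0,0,[]), (0,0,[]), (0,0,[]), (0,0,[]), (0,0,[]), (0,0,[]), (0,0,[]), (0,0,[]), (0,0,[]),
    (0,0,[]), (0,0,[]), (0,0,[]), (0,0,[]), (0,0,[]), (0,0,[]), (0,0,[]), (0,0,[]), (0,0,[]),
    (0,0,[]), (0,0,[]), (0,0,[]), (0,0,[]), (0,0,[]), (0,0,[]), (0,0,[]), (0,0,[]), (0,0,[]),
    (0,0,[]), (0,0,[]), (0,0,[]), (0,0,[]), (0,0,[]), (0,0,[]), (0,0,[]), (0,0,[]), (0,0,[]),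
    (0,0,[]), (0,0,[]), (0,0,[]), (0,0,[]), (0,0,[]), (0,0,[]), (0,0,[]), (0,0,[]), (0,0,[]),
    (0,0,[]), (0,0,[]), (0,0,[]), (0,0,[]), (0,0,[]), (0,0,[]), (0,0,[]), (0,0,[]), (0,0,[]),
    (0,0,[]), (0,0,[]), (0,0,[]), (0,0,[]), (0,0,[]), (0,0,[]), (0,0,[]), (0,0,[]), (0,0,[]),
    (0,0,[]), (0,0,[]), (0,0,[]), (0,0,[]), (0,0,[]), (0,0,[]), (0,0,[]), (0,0,[]), (0,0,[]),
    (0,0,[]), (0,0,[]), (0,0,[]), (0,0,[]), (0,0,[]), (0,0,[]), (0,0,[]), (0,0,[]), (0,0,[]),
    (0,0,[]), (0,0,[]), (0,0,[]), (0,0,[]), (0,0,[]), (0,0,[]), (0,0,[]), (0,0,[]), (0,0,[]),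
    (0,0,[]), (0,0,[]), (0,0,[]), (0,0,[]), (0,0,[]), (0,0,[]), (0,0,[]), (0,0,[]), (0,0,[]),
    (0,0,[]), (0,0,[]), (0,0,[]), (0,0,[]), (0,0,[]), (0,0,[]), (0,0,[]), (0,0,[]), (0,0,[]),
    (0,0,[]), (0,0,[]), (0,0,[]), (0,0,[]), (0,0,[]), (0,0,[]), (0,0,[]), (0,0,[]), (0,0,[]),
    (0,0,[]), (0,0,[]), (0,0,[]), (0,0,[]), (0,0,[]), (0,0,[]), (0,0,[]), (0,0,[]), (0,0,[]),
    (0,0,[]), (0,0,[]), (0,0,[]), (0,0,[]), (0,0,[]), (0,0,[]), (0,0,[]), (0,0,[]), (0,0,[]),
    (0,0,[]), (0,0,[]), (0,0,[]), (0,0,[]), (0,0,[]), (0,0,[]), (0,0,[]), (0,0,[]), (0,0,[]),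
    (0,0,[]), (0,0,[]), (0,0,[]), (0,0,[]), (0,0,[]), (0,0,[]), (0,0,[]), (0,0,[]), (0,0,[]),
    (0,0,[]), (0,0,[]), (0,0,[]), (0,0,[]), (0,0,[]), (0,0,[]), (0,0,[]), (0,0,[]), (0,0,[]),
    (0,0,[]), (0,0,[]), (0,0,[]), (0,0,[]), (0,0,[]), (0,0,[]), (0,0,[]), (0,0,[]), (0,0,[]),
    (0,0,[]), (0,0,[]), (0,0,[]), (0,0,[]), (0,0,[]), (0,0,[]), (0,0,[]), (0,0,[]), (0,0,[]),
    (0,0,[]), (0,0,[]), (0,0,[]), (1,0,[]), (1,0,[]), (1,0,[]), (11,2,[1,800,0]),
    (12,1,[5,1,802,0,4]), (13,3,[5,1,800,800,802,800,802,0,804,4]), (6,2,[7,3,804,2,6]),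
    (9,3,[9,3,4,808,5,804,2,6,14]), (11,2,[11,6,16]), (14,3,[815,17,7,3,1,800,798,0,2,6,16]),
    (8,1,[13,5,2,8,18]), (13,3,[23,11,6,7,8,813,15,16,814,22]), (6,2,[25,13,808,12,24]),
    (8,1,[29,15,810,14,28]), (11,2,[21,813,30]), (7,2,[33,814,22,820,23,815,32]),
    (9,2,[25,819,19,9,6,14,812,18,34]), (12,1,[23,11,8,20,40]),
    (13,3,[41,21,813,812,9,6,14,30,826,40]), (11,2,[27,24,44]),
    (13,3,[49,27,24,25,819,34,830,44,836,48]), (6,2,[35,19,813,28,50]),
    (9,2,[51,824,29,15,7,8,813,28,50]), (7,2,[57,826,40,834,41,827,56]), (12,1,[33,17,14,30,56]),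
    (8,1,[43,23,817,32,58]), (11,2,[37,34,60]), (12,1,[49,27,819,36,64]),
    (13,3,[65,37,34,35,818,24,831,60,850,64]), (6,2,[75,43,820,42,74]),
    (9,2,[75,849,59,33,814,22,820,42,74]), (14,11,[79,836,27,13,808,806,808,12,26,837,78]),
    (7,2,[81,836,48,838,49,837,80]), (14,2,[47,837,45,25,13,806,808,12,26,46,82]),
    (11,2,[53,50,88]), (12,1,[93,53,824,52,92]), (13,3,[93,53,50,51,824,50,842,88,866,92]),
    (6,2,[67,39,827,54,94]), (6,2,[103,59,828,58,102]), (7,1,[103,848,74,858,75,849,102]),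
    (7,2,[109,850,64,854,65,851,108]), (12,1,[81,45,831,60,108]),
    (9,3,[97,55,56,844,57,826,38,66,118]), (11,2,[71,66,120]), (8,1,[73,41,38,68,122]),
    (7,1,[95,96,883,119,67,68,124]), (6,2,[133,73,834,72,132]), (11,2,[77,74,136]),
    (6,2,[83,47,837,78,142]), (11,1,[143,860,142]), (9,3,[145,79,80,862,81,836,46,82,148]),
    (8,1,[87,49,46,84,150]), (7,1,[143,144,899,149,83,84,152]), (6,2,[157,87,838,86,156]),
    (7,2,[163,866,92,870,93,867,162]), (12,1,[163,89,842,88,162]),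
    (14,2,[129,885,121,67,39,21,813,28,52,90,164]), (11,2,[911,165,168]), (11,2,[99,94,172]),
    (8,1,[101,57,54,96,174]), (14,1,[115,63,851,61,35,19,20,827,54,98,178]),
    (14,8,[111,63,37,19,813,30,54,94,172,914,178]), (13,3,[131,71,66,67,68,124,888,172,914,180]),
    (6,2,[183,101,844,100,182]), (11,2,[105,102,186]), (12,1,[141,77,849,104,190]),
    (13,3,[141,77,74,75,849,102,876,186,926,190]), (6,2,[111,63,851,106,192]),
    (14,3,[884,71,66,873,172,914,178,920,933,193,196]), (9,3,[195,107,108,878,109,850,62,110,200]),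
    (8,1,[117,65,62,112,202]), (7,1,[193,194,937,201,111,112,204]), (6,2,[213,117,854,116,212]),
    (11,2,[177,883,218]), (9,2,[183,917,175,97,94,889,125,122,222]), (8,1,[217,119,873,889,226]),
    (11,2,[127,124,228]), (12,1,[131,71,68,126,232]), (7,2,[916,182,947,223,886,132,238]),
    (11,2,[135,132,240]), (14,2,[243,957,241,133,73,832,820,42,76,138,250]), (11,2,[959,251,254]),
    (8,1,[147,81,78,144,258]), (6,2,[263,147,862,146,262]), (11,2,[261,899,268]),
    (9,2,[263,963,259,145,142,903,153,150,270]), (8,1,[267,149,895,903,272]),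
    (7,2,[962,262,969,271,900,156,274]), (11,2,[159,156,276]), (6,2,[165,91,867,160,282]),
    (14,2,[209,919,920,111,63,37,34,841,88,160,282]), (11,2,[979,283,286]),
    (14,3,[914,99,94,872,120,884,128,911,977,283,286]), (9,3,[285,161,162,906,163,866,90,164,290]),
    (8,1,[171,93,90,166,292]), (7,1,[283,284,985,291,165,166,294]), (6,1,[934,884,128,913,298]),
    (14,8,[193,107,61,841,51,52,90,164,910,913,298]), (6,2,[303,171,870,170,302]),
    (7,2,[221,884,130,923,181,915,306]), (12,1,[181,99,96,176,312]),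
    (13,3,[233,127,124,125,69,66,118,218,944,312]), (11,2,[185,182,318]),
    (13,3,[245,135,132,133,887,222,946,318,1002,322]), (7,2,[249,892,140,931,191,927,326]),
    (14,2,[321,1003,319,183,101,846,828,58,104,188,328]), (11,2,[1009,329,332]),
    (8,1,[199,109,106,194,336]), (6,2,[341,199,878,198,340]), (11,2,[339,937,344]),
    (9,2,[341,1013,337,195,192,941,205,202,346]),
    (15,8,[347,203,113,63,37,818,13,809,5,1,799,803,799,801,799,0,4,807,809,12,26,837,78,144,260]),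
    (6,4,[966,1020,347,203,204]), (11,2,[207,204,348]),
    (9,3,[235,129,130,923,181,915,983,980,354]), (11,2,[215,212,356]), (6,2,[954,175,883,216,360]),
    (9,2,[361,949,227,888,95,96,883,216,360]),
    (15,13,[986,171,870,93,53,29,15,810,7,3,1,802,0,804,2,10,815,816,22,833,72,132,890,238,1031]),
    (12,4,[987,1035,1032,1034,986,304]), (10,0,[304,1036]),
    (15,3,[303,171,93,53,29,812,18,818,13,806,5,2,6,14,30,54,96,174,955,1031,1034,986,1039,302,995]),
    (11,2,[1035,361,362]), (12,1,[221,121,118,218,366]), (6,1,[227,125,122,222,370]),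
    (8,1,[371,946,924,947,370]), (11,2,[225,222,372]), (12,1,[245,135,887,224,376]),
    (15,14,[289,906,163,89,840,830,822,25,13,806,5,1,800,798,0,804,2,8,20,38,66,873,889,226,378]),
    (8,0,[1054,289,163,160,284]), (7,2,[367,944,312,1000,233,951,382]),
    (12,1,[307,173,889,228,382]), (8,1,[237,131,128,234,390]), (11,2,[309,955,398]),
    (14,11,[247,892,77,43,820,833,834,72,134,957,400]), (6,2,[251,139,893,246,406]),
    (8,1,[257,141,138,252,414]), (6,1,[401,956,242,961,418]),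
    (14,11,[1068,251,254,418,1072,1066,406,1068,958,961,418]), (11,2,[265,262,424]),
    (13,3,[281,159,156,157,901,270,968,424,1076,428]), (6,2,[972,259,899,266,430]),
    (9,2,[431,971,273,902,143,144,899,266,430]), (6,1,[273,153,150,270,434]),
    (8,1,[435,968,964,969,434]), (14,2,[359,1029,357,213,117,852,838,86,158,278,442]),
    (11,2,[1089,443,446]), (7,2,[301,912,234,1027,355,981,452]), (6,2,[455,289,906,288,454]),
    (9,2,[1042,986,171,93,867,162,906,288,454]),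
    (13,0,[454,1096,1042,986,1039,302,303,987,1043,1097]), (11,2,[451,985,458]),
    (12,2,[393,235,911,290,458]), (8,1,[457,291,977,989,460]), (11,2,[297,294,462]),
    (12,1,[301,169,166,296,466]), (7,2,[1054,454,1096,1042,986,302,468]),
    (13,5,[1046,1047,1048,1046,948,362,1042,986,302,468]),
    (14,0,[1100,451,1056,1111,1112,1046,227,228,950,230,386]), (12,1,[323,185,917,308,474]),
    (12,2,[345,201,921,314,484]), (6,2,[395,237,923,316,486]),
    (14,11,[325,926,105,59,828,847,844,100,184,1003,490]), (7,2,[403,956,244,1005,323,1003,492]),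
    (6,2,[329,189,927,324,498]), (9,2,[417,253,139,140,931,191,927,324,498]),
    (7,2,[413,251,252,416,1129,499,500]), (9,3,[409,247,248,1007,327,926,188,328,504]),
    (7,1,[407,408,1133,505,329,330,508]), (6,1,[491,1002,320,1011,510]),
    (14,11,[1126,329,332,510,1136,1122,498,1126,1008,1011,510]), (6,2,[421,257,931,334,514]),
    (13,3,[353,207,204,205,113,110,200,344,1016,516]), (11,2,[343,340,518]),
    (7,2,[1118,1016,516,1142,353,1025,526]), (11,2,[393,1027,532]), (12,2,[463,988,978,354,532]),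
    (14,11,[439,974,159,87,838,853,854,116,214,1029,534]), (6,1,[461,295,292,1043,536]),
    (8,1,[537,1097,1094,1096,536]), (6,2,[477,311,945,364,538]),
    (14,2,[465,1107,463,295,292,1035,361,217,218,364,538]), (11,2,[1161,539,542]),
    (12,1,[493,319,947,372,550]), (6,2,[385,231,951,380,556]),
    (9,3,[541,365,366,1059,383,950,230,384,564]), (11,2,[387,384,566]), (11,2,[397,394,576]),
    (12,1,[403,241,238,398,582]), (9,7,[513,1010,321,1003,492,1124,403,400,584]),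
    (9,4,[511,512,1177,585,1073,419,960,404,588]), (8,1,[411,249,246,408,592]),
    (12,2,[591,405,959,412,598]), (7,2,[495,1011,512,1177,585,1073,606]), (11,2,[423,420,610]),
    (7,2,[441,974,280,1079,429,1077,618]), (14,2,[521,1145,519,341,199,880,862,146,264,426,620]),
    (11,2,[1191,621,624]), (11,2,[433,430,626]),
    (14,0,[1194,433,267,898,260,967,1023,348,1024,350,530]), (11,2,[437,1085,632]),
    (13,3,[631,433,430,431,971,1085,1086,632,1198,634]), (6,2,[443,279,975,438,636]),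
    (8,1,[449,281,278,444,640]), (6,1,[535,1028,358,1091,644]),
    (14,11,[1202,443,446,644,1206,1152,636,1202,1088,1091,644]),
    (7,2,[467,1107,1151,1148,1103,1100,648]), (12,1,[453,287,284,450,648]),
    (8,1,[471,307,983,452,650]), (9,1,[575,395,1063,391,235,913,300,1093,650]),
    (6,2,[1110,1057,985,456,652]), (7,1,[653,1105,1155,1156,1154,1104,652]),
    (14,11,[473,1065,399,1031,361,362,1042,293,296,1107,658]), (6,2,[547,369,997,470,662]),
    (7,1,[573,1062,394,574,1217,1214,662]), (9,3,[559,381,382,1058,367,944,310,476,668]),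
    (11,2,[481,476,670]), (14,7,[657,1155,537,363,217,882,176,310,476,670,1230]),
    (7,1,[557,558,1229,669,477,478,672]), (8,1,[497,323,320,494,678]), (8,1,[503,327,324,500,680]),
    (9,1,[609,421,1071,415,253,250,412,1131,680]), (6,2,[595,411,1007,502,682]),
    (7,1,[601,1070,420,608,1241,1238,682]), (9,2,[595,1181,593,409,406,1135,509,506,686]),
    (14,11,[617,1076,265,147,862,881,878,198,342,1145,694]), (6,2,[529,351,1025,524,698]),
    (9,3,[697,523,1119,1147,527,1024,350,528,700]), (11,2,[531,528,702]),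
    (8,1,[545,367,364,540,706]), (6,1,[659,1106,464,1163,708]),
    (14,8,[667,473,309,175,883,218,364,538,1160,1163,708]),
    (9,3,[569,1114,1102,1149,1150,1106,464,1163,710]),
    (14,2,[647,1101,459,984,1056,379,1047,371,372,548,714]), (11,2,[1265,715,716]),
    (14,0,[1170,387,231,951,229,125,122,224,1051,548,716]), (11,2,[555,552,718]),
    (14,7,[655,652,1218,1112,371,223,224,374,552,718,1270]),
    (14,0,[1270,555,375,1051,373,223,123,126,951,380,560]), (11,2,[561,556,720]),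
    (7,2,[661,1163,710,1262,569,1171,724]), (6,2,[667,473,1065,580,728]),
    (14,3,[1230,481,476,1159,1160,1163,708,1260,1281,729,730]), (8,1,[587,403,400,584,732]),
    (11,2,[591,588,736]), (12,2,[605,1129,1139,1179,736]), (6,2,[1241,681,1130,596,738]),
    (11,2,[603,600,742]),
    (15,19,[711,708,1258,659,463,988,978,981,982,173,95,55,56,846,58,102,874,876,874,186,326,502,682,1244,742]),
    (12,1,[615,423,1071,602,744]), (12,2,[691,1134,1075,606,748]),
    (13,4,[685,682,683,1239,1240,609,610,1186,614,756]), (6,2,[621,427,1077,616,758]),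
    (9,2,[643,445,279,280,1079,429,1077,616,758]),
    (15,7,[741,601,415,253,139,77,849,59,828,33,17,810,14,28,50,840,60,108,880,862,146,264,1077,616,760]),
    (9,3,[639,439,440,1189,619,1076,426,620,762]), (7,1,[637,638,1309,763,621,622,764]),
    (6,1,[695,1144,520,1193,768]), (14,11,[1302,621,624,768,1312,1248,758,1302,1190,1193,768]),
    (15,7,[1290,1241,681,501,325,187,876,874,103,848,76,138,252,414,600,740,1307,761,1249,1313,769,625,620,1303,1304]),
    (12,1,[771,627,1082,626,770]), (6,2,[1254,1196,1194,628,772]),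
    (7,2,[771,1194,630,1201,635,1199,776]),
    (15,19,[781,1281,729,581,399,239,240,956,242,959,251,139,140,929,334,514,1140,608,1291,1317,1305,1302,621,622,766]),
    (8,1,[723,565,1167,1235,782]), (14,1,[727,579,1173,577,395,237,953,1001,482,674,784]),
    (6,2,[735,587,1125,676,786]), (9,2,[735,1285,733,585,1073,606,1184,678,788]),
    (11,2,[751,1241,790]),
    (15,12,[791,1238,503,1006,249,137,857,859,857,75,43,833,41,21,813,28,52,867,160,284,450,646,1267,1268,724]),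
    (11,2,[685,682,792]),
    (15,2,[793,683,503,327,187,875,103,59,33,816,11,8,18,34,830,44,78,144,258,973,1081,626,770,1319,1323]),
    (9,7,[1195,770,1323,1340,1338,1301,757,615,612,752]), (5,0,[752,1342,630]), (5,0,[630,1344]),
    (8,4,[755,615,612,1346,628,774]), (5,0,[774,1348]), (8,1,[741,1245,1242,1247,794]),
    (11,2,[689,686,796]),
    (15,19,[701,1251,699,525,349,940,993,990,934,121,67,39,40,832,42,74,856,858,856,136,248,410,594,1247,796]),
    (15,22,[747,748,1298,691,509,506,688,1355,1356,701,702,1321,773,629,1347,613,423,1071,415,416,1129,1139,511,512,692]),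
    (6,0,[692,1358,747,1184,678,788]), (4,0,[788,1360,1177]), (5,0,[1333,1360,513]),
    (5,0,[1237,1363,585]), (3,0,[1330,1365,510]), (4,0,[734,1365,1010]), (3,0,[496,1367,401]),
    (4,0,[786,1369,1136]), (3,0,[586,1371,321]), (4,0,[1005,1373,956]), (10,0,[1116,1373,241]),
    (3,0,[676,1375,491]), (10,0,[1174,1377,185]), (10,0,[1052,1379,135]), (5,0,[474,1381,238]),
    (10,0,[1164,1383,319]), (5,0,[582,1385,917]), (5,0,[376,1387,887]), (3,0,[473,1389,1031]),
    (5,0,[550,1391,947]), (3,0,[581,1393,175]), (10,0,[398,1393]), (3,0,[375,1395,123]),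
    (10,0,[224,1395]), (4,0,[667,1397,361]), (10,0,[1222,1397,1034]), (3,0,[549,1399,370]),
    (10,0,[372,1399]), (10,0,[731,1401,176]), (4,0,[553,1405,124]), (10,0,[555,1405,126]),
    (5,0,[781,1409,949]), (10,0,[1260,1409,362]), (3,0,[658,1411,293]), (4,0,[715,1413,1046]),
    (10,0,[717,1413,1113]), (3,0,[1283,1417,310]), (10,0,[719,1419,228]), (3,0,[1273,1421,230]),
    (3,0,[1324,1423,227]), (3,0,[708,1425,536]), (4,0,[1107,1427,294]), (5,0,[1150,1427,167]),
    (10,0,[1265,1429,378]), (3,0,[1269,1431,1219]), (4,0,[1231,1433,476]), (3,0,[1274,1435,380]),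
    (10,0,[654,1437,386]), (10,0,[766,1439,228]), (4,0,[1163,1441,1154]), (5,0,[711,1441,1157]),
    (10,0,[542,1441,704]), (5,0,[467,1443,988]), (10,0,[296,1443]), (4,0,[1149,1445,164]),
    (3,0,[646,1447,1057]), (3,0,[1219,1448]), (5,0,[1449,1220,1448,724]), (3,0,[1233,1451,1159]),
    (10,0,[480,1451]), (4,0,[1276,1453,556]), (10,0,[560,1453]), (3,0,[456,1455,1114]),
    (4,0,[765,1457,950]), (5,0,[622,1457,382]), (5,0,[661,1459]), (3,0,[1294,1461,537]),
    (10,0,[704,1462]), (4,0,[1210,1465,283]), (10,0,[1109,1465,978]), (10,0,[392,1469,910]),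
    (10,0,[450,1471]), (3,0,[1337,1474,1472]), (4,0,[1279,1474,1170]), (5,0,[724,1474]),
    (10,0,[656,1477]), (10,0,[720,1481]), (3,0,[1114,1484]), (10,0,[458,1484]),
    (5,0,[1311,1487,232]), (3,0,[426,1489,562]), (4,0,[621,1489,1058]), (10,0,[625,1489,1060]),
    (4,0,[1293,1493,1042]), (10,0,[742,1493,363]), (10,0,[1213,1497,286]), (5,0,[300,1499]),
    (3,0,[391,1501,129]), (5,0,[234,1501]), (4,0,[1335,1505,1110]), (10,0,[790,1505,1112]),
    (5,0,[1490,1507]), (3,0,[1203,1519,388]), (4,0,[636,1519,1001]), (10,0,[1208,1519,952]),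
    (3,0,[562,1520]), (3,0,[1302,1523,544]), (10,0,[1191,1523,1044]), (3,0,[769,1525,470]),
    (5,0,[745,1527,986]), (10,0,[602,1527,1035]), (3,0,[741,1529,217]), (5,0,[1244,1529,949]),
    (3,0,[651,1531,982]), (5,0,[452,1531]), (4,0,[573,1535,885]), (5,0,[1063,1535,130]),
    (10,0,[750,1539,379]), (3,0,[680,1541,371]), (5,0,[1239,1541,1049]), (10,0,[1089,1545,570]),
    (3,0,[438,1547,482]), (10,0,[1152,1547,998]), (3,0,[644,1549,236]), (5,0,[1305,1553,1257]),
    (10,0,[1314,1553,712]), (3,0,[520,1555,368]), (10,0,[1297,1559,1039]), (3,0,[414,1561,1030]),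
    (5,0,[1071,1561,1033]), (5,0,[1352,1563,119]), (10,0,[1306,1563,218]), (10,0,[793,1565,378]),
    (5,0,[1215,1567,306]), (5,0,[1226,1571,220]), (3,0,[236,1573]), (4,0,[395,1573,923]),
    (10,0,[397,1573,953]), (3,0,[1290,1575,227]), (5,0,[608,1575,948]), (4,0,[1131,1577,223]),
    (5,0,[500,1577,946]), (3,0,[502,1579,371]), (10,0,[570,1580]), (3,0,[482,1582]),
    (10,0,[675,1582,277]), (3,0,[534,1585,316]), (2,0,[1587,1573]), (4,0,[1091,1635,923]),
    (10,0,[446,1635,953]), (3,0,[706,1588,778]), (2,0,[1556,1591]), (10,0,[712,1642,664]),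
    (3,0,[368,1592]), (4,0,[547,1592,1145]), (3,0,[755,1595,171]), (5,0,[614,1595,987]),
    (4,0,[417,1597,954]), (5,0,[252,1597,239]), (3,0,[1031,1598,257]), (5,0,[1599,1032,1598]),
    (3,0,[794,1601,873]), (5,0,[760,1603,366]), (3,0,[1340,1605,1057]), (10,0,[665,1607,1061]),
    (3,0,[1225,1609,1647]), (3,0,[1120,1613,316]), (3,0,[579,1615,388]), (10,0,[1316,1617,228]),
    (4,0,[420,1619]), (10,0,[599,1621,1407]), (3,0,[324,1623,925]), (4,0,[1007,1625,223]),
    (3,0,[785,1631,905]), (4,0,[1029,1633,486]), (10,0,[356,1633,488]), (10,0,[1627,1637,999]),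
    (3,0,[278,1639,388]), (5,0,[445,1639,233]), (3,0,[778,1640]), (5,0,[1351,1651,93]),
    (10,0,[422,1653]), (10,0,[605,1655,1402]), (3,0,[138,1657,891]), (4,0,[955,1659,931]),
    (10,0,[797,1663,172]), (3,0,[616,1665,544]), (5,0,[776,1667,285]), (2,0,[1645,1669]),
    (3,0,[544,1717,1551]), (2,0,[1648,1671]), (10,0,[518,1721,343]), (10,0,[727,1675]),
    (3,0,[1698,1677,380]), (5,0,[1183,1681,886]), (4,0,[927,1683,183]), (10,0,[186,1683,318]),
    (5,0,[248,1685,886]), (4,0,[1329,1687,157]), (2,0,[1689,1673]), (10,0,[489,1738,215]),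
    (3,0,[388,1693,1629]), (10,0,[1725,1693,998]), (2,0,[1695,1693]), (3,0,[1628,1746]),
    (5,0,[312,1746,280]), (3,0,[641,1697,230]), (3,0,[628,1701,90]), (2,0,[1705,1659]),
    (5,0,[1288,1757,141]), (3,0,[1707,890,1706]), (4,0,[931,1708]), (10,0,[929,1708]),
    (3,0,[1357,1711,983]), (2,0,[1713,1717]), (10,0,[424,1769,1060]), (4,0,[1199,1715,282]),
    (4,0,[1058,1719]), (5,0,[366,1719,428]), (10,0,[1045,1719,265]), (3,0,[1722,1014,1723,199]),
    (5,0,[1018,1723,1013]), (4,0,[1168,1727,556]), (5,0,[540,1727,558]), (4,0,[1286,1729]),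
    (10,0,[104,1731,184]), (10,0,[318,1732]), (10,0,[136,1735,134]), (2,0,[1691,1741]),
    (3,0,[1796,942,1797,117]), (3,0,[1748,1742]), (4,0,[975,1742]), (10,0,[276,1742,952]),
    (2,0,[1736,1745]), (5,0,[180,1806,901]), (3,0,[449,1750,310]), (5,0,[280,1750]),
    (5,0,[1205,1753]), (10,0,[432,1755,168]), (4,0,[1788,1759]), (4,0,[1253,1767,980]),
    (5,0,[306,1770,969]), (10,0,[1060,1770]), (10,0,[436,1773,978]), (5,0,[428,1776]),
    (5,0,[220,1779,963]), (3,0,[198,1781]), (5,0,[1012,1781,109]), (3,0,[1020,1783,337]),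
    (3,0,[723,1785,1166]), (5,0,[564,1785,1235]), (4,0,[1228,1786,538]), (5,0,[558,1786]),
    (10,0,[184,1790]), (10,0,[134,1794]), (3,0,[116,1799]), (5,0,[938,1799,65]), (4,0,[156,1805]),
    (3,0,[150,1808,178]), (5,0,[901,1808]), (5,0,[1814,1811]), (3,0,[266,1817,298]),
    (5,0,[696,1821,1532]), (5,0,[969,1822]), (3,0,[272,1827,209]), (3,0,[258,1830,935]),
    (5,0,[963,1830]), (3,0,[336,1835,106]), (4,0,[966,1837,937]), (5,0,[1326,1839]),
    (3,0,[783,1840,1167]), (5,0,[668,1843]), (3,0,[202,1853,62]), (3,0,[178,1856]),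
    (10,0,[921,1856,154]), (3,0,[298,1862]), (10,0,[993,1862,268]), (3,0,[522,1865,1891]),
    (4,0,[152,1869]), (5,0,[903,1869,210]), (3,0,[935,1870]), (10,0,[196,1870]), (5,0,[194,1875]),
    (5,0,[1878,1881]), (5,0,[112,1885]), (10,0,[154,1888]), (2,0,[1893,1877]), (5,0,[200,1912]),
    (10,0,[345,1912]), (10,0,[1916,1895]), (5,0,[210,1898])]

def tLR : List (ℕ × List ℕ) :=
    [(0,[799,801,803,0]), (1,[2,805,4,1]), (2,[3,6,8,10]), (3,[12,809,5,807]), (4,[811,7,14,16]),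
    (5,[18,813,9,20]), (6,[817,815,22,11]), (7,[13,24,819,26]), (8,[28,812,15,30]),
    (9,[816,814,32,17]), (10,[19,34,818,36]), (11,[38,827,40,21]), (12,[42,821,23,833]),
    (13,[823,25,831,44]), (14,[46,837,48,27]), (15,[29,50,825,52]), (16,[54,826,56,31]),
    (17,[58,829,33,847]), (18,[841,35,830,60]), (19,[62,851,64,37]), (20,[39,66,68,70]),
    (21,[72,835,41,832]), (22,[43,74,849,76]), (23,[78,836,80,45]), (24,[47,82,84,865]),
    (25,[86,839,49,853]), (26,[840,51,843,88]), (27,[90,867,92,53]), (28,[55,94,96,98]),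
    (29,[100,845,57,846]), (30,[59,102,848,1846]), (31,[106,850,108,61]), (32,[63,110,1909,114]),
    (33,[1851,855,65,852]), (34,[873,67,118,120]), (35,[122,124,69,126]), (36,[128,885,130,71]),
    (37,[73,1819,887,1849]), (38,[857,75,859,1848]), (39,[1761,1818,140,77]),
    (40,[79,142,144,861]), (41,[146,863,81,881]), (42,[895,83,148,864]), (43,[1886,1897,85,1911]),
    (44,[87,1855,1859,158]), (45,[160,866,162,89]), (46,[91,164,166,168]), (47,[170,871,93,869]),
    (48,[872,95,889,172]), (49,[174,883,97,176]), (50,[1887,915,1858,99]), (51,[101,182,917,1847]),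
    (52,[875,103,877,1792]), (54,[107,192,1905,1903]), (55,[1833,879,109,880]),
    (56,[933,111,1915,1910]), (58,[208,1896,1921,115]), (60,[216,882,119,218]),
    (61,[1901,884,1872,121]), (62,[123,222,886,1407]), (63,[226,125,888,228]),
    (64,[230,951,232,127]), (65,[129,913,1537,911]), (66,[1611,1854,131,953]),
    (71,[256,1763,141,1765]), (72,[894,143,1920,897]), (73,[1900,899,145,1902]),
    (74,[147,262,1873,264]), (75,[1890,898,149,1918]), (80,[1801,1803,1813,159]),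
    (81,[161,282,284,286]), (82,[288,907,163,909]), (83,[977,165,290,910]),
    (84,[292,294,167,1467]), (85,[1891,912,1533,169]), (86,[171,302,987,1039]),
    (87,[983,914,1866,173]), (88,[175,1762,916,1764]), (89,[310,945,1812,177]),
    (92,[925,183,947,1793]), (97,[932,193,1914,1919]), (105,[209,981,1532,979]),
    (109,[217,1678,949,362]), (110,[364,944,1828,219]), (112,[370,223,946,1415]),
    (114,[227,1047,948,378]), (115,[380,950,382,229]), (116,[231,384,1861,386]),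
    (117,[1800,1802,233,952]), (129,[257,1679,1661,1703]), (132,[965,263,1867,1824]),
    (133,[1550,1774,1829,265]), (142,[976,283,989,978]), (143,[1056,985,285,1503]),
    (144,[982,980,1569,287]), (145,[289,454,1055,1099]), (146,[1514,984,291,1517]),
    (147,[293,1043,986,1702]), (148,[460,295,988,1466]), (152,[995,303,468,1041]),
    (156,[311,476,1860,1479]), (182,[536,1042,1097,363]), (183,[365,538,1844,1494]),
    (186,[371,1046,1049,1113]), (190,[1057,1111,1054,379]), (191,[381,556,1845,1483]),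
    (192,[1551,1775,383,1825]), (193,[1167,385,1907,566]), (194,[1515,1171,1542,387]),
    (228,[1095,455,1096,1098]), (231,[461,1155,1543,1511]), (235,[1473,1110,469,1112]),
    (239,[1159,477,1883,1478]), (269,[537,1154,1157,1495]), (270,[1158,539,1882,1510]),
    (279,[1166,557,1906,1513]), (284,[1472,1170,1509,567])]

theorem tLC : check id (rl (ex [1,2])) [1,2,3] [1,2,3,4] tLF tLS tLR = true := by
  decide +kernel

def tMF : Tr :=
    (.node (.node (.node (.node (.node (.node (.node (.node (.node (.node (.node .leaf 263 0 268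
    .leaf) 38 1 38 .leaf) 160 4 256 (.node .leaf 432 2 386 .leaf)) 71 1 128 (.node (.node .leaf 227
    2 136 .leaf) 270 3 384 (.node .leaf 446 0 310 .leaf))) 35 4 64 (.node (.node (.node (.node
    .leaf 84 4 62 .leaf) 141 2 80 .leaf) 209 4 320 (.node .leaf 473 4 449 .leaf)) 110 3 192 (.node
    (.node .leaf 344 4 339 .leaf) 343 3 448 (.node .leaf 309 4 309 .leaf)))) 19 1 32 (.node (.node
    (.node (.node (.node .leaf 174 0 281 .leaf) 90 4 56 .leaf) 183 4 288 (.node .leaf 450 3 355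
    .leaf)) 90 3 160 (.node (.node .leaf 274 4 173 .leaf) 301 3 416 (.node .leaf 94 0 370 .leaf)))
    53 3 96 (.node (.node (.node (.node .leaf 185 4 185 .leaf) 183 2 117 .leaf) 237 1 352 (.node
    .leaf 128 0 373 .leaf)) 133 2 224 (.node (.node .leaf 391 4 334 .leaf) 389 2 480 (.node .leaf
    148 0 157 .leaf))))) 8 4 16 (.node (.node (.node (.node (.node (.node .leaf 209 0 377 .leaf) 63
    3 48 .leaf) 171 4 272 (.node .leaf 347 0 327 .leaf)) 81 2 144 (.node (.node .leaf 250 2 197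
    .leaf) 284 4 400 (.node .leaf 344 0 226 .leaf))) 44 4 80 (.node (.node (.node (.node .leaf 144
    0 294 .leaf) 166 2 124 .leaf) 222 4 336 (.node .leaf 477 0 354 .leaf)) 120 3 208 (.node (.node
    .leaf 368 1 310 .leaf) 368 4 464 (.node .leaf 163 0 331 .leaf)))) 28 2 48 (.node (.node (.node
    (.node (.node .leaf 209 2 165 .leaf) 116 4 66 .leaf) 196 4 304 (.node .leaf 466 0 366 .leaf))
    101 1 176 (.node (.node .leaf 305 2 241 .leaf) 323 3 432 (.node .leaf 239 0 249 .leaf))) 62 2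
    112 (.node (.node (.node (.node .leaf 188 1 148 .leaf) 197 4 122 .leaf) 254 2 368 (.node .leaf
    339 0 369 .leaf)) 148 4 240 (.node (.node .leaf 414 2 374 .leaf) 15 3 15 (.node .leaf 103 4 118
    .leaf)))))) 4 3 8 (.node (.node (.node (.node (.node (.node (.node .leaf 106 2 123 .leaf) 48 1
    34 .leaf) 166 1 264 (.node .leaf 434 0 345 .leaf)) 76 4 136 (.node (.node .leaf 240 2 236
    .leaf) 279 1 392 (.node .leaf 69 0 275 .leaf))) 40 2 72 (.node (.node (.node (.node .leaf 100 0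
    387 .leaf) 152 2 99 .leaf) 215 4 328 (.node .leaf 479 3 390 .leaf)) 115 3 200 (.node (.node
    .leaf 357 1 314 .leaf) 360 1 456 (.node .leaf 169 0 256 .leaf)))) 23 1 40 (.node (.node (.node
    (.node (.node .leaf 172 3 207 .leaf) 101 2 98 .leaf) 191 2 296 (.node .leaf 461 2 366 .leaf))
    95 3 168 (.node (.node .leaf 285 1 227 .leaf) 311 4 424 (.node .leaf 125 0 184 .leaf))) 57 4
    104 (.node (.node (.node (.node .leaf 175 2 188 .leaf) 192 4 111 .leaf) 249 3 360 (.node .leaf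
    71 0 257 .leaf)) 141 1 232 (.node (.node .leaf 400 1 341 .leaf) 3 2 3 (.node .leaf 178 0 179
    .leaf))))) 14 1 24 (.node (.node (.node (.node (.node (.node .leaf 85 0 122 .leaf) 79 1 79
    .leaf) 179 1 280 (.node .leaf 444 4 444 .leaf)) 85 1 152 (.node (.node .leaf 262 3 215 .leaf)
    296 4 408 (.node .leaf 166 0 412 .leaf))) 49 1 88 (.node (.node (.node (.node .leaf 35 4 44
    .leaf) 178 3 174 .leaf) 230 3 344 (.node .leaf 158 0 386 .leaf)) 126 4 216 (.node (.node .leaf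
    378 1 322 .leaf) 376 4 472 (.node .leaf 207 0 274 .leaf)))) 32 2 56 (.node (.node (.node (.node
    (.node .leaf 120 0 237 .leaf) 131 1 131 .leaf) 202 4 312 (.node .leaf 368 4 364 .leaf)) 106 1
    184 (.node (.node .leaf 325 3 320 .leaf) 332 3 440 (.node .leaf 138 0 423 .leaf))) 67 4 120
    (.node (.node (.node .leaf 214 3 128 .leaf) 263 1 376 (.node .leaf 230 1 159 .leaf)) 156 1 248
    (.node (.node .leaf 427 1 359 .leaf) 26 1 18 (.node .leaf 89 1 89 .leaf))))))) 2 2 4 (.node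
    (.node (.node (.node (.node (.node (.node (.node .leaf 162 0 324 .leaf) 42 4 24 .leaf) 162 3
    260 (.node .leaf 441 1 335 .leaf)) 74 4 132 (.node (.node .leaf 237 2 153 .leaf) 273 2 388
    (.node .leaf 169 0 311 .leaf))) 37 4 68 (.node (.node (.node (.node .leaf 74 2 89 .leaf) 146 1
    87 .leaf) 213 1 324 (.node .leaf 425 3 475 .leaf)) 113 1 196 (.node (.node .leaf 352 3 248
    .leaf) 354 4 452 (.node .leaf 36 0 384 .leaf)))) 20 4 36 (.node (.node (.node (.node (.node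
    .leaf 231 0 156 .leaf) 96 4 71 .leaf) 186 1 292 (.node .leaf 455 2 416 .leaf)) 93 3 164 (.node
    (.node .leaf 278 2 188 .leaf) 308 3 420 (.node .leaf 118 2 128 .leaf))) 55 1 100 (.node (.node
    (.node (.node .leaf 189 0 335 .leaf) 189 1 119 .leaf) 245 1 356 (.node .leaf 364 0 344 .leaf))
    136 1 228 (.node (.node .leaf 396 1 284 .leaf) 0 2 0 (.node .leaf 76 0 116 .leaf))))) 11 1 20
    (.node (.node (.node (.node (.node (.node .leaf 145 0 206 .leaf) 72 4 72 .leaf) 174 4 276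
    (.node .leaf 400 3 329 .leaf)) 83 3 148 (.node (.node .leaf 257 1 204 .leaf) 291 1 404 (.node
    .leaf 118 0 180 .leaf))) 46 3 84 (.node (.node (.node (.node .leaf 146 3 120 .leaf) 171 3 100
    .leaf) 226 4 340 (.node .leaf 253 0 476 .leaf)) 124 1 212 (.node (.node .leaf 372 2 258 .leaf)
    373 2 468 (.node .leaf 378 0 248 .leaf)))) 30 2 52 (.node (.node (.node (.node (.node .leaf 162
    1 213 .leaf) 125 4 121 .leaf) 199 4 308 (.node .leaf 459 0 369 .leaf)) 103 4 180 (.node (.node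
    .leaf 316 2 302 .leaf) 327 4 436 (.node .leaf 230 0 226 .leaf))) 64 3 116 (.node (.node (.node
    (.node .leaf 186 1 198 .leaf) 202 3 118 .leaf) 257 4 372 (.node .leaf 128 0 204 .leaf)) 151 3
    244 (.node (.node .leaf 420 2 367 .leaf) 21 4 12 (.node .leaf 411 0 404 .leaf)))))) 6 3 12
    (.node (.node (.node (.node (.node (.node (.node .leaf 120 0 390 .leaf) 55 4 41 .leaf) 169 1
    268 (.node .leaf 443 2 391 .leaf)) 79 3 140 (.node (.node .leaf 245 2 160 .leaf) 282 2 396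
    (.node .leaf 144 0 361 .leaf))) 43 1 76 (.node (.node (.node (.node .leaf 141 0 63 .leaf) 159 4
    91 .leaf) 220 1 332 (.node .leaf 456 4 482 .leaf)) 118 2 204 (.node (.node .leaf 362 2 307
    .leaf) 364 4 460 (.node .leaf 259 0 287 .leaf)))) 25 1 44 (.node (.node (.node (.node (.node
    .leaf 177 3 169 .leaf) 110 2 89 .leaf) 193 4 300 (.node .leaf 424 1 467 .leaf)) 98 4 172 (.node
    (.node .leaf 291 2 272 .leaf) 315 4 428 (.node .leaf 39 0 329 .leaf))) 59 4 108 (.node (.node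
    (.node (.node .leaf 198 0 292 .leaf) 155 0 86 .leaf) 252 1 364 (.node .leaf 116 0 398 .leaf))
    145 4 236 (.node (.node .leaf 405 4 293 .leaf) 9 1 6 (.node .leaf 224 4 224 .leaf))))) 16 1 28
    (.node (.node (.node (.node (.node (.node .leaf 110 0 74 .leaf) 85 2 65 .leaf) 181 2 284 (.node
    .leaf 385 0 344 .leaf)) 87 3 156 (.node (.node .leaf 267 3 210 .leaf) 299 4 412 (.node .leaf 66
    0 270 .leaf))) 51 2 92 (.node (.node (.node (.node .leaf 171 0 272 .leaf) 134 0 176 .leaf) 235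
    1 348 (.node .leaf 89 0 448 .leaf)) 129 4 220 (.node (.node .leaf 382 3 324 .leaf) 381 3 476
    (.node .leaf 215 0 439 .leaf)))) 34 3 60 (.node (.node (.node (.node (.node .leaf 150 0 195
    .leaf) 137 3 133 .leaf) 206 3 316 (.node .leaf 413 0 458 .leaf)) 108 3 188 (.node (.node .leaf
    335 4 277 .leaf) 337 3 444 (.node .leaf 128 0 104 .leaf))) 69 3 124 (.node (.node (.node .leaf
    224 1 140 .leaf) 266 2 380 (.node .leaf 50 0 480 .leaf)) 158 3 252 (.node (.node .leaf 429 2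
    320 .leaf) 30 3 22 (.node .leaf 66 0 375 .leaf)))))))) 1 1 2 (.node (.node (.node (.node (.node
    (.node (.node (.node (.node .leaf 264 0 269 .leaf) 40 4 40 .leaf) 161 4 258 (.node .leaf 435 2
    327 .leaf)) 73 4 130 (.node (.node .leaf 233 4 187 .leaf) 271 3 386 (.node .leaf 53 0 255
    .leaf))) 36 3 66 (.node (.node (.node (.node .leaf 80 0 35 .leaf) 144 4 105 .leaf) 212 2 322
    (.node .leaf 474 1 451 .leaf)) 112 1 194 (.node (.node .leaf 348 2 292 .leaf) 354 1 450 (.node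
    .leaf 212 0 111 .leaf)))) 20 2 34 (.node (.node (.node (.node (.node .leaf 130 0 411 .leaf) 92
    1 92 .leaf) 184 4 290 (.node .leaf 453 1 370 .leaf)) 92 4 162 (.node (.node .leaf 275 3 193
    .leaf) 304 3 418 (.node .leaf 268 0 401 .leaf))) 54 3 98 (.node (.node (.node (.node .leaf 63 4
    79 .leaf) 185 1 130 .leaf) 243 3 354 (.node .leaf 159 0 343 .leaf)) 135 1 226 (.node (.node
    .leaf 394 1 342 .leaf) 402 3 482 (.node .leaf 46 0 197 .leaf))))) 10 2 18 (.node (.node (.node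
    (.node (.node (.node .leaf 70 4 126 .leaf) 69 2 39 .leaf) 172 3 274 (.node .leaf 349 4 379
    .leaf)) 81 4 146 (.node (.node .leaf 255 3 161 .leaf) 288 1 402 (.node .leaf 77 0 446 .leaf)))
    45 3 82 (.node (.node (.node (.node .leaf 167 1 209 .leaf) 167 4 163 .leaf) 225 1 338 (.node
    .leaf 452 0 384 .leaf)) 123 2 210 (.node (.node .leaf 371 2 275 .leaf) 372 1 466 (.node .leaf
    126 4 454 .leaf)))) 28 4 50 (.node (.node (.node (.node (.node .leaf 264 0 177 .leaf) 120 2 68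
    .leaf) 199 2 306 (.node .leaf 468 1 461 .leaf)) 102 2 178 (.node (.node .leaf 306 4 243 .leaf)
    324 4 434 (.node .leaf 310 0 395 .leaf))) 63 1 114 (.node (.node (.node (.node .leaf 108 1 150
    .leaf) 200 2 192 .leaf) 255 2 370 (.node .leaf 96 0 161 .leaf)) 150 4 242 (.node (.node .leaf
    417 1 308 .leaf) 17 2 17 (.node .leaf 248 0 172 .leaf)))))) 5 1 10 (.node (.node (.node (.node
    (.node (.node (.node .leaf 325 0 165 .leaf) 52 3 52 .leaf) 168 1 266 (.node .leaf 382 0 407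
    .leaf)) 77 4 138 (.node (.node .leaf 241 3 239 .leaf) 280 2 394 (.node .leaf 216 0 289 .leaf)))
    41 1 74 (.node (.node (.node (.node .leaf 130 0 404 .leaf) 154 1 154 .leaf) 216 3 330 (.node
    .leaf 481 1 425 .leaf)) 117 1 202 (.node (.node .leaf 358 1 299 .leaf) 362 4 458 (.node .leaf
    93 0 117 .leaf)))) 24 2 42 (.node (.node (.node (.node (.node .leaf 105 0 382 .leaf) 103 3 97
    .leaf) 192 1 298 (.node .leaf 463 4 367 .leaf)) 96 1 170 (.node (.node .leaf 288 2 203 .leaf)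
    313 3 426 (.node .leaf 328 0 184 .leaf))) 58 3 106 (.node (.node (.node (.node .leaf 295 0 148
    .leaf) 194 3 194 .leaf) 251 3 362 (.node .leaf 242 0 482 .leaf)) 142 3 234 (.node (.node .leaf
    403 2 290 .leaf) 8 2 5 (.node .leaf 224 0 309 .leaf))))) 15 2 26 (.node (.node (.node (.node
    (.node (.node .leaf 44 0 64 .leaf) 82 4 82 .leaf) 180 1 282 (.node .leaf 445 4 404 .leaf)) 86 2
    154 (.node (.node .leaf 265 2 211 .leaf) 298 2 410 (.node .leaf 338 0 410 .leaf))) 50 1 90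
    (.node (.node (.node (.node .leaf 60 4 74 .leaf) 103 0 139 .leaf) 234 2 346 (.node .leaf 219 0
    468 .leaf)) 127 3 218 (.node (.node .leaf 379 3 327 .leaf) 380 4 474 (.node .leaf 121 0 215
    .leaf)))) 32 4 58 (.node (.node (.node (.node (.node .leaf 111 0 220 .leaf) 134 3 78 .leaf) 204
    3 314 (.node .leaf 419 0 422 .leaf)) 107 4 186 (.node (.node .leaf 330 4 218 .leaf) 334 3 442
    (.node .leaf 224 0 337 .leaf))) 68 3 122 (.node (.node (.node .leaf 221 2 132 .leaf) 264 2 378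
    (.node .leaf 137 0 369 .leaf)) 157 3 250 (.node (.node .leaf 428 2 350 .leaf) 29 2 29 (.node
    .leaf 269 0 177 .leaf))))))) 2 4 6 (.node (.node (.node (.node (.node (.node (.node (.node
    .leaf 207 0 326 .leaf) 47 4 47 .leaf) 165 2 262 (.node .leaf 442 2 345 .leaf)) 75 4 134 (.node
    (.node .leaf 238 3 198 .leaf) 274 1 390 (.node .leaf 214 0 314 .leaf))) 39 1 70 (.node (.node
    (.node (.node .leaf 59 0 393 .leaf) 149 3 86 .leaf) 214 2 326 (.node .leaf 477 2 430 .leaf))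
    114 4 198 (.node (.node .leaf 353 1 247 .leaf) 357 4 454 (.node .leaf 89 0 158 .leaf)))) 22 2
    38 (.node (.node (.node (.node (.node .leaf 182 2 326 .leaf) 97 1 56 .leaf) 187 3 294 (.node
    .leaf 457 3 415 .leaf)) 94 3 166 (.node (.node .leaf 281 4 188 .leaf) 309 4 422 (.node .leaf
    126 0 357 .leaf))) 57 1 102 (.node (.node (.node (.node .leaf 186 0 293 .leaf) 147 3 190 .leaf)
    248 2 358 (.node .leaf 71 0 258 .leaf)) 137 4 230 (.node (.node .leaf 398 2 343 .leaf) 1 2 1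
    (.node .leaf 227 0 91 .leaf))))) 12 1 22 (.node (.node (.node (.node (.node (.node .leaf 247 0
    427 .leaf) 76 3 44 .leaf) 175 3 278 (.node .leaf 437 3 332 .leaf)) 84 2 150 (.node (.node .leaf
    260 2 208 .leaf) 294 2 406 (.node .leaf 309 0 337 .leaf))) 47 1 86 (.node (.node (.node (.node
    .leaf 150 4 112 .leaf) 174 1 174 .leaf) 228 4 342 (.node .leaf 270 0 461 .leaf)) 126 1 214
    (.node (.node .leaf 376 2 331 .leaf) 374 1 470 (.node .leaf 213 0 287 .leaf)))) 31 1 54 (.node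
    (.node (.node (.node (.node .leaf 207 2 182 .leaf) 129 3 74 .leaf) 201 2 310 (.node .leaf 369 2
    364 .leaf)) 104 3 182 (.node (.node .leaf 319 3 268 .leaf) 329 3 438 (.node .leaf 226 4 137
    .leaf))) 66 1 118 (.node (.node (.node .leaf 207 4 123 .leaf) 258 3 374 (.node .leaf 126 0 403
    .leaf)) 153 1 246 (.node (.node .leaf 424 2 312 .leaf) 23 2 14 (.node .leaf 58 0 267
    .leaf)))))) 7 4 14 (.node (.node (.node (.node (.node (.node (.node .leaf 124 0 332 .leaf) 61 2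
    36 .leaf) 170 2 270 (.node .leaf 346 4 435 .leaf)) 80 1 142 (.node (.node .leaf 247 4 189
    .leaf) 282 4 398 (.node .leaf 446 0 395 .leaf))) 43 4 78 (.node (.node (.node (.node .leaf 126
    1 182 .leaf) 162 2 93 .leaf) 221 1 334 (.node .leaf 430 0 451 .leaf)) 119 4 206 (.node (.node
    .leaf 364 3 254 .leaf) 366 1 462 (.node .leaf 383 0 299 .leaf)))) 27 1 46 (.node (.node (.node
    (.node (.node .leaf 66 4 471 .leaf) 114 3 109 .leaf) 195 3 302 (.node .leaf 469 1 403 .leaf))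
    100 2 174 (.node (.node .leaf 296 1 251 .leaf) 321 4 430 (.node .leaf 127 0 126 .leaf))) 60 4
    110 (.node (.node (.node (.node .leaf 353 0 175 .leaf) 154 4 154 .leaf) 252 4 366 (.node .leaf
    431 0 307 .leaf)) 147 2 238 (.node (.node .leaf 409 4 359 .leaf) 12 2 12 (.node .leaf 104 2 118
    .leaf))))) 17 1 30 (.node (.node (.node (.node (.node (.node .leaf 91 4 135 .leaf) 88 3 51
    .leaf) 182 1 286 (.node .leaf 448 1 386 .leaf)) 89 1 158 (.node (.node .leaf 268 4 262 .leaf)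
    300 3 414 (.node .leaf 159 0 252 .leaf))) 52 4 94 (.node (.node (.node (.node .leaf 295 0 391
    .leaf) 180 2 104 .leaf) 236 1 350 (.node .leaf 252 0 271 .leaf)) 132 1 222 (.node (.node .leaf
    387 4 278 .leaf) 388 3 478 (.node .leaf 70 0 218 .leaf)))) 35 1 62 (.node (.node (.node (.node
    (.node .leaf 88 4 148 .leaf) 138 3 138 .leaf) 209 1 318 (.node .leaf 472 1 399 .leaf)) 109 4
    190 (.node (.node .leaf 337 2 225 .leaf) 339 1 446 (.node .leaf 146 0 479 .leaf))) 70 3 126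
    (.node (.node (.node .leaf 226 2 137 .leaf) 267 1 382 (.node .leaf 124 0 300 .leaf)) 159 1 254
    (.node (.node .leaf 430 1 420 .leaf) 33 4 25 (.node .leaf 319 0 165 .leaf))))))))) 0 4 1 (.node
    (.node (.node (.node (.node (.node (.node (.node (.node (.node .leaf 383 0 166 .leaf) 38 3 38
    .leaf) 161 2 257 (.node .leaf 433 1 331 .leaf)) 73 1 129 (.node (.node .leaf 231 2 220 .leaf)
    271 1 385 (.node .leaf 170 0 91 .leaf))) 36 1 65 (.node (.node (.node (.node .leaf 85 3 68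
    .leaf) 144 1 83 .leaf) 211 1 321 (.node .leaf 474 2 381 .leaf)) 111 1 193 (.node (.node .leaf
    344 2 339 .leaf) 349 2 449 (.node .leaf 166 0 299 .leaf)))) 19 3 33 (.node (.node (.node (.node
    (.node .leaf 73 0 298 .leaf) 91 2 66 .leaf) 184 2 289 (.node .leaf 451 3 363 .leaf)) 91 1 161
    (.node (.node .leaf 274 2 182 .leaf) 303 4 417 (.node .leaf 163 0 202 .leaf))) 54 2 97 (.node
    (.node (.node (.node .leaf 114 0 232 .leaf) 185 2 171 .leaf) 239 2 353 (.node .leaf 288 0 402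
    .leaf)) 133 4 225 (.node (.node .leaf 392 2 342 .leaf) 402 2 481 (.node .leaf 353 0 359
    .leaf))))) 9 3 17 (.node (.node (.node (.node (.node (.node .leaf 218 4 126 .leaf) 67 1 67
    .leaf) 172 1 273 (.node .leaf 327 4 234 .leaf)) 81 3 145 (.node (.node .leaf 253 1 240 .leaf)
    287 2 401 (.node .leaf 137 0 339 .leaf))) 45 1 81 (.node (.node (.node (.node .leaf 105 3 162
    .leaf) 166 4 166 .leaf) 224 4 337 (.node .leaf 367 0 381 .leaf)) 121 3 209 (.node (.node .leaf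
    370 3 299 .leaf) 369 3 465 (.node .leaf 93 0 433 .leaf)))) 28 3 49 (.node (.node (.node (.node
    (.node .leaf 263 1 169 .leaf) 119 2 88 .leaf) 198 1 305 (.node .leaf 366 1 372 .leaf)) 101 4
    177 (.node (.node .leaf 305 3 305 .leaf) 324 2 433 (.node .leaf 83 0 250 .leaf))) 62 4 113
    (.node (.node (.node (.node .leaf 305 0 186 .leaf) 198 2 149 .leaf) 254 4 369 (.node .leaf 339
    0 368 .leaf)) 150 1 241 (.node (.node .leaf 417 2 304 .leaf) 16 2 11 (.node .leaf 237 0 390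
    .leaf)))))) 4 4 9 (.node (.node (.node (.node (.node (.node (.node .leaf 213 0 259 .leaf) 52 1
    52 .leaf) 167 3 265 (.node .leaf 345 4 324 .leaf)) 77 1 137 (.node (.node .leaf 240 3 203
    .leaf) 279 3 393 (.node .leaf 215 0 290 .leaf))) 40 3 73 (.node (.node (.node (.node .leaf 276
    0 188 .leaf) 152 4 97 .leaf) 216 1 329 (.node .leaf 480 3 396 .leaf)) 116 1 201 (.node (.node
    .leaf 357 3 289 .leaf) 360 2 457 (.node .leaf 165 0 453 .leaf)))) 23 3 41 (.node (.node (.node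
    (.node (.node .leaf 83 0 449 .leaf) 102 3 59 .leaf) 191 4 297 (.node .leaf 461 3 452 .leaf)) 95
    4 169 (.node (.node .leaf 287 3 184 .leaf) 313 2 425 (.node .leaf 123 0 173 .leaf))) 58 1 105
    (.node (.node (.node (.node .leaf 175 3 175 .leaf) 194 2 114 .leaf) 250 1 361 (.node .leaf 214
    0 469 .leaf)) 142 2 233 (.node (.node .leaf 401 1 311 .leaf) 4 1 4 (.node .leaf 73 0 445
    .leaf))))) 14 3 25 (.node (.node (.node (.node (.node (.node .leaf 65 3 93 .leaf) 82 2 82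
    .leaf) 179 3 281 (.node .leaf 431 1 444 .leaf)) 85 3 153 (.node (.node .leaf 263 2 213 .leaf)
    297 1 409 (.node .leaf 124 0 193 .leaf))) 49 4 89 (.node (.node (.node (.node .leaf 76 4 66
    .leaf) 178 1 138 .leaf) 233 3 345 (.node .leaf 170 0 366 .leaf)) 127 1 217 (.node (.node .leaf
    378 3 326 .leaf) 379 2 473 (.node .leaf 328 0 125 .leaf)))) 32 3 57 (.node (.node (.node (.node
    (.node .leaf 208 0 146 .leaf) 134 2 130 .leaf) 203 1 313 (.node .leaf 421 3 369 .leaf)) 107 3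
    185 (.node (.node .leaf 328 2 216 .leaf) 334 2 441 (.node .leaf 75 0 338 .leaf))) 68 1 121
    (.node (.node (.node .leaf 217 2 207 .leaf) 263 4 377 (.node .leaf 340 0 368 .leaf)) 157 1 249
    (.node (.node .leaf 427 4 350 .leaf) 26 3 26 (.node .leaf 265 0 152 .leaf))))))) 2 3 5 (.node
    (.node (.node (.node (.node (.node (.node (.node .leaf 351 0 346 .leaf) 45 2 27 .leaf) 163 3
    261 (.node .leaf 441 3 346 .leaf)) 75 1 133 (.node (.node .leaf 238 1 238 .leaf) 273 3 389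
    (.node .leaf 219 0 118 .leaf))) 38 4 69 (.node (.node (.node (.node .leaf 132 0 60 .leaf) 148 2
    145 .leaf) 213 4 325 (.node .leaf 476 4 386 .leaf)) 113 3 197 (.node (.node .leaf 352 2 314
    .leaf) 356 2 453 (.node .leaf 90 0 168 .leaf)))) 21 1 37 (.node (.node (.node (.node (.node
    .leaf 286 0 126 .leaf) 96 2 71 .leaf) 186 3 293 (.node .leaf 456 3 361 .leaf)) 94 1 165 (.node
    (.node .leaf 279 2 179 .leaf) 309 2 421 (.node .leaf 202 0 331 .leaf))) 56 3 101 (.node (.node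
    (.node (.node .leaf 247 0 277 .leaf) 189 3 189 .leaf) 246 2 357 (.node .leaf 252 4 170 .leaf))
    136 3 229 (.node (.node .leaf 396 4 343 .leaf) 0 3 0 (.node .leaf 131 0 89 .leaf))))) 11 3 21
    (.node (.node (.node (.node (.node (.node .leaf 240 0 88 .leaf) 75 2 73 .leaf) 175 1 277 (.node
    .leaf 437 0 440 .leaf)) 84 1 149 (.node (.node .leaf 259 4 165 .leaf) 291 3 405 (.node .leaf 87
    0 389 .leaf))) 46 4 85 (.node (.node (.node (.node .leaf 111 4 129 .leaf) 173 2 106 .leaf) 228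
    2 341 (.node .leaf 463 0 266 .leaf)) 125 3 213 (.node (.node .leaf 376 3 264 .leaf) 373 3 469
    (.node .leaf 210 0 106 .leaf)))) 30 4 53 (.node (.node (.node (.node (.node .leaf 441 0 236
    .leaf) 127 2 121 .leaf) 200 1 309 (.node .leaf 460 0 368 .leaf)) 104 1 181 (.node (.node .leaf
    317 2 269 .leaf) 329 2 437 (.node .leaf 135 0 159 .leaf))) 65 3 117 (.node (.node (.node .leaf
    206 2 157 .leaf) 258 1 373 (.node .leaf 39 0 371 .leaf)) 152 3 245 (.node (.node .leaf 421 1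
    410 .leaf) 21 2 21 (.node .leaf 65 0 473 .leaf)))))) 7 2 13 (.node (.node (.node (.node (.node
    (.node (.node .leaf 121 2 126 .leaf) 60 2 49 .leaf) 169 3 269 (.node .leaf 443 4 441 .leaf)) 79
    4 141 (.node (.node .leaf 247 2 190 .leaf) 282 3 397 (.node .leaf 340 0 339 .leaf))) 43 2 77
    (.node (.node (.node (.node .leaf 156 4 140 .leaf) 159 2 116 .leaf) 220 3 333 (.node .leaf 428
    3 417 .leaf)) 118 4 205 (.node (.node .leaf 363 2 253 .leaf) 365 4 461 (.node .leaf 319 0 453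
    .leaf)))) 26 4 45 (.node (.node (.node (.node (.node .leaf 260 0 105 .leaf) 112 3 92 .leaf) 195
    1 301 (.node .leaf 470 3 403 .leaf)) 99 3 173 (.node (.node .leaf 292 4 232 .leaf) 319 4 429
    (.node .leaf 126 0 330 .leaf))) 60 1 109 (.node (.node (.node (.node .leaf 241 0 108 .leaf) 86
    4 86 .leaf) 252 2 365 (.node .leaf 91 0 396 .leaf)) 146 3 237 (.node (.node .leaf 408 2 297
    .leaf) 10 3 7 (.node .leaf 104 1 71 .leaf))))) 16 3 29 (.node (.node (.node (.node (.node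
    (.node .leaf 89 3 135 .leaf) 87 2 50 .leaf) 181 4 285 (.node .leaf 344 1 271 .leaf)) 88 4 157
    (.node (.node .leaf 268 2 259 .leaf) 300 1 413 (.node .leaf 50 0 266 .leaf))) 51 4 93 (.node
    (.node (.node (.node .leaf 175 0 278 .leaf) 134 1 101 .leaf) 235 3 349 (.node .leaf 251 0 432
    .leaf)) 131 4 221 (.node (.node .leaf 384 2 321 .leaf) 384 4 477 (.node .leaf 454 0 218
    .leaf)))) 34 4 61 (.node (.node (.node (.node (.node .leaf 236 0 119 .leaf) 138 2 78 .leaf) 207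
    3 317 (.node .leaf 413 4 362 .leaf)) 109 2 189 (.node (.node .leaf 336 2 277 .leaf) 338 2 445
    (.node .leaf 205 0 103 .leaf))) 70 2 125 (.node (.node (.node .leaf 224 3 224 .leaf) 266 4 381
    (.node .leaf 419 0 444 .leaf)) 158 4 253 (.node (.node .leaf 429 3 328 .leaf) 31 2 19 (.node
    .leaf 118 3 163 .leaf)))))))) 1 3 3 (.node (.node (.node (.node (.node (.node (.node (.node
    (.node .leaf 248 3 207 .leaf) 41 2 41 .leaf) 162 1 259 (.node .leaf 439 3 377 .leaf)) 74 2 131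
    (.node (.node .leaf 235 2 187 .leaf) 272 3 387 (.node .leaf 167 0 312 .leaf))) 37 2 67 (.node
    (.node (.node (.node .leaf 471 0 76 .leaf) 146 2 105 .leaf) 212 4 323 (.node .leaf 475 2 450
    .leaf)) 112 4 195 (.node (.node .leaf 351 4 237 .leaf) 354 2 451 (.node .leaf 445 0 298
    .leaf)))) 20 3 35 (.node (.node (.node (.node (.node .leaf 79 0 115 .leaf) 94 2 53 .leaf) 185 4
    291 (.node .leaf 453 3 401 .leaf)) 93 1 163 (.node (.node .leaf 276 2 175 .leaf) 307 1 419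
    (.node .leaf 269 0 358 .leaf))) 54 4 99 (.node (.node (.node (.node .leaf 150 0 187 .leaf) 186
    2 108 .leaf) 244 1 355 (.node .leaf 362 0 323 .leaf)) 135 4 227 (.node (.node .leaf 395 1 340
    .leaf) 0 1 0 (.node .leaf 65 0 164 .leaf))))) 10 4 19 (.node (.node (.node (.node (.node (.node
    .leaf 241 0 301 .leaf) 72 1 42 .leaf) 173 1 275 (.node .leaf 438 0 400 .leaf)) 82 1 147 (.node
    (.node .leaf 256 3 177 .leaf) 289 4 403 (.node .leaf 133 0 225 .leaf))) 46 2 83 (.node (.node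
    (.node (.node .leaf 350 0 335 .leaf) 169 2 163 .leaf) 225 3 339 (.node .leaf 426 0 475 .leaf))
    123 3 211 (.node (.node .leaf 371 1 289 .leaf) 372 3 467 (.node .leaf 435 0 237 .leaf)))) 29 1
    51 (.node (.node (.node (.node (.node .leaf 177 1 166 .leaf) 124 4 124 .leaf) 199 3 307 (.node
    .leaf 464 0 364 .leaf)) 102 4 179 (.node (.node .leaf 308 2 243 .leaf) 326 1 435 (.node .leaf
    423 0 280 .leaf))) 63 4 115 (.node (.node (.node (.node .leaf 175 1 247 .leaf) 200 4 156 .leaf)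
    257 3 371 (.node .leaf 95 0 424 .leaf)) 151 1 243 (.node (.node .leaf 419 3 309 .leaf) 18 3 13
    (.node .leaf 111 1 124 .leaf)))))) 5 4 11 (.node (.node (.node (.node (.node (.node (.node
    .leaf 99 3 123 .leaf) 55 2 55 .leaf) 168 2 267 (.node .leaf 382 4 294 .leaf)) 78 1 139 (.node
    (.node .leaf 242 2 151 .leaf) 280 4 395 (.node .leaf 241 0 360 .leaf))) 42 3 75 (.node (.node
    (.node (.node .leaf 185 0 291 .leaf) 156 2 111 .leaf) 219 3 331 (.node .leaf 482 1 418 .leaf))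
    117 4 203 (.node (.node .leaf 358 3 311 .leaf) 364 2 459 (.node .leaf 261 0 118 .leaf)))) 24 3
    43 (.node (.node (.node (.node (.node .leaf 152 3 167 .leaf) 107 1 107 .leaf) 193 2 299 (.node
    .leaf 464 2 369 .leaf)) 98 1 171 (.node (.node .leaf 288 3 242 .leaf) 315 2 427 (.node .leaf
    216 0 70 .leaf))) 59 2 107 (.node (.node (.node (.node .leaf 239 0 188 .leaf) 149 4 194 .leaf)
    251 4 363 (.node .leaf 254 0 230 .leaf)) 142 4 235 (.node (.node .leaf 405 2 393 .leaf) 9 2 6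
    (.node .leaf 140 0 200 .leaf))))) 15 4 27 (.node (.node (.node (.node (.node (.node .leaf 136 0
    66 .leaf) 83 4 65 .leaf) 180 3 283 (.node .leaf 447 2 444 .leaf)) 86 4 155 (.node (.node .leaf
    266 3 170 .leaf) 298 4 411 (.node .leaf 91 1 96 .leaf))) 50 3 91 (.node (.node (.node (.node
    .leaf 107 0 405 .leaf) 103 1 78 .leaf) 234 4 347 (.node .leaf 203 0 481 .leaf)) 128 2 219
    (.node (.node .leaf 380 3 322 .leaf) 381 1 475 (.node .leaf 69 0 437 .leaf)))) 33 1 59 (.node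
    (.node (.node (.node (.node .leaf 209 4 263 .leaf) 135 3 131 .leaf) 206 1 315 (.node .leaf 419
    4 309 .leaf)) 108 1 187 (.node (.node .leaf 333 2 229 .leaf) 336 1 443 (.node .leaf 133 4 133
    .leaf))) 69 1 123 (.node (.node (.node .leaf 223 2 143 .leaf) 265 1 379 (.node .leaf 66 0 282
    .leaf)) 158 2 251 (.node (.node .leaf 428 1 363 .leaf) 29 4 17 (.node .leaf 162 0 183
    .leaf))))))) 3 1 7 (.node (.node (.node (.node (.node (.node (.node (.node .leaf 106 1 125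
    .leaf) 47 2 47 .leaf) 165 3 263 (.node .leaf 442 4 433 .leaf)) 76 2 135 (.node (.node .leaf 238
    4 147 .leaf) 276 1 391 (.node .leaf 70 0 289 .leaf))) 39 3 71 (.node (.node (.node (.node .leaf
    102 4 178 .leaf) 150 3 144 .leaf) 215 1 327 (.node .leaf 478 2 397 .leaf)) 115 1 199 (.node
    (.node .leaf 356 3 246 .leaf) 359 3 455 (.node .leaf 167 0 245 .leaf)))) 22 4 39 (.node (.node
    (.node (.node (.node .leaf 172 1 156 .leaf) 99 1 61 .leaf) 188 1 295 (.node .leaf 459 3 421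
    .leaf)) 95 2 167 (.node (.node .leaf 283 2 256 .leaf) 310 4 423 (.node .leaf 326 0 352 .leaf)))
    57 2 103 (.node (.node (.node (.node .leaf 171 4 171 .leaf) 190 1 145 .leaf) 249 2 359 (.node
    .leaf 53 0 467 .leaf)) 140 4 231 (.node (.node .leaf 400 2 285 .leaf) 3 4 3 (.node .leaf 138 0
    280 .leaf))))) 13 4 23 (.node (.node (.node (.node (.node (.node .leaf 84 0 113 .leaf) 77 3 72
    .leaf) 178 4 279 (.node .leaf 406 3 443 .leaf)) 84 4 151 (.node (.node .leaf 262 1 167 .leaf)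
    294 4 407 (.node .leaf 309 0 419 .leaf))) 48 4 87 (.node (.node (.node (.node .leaf 119 4 145
    .leaf) 177 2 172 .leaf) 230 1 343 (.node .leaf 313 0 425 .leaf)) 126 2 215 (.node (.node .leaf
    377 2 325 .leaf) 375 4 471 (.node .leaf 211 0 99 .leaf)))) 31 3 55 (.node (.node (.node (.node
    (.node .leaf 165 4 213 .leaf) 130 3 130 .leaf) 202 2 311 (.node .leaf 465 0 421 .leaf)) 105 3
    183 (.node (.node .leaf 321 3 212 .leaf) 330 2 439 (.node .leaf 77 0 310 .leaf))) 67 3 119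
    (.node (.node (.node .leaf 210 1 125 .leaf) 261 1 375 (.node .leaf 150 0 456 .leaf)) 154 3 247
    (.node (.node .leaf 426 1 367 .leaf) 25 2 25 (.node .leaf 90 3 95 .leaf)))))) 8 1 15 (.node
    (.node (.node (.node (.node (.node (.node .leaf 121 0 439 .leaf) 62 3 37 .leaf) 170 4 271
    (.node .leaf 436 0 234 .leaf)) 80 3 143 (.node (.node .leaf 250 4 164 .leaf) 284 3 399 (.node
    .leaf 344 0 230 .leaf))) 44 2 79 (.node (.node (.node (.node .leaf 148 0 391 .leaf) 164 2 122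
    .leaf) 222 2 335 (.node .leaf 420 0 474 .leaf)) 120 1 207 (.node (.node .leaf 365 3 306 .leaf)
    366 3 463 (.node .leaf 317 0 248 .leaf)))) 27 3 47 (.node (.node (.node (.node (.node .leaf 318
    0 167 .leaf) 115 2 64 .leaf) 196 2 303 (.node .leaf 462 0 372 .leaf)) 100 4 175 (.node (.node
    .leaf 304 1 242 .leaf) 322 4 431 (.node .leaf 305 0 457 .leaf))) 61 3 111 (.node (.node (.node
    (.node .leaf 186 3 186 .leaf) 195 2 113 .leaf) 253 3 367 (.node .leaf 212 0 413 .leaf)) 148 1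
    239 (.node (.node .leaf 412 2 300 .leaf) 13 1 13 (.node .leaf 182 0 214 .leaf))))) 18 4 31
    (.node (.node (.node (.node (.node (.node .leaf 102 0 279 .leaf) 90 2 58 .leaf) 183 1 287
    (.node .leaf 449 3 391 .leaf)) 89 3 159 (.node (.node .leaf 270 1 219 .leaf) 301 2 415 (.node
    .leaf 95 0 160 .leaf))) 53 1 95 (.node (.node (.node (.node .leaf 188 4 174 .leaf) 182 4 106
    .leaf) 236 3 351 (.node .leaf 96 0 372 .leaf)) 132 3 223 (.node (.node .leaf 387 2 281 .leaf)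
    389 1 479 (.node .leaf 305 0 415 .leaf)))) 35 2 63 (.node (.node (.node (.node (.node .leaf 189
    0 350 .leaf) 140 2 129 .leaf) 209 2 319 (.node .leaf 473 1 384 .leaf)) 110 1 191 (.node (.node
    .leaf 340 2 230 .leaf) 340 3 447 (.node .leaf 156 0 273 .leaf))) 70 4 127 (.node (.node (.node
    .leaf 226 3 226 .leaf) 269 1 383 (.node .leaf 225 0 421 .leaf)) 160 1 255 (.node (.node .leaf
    431 2 323 .leaf) 33 2 33 (.node .leaf 262 0 209 .leaf))))))))))

def tMS : List (ℕ × ℕ × List ℕ) :=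
    [(0,0,[]), (0,0,[]), (0,0,[]), (0,0,[]), (0,0,[]), (0,0,[]), (0,0,[]), (0,0,[]), (0,0,[]),
    (0,0,[]), (0,0,[]), (0,0,[]), (0,0,[]), (0,0,[]), (0,0,[]), (0,0,[]), (0,0,[]), (0,0,[]),
    (0,0,[]), (0,0,[]), (0,0,[]), (0,0,[]), (0,0,[]), (0,0,[]), (0,0,[]), (0,0,[]), (0,0,[]),
    (0,0,[]), (0,0,[]), (0,0,[]), (0,0,[]), (0,0,[]), (0,0,[]), (0,0,[]), (0,0,[]), (0,0,[]),
    (0,0,[]), (0,0,[]), (0,0,[]), (0,0,[]), (0,0,[]), (0,0,[]), (0,0,[]), (0,0,[]), (0,0,[]),
    (0,0,[]), (0,0,[]), (0,0,[]), (0,0,[]), (0,0,[]), (0,0,[]), (0,0,[]), (0,0,[]), (0,0,[]),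
    (0,0,[]), (0,0,[]), (0,0,[]), (0,0,[]), (0,0,[]), (0,0,[]), (0,0,[]), (0,0,[]), (0,0,[]),
    (0,0,[]), (0,0,[]), (0,0,[]), (0,0,[]), (0,0,[]), (0,0,[]), (0,0,[]), (0,0,[]), (0,0,[]),
    (0,0,[]), (0,0,[]), (0,0,[]), (0,0,[]), (0,0,[]), (0,0,[]), (0,0,[]), (0,0,[]), (0,0,[]),
    (0,0,[]), (0,0,[]), (0,0,[]), (0,0,[]), (0,0,[]), (0,0,[]), (0,0,[]), (0,0,[]), (0,0,[]),
    (0,0,[]), (0,0,[]), (0,0,[]), (0,0,[]), (0,0,[]), (0,0,[]), (0,0,[]), (0,0,[]), (0,0,[]),
    (0,0,[]), (0,0,[]), (0,0,[]), (0,0,[]), (0,0,[]), (0,0,[]), (0,0,[]), (0,0,[]), (0,0,[]),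
    (0,0,[]), (0,0,[]), (0,0,[]), (0,0,[]), (0,0,[]), (0,0,[]), (0,0,[]), (0,0,[]), (0,0,[]),
    (0,0,[]), (0,0,[]), (0,0,[]), (0,0,[]), (0,0,[]), (0,0,[]), (0,0,[]), (0,0,[]), (0,0,[]),
    (0,0,[]), (0,0,[]), (0,0,[]), (0,0,[]), (0,0,[]), (0,0,[]), (0,0,[]), (0,0,[]), (0,0,[]),
    (0,0,[]), (0,0,[]), (0,0,[]), (0,0,[]), (0,0,[]), (0,0,[]), (0,0,[]), (0,0,[]), (0,0,[]),
    (0,0,[]), (0,0,[]), (0,0,[]), (0,0,[]), (0,0,[]), (0,0,[]), (0,0,[]), (0,0,[]), (0,0,[]),
    (0,0,[]), (0,0,[]), (0,0,[]), (0,0,[]), (0,0,[]), (0,0,[]), (0,0,[]), (0,0,[]), (0,0,[]),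
    (0,0,[]), (0,0,[]), (0,0,[]), (0,0,[]), (0,0,[]), (0,0,[]), (0,0,[]), (0,0,[]), (0,0,[]),
    (0,0,[]), (0,0,[]), (0,0,[]), (0,0,[]), (0,0,[]), (0,0,[]), (0,0,[]), (0,0,[]), (0,0,[]),
    (0,0,[]), (0,0,[]), (0,0,[]), (0,0,[]), (0,0,[]), (0,0,[]), (0,0,[]), (0,0,[]), (0,0,[]),
    (0,0,[]), (0,0,[]), (0,0,[]), (0,0,[]), (0,0,[]), (0,0,[]), (0,0,[]), (0,0,[]), (0,0,[]),
    (0,0,[]), (0,0,[]), (0,0,[]), (0,0,[]), (0,0,[]), (0,0,[]), (0,0,[]), (0,0,[]), (0,0,[]),
    (0,0,[]), (0,0,[]), (0,0,[]), (0,0,[]), (0,0,[]), (0,0,[]), (0,0,[]), (0,0,[]), (0,0,[]),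
    (0,0,[]), (0,0,[]), (0,0,[]), (0,0,[]), (0,0,[]), (0,0,[]), (0,0,[]), (0,0,[]), (0,0,[]),
    (0,0,[]), (0,0,[]), (0,0,[]), (0,0,[]), (0,0,[]), (0,0,[]), (0,0,[]), (0,0,[]), (0,0,[]),
    (0,0,[]), (0,0,[]), (0,0,[]), (0,0,[]), (0,0,[]), (0,0,[]), (0,0,[]), (0,0,[]), (0,0,[]),
    (0,0,[]), (0,0,[]), (0,0,[]), (0,0,[]), (0,0,[]), (0,0,[]), (0,0,[]), (0,0,[]), (0,0,[]),
    (0,0,[]), (0,0,[]), (0,0,[]), (0,0,[]), (0,0,[]), (0,0,[]), (0,0,[]), (0,0,[]), (0,0,[]),
    (0,0,[]), (0,0,[]), (0,0,[]), (0,0,[]), (0,0,[]), (0,0,[]), (0,0,[]), (0,0,[]), (0,0,[]),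
    (0,0,[]), (0,0,[]), (0,0,[]), (0,0,[]), (0,0,[]), (0,0,[]), (0,0,[]), (0,0,[]), (0,0,[]),
    (0,0,[]), (0,0,[]), (0,0,[]), (0,0,[]), (0,0,[]), (0,0,[]), (0,0,[]), (0,0,[]), (0,0,[]),
    (0,0,[]), (0,0,[]), (0,0,[]), (0,0,[]), (0,0,[]), (0,0,[]), (0,0,[]), (0,0,[]), (0,0,[]),
    (0,0,[]), (0,0,[]), (0,0,[]), (0,0,[]), (0,0,[]), (0,0,[]), (0,0,[]), (0,0,[]), (0,0,[]),
    (0,0,[]), (0,0,[]), (0,0,[]), (0,0,[]), (0,0,[]), (0,0,[]), (0,0,[]), (0,0,[]), (0,0,[]),
    (0,0,[]), (0,0,[]), (0,0,[]), (0,0,[]), (0,0,[]), (0,0,[]), (0,0,[]), (0,0,[]), (0,0,[]),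
    (0,0,[]), (0,0,[]), (0,0,[]), (0,0,[]), (0,0,[]), (0,0,[]), (0,0,[]), (0,0,[]), (0,0,[]),
    (0,0,[]), (0,0,[]), (0,0,[]), (0,0,[]), (0,0,[]), (0,0,[]), (0,0,[]), (0,0,[]), (0,0,[]),
    (0,0,[]), (0,0,[]), (0,0,[]), (0,0,[]), (0,0,[]), (0,0,[]), (0,0,[]), (0,0,[]), (0,0,[]),
    (0,0,[]), (0,0,[]), (0,0,[]), (0,0,[]), (0,0,[]), (0,0,[]), (0,0,[]), (0,0,[]), (0,0,[]),
    (0,0,[]), (0,0,[]), (0,0,[]), (0,0,[]), (0,0,[]), (0,0,[]), (0,0,[]), (0,0,[]), (0,0,[]),
    (0,0,[]), (0,0,[]), (0,0,[]), (0,0,[]), (0,0,[]), (0,0,[]), (0,0,[]), (0,0,[]), (0,0,[]),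
    (0,0,[]), (0,0,[]), (0,0,[]), (0,0,[]), (0,0,[]), (0,0,[]), (0,0,[]), (0,0,[]), (0,0,[]),
    (0,0,[]), (0,0,[]), (0,0,[]), (0,0,[]), (0,0,[]), (0,0,[]), (0,0,[]), (0,0,[]), (0,0,[]),
    (0,0,[]), (0,0,[]), (0,0,[]), (0,0,[]), (0,0,[]), (0,0,[]), (0,0,[]), (0,0,[]), (0,0,[]),
    (0,0,[]), (0,0,[]), (0,0,[]), (0,0,[]), (0,0,[]), (0,0,[]), (0,0,[]), (0,0,[]), (0,0,[]),
    (0,0,[]), (0,0,[]), (0,0,[]), (0,0,[]), (0,0,[]), (0,0,[]), (0,0,[]), (0,0,[]), (0,0,[]),
    (0,0,[]), (0,0,[]), (0,0,[]), (0,0,[]), (0,0,[]), (0,0,[]), (0,0,[]), (0,0,[]), (0,0,[]),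
    (0,0,[]), (0,0,[]), (0,0,[]), (0,0,[]), (0,0,[]), (0,0,[]), (0,0,[]), (0,0,[]), (0,0,[]),
    (0,0,[]), (0,0,[]), (0,0,[]), (0,0,[]), (0,0,[]), (0,0,[]), (0,0,[]), (0,0,[]), (0,0,[]),
    (0,0,[]), (0,0,[]), (0,0,[]), (0,0,[]), (0,0,[]), (0,0,[]), (0,0,[]), (0,0,[]), (0,0,[]),
    (0,0,[]), (0,0,[]), (0,0,[]), (0,0,[]), (0,0,[]), (0,0,[]), (0,0,[]), (0,0,[]), (0,0,[]),
    (0,0,[]), (0,0,[]), (0,0,[]), (0,0,[]), (0,0,[]), (0,0,[]), (0,0,[]), (0,0,[]), (0,0,[]),
    (0,0,[]), (0,0,[]), (0,0,[]), (0,0,[]), (0,0,[]), (1,0,[]), (1,0,[]), (1,0,[]),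
    (11,2,[1,966,0]), (12,1,[5,1,968,0,4]), (13,3,[5,1,966,966,968,966,968,0,970,4]),
    (6,2,[7,3,970,2,6]), (9,3,[9,3,4,974,5,970,2,6,14]), (11,2,[11,6,16]),
    (14,3,[981,17,7,3,1,966,964,0,2,6,16]), (8,1,[13,5,2,8,18]),
    (13,3,[23,11,6,7,8,979,15,16,980,22]), (6,2,[25,13,974,12,24]), (8,1,[29,15,976,14,28]),
    (11,2,[21,979,30]), (7,2,[33,980,22,986,23,981,32]), (9,2,[25,985,19,9,6,14,978,18,34]),
    (12,1,[23,11,8,20,40]), (13,3,[41,21,979,978,9,6,14,30,992,40]), (11,2,[27,24,44]),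
    (13,3,[49,27,24,25,985,34,996,44,1002,48]), (6,2,[35,19,979,28,50]),
    (9,2,[51,990,29,15,7,8,979,28,50]), (7,2,[57,992,40,1000,41,993,56]), (12,1,[33,17,14,30,56]),
    (8,1,[43,23,983,32,58]), (11,2,[37,34,60]), (12,1,[49,27,985,36,64]),
    (13,3,[65,37,34,35,984,24,997,60,1016,64]), (6,2,[75,43,986,42,74]),
    (9,2,[75,1015,59,33,980,22,986,42,74]), (14,11,[79,1002,27,13,974,972,974,12,26,1003,78]),
    (7,2,[81,1002,48,1004,49,1003,80]), (14,2,[47,1003,45,25,13,972,974,12,26,46,82]),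
    (11,2,[53,50,88]), (12,1,[93,53,990,52,92]), (13,3,[93,53,50,51,990,50,1008,88,1032,92]),
    (6,2,[67,39,993,54,94]), (6,2,[103,59,994,58,102]), (7,1,[103,1014,74,1024,75,1015,102]),
    (7,2,[109,1016,64,1020,65,1017,108]), (12,1,[81,45,997,60,108]),
    (9,3,[97,55,56,1010,57,992,38,66,118]), (11,2,[71,66,120]), (8,1,[73,41,38,68,122]),
    (7,1,[95,96,1049,119,67,68,124]), (6,2,[133,73,1000,72,132]), (11,2,[77,74,136]),
    (6,2,[83,47,1003,78,142]), (11,1,[143,1026,142]), (9,3,[145,79,80,1028,81,1002,46,82,148]),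
    (8,1,[87,49,46,84,150]), (7,1,[143,144,1065,149,83,84,152]), (6,2,[157,87,1004,86,156]),
    (7,2,[163,1032,92,1036,93,1033,162]), (12,1,[163,89,1008,88,162]),
    (14,2,[129,1051,121,67,39,21,979,28,52,90,164]), (11,2,[1077,165,168]), (11,2,[99,94,172]),
    (8,1,[101,57,54,96,174]), (14,1,[115,63,1017,61,35,19,20,993,54,98,178]),
    (14,8,[111,63,37,19,979,30,54,94,172,1080,178]),
    (13,3,[131,71,66,67,68,124,1054,172,1080,180]), (6,2,[183,101,1010,100,182]),
    (11,2,[105,102,186]), (12,1,[141,77,1015,104,190]),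
    (13,3,[141,77,74,75,1015,102,1042,186,1092,190]), (6,2,[111,63,1017,106,192]),
    (14,3,[1050,71,66,1039,172,1080,178,1086,1099,193,196]),
    (9,3,[195,107,108,1044,109,1016,62,110,200]), (8,1,[117,65,62,112,202]),
    (7,1,[193,194,1103,201,111,112,204]), (6,2,[213,117,1020,116,212]), (11,2,[177,1049,218]),
    (9,2,[183,1083,175,97,94,1055,125,122,222]), (8,1,[217,119,1039,1055,226]),
    (11,2,[127,124,228]), (12,1,[131,71,68,126,230]), (7,2,[1082,182,1113,223,1052,132,236]),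
    (11,2,[135,132,238]), (12,1,[247,137,1024,136,246]),
    (14,2,[241,1123,239,133,73,998,986,42,76,138,248]), (11,2,[1127,249,252]),
    (8,1,[147,81,78,144,256]), (12,2,[259,145,1026,144,258]), (6,2,[261,147,1028,146,260]),
    (11,2,[259,1065,266]), (12,2,[155,85,1031,148,266]),
    (9,2,[261,1131,257,145,142,1069,153,150,268]), (8,1,[265,149,1061,1069,272]),
    (11,2,[155,152,274]), (12,2,[275,1068,1062,1069,274]), (7,2,[1130,260,1141,269,1066,156,278]),
    (11,2,[159,156,280]), (6,2,[165,91,1033,160,286]),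
    (14,2,[209,1085,1086,111,63,37,34,1007,88,160,286]), (11,2,[1155,287,290]),
    (14,3,[1080,99,94,1038,120,1050,128,1077,1153,287,290]),
    (9,3,[289,161,162,1072,163,1032,90,164,294]), (8,1,[171,93,90,166,296]),
    (7,1,[287,288,1161,295,165,166,298]), (6,1,[1100,1050,128,1079,302]),
    (14,8,[193,107,61,1007,51,52,90,164,1076,1079,302]), (6,2,[307,171,1036,170,306]),
    (7,2,[221,1050,130,1089,181,1081,310]), (12,1,[181,99,96,176,316]),
    (13,3,[231,127,124,125,69,66,118,218,1110,316]), (11,2,[185,182,322]),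
    (13,3,[243,135,132,133,1053,222,1112,322,1178,326]), (7,2,[247,1058,140,1097,191,1093,330]),
    (12,1,[331,187,1042,186,330]), (14,2,[325,1179,323,183,101,1012,994,58,104,188,332]),
    (11,2,[1187,333,336]), (8,1,[199,109,106,194,340]),
    (9,7,[211,1085,179,1081,310,1172,221,1101,344]), (6,2,[347,199,1044,198,346]),
    (11,2,[343,1103,352]), (9,2,[347,1191,341,195,192,1107,205,202,354]),
    (15,23,[275,1068,1062,143,79,45,25,13,5,1,964,966,964,968,964,0,4,974,12,985,36,62,112,202,354]),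
    (6,4,[277,1145,1201,355,203,204]), (3,0,[276,1203]), (8,2,[351,201,1099,1107,1204,1139]),
    (3,0,[350,1207]), (11,2,[207,204,358]), (12,1,[211,115,112,206,362]),
    (9,3,[233,129,130,1089,181,1081,1159,1156,364]), (7,2,[1190,346,1199,355,1104,212,368]),
    (9,5,[1132,1137,1138,1145,1201,355,1104,212,368]), (11,2,[215,212,370]),
    (6,2,[1120,175,1049,216,376]), (9,2,[377,1115,227,1054,95,96,1049,216,376]),
    (15,17,[379,217,119,1039,95,55,31,15,16,980,983,17,7,3,4,973,12,24,989,997,1007,88,162,1073,292]),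
    (8,2,[289,161,162,292,1226]), (12,1,[221,121,118,218,382]), (6,1,[227,125,122,222,386]),
    (8,1,[387,1112,1090,1113,386]),
    (15,18,[387,1112,1091,183,101,1012,33,17,7,3,1,967,965,969,0,2,6,977,14,28,52,92,1037,170,1163]),
    (12,0,[1163,1236,1235,1237,1162,308]), (10,0,[308,1238]),
    (15,3,[307,171,93,53,29,978,18,984,13,972,5,970,2,8,20,38,68,122,222,386,1237,1162,1241,306,1171]),
    (11,2,[225,222,388]), (12,1,[243,135,1053,224,392]), (11,2,[1236,1232,394]),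
    (7,2,[383,1110,316,1176,231,1117,398]), (12,1,[311,173,1055,228,398]),
    (8,1,[235,131,128,232,402]), (11,2,[313,1121,410]),
    (14,11,[245,1058,77,43,986,999,1000,72,134,1123,412]), (6,2,[249,139,1059,244,418]),
    (8,1,[255,141,138,250,426]), (6,1,[413,1122,240,1129,432]), (11,2,[263,260,440]),
    (13,3,[285,159,156,157,1067,268,1140,440,1266,444]), (6,2,[1148,257,1065,264,446]),
    (9,2,[447,1143,273,1068,143,144,1065,264,446]), (6,1,[273,153,150,268,450]),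
    (8,1,[451,1140,1134,1141,450]), (11,2,[271,268,452]), (11,2,[439,1149,460]),
    (14,2,[373,1221,371,213,117,1018,1004,86,158,282,464]), (11,2,[1283,465,468]),
    (7,2,[305,1078,232,1215,365,1157,472]), (6,2,[475,293,1072,292,474]),
    (9,2,[1248,1162,171,93,1033,162,1072,292,474]),
    (13,0,[474,1290,1248,1162,1241,306,307,1163,1249,1291]), (11,2,[471,1161,478]),
    (12,2,[405,233,1077,294,478]), (8,1,[477,295,1153,1165,480]), (11,2,[301,298,482]),
    (7,2,[319,1084,210,1193,345,1167,488]), (7,2,[1227,474,1290,1248,1162,306,492]),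
    (13,5,[377,376,1224,377,1115,394,1248,1162,306,492]), (12,1,[327,185,1083,312,498]),
    (13,3,[393,225,222,223,1052,132,236,410,1256,498]),
    (14,0,[1294,471,1229,1305,1306,377,217,218,1110,314,504]), (8,1,[321,181,178,318,508]),
    (12,2,[353,201,1087,318,510]), (6,2,[407,235,1089,320,512]),
    (14,11,[329,1092,105,59,994,1013,1010,100,184,1179,516]),
    (7,2,[415,1122,242,1181,327,1179,518]), (6,2,[333,189,1093,328,522]),
    (9,2,[429,251,139,140,1097,191,1093,328,522]), (7,2,[425,249,250,428,1327,523,524]),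
    (9,3,[421,245,246,1183,331,1092,188,332,528]), (8,1,[339,191,188,334,530]),
    (7,1,[419,420,1331,529,333,334,532]), (6,1,[517,1178,324,1189,534]),
    (14,11,[1324,333,336,534,1336,1320,522,1324,1186,1189,534]), (6,2,[437,255,1097,338,538]),
    (12,1,[345,197,194,342,546]), (13,3,[363,207,204,205,113,110,200,352,1196,546]),
    (8,1,[385,221,1101,344,548]), (11,2,[349,346,550]),
    (13,3,[375,215,212,213,1105,354,1198,550,1348,554]), (11,2,[357,354,556]),
    (12,1,[375,215,1105,356,560]), (7,2,[1316,1196,546,1344,363,1211,564]),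
    (14,0,[1278,271,151,152,274,1144,1205,358,1210,360,568]), (8,1,[367,211,208,364,572]),
    (11,2,[405,1215,574]), (12,2,[483,1164,1154,364,574]), (11,2,[543,1217,580]),
    (14,11,[463,1150,159,87,1004,1019,1020,116,214,1221,582]), (6,2,[501,315,1111,380,590]),
    (14,0,[1300,301,296,1249,395,1233,387,388,1244,390,606]), (6,1,[481,299,296,1249,608]),
    (8,1,[609,1291,1288,1290,608]), (14,2,[485,1301,483,299,296,1236,1232,227,228,396,610]),
    (11,2,[1379,611,614]), (7,2,[603,1244,392,1311,499,1257,630]),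
    (9,7,[537,1188,325,1179,518,1322,415,412,632]), (9,4,[535,536,1385,633,1265,433,1128,416,636]),
    (8,1,[423,247,244,420,640]), (12,2,[639,417,1127,424,648]), (11,2,[431,428,654]),
    (12,1,[435,253,250,430,658]), (13,3,[457,271,268,269,1066,156,278,460,1280,664]),
    (14,2,[553,1349,551,347,199,1046,1028,146,262,442,668]), (11,2,[1399,669,670]),
    (11,2,[449,446,672]), (11,2,[459,1275,678]), (12,1,[677,449,1143,458,686]),
    (13,3,[677,449,446,447,1143,1275,1276,678,1404,686]), (6,1,[583,1220,372,1285,694]),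
    (12,1,[473,291,288,470,700]), (8,1,[495,311,1159,472,702]),
    (9,1,[627,407,1255,403,233,1079,304,1287,702]), (6,2,[1304,1228,1161,476,704]),
    (8,1,[491,305,302,488,710]), (6,2,[1417,703,1286,490,712]),
    (9,2,[577,1361,573,365,1157,472,1286,490,712]), (6,2,[597,385,1173,494,714]),
    (7,1,[621,1254,406,626,1417,1414,714]), (9,3,[613,397,398,1250,383,1110,314,500,722]),
    (11,2,[505,500,724]), (8,1,[507,317,314,502,726]), (7,1,[611,612,1431,723,501,502,728]),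
    (6,2,[619,401,1177,506,734]), (9,2,[597,1347,549,345,1167,488,1302,508,738]),
    (7,2,[1346,596,1441,739,1314,512,740]), (8,2,[1425,1422,627,1319,740]), (11,2,[515,512,742]),
    (8,1,[527,331,328,524,750]), (9,1,[661,437,1263,427,251,248,424,1329,750]),
    (11,2,[649,1329,752]), (6,2,[643,423,1183,526,754]), (7,1,[651,1262,436,660,1451,1448,754]),
    (8,1,[653,1327,1324,528,756]), (9,2,[643,1389,641,421,418,1335,533,530,758]),
    (8,1,[647,425,1261,1335,762]), (7,2,[1388,642,1461,759,1332,538,766]),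
    (12,1,[555,349,1191,542,772]), (13,3,[561,357,354,355,1104,212,368,580,1366,772]),
    (14,11,[667,1266,263,147,1028,1047,1044,198,348,1349,780]),
    (14,1,[683,455,1279,453,269,151,154,1145,1201,556,782]), (6,2,[1473,783,1352,558,786]),
    (14,3,[1404,459,1275,451,452,1278,454,682,1475,787,788]), (6,2,[567,361,1211,562,790]),
    (14,2,[685,1405,679,1274,273,274,1144,1205,358,562,790]), (11,2,[1481,791,794]),
    (11,2,[569,566,798]), (14,3,[681,682,1473,783,557,355,203,206,360,566,798]),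
    (6,2,[621,403,1215,572,800]), (11,2,[579,576,804]), (7,2,[785,1352,560,1469,773,1367,808]),
    (12,1,[585,371,368,580,808]), (11,2,[593,590,814]),
    (14,8,[717,497,313,175,1049,218,380,590,814,1496,816]), (11,2,[599,596,822]),
    (13,3,[747,515,512,513,1315,738,1440,822,1500,826]), (11,2,[607,604,832]),
    (14,3,[1380,1379,611,397,229,125,122,224,390,604,832]), (8,1,[617,399,396,612,836]),
    (9,3,[733,1312,1296,1363,1364,1300,484,1381,838]), (6,2,[819,595,1251,616,840]),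
    (11,2,[623,620,846]), (8,2,[733,1312,1296,624,850]), (6,2,[717,497,1257,628,852]),
    (14,2,[699,1295,479,1160,1229,379,376,1222,410,628,852]), (11,2,[1521,853,854]),
    (14,3,[1432,505,500,1371,814,1496,816,1498,1519,853,854]), (11,2,[639,636,856]),
    (12,2,[655,1327,1339,1387,856]),
    (15,19,[839,1507,1504,1372,483,1164,1154,1157,1158,173,95,55,56,1012,58,102,1040,1042,1040,186,330,1182,422,1389,858]),
    (11,2,[645,642,860]), (13,3,[771,541,538,539,1333,758,1460,860,1532,862]),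
    (6,2,[1451,751,1328,646,864]), (6,1,[653,429,426,650,868]),
    (7,1,[1452,1390,1527,1528,1392,658,876]), (6,2,[669,443,1267,666,880]),
    (9,2,[691,467,283,284,1269,445,1267,666,880]), (7,2,[689,465,466,690,1545,881,882]),
    (15,7,[1536,1451,751,525,329,187,1042,103,59,33,17,976,14,28,50,1006,60,108,1046,1028,146,262,1267,666,882]),
    (11,0,[1547,1548,865,866]), (10,0,[866,1550]), (12,3,[813,587,1283,688,1552,1463]),
    (10,0,[812,1555]), (6,1,[781,1348,552,1401,884]),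
    (14,11,[1542,669,670,884,1558,1470,880,1542,1398,1401,884]),
    (15,7,[869,651,427,251,139,77,1015,102,1040,1042,186,328,524,750,1450,1537,1549,883,1471,1559,885,671,668,1543,1544]),
    (11,0,[690,1562,1538,870]), (10,0,[870,1564,692]), (10,0,[692,1566]),
    (12,5,[1458,1568,467,468,696]),
    (15,21,[1486,681,455,271,1066,158,1151,462,1369,1411,695,696,1570,757,1330,640,1388,423,1125,247,1058,138,250,430,656,874]),
    (5,0,[874,1572]), (9,4,[879,663,664,1396,457,1279,1359,1485,1574,872]), (5,0,[878,1577]),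
    (13,10,[1560,881,882,1546,689,1282,1285,1284,586,810]), (12,1,[887,673,1272,672,886]),
    (15,5,[887,673,1270,1148,257,145,79,45,997,35,19,9,10,983,32,58,102,1041,186,330,1185,1182,422,644,1533]),
    (14,2,[807,1366,543,1217,1218,259,1065,264,448,674,888]),
    (7,2,[887,1402,676,1409,687,1405,892]), (9,6,[687,1405,892,1588,1585,1532,862,1534,771,768]),
    (3,0,[768,1590]), (8,2,[771,1593,687,684,894]), (7,1,[1559,1581,811,587,1285,696,896]),
    (8,1,[709,487,484,706,898]), (7,1,[1432,732,1511,839,1380,706,900]),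
    (6,2,[739,509,1303,710,904]), (7,1,[801,1360,576,1425,713,1421,904]),
    (9,3,[831,601,602,1383,631,1256,496,716,908]), (8,1,[721,499,496,718,910]),
    (7,1,[829,830,1607,909,717,718,912]), (9,2,[841,1509,837,613,610,1437,729,726,916]),
    (11,2,[731,728,920]), (12,2,[903,707,1379,1437,920]), (12,1,[733,505,502,730,924]),
    (11,2,[737,734,926]),
    (15,5,[933,743,1318,407,235,131,128,1077,294,1160,1229,1227,1293,1289,1290,608,1374,481,482,1365,575,1214,402,622,1515]),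
    (15,17,[805,1445,741,1318,407,235,1119,231,127,124,226,394,1248,297,167,168,302,1166,1100,220,384,598,826,1502,938]),
    (8,4,[1625,939,747,744,936]),
    (15,9,[1446,744,936,1626,805,1425,713,491,305,169,91,92,170,306,1171,1243,492,1306,377,217,218,1110,314,502,730,922]),
    (3,0,[922,1628,930]), (3,0,[930,1630]), (6,4,[1614,1632,1446,744,934]),
    (14,10,[727,730,1632,1446,515,321,1088,1119,1177,506,736,1621]), (4,0,[1621,1636,916]),
    (10,0,[926,1636,918]), (4,0,[916,1638]), (5,0,[1613,1638,928]), (10,0,[918,1640]),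
    (5,0,[928,1644]), (13,0,[843,840,1648,1642,1434,736,1642,1643,1649,841,1509]),
    (10,0,[842,1651]), (14,8,[915,1430,836,1652,617,1250,1230,384,596,822,1500,824]),
    (10,0,[914,1655]),
    (15,19,[797,1479,791,563,359,1106,1169,1166,1100,121,67,39,40,998,42,74,1022,1024,1022,136,246,1183,526,1449,942]),
    (6,2,[1464,641,1331,756,944]), (11,1,[897,1570,944]), (11,2,[761,758,946]),
    (15,19,[1600,1525,1522,699,471,289,290,1156,209,115,110,1099,1107,358,562,790,1478,796,1659,943,1448,754,1454,1461,946]),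
    (6,1,[899,900,1667,1664,948]), (9,2,[1668,1598,709,487,1301,1365,1362,624,848]),
    (12,1,[771,541,1333,760,950]), (11,2,[859,1465,952]),
    (9,3,[793,563,564,1356,1316,1196,544,774,954]), (8,1,[779,547,544,776,956]),
    (7,1,[791,792,1677,955,775,776,958]), (6,2,[849,625,1363,802,960]),
    (8,2,[835,1372,1365,802,962]),
    (15,18,[1684,835,1372,1300,484,1379,1437,920,1614,1632,743,513,321,181,99,55,992,38,68,122,224,392,1311,720,1609]),
    (15,25,[833,605,391,225,222,386,1234,1237,297,298,480,1298,477,478,1296,1363,802,962,1687,911,719,497,1257,628,854]),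
    (8,5,[1600,1525,1688,1506,838,1531]), (3,0,[1666,1691,1530]), (4,0,[900,1691,1675]),
    (4,0,[1665,1693,1510]), (10,0,[952,1694,902]), (3,0,[949,1697,1517]), (5,0,[951,1697,733]),
    (10,0,[760,1697,1619]), (5,0,[1616,1698,767]), (5,0,[1670,1701,851]), (10,0,[1673,1703,505]),
    (5,0,[924,1704,1332]), (3,0,[1634,1707,1340]), (3,0,[1682,1709,625]), (3,0,[1594,1711,315]),
    (4,0,[1534,1711,500]), (5,0,[770,1711,502]), (3,0,[1633,1713,339]), (4,0,[934,1715,437]),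
    (4,0,[960,1717,1363]), (5,0,[894,1719,316]), (5,0,[862,1721,722]), (3,0,[1592,1723,726]),
    (10,0,[540,1723]), (4,0,[1447,1725,1096]), (5,0,[933,1725,191]), (10,0,[742,1725,1094]),
    (5,0,[937,1727,1263]), (5,0,[963,1729,1364]), (3,0,[684,1731,506]), (4,0,[1482,1731,1176]),
    (10,0,[1480,1731,1174]), (4,0,[1431,1732,1533]), (10,0,[1656,1732,645]),
    (4,0,[1642,1734,1408]), (10,0,[1646,1734,1406]), (10,0,[514,1739,1095]), (3,0,[1622,1741,188]),
    (3,0,[1319,1743,254]), (5,0,[741,1743,141]), (3,0,[1627,1745,427]), (10,0,[1686,1747,483]),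
    (3,0,[506,1748]), (4,0,[735,1748,1405]), (10,0,[737,1748,459]), (10,0,[794,1751,1118]),
    (5,0,[1680,1753,181]), (3,0,[1585,1754,836]), (3,0,[824,1757,423]), (5,0,[1648,1759,677]),
    (3,0,[1439,1761,890]), (3,0,[320,1763,338]), (5,0,[1314,1763,191]), (4,0,[1515,1765,332]),
    (10,0,[846,1765,336]), (4,0,[406,1767,436]), (5,0,[627,1767,1263]), (3,0,[1445,1769,138]),
    (4,0,[1443,1769,1059]), (4,0,[1491,1771,428]), (10,0,[804,1771,430]), (3,0,[910,1773,480]),
    (5,0,[1609,1773,1164]), (2,0,[1760,1777]), (3,0,[1476,1816,890]), (4,0,[1405,1816,1409]),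
    (10,0,[678,1816,1407]), (2,0,[1758,1779]), (3,0,[891,1825,273]), (5,0,[676,1825,1142]),
    (3,0,[562,1781,234]), (4,0,[958,1783,1081]), (5,0,[886,1785,1508]),
    (10,0,[1784,1582,1785,1652]), (4,0,[1500,1787,1183]), (10,0,[598,1787,1125]),
    (3,0,[1513,1789,674]), (3,0,[338,1792]), (4,0,[539,1792,1088]), (5,0,[1332,1792,181]),
    (10,0,[1736,1792,1175]), (3,0,[508,1795,188]), (4,0,[739,1795,1093]), (10,0,[622,1797,1186]),
    (3,0,[1488,1799,534]), (5,0,[1428,1799,536]), (4,0,[436,1800]), (5,0,[661,1800,1255]),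
    (3,0,[1422,1803,427]), (4,0,[1416,1803,650]), (4,0,[576,1805,248]), (3,0,[548,1807,244]),
    (10,0,[578,1809,654]), (2,0,[1804,1811]), (3,0,[657,1876,139]), (5,0,[659,1876,250]),
    (10,0,[430,1876,252]), (4,0,[913,1813,1375]), (5,0,[718,1813,1298]), (3,0,[720,1815,1152]),
    (2,0,[1819,1790]), (10,0,[788,1891,844]), (2,0,[1823,1820]), (3,0,[1775,1894,451]),
    (10,0,[458,1894]), (2,0,[1791,1827]), (10,0,[845,1901,274]), (3,0,[675,1829,265]),
    (4,0,[1402,1829,446]), (10,0,[448,1829]), (4,0,[1211,1831,1862]), (10,0,[358,1831,408]),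
    (3,0,[957,1833,1159]), (5,0,[776,1833,310]), (10,0,[1653,1837]), (10,0,[822,1839,1185]),
    (3,0,[384,1841,422]), (4,0,[818,1843,888]), (5,0,[767,1847,131]), (3,0,[530,1849,178]),
    (5,0,[502,1851,317]), (4,0,[1302,1853,332]), (10,0,[511,1853,336]), (3,0,[1602,1855,328]),
    (3,0,[402,1857,325]), (5,0,[1255,1857,520]), (4,0,[800,1859,1336]), (5,0,[1604,1859,1387]),
    (3,0,[1427,1861,764]), (4,0,[714,1861,1385]), (2,0,[1865,1857]), (3,0,[1536,1951,325]),
    (10,0,[907,1867]), (3,0,[702,1869,868]), (5,0,[1415,1869,1457]), (3,0,[366,1871,1261]),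
    (5,0,[1360,1871,424]), (5,0,[344,1873,420]), (10,0,[1342,1873,1259]), (2,0,[1870,1875]),
    (10,0,[654,1968,1126]), (4,0,[873,1879,1059]), (4,0,[877,1881,428]), (10,0,[1395,1881,1954]),
    (5,0,[435,1882,251]), (5,0,[1611,1885,1377]), (3,0,[496,1887,477]), (4,0,[717,1887,704]),
    (4,0,[1311,1889,165]), (10,0,[1309,1889,1076]), (4,0,[1177,1897,269]), (5,0,[316,1897,1140]),
    (10,0,[1175,1897,452]), (2,0,[1893,1903]), (3,0,[558,1997,1201]), (4,0,[889,1905,1064]),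
    (2,0,[1834,1907]), (3,0,[616,2003,1270]), (10,0,[2002,1918,2003]), (3,0,[254,1910]),
    (4,0,[1862,1910]), (5,0,[1262,1910,362]), (10,0,[408,1912]), (5,0,[1679,1915,472]),
    (3,0,[544,1917,494]), (3,0,[422,1922]), (10,0,[1587,1924,820]), (3,0,[1660,1927,128]),
    (4,0,[533,1929,1084]), (5,0,[334,1929]), (3,0,[314,1931]), (5,0,[488,1933,528]),
    (5,0,[1317,1935,536]), (4,0,[1214,1939,1179]), (3,0,[749,1940,235]), (5,0,[520,1940]),
    (2,0,[1936,1945]), (4,0,[636,2042,522]), (5,0,[1387,2042,524]), (2,0,[1920,1947]),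
    (3,0,[764,2048,526]), (5,0,[632,1948]), (4,0,[864,1953,1179]), (10,0,[1562,1956,1413]),
    (5,0,[1457,1958,2052]), (3,0,[1261,1960]), (4,0,[418,1960]), (2,0,[1942,1963]),
    (10,0,[1321,2065,648]), (5,0,[420,1964]), (3,0,[779,1967,413]), (4,0,[428,1971]),
    (5,0,[1579,1973,246]), (2,0,[1975,1971]), (5,0,[1541,2077,416]), (10,0,[1954,1976]),
    (10,0,[2081,1979]), (4,0,[828,1981,1374]), (4,0,[1256,1983,1160]), (10,0,[312,1983,478]),
    (3,0,[1518,1985,1418]), (5,0,[392,1987,166]), (10,0,[1247,1987,168]), (5,0,[326,1989]),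
    (5,0,[230,1991,1066]), (10,0,[1119,1991,270]), (4,0,[260,1992,1111]), (5,0,[1140,1992]),
    (10,0,[452,1994]), (4,0,[1352,1999,355]), (5,0,[561,1999,1198]), (2,0,[1925,2001]),
    (10,0,[821,2113,258]), (5,0,[398,2005,279]), (10,0,[1253,2005,460]), (3,0,[426,2013,570]),
    (4,0,[651,2013]), (3,0,[494,2018]), (5,0,[2053,2018]), (10,0,[1663,2025,1077]),
    (3,0,[763,2027,208]), (5,0,[528,2032]), (5,0,[536,2034]), (5,0,[364,2037,518]),
    (10,0,[941,2039]), (3,0,[1325,2044,634]), (4,0,[522,2044]), (3,0,[534,2047]),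
    (2,0,[2035,2051]), (3,0,[526,2146]), (3,0,[646,2055]), (5,0,[700,2056,1545]),
    (4,0,[2122,2059]), (10,0,[648,2066]), (2,0,[2016,2071]), (5,0,[472,2159,414]),
    (3,0,[662,2075,2021]), (10,0,[752,2079]), (3,0,[600,2085,481]), (10,0,[410,2087,470]),
    (10,0,[478,2088]), (10,0,[1521,2091,1306]), (10,0,[224,2093]), (5,0,[242,2095]),
    (10,0,[126,2099,158]), (10,0,[270,2100,2138]), (4,0,[1111,2102]), (10,0,[218,2102,262]),
    (5,0,[785,2109,1104]), (10,0,[556,2109]), (4,0,[1468,2111,347]), (10,0,[1355,2111,550]),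
    (2,0,[2023,2115]), (3,0,[806,2195,1219]), (10,0,[228,2117,280]), (10,0,[460,2118]),
    (3,0,[570,2120]), (5,0,[1597,2129,294]), (10,0,[1557,2131,1155]), (5,0,[518,2136]),
    (3,0,[634,2140]), (3,0,[1543,2152,698]), (5,0,[414,2160]), (10,0,[438,2163]),
    (10,0,[388,2167]), (10,0,[470,2168]), (10,0,[158,2178]), (10,0,[2138,2180]), (10,0,[262,2184]),
    (4,0,[1492,2187,212]), (5,0,[772,2191,1191]), (10,0,[1467,2191,348]), (3,0,[781,2192,588]),
    (10,0,[550,2192]), (10,0,[580,2197]), (3,0,[463,2198,226]), (10,0,[280,2198]),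
    (5,0,[586,2207,1165]), (2,0,[2213,2173]), (10,0,[1399,2247,1307]), (10,0,[1495,2229,370]),
    (10,0,[542,2231]), (4,0,[1351,2233]), (5,0,[554,2233]), (2,0,[2204,2235]),
    (3,0,[588,2258,476]), (10,0,[1368,2241,394]), (3,0,[372,2245,480]), (3,0,[552,2249,1419]),
    (5,0,[584,2251]), (3,0,[476,2260]), (3,0,[582,2263,608]), (3,0,[480,2264]), (3,0,[1419,2266]),
    (3,0,[608,2272])]

def tMR : List (ℕ × List ℕ) :=
    [(0,[965,967,969,0]), (1,[2,971,4,1]), (2,[3,6,8,10]), (3,[12,975,5,973]), (4,[977,7,14,16]),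
    (5,[18,979,9,20]), (6,[983,981,22,11]), (7,[13,24,985,26]), (8,[28,978,15,30]),
    (9,[982,980,32,17]), (10,[19,34,984,36]), (11,[38,993,40,21]), (12,[42,987,23,999]),
    (13,[989,25,997,44]), (14,[46,1003,48,27]), (15,[29,50,991,52]), (16,[54,992,56,31]),
    (17,[58,995,33,1013]), (18,[1007,35,996,60]), (19,[62,1017,64,37]), (20,[39,66,68,70]),
    (21,[72,1001,41,998]), (22,[43,74,1015,76]), (23,[78,1002,80,45]), (24,[47,82,84,1031]),
    (25,[86,1005,49,1019]), (26,[1006,51,1009,88]), (27,[90,1033,92,53]), (28,[55,94,96,98]),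
    (29,[100,1011,57,1012]), (30,[59,102,1014,104]), (31,[106,1016,108,61]), (32,[63,110,112,114]),
    (33,[116,1021,65,1018]), (34,[1039,67,118,120]), (35,[122,124,69,2222]),
    (36,[128,1051,130,71]), (37,[73,132,1053,134]), (38,[1023,75,1025,136]),
    (39,[138,1059,140,77]), (40,[79,142,144,1027]), (41,[146,1029,81,1047]),
    (42,[1061,83,148,1030]), (43,[150,152,85,154]), (44,[87,156,1067,2223]),
    (45,[160,1032,162,89]), (46,[91,164,166,168]), (47,[170,1037,93,1035]),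
    (48,[1038,95,1055,172]), (49,[174,1049,97,176]), (50,[178,1081,180,99]),
    (51,[101,182,1083,184]), (52,[1041,103,1043,186]), (53,[188,1093,190,105]),
    (54,[107,192,194,196]), (55,[198,1045,109,1046]), (56,[1099,111,200,1087]),
    (57,[202,204,113,206]), (58,[208,1085,210,115]), (59,[117,212,1105,214]),
    (60,[216,1048,119,2226]), (61,[1101,1050,220,121]), (62,[123,222,1052,2175]),
    (63,[226,125,1054,2242]), (65,[129,1079,2096,1077]), (66,[234,1089,131,2225]),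
    (67,[1057,133,236,238]), (68,[240,1123,2177,135]), (69,[244,1058,246,137]),
    (70,[139,248,250,2082]), (71,[2009,1097,141,1095]), (72,[1060,143,1069,1063]),
    (73,[256,1065,145,258]), (74,[147,2182,1131,2227]), (75,[264,1064,149,266]),
    (76,[151,268,1066,2224]), (77,[272,153,1068,274]), (78,[1205,1145,1139,155]),
    (79,[1071,157,278,2243]), (81,[161,286,288,290]), (82,[292,1073,163,1075]),
    (83,[1153,165,294,1076]), (84,[296,298,167,2174]), (85,[302,1078,2176,169]),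
    (86,[171,306,1163,1241]), (87,[1159,1080,310,173]), (88,[175,1121,1082,2170]),
    (89,[2031,2183,2104,177]), (90,[179,1084,2028,1086]), (91,[1844,1088,181,2106]),
    (92,[1091,183,1113,322]), (93,[324,1179,2097,185]), (94,[328,1092,330,187]),
    (95,[189,332,2029,336]), (96,[1845,1096,191,1094]), (97,[1098,193,1107,1169]),
    (98,[340,1103,195,342]), (99,[1100,1167,2068,197]), (100,[199,346,1191,348]),
    (101,[1209,1102,201,352]), (102,[203,354,1104,2188]), (103,[1204,205,1106,2014]),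
    (104,[2008,2010,362,207]), (105,[209,1157,2208,1155]), (106,[2060,2062,211,1213]),
    (107,[1109,213,368,370]), (108,[2274,1221,374,215]), (109,[217,376,1115,378]),
    (111,[2020,1173,221,2216]), (112,[386,223,1112,2219]), (114,[227,1233,1114,394]),
    (118,[235,2011,2040,2015]), (119,[1223,1120,237,2220]), (120,[412,1122,2215,239]),
    (121,[241,2072,416,1127]), (123,[245,2063,2069,1259]), (124,[2021,1183,247,1125]),
    (125,[2061,249,424,1126]), (126,[2202,2073,251,2083]), (129,[257,1149,1130,2217]),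
    (130,[1219,1137,1133,259]), (133,[265,446,1143,1909]), (134,[1208,1136,1138,267]),
    (135,[450,269,2105,2107]), (137,[273,1275,1142,1899]), (138,[1201,1144,1147,275]),
    (140,[1271,1148,279,2201]), (144,[1152,287,1165,1154]), (145,[1229,1161,289,2221]),
    (146,[1158,1156,2214,291]), (147,[293,474,1226,1293]), (148,[2271,1160,295,2171]),
    (149,[297,1249,1162,1236]), (150,[2275,299,1164,2218]), (152,[303,1166,2132,1168]),
    (154,[1171,307,492,1243]), (156,[2125,1172,311,2200]), (162,[2150,1178,2209,323]),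
    (163,[325,1189,2041,1187]), (165,[329,2143,524,2156]), (166,[2149,1182,331,1185]),
    (167,[2210,333,2133,1186]), (169,[2145,1188,2135,337]), (171,[341,1217,1190,2253]),
    (172,[2124,1197,2126,343]), (174,[1195,347,1199,2237]), (175,[2276,2254,2257,349]),
    (177,[2148,1196,2134,353]), (178,[1200,355,1198,2189]), (182,[2203,2155,363,1212]),
    (185,[1218,1216,369,2239]), (186,[2278,1220,2269,371]), (188,[2270,2255,375,2236]),
    (189,[1222,377,1225,1307]), (190,[1228,1305,1227,379]), (194,[387,1232,1235,1237]),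
    (198,[2279,1248,1291,395]), (207,[413,2154,2127,1258]), (209,[2211,2142,417,2164]),
    (213,[2151,1329,425,2157]), (224,[1270,447,1273,2007]), (226,[451,1274,1277,1898]),
    (238,[1289,475,1290,1292]), (247,[2277,1304,493,1306]), (263,[2144,1328,525,2165])]

theorem tMC : check id (rl (ex [2,1])) [1,2,3] [1,2,3,4] tMF tMS tMR = true := by
  decide +kernel

def tYF : Tr :=
    (.node (.node (.node (.node (.node (.node (.node (.node .leaf 28 0 31 .leaf) 8 2 5 .leaf) 19 4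
    32 (.node .leaf 48 1 57 .leaf)) 8 4 16 (.node (.node (.node .leaf 5 1 3 .leaf) 37 4 23 .leaf)
    31 2 48 (.node .leaf 34 0 29 .leaf))) 4 3 8 (.node (.node (.node (.node .leaf 10 0 35 .leaf) 20
    2 20 .leaf) 26 1 40 (.node .leaf 23 0 41 .leaf)) 14 3 24 (.node (.node (.node .leaf 0 0 1
    .leaf) 53 1 37 .leaf) 40 3 56 (.node .leaf 5 0 43 .leaf)))) 2 2 4 (.node (.node (.node (.node
    (.node .leaf 5 0 16 .leaf) 12 2 12 .leaf) 22 1 36 (.node .leaf 44 0 49 .leaf)) 11 3 20 (.node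
    (.node (.node .leaf 5 0 2 .leaf) 46 2 32 .leaf) 35 3 52 (.node .leaf 43 0 23 .leaf))) 6 3 12
    (.node (.node (.node (.node .leaf 11 0 7 .leaf) 28 2 28 .leaf) 29 1 44 (.node .leaf 37 0 27
    .leaf)) 16 3 28 (.node (.node .leaf 52 0 23 .leaf) 0 3 0 (.node .leaf 18 0 21 .leaf))))) 1 1 2
    (.node (.node (.node (.node (.node (.node .leaf 11 0 14 .leaf) 9 1 6 .leaf) 21 2 34 (.node
    .leaf 46 1 31 .leaf)) 10 4 18 (.node (.node (.node .leaf 1 0 5 .leaf) 41 1 30 .leaf) 32 1 50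
    (.node .leaf 7 0 46 .leaf))) 5 1 10 (.node (.node (.node (.node .leaf 28 0 3 .leaf) 24 2 24
    .leaf) 27 3 42 (.node .leaf 44 0 34 .leaf)) 15 4 26 (.node (.node .leaf 51 3 53 .leaf) 0 1 0
    (.node .leaf 7 0 14 .leaf)))) 2 4 6 (.node (.node (.node (.node (.node .leaf 8 0 11 .leaf) 16 2
    11 .leaf) 23 3 38 (.node .leaf 48 0 35 .leaf)) 13 4 22 (.node (.node (.node .leaf 0 0 6 .leaf)
    48 3 41 .leaf) 39 3 54 (.node .leaf 19 0 16 .leaf))) 7 4 14 (.node (.node (.node (.node .leaf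
    10 0 7 .leaf) 34 1 34 .leaf) 30 4 46 (.node .leaf 30 0 36 .leaf)) 19 2 30 (.node (.node .leaf
    55 4 50 .leaf) 3 4 3 (.node .leaf 3 0 31 .leaf)))))) 0 4 1 (.node (.node (.node (.node (.node
    (.node (.node .leaf 8 0 16 .leaf) 9 2 6 .leaf) 20 1 33 (.node .leaf 46 0 47 .leaf)) 10 2 17
    (.node (.node (.node .leaf 2 0 3 .leaf) 39 2 26 .leaf) 31 4 49 (.node .leaf 34 4 31 .leaf))) 4
    4 9 (.node (.node (.node (.node .leaf 3 0 17 .leaf) 22 2 14 .leaf) 27 2 41 (.node .leaf 19 0 53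
    .leaf)) 15 2 25 (.node (.node (.node .leaf 0 4 0 .leaf) 53 4 53 .leaf) 40 4 57 (.node .leaf 14
    0 36 .leaf)))) 2 3 5 (.node (.node (.node (.node (.node .leaf 10 0 11 .leaf) 13 1 13 .leaf) 23
    2 37 (.node .leaf 44 4 31 .leaf)) 12 1 21 (.node (.node (.node .leaf 1 0 2 .leaf) 47 3 33
    .leaf) 36 2 53 (.node .leaf 11 0 27 .leaf))) 7 2 13 (.node (.node (.node (.node .leaf 3 0 35
    .leaf) 29 2 18 .leaf) 30 3 45 (.node .leaf 11 0 37 .leaf)) 17 4 29 (.node (.node .leaf 23 3 35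
    .leaf) 1 2 1 (.node .leaf 17 0 31 .leaf))))) 1 3 3 (.node (.node (.node (.node (.node (.node
    .leaf 28 0 35 .leaf) 10 3 7 .leaf) 21 4 35 (.node .leaf 46 3 33 .leaf)) 11 1 19 (.node (.node
    (.node .leaf 6 0 2 .leaf) 45 2 42 .leaf) 34 4 51 (.node .leaf 27 2 23 .leaf))) 5 4 11 (.node
    (.node (.node (.node .leaf 8 0 5 .leaf) 25 1 17 .leaf) 27 4 43 (.node .leaf 14 0 30 .leaf)) 16
    1 27 (.node (.node .leaf 38 0 35 .leaf) 0 2 0 (.node .leaf 19 4 19 .leaf)))) 3 1 7 (.node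
    (.node (.node (.node (.node .leaf 2 0 28 .leaf) 17 3 13 .leaf) 25 4 39 (.node .leaf 51 0 31
    .leaf)) 14 1 23 (.node (.node (.node .leaf 6 0 1 .leaf) 51 2 35 .leaf) 40 2 55 (.node .leaf 16
    0 23 .leaf))) 8 1 15 (.node (.node (.node (.node .leaf 5 0 7 .leaf) 36 4 36 .leaf) 31 1 47
    (.node .leaf 32 0 19 .leaf)) 19 3 31 (.node (.node .leaf 57 2 50 .leaf) 3 2 3 (.node .leaf 16 1
    11 .leaf)))))))

def tYS : List (ℕ × ℕ × List ℕ) :=
    [(0,0,[]), (0,0,[]), (0,0,[]), (0,0,[]), (0,0,[]), (0,0,[]), (0,0,[]), (0,0,[]), (0,0,[]),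
    (0,0,[]), (0,0,[]), (0,0,[]), (0,0,[]), (0,0,[]), (0,0,[]), (0,0,[]), (0,0,[]), (0,0,[]),
    (0,0,[]), (0,0,[]), (0,0,[]), (0,0,[]), (0,0,[]), (0,0,[]), (0,0,[]), (0,0,[]), (0,0,[]),
    (0,0,[]), (0,0,[]), (0,0,[]), (0,0,[]), (0,0,[]), (0,0,[]), (0,0,[]), (0,0,[]), (0,0,[]),
    (0,0,[]), (0,0,[]), (0,0,[]), (0,0,[]), (0,0,[]), (0,0,[]), (0,0,[]), (0,0,[]), (0,0,[]),
    (0,0,[]), (0,0,[]), (0,0,[]), (0,0,[]), (0,0,[]), (0,0,[]), (0,0,[]), (0,0,[]), (0,0,[]),
    (0,0,[]), (0,0,[]), (0,0,[]), (1,0,[]), (1,0,[]), (1,0,[]), (11,2,[1,116,0]),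
    (12,1,[5,1,118,0,4]), (13,3,[5,1,116,116,118,116,118,0,120,4]), (9,3,[9,3,4,124,5,120,2,6,14]),
    (11,2,[11,6,16]), (14,3,[129,17,7,3,1,116,114,0,2,6,16]), (8,1,[13,5,2,8,18]),
    (13,3,[23,11,6,7,8,127,15,16,128,22]), (6,2,[25,13,124,12,24]), (11,2,[21,127,30]),
    (9,2,[25,133,19,9,6,14,126,18,32]), (13,3,[39,21,127,126,9,6,14,30,138,38]), (11,2,[27,24,42]),
    (13,3,[47,27,24,25,133,32,140,42,144,46]), (6,2,[33,19,127,28,48]),
    (7,2,[55,138,38,142,39,139,54]), (11,2,[35,32,56]), (6,2,[67,41,134,40,66]),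
    (14,11,[71,144,27,13,124,122,124,12,26,145,70]), (14,2,[45,145,43,25,13,122,124,12,26,44,72]),
    (11,2,[51,48,76]), (6,2,[59,37,139,52,80]), (9,3,[83,53,54,150,55,138,36,58,88]),
    (11,2,[63,58,90]), (8,1,[65,39,36,60,92]), (7,1,[81,82,165,89,59,60,94]), (11,2,[69,66,100]),
    (6,2,[73,45,145,70,104]), (11,1,[105,156,104]),
    (15,27,[176,105,71,43,25,13,5,1,115,117,115,119,115,0,4,5,2,6,14,15,16,130,22,40,66,155,100]),
    (9,7,[173,178,105,71,144,46,147,47,44,74]), (5,0,[74,180,102]), (5,0,[102,182]),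
    (14,2,[99,167,91,59,37,21,127,28,50,78,108]), (11,2,[187,109,112]),
    (15,12,[113,110,111,79,161,106,107,77,148,140,137,25,13,123,5,1,117,115,0,121,2,8,20,36,58,163,171]),
    (6,4,[93,94,190,188,99,167]), (3,0,[92,193]), (5,0,[169,193]),
    (14,8,[97,94,190,113,79,161,77,148,33,34,153,86]), (10,0,[96,199]),
    (15,20,[69,41,23,131,128,131,17,14,30,138,36,62,167,194,61,62,98,189,191,170,162,90,196,197,194,94,170,171]),
    (4,0,[94,202,173]), (5,0,[171,202,185]), (5,0,[179,204,61]), (10,0,[100,204,201]),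
    (3,0,[163,207,45]), (4,0,[80,207,72]), (3,0,[175,209,37]), (4,0,[104,209,58]),
    (10,0,[208,176,209,62]), (3,0,[86,210,155]), (10,0,[201,210]), (10,0,[91,213,27]),
    (4,0,[72,214]), (10,0,[159,214,84]), (2,0,[215,217]), (3,0,[52,233,36]), (4,0,[229,233,139]),
    (10,0,[85,233,21]), (2,0,[219,213]), (10,0,[240,156,241,27]), (10,0,[62,220]),
    (4,0,[66,222,152]), (10,0,[225,222,57]), (3,0,[195,227,13]), (3,0,[36,234]), (5,0,[61,234,54]),
    (10,0,[235,244,234,31]), (3,0,[44,237,252]), (5,0,[185,237,54]), (2,0,[236,231,239]),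
    (3,0,[253,263,18]), (4,0,[139,263,127]), (5,0,[55,263,9]), (10,0,[69,247,35]), (2,0,[248,251]),
    (2,0,[272,248,255]), (2,0,[262,257]), (2,0,[242,259]), (2,0,[261,274]), (2,0,[279,265]),
    (2,0,[279,267,276]), (3,0,[12,285]), (2,0,[275,269]), (3,0,[286,289,3]),
    (10,0,[288,122,289,10]), (2,0,[288,280,271,282,285]), (2,0,[295,291]), (10,0,[11,297,1]),
    (2,0,[296,293]), (2,0,[301,299]), (10,0,[0,303])]

def tYR : List (ℕ × List ℕ) :=
    [(0,[115,117,119,305])]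

theorem tYC : check id (rl (ex [3,1,2,3])) [1,2,3] [1,2,3,4] tYF tYS tYR = true := by
  decide +kernel

def tZF : Tr :=
    (.node (.node (.node (.node (.node (.node (.node (.node .leaf 62 0 39 .leaf) 45 3 64 .leaf) 19
    3 32 (.node (.node .leaf 10 0 3 .leaf) 41 4 24 .leaf)) 8 4 16 (.node (.node (.node .leaf 30 0
    24 .leaf) 18 3 13 .leaf) 30 2 48 (.node .leaf 61 3 43 .leaf))) 4 3 8 (.node (.node (.node
    (.node .leaf 41 0 24 .leaf) 8 2 5 .leaf) 23 3 40 (.node .leaf 56 1 56 .leaf)) 14 1 24 (.node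
    (.node (.node .leaf 3 0 7 .leaf) 30 3 22 .leaf) 36 2 56 (.node .leaf 55 2 36 .leaf)))) 2 2 4
    (.node (.node (.node (.node (.node .leaf 39 0 48 .leaf) 0 3 0 .leaf) 21 1 36 (.node .leaf 48 3
    48 .leaf)) 11 1 20 (.node (.node (.node .leaf 29 0 17 .leaf) 25 2 25 .leaf) 33 3 52 (.node
    .leaf 50 4 47 .leaf))) 6 3 12 (.node (.node (.node (.node .leaf 14 0 24 .leaf) 12 2 12 .leaf)
    26 4 44 (.node .leaf 42 0 49 .leaf)) 16 1 28 (.node (.node (.node .leaf 9 3 9 .leaf) 37 1 37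
    .leaf) 39 2 60 (.node .leaf 43 0 38 .leaf))))) 1 1 2 (.node (.node (.node (.node (.node (.node
    .leaf 30 0 42 .leaf) 0 1 0 .leaf) 20 3 34 (.node (.node .leaf 0 0 1 .leaf) 46 1 33 .leaf)) 10 2
    18 (.node (.node (.node .leaf 17 0 24 .leaf) 21 2 21 .leaf) 31 1 50 (.node .leaf 62 4 48
    .leaf))) 5 1 10 (.node (.node (.node (.node .leaf 30 4 30 .leaf) 9 1 6 .leaf) 24 3 42 (.node
    .leaf 39 3 58 .leaf)) 15 2 26 (.node (.node (.node .leaf 9 3 25 .leaf) 32 4 25 .leaf) 37 4 58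
    (.node .leaf 51 4 36 .leaf)))) 2 4 6 (.node (.node (.node (.node (.node .leaf 14 0 23 .leaf) 3
    4 3 .leaf) 22 4 38 (.node .leaf 53 2 35 .leaf)) 12 1 22 (.node (.node (.node .leaf 25 0 9
    .leaf) 29 2 29 .leaf) 34 1 54 (.node .leaf 55 0 56 .leaf))) 7 4 14 (.node (.node (.node (.node
    .leaf 7 0 13 .leaf) 16 2 11 .leaf) 28 2 46 (.node .leaf 60 1 41 .leaf)) 17 1 30 (.node (.node
    (.node .leaf 10 0 7 .leaf) 39 4 39 .leaf) 42 2 62 (.node .leaf 60 0 42 .leaf)))))) 0 4 1 (.node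
    (.node (.node (.node (.node (.node (.node .leaf 24 0 62 .leaf) 45 4 65 .leaf) 20 2 33 (.node
    (.node .leaf 1 0 3 .leaf) 44 2 27 .leaf)) 9 3 17 (.node (.node (.node .leaf 24 4 24 .leaf) 21 4
    12 .leaf) 30 4 49 (.node .leaf 62 3 60 .leaf))) 4 4 9 (.node (.node (.node (.node .leaf 17 0 41
    .leaf) 9 2 6 .leaf) 24 2 41 (.node .leaf 58 2 38 .leaf)) 14 3 25 (.node (.node (.node .leaf 9 0
    14 .leaf) 31 2 19 .leaf) 36 4 57 (.node .leaf 51 0 57 .leaf)))) 2 3 5 (.node (.node (.node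
    (.node (.node .leaf 24 0 39 .leaf) 1 2 1 .leaf) 22 2 37 (.node .leaf 52 2 47 .leaf)) 11 3 21
    (.node (.node (.node .leaf 14 0 17 .leaf) 26 1 18 .leaf) 33 4 53 (.node .leaf 47 1 53 .leaf)))
    7 2 13 (.node (.node (.node (.node .leaf 24 3 24 .leaf) 13 1 13 .leaf) 27 1 45 (.node .leaf 42
    4 30 .leaf)) 16 3 29 (.node (.node (.node .leaf 7 0 9 .leaf) 37 3 37 .leaf) 42 1 61 (.node
    .leaf 41 0 61 .leaf))))) 1 3 3 (.node (.node (.node (.node (.node (.node .leaf 39 2 42 .leaf) 0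
    2 0 .leaf) 20 4 35 (.node (.node .leaf 0 4 0 .leaf) 48 1 48 .leaf)) 10 4 19 (.node (.node
    (.node .leaf 9 0 17 .leaf) 23 2 14 .leaf) 32 1 51 (.node .leaf 65 1 52 .leaf))) 5 4 11 (.node
    (.node (.node (.node .leaf 24 0 48 .leaf) 10 3 7 .leaf) 25 1 43 (.node .leaf 38 3 41 .leaf)) 15
    4 27 (.node (.node (.node .leaf 29 0 9 .leaf) 32 2 32 .leaf) 38 1 59 (.node .leaf 59 0 25
    .leaf)))) 3 1 7 (.node (.node (.node (.node (.node .leaf 41 0 42 .leaf) 3 2 3 .leaf) 23 1 39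
    (.node .leaf 54 3 36 .leaf)) 13 4 23 (.node (.node (.node .leaf 7 0 29 .leaf) 29 4 17 .leaf) 35
    3 55 (.node .leaf 55 1 55 .leaf))) 8 1 15 (.node (.node (.node (.node .leaf 41 0 30 .leaf) 17 2
    17 .leaf) 28 3 47 (.node .leaf 60 4 60 .leaf)) 18 4 31 (.node (.node (.node .leaf 1 0 10 .leaf)
    40 2 40 .leaf) 44 3 63 (.node .leaf 42 1 41 .leaf)))))))

def tZS : List (ℕ × ℕ × List ℕ) :=
    [(0,0,[]), (0,0,[]), (0,0,[]), (0,0,[]), (0,0,[]), (0,0,[]), (0,0,[]), (0,0,[]), (0,0,[]),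
    (0,0,[]), (0,0,[]), (0,0,[]), (0,0,[]), (0,0,[]), (0,0,[]), (0,0,[]), (0,0,[]), (0,0,[]),
    (0,0,[]), (0,0,[]), (0,0,[]), (0,0,[]), (0,0,[]), (0,0,[]), (0,0,[]), (0,0,[]), (0,0,[]),
    (0,0,[]), (0,0,[]), (0,0,[]), (0,0,[]), (0,0,[]), (0,0,[]), (0,0,[]), (0,0,[]), (0,0,[]),
    (0,0,[]), (0,0,[]), (0,0,[]), (0,0,[]), (0,0,[]), (0,0,[]), (0,0,[]), (0,0,[]), (0,0,[]),
    (0,0,[]), (0,0,[]), (0,0,[]), (0,0,[]), (0,0,[]), (0,0,[]), (0,0,[]), (0,0,[]), (0,0,[]),
    (0,0,[]), (0,0,[]), (0,0,[]), (0,0,[]), (0,0,[]), (0,0,[]), (0,0,[]), (0,0,[]), (0,0,[]),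
    (0,0,[]), (0,0,[]), (1,0,[]), (1,0,[]), (1,0,[]), (11,2,[1,132,0]), (12,1,[5,1,134,0,4]),
    (13,3,[5,1,132,132,134,132,134,0,136,4]), (9,3,[9,3,4,140,5,136,2,6,14]), (11,2,[11,6,16]),
    (14,3,[145,17,7,3,1,132,130,0,2,6,16]), (8,1,[13,5,2,8,18]),
    (13,3,[23,11,6,7,8,143,15,16,144,22]), (6,2,[25,13,140,12,24]), (11,2,[21,143,30]),
    (7,2,[33,144,22,150,23,145,32]), (9,2,[25,149,19,9,6,14,142,18,34]), (12,1,[23,11,8,20,40]),
    (13,3,[41,21,143,142,9,6,14,30,154,40]), (11,2,[27,24,44]),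
    (13,3,[49,27,24,25,149,34,158,44,164,48]), (6,2,[35,19,143,28,50]),
    (7,2,[57,154,40,162,41,155,56]), (12,1,[33,17,14,30,56]), (8,1,[43,23,147,32,58]),
    (11,2,[37,34,60]), (12,1,[49,27,149,36,62]), (13,3,[63,37,34,35,148,24,159,60,176,62]),
    (6,2,[73,43,150,42,72]), (9,2,[73,175,59,33,144,22,150,42,72]),
    (14,11,[77,164,27,13,140,138,140,12,26,165,76]), (7,2,[79,164,48,166,49,165,78]),
    (14,2,[47,165,45,25,13,138,140,12,26,46,80]), (11,2,[53,50,86]), (6,2,[65,39,155,54,90]),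
    (6,2,[95,59,156,58,94]), (7,1,[95,174,72,184,73,175,94]),
    (9,3,[93,55,56,170,57,154,38,64,102]), (11,2,[69,64,104]), (8,1,[71,41,38,66,106]),
    (6,2,[111,71,162,70,110]), (11,2,[75,72,114]),
    (15,6,[115,183,73,43,23,147,17,14,15,7,3,4,5,1,131,135,131,133,131,0,4,139,141,12,26,165,76]),
    (9,8,[81,47,165,78,188,79,76,210,208]), (12,3,[97,174,74,212,190,82]), (10,0,[96,215]),
    (6,2,[81,47,165,76,118]), (11,1,[119,186,118]), (8,1,[85,49,46,82,120]),
    (7,1,[119,210,208,212,81,82,122]), (11,1,[95,217,122]),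
    (15,21,[103,195,91,55,31,15,16,144,147,17,7,3,4,138,12,24,152,159,169,86,124,125,192,88,126,127,128]),
    (14,8,[201,229,129,89,193,87,168,35,36,177,98]),
    (14,0,[202,69,39,155,31,142,18,36,177,98,230]), (9,3,[111,205,107,67,64,102,200,232,202,108]),
    (3,0,[234,206,235]), (4,0,[110,235]),
    (15,3,[113,239,236,109,69,39,155,54,92,232,105,102,103,65,39,40,41,21,18,148,13,141,12,26,48,179,181,100]),
    (10,0,[112,241]), (14,8,[179,180,100,242,71,163,160,42,72,114,208,116]), (3,0,[116,244,84]),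
    (5,0,[222,246,212]), (3,0,[120,249,219]), (3,0,[219,250]), (4,0,[118,250,122]),
    (5,0,[224,250,83]), (10,0,[251,220,250,216]), (4,0,[122,254]), (10,0,[227,254,187]),
    (2,0,[255,257]), (3,0,[76,265,47]), (4,0,[261,265,80]), (10,0,[264,186,265,191]),
    (3,0,[253,259,59]), (10,0,[217,259]), (2,0,[263,265]), (3,0,[276,196,277,47]),
    (5,0,[276,198,277]), (10,0,[44,267,27]), (2,0,[258,269]), (2,0,[271,284]),
    (10,0,[287,274,286]), (2,0,[287,285,273]), (5,0,[290,280,291,33]), (10,0,[290,288,291,173]),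
    (2,0,[290,279]), (5,0,[32,297,48]), (10,0,[172,297,27]), (3,0,[282,152,283,13]),
    (2,0,[296,293]), (5,0,[49,305]), (2,0,[304,296,295]), (5,0,[306,298]), (2,0,[309,301]),
    (5,0,[312,310,313,149]), (5,0,[148,303,5]), (2,0,[302,315]), (2,0,[319,317]),
    (10,0,[320,138,321,1]), (10,0,[0,323])]

def tZR : List (ℕ × List ℕ) :=
    [(0,[131,133,135,325])]

theorem tZC : check id (rl (ex [3,2,1,3])) [1,2,3] [1,2,3,4] tZF tZS tZR = true := by
  decide +kernel

def tOF : Tr :=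
    (.node (.node (.node (.node (.node (.node .leaf 1 0 10 .leaf) 0 2 0 .leaf) 4 3 8 (.node (.node
    .leaf 0 0 13 .leaf) 9 1 6 .leaf)) 2 2 4 (.node (.node (.node .leaf 13 4 13 .leaf) 3 2 3 .leaf)
    7 2 12 (.node .leaf 14 3 12 .leaf))) 1 1 2 (.node (.node (.node (.node .leaf 4 0 8 .leaf) 1 2 1
    .leaf) 5 1 10 (.node (.node .leaf 0 4 0 .leaf) 12 1 12 .leaf)) 2 4 6 (.node (.node (.node .leaf
    0 0 6 .leaf) 8 2 5 .leaf) 10 2 14 (.node .leaf 7 0 12 .leaf)))) 0 4 1 (.node (.node (.node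
    (.node (.node .leaf 2 0 5 .leaf) 0 3 0 .leaf) 4 4 9 (.node (.node .leaf 1 0 0 .leaf) 10 3 7
    .leaf)) 2 3 5 (.node (.node (.node .leaf 11 0 0 .leaf) 4 1 4 .leaf) 9 3 13 (.node .leaf 14 0 10
    .leaf))) 1 3 3 (.node (.node (.node (.node .leaf 4 3 4 .leaf) 3 4 3 .leaf) 6 3 11 (.node .leaf
    7 4 12 .leaf)) 3 1 7 (.node (.node (.node .leaf 0 0 9 .leaf) 9 2 6 .leaf) 0 1 0 (.node .leaf 3
    0 7 .leaf)))))

def tOS : List (ℕ × ℕ × List ℕ) :=
    [(0,0,[]), (0,0,[]), (0,0,[]), (0,0,[]), (0,0,[]), (0,0,[]), (0,0,[]), (0,0,[]), (0,0,[]),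
    (0,0,[]), (0,0,[]), (0,0,[]), (0,0,[]), (0,0,[]), (1,0,[]), (1,0,[]), (1,0,[]),
    (11,2,[1,30,0]), (12,1,[5,1,32,0,4]), (13,3,[5,1,30,30,32,30,32,0,34,4]), (6,2,[7,3,34,2,6]),
    (9,3,[9,3,4,38,5,34,2,6,14]), (11,2,[11,6,16]), (14,3,[45,17,7,3,1,30,28,0,2,6,16]),
    (8,1,[13,5,2,8,18]), (6,2,[23,13,38,12,22]),
    (15,3,[23,13,5,1,29,31,29,33,29,0,4,5,1,29,33,29,31,29,0,4,37,39,12]),
    (9,2,[23,49,19,9,6,14,42,18,26]), (13,3,[26,54,53,22,23,49,26,54,53,22,55]), (5,0,[55,56,48]),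
    (3,0,[58,50,59,13]), (5,0,[48,61,5]), (3,0,[18,63,2]), (4,0,[42,65,6]), (5,0,[14,67]),
    (12,3,[25,17,69,16,24]),
    (15,7,[0,2,6,40,69,41,16,24,25,17,41,69,41,7,3,1,33,0,35,2,10,45,46,20]), (5,0,[20,72,33]),
    (3,0,[46,75,29]), (5,0,[25,77,33]), (10,0,[78,70,79,0]), (10,0,[0,80])]

def tOR : List (ℕ × List ℕ) :=
    [(0,[29,31,33,83])]

theorem tOC : check id (rl (ex [])) [1,2,3] [1,2,3,4] tOF tOS tOR = true := by
  decide +kernel

def tBF : Tr :=
    (.node (.node (.node (.node (.node (.node (.node (.node (.node (.node .leaf 299 3 287 .leaf)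
    195 4 256 .leaf) 75 4 128 (.node (.node .leaf 0 4 0 .leaf) 121 2 74 .leaf)) 38 1 64 (.node
    (.node (.node .leaf 9 0 246 .leaf) 16 3 16 .leaf) 128 1 192 (.node .leaf 219 2 181 .leaf))) 17
    3 32 (.node (.node (.node (.node .leaf 43 0 248 .leaf) 234 2 288 .leaf) 102 1 160 (.node .leaf
    164 1 171 .leaf)) 56 2 96 (.node (.node (.node .leaf 149 0 137 .leaf) 62 2 54 .leaf) 159 1 224
    (.node .leaf 271 2 205 .leaf)))) 8 1 16 (.node (.node (.node (.node (.node .leaf 295 0 243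
    .leaf) 206 4 272 .leaf) 89 4 144 (.node .leaf 152 2 115 .leaf)) 46 3 80 (.node (.node (.node
    .leaf 12 0 230 .leaf) 35 2 21 .leaf) 143 4 208 (.node .leaf 225 1 239 .leaf))) 27 4 48 (.node
    (.node (.node (.node .leaf 160 0 227 .leaf) 269 2 304 .leaf) 116 4 176 (.node .leaf 191 2 128
    .leaf)) 68 3 112 (.node (.node (.node .leaf 33 0 18 .leaf) 103 3 78 .leaf) 176 1 240 (.node
    .leaf 236 1 261 .leaf))))) 4 3 8 (.node (.node (.node (.node (.node (.node .leaf 306 3 302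
    .leaf) 199 1 264 .leaf) 84 2 136 (.node .leaf 133 2 83 .leaf)) 42 2 72 (.node (.node (.node
    .leaf 180 0 171 .leaf) 26 2 15 .leaf) 134 2 200 (.node .leaf 229 4 167 .leaf))) 23 1 40 (.node
    (.node (.node (.node .leaf 73 0 106 .leaf) 254 3 296 .leaf) 109 3 168 (.node .leaf 180 2 137
    .leaf)) 60 1 104 (.node (.node (.node .leaf 25 0 12 .leaf) 81 2 48 .leaf) 167 1 232 (.node
    .leaf 278 3 240 .leaf)))) 12 2 24 (.node (.node (.node (.node (.node .leaf 25 0 186 .leaf) 221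
    1 280 .leaf) 97 3 152 (.node .leaf 158 2 102 .leaf)) 50 3 88 (.node (.node (.node .leaf 13 0 84
    .leaf) 52 2 52 .leaf) 151 3 216 (.node .leaf 248 2 243 .leaf))) 32 1 56 (.node (.node (.node
    (.node .leaf 120 0 126 .leaf) 3 2 3 .leaf) 122 2 184 (.node .leaf 209 3 207 .leaf)) 72 3 120
    (.node (.node (.node .leaf 24 0 12 .leaf) 110 2 66 .leaf) 186 3 248 (.node .leaf 273 3 290
    .leaf)))))) 2 2 4 (.node (.node (.node (.node (.node (.node (.node .leaf 301 1 271 .leaf) 197 3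
    260 .leaf) 80 4 132 (.node .leaf 91 3 127 .leaf)) 40 2 68 (.node (.node (.node .leaf 102 0 162
    .leaf) 18 3 18 .leaf) 131 1 196 (.node .leaf 223 1 214 .leaf))) 21 3 36 (.node (.node (.node
    (.node .leaf 58 0 242 .leaf) 247 3 292 .leaf) 104 4 164 (.node .leaf 125 3 160 .leaf)) 58 2 100
    (.node (.node (.node .leaf 156 0 130 .leaf) 67 2 49 .leaf) 163 4 228 (.node .leaf 276 2 217
    .leaf)))) 10 2 20 (.node (.node (.node (.node (.node .leaf 123 0 287 .leaf) 215 4 276 .leaf) 92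
    2 148 (.node .leaf 144 1 154 .leaf)) 48 1 84 (.node (.node (.node .leaf 85 0 281 .leaf) 41 2 25
    .leaf) 149 3 212 (.node .leaf 245 3 218 .leaf))) 30 3 52 (.node (.node (.node (.node .leaf 120
    0 164 .leaf) 0 2 0 .leaf) 120 1 180 (.node .leaf 199 2 179 .leaf)) 70 2 116 (.node (.node
    (.node .leaf 224 0 19 .leaf) 105 3 105 .leaf) 182 2 244 (.node .leaf 266 2 275 .leaf))))) 6 1
    12 (.node (.node (.node (.node (.node (.node .leaf 192 0 226 .leaf) 202 1 268 .leaf) 87 2 140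
    (.node .leaf 144 2 91 .leaf)) 44 2 76 (.node (.node (.node .leaf 156 0 180 .leaf) 32 2 32
    .leaf) 139 2 204 (.node .leaf 235 3 204 .leaf))) 26 1 44 (.node (.node (.node (.node .leaf 59 0
    243 .leaf) 266 4 300 .leaf) 113 1 172 (.node .leaf 190 1 152 .leaf)) 64 2 108 (.node (.node
    (.node .leaf 102 0 194 .leaf) 94 3 56 .leaf) 171 3 236 (.node .leaf 282 1 277 .leaf)))) 15 3 28
    (.node (.node (.node (.node (.node .leaf 218 0 262 .leaf) 226 3 284 .leaf) 99 1 156 (.node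
    .leaf 163 3 163 .leaf)) 52 1 92 (.node (.node (.node .leaf 18 0 99 .leaf) 59 4 59 .leaf) 156 2
    220 (.node .leaf 259 1 254 .leaf))) 35 3 60 (.node (.node (.node (.node .leaf 33 0 42 .leaf) 10
    3 7 .leaf) 125 2 188 (.node .leaf 212 2 168 .leaf)) 73 4 124 (.node (.node (.node .leaf 2 0 9
    .leaf) 113 2 69 .leaf) 192 3 252 (.node .leaf 296 4 279 .leaf))))))) 1 1 2 (.node (.node (.node
    (.node (.node (.node (.node (.node .leaf 304 3 281 .leaf) 196 4 258 .leaf) 77 4 130 (.node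
    .leaf 122 4 87 .leaf)) 38 4 66 (.node (.node (.node .leaf 6 0 100 .leaf) 19 2 19 .leaf) 129 1
    194 (.node .leaf 220 3 184 .leaf))) 18 4 34 (.node (.node (.node (.node .leaf 125 0 238 .leaf)
    242 4 290 .leaf) 103 4 162 (.node .leaf 161 2 175 .leaf)) 57 1 98 (.node (.node (.node .leaf
    171 0 130 .leaf) 64 3 40 .leaf) 160 4 226 (.node .leaf 272 1 228 .leaf)))) 9 1 18 (.node (.node
    (.node (.node (.node .leaf 253 1 243 .leaf) 211 3 274 .leaf) 90 2 146 (.node .leaf 153 3 123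
    .leaf)) 47 2 82 (.node (.node (.node .leaf 24 0 25 .leaf) 36 4 28 .leaf) 148 3 210 (.node .leaf
    244 3 215 .leaf))) 29 4 50 (.node (.node (.node (.node .leaf 34 0 181 .leaf) 275 4 306 .leaf)
    119 2 178 (.node .leaf 193 4 141 .leaf)) 69 1 114 (.node (.node (.node .leaf 9 0 130 .leaf) 85
    2 103 .leaf) 181 1 242 (.node .leaf 233 0 265 .leaf))))) 5 1 10 (.node (.node (.node (.node
    (.node (.node .leaf 294 0 250 .leaf) 201 1 266 .leaf) 84 4 138 (.node .leaf 137 1 91 .leaf)) 42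
    4 74 (.node (.node (.node .leaf 180 0 130 .leaf) 29 1 20 .leaf) 136 4 202 (.node .leaf 230 4
    230 .leaf))) 25 1 42 (.node (.node (.node (.node .leaf 71 0 187 .leaf) 258 1 298 .leaf) 111 1
    170 (.node .leaf 186 2 124 .leaf)) 61 4 106 (.node (.node (.node .leaf 18 0 57 .leaf) 88 2 88
    .leaf) 169 1 234 (.node .leaf 281 2 253 .leaf)))) 14 4 26 (.node (.node (.node (.node (.node
    .leaf 100 0 289 .leaf) 225 3 282 .leaf) 98 3 154 (.node .leaf 162 2 135 .leaf)) 51 3 90 (.node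
    (.node (.node .leaf 33 0 57 .leaf) 55 1 47 .leaf) 153 4 218 (.node .leaf 255 1 238 .leaf))) 34
    1 58 (.node (.node (.node (.node .leaf 33 0 122 .leaf) 8 2 5 .leaf) 123 4 186 (.node .leaf 210
    2 206 .leaf)) 73 1 122 (.node (.node (.node .leaf 2 0 19 .leaf) 111 2 86 .leaf) 189 3 250
    (.node .leaf 287 2 292 .leaf)))))) 2 4 6 (.node (.node (.node (.node (.node (.node (.node .leaf
    301 4 305 .leaf) 198 3 262 .leaf) 83 1 134 (.node .leaf 131 3 107 .leaf)) 41 1 70 (.node (.node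
    (.node .leaf 18 0 120 .leaf) 23 4 13 .leaf) 133 1 198 (.node .leaf 224 2 194 .leaf))) 22 3 38
    (.node (.node (.node (.node .leaf 245 0 198 .leaf) 252 4 294 .leaf) 106 1 166 (.node .leaf 178
    3 129 .leaf)) 58 4 102 (.node (.node (.node .leaf 18 0 220 .leaf) 77 1 63 .leaf) 165 3 230
    (.node .leaf 262 1 276 .leaf)))) 11 1 22 (.node (.node (.node (.node (.node .leaf 153 0 299
    .leaf) 218 1 278 .leaf) 96 4 150 (.node .leaf 157 2 117 .leaf)) 49 4 86 (.node (.node (.node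
    .leaf 127 0 83 .leaf) 45 2 45 .leaf) 150 3 214 (.node .leaf 246 3 194 .leaf))) 31 3 54 (.node
    (.node (.node (.node .leaf 74 0 72 .leaf) 1 2 1 .leaf) 121 1 182 (.node .leaf 206 3 142 .leaf))
    70 4 118 (.node (.node (.node .leaf 9 0 132 .leaf) 95 1 107 .leaf) 184 1 246 (.node .leaf 288 1
    257 .leaf))))) 7 2 14 (.node (.node (.node (.node (.node (.node .leaf 293 0 225 .leaf) 203 2
    270 .leaf) 88 1 142 (.node .leaf 146 3 140 .leaf)) 44 4 78 (.node (.node (.node .leaf 18 0 184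
    .leaf) 33 1 24 .leaf) 141 1 206 (.node .leaf 227 3 238 .leaf))) 27 2 46 (.node (.node (.node
    (.node .leaf 6 0 185 .leaf) 268 4 302 .leaf) 114 2 174 (.node .leaf 190 3 155 .leaf)) 65 4 110
    (.node (.node (.node .leaf 19 0 102 .leaf) 99 2 71 .leaf) 172 4 238 (.node .leaf 284 4 250
    .leaf)))) 16 4 30 (.node (.node (.node (.node (.node .leaf 42 0 167 .leaf) 232 2 286 .leaf) 100
    4 158 (.node .leaf 169 2 131 .leaf)) 54 1 94 (.node (.node (.node .leaf 12 0 91 .leaf) 60 2 60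
    .leaf) 158 1 222 (.node .leaf 265 2 201 .leaf))) 37 3 62 (.node (.node (.node (.node .leaf 43 0
    198 .leaf) 13 1 13 .leaf) 126 2 190 (.node .leaf 216 1 155 .leaf)) 74 3 126 (.node (.node
    (.node .leaf 2 4 2 .leaf) 119 3 81 .leaf) 195 2 254 (.node .leaf 298 4 267 .leaf)))))))) 0 4 1
    (.node (.node (.node (.node (.node (.node (.node (.node (.node .leaf 299 1 289 .leaf) 196 2 257
    .leaf) 76 4 129 (.node .leaf 122 3 75 .leaf)) 38 2 65 (.node (.node (.node .leaf 13 0 136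
    .leaf) 17 2 11 .leaf) 128 3 193 (.node .leaf 220 1 178 .leaf))) 18 2 33 (.node (.node (.node
    (.node .leaf 12 0 123 .leaf) 242 2 289 .leaf) 102 3 161 (.node .leaf 175 3 118 .leaf)) 56 4 97
    (.node (.node (.node .leaf 224 0 102 .leaf) 63 2 39 .leaf) 160 2 225 (.node .leaf 272 2 211
    .leaf)))) 8 4 17 (.node (.node (.node (.node (.node .leaf 291 0 253 .leaf) 208 1 273 .leaf) 90
    1 145 (.node .leaf 153 1 100 .leaf)) 46 4 81 (.node (.node (.node .leaf 25 0 105 .leaf) 21 1 35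
    .leaf) 145 2 209 (.node .leaf 241 2 223 .leaf))) 28 1 49 (.node (.node (.node (.node .leaf 161
    0 130 .leaf) 274 1 305 .leaf) 117 4 177 (.node .leaf 191 3 147 .leaf)) 68 4 113 (.node (.node
    (.node .leaf 2 0 135 .leaf) 101 1 78 .leaf) 176 3 241 (.node .leaf 267 2 285 .leaf))))) 4 4 9
    (.node (.node (.node (.node (.node (.node .leaf 294 1 300 .leaf) 200 4 265 .leaf) 84 3 137
    (.node .leaf 135 4 85 .leaf)) 42 3 73 (.node (.node (.node .leaf 159 0 160 .leaf) 28 2 28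
    .leaf) 134 4 201 (.node .leaf 229 2 167 .leaf))) 24 4 41 (.node (.node (.node (.node .leaf 74 0
    229 .leaf) 257 4 297 .leaf) 110 3 169 (.node .leaf 185 3 136 .leaf)) 61 2 105 (.node (.node
    (.node .leaf 43 0 25 .leaf) 82 3 76 .leaf) 168 1 233 (.node .leaf 260 4 280 .leaf)))) 12 4 25
    (.node (.node (.node (.node (.node .leaf 74 0 255 .leaf) 224 4 281 .leaf) 98 2 153 (.node .leaf
    159 3 116 .leaf)) 51 2 89 (.node (.node (.node .leaf 2 0 158 .leaf) 49 3 55 .leaf) 151 4 217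
    (.node .leaf 249 2 240 .leaf))) 33 4 57 (.node (.node (.node (.node .leaf 99 0 126 .leaf) 4 1 4
    .leaf) 123 1 185 (.node .leaf 166 4 209 .leaf)) 72 4 121 (.node (.node (.node .leaf 9 0 12
    .leaf) 66 1 110 .leaf) 188 3 249 (.node .leaf 292 4 286 .leaf)))))) 2 3 5 (.node (.node (.node
    (.node (.node (.node (.node .leaf 305 3 275 .leaf) 197 4 261 .leaf) 82 4 133 (.node .leaf 129 2
    78 .leaf)) 40 4 69 (.node (.node (.node .leaf 130 1 126 .leaf) 20 3 14 .leaf) 132 1 197 (.node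
    .leaf 222 3 213 .leaf))) 22 2 37 (.node (.node (.node (.node .leaf 57 0 219 .leaf) 251 4 293
    .leaf) 105 4 165 (.node .leaf 176 2 118 .leaf)) 58 3 101 (.node (.node (.node .leaf 132 0 220
    .leaf) 79 3 63 .leaf) 164 3 229 (.node .leaf 276 3 264 .leaf)))) 10 4 21 (.node (.node (.node
    (.node (.node .leaf 42 0 247 .leaf) 216 2 277 .leaf) 94 4 149 (.node .leaf 156 3 144 .leaf)) 48
    3 85 (.node (.node (.node .leaf 162 0 194 .leaf) 43 4 43 .leaf) 150 1 213 (.node .leaf 246 2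
    185 .leaf))) 31 2 53 (.node (.node (.node (.node .leaf 73 2 165 .leaf) 0 3 0 .leaf) 120 4 181
    (.node .leaf 202 2 138 .leaf)) 70 3 117 (.node (.node (.node .leaf 132 0 137 .leaf) 107 2 95
    .leaf) 183 2 245 (.node .leaf 256 3 286 .leaf))))) 6 3 13 (.node (.node (.node (.node (.node
    (.node .leaf 251 0 283 .leaf) 202 3 269 .leaf) 87 3 141 (.node .leaf 145 3 92 .leaf)) 44 3 77
    (.node (.node (.node .leaf 57 0 72 .leaf) 32 4 19 .leaf) 139 4 205 (.node .leaf 237 1 174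
    .leaf))) 26 3 45 (.node (.node (.node (.node .leaf 43 0 245 .leaf) 268 3 301 .leaf) 113 3 173
    (.node .leaf 173 1 183 .leaf)) 64 4 109 (.node (.node (.node .leaf 135 0 91 .leaf) 95 3 86
    .leaf) 172 2 237 (.node .leaf 283 2 226 .leaf)))) 16 2 29 (.node (.node (.node (.node (.node
    .leaf 186 1 167 .leaf) 229 1 285 .leaf) 100 3 157 (.node .leaf 165 2 106 .leaf)) 53 4 93 (.node
    (.node (.node .leaf 9 0 156 .leaf) 59 2 43 .leaf) 157 4 221 (.node .leaf 232 3 263 .leaf))) 36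
    1 61 (.node (.node (.node (.node .leaf 103 0 253 .leaf) 13 2 13 .leaf) 125 4 189 (.node .leaf
    214 2 173 .leaf)) 74 1 125 (.node (.node (.node .leaf 6 0 2 .leaf) 116 1 72 .leaf) 194 4 253
    (.node .leaf 297 2 258 .leaf))))))) 1 3 3 (.node (.node (.node (.node (.node (.node (.node
    (.node .leaf 271 3 303 .leaf) 197 2 259 .leaf) 79 4 131 (.node .leaf 127 1 85 .leaf)) 39 3 67
    (.node (.node (.node .leaf 24 0 98 .leaf) 19 1 19 .leaf) 130 1 195 (.node .leaf 221 2 177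
    .leaf))) 20 4 35 (.node (.node (.node (.node .leaf 126 0 195 .leaf) 243 1 291 .leaf) 104 2 163
    (.node .leaf 161 1 126 .leaf)) 57 3 99 (.node (.node (.node .leaf 132 0 149 .leaf) 65 3 53
    .leaf) 162 1 227 (.node .leaf 274 2 231 .leaf)))) 9 3 19 (.node (.node (.node (.node (.node
    .leaf 292 0 73 .leaf) 212 1 275 .leaf) 90 4 147 (.node .leaf 154 2 120 .leaf)) 47 4 83 (.node
    (.node (.node .leaf 18 0 72 .leaf) 36 2 36 .leaf) 149 1 211 (.node .leaf 245 1 241 .leaf))) 30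
    1 51 (.node (.node (.node (.node .leaf 33 0 154 .leaf) 0 1 0 .leaf) 119 4 179 (.node .leaf 196
    3 139 .leaf)) 69 3 115 (.node (.node (.node .leaf 18 0 9 .leaf) 104 3 61 .leaf) 181 3 243
    (.node .leaf 233 2 201 .leaf))))) 5 4 11 (.node (.node (.node (.node (.node (.node .leaf 284 0
    252 .leaf) 201 3 267 .leaf) 86 1 139 (.node .leaf 143 2 141 .leaf)) 43 1 75 (.node (.node
    (.node .leaf 99 0 120 .leaf) 29 3 29 .leaf) 138 3 203 (.node .leaf 234 3 170 .leaf))) 25 3 43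
    (.node (.node (.node (.node .leaf 24 0 73 .leaf) 262 4 299 .leaf) 112 4 171 (.node .leaf 187 4
    126 .leaf)) 62 4 107 (.node (.node (.node .leaf 135 0 224 .leaf) 93 2 55 .leaf) 170 2 235
    (.node .leaf 282 2 278 .leaf)))) 15 1 27 (.node (.node (.node (.node (.node .leaf 98 0 279
    .leaf) 225 4 283 .leaf) 98 4 155 (.node .leaf 162 3 130 .leaf)) 51 4 91 (.node (.node (.node
    .leaf 158 0 135 .leaf) 57 2 34 .leaf) 154 4 219 (.node .leaf 255 4 247 .leaf))) 34 3 59 (.node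
    (.node (.node (.node .leaf 12 0 165 .leaf) 9 2 6 .leaf) 124 3 187 (.node .leaf 211 4 210
    .leaf)) 73 2 123 (.node (.node (.node .leaf 1 0 2 .leaf) 112 2 94 .leaf) 192 2 251 (.node .leaf
    296 2 262 .leaf)))))) 3 1 7 (.node (.node (.node (.node (.node (.node (.node .leaf 306 2 300
    .leaf) 198 4 263 .leaf) 83 3 135 (.node .leaf 132 2 130 .leaf)) 41 3 71 (.node (.node (.node
    .leaf 24 0 144 .leaf) 23 2 23 .leaf) 133 3 199 (.node .leaf 228 2 164 .leaf))) 22 4 39 (.node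
    (.node (.node (.node .leaf 72 0 229 .leaf) 253 1 295 .leaf) 106 3 167 (.node .leaf 179 3 132
    .leaf)) 59 1 103 (.node (.node (.node .leaf 33 0 43 .leaf) 80 2 77 .leaf) 166 3 231 (.node
    .leaf 277 3 237 .leaf)))) 11 3 23 (.node (.node (.node (.node (.node .leaf 186 0 232 .leaf) 219
    1 279 .leaf) 97 1 151 (.node .leaf 136 1 157 .leaf)) 50 1 87 (.node (.node (.node .leaf 19 0
    194 .leaf) 50 2 30 .leaf) 151 2 215 (.node .leaf 248 4 245 .leaf))) 31 4 55 (.node (.node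
    (.node (.node .leaf 116 0 125 .leaf) 3 4 3 .leaf) 121 3 183 (.node .leaf 208 2 193 .leaf)) 71 1
    119 (.node (.node (.node .leaf 9 0 43 .leaf) 108 3 96 .leaf) 186 1 247 (.node .leaf 288 3 257
    .leaf))))) 7 4 15 (.node (.node (.node (.node (.node (.node .leaf 225 4 251 .leaf) 204 4 271
    .leaf) 89 3 143 (.node .leaf 150 2 97 .leaf)) 45 1 79 (.node (.node (.node .leaf 24 0 75 .leaf)
    33 3 24 .leaf) 142 2 207 (.node .leaf 239 2 222 .leaf))) 27 3 47 (.node (.node (.node (.node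
    .leaf 12 0 153 .leaf) 269 1 303 .leaf) 115 1 175 (.node .leaf 182 3 172 .leaf)) 66 3 111 (.node
    (.node (.node .leaf 6 0 137 .leaf) 99 4 71 .leaf) 174 3 239 (.node .leaf 285 3 261 .leaf)))) 17
    1 31 (.node (.node (.node (.node (.node .leaf 41 0 124 .leaf) 232 4 287 .leaf) 101 2 159 (.node
    .leaf 171 2 149 .leaf)) 54 4 95 (.node (.node (.node .leaf 33 0 156 .leaf) 60 4 45 .leaf) 158 3
    223 (.node .leaf 270 3 253 .leaf))) 37 4 63 (.node (.node (.node (.node .leaf 75 0 133 .leaf)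
    12 3 12 .leaf) 127 4 191 (.node .leaf 218 2 155 .leaf)) 75 2 127 (.node (.node (.node .leaf 0 0
    1 .leaf) 117 1 81 .leaf) 195 3 255 (.node .leaf 299 2 279 .leaf)))))))))

def tBS : List (ℕ × ℕ × List ℕ) :=
    [(0,0,[]), (0,0,[]), (0,0,[]), (0,0,[]), (0,0,[]), (0,0,[]), (0,0,[]), (0,0,[]), (0,0,[]),
    (0,0,[]), (0,0,[]), (0,0,[]), (0,0,[]), (0,0,[]), (0,0,[]), (0,0,[]), (0,0,[]), (0,0,[]),
    (0,0,[]), (0,0,[]), (0,0,[]), (0,0,[]), (0,0,[]), (0,0,[]), (0,0,[]), (0,0,[]), (0,0,[]),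
    (0,0,[]), (0,0,[]), (0,0,[]), (0,0,[]), (0,0,[]), (0,0,[]), (0,0,[]), (0,0,[]), (0,0,[]),
    (0,0,[]), (0,0,[]), (0,0,[]), (0,0,[]), (0,0,[]), (0,0,[]), (0,0,[]), (0,0,[]), (0,0,[]),
    (0,0,[]), (0,0,[]), (0,0,[]), (0,0,[]), (0,0,[]), (0,0,[]), (0,0,[]), (0,0,[]), (0,0,[]),
    (0,0,[]), (0,0,[]), (0,0,[]), (0,0,[]), (0,0,[]), (0,0,[]), (0,0,[]), (0,0,[]), (0,0,[]),
    (0,0,[]), (0,0,[]), (0,0,[]), (0,0,[]), (0,0,[]), (0,0,[]), (0,0,[]), (0,0,[]), (0,0,[]),
    (0,0,[]), (0,0,[]), (0,0,[]), (0,0,[]), (0,0,[]), (0,0,[]), (0,0,[]), (0,0,[]), (0,0,[]),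
    (0,0,[]), (0,0,[]), (0,0,[]), (0,0,[]), (0,0,[]), (0,0,[]), (0,0,[]), (0,0,[]), (0,0,[]),
    (0,0,[]), (0,0,[]), (0,0,[]), (0,0,[]), (0,0,[]), (0,0,[]), (0,0,[]), (0,0,[]), (0,0,[]),
    (0,0,[]), (0,0,[]), (0,0,[]), (0,0,[]), (0,0,[]), (0,0,[]), (0,0,[]), (0,0,[]), (0,0,[]),
    (0,0,[]), (0,0,[]), (0,0,[]), (0,0,[]), (0,0,[]), (0,0,[]), (0,0,[]), (0,0,[]), (0,0,[]),
    (0,0,[]), (0,0,[]), (0,0,[]), (0,0,[]), (0,0,[]), (0,0,[]), (0,0,[]), (0,0,[]), (0,0,[]),
    (0,0,[]), (0,0,[]), (0,0,[]), (0,0,[]), (0,0,[]), (0,0,[]), (0,0,[]), (0,0,[]), (0,0,[]),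
    (0,0,[]), (0,0,[]), (0,0,[]), (0,0,[]), (0,0,[]), (0,0,[]), (0,0,[]), (0,0,[]), (0,0,[]),
    (0,0,[]), (0,0,[]), (0,0,[]), (0,0,[]), (0,0,[]), (0,0,[]), (0,0,[]), (0,0,[]), (0,0,[]),
    (0,0,[]), (0,0,[]), (0,0,[]), (0,0,[]), (0,0,[]), (0,0,[]), (0,0,[]), (0,0,[]), (0,0,[]),
    (0,0,[]), (0,0,[]), (0,0,[]), (0,0,[]), (0,0,[]), (0,0,[]), (0,0,[]), (0,0,[]), (0,0,[]),
    (0,0,[]), (0,0,[]), (0,0,[]), (0,0,[]), (0,0,[]), (0,0,[]), (0,0,[]), (0,0,[]), (0,0,[]),
    (0,0,[]), (0,0,[]), (0,0,[]), (0,0,[]), (0,0,[]), (0,0,[]), (0,0,[]), (0,0,[]), (0,0,[]),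
    (0,0,[]), (0,0,[]), (0,0,[]), (0,0,[]), (0,0,[]), (0,0,[]), (0,0,[]), (0,0,[]), (0,0,[]),
    (0,0,[]), (0,0,[]), (0,0,[]), (0,0,[]), (0,0,[]), (0,0,[]), (0,0,[]), (0,0,[]), (0,0,[]),
    (0,0,[]), (0,0,[]), (0,0,[]), (0,0,[]), (0,0,[]), (0,0,[]), (0,0,[]), (0,0,[]), (0,0,[]),
    (0,0,[]), (0,0,[]), (0,0,[]), (0,0,[]), (0,0,[]), (0,0,[]), (0,0,[]), (0,0,[]), (0,0,[]),
    (0,0,[]), (0,0,[]), (0,0,[]), (0,0,[]), (0,0,[]), (0,0,[]), (0,0,[]), (0,0,[]), (0,0,[]),
    (0,0,[]), (0,0,[]), (0,0,[]), (0,0,[]), (0,0,[]), (0,0,[]), (0,0,[]), (0,0,[]), (0,0,[]),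
    (0,0,[]), (0,0,[]), (0,0,[]), (0,0,[]), (0,0,[]), (0,0,[]), (0,0,[]), (0,0,[]), (0,0,[]),
    (0,0,[]), (0,0,[]), (0,0,[]), (0,0,[]), (0,0,[]), (0,0,[]), (0,0,[]), (0,0,[]), (0,0,[]),
    (0,0,[]), (0,0,[]), (0,0,[]), (0,0,[]), (0,0,[]), (0,0,[]), (0,0,[]), (0,0,[]), (0,0,[]),
    (0,0,[]), (0,0,[]), (0,0,[]), (0,0,[]), (0,0,[]), (0,0,[]), (0,0,[]), (0,0,[]), (0,0,[]),
    (0,0,[]), (0,0,[]), (0,0,[]), (0,0,[]), (0,0,[]), (0,0,[]), (0,0,[]), (0,0,[]), (0,0,[]),
    (0,0,[]), (0,0,[]), (0,0,[]), (0,0,[]), (0,0,[]), (0,0,[]), (0,0,[]), (0,0,[]), (0,0,[]),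
    (0,0,[]), (0,0,[]), (0,0,[]), (0,0,[]), (0,0,[]), (0,0,[]), (0,0,[]), (0,0,[]), (0,0,[]),
    (1,0,[]), (1,0,[]), (1,0,[]), (11,2,[1,614,0]), (12,1,[5,1,616,0,4]),
    (13,3,[5,1,614,614,616,614,616,0,618,4]), (6,2,[7,3,618,2,6]), (9,3,[9,3,4,622,5,618,2,6,14]),
    (11,2,[11,6,16]), (8,1,[13,5,2,8,18]), (13,3,[25,11,6,7,8,627,15,16,628,24]),
    (14,13,[25,11,3,618,1,616,612,614,616,0,618,2,10,24,633]), (8,3,[23,24,634,25,22]),
    (8,1,[31,15,624,14,30]), (11,2,[21,627,32]), (7,2,[37,628,24,632,25,629,36]),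
    (9,5,[37,628,24,632,634,632,25,629,36]), (8,3,[35,36,644,37,34]),
    (9,2,[27,631,19,9,6,14,626,18,38]), (12,1,[25,11,8,20,44]),
    (13,3,[45,21,627,626,9,6,14,32,640,44]), (11,2,[29,26,50]),
    (13,3,[55,29,26,27,631,38,648,50,654,54]), (6,2,[39,19,627,30,56]),
    (9,2,[57,638,31,15,7,8,627,30,56]), (7,2,[63,640,44,652,45,641,62]), (12,1,[37,17,14,32,62]),
    (6,2,[47,23,629,34,64]), (9,2,[47,636,23,24,632,25,629,34,64]), (11,2,[41,38,68]),
    (14,9,[69,648,27,13,5,1,612,614,0,4,12,26,649,68,670]), (12,1,[55,29,631,40,70]),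
    (13,3,[71,41,38,39,630,26,649,68,670,70]), (11,2,[49,46,80]), (12,1,[85,49,636,48,84]),
    (7,2,[89,654,54,656,55,655,88]), (11,2,[59,56,98]),
    (13,3,[103,59,56,57,638,56,660,98,684,102]),
    (14,14,[109,61,640,21,9,3,619,4,621,623,12,28,54,657,96]), (8,2,[93,53,54,96,688]),
    (11,2,[67,64,112]), (12,1,[117,67,646,66,116]), (13,3,[85,49,46,47,636,46,669,112,692,116]),
    (7,2,[119,670,70,676,71,671,118]), (12,1,[89,51,649,68,118]),
    (9,3,[107,61,62,662,63,640,42,72,122]), (11,2,[77,72,124]), (8,1,[79,45,42,74,126]),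
    (7,1,[105,106,703,123,73,74,128]), (13,3,[688,109,104,105,106,703,123,124,704,132]),
    (9,6,[704,132,710,97,656,55,655,88,156]), (8,4,[713,157,89,86,152]),
    (9,3,[153,87,88,682,89,654,52,90,158]), (11,2,[95,90,160]), (7,1,[151,152,717,159,91,92,162]),
    (7,2,[175,684,102,686,103,685,174]), (11,2,[109,104,184]), (8,1,[111,63,60,106,186]),
    (12,2,[171,688,109,106,188]), (7,2,[141,678,84,697,117,693,196]), (12,1,[141,81,669,112,196]),
    (14,14,[155,87,654,29,631,19,627,15,16,628,22,48,84,697,204]), (8,4,[735,205,117,114,200]),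
    (14,12,[205,117,67,35,628,11,8,18,38,648,50,654,52,94,168]), (8,1,[121,71,672,118,206]),
    (9,2,[209,741,207,119,670,70,676,120,208]), (11,2,[189,703,212]),
    (14,9,[213,123,73,43,44,650,634,632,651,45,42,72,122,212,744]),
    (9,2,[191,727,187,107,104,709,129,126,214]), (11,2,[131,128,218]),
    (14,9,[219,708,105,61,62,664,644,642,665,63,60,104,709,218,750]),
    (13,3,[729,189,703,702,107,104,709,218,750,220]), (7,2,[726,190,749,215,706,134,222]),
    (11,2,[137,134,224]), (6,2,[143,83,679,138,230]), (9,6,[718,168,738,205,696,85,679,140,236]),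
    (8,4,[763,237,141,138,232]), (11,2,[147,142,240]), (8,1,[149,85,82,144,242]),
    (14,15,[173,684,59,638,31,626,9,10,629,34,66,116,696,148,769]), (6,2,[738,205,696,148,252]),
    (14,11,[253,149,85,49,23,629,17,14,30,56,661,98,684,100,180]), (11,2,[155,150,256]),
    (12,2,[213,123,124,713,260]), (11,2,[259,717,262]), (11,2,[165,162,264]),
    (12,1,[169,95,92,164,268]), (8,2,[774,772,169,166,272]),
    (9,3,[281,173,174,722,175,684,100,176,284]), (11,2,[181,176,286]), (8,1,[183,103,100,178,288]),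
    (7,1,[279,280,789,285,177,178,290]), (11,2,[193,190,298]),
    (13,3,[229,137,134,135,707,214,748,298,796,302]), (6,2,[199,115,693,194,304]),
    (9,2,[245,145,83,84,697,117,693,194,304]), (7,2,[239,143,144,244,803,305,306]),
    (9,0,[804,239,143,144,242,768,252,775,791]), (8,1,[806,307,195,196,310]),
    (9,3,[233,139,140,731,197,692,114,198,312]), (6,0,[810,764,718,166,270]), (11,2,[203,198,314]),
    (7,1,[231,232,811,313,199,200,316]), (11,2,[784,738,322]), (12,2,[259,153,154,735,322]),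
    (7,1,[325,740,208,742,209,741,324]), (11,2,[211,208,328]), (7,2,[778,744,728,755,221,751,336]),
    (11,2,[297,757,340]), (14,0,[828,297,726,111,663,63,33,626,18,40,70,677,120,741,326]),
    (14,14,[235,139,678,49,636,23,629,36,665,662,110,192,302,798,348]),
    (14,12,[349,229,137,79,653,650,25,22,46,669,112,692,114,202,320]),
    (14,13,[251,147,83,679,81,669,666,47,636,48,679,138,234,833,835]), (8,3,[319,320,836,251,248]),
    (11,2,[235,230,350]), (7,1,[776,735,739,169,719,763,354]), (12,2,[263,159,160,763,356]),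
    (6,1,[786,791,806,804,358]), (8,1,[812,313,801,802,368]), (11,2,[247,244,370]),
    (12,1,[251,147,144,246,372]), (6,2,[798,348,835,836,378]),
    (9,5,[365,766,250,378,854,798,229,759,344]), (13,4,[309,304,305,306,804,239,240,766,250,378]),
    (8,3,[343,344,856,365,362]), (11,2,[255,252,380]), (12,2,[293,179,180,774,380]),
    (12,1,[281,771,768,254,384]), (8,1,[277,729,746,779,390]), (7,2,[844,780,821,818,269,783,396]),
    (11,2,[275,270,402]), (8,1,[283,175,172,280,410]), (11,2,[866,789,414]),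
    (9,2,[413,875,411,281,278,795,291,288,416]),
    (14,10,[878,413,283,175,99,658,39,40,70,120,208,743,328,824,330]),
    (7,2,[874,412,879,417,792,294,418]),
    (14,10,[419,295,183,103,59,31,626,20,44,78,134,222,340,828,420]),
    (13,3,[335,217,214,215,706,134,222,340,828,422]), (7,2,[345,758,228,799,303,797,426]),
    (8,2,[859,854,303,300,430]), (11,2,[309,304,434]), (11,2,[361,805,436]),
    (6,2,[355,237,731,310,438]), (7,1,[367,768,252,775,791,809,438]), (11,2,[353,811,440]),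
    (9,5,[427,796,302,798,348,835,321,815,444]), (8,3,[425,426,903,445,442]),
    (6,1,[387,776,737,316,446]), (11,2,[327,324,454]), (12,1,[333,211,741,326,456]),
    (13,3,[333,211,208,209,741,324,822,454,908,456]), (12,1,[459,329,742,328,458]),
    (8,1,[339,221,752,336,466]), (9,2,[407,869,391,778,744,728,755,338,468]),
    (6,2,[347,227,759,342,472]),
    (14,14,[475,343,758,137,707,127,128,708,184,724,690,164,268,819,452]),
    (9,3,[904,425,426,888,345,758,226,346,476]), (6,0,[924,443,814,318,448]),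
    (7,2,[445,814,320,834,832,841,480]), (9,2,[429,430,890,859,379,251,767,362,486]),
    (6,2,[928,902,888,856,488]), (7,1,[892,859,379,251,767,364,488]), (6,1,[369,245,242,366,490]),
    (8,1,[387,843,897,898,490]), (12,1,[934,435,802,370,494]),
    (13,3,[485,361,805,804,239,143,144,246,851,494]), (9,9,[479,840,833,835,321,318,839,374,496]),
    (8,2,[923,453,820,388,508]),
    (14,15,[493,850,247,145,83,679,140,733,730,236,356,844,780,388,508]),
    (6,2,[507,389,781,392,516]),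
    (14,14,[525,395,782,165,93,53,655,88,701,699,206,326,456,912,462]), (11,2,[401,398,528]),
    (13,4,[505,907,906,939,936,848,402,872,404,538]), (11,2,[409,406,540]), (11,2,[884,882,542]),
    (14,0,[908,327,740,121,676,71,41,38,659,98,174,722,282,875,542]),
    (9,3,[461,331,332,913,457,909,963,960,546]), (11,2,[433,428,550]),
    (14,3,[527,870,844,263,716,714,125,122,702,186,726,192,300,428,550]),
    (8,0,[968,527,397,394,522]), (7,1,[473,861,486,930,429,430,552]), (8,1,[479,480,933,934,554]),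
    (14,15,[559,900,353,233,139,678,84,681,697,204,322,820,781,392,518]), (11,2,[505,907,560]),
    (7,2,[974,945,497,375,838,448,562]), (8,2,[972,920,476,927,562]), (11,2,[451,448,564]),
    (12,1,[499,377,838,450,566]),
    (14,14,[521,393,780,259,153,87,654,54,675,676,120,210,332,913,568]),
    (8,4,[989,569,457,830,470]),
    (14,12,[569,457,327,207,699,700,89,86,150,721,264,782,266,400,532]),
    (9,1,[954,532,992,988,991,471,828,422,886,464]), (4,0,[955,995]), (6,3,[549,886,464,996,530]),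
    (14,11,[571,463,333,211,121,677,674,55,52,90,158,262,780,388,510]),
    (6,2,[513,391,827,466,574]), (7,1,[513,868,406,919,469,917,574]),
    (14,14,[579,483,895,437,307,195,692,116,695,696,148,254,384,877,544]),
    (12,1,[1001,511,508,948,582]), (11,0,[1008,571,572]),
    (9,3,[523,395,396,870,844,780,388,506,590]),
    (14,15,[557,894,361,239,761,231,232,352,901,558,977,519,516,950,590]), (11,2,[515,512,592]),
    (14,10,[533,997,465,335,217,127,128,218,336,466,574,1004,592,1016,594]),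
    (11,2,[1015,1012,596]), (12,2,[573,952,525,522,596]),
    (14,0,[577,578,1007,545,876,385,255,252,772,785,269,783,394,522,596]),
    (7,1,[978,957,539,405,873,536,606]),
    (14,3,[605,606,1026,561,906,387,257,721,163,691,689,170,276,406,540]),
    (8,0,[1028,605,537,534,600]), (8,1,[549,423,420,546,608]),
    (14,10,[1032,999,531,532,1019,595,1017,593,1005,1002,513,868,408,959,1031]),
    (11,2,[599,998,610]), (12,2,[603,600,1034,1032,610]),
    (14,0,[1037,611,1033,609,964,461,880,417,289,292,865,862,382,502,586]),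
    (14,14,[499,377,249,767,241,238,358,846,273,274,873,534,602,1039,1036,1041]),
    (10,0,[586,1042,987]), (5,0,[566,1044,503]), (4,0,[984,1047,500]), (10,0,[564,1049,584]),
    (10,0,[584,1050]), (14,1,[943,940,934,554,981,563,1052,501,383,255,769,366,490,938,504,588]),
    (3,0,[588,1054,580]), (3,0,[580,1056]),
    (14,13,[242,768,254,382,500,1053,562,982,553,431,432,967,971,596,1022,1010]),
    (4,0,[1010,1060,244]), (5,0,[582,1060,145]), (5,0,[1022,1063,803]), (10,0,[572,1063,370]),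
    (3,0,[492,1065,83]), (10,0,[948,1065,146]), (3,0,[1025,1067,800]), (4,0,[1021,1067,305]),
    (10,0,[596,1067,434]), (3,0,[462,1069]), (3,0,[1081,1071,82]), (4,0,[851,1071,679]),
    (5,0,[495,1071,84]), (10,0,[370,1071,49]), (3,0,[947,1073,248]), (5,0,[508,1073,250]),
    (4,0,[576,1075,199]), (3,0,[556,1077,195]), (5,0,[522,1079,935]), (4,0,[912,1083,142]),
    (5,0,[332,1083,144]), (10,0,[910,1083,146]), (5,0,[373,1085,140]), (10,0,[246,1085,81]),
    (4,0,[943,1087,697]), (10,0,[941,1087,681]), (3,0,[369,1089,23]), (5,0,[802,1089,637]),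
    (5,0,[922,1091,838]), (3,0,[388,1093,837]), (3,0,[482,1095,115]), (10,0,[436,1097,113]),
    (5,0,[456,1101,238]), (4,0,[824,1103]), (2,0,[1100,1105]), (3,0,[249,1130,761]),
    (5,0,[251,1130,238]), (10,0,[853,1107,733]), (3,0,[243,1109,667]), (4,0,[1129,1109,47]),
    (5,0,[144,1109,669]), (3,0,[1058,1111,204]), (2,0,[1099,1113]), (3,0,[394,1147,148]),
    (4,0,[936,1115,629]), (5,0,[849,1115,24]), (3,0,[801,1117,23]), (4,0,[304,1117,46]),
    (3,0,[452,1119,319]), (3,0,[837,1120]), (10,0,[360,1123,67]), (3,0,[806,1125,666]),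
    (3,0,[831,1127,358]), (5,0,[839,1133,817]), (3,0,[1160,1135,358]), (2,0,[1134,1137]),
    (3,0,[359,1173,310]), (5,0,[238,1173,197]), (4,0,[367,1139,65]), (5,0,[769,1139,668]),
    (5,0,[459,1141,637]), (10,0,[328,1141,48]), (3,0,[82,1143,666]), (4,0,[143,1143,65]),
    (4,0,[978,1145,739]), (10,0,[504,1145,322]), (4,0,[783,1149,252]), (5,0,[939,1151,36]),
    (4,0,[270,1153,633]), (10,0,[315,1155,11]), (3,0,[194,1157,667]), (4,0,[819,1159,815]),
    (2,0,[1172,1163]), (3,0,[311,1207,35]), (4,0,[791,1165,47]), (5,0,[808,1165,669]),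
    (4,0,[847,1166,828]), (3,0,[318,1169,446]), (2,0,[1171,1166]), (4,0,[829,1218,781]),
    (2,0,[1219,1167,1175]), (4,0,[439,1222,781]), (5,0,[898,1179,647]), (3,0,[148,1181,667]),
    (10,0,[1182,914,1183,48]), (5,0,[1184,742,1185,84]), (2,0,[1176,1189]), (10,0,[560,1191,785]),
    (2,0,[1193,1159]), (5,0,[774,1194,268]), (2,0,[1238,1197]), (5,0,[273,1199,25]),
    (2,0,[1234,1203]), (2,0,[1205,1201]), (2,0,[1223,1209]), (2,0,[1250,1223,1213,1246]),
    (2,0,[1242,1217]), (2,0,[1215,1221]), (2,0,[1224,1227,1252]), (2,0,[1229,1246,1252]),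
    (2,0,[1231,1187]), (2,0,[1263,1186,1233,1261]), (2,0,[1255,1237,1249]),
    (3,0,[1266,644,1267,3]), (2,0,[1264,1210,1241,1249]), (2,0,[1270,1258,1256,1245]),
    (10,0,[10,1272]), (10,0,[1268,1274,1269,1]), (10,0,[0,1277])]

def tBR : List (ℕ × List ℕ) :=
    [(0,[613,615,617,1279])]

theorem tBC : check id (rl ([cm [4,3,1,2,3,4]])) [1,2,3] [1,2,3,4] tBF tBS tBR = true := by
  decide +kernel

variable {G : Type*} [Group G]

theorem inv_of {a b c d : G} {l : List (List ℕ)} (h : Rel a b c d (rl l)) (i : ℕ) :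
    gn a b c d (id i) = (gn a b c d i)⁻¹ := by
  have h1 := h [1,1] (by simp [rl, rl3])
  have h2 := h [2,2] (by simp [rl, rl3])
  have h3 := h [3,3] (by simp [rl, rl3])
  have h4 := h [4,4] (by simp [rl])
  simp only [ev, gn, List.map_cons, List.map_nil, List.prod_cons, List.prod_nil, mul_one]
    at h1 h2 h3 h4
  unfold gn id
  split <;> first | exact eq_inv_of_mul_eq_one_left ‹_› | simp

theorem ev_append (a b c d : G) (u v : List ℕ) :
    ev a b c d (u ++ v) = ev a b c d u * ev a b c d v := by simp [ev]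

theorem ev_reverse {a b c d : G} {l : List (List ℕ)} (h : Rel a b c d (rl l)) (u : List ℕ) :
    ev a b c d u.reverse = (ev a b c d u)⁻¹ := by
  induction u with
  | nil => simp [ev]
  | cons i u ih =>
    rw [List.reverse_cons, ev_append, ih]
    have := inv_of h i
    simp only [id] at this
    simp [ev, ← this]

theorem extra {a b c d : G} (h : Rel a b c d (rl [])) {l : List (List ℕ)} (hl : Rel a b c d l) :
    Rel a b c d (rl l) := by
  intro r hr
  rcases List.mem_append.mp hr with h1 | h1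
  · exact h r (List.mem_append_left _ h1)
  · exact hl r h1

theorem ev_cm {a b c d : G} (h : Rel a b c d (rl [])) {w : List ℕ}
    (hc : a * b * ev a b c d w = ev a b c d w * (a * b)) : ev a b c d (cm w) = 1 := by
  have : ev a b c d [1,2] = a * b := by simp [ev, gn]
  rw [cm, ev_append, ev_append, ev_append, ev_reverse h, ev_reverse h, this, hc]
  group

theorem rel_ex {a b c d : G} (h : Rel a b c d (rl [])) {w : List ℕ}
    (hc : a * b * (d * (a * b) * d) = d * (a * b) * d * (a * b))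
    (hw : (ev a b c d wg)⁻¹ * (a * b * (d * (a * b) * d)) * ev a b c d wg = ev a b c d w) :
    Rel a b c d (rl (ex w)) := by
  refine extra h fun r hr => ?_
  simp only [ex, List.mem_cons, List.not_mem_nil, or_false] at hr
  rcases hr with rfl | rfl
  · exact ev_cm h (by simpa [ev, gn, mul_assoc] using hc)
  · have : ev a b c d wxy = a * b * (d * (a * b) * d) := by simp [ev, gn, wxy, mul_assoc]
    rw [ev_append, ev_append, ev_append, ev_reverse h, ev_reverse h, this, ← hw]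
    group

theorem card_le {a b c d : G} {l : List (List ℕ)} (h : Rel a b c d (rl l)) {F : Tr}
    {S : List (ℕ × ℕ × List ℕ)} {R : List (ℕ × List ℕ)}
    (hc : check id (rl l) [1,2,3] [1,2,3,4] F S R = true) :
    Finite (closure {x | x ∈ [a, b, c, d]}) ∧
      Nat.card (closure {x | x ∈ [a, b, c, d]}) ≤ R.length * 48 := by
  obtain ⟨h1, h2⟩ := card_closure_le (gen := gn a b c d) (H := ⊥) rfl (inv_of h) (rels := rl3)
    (fun r hr => h r (List.mem_append_left _ (List.mem_append_left _ hr))) (by simp) (by simp) tHC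
  obtain ⟨h3, h4⟩ := card_closure_le (gen := gn a b c d) rfl (inv_of h) h
    (H := closure {x | x ∈ [1,2,3].map (gn a b c d)})
    (fun g hg => subset_closure (List.mem_map_of_mem hg)) (by simp) hc
  refine ⟨h3, h4.trans (Nat.mul_le_mul_left _ ?_)⟩
  rw [card_bot] at h2
  exact h2

theorem mem_of_collapse {a b c d : G} {l : List (List ℕ)} (h : Rel a b c d (rl l)) {F : Tr}
    {S : List (ℕ × ℕ × List ℕ)} {r : List ℕ}
    (hc : check id (rl l) [1,2,3] [1,2,3,4] F S [(0, r)] = true) {K : Subgroup G} (ha : a ∈ K)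
    (hb : b ∈ K) (hc' : c ∈ K) : d ∈ K := by
  obtain ⟨s, hs, h1⟩ := exists_reps (gen := gn a b c d) rfl (inv_of h) h (H := K)
    (by simp [gn, ha, hb, hc']) (by simp) hc d (subset_closure (by simp [gn]))
  simp only [List.map_cons, List.map_nil, List.mem_singleton] at hs
  subst hs
  rw [pt] at h1
  simpa using h1

end Cfsg.Agent.Lib.GL23TC
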