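import Cfsg.Agent.Lib.HJ2Syl
import Cfsg.Agent.Lib.SUBasic
import Cfsg.Agent.Lib.GF4

/-! The subgroup `U₃(3)` of a group of type `J₂`. -/

set_option autoImplicit false
set_option maxRecDepth 100000

namespace Cfsg.Agent.Lib.HJ2U33

open Subgroup Cfsg.Agent.Lib.SmallTC Cfsg.Agent.Lib.TCList Cfsg.Agent.Lib.HJModel
  Cfsg.Agent.Lib.HJFuse Cfsg.Agent.Lib.HJOrder Cfsg.Agent.Lib.HJ2Pres Cfsg.Agent.Lib.HJ2Perm
  Cfsg.Agent.Lib.HJ2Syl

/-- Inverse letters. -/
def tU : List ℕ := [1,3,2,4,5,6,7,8,9,11,10]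

/-- Relators of `U₃(3)`. -/
def rU : List (List ℕ) :=
    [[1,1], [2,3], [3,2], [4,4], [5,5], [6,6], [7,7], [8,8], [9,9], [10,11], [11,10], [3,3,3], [1,4,1,4],
    [1,7,1,7], [3,1,2,6], [3,4,2,9], [3,5,2,1], [3,6,2,5], [3,7,2,7], [3,8,2,4], [3,9,2,8], [5,7,5,7],
    [5,8,5,8], [6,7,6,7], [6,9,6,9], [11,1,10,1], [11,6,10,5], [11,7,10,7], [11,9,10,8], [11,11,1,7],
    [11,11,7,1], [11,11,11,11], [1,5,1,5,7], [3,6,10,3,10], [5,8,7,8,7], [6,5,6,5,7], [6,9,7,9,7],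
    [11,1,6,11,5], [11,4,6,5,4], [11,5,7,10,6], [11,5,10,6,7], [11,11,4,7,4], [11,11,5,1,5], [11,11,6,1,6],
    [1,6,1,9,7,9], [1,8,1,8,1,8], [1,9,1,9,1,9], [3,1,2,10,5,11], [3,1,5,2,1,6], [3,1,6,2,5,6],
    [3,1,6,11,3,10], [3,1,8,2,4,6], [3,1,9,2,8,6], [3,3,1,2,2,5], [3,3,5,2,2,6], [3,3,11,2,5,11],
    [3,3,11,2,11,6], [3,3,11,6,2,11], [3,4,1,4,2,6], [3,4,8,2,4,9], [3,4,9,2,8,9], [3,5,2,10,10,7],
    [3,5,7,2,1,7], [3,6,8,2,4,5], [3,10,10,7,2,6], [3,11,1,10,2,6], [3,11,2,11,3,1], [3,11,3,6,5,10],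
    [3,11,3,10,6,5], [3,11,5,3,5,10], [3,11,6,10,2,1], [3,11,9,10,2,4], [4,5,4,5,4,5], [4,8,4,9,8,9],
    [4,8,9,4,9,8], [11,1,5,1,10,6], [11,1,5,10,1,6], [11,1,10,4,1,4], [11,4,5,6,7,4], [11,6,5,6,10,6],
    [11,6,11,7,1,5], [11,8,7,8,10,6], [11,11,4,1,4,7], [11,11,11,8,11,9]]

/-- The letters as words in the generators of the big group. -/
def wK : List (List ℕ) :=
    [[1], [7], [8], [13], [7,1,8], [8,1,7], [6], [7,13,8], [8,13,7], [13,8,1,8,1,8,13], [13,7,1,7,1,7,13]]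

def rH2 : List (List ℕ) :=
    [[1,1], [2,2], [3,3], [4,5], [5,4], [6,7], [7,6], [8,9], [9,8], [10,10], [11,11], [12,12], [13,13],
    [14,14], [5,5,5], [5,14,9], [7,7,7], [7,11,9], [9,9,9], [5,5,8,14], [5,7,5,7], [5,9,5,9], [5,2,4,2],
    [5,6,5,10], [5,6,10,6], [5,10,7,10], [5,14,11,6], [5,14,8,8], [5,11,14,10], [5,3,4,3], [7,7,8,11],
    [7,9,7,9], [7,1,6,1], [7,14,11,10], [7,11,8,8], [7,3,6,3], [9,1,8,1], [9,2,8,2], [9,10,9,10], [9,3,8,3],
    [1,10,2,10], [1,11,1,11], [1,12,1,12], [1,3,1,3], [2,14,2,14], [2,11,2,12], [2,13,2,13], [2,3,2,3],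
    [10,12,10,13], [10,3,10,3], [11,3,11,3], [12,3,12,3], [13,3,13,3]]

def cIW : List (List ℕ) :=
    [[1,1], [2,2], [3,3], [4,5], [5,4], [6,7], [7,6], [8,9], [9,8], [10,10], [11,11], [12,12], [13,13],
    [14,14], [15,15], [16,16], [5,5,5], [5,14,9], [7,7,7], [7,11,9], [9,9,9], [5,5,8,14], [5,7,5,7],
    [5,9,5,9], [5,2,4,2], [5,6,5,10], [5,6,10,6], [5,10,7,10], [5,14,11,6], [5,14,8,8], [5,11,14,10],
    [5,3,4,3], [7,7,8,11], [7,9,7,9], [7,1,6,1], [7,14,11,10], [7,11,8,8], [7,3,6,3], [9,1,8,1], [9,2,8,2],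
    [9,10,9,10], [9,3,8,3], [1,10,2,10], [1,11,1,11], [1,12,1,12], [1,3,1,3], [2,14,2,14], [2,11,2,12],
    [2,13,2,13], [2,3,2,3], [10,12,10,13], [10,3,10,3], [11,3,11,3], [12,3,12,3], [13,3,13,3], [15,1,15,1],
    [15,3,15,1,3], [2,15,2,15,2,15], [15,8,15,9], [15,11,15,8,12,9], [16,10,15,10], [13,15,16,15,13,15,16,15]]

def cIF : Tr :=
    (.node (.node (.node (.node (.node (.node (.node (.node (.node (.node .leaf 85 9 100 .leaf) 22 0 2 (.node
    .leaf 82 7 130 .leaf)) 55 12 128 (.node (.node .leaf 68 1 104 .leaf) 59 8 18 .leaf)) 18 11 64 (.node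
    (.node (.node .leaf 111 11 65 .leaf) 28 1 53 (.node .leaf 138 5 82 .leaf)) 15 5 12 (.node (.node .leaf 81
    9 112 .leaf) 64 14 74 .leaf))) 4 16 32 (.node (.node (.node (.node .leaf 75 4 91 .leaf) 17 0 8 (.node
    .leaf 134 1 134 .leaf)) 5 5 4 (.node (.node .leaf 52 11 60 .leaf) 50 0 58 .leaf)) 39 13 96 (.node (.node
    (.node .leaf 123 2 85 .leaf) 62 11 61 (.node .leaf 134 4 141 .leaf)) 24 5 25 (.node (.node .leaf 73 16 126
    .leaf) 88 10 55 .leaf)))) 1 11 16 (.node (.node (.node (.node (.node .leaf 49 14 115 .leaf) 8 8 3 (.node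
    .leaf 118 12 132 .leaf)) 0 3 0 (.node (.node .leaf 80 15 65 .leaf) 35 4 10 .leaf)) 35 1 80 (.node (.node
    (.node .leaf 117 11 92 .leaf) 56 10 18 (.node .leaf 139 6 94 .leaf)) 19 5 20 (.node (.node .leaf 125 15
    124 .leaf) 48 7 81 .leaf))) 10 11 48 (.node (.node (.node (.node .leaf 39 2 39 .leaf) 43 5 42 (.node .leaf
    137 10 136 .leaf)) 11 1 11 (.node (.node .leaf 64 13 87 .leaf) 32 2 54 .leaf)) 48 13 112 (.node (.node
    (.node .leaf 82 6 99 .leaf) 69 11 56 (.node .leaf 142 8 141 .leaf)) 30 13 11 (.node (.node .leaf 86 8 128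
    .leaf) 93 7 92 .leaf))))) 0 12 8 (.node (.node (.node (.node (.node (.node .leaf 104 9 45 .leaf) 12 8 2
    (.node .leaf 131 9 128 .leaf)) 68 6 136 (.node (.node .leaf 61 8 52 .leaf) 42 14 10 .leaf)) 28 16 72
    (.node (.node (.node .leaf 116 8 49 .leaf) 31 6 25 (.node .leaf 100 13 138 .leaf)) 16 14 15 (.node (.node
    .leaf 125 1 124 .leaf) 77 10 76 .leaf))) 10 2 40 (.node (.node (.node (.node .leaf 61 12 57 .leaf) 38 2 38
    (.node .leaf 136 5 131 .leaf)) 7 9 2 (.node (.node .leaf 122 8 105 .leaf) 44 5 71 .leaf)) 44 11 104 (.node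
    (.node (.node .leaf 123 1 77 .leaf) 63 7 64 (.node .leaf 114 1 125 .leaf)) 28 8 28 (.node (.node .leaf 122
    5 127 .leaf) 55 4 18 .leaf)))) 3 9 24 (.node (.node (.node (.node (.node .leaf 45 1 49 .leaf) 26 0 13
    (.node .leaf 112 5 133 .leaf)) 3 1 3 (.node (.node .leaf 65 8 98 .leaf) 71 11 70 .leaf)) 38 15 88 (.node
    (.node (.node .leaf 122 7 121 .leaf) 58 3 42 (.node .leaf 140 15 140 .leaf)) 21 5 8 (.node (.node .leaf
    126 7 79 .leaf) 85 6 42 .leaf))) 15 15 56 (.node (.node (.node (.node .leaf 84 1 84 .leaf) 53 5 14 (.node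
    .leaf 120 4 137 .leaf)) 13 11 12 (.node (.node .leaf 104 10 112 .leaf) 74 1 71 .leaf)) 49 16 120 (.node
    (.node (.node .leaf 106 15 106 .leaf) 54 14 59 .leaf) 13 6 36 (.node (.node .leaf 130 2 127 .leaf) 80 5 97
    .leaf)))))) 0 8 4 (.node (.node (.node (.node (.node (.node (.node .leaf 103 9 48 .leaf) 29 0 14 (.node
    .leaf 131 7 131 .leaf)) 57 6 132 (.node (.node .leaf 68 11 92 .leaf) 43 8 10 .leaf)) 18 15 68 (.node
    (.node (.node .leaf 102 7 111 .leaf) 31 1 28 (.node .leaf 138 15 138 .leaf)) 15 3 15 (.node (.node .leaf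
    124 9 78 .leaf) 45 9 76 .leaf))) 6 13 36 (.node (.node (.node (.node .leaf 80 14 39 .leaf) 38 5 30 (.node
    .leaf 135 9 135 .leaf)) 6 5 3 (.node (.node .leaf 122 12 110 .leaf) 50 3 42 .leaf)) 42 6 100 (.node (.node
    (.node .leaf 92 10 123 .leaf) 63 2 47 (.node .leaf 110 6 141 .leaf)) 26 10 23 (.node (.node .leaf 127 5 56
    .leaf) 56 6 88 .leaf)))) 2 11 20 (.node (.node (.node (.node (.node .leaf 45 0 95 .leaf) 14 15 11 (.node
    .leaf 133 7 133 .leaf)) 1 3 1 (.node (.node .leaf 64 15 78 .leaf) 35 9 46 .leaf)) 37 2 84 (.node (.node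
    (.node .leaf 121 10 64 .leaf) 18 0 41 (.node .leaf 140 5 128 .leaf)) 3 13 19 (.node (.node .leaf 57 13 111
    .leaf) 83 13 52 .leaf))) 10 15 52 (.node (.node (.node (.node .leaf 94 12 54 .leaf) 48 9 44 (.node .leaf
    133 2 137 .leaf)) 11 10 12 (.node (.node .leaf 118 2 87 .leaf) 32 9 10 .leaf)) 49 5 116 (.node (.node
    (.node .leaf 70 2 106 .leaf) 54 3 46 (.node .leaf 142 5 114 .leaf)) 34 9 26 (.node (.node .leaf 129 10 57
    .leaf) 94 1 48 .leaf))))) 1 7 12 (.node (.node (.node (.node (.node (.node .leaf 108 3 78 .leaf) 27 0 3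
    (.node .leaf 78 9 132 .leaf)) 73 2 140 (.node (.node .leaf 76 3 79 .leaf) 70 10 35 .leaf)) 32 6 76 (.node
    (.node (.node .leaf 76 1 116 .leaf) 31 11 30 (.node .leaf 94 5 139 .leaf)) 8 9 11 (.node (.node .leaf 125
    5 125 .leaf) 80 8 39 .leaf))) 10 6 44 (.node (.node (.node (.node .leaf 91 15 50 .leaf) 38 3 38 (.node
    .leaf 136 15 136 .leaf)) 7 2 7 (.node (.node .leaf 105 5 52 .leaf) 73 9 70 .leaf)) 45 2 108 (.node (.node
    (.node .leaf 77 12 91 .leaf) 67 9 58 (.node .leaf 114 9 78 .leaf)) 30 7 25 (.node (.node .leaf 128 2 77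
    .leaf) 55 9 54 .leaf)))) 4 5 28 (.node (.node (.node (.node (.node .leaf 91 10 115 .leaf) 25 5 21 (.node
    .leaf 78 4 134 .leaf)) 4 14 0 (.node (.node .leaf 44 15 44 .leaf) 71 7 70 .leaf)) 39 6 92 (.node (.node
    (.node .leaf 122 14 88 .leaf) 60 3 44 (.node .leaf 121 13 140 .leaf)) 25 9 6 (.node (.node .leaf 126 8 87
    .leaf) 87 10 52 .leaf))) 18 6 60 (.node (.node (.node (.node .leaf 78 11 57 .leaf) 53 2 28 (.node .leaf
    120 8 92 .leaf)) 3 12 13 (.node (.node .leaf 112 4 104 .leaf) 56 7 74 .leaf)) 52 2 124 (.node (.node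
    (.node .leaf 55 0 119 .leaf) 63 0 59 .leaf) 22 8 36 (.node (.node .leaf 129 4 130 .leaf) 99 15 99
    .leaf))))))) 0 6 2 (.node (.node (.node (.node (.node (.node (.node (.node .leaf 102 4 65 .leaf) 7 13 6
    (.node .leaf 131 10 68 .leaf)) 56 13 130 (.node (.node .leaf 68 8 116 .leaf) 51 0 42 .leaf)) 18 13 66
    (.node (.node (.node .leaf 99 14 111 .leaf) 28 12 30 (.node .leaf 138 9 134 .leaf)) 15 2 15 (.node (.node
    .leaf 104 16 64 .leaf) 75 9 39 .leaf))) 5 12 34 (.node (.node (.node (.node .leaf 97 0 80 .leaf) 7 16 15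
    (.node .leaf 135 3 115 .leaf)) 5 1 5 (.node (.node .leaf 110 2 110 .leaf) 42 15 42 .leaf)) 39 15 98 (.node
    (.node (.node .leaf 84 5 123 .leaf) 62 3 46 (.node .leaf 85 15 141 .leaf)) 5 0 9 (.node (.node .leaf 98 16
    79 .leaf) 88 11 74 .leaf)))) 1 16 18 (.node (.node (.node (.node (.node .leaf 115 7 84 .leaf) 8 13 15
    (.node .leaf 133 1 118 .leaf)) 0 15 0 (.node (.node .leaf 110 8 57 .leaf) 35 7 48 .leaf)) 35 12 82 (.node
    (.node (.node .leaf 119 1 110 .leaf) 40 0 18 (.node .leaf 81 1 139 .leaf)) 19 10 20 (.node (.node .leaf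
    103 13 122 .leaf) 83 8 52 .leaf))) 10 13 50 (.node (.node (.node (.node .leaf 94 2 45 .leaf) 46 11 45
    (.node .leaf 137 1 112 .leaf)) 12 5 11 (.node (.node .leaf 118 7 118 .leaf) 32 4 32 .leaf)) 48 16 114
    (.node (.node (.node .leaf 106 7 106 .leaf) 54 0 62 (.node .leaf 142 15 100 .leaf)) 7 7 33 (.node (.node
    .leaf 69 16 128 .leaf) 93 1 45 .leaf))))) 0 16 10 (.node (.node (.node (.node (.node (.node .leaf 104 8 76
    .leaf) 12 13 3 (.node .leaf 132 1 60 .leaf)) 69 2 138 (.node (.node .leaf 61 13 52 .leaf) 48 5 44 .leaf))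
    31 15 74 (.node (.node (.node .leaf 116 2 60 .leaf) 31 8 31 (.node .leaf 139 10 94 .leaf)) 8 0 16 (.node
    (.node .leaf 87 7 125 .leaf) 78 2 61 .leaf))) 10 4 42 (.node (.node (.node (.node .leaf 50 1 91 .leaf) 38
    10 14 (.node .leaf 92 9 136 .leaf)) 7 1 7 (.node (.node .leaf 98 10 118 .leaf) 73 1 69 .leaf)) 44 13 106
    (.node (.node (.node .leaf 111 7 101 .leaf) 65 3 49 (.node .leaf 114 7 98 .leaf)) 11 15 29 (.node (.node
    .leaf 82 15 127 .leaf) 55 7 64 .leaf)))) 3 15 26 (.node (.node (.node (.node (.node .leaf 39 12 45 .leaf)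
    13 15 3 (.node .leaf 134 2 88 .leaf)) 2 2 2 (.node (.node .leaf 107 0 44 .leaf) 71 16 71 .leaf)) 39 4 90
    (.node (.node (.node .leaf 122 10 60 .leaf) 59 2 43 (.node .leaf 140 6 84 .leaf)) 24 10 7 (.node (.node
    .leaf 126 5 79 .leaf) 85 11 42 .leaf))) 18 4 58 (.node (.node (.node (.node .leaf 76 2 92 .leaf) 53 8 53
    (.node .leaf 120 6 137 .leaf)) 13 2 4 (.node (.node .leaf 87 11 79 .leaf) 74 10 72 .leaf)) 50 7 122 (.node
    (.node (.node .leaf 116 15 54 .leaf) 61 14 69 .leaf) 36 15 7 (.node (.node .leaf 130 15 87 .leaf) 98 3 68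
    .leaf)))))) 0 10 6 (.node (.node (.node (.node (.node (.node (.node .leaf 44 14 103 .leaf) 13 7 5 (.node
    .leaf 105 1 131 .leaf)) 60 13 134 (.node (.node .leaf 75 15 102 .leaf) 58 9 58 .leaf)) 25 15 70 (.node
    (.node (.node .leaf 111 5 57 .leaf) 31 4 13 (.node .leaf 138 6 129 .leaf)) 16 9 11 (.node (.node .leaf 98
    6 124 .leaf) 77 11 35 .leaf))) 7 5 38 (.node (.node (.node (.node .leaf 65 1 61 .leaf) 38 7 28 (.node
    .leaf 115 15 135 .leaf)) 6 2 6 (.node (.node .leaf 103 15 103 .leaf) 50 5 18 .leaf)) 44 2 102 (.node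
    (.node (.node .leaf 123 6 75 .leaf) 64 2 49 (.node .leaf 121 16 141 .leaf)) 28 5 5 (.node (.node .leaf 64
    7 127 .leaf) 55 2 35 .leaf)))) 2 15 22 (.node (.node (.node (.node (.node .leaf 49 7 92 .leaf) 34 0 14
    (.node .leaf 85 8 133 .leaf)) 3 7 2 (.node (.node .leaf 98 5 98 .leaf) 70 7 37 .leaf)) 37 13 86 (.node
    (.node (.node .leaf 121 3 100 .leaf) 57 3 39 (.node .leaf 140 9 106 .leaf)) 21 10 13 (.node (.node .leaf
    75 0 96 .leaf) 84 15 84 .leaf))) 13 16 54 (.node (.node (.node (.node .leaf 115 1 115 .leaf) 51 9 42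
    (.node .leaf 136 0 120 .leaf)) 12 2 12 (.node (.node .leaf 52 7 87 .leaf) 70 12 73 .leaf)) 49 13 118
    (.node (.node (.node .leaf 106 9 84 .leaf) 54 9 18 .leaf) 36 2 36 (.node (.node .leaf 129 1 129 .leaf) 95
    1 49 .leaf))))) 1 9 14 (.node (.node (.node (.node (.node (.node .leaf 115 2 74 .leaf) 8 5 25 (.node .leaf
    124 8 132 .leaf)) 87 1 142 (.node (.node .leaf 104 15 57 .leaf) 35 2 59 .leaf)) 32 12 78 (.node (.node
    (.node .leaf 117 8 116 .leaf) 28 13 13 (.node .leaf 123 9 139 .leaf)) 19 9 7 (.node (.node .leaf 85 13 125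
    .leaf) 81 5 37 .leaf))) 10 8 46 (.node (.node (.node (.node .leaf 91 2 91 .leaf) 15 12 38 (.node .leaf 137
    11 116 .leaf)) 1 1 1 (.node (.node .leaf 105 7 105 .leaf) 73 7 73 .leaf)) 45 15 110 (.node (.node (.node
    .leaf 106 10 80 .leaf) 69 8 56 (.node .leaf 142 6 98 .leaf)) 30 2 30 (.node (.node .leaf 91 7 128 .leaf)
    91 5 90 .leaf)))) 4 10 30 (.node (.node (.node (.node (.node .leaf 57 7 65 .leaf) 21 6 28 (.node .leaf 134
    15 134 .leaf)) 4 1 4 (.node (.node .leaf 52 14 121 .leaf) 66 15 66 .leaf)) 39 11 94 (.node (.node (.node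
    .leaf 56 5 122 .leaf) 61 3 45 (.node .leaf 141 10 78 .leaf)) 25 10 5 (.node (.node .leaf 69 5 126 .leaf)
    88 8 69 .leaf))) 18 8 62 (.node (.node (.node (.node .leaf 64 12 75 .leaf) 53 10 28 (.node .leaf 120 15
    120 .leaf)) 14 9 13 (.node (.node .leaf 112 7 103 .leaf) 50 10 74 .leaf)) 54 7 126 (.node (.node (.node
    .leaf 55 15 49 .leaf) 67 0 58 .leaf) 13 0 33 (.node (.node .leaf 118 8 130 .leaf) 100 10 48 .leaf))))))))
    0 2 1 (.node (.node (.node (.node (.node (.node (.node (.node (.node .leaf 45 5 100 .leaf) 8 0 24 (.node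
    .leaf 100 1 130 .leaf)) 56 2 129 (.node (.node .leaf 68 4 68 .leaf) 59 9 54 .leaf)) 18 12 65 (.node (.node
    (.node .leaf 111 3 75 .leaf) 21 12 53 (.node .leaf 138 8 129 .leaf)) 15 6 15 (.node (.node .leaf 121 15
    112 .leaf) 74 5 64 .leaf))) 5 6 33 (.node (.node (.node (.node .leaf 75 5 39 .leaf) 8 15 1 (.node .leaf
    135 2 71 .leaf)) 5 9 4 (.node (.node .leaf 110 5 110 .leaf) 42 10 71 .leaf)) 39 14 97 (.node (.node (.node
    .leaf 123 3 101 .leaf) 62 2 46 (.node .leaf 101 9 141 .leaf)) 6 12 25 (.node (.node .leaf 126 15 118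
    .leaf) 88 3 70 .leaf)))) 1 15 17 (.node (.node (.node (.node (.node .leaf 84 11 115 .leaf) 8 10 7 (.node
    .leaf 60 15 132 .leaf)) 0 5 0 (.node (.node .leaf 110 7 78 .leaf) 35 5 42 .leaf)) 35 6 81 (.node (.node
    (.node .leaf 117 1 104 .leaf) 56 3 37 (.node .leaf 80 6 139 .leaf)) 20 2 20 (.node (.node .leaf 68 2 125
    .leaf) 77 9 81 .leaf))) 10 12 49 (.node (.node (.node (.node .leaf 108 0 94 .leaf) 45 7 44 (.node .leaf
    137 9 123 .leaf)) 12 7 11 (.node (.node .leaf 100 12 104 .leaf) 32 3 54 .leaf)) 48 15 113 (.node (.node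
    (.node .leaf 82 10 102 .leaf) 69 7 69 (.node .leaf 142 9 101 .leaf)) 6 9 30 (.node (.node .leaf 92 4 128
    .leaf) 93 11 75 .leaf))))) 0 13 9 (.node (.node (.node (.node (.node (.node .leaf 104 6 103 .leaf) 12 9 7
    (.node .leaf 132 10 101 .leaf)) 68 7 137 (.node (.node .leaf 61 9 79 .leaf) 64 5 60 .leaf)) 30 15 73
    (.node (.node (.node .leaf 116 7 75 .leaf) 31 7 30 (.node .leaf 139 2 100 .leaf)) 16 2 8 (.node (.node
    .leaf 125 3 103 .leaf) 73 5 77 .leaf))) 10 3 41 (.node (.node (.node (.node .leaf 91 9 91 .leaf) 38 6 21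
    (.node .leaf 136 1 103 .leaf)) 7 6 5 (.node (.node .leaf 52 12 121 .leaf) 71 5 48 .leaf)) 44 12 105 (.node
    (.node (.node .leaf 102 6 101 .leaf) 65 2 48 (.node .leaf 114 5 118 .leaf)) 29 11 5 (.node (.node .leaf 87
    8 127 .leaf) 55 5 50 .leaf)))) 3 14 25 (.node (.node (.node (.node (.node .leaf 39 0 109 .leaf) 23 0 21
    (.node .leaf 133 5 104 .leaf)) 2 10 3 (.node (.node .leaf 54 6 79 .leaf) 71 12 56 .leaf)) 39 2 89 (.node
    (.node (.node .leaf 122 11 50 .leaf) 59 5 58 (.node .leaf 140 7 115 .leaf)) 24 7 4 (.node (.node .leaf 126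
    11 55 .leaf) 85 10 44 .leaf))) 18 1 57 (.node (.node (.node (.node .leaf 57 2 57 .leaf) 53 14 14 (.node
    .leaf 120 5 131 .leaf)) 13 1 13 (.node (.node .leaf 52 5 87 .leaf) 74 8 74 .leaf)) 50 6 121 (.node (.node
    (.node .leaf 88 13 116 .leaf) 54 5 54 .leaf) 12 9 36 (.node (.node .leaf 130 10 65 .leaf) 98 1 52
    .leaf)))))) 0 9 5 (.node (.node (.node (.node (.node (.node (.node .leaf 103 5 103 .leaf) 13 6 7 (.node
    .leaf 86 9 131 .leaf)) 60 12 133 (.node (.node .leaf 79 1 102 .leaf) 43 9 46 .leaf)) 21 15 69 (.node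
    (.node (.node .leaf 111 2 111 .leaf) 31 2 28 (.node .leaf 138 7 135 .leaf)) 11 5 15 (.node (.node .leaf
    124 13 78 .leaf) 77 7 76 .leaf))) 6 15 37 (.node (.node (.node (.node .leaf 86 2 81 .leaf) 38 8 21 (.node
    .leaf 129 6 135 .leaf)) 6 6 6 (.node (.node .leaf 98 2 103 .leaf) 50 4 59 .leaf)) 42 12 101 (.node (.node
    (.node .leaf 123 7 116 .leaf) 64 9 60 (.node .leaf 127 1 141 .leaf)) 27 10 22 (.node (.node .leaf 127 10
    61 .leaf) 59 0 55 .leaf)))) 2 13 21 (.node (.node (.node (.node (.node .leaf 49 6 39 .leaf) 11 9 3 (.node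
    .leaf 100 9 133 .leaf)) 2 1 2 (.node (.node .leaf 104 3 52 .leaf) 70 5 45 .leaf)) 37 5 85 (.node (.node
    (.node .leaf 121 1 86 .leaf) 18 3 10 (.node .leaf 140 8 84 .leaf)) 21 2 21 (.node (.node .leaf 101 13 98
    .leaf) 84 10 39 .leaf))) 13 5 53 (.node (.node (.node (.node .leaf 75 2 75 .leaf) 47 7 48 (.node .leaf 86
    15 137 .leaf)) 11 2 11 (.node (.node .leaf 87 5 105 .leaf) 32 11 45 .leaf)) 49 8 117 (.node (.node (.node
    .leaf 106 5 94 .leaf) 54 8 63 .leaf) 20 15 34 (.node (.node .leaf 129 15 129 .leaf) 80 7 94 .leaf))))) 1 8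
    13 (.node (.node (.node (.node (.node (.node .leaf 113 9 107 .leaf) 2 15 2 (.node .leaf 82 5 132 .leaf))
    73 13 141 (.node (.node .leaf 110 9 111 .leaf) 43 0 35 .leaf)) 32 7 77 (.node (.node (.node .leaf 117 14
    116 .leaf) 31 12 21 (.node .leaf 106 4 139 .leaf)) 8 14 15 (.node (.node .leaf 64 8 125 .leaf) 80 9 75
    .leaf))) 10 7 45 (.node (.node (.node (.node .leaf 99 4 57 .leaf) 25 1 38 (.node .leaf 137 7 136 .leaf)) 1
    12 7 (.node (.node .leaf 105 11 121 .leaf) 73 10 32 .leaf)) 45 12 109 (.node (.node (.node .leaf 85 1 82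
    .leaf) 63 5 67 (.node .leaf 114 15 125 .leaf)) 30 9 25 (.node (.node .leaf 128 10 116 .leaf) 88 5 61
    .leaf)))) 4 7 29 (.node (.node (.node (.node (.node .leaf 91 6 86 .leaf) 28 11 21 (.node .leaf 129 8 134
    .leaf)) 4 11 3 (.node (.node .leaf 48 15 48 .leaf) 66 10 71 .leaf)) 39 7 93 (.node (.node (.node .leaf 122
    3 85 .leaf) 61 7 60 (.node .leaf 141 2 121 .leaf)) 25 11 6 (.node (.node .leaf 126 1 101 .leaf) 88 1 70
    .leaf))) 18 7 61 (.node (.node (.node (.node .leaf 54 1 111 .leaf) 53 6 25 (.node .leaf 120 9 94 .leaf))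
    14 5 13 (.node (.node .leaf 112 11 76 .leaf) 50 0 72 .leaf)) 52 6 125 (.node (.node (.node .leaf 55 1 110
    .leaf) 47 0 43 .leaf) 7 0 36 (.node (.node .leaf 82 9 130 .leaf) 100 5 70 .leaf))))))) 0 7 3 (.node (.node
    (.node (.node (.node (.node (.node (.node .leaf 102 8 65 .leaf) 7 15 7 (.node .leaf 131 15 123 .leaf)) 56
    16 131 (.node (.node .leaf 68 9 49 .leaf) 43 7 48 .leaf)) 18 14 67 (.node (.node (.node .leaf 99 5 111
    .leaf) 31 0 53 (.node .leaf 138 10 111 .leaf)) 15 1 6 (.node (.node .leaf 124 5 118 .leaf) 76 5 73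
    .leaf))) 5 16 35 (.node (.node (.node (.node .leaf 80 4 80 .leaf) 37 10 10 (.node .leaf 102 5 135 .leaf))
    5 15 5 (.node (.node .leaf 94 15 94 .leaf) 50 2 42 .leaf)) 42 1 99 (.node (.node (.node .leaf 86 4 123
    .leaf) 63 9 62 (.node .leaf 141 6 78 .leaf)) 5 13 0 (.node (.node .leaf 61 16 102 .leaf) 74 7 88 .leaf))))
    2 9 19 (.node (.node (.node (.node (.node .leaf 93 0 49 .leaf) 14 6 4 (.node .leaf 133 10 103 .leaf)) 1 4
    1 (.node (.node .leaf 110 3 80 .leaf) 35 8 10 .leaf)) 35 15 83 (.node (.node (.node .leaf 121 5 88 .leaf)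
    18 2 10 (.node .leaf 140 4 92 .leaf)) 2 12 20 (.node (.node .leaf 68 13 123 .leaf) 83 9 79 .leaf))) 10 14
    51 (.node (.node (.node (.node .leaf 94 3 78 .leaf) 47 9 46 (.node .leaf 131 5 137 .leaf)) 12 1 12 (.node
    (.node .leaf 118 9 82 .leaf) 32 8 35 .leaf)) 49 4 115 (.node (.node (.node .leaf 106 1 106 .leaf) 54 2 46
    (.node .leaf 118 5 142 .leaf)) 29 5 33 (.node (.node .leaf 129 5 101 .leaf) 94 9 92 .leaf))))) 1 6 11
    (.node (.node (.node (.node (.node (.node .leaf 108 12 54 .leaf) 12 15 12 (.node .leaf 65 7 132 .leaf)) 69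
    13 139 (.node (.node .leaf 61 15 35 .leaf) 70 9 37 .leaf)) 32 1 75 (.node (.node (.node .leaf 116 3 102
    .leaf) 31 10 28 (.node .leaf 139 15 128 .leaf)) 8 6 14 (.node (.node .leaf 60 9 125 .leaf) 79 9 52
    .leaf))) 10 5 43 (.node (.node (.node (.node .leaf 91 3 99 .leaf) 38 11 15 (.node .leaf 94 8 136 .leaf)) 7
    3 7 (.node (.node .leaf 105 8 121 .leaf) 73 8 37 .leaf)) 44 15 107 (.node (.node (.node .leaf 80 12 85
    .leaf) 66 2 50 (.node .leaf 114 8 132 .leaf)) 30 5 7 (.node (.node .leaf 128 1 122 .leaf) 55 8 18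
    .leaf)))) 3 16 27 (.node (.node (.node (.node (.node .leaf 86 5 84 .leaf) 21 16 2 (.node .leaf 134 10 110
    .leaf)) 3 2 3 (.node (.node .leaf 113 0 48 .leaf) 37 7 71 .leaf)) 39 5 91 (.node (.node (.node .leaf 121 8
    122 .leaf) 59 3 43 (.node .leaf 140 1 140 .leaf)) 15 13 24 (.node (.node .leaf 126 10 79 .leaf) 86 10 49
    .leaf))) 18 5 59 (.node (.node (.node (.node .leaf 78 1 64 .leaf) 53 7 30 (.node .leaf 120 7 68 .leaf)) 12
    12 4 (.node (.node .leaf 112 6 104 .leaf) 74 12 37 .leaf)) 50 12 123 (.node (.node (.node .leaf 111 15 76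
    .leaf) 46 4 46 .leaf) 12 15 19 (.node (.node .leaf 101 5 130 .leaf) 99 8 99 .leaf)))))) 0 11 7 (.node
    (.node (.node (.node (.node (.node (.node .leaf 81 11 103 .leaf) 20 0 11 (.node .leaf 112 2 131 .leaf)) 65
    4 135 (.node (.node .leaf 61 0 83 .leaf) 42 9 42 .leaf)) 28 15 71 (.node (.node (.node .leaf 116 5 115
    .leaf) 31 5 14 (.node .leaf 138 1 138 .leaf)) 16 6 14 (.node (.node .leaf 125 10 105 .leaf) 77 5 76
    .leaf))) 10 1 39 (.node (.node (.node (.node .leaf 108 11 89 .leaf) 38 9 15 (.node .leaf 135 1 135 .leaf))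
    2 5 6 (.node (.node .leaf 86 12 98 .leaf) 50 8 50 .leaf)) 44 9 103 (.node (.node (.node .leaf 123 11 80
    .leaf) 64 3 48 (.node .leaf 114 0 124 .leaf)) 28 14 5 (.node (.node .leaf 126 9 127 .leaf) 55 3 35
    .leaf)))) 2 16 23 (.node (.node (.node (.node (.node .leaf 49 11 75 .leaf) 3 16 3 (.node .leaf 101 15 133
    .leaf)) 3 5 2 (.node (.node .leaf 102 9 98 .leaf) 71 8 71 .leaf)) 37 16 87 (.node (.node (.node .leaf 61 5
    121 .leaf) 58 2 42 (.node .leaf 140 10 75 .leaf)) 15 9 21 (.node (.node .leaf 75 13 39 .leaf) 85 5 81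
    .leaf))) 14 16 55 (.node (.node (.node (.node .leaf 80 2 80 .leaf) 47 5 51 (.node .leaf 120 1 103 .leaf))
    13 14 1 (.node (.node .leaf 87 3 112 .leaf) 32 13 35 .leaf)) 49 15 119 (.node (.node (.node .leaf 102 13
    70 .leaf) 54 11 61 .leaf) 36 10 8 (.node (.node .leaf 127 13 129 .leaf) 97 9 90 .leaf))))) 1 10 15 (.node
    (.node (.node (.node (.node (.node .leaf 115 9 115 .leaf) 8 7 4 (.node .leaf 79 2 132 .leaf)) 0 1 0 (.node
    (.node .leaf 92 15 92 .leaf) 35 3 59 .leaf)) 32 15 79 (.node (.node (.node .leaf 117 5 117 .leaf) 56 1 37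
    (.node .leaf 137 8 139 .leaf)) 20 9 3 (.node (.node .leaf 76 16 125 .leaf) 81 10 45 .leaf))) 10 9 47
    (.node (.node (.node (.node .leaf 89 0 39 .leaf) 12 16 38 (.node .leaf 137 5 136 .leaf)) 8 1 8 (.node
    (.node .leaf 105 15 77 .leaf) 46 0 32 .leaf)) 48 12 111 (.node (.node (.node .leaf 122 15 81 .leaf) 69 10
    54 (.node .leaf 142 7 114 .leaf)) 30 1 21 (.node (.node .leaf 86 6 128 .leaf) 92 1 44 .leaf)))) 4 13 31
    (.node (.node (.node (.node (.node .leaf 90 0 75 .leaf) 30 14 21 (.node .leaf 134 7 134 .leaf)) 4 15 4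
    (.node (.node .leaf 79 5 69 .leaf) 66 0 42 .leaf)) 39 12 95 (.node (.node (.node .leaf 101 2 122 .leaf) 62
    14 59 (.node .leaf 78 5 141 .leaf)) 25 2 25 (.node (.node .leaf 82 2 126 .leaf) 88 9 56 .leaf))) 18 9 63
    (.node (.node (.node (.node .leaf 111 9 57 .leaf) 53 11 30 (.node .leaf 138 4 132 .leaf)) 14 1 14 (.node
    (.node .leaf 112 9 77 .leaf) 60 5 74 .leaf)) 55 6 127 (.node (.node (.node .leaf 68 0 117 .leaf) 59 7 64
    .leaf) 12 0 19 (.node (.node .leaf 99 6 130 .leaf) 85 7 100 .leaf)))))))))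

def cIS : List (ℕ × ℕ × List ℕ) :=
    [(0,0,[]), (0,0,[]), (0,0,[]), (0,0,[]), (0,0,[]), (0,0,[]), (0,0,[]), (0,0,[]), (0,0,[]), (0,0,[]),
    (0,0,[]), (0,0,[]), (0,0,[]), (0,0,[]), (0,0,[]), (0,0,[]), (0,0,[]), (0,0,[]), (0,0,[]), (0,0,[]),
    (0,0,[]), (0,0,[]), (0,0,[]), (0,0,[]), (0,0,[]), (0,0,[]), (0,0,[]), (0,0,[]), (0,0,[]), (0,0,[]),
    (0,0,[]), (0,0,[]), (0,0,[]), (0,0,[]), (0,0,[]), (0,0,[]), (0,0,[]), (0,0,[]), (0,0,[]), (0,0,[]),
    (0,0,[]), (0,0,[]), (0,0,[]), (0,0,[]), (0,0,[]), (0,0,[]), (0,0,[]), (0,0,[]), (0,0,[]), (0,0,[]),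
    (0,0,[]), (0,0,[]), (0,0,[]), (0,0,[]), (0,0,[]), (0,0,[]), (0,0,[]), (0,0,[]), (0,0,[]), (0,0,[]),
    (0,0,[]), (0,0,[]), (0,0,[]), (0,0,[]), (0,0,[]), (0,0,[]), (0,0,[]), (0,0,[]), (0,0,[]), (0,0,[]),
    (0,0,[]), (0,0,[]), (0,0,[]), (0,0,[]), (0,0,[]), (0,0,[]), (0,0,[]), (0,0,[]), (0,0,[]), (0,0,[]),
    (0,0,[]), (0,0,[]), (0,0,[]), (0,0,[]), (0,0,[]), (0,0,[]), (0,0,[]), (0,0,[]), (0,0,[]), (0,0,[]),
    (0,0,[]), (0,0,[]), (0,0,[]), (0,0,[]), (0,0,[]), (0,0,[]), (0,0,[]), (0,0,[]), (0,0,[]), (0,0,[]),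
    (0,0,[]), (0,0,[]), (0,0,[]), (0,0,[]), (0,0,[]), (0,0,[]), (0,0,[]), (0,0,[]), (0,0,[]), (0,0,[]),
    (0,0,[]), (0,0,[]), (0,0,[]), (0,0,[]), (0,0,[]), (0,0,[]), (0,0,[]), (0,0,[]), (0,0,[]), (0,0,[]),
    (0,0,[]), (0,0,[]), (0,0,[]), (0,0,[]), (0,0,[]), (0,0,[]), (0,0,[]), (0,0,[]), (0,0,[]), (0,0,[]),
    (0,0,[]), (0,0,[]), (0,0,[]), (0,0,[]), (0,0,[]), (0,0,[]), (0,0,[]), (0,0,[]), (0,0,[]), (0,0,[]),
    (0,0,[]), (0,0,[]), (1,0,[]), (1,0,[]), (1,0,[]), (1,0,[]), (26,2,[1,288,0]), (51,1,[1,286,0]),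
    (36,3,[3,284,2]), (20,1,[3,4]), (24,2,[3,288,4]), (36,1,[5,284,4]), (28,2,[5,288,2]),
    (44,2,[304,303,305]), (44,2,[305,296,304]), (23,3,[288,288,6]), (34,3,[298,3,6]), (40,3,[7,284,6]),
    (60,2,[7,290,6]), (19,0,[310,8]), (22,1,[7,8]), (40,1,[9,284,8]), (60,0,[9,290,8]), (27,0,[5,288,10]),
    (28,3,[326,5,10]), (44,2,[11,284,10]), (27,2,[11,288,2]), (21,2,[3,12]), (30,3,[318,310,12]),
    (45,2,[13,284,12]), (54,1,[13,286,12]), (41,3,[334,307,335]), (49,3,[343,13,0]), (46,0,[344,339,345]),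
    (46,2,[15,284,14]), (36,3,[21,346,20]), (20,1,[21,22]), (24,2,[21,293,22]), (36,1,[23,346,22]),
    (28,2,[23,293,20]), (44,2,[358,357,359]), (44,2,[359,350,358]), (23,3,[293,293,24]), (34,3,[352,21,24]),
    (40,3,[25,346,24]), (41,3,[7,0,24]), (49,3,[371,366,363]), (49,3,[370,312,309]), (19,0,[364,26]),
    (22,1,[25,26]), (40,1,[27,346,26]), (27,0,[23,293,28]), (28,3,[382,23,28]), (44,2,[29,346,28]),
    (44,0,[11,0,28]), (53,1,[29,294,28]), (27,2,[29,293,20]), (21,2,[21,30]), (30,3,[376,364,30]),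
    (32,2,[29,293,30]), (49,2,[15,0,30]), (41,0,[394,361,395,400]), (7,0,[397,403]), (10,0,[395,403]),
    (15,0,[399,403]), (22,1,[334,36]), (21,2,[298,38]), (25,0,[412,300,36]), (41,3,[412,309,413]),
    (42,3,[412,305,36]), (49,3,[417,39,307]), (52,3,[418,421,304]), (50,2,[41,306,40]), (52,0,[375,305,40]),
    (42,0,[426,25,28]), (27,0,[404,376,427]), (21,0,[312,46]), (42,1,[334,304,46]), (52,3,[434,345,28]),
    (19,2,[326,48]), (30,2,[328,326,48]), (32,3,[318,312,48]), (48,2,[49,308,48]), (19,0,[49,46]),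
    (49,3,[444,440,331]), (52,3,[17,10,448,442]), (14,0,[16,451]), (62,3,[45,304,50]), (62,1,[43,304,52]),
    (18,1,[318,54]), (19,1,[320,54]), (23,2,[460,318,54]), (21,1,[320,56]), (61,0,[464,325,9,14,406]),
    (27,0,[336,318,58]), (29,2,[442,318,58]), (42,2,[442,320,58]), (44,2,[59,314,58]), (44,0,[426,370,58]),
    (52,3,[358,372,58]), (42,0,[59,7,10]), (20,2,[65,337]), (24,0,[65,318,56]), (61,5,[51,313,316,321,66]),
    (60,2,[486,51,413]), (50,2,[71,330,70]), (52,0,[15,10,70]), (28,1,[492,404,376]), (42,0,[492,406,358]),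
    (61,0,[13,290,6,373,496]), (60,2,[410,499,497]), (60,1,[498,334,42]), (59,1,[498,343,499,491,498,343]),
    (7,0,[483,504,495]), (10,0,[410,504,497]), (9,0,[335,504,503]), (11,0,[434,504,492]), (14,0,[70,505]),
    (16,0,[499,505]), (6,0,[376,506,485]), (7,0,[482,507]), (8,0,[64,507]), (5,0,[355,508,414]),
    (9,0,[36,509]), (10,0,[411,509]), (14,0,[422,509]), (16,0,[500,509]), (11,0,[305,511,457]),
    (16,0,[42,510]), (6,0,[447,513]), (8,0,[433,513]), (9,0,[46,513]), (11,0,[435,513]), (14,0,[436,513]),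
    (7,0,[56,518]), (16,0,[466,518]), (10,0,[413,524]), (16,0,[550,525,488]), (17,0,[52,534]),
    (9,0,[379,555,486]), (11,0,[426,559,454]), (16,0,[50,558]), (17,0,[44,560]), (29,0,[426,522,443]),
    (37,2,[426,522,461]), (28,3,[458,523,427]), (23,3,[430,538,473]), (60,1,[542,563,25,32]), (16,0,[32,574]),
    (62,0,[29,577,544]), (62,3,[19,10,72]), (18,1,[468,74]), (23,2,[573,468,74]), (24,1,[458,337,74]),
    (25,1,[382,528,74]), (26,1,[75,342,74]), (27,1,[430,544,74]), (27,3,[376,520,74]), (32,1,[409,544,74]),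
    (33,1,[75,340,74]), (40,1,[584,477,472]), (49,3,[591,596,387]), (62,0,[594,550,358]), (18,1,[83,84]),
    (20,1,[87,88]), (34,3,[608,87,90]), (22,1,[91,92]), (21,2,[87,94]), (21,0,[95,92]), (19,2,[83,100]),
    (19,0,[101,92]), (18,1,[376,104]), (19,1,[378,104]), (23,2,[624,376,104]), (24,1,[468,521,104]),
    (26,1,[55,371,104]), (27,1,[566,426,104]), (27,3,[458,523,104]), (32,1,[572,426,104]),
    (36,3,[628,476,570]), (49,3,[630,568,425]), (49,3,[474,637,630]), (52,0,[634,642,59,60]), (2,0,[638,645]),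
    (3,0,[631,645]), (5,0,[104,645]), (6,0,[623,645]), (7,0,[633,645]), (8,0,[629,645]), (9,0,[644,627,645]),
    (11,0,[635,645]), (12,0,[637,645]), (13,0,[640,645]), (52,3,[427,665,660]), (57,1,[73,389,110]),
    (62,3,[35,28,110]), (58,1,[73,389,390,110]), (44,3,[671,668,580,78]), (3,0,[78,674]),
    (53,1,[81,581,673,670]), (4,0,[80,679]), (47,1,[77,681,112]), (26,3,[83,677,114]), (33,3,[83,681,114]),
    (18,1,[115,116]), (26,1,[85,677,116]), (33,1,[85,681,116]), (39,3,[87,681,118]), (20,1,[119,120]),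
    (39,1,[89,681,120]), (23,3,[688,115,122]), (34,3,[696,119,122]), (41,3,[91,677,122]), (43,3,[91,681,122]),
    (22,1,[123,124]), (41,1,[93,677,124]), (21,2,[119,126]), (49,2,[97,677,126]), (54,1,[95,681,126]),
    (21,0,[127,124]), (49,0,[95,677,128]), (55,1,[97,681,128]), (50,2,[99,677,130]), (19,2,[115,132]),
    (19,0,[133,124]), (60,1,[111,428,136]), (62,3,[107,427,136]), (61,1,[111,589,603,428,136]),
    (21,0,[734,731]), (42,2,[123,671,731,732]), (3,0,[705,739]), (4,0,[707,739]), (9,0,[708,739]),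
    (10,0,[122,739]), (12,0,[703,739]), (15,0,[701,739]), (29,0,[733,736,732]), (32,2,[732,752,748]),
    (26,2,[741,752,740]), (23,3,[751,752,752,744]), (3,0,[691,759,710]), (5,0,[689,759,728]), (8,0,[719,758]),
    (9,0,[124,758]), (10,0,[744,758]), (5,0,[607,761,620]), (8,0,[617,760]), (9,0,[92,760]), (10,0,[613,760]),
    (10,0,[727,762]), (10,0,[619,770]), (15,0,[100,770]), (24,2,[119,116,764]), (24,2,[87,84,772]),
    (60,3,[73,439,138]), (62,3,[69,443,138]), (42,3,[791,788,580,775]), (3,0,[690,792]), (4,0,[692,792]),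
    (5,0,[84,792]), (6,0,[607,792]), (8,0,[773,792]), (9,0,[775,792]), (10,0,[777,792]), (27,0,[89,799,791]),
    (29,2,[580,799,791]), (60,1,[141,463,140]), (61,1,[139,473,643,463,140]), (61,4,[731,137,569,140,812]),
    (63,2,[141,666,562,556,563,667,140]), (34,1,[812,814,810]), (38,0,[815,812,812]), (52,0,[816,670,130]),
    (62,2,[824,819,825]), (29,0,[83,581,820,825]), (3,0,[684,829,724]), (11,0,[825,828]),
    (16,0,[829,826,828]), (3,0,[685,831]), (4,0,[687,831]), (5,0,[688,831]), (6,0,[114,831]),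
    (9,0,[830,778,831]), (28,0,[821,580,86]), (28,0,[803,791,823]), (57,1,[137,477,144]), (60,1,[73,480,144]),
    (60,3,[139,473,144]), (62,3,[63,58,144]), (36,0,[850,737,851]), (44,3,[857,850,732,740]), (3,0,[740,860]),
    (4,0,[742,860]), (5,0,[861,757,860]), (9,0,[806,860]), (10,0,[90,860]), (12,0,[611,860]),
    (61,4,[854,139,440,72,789]), (52,3,[791,874,856]), (57,1,[141,647,146]), (60,1,[147,659,146]),
    (62,3,[143,661,146]), (61,4,[853,145,663,146,880]), (36,0,[878,821,669]), (44,3,[883,878,833,837]),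
    (11,0,[882,889]), (27,2,[891,842,118]), (32,2,[891,842,126]), (27,0,[765,841,890]), (40,0,[77,871,148]),
    (27,2,[856,867,150]), (21,2,[151,872]), (20,1,[151,152]), (21,1,[869,152]), (24,2,[151,867,152]),
    (29,3,[900,856,152]), (27,0,[153,867,857]), (49,0,[749,863,154]), (60,3,[103,871,156]),
    (40,2,[77,805,158]), (40,0,[149,868,158]), (27,2,[580,799,160]), (28,2,[89,799,160]), (20,2,[161,802]),
    (21,2,[161,907]), (60,1,[103,805,164]), (60,3,[157,868,164]), (63,4,[103,19,290,453,324,68,164]),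
    (44,3,[77,581,166]), (59,1,[167,73,330,72,166]), (18,1,[922,168]), (27,1,[83,581,168]),
    (27,3,[846,821,168]), (32,1,[782,581,168]), (52,0,[97,581,170]), (62,1,[103,581,172]),
    (57,1,[139,600,174]), (60,1,[137,585,174]), (60,3,[111,589,174]), (62,3,[109,595,174]),
    (58,1,[139,600,598,174]), (61,1,[147,658,664,585,174]), (36,0,[952,823,879]), (36,2,[952,810,669]),
    (44,3,[959,952,790,794]), (3,0,[794,968]), (4,0,[796,968]), (5,0,[116,968]), (6,0,[840,968]),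
    (8,0,[765,968]), (9,0,[767,968]), (10,0,[769,968]), (19,0,[754,955]), (18,1,[179,180]),
    (36,3,[87,76,182]), (20,1,[183,184]), (21,1,[898,184]), (36,1,[89,76,184]), (21,2,[183,186]),
    (45,2,[95,76,186]), (21,0,[187,919]), (46,2,[97,76,188]), (19,2,[179,192]), (19,0,[193,919]),
    (57,1,[103,76,194]), (58,1,[135,112,682,194]), (40,2,[197,780,196]), (57,2,[197,834,196]),
    (27,2,[790,800,198]), (28,2,[803,800,198]), (20,2,[199,943]), (21,2,[199,947]), (24,0,[199,83,88]),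
    (26,2,[720,786,202]), (41,2,[720,614,202]), (22,1,[614,204]), (25,2,[1030,786,204]),
    (23,3,[1032,1032,205]), (38,1,[205,615,926]), (21,2,[608,206]), (30,3,[1032,1035,206]),
    (38,2,[903,608,206]), (49,3,[863,872,214]), (51,1,[914,698,214]), (60,3,[213,615,224]),
    (26,3,[896,714,228]), (41,0,[1050,880,1051]), (48,3,[1050,895,714]), (49,1,[1050,884,166]),
    (21,0,[1056,1052]), (37,1,[1054,1057,936,184]), (2,0,[1002,1061,994]), (7,0,[184,1060]), (8,0,[991,1060]),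
    (12,0,[993,1060]), (2,0,[1003,1063]), (13,0,[217,1062,189]), (13,0,[216,1073]), (32,0,[1056,1055,949]),
    (29,1,[1058,936,180]), (28,3,[1076,1059,1079]), (39,0,[722,1064,683]), (32,1,[1069,1054,1079,986]),
    (5,0,[986,1084]), (6,0,[178,1084]), (10,0,[920,1085,1005]), (5,0,[1006,1090]), (15,0,[192,1090]),
    (44,2,[924,1070,949]), (47,2,[698,1070,723]), (49,1,[177,1074,214]), (55,2,[682,1074,699]),
    (42,0,[1078,1052,1079]), (44,0,[1078,1050,891]), (47,1,[197,839,1106]), (58,2,[1106,1108,1015,1109]),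
    (33,2,[682,180,1108]), (59,0,[1110,836,835,837,1111]), (26,0,[180,1115,181,176]), (3,0,[176,1116]),
    (12,0,[187,1117,1101]), (3,0,[214,1120]), (4,0,[1047,1120]), (13,0,[1045,1120]), (26,1,[1086,1115,1087]),
    (44,0,[1079,1115,1078]), (41,1,[918,1119,919]), (44,0,[936,1119,937]), (51,2,[682,1119,683]),
    (41,1,[997,1122,902]), (47,2,[716,999,1124]), (54,2,[682,186,1124]), (46,2,[221,999,1126]),
    (49,3,[1129,1069,715]), (40,0,[113,747,1144]), (45,1,[1098,749,1144]), (47,1,[149,864,1144]),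
    (19,1,[1148,1113]), (25,0,[1148,1113,1013]), (35,0,[1148,1082,1029]), (41,3,[1148,1137,1149]),
    (23,1,[1149,1155,1156]), (18,1,[229,230]), (23,2,[1054,229,230]), (24,1,[1088,1065,230]),
    (26,1,[785,714,230]), (33,1,[1026,722,230]), (40,1,[1166,1071,902]), (23,3,[1164,229,232]),
    (31,3,[1164,1055,232]), (31,0,[1176,1166,232]), (34,3,[183,1065,232]), (40,3,[1038,1070,232]),
    (57,1,[219,1070,236]), (27,2,[958,976,240]), (28,2,[979,976,240]), (36,3,[1081,1107,240]),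
    (39,3,[199,839,240]), (24,0,[241,842,120]), (20,1,[241,242]), (21,1,[845,242]), (29,3,[892,891,242]),
    (34,2,[1200,242,1198]), (37,1,[962,891,242]), (39,1,[942,839,242]), (27,0,[243,842,671]),
    (49,0,[1200,836,200]), (49,0,[946,837,244]), (55,1,[201,839,244]), (26,0,[1214,169,166]),
    (26,2,[1214,940,1097]), (44,1,[1214,944,989]), (24,1,[1164,1058,1218]), (27,1,[1088,937,1218]),
    (32,1,[1094,937,1218]), (44,0,[910,1138,1222]), (39,2,[1217,1224,1172]), (39,0,[1217,1226,1153]),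
    (49,3,[1215,1228,1133]), (46,1,[1107,244,1230]), (46,2,[163,158,1236]), (52,0,[1236,944,210]),
    (61,2,[929,1238,1104,1110,1201]), (36,2,[197,943,1240]), (44,1,[203,945,1240]), (29,2,[1242,1093,1243]),
    (44,0,[1242,1133,1243]), (44,2,[1242,159,791]), (27,0,[1001,1093,1243]), (42,2,[936,919,1243]),
    (52,3,[790,162,1248]), (59,1,[1255,139,444,138,1254]), (56,2,[1172,1260,961]),
    (63,1,[107,562,531,532,604,174,1264]), (57,2,[1174,1266,1144]), (60,2,[237,1167,1266,983]),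
    (2,0,[1187,1271]), (16,0,[236,1271]), (60,1,[1178,1266,746,134]), (2,0,[1185,1277]),
    (5,0,[1276,1180,1277]), (9,0,[1179,1277]), (10,0,[232,1277]), (12,0,[1183,1277]),
    (58,3,[1173,1266,865,156]), (58,0,[1173,1266,1144,1152]), (61,2,[165,804,96,1167,1266,748]),
    (9,0,[931,1293]), (10,0,[933,1293]), (14,0,[935,1293]), (16,0,[164,1293]), (58,4,[157,864,1267,1175]),
    (60,3,[1268,903,218]), (60,0,[1149,1268,1043]), (59,3,[1139,1269,1160,1268,1138]),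
    (61,0,[1151,1268,903,1075,919]), (36,0,[1140,979,1272]), (40,2,[113,981,1272]), (47,1,[159,973,1272]),
    (59,3,[914,1300,971,1274,715]), (47,1,[1009,1010,1278]), (33,0,[1010,1280,1011]), (43,0,[1010,1282,1172]),
    (43,2,[1010,1284,723]), (36,2,[1288,1158,1145]), (59,4,[202,1291,1128,1290,203,212]),
    (10,0,[614,1331,1049]), (16,0,[212,1330]), (16,0,[224,1332]), (23,3,[1188,984,1294]),
    (31,0,[755,1294,917]), (34,3,[119,120,1294]), (25,0,[1304,1162,1315]), (41,3,[1304,1161,1305]),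
    (60,2,[996,1309,997]), (55,0,[1316,1236,1209]), (41,1,[205,202,1324]), (60,0,[205,1335,204]),
    (49,3,[1352,1037,1097]), (61,3,[209,204,1355,1037,1245]), (46,3,[1192,1356,1008]), (52,2,[235,949,1356]),
    (31,3,[1188,1207,1358]), (31,0,[1338,1204,1358]), (34,3,[241,242,1358]), (38,0,[1368,1204,1358]),
    (60,2,[928,1245,1358]), (52,3,[950,1360,1190]), (55,2,[1320,1360,1194]), (29,2,[1363,1322,1362]),
    (42,2,[1248,1324,1362]), (44,2,[950,1009,1362]), (27,0,[1371,1366,951]), (24,3,[1384,1370,1366]),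
    (56,1,[223,717,1374]), (52,2,[223,1019,1376]), (18,2,[1384,1366]), (21,1,[916,1386]),
    (39,2,[1320,1386,1388]), (33,2,[1320,1392,1388]), (54,2,[1302,1395,1388]), (37,0,[1035,206,1390]),
    (42,2,[910,1043,1390]), (42,0,[1391,1038,925]), (61,0,[1400,1269,1305,1351,1205]),
    (62,0,[1191,1408,1391]), (26,0,[1382,1393,246]), (41,0,[914,1294,246]), (50,1,[914,1298,246]),
    (27,1,[1412,1363,1322]), (28,2,[1371,1366,248]), (36,3,[1419,1008,248]), (39,3,[1041,1320,248]),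
    (20,2,[249,1386]), (21,2,[249,1342]), (24,0,[249,1392,1426]), (38,3,[249,1342,713]),
    (52,3,[1420,209,945]), (62,0,[1420,1372,910]), (58,2,[1423,1424,1355,1425]), (51,0,[1424,1353,1010]),
    (56,2,[1208,1434,1424]), (50,3,[1214,1434,1441]), (63,0,[1268,1436,1438,1416,1319,1411,1306]),
    (50,3,[1352,1442,1213]), (56,2,[191,683,1446,1152]), (14,0,[190,1451]), (20,1,[1329,250]),
    (21,1,[982,250]), (24,2,[1329,752,250]), (29,3,[1340,732,250]), (34,2,[1394,1329,250]),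
    (36,1,[1235,1145,250]), (27,0,[251,752,733]), (49,0,[1456,970,162]), (62,0,[1460,157,857]),
    (63,3,[235,1275,109,550,479,144,1470]), (62,0,[1461,1472,1363]), (63,6,[1291,1452,194,1474,157,876,1301]),
    (27,2,[670,975,252]), (28,2,[121,975,252]), (20,2,[253,978]), (21,2,[253,1457]), (24,0,[253,976,242]),
    (38,3,[253,1457,1462]), (62,2,[1480,1476,1249]), (46,2,[1350,1273,254]), (49,0,[906,971,254]),
    (52,2,[1265,958,254]), (36,0,[1492,243,1106]), (36,2,[1492,1198,1192]), (40,2,[1492,1205,1192]),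
    (26,2,[1494,908,1138]), (62,0,[1496,1266,733]), (26,0,[1212,1211,256]), (44,3,[113,671,256]),
    (59,1,[257,111,386,110,256]), (44,0,[1510,1137,1511]), (52,3,[1510,1103,1481]), (50,2,[1516,257,258]),
    (52,0,[129,671,258]), (63,1,[173,73,515,516,578,110,258]), (26,0,[1518,1487,1213]),
    (26,2,[1518,1478,256]), (41,0,[1518,1485,1469]), (41,2,[1518,1489,1383]), (28,1,[1520,1083,1113]),
    (29,2,[1520,1027,1249]), (44,0,[1520,720,1019]), (62,1,[135,671,260]),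
    (63,3,[1445,135,35,577,546,110,260]), (29,2,[1538,1281,1539]), (42,0,[1538,1284,949]),
    (44,0,[1538,1440,1420]), (44,2,[1538,1278,1390]), (42,2,[1496,1283,1539]), (28,2,[1235,1162,262]),
    (36,3,[119,112,262]), (20,2,[263,1082]), (21,2,[263,1143]), (24,0,[263,1113,1247]),
    (38,3,[263,1143,1415]), (44,2,[1552,1465,1460]), (52,1,[1552,1448,1362]), (58,2,[1554,694,1335,695]),
    (46,2,[1566,1554,264]), (52,2,[1442,1202,264]), (36,0,[1570,1379,1571]), (40,0,[1570,1530,1537]),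
    (40,2,[1570,1380,1241]), (57,0,[1570,1473,1464]), (27,2,[1572,1032,1403]), (27,0,[1040,1032,1573]),
    (50,2,[1264,1170,266]), (52,0,[1351,1202,266]), (26,2,[1586,984,915]), (41,2,[1586,956,256]),
    (59,5,[1586,175,591,174,1587]), (29,2,[1588,1344,1589]), (44,0,[1588,1347,1589]), (26,3,[848,721,268]),
    (33,3,[229,723,268]), (18,2,[269,1027]), (25,3,[269,1029,1604]), (27,1,[269,1521,1527]),
    (59,5,[1600,141,649,146,1051]), (47,0,[1602,1131,1603]), (27,2,[1538,1281,270]), (36,3,[1041,1279,270]),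
    (21,2,[271,1286]), (38,3,[271,1286,997]), (57,0,[1616,1355,1617]), (20,1,[271,272]), (21,1,[1283,272]),
    (24,2,[271,1281,272]), (29,3,[1614,1538,272]), (35,1,[1224,1283,272]), (36,1,[1396,1279,272]),
    (27,0,[273,1281,1539]), (49,0,[1626,1170,264]), (61,0,[1626,1266,983,254,1503]),
    (62,0,[239,949,1640,1630]), (2,0,[1617,1642]), (5,0,[1628,1642]), (6,0,[1615,1642]), (7,0,[1624,1642]),
    (8,0,[270,1642]), (9,0,[1618,1642]), (10,0,[1620,1642]), (16,0,[1643,1622,1642]), (26,2,[1565,1340,274]),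
    (26,0,[1468,1467,274]), (41,2,[257,731,274]), (41,0,[1586,954,274]), (44,3,[1145,733,274]),
    (59,1,[275,137,424,136,274]), (24,1,[269,1556,1661]), (27,1,[1508,1553,1661]), (40,1,[1664,1515,1665]),
    (52,3,[1668,221,1019]), (50,2,[1678,275,276]), (52,0,[1126,733,276]),
    (63,1,[1507,137,41,536,565,136,276]), (26,0,[1680,1025,1123]), (26,2,[1680,1016,1254]),
    (41,0,[1680,1023,1215]), (41,2,[1680,1576,1638]), (27,1,[1686,1682,1686]), (28,1,[1682,1001,1093]),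
    (44,0,[1682,1122,925]), (26,2,[1139,900,278]), (26,0,[1494,913,278]), (41,2,[167,853,278]),
    (41,0,[1255,855,278]), (44,3,[149,857,278]), (59,1,[279,145,474,144,278]), (24,1,[229,1066,1701]),
    (27,1,[1218,1223,1701]), (40,1,[1704,1135,1705]), (52,3,[1708,1147,1191]), (50,2,[1718,279,280]),
    (52,0,[155,857,280]), (26,0,[1720,1197,915]), (26,2,[1720,1188,1587]), (41,0,[1720,1204,1213]),
    (59,5,[1720,1408,1548,1540,1214]), (27,1,[1724,1722,1724]), (28,1,[1722,1313,1344]),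
    (44,0,[1722,914,1481]), (62,0,[1722,1319,1191]), (63,7,[1439,1435,1730,1739,1408,223,1337,226]),
    (2,0,[1422,1741]), (6,0,[1413,1741]), (8,0,[1418,1741]), (9,0,[1563,1741]), (10,0,[1415,1741]),
    (16,0,[1438,1741]), (36,2,[1008,1386,282]), (36,0,[1742,1427,282]), (40,2,[1737,1489,282]),
    (40,0,[1465,1462,282]), (57,2,[1536,1522,282]), (27,0,[1754,1322,1362]), (24,2,[1746,1322,1755])]

def cIR : List (ℕ × List ℕ) :=
    [(0,[285,289,288,2,4,6,8,291]), (1,[347,292,293,20,22,24,26,577]), (2,[297,301,332,299,3,335,527,537]),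
    (3,[303,327,300,5,298,553,543,563]), (4,[315,319,54,541,549,321,7,317]),
    (5,[323,459,318,523,337,9,320,325]), (6,[389,333,326,328,329,439,480,72]),
    (7,[339,469,74,336,521,529,334,517]), (8,[349,431,538,404,540,542,406,576]),
    (10,[76,82,799,86,88,871,805,102]), (11,[351,355,392,353,21,407,552,551]),
    (12,[357,383,354,23,352,526,528,533]), (13,[369,377,651,520,522,379,25,562]),
    (14,[381,653,376,548,405,27,378,550]), (15,[388,393,382,384,385,589,428,110]),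
    (18,[112,843,975,118,120,747,981,134]), (21,[477,567,430,570,593,429,585,136]),
    (25,[600,539,566,471,655,473,438,138]), (28,[647,55,458,587,571,462,463,140]),
    (30,[476,583,468,657,470,481,472,144]), (31,[646,650,652,654,656,658,659,146]),
    (32,[148,866,867,150,152,868,870,156]), (35,[158,798,800,160,802,804,869,1301]),
    (37,[669,923,168,811,820,789,853,73]), (38,[601,75,582,592,586,584,588,174]),
    (39,[77,1089,180,182,1065,899,919,194]), (42,[196,801,83,198,943,781,780,835]),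
    (44,[989,787,846,609,87,615,204,1335]), (45,[1070,809,1024,89,608,1039,902,218]),
    (48,[999,849,786,803,926,1031,614,1337]), (49,[1071,228,230,1064,1066,1285,1167,1275]),
    (50,[1106,977,842,240,242,844,845,1111]), (52,[1009,1367,1392,248,1386,917,1295,103]),
    (54,[1144,753,752,1328,250,983,746,1267]), (55,[1272,974,976,252,978,980,982,1274]),
    (56,[668,1479,1210,966,886,957,731,111]), (57,[113,1163,1113,262,1082,1149,1315,1307]),
    (60,[1555,785,892,697,119,713,1428,1568]), (61,[1099,985,1196,121,696,1294,1296,1300]),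
    (64,[1141,897,784,979,1482,1432,712,1318]), (65,[1098,268,1027,1083,1556,1326,1029,1311]),
    (68,[1278,1280,1281,1653,272,1282,1284,135]), (69,[851,1341,1466,737,736,730,955,137]),
    (70,[953,1017,808,823,810,855,788,139]), (71,[879,847,848,821,822,812,813,141]),
    (73,[850,901,912,859,858,852,854,145]), (74,[878,893,896,887,964,880,881,147]),
    (75,[149,1086,1088,1169,1227,921,898,1290]), (76,[1174,909,900,905,151,903,1043,1269]),
    (77,[1231,913,908,153,904,1405,928,1373]), (78,[1140,1590,1724,1313,1733,1751,1558,1319]),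
    (79,[1288,1459,1340,1455,1329,1297,916,157]), (80,[159,1092,1093,1696,1000,918,920,1310]),
    (81,[1698,941,922,927,161,929,1406,1245]), (82,[1241,1663,1560,1246,1534,1381,1528,1490]),
    (84,[1135,1077,1218,1059,1715,1259,1705,939]), (85,[1240,169,940,942,1020,1578,1022,1730]),
    (86,[1193,1220,1076,1500,1081,1502,1544,1640]), (87,[282,1393,1384,1387,1426,1488,1463,1523]),
    (88,[952,1189,984,965,967,954,956,175]), (91,[1107,181,1087,1080,1498,1105,1104,1110]),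
    (92,[988,1504,1701,1067,183,997,1655,1309]), (94,[998,1257,1686,1001,1695,1657,996,1349]),
    (98,[1008,1323,1322,1747,1755,1325,1327,195]), (99,[197,1112,1156,1532,1247,1012,1013,1015]),
    (100,[1536,1025,1016,1021,199,1023,1576,1763]), (101,[1465,1509,1524,1235,1233,1761,1728,1580]),
    (102,[1289,1026,1604,1232,1158,1028,1324,1291]), (103,[1645,1033,1032,1403,1041,205,1030,1355]),
    (104,[1279,1585,1399,1040,1397,1042,1038,1306]), (105,[1546,1385,1366,1371,1370,1364,1359,1372]),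
    (106,[1253,1688,1256,1251,1250,1707,1258,1263]), (110,[1273,1345,1344,1734,1312,1314,1304,219]),
    (111,[1145,1157,1162,1159,1234,1305,1148,1268]), (112,[1635,1398,1582,1396,1402,1407,1404,1409]),
    (114,[1742,1767,1744,1757,1746,1748,1750,1752]), (115,[1131,1165,229,1713,1058,1053,1052,1610]),
    (116,[1175,231,1164,1225,1168,1166,1283,1266]), (118,[1571,1745,1764,1379,1378,1530,1380,1473]),
    (120,[1644,1646,1648,1650,1652,1654,1656,1659]), (121,[1192,1197,1188,1199,241,1204,1365,1408]),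
    (122,[1493,1211,1486,243,1198,1358,1205,1244]), (123,[1230,1219,1221,1226,1224,1633,1690,1541]),
    (125,[1743,1431,1430,1427,249,1429,1433,1753]), (126,[1464,1467,1458,251,1454,1462,1484,1472]),
    (127,[1736,1487,1478,1483,253,1485,1489,1491]), (128,[1492,1703,1505,1499,1501,1551,1503,1685]),
    (129,[1515,1526,1508,1608,1675,1592,1665,1513]), (130,[1537,1525,1527,1535,1533,1529,1531,1522]),
    (131,[1547,1649,1636,1543,1542,1545,1550,1540]), (132,[1554,1561,1661,1557,263,1559,1749,1569]),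
    (133,[1570,1583,1584,1575,1574,1577,1579,1581]), (134,[1599,1726,1591,1597,1596,1667,1593,1595]),
    (135,[1613,1605,269,1673,1609,1607,1606,1611]), (137,[1634,1637,1647,273,1651,1692,1632,1641]),
    (138,[1677,1660,1662,1674,1672,1664,1666,1671]), (139,[1699,1687,1689,1694,1697,1691,1693,1684]),
    (140,[1717,1700,1702,1714,1712,1704,1706,1711]), (141,[1737,1725,1727,1732,1735,1729,1759,1731]),
    (142,[283,1765,1766,1754,1756,1758,1760,1762])]

theorem cIC : check (inv tG) cIW [1,3,4,5,15] [1,4,5,6,7,8,9,15] cIF cIS cIR = true := by decide +kernel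

def cKW : List (List ℕ) :=
    [[3,3,3], [3,1,2,6], [3,4,2,9], [3,6,2,5], [3,5,2,1], [3,8,2,4], [3,9,2,8], [3,7,2,7], [11,11,11,11],
    [11,11,1,7], [11,11,7,1], [11,1,10,1], [11,6,10,5], [11,9,10,8], [11,7,10,7], [1,4,1,4], [1,7,1,7],
    [6,9,6,9], [5,8,5,8], [3,6,10,3,10], [11,11,4,7,4], [11,11,6,1,6], [11,11,5,1,5], [11,1,6,11,5],
    [11,4,6,5,4], [11,5,7,10,6], [1,5,1,5,7], [6,5,6,5,7], [6,9,7,9,7], [5,8,7,8,7], [3,3,11,6,2,11],
    [3,3,11,2,11,6], [3,11,3,6,5,10], [3,11,3,10,6,5], [3,11,1,10,2,6], [3,11,6,10,2,1], [3,11,9,10,2,4],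
    [3,11,2,11,3,1], [3,1,6,11,3,10], [3,1,6,2,5,6], [3,1,5,2,1,6], [3,1,8,2,4,6], [3,1,9,2,8,6],
    [3,4,1,4,2,6], [3,4,8,2,4,9], [3,4,9,2,8,9], [3,6,8,2,4,5], [3,5,2,10,10,7], [3,10,10,7,2,6],
    [11,11,11,8,11,9], [11,11,4,1,4,7], [11,1,5,1,10,6], [11,1,5,10,1,6], [11,1,10,4,1,4], [11,4,5,6,7,4],
    [11,6,11,7,1,5], [11,8,7,8,10,6], [1,6,1,9,7,9], [1,8,1,8,1,8], [1,9,1,9,1,9], [4,5,4,5,4,5],
    [4,8,4,9,8,9], [4,8,9,4,9,8]]

def cKF : Tr :=
    (.node (.node (.node (.node (.node (.node (.node (.node (.node .leaf 56 6 53 .leaf) 8 11 25 .leaf) 0 3 0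
    (.node .leaf 41 6 21 .leaf)) 9 11 32 (.node (.node .leaf 32 7 17 .leaf) 11 2 9 (.node .leaf 49 1 37
    .leaf))) 5 4 16 (.node (.node (.node (.node .leaf 61 11 38 .leaf) 28 2 22 .leaf) 4 6 1 (.node .leaf 45 10
    40 .leaf)) 18 7 48 (.node (.node .leaf 38 4 38 .leaf) 19 9 19 (.node .leaf 52 6 42 .leaf)))) 2 4 8 (.node
    (.node (.node (.node (.node .leaf 52 4 58 .leaf) 26 7 9 .leaf) 2 2 1 (.node .leaf 43 7 23 .leaf)) 15 9 40
    (.node (.node .leaf 33 11 11 .leaf) 15 5 15 (.node .leaf 51 3 24 .leaf))) 6 11 24 (.node (.node (.node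
    .leaf 30 10 17 .leaf) 3 11 7 (.node .leaf 47 2 46 .leaf)) 26 4 56 (.node (.node .leaf 37 6 29 .leaf) 23 3
    23 (.node .leaf 54 2 53 .leaf))))) 1 5 4 (.node (.node (.node (.node (.node (.node .leaf 57 4 57 .leaf) 20
    5 9 .leaf) 0 11 0 (.node .leaf 42 9 24 .leaf)) 13 9 36 (.node (.node .leaf 33 2 26 .leaf) 13 5 5 (.node
    .leaf 50 1 21 .leaf))) 6 1 20 (.node (.node (.node (.node .leaf 62 2 62 .leaf) 29 3 16 .leaf) 7 2 4 (.node
    .leaf 46 4 30 .leaf)) 20 8 52 (.node (.node .leaf 25 8 39 .leaf) 21 2 16 (.node .leaf 53 5 23 .leaf)))) 3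
    8 12 (.node (.node (.node (.node (.node .leaf 60 1 40 .leaf) 27 2 20 .leaf) 3 2 2 (.node .leaf 44 11 35
    .leaf)) 16 11 44 (.node (.node .leaf 34 1 34 .leaf) 18 4 9 (.node .leaf 52 3 37 .leaf))) 8 6 28 (.node
    (.node (.node .leaf 31 3 14 .leaf) 10 5 3 (.node .leaf 48 11 37 .leaf)) 35 6 60 (.node (.node .leaf 40 6
    16 .leaf) 25 2 14 (.node .leaf 55 1 47 .leaf)))))) 0 8 2 (.node (.node (.node (.node (.node (.node (.node
    .leaf 57 3 42 .leaf) 15 3 20 .leaf) 0 6 0 (.node .leaf 42 1 35 .leaf)) 11 5 34 (.node (.node .leaf 32 2 28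
    .leaf) 12 2 8 (.node .leaf 49 2 42 .leaf))) 5 9 18 (.node (.node (.node (.node .leaf 61 4 54 .leaf) 28 11
    27 .leaf) 4 4 4 (.node .leaf 45 7 36 .leaf)) 18 11 50 (.node (.node .leaf 39 7 35 .leaf) 20 11 13 (.node
    .leaf 53 2 44 .leaf)))) 2 10 10 (.node (.node (.node (.node (.node .leaf 59 3 38 .leaf) 22 1 26 .leaf) 2 7
    2 (.node .leaf 43 4 17 .leaf)) 16 7 42 (.node (.node .leaf 34 3 17 .leaf) 14 11 15 (.node .leaf 51 4 51
    .leaf))) 7 9 26 (.node (.node (.node .leaf 31 1 17 .leaf) 9 2 5 (.node .leaf 47 10 41 .leaf)) 29 10 58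
    (.node (.node .leaf 40 2 35 .leaf) 24 1 13 (.node .leaf 55 2 38 .leaf))))) 1 9 6 (.node (.node (.node
    (.node (.node (.node .leaf 58 3 36 .leaf) 26 10 12 .leaf) 1 7 1 (.node .leaf 38 1 36 .leaf)) 14 8 38
    (.node (.node .leaf 33 1 11 .leaf) 14 10 13 (.node .leaf 50 3 35 .leaf))) 6 5 22 (.node (.node (.node
    (.node .leaf 62 1 57 .leaf) 30 11 12 .leaf) 7 5 7 (.node .leaf 46 10 37 .leaf)) 23 6 54 (.node (.node
    .leaf 35 5 29 .leaf) 23 9 8 (.node .leaf 45 1 53 .leaf)))) 4 9 14 (.node (.node (.node (.node (.node .leaf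
    60 2 60 .leaf) 27 6 11 .leaf) 3 6 3 (.node .leaf 44 4 32 .leaf)) 18 1 46 (.node (.node .leaf 36 4 36
    .leaf) 19 1 14 (.node .leaf 52 5 21 .leaf))) 9 1 30 (.node (.node (.node .leaf 31 10 22 .leaf) 10 2 7
    (.node .leaf 48 10 21 .leaf)) 41 7 62 (.node (.node .leaf 41 1 29 .leaf) 25 7 8 (.node .leaf 56 2 36
    .leaf))))))) 0 4 1 (.node (.node (.node (.node (.node (.node (.node (.node .leaf 57 2 49 .leaf) 15 6 12
    .leaf) 0 5 0 (.node .leaf 41 4 29 .leaf)) 10 4 33 (.node (.node .leaf 32 3 22 .leaf) 11 3 5 (.node .leaf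
    49 7 21 .leaf))) 5 6 17 (.node (.node (.node (.node .leaf 61 1 52 .leaf) 28 1 28 .leaf) 4 11 4 (.node
    .leaf 45 6 18 .leaf)) 18 10 49 (.node (.node .leaf 39 1 16 .leaf) 20 7 19 (.node .leaf 52 9 31 .leaf)))) 2
    9 9 (.node (.node (.node (.node (.node .leaf 59 2 55 .leaf) 17 10 26 .leaf) 2 5 2 (.node .leaf 43 3 43
    .leaf)) 16 5 41 (.node (.node .leaf 11 11 33 .leaf) 15 8 15 (.node .leaf 51 1 51 .leaf))) 7 4 25 (.node
    (.node (.node .leaf 30 9 22 .leaf) 8 2 6 (.node .leaf 47 6 44 .leaf)) 29 7 57 (.node (.node .leaf 37 9 27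
    .leaf) 24 11 19 (.node .leaf 54 11 41 .leaf))))) 1 8 5 (.node (.node (.node (.node (.node (.node .leaf 58
    1 54 .leaf) 26 2 13 .leaf) 1 1 1 (.node .leaf 23 11 42 .leaf)) 14 4 37 (.node (.node .leaf 33 3 13 .leaf)
    13 7 5 (.node .leaf 50 4 20 .leaf))) 6 4 21 (.node (.node (.node (.node .leaf 62 11 58 .leaf) 30 2 17
    .leaf) 7 7 7 (.node .leaf 46 6 38 .leaf)) 22 8 53 (.node (.node .leaf 37 3 39 .leaf) 21 8 9 (.node .leaf
    53 4 45 .leaf)))) 4 8 13 (.node (.node (.node (.node (.node .leaf 60 11 53 .leaf) 27 1 27 .leaf) 3 10 2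
    (.node .leaf 44 1 23 .leaf)) 17 9 45 (.node (.node .leaf 34 4 28 .leaf) 18 2 18 (.node .leaf 52 11 36
    .leaf))) 8 8 29 (.node (.node (.node .leaf 31 2 25 .leaf) 10 3 4 (.node .leaf 48 4 22 .leaf)) 37 5 61
    (.node (.node .leaf 40 8 26 .leaf) 25 1 8 (.node .leaf 55 4 40 .leaf)))))) 0 9 3 (.node (.node (.node
    (.node (.node (.node (.node .leaf 57 11 54 .leaf) 24 3 19 .leaf) 0 7 0 (.node .leaf 42 4 24 .leaf)) 13 4
    35 (.node (.node .leaf 32 8 17 .leaf) 12 3 6 (.node .leaf 49 4 19 .leaf))) 5 10 19 (.node (.node (.node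
    (.node .leaf 61 3 61 .leaf) 29 2 21 .leaf) 6 10 5 (.node .leaf 46 2 45 .leaf)) 19 3 51 (.node (.node .leaf
    39 11 23 .leaf) 20 10 15 (.node .leaf 53 11 52 .leaf)))) 3 4 11 (.node (.node (.node (.node (.node .leaf
    59 1 43 .leaf) 27 3 15 .leaf) 3 3 1 (.node .leaf 43 10 35 .leaf)) 16 10 43 (.node (.node .leaf 34 2 30
    .leaf) 16 9 12 (.node .leaf 52 2 39 .leaf))) 8 5 27 (.node (.node (.node .leaf 31 7 12 .leaf) 10 1 3
    (.node .leaf 48 2 48 .leaf)) 31 4 59 (.node (.node .leaf 40 10 38 .leaf) 24 7 15 (.node .leaf 55 10 29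
    .leaf))))) 2 1 7 (.node (.node (.node (.node (.node (.node .leaf 58 2 56 .leaf) 26 6 9 .leaf) 1 11 1
    (.node .leaf 43 5 38 .leaf)) 15 4 39 (.node (.node .leaf 33 7 11 .leaf) 14 7 6 (.node .leaf 50 2 40
    .leaf))) 6 8 23 (.node (.node (.node (.node .leaf 62 4 62 .leaf) 30 7 22 .leaf) 7 6 2 (.node .leaf 47 3 45
    .leaf)) 25 9 55 (.node (.node .leaf 35 8 27 .leaf) 23 4 12 (.node .leaf 54 3 44 .leaf)))) 5 1 15 (.node
    (.node (.node (.node (.node .leaf 60 4 47 .leaf) 27 4 27 .leaf) 4 1 4 (.node .leaf 44 5 36 .leaf)) 18 5 47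
    (.node (.node .leaf 38 9 35 .leaf) 19 6 19 (.node .leaf 52 7 40 .leaf))) 9 10 31 (.node (.node (.node
    .leaf 32 1 12 .leaf) 10 10 7 (.node .leaf 48 9 32 .leaf)) 0 1 0 (.node (.node .leaf 41 2 41 .leaf) 25 11 8
    (.node .leaf 56 1 48 .leaf))))))))

def cKS : List (ℕ × ℕ × List ℕ) :=
    [(0,0,[]), (0,0,[]), (0,0,[]), (0,0,[]), (0,0,[]), (0,0,[]), (0,0,[]), (0,0,[]), (0,0,[]), (0,0,[]),
    (0,0,[]), (0,0,[]), (0,0,[]), (0,0,[]), (0,0,[]), (0,0,[]), (0,0,[]), (0,0,[]), (0,0,[]), (0,0,[]),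
    (0,0,[]), (0,0,[]), (0,0,[]), (0,0,[]), (0,0,[]), (0,0,[]), (0,0,[]), (0,0,[]), (0,0,[]), (0,0,[]),
    (0,0,[]), (0,0,[]), (0,0,[]), (0,0,[]), (0,0,[]), (0,0,[]), (0,0,[]), (0,0,[]), (0,0,[]), (0,0,[]),
    (0,0,[]), (0,0,[]), (0,0,[]), (0,0,[]), (0,0,[]), (0,0,[]), (0,0,[]), (0,0,[]), (0,0,[]), (0,0,[]),
    (0,0,[]), (0,0,[]), (0,0,[]), (0,0,[]), (0,0,[]), (0,0,[]), (0,0,[]), (0,0,[]), (0,0,[]), (0,0,[]),
    (0,0,[]), (0,0,[]), (1,0,[]), (1,0,[]), (1,0,[]), (1,0,[]), (1,0,[]), (1,0,[]), (17,2,[1,124,0]),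
    (22,3,[1,134,134,0]), (26,0,[1,130,128,0]), (7,2,[1,126,2]), (20,2,[3,128,2]), (31,2,[3,132,128,2]),
    (4,0,[1,127,4]), (8,2,[3,126,4]), (15,2,[3,134,4]), (19,2,[5,130,4]), (24,3,[7,140,140,6]),
    (56,3,[138,1,134,0,6]), (57,0,[158,140,138,136,6]), (62,2,[7,1,128,0,6]), (15,2,[9,140,10]),
    (3,2,[158,143,12]), (18,1,[13,146,12]), (28,1,[13,144,146,12]), (40,2,[153,148,141,143,12]),
    (11,1,[13,147,153]), (4,2,[11,143,14]), (8,2,[9,143,16]), (13,3,[174,13,18]), (14,3,[174,172,18]),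
    (21,3,[161,167,172,18]), (36,4,[172,151,174,13,18]), (49,4,[168,187,182,150,18]), (4,2,[17,151,20]),
    (7,0,[9,149,20]), (7,2,[15,151,22]), (8,0,[11,149,22]), (20,2,[9,6,24]), (31,2,[9,138,6,24]),
    (15,2,[25,160,26]), (30,2,[11,138,159,26]), (28,1,[29,199,200,28]), (60,1,[29,9,136,8,28]),
    (11,1,[29,201,203]), (63,3,[23,5,0,8,30]), (64,3,[17,3,0,8,34]), (4,2,[35,179,215]), (13,3,[210,29,36]),
    (27,4,[37,199,200,36]), (61,5,[218,27,157,26,219]), (11,3,[37,165,38]), (12,0,[203,204,38]),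
    (13,2,[29,165,38]), (4,2,[212,196,40]), (46,2,[178,30,212,196,40]), (63,5,[15,3,0,10,44]),
    (64,0,[23,5,0,10,44]), (7,0,[45,197,237]), (10,1,[37,165,46]), (11,2,[200,165,46]), (12,2,[29,165,46]),
    (4,2,[27,167,48]), (17,2,[15,12,48]), (22,3,[15,153,174,48]), (26,0,[15,173,170,48]),
    (52,0,[252,15,12,48,250]), (33,5,[196,177,254,246,210]), (39,4,[39,177,254,246,210]),
    (39,4,[218,247,252,176,46]), (42,2,[178,28,256,196,38]), (8,2,[25,167,50]), (15,2,[23,174,50]),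
    (19,2,[17,173,50]), (30,2,[17,146,173,50]), (37,3,[264,243,260,37,32]), (53,3,[266,257,229,39,42]),
    (5,0,[256,194,52]), (6,2,[39,177,52]), (24,3,[53,254,252,52]), (41,5,[192,28,256,194,52]),
    (62,2,[53,15,144,14,52]), (5,2,[43,177,54]), (23,3,[55,254,252,54]), (25,3,[53,254,248,54]),
    (7,2,[41,177,56]), (8,0,[212,194,56]), (3,2,[33,179,58]), (12,0,[267,270,58]), (18,1,[274,270,58]),
    (53,4,[33,165,38,262,58]), (61,1,[274,51,13,16,58]), (13,3,[303,59,60]), (16,3,[267,270,60]),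
    (21,3,[202,265,268,60]), (37,4,[248,195,267,268,60]), (50,2,[301,296,33,179,60]), (11,2,[309,61,62]),
    (12,2,[307,61,62]), (32,0,[287,290,282,190,62]), (33,3,[290,282,192,179,62]), (51,3,[303,304,315,61,62]),
    (4,2,[51,187,64]), (7,0,[25,185,64]), (17,2,[21,181,64]), (22,3,[21,174,189,64]), (26,0,[21,154,183,64]),
    (52,0,[334,21,181,64,332]), (5,0,[33,193,66]), (6,2,[59,191,66]), (24,3,[67,336,334,66]),
    (26,4,[290,284,282,66]), (64,3,[71,25,162,24,70]), (63,5,[69,25,162,26,74]), (64,0,[75,27,162,26,74]),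
    (17,2,[31,28,76]), (22,3,[69,203,210,76]), (26,0,[236,257,206,76]), (15,3,[356,234,253]),
    (38,0,[356,234,253,246,72]), (31,0,[57,251,358,354]), (58,3,[291,55,254,358,354]),
    (43,5,[294,353,359,246,72]), (46,5,[276,76,359,246,72]), (8,2,[364,276,78]), (15,2,[75,210,78]),
    (19,2,[212,257,78]), (63,4,[51,48,358,77,78]), (28,2,[363,355,352,80]), (42,3,[378,367,360,352,80]),
    (48,1,[232,178,30,80,381]), (62,2,[363,69,198,30,80]), (18,2,[355,352,82]), (22,4,[240,37,30,82]),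
    (30,3,[244,256,213,82]), (12,1,[83,353,356]), (61,2,[71,243,391,386,349]), (14,3,[373,374,84]),
    (16,3,[392,83,84]), (34,0,[85,231,383,81,84]), (38,5,[297,298,213,84,401]), (50,2,[355,361,366,294,84]),
    (10,1,[405,85,86]), (11,2,[399,85,86]), (22,2,[318,403,85,86]), (24,2,[395,397,85,86]),
    (15,2,[376,273,88]), (19,2,[35,32,88]), (30,2,[71,200,32,88]), (3,2,[416,217,90]), (17,1,[59,215,90]),
    (23,4,[373,415,416,90]), (35,3,[366,363,371,415,421]), (5,0,[416,216,92]), (6,2,[91,217,92]),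
    (29,2,[412,419,416,92]), (54,3,[378,367,427,91,92]), (9,2,[95,217,94]), (11,0,[427,91,94]),
    (22,4,[315,61,215,94]), (27,3,[383,435,93,94]), (30,3,[318,33,34,94]), (13,3,[427,91,96]),
    (16,3,[443,95,96]), (37,4,[386,371,415,416,96]), (55,3,[218,72,427,91,96]), (11,2,[449,97,98]),
    (22,2,[224,453,97,98]), (32,0,[371,415,416,216,98]), (33,3,[415,416,217,217,98]), (2,1,[260,100]),
    (3,1,[101,220,100]), (4,1,[101,222,100]), (7,2,[77,258,102]), (8,0,[368,278,102]), (15,0,[71,227,102]),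
    (20,2,[232,263,102]), (31,2,[376,270,263,102]), (44,5,[451,446,368,278,102]), (47,5,[310,72,368,278,102]),
    (7,2,[410,320,104]), (15,0,[480,314,104]), (20,2,[45,42,104]), (63,2,[89,325,445,440,104]),
    (43,1,[105,321,411,433,428]), (3,0,[408,239,106]), (5,2,[486,238,106]), (23,0,[435,432,408,106]),
    (8,2,[75,247,108]), (15,2,[57,254,108]), (59,0,[432,408,234,251,108]), (64,3,[79,208,76,359,108]),
    (4,2,[71,265,110]), (17,2,[440,274,110]), (26,2,[486,236,267,110]), (9,2,[448,293,112]),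
    (9,0,[83,295,112]), (11,0,[496,378,112]), (22,4,[516,496,384,112]), (13,3,[496,378,114]),
    (21,3,[473,470,366,114]), (36,4,[510,495,496,378,114]), (22,4,[115,501,504,477]), (4,2,[109,313,116]),
    (7,0,[75,311,116]), (17,2,[402,307,116]), (23,3,[374,86,406,118]), (23,0,[484,478,386,118]),
    (32,4,[536,495,492,406,118]), (45,1,[503,504,370,118,539]), (14,0,[425,426,120]),
    (24,3,[474,443,438,120]), (26,4,[496,384,367,120]), (35,0,[542,499,500,367,120]), (9,2,[123,381,122]),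
    (11,0,[115,379,122]), (12,3,[516,496,122]), (22,4,[552,115,385,122])]

def cKR : List (ℕ × List ℕ) :=
    [(0,[125,127,126,0]), (1,[137,149,143,1]), (2,[12,142,151,14]), (3,[181,150,148,20]),
    (4,[157,185,167,163]), (5,[28,193,179,30]), (6,[38,197,177,40]), (7,[13,166,187,48]),
    (8,[249,176,195,15]), (9,[58,178,191,215]), (10,[180,186,184,64]), (11,[331,190,192,21]),
    (12,[317,194,196,237]), (13,[243,329,265,68]), (14,[219,311,247,72]), (15,[29,277,258,76]),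
    (16,[353,295,231,31]), (17,[307,339,297,403]), (18,[90,216,217,214]), (19,[218,261,100,453]),
    (20,[39,259,279,457]), (21,[455,230,293,41]), (22,[274,321,287,441]), (23,[409,239,238,236]),
    (24,[242,463,260,389]), (25,[248,246,313,49]), (26,[275,264,327,110]), (27,[281,278,276,285]),
    (28,[289,286,323,345]), (29,[379,292,294,385]), (30,[59,296,341,423]), (31,[306,312,310,116]),
    (32,[316,322,320,411]), (33,[330,326,328,65]), (34,[343,340,338,344]), (35,[387,459,371,69]),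
    (36,[395,523,507,347]), (37,[447,471,360,73]), (38,[394,531,499,351]), (39,[352,361,469,77]),
    (40,[535,370,461,505]), (41,[378,380,381,384]), (42,[386,515,451,388]), (43,[533,401,400,402]),
    (44,[408,493,483,410]), (45,[490,429,421,489]), (46,[91,420,431,422]), (47,[503,430,428,541]),
    (48,[509,436,437,440]), (49,[446,450,513,452]), (50,[454,460,458,456]), (51,[465,101,462,467]),
    (52,[545,468,470,526]), (53,[491,482,495,488]), (54,[521,494,492,547]), (55,[502,498,529,504]),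
    (56,[508,506,525,111]), (57,[555,512,514,519]), (58,[520,524,522,527]), (59,[532,528,530,117]),
    (60,[534,538,539,540]), (61,[544,549,548,546]), (62,[554,550,551,557])]

theorem cKC : check (inv tU) cKW [1,2,3,5,6,7,10,11] [1,2,3,4] cKF cKS cKR = true := by decide +kernel

def cLW : List (List ℕ) :=
    [[3,3,3], [3,1,2,6], [3,6,2,5], [3,5,2,1], [3,7,2,7], [11,11,11,11], [11,11,1,7], [11,11,7,1],
    [11,1,10,1], [11,6,10,5], [11,7,10,7], [1,7,1,7], [6,7,6,7], [5,7,5,7], [3,6,10,3,10], [11,11,6,1,6],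
    [11,11,5,1,5], [11,1,6,11,5], [11,5,10,6,7], [1,5,1,5,7], [6,5,6,5,7], [3,3,11,6,2,11], [3,3,11,2,11,6],
    [3,3,11,2,5,11], [3,3,1,2,2,5], [3,3,5,2,2,6], [3,11,3,6,5,10], [3,11,3,10,6,5], [3,11,5,3,5,10],
    [3,1,2,10,5,11], [3,5,2,10,10,7], [3,5,7,2,1,7], [3,10,10,7,2,6], [11,6,5,6,10,6]]

def cLF : Tr :=
    (.node (.node (.node (.node (.node (.node (.node (.node .leaf 31 10 27 .leaf) 18 2 12 .leaf) 0 3 0 (.node
    .leaf 26 11 22 .leaf)) 2 11 16 (.node (.node .leaf 23 10 12 .leaf) 7 7 12 (.node .leaf 29 5 16 .leaf))) 1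
    6 8 (.node (.node (.node .leaf 20 5 5 .leaf) 10 1 5 (.node .leaf 28 6 22 .leaf)) 6 3 24 (.node (.node
    .leaf 24 10 13 .leaf) 16 11 7 (.node .leaf 30 11 12 .leaf)))) 0 7 4 (.node (.node (.node (.node .leaf 19 3
    9 .leaf) 4 2 4 (.node .leaf 27 1 18 .leaf)) 3 10 20 (.node (.node .leaf 23 2 23 .leaf) 14 5 4 (.node .leaf
    30 2 11 .leaf))) 2 1 12 (.node (.node (.node .leaf 21 5 10 .leaf) 11 1 6 (.node .leaf 28 5 11 .leaf)) 10 2
    28 (.node (.node .leaf 25 10 19 .leaf) 17 3 7 (.node .leaf 31 1 29 .leaf))))) 0 5 2 (.node (.node (.node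
    (.node (.node .leaf 18 7 13 .leaf) 3 3 1 (.node .leaf 26 2 26 .leaf)) 3 5 18 (.node (.node .leaf 23 1 16
    .leaf) 14 2 9 (.node .leaf 29 10 18 .leaf))) 1 10 10 (.node (.node (.node .leaf 20 10 8 .leaf) 10 10 4
    (.node .leaf 28 7 20 .leaf)) 7 6 26 (.node (.node .leaf 25 7 21 .leaf) 16 2 5 (.node .leaf 31 6 20
    .leaf)))) 0 11 6 (.node (.node (.node (.node .leaf 19 6 4 .leaf) 9 1 4 (.node .leaf 27 6 12 .leaf)) 5 2 22
    (.node (.node .leaf 24 3 20 .leaf) 15 3 15 (.node .leaf 30 7 16 .leaf))) 2 7 14 (.node (.node (.node .leaf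
    22 11 18 .leaf) 12 2 8 (.node .leaf 29 3 28 .leaf)) 10 6 30 (.node (.node .leaf 25 6 24 .leaf) 17 7 8
    (.node .leaf 31 11 13 .leaf)))))) 0 1 1 (.node (.node (.node (.node (.node (.node .leaf 18 6 14 .leaf) 2 2
    1 (.node .leaf 26 5 17 .leaf)) 3 1 17 (.node (.node .leaf 23 7 15 .leaf) 13 2 7 (.node .leaf 29 7 24
    .leaf))) 1 7 9 (.node (.node (.node .leaf 20 3 6 .leaf) 10 7 6 (.node .leaf 28 1 21 .leaf)) 6 5 25 (.node
    (.node .leaf 25 11 17 .leaf) 16 6 6 (.node .leaf 30 5 24 .leaf)))) 0 10 5 (.node (.node (.node (.node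
    .leaf 19 1 8 .leaf) 9 11 5 (.node .leaf 27 10 24 .leaf)) 3 11 21 (.node (.node .leaf 23 5 22 .leaf) 15 6
    11 (.node .leaf 30 10 14 .leaf))) 2 6 13 (.node (.node (.node .leaf 21 2 21 .leaf) 11 7 5 (.node .leaf 28
    10 17 .leaf)) 10 3 29 (.node (.node .leaf 25 3 25 .leaf) 17 6 9 (.node .leaf 31 7 22 .leaf))))) 0 6 3
    (.node (.node (.node (.node (.node .leaf 19 2 14 .leaf) 3 2 2 (.node .leaf 27 7 26 .leaf)) 3 7 19 (.node
    (.node .leaf 23 11 14 .leaf) 14 1 7 (.node .leaf 29 11 26 .leaf))) 1 11 11 (.node (.node (.node .leaf 21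
    11 8 .leaf) 11 11 4 (.node .leaf 28 11 19 .leaf)) 8 5 27 (.node (.node .leaf 25 1 20 .leaf) 17 2 13 (.node
    .leaf 31 5 15 .leaf)))) 1 5 7 (.node (.node (.node (.node .leaf 19 5 13 .leaf) 6 11 9 (.node .leaf 27 3 27
    .leaf)) 5 6 23 (.node (.node .leaf 24 1 22 .leaf) 15 10 7 (.node .leaf 30 1 15 .leaf))) 2 10 15 (.node
    (.node (.node .leaf 16 3 22 .leaf) 12 5 9 (.node .leaf 29 6 21 .leaf)) 11 2 31 (.node (.node .leaf 26 1 13
    .leaf) 18 3 8 (.node .leaf 31 2 30 .leaf)))))))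

def cLS : List (ℕ × ℕ × List ℕ) :=
    [(0,0,[]), (0,0,[]), (0,0,[]), (0,0,[]), (0,0,[]), (0,0,[]), (0,0,[]), (0,0,[]), (0,0,[]), (0,0,[]),
    (0,0,[]), (0,0,[]), (0,0,[]), (0,0,[]), (0,0,[]), (0,0,[]), (0,0,[]), (0,0,[]), (0,0,[]), (0,0,[]),
    (0,0,[]), (0,0,[]), (0,0,[]), (0,0,[]), (0,0,[]), (0,0,[]), (0,0,[]), (0,0,[]), (0,0,[]), (0,0,[]),
    (0,0,[]), (1,0,[]), (5,2,[1,62,2]), (3,0,[1,63,4]), (4,2,[3,62,4]), (6,2,[7,62,6]), (8,0,[9,0,16]),
    (13,2,[7,0,16]), (9,1,[17,1,10]), (10,3,[9,0,18]), (12,3,[76,17,18]), (32,4,[7,62,2,64,18]),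
    (7,1,[83,19,20]), (8,2,[81,19,20]), (9,2,[79,19,20]), (3,2,[15,65,22]), (18,4,[72,9,2,22]),
    (21,4,[23,3,0,12]), (4,2,[13,65,24]), (6,2,[17,65,26]), (13,2,[94,23,26]), (15,2,[7,2,26]),
    (20,3,[88,9,2,28]), (28,0,[29,69,5,2,28]), (34,2,[94,90,15,65,28]), (7,1,[109,29,30]), (11,1,[11,2,30]),
    (24,3,[9,4,66,65,30]), (3,2,[25,69,32]), (5,0,[13,67,32]), (17,4,[72,9,4,32]), (33,5,[91,92,17,67,32]),
    (4,0,[15,67,34]), (5,2,[23,69,34]), (22,2,[102,7,4,34]), (22,4,[25,3,4,34]), (6,2,[27,69,36]),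
    (6,0,[17,67,36]), (13,2,[123,33,36]), (14,2,[7,4,36]), (15,2,[131,35,36]), (11,3,[9,4,38]),
    (16,3,[11,62,4,38]), (32,4,[123,118,13,67,38]), (7,1,[147,39,40]), (18,2,[78,143,39,40]),
    (24,3,[148,15,65,69,40]), (24,4,[128,133,134,72,42]), (2,2,[43,115]), (11,2,[92,72,44]),
    (14,1,[104,88,44]), (17,3,[112,76,72,44]), (19,3,[102,83,78,44]), (23,4,[164,133,134,72,44]),
    (27,2,[157,114,44,167,167]), (2,1,[144,46]), (3,1,[157,112,46]), (16,4,[117,120,77,46]),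
    (11,0,[120,77,48]), (15,1,[150,80,48]), (18,3,[142,9,10,48]), (20,2,[138,7,10,48]),
    (29,0,[176,118,111,112,48]), (35,3,[174,25,30,112,48]), (17,3,[25,30,110,50]), (17,0,[154,128,100,50]),
    (22,1,[120,93,95,50]), (23,4,[190,43,115,110,50]), (15,1,[192,122,52]), (18,3,[35,40,148,52]),
    (20,2,[187,178,148,52]), (22,2,[92,17,14,52]), (30,3,[53,149,153,148,52]), (3,3,[43,79,54]),
    (5,3,[153,150,54]), (6,3,[144,81,54]), (24,4,[138,71,71,83,54]), (25,4,[84,71,71,83,54]),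
    (31,3,[193,190,43,79,54]), (2,1,[55,56]), (4,1,[152,150,56]), (5,1,[114,79,56]), (6,1,[47,81,56]),
    (16,4,[124,15,18,56]), (23,2,[51,119,217,55,56]), (4,2,[215,55,58]), (11,2,[102,83,58]),
    (14,1,[112,81,58]), (17,3,[104,84,83,58]), (17,0,[159,45,79,58]), (22,1,[187,49,81,58]),
    (3,3,[144,87,60]), (4,3,[106,104,60]), (5,3,[218,214,60]), (6,3,[43,89,60]), (23,5,[117,118,109,104,60]),
    (26,4,[240,170,144,87,60]), (31,3,[53,147,144,87,60])]

def cLR : List (ℕ × List ℕ) :=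
    [(0,[0,63,62,2,4,6,8,10]), (1,[1,67,65,12,14,16,18,20]), (2,[22,64,69,3,24,26,28,30]),
    (3,[32,68,66,34,5,36,38,40]), (4,[75,70,71,103,139,7,85,83]), (5,[79,42,115,143,44,89,73,9]),
    (6,[87,145,46,48,113,81,11,76]), (7,[101,119,97,13,50,94,111,109]), (8,[137,125,91,52,15,123,149,147]),
    (9,[74,135,99,93,121,17,77,72]), (10,[78,54,56,151,58,80,82,19]), (11,[86,60,231,215,105,88,21,84]),
    (12,[23,90,127,92,203,95,239,159]), (13,[189,96,117,141,25,131,251,175]),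
    (14,[100,98,133,102,129,27,165,233]), (15,[237,107,106,245,104,161,108,29]),
    (16,[163,114,156,223,112,235,31,110]), (17,[33,116,118,193,120,122,177,217]),
    (18,[199,126,124,35,128,130,155,227]), (19,[136,132,134,140,138,37,213,183]),
    (20,[181,171,144,142,243,211,146,39]), (21,[209,152,153,150,221,179,41,148]),
    (22,[173,157,43,169,207,249,191,154]), (23,[162,166,167,168,45,160,158,164]),
    (24,[172,47,170,241,187,225,174,201]), (25,[180,185,184,49,186,178,182,176]),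
    (26,[188,194,195,192,51,197,229,190]), (27,[198,205,204,53,202,196,200,255]),
    (28,[208,219,55,214,206,210,216,212]), (29,[247,57,218,222,220,224,226,228]),
    (30,[236,230,253,240,59,234,232,238]), (31,[246,252,61,244,242,248,254,250])]

theorem cLC : check (inv tU) cLW [2,3] [1,2,3,5,6,7,10,11] cLF cLS cLR = true := by decide +kernel

def cMW : List (List ℕ) :=
    [[3,3,3]]

def cMF : Tr :=
    (.node (.node .leaf 0 3 2 .leaf) 0 2 1 (.node .leaf 2 3 1 .leaf))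

def cMS : List (ℕ × ℕ × List ℕ) :=
    [(0,0,[]), (0,0,[]), (2,1,[1,2])]

def cMR : List (ℕ × List ℕ) :=
    [(0,[0,2]), (1,[5,1]), (2,[3,4])]

theorem cMC : check (inv tU) cMW [] [2,3] cMF cMS cMR = true := by decide +kernel

instance factSq : Fact (∀ r : ZMod 3, r ^ 2 ≠ -1 + 0 * r) := ⟨by decide⟩

/-- The field with nine elements. -/
abbrev K9 : Type := QuadraticAlgebra (ZMod 3) (-1) 0

instance fintypeK9 : Fintype K9 := Fintype.ofEquiv _ (QuadraticAlgebra.equivProd (-1) 0).symm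

theorem card_K9 : Fintype.card K9 = 3 ^ 2 := by rw [Fintype.ofEquiv_card]; rfl

/-- An element of `SU₃(3)`. -/
def mkU (A : Matrix (Fin 3) (Fin 3) K9)
    (h1 : A 0 0 * A 1 1 * A 2 2 - A 0 0 * A 1 2 * A 2 1 - A 0 1 * A 1 0 * A 2 2 +
      A 0 1 * A 1 2 * A 2 0 + A 0 2 * A 1 0 * A 2 1 - A 0 2 * A 1 1 * A 2 0 = 1)
    (h2 : ∀ i j, ∑ k, A k i * A k j ^ 3 = if i = j then 1 else 0) : SU 3 K9 3 :=
  ⟨⟨A, (Matrix.det_fin_three A).trans h1⟩, SUBasic.mem_SU_of card_K9 _ h2⟩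

def u1 : SU 3 K9 3 := mkU !![⟨2, 0⟩, ⟨0, 0⟩, ⟨0, 0⟩; ⟨0, 0⟩, ⟨0, 0⟩, ⟨0, 1⟩; ⟨0, 0⟩, ⟨0, 2⟩, ⟨0, 0⟩] (by decide +kernel) (by decide +kernel)
def u2 : SU 3 K9 3 := mkU !![⟨1, 0⟩, ⟨0, 0⟩, ⟨0, 0⟩; ⟨0, 0⟩, ⟨1, 1⟩, ⟨1, 1⟩; ⟨0, 0⟩, ⟨2, 1⟩, ⟨1, 2⟩] (by decide +kernel) (by decide +kernel)
def u3 : SU 3 K9 3 := mkU !![⟨1, 0⟩, ⟨0, 0⟩, ⟨0, 0⟩; ⟨0, 0⟩, ⟨1, 2⟩, ⟨2, 2⟩; ⟨0, 0⟩, ⟨1, 2⟩, ⟨1, 1⟩] (by decide +kernel) (by decide +kernel)
def u4 : SU 3 K9 3 := mkU !![⟨0, 0⟩, ⟨1, 1⟩, ⟨1, 2⟩; ⟨1, 2⟩, ⟨1, 0⟩, ⟨0, 1⟩; ⟨1, 1⟩, ⟨0, 2⟩, ⟨1, 0⟩] (by decide +kernel) (by decide +kernel)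
def u5 : SU 3 K9 3 := mkU !![⟨2, 0⟩, ⟨0, 0⟩, ⟨0, 0⟩; ⟨0, 0⟩, ⟨0, 0⟩, ⟨2, 0⟩; ⟨0, 0⟩, ⟨2, 0⟩, ⟨0, 0⟩] (by decide +kernel) (by decide +kernel)
def u6 : SU 3 K9 3 := mkU !![⟨2, 0⟩, ⟨0, 0⟩, ⟨0, 0⟩; ⟨0, 0⟩, ⟨2, 0⟩, ⟨0, 0⟩; ⟨0, 0⟩, ⟨0, 0⟩, ⟨1, 0⟩] (by decide +kernel) (by decide +kernel)
def u7 : SU 3 K9 3 := mkU !![⟨1, 0⟩, ⟨0, 0⟩, ⟨0, 0⟩; ⟨0, 0⟩, ⟨2, 0⟩, ⟨0, 0⟩; ⟨0, 0⟩, ⟨0, 0⟩, ⟨2, 0⟩] (by decide +kernel) (by decide +kernel)
def u8 : SU 3 K9 3 := mkU !![⟨0, 0⟩, ⟨2, 1⟩, ⟨2, 1⟩; ⟨2, 2⟩, ⟨1, 0⟩, ⟨2, 0⟩; ⟨2, 2⟩, ⟨2, 0⟩, ⟨1, 0⟩] (by decide +kernel) (by decide +kernel)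
def u9 : SU 3 K9 3 := mkU !![⟨0, 0⟩, ⟨0, 1⟩, ⟨0, 0⟩; ⟨0, 2⟩, ⟨0, 0⟩, ⟨0, 0⟩; ⟨0, 0⟩, ⟨0, 0⟩, ⟨2, 0⟩] (by decide +kernel) (by decide +kernel)
def u10 : SU 3 K9 3 := mkU !![⟨0, 1⟩, ⟨0, 0⟩, ⟨0, 0⟩; ⟨0, 0⟩, ⟨2, 1⟩, ⟨2, 1⟩; ⟨0, 0⟩, ⟨1, 2⟩, ⟨2, 1⟩] (by decide +kernel) (by decide +kernel)
def u11 : SU 3 K9 3 := mkU !![⟨0, 2⟩, ⟨0, 0⟩, ⟨0, 0⟩; ⟨0, 0⟩, ⟨2, 2⟩, ⟨1, 1⟩; ⟨0, 0⟩, ⟨2, 2⟩, ⟨2, 2⟩] (by decide +kernel) (by decide +kernel)

/-- The letters in `SU₃(3)`. -/
def lU : List (SU 3 K9 3) := [u1, u2, u3, u4, u5, u6, u7, u8, u9, u10, u11]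

theorem rel_lU : Rel lU rU := by decide +kernel

theorem card_SU : Nat.card (SU 3 K9 3) = 6048 := by
  have := SUBasic.card_SU card_K9 (n := 3) (by decide)
  rw [show (3 ^ (3 * (3 - 1) / 2) * ∏ i ∈ Finset.range 3, FormOrder.uf 3 i : ℕ) = 24192 by decide] at this
  omega

variable {G : Type*} [Group G]

theorem card_le {l : List G} (hl : l.length = 11) (h : Rel l rU) :
    Finite (sub l [1,2,3,4]) ∧ Nat.card (sub l [1,2,3,4]) ≤ 6048 := by
  have hi : Rel l (invRels tU) := h.mono (by decide +kernel)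
  exact TCList.card_le (t := tU) hl hi (h.mono (by decide +kernel)) (by decide) cKC
    (TCList.card_le (t := tU) hl hi (h.mono (by decide +kernel)) (by decide) cLC
      (TCList.card_le (t := tU) hl hi (h.mono (by decide +kernel)) (by decide) cMC (card_nil _)))

theorem index_le [Finite G] {z c : G} {φ : Hm false →* G} (J : JS z φ c)
    (hu : ¬ IsConj z (φ (mu false))) {K : Subgroup G} (ha : φ (ma false) ∈ K)
    (hp : φ (Hm.of false 32) ∈ K) (hc : c ∈ K) : 6048 ≤ Nat.card K := by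
  have hG := card_eq_of J hu
  have h1 : TCList.Rel (lg φ c) rH2 := Rel.append_list _ (Rel.map φ (by decide +kernel)) (by
    rw [List.length_map]; decide +kernel)
  have ha' : ma false ∈ K.comap φ := ha
  have hp' : Hm.of false 32 ∈ K.comap φ := hp
  have h2 := card_closure_le (gen := gen (lg φ c)) (H := K) rfl
    (gen_inv (t := tG) rfl ((rel_base (jr J)).mono (by decide +kernel)))
    ((h1.append (rel_one (jr J) (w := [13]) (w' := [13]) (by decide) (by decide +kernel)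
      (by rw [ev_cons, ev_nil, mul_one]; exact comm_w J hG.le))).mono (by decide +kernel))
    (by
      simp only [List.forall_mem_cons]
      refine ⟨ha, ?_, hp, ?_, hc, by simp⟩
      · exact ((show (ma false * (Hm.of false 32 * ma false * (Hm.of false 32)⁻¹)) ^ 2 =
          Hm.of false 16 by decide +kernel) ▸ pow_mem (mul_mem ha' (mul_mem (mul_mem hp' ha')
            (inv_mem hp'))) 2 : _ ∈ K.comap φ)
      · exact ((show (Hm.of false 32)⁻¹ = Hm.of false 64 by decide +kernel) ▸ inv_mem hp' :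
          _ ∈ K.comap φ)) (by decide) cIC
  have h3 : ⊤ ≤ sub (lg φ c) [1,4,5,6,7,8,9,15] := by
    rw [← sup_eq_top J hu]
    refine sup_le ?_ (zpowers_le.mpr (gen_mem (i := 15) (by decide)))
    rw [MonoidHom.range_eq_map, ← gen_lm, map_le_iff_le_comap]
    refine sub_le fun i hi => ?_
    rw [mem_comap, ← gen_map, ← gen_append [c, φ ms * c * φ ms]
      ((show ∀ i ∈ [1,4,5,6,7,8,9], i ≤ 14 by decide) i hi)]
    exact gen_mem (List.mem_append_left [15] hi)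
  have h4 := (card_le_of_le h3).trans h2.2
  rw [card_top, hG, show cIR.length = 100 by decide +kernel] at h4
  omega

theorem card_modEq [Finite G] (N : Subgroup G) [N.Normal] {g : G} {p : ℕ} [Fact p.Prime]
    (hg : g ^ p = 1) (h : ∀ k ∈ N, Commute g k → k = 1) : Nat.card N ≡ 1 [MOD p] := by
  classical
  have := Fintype.ofFinite N
  have h1 := Equiv.Perm.card_fixedPoints_modEq (p := p) (n := 1)
    (f := (MulAction.toEndHom (M := MulAut N) (α := N)).comp MulAut.conjNormal g)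
    (by rw [pow_one, ← map_pow, hg, map_one])
  have h2 : Fintype.card (Function.fixedPoints
      ((MulAction.toEndHom (M := MulAut N) (α := N)).comp MulAut.conjNormal g)) = 1 :=
    Fintype.card_eq_one_iff.mpr ⟨⟨1, map_one (MulAut.conjNormal g : MulAut N)⟩, fun x =>
      Subtype.ext (Subtype.ext (h _ x.1.2 (mul_inv_eq_iff_eq_mul.mp (congrArg Subtype.val x.2))))⟩
  rw [Nat.card_eq_fintype_card, ← h2]
  convert h1

theorem exists_equiv [Finite G] {z c : G} {φ : Hm false →* G} (J : JS z φ c)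
    (hu : ¬ IsConj z (φ (mu false))) : ∃ K : Subgroup G, Nonempty (K ≃* PSU 3 K9 3) := by
  obtain ⟨f, h1, h2⟩ := exists_perm J hu
  have M : PM f :=
    ⟨h1, card_eq_of J hu, fun _ => card_cent_dvd J hu, (mem_range h2).1, (mem_range h2).2⟩
  let l := wK.map (ev (lJ φ c))
  have h3 : l.map f = wK.map (ev (lP ++ [q13])) := by
    rw [List.map_map, ← h2]
    exact List.map_congr_left fun w _ => (ev_map f _ w).symm
  have h4 : TCList.Rel l rU := fun r hr => h1 (by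
    rw [← ev_map, h3, map_one]
    exact (show TCList.Rel (wK.map (ev (lP ++ [q13]))) rU by decide +kernel) r hr)
  let K := sub l [1,2,3,4]
  have h5 : Nat.card K = 6048 := le_antisymm (card_le rfl h4).2 (index_le J hu
    (mul_one (φ (ma false)) ▸ gen_mem (i := 1) (by decide))
    (mul_one (φ (Hm.of false 32)) ▸ gen_mem (i := 2) (by decide))
    (mul_one c ▸ gen_mem (i := 4) (by decide)))
  let Γ := sub (l.zip lU) [1,2,3,4]
  have hl : l.length = lU.length := rfl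
  obtain ⟨h6, h7⟩ := card_le (l := l.zip lU) rfl (Rel.zip hl h4 rel_lU)
  have h8 : ∀ g : Γ, g.1.1 ∈ K := fun g => (sub_le (K := K.comap (MonoidHom.fst G (SU 3 K9 3))) fun i hi => by
    rw [mem_comap, gen_zip hl]; exact gen_mem hi) g.2
  let π : Γ →* K := ((MonoidHom.fst _ _).comp Γ.subtype).codRestrict K h8
  have h9 : Function.Surjective π := fun k => by
    obtain ⟨g, hg, h⟩ := (sub_le (K := Γ.map (MonoidHom.fst _ _)) fun i hi =>
      ⟨_, gen_mem hi, by rw [gen_zip hl]; rfl⟩) k.2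
    exact ⟨⟨g, hg⟩, Subtype.ext h⟩
  let e := MulEquiv.ofBijective π (h9.bijective_of_nat_card_le (h5 ▸ h7))
  let ρ : K →* SU 3 K9 3 := ((MonoidHom.snd _ _).comp Γ.subtype).comp e.symm.toMonoidHom
  have h10 : ∀ w, (∀ i ∈ w, i ∈ [1,2,3,4]) → ∃ k : K, k.1 = ev l w ∧ ρ k = ev lU w := fun w hw => by
    have h11 : ev (l.zip lU) w ∈ Γ := ev_mem fun i hi => gen_mem (hw i hi)
    refine ⟨π ⟨_, h11⟩, ?_, ?_⟩
    · change MonoidHom.fst _ _ (ev (l.zip lU) w) = _
      rw [← ev_map]; exact congrArg (ev · w) (List.map_fst_zip hl.le)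
    · rw [show ρ (π ⟨_, h11⟩) = MonoidHom.snd _ _ (ev (l.zip lU) w) from
        congrArg (·.1.2) (e.symm_apply_apply ⟨_, h11⟩), ← ev_map]
      exact congrArg (ev · w) (List.map_snd_zip hl.ge)
  obtain ⟨g, hg1, hg2⟩ := h10 [1,2,4,2] (by decide)
  have hg7 : g ^ 7 = 1 := Subtype.ext (h1 (by
    rw [coe_pow, map_pow, hg1, ← ev_map, h3, coe_one, map_one]; decide +kernel))
  have hgne : ρ g ≠ 1 := by rw [hg2]; decide +kernel
  have h11 : ∀ k : K, Commute g k → ¬ 7 ∣ orderOf k → k = 1 := fun k h12 h13 => by_contra fun h14 =>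
    hgne (by
      rw [show g = 1 from Subtype.ext (M.seven_comm (g := g.1) (h := k.1) (n := orderOf k)
        (congrArg Subtype.val h12) (congrArg Subtype.val hg7)
        (congrArg Subtype.val (pow_orderOf_eq_one k))
        ((by norm_num : Nat.Prime 7).coprime_iff_not_dvd.mpr h13).symm
        fun h => h14 (Subtype.ext h)), map_one])
  have h12 : Nat.card ρ.ker * Nat.card ρ.range = 6048 := by
    rw [← index_ker, card_mul_index, h5]
  have h13 : 504 ∣ Nat.card ρ.range := by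
    have := Fact.mk (by norm_num : Nat.Prime 7)
    have hr : ∀ w, (∀ i ∈ w, i ∈ [1,2,3,4]) → ev lU w ∈ ρ.range := fun w hw =>
      (h10 w hw).imp fun _ h => h.2
    refine Nat.Coprime.mul_dvd_of_dvd_of_dvd (m := 7) (n := 72) (by decide) ?_
      (Nat.Coprime.mul_dvd_of_dvd_of_dvd (m := 8) (n := 3 * 3) (by decide) ?_ ?_)
    · exact orderOf_eq_prime (by rw [← map_pow, hg7, map_one]) hgne ▸
        ρ.range.orderOf_dvd_natCard ⟨g, rfl⟩
    · have h14 : orderOf (ev lU [1,2,1,2,4,2]) = 8 :=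
        orderOf_eq_prime_pow (p := 2) (n := 2) (by decide +kernel) (by decide +kernel)
      exact h14 ▸ ρ.range.orderOf_dvd_natCard (hr _ (by decide))
    · exact sq_dvd (MonoidHom.id _) 3 (a := ev lU [2]) (b := ev lU [1,2,1,2,1,4,3,4,3,4]) (by decide +kernel)
        (by decide +kernel) (by unfold Commute SemiconjBy; decide +kernel)
        (by decide +kernel) (hr _ (by decide)) (hr _ (by decide))
  have h14 : Nat.card ρ.ker = 1 := by
    have := Fact.mk (by norm_num : Nat.Prime 7)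
    obtain ⟨j, hj⟩ := h13
    have h15 : Nat.card ρ.ker ∣ 12 := ⟨j, by rw [hj] at h12; linarith⟩
    have h16 := card_modEq ρ.ker hg7 fun k hk h => h11 k h fun h => absurd
      ((h.trans (ρ.ker.orderOf_dvd_natCard hk)).trans h15) (by decide)
    have := Nat.le_of_dvd (by decide) h15
    unfold Nat.ModEq at h16
    generalize Nat.card ρ.ker = n at *
    interval_cases n <;> omega
  let e' := MulEquiv.ofBijective ρ (((MonoidHom.ker_eq_bot_iff ρ).mp
    (card_eq_one.mp h14)).bijective_of_nat_card_le (by rw [card_SU, h5]))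
  have h15 : center K = ⊥ := by
    rw [eq_bot_iff]
    intro k hk
    refine h11 k (mem_center_iff.mp hk g) fun h => ?_
    obtain ⟨a, ha, -⟩ := h10 [1] (by decide)
    refine absurd (((h.trans (orderOf_coe k).symm.dvd).trans ((centralizer {a.1}).orderOf_dvd_natCard
      (mem_centralizer_singleton_iff.mpr (congrArg Subtype.val (mem_center_iff.mp hk a)).symm))).trans
        (M.cent a.1 (h1 ?_) fun h => absurd (congrArg f h) ?_)) (by decide)
    · rw [map_mul, ha, ← ev_map, h3, map_one]; decide +kernel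
    · rw [ha, ← ev_map, h3, map_one]; decide +kernel
  exact ⟨K, ⟨(QuotientGroup.quotientBot.symm.trans (QuotientGroup.quotientMulEquivOfEq h15.symm)).trans
    (GF4.quotCenterCongr e')⟩⟩

end Cfsg.Agent.Lib.HJ2U33
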