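import Cfsg.Agent.Lib.HJ3Fin
import Cfsg.Agent.Lib.LinearOrders

/-! The subgroup `SL₂(16) : 2` of `J₃`. -/

set_option autoImplicit false
set_option maxRecDepth 100000

namespace Cfsg.Agent.Lib.HJ3L16

open Subgroup Matrix Cfsg.Agent.Lib.SmallTC Cfsg.Agent.Lib.TCList Cfsg.Agent.Lib.HJ3Mat
  Cfsg.Agent.Lib.GF4

/-- Inverse letters. -/
def tL : List ℕ := [2,1,3,4,5,6,7]

def cAW : List (List ℕ) :=
    [[1,1,1,1,1,1,1,1,1,1,1,1,1,1,1]]

def cAF : Tr :=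
    (.node (.node (.node (.node .leaf 6 2 8 .leaf) 2 2 4 (.node .leaf 10 2 12 .leaf)) 0 2 2 (.node (.node
    .leaf 8 2 10 .leaf) 4 2 6 (.node .leaf 12 2 14 .leaf))) 0 1 1 (.node (.node (.node .leaf 7 1 9 .leaf) 3 1
    5 (.node .leaf 11 1 13 .leaf)) 1 1 3 (.node (.node .leaf 9 1 11 .leaf) 5 1 7 (.node .leaf 13 1 14
    .leaf))))

def cAS : List (ℕ × ℕ × List ℕ) :=
    [(0,0,[]), (0,0,[]), (0,0,[]), (0,0,[]), (0,0,[]), (0,0,[]), (0,0,[]), (0,0,[]), (0,0,[]), (0,0,[]),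
    (0,0,[]), (0,0,[]), (0,0,[]), (0,0,[]), (2,14,[27,23,19,15,11,7,3,0,4,8,12,16,20,24])]

def cAR : List (ℕ × List ℕ) :=
    [(0,[0,2]), (1,[4,1]), (2,[3,6]), (3,[8,5]), (4,[7,10]), (5,[12,9]), (6,[11,14]), (7,[16,13]),
    (8,[15,18]), (9,[20,17]), (10,[19,22]), (11,[24,21]), (12,[23,26]), (13,[28,25]), (14,[27,29])]

theorem cAC : check (inv tL) cAW [] [1,2] cAF cAS cAR = true := by decide +kernel

def cBW : List (List ℕ) :=
    [[1,3,2,4], [1,4,2,5], [1,5,2,6], [3,4,3,4], [3,5,3,5], [3,6,3,6], [4,5,4,5], [4,6,4,6], [1,5,6,2,3],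
    [1,4,2,3,5,3]]

def cBF : Tr :=
    (.node (.node (.node (.node (.node (.node .leaf 11 5 8 .leaf) 0 2 0 (.node .leaf 15 6 13 .leaf)) 1 6 8
    (.node (.node .leaf 13 4 7 .leaf) 8 1 4 .leaf)) 0 6 4 (.node (.node (.node .leaf 12 5 10 .leaf) 5 5 4
    .leaf) 5 4 12 (.node (.node .leaf 15 1 14 .leaf) 9 4 3 .leaf))) 0 4 2 (.node (.node (.node (.node .leaf 11
    1 10 .leaf) 3 1 2 .leaf) 2 6 10 (.node (.node .leaf 14 3 10 .leaf) 9 1 6 .leaf)) 1 4 6 (.node (.node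
    (.node .leaf 13 2 12 .leaf) 6 3 2 .leaf) 6 6 14 (.node (.node .leaf 15 3 12 .leaf) 10 4 4 .leaf)))) 0 3 1
    (.node (.node (.node (.node (.node .leaf 11 6 7 .leaf) 2 1 1 .leaf) 2 5 9 (.node (.node .leaf 14 1 8
    .leaf) 8 3 4 .leaf)) 1 1 5 (.node (.node (.node .leaf 12 6 9 .leaf) 3 6 5 .leaf) 6 5 13 (.node (.node
    .leaf 15 2 13 .leaf) 10 1 7 .leaf))) 0 5 3 (.node (.node (.node (.node .leaf 12 2 7 .leaf) 4 1 3 .leaf) 5
    3 11 (.node (.node .leaf 14 4 8 .leaf) 9 2 5 .leaf)) 1 5 7 (.node (.node (.node .leaf 13 3 9 .leaf) 7 3 3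
    .leaf) 11 4 15 (.node (.node .leaf 15 5 14 .leaf) 11 2 6 .leaf)))))

def cBS : List (ℕ × ℕ × List ℕ) :=
    [(0,0,[]), (0,0,[]), (0,0,[]), (0,0,[]), (0,0,[]), (0,0,[]), (0,0,[]), (0,0,[]), (0,0,[]), (0,0,[]),
    (0,0,[]), (0,0,[]), (0,0,[]), (0,0,[]), (0,0,[]), (1,0,[]), (2,0,[1,30,2]), (3,0,[3,30,4]),
    (4,0,[5,30,6]), (10,1,[7,30,0,8]), (10,2,[9,1,31,4]), (5,2,[3,0,10]), (6,2,[5,0,12]), (4,0,[39,9,14]),
    (7,2,[7,0,14]), (3,0,[11,33,16]), (4,2,[41,34,16]), (8,2,[5,2,16]), (4,0,[13,33,18]), (9,2,[7,2,18]),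
    (2,2,[11,8,20]), (6,1,[48,39,20]), (7,1,[44,40,20]), (11,0,[58,47,48,39,20]), (3,2,[13,8,22]),
    (8,1,[58,39,22]), (9,1,[54,40,22]), (4,2,[72,50,24]), (6,2,[17,43,24]), (8,2,[13,10,24]),
    (4,0,[63,60,26]), (7,2,[19,43,26]), (9,2,[15,10,26]), (2,0,[82,67,28]), (3,2,[25,61,28]),
    (5,2,[23,20,28]), (8,1,[84,63,28]), (9,1,[78,65,28])]

def cBR : List (ℕ × List ℕ) :=
    [(0,[31,30,0,2,4,6]), (1,[8,33,1,10,12,14]), (2,[32,35,43,3,16,18]), (3,[34,37,45,55,5,40]),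
    (4,[36,47,49,59,39,7]), (5,[53,9,20,22,38,41]), (6,[61,51,42,11,24,26]), (7,[69,57,44,79,13,65]),
    (8,[46,81,48,85,63,15]), (9,[50,52,77,54,17,73]), (10,[56,67,83,58,71,19]), (11,[66,60,21,28,62,64]),
    (12,[75,68,91,23,70,72]), (13,[89,74,76,78,25,95]), (14,[80,87,82,84,93,27]), (15,[86,88,90,29,92,94])]

theorem cBC : check (inv tL) cBW [1,2] [1,2,3,4,5,6] cBF cBS cBR = true := by decide +kernel

def cCW : List (List ℕ) :=
    [[1,3,2,4], [1,4,2,5], [1,5,2,6], [1,7,1,7], [3,4,3,4], [3,5,3,5], [3,6,3,6], [4,5,4,5], [4,6,4,6],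
    [1,5,6,2,3], [1,3,7,1,7,4], [1,4,2,3,5,3], [1,4,7,1,7,5], [1,5,7,1,7,6], [3,7,3,7,3,7]]

def cCF : Tr :=
    (.node (.node (.node (.node (.node (.node .leaf 9 1 5 .leaf) 8 7 16 (.node .leaf 13 6 10 .leaf)) 2 5 8
    (.node (.node .leaf 11 4 5 .leaf) 3 1 2 (.node .leaf 16 1 15 .leaf))) 1 5 4 (.node (.node (.node .leaf 10
    4 4 .leaf) 0 5 0 (.node .leaf 15 1 9 .leaf)) 6 3 12 (.node (.node .leaf 12 7 9 .leaf) 6 5 5 (.node .leaf
    14 1 16 .leaf)))) 1 3 2 (.node (.node (.node (.node .leaf 10 1 7 .leaf) 0 3 0 (.node .leaf 14 3 10 .leaf))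
    3 5 10 (.node (.node .leaf 12 5 9 .leaf) 5 1 4 (.node .leaf 16 5 15 .leaf))) 2 1 6 (.node (.node (.node
    .leaf 7 7 5 .leaf) 1 1 1 (.node .leaf 15 4 9 .leaf)) 7 5 14 (.node (.node .leaf 13 2 8 .leaf) 7 3 3 (.node
    .leaf 13 3 16 .leaf))))) 0 7 1 (.node (.node (.node (.node (.node .leaf 9 3 5 .leaf) 0 2 0 (.node .leaf 14
    2 13 .leaf)) 2 6 9 (.node (.node .leaf 12 2 7 .leaf) 4 1 3 (.node .leaf 16 4 12 .leaf))) 1 6 5 (.node
    (.node (.node .leaf 10 7 4 .leaf) 0 6 0 (.node .leaf 15 3 11 .leaf)) 6 4 13 (.node (.node .leaf 12 1 11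
    .leaf) 4 6 6 (.node .leaf 14 6 16 .leaf)))) 1 4 3 (.node (.node (.node (.node .leaf 10 2 6 .leaf) 0 4 0
    (.node .leaf 14 4 8 .leaf)) 3 6 11 (.node (.node .leaf 12 6 8 .leaf) 6 7 3 (.node .leaf 13 7 14 .leaf))) 2
    4 7 (.node (.node (.node .leaf 11 1 8 .leaf) 2 7 2 (.node .leaf 11 7 15 .leaf)) 7 6 15 (.node (.node .leaf
    13 5 11 .leaf) 8 3 4 .leaf)))))

def cCS : List (ℕ × ℕ × List ℕ) :=
    [(0,0,[]), (0,0,[]), (0,0,[]), (0,0,[]), (0,0,[]), (0,0,[]), (0,0,[]), (0,0,[]), (0,0,[]), (0,0,[]),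
    (0,0,[]), (0,0,[]), (0,0,[]), (0,0,[]), (0,0,[]), (0,0,[]), (1,0,[]), (1,0,[]), (1,0,[]), (1,0,[]),
    (1,0,[]), (5,2,[1,33,0]), (16,1,[3,1,34,0,2]), (2,0,[3,43,4]), (3,0,[5,43,6]), (4,0,[7,43,8]),
    (5,1,[46,44,10]), (11,1,[9,43,2,10]), (11,2,[11,3,42,6]), (6,2,[5,2,12]), (7,2,[7,2,14]),
    (4,0,[55,11,16]), (8,2,[9,2,16]), (3,0,[13,47,18]), (4,2,[57,48,18]), (9,2,[7,4,18]),
    (15,2,[48,53,57,48,18]), (14,2,[50,73,19,46,12]), (4,0,[15,47,20]), (10,2,[9,4,20]), (2,2,[13,10,22]),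
    (7,1,[64,55,22]), (8,1,[60,56,22]), (12,2,[62,75,13,10,22]), (13,0,[78,63,64,55,22]), (3,2,[15,10,24]),
    (9,1,[78,55,24]), (10,1,[70,56,24]), (4,2,[94,66,26]), (7,2,[19,59,26]), (9,2,[15,12,26]),
    (4,0,[83,80,28]), (8,2,[21,59,28]), (10,2,[17,12,28]), (15,4,[29,81,82,87,88]), (5,2,[109,76,30]),
    (12,5,[88,105,109,76,30]), (14,5,[102,107,109,76,30]), (14,4,[27,81,113,31,91]), (14,3,[31,15,10,24,116]),
    (15,5,[110,115,31,91,116]), (16,0,[31,60,73,99,117])]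

def cCR : List (ℕ × List ℕ) :=
    [(0,[33,32,35,37,39,41,0]), (1,[42,43,2,4,6,8,1]), (2,[10,47,3,12,14,16,45]), (3,[46,49,59,5,18,20,53]),
    (4,[48,51,61,71,7,56,73]), (5,[50,63,65,79,55,9,75]), (6,[69,11,22,24,54,57,52]),
    (7,[81,67,58,13,26,28,74]), (8,[91,77,60,101,15,85,30]), (9,[62,103,64,107,83,17,87]),
    (10,[66,68,99,70,19,95,72]), (11,[76,89,105,78,93,21,108]), (12,[88,80,23,113,82,84,86]),
    (13,[97,90,122,25,92,94,116]), (14,[118,96,98,100,27,120,117]), (15,[102,111,104,106,115,29,109]),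
    (16,[110,119,123,112,114,121,31])]

theorem cCC : check (inv tL) cCW [1,2,3,4,5,6] [1,2,3,4,5,6,7] cCF cCS cCR = true := by decide +kernel

instance factSq : Fact (∀ r : K4, r ^ 2 ≠ K4.w + 1 * r) := ⟨by decide⟩

/-- The field with sixteen elements. -/
abbrev K16 : Type := QuadraticAlgebra K4 K4.w 1

instance fintypeK16 : Fintype K16 := Fintype.ofEquiv _ (QuadraticAlgebra.equivProd K4.w 1).symm

theorem card_K16 : Fintype.card K16 = 16 := by rw [Fintype.ofEquiv_card]; rfl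

/-- An element of `SL₂(16)`. -/
def mkS (a b c d : K16) (h : a * d - b * c = 1 := by decide +kernel) :
    SpecialLinearGroup (Fin 2) K16 := ⟨!![a, b; c, d], (det_fin_two_of a b c d).trans h⟩

/-- The letters in `SL₂(16)`. -/
def lS : List (SpecialLinearGroup (Fin 2) K16) := [
    mkS ⟨.o, .v⟩ ⟨.o, .o⟩ ⟨.o, .o⟩ ⟨.i, .i⟩, 
    mkS ⟨.i, .i⟩ ⟨.o, .o⟩ ⟨.o, .o⟩ ⟨.o, .v⟩, 
    mkS ⟨.i, .o⟩ ⟨.i, .o⟩ ⟨.o, .o⟩ ⟨.i, .o⟩, 
    mkS ⟨.i, .o⟩ ⟨.v, .w⟩ ⟨.o, .o⟩ ⟨.i, .o⟩, 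
    mkS ⟨.i, .o⟩ ⟨.v, .v⟩ ⟨.o, .o⟩ ⟨.i, .o⟩, 
    mkS ⟨.i, .o⟩ ⟨.o, .w⟩ ⟨.o, .o⟩ ⟨.i, .o⟩, 
    mkS ⟨.o, .o⟩ ⟨.i, .o⟩ ⟨.i, .o⟩ ⟨.o, .o⟩]

theorem rel_lS : TCList.Rel lS rL := by decide +kernel

theorem gen_lS : sub lS [1,2,3,4,5,6,7] = ⊤ := by
  refine eq_top_iff.mpr fun A _ => SL2.transvection_induction _ (fun i j h c => ?_)
    (fun _ _ => mul_mem) A
  have key : ∀ c : K16, ∃ w ∈ [3,4,5,6].sublists,
      (ev lS w).1 = 1 + single 0 1 c ∧ (ev lS (7 :: w ++ [7])).1 = 1 + single 1 0 c := by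
    decide +kernel
  obtain ⟨w, hw, h1, h2⟩ := key c
  have h3 : ∀ i ∈ 7 :: w ++ [7], gen lS i ∈ sub lS [1,2,3,4,5,6,7] := fun i hi => gen_mem
    ((show ∀ w ∈ [3,4,5,6].sublists, ∀ i ∈ 7 :: w ++ [7], i ∈ [1,2,3,4,5,6,7] by decide) w hw i hi)
  fin_cases i <;> fin_cases j
  · exact absurd rfl h
  · have e : ev lS w = Matrix.SpecialLinearGroup.transvection h c := Subtype.ext h1
    exact e ▸ ev_mem fun i hi => h3 i (by simp [hi])
  · have e : ev lS (7 :: w ++ [7]) = Matrix.SpecialLinearGroup.transvection h c := Subtype.ext h2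
    exact e ▸ ev_mem h3
  · exact absurd rfl h

theorem card_SL : Nat.card (SpecialLinearGroup (Fin 2) K16) = 4080 := by
  have h := LinearOrders.card_SL_mul (F := K16) (n := Fin 2)
  rw [Matrix.card_GL_field, card_K16] at h
  simp [Fin.prod_univ_two] at h
  rw [Nat.card_eq_fintype_card]
  omega

theorem eq_bot (N : Subgroup (SpecialLinearGroup (Fin 2) K16)) [N.Normal] (h : N ≠ ⊤) : N = ⊥ := by
  have h1 : center (SpecialLinearGroup (Fin 2) K16) = ⊥ := by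
    refine eq_bot_iff.mpr fun A hA => ?_
    obtain ⟨r, h2, h3⟩ := Matrix.SpecialLinearGroup.mem_center_iff.mp hA
    rw [(show ∀ r : K16, r ^ 2 = 1 → r = 1 by decide +kernel) r h2, map_one] at h3
    exact Subtype.ext h3.symm
  have := ProjectiveSpecialLinearGroup.rank_two_simple (F := K16)
    (by rw [Nat.card_eq_fintype_card, card_K16]; decide)
  have := (QuotientGroup.quotientBot.symm.trans
    (QuotientGroup.quotientMulEquivOfEq h1.symm)).isSimpleGroup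
  exact (IsSimpleGroup.eq_bot_or_eq_top_of_normal N inferInstance).resolve_right h

variable {G : Type*} [Group G]

theorem exists_sub {l : List G} {t : G} (hl : l.length = 7) (hr : TCList.Rel l rL)
    (h3 : gen l 3 ≠ 1) (ht : t * t = 1)
    (hp : ∀ p ∈ ([(1,[1,1,1,1]), (2,[2,2,2,2]), (3,[3]), (4,[3,6]), (5,[4,5,6]), (6,[3,4]),
      (7,[7])] : List (ℕ × List ℕ)), t * gen l p.1 * t = ev l p.2) :
    ∃ (H : Subgroup G) (N : Subgroup H), N.Normal ∧ N.index = 2 ∧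
      Nonempty (N ≃* SpecialLinearGroup (Fin 2) K16) := by
  have hl' : lS.length = l.length := hl.symm
  have h1 := Rel.zip hl' rel_lS hr
  have h2 : (lS.zip l).length = tL.length := by simp [hl, lS, tL]
  have hi : TCList.Rel (lS.zip l) (invRels tL) := h1.mono (by decide +kernel)
  obtain ⟨g, hg⟩ := TCList.exists_hom hl' gen_lS (card_SL ▸
    TCList.card_le h2 hi (h1.mono (by decide +kernel)) (by decide) cCC
      (TCList.card_le h2 hi (h1.mono (by decide +kernel)) (by decide) cBC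
        (TCList.card_le h2 hi (h1.mono (by decide +kernel)) (by decide) cAC (card_nil _))))
  have hinj : Function.Injective g := (MonoidHom.ker_eq_bot_iff g).mp (eq_bot _ fun h =>
    h3 ((hg 3 (by decide)).symm.trans (h.ge (mem_top _))))
  have ti : t⁻¹ = t := inv_eq_of_mul_eq_one_right ht
  have h4 : ∀ x ∈ g.range, t * x * t⁻¹ ∈ g.range := by
    rintro _ ⟨A, rfl⟩
    refine sub_le (K := (g.range.comap (MulAut.conj t).toMonoidHom).comap g) (fun i hi => ?_)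
      (gen_lS ▸ mem_top A)
    obtain ⟨p, h5, rfl, h6⟩ := (show ∀ i ∈ [1,2,3,4,5,6,7], ∃ p ∈ ([(1,[1,1,1,1]), (2,[2,2,2,2]),
      (3,[3]), (4,[3,6]), (5,[4,5,6]), (6,[3,4]), (7,[7])] : List (ℕ × List ℕ)), p.1 = i ∧
        ∀ j ∈ p.2, j ∈ [1,2,3,4,5,6,7] by decide) i hi
    change t * g _ * t⁻¹ ∈ g.range
    rw [hg _ hi, ti, hp p h5]
    exact ev_mem fun j hj => ⟨_, hg j (h6 j hj)⟩
  have h5 : t ∉ g.range := by
    rintro ⟨A, rfl⟩
    have h6 := hp _ List.mem_cons_self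
    simp only [ev_cons, ev_nil, mul_one] at h6
    nth_rw 2 [← ti] at h6
    rw [← hg 1 (by decide), ← map_inv, ← map_mul, ← map_mul, ← map_mul, ← map_mul, ← map_mul] at h6
    have h7 := congrArg (fun A : SpecialLinearGroup (Fin 2) K16 => A.1.trace) (hinj h6)
    simp only [Matrix.SpecialLinearGroup.coe_mul] at h7
    rw [trace_mul_cycle, ← Matrix.SpecialLinearGroup.coe_mul, inv_mul_cancel, Matrix.SpecialLinearGroup.coe_one,
      one_mul] at h7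
    exact absurd h7 (by decide +kernel)
  let H : Subgroup G :=
    { carrier := {x | x ∈ g.range ∨ x * t ∈ g.range}
      one_mem' := Or.inl (one_mem _)
      mul_mem' := by
        rintro x y (hx | hx) (hy | hy)
        · exact Or.inl (mul_mem hx hy)
        · exact Or.inr (mul_assoc x y t ▸ mul_mem hx hy)
        · exact Or.inr (by simpa [mul_assoc, ti, ← mul_assoc t t, ht] using mul_mem hx (h4 _ hy))
        · exact Or.inl (by simpa [mul_assoc, ← mul_assoc t t, ht] using mul_mem hx (h4 _ hy))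
      inv_mem' := by
        rintro x (hx | hx)
        · exact Or.inl (inv_mem hx)
        · exact Or.inr (by simpa [mul_assoc, ti, ← mul_assoc t t, ht] using h4 _ (inv_mem hx)) }
  have h6 : g.range ≤ H := fun _ => Or.inl
  have h7 : (g.range.subgroupOf H).index = 2 := by
    refine index_eq_two_iff.mpr ⟨⟨t, Or.inr (ht ▸ one_mem _)⟩, fun b => ?_⟩
    rcases b.2 with h | h
    · exact Or.inr ⟨h, fun h' => h5 ((g.range.mul_mem_cancel_left h).mp h')⟩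
    · exact Or.inl ⟨h, fun h' => h5 ((g.range.mul_mem_cancel_left (show b.1 ∈ g.range from h')).mp h)⟩
  exact ⟨H, g.range.subgroupOf H, normal_of_index_eq_two h7, h7,
    ⟨(subgroupOfEquivOfLe h6).trans (MonoidHom.ofInjective hinj).symm⟩⟩

end Cfsg.Agent.Lib.HJ3L16
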