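import Cfsg.Agent.Lib.TCGroup
import Cfsg.Agent.Lib.TCJ3C0
import Cfsg.Agent.Lib.TCJ3C1
import Cfsg.Agent.Lib.TCJ3C2
import Cfsg.Agent.Lib.TCJ3C3
import Cfsg.Agent.Lib.TCJ3C4
import Cfsg.Agent.Lib.TCJ3C5
import Cfsg.Agent.Lib.TCJ3C6
import Cfsg.Agent.Lib.TCJ3C7
import Cfsg.Agent.Lib.TCJ3C8
import Cfsg.Agent.Lib.TCJ3C9
import Cfsg.Agent.Lib.TCJ3C10

set_option autoImplicit false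
set_option maxRecDepth 100000

namespace Cfsg.Agent.Lib.TCJ3
open Cfsg.Agent.Lib.TCCore

theorem rowsS : P.RowsS 0 P.N := ((((s0.trans s1).trans s2).trans s3).trans s4)

theorem rowsT : P.RowsT P.N P.M := ((((((t4.trans t5).trans t6).trans t7).trans t8).trans t9).trans t10)

def base : List (List Nat) := [
  [0, 0],
  [1, 1],
  [2, 2],
  [3, 3],
  [4, 4],
  [5, 5],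
  [6, 7],
  [8, 8],
  [9, 9],
  [10, 11],
  [12, 13],
  [11, 11, 11],
  [13, 13, 13],
  [13, 5, 7],
  [7, 7, 7],
  [11, 13, 11, 13],
  [11, 7, 11, 7],
  [11, 3, 10, 3],
  [11, 12, 11, 4],
  [11, 12, 4, 12],
  [11, 4, 13, 4],
  [11, 8, 10, 8],
  [13, 13, 6, 5],
  [13, 7, 13, 7],
  [13, 2, 12, 2],
  [13, 5, 6, 6],
  [13, 8, 12, 8],
  [7, 2, 6, 2],
  [7, 3, 6, 3],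
  [7, 0, 6, 0],
  [7, 1, 6, 1],
  [7, 4, 7, 4],
  [7, 8, 6, 8],
  [2, 0, 2, 0],
  [2, 4, 3, 4],
  [2, 5, 2, 5],
  [2, 9, 2, 9],
  [2, 8, 2, 8],
  [3, 1, 3, 1],
  [3, 5, 3, 9],
  [3, 8, 3, 8],
  [0, 4, 1, 4],
  [4, 8, 4, 8],
  [5, 8, 5, 8],
  [9, 8, 9, 8],
  [11, 11, 13, 10, 4],
  [11, 11, 13, 4, 13],
  [11, 11, 3, 11, 3],
  [11, 11, 12, 10, 12],
  [11, 11, 4, 10, 13],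
  [11, 11, 4, 12, 4],
  [11, 11, 6, 10, 6],
  [11, 11, 8, 11, 8],
  [11, 13, 11, 12, 12],
  [11, 13, 11, 6, 5],
  [11, 13, 13, 11, 4],
  [11, 13, 13, 4, 12],
  [11, 13, 10, 12, 4],
  [11, 13, 4, 10, 12],
  [11, 7, 11, 5, 12],
  [11, 7, 11, 6, 6],
  [11, 7, 4, 5, 4],
  [11, 12, 4, 13, 13],
  [11, 12, 4, 5, 7],
  [11, 4, 11, 5, 7],
  [11, 4, 12, 12, 4],
  [11, 4, 6, 5, 4],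
  [11, 5, 7, 4, 12],
  [11, 5, 10, 4, 7],
  [11, 5, 4, 13, 7],
  [11, 5, 4, 6, 12],
  [13, 13, 7, 7, 5],
  [13, 13, 2, 13, 2],
  [13, 13, 6, 12, 6],
  [13, 13, 8, 13, 8],
  [13, 7, 13, 6, 6],
  [13, 7, 12, 5, 6],
  [13, 2, 5, 7, 2],
  [13, 2, 5, 2, 7],
  [13, 3, 9, 7, 3],
  [13, 3, 9, 3, 7],
  [13, 5, 13, 5, 6],
  [13, 5, 2, 7, 2],
  [13, 5, 3, 7, 3],
  [13, 5, 0, 7, 0],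
  [13, 5, 4, 6, 4],
  [13, 5, 8, 7, 8],
  [13, 6, 5, 6, 5],
  [13, 8, 5, 7, 8],
  [13, 8, 5, 8, 7],
  [7, 7, 2, 7, 2],
  [7, 7, 3, 7, 3],
  [7, 7, 0, 7, 0],
  [7, 7, 1, 7, 1],
  [7, 7, 4, 6, 4],
  [7, 7, 8, 7, 8],
  [2, 3, 2, 3, 8],
  [2, 0, 8, 0, 8],
  [3, 1, 8, 1, 8],
  [5, 9, 5, 9, 8],
  [13, 13, 13, 13, 5, 7],
  [13, 13, 13, 7, 13, 5],
  [13, 13, 13, 7, 7, 7],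
  [13, 13, 13, 5, 12, 6],
  [13, 13, 13, 6, 6, 6],
  [13, 13, 7, 7, 12, 6],
  [13, 13, 7, 5, 13, 6],
  [13, 13, 7, 5, 12, 5],
  [13, 13, 2, 12, 12, 2],
  [13, 13, 2, 6, 2, 5],
  [13, 13, 2, 6, 5, 2],
  [13, 13, 3, 6, 3, 5],
  [13, 13, 3, 6, 9, 3],
  [13, 13, 0, 6, 0, 5],
  [13, 13, 5, 7, 5, 7],
  [13, 13, 5, 12, 7, 5],
  [13, 13, 5, 6, 13, 7],
  [13, 13, 6, 13, 13, 6],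
  [13, 13, 6, 2, 5, 2],
  [13, 13, 6, 3, 9, 3],
  [13, 13, 6, 12, 7, 7],
  [13, 13, 6, 8, 5, 8],
  [13, 13, 8, 12, 12, 8],
  [13, 13, 8, 6, 5, 8],
  [13, 13, 8, 6, 8, 5],
  [13, 7, 13, 2, 7, 2],
  [13, 7, 13, 3, 7, 3],
  [13, 7, 13, 0, 7, 0],
  [13, 7, 13, 6, 13, 5],
  [13, 7, 13, 8, 7, 8],
  [13, 7, 7, 7, 5, 7],
  [13, 7, 7, 12, 7, 5],
  [13, 7, 7, 5, 6, 5],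
  [13, 7, 2, 13, 7, 2],
  [13, 7, 2, 13, 2, 7],
  [13, 7, 2, 6, 12, 2],
  [13, 7, 0, 9, 0, 5],
  [13, 7, 12, 7, 13, 6],
  [13, 7, 12, 7, 12, 5],
  [13, 7, 12, 5, 13, 5],
  [13, 7, 12, 5, 7, 7],
  [13, 7, 5, 13, 7, 5],
  [13, 7, 5, 7, 12, 7],
  [13, 7, 5, 7, 5, 6],
  [13, 7, 5, 0, 9, 0],
  [13, 7, 5, 6, 13, 6],
  [13, 7, 5, 6, 12, 5],
  [13, 7, 8, 13, 7, 8],
  [13, 7, 8, 13, 8, 7],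
  [13, 7, 8, 6, 12, 8],
  [13, 2, 13, 2, 6, 5],
  [13, 2, 13, 6, 2, 5],
  [13, 2, 13, 6, 5, 2],
  [13, 2, 7, 13, 2, 7],
  [13, 2, 12, 7, 2, 6],
  [13, 2, 12, 0, 2, 0],
  [13, 2, 12, 5, 2, 5],
  [13, 2, 12, 9, 2, 9],
  [13, 2, 12, 6, 2, 7],
  [13, 2, 12, 8, 2, 8],
  [13, 2, 5, 2, 6, 6],
  [13, 2, 5, 6, 2, 6],
  [13, 2, 5, 6, 6, 2],
  [13, 2, 8, 2, 12, 8],
  [13, 2, 8, 12, 2, 8],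
  [13, 2, 8, 12, 8, 2],
  [13, 3, 9, 3, 6, 6],
  [13, 3, 9, 5, 12, 3],
  [13, 3, 9, 6, 3, 6],
  [13, 3, 9, 6, 6, 3],
  [13, 3, 8, 3, 12, 8],
  [13, 0, 7, 9, 0, 5],
  [13, 0, 2, 0, 12, 2],
  [13, 0, 9, 7, 9, 0],
  [13, 0, 9, 0, 13, 6],
  [13, 0, 9, 0, 12, 5],
  [13, 0, 6, 9, 0, 6],
  [13, 0, 6, 9, 6, 0],
  [13, 5, 13, 5, 13, 5],
  [13, 5, 13, 5, 7, 7],
  [13, 5, 7, 7, 7, 7],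
  [13, 5, 7, 12, 6, 5],
  [13, 5, 7, 5, 12, 6],
  [13, 5, 2, 5, 12, 2],
  [13, 5, 2, 6, 2, 6],
  [13, 5, 2, 6, 6, 2],
  [13, 5, 3, 5, 12, 3],
  [13, 5, 3, 6, 3, 6],
  [13, 5, 3, 6, 6, 3],
  [13, 5, 0, 5, 12, 0],
  [13, 5, 0, 6, 0, 6],
  [13, 5, 0, 6, 6, 0],
  [13, 5, 12, 6, 5, 7],
  [13, 5, 6, 2, 6, 2],
  [13, 5, 6, 3, 6, 3],
  [13, 5, 6, 0, 6, 0],
  [13, 5, 6, 8, 6, 8],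
  [13, 5, 8, 5, 12, 8],
  [13, 5, 8, 6, 6, 8],
  [13, 5, 8, 6, 8, 6],
  [13, 9, 2, 9, 12, 2],
  [13, 9, 5, 9, 7, 8],
  [13, 9, 5, 9, 8, 7],
  [13, 9, 5, 8, 9, 7],
  [13, 9, 8, 5, 9, 7],
  [13, 9, 8, 9, 12, 8],
  [13, 6, 13, 6, 13, 6],
  [13, 6, 2, 7, 12, 2],
  [13, 6, 0, 9, 0, 6],
  [13, 6, 0, 9, 6, 0],
  [13, 6, 5, 7, 7, 5],
  [13, 6, 5, 8, 13, 8],
  [13, 6, 6, 13, 6, 6],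
  [13, 6, 6, 6, 5, 7],
  [13, 6, 8, 7, 12, 8],
  [13, 6, 8, 5, 13, 8],
  [13, 8, 13, 8, 6, 5],
  [13, 8, 7, 13, 8, 7],
  [13, 8, 2, 8, 12, 2],
  [13, 8, 12, 7, 8, 6],
  [13, 8, 12, 2, 8, 2],
  [13, 8, 12, 3, 8, 3],
  [13, 8, 12, 5, 8, 5],
  [13, 8, 12, 9, 8, 9],
  [13, 8, 12, 6, 8, 7],
  [13, 8, 5, 6, 6, 8],
  [13, 8, 5, 6, 8, 6],
  [13, 8, 5, 8, 6, 6],
  [13, 8, 9, 5, 9, 7],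
  [7, 7, 2, 6, 6, 2],
  [7, 7, 3, 6, 6, 3],
  [7, 7, 0, 6, 6, 0],
  [7, 7, 1, 6, 6, 1],
  [7, 7, 4, 7, 7, 4],
  [7, 7, 8, 6, 6, 8],
  [7, 2, 3, 6, 3, 2],
  [7, 2, 0, 2, 6, 0],
  [7, 2, 0, 6, 2, 0],
  [7, 2, 0, 6, 0, 2],
  [7, 2, 1, 6, 1, 2],
  [7, 2, 4, 7, 3, 4],
  [7, 2, 4, 7, 4, 2],
  [7, 2, 4, 3, 7, 4],
  [7, 2, 6, 0, 2, 0],
  [7, 2, 6, 4, 3, 4],
  [7, 2, 6, 5, 2, 5],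
  [7, 2, 6, 9, 2, 9],
  [7, 2, 6, 8, 2, 8],
  [7, 2, 8, 2, 6, 8],
  [7, 2, 8, 6, 2, 8],
  [7, 2, 8, 6, 8, 2],
  [7, 3, 0, 6, 0, 3],
  [7, 3, 1, 3, 6, 1],
  [7, 3, 1, 6, 3, 1],
  [7, 3, 1, 6, 1, 3],
  [7, 3, 4, 7, 4, 3],
  [7, 3, 4, 2, 7, 4],
  [7, 3, 6, 1, 3, 1],
  [7, 3, 6, 4, 2, 4],
  [7, 3, 6, 5, 3, 9],
  [7, 3, 6, 8, 3, 8],
  [7, 3, 8, 3, 6, 8],
  [7, 3, 8, 6, 3, 8],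
  [7, 3, 8, 6, 8, 3],
  [7, 0, 2, 0, 6, 2],
  [7, 0, 1, 6, 1, 0],
  [7, 0, 4, 7, 1, 4],
  [7, 0, 4, 7, 4, 0],
  [7, 0, 4, 1, 7, 4],
  [7, 0, 5, 0, 6, 9],
  [7, 0, 5, 6, 0, 9],
  [7, 0, 6, 2, 0, 2],
  [7, 0, 6, 4, 1, 4],
  [7, 0, 8, 6, 8, 0],
  [7, 1, 3, 1, 6, 3],
  [7, 1, 4, 7, 4, 1],
  [7, 1, 4, 0, 7, 4],
  [7, 1, 6, 3, 1, 3],
  [7, 1, 6, 4, 0, 4],
  [7, 1, 8, 6, 8, 1],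
  [7, 4, 7, 8, 4, 8],
  [7, 4, 2, 7, 4, 3],
  [7, 4, 2, 4, 6, 3],
  [7, 4, 3, 4, 6, 2],
  [7, 4, 0, 7, 4, 1],
  [7, 4, 0, 4, 6, 1],
  [7, 4, 1, 4, 6, 0],
  [7, 4, 8, 7, 4, 8],
  [7, 4, 8, 7, 8, 4],
  [7, 4, 8, 4, 6, 8],
  [7, 5, 7, 5, 7, 5],
  [7, 5, 2, 5, 6, 2],
  [7, 5, 3, 9, 6, 3],
  [7, 5, 6, 0, 9, 0],
  [7, 5, 8, 5, 6, 8],
  [7, 9, 7, 9, 7, 9],
  [7, 9, 2, 9, 6, 2],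
  [7, 9, 8, 9, 6, 8],
  [7, 8, 2, 8, 6, 2],
  [7, 8, 3, 8, 6, 3],
  [7, 8, 4, 7, 8, 4],
  [7, 8, 6, 2, 8, 2],
  [7, 8, 6, 3, 8, 3],
  [7, 8, 6, 4, 8, 4],
  [7, 8, 6, 5, 8, 5],
  [7, 8, 6, 9, 8, 9],
  [2, 3, 2, 1, 8, 1],
  [2, 3, 0, 8, 0, 3],
  [2, 3, 4, 2, 3, 4],
  [2, 3, 5, 3, 2, 9],
  [2, 3, 9, 3, 2, 5],
  [2, 3, 8, 3, 2, 8],
  [2, 0, 2, 4, 1, 4],
  [2, 0, 4, 3, 1, 4],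
  [2, 0, 4, 3, 4, 0],
  [2, 0, 4, 1, 3, 4],
  [2, 0, 5, 2, 5, 0],
  [2, 0, 9, 2, 9, 0],
  [2, 0, 8, 2, 8, 0],
  [2, 1, 2, 1, 2, 1],
  [2, 1, 4, 0, 3, 4],
  [2, 4, 3, 8, 4, 8],
  [2, 4, 1, 3, 1, 4],
  [2, 4, 8, 3, 4, 8],
  [2, 4, 8, 3, 8, 4],
  [2, 4, 8, 4, 2, 8],
  [2, 5, 2, 8, 5, 8],
  [2, 5, 9, 2, 9, 5],
  [2, 5, 8, 2, 5, 8],
  [2, 5, 8, 2, 8, 5],
  [2, 5, 8, 5, 2, 8],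
  [2, 9, 2, 8, 9, 8],
  [2, 9, 8, 2, 9, 8],
  [2, 9, 8, 2, 8, 9],
  [2, 9, 8, 9, 2, 8],
  [2, 8, 4, 3, 4, 8],
  [3, 0, 3, 0, 3, 0],
  [3, 1, 3, 4, 0, 4],
  [3, 1, 8, 3, 8, 1],
  [3, 4, 8, 4, 3, 8],
  [3, 5, 3, 8, 9, 8],
  [3, 5, 9, 3, 5, 9],
  [3, 5, 8, 3, 9, 8],
  [3, 5, 8, 3, 8, 9],
  [3, 5, 8, 5, 3, 8],
  [3, 9, 3, 8, 5, 8],
  [3, 9, 8, 9, 3, 8],
  [0, 1, 4, 0, 1, 4],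
  [0, 4, 1, 8, 4, 8],
  [5, 9, 8, 9, 5, 8],
  [2, 3, 0, 1, 2, 3, 0, 1, 2, 3, 0, 1, 2, 3, 0, 1],
  [0, 1, 0, 1, 0, 1, 0, 1, 0, 1],
  [3, 0, 1, 3, 0, 1, 3, 0, 1, 3, 0, 1, 3, 0, 1]]

theorem static_ok : TCGroup.static P base [0, 1, 2, 3, 4, 5, 7, 6, 8, 9, 11, 10, 13, 12] 14 8 [2, 3, 4, 5, 6, 7, 8, 9, 10, 11, 12, 13] = true := by decide +kernel

theorem bound {G : Type*} [Group G] (y : Nat → G) (H : Subgroup G)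
    (hrel : ∀ r ∈ base, (r.map y).prod = 1) (hinv : ∀ i < 14, y (List.getD [0, 1, 2, 3, 4, 5, 7, 6, 8, 9, 11, 10, 13, 12] i i) = (y i)⁻¹)
    (hsub : ∀ i ∈ ([2, 3, 4, 5, 6, 7, 8, 9, 10, 11, 12, 13] : List Nat), y i ∈ H) :
    H.relIndex (Subgroup.closure (y '' {i | i < 8})) ≠ 0 ∧
      H.relIndex (Subgroup.closure (y '' {i | i < 8})) ≤ 78489 :=
  TCGroup.relIndex_le y 14 8 base [0, 1, 2, 3, 4, 5, 7, 6, 8, 9, 11, 10, 13, 12] [2, 3, 4, 5, 6, 7, 8, 9, 10, 11, 12, 13] P H hrel hinv hsub static_ok rowsS rowsT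

end Cfsg.Agent.Lib.TCJ3
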