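import Cfsg.Agent.Lib.HJ2Pres
import Cfsg.Agent.Lib.TCJ3

/-! A presentation of the triple cover of the third Janko group over `2^{1+4}_- : A₅`. -/

set_option autoImplicit false
set_option maxRecDepth 100000

namespace Cfsg.Agent.Lib.HJ3Pres

open Subgroup Cfsg.Agent.Lib.SmallTC Cfsg.Agent.Lib.TCList Cfsg.Agent.Lib.HJModel
  Cfsg.Agent.Lib.HJCent Cfsg.Agent.Lib.HJFuse Cfsg.Agent.Lib.HJ2Pres

/-- The word `(c d) ^ k`. -/
def w2 (k : ℕ) : List ℕ := (List.replicate k [15,16]).flatten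

/-- The word `(c d b) ^ k`. -/
def w3 (k : ℕ) : List ℕ := (List.replicate k [15,16,2]).flatten

/-- The word `(a b c d) ^ 4`. -/
def w4 : List ℕ := (List.replicate 4 [1,2,15,16]).flatten

/-- The additional relators. -/
def r3 : List (List ℕ) := [w2 5, w3 5, w4]

/-- Relators with `d`. -/
def rD : List (List ℕ) :=
    [[16,2,16,2], [16,3,16,2,3], [1,16,1,16,1,16], [16,8,16,9]]

/-- A relator of the model, or a listed one. -/
def ok (ex : List (List ℕ)) (r : List ℕ) : Bool :=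
  (r.all (Nat.ble · 14) && decide (ev lm r = 1)) || (rM ++ ex).contains r

/-- The check that some words lie in the subgroup generated by the letters `s`. -/
def cert (ex : List (List ℕ)) (s : List ℕ) (rs : List (List ℕ)) (F : Tr)
    (S : List (ℕ × ℕ × List ℕ)) (T : List (List ℕ × List ℕ)) : Bool :=
  rs.all (ok ex) && T.all fun t => walk (inv tG) F (run (inv tG) rs s F 0 S) 0 0 t.1 t.2

def cDW : List (List ℕ) :=
    [[16,16], [9,9,9], [1,10,2,10], [1,3,1,3], [2,3,2,3], [10,3,10,3], [9,9,10,8,10], [1,2,1,2,3],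
    [15,1,15,1], [15,3,15,1,3], [2,15,2,15,2,15], [15,8,15,9], [16,10,15,10]]

def cDF : Tr :=
    (.node (.node (.node (.node (.node (.node (.node .leaf 36 3 31 .leaf) 1 9 32 .leaf) 14 16 16 (.node (.node
    .leaf 15 0 16 .leaf) 20 3 9 .leaf)) 6 16 8 (.node (.node (.node .leaf 41 2 33 .leaf) 10 10 40 .leaf) 22 2
    24 (.node .leaf 30 9 14 .leaf))) 2 16 4 (.node (.node (.node (.node .leaf 7 0 8 .leaf) 5 10 36 .leaf) 19 2
    20 (.node .leaf 23 3 26 .leaf)) 10 1 12 (.node (.node (.node .leaf 12 16 11 .leaf) 15 10 44 .leaf) 11 2 28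
    (.node .leaf 35 1 33 .leaf)))) 0 2 2 (.node (.node (.node (.node (.node .leaf 38 1 36 .leaf) 2 10 34
    .leaf) 9 2 18 (.node .leaf 21 1 17 .leaf)) 9 16 10 (.node (.node (.node .leaf 41 15 42 .leaf) 12 10 42
    .leaf) 25 1 26 (.node .leaf 33 15 31 .leaf))) 1 3 6 (.node (.node (.node (.node .leaf 39 2 31 .leaf) 7 10
    38 .leaf) 2 15 22 (.node .leaf 20 15 27 .leaf)) 0 8 14 (.node (.node (.node .leaf 44 8 33 .leaf) 18 1 7
    .leaf) 0 9 30 (.node .leaf 3 0 4 .leaf))))) 0 16 1 (.node (.node (.node (.node (.node (.node .leaf 37 3 33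
    .leaf) 1 10 33 .leaf) 0 15 17 (.node (.node .leaf 15 16 14 .leaf) 20 1 5 .leaf)) 0 1 9 (.node (.node
    (.node .leaf 42 2 40 .leaf) 11 10 41 .leaf) 21 2 25 (.node .leaf 32 9 15 .leaf))) 0 3 5 (.node (.node
    (.node (.node .leaf 7 16 6 .leaf) 6 10 37 .leaf) 9 15 21 (.node .leaf 27 3 17 .leaf)) 11 16 13 (.node
    (.node (.node .leaf 43 8 31 .leaf) 7 3 2 .leaf) 28 1 29 (.node .leaf 34 15 35 .leaf)))) 1 2 3 (.node
    (.node (.node (.node (.node .leaf 37 15 38 .leaf) 3 10 35 .leaf) 2 1 19 (.node .leaf 24 15 23 .leaf)) 1 1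
    11 (.node (.node (.node .leaf 12 0 13 .leaf) 14 10 43 .leaf) 26 2 27 (.node .leaf 34 1 31 .leaf))) 5 2 7
    (.node (.node (.node (.node .leaf 40 15 39 .leaf) 9 10 39 .leaf) 17 2 23 (.node .leaf 29 2 6 .leaf)) 1 8
    15 (.node (.node (.node .leaf 43 15 44 .leaf) 19 3 18 .leaf) 0 10 31 (.node .leaf 3 16 2 .leaf))))))

def cDS : List (ℕ × ℕ × List ℕ) :=
    [(0,0,[]), (0,0,[]), (0,0,[]), (0,0,[]), (0,0,[]), (0,0,[]), (0,0,[]), (0,0,[]), (0,0,[]), (0,0,[]),
    (0,0,[]), (0,0,[]), (0,0,[]), (0,0,[]), (0,0,[]), (0,0,[]), (0,0,[]), (0,0,[]), (0,0,[]), (0,0,[]),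
    (0,0,[]), (0,0,[]), (0,0,[]), (0,0,[]), (0,0,[]), (0,0,[]), (0,0,[]), (0,0,[]), (0,0,[]), (0,0,[]),
    (0,0,[]), (0,0,[]), (0,0,[]), (0,0,[]), (0,0,[]), (0,0,[]), (0,0,[]), (0,0,[]), (0,0,[]), (0,0,[]),
    (0,0,[]), (0,0,[]), (0,0,[]), (0,0,[]), (6,1,[3,8,12]), (9,2,[13,9,16,34]), (5,1,[90,88,36]),
    (6,1,[34,93,38]), (9,2,[12,88,36,38]), (10,1,[33,16,40]), (12,1,[45,33,2,42,46]), (9,4,[51,49,98,44]),
    (6,1,[44,102,52]), (11,0,[104,33,16,95]), (9,3,[11,20,54,56]), (3,1,[27,58]), (3,1,[29,62]),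
    (14,2,[61,0,64]), (4,0,[61,2,66]), (4,0,[65,4,68]), (10,0,[118,114,117]), (14,0,[7,66,120,69]),
    (2,0,[6,123]), (7,1,[61,8,70]), (7,1,[65,10,72]), (4,0,[71,12,74]), (11,2,[130,126,115,129]),
    (14,0,[15,72,132,75]), (2,0,[14,135]), (4,2,[61,16,76]), (14,2,[77,18,78]), (4,2,[65,20,80]),
    (4,2,[79,22,82]), (12,5,[144,140,138,115,143]), (14,0,[25,80,146,83]), (2,0,[24,149]),
    (8,3,[61,58,110,84]), (8,3,[65,62,112,86]), (13,0,[154,114,153]), (14,0,[31,84,156,87]), (2,0,[30,159])]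

def cDT : List (List ℕ × List ℕ) :=
    [([16,2,16,2],[0,4,124,3]), ([16,3,16,2,3],[0,10,137,13,9]), ([1,16,1,16,1,16],[16,18,22,150,21,1]),
    ([16,8,16,9],[0,28,160,27]), ([1,1],[16,17]), ([2,2],[2,3]), ([15,15],[32,33]), ([16,16],[0,1]),
    ([1,2,1,2,1,2,1,2],[16,34,90,13,97,39,37,3]), ([1,15,1,15],[16,40,98,33]),
    ([2,15,2,15,2,15],[2,42,46,100,45,33]), ([15,1,2,1,2,15,1,2,1,2,1],[32,99,48,50,52,107,96,12,91,35,17]),
    ([2,16,2,16],[2,125,5,1]), ([1,16,1,16,1,16],[16,18,22,150,21,1]),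
    ([16,1,2,1,2,16,1,2,1,2,2],[0,20,54,56,108,137,91,35,17,2,3])]

theorem cDC : cert [] [] cDW cDF cDS cDT = true := by decide +kernel

def cXW : List (List ℕ) :=
    [[9,9,9], [9,1,8,1], [9,2,8,2], [9,10,9,10], [9,3,8,3], [1,10,2,10], [1,3,1,3], [2,3,2,3], [10,3,10,3],
    [9,9,10,8,10], [1,2,1,2,3], [15,1,15,1], [15,3,15,1,3], [2,15,2,15,2,15], [15,8,15,9], [16,10,15,10],
    [16,2,16,2], [16,3,16,2,3], [1,16,1,16,1,16], [16,8,16,9], [15,16,15,16,15,16,15,16,15,16],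
    [15,16,2,15,16,2,15,16,2,15,16,2,15,16,2], [1,2,15,16,1,2,15,16,1,2,15,16,1,2,15,16]]

def cXF : Tr :=
    (.node (.node (.node (.node (.node (.node (.node .leaf 23 16 64 .leaf) 2 10 32 (.node .leaf 29 10 3
    .leaf)) 15 15 16 (.node (.node .leaf 4 9 13 .leaf) 2 15 48 (.node .leaf 43 15 40 .leaf))) 0 2 8 (.node
    (.node (.node .leaf 70 16 72 .leaf) 10 2 40 (.node .leaf 37 2 15 .leaf)) 22 15 24 (.node (.node .leaf 21 8
    20 .leaf) 54 15 56 .leaf))) 3 15 4 (.node (.node (.node (.node .leaf 66 15 68 .leaf) 6 2 36 (.node .leaf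
    33 9 32 .leaf)) 6 16 20 (.node (.node .leaf 17 3 9 .leaf) 50 1 52 (.node .leaf 58 1 57 .leaf))) 3 9 12
    (.node (.node (.node .leaf 9 2 2 .leaf) 1 2 44 (.node .leaf 39 2 11 .leaf)) 4 10 28 (.node (.node .leaf 25
    8 9 .leaf) 48 16 60 .leaf)))) 0 16 2 (.node (.node (.node (.node (.node .leaf 49 16 66 .leaf) 2 3 34
    (.node .leaf 31 8 30 .leaf)) 3 1 18 (.node (.node .leaf 5 9 14 .leaf) 38 16 50 (.node .leaf 46 15 11
    .leaf))) 0 10 10 (.node (.node (.node .leaf 5 8 2 .leaf) 20 1 42 (.node .leaf 34 16 37 .leaf)) 1 16 26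
    (.node (.node .leaf 24 8 23 .leaf) 56 16 58 .leaf))) 0 1 6 (.node (.node (.node (.node .leaf 68 2 70
    .leaf) 36 15 38 (.node .leaf 34 2 17 .leaf)) 3 2 22 (.node (.node .leaf 19 1 4 .leaf) 52 2 54 (.node .leaf
    71 15 72 .leaf))) 2 8 14 (.node (.node (.node .leaf 12 9 0 .leaf) 26 10 46 (.node .leaf 40 16 39 .leaf)) 1
    3 30 (.node (.node .leaf 28 9 11 .leaf) 60 15 62 .leaf))))) 0 15 1 (.node (.node (.node (.node (.node
    (.node .leaf 64 2 65 .leaf) 5 10 33 (.node .leaf 30 1 16 .leaf)) 15 16 17 (.node (.node .leaf 14 16 12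
    .leaf) 48 2 49 (.node .leaf 45 15 44 .leaf))) 8 16 9 (.node (.node (.node .leaf 4 8 1 .leaf) 2 1 41 (.node
    .leaf 8 3 37 .leaf)) 22 16 25 (.node (.node .leaf 22 8 8 .leaf) 55 2 57 .leaf))) 3 16 5 (.node (.node
    (.node (.node .leaf 67 16 69 .leaf) 36 1 37 (.node .leaf 33 15 29 .leaf)) 18 16 21 (.node (.node .leaf 18
    8 6 .leaf) 51 16 53 (.node .leaf 63 16 62 .leaf))) 1 8 13 (.node (.node (.node .leaf 11 16 10 .leaf) 23 2
    45 (.node .leaf 40 10 6 .leaf)) 10 8 29 (.node (.node .leaf 27 8 26 .leaf) 59 16 61 .leaf)))) 0 9 3 (.node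
    (.node (.node (.node (.node .leaf 65 15 67 .leaf) 5 3 35 (.node .leaf 32 15 10 .leaf)) 18 15 19 (.node
    (.node .leaf 16 3 7 .leaf) 49 1 51 (.node .leaf 47 3 10 .leaf))) 1 10 11 (.node (.node (.node .leaf 7 1 1
    .leaf) 20 10 43 (.node .leaf 23 3 38 .leaf)) 4 16 27 (.node (.node .leaf 25 2 5 .leaf) 26 15 59 .leaf))) 6
    15 7 (.node (.node (.node (.node .leaf 69 2 71 .leaf) 7 10 39 (.node .leaf 35 8 34 .leaf)) 8 15 23 (.node
    (.node .leaf 19 8 7 .leaf) 53 15 55 .leaf)) 0 3 15 (.node (.node (.node .leaf 13 15 12 .leaf) 15 10 47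
    (.node .leaf 42 16 41 .leaf)) 4 3 31 (.node (.node .leaf 29 16 28 .leaf) 61 15 63 .leaf))))))

def cXS : List (ℕ × ℕ × List ℕ) :=
    [(0,0,[]), (0,0,[]), (0,0,[]), (0,0,[]), (0,0,[]), (0,0,[]), (0,0,[]), (0,0,[]), (0,0,[]), (0,0,[]),
    (0,0,[]), (0,0,[]), (0,0,[]), (0,0,[]), (0,0,[]), (0,0,[]), (0,0,[]), (0,0,[]), (0,0,[]), (0,0,[]),
    (0,0,[]), (0,0,[]), (0,0,[]), (0,0,[]), (0,0,[]), (0,0,[]), (0,0,[]), (0,0,[]), (0,0,[]), (0,0,[]),
    (0,0,[]), (0,0,[]), (0,0,[]), (0,0,[]), (0,0,[]), (0,0,[]), (0,0,[]), (0,0,[]), (0,0,[]), (0,0,[]),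
    (0,0,[]), (0,0,[]), (0,0,[]), (0,0,[]), (0,0,[]), (0,0,[]), (0,0,[]), (0,0,[]), (0,0,[]), (0,0,[]),
    (0,0,[]), (0,0,[]), (0,0,[]), (0,0,[]), (0,0,[]), (0,0,[]), (0,0,[]), (0,0,[]), (0,0,[]), (0,0,[]),
    (0,0,[]), (0,0,[]), (0,0,[]), (0,0,[]), (0,0,[]), (0,0,[]), (0,0,[]), (0,0,[]), (0,0,[]), (0,0,[]),
    (0,0,[]), (0,0,[]), (16,1,[1,4,6]), (21,1,[3,4,8]), (13,1,[1,10,12]), (18,1,[3,14,16]), (17,0,[19,0,20]),
    (2,1,[4,22]), (16,2,[154,0,24]), (2,2,[25,145]), (21,2,[154,2,26]), (2,2,[27,147]), (14,1,[13,11,28,30]),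
    (19,1,[17,15,28,32]), (3,2,[11,4,34]), (13,1,[7,34,36]), (16,1,[13,169,36]), (21,1,[39,169,40]),
    (4,2,[15,4,42]), (16,1,[45,177,46]), (18,1,[9,42,48]), (21,1,[17,177,48]), (21,1,[51,145,52]),
    (5,2,[21,145,54]), (21,2,[186,152,56]), (11,4,[22,154,18,56]), (8,2,[164,148,58]), (6,2,[59,145,60]),
    (17,2,[19,2,62]), (5,2,[63,147,64]), (17,2,[190,8,64]), (9,2,[166,150,66]), (6,2,[67,147,68]),
    (12,3,[29,10,70,72]), (12,4,[73,71,11,14]), (18,0,[206,32,203]), (14,1,[75,72,209,44]), (7,2,[21,149,76]),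
    (7,3,[11,18,78]), (18,2,[214,152,78]), (20,1,[81,3,10,38,82]), (17,2,[216,38,84]), (15,1,[87,1,14,44,88]),
    (17,2,[21,50,90]), (10,1,[19,28,92]), (24,4,[113,109,105,101,97,95,3,10,70,74,98,102,106,110,114]),
    (22,1,[123,119,95,3,0,50,116,120,124]), (23,0,[143,139,135,131,97,95,3,14,44,126,128,132,136,140])]

def cXT : List (List ℕ × List ℕ) :=
    [([15,15],[0,1]), ([16,16],[2,3]), ([9,15,8,15],[4,6,144,1]), ([9,16,8,16],[4,8,146,3]),
    ([1,15,1,15],[10,12,148,1]), ([2,16,2,16],[14,16,150,3]), ([15,10,16,10],[0,20,152,19]),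
    ([9,9,15,9,15],[4,22,157,25,1]), ([9,9,16,9,16],[4,22,161,27,3]), ([1,15,3,15,3],[10,12,165,31,29]),
    ([2,16,3,16,3],[14,16,167,33,29]), ([9,9,15,8,8,15],[4,22,157,159,144,1]),
    ([9,9,16,8,8,16],[4,22,161,163,146,3]), ([9,1,15,1,8,15],[4,34,36,170,144,1]),
    ([9,1,15,8,1,15],[4,34,36,172,148,1]), ([9,1,15,8,15,1],[4,34,36,172,13,11]),
    ([9,1,16,8,16,1],[4,34,40,174,39,11]), ([9,1,8,15,1,15],[4,34,168,12,148,1]),
    ([9,2,15,8,15,2],[4,42,46,178,45,15]), ([9,2,16,2,8,16],[4,42,48,180,146,3]),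
    ([9,2,16,8,2,16],[4,42,48,182,150,3]), ([9,2,16,8,16,2],[4,42,48,182,17,15]),
    ([9,2,8,16,2,16],[4,42,176,16,150,3]), ([9,15,1,15,8,1],[4,6,171,37,168,11]),
    ([9,15,16,8,16,15],[4,6,52,184,51,1]), ([9,15,10,9,16,10],[4,6,54,186,152,19]),
    ([9,15,10,9,10,15],[4,6,54,186,21,1]), ([9,15,10,16,9,10],[4,6,54,189,57,19]),
    ([9,15,8,1,15,1],[4,6,144,149,13,11]), ([9,15,8,10,16,10],[4,6,144,20,152,19]),
    ([9,15,3,8,3,15],[4,6,60,194,59,1]), ([9,16,2,16,8,2],[4,8,181,49,176,15]),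
    ([9,16,10,9,10,16],[4,8,64,198,63,3]), ([9,16,10,15,9,10],[4,8,64,200,57,19]),
    ([9,16,8,2,16,2],[4,8,146,151,17,15]), ([9,16,8,10,15,10],[4,8,146,62,196,19]),
    ([9,16,3,8,3,16],[4,8,68,204,67,3]), ([9,10,15,9,10,16],[4,191,201,198,63,3]),
    ([9,10,15,10,8,16],[4,191,201,65,146,3]), ([9,10,16,10,8,15],[4,191,188,55,144,1]),
    ([1,2,1,16,3,16],[10,70,72,211,67,3]), ([1,2,15,3,15,2],[10,70,74,213,45,15]),
    ([1,15,1,10,16,10],[10,12,148,20,152,19]), ([1,15,10,2,16,10],[10,12,76,214,152,19]),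
    ([1,15,10,2,10,15],[10,12,76,214,21,1]), ([1,15,10,16,2,10],[10,12,76,219,79,19]),
    ([1,15,3,1,3,15],[10,12,165,193,59,1]), ([1,16,1,16,1,16],[10,38,82,220,81,3]),
    ([1,16,10,15,2,10],[10,38,84,222,79,19]), ([1,10,16,2,16,10],[10,217,218,214,152,19]),
    ([2,15,2,15,2,15],[14,44,88,224,87,1]), ([2,16,2,10,15,10],[14,16,150,62,196,19]),
    ([2,16,3,2,3,16],[14,16,167,203,67,3]), ([15,16,10,15,16,10],[0,50,90,226,152,19]),
    ([15,10,16,3,10,3],[0,20,152,229,93,29]),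
    ([1,2,15,16,1,2,15,16,1,2,15,16,1,2,15,16],[10,70,74,98,102,106,110,114,230,113,109,105,101,97,95,3]),
    ([15,16,15,16,15,16,15,16,15,16],[0,50,116,120,124,232,123,119,95,3]),
    ([2,15,16,2,15,16,2,15,16,2,15,16,2,15,16],[14,44,126,128,132,136,140,234,143,139,135,131,97,95,3])]

theorem cXC : cert (rD ++ r3) [] cXW cXF cXS cXT = true := by decide +kernel

def cVW : List (List ℕ) :=
    [[9,8], [12,12], [15,15], [7,7,7], [7,11,9], [9,9,9], [7,7,8,11], [7,1,6,1], [7,11,8,8], [1,11,1,11],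
    [1,12,1,12], [7,9,6,11,8], [15,1,15,1], [15,8,15,9], [15,11,15,8,12,9]]

def cVF : Tr :=
    (.node (.node (.node (.node (.node (.node (.node .leaf 32 9 31 .leaf) 29 15 32 .leaf) 2 1 16 (.node (.node
    .leaf 21 0 20 .leaf) 18 9 10 .leaf)) 6 15 8 (.node (.node (.node .leaf 38 15 37 .leaf) 3 9 0 .leaf) 23 15
    24 (.node .leaf 26 12 25 .leaf))) 2 8 4 (.node (.node (.node (.node .leaf 36 1 12 .leaf) 16 12 36 .leaf)
    18 12 20 (.node .leaf 5 7 23 .leaf)) 2 12 12 (.node (.node (.node .leaf 13 0 14 .leaf) 8 8 7 .leaf) 1 8 28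
    (.node .leaf 28 15 26 .leaf)))) 0 15 2 (.node (.node (.node (.node (.node .leaf 33 8 13 .leaf) 2 11 34
    .leaf) 1 15 18 (.node (.node .leaf 20 15 23 .leaf) 22 7 5 .leaf)) 9 15 10 (.node (.node (.node .leaf 33 15
    39 .leaf) 6 7 0 .leaf) 18 8 26 (.node .leaf 27 11 4 .leaf))) 1 7 6 (.node (.node (.node (.node .leaf 8 9
    37 .leaf) 5 8 38 .leaf) 0 9 22 (.node .leaf 25 8 2 .leaf)) 12 15 14 (.node (.node (.node .leaf 24 0 21
    .leaf) 17 1 0 .leaf) 29 9 30 (.node .leaf 10 12 7 .leaf))))) 0 7 1 (.node (.node (.node (.node (.node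
    (.node .leaf 33 9 23 .leaf) 22 11 33 .leaf) 15 6 17 (.node (.node .leaf 20 9 12 .leaf) 19 15 15 .leaf)) 1
    9 9 (.node (.node (.node .leaf 39 9 24 .leaf) 4 15 3 .leaf) 22 15 25 (.node .leaf 10 9 26 .leaf))) 0 11 5
    (.node (.node (.node (.node .leaf 37 9 7 .leaf) 4 12 37 .leaf) 12 8 21 (.node .leaf 13 8 23 .leaf)) 9 11
    13 (.node (.node (.node .leaf 13 15 12 .leaf) 9 7 3 .leaf) 0 12 29 (.node .leaf 11 0 10 .leaf)))) 1 11 3
    (.node (.node (.node (.node (.node .leaf 35 1 34 .leaf) 16 11 35 .leaf) 18 1 19 (.node .leaf 22 9 3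
    .leaf)) 7 12 11 (.node (.node (.node .leaf 39 8 12 .leaf) 6 8 5 .leaf) 2 7 27 (.node .leaf 28 11 6
    .leaf))) 5 15 7 (.node (.node (.node (.node .leaf 38 11 23 .leaf) 8 12 39 .leaf) 22 6 23 (.node .leaf 25 9
    4 .leaf)) 1 1 15 (.node (.node (.node .leaf 21 15 23 .leaf) 16 15 17 .leaf) 25 11 31 (.node .leaf 31 15 30
    .leaf))))))

def cVS : List (ℕ × ℕ × List ℕ) :=
    [(0,0,[]), (0,0,[]), (0,0,[]), (0,0,[]), (0,0,[]), (0,0,[]), (0,0,[]), (0,0,[]), (0,0,[]), (0,0,[]),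
    (0,0,[]), (0,0,[]), (0,0,[]), (0,0,[]), (0,0,[]), (0,0,[]), (0,0,[]), (0,0,[]), (0,0,[]), (0,0,[]),
    (0,0,[]), (0,0,[]), (0,0,[]), (0,0,[]), (0,0,[]), (0,0,[]), (0,0,[]), (0,0,[]), (0,0,[]), (0,0,[]),
    (0,0,[]), (0,0,[]), (0,0,[]), (0,0,[]), (0,0,[]), (0,0,[]), (0,0,[]), (0,0,[]), (0,0,[]), (6,2,[0,4]),
    (15,2,[78,2,6]), (5,1,[0,10]), (8,2,[9,0,10]), (15,1,[13,85,14]), (6,0,[5,16]), (9,3,[0,28,32]),
    (14,0,[90,2,30]), (15,3,[19,17,34]), (14,2,[29,34,36]), (6,0,[9,42]), (7,1,[78,42]), (5,2,[45,98]),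
    (13,4,[45,100,89,24]), (15,1,[3,42,48]), (15,3,[80,101,48]), (16,4,[108,80,5,34,50]), (7,2,[51,94]),
    (6,1,[7,52]), (8,3,[82,0,54]), (15,2,[51,35,54]), (16,5,[112,119,116,14,86,20]), (3,0,[20,120]),
    (16,2,[59,57,42,48,60]), (15,3,[124,59,62]), (6,2,[45,64]), (10,2,[104,45,64]), (11,2,[67,30,68]),
    (12,2,[23,30,70]), (16,5,[13,9,2,6,72]), (7,2,[136,87]), (8,3,[45,98,74]), (15,2,[136,13,74]),
    (16,5,[47,141,142,139,76]), (15,2,[144,47,129]), (16,3,[23,107,49,64,146]), (15,2,[27,149,147,130]),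
    (4,0,[26,151]), (7,2,[41,149,144]), (4,0,[46,154]), (16,4,[39,94,19,24,152,40]), (2,0,[40,158]),
    (4,0,[157,158])]

def cVT : List (List ℕ × List ℕ) :=
    [([7,11,15,9,15],[0,4,81,7,3]), ([7,7,15,8,15,11],[0,10,14,86,13,9]), ([7,9,7,15,9,15],[0,16,88,81,7,3]),
    ([7,9,15,12,15,11],[0,16,18,122,13,9]), ([7,9,11,15,12,15],[0,16,24,152,23,3]),
    ([7,1,6,15,1,15],[0,28,32,93,31,3]), ([7,15,9,12,15,11],[0,34,94,122,13,9]),
    ([7,15,1,15,6,1],[0,34,36,96,32,90]), ([7,15,12,9,12,15],[0,34,38,160,23,3]),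
    ([7,15,12,15,7,8],[0,34,38,162,45,43]), ([7,15,12,15,6,11],[0,34,38,162,103,9]),
    ([7,15,8,12,15,8],[0,34,50,110,49,43]), ([7,15,8,12,8,15],[0,34,50,110,106,3]),
    ([7,11,15,11,6,15],[0,4,81,115,53,3]), ([7,11,15,8,15,8],[0,4,81,109,49,43]),
    ([7,11,15,8,8,15],[0,4,81,109,106,3]), ([7,11,8,15,8,15],[0,4,101,48,106,3]),
    ([7,8,15,12,15,8],[0,54,118,110,49,43]), ([7,8,15,12,8,15],[0,54,118,110,106,3]),
    ([9,15,11,15,8,12],[42,48,60,124,59,57]), ([9,15,11,8,15,12],[42,48,60,127,63,57]),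
    ([9,11,8,15,12,15],[42,64,130,152,23,3]), ([1,15,11,1,11,15],[91,93,68,132,67,3]),
    ([1,15,12,1,12,15],[91,93,70,134,23,3])]

theorem cVC : cert [] [] cVW cVF cVS cVT = true := by decide +kernel

def cPW : List (List ℕ) :=
    [[], [1,1], [2,2], [3,3], [4,5], [5,4], [6,7], [7,6], [8,9], [9,8], [10,10], [11,11], [12,12], [15,15],
    [16,16], [5,5,5], [7,7,7], [7,11,9], [9,9,9], [5,7,5,7], [5,9,5,9], [5,2,4,2], [5,6,5,10], [5,6,10,6],
    [5,10,7,10], [5,3,4,3], [7,7,8,11], [7,9,7,9], [7,1,6,1], [7,11,8,8], [7,3,6,3], [9,1,8,1], [9,2,8,2],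
    [9,10,9,10], [9,3,8,3], [1,10,2,10], [1,11,1,11], [1,12,1,12], [1,3,1,3], [2,11,2,12], [2,3,2,3],
    [10,3,10,3], [11,3,11,3], [12,3,12,3], [15,1,15,1], [15,3,15,1,3], [2,15,2,15,2,15], [15,8,15,9],
    [15,11,15,8,12,9], [16,10,15,10], [15,16,15,16,15,16]]

def cPF : Tr :=
    (.node (.node (.node (.node (.node (.node (.node (.node (.node (.node (.node .leaf 196 11 221 .leaf) 60 1
    21 (.node .leaf 1 0 0 .leaf)) 100 1 256 (.node (.node .leaf 311 11 313 .leaf) 160 9 158 .leaf)) 41 2 128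
    (.node (.node (.node .leaf 256 12 100 .leaf) 97 9 97 .leaf) 8 11 7 (.node (.node .leaf 334 11 345 .leaf)
    87 3 80 .leaf))) 19 1 64 (.node (.node (.node (.node .leaf 124 5 140 .leaf) 64 0 78 .leaf) 154 6 320
    (.node (.node .leaf 243 5 325 .leaf) 179 10 140 .leaf)) 63 6 192 (.node (.node (.node .leaf 300 3 273
    .leaf) 119 10 114 .leaf) 32 9 27 (.node (.node .leaf 23 0 183 .leaf) 112 5 231 .leaf)))) 9 6 32 (.node
    (.node (.node (.node (.node .leaf 235 0 169 .leaf) 73 8 40 .leaf) 127 6 288 (.node (.node .leaf 246 4 318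
    .leaf) 134 2 44 .leaf)) 49 11 160 (.node (.node (.node .leaf 234 2 287 .leaf) 108 10 79 .leaf) 25 7 12
    (.node (.node .leaf 211 0 288 .leaf) 210 15 112 .leaf))) 25 4 96 (.node (.node (.node (.node .leaf 264 9
    261 .leaf) 84 2 38 .leaf) 0 12 0 (.node (.node .leaf 254 15 332 .leaf) 185 5 83 .leaf)) 80 6 224 (.node
    (.node (.node .leaf 256 5 213 .leaf) 133 7 145 .leaf) 23 2 39 (.node (.node .leaf 23 0 14 .leaf) 221 12
    189 .leaf))))) 6 1 16 (.node (.node (.node (.node (.node (.node .leaf 173 11 68 .leaf) 35 7 66 .leaf) 112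
    12 272 (.node (.node .leaf 265 5 316 .leaf) 142 9 165 .leaf)) 44 12 144 (.node (.node (.node .leaf 205 5
    281 .leaf) 102 2 33 .leaf) 20 5 19 (.node (.node .leaf 243 0 134 .leaf) 205 8 203 .leaf))) 22 16 80 (.node
    (.node (.node (.node .leaf 175 3 259 .leaf) 73 10 48 .leaf) 204 5 336 (.node (.node .leaf 329 5 326 .leaf)
    80 2 127 .leaf)) 72 4 208 (.node (.node (.node .leaf 276 11 303 .leaf) 130 5 129 .leaf) 13 3 35 (.node
    (.node .leaf 197 0 52 .leaf) 238 9 237 .leaf)))) 13 12 48 (.node (.node (.node (.node (.node .leaf 196 7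
    178 .leaf) 61 3 55 .leaf) 140 12 304 (.node (.node .leaf 170 2 322 .leaf) 174 8 161 .leaf)) 55 15 176
    (.node (.node (.node .leaf 293 5 253 .leaf) 115 11 71 .leaf) 31 6 19 (.node (.node .leaf 300 0 111 .leaf)
    222 9 213 .leaf))) 32 16 112 (.node (.node (.node (.node .leaf 271 11 113 .leaf) 84 15 93 .leaf) 2 6 4
    (.node (.node .leaf 341 15 284 .leaf) 136 12 172 .leaf)) 88 6 240 (.node (.node (.node .leaf 261 9 310
    .leaf) 145 7 147 .leaf) 42 7 42 (.node (.node .leaf 37 0 25 .leaf) 188 2 173 .leaf)))))) 2 12 8 (.node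
    (.node (.node (.node (.node (.node (.node .leaf 200 0 223 .leaf) 64 3 52 .leaf) 109 2 264 (.node (.node
    .leaf 243 4 226 .leaf) 139 3 113 .leaf)) 43 15 136 (.node (.node (.node .leaf 277 10 256 .leaf) 101 7 85
    .leaf) 7 6 10 (.node (.node .leaf 218 9 335 .leaf) 177 10 202 .leaf))) 20 15 72 (.node (.node (.node
    (.node .leaf 255 3 242 .leaf) 39 12 52 .leaf) 175 7 328 (.node (.node .leaf 247 16 281 .leaf) 182 10 141
    .leaf)) 68 6 200 (.node (.node (.node .leaf 302 9 272 .leaf) 125 8 71 .leaf) 34 3 32 (.node (.node .leaf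
    331 0 23 .leaf) 235 9 122 .leaf)))) 11 12 40 (.node (.node (.node (.node (.node .leaf 140 1 167 .leaf) 50
    7 29 .leaf) 130 7 296 (.node (.node .leaf 165 15 320 .leaf) 172 11 63 .leaf)) 51 7 168 (.node (.node
    (.node .leaf 291 11 128 .leaf) 111 3 81 .leaf) 26 10 26 (.node (.node .leaf 322 0 82 .leaf) 214 2 122
    .leaf))) 30 9 104 (.node (.node (.node (.node .leaf 266 7 257 .leaf) 91 5 90 .leaf) 2 5 2 (.node (.node
    .leaf 275 7 338 .leaf) 72 7 187 .leaf)) 85 16 232 (.node (.node (.node .leaf 307 3 264 .leaf) 75 0 105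
    .leaf) 43 9 46 (.node (.node .leaf 34 0 14 .leaf) 247 1 136 .leaf))))) 6 15 24 (.node (.node (.node (.node
    (.node (.node .leaf 107 4 199 .leaf) 70 5 21 .leaf) 122 1 280 (.node (.node .leaf 298 1 269 .leaf) 143 9
    167 .leaf)) 48 15 152 (.node (.node (.node .leaf 203 10 284 .leaf) 104 10 74 .leaf) 25 1 9 (.node (.node
    .leaf 331 0 183 .leaf) 206 8 200 .leaf))) 24 2 88 (.node (.node (.node (.node .leaf 261 5 197 .leaf) 82 7
    45 .leaf) 210 5 344 (.node (.node .leaf 331 7 197 .leaf) 183 7 170 .leaf)) 77 7 216 (.node (.node (.node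
    .leaf 226 0 234 .leaf) 106 15 133 .leaf) 13 9 37 (.node (.node .leaf 273 0 23 .leaf) 240 8 241 .leaf))))
    15 15 56 (.node (.node (.node (.node (.node .leaf 129 1 166 .leaf) 23 5 60 .leaf) 144 7 312 (.node (.node
    .leaf 188 1 324 .leaf) 152 7 176 .leaf)) 58 15 184 (.node (.node (.node .leaf 297 6 157 .leaf) 117 9 72
    .leaf) 32 8 33 (.node (.node .leaf 82 0 52 .leaf) 229 2 104 .leaf))) 38 12 120 (.node (.node (.node (.node
    .leaf 273 7 222 .leaf) 95 3 29 .leaf) 7 3 7 (.node (.node .leaf 339 10 342 .leaf) 179 12 200 .leaf)) 94 4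
    248 (.node (.node (.node .leaf 306 1 307 .leaf) 94 7 155 .leaf) 54 11 37 (.node (.node .leaf 165 0 12
    .leaf) 205 9 250 .leaf))))))) 1 4 4 (.node (.node (.node (.node (.node (.node (.node (.node .leaf 100 0
    216 .leaf) 61 1 22 .leaf) 104 15 260 (.node (.node .leaf 222 5 314 .leaf) 150 5 162 .leaf)) 41 7 132
    (.node (.node (.node .leaf 276 9 163 .leaf) 95 6 98 .leaf) 6 9 6 (.node (.node .leaf 339 0 336 .leaf) 202
    3 147 .leaf))) 19 15 68 (.node (.node (.node (.node .leaf 254 11 97 .leaf) 58 3 69 .leaf) 159 2 324 (.node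
    (.node .leaf 326 1 294 .leaf) 143 10 180 .leaf)) 66 16 196 (.node (.node (.node .leaf 301 8 208 .leaf) 123
    9 121 .leaf) 25 12 32 (.node (.node .leaf 162 0 42 .leaf) 148 2 232 .leaf)))) 11 1 36 (.node (.node (.node
    (.node (.node .leaf 169 9 122 .leaf) 42 9 81 .leaf) 128 12 292 (.node (.node .leaf 320 5 303 .leaf) 171 8
    96 .leaf)) 51 3 164 (.node (.node (.node .leaf 211 7 289 .leaf) 110 10 76 .leaf) 19 2 15 (.node (.node
    .leaf 142 0 39 .leaf) 127 9 211 .leaf))) 27 16 100 (.node (.node (.node (.node .leaf 265 10 214 .leaf) 88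
    8 88 .leaf) 1 11 1 (.node (.node .leaf 334 15 256 .leaf) 71 8 186 .leaf)) 81 16 228 (.node (.node (.node
    .leaf 306 10 288 .leaf) 149 10 148 .leaf) 43 5 38 (.node (.node .leaf 86 0 37 .leaf) 232 11 244 .leaf)))))
    6 5 20 (.node (.node (.node (.node (.node (.node .leaf 162 11 87 .leaf) 50 5 67 .leaf) 114 1 276 (.node
    (.node .leaf 316 2 269 .leaf) 166 6 156 .leaf)) 46 16 148 (.node (.node (.node .leaf 222 2 283 .leaf) 103
    10 40 .leaf) 21 8 22 (.node (.node .leaf 330 0 107 .leaf) 205 7 174 .leaf))) 23 9 84 (.node (.node (.node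
    (.node .leaf 260 10 212 .leaf) 48 11 69 .leaf) 208 1 340 (.node (.node .leaf 330 2 201 .leaf) 183 9 136
    .leaf)) 74 16 212 (.node (.node (.node .leaf 222 0 239 .leaf) 73 15 132 .leaf) 37 9 15 (.node (.node .leaf
    273 0 42 .leaf) 240 10 191 .leaf)))) 15 1 52 (.node (.node (.node (.node (.node .leaf 251 9 110 .leaf) 47
    0 62 .leaf) 142 15 308 (.node (.node .leaf 319 15 323 .leaf) 108 5 122 .leaf)) 56 4 180 (.node (.node
    (.node .leaf 168 2 296 .leaf) 116 1 54 .leaf) 32 10 20 (.node (.node .leaf 84 0 23 .leaf) 227 9 218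
    .leaf))) 35 12 116 (.node (.node (.node (.node .leaf 241 5 272 .leaf) 76 9 94 .leaf) 5 10 4 (.node (.node
    .leaf 231 1 333 .leaf) 194 3 93 .leaf)) 90 6 244 (.node (.node (.node .leaf 310 1 308 .leaf) 153 5 97
    .leaf) 52 5 52 (.node (.node .leaf 45 0 4 .leaf) 221 9 248 .leaf)))))) 4 15 12 (.node (.node (.node (.node
    (.node (.node (.node .leaf 224 0 113 .leaf) 22 5 65 .leaf) 110 6 268 (.node (.node .leaf 180 1 315 .leaf)
    164 9 140 .leaf)) 44 3 140 (.node (.node (.node .leaf 228 6 279 .leaf) 101 3 71 .leaf) 15 10 12 (.node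
    (.node .leaf 226 0 80 .leaf) 203 3 181 .leaf))) 21 15 76 (.node (.node (.node (.node .leaf 257 7 215
    .leaf) 69 5 36 .leaf) 197 7 332 (.node (.node .leaf 326 2 328 .leaf) 127 5 44 .leaf)) 68 16 204 (.node
    (.node (.node .leaf 273 12 302 .leaf) 126 8 73 .leaf) 12 9 34 (.node (.node .leaf 39 0 195 .leaf) 200 10
    236 .leaf)))) 12 16 44 (.node (.node (.node (.node (.node .leaf 155 5 178 .leaf) 45 4 16 .leaf) 134 1 300
    (.node (.node .leaf 322 9 315 .leaf) 137 5 88 .leaf)) 53 15 172 (.node (.node (.node .leaf 282 1 219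
    .leaf) 113 10 68 .leaf) 29 10 16 (.node (.node .leaf 264 0 86 .leaf) 136 5 216 .leaf))) 30 16 108 (.node
    (.node (.node (.node .leaf 249 11 267 .leaf) 93 11 24 .leaf) 3 8 3 (.node (.node .leaf 340 10 304 .leaf)
    191 6 137 .leaf)) 87 4 236 (.node (.node (.node .leaf 309 9 300 .leaf) 120 4 106 .leaf) 14 5 47 (.node
    (.node .leaf 42 0 12 .leaf) 181 9 247 .leaf))))) 8 16 28 (.node (.node (.node (.node (.node (.node .leaf
    195 2 147 .leaf) 48 2 70 .leaf) 124 4 284 (.node (.node .leaf 318 1 199 .leaf) 170 10 134 .leaf)) 49 4 156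
    (.node (.node (.node .leaf 163 5 285 .leaf) 39 8 106 .leaf) 25 11 12 (.node (.node .leaf 261 0 201 .leaf)
    205 12 194 .leaf))) 24 6 92 (.node (.node (.node (.node .leaf 263 7 262 .leaf) 83 11 82 .leaf) 0 3 0
    (.node (.node .leaf 331 5 222 .leaf) 184 9 170 .leaf)) 79 4 220 (.node (.node (.node .leaf 226 1 87 .leaf)
    143 11 51 .leaf) 39 11 11 (.node (.node .leaf 12 0 87 .leaf) 219 7 88 .leaf)))) 16 6 60 (.node (.node
    (.node (.node (.node .leaf 203 6 252 .leaf) 57 0 16 .leaf) 145 4 316 (.node (.node .leaf 325 9 324 .leaf)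
    178 9 154 .leaf)) 60 16 188 (.node (.node (.node .leaf 299 9 175 .leaf) 118 1 38 .leaf) 19 16 8 (.node
    (.node .leaf 333 0 81 .leaf) 85 9 230 .leaf))) 39 16 124 (.node (.node (.node (.node .leaf 138 2 273
    .leaf) 39 10 96 .leaf) 8 3 8 (.node (.node .leaf 344 11 336 .leaf) 201 3 107 .leaf)) 96 15 252 (.node
    (.node (.node .leaf 312 9 144 .leaf) 89 12 158 .leaf) 56 9 49 (.node (.node .leaf 12 0 10 .leaf) 196 6 248
    .leaf)))))))) 0 16 2 (.node (.node (.node (.node (.node (.node (.node (.node (.node .leaf 136 2 196 .leaf)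
    61 11 16 .leaf) 100 12 258 (.node (.node .leaf 314 9 311 .leaf) 119 7 160 .leaf)) 41 5 130 (.node (.node
    (.node .leaf 275 10 204 .leaf) 88 3 97 .leaf) 9 8 9 (.node (.node .leaf 338 7 342 .leaf) 202 9 200
    .leaf))) 19 11 66 (.node (.node (.node (.node .leaf 124 12 51 .leaf) 40 1 66 .leaf) 157 1 322 (.node
    (.node .leaf 247 2 325 .leaf) 157 9 180 .leaf)) 65 15 194 (.node (.node (.node .leaf 301 9 199 .leaf) 44 9
    114 .leaf) 27 7 27 (.node (.node .leaf 195 0 30 .leaf) 214 9 231 .leaf)))) 9 12 34 (.node (.node (.node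
    (.node (.node .leaf 169 3 127 .leaf) 79 9 76 .leaf) 128 6 290 (.node (.node .leaf 287 10 319 .leaf) 134 8
    162 .leaf)) 50 16 162 (.node (.node (.node .leaf 289 9 288 .leaf) 109 10 77 .leaf) 11 3 6 (.node (.node
    .leaf 325 0 23 .leaf) 204 8 210 .leaf))) 27 2 98 (.node (.node (.node (.node .leaf 265 4 145 .leaf) 85 2
    46 .leaf) 1 8 1 (.node (.node .leaf 295 6 314 .leaf) 186 1 75 .leaf)) 80 12 226 (.node (.node (.node .leaf
    304 2 271 .leaf) 147 8 136 .leaf) 40 3 23 (.node (.node .leaf 200 0 14 .leaf) 243 10 242 .leaf))))) 6 3 18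
    (.node (.node (.node (.node (.node (.node .leaf 173 15 125 .leaf) 67 2 47 .leaf) 113 12 274 (.node (.node
    .leaf 299 6 316 .leaf) 159 10 165 .leaf)) 46 11 146 (.node (.node (.node .leaf 283 9 280 .leaf) 103 7 69
    .leaf) 22 7 21 (.node (.node .leaf 318 0 225 .leaf) 205 11 94 .leaf))) 23 7 82 (.node (.node (.node (.node
    .leaf 260 8 107 .leaf) 42 1 42 .leaf) 204 11 338 (.node (.node .leaf 233 7 329 .leaf) 152 11 181 .leaf))
    72 16 210 (.node (.node (.node .leaf 220 1 286 .leaf) 132 11 41 .leaf) 36 3 16 (.node (.node .leaf 306 0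
    86 .leaf) 239 3 226 .leaf)))) 14 2 50 (.node (.node (.node (.node (.node .leaf 138 7 164 .leaf) 81 10 58
    .leaf) 142 7 306 (.node (.node .leaf 323 1 195 .leaf) 161 11 79 .leaf)) 56 2 178 (.node (.node (.node
    .leaf 296 5 131 .leaf) 115 2 115 .leaf) 20 11 31 (.node (.node .leaf 300 0 81 .leaf) 150 8 223 .leaf))) 34
    16 114 (.node (.node (.node (.node .leaf 209 5 271 .leaf) 92 9 86 .leaf) 5 9 4 (.node (.node .leaf 333 10
    341 .leaf) 117 6 193 .leaf)) 88 12 242 (.node (.node (.node .leaf 282 12 310 .leaf) 153 10 132 .leaf) 52 9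
    45 (.node (.node .leaf 152 0 34 .leaf) 211 5 188 .leaf)))))) 3 4 10 (.node (.node (.node (.node (.node
    (.node (.node .leaf 100 4 136 .leaf) 65 5 32 .leaf) 109 5 266 (.node (.node .leaf 315 3 277 .leaf) 163 9
    138 .leaf)) 44 1 138 (.node (.node (.node .leaf 278 8 154 .leaf) 101 2 31 .leaf) 14 9 12 (.node (.node
    .leaf 218 6 335 .leaf) 150 3 177 .leaf))) 21 9 74 (.node (.node (.node (.node .leaf 256 11 222 .leaf) 65 1
    73 .leaf) 195 15 330 (.node (.node .leaf 328 9 316 .leaf) 141 0 127 .leaf)) 68 11 202 (.node (.node (.node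
    .leaf 249 8 245 .leaf) 96 2 125 .leaf) 12 7 34 (.node (.node .leaf 124 0 65 .leaf) 236 3 223 .leaf)))) 12
    2 42 (.node (.node (.node (.node (.node .leaf 157 15 157 .leaf) 23 6 45 .leaf) 133 5 298 (.node (.node
    .leaf 254 8 321 .leaf) 90 2 137 .leaf)) 52 15 170 (.node (.node (.node .leaf 133 2 291 .leaf) 111 1 111
    .leaf) 27 3 14 (.node (.node .leaf 84 0 85 .leaf) 175 9 215 .leaf))) 30 12 106 (.node (.node (.node (.node
    .leaf 267 9 164 .leaf) 92 10 91 .leaf) 2 2 2 (.node (.node .leaf 340 6 326 .leaf) 97 1 189 .leaf)) 87 1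
    234 (.node (.node (.node .leaf 308 2 161 .leaf) 75 9 70 .leaf) 47 11 15 (.node (.node .leaf 200 0 12
    .leaf) 247 9 159 .leaf))))) 8 8 26 (.node (.node (.node (.node (.node (.node .leaf 134 6 199 .leaf) 70 3
    43 .leaf) 123 2 282 (.node (.node .leaf 311 2 317 .leaf) 170 1 56 .leaf)) 49 2 154 (.node (.node (.node
    .leaf 154 7 284 .leaf) 106 2 83 .leaf) 25 10 11 (.node (.node .leaf 273 0 134 .leaf) 206 3 136 .leaf))) 24
    4 90 (.node (.node (.node (.node .leaf 262 10 221 .leaf) 82 1 46 .leaf) 0 1 0 (.node (.node .leaf 331 15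
    306 .leaf) 181 12 170 .leaf)) 77 15 218 (.node (.node (.node .leaf 287 6 211 .leaf) 106 5 135 .leaf) 38 3
    21 (.node (.node .leaf 52 0 85 .leaf) 219 0 240 .leaf)))) 16 4 58 (.node (.node (.node (.node (.node .leaf
    252 10 124 .leaf) 58 1 37 .leaf) 144 11 314 (.node (.node .leaf 325 7 322 .leaf) 136 7 109 .leaf)) 60 12
    186 (.node (.node (.node .leaf 298 9 279 .leaf) 100 9 113 .leaf) 10 15 33 (.node (.node .leaf 45 0 101
    .leaf) 230 5 185 .leaf))) 38 16 122 (.node (.node (.node (.node .leaf 273 9 270 .leaf) 43 7 96 .leaf) 7 16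
    7 (.node (.node .leaf 336 9 343 .leaf) 201 7 200 .leaf)) 94 6 250 (.node (.node (.node .leaf 312 5 207
    .leaf) 158 1 133 .leaf) 54 3 31 (.node (.node .leaf 297 0 12 .leaf) 99 15 250 .leaf))))))) 1 16 6 (.node
    (.node (.node (.node (.node (.node (.node (.node .leaf 202 0 173 .leaf) 63 1 24 .leaf) 108 6 262 (.node
    (.node .leaf 255 10 314 .leaf) 100 3 162 .leaf)) 42 16 134 (.node (.node (.node .leaf 277 8 197 .leaf) 70
    9 99 .leaf) 8 9 10 (.node (.node .leaf 210 12 335 .leaf) 117 7 202 .leaf))) 20 7 70 (.node (.node (.node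
    (.node .leaf 158 2 254 .leaf) 45 2 45 .leaf) 166 12 326 (.node (.node .leaf 281 10 327 .leaf) 159 9 181
    .leaf)) 68 4 198 (.node (.node (.node .leaf 260 5 301 .leaf) 125 5 95 .leaf) 13 5 13 (.node (.node .leaf
    42 0 134 .leaf) 234 3 222 .leaf)))) 11 6 38 (.node (.node (.node (.node (.node .leaf 179 4 154 .leaf) 29
    11 81 .leaf) 129 12 294 (.node (.node .leaf 252 5 320 .leaf) 172 8 149 .leaf)) 51 5 166 (.node (.node
    (.node .leaf 290 1 219 .leaf) 111 5 40 .leaf) 26 11 10 (.node (.node .leaf 134 0 81 .leaf) 122 3 211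
    .leaf))) 29 12 102 (.node (.node (.node (.node .leaf 265 15 116 .leaf) 89 1 41 .leaf) 1 7 1 (.node (.node
    .leaf 337 11 210 .leaf) 187 1 76 .leaf)) 83 5 230 (.node (.node (.node .leaf 152 2 306 .leaf) 151 11 73
    .leaf) 43 11 13 (.node (.node .leaf 100 0 14 .leaf) 246 8 242 .leaf))))) 6 7 22 (.node (.node (.node
    (.node (.node (.node .leaf 200 5 80 .leaf) 70 7 30 .leaf) 119 2 278 (.node (.node .leaf 269 5 315 .leaf)
    167 5 159 .leaf)) 47 16 150 (.node (.node (.node .leaf 284 2 183 .leaf) 99 2 103 .leaf) 24 16 9 (.node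
    (.node .leaf 205 0 22 .leaf) 122 5 195 .leaf))) 23 15 86 (.node (.node (.node (.node .leaf 212 0 217
    .leaf) 70 1 71 .leaf) 210 1 342 (.node (.node .leaf 226 10 330 .leaf) 107 7 183 .leaf)) 77 3 214 (.node
    (.node (.node .leaf 280 0 285 .leaf) 133 9 123 .leaf) 37 10 34 (.node (.node .leaf 42 0 84 .leaf) 241 11
    88 .leaf)))) 15 7 54 (.node (.node (.node (.node (.node .leaf 251 3 166 .leaf) 47 12 16 .leaf) 144 4 310
    (.node (.node .leaf 324 9 305 .leaf) 176 1 123 .leaf)) 56 7 182 (.node (.node (.node .leaf 297 8 292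
    .leaf) 85 8 116 .leaf) 33 11 9 (.node (.node .leaf 100 0 42 .leaf) 175 5 228 .leaf))) 36 6 118 (.node
    (.node (.node (.node .leaf 263 1 272 .leaf) 95 5 71 .leaf) 7 8 7 (.node (.node .leaf 333 11 318 .leaf) 199
    5 198 .leaf)) 92 2 246 (.node (.node (.node .leaf 181 2 305 .leaf) 155 15 115 .leaf) 47 9 53 (.node (.node
    .leaf 25 0 152 .leaf) 250 1 202 .leaf)))))) 5 15 14 (.node (.node (.node (.node (.node (.node (.node .leaf
    183 5 87 .leaf) 66 2 55 .leaf) 112 1 270 (.node (.node .leaf 307 7 315 .leaf) 164 10 155 .leaf)) 44 5 142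
    (.node (.node (.node .leaf 281 11 124 .leaf) 37 12 101 .leaf) 16 8 16 (.node (.node .leaf 287 0 127 .leaf)
    174 11 203 .leaf))) 22 12 78 (.node (.node (.node (.node .leaf 259 10 187 .leaf) 52 2 52 .leaf) 204 1 334
    (.node (.node .leaf 294 9 298 .leaf) 182 1 107 .leaf)) 71 15 206 (.node (.node (.node .leaf 274 9 263
    .leaf) 128 15 88 .leaf) 19 9 35 (.node (.node .leaf 314 0 42 .leaf) 237 5 200 .leaf)))) 13 6 46 (.node
    (.node (.node (.node (.node .leaf 143 1 164 .leaf) 67 0 61 .leaf) 137 11 302 (.node (.node .leaf 322 3 197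
    .leaf) 174 10 122 .leaf)) 54 15 174 (.node (.node (.node .leaf 292 2 132 .leaf) 115 7 40 .leaf) 22 10 30
    (.node (.node .leaf 113 0 111 .leaf) 122 6 220 .leaf))) 31 16 110 (.node (.node (.node (.node .leaf 270 9
    256 .leaf) 92 8 93 .leaf) 3 15 3 (.node (.node .leaf 341 5 304 .leaf) 172 9 192 .leaf)) 87 11 238 (.node
    (.node (.node .leaf 162 1 309 .leaf) 136 11 133 .leaf) 50 10 45 (.node (.node .leaf 30 0 12 .leaf) 247 10
    188 .leaf))))) 9 4 30 (.node (.node (.node (.node (.node (.node .leaf 127 12 164 .leaf) 72 9 68 .leaf) 124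
    7 286 (.node (.node .leaf 226 7 318 .leaf) 170 11 147 .leaf)) 49 6 158 (.node (.node (.node .leaf 287 12
    143 .leaf) 74 12 96 .leaf) 11 2 6 (.node (.node .leaf 200 0 23 .leaf) 199 9 208 .leaf))) 24 12 94 (.node
    (.node (.node (.node .leaf 263 10 220 .leaf) 84 5 42 .leaf) 0 10 0 (.node (.node .leaf 332 7 331 .leaf)
    121 6 184 .leaf)) 80 1 222 (.node (.node (.node .leaf 226 3 222 .leaf) 145 3 117 .leaf) 39 3 22 (.node
    (.node .leaf 214 0 34 .leaf) 172 2 221 .leaf)))) 16 12 62 (.node (.node (.node (.node (.node .leaf 124 2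
    87 .leaf) 55 6 36 .leaf) 148 12 318 (.node (.node .leaf 325 11 242 .leaf) 179 9 155 .leaf)) 63 4 190
    (.node (.node (.node .leaf 162 5 299 .leaf) 119 8 49 .leaf) 27 9 33 (.node (.node .leaf 322 0 52 .leaf)
    230 15 209 .leaf))) 40 8 126 (.node (.node (.node (.node .leaf 256 0 258 .leaf) 97 10 41 .leaf) 8 6 7
    (.node (.node .leaf 337 9 345 .leaf) 201 10 87 .leaf)) 97 7 254 (.node (.node (.node .leaf 313 5 261
    .leaf) 159 11 56 .leaf) 51 9 44 (.node (.node .leaf 10 0 1 .leaf) 196 2 177 .leaf))))))))) 0 15 1 (.node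
    (.node (.node (.node (.node (.node (.node (.node (.node (.node .leaf 177 0 136 .leaf) 61 7 60 (.node .leaf
    0 15 0 .leaf)) 100 5 257 (.node (.node .leaf 197 5 313 .leaf) 160 1 121 .leaf)) 41 4 129 (.node (.node
    (.node .leaf 275 8 204 .leaf) 89 2 97 .leaf) 7 12 5 (.node (.node .leaf 345 1 338 .leaf) 199 6 87 .leaf)))
    19 6 65 (.node (.node (.node (.node .leaf 124 9 122 .leaf) 64 12 22 .leaf) 154 12 321 (.node (.node .leaf
    325 5 226 .leaf) 179 15 64 .leaf)) 63 12 193 (.node (.node (.node .leaf 167 2 300 .leaf) 114 9 51 .leaf)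
    20 16 26 (.node (.node .leaf 40 0 23 .leaf) 231 9 87 .leaf)))) 9 7 33 (.node (.node (.node (.node (.node
    .leaf 169 2 87 .leaf) 74 9 22 .leaf) 127 11 289 (.node (.node .leaf 319 2 182 .leaf) 134 3 113 .leaf)) 49
    12 161 (.node (.node (.node .leaf 288 5 181 .leaf) 109 9 107 .leaf) 11 0 18 (.node (.node .leaf 183 0 40
    .leaf) 210 10 210 .leaf))) 25 16 97 (.node (.node (.node (.node .leaf 264 10 213 .leaf) 85 5 50 .leaf) 1 1
    1 (.node (.node .leaf 332 10 295 .leaf) 185 7 185 .leaf)) 80 7 225 (.node (.node (.node .leaf 264 7 277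
    .leaf) 146 1 83 .leaf) 40 2 22 (.node (.node .leaf 265 0 37 .leaf) 242 2 93 .leaf))))) 6 2 17 (.node
    (.node (.node (.node (.node (.node .leaf 173 12 152 .leaf) 27 5 66 .leaf) 113 1 273 (.node (.node .leaf
    298 10 316 .leaf) 157 6 165 .leaf)) 45 15 145 (.node (.node (.node .leaf 239 2 281 .leaf) 98 11 102 .leaf)
    20 9 19 (.node (.node .leaf 300 0 113 .leaf) 205 10 195 .leaf))) 23 4 81 (.node (.node (.node (.node .leaf
    259 5 112 .leaf) 64 7 48 .leaf) 204 7 337 (.node (.node .leaf 329 9 322 .leaf) 107 6 170 .leaf)) 72 6 209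
    (.node (.node (.node .leaf 303 2 263 .leaf) 132 7 131 .leaf) 35 9 20 (.node (.node .leaf 85 0 23 .leaf)
    206 5 238 .leaf)))) 13 15 49 (.node (.node (.node (.node (.node .leaf 197 1 178 .leaf) 61 12 19 .leaf) 142
    1 305 (.node (.node .leaf 195 12 322 .leaf) 171 15 161 .leaf)) 55 16 177 (.node (.node (.node .leaf 293 1
    156 .leaf) 115 3 45 .leaf) 31 10 21 (.node (.node .leaf 81 0 111 .leaf) 223 2 142 .leaf))) 33 16 113
    (.node (.node (.node (.node .leaf 271 10 208 .leaf) 83 15 92 .leaf) 5 7 4 (.node (.node .leaf 233 6 341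
    .leaf) 193 1 94 .leaf)) 88 7 241 (.node (.node (.node .leaf 264 8 310 .leaf) 152 1 109 .leaf) 51 10 49
    (.node (.node .leaf 247 0 12 .leaf) 188 3 195 .leaf)))))) 2 15 9 (.node (.node (.node (.node (.node (.node
    (.node .leaf 150 12 132 .leaf) 64 5 64 .leaf) 109 3 265 (.node (.node .leaf 315 10 309 .leaf) 113 2 140
    .leaf)) 43 16 137 (.node (.node (.node .leaf 154 1 277 .leaf) 101 9 82 .leaf) 10 1 4 (.node (.node .leaf
    275 5 218 .leaf) 177 5 100 .leaf))) 21 2 73 (.node (.node (.node (.node .leaf 256 6 213 .leaf) 64 2 64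
    .leaf) 184 2 329 (.node (.node .leaf 328 11 299 .leaf) 103 15 182 .leaf)) 68 7 201 (.node (.node (.node
    .leaf 302 2 245 .leaf) 125 1 99 .leaf) 34 9 14 (.node (.node .leaf 247 0 39 .leaf) 235 3 127 .leaf)))) 11
    15 41 (.node (.node (.node (.node (.node .leaf 178 3 157 .leaf) 29 7 81 .leaf) 131 2 297 (.node (.node
    .leaf 321 2 160 .leaf) 63 7 172 .leaf)) 51 12 169 (.node (.node (.node .leaf 290 8 291 .leaf) 95 7 111
    .leaf) 27 1 14 (.node (.node .leaf 324 0 84 .leaf) 123 10 215 .leaf))) 30 11 105 (.node (.node (.node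
    (.node .leaf 175 11 266 .leaf) 91 6 90 .leaf) 2 9 2 (.node (.node .leaf 338 10 335 .leaf) 189 10 128
    .leaf)) 86 2 233 (.node (.node (.node .leaf 196 15 307 .leaf) 135 0 120 .leaf) 47 7 46 (.node (.node .leaf
    14 0 12 .leaf) 247 3 205 .leaf))))) 7 15 25 (.node (.node (.node (.node (.node (.node .leaf 107 5 68
    .leaf) 70 10 65 .leaf) 122 7 281 (.node (.node .leaf 317 8 262 .leaf) 168 10 156 .leaf)) 48 16 153 (.node
    (.node (.node .leaf 264 12 284 .leaf) 105 9 70 .leaf) 25 8 25 (.node (.node .leaf 314 0 113 .leaf) 206 9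
    202 .leaf))) 24 3 89 (.node (.node (.node (.node .leaf 261 10 222 .leaf) 82 5 29 .leaf) 210 6 345 (.node
    (.node .leaf 331 10 323 .leaf) 183 1 181 .leaf)) 77 9 217 (.node (.node (.node .leaf 287 4 247 .leaf) 135
    3 105 .leaf) 38 5 12 (.node (.node .leaf 256 0 23 .leaf) 94 2 241 .leaf)))) 16 2 57 (.node (.node (.node
    (.node (.node .leaf 252 1 201 .leaf) 52 8 58 .leaf) 144 9 313 (.node (.node .leaf 325 6 246 .leaf) 123 6
    109 .leaf)) 60 9 185 (.node (.node (.node .leaf 246 1 297 .leaf) 117 10 100 .leaf) 33 1 12 (.node (.node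
    .leaf 318 0 29 .leaf) 229 15 181 .leaf))) 38 15 121 (.node (.node (.node (.node .leaf 273 8 256 .leaf) 96
    3 30 .leaf) 7 5 7 (.node (.node .leaf 210 2 339 .leaf) 200 15 186 .leaf)) 94 5 249 (.node (.node (.node
    .leaf 312 7 311 .leaf) 157 5 156 .leaf) 54 10 38 (.node (.node .leaf 297 0 25 .leaf) 179 11 250
    .leaf))))))) 1 5 5 (.node (.node (.node (.node (.node (.node (.node (.node .leaf 236 0 183 .leaf) 62 1 23
    .leaf) 107 2 261 (.node (.node .leaf 314 2 262 .leaf) 51 2 162 .leaf)) 41 12 133 (.node (.node (.node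
    .leaf 270 2 276 .leaf) 66 7 99 .leaf) 8 7 10 (.node (.node .leaf 336 2 210 .leaf) 202 15 125 .leaf))) 20 1
    69 (.node (.node (.node (.node .leaf 254 10 129 .leaf) 58 2 58 .leaf) 165 1 325 (.node (.node .leaf 327 2
    252 .leaf) 181 10 142 .leaf)) 68 2 197 (.node (.node (.node .leaf 301 2 144 .leaf) 125 7 115 .leaf) 14 6
    14 (.node (.node .leaf 256 0 42 .leaf) 232 9 91 .leaf)))) 11 5 37 (.node (.node (.node (.node (.node .leaf
    157 2 179 .leaf) 50 8 81 .leaf) 129 6 293 (.node (.node .leaf 320 1 264 .leaf) 172 1 93 .leaf)) 51 4 165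
    (.node (.node (.node .leaf 247 5 289 .leaf) 110 9 108 .leaf) 19 3 15 (.node (.node .leaf 331 0 40 .leaf)
    77 2 211 .leaf))) 29 5 101 (.node (.node (.node (.node .leaf 265 11 200 .leaf) 88 10 63 .leaf) 1 12 1
    (.node (.node .leaf 336 5 335 .leaf) 103 11 186 .leaf)) 82 9 229 (.node (.node (.node .leaf 182 5 306
    .leaf) 150 10 147 .leaf) 43 6 37 (.node (.node .leaf 256 0 14 .leaf) 246 5 242 .leaf))))) 6 6 21 (.node
    (.node (.node (.node (.node (.node .leaf 200 2 142 .leaf) 69 9 64 .leaf) 117 2 277 (.node (.node .leaf 269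
    4 307 .leaf) 166 10 158 .leaf)) 47 15 149 (.node (.node (.node .leaf 280 2 213 .leaf) 55 5 103 .leaf) 24 8
    24 (.node (.node .leaf 309 0 100 .leaf) 195 5 108 .leaf))) 23 10 85 (.node (.node (.node (.node .leaf 260
    11 123 .leaf) 69 12 70 .leaf) 209 2 341 (.node (.node .leaf 324 6 330 .leaf) 109 11 183 .leaf)) 77 1 213
    (.node (.node (.node .leaf 287 0 289 .leaf) 126 15 131 .leaf) 37 2 20 (.node (.node .leaf 138 0 12 .leaf)
    241 7 240 .leaf)))) 15 6 53 (.node (.node (.node (.node (.node .leaf 251 1 190 .leaf) 47 1 23 .leaf) 143 2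
    309 (.node (.node .leaf 324 4 300 .leaf) 175 10 121 .leaf)) 56 6 181 (.node (.node (.node .leaf 297 4 168
    .leaf) 116 2 43 .leaf) 33 7 32 (.node (.node .leaf 225 0 29 .leaf) 228 10 184 .leaf))) 35 15 117 (.node
    (.node (.node (.node .leaf 272 7 137 .leaf) 74 15 94 .leaf) 2 11 5 (.node (.node .leaf 333 9 226 .leaf)
    197 15 178 .leaf)) 90 12 245 (.node (.node (.node .leaf 305 15 310 .leaf) 155 1 117 .leaf) 53 10 43 (.node
    (.node .leaf 306 0 25 .leaf) 249 6 164 .leaf)))))) 4 16 13 (.node (.node (.node (.node (.node (.node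
    (.node .leaf 100 11 80 .leaf) 66 9 65 .leaf) 110 12 269 (.node (.node .leaf 309 16 309 .leaf) 164 2 100
    .leaf)) 44 4 141 (.node (.node (.node .leaf 281 7 220 .leaf) 43 1 101 .leaf) 15 9 13 (.node (.node .leaf
    87 0 222 .leaf) 75 15 203 .leaf))) 21 16 77 (.node (.node (.node (.node .leaf 258 2 163 .leaf) 69 2 69
    .leaf) 203 16 333 (.node (.node .leaf 269 8 326 .leaf) 127 10 182 .leaf)) 70 15 205 (.node (.node (.node
    .leaf 302 1 274 .leaf) 128 8 128 .leaf) 35 10 27 (.node (.node .leaf 39 0 30 .leaf) 177 8 236 .leaf)))) 13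
    1 45 (.node (.node (.node (.node (.node .leaf 140 7 163 .leaf) 45 9 58 .leaf) 134 11 301 (.node (.node
    .leaf 322 10 300 .leaf) 173 10 136 .leaf)) 53 16 173 (.node (.node (.node .leaf 292 1 242 .leaf) 113 9 112
    .leaf) 20 6 30 (.node (.node .leaf 243 0 81 .leaf) 217 9 80 .leaf))) 31 15 109 (.node (.node (.node (.node
    .leaf 263 9 268 .leaf) 93 10 90 .leaf) 3 11 3 (.node (.node .leaf 340 5 233 .leaf) 192 1 92 .leaf)) 87 6
    237 (.node (.node (.node .leaf 309 11 226 .leaf) 120 9 43 .leaf) 50 9 42 (.node (.node .leaf 30 0 42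
    .leaf) 101 15 247 .leaf))))) 9 2 29 (.node (.node (.node (.node (.node (.node .leaf 117 5 109 .leaf) 71 2
    54 .leaf) 124 6 285 (.node (.node .leaf 318 2 244 .leaf) 170 3 68 .leaf)) 49 5 157 (.node (.node (.node
    .leaf 286 5 154 .leaf) 106 3 74 .leaf) 17 0 11 (.node (.node .leaf 256 0 162 .leaf) 207 9 197 .leaf))) 24
    7 93 (.node (.node (.node (.node .leaf 263 11 110 .leaf) 84 9 83 .leaf) 0 9 0 (.node (.node .leaf 287 16
    331 .leaf) 184 3 72 .leaf)) 79 5 221 (.node (.node (.node .leaf 226 2 287 .leaf) 145 1 49 .leaf) 38 8 39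
    (.node (.node .leaf 213 0 34 .leaf) 219 10 191 .leaf)))) 16 7 61 (.node (.node (.node (.node (.node .leaf
    169 0 124 .leaf) 16 2 16 .leaf) 148 1 317 (.node (.node .leaf 325 10 324 .leaf) 178 10 138 .leaf)) 63 2
    189 (.node (.node (.node .leaf 299 2 166 .leaf) 118 3 60 .leaf) 26 15 32 (.node (.node .leaf 231 0 81
    .leaf) 83 10 230 .leaf))) 40 7 125 (.node (.node (.node (.node .leaf 138 16 273 .leaf) 96 1 85 .leaf) 3 5
    8 (.node (.node .leaf 345 10 344 .leaf) 85 15 201 .leaf)) 97 6 253 (.node (.node (.node .leaf 313 9 312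
    .leaf) 159 7 158 .leaf) 56 10 44 (.node (.node .leaf 242 0 10 .leaf) 196 9 195 .leaf)))))))) 1 2 3 (.node
    (.node (.node (.node (.node (.node (.node (.node (.node .leaf 150 0 206 .leaf) 60 8 61 .leaf) 101 16 259
    (.node (.node .leaf 313 7 314 .leaf) 162 10 145 .leaf)) 41 6 131 (.node (.node (.node .leaf 276 8 138
    .leaf) 98 5 55 .leaf) 9 10 6 (.node (.node .leaf 335 2 344 .leaf) 202 7 193 .leaf))) 19 12 67 (.node
    (.node (.node (.node .leaf 253 10 130 .leaf) 64 11 40 .leaf) 157 12 323 (.node (.node .leaf 222 16 325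
    .leaf) 142 6 180 .leaf)) 65 16 195 (.node (.node (.node .leaf 301 7 279 .leaf) 120 3 75 .leaf) 12 12 14
    (.node (.node .leaf 309 0 42 .leaf) 232 10 86 .leaf)))) 10 16 35 (.node (.node (.node (.node (.node .leaf
    169 5 140 .leaf) 81 2 34 .leaf) 128 7 291 (.node (.node .leaf 188 6 319 .leaf) 171 9 54 .leaf)) 51 1 163
    (.node (.node (.node .leaf 289 3 281 .leaf) 80 9 77 .leaf) 15 5 11 (.node (.node .leaf 165 0 47 .leaf) 211
    10 152 .leaf))) 27 4 99 (.node (.node (.node (.node .leaf 265 9 201 .leaf) 61 5 85 .leaf) 1 3 1 (.node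
    (.node .leaf 295 5 273 .leaf) 186 2 171 .leaf)) 80 15 227 (.node (.node (.node .leaf 306 11 188 .leaf) 149
    1 86 .leaf) 41 8 41 (.node (.node .leaf 86 0 265 .leaf) 244 5 92 .leaf))))) 6 4 19 (.node (.node (.node
    (.node (.node (.node .leaf 237 0 134 .leaf) 67 3 55 .leaf) 113 15 275 (.node (.node .leaf 259 11 316
    .leaf) 157 11 142 .leaf)) 46 15 147 (.node (.node (.node .leaf 283 12 163 .leaf) 103 8 48 .leaf) 22 11 6
    (.node (.node .leaf 333 0 212 .leaf) 79 7 205 .leaf))) 23 8 83 (.node (.node (.node (.node .leaf 260 9 109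
    .leaf) 48 1 31 .leaf) 207 16 339 (.node (.node .leaf 330 1 319 .leaf) 134 4 80 .leaf)) 73 16 211 (.node
    (.node (.node .leaf 283 0 281 .leaf) 131 8 132 .leaf) 37 5 15 (.node (.node .leaf 295 0 42 .leaf) 240 5
    172 .leaf)))) 14 16 51 (.node (.node (.node (.node (.node .leaf 163 11 164 .leaf) 60 5 81 .leaf) 142 12
    307 (.node (.node .leaf 323 2 250 .leaf) 174 7 79 .leaf)) 56 3 179 (.node (.node (.node .leaf 296 10 293
    .leaf) 54 12 115 .leaf) 32 5 22 (.node (.node .leaf 273 0 81 .leaf) 216 9 224 .leaf))) 35 1 115 (.node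
    (.node (.node (.node .leaf 272 2 249 .leaf) 94 9 79 .leaf) 5 6 2 (.node (.node .leaf 333 6 340 .leaf) 194
    1 132 .leaf)) 90 1 243 (.node (.node (.node .leaf 207 7 310 .leaf) 130 6 153 .leaf) 52 10 42 (.node (.node
    .leaf 152 0 12 .leaf) 165 9 188 .leaf)))))) 3 16 11 (.node (.node (.node (.node (.node (.node (.node .leaf
    100 6 77 .leaf) 65 3 53 .leaf) 110 5 267 (.node (.node .leaf 315 15 315 .leaf) 163 10 154 .leaf)) 44 2 139
    (.node (.node (.node .leaf 278 15 207 .leaf) 101 10 60 .leaf) 14 10 13 (.node (.node .leaf 218 11 218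
    .leaf) 203 1 200 .leaf))) 21 12 75 (.node (.node (.node (.node .leaf 257 5 136 .leaf) 73 7 64 .leaf) 196 1
    331 (.node (.node .leaf 184 5 328 .leaf) 127 4 142 .leaf)) 68 12 203 (.node (.node (.node .leaf 245 11 138
    .leaf) 126 11 125 .leaf) 25 6 34 (.node (.node .leaf 281 0 65 .leaf) 198 7 236 .leaf)))) 12 5 43 (.node
    (.node (.node (.node (.node .leaf 154 3 180 .leaf) 59 0 45 .leaf) 133 10 299 (.node (.node .leaf 322 7 246
    .leaf) 137 9 148 .leaf)) 53 11 171 (.node (.node (.node .leaf 282 0 290 .leaf) 112 10 72 .leaf) 29 8 29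
    (.node (.node .leaf 242 0 52 .leaf) 216 11 80 .leaf))) 30 15 107 (.node (.node (.node (.node .leaf 267 2
    112 .leaf) 93 7 92 .leaf) 2 3 2 (.node (.node .leaf 340 8 318 .leaf) 190 3 129 .leaf)) 87 2 235 (.node
    (.node (.node .leaf 219 12 308 .leaf) 75 11 30 .leaf) 47 10 46 (.node (.node .leaf 142 0 30 .leaf) 152 6
    247 .leaf))))) 8 15 27 (.node (.node (.node (.node (.node (.node .leaf 134 7 87 .leaf) 33 5 70 .leaf) 124
    1 283 (.node (.node .leaf 317 12 199 .leaf) 170 9 145 .leaf)) 49 3 155 (.node (.node (.node .leaf 281 9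
    285 .leaf) 38 9 106 .leaf) 25 3 9 (.node (.node .leaf 213 0 214 .leaf) 132 12 206 .leaf))) 24 5 91 (.node
    (.node (.node (.node .leaf 262 1 137 .leaf) 30 2 82 .leaf) 0 2 0 (.node (.node .leaf 314 5 331 .leaf) 184
    1 119 .leaf)) 79 2 219 (.node (.node (.node .leaf 280 4 163 .leaf) 142 5 141 .leaf) 39 7 38 (.node (.node
    .leaf 52 0 23 .leaf) 219 5 172 .leaf)))) 16 5 59 (.node (.node (.node (.node (.node .leaf 179 7 252 .leaf)
    53 2 60 .leaf) 145 2 315 (.node (.node .leaf 325 8 305 .leaf) 77 5 173 .leaf)) 60 15 187 (.node (.node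
    (.node .leaf 298 6 162 .leaf) 112 9 100 .leaf) 19 0 28 (.node (.node .leaf 212 0 81 .leaf) 230 2 120
    .leaf))) 39 15 123 (.node (.node (.node (.node .leaf 273 10 197 .leaf) 54 9 96 .leaf) 8 2 5 (.node (.node
    .leaf 344 6 343 .leaf) 201 11 72 .leaf)) 94 10 251 (.node (.node (.node .leaf 208 2 312 .leaf) 158 3 94
    .leaf) 25 5 54 (.node (.node .leaf 246 0 4 .leaf) 250 10 196 .leaf))))))) 2 1 7 (.node (.node (.node
    (.node (.node (.node (.node (.node .leaf 238 0 162 .leaf) 63 3 41 .leaf) 108 7 263 (.node (.node .leaf 314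
    3 243 .leaf) 162 9 139 .leaf)) 43 8 135 (.node (.node (.node .leaf 277 9 207 .leaf) 66 10 99 .leaf) 8 10
    10 (.node (.node .leaf 335 9 227 .leaf) 152 12 202 .leaf))) 20 12 71 (.node (.node (.node (.node .leaf 255
    1 221 .leaf) 29 1 29 .leaf) 174 4 327 (.node (.node .leaf 188 15 327 .leaf) 182 11 119 .leaf)) 68 5 199
    (.node (.node (.node .leaf 279 11 208 .leaf) 125 10 55 .leaf) 34 1 32 (.node (.node .leaf 81 0 42 .leaf)
    235 5 140 .leaf)))) 11 7 39 (.node (.node (.node (.node (.node .leaf 155 2 180 .leaf) 81 7 50 .leaf) 129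
    16 295 (.node (.node .leaf 174 2 320 .leaf) 172 10 137 .leaf)) 51 6 167 (.node (.node (.node .leaf 291 7
    290 .leaf) 111 8 102 .leaf) 26 8 10 (.node (.node .leaf 246 0 45 .leaf) 214 8 87 .leaf))) 30 1 103 (.node
    (.node (.node (.node .leaf 266 5 117 .leaf) 89 10 89 .leaf) 2 10 1 (.node (.node .leaf 263 15 337 .leaf)
    187 3 121 .leaf)) 83 16 231 (.node (.node (.node .leaf 307 2 265 .leaf) 151 2 105 .leaf) 46 5 14 (.node
    (.node .leaf 34 0 47 .leaf) 246 9 233 .leaf))))) 6 12 23 (.node (.node (.node (.node (.node (.node .leaf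
    113 7 80 .leaf) 70 11 35 .leaf) 121 4 279 (.node (.node .leaf 269 10 269 .leaf) 167 10 157 .leaf)) 48 8
    151 (.node (.node (.node .leaf 284 3 142 .leaf) 104 9 31 .leaf) 24 10 24 (.node (.node .leaf 281 0 124
    .leaf) 206 1 205 .leaf))) 23 16 87 (.node (.node (.node (.node .leaf 212 9 80 .leaf) 43 12 58 .leaf) 210 4
    343 (.node (.node .leaf 205 16 226 .leaf) 120 15 183 .leaf)) 77 4 215 (.node (.node (.node .leaf 222 2 281
    .leaf) 121 9 133 .leaf) 37 3 20 (.node (.node .leaf 42 0 23 .leaf) 241 10 190 .leaf)))) 15 12 55 (.node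
    (.node (.node (.node (.node .leaf 164 5 251 .leaf) 23 11 52 .leaf) 144 6 311 (.node (.node .leaf 324 15
    261 .leaf) 176 3 79 .leaf)) 56 12 183 (.node (.node (.node .leaf 297 7 165 .leaf) 117 8 68 .leaf) 33 10 19
    (.node (.node .leaf 82 0 58 .leaf) 134 9 228 .leaf))) 37 15 119 (.node (.node (.node (.node .leaf 270 12
    263 .leaf) 95 10 36 .leaf) 7 10 3 (.node (.node .leaf 342 15 270 .leaf) 200 3 183 .leaf)) 93 12 247 (.node
    (.node (.node .leaf 305 12 306 .leaf) 76 11 155 .leaf) 54 7 53 (.node (.node .leaf 25 0 12 .leaf) 250 3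
    159 .leaf)))))) 5 16 15 (.node (.node (.node (.node (.node (.node (.node .leaf 198 0 107 .leaf) 66 3 47
    .leaf) 112 7 271 (.node (.node .leaf 316 3 266 .leaf) 165 2 150 .leaf)) 44 7 143 (.node (.node (.node
    .leaf 281 5 262 .leaf) 102 1 102 .leaf) 17 8 17 (.node (.node .leaf 325 0 200 .leaf) 204 15 100 .leaf)))
    22 15 79 (.node (.node (.node (.node .leaf 110 2 259 .leaf) 81 1 81 .leaf) 204 4 335 (.node (.node .leaf
    294 7 208 .leaf) 182 8 152 .leaf)) 72 2 207 (.node (.node (.node .leaf 303 10 286 .leaf) 128 1 88 .leaf)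
    13 2 35 (.node (.node .leaf 197 0 82 .leaf) 199 7 237 .leaf)))) 13 7 47 (.node (.node (.node (.node (.node
    .leaf 167 3 138 .leaf) 61 2 47 .leaf) 140 6 303 (.node (.node .leaf 322 15 322 .leaf) 174 3 152 .leaf)) 54
    16 175 (.node (.node (.node .leaf 165 11 292 .leaf) 115 8 64 .leaf) 31 9 30 (.node (.node .leaf 52 0 58
    .leaf) 221 6 195 .leaf))) 32 2 111 (.node (.node (.node (.node .leaf 270 10 207 .leaf) 92 5 93 .leaf) 3 7
    3 (.node (.node .leaf 341 8 330 .leaf) 146 15 192 .leaf)) 87 12 239 (.node (.node (.node .leaf 310 2 260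
    .leaf) 123 7 136 .leaf) 50 11 42 (.node (.node .leaf 34 0 12 .leaf) 188 9 142 .leaf))))) 9 5 31 (.node
    (.node (.node (.node (.node (.node .leaf 197 12 188 .leaf) 73 4 48 .leaf) 127 1 287 (.node (.node .leaf
    300 6 318 .leaf) 139 0 134 .leaf)) 49 7 159 (.node (.node (.node .leaf 287 3 283 .leaf) 107 10 80 .leaf)
    11 8 11 (.node (.node .leaf 247 0 142 .leaf) 201 9 209 .leaf))) 25 2 95 (.node (.node (.node (.node .leaf
    174 5 263 .leaf) 84 1 53 .leaf) 0 11 0 (.node (.node .leaf 332 11 207 .leaf) 185 9 61 .leaf)) 80 4 223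
    (.node (.node (.node .leaf 226 6 300 .leaf) 145 11 121 .leaf) 34 5 39 (.node (.node .leaf 231 0 23 .leaf)
    191 1 108 .leaf)))) 16 15 63 (.node (.node (.node (.node (.node .leaf 124 3 127 .leaf) 55 1 39 .leaf) 152
    4 319 (.node (.node .leaf 325 15 264 .leaf) 179 1 68 .leaf)) 63 5 191 (.node (.node (.node .leaf 300 7 234
    .leaf) 119 9 56 .leaf) 27 12 33 (.node (.node .leaf 324 0 23 .leaf) 231 10 209 .leaf))) 40 16 127 (.node
    (.node (.node (.node .leaf 256 2 163 .leaf) 97 15 97 .leaf) 5 1 8 (.node (.node .leaf 345 15 268 .leaf) 87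
    5 113 .leaf)) 97 12 255 (.node (.node (.node .leaf 313 2 199 .leaf) 82 15 159 .leaf) 59 9 58 (.node (.node
    .leaf 322 0 1 .leaf) 196 3 165 .leaf))))))))))

def cPS : List (ℕ × ℕ × List ℕ) :=
    [(0,0,[]), (0,0,[]), (0,0,[]), (0,0,[]), (0,0,[]), (0,0,[]), (0,0,[]), (0,0,[]), (0,0,[]), (0,0,[]),
    (0,0,[]), (0,0,[]), (0,0,[]), (0,0,[]), (0,0,[]), (0,0,[]), (0,0,[]), (0,0,[]), (0,0,[]), (0,0,[]),
    (0,0,[]), (0,0,[]), (0,0,[]), (0,0,[]), (0,0,[]), (0,0,[]), (0,0,[]), (0,0,[]), (0,0,[]), (0,0,[]),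
    (0,0,[]), (0,0,[]), (0,0,[]), (0,0,[]), (0,0,[]), (0,0,[]), (0,0,[]), (0,0,[]), (0,0,[]), (0,0,[]),
    (0,0,[]), (0,0,[]), (0,0,[]), (0,0,[]), (0,0,[]), (0,0,[]), (0,0,[]), (0,0,[]), (0,0,[]), (0,0,[]),
    (0,0,[]), (0,0,[]), (0,0,[]), (0,0,[]), (0,0,[]), (0,0,[]), (0,0,[]), (0,0,[]), (0,0,[]), (0,0,[]),
    (0,0,[]), (0,0,[]), (0,0,[]), (0,0,[]), (0,0,[]), (0,0,[]), (0,0,[]), (0,0,[]), (0,0,[]), (0,0,[]),
    (0,0,[]), (0,0,[]), (0,0,[]), (0,0,[]), (0,0,[]), (0,0,[]), (0,0,[]), (0,0,[]), (0,0,[]), (0,0,[]),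
    (0,0,[]), (0,0,[]), (0,0,[]), (0,0,[]), (0,0,[]), (0,0,[]), (0,0,[]), (0,0,[]), (0,0,[]), (0,0,[]),
    (0,0,[]), (0,0,[]), (0,0,[]), (0,0,[]), (0,0,[]), (0,0,[]), (0,0,[]), (0,0,[]), (0,0,[]), (0,0,[]),
    (0,0,[]), (0,0,[]), (0,0,[]), (0,0,[]), (0,0,[]), (0,0,[]), (0,0,[]), (0,0,[]), (0,0,[]), (0,0,[]),
    (0,0,[]), (0,0,[]), (0,0,[]), (0,0,[]), (0,0,[]), (0,0,[]), (0,0,[]), (0,0,[]), (0,0,[]), (0,0,[]),
    (0,0,[]), (0,0,[]), (0,0,[]), (0,0,[]), (0,0,[]), (0,0,[]), (0,0,[]), (0,0,[]), (0,0,[]), (0,0,[]),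
    (0,0,[]), (0,0,[]), (0,0,[]), (0,0,[]), (0,0,[]), (0,0,[]), (0,0,[]), (0,0,[]), (0,0,[]), (0,0,[]),
    (0,0,[]), (0,0,[]), (0,0,[]), (0,0,[]), (0,0,[]), (0,0,[]), (0,0,[]), (0,0,[]), (0,0,[]), (0,0,[]),
    (0,0,[]), (0,0,[]), (0,0,[]), (0,0,[]), (0,0,[]), (0,0,[]), (0,0,[]), (0,0,[]), (0,0,[]), (0,0,[]),
    (0,0,[]), (0,0,[]), (0,0,[]), (0,0,[]), (0,0,[]), (0,0,[]), (0,0,[]), (0,0,[]), (0,0,[]), (0,0,[]),
    (0,0,[]), (0,0,[]), (0,0,[]), (0,0,[]), (0,0,[]), (0,0,[]), (0,0,[]), (0,0,[]), (0,0,[]), (0,0,[]),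
    (0,0,[]), (0,0,[]), (0,0,[]), (0,0,[]), (0,0,[]), (0,0,[]), (0,0,[]), (0,0,[]), (0,0,[]), (0,0,[]),
    (0,0,[]), (0,0,[]), (0,0,[]), (0,0,[]), (0,0,[]), (0,0,[]), (0,0,[]), (0,0,[]), (0,0,[]), (0,0,[]),
    (0,0,[]), (0,0,[]), (0,0,[]), (0,0,[]), (0,0,[]), (0,0,[]), (0,0,[]), (0,0,[]), (0,0,[]), (0,0,[]),
    (0,0,[]), (0,0,[]), (0,0,[]), (0,0,[]), (0,0,[]), (0,0,[]), (0,0,[]), (0,0,[]), (0,0,[]), (0,0,[]),
    (0,0,[]), (0,0,[]), (0,0,[]), (0,0,[]), (0,0,[]), (0,0,[]), (0,0,[]), (0,0,[]), (0,0,[]), (0,0,[]),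
    (0,0,[]), (0,0,[]), (0,0,[]), (0,0,[]), (0,0,[]), (0,0,[]), (0,0,[]), (0,0,[]), (0,0,[]), (0,0,[]),
    (0,0,[]), (0,0,[]), (0,0,[]), (0,0,[]), (0,0,[]), (0,0,[]), (0,0,[]), (0,0,[]), (0,0,[]), (0,0,[]),
    (0,0,[]), (0,0,[]), (0,0,[]), (0,0,[]), (0,0,[]), (0,0,[]), (0,0,[]), (0,0,[]), (0,0,[]), (0,0,[]),
    (0,0,[]), (0,0,[]), (0,0,[]), (0,0,[]), (0,0,[]), (0,0,[]), (0,0,[]), (0,0,[]), (0,0,[]), (0,0,[]),
    (0,0,[]), (0,0,[]), (0,0,[]), (0,0,[]), (0,0,[]), (0,0,[]), (0,0,[]), (0,0,[]), (0,0,[]), (0,0,[]),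
    (0,0,[]), (0,0,[]), (0,0,[]), (0,0,[]), (0,0,[]), (0,0,[]), (0,0,[]), (0,0,[]), (0,0,[]), (0,0,[]),
    (0,0,[]), (0,0,[]), (0,0,[]), (0,0,[]), (0,0,[]), (0,0,[]), (0,0,[]), (0,0,[]), (0,0,[]), (0,0,[]),
    (0,0,[]), (0,0,[]), (0,0,[]), (0,0,[]), (0,0,[]), (0,0,[]), (0,0,[]), (0,0,[]), (0,0,[]), (0,0,[]),
    (0,0,[]), (0,0,[]), (0,0,[]), (0,0,[]), (0,0,[]), (0,0,[]), (0,0,[]), (0,0,[]), (0,0,[]), (0,0,[]),
    (0,0,[]), (0,0,[]), (0,0,[]), (0,0,[]), (0,0,[]), (0,0,[]), (0,0,[]), (0,0,[]), (0,0,[]), (0,0,[]),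
    (0,0,[]), (0,0,[]), (0,0,[]), (0,0,[]), (0,0,[]), (0,0,[]), (0,0,[]), (0,0,[]), (0,0,[]), (0,0,[]),
    (0,0,[]), (0,0,[]), (0,0,[]), (0,0,[]), (0,0,[]), (1,0,[]), (1,0,[]), (1,0,[]), (1,0,[]), (1,0,[]),
    (1,0,[]), (1,0,[]), (46,1,[1,690,0]), (49,1,[1,696,0]), (47,1,[1,690,694,0]), (50,1,[1,697,702,696,0]),
    (50,4,[707,1,700,0,706]), (31,0,[710,706,706]), (51,1,[1,698,2]), (26,0,[716,714,717]),
    (35,0,[716,707,717]), (37,2,[716,705,717]), (43,3,[716,709,717]), (34,2,[5,707,4]), (41,1,[5,712,4]),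
    (48,1,[5,1,692,0,4]), (31,0,[728,726,726]), (24,1,[7,717,718]), (21,1,[7,714,8]), (22,1,[7,707,8]),
    (24,1,[718,716,8]), (24,3,[7,715,8]), (28,3,[736,735,721]), (33,2,[13,720,12]), (37,1,[5,717,12]),
    (40,1,[13,724,12]), (26,0,[748,732,749]), (51,0,[748,731,749]), (41,0,[745,722,14]), (45,1,[15,724,14]),
    (23,0,[756,9,4]), (24,1,[752,748,760]), (30,1,[762,13,741]), (19,1,[747,763]), (39,3,[764,15,12]),
    (49,1,[17,720,16]), (51,3,[11,717,16]), (35,2,[773,771,772]), (21,3,[19,732,760]), (22,3,[19,727,760]),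
    (24,3,[19,733,760]), (24,1,[19,749,752]), (30,1,[737,764,776]), (49,3,[23,739,26]), (51,3,[25,743,26]),
    (51,1,[23,743,28]), (35,2,[789,786,791]), (33,2,[31,774,30]), (34,2,[33,774,32]), (17,1,[37,38]),
    (22,1,[37,774,38]), (18,1,[41,42]), (19,1,[774,42]), (28,2,[804,42,802]), (49,1,[47,774,46]),
    (52,1,[17,3,0,10,46]), (51,1,[47,773,811]), (46,1,[17,12,48]), (49,1,[49,747,48]), (51,3,[21,749,48]),
    (47,1,[17,12,750,48]), (50,1,[23,739,769,747,48]), (37,3,[819,814,772,32]), (4,0,[32,824]),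
    (10,0,[825,797,824]), (31,0,[823,816,816]), (43,1,[35,773,821,818]), (5,0,[34,833]), (26,0,[819,830,791]),
    (23,3,[836,826,36]), (27,3,[836,834,36]), (28,3,[783,763,50]), (31,3,[783,767,50]), (35,3,[51,780,845]),
    (46,1,[27,764,52]), (47,1,[27,764,758,52]), (34,2,[57,771,56]), (37,3,[31,773,56]), (24,1,[59,772,38]),
    (26,3,[59,772,42]), (22,1,[59,771,60]), (24,1,[37,773,60]), (26,1,[41,773,60]), (19,1,[860,857]),
    (24,2,[858,59,62]), (25,2,[856,59,62]), (18,1,[63,64]), (19,1,[771,64]), (26,3,[37,773,64]),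
    (28,2,[874,64,872]), (30,1,[831,814,64]), (50,0,[874,17,721,14,778]), (51,0,[55,780,882,876]),
    (16,0,[54,885]), (49,0,[878,883,845]), (33,0,[880,787,849]), (50,4,[879,889,842,882,891]),
    (49,3,[53,50,888]), (51,0,[846,888,870]), (29,0,[890,872,894]), (39,3,[849,892,880]),
    (50,4,[894,53,766,48,816]), (30,2,[849,898,848]), (26,0,[789,905,788]), (39,2,[903,814,66]),
    (45,1,[903,820,66]), (50,5,[27,745,16,770,66]), (30,0,[908,873,880]), (30,2,[908,63,815]),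
    (33,0,[908,878,880]), (51,1,[53,780,68]), (35,0,[920,890,876]), (37,2,[920,848,788]),
    (43,3,[920,850,788]), (35,2,[871,894,921]), (40,1,[31,835,70]), (17,1,[836,72]), (22,1,[836,829,72]),
    (23,1,[39,827,72]), (26,1,[917,818,72]), (27,1,[39,835,72]), (22,3,[932,792,906]), (24,2,[791,836,74]),
    (32,3,[41,835,74]), (18,1,[75,76]), (19,1,[829,76]), (28,2,[950,76,948]), (32,1,[43,835,76]),
    (24,0,[77,72,938]), (41,0,[950,826,44]), (41,0,[804,827,78]), (45,1,[45,835,78]), (49,1,[81,829,80]),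
    (17,1,[944,84]), (24,1,[932,790,84]), (19,1,[942,969]), (24,2,[788,906,90]), (19,2,[91,971]),
    (18,1,[91,92]), (19,1,[792,92]), (26,3,[972,788,92]), (24,0,[93,906,789]), (34,0,[83,787,98]),
    (37,3,[89,789,98]), (41,1,[83,900,98]), (19,0,[989,984]), (51,1,[97,789,100]), (33,0,[89,793,102]),
    (37,1,[83,791,102]), (26,0,[996,990,997]), (25,2,[968,932,104]), (19,2,[105,979]), (18,1,[105,106]),
    (19,1,[934,106]), (26,3,[944,791,106]), (32,1,[862,840,106]), (24,0,[107,836,819]), (49,3,[97,793,110]),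
    (51,3,[87,791,110]), (35,2,[1017,1014,993]), (22,1,[115,795,116]), (30,3,[41,30,118]), (18,1,[119,120]),
    (19,1,[795,120]), (28,2,[1026,120,1024]), (30,1,[43,30,120]), (39,2,[45,30,122]), (46,1,[47,30,124]),
    (47,1,[81,70,930,124]), (40,1,[103,841,126]), (27,0,[1038,999,1039]), (24,2,[870,798,128]),
    (32,3,[105,841,128]), (21,0,[129,37,42]), (19,2,[129,130]), (41,2,[109,839,130]), (44,1,[978,841,130]),
    (19,0,[131,922]), (22,0,[1048,1042,894]), (41,0,[978,839,132]), (45,1,[109,841,132]),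
    (23,0,[1058,983,98]), (33,0,[127,801,136]), (18,1,[857,138]), (19,1,[928,138]), (21,2,[41,38,138]),
    (26,3,[1042,870,138]), (32,1,[968,940,138]), (24,0,[139,798,877]), (41,0,[1068,925,94]),
    (41,0,[1006,936,140]), (49,3,[135,801,142]), (23,2,[1078,1070,144]), (34,2,[960,807,144]),
    (20,1,[807,146]), (49,3,[151,806,156]), (23,3,[956,959,160]), (34,0,[1092,919,82]), (34,2,[1092,912,98]),
    (41,1,[1092,67,56]), (19,0,[988,1094]), (31,0,[1098,1095,985]), (28,0,[1100,1096,1099]),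
    (25,1,[987,1101,161]), (26,1,[987,1102,854,116]), (6,0,[116,1108]), (11,0,[1021,1108]),
    (25,1,[121,855,1103,1062]), (4,0,[1059,1114]), (5,0,[1061,1114]), (14,0,[132,1114]),
    (26,3,[115,855,1104]), (25,0,[1105,854,118]), (30,1,[1032,1106,89,92]), (3,0,[1033,1127]),
    (14,0,[122,1127]), (19,1,[994,1107]), (21,2,[119,1111,1107]), (31,2,[1113,1107,1132]),
    (33,1,[943,88,1112]), (34,1,[1028,1116,1002]), (41,1,[1027,1116,1130,112]), (4,0,[112,1142]),
    (32,2,[930,120,1118]), (40,2,[954,1031,1118]), (39,3,[155,1031,1120,126]), (14,0,[154,1151]),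
    (40,2,[1052,1128,963]), (44,2,[962,1132,1039]), (36,3,[1064,1038,1136]), (23,3,[115,1145,114]),
    (23,1,[1110,1145,1111]), (37,0,[854,1145,855]), (39,1,[103,108,1148]), (41,2,[1152,961,1157]),
    (33,1,[1086,1154,1048]), (19,0,[1156,1087]), (27,0,[930,114,1158]), (42,2,[1159,1160,1158]),
    (34,1,[1136,1161,1137]), (37,0,[1122,1161,1123]), (37,1,[1078,1072,1170]), (21,3,[1085,1172,1040]),
    (37,0,[997,1179,996]), (37,0,[864,144,1182]), (19,1,[1064,1184]), (41,3,[1079,1190,1177]),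
    (39,2,[141,136,1192]), (45,2,[1158,1192,1074]), (18,1,[1107,162]), (21,2,[1104,161,162]),
    (30,1,[977,1128,162]), (23,3,[1200,57,58]), (28,3,[1198,1107,164]), (20,1,[165,166]),
    (22,2,[1094,161,166]), (33,1,[1003,1128,166]), (34,1,[952,959,166]), (24,0,[1101,161,168]),
    (37,2,[981,1128,168]), (24,2,[169,1134,1025]), (34,2,[175,809,174]), (37,3,[1034,812,174]),
    (40,2,[1037,1034,176]), (43,2,[177,812,176]), (17,1,[179,180]), (24,1,[179,812,180]),
    (25,2,[1232,179,182]), (18,1,[183,184]), (19,1,[809,184]), (26,3,[179,812,184]), (28,2,[1238,184,1236]),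
    (24,0,[185,180,1235]), (50,0,[1238,47,775,44,166]), (49,0,[1242,1247,1208]), (49,3,[171,164,1248]),
    (50,5,[157,804,46,808,186]), (20,2,[1252,1090]), (49,2,[1252,157,1089]), (23,0,[1080,1013,188]),
    (37,3,[71,819,188]), (42,1,[57,821,188]), (27,3,[59,821,190]), (21,3,[191,830,84]), (22,3,[191,817,1012]),
    (24,3,[191,916,956]), (37,0,[169,958,1270]), (51,1,[81,819,192]), (52,2,[193,49,754,48,192]),
    (35,0,[1274,965,1275]), (37,2,[1274,1227,1229]), (43,3,[1274,1037,1225]), (23,0,[1051,1057,194]),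
    (25,3,[1284,1146,1261]), (21,3,[197,898,1056]), (22,3,[197,890,1076]), (24,3,[197,899,1056]),
    (21,1,[1216,1102,200]), (22,1,[1200,853,200]), (23,1,[61,56,200]), (24,3,[1124,1105,200]),
    (27,1,[1259,1262,200]), (30,3,[1294,1273,1267]), (41,3,[1298,867,937]), (39,2,[203,1164,202]),
    (41,0,[874,56,202]), (41,1,[1310,893,194]), (30,0,[137,856,204]), (33,2,[1188,860,204]),
    (37,1,[960,858,204]), (21,0,[1314,1174,1147]), (34,1,[1316,1078,1290]), (20,1,[860,206]),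
    (35,1,[1088,858,206]), (19,2,[1066,208]), (41,0,[1206,1205,210]), (34,0,[1330,1209,1214]),
    (34,2,[1330,165,958]), (36,1,[147,947,1332]), (45,2,[1264,210,1336]), (51,3,[159,858,212]),
    (51,1,[157,858,214]), (49,3,[213,861,216]), (51,3,[153,865,216]), (35,2,[1347,1344,1340]),
    (51,1,[151,865,218]), (35,2,[1342,1090,1351]), (23,0,[960,869,220]), (34,2,[1310,879,220]),
    (42,1,[1092,910,220]), (28,1,[1356,1313,1287]), (33,1,[1356,1309,1357]), (51,1,[143,871,222]),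
    (51,1,[135,877,224]), (35,2,[1364,1082,1367]), (30,0,[1154,1055,228]), (33,2,[127,922,228]),
    (38,1,[1195,1068,228]), (40,1,[89,926,228]), (34,1,[1372,1169,1373]), (41,3,[1378,1374,1080]),
    (39,2,[1380,229,230]), (41,0,[970,924,230]), (33,2,[1382,1268,1272]), (49,1,[135,922,232]),
    (49,3,[143,929,232]), (51,3,[199,921,232]), (35,2,[1366,1389,1392]), (35,2,[1393,1390,1365]),
    (30,3,[75,70,234]), (32,3,[119,931,234]), (49,1,[97,942,236]), (49,3,[111,935,236]), (51,3,[227,939,236]),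
    (35,2,[992,1403,1406]), (35,2,[1407,1404,1016]), (45,1,[149,947,238]), (49,3,[241,952,244]),
    (18,1,[1370,248]), (21,2,[1360,1354,248]), (26,3,[1320,1318,248]), (28,2,[1375,1370,248]),
    (30,1,[1289,1155,248]), (23,3,[1418,189,190]), (28,3,[1416,1370,250]), (31,3,[1172,1156,250]),
    (34,2,[255,965,254]), (48,1,[175,47,827,80,254]), (47,3,[1282,1276,1283,1435]), (17,1,[257,258]),
    (18,1,[261,262]), (19,1,[965,262]), (28,2,[1442,262,1440]), (50,0,[1442,81,828,78,1087]),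
    (49,0,[1444,1447,1431]), (50,5,[245,950,80,964,264]), (20,2,[1450,1414]), (49,2,[1450,245,1334]),
    (36,3,[1328,1074,268]), (22,0,[269,966,1332]), (17,1,[281,282]), (19,1,[1018,284]), (46,1,[97,88,288]),
    (47,1,[233,228,1376,288]), (50,1,[241,952,1166,994,288]), (19,0,[1468,1452]), (38,2,[1206,1202,290]),
    (49,1,[271,974,292]), (46,1,[171,1129,296]), (51,3,[295,981,296]), (51,1,[293,981,298]),
    (28,3,[1172,1184,300]), (34,3,[1328,1079,300]), (41,0,[1485,1482,145,148]), (5,0,[1412,1486,1457]),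
    (11,0,[1329,1487]), (13,0,[208,1487]), (6,0,[1458,1488]), (11,0,[268,1488]),
    (50,1,[1455,1333,238,1496,270]), (19,0,[1498,1450]), (28,1,[1474,1498,1470]), (46,1,[217,1189,302]),
    (51,1,[1447,1182,304]), (25,1,[1506,263,258]), (26,0,[1274,262,1507]), (40,2,[1467,1464,308]),
    (47,2,[229,927,96,308]), (50,1,[1514,1372,1152,807,150]), (19,0,[1517,1254]), (17,1,[311,312]),
    (30,3,[1470,1464,314]), (32,3,[1518,309,314]), (39,3,[1522,265,1227]), (18,1,[315,316]),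
    (19,1,[1014,316]), (50,0,[1530,111,935,1306,1296]), (19,2,[315,318]), (38,2,[1469,1464,318]),
    (19,0,[319,1403]), (51,1,[289,987,322]), (26,0,[1540,1502,1481]), (37,2,[1540,1464,993]),
    (43,3,[1540,1466,1392]), (34,0,[277,1019,1544]), (36,1,[1395,1546,1548]), (42,2,[279,276,1550]),
    (33,0,[275,1019,324]), (37,1,[307,993,324]), (36,0,[279,1019,326]), (42,2,[1546,1545,326]),
    (43,2,[309,993,326]), (23,3,[1542,1545,328]), (22,3,[329,1018,282]), (24,1,[329,992,312]),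
    (26,3,[329,992,316]), (19,1,[1566,1569]), (24,1,[311,993,330]), (26,1,[315,993,330]),
    (24,2,[1570,329,332]), (25,2,[1568,329,332]), (19,2,[333,1463]), (26,3,[311,993,334]),
    (46,1,[111,102,338]), (49,3,[289,995,338]), (51,3,[267,997,338]), (47,1,[135,126,1038,338]),
    (50,1,[293,975,1196,1137,338]), (37,3,[1591,1586,1016,276]), (4,0,[276,1596]), (5,0,[1551,1596]),
    (10,0,[1548,1596]), (19,2,[1004,340]), (31,2,[1269,1004,340]), (46,1,[1247,1212,342]),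
    (49,1,[297,1002,342]), (51,3,[273,1001,342]), (50,1,[125,794,1131,1002,342]), (30,0,[1608,185,1035]),
    (37,2,[1613,1608,1240]), (35,2,[1479,1611,1612]), (26,0,[1224,1616,1612]), (51,1,[271,1001,344]),
    (51,3,[243,1009,346]), (47,1,[303,1188,1011,346]), (50,3,[321,1403,237,1007,346]), (49,2,[1631,347,1605]),
    (50,1,[157,1089,1338,1607,1632]), (19,0,[1635,1631]), (26,0,[1627,1636,1343]), (51,1,[241,1009,348]),
    (46,1,[245,1149,350]), (47,1,[157,1031,1118,350]), (32,0,[1644,1637,1628]), (30,2,[1505,1646,1642]),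
    (18,2,[1649,1500]), (26,0,[1624,1650,1346]), (34,0,[307,1015,354]), (37,3,[275,1017,354]),
    (36,0,[309,1015,356]), (40,2,[1593,1586,356]), (43,2,[279,1017,356]), (47,2,[127,840,110,356]),
    (22,3,[359,1014,312]), (24,1,[359,1016,282]), (26,3,[359,1016,284]), (25,2,[1668,359,360]),
    (19,2,[361,1531]), (19,1,[1404,362]), (26,3,[281,1017,362]), (50,0,[1676,237,943,94,1317]),
    (51,0,[253,1319,1680,1678]), (6,0,[1460,1682]), (7,0,[280,1682]), (12,0,[1678,1682]),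
    (46,1,[213,204,1680]), (49,1,[303,1317,1680]), (37,2,[1688,1690,1340]), (30,2,[1586,362,1690]),
    (28,3,[361,362,1692]), (23,2,[1694,1686,1599]), (50,5,[271,970,96,1015,364]), (19,1,[1702,1650]),
    (29,0,[1702,1650,1344]), (49,2,[1702,271,1497]), (31,0,[1594,1474,1703]), (38,2,[1699,1504,1704]),
    (39,1,[1586,364,1712]), (46,1,[237,1139,366]), (49,3,[339,1136,366]), (47,1,[143,136,1159,366]),
    (30,2,[1716,1538,1536]), (20,1,[1029,368]), (22,2,[165,1134,368]), (29,2,[1724,1024,368]),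
    (39,2,[149,1023,370]), (41,0,[341,1140,370]), (33,2,[1730,1490,1194]), (38,3,[1730,1492,204]),
    (46,1,[151,1023,372]), (47,1,[241,1399,1400,372]), (32,0,[1740,1722,1720]), (37,3,[1436,1224,376]),
    (37,0,[1744,255,1275]), (27,3,[257,1037,378]), (24,1,[1622,1224,380]), (30,3,[183,1035,382]),
    (19,2,[383,1615]), (46,0,[1752,1249,1473]), (50,4,[1754,1757,291,292,1474]), (39,2,[187,1035,384]),
    (30,2,[1760,1518,1512]), (46,1,[1447,1171,386]), (47,1,[1247,1212,1045,386]),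
    (48,1,[355,111,839,134,392]), (17,1,[395,396]), (32,3,[1710,1592,398]), (45,0,[1772,365,356]),
    (47,2,[1730,1413,1708,1773]), (18,1,[399,400]), (19,1,[1082,400]), (32,1,[1696,1592,400]),
    (50,0,[1780,143,929,230,1387]), (51,3,[173,168,1784]), (26,0,[1366,400,1786]), (43,1,[1341,1783,1786]),
    (25,1,[1787,401,396]), (19,2,[399,402]), (28,0,[1763,1388,402]), (44,1,[1595,1592,402]),
    (50,2,[1422,141,800,134,402]), (19,0,[403,1389]), (50,4,[1794,1776,1737,1680,1692]),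
    (51,1,[1800,1420,352]), (26,0,[1393,1802,1807]), (43,3,[1806,1798,1481]), (39,2,[1775,1660,404]),
    (45,1,[1714,1592,404]), (46,0,[1812,1776,1730]), (44,0,[1814,1699,1629]), (52,2,[199,53,887,134,406]),
    (49,1,[1817,1490,408]), (51,3,[389,1073,408]), (50,1,[1257,147,148,1490,408]), (28,1,[1822,1819,1636]),
    (19,0,[1818,1823]), (26,0,[1342,1828,1824]), (26,0,[1825,1830,1626]), (46,1,[409,1194,410]),
    (49,1,[1776,1735,410]), (49,3,[1800,1422,410]), (47,1,[271,1304,1302,410]),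
    (50,4,[1840,1800,1429,1448,1444]), (39,3,[1764,1844,1836]), (34,0,[393,1083,412]), (22,3,[415,1082,396]),
    (19,2,[417,1781]), (52,2,[223,889,897,142,418]), (51,3,[419,1365,1855]), (49,1,[1854,1396,1821]),
    (51,1,[303,1183,420]), (35,0,[1860,1693,1689]), (37,2,[1860,1504,1346]), (43,3,[1860,1629,1626]),
    (36,2,[1790,1348,426]), (42,2,[1866,1865,426]), (26,3,[429,1347,1649]), (35,0,[1873,1414,1641]),
    (19,1,[1348,430]), (24,0,[431,1652,1624]), (20,1,[1348,432]), (24,1,[439,1343,1638]),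
    (24,1,[1832,1342,440]), (33,0,[425,1349,442]), (23,3,[1685,1695,444]), (34,2,[1888,1566,1564]),
    (19,2,[447,1877]), (49,3,[435,1349,452]), (51,1,[367,1123,454]), (26,0,[1896,1723,1641]),
    (35,0,[1896,1718,1590]), (34,1,[207,1204,456]), (49,0,[1675,1533,456]), (17,1,[1726,458]),
    (23,1,[1494,1330,458]), (22,3,[1906,1724,1220]), (24,3,[1906,1729,1726]), (49,0,[1853,1785,1910]),
    (51,1,[1915,1913,460]), (26,0,[1916,417,1365]), (35,2,[1787,1852,1917]), (20,2,[1920,1869]),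
    (51,1,[171,168,462]), (37,2,[1924,1477,1478]), (35,2,[1235,1250,1925]), (40,1,[443,1791,466]),
    (23,0,[1553,1789,468]), (34,0,[1871,1868,468]), (42,1,[1695,1791,468]), (27,3,[445,1791,470]),
    (21,3,[471,1793,1770]), (26,3,[471,1787,1778]), (36,2,[1938,1891,1810]), (24,2,[1942,471,472]),
    (18,2,[473,1793]), (19,2,[473,474]), (22,0,[1950,1946,1839]), (45,1,[451,1791,476]),
    (24,2,[1612,1622,478]), (25,2,[1750,1622,478]), (18,1,[479,480]), (19,1,[1223,480]),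
    (26,3,[379,1225,480]), (28,2,[1962,480,1960]), (41,0,[1962,175,186]), (34,2,[1966,1969,1252,436]),
    (7,0,[1957,1971]), (9,0,[478,1971]), (12,0,[1959,1971]), (23,1,[441,436,1972]), (37,0,[1342,436,1976]),
    (41,3,[377,1615,1978]), (41,0,[1238,174,482]), (37,1,[1984,1240,484]), (24,2,[1234,1230,486]),
    (28,3,[487,1233,1929]), (23,0,[1984,1245,490]), (34,2,[1984,1243,490]), (34,0,[465,1251,490]),
    (39,2,[1758,1608,492]), (45,1,[1846,1766,492]), (50,5,[1533,1207,1248,1242,492]), (30,2,[1998,1650,1505]),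
    (33,0,[1998,1703,1712]), (46,0,[1998,271,1304]), (51,3,[375,1301,2008]), (35,2,[1673,2006,2010]),
    (37,2,[1624,1999,2010]), (43,1,[1825,2001,2010]), (26,0,[2011,2005,1861]), (35,0,[2011,2002,1570]),
    (22,3,[495,1252,440]), (25,1,[1562,1519,496]), (30,3,[1796,1760,498]), (32,3,[1528,1524,498]),
    (19,2,[499,1827]), (28,3,[499,1518,1659]), (46,0,[2026,1800,1424]), (51,3,[391,1292,2034]),
    (25,3,[495,498,2036]), (35,2,[1825,2030,2036]), (37,2,[1806,2027,2036]), (43,1,[1571,2029,2036]),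
    (19,1,[2022,2039]), (41,3,[1758,1978,2047,2042]), (4,0,[2042,2048]), (5,0,[1842,2049,1811]),
    (6,0,[1879,2049,1808]), (11,0,[1702,2049,1944]), (12,0,[1624,2049,1806]), (6,0,[1543,2052,1952]),
    (11,0,[1891,2052,1838]), (14,0,[1844,2053]), (6,0,[1878,2055]), (8,0,[430,2055]), (10,0,[1395,2054,1892]),
    (13,0,[1877,2055]), (7,0,[470,2056]), (9,0,[1706,2057,1941]), (13,0,[402,2058]), (14,0,[1804,2058]),
    (15,0,[1801,2058]), (10,0,[1602,2061,1950]), (13,0,[474,2060]), (4,0,[1889,2063]), (7,0,[444,2063]),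
    (9,0,[446,2070]), (6,0,[1770,2076]), (7,0,[394,2076]), (8,0,[1948,2084]), (9,0,[472,2084]),
    (34,1,[1474,2050,2040]), (24,0,[1651,2067,1393]), (41,3,[1560,2072,1694]), (41,3,[2014,2078,392]),
    (41,3,[337,1544,2086,468]), (4,0,[468,2110]), (5,0,[1937,2110]), (7,0,[1933,2110]), (11,0,[1935,2110]),
    (41,2,[1774,2088,1573]), (23,2,[307,312,2120]), (34,1,[1667,2120,1658]), (37,0,[1580,2120,1662]),
    (42,3,[2120,357,354]), (48,5,[2120,1664,1169,1665,2121]), (27,3,[359,356,2122]), (22,2,[1654,2123,1658]),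
    (26,2,[1556,2123,1662]), (37,0,[1562,2124,1671]), (40,1,[275,278,2126]), (32,0,[2128,1568,2045]),
    (47,3,[2128,2131,2129,1769]), (26,2,[1562,2134,1656]), (19,1,[1558,2136]), (35,2,[1350,1254,500]),
    (37,0,[1965,1969,500]), (43,1,[1576,1524,500]), (24,2,[501,496,2024]), (40,2,[2155,2152,1748]),
    (46,1,[1785,1273,502]), (51,3,[247,1270,502]), (30,0,[2160,401,1661]), (30,2,[2160,1778,1813]),
    (37,3,[2163,2160,1786,2113]), (4,0,[2113,2168]), (5,0,[2115,2168]), (7,0,[2117,2168]), (11,0,[2119,2168]),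
    (14,0,[336,2168]), (25,2,[1508,1510,504]), (19,1,[1278,506]), (26,3,[257,1275,506]),
    (41,0,[2182,1281,1526]), (39,2,[1982,1747,508]), (45,1,[483,1282,508]), (30,2,[425,2069,510]),
    (38,1,[443,2073,510]), (17,1,[2067,512]), (21,1,[429,2069,512]), (41,0,[2148,1560,514]),
    (51,1,[373,1301,516]), (37,2,[2202,1738,1351]), (43,3,[2202,1740,1641]), (26,0,[1364,1742,2203]),
    (49,1,[213,206,518]), (49,3,[217,1325,518]), (51,3,[423,1327,518]), (50,1,[245,1334,211,206,518]),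
    (35,2,[1880,1341,2211,2214]), (11,0,[1881,2219]), (23,0,[393,2097,520]), (37,3,[443,1341,520]),
    (25,2,[1884,1832,522]), (30,3,[1751,1980,522]), (18,1,[523,524]), (19,1,[1352,524]),
    (26,3,[439,1343,524]), (24,0,[525,1638,1627]), (34,0,[521,1345,526]), (37,3,[425,1347,526]),
    (27,2,[1466,2104,528]), (36,0,[1782,1345,528]), (43,2,[427,1347,528]), (44,2,[1772,1705,528]),
    (47,2,[1382,1010,216,528]), (17,1,[2104,530]), (21,1,[2196,1650,530]), (28,3,[2254,2198,1875]),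
    (22,1,[2156,2150,532]), (23,1,[2209,2205,532]), (19,1,[2258,2025]), (19,2,[535,2233]),
    (33,0,[511,1397,538]), (37,1,[413,1365,538]), (19,1,[1368,540]), (26,3,[415,1365,540]),
    (24,0,[541,1918,1916]), (41,0,[2262,2260,542]), (23,0,[2276,497,1968]), (21,1,[1622,480,2278]),
    (30,3,[2280,2229,2231]), (39,3,[2282,543,538]), (30,0,[443,2093,544]), (33,2,[511,1394,544]),
    (33,0,[539,1369,544]), (37,1,[393,1367,544]), (37,2,[2292,2144,1656]), (51,0,[2292,1768,1656]),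
    (34,3,[2200,1554,2294,2288]), (4,0,[2201,2299]), (14,0,[514,2299]), (49,1,[1820,1394,548]),
    (51,3,[407,1367,548]), (33,2,[275,1410,550]), (33,0,[325,1409,550]), (34,1,[2308,2294,2290]),
    (34,2,[393,1389,552]), (34,0,[413,1391,552]), (37,3,[511,1393,552]), (33,1,[2314,2144,1654]),
    (34,2,[307,1403,554]), (48,1,[413,143,937,236,554]), (24,1,[557,1641,1898]), (18,1,[1883,560]),
    (19,1,[2176,560]), (21,2,[523,1638,560]), (24,0,[561,1834,1825]), (41,0,[2330,2170,476]),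
    (33,0,[559,2177,564]), (39,1,[325,2179,564]), (41,2,[2340,2301,2194]), (34,1,[1887,2342,2338]),
    (23,3,[2074,2171,566]), (27,3,[1685,2173,566]), (26,3,[567,2163,2167]), (41,3,[2346,1705,526]),
    (32,0,[2348,1668,2133]), (19,2,[569,2331]), (21,0,[569,2174,2136]), (21,2,[2354,567,570]),
    (39,1,[2138,2107,572]), (40,1,[565,2172,572]), (42,0,[2364,2343,1931]), (24,2,[1672,1685,574]),
    (19,2,[575,576]), (44,1,[2330,2172,576]), (19,0,[577,1862]), (22,0,[2370,2368,2006]),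
    (30,3,[1974,1437,578]), (18,1,[579,580]), (19,1,[1433,580]), (28,2,[2382,580,2380]),
    (41,0,[2382,255,264]), (34,2,[2384,2387,1450,562]), (3,0,[2379,2389]), (39,2,[483,1437,582]),
    (41,0,[1442,254,582]), (41,1,[2394,2065,1565]), (24,2,[2180,1438,584]), (30,3,[1575,2159,584]),
    (21,2,[261,258,590]), (26,3,[2398,2180,590]), (37,2,[2404,2400,1585]), (23,2,[2406,2402,592]),
    (34,2,[2394,1445,592]), (21,1,[329,334,2409]), (24,1,[1520,1585,2409]), (33,1,[2410,2392,1995]),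
    (22,1,[557,1452,594]), (25,1,[1540,1471,594]), (35,2,[1640,1452,596]), (37,2,[1576,1522,596]),
    (24,2,[597,594,2420]), (30,0,[467,2101,598]), (40,1,[545,1601,598]), (42,0,[2430,2295,2141]),
    (19,2,[2099,600]), (28,0,[2327,1901,600]), (31,2,[1851,2099,600]), (41,2,[287,1599,600]),
    (22,0,[2434,2095,2211]), (31,1,[1851,2435,2436]), (19,2,[2280,602]), (41,2,[489,1618,602]),
    (34,2,[2449,2446,2276]), (28,3,[2146,2025,2450]), (41,3,[2448,2452,2294]), (39,2,[547,544,2454]),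
    (33,0,[2282,2447,2456]), (25,2,[571,2174,604]), (28,3,[605,2136,2311]), (41,2,[2285,2312,2462]),
    (37,0,[2461,2464,2234]), (30,0,[2328,2466,571,564]), (4,0,[2336,2469,2343]), (5,0,[2372,2469,2365]),
    (10,0,[2357,2469,2338]), (4,0,[2337,2471]), (5,0,[1930,2470,1954]), (6,0,[2376,2473]), (8,0,[2374,2473]),
    (6,0,[2358,2475]), (3,0,[466,2479]), (4,0,[2367,2479]), (5,0,[1931,2479]), (8,0,[2428,2479]),
    (23,0,[2345,2484,2301]), (26,2,[2318,2494,2241]), (41,0,[2270,1552,606]), (19,1,[2012,610]),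
    (26,3,[2368,1672,610]), (24,0,[611,1685,1688]), (41,0,[2500,2014,2080]), (41,0,[2248,2088,612]),
    (45,1,[2352,2348,612]), (48,5,[2508,2250,1384,270,2050]), (48,2,[1633,1733,1777,2088,614]),
    (41,3,[2514,1634,436]), (34,0,[2433,1583,616]), (41,1,[2488,2362,616]), (33,3,[2518,599,1602]),
    (23,3,[2442,2440,618]), (34,0,[2524,2210,520]), (34,2,[2524,2212,526]), (41,3,[2524,2216,562]),
    (29,0,[2529,2496,2316]), (39,2,[2517,2391,2530]), (46,0,[2534,615,608]), (48,0,[2536,2524,519,1903,1904]),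
    (41,3,[2507,1698,2538]), (39,2,[613,608,2540]), (18,1,[621,622]), (21,2,[2532,619,622]),
    (23,3,[2546,413,414]), (34,0,[2441,2438,2548]), (20,1,[2550,624]), (22,2,[2526,619,624]),
    (34,1,[2435,2440,624]), (31,1,[625,2551,2544]), (22,0,[2552,2546,1848]), (19,2,[621,626]),
    (19,0,[627,624]), (24,0,[2565,2554,2224]), (23,1,[2333,2477,2566]), (37,1,[2568,2226,2189]),
    (43,1,[1986,2191,2570]), (27,2,[2490,2566,2572]), (37,3,[2523,1540,628]), (42,1,[553,1467,628]),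
    (48,1,[629,289,1162,288,628]), (37,0,[2576,617,1670]), (51,0,[2577,2580,2576]), (32,0,[2578,2497,2511]),
    (27,3,[2252,1467,630]), (17,2,[631,2243]), (24,3,[631,1471,594]), (24,1,[631,1541,2426]),
    (44,0,[2588,2257,2206]), (41,2,[537,2204,2596]), (23,2,[2508,2590,2598]), (23,0,[629,630,2598]),
    (24,3,[2602,2587,2601]), (37,0,[2605,2599,2593]), (33,2,[2228,1620,632]), (34,1,[2608,2569,2562]),
    (41,3,[2557,2559,2610]), (39,2,[2613,633,634]), (41,0,[1991,1927,634]), (30,0,[2614,1792,2487]),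
    (30,2,[2614,2099,598]), (23,2,[2616,1988,490]), (23,3,[2504,2507,636]), (24,3,[637,2004,2481]),
    (24,1,[637,1861,2018]), (24,2,[2460,2360,638]), (30,3,[2496,2321,638]), (21,0,[639,2123,2164]),
    (23,3,[2630,2464,2237]), (47,2,[2632,2511,2513,2044]), (41,0,[319,306,640]), (34,2,[2640,1534,2186]),
    (30,0,[2416,2414,642]), (33,0,[2583,1667,642]), (37,1,[2433,1580,642]), (40,1,[2144,2128,642]),
    (46,2,[643,2130,642]), (34,3,[2646,629,1589]), (45,0,[2650,2108,2016]), (39,2,[2656,643,644]),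
    (41,0,[2033,2121,644]), (48,5,[2660,2035,1322,1680,2625]), (23,2,[2433,1578,646]), (34,0,[2539,1675,646]),
    (48,1,[521,213,1204,1532,646]), (33,3,[2666,609,2013]), (30,2,[2416,2412,648]), (30,0,[643,1568,648]),
    (33,2,[609,1566,648]), (33,0,[2671,2021,648]), (37,1,[647,1570,648]), (38,1,[2393,2397,648]),
    (46,2,[2633,2639,648]), (24,0,[2672,1992,1987]), (21,2,[2618,2623,2673]), (34,1,[2676,2539,2006]),
    (51,0,[2680,2668,2224]), (39,2,[587,2158,650]), (23,3,[2634,2637,652]), (24,3,[653,1831,2334]),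
    (48,5,[2696,503,1426,2083,2015]), (51,0,[2698,2701,2011]), (19,1,[2422,654]), (29,1,[2595,2422,654]),
    (24,0,[655,1898,1896]), (41,0,[2704,2424,650]), (34,2,[2710,2706,2598]), (33,0,[2606,2712,2694]),
    (31,0,[2445,2419,2715]), (23,0,[2710,2709,656]), (34,0,[2655,1719,656]), (29,0,[2720,2644,1996]),
    (46,1,[2662,2658,658]), (48,2,[1785,1218,292,2103,658]), (30,2,[2724,2629,2670]), (37,3,[2724,2627,2489]),
    (51,0,[2730,659,1825]), (30,0,[2144,2143,660]), (37,1,[2660,2036,660]), (46,2,[2542,2513,660]),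
    (21,0,[2734,2560,2564]), (24,2,[2225,2222,2735]), (51,0,[2736,2663,2627]), (18,1,[2734,662]),
    (19,1,[1848,662]), (50,0,[2748,2325,2322,640,2643]), (51,3,[589,2185,2750]), (25,3,[2740,2747,2752]),
    (26,0,[2292,662,2752]), (46,2,[511,1821,666]), (17,1,[669,670]), (19,1,[1859,672]),
    (50,0,[2762,1854,1369,546,2458]), (19,0,[675,2305]), (26,3,[669,2307,2766]), (30,2,[2694,2716,678]),
    (33,2,[2614,1850,678]), (37,1,[2498,2272,678]), (21,2,[2722,2718,2771]), (23,0,[2498,2275,680]),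
    (34,2,[2726,1852,680]), (48,1,[2346,1709,1909,1914,680]), (24,1,[2778,2775,2776]), (51,1,[2782,2351,664]),
    (25,3,[2776,2784,2787]), (37,0,[2786,681,1917]), (35,2,[2730,2781,2787]), (19,1,[2773,2789]),
    (46,2,[539,1855,682]), (51,1,[2796,2268,676]), (37,2,[2798,683,1857]), (22,3,[685,1859,670]),
    (24,1,[685,1856,686]), (19,1,[2802,2805]), (25,2,[2804,685,688]), (19,2,[689,2763]),
    (49,0,[2265,2764,2810]), (50,1,[2812,2265,2285,2266,2759]), (38,2,[675,666,2814]), (30,0,[683,688,2816]),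
    (37,2,[2809,2816,2768]), (26,0,[2760,2769,2818,2799]), (4,0,[2800,2822]), (41,3,[2820,2806,2824]),
    (50,5,[453,2073,1821,1858,2826]), (20,2,[2828,1894]), (22,0,[2830,669,2305]), (24,1,[669,2307,2832]),
    (19,1,[2830,2835]), (50,5,[1348,434,2837,435,1349,450]), (3,0,[443,2839,2486]), (4,0,[1695,2839,2488]),
    (7,0,[2090,2839,2689]), (6,0,[1700,2839,2575]), (9,0,[2092,2839,2492]), (8,0,[449,2839,2618]),
    (11,0,[2220,2839,2793]), (12,0,[1340,2839,2730]), (13,0,[2072,2839,2521]), (16,0,[158,2839,2733]),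
    (4,0,[2170,2840,2476]), (7,0,[2074,2840,2743]), (6,0,[1789,2840,2566]), (9,0,[2100,2840,2287]),
    (10,0,[1868,2840,1886]), (12,0,[1786,2840,2225]), (13,0,[2086,2840,2195]), (16,0,[172,2840,2692,2844]),
    (7,0,[1685,2843,2480]), (9,0,[575,2843,2482]), (16,0,[252,2843,2744,2862]), (2,0,[2875,2845]),
    (3,0,[1128,2883,649]), (4,0,[959,2883,2691,2876]), (2,0,[2881,2863]), (7,0,[161,2883,2687,2846]),
    (9,0,[1107,2883,2672]), (8,0,[163,2883,2674]), (10,0,[167,2883,2678]), (12,0,[169,2883,2680,2896]),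
    (13,0,[1133,2883,2682]), (15,0,[171,2883,2684]), (2,0,[2891,2847]), (5,0,[1358,2905,2573,2864]),
    (12,0,[1123,2905,1986,2900]), (2,0,[2907,2849]), (3,0,[1362,2911,599,2890]), (2,0,[2912,2911]),
    (2,0,[2891,2867]), (6,0,[160,2915,2665,2896]), (9,0,[1104,2915,2620,2850]), (11,0,[1094,2915,2519,2856]),
    (12,0,[1123,2915,2649,2894]), (2,0,[2908,2925]), (2,0,[2921,2851]), (6,0,[201,2929,2623,2892]),
    (13,0,[1099,2929,2795,2852]), (2,0,[2933,2853]), (3,0,[1180,2935,2791]), (2,0,[2927,2895]),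
    (2,0,[2919,2897]), (8,0,[1707,2855,2729,2940]), (2,0,[2942,2880]), (15,0,[212,2855,659]),
    (2,0,[2923,2857]), (3,0,[1186,2949,2523]), (2,0,[2951,2873]), (16,0,[267,2949,2585,2948]),
    (2,0,[2954,2890]), (2,0,[2945,2889]), (2,0,[2887,2877]), (6,0,[1047,2859,2334,2860]), (2,0,[2963,2861]),
    (16,0,[389,2965,2703,2960]), (2,0,[2947,2967]), (2,0,[2957,2912,2907,2865]), (8,0,[163,2959,2734]),
    (2,0,[2927,2973]), (2,0,[2919,2898]), (15,0,[171,2959,2738]), (8,0,[991,2971,2755]), (2,0,[2957,2917]),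
    (4,0,[82,2983,2295]), (7,0,[1210,2983,2757,2980]), (2,0,[2919,2987]), (2,0,[2989,2983]),
    (2,0,[2989,2953]), (12,0,[169,2991,2292,2974]), (2,0,[2977,2995]), (16,0,[173,2991,2297,2984]),
    (10,0,[919,2998,1869,2869]), (2,0,[3001,2868]), (2,0,[2989,2957,2937]), (10,0,[913,3003,1922,3004]),
    (12,0,[938,3003,2247]), (2,0,[3007,2875]), (11,0,[2244,2871,2239,2902]), (2,0,[3009,3013]),
    (2,0,[3007,2993]), (2,0,[3007,2989,2923]), (6,0,[983,3017,2494,3000]), (9,0,[905,3017,2192,3000]),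
    (14,0,[900,3017,2302,3018]), (2,0,[3025,3011]), (2,0,[2969,2887]), (2,0,[3025,3007,2989]),
    (4,0,[83,3027,2088,3028]), (2,0,[3031,3033]), (2,0,[3025,3023]), (13,0,[822,3027,2249,3008]),
    (2,0,[3035,2969,2961]), (8,0,[915,3041,2005]), (2,0,[3037,3043]), (15,0,[22,3041,2009,2931]),
    (2,0,[3039,3015,2979]), (12,0,[1861,2878,2503,3048]), (2,0,[3045,3051]), (2,0,[3037,3020,2885]),
    (9,0,[830,3055,2413]), (2,0,[3053,3057]), (2,0,[3047,2893]), (3,0,[784,3061,2416,3058]),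
    (2,0,[3063,3025,3007,2997,2901]), (6,0,[6,3061,1992,3064]), (2,0,[3067,3063,3025,3007,2997,2939]),
    (15,0,[0,3069,2653,3068]), (15,0,[0,3070])]

def cPT : List (List ℕ × List ℕ) :=
    [([15],[3073])]

theorem cPC : cert [w2 3] [1,2,3,4,5,6,7,8,9,10,11,12] cPW cPF cPS cPT = true := by decide +kernel

def cQW : List (List ℕ) :=
    [[], [1,1], [2,2], [3,3], [4,5], [5,4], [6,7], [7,6], [8,9], [9,8], [10,10], [11,11], [12,12], [15,15],
    [16,16], [5,5,5], [7,7,7], [7,11,9], [9,9,9], [5,7,5,7], [5,9,5,9], [5,2,4,2], [5,6,5,10], [5,6,10,6],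
    [5,10,7,10], [5,3,4,3], [7,7,8,11], [7,9,7,9], [7,1,6,1], [7,11,8,8], [7,3,6,3], [9,1,8,1], [9,2,8,2],
    [9,10,9,10], [9,3,8,3], [1,10,2,10], [1,11,1,11], [1,12,1,12], [1,3,1,3], [2,11,2,12], [2,3,2,3],
    [10,3,10,3], [11,3,11,3], [12,3,12,3], [5,5,7,4,10], [5,5,7,10,7], [5,5,2,5,2], [5,5,6,4,6], [5,5,10,4,7],
    [5,5,8,4,8], [5,7,5,6,6], [5,7,5,8,11], [5,7,7,5,10], [5,7,4,6,10], [5,7,10,4,6], [5,9,5,11,6],
    [5,9,5,8,8], [5,9,10,11,10], [5,10,5,11,9], [5,10,6,6,10], [5,10,8,11,10], [5,11,4,10,9], [5,11,10,7,9],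
    [7,7,9,9,11], [7,7,1,7,1], [7,7,8,6,8], [7,9,6,11,8], [7,1,11,9,1], [7,1,11,1,9], [7,2,12,9,2],
    [7,11,1,9,1], [7,11,2,9,2], [7,11,10,8,10], [7,3,11,9,3], [9,9,2,9,2], [9,9,10,8,10], [1,2,1,2,3],
    [11,12,11,12,3], [15,1,15,1], [15,3,15,1,3], [2,15,2,15,2,15], [15,8,15,9], [15,11,15,8,12,9],
    [16,10,15,10], [16,2,16,2], [16,3,16,2,3], [1,16,1,16,1,16], [16,8,16,9], [15,16,2,15,16,2,15,16,2]]

def cQF : Tr :=
    (.node (.node (.node (.node (.node (.node (.node (.node (.node (.node (.node .leaf 234 2 86 .leaf) 43 7 21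
    .leaf) 99 15 256 (.node (.node .leaf 224 0 316 .leaf) 147 10 152 .leaf)) 39 12 128 (.node (.node (.node
    .leaf 276 2 283 .leaf) 53 5 95 .leaf) 18 5 17 (.node .leaf 182 5 99 .leaf))) 18 7 64 (.node (.node (.node
    (.node .leaf 256 10 213 .leaf) 27 2 75 .leaf) 187 8 320 (.node (.node .leaf 69 0 68 .leaf) 172 7 172
    .leaf)) 63 15 192 (.node (.node (.node .leaf 309 10 272 .leaf) 125 9 124 .leaf) 35 9 15 (.node .leaf 220 3
    207 .leaf)))) 9 16 32 (.node (.node (.node (.node (.node .leaf 209 1 80 .leaf) 64 4 30 .leaf) 128 16 288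
    (.node (.node .leaf 319 0 82 .leaf) 130 7 100 .leaf)) 52 15 160 (.node (.node (.node .leaf 197 2 295
    .leaf) 111 9 63 .leaf) 28 5 27 (.node .leaf 107 12 203 .leaf))) 27 9 96 (.node (.node (.node (.node .leaf
    270 7 207 .leaf) 70 9 87 .leaf) 5 6 2 (.node (.node .leaf 227 0 0 .leaf) 182 3 175 .leaf)) 79 2 224 (.node
    (.node (.node .leaf 297 5 318 .leaf) 140 10 139 .leaf) 50 9 43 (.node .leaf 113 5 185 .leaf))))) 6 1 16
    (.node (.node (.node (.node (.node (.node .leaf 242 3 153 .leaf) 61 9 60 .leaf) 108 12 272 (.node (.node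
    .leaf 317 0 181 .leaf) 158 10 124 .leaf)) 46 16 144 (.node (.node (.node .leaf 225 12 290 .leaf) 104 8 42
    .leaf) 13 5 13 (.node .leaf 199 8 189 .leaf))) 21 16 80 (.node (.node (.node (.node .leaf 264 10 198
    .leaf) 82 8 82 .leaf) 1 3 1 (.node (.node .leaf 64 0 6 .leaf) 142 16 177 .leaf)) 71 6 208 (.node (.node
    (.node .leaf 305 15 286 .leaf) 117 9 128 .leaf) 41 5 36 (.node .leaf 201 0 154 .leaf)))) 14 2 48 (.node
    (.node (.node (.node (.node .leaf 249 10 174 .leaf) 65 6 63 .leaf) 144 15 304 (.node (.node .leaf 312 0 22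
    .leaf) 169 10 133 .leaf)) 57 15 176 (.node (.node (.node .leaf 300 5 284 .leaf) 114 8 53 .leaf) 30 4 19
    (.node .leaf 212 5 211 .leaf))) 33 12 112 (.node (.node (.node (.node .leaf 278 2 270 .leaf) 91 8 64
    .leaf) 9 8 9 (.node .leaf 78 15 189 .leaf)) 84 15 240 (.node (.node (.node .leaf 306 5 324 .leaf) 147 7
    146 .leaf) 50 8 55 (.node .leaf 228 5 188 .leaf)))))) 2 12 8 (.node (.node (.node (.node (.node (.node
    (.node .leaf 237 6 107 .leaf) 59 12 20 .leaf) 102 6 264 (.node (.node .leaf 248 0 274 .leaf) 156 1 54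
    .leaf)) 42 12 136 (.node (.node (.node .leaf 287 9 286 .leaf) 100 9 98 .leaf) 23 10 11 (.node .leaf 195 9
    190 .leaf))) 20 15 72 (.node (.node (.node (.node .leaf 239 1 260 .leaf) 78 2 44 .leaf) 0 5 0 (.node
    (.node .leaf 319 0 19 .leaf) 175 9 133 .leaf)) 66 12 200 (.node (.node (.node .leaf 309 11 312 .leaf) 121
    15 126 .leaf) 37 11 11 (.node .leaf 184 1 195 .leaf)))) 12 2 40 (.node (.node (.node (.node (.node .leaf
    220 9 246 .leaf) 46 6 59 .leaf) 136 9 296 (.node (.node .leaf 119 0 82 .leaf) 164 3 141 .leaf)) 54 5 168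
    (.node (.node (.node .leaf 205 15 299 .leaf) 77 6 112 .leaf) 23 12 29 (.node .leaf 207 8 161 .leaf))) 31
    16 104 (.node (.node (.node (.node .leaf 255 10 275 .leaf) 89 6 41 .leaf) 7 5 7 (.node (.node .leaf 205 0
    0 .leaf) 187 5 186 .leaf)) 81 5 232 (.node (.node (.node .leaf 262 5 321 .leaf) 144 5 58 .leaf) 52 11 35
    (.node .leaf 223 10 79 .leaf))))) 8 8 24 (.node (.node (.node (.node (.node (.node .leaf 244 9 203 .leaf)
    63 3 55 .leaf) 119 16 280 (.node (.node .leaf 255 0 197 .leaf) 161 10 117 .leaf)) 49 4 152 (.node (.node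
    (.node .leaf 285 1 292 .leaf) 107 11 84 .leaf) 25 1 14 (.node .leaf 201 3 118 .leaf))) 23 2 88 (.node
    (.node (.node (.node .leaf 260 2 266 .leaf) 85 8 86 .leaf) 2 5 2 (.node (.node .leaf 119 0 1 .leaf) 113 6
    179 .leaf)) 73 7 216 (.node (.node (.node .leaf 317 7 235 .leaf) 137 1 47 .leaf) 45 10 44 (.node .leaf 134
    10 134 .leaf)))) 16 6 56 (.node (.node (.node (.node (.node .leaf 171 6 251 .leaf) 74 10 55 .leaf) 176 4
    312 (.node (.node .leaf 183 0 82 .leaf) 156 12 169 .leaf)) 61 16 184 (.node (.node (.node .leaf 306 10 284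
    .leaf) 120 3 75 .leaf) 33 2 13 (.node .leaf 216 4 156 .leaf))) 38 7 120 (.node (.node (.node (.node .leaf
    252 12 279 .leaf) 41 1 93 .leaf) 11 8 11 (.node .leaf 192 1 66 .leaf)) 92 7 248 (.node (.node (.node .leaf
    238 6 295 .leaf) 150 10 137 .leaf) 45 2 57 (.node .leaf 232 1 99 .leaf))))))) 1 4 4 (.node (.node (.node
    (.node (.node (.node (.node (.node .leaf 236 5 235 .leaf) 58 1 22 .leaf) 100 5 260 (.node (.node .leaf 113
    0 309 .leaf) 154 5 147 .leaf)) 42 4 132 (.node (.node (.node .leaf 285 11 139 .leaf) 97 9 37 .leaf) 19 8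
    20 (.node .leaf 194 3 106 .leaf))) 19 9 68 (.node (.node (.node (.node .leaf 253 5 258 .leaf) 77 2 36
    .leaf) 204 16 324 (.node (.node .leaf 68 0 19 .leaf) 174 1 70 .leaf)) 65 16 196 (.node (.node (.node .leaf
    310 10 289 .leaf) 127 11 39 .leaf) 35 8 13 (.node .leaf 87 4 72 .leaf)))) 11 6 36 (.node (.node (.node
    (.node (.node .leaf 187 1 208 .leaf) 67 4 46 .leaf) 134 2 292 (.node (.node .leaf 273 0 264 .leaf) 132 0
    123 .leaf)) 53 16 164 (.node (.node (.node .leaf 299 8 282 .leaf) 112 1 52 .leaf) 29 10 18 (.node .leaf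
    159 5 207 .leaf))) 28 15 100 (.node (.node (.node (.node .leaf 215 15 272 .leaf) 88 12 40 .leaf) 7 8 7
    (.node (.node .leaf 276 0 1 .leaf) 183 7 183 .leaf)) 80 6 228 (.node (.node (.node .leaf 319 1 295 .leaf)
    143 1 100 .leaf) 51 10 41 (.node .leaf 221 8 78 .leaf))))) 6 7 20 (.node (.node (.node (.node (.node
    (.node .leaf 243 8 205 .leaf) 61 6 33 .leaf) 110 5 276 (.node (.node .leaf 319 0 200 .leaf) 160 8 149
    .leaf)) 47 11 148 (.node (.node (.node .leaf 183 5 291 .leaf) 106 7 84 .leaf) 24 7 24 (.node .leaf 180 15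
    200 .leaf))) 22 5 84 (.node (.node (.node (.node .leaf 266 10 187 .leaf) 84 5 83 .leaf) 2 10 1 (.node
    (.node .leaf 268 0 4 .leaf) 115 12 178 .leaf)) 72 5 212 (.node (.node (.node .leaf 243 5 262 .leaf) 130 11
    128 .leaf) 44 5 14 (.node .leaf 133 15 219 .leaf)))) 15 7 52 (.node (.node (.node (.node (.node .leaf 250
    3 139 .leaf) 27 11 69 .leaf) 164 11 308 (.node (.node .leaf 237 0 86 .leaf) 98 7 170 .leaf)) 60 9 180
    (.node (.node (.node .leaf 248 8 303 .leaf) 97 5 116 .leaf) 12 9 31 (.node .leaf 215 2 133 .leaf))) 36 12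
    116 (.node (.node (.node (.node .leaf 279 7 246 .leaf) 93 9 75 .leaf) 10 7 7 (.node .leaf 113 7 190
    .leaf)) 91 16 244 (.node (.node (.node .leaf 238 1 244 .leaf) 148 3 70 .leaf) 57 11 16 (.node .leaf 231 2
    83 .leaf)))))) 4 15 12 (.node (.node (.node (.node (.node (.node (.node .leaf 240 9 238 .leaf) 59 5 59
    .leaf) 105 6 268 (.node (.node .leaf 311 0 241 .leaf) 157 9 52 .leaf)) 45 15 140 (.node (.node (.node
    .leaf 289 2 136 .leaf) 102 9 92 .leaf) 15 5 11 (.node .leaf 196 3 101 .leaf))) 21 8 76 (.node (.node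
    (.node (.node .leaf 262 10 205 .leaf) 81 1 32 .leaf) 0 11 0 (.node (.node .leaf 236 0 19 .leaf) 177 5 144
    .leaf)) 70 2 204 (.node (.node (.node .leaf 254 12 314 .leaf) 122 7 122 .leaf) 38 3 21 (.node .leaf 151 7
    211 .leaf)))) 13 6 44 (.node (.node (.node (.node (.node .leaf 247 1 103 .leaf) 46 1 28 .leaf) 139 15 300
    (.node (.node .leaf 241 0 81 .leaf) 166 15 59 .leaf)) 56 9 172 (.node (.node (.node .leaf 262 16 301
    .leaf) 113 9 66 .leaf) 30 10 17 (.node .leaf 209 7 208 .leaf))) 32 6 108 (.node (.node (.node (.node .leaf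
    276 7 131 .leaf) 90 5 53 .leaf) 8 6 7 (.node .leaf 188 15 173 .leaf)) 82 5 236 (.node (.node (.node .leaf
    323 10 317 .leaf) 87 7 145 .leaf) 54 9 47 (.node .leaf 225 11 106 .leaf))))) 9 5 28 (.node (.node (.node
    (.node (.node (.node .leaf 245 12 226 .leaf) 64 11 33 .leaf) 124 15 284 (.node (.node .leaf 266 0 227
    .leaf) 163 8 146 .leaf)) 50 15 156 (.node (.node (.node .leaf 136 6 293 .leaf) 109 10 83 .leaf) 26 10 16
    (.node .leaf 203 10 200 .leaf))) 25 16 92 (.node (.node (.node (.node .leaf 176 2 268 .leaf) 85 9 79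
    .leaf) 3 7 3 (.node (.node .leaf 255 0 1 .leaf) 181 1 127 .leaf)) 75 16 220 (.node (.node (.node .leaf 317
    11 244 .leaf) 138 8 130 .leaf) 48 7 26 (.node .leaf 150 0 217 .leaf)))) 17 6 60 (.node (.node (.node
    (.node (.node .leaf 253 10 214 .leaf) 75 7 43 .leaf) 179 16 316 (.node (.node .leaf 22 0 146 .leaf) 171 3
    66 .leaf)) 62 6 188 (.node (.node (.node .leaf 308 2 181 .leaf) 123 2 73 .leaf) 33 5 33 (.node .leaf 219 2
    96 .leaf))) 39 4 124 (.node (.node (.node (.node .leaf 213 15 282 .leaf) 95 6 65 .leaf) 15 10 12 (.node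
    .leaf 193 10 182 .leaf)) 97 16 252 (.node (.node (.node .leaf 279 0 238 .leaf) 151 2 92 .leaf) 21 1 45
    (.node .leaf 210 8 233 .leaf)))))))) 0 16 2 (.node (.node (.node (.node (.node (.node (.node (.node (.node
    .leaf 235 3 83 .leaf) 53 1 37 .leaf) 100 3 258 (.node (.node .leaf 187 0 299 .leaf) 153 5 152 .leaf)) 41
    15 130 (.node (.node (.node .leaf 271 9 276 .leaf) 97 2 76 .leaf) 20 7 19 (.node .leaf 194 10 181 .leaf)))
    18 15 66 (.node (.node (.node (.node .leaf 189 5 257 .leaf) 77 9 76 .leaf) 190 5 322 (.node (.node .leaf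
    82 0 68 .leaf) 173 1 69 .leaf)) 64 16 194 (.node (.node (.node .leaf 293 5 309 .leaf) 116 16 125 .leaf) 35
    10 31 (.node .leaf 99 11 99 .leaf)))) 11 1 34 (.node (.node (.node (.node (.node .leaf 214 4 195 .leaf) 65
    2 52 .leaf) 131 3 290 (.node (.node .leaf 82 0 291 .leaf) 98 6 156 .leaf)) 53 8 162 (.node (.node (.node
    .leaf 298 9 293 .leaf) 111 3 43 .leaf) 28 6 17 (.node .leaf 206 8 80 .leaf))) 27 15 98 (.node (.node
    (.node (.node .leaf 272 2 251 .leaf) 72 12 70 .leaf) 5 11 2 (.node (.node .leaf 262 0 2 .leaf) 183 9 181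
    .leaf)) 80 1 226 (.node (.node (.node .leaf 319 8 317 .leaf) 141 10 138 .leaf) 50 5 50 (.node .leaf 221 5
    172 .leaf))))) 6 5 18 (.node (.node (.node (.node (.node (.node .leaf 242 4 151 .leaf) 61 2 53 .leaf) 109
    16 274 (.node (.node .leaf 203 0 82 .leaf) 158 11 58 .leaf)) 47 6 146 (.node (.node (.node .leaf 291 3 225
    .leaf) 105 2 58 .leaf) 24 11 10 (.node .leaf 181 7 200 .leaf))) 22 3 82 (.node (.node (.node (.node .leaf
    265 7 264 .leaf) 82 15 34 .leaf) 1 12 1 (.node (.node .leaf 181 0 1 .leaf) 178 10 125 .leaf)) 72 2 210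
    (.node (.node (.node .leaf 262 7 213 .leaf) 129 2 42 .leaf) 41 11 13 (.node .leaf 154 2 71 .leaf)))) 15 1
    50 (.node (.node (.node (.node (.node .leaf 102 4 249 .leaf) 68 11 19 .leaf) 158 16 306 (.node (.node
    .leaf 208 0 82 .leaf) 143 11 169 .leaf)) 58 6 178 (.node (.node (.node .leaf 303 2 291 .leaf) 116 3 69
    .leaf) 31 9 14 (.node .leaf 212 11 184 .leaf))) 34 6 114 (.node (.node (.node (.node .leaf 278 12 265
    .leaf) 69 8 91 .leaf) 10 2 4 (.node .leaf 190 10 164 .leaf)) 87 10 242 (.node (.node (.node .leaf 231 15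
    324 .leaf) 75 15 147 .leaf) 56 1 19 (.node .leaf 195 5 229 .leaf)))))) 3 4 10 (.node (.node (.node (.node
    (.node (.node (.node .leaf 238 11 238 .leaf) 59 2 59 .leaf) 103 6 266 (.node (.node .leaf 234 0 313 .leaf)
    156 3 62 .leaf)) 44 15 138 (.node (.node (.node .leaf 281 3 262 .leaf) 101 10 70 .leaf) 23 11 12 (.node
    .leaf 176 7 195 .leaf))) 21 4 74 (.node (.node (.node (.node .leaf 261 3 104 .leaf) 80 3 73 .leaf) 0 9 0
    (.node (.node .leaf 19 0 64 .leaf) 176 9 174 .leaf)) 68 16 202 (.node (.node (.node .leaf 313 3 273 .leaf)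
    126 9 122 .leaf) 37 2 21 (.node .leaf 184 8 191 .leaf)))) 12 16 42 (.node (.node (.node (.node (.node
    .leaf 235 1 246 .leaf) 67 6 46 .leaf) 136 11 298 (.node (.node .leaf 234 0 81 .leaf) 165 10 131 .leaf)) 54
    12 170 (.node (.node (.node .leaf 301 10 299 .leaf) 112 16 106 .leaf) 30 7 29 (.node .leaf 161 4 202
    .leaf))) 32 4 106 (.node (.node (.node (.node .leaf 255 5 131 .leaf) 68 12 89 .leaf) 8 3 8 (.node (.node
    .leaf 1 0 0 .leaf) 188 3 170 .leaf)) 81 12 234 (.node (.node (.node .leaf 322 7 279 .leaf) 145 15 111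
    .leaf) 52 3 28 (.node .leaf 223 5 223 .leaf))))) 9 2 26 (.node (.node (.node (.node (.node (.node .leaf
    244 5 244 .leaf) 34 4 63 .leaf) 124 1 282 (.node (.node .leaf 292 0 222 .leaf) 146 15 162 .leaf)) 49 6 154
    (.node (.node (.node .leaf 293 1 244 .leaf) 109 7 108 .leaf) 25 7 25 (.node .leaf 202 8 71 .leaf))) 25 2
    90 (.node (.node (.node (.node .leaf 267 11 134 .leaf) 76 15 85 .leaf) 3 11 3 (.node (.node .leaf 4 0 1
    .leaf) 180 1 121 .leaf)) 74 16 218 (.node (.node (.node .leaf 317 6 203 .leaf) 137 11 117 .leaf) 48 10 43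
    (.node .leaf 164 7 185 .leaf)))) 16 15 58 (.node (.node (.node (.node (.node .leaf 252 2 222 .leaf) 56 5
    74 .leaf) 177 1 314 (.node (.node .leaf 194 0 82 .leaf) 171 1 115 .leaf)) 62 4 186 (.node (.node (.node
    .leaf 307 5 251 .leaf) 121 8 67 .leaf) 33 9 18 (.node .leaf 202 4 218 .leaf))) 38 15 122 (.node (.node
    (.node (.node .leaf 282 8 255 .leaf) 94 2 30 .leaf) 14 9 12 (.node .leaf 126 12 192 .leaf)) 95 16 250
    (.node (.node (.node .leaf 298 0 240 .leaf) 150 3 92 .leaf) 16 12 45 (.node .leaf 233 11 81 .leaf))))))) 1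
    16 6 (.node (.node (.node (.node (.node (.node (.node (.node .leaf 236 6 194 .leaf) 58 10 39 .leaf) 101 15
    262 (.node (.node .leaf 246 0 136 .leaf) 155 11 104 .leaf)) 42 6 134 (.node (.node (.node .leaf 286 9 281
    .leaf) 98 10 73 .leaf) 23 1 9 (.node .leaf 195 1 193 .leaf))) 19 15 70 (.node (.node (.node (.node .leaf
    260 5 259 .leaf) 77 12 76 .leaf) 0 2 0 (.node (.node .leaf 255 0 195 .leaf) 66 7 174 .leaf)) 66 5 198
    (.node (.node (.node .leaf 312 3 208 .leaf) 127 2 110 .leaf) 36 3 19 (.node .leaf 87 6 182 .leaf)))) 11 12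
    38 (.node (.node (.node (.node (.node .leaf 246 2 242 .leaf) 67 7 59 .leaf) 136 5 294 (.node (.node .leaf
    280 0 82 .leaf) 123 5 42 .leaf)) 54 3 166 (.node (.node (.node .leaf 299 11 292 .leaf) 112 3 46 .leaf) 29
    9 25 (.node .leaf 207 1 84 .leaf))) 29 16 102 (.node (.node (.node (.node .leaf 274 10 238 .leaf) 89 3 27
    .leaf) 7 3 7 (.node (.node .leaf 262 0 1 .leaf) 184 9 182 .leaf)) 81 3 230 (.node (.node (.node .leaf 321
    11 262 .leaf) 144 3 124 .leaf) 51 8 45 (.node .leaf 222 10 199 .leaf))))) 6 15 22 (.node (.node (.node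
    (.node (.node (.node .leaf 244 10 183 .leaf) 61 12 34 .leaf) 110 10 278 (.node (.node .leaf 181 0 82
    .leaf) 160 3 143 .leaf)) 48 16 150 (.node (.node (.node .leaf 292 4 165 .leaf) 107 5 106 .leaf) 24 10 24
    (.node .leaf 201 2 71 .leaf))) 22 7 86 (.node (.node (.node (.node .leaf 266 8 265 .leaf) 86 7 85 .leaf) 2
    8 2 (.node (.node .leaf 82 0 1 .leaf) 179 3 128 .leaf)) 73 1 214 (.node (.node (.node .leaf 316 3 274
    .leaf) 133 5 132 .leaf) 45 7 44 (.node .leaf 134 4 54 .leaf)))) 15 15 54 (.node (.node (.node (.node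
    (.node .leaf 251 10 202 .leaf) 72 9 70 .leaf) 171 4 310 (.node (.node .leaf 86 0 22 .leaf) 169 1 170
    .leaf)) 60 16 182 (.node (.node (.node .leaf 304 3 213 .leaf) 119 9 117 .leaf) 32 8 32 (.node .leaf 129 5
    215 .leaf))) 36 16 118 (.node (.node (.node (.node .leaf 279 10 248 .leaf) 93 10 56 .leaf) 8 10 10 (.node
    .leaf 191 11 160 .leaf)) 92 5 246 (.node (.node (.node .leaf 238 4 263 .leaf) 149 11 72 .leaf) 57 1 20
    (.node .leaf 232 2 84 .leaf)))))) 5 15 14 (.node (.node (.node (.node (.node (.node (.node .leaf 242 9 101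
    .leaf) 60 3 51 .leaf) 106 1 270 (.node (.node .leaf 237 0 223 .leaf) 157 10 97 .leaf)) 46 8 142 (.node
    (.node (.node .leaf 289 4 251 .leaf) 103 8 92 .leaf) 17 2 15 (.node .leaf 197 8 187 .leaf))) 21 10 78
    (.node (.node (.node (.node .leaf 263 8 247 .leaf) 81 16 22 .leaf) 1 1 1 (.node (.node .leaf 194 0 6
    .leaf) 177 3 125 .leaf)) 71 3 206 (.node (.node (.node .leaf 315 9 305 .leaf) 128 9 119 .leaf) 39 16 26
    (.node .leaf 175 0 147 .leaf)))) 13 12 46 (.node (.node (.node (.node (.node .leaf 248 11 102 .leaf) 28 12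
    43 .leaf) 140 16 302 (.node (.node .leaf 311 0 81 .leaf) 168 6 123 .leaf)) 56 15 174 (.node (.node (.node
    .leaf 302 2 262 .leaf) 114 10 65 .leaf) 30 8 25 (.node .leaf 209 4 130 .leaf))) 32 12 110 (.node (.node
    (.node (.node .leaf 277 5 255 .leaf) 90 7 88 .leaf) 5 1 8 (.node .leaf 189 11 66 .leaf)) 83 15 238 (.node
    (.node (.node .leaf 248 2 323 .leaf) 146 3 87 .leaf) 43 5 55 (.node .leaf 188 10 227 .leaf))))) 9 7 30
    (.node (.node (.node (.node (.node (.node .leaf 92 11 245 .leaf) 64 10 60 .leaf) 126 16 286 (.node (.node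
    .leaf 82 0 319 .leaf) 143 7 163 .leaf)) 51 15 158 (.node (.node (.node .leaf 294 7 263 .leaf) 111 7 38
    .leaf) 27 7 18 (.node .leaf 107 3 203 .leaf))) 26 12 94 (.node (.node (.node (.node .leaf 256 16 269
    .leaf) 79 7 79 .leaf) 5 7 4 (.node (.node .leaf 243 0 0 .leaf) 181 11 82 .leaf)) 76 16 222 (.node (.node
    (.node .leaf 318 10 293 .leaf) 139 8 124 .leaf) 49 10 47 (.node .leaf 214 16 130 .leaf)))) 17 15 62 (.node
    (.node (.node (.node (.node .leaf 255 1 125 .leaf) 75 1 44 .leaf) 183 2 318 (.node (.node .leaf 235 0 69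
    .leaf) 172 9 57 .leaf)) 62 11 190 (.node (.node (.node .leaf 308 10 298 .leaf) 41 16 124 .leaf) 34 3 16
    (.node .leaf 220 10 176 .leaf))) 39 6 126 (.node (.node (.node (.node .leaf 283 5 178 .leaf) 95 3 78
    .leaf) 16 8 16 (.node .leaf 72 7 193 .leaf)) 99 3 254 (.node (.node (.node .leaf 308 0 273 .leaf) 152 2
    141 .leaf) 53 3 57 (.node .leaf 164 12 233 .leaf))))))))) 0 15 1 (.node (.node (.node (.node (.node (.node
    (.node (.node (.node (.node .leaf 141 11 234 .leaf) 50 11 21 .leaf) 100 2 257 (.node (.node .leaf 317 0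
    244 .leaf) 57 16 152 .leaf)) 40 16 129 (.node (.node (.node .leaf 276 12 244 .leaf) 96 10 68 .leaf) 18 9
    17 (.node .leaf 181 12 193 .leaf))) 18 12 65 (.node (.node (.node (.node .leaf 257 9 253 .leaf) 76 11 75
    .leaf) 187 15 321 (.node (.node .leaf 235 0 68 .leaf) 133 16 172 .leaf)) 64 15 193 (.node (.node (.node
    .leaf 309 9 214 .leaf) 125 2 107 .leaf) 35 2 18 (.node .leaf 220 12 220 .leaf)))) 10 16 33 (.node (.node
    (.node (.node (.node .leaf 214 0 229 .leaf) 64 2 46 .leaf) 129 11 289 (.node (.node .leaf 235 0 82 .leaf)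
    71 5 159 .leaf)) 52 16 161 (.node (.node (.node .leaf 258 5 296 .leaf) 111 11 65 .leaf) 28 9 27 (.node
    .leaf 84 12 84 .leaf))) 27 12 97 (.node (.node (.node (.node .leaf 270 10 234 .leaf) 68 15 87 .leaf) 5 10
    4 (.node (.node .leaf 301 0 0 .leaf) 183 1 122 .leaf)) 79 5 225 (.node (.node (.node .leaf 319 2 297
    .leaf) 140 3 122 .leaf) 50 10 40 (.node .leaf 186 2 113 .leaf))))) 6 4 17 (.node (.node (.node (.node
    (.node (.node .leaf 242 16 96 .leaf) 61 1 38 .leaf) 108 16 273 (.node (.node .leaf 181 5 268 .leaf) 158 3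
    127 .leaf)) 47 3 145 (.node (.node (.node .leaf 291 1 136 .leaf) 104 9 49 .leaf) 8 16 17 (.node .leaf 200
    1 126 .leaf))) 22 2 81 (.node (.node (.node (.node .leaf 264 8 248 .leaf) 82 1 39 .leaf) 1 11 1 (.node
    (.node .leaf 6 0 1 .leaf) 178 5 127 .leaf)) 71 7 209 (.node (.node (.node .leaf 286 11 304 .leaf) 97 15
    128 .leaf) 41 6 35 (.node .leaf 133 0 169 .leaf)))) 14 16 49 (.node (.node (.node (.node (.node .leaf 198
    6 249 .leaf) 68 9 20 .leaf) 153 1 305 (.node (.node .leaf 139 0 82 .leaf) 169 8 147 .leaf)) 58 5 177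
    (.node (.node (.node .leaf 303 1 265 .leaf) 115 9 54 .leaf) 31 1 29 (.node .leaf 212 6 182 .leaf))) 33 15
    113 (.node (.node (.node (.node .leaf 278 1 144 .leaf) 91 10 61 .leaf) 9 10 6 (.node .leaf 190 3 138
    .leaf)) 85 2 241 (.node (.node (.node .leaf 324 11 284 .leaf) 147 11 54 .leaf) 55 1 35 (.node .leaf 229 3
    209 .leaf)))))) 2 15 9 (.node (.node (.node (.node (.node (.node (.node .leaf 237 11 223 .leaf) 59 3 50
    .leaf) 102 7 265 (.node (.node .leaf 181 0 280 .leaf) 156 10 129 .leaf)) 43 15 137 (.node (.node (.node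
    .leaf 287 3 256 .leaf) 100 10 71 .leaf) 23 3 9 (.node .leaf 195 3 130 .leaf))) 20 16 73 (.node (.node
    (.node (.node .leaf 261 5 252 .leaf) 78 4 57 .leaf) 0 7 0 (.node (.node .leaf 291 0 19 .leaf) 176 1 72
    .leaf)) 67 16 201 (.node (.node (.node .leaf 313 9 311 .leaf) 127 8 122 .leaf) 36 8 37 (.node .leaf 184 6
    72 .leaf)))) 12 5 41 (.node (.node (.node (.node (.node .leaf 219 16 246 .leaf) 46 10 67 .leaf) 136 10 297
    (.node (.node .leaf 273 0 230 .leaf) 92 4 164 .leaf)) 54 6 169 (.node (.node (.node .leaf 300 8 284 .leaf)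
    77 10 112 .leaf) 12 12 14 (.node .leaf 207 12 207 .leaf))) 32 3 105 (.node (.node (.node (.node .leaf 165
    7 275 .leaf) 52 9 89 .leaf) 8 2 5 (.node (.node .leaf 321 0 0 .leaf) 187 6 80 .leaf)) 81 7 233 (.node
    (.node (.node .leaf 321 5 243 .leaf) 145 1 113 .leaf) 52 10 36 (.node .leaf 223 8 106 .leaf))))) 8 15 25
    (.node (.node (.node (.node (.node (.node .leaf 244 3 223 .leaf) 63 2 63 .leaf) 122 16 281 (.node (.node
    .leaf 301 0 266 .leaf) 162 8 114 .leaf)) 49 5 153 (.node (.node (.node .leaf 255 7 292 .leaf) 108 10 84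
    .leaf) 25 3 14 (.node .leaf 201 5 175 .leaf))) 23 4 89 (.node (.node (.node (.node .leaf 267 3 252 .leaf)
    77 15 86 .leaf) 3 8 3 (.node (.node .leaf 1 0 5 .leaf) 174 9 179 .leaf)) 73 12 217 (.node (.node (.node
    .leaf 317 2 312 .leaf) 137 3 113 .leaf) 45 4 14 (.node .leaf 130 1 152 .leaf)))) 16 7 57 (.node (.node
    (.node (.node (.node .leaf 252 10 149 .leaf) 74 6 26 .leaf) 176 16 313 (.node (.node .leaf 276 0 146
    .leaf) 138 12 160 .leaf)) 62 2 185 (.node (.node (.node .leaf 306 2 256 .leaf) 120 2 89 .leaf) 33 8 17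
    (.node .leaf 218 10 171 .leaf))) 38 8 121 (.node (.node (.node (.node .leaf 280 2 273 .leaf) 35 12 93
    .leaf) 11 3 6 (.node .leaf 192 9 166 .leaf)) 93 16 249 (.node (.node (.node .leaf 238 7 136 .leaf) 150 2
    49 .leaf) 56 2 51 (.node .leaf 233 7 210 .leaf))))))) 1 5 5 (.node (.node (.node (.node (.node (.node
    (.node (.node .leaf 236 9 235 .leaf) 58 8 58 .leaf) 101 5 261 (.node (.node .leaf 322 0 295 .leaf) 154 8
    135 .leaf)) 42 5 133 (.node (.node (.node .leaf 285 3 283 .leaf) 36 9 97 .leaf) 22 8 22 (.node .leaf 194 5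
    105 .leaf))) 19 12 69 (.node (.node (.node (.node .leaf 259 2 189 .leaf) 77 3 67 .leaf) 0 1 0 (.node
    (.node .leaf 235 0 19 .leaf) 174 11 113 .leaf)) 66 4 197 (.node (.node (.node .leaf 297 1 310 .leaf) 126 8
    127 .leaf) 36 5 12 (.node .leaf 87 5 211 .leaf)))) 11 7 37 (.node (.node (.node (.node (.node .leaf 246 5
    164 .leaf) 67 8 38 .leaf) 134 12 293 (.node (.node .leaf 301 0 227 .leaf) 123 4 133 .leaf)) 54 2 165
    (.node (.node (.node .leaf 299 9 255 .leaf) 112 2 41 .leaf) 24 15 29 (.node .leaf 119 10 207 .leaf))) 28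
    16 101 (.node (.node (.node (.node .leaf 273 10 240 .leaf) 88 3 26 .leaf) 7 10 3 (.node (.node .leaf 1 0 2
    .leaf) 184 2 164 .leaf)) 80 11 229 (.node (.node (.node .leaf 242 12 320 .leaf) 144 10 127 .leaf) 51 4 37
    (.node .leaf 199 15 221 .leaf))))) 6 12 21 (.node (.node (.node (.node (.node (.node .leaf 243 9 213
    .leaf) 61 4 25 .leaf) 110 6 277 (.node (.node .leaf 183 0 194 .leaf) 160 10 118 .leaf)) 47 12 149 (.node
    (.node (.node .leaf 244 7 291 .leaf) 86 10 106 .leaf) 24 16 18 (.node .leaf 201 10 143 .leaf))) 22 6 85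
    (.node (.node (.node (.node .leaf 266 1 248 .leaf) 84 9 83 .leaf) 2 2 2 (.node (.node .leaf 4 0 5 .leaf)
    179 1 87 .leaf)) 72 16 213 (.node (.node (.node .leaf 316 8 311 .leaf) 119 7 130 .leaf) 41 9 44 (.node
    .leaf 134 0 168 .leaf)))) 15 12 53 (.node (.node (.node (.node (.node .leaf 251 8 98 .leaf) 68 5 69 .leaf)
    170 16 309 (.node (.node .leaf 107 0 22 .leaf) 116 15 170 .leaf)) 60 15 181 (.node (.node (.node .leaf 303
    5 297 .leaf) 44 9 116 .leaf) 32 10 22 (.node .leaf 215 10 170 .leaf))) 36 15 117 (.node (.node (.node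
    (.node .leaf 279 8 198 .leaf) 93 2 28 .leaf) 8 9 10 (.node .leaf 191 1 188 .leaf)) 92 1 245 (.node (.node
    (.node .leaf 238 2 299 .leaf) 148 15 114 .leaf) 56 8 57 (.node .leaf 232 9 231 .leaf)))))) 4 16 13 (.node
    (.node (.node (.node (.node (.node (.node .leaf 241 9 224 .leaf) 60 5 29 .leaf) 105 12 269 (.node (.node
    .leaf 312 0 250 .leaf) 157 8 89 .leaf)) 45 16 141 (.node (.node (.node .leaf 289 6 218 .leaf) 103 10 62
    .leaf) 14 7 14 (.node .leaf 104 4 196 .leaf))) 21 9 77 (.node (.node (.node (.node .leaf 262 12 262 .leaf)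
    81 15 32 .leaf) 0 12 0 (.node (.node .leaf 19 0 6 .leaf) 177 9 144 .leaf)) 70 16 205 (.node (.node (.node
    .leaf 315 1 254 .leaf) 128 2 109 .leaf) 39 8 39 (.node .leaf 151 6 118 .leaf)))) 13 7 45 (.node (.node
    (.node (.node (.node .leaf 248 7 247 .leaf) 41 12 55 .leaf) 140 2 301 (.node (.node .leaf 236 0 183 .leaf)
    167 7 133 .leaf)) 56 12 173 (.node (.node (.node .leaf 302 10 300 .leaf) 113 10 92 .leaf) 29 8 30 (.node
    .leaf 209 11 73 .leaf))) 32 7 109 (.node (.node (.node (.node .leaf 134 1 276 .leaf) 90 3 48 .leaf) 8 11 7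
    (.node .leaf 189 7 188 .leaf)) 83 6 237 (.node (.node (.node .leaf 323 6 236 .leaf) 146 1 128 .leaf) 54 10
    42 (.node .leaf 226 3 214 .leaf))))) 9 6 29 (.node (.node (.node (.node (.node (.node .leaf 103 7 245
    .leaf) 64 5 19 .leaf) 125 7 285 (.node (.node .leaf 250 0 174 .leaf) 163 3 72 .leaf)) 51 11 157 (.node
    (.node (.node .leaf 263 5 293 .leaf) 108 8 109 .leaf) 26 15 26 (.node .leaf 203 2 177 .leaf))) 26 5 93
    (.node (.node (.node (.node .leaf 269 2 158 .leaf) 85 11 79 .leaf) 4 7 2 (.node (.node .leaf 222 0 1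
    .leaf) 181 3 86 .leaf)) 76 5 221 (.node (.node (.node .leaf 279 1 317 .leaf) 137 7 138 .leaf) 16 5 43
    (.node .leaf 150 12 73 .leaf)))) 17 11 61 (.node (.node (.node (.node (.node .leaf 254 2 207 .leaf) 75 5
    26 .leaf) 181 5 317 (.node (.node .leaf 69 0 82 .leaf) 85 12 171 .leaf)) 62 7 189 (.node (.node (.node
    .leaf 308 3 234 .leaf) 124 2 106 .leaf) 34 8 34 (.node .leaf 219 15 169 .leaf))) 39 5 125 (.node (.node
    (.node (.node .leaf 255 15 243 .leaf) 95 7 63 .leaf) 15 9 13 (.node .leaf 193 11 87 .leaf)) 98 2 253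
    (.node (.node (.node .leaf 240 5 195 .leaf) 151 10 145 .leaf) 21 5 56 (.node .leaf 233 2 87 .leaf))))))))
    1 2 3 (.node (.node (.node (.node (.node (.node (.node (.node (.node .leaf 235 7 203 .leaf) 37 12 50
    .leaf) 100 4 259 (.node (.node .leaf 185 0 263 .leaf) 153 10 146 .leaf)) 42 1 131 (.node (.node (.node
    .leaf 131 11 271 .leaf) 97 3 68 .leaf) 20 11 6 (.node .leaf 194 2 144 .leaf))) 19 2 67 (.node (.node
    (.node (.node .leaf 258 6 195 .leaf) 77 1 51 .leaf) 194 6 323 (.node (.node .leaf 236 0 68 .leaf) 173 9 65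
    .leaf)) 65 15 195 (.node (.node (.node .leaf 310 3 197 .leaf) 127 7 126 .leaf) 35 3 18 (.node .leaf 212 0
    87 .leaf)))) 11 5 35 (.node (.node (.node (.node (.node .leaf 214 11 80 .leaf) 66 9 62 .leaf) 131 12 291
    (.node (.node .leaf 195 0 197 .leaf) 73 5 129 .leaf)) 53 15 163 (.node (.node (.node .leaf 298 5 195
    .leaf) 52 12 111 .leaf) 28 10 19 (.node .leaf 206 2 118 .leaf))) 27 16 99 (.node (.node (.node (.node
    .leaf 253 9 272 .leaf) 88 5 65 .leaf) 6 8 6 (.node (.node .leaf 292 0 1 .leaf) 183 3 79 .leaf)) 80 4 227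
    (.node (.node (.node .leaf 291 5 319 .leaf) 142 2 69 .leaf) 51 5 31 (.node .leaf 221 10 76 .leaf))))) 6 6
    19 (.node (.node (.node (.node (.node (.node .leaf 242 8 99 .leaf) 61 3 45 .leaf) 110 4 275 (.node (.node
    .leaf 235 0 200 .leaf) 159 10 130 .leaf)) 47 7 147 (.node (.node (.node .leaf 194 11 291 .leaf) 105 10 82
    .leaf) 24 8 10 (.node .leaf 181 9 200 .leaf))) 22 4 83 (.node (.node (.node (.node .leaf 266 5 189 .leaf)
    82 16 82 .leaf) 1 7 1 (.node (.node .leaf 22 0 1 .leaf) 178 1 85 .leaf)) 72 4 211 (.node (.node (.node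
    .leaf 256 5 205 .leaf) 129 3 103 .leaf) 43 2 43 (.node .leaf 123 0 135 .leaf)))) 15 6 51 (.node (.node
    (.node (.node (.node .leaf 250 2 244 .leaf) 69 9 64 .leaf) 161 6 307 (.node (.node .leaf 86 0 223 .leaf)
    170 9 130 .leaf)) 58 12 179 (.node (.node (.node .leaf 263 7 303 .leaf) 116 9 41 .leaf) 23 6 31 (.node
    .leaf 213 9 205 .leaf))) 35 15 115 (.node (.node (.node (.node .leaf 279 2 187 .leaf) 93 7 78 .leaf) 10 3
    10 (.node .leaf 190 15 120 .leaf)) 87 16 243 (.node (.node (.node .leaf 293 0 238 .leaf) 148 9 146 .leaf)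
    57 7 56 (.node .leaf 230 2 82 .leaf)))))) 3 16 11 (.node (.node (.node (.node (.node (.node (.node .leaf
    239 7 106 .leaf) 38 11 59 .leaf) 104 5 267 (.node (.node .leaf 183 0 323 .leaf) 156 11 138 .leaf)) 44 16
    139 (.node (.node (.node .leaf 288 2 274 .leaf) 101 9 99 .leaf) 23 7 12 (.node .leaf 196 10 148 .leaf)))
    21 7 75 (.node (.node (.node (.node .leaf 262 9 256 .leaf) 81 8 81 .leaf) 0 10 0 (.node (.node .leaf 194 0
    19 .leaf) 176 3 119 .leaf)) 69 16 203 (.node (.node (.node .leaf 314 9 278 .leaf) 126 11 122 .leaf) 38 2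
    20 (.node .leaf 184 12 181 .leaf)))) 13 1 43 (.node (.node (.node (.node (.node .leaf 247 10 185 .leaf) 63
    11 46 .leaf) 139 1 299 (.node (.node .leaf 313 0 81 .leaf) 166 1 62 .leaf)) 55 15 171 (.node (.node (.node
    .leaf 301 15 268 .leaf) 113 8 62 .leaf) 30 11 9 (.node .leaf 208 5 119 .leaf))) 32 5 107 (.node (.node
    (.node (.node .leaf 276 5 275 .leaf) 89 1 78 .leaf) 3 5 8 (.node (.node .leaf 0 15 0 .leaf) 166 12 188
    .leaf)) 82 4 235 (.node (.node (.node .leaf 203 1 322 .leaf) 70 11 145 .leaf) 52 4 23 (.node .leaf 225 6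
    223 .leaf))))) 9 4 27 (.node (.node (.node (.node (.node (.node .leaf 245 10 186 .leaf) 64 7 27 .leaf) 124
    6 283 (.node (.node .leaf 205 0 321 .leaf) 163 1 119 .leaf)) 49 7 155 (.node (.node (.node .leaf 293 11
    279 .leaf) 109 11 32 .leaf) 26 8 26 (.node .leaf 202 9 73 .leaf))) 25 4 91 (.node (.node (.node (.node
    .leaf 268 5 181 .leaf) 86 8 79 .leaf) 3 3 3 (.node (.node .leaf 71 0 1 .leaf) 180 10 69 .leaf)) 75 9 219
    (.node (.node (.node .leaf 317 3 237 .leaf) 128 7 137 .leaf) 48 11 40 (.node .leaf 92 12 80 .leaf)))) 17 1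
    59 (.node (.node (.node (.node (.node .leaf 252 5 101 .leaf) 48 6 74 .leaf) 177 12 315 (.node (.node .leaf
    236 0 82 .leaf) 171 9 156 .leaf)) 62 5 187 (.node (.node (.node .leaf 307 4 289 .leaf) 67 12 121 .leaf) 33
    3 13 (.node .leaf 219 1 116 .leaf))) 38 16 123 (.node (.node (.node (.node .leaf 282 10 269 .leaf) 94 3 40
    .leaf) 14 10 13 (.node .leaf 193 8 191 .leaf)) 96 15 251 (.node (.node (.node .leaf 318 0 274 .leaf) 141 5
    150 .leaf) 57 12 17 (.node .leaf 233 10 231 .leaf))))))) 2 1 7 (.node (.node (.node (.node (.node (.node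
    (.node (.node .leaf 237 4 86 .leaf) 58 3 39 .leaf) 102 1 263 (.node (.node .leaf 198 0 240 .leaf) 155 4
    146 .leaf)) 42 7 135 (.node (.node (.node .leaf 287 8 281 .leaf) 99 10 72 .leaf) 23 8 23 (.node .leaf 195
    8 188 .leaf))) 19 16 71 (.node (.node (.node (.node .leaf 260 6 207 .leaf) 78 5 48 .leaf) 0 3 0 (.node
    (.node .leaf 195 0 71 .leaf) 175 2 159 .leaf)) 66 6 199 (.node (.node (.node .leaf 308 5 312 .leaf) 67 15
    127 .leaf) 37 7 36 (.node .leaf 184 0 193 .leaf)))) 11 15 39 (.node (.node (.node (.node (.node .leaf 246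
    10 179 .leaf) 60 1 67 .leaf) 136 7 295 (.node (.node .leaf 264 0 230 .leaf) 103 4 80 .leaf)) 54 4 167
    (.node (.node (.node .leaf 299 2 293 .leaf) 112 9 78 .leaf) 29 11 25 (.node .leaf 207 16 89 .leaf))) 30 16
    103 (.node (.node (.node (.node .leaf 275 2 178 .leaf) 89 10 37 .leaf) 7 2 7 (.node (.node .leaf 1 0 256
    .leaf) 184 3 152 .leaf)) 81 4 231 (.node (.node (.node .leaf 256 7 321 .leaf) 125 6 144 .leaf) 52 7 51
    (.node .leaf 187 11 222 .leaf))))) 7 15 23 (.node (.node (.node (.node (.node (.node .leaf 244 8 194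
    .leaf) 63 9 59 .leaf) 113 4 279 (.node (.node .leaf 139 0 208 .leaf) 160 7 72 .leaf)) 49 3 151 (.node
    (.node (.node .leaf 292 10 276 .leaf) 107 6 83 .leaf) 10 12 24 (.node .leaf 201 8 123 .leaf))) 22 12 87
    (.node (.node (.node (.node .leaf 266 11 263 .leaf) 86 11 22 .leaf) 2 3 2 (.node (.node .leaf 208 0 1
    .leaf) 179 9 176 .leaf)) 73 4 215 (.node (.node (.node .leaf 317 5 268 .leaf) 135 7 134 .leaf) 45 11 15
    (.node .leaf 134 6 123 .leaf)))) 16 4 55 (.node (.node (.node (.node (.node .leaf 251 11 119 .leaf) 73 9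
    71 .leaf) 174 16 311 (.node (.node .leaf 244 0 82 .leaf) 170 7 156 .leaf)) 61 15 183 (.node (.node (.node
    .leaf 305 2 235 .leaf) 120 8 65 .leaf) 33 10 25 (.node .leaf 216 11 202 .leaf))) 37 15 119 (.node (.node
    (.node (.node .leaf 185 5 279 .leaf) 93 3 65 .leaf) 11 2 6 (.node .leaf 69 15 191 .leaf)) 92 6 247 (.node
    (.node (.node .leaf 238 5 309 .leaf) 70 7 149 .leaf) 57 4 48 (.node .leaf 125 12 232 .leaf)))))) 5 16 15
    (.node (.node (.node (.node (.node (.node (.node .leaf 242 1 231 .leaf) 60 6 28 .leaf) 106 12 271 (.node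
    (.node .leaf 181 0 244 .leaf) 149 15 157 .leaf)) 46 15 143 (.node (.node (.node .leaf 136 4 272 .leaf) 103
    9 102 .leaf) 17 3 15 (.node .leaf 198 5 197 .leaf))) 21 15 79 (.node (.node (.node (.node .leaf 264 5 174
    .leaf) 81 10 81 .leaf) 1 8 1 (.node (.node .leaf 181 0 6 .leaf) 177 11 125 .leaf)) 71 4 207 (.node (.node
    (.node .leaf 287 15 315 .leaf) 108 2 119 .leaf) 32 2 39 (.node .leaf 147 2 159 .leaf)))) 13 15 47 (.node
    (.node (.node (.node (.node .leaf 248 4 179 .leaf) 64 1 65 .leaf) 144 12 303 (.node (.node .leaf 174 0 22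
    .leaf) 168 10 134 .leaf)) 56 16 175 (.node (.node (.node .leaf 302 11 302 .leaf) 114 6 53 .leaf) 30 1 12
    (.node .leaf 210 7 81 .leaf))) 33 1 111 (.node (.node (.node (.node .leaf 277 4 131 .leaf) 91 3 44 .leaf)
    5 12 7 (.node .leaf 189 10 80 .leaf)) 84 7 239 (.node (.node (.node .leaf 324 2 205 .leaf) 82 12 146
    .leaf) 43 9 55 (.node .leaf 185 11 227 .leaf))))) 9 12 31 (.node (.node (.node (.node (.node (.node .leaf
    226 0 209 .leaf) 64 3 41 .leaf) 127 16 287 (.node (.node .leaf 200 0 82 .leaf) 119 6 100 .leaf)) 51 16 159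
    (.node (.node (.node .leaf 295 7 293 .leaf) 111 8 59 .leaf) 20 10 27 (.node .leaf 203 5 194 .leaf))) 27 1
    95 (.node (.node (.node (.node .leaf 270 6 260 .leaf) 87 9 72 .leaf) 5 9 4 (.node (.node .leaf 268 0 1
    .leaf) 82 7 181 .leaf)) 78 16 223 (.node (.node (.node .leaf 318 3 224 .leaf) 139 9 125 .leaf) 49 9 42
    (.node .leaf 185 9 186 .leaf)))) 18 1 63 (.node (.node (.node (.node (.node .leaf 235 16 255 .leaf) 75 10
    57 .leaf) 183 4 319 (.node (.node .leaf 236 0 69 .leaf) 172 5 76 .leaf)) 62 12 191 (.node (.node (.node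
    .leaf 308 4 176 .leaf) 125 5 124 .leaf) 35 5 15 (.node .leaf 220 2 99 .leaf))) 39 7 127 (.node (.node
    (.node (.node .leaf 283 6 177 .leaf) 95 2 91 .leaf) 16 2 16 (.node .leaf 118 5 182 .leaf)) 99 12 255
    (.node (.node (.node .leaf 183 0 288 .leaf) 152 8 133 .leaf) 34 11 53 (.node .leaf 234 1 110
    .leaf))))))))))

def cQS : List (ℕ × ℕ × List ℕ) :=
    [(0,0,[]), (0,0,[]), (0,0,[]), (0,0,[]), (0,0,[]), (0,0,[]), (0,0,[]), (0,0,[]), (0,0,[]), (0,0,[]),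
    (0,0,[]), (0,0,[]), (0,0,[]), (0,0,[]), (0,0,[]), (0,0,[]), (0,0,[]), (0,0,[]), (0,0,[]), (0,0,[]),
    (0,0,[]), (0,0,[]), (0,0,[]), (0,0,[]), (0,0,[]), (0,0,[]), (0,0,[]), (0,0,[]), (0,0,[]), (0,0,[]),
    (0,0,[]), (0,0,[]), (0,0,[]), (0,0,[]), (0,0,[]), (0,0,[]), (0,0,[]), (0,0,[]), (0,0,[]), (0,0,[]),
    (0,0,[]), (0,0,[]), (0,0,[]), (0,0,[]), (0,0,[]), (0,0,[]), (0,0,[]), (0,0,[]), (0,0,[]), (0,0,[]),
    (0,0,[]), (0,0,[]), (0,0,[]), (0,0,[]), (0,0,[]), (0,0,[]), (0,0,[]), (0,0,[]), (0,0,[]), (0,0,[]),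
    (0,0,[]), (0,0,[]), (0,0,[]), (0,0,[]), (0,0,[]), (0,0,[]), (0,0,[]), (0,0,[]), (0,0,[]), (0,0,[]),
    (0,0,[]), (0,0,[]), (0,0,[]), (0,0,[]), (0,0,[]), (0,0,[]), (0,0,[]), (0,0,[]), (0,0,[]), (0,0,[]),
    (0,0,[]), (0,0,[]), (0,0,[]), (0,0,[]), (0,0,[]), (0,0,[]), (0,0,[]), (0,0,[]), (0,0,[]), (0,0,[]),
    (0,0,[]), (0,0,[]), (0,0,[]), (0,0,[]), (0,0,[]), (0,0,[]), (0,0,[]), (0,0,[]), (0,0,[]), (0,0,[]),
    (0,0,[]), (0,0,[]), (0,0,[]), (0,0,[]), (0,0,[]), (0,0,[]), (0,0,[]), (0,0,[]), (0,0,[]), (0,0,[]),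
    (0,0,[]), (0,0,[]), (0,0,[]), (0,0,[]), (0,0,[]), (0,0,[]), (0,0,[]), (0,0,[]), (0,0,[]), (0,0,[]),
    (0,0,[]), (0,0,[]), (0,0,[]), (0,0,[]), (0,0,[]), (0,0,[]), (0,0,[]), (0,0,[]), (0,0,[]), (0,0,[]),
    (0,0,[]), (0,0,[]), (0,0,[]), (0,0,[]), (0,0,[]), (0,0,[]), (0,0,[]), (0,0,[]), (0,0,[]), (0,0,[]),
    (0,0,[]), (0,0,[]), (0,0,[]), (0,0,[]), (0,0,[]), (0,0,[]), (0,0,[]), (0,0,[]), (0,0,[]), (0,0,[]),
    (0,0,[]), (0,0,[]), (0,0,[]), (0,0,[]), (0,0,[]), (0,0,[]), (0,0,[]), (0,0,[]), (0,0,[]), (0,0,[]),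
    (0,0,[]), (0,0,[]), (0,0,[]), (0,0,[]), (0,0,[]), (0,0,[]), (0,0,[]), (0,0,[]), (0,0,[]), (0,0,[]),
    (0,0,[]), (0,0,[]), (0,0,[]), (0,0,[]), (0,0,[]), (0,0,[]), (0,0,[]), (0,0,[]), (0,0,[]), (0,0,[]),
    (0,0,[]), (0,0,[]), (0,0,[]), (0,0,[]), (0,0,[]), (0,0,[]), (0,0,[]), (0,0,[]), (0,0,[]), (0,0,[]),
    (0,0,[]), (0,0,[]), (0,0,[]), (0,0,[]), (0,0,[]), (0,0,[]), (0,0,[]), (0,0,[]), (0,0,[]), (0,0,[]),
    (0,0,[]), (0,0,[]), (0,0,[]), (0,0,[]), (0,0,[]), (0,0,[]), (0,0,[]), (0,0,[]), (0,0,[]), (0,0,[]),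
    (0,0,[]), (0,0,[]), (0,0,[]), (0,0,[]), (0,0,[]), (0,0,[]), (0,0,[]), (0,0,[]), (0,0,[]), (0,0,[]),
    (0,0,[]), (0,0,[]), (0,0,[]), (0,0,[]), (0,0,[]), (0,0,[]), (0,0,[]), (0,0,[]), (0,0,[]), (0,0,[]),
    (0,0,[]), (0,0,[]), (0,0,[]), (0,0,[]), (0,0,[]), (0,0,[]), (0,0,[]), (0,0,[]), (0,0,[]), (0,0,[]),
    (0,0,[]), (0,0,[]), (0,0,[]), (0,0,[]), (0,0,[]), (0,0,[]), (0,0,[]), (0,0,[]), (0,0,[]), (0,0,[]),
    (0,0,[]), (0,0,[]), (0,0,[]), (0,0,[]), (0,0,[]), (0,0,[]), (0,0,[]), (0,0,[]), (0,0,[]), (0,0,[]),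
    (0,0,[]), (0,0,[]), (0,0,[]), (0,0,[]), (0,0,[]), (0,0,[]), (0,0,[]), (0,0,[]), (0,0,[]), (0,0,[]),
    (0,0,[]), (0,0,[]), (0,0,[]), (0,0,[]), (0,0,[]), (0,0,[]), (0,0,[]), (0,0,[]), (0,0,[]), (0,0,[]),
    (0,0,[]), (0,0,[]), (0,0,[]), (0,0,[]), (0,0,[]), (0,0,[]), (0,0,[]), (0,0,[]), (0,0,[]), (0,0,[]),
    (0,0,[]), (0,0,[]), (0,0,[]), (0,0,[]), (0,0,[]), (0,0,[]), (0,0,[]), (0,0,[]), (0,0,[]), (0,0,[]),
    (0,0,[]), (0,0,[]), (0,0,[]), (0,0,[]), (0,0,[]), (0,0,[]), (0,0,[]), (0,0,[]), (0,0,[]), (0,0,[]),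
    (0,0,[]), (0,0,[]), (0,0,[]), (0,0,[]), (0,0,[]), (0,0,[]), (0,0,[]), (0,0,[]), (0,0,[]), (0,0,[]),
    (0,0,[]), (0,0,[]), (0,0,[]), (0,0,[]), (1,0,[]), (1,0,[]), (1,0,[]), (1,0,[]), (1,0,[]), (1,0,[]),
    (1,0,[]), (1,0,[]), (1,0,[]), (80,1,[1,648,0]), (83,1,[1,658,0]), (81,1,[1,648,652,0]),
    (84,1,[1,659,664,658,0]), (84,4,[669,1,662,0,668]), (69,0,[667,673,669,667]), (85,1,[1,660,2]),
    (86,1,[3,650,2]), (89,1,[3,658,2]), (87,1,[3,650,652,2]), (26,0,[678,676,679]), (34,2,[5,669,4]),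
    (41,1,[5,674,4]), (42,1,[5,670,4]), (71,0,[5,674,669,4]), (50,4,[686,686,678,6]), (21,1,[7,676,8]),
    (22,1,[7,669,8]), (24,1,[686,678,8]), (24,3,[7,677,8]), (57,3,[697,7,669,8]), (89,1,[11,669,10]),
    (33,2,[13,683,12]), (37,1,[5,679,12]), (40,1,[13,684,12]), (78,1,[13,680,684,12]),
    (59,0,[711,712,691,713]), (41,0,[706,680,14]), (45,1,[15,684,14]), (23,0,[720,9,4]), (24,1,[718,712,724]),
    (60,3,[711,718,712,724]), (30,1,[726,13,703]), (71,2,[711,716,727,720]), (83,1,[17,683,16]),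
    (85,3,[11,679,16]), (23,3,[7,4,18]), (27,3,[19,692,18]), (50,4,[718,718,712,18]), (22,3,[19,689,724]),
    (24,3,[19,695,724]), (86,1,[11,4,20]), (89,1,[21,689,20]), (87,1,[11,4,692,20]), (83,3,[23,701,26]),
    (85,3,[25,705,26]), (85,1,[23,705,28]), (89,3,[25,701,28]), (33,2,[31,709,30]), (78,1,[31,749,752,30]),
    (17,1,[33,34]), (22,1,[33,709,34]), (18,1,[37,38]), (19,1,[709,38]), (28,2,[772,38,770]),
    (83,1,[43,709,42]), (80,1,[17,12,44]), (83,1,[45,711,44]), (85,3,[21,713,44]), (81,1,[17,12,714,44]),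
    (84,1,[23,701,732,711,44]), (72,0,[787,778,735,779]), (62,0,[783,780,786,759]), (68,0,[754,789,786,755]),
    (23,3,[790,748,32]), (27,3,[790,752,32]), (26,0,[757,792,756]), (86,0,[794,29,721]), (28,3,[742,727,46]),
    (31,3,[742,729,46]), (31,0,[802,745,46]), (89,2,[768,801,46]), (74,4,[806,802,747,46]),
    (71,2,[47,720,698,739]), (80,1,[27,730,48]), (81,1,[27,730,722,48]), (30,0,[814,793,815]),
    (34,2,[51,735,50]), (37,3,[31,737,50]), (82,1,[51,17,680,16,50]), (50,4,[766,33,737,52]),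
    (26,3,[53,736,38]), (17,1,[53,54]), (22,1,[53,735,54]), (24,1,[33,737,54]), (26,1,[37,737,54]),
    (25,2,[827,53,56]), (85,2,[838,809,811]), (83,3,[49,46,840]), (84,1,[49,46,813,805,840]),
    (84,4,[842,49,728,44,780]), (79,3,[817,845,847,786]), (18,1,[57,58]), (19,1,[735,58]), (26,3,[33,737,58]),
    (28,2,[852,58,850]), (28,2,[845,57,58]), (30,1,[789,778,58]), (46,3,[837,830,53,58]), (39,2,[847,778,60]),
    (84,5,[27,706,16,734,60]), (30,2,[864,57,779]), (33,0,[864,856,860]), (85,1,[43,737,62]),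
    (89,1,[63,735,62]), (85,1,[49,746,64]), (86,1,[25,739,64]), (89,1,[801,744,64]), (89,3,[809,804,64]),
    (87,1,[25,739,740,64]), (26,0,[876,818,877]), (33,2,[67,751,66]), (40,1,[31,753,66]), (17,1,[790,68]),
    (22,1,[790,751,68]), (23,1,[35,749,68]), (26,1,[869,782,68]), (27,1,[35,753,68]), (51,2,[799,761,790,68]),
    (24,2,[759,790,70]), (32,3,[37,753,70]), (18,1,[71,72]), (19,1,[751,72]), (28,2,[910,72,908]),
    (71,1,[41,709,749,72]), (41,0,[772,749,74]), (45,1,[41,753,74]), (83,1,[77,751,76]),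
    (90,1,[51,17,3,650,0,10,749,76]), (90,8,[77,21,5,1,2,681,16,62]), (17,1,[904,80]), (24,1,[892,758,80]),
    (60,3,[903,892,758,80]), (78,1,[85,879,884,84]), (24,2,[756,798,86]), (19,2,[87,931]), (18,1,[87,88]),
    (19,1,[760,88]), (26,3,[934,756,88]), (46,3,[756,798,798,88]), (37,3,[85,757,94]), (41,1,[79,848,94]),
    (71,0,[51,60,866,94]), (26,0,[947,950,822]), (85,1,[93,757,96]), (89,3,[83,755,96]), (33,0,[85,761,98]),
    (37,1,[79,759,98]), (59,0,[958,947,948,961]), (24,2,[899,892,100]), (25,2,[928,892,100]),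
    (49,3,[73,68,892,100]), (67,4,[938,87,761,100]), (18,1,[101,102]), (19,1,[894,102]), (26,3,[904,759,102]),
    (32,1,[834,796,102]), (46,3,[782,68,892,102]), (83,3,[93,761,106]), (85,3,[83,759,106]), (17,2,[109,952]),
    (22,3,[109,763,952]), (51,4,[109,952,959,963]), (33,1,[902,84,988]), (30,3,[37,30,110]), (18,1,[111,112]),
    (19,1,[763,112]), (28,2,[998,112,996]), (30,1,[39,30,112]), (46,3,[946,986,109,112]),
    (23,1,[1004,95,945]), (34,1,[970,1006,1001]), (41,3,[1006,998,765]), (41,3,[794,941,1006]),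
    (78,0,[1006,1002,917,918]), (23,0,[1008,968,914]), (79,4,[998,1010,940,104]), (79,0,[105,941,1011,891]),
    (30,0,[1014,89,84]), (38,3,[1014,940,98]), (78,0,[914,1014,1006,1019]), (71,2,[958,932,1022,915]),
    (80,1,[43,30,114]), (83,1,[115,763,114]), (85,3,[922,822,114]), (81,1,[77,66,890,114]),
    (39,1,[1003,1012,116]), (40,1,[99,797,116]), (78,1,[117,794,797,116]), (41,1,[1042,1038,917]),
    (27,0,[1040,963,1041]), (24,2,[838,766,118]), (32,3,[101,797,118]), (52,4,[830,826,766,118]),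
    (19,2,[119,120]), (38,2,[1044,117,120]), (41,2,[105,795,120]), (44,1,[940,797,120]),
    (57,4,[886,882,766,120]), (63,2,[877,882,766,120]), (79,1,[1020,105,797,120]), (33,0,[117,769,124]),
    (40,1,[992,900,124]), (78,1,[125,897,900,124]), (27,2,[1070,109,891]), (18,1,[826,126]), (19,1,[882,126]),
    (21,2,[37,34,126]), (26,3,[1048,838,126]), (32,1,[928,900,126]), (46,3,[854,33,34,126]),
    (71,1,[91,903,896,126]), (41,0,[974,896,128]), (83,3,[123,769,130]), (23,2,[1089,1080,132]),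
    (34,2,[916,775,132]), (71,0,[1042,1038,775,132]), (78,0,[133,995,1008,1051]),
    (49,4,[1046,1046,1099,1094]), (56,2,[1094,1102,1046,1103]), (24,1,[1095,1105,1095]),
    (53,4,[1095,1098,1046,1069]), (66,2,[1053,1100,1098,1103]), (79,3,[1071,1108,91,931]),
    (39,1,[85,90,1110]), (78,2,[1090,978,1111,1089]), (30,2,[125,126,1116]), (20,1,[775,134]),
    (65,4,[37,38,775,134]), (71,3,[1088,1107,133,136]), (19,1,[1124,1076]), (22,0,[1124,1080,134]),
    (83,3,[139,774,142]), (89,3,[141,774,144]), (46,4,[109,952,1022,146]), (55,3,[822,952,1022,146]),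
    (17,2,[147,1016]), (25,3,[147,1023,947]), (18,1,[1022,148]), (21,2,[1137,147,148]), (30,1,[939,1015,148]),
    (47,3,[996,1138,147,148]), (71,4,[1142,933,1115,832]), (28,3,[1142,1022,150]), (20,1,[151,152]),
    (33,1,[970,1015,152]), (34,1,[912,914,152]), (36,1,[1096,918,152]), (71,2,[151,915,908,1159]),
    (24,0,[1140,147,154]), (37,2,[943,1015,154]), (50,3,[996,1138,147,154]), (87,1,[145,917,918,158]),
    (34,2,[161,777,160]), (78,2,[924,1037,1030,160]), (82,1,[924,77,748,42,160]),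
    (90,1,[160,1176,63,50,825,923,925,1177]), (37,1,[161,873,1175]), (36,2,[163,777,162]),
    (40,2,[1037,1030,162]), (81,2,[67,752,42,162]), (87,0,[163,1179,161,162]), (17,1,[165,166]),
    (22,1,[165,777,166]), (18,1,[169,170]), (19,1,[777,170]), (28,2,[1196,170,1194]),
    (84,0,[1196,43,708,40,152]), (83,0,[1198,1201,1154]), (83,1,[157,152,1200]), (83,3,[157,150,1202]),
    (84,1,[157,150,1163,1154,1202]), (31,0,[1209,1198,1204]), (84,5,[143,772,42,776,172]), (20,2,[1212,1130]),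
    (83,2,[1212,143,1121]), (84,4,[1214,1217,1122,138,1131]), (23,0,[1090,980,174]), (41,3,[79,787,174]),
    (42,1,[51,785,174]), (27,3,[53,785,176]), (46,4,[969,964,869,176]), (49,4,[926,904,789,176]),
    (22,3,[177,781,981]), (79,3,[1226,1126,137,1123]), (78,0,[1166,1147,1151,1227]), (23,0,[1059,1064,178]),
    (42,1,[95,817,178]), (71,0,[175,846,842,178]), (27,3,[934,817,180]), (51,4,[1080,863,858,180]),
    (63,3,[1054,1048,844,180]), (58,4,[181,859,1087,1125]), (21,1,[1164,950,184]), (22,1,[1144,821,184]),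
    (23,1,[55,50,184]), (24,3,[1138,1136,184]), (27,1,[1221,1224,184]), (30,3,[1252,1237,1230]),
    (71,2,[1254,1151,826,897]), (41,0,[852,50,186]), (45,1,[1223,1224,186]), (30,2,[1117,1076,188]),
    (30,0,[125,827,188]), (40,1,[1237,1226,188]), (78,3,[1244,1147,1151,188]), (49,1,[1270,1221,1243,1238]),
    (35,1,[1120,828,190]), (41,0,[1152,1151,192]), (45,1,[1234,1226,192]), (71,3,[914,148,1151,192]),
    (34,0,[1282,1155,1158]), (85,3,[145,828,194]), (85,1,[143,828,196]), (83,3,[195,833,198]),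
    (85,3,[141,837,198]), (85,1,[139,837,200]), (89,3,[197,833,200]), (89,3,[183,843,202]),
    (85,1,[123,855,204]), (89,1,[183,859,204]), (89,3,[203,856,204]), (89,1,[83,870,206]),
    (89,3,[97,867,206]), (42,2,[1036,925,208]), (43,2,[163,873,208]), (50,4,[1190,165,873,210]),
    (26,3,[211,872,170]), (17,1,[211,212]), (24,1,[165,873,212]), (57,3,[1319,211,875,212]),
    (25,2,[1319,211,214]), (18,1,[215,216]), (19,1,[875,216]), (26,3,[165,873,216]), (28,2,[1332,216,1330]),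
    (30,0,[1057,1062,220]), (33,2,[117,881,220]), (33,0,[125,883,220]), (38,1,[1117,1078,220]),
    (40,1,[85,885,220]), (71,2,[1342,1073,1119,1090]), (39,2,[1348,221,222]), (41,0,[930,879,222]),
    (45,1,[91,885,222]), (71,3,[1166,87,879,222]), (30,2,[1350,972,1157]), (37,3,[1350,976,1159]),
    (85,0,[1321,1201,1360]), (83,1,[123,881,224]), (83,3,[131,883,224]), (85,3,[183,877,224]),
    (25,2,[1118,1075,226]), (52,4,[1278,1272,1075,226]), (67,4,[1373,227,888,226]), (83,3,[107,895,228]),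
    (45,1,[137,907,230]), (71,3,[1353,1359,1158,230]), (27,0,[1378,1129,1285]), (36,0,[1378,1250,1244]),
    (83,3,[233,912,236]), (28,2,[1345,1338,238]), (32,1,[149,919,238]), (71,1,[1235,1120,917,238]),
    (31,3,[1098,1045,240]), (71,2,[241,916,770,132]), (86,1,[145,917,244]), (23,3,[211,924,246]),
    (86,0,[1400,1363,1352]), (17,1,[247,248]), (22,1,[247,921,248]), (23,1,[213,924,248]),
    (89,2,[1406,1403,1381]), (18,1,[251,252]), (19,1,[921,252]), (28,2,[1414,252,1412]),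
    (71,1,[219,875,924,252]), (84,0,[1414,77,750,74,1097]), (83,0,[1416,1421,1395]), (83,1,[243,1097,1420]),
    (83,3,[243,240,1422]), (84,1,[243,240,1397,1395,1422]), (31,0,[1429,1416,1424]), (41,0,[1332,924,254]),
    (84,5,[237,910,76,920,254]), (34,1,[1435,1432,1337]), (76,1,[1432,1337,1436,1386]),
    (83,2,[1434,237,1287]), (86,1,[83,78,256]), (87,1,[205,1267,1268,256]), (84,1,[1441,1289,230,1380,258]),
    (19,0,[1446,1434]), (17,1,[263,264]), (18,1,[267,268]), (80,1,[93,84,272]), (81,1,[225,220,1346,272]),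
    (84,1,[233,912,1028,958,272]), (19,0,[1458,1438]), (83,1,[259,936,274]), (28,1,[1462,1446,1460]),
    (89,1,[1403,936,276]), (89,3,[1411,1385,276]), (85,3,[277,943,278]), (81,1,[243,1057,1060,278]),
    (85,1,[275,943,280]), (34,3,[1124,1088,282]), (80,1,[199,1111,284]), (85,1,[1421,1105,286]),
    (87,1,[1403,1353,1354,286]), (25,1,[1480,253,248]), (26,0,[1034,252,1481]), (40,2,[1457,1454,288]),
    (81,2,[221,884,92,288]), (84,1,[1490,1340,1038,775,138]), (19,0,[1493,1214]), (30,3,[1460,1454,290]),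
    (32,3,[1494,289,290]), (39,3,[1496,255,1185]), (18,1,[291,292]), (19,1,[982,292]),
    (84,0,[1504,107,895,1264,1254]), (19,2,[291,294]), (44,1,[1492,289,294]), (84,2,[1374,105,760,92,294]),
    (79,2,[1218,1511,295,296]), (19,0,[1514,1130]), (85,1,[273,947,298]), (86,1,[97,94,298]),
    (87,1,[183,178,1240,298]), (26,0,[1518,1464,1475]), (42,2,[1523,1520,300]), (43,2,[289,955,300]),
    (23,3,[1524,1520,302]), (51,4,[1450,263,957,302]), (26,3,[303,954,292]), (86,0,[1530,281,1006]),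
    (17,1,[303,304]), (26,1,[291,955,304]), (24,2,[1534,303,306]), (67,4,[1452,267,957,306]),
    (19,1,[1312,308]), (46,3,[1541,1538,303,308]), (80,1,[107,98,310]), (85,3,[257,961,310]),
    (81,1,[123,116,1040,310]), (84,1,[275,937,1112,991,310]), (19,2,[972,312]), (31,2,[1233,972,312]),
    (59,4,[1382,1380,967,312]), (84,2,[1560,1235,1120,142,1515]), (85,3,[1403,967,314]),
    (81,1,[1421,1101,1050,314]), (84,1,[115,762,1010,971,314]), (85,1,[259,967,316]), (83,1,[1564,1558,318]),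
    (85,3,[235,977,318]), (81,1,[285,1110,979,318]), (19,0,[1515,1575]), (85,1,[233,977,320]),
    (31,3,[227,1020,322]), (83,0,[1584,1513,1508]), (80,1,[237,1027,324]), (83,1,[1586,323,324]),
    (81,1,[143,1003,1019,324]), (32,0,[1592,1581,1578]), (30,2,[1479,1594,1588]),
    (66,1,[1479,1594,1588,1448]), (61,0,[1572,1449,1596,1296]), (68,2,[1556,1462,1598,1294]),
    (26,0,[1553,1603,1290]), (23,3,[1398,1604,1442,262]), (6,0,[1450,1606]), (7,0,[262,1606]),
    (27,2,[1170,1604,1444]), (87,1,[281,1006,1019,326]), (27,2,[1614,1524,1522]), (37,3,[261,985,328]),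
    (40,2,[1555,1550,330]), (81,2,[117,796,106,330]), (50,4,[1609,1610,985,332]), (24,1,[1610,985,334]),
    (26,1,[267,985,334]), (25,2,[1625,333,336]), (67,4,[1502,291,983,336]), (68,3,[1632,1502,1591,1595]),
    (84,5,[259,930,92,983,338]), (29,0,[1636,1598,1294]), (83,2,[1636,259,1381]),
    (70,3,[1636,1598,1479,1634]), (31,0,[1556,1462,1637]), (39,3,[1642,339,1551]),
    (79,3,[1578,1634,1647,1556]), (80,1,[229,993,340]), (83,3,[311,990,340]), (81,1,[131,124,1070,340]),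
    (84,4,[1652,311,1024,156,1207]), (20,1,[1001,342]), (22,2,[151,1016,342]), (29,2,[1658,996,342]),
    (89,2,[1658,1536,1532]), (39,2,[137,995,344]), (71,3,[1090,972,1009,344]), (80,1,[139,995,346]),
    (84,1,[225,880,1013,1001,346]), (70,0,[1670,1492,1488,1366]), (86,1,[317,1009,348]),
    (89,3,[1664,343,348]), (80,1,[143,1003,350]), (83,3,[347,1000,350]), (81,1,[237,1027,1018,350]),
    (17,1,[1486,352]), (22,1,[1486,1033,352]), (27,1,[249,1037,352]), (57,3,[1484,1486,1033,352]),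
    (89,2,[1688,287,282]), (24,2,[1481,1486,354]), (25,2,[1484,1486,354]), (30,3,[169,1031,354]),
    (39,3,[1700,1656,1650]), (39,2,[173,1031,356]), (45,1,[255,1037,356]), (84,5,[351,998,114,1032,356]),
    (30,2,[1704,1494,1488]), (33,0,[1704,1215,1671]), (33,1,[1394,1101,358]), (35,1,[1124,1082,358]),
    (80,1,[1421,1101,360]), (81,1,[1201,1156,1051,360]), (84,1,[1186,888,1067,1054,360]),
    (30,0,[1718,253,1185]), (87,1,[349,1008,1051,362]), (80,1,[243,1057,364]), (83,3,[361,1055,364]),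
    (81,1,[157,1014,1061,364]), (30,0,[1728,1431,1729]), (86,1,[327,1059,366]), (89,3,[363,1055,366]),
    (87,1,[1537,1007,1061,366]), (17,1,[371,372]), (24,1,[1613,1304,372]), (32,3,[1644,1554,374]),
    (45,0,[1746,339,330]), (81,2,[1666,1379,1640,1747]), (18,1,[375,376]), (19,1,[1092,376]),
    (26,3,[1613,1304,376]), (84,0,[1754,131,883,222,1356]), (44,1,[1557,1554,378]),
    (59,4,[1617,1307,1304,378]), (84,2,[1388,129,768,122,378]), (19,0,[379,1365]), (39,2,[1749,1620,380]),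
    (79,2,[1649,1761,379,380]), (80,0,[1768,1750,1666]), (80,1,[131,124,382]), (83,3,[1622,1069,382]),
    (84,4,[1776,1622,1045,242,1427]), (83,1,[1773,1124,384]), (85,3,[363,1083,384]),
    (84,1,[1217,135,136,1124,384]), (28,1,[1780,1770,1580]), (62,0,[1783,1780,1770,1576]),
    (26,0,[1292,1786,1782]), (79,1,[1784,173,162,1723]), (85,1,[361,1083,386]), (86,1,[287,1089,386]),
    (87,1,[1363,1352,1085,386]), (26,0,[1316,1724,1795]), (80,1,[385,1116,388]), (83,1,[1750,1668,388]),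
    (83,3,[1764,1388,388]), (81,1,[259,1262,1260,388]), (30,0,[1802,1787,1681]), (85,1,[1512,1370,390]),
    (87,1,[201,1257,1260,390]), (63,2,[1812,1508,1549,1546]), (51,4,[1742,371,1093,392]), (17,1,[393,394]),
    (67,4,[1752,375,1093,396]), (39,2,[1778,1774,398]), (30,0,[1824,1413,1719]), (33,0,[1824,1416,1719]),
    (80,0,[1824,1423,1715]), (85,1,[285,1104,400]), (86,1,[141,132,400]), (89,1,[245,1097,400]),
    (87,1,[235,1159,1160,400]), (59,0,[1678,1631,1635,1833]), (89,1,[141,134,402]), (89,3,[145,1121,402]),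
    (85,1,[1831,1716,404]), (86,1,[1695,1476,404]), (87,4,[405,1379,1410,1408]), (26,0,[1794,1826,1847]),
    (41,3,[1848,1692,1408]), (79,1,[1327,1854,1851,1326]), (36,2,[1170,1132,410]), (42,2,[1839,1834,410]),
    (17,2,[413,1600]), (26,3,[413,1297,1597]), (37,0,[1329,1436,1864]), (85,0,[1228,236,1864]),
    (77,3,[1582,1438,1434,1864]), (39,3,[1866,1857,1867]), (51,3,[1842,1600,1862,1870]),
    (24,2,[1864,413,414]), (18,1,[415,416]), (19,1,[1132,416]), (46,3,[1573,1862,413,416]),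
    (71,0,[161,172,1212,418]), (17,1,[421,422]), (24,1,[1790,1292,422]), (60,3,[1738,1790,1292,422]),
    (89,3,[409,1131,424]), (23,3,[1609,1398,428]), (63,3,[1636,1883,1880,428]), (17,2,[429,1604]),
    (19,1,[1844,430]), (46,3,[1552,1898,429,430]), (85,1,[341,1135,434]), (63,2,[1904,1652,1903,1900]),
    (33,1,[1385,1147,436]), (34,1,[191,1150,436]), (83,0,[1632,1507,436]), (85,1,[351,1149,438]),
    (86,1,[197,1150,438]), (87,1,[1868,1393,1390,438]), (45,0,[1918,1873,1919]), (41,1,[1917,1921,1916]),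
    (59,1,[1212,1293,1923,1292,422]), (6,0,[422,1924]), (7,0,[1887,1924]), (8,0,[1889,1924]),
    (13,0,[1784,1925,1890]), (3,0,[1802,1933]), (8,0,[1786,1933]), (10,0,[1781,1933]), (14,0,[1792,1933]),
    (47,4,[421,1927,1494,1529]), (52,4,[1788,1931,1928,1943]), (32,0,[1502,1498,1930,1726]),
    (4,0,[1677,1946]), (7,0,[1542,1947,1841]), (10,0,[1632,1947,1678]), (4,0,[1835,1950]),
    (11,0,[1545,1951,1836]), (15,0,[1912,1953]), (8,0,[1626,1956,1452]), (6,0,[334,1961]), (8,0,[1627,1961]),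
    (12,0,[1629,1961]), (40,2,[1741,1934,1808]), (71,0,[369,380,1939,1736]), (71,2,[1859,1860,1945,1526]),
    (71,2,[433,1132,1955,307,1521]), (14,0,[432,1975]), (88,5,[1968,1537,1002,144,426]),
    (64,4,[371,378,1762,1970]), (24,0,[1971,1617,1369]), (34,1,[1364,368,1980]), (17,1,[1660,440]),
    (46,4,[440,1986,1662,1987]), (51,2,[1168,1659,1660,440]), (83,0,[1990,1758,1823]), (85,1,[1992,1988,442]),
    (64,1,[1994,397,1092,372]), (85,1,[157,154,444]), (89,1,[1363,1356,444]), (26,0,[1998,1210,1999]),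
    (24,1,[2002,1998,448]), (60,3,[2001,2002,1998,448]), (40,1,[427,1171,450]), (26,3,[453,1757,1752]),
    (53,4,[453,1745,1742,1981]), (24,2,[2010,453,454]), (44,1,[1880,1171,456]), (57,2,[457,454,2014,1805]),
    (42,2,[163,160,458]), (23,3,[165,160,460]), (22,1,[461,1173,462]), (23,1,[167,160,462]),
    (71,2,[2024,2022,1325,1409]), (78,2,[1917,1918,1866,2027]), (18,1,[1884,464]), (19,1,[1173,464]),
    (26,3,[461,1180,464]), (28,2,[2034,464,2032]), (71,1,[173,777,160,464]), (71,2,[2039,419,1937,1736]),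
    (39,2,[219,1175,466]), (41,0,[1196,160,466]), (79,0,[467,2035,2043,1614]), (27,3,[165,162,468]),
    (50,4,[1852,1800,1316,468]), (17,1,[469,470]), (22,1,[469,1183,470]), (24,1,[1800,1316,470]),
    (49,3,[171,166,1190,472]), (52,4,[1322,1318,1190,472]), (68,3,[2000,1318,1192,472]),
    (84,1,[475,1193,1856,1192,474]), (18,1,[1318,476]), (83,3,[475,1193,478]), (34,0,[447,1207,480]),
    (35,2,[1298,1214,482]), (37,0,[2037,2040,482]), (43,1,[1540,1498,482]), (85,0,[1280,1216,482]),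
    (50,3,[1942,421,1927,482]), (62,2,[1922,1292,1927,482]), (89,1,[409,1214,484]), (89,3,[425,1213,484]),
    (85,1,[365,1249,486]), (89,1,[387,1247,486]), (89,3,[405,1250,486]), (87,1,[445,1166,1245,486]),
    (26,0,[2090,1734,2091]), (37,1,[1984,1368,488]), (39,1,[451,1973,488]), (26,2,[2100,371,1305]),
    (59,3,[2100,371,1365,1368]), (79,2,[1880,1977,1522,2106,2102]), (3,0,[450,2108]), (5,0,[2016,2109,2008]),
    (6,0,[2018,2113]), (13,0,[456,2113]), (30,1,[1879,2110,1745]), (17,1,[1617,490]), (23,1,[2082,1526,490]),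
    (26,1,[1711,1368,490]), (34,0,[2122,2084,1917]), (86,0,[2122,2080,1911]), (78,0,[2122,2076,2022,2051]),
    (25,2,[1971,1617,492]), (30,3,[2104,489,492]), (18,1,[493,494]), (19,1,[1302,494]),
    (46,3,[2125,2120,1617,494]), (85,1,[347,1259,496]), (25,1,[2142,1675,394]), (63,2,[2142,1712,2141,2138]),
    (86,1,[487,1277,498]), (87,1,[277,1167,1275,498]), (83,1,[195,190,500]), (85,3,[403,1281,500]),
    (84,1,[237,1287,193,190,500]), (67,3,[2152,1638,1644,1653]), (85,1,[1564,1562,502]),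
    (86,1,[443,1283,502]), (26,0,[1298,1516,2161]), (37,3,[427,1291,504]), (42,2,[1919,1916,506]),
    (39,2,[2028,2030,508]), (88,5,[2170,1411,1909,2128,2131]), (85,3,[425,1293,510]), (34,0,[505,1295,512]),
    (59,0,[2176,2166,2116,1757]), (32,2,[1808,1598,514]), (24,0,[2180,2115,2167]), (23,3,[2178,513,516]),
    (17,1,[517,518]), (24,1,[413,1297,518]), (30,1,[2188,1866,476]), (17,1,[2164,520]),
    (27,1,[1816,1814,520]), (83,3,[511,1301,522]), (85,3,[409,1299,522]), (84,4,[2196,511,1923,510,2197]),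
    (33,2,[2134,1308,524]), (24,2,[2143,2147,526]), (25,2,[2144,2147,526]), (67,4,[2136,493,1303,526]),
    (18,1,[527,528]), (24,2,[1756,1613,530]), (25,2,[1744,1613,530]), (30,3,[2136,2134,530]),
    (67,4,[2210,527,1309,530]), (68,3,[2202,493,1307,530]), (23,3,[2212,2185,2187]), (27,1,[2193,2194,532]),
    (57,3,[1964,1610,1311,532]), (24,2,[1795,1800,534]), (71,4,[535,1314,356,1708]), (41,0,[1570,1315,536]),
    (90,1,[2232,315,316,1949,1507,438,1916,510]), (30,2,[2191,2068,538]), (30,0,[1866,1319,538]),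
    (37,1,[2046,1320,538]), (41,0,[2156,1437,542]), (34,0,[2242,2152,504]), (82,5,[2242,501,1911,1959,1895]),
    (85,1,[479,1329,544]), (85,1,[475,1335,546]), (23,3,[1696,1418,548]), (37,1,[2252,1698,2171]),
    (71,0,[2252,1703,1376,328]), (26,0,[1619,2256,2255]), (17,1,[549,550]), (46,2,[2259,2254,549,550]),
    (30,3,[2262,261,266]), (24,2,[2254,549,552]), (49,3,[2263,2260,549,552]), (37,2,[2240,2044,554]),
    (37,0,[1480,1418,554]), (71,2,[2219,2223,2237,2271]), (23,3,[1742,1984,556]), (50,4,[2120,1617,1369,556]),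
    (51,4,[1820,393,1367,556]), (63,3,[2209,2204,1672,556]), (17,2,[557,1982]), (41,3,[2276,1996,2163]),
    (86,1,[545,1436,558]), (33,2,[2170,1406,562]), (37,1,[2232,1566,562]), (85,2,[2292,2235,2174]),
    (83,2,[2088,2294,2290]), (24,2,[1698,1404,564]), (52,4,[1686,1485,1404,564]), (23,3,[2298,2253,2261]),
    (71,2,[2094,1848,2301,2303]), (71,3,[2302,565,1400,540]), (19,1,[2306,2262]), (19,1,[1468,568]),
    (32,1,[2300,1690,568]), (89,3,[561,1427,570]), (89,1,[561,1425,572]), (89,3,[571,1416,572]),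
    (87,1,[2234,2232,1568,572]), (36,3,[2196,2321,2316]), (86,1,[547,1433,574]), (41,2,[271,1443,576]),
    (57,4,[1907,1844,1604,576]), (63,2,[2154,1844,1604,576]), (23,2,[2242,2331,2326]),
    (79,3,[579,2308,541,2007]), (39,2,[271,260,580]), (45,1,[2334,579,580]), (79,0,[581,2308,541,1799]),
    (27,0,[2338,449,1733]), (32,0,[2338,2004,2097]), (23,2,[329,1963,582]), (37,3,[2265,1966,582]),
    (78,0,[583,2264,2302,2313]), (46,2,[2346,1618,2269,2266]), (39,2,[2305,2265,584]),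
    (79,2,[2287,2225,2226,584]), (30,2,[2354,2344,2336]), (63,0,[2356,2285,2133,2203]),
    (21,1,[2360,2359,586]), (18,1,[2359,588]), (73,4,[2364,2356,2276,1819]), (51,1,[591,2332,2245,2182]),
    (19,2,[2359,594]), (53,0,[2181,2368,591,594]), (33,2,[563,1467,596]), (33,0,[2170,1469,596]),
    (38,1,[2351,2310,596]), (78,1,[2354,2149,2150,596]), (83,0,[2374,2295,1892]), (83,1,[567,1467,598]),
    (37,3,[597,1471,600]), (82,1,[2231,351,1007,278,600]), (87,2,[601,1472,560,2322]), (85,1,[599,1471,602]),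
    (86,1,[2390,601,602]), (41,1,[2394,2201,2395]), (59,0,[2385,2393,2397,2392]), (39,2,[2275,2272,604]),
    (41,0,[2341,1796,604]), (30,0,[2400,529,524]), (33,2,[2400,2219,2216]), (54,3,[593,586,2362,2404]),
    (81,1,[2294,563,1483,606]), (78,1,[2130,2122,2078,608]), (85,1,[567,1567,610]), (86,1,[2234,2232,610]),
    (24,2,[2154,1875,612]), (49,3,[2328,1907,1875,612]), (41,2,[1941,1736,614]), (44,1,[2049,1615,614]),
    (59,4,[2372,1806,1762,614]), (63,2,[1915,2126,2120,614]), (85,1,[2247,1896,616]), (89,3,[1978,1637,616]),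
    (24,2,[2430,2333,2358]), (27,3,[393,1655,618]), (46,4,[2421,2418,2159,618]), (37,0,[2438,2326,592]),
    (27,3,[1876,1685,622]), (17,2,[623,2429]), (53,4,[623,1810,2115,2433]), (89,3,[621,1683,624]),
    (87,1,[545,1436,1685,624]), (33,0,[2272,1689,626]), (71,2,[2452,2270,2238,2169]), (39,2,[2454,627,628]),
    (71,3,[2412,2052,1848,628]), (81,2,[2456,507,510,2321]), (83,0,[2319,2460,2458]),
    (84,1,[607,1689,628,2458,2462]), (75,0,[2411,2465,2314,2322]), (26,0,[2199,2466,2175]),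
    (22,2,[2196,2468,2087]), (89,1,[621,1712,630]), (87,1,[547,1433,1707,630]), (17,1,[2228,632]),
    (21,1,[469,1724,632]), (23,1,[2445,2422,632]), (24,1,[1852,1794,632]), (27,1,[2060,1721,632]),
    (60,3,[2094,1852,1794,632]), (30,3,[2478,2130,2279]), (37,3,[2354,2090,634]), (42,1,[447,1733,634]),
    (48,1,[635,2342,2403,2408]), (23,3,[2494,635,636]), (51,4,[2476,2228,1731,636]), (17,2,[637,2342]),
    (78,2,[2367,2437,2441,2497]), (71,2,[639,2277,2278,2122]), (84,1,[523,2075,2504,639,640]),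
    (19,0,[2506,2196]), (60,2,[2506,2196,2468,2199]), (47,0,[2470,2466,2175,2508]), (21,1,[557,1766,642]),
    (30,3,[2514,2488,2482]), (25,2,[2482,1852,644]), (52,4,[2054,2052,1852,644]), (71,4,[645,1796,604,2407]),
    (86,1,[409,406,646]), (23,0,[2524,2469,2417]), (60,3,[2385,2398,2415,2526]),
    (84,0,[2528,567,1407,2028,2024]), (82,5,[475,2023,2530,2524,2382,2380]), (3,0,[2355,2532]),
    (4,0,[2380,2532]), (6,0,[2360,2532]), (7,0,[2435,2532]), (8,0,[2364,2532]), (9,0,[2358,2532]),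
    (11,0,[2070,2533,2371]), (12,0,[2250,2533,2491]), (13,0,[2066,2533,2356]), (7,0,[2373,2546]),
    (12,0,[2248,2547,2427]), (4,0,[2324,2549,635]), (5,0,[2474,2549,2492]), (3,0,[2535,2551,2488]),
    (4,0,[2537,2551,2276]), (7,0,[2539,2551,2285]), (6,0,[2541,2551,557]), (9,0,[2543,2551,2515]),
    (8,0,[2545,2551,2278]), (11,0,[2070,2551,2280]), (12,0,[2250,2551,2282]), (4,0,[2288,2555,2422]),
    (5,0,[2450,2555,2424]), (4,0,[2523,2574,2325,2557]), (11,0,[2072,2558,2472]), (4,0,[2148,2561,2480]),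
    (5,0,[2097,2561,2484]), (7,0,[2098,2561,633]), (2,0,[2588,2561]), (7,0,[2477,2590]),
    (9,0,[1724,2591,2482]), (8,0,[1827,2591,2478]), (10,0,[1829,2591,2499]), (12,0,[1794,2591,2519,2581]),
    (13,0,[1723,2591,2486,2589]), (3,0,[2119,2562,597]), (10,0,[1818,2562,2376]), (12,0,[2214,2562,2387]),
    (13,0,[1997,2562,2378]), (15,0,[641,2562,2383]), (13,0,[2013,2564,2221]), (13,0,[1672,2566,2446,2584]),
    (3,0,[2502,2569,2517,2594]), (2,0,[2618,2598]), (2,0,[2621,2599]), (2,0,[2621,2597]),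
    (3,0,[2336,2571,2131,2624]), (6,0,[1821,2572,2552]), (12,0,[2206,2572,2249]), (2,0,[2615,2609]),
    (2,0,[2603,2576]), (4,0,[2020,2635,2288,2630]), (16,0,[1188,2635,559]), (2,0,[2637,2631]),
    (5,0,[458,2641,2451,2579]), (2,0,[2643,2578]), (10,0,[1172,2645,2448,2582]), (9,0,[1734,2580,2520]),
    (2,0,[2647,2583]), (16,0,[1179,2651,621]), (2,0,[2653,2617,2585]), (5,0,[163,2655,2442,2605]),
    (2,0,[2657,2604]), (7,0,[2002,2587,2060]), (2,0,[2660,2587]), (9,0,[170,2663,2062]),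
    (13,0,[1197,2663,2064,2661]), (2,0,[2603,2588]), (11,0,[1183,2669,2092,2601]), (14,0,[1501,2669,2305]),
    (2,0,[2671,2600]), (2,0,[2671,2649]), (14,0,[1501,2595,1855,2664]), (16,0,[1188,2595,405]),
    (2,0,[2680,2625]), (2,0,[2680,2677]), (7,0,[1128,2683,2055,2684]), (2,0,[2687,2683]), (2,0,[2687,2680]),
    (2,0,[2687,2685]), (11,0,[134,2689,2057,2692]), (2,0,[2695,2689]), (2,0,[2628,2607]),
    (16,0,[141,2697,2172,2698]), (2,0,[2695,2691,2623]), (2,0,[2695,2691,2626]), (7,0,[1080,2703,2501,2704]),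
    (2,0,[2695,2691,2675]), (2,0,[2695,2693]), (8,0,[36,2709,2059,2710]), (2,0,[2713,2709]),
    (2,0,[2713,2695,2691,2603]), (2,0,[2713,2706]), (16,0,[10,2715,387,2718]), (2,0,[2721,2717]),
    (5,0,[670,2723,1720,2666]), (7,0,[7,2723,2229]), (6,0,[9,2723,2592,2726]), (2,0,[2721,2713,2695,2691]),
    (2,0,[2731,2659]), (2,0,[2731,2639]), (6,0,[9,2733,1876,2734]), (2,0,[2736,2729]), (8,0,[677,2733,415]),
    (2,0,[2741,2701,2699]), (8,0,[677,2743,2352,2610]), (15,0,[0,2743,2296]), (2,0,[2739,2727]),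
    (15,0,[0,2749,2389,2632]), (2,0,[2751,2633]), (16,0,[3,2753,2391]), (2,0,[2745,2611]),
    (2,0,[2725,2678,2673]), (12,0,[678,2757,2348,2758]), (2,0,[2760,2755]), (7,0,[2468,2612,2511,2762]),
    (7,0,[654,2747,2513,2613]), (2,0,[2767,2612]), (9,0,[656,2769,2509,2765]), (15,0,[0,2770])]

def cQT : List (List ℕ × List ℕ) :=
    [([15],[2773])]

theorem cQC : cert (rD ++ [w3 3]) [1,2,3,4,5,6,7,8,9,10,11,12] cQW cQF cQS cQT = true := by decide +kernel

def cZW : List (List ℕ) :=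
    [[], [1,1], [2,2], [3,3], [4,5], [5,4], [6,7], [7,6], [8,9], [9,8], [10,10], [11,11], [12,12], [15,15],
    [16,16], [5,5,5], [7,7,7], [7,11,9], [9,9,9], [5,7,5,7], [5,9,5,9], [5,2,4,2], [5,6,5,10], [5,6,10,6],
    [5,10,7,10], [5,3,4,3], [7,7,8,11], [7,9,7,9], [7,1,6,1], [7,11,8,8], [9,1,8,1], [9,2,8,2], [9,10,9,10],
    [1,10,2,10], [1,11,1,11], [1,12,1,12], [1,3,1,3], [2,11,2,12], [2,3,2,3], [10,3,10,3], [15,3,15,1,3],
    [2,15,2,15,2,15], [15,8,15,9], [15,11,15,8,12,9], [16,10,15,10], [3]]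

def cZF : Tr :=
    (.node (.node (.node (.node (.node (.node (.node (.node (.node (.node .leaf 123 10 151 .leaf) 7 5 30
    (.node .leaf 96 4 122 .leaf)) 37 6 128 (.node (.node .leaf 154 2 207 .leaf) 75 11 12 .leaf)) 8 16 64
    (.node (.node (.node .leaf 181 9 72 .leaf) 79 2 22 .leaf) 72 4 192 (.node (.node .leaf 7 0 49 .leaf) 134 5
    133 .leaf))) 4 8 32 (.node (.node (.node (.node .leaf 67 15 166 .leaf) 50 9 7 (.node .leaf 37 0 4 .leaf))
    53 5 160 (.node (.node .leaf 175 0 61 .leaf) 110 10 53 .leaf)) 14 11 96 (.node (.node (.node .leaf 85 10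
    192 .leaf) 48 9 78 .leaf) 9 9 8 (.node (.node .leaf 0 11 0 .leaf) 7 2 7 .leaf)))) 1 9 16 (.node (.node
    (.node (.node (.node .leaf 118 5 155 .leaf) 41 7 40 (.node .leaf 91 0 4 .leaf)) 41 16 144 (.node (.node
    .leaf 165 7 183 .leaf) 6 2 6 .leaf)) 12 10 80 (.node (.node (.node .leaf 182 15 188 .leaf) 21 0 5 .leaf)
    82 12 208 (.node (.node .leaf 86 0 0 .leaf) 138 2 44 .leaf))) 6 2 48 (.node (.node (.node (.node .leaf 64
    0 95 .leaf) 68 8 13 (.node .leaf 0 7 0 .leaf)) 63 2 176 (.node (.node .leaf 85 0 7 .leaf) 41 9 120 .leaf))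
    32 15 112 (.node (.node (.node .leaf 107 7 200 .leaf) 101 7 100 .leaf) 8 1 8 (.node (.node .leaf 10 12 5
    .leaf) 84 12 68 .leaf))))) 0 8 8 (.node (.node (.node (.node (.node (.node .leaf 153 15 85 .leaf) 34 6 10
    (.node .leaf 143 12 112 .leaf)) 39 8 136 (.node (.node .leaf 208 2 86 .leaf) 100 0 30 .leaf)) 10 16 72
    (.node (.node (.node .leaf 169 5 123 .leaf) 14 3 14 .leaf) 74 11 200 (.node (.node .leaf 211 0 7 .leaf)
    124 10 136 .leaf))) 5 6 40 (.node (.node (.node (.node .leaf 172 9 170 .leaf) 62 2 23 (.node .leaf 110 0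
    30 .leaf)) 58 6 168 (.node (.node .leaf 85 0 153 .leaf) 44 11 114 .leaf)) 29 10 104 (.node (.node (.node
    .leaf 158 5 196 .leaf) 60 2 67 .leaf) 13 0 19 (.node (.node .leaf 114 0 146 .leaf) 55 2 55 .leaf)))) 2 8
    24 (.node (.node (.node (.node (.node .leaf 163 2 152 .leaf) 44 6 34 (.node .leaf 37 0 5 .leaf)) 49 6 152
    (.node (.node .leaf 206 0 84 .leaf) 42 12 41 .leaf)) 13 16 88 (.node (.node (.node .leaf 113 10 189 .leaf)
    45 0 46 .leaf) 0 3 0 (.node (.node .leaf 5 0 69 .leaf) 137 0 43 .leaf))) 7 12 56 (.node (.node (.node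
    (.node .leaf 83 9 177 .leaf) 72 3 72 .leaf) 69 16 184 (.node (.node .leaf 158 0 55 .leaf) 129 9 128
    .leaf)) 35 10 120 (.node (.node (.node .leaf 205 5 204 .leaf) 102 11 101 .leaf) 24 2 8 (.node (.node .leaf
    179 0 127 .leaf) 147 11 141 .leaf)))))) 0 4 4 (.node (.node (.node (.node (.node (.node (.node .leaf 60 8
    152 .leaf) 31 2 31 (.node .leaf 122 6 147 .leaf)) 39 2 132 (.node (.node .leaf 207 15 207 .leaf) 105 3 37
    .leaf)) 9 15 68 (.node (.node (.node .leaf 184 10 147 .leaf) 85 11 63 .leaf) 72 11 196 (.node (.node .leaf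
    202 0 11 .leaf) 125 0 134 .leaf))) 4 12 36 (.node (.node (.node (.node .leaf 170 6 69 .leaf) 55 10 45
    (.node .leaf 112 0 30 .leaf)) 55 16 164 (.node (.node .leaf 156 0 166 .leaf) 112 9 37 .leaf)) 29 6 100
    (.node (.node (.node .leaf 194 5 85 .leaf) 32 2 32 .leaf) 16 1 9 (.node (.node .leaf 7 9 0 .leaf) 69 12 10
    .leaf)))) 2 4 20 (.node (.node (.node (.node (.node .leaf 158 8 85 .leaf) 42 11 41 (.node .leaf 122 0 35
    .leaf)) 44 15 148 (.node (.node .leaf 197 3 197 .leaf) 49 2 49 .leaf)) 13 6 84 (.node (.node (.node .leaf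
    187 15 114 .leaf) 25 0 9 .leaf) 86 4 212 (.node (.node .leaf 74 0 10 .leaf) 47 0 140 .leaf))) 6 15 52
    (.node (.node (.node (.node .leaf 72 9 175 .leaf) 43 10 69 .leaf) 66 15 180 (.node (.node .leaf 142 0 107
    .leaf) 124 1 124 .leaf)) 33 15 116 (.node (.node (.node .leaf 202 9 156 .leaf) 101 2 101 .leaf) 20 2 4
    (.node (.node .leaf 161 0 96 .leaf) 144 10 108 .leaf))))) 0 12 12 (.node (.node (.node (.node (.node
    (.node .leaf 76 7 57 .leaf) 39 3 39 (.node .leaf 185 0 71 .leaf)) 39 15 140 (.node (.node .leaf 209 8 208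
    .leaf) 12 0 11 .leaf)) 11 15 76 (.node (.node (.node .leaf 89 16 89 .leaf) 10 1 10 .leaf) 77 4 204 (.node
    (.node .leaf 55 0 0 .leaf) 121 4 39 .leaf))) 5 10 44 (.node (.node (.node (.node .leaf 153 5 173 .leaf) 66
    9 10 (.node .leaf 35 0 0 .leaf)) 61 11 172 (.node (.node .leaf 209 0 52 .leaf) 118 10 37 .leaf)) 30 15 108
    (.node (.node (.node .leaf 199 10 112 .leaf) 31 12 32 .leaf) 15 0 8 (.node (.node .leaf 10 7 32 .leaf) 86
    8 57 .leaf)))) 2 12 28 (.node (.node (.node (.node (.node .leaf 166 7 76 .leaf) 43 7 45 (.node .leaf 127 0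
    0 .leaf)) 52 2 156 (.node (.node .leaf 208 0 87 .leaf) 106 8 36 .leaf)) 14 5 92 (.node (.node (.node .leaf
    191 10 82 .leaf) 9 2 9 .leaf) 5 5 4 (.node (.node .leaf 198 0 120 .leaf) 36 0 35 .leaf))) 8 7 60 (.node
    (.node (.node (.node .leaf 180 9 71 .leaf) 74 7 32 .leaf) 71 7 188 (.node (.node .leaf 52 0 6 .leaf) 110 9
    129 .leaf)) 36 4 124 (.node (.node (.node .leaf 144 9 160 .leaf) 98 0 29 .leaf) 27 9 22 (.node (.node
    .leaf 71 11 37 .leaf) 150 9 142 .leaf))))))) 0 2 2 (.node (.node (.node (.node (.node (.node (.node (.node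
    .leaf 65 9 152 .leaf) 10 5 31 (.node .leaf 127 8 94 .leaf)) 38 8 130 (.node (.node .leaf 207 9 202 .leaf)
    104 2 34 .leaf)) 9 10 66 (.node (.node (.node .leaf 183 8 82 .leaf) 79 7 81 .leaf) 72 6 194 (.node (.node
    .leaf 67 0 6 .leaf) 54 10 135 .leaf))) 4 10 34 (.node (.node (.node (.node .leaf 164 9 169 .leaf) 55 7 8
    (.node .leaf 35 0 4 .leaf)) 55 4 162 (.node (.node .leaf 10 16 10 .leaf) 111 11 33 .leaf)) 29 2 98 (.node
    (.node (.node .leaf 193 10 84 .leaf) 70 1 70 .leaf) 9 7 11 (.node (.node .leaf 6 8 0 .leaf) 8 0 56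
    .leaf)))) 1 12 18 (.node (.node (.node (.node (.node .leaf 155 9 77 .leaf) 34 5 41 (.node .leaf 94 0 7
    .leaf)) 43 12 146 (.node (.node .leaf 213 0 88 .leaf) 11 2 11 .leaf)) 13 2 82 (.node (.node (.node .leaf
    189 15 73 .leaf) 23 0 7 .leaf) 85 2 210 (.node (.node .leaf 200 0 5 .leaf) 139 1 45 .leaf))) 6 11 50
    (.node (.node (.node (.node .leaf 64 11 94 .leaf) 69 9 44 .leaf) 64 4 178 (.node (.node .leaf 87 0 11
    .leaf) 124 2 119 .leaf)) 33 10 114 (.node (.node (.node .leaf 201 10 76 .leaf) 80 8 101 .leaf) 10 2 10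
    (.node (.node .leaf 127 0 168 .leaf) 142 10 57 .leaf))))) 0 10 10 (.node (.node (.node (.node (.node
    (.node .leaf 154 9 76 .leaf) 35 9 30 (.node .leaf 97 0 214 .leaf)) 39 10 138 (.node (.node .leaf 202 11
    208 .leaf) 104 0 34 .leaf)) 11 10 74 (.node (.node (.node .leaf 185 10 89 .leaf) 71 3 71 .leaf) 76 2 202
    (.node (.node .leaf 153 0 7 .leaf) 132 0 39 .leaf))) 5 8 42 (.node (.node (.node (.node .leaf 65 5 172
    .leaf) 60 9 65 (.node .leaf 0 0 5 .leaf)) 59 10 170 (.node (.node .leaf 63 0 8 .leaf) 116 9 112 .leaf)) 30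
    2 106 (.node (.node (.node .leaf 197 10 88 .leaf) 74 1 80 .leaf) 1 0 0 (.node (.node .leaf 148 0 147
    .leaf) 55 15 86 .leaf)))) 2 10 26 (.node (.node (.node (.node (.node .leaf 164 10 149 .leaf) 30 5 44
    (.node .leaf 30 0 38 .leaf)) 49 15 154 (.node (.node .leaf 176 0 63 .leaf) 63 7 52 .leaf)) 14 3 90 (.node
    (.node (.node .leaf 131 0 92 .leaf) 62 0 54 .leaf) 2 3 2 (.node (.node .leaf 157 0 41 .leaf) 139 0 45
    .leaf))) 7 16 58 (.node (.node (.node (.node .leaf 94 9 179 .leaf) 32 10 73 .leaf) 71 4 186 (.node (.node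
    .leaf 156 0 6 .leaf) 128 15 107 .leaf)) 35 15 122 (.node (.node (.node .leaf 199 9 205 .leaf) 101 12 102
    .leaf) 26 1 10 (.node (.node .leaf 147 6 110 .leaf) 149 9 141 .leaf)))))) 0 6 6 (.node (.node (.node
    (.node (.node (.node (.node .leaf 115 5 153 .leaf) 9 5 32 (.node .leaf 122 12 71 .leaf)) 39 5 134 (.node
    (.node .leaf 202 7 176 .leaf) 29 0 4 .leaf)) 10 12 70 (.node (.node (.node .leaf 167 9 184 .leaf) 68 7 86
    .leaf) 73 11 198 (.node (.node .leaf 202 0 0 .leaf) 132 5 121 .leaf))) 4 16 38 (.node (.node (.node (.node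
    .leaf 171 8 87 .leaf) 61 2 61 (.node .leaf 33 0 30 .leaf)) 57 7 166 (.node (.node .leaf 202 0 158 .leaf)
    114 2 114 .leaf)) 29 8 102 (.node (.node (.node .leaf 84 5 195 .leaf) 35 2 36 .leaf) 18 1 12 (.node (.node
    .leaf 115 0 43 .leaf) 50 12 6 .leaf)))) 2 6 22 (.node (.node (.node (.node (.node .leaf 69 5 162 .leaf) 43
    9 42 (.node .leaf 143 0 32 .leaf)) 45 16 150 (.node (.node .leaf 82 0 13 .leaf) 50 2 51 .leaf)) 13 11 86
    (.node (.node (.node .leaf 113 0 178 .leaf) 4 2 4 .leaf) 89 15 214 (.node (.node .leaf 203 0 5 .leaf) 133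
    0 0 .leaf))) 7 2 54 (.node (.node (.node (.node .leaf 176 9 82 .leaf) 71 10 14 .leaf) 67 4 182 (.node
    (.node .leaf 212 0 73 .leaf) 106 7 125 .leaf)) 34 16 118 (.node (.node (.node .leaf 203 11 150 .leaf) 81 4
    29 .leaf) 23 7 22 (.node (.node .leaf 180 0 110 .leaf) 147 8 47 .leaf))))) 0 16 14 (.node (.node (.node
    (.node (.node (.node .leaf 63 12 154 .leaf) 40 10 7 (.node .leaf 126 0 122 .leaf)) 40 16 142 (.node (.node
    .leaf 209 15 209 .leaf) 33 1 33 .leaf)) 12 8 78 (.node (.node (.node .leaf 187 10 92 .leaf) 0 2 0 .leaf)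
    82 6 206 (.node (.node .leaf 63 0 7 .leaf) 137 9 136 .leaf))) 5 12 46 (.node (.node (.node (.node .leaf
    174 10 64 .leaf) 61 9 66 (.node .leaf 0 0 6 .leaf)) 61 15 174 (.node (.node .leaf 87 0 152 .leaf) 42 10
    119 .leaf)) 31 15 110 (.node (.node (.node .leaf 118 9 199 .leaf) 95 11 94 .leaf) 17 0 10 (.node (.node
    .leaf 10 6 43 .leaf) 57 8 84 .leaf)))) 4 6 30 (.node (.node (.node (.node (.node .leaf 166 8 158 .leaf) 21
    12 45 (.node .leaf 5 0 4 .leaf)) 52 7 158 (.node (.node .leaf 193 0 31 .leaf) 107 8 74 .leaf)) 14 7 94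
    (.node (.node (.node .leaf 191 16 191 .leaf) 45 12 5 .leaf) 7 7 6 (.node (.node .leaf 155 0 58 .leaf) 44
    12 114 .leaf))) 8 12 62 (.node (.node (.node (.node .leaf 181 10 68 .leaf) 76 9 52 .leaf) 71 12 190 (.node
    (.node .leaf 76 0 0 .leaf) 77 9 53 .leaf)) 37 2 126 (.node (.node (.node .leaf 122 5 161 .leaf) 75 4 29
    .leaf) 28 2 11 (.node (.node .leaf 91 16 30 .leaf) 147 7 151 .leaf)))))))) 0 1 1 (.node (.node (.node
    (.node (.node (.node (.node (.node (.node .leaf 123 9 109 .leaf) 31 7 30 (.node .leaf 110 9 71 .leaf)) 37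
    11 129 (.node (.node .leaf 207 8 156 .leaf) 103 1 33 .leaf)) 9 6 65 (.node (.node (.node .leaf 173 9 182
    .leaf) 80 2 80 .leaf) 72 5 193 (.node (.node .leaf 67 0 52 .leaf) 135 1 40 .leaf))) 4 9 33 (.node (.node
    (.node (.node .leaf 167 10 145 .leaf) 49 7 50 (.node .leaf 147 0 30 .leaf)) 53 7 161 (.node (.node .leaf
    196 0 69 .leaf) 111 7 74 .leaf)) 14 15 97 (.node (.node (.node .leaf 193 9 150 .leaf) 54 12 8 .leaf) 11 9
    6 (.node (.node .leaf 77 0 14 .leaf) 51 0 50 .leaf)))) 1 10 17 (.node (.node (.node (.node (.node .leaf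
    155 6 127 .leaf) 41 5 6 (.node .leaf 92 0 5 .leaf)) 42 15 145 (.node (.node .leaf 195 9 212 .leaf) 78 0 49
    .leaf)) 12 11 81 (.node (.node (.node .leaf 189 9 187 .leaf) 22 0 6 .leaf) 84 2 209 (.node (.node .leaf
    152 0 0 .leaf) 114 12 138 .leaf))) 6 9 49 (.node (.node (.node (.node .leaf 64 9 14 .leaf) 68 9 63 (.node
    .leaf 0 8 0 .leaf)) 63 4 177 (.node (.node .leaf 86 0 11 .leaf) 122 9 108 .leaf)) 32 16 113 (.node (.node
    (.node .leaf 152 5 200 .leaf) 101 1 31 .leaf) 9 1 9 (.node (.node .leaf 109 0 91 .leaf) 141 10 58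
    .leaf))))) 0 9 9 (.node (.node (.node (.node (.node (.node .leaf 154 8 52 .leaf) 6 5 34 (.node .leaf 214 3
    97 .leaf)) 39 9 137 (.node (.node .leaf 165 9 208 .leaf) 103 0 33 .leaf)) 11 4 73 (.node (.node (.node
    .leaf 109 5 164 .leaf) 89 3 89 .leaf) 74 16 201 (.node (.node .leaf 7 0 8 .leaf) 136 2 136 .leaf))) 5 7 41
    (.node (.node (.node (.node .leaf 172 7 73 .leaf) 63 9 13 (.node .leaf 30 0 4 .leaf)) 58 8 169 (.node
    (.node .leaf 159 0 52 .leaf) 115 2 111 .leaf)) 29 15 105 (.node (.node (.node .leaf 177 10 196 .leaf) 49 2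
    78 .leaf) 13 3 13 (.node (.node .leaf 114 0 33 .leaf) 116 11 108 .leaf)))) 2 9 25 (.node (.node (.node
    (.node (.node .leaf 67 8 163 .leaf) 44 7 10 (.node .leaf 35 0 5 .leaf)) 49 12 153 (.node (.node .leaf 207
    0 85 .leaf) 51 9 54 .leaf)) 14 1 89 (.node (.node (.node .leaf 113 0 130 .leaf) 79 0 48 .leaf) 1 3 1
    (.node (.node .leaf 45 0 10 .leaf) 138 0 44 .leaf))) 7 15 57 (.node (.node (.node (.node .leaf 92 9 178
    .leaf) 34 9 73 .leaf) 71 2 185 (.node (.node .leaf 177 0 43 .leaf) 129 15 74 .leaf)) 35 12 121 (.node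
    (.node (.node .leaf 205 9 118 .leaf) 102 1 32 .leaf) 25 2 9 (.node (.node .leaf 187 0 116 .leaf) 145 7 141
    .leaf)))))) 0 5 5 (.node (.node (.node (.node (.node (.node (.node .leaf 153 2 65 .leaf) 32 11 31 (.node
    .leaf 122 8 143 .leaf)) 39 4 133 (.node (.node .leaf 156 11 206 .leaf) 37 0 105 .leaf)) 10 11 69 (.node
    (.node (.node .leaf 123 5 184 .leaf) 86 9 84 .leaf) 72 15 197 (.node (.node .leaf 0 0 11 .leaf) 125 4 39
    .leaf))) 4 15 37 (.node (.node (.node (.node .leaf 170 7 61 .leaf) 60 11 9 (.node .leaf 33 0 147 .leaf))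
    57 2 165 (.node (.node .leaf 154 0 210 .leaf) 114 9 34 .leaf)) 29 7 101 (.node (.node (.node .leaf 194 10
    83 .leaf) 33 2 33 .leaf) 17 2 10 (.node (.node .leaf 64 0 58 .leaf) 50 2 50 .leaf)))) 2 5 21 (.node (.node
    (.node (.node (.node .leaf 161 11 77 .leaf) 33 5 42 (.node .leaf 116 0 43 .leaf)) 45 15 149 (.node (.node
    .leaf 191 0 72 .leaf) 41 2 41 .leaf)) 13 7 85 (.node (.node (.node .leaf 117 9 189 .leaf) 28 0 12 .leaf)
    88 3 213 (.node (.node .leaf 203 0 200 .leaf) 39 0 5 .leaf))) 6 16 53 (.node (.node (.node (.node .leaf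
    175 6 157 .leaf) 70 2 69 .leaf) 66 16 181 (.node (.node .leaf 150 0 74 .leaf) 125 2 121 .leaf)) 34 15 117
    (.node (.node (.node .leaf 203 6 142 .leaf) 99 0 81 .leaf) 21 2 5 (.node (.node .leaf 31 9 10 .leaf) 145 9
    47 .leaf))))) 0 15 13 (.node (.node (.node (.node (.node (.node .leaf 154 7 68 .leaf) 40 5 10 (.node .leaf
    14 0 0 .leaf)) 40 15 141 (.node (.node .leaf 209 11 183 .leaf) 30 1 30 .leaf)) 11 16 77 (.node (.node
    (.node .leaf 92 6 186 .leaf) 2 0 0 .leaf) 77 5 205 (.node (.node .leaf 87 0 0 .leaf) 121 11 36 .leaf))) 5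
    11 45 (.node (.node (.node (.node .leaf 174 8 71 .leaf) 66 2 66 (.node .leaf 33 0 0 .leaf)) 61 12 173
    (.node (.node .leaf 156 0 84 .leaf) 44 9 119 .leaf)) 30 16 109 (.node (.node (.node .leaf 144 5 199 .leaf)
    94 7 93 .leaf) 16 0 9 (.node (.node .leaf 129 0 71 .leaf) 84 15 50 .leaf)))) 4 1 29 (.node (.node (.node
    (.node (.node .leaf 166 11 84 .leaf) 45 2 45 (.node .leaf 122 0 5 .leaf)) 52 4 157 (.node (.node .leaf 13
    0 0 .leaf) 107 9 31 .leaf)) 14 6 93 (.node (.node (.node .leaf 191 3 191 .leaf) 12 2 11 .leaf) 5 3 5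
    (.node (.node .leaf 164 0 14 .leaf) 70 0 69 .leaf))) 8 10 61 (.node (.node (.node (.node .leaf 180 7 148
    .leaf) 31 9 74 .leaf) 71 11 189 (.node (.node .leaf 166 0 6 .leaf) 77 10 129 .leaf)) 36 11 125 (.node
    (.node (.node .leaf 160 10 122 .leaf) 75 0 81 .leaf) 27 2 12 (.node (.node .leaf 122 0 190 .leaf) 151 15
    120 .leaf))))))) 0 3 3 (.node (.node (.node (.node (.node (.node (.node (.node .leaf 55 11 152 .leaf) 6 10
    31 (.node .leaf 116 7 71 .leaf)) 38 9 131 (.node (.node .leaf 207 12 165 .leaf) 66 12 104 .leaf)) 9 12 67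
    (.node (.node (.node .leaf 183 12 156 .leaf) 85 7 84 .leaf) 72 7 195 (.node (.node .leaf 154 0 7 .leaf) 54
    6 133 .leaf))) 4 11 35 (.node (.node (.node (.node .leaf 170 5 60 .leaf) 55 9 50 (.node .leaf 112 0 42
    .leaf)) 55 12 163 (.node (.node .leaf 159 0 209 .leaf) 111 5 65 .leaf)) 29 5 99 (.node (.node (.node .leaf
    142 9 193 .leaf) 82 15 82 .leaf) 15 1 8 (.node (.node .leaf 66 0 31 .leaf) 35 12 4 .leaf)))) 1 15 19
    (.node (.node (.node (.node (.node .leaf 158 11 76 .leaf) 30 10 41 (.node .leaf 96 0 0 .leaf)) 43 15 147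
    (.node (.node .leaf 88 3 88 .leaf) 11 12 0 .leaf)) 13 5 83 (.node (.node (.node .leaf 178 10 189 .leaf) 24
    0 8 .leaf) 85 12 211 (.node (.node .leaf 73 0 4 .leaf) 140 3 47 .leaf))) 6 12 51 (.node (.node (.node
    (.node .leaf 175 10 63 .leaf) 55 5 69 .leaf) 64 6 179 (.node (.node .leaf 0 15 0 .leaf) 70 8 124 .leaf))
    33 12 115 (.node (.node (.node .leaf 142 5 201 .leaf) 48 10 101 .leaf) 12 1 12 (.node (.node .leaf 188 0
    143 .leaf) 143 10 109 .leaf))))) 0 11 11 (.node (.node (.node (.node (.node (.node .leaf 154 11 57 .leaf)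
    33 7 35 (.node .leaf 89 0 14 .leaf)) 39 11 139 (.node (.node .leaf 208 15 208 .leaf) 48 0 6 .leaf)) 11 12
    75 (.node (.node (.node .leaf 185 15 185 .leaf) 26 0 10 .leaf) 76 5 203 (.node (.node .leaf 115 0 44
    .leaf) 121 0 125 .leaf))) 5 9 43 (.node (.node (.node (.node .leaf 173 2 172 .leaf) 49 11 65 (.node .leaf
    4 0 0 .leaf)) 60 15 171 (.node (.node .leaf 165 0 154 .leaf) 117 10 38 .leaf)) 30 11 107 (.node (.node
    (.node .leaf 198 8 170 .leaf) 75 2 81 .leaf) 0 1 0 (.node (.node .leaf 120 0 35 .leaf) 112 7 108 .leaf))))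
    2 11 27 (.node (.node (.node (.node (.node .leaf 58 9 164 .leaf) 45 9 40 (.node .leaf 30 0 42 .leaf)) 49
    16 155 (.node (.node .leaf 183 0 68 .leaf) 106 4 54 .leaf)) 14 4 91 (.node (.node (.node .leaf 92 8 38
    .leaf) 8 2 8 .leaf) 4 3 4 (.node (.node .leaf 170 0 41 .leaf) 54 0 7 .leaf))) 8 5 59 (.node (.node (.node
    (.node .leaf 180 8 174 .leaf) 66 6 73 .leaf) 71 6 187 (.node (.node .leaf 202 0 55 .leaf) 122 12 129
    .leaf)) 35 16 123 (.node (.node (.node .leaf 204 9 144 .leaf) 102 2 102 .leaf) 26 3 26 (.node (.node .leaf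
    151 0 122 .leaf) 150 10 86 .leaf)))))) 0 7 7 (.node (.node (.node (.node (.node (.node (.node .leaf 67 9
    153 .leaf) 33 9 32 (.node .leaf 126 12 185 .leaf)) 39 6 135 (.node (.node .leaf 206 2 159 .leaf) 75 0 0
    .leaf)) 10 15 71 (.node (.node (.node .leaf 184 5 169 .leaf) 90 0 14 .leaf) 73 16 199 (.node (.node .leaf
    6 0 9 .leaf) 136 1 42 .leaf))) 5 1 39 (.node (.node (.node (.node .leaf 152 15 87 .leaf) 10 9 61 (.node
    .leaf 30 0 31 .leaf)) 58 5 167 (.node (.node .leaf 165 0 211 .leaf) 73 9 114 .leaf)) 29 9 103 (.node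
    (.node (.node .leaf 196 9 194 .leaf) 42 2 42 .leaf) 19 3 13 (.node (.node .leaf 33 0 146 .leaf) 8 12 7
    .leaf)))) 2 7 23 (.node (.node (.node (.node (.node .leaf 59 7 162 .leaf) 44 5 7 (.node .leaf 110 0 31
    .leaf)) 47 11 151 (.node (.node .leaf 72 0 10 .leaf) 68 11 52 .leaf)) 13 12 87 (.node (.node (.node .leaf
    113 8 92 .leaf) 5 2 5 .leaf) 3 0 0 (.node (.node .leaf 150 0 10 .leaf) 121 0 4 .leaf))) 7 9 55 (.node
    (.node (.node (.node .leaf 176 15 176 .leaf) 72 10 13 .leaf) 68 2 183 (.node (.node .leaf 157 0 170 .leaf)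
    126 15 126 .leaf)) 35 4 119 (.node (.node (.node .leaf 160 9 204 .leaf) 98 5 75 .leaf) 24 11 23 (.node
    (.node .leaf 179 0 168 .leaf) 147 9 145 .leaf))))) 1 8 15 (.node (.node (.node (.node (.node (.node .leaf
    155 10 128 .leaf) 40 2 40 (.node .leaf 71 0 10 .leaf)) 41 15 143 (.node (.node .leaf 176 7 209 .leaf) 34
    12 66 .leaf)) 12 9 79 (.node (.node (.node .leaf 188 11 180 .leaf) 20 0 4 .leaf) 82 7 207 (.node (.node
    .leaf 43 0 44 .leaf) 70 10 137 .leaf))) 5 15 47 (.node (.node (.node (.node .leaf 174 11 148 .leaf) 34 11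
    66 (.node .leaf 0 5 0 .leaf)) 61 16 175 (.node (.node .leaf 84 0 6 .leaf) 119 9 69 .leaf)) 32 7 111 (.node
    (.node (.node .leaf 200 9 111 .leaf) 100 1 30 .leaf) 18 0 12 (.node (.node .leaf 10 11 5 .leaf) 76 12 86
    .leaf)))) 4 7 31 (.node (.node (.node (.node (.node .leaf 166 9 85 .leaf) 49 9 11 (.node .leaf 122 0 4
    .leaf)) 52 12 159 (.node (.node .leaf 195 0 34 .leaf) 49 10 107 .leaf)) 14 8 95 (.node (.node (.node .leaf
    83 6 192 .leaf) 48 7 81 .leaf) 8 11 7 (.node (.node .leaf 182 0 41 .leaf) 45 1 45 .leaf))) 8 15 63 (.node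
    (.node (.node (.node .leaf 150 5 181 .leaf) 79 9 78 .leaf) 72 1 191 (.node (.node .leaf 55 0 11 .leaf) 131
    9 130 .leaf)) 37 4 127 (.node (.node (.node .leaf 207 11 176 .leaf) 75 6 48 .leaf) 29 3 29 (.node (.node
    .leaf 143 6 71 .leaf) 143 9 151 .leaf)))))))))

def cZS : List (ℕ × ℕ × List ℕ) :=
    [(0,0,[]), (0,0,[]), (0,0,[]), (0,0,[]), (0,0,[]), (0,0,[]), (0,0,[]), (0,0,[]), (0,0,[]), (0,0,[]),
    (0,0,[]), (0,0,[]), (0,0,[]), (0,0,[]), (0,0,[]), (0,0,[]), (0,0,[]), (0,0,[]), (0,0,[]), (0,0,[]),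
    (0,0,[]), (0,0,[]), (0,0,[]), (0,0,[]), (0,0,[]), (0,0,[]), (0,0,[]), (0,0,[]), (0,0,[]), (0,0,[]),
    (0,0,[]), (0,0,[]), (0,0,[]), (0,0,[]), (0,0,[]), (0,0,[]), (0,0,[]), (0,0,[]), (0,0,[]), (0,0,[]),
    (0,0,[]), (0,0,[]), (0,0,[]), (0,0,[]), (0,0,[]), (0,0,[]), (0,0,[]), (0,0,[]), (0,0,[]), (0,0,[]),
    (0,0,[]), (0,0,[]), (0,0,[]), (0,0,[]), (0,0,[]), (0,0,[]), (0,0,[]), (0,0,[]), (0,0,[]), (0,0,[]),
    (0,0,[]), (0,0,[]), (0,0,[]), (0,0,[]), (0,0,[]), (0,0,[]), (0,0,[]), (0,0,[]), (0,0,[]), (0,0,[]),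
    (0,0,[]), (0,0,[]), (0,0,[]), (0,0,[]), (0,0,[]), (0,0,[]), (0,0,[]), (0,0,[]), (0,0,[]), (0,0,[]),
    (0,0,[]), (0,0,[]), (0,0,[]), (0,0,[]), (0,0,[]), (0,0,[]), (0,0,[]), (0,0,[]), (0,0,[]), (0,0,[]),
    (0,0,[]), (0,0,[]), (0,0,[]), (0,0,[]), (0,0,[]), (0,0,[]), (0,0,[]), (0,0,[]), (0,0,[]), (0,0,[]),
    (0,0,[]), (0,0,[]), (0,0,[]), (0,0,[]), (0,0,[]), (0,0,[]), (0,0,[]), (0,0,[]), (0,0,[]), (0,0,[]),
    (0,0,[]), (0,0,[]), (0,0,[]), (0,0,[]), (0,0,[]), (0,0,[]), (0,0,[]), (0,0,[]), (0,0,[]), (0,0,[]),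
    (0,0,[]), (0,0,[]), (0,0,[]), (0,0,[]), (0,0,[]), (0,0,[]), (0,0,[]), (0,0,[]), (0,0,[]), (0,0,[]),
    (0,0,[]), (0,0,[]), (0,0,[]), (0,0,[]), (0,0,[]), (0,0,[]), (0,0,[]), (0,0,[]), (0,0,[]), (0,0,[]),
    (0,0,[]), (0,0,[]), (0,0,[]), (0,0,[]), (0,0,[]), (0,0,[]), (0,0,[]), (0,0,[]), (0,0,[]), (0,0,[]),
    (0,0,[]), (0,0,[]), (0,0,[]), (0,0,[]), (0,0,[]), (0,0,[]), (0,0,[]), (0,0,[]), (0,0,[]), (0,0,[]),
    (0,0,[]), (0,0,[]), (0,0,[]), (0,0,[]), (0,0,[]), (0,0,[]), (0,0,[]), (0,0,[]), (0,0,[]), (0,0,[]),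
    (0,0,[]), (0,0,[]), (0,0,[]), (0,0,[]), (0,0,[]), (0,0,[]), (0,0,[]), (0,0,[]), (0,0,[]), (0,0,[]),
    (0,0,[]), (0,0,[]), (0,0,[]), (0,0,[]), (0,0,[]), (0,0,[]), (0,0,[]), (0,0,[]), (0,0,[]), (0,0,[]),
    (0,0,[]), (0,0,[]), (0,0,[]), (0,0,[]), (0,0,[]), (0,0,[]), (0,0,[]), (0,0,[]), (0,0,[]), (0,0,[]),
    (0,0,[]), (0,0,[]), (0,0,[]), (0,0,[]), (0,0,[]), (0,0,[]), (0,0,[]), (0,0,[]), (0,0,[]), (0,0,[]),
    (0,0,[]), (0,0,[]), (0,0,[]), (0,0,[]), (47,0,[4]), (5,0,[4,428]), (38,3,[1,431,0]), (40,3,[3,431,2]),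
    (27,3,[7,430,6]), (17,1,[7,8]), (27,1,[9,430,8]), (18,1,[11,12]), (28,3,[442,11,14]), (20,1,[15,16]),
    (19,2,[11,20]), (19,0,[21,16]), (32,3,[15,0,28]), (32,1,[17,0,30]), (35,2,[19,0,32]), (37,2,[23,0,34]),
    (42,1,[25,0,432,36]), (47,0,[460]), (5,0,[461,463]), (15,0,[24,462,37]), (3,0,[0,466]),
    (11,0,[15,467,28]), (10,0,[17,467,30]), (12,0,[19,467,32]), (14,0,[23,467,34]), (3,0,[453,470]),
    (3,0,[455,472]), (4,0,[457,474]), (3,0,[459,476]), (23,3,[7,2,38]), (23,1,[9,2,40]), (18,1,[43,44]),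
    (28,3,[490,43,46]), (33,3,[15,2,46]), (33,1,[17,2,48]), (35,0,[19,2,50]), (41,1,[51,434,50]),
    (19,2,[43,52]), (39,2,[23,2,52]), (39,0,[21,2,54]), (38,1,[57,436,56]), (21,0,[59,7,12]), (18,1,[59,60]),
    (24,0,[61,7,18]), (25,2,[61,7,10]), (23,1,[515,482,514]), (28,3,[512,59,62]), (22,0,[63,7,16]),
    (20,1,[63,64]), (25,3,[514,61,66]), (24,2,[67,7,10]), (19,2,[59,68]), (19,0,[69,64]), (38,1,[77,440,76]),
    (24,2,[19,8,78]), (25,2,[13,8,78]), (23,3,[536,483,537]), (18,1,[79,80]), (21,2,[11,8,80]),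
    (24,0,[81,438,66]), (25,2,[81,438,58]), (28,3,[542,79,82]), (22,0,[83,438,64]), (20,1,[83,84]),
    (24,0,[13,8,86]), (25,3,[546,81,86]), (26,2,[19,8,86]), (24,2,[87,438,58]), (19,2,[79,88]),
    (19,0,[89,84]), (33,3,[564,541,565]), (39,3,[569,89,489]), (20,1,[448,96]), (19,2,[442,98]),
    (19,0,[99,96]), (19,0,[444,108]), (20,1,[574,108]), (34,1,[564,538,108]), (19,1,[446,118]),
    (35,2,[121,478,120]), (34,0,[121,15,18]), (39,0,[493,494,122]), (44,3,[25,14,124]), (19,2,[129,585]),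
    (28,3,[129,450,573]), (34,2,[19,16,130]), (35,2,[131,480,130]), (34,0,[131,446,120]), (19,1,[598,527]),
    (44,1,[25,16,134]), (44,3,[125,447,134]), (19,2,[560,136]), (22,0,[610,556,108]), (34,3,[610,87,84]),
    (39,0,[137,482,138]), (46,3,[27,18,140]), (46,1,[25,18,142]), (41,3,[620,465,621]), (22,3,[145,448,528]),
    (24,3,[145,451,522]), (25,3,[145,451,130]), (26,2,[626,145,146]), (34,0,[147,448,516]),
    (44,3,[103,449,150]), (20,1,[155,156]), (33,1,[503,504,156]), (35,2,[159,484,158]), (19,0,[161,156]),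
    (18,1,[167,168]), (19,1,[592,168]), (19,2,[167,170]), (19,0,[171,607]), (47,0,[178]), (5,0,[178,652]),
    (38,3,[177,655,176]), (41,3,[618,655,619]), (42,0,[140,659,141,499,501]), (3,0,[499,660]),
    (12,0,[18,661,51]), (4,0,[2,664]), (7,0,[7,665,38]), (6,0,[9,665,40]), (9,0,[11,665,42]),
    (8,0,[13,665,44]), (11,0,[15,665,46]), (10,0,[17,665,48]), (14,0,[23,665,54]), (4,0,[487,668]),
    (4,0,[489,670]), (14,0,[91,671,570]), (4,0,[95,673,639]), (4,0,[107,675,591]), (4,0,[495,676]),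
    (4,0,[497,678]), (4,0,[507,680]), (14,0,[90,687]), (9,0,[643,688]), (11,0,[637,688]), (14,0,[122,690]),
    (37,2,[139,663,138]), (43,3,[163,25,667,24,162]), (33,3,[63,683,62]), (33,1,[65,683,64]),
    (39,2,[71,683,68]), (33,3,[83,685,82]), (39,2,[133,695,585]), (33,3,[155,696,573]), (35,0,[159,696,146]),
    (39,0,[161,696,148]), (39,3,[711,520,519]), (18,1,[185,186]), (28,3,[728,185,188]), (30,3,[59,56,198]),
    (18,1,[199,200]), (30,1,[61,56,200]), (32,2,[736,632,722]), (35,3,[736,517,94]), (33,3,[739,640,738]),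
    (25,1,[701,740,201,196]), (6,0,[196,744]), (23,0,[724,746,194]), (28,3,[734,199,202]), (32,3,[63,56,202]),
    (37,3,[752,727,737]), (39,0,[750,742,754]), (33,2,[202,757,203,194]), (6,0,[746,759,748]),
    (6,0,[747,761]), (8,0,[700,761]), (13,0,[160,761]), (32,1,[65,56,204]), (35,2,[67,56,206]),
    (39,3,[770,604,601]), (42,1,[73,56,508,208]), (47,0,[774]), (15,0,[72,776,209]), (6,0,[6,779,763]),
    (9,0,[59,779,198]), (10,0,[65,779,204]), (12,0,[67,779,206]), (9,0,[11,781,764]), (13,0,[21,781,766]),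
    (3,0,[733,782]), (3,0,[769,784]), (14,0,[772,786]), (4,0,[94,788]), (10,0,[97,789,702]), (4,0,[697,790]),
    (14,0,[22,790]), (4,0,[720,800]), (35,2,[549,793,548]), (39,2,[101,799,98]), (45,1,[103,449,804,16,134]),
    (39,3,[809,551,717]), (33,0,[107,575,810]), (19,0,[813,608]), (23,2,[107,510,210]), (33,2,[715,530,210]),
    (19,2,[512,212]), (31,2,[633,512,212]), (34,3,[824,517,96]), (46,3,[105,516,218]), (18,1,[630,220]),
    (19,1,[524,220]), (21,2,[129,522,220]), (44,3,[73,62,222]), (34,2,[67,64,226]), (35,2,[227,794,226]),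
    (34,0,[227,524,626]), (19,1,[840,559]), (39,0,[834,712,228]), (44,3,[223,525,230]), (46,3,[75,66,232]),
    (46,1,[73,66,234]), (22,3,[237,530,562]), (24,3,[237,533,552]), (20,1,[610,856]), (34,0,[239,530,548]),
    (44,3,[215,531,242]), (23,3,[237,714,246]), (33,2,[866,860,617]), (32,3,[869,706,868]),
    (39,2,[241,714,248]), (19,0,[249,823]), (43,1,[251,73,682,72,250]), (19,2,[255,256]),
    (45,2,[633,726,63,72,256]), (44,0,[826,881,878]), (45,4,[878,882,213,214,865]), (44,3,[880,633,218]),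
    (46,1,[880,147,152]), (34,2,[831,886,889]), (20,1,[259,260]), (17,1,[265,266]), (30,3,[79,76,268]),
    (35,3,[896,538,106]), (25,3,[265,268,899]), (21,0,[894,901,821,874]), (6,0,[266,903]),
    (23,0,[873,904,262]), (32,3,[83,76,270]), (35,3,[908,858,867]), (35,2,[911,870,910]),
    (33,2,[270,913,271,262]), (6,0,[904,915,906]), (6,0,[905,917]), (13,0,[248,917]), (20,1,[271,272]),
    (34,3,[922,911,869]), (35,2,[87,76,274]), (39,3,[926,846,843]), (36,2,[89,76,276]),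
    (42,1,[93,76,534,278]), (47,0,[932]), (15,0,[92,934,279]), (7,0,[8,937,264]), (6,0,[439,937,919]),
    (10,0,[85,937,272]), (12,0,[87,937,274]), (13,0,[89,937,276]), (8,0,[13,939,901]), (13,0,[69,941,920]),
    (12,0,[615,943,925]), (14,0,[928,944]), (3,0,[931,946]), (4,0,[106,948]), (11,0,[574,949,817]),
    (14,0,[111,949,704]), (14,0,[70,950]), (14,0,[138,952]), (4,0,[810,960]), (14,0,[100,960]),
    (14,0,[110,963]), (35,2,[582,957,583]), (45,1,[215,531,964,64,230]), (45,0,[171,25,14,972,108]),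
    (19,0,[977,850]), (44,1,[113,108,978]), (44,0,[581,978,648]), (31,3,[167,170,982]),
    (45,4,[648,984,99,102,635]), (45,4,[608,125,444,112,986]), (46,3,[115,539,280]), (46,1,[113,539,282]),
    (46,3,[217,548,284]), (46,1,[215,548,286]), (44,3,[93,82,288]), (44,1,[93,84,292]), (44,3,[289,555,292]),
    (45,1,[281,565,698,84,292]), (31,0,[1007,1002,1001]), (44,3,[281,565,296]), (46,1,[979,582,298]),
    (34,2,[994,983,1013]), (45,2,[863,815,83,92,300]), (19,0,[301,1003]), (44,3,[1016,863,284]),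
    (46,1,[1016,239,244]), (34,2,[997,1020,1023]), (19,2,[303,596]), (28,3,[303,576,581]),
    (31,3,[303,596,595]), (39,0,[597,806,304]), (23,0,[1032,837,849]), (33,0,[1032,595,718]),
    (45,0,[646,125,447,132,1036]), (44,1,[103,96,306]), (44,3,[151,573,306]), (45,1,[113,575,970,96,306]),
    (31,0,[1045,1040,635]), (19,0,[812,1041]), (45,4,[1042,151,21,24,593]), (46,1,[882,829,308]),
    (26,0,[1052,255,855]), (25,3,[253,254,1053]), (34,2,[888,878,1053]), (19,1,[634,314]),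
    (28,2,[646,818,314]), (19,1,[890,320]), (17,2,[323,612]), (21,3,[323,578,116]), (39,0,[1029,974,324]),
    (33,2,[1070,1031,718]), (46,1,[297,583,326]), (34,0,[1074,1010,992]), (18,1,[1046,330]), (19,1,[987,330]),
    (28,2,[1060,1046,330]), (29,1,[644,987,330]), (45,0,[1080,984,581,324,1073]), (26,1,[1008,992,332]),
    (20,2,[337,1076]), (24,0,[119,116,338]), (25,3,[1066,1069,338]), (26,2,[121,116,338]),
    (45,3,[173,607,135,585,340]), (44,2,[1099,341,1030]), (19,2,[1096,342]), (28,0,[629,603,342]),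
    (22,0,[1102,1092,594]), (39,0,[343,586,344]), (23,0,[1108,1107,1033]), (44,1,[141,588,346]),
    (46,3,[127,120,346]), (45,1,[295,611,966,588,346]), (34,2,[189,619,1113,1114]), (11,0,[188,1119]),
    (13,0,[731,1119]), (46,1,[125,120,348]), (34,0,[1124,592,621]), (25,3,[313,819,1125]),
    (33,0,[163,593,350]), (43,1,[351,125,692,124,350]), (22,3,[353,592,164]), (22,3,[355,1120,182]),
    (19,2,[357,1122]), (44,1,[347,602,358]), (44,3,[141,599,358]), (19,0,[1117,1141]), (46,1,[135,130,360]),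
    (26,0,[1146,650,1013]), (34,2,[620,607,1147]), (22,3,[363,1036,1110]), (33,2,[163,607,364]),
    (39,3,[311,813,364]), (46,1,[293,614,366]), (26,0,[1158,1018,1023]), (34,0,[1158,1004,1089]),
    (22,2,[337,332,1162]), (17,1,[1160,1164]), (22,2,[1090,1166,1024]), (35,3,[177,619,368]),
    (43,1,[369,141,482,140,368]), (46,0,[1171,1172,1170]), (24,1,[371,618,182]), (25,2,[1176,371,372]),
    (19,1,[1142,374]), (45,0,[1180,359,603,344,1152]), (19,2,[373,376]), (45,2,[625,796,598,140,376]),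
    (34,3,[1184,1178,1136]), (44,0,[845,1187,1184]), (44,3,[1186,625,232]), (46,1,[1188,1186,627,224]),
    (10,0,[1136,1195]), (12,0,[1189,1195]), (34,2,[259,853,1192,1199]), (11,0,[1197,1200,893]),
    (10,0,[260,1202]), (35,1,[163,621,380]), (38,1,[381,622,380]), (46,0,[1206,709,1207]),
    (24,1,[383,620,164]), (26,3,[383,620,168]), (22,1,[1148,1150,384]), (26,1,[167,621,384]),
    (20,2,[1216,1014]), (24,2,[1214,383,386]), (25,2,[1212,383,386]), (24,0,[389,384,1218]), (19,2,[387,390]),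
    (22,0,[1228,1222,1063]), (34,3,[1228,1224,1134]), (46,3,[175,621,392]), (31,2,[1103,1104,394]),
    (46,1,[223,626,396]), (26,0,[1238,980,999]), (34,0,[1238,838,855]), (19,2,[832,398]), (19,0,[399,827]),
    (22,0,[1244,836,1026]), (46,1,[151,146,400]), (26,0,[1250,1046,995]), (33,0,[311,635,402]),
    (24,1,[1252,1250,404]), (19,1,[1014,1257]), (22,3,[407,890,318]), (17,1,[407,408]),
    (22,1,[1054,1058,408]), (20,2,[1264,1242]), (22,3,[1240,1266,1262]), (20,1,[1260,1268]),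
    (34,1,[864,999,1270]), (24,0,[321,318,1272]), (19,1,[1130,412]), (39,0,[1276,351,1050]),
    (33,2,[311,1041,1278]), (33,0,[403,1043,1278]), (39,3,[329,1045,1278]), (43,1,[1279,307,806,306,1278]),
    (28,3,[411,412,1280]), (31,0,[1277,1280,1255]), (39,2,[317,310,1288]), (39,0,[171,162,414]),
    (33,0,[1294,982,328]), (39,1,[1294,989,402]), (43,5,[1294,979,975,978,1295]), (33,2,[1294,648,416]),
    (39,1,[365,991,416]), (43,1,[417,984,968,985,416]), (28,1,[1302,1299,1290]), (31,0,[1305,1302,1297]),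
    (22,3,[423,648,1226]), (47,0,[424]), (5,0,[424,1314]), (41,3,[1234,1317,1235]),
    (42,0,[392,1319,393,380,1209]), (12,0,[621,1321,1206]), (16,0,[142,1321,1211,1320]), (9,0,[167,1323,410]),
    (8,0,[169,1323,412]), (11,0,[592,1323,1131]), (10,0,[606,1323,1155]), (14,0,[173,1323,414]),
    (15,0,[24,1323,709,1322]), (6,0,[515,1325,384]), (8,0,[526,1325,388]), (10,0,[589,1325,1126]),
    (13,0,[137,1325,390]), (16,0,[142,1324]), (4,0,[417,1327,1292]), (13,0,[1080,1327,1289]),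
    (4,0,[419,1329,1279]), (10,0,[1062,1329,1282]), (14,0,[421,1329,1284]), (15,0,[1038,1329,1287,1328]),
    (8,0,[819,1331,1308,1349]), (15,0,[124,1331,1133,1330]), (9,0,[1048,1333,1311]), (2,0,[1361,1348]),
    (14,0,[990,1333,1156]), (15,0,[1100,1335,1301,1334]), (9,0,[11,1337,166]), (8,0,[13,1337,168]),
    (13,0,[21,1337,170]), (14,0,[804,1337,172]), (15,0,[24,1336]), (11,0,[824,1339,1221]),
    (10,0,[633,1339,1216]), (10,0,[625,1341,1312]), (9,0,[1096,1343,1128]), (7,0,[612,1345,1231]),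
    (12,0,[614,1345,1233]), (2,0,[1373,1369]), (2,0,[1391,1355]), (15,0,[102,1367,1307,1366]),
    (2,0,[1395,1350]), (8,0,[10,1401,1078]), (11,0,[448,1401,1082,1390]), (10,0,[97,1401,1084,1374]),
    (15,0,[103,1401,1087]), (2,0,[1399,1409]), (4,0,[958,1375,418,1353]), (2,0,[1405,1397]),
    (4,0,[802,1415,403,1402]), (2,0,[1416,1415]), (10,0,[17,1419,1254,1394]), (2,0,[1413,1365,1356]),
    (14,0,[972,1423,421,1374]), (2,0,[1375,1358]), (7,0,[556,1427,1035]), (2,0,[1416,1405]),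
    (2,0,[1416,1379]), (2,0,[1424,1363]), (7,0,[556,1435,352,1392]), (2,0,[1416,1377]), (2,0,[1433,1370]),
    (6,0,[9,1441,1248]), (7,0,[7,1439,422,1386]), (12,0,[19,1439,1013,1384]), (8,0,[1247,1383,1257]),
    (2,0,[1443,1449]), (2,0,[1447,1385]), (13,0,[137,1453,1259,1450]), (16,0,[1346,1453,299]),
    (8,0,[81,1454,1095,1389]), (2,0,[1459,1388]), (10,0,[863,1461,1237]), (16,0,[27,1431,326]),
    (16,0,[115,1406,308]), (7,0,[544,1411,362]), (13,0,[20,1417]), (16,0,[27,1416,152]), (10,0,[16,1421]),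
    (12,0,[517,1420,130]), (11,0,[14,1425]), (16,0,[115,1424,126]), (2,0,[1436,1429]), (14,0,[291,1483,229]),
    (14,0,[291,1436,954]), (2,0,[1484,1487]), (15,0,[293,1436,294]), (13,0,[69,1445,394,1462]),
    (9,0,[631,1446]), (15,0,[141,1447,881]), (8,0,[566,1456]), (13,0,[88,1456]), (14,0,[699,1456]),
    (7,0,[181,1465,1169]), (9,0,[335,1467,1056]), (15,0,[285,1469,1182]), (13,0,[191,1473,1065]),
    (11,0,[599,1476]), (15,0,[219,1477,358]), (9,0,[335,1481,356]), (2,0,[1506,1517]), (15,0,[231,1489,1191]),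
    (8,0,[1515,1144,1490]), (15,0,[243,1493,1017]), (13,0,[256,1496]), (14,0,[379,1497,885]),
    (16,0,[216,1504]), (8,0,[374,1508]), (6,0,[1274,1510]), (11,0,[1143,1514]), (10,0,[1138,1518]),
    (9,0,[372,1520]), (8,0,[1018,1524]), (10,0,[1020,1524]), (14,0,[378,1529]), (39,3,[369,1526,250]),
    (45,4,[838,73,68,242,1544]), (42,1,[193,176,656,426]), (47,0,[1552]), (15,0,[192,1554,427]),
    (12,0,[618,1557,1171]), (16,0,[26,1557,1175,1556]), (14,0,[1546,1559,1549]), (15,0,[140,1559,1173,1558]),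
    (7,0,[7,1561,180]), (6,0,[9,1561,182]), (8,0,[13,1561,186]), (13,0,[1470,1561,190]),
    (15,0,[242,1563,877,1562]), (9,0,[1499,1565,1541]), (8,0,[1495,1565,1533]), (11,0,[1512,1565,1537]),
    (13,0,[1501,1565,1526]), (14,0,[1503,1565,1547,1574]), (16,0,[75,1567,1530]), (11,0,[83,1569,1204,1587]),
    (10,0,[1479,1571,1539]), (2,0,[1585,1575]), (7,0,[7,1573,1534,1592]), (2,0,[1595,1593]),
    (2,0,[1595,1583]), (9,0,[59,1597,1542]), (2,0,[1595,1585]), (10,0,[555,1577,850]), (2,0,[1588,1605]),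
    (15,0,[293,1577,231]), (2,0,[1601,1609]), (14,0,[726,1579,1550,1606]), (2,0,[1612,1581]),
    (8,0,[58,1615,1523,1600]), (7,0,[438,1599,252,1590]), (2,0,[1618,1594]), (2,0,[1621,1603]),
    (2,0,[1621,1617,1611]), (9,0,[11,1623,533,1624]), (7,0,[6,1620]), (9,0,[10,1627]), (10,0,[1475,1627])]

def cZT : List (List ℕ × List ℕ) :=
    [([1],[469]), ([4],[1629]), ([5],[1628]), ([6],[1631]), ([7],[1630]), ([8],[1632]), ([9],[1633]),
    ([15],[1381])]

theorem cZC : cert [[3]] [] cZW cZF cZS cZT = true := by decide +kernel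

def cMW : List (List ℕ) :=
    [[2,2], [8,9], [16,16], [9,9,9], [9,1,8,1], [9,2,8,2], [9,3,8,3], [1,3,1,3], [2,3,2,3], [1,2,1,2,3],
    [15,1,15,1], [15,3,15,1,3], [15,8,15,9], [16,2,16,2], [16,3,16,2,3], [16,8,16,9],
    [1,2,15,16,1,2,15,16,1,2,15,16,1,2,15,16,9]]

def cMF : Tr :=
    (.node (.node (.node (.node (.node (.node (.node .leaf 39 16 37 .leaf) 12 3 32 .leaf) 14 9 16 (.node
    (.node .leaf 46 1 51 .leaf) 33 16 48 .leaf)) 7 2 8 (.node (.node (.node .leaf 45 3 28 .leaf) 18 2 40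
    .leaf) 6 3 24 (.node .leaf 26 2 25 .leaf))) 2 15 4 (.node (.node (.node (.node .leaf 42 8 23 .leaf) 14 2
    36 .leaf) 0 15 20 (.node (.node .leaf 15 0 38 .leaf) 12 16 7 .leaf)) 10 2 12 (.node (.node (.node .leaf 48
    2 39 .leaf) 24 9 44 .leaf) 9 9 28 (.node .leaf 34 9 33 .leaf)))) 0 8 2 (.node (.node (.node (.node (.node
    .leaf 41 1 19 .leaf) 13 9 34 .leaf) 0 1 18 (.node (.node .leaf 39 0 14 .leaf) 36 1 50 .leaf)) 8 16 10
    (.node (.node (.node .leaf 46 2 30 .leaf) 20 3 42 .leaf) 8 3 26 (.node .leaf 30 1 28 .leaf))) 4 2 6 (.node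
    (.node (.node (.node .leaf 43 1 26 .leaf) 16 16 38 .leaf) 3 15 22 (.node .leaf 22 1 7 .leaf)) 12 15 14
    (.node (.node (.node .leaf 50 2 47 .leaf) 29 9 46 .leaf) 11 9 30 (.node .leaf 35 15 31 .leaf))))) 0 2 1
    (.node (.node (.node (.node (.node (.node .leaf 40 3 21 .leaf) 13 8 33 .leaf) 15 16 17 (.node (.node .leaf
    48 0 36 .leaf) 34 16 49 .leaf)) 4 16 9 (.node (.node (.node .leaf 45 16 44 .leaf) 18 3 41 .leaf) 7 3 25
    (.node .leaf 27 16 24 .leaf))) 3 1 5 (.node (.node (.node (.node .leaf 42 15 41 .leaf) 15 8 37 .leaf) 1 1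
    21 (.node (.node .leaf 15 16 16 .leaf) 20 8 4 .leaf)) 11 15 13 (.node (.node (.node .leaf 49 9 48 .leaf)
    27 9 45 .leaf) 11 2 29 (.node .leaf 34 15 30 .leaf)))) 1 16 3 (.node (.node (.node (.node (.node .leaf 41
    2 21 .leaf) 14 1 35 .leaf) 0 3 19 (.node (.node .leaf 17 0 16 .leaf) 42 16 51 .leaf)) 9 1 11 (.node (.node
    (.node .leaf 47 3 35 .leaf) 22 2 43 .leaf) 9 3 27 (.node .leaf 32 16 26 .leaf))) 5 15 7 (.node (.node
    (.node (.node .leaf 44 2 42 .leaf) 17 8 39 .leaf) 4 3 23 (.node .leaf 24 2 23 .leaf)) 13 2 15 (.node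
    (.node (.node .leaf 51 2 45 .leaf) 32 15 47 .leaf) 12 1 31 (.node .leaf 37 2 33 .leaf))))))

def cMS : List (ℕ × ℕ × List ℕ) :=
    [(0,0,[]), (0,0,[]), (0,0,[]), (0,0,[]), (0,0,[]), (0,0,[]), (0,0,[]), (0,0,[]), (0,0,[]), (0,0,[]),
    (0,0,[]), (0,0,[]), (0,0,[]), (0,0,[]), (0,0,[]), (0,0,[]), (0,0,[]), (0,0,[]), (0,0,[]), (0,0,[]),
    (0,0,[]), (0,0,[]), (0,0,[]), (0,0,[]), (0,0,[]), (0,0,[]), (0,0,[]), (0,0,[]), (0,0,[]), (0,0,[]),
    (0,0,[]), (0,0,[]), (0,0,[]), (0,0,[]), (0,0,[]), (0,0,[]), (0,0,[]), (0,0,[]), (0,0,[]), (0,0,[]),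
    (0,0,[]), (0,0,[]), (0,0,[]), (0,0,[]), (0,0,[]), (0,0,[]), (0,0,[]), (0,0,[]), (0,0,[]), (0,0,[]),
    (0,0,[]), (15,2,[14,18,22]), (14,1,[7,3,38]), (12,1,[13,9,42]), (10,2,[45,10,46]), (10,2,[49,14,50]),
    (16,2,[108,45,16,52]), (6,1,[55,20,58]), (16,2,[110,49,103,62]), (5,1,[65,66]), (14,0,[59,24,66]),
    (12,2,[61,26,68]), (7,3,[65,28,72]), (17,2,[73,32,76]), (11,4,[41,1,34,78]), (9,2,[37,34,80]),
    (10,2,[129,79,80]), (8,2,[45,105,82]), (13,2,[130,37,38,82]), (11,2,[110,49,107,84]), (7,1,[134,109,86]),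
    (8,1,[55,52,88]), (17,0,[87,113,88]), (7,1,[59,56,90]), (13,1,[122,61,62,92]), (15,1,[126,124,94]),
    (17,3,[95,119,96]), (11,3,[148,69,70,98]), (15,1,[144,140,100]), (11,2,[156,142,115,147]),
    (18,0,[98,154,93,116,139,85,43,5,40,133,137,100,159,146,121,96,152]), (2,0,[70,161,150]),
    (3,0,[31,163,77]), (4,0,[75,165,33]), (4,0,[74,167])]

def cMT : List (List ℕ × List ℕ) :=
    [([2,16,1,15,2,16,2,15,9,16,2,15,1,16,2,2,15,9],[0,4,8,12,14,18,22,26,30,169,29,25,21,17,10,11,7,3])]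

theorem cMC : cert (rD ++ [w2 5, w3 5, w4 ++ [9]]) [] cMW cMF cMS cMT = true := by decide +kernel

def cNW : List (List ℕ) :=
    [[8,9], [16,16], [9,9,9], [9,1,8,1], [9,2,8,2], [9,3,8,3], [1,3,1,3], [2,3,2,3], [1,2,1,2,3], [15,1,15,1],
    [15,3,15,1,3], [15,8,15,9], [16,2,16,2], [16,3,16,2,3], [16,8,16,9],
    [1,2,15,16,1,2,15,16,1,2,15,16,1,2,15,16,8]]

def cNF : Tr :=
    (.node (.node (.node (.node (.node (.node (.node .leaf 42 9 38 .leaf) 11 2 32 .leaf) 0 3 16 (.node .leaf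
    17 15 5 .leaf)) 6 16 8 (.node (.node (.node .leaf 47 3 46 .leaf) 17 2 40 .leaf) 6 8 24 (.node .leaf 36 8
    34 .leaf))) 2 15 4 (.node (.node (.node (.node .leaf 44 1 29 .leaf) 13 16 36 .leaf) 2 3 20 (.node .leaf 28
    16 24 .leaf)) 10 1 12 (.node (.node (.node .leaf 13 0 14 .leaf) 26 2 44 .leaf) 8 8 28 (.node .leaf 40 1 39
    .leaf)))) 0 8 2 (.node (.node (.node (.node (.node .leaf 43 1 25 .leaf) 11 16 34 .leaf) 1 3 18 (.node
    .leaf 23 2 21 .leaf)) 8 15 10 (.node (.node (.node .leaf 35 0 34 .leaf) 20 15 42 .leaf) 7 1 26 (.node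
    .leaf 37 16 18 .leaf))) 4 2 6 (.node (.node (.node (.node .leaf 45 2 31 .leaf) 16 15 38 .leaf) 6 1 22
    (.node .leaf 31 15 28 .leaf)) 12 16 14 (.node (.node .leaf 32 16 46 .leaf) 10 2 30 (.node .leaf 41 15 21
    .leaf))))) 0 16 1 (.node (.node (.node (.node (.node (.node .leaf 22 2 42 .leaf) 11 3 33 .leaf) 1 1 17
    (.node .leaf 20 9 16 .leaf)) 7 2 9 (.node (.node (.node .leaf 47 1 45 .leaf) 19 3 41 .leaf) 6 9 25 (.node
    .leaf 37 2 16 .leaf))) 3 1 5 (.node (.node (.node (.node .leaf 33 15 44 .leaf) 15 3 37 .leaf) 4 3 21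
    (.node .leaf 29 2 27 .leaf)) 11 9 13 (.node (.node (.node .leaf 13 16 12 .leaf) 30 8 45 .leaf) 9 3 29
    (.node .leaf 41 1 20 .leaf)))) 1 15 3 (.node (.node (.node (.node (.node .leaf 43 2 38 .leaf) 12 8 35
    .leaf) 2 1 19 (.node .leaf 25 9 24 .leaf)) 9 15 11 (.node (.node (.node .leaf 12 0 36 .leaf) 22 9 43
    .leaf) 7 3 27 (.node .leaf 39 2 18 .leaf))) 5 16 7 (.node (.node (.node (.node .leaf 46 2 34 .leaf) 16 16
    39 .leaf) 6 3 23 (.node .leaf 35 1 31 .leaf)) 0 2 15 (.node (.node .leaf 33 16 47 .leaf) 10 8 31 (.node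
    .leaf 42 1 21 .leaf))))))

def cNS : List (ℕ × ℕ × List ℕ) :=
    [(0,0,[]), (0,0,[]), (0,0,[]), (0,0,[]), (0,0,[]), (0,0,[]), (0,0,[]), (0,0,[]), (0,0,[]), (0,0,[]),
    (0,0,[]), (0,0,[]), (0,0,[]), (0,0,[]), (0,0,[]), (0,0,[]), (0,0,[]), (0,0,[]), (0,0,[]), (0,0,[]),
    (0,0,[]), (0,0,[]), (0,0,[]), (0,0,[]), (0,0,[]), (0,0,[]), (0,0,[]), (0,0,[]), (0,0,[]), (0,0,[]),
    (0,0,[]), (0,0,[]), (0,0,[]), (0,0,[]), (0,0,[]), (0,0,[]), (0,0,[]), (0,0,[]), (0,0,[]), (0,0,[]),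
    (0,0,[]), (0,0,[]), (0,0,[]), (0,0,[]), (0,0,[]), (0,0,[]), (0,0,[]), (11,2,[9,5,32]), (7,0,[31,2,38]),
    (9,2,[41,10,44]), (4,1,[47,48]), (16,2,[47,14,54]), (9,2,[53,16,56]), (13,2,[55,18,60]), (5,3,[61,22,68]),
    (16,1,[67,24,70]), (9,2,[31,28,72]), (15,0,[35,1,28,72]), (14,1,[115,112,76]), (10,2,[116,35,32,78]),
    (8,2,[39,36,80]), (12,0,[41,7,36,80]), (11,1,[123,120,82]), (13,3,[75,97,82]), (10,1,[124,99,45,42]),
    (5,1,[49,42,84]), (6,1,[127,129,84]), (10,2,[104,53,50,86]), (12,2,[134,57,20,64]), (6,3,[61,58,88]),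
    (14,1,[67,62,90]), (15,1,[91,63,64,92]),
    (17,12,[138,106,102,101,131,132,75,76,119,79,94,12,50,86,137,92]), (10,3,[141,143,144,138,109]),
    (2,0,[110,147,69]), (3,0,[27,148,71]), (3,0,[26,151])]

def cNT : List (List ℕ × List ℕ) :=
    [([16,15,1,16,2,15,9,16,1,15,16,2,15,9],[0,4,8,12,16,20,24,152,23,19,15,11,7,3])]

theorem cNC : cert (rD ++ [w2 5, w3 5, w4 ++ [8]]) [] cNW cNF cNS cNT = true := by decide +kernel

variable {G : Type*} [Group G] {ψ : Hm false →* G} {c : G}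

theorem ev_lg {w : List ℕ} (h : w.all (Nat.ble · 14) = true) : ev (lg ψ c) w = ψ (ev lm w) := by
  rw [lg, ev_append_list (l := lm.map ψ) _ fun i hi =>
    Nat.le_of_ble_eq_true (List.all_eq_true.mp h i hi), ev_map]

theorem rel_ok (J : JR ψ c) {ex rs : List (List ℕ)} (hx : Rel (lg ψ c) ex)
    (h : rs.all (ok ex) = true) : Rel (lg ψ c) rs := fun r hr => by
  have h1 := List.all_eq_true.mp h r hr
  rw [ok, Bool.or_eq_true, Bool.and_eq_true, decide_eq_true_eq, List.contains_iff_mem,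
    List.mem_append] at h1
  rcases h1 with ⟨h1, h2⟩ | h1 | h1
  · rw [ev_lg h1, h2, map_one]
  · exact rel_base J r (List.mem_append_right _ h1)
  · exact hx r h1

theorem lg_inv (J : JR ψ c) (i : ℕ) : gen (lg ψ c) (inv tG i) = (gen (lg ψ c) i)⁻¹ :=
  gen_inv (l := lg ψ c) (t := tG) rfl ((rel_base J).mono (by decide +kernel)) i

theorem mem_of_cert (J : JR ψ c) {ex : List (List ℕ)} (hx : Rel (lg ψ c) ex) {s : List ℕ}
    {K : Subgroup G} (hK : ∀ i ∈ s, gen (lg ψ c) i ∈ K) {rs : List (List ℕ)} {F : Tr}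
    {S : List (ℕ × ℕ × List ℕ)} {T : List (List ℕ × List ℕ)} (h : cert ex s rs F S T = true) :
    ∀ w ∈ T.map Prod.fst, ev (lg ψ c) w ∈ K := by
  rw [cert, Bool.and_eq_true] at h
  intro w hw
  obtain ⟨t, ht, rfl⟩ := List.mem_map.mp hw
  have h1 := walk_sound rfl (lg_inv J) (run_sound (F := F) rfl (lg_inv J) (rel_ok J hx h.1) hK S 0
    fun j hj => absurd hj (Nat.not_lt_zero j)) _ _ _ (List.all_eq_true.mp h.2 t ht)
  rw [pt] at h1
  simpa [ev] using h1

theorem rel_of_cert (J : JR ψ c) {ex : List (List ℕ)} (hx : Rel (lg ψ c) ex)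
    {rs : List (List ℕ)} {F : Tr} {S : List (ℕ × ℕ × List ℕ)} {T : List (List ℕ × List ℕ)}
    (h : cert ex [] rs F S T = true) : Rel (lg ψ c) (T.map Prod.fst) :=
  mem_of_cert (K := ⊥) J hx (by simp) h

theorem rel_nil : Rel (lg ψ c) [] := by simp [TCList.Rel]

theorem rel_D (J : JR ψ c) : Rel (lg ψ c) (cDT.map Prod.fst) := rel_of_cert J rel_nil cDC

theorem rel_rD (J : JR ψ c) : Rel (lg ψ c) rD := (rel_D J).mono (by decide +kernel)

theorem ev_flatten (l : List G) (w : List ℕ) (k : ℕ) :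
    ev l (List.replicate k w).flatten = ev l w ^ k := by
  induction k with
  | zero => simp [ev]
  | succ k ih => rw [List.replicate_succ, List.flatten_cons, ev_append, ih, pow_succ']

/-- The conjugate `d` of `c`. -/
def de (ψ : Hm false →* G) (c : G) : G := ψ ms * c * ψ ms

theorem ev_w2 (k : ℕ) : ev (lg ψ c) (w2 k) = (c * de ψ c) ^ k := by
  rw [w2, ev_flatten, ev_cons, ev_cons, ev_nil, mul_one]; rfl

theorem ev_w3 (k : ℕ) : ev (lg ψ c) (w3 k) = (c * (de ψ c * ψ (mb false))) ^ k := by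
  rw [w3, ev_flatten, ev_cons, ev_cons, ev_cons, ev_nil, mul_one]; rfl

theorem ev_w4 : ev (lg ψ c) w4 = (ψ (ma false) * (ψ (mb false) * (c * de ψ c))) ^ 4 := by
  rw [w4, ev_flatten, ev_cons, ev_cons, ev_cons, ev_cons, ev_nil, mul_one]; rfl

theorem range_H : ∀ i ∈ [1,2,3,4,5,6,7,8,9,10,11,12], gen (lg ψ c) i ∈ ψ.range := fun i hi =>
  gen_range ψ c i (List.mem_append_left [13,14] hi)

theorem mem_of_cd (J : JR ψ c) (h : (c * de ψ c) ^ 3 = 1) : c ∈ ψ.range := by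
  have := mem_of_cert J (ex := [w2 3]) (by simpa [TCList.Rel, ev_w2] using h) range_H cPC [15]
    (by decide +kernel)
  rwa [ev_cons, ev_nil, mul_one] at this

theorem mem_of_cdb (J : JR ψ c) (h : (c * (de ψ c * ψ (mb false))) ^ 3 = 1) : c ∈ ψ.range := by
  have := mem_of_cert J ((rel_rD J).append (ss := [w3 3]) (by simpa [TCList.Rel, ev_w3] using h))
    range_H cQC [15] (by decide +kernel)
  rwa [ev_cons, ev_nil, mul_one] at this

theorem triv_of_z (J : JR ψ c) (h : ψ (zh false) = 1) : (∀ k, ψ k = 1) ∧ c = 1 := by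
  have h1 := rel_of_cert J (ex := [[3]]) (fun r hr => by
    rw [List.mem_singleton.mp hr, ev_cons, ev_nil, mul_one]; exact h) cZC
  have h2 : ∀ i ∈ [1,4,5,6,7,8,9,15], gen (lg ψ c) i = 1 := fun i hi => by
    have := h1 [i] ((show ∀ i ∈ [1,4,5,6,7,8,9,15], [i] ∈ cZT.map Prod.fst by decide +kernel) i hi)
    rwa [ev_cons, ev_nil, mul_one] at this
  refine ⟨fun k => sub_le (K := ψ.ker) (fun i hi => ?_) (gen_lm ▸ mem_top k), h2 15 (by decide)⟩
  rw [MonoidHom.mem_ker, ← gen_map, ← gen_append [c, ψ ms * c * ψ ms]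
    ((show ∀ i ∈ [1,4,5,6,7,8,9], i ≤ 14 by decide) i hi)]
  exact h2 i (List.mem_append_left [15] hi)

theorem jr_map (J : JR ψ c) {B : Type*} [Group B] (π : G →* B) : JR (π.comp ψ) (π c) := by
  obtain ⟨h1, h2, h3, h4, h5, h6⟩ := J
  constructor <;> simp only [MonoidHom.comp_apply, ← map_mul, ← map_pow, *, map_one]

/-- A normal subgroup that contains `z` contains everything. -/
theorem le_of_z (J : JR ψ c) (N : Subgroup G) [N.Normal] (h : ψ (zh false) ∈ N) :
    ψ.range ⊔ zpowers c ≤ N := by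
  have h1 := triv_of_z (jr_map J (QuotientGroup.mk' N)) ((QuotientGroup.eq_one_iff _).mpr h)
  refine sup_le ?_ (zpowers_le.mpr ((QuotientGroup.eq_one_iff _).mp h1.2))
  rintro _ ⟨k, rfl⟩
  exact (QuotientGroup.eq_one_iff _).mp (h1.1 k)

/-- In the non-split case an element of `⟨a, b, c, d⟩` inverts `b c x⁻¹`. -/
theorem exists_inv (J : JR ψ c) (h2 : (c * de ψ c) ^ 5 = 1)
    (h3 : (c * (de ψ c * ψ (mb false))) ^ 5 = 1)
    (h4 : (ψ (ma false) * (ψ (mb false) * (c * de ψ c))) ^ 4 = ψ (mx false) ∨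
      (ψ (ma false) * (ψ (mb false) * (c * de ψ c))) ^ 4 = (ψ (mx false))⁻¹) :
    ∃ w : List ℕ, (∀ i ∈ w, i ∈ [1,2,15,16]) ∧
      ev (lg ψ c) (w ++ ([2,15,9] ++ (w.reverse ++ [2,15,9]))) = 1 := by
  have hx : gen (lg ψ c) 9 = (ψ (mx false))⁻¹ := lg_inv J 8
  rcases h4 with h4 | h4
  · refine ⟨[2,16,1,15,2,16], by decide, rel_of_cert J ((rel_rD J).append ?_) cMC _
      (by decide +kernel)⟩
    simp only [TCList.Rel, List.forall_mem_cons, ev_append, ev_w2, ev_w3, ev_w4, h2, h3, h4, ev_cons,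
      ev_nil, hx]
    simp
  · refine ⟨[16,15,1,16], by decide, rel_of_cert J ((rel_rD J).append ?_) cNC _
      (by decide +kernel)⟩
    have hx' : gen (lg ψ c) 8 = ψ (mx false) := rfl
    simp only [TCList.Rel, List.forall_mem_cons, ev_append, ev_w2, ev_w3, ev_w4, h2, h3, h4, ev_cons,
      ev_nil, hx']
    simp

/-- The letters of the big enumeration. -/
def mp (i : ℕ) : ℕ := [15,16,1,2,10,11,8,9,3,12,4,5,6,7].getD i 0

theorem gen_lm' : sub lm [1,2,10,11,8,9] = ⊤ := by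
  rw [eq_top_iff, ← gen_lm]
  refine sub_le fun i hi => ?_
  have h : ∀ i ∈ [1,4,5,6,7,8,9], ∃ w ∈ (
    [[1], [10,8,11,10], [10,11,10,8], [11,9], [8,11], [8], [9]] : List (List ℕ)),
    gen lm i = ev lm w ∧ ∀ j ∈ w, j ∈ [1,2,10,11,8,9] := by decide +kernel
  obtain ⟨w, -, h1, h2⟩ := h i hi
  rw [h1]
  exact ev_mem fun j hj => gen_mem (h2 j hj)

theorem card_le3 (J : JR ψ c) (h : Rel (lg ψ c) r3) :
    Finite (ψ.range ⊔ zpowers c : Subgroup G) ∧
      Nat.card (ψ.range ⊔ zpowers c : Subgroup G) ≤ 150698880 := by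
  have h1 : Finite ψ.range := Finite.of_surjective _ ψ.rangeRestrict_surjective
  have h4 : Nat.card ψ.range ≤ 1920 :=
    card_Hm (e := false) ▸ Nat.card_le_card_of_surjective _ ψ.rangeRestrict_surjective
  have h5 := rel_ok J ((rel_of_cert J ((rel_rD J).append h) cXC).append (rel_of_cert J rel_nil cVC))
    (rs := TCJ3.base.map (·.map mp)) (by decide +kernel)
  obtain ⟨h2, h3⟩ := TCJ3.bound (fun i => gen (lg ψ c) (mp i)) ψ.range (fun r hr => by
      have := h5 _ (List.mem_map_of_mem hr)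
      rwa [ev, List.map_map] at this)
    (fun i hi => by
      rw [← lg_inv J]
      exact congrArg _ ((show ∀ i < 14, mp (List.getD [0, 1, 2, 3, 4, 5, 7, 6, 8, 9, 11, 10, 13, 12] i i) =
        inv tG (mp i) by decide) i hi))
    (fun i hi => range_H _ ((show ∀ i ∈ [2, 3, 4, 5, 6, 7, 8, 9, 10, 11, 12, 13],
      mp i ∈ [1,2,3,4,5,6,7,8,9,10,11,12] by decide) i hi))
  generalize hL : closure ((fun i => gen (lg ψ c) (mp i)) '' {i | i < 8}) = L at h2 h3
  have h6 : ∀ i < 8, gen (lg ψ c) (mp i) ∈ L := fun i hi => hL ▸ subset_closure ⟨i, hi, rfl⟩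
  have h7 : ψ.range ≤ L := by
    rw [MonoidHom.range_eq_map, ← gen_lm', map_le_iff_le_comap]
    refine sub_le fun i hi => ?_
    rw [mem_comap, ← gen_map, ← gen_append [c, ψ ms * c * ψ ms]
      ((show ∀ i ∈ [1,2,10,11,8,9], i ≤ 14 by decide) i hi)]
    obtain ⟨j, hj, rfl⟩ := (show ∀ i ∈ [1,2,10,11,8,9], ∃ j < 8, mp j = i by decide) i hi
    exact h6 j hj
  have h8 : ψ.range ⊔ zpowers c ≤ L := sup_le h7 (zpowers_le.mpr (h6 0 (by decide)))
  have h9 := (ψ.range.subgroupOf L).card_mul_index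
  rw [Nat.card_congr (subgroupOfEquivOfLe h7).toEquiv] at h9
  have h10 : Nat.card ψ.range ≠ 0 := Nat.card_pos.ne'
  have : Finite L := Nat.finite_of_card_ne_zero (h9 ▸ Nat.mul_ne_zero h10 h2)
  refine ⟨Finite.of_injective _ (inclusion_injective h8), (card_le_of_le h8).trans ?_⟩
  rw [← h9]
  exact Nat.mul_le_mul h4 h3

end Cfsg.Agent.Lib.HJ3Pres
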