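import Cfsg.Prelude.Def_Spor_J3
import Cfsg.Agent.Lib.MatChk
import Cfsg.Agent.Lib.HJ3Pres

/-! The matrix group `3.J₃` satisfies the presentation of `HJ3Pres`. -/

set_option autoImplicit false
set_option maxRecDepth 100000

namespace Cfsg.Agent.Lib.HJ3Mat

open Subgroup Matrix Cfsg.Spor Cfsg.Agent.Lib.TCList Cfsg.Agent.Lib.HJModel Cfsg.Agent.Lib.HJPres
  Cfsg.Agent.Lib.HJCent Cfsg.Agent.Lib.HJFuse Cfsg.Agent.Lib.HJ2Pres Cfsg.Agent.Lib.HJ3Pres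
  Cfsg.Agent.Lib.MatChk Cfsg.Agent.Lib.GF4

/-- The identity, the letters `1, …, 31` and the defining generators. -/
def ms : List Mat :=
  [[[1,0,0,0,0,0,0,0,0],[0,1,0,0,0,0,0,0,0],[0,0,1,0,0,0,0,0,0],[0,0,0,1,0,0,0,0,0],[0,0,0,0,1,0,0,0,0],[0,0,0,0,0,1,0,0,0],[0,0,0,0,0,0,1,0,0],[0,0,0,0,0,0,0,1,0],[0,0,0,0,0,0,0,0,1]],
   [[0,0,2,2,1,3,2,2,2],[0,0,3,0,1,3,2,0,1],[3,2,1,2,3,1,2,1,2],[3,0,3,1,2,0,3,3,1],[1,1,2,3,1,1,3,1,2],[2,2,1,0,1,1,3,0,3],[3,3,3,2,2,2,1,1,3],[3,0,1,2,1,0,1,0,0],[3,1,3,1,3,2,2,0,0]],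
   [[0,0,1,3,3,3,2,3,1],[0,1,2,1,2,0,3,1,3],[1,3,0,1,0,3,0,2,0],[2,1,1,1,3,1,1,1,1],[2,3,0,2,1,1,2,1,0],[2,0,2,1,1,1,0,2,3],[3,2,0,1,3,0,1,2,3],[2,1,3,1,1,3,3,0,0],[1,2,0,1,0,2,2,0,0]],
   [[0,0,3,1,2,3,0,0,3],[0,1,1,2,0,3,2,2,3],[2,1,0,2,1,0,1,3,3],[1,3,3,0,3,0,3,2,2],[3,0,1,2,0,0,1,1,0],[2,2,0,0,0,0,3,0,0],[0,3,1,2,1,2,1,1,0],[0,3,2,3,1,0,1,1,2],[2,2,2,3,0,0,0,3,0]],
   [[1,0,2,2,2,2,1,3,0],[3,1,0,1,2,3,0,2,2],[0,1,1,3,2,3,3,3,0],[1,2,1,1,1,3,1,3,2],[0,2,2,3,1,2,0,3,1],[2,0,0,1,1,0,1,2,0],[2,1,3,3,1,2,1,3,1],[1,2,3,0,3,0,3,1,2],[1,1,2,0,3,1,3,1,0]],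
   [[1,2,0,1,0,3,3,1,1],[0,1,1,3,3,0,1,3,1],[3,0,1,1,3,0,2,2,3],[3,1,2,1,2,1,2,0,0],[3,3,3,1,1,1,1,2,2],[3,2,2,2,3,0,3,0,1],[1,0,2,1,0,1,1,2,2],[2,3,2,2,2,3,2,1,1],[0,3,0,3,1,0,1,3,0]],
   [[2,0,2,3,0,2,3,1,2],[0,1,1,3,3,0,1,3,1],[3,2,0,0,3,2,1,2,1],[2,0,3,1,0,2,3,3,3],[0,2,2,0,3,1,1,2,3],[3,2,0,2,1,0,3,1,2],[2,1,1,2,1,2,3,2,1],[1,2,3,2,3,1,3,2,3],[3,3,2,3,2,2,1,2,1]],
   [[3,0,2,3,0,2,3,1,2],[0,1,3,0,3,3,1,3,2],[3,1,0,2,3,0,1,2,3],[2,2,0,1,0,3,3,3,2],[0,2,2,0,2,1,1,2,3],[3,0,3,3,1,0,3,1,3],[2,1,1,2,1,2,2,2,1],[1,2,3,2,3,1,3,3,3],[3,1,1,2,2,3,1,2,1]],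
   [[1,2,0,3,2,2,2,0,2],[2,0,1,3,1,1,1,1,0],[0,1,3,2,1,3,0,2,2],[2,2,3,3,2,2,1,2,2],[1,3,1,3,1,1,2,1,1],[3,1,2,3,1,2,3,1,2],[3,1,0,1,3,2,2,3,0],[1,0,3,3,2,1,2,0,1],[0,3,3,3,3,3,0,2,1]],
   [[1,3,0,3,1,2,2,1,0],[3,0,1,3,2,1,1,0,2],[0,1,2,2,1,3,0,2,2],[2,2,3,2,2,2,1,2,2],[3,1,1,3,1,1,2,3,2],[3,1,2,3,1,3,3,1,2],[3,1,0,1,3,2,3,3,0],[0,1,3,3,1,1,2,0,3],[3,0,3,3,1,3,0,1,1]],
   [[0,3,2,2,3,2,3,3,0],[2,1,2,3,3,0,3,3,0],[3,3,1,3,1,1,2,1,1],[3,2,2,0,1,1,2,0,1],[2,2,1,1,1,2,2,2,3],[3,0,1,1,3,1,1,0,3],[2,2,3,3,3,1,1,2,1],[2,2,1,0,3,0,3,0,0],[0,0,1,1,2,2,1,0,0]],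
   [[1,0,2,0,3,1,2,1,1],[0,0,2,1,3,2,0,0,2],[3,3,0,3,1,0,2,2,2],[0,1,2,1,1,0,3,2,3],[2,2,1,1,0,0,1,1,3],[1,3,0,0,0,0,0,1,0],[3,0,3,2,1,0,1,3,3],[1,0,3,3,1,1,2,1,0],[1,3,3,2,2,0,2,0,1]],
   [[0,3,0,3,3,2,3,1,1],[2,0,1,3,2,1,0,3,2],[0,1,0,2,0,3,0,2,1],[2,2,3,0,1,2,1,2,0],[2,3,0,1,1,1,3,3,0],[3,1,2,3,1,1,3,1,2],[2,0,0,1,2,2,1,1,3],[1,2,3,3,2,1,1,1,1],[1,3,1,0,0,3,2,1,1]],
   [[0,3,0,0,2,3,2,2,0],[2,0,0,3,2,1,2,3,2],[0,0,0,3,1,0,0,1,0],[0,2,2,1,0,2,2,2,3],[3,3,1,0,0,3,0,0,2],[2,1,0,3,2,0,2,3,2],[3,3,0,3,0,3,1,1,2],[3,2,1,3,0,2,1,1,0],[0,3,0,2,3,3,3,0,0]],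
   [[1,1,3,2,1,0,1,3,0],[1,0,1,1,1,2,3,1,0],[2,1,1,1,3,2,3,1,3],[3,1,1,0,2,1,2,0,3],[1,1,2,3,0,0,3,1,2],[0,3,3,1,0,0,1,0,2],[1,2,2,3,2,1,1,3,3],[2,1,1,0,1,0,2,1,3],[0,0,2,2,3,3,2,2,1]],
   [[0,1,0,0,0,2,1,3,1],[1,1,3,0,1,1,3,3,0],[0,2,1,2,2,1,3,1,0],[0,0,3,0,0,0,0,3,1],[0,1,3,0,0,3,2,0,1],[3,1,1,0,2,0,3,2,1],[1,2,2,0,3,2,0,3,2],[2,2,1,2,0,3,2,1,0],[1,0,0,1,1,1,3,0,0]],
   [[1,0,3,3,3,2,1,1,0],[0,1,1,3,1,0,2,3,2],[2,1,1,3,2,1,3,2,3],[2,2,2,1,3,3,3,3,3],[2,1,3,2,0,0,2,2,1],[3,0,1,2,0,0,1,3,0],[1,3,2,2,3,1,0,3,0],[1,2,3,2,3,2,2,1,3],[0,3,2,2,1,0,0,2,0]],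
   [[0,2,1,3,2,3,1,0,3],[3,1,3,1,1,0,1,1,0],[1,2,0,2,1,3,3,0,2],[2,1,3,0,1,1,2,0,2],[3,1,1,1,0,3,0,3,3],[2,0,2,1,2,1,0,3,2],[1,1,2,3,0,0,1,2,3],[0,1,0,0,2,2,3,0,1],[2,0,3,3,2,3,2,1,0]],
   [[1,0,3,1,0,0,0,0,0],[0,1,0,0,2,0,0,0,3],[2,0,0,2,0,1,0,0,0],[1,0,3,0,0,3,0,0,0],[0,3,0,0,1,0,1,0,0],[0,0,1,2,0,1,0,0,0],[0,0,0,0,1,0,1,0,2],[0,0,0,0,0,0,0,1,0],[0,2,0,0,0,0,3,0,1]],
   [[0,3,3,0,2,3,3,1,3],[2,0,0,3,2,1,3,3,3],[2,0,1,1,2,0,1,2,2],[0,2,1,0,0,3,0,1,3],[3,3,3,0,0,2,3,1,2],[2,1,0,2,3,1,2,1,0],[2,2,1,0,2,3,0,3,1],[1,2,3,1,1,1,2,0,0],[2,2,3,2,3,0,1,0,1]],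
   [[2,0,0,0,0,0,0,0,0],[0,2,0,0,0,0,0,0,0],[0,0,2,0,0,0,0,0,0],[0,0,0,2,0,0,0,0,0],[0,0,0,0,2,0,0,0,0],[0,0,0,0,0,2,0,0,0],[0,0,0,0,0,0,2,0,0],[0,0,0,0,0,0,0,2,0],[0,0,0,0,0,0,0,0,2]],
   [[0,1,0,2,2,2,2,2,3],[0,0,3,2,0,0,2,0,0],[3,0,0,0,1,1,0,1,2],[0,3,2,3,1,3,2,0,3],[3,3,0,1,3,0,1,3,2],[0,2,1,0,2,0,3,2,0],[0,1,3,1,0,1,3,2,1],[1,1,0,2,3,2,2,3,0],[0,3,2,1,2,0,0,2,0]],
   [[1,2,3,1,2,1,1,2,3],[1,2,0,3,2,0,3,3,2],[0,3,3,0,1,2,3,3,2],[2,0,2,0,2,3,2,3,2],[1,0,3,2,0,1,1,1,3],[2,1,1,2,3,1,2,1,2],[3,3,0,1,1,0,1,2,2],[1,2,2,3,1,1,1,2,1],[0,3,2,2,0,1,2,3,1]],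
   [[3,3,0,2,3,0,1,1,3],[3,0,0,0,2,1,0,1,2],[3,0,3,1,3,1,2,0,3],[0,0,2,2,3,2,2,1,2],[2,2,0,1,1,2,3,2,0],[0,1,1,0,0,0,1,2,3],[0,2,2,2,1,3,0,0,0],[2,0,2,3,0,2,1,2,1],[0,3,0,3,3,2,3,3,1]],
   [[2,3,0,1,1,3,0,1,3],[0,1,1,2,1,2,2,0,1],[3,3,0,1,1,1,2,0,3],[0,1,2,1,1,1,0,3,2],[2,1,2,0,0,3,0,0,1],[3,0,3,1,3,0,1,0,0],[0,3,0,0,2,0,3,2,3],[0,3,3,2,2,2,0,1,2],[3,0,0,2,0,1,3,2,0]],
   [[3,0,2,0,3,2,0,0,2],[2,1,2,1,1,0,2,2,0],[0,1,0,3,3,2,0,2,0],[1,3,1,1,0,1,0,3,3],[1,1,1,1,0,2,3,3,0],[2,3,1,1,2,0,0,3,1],[0,3,3,0,0,1,2,0,2],[1,0,0,2,0,0,3,1,3],[2,1,2,3,1,0,2,3,0]],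
   [[1,3,2,2,1,0,3,0,1],[2,1,0,3,1,1,1,0,1],[3,0,0,0,1,0,2,1,1],[3,2,0,0,2,0,0,1,2],[1,1,1,3,0,0,2,2,1],[0,1,0,0,0,0,1,3,0],[2,1,3,0,3,1,1,0,3],[0,0,1,1,3,2,0,0,3],[1,1,1,3,1,0,2,2,0]],
   [[1,2,1,1,3,1,1,3,2],[3,1,2,3,1,2,0,3,0],[1,3,0,3,3,0,1,2,1],[1,2,2,1,1,3,2,0,0],[2,1,2,1,0,2,3,0,1],[1,3,0,2,3,1,0,1,1],[1,0,1,3,2,0,1,1,1],[2,2,3,0,0,1,1,0,0],[3,0,1,0,1,1,1,0,0]],
   [[1,1,0,2,1,2,0,3,2],[1,1,1,3,1,0,0,3,3],[0,1,1,3,3,0,3,3,2],[3,2,2,0,1,0,1,3,2],[1,1,2,1,1,0,3,0,3],[3,0,0,0,0,0,2,2,0],[0,0,2,1,2,3,0,0,1],[2,2,2,2,0,3,0,1,2],[3,2,3,3,2,0,1,3,0]],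
   [[0,0,3,1,2,3,0,0,3],[0,1,1,2,0,3,2,2,3],[2,1,0,2,1,0,1,3,3],[1,3,3,0,3,0,3,2,2],[3,0,1,2,0,0,1,1,0],[2,2,0,0,0,0,3,0,0],[0,3,1,2,1,2,1,1,0],[0,3,2,3,1,0,1,1,2],[2,2,2,3,0,0,0,3,0]],
   [[0,1,1,3,0,3,2,3,2],[1,1,0,1,0,0,0,1,2],[1,0,1,0,0,0,0,0,2],[2,1,0,0,3,2,3,1,3],[0,0,0,2,1,0,0,2,0],[2,0,0,3,0,1,0,3,3],[3,0,0,2,0,0,1,2,1],[2,1,0,1,3,2,3,0,3],[3,3,3,2,0,2,1,2,0]],
   [[1,1,1,3,3,1,3,1,1],[1,0,3,1,1,3,0,2,3],[1,2,1,0,0,3,3,2,2],[2,1,0,1,3,3,3,2,0],[2,1,0,2,0,1,0,0,1],[1,2,2,2,1,1,1,2,1],[2,0,2,2,0,1,1,1,1],[1,3,3,3,0,3,1,0,1],[1,2,3,0,1,1,1,1,0]],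
   [[1,0,0,0,0,0,0,0,0],[0,1,0,0,0,0,0,0,0],[0,0,1,0,0,0,0,0,0],[0,0,0,1,0,0,0,0,0],[0,0,0,0,1,0,0,0,0],[0,0,0,0,0,1,0,0,0],[0,0,0,0,0,0,1,0,0],[0,0,0,0,0,0,0,1,0],[0,0,0,0,0,0,0,0,1]],
   [[1,0,0,0,0,0,0,0,0],[0,2,0,0,0,0,0,0,0],[0,0,3,0,0,0,0,0,0],[0,0,0,1,0,0,0,0,0],[0,0,0,0,2,0,0,0,0],[0,0,0,0,0,3,0,0,0],[0,0,0,0,0,0,1,0,0],[0,0,0,0,0,0,0,2,0],[0,0,0,0,0,0,0,0,3]],
   [[1,0,0,0,0,0,0,0,0],[0,3,0,0,0,0,0,0,0],[0,0,2,0,0,0,0,0,0],[0,0,0,1,0,0,0,0,0],[0,0,0,0,3,0,0,0,0],[0,0,0,0,0,2,0,0,0],[0,0,0,0,0,0,1,0,0],[0,0,0,0,0,0,0,3,0],[0,0,0,0,0,0,0,0,2]],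
   [[1,0,0,0,0,0,0,0,0],[0,1,0,0,0,0,0,0,0],[0,0,1,0,0,0,0,0,0],[0,0,0,2,0,0,0,0,0],[0,0,0,0,2,0,0,0,0],[0,0,0,0,0,2,0,0,0],[0,0,0,0,0,0,3,0,0],[0,0,0,0,0,0,0,3,0],[0,0,0,0,0,0,0,0,3]],
   [[1,0,0,0,0,0,0,0,0],[0,2,0,0,0,0,0,0,0],[0,0,3,0,0,0,0,0,0],[0,0,0,2,0,0,0,0,0],[0,0,0,0,3,0,0,0,0],[0,0,0,0,0,1,0,0,0],[0,0,0,0,0,0,3,0,0],[0,0,0,0,0,0,0,1,0],[0,0,0,0,0,0,0,0,2]],
   [[1,0,0,0,0,0,0,0,0],[0,3,0,0,0,0,0,0,0],[0,0,2,0,0,0,0,0,0],[0,0,0,2,0,0,0,0,0],[0,0,0,0,1,0,0,0,0],[0,0,0,0,0,3,0,0,0],[0,0,0,0,0,0,3,0,0],[0,0,0,0,0,0,0,2,0],[0,0,0,0,0,0,0,0,1]],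
   [[1,0,0,0,0,0,0,0,0],[0,1,0,0,0,0,0,0,0],[0,0,1,0,0,0,0,0,0],[0,0,0,3,0,0,0,0,0],[0,0,0,0,3,0,0,0,0],[0,0,0,0,0,3,0,0,0],[0,0,0,0,0,0,2,0,0],[0,0,0,0,0,0,0,2,0],[0,0,0,0,0,0,0,0,2]],
   [[1,0,0,0,0,0,0,0,0],[0,2,0,0,0,0,0,0,0],[0,0,3,0,0,0,0,0,0],[0,0,0,3,0,0,0,0,0],[0,0,0,0,1,0,0,0,0],[0,0,0,0,0,2,0,0,0],[0,0,0,0,0,0,2,0,0],[0,0,0,0,0,0,0,3,0],[0,0,0,0,0,0,0,0,1]],
   [[1,0,0,0,0,0,0,0,0],[0,3,0,0,0,0,0,0,0],[0,0,2,0,0,0,0,0,0],[0,0,0,3,0,0,0,0,0],[0,0,0,0,2,0,0,0,0],[0,0,0,0,0,1,0,0,0],[0,0,0,0,0,0,2,0,0],[0,0,0,0,0,0,0,1,0],[0,0,0,0,0,0,0,0,3]],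
   [[1,0,0,0,0,0,0,0,0],[0,2,0,0,0,0,0,0,0],[0,0,2,0,0,0,0,0,0],[0,0,0,2,0,0,0,0,0],[0,0,0,0,3,0,0,0,0],[0,0,0,0,0,3,0,0,0],[0,0,0,0,0,0,2,0,0],[0,0,0,0,0,0,0,3,0],[0,0,0,0,0,0,0,0,3]],
   [[2,0,0,0,0,0,0,0,0],[0,1,0,0,0,0,0,0,0],[0,0,2,0,0,0,0,0,0],[0,0,0,3,0,0,0,0,0],[0,0,0,0,2,0,0,0,0],[0,0,0,0,0,3,0,0,0],[0,0,0,0,0,0,3,0,0],[0,0,0,0,0,0,0,2,0],[0,0,0,0,0,0,0,0,3]],
   [[2,0,0,0,0,0,0,0,0],[0,2,0,0,0,0,0,0,0],[0,0,1,0,0,0,0,0,0],[0,0,0,3,0,0,0,0,0],[0,0,0,0,3,0,0,0,0],[0,0,0,0,0,2,0,0,0],[0,0,0,0,0,0,3,0,0],[0,0,0,0,0,0,0,3,0],[0,0,0,0,0,0,0,0,2]],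
   [[2,0,0,0,0,0,0,0,0],[0,3,0,0,0,0,0,0,0],[0,0,3,0,0,0,0,0,0],[0,0,0,1,0,0,0,0,0],[0,0,0,0,2,0,0,0,0],[0,0,0,0,0,2,0,0,0],[0,0,0,0,0,0,2,0,0],[0,0,0,0,0,0,0,3,0],[0,0,0,0,0,0,0,0,3]],
   [[3,0,0,0,0,0,0,0,0],[0,2,0,0,0,0,0,0,0],[0,0,3,0,0,0,0,0,0],[0,0,0,2,0,0,0,0,0],[0,0,0,0,1,0,0,0,0],[0,0,0,0,0,2,0,0,0],[0,0,0,0,0,0,3,0,0],[0,0,0,0,0,0,0,2,0],[0,0,0,0,0,0,0,0,3]],
   [[3,0,0,0,0,0,0,0,0],[0,3,0,0,0,0,0,0,0],[0,0,2,0,0,0,0,0,0],[0,0,0,2,0,0,0,0,0],[0,0,0,0,2,0,0,0,0],[0,0,0,0,0,1,0,0,0],[0,0,0,0,0,0,3,0,0],[0,0,0,0,0,0,0,3,0],[0,0,0,0,0,0,0,0,2]],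
   [[2,0,0,0,0,0,0,0,0],[0,3,0,0,0,0,0,0,0],[0,0,3,0,0,0,0,0,0],[0,0,0,2,0,0,0,0,0],[0,0,0,0,3,0,0,0,0],[0,0,0,0,0,3,0,0,0],[0,0,0,0,0,0,1,0,0],[0,0,0,0,0,0,0,2,0],[0,0,0,0,0,0,0,0,2]],
   [[3,0,0,0,0,0,0,0,0],[0,2,0,0,0,0,0,0,0],[0,0,3,0,0,0,0,0,0],[0,0,0,3,0,0,0,0,0],[0,0,0,0,2,0,0,0,0],[0,0,0,0,0,3,0,0,0],[0,0,0,0,0,0,2,0,0],[0,0,0,0,0,0,0,1,0],[0,0,0,0,0,0,0,0,2]],
   [[3,0,0,0,0,0,0,0,0],[0,3,0,0,0,0,0,0,0],[0,0,2,0,0,0,0,0,0],[0,0,0,3,0,0,0,0,0],[0,0,0,0,3,0,0,0,0],[0,0,0,0,0,2,0,0,0],[0,0,0,0,0,0,2,0,0],[0,0,0,0,0,0,0,2,0],[0,0,0,0,0,0,0,0,1]],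
   [[1,0,0,0,0,0,0,0,0],[0,1,0,0,0,0,0,0,0],[0,0,1,0,0,0,0,0,0],[0,0,0,1,0,0,0,0,0],[0,0,0,0,1,0,0,0,0],[0,0,0,0,0,1,0,0,0],[0,0,0,0,0,0,1,0,0],[0,0,0,0,0,0,0,1,0],[0,0,0,0,0,0,0,0,1]],
   [[0,0,1,0,0,0,0,0,0],[1,0,0,0,0,0,0,0,0],[0,1,0,0,0,0,0,0,0],[0,0,0,0,0,1,0,0,0],[0,0,0,1,0,0,0,0,0],[0,0,0,0,3,0,0,0,0],[0,0,0,0,0,0,0,0,1],[0,0,0,0,0,0,1,0,0],[0,0,0,0,0,0,0,2,0]],
   [[0,1,0,0,0,0,0,0,0],[0,0,1,0,0,0,0,0,0],[1,0,0,0,0,0,0,0,0],[0,0,0,0,1,0,0,0,0],[0,0,0,0,0,2,0,0,0],[0,0,0,1,0,0,0,0,0],[0,0,0,0,0,0,0,1,0],[0,0,0,0,0,0,0,0,3],[0,0,0,0,0,0,1,0,0]],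
   [[0,0,0,0,0,0,1,0,0],[0,0,0,0,0,0,0,1,0],[0,0,0,0,0,0,0,0,1],[1,0,0,0,0,0,0,0,0],[0,1,0,0,0,0,0,0,0],[0,0,1,0,0,0,0,0,0],[0,0,0,1,0,0,0,0,0],[0,0,0,0,2,0,0,0,0],[0,0,0,0,0,3,0,0,0]],
   [[0,0,0,0,0,0,0,0,1],[0,0,0,0,0,0,3,0,0],[0,0,0,0,0,0,0,1,0],[0,0,2,0,0,0,0,0,0],[1,0,0,0,0,0,0,0,0],[0,1,0,0,0,0,0,0,0],[0,0,0,0,0,1,0,0,0],[0,0,0,1,0,0,0,0,0],[0,0,0,0,1,0,0,0,0]],
   [[0,0,0,0,0,0,0,1,0],[0,0,0,0,0,0,0,0,1],[0,0,0,0,0,0,2,0,0],[0,3,0,0,0,0,0,0,0],[0,0,1,0,0,0,0,0,0],[1,0,0,0,0,0,0,0,0],[0,0,0,0,1,0,0,0,0],[0,0,0,0,0,1,0,0,0],[0,0,0,1,0,0,0,0,0]],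
   [[0,0,0,1,0,0,0,0,0],[0,0,0,0,1,0,0,0,0],[0,0,0,0,0,1,0,0,0],[0,0,0,0,0,0,1,0,0],[0,0,0,0,0,0,0,3,0],[0,0,0,0,0,0,0,0,2],[1,0,0,0,0,0,0,0,0],[0,1,0,0,0,0,0,0,0],[0,0,1,0,0,0,0,0,0]],
   [[0,0,0,0,0,1,0,0,0],[0,0,0,2,0,0,0,0,0],[0,0,0,0,1,0,0,0,0],[0,0,0,0,0,0,0,0,1],[0,0,0,0,0,0,1,0,0],[0,0,0,0,0,0,0,1,0],[0,0,3,0,0,0,0,0,0],[1,0,0,0,0,0,0,0,0],[0,1,0,0,0,0,0,0,0]],
   [[0,0,0,0,1,0,0,0,0],[0,0,0,0,0,1,0,0,0],[0,0,0,3,0,0,0,0,0],[0,0,0,0,0,0,0,1,0],[0,0,0,0,0,0,0,0,1],[0,0,0,0,0,0,1,0,0],[0,2,0,0,0,0,0,0,0],[0,0,1,0,0,0,0,0,0],[1,0,0,0,0,0,0,0,0]],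
   [[1,0,0,0,0,0,0,0,0],[0,0,0,1,0,0,0,0,0],[0,0,0,0,0,0,1,0,0],[0,0,1,0,0,0,0,0,0],[0,0,0,0,0,1,0,0,0],[0,0,0,0,0,0,0,0,1],[0,1,0,0,0,0,0,0,0],[0,0,0,0,1,0,0,0,0],[0,0,0,0,0,0,0,1,0]],
   [[1,0,0,0,0,0,0,0,0],[0,0,0,0,0,0,1,0,0],[0,0,0,1,0,0,0,0,0],[0,1,0,0,0,0,0,0,0],[0,0,0,0,0,0,0,1,0],[0,0,0,0,1,0,0,0,0],[0,0,1,0,0,0,0,0,0],[0,0,0,0,0,0,0,0,1],[0,0,0,0,0,1,0,0,0]],
   [[1,0,0,0,0,0,0,0,0],[0,1,0,0,0,0,0,0,0],[0,0,1,0,0,0,0,0,0],[0,0,0,1,0,0,0,0,0],[0,0,0,0,1,0,0,0,0],[0,0,0,0,0,1,0,0,0],[0,0,0,0,0,0,1,0,0],[0,0,0,0,0,0,0,1,0],[0,0,0,0,0,0,0,0,1]],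
   [[1,0,0,0,0,0,0,0,0],[0,0,0,0,0,0,0,0,1],[0,0,0,0,1,0,0,0,0],[0,0,0,0,0,0,0,1,0],[0,0,0,1,0,0,0,0,0],[0,0,1,0,0,0,0,0,0],[0,0,0,0,0,1,0,0,0],[0,1,0,0,0,0,0,0,0],[0,0,0,0,0,0,1,0,0]],
   [[1,0,0,0,0,0,0,0,0],[0,0,0,0,0,1,0,0,0],[0,0,0,0,0,0,0,1,0],[0,0,0,0,0,0,0,0,1],[0,1,0,0,0,0,0,0,0],[0,0,0,1,0,0,0,0,0],[0,0,0,0,1,0,0,0,0],[0,0,0,0,0,0,1,0,0],[0,0,1,0,0,0,0,0,0]],
   [[1,0,0,0,0,0,0,0,0],[0,0,1,0,0,0,0,0,0],[0,1,0,0,0,0,0,0,0],[0,0,0,0,0,0,1,0,0],[0,0,0,0,0,0,0,0,1],[0,0,0,0,0,0,0,1,0],[0,0,0,1,0,0,0,0,0],[0,0,0,0,0,1,0,0,0],[0,0,0,0,1,0,0,0,0]],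
   [[1,0,0,0,0,0,0,0,0],[0,0,0,0,0,0,0,1,0],[0,0,0,0,0,1,0,0,0],[0,0,0,0,1,0,0,0,0],[0,0,1,0,0,0,0,0,0],[0,0,0,0,0,0,1,0,0],[0,0,0,0,0,0,0,0,1],[0,0,0,1,0,0,0,0,0],[0,1,0,0,0,0,0,0,0]],
   [[1,0,0,0,0,0,0,0,0],[0,0,0,0,1,0,0,0,0],[0,0,0,0,0,0,0,0,1],[0,0,0,0,0,1,0,0,0],[0,0,0,0,0,0,1,0,0],[0,1,0,0,0,0,0,0,0],[0,0,0,0,0,0,0,1,0],[0,0,1,0,0,0,0,0,0],[0,0,0,1,0,0,0,0,0]],
   [[1,0,0,0,0,0,0,0,0],[0,1,1,0,0,0,1,0,0],[0,1,1,1,0,0,0,0,0],[0,0,1,1,0,0,1,0,0],[0,0,0,0,1,1,0,1,0],[0,0,0,0,1,0,0,1,1],[0,1,0,1,0,0,1,0,0],[0,0,0,0,1,1,0,0,1],[0,0,0,0,0,1,0,1,1]],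
   [[1,0,0,0,0,0,0,0,0],[0,1,1,1,0,0,0,0,0],[0,1,1,0,0,0,1,0,0],[0,1,0,1,0,0,1,0,0],[0,0,0,0,0,1,0,1,1],[0,0,0,0,1,1,0,0,1],[0,0,1,1,0,0,1,0,0],[0,0,0,0,1,0,0,1,1],[0,0,0,0,1,1,0,1,0]],
   [[1,0,0,0,0,0,0,0,0],[0,1,0,1,0,0,1,0,0],[0,0,1,1,0,0,1,0,0],[0,1,1,0,0,0,1,0,0],[0,0,0,0,1,1,0,0,1],[0,0,0,0,1,1,0,1,0],[0,1,1,1,0,0,0,0,0],[0,0,0,0,0,1,0,1,1],[0,0,0,0,1,0,0,1,1]],
   [[1,0,0,0,0,0,0,0,0],[0,0,0,0,1,0,0,1,1],[0,0,0,0,1,1,0,0,1],[0,0,0,0,0,1,0,1,1],[0,1,1,0,0,0,1,0,0],[0,0,1,1,0,0,1,0,0],[0,0,0,0,1,1,0,1,0],[0,1,0,1,0,0,1,0,0],[0,1,1,1,0,0,0,0,0]],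
   [[1,0,0,0,0,0,0,0,0],[0,0,0,0,1,1,0,1,0],[0,0,0,0,0,1,0,1,1],[0,0,0,0,1,0,0,1,1],[0,1,0,1,0,0,1,0,0],[0,1,1,0,0,0,1,0,0],[0,0,0,0,1,1,0,0,1],[0,1,1,1,0,0,0,0,0],[0,0,1,1,0,0,1,0,0]],
   [[1,0,0,0,0,0,0,0,0],[0,0,1,1,0,0,1,0,0],[0,1,0,1,0,0,1,0,0],[0,1,1,1,0,0,0,0,0],[0,0,0,0,1,0,0,1,1],[0,0,0,0,0,1,0,1,1],[0,1,1,0,0,0,1,0,0],[0,0,0,0,1,1,0,1,0],[0,0,0,0,1,1,0,0,1]],
   [[1,0,0,0,0,0,0,0,0],[0,0,0,0,0,1,0,1,1],[0,0,0,0,1,1,0,1,0],[0,0,0,0,1,1,0,0,1],[0,0,1,1,0,0,1,0,0],[0,1,1,1,0,0,0,0,0],[0,0,0,0,1,0,0,1,1],[0,1,1,0,0,0,1,0,0],[0,1,0,1,0,0,1,0,0]],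
   [[1,0,0,0,0,0,0,0,0],[0,0,0,0,1,1,0,0,1],[0,0,0,0,1,0,0,1,1],[0,0,0,0,1,1,0,1,0],[0,1,1,1,0,0,0,0,0],[0,1,0,1,0,0,1,0,0],[0,0,0,0,0,1,0,1,1],[0,0,1,1,0,0,1,0,0],[0,1,1,0,0,0,1,0,0]]]

theorem hw : wf (ar4 9) ms = true := by decide +kernel

/-- The letters in terms of the defining generators. -/
def st1 : List (ℕ × List ℕ × List ℕ) :=
    [(0,[],[]), (1,[34,69],[53,35,67,38,62,51,68]), (4,[67,51,34,67,34],[33,67,51,68,51,62,69]),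
    (6,[51,67,38,53,59],[69,53,51,34,67,33]), (8,[67,53,51,68,53],[53,63,33,68,51,33]),
    (15,[67,53,65],[53,68,51,67,51,66]), (20,[51],[33,51,34]), (5,[],[4,4]), (7,[],[6,6]), (9,[],[8,8]),
    (2,[],[6,4,4,1,4,6,6]), (3,[],[1,4,1,4,4,1,4,1,4,4]), (10,[],[4,6,6,4]), (11,[],[6,8]),
    (12,[],[6,4,1,8,4,1,4,1,8,4]), (13,[],[1,8,4,1]), (14,[],[4,8]), (17,[],[8,4,4,1,4,8,8]),
    (18,[],[4,1,4,4]), (19,[],[4,4,1,4]), (16,[],[10,15,10]), (21,[],[3,11,16]), (22,[],[13,15,14,16,15]),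
    (23,[13,15,5,15,5],[6,16,15,16,4,15]), (24,[16,15,13,5,9],[15,16,6,16,15,16]),
    (30,[1,15,16,1],[6,16,1,7,15,16,1]), (31,[16,15,16,12,7],[7,16,15,16,6,12,7]), (26,[],[1,7,9]),
    (25,[24],[]), (27,[],[24,26,25]), (28,[],[24,27,25]), (29,[],[24,28,25])]

theorem hst1 : slp (ar4 9) ms st1 [33,34,35,38,51,53,59,62,63,65,66,67,68,69] = true := by decide +kernel

/-- The defining generators in terms of the letters. -/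
def st2 : List (ℕ × List ℕ × List ℕ) :=
    [(33,[15,16,15,7,16],[7,16,15,14,15,3,16]), (41,[16,5,15,4,15,16],[5,15,16,11,16,13]),
    (51,[1,16,15,5,15,14,16],[4,15,16,3,14,15,6]), (62,[15,16,4,11,15,2],[14,16,12,15,16,1]),
    (67,[16,15,16,14,15],[7,16,4,15,16,5,15]), (32,[],[]), (34,[],[33,33]), (35,[],[33,62,33,67,62,67]),
    (36,[],[67,62,67,33,62]), (37,[],[62,33,67,62,67]), (38,[],[51,51,51]), (39,[],[33,51,51,51]),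
    (40,[],[33,33,51,51,51]), (42,[51],[33,51,41]), (43,[51],[41,51]), (44,[],[33,51,51,41,51,51,51,51]),
    (45,[41,51,62],[51,62]), (46,[51,51,33,51],[41]), (47,[],[33,51,51,41,51]), (48,[],[41,51,33,51,51]),
    (49,[],[51,41,51,33,51]), (50,[],[]), (52,[],[33,62,33,67,62,67,51,51]), (53,[],[62,62,51,67,62,62,67]),
    (54,[51,62],[62]), (55,[62,51,67,62,67],[]), (56,[],[67,62,62,67,51,62,62]), (57,[],[62,51,67,62,67]),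
    (58,[],[67,62,67,51,62]), (59,[],[67,62,62,67]), (60,[],[62,62]), (61,[],[]), (63,[],[62,62,62]),
    (64,[],[62,62,62,62]), (65,[],[67,62,67]), (66,[],[62,62,62,62,62]), (68,[],[62,62,62,62,67]),
    (69,[],[62,62,67]), (70,[],[62,62,62,67]), (71,[],[67,62,62,62]), (72,[],[67,62,62]), (73,[],[62,67]),
    (74,[],[67,62])]

theorem hst2 : slp (ar4 9) ms st2 (List.range' 1 16) = true := by decide +kernel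

/-- The meaning of the codes. -/
def sm : Sem (ar4 9) K4 F9 := sem4 9 (finProdFinEquiv : Fin 3 × Fin 3 ≃ Fin 9)

/-- The group `3.J₃`. -/
abbrev B : Type := threeJ3 K4 K4.w

/-- The matrix of an element. -/
def ρ : B →* Matrix F9 F9 K4 := (Units.coeHom _).comp (Subgroup.subtype _)

theorem ρ_inj : Function.Injective ρ := Units.val_injective.comp Subtype.val_injective

/-- The number of an index. -/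
def ix (Z : F9) : ℕ := 3 * Z.1.val + Z.2.val

theorem gens_eq : ∀ Z : F9, (sm.mat (ms.getD (32 + ix Z) []) = j3A K4 K4.w Z ∧
    sm.mat (ms.getD (41 + ix Z) []) = j3E K4 K4.w Z ∧
    sm.mat (ms.getD (50 + ix Z) []) = j3D K4 K4.w Z) ∧ (Z ≠ 0 →
    sm.mat (ms.getD (58 + ix Z) []) = j3B K4 Z ∧ sm.mat (ms.getD (66 + ix Z) []) = j3C K4 Z) := by
  decide +kernel

theorem rep_kn : ∀ l ∈ [33,34,35,38,51,53,59,62,63,65,66,67,68,69], sm.Rep ρ ms ⊤ l := by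
  intro l hl
  have h1 : ∀ l ∈ [33,34,35,38,51,53,59,62,63,65,66,67,68,69], ∃ p ∈ (
    [(33,34), (34,33), (35,38), (38,35), (51,52), (53,56), (59,60), (62,65), (63,66), (65,62), (66,63), (67,67), (68,68), (69,69)] : List (ℕ × ℕ)),
    p.1 = l ∧ eqB (ar4 9) ms [p.1, p.2] [] 1 = true := by decide +kernel
  obtain ⟨⟨k, k'⟩, -, rfl, h2⟩ := h1 l hl
  refine ⟨⟨sm.unit hw h2, subset_closure ?_⟩, trivial, rfl⟩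
  change sm.mat (gm ms k) ∈ j3Gens K4 K4.w
  obtain ⟨Z, h⟩ := (show ∀ l ∈ [33,34,35,38,51,53,59,62,63,65,66,67,68,69], ∃ Z : F9, l = 32 + ix Z ∨
    l = 50 + ix Z ∨ (Z ≠ 0 ∧ (l = 58 + ix Z ∨ l = 66 + ix Z)) by decide +kernel) k hl
  rw [gm_eq]
  rcases h with rfl | rfl | ⟨h, rfl | rfl⟩
  · exact Or.inl (Or.inl (Or.inl (Or.inl ⟨Z, (gens_eq Z).1.1.symm⟩)))
  · exact Or.inl (Or.inl (Or.inr ⟨Z, (gens_eq Z).1.2.2.symm⟩))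
  · exact Or.inl (Or.inr ⟨Z, h, ((gens_eq Z).2 h).1⟩)
  · exact Or.inr ⟨Z, h, ((gens_eq Z).2 h).2⟩

/-- The letters. -/
noncomputable def lF : List B := (List.range' 1 31).map (sm.el ρ ms ⊤)

theorem ρ_gen {i : ℕ} (h : i < 32) : ρ (gen lF i) = sm.mat (gm ms i) := by
  have h1 := sm.rho_el ρ (Sem.Rep.sub _ _ (sm.rep_of_slp hw ρ st1 rep_kn hst1)
    (S := List.range 32) (by decide +kernel))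
  rcases i with _ | i
  · exact ρ.map_one.trans ((sm.wm_eq_one hw (u := []) (v := [0]) (by decide +kernel)).trans
      (by simp [Sem.wm]))
  · rw [← h1 _ (List.mem_range.mpr h), gen, List.getD_cons_succ, lF,
      List.getD_eq_getElem _ _ (by simp; omega)]
    simp [add_comm]

/-- The check of an equation between words. -/
noncomputable def chk (u v : List ℕ) (x : ℕ) : Bool :=
  (u.all fun l => decide (l < 32)) && (v.all fun l => decide (l < 32)) && eqB (ar4 9) ms u v x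

theorem ρ_ev {u v : List ℕ} {x : ℕ} (hx : x < 4) (h : chk u v x = true) :
    ρ (ev lF u) = c4 x • ρ (ev lF v) := by
  simp only [chk, Bool.and_eq_true] at h
  rw [ev, ev, sm.map_prod ρ (fun _ => ρ_gen) h.1.1, sm.map_prod ρ (fun _ => ρ_gen) h.1.2]
  exact sm.wm_eq hw hx h.2

theorem ev_eq {u v : List ℕ} (h : chk u v 1 = true) : ev lF u = ev lF v :=
  ρ_inj ((ρ_ev (by decide) h).trans (one_smul _ _))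

theorem gen_sel {G : Type*} [Group G] (l : List G) (I : List ℕ) (i : ℕ) :
    gen (I.map (gen l)) i = gen l (inv I i) := by
  have : (1 : G) :: I.map (gen l) = (0 :: I).map (gen l) := rfl
  rw [gen, this]
  exact List.getD_map (0 :: I) 0 (gen l)

theorem ev_sel {G : Type*} [Group G] (l : List G) (I w : List ℕ) :
    ev (I.map (gen l)) w = ev l (w.map (inv I)) := by
  rw [ev, ev, List.map_map]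
  exact congrArg List.prod (List.map_congr_left fun i _ => gen_sel l I i)

theorem rel_sel (I : List ℕ) {rs : List (List ℕ)}
    (h : (rs.all fun r => chk (r.map (inv I)) [] 1) = true) : TCList.Rel (I.map (gen lF)) rs :=
  fun r hr => (ev_sel _ _ _).trans (ev_eq (List.all_eq_true.mp h r hr))

theorem ev_one {G : Type*} [Group G] (l : List G) (i : ℕ) : ev l [i] = gen l i := by
  rw [ev_cons, ev_nil, mul_one]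

/-- The involution `c`. -/
noncomputable def cB : B := gen lF 15

theorem exists_psi : ∃ ψ : Hm false →* B, lg ψ cB = (List.range' 1 16).map (gen lF) := by
  obtain ⟨ψ, h⟩ := exists_homH false (m := [1,2,17,18,19,3,4,5,6,7,8,9].map (gen lF)) rfl
    (rel_sel _ (by decide +kernel))
  have h1 : (lH false).map ψ = [1,2,17,18,19,3,4,5,6,7,8,9].map (gen lF) := by
    simp only [List.forall_mem_cons] at h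
    obtain ⟨h1, h2, h3, h4, h5, h6, h7, h8, h9, h10, h11, h12, -⟩ := h
    exact congrArg₂ _ h1 (congrArg₂ _ h2 (congrArg₂ _ h3 (congrArg₂ _ h4 (congrArg₂ _ h5
      (congrArg₂ _ h6 (congrArg₂ _ h7 (congrArg₂ _ h8 (congrArg₂ _ h9 (congrArg₂ _ h10
      (congrArg₂ _ h11 (congrArg₂ _ h12 rfl)))))))))))
  have h2 : ∀ i ∈ List.range' 1 14, ψ (gen lm i) = gen lF i := fun i hi => by
    obtain ⟨w, -, h3, h4⟩ := (show ∀ i ∈ List.range' 1 14, ∃ w ∈ (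
    [[1], [2], [6], [7], [8], [9], [10], [11], [12], [7,10,7], [9,11], [2,4,9,11], [1,5,8,12], [7,11]] : List (List ℕ)),
      gen lm i = ev (lH false) w ∧ chk (w.map (inv [1,2,17,18,19,3,4,5,6,7,8,9])) [i] 1 = true by
        decide +kernel) i hi
    rw [h3, ← ev_map, h1, ev_sel, ev_eq h4, ev_one]
  have h3 : lm.map ψ = (List.range' 1 14).map (gen lF) := by
    rw [← List.map_congr_left h2]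
    exact (List.map_map (f := gen lm) (g := ψ) (l := List.range' 1 14))
  refine ⟨ψ, ?_⟩
  have h4 : ψ HJ2Pres.ms = gen lF 10 := h2 10 (by decide)
  have h5 := ev_eq (u := [10,15,10]) (v := [16]) (by decide +kernel)
  simp only [ev_cons, ev_nil, mul_one] at h5
  rw [lg, h3, h4, cB, mul_assoc, h5]
  rfl

/-- The embedding of the model. -/
noncomputable def ψB : Hm false →* B := exists_psi.choose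

theorem lg_eq : lg ψB cB = (List.range' 1 16).map (gen lF) := exists_psi.choose_spec

theorem gen_lg {i : ℕ} (h : i ≤ 16) : gen (lg ψB cB) i = gen lF i := by
  rw [lg_eq, gen_sel, (show ∀ i ≤ 16, inv (List.range' 1 16) i = i by decide) i h]

theorem ψ_a : ψB (ma false) = gen lF 1 := gen_lg (i := 1) (by decide)
theorem ψ_b : ψB (mb false) = gen lF 2 := gen_lg (i := 2) (by decide)
theorem ψ_z : ψB (zh false) = gen lF 3 := gen_lg (i := 3) (by decide)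
theorem ψ_x : ψB (mx false) = gen lF 8 := gen_lg (i := 8) (by decide)
theorem ψ_u : ψB (mu false) = gen lF 11 := gen_lg (i := 11) (by decide)
theorem ψ_v : ψB (mv false) = gen lF 12 := gen_lg (i := 12) (by decide)

theorem jrB : JR ψB cB := by
  have h1 := ev_eq (u := [15,15]) (v := []) (by decide +kernel)
  have h2 := ev_eq (u := [15,1]) (v := [1,15]) (by decide +kernel)
  have h3 := ev_eq (u := [15,8]) (v := [8,15]) (by decide +kernel)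
  have h4 := ev_eq (u := [15,3,15]) (v := [3,1]) (by decide +kernel)
  have h5 := ev_eq (u := [2,15,2,15,2,15]) (v := []) (by decide +kernel)
  have h6 := ev_eq (u := [15,11,15,8]) (v := [8,12]) (by decide +kernel)
  simp only [ev_cons, ev_nil, mul_one, ← mul_assoc] at h1 h2 h3 h4 h5 h6
  refine ⟨h1, ψ_a ▸ h2, ψ_x ▸ h3, ψ_a ▸ ψ_z ▸ h4, ?_, ?_⟩
  · rw [ψ_b, pow_three, ← h5, cB]; group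
  · rw [map_mul, map_mul, map_inv, ψ_x, ψ_u, ψ_v, ← h6, cB]; group

theorem r3B : TCList.Rel (lg ψB cB) r3 := lg_eq ▸ rel_sel _ (by decide +kernel)

theorem genB : ψB.range ⊔ zpowers cB = ⊤ := by
  have h1 : ∀ l ∈ List.range' 1 16, sm.Rep ρ ms (ψB.range ⊔ zpowers cB) l := fun l hl => by
    have h2 := List.mem_range'_1.mp hl
    refine ⟨gen lF l, ?_, ρ_gen (by omega)⟩
    rw [← gen_lg (by omega)]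
    have hc : cB ∈ ψB.range ⊔ zpowers cB := mem_sup_right (mem_zpowers _)
    have hs : ψB HJ2Pres.ms ∈ ψB.range ⊔ zpowers cB := mem_sup_left ⟨_, rfl⟩
    rcases (show ∀ l ∈ List.range' 1 16, l ∈ [1,2,3,4,5,6,7,8,9,10,11,12,13,14] ∨ l = 15 ∨ l = 16 by
      decide) l hl with h | rfl | rfl
    exacts [mem_sup_left (gen_range _ _ l h), hc, mul_mem (mul_mem hs hc) hs]
  have h2 := Sem.Rep.sub _ _ (sm.rep_of_slp hw ρ st2 h1 hst2) (S := List.range' 32 43)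
    (by decide +kernel)
  have h3 : ∀ (g : GL F9 K4) (l : ℕ), 32 ≤ l → l < 75 → sm.mat (ms.getD l []) = g →
      g ∈ (ψB.range ⊔ zpowers cB).map (Subgroup.subtype _) := fun g l a b h => by
    obtain ⟨x, hx, e⟩ := h2 l (List.mem_range'_1.mpr ⟨a, b⟩)
    exact ⟨x, hx, Units.ext (e.trans (gm_eq ms l ▸ h))⟩
  have h4 : ∀ Z : F9, ix Z < 9 ∧ (Z ≠ 0 → 0 < ix Z) := by decide
  rw [eq_top_iff]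
  rintro ⟨g, hg⟩ -
  have h5 : threeJ3 K4 K4.w ≤ (ψB.range ⊔ zpowers cB).map (Subgroup.subtype _) := by
    refine (closure_le _).mpr ?_
    rintro g ((((⟨Z, h⟩ | ⟨Z, h⟩) | ⟨Z, h⟩) | ⟨Z, h0, h⟩) | ⟨Z, h0, h⟩) <;> have := h4 Z
    · exact h3 g _ (by omega) (by omega) ((gens_eq Z).1.1.trans h)
    · exact h3 g _ (by omega) (by omega) ((gens_eq Z).1.2.1.trans h)
    · exact h3 g _ (by omega) (by omega) ((gens_eq Z).1.2.2.trans h)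
    · exact h3 g _ (by omega) (by omega) (((gens_eq Z).2 h0).1.trans h.symm)
    · exact h3 g _ (by omega) (by omega) (((gens_eq Z).2 h0).2.trans h.symm)
  obtain ⟨x, hx, rfl⟩ := h5 hg
  exact hx

theorem gen_ne {i : ℕ} (h : i < 32) (h1 : sm.mat (ms.getD i []) ≠ 1) : gen lF i ≠ 1 := fun e =>
  h1 (by rw [← gm_eq, ← ρ_gen h, e, map_one])

theorem z_ne : ψB (zh false) ≠ 1 := ψ_z ▸ gen_ne (by decide) (by decide +kernel)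

theorem exists_17 : ∃ s : B, s ^ 17 = 1 ∧ (s * ψB (zh false)) ^ 9 = 1 := by
  have h1 := ev_eq (u := (List.replicate 17 [21]).flatten) (v := []) (by decide +kernel)
  have h2 := ev_eq (u := (List.replicate 9 [21,3]).flatten) (v := []) (by decide +kernel)
  rw [ev_flatten, ev_cons] at h1 h2
  exact ⟨_, h1, by rw [ψ_z, ev_nil, mul_one, ← ev_one lF 3]; exact h2⟩

theorem exists_19 : ∃ s : B, s ^ 19 = 1 ∧ (s * ψB (zh false)) ^ 51 = 1 := by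
  have h1 := ev_eq (u := (List.replicate 19 [22]).flatten) (v := []) (by decide +kernel)
  have h2 := ev_eq (u := (List.replicate 51 [22,3]).flatten) (v := []) (by decide +kernel)
  rw [ev_flatten, ev_cons] at h1 h2
  exact ⟨_, h1, by rw [ψ_z, ev_nil, mul_one, ← ev_one lF 3]; exact h2⟩

theorem conj_zu : IsConj (ψB (zh false)) (ψB (mu false)) := by
  have h1 := ev_eq (u := [23,3]) (v := [11,23]) (by decide +kernel)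
  simp only [ev_cons, ev_nil, mul_one] at h1
  exact isConj_iff.mpr ⟨gen lF 23, by rw [ψ_z, ψ_u, h1, mul_inv_cancel_right]⟩

theorem three_dvd : ∃ g ∈ center B, orderOf g = 3 := by
  have h1 := ρ_ev (u := [20]) (v := []) (x := 2) (by decide) (by decide +kernel)
  have h2 := ev_eq (u := (List.replicate 3 [20]).flatten) (v := []) (by decide +kernel)
  rw [ev_flatten] at h2
  rw [ev_one] at h1 h2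
  refine ⟨gen lF 20, mem_center_iff.mpr fun g => ρ_inj ?_,
    orderOf_eq_prime h2 (gen_ne (by decide) (by decide +kernel))⟩
  simp [h1, ev_nil]

theorem fix_mod {V : Type*} [Finite V] (f : V → V) {p : ℕ} (hp : p.Prime) (h : f^[p] = id) :
    Nat.card V ≡ Nat.card (Function.fixedPoints f) [MOD p] := by
  classical
  have := Fact.mk hp
  have := Fintype.ofFinite V
  have h1 := Equiv.Perm.card_fixedPoints_modEq (α := V) (f := f) (p := p) (n := 1)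
    (by rw [pow_one]; exact h)
  rw [Nat.card_eq_fintype_card, Nat.card_eq_fintype_card]
  convert h1

/-- The vectors fixed by an element. -/
def fixV (g : B) : AddSubgroup (F9 → K4) where
  carrier := {v | ρ g *ᵥ v = v}
  add_mem' := fun {u v} (hu : _ = _) (hv : _ = _) => show _ = _ by rw [mulVec_add, hu, hv]
  zero_mem' := mulVec_zero _
  neg_mem' := fun {u} (hu : _ = _) => show _ = _ by rw [mulVec_neg, hu]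

theorem iter_eq (g : B) (n : ℕ) (v : F9 → K4) : (fun v => ρ g *ᵥ v)^[n] v = ρ (g ^ n) *ᵥ v := by
  induction n with
  | zero => simp
  | succ n ih => rw [Function.iterate_succ_apply', ih, mulVec_mulVec, pow_succ', map_mul]

theorem card_fix {g : B} {p : ℕ} (hp : p.Prime) (h : g ^ p = 1) (h1 : g ≠ 1) :
    ∃ j < 18, Nat.card (fixV g) = 2 ^ j ∧ 2 ^ 18 ≡ 2 ^ j [MOD p] := by
  have h2 : Nat.card (F9 → K4) = 2 ^ 18 := by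
    rw [Nat.card_fun, Nat.card_eq_fintype_card, Nat.card_eq_fintype_card]; rfl
  obtain ⟨j, hj, h3⟩ := (Nat.dvd_prime_pow Nat.prime_two).mp
    (h2 ▸ AddSubgroup.card_addSubgroup_dvd_card (fixV g))
  refine ⟨j, lt_of_le_of_ne hj ?_, h3, ?_⟩
  · rintro rfl
    have h4 := AddSubgroup.eq_top_of_card_eq _ (h3.trans h2.symm)
    refine h1 (ρ_inj (Matrix.ext_iff_mulVec.mpr fun v => ?_))
    rw [map_one, one_mulVec]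
    exact (h4.ge (AddSubgroup.mem_top v) : v ∈ fixV g)
  · rw [← h2, ← h3]
    exact fix_mod _ hp (funext fun v => by rw [iter_eq, h, map_one, one_mulVec]; rfl)

theorem not_comm {α β : B} (h : Commute α β) (h1 : α ^ 17 = 1) (h2 : β ^ 19 = 1) :
    α = 1 ∨ β = 1 := by
  by_contra! h3
  obtain ⟨j, hj, h4, h5⟩ := card_fix (by norm_num) h1 h3.1
  obtain ⟨k, hk, h6, h7⟩ := card_fix (by norm_num) h2 h3.2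
  obtain rfl := (show ∀ k < 18, 2 ^ 18 ≡ 2 ^ k [MOD 19] → k = 0 by decide) k hk h7
  let f : fixV α → fixV α := fun v => ⟨ρ β *ᵥ v.1, show _ = _ by
    rw [mulVec_mulVec, ← map_mul, h.eq, map_mul, ← mulVec_mulVec, show ρ α *ᵥ v.1 = v.1 from v.2]⟩
  have h8 := fix_mod f (p := 19) (by norm_num) (funext fun v => Subtype.ext (by
    have : ∀ n, (f^[n] v).1 = (fun v => ρ β *ᵥ v)^[n] v.1 := fun n =>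
      Function.Semiconj.iterate_right (f := Subtype.val) (fun _ => rfl) n v
    rw [this, iter_eq, h2, map_one, one_mulVec]; rfl))
  have h9 : Nat.card (Function.fixedPoints f) = 1 := by
    have := AddSubgroup.card_eq_one.mp h6
    refine Nat.card_eq_one_iff_exists.mpr ⟨⟨0, Subtype.ext (mulVec_zero (ρ β))⟩, fun v => ?_⟩
    exact Subtype.ext (Subtype.ext (AddSubgroup.mem_bot.mp (this.le (congrArg Subtype.val v.2))))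
  rw [h4, h9] at h8
  exact (show ∀ j < 18, 2 ^ 18 ≡ 2 ^ j [MOD 17] → ¬ 2 ^ j ≡ 1 [MOD 19] by decide) j hj h5 h8

/-- Relators of `SL₂(16)`. -/
def rL : List (List ℕ) :=
    [[1,2], [2,1], [3,3], [4,4], [5,5], [6,6], [7,7], [1,3,2,4], [1,4,2,5], [1,5,2,6], [1,7,1,7], [3,4,3,4],
    [3,5,3,5], [3,6,3,6], [4,5,4,5], [4,6,4,6], [1,5,6,2,3], [1,3,7,1,7,4], [1,4,2,3,5,3], [1,4,7,1,7,5],
    [1,5,7,1,7,6], [3,7,3,7,3,7], [1,1,1,1,1,1,1,1,1,1,1,1,1,1,1]]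

theorem exists_L : ∃ (l : List B) (t : B), l.length = 7 ∧ TCList.Rel l rL ∧
    gen l 3 = ψB (ev lm [1,7,9]) ∧ t * t = 1 ∧
    ∀ p ∈ ([(1,[1,1,1,1]), (2,[2,2,2,2]), (3,[3]), (4,[3,6]), (5,[4,5,6]), (6,[3,4]), (7,[7])] :
      List (ℕ × List ℕ)), t * gen l p.1 * t = ev l p.2 := by
  refine ⟨(List.range' 24 7).map (gen lF), gen lF 31, rfl, rel_sel _ (by decide +kernel), ?_, ?_,
    fun p hp => ?_⟩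
  · rw [← ev_lg (c := cB) (by decide), lg_eq, ev_sel, ← ev_one, ev_sel]
    exact ev_eq (by decide +kernel)
  · simpa only [ev_cons, ev_nil, mul_one] using ev_eq (u := [31,31]) (v := []) (by decide +kernel)
  · have := ev_eq ((show ∀ p ∈ ([(1,[1,1,1,1]), (2,[2,2,2,2]), (3,[3]), (4,[3,6]), (5,[4,5,6]),
      (6,[3,4]), (7,[7])] : List (ℕ × List ℕ)), chk [31, inv (List.range' 24 7) p.1, 31]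
        (p.2.map (inv (List.range' 24 7))) 1 = true by decide +kernel) p hp)
    rw [ev_sel, gen_sel, ← this]
    simp only [ev_cons, ev_nil, mul_one, mul_assoc]

end Cfsg.Agent.Lib.HJ3Mat
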