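import Cfsg.Agent.Lib.HNDR
import Cfsg.Agent.Lib.HNDT
import Cfsg.Agent.Lib.HNDF
import Cfsg.Agent.Lib.HNDM

set_option autoImplicit false
set_option maxRecDepth 100000

namespace Cfsg.Agent.Lib.HND
open Cfsg.Agent.Lib.PermNet Cfsg.Agent.Lib.DCE

theorem tab0 : allR (tabB nets (nat_lit 2816) (nat_lit 12) (nat_lit 1408) (nat_lit 11) (nat_lit 11) (nat_lit 2047) tH) (nat_lit 0) (nat_lit 43) = true := by decide +kernel

theorem tab43 : allR (tabB nets (nat_lit 2816) (nat_lit 12) (nat_lit 1408) (nat_lit 11) (nat_lit 11) (nat_lit 2047) tH) (nat_lit 43) (nat_lit 7) = true := by decide +kernel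

def lH0 : Lev := ⟨[[0], [2], [4], [6], [8], [10]], 0, [(0, 0), (0, 2), (0, 5), (4, 0), (4, 5), (2, 0), (2, 1), (2, 3), (2, 4), (2, 5), (44, 1), (44, 4), (44, 5), (5, 0), (45, 1), (45, 4), (45, 5), (3, 4), (3, 5), (6, 0), (6, 1), (6, 3), (6, 4), (6, 5), (12, 0), (12, 1), (12, 3), (12, 4), (12, 5), (55, 0), (55, 1), (55, 3), (55, 4), (55, 5), (64, 1), (64, 3), (64, 4), (43, 0), (43, 1), (43, 3), (43, 4), (43, 5), (69, 0), (69, 1), (69, 3), (69, 4), (69, 5), (65, 3), (65, 4), (52, 0), (52, 1), (52, 3), (52, 4), (52, 5), (57, 0), (57, 1), (57, 3), (57, 4), (57, 5), (63, 3), (63, 4), (67, 0), (67, 1), (67, 3), (67, 4), (67, 5), (15, 4), (53, 5), (54, 0), (54, 1), (54, 3), (54, 4), (54, 5), (49, 1), (49, 3), (49, 4), (199, 0), (199, 1), (199, 3), (199, 4), (199, 5), (1040, 0), (1040, 1), (1040, 3), (1040, 4), (1040, 5), (11, 5), (70, 0), (70, 1), (70, 3), (70, 4), (70, 5), (10, 3), (188, 0), (188, 1), (188, 3), (188, 4), (188, 5), (590, 0), (590, 1), (590, 3),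 (590, 4), (590, 5), (56, 4), (56, 5), (203, 0), (203, 1), (203, 3), (203, 4), (203, 5), (26, 0), (26, 1), (26, 3), (26, 4), (26, 5), (540, 0), (540, 1), (540, 3), (540, 4), (540, 5), (1077, 0), (1077, 1), (1077, 3), (1077, 4), (1077, 5), (220, 0), (220, 1), (220, 4), (220, 5), (95, 0), (95, 1), (95, 4), (95, 5), (283, 0), (283, 1), (283, 3), (42, 0), (42, 1), (42, 3), (42, 4), (42, 5), (48, 1), (48, 4), (186, 0), (186, 1), (186, 3), (186, 4), (186, 5), (588, 0), (588, 1), (588, 3), (588, 4), (588, 5), (66, 4), (66, 5), (227, 0), (227, 1), (227, 3), (227, 4), (227, 5), (222, 0), (222, 1), (222, 3), (222, 4), (222, 5), (299, 0), (299, 1), (299, 3), (299, 4), (299, 5), (1122, 0), (1122, 1), (1122, 3), (1122, 4), (1122, 5), (219, 0), (219, 1), (219, 4), (219, 5), (99, 0), (99, 1), (99, 3), (193, 0), (193, 1), (193, 3), (193, 4), (193, 5), (201, 0), (201, 1), (201, 3), (201, 4), (201, 5), (1042, 0), (1042, 1), (1042, 3), (1042, 4), (1042, 5), (58, 4), (58, 5),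 (205, 0), (205, 1), (205, 3), (205, 4), (205, 5), (112, 0), (112, 1), (112, 3), (112, 4), (112, 5), (542, 1), (542, 3), (542, 4), (542, 5), (1079, 0), (1079, 1), (1079, 3), (1079, 4), (1079, 5), (16, 0), (16, 1), (16, 4), (16, 5), (285, 0), (285, 3), (68, 4), (68, 5), (223, 0), (223, 1), (223, 3), (223, 4), (223, 5), (224, 0), (224, 1), (224, 3), (224, 4), (224, 5), (298, 1), (298, 3), (298, 4), (298, 5), (1120, 0), (1120, 1), (1120, 3), (1120, 4), (1120, 5), (97, 0), (97, 3), (88, 0), (88, 3), (194, 5), (85, 0), (85, 1), (85, 4), (85, 5), (523, 0), (523, 1), (523, 3), (523, 4), (523, 5), (267, 0), (267, 1), (267, 3), (267, 4), (267, 5), (826, 0), (826, 1), (826, 3), (826, 4), (826, 5), (51, 0), (14, 0), (61, 0), (61, 3), (200, 4), (200, 5), (527, 0), (527, 5), (529, 0), (529, 1), (529, 3), (529, 4), (529, 5), (1044, 0), (1044, 1), (1044, 3), (1044, 4), (907, 0), (907, 1), (907, 3), (907, 4), (907, 5), (1041, 2), (1041, 4), (1041, 5), (1200, 0), (1200, 1),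 (1200, 4), (1200, 5), (1384, 0), (1384, 1), (1384, 3), (1384, 4), (1384, 5), (667, 0), (667, 1), (667, 3), (667, 4), (667, 5), (1398, 0), (1398, 3), (1398, 4), (59, 0), (59, 3), (72, 5), (73, 0), (73, 1), (73, 4), (73, 5), (232, 0), (232, 1), (232, 3), (232, 4), (232, 5), (104, 0), (104, 1), (104, 3), (104, 4), (104, 5), (181, 0), (181, 1), (181, 3), (181, 4), (181, 5), (8, 0), (189, 4), (189, 5), (510, 0), (510, 5), (513, 0), (513, 1), (513, 3), (513, 4), (513, 5), (1014, 0), (1014, 1), (1014, 3), (1014, 4), (756, 0), (756, 1), (756, 3), (756, 4), (756, 5), (591, 2), (591, 4), (591, 5), (1131, 0), (1131, 1), (1131, 4), (1131, 5), (1134, 0), (1134, 1), (1134, 3), (1134, 4), (1134, 5), (878, 0), (878, 1), (878, 3), (878, 4), (878, 5), (1243, 0), (1243, 3), (1243, 4), (81, 0), (81, 1), (81, 3), (81, 4), (81, 5), (148, 0), (148, 1), (148, 4), (539, 0), (539, 1), (539, 4), (539, 5), (549, 1), (549, 4), (549, 5), (1056, 0), (1056, 1), (1056, 3), (1056, 4), (1056,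 5), (368, 0), (368, 1), (368, 3), (368, 4), (368, 5), (113, 2), (113, 5), (25, 0), (25, 1), (25, 3), (25, 4), (25, 5), (144, 0), (144, 1), (144, 3), (144, 4), (132, 0), (132, 1), (132, 3), (132, 4), (132, 5), (128, 0), (128, 1), (128, 3), (128, 4), (128, 5), (541, 4), (541, 5), (1060, 0), (1060, 1), (1060, 4), (1060, 5), (1061, 0), (1061, 1), (1061, 3), (1061, 4), (1061, 5), (662, 0), (662, 1), (662, 3), (662, 4), (662, 5), (1048, 0), (1048, 1), (1048, 3), (1048, 4), (1048, 5), (1078, 2), (1078, 4), (1106, 0), (1106, 1), (1106, 4), (1106, 5), (1335, 0), (1335, 5), (572, 0), (572, 3), (1186, 0), (1186, 1), (1186, 4), (1186, 5), (576, 0), (576, 3), (576, 5), (904, 0), (904, 1), (904, 3), (904, 4), (904, 5), (691, 0), (691, 1), (691, 3), (691, 4), (691, 5), (102, 0), (102, 3), (102, 5), (116, 0), (116, 1), (116, 3), (116, 4), (116, 5), (695, 0), (695, 3), (695, 4), (695, 5), (284, 4), (284, 5), (543, 4), (408, 0), (408, 1), (408, 3), (408, 4), (71, 5), (41,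 0), (41, 1), (41, 4), (41, 5), (230, 3), (230, 5), (18, 1), (18, 3), (18, 4), (18, 5), (179, 0), (179, 3), (179, 5), (87, 0), (90, 0), (90, 3), (187, 4), (187, 5), (507, 0), (507, 5), (508, 0), (508, 3), (508, 5), (1012, 0), (1012, 1), (1012, 3), (1012, 4), (755, 0), (755, 3), (755, 4), (755, 5), (589, 4), (589, 5), (1128, 0), (1128, 1), (1128, 4), (1128, 5), (1129, 0), (1129, 1), (1129, 3), (1129, 4), (1129, 5), (877, 0), (877, 1), (877, 3), (877, 4), (1241, 0), (1241, 3), (1241, 4), (579, 0), (579, 1), (579, 3), (646, 0), (646, 1), (646, 4), (497, 0), (497, 1), (497, 4), (497, 5), (584, 1), (584, 4), (584, 5), (1001, 1), (1001, 3), (1001, 4), (1001, 5), (75, 0), (75, 1), (75, 3), (75, 4), (75, 5), (225, 2), (225, 5), (473, 0), (473, 1), (473, 3), (473, 4), (473, 5), (555, 0), (555, 1), (555, 3), (555, 4), (775, 0), (775, 1), (775, 3), (775, 4), (775, 5), (36, 0), (36, 1), (36, 3), (36, 4), (36, 5), (294, 4), (673, 0), (673, 1), (673, 4), (673, 5), (664,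 0), (664, 5), (643, 0), (643, 1), (643, 3), (643, 4), (643, 5), (457, 0), (457, 1), (457, 3), (457, 4), (457, 5), (1123, 4), (913, 0), (913, 1), (913, 4), (1295, 0), (1295, 5), (637, 0), (637, 3), (698, 0), (698, 1), (698, 4), (698, 5), (575, 0), (575, 3), (575, 5), (905, 0), (905, 1), (905, 3), (905, 4), (905, 5), (690, 0), (690, 3), (690, 4), (690, 5), (100, 4), (100, 5), (297, 4), (300, 0), (300, 1), (300, 3), (300, 4), (195, 5), (196, 0), (196, 1), (196, 4), (196, 5), (524, 3), (524, 5), (269, 1), (269, 3), (269, 4), (269, 5), (828, 0), (828, 3), (828, 5), (202, 4), (530, 0), (530, 5), (536, 0), (536, 5), (1046, 0), (1046, 1), (1046, 3), (1046, 4), (908, 0), (908, 3), (908, 4), (908, 5), (1043, 4), (1043, 5), (1202, 0), (1202, 1), (1202, 4), (1202, 5), (1385, 0), (1385, 3), (682, 0), (682, 1), (682, 3), (682, 4), (1399, 0), (33, 1), (33, 3), (146, 0), (146, 1), (146, 4), (546, 0), (546, 1), (546, 4), (546, 5), (550, 1), (550, 4), (550, 5), (1058, 1),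 (1058, 3), (1058, 4), (1058, 5), (367, 0), (367, 1), (367, 4), (367, 5), (27, 5), (111, 0), (111, 1), (111, 3), (111, 4), (29, 0), (29, 3), (29, 4), (134, 0), (134, 3), (134, 5), (126, 1), (126, 3), (126, 4), (1062, 0), (1062, 1), (1062, 4), (1065, 5), (663, 0), (663, 1), (663, 3), (663, 4), (663, 5), (1049, 0), (1049, 1), (1049, 3), (1049, 4), (1049, 5), (1080, 4), (1104, 0), (1104, 1), (1104, 4), (1334, 0), (1334, 5), (571, 0), (571, 3), (1187, 0), (1187, 5), (17, 0), (17, 3), (17, 5), (114, 0), (114, 1), (114, 3), (114, 4), (114, 5), (693, 0), (693, 3), (693, 4), (693, 5), (282, 4), (282, 5), (407, 0), (407, 1), (407, 3), (407, 4), (581, 1), (581, 3), (647, 0), (647, 1), (647, 4), (498, 0), (498, 1), (498, 4), (498, 5), (583, 1), (583, 4), (583, 5), (999, 1), (999, 3), (999, 4), (999, 5), (39, 0), (39, 1), (39, 4), (39, 5), (226, 5), (472, 0), (472, 1), (472, 4), (554, 3), (554, 4), (774, 0), (774, 3), (774, 5), (78, 1), (78, 3), (78, 4), (672, 0), (672,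 1), (672, 4), (669, 5), (642, 0), (642, 1), (642, 3), (642, 4), (642, 5), (456, 0), (456, 1), (456, 4), (456, 5), (1121, 4), (912, 0), (912, 1), (912, 4), (1294, 0), (1294, 5), (636, 0), (636, 3), (699, 0), (699, 5), (98, 4), (98, 5), (295, 0), (295, 1), (295, 3), (295, 4), (89, 4), (1084, 0), (1084, 1), (1084, 3), (1084, 4), (1084, 5), (198, 5), (84, 0), (263, 0), (263, 3), (525, 5), (1024, 4), (1033, 0), (1033, 3), (1033, 5), (925, 1), (925, 3), (925, 4), (927, 1), (476, 0), (476, 1), (476, 3), (476, 4), (476, 5), (411, 0), (411, 1), (411, 3), (411, 4), (827, 5), (494, 5), (445, 0), (445, 1), (445, 3), (445, 4), (392, 1), (392, 3), (392, 5), (757, 0), (757, 1), (757, 3), (757, 4), (62, 4), (852, 0), (852, 3), (852, 4), (1392, 0), (1392, 4), (1392, 5), (153, 0), (153, 1), (153, 4), (153, 5), (537, 2), (921, 1), (921, 4), (1052, 1), (1052, 4), (1052, 5), (1029, 4), (1226, 1), (1226, 3), (1045, 4), (1359, 1), (1359, 4), (1359, 5), (1229, 0), (1229, 1), (1229,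 4), (963, 0), (963, 1), (963, 4), (906, 4), (791, 0), (791, 1), (791, 4), (361, 0), (361, 1), (361, 3), (361, 5), (714, 1), (714, 3), (714, 4), (1336, 0), (1222, 0), (1361, 0), (1361, 1), (1361, 3), (1361, 4), (1361, 5), (1220, 4), (1235, 1), (1386, 5), (1404, 5), (1155, 3), (1170, 1), (1170, 3), (1170, 5), (1236, 5), (683, 4), (683, 5), (218, 0), (218, 1), (218, 4), (534, 0), (551, 5), (60, 4), (1124, 0), (1124, 1), (1124, 3), (1124, 4), (1124, 5), (83, 0), (259, 0), (234, 5), (592, 4), (597, 0), (597, 3), (597, 5), (1016, 1), (1016, 3), (1016, 4), (1019, 1), (106, 0), (106, 1), (106, 3), (106, 4), (106, 5), (288, 0), (288, 1), (288, 3), (288, 4), (178, 5), (493, 5), (481, 0), (481, 1), (481, 3), (481, 4), (390, 1), (390, 5), (1305, 0), (1305, 1), (1305, 3), (1305, 4), (771, 0), (771, 3), (771, 4), (1208, 0), (1208, 4), (1208, 5), (916, 0), (916, 1), (916, 4), (916, 5), (515, 2), (1017, 1), (1017, 4), (1021, 1), (1021, 4), (1021, 5), (587, 4), (1213, 1),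 (1213, 3), (1015, 4), (1370, 1), (1370, 4), (1370, 5), (1364, 0), (1364, 1), (1364, 4), (1283, 0), (1283, 1), (1283, 4), (741, 4), (1278, 0), (1278, 1), (1278, 4), (733, 0), (733, 1), (733, 3), (733, 5), (978, 1), (978, 3), (978, 4), (805, 0), (1343, 0), (718, 0), (718, 1), (718, 3), (718, 4), (718, 5), (747, 4), (336, 1), (1136, 5), (1196, 5), (1147, 3), (665, 1), (665, 3), (665, 5), (386, 5), (880, 4), (880, 5), (277, 0), (277, 1), (28, 0), (585, 5), (30, 4), (80, 0), (80, 1), (80, 5), (31, 0), (31, 5), (168, 0), (168, 1), (168, 4), (168, 5), (174, 0), (174, 1), (174, 3), (419, 0), (439, 3), (545, 0), (545, 3), (1068, 0), (1068, 1), (1068, 3), (1068, 4), (1068, 5), (477, 0), (477, 1), (477, 4), (477, 5), (1228, 3), (1057, 4), (1057, 5), (1327, 0), (1327, 1), (1327, 3), (1327, 4), (1327, 5), (1356, 3), (1356, 5), (1150, 0), (1150, 1), (1150, 3), (1150, 4), (1150, 5), (940, 5), (127, 5), (953, 0), (953, 1), (953, 3), (82, 4), (24, 5), (135, 4), (23, 3), (388,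 0), (388, 1), (388, 4), (388, 5), (1276, 0), (1276, 1), (1276, 4), (137, 0), (141, 0), (141, 5), (133, 5), (385, 3), (385, 5), (376, 0), (376, 3), (376, 5), (488, 5), (968, 0), (968, 3), (125, 5), (239, 5), (255, 0), (502, 5), (1053, 1), (1285, 0), (1285, 1), (1285, 4), (1265, 0), (1265, 3), (1177, 1), (1177, 3), (1177, 5), (1096, 1), (1103, 0), (1103, 1), (839, 0), (839, 3), (839, 4), (1093, 3), (991, 0), (836, 0), (836, 1), (836, 4), (836, 5), (608, 1), (608, 3), (1382, 3), (1175, 1), (1111, 5), (574, 5), (1110, 3), (519, 0), (519, 4), (782, 3), (782, 5), (909, 0), (1351, 3), (1351, 4), (1351, 5), (688, 4), (1237, 0), (304, 5), (1349, 5), (570, 3), (103, 5), (121, 0), (121, 1), (121, 4), (121, 5), (338, 0), (702, 4), (702, 5), (703, 1), (703, 5), (635, 0), (635, 3), (442, 4), (1251, 1), (1251, 4), (1376, 5), (401, 2), (882, 1), (882, 4), (762, 1), (938, 0), (938, 3), (1125, 1), (1125, 4), (183, 0), (261, 0), (261, 3), (20, 0), (20, 1), (20, 4), (20, 5),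 (286, 0), (286, 3), (286, 4), (479, 0), (479, 1), (479, 4), (1304, 0), (1304, 3), (1304, 4), (91, 4), (772, 4), (918, 1), (918, 4), (1020, 1), (1212, 1), (1371, 1), (1371, 4), (1371, 5), (1366, 0), (1366, 1), (1366, 4), (1282, 0), (732, 0), (732, 1), (732, 3), (979, 1), (979, 3), (719, 1), (719, 3), (1146, 3), (676, 1), (676, 3), (676, 5), (393, 5), (278, 0), (278, 1), (278, 4), (580, 4), (372, 1), (615, 0), (341, 0), (622, 3), (412, 0), (412, 3), (812, 0), (812, 3), (602, 0), (602, 1), (602, 4), (602, 5), (1311, 0), (1311, 1), (1311, 4), (1368, 5), (994, 0), (994, 1), (994, 3), (994, 4), (994, 5), (948, 5), (77, 5), (1142, 0), (1142, 1), (582, 4), (321, 4), (172, 3), (356, 0), (356, 5), (790, 0), (790, 1), (790, 4), (535, 0), (655, 5), (766, 5), (391, 5), (345, 3), (495, 5), (130, 0), (130, 3), (37, 5), (171, 5), (176, 0), (450, 5), (803, 0), (803, 1), (1256, 0), (1256, 3), (468, 0), (251, 0), (251, 4), (933, 0), (166, 0), (166, 5), (603, 1), (603, 3), (1345,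 3), (427, 1), (639, 5), (504, 0), (786, 0), (786, 4), (786, 5), (1350, 5), (569, 0), (569, 3), (559, 4), (902, 1), (679, 1), (423, 1), (987, 3), (1085, 1), (1085, 4), (190, 0), (475, 0), (475, 1), (410, 0), (410, 4), (447, 0), (447, 4), (758, 0), (758, 3), (758, 4), (154, 1), (1357, 5), (1225, 1), (1225, 4), (715, 3), (713, 1), (713, 3), (1360, 1), (1154, 3), (217, 1), (556, 0), (556, 3), (1070, 0), (1070, 3), (609, 0), (1326, 0), (1326, 1), (1326, 4), (1148, 0), (1148, 1), (1148, 3), (1148, 4), (109, 3), (389, 5), (139, 5), (964, 0), (240, 5), (500, 5), (1284, 0), (1284, 1), (1264, 0), (1264, 3), (1102, 0), (838, 0), (464, 3), (1383, 3), (520, 0), (119, 5), (700, 5), (634, 0), (634, 3), (443, 4), (1249, 1), (881, 1), (939, 3), (413, 0), (808, 0), (808, 3), (601, 0), (1312, 0), (1312, 1), (1312, 4), (995, 0), (995, 1), (995, 3), (995, 4), (355, 5), (326, 0), (458, 5), (804, 0), (804, 1), (1257, 0), (466, 0), (252, 0), (606, 3), (1346, 3), (503, 0), (666,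 1), (1025, 3), (324, 3), (859, 5), (1330, 3), (1330, 5), (873, 0), (873, 3), (382, 0), (382, 3), (759, 4), (1253, 4), (745, 3), (1027, 3), (1157, 0), (1157, 3), (789, 5), (717, 4), (717, 5), (1261, 1), (1261, 3), (1261, 4), (492, 5), (1374, 4), (1329, 4), (1238, 5), (1328, 1), (1328, 4), (626, 5), (1388, 0), (316, 1), (892, 3), (885, 5), (364, 3), (364, 5), (380, 0), (380, 3), (1306, 4), (954, 3), (1089, 0), (1279, 5), (735, 4), (735, 5), (1263, 3), (1323, 5), (365, 4), (394, 5), (363, 1), (363, 4), (618, 5), (823, 0), (815, 3), (330, 5), (1069, 4), (1352, 3), (1152, 4), (320, 5), (1167, 0), (872, 0), (872, 3), (888, 0), (716, 5), (869, 3), (1302, 0), (863, 3)], 1408⟩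

def lH1 : Lev := ⟨[[2], [12], [14], [16]], 97, [(97, 0), (97, 1), (97, 2), (97, 3), (294, 0), (294, 1), (294, 2), (294, 3), (302, 0), (302, 1), (302, 2), (302, 3), (348, 0), (348, 1), (348, 2), (348, 3), (689, 0), (689, 1), (689, 2), (689, 3), (664, 0), (664, 1), (664, 2), (664, 3), (675, 0), (675, 1), (675, 2), (1046, 0), (1046, 1), (1046, 2), (1046, 3), (148, 0), (148, 1), (148, 2), (148, 3), (423, 0), (423, 2), (423, 3), (681, 0), (681, 1), (681, 2), (681, 3), (416, 1), (416, 3), (147, 1), (147, 2), (776, 0), (776, 1), (776, 2), (776, 3), (785, 0), (785, 1), (785, 2), (785, 3), (1057, 0), (1057, 1), (1057, 2), (1057, 3), (865, 0), (865, 1), (865, 3), (305, 0), (305, 2), (305, 3), (1238, 0), (1238, 1), (1238, 2), (1238, 3), (418, 1), (418, 2), (418, 3), (763, 0), (763, 1), (763, 2), (665, 1), (665, 2), (665, 3), (1211, 0), (1211, 1), (1211, 2), (121, 0), (121, 1), (121, 2), (673, 0), (673, 1), (673, 2), (673, 3), (755, 0), (755, 3), (802, 0), (802, 1),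 (802, 2), (802, 3), (1311, 1), (1311, 2), (1311, 3), (1357, 0), (1357, 3), (1231, 0), (1231, 1), (1231, 2), (1231, 3), (1268, 0), (1268, 1), (1268, 2), (1268, 3), (1090, 0), (1090, 1), (1090, 2), (1090, 3), (419, 0), (419, 2), (419, 3), (98, 0), (98, 1), (98, 2), (98, 3), (896, 0), (896, 1), (896, 2), (896, 3), (912, 0), (912, 1), (912, 2), (860, 1), (860, 3), (1217, 0), (1217, 1), (1217, 2), (1217, 3), (1063, 0), (1063, 1), (1063, 2), (1063, 3), (1079, 0), (1079, 1), (1079, 2), (1079, 3), (686, 0), (686, 1), (686, 3), (1395, 0), (1395, 1), (1395, 2), (1395, 3), (649, 2), (649, 3), (297, 0), (297, 1), (297, 2), (297, 3), (650, 1), (650, 2), (650, 3), (420, 0), (420, 1), (420, 2), (287, 2), (287, 3), (777, 1), (777, 2), (805, 1), (805, 2), (805, 3), (875, 0), (875, 1), (875, 2), (875, 3), (884, 0), (884, 3), (1278, 1), (1278, 2), (1278, 3), (1013, 0), (119, 1), (119, 2), (1356, 0), (1356, 1), (1356, 2), (1356, 3), (1324, 0), (1324, 2), (1324, 3), (846, 0),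 (846, 1), (1047, 0), (1047, 1), (1047, 2), (1047, 3), (788, 0), (1284, 0), (1284, 1), (1284, 2), (1284, 3), (1228, 0), (1228, 1), (1228, 2), (655, 0), (655, 2), (1106, 0), (1106, 1), (1106, 2), (1221, 1), (1221, 3), (1093, 0), (1093, 1), (1093, 2), (1093, 3), (766, 0), (766, 1), (766, 2), (1178, 0), (1178, 1), (1178, 2), (1220, 3), (861, 0), (861, 1), (861, 2), (850, 0), (850, 2), (850, 3), (807, 0), (807, 1), (807, 3), (885, 0), (885, 3), (644, 0), (644, 2), (644, 3), (1340, 0), (1340, 1), (1340, 2), (1340, 3), (541, 0), (541, 3), (1295, 0), (801, 0), (801, 3), (1208, 0), (1208, 1), (1208, 2), (1208, 3), (690, 0), (690, 1), (690, 2), (351, 0), (351, 1), (351, 2), (355, 0), (355, 1), (355, 2), (355, 3), (1277, 3), (803, 2), (803, 3), (741, 0), (741, 2), (1254, 0), (1254, 2), (1254, 3), (814, 1), (814, 2), (1276, 0), (1276, 1), (1276, 3), (757, 0), (757, 1), (757, 2), (757, 3), (670, 1), (670, 2), (670, 3), (653, 2), (667, 0), (667, 3), (869, 2), (869, 3),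 (816, 1), (816, 3), (759, 0), (759, 2), (1159, 1), (1159, 2), (1230, 0), (1230, 2), (1056, 1), (1056, 2), (685, 3), (337, 0), (337, 1), (337, 3), (1368, 1), (1368, 3), (760, 0), (760, 1), (760, 3), (1305, 0), (1305, 1), (1170, 0), (1170, 1), (840, 1), (1390, 0), (1399, 2), (1399, 3), (282, 0), (282, 1), (282, 2), (903, 0), (903, 2), (301, 0), (301, 1), (301, 3), (657, 1), (657, 2), (295, 0), (298, 0), (298, 2), (381, 1), (381, 2), (422, 1), (898, 1), (898, 2), (898, 3), (1234, 0), (1234, 1), (1234, 2), (651, 0), (651, 1), (289, 0), (289, 2), (289, 3), (426, 3), (1240, 0), (1240, 1), (1240, 2), (359, 2), (696, 0), (696, 1), (696, 2), (847, 0), (683, 1), (1223, 2), (1219, 0), (1219, 2), (1078, 0), (1078, 2), (1078, 3), (907, 0), (1286, 0), (1286, 2), (1286, 3), (1327, 2), (285, 1), (285, 2), (1104, 2), (1104, 3), (1332, 2), (857, 0), (857, 3), (1224, 1), (1224, 2), (684, 0), (684, 2), (779, 3), (1337, 3), (1392, 3), (693, 0), (693, 1), (543, 3), (1290, 2),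 (1290, 3), (682, 2), (674, 1), (674, 2), (674, 3), (1044, 2), (146, 1), (818, 0), (818, 1), (342, 1), (773, 0), (773, 2), (897, 0), (897, 2), (897, 3), (853, 0), (853, 1), (853, 3), (870, 0), (798, 0), (798, 1), (881, 3), (1364, 3), (1172, 2), (1288, 2), (876, 0), (876, 2), (876, 3), (817, 0), (132, 1), (1122, 2), (1122, 3), (140, 1), (140, 3), (813, 3), (1366, 2), (1366, 3), (356, 1), (1279, 0), (1279, 1), (1012, 0), (1012, 1), (1158, 1), (1388, 0), (1388, 1), (1388, 3), (1352, 2), (1067, 1), (1396, 2), (1314, 1), (1314, 3), (382, 3), (1225, 3), (1358, 2), (131, 0), (1014, 1), (1014, 2), (387, 0), (889, 1), (1065, 2), (1065, 3), (848, 3), (1339, 2), (905, 1), (905, 2), (905, 3), (1175, 0), (1175, 3), (1397, 1), (866, 0), (1235, 2), (843, 2), (332, 0), (332, 1), (332, 3), (890, 0), (345, 0), (767, 0), (1389, 1), (1334, 0), (768, 2), (385, 2), (915, 2), (350, 0), (350, 1), (350, 2), (671, 1), (819, 1), (283, 3), (409, 0), (409, 1), (409, 3), (406, 1), (879,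 0), (1343, 0), (1061, 3), (647, 2), (1210, 2), (806, 0), (784, 2), (1059, 1), (1059, 2), (340, 3), (338, 0), (858, 0), (858, 1), (770, 1), (770, 3), (789, 0), (789, 2), (761, 1), (761, 3), (339, 3), (1252, 2), (1326, 2), (1308, 0), (421, 2), (421, 3), (756, 1), (362, 2), (880, 2), (1309, 2), (333, 1), (1229, 3), (1328, 1), (874, 3), (343, 1), (645, 2), (288, 3), (871, 2), (794, 1), (1218, 0), (1370, 0)], 504⟩

def lH2 : Lev := ⟨[[18], [20], [22], [24]], 15, [(15, 1), (15, 2), (15, 3), (159, 0), (159, 1), (159, 2), (159, 3), (529, 0), (529, 1), (529, 3), (638, 0), (638, 1), (638, 2), (638, 3), (225, 2), (268, 0), (268, 2), (268, 3), (136, 0), (136, 1), (136, 3), (455, 2), (455, 3), (558, 1), (558, 2), (558, 3), (324, 0), (324, 1), (324, 2), (324, 3), (497, 0), (497, 1), (497, 2), (227, 2), (227, 3), (442, 2), (469, 0), (469, 1), (469, 3), (1086, 3), (924, 0), (924, 1), (924, 3), (18, 2), (621, 0), (621, 1), (1152, 2), (1152, 3), (124, 1), (124, 2), (124, 3),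 (17, 0), (17, 1), (463, 0), (463, 1), (463, 2), (107, 0), (107, 1), (107, 3), (1349, 3), (25, 0), (25, 1), (25, 2), (25, 3), (964, 0), (964, 1), (964, 3), (312, 0), (312, 2), (1407, 2), (705, 2), (705, 3), (1207, 3), (567, 2), (1020, 2), (360, 0), (360, 1), (360, 3), (89, 3), (1387, 3), (145, 3), (1301, 2), (459, 2), (1165, 3), (448, 2), (448, 3), (329, 0), (934, 2), (986, 2), (58, 0), (1298, 3), (633, 2), (272, 0), (272, 1), (466, 2), (1190, 2), (1101, 2), (1125, 2), (956, 0), (1402, 2), (589, 2), (700, 2), (1002, 0), (958, 1), (958, 3), (487, 0), (487, 3), (1195, 1), (22, 2), (734, 0), (734, 3), (1154, 2), (660, 0), (660, 3), (1019, 3), (979, 1), (207, 3), (708, 2), (921, 3), (738, 3), (1049, 1), (570, 0), (1181, 1), (310, 0)], 125⟩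

def lH3 : Lev := ⟨[[18]], 7, [(7, 0)], 2⟩

def chH : List Lev := [lH0, lH1, lH2, lH3]

theorem cH : chainB (nat_lit 11) (nat_lit 2047) tH (nat_lit 1408) chH [] = true := by decide +kernel

end Cfsg.Agent.Lib.HND
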