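import Cfsg.Agent.Lib.HNDR
import Cfsg.Agent.Lib.HNDT
import Cfsg.Agent.Lib.HNDF
import Cfsg.Agent.Lib.HNDM

set_option autoImplicit false
set_option maxRecDepth 100000

namespace Cfsg.Agent.Lib.HND
open Cfsg.Agent.Lib.PermNet Cfsg.Agent.Lib.DCE

def lK0 : Lev := ⟨[[0], [2]], 0, [], 1⟩

def lK1 : Lev := ⟨[[0], [2]], 97, [(97, 0), (97, 1), (294, 0), (294, 1), (302, 0), (302, 1), (664, 0), (664, 1), (675, 0), (675, 1), (423, 0), (423, 1), (681, 0), (681, 1), (665, 0), (665, 1), (1211, 0), (1211, 1), (755, 0), (755, 1), (802, 0), (802, 1), (860, 0), (860, 1), (147, 1), (1079, 0), (1079, 1), (686, 0), (686, 1), (418, 1), (821, 0), (821, 1), (801, 0), (801, 1), (1208, 0), (1208, 1), (1276, 0), (1276, 1), (763, 0), (763, 1), (670, 1), (653, 0), (653, 1), (650, 0), (650, 1), (696, 0), (696, 1), (420, 0), (420,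 1), (1104, 0), (1104, 1), (1332, 0), (1224, 0), (1224, 1), (684, 0), (684, 1), (861, 0), (861, 1), (365, 1), (1014, 0), (1014, 1), (358, 0), (358, 1), (912, 0), (912, 1), (1210, 0), (1210, 1), (806, 0), (806, 1), (799, 0), (799, 1), (1307, 0), (1307, 1), (885, 0), (885, 1), (644, 0), (644, 1), (678, 0), (813, 0), (813, 1), (289, 0), (289, 1), (287, 0), (287, 1), (818, 0), (818, 1), (403, 0), (403, 1), (394, 0), (394, 1), (299, 0), (299, 1), (904, 0), (904, 1), (1176, 0), (1176, 1), (1396, 0), (1222, 0), (1222, 1), (1178, 0), (1336, 0), (1218, 0), (1218, 1), (305, 0), (768, 0), (768, 1), (781, 0), (781, 1), (814, 0), (1370, 0), (1370, 1), (1367, 0), (1367, 1), (800, 1), (121, 0), (121, 1), (426, 0), (426, 1), (1240, 0), (1240, 1), (805, 0), (805, 1), (1209, 1), (914, 0), (914, 1), (357, 0), (357, 1), (389,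 0), (389, 1), (349, 0), (349, 1), (841, 0), (841, 1), (898, 0), (898, 1), (855, 0), (855, 1), (689, 1), (283, 0), (283, 1), (342, 0), (342, 1), (823, 0), (823, 1), (871, 1), (751, 0), (751, 1), (654, 0), (654, 1), (419, 0), (416, 1), (1313, 0), (1313, 1), (873, 0), (873, 1), (141, 1), (285, 0), (285, 1), (750, 0), (750, 1), (133, 0), (133, 1), (673, 1), (671, 1), (1232, 0), (1232, 1), (911, 0), (911, 1), (1290, 0), (647, 0), (647, 1), (1057, 0), (1057, 1), (1217, 0), (1217, 1), (682, 0), (1389, 1), (866, 0), (866, 1), (852, 0), (852, 1), (655, 0), (655, 1), (377, 0), (377, 1), (345, 0), (345, 1), (1279, 0), (1279, 1), (881, 1), (1089, 0), (1089, 1), (1047, 0), (1047, 1), (1001, 0), (1001, 1), (1168, 0), (1168, 1), (351, 0), (351, 1), (355, 0), (355, 1), (863, 1), (148, 1), (998, 0), (998, 1), (1120, 1),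 (359, 1), (913, 0), (913, 1), (807, 0), (807, 1), (1241, 0), (1241, 1), (425, 0), (425, 1), (122, 0), (122, 1), (803, 0), (134, 0), (796, 0), (796, 1), (1231, 0), (1231, 1), (1326, 0), (1326, 1), (897, 0), (897, 1), (787, 0), (409, 0), (846, 0), (846, 1), (1238, 0), (543, 0), (543, 1), (406, 1), (542, 1), (116, 0), (116, 1), (1015, 0), (1015, 1), (362, 0), (362, 1), (672, 0), (672, 1), (337, 0), (337, 1), (1253, 0), (301, 0), (301, 1), (896, 1), (903, 0), (903, 1), (297, 0), (297, 1), (816, 0), (816, 1), (1352, 0), (1352, 1), (886, 0), (1291, 0), (1291, 1), (407, 1), (541, 0), (541, 1), (401, 0), (401, 1), (336, 1), (1255, 1), (376, 0), (391, 0), (391, 1), (677, 0), (1219, 0), (1219, 1), (1236, 0), (1236, 1), (786, 1), (907, 0), (334, 0), (1356, 0), (1324, 1), (683, 0), (683, 1), (1223, 0), (1223, 1),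 (303, 0), (1330, 0), (1330, 1), (1287, 0), (1287, 1), (782, 0), (1333, 1), (867, 0), (905, 0), (905, 1), (295, 0), (295, 1), (849, 0), (849, 1), (765, 1), (657, 1), (1304, 1), (797, 0), (797, 1), (1397, 0), (1397, 1), (1388, 0), (1358, 1), (878, 0), (878, 1), (778, 0), (792, 1), (774, 0), (774, 1), (767, 1), (98, 1), (1368, 0), (1368, 1), (1310, 0), (1292, 0), (1292, 1), (119, 0), (427, 0), (427, 1), (1242, 0), (1242, 1), (915, 0), (350, 0), (1121, 0), (149, 0), (149, 1), (857, 1), (354, 0), (354, 1), (651, 0), (390, 0), (390, 1), (890, 0), (1062, 0), (1062, 1), (1056, 0), (1056, 1), (685, 1), (1269, 0), (1269, 1), (1353, 1), (417, 1), (777, 1), (384, 0), (142, 1), (1093, 1), (1065, 0), (1065, 1), (1064, 0), (883, 1), (1066, 0), (335, 1), (1369, 0), (1369, 1), (808, 0), (820, 0), (804, 0), (754, 0), (754,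 1), (749, 0), (749, 1), (1365, 1), (424, 0), (680, 1), (1234, 0), (909, 1), (669, 0), (674, 0), (1331, 0), (691, 0), (691, 1), (780, 1), (769, 0), (769, 1), (746, 1), (1061, 0), (1061, 1), (762, 0), (762, 1), (884, 1), (748, 0), (748, 1), (1312, 0), (1312, 1), (848, 0), (848, 1), (822, 0), (822, 1), (850, 0), (850, 1), (775, 1), (1092, 0), (388, 0), (388, 1), (791, 1), (115, 0), (1268, 0), (1268, 1), (304, 0), (667, 1), (100, 0), (1070, 1), (845, 0), (1067, 0), (1067, 1), (891, 0), (891, 1), (1226, 1), (666, 0), (666, 1), (422, 1), (847, 1), (411, 1), (1295, 1), (840, 1), (1059, 1), (1077, 0), (1156, 0), (747, 1), (789, 0), (346, 0), (378, 1), (1046, 0), (1088, 0), (1088, 1), (815, 1), (348, 0), (348, 1), (862, 1), (1000, 1), (1122, 1), (1294, 0), (1294, 1), (783, 1), (773, 1), (795, 1), (874, 0), (1327,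 0), (1327, 1), (1359, 0), (1228, 0), (757, 1), (1328, 0), (117, 0), (843, 0), (1170, 0), (1173, 1), (1394, 1), (1090, 0), (1090, 1), (875, 0), (648, 0), (648, 1), (761, 0), (1277, 1), (1171, 0), (859, 1), (1239, 0), (756, 0), (1068, 0), (379, 0), (1177, 0), (645, 1), (1172, 0), (1172, 1), (695, 0), (695, 1), (1013, 0), (364, 1), (864, 1), (1334, 0), (344, 0), (300, 0), (794, 1), (1179, 1), (402, 0), (402, 1), (1080, 1), (1309, 1), (139, 0), (139, 1), (1340, 1), (758, 0), (758, 1), (1391, 0), (1398, 1), (1308, 0), (1339, 0), (844, 0), (880, 1), (1399, 0), (812, 0), (646, 1), (877, 1), (853, 1), (343, 0), (114, 0)], 504⟩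

def lK2 : Lev := ⟨[[4], [6], [8], [10]], 15, [(15, 1), (15, 2), (15, 3), (1360, 0), (1360, 2), (1360, 3), (1259, 0), (1259, 1), (1259, 3), (982, 0), (982, 1), (982, 2), (982, 3), (1002, 1), (1002, 2), (1002, 3), (991, 0), (991, 3), (1115, 0), (1115, 1), (1115, 2), (1115, 3), (738, 1), (738, 2), (738, 3), (455, 0), (455, 2), (455, 3), (934, 2), (934, 3), (1027, 1), (1027, 2), (1027, 3), (413, 0), (413, 3), (578, 0), (578, 1), (578, 3), (956, 0), (956, 1), (956, 3), (329, 0), (329, 3), (136, 0), (136, 3), (495, 0), (495, 2), (495, 3), (950, 1), (950, 3), (1076, 2), (1076, 3), (58, 1), (58, 2), (58, 3), (1190, 0), (1190, 3), (1154, 0), (1154, 1), (227, 0), (227, 1), (227, 2), (227, 3), (623, 0), (623, 3), (469, 1), (1140, 0), (1140, 1), (1140, 2), (1152, 1), (1152, 2), (1152, 3), (958, 0), (958, 1), (621,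 0), (621, 1), (621, 3), (463, 0), (463, 3), (1387, 0), (1387, 1), (1387, 2), (22, 0), (22, 2), (22, 3), (459, 0), (459, 3), (1161, 1), (1195, 3), (975, 2), (315, 1), (315, 3), (292, 2), (292, 3), (1042, 3), (1181, 1), (324, 2), (1202, 3), (264, 2), (124, 1), (1265, 2), (1265, 3), (734, 1), (1165, 1), (928, 3), (618, 0), (618, 2), (921, 0), (921, 1), (207, 2), (721, 0), (17, 1), (638, 1), (971, 2), (475, 1), (924, 0), (924, 3), (310, 0), (310, 1), (570, 2), (1372, 3), (589, 3), (700, 2), (558, 3)], 125⟩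

def lK3 : Lev := ⟨[[4]], 7, [(7, 0)], 2⟩

def chK : List Lev := [lK0, lK1, lK2, lK3]

theorem cK : chainB (nat_lit 11) (nat_lit 2047) tK (nat_lit 1408) chK [] = true := by decide +kernel

def d0 : List Der := [.base,
  .base,
  .base,
  .base,
  .base,
  .base,
  .dfn,
  .tm 1 [] [] [⟨6, [], []⟩],
  .tm 0 [] [] [⟨6, [], [2]⟩, ⟨6, [1], []⟩],
  .tm 0 [] [] [⟨6, [], [1, 2, 0]⟩, ⟨6, [3], []⟩],
  .tm 2 [] [] [⟨6, [], [1]⟩, ⟨6, [], []⟩],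
  .tm 1 [] [] [⟨10, [], []⟩],
  .tm 3 [] [] [⟨6, [], [0, 0]⟩, ⟨6, [], []⟩],
  .tm 4 [] [] [⟨6, [1, 1], [7, 7, 8]⟩, ⟨6, [1, 2, 1], []⟩],
  .dfn,
  .tm 1 [] [] [⟨14, [], []⟩],
  .tm 0 [] [] [⟨14, [], [17, 18, 17]⟩, ⟨14, [0, 3, 0], []⟩],
  .tm 0 [] [] [⟨14, [], [17, 19, 16, 18]⟩, ⟨14, [1, 3, 0, 2], []⟩],
  .tm 2 [] [] [⟨14, [], [16, 16]⟩, ⟨13, [], []⟩],
  .tm 1 [2, 2, 1] [] [⟨18, [], []⟩],
  .tm 5 [] [] [⟨14, [], []⟩, ⟨19, [2, 0], []⟩],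
  .tm 6 [] [] [⟨14, [], []⟩, ⟨10, [], []⟩, ⟨19, [2, 0], []⟩],
  .dfn,
  .tm 1 [] [] [⟨22, [], []⟩],
  .tm 0 [] [] [⟨22, [], [16, 16, 16]⟩, ⟨22, [1, 3, 3, 3, 0], []⟩],
  .tm 0 [] [] [⟨22, [], [16, 18, 16, 18]⟩, ⟨22, [5, 1, 3, 0, 2, 0, 2, 1, 3], []⟩],
  .tm 0 [] [] [⟨22, [], [17, 18, 18]⟩, ⟨22, [5, 7, 5, 11, 1, 3, 3, 1], []⟩],
  .tm 2 [] [] [⟨22, [], [19]⟩, ⟨19, [2, 0, 2, 0, 0, 2], []⟩],
  .tm 1 [2, 0, 2, 2, 4, 8, 11, 4] [] [⟨27, [], []⟩],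
  .tm 7 [] [] [⟨22, [], [19, 16, 16]⟩, ⟨13, [2, 0, 0, 2], [18]⟩, ⟨22, [3, 0, 0, 2, 2, 2, 0, 4, 10, 8, 4], []⟩],
  .tm 6 [] [] [⟨22, [], []⟩, ⟨12, [2, 2, 0], []⟩, ⟨22, [], []⟩],
  .dfn,
  .tm 1 [] [] [⟨31, [], []⟩],
  .tm 0 [] [] [⟨31, [], [17, 19, 16, 18]⟩, ⟨31, [10, 10, 0, 3, 3, 0, 2, 2, 1], []⟩],
  .tm 0 [] [] [⟨31, [], [18, 16, 18, 16]⟩, ⟨31, [5, 7, 5, 11, 7, 0, 3, 3, 1, 2, 1, 1], []⟩],
  .tm 3 [] [] [⟨31, [], [18, 16]⟩, ⟨31, [3, 1, 3, 1, 2, 2, 1, 10, 4, 6, 4], []⟩],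
  .tm 4 [2, 0, 0, 3, 3, 0, 0, 2, 8, 4, 8, 4] [] [⟨31, [1, 3, 0, 0, 0], [16, 18, 16, 16, 16]⟩, ⟨14, [3, 1, 2, 0, 11, 8, 10], []⟩],
  .tm 1 [1, 2, 0, 0, 3, 8, 11, 11, 8] [] [⟨36, [], []⟩],
  .tm 4 [0, 2, 2, 1, 3, 1, 2, 0, 4, 8, 4, 10] [] [⟨31, [0, 3, 1, 2, 0, 0], [18, 17, 19, 16, 18, 16]⟩, ⟨22, [2, 0, 3, 4, 6, 4], []⟩],
  .tm 1 [3, 0, 0, 3, 0, 0, 8, 11, 11, 8] [] [⟨38, [], []⟩],
  .tm 4 [] [] [⟨31, [], [18, 16]⟩, ⟨19, [0, 2, 2, 0], []⟩],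
  .tm 1 [3, 1, 3, 0, 0, 11, 8, 10] [] [⟨40, [], []⟩],
  .tm 6 [] [] [⟨31, [2, 0], [16, 16]⟩, ⟨13, [0, 2, 4], [16, 19, 16]⟩, ⟨31, [2, 0, 0, 3, 0, 0, 8, 11, 4], []⟩],
  .tm 4 [0, 0, 2, 2, 2, 10, 8, 10] [] [⟨36, [0, 2, 1, 3, 3], [84, 68]⟩, ⟨36, [2, 0, 2, 2, 0, 6, 11, 11, 6, 4], []⟩],
  .tm 7 [] [] [⟨37, [], [42, 32]⟩, ⟨43, [2, 0, 2, 10, 10, 4, 6, 4], [35, 42, 32]⟩, ⟨37, [2, 0, 2, 2, 2, 1, 1, 4, 6, 11, 4], []⟩],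
  .tm 0 [] [] [⟨38, [], [67, 88]⟩, ⟨38, [5, 7, 5, 7, 11, 7, 0, 3, 1, 3, 3, 0, 0, 2], []⟩],
  .tm 8 [1, 1, 2, 2, 0, 0, 0, 11, 4, 10] [] [⟨39, [3, 0, 0, 3, 0, 0, 8, 11, 11, 8], [53, 58]⟩, ⟨38, [], []⟩],
  .tm 9 [0, 3, 1, 2, 1, 3, 0, 10, 8, 10] [] [⟨39, [1, 2, 1, 1, 3, 1, 2, 0, 11], [58, 51, 61]⟩, ⟨38, [0], []⟩],
  .tm 5 [3, 1, 3, 0, 0, 11, 8, 10] [] [⟨40, [], [88, 84]⟩, ⟨32, [2, 2, 2, 0, 0, 6, 11, 11, 4], []⟩],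
  .tm 1 [1, 1, 2, 2, 0, 0, 3, 1, 8, 11, 4, 6] [] [⟨48, [], []⟩],
  .tm 3 [2, 0, 3, 0, 8, 10, 8] [] [⟨40, [], [88, 84]⟩, ⟨35, [2, 2, 0, 0, 3, 1, 11, 8, 11], []⟩],
  .tm 1 [1, 2, 0, 2, 2, 2, 1, 8, 10, 10, 4] [] [⟨50, [], []⟩],
  .tm 10 [3, 1, 3, 3, 10, 10, 8, 4] [] [⟨51, [0, 3, 0, 0, 2, 2, 0, 10, 4, 6], [85, 89]⟩, ⟨41, [], []⟩],
  .dfn,
  .tm 1 [] [] [⟨53, [], []⟩],
  .tm 0 [] [] [⟨53, [], [18, 16, 18, 16]⟩, ⟨53, [5, 1, 3, 0, 2, 0, 2, 1, 3], []⟩],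
  .tm 0 [] [] [⟨53, [], [17, 18, 16, 16, 16, 18, 17, 17]⟩, ⟨53, [7, 11, 11, 7, 2, 1, 1, 2, 2], []⟩],
  .tm 0 [] [] [⟨53, [], [16, 19, 16, 18, 16, 19, 16, 18]⟩, ⟨53, [5, 7, 9, 1, 2, 0, 3, 0, 2, 2], []⟩],
  .tm 2 [] [] [⟨53, [], [18, 16, 19, 17, 19, 17]⟩, ⟨53, [3, 0, 2, 2, 0, 2, 8, 4, 6, 4], []⟩],
  .tm 1 [3, 0, 2, 2, 0, 2, 8, 4, 6, 4] [] [⟨58, [], []⟩],
  .tm 3 [] [] [⟨53, [], [19, 16, 16, 19, 19, 16]⟩, ⟨53, [0, 3, 3, 11, 8, 6, 10], []⟩],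
  .tm 4 [1, 3, 3, 1, 10, 10, 4, 6, 4] [] [⟨53, [2, 0, 3, 1, 1], [16, 16, 16, 19, 17, 18]⟩, ⟨49, [3, 0, 0, 2, 2, 0, 10, 6, 4, 8, 4], []⟩],
  .tm 1 [0, 0, 2, 2, 1, 6, 4, 8, 4] [] [⟨61, [], []⟩],
  .tm 4 [0, 2, 0, 3, 3, 1, 4, 10, 6] [] [⟨53, [1, 2, 0, 3, 1, 1], [18, 17, 19, 17, 18, 16, 16]⟩, ⟨31, [1, 3, 0, 0, 0, 2, 1, 6, 4, 8, 4, 6], []⟩],
  .tm 1 [2, 0, 2, 2, 2, 0, 11, 4, 8] [] [⟨63, [], []⟩],
  .tm 8 [1, 2, 0, 3, 1, 3, 0, 11, 11, 4, 6] [] [⟨62, [1, 1, 2, 0, 2, 6, 11, 4, 10, 4], [33, 34, 32, 35, 33]⟩, ⟨61, [], []⟩],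
  .tm 11 [] [] [⟨62, [2, 2, 0, 0, 0, 3, 0, 0, 6, 10, 4, 6, 4], [32, 35, 33, 33, 43, 35, 35]⟩, ⟨43, [0, 2, 0, 0, 0, 11, 8, 6], [33, 34, 32, 35, 43]⟩, ⟨61, [1, 3, 1, 1], []⟩],
  .tm 9 [0, 0, 0, 3, 3, 0, 8, 4, 6] [] [⟨62, [3, 3, 0, 0, 2, 2, 1, 4, 8, 4, 10], [35, 32, 34, 32, 42, 35]⟩, ⟨61, [2, 0, 2, 2], []⟩],
  .tm 9 [2, 2, 1, 1, 2, 10, 8, 4] [] [⟨41, [3, 3, 0, 2, 0, 0, 0, 11, 8, 6, 10, 4], [34]⟩, ⟨61, [0], []⟩],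
  .tm 1 [0, 0, 3, 1, 11, 8, 4, 6] [] [⟨68, [], []⟩],
  .tm 9 [1, 3, 3, 1, 1, 2, 10, 4, 8, 6, 4] [] [⟨62, [3, 1, 1, 2, 2, 8, 10, 4], [33, 33, 33, 35, 35, 43]⟩, ⟨61, [3, 0, 0, 0], []⟩],
  .dfn,
  .tm 1 [] [] [⟨71, [], []⟩],
  .tm 0 [] [] [⟨71, [], [90]⟩, ⟨71, [5, 11, 7, 9, 10, 1, 3, 0, 0, 2], []⟩],
  .tm 0 [] [] [⟨71, [], [49, 52, 52, 50]⟩, ⟨71, [7, 0, 3, 3, 1, 2, 1, 1], []⟩],
  .tm 2 [] [] [⟨71, [], [59, 52]⟩, ⟨39, [], []⟩],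
  .tm 1 [2, 1, 3, 0, 0, 2, 8, 6, 4, 10] [] [⟨75, [], []⟩],
  .tm 5 [] [] [⟨71, [], []⟩, ⟨39, [], []⟩],
  .tm 1 [3, 1, 3, 1, 8, 11, 6, 4] [] [⟨77, [], []⟩],
  .tm 3 [] [] [⟨71, [], [59, 52]⟩, ⟨71, [], []⟩],
  .tm 4 [] [] [⟨71, [3, 0, 2, 2], [90, 50, 52, 91, 60, 52]⟩, ⟨39, [1, 3, 0, 0, 10, 8, 4, 8, 4], []⟩],
  .tm 1 [3, 3, 0, 2, 0, 0, 0, 6, 11] [] [⟨80, [], []⟩],
  .tm 4 [2, 1] [] [⟨71, [1, 2, 2, 2], [60, 59, 53]⟩, ⟨71, [2, 0, 0, 6, 4, 11], []⟩],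
  .tm 6 [] [] [⟨71, [0, 2, 0, 0, 0], [60, 59, 52]⟩, ⟨39, [3, 3, 1, 3, 0, 2, 11, 6, 4, 10], [68, 84, 66]⟩, ⟨76, [1, 2, 1, 3, 0, 0, 0, 6, 10, 6], []⟩],
  .tm 4 [2, 0, 2, 1, 3, 3, 8, 6, 10, 4] [] [⟨71, [0, 3, 0, 0, 0], [60, 50, 53, 50]⟩, ⟨71, [0, 0, 2, 0, 3, 0, 4, 11, 11, 4], []⟩],
  .tm 4 [] [] [⟨71, [], [58]⟩, ⟨27, [3, 0, 2, 2, 2, 1, 1, 6], []⟩],
  .tm 1 [1, 2, 2, 2, 0] [] [⟨85, [], []⟩],
  .tm 9 [1, 1, 2, 2, 4, 11, 4] [] [⟨81, [3, 1, 1, 2, 0, 10, 8, 4, 8, 4], [88, 67, 89]⟩, ⟨75, [3], []⟩],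
  .tm 9 [1, 3, 3, 0, 0, 0, 6, 10, 4, 6, 4] [] [⟨68, [3, 1, 2, 2, 0, 10, 8, 4, 6, 4], [66, 88]⟩, ⟨75, [2, 0], []⟩],
  .tm 1 [0, 0, 3, 1, 2, 0, 2, 6, 10, 6] [] [⟨88, [], []⟩],
  .tm 9 [2, 0, 3, 3, 4, 10, 10, 4] [] [⟨51, [1, 2, 2, 0, 3, 0, 4, 10, 10], [89]⟩, ⟨75, [3, 1, 1], []⟩],
  .tm 1 [0, 0, 2, 11, 8, 11, 4] [] [⟨90, [], []⟩],
  .tm 9 [0, 2, 0, 3, 1, 11, 6, 8, 4] [] [⟨78, [0, 3, 1, 1, 3, 0, 10, 8], [67, 84]⟩, ⟨75, [0, 2, 2], []⟩],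
  .tm 1 [3, 1, 3, 0, 2, 6, 10, 6, 4] [] [⟨92, [], []⟩],
  .tm 9 [3, 1, 2, 2, 2, 4, 11, 11] [] [⟨64, [3, 0, 2, 1, 3, 1, 1, 10, 4, 8, 6, 4], [67, 85, 88, 67]⟩, ⟨77, [3, 0, 2, 1, 3, 3], []⟩],
  .tm 1 [0, 2, 0, 0, 2, 2, 0, 11, 6, 4, 6, 4] [] [⟨94, [], []⟩],
  .tm 9 [2, 0, 0, 3, 1, 10, 8, 11] [] [⟨35, [3, 3, 0, 0, 2, 10, 4, 10, 6], []⟩, ⟨77, [], []⟩],
  .tm 1 [3, 1, 3, 1, 2, 0, 8, 4, 10] [] [⟨96, [], []⟩],
  .tm 9 [0, 2, 1, 3, 3, 4, 6, 11, 4] [] [⟨36, [2, 0, 0, 2, 0, 3, 4, 11], [67, 67]⟩, ⟨80, [1, 2, 0, 0], []⟩],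
  .tm 1 [0, 3, 3, 8, 6, 10] [] [⟨98, [], []⟩],
  .tm 9 [0, 0, 2, 2, 10, 10, 4] [] [⟨64, [0, 0, 2, 2, 1, 11, 4, 11, 6], [67, 88, 66, 89]⟩, ⟨80, [0, 3, 1, 1], []⟩],
  .tm 1 [1, 1, 3, 0, 2, 2, 0, 8, 10, 4] [] [⟨100, [], []⟩],
  .tm 9 [2, 0, 0, 3, 4, 8, 4, 6] [] [⟨81, [0, 0, 0, 2, 0, 3, 1, 11, 4, 11], [85, 88, 67, 89]⟩, ⟨80, [0, 2, 2, 2], []⟩],
  .tm 1 [2, 2, 0, 3, 0, 0, 0, 11, 6, 11] [] [⟨102, [], []⟩],
  .tm 4 [0, 3, 3, 1, 2, 2, 0, 8, 6, 4] [] [⟨80, [1, 2, 2, 2], [167, 148, 167, 146]⟩, ⟨103, [2, 0, 4, 6, 10, 4], []⟩],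
  .tm 1 [1, 2, 1, 1, 2, 2, 4, 8, 4, 10, 4] [] [⟨104, [], []⟩],
  .tm 9 [3, 0, 0, 0, 3, 0, 0, 10, 10, 8] [] [⟨81, [0, 2, 2, 1, 1, 2, 0, 6, 8, 11, 6, 4], [67, 67, 84, 67]⟩, ⟨80, [0, 2, 0, 0, 0], []⟩],
  .tm 1 [1, 3, 3, 1, 11, 6, 11, 6, 4] [] [⟨106, [], []⟩],
  .tm 9 [1, 3, 0, 0, 0, 8, 10, 4, 6, 4] [] [⟨68, [3, 3, 1, 2, 1, 3, 0, 10, 6, 4, 8, 4], [67, 67, 85]⟩, ⟨80, [2, 0], []⟩],
  .tm 1 [3, 1, 2, 2, 2, 1, 11] [] [⟨108, [], []⟩],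
  .tm 9 [0, 3, 1, 1, 3, 0, 11, 11, 8, 4, 6, 4] [] [⟨95, [3, 0, 0, 3, 3, 1, 4, 8, 4, 6, 4], [147, 166, 149]⟩, ⟨84, [2, 1, 3, 0, 2, 2], []⟩],
  .tm 1 [3, 0, 2, 0, 0, 0, 2, 6, 4, 8, 4, 6, 4] [] [⟨110, [], []⟩],
  .tm 10 [2, 2, 0, 3, 3, 0, 6, 11, 11, 6, 4] [] [⟨90, [2, 2, 1, 3, 0, 11, 11, 8, 4], [33, 33, 34, 42]⟩, ⟨85, [], []⟩],
  .tm 4 [2, 1, 3, 0, 0, 0, 11, 8, 11] [] [⟨87, [3, 0, 2, 2], [166, 149]⟩, ⟨106, [1, 1, 2, 0, 2, 2, 0, 11, 4, 6], []⟩],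
  .dfn,
  .tm 1 [] [] [⟨114, [], []⟩],
  .tm 0 [] [] [⟨114, [], [148, 146, 146]⟩, ⟨114, [3, 3, 3], []⟩],
  .tm 0 [] [] [⟨114, [], [147, 148, 146]⟩, ⟨114, [5, 9, 11, 5, 10, 2, 2, 0, 3, 1, 3], []⟩],
  .tm 0 [] [] [⟨114, [], [149, 146, 148]⟩, ⟨114, [9, 11, 5, 0, 0, 3, 3, 0, 0, 2, 0], []⟩],
  .tm 12 [] [] [⟨114, [], [148]⟩, ⟨92, [0, 0, 3, 3, 0, 0, 0, 11, 11, 8, 6, 4], [146]⟩, ⟨114, [2, 1, 1, 2, 1, 8, 10, 10, 8, 4], []⟩],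
  .tm 6 [] [] [⟨114, [2, 0, 3, 1, 1], [167, 146, 166]⟩, ⟨106, [0, 2, 2, 0, 2, 6, 4, 8, 4, 6], [147]⟩, ⟨114, [2, 0, 2, 2, 2, 8, 4, 6, 8, 4], []⟩],
  .tm 4 [] [] [⟨114, [0, 3, 1, 1], [167]⟩, ⟨114, [2, 2, 0, 2, 2, 0, 6, 4, 6, 4], []⟩],
  .dfn,
  .tm 1 [] [] [⟨122, [], []⟩],
  .tm 0 [] [] [⟨122, [], [67, 68, 66]⟩, ⟨122, [5, 1, 3, 0, 2, 0, 2, 1, 3], []⟩],
  .tm 0 [] [] [⟨122, [], [67, 88, 66, 68, 67]⟩, ⟨122, [5, 10, 7, 3, 3, 1, 2], []⟩],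
  .tm 2 [] [] [⟨122, [], [68, 66, 68, 66]⟩, ⟨81, [1, 2, 1, 1, 3, 1, 2, 0, 11, 8, 4, 6], []⟩],
  .tm 1 [2, 0, 0, 0, 3, 0, 0, 4, 11, 6, 4] [] [⟨126, [], []⟩],
  .tm 5 [] [] [⟨122, [], [84, 68, 85, 67]⟩, ⟨81, [2, 2, 0, 2, 2, 10, 6, 8, 4], []⟩],
  .tm 1 [0, 0, 3, 0, 0, 2, 2, 0, 8, 11, 11, 8] [] [⟨128, [], []⟩],
  .tm 3 [] [] [⟨122, [], [68, 66, 88, 66, 66]⟩, ⟨122, [0, 6, 10, 8, 4], []⟩],
  .tm 4 [] [] [⟨122, [0, 3, 1, 1], [85, 68, 66, 68, 66]⟩, ⟨81, [1, 1, 2, 1, 6, 11, 11, 8], []⟩],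
  .tm 1 [1, 2, 1, 1, 3, 1, 8, 10, 10, 8, 4] [] [⟨131, [], []⟩],
  .tm 6 [] [] [⟨122, [1, 3, 1, 1], [85, 67, 68, 66]⟩, ⟨81, [0, 2, 6, 4, 10, 8, 4], [166, 149, 146]⟩, ⟨129, [1, 2, 0, 2, 2, 2, 0, 10, 8, 10, 6], []⟩],
  .tm 4 [3, 1, 1, 3, 3, 1, 3, 0, 6, 10, 8, 6] [] [⟨122, [2, 1, 3, 3], [88, 66, 85, 67]⟩, ⟨122, [0, 0, 0, 2, 2, 2, 11, 4, 6, 11, 4], []⟩],
  .tm 4 [2, 0, 0, 3, 3, 0, 0, 2, 8, 4, 8, 4] [] [⟨122, [1, 3, 0, 0, 0], [67, 89, 84]⟩, ⟨68, [2, 0, 0, 3, 3, 6, 4, 8, 4, 6, 4], []⟩],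
  .tm 1 [3, 0, 2, 1, 3, 1, 1, 8, 6, 10, 4] [] [⟨135, [], []⟩]]

theorem fc0 : checkL (nat_lit 11) (nat_lit 2047) tH tK tK' BB FF TM XW d0 (nat_lit 0) = true := by decide +kernel

theorem cv0_1_0 : covB FF nets (nat_lit 2816) (nat_lit 12) (nat_lit 12) (nat_lit 1408) (nat_lit 137) (nat_lit 0) (nat_lit 1) [0, 1, 2, 3, 4, 5] [[0], [2], [4], [6], [8], [10]]
    [6] [5, 4, 3, 5, 4, 1, 0, 5, 3, 4, 0, 5, 3, 2, 5] k0_1 = true := by decide +kernel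

theorem rw0 : rowB (nat_lit 2816) (ivl (nat_lit 1408) ((nat_lit 2816) - (nat_lit 1408))) row0 [0, 1408, 0, 0, 0, 0, 0, 0, 0] 0 = true := by decide +kernel

theorem cv1_0_0 : covB FF nets (nat_lit 2816) (nat_lit 12) (nat_lit 12) (nat_lit 1408) (nat_lit 137) (nat_lit 1) (nat_lit 0) [8, 9] [[2], [12]]
    [7] [] k1_0 = true := by decide +kernel

theorem cv1_1_0 : covB FF nets (nat_lit 2816) (nat_lit 12) (nat_lit 12) (nat_lit 1408) (nat_lit 137) (nat_lit 1) (nat_lit 1) [8, 9] [[2], [12]]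
    [11, 10, 13, 12] [1, 0, 1, 0, 1, 0, 1, 0, 1, 0, 1] k1_1 = true := by decide +kernel

theorem cv1_2_0 : covB FF nets (nat_lit 2816) (nat_lit 12) (nat_lit 12) (nat_lit 1408) (nat_lit 137) (nat_lit 1) (nat_lit 2) [8, 9] [[2], [12]]
    [14, 19, 49] [1, 0, 1, 0, 1, 0, 1, 0, 1, 0, 1, 0, 1, 0, 1, 0, 1, 1, 0] k1_2 = true := by decide +kernel

theorem cv1_3_0 : covB FF nets (nat_lit 2816) (nat_lit 12) (nat_lit 12) (nat_lit 1408) (nat_lit 137) (nat_lit 1) (nat_lit 3) [8, 9] [[2], [12]]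
    [22] [1, 0, 1, 0, 1, 0, 1, 0, 1, 1, 0, 0] k1_3 = true := by decide +kernel

theorem cv1_4_0 : covB FF nets (nat_lit 2816) (nat_lit 12) (nat_lit 12) (nat_lit 1408) (nat_lit 137) (nat_lit 1) (nat_lit 4) [8, 9] [[2], [12]]
    [31] [1, 0, 1, 0, 1, 0, 1, 0, 1, 0, 1, 0, 1, 0, 1, 0, 1, 1, 0] k1_4 = true := by decide +kernel

theorem cv1_5_0 : covB FF nets (nat_lit 2816) (nat_lit 12) (nat_lit 12) (nat_lit 1408) (nat_lit 137) (nat_lit 1) (nat_lit 5) [8, 9] [[2], [12]]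
    [53] [1, 0, 1, 0, 1, 0, 1, 0, 1, 0, 1, 0, 1, 0, 1, 0, 1] k1_5 = true := by decide +kernel

theorem rw1 : rowB (nat_lit 2816) (ivl (nat_lit 1408) ((nat_lit 2816) - (nat_lit 1408))) row1 [1, 53, 450, 50, 350, 504, 0, 0, 0] 0 = true := by decide +kernel

theorem cv2_1_0 : covB FF nets (nat_lit 2816) (nat_lit 12) (nat_lit 12) (nat_lit 1408) (nat_lit 137) (nat_lit 2) (nat_lit 1) [16, 17, 21] [[16, 15, 2, 22], [16, 12, 2], [11, 15, 2, 22]]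
    [15, 18, 48] [2, 0, 1, 1, 0, 1] k2_1 = true := by decide +kernel

theorem cv2_2_0 : covB FF nets (nat_lit 2816) (nat_lit 12) (nat_lit 12) (nat_lit 1408) (nat_lit 137) (nat_lit 2) (nat_lit 2) [16, 17, 21] [[16, 15, 2, 22], [16, 12, 2], [11, 15, 2, 22]]
    [20, 43, 52] [2, 1, 0, 1, 2, 1, 0, 1, 2, 1] k2_2 = true := by decide +kernel

theorem cv2_3_0 : covB FF nets (nat_lit 2816) (nat_lit 12) (nat_lit 12) (nat_lit 1408) (nat_lit 137) (nat_lit 2) (nat_lit 3) [16, 17, 21] [[16, 15, 2, 22], [16, 12, 2], [11, 15, 2, 22]]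
    [28] [2] k2_3 = true := by decide +kernel

theorem cv2_4_0 : covB FF nets (nat_lit 2816) (nat_lit 12) (nat_lit 12) (nat_lit 1408) (nat_lit 137) (nat_lit 2) (nat_lit 4) [16, 17, 21] [[16, 15, 2, 22], [16, 12, 2], [11, 15, 2, 22]]
    [37, 50, 41] [1, 2, 0, 1, 2, 1, 0, 1, 1, 1] k2_4 = true := by decide +kernel

theorem cv2_5_0 : covB FF nets (nat_lit 2816) (nat_lit 12) (nat_lit 12) (nat_lit 1408) (nat_lit 137) (nat_lit 2) (nat_lit 5) [16, 17, 21] [[16, 15, 2, 22], [16, 12, 2], [11, 15, 2, 22]]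
    [62] [1, 2, 1, 0, 1, 2, 1, 0, 1, 2, 1, 0, 1, 2, 1] k2_5 = true := by decide +kernel

theorem cv2_6_0 : covB FF nets (nat_lit 2816) (nat_lit 12) (nat_lit 12) (nat_lit 1408) (nat_lit 137) (nat_lit 2) (nat_lit 6) [16, 17, 21] [[16, 15, 2, 22], [16, 12, 2], [11, 15, 2, 22]]
    [86, 90, 98] [1, 2, 1, 0, 1, 2, 1, 0, 1, 2, 1, 0, 1, 2, 1] k2_6 = true := by decide +kernel

theorem rw2 : rowB (nat_lit 2816) (ivl (nat_lit 1408) ((nat_lit 2816) - (nat_lit 1408))) row2 [0, 18, 100, 2, 112, 504, 672, 0, 0] 0 = true := by decide +kernel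

theorem cv3_1_0 : covB FF nets (nat_lit 2816) (nat_lit 12) (nat_lit 12) (nat_lit 1408) (nat_lit 137) (nat_lit 3) (nat_lit 1) [24, 25, 26, 29, 30, 45] [[15, 2, 14, 3, 25, 25, 20], [2, 15, 12, 15, 24], [17, 12, 2, 25, 18, 22], [0, 0, 17, 12, 2, 25, 18, 22], [11, 1, 12, 2], [3, 4, 8, 17, 20, 22, 24, 22, 21]]
    [23] [4, 3, 5, 1, 2, 1, 2] k3_1 = true := by decide +kernel

theorem cv3_2_0 : covB FF nets (nat_lit 2816) (nat_lit 12) (nat_lit 12) (nat_lit 1408) (nat_lit 137) (nat_lit 3) (nat_lit 2) [24, 25, 26, 29, 30, 45] [[15, 2, 14, 3, 25, 25, 20], [2, 15, 12, 15, 24], [17, 12, 2, 25, 18, 22], [0, 0, 17, 12, 2, 25, 18, 22], [11, 1, 12, 2], [3, 4, 8, 17, 20, 22, 24, 22, 21]]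
    [27] [4, 3, 5, 1, 2, 1, 2] k3_2 = true := by decide +kernel

theorem cv3_4_0 : covB FF nets (nat_lit 2816) (nat_lit 12) (nat_lit 12) (nat_lit 1408) (nat_lit 137) (nat_lit 3) (nat_lit 4) [24, 25, 26, 29, 30, 45] [[15, 2, 14, 3, 25, 25, 20], [2, 15, 12, 15, 24], [17, 12, 2, 25, 18, 22], [0, 0, 17, 12, 2, 25, 18, 22], [11, 1, 12, 2], [3, 4, 8, 17, 20, 22, 24, 22, 21]]
    [39] [4, 1, 2, 3, 1, 5, 2, 1, 0, 2, 1, 2, 2, 1] k3_4 = true := by decide +kernel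

theorem cv3_6_0 : covB FF nets (nat_lit 2816) (nat_lit 12) (nat_lit 12) (nat_lit 1408) (nat_lit 137) (nat_lit 3) (nat_lit 6) [24, 25, 26, 29, 30, 45] [[15, 2, 14, 3, 25, 25, 20], [2, 15, 12, 15, 24], [17, 12, 2, 25, 18, 22], [0, 0, 17, 12, 2, 25, 18, 22], [11, 1, 12, 2], [3, 4, 8, 17, 20, 22, 24, 22, 21]]
    [71] [4, 1, 2, 3, 1, 5, 2, 1, 0, 2, 1, 2, 2, 1] k3_6 = true := by decide +kernel

theorem rw3 : rowB (nat_lit 2816) (ivl (nat_lit 1408) ((nat_lit 2816) - (nat_lit 1408))) row3 [0, 32, 32, 0, 672, 0, 672, 0, 0] 0 = true := by decide +kernel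

theorem cv4_1_0 : covB FF nets (nat_lit 2816) (nat_lit 12) (nat_lit 12) (nat_lit 1408) (nat_lit 137) (nat_lit 4) (nat_lit 1) [33, 34, 42, 44] [[2, 16, 14, 13, 25, 22, 21, 18], [16, 14, 2, 15, 24, 22, 20, 20], [10, 1, 15, 16, 15, 2, 21, 18], [4, 10, 12, 2, 13, 13, 20, 20, 22]]
    [32] [2, 3] k4_1 = true := by decide +kernel

theorem cv4_2_0 : covB FF nets (nat_lit 2816) (nat_lit 12) (nat_lit 12) (nat_lit 1408) (nat_lit 137) (nat_lit 4) (nat_lit 2) [33, 34, 42, 44] [[2, 16, 14, 13, 25, 22, 21, 18], [16, 14, 2, 15, 24, 22, 20, 20], [10, 1, 15, 16, 15, 2, 21, 18], [4, 10, 12, 2, 13, 13, 20, 20, 22]]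
    [36, 40, 51] [2, 3, 1, 0, 0, 1] k4_2 = true := by decide +kernel

theorem cv4_3_0 : covB FF nets (nat_lit 2816) (nat_lit 12) (nat_lit 12) (nat_lit 1408) (nat_lit 137) (nat_lit 4) (nat_lit 3) [33, 34, 42, 44] [[2, 16, 14, 13, 25, 22, 21, 18], [16, 14, 2, 15, 24, 22, 20, 20], [10, 1, 15, 16, 15, 2, 21, 18], [4, 10, 12, 2, 13, 13, 20, 20, 22]]
    [38] [2, 1, 0, 2, 1] k4_3 = true := by decide +kernel

theorem cv4_4_0 : covB FF nets (nat_lit 2816) (nat_lit 12) (nat_lit 12) (nat_lit 1408) (nat_lit 137) (nat_lit 4) (nat_lit 4) [33, 34, 42, 44] [[2, 16, 14, 13, 25, 22, 21, 18], [16, 14, 2, 15, 24, 22, 20, 20], [10, 1, 15, 16, 15, 2, 21, 18], [4, 10, 12, 2, 13, 13, 20, 20, 22]]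
    [35, 47, 46] [2, 3, 0, 1, 2, 0, 1, 0, 2, 0, 2] k4_4 = true := by decide +kernel

theorem cv4_5_0 : covB FF nets (nat_lit 2816) (nat_lit 12) (nat_lit 12) (nat_lit 1408) (nat_lit 137) (nat_lit 4) (nat_lit 5) [33, 34, 42, 44] [[2, 16, 14, 13, 25, 22, 21, 18], [16, 14, 2, 15, 24, 22, 20, 20], [10, 1, 15, 16, 15, 2, 21, 18], [4, 10, 12, 2, 13, 13, 20, 20, 22]]
    [64, 68] [2, 0, 3, 2, 0, 1, 2, 0, 1, 0, 1] k4_5 = true := by decide +kernel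

theorem cv4_6_0 : covB FF nets (nat_lit 2816) (nat_lit 12) (nat_lit 12) (nat_lit 1408) (nat_lit 137) (nat_lit 4) (nat_lit 6) [33, 34, 42, 44] [[2, 16, 14, 13, 25, 22, 21, 18], [16, 14, 2, 15, 24, 22, 20, 20], [10, 1, 15, 16, 15, 2, 21, 18], [4, 10, 12, 2, 13, 13, 20, 20, 22]]
    [104, 76, 81, 96, 78] [2, 1, 0, 3, 2, 0, 1, 2, 0, 3, 2, 1] k4_6 = true := by decide +kernel

theorem cv4_8_0 : covB FF nets (nat_lit 2816) (nat_lit 12) (nat_lit 12) (nat_lit 1408) (nat_lit 137) (nat_lit 4) (nat_lit 8) [33, 34, 42, 44] [[2, 16, 14, 13, 25, 22, 21, 18], [16, 14, 2, 15, 24, 22, 20, 20], [10, 1, 15, 16, 15, 2, 21, 18], [4, 10, 12, 2, 13, 13, 20, 20, 22]]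
    [122] [2, 1, 0, 3, 2, 1, 0, 2, 1, 0, 2, 2] k4_8 = true := by decide +kernel

theorem rw4 : rowB (nat_lit 2816) (ivl (nat_lit 1408) ((nat_lit 2816) - (nat_lit 1408))) row4 [0, 4, 32, 12, 160, 288, 552, 0, 360] 0 = true := by decide +kernel

theorem cv5_1_0 : covB FF nets (nat_lit 2816) (nat_lit 12) (nat_lit 12) (nat_lit 1408) (nat_lit 137) (nat_lit 5) (nat_lit 1) [55, 56, 57, 66] [[2, 15, 12, 15, 24], [13, 14, 13, 22, 20, 20, 18], [3, 13, 14, 25, 22, 25, 22, 18], [11, 9, 10, 15, 12, 12, 2, 18, 22, 24, 18]]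
    [54] [3] k5_1 = true := by decide +kernel

theorem cv5_2_0 : covB FF nets (nat_lit 2816) (nat_lit 12) (nat_lit 12) (nat_lit 1408) (nat_lit 137) (nat_lit 5) (nat_lit 2) [55, 56, 57, 66] [[2, 15, 12, 15, 24], [13, 14, 13, 22, 20, 20, 18], [3, 13, 14, 25, 22, 25, 22, 18], [11, 9, 10, 15, 12, 12, 2, 18, 22, 24, 18]]
    [61] [0, 1, 2, 3, 0, 1, 0, 2, 0, 1] k5_2 = true := by decide +kernel

theorem cv5_4_0 : covB FF nets (nat_lit 2816) (nat_lit 12) (nat_lit 12) (nat_lit 1408) (nat_lit 137) (nat_lit 5) (nat_lit 4) [55, 56, 57, 66] [[2, 15, 12, 15, 24], [13, 14, 13, 22, 20, 20, 18], [3, 13, 14, 25, 22, 25, 22, 18], [11, 9, 10, 15, 12, 12, 2, 18, 22, 24, 18]]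
    [63, 69] [0, 1, 2, 0, 3, 1, 0, 2, 0] k5_4 = true := by decide +kernel

theorem cv5_5_0 : covB FF nets (nat_lit 2816) (nat_lit 12) (nat_lit 12) (nat_lit 1408) (nat_lit 137) (nat_lit 5) (nat_lit 5) [55, 56, 57, 66] [[2, 15, 12, 15, 24], [13, 14, 13, 22, 20, 20, 18], [3, 13, 14, 25, 22, 25, 22, 18], [11, 9, 10, 15, 12, 12, 2, 18, 22, 24, 18]]
    [58, 59, 60, 65, 70, 67] [0, 1, 3, 2, 0, 1, 0, 2, 0, 1, 0, 1, 0] k5_5 = true := by decide +kernel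

theorem cv5_6_0 : covB FF nets (nat_lit 2816) (nat_lit 12) (nat_lit 12) (nat_lit 1408) (nat_lit 137) (nat_lit 5) (nat_lit 6) [55, 56, 57, 66] [[2, 15, 12, 15, 24], [13, 14, 13, 22, 20, 20, 18], [3, 13, 14, 25, 22, 25, 22, 18], [11, 9, 10, 15, 12, 12, 2, 18, 22, 24, 18]]
    [88, 94, 110, 108, 100] [0, 1, 2, 0, 3, 1, 0, 2, 0, 1, 0, 1, 0, 2] k5_6 = true := by decide +kernel

theorem cv5_8_0 : covB FF nets (nat_lit 2816) (nat_lit 12) (nat_lit 12) (nat_lit 1408) (nat_lit 137) (nat_lit 5) (nat_lit 8) [55, 56, 57, 66] [[2, 15, 12, 15, 24], [13, 14, 13, 22, 20, 20, 18], [3, 13, 14, 25, 22, 25, 22, 18], [11, 9, 10, 15, 12, 12, 2, 18, 22, 24, 18]]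
    [136] [0, 1, 0, 2, 3, 0, 1, 2, 0, 1, 0, 2, 0] k5_8 = true := by decide +kernel

theorem rw5 : rowB (nat_lit 2816) (ivl (nat_lit 1408) ((nat_lit 2816) - (nat_lit 1408))) row5 [0, 2, 50, 0, 100, 356, 650, 0, 250] 0 = true := by decide +kernel

theorem cv6_2_0 : covB FF nets (nat_lit 2816) (nat_lit 12) (nat_lit 12) (nat_lit 1408) (nat_lit 137) (nat_lit 6) (nat_lit 2) [73, 74, 83] [[3, 14, 17, 22, 24, 22, 20, 20], [16, 14, 2, 15, 18, 24, 18], [11, 7, 11, 8, 0, 16, 15, 2, 2, 21, 18, 22, 24, 22, 18]]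
    [85, 91, 99] [0, 2, 1, 1, 0, 1] k6_2 = true := by decide +kernel

theorem cv6_3_0 : covB FF nets (nat_lit 2816) (nat_lit 12) (nat_lit 12) (nat_lit 1408) (nat_lit 137) (nat_lit 6) (nat_lit 3) [73, 74, 83] [[3, 14, 17, 22, 24, 22, 20, 20], [16, 14, 2, 15, 18, 24, 18], [11, 7, 11, 8, 0, 16, 15, 2, 2, 21, 18, 22, 24, 22, 18]]
    [72] [2] k6_3 = true := by decide +kernel

theorem cv6_4_0 : covB FF nets (nat_lit 2816) (nat_lit 12) (nat_lit 12) (nat_lit 1408) (nat_lit 137) (nat_lit 6) (nat_lit 4) [73, 74, 83] [[3, 14, 17, 22, 24, 22, 20, 20], [16, 14, 2, 15, 18, 24, 18], [11, 7, 11, 8, 0, 16, 15, 2, 2, 21, 18, 22, 24, 22, 18]]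
    [75, 77, 80, 97, 105] [0, 1, 2, 1, 0, 1, 2, 1, 1] k6_4 = true := by decide +kernel

theorem cv6_5_0 : covB FF nets (nat_lit 2816) (nat_lit 12) (nat_lit 12) (nat_lit 1408) (nat_lit 137) (nat_lit 6) (nat_lit 5) [73, 74, 83] [[3, 14, 17, 22, 24, 22, 20, 20], [16, 14, 2, 15, 18, 24, 18], [11, 7, 11, 8, 0, 16, 15, 2, 2, 21, 18, 22, 24, 22, 18]]
    [95, 109, 101, 89, 111] [1, 0, 1, 2, 1, 0, 1, 0, 1, 0, 2, 1] k6_5 = true := by decide +kernel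

theorem cv6_6_0 : covB FF nets (nat_lit 2816) (nat_lit 12) (nat_lit 12) (nat_lit 1408) (nat_lit 137) (nat_lit 6) (nat_lit 6) [73, 74, 83] [[3, 14, 17, 22, 24, 22, 20, 20], [16, 14, 2, 15, 18, 24, 18], [11, 7, 11, 8, 0, 16, 15, 2, 2, 21, 18, 22, 24, 22, 18]]
    [79, 82, 87, 84, 107, 113, 106, 103, 112, 92, 102, 93] [0, 1, 0, 1, 2, 0, 1, 0, 1, 0, 1, 0, 1] k6_6 = true := by decide +kernel

theorem cv6_7_0 : covB FF nets (nat_lit 2816) (nat_lit 12) (nat_lit 12) (nat_lit 1408) (nat_lit 137) (nat_lit 6) (nat_lit 7) [73, 74, 83] [[3, 14, 17, 22, 24, 22, 20, 20], [16, 14, 2, 15, 18, 24, 18], [11, 7, 11, 8, 0, 16, 15, 2, 2, 21, 18, 22, 24, 22, 18]]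
    [114] [1, 0, 2, 1, 0] k6_7 = true := by decide +kernel

theorem cv6_8_0 : covB FF nets (nat_lit 2816) (nat_lit 12) (nat_lit 12) (nat_lit 1408) (nat_lit 137) (nat_lit 6) (nat_lit 8) [73, 74, 83] [[3, 14, 17, 22, 24, 22, 20, 20], [16, 14, 2, 15, 18, 24, 18], [11, 7, 11, 8, 0, 16, 15, 2, 2, 21, 18, 22, 24, 22, 18]]
    [129, 127, 132] [1, 0, 1, 2, 1, 0, 1, 0, 1, 0, 1, 2] k6_8 = true := by decide +kernel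

theorem rw6 : rowB (nat_lit 2816) (ivl (nat_lit 1408) ((nat_lit 2816) - (nat_lit 1408))) row6 [0, 0, 32, 2, 92, 312, 720, 10, 240] 0 = true := by decide +kernel

theorem cv7_6_0 : covB FF nets (nat_lit 2816) (nat_lit 12) (nat_lit 12) (nat_lit 1408) (nat_lit 137) (nat_lit 7) (nat_lit 6) [116, 117, 118, 119, 120] [[12, 12, 12], [15, 13, 13, 2, 21], [16, 14, 14, 12, 22, 18, 22], [1, 16, 3, 12, 12, 21, 18], [8, 8, 7, 10, 14, 13, 15, 12, 21, 18, 22, 18, 22]]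
    [115] [3, 4, 0, 1, 0, 3, 2, 4, 0, 1, 3, 0, 4, 0, 1, 3, 3, 4] k7_6 = true := by decide +kernel

theorem cv7_7_0 : covB FF nets (nat_lit 2816) (nat_lit 12) (nat_lit 12) (nat_lit 1408) (nat_lit 137) (nat_lit 7) (nat_lit 7) [116, 117, 118, 119, 120] [[12, 12, 12], [15, 13, 13, 2, 21], [16, 14, 14, 12, 22, 18, 22], [1, 16, 3, 12, 12, 21, 18], [8, 8, 7, 10, 14, 13, 15, 12, 21, 18, 22, 18, 22]]
    [121] [0, 3, 2, 4, 0, 3, 2, 4, 1, 1, 0] k7_7 = true := by decide +kernel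

theorem rw7 : rowB (nat_lit 2816) (ivl (nat_lit 1408) ((nat_lit 2816) - (nat_lit 1408))) row7 [0, 0, 0, 0, 0, 0, 1280, 128, 0] 0 = true := by decide +kernel

theorem cv8_4_0 : covB FF nets (nat_lit 2816) (nat_lit 12) (nat_lit 12) (nat_lit 1408) (nat_lit 137) (nat_lit 8) (nat_lit 4) [124, 125, 133] [[2, 15, 12, 15, 24], [13, 17, 12, 22, 18, 22, 20, 18], [11, 0, 3, 9, 4, 13, 2, 14, 25, 25, 21, 21, 18]]
    [123] [2, 0, 2, 0, 2, 0, 2, 0, 2, 2, 0, 2, 2, 2, 2, 2, 2, 2, 2, 2] k8_4 = true := by decide +kernel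

theorem cv8_5_0 : covB FF nets (nat_lit 2816) (nat_lit 12) (nat_lit 12) (nat_lit 1408) (nat_lit 137) (nat_lit 8) (nat_lit 5) [124, 125, 133] [[2, 15, 12, 15, 24], [13, 17, 12, 22, 18, 22, 20, 18], [11, 0, 3, 9, 4, 13, 2, 14, 25, 25, 21, 21, 18]]
    [135] [0, 1, 2, 0, 2, 0, 2, 0, 2, 2, 0, 2, 2, 2, 2, 2, 2, 2, 2, 2] k8_5 = true := by decide +kernel

theorem cv8_6_0 : covB FF nets (nat_lit 2816) (nat_lit 12) (nat_lit 12) (nat_lit 1408) (nat_lit 137) (nat_lit 8) (nat_lit 6) [124, 125, 133] [[2, 15, 12, 15, 24], [13, 17, 12, 22, 18, 22, 20, 18], [11, 0, 3, 9, 4, 13, 2, 14, 25, 25, 21, 21, 18]]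
    [126, 128, 131] [2, 0, 2, 0, 1, 2, 0, 2, 0, 2, 2, 0, 2, 2, 2, 2, 2, 2, 2, 2, 2] k8_6 = true := by decide +kernel

theorem cv8_8_0 : covB FF nets (nat_lit 2816) (nat_lit 12) (nat_lit 12) (nat_lit 1408) (nat_lit 137) (nat_lit 8) (nat_lit 8) [124, 125, 133] [[2, 15, 12, 15, 24], [13, 17, 12, 22, 18, 22, 20, 18], [11, 0, 3, 9, 4, 13, 2, 14, 25, 25, 21, 21, 18]]
    [130, 134] [0, 1, 2, 0, 2, 0, 2, 0, 2, 0, 2, 2, 0, 2, 2, 2, 2, 2, 2, 2, 2, 2] k8_8 = true := by decide +kernel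

theorem rw8 : rowB (nat_lit 2816) (ivl (nat_lit 1408) ((nat_lit 2816) - (nat_lit 1408))) row8 [0, 0, 0, 0, 160, 320, 640, 0, 288] 0 = true := by decide +kernel

end Cfsg.Agent.Lib.HND
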