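import Cfsg.Agent.Lib.DCE2
import Cfsg.Agent.Lib.HNDC0
import Cfsg.Agent.Lib.HNDE0
import Cfsg.Agent.Lib.HNDE1

set_option autoImplicit false
set_option maxRecDepth 100000

namespace Cfsg.Agent.Lib.HND
open Cfsg.Agent.Lib.PermNet Cfsg.Agent.Lib.DCE

open Cfsg.Agent.Lib.Words Cfsg.Agent.Lib.PermGroup

/-- Relators of the subgroup. -/
def K1 : List (List ℕ) := [[2, 2, 2, 2, 2, 2], [0, 0, 2, 0, 0, 3], [1, 3, 0, 2, 1, 3, 0, 2, 1, 3, 0, 2], [1, 2, 2, 0, 2, 2, 2, 1, 2, 2, 0, 2, 2, 2, 1, 2, 2, 0, 2, 2, 2], [0, 2, 0, 2, 0, 2, 0, 2, 0, 2, 0, 2, 0, 2, 0, 2], [0, 2, 0, 2, 2, 2, 0, 2, 0, 2, 2, 2, 0, 2, 0, 2, 2, 2, 0, 2, 0, 2, 2, 2], [4, 4], [4, 0, 4, 0], [5, 2, 1, 3, 3, 1, 3, 1, 3, 4, 2, 0, 2, 0, 2, 2, 0, 3, 1, 1], [4, 3, 1, 3, 1, 3, 3, 3, 4, 2, 2, 2, 0, 2, 0, 2, 0, 3, 1, 3, 1, 3, 3, 3, 4, 2, 2, 2, 0, 2, 0, 2, 0, 3, 1, 3, 1, 3, 3, 3, 4, 2, 2, 2, 0, 2, 0, 2, 0]]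

def I1 : List ℕ := [2]

/-- Further relations in the subgroup. -/
def X : List (List ℕ) := [[1, 2, 5, 3, 5, 3, 3, 1, 2, 5, 3, 3, 1, 4, 1, 2, 5, 3, 5, 3, 3, 1, 2, 5, 3, 3, 1, 4, 1, 2, 5, 3, 5, 3, 3, 1, 2, 5, 3, 3, 1, 4, 1, 2, 5, 3, 5, 3, 3, 1, 2, 5, 3, 3, 1, 4, 1, 2, 5, 3, 5, 3, 3, 1, 2, 5, 3, 3, 1, 4, 1, 2, 5, 3, 5, 3, 3, 1, 2, 5, 3, 3, 1, 4, 1, 2, 5, 3, 5, 3, 3, 1, 2, 5, 3, 3, 1, 4], [0, 2, 0, 2, 0, 3, 0, 3, 0, 2, 0, 2, 0, 3, 0, 3, 0, 2, 0, 2, 0, 3, 0, 3, 0, 2, 0, 2, 0, 3, 0, 3]]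

/-- Relators that involve the extra generator. -/
def RR : List (List ℕ) := [[2, 6, 3, 7], [1, 2, 0, 6, 1, 3, 0, 7], [1, 1, 6, 0, 0, 6], [1, 6, 0, 6, 6], [4, 6, 4, 6, 4, 6]]

noncomputable def dat : Dat where
  N := (nat_lit 2816)
  K := (nat_lit 12)
  nS := (nat_lit 1408)
  KS := (nat_lit 11)
  wb := (nat_lit 11)
  mask := (nat_lit 2047)
  n0 := 3
  nl := (nat_lit 50)
  k0 := 13
  nK := (nat_lit 6)
  idT := idT
  T := 177408000
  TK := 126000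
  nF := (nat_lit 137)
  n := 9
  s0 := 0
  tot := 1539000
  nets := nets
  th := th
  tk := tk
  tk' := tk'
  F := FF
  TM := TM
  XW := XW
  defs := defs
  R := RR
  cw := [[], [11, 8, 10], [10, 10], [2, 10]]
  rows := [row0, row1, row2, row3, row4, row5, row6, row7, row8]
  cs := [[0, 1408, 0, 0, 0, 0, 0, 0, 0], [1, 53, 450, 50, 350, 504, 0, 0, 0], [0, 18, 100, 2, 112, 504, 672, 0, 0], [0, 32, 32, 0, 672, 0, 672, 0, 0], [0, 4, 32, 12, 160, 288, 552, 0, 360], [0, 2, 50, 0, 100, 356, 650, 0, 250], [0, 0, 32, 2, 92, 312, 720, 10, 240], [0, 0, 0, 0, 0, 0, 1280, 128, 0], [0, 0, 0, 0, 160, 320, 640, 0, 288]]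
  u := [1, 1]
  v := [0, 0]
  live := [(nat_lit 0), (nat_lit 1), (nat_lit 2), (nat_lit 3), (nat_lit 4), (nat_lit 5), (nat_lit 6), (nat_lit 7), (nat_lit 8)]
  cols := [1, 2, 3, 4, 5, 6, 7, 8]
  sz := [1, 1408, 35200, 2200, 123200, 354816, 739200, 5775, 277200]
  par := [0, 0, 1, 1, 1, 1, 2, 6, 4]
  chH := chH
  chK := chK
  tc := [[([], 4)],
  [([], 4)],
  [([6], 7)],
  [([0, 6, 6], 7)],
  [([], 9)],
  [([], 7)],
  [([6], 9)],
  [([6], 7)],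
  [([0, 6, 6], 7)],
  [([], 9)],
  [([], 7)],
  [([6], 9)],
  [([6, 6], 7)]]

theorem hrels : ∀ w ∈ relW rels, wval nets.perm w = 1 :=
  relW_one (wval_eq_of_relsOn (K := 12) hv (by norm_num) rels0_0)

theorem hK1 : ∀ w ∈ K1, wval nets.perm w = 1 := derive [] hrels _ (by decide +kernel)

theorem hX : ∀ w ∈ X, wval nets.perm w = 1 := derive [] hrels _ (by decide +kernel)

theorem hB : dat.B = BB := by decide +kernel

theorem facts : AllR (fun c => ∃ e, checkF (nat_lit 11) (nat_lit 2047) tH tK tK' BB FF TM XW c e = true) 0 (nat_lit 137) :=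
  (allR_of_checkL d0 0 137 (by decide +kernel) fc0)

theorem tab : AllR (fun l => tabB nets (nat_lit 2816) (nat_lit 12) (nat_lit 1408) (nat_lit 11) (nat_lit 11) (nat_lit 2047) tH l = true)
    0 (nat_lit 50) :=
  ((allR_of 0 43 43 (by decide) tab0).trans
    (allR_of 43 7 50 (by decide) tab43))

theorem cov0 : AllIdx (fun j m => Cov nets FF (nat_lit 1408) (nat_lit 137) (nat_lit 0) (getD 0 dat.live j) m) 0 row0 :=
  ⟨cov_zero,
    (cov_of_covB hv _ (by decide +kernel) _ _ _ _ cv0_1_0),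
    cov_zero,
    cov_zero,
    cov_zero,
    cov_zero,
    cov_zero,
    cov_zero,
    cov_zero, trivial⟩

theorem cov1 : AllIdx (fun j m => Cov nets FF (nat_lit 1408) (nat_lit 137) (nat_lit 1) (getD 0 dat.live j) m) 0 row1 :=
  ⟨(cov_of_covB hv _ (by decide +kernel) _ _ _ _ cv1_0_0),
    (cov_of_covB hv _ (by decide +kernel) _ _ _ _ cv1_1_0),
    (cov_of_covB hv _ (by decide +kernel) _ _ _ _ cv1_2_0),
    (cov_of_covB hv _ (by decide +kernel) _ _ _ _ cv1_3_0),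
    (cov_of_covB hv _ (by decide +kernel) _ _ _ _ cv1_4_0),
    (cov_of_covB hv _ (by decide +kernel) _ _ _ _ cv1_5_0),
    cov_zero,
    cov_zero,
    cov_zero, trivial⟩

theorem cov2 : AllIdx (fun j m => Cov nets FF (nat_lit 1408) (nat_lit 137) (nat_lit 2) (getD 0 dat.live j) m) 0 row2 :=
  ⟨cov_zero,
    (cov_of_covB hv _ (by decide +kernel) _ _ _ _ cv2_1_0),
    (cov_of_covB hv _ (by decide +kernel) _ _ _ _ cv2_2_0),
    (cov_of_covB hv _ (by decide +kernel) _ _ _ _ cv2_3_0),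
    (cov_of_covB hv _ (by decide +kernel) _ _ _ _ cv2_4_0),
    (cov_of_covB hv _ (by decide +kernel) _ _ _ _ cv2_5_0),
    (cov_of_covB hv _ (by decide +kernel) _ _ _ _ cv2_6_0),
    cov_zero,
    cov_zero, trivial⟩

theorem cov3 : AllIdx (fun j m => Cov nets FF (nat_lit 1408) (nat_lit 137) (nat_lit 3) (getD 0 dat.live j) m) 0 row3 :=
  ⟨cov_zero,
    (cov_of_covB hv _ (by decide +kernel) _ _ _ _ cv3_1_0),
    (cov_of_covB hv _ (by decide +kernel) _ _ _ _ cv3_2_0),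
    cov_zero,
    (cov_of_covB hv _ (by decide +kernel) _ _ _ _ cv3_4_0),
    cov_zero,
    (cov_of_covB hv _ (by decide +kernel) _ _ _ _ cv3_6_0),
    cov_zero,
    cov_zero, trivial⟩

theorem cov4 : AllIdx (fun j m => Cov nets FF (nat_lit 1408) (nat_lit 137) (nat_lit 4) (getD 0 dat.live j) m) 0 row4 :=
  ⟨cov_zero,
    (cov_of_covB hv _ (by decide +kernel) _ _ _ _ cv4_1_0),
    (cov_of_covB hv _ (by decide +kernel) _ _ _ _ cv4_2_0),
    (cov_of_covB hv _ (by decide +kernel) _ _ _ _ cv4_3_0),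
    (cov_of_covB hv _ (by decide +kernel) _ _ _ _ cv4_4_0),
    (cov_of_covB hv _ (by decide +kernel) _ _ _ _ cv4_5_0),
    (cov_of_covB hv _ (by decide +kernel) _ _ _ _ cv4_6_0),
    cov_zero,
    (cov_of_covB hv _ (by decide +kernel) _ _ _ _ cv4_8_0), trivial⟩

theorem cov5 : AllIdx (fun j m => Cov nets FF (nat_lit 1408) (nat_lit 137) (nat_lit 5) (getD 0 dat.live j) m) 0 row5 :=
  ⟨cov_zero,
    (cov_of_covB hv _ (by decide +kernel) _ _ _ _ cv5_1_0),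
    (cov_of_covB hv _ (by decide +kernel) _ _ _ _ cv5_2_0),
    cov_zero,
    (cov_of_covB hv _ (by decide +kernel) _ _ _ _ cv5_4_0),
    (cov_of_covB hv _ (by decide +kernel) _ _ _ _ cv5_5_0),
    (cov_of_covB hv _ (by decide +kernel) _ _ _ _ cv5_6_0),
    cov_zero,
    (cov_of_covB hv _ (by decide +kernel) _ _ _ _ cv5_8_0), trivial⟩

theorem cov6 : AllIdx (fun j m => Cov nets FF (nat_lit 1408) (nat_lit 137) (nat_lit 6) (getD 0 dat.live j) m) 0 row6 :=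
  ⟨cov_zero,
    cov_zero,
    (cov_of_covB hv _ (by decide +kernel) _ _ _ _ cv6_2_0),
    (cov_of_covB hv _ (by decide +kernel) _ _ _ _ cv6_3_0),
    (cov_of_covB hv _ (by decide +kernel) _ _ _ _ cv6_4_0),
    (cov_of_covB hv _ (by decide +kernel) _ _ _ _ cv6_5_0),
    (cov_of_covB hv _ (by decide +kernel) _ _ _ _ cv6_6_0),
    (cov_of_covB hv _ (by decide +kernel) _ _ _ _ cv6_7_0),
    (cov_of_covB hv _ (by decide +kernel) _ _ _ _ cv6_8_0), trivial⟩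

theorem cov7 : AllIdx (fun j m => Cov nets FF (nat_lit 1408) (nat_lit 137) (nat_lit 7) (getD 0 dat.live j) m) 0 row7 :=
  ⟨cov_zero,
    cov_zero,
    cov_zero,
    cov_zero,
    cov_zero,
    cov_zero,
    (cov_of_covB hv _ (by decide +kernel) _ _ _ _ cv7_6_0),
    (cov_of_covB hv _ (by decide +kernel) _ _ _ _ cv7_7_0),
    cov_zero, trivial⟩

theorem cov8 : AllIdx (fun j m => Cov nets FF (nat_lit 1408) (nat_lit 137) (nat_lit 8) (getD 0 dat.live j) m) 0 row8 :=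
  ⟨cov_zero,
    cov_zero,
    cov_zero,
    cov_zero,
    (cov_of_covB hv _ (by decide +kernel) _ _ _ _ cv8_4_0),
    (cov_of_covB hv _ (by decide +kernel) _ _ _ _ cv8_5_0),
    (cov_of_covB hv _ (by decide +kernel) _ _ _ _ cv8_6_0),
    cov_zero,
    (cov_of_covB hv _ (by decide +kernel) _ _ _ _ cv8_8_0), trivial⟩

theorem ok : dat.OK :=
  ⟨hv, by decide +kernel, derive [] hrels _ (by decide +kernel), tab, cH, cK, hB ▸ facts,
    ⟨rw0, rw1, rw2, rw3, rw4, rw5, rw6, rw7, rw8, trivial⟩,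
    ⟨cov0, cov1, cov2, cov3, cov4, cov5, cov6, cov7, cov8, trivial⟩⟩

end Cfsg.Agent.Lib.HND
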