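import Cfsg.Agent.Lib.HNBase
import Cfsg.Agent.Lib.HND
import Cfsg.Agent.Lib.HNTC
import Cfsg.Agent.Lib.RepHN
import Cfsg.Agent.Lib.DCE3

/-! The presented Harada–Norton group: index of the subgroup `2.HS.2`, order and simplicity. -/

set_option autoImplicit false
set_option maxRecDepth 100000

namespace Cfsg.Agent.Lib.HNA

open Cfsg.Agent.Lib.PermNet Cfsg.Agent.Lib.Words Cfsg.Agent.Lib.PermGroup Cfsg.Agent.Lib.HNBase Cfsg.Agent.Lib.DCE

def hw : List (List ℕ) := [[0], [2], [4], [6]]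

/-- The generators x, y, z, t. -/
noncomputable def f (i : ℕ) : Spor.HN := wval y (hw.getD i [])

theorem hKf : ∀ w ∈ HND.K1 ++ HND.RR, wval f w = 1 :=
  rels_of_subst hw _ (deriveP [] hK _ [[([], 0)],
  [([], 2)],
  [([], 4)],
  [([], 6)],
  [([], 8)],
  [([], 10)],
  [([], 12)],
  [([], 14)],
  [([], 16)],
  [([], 18)],
  [([6, 2], 25)],
  [([1, 2, 0], 20), ([1, 2, 6, 0, 6, 6], 23), ([1, 2, 6, 6, 0, 6, 6], 23), ([1, 6, 2], 25), ([1, 6, 6, 2], 25), ([], 22), ([7, 7], 22), ([], 21)],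
  [([1], 22), ([6, 6], 23), ([6, 6, 6, 6], 23), ([], 20)],
  [([], 22)],
  [([], 26)]] (by decide +kernel))

theorem gp_eq (n : ℕ) : gp f (sing n) = gp y ((sing n).map (subst hw)) := gp_subst y hw _

theorem htop : gp f (sing 4) = ⊤ := (gp_eq 4).trans (gp_top (by decide +kernel))

theorem hK1 : ∀ w ∈ HNTC.K1, wval f w = 1 := fun w h => hKf w (List.mem_append_left _ h)

theorem hub : Nat.card (WW f HND.nets 3) ≠ 0 ∧ Nat.card (WW f HND.nets 3) ≤ 177408000 := by
  refine HNTC.card_le _ (rels_pair hK1 HND.hK1) (MonoidHom.snd _ _)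
    ((map_wval _ _ _).trans (HND.hX _ (by decide +kernel))) fun h => ?_
  have := finite_map (MonoidHom.snd _ _) (L := WW f HND.nets 3) Nat.card_pos.ne'
  rw [map_gp] at this ⊢
  exact HND.ok.le_card this

theorem g_pow : wval RepHN.f RepHN.g ^ 19 = 1 := RepHN.g_pow

theorem g_ne : wval RepHN.f RepHN.g ≠ 1 := RepHN.g_ne

theorem exists_phi : ∃ φ : Spor.HN →* _, ∀ i < 4, φ (y i) = RepHN.f i :=
  exists_hom RepHN.f (derive [] RepHN.rels K (by decide +kernel))

noncomputable def phi := exists_phi.choose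

theorem phi_wval (w : List ℕ) (hw : w.all (fun l => decide (l < 2 * 4)) = true) :
    phi (wval y w) = wval RepHN.f w := by
  rw [map_wval]; exact wval_congr exists_phi.choose_spec (by simpa using hw)

theorem g_eq : wval f [0, 2, 2, 4, 3, 6] = wval y RepHN.g := by
  rw [show f = fun i => wval y (hw.getD i []) from rfl, ← wval_subst]; congr 1

theorem main : (gp f (sing 3)).index = 1539000 ∧ Nat.card (gp f (sing 3)) = 177408000 ∧
    Nat.card Spor.HN = 1539000 * 177408000 ∧ Function.Injective phi ∧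
    (∀ w : List ℕ, w.all (fun l => decide (l < 2 * 3)) = true → wval HND.nets.perm w = 1 →
      wval f w = 1) ∧
    ((∀ M : Subgroup Spor.HN, M.Normal → wval f [0, 2, 2, 4, 3, 6] ∈ M → gp f (sing 3) ≤ M) →
      IsSimpleGroup Spor.HN) :=
  HND.ok.final f (fun w h => hKf w (List.mem_append_right _ h)) htop hub phi _ (q := 19)
    (by norm_num) (by decide) (by decide) (by rw [g_eq, phi_wval _ (by decide +kernel)]; exact g_pow)
    (by rw [g_eq, phi_wval _ (by decide +kernel)]; exact g_ne)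

theorem hX : ∀ w ∈ HND.X, wval f w = 1 := fun w h =>
  main.2.2.2.2.1 w (List.all_eq_true.1 (by decide +kernel :
    HND.X.all (fun w => w.all (fun l => decide (l < 2 * 3))) = true) w h) (HND.hX w h)

theorem simple : IsSimpleGroup Spor.HN :=
  main.2.2.2.2.2 (fun M hM hg => le_of_killB (all_append hKf hX) [2] [[0, 2, 2, 4, 3, 6]] _
    [([7, 2, 5, 3, 3, 1], 1, [([], 35)], 0, []),
    ([1, 2, 5, 3, 5, 3, 3, 1, 2, 5, 3, 3, 1], 1, [([1, 2, 4, 3, 4, 3, 3, 1, 6], 35), ([1, 2, 4, 3, 3, 6], 35), ([1, 6], 35), ([], 26)], 0, []),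
    ([4], 7, [([], 39), ([4], 39), ([], 39), ([4], 39), ([], 39), ([4], 39), ([], 39), ([], 30)], 2, []),
    ([0], 2, [([0], 40), ([], 40), ([], 14)], 3, [([0, 0, 3, 1, 3, 1, 3, 3, 3], 40), ([0, 3, 1, 3, 1, 3, 3, 3], 40), ([3, 1, 3, 1, 3, 3, 3], 40), ([], 40), ([], 18)]),
    ([2], 15, [([2, 2, 2, 2, 2, 2, 2, 2, 2, 2, 2, 2], 43), ([2, 2, 2, 2, 2, 2, 2, 2, 2, 2], 42), ([2, 2, 2, 2, 2, 2, 2], 43), ([2, 2, 2, 2, 2], 42), ([2, 2], 43), ([], 42), ([], 6)], 8, [([2, 2, 2, 2, 2, 2, 2], 43), ([2, 2, 2, 2, 2, 2], 43), ([2, 2, 2, 2, 2], 43), ([2, 2, 2, 2], 43), ([2, 2, 2], 43), ([2, 2], 43), ([2], 43), ([], 43), ([], 8)])]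
    (by decide +kernel) M hM (by simpa using hg))

theorem card_eq : Nat.card Spor.HN = 273030912000000 := main.2.2.1

end Cfsg.Agent.Lib.HNA
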