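import Cfsg.Agent.Lib.HNBT

/-! Certificates. -/

set_option autoImplicit false
set_option maxRecDepth 100000

namespace Cfsg.Agent.Lib.HNB

open Cfsg.Agent.Lib.PermNet Cfsg.Agent.Lib.Words Cfsg.Agent.Lib.PermGroup Cfsg.Agent.Lib.DCE Cfsg.Agent.Lib.PermModel Cfsg.Agent.Lib.BT

theorem pok_id : idB (nat_lit 1408) (nat_lit 11) (nat_lit 2047) pid = true := by decide +kernel

theorem pok_0 : allR (fun i => okT (nat_lit 1408) (nat_lit 11) (nat_lit 2047) (ptt.get (2 * i)) (ptt.get (2 * i + 1))) (nat_lit 0) (nat_lit 24) = true := by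
  decide +kernel

def pdL0 : List (List ℕ) := [[7, 2, 2, 2, 4, 2, 5, 3, 3, 3], [9, 2, 2, 2, 4, 1, 2, 0, 5, 3, 3, 3], [11, 6, 6, 6], [13, 7, 8, 6, 6, 6, 9, 6], [15, 9, 9, 6, 8, 6, 9, 7, 8], [17, 4, 0, 3, 0, 3, 0, 2, 0, 2, 0], [19, 3, 3, 4, 3, 0, 2, 0, 2, 2, 2], [21, 19, 16, 18, 16, 19, 16, 18, 16], [23, 19, 19, 21, 19, 21, 18, 18, 16, 18], [25, 21, 21, 18, 18, 18, 18, 20, 20], [27, 20, 18, 22, 19, 19], [29, 26, 20, 22, 18, 18, 18], [31, 22, 16, 22, 16], [33, 28, 28], [35, 26, 24, 27, 25], [37, 28, 24], [39, 18, 22, 18, 16], [41, 18, 24, 19], [43, 21, 24, 20], [45, 28, 24, 22], [47, 18, 18, 18, 18]]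

theorem pd0 : allL (fixA (nat_lit 11) (nat_lit 2047) ptt (nat_lit 1408)) pdL0 = true := by decide +kernel

def pkL0 : List (List ℕ) := [[2, 2, 2, 2, 2, 2], [0, 0, 2, 0, 0, 3], [1, 3, 0, 2, 1, 3, 0, 2, 1, 3, 0, 2], [1, 2, 2, 0, 2, 2, 2, 1, 2, 2, 0, 2, 2, 2, 1, 2, 2, 0, 2, 2, 2], [0, 2, 0, 2, 0, 2, 0, 2, 0, 2, 0, 2, 0, 2, 0, 2], [0, 2, 0, 2, 2, 2, 0, 2, 0, 2, 2, 2, 0, 2, 0, 2, 2, 2, 0, 2, 0, 2, 2, 2], [4, 4], [4, 0, 4, 0], [5, 2, 1, 3, 3, 1, 3, 1, 3, 4, 2, 0, 2, 0, 2, 2, 0, 3, 1, 1], [4, 3, 1, 3, 1, 3, 3, 3, 4, 2, 2, 2, 0, 2, 0, 2, 0, 3, 1, 3, 1, 3, 3, 3, 4, 2, 2, 2, 0, 2, 0, 2, 0, 3, 1, 3, 1, 3, 3, 3, 4, 2, 2, 2, 0, 2, 0, 2, 0]]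

theorem pk0 : allL (fixA (nat_lit 11) (nat_lit 2047) ptt (nat_lit 1408)) pkL0 = true := by decide +kernel

theorem pok : TabsOK (nat_lit 1408) (nat_lit 11) (nat_lit 2047) (nat_lit 24) pth pid := ⟨pok_id, (allR_of 0 24 24 (by decide) pok_0)⟩

theorem pcc : chB (nat_lit 11) (nat_lit 2047) ptt (nat_lit 1408) (fun _ => true) pch [] = true := by decide +kernel

theorem pTM : TM 3 (nat_lit 1408) (nat_lit 11) (nat_lit 2047) (nat_lit 24) pid 177408000 pth pdefs pch :=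
  ⟨pok, (pok.relsA _ pd0), pcc, by decide +kernel⟩

theorem pK : ∀ w ∈ [[2, 2, 2, 2, 2, 2], [0, 0, 2, 0, 0, 3], [1, 3, 0, 2, 1, 3, 0, 2, 1, 3, 0, 2], [1, 2, 2, 0, 2, 2, 2, 1, 2, 2, 0, 2, 2, 2, 1, 2, 2, 0, 2, 2, 2], [0, 2, 0, 2, 0, 2, 0, 2, 0, 2, 0, 2, 0, 2, 0, 2], [0, 2, 0, 2, 2, 2, 0, 2, 0, 2, 2, 2, 0, 2, 0, 2, 2, 2, 0, 2, 0, 2, 2, 2], [4, 4], [4, 0, 4, 0], [5, 2, 1, 3, 3, 1, 3, 1, 3, 4, 2, 0, 2, 0, 2, 2, 0, 3, 1, 1], [4, 3, 1, 3, 1, 3, 3, 3, 4, 2, 2, 2, 0, 2, 0, 2, 0, 3, 1, 3, 1, 3, 3, 3, 4, 2, 2, 2, 0, 2, 0, 2, 0, 3, 1, 3, 1, 3, 3, 3, 4, 2, 2, 2, 0, 2, 0, 2, 0]], wval (tp (nat_lit 1408) (nat_lit 11) (nat_lit 2047) ptt) w = 1 :=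
  (pok.relsA _ pk0)

end Cfsg.Agent.Lib.HNB
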