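import Cfsg.Agent.Lib.HNBT

/-! Certificates. -/

set_option autoImplicit false
set_option maxRecDepth 100000

namespace Cfsg.Agent.Lib.HNB

open Cfsg.Agent.Lib.PermNet Cfsg.Agent.Lib.Words Cfsg.Agent.Lib.PermGroup Cfsg.Agent.Lib.DCE Cfsg.Agent.Lib.PermModel Cfsg.Agent.Lib.BT

theorem sok_id : idB (nat_lit 40) (nat_lit 6) (nat_lit 63) sid = true := by decide +kernel

theorem sok_0 : allR (fun i => okT (nat_lit 40) (nat_lit 6) (nat_lit 63) (stt.get (2 * i)) (stt.get (2 * i + 1))) (nat_lit 0) (nat_lit 16) = true := by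
  decide +kernel

def sdL0 : List (List ℕ) := [[5, 3, 0, 2, 0, 3, 0, 2, 0], [7, 3, 3, 5, 3, 5, 2, 2, 0, 2], [9, 5, 5, 2, 2, 2, 2, 4, 4], [11, 4, 2, 6, 3, 3], [13, 10, 4, 6, 2, 2, 2], [15, 6, 0, 6, 0], [17, 12, 12], [19, 10, 8, 11, 9], [21, 12, 8], [23, 2, 6, 2, 0], [25, 2, 8, 3], [27, 5, 8, 4], [29, 12, 8, 6], [31, 2, 2, 2, 2]]

theorem sd0 : allL (fixA (nat_lit 6) (nat_lit 63) stt (nat_lit 40)) sdL0 = true := by decide +kernel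

theorem sok : TabsOK (nat_lit 40) (nat_lit 6) (nat_lit 63) (nat_lit 16) sth sid := ⟨sok_id, (allR_of 0 16 16 (by decide) sok_0)⟩

theorem scc : chB (nat_lit 6) (nat_lit 63) stt (nat_lit 40) (fun _ => true) sch [] = true := by decide +kernel

theorem sTM : TM 2 (nat_lit 40) (nat_lit 6) (nat_lit 63) (nat_lit 16) sid 7680 sth sdefs sch :=
  ⟨sok, (sok.relsA _ sd0), scc, by decide +kernel⟩

def reps : List (List ℕ) := [[], [8], [10], [0], [6], [12, 6], [10, 0], [12], [20], [28], [7, 0], [12, 10], [8, 7, 0], [12, 10, 0]]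

noncomputable def tsi : List Tst := [⟨[], [], []⟩,
  ⟨[], [], []⟩,
  ⟨[], [], []⟩,
  ⟨[], [], []⟩,
  ⟨[], [], []⟩,
  ⟨[], [], []⟩]

noncomputable def cti : CT := (.node 0 [] [] (nat_lit 0x0) (nd [(0, (nd [(11, (nd [(2, (nd [(12, (nd [(13, (lf [(20, [0]), (29, [1, 4, 4])])),
  (19, (lf [(20, [9]), (29, [4, 5, 2, 4])]))])),
  (18, (nd [(19, (lf [(29, [1, 5, 2]), (20, [1, 2, 4])])),
  (13, (lf [(29, [9, 3]), (20, [4, 22, 5, 2])]))]))])),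
  (5, (nd [(12, (nd [(19, (lf [(20, [1, 2]), (29, [8, 3, 5])])),
  (13, (lf [(20, [4, 5, 2]), (29, [4, 2, 4])]))])),
  (18, (nd [(13, (lf [(29, [8, 22]), (20, [1, 5])])),
  (19, (lf [(29, [9, 4]), (20, [9, 0, 2])]))]))]))])),
  (6, (nd [(5, (nd [(12, (nd [(13, (lf [(20, [4]), (29, [5, 2])])),
  (19, (lf [(20, [8]), (29, [1, 23, 2])]))])),
  (18, (nd [(19, (lf [(29, [5, 22, 2]), (20, [5, 4])])),
  (13, (lf [(29, [8, 10]), (20, [1, 3])]))]))])),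
  (2, (nd [(12, (nd [(19, (lf [(20, [4, 4, 4]), (29, [9, 2])])),
  (13, (lf [(20, [1, 0, 2]), (29, [1, 4])]))])),
  (18, (nd [(13, (lf [(29, [9, 5]), (20, [4, 10, 5, 2])])),
  (19, (lf [(29, [8, 23]), (20, [8, 4, 2])]))]))]))])),
  (5, (nd [(6, (nd [(31, (nd [(29, (lf [(19, [2])])),
  (20, (lf [(13, [6, 22, 8, 2])]))])),
  (22, (nd [(20, (lf [(13, [2, 8])])),
  (29, (lf [(19, [6, 26, 22, 2])]))]))]))])),
  (2, (nd [(11, (nd [(31, (nd [(29, (lf [(19, [6, 22, 2])])),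
  (20, (lf [(13, [2, 24])]))])),
  (22, (nd [(20, (lf [(13, [6, 22, 3])])),
  (29, (lf [(19, [2, 26])]))]))]))])),
  (9, (nd [(24, (nd [(37, (nd [(34, (lf [(20, [2, 22])]))])),
  (35, (nd [(36, (lf [(20, [2, 2, 2])]))]))])),
  (27, (nd [(37, (nd [(36, (lf [(20, [2, 22, 24])]))])),
  (35, (nd [(34, (lf [(20, [2, 8, 22])]))]))]))])),
  (30, (nd [(3, (nd [(12, (nd [(13, (lf [(36, [2, 23]), (34, [2, 4, 2])]))]))])),
  (4, (nd [(12, (nd [(13, (lf [(36, [6, 26, 2]), (34, [6, 8, 2])]))]))]))])),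
  (8, (nd [(27, (nd [(37, (nd [(34, (lf [(20, [6, 4])]))])),
  (35, (nd [(36, (lf [(20, [6, 0, 2])]))]))])),
  (24, (nd [(37, (nd [(36, (lf [(20, [6, 4, 8])]))])),
  (35, (nd [(34, (lf [(20, [6, 8, 4])]))]))]))])),
  (21, (nd [(4, (nd [(12, (nd [(13, (lf [(36, [6, 2]), (34, [6, 3])]))]))])),
  (3, (nd [(12, (nd [(13, (lf [(36, [2, 26, 23]), (34, [2, 8, 23])]))]))]))]))])),
  (1, (nd [(5, (nd [(6, (nd [(20, (nd [(22, (lf [(12, [3])])),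
  (31, (lf [(12, [10, 24])]))])),
  (29, (nd [(31, (lf [(18, [3, 30])])),
  (22, (lf [(18, [10, 26])]))]))]))])),
  (2, (nd [(11, (nd [(20, (nd [(22, (lf [(12, [10])])),
  (31, (lf [(12, [3, 24])]))])),
  (29, (nd [(31, (lf [(18, [10, 30])])),
  (22, (lf [(18, [3, 26])]))]))]))])),
  (11, (nd [(2, (nd [(19, (nd [(18, (lf [(31, [6]), (22, [6, 22])]))])),
  (13, (nd [(12, (lf [(22, [6, 8]), (31, [6, 23])]))]))]))])),
  (30, (nd [(3, (nd [(13, (nd [(12, (lf [(37, [3, 23]), (35, [3, 4, 2])]))]))])),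
  (4, (nd [(19, (nd [(18, (lf [(35, [10, 5, 22]), (37, [10, 2, 23])]))]))]))])),
  (9, (nd [(24, (nd [(34, (nd [(37, (lf [(22, [3, 2, 2])]))])),
  (36, (nd [(35, (lf [(22, [3, 22])]))]))])),
  (27, (nd [(34, (nd [(35, (lf [(31, [3, 8, 22])]))])),
  (36, (nd [(37, (lf [(31, [3, 22, 26])]))]))]))])),
  (6, (nd [(5, (nd [(19, (nd [(18, (lf [(31, [11, 2, 23]), (22, [11, 5, 22])]))])),
  (13, (nd [(12, (lf [(22, [11, 24, 5, 22]), (31, [11, 4, 4, 2])]))]))]))])),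
  (21, (nd [(4, (nd [(13, (nd [(12, (lf [(37, [10, 23]), (35, [10, 4, 2])]))]))])),
  (3, (nd [(19, (nd [(18, (lf [(35, [3, 8, 23]), (37, [3, 24, 23])]))]))]))])),
  (8, (nd [(27, (nd [(34, (nd [(37, (lf [(22, [10, 2, 2])]))])),
  (36, (nd [(35, (lf [(22, [10, 22])]))]))])),
  (24, (nd [(34, (nd [(35, (lf [(31, [10, 8, 22])]))])),
  (36, (nd [(37, (lf [(31, [10, 22, 26])]))]))]))]))])),
  (3, (nd [(18, (nd [(7, (nd [(6, (nd [(21, (lf [(26, [3, 23, 5, 2]), (23, [3, 22, 2, 4])])),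
  (30, (lf [(26, [10, 4, 22, 2]), (23, [12, 4, 22, 2])]))]))]))])),
  (12, (nd [(7, (nd [(11, (nd [(21, (lf [(23, [12, 23, 5, 2]), (26, [10, 23, 5, 2])])),
  (30, (lf [(23, [3, 5, 2, 10, 2]), (26, [3, 4, 22, 2])]))]))]))]))])),
  (2, (nd [(19, (nd [(0, (nd [(21, (nd [(6, (lf [(33, [3, 22, 5, 3]), (39, [3, 10, 2, 4])]))])),
  (30, (nd [(6, (lf [(39, [12, 4, 10, 2]), (33, [10, 4, 10, 2])]))]))]))])),
  (13, (nd [(0, (nd [(21, (nd [(11, (lf [(33, [12, 10, 2, 4]), (39, [10, 10, 2, 4])]))])),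
  (30, (nd [(11, (lf [(39, [3, 2, 4, 22, 2]), (33, [3, 4, 10, 2])]))]))]))]))])),
  (11, (nd [(0, (nd [(20, (nd [(14, (nd [(39, (lf [(2, [3, 22, 6, 5, 2])])),
  (33, (lf [(2, [12, 2, 10, 2])]))])),
  (16, (nd [(33, (lf [(2, [3, 3, 22, 3])])),
  (39, (lf [(2, [10, 2, 10, 2])]))]))])),
  (29, (nd [(14, (nd [(33, (lf [(5, [3, 22, 26, 5, 2])])),
  (39, (lf [(5, [12, 6, 2, 4])]))])),
  (16, (nd [(39, (lf [(5, [3, 2, 10, 2])])),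
  (33, (lf [(5, [10, 3, 22, 3])]))]))]))]))])),
  (10, (nd [(11, (nd [(2, (nd [(18, (nd [(13, (lf [(29, [1]), (20, [8, 23, 2])])),
  (19, (lf [(29, [5]), (20, [4, 2])]))])),
  (12, (nd [(19, (lf [(20, [1, 10]), (29, [8, 3])])),
  (13, (lf [(20, [4, 22, 2]), (29, [4, 4])]))]))])),
  (5, (nd [(18, (nd [(19, (lf [(29, [8, 0, 2]), (20, [8, 4])])),
  (13, (lf [(29, [5, 4, 4]), (20, [9, 4, 4])]))])),
  (12, (nd [(13, (lf [(20, [1, 23]), (29, [1, 4, 2])])),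
  (19, (lf [(20, [9, 4, 0, 2]), (29, [5, 10, 5, 2])]))]))]))])),
  (6, (nd [(5, (nd [(18, (nd [(13, (lf [(29, [9, 5, 5, 2]), (20, [5, 5, 2, 4])])),
  (19, (lf [(29, [7]), (20, [8, 4, 4])]))])),
  (12, (nd [(19, (lf [(20, [9, 23, 4, 4]), (29, [5, 22, 5, 2])])),
  (13, (lf [(20, [8, 5, 2]), (29, [8, 2, 4])]))]))])),
  (2, (nd [(18, (nd [(19, (lf [(29, [5, 5, 2]), (20, [5, 2, 4])])),
  (13, (lf [(29, [8, 2]), (20, [1, 3, 5])]))])),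
  (12, (nd [(13, (lf [(20, [9, 5, 2]), (29, [9, 5, 5])])),
  (19, (lf [(20, [1, 22]), (29, [8, 5])]))]))]))])),
  (5, (nd [(6, (nd [(31, (nd [(20, (lf [(13, [11, 26])])),
  (29, (lf [(19, [13, 22, 3])]))])),
  (22, (nd [(29, (lf [(19, [11, 24])])),
  (20, (lf [(13, [13, 22, 2])]))]))]))])),
  (2, (nd [(11, (nd [(31, (nd [(20, (lf [(13, [13, 26, 22, 2])])),
  (29, (lf [(19, [11, 8])]))])),
  (22, (nd [(29, (lf [(19, [13, 22, 8, 2])])),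
  (20, (lf [(13, [11])]))]))]))])),
  (9, (nd [(27, (nd [(37, (nd [(36, (lf [(29, [13, 8, 4])]))])),
  (35, (nd [(34, (lf [(29, [13, 4, 8])]))]))])),
  (24, (nd [(37, (nd [(34, (lf [(29, [13, 0, 2])]))])),
  (35, (nd [(36, (lf [(29, [13, 4])]))]))]))])),
  (21, (nd [(3, (nd [(18, (nd [(19, (lf [(36, [13, 8, 2]), (34, [13, 26, 2])]))]))])),
  (4, (nd [(18, (nd [(19, (lf [(36, [11, 4, 2]), (34, [11, 23])]))]))]))])),
  (8, (nd [(24, (nd [(37, (nd [(36, (lf [(29, [11, 8, 22])]))])),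
  (35, (nd [(34, (lf [(29, [11, 22, 24])]))]))])),
  (27, (nd [(37, (nd [(34, (lf [(29, [11, 2, 2])]))])),
  (35, (nd [(36, (lf [(29, [11, 22])]))]))]))])),
  (30, (nd [(4, (nd [(18, (nd [(19, (lf [(36, [11, 8, 23]), (34, [11, 26, 23])]))]))])),
  (3, (nd [(18, (nd [(19, (lf [(36, [13, 3]), (34, [13, 2])]))]))]))]))])),
  (5, (nd [(19, (nd [(10, (nd [(30, (nd [(6, (lf [(39, [10, 4, 4]), (33, [12, 4, 4])]))])),
  (21, (nd [(6, (lf [(33, [3, 18, 4, 4]), (39, [3, 22, 2, 22, 2])]))]))]))])),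
  (13, (nd [(10, (nd [(30, (nd [(11, (lf [(39, [3, 4, 4]), (33, [3, 22, 6, 5, 3])]))])),
  (21, (nd [(11, (lf [(33, [10, 18, 4, 4]), (39, [12, 18, 4, 4])]))]))]))]))])),
  (4, (nd [(18, (nd [(1, (nd [(6, (nd [(30, (lf [(23, [12, 0, 2, 4]), (26, [10, 0, 2, 4])])),
  (21, (lf [(23, [3, 23, 4, 0, 2]), (26, [3, 24, 23, 5, 2])]))]))]))])),
  (12, (nd [(1, (nd [(11, (nd [(30, (lf [(26, [3, 0, 2, 4]), (23, [3, 5, 2, 4])])),
  (21, (lf [(26, [10, 5, 2, 4]), (23, [12, 10, 5, 3])]))]))]))]))])),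
  (8, (nd [(1, (nd [(31, (nd [(32, (nd [(17, (lf [(27, [3, 5, 3])])),
  (15, (lf [(24, [12, 6, 5, 3])]))])),
  (38, (nd [(15, (lf [(27, [3, 23, 10, 2, 4])])),
  (17, (lf [(24, [10, 18, 5, 3])]))]))])),
  (22, (nd [(32, (nd [(15, (lf [(24, [3, 22, 2, 0, 2])])),
  (17, (lf [(27, [10, 5, 3])]))])),
  (38, (nd [(17, (lf [(24, [3, 18, 5, 3])])),
  (15, (lf [(27, [12, 5, 5])]))]))]))]))])),
  (7, (nd [(5, (nd [(6, (nd [(29, (nd [(22, (lf [(18, [3, 22, 2, 23])])),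
  (31, (lf [(18, [12, 24])]))])),
  (20, (nd [(31, (lf [(12, [3, 22, 5, 22])])),
  (22, (lf [(12, [12, 26])]))]))]))])),
  (2, (nd [(11, (nd [(29, (nd [(22, (lf [(18, [12])])),
  (31, (lf [(18, [3, 26, 22, 5, 22])]))])),
  (20, (nd [(31, (lf [(12, [12, 10])])),
  (22, (lf [(12, [3, 22, 8, 5, 22])]))]))]))])),
  (11, (nd [(2, (nd [(19, (nd [(18, (lf [(31, [2, 24, 5, 22]), (22, [2, 4, 4, 2])]))])),
  (13, (nd [(12, (lf [(22, [2, 2, 23]), (31, [2, 5, 22])]))]))]))])),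
  (21, (nd [(3, (nd [(13, (nd [(12, (lf [(37, [12, 23]), (35, [12, 23, 10])]))]))])),
  (4, (nd [(19, (nd [(18, (lf [(35, [3, 24, 5, 22]), (37, [3, 8, 5, 22])]))]))]))])),
  (9, (nd [(27, (nd [(34, (nd [(35, (lf [(22, [12, 2, 2])]))])),
  (36, (nd [(37, (lf [(22, [12, 22])]))]))])),
  (24, (nd [(34, (nd [(37, (lf [(31, [12, 8, 22])]))])),
  (36, (nd [(35, (lf [(31, [12, 22, 26])]))]))]))])),
  (6, (nd [(5, (nd [(19, (nd [(18, (lf [(31, [13, 8]), (22, [13, 23])]))])),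
  (13, (nd [(12, (lf [(22, [13]), (31, [13, 22])]))]))]))])),
  (30, (nd [(4, (nd [(13, (nd [(12, (lf [(37, [3, 2, 23]), (35, [3, 5, 22])]))]))])),
  (3, (nd [(19, (nd [(18, (lf [(35, [12, 5, 22]), (37, [12, 3, 23])]))]))]))])),
  (8, (nd [(24, (nd [(34, (nd [(35, (lf [(22, [3, 4, 23])]))])),
  (36, (nd [(37, (lf [(22, [3, 4, 4, 2])]))]))])),
  (27, (nd [(34, (nd [(37, (lf [(31, [3, 4, 24, 23])]))])),
  (36, (nd [(35, (lf [(31, [3, 8, 4, 23])]))]))]))]))])),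
  (6, (nd [(10, (nd [(29, (nd [(16, (nd [(33, (lf [(5, [3, 2, 4])])),
  (39, (lf [(5, [10, 22, 5, 2])]))])),
  (14, (nd [(39, (lf [(5, [3, 22, 5, 2])])),
  (33, (lf [(5, [12, 22, 5, 2])]))]))])),
  (20, (nd [(16, (nd [(39, (lf [(2, [3, 5, 22, 3])])),
  (33, (lf [(2, [10, 2, 4])]))])),
  (14, (nd [(33, (lf [(2, [3, 18, 22, 5, 2])])),
  (39, (lf [(2, [12, 2, 4])]))]))]))]))])),
  (19, (nd [(33, (nd [(2, (nd [(16, (nd [(10, (lf [(20, [6, 2, 4])]))])),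
  (14, (nd [(10, (lf [(20, [2, 8, 3])]))]))])),
  (5, (nd [(16, (nd [(10, (lf [(29, [11, 6, 3])]))])),
  (14, (nd [(10, (lf [(29, [13, 28, 2, 4])]))]))]))])),
  (39, (nd [(5, (nd [(16, (nd [(10, (lf [(29, [11, 3])]))])),
  (14, (nd [(10, (lf [(29, [13, 8, 2, 4])]))]))])),
  (2, (nd [(16, (nd [(10, (lf [(20, [6, 2, 0, 2])]))])),
  (14, (nd [(10, (lf [(20, [2, 28, 3])]))]))]))])),
  (25, (nd [(3, (nd [(16, (nd [(10, (lf [(36, [3, 4, 23, 4, 4])]))])),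
  (14, (nd [(10, (lf [(34, [12, 3])]))]))])),
  (4, (nd [(16, (nd [(10, (lf [(34, [10, 6, 3])]))])),
  (14, (nd [(10, (lf [(36, [3, 18, 3])]))]))]))])),
  (28, (nd [(4, (nd [(16, (nd [(10, (lf [(34, [10, 3])]))])),
  (14, (nd [(10, (lf [(36, [3, 8, 3])]))]))])),
  (3, (nd [(16, (nd [(10, (lf [(36, [3, 8, 2, 4, 23])]))])),
  (14, (nd [(10, (lf [(34, [12, 5])]))]))]))]))])),
  (13, (nd [(25, (nd [(3, (nd [(14, (nd [(0, (lf [(36, [12, 8, 3])]))])),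
  (16, (nd [(0, (lf [(34, [3, 2, 4, 4, 2])]))]))])),
  (4, (nd [(14, (nd [(0, (lf [(34, [3, 6, 3])]))])),
  (16, (nd [(0, (lf [(36, [10, 18, 3])]))]))]))])),
  (33, (nd [(2, (nd [(14, (nd [(0, (lf [(20, [2, 3])]))])),
  (16, (nd [(0, (lf [(20, [6, 8, 2, 4])]))]))])),
  (5, (nd [(14, (nd [(0, (lf [(29, [13, 2, 0, 2])]))])),
  (16, (nd [(0, (lf [(29, [11, 28, 3])]))]))]))])),
  (28, (nd [(4, (nd [(14, (nd [(0, (lf [(34, [3, 3])]))])),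
  (16, (nd [(0, (lf [(36, [10, 8, 3])]))]))])),
  (3, (nd [(14, (nd [(0, (lf [(36, [12, 18, 3])]))])),
  (16, (nd [(0, (lf [(34, [3, 2, 4, 23])]))]))]))])),
  (39, (nd [(5, (nd [(14, (nd [(0, (lf [(29, [13, 2, 4])]))])),
  (16, (nd [(0, (lf [(29, [11, 8, 3])]))]))])),
  (2, (nd [(14, (nd [(0, (lf [(20, [2, 6, 3])]))])),
  (16, (nd [(0, (lf [(20, [6, 28, 2, 4])]))]))]))]))])),
  (9, (nd [(7, (nd [(22, (nd [(32, (nd [(17, (lf [(24, [3, 6, 5, 3])])),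
  (15, (lf [(27, [12, 5, 3])]))])),
  (38, (nd [(15, (lf [(24, [3, 23, 4, 4])])),
  (17, (lf [(27, [10, 2, 22, 2])]))]))])),
  (31, (nd [(32, (nd [(15, (lf [(27, [3, 3, 5, 5, 2])])),
  (17, (lf [(24, [10, 6, 5, 3])]))])),
  (38, (nd [(17, (lf [(27, [3, 2, 22, 2])])),
  (15, (lf [(24, [12, 18, 5, 3])]))]))]))]))])),
  (14, (nd [(23, (nd [(3, (nd [(7, (nd [(15, (lf [(9, [12, 18, 2])])),
  (17, (lf [(9, [3, 5, 5, 22])]))]))])),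
  (4, (nd [(7, (nd [(17, (lf [(9, [10, 18, 2])])),
  (15, (lf [(9, [3, 6, 2])]))]))]))])),
  (32, (nd [(2, (nd [(7, (nd [(15, (lf [(27, [2, 2])])),
  (17, (lf [(24, [6, 5, 26, 2])]))]))])),
  (5, (nd [(7, (nd [(17, (lf [(24, [11, 2, 24])])),
  (15, (lf [(27, [13, 5, 2])]))]))]))])),
  (26, (nd [(4, (nd [(7, (nd [(15, (lf [(8, [3, 2])])),
  (17, (lf [(8, [10, 26, 2])]))]))])),
  (3, (nd [(7, (nd [(17, (lf [(8, [3, 5, 2, 23])])),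
  (15, (lf [(8, [12, 26, 2])]))]))]))])),
  (38, (nd [(5, (nd [(7, (nd [(15, (lf [(24, [13, 5, 3])])),
  (17, (lf [(27, [11, 18, 2])]))]))])),
  (2, (nd [(7, (nd [(17, (lf [(27, [6, 18, 5, 2])])),
  (15, (lf [(24, [2, 6, 2])]))]))]))]))])),
  (28, (nd [(8, (nd [(15, (nd [(37, (nd [(3, (lf [(23, [3, 4])]))])),
  (35, (nd [(3, (lf [(26, [10, 8, 4])]))]))])),
  (17, (nd [(37, (nd [(4, (lf [(23, [3, 10, 2])]))])),
  (35, (nd [(4, (lf [(26, [10, 18, 4])]))]))]))])),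
  (9, (nd [(17, (nd [(37, (nd [(4, (lf [(26, [3, 2, 4, 0, 2])]))])),
  (35, (nd [(4, (lf [(23, [12, 18, 4])]))]))])),
  (15, (nd [(37, (nd [(3, (lf [(26, [3, 3, 22, 5, 2])]))])),
  (35, (nd [(3, (lf [(23, [12, 8, 4])]))]))]))])),
  (6, (nd [(38, (nd [(18, (nd [(21, (lf [(23, [13, 10, 5, 2])])),
  (30, (lf [(26, [11, 8, 4])]))]))])),
  (32, (nd [(18, (nd [(30, (lf [(23, [13, 23, 5, 2])])),
  (21, (lf [(26, [11, 28, 4])]))]))]))])),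
  (11, (nd [(32, (nd [(12, (nd [(30, (lf [(23, [2, 4])])),
  (21, (lf [(26, [6, 2, 4, 0, 2])]))]))])),
  (38, (nd [(12, (nd [(21, (lf [(23, [2, 10, 2])])),
  (30, (lf [(26, [6, 28, 10, 5, 2])]))]))]))]))])),
  (27, (nd [(38, (nd [(39, (nd [(23, (nd [(17, (lf [(14, [3, 26, 5, 2])]))])),
  (26, (nd [(15, (lf [(16, [3, 4, 0, 2])]))]))])),
  (33, (nd [(23, (nd [(17, (lf [(14, [10, 26, 5, 2])]))])),
  (26, (nd [(15, (lf [(16, [12, 26, 5, 2])]))]))]))])),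
  (32, (nd [(33, (nd [(23, (nd [(15, (lf [(14, [3, 30, 4, 0, 2])]))])),
  (26, (nd [(17, (lf [(16, [3, 6, 5, 2])]))]))])),
  (39, (nd [(23, (nd [(15, (lf [(14, [12, 4, 0, 2])]))])),
  (26, (nd [(17, (lf [(16, [10, 4, 0, 2])]))]))]))]))])),
  (30, (nd [(33, (nd [(32, (nd [(14, (nd [(25, (lf [(26, [3, 24, 10, 5, 2])]))])),
  (16, (nd [(28, (lf [(23, [3, 3, 22, 2])]))]))])),
  (38, (nd [(14, (nd [(25, (lf [(23, [12, 3, 22, 2])]))])),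
  (16, (nd [(28, (lf [(26, [10, 3, 22, 2])]))]))]))])),
  (39, (nd [(38, (nd [(14, (nd [(28, (lf [(26, [3, 0, 2, 0, 2])]))])),
  (16, (nd [(25, (lf [(23, [3, 2, 10, 3])]))]))])),
  (32, (nd [(14, (nd [(28, (lf [(23, [12, 23, 5, 3])]))])),
  (16, (nd [(25, (lf [(26, [10, 2, 10, 3])]))]))]))]))])),
  (25, (nd [(11, (nd [(32, (nd [(12, (nd [(30, (lf [(26, [6, 10, 5, 2])])),
  (21, (lf [(23, [2, 8, 4])]))]))])),
  (38, (nd [(12, (nd [(21, (lf [(26, [6, 23, 5, 2])])),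
  (30, (lf [(23, [2, 28, 4])]))]))]))])),
  (6, (nd [(38, (nd [(18, (nd [(21, (lf [(26, [11, 4])])),
  (30, (lf [(23, [13, 2, 4, 0, 2])]))]))])),
  (32, (nd [(18, (nd [(30, (lf [(26, [11, 10, 2])])),
  (21, (lf [(23, [13, 28, 10, 5, 2])]))]))]))])),
  (9, (nd [(17, (nd [(35, (nd [(4, (lf [(26, [3, 5, 22, 5, 3])]))])),
  (37, (nd [(4, (lf [(23, [12, 10, 2])]))]))])),
  (15, (nd [(35, (nd [(3, (lf [(26, [3, 2, 10, 2, 0, 2])]))])),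
  (37, (nd [(3, (lf [(23, [12, 4])]))]))]))])),
  (8, (nd [(15, (nd [(35, (nd [(3, (lf [(23, [3, 8, 4])]))])),
  (37, (nd [(3, (lf [(26, [10, 4])]))]))])),
  (17, (nd [(35, (nd [(4, (lf [(23, [3, 18, 4])]))])),
  (37, (nd [(4, (lf [(26, [10, 10, 2])]))]))]))]))])),
  (20, (nd [(11, (nd [(39, (nd [(21, (nd [(13, (lf [(0, [6, 4, 0, 2])]))])),
  (30, (nd [(13, (lf [(0, [2, 5, 2])]))]))])),
  (33, (nd [(21, (nd [(13, (lf [(0, [2, 18, 0, 2])]))])),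
  (30, (nd [(13, (lf [(0, [6, 4, 4])]))]))]))])),
  (9, (nd [(14, (nd [(3, (nd [(34, (lf [(0, [3, 18, 5, 5, 2])])),
  (36, (lf [(0, [12, 0, 2])]))]))])),
  (16, (nd [(4, (nd [(34, (lf [(0, [3, 30, 5, 5, 2])])),
  (36, (lf [(0, [12, 23, 3])]))]))]))])),
  (6, (nd [(33, (nd [(21, (nd [(19, (lf [(0, [13, 30, 4, 4])]))])),
  (30, (nd [(19, (lf [(0, [11, 10, 3])]))]))])),
  (39, (nd [(21, (nd [(19, (lf [(0, [11, 0, 2])]))])),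
  (30, (nd [(19, (lf [(0, [13, 5, 5, 2])]))]))]))])),
  (8, (nd [(16, (nd [(4, (nd [(36, (lf [(0, [10, 10, 3])])),
  (34, (lf [(0, [3, 18, 0, 2])]))]))])),
  (14, (nd [(3, (nd [(36, (lf [(0, [10, 0, 2])])),
  (34, (lf [(0, [3, 30, 0, 2])]))]))]))]))])),
  (29, (nd [(9, (nd [(16, (nd [(4, (nd [(34, (lf [(10, [12, 18, 0, 2])])),
  (36, (lf [(10, [3, 5, 5, 2])]))]))])),
  (14, (nd [(3, (nd [(34, (lf [(10, [12, 30, 0, 2])])),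
  (36, (lf [(10, [3, 4, 4, 23])]))]))]))])),
  (11, (nd [(33, (nd [(21, (nd [(13, (lf [(10, [6, 5, 5, 2])]))])),
  (30, (nd [(13, (lf [(10, [2, 0, 2])]))]))])),
  (39, (nd [(21, (nd [(13, (lf [(10, [2, 10, 3])]))])),
  (30, (nd [(13, (lf [(10, [6, 30, 4, 4])]))]))]))])),
  (8, (nd [(14, (nd [(3, (nd [(36, (lf [(10, [3, 0, 2])])),
  (34, (lf [(10, [10, 30, 0, 2])]))]))])),
  (16, (nd [(4, (nd [(36, (lf [(10, [3, 10, 3])])),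
  (34, (lf [(10, [10, 18, 0, 2])]))]))]))])),
  (6, (nd [(39, (nd [(21, (nd [(19, (lf [(10, [13, 4, 4])]))])),
  (30, (nd [(19, (lf [(10, [11, 18, 0, 2])]))]))])),
  (33, (nd [(21, (nd [(19, (lf [(10, [11, 5, 2])]))])),
  (30, (nd [(19, (lf [(10, [13, 4, 0, 2])]))]))]))]))])),
  (33, (nd [(13, (nd [(29, (nd [(18, (nd [(11, (lf [(5, [11, 22, 2])]))])),
  (12, (nd [(11, (lf [(5, [6, 22, 5, 2])]))]))])),
  (20, (nd [(18, (nd [(11, (lf [(2, [13, 4, 10, 5, 2])]))])),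
  (12, (nd [(11, (lf [(2, [2, 4, 10, 2])]))]))]))])),
  (19, (nd [(20, (nd [(18, (nd [(6, (lf [(2, [11, 2, 4])]))])),
  (12, (nd [(6, (lf [(2, [6, 22, 5, 3])]))]))])),
  (29, (nd [(18, (nd [(6, (lf [(5, [13, 2, 10, 5, 2])]))])),
  (12, (nd [(6, (lf [(5, [2, 2, 10, 2])]))]))]))])),
  (20, (nd [(19, (nd [(22, (nd [(5, (lf [(11, [3, 5, 22, 2, 4])]))])),
  (31, (nd [(5, (lf [(11, [10, 22, 2])]))]))])),
  (13, (nd [(22, (nd [(2, (lf [(11, [3, 22, 18, 2])]))])),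
  (31, (nd [(2, (lf [(11, [12, 23, 4])]))]))]))])),
  (29, (nd [(13, (nd [(22, (nd [(2, (lf [(6, [3, 2, 4, 22, 3])]))])),
  (31, (nd [(2, (lf [(6, [10, 22, 6, 2])]))]))])),
  (19, (nd [(22, (nd [(5, (lf [(6, [3, 8, 22, 2])]))])),
  (31, (nd [(5, (lf [(6, [12, 22, 2])]))]))]))]))])),
  (24, (nd [(32, (nd [(33, (nd [(26, (nd [(15, (lf [(16, [3, 10, 2, 0, 2])]))])),
  (23, (nd [(17, (lf [(14, [3, 30, 5, 2])]))]))])),
  (39, (nd [(26, (nd [(15, (lf [(16, [12, 30, 5, 2])]))])),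
  (23, (nd [(17, (lf [(14, [10, 30, 5, 2])]))]))]))])),
  (38, (nd [(39, (nd [(26, (nd [(17, (lf [(16, [3, 5, 2])]))])),
  (23, (nd [(15, (lf [(14, [3, 4, 10, 3])]))]))])),
  (33, (nd [(26, (nd [(17, (lf [(16, [10, 5, 2])]))])),
  (23, (nd [(15, (lf [(14, [12, 5, 2])]))]))]))]))])),
  (21, (nd [(33, (nd [(32, (nd [(16, (nd [(25, (lf [(23, [3, 30, 2, 0, 2])]))])),
  (14, (nd [(28, (lf [(26, [3, 10, 5, 2])]))]))])),
  (38, (nd [(16, (nd [(25, (lf [(26, [10, 4, 22, 3])]))])),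
  (14, (nd [(28, (lf [(23, [12, 5, 22, 2])]))]))]))])),
  (39, (nd [(38, (nd [(16, (nd [(28, (lf [(23, [3, 2, 0, 2])]))])),
  (14, (nd [(25, (lf [(26, [3, 4, 22, 3])]))]))])),
  (32, (nd [(16, (nd [(28, (lf [(26, [10, 2, 0, 2])]))])),
  (14, (nd [(25, (lf [(23, [12, 2, 0, 2])]))]))]))]))])),
  (16, (nd [(38, (nd [(5, (nd [(1, (nd [(17, (lf [(24, [11, 2])])),
  (15, (lf [(27, [13, 5, 26, 2])]))]))])),
  (2, (nd [(1, (nd [(15, (lf [(27, [2, 2, 24])])),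
  (17, (lf [(24, [6, 5, 2])]))]))]))])),
  (26, (nd [(4, (nd [(1, (nd [(17, (lf [(8, [10, 2])])),
  (15, (lf [(8, [3, 26, 2])]))]))])),
  (3, (nd [(1, (nd [(15, (lf [(8, [12, 2])])),
  (17, (lf [(8, [3, 18, 5, 5, 22])]))]))]))])),
  (32, (nd [(2, (nd [(1, (nd [(17, (lf [(27, [6, 5, 3])])),
  (15, (lf [(24, [2, 18, 2])]))]))])),
  (5, (nd [(1, (nd [(15, (lf [(24, [13, 18, 5, 2])])),
  (17, (lf [(27, [11, 6, 2])]))]))]))])),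
  (23, (nd [(3, (nd [(1, (nd [(17, (lf [(9, [3, 26, 5, 5, 22])])),
  (15, (lf [(9, [12, 6, 2])]))]))])),
  (4, (nd [(1, (nd [(15, (lf [(9, [3, 18, 2])])),
  (17, (lf [(9, [10, 6, 2])]))]))]))]))])),
  (34, (nd [(18, (nd [(31, (nd [(6, (nd [(13, (lf [(20, [2, 22, 3])])),
  (19, (lf [(29, [13, 5, 2, 4])]))]))])),
  (22, (nd [(6, (nd [(19, (lf [(29, [11, 5, 3])])),
  (13, (lf [(20, [6, 5, 2, 0, 2])]))]))]))])),
  (12, (nd [(22, (nd [(11, (nd [(19, (lf [(29, [13, 22, 2, 4])])),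
  (13, (lf [(20, [2, 23, 0, 2])]))]))])),
  (31, (nd [(11, (nd [(13, (lf [(20, [6, 23, 5, 5, 2])])),
  (19, (lf [(29, [11, 23, 5, 2])]))]))]))])),
  (22, (nd [(12, (nd [(2, (nd [(29, (lf [(19, [12, 0, 22, 2])])),
  (20, (lf [(13, [3, 23, 0, 2])]))]))])),
  (18, (nd [(5, (nd [(29, (lf [(19, [10, 0, 22, 2])])),
  (20, (lf [(13, [3, 5, 2, 0, 2])]))]))]))])),
  (31, (nd [(18, (nd [(5, (nd [(20, (lf [(13, [3, 22, 3])])),
  (29, (lf [(19, [12, 22, 18, 3])]))]))])),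
  (12, (nd [(2, (nd [(20, (lf [(13, [3, 23, 5, 5, 2])])),
  (29, (lf [(19, [10, 22, 18, 3])]))]))]))]))])),
  (39, (nd [(29, (nd [(13, (nd [(31, (nd [(2, (lf [(6, [3, 22, 6, 2])]))])),
  (22, (nd [(2, (lf [(6, [12, 22, 18, 2])]))]))])),
  (19, (nd [(31, (nd [(5, (lf [(6, [3, 4, 10, 5, 2])]))])),
  (22, (nd [(5, (lf [(6, [10, 8, 22, 2])]))]))]))])),
  (20, (nd [(19, (nd [(31, (nd [(5, (lf [(11, [3, 22, 2])]))])),
  (22, (nd [(5, (lf [(11, [12, 8, 22, 2])]))]))])),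
  (13, (nd [(31, (nd [(2, (lf [(11, [3, 2, 10, 5, 2])]))])),
  (22, (nd [(2, (lf [(11, [10, 22, 18, 2])]))]))]))])),
  (19, (nd [(20, (nd [(12, (nd [(6, (lf [(2, [2, 22, 2])]))])),
  (18, (nd [(6, (lf [(2, [13, 22, 5, 2])]))]))])),
  (29, (nd [(12, (nd [(6, (lf [(5, [6, 4, 10, 5, 2])]))])),
  (18, (nd [(6, (lf [(5, [11, 4, 10, 2])]))]))]))])),
  (13, (nd [(29, (nd [(12, (nd [(11, (lf [(5, [2, 2, 4])]))])),
  (18, (nd [(11, (lf [(5, [13, 22, 5, 3])]))]))])),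
  (20, (nd [(12, (nd [(11, (lf [(2, [6, 2, 10, 5, 2])]))])),
  (18, (nd [(11, (lf [(2, [11, 2, 10, 2])]))]))]))]))])),
  (36, (nd [(22, (nd [(12, (nd [(2, (nd [(20, (lf [(13, [10, 23, 0, 2])])),
  (29, (lf [(19, [3, 2, 22, 5, 2])]))]))])),
  (18, (nd [(5, (nd [(20, (lf [(13, [12, 22, 5])])),
  (29, (lf [(19, [3, 0, 22, 2])]))]))]))])),
  (31, (nd [(18, (nd [(5, (nd [(29, (lf [(19, [3, 4, 22, 5, 2])])),
  (20, (lf [(13, [10, 22, 3])]))]))])),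
  (12, (nd [(2, (nd [(29, (lf [(19, [3, 22, 18, 3])])),
  (20, (lf [(13, [12, 22, 3])]))]))]))])),
  (18, (nd [(31, (nd [(6, (nd [(19, (lf [(29, [11, 23, 0, 2])])),
  (13, (lf [(20, [6, 22, 2, 4])]))]))])),
  (22, (nd [(6, (nd [(13, (lf [(20, [2, 23, 5, 2])])),
  (19, (lf [(29, [13, 23, 5, 5, 2])]))]))]))])),
  (12, (nd [(22, (nd [(11, (nd [(13, (lf [(20, [6, 5, 2, 4])])),
  (19, (lf [(29, [11, 22, 3])]))]))])),
  (31, (nd [(11, (nd [(19, (lf [(29, [13, 5, 2, 0, 2])])),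
  (13, (lf [(20, [2, 5, 3])]))]))]))]))]))]) .nil)

theorem si : solveB (nat_lit 6) (nat_lit 63) stt (nat_lit 40) 100 sB (fun _ => true) sch 0 []
    [] [] (prEq 100 [] [] ++ [[200, 200]]) [] [] (fun u => Nat.blt (u.headD 0) 14) (mkC reps) tsi cti = true := by
  decide +kernel

def L5 : List (List ℕ) := [[], [28, 18], [5], [28, 18, 5], [4], [10, 20, 2], [12], [18, 8, 6], [18, 8, 6, 5], [12, 5], [5, 5], [28, 18, 5, 5], [12, 4], [10, 8, 2], [4, 4], [4, 10, 20, 2], [2, 22, 20, 2, 1], [12, 5, 5], [12, 4, 4], [4, 10, 8, 2]]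

noncomputable def ts5 : List Tst := [⟨[], [], [⟨0, [0], [4], [4]⟩, ⟨0, [1], [5], [5]⟩, ⟨0, [0, 0], [4, 4], [4, 4]⟩]⟩,
  ⟨[⟨0, [1], [5], [5]⟩], [], []⟩,
  ⟨[], [], [⟨0, [0], [4], [4]⟩, ⟨0, [1], [5], [5]⟩, ⟨0, [0, 0], [4, 4], [4, 4]⟩]⟩,
  ⟨[], [], [⟨0, [0], [4], [4]⟩, ⟨0, [1], [5], [5]⟩, ⟨0, [0, 0], [4, 4], [4, 4]⟩]⟩,
  ⟨[], [], [⟨0, [0], [4], [4]⟩, ⟨0, [1], [5], [5]⟩, ⟨0, [0, 0], [4, 4], [4, 4]⟩]⟩,
  ⟨[], [], [⟨0, [0], [4], [4]⟩, ⟨0, [1], [5], [5]⟩, ⟨0, [0, 0], [4, 4], [4, 4]⟩]⟩]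

noncomputable def ct5 : CT := (.node 0 [] [] (nat_lit 0x0) (nd [(0, (nd [(11, (nd [(2, (nd [(12, (nd [(13, (lf [(20, [])]))])),
  (18, (nd [(13, (lf [(29, [28, 18])]))]))]))]))])),
  (3, (nd [(0, (nd [(19, (nd [(39, (nd [(28, (lf [(30, [5])]))])),
  (33, (nd [(28, (lf [(21, [28, 18, 5])]))]))]))]))])),
  (11, (nd [(22, (nd [(7, (nd [(27, (nd [(5, (lf [(32, [4])]))])),
  (24, (nd [(5, (lf [(38, [10, 20, 2])]))]))]))]))])),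
  (10, (nd [(6, (nd [(5, (nd [(18, (nd [(19, (lf [(29, [12])]))])),
  (12, (nd [(19, (lf [(20, [18, 8, 6])]))]))]))]))])),
  (4, (nd [(10, (nd [(13, (nd [(39, (nd [(25, (lf [(30, [18, 8, 6, 5])]))])),
  (33, (nd [(25, (lf [(21, [12, 5])]))]))]))]))])),
  (17, (nd [(3, (nd [(25, (nd [(34, (nd [(8, (lf [(14, [5, 5])]))])),
  (36, (nd [(8, (lf [(16, [28, 18, 5, 5])]))]))]))]))])),
  (6, (nd [(31, (nd [(1, (nd [(24, (nd [(2, (lf [(38, [12, 4])]))])),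
  (27, (nd [(2, (lf [(32, [10, 8, 2])]))]))]))]))])),
  (22, (nd [(17, (nd [(9, (nd [(23, (nd [(1, (lf [(37, [4, 4])]))])),
  (26, (nd [(1, (lf [(35, [4, 10, 20, 2])]))]))]))]))])),
  (15, (nd [(4, (nd [(28, (nd [(34, (nd [(9, (lf [(14, [2, 22, 20, 2, 1])]))])),
  (36, (nd [(9, (lf [(16, [12, 5, 5])]))]))]))]))])),
  (31, (nd [(15, (nd [(8, (nd [(26, (nd [(7, (lf [(35, [12, 4, 4])]))])),
  (23, (nd [(7, (lf [(37, [4, 10, 8, 2])]))]))]))]))]))]) .nil)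

theorem s5 : solveB (nat_lit 6) (nat_lit 63) stt (nat_lit 40) 100 sB (fun _ => true) sch 0 []
    [[4]] [[4]] (prEq 100 [[4]] [[4]] ++ []) [] [] (memLL L5) id ts5 ct5 = true := by
  decide +kernel

def Y16 : List (List ℕ) := [[], [0], [18], [0, 18], [10], [10, 0], [10, 18], [10, 0, 18], [8], [8, 0], [8, 18], [8, 0, 18], [10, 8], [10, 8, 0], [10, 8, 18], [10, 8, 0, 18]]

def N48 : List (List ℕ) := [[6], [6, 0], [6, 18], [6, 0, 18], [12], [12, 0], [12, 18], [12, 0, 18], [20], [20, 0], [20, 18], [20, 0, 18], [28], [28, 0], [28, 18], [28, 0, 18], [2, 5], [2, 5, 0], [2, 5, 18], [2, 5, 0, 18], [8, 6], [8, 6, 0], [8, 6, 18], [8, 6, 0, 18], [12, 6], [12, 6, 0], [12, 6, 18], [12, 6, 0, 18], [12, 10], [12, 10, 0], [12, 10, 18], [12, 10, 0, 18], [20, 10], [20, 10, 0], [20, 10, 18], [20, 10, 0, 18], [28, 10], [28, 10, 0], [28, 10, 18], [28, 10, 0,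 18], [8, 2, 5], [8, 2, 5, 0], [8, 2, 5, 18], [8, 2, 5, 0, 18], [12, 2, 5], [12, 2, 5, 0], [12, 2, 5, 18], [12, 2, 5, 0, 18]]

noncomputable def tsv : List Tst := [⟨[], [], [⟨0, [0], [0], [0]⟩]⟩,
  ⟨[], [], [⟨0, [0], [0], [0]⟩]⟩,
  ⟨[], [], [⟨0, [0], [0], [0]⟩]⟩,
  ⟨[], [], [⟨0, [0], [0], [0]⟩]⟩,
  ⟨[], [], [⟨0, [0], [0], [0]⟩]⟩,
  ⟨[⟨1, [0], [0], [0]⟩], [], []⟩]

noncomputable def ctv : CT := (.node 0 [] [] (nat_lit 0x0) (nd [(0, (nd [(11, (nd [(2, (nd [(12, (nd [(13, (lf [(20, [])])),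
  (19, (lf [(20, [28])]))])),
  (18, (nd [(19, (lf [(29, [18])])),
  (13, (lf [(29, [28, 18])]))]))]))])),
  (6, (nd [(5, (nd [(12, (nd [(13, (lf [(20, [6])])),
  (19, (lf [(20, [20])]))])),
  (18, (nd [(19, (lf [(29, [6, 18])])),
  (13, (lf [(29, [20, 18])]))]))]))])),
  (5, (nd [(6, (nd [(31, (nd [(29, (lf [(19, [10])])),
  (20, (lf [(19, [28, 10, 18])]))])),
  (22, (nd [(20, (lf [(13, [10, 18])])),
  (29, (lf [(13, [28, 10])]))]))]))])),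
  (2, (nd [(11, (nd [(31, (nd [(29, (lf [(19, [2, 5])])),
  (20, (lf [(19, [20, 10, 18])]))])),
  (22, (nd [(20, (lf [(13, [2, 5, 18])])),
  (29, (lf [(13, [20, 10])]))]))]))]))])),
  (1, (nd [(5, (nd [(6, (nd [(20, (nd [(22, (lf [(12, [0])])),
  (31, (lf [(12, [28, 0])]))])),
  (29, (nd [(31, (lf [(18, [0, 18])])),
  (22, (lf [(18, [28, 0, 18])]))]))]))])),
  (2, (nd [(11, (nd [(20, (nd [(22, (lf [(12, [6, 0])])),
  (31, (lf [(12, [20, 0])]))])),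
  (29, (nd [(31, (lf [(18, [6, 0, 18])])),
  (22, (lf [(18, [20, 0, 18])]))]))]))])),
  (11, (nd [(2, (nd [(19, (nd [(18, (lf [(31, [10, 0])])),
  (12, (lf [(31, [28, 10, 0, 18])]))])),
  (13, (nd [(12, (lf [(22, [10, 0, 18])])),
  (18, (lf [(22, [28, 10, 0])]))]))]))])),
  (6, (nd [(5, (nd [(19, (nd [(18, (lf [(31, [2, 5, 0])])),
  (12, (lf [(31, [20, 10, 0, 18])]))])),
  (13, (nd [(12, (lf [(22, [2, 5, 0, 18])])),
  (18, (lf [(22, [20, 10, 0])]))]))]))]))])),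
  (10, (nd [(11, (nd [(2, (nd [(18, (nd [(13, (lf [(29, [8])])),
  (19, (lf [(29, [12, 6])]))])),
  (12, (nd [(19, (lf [(20, [8, 18])])),
  (13, (lf [(20, [12, 6, 18])]))]))]))])),
  (6, (nd [(5, (nd [(18, (nd [(13, (lf [(29, [8, 6])])),
  (19, (lf [(29, [12])]))])),
  (12, (nd [(19, (lf [(20, [8, 6, 18])])),
  (13, (lf [(20, [12, 18])]))]))]))])),
  (5, (nd [(6, (nd [(31, (nd [(20, (lf [(19, [10, 8, 18])])),
  (29, (lf [(19, [12, 2, 5, 18])]))])),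
  (22, (nd [(29, (lf [(13, [10, 8])])),
  (20, (lf [(13, [12, 2, 5])]))]))]))])),
  (2, (nd [(11, (nd [(31, (nd [(20, (lf [(19, [8, 2, 5])])),
  (29, (lf [(19, [12, 10, 18])]))])),
  (22, (nd [(29, (lf [(13, [8, 2, 5, 18])])),
  (20, (lf [(13, [12, 10])]))]))]))]))])),
  (7, (nd [(5, (nd [(6, (nd [(29, (nd [(22, (lf [(18, [8, 0])])),
  (31, (lf [(18, [12, 6, 0])]))])),
  (20, (nd [(31, (lf [(12, [8, 0, 18])])),
  (22, (lf [(12, [12, 6, 0, 18])]))]))]))])),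
  (2, (nd [(11, (nd [(29, (nd [(22, (lf [(18, [8, 6, 0])])),
  (31, (lf [(18, [12, 0])]))])),
  (20, (nd [(31, (lf [(12, [8, 6, 0, 18])])),
  (22, (lf [(12, [12, 0, 18])]))]))]))])),
  (11, (nd [(2, (nd [(19, (nd [(12, (lf [(31, [10, 8, 0, 18])])),
  (18, (lf [(31, [12, 2, 5, 0, 18])]))])),
  (13, (nd [(18, (lf [(22, [10, 8, 0])])),
  (12, (lf [(22, [12, 2, 5, 0])]))]))]))])),
  (6, (nd [(5, (nd [(19, (nd [(12, (lf [(31, [8, 2, 5, 0])])),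
  (18, (lf [(31, [12, 10, 0, 18])]))])),
  (13, (nd [(18, (lf [(22, [8, 2, 5, 0, 18])])),
  (12, (lf [(22, [12, 10, 0])]))]))]))]))]))]) .nil)

theorem sv : solveB (nat_lit 6) (nat_lit 63) stt (nat_lit 40) 100 sB (fun _ => true) sch 0 []
    [[0]] [[0]] (prEq 100 [[0]] [[0]] ++ []) [] [] (memLL (Y16 ++ N48)) id tsv ctv = true := by
  decide +kernel

end Cfsg.Agent.Lib.HNB
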