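import Cfsg.Agent.Lib.DCEDefs

set_option autoImplicit false
set_option maxRecDepth 100000

namespace Cfsg.Agent.Lib.HND
open Cfsg.Agent.Lib.PermNet Cfsg.Agent.Lib.DCE

noncomputable def f0 : FT := (.node (nat_lit 16) (.node (nat_lit 8) (.node (nat_lit 4) (.node (nat_lit 2) (.node (nat_lit 1) (.leaf ⟨0, 0, false, [0], []⟩)
  (.leaf ⟨0, 0, false, [2], []⟩))
  (.node (nat_lit 3) (.leaf ⟨0, 0, false, [4], []⟩)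
  (.leaf ⟨0, 0, false, [6], []⟩)))
  (.node (nat_lit 6) (.node (nat_lit 5) (.leaf ⟨0, 0, false, [8], []⟩)
  (.leaf ⟨0, 0, false, [10], []⟩))
  (.node (nat_lit 7) (.leaf ⟨0, 1, true, [], []⟩)
  (.leaf ⟨1, 0, true, [0, 0], [0, 0]⟩))))
  (.node (nat_lit 12) (.node (nat_lit 10) (.node (nat_lit 9) (.leaf ⟨1, 1, false, [2], []⟩)
  (.leaf ⟨1, 1, false, [12], []⟩))
  (.node (nat_lit 11) (.leaf ⟨1, 1, true, [0], [0, 0]⟩)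
  (.leaf ⟨1, 1, true, [], [0]⟩)))
  (.node (nat_lit 14) (.node (nat_lit 13) (.leaf ⟨1, 1, true, [1], [1]⟩)
  (.leaf ⟨1, 1, true, [3, 3, 4], [11, 1, 2, 16, 18, 22, 21, 18, 22, 18]⟩))
  (.node (nat_lit 15) (.leaf ⟨1, 2, true, [4, 0], []⟩)
  (.leaf ⟨2, 1, true, [0, 0], [11, 17]⟩)))))
  (.node (nat_lit 24) (.node (nat_lit 20) (.node (nat_lit 18) (.node (nat_lit 17) (.leaf ⟨2, 2, false, [16, 15, 2, 22], []⟩)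
  (.leaf ⟨2, 2, false, [16, 12, 2], []⟩))
  (.node (nat_lit 19) (.leaf ⟨2, 1, true, [0], [4, 2, 13, 2]⟩)
  (.leaf ⟨1, 2, true, [11, 1], [0, 15, 2, 22]⟩)))
  (.node (nat_lit 22) (.node (nat_lit 21) (.leaf ⟨2, 2, true, [], [0, 0, 16, 15, 2, 22]⟩)
  (.leaf ⟨2, 2, false, [11, 15, 2, 22], []⟩))
  (.node (nat_lit 23) (.leaf ⟨1, 3, true, [2, 10], []⟩)
  (.leaf ⟨3, 1, true, [0, 0], [4, 0, 16, 3]⟩))))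
  (.node (nat_lit 28) (.node (nat_lit 26) (.node (nat_lit 25) (.leaf ⟨3, 3, false, [15, 2, 14, 3, 25, 25, 20], []⟩)
  (.leaf ⟨3, 3, false, [2, 15, 12, 15, 24], []⟩))
  (.node (nat_lit 27) (.leaf ⟨3, 3, false, [17, 12, 2, 25, 18, 22], []⟩)
  (.leaf ⟨3, 2, true, [0], [1, 3, 15, 18, 24, 18, 22, 18]⟩)))
  (.node (nat_lit 30) (.node (nat_lit 29) (.leaf ⟨2, 3, true, [1], [0, 16, 15, 2, 2, 22, 24, 22]⟩)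
  (.leaf ⟨3, 3, false, [0, 0, 17, 12, 2, 25, 18, 22], []⟩))
  (.node (nat_lit 31) (.leaf ⟨3, 3, false, [11, 1, 12, 2], []⟩)
  (.leaf ⟨1, 4, true, [10, 10], []⟩))))))

noncomputable def f32 : FT := (.node (nat_lit 48) (.node (nat_lit 40) (.node (nat_lit 36) (.node (nat_lit 34) (.node (nat_lit 33) (.leaf ⟨4, 1, true, [0, 0], [10, 10, 2, 14, 12, 14, 25, 22, 25, 21, 18]⟩)
  (.leaf ⟨4, 4, false, [2, 16, 14, 13, 25, 22, 21, 18], []⟩))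
  (.node (nat_lit 35) (.leaf ⟨4, 4, false, [16, 14, 2, 15, 24, 22, 20, 20], []⟩)
  (.leaf ⟨4, 4, true, [1], [1, 13, 14, 3, 12, 20, 18, 22]⟩)))
  (.node (nat_lit 38) (.node (nat_lit 37) (.leaf ⟨4, 2, true, [10, 8, 6, 4], [11, 8, 7, 4, 12, 14, 25, 25]⟩)
  (.leaf ⟨2, 4, true, [6, 2, 8, 0], [11, 1, 16, 13, 2, 20, 22, 18, 22, 18]⟩))
  (.node (nat_lit 39) (.leaf ⟨4, 3, true, [7, 9, 4, 8], [9, 4, 8, 1, 14, 16, 15, 24, 22, 20, 20, 18]⟩)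
  (.leaf ⟨3, 4, true, [2, 10, 0], [11, 1, 14, 20, 22, 18]⟩))))
  (.node (nat_lit 44) (.node (nat_lit 42) (.node (nat_lit 41) (.leaf ⟨4, 2, true, [4], [11, 15, 17, 3, 21, 18]⟩)
  (.leaf ⟨2, 4, true, [7, 2, 8], [11, 1, 13, 17, 20, 22, 24, 22, 21]⟩))
  (.node (nat_lit 43) (.leaf ⟨4, 4, false, [10, 1, 15, 16, 15, 2, 21, 18], []⟩)
  (.leaf ⟨2, 2, true, [7, 11, 8], [0, 10, 3, 4, 2, 13, 13, 2, 25, 18, 22]⟩)))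
  (.node (nat_lit 46) (.node (nat_lit 45) (.leaf ⟨4, 4, false, [4, 10, 12, 2, 13, 13, 20, 20, 22], []⟩)
  (.leaf ⟨3, 3, false, [3, 4, 8, 17, 20, 22, 24, 22, 21], []⟩))
  (.node (nat_lit 47) (.leaf ⟨4, 4, true, [11, 8, 3, 4], [8, 8, 3, 4, 16, 3, 13, 2, 21, 21, 22, 20, 18]⟩)
  (.leaf ⟨4, 4, true, [2, 2, 11, 7, 4], [6, 10, 2, 8, 12, 14, 22, 18, 25]⟩)))))
  (.node (nat_lit 56) (.node (nat_lit 52) (.node (nat_lit 50) (.node (nat_lit 49) (.leaf ⟨2, 1, true, [3, 6, 8], [4, 10, 15, 12, 2, 2, 18, 22, 20, 18, 22]⟩)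
  (.leaf ⟨1, 2, true, [11, 4], [10, 0, 0, 14, 12, 12, 12, 22, 24, 22, 21]⟩))
  (.node (nat_lit 51) (.leaf ⟨2, 4, true, [7, 2, 8, 0], [0, 0, 15, 3, 12, 20, 22, 18, 22]⟩)
  (.leaf ⟨4, 2, true, [], [10, 0, 3, 16, 14, 13, 22]⟩)))
  (.node (nat_lit 54) (.node (nat_lit 53) (.leaf ⟨2, 2, true, [3, 6, 8, 0], [10, 1, 3, 12, 12, 12, 24, 18]⟩)
  (.leaf ⟨1, 5, true, [11, 8, 10], []⟩))
  (.node (nat_lit 55) (.leaf ⟨5, 1, true, [0, 0], [9, 9, 4, 12]⟩)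
  (.leaf ⟨5, 5, false, [2, 15, 12, 15, 24], []⟩))))
  (.node (nat_lit 60) (.node (nat_lit 58) (.node (nat_lit 57) (.leaf ⟨5, 5, false, [13, 14, 13, 22, 20, 20, 18], []⟩)
  (.leaf ⟨5, 5, false, [3, 13, 14, 25, 22, 25, 22, 18], []⟩))
  (.node (nat_lit 59) (.leaf ⟨5, 5, true, [0], [0, 0, 15, 16, 16, 22, 24, 22]⟩)
  (.leaf ⟨5, 5, true, [], [0, 2, 16, 12, 14, 21, 21]⟩)))
  (.node (nat_lit 62) (.node (nat_lit 61) (.leaf ⟨5, 5, true, [1], [1, 17, 3, 15, 24, 22, 24, 22, 20]⟩)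
  (.leaf ⟨5, 2, true, [10, 7, 8, 8], [7, 10, 1, 2, 8, 13, 14, 3, 25, 22, 24, 22, 20, 18]⟩))
  (.node (nat_lit 63) (.leaf ⟨2, 5, true, [8, 6, 8], [0, 6, 8, 13, 13, 17, 3, 25, 22, 18]⟩)
  (.leaf ⟨5, 4, true, [8, 8, 7, 4], [6, 9, 4, 8, 2, 2, 15, 3, 18, 22, 18, 22, 18]⟩))))))

noncomputable def f64 : FT := (.node (nat_lit 80) (.node (nat_lit 72) (.node (nat_lit 68) (.node (nat_lit 66) (.node (nat_lit 65) (.leaf ⟨4, 5, true, [7, 10], [11, 1, 15, 13, 13, 2, 25, 18]⟩)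
  (.leaf ⟨5, 5, true, [8, 8, 6, 4], [11, 1, 10, 8, 13, 2, 14, 2, 20, 22, 24, 22, 18]⟩))
  (.node (nat_lit 67) (.leaf ⟨5, 5, false, [11, 9, 10, 15, 12, 12, 2, 18, 22, 24, 18], []⟩)
  (.leaf ⟨5, 5, true, [9, 11, 6, 11, 4], [7, 9, 7, 4, 16, 13, 14, 16, 25, 21, 18]⟩)))
  (.node (nat_lit 70) (.node (nat_lit 69) (.leaf ⟨4, 5, true, [0, 11, 3, 3, 4], [4, 2, 8, 2, 15, 12, 22, 25, 22, 20, 20, 18]⟩)
  (.leaf ⟨5, 4, true, [7, 11, 6, 10], [8, 8, 6, 8, 8, 2, 14, 14, 22, 25, 21, 22]⟩))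
  (.node (nat_lit 71) (.leaf ⟨5, 5, true, [9, 11, 7, 8, 10], [8, 1, 2, 8, 16, 13, 13, 25, 18, 22]⟩)
  (.leaf ⟨3, 6, true, [2, 10], []⟩))))
  (.node (nat_lit 76) (.node (nat_lit 74) (.node (nat_lit 73) (.leaf ⟨6, 3, true, [0, 0], [4, 0, 16, 3]⟩)
  (.leaf ⟨6, 6, false, [3, 14, 17, 22, 24, 22, 20, 20], []⟩))
  (.node (nat_lit 75) (.leaf ⟨6, 6, false, [16, 14, 2, 15, 18, 24, 18], []⟩)
  (.leaf ⟨6, 4, true, [0], [4, 3, 13, 14, 20, 22, 18]⟩)))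
  (.node (nat_lit 78) (.node (nat_lit 77) (.leaf ⟨4, 6, true, [11, 8, 7, 4], [0, 16, 16, 25, 22, 24, 21]⟩)
  (.leaf ⟨6, 4, true, [], [4, 0, 3, 13, 14, 20, 22, 18]⟩))
  (.node (nat_lit 79) (.leaf ⟨4, 6, true, [9, 0, 9, 4], [0, 0, 16, 16, 25, 22, 24, 21]⟩)
  (.leaf ⟨6, 6, true, [1], [1]⟩)))))
  (.node (nat_lit 88) (.node (nat_lit 84) (.node (nat_lit 82) (.node (nat_lit 81) (.leaf ⟨6, 4, true, [0, 7, 10, 4, 8, 0], [7, 8, 8, 1, 17, 12, 2, 21]⟩)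
  (.leaf ⟨4, 6, true, [3, 9, 6, 8], [11, 8, 7, 4, 3, 14, 2, 18, 22, 24, 22, 21]⟩))
  (.node (nat_lit 83) (.leaf ⟨6, 6, true, [11, 3, 11, 8], [8, 0, 0, 3, 13, 15, 12, 24, 21, 18]⟩)
  (.leaf ⟨6, 6, false, [11, 7, 11, 8, 0, 16, 15, 2, 2, 21, 18, 22, 24, 22, 18], []⟩)))
  (.node (nat_lit 86) (.node (nat_lit 85) (.leaf ⟨6, 6, true, [10, 10, 4, 8, 8], [7, 8, 0, 15, 3, 13, 17, 21, 22, 20, 20]⟩)
  (.leaf ⟨6, 2, true, [4], [4, 0, 2, 16, 3, 25, 22, 25, 21, 18]⟩))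
  (.node (nat_lit 87) (.leaf ⟨2, 6, true, [10, 4, 2, 8], [11, 1, 13, 13, 2]⟩)
  (.leaf ⟨6, 6, true, [1, 3, 7, 9, 4], [7, 10, 4, 6, 8, 17, 3, 14, 25, 21, 22, 25, 22]⟩))))
  (.node (nat_lit 92) (.node (nat_lit 90) (.node (nat_lit 89) (.leaf ⟨5, 6, true, [10, 1, 11, 3, 4], [3, 6, 8, 14, 2, 2, 2, 22, 24, 22, 18]⟩)
  (.leaf ⟨6, 5, true, [10, 0, 0], [10, 0, 0, 15, 2, 16, 25, 25, 20]⟩))
  (.node (nat_lit 91) (.leaf ⟨2, 6, true, [2, 2, 11, 3, 4], [9, 4, 8, 17, 3, 15, 12, 25, 22, 24, 22, 18]⟩)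
  (.leaf ⟨6, 2, true, [7, 3, 3, 4], [7, 9, 10, 0, 2, 15, 16, 24, 18, 24, 18]⟩)))
  (.node (nat_lit 94) (.node (nat_lit 93) (.leaf ⟨6, 6, true, [6, 6, 2, 8], [11, 14, 16, 20, 18, 22, 21]⟩)
  (.leaf ⟨6, 6, true, [6, 6, 8, 1], [4, 16, 14, 14, 12, 21, 18, 22, 18, 22, 18]⟩))
  (.node (nat_lit 95) (.leaf ⟨5, 6, true, [11, 9, 7, 11, 8], [11, 7, 8, 6, 8, 1, 13, 13, 2, 2, 22, 24, 22, 21]⟩)
  (.leaf ⟨6, 5, true, [9, 10, 6, 4], [6, 9, 9, 11, 8, 2, 15, 2, 25, 22, 20, 18, 22, 18]⟩))))))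

noncomputable def f96 : FT := (.node (nat_lit 112) (.node (nat_lit 104) (.node (nat_lit 100) (.node (nat_lit 98) (.node (nat_lit 97) (.leaf ⟨4, 6, true, [10, 8, 6, 11], [9, 10, 3, 4, 14, 3, 12, 2, 22, 25, 22, 25]⟩)
  (.leaf ⟨6, 4, true, [11, 1], [10, 0, 0, 13, 17, 12, 2, 24, 22, 21]⟩))
  (.node (nat_lit 99) (.leaf ⟨2, 6, true, [2, 11, 7, 4], [3, 7, 10, 2, 8, 17, 15, 16, 24, 24, 21, 21, 18]⟩)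
  (.leaf ⟨6, 2, true, [11, 9, 3, 11, 4], [2, 0, 10, 8, 13, 17, 14, 14, 24, 20, 22, 21]⟩)))
  (.node (nat_lit 102) (.node (nat_lit 101) (.leaf ⟨5, 6, true, [6, 9, 10], [3, 11, 4, 16, 12, 25, 20]⟩)
  (.leaf ⟨6, 5, true, [7, 11, 3, 4], [8, 10, 14, 16, 14, 3]⟩))
  (.node (nat_lit 103) (.leaf ⟨6, 6, true, [6, 10, 2, 8], [0, 10, 8, 16, 15, 2, 2, 21, 21]⟩)
  (.leaf ⟨6, 6, true, [8, 8], [11, 11, 8, 7, 4, 13, 14, 22, 24, 20, 22, 21]⟩))))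
  (.node (nat_lit 108) (.node (nat_lit 106) (.node (nat_lit 105) (.leaf ⟨4, 6, true, [4, 2, 8, 8, 0], [9, 10, 2, 8, 3, 16, 15, 22, 18, 22, 20, 18]⟩)
  (.leaf ⟨6, 4, true, [9, 11, 6, 8, 1], [2, 11, 9, 4, 15, 2, 16, 3, 22, 25, 21, 22]⟩))
  (.node (nat_lit 107) (.leaf ⟨6, 6, true, [8, 7, 10, 10, 8], [7, 7, 8, 10, 1, 2, 2, 2, 20, 22, 24, 22, 21, 18]⟩)
  (.leaf ⟨6, 6, true, [9, 9, 3, 11, 4], [9, 3, 11, 4, 8, 2, 13, 13, 25, 22, 24, 22, 20, 18]⟩)))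
  (.node (nat_lit 110) (.node (nat_lit 109) (.leaf ⟨5, 6, true, [11, 6, 8, 7, 10], [0, 3, 7, 11, 8, 15, 2, 14, 12, 25, 21, 22, 25, 22, 20]⟩)
  (.leaf ⟨6, 5, true, [2, 2, 11, 3, 4], [8, 7, 10, 6, 4, 14, 3, 12, 12, 25]⟩))
  (.node (nat_lit 111) (.leaf ⟨5, 6, true, [1, 7, 10, 4, 8], [10, 6, 2, 8, 0, 12, 3, 20]⟩)
  (.leaf ⟨6, 5, true, [10, 10, 8, 8, 0], [3, 3, 11, 14, 14, 2, 18, 22, 21, 18]⟩)))))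
  (.node (nat_lit 120) (.node (nat_lit 116) (.node (nat_lit 114) (.node (nat_lit 113) (.leaf ⟨6, 6, true, [7, 7, 7, 8], [3, 7, 4, 3, 14, 17, 3, 21, 22, 25]⟩)
  (.leaf ⟨6, 6, true, [6, 1, 10, 8], [7, 9, 3, 11, 4, 17, 14, 3, 22, 25, 22, 25, 18]⟩))
  (.node (nat_lit 115) (.leaf ⟨6, 7, true, [8, 8, 1, 8], []⟩)
  (.leaf ⟨7, 6, true, [0, 0], [11, 8, 3, 4, 3]⟩)))
  (.node (nat_lit 118) (.node (nat_lit 117) (.leaf ⟨7, 7, false, [12, 12, 12], []⟩)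
  (.leaf ⟨7, 7, false, [15, 13, 13, 2, 21], []⟩))
  (.node (nat_lit 119) (.leaf ⟨7, 7, false, [16, 14, 14, 12, 22, 18, 22], []⟩)
  (.leaf ⟨7, 7, false, [1, 16, 3, 12, 12, 21, 18], []⟩))))
  (.node (nat_lit 124) (.node (nat_lit 122) (.node (nat_lit 121) (.leaf ⟨7, 7, false, [8, 8, 7, 10, 14, 13, 15, 12, 21, 18, 22, 18, 22], []⟩)
  (.leaf ⟨7, 7, true, [8, 1, 11, 3, 4], [11, 1, 13, 16, 16, 25, 21, 22, 20, 18]⟩))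
  (.node (nat_lit 123) (.leaf ⟨4, 8, true, [6, 4, 10], []⟩)
  (.leaf ⟨8, 4, true, [0, 0], [10, 10, 3, 3, 13, 13, 24, 22, 24, 22, 21]⟩)))
  (.node (nat_lit 126) (.node (nat_lit 125) (.leaf ⟨8, 8, false, [2, 15, 12, 15, 24], []⟩)
  (.leaf ⟨8, 8, false, [13, 17, 12, 22, 18, 22, 20, 18], []⟩))
  (.node (nat_lit 127) (.leaf ⟨8, 6, true, [0], [10, 6, 11, 8, 13, 16, 14, 22, 24, 20, 22, 21]⟩)
  (.leaf ⟨6, 8, true, [1, 7, 10, 4, 8, 0], [0, 14, 12, 2, 25, 22, 24]⟩))))))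

noncomputable def f128 : FT := (.node (nat_lit 132) (.node (nat_lit 130) (.node (nat_lit 129) (.leaf ⟨8, 6, true, [], [11, 6, 9, 10, 1, 3, 14, 2, 15, 22, 20, 18, 22, 18]⟩)
  (.leaf ⟨6, 8, true, [0, 7, 10, 4, 8], [0, 0, 3, 14, 2, 22, 18, 22, 21, 18]⟩))
  (.node (nat_lit 131) (.leaf ⟨8, 8, true, [1], [1, 2, 21, 21, 22, 20]⟩)
  (.leaf ⟨8, 6, true, [8, 1, 11, 3, 4], [4, 10, 4, 8, 0, 16, 3, 14, 2, 22, 25, 22, 21]⟩)))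
  (.node (nat_lit 134) (.node (nat_lit 133) (.leaf ⟨6, 8, true, [10, 10, 6, 8, 10], [11, 6, 8, 8, 3, 14, 12, 2, 25, 18, 25, 18]⟩)
  (.leaf ⟨8, 8, false, [11, 0, 3, 9, 4, 13, 2, 14, 25, 25, 21, 21, 18], []⟩))
  (.node (nat_lit 135) (.leaf ⟨8, 8, true, [9, 6, 10, 3, 4], [10, 3, 4, 8, 16, 12, 12, 15, 25, 21, 22, 20]⟩)
  (.node (nat_lit 136) (.leaf ⟨8, 5, true, [10, 8, 6, 4], [6, 10, 2, 8, 8, 1, 17, 14, 12, 20, 22, 18]⟩)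
  (.leaf ⟨5, 8, true, [0, 10, 10, 2, 8], [8, 10, 10, 8, 8, 12, 2, 15, 22, 20, 18, 22, 18]⟩)))))



end Cfsg.Agent.Lib.HND
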