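import Cfsg.Agent.Lib.HNDN0

set_option autoImplicit false
set_option maxRecDepth 100000

namespace Cfsg.Agent.Lib.HND
open Cfsg.Agent.Lib.PermNet

noncomputable def nets : NL := (.cons net0 (.cons net1 (.cons net2 (.cons net3 (.cons net4 (.cons net5 (.cons net6 (.cons net7 (.cons net8 (.cons net9 (.cons net10 (.cons net11 (.cons net12 (.cons net13 (.cons net14 (.cons net15 (.cons net16 (.cons net17 (.cons net18 (.cons net19 (.cons net20 (.cons net21 (.cons net22 (.cons net23 (.cons net24 .nil)))))))))))))))))))))))))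

theorem hv : nets.Valid 2816 := ⟨valid0, ⟨valid1, ⟨valid2, ⟨valid3, ⟨valid4, ⟨valid5, ⟨valid6, ⟨valid7, ⟨valid8, ⟨valid9, ⟨valid10, ⟨valid11, ⟨valid12, ⟨valid13, ⟨valid14, ⟨valid15, ⟨valid16, ⟨valid17, ⟨valid18, ⟨valid19, ⟨valid20, ⟨valid21, ⟨valid22, ⟨valid23, ⟨valid24, trivial⟩⟩⟩⟩⟩⟩⟩⟩⟩⟩⟩⟩⟩⟩⟩⟩⟩⟩⟩⟩⟩⟩⟩⟩⟩

def rels0 : List (List Nat × List Nat) := [([2, 2, 2], [3, 3, 3]),
  ([0, 0, 2], [2, 1, 1]),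
  ([1, 3, 0, 2, 1, 3], [3, 1, 2, 0, 3, 1]),
  ([1, 2, 2, 0, 2, 2, 2, 1, 2, 2, 0], [3, 3, 3, 1, 3, 3, 0, 3, 3, 3]),
  ([0, 2, 0, 2, 0, 2, 0, 2], [3, 1, 3, 1, 3, 1, 3, 1]),
  ([0, 2, 0, 2, 2, 2, 0, 2, 0, 2, 2, 2], [3, 3, 3, 1, 3, 1, 3, 3, 3, 1, 3, 1]),
  ([4], [5]),
  ([4, 0], [1, 5]),
  ([5, 2, 1, 3, 3, 1, 3, 1, 3, 4], [0, 0, 2, 1, 3, 3, 1, 3, 1, 3]),
  ([4, 3, 1, 3, 1, 3, 3, 3, 4, 2, 2, 2, 0, 2, 0, 2, 0, 3, 1, 3, 1, 3, 3, 3, 4], [1, 3, 1, 3, 1, 3, 3, 3, 5, 2, 2, 2, 0, 2, 0, 2, 1, 3, 1, 3, 1, 3, 3, 3]),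
  ([1, 2, 5, 3, 5, 3, 3, 1, 2, 5, 3, 3, 1, 4, 1, 2, 5, 3, 5, 3, 3, 1, 2, 5, 3, 3, 1, 4, 1, 2, 5, 3, 5, 3, 3, 1, 2, 5, 3, 3, 1, 4, 1, 2, 5, 3, 5, 3, 3], [5, 0, 2, 2, 4, 3, 0, 2, 2, 4, 2, 4, 3, 0, 5, 0, 2, 2, 4, 3, 0, 2, 2, 4, 2, 4, 3, 0, 5, 0, 2, 2, 4, 3, 0, 2, 2, 4, 2, 4, 3, 0, 5, 0, 2, 2, 4, 3, 0]),
  ([0, 2, 0, 2, 0, 3, 0, 3, 0, 2, 0, 2, 0, 3, 0, 3], [2, 1, 2, 1, 3, 1, 3, 1, 2, 1, 2, 1, 3, 1, 3, 1]),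
  ([7, 0, 2], []),
  ([9, 2, 4], []),
  ([11, 2, 0, 2, 4], []),
  ([13, 6, 1], []),
  ([15, 10, 8, 6, 10, 6, 10, 0, 11, 3, 4], []),
  ([17, 0, 11, 9, 3, 10, 9, 3, 4, 10], []),
  ([19, 3, 16, 13], []),
  ([21, 15, 16, 12, 17], []),
  ([23, 16, 14, 2, 2], []),
  ([25, 3, 3, 3, 15, 2, 16, 3, 16], []),
  ([27, 2], []),
  ([29, 2], []),
  ([31, 1, 2, 0], []),
  ([33, 1, 2, 0], []),
  ([35, 30, 26, 30, 26], []),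
  ([37, 32, 28, 32, 28], []),
  ([39, 27, 30, 26, 26, 26, 30, 27, 27], []),
  ([41, 29, 32, 28, 28, 28, 32, 29, 29], []),
  ([43, 26, 31, 26, 30, 26, 31, 26, 30], []),
  ([45, 28, 33, 28, 32, 28, 33, 28, 32], []),
  ([47, 30, 30, 26, 30, 27, 30, 30, 30, 26, 26, 31, 27], []),
  ([49, 32, 32, 28, 32, 29, 32, 32, 32, 28, 28, 33, 29], [])]
def rels : List (List Nat × List Nat) := rels0

def defs : List (List Nat) := [[0, 2], [2, 4], [2, 0, 2, 4], [6, 1], [10, 8, 6, 10, 6, 10, 0, 11, 3, 4], [0, 11, 9, 3, 10, 9, 3, 4, 10], [3, 16, 13], [15, 16, 12, 17], [16, 14, 2, 2], [3, 3, 3, 15, 2, 16, 3, 16], [2], [2], [1, 2, 0], [1, 2, 0], [30, 26, 30, 26], [32, 28, 32, 28], [27, 30, 26, 26, 26, 30, 27, 27], [29, 32, 28, 28, 28, 32, 29, 29], [26, 31, 26, 30, 26, 31, 26, 30], [28,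 33, 28, 32, 28, 33, 28, 32], [30, 30, 26, 30, 27, 30, 30, 30, 26, 26, 31, 27], [32, 32, 28, 32, 29, 32, 32, 32, 28, 28, 33, 29]]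

end Cfsg.Agent.Lib.HND
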