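import Cfsg.Agent.Lib.HNEMC0
import Cfsg.Agent.Lib.HNEMC1
import Cfsg.Agent.Lib.HNEMC2
import Cfsg.Agent.Lib.HNA

/-! Relations in the centraliser of a 2-central involution of the Harada–Norton group. -/

set_option autoImplicit false
set_option maxRecDepth 100000

namespace Cfsg.Agent.Lib.HNEM
open Cfsg.Agent.Lib.Words Cfsg.Agent.Lib.PermNet Cfsg.Agent.Lib.PermGroup Cfsg.Agent.Lib.MatRep
  Cfsg.Agent.Lib.RepHN

theorem hall : RelOn c ns (r0 ++ (r1 ++ (r2 ++ (r3 ++ (r4 ++ (r5 ++ (r6 ++ (r7 ++ (r8 ++ (r9 ++ (r10 ++ (r11 ++ (r12 ++ (r13 ++ (r14 ++ (r15 ++ (r16 ++ (r17 ++ (r18 ++ (r19)))))))))))))))))))) 0 133 :=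
  h0.append (h1.append (h2.append (h3.append (h4.append (h5.append (h6.append (h7.append (h8.append (h9.append (h10.append (h11.append (h12.append (h13.append (h14.append (h15.append (h16.append (h17.append (h18.append (h19)))))))))))))))))))

theorem hinv : RelOn c ns (invs 16) 0 133 := hall.mono (by decide +kernel)

/-- The letters u, r1, r2, rho, q1, ..., q8. -/
def edefs : List (List ℕ) := [[0, 0, 2, 2, 2, 4, 2, 2, 2, 4, 2, 2, 2], [4, 0, 3, 0, 3, 0, 2, 0, 2, 0], [3, 3, 4, 3, 0, 2, 0, 2, 2, 2], [6, 4, 7, 7], [0, 0], [14, 16, 15], [12, 18, 13], [10, 20, 11], [14, 20, 15], [15, 20, 14], [12, 22, 13], [10, 28, 11]]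

/-- The generators followed by the new letters. -/
noncomputable def E : ℕ → Spor.HN := ext HNBase.y 4 edefs

def RR : List (List ℕ) := [[16, 16],
  [18, 18],
  [20, 20],
  [22, 22],
  [24, 24],
  [26, 26],
  [28, 28],
  [30, 30],
  [16, 18, 16, 18],
  [16, 20, 16, 20],
  [16, 22, 16, 22],
  [20, 22, 20, 22],
  [18, 24, 18, 24],
  [20, 24, 20, 24],
  [20, 26, 20, 26],
  [24, 26, 24, 26],
  [16, 28, 16, 28],
  [18, 28, 18, 28],
  [22, 28, 22, 28],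
  [26, 28, 26, 28],
  [16, 30, 16, 30],
  [18, 30, 18, 30],
  [20, 30, 20, 30],
  [26, 30, 26, 30],
  [10, 16, 11, 16],
  [10, 18, 11, 16, 18],
  [10, 20, 11, 22],
  [10, 22, 11, 20],
  [10, 28, 11, 30],
  [10, 30, 11, 28],
  [12, 16, 13, 16],
  [12, 18, 13, 20],
  [12, 22, 13, 28],
  [12, 24, 13, 16, 18, 22, 24, 28],
  [12, 30, 13, 18, 20, 24, 26, 28, 30],
  [14, 16, 15, 18],
  [14, 18, 15, 16, 18],
  [14, 20, 15, 24],
  [14, 22, 15, 16, 18, 20, 22, 24],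
  [14, 24, 15, 26],
  [14, 26, 15, 20],
  [14, 28, 15, 18, 28],
  [14, 30, 15, 16, 30],
  [10, 10],
  [10, 12, 12, 10, 12, 12, 10, 12, 12, 16, 24, 26],
  [10, 12, 10, 12, 10, 12, 10, 12, 10, 12, 10, 12],
  [14, 14, 14],
  [10, 14, 10, 14, 18],
  [12, 12, 14, 12, 12, 14, 16, 24],
  [10, 12, 10, 14, 12, 10, 14, 12, 15, 10, 12, 15, 16, 18, 22],
  [10, 12, 10, 15, 12, 10, 15, 12, 14, 10, 12, 14, 18, 26],
  [18, 20, 18, 20, 9],
  [18, 22, 18, 22, 9],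
  [16, 24, 16, 24, 9],
  [22, 24, 22, 24, 9],
  [16, 26, 16, 26, 9],
  [18, 26, 18, 26, 9],
  [22, 26, 22, 26, 9],
  [20, 28, 20, 28, 9],
  [24, 28, 24, 28, 9],
  [22, 30, 22, 30, 9],
  [24, 30, 24, 30, 9],
  [28, 30, 28, 30, 9],
  [10, 24, 11, 18, 20, 22, 26, 9],
  [10, 26, 11, 16, 18, 20, 22, 24, 9],
  [12, 20, 13, 16, 18, 9],
  [12, 26, 13, 20, 22, 26, 28, 9],
  [12, 28, 13, 16, 20, 22, 24, 26, 9],
  [12, 12, 12, 12, 16, 20, 24, 26, 9],
  [10, 12, 14, 13, 10, 12, 14, 13, 10, 12, 14, 13, 18, 24, 26, 28, 30, 9],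
  [10, 12, 10, 14, 12, 10, 13, 10, 14, 13, 10, 12, 10, 14, 12, 10, 13, 10, 14, 13, 9],
  [8, 8],
  [10, 8, 11, 9],
  [12, 8, 13, 9],
  [14, 8, 15, 9],
  [16, 8, 17, 9],
  [18, 8, 19, 9],
  [20, 8, 21, 9],
  [22, 8, 23, 9],
  [24, 8, 25, 9],
  [26, 8, 27, 9],
  [28, 8, 29, 9],
  [30, 8, 31, 9],
  [24, 16, 25, 9, 17],
  [4, 3, 4, 0, 3, 8, 2, 1, 5, 2, 5, 31, 21],
  [3, 4, 0, 3, 8, 2, 1, 5, 2, 9, 31, 21],
  [3, 4, 0, 2, 4, 3, 3, 8, 2, 2, 5, 3, 1, 5, 2, 13, 11, 13, 11, 13, 11],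
  [3, 3, 4, 2, 4, 0, 3, 24, 16, 25, 2, 1, 5, 3, 5, 2, 2, 9, 13, 11, 13, 11, 13, 11],
  [2, 1, 2, 13, 15, 12, 14, 10, 4, 3, 4, 0, 3, 8, 2, 1, 5, 2, 5, 11, 15, 13, 14, 12, 3, 0, 3, 11],
  [28, 30, 2, 1, 2, 13, 15, 12, 14, 10, 4, 3, 4, 0, 3, 8, 2, 1, 5, 2, 5, 11, 15, 13, 14, 12, 3, 0, 3, 31, 29, 9, 11]]

theorem phi_E : ∀ i < 4 + edefs.length, HNA.phi (E i) = gen c ns i :=
  eq_of_defRels (f := fun i => HNA.phi (E i)) 4 edefs (by decide)
    (fun w hw => by rw [← map_wval, E, ext_rels _ _ _ (by decide) w hw, map_one])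
    (rels_of hinv (hall.mono (by decide +kernel)) (by decide +kernel)) fun i hi => by
      rw [E, ext_of_lt _ _ hi, show HNA.phi (HNBase.y i) = gen c ms i from HNA.exists_phi.choose_spec i hi,
        ← wval_single (gen c ms), ← wval_single (gen c ns)]
      refine Units.ext ((val_wval RepHN.hinv ?_).trans (Eq.trans ?_ (val_wval hinv ?_).symm))
      · simp; omega
      · interval_cases i <;> rfl
      · simp; omega

theorem rels : ∀ w ∈ RR, wval E w = 1 := fun w hw => HNA.main.2.2.2.1 (by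
  rw [map_wval, map_one, wval_congr phi_E (by
    simpa using List.all_eq_true.1 (by decide +kernel :
      RR.all (fun w => w.all fun l => decide (l < 2 * (4 + edefs.length))) = true) w hw)]
  exact rels_of hinv (hall.mono (by decide +kernel)) (by decide +kernel) w hw)

theorem ne (k i v : ℕ) (hk : k < 16)
    (h : (decide (i < c.n ∧ v % c.p ≠ 1 % c.p) && (decide (1 ≤ c.p) &&
      [2 * k].all (fun l => decide (l < 2 * 16)) && entB c ns [2 * k] i i v)) = true) : E k ≠ 1 :=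
  fun e => ne_one ok hinv _ i v h (by rw [wval_single, ← phi_E k hk, e, map_one])

theorem u_ne : E 4 ≠ 1 := ne 4 0 8 (by decide) (by decide +kernel)

theorem z_ne : E 8 ≠ 1 := ne 8 21 0 (by decide) (by decide +kernel)

end Cfsg.Agent.Lib.HNEM
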