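import Cfsg.Agent.Lib.HNGT
import Cfsg.Agent.Lib.BTStep

/-! Certificates. -/

set_option autoImplicit false
set_option maxRecDepth 100000

namespace Cfsg.Agent.Lib.HNG

open Cfsg.Agent.Lib.PermNet Cfsg.Agent.Lib.Words Cfsg.Agent.Lib.PermGroup Cfsg.Agent.Lib.DCE Cfsg.Agent.Lib.PermModel Cfsg.Agent.Lib.BT

noncomputable def ts_1 : List Tst := [⟨[], [⟨0, [0], [8], [8]⟩], []⟩,
  ⟨[], [⟨0, [0], [8], [8]⟩], []⟩,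
  ⟨[], [], [⟨0, [0], [8], [8]⟩, ⟨0, [1], [9], [9]⟩, ⟨0, [0, 0], [8, 8], [8, 8]⟩]⟩,
  ⟨[⟨0, [1], [9], [9]⟩], [], []⟩,
  ⟨[⟨0, [1], [9], [9]⟩], [], []⟩,
  ⟨[⟨0, [1], [9], [9]⟩], [], []⟩,
  ⟨[⟨0, [1], [9], [9]⟩], [], []⟩]

noncomputable def ct_1 : CT := (.node 0 [] [] (nat_lit 0x0) (nd [(0, (nd [(2, (nd [(64, (nd [(398, (nd [(208, (nd [(23, (lf [(175, [])]))]))]))]))]))])),
  (2, (nd [(0, (nd [(49, (nd [(429, (nd [(433, (nd [(128, (lf [(37, [4])]))]))]))]))]))])),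
  (5, (nd [(45, (nd [(63, (nd [(399, (nd [(204, (nd [(109, (lf [(173, [0, 0])]))]))]))]))]))])),
  (45, (nd [(5, (nd [(9, (nd [(430, (nd [(428, (nd [(126, (lf [(77, [0, 0, 4])]))]))]))]))]))]))]) .nil)

theorem s_1 : solveB (nat_lit 11) (nat_lit 2047) gtt (nat_lit 1408) 500 gB (fun _ => true) gch 0 []
    [[8]] [[8]] ([[1000, 1000]] ++ prEq 500 [[8]] [[8]]) [] [] (memLL [[], [0, 0], [4], [0, 0, 4]]) id ts_1 ct_1 = true := by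
  decide +kernel

noncomputable def ts_2 : List Tst := [⟨[], [⟨0, [0], [8], [8, 8]⟩], [⟨0, [2], [4], [4]⟩, ⟨0, [0, 2], [8, 4], [8, 8, 4]⟩, ⟨0, [1, 2], [9, 4], [9, 9, 4]⟩]⟩,
  ⟨[⟨0, [2], [4], [4]⟩], [], []⟩,
  ⟨[], [], [⟨0, [2], [4], [4]⟩, ⟨0, [0], [8], [8, 8]⟩, ⟨0, [1], [9], [9, 9]⟩]⟩,
  ⟨[⟨0, [1], [9], [9, 9]⟩], [], []⟩,
  ⟨[⟨0, [1], [9], [9, 9]⟩], [], []⟩,
  ⟨[⟨0, [1], [9], [9, 9]⟩], [], []⟩,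
  ⟨[⟨0, [1], [9], [9, 9]⟩], [], []⟩]

noncomputable def ct_2 : CT := (.node 0 [] [] (nat_lit 0x0) (nd [(0, (nd [(2, (nd [(64, (nd [(208, (nd [(175, (nd [(311, (lf [(398, [0, 9, 9, 9])]))]))]))])),
  (311, (nd [(398, (nd [(23, (nd [(211, (lf [(64, [0, 9, 9])]))]))]))])),
  (398, (nd [(23, (nd [(211, (nd [(64, (lf [(208, [0, 8, 8, 8])]))]))]))])),
  (211, (nd [(64, (nd [(208, (nd [(175, (lf [(311, [0, 9])]))]))]))])),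
  (175, (nd [(311, (nd [(398, (nd [(23, (lf [(211, [0])]))]))]))])),
  (208, (nd [(175, (nd [(311, (nd [(398, (lf [(23, [0, 8, 8])]))]))]))])),
  (23, (nd [(211, (nd [(64, (nd [(208, (lf [(175, [0, 8])]))]))]))]))]))]))]) .nil)

theorem s_2 : solveB (nat_lit 11) (nat_lit 2047) gtt (nat_lit 1408) 500 gB (fun _ => true) gch 0 []
    ([[4], [2]].map (subst [[0, 0], [4], [8]])) ([[4, 4], [2]].map (subst [[0, 0], [4], [8]]))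
    ([[0, 0, 0]].map (subst ([2 * 500] :: [[0, 0], [4], [8]])) ++ prEq 500 ([[4], [2]].map (subst [[0, 0], [4], [8]])) ([[4, 4], [2]].map (subst [[0, 0], [4], [8]]))) [] []
    (BTStep.okC (nat_lit 11) (nat_lit 2047) gtt gB [[0, 0], [4], [8]]) (mkC [[12]]) ts_2 ct_2 = true := by
  decide +kernel

noncomputable def ts_3 : List Tst := [⟨[], [⟨0, [0], [12], [12]⟩], [⟨0, [2], [4], [4]⟩, ⟨0, [0, 2], [12, 4], [12, 4]⟩, ⟨0, [1, 2], [13, 4], [13, 4]⟩]⟩,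
  ⟨[⟨0, [2], [4], [4]⟩], [], []⟩,
  ⟨[], [], [⟨0, [0], [12], [12]⟩, ⟨0, [1], [13], [13]⟩, ⟨0, [2], [4], [4]⟩]⟩,
  ⟨[], [], [⟨0, [0], [12], [12]⟩, ⟨0, [1], [13], [13]⟩, ⟨0, [2], [4], [4]⟩]⟩,
  ⟨[⟨0, [0], [12], [12]⟩], [], []⟩,
  ⟨[], [⟨0, [0], [12], [12]⟩], [⟨0, [2], [4], [4]⟩, ⟨0, [0, 2], [12, 4], [12, 4]⟩, ⟨0, [1, 2], [13, 4], [13, 4]⟩]⟩,
  ⟨[⟨3, [1], [13], [13]⟩], [], []⟩]

noncomputable def ct_3 : CT := (.node 0 [] [] (nat_lit 0x0) (nd [(23, (nd [(128, (nd [(311, (nd [(211, (nd [(175, (nd [(0, (lf [(208, [0])]))]))]))]))]))]))]) .nil)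

theorem s_3 : solveB (nat_lit 11) (nat_lit 2047) gtt (nat_lit 1408) 500 gB (fun _ => true) gch 0 []
    ([[0], [4]].map (subst [[12], [0, 0], [4], [8]])) ([[0], [4]].map (subst [[12], [0, 0], [4], [8]]))
    ([[0, 0], [0, 8, 0, 8, 0, 8, 0, 8, 0, 8, 0, 8], [0, 2, 8, 0, 2, 8, 0, 2, 8, 0, 2, 8, 0, 2, 8, 0, 2, 8, 0, 2, 8]].map (subst ([2 * 500] :: [[12], [0, 0], [4], [8]])) ++ prEq 500 ([[0], [4]].map (subst [[12], [0, 0], [4], [8]])) ([[0], [4]].map (subst [[12], [0, 0], [4], [8]]))) [] []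
    (BTStep.okC (nat_lit 11) (nat_lit 2047) gtt gB [[12], [0, 0], [4], [8]]) (mkC [[10]]) ts_3 ct_3 = true := by
  decide +kernel

def Lc : List (List ℕ × List ℕ × List (List ℕ × List ℕ)) := [([0, 0], [18], [([7, 3, 10, 18, 10, 2, 6], [2, 8, 0, 8, 8, 0, 9, 0, 8, 2, 0, 9, 4, 0]), ([1, 3, 7, 11, 17], [6, 4])]),
  ([18], [0, 0], [([7, 3, 10, 18, 10, 2, 6], [4]), ([1, 3, 7, 11, 17], [2, 8, 0, 8, 8, 0, 9, 0, 8, 2, 0, 9, 6, 4, 0])]),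
  ([4, 0], [4, 0], [([7, 3, 10, 18, 10, 2, 6], [6, 4]), ([1, 3, 7, 11, 17], [4])]),
  ([6, 4, 3, 0], [0, 18, 2, 4, 7], [([7, 3, 10, 18, 10, 2, 6], [8, 2, 0, 9, 0, 8, 3, 0, 9, 6]), ([1, 3, 7, 11, 17], [9, 0, 9, 9, 0, 8, 0, 9, 2, 0, 8, 6, 2, 0])]),
  ([1, 18, 6, 4, 3], [1, 18, 6, 4, 3], [([7, 3, 10, 18, 10, 2, 6], [3, 0, 8, 3, 0, 9, 0, 8, 2, 0, 9, 6, 4, 2, 0]), ([1, 3, 7, 11, 17], [8, 2, 0, 9, 0, 8, 3, 0, 9, 4])]),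
  ([18, 4, 0], [4, 1], [([7, 3, 10, 18, 10, 2, 6], [6]), ([1, 3, 7, 11, 17], [2, 8, 0, 8, 8, 0, 9, 0, 8, 2, 0, 9, 6, 0])]),
  ([4, 0, 0, 18, 2, 4, 7], [6, 4, 3, 4], [([7, 3, 10, 18, 10, 2, 6], [0, 8, 2, 0, 8, 0, 9, 3, 0, 9, 4, 0]), ([1, 3, 7, 11, 17], [3, 0, 8, 3, 0, 9, 0, 8, 2, 0, 9, 6, 4, 2, 0])]),
  ([10, 18, 10], [10, 18, 10], [([7, 3, 10, 18, 10, 2, 6], [0, 9, 2, 0, 8, 2, 0, 8, 0, 8, 0, 9, 2, 0]), ([1, 3, 7, 11, 17], [0, 9, 2, 0, 8, 2, 0, 8, 0, 8, 0, 9, 2, 0])]),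
  ([10, 1, 10, 4], [10, 1, 10, 0], [([7, 3, 10, 18, 10, 2, 6], [3, 9, 0, 9, 0, 8, 0, 8, 4, 2]), ([1, 3, 7, 11, 17], [3, 9, 0, 9, 0, 8, 0, 8, 6, 2])]),
  ([15, 1, 6, 4, 3, 14], [2, 0, 6, 4, 3, 3], [([7, 3, 10, 18, 10, 2, 6], [8, 3, 0, 8, 0, 9, 2, 0, 9, 6]), ([1, 3, 7, 11, 17], [9, 9, 0, 9, 0, 8, 0, 8, 8, 6])]),
  ([6, 1, 2, 4, 7, 7], [6, 1, 2, 4, 7, 7], [([7, 3, 10, 18, 10, 2, 6], [3, 0, 9, 0, 8, 6, 4, 2, 0]), ([1, 3, 7, 11, 17], [8, 3, 0, 8, 0, 9, 2, 0, 9, 4])]),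
  ([14], [14], [([7, 3, 10, 18, 10, 2, 6], [0, 9, 9, 0, 8, 3, 0, 9, 0, 9, 3]), ([1, 3, 7, 11, 17], [0, 9, 9, 0, 8, 3, 0, 9, 0, 9, 3])])]

theorem hLc : BTStep.chainB (nat_lit 11) (nat_lit 2047) gtt gB [[10], [12], [4], [0, 0, 4], [8]] [[10], [12], [0, 0], [4], [8]] [[7, 3, 10, 18, 10, 2, 6], [1, 3, 7, 11, 17]] [10, 20, 15, 6, 2] Lc = true := by
  decide +kernel

noncomputable def ts_4 : List Tst := [⟨[], [⟨0, [0], [18], [18]⟩, ⟨0, [12, 8, 10, 12], [2, 0, 6, 4, 3, 3, 6, 4, 3, 4, 10, 1, 10, 0, 2, 0, 6, 4, 3, 3], [6, 1, 2, 4, 7, 7, 10, 18, 10, 10, 1, 10, 0, 6, 1, 2, 4, 7, 7]⟩], [⟨0, [2], [0, 0], [0, 0]⟩, ⟨0, [6], [1, 18, 6, 4, 3], [4, 1]⟩, ⟨0, [8], [6, 4, 3, 4], [10, 18, 10]⟩]⟩,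
  ⟨[], [⟨0, [0], [18], [18]⟩, ⟨0, [12, 8, 10, 12], [2, 0, 6, 4, 3, 3, 6, 4, 3, 4, 10, 1, 10, 0, 2, 0, 6, 4, 3, 3], [6, 1, 2, 4, 7, 7, 10, 18, 10, 10, 1, 10, 0, 6, 1, 2, 4, 7, 7]⟩], [⟨0, [2], [0, 0], [0, 0]⟩, ⟨0, [6], [1, 18, 6, 4, 3], [4, 1]⟩, ⟨0, [8], [6, 4, 3, 4], [10, 18, 10]⟩]⟩,
  ⟨[], [⟨0, [0], [18], [18]⟩, ⟨0, [10], [10, 1, 10, 0], [10, 1, 10, 0]⟩], [⟨0, [2], [0, 0], [0, 0]⟩, ⟨0, [6], [1, 18, 6, 4, 3], [4, 1]⟩, ⟨0, [8], [6, 4, 3, 4], [10, 18, 10]⟩]⟩,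
  ⟨[⟨0, [2, 4, 6, 8], [0, 0, 4, 0, 1, 18, 6, 4, 3, 6, 4, 3, 4], [0, 0, 0, 18, 2, 4, 7, 4, 1, 10, 18, 10]⟩], [], []⟩,
  ⟨[⟨3, [10], [10, 1, 10, 0], [10, 1, 10, 0]⟩], [], []⟩,
  ⟨[], [⟨0, [0, 10], [18, 10, 1, 10, 0], [18, 10, 1, 10, 0]⟩, ⟨0, [2, 4, 6, 8], [0, 0, 4, 0, 1, 18, 6, 4, 3, 6, 4, 3, 4], [0, 0, 0, 18, 2, 4, 7, 4, 1, 10, 18, 10]⟩], [⟨0, [0], [18], [18]⟩, ⟨0, [2], [0, 0], [0, 0]⟩, ⟨0, [6], [1, 18, 6, 4, 3], [4, 1]⟩]⟩,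
  ⟨[⟨0, [0], [18], [18]⟩], [], []⟩]

noncomputable def ct_4 : CT := (.node 0 [] [] (nat_lit 0x0) (nd [(275, (nd [(191, (nd [(399, (nd [(217, (nd [(553, (nd [(574, (lf [(631, [0])]))]))]))]))]))])),
  (259, (nd [(155, (nd [(276, (nd [(63, (nd [(280, (nd [(1128, (lf [(1118, [0, 4, 0])]))]))]))]))]))]))]) .nil)

theorem s_4 : solveB (nat_lit 11) (nat_lit 2047) gtt (nat_lit 1408) 500 gB (fun _ => true) gch 0 []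
    ([[0], [2], [4], [8], [12], [16], [18]].map (subst (Lc.map (·.2.1)))) ([[0], [2], [6], [10], [14], [16], [20]].map (subst (Lc.map (·.2.1))))
    ([[0, 0, 0]].map (subst ([2 * 500] :: (Lc.map (·.2.1)))) ++ prEq 500 ([[0], [2], [4], [8], [12], [16], [18]].map (subst (Lc.map (·.2.1)))) ([[0], [2], [6], [10], [14], [16], [20]].map (subst (Lc.map (·.2.1))))) [] []
    (BTStep.okC (nat_lit 11) (nat_lit 2047) gtt gB (Lc.map (·.2.1))) (mkC [[9, 2, 4, 0, 18, 3, 8, 4]]) ts_4 ct_4 = true := by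
  decide +kernel

/-- The solutions of the last search. -/
def mk5 (u : List ℕ) : List ℕ := rep (u.headD 0) [20] ++ rep (u.getD 1 0) [10, 24, 10, 20] ++ rep (u.headD 0) [20]

noncomputable def ts_5 : List Tst := [⟨[], [⟨0, [2], [14], [14]⟩], [⟨0, [0], [4], [4]⟩, ⟨0, [0, 2], [4, 14], [4, 14]⟩, ⟨0, [0, 3], [4, 15], [4, 15]⟩]⟩,
  ⟨[⟨0, [0], [4], [4]⟩], [], []⟩,
  ⟨[], [], [⟨0, [0], [4], [4]⟩, ⟨0, [2], [14], [14]⟩, ⟨0, [3], [15], [15]⟩]⟩,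
  ⟨[⟨0, [3], [15], [15]⟩], [], []⟩,
  ⟨[⟨1, [2], [14], [14]⟩], [], []⟩,
  ⟨[], [⟨0, [2], [14], [14]⟩], [⟨0, [0], [4], [4]⟩, ⟨0, [0, 2], [4, 14], [4, 14]⟩, ⟨0, [0, 3], [4, 15], [4, 15]⟩]⟩,
  ⟨[], [⟨0, [2], [14], [14]⟩], [⟨0, [0], [4], [4]⟩, ⟨0, [0, 2], [4, 14], [4, 14]⟩, ⟨0, [0, 3], [4, 15], [4, 15]⟩]⟩]

noncomputable def ct_5 : CT := (.node 0 [] [] (nat_lit 0x0) (nd [(0, (nd [(2, (nd [(64, (nd [(398, (nd [(208, (nd [(23, (lf [(175, [0, 0])]))]))]))]))]))])),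
  (23, (nd [(128, (nd [(64, (nd [(398, (nd [(208, (nd [(311, (lf [(0, [0, 2])])),
  (211, (lf [(0, [1, 1])]))]))]))]))]))])),
  (175, (nd [(37, (nd [(64, (nd [(398, (nd [(208, (nd [(0, (lf [(311, [1, 4]), (211, [0, 3])]))]))]))]))]))])),
  (211, (nd [(256, (nd [(64, (nd [(398, (nd [(208, (nd [(175, (lf [(311, [0, 1])])),
  (311, (lf [(23, [1, 2])]))]))]))]))]))])),
  (311, (nd [(236, (nd [(64, (nd [(398, (nd [(208, (nd [(211, (lf [(23, [0, 4])])),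
  (175, (lf [(211, [1, 3])]))]))]))]))]))]))]) .nil)

theorem s_5 : solveB (nat_lit 11) (nat_lit 2047) gtt (nat_lit 1408) 500 gB (fun _ => true) gch 0 []
    [[4], [14]] [[4], [14]] ([[18, 1000, 18, 1000], [1000, 1000, 1000, 1000, 1000]] ++ prEq 500 [[4], [14]] [[4], [14]]) [] [] (fun u => band (Nat.blt (u.headD 0) 2) (Nat.blt (u.getD 1 0) 5)) mk5 ts_5 ct_5 = true := by
  decide +kernel



end Cfsg.Agent.Lib.HNG
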