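import Cfsg.Agent.Lib.BT6
import Cfsg.Agent.Lib.TCHP1
import Cfsg.Agent.Lib.TCHP2
import Cfsg.Agent.Lib.TCHP3

/-! A presentation of the double cover of the Higman–Sims group by elements of odd order. -/

set_option autoImplicit false
set_option maxRecDepth 100000

namespace Cfsg.Agent.Lib.HNP

open Cfsg.Agent.Lib.PermNet Cfsg.Agent.Lib.Words Cfsg.Agent.Lib.PermGroup Cfsg.Agent.Lib.DCE Cfsg.Agent.Lib.PermModel Cfsg.Agent.Lib.BT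

/-- The conjugation relations. -/
def RB : List (List ℕ × List ℕ × List ℕ) := [([2], [0], [0, 0]),
  ([2], [6], [6]),
  ([2], [4], [4]),
  ([1, 2, 6, 0, 6, 1, 7, 0, 7, 1], [2], [7]),
  ([1, 6, 0, 7, 0, 6, 0, 0, 7, 1], [2], [7]),
  ([1, 1, 7, 1, 7, 1, 6, 1, 6, 1], [6], [2]),
  ([1, 7, 0, 0, 6, 0, 7, 0, 6, 1], [6], [2]),
  ([1, 7, 0, 0, 6, 0, 7, 0, 6, 1], [2], [7]),
  ([1, 7, 0, 7, 1, 6, 0, 6, 3, 1], [6], [2]),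
  ([1, 6, 1, 6, 1, 7, 1, 7, 1, 1], [6], [2]),
  ([1, 6, 1, 6, 1, 7, 1, 7, 1, 1], [2], [7]),
  ([0, 6, 0, 6, 1, 6, 0, 6, 0], [2], [3]),
  ([0, 6, 0, 3, 7, 2, 0, 6, 0], [6], [6]),
  ([1, 6, 0, 3, 1, 1, 7, 0, 0], [6], [6]),
  ([1, 6, 6, 1, 6, 1, 7, 1], [6], [6]),
  ([1, 7, 1, 3, 4, 1, 7, 1, 7, 1], [2], [3]),
  ([1, 7, 1, 1, 7, 4, 0, 4, 3, 1], [6], [3]),
  ([1, 7, 5, 5, 1, 1, 6, 5, 6, 0], [6], [7]),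
  ([1, 3, 6, 5, 1, 5, 1, 4, 6, 0], [4], [5]),
  ([1, 2, 7, 0, 5, 0, 5, 5, 3, 0], [2], [3]),
  ([4, 0, 7, 0, 6, 1, 6, 1, 4], [6], [7]),
  ([4, 1, 6, 1, 6, 0, 7, 0, 4], [6], [7]),
  ([0, 6, 1, 5, 5, 6, 5, 3, 1], [6], [2]),
  ([0, 4, 0, 0, 7, 1, 4, 4, 0], [2], [7]),
  ([1, 4, 0, 3, 1, 1, 5, 0, 0], [6], [6]),
  ([7, 4, 7, 5, 5, 6], [4], [5]),
  ([6, 4, 6], [4], [4])]

/-- The relators. -/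
def KA : List (List ℕ) := [[0, 0, 0, 0, 0, 0, 0],
  [2, 2, 2],
  [4, 4, 4, 4, 4],
  [6, 6, 6],
  [2, 0, 3, 1, 1],
  [2, 6, 3, 7],
  [2, 4, 3, 5],
  [1, 2, 6, 0, 6, 1, 7, 0, 7, 1, 2, 0, 6, 1, 6, 0, 7, 1, 7, 3, 0, 6],
  [1, 6, 0, 7, 0, 6, 0, 0, 7, 1, 2, 0, 6, 1, 1, 7, 1, 6, 1, 7, 0, 6],
  [1, 1, 7, 1, 7, 1, 6, 1, 6, 1, 6, 0, 7, 0, 7, 0, 6, 0, 6, 0, 0, 3],
  [1, 7, 0, 0, 6, 0, 7, 0, 6, 1, 6, 0, 7, 1, 6, 1, 7, 1, 1, 6, 0, 3],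
  [1, 7, 0, 0, 6, 0, 7, 0, 6, 1, 2, 0, 7, 1, 6, 1, 7, 1, 1, 6, 0, 6],
  [1, 7, 0, 7, 1, 6, 0, 6, 3, 1, 6, 0, 2, 7, 1, 7, 0, 6, 1, 6, 0, 3],
  [1, 6, 1, 6, 1, 7, 1, 7, 1, 1, 6, 0, 0, 6, 0, 6, 0, 7, 0, 7, 0, 3],
  [1, 6, 1, 6, 1, 7, 1, 7, 1, 1, 2, 0, 0, 6, 0, 6, 0, 7, 0, 7, 0, 6],
  [0, 6, 0, 6, 1, 6, 0, 6, 0, 2, 1, 7, 1, 7, 0, 7, 1, 7, 1, 2],
  [0, 6, 0, 3, 7, 2, 0, 6, 0, 6, 1, 7, 1, 3, 6, 2, 1, 7, 1, 7],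
  [1, 6, 0, 3, 1, 1, 7, 0, 0, 6, 1, 1, 6, 0, 0, 2, 1, 7, 0, 7],
  [1, 6, 6, 1, 6, 1, 7, 1, 6, 0, 6, 0, 7, 0, 7, 7, 0, 7],
  [1, 7, 1, 3, 4, 1, 7, 1, 7, 1, 2, 0, 6, 0, 6, 0, 5, 2, 0, 6, 0, 2],
  [1, 7, 1, 1, 7, 4, 0, 4, 3, 1, 6, 0, 2, 5, 1, 5, 6, 0, 0, 6, 0, 2],
  [1, 7, 5, 5, 1, 1, 6, 5, 6, 0, 6, 1, 7, 4, 7, 0, 0, 4, 4, 6, 0, 6],
  [1, 3, 6, 5, 1, 5, 1, 4, 6, 0, 4, 1, 7, 5, 0, 4, 0, 4, 7, 2, 0, 4],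
  [1, 2, 7, 0, 5, 0, 5, 5, 3, 0, 2, 1, 2, 4, 4, 1, 4, 1, 6, 3, 0, 2],
  [4, 0, 7, 0, 6, 1, 6, 1, 4, 6, 5, 0, 7, 0, 7, 1, 6, 1, 5, 6],
  [4, 1, 6, 1, 6, 0, 7, 0, 4, 6, 5, 1, 6, 1, 7, 0, 7, 0, 5, 6],
  [0, 6, 1, 5, 5, 6, 5, 3, 1, 6, 0, 2, 4, 7, 4, 4, 0, 7, 1, 3],
  [0, 4, 0, 0, 7, 1, 4, 4, 0, 2, 1, 5, 5, 0, 6, 1, 1, 5, 1, 6],
  [1, 4, 0, 3, 1, 1, 5, 0, 0, 6, 1, 1, 4, 0, 0, 2, 1, 5, 0, 7],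
  [7, 4, 7, 5, 5, 6, 4, 7, 4, 4, 6, 5, 6, 4],
  [6, 4, 6, 4, 7, 5, 7, 5],
  [6, 4, 6, 4, 6, 4, 6, 4]]

theorem b1 {X : Type*} [Group X] (z : ℕ → X) (hz : ∀ w ∈ KA, wval z w = 1) :
    (gp z []).relIndex (gp z [[0], [2]]) ≠ 0 ∧
    (gp z []).relIndex (gp z [[0], [2]]) ≤ 21 :=
  tc_wrap [] hz [[0], [1], [2], [3]] TCHP1.bound _ _ (by decide +kernel)

theorem b2 {X : Type*} [Group X] (z : ℕ → X) (hz : ∀ w ∈ KA, wval z w = 1) :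
    (gp z [[0], [2]]).relIndex (gp z [[0], [2], [6]]) ≠ 0 ∧
    (gp z [[0], [2]]).relIndex (gp z [[0], [2], [6]]) ≤ 6000 :=
  tc_wrap [] hz [[0], [1], [2], [3], [6], [7]] TCHP2.bound _ _ (by decide +kernel)

theorem b3 {X : Type*} [Group X] (z : ℕ → X) (hz : ∀ w ∈ KA, wval z w = 1) :
    (gp z [[0], [2], [6]]).relIndex (gp z [[0], [2], [4], [6]]) ≠ 0 ∧
    (gp z [[0], [2], [6]]).relIndex (gp z [[0], [2], [4], [6]]) ≤ 704 :=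
  tc_wrap [] hz [[0], [1], [2], [3], [4], [5], [6], [7]] TCHP3.bound _ _ (by decide +kernel)

theorem card_le {X : Type*} [Group X] (z : ℕ → X) (hz : ∀ w ∈ KA, wval z w = 1) :
    Nat.card (gp z (sing 4)) ≠ 0 ∧ Nat.card (gp z (sing 4)) ≤ 88704000 :=
  (card_le_of_relIndex (gp_mono (by decide)) (b3 z hz)
    (card_le_of_relIndex (gp_mono (by decide)) (b2 z hz)
    (card_le_of_relIndex (gp_mono (by decide)) (b1 z hz)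
    (card_gp_nil z))))

end Cfsg.Agent.Lib.HNP
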