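import Cfsg.Agent.Lib.HNPT
import Cfsg.Agent.Lib.HNPK

/-! Certificates. -/

set_option autoImplicit false
set_option maxRecDepth 100000

namespace Cfsg.Agent.Lib.HNP

open Cfsg.Agent.Lib.PermNet Cfsg.Agent.Lib.Words Cfsg.Agent.Lib.PermGroup Cfsg.Agent.Lib.DCE Cfsg.Agent.Lib.PermModel Cfsg.Agent.Lib.BT

theorem vok_id : idB (nat_lit 704) (nat_lit 10) (nat_lit 1023) vid = true := by decide +kernel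

theorem vok_0 : allR (fun i => okT (nat_lit 704) (nat_lit 10) (nat_lit 1023) (vtt.get (2 * i)) (vtt.get (2 * i + 1))) (nat_lit 0) (nat_lit 13) = true := by
  decide +kernel

def vdL0 : List (List ℕ) := [[9, 2, 1], [11, 0, 4, 0, 6, 0], [13, 5, 0, 4, 6, 0, 4, 0, 0, 7], [15, 5, 0, 6, 5, 0, 6, 0, 6, 2], [17, 13, 14, 13, 10], [19, 8, 10, 10, 9], [21, 9, 12, 10, 12, 14, 9], [23, 13, 13, 14, 12, 15, 11, 8], [25, 17, 18, 20, 23]]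

theorem vd0 : allL (fixA (nat_lit 10) (nat_lit 1023) vtt (nat_lit 704)) vdL0 = true := by decide +kernel

def vkL0 : List (List ℕ) := [[0, 0, 0, 0, 0, 0, 0], [2, 2, 2], [4, 4, 4, 4, 4], [6, 6, 6], [2, 0, 3, 1, 1], [2, 6, 3, 7], [2, 4, 3, 5], [1, 2, 6, 0, 6, 1, 7, 0, 7, 1, 2, 0, 6, 1, 6, 0, 7, 1, 7, 3, 0, 6], [1, 6, 0, 7, 0, 6, 0, 0, 7, 1, 2, 0, 6, 1, 1, 7, 1, 6, 1, 7, 0, 6], [1, 1, 7, 1, 7, 1, 6, 1, 6, 1, 6, 0, 7, 0, 7, 0, 6, 0, 6, 0, 0, 3], [1, 7, 0, 0, 6, 0, 7, 0, 6, 1, 6, 0, 7, 1, 6, 1, 7, 1, 1, 6, 0, 3], [1, 7, 0, 0, 6, 0, 7, 0, 6, 1, 2, 0, 7, 1, 6, 1, 7, 1, 1, 6, 0, 6], [1, 7, 0, 7, 1, 6, 0, 6, 3, 1, 6, 0, 2, 7, 1, 7, 0, 6, 1, 6, 0, 3], [1, 6, 1, 6, 1, 7, 1, 7, 1, 1, 6, 0, 0, 6, 0, 6, 0, 7, 0, 7, 0, 3], [1, 6, 1, 6, 1, 7, 1, 7, 1, 1, 2,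 0, 0, 6, 0, 6, 0, 7, 0, 7, 0, 6], [0, 6, 0, 6, 1, 6, 0, 6, 0, 2, 1, 7, 1, 7, 0, 7, 1, 7, 1, 2], [0, 6, 0, 3, 7, 2, 0, 6, 0, 6, 1, 7, 1, 3, 6, 2, 1, 7, 1, 7], [1, 6, 0, 3, 1, 1, 7, 0, 0, 6, 1, 1, 6, 0, 0, 2, 1, 7, 0, 7]]

theorem vk0 : allL (fixA (nat_lit 10) (nat_lit 1023) vtt (nat_lit 704)) vkL0 = true := by decide +kernel

def vkL1 : List (List ℕ) := [[1, 6, 6, 1, 6, 1, 7, 1, 6, 0, 6, 0, 7, 0, 7, 7, 0, 7], [1, 7, 1, 3, 4, 1, 7, 1, 7, 1, 2, 0, 6, 0, 6, 0, 5, 2, 0, 6, 0, 2], [1, 7, 1, 1, 7, 4, 0, 4, 3, 1, 6, 0, 2, 5, 1, 5, 6, 0, 0, 6, 0, 2], [1, 7, 5, 5, 1, 1, 6, 5, 6, 0, 6, 1, 7, 4, 7, 0, 0, 4, 4, 6, 0, 6], [1, 3, 6, 5, 1, 5, 1, 4, 6, 0, 4, 1, 7, 5, 0, 4, 0, 4, 7, 2, 0, 4], [1, 2, 7, 0, 5, 0, 5, 5, 3, 0, 2, 1, 2, 4, 4, 1, 4, 1, 6, 3, 0, 2], [4,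 0, 7, 0, 6, 1, 6, 1, 4, 6, 5, 0, 7, 0, 7, 1, 6, 1, 5, 6], [4, 1, 6, 1, 6, 0, 7, 0, 4, 6, 5, 1, 6, 1, 7, 0, 7, 0, 5, 6], [0, 6, 1, 5, 5, 6, 5, 3, 1, 6, 0, 2, 4, 7, 4, 4, 0, 7, 1, 3], [0, 4, 0, 0, 7, 1, 4, 4, 0, 2, 1, 5, 5, 0, 6, 1, 1, 5, 1, 6], [1, 4, 0, 3, 1, 1, 5, 0, 0, 6, 1, 1, 4, 0, 0, 2, 1, 5, 0, 7], [7, 4, 7, 5, 5, 6, 4, 7, 4, 4, 6, 5, 6, 4], [6, 4, 6, 4, 7, 5, 7, 5], [6, 4, 6, 4, 6, 4, 6, 4]]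

theorem vk1 : allL (fixA (nat_lit 10) (nat_lit 1023) vtt (nat_lit 704)) vkL1 = true := by decide +kernel

theorem vc : chB (nat_lit 10) (nat_lit 1023) vtt (nat_lit 704) (fun _ => true) vch [] = true := by decide +kernel

theorem vok : TabsOK (nat_lit 704) (nat_lit 10) (nat_lit 1023) (nat_lit 13) vth vid := ⟨vok_id, (allR_of 0 13 13 (by decide) vok_0)⟩

theorem vTM : TM 4 (nat_lit 704) (nat_lit 10) (nat_lit 1023) (nat_lit 13) vid 88704000 vth vdefs vch :=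
  ⟨vok, (vok.relsA _ vd0), vc, by decide +kernel⟩

theorem vK : ∀ w ∈ KA, wval (tp (nat_lit 704) (nat_lit 10) (nat_lit 1023) vtt) w = 1 := (all_append (vok.relsA _ vk0) (vok.relsA _ vk1))

end Cfsg.Agent.Lib.HNP
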