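import Cfsg.Agent.Lib.HNXT

/-! Certificates. -/

set_option autoImplicit false
set_option maxRecDepth 100000

namespace Cfsg.Agent.Lib.HNX

open Cfsg.Agent.Lib.PermNet Cfsg.Agent.Lib.Words Cfsg.Agent.Lib.PermGroup Cfsg.Agent.Lib.DCE Cfsg.Agent.Lib.PermModel Cfsg.Agent.Lib.BT

theorem xok_id : idB (nat_lit 355) (nat_lit 9) (nat_lit 511) xid = true := by decide +kernel

theorem xok_0 : allR (fun i => okT (nat_lit 355) (nat_lit 9) (nat_lit 511) (xtt.get (2 * i)) (xtt.get (2 * i + 1))) (nat_lit 0) (nat_lit 31) = true := by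
  decide +kernel

def xdL0 : List (List ℕ) := [[23, 0, 3, 0, 2, 1, 3, 3], [25, 22, 8, 23], [27, 22, 10, 23], [29, 23, 8, 22], [31, 23, 10, 22], [33, 26, 9], [35, 30, 9], [37, 32, 25], [39, 34, 25], [41, 36, 29], [43, 38, 29], [45, 42, 41], [47, 2, 4, 3], [49, 3, 0, 22], [51, 46, 48, 47], [53, 47, 48, 46], [55, 2, 22], [57, 54, 48], [59, 0, 46, 51], [61, 58, 58]]

theorem xd0 : allL (fixA (nat_lit 9) (nat_lit 511) xtt (nat_lit 355)) xdL0 = true := by decide +kernel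

theorem xc : chB (nat_lit 9) (nat_lit 511) xtt (nat_lit 355) (fun _ => true) xch [] = true := by decide +kernel

theorem xc2 : chB (nat_lit 9) (nat_lit 511) xtt (nat_lit 355) (fun _ => true) xch2 [] = true := by decide +kernel

theorem xc3 : chB (nat_lit 9) (nat_lit 511) xtt (nat_lit 355) (fun _ => true) xch3 [] = true := by decide +kernel

def xkL0 : List (List ℕ) := [[6, 6], [8, 8], [10, 10], [12, 12], [14, 14], [16, 16], [18, 18], [20, 20], [6, 8, 6, 8], [6, 10, 6, 10], [6, 12, 6, 12], [10, 12, 10, 12], [8, 14, 8, 14], [10, 14, 10, 14], [10, 16, 10, 16], [14, 16, 14, 16], [6, 18, 6, 18], [8, 18, 8, 18], [12, 18, 12, 18], [16, 18, 16, 18], [6, 20, 6, 20], [8, 20, 8, 20], [10, 20, 10, 20], [16, 20, 16, 20], [0, 6, 1, 6], [0, 8, 1, 6, 8], [0, 10, 1, 12], [0, 12, 1, 10], [0, 18, 1, 20], [0, 20, 1, 18], [2, 6, 3, 6], [2, 8, 3, 10], [2, 12, 3, 18],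 [2, 14, 3, 6, 8, 12, 14, 18], [2, 20, 3, 8, 10, 14, 16, 18, 20], [4, 6, 5, 8], [4, 8, 5, 6, 8], [4, 10, 5, 14], [4, 12, 5, 6, 8, 10, 12, 14], [4, 14, 5, 16], [4, 16, 5, 10], [4, 18, 5, 8, 18], [4, 20, 5, 6, 20], [0, 0], [0, 2, 2, 0, 2, 2, 0, 2, 2, 6, 14, 16], [0, 2, 0, 2, 0, 2, 0, 2, 0, 2, 0, 2], [4, 4, 4], [0, 4, 0, 4, 8], [2, 2, 4, 2, 2, 4, 6, 14], [0, 2, 0, 4, 2, 0, 4, 2, 5, 0, 2, 5, 6, 8, 12], [0, 2, 0, 5, 2, 0, 5, 2, 4, 0, 2, 4, 8, 16], [8, 10, 8, 10], [8, 12, 8, 12], [6, 14, 6, 14], [12, 14, 12, 14], [6, 16, 6, 16], [8, 16, 8, 16], [12, 16, 12, 16], [10, 18, 10, 18], [14, 18, 14, 18], [12, 20, 12, 20], [14, 20, 14, 20], [18, 20, 18, 20], [0, 14, 1, 8, 10, 12, 16], [0, 16, 1, 6, 8, 10, 12, 14], [2, 10, 3, 6, 8], [2, 16, 3, 10, 12, 16, 18], [2, 18, 3, 6, 10, 12, 14, 16], [2, 2, 2, 2, 6, 10, 14, 16], [0, 2, 4, 3, 0, 2, 4, 3, 0, 2, 4, 3, 8, 14,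 16, 18, 20], [0, 2, 0, 4, 2, 0, 3, 0, 4, 3, 0, 2, 0, 4, 2, 0, 3, 0, 4, 3]]

theorem xk0 : allL (fixA (nat_lit 9) (nat_lit 511) xtt (nat_lit 355)) xkL0 = true := by decide +kernel

end Cfsg.Agent.Lib.HNX
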