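import Cfsg.Agent.Lib.HNXT

/-! Certificates. -/

set_option autoImplicit false
set_option maxRecDepth 100000

namespace Cfsg.Agent.Lib.HNX

open Cfsg.Agent.Lib.PermNet Cfsg.Agent.Lib.Words Cfsg.Agent.Lib.PermGroup Cfsg.Agent.Lib.DCE Cfsg.Agent.Lib.PermModel Cfsg.Agent.Lib.BT

noncomputable def ts_2 : List Tst := [⟨[], [], []⟩,
  ⟨[], [], []⟩,
  ⟨[], [], []⟩,
  ⟨[], [], []⟩,
  ⟨[], [], []⟩,
  ⟨[], [], []⟩,
  ⟨[], [], []⟩,
  ⟨[], [], []⟩]

noncomputable def ct_2 : CT := (.node 0 [] [] (nat_lit 0x0) (nd [(69, (nd [(60, (nd [(61, (nd [(63, (nd [(67, (nd [(70, (nd [(81, (lf [(106, [0]), (139, [1, 23, 50])])),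
  (104, (lf [(106, [1, 50, 46, 4]), (139, [1, 50, 50])]))])),
  (80, (nd [(104, (lf [(106, [1, 23, 4]), (139, [2, 50, 46])])),
  (81, (lf [(106, [2, 5, 22]), (139, [1, 59])]))]))])),
  (78, (nd [(80, (nd [(81, (lf [(106, [1, 22, 4]), (139, [2, 46, 54])])),
  (104, (lf [(106, [1, 54, 4]), (139, [2, 5, 23])]))])),
  (70, (nd [(104, (lf [(106, [2, 22, 0]), (139, [2, 54, 0])])),
  (81, (lf [(106, [4, 0, 3]), (139, [4, 48])]))]))]))])),
  (66, (nd [(78, (nd [(80, (nd [(81, (lf [(106, [1, 4]), (139, [4, 4, 22])])),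
  (104, (lf [(106, [4, 2, 52]), (139, [4, 59, 2])]))])),
  (70, (nd [(104, (lf [(106, [1, 3, 50]), (139, [2, 48, 22])])),
  (81, (lf [(106, [2, 22]), (139, [1, 59, 4])]))]))])),
  (67, (nd [(70, (nd [(81, (lf [(106, [1, 2, 50]), (139, [2, 57, 48])])),
  (104, (lf [(106, [1, 3, 51]), (139, [2, 23])]))])),
  (80, (nd [(104, (lf [(106, [2, 60, 55]), (139, [2, 46, 4])])),
  (81, (lf [(106, [1, 22, 46]), (139, [1, 56, 4])]))]))]))]))])),
  (75, (nd [(63, (nd [(67, (nd [(70, (nd [(104, (lf [(106, [1, 46]), (139, [4, 46, 22])])),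
  (81, (lf [(106, [1, 48, 4]), (139, [1, 58, 46])]))])),
  (80, (nd [(81, (lf [(106, [4, 22, 0]), (139, [2, 48, 2])])),
  (104, (lf [(106, [2, 23, 0]), (139, [1, 50])]))]))])),
  (78, (nd [(80, (nd [(104, (lf [(106, [4, 23, 0]), (139, [2, 54, 2])])),
  (81, (lf [(106, [1, 53, 22, 4]), (139, [2, 57])]))])),
  (70, (nd [(81, (lf [(106, [2, 5, 53]), (139, [2, 4, 46])])),
  (104, (lf [(106, [4, 51, 48]), (139, [4, 52])]))]))]))])),
  (66, (nd [(78, (nd [(80, (nd [(104, (lf [(106, [2]), (139, [2, 50, 22])])),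
  (81, (lf [(106, [2, 56, 22]), (139, [2, 0])]))])),
  (70, (nd [(81, (lf [(106, [2, 61, 0]), (139, [4, 59, 4])])),
  (104, (lf [(106, [4, 47, 4]), (139, [2, 59, 0])]))]))])),
  (67, (nd [(70, (nd [(104, (lf [(106, [2, 51, 3, 0]), (139, [4, 52, 0])])),
  (81, (lf [(106, [2, 52, 23]), (139, [4, 61, 0])]))])),
  (80, (nd [(81, (lf [(106, [4, 0]), (139, [1, 5, 47, 4])])),
  (104, (lf [(106, [2, 3, 0]), (139, [2, 2, 0])]))]))]))]))]))])),
  (85, (nd [(61, (nd [(63, (nd [(78, (nd [(70, (nd [(104, (lf [(139, [1, 4, 46]), (106, [4, 54, 53])])),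
  (81, (lf [(139, [1, 4, 48, 4]), (106, [1, 23, 50, 4])]))])),
  (80, (nd [(81, (lf [(139, [1, 4, 51]), (106, [2, 53, 23])])),
  (104, (lf [(139, [2, 4, 49]), (106, [4, 23, 4])]))]))])),
  (67, (nd [(80, (nd [(104, (lf [(139, [1, 53, 4]), (106, [2, 22, 50])])),
  (81, (lf [(139, [4, 4]), (106, [2, 52])]))])),
  (70, (nd [(81, (lf [(139, [2, 53]), (106, [2, 5, 46])])),
  (104, (lf [(139, [4, 49, 4]), (106, [4, 53, 2])]))]))]))])),
  (66, (nd [(67, (nd [(80, (nd [(104, (lf [(139, [1, 4, 47]), (106, [4, 47, 0])])),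
  (81, (lf [(139, [1, 52, 22, 4]), (106, [1, 57, 53, 4])]))])),
  (70, (nd [(81, (lf [(139, [4, 60, 49]), (106, [2, 50, 3, 0])])),
  (104, (lf [(139, [2, 47, 23]), (106, [1, 4, 50])]))]))])),
  (78, (nd [(70, (nd [(104, (lf [(139, [4, 3, 51]), (106, [2, 51, 2])])),
  (81, (lf [(139, [1, 50, 4]), (106, [2, 47, 22])]))])),
  (80, (nd [(81, (lf [(139, [2, 59, 22]), (106, [2, 47])])),
  (104, (lf [(139, [4, 52, 22]), (106, [4, 22, 4])]))]))]))]))])),
  (75, (nd [(63, (nd [(78, (nd [(70, (nd [(81, (lf [(139, [4, 46, 0]), (106, [1, 5, 46])])),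
  (104, (lf [(139, [1, 22, 53, 4]), (106, [1, 5, 48, 4])]))])),
  (80, (nd [(104, (lf [(139, [4, 60]), (106, [2, 3, 50])])),
  (81, (lf [(139, [2, 54, 4]), (106, [4, 50, 48])]))]))])),
  (67, (nd [(80, (nd [(81, (lf [(139, [4, 46, 2]), (106, [2, 61, 22])])),
  (104, (lf [(139, [4, 48, 4]), (106, [2, 53, 0])]))])),
  (70, (nd [(104, (lf [(139, [2, 46]), (106, [2, 58, 22])])),
  (81, (lf [(139, [4, 57, 4]), (106, [4, 50, 22])]))]))]))])),
  (66, (nd [(67, (nd [(80, (nd [(81, (lf [(139, [2, 46, 5]), (106, [2, 5, 2])])),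
  (104, (lf [(139, [2, 49, 4]), (106, [2, 55, 5])]))])),
  (70, (nd [(104, (lf [(139, [2, 51, 23]), (106, [1, 5, 51])])),
  (81, (lf [(139, [4, 23, 5]), (106, [2, 5, 49])]))]))])),
  (78, (nd [(70, (nd [(81, (lf [(139, [2, 22, 52]), (106, [1, 51, 5])])),
  (104, (lf [(139, [2, 50]), (106, [4, 5])]))])),
  (80, (nd [(104, (lf [(139, [4, 61, 4]), (106, [1, 47, 5])])),
  (81, (lf [(139, [2, 47, 0]), (106, [2, 23, 47, 0])]))]))]))]))]))]))])),
  (86, (nd [(60, (nd [(62, (nd [(67, (nd [(63, (nd [(89, (nd [(106, (lf [(81, [6])])),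
  (139, (lf [(104, [6, 40])]))]))]))])),
  (78, (nd [(66, (nd [(89, (nd [(139, (lf [(104, [6, 18])])),
  (106, (lf [(81, [6, 24])]))]))]))]))])),
  (68, (nd [(67, (nd [(63, (nd [(83, (nd [(106, (lf [(81, [6, 48, 8])])),
  (139, (lf [(104, [6, 49])]))]))]))])),
  (78, (nd [(66, (nd [(83, (nd [(139, (lf [(104, [6, 14, 10])])),
  (106, (lf [(81, [6, 16])]))]))]))]))]))]))])),
  (79, (nd [(60, (nd [(61, (nd [(63, (nd [(67, (nd [(80, (nd [(81, (lf [(106, [1]), (139, [4, 22])])),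
  (104, (lf [(106, [4, 55, 0]), (139, [4, 3, 48])]))])),
  (70, (nd [(104, (lf [(106, [1, 23, 5]), (139, [2, 52, 47])])),
  (81, (lf [(106, [2, 4, 22]), (139, [1, 58])]))]))])),
  (78, (nd [(70, (nd [(81, (lf [(106, [1, 57, 4]), (139, [2, 47, 54])])),
  (104, (lf [(106, [1, 54, 5]), (139, [2, 4, 23])]))])),
  (80, (nd [(104, (lf [(106, [2, 58, 23]), (139, [2, 0, 23])])),
  (81, (lf [(106, [1, 22, 51]), (139, [1, 61, 22, 4])]))]))]))])),
  (66, (nd [(78, (nd [(70, (nd [(81, (lf [(106, [1, 5]), (139, [4, 5, 22])])),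
  (104, (lf [(106, [4, 2, 50]), (139, [4, 58, 2])]))])),
  (80, (nd [(104, (lf [(106, [4, 2]), (139, [2, 57, 22])])),
  (81, (lf [(106, [2, 22, 2]), (139, [4, 54, 0])]))]))])),
  (67, (nd [(80, (nd [(81, (lf [(106, [4, 3]), (139, [2, 61, 4])])),
  (104, (lf [(106, [4, 49]), (139, [2, 55])]))])),
  (70, (nd [(104, (lf [(106, [2, 61, 55]), (139, [2, 47, 5])])),
  (81, (lf [(106, [1, 22, 47]), (139, [1, 55, 4])]))]))]))]))])),
  (75, (nd [(63, (nd [(67, (nd [(80, (nd [(104, (lf [(106, [1, 47]), (139, [4, 47, 22])])),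
  (81, (lf [(106, [1, 49, 4]), (139, [1, 0, 46])]))])),
  (70, (nd [(81, (lf [(106, [1, 51]), (139, [2, 48])])),
  (104, (lf [(106, [2, 49]), (139, [4, 2, 2])]))]))])),
  (78, (nd [(70, (nd [(104, (lf [(106, [1, 47, 22, 4]), (139, [2, 54])])),
  (81, (lf [(106, [4]), (139, [2, 57, 2])]))])),
  (80, (nd [(81, (lf [(106, [2, 4, 51]), (139, [2, 5, 47])])),
  (104, (lf [(106, [4, 53, 48]), (139, [4, 50])]))]))]))])),
  (66, (nd [(78, (nd [(70, (nd [(104, (lf [(106, [2, 2]), (139, [2, 5, 47, 4])])),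
  (81, (lf [(106, [2, 2, 56, 0]), (139, [2, 58])]))])),
  (80, (nd [(81, (lf [(106, [2, 60, 0]), (139, [4, 60, 4])])),
  (104, (lf [(106, [4, 46, 5]), (139, [2, 58, 0])]))]))])),
  (67, (nd [(80, (nd [(104, (lf [(106, [2, 53, 3, 0]), (139, [4, 50, 0])])),
  (81, (lf [(106, [2, 50, 23]), (139, [4, 60, 0])]))])),
  (70, (nd [(81, (lf [(106, [1, 23, 51]), (139, [4, 2, 0])])),
  (104, (lf [(106, [2, 48, 55]), (139, [2, 56, 0])]))]))]))]))]))])),
  (85, (nd [(61, (nd [(63, (nd [(78, (nd [(80, (nd [(104, (lf [(139, [2, 4, 2]), (106, [2, 47, 4])])),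
  (81, (lf [(139, [2, 55, 4]), (106, [2, 49, 5])]))])),
  (70, (nd [(81, (lf [(139, [2, 23, 4]), (106, [4, 58])])),
  (104, (lf [(139, [4, 51]), (106, [2, 53, 5])]))]))])),
  (67, (nd [(70, (nd [(104, (lf [(139, [2, 22, 4]), (106, [4, 23, 58])])),
  (81, (lf [(139, [2, 5, 53, 0]), (106, [4, 52, 2])]))])),
  (80, (nd [(81, (lf [(139, [1, 46, 4]), (106, [4, 51, 4])])),
  (104, (lf [(139, [2, 23, 46, 0]), (106, [2, 46, 0])]))]))]))])),
  (66, (nd [(67, (nd [(70, (nd [(104, (lf [(139, [2, 4]), (106, [2, 53, 4])])),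
  (81, (lf [(139, [2, 54, 53]), (106, [2, 4, 0])]))])),
  (80, (nd [(81, (lf [(139, [2, 3, 52]), (106, [4, 61])])),
  (104, (lf [(139, [4, 52, 48]), (106, [2, 54, 5])]))]))])),
  (78, (nd [(80, (nd [(104, (lf [(139, [2, 60, 22]), (106, [4, 47, 2])])),
  (81, (lf [(139, [2, 51, 0]), (106, [4, 46, 4])]))])),
  (70, (nd [(81, (lf [(139, [4, 4, 0]), (106, [1, 47, 4])])),
  (104, (lf [(139, [2, 50, 0]), (106, [2, 4, 2, 0])]))]))]))]))])),
  (75, (nd [(63, (nd [(78, (nd [(80, (nd [(81, (lf [(139, [2, 51, 5]), (106, [2, 5])])),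
  (104, (lf [(139, [2, 5, 0]), (106, [2, 54, 51])]))])),
  (70, (nd [(104, (lf [(139, [2, 52, 3, 0]), (106, [4, 61, 49])])),
  (81, (lf [(139, [1, 5, 50]), (106, [2, 46, 23])]))]))])),
  (67, (nd [(70, (nd [(81, (lf [(139, [2, 53, 2]), (106, [4, 3, 53])])),
  (104, (lf [(139, [2, 46, 22]), (106, [1, 52, 5])]))])),
  (80, (nd [(104, (lf [(139, [1, 46, 5]), (106, [4, 5, 0])])),
  (81, (lf [(139, [2, 5, 2, 0]), (106, [2, 52, 0])]))]))]))])),
  (66, (nd [(67, (nd [(70, (nd [(81, (lf [(139, [4, 54, 51]), (106, [1, 5, 47])])),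
  (104, (lf [(139, [1, 22, 46, 4]), (106, [1, 23, 46, 4])]))])),
  (80, (nd [(104, (lf [(139, [4, 59]), (106, [2, 23, 5])])),
  (81, (lf [(139, [2, 51, 4]), (106, [4, 53])]))]))])),
  (78, (nd [(80, (nd [(81, (lf [(139, [4, 23, 59]), (106, [2, 22, 5])])),
  (104, (lf [(139, [4, 50, 2]), (106, [2, 4, 51, 0])]))])),
  (70, (nd [(104, (lf [(139, [2, 4, 47]), (106, [2, 51])])),
  (81, (lf [(139, [4, 51, 2]), (106, [4, 49, 5])]))]))]))]))]))]))])),
  (84, (nd [(60, (nd [(62, (nd [(67, (nd [(63, (nd [(83, (nd [(106, (lf [(81, [6, 8])])),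
  (139, (lf [(104, [6, 10])]))]))]))])),
  (78, (nd [(66, (nd [(83, (nd [(139, (lf [(104, [6, 34])])),
  (106, (lf [(81, [6, 32])]))]))]))]))])),
  (68, (nd [(67, (nd [(63, (nd [(89, (nd [(106, (lf [(81, [6, 48])])),
  (139, (lf [(104, [6, 49, 8])]))]))]))])),
  (78, (nd [(66, (nd [(89, (nd [(139, (lf [(104, [6, 16, 10])])),
  (106, (lf [(81, [6, 14])]))]))]))]))]))]))])),
  (112, (nd [(171, (nd [(114, (nd [(146, (nd [(168, (nd [(152, (nd [(156, (lf [(121, [3, 26])]))]))]))])),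
  (169, (nd [(142, (nd [(151, (nd [(155, (lf [(121, [3, 36])]))]))]))]))])),
  (138, (nd [(146, (nd [(168, (nd [(151, (nd [(156, (lf [(121, [3, 16])]))]))]))])),
  (169, (nd [(142, (nd [(152, (nd [(155, (lf [(121, [3, 36, 0])]))]))]))]))]))])),
  (179, (nd [(114, (nd [(146, (nd [(168, (nd [(151, (nd [(156, (lf [(119, [3, 10])]))]))]))])),
  (169, (nd [(142, (nd [(152, (nd [(155, (lf [(119, [3, 18])]))]))]))]))])),
  (138, (nd [(146, (nd [(168, (nd [(152, (nd [(156, (lf [(119, [3, 38])]))]))]))])),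
  (169, (nd [(142, (nd [(151, (nd [(155, (lf [(119, [3, 30])]))]))]))]))]))]))])),
  (119, (nd [(176, (nd [(120, (nd [(146, (nd [(168, (nd [(129, (nd [(131, (lf [(112, [6, 59, 54, 16])]))])),
  (128, (nd [(131, (lf [(113, [6, 4, 61, 3])]))]))]))]))])),
  (130, (nd [(146, (nd [(168, (nd [(129, (nd [(131, (lf [(113, [6, 59, 55, 14])]))])),
  (128, (nd [(131, (lf [(112, [6, 23, 58, 4])]))]))]))]))]))])),
  (174, (nd [(120, (nd [(169, (nd [(142, (nd [(129, (nd [(131, (lf [(112, [6, 60, 57])]))])),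
  (128, (nd [(131, (lf [(113, [6, 59, 56])]))]))]))]))])),
  (130, (nd [(169, (nd [(142, (nd [(129, (nd [(131, (lf [(113, [6, 57, 59])]))])),
  (128, (nd [(131, (lf [(112, [6, 57, 60])]))]))]))]))]))]))])),
  (166, (nd [(171, (nd [(88, (nd [(78, (nd [(66, (nd [(143, (nd [(126, (lf [(147, [3, 20, 59])]))]))]))])),
  (67, (nd [(63, (nd [(159, (nd [(126, (lf [(161, [3, 59, 38])]))]))]))]))])),
  (99, (nd [(78, (nd [(66, (nd [(159, (nd [(126, (lf [(147, [3, 59, 16])]))]))]))])),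
  (67, (nd [(63, (nd [(143, (nd [(126, (lf [(161, [3, 59, 0])]))]))]))]))]))])),
  (179, (nd [(88, (nd [(78, (nd [(66, (nd [(143, (nd [(110, (lf [(161, [3, 59, 30])]))]))]))])),
  (67, (nd [(63, (nd [(159, (nd [(110, (lf [(147, [3, 59, 44])]))]))]))]))])),
  (99, (nd [(78, (nd [(66, (nd [(159, (nd [(110, (lf [(161, [3, 59, 20])]))]))]))])),
  (67, (nd [(63, (nd [(143, (nd [(110, (lf [(147, [3, 55, 46])]))]))]))]))]))]))])),
  (110, (nd [(176, (nd [(102, (nd [(63, (nd [(67, (nd [(167, (nd [(154, (lf [(157, [6, 58, 56, 16])]))])),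
  (150, (nd [(166, (lf [(157, [6, 2, 60, 5])]))]))]))]))])),
  (90, (nd [(63, (nd [(67, (nd [(167, (nd [(166, (lf [(157, [6, 23, 60, 5])]))])),
  (150, (nd [(154, (lf [(157, [6, 3, 59, 2])]))]))]))]))]))])),
  (174, (nd [(102, (nd [(63, (nd [(67, (nd [(150, (nd [(166, (lf [(157, [6, 5, 60, 3])]))])),
  (167, (nd [(154, (lf [(157, [6, 58, 54, 10])]))]))]))]))])),
  (90, (nd [(63, (nd [(67, (nd [(150, (nd [(154, (lf [(157, [6, 57, 46])]))])),
  (167, (nd [(166, (lf [(157, [6, 57, 58])]))]))]))]))]))]))])),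
  (131, (nd [(171, (nd [(103, (nd [(142, (nd [(169, (nd [(133, (nd [(121, (lf [(156, [6, 60, 54, 16])]))])),
  (115, (nd [(121, (lf [(155, [6, 56, 47, 14])]))]))]))]))])),
  (87, (nd [(142, (nd [(169, (nd [(133, (nd [(121, (lf [(155, [6, 55, 47, 14])]))])),
  (115, (nd [(121, (lf [(156, [6, 47, 56, 16])]))]))]))]))]))])),
  (179, (nd [(103, (nd [(168, (nd [(146, (nd [(133, (nd [(121, (lf [(156, [6, 56, 60])]))])),
  (115, (nd [(121, (lf [(155, [6, 55, 47])]))]))]))]))])),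
  (87, (nd [(168, (nd [(146, (nd [(133, (nd [(121, (lf [(155, [6, 54, 47])]))])),
  (115, (nd [(121, (lf [(156, [6, 54, 59])]))]))]))]))]))]))])),
  (156, (nd [(176, (nd [(91, (nd [(142, (nd [(169, (nd [(111, (nd [(113, (lf [(127, [3, 48, 16])]))]))]))])),
  (168, (nd [(146, (nd [(117, (nd [(113, (lf [(131, [3, 49, 8])]))]))]))]))])),
  (97, (nd [(142, (nd [(169, (nd [(117, (nd [(113, (lf [(127, [3, 49, 16])]))]))]))])),
  (168, (nd [(146, (nd [(111, (nd [(113, (lf [(131, [3, 50, 8])]))]))]))]))]))])),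
  (174, (nd [(91, (nd [(142, (nd [(169, (nd [(111, (nd [(112, (lf [(131, [3, 53])]))]))]))])),
  (168, (nd [(146, (nd [(117, (nd [(112, (lf [(127, [3, 49, 14])]))]))]))]))])),
  (97, (nd [(142, (nd [(169, (nd [(117, (nd [(112, (lf [(131, [3, 52])]))]))]))])),
  (168, (nd [(146, (nd [(111, (nd [(112, (lf [(127, [3, 50, 14])]))]))]))]))]))]))])),
  (157, (nd [(171, (nd [(116, (nd [(63, (nd [(67, (nd [(108, (nd [(161, (lf [(126, [6, 46, 55, 16])]))])),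
  (124, (nd [(147, (lf [(126, [6, 61, 55, 14])]))]))]))]))])),
  (132, (nd [(63, (nd [(67, (nd [(108, (nd [(147, (lf [(126, [6, 46, 55, 14])]))])),
  (124, (nd [(161, (lf [(126, [6, 54, 46, 16])]))]))]))]))]))])),
  (179, (nd [(116, (nd [(63, (nd [(67, (nd [(124, (nd [(147, (lf [(126, [6, 55, 46])]))])),
  (108, (nd [(161, (lf [(126, [6, 56, 46])]))]))]))]))])),
  (132, (nd [(63, (nd [(67, (nd [(124, (nd [(161, (lf [(126, [6, 55, 58])]))])),
  (108, (nd [(147, (lf [(126, [6, 56, 58])]))]))]))]))]))]))])),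
  (147, (nd [(176, (nd [(118, (nd [(78, (nd [(66, (nd [(153, (nd [(162, (lf [(154, [3, 60, 16])]))]))]))])),
  (67, (nd [(63, (nd [(163, (nd [(157, (lf [(154, [3, 60, 0])]))]))]))]))])),
  (137, (nd [(78, (nd [(66, (nd [(163, (nd [(162, (lf [(154, [3, 47, 16])]))]))]))])),
  (67, (nd [(63, (nd [(153, (nd [(157, (lf [(154, [3, 60])]))]))]))]))]))])),
  (174, (nd [(118, (nd [(78, (nd [(66, (nd [(163, (nd [(162, (lf [(166, [3, 60, 18])]))]))]))])),
  (67, (nd [(63, (nd [(153, (nd [(157, (lf [(166, [3, 47, 8])]))]))]))]))])),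
  (137, (nd [(78, (nd [(66, (nd [(153, (nd [(162, (lf [(166, [3, 56])]))]))]))])),
  (67, (nd [(63, (nd [(163, (nd [(157, (lf [(166, [3, 56, 18])]))]))]))]))]))]))])),
  (106, (nd [(145, (nd [(170, (nd [(63, (nd [(67, (nd [(109, (nd [(86, (lf [(69, [6, 58, 16])]))])),
  (141, (nd [(84, (lf [(69, [6, 18, 46])]))]))]))]))])),
  (178, (nd [(63, (nd [(67, (nd [(109, (nd [(84, (lf [(69, [6, 46, 18])]))])),
  (141, (nd [(86, (lf [(69, [6, 61, 24])]))]))]))]))]))])),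
  (148, (nd [(170, (nd [(63, (nd [(67, (nd [(141, (nd [(84, (lf [(69, [6, 46, 8])]))])),
  (109, (nd [(86, (lf [(69, [6, 61])]))]))]))]))])),
  (178, (nd [(63, (nd [(67, (nd [(141, (nd [(86, (lf [(69, [6, 46])]))])),
  (109, (nd [(84, (lf [(69, [6, 8, 46])]))]))]))]))]))]))])),
  (134, (nd [(145, (nd [(144, (nd [(142, (nd [(169, (nd [(93, (nd [(77, (lf [(94, [3, 61, 16])]))]))]))])),
  (168, (nd [(146, (nd [(101, (nd [(73, (lf [(94, [3, 61, 14])]))]))]))]))])),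
  (149, (nd [(142, (nd [(169, (nd [(101, (nd [(77, (lf [(94, [3, 46, 24])]))]))]))])),
  (168, (nd [(146, (nd [(93, (nd [(73, (lf [(94, [3, 46, 18])]))]))]))]))]))])),
  (148, (nd [(144, (nd [(142, (nd [(169, (nd [(101, (nd [(77, (lf [(98, [3, 57])]))]))]))])),
  (168, (nd [(146, (nd [(93, (nd [(73, (lf [(98, [3, 46, 10])]))]))]))]))])),
  (149, (nd [(142, (nd [(169, (nd [(93, (nd [(77, (lf [(98, [3, 61, 8])]))]))]))])),
  (168, (nd [(146, (nd [(101, (nd [(73, (lf [(98, [3, 57, 20])]))]))]))]))]))]))])),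
  (73, (nd [(60, (nd [(123, (nd [(146, (nd [(168, (nd [(95, (nd [(134, (lf [(100, [6, 57, 24])])),
  (122, (lf [(92, [6, 57, 14])]))]))]))])),
  (169, (nd [(142, (nd [(95, (nd [(122, (lf [(92, [6, 57, 8])])),
  (134, (lf [(100, [6, 48, 55])]))]))]))]))])),
  (135, (nd [(146, (nd [(168, (nd [(96, (nd [(134, (lf [(100, [6, 14, 57])])),
  (122, (lf [(92, [6, 57, 18])]))]))]))])),
  (169, (nd [(142, (nd [(96, (nd [(122, (lf [(92, [6, 57, 49])])),
  (134, (lf [(100, [6, 57, 10])]))]))]))]))]))]))])),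
  (113, (nd [(171, (nd [(138, (nd [(146, (nd [(168, (nd [(152, (nd [(155, (lf [(119, [3, 24])]))]))]))])),
  (169, (nd [(142, (nd [(151, (nd [(156, (lf [(119, [3, 8])]))]))]))]))])),
  (114, (nd [(146, (nd [(168, (nd [(151, (nd [(155, (lf [(119, [3, 24, 0])]))]))]))])),
  (169, (nd [(142, (nd [(152, (nd [(156, (lf [(119, [3, 44])]))]))]))]))]))])),
  (179, (nd [(138, (nd [(146, (nd [(168, (nd [(151, (nd [(155, (lf [(121, [3])]))]))]))])),
  (169, (nd [(142, (nd [(152, (nd [(156, (lf [(121, [3, 14])]))]))]))]))])),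
  (114, (nd [(146, (nd [(168, (nd [(152, (nd [(155, (lf [(121, [3, 0])]))]))]))])),
  (169, (nd [(142, (nd [(151, (nd [(156, (lf [(121, [3, 20])]))]))]))]))]))]))])),
  (139, (nd [(145, (nd [(170, (nd [(63, (nd [(67, (nd [(141, (nd [(84, (lf [(79, [6, 46, 24])]))])),
  (109, (nd [(86, (lf [(79, [6, 46, 14])]))]))]))]))])),
  (178, (nd [(63, (nd [(67, (nd [(141, (nd [(86, (lf [(79, [6, 58, 18])]))])),
  (109, (nd [(84, (lf [(79, [6, 46, 16])]))]))]))]))]))])),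
  (148, (nd [(170, (nd [(63, (nd [(67, (nd [(109, (nd [(86, (lf [(79, [6, 58])]))])),
  (141, (nd [(84, (lf [(79, [6, 61, 10])]))]))]))]))])),
  (178, (nd [(63, (nd [(67, (nd [(109, (nd [(84, (lf [(79, [6, 46, 10])]))])),
  (141, (nd [(86, (lf [(79, [6, 49, 46])]))]))]))]))]))]))])),
  (94, (nd [(60, (nd [(107, (nd [(142, (nd [(169, (nd [(76, (nd [(92, (lf [(134, [6, 55, 16])])),
  (100, (lf [(122, [6, 55, 32])]))]))]))])),
  (168, (nd [(146, (nd [(76, (nd [(100, (lf [(122, [6, 55])])),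
  (92, (lf [(134, [6, 54, 40])]))]))]))]))])),
  (140, (nd [(142, (nd [(169, (nd [(72, (nd [(92, (lf [(134, [6, 56, 16])])),
  (100, (lf [(122, [6, 54, 14])]))]))]))])),
  (168, (nd [(146, (nd [(72, (nd [(100, (lf [(122, [6, 56, 8])])),
  (92, (lf [(134, [6, 54, 8])]))]))]))]))]))]))])),
  (92, (nd [(145, (nd [(175, (nd [(146, (nd [(168, (nd [(136, (nd [(98, (lf [(77, [3, 55, 16])]))]))]))])),
  (169, (nd [(142, (nd [(125, (nd [(98, (lf [(73, [3, 58, 20])]))]))]))]))])),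
  (172, (nd [(146, (nd [(168, (nd [(125, (nd [(98, (lf [(77, [3, 55, 24])]))]))]))])),
  (169, (nd [(142, (nd [(136, (nd [(98, (lf [(73, [3, 54, 8])]))]))]))]))]))])),
  (148, (nd [(175, (nd [(146, (nd [(168, (nd [(136, (nd [(94, (lf [(73, [3, 54, 0])]))]))]))])),
  (169, (nd [(142, (nd [(125, (nd [(94, (lf [(77, [3, 58])]))]))]))]))])),
  (172, (nd [(146, (nd [(168, (nd [(125, (nd [(94, (lf [(73, [3, 55, 0])]))]))]))])),
  (169, (nd [(142, (nd [(136, (nd [(94, (lf [(77, [3, 58, 10])]))]))]))]))]))]))])),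
  (161, (nd [(176, (nd [(137, (nd [(78, (nd [(66, (nd [(153, (nd [(157, (lf [(166, [3, 56, 16])]))]))]))])),
  (67, (nd [(63, (nd [(163, (nd [(162, (lf [(166, [3, 47, 0])]))]))]))]))])),
  (118, (nd [(78, (nd [(66, (nd [(163, (nd [(157, (lf [(166, [3, 5, 23])]))]))]))])),
  (67, (nd [(63, (nd [(153, (nd [(162, (lf [(166, [3, 47])]))]))]))]))]))])),
  (174, (nd [(137, (nd [(78, (nd [(66, (nd [(163, (nd [(157, (lf [(154, [3, 56, 10])]))]))]))])),
  (67, (nd [(63, (nd [(153, (nd [(162, (lf [(154, [3, 56, 14])]))]))]))]))])),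
  (118, (nd [(78, (nd [(66, (nd [(153, (nd [(157, (lf [(154, [3, 56, 0])]))]))]))])),
  (67, (nd [(63, (nd [(163, (nd [(162, (lf [(154, [3, 56, 30])]))]))]))]))]))]))])),
  (81, (nd [(145, (nd [(173, (nd [(78, (nd [(66, (nd [(82, (nd [(69, (lf [(84, [6, 47, 18])]))])),
  (105, (nd [(69, (lf [(86, [6, 47, 16])]))]))]))]))])),
  (177, (nd [(78, (nd [(66, (nd [(82, (nd [(69, (lf [(86, [6, 47, 24])]))])),
  (105, (nd [(69, (lf [(84, [6, 30, 47])]))]))]))]))]))])),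
  (148, (nd [(173, (nd [(67, (nd [(63, (nd [(82, (nd [(69, (lf [(84, [6, 59])]))])),
  (105, (nd [(69, (lf [(86, [6, 60])]))]))]))]))])),
  (177, (nd [(67, (nd [(63, (nd [(82, (nd [(69, (lf [(86, [6, 47])]))])),
  (105, (nd [(69, (lf [(84, [6, 8, 47])]))]))]))]))]))]))])),
  (122, (nd [(145, (nd [(149, (nd [(142, (nd [(169, (nd [(93, (nd [(73, (lf [(98, [3, 22, 4])]))]))]))])),
  (168, (nd [(146, (nd [(101, (nd [(77, (lf [(98, [3, 61, 18])]))]))]))]))])),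
  (144, (nd [(142, (nd [(169, (nd [(101, (nd [(73, (lf [(98, [3, 57, 16])]))]))]))])),
  (168, (nd [(146, (nd [(93, (nd [(77, (lf [(98, [3, 57, 8])]))]))]))]))]))])),
  (148, (nd [(149, (nd [(142, (nd [(169, (nd [(101, (nd [(73, (lf [(94, [3, 46, 36])]))]))]))])),
  (168, (nd [(146, (nd [(93, (nd [(77, (lf [(94, [3, 46])]))]))]))]))])),
  (144, (nd [(142, (nd [(169, (nd [(93, (nd [(73, (lf [(94, [3, 57, 0])]))]))]))])),
  (168, (nd [(146, (nd [(101, (nd [(77, (lf [(94, [3, 46, 0])]))]))]))]))]))]))])),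
  (104, (nd [(145, (nd [(173, (nd [(78, (nd [(66, (nd [(105, (nd [(79, (lf [(86, [6, 59, 18])]))])),
  (82, (nd [(79, (lf [(84, [6, 60, 24])]))]))]))]))])),
  (177, (nd [(78, (nd [(66, (nd [(105, (nd [(79, (lf [(84, [6, 59, 16])]))])),
  (82, (nd [(79, (lf [(86, [6, 47, 14])]))]))]))]))]))])),
  (148, (nd [(173, (nd [(67, (nd [(63, (nd [(105, (nd [(79, (lf [(86, [6, 47, 8])]))])),
  (82, (nd [(79, (lf [(84, [6, 60, 10])]))]))]))]))])),
  (177, (nd [(67, (nd [(63, (nd [(105, (nd [(79, (lf [(84, [6, 47, 10])]))])),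
  (82, (nd [(79, (lf [(86, [6, 58, 46])]))]))]))]))]))]))])),
  (121, (nd [(176, (nd [(130, (nd [(146, (nd [(168, (nd [(129, (nd [(127, (lf [(113, [6, 2, 58, 4])]))])),
  (128, (nd [(127, (lf [(112, [6, 57, 47, 14])]))]))]))]))])),
  (120, (nd [(146, (nd [(168, (nd [(129, (nd [(127, (lf [(112, [6, 59, 56, 14])]))])),
  (128, (nd [(127, (lf [(113, [6, 57, 47, 16])]))]))]))]))]))])),
  (174, (nd [(130, (nd [(169, (nd [(142, (nd [(129, (nd [(127, (lf [(113, [6, 57, 47])]))])),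
  (128, (nd [(127, (lf [(112, [6, 2, 61, 4])]))]))]))]))])),
  (120, (nd [(169, (nd [(142, (nd [(129, (nd [(127, (lf [(112, [6, 57, 47, 8])]))])),
  (128, (nd [(127, (lf [(113, [6, 59, 54])]))]))]))]))]))]))])),
  (154, (nd [(171, (nd [(99, (nd [(67, (nd [(63, (nd [(159, (nd [(110, (lf [(147, [3, 59, 10])]))]))]))])),
  (78, (nd [(66, (nd [(143, (nd [(110, (lf [(161, [3, 59, 24])]))]))]))]))])),
  (88, (nd [(67, (nd [(63, (nd [(143, (nd [(110, (lf [(147, [3, 59])]))]))]))])),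
  (78, (nd [(66, (nd [(159, (nd [(110, (lf [(161, [3, 59, 26])]))]))]))]))]))])),
  (179, (nd [(99, (nd [(67, (nd [(63, (nd [(159, (nd [(126, (lf [(161, [3, 59, 8])]))]))]))])),
  (78, (nd [(66, (nd [(143, (nd [(126, (lf [(147, [3, 59, 18])]))]))]))]))])),
  (88, (nd [(67, (nd [(63, (nd [(143, (nd [(126, (lf [(161, [3, 59, 36])]))]))]))])),
  (78, (nd [(66, (nd [(159, (nd [(126, (lf [(147, [3, 59, 14])]))]))]))]))]))]))])),
  (126, (nd [(176, (nd [(90, (nd [(63, (nd [(67, (nd [(167, (nd [(166, (lf [(162, [6, 57, 46, 16])]))])),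
  (150, (nd [(154, (lf [(162, [6, 46, 57, 14])]))]))]))]))])),
  (102, (nd [(63, (nd [(67, (nd [(167, (nd [(154, (lf [(162, [6, 58, 56, 14])]))])),
  (150, (nd [(166, (lf [(162, [6, 58, 54, 16])]))]))]))]))]))])),
  (174, (nd [(90, (nd [(63, (nd [(67, (nd [(150, (nd [(154, (lf [(162, [6, 58, 56])]))])),
  (167, (nd [(166, (lf [(162, [6, 58, 54])]))]))]))]))])),
  (102, (nd [(63, (nd [(67, (nd [(150, (nd [(166, (lf [(162, [6, 58, 55])]))])),
  (167, (nd [(154, (lf [(162, [6, 23, 59, 5])]))]))]))]))]))]))])),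
  (98, (nd [(60, (nd [(140, (nd [(168, (nd [(146, (nd [(76, (nd [(92, (lf [(134, [6, 54])])),
  (100, (lf [(122, [6, 56])]))]))]))])),
  (142, (nd [(169, (nd [(76, (nd [(100, (lf [(122, [6, 54, 16])])),
  (92, (lf [(134, [6, 56, 14])]))]))]))]))])),
  (107, (nd [(168, (nd [(146, (nd [(72, (nd [(92, (lf [(134, [6, 54, 10])])),
  (100, (lf [(122, [6, 55, 8])]))]))]))])),
  (142, (nd [(169, (nd [(72, (nd [(100, (lf [(122, [6, 55, 24])])),
  (92, (lf [(134, [6, 55, 14])]))]))]))]))]))]))])),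
  (127, (nd [(171, (nd [(103, (nd [(142, (nd [(169, (nd [(115, (nd [(119, (lf [(155, [6, 56, 47, 16])]))])),
  (133, (nd [(119, (lf [(156, [6, 54, 47, 14])]))]))]))]))])),
  (87, (nd [(142, (nd [(169, (nd [(115, (nd [(119, (lf [(156, [6, 47, 55, 14])]))])),
  (133, (nd [(119, (lf [(155, [6, 54, 47, 16])]))]))]))]))]))])),
  (179, (nd [(103, (nd [(168, (nd [(146, (nd [(115, (nd [(119, (lf [(155, [6, 60, 56])]))])),
  (133, (nd [(119, (lf [(156, [6, 47, 54])]))]))]))]))])),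
  (87, (nd [(168, (nd [(146, (nd [(115, (nd [(119, (lf [(156, [6, 60, 55])]))])),
  (133, (nd [(119, (lf [(155, [6, 56, 47])]))]))]))]))]))]))])),
  (100, (nd [(145, (nd [(175, (nd [(169, (nd [(142, (nd [(136, (nd [(94, (lf [(77, [3, 58, 18])]))]))]))])),
  (146, (nd [(168, (nd [(125, (nd [(94, (lf [(73, [3, 54, 24])]))]))]))]))])),
  (172, (nd [(169, (nd [(142, (nd [(125, (nd [(94, (lf [(77, [3, 58, 14])]))]))]))])),
  (146, (nd [(168, (nd [(136, (nd [(94, (lf [(73, [3, 54, 16])]))]))]))]))]))])),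
  (148, (nd [(175, (nd [(169, (nd [(142, (nd [(136, (nd [(98, (lf [(73, [3, 54, 18])]))]))]))])),
  (146, (nd [(168, (nd [(125, (nd [(98, (lf [(77, [3, 54])]))]))]))]))])),
  (172, (nd [(169, (nd [(142, (nd [(125, (nd [(98, (lf [(73, [3, 58, 0])]))]))]))])),
  (146, (nd [(168, (nd [(136, (nd [(98, (lf [(77, [3, 55])]))]))]))]))]))]))])),
  (155, (nd [(176, (nd [(91, (nd [(142, (nd [(169, (nd [(117, (nd [(112, (lf [(131, [3, 48, 24])]))]))]))])),
  (168, (nd [(146, (nd [(111, (nd [(112, (lf [(127, [3, 48, 36])]))]))]))]))])),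
  (97, (nd [(142, (nd [(169, (nd [(111, (nd [(112, (lf [(131, [3, 51, 16])]))]))]))])),
  (168, (nd [(146, (nd [(117, (nd [(112, (lf [(127, [3, 48, 8])]))]))]))]))]))])),
  (174, (nd [(91, (nd [(142, (nd [(169, (nd [(117, (nd [(113, (lf [(127, [3, 50])]))]))]))])),
  (168, (nd [(146, (nd [(111, (nd [(113, (lf [(131, [3, 48, 14])]))]))]))]))])),
  (97, (nd [(142, (nd [(169, (nd [(111, (nd [(113, (lf [(127, [3, 48])]))]))]))])),
  (168, (nd [(146, (nd [(117, (nd [(113, (lf [(131, [3, 51, 14])]))]))]))]))]))]))])),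
  (162, (nd [(171, (nd [(116, (nd [(63, (nd [(67, (nd [(124, (nd [(147, (lf [(110, [6, 55, 46, 16])]))])),
  (108, (nd [(161, (lf [(110, [6, 5, 59, 3])]))]))]))]))])),
  (132, (nd [(63, (nd [(67, (nd [(124, (nd [(161, (lf [(110, [6, 61, 54, 14])]))])),
  (108, (nd [(147, (lf [(110, [6, 46, 54, 16])]))]))]))]))]))])),
  (179, (nd [(116, (nd [(63, (nd [(67, (nd [(108, (nd [(161, (lf [(110, [6, 54, 46])]))])),
  (124, (nd [(147, (lf [(110, [6, 46, 54, 8])]))]))]))]))])),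
  (132, (nd [(63, (nd [(67, (nd [(108, (nd [(147, (lf [(110, [6, 56, 61])]))])),
  (124, (nd [(161, (lf [(110, [6, 46, 54])]))]))]))]))]))]))])),
  (77, (nd [(60, (nd [(123, (nd [(146, (nd [(168, (nd [(96, (nd [(134, (lf [(100, [6, 57, 32])])),
  (122, (lf [(92, [6, 57, 16])]))]))]))])),
  (169, (nd [(142, (nd [(96, (nd [(122, (lf [(92, [6, 57])])),
  (134, (lf [(100, [6, 57, 48])]))]))]))]))])),
  (135, (nd [(146, (nd [(168, (nd [(95, (nd [(134, (lf [(100, [6, 14, 57, 8])])),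
  (122, (lf [(92, [6, 57, 34])]))]))]))])),
  (169, (nd [(142, (nd [(95, (nd [(122, (lf [(92, [6, 49, 54])])),
  (134, (lf [(100, [6, 57, 40])]))]))]))]))]))]))])),
  (141, (nd [(145, (nd [(177, (nd [(63, (nd [(67, (nd [(139, (nd [(89, (lf [(80, [5, 56, 51, 3])]))])),
  (106, (nd [(89, (lf [(70, [5, 57, 46, 3])]))]))]))]))])),
  (173, (nd [(63, (nd [(67, (nd [(139, (nd [(83, (lf [(80, [5, 55, 47, 3])]))])),
  (106, (nd [(83, (lf [(70, [5, 4, 58, 0])]))]))]))]))]))])),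
  (148, (nd [(177, (nd [(63, (nd [(67, (nd [(106, (nd [(83, (lf [(70, [5, 60, 22])]))])),
  (139, (nd [(83, (lf [(80, [5, 51, 22])]))]))]))]))])),
  (173, (nd [(63, (nd [(67, (nd [(106, (nd [(89, (lf [(70, [5, 3, 57, 4])]))])),
  (139, (nd [(89, (lf [(80, [5, 4, 61, 0])]))]))]))]))]))]))])),
  (83, (nd [(60, (nd [(61, (nd [(78, (nd [(66, (nd [(86, (nd [(109, (lf [(82, [5, 56, 58, 3])])),
  (141, (lf [(105, [5, 54, 14, 3])]))])),
  (84, (nd [(141, (lf [(82, [5, 54, 3])])),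
  (109, (lf [(105, [5, 23, 48, 0])]))]))]))])),
  (67, (nd [(63, (nd [(84, (nd [(109, (lf [(82, [5, 49, 22])])),
  (141, (lf [(105, [5, 57, 26, 3])]))])),
  (86, (nd [(141, (lf [(82, [5, 57, 16, 3])])),
  (109, (lf [(105, [5, 54, 16, 3])]))]))]))]))]))]))])),
  (70, (nd [(60, (nd [(62, (nd [(63, (nd [(67, (nd [(69, (nd [(82, (lf [(141, [5, 46, 22, 8]), (109, [5, 22, 16])])),
  (105, (lf [(141, [5, 47, 22]), (109, [5, 22, 14])]))]))]))]))])),
  (68, (nd [(63, (nd [(67, (nd [(69, (nd [(105, (lf [(141, [5, 22, 42]), (109, [5, 3, 48])])),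
  (82, (lf [(141, [5, 22]), (109, [5, 32, 22])]))]))]))]))]))]))])),
  (105, (nd [(145, (nd [(170, (nd [(78, (nd [(66, (nd [(81, (nd [(70, (lf [(89, [5, 61, 55, 3])]))])),
  (104, (nd [(80, (lf [(89, [5, 55, 46, 3])]))]))]))]))])),
  (178, (nd [(78, (nd [(66, (nd [(81, (nd [(70, (lf [(83, [5, 5, 60, 0])]))])),
  (104, (nd [(80, (lf [(83, [5, 56, 53, 3])]))]))]))]))]))])),
  (148, (nd [(170, (nd [(67, (nd [(63, (nd [(81, (nd [(70, (lf [(83, [5, 53, 22, 12])]))])),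
  (104, (nd [(80, (lf [(83, [5, 5, 59, 0])]))]))]))]))])),
  (178, (nd [(67, (nd [(63, (nd [(81, (nd [(70, (lf [(89, [5, 58, 22])]))])),
  (104, (nd [(80, (lf [(89, [5, 3, 57, 5])]))]))]))]))]))]))])),
  (82, (nd [(145, (nd [(178, (nd [(78, (nd [(66, (nd [(81, (nd [(70, (lf [(89, [5, 47, 54, 3])]))])),
  (104, (nd [(80, (lf [(89, [5, 32, 52, 22])]))]))]))]))])),
  (170, (nd [(78, (nd [(66, (nd [(81, (nd [(70, (lf [(83, [5, 58, 22, 8])]))])),
  (104, (nd [(80, (lf [(83, [5, 58, 55, 3])]))]))]))]))]))])),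
  (148, (nd [(178, (nd [(67, (nd [(63, (nd [(81, (nd [(70, (lf [(83, [5, 61, 22])]))])),
  (104, (nd [(80, (lf [(83, [5, 52, 22])]))]))]))]))])),
  (170, (nd [(67, (nd [(63, (nd [(81, (nd [(70, (lf [(89, [5, 52, 8, 22])]))])),
  (104, (nd [(80, (lf [(89, [5, 53, 22])]))]))]))]))]))]))])),
  (80, (nd [(60, (nd [(62, (nd [(63, (nd [(67, (nd [(79, (nd [(105, (lf [(109, [5, 55, 61, 3]), (141, [5, 46, 22])])),
  (82, (lf [(109, [5, 22, 14, 8]), (141, [5, 47, 22, 8])]))]))]))]))])),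
  (68, (nd [(63, (nd [(67, (nd [(79, (nd [(82, (lf [(109, [5, 55, 3]), (141, [5, 8, 22])])),
  (105, (lf [(109, [5, 22, 12]), (141, [5, 22, 8])]))]))]))]))]))]))])),
  (109, (nd [(145, (nd [(177, (nd [(63, (nd [(67, (nd [(106, (nd [(83, (lf [(70, [5, 46, 54, 3])]))])),
  (139, (nd [(83, (lf [(80, [5, 54, 46, 3])]))]))]))]))])),
  (173, (nd [(63, (nd [(67, (nd [(106, (nd [(89, (lf [(70, [5, 30, 50, 22])]))])),
  (139, (nd [(89, (lf [(80, [5, 50, 32, 22])]))]))]))]))]))])),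
  (148, (nd [(177, (nd [(63, (nd [(67, (nd [(139, (nd [(89, (lf [(80, [5, 60, 22, 12])]))])),
  (106, (nd [(89, (lf [(70, [5, 51, 22, 12])]))]))]))]))])),
  (173, (nd [(63, (nd [(67, (nd [(139, (nd [(83, (lf [(80, [5, 2, 50, 4])]))])),
  (106, (nd [(83, (lf [(70, [5, 50, 22])]))]))]))]))]))]))])),
  (89, (nd [(60, (nd [(61, (nd [(78, (nd [(66, (nd [(84, (nd [(141, (lf [(105, [5, 3, 58, 3])])),
  (109, (lf [(82, [5, 59, 54, 3])]))])),
  (86, (nd [(109, (lf [(105, [5, 57, 3])])),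
  (141, (lf [(82, [5, 54, 20, 3])]))]))]))])),
  (67, (nd [(63, (nd [(86, (nd [(141, (lf [(105, [5, 22, 2, 0])])),
  (109, (lf [(82, [5, 48, 22])]))])),
  (84, (nd [(109, (lf [(105, [5, 16, 54, 3])])),
  (141, (lf [(82, [5, 4, 54, 3])]))]))]))]))]))]))]))]) .nil)

theorem s_2 : solveB (nat_lit 9) (nat_lit 511) xtt (nat_lit 355) 500 xB (fun _ => true) xch2 2 []
    ([] : List (List ℕ)) ([] : List (List ℕ)) (prEq 500 ([] : List (List ℕ)) ([] : List (List ℕ)) ++ [[1000, 1000]]) [] [] (fun u => Nat.blt (u.headD 0) 7) (mkC reps2) ts_2 ct_2 = true := by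
  decide +kernel

end Cfsg.Agent.Lib.HNX
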