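import Cfsg.Agent.Lib.HNXT

/-! Certificates. -/

set_option autoImplicit false
set_option maxRecDepth 100000

namespace Cfsg.Agent.Lib.HNX

open Cfsg.Agent.Lib.PermNet Cfsg.Agent.Lib.Words Cfsg.Agent.Lib.PermGroup Cfsg.Agent.Lib.DCE Cfsg.Agent.Lib.PermModel Cfsg.Agent.Lib.BT

noncomputable def ts_3 : List Tst := [⟨[], [], []⟩,
  ⟨[], [], []⟩,
  ⟨[], [], []⟩,
  ⟨[], [], []⟩,
  ⟨[], [], []⟩,
  ⟨[], [], []⟩,
  ⟨[], [], []⟩,
  ⟨[], [], []⟩]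

noncomputable def ct_3 : CT := (.node 0 [] [] (nat_lit 0x0) (nd [(61, (nd [(60, (nd [(63, (nd [(67, (nd [(69, (nd [(70, (nd [(81, (lf [(106, [0])]))]))]))]))]))]))])),
  (125, (nd [(60, (nd [(67, (nd [(142, (nd [(91, (nd [(166, (nd [(62, (lf [(140, [2, 5, 52, 59, 14])]))]))])),
  (97, (nd [(154, (nd [(68, (lf [(107, [2, 4, 49, 46])]))]))]))])),
  (168, (nd [(97, (nd [(154, (nd [(68, (lf [(140, [2, 3, 50, 55])]))]))])),
  (91, (nd [(166, (nd [(62, (lf [(107, [2, 3, 50, 55, 16])]))]))]))]))])),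
  (78, (nd [(168, (nd [(91, (nd [(166, (nd [(68, (lf [(140, [2, 4, 51, 61])]))]))])),
  (97, (nd [(154, (nd [(62, (lf [(107, [2, 3, 52, 55, 0])]))]))]))])),
  (142, (nd [(97, (nd [(154, (nd [(62, (lf [(140, [2, 5, 52, 59])]))]))])),
  (91, (nd [(166, (nd [(68, (lf [(107, [2, 4, 51, 58])]))]))]))]))]))]))])),
  (92, (nd [(60, (nd [(168, (nd [(63, (nd [(111, (nd [(99, (nd [(109, (lf [(93, [2, 5, 53, 59])]))]))])),
  (117, (nd [(88, (nd [(141, (lf [(101, [2, 53, 22, 46])]))]))]))])),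
  (66, (nd [(117, (nd [(88, (nd [(141, (lf [(93, [2, 3, 52, 55])]))]))])),
  (111, (nd [(99, (nd [(109, (lf [(101, [2, 4, 50, 61])]))]))]))]))])),
  (142, (nd [(66, (nd [(111, (nd [(99, (nd [(141, (lf [(93, [2, 51, 22, 47, 0])]))]))])),
  (117, (nd [(88, (nd [(109, (lf [(101, [2, 4, 50, 58, 6])]))]))]))])),
  (63, (nd [(117, (nd [(88, (nd [(109, (lf [(93, [2, 5, 53, 60])]))]))])),
  (111, (nd [(99, (nd [(141, (lf [(101, [2, 53, 22, 46, 16])]))]))]))]))]))]))])),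
  (68, (nd [(169, (nd [(64, (nd [(71, (nd [(126, (nd [(163, (nd [(147, (lf [(154, [2, 4, 61])]))])),
  (153, (nd [(147, (lf [(166, [2, 5, 60, 8])]))]))])),
  (110, (nd [(153, (nd [(147, (lf [(154, [2, 48, 16, 2])]))])),
  (163, (nd [(147, (lf [(166, [2, 5, 60])]))]))]))]))]))])),
  (146, (nd [(64, (nd [(71, (nd [(110, (nd [(163, (nd [(161, (lf [(154, [2, 59, 48, 2])]))])),
  (153, (nd [(161, (lf [(166, [2, 0, 23, 16])]))]))])),
  (126, (nd [(153, (nd [(161, (lf [(154, [2, 3, 22, 14])]))])),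
  (163, (nd [(161, (lf [(166, [2, 14, 48, 2])]))]))]))]))]))]))])),
  (177, (nd [(165, (nd [(174, (nd [(171, (nd [(73, (nd [(101, (nd [(92, (lf [(94, [2, 48, 3, 14])]))])),
  (93, (nd [(92, (lf [(98, [2, 14, 48, 3])]))]))])),
  (77, (nd [(93, (nd [(92, (lf [(94, [2, 5, 60, 0])]))])),
  (101, (nd [(92, (lf [(98, [2, 48, 46, 3])]))]))]))]))]))])),
  (160, (nd [(174, (nd [(171, (nd [(77, (nd [(101, (nd [(100, (lf [(94, [2, 48, 3])]))])),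
  (93, (nd [(100, (lf [(98, [2, 2, 23])]))]))])),
  (73, (nd [(93, (nd [(100, (lf [(94, [2, 4, 58, 0])]))])),
  (101, (nd [(100, (lf [(98, [2, 23, 54])]))]))]))]))]))]))])),
  (136, (nd [(60, (nd [(67, (nd [(142, (nd [(91, (nd [(154, (nd [(62, (lf [(140, [2, 51, 22, 47])]))]))])),
  (97, (nd [(166, (nd [(68, (lf [(107, [2, 47, 22, 4, 2])]))]))]))])),
  (168, (nd [(97, (nd [(166, (nd [(68, (lf [(140, [2, 23, 51, 22, 2])]))]))])),
  (91, (nd [(154, (nd [(62, (lf [(107, [2, 5, 53, 60, 0])]))]))]))]))])),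
  (78, (nd [(168, (nd [(91, (nd [(154, (nd [(68, (lf [(140, [2, 22, 52, 54])]))]))])),
  (97, (nd [(166, (nd [(62, (lf [(107, [2, 4, 50, 61, 0])]))]))]))])),
  (142, (nd [(97, (nd [(166, (nd [(62, (lf [(140, [2, 53, 22, 46, 0])]))]))])),
  (91, (nd [(154, (nd [(68, (lf [(107, [2, 5, 52, 60])]))]))]))]))]))]))])),
  (100, (nd [(60, (nd [(168, (nd [(63, (nd [(111, (nd [(88, (nd [(109, (lf [(93, [2, 4, 49, 46, 0])]))]))])),
  (117, (nd [(99, (nd [(141, (lf [(101, [2, 46, 22, 5, 2])]))]))]))])),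
  (66, (nd [(117, (nd [(99, (nd [(141, (lf [(93, [2, 5, 49, 47])]))]))])),
  (111, (nd [(88, (nd [(109, (lf [(101, [2, 4, 50, 58])]))]))]))]))])),
  (142, (nd [(66, (nd [(111, (nd [(88, (nd [(141, (lf [(93, [2, 5, 52, 60, 0])]))]))])),
  (117, (nd [(99, (nd [(109, (lf [(101, [2, 4, 51, 58, 0])]))]))]))])),
  (63, (nd [(117, (nd [(99, (nd [(109, (lf [(93, [2, 3, 50, 55, 0])]))]))])),
  (111, (nd [(88, (nd [(141, (lf [(101, [2, 5, 49, 47, 16])]))]))]))]))]))]))])),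
  (62, (nd [(169, (nd [(65, (nd [(74, (nd [(126, (nd [(153, (nd [(161, (lf [(166, [2, 40, 48, 2])]))])),
  (163, (nd [(161, (lf [(154, [2, 4, 58])]))]))])),
  (110, (nd [(163, (nd [(161, (lf [(166, [2, 2, 23, 0])]))])),
  (153, (nd [(161, (lf [(154, [2, 3, 22])]))]))]))]))]))])),
  (146, (nd [(65, (nd [(74, (nd [(110, (nd [(153, (nd [(147, (lf [(166, [2, 55, 23])]))])),
  (163, (nd [(147, (lf [(154, [2, 48, 2])]))]))])),
  (126, (nd [(163, (nd [(147, (lf [(166, [2, 0, 23])]))])),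
  (153, (nd [(147, (lf [(154, [2, 5, 59])]))]))]))]))]))]))])),
  (173, (nd [(165, (nd [(176, (nd [(179, (nd [(73, (nd [(93, (nd [(100, (lf [(98, [2, 0, 23, 0])]))])),
  (101, (nd [(100, (lf [(94, [2, 48, 2, 0])]))]))])),
  (77, (nd [(101, (nd [(100, (lf [(98, [2, 32, 48, 3])]))])),
  (93, (nd [(100, (lf [(94, [2, 55, 23, 0])]))]))]))]))]))])),
  (160, (nd [(176, (nd [(179, (nd [(77, (nd [(93, (nd [(92, (lf [(98, [2, 48, 14, 3])]))])),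
  (101, (nd [(92, (lf [(94, [2, 16, 48, 3])]))]))])),
  (73, (nd [(101, (nd [(92, (lf [(98, [2, 48, 16, 3])]))])),
  (93, (nd [(92, (lf [(94, [2, 48, 47, 3])]))]))]))]))]))]))])),
  (141, (nd [(169, (nd [(71, (nd [(158, (nd [(144, (nd [(98, (nd [(177, (lf [(88, [1, 3, 60, 0]), (99, [1, 42, 23, 54, 0])])),
  (173, (lf [(88, [1, 22, 22, 3]), (99, [1, 3, 60, 18, 0])]))])),
  (94, (nd [(173, (lf [(88, [1, 5, 48, 22]), (99, [1, 3, 22])])),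
  (177, (lf [(88, [1, 3, 30, 22]), (99, [1, 14, 3, 22])]))]))])),
  (149, (nd [(94, (nd [(177, (lf [(88, [1, 3, 60, 24, 0]), (99, [1, 3, 22, 20])])),
  (173, (lf [(88, [1, 3, 22, 6]), (99, [1, 51, 4, 56])]))])),
  (98, (nd [(173, (lf [(88, [1, 16, 55, 23]), (99, [1, 38, 3, 22])])),
  (177, (lf [(88, [1, 58, 48, 3, 0]), (99, [1, 4, 51, 61])]))]))]))])),
  (164, (nd [(149, (nd [(98, (nd [(173, (lf [(88, [1, 3, 22, 18]), (99, [1, 59, 5, 60])])),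
  (177, (lf [(88, [1, 54, 50, 10, 2]), (99, [1, 32, 4, 58])]))])),
  (94, (nd [(177, (lf [(88, [1, 46, 4, 3]), (99, [1, 5, 59, 40])])),
  (173, (lf [(88, [1, 49, 53, 18, 2]), (99, [1, 5, 55, 24, 0])]))]))])),
  (144, (nd [(94, (nd [(173, (lf [(88, [1, 52, 48, 2]), (99, [1, 54, 50, 12, 2])])),
  (177, (lf [(88, [1, 8, 3, 60, 0]), (99, [1, 42, 2, 23, 0])]))])),
  (98, (nd [(177, (lf [(88, [1, 59, 51, 2]), (99, [1, 51, 5, 60])])),
  (173, (lf [(88, [1, 54, 50, 2]), (99, [1, 53, 58, 2])]))]))]))]))])),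
  (74, (nd [(164, (nd [(144, (nd [(94, (nd [(177, (lf [(88, [1, 2, 59, 3]), (99, [1, 5, 59, 14])])),
  (173, (lf [(88, [1, 18, 3, 22]), (99, [1, 5, 59, 28])]))])),
  (98, (nd [(173, (lf [(88, [1, 5, 28, 59]), (99, [1, 5, 56, 52])])),
  (177, (lf [(88, [1, 5, 58, 56]), (99, [1, 59, 0, 23])]))]))])),
  (149, (nd [(98, (nd [(177, (lf [(88, [1, 55, 23, 14]), (99, [1, 36, 4, 58])])),
  (173, (lf [(88, [1, 50, 54, 24, 2]), (99, [1, 49, 61, 23])]))])),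
  (94, (nd [(173, (lf [(88, [1, 5, 55, 42, 0]), (99, [1, 30, 3, 22])])),
  (177, (lf [(88, [1, 57, 5, 55, 0]), (99, [1, 5, 59, 20])]))]))]))])),
  (158, (nd [(149, (nd [(94, (nd [(173, (lf [(88, [1, 3, 20, 22]), (99, [1, 3, 22, 16])])),
  (177, (lf [(88, [1, 4, 58, 16]), (99, [1, 4, 36, 58])]))])),
  (98, (nd [(177, (lf [(88, [1, 51, 3, 58, 0]), (99, [1, 3, 20, 60, 0])])),
  (173, (lf [(88, [1, 5, 60, 52]), (99, [1, 55, 49, 2])]))]))])),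
  (144, (nd [(98, (nd [(173, (lf [(88, [1, 3, 40, 22]), (99, [1, 47, 56, 3, 0])])),
  (177, (lf [(88, [1, 24, 3, 60, 0]), (99, [1, 55, 49, 12, 2])]))])),
  (94, (nd [(177, (lf [(88, [1, 22, 61, 53]), (99, [1, 50, 50, 2])])),
  (173, (lf [(88, [1, 5, 55, 38, 0]), (99, [1, 24, 3, 22])]))]))]))]))]))])),
  (146, (nd [(71, (nd [(164, (nd [(144, (nd [(98, (nd [(173, (lf [(99, [1, 55, 23, 6]), (88, [1, 3, 53, 59, 0])])),
  (177, (lf [(99, [1, 40, 3, 60, 0]), (88, [1, 55, 23, 20])]))])),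
  (94, (nd [(177, (lf [(99, [1, 56, 3, 22]), (88, [1, 4, 58, 5])])),
  (173, (lf [(99, [1, 16, 3, 22]), (88, [1, 40, 3, 22])]))]))])),
  (149, (nd [(94, (nd [(173, (lf [(99, [1, 52, 51, 2]), (88, [1, 26, 5, 59])])),
  (177, (lf [(99, [1, 3, 36, 60, 0]), (88, [1, 55, 42, 23])]))])),
  (98, (nd [(177, (lf [(99, [1, 55, 38, 23]), (88, [1, 14, 55, 23])])),
  (173, (lf [(99, [1, 5, 57, 58]), (88, [1, 55, 23])]))]))]))])),
  (158, (nd [(149, (nd [(98, (nd [(177, (lf [(99, [1, 23, 16, 54, 0]), (88, [1, 23, 60, 48])])),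
  (173, (lf [(99, [1, 55, 32, 23]), (88, [1, 32, 5, 59])]))])),
  (94, (nd [(173, (lf [(99, [1, 55, 49, 16, 2]), (88, [1, 8, 55, 23])])),
  (177, (lf [(99, [1, 3, 22, 5]), (88, [1, 56, 3, 60, 0])]))]))])),
  (144, (nd [(94, (nd [(177, (lf [(99, [1, 4, 22, 51, 0]), (88, [1, 58, 46, 23])])),
  (173, (lf [(99, [1, 55, 23, 18]), (88, [1, 55, 16, 23])]))])),
  (98, (nd [(173, (lf [(99, [1, 5, 26, 59]), (88, [1, 44, 3, 57, 0])])),
  (177, (lf [(99, [1, 3, 26, 57, 0]), (88, [1, 22, 57, 53])]))]))]))]))])),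
  (74, (nd [(158, (nd [(144, (nd [(94, (nd [(173, (lf [(99, [1, 10, 4, 58]), (88, [1, 4, 58, 10])])),
  (177, (lf [(99, [1, 3, 22, 14]), (88, [1, 42, 4, 58])]))])),
  (98, (nd [(177, (lf [(99, [1, 0, 56, 2]), (88, [1, 53, 22, 56])])),
  (173, (lf [(99, [1, 51, 48, 2]), (88, [1, 30, 55, 23])]))]))])),
  (149, (nd [(98, (nd [(173, (lf [(99, [1, 4, 58, 20]), (88, [1, 36, 5, 59])])),
  (177, (lf [(99, [1, 49, 54, 14, 2]), (88, [1, 57, 3, 22])]))])),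
  (94, (nd [(177, (lf [(99, [1, 2, 36, 23, 0]), (88, [1, 58, 48, 28, 2])])),
  (173, (lf [(99, [1, 58, 48, 2]), (88, [1, 47, 4, 54])]))]))]))])),
  (164, (nd [(149, (nd [(94, (nd [(177, (lf [(99, [1, 2, 16, 23, 0]), (88, [1, 4, 58, 42])])),
  (173, (lf [(99, [1, 5, 59, 10]), (88, [1, 53, 60, 23])]))])),
  (98, (nd [(173, (lf [(99, [1, 50, 50, 36, 2]), (88, [1, 55, 26, 23])])),
  (177, (lf [(99, [1, 46, 22, 50]), (88, [1, 20, 3, 60, 0])]))]))])),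
  (144, (nd [(98, (nd [(177, (lf [(99, [1, 59, 46, 23]), (88, [1, 52, 48, 34, 2])])),
  (173, (lf [(99, [1, 5, 23, 2]), (88, [1, 55, 23, 16])]))])),
  (94, (nd [(173, (lf [(99, [1, 23, 54, 5, 0]), (88, [1, 3, 22, 12])])),
  (177, (lf [(99, [1, 2, 23, 12, 0]), (88, [1, 60, 5, 59])]))]))]))]))]))]))])),
  (124, (nd [(165, (nd [(171, (nd [(148, (nd [(102, (nd [(139, (nd [(61, (lf [(120, [1, 4, 56, 38, 0]), (130, [1, 32, 51, 3])])),
  (75, (lf [(120, [1, 14, 5, 60, 0]), (130, [1, 49, 61, 3])]))])),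
  (106, (nd [(75, (lf [(120, [1, 3, 58, 32]), (130, [1, 2, 60, 14, 2])])),
  (61, (lf [(120, [1, 51, 24, 3]), (130, [1, 61, 48, 3])]))]))])),
  (90, (nd [(106, (nd [(61, (lf [(120, [1, 5, 22, 24]), (130, [1, 18, 48, 2, 0])])),
  (75, (lf [(120, [1, 48, 26, 3]), (130, [1, 60, 46, 23, 0])]))])),
  (139, (nd [(75, (lf [(120, [1, 55, 60, 3]), (130, [1, 20, 48, 3])])),
  (61, (lf [(120, [1, 48, 24, 2, 0]), (130, [1, 52, 61, 3])]))]))]))])),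
  (145, (nd [(90, (nd [(139, (nd [(75, (lf [(120, [1, 3, 58, 6]), (130, [1, 6, 4, 46])])),
  (61, (lf [(120, [1, 51, 40, 3]), (130, [1, 3, 58, 24])]))])),
  (106, (nd [(61, (lf [(120, [1, 26, 51, 3]), (130, [1, 4, 60, 22])])),
  (75, (lf [(120, [1, 4, 46]), (130, [1, 4, 46, 40])]))]))])),
  (102, (nd [(106, (nd [(75, (lf [(120, [1, 3, 58, 18]), (130, [1, 38, 4, 46])])),
  (61, (lf [(120, [1, 4, 56, 0]), (130, [1, 54, 4, 2])]))])),
  (139, (nd [(61, (lf [(120, [1, 3, 58, 8]), (130, [1, 48, 3, 14])])),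
  (75, (lf [(120, [1, 53, 2, 23]), (130, [1, 3, 34, 58])]))]))]))]))])),
  (179, (nd [(145, (nd [(102, (nd [(106, (nd [(61, (lf [(120, [1, 4, 48, 58]), (130, [1, 48, 47, 3])])),
  (75, (lf [(120, [1, 20, 5, 22]), (130, [1, 14, 48, 3])]))])),
  (139, (nd [(75, (lf [(120, [1, 52, 4, 2]), (130, [1, 52, 57, 3])])),
  (61, (lf [(120, [1, 56, 51, 3]), (130, [1, 32, 46, 23, 0])]))]))])),
  (90, (nd [(139, (nd [(61, (lf [(120, [1, 51, 16, 3]), (130, [1, 48, 2, 0])])),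
  (75, (lf [(120, [1, 12, 48, 2, 0]), (130, [1, 4, 46, 24])]))])),
  (106, (nd [(75, (lf [(120, [1, 46, 23, 30, 0]), (130, [1, 50, 5, 55])])),
  (61, (lf [(120, [1, 0, 23, 0]), (130, [1, 4, 61, 4, 0])]))]))]))])),
  (148, (nd [(90, (nd [(106, (nd [(75, (lf [(120, [1, 5, 20, 22]), (130, [1, 2, 60, 2])])),
  (61, (lf [(120, [1, 3, 61, 51]), (130, [1, 44, 51, 3])]))])),
  (139, (nd [(61, (lf [(120, [1, 3, 57, 52]), (130, [1, 22, 14, 47, 0])])),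
  (75, (lf [(120, [1, 3, 58, 4]), (130, [1, 40, 48, 3])]))]))])),
  (102, (nd [(139, (nd [(75, (lf [(120, [1, 5, 57, 20, 0]), (130, [1, 3, 59, 57])])),
  (61, (lf [(120, [1, 5, 22, 36]), (130, [1, 3, 50, 46])]))])),
  (106, (nd [(61, (lf [(120, [1, 36, 51, 3]), (130, [1, 5, 22, 40])])),
  (75, (lf [(120, [1, 4, 24, 46]), (130, [1, 23, 55, 50])]))]))]))]))]))])),
  (160, (nd [(171, (nd [(145, (nd [(102, (nd [(139, (nd [(75, (lf [(130, [1, 16, 51, 3]), (120, [1, 3, 58, 42])])),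
  (61, (lf [(130, [1, 22, 47, 16, 0]), (120, [1, 5, 57, 12, 0])]))])),
  (106, (nd [(61, (lf [(130, [1, 48, 14, 3]), (120, [1, 8, 51, 3])])),
  (75, (lf [(130, [1, 3, 58, 28]), (120, [1, 32, 4, 46])]))]))])),
  (90, (nd [(106, (nd [(75, (lf [(130, [1, 51, 20, 3]), (120, [1, 48, 2, 10, 0])])),
  (61, (lf [(130, [1, 48, 36, 3]), (120, [1, 24, 46, 23, 0])]))])),
  (139, (nd [(61, (lf [(130, [1, 51, 32, 3]), (120, [1, 22, 59, 53])])),
  (75, (lf [(130, [1, 48, 44, 3]), (120, [1, 59, 3, 57])]))]))]))])),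
  (148, (nd [(90, (nd [(139, (nd [(61, (lf [(130, [1, 51, 3]), (120, [1, 3, 58, 40])])),
  (75, (lf [(130, [1, 3, 58, 20]), (120, [1, 51, 12, 3])]))])),
  (106, (nd [(75, (lf [(130, [1, 48, 42, 3]), (120, [1, 4, 26, 46])])),
  (61, (lf [(130, [1, 0, 23, 16, 0]), (120, [1, 6, 51, 3])]))]))])),
  (102, (nd [(106, (nd [(61, (lf [(130, [1, 51, 28, 3]), (120, [1, 4, 26, 56, 0])])),
  (75, (lf [(130, [1, 14, 51, 2, 0]), (120, [1, 48, 12, 3])]))])),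
  (139, (nd [(75, (lf [(130, [1, 51, 6, 3]), (120, [1, 48, 4, 53, 0])])),
  (61, (lf [(130, [1, 46, 23, 16, 0]), (120, [1, 38, 51, 3])]))]))]))]))])),
  (179, (nd [(148, (nd [(102, (nd [(106, (nd [(75, (lf [(130, [1, 16, 49, 4, 2]), (120, [1, 5, 22, 12])])),
  (61, (lf [(130, [1, 34, 51, 3]), (120, [1, 59, 3, 22, 0])]))])),
  (139, (nd [(61, (lf [(130, [1, 51, 8, 3]), (120, [1, 51, 14, 3])])),
  (75, (lf [(130, [1, 16, 46, 23, 0]), (120, [1, 5, 22, 4])]))]))])),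
  (90, (nd [(139, (nd [(75, (lf [(130, [1, 5, 51, 54]), (120, [1, 51, 14, 6, 3])])),
  (61, (lf [(130, [1, 48, 3, 42]), (120, [1, 61, 4, 46])]))])),
  (106, (nd [(61, (lf [(130, [1, 4, 61, 16, 0]), (120, [1, 48, 32, 3])])),
  (75, (lf [(130, [1, 23, 23, 46, 0]), (120, [1, 4, 36, 46])]))]))]))])),
  (145, (nd [(90, (nd [(106, (nd [(61, (lf [(130, [1, 49, 4, 2]), (120, [1, 47, 54, 3])])),
  (75, (lf [(130, [1, 48, 47, 2, 0]), (120, [1, 5, 28, 22])]))])),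
  (139, (nd [(75, (lf [(130, [1, 4, 61, 0]), (120, [1, 48, 46, 3])])),
  (61, (lf [(130, [1, 46, 23, 0]), (120, [1, 30, 51, 3])]))]))])),
  (102, (nd [(139, (nd [(61, (lf [(130, [1, 51, 26, 3]), (120, [1, 60, 51, 3])])),
  (75, (lf [(130, [1, 36, 4, 46]), (120, [1, 42, 5, 22])]))])),
  (106, (nd [(75, (lf [(130, [1, 3, 32, 58]), (120, [1, 46, 23, 32, 0])])),
  (61, (lf [(130, [1, 54, 5, 48]), (120, [1, 5, 22, 14])]))]))]))]))]))]))])),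
  (104, (nd [(169, (nd [(164, (nd [(64, (nd [(115, (nd [(120, (nd [(108, (lf [(70, [1, 22, 47, 12]), (80, [1, 56, 48, 2])])),
  (124, (lf [(70, [1, 12, 48, 3, 0]), (80, [1, 4, 61, 14])]))])),
  (130, (nd [(124, (lf [(70, [1, 4, 56, 24]), (80, [1, 36, 48, 2])])),
  (108, (lf [(70, [1, 20, 5, 60]), (80, [1, 51, 16, 2])]))]))])),
  (133, (nd [(130, (nd [(108, (lf [(70, [1, 34, 46, 23]), (80, [1, 48, 12, 3, 0])])),
  (124, (lf [(70, [1, 4, 56, 28]), (80, [1, 4, 56])]))])),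
  (120, (nd [(124, (lf [(70, [1, 4, 26, 61]), (80, [1, 44, 48, 2])])),
  (108, (lf [(70, [1, 8, 51, 2]), (80, [1, 46, 24, 23])]))]))]))])),
  (65, (nd [(133, (nd [(120, (nd [(124, (lf [(70, [1, 55, 23, 52]), (80, [1, 52, 0, 2])])),
  (108, (lf [(70, [1, 8, 46, 23]), (80, [1, 5, 57, 10])]))])),
  (130, (nd [(108, (lf [(70, [1, 34, 51, 2]), (80, [1, 3, 58, 10, 0])])),
  (124, (lf [(70, [1, 57, 5, 57]), (80, [1, 48, 30, 2])]))]))])),
  (115, (nd [(130, (nd [(124, (lf [(70, [1, 48, 18, 2]), (80, [1, 4, 56, 18])])),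
  (108, (lf [(70, [1, 44, 51, 3, 0]), (80, [1, 51, 14, 2])]))])),
  (120, (nd [(108, (lf [(70, [1, 57, 48, 2]), (80, [1, 49, 61, 2])])),
  (124, (lf [(70, [1, 60, 48, 2]), (80, [1, 46, 23, 10])]))]))]))]))])),
  (158, (nd [(65, (nd [(115, (nd [(130, (nd [(108, (lf [(70, [1, 47, 23, 23, 0]), (80, [1, 30, 51, 2])])),
  (124, (lf [(70, [1, 32, 48, 2]), (80, [1, 51, 2, 18])]))])),
  (120, (nd [(124, (lf [(70, [1, 0, 23, 4]), (80, [1, 2, 51, 23, 0])])),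
  (108, (lf [(70, [1, 22, 59, 50]), (80, [1, 46, 23])]))]))])),
  (133, (nd [(120, (nd [(108, (lf [(70, [1, 51, 36, 2]), (80, [1, 51, 26, 2])])),
  (124, (lf [(70, [1, 16, 22, 47]), (80, [1, 51, 44, 2])]))])),
  (130, (nd [(124, (lf [(70, [1, 4, 56, 30]), (80, [1, 49, 22, 50])])),
  (108, (lf [(70, [1, 18, 51, 2]), (80, [1, 51, 40, 2])]))]))]))])),
  (64, (nd [(133, (nd [(130, (nd [(124, (lf [(70, [1, 5, 0, 47]), (80, [1, 22, 36, 47])])),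
  (108, (lf [(70, [1, 18, 46, 23]), (80, [1, 48, 47, 2])]))])),
  (120, (nd [(108, (lf [(70, [1, 6, 51, 2]), (80, [1, 48, 14, 2])])),
  (124, (lf [(70, [1, 4, 56, 38]), (80, [1, 49, 0, 2])]))]))])),
  (115, (nd [(120, (nd [(124, (lf [(70, [1, 51, 38, 2]), (80, [1, 51, 30, 2])])),
  (108, (lf [(70, [1, 22, 47, 38]), (80, [1, 51, 2])]))])),
  (130, (nd [(108, (lf [(70, [1, 51, 28, 2]), (80, [1, 30, 46, 23])])),
  (124, (lf [(70, [1, 4, 56, 6]), (80, [1, 51, 42, 2])]))]))]))]))]))])),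
  (146, (nd [(164, (nd [(65, (nd [(115, (nd [(120, (nd [(124, (lf [(80, [1, 34, 48, 2]), (70, [1, 46, 36, 23])])),
  (108, (lf [(80, [1, 57, 46, 23]), (70, [1, 26, 51, 2])]))])),
  (130, (nd [(108, (lf [(80, [1, 48, 32, 2]), (70, [1, 46, 44, 23])])),
  (124, (lf [(80, [1, 5, 57, 18]), (70, [1, 48, 20, 2])]))]))])),
  (133, (nd [(130, (nd [(124, (lf [(80, [1, 24, 48, 2]), (70, [1, 5, 57, 6])])),
  (108, (lf [(80, [1, 3, 20, 58, 0]), (70, [1, 5, 57, 20])]))])),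
  (120, (nd [(108, (lf [(80, [1, 5, 60, 28]), (70, [1, 61, 48, 2])])),
  (124, (lf [(80, [1, 49, 4, 3]), (70, [1, 54, 57, 2])]))]))]))])),
  (64, (nd [(133, (nd [(120, (nd [(108, (lf [(80, [1, 5, 52, 59, 0]), (70, [1, 36, 51, 2])])),
  (124, (lf [(80, [1, 48, 40, 2]), (70, [1, 4, 61, 18])]))])),
  (130, (nd [(124, (lf [(80, [1, 4, 61, 34]), (70, [1, 56, 51, 2])])),
  (108, (lf [(80, [1, 61, 46, 23]), (70, [1, 34, 51, 3, 0])]))]))])),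
  (115, (nd [(130, (nd [(108, (lf [(80, [1, 51, 14, 3, 0]), (70, [1, 44, 51, 2])])),
  (124, (lf [(80, [1, 8, 48, 2]), (70, [1, 4, 61, 30])]))])),
  (120, (nd [(124, (lf [(80, [1, 23, 55, 53]), (70, [1, 42, 0, 23])])),
  (108, (lf [(80, [1, 48, 36, 2]), (70, [1, 26, 46, 23])]))]))]))]))])),
  (158, (nd [(64, (nd [(115, (nd [(130, (nd [(124, (lf [(80, [1, 48, 6, 2]), (70, [1, 5, 57, 8])])),
  (108, (lf [(80, [1, 3, 58, 0]), (70, [1, 48, 28, 2])]))])),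
  (120, (nd [(108, (lf [(80, [1, 22, 59, 49]), (70, [1, 3, 58, 30, 0])])),
  (124, (lf [(80, [1, 18, 5, 57]), (70, [1, 38, 48, 2])]))]))])),
  (133, (nd [(120, (nd [(124, (lf [(80, [1, 48, 10, 2]), (70, [1, 5, 60, 4])])),
  (108, (lf [(80, [1, 51, 32, 2]), (70, [1, 5, 57, 40])]))])),
  (130, (nd [(108, (lf [(80, [1, 51, 40, 3, 0]), (70, [1, 51, 2, 24])])),
  (124, (lf [(80, [1, 5, 57, 34]), (70, [1, 48, 2])]))]))]))])),
  (65, (nd [(133, (nd [(130, (nd [(108, (lf [(80, [1, 22, 47, 16]), (70, [1, 5, 60, 42])])),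
  (124, (lf [(80, [1, 4, 56, 36]), (70, [1, 5, 57])]))])),
  (120, (nd [(124, (lf [(80, [1, 4, 61, 8]), (70, [1, 48, 24, 2])])),
  (108, (lf [(80, [1, 32, 51, 2]), (70, [1, 48, 2, 16])]))]))])),
  (115, (nd [(120, (nd [(108, (lf [(80, [1, 51, 3, 0]), (70, [1, 51, 24, 2])])),
  (124, (lf [(80, [1, 51, 34, 2]), (70, [1, 4, 61])]))])),
  (130, (nd [(124, (lf [(80, [1, 5, 57, 30]), (70, [1, 46, 26, 23])])),
  (108, (lf [(80, [1, 16, 5, 22, 0]), (70, [1, 22, 47, 4])]))]))]))]))]))]))])),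
  (161, (nd [(165, (nd [(145, (nd [(174, (nd [(129, (nd [(107, (nd [(125, (lf [(153, [1, 58, 51, 3]), (163, [1, 52, 49, 4, 2])])),
  (136, (lf [(153, [1, 20, 2, 23]), (163, [1, 23, 54, 4])]))])),
  (140, (nd [(136, (lf [(153, [1, 46, 61, 3]), (163, [1, 57, 2, 23])])),
  (125, (lf [(153, [1, 4, 50, 46, 0]), (163, [1, 3, 22, 16, 0])]))]))])),
  (128, (nd [(140, (nd [(125, (lf [(153, [1, 0, 60, 3]), (163, [1, 23, 42, 54])])),
  (136, (lf [(153, [1, 3, 60, 10]), (163, [1, 3, 16, 22, 0])]))])),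
  (107, (nd [(136, (lf [(153, [1, 53, 58, 3]), (163, [1, 5, 56, 51, 0])])),
  (125, (lf [(153, [1, 4, 60, 55]), (163, [1, 4, 58, 32, 0])]))]))]))])),
  (176, (nd [(128, (nd [(107, (nd [(136, (lf [(153, [1, 23, 0, 59]), (163, [1, 48, 22, 61, 0])])),
  (125, (lf [(153, [1, 3, 60, 5]), (163, [1, 52, 51, 8, 3])]))])),
  (140, (nd [(125, (lf [(153, [1, 48, 3, 52]), (163, [1, 2, 52, 2])])),
  (136, (lf [(153, [1, 4, 57, 51, 0]), (163, [1, 55, 58, 4, 2])]))]))])),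
  (129, (nd [(140, (nd [(136, (lf [(153, [1, 4, 55, 47, 0]), (163, [1, 10, 2, 59, 2])])),
  (125, (lf [(153, [1, 2, 59, 2]), (163, [1, 23, 54, 10])]))])),
  (107, (nd [(125, (lf [(153, [1, 4, 50, 56]), (163, [1, 23, 14, 54])])),
  (136, (lf [(153, [1, 5, 55, 4]), (163, [1, 3, 57, 10])]))]))]))]))])),
  (148, (nd [(176, (nd [(129, (nd [(140, (nd [(125, (lf [(153, [1, 3, 60, 32]), (163, [1, 2, 23, 10])])),
  (136, (lf [(153, [1, 54, 53, 3]), (163, [1, 51, 5, 22])]))])),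
  (107, (nd [(136, (lf [(153, [1, 58, 4, 61, 0]), (163, [1, 55, 52, 3])])),
  (125, (lf [(153, [1, 5, 55, 10]), (163, [1, 14, 2, 23])]))]))])),
  (128, (nd [(107, (nd [(125, (lf [(153, [1, 4, 58, 36, 0]), (163, [1, 4, 58, 5, 0])])),
  (136, (lf [(153, [1, 12, 5, 55]), (163, [1, 51, 4, 61, 0])]))])),
  (140, (nd [(136, (lf [(153, [1, 46, 61, 24, 3]), (163, [1, 22, 47, 59])])),
  (125, (lf [(153, [1, 42, 5, 55]), (163, [1, 5, 55, 12])]))]))]))])),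
  (174, (nd [(128, (nd [(140, (nd [(136, (lf [(153, [1, 3, 60, 6]), (163, [1, 4, 47, 54, 0])])),
  (125, (lf [(153, [1, 2, 59, 28, 2]), (163, [1, 22, 57, 50])]))])),
  (107, (nd [(125, (lf [(153, [1, 3, 60, 8]), (163, [1, 0, 23, 51, 0])])),
  (136, (lf [(153, [1, 22, 61, 49]), (163, [1, 3, 60, 38])]))]))])),
  (129, (nd [(107, (nd [(136, (lf [(153, [1, 3, 60, 34]), (163, [1, 2, 23, 4])])),
  (125, (lf [(153, [1, 4, 56, 55]), (163, [1, 3, 57, 5])]))])),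
  (140, (nd [(125, (lf [(153, [1, 3, 60, 18]), (163, [1, 61, 3, 22, 0])])),
  (136, (lf [(153, [1, 16, 3, 60]), (163, [1, 23, 30, 54])]))]))]))]))]))])),
  (160, (nd [(145, (nd [(176, (nd [(129, (nd [(107, (nd [(136, (lf [(163, [1, 2, 53, 56, 2]), (153, [1, 2, 23, 40])])),
  (125, (lf [(163, [1, 2, 38, 23]), (153, [1, 3, 57, 16])]))])),
  (140, (nd [(125, (lf [(163, [1, 5, 12, 59, 0]), (153, [1, 2, 23, 20])])),
  (136, (lf [(163, [1, 3, 59, 51]), (153, [1, 23, 54, 16])]))]))])),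
  (128, (nd [(140, (nd [(136, (lf [(163, [1, 5, 55, 44]), (153, [1, 5, 55, 36])])),
  (125, (lf [(163, [1, 34, 2, 23]), (153, [1, 16, 3, 57])]))])),
  (107, (nd [(125, (lf [(163, [1, 5, 59, 10, 0]), (153, [1, 2, 42, 23])])),
  (136, (lf [(163, [1, 3, 60, 4]), (153, [1, 60, 2, 23])]))]))]))])),
  (174, (nd [(128, (nd [(107, (nd [(125, (lf [(163, [1, 51, 48, 3]), (153, [1, 4, 26, 58, 0])])),
  (136, (lf [(163, [1, 5, 55, 18]), (153, [1, 51, 51, 3])]))])),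
  (140, (nd [(136, (lf [(163, [1, 49, 53, 3]), (153, [1, 3, 16, 60])])),
  (125, (lf [(163, [1, 3, 60, 14]), (153, [1, 52, 51, 3])]))]))])),
  (129, (nd [(140, (nd [(125, (lf [(163, [1, 0, 56, 3]), (153, [1, 50, 5, 58, 2])])),
  (136, (lf [(163, [1, 46, 22, 48]), (153, [1, 3, 57, 40])]))])),
  (107, (nd [(136, (lf [(163, [1, 23, 54, 24]), (153, [1, 5, 48, 22, 0])])),
  (125, (lf [(163, [1, 3, 53, 23, 2]), (153, [1, 23, 54])]))]))]))]))])),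
  (148, (nd [(174, (nd [(129, (nd [(140, (nd [(136, (lf [(163, [1, 16, 3, 22, 0]), (153, [1, 3, 57, 36])])),
  (125, (lf [(163, [1, 2, 23, 6]), (153, [1, 61, 2, 59, 2])]))])),
  (107, (nd [(125, (lf [(163, [1, 61, 2, 52, 2]), (153, [1, 2, 23])])),
  (136, (lf [(163, [1, 10, 2, 23]), (153, [1, 22, 47, 23, 2])]))]))])),
  (128, (nd [(107, (nd [(136, (lf [(163, [1, 4, 51, 61, 0]), (153, [1, 8, 51, 51, 3])])),
  (125, (lf [(163, [1, 2, 23, 8]), (153, [1, 23, 16, 54])]))])),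
  (140, (nd [(125, (lf [(163, [1, 32, 4, 58, 0]), (153, [1, 23, 54, 32])])),
  (136, (lf [(163, [1, 23, 50, 22]), (153, [1, 5, 55, 30])]))]))]))])),
  (176, (nd [(128, (nd [(140, (nd [(125, (lf [(163, [1, 30, 2, 23]), (153, [1, 2, 16, 23])])),
  (136, (lf [(163, [1, 56, 4, 58, 0]), (153, [1, 0, 22, 0, 2])]))])),
  (107, (nd [(136, (lf [(163, [1, 3, 22, 36, 0]), (153, [1, 47, 60, 2, 0])])),
  (125, (lf [(163, [1, 59, 51, 3]), (153, [1, 18, 2, 23])]))]))])),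
  (129, (nd [(107, (nd [(125, (lf [(163, [1, 5, 59, 0]), (153, [1, 12, 59, 48, 3])])),
  (136, (lf [(163, [1, 47, 56, 3]), (153, [1, 50, 23, 23])]))])),
  (140, (nd [(136, (lf [(163, [1, 5, 52, 22]), (153, [1, 2, 23, 16])])),
  (125, (lf [(163, [1, 2, 59, 34, 2]), (153, [1, 23, 54, 20])]))]))]))]))]))]))])),
  (109, (nd [(146, (nd [(71, (nd [(158, (nd [(149, (nd [(98, (nd [(177, (lf [(88, [1, 23, 50, 57]), (99, [1, 59, 51, 3, 0])])),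
  (173, (lf [(88, [1, 47, 23, 52]), (99, [1, 54, 53, 16, 2])]))])),
  (94, (nd [(173, (lf [(88, [1, 46, 3, 61, 0]), (99, [1, 4, 58, 24])])),
  (177, (lf [(88, [1, 50, 61, 23]), (99, [1, 5, 59, 16])]))]))])),
  (144, (nd [(94, (nd [(177, (lf [(88, [1, 3, 57, 16, 0]), (99, [1, 4, 49, 46])])),
  (173, (lf [(88, [1, 49, 47, 23]), (99, [1, 16, 2, 23, 0])]))])),
  (98, (nd [(173, (lf [(88, [1, 59, 48, 16, 2]), (99, [1, 3, 48, 54])])),
  (177, (lf [(88, [1, 52, 46, 23]), (99, [1, 16, 3, 57, 0])]))]))]))])),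
  (164, (nd [(144, (nd [(98, (nd [(173, (lf [(88, [1, 55, 23, 28]), (99, [1, 16, 23, 54, 0])])),
  (177, (lf [(88, [1, 5, 20, 59]), (99, [1, 55, 23, 32])]))])),
  (94, (nd [(177, (lf [(88, [1, 44, 3, 22]), (99, [1, 52, 5, 60])])),
  (173, (lf [(88, [1, 51, 51, 14, 2]), (99, [1, 3, 22, 10])]))]))])),
  (149, (nd [(94, (nd [(173, (lf [(88, [1, 54, 54, 2]), (99, [1, 22, 61, 48])])),
  (177, (lf [(88, [1, 5, 55, 44, 0]), (99, [1, 2, 55, 3])]))])),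
  (98, (nd [(177, (lf [(88, [1, 47, 60, 2]), (99, [1, 3, 60, 16, 0])])),
  (173, (lf [(88, [1, 22, 5, 54]), (99, [1, 55, 12, 23])]))]))]))]))])),
  (74, (nd [(164, (nd [(149, (nd [(94, (nd [(177, (lf [(88, [1, 22, 48, 46]), (99, [1, 6, 5, 55, 0])])),
  (173, (lf [(88, [1, 4, 38, 58]), (99, [1, 3, 22, 4])]))])),
  (98, (nd [(173, (lf [(88, [1, 40, 46, 0, 2]), (99, [1, 4, 8, 58])])),
  (177, (lf [(88, [1, 32, 3, 22]), (99, [1, 3, 51, 54])]))]))])),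
  (144, (nd [(98, (nd [(177, (lf [(88, [1, 50, 54, 2]), (99, [1, 3, 42, 22])])),
  (173, (lf [(88, [1, 4, 58, 38]), (99, [1, 46, 5, 49])]))])),
  (94, (nd [(173, (lf [(88, [1, 46, 57, 2]), (99, [1, 3, 5, 61, 0])])),
  (177, (lf [(88, [1, 5, 55, 0]), (99, [1, 49, 53, 3, 0])]))]))]))])),
  (158, (nd [(144, (nd [(94, (nd [(173, (lf [(88, [1, 4, 58]), (99, [1, 56, 5, 59])])),
  (177, (lf [(88, [1, 14, 4, 58]), (99, [1, 22, 53, 46])]))])),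
  (98, (nd [(177, (lf [(88, [1, 5, 59, 12]), (99, [1, 46, 61, 2])])),
  (173, (lf [(88, [1, 23, 48, 47]), (99, [1, 54, 53, 2])]))]))])),
  (149, (nd [(98, (nd [(173, (lf [(88, [1, 4, 58, 6]), (99, [1, 23, 53, 47])])),
  (177, (lf [(88, [1, 5, 55, 18, 0]), (99, [1, 4, 58, 32])]))])),
  (94, (nd [(177, (lf [(88, [1, 47, 56, 2]), (99, [1, 54, 61, 23])])),
  (173, (lf [(88, [1, 0, 61, 0, 2]), (99, [1, 4, 58, 8])]))]))]))]))]))])),
  (169, (nd [(71, (nd [(164, (nd [(149, (nd [(98, (nd [(173, (lf [(99, [1, 55, 4, 47]), (88, [1, 3, 60, 10, 0])])),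
  (177, (lf [(99, [1, 55, 59, 2]), (88, [1, 22, 57, 48])]))])),
  (94, (nd [(177, (lf [(99, [1, 3, 22, 44]), (88, [1, 55, 52, 2])])),
  (173, (lf [(99, [1, 5, 59, 36]), (88, [1, 58, 51, 2])]))]))])),
  (144, (nd [(94, (nd [(173, (lf [(99, [1, 2, 23, 0]), (88, [1, 55, 52, 10, 2])])),
  (177, (lf [(99, [1, 24, 5, 59]), (88, [1, 3, 60, 20, 0])]))])),
  (98, (nd [(177, (lf [(99, [1, 3, 57, 0]), (88, [1, 5, 59, 24])])),
  (173, (lf [(99, [1, 4, 51, 46, 0]), (88, [1, 49, 53, 2])]))]))]))])),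
  (158, (nd [(144, (nd [(98, (nd [(177, (lf [(99, [1, 5, 59, 18]), (88, [1, 4, 23, 53, 0])])),
  (173, (lf [(99, [1, 23, 54, 0]), (88, [1, 42, 3, 60, 0])]))])),
  (94, (nd [(173, (lf [(99, [1, 5, 59, 44]), (88, [1, 10, 3, 22])])),
  (177, (lf [(99, [1, 42, 3, 22]), (88, [1, 5, 59, 30])]))]))])),
  (149, (nd [(94, (nd [(177, (lf [(99, [1, 30, 5, 59]), (88, [1, 60, 3, 22])])),
  (173, (lf [(99, [1, 3, 8, 22]), (88, [1, 3, 60, 6, 0])]))])),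
  (98, (nd [(173, (lf [(99, [1, 3, 60, 34, 0]), (88, [1, 55, 23, 10])])),
  (177, (lf [(99, [1, 28, 3, 22]), (88, [1, 5, 59, 34])]))]))]))]))])),
  (74, (nd [(158, (nd [(149, (nd [(94, (nd [(173, (lf [(99, [1, 56, 55, 23]), (88, [1, 51, 51, 2])])),
  (177, (lf [(99, [1, 5, 59, 38]), (88, [1, 4, 58, 4])]))])),
  (98, (nd [(177, (lf [(99, [1, 55, 36, 23]), (88, [1, 4, 50, 46])])),
  (173, (lf [(99, [1, 46, 0, 2]), (88, [1, 55, 44, 23])]))]))])),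
  (144, (nd [(98, (nd [(173, (lf [(99, [1, 23, 54, 20, 0]), (88, [1, 55, 23, 4])])),
  (177, (lf [(99, [1, 8, 5, 59]), (88, [1, 5, 60, 51])]))])),
  (94, (nd [(177, (lf [(99, [1, 32, 55, 23]), (88, [1, 5, 55, 12, 0])])),
  (173, (lf [(99, [1, 59, 48, 2]), (88, [1, 18, 2, 23, 0])]))]))]))])),
  (164, (nd [(144, (nd [(94, (nd [(177, (lf [(99, [1, 5, 59]), (88, [1, 23, 2, 57])])),
  (173, (lf [(99, [1, 40, 4, 58]), (88, [1, 5, 59, 26])]))])),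
  (98, (nd [(173, (lf [(99, [1, 51, 4, 61]), (88, [1, 2, 52, 3])])),
  (177, (lf [(99, [1, 26, 55, 23]), (88, [1, 5, 59, 6])]))]))])),
  (149, (nd [(98, (nd [(177, (lf [(99, [1, 5, 59, 8]), (88, [1, 55, 24, 23])])),
  (173, (lf [(99, [1, 55, 34, 23]), (88, [1, 5, 59, 32])]))])),
  (94, (nd [(173, (lf [(99, [1, 5, 53, 22]), (88, [1, 2, 38, 23, 0])])),
  (177, (lf [(99, [1, 3, 22, 36]), (88, [1, 6, 5, 59])]))]))]))]))]))]))])),
  (81, (nd [(146, (nd [(164, (nd [(64, (nd [(115, (nd [(130, (nd [(124, (lf [(80, [1, 57, 4, 56]), (70, [1, 48, 44, 2])])),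
  (108, (lf [(80, [1, 10, 0, 23]), (70, [1, 4, 46, 4, 0])]))])),
  (120, (nd [(108, (lf [(80, [1, 22, 8, 47]), (70, [1, 52, 57, 2])])),
  (124, (lf [(80, [1, 46, 23, 5]), (70, [1, 52, 3, 61, 0])]))]))])),
  (133, (nd [(120, (nd [(124, (lf [(80, [1, 14, 48, 2]), (70, [1, 0, 23, 8])])),
  (108, (lf [(80, [1, 40, 51, 2]), (70, [1, 60, 4, 56])]))])),
  (130, (nd [(108, (lf [(80, [1, 34, 22, 47]), (70, [1, 4, 61, 5])])),
  (124, (lf [(80, [1, 0, 23]), (70, [1, 0, 16, 23])]))]))]))])),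
  (65, (nd [(133, (nd [(130, (nd [(108, (lf [(80, [1, 6, 5, 60]), (70, [1, 58, 55, 23])])),
  (124, (lf [(80, [1, 50, 55, 23]), (70, [1, 0, 32, 23])]))])),
  (120, (nd [(124, (lf [(80, [1, 46, 23, 14]), (70, [1, 46, 40, 23])])),
  (108, (lf [(80, [1, 40, 46, 23]), (70, [1, 5, 60, 8])]))]))])),
  (115, (nd [(120, (nd [(108, (lf [(80, [1, 5, 60, 6]), (70, [1, 57, 5, 22, 0])])),
  (124, (lf [(80, [1, 51, 46, 2]), (70, [1, 0, 23, 18])]))])),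
  (130, (nd [(124, (lf [(80, [1, 5, 60, 26]), (70, [1, 4, 58, 52])])),
  (108, (lf [(80, [1, 20, 51, 16, 2]), (70, [1, 5, 60])]))]))]))]))])),
  (158, (nd [(65, (nd [(115, (nd [(120, (nd [(124, (lf [(80, [1, 51, 2, 10]), (70, [1, 4, 56, 5])])),
  (108, (lf [(80, [1, 20, 51, 2]), (70, [1, 22, 47])]))])),
  (130, (nd [(108, (lf [(80, [1, 61, 0, 23]), (70, [1, 48, 2, 42])])),
  (124, (lf [(80, [1, 54, 22, 50]), (70, [1, 5, 57, 12])]))]))])),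
  (133, (nd [(130, (nd [(124, (lf [(80, [1, 22, 47, 5]), (70, [1, 4, 61, 10])])),
  (108, (lf [(80, [1, 48, 34, 2]), (70, [1, 38, 22, 47])]))])),
  (120, (nd [(108, (lf [(80, [1, 22, 47, 10]), (70, [1, 48, 34, 10, 2])])),
  (124, (lf [(80, [1, 16, 46, 23]), (70, [1, 54, 61, 2])]))]))]))])),
  (64, (nd [(133, (nd [(120, (nd [(108, (lf [(80, [1, 48, 38, 2]), (70, [1, 46, 23, 18])])),
  (124, (lf [(80, [1, 16, 51, 2]), (70, [1, 22, 47, 30])]))])),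
  (130, (nd [(124, (lf [(80, [1, 48, 12, 2]), (70, [1, 51, 20, 2])])),
  (108, (lf [(80, [1, 22, 20, 47]), (70, [1, 22, 47, 26])]))]))])),
  (115, (nd [(130, (nd [(108, (lf [(80, [1, 5, 60, 30]), (70, [1, 4, 56, 14])])),
  (124, (lf [(80, [1, 56, 46, 23]), (70, [1, 8, 0, 23])]))])),
  (120, (nd [(124, (lf [(80, [1, 48, 42, 2]), (70, [1, 46, 23, 30])])),
  (108, (lf [(80, [1, 20, 46, 23]), (70, [1, 12, 48, 2])]))]))]))]))]))])),
  (169, (nd [(164, (nd [(65, (nd [(115, (nd [(130, (nd [(108, (lf [(70, [1, 14, 46, 23]), (80, [1, 22, 47, 20])])),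
  (124, (lf [(70, [1, 0, 52, 2]), (80, [1, 32, 0, 23])]))])),
  (120, (nd [(124, (lf [(70, [1, 22, 47, 18]), (80, [1, 48, 46, 2])])),
  (108, (lf [(70, [1, 50, 2, 23, 0]), (80, [1, 18, 48, 3, 0])]))]))])),
  (133, (nd [(120, (nd [(108, (lf [(70, [1, 48, 24, 3, 0]), (80, [1, 36, 22, 47])])),
  (124, (lf [(70, [1, 40, 4, 61]), (80, [1, 4, 46, 36, 0])]))])),
  (130, (nd [(124, (lf [(70, [1, 34, 51, 6, 2]), (80, [1, 57, 22, 47])])),
  (108, (lf [(70, [1, 49, 4, 2, 0]), (80, [1, 5, 22, 24, 0])]))]))]))])),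
  (64, (nd [(133, (nd [(130, (nd [(124, (lf [(70, [1, 28, 4, 56]), (80, [1, 47, 54, 2])])),
  (108, (lf [(70, [1, 48, 3, 0]), (80, [1, 40, 3, 58, 0])]))])),
  (120, (nd [(108, (lf [(70, [1, 22, 47, 6]), (80, [1, 57, 5, 60])])),
  (124, (lf [(70, [1, 49, 5, 49]), (80, [1, 5, 30, 22, 0])]))]))])),
  (115, (nd [(120, (nd [(124, (lf [(70, [1, 42, 4, 56]), (80, [1, 59, 3, 22])])),
  (108, (lf [(70, [1, 38, 48, 3, 0]), (80, [1, 22, 10, 47])]))])),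
  (130, (nd [(108, (lf [(70, [1, 48, 16, 2]), (80, [1, 48, 2, 10])])),
  (124, (lf [(70, [1, 40, 48, 2]), (80, [1, 5, 22, 8, 0])]))]))]))]))])),
  (158, (nd [(64, (nd [(115, (nd [(120, (nd [(108, (lf [(70, [1, 28, 51, 2]), (80, [1, 51, 18, 2])])),
  (124, (lf [(70, [1, 5, 57, 36]), (80, [1, 51, 6, 2])]))])),
  (130, (nd [(124, (lf [(70, [1, 36, 0, 23]), (80, [1, 4, 56, 10])])),
  (108, (lf [(70, [1, 16, 48, 2]), (80, [1, 5, 60, 16])]))]))])),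
  (133, (nd [(130, (nd [(108, (lf [(70, [1, 42, 51, 2]), (80, [1, 55, 52, 23])])),
  (124, (lf [(70, [1, 5, 57, 26]), (80, [1, 51, 12, 2])]))])),
  (120, (nd [(124, (lf [(70, [1, 52, 61, 2]), (80, [1, 23, 57, 47])])),
  (108, (lf [(70, [1, 0, 23, 14]), (80, [1, 60, 51, 2])]))]))]))])),
  (65, (nd [(133, (nd [(120, (nd [(124, (lf [(70, [1, 46, 23, 32]), (80, [1, 16, 51, 3, 0])])),
  (108, (lf [(70, [1, 4, 54, 53]), (80, [1, 46, 23, 8])]))])),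
  (130, (nd [(108, (lf [(70, [1, 42, 46, 23]), (80, [1, 4, 61, 16])])),
  (124, (lf [(70, [1, 20, 48, 2]), (80, [1, 5, 22, 0])]))]))])),
  (115, (nd [(130, (nd [(124, (lf [(70, [1, 5, 60, 12]), (80, [1, 48, 26, 2])])),
  (108, (lf [(70, [1, 5, 57, 28]), (80, [1, 2, 60, 3])]))])),
  (120, (nd [(108, (lf [(70, [1, 54, 4, 3]), (80, [1, 4, 56, 4])])),
  (124, (lf [(70, [1, 48, 26, 10, 2]), (80, [1, 48, 58, 23])]))]))]))]))]))]))])),
  (108, (nd [(165, (nd [(171, (nd [(148, (nd [(102, (nd [(139, (nd [(75, (lf [(120, [1, 3, 58, 44]), (130, [1, 20, 51, 3])])),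
  (61, (lf [(120, [1, 3, 58, 12]), (130, [1, 0, 59, 3])]))])),
  (106, (nd [(61, (lf [(120, [1, 4, 28, 46]), (130, [1, 49, 22, 48])])),
  (75, (lf [(120, [1, 5, 52, 55, 0]), (130, [1, 3, 58, 36])]))]))])),
  (90, (nd [(106, (nd [(75, (lf [(120, [1, 3, 58, 26]), (130, [1, 23, 58, 53])])),
  (61, (lf [(120, [1, 52, 22, 53]), (130, [1, 3, 49, 46])]))])),
  (139, (nd [(61, (lf [(120, [1, 61, 51, 3]), (130, [1, 51, 34, 3])])),
  (75, (lf [(120, [1, 4, 46, 18]), (130, [1, 48, 3, 4])]))]))]))])),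
  (145, (nd [(90, (nd [(139, (nd [(61, (lf [(120, [1, 3, 58]), (130, [1, 51, 44, 3])])),
  (75, (lf [(120, [1, 42, 4, 56, 0]), (130, [1, 56, 5, 22])]))])),
  (106, (nd [(75, (lf [(120, [1, 4, 54, 50]), (130, [1, 5, 26, 57, 0])])),
  (61, (lf [(120, [1, 46, 36, 23, 0]), (130, [1, 3, 58, 38])]))]))])),
  (102, (nd [(106, (nd [(61, (lf [(120, [1, 48, 30, 3]), (130, [1, 51, 3, 36])])),
  (75, (lf [(120, [1, 58, 2, 23]), (130, [1, 48, 2, 36, 0])]))])),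
  (139, (nd [(75, (lf [(120, [1, 46, 16, 23, 0]), (130, [1, 4, 46, 14])])),
  (61, (lf [(120, [1, 51, 3, 26]), (130, [1, 48, 18, 3])]))]))]))]))])),
  (179, (nd [(145, (nd [(102, (nd [(106, (nd [(75, (lf [(120, [1, 3, 52, 61]), (130, [1, 56, 48, 3])])),
  (61, (lf [(120, [1, 32, 5, 22]), (130, [1, 52, 12, 4, 2])]))])),
  (139, (nd [(61, (lf [(120, [1, 3, 14, 58]), (130, [1, 51, 2, 0])])),
  (75, (lf [(120, [1, 0, 52, 3]), (130, [1, 20, 46, 23, 0])]))]))])),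
  (90, (nd [(139, (nd [(75, (lf [(120, [1, 22, 50, 54, 0]), (130, [1, 57, 51, 3])])),
  (61, (lf [(120, [1, 57, 48, 3]), (130, [1, 5, 26, 60, 0])]))])),
  (106, (nd [(61, (lf [(120, [1, 46, 32, 23, 0]), (130, [1, 49, 0, 3])])),
  (75, (lf [(120, [1, 48, 12, 2, 0]), (130, [1, 14, 51, 3])]))]))]))])),
  (148, (nd [(90, (nd [(106, (nd [(61, (lf [(120, [1, 36, 48, 3]), (130, [1, 48, 14, 2, 0])])),
  (75, (lf [(120, [1, 22, 3, 61, 2]), (130, [1, 54, 36, 4, 2])]))])),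
  (139, (nd [(75, (lf [(120, [1, 3, 23, 50]), (130, [1, 51, 18, 3])])),
  (61, (lf [(120, [1, 28, 2, 60, 2]), (130, [1, 26, 5, 22])]))]))])),
  (102, (nd [(139, (nd [(61, (lf [(120, [1, 54, 5, 50, 0]), (130, [1, 51, 30, 3])])),
  (75, (lf [(120, [1, 5, 49, 59]), (130, [1, 48, 8, 3])]))])),
  (106, (nd [(75, (lf [(120, [1, 22, 47, 32, 0]), (130, [1, 5, 22, 5])])),
  (61, (lf [(120, [1, 54, 22, 53]), (130, [1, 44, 48, 3])]))]))]))]))]))])),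
  (160, (nd [(171, (nd [(145, (nd [(102, (nd [(139, (nd [(61, (lf [(130, [1, 57, 4, 46]), (120, [1, 34, 5, 22])])),
  (75, (lf [(130, [1, 51, 3, 14]), (120, [1, 5, 57, 0])]))])),
  (106, (nd [(75, (lf [(130, [1, 5, 57, 30, 0]), (120, [1, 60, 4, 46])])),
  (61, (lf [(130, [1, 48, 40, 3]), (120, [1, 20, 4, 46])]))]))])),
  (90, (nd [(106, (nd [(61, (lf [(130, [1, 5, 60, 18, 0]), (120, [1, 8, 48, 3])])),
  (75, (lf [(130, [1, 22, 47, 0]), (120, [1, 5, 57, 38, 0])]))])),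
  (139, (nd [(75, (lf [(130, [1, 16, 48, 3]), (120, [1, 22, 47, 10, 0])])),
  (61, (lf [(130, [1, 24, 5, 22]), (120, [1, 46, 34, 23, 0])]))]))]))])),
  (148, (nd [(90, (nd [(139, (nd [(75, (lf [(130, [1, 46, 55, 3]), (120, [1, 52, 22, 48])])),
  (61, (lf [(130, [1, 3, 16, 58]), (120, [1, 51, 42, 3])]))])),
  (106, (nd [(61, (lf [(130, [1, 48, 10, 3]), (120, [1, 4, 46, 20])])),
  (75, (lf [(130, [1, 14, 48, 2, 0]), (120, [1, 28, 51, 3])]))]))])),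
  (102, (nd [(106, (nd [(75, (lf [(130, [1, 48, 38, 3]), (120, [1, 5, 22, 34])])),
  (61, (lf [(130, [1, 16, 22, 47, 0]), (120, [1, 54, 0, 3])]))])),
  (139, (nd [(61, (lf [(130, [1, 48, 3]), (120, [1, 51, 16, 2, 0])])),
  (75, (lf [(130, [1, 48, 16, 3]), (120, [1, 12, 48, 3])]))]))]))]))])),
  (179, (nd [(148, (nd [(102, (nd [(106, (nd [(61, (lf [(130, [1, 59, 2, 23]), (120, [1, 24, 48, 3])])),
  (75, (lf [(130, [1, 51, 22, 59, 0]), (120, [1, 16, 5, 22])]))])),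
  (139, (nd [(75, (lf [(130, [1, 50, 2, 23]), (120, [1, 3, 51, 56])])),
  (61, (lf [(130, [1, 48, 20, 3]), (120, [1, 51, 40, 2, 0])]))]))])),
  (90, (nd [(139, (nd [(61, (lf [(130, [1, 48, 3, 16]), (120, [1, 4, 46, 6])])),
  (75, (lf [(130, [1, 52, 3, 61]), (120, [1, 5, 22, 44])]))])),
  (106, (nd [(75, (lf [(130, [1, 5, 57, 34, 0]), (120, [1, 30, 22, 47, 0])])),
  (61, (lf [(130, [1, 34, 48, 3]), (120, [1, 51, 36, 2, 0])]))]))]))])),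
  (145, (nd [(90, (nd [(106, (nd [(75, (lf [(130, [1, 2, 56, 2]), (120, [1, 5, 22, 18])])),
  (61, (lf [(130, [1, 4, 59, 55]), (120, [1, 5, 22])]))])),
  (139, (nd [(61, (lf [(130, [1, 6, 5, 22]), (120, [1, 5, 60, 6, 0])])),
  (75, (lf [(130, [1, 4, 54, 49]), (120, [1, 3, 26, 58])]))]))])),
  (102, (nd [(139, (nd [(75, (lf [(130, [1, 48, 3, 40]), (120, [1, 52, 2, 47])])),
  (61, (lf [(130, [1, 60, 48, 3]), (120, [1, 48, 24, 3])]))])),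
  (106, (nd [(61, (lf [(130, [1, 18, 48, 3]), (120, [1, 5, 60, 0])])),
  (75, (lf [(130, [1, 4, 46, 4]), (120, [1, 48, 34, 3])]))]))]))]))]))]))])),
  (147, (nd [(165, (nd [(145, (nd [(174, (nd [(129, (nd [(107, (nd [(136, (lf [(153, [1, 4, 58, 0]), (163, [1, 2, 36, 23])])),
  (125, (lf [(153, [1, 52, 5, 22]), (163, [1, 10, 4, 58, 0])]))])),
  (140, (nd [(125, (lf [(153, [1, 53, 58, 38, 3]), (163, [1, 5, 30, 55])])),
  (136, (lf [(153, [1, 3, 36, 57]), (163, [1, 55, 59, 3])]))]))])),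
  (128, (nd [(140, (nd [(136, (lf [(153, [1, 3, 53, 55, 0]), (163, [1, 32, 2, 23])])),
  (125, (lf [(153, [1, 5, 55, 26]), (163, [1, 3, 0, 47])]))])),
  (107, (nd [(125, (lf [(153, [1, 4, 58, 20, 0]), (163, [1, 4, 54, 47])])),
  (136, (lf [(153, [1, 23, 54, 12]), (163, [1, 48, 58, 3])]))]))]))])),
  (176, (nd [(128, (nd [(107, (nd [(125, (lf [(153, [1, 5, 55, 6]), (163, [1, 4, 22, 52])])),
  (136, (lf [(153, [1, 47, 23, 52, 0]), (163, [1, 4, 51, 46])]))])),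
  (140, (nd [(136, (lf [(153, [1, 3, 40, 60]), (163, [1, 3, 57, 4])])),
  (125, (lf [(153, [1, 46, 3, 61]), (163, [1, 2, 23, 5])]))]))])),
  (129, (nd [(140, (nd [(125, (lf [(153, [1, 5, 55, 28]), (163, [1, 5, 55, 42])])),
  (136, (lf [(153, [1, 4, 58, 30, 0]), (163, [1, 3, 20, 60])]))])),
  (107, (nd [(136, (lf [(153, [1, 44, 23, 54]), (163, [1, 4, 58, 34, 0])])),
  (125, (lf [(153, [1, 23, 51, 47]), (163, [1, 5, 55, 32])]))]))]))]))])),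
  (148, (nd [(176, (nd [(129, (nd [(140, (nd [(136, (lf [(153, [1, 14, 3, 22, 0]), (163, [1, 51, 51, 2, 0])])),
  (125, (lf [(153, [1, 38, 5, 55]), (163, [1, 22, 5, 54, 0])]))])),
  (107, (nd [(125, (lf [(153, [1, 3, 60, 44]), (163, [1, 46, 2, 47])])),
  (136, (lf [(153, [1, 44, 2, 23]), (163, [1, 4, 58, 24, 0])]))]))])),
  (128, (nd [(107, (nd [(136, (lf [(153, [1, 3, 60, 26]), (163, [1, 22, 22, 2])])),
  (125, (lf [(153, [1, 6, 5, 55]), (163, [1, 55, 4, 47, 0])]))])),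
  (140, (nd [(125, (lf [(153, [1, 5, 55, 38]), (163, [1, 5, 55])])),
  (136, (lf [(153, [1, 50, 54, 3]), (163, [1, 58, 5, 22])]))]))]))])),
  (174, (nd [(128, (nd [(140, (nd [(125, (lf [(153, [1, 3, 60, 30]), (163, [1, 3, 57, 14])])),
  (136, (lf [(153, [1, 3, 51, 54, 0]), (163, [1, 26, 2, 23])]))])),
  (107, (nd [(136, (lf [(153, [1, 2, 49, 2]), (163, [1, 23, 54, 14])])),
  (125, (lf [(153, [1, 53, 3, 52]), (163, [1, 10, 2, 49, 2])]))]))])),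
  (129, (nd [(107, (nd [(125, (lf [(153, [1, 5, 55, 8]), (163, [1, 5, 59, 14, 0])])),
  (136, (lf [(153, [1, 4, 58, 38, 0]), (163, [1, 58, 3, 58])]))])),
  (140, (nd [(136, (lf [(153, [1, 3, 60]), (163, [1, 61, 2, 23])])),
  (125, (lf [(153, [1, 0, 60, 8, 3]), (163, [1, 23, 49, 22])]))]))]))]))]))])),
  (160, (nd [(145, (nd [(176, (nd [(129, (nd [(107, (nd [(125, (lf [(163, [1, 48, 3, 51]), (153, [1, 3, 24, 57])])),
  (136, (lf [(163, [1, 3, 57, 34]), (153, [1, 5, 55, 5])]))])),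
  (140, (nd [(136, (lf [(163, [1, 3, 60, 40]), (153, [1, 3, 20, 22, 0])])),
  (125, (lf [(163, [1, 3, 57, 8]), (153, [1, 5, 58, 46])]))]))])),
  (128, (nd [(140, (nd [(125, (lf [(163, [1, 54, 14, 53, 3]), (153, [1, 3, 57])])),
  (136, (lf [(163, [1, 3, 57, 18]), (153, [1, 47, 23, 51, 0])]))])),
  (107, (nd [(136, (lf [(163, [1, 22, 59, 47]), (153, [1, 3, 57, 30])])),
  (125, (lf [(163, [1, 3, 57, 6]), (153, [1, 58, 4, 46])]))]))]))])),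
  (174, (nd [(128, (nd [(107, (nd [(136, (lf [(163, [1, 23, 32, 54]), (153, [1, 59, 5, 22])])),
  (125, (lf [(163, [1, 58, 52, 4, 2]), (153, [1, 46, 57, 3])]))])),
  (140, (nd [(125, (lf [(163, [1, 23, 54, 30]), (153, [1, 0, 47, 4, 2])])),
  (136, (lf [(163, [1, 44, 2, 52, 2]), (153, [1, 50, 50, 3])]))]))])),
  (129, (nd [(140, (nd [(136, (lf [(163, [1, 46, 0, 3]), (153, [1, 3, 14, 57])])),
  (125, (lf [(163, [1, 2, 58, 0, 2]), (153, [1, 47, 60, 3])]))])),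
  (107, (nd [(125, (lf [(163, [1, 3, 60, 42]), (153, [1, 16, 23, 54])])),
  (136, (lf [(163, [1, 55, 52, 14, 3]), (153, [1, 23, 56, 50])]))]))]))]))])),
  (148, (nd [(174, (nd [(129, (nd [(140, (nd [(125, (lf [(163, [1, 53, 22, 46]), (153, [1, 2, 32, 23])])),
  (136, (lf [(163, [1, 3, 22, 0]), (153, [1, 0, 60, 30, 3])]))])),
  (107, (nd [(136, (lf [(163, [1, 59, 48, 20, 3]), (153, [1, 3, 22, 6, 0])])),
  (125, (lf [(163, [1, 3, 60, 12]), (153, [1, 16, 2, 23])]))]))])),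
  (128, (nd [(107, (nd [(125, (lf [(163, [1, 23, 56, 53, 0]), (153, [1, 2, 23, 18])])),
  (136, (lf [(163, [1, 22, 54, 22]), (153, [1, 4, 52, 46])]))])),
  (140, (nd [(136, (lf [(163, [1, 48, 58, 14, 3]), (153, [1, 3, 57, 44])])),
  (125, (lf [(163, [1, 2, 23, 30]), (153, [1, 14, 5, 55])]))]))]))])),
  (176, (nd [(128, (nd [(140, (nd [(136, (lf [(163, [1, 18, 3, 22, 0]), (153, [1, 2, 36, 52, 2])])),
  (125, (lf [(163, [1, 5, 59, 12, 0]), (153, [1, 3, 57, 28])]))])),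
  (107, (nd [(125, (lf [(163, [1, 46, 4, 2]), (153, [1, 53, 60, 23, 0])])),
  (136, (lf [(163, [1, 23, 52, 47]), (153, [1, 2, 23, 42])]))]))])),
  (129, (nd [(107, (nd [(136, (lf [(163, [1, 3, 60, 16]), (153, [1, 55, 23, 5, 0])])),
  (125, (lf [(163, [1, 54, 61, 23, 0]), (153, [1, 5, 55, 14])]))])),
  (140, (nd [(125, (lf [(163, [1, 40, 3, 60]), (153, [1, 59, 48, 38, 3])])),
  (136, (lf [(163, [1, 59, 48, 3]), (153, [1, 3, 26, 60])]))]))]))]))]))]))]))]) .nil)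

theorem s_3 : solveB (nat_lit 9) (nat_lit 511) xtt (nat_lit 355) 500 xB (fun _ => true) xch3 3 []
    ([] : List (List ℕ)) ([] : List (List ℕ)) (prEq 500 ([] : List (List ℕ)) ([] : List (List ℕ)) ++ [[1000, 1000, 1000]]) [] [] (fun u => Nat.blt (u.headD 0) 3) (mkC reps3) ts_3 ct_3 = true := by
  decide +kernel

end Cfsg.Agent.Lib.HNX
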