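import Cfsg.Agent.Lib.HNXT

/-! Certificates. -/

set_option autoImplicit false
set_option maxRecDepth 100000

namespace Cfsg.Agent.Lib.HNX

open Cfsg.Agent.Lib.PermNet Cfsg.Agent.Lib.Words Cfsg.Agent.Lib.PermGroup Cfsg.Agent.Lib.DCE Cfsg.Agent.Lib.PermModel Cfsg.Agent.Lib.BT

noncomputable def ts_c : List Tst := [⟨[], [⟨0, [0], [6], [6]⟩, ⟨0, [2], [8], [8]⟩, ⟨0, [4], [10], [10]⟩, ⟨0, [6], [12], [12]⟩], [⟨0, [8], [14], [14]⟩, ⟨0, [10], [16], [16]⟩, ⟨0, [0, 8], [6, 14], [6, 14]⟩]⟩,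
  ⟨[], [⟨0, [2], [8], [8]⟩, ⟨0, [4], [10], [10]⟩, ⟨0, [8], [14], [14]⟩, ⟨0, [10], [16], [16]⟩], [⟨0, [0], [6], [6]⟩, ⟨0, [6], [12], [12]⟩, ⟨0, [12], [18], [18]⟩]⟩,
  ⟨[], [⟨0, [0], [6], [6]⟩, ⟨0, [2], [8], [8]⟩, ⟨0, [8], [14], [14]⟩, ⟨0, [12], [18], [18]⟩], [⟨0, [4], [10], [10]⟩, ⟨0, [6], [12], [12]⟩, ⟨0, [10], [16], [16]⟩]⟩,
  ⟨[], [⟨0, [0], [6], [6]⟩, ⟨0, [4], [10], [10]⟩, ⟨0, [6], [12], [12]⟩, ⟨0, [8], [14], [14]⟩], [⟨0, [2], [8], [8]⟩, ⟨0, [12], [18], [18]⟩, ⟨0, [0, 2], [6, 8], [6, 8]⟩]⟩,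
  ⟨[], [⟨0, [0], [6], [6]⟩, ⟨0, [4], [10], [10]⟩, ⟨0, [6], [12], [12]⟩, ⟨0, [12], [18], [18]⟩], [⟨0, [2], [8], [8]⟩, ⟨0, [8], [14], [14]⟩, ⟨0, [10], [16], [16]⟩]⟩,
  ⟨[], [⟨0, [4], [10], [10]⟩, ⟨0, [8], [14], [14]⟩, ⟨0, [10], [16], [16]⟩, ⟨0, [12], [18], [18]⟩], [⟨0, [0], [6], [6]⟩, ⟨0, [2], [8], [8]⟩, ⟨0, [6], [12], [12]⟩]⟩,
  ⟨[], [⟨0, [0], [6], [6]⟩, ⟨0, [2], [8], [8]⟩, ⟨0, [6], [12], [12]⟩, ⟨0, [10], [16], [16]⟩], [⟨0, [4], [10], [10]⟩, ⟨0, [8], [14], [14]⟩, ⟨0, [14], [20], [20]⟩]⟩,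
  ⟨[], [⟨0, [0], [6], [6]⟩, ⟨0, [2], [8], [8]⟩, ⟨0, [4], [10], [10]⟩, ⟨0, [10], [16], [16]⟩], [⟨0, [6], [12], [12]⟩, ⟨0, [8], [14], [14]⟩, ⟨0, [12], [18], [18]⟩]⟩]

noncomputable def ct_c : CT := (.node 0 [] [] (nat_lit 0x0) (nd [(60, (nd [(69, (nd [(61, (nd [(63, (nd [(67, (nd [(70, (nd [(81, (lf [(106, [0]), (139, [52])])),
  (104, (lf [(106, [57]), (139, [13])]))])),
  (80, (nd [(104, (lf [(106, [246]), (139, [194])])),
  (81, (lf [(106, [207]), (139, [251])]))]))])),
  (78, (nd [(80, (nd [(81, (lf [(106, [184]), (139, [140])])),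
  (104, (lf [(106, [129]), (139, [181])]))])),
  (70, (nd [(104, (lf [(106, [78]), (139, [122])])),
  (81, (lf [(106, [119]), (139, [67])]))]))]))])),
  (66, (nd [(78, (nd [(80, (nd [(81, (lf [(106, [2]), (139, [54])])),
  (104, (lf [(106, [59]), (139, [15])]))])),
  (70, (nd [(104, (lf [(106, [244]), (139, [192])])),
  (81, (lf [(106, [205]), (139, [249])]))]))])),
  (67, (nd [(70, (nd [(81, (lf [(106, [186]), (139, [142])])),
  (104, (lf [(106, [131]), (139, [183])]))])),
  (80, (nd [(104, (lf [(106, [76]), (139, [120])])),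
  (81, (lf [(106, [117]), (139, [65])]))]))]))]))])),
  (75, (nd [(63, (nd [(67, (nd [(70, (nd [(104, (lf [(106, [4]), (139, [48])])),
  (81, (lf [(106, [61]), (139, [9])]))])),
  (80, (nd [(81, (lf [(106, [242]), (139, [198])])),
  (104, (lf [(106, [203]), (139, [255])]))]))])),
  (78, (nd [(80, (nd [(104, (lf [(106, [188]), (139, [136])])),
  (81, (lf [(106, [133]), (139, [177])]))])),
  (70, (nd [(81, (lf [(106, [74]), (139, [126])])),
  (104, (lf [(106, [115]), (139, [71])]))]))]))])),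
  (66, (nd [(78, (nd [(80, (nd [(104, (lf [(106, [6]), (139, [50])])),
  (81, (lf [(106, [63]), (139, [11])]))])),
  (70, (nd [(81, (lf [(106, [240]), (139, [196])])),
  (104, (lf [(106, [201]), (139, [253])]))]))])),
  (67, (nd [(70, (nd [(104, (lf [(106, [190]), (139, [138])])),
  (81, (lf [(106, [135]), (139, [179])]))])),
  (80, (nd [(81, (lf [(106, [72]), (139, [124])])),
  (104, (lf [(106, [113]), (139, [69])]))]))]))]))]))])),
  (79, (nd [(61, (nd [(63, (nd [(67, (nd [(80, (nd [(81, (lf [(106, [1]), (139, [53])])),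
  (104, (lf [(106, [56]), (139, [12])]))])),
  (70, (nd [(104, (lf [(106, [247]), (139, [195])])),
  (81, (lf [(106, [206]), (139, [250])]))]))])),
  (78, (nd [(70, (nd [(81, (lf [(106, [185]), (139, [141])])),
  (104, (lf [(106, [128]), (139, [180])]))])),
  (80, (nd [(104, (lf [(106, [79]), (139, [123])])),
  (81, (lf [(106, [118]), (139, [66])]))]))]))])),
  (66, (nd [(78, (nd [(70, (nd [(81, (lf [(106, [3]), (139, [55])])),
  (104, (lf [(106, [58]), (139, [14])]))])),
  (80, (nd [(104, (lf [(106, [245]), (139, [193])])),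
  (81, (lf [(106, [204]), (139, [248])]))]))])),
  (67, (nd [(80, (nd [(81, (lf [(106, [187]), (139, [143])])),
  (104, (lf [(106, [130]), (139, [182])]))])),
  (70, (nd [(104, (lf [(106, [77]), (139, [121])])),
  (81, (lf [(106, [116]), (139, [64])]))]))]))]))])),
  (75, (nd [(63, (nd [(67, (nd [(80, (nd [(104, (lf [(106, [5]), (139, [49])])),
  (81, (lf [(106, [60]), (139, [8])]))])),
  (70, (nd [(81, (lf [(106, [243]), (139, [199])])),
  (104, (lf [(106, [202]), (139, [254])]))]))])),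
  (78, (nd [(70, (nd [(104, (lf [(106, [189]), (139, [137])])),
  (81, (lf [(106, [132]), (139, [176])]))])),
  (80, (nd [(81, (lf [(106, [75]), (139, [127])])),
  (104, (lf [(106, [114]), (139, [70])]))]))]))])),
  (66, (nd [(78, (nd [(70, (nd [(104, (lf [(106, [7]), (139, [51])])),
  (81, (lf [(106, [62]), (139, [10])]))])),
  (80, (nd [(81, (lf [(106, [241]), (139, [197])])),
  (104, (lf [(106, [200]), (139, [252])]))]))])),
  (67, (nd [(80, (nd [(104, (lf [(106, [191]), (139, [139])])),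
  (81, (lf [(106, [134]), (139, [178])]))])),
  (70, (nd [(81, (lf [(106, [73]), (139, [125])])),
  (104, (lf [(106, [112]), (139, [68])]))]))]))]))]))]))])),
  (85, (nd [(69, (nd [(61, (nd [(63, (nd [(78, (nd [(70, (nd [(104, (lf [(139, [16]), (106, [36])])),
  (81, (lf [(139, [41]), (106, [29])]))])),
  (80, (nd [(81, (lf [(139, [230]), (106, [210])])),
  (104, (lf [(139, [223]), (106, [235])]))]))])),
  (67, (nd [(80, (nd [(104, (lf [(139, [168]), (106, [156])])),
  (81, (lf [(139, [145]), (106, [165])]))])),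
  (70, (nd [(81, (lf [(139, [94]), (106, [106])])),
  (104, (lf [(139, [103]), (106, [83])]))]))]))])),
  (66, (nd [(67, (nd [(80, (nd [(104, (lf [(139, [18]), (106, [38])])),
  (81, (lf [(139, [43]), (106, [31])]))])),
  (70, (nd [(81, (lf [(139, [228]), (106, [208])])),
  (104, (lf [(139, [221]), (106, [233])]))]))])),
  (78, (nd [(70, (nd [(104, (lf [(139, [170]), (106, [158])])),
  (81, (lf [(139, [147]), (106, [167])]))])),
  (80, (nd [(81, (lf [(139, [92]), (106, [104])])),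
  (104, (lf [(139, [101]), (106, [81])]))]))]))]))])),
  (75, (nd [(63, (nd [(78, (nd [(70, (nd [(81, (lf [(139, [20]), (106, [32])])),
  (104, (lf [(139, [45]), (106, [25])]))])),
  (80, (nd [(104, (lf [(139, [226]), (106, [214])])),
  (81, (lf [(139, [219]), (106, [239])]))]))])),
  (67, (nd [(80, (nd [(81, (lf [(139, [172]), (106, [152])])),
  (104, (lf [(139, [149]), (106, [161])]))])),
  (70, (nd [(104, (lf [(139, [90]), (106, [110])])),
  (81, (lf [(139, [99]), (106, [87])]))]))]))])),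
  (66, (nd [(67, (nd [(80, (nd [(81, (lf [(139, [22]), (106, [34])])),
  (104, (lf [(139, [47]), (106, [27])]))])),
  (70, (nd [(104, (lf [(139, [224]), (106, [212])])),
  (81, (lf [(139, [217]), (106, [237])]))]))])),
  (78, (nd [(70, (nd [(81, (lf [(139, [174]), (106, [154])])),
  (104, (lf [(139, [151]), (106, [163])]))])),
  (80, (nd [(104, (lf [(139, [88]), (106, [108])])),
  (81, (lf [(139, [97]), (106, [85])]))]))]))]))]))])),
  (79, (nd [(61, (nd [(63, (nd [(78, (nd [(80, (nd [(104, (lf [(139, [17]), (106, [37])])),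
  (81, (lf [(139, [40]), (106, [28])]))])),
  (70, (nd [(81, (lf [(139, [231]), (106, [211])])),
  (104, (lf [(139, [222]), (106, [234])]))]))])),
  (67, (nd [(70, (nd [(104, (lf [(139, [169]), (106, [157])])),
  (81, (lf [(139, [144]), (106, [164])]))])),
  (80, (nd [(81, (lf [(139, [95]), (106, [107])])),
  (104, (lf [(139, [102]), (106, [82])]))]))]))])),
  (66, (nd [(67, (nd [(70, (nd [(104, (lf [(139, [19]), (106, [39])])),
  (81, (lf [(139, [42]), (106, [30])]))])),
  (80, (nd [(81, (lf [(139, [229]), (106, [209])])),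
  (104, (lf [(139, [220]), (106, [232])]))]))])),
  (78, (nd [(80, (nd [(104, (lf [(139, [171]), (106, [159])])),
  (81, (lf [(139, [146]), (106, [166])]))])),
  (70, (nd [(81, (lf [(139, [93]), (106, [105])])),
  (104, (lf [(139, [100]), (106, [80])]))]))]))]))])),
  (75, (nd [(63, (nd [(78, (nd [(80, (nd [(81, (lf [(139, [21]), (106, [33])])),
  (104, (lf [(139, [44]), (106, [24])]))])),
  (70, (nd [(104, (lf [(139, [227]), (106, [215])])),
  (81, (lf [(139, [218]), (106, [238])]))]))])),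
  (67, (nd [(70, (nd [(81, (lf [(139, [173]), (106, [153])])),
  (104, (lf [(139, [148]), (106, [160])]))])),
  (80, (nd [(104, (lf [(139, [91]), (106, [111])])),
  (81, (lf [(139, [98]), (106, [86])]))]))]))])),
  (66, (nd [(67, (nd [(70, (nd [(81, (lf [(139, [23]), (106, [35])])),
  (104, (lf [(139, [46]), (106, [26])]))])),
  (80, (nd [(104, (lf [(139, [225]), (106, [213])])),
  (81, (lf [(139, [216]), (106, [236])]))]))])),
  (78, (nd [(80, (nd [(81, (lf [(139, [175]), (106, [155])])),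
  (104, (lf [(139, [150]), (106, [162])]))])),
  (70, (nd [(104, (lf [(139, [89]), (106, [109])])),
  (81, (lf [(139, [96]), (106, [84])]))]))]))]))]))]))]))]) .nil)

theorem s_c : solveB (nat_lit 9) (nat_lit 511) xtt (nat_lit 355) 500 xB (fun _ => true) xch 0 []
    (sl QL) (sl QL) (prEq 500 (sl QL) (sl QL) ++ []) [] [] (fun u => fixW (nat_lit 9) (nat_lit 511) xtt xB (sw (u.headD 0) ++ sw (u.headD 0))) (fun u => sw (u.headD 0)) ts_c ct_c = true := by
  decide +kernel

noncomputable def ts_A : List Tst := [⟨[], [], []⟩,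
  ⟨[], [], []⟩,
  ⟨[], [], []⟩,
  ⟨[], [], []⟩,
  ⟨[], [], []⟩,
  ⟨[], [], []⟩,
  ⟨[], [], []⟩,
  ⟨[], [], []⟩]

noncomputable def ct_A : CT := (.node 0 [] [] (nat_lit 0x0) (nd [(60, (nd [(69, (nd [(61, (nd [(63, (nd [(67, (nd [(70, (nd [(81, (lf [(106, [0]), (139, [52])])),
  (104, (lf [(139, [13]), (106, [57])]))])),
  (80, (nd [(104, (lf [(139, [194]), (106, [246])])),
  (81, (lf [(106, [207]), (139, [251])]))]))])),
  (78, (nd [(80, (nd [(104, (lf [(106, [129]), (139, [181])])),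
  (81, (lf [(139, [140]), (106, [184])]))])),
  (70, (nd [(81, (lf [(139, [67]), (106, [119])])),
  (104, (lf [(106, [78]), (139, [122])]))]))]))])),
  (66, (nd [(78, (nd [(80, (nd [(81, (lf [(106, [2]), (139, [54])])),
  (104, (lf [(139, [15]), (106, [59])]))])),
  (70, (nd [(104, (lf [(139, [192]), (106, [244])])),
  (81, (lf [(106, [205]), (139, [249])]))]))])),
  (67, (nd [(70, (nd [(104, (lf [(106, [131]), (139, [183])])),
  (81, (lf [(139, [142]), (106, [186])]))])),
  (80, (nd [(81, (lf [(139, [65]), (106, [117])])),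
  (104, (lf [(106, [76]), (139, [120])]))]))]))]))])),
  (75, (nd [(63, (nd [(67, (nd [(70, (nd [(104, (lf [(106, [4]), (139, [48])])),
  (81, (lf [(139, [9]), (106, [61])]))])),
  (80, (nd [(81, (lf [(139, [198]), (106, [242])])),
  (104, (lf [(106, [203]), (139, [255])]))]))])),
  (78, (nd [(80, (nd [(81, (lf [(106, [133]), (139, [177])])),
  (104, (lf [(139, [136]), (106, [188])]))])),
  (70, (nd [(104, (lf [(139, [71]), (106, [115])])),
  (81, (lf [(106, [74]), (139, [126])]))]))]))])),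
  (66, (nd [(78, (nd [(80, (nd [(104, (lf [(106, [6]), (139, [50])])),
  (81, (lf [(139, [11]), (106, [63])]))])),
  (70, (nd [(81, (lf [(139, [196]), (106, [240])])),
  (104, (lf [(106, [201]), (139, [253])]))]))])),
  (67, (nd [(70, (nd [(81, (lf [(106, [135]), (139, [179])])),
  (104, (lf [(139, [138]), (106, [190])]))])),
  (80, (nd [(104, (lf [(139, [69]), (106, [113])])),
  (81, (lf [(106, [72]), (139, [124])]))]))]))]))]))])),
  (79, (nd [(61, (nd [(63, (nd [(67, (nd [(80, (nd [(81, (lf [(106, [1]), (139, [53])])),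
  (104, (lf [(139, [12]), (106, [56])]))])),
  (70, (nd [(104, (lf [(139, [195]), (106, [247])])),
  (81, (lf [(106, [206]), (139, [250])]))]))])),
  (78, (nd [(70, (nd [(104, (lf [(106, [128]), (139, [180])])),
  (81, (lf [(139, [141]), (106, [185])]))])),
  (80, (nd [(81, (lf [(139, [66]), (106, [118])])),
  (104, (lf [(106, [79]), (139, [123])]))]))]))])),
  (66, (nd [(78, (nd [(70, (nd [(81, (lf [(106, [3]), (139, [55])])),
  (104, (lf [(139, [14]), (106, [58])]))])),
  (80, (nd [(104, (lf [(139, [193]), (106, [245])])),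
  (81, (lf [(106, [204]), (139, [248])]))]))])),
  (67, (nd [(80, (nd [(104, (lf [(106, [130]), (139, [182])])),
  (81, (lf [(139, [143]), (106, [187])]))])),
  (70, (nd [(81, (lf [(139, [64]), (106, [116])])),
  (104, (lf [(106, [77]), (139, [121])]))]))]))]))])),
  (75, (nd [(63, (nd [(67, (nd [(80, (nd [(104, (lf [(106, [5]), (139, [49])])),
  (81, (lf [(139, [8]), (106, [60])]))])),
  (70, (nd [(81, (lf [(139, [199]), (106, [243])])),
  (104, (lf [(106, [202]), (139, [254])]))]))])),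
  (78, (nd [(70, (nd [(81, (lf [(106, [132]), (139, [176])])),
  (104, (lf [(139, [137]), (106, [189])]))])),
  (80, (nd [(104, (lf [(139, [70]), (106, [114])])),
  (81, (lf [(106, [75]), (139, [127])]))]))]))])),
  (66, (nd [(78, (nd [(70, (nd [(104, (lf [(106, [7]), (139, [51])])),
  (81, (lf [(139, [10]), (106, [62])]))])),
  (80, (nd [(81, (lf [(139, [197]), (106, [241])])),
  (104, (lf [(106, [200]), (139, [252])]))]))])),
  (67, (nd [(80, (nd [(81, (lf [(106, [134]), (139, [178])])),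
  (104, (lf [(139, [139]), (106, [191])]))])),
  (70, (nd [(104, (lf [(139, [68]), (106, [112])])),
  (81, (lf [(106, [73]), (139, [125])]))]))]))]))]))]))])),
  (85, (nd [(69, (nd [(61, (nd [(63, (nd [(78, (nd [(70, (nd [(104, (lf [(139, [16]), (106, [36])])),
  (81, (lf [(106, [29]), (139, [41])]))])),
  (80, (nd [(81, (lf [(106, [210]), (139, [230])])),
  (104, (lf [(139, [223]), (106, [235])]))]))])),
  (67, (nd [(80, (nd [(81, (lf [(139, [145]), (106, [165])])),
  (104, (lf [(106, [156]), (139, [168])]))])),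
  (70, (nd [(104, (lf [(106, [83]), (139, [103])])),
  (81, (lf [(139, [94]), (106, [106])]))]))]))])),
  (66, (nd [(67, (nd [(80, (nd [(104, (lf [(139, [18]), (106, [38])])),
  (81, (lf [(106, [31]), (139, [43])]))])),
  (70, (nd [(81, (lf [(106, [208]), (139, [228])])),
  (104, (lf [(139, [221]), (106, [233])]))]))])),
  (78, (nd [(70, (nd [(81, (lf [(139, [147]), (106, [167])])),
  (104, (lf [(106, [158]), (139, [170])]))])),
  (80, (nd [(104, (lf [(106, [81]), (139, [101])])),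
  (81, (lf [(139, [92]), (106, [104])]))]))]))]))])),
  (75, (nd [(63, (nd [(78, (nd [(70, (nd [(81, (lf [(139, [20]), (106, [32])])),
  (104, (lf [(106, [25]), (139, [45])]))])),
  (80, (nd [(104, (lf [(106, [214]), (139, [226])])),
  (81, (lf [(139, [219]), (106, [239])]))]))])),
  (67, (nd [(80, (nd [(104, (lf [(139, [149]), (106, [161])])),
  (81, (lf [(106, [152]), (139, [172])]))])),
  (70, (nd [(81, (lf [(106, [87]), (139, [99])])),
  (104, (lf [(139, [90]), (106, [110])]))]))]))])),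
  (66, (nd [(67, (nd [(80, (nd [(81, (lf [(139, [22]), (106, [34])])),
  (104, (lf [(106, [27]), (139, [47])]))])),
  (70, (nd [(104, (lf [(106, [212]), (139, [224])])),
  (81, (lf [(139, [217]), (106, [237])]))]))])),
  (78, (nd [(70, (nd [(104, (lf [(139, [151]), (106, [163])])),
  (81, (lf [(106, [154]), (139, [174])]))])),
  (80, (nd [(81, (lf [(106, [85]), (139, [97])])),
  (104, (lf [(139, [88]), (106, [108])]))]))]))]))]))])),
  (79, (nd [(61, (nd [(63, (nd [(78, (nd [(80, (nd [(104, (lf [(139, [17]), (106, [37])])),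
  (81, (lf [(106, [28]), (139, [40])]))])),
  (70, (nd [(81, (lf [(106, [211]), (139, [231])])),
  (104, (lf [(139, [222]), (106, [234])]))]))])),
  (67, (nd [(70, (nd [(81, (lf [(139, [144]), (106, [164])])),
  (104, (lf [(106, [157]), (139, [169])]))])),
  (80, (nd [(104, (lf [(106, [82]), (139, [102])])),
  (81, (lf [(139, [95]), (106, [107])]))]))]))])),
  (66, (nd [(67, (nd [(70, (nd [(104, (lf [(139, [19]), (106, [39])])),
  (81, (lf [(106, [30]), (139, [42])]))])),
  (80, (nd [(81, (lf [(106, [209]), (139, [229])])),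
  (104, (lf [(139, [220]), (106, [232])]))]))])),
  (78, (nd [(80, (nd [(81, (lf [(139, [146]), (106, [166])])),
  (104, (lf [(106, [159]), (139, [171])]))])),
  (70, (nd [(104, (lf [(106, [80]), (139, [100])])),
  (81, (lf [(139, [93]), (106, [105])]))]))]))]))])),
  (75, (nd [(63, (nd [(78, (nd [(80, (nd [(81, (lf [(139, [21]), (106, [33])])),
  (104, (lf [(106, [24]), (139, [44])]))])),
  (70, (nd [(104, (lf [(106, [215]), (139, [227])])),
  (81, (lf [(139, [218]), (106, [238])]))]))])),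
  (67, (nd [(70, (nd [(104, (lf [(139, [148]), (106, [160])])),
  (81, (lf [(106, [153]), (139, [173])]))])),
  (80, (nd [(81, (lf [(106, [86]), (139, [98])])),
  (104, (lf [(139, [91]), (106, [111])]))]))]))])),
  (66, (nd [(67, (nd [(70, (nd [(81, (lf [(139, [23]), (106, [35])])),
  (104, (lf [(106, [26]), (139, [46])]))])),
  (80, (nd [(104, (lf [(106, [213]), (139, [225])])),
  (81, (lf [(139, [216]), (106, [236])]))]))])),
  (78, (nd [(80, (nd [(104, (lf [(139, [150]), (106, [162])])),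
  (81, (lf [(106, [155]), (139, [175])]))])),
  (70, (nd [(81, (lf [(106, [84]), (139, [96])])),
  (104, (lf [(139, [89]), (106, [109])]))]))]))]))]))]))]))]) .nil)

theorem s_A : solveB (nat_lit 9) (nat_lit 511) xtt (nat_lit 355) 500 xB (okL QL) xchA 0 []
    ([] : List (List ℕ)) ([] : List (List ℕ)) ([] : List (List ℕ)) [] [] (fun u => band (Nat.blt (u.headD 0) 256) (fixW (nat_lit 9) (nat_lit 511) xtt xB (sw (u.headD 0) ++ sw (u.headD 0)))) (fun u => sw (u.headD 0)) ts_A ct_A = true := by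
  decide +kernel

theorem xcA : chB (nat_lit 9) (nat_lit 511) xtt (nat_lit 355) (okL QL) xchA [] = true := by decide +kernel

theorem hlink : allR (fun l => allR (fun p => forceB (ap1i (nat_lit 9) (nat_lit 511) xtt [l] p) fun q => band (Nat.blt q 60)
    (fixW (nat_lit 9) (nat_lit 511) xtt xB (([l] ++ getW dW p ++ invW [l]) ++ invW (getW dW q)))) (nat_lit 0) 60) 0 22 = true := by
  decide +kernel

theorem hinj : allR (fun p => allR (fun q => bif' (Nat.beq p q) true
    (bnot (fixW (nat_lit 9) (nat_lit 511) xtt xB (getW dW p ++ invW (getW dW q))))) 0 60) 0 60 = true := by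
  decide +kernel

theorem htW : allR (fun p => band (allL (okL QL) (getW dW p))
    (fixW (nat_lit 9) (nat_lit 511) xtt xB ((getW tW p ++ [6] ++ invW (getW tW p)) ++ invW (getW dW p)))) 0 60 = true := by
  decide +kernel

end Cfsg.Agent.Lib.HNX
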