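import Cfsg.Agent.Lib.HSRR

set_option autoImplicit false
set_option maxRecDepth 100000
set_option Elab.async false

namespace Cfsg.Agent.Lib.HSR
open Cfsg.Agent.Lib.PermNet Cfsg.Agent.Lib.Words Cfsg.Agent.Lib.PermGroup Cfsg.Agent.Lib.Rk3Aut Cfsg.Agent.Lib.Rk3Emb
  Cfsg.Agent.Lib.Rk3PH Cfsg.Agent.Lib.Rk3Iso

theorem phb0 : (decide (100 ≤ 2 ^ 7 ∧ ¬ 7 ∣ 22 ∧ 22 < pcN phbR ∧ ¬ 22 ∣ 20160 ∧ 0 < 22) && (pcG phbP).all (lt 30) &&
    (pcG phbR).all (lt 30) && pcOK phbP && pcOK phbR && phbP.all (fun e => Nat.beq e.2.1 7) &&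
    phbR.all (fun e => Nat.beq e.2.1 2) && relsOnB nets 100 7 (pcR phbP) 0 7 && relsOnB nets 100 7 (pcR phbR) 0 7) = true := by decide +kernel

theorem phb1_0 : List.all (NW phbR) phbF = true := by decide +kernel

theorem phb2_0 : List.all phbS (spB nets 100 7 30 20160 (pcG phbP) phbL) = true := by decide +kernel

theorem phc0 : (decide (100 ≤ 2 ^ 7 ∧ ¬ 2 ∣ 77 ∧ 77 < pcN phcR ∧ ¬ 22 ∣ 5760 ∧ 0 < 22) && (pcG phcP).all (lt 30) &&
    (pcG phcR).all (lt 30) && pcOK phcP && pcOK phcR && phcP.all (fun e => Nat.beq e.2.1 2) &&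
    phcR.all (fun e => Nat.beq e.2.1 2) && relsOnB nets 100 7 (pcR phcP) 0 7 && relsOnB nets 100 7 (pcR phcR) 0 7) = true := by decide +kernel

theorem phc1_0 : List.all (NW phcR) phcF = true := by decide +kernel

theorem phc2_0 : List.all phcS (spB nets 100 7 30 5760 (pcG phcP) phcL) = true := by decide +kernel

theorem mod : (fixB nets hs (pt 0) && fixB nets hs (ivl 1 22) &&
    fixB nets hs (ivl (1 + 22) 77) && subB (ivl 1 22) (grow nets hs sb (pt 1)) &&
    subB (ivl (1 + 22) 77) (grow nets hs sc (pt (1 + 22)))) = true := by decide +kernel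

theorem fxb : ((ivl 1 22).testBit 1 && fixB nets Kb (pt 1) && unionB nets Kb 100 ol1 (ivl 1 22) fun q s =>
    !q.testBit 1 || Nat.beq q (pt 1) || !(Nat.ble (s * 0) 20160 && Nat.beq (20160 % s) 0)) = true := by decide +kernel

theorem fxc : ((ivl 23 77).testBit 24 && fixB nets Kc (pt 24) && unionB nets Kc 100 ol2 (ivl 23 77) fun q s =>
    !q.testBit 24 || Nat.beq q (pt 24) || !(Nat.ble (s * 0) 5760 && Nat.beq (5760 % s) 0)) = true := by decide +kernel

theorem fxd : ((ivl 1 22).testBit 13 && unionB nets Ld 100 ol3 (ivl 1 22) fun q s =>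
    !q.testBit 13 || Nat.beq q 532480 || !Nat.beq (5760 % s) 0) = true := by decide +kernel

theorem rw : rowsB nets 30 100 22 1 24 Kb Kc ol4 ol5 rwN (finB nets 31 22 1 24 rwA) = true := by decide +kernel

theorem ex : exec nets 100 31 (ivl 1 22) (fun l => sepB l 100) prog [ones 100] = true := by decide +kernel

theorem ex2 : exec nets 100 31 (ivl 1 22) (fun l => sepB l 100) prog2 [532480, pt 0, ones 100] = true := by decide +kernel

theorem ch0 : (List.all ls (lt 31) && levelB nets ls [] 0 [2, 0, 1, 2, 1, 0, 1, 2, 1, 0, 2, 1] 0 100 100) = true := by decide +kernel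

theorem ch1 : (List.all hs (lt 30) && levelB nets hs [0] 1 [0, 1, 0, 1, 0, 1, 0, 1] 1 22 22) = true := by decide +kernel

theorem ch2 : (List.all Kb (lt 30) && levelB nets Kb [1, 0] 2 [0, 1, 0, 1, 0, 1, 0, 0] 2 21 21) = true := by decide +kernel

theorem ch3 : (List.all ws5 (lt 30) && levelB nets ws5 [2, 1, 0] 3 [0, 1, 0, 1, 2, 0, 1] 3 20 20) = true := by decide +kernel

theorem ch4 : (List.all ws6 (lt 30) && levelB nets ws6 [3, 2, 1, 0] 4 [0, 1, 2, 2, 0, 2] 4 19 16) = true := by decide +kernel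

theorem ch5 : (List.all ws7 (lt 30) && levelB nets ws7 [4, 3, 2, 1, 0] 5 [0, 0] 5 13 3) = true := by decide +kernel

theorem sig : ∀ x < 100, ∀ w ∈ sigW[x]?.getD ([], []) :: [], lt 31 w.1 = true ∧ lt 31 w.2 = true ∧
    appW nets w.1 (pt 0) = pt x ∧ appW nets [62] (appW nets w.2 (pt 0)) = pt x ∧
    appW nets [62] (appW nets w.2 (ivl 1 22)) = appW nets w.1 (ivl 1 22) := by decide +kernel

theorem rels0_0 : RelsOn nets 100 7 rels0 0 7 :=
  relsOn_of_B _ _ _ _ _ 7 _ (by decide +kernel) (by decide +kernel)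

end Cfsg.Agent.Lib.HSR
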