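import Cfsg.Agent.Lib.PermNetDefs

set_option autoImplicit false
set_option maxRecDepth 100000

namespace Cfsg.Agent.Lib.HSR
open Cfsg.Agent.Lib.PermNet

noncomputable def m0_0 : Nat := (nat_lit 0x4100501044550041551501040)
noncomputable def m0_1 : Nat := (nat_lit 0x1131002011212331030020012)
noncomputable def m0_2 : Nat := (nat_lit 0x60700010d06000d090b0e02)
noncomputable def m0_3 : Nat := (nat_lit 0xd20088000e000f00410042)
noncomputable def m0_4 : Nat := (nat_lit 0x4287000054480000010f)
noncomputable def m0_5 : Nat := (nat_lit 0x6000000003251c7e1)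
noncomputable def m0_6 : Nat := (nat_lit 0xdfe51c7e0)
noncomputable def m0_7 : Nat := (nat_lit 0x8000000006e11c7e0)
noncomputable def m0_8 : Nat := (nat_lit 0xd0320000104900000001)
noncomputable def m0_9 : Nat := (nat_lit 0x81009b002100460001000c)
noncomputable def m0_10 : Nat := (nat_lit 0xa06080c0c060c050d020600)
noncomputable def m0_11 : Nat := (nat_lit 0x3122002021312022111222000)
noncomputable def m0_12 : Nat := (nat_lit 0x15544510540450500411040)
noncomputable def net0 : Net := (.cons (nat_lit 1) m0_0 (.cons (nat_lit 2) m0_1 (.cons (nat_lit 4) m0_2 (.cons (nat_lit 8) m0_3 (.cons (nat_lit 16) m0_4 (.cons (nat_lit 32) m0_5 (.cons (nat_lit 64) m0_6 (.cons (nat_lit 32) m0_7 (.cons (nat_lit 16) m0_8 (.cons (nat_lit 8) m0_9 (.cons (nat_lit 4) m0_10 (.cons (nat_lit 2) m0_11 (.cons (nat_lit 1) m0_12 .nil)))))))))))))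
theorem valid0 : net0.Valid 100 := valid_of_validB _ (by decide +kernel)
noncomputable def m1_0 : Nat := (nat_lit 0x1441450511014000014101050)
noncomputable def m1_1 : Nat := (nat_lit 0x2202013032223133121313022)
noncomputable def m1_2 : Nat := (nat_lit 0x9080a000e06080a0e0e0102)
noncomputable def m1_3 : Nat := (nat_lit 0x4d00ff000600be00af0018)
noncomputable def m1_4 : Nat := (nat_lit 0xb2190000d8b50000a54c)
noncomputable def m1_5 : Nat := (nat_lit 0xa000000006741db9c)
noncomputable def m1_6 : Nat := (nat_lit 0x137e3db9c)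
noncomputable def m1_7 : Nat := (nat_lit 0x4000000002561db90)
noncomputable def m1_8 : Nat := (nat_lit 0xf8f3000010ad0000000c)
noncomputable def m1_9 : Nat := (nat_lit 0x2900c0000a002200af0000)
noncomputable def m1_10 : Nat := (nat_lit 0x20e050102050e010d020000)
noncomputable def m1_11 : Nat := (nat_lit 0x1031123223001223000311220)
noncomputable def m1_12 : Nat := (nat_lit 0x5510000001410554010040)
noncomputable def net1 : Net := (.cons (nat_lit 1) m1_0 (.cons (nat_lit 2) m1_1 (.cons (nat_lit 4) m1_2 (.cons (nat_lit 8) m1_3 (.cons (nat_lit 16) m1_4 (.cons (nat_lit 32) m1_5 (.cons (nat_lit 64) m1_6 (.cons (nat_lit 32) m1_7 (.cons (nat_lit 16) m1_8 (.cons (nat_lit 8) m1_9 (.cons (nat_lit 4) m1_10 (.cons (nat_lit 2) m1_11 (.cons (nat_lit 1) m1_12 .nil)))))))))))))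
theorem valid1 : net1.Valid 100 := valid_of_validB _ (by decide +kernel)
noncomputable def m2_0 : Nat := (nat_lit 0x4450114544545511444500050)
noncomputable def m2_1 : Nat := (nat_lit 0x3321032023331231233300330)
noncomputable def m2_2 : Nat := (nat_lit 0xf020a0d0a03080a0b0204)
noncomputable def m2_3 : Nat := (nat_lit 0xa5009e00040083009e00e0)
noncomputable def m2_4 : Nat := (nat_lit 0x553a0000482100009604)
noncomputable def m2_5 : Nat := (nat_lit 0x600000000e62229b4)
noncomputable def m2_6 : Nat := (nat_lit 0xf87bb29b4)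
noncomputable def m2_7 : Nat := (nat_lit 0x900000000873229b0)
noncomputable def m2_8 : Nat := (nat_lit 0xa0b0000008800000004)
noncomputable def m2_9 : Nat := (nat_lit 0xf500ad0091000a009f0000)
noncomputable def m2_10 : Nat := (nat_lit 0x9070100020a0d06030f0900)
noncomputable def m2_11 : Nat := (nat_lit 0x3313010223211311230312010)
noncomputable def m2_12 : Nat := (nat_lit 0x5454114505504111454500010)
noncomputable def net2 : Net := (.cons (nat_lit 1) m2_0 (.cons (nat_lit 2) m2_1 (.cons (nat_lit 4) m2_2 (.cons (nat_lit 8) m2_3 (.cons (nat_lit 16) m2_4 (.cons (nat_lit 32) m2_5 (.cons (nat_lit 64) m2_6 (.cons (nat_lit 32) m2_7 (.cons (nat_lit 16) m2_8 (.cons (nat_lit 8) m2_9 (.cons (nat_lit 4) m2_10 (.cons (nat_lit 2) m2_11 (.cons (nat_lit 1) m2_12 .nil)))))))))))))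
theorem valid2 : net2.Valid 100 := valid_of_validB _ (by decide +kernel)
noncomputable def m3_0 : Nat := (nat_lit 0x5440041451101510445414550)
noncomputable def m3_1 : Nat := (nat_lit 0x2032113231021212121022300)
noncomputable def m3_2 : Nat := (nat_lit 0xe0804040108080101080e04)
noncomputable def m3_3 : Nat := (nat_lit 0x3600ec004b0077000200e0)
noncomputable def m3_4 : Nat := (nat_lit 0x7f1f00009c6e0000029c)
noncomputable def m3_5 : Nat := (nat_lit 0xf00000000fa5c8080)
noncomputable def m3_6 : Nat := (nat_lit 0x6f1e8080)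
noncomputable def m3_7 : Nat := (nat_lit 0xb1e8080)
noncomputable def m3_8 : Nat := (nat_lit 0x6f1f0000a14e00000000)
noncomputable def m3_9 : Nat := (nat_lit 0xa002200c2001400020000)
noncomputable def m3_10 : Nat := (nat_lit 0x70c0c040c00030400090400)
noncomputable def m3_11 : Nat := (nat_lit 0x1130012310032330330200100)
noncomputable def m3_12 : Nat := (nat_lit 0x4101041114044044504454450)
noncomputable def net3 : Net := (.cons (nat_lit 1) m3_0 (.cons (nat_lit 2) m3_1 (.cons (nat_lit 4) m3_2 (.cons (nat_lit 8) m3_3 (.cons (nat_lit 16) m3_4 (.cons (nat_lit 32) m3_5 (.cons (nat_lit 64) m3_6 (.cons (nat_lit 32) m3_7 (.cons (nat_lit 16) m3_8 (.cons (nat_lit 8) m3_9 (.cons (nat_lit 4) m3_10 (.cons (nat_lit 2) m3_11 (.cons (nat_lit 1) m3_12 .nil)))))))))))))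
theorem valid3 : net3.Valid 100 := valid_of_validB _ (by decide +kernel)
noncomputable def m4_0 : Nat := (nat_lit 0x500045011141441510541004)
noncomputable def m4_1 : Nat := (nat_lit 0x1203230322101333230132232)
noncomputable def m4_2 : Nat := (nat_lit 0x90f000b010605070a04070e)
noncomputable def m4_3 : Nat := (nat_lit 0xca009400d30018004b0046)
noncomputable def m4_4 : Nat := (nat_lit 0x94cb0000110d00004984)
noncomputable def m4_5 : Nat := (nat_lit 0xf0000000006516920)
noncomputable def m4_6 : Nat := (nat_lit 0x4824b6920)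
noncomputable def m4_7 : Nat := (nat_lit 0x400000000824b6920)
noncomputable def m4_8 : Nat := (nat_lit 0x6b240000800900000000)
noncomputable def m4_9 : Nat := (nat_lit 0x54000900900010004b0000)
noncomputable def m4_10 : Nat := (nat_lit 0x60a0a0a030a0d00020c0b00)
noncomputable def m4_11 : Nat := (nat_lit 0x3300030303020132000110200)
noncomputable def m4_12 : Nat := (nat_lit 0x4400511100114000510541404)
noncomputable def net4 : Net := (.cons (nat_lit 1) m4_0 (.cons (nat_lit 2) m4_1 (.cons (nat_lit 4) m4_2 (.cons (nat_lit 8) m4_3 (.cons (nat_lit 16) m4_4 (.cons (nat_lit 32) m4_5 (.cons (nat_lit 64) m4_6 (.cons (nat_lit 32) m4_7 (.cons (nat_lit 16) m4_8 (.cons (nat_lit 8) m4_9 (.cons (nat_lit 4) m4_10 (.cons (nat_lit 2) m4_11 (.cons (nat_lit 1) m4_12 .nil)))))))))))))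
theorem valid4 : net4.Valid 100 := valid_of_validB _ (by decide +kernel)
noncomputable def m5_0 : Nat := (nat_lit 0x1555540505040444500010054)
noncomputable def m5_1 : Nat := (nat_lit 0x3321333210320320212331330)
noncomputable def m5_2 : Nat := (nat_lit 0x30f06030706080e07060a02)
noncomputable def m5_3 : Nat := (nat_lit 0x5600680036009200a40072)
noncomputable def m5_4 : Nat := (nat_lit 0x92b80000cf490000a418)
noncomputable def m5_5 : Nat := (nat_lit 0x500000000233e98f0)
noncomputable def m5_6 : Nat := (nat_lit 0xf6bbc98f0)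
noncomputable def m5_7 : Nat := (nat_lit 0xa00000000601898f0)
noncomputable def m5_8 : Nat := (nat_lit 0x58c4000040a600000000)
noncomputable def m5_9 : Nat := (nat_lit 0x920030008d004900a60004)
noncomputable def m5_10 : Nat := (nat_lit 0xd0c03000b060c0f0f0e0900)
noncomputable def m5_11 : Nat := (nat_lit 0x2132030113313032310223110)
noncomputable def m5_12 : Nat := (nat_lit 0x1155150050105044410010544)
noncomputable def net5 : Net := (.cons (nat_lit 1) m5_0 (.cons (nat_lit 2) m5_1 (.cons (nat_lit 4) m5_2 (.cons (nat_lit 8) m5_3 (.cons (nat_lit 16) m5_4 (.cons (nat_lit 32) m5_5 (.cons (nat_lit 64) m5_6 (.cons (nat_lit 32) m5_7 (.cons (nat_lit 16) m5_8 (.cons (nat_lit 8) m5_9 (.cons (nat_lit 4) m5_10 (.cons (nat_lit 2) m5_11 (.cons (nat_lit 1) m5_12 .nil)))))))))))))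
theorem valid5 : net5.Valid 100 := valid_of_validB _ (by decide +kernel)
noncomputable def m6_0 : Nat := (nat_lit 0x5115040541441410154054410)
noncomputable def m6_1 : Nat := (nat_lit 0x102123232311111002230320)
noncomputable def m6_2 : Nat := (nat_lit 0x30c0e080801090a020c0800)
noncomputable def m6_3 : Nat := (nat_lit 0x1b00900086000d0060000c)
noncomputable def m6_4 : Nat := (nat_lit 0x45af0000905000004012)
noncomputable def m6_5 : Nat := (nat_lit 0xb00000000d7ef9040)
noncomputable def m6_6 : Nat := (nat_lit 0x41af9040)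
noncomputable def m6_7 : Nat := (nat_lit 0x41af9040)
noncomputable def m6_8 : Nat := (nat_lit 0x41af0000904000000000)
noncomputable def m6_9 : Nat := (nat_lit 0xb00100006000000400000)
noncomputable def m6_10 : Nat := (nat_lit 0x3000c0d0d01090802040800)
noncomputable def m6_11 : Nat := (nat_lit 0x202122301001111002230100)
noncomputable def m6_12 : Nat := (nat_lit 0x4415040541441410154054410)
noncomputable def net6 : Net := (.cons (nat_lit 1) m6_0 (.cons (nat_lit 2) m6_1 (.cons (nat_lit 4) m6_2 (.cons (nat_lit 8) m6_3 (.cons (nat_lit 16) m6_4 (.cons (nat_lit 32) m6_5 (.cons (nat_lit 64) m6_6 (.cons (nat_lit 32) m6_7 (.cons (nat_lit 16) m6_8 (.cons (nat_lit 8) m6_9 (.cons (nat_lit 4) m6_10 (.cons (nat_lit 2) m6_11 (.cons (nat_lit 1) m6_12 .nil)))))))))))))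
theorem valid6 : net6.Valid 100 := valid_of_validB _ (by decide +kernel)
noncomputable def m7_0 : Nat := (nat_lit 0x4415015544400401004104140)
noncomputable def m7_1 : Nat := (nat_lit 0x3023330331201202200101110)
noncomputable def m7_2 : Nat := (nat_lit 0xd050c08020c020308010d08)
noncomputable def m7_3 : Nat := (nat_lit 0x4007900660043008500d8)
noncomputable def m7_4 : Nat := (nat_lit 0xfa140000a19800000502)
noncomputable def m7_5 : Nat := (nat_lit 0x400000000b419e360)
noncomputable def m7_6 : Nat := (nat_lit 0xfac1de360)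
noncomputable def m7_7 : Nat := (nat_lit 0x400000000a419e360)
noncomputable def m7_8 : Nat := (nat_lit 0xb7d0000000800000000)
noncomputable def m7_9 : Nat := (nat_lit 0x4500290025000300050000)
noncomputable def m7_10 : Nat := (nat_lit 0xc0f0d09020d020208040500)
noncomputable def m7_11 : Nat := (nat_lit 0x3021110311001202000010000)
noncomputable def m7_12 : Nat := (nat_lit 0x4415015544400401004104140)
noncomputable def net7 : Net := (.cons (nat_lit 1) m7_0 (.cons (nat_lit 2) m7_1 (.cons (nat_lit 4) m7_2 (.cons (nat_lit 8) m7_3 (.cons (nat_lit 16) m7_4 (.cons (nat_lit 32) m7_5 (.cons (nat_lit 64) m7_6 (.cons (nat_lit 32) m7_7 (.cons (nat_lit 16) m7_8 (.cons (nat_lit 8) m7_9 (.cons (nat_lit 4) m7_10 (.cons (nat_lit 2) m7_11 (.cons (nat_lit 1) m7_12 .nil)))))))))))))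
theorem valid7 : net7.Valid 100 := valid_of_validB _ (by decide +kernel)
noncomputable def m8_0 : Nat := (nat_lit 0x5111501145054454504044454)
noncomputable def m8_1 : Nat := (nat_lit 0x1330322320110313230021002)
noncomputable def m8_2 : Nat := (nat_lit 0xd0e000e000b0e0409000504)
noncomputable def m8_3 : Nat := (nat_lit 0x8e0015006600d0008f000c)
noncomputable def m8_4 : Nat := (nat_lit 0xe5630000cf1000000b38)
noncomputable def m8_5 : Nat := (nat_lit 0x2000000002ec8d9e8)
noncomputable def m8_6 : Nat := (nat_lit 0xdce4fd9e0)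
noncomputable def m8_7 : Nat := (nat_lit 0x4000000000e4dd9e0)
noncomputable def m8_8 : Nat := (nat_lit 0x92220000608900000008)
noncomputable def m8_9 : Nat := (nat_lit 0x9f000300b3006e000f0002)
noncomputable def m8_10 : Nat := (nat_lit 0x9020b06090101040f020c00)
noncomputable def m8_11 : Nat := (nat_lit 0x2221210123113100222100330)
noncomputable def m8_12 : Nat := (nat_lit 0x4455000150444545450050000)
noncomputable def net8 : Net := (.cons (nat_lit 1) m8_0 (.cons (nat_lit 2) m8_1 (.cons (nat_lit 4) m8_2 (.cons (nat_lit 8) m8_3 (.cons (nat_lit 16) m8_4 (.cons (nat_lit 32) m8_5 (.cons (nat_lit 64) m8_6 (.cons (nat_lit 32) m8_7 (.cons (nat_lit 16) m8_8 (.cons (nat_lit 8) m8_9 (.cons (nat_lit 4) m8_10 (.cons (nat_lit 2) m8_11 (.cons (nat_lit 1) m8_12 .nil)))))))))))))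
theorem valid8 : net8.Valid 100 := valid_of_validB _ (by decide +kernel)
noncomputable def m9_0 : Nat := (nat_lit 0x4010404411544410001141454)
noncomputable def m9_1 : Nat := (nat_lit 0x1330103220313022120310110)
noncomputable def m9_2 : Nat := (nat_lit 0x6070102010e0f0404080700)
noncomputable def m9_3 : Nat := (nat_lit 0x4c00f50095003600b00034)
noncomputable def m9_4 : Nat := (nat_lit 0x9dd000006fde0000904e)
noncomputable def m9_5 : Nat := (nat_lit 0xd000000000d1b94d0)
noncomputable def m9_6 : Nat := (nat_lit 0x602b94d0)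
noncomputable def m9_7 : Nat := (nat_lit 0x602b94d0)
noncomputable def m9_8 : Nat := (nat_lit 0x60af0000250000000000)
noncomputable def m9_9 : Nat := (nat_lit 0x8300100078002000900000)
noncomputable def m9_10 : Nat := (nat_lit 0x10e0a0502040b00000c0100)
noncomputable def m9_11 : Nat := (nat_lit 0x330223003231023020310130)
noncomputable def m9_12 : Nat := (nat_lit 0x4040501544451401401041050)
noncomputable def net9 : Net := (.cons (nat_lit 1) m9_0 (.cons (nat_lit 2) m9_1 (.cons (nat_lit 4) m9_2 (.cons (nat_lit 8) m9_3 (.cons (nat_lit 16) m9_4 (.cons (nat_lit 32) m9_5 (.cons (nat_lit 64) m9_6 (.cons (nat_lit 32) m9_7 (.cons (nat_lit 16) m9_8 (.cons (nat_lit 8) m9_9 (.cons (nat_lit 4) m9_10 (.cons (nat_lit 2) m9_11 (.cons (nat_lit 1) m9_12 .nil)))))))))))))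
theorem valid9 : net9.Valid 100 := valid_of_validB _ (by decide +kernel)
noncomputable def m10_0 : Nat := (nat_lit 0x555111150050111000000550)
noncomputable def m10_1 : Nat := (nat_lit 0x221121101332322000310030)
noncomputable def m10_2 : Nat := (nat_lit 0x30b0e0e020b050d0b0c0604)
noncomputable def m10_3 : Nat := (nat_lit 0x4f00db00c400c800510064)
noncomputable def m10_4 : Nat := (nat_lit 0x7d6600007b7d0000500c)
noncomputable def m10_5 : Nat := (nat_lit 0x900000000fb6bff60)
noncomputable def m10_6 : Nat := (nat_lit 0x7712aff60)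
noncomputable def m10_7 : Nat := (nat_lit 0x200000000712aff60)
noncomputable def m10_8 : Nat := (nat_lit 0x84010000824f00000000)
noncomputable def m10_9 : Nat := (nat_lit 0x47009b000c00c000510000)
noncomputable def m10_10 : Nat := (nat_lit 0xb0b0e060a03050503080200)
noncomputable def m10_11 : Nat := (nat_lit 0x321120101322322000310300)
noncomputable def m10_12 : Nat := (nat_lit 0x1155111150010111000000000)
noncomputable def net10 : Net := (.cons (nat_lit 1) m10_0 (.cons (nat_lit 2) m10_1 (.cons (nat_lit 4) m10_2 (.cons (nat_lit 8) m10_3 (.cons (nat_lit 16) m10_4 (.cons (nat_lit 32) m10_5 (.cons (nat_lit 64) m10_6 (.cons (nat_lit 32) m10_7 (.cons (nat_lit 16) m10_8 (.cons (nat_lit 8) m10_9 (.cons (nat_lit 4) m10_10 (.cons (nat_lit 2) m10_11 (.cons (nat_lit 1) m10_12 .nil)))))))))))))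
theorem valid10 : net10.Valid 100 := valid_of_validB _ (by decide +kernel)
noncomputable def m11_0 : Nat := (nat_lit 0x5501041051014005404014410)
noncomputable def m11_1 : Nat := (nat_lit 0x1203120101301123300000010)
noncomputable def m11_2 : Nat := (nat_lit 0xd0606090907000f01070a0c)
noncomputable def m11_3 : Nat := (nat_lit 0x790098007700b7000500b8)
noncomputable def m11_4 : Nat := (nat_lit 0x303e0000bc7200000500)
noncomputable def m11_5 : Nat := (nat_lit 0x562ca350)
noncomputable def m11_6 : Nat := (nat_lit 0xbdea9a350)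
noncomputable def m11_7 : Nat := (nat_lit 0x5628a350)
noncomputable def m11_8 : Nat := (nat_lit 0x4480000800200000000)
noncomputable def m11_9 : Nat := (nat_lit 0x900e90006000700050000)
noncomputable def m11_10 : Nat := (nat_lit 0x90602090903000b01050200)
noncomputable def m11_11 : Nat := (nat_lit 0x1203121001301122300000010)
noncomputable def m11_12 : Nat := (nat_lit 0x5501041051014005404014410)
noncomputable def net11 : Net := (.cons (nat_lit 1) m11_0 (.cons (nat_lit 2) m11_1 (.cons (nat_lit 4) m11_2 (.cons (nat_lit 8) m11_3 (.cons (nat_lit 16) m11_4 (.cons (nat_lit 32) m11_5 (.cons (nat_lit 64) m11_6 (.cons (nat_lit 32) m11_7 (.cons (nat_lit 16) m11_8 (.cons (nat_lit 8) m11_9 (.cons (nat_lit 4) m11_10 (.cons (nat_lit 2) m11_11 (.cons (nat_lit 1) m11_12 .nil)))))))))))))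
theorem valid11 : net11.Valid 100 := valid_of_validB _ (by decide +kernel)
noncomputable def m12_0 : Nat := (nat_lit 0x1151141045154410141505410)
noncomputable def m12_1 : Nat := (nat_lit 0x113033312303320021231112)
noncomputable def m12_2 : Nat := (nat_lit 0xd090e090d0c08060600010a)
noncomputable def m12_3 : Nat := (nat_lit 0xc100fb009600440018008c)
noncomputable def m12_4 : Nat := (nat_lit 0xffa20000b0060000188e)
noncomputable def m12_5 : Nat := (nat_lit 0x2000000003c1bace0)
noncomputable def m12_6 : Nat := (nat_lit 0x79f4bace8)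
noncomputable def m12_7 : Nat := (nat_lit 0x800000000994bace0)
noncomputable def m12_8 : Nat := (nat_lit 0x82280000010100000008)
noncomputable def m12_9 : Nat := (nat_lit 0x5000200012001c00180002)
noncomputable def m12_10 : Nat := (nat_lit 0x6000f0a000d0204040a0200)
noncomputable def m12_11 : Nat := (nat_lit 0x323311201320221300003200)
noncomputable def m12_12 : Nat := (nat_lit 0x4155544505505545404400050)
noncomputable def net12 : Net := (.cons (nat_lit 1) m12_0 (.cons (nat_lit 2) m12_1 (.cons (nat_lit 4) m12_2 (.cons (nat_lit 8) m12_3 (.cons (nat_lit 16) m12_4 (.cons (nat_lit 32) m12_5 (.cons (nat_lit 64) m12_6 (.cons (nat_lit 32) m12_7 (.cons (nat_lit 16) m12_8 (.cons (nat_lit 8) m12_9 (.cons (nat_lit 4) m12_10 (.cons (nat_lit 2) m12_11 (.cons (nat_lit 1) m12_12 .nil)))))))))))))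
theorem valid12 : net12.Valid 100 := valid_of_validB _ (by decide +kernel)
noncomputable def m13_0 : Nat := (nat_lit 0x14055114045400405410500)
noncomputable def m13_1 : Nat := (nat_lit 0x223330232112132220230020)
noncomputable def m13_2 : Nat := (nat_lit 0x50d0909050b060f0b0c08)
noncomputable def m13_3 : Nat := (nat_lit 0x38001f00f700b100c00048)
noncomputable def m13_4 : Nat := (nat_lit 0xbaf7000064280000801c)
noncomputable def m13_5 : Nat := (nat_lit 0x500000000a50e4af0)
noncomputable def m13_6 : Nat := (nat_lit 0xbbf8e4af0)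
noncomputable def m13_7 : Nat := (nat_lit 0x800000000a50e4af0)
noncomputable def m13_8 : Nat := (nat_lit 0x1ac30000000000000000)
noncomputable def m13_9 : Nat := (nat_lit 0x14003e0041009900800008)
noncomputable def m13_10 : Nat := (nat_lit 0x8050d0109090e0604010400)
noncomputable def m13_11 : Nat := (nat_lit 0x1222333212313122200230020)
noncomputable def m13_12 : Nat := (nat_lit 0x4104044154400000414410400)
noncomputable def net13 : Net := (.cons (nat_lit 1) m13_0 (.cons (nat_lit 2) m13_1 (.cons (nat_lit 4) m13_2 (.cons (nat_lit 8) m13_3 (.cons (nat_lit 16) m13_4 (.cons (nat_lit 32) m13_5 (.cons (nat_lit 64) m13_6 (.cons (nat_lit 32) m13_7 (.cons (nat_lit 16) m13_8 (.cons (nat_lit 8) m13_9 (.cons (nat_lit 4) m13_10 (.cons (nat_lit 2) m13_11 (.cons (nat_lit 1) m13_12 .nil)))))))))))))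
theorem valid13 : net13.Valid 100 := valid_of_validB _ (by decide +kernel)
noncomputable def m14_0 : Nat := (nat_lit 0x500041451505051104504104)
noncomputable def m14_1 : Nat := (nat_lit 0x3121131331101021330233030)
noncomputable def m14_2 : Nat := (nat_lit 0x30b00060d0f0404040e0604)
noncomputable def m14_3 : Nat := (nat_lit 0x1a00b700de003e002000c6)
noncomputable def m14_4 : Nat := (nat_lit 0x553f0000fe9d000020d8)
noncomputable def m14_5 : Nat := (nat_lit 0xf00000000930d8a00)
noncomputable def m14_6 : Nat := (nat_lit 0x552d8a00)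
noncomputable def m14_7 : Nat := (nat_lit 0x44298a00)
noncomputable def m14_8 : Nat := (nat_lit 0x552f0000d00500000000)
noncomputable def m14_9 : Nat := (nat_lit 0x700b40006009200200000)
noncomputable def m14_10 : Nat := (nat_lit 0xd09040c0e06000c040d0200)
noncomputable def m14_11 : Nat := (nat_lit 0x2210010311020000120223000)
noncomputable def m14_12 : Nat := (nat_lit 0x4450044111501015510504000)
noncomputable def net14 : Net := (.cons (nat_lit 1) m14_0 (.cons (nat_lit 2) m14_1 (.cons (nat_lit 4) m14_2 (.cons (nat_lit 8) m14_3 (.cons (nat_lit 16) m14_4 (.cons (nat_lit 32) m14_5 (.cons (nat_lit 64) m14_6 (.cons (nat_lit 32) m14_7 (.cons (nat_lit 16) m14_8 (.cons (nat_lit 8) m14_9 (.cons (nat_lit 4) m14_10 (.cons (nat_lit 2) m14_11 (.cons (nat_lit 1) m14_12 .nil)))))))))))))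
theorem valid14 : net14.Valid 100 := valid_of_validB _ (by decide +kernel)
noncomputable def m15_0 : Nat := (nat_lit 0x4440455400400104110000504)
noncomputable def m15_1 : Nat := (nat_lit 0x1121012203321111210113200)
noncomputable def m15_2 : Nat := (nat_lit 0xa0c01060302010c04030000)
noncomputable def m15_3 : Nat := (nat_lit 0x9b001b005800fc004b0080)
noncomputable def m15_4 : Nat := (nat_lit 0xcf460000446a00004b30)
noncomputable def m15_5 : Nat := (nat_lit 0xf000000006b8d1090)
noncomputable def m15_6 : Nat := (nat_lit 0x8cf461090)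
noncomputable def m15_7 : Nat := (nat_lit 0x8000000004b041090)
noncomputable def m15_8 : Nat := (nat_lit 0xcf460000000c00000000)
noncomputable def m15_9 : Nat := (nat_lit 0x20047004000a8004b0000)
noncomputable def m15_10 : Nat := (nat_lit 0x20405020706050000030000)
noncomputable def m15_11 : Nat := (nat_lit 0x1121012203321111210113200)
noncomputable def m15_12 : Nat := (nat_lit 0x4400455400400104110000500)
noncomputable def net15 : Net := (.cons (nat_lit 1) m15_0 (.cons (nat_lit 2) m15_1 (.cons (nat_lit 4) m15_2 (.cons (nat_lit 8) m15_3 (.cons (nat_lit 16) m15_4 (.cons (nat_lit 32) m15_5 (.cons (nat_lit 64) m15_6 (.cons (nat_lit 32) m15_7 (.cons (nat_lit 16) m15_8 (.cons (nat_lit 8) m15_9 (.cons (nat_lit 4) m15_10 (.cons (nat_lit 2) m15_11 (.cons (nat_lit 1) m15_12 .nil)))))))))))))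
theorem valid15 : net15.Valid 100 := valid_of_validB _ (by decide +kernel)
noncomputable def m16_0 : Nat := (nat_lit 0x541110150045050405401544)
noncomputable def m16_1 : Nat := (nat_lit 0x30031301133132332102000)
noncomputable def m16_2 : Nat := (nat_lit 0x705040905070506080b0004)
noncomputable def m16_3 : Nat := (nat_lit 0xc8000b00f800f800150008)
noncomputable def m16_4 : Nat := (nat_lit 0xdf360000d39800001460)
noncomputable def m16_5 : Nat := (nat_lit 0x300000000b80a4ff0)
noncomputable def m16_6 : Nat := (nat_lit 0xef81e4ff0)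
noncomputable def m16_7 : Nat := (nat_lit 0xf00a4ff0)
noncomputable def m16_8 : Nat := (nat_lit 0x42560000000400000000)
noncomputable def m16_9 : Nat := (nat_lit 0x91006a00a2004c00140004)
noncomputable def m16_10 : Nat := (nat_lit 0x10905090c0e060900050000)
noncomputable def m16_11 : Nat := (nat_lit 0x1100112101333013331100000)
noncomputable def m16_12 : Nat := (nat_lit 0x4400104050400104115400410)
noncomputable def net16 : Net := (.cons (nat_lit 1) m16_0 (.cons (nat_lit 2) m16_1 (.cons (nat_lit 4) m16_2 (.cons (nat_lit 8) m16_3 (.cons (nat_lit 16) m16_4 (.cons (nat_lit 32) m16_5 (.cons (nat_lit 64) m16_6 (.cons (nat_lit 32) m16_7 (.cons (nat_lit 16) m16_8 (.cons (nat_lit 8) m16_9 (.cons (nat_lit 4) m16_10 (.cons (nat_lit 2) m16_11 (.cons (nat_lit 1) m16_12 .nil)))))))))))))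
theorem valid16 : net16.Valid 100 := valid_of_validB _ (by decide +kernel)
noncomputable def m17_0 : Nat := (nat_lit 0x1441504015115455544545040)
noncomputable def m17_1 : Nat := (nat_lit 0x221130322132211010332100)
noncomputable def m17_2 : Nat := (nat_lit 0x80b020e040a030a030e010c)
noncomputable def m17_3 : Nat := (nat_lit 0xa80097006500c8000500c2)
noncomputable def m17_4 : Nat := (nat_lit 0x7f2d000071ca0000054a)
noncomputable def m17_5 : Nat := (nat_lit 0xb00000000d47c80d0)
noncomputable def m17_6 : Nat := (nat_lit 0x2e6d80d0)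
noncomputable def m17_7 : Nat := (nat_lit 0x46980d0)
noncomputable def m17_8 : Nat := (nat_lit 0x80900000900c00000000)
noncomputable def m17_9 : Nat := (nat_lit 0x930041006700ac00050002)
noncomputable def m17_10 : Nat := (nat_lit 0xb0202070208070403020000)
noncomputable def m17_11 : Nat := (nat_lit 0x2302301202020212200303030)
noncomputable def m17_12 : Nat := (nat_lit 0x5544015051400001554400)
noncomputable def net17 : Net := (.cons (nat_lit 1) m17_0 (.cons (nat_lit 2) m17_1 (.cons (nat_lit 4) m17_2 (.cons (nat_lit 8) m17_3 (.cons (nat_lit 16) m17_4 (.cons (nat_lit 32) m17_5 (.cons (nat_lit 64) m17_6 (.cons (nat_lit 32) m17_7 (.cons (nat_lit 16) m17_8 (.cons (nat_lit 8) m17_9 (.cons (nat_lit 4) m17_10 (.cons (nat_lit 2) m17_11 (.cons (nat_lit 1) m17_12 .nil)))))))))))))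
theorem valid17 : net17.Valid 100 := valid_of_validB _ (by decide +kernel)
noncomputable def m18_0 : Nat := (nat_lit 0x1401005011441004410054000)
noncomputable def m18_1 : Nat := (nat_lit 0x232301210030221201030120)
noncomputable def m18_2 : Nat := (nat_lit 0x70c01000e0c070a0b030108)
noncomputable def m18_3 : Nat := (nat_lit 0x2400840075001c008b0070)
noncomputable def m18_4 : Nat := (nat_lit 0xc99c0000dd090000090f)
noncomputable def m18_5 : Nat := (nat_lit 0x100000000560dd0f0)
noncomputable def m18_6 : Nat := (nat_lit 0xce28dd0fb)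
noncomputable def m18_7 : Nat := (nat_lit 0x200000000420dd0f0)
noncomputable def m18_8 : Nat := (nat_lit 0x80c5000094090000000b)
noncomputable def m18_9 : Nat := (nat_lit 0x2000040011001c000b0000)
noncomputable def m18_10 : Nat := (nat_lit 0x70d05010a08050f0b010100)
noncomputable def m18_11 : Nat := (nat_lit 0x232201330030220320030120)
noncomputable def m18_12 : Nat := (nat_lit 0x400005051441014400054000)
noncomputable def net18 : Net := (.cons (nat_lit 1) m18_0 (.cons (nat_lit 2) m18_1 (.cons (nat_lit 4) m18_2 (.cons (nat_lit 8) m18_3 (.cons (nat_lit 16) m18_4 (.cons (nat_lit 32) m18_5 (.cons (nat_lit 64) m18_6 (.cons (nat_lit 32) m18_7 (.cons (nat_lit 16) m18_8 (.cons (nat_lit 8) m18_9 (.cons (nat_lit 4) m18_10 (.cons (nat_lit 2) m18_11 (.cons (nat_lit 1) m18_12 .nil)))))))))))))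
theorem valid18 : net18.Valid 100 := valid_of_validB _ (by decide +kernel)
noncomputable def m19_0 : Nat := (nat_lit 0x1140005410041014500045410)
noncomputable def m19_1 : Nat := (nat_lit 0x1130020030220013100222010)
noncomputable def m19_2 : Nat := (nat_lit 0xa060204040e08030b03050c)
noncomputable def m19_3 : Nat := (nat_lit 0x1400ba00dc001c00870088)
noncomputable def m19_4 : Nat := (nat_lit 0xfc68000092890000813e)
noncomputable def m19_5 : Nat := (nat_lit 0x600000000c33da9c0)
noncomputable def m19_6 : Nat := (nat_lit 0x8f9bda9c6)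
noncomputable def m19_7 : Nat := (nat_lit 0x600000000d13ca9c0)
noncomputable def m19_8 : Nat := (nat_lit 0x286d0000128900000006)
noncomputable def m19_9 : Nat := (nat_lit 0x10003c0018001800870000)
noncomputable def m19_10 : Nat := (nat_lit 0xe050605000a08000a0b0900)
noncomputable def m19_11 : Nat := (nat_lit 0x1130020030200013100222010)
noncomputable def m19_12 : Nat := (nat_lit 0x1140005410041014500045410)
noncomputable def net19 : Net := (.cons (nat_lit 1) m19_0 (.cons (nat_lit 2) m19_1 (.cons (nat_lit 4) m19_2 (.cons (nat_lit 8) m19_3 (.cons (nat_lit 16) m19_4 (.cons (nat_lit 32) m19_5 (.cons (nat_lit 64) m19_6 (.cons (nat_lit 32) m19_7 (.cons (nat_lit 16) m19_8 (.cons (nat_lit 8) m19_9 (.cons (nat_lit 4) m19_10 (.cons (nat_lit 2) m19_11 (.cons (nat_lit 1) m19_12 .nil)))))))))))))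
theorem valid19 : net19.Valid 100 := valid_of_validB _ (by decide +kernel)
noncomputable def m20_0 : Nat := (nat_lit 0x1555051040051055411151140)
noncomputable def m20_1 : Nat := (nat_lit 0x2031002033200201030010020)
noncomputable def m20_2 : Nat := (nat_lit 0x5020900050d0d0308080508)
noncomputable def m20_3 : Nat := (nat_lit 0x8d001a00fd00bd008b0034)
noncomputable def m20_4 : Nat := (nat_lit 0x240000d61f00008300)
noncomputable def m20_5 : Nat := (nat_lit 0x4000000006ca90000)
noncomputable def m20_6 : Nat := (nat_lit 0x200000)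
noncomputable def m20_7 : Nat := (nat_lit 0x200000)
noncomputable def m20_8 : Nat := (nat_lit 0x2400004c0100000000)
noncomputable def m20_9 : Nat := (nat_lit 0x40000002c008500830000)
noncomputable def m20_10 : Nat := (nat_lit 0x50003000d050d0b00080500)
noncomputable def m20_11 : Nat := (nat_lit 0x20020003200200030010020)
noncomputable def m20_12 : Nat := (nat_lit 0x1555051040051055411051140)
noncomputable def net20 : Net := (.cons (nat_lit 1) m20_0 (.cons (nat_lit 2) m20_1 (.cons (nat_lit 4) m20_2 (.cons (nat_lit 8) m20_3 (.cons (nat_lit 16) m20_4 (.cons (nat_lit 32) m20_5 (.cons (nat_lit 64) m20_6 (.cons (nat_lit 32) m20_7 (.cons (nat_lit 16) m20_8 (.cons (nat_lit 8) m20_9 (.cons (nat_lit 4) m20_10 (.cons (nat_lit 2) m20_11 (.cons (nat_lit 1) m20_12 .nil)))))))))))))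
theorem valid20 : net20.Valid 100 := valid_of_validB _ (by decide +kernel)
noncomputable def m21_0 : Nat := (nat_lit 0x4150410545445455000140144)
noncomputable def m21_1 : Nat := (nat_lit 0x1121212231222123222032200)
noncomputable def m21_2 : Nat := (nat_lit 0x6020f0b0801090300040b08)
noncomputable def m21_3 : Nat := (nat_lit 0xce009900db000600620096)
noncomputable def m21_4 : Nat := (nat_lit 0x58510000e8a000006012)
noncomputable def m21_5 : Nat := (nat_lit 0x300000000d1af8652)
noncomputable def m21_6 : Nat := (nat_lit 0xcddef8652)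
noncomputable def m21_7 : Nat := (nat_lit 0x418f8650)
noncomputable def m21_8 : Nat := (nat_lit 0x40b40000006700000002)
noncomputable def m21_9 : Nat := (nat_lit 0x7c0019008f003200620000)
noncomputable def m21_10 : Nat := (nat_lit 0xb000b060604040902000b00)
noncomputable def m21_11 : Nat := (nat_lit 0x1103033320212321000013210)
noncomputable def m21_12 : Nat := (nat_lit 0x1454451140414440000040410)
noncomputable def net21 : Net := (.cons (nat_lit 1) m21_0 (.cons (nat_lit 2) m21_1 (.cons (nat_lit 4) m21_2 (.cons (nat_lit 8) m21_3 (.cons (nat_lit 16) m21_4 (.cons (nat_lit 32) m21_5 (.cons (nat_lit 64) m21_6 (.cons (nat_lit 32) m21_7 (.cons (nat_lit 16) m21_8 (.cons (nat_lit 8) m21_9 (.cons (nat_lit 4) m21_10 (.cons (nat_lit 2) m21_11 (.cons (nat_lit 1) m21_12 .nil)))))))))))))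
theorem valid21 : net21.Valid 100 := valid_of_validB _ (by decide +kernel)
noncomputable def m22_0 : Nat := (nat_lit 0x4040501544451401401041050)
noncomputable def m22_1 : Nat := (nat_lit 0x330223003231223020310130)
noncomputable def m22_2 : Nat := (nat_lit 0x30e0e0106000f04050c0100)
noncomputable def m22_3 : Nat := (nat_lit 0xf10027000b000400a40034)
noncomputable def m22_4 : Nat := (nat_lit 0x2c6d000047e20000845a)
noncomputable def m22_5 : Nat := (nat_lit 0xd000000007dacd310)
noncomputable def m22_6 : Nat := (nat_lit 0x24acd310)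
noncomputable def m22_7 : Nat := (nat_lit 0x488d310)
noncomputable def m22_8 : Nat := (nat_lit 0xd3100000592c00000000)
noncomputable def m22_9 : Nat := (nat_lit 0x6b008700e4004400840000)
noncomputable def m22_10 : Nat := (nat_lit 0x2030100050a0a0000080700)
noncomputable def m22_11 : Nat := (nat_lit 0x1330103220113022120310110)
noncomputable def m22_12 : Nat := (nat_lit 0x4010404411544410001141454)
noncomputable def net22 : Net := (.cons (nat_lit 1) m22_0 (.cons (nat_lit 2) m22_1 (.cons (nat_lit 4) m22_2 (.cons (nat_lit 8) m22_3 (.cons (nat_lit 16) m22_4 (.cons (nat_lit 32) m22_5 (.cons (nat_lit 64) m22_6 (.cons (nat_lit 32) m22_7 (.cons (nat_lit 16) m22_8 (.cons (nat_lit 8) m22_9 (.cons (nat_lit 4) m22_10 (.cons (nat_lit 2) m22_11 (.cons (nat_lit 1) m22_12 .nil)))))))))))))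
theorem valid22 : net22.Valid 100 := valid_of_validB _ (by decide +kernel)
noncomputable def m23_0 : Nat := (nat_lit 0x555111150050111000000550)
noncomputable def m23_1 : Nat := (nat_lit 0x221121101332322000310030)
noncomputable def m23_2 : Nat := (nat_lit 0x30b0e0e020b050d0b0c0604)
noncomputable def m23_3 : Nat := (nat_lit 0x4f00db00c400c800510064)
noncomputable def m23_4 : Nat := (nat_lit 0x7d6600007b7d0000500c)
noncomputable def m23_5 : Nat := (nat_lit 0x900000000fb6bff60)
noncomputable def m23_6 : Nat := (nat_lit 0x7712aff60)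
noncomputable def m23_7 : Nat := (nat_lit 0x200000000712aff60)
noncomputable def m23_8 : Nat := (nat_lit 0x84010000824f00000000)
noncomputable def m23_9 : Nat := (nat_lit 0x47009b000c00c000510000)
noncomputable def m23_10 : Nat := (nat_lit 0xb0b0e060a03050503080200)
noncomputable def m23_11 : Nat := (nat_lit 0x321120101322322000310300)
noncomputable def m23_12 : Nat := (nat_lit 0x1155111150010111000000000)
noncomputable def net23 : Net := (.cons (nat_lit 1) m23_0 (.cons (nat_lit 2) m23_1 (.cons (nat_lit 4) m23_2 (.cons (nat_lit 8) m23_3 (.cons (nat_lit 16) m23_4 (.cons (nat_lit 32) m23_5 (.cons (nat_lit 64) m23_6 (.cons (nat_lit 32) m23_7 (.cons (nat_lit 16) m23_8 (.cons (nat_lit 8) m23_9 (.cons (nat_lit 4) m23_10 (.cons (nat_lit 2) m23_11 (.cons (nat_lit 1) m23_12 .nil)))))))))))))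
theorem valid23 : net23.Valid 100 := valid_of_validB _ (by decide +kernel)
noncomputable def m24_0 : Nat := (nat_lit 0x5501041051014005404014410)
noncomputable def m24_1 : Nat := (nat_lit 0x1203120101301123300000010)
noncomputable def m24_2 : Nat := (nat_lit 0xd0606090907000f01070a0c)
noncomputable def m24_3 : Nat := (nat_lit 0x790098007700b7000500b8)
noncomputable def m24_4 : Nat := (nat_lit 0x303e0000bc7200000500)
noncomputable def m24_5 : Nat := (nat_lit 0x562ca350)
noncomputable def m24_6 : Nat := (nat_lit 0xbdea9a350)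
noncomputable def m24_7 : Nat := (nat_lit 0x5628a350)
noncomputable def m24_8 : Nat := (nat_lit 0x4480000800200000000)
noncomputable def m24_9 : Nat := (nat_lit 0x900e90006000700050000)
noncomputable def m24_10 : Nat := (nat_lit 0x90602090903000b01050200)
noncomputable def m24_11 : Nat := (nat_lit 0x1203121001301122300000010)
noncomputable def m24_12 : Nat := (nat_lit 0x5501041051014005404014410)
noncomputable def net24 : Net := (.cons (nat_lit 1) m24_0 (.cons (nat_lit 2) m24_1 (.cons (nat_lit 4) m24_2 (.cons (nat_lit 8) m24_3 (.cons (nat_lit 16) m24_4 (.cons (nat_lit 32) m24_5 (.cons (nat_lit 64) m24_6 (.cons (nat_lit 32) m24_7 (.cons (nat_lit 16) m24_8 (.cons (nat_lit 8) m24_9 (.cons (nat_lit 4) m24_10 (.cons (nat_lit 2) m24_11 (.cons (nat_lit 1) m24_12 .nil)))))))))))))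
theorem valid24 : net24.Valid 100 := valid_of_validB _ (by decide +kernel)
noncomputable def m25_0 : Nat := (nat_lit 0x5454110040014155554401114)
noncomputable def m25_1 : Nat := (nat_lit 0x2020202201121323020000300)
noncomputable def m25_2 : Nat := (nat_lit 0x101050f0d040e0e070a0700)
noncomputable def m25_3 : Nat := (nat_lit 0x4200a30068000600d900f4)
noncomputable def m25_4 : Nat := (nat_lit 0xb1a30000b37e0000910b)
noncomputable def m25_5 : Nat := (nat_lit 0x10000000004b3f549)
noncomputable def m25_6 : Nat := (nat_lit 0xa66e3f549)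
noncomputable def m25_7 : Nat := (nat_lit 0x1000000000663f540)
noncomputable def m25_8 : Nat := (nat_lit 0xa2880000401300000009)
noncomputable def m25_9 : Nat := (nat_lit 0xa200020009002200990000)
noncomputable def m25_10 : Nat := (nat_lit 0x50206010000040201030000)
noncomputable def m25_11 : Nat := (nat_lit 0x3203322210333002311231200)
noncomputable def m25_12 : Nat := (nat_lit 0x4055541410015010150400100)
noncomputable def net25 : Net := (.cons (nat_lit 1) m25_0 (.cons (nat_lit 2) m25_1 (.cons (nat_lit 4) m25_2 (.cons (nat_lit 8) m25_3 (.cons (nat_lit 16) m25_4 (.cons (nat_lit 32) m25_5 (.cons (nat_lit 64) m25_6 (.cons (nat_lit 32) m25_7 (.cons (nat_lit 16) m25_8 (.cons (nat_lit 8) m25_9 (.cons (nat_lit 4) m25_10 (.cons (nat_lit 2) m25_11 (.cons (nat_lit 1) m25_12 .nil)))))))))))))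
theorem valid25 : net25.Valid 100 := valid_of_validB _ (by decide +kernel)
noncomputable def m26_0 : Nat := (nat_lit 0x5444451510051115415105040)
noncomputable def m26_1 : Nat := (nat_lit 0x1002320020010230030302120)
noncomputable def m26_2 : Nat := (nat_lit 0x7080c090201040100050008)
noncomputable def m26_3 : Nat := (nat_lit 0x1f00270003005f003f00a0)
noncomputable def m26_4 : Nat := (nat_lit 0xe7300008e5b00001c46)
noncomputable def m26_5 : Nat := (nat_lit 0x800000000b8164036)
noncomputable def m26_6 : Nat := (nat_lit 0xff83f4036)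
noncomputable def m26_7 : Nat := (nat_lit 0x800000000d8374030)
noncomputable def m26_8 : Nat := (nat_lit 0x80210000200200000006)
noncomputable def m26_9 : Nat := (nat_lit 0x7000840083000f001f0000)
noncomputable def m26_10 : Nat := (nat_lit 0x9030f0a0b0b030604080600)
noncomputable def m26_11 : Nat := (nat_lit 0x1233110032031301332300000)
noncomputable def m26_12 : Nat := (nat_lit 0x4151014155140405414045440)
noncomputable def net26 : Net := (.cons (nat_lit 1) m26_0 (.cons (nat_lit 2) m26_1 (.cons (nat_lit 4) m26_2 (.cons (nat_lit 8) m26_3 (.cons (nat_lit 16) m26_4 (.cons (nat_lit 32) m26_5 (.cons (nat_lit 64) m26_6 (.cons (nat_lit 32) m26_7 (.cons (nat_lit 16) m26_8 (.cons (nat_lit 8) m26_9 (.cons (nat_lit 4) m26_10 (.cons (nat_lit 2) m26_11 (.cons (nat_lit 1) m26_12 .nil)))))))))))))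
theorem valid26 : net26.Valid 100 := valid_of_validB _ (by decide +kernel)
noncomputable def m27_0 : Nat := (nat_lit 0x5145040404454040055445110)
noncomputable def m27_1 : Nat := (nat_lit 0x3231332311212202201022310)
noncomputable def m27_2 : Nat := (nat_lit 0xb0e0703020d000909020e08)
noncomputable def m27_3 : Nat := (nat_lit 0x8200400059005d00e0003a)
noncomputable def m27_4 : Nat := (nat_lit 0xe2660000f0ef0000a002)
noncomputable def m27_5 : Nat := (nat_lit 0x6000000004c653fc0)
noncomputable def m27_6 : Nat := (nat_lit 0xb57a53fc0)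
noncomputable def m27_7 : Nat := (nat_lit 0x10000000043253fc0)
noncomputable def m27_8 : Nat := (nat_lit 0x7b8400001c8b00000000)
noncomputable def m27_9 : Nat := (nat_lit 0x6e009a0039000800a00002)
noncomputable def m27_10 : Nat := (nat_lit 0x7060a05040e070e04080000)
noncomputable def m27_11 : Nat := (nat_lit 0x1303323101001201201222000)
noncomputable def m27_12 : Nat := (nat_lit 0x4555140500000040411404140)
noncomputable def net27 : Net := (.cons (nat_lit 1) m27_0 (.cons (nat_lit 2) m27_1 (.cons (nat_lit 4) m27_2 (.cons (nat_lit 8) m27_3 (.cons (nat_lit 16) m27_4 (.cons (nat_lit 32) m27_5 (.cons (nat_lit 64) m27_6 (.cons (nat_lit 32) m27_7 (.cons (nat_lit 16) m27_8 (.cons (nat_lit 8) m27_9 (.cons (nat_lit 4) m27_10 (.cons (nat_lit 2) m27_11 (.cons (nat_lit 1) m27_12 .nil)))))))))))))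
theorem valid27 : net27.Valid 100 := valid_of_validB _ (by decide +kernel)
noncomputable def m28_0 : Nat := (nat_lit 0x405410040144401401144100)
noncomputable def m28_1 : Nat := (nat_lit 0x3213102103131112023301130)
noncomputable def m28_2 : Nat := (nat_lit 0xf000a08010c0a0c0b020b08)
noncomputable def m28_3 : Nat := (nat_lit 0x7d000200a000b9008f0068)
noncomputable def m28_4 : Nat := (nat_lit 0xce460000a0a80000810d)
noncomputable def m28_5 : Nat := (nat_lit 0xc00000000f0ad5840)
noncomputable def m28_6 : Nat := (nat_lit 0xbd2ad584d)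
noncomputable def m28_7 : Nat := (nat_lit 0xc02d5840)
noncomputable def m28_8 : Nat := (nat_lit 0x8885000030860000000d)
noncomputable def m28_9 : Nat := (nat_lit 0x27000d008e00b6008d0000)
noncomputable def m28_10 : Nat := (nat_lit 0xa0e0f070c0e0903010b0800)
noncomputable def m28_11 : Nat := (nat_lit 0x1202132111102102211120)
noncomputable def m28_12 : Nat := (nat_lit 0x1105401454544444415004500)
noncomputable def net28 : Net := (.cons (nat_lit 1) m28_0 (.cons (nat_lit 2) m28_1 (.cons (nat_lit 4) m28_2 (.cons (nat_lit 8) m28_3 (.cons (nat_lit 16) m28_4 (.cons (nat_lit 32) m28_5 (.cons (nat_lit 64) m28_6 (.cons (nat_lit 32) m28_7 (.cons (nat_lit 16) m28_8 (.cons (nat_lit 8) m28_9 (.cons (nat_lit 4) m28_10 (.cons (nat_lit 2) m28_11 (.cons (nat_lit 1) m28_12 .nil)))))))))))))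
theorem valid28 : net28.Valid 100 := valid_of_validB _ (by decide +kernel)
noncomputable def m29_0 : Nat := (nat_lit 0x1151405504511011554455440)
noncomputable def m29_1 : Nat := (nat_lit 0x3332233233113202103122000)
noncomputable def m29_2 : Nat := (nat_lit 0x2060a0e02000e0602030800)
noncomputable def m29_3 : Nat := (nat_lit 0x9700210048006900bf00e0)
noncomputable def m29_4 : Nat := (nat_lit 0xddf2000095ce0000b609)
noncomputable def m29_5 : Nat := (nat_lit 0x3000000003492f2d9)
noncomputable def m29_6 : Nat := (nat_lit 0xf75a6f2d0)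
noncomputable def m29_7 : Nat := (nat_lit 0x80000000075a6f2d0)
noncomputable def m29_8 : Nat := (nat_lit 0x81290000011000000009)
noncomputable def m29_9 : Nat := (nat_lit 0x2b00610060001000be0000)
noncomputable def m29_10 : Nat := (nat_lit 0x508030e0b0d0e0f020f0000)
noncomputable def m29_11 : Nat := (nat_lit 0x2311031233211001000103000)
noncomputable def m29_12 : Nat := (nat_lit 0x4055440445154505554440500)
noncomputable def net29 : Net := (.cons (nat_lit 1) m29_0 (.cons (nat_lit 2) m29_1 (.cons (nat_lit 4) m29_2 (.cons (nat_lit 8) m29_3 (.cons (nat_lit 16) m29_4 (.cons (nat_lit 32) m29_5 (.cons (nat_lit 64) m29_6 (.cons (nat_lit 32) m29_7 (.cons (nat_lit 16) m29_8 (.cons (nat_lit 8) m29_9 (.cons (nat_lit 4) m29_10 (.cons (nat_lit 2) m29_11 (.cons (nat_lit 1) m29_12 .nil)))))))))))))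
theorem valid29 : net29.Valid 100 := valid_of_validB _ (by decide +kernel)
noncomputable def m30_0 : Nat := (nat_lit 0x5045455115145104411050110)
noncomputable def m30_1 : Nat := (nat_lit 0x232131100033103030201002)
noncomputable def m30_2 : Nat := (nat_lit 0x50609080803050901040b00)
noncomputable def m30_3 : Nat := (nat_lit 0x92008400f0008000fd002c)
noncomputable def m30_4 : Nat := (nat_lit 0xcd510000b4ea00000d74)
noncomputable def m30_5 : Nat := (nat_lit 0x300000000d47e5f93)
noncomputable def m30_6 : Nat := (nat_lit 0xd76f01df6)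
noncomputable def m30_7 : Nat := (nat_lit 0x60a01c50)
noncomputable def m30_8 : Nat := (nat_lit 0x2a50000943c00000006)
noncomputable def m30_9 : Nat := (nat_lit 0x940083008400d800220001)
noncomputable def m30_10 : Nat := (nat_lit 0x104070c05030a01020102)
noncomputable def m30_11 : Nat := (nat_lit 0x3303313213103212013202020)
noncomputable def m30_12 : Nat := (nat_lit 0x4100400540154514541015500)
noncomputable def net30 : Net := (.cons (nat_lit 1) m30_0 (.cons (nat_lit 2) m30_1 (.cons (nat_lit 4) m30_2 (.cons (nat_lit 8) m30_3 (.cons (nat_lit 16) m30_4 (.cons (nat_lit 32) m30_5 (.cons (nat_lit 64) m30_6 (.cons (nat_lit 32) m30_7 (.cons (nat_lit 16) m30_8 (.cons (nat_lit 8) m30_9 (.cons (nat_lit 4) m30_10 (.cons (nat_lit 2) m30_11 (.cons (nat_lit 1) m30_12 .nil)))))))))))))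
theorem valid30 : net30.Valid 100 := valid_of_validB _ (by decide +kernel)
noncomputable def m31_0 : Nat := (nat_lit 0x1515115105015545501055400)
noncomputable def m31_1 : Nat := (nat_lit 0x132333333222221102310022)
noncomputable def m31_2 : Nat := (nat_lit 0xa05040c000004090c05020d)
noncomputable def m31_3 : Nat := (nat_lit 0x880073001200e600c900c5)
noncomputable def m31_4 : Nat := (nat_lit 0xa7cb0000ee9400009eb2)
noncomputable def m31_5 : Nat := (nat_lit 0x700000000c4f5d932)
noncomputable def m31_6 : Nat := (nat_lit 0xbd37a2fdc)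
noncomputable def m31_7 : Nat := (nat_lit 0xd3382240)
noncomputable def m31_8 : Nat := (nat_lit 0xf5630000c1e70000000c)
noncomputable def m31_9 : Nat := (nat_lit 0x95008b004400800000000c)
noncomputable def m31_10 : Nat := (nat_lit 0x50c0208040a040a09000a08)
noncomputable def m31_11 : Nat := (nat_lit 0x132213112313332210300120)
noncomputable def m31_12 : Nat := (nat_lit 0x4145051444540050405145000)
noncomputable def net31 : Net := (.cons (nat_lit 1) m31_0 (.cons (nat_lit 2) m31_1 (.cons (nat_lit 4) m31_2 (.cons (nat_lit 8) m31_3 (.cons (nat_lit 16) m31_4 (.cons (nat_lit 32) m31_5 (.cons (nat_lit 64) m31_6 (.cons (nat_lit 32) m31_7 (.cons (nat_lit 16) m31_8 (.cons (nat_lit 8) m31_9 (.cons (nat_lit 4) m31_10 (.cons (nat_lit 2) m31_11 (.cons (nat_lit 1) m31_12 .nil)))))))))))))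
theorem valid31 : net31.Valid 100 := valid_of_validB _ (by decide +kernel)

end Cfsg.Agent.Lib.HSR
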