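import Cfsg.Agent.Lib.Rk3Iso
import Cfsg.Agent.Lib.HSRN0

set_option autoImplicit false
set_option maxRecDepth 100000
set_option Elab.async false

namespace Cfsg.Agent.Lib.HSR
open Cfsg.Agent.Lib.PermNet Cfsg.Agent.Lib.Words Cfsg.Agent.Lib.PermGroup Cfsg.Agent.Lib.Rk3Aut Cfsg.Agent.Lib.Rk3Emb
  Cfsg.Agent.Lib.Rk3PH Cfsg.Agent.Lib.Rk3Iso

noncomputable def nets : NL := (.cons net0 (.cons net1 (.cons net2 (.cons net3 (.cons net4 (.cons net5 (.cons net6 (.cons net7 (.cons net8 (.cons net9 (.cons net10 (.cons net11 (.cons net12 (.cons net13 (.cons net14 (.cons net15 (.cons net16 (.cons net17 (.cons net18 (.cons net19 (.cons net20 (.cons net21 (.cons net22 (.cons net23 (.cons net24 (.cons net25 (.cons net26 (.cons net27 (.cons net28 (.cons net29 (.cons net30 (.cons net31 .nil))))))))))))))))))))))))))))))))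

theorem hv : nets.Valid 100 := ⟨valid0, ⟨valid1, ⟨valid2, ⟨valid3, ⟨valid4, ⟨valid5, ⟨valid6, ⟨valid7, ⟨valid8, ⟨valid9, ⟨valid10, ⟨valid11, ⟨valid12, ⟨valid13, ⟨valid14, ⟨valid15, ⟨valid16, ⟨valid17, ⟨valid18, ⟨valid19, ⟨valid20, ⟨valid21, ⟨valid22, ⟨valid23, ⟨valid24, ⟨valid25, ⟨valid26, ⟨valid27, ⟨valid28, ⟨valid29, ⟨valid30, ⟨valid31, trivial⟩⟩⟩⟩⟩⟩⟩⟩⟩⟩⟩⟩⟩⟩⟩⟩⟩⟩⟩⟩⟩⟩⟩⟩⟩⟩⟩⟩⟩⟩⟩⟩

def rels0 : List (List Nat × List Nat) := [([5, 2, 0, 3], []),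
  ([7, 3, 0, 2], []),
  ([9, 5, 0, 7, 1], []),
  ([11, 1, 3, 6, 0], []),
  ([13, 10, 10, 8, 8, 10, 10], []),
  ([15, 8, 8], []),
  ([17, 10, 8, 8, 11, 8, 8, 10], []),
  ([19, 10, 8, 8, 10, 8, 8, 10], []),
  ([21, 10, 10, 10, 10], []),
  ([23, 10, 8, 8, 10, 8, 8, 10, 10, 8, 8, 10, 8, 8, 10], []),
  ([25, 18, 2], []),
  ([27, 24, 12, 25], []),
  ([29, 24, 8, 25], []),
  ([31, 24, 14, 25], []),
  ([33, 24, 16, 25], []),
  ([35, 24, 18, 25], []),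
  ([37, 24, 20, 25], []),
  ([39, 24, 22, 25], []),
  ([41, 12, 8, 18], []),
  ([43, 16, 18, 20, 22], []),
  ([45, 12, 8, 18, 16, 18, 20, 22, 12, 8, 18, 16, 18, 20, 22], []),
  ([47, 16, 18, 20, 22, 16, 18, 20, 22], []),
  ([49, 12, 8, 18, 16, 18, 20, 22, 16, 18, 20, 22, 12, 8, 18, 16, 18, 20, 22, 16, 18, 20, 22], []),
  ([51, 38, 10, 29], []),
  ([53, 4, 6, 4, 7], []),
  ([55, 5, 7, 4, 6, 4], []),
  ([57, 5, 6, 4, 7, 4], []),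
  ([59, 55, 52, 55], []),
  ([0, 0, 0], []),
  ([2, 2, 2, 2, 2], []),
  ([60, 60, 60, 60, 60, 60, 60], [])]
def rels : List (List Nat × List Nat) := rels0

def defs : List (List Nat) := [[2, 0, 3], [3, 0, 2], [5, 0, 7, 1], [1, 3, 6, 0], [10, 10, 8, 8, 10, 10], [8, 8], [10, 8, 8, 11, 8, 8, 10], [10, 8, 8, 10, 8, 8, 10], [10, 10, 10, 10], [10, 8, 8, 10, 8, 8, 10, 10, 8, 8, 10, 8, 8, 10], [18, 2], [24, 12, 25], [24, 8, 25], [24, 14, 25], [24, 16, 25], [24, 18, 25], [24, 20, 25], [24, 22, 25], [12, 8, 18], [16, 18, 20, 22], [12, 8, 18, 16, 18, 20, 22, 12, 8, 18, 16, 18, 20, 22], [16, 18, 20, 22, 16, 18, 20, 22], [12, 8, 18, 16, 18, 20, 22, 16, 18, 20, 22, 12, 8, 18, 16, 18, 20, 22, 16, 18, 20, 22], [38, 10, 29], [4, 6, 4, 7], [5, 7, 4, 6, 4], [5, 6, 4, 7, 4], [55, 52, 55]]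


def Kb : List (List ℕ) := [[4], [6]]

def Kc : List (List ℕ) := [[8], [10]]

def Ld : List (List ℕ) := [[26, 28, 30, 34, 36], [8], [16]]

def ls : List (List ℕ) := [[0], [2], [60]]

def phbP : PC := [(25, 7, [], [])]

def phbR : PC := [(20, 2, [], [[42, 44, 46], [44], [46, 48], [48]]),
  (21, 2, [46], [[44], [46], [48]]),
  (22, 2, [48], [[46], [48]]),
  (23, 2, [], [[48]]),
  (24, 2, [], [])]

def phbS : List (List ℕ × Cert) := [([40, 44, 46], .good 0 [22, 0] [[3, 0, 2, 2, 0, 2, 0, 3, 3, 3, 0, 3], [0, 2, 2, 2, 0, 3, 3, 0, 2, 0, 3, 0, 3, 0]])]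

def phbL : List (List (List ℕ)) := [Kb]

noncomputable def phbF : List ℕ → Bool := nwB nets 2 (nat_lit 0x267b5aee4134ec056f399216e) 1 22 12 (pcG phbP) [0, 1, 1, 1] phbS

def phcP : PC := [(6, 2, [], [[8, 14, 22], [14], [16, 20, 22], [18, 20], [20], [22]]),
  (4, 2, [14], [[14], [16, 18], [18, 20, 22], [20, 22], [22]]),
  (7, 2, [], [[16, 20], [18, 22], [20], [22]]),
  (8, 2, [20, 22], [[18], [20], [22]]),
  (9, 2, [22], [[20], [22]]),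
  (10, 2, [], [[22]]),
  (11, 2, [], [])]

def phcR : PC := [(13, 2, [], [[28, 30, 38], [30], [32, 36, 38], [34, 36], [36], [38]]),
  (14, 2, [30], [[30], [32, 34], [34, 36, 38], [36, 38], [38]]),
  (15, 2, [], [[32, 36], [34, 38], [36], [38]]),
  (16, 2, [36, 38], [[34], [36], [38]]),
  (17, 2, [38], [[36], [38]]),
  (18, 2, [], [[38]]),
  (19, 2, [], [])]

def phcS : List (List ℕ × Cert) := [([30, 34, 36], .good 0 [] [[4], [9, 0, 10, 4, 0, 4]]),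
  ([26, 32, 36, 38], .good 0 [] [[4], [9, 0, 8, 0, 5, 0]]),
  ([26, 30, 32, 34, 36, 38], .good 0 [] [[4], [0, 2, 0, 5, 0, 6]]),
  ([26, 28, 30, 34, 36], .good 1 [] [[0], [4], [8]])]

def phcL : List (List (List ℕ)) := [Kc, Ld]

noncomputable def phcF : List ℕ → Bool := nwB nets 2 (nat_lit 0x267b5aee4134ec056f399216e) 1 22 10 (pcG phcP) [0, 7, 6, 5, 4, 3, 2, 1] phcS

def hs : List (List ℕ) := [[0], [2]]

def sb : List ℕ := [0, 1, 0, 1, 0, 1, 0, 1]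

def sc : List ℕ := [0, 1, 0, 1, 0, 1, 0, 1, 0, 1, 0, 0, 1]

def ol1 : List (ℕ × List ℕ) := [(1, []), (2, [0, 1, 0, 1, 0, 1, 0, 0])]

def ol2 : List (ℕ × List ℕ) := [(23, [0, 1, 0, 1, 0, 1, 0, 1, 0, 0]), (24, []), (33, [0, 0, 1, 1, 0, 1, 0, 1])]

def ol3 : List (ℕ × List ℕ) := [(1, [1, 1, 1, 0, 2, 1, 2]), (13, [1])]

def rwA : List (List ℕ × List ℕ × List ℕ) := [([], [61, 51, 60], [61, 3, 24])]

def rwN : List (List ℕ × ℕ × ℕ) := [([], 1, 24), ([1], 16, 44)]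

def ol4 : List (ℕ × List ℕ) := [(0, []), (1, []), (2, [0, 1, 0, 1, 0, 1, 0, 0]), (23, [0, 1, 0, 1, 0, 1, 0, 1, 0, 1, 1]), (24, [0, 1, 0, 1, 0, 0, 1, 0, 1])]

def ol5 : List (ℕ × List ℕ) := [(0, []), (1, [0, 1, 0]), (2, [0, 1, 0, 1, 0, 1]), (23, [0, 1, 0, 1, 0, 1, 0, 1, 0, 0]), (24, []), (33, [0, 0, 1, 1, 0, 1, 0, 1])]

def prog : List Ins := [.fix 0 0 100, .row 0 [], .dif 2 0, .dif 0 2, .fix 0 23 77, .row 0 [61, 10, 53],
  .dif 6 4, .dif 0 1, .dif 0 7, .dif 0 4, .fix 0 24 60, .row 0 [61, 3, 24],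
  .and 12 10, .dif 0 7, .dif 0 2, .fix 0 2 12, .row 0 [61, 11, 60], .and 17 15,
  .and 0 12, .dif 0 7, .fix 0 12 4, .row 0 [61, 3, 7, 61], .and 22 16, .and 0 6,
  .dif 0 12, .fix 0 39 4, .row 0 [61, 3, 7], .and 27 25, .and 0 16, .dif 0 23,
  .dif 0 3, .cnt 0 [61, 16, 60, 10], .and 33 1, .and 0 7, .dif 0 13, .row 0 [61, 54],
  .and 37 25, .and 0 16, .dif 0 22, .dif 0 13, .dif 0 4, .row 0 [60, 27],
  .and 43 37, .and 0 27, .and 0 2, .and 0 13, .row 0 [61, 9, 37], .and 48 31,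
  .and 0 6, .and 0 17, .dif 0 45, .row 0 [61, 1, 3], .and 53 31, .and 0 1,
  .and 0 22, .dif 0 29, .row 0 [61, 15], .and 58 36, .and 0 11, .and 0 27,
  .dif 0 34, .row 0 [61, 5], .and 63 26, .and 0 6, .and 0 2, .dif 0 60,
  .row 0 [61, 16], .and 68 41, .and 0 26, .and 0 2, .dif 0 69, .row 0 [61],
  .keep [71, 67, 61, 15, 36, 10, 56, 0, 20, 25, 46, 5, 40, 51, 30, 62]]

def prog2 : List Ins := [.row 1 [], .and 3 0, .dif 0 2, .fix 0 1 20, .row 0 [61, 51, 60], .and 7 5,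
  .fix 0 13 2, .row 0 [61, 27, 61], .and 10 8, .dif 0 2, .row 0 [61, 1, 3, 61], .and 13 6,
  .and 0 4, .and 0 2, .dif 0 15, .row 0 [61, 3, 24], .and 18 15, .dif 0 1,
  .fix 0 2 16, .row 0 [61, 11, 60], .and 22 12, .and 0 10, .and 0 2, .dif 0 18,
  .row 0 [61, 32], .and 27 20, .and 0 15, .and 0 7, .dif 0 20, .row 0 [61, 3, 7],
  .and 32 25, .and 0 23, .and 0 12, .dif 0 22, .row 0 [61, 1, 3], .and 37 34,
  .dif 0 20, .dif 0 12, .dif 0 8, .dif 0 4, .fix 0 3 6, .row 0 [61, 2, 24, 61],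
  .and 44 34, .and 0 32, .and 0 2, .dif 0 40, .row 0 [61, 2, 5], .and 49 22,
  .and 0 18, .and 0 7, .dif 0 34, .row 0 [61, 4, 51], .and 54 51, .and 0 18,
  .and 0 2, .dif 0 8, .row 0 [61, 2, 5, 60], .and 59 41, .and 0 38, .and 0 17,
  .dif 0 3, .row 0 [60, 43], .and 64 54, .and 0 33, .and 0 7, .dif 0 23,
  .row 0 [61, 7, 9], .and 69 56, .and 0 48, .and 0 12, .dif 0 65, .row 0 [61, 3, 43],
  .keep [71, 56, 47, 42, 25, 0, 5, 30, 37, 10, 67, 20, 61, 52, 15, 64]]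

def ws5 : List (List ℕ) := [[52], [54], [56]]

def ws6 : List (List ℕ) := [[52, 56], [56, 52], [58]]

def ws7 : List (List ℕ) := [[58]]

def sigW : List (List ℕ × List ℕ) := [([], [61, 10, 60]),
  ([61, 51, 60], [61, 16]),
  ([61, 11, 60], [61, 7, 9]),
  ([61, 2, 24, 61], [60, 28]),
  ([61, 2, 5, 60], [61, 2, 50]),
  ([61, 16, 61], [60, 19]),
  ([60, 25, 60], [60, 32]),
  ([61, 32, 61], [61, 27]),
  ([61, 10, 60], [60, 27]),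
  ([61, 11, 60, 42], [60, 16]),
  ([61, 3, 3, 61], [61, 2]),
  ([61, 11, 60, 16], [60, 60]),
  ([61, 3, 7, 61], [61, 5, 11]),
  ([61, 27, 61], [61, 3, 50]),
  ([61, 4, 29, 61], [61, 3, 8]),
  ([61, 16, 60], [61, 3]),
  ([61, 32, 60], [61, 11]),
  ([61, 17, 60], [60, 17]),
  ([61, 3, 11, 60], [60, 18]),
  ([61, 1, 3, 61], [61, 7]),
  ([60, 11, 60], [61, 32]),
  ([61, 53, 61], [61, 3, 11]),
  ([61, 3, 18, 60], []),
  ([61, 10, 53], [61, 32, 61]),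
  ([61, 3, 24], [60, 4]),
  ([61, 2, 5], [60, 10]),
  ([61, 2, 1], [61, 51, 60]),
  ([61, 3, 43], [60, 43]),
  ([61, 1, 3], [61, 17, 60]),
  ([61, 6, 53], [61, 6, 53]),
  ([61, 17], [60, 53]),
  ([61, 4, 29], [61, 3, 3, 61]),
  ([60, 4], [61, 2, 5]),
  ([60, 43], [61, 35]),
  ([61, 53], [61, 52]),
  ([61, 3, 3], [60, 11, 60]),
  ([61, 3, 10], [61, 1, 3, 61]),
  ([61, 5, 25], [60]),
  ([61, 2, 24], [61, 2, 1]),
  ([61, 3, 7], [61, 1]),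
  ([60, 15], [61, 3, 11, 60]),
  ([61, 10], [60, 3]),
  ([61, 16], [61]),
  ([60, 32], [61, 4, 51]),
  ([61, 32], [61, 3, 6]),
  ([61, 3, 50], [61, 4, 29, 61]),
  ([61, 27], [61, 1, 3]),
  ([60, 27], [61, 3, 0]),
  ([61, 3, 8], [60, 25, 60]),
  ([61, 11], [61, 1, 31]),
  ([61, 5, 11], [61, 6]),
  ([61, 56], [61, 10, 53]),
  ([61, 1, 31], [61, 11, 60]),
  ([60, 10], [61, 1, 51]),
  ([61, 1, 4], [61, 51]),
  ([61, 9], [61, 5]),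
  ([60, 53], [61, 10]),
  ([60, 39], [61, 2, 0]),
  ([61, 3, 6], [61, 54]),
  ([61, 1], [61, 2, 5, 60]),
  ([60, 60], [61, 5, 58]),
  ([61, 3], [61, 53, 61]),
  ([60, 16], [61, 3, 10]),
  ([60, 25], [61, 56]),
  ([60, 5], [61, 11, 60, 16]),
  ([61, 3, 55], [61, 3, 43]),
  ([61, 4, 51], [61, 53]),
  ([61, 54], [61, 3, 18, 60]),
  ([61, 51], [61, 1, 4]),
  ([61, 3, 18], [61, 9]),
  ([60, 11], [60, 39]),
  ([61, 15], [60, 25]),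
  ([60, 19], [61, 16, 61]),
  ([61, 3, 11], [61, 4]),
  ([60, 17], [61, 9, 37]),
  ([61, 9, 37], [61, 15]),
  ([61, 35], [61, 2, 24, 61]),
  ([61, 4], [61, 5, 25]),
  ([61, 2, 50], [61, 3, 24]),
  ([60, 31], [61, 27, 61]),
  ([60, 24], [60, 15]),
  ([61, 2, 0], [60, 2]),
  ([61, 5], [61, 16, 60]),
  ([61, 1, 51], [60, 41]),
  ([60, 2], [61, 4, 29]),
  ([61, 6], [60, 11]),
  ([61, 52], [60, 31]),
  ([61, 3, 17], [61, 17]),
  ([60, 28], [60, 5]),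
  ([61, 7, 9], [60, 24]),
  ([61, 2], [61, 3, 7, 61]),
  ([61, 3, 0], [61, 3, 3]),
  ([61], [61, 11, 60, 42]),
  ([60, 3], [61, 3, 17]),
  ([60, 18], [61, 8]),
  ([61, 5, 58], [61, 3, 55]),
  ([60, 41], [61, 3, 7]),
  ([61, 8], [61, 32, 60]),
  ([61, 7], [61, 2, 24]),
  ([60], [61, 3, 18])]


end Cfsg.Agent.Lib.HSR
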