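import Cfsg.Agent.Lib.HeldDat
import Cfsg.Agent.Lib.M24Ord
import Cfsg.Agent.Lib.TCHd00a
import Cfsg.Agent.Lib.TCHd00b
import Cfsg.Agent.Lib.TCHd00c
import Cfsg.Agent.Lib.TCHd10a
import Cfsg.Agent.Lib.TCHd10b
import Cfsg.Agent.Lib.TCHd10c
import Cfsg.Agent.Lib.TCHd11a
import Cfsg.Agent.Lib.TCHd11b
import Cfsg.Agent.Lib.TCHd11c

/-! Upper bounds for the orders of the completions of the three amalgams. -/

set_option autoImplicit false
set_option maxRecDepth 100000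
set_option Elab.async false

namespace Cfsg.Agent.Lib.HeldBd

open Cfsg.Agent.Lib Cfsg.Agent.Lib.PermNet Cfsg.Agent.Lib.Words Cfsg.Agent.Lib.PermGroup
  Cfsg.Agent.Lib.HeldFus Cfsg.Agent.Lib.HeldDat

universe u

/-- The generators. -/
def I1 : List ℕ := [0, 1, 2, 3, 4, 5, 6, 7]

theorem bLa {X : Type*} [Group X] (z : ℕ → X) (hz : ∀ w ∈ DL.K, wval z w = 1) :
    (gp z [[0], [2], [4], [6], [8], [12], [14]]).relIndex (gp z [[0], [2], [4], [6], [8], [10], [12], [14]]) ≠ 0 ∧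
    (gp z [[0], [2], [4], [6], [8], [12], [14]]).relIndex (gp z [[0], [2], [4], [6], [8], [10], [12], [14]]) ≤ 155 :=
  tc_wrap I1 hz [[0], [2], [4], [6], [8], [10], [12], [14]] TCHd00a.bound _ _ (by decide +kernel)

theorem bLb {X : Type*} [Group X] (z : ℕ → X) (hz : ∀ w ∈ DL.K, wval z w = 1) :
    (gp z [[0], [2], [6], [8], [12], [14]]).relIndex (gp z [[0], [2], [4], [6], [8], [12], [14]]) ≠ 0 ∧
    (gp z [[0], [2], [6], [8], [12], [14]]).relIndex (gp z [[0], [2], [4], [6], [8], [12], [14]]) ≤ 64 :=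
  tc_wrap I1 hz [[0], [2], [4], [6], [8], [12], [14]] TCHd00b.bound _ _ (by decide +kernel)

theorem bLc {X : Type*} [Group X] (z : ℕ → X) (hz : ∀ w ∈ DL.K, wval z w = 1) :
    (gp z []).relIndex (gp z [[0], [2], [6], [8], [12], [14]]) ≠ 0 ∧
    (gp z []).relIndex (gp z [[0], [2], [6], [8], [12], [14]]) ≤ 1008 :=
  tc_wrap I1 hz [[0], [2], [6], [8], [12], [14]] TCHd00c.bound _ _ (by decide +kernel)

theorem card_leL {X : Type*} [Group X] (z : ℕ → X) (hz : ∀ w ∈ DL.K, wval z w = 1) :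
    Nat.card (gp z gens8) ≠ 0 ∧ Nat.card (gp z gens8) ≤ 9999360 :=
  card_le_of_relIndex (gp_mono (by decide)) (bLa z hz) (card_le_of_relIndex (gp_mono (by decide))
    (bLb z hz) (card_le_of_relIndex (gp_mono (by decide)) (bLc z hz) (card_gp_nil z)))

theorem bMa {X : Type*} [Group X] (z : ℕ → X) (hz : ∀ w ∈ DM.K, wval z w = 1) :
    (gp z [[0], [2], [4], [6], [8], [12], [14]]).relIndex (gp z [[0], [2], [4], [6], [8], [10], [12], [14]]) ≠ 0 ∧
    (gp z [[0], [2], [4], [6], [8], [12], [14]]).relIndex (gp z [[0], [2], [4], [6], [8], [10], [12], [14]]) ≤ 1771 :=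
  tc_wrap I1 hz [[0], [2], [4], [6], [8], [10], [12], [14]] TCHd10a.bound _ _ (by decide +kernel)

theorem bMb {X : Type*} [Group X] (z : ℕ → X) (hz : ∀ w ∈ DM.K, wval z w = 1) :
    (gp z [[0], [2], [6], [8], [12], [14]]).relIndex (gp z [[0], [2], [4], [6], [8], [12], [14]]) ≠ 0 ∧
    (gp z [[0], [2], [6], [8], [12], [14]]).relIndex (gp z [[0], [2], [4], [6], [8], [12], [14]]) ≤ 64 :=
  tc_wrap I1 hz [[0], [2], [4], [6], [8], [12], [14]] TCHd10b.bound _ _ (by decide +kernel)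

theorem bMc {X : Type*} [Group X] (z : ℕ → X) (hz : ∀ w ∈ DM.K, wval z w = 1) :
    (gp z []).relIndex (gp z [[0], [2], [6], [8], [12], [14]]) ≠ 0 ∧
    (gp z []).relIndex (gp z [[0], [2], [6], [8], [12], [14]]) ≤ 2160 :=
  tc_wrap I1 hz [[0], [2], [6], [8], [12], [14]] TCHd10c.bound _ _ (by decide +kernel)

theorem card_leM {X : Type*} [Group X] (z : ℕ → X) (hz : ∀ w ∈ DM.K, wval z w = 1) :
    Nat.card (gp z gens8) ≠ 0 ∧ Nat.card (gp z gens8) ≤ 244823040 :=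
  card_le_of_relIndex (gp_mono (by decide)) (bMa z hz) (card_le_of_relIndex (gp_mono (by decide))
    (bMb z hz) (card_le_of_relIndex (gp_mono (by decide)) (bMc z hz) (card_gp_nil z)))

theorem bHa {X : Type*} [Group X] (z : ℕ → X) (hz : ∀ w ∈ DH.K, wval z w = 1) :
    (gp z [[0], [2], [4], [6], [8], [12], [14]]).relIndex (gp z [[0], [2], [4], [6], [8], [10], [12], [14]]) ≠ 0 ∧
    (gp z [[0], [2], [4], [6], [8], [12], [14]]).relIndex (gp z [[0], [2], [4], [6], [8], [10], [12], [14]]) ≤ 29155 :=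
  tc_wrap I1 hz [[0], [2], [4], [6], [8], [10], [12], [14]] TCHd11a.bound _ _ (by decide +kernel)

theorem bHb {X : Type*} [Group X] (z : ℕ → X) (hz : ∀ w ∈ DH.K, wval z w = 1) :
    (gp z [[0], [2], [6], [8], [12], [14]]).relIndex (gp z [[0], [2], [4], [6], [8], [12], [14]]) ≠ 0 ∧
    (gp z [[0], [2], [6], [8], [12], [14]]).relIndex (gp z [[0], [2], [4], [6], [8], [12], [14]]) ≤ 64 :=
  tc_wrap I1 hz [[0], [2], [4], [6], [8], [12], [14]] TCHd11b.bound _ _ (by decide +kernel)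

theorem bHc {X : Type*} [Group X] (z : ℕ → X) (hz : ∀ w ∈ DH.K, wval z w = 1) :
    (gp z []).relIndex (gp z [[0], [2], [6], [8], [12], [14]]) ≠ 0 ∧
    (gp z []).relIndex (gp z [[0], [2], [6], [8], [12], [14]]) ≤ 2160 :=
  tc_wrap I1 hz [[0], [2], [6], [8], [12], [14]] TCHd11c.bound _ _ (by decide +kernel)

theorem card_leH {X : Type*} [Group X] (z : ℕ → X) (hz : ∀ w ∈ DH.K, wval z w = 1) :
    Nat.card (gp z gens8) ≠ 0 ∧ Nat.card (gp z gens8) ≤ 4030387200 :=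
  card_le_of_relIndex (gp_mono (by decide)) (bHa z hz) (card_le_of_relIndex (gp_mono (by decide))
    (bHb z hz) (card_le_of_relIndex (gp_mono (by decide)) (bHc z hz) (card_gp_nil z)))

theorem equiv_of_simple {G : Type u} [Group G] {X : Type*} [Group X] [IsSimpleGroup X] {y : ℕ → G}
    {f : ℕ → X} {K : List (List ℕ)} (hy : ∀ w ∈ K, wval y w = 1) (hf : ∀ w ∈ K, wval f w = 1) {T : ℕ}
    (hub : ∀ z : ℕ → G × X, (∀ w ∈ K, wval z w = 1) →
      Nat.card (gp z gens8) ≠ 0 ∧ Nat.card (gp z gens8) ≤ T) (hT : Nat.card X = T)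
    (h1 : gp y gens8 = ⊤) (h2 : gp f gens8 = ⊤) {g : G} (hg : g ≠ 1) : Nonempty (G ≃* X) := by
  obtain ⟨e⟩ := M24Ord.nonempty_equiv_of_simple hy hf hub (by rw [h2, Subgroup.card_top, hT])
    (h2 ▸ Subgroup.topEquiv.isSimpleGroup) (h1 ▸ Subgroup.mem_top g) hg
  exact ⟨Subgroup.topEquiv.symm.trans ((MulEquiv.subgroupCongr h1.symm).trans
    (e.trans ((MulEquiv.subgroupCongr h2).trans Subgroup.topEquiv)))⟩

end Cfsg.Agent.Lib.HeldBd
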