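import Cfsg.Agent.Lib.HeldTop

/-! The three amalgams. -/

set_option autoImplicit false
set_option maxRecDepth 100000
set_option Elab.async false

namespace Cfsg.Agent.Lib.HeldDat

open Cfsg.Agent.Lib.HeldFus Cfsg.Agent.Lib.PermNet Cfsg.Agent.Lib.Words

universe u

/-- The amalgam of `SL(5, 2)`. -/
def DL : Dat where
  p := 135
  y10 := [4, 8, 5, 10, 32, 48]
  y11 := [4, 8, 5, 10, 16, 32]
  y40 := [2, 3, 8, 12, 16, 32]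
  y41 := [2, 3, 8, 12, 32, 48]
  h := [1, 64, 128, 512, 0, 10240, 5120, 0]
  L0 :=
    [[1, 2, 5, 10, 16, 48], [1, 3, 4, 12, 16, 32], [1, 2, 4, 8, 16, 32], [1, 2, 4, 8, 18, 40], [4,
    8, 1, 2, 32, 16], [], [1, 16, 4, 32, 2, 8], [2, 1, 8, 4, 16, 32]]
  L1 :=
    [[1, 2, 5, 10, 16, 32], [1, 3, 4, 12, 16, 48], [1, 2, 4, 8, 20, 40], [1, 2, 4, 8, 16, 32], [4,
    8, 1, 2, 16, 32], [1, 2, 16, 32, 4, 8], [], [2, 1, 8, 4, 32, 16]]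
  cm := 32
  dm := 32
  w3 :=
    [[12, 0, 12, 0], [12, 2, 6, 12, 2, 6, 12, 2, 6], [12, 6, 12, 6, 12, 6]]
  w2 :=
    [[10, 2, 10, 2], [10, 0, 4, 10, 0, 4, 10, 0, 4], [10, 4, 10, 4, 10, 4]]
  KH :=
    [[0, 0], [2, 2], [4, 4], [6, 6], [10, 10], [12, 12], [0, 2, 0, 2], [0, 4, 0, 4, 0, 4, 0, 4],
    [0, 6, 0, 6], [0, 10, 0, 10, 0, 10, 0, 10], [0, 12, 0, 12], [2, 4, 2, 4], [2, 6, 2, 6, 2, 6,
    2, 6], [2, 10, 2, 10], [2, 12, 2, 12, 2, 12, 2, 12], [4, 6, 4, 6, 4, 6, 4, 6], [4, 10, 4, 10,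
    4, 10], [4, 12, 4, 12, 4, 12, 4, 12], [6, 10, 6, 10, 6, 10, 6, 10], [6, 12, 6, 12, 6, 12],
    [10, 12, 10, 12, 10, 12], [2, 6, 12, 2, 6, 12, 2, 6, 12], [2, 6, 12, 6, 2, 6, 12, 6], [4, 6,
    12, 4, 6, 12, 4, 6, 12], [4, 6, 12, 6, 4, 6, 12, 6], [4, 6, 10, 4, 6, 10, 4, 6, 10], [0, 4,
    10, 0, 4, 10, 0, 4, 10], [0, 4, 10, 4, 0, 4, 10, 4]]
  K0 :=
    [[8, 8], [14, 14], [0, 8, 0, 8, 0, 8], [0, 14, 0, 14], [2, 8, 2, 8], [2, 14, 2, 14, 2, 14],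
    [4, 8, 4, 8, 4, 8, 4, 8], [4, 14, 4, 14], [6, 8, 6, 8], [6, 14, 6, 14, 6, 14, 6, 14], [8, 12,
    8, 12], [8, 14, 8, 14], [12, 14, 12, 14, 12, 14], [2, 6, 14, 2, 6, 14, 2, 6, 14], [2, 6, 2,
    14, 2, 6, 2, 14], [0, 4, 8, 0, 4, 8, 0, 4, 8], [0, 8, 4, 8, 0, 8, 4, 8]]
  K1 :=
    [[8, 10, 8, 10, 8, 10], [10, 14, 10, 14]]

theorem topL {G : Type u} [Group G] [Finite G] {φ : HeldModel.Hm →* G} (S : Setup φ)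
    (hp : Pat φ 135) : ∃ y : ℕ → G, (∀ w ∈ DL.K, wval y w = 1) ∧ gp y gens8 = ⊤ ∧
      ∀ i ∈ [0, 1, 2, 3, 5, 6], y i = φ (DL.x i) :=
  S.gens_top (D := DL) hp (by decide +kernel) (by decide +kernel)
    (cw := [[14], [8], [14, 8], [], [14, 12], [8, 10], [8], []])
    (hw :=
      [[0], [2], [4], [6], [4, 10, 4], [6, 12, 6]])
    (xw := []) (by decide +kernel)

/-- The amalgam of the Mathieu group of degree `24`. -/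
def DM : Dat where
  p := 151
  y10 := [4, 8, 5, 10, 32, 48]
  y11 := [4, 8, 5, 10, 16, 32]
  y40 := [2, 3, 8, 12, 28, 47]
  y41 := [2, 3, 8, 12, 32, 48]
  h := [33, 64, 152, 512, 0, 10248, 5120, 0]
  L0 :=
    [[1, 2, 5, 10, 17, 53], [1, 3, 4, 12, 16, 32], [1, 2, 4, 8, 16, 32], [1, 2, 4, 8, 18, 40], [4,
    8, 1, 2, 36, 17], [], [1, 16, 4, 32, 2, 8], [2, 1, 8, 4, 28, 47]]
  L1 :=
    [[1, 2, 5, 10, 16, 32], [1, 3, 4, 12, 16, 48], [1, 2, 4, 8, 20, 40], [1, 2, 4, 8, 16, 32], [4,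
    8, 1, 2, 16, 32], [1, 2, 16, 32, 4, 8], [], [2, 1, 8, 4, 32, 16]]
  cm := 37
  dm := 32
  w3 :=
    [[12, 0, 2, 12, 0, 2], [12, 6, 12, 6, 12, 6], [12, 2, 6, 12, 2, 6, 12, 2, 6]]
  w2 :=
    [[10, 2, 10, 2], [10, 0, 4, 10, 0, 4, 10, 0, 4], [10, 4, 10, 4, 10, 4]]
  KH :=
    [[0, 0], [2, 2], [4, 4], [6, 6], [10, 10], [12, 12], [0, 2, 0, 2], [0, 4, 0, 4, 0, 4, 0, 4],
    [0, 6, 0, 6], [0, 10, 0, 10, 0, 10, 0, 10], [0, 12, 0, 12, 0, 12, 0, 12], [2, 4, 2, 4], [2, 6,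
    2, 6, 2, 6, 2, 6], [2, 10, 2, 10], [2, 12, 2, 12, 2, 12, 2, 12], [4, 6, 4, 6, 4, 6, 4, 6], [4,
    10, 4, 10, 4, 10], [4, 12, 4, 12, 4, 12, 4, 12], [6, 10, 6, 10, 6, 10, 6, 10], [6, 12, 6, 12,
    6, 12], [10, 12, 10, 12, 10, 12, 10, 12, 10, 12, 10, 12], [2, 6, 12, 2, 6, 12, 2, 6, 12], [2,
    12, 6, 12, 2, 12, 6, 12], [0, 2, 12, 0, 2, 12], [2, 4, 12, 2, 4, 12, 2, 4, 12, 2, 4, 12], [4,
    6, 12, 6, 4, 6, 12, 6], [2, 4, 6, 10, 12, 2, 4, 6, 10, 12, 2, 4, 6, 10, 12], [0, 4, 10, 0, 4,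
    10, 0, 4, 10], [2, 6, 12, 6, 2, 6, 12, 6], [0, 4, 10, 4, 0, 4, 10, 4], [4, 10, 6, 10, 4, 10,
    6, 10]]
  K0 :=
    [[8, 8], [14, 14], [0, 8, 0, 8, 0, 8], [0, 14, 0, 14], [2, 8, 2, 8], [2, 14, 2, 14, 2, 14],
    [4, 8, 4, 8, 4, 8, 4, 8], [4, 14, 4, 14], [6, 8, 6, 8], [6, 14, 6, 14, 6, 14, 6, 14], [8, 12,
    8, 12, 8, 12, 8, 12], [8, 14, 8, 14], [12, 14, 12, 14, 12, 14, 12, 14, 12, 14], [0, 12, 8, 6,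
    14, 0, 12, 8, 6, 14, 0, 12, 8, 6, 14, 0, 12, 8, 6, 14], [2, 6, 2, 14, 2, 6, 2, 14], [2, 8, 12,
    2, 8, 12], [0, 4, 8, 0, 4, 8, 0, 4, 8], [0, 4, 0, 8, 0, 4, 0, 8]]
  K1 :=
    [[8, 10, 8, 10, 8, 10], [10, 14, 10, 14]]

theorem topM {G : Type u} [Group G] [Finite G] {φ : HeldModel.Hm →* G} (S : Setup φ)
    (hp : Pat φ 151) : ∃ y : ℕ → G, (∀ w ∈ DM.K, wval y w = 1) ∧ gp y gens8 = ⊤ ∧
      ∀ i ∈ [0, 1, 2, 3, 5, 6], y i = φ (DM.x i) :=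
  S.gens_top (D := DM) hp (by decide +kernel) (by decide +kernel)
    (cw := [[14], [8], [14, 8], [], [2, 14, 12, 14], [8, 10], [8], []])
    (hw :=
      [[0, 12, 2, 12], [2], [12, 10, 6, 10, 12], [6], [6, 10, 4, 12, 4, 12, 10], [6, 12, 6]])
    (xw := []) (by decide +kernel)

/-- The amalgam of the Held group. -/
def DH : Dat where
  p := 183
  y10 := [4, 8, 5, 10, 32, 48]
  y11 := [4, 8, 5, 10, 26, 47]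
  y40 := [2, 3, 8, 12, 28, 47]
  y41 := [2, 3, 8, 12, 32, 48]
  h := [33, 82, 152, 524, 0, 10248, 5512, 0]
  L0 :=
    [[1, 2, 5, 10, 17, 53], [1, 3, 4, 12, 16, 32], [1, 2, 4, 8, 16, 32], [1, 2, 4, 8, 18, 40], [4,
    8, 1, 2, 36, 17], [], [1, 16, 4, 32, 2, 8], [2, 1, 8, 4, 28, 47]]
  L1 :=
    [[1, 2, 5, 10, 16, 32], [1, 3, 4, 12, 17, 51], [1, 2, 4, 8, 20, 40], [1, 2, 4, 8, 16, 32], [4,
    8, 1, 2, 26, 47], [1, 2, 16, 32, 4, 8], [], [2, 1, 8, 4, 34, 17]]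
  cm := 37
  dm := 35
  w3 :=
    [[12, 0, 2, 12, 0, 2], [12, 6, 12, 6, 12, 6], [12, 2, 6, 12, 2, 6, 12, 2, 6]]
  w2 :=
    [[10, 0, 2, 10, 0, 2], [10, 4, 10, 4, 10, 4], [10, 0, 4, 10, 0, 4, 10, 0, 4]]
  KH :=
    [[0, 0], [2, 2], [4, 4], [6, 6], [10, 10], [12, 12], [0, 2, 0, 2], [0, 4, 0, 4, 0, 4, 0, 4],
    [0, 6, 0, 6], [0, 10, 0, 10, 0, 10, 0, 10], [0, 12, 0, 12, 0, 12, 0, 12], [2, 4, 2, 4], [2, 6,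
    2, 6, 2, 6, 2, 6], [2, 10, 2, 10, 2, 10, 2, 10], [2, 12, 2, 12, 2, 12, 2, 12], [4, 6, 4, 6, 4,
    6, 4, 6], [4, 10, 4, 10, 4, 10], [4, 12, 4, 12, 4, 12, 4, 12], [6, 10, 6, 10, 6, 10, 6, 10],
    [6, 12, 6, 12, 6, 12], [10, 12, 10, 12, 10, 12, 10, 12], [2, 6, 12, 2, 6, 12, 2, 6, 12], [2,
    6, 12, 6, 2, 6, 12, 6], [0, 2, 12, 0, 2, 12], [2, 4, 12, 2, 4, 12, 2, 4, 12, 2, 4, 12], [4,
    12, 6, 12, 4, 12, 6, 12], [6, 10, 6, 12, 6, 10, 6, 12, 6, 10, 6, 12], [0, 2, 6, 0, 6, 0, 2, 6,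
    0, 6], [0, 4, 10, 0, 4, 10, 0, 4, 10], [4, 6, 12, 6, 4, 6, 12, 6], [4, 10, 6, 10, 4, 10, 6,
    10], [0, 10, 4, 10, 0, 10, 4, 10], [0, 2, 10, 0, 2, 10], [0, 6, 10, 4, 12, 0, 6, 10, 4, 12, 0,
    6, 10, 4, 12], [2, 4, 6, 12, 6, 2, 4, 6, 12, 6], [4, 6, 4, 10, 4, 6, 4, 10], [0, 2, 10, 12,
    10, 0, 2, 10, 12, 10]]
  K0 :=
    [[8, 8], [14, 14], [0, 8, 0, 8, 0, 8], [0, 14, 0, 14], [2, 8, 2, 8], [2, 14, 2, 14, 2, 14],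
    [4, 8, 4, 8, 4, 8, 4, 8], [4, 14, 4, 14], [6, 8, 6, 8], [6, 14, 6, 14, 6, 14, 6, 14], [8, 12,
    8, 12, 8, 12, 8, 12], [8, 14, 8, 14], [12, 14, 12, 14, 12, 14, 12, 14, 12, 14], [0, 6, 8, 12,
    14, 0, 6, 8, 12, 14, 0, 6, 8, 12, 14, 0, 6, 8, 12, 14], [2, 6, 2, 14, 2, 6, 2, 14], [2, 8, 12,
    2, 8, 12], [0, 4, 8, 0, 4, 8, 0, 4, 8], [0, 8, 4, 8, 0, 8, 4, 8], [2, 8, 2, 8, 14, 2, 8, 2, 8,
    14], [4, 6, 8, 6, 8, 4, 6, 8, 6, 8], [2, 12, 6, 14, 12, 2, 12, 6, 14, 12], [2, 12, 14, 6, 14,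
    2, 12, 14, 6, 14], [6, 8, 6, 8, 14, 6, 8, 6, 8, 14], [2, 6, 2, 6, 8, 2, 6, 2, 6, 8], [4, 6, 8,
    4, 6, 8, 4, 6, 8, 4, 6, 8], [0, 2, 14, 6, 8, 0, 2, 14, 6, 8, 0, 2, 14, 6, 8], [6, 12, 0, 14,
    12, 6, 12, 14, 0, 12, 6, 12, 0, 14, 12, 6, 12, 14, 0, 12, 6, 12, 0, 14, 12, 6, 12, 14, 0, 12]]
  K1 :=
    [[8, 10, 8, 10, 8, 10, 8, 10, 8, 10], [10, 14, 10, 14, 10, 14, 10, 14], [2, 8, 10, 6, 10, 2,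
    8, 10, 6, 10], [2, 8, 2, 8, 10, 2, 8, 2, 8, 10], [2, 10, 14, 10, 14, 2, 10, 14, 10, 14], [0,
    10, 14, 0, 10, 14]]

theorem topH {G : Type u} [Group G] [Finite G] {φ : HeldModel.Hm →* G} (S : Setup φ)
    (hp : Pat φ 183) : ∃ y : ℕ → G, (∀ w ∈ DH.K, wval y w = 1) ∧ gp y gens8 = ⊤ ∧
      ∀ i ∈ [0, 1, 2, 3, 5, 6], y i = φ (DH.x i) :=
  S.gens_top (D := DH) hp (by decide +kernel) (by decide +kernel)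
    (cw := [[14], [8], [14, 8], [], [2, 14, 12, 14], [0, 8, 10, 8], [8], []])
    (hw :=
      [[10, 6, 10, 2, 12, 4, 0, 12], [0, 10, 2, 10], [6, 4, 6, 12, 4, 12], [4, 6, 4, 10, 6, 10],
      [2, 6, 2, 4, 6, 10, 6, 4], [0, 4, 0, 6, 12, 6]])
    (xw := [12, 0, 14, 12, 6, 12, 14, 0, 12]) (by decide +kernel)

end Cfsg.Agent.Lib.HeldDat
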