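import Cfsg.Agent.Lib.HeldModel

/-! Computations in the model of the centralizer of a transvection in `SL(5, 2)`. -/

set_option autoImplicit false
set_option maxRecDepth 100000
set_option Elab.async false

namespace Cfsg.Agent.Lib.HeldFacts

open Cfsg.Agent.Lib.HJModel (allN anyN allN_iff anyN_iff cntN cntN_eq force force_eq)
open Cfsg.Agent.Lib.HeldModel Subgroup

/-- The enumeration by one number. -/
def eh (i : ℕ) : Hm := el i (Nat.shiftRight i 7)

/-- The number of an element. -/
def ind (h : Hm) : ℕ := Nat.add (qof h.v) (Nat.mul 128 (look tK 8 255 (mof h.v)))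

theorem eh_add {q : ℕ} (hq : q < 128) (k : ℕ) : eh (q + 128 * k) = el q k := by
  refine Hm.ext ?_
  change elc (q + 128 * k) ((q + 128 * k) >>> 7) = elc q k
  rw [elc_mod, elc_mod q, Nat.shiftRight_eq_div_pow, show (q + 128 * k) % 128 = q % 128 by omega,
    show (q + 128 * k) / 2 ^ 7 = k by omega]

theorem eh_ind (h : Hm) : eh (ind h) = h := (eh_add (qof_lt _) _).trans (ofc_v h)

theorem z_comm (h : Hm) : h * z = z * h := Hm.ext (by
  change mulc h.v z.v = mulc z.v h.v
  rw [z_v]
  exact h.ok.2.2)

theorem z_sq : z * z = 1 := by decide +kernel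

theorem z_ne : z ≠ 1 := by decide +kernel

theorem el_split : All 168 fun k => All 128 fun q =>
    el q k = el 0 k * el (qof ((el 0 k)⁻¹ * el q k).v) 0 := by decide +kernel

theorem exists_split (h : Hm) :
    ∃ k < 168, ∃ q < 128, ind h / 128 = k ∧ h = el 0 k * el q 0 := by
  have h1 := h.ok.eq_elc.1
  have h2 : qof h.v < 128 := qof_lt _
  refine ⟨_, h1, _, qof_lt _, ?_, (ofc_v h).symm.trans (el_split _ h1 _ h2)⟩
  change (qof h.v + 128 * look tK 8 255 (mof h.v)) / 128 = _
  omega

theorem eq_top_of {P : Subgroup Hm} (h1 : All 128 fun q => el q 0 ∈ P)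
    (h2 : All 168 fun k => el 0 k ∈ P) : P = ⊤ := eq_top_iff.2 fun h _ => by
  obtain ⟨k, hk, q, hq, -, rfl⟩ := exists_split h
  exact P.mul_mem (h2 k hk) (h1 q hq)

theorem tree_mem {P : Subgroup Hm} {F g : ℕ → Hm} {n : ℕ} {par dep : ℕ → ℕ}
    (hg : ∀ i < n, g i ∈ P)
    (h : All n fun i => F i = 1 ∨ par i < n ∧ dep (par i) < dep i ∧ F i = g i * F (par i)) :
    All n fun i => F i ∈ P := by
  intro i hi
  induction' hd : dep i using Nat.strong_induction_on with d ih generalizing i
  rcases h i hi with h | ⟨h1, h2, h3⟩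
  · exact h ▸ P.one_mem
  · exact h3 ▸ P.mul_mem (hg i hi) (ih _ (hd ▸ h2) _ h1 rfl)

theorem eq_top_of_gens {P : Subgroup Hm} (h : ∀ i ∈ [1, 64, 128, 512, 10752, 15872], eh i ∈ P) :
    P = ⊤ := by
  have a1 := h 1 (by decide)
  have a2 := h 64 (by decide)
  have a3 := h 128 (by decide)
  have a4 := h 512 (by decide)
  have b1 : eh 2 ∈ P := (by decide +kernel : eh 1 * eh 128 * eh 1 * eh 128 = eh 2) ▸
    P.mul_mem (P.mul_mem (P.mul_mem a1 a3) a1) a3
  have b2 : eh 4 ∈ P := (by decide +kernel : eh 2 * eh 512 * eh 2 * eh 512 = eh 4) ▸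
    P.mul_mem (P.mul_mem (P.mul_mem b1 a4) b1) a4
  have b3 : eh 8 ∈ P := (by decide +kernel : eh 4 * eh 64 * eh 4 * eh 64 = eh 8) ▸
    P.mul_mem (P.mul_mem (P.mul_mem b2 a2) b2) a2
  have b4 : eh 32 ∈ P := (by decide +kernel : eh 512 * eh 64 * eh 512 * eh 64 = eh 32) ▸
    P.mul_mem (P.mul_mem (P.mul_mem a4 a2) a4) a2
  have b5 : eh 16 ∈ P := (by decide +kernel : eh 128 * eh 32 * eh 128 * eh 32 = eh 16) ▸
    P.mul_mem (P.mul_mem (P.mul_mem a3 b4) a3) b4
  refine eq_top_of (tree_mem (g := fun i => eh (2 ^ look 0x492db6db6db6492db6db6db6492db6db6db6492db6db6db626d26db6db6d26d26db6db6d1041049249246db6db492240 3 7 i))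
    (par := look 0xe7cb8f076e9cb86ed9ab466c98b0c78b0e056a94a84e992a446890a0a74a8d03668c982e58a942648890870a0c016284880e1828406080806ad0e9c62c0c982e58a9426488904a9068c42804880e1828406080802c38a0c24288080e1828406080800e18284060808006080800200000 7 127) (dep := look 0xd6cb24d6cb23b238e3b238dab2391bb238da8da8da8da691b248dbb238da8e369a8da69191b6d28da6918da691691448 3 7) (fun i hi => ?_) (by decide +kernel))
    (tree_mem (g := fun i => eh ([128, 10752, 512, 15872].getD (look 0x4ace0aff615d8a4a0a61ef54cb4a0a7fa7ff0a8a9154ff29378aa4d509ff068a8445fd27ff2add680aa0 2 3 i) 0))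
    (par := look 0x9aa491902fa02d949d9c9998575655549fa294989ea279997b8d79787f88818085847d7c878a807c03860100868a7d7937756534637169686d6c61606f82818077766194535251505c5d5554535951505f065400075f01515f5e5d5c4846454c458a4d884f404d4c3b3a4e3e234f424634352d30070605042d2c3134332831302325322733232a2e8f8e8d14191e15a45b5a5958111615142716251e170e0d0a0405010007060000 8 255) (dep := look 0x665565545443553266435644554554434332553244214534565456545645664367444534343244344421342345435664655455546667556646533432554444435656455666566756554566566667677823213410 4 15) (fun i hi => ?_) (by decide +kernel))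
  · have : look _ 3 7 i < 7 := (by decide +kernel : All 128 fun i => look 0x492db6db6db6492db6db6db6492db6db6db6492db6db6db626d26db6db6d26d26db6db6d1041049249246db6db492240 3 7 i < 7) i hi
    generalize look _ 3 7 i = l at *
    interval_cases l <;> assumption
  · have : look 0x4ace0aff615d8a4a0a61ef54cb4a0a7fa7ff0a8a9154ff29378aa4d509ff068a8445fd27ff2add680aa0 2 3 i < 2 ^ 2 := Nat.and_lt_two_pow _ (by norm_num)
    generalize look _ 2 3 i = l at *
    interval_cases l <;> exact h _ (by decide)

/-- The centralizer modulo the centre. -/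
def cmod (a : Hm) : Subgroup Hm where
  carrier := {h | h * a = a * h ∨ h * a = a * z * h}
  one_mem' := Or.inl (by simp)
  mul_mem' := by
    rintro h k (h1 | h1) (h2 | h2)
    · exact Or.inl (by rw [mul_assoc, h2, ← mul_assoc, h1, mul_assoc])
    · exact Or.inr (by rw [mul_assoc, h2, ← mul_assoc, ← mul_assoc, h1, mul_assoc a, z_comm]; group)
    · exact Or.inr (by rw [mul_assoc, h2, ← mul_assoc, h1, mul_assoc])
    · refine Or.inl ?_
      calc h * k * a = h * a * z * k := by rw [mul_assoc, h2]; group
        _ = a * (z * (h * z)) * k := by rw [h1]; group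
        _ = _ := by rw [z_comm h, ← mul_assoc z, z_sq]; group
  inv_mem' := by
    rintro h (h1 | h1)
    · exact Or.inl (by rw [inv_mul_eq_iff_eq_mul, ← mul_assoc, h1, mul_inv_cancel_right])
    · refine Or.inr (inv_mul_eq_iff_eq_mul.2 ?_)
      calc a = a * (z * (z * h)) * h⁻¹ := by rw [← mul_assoc z, z_sq]; group
        _ = a * z * h * z * h⁻¹ := by rw [← z_comm h]; group
        _ = _ := by rw [← h1]; group

instance decCmod (a h : Hm) : Decidable (h ∈ cmod a) :=
  inferInstanceAs (Decidable (h * a = a * h ∨ h * a = a * z * h))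

/-- The Sylow subgroup. -/
def Tm : Subgroup Hm := cmod (eh 4) ⊓ cmod (eh 16)

instance decTm (h : Hm) : Decidable (h ∈ Tm) :=
  inferInstanceAs (Decidable (h ∈ cmod (eh 4) ∧ h ∈ cmod (eh 16)))

theorem mem_T {h : Hm} : h ∈ Tm ↔ ind h < 1024 := by
  obtain ⟨k, hk, q, hq, h1, h2⟩ := exists_split h
  rw [show h ∈ Tm ↔ el 0 k ∈ Tm from h2 ▸ Tm.mul_mem_cancel_right
      ((by decide +kernel : All 128 fun q => el q 0 ∈ Tm) q hq),
    show el 0 k ∈ Tm ↔ k < 8 from (by decide +kernel : All 168 fun k => el 0 k ∈ Tm ↔ k < 8) k hk]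
  omega

theorem forall_T {P : Hm → Prop} (h : All 1024 fun i => P (eh i)) : ∀ u ∈ Tm, P u :=
  fun u hu => eh_ind u ▸ h _ (mem_T.1 hu)

theorem T_le {P : Subgroup Hm} (h1 : All 128 fun q => el q 0 ∈ P)
    (h2 : All 8 fun k => el 0 k ∈ P) : Tm ≤ P := fun h hh => by
  obtain ⟨k, -, q, hq, h3, h4⟩ := exists_split h
  rw [mem_T] at hh
  exact h4 ▸ P.mul_mem (h2 k (by omega)) (h1 q hq)

theorem ind_eh : All 1024 fun i => ind (eh i) = i := by decide +kernel

theorem eh_T {i : ℕ} (hi : i < 1024) : eh i ∈ Tm := mem_T.2 ((ind_eh i hi).symm ▸ hi)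

theorem card_T : Nat.card Tm = 2 ^ 10 := by
  rw [← Nat.card_eq_of_bijective (fun i : Fin 1024 => (⟨eh i, eh_T i.2⟩ : Tm))
    ⟨fun i j h => Fin.ext (by
      rw [← ind_eh i i.2, ← ind_eh j j.2, show eh i = eh j from congrArg Subtype.val h]),
      fun u => ⟨⟨_, mem_T.1 u.2⟩, Subtype.ext (eh_ind _)⟩⟩, Nat.card_fin]
  norm_num

theorem index_T : Tm.index = 21 := by
  have := Tm.card_mul_index
  rw [card_T, card_Hm] at this
  exact Nat.eq_of_mul_eq_mul_left (by norm_num) (this.trans (by norm_num))

theorem center_T : ∀ u ∈ Tm, u * eh 1 = eh 1 * u → u * eh 128 = eh 128 * u →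
    u * eh 512 = eh 512 * u → u * eh 64 = eh 64 * u → u = 1 ∨ u = z :=
  forall_T (by decide +kernel)

theorem norm_T {h : Hm} (H : ∀ u ∈ Tm, h * u * h⁻¹ ∈ Tm) : h ∈ Tm := by
  obtain ⟨k, hk, q, hq, -, h2⟩ := exists_split h
  have h3 : el q 0 ∈ Tm := (by decide +kernel : All 128 fun q => el q 0 ∈ Tm) q hq
  have h4 : ∀ u ∈ Tm, el 0 k * u * (el 0 k)⁻¹ ∈ Tm := fun u hu => by
    have := H _ (Tm.mul_mem (Tm.mul_mem (Tm.inv_mem h3) hu) h3)
    rwa [h2, show ∀ a b u : Hm, a * b * (b⁻¹ * u * b) * (a * b)⁻¹ = a * u * a⁻¹ by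
      intros; group] at this
  exact h2 ▸ Tm.mul_mem ((by decide +kernel : All 168 fun k => el 0 k * eh 128 * (el 0 k)⁻¹ ∈ Tm →
    el 0 k * eh 512 * (el 0 k)⁻¹ ∈ Tm → el 0 k ∈ Tm) k hk (h4 _ (eh_T (by norm_num)))
      (h4 _ (eh_T (by norm_num)))) h3

def tiv : ℕ := 0xcff3bcdf33c3f0bc1f038b6298962183609816017f9f87d9f07b9e8799e0368d8348d0328c8308c01f87d1ec781d8751cc701bc6e1a46819c661846017c5d1685815c551485012c4a1244810c42104400fc3b0dc330b4290942103c0d02c0901c0500c01cf334ce330cb324ca3208f2348e2308b2248a220c7314c6310c3304c2300872148621083204822004f1344e1304b1244a1200f0340e0300b0240a0206799666992639866298227896268922388622882671946619063184621802709426090230842208047916469124390642902078160681203806028024711446110431044210007014060100300402000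

def tix : ℕ := 0xffffffffffffffffffffffffffffffffffffffffffffffffffffffffffffffffffffffffffffffffffffffffffffffffffffffffffffffffffffffffffffffffffffffffffffffffffffffffffffffffffffffffffffffffffffffffffffffffffffffffffffffffffffffffffffffffffffffffffffffffffffffffffffffffffffffffffffffffffffffffffffffffffffffffffffffffffffffffffffffffffffffffffffffffffffffffffffffffffffffffffffffffffffffffffffffffbfffff6fbeffff6dbdffff6ebcffff6cffffff6bffffff69ffffff6affffff68ffffff5fffffff5dffffff5effffff5cbbffff5bbaffff59b9ffff5ab8ffff58ffffffffffffffffffffffffffffffffffffffffffffffffffffffffffffffffffffffffffffffffffffffffffffffffffffffffffffffffffffffffffffffffffffffffffffffffffffffffffffffffffffffffffffffffffffffffffffffffffffffffffffffffffffffffffffffffffffffffffffffffffffffffffffffffffffffffffffffffffffffffffffffffffffffffffffffffffffffffffffffffffffffffffffffffffffffffffffffffffffffffffffffffffffffffffffffffffffff67ffffff65ffffff66ffffff64ffffb763ffffb661ffffb562ffffb460ffffff57ffffff55ffffff56ffffff54ffffb353ffffb25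1ffffb152ffffb050ffafffffffffffaeffadffffffffffacffabffffffffffaaffa9ffffffffffa8ffffffffffffffffffffffffffffffffffffffffffffffffffffffffffffffffffffffffffffffffffffffffffffffffffffffffffffffffffffffffffffffffff3fff2fff3dff2dff3eff2eff3cff2cff3bff2bff39ff29ff3aff2aff38ff28ffffffffffffffffffffffffffffffffffffffffffffffffffffffffffffffffffffffffffffffffffffffffffffffffffffffffffffffffffffffffffffffffffffff4fffffff4dffffff4effffff4cffffff4bffffff49ffffff4affffff48ff1fff0fff1dff0dff1eff0eff1cff0cff1bff0bff19ff09ff1aff0aff18ff08ffffffffffffffffffffffffffffffffffffffffffffffffffffffffffffffffffffffffffa7ffa6ffffffffffa5ffa4ffffffffffa3ffa2ffffffffffa1ffa0ffffffffffffffffffffffffffffffffffffffffffffffffffffffffffffffffff37ff27ff35ff25ff36ff26ff34ff24ff33ff23ff31ff21ff32ff22ff30ff20ff9f9eff9dffff9cff9b9aff99ffff989796ffffffff95949392ffffffff91908fff8effff8dff8c8bff8affff89ff88ffffffff87868584ffffffff838281807fffff477effff457dffff467cffff44ffff7b43ffff7a41ffff7942ffff7840ff17ff07ff15ff05ff16ff06ff14ff0477137603751174017312720271107000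

def tcl : ℕ := 0x444444444444444455555555555555553331333133313331333133313331333133333333000000002662555555552662555562625555626255555555331133112644624444264462446244624462446244444444333300002662626233110078

def tw : ℕ := 0x5182a341468a8c05122a241440a8805082a141428a8405022a041400a80030426088c11982030066008c00980028425088a11942028065008a00940015021a043c0868115001a003c006800e02280430086010e00280030006000b02120444084810b00120044004800a02200420084010a0020002000400230242048c010802202400488010000b20124028804100b00120028004005182a30546028c05182a30d46128c05082a10d42128405082a10542028405106a20544128805102a20544028805006a00540128005002a00540028000082010c02100400006000400100005102a20084090805002a000800900030426084c10984130026004c30980128425184a10942128825004a00940130806080c10182030c06000c00180028c05080a10142028805000a00140000820184030004000420004010000030026000a009400144028004100800008201040200040000200040000000000200000008000008000000000000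

def tX : ℕ := 0xdfbb6ecd7ab4e8cf9b2e4c78b0e0bf7aedcb76acd8af5aad4a74a8d09f3a6cc972a4c88f1a2c4870a0c01e3868c16284880e1828406080807ef9ebc76e9cb86ed9ab466c98b05eb96ac56a94a84e992a446890a03e78e9c3668c982e58a9426488901e3868c16284880e182840608080

def tP : ℕ := 0xffef7cefae78df6d74cf2c70beeb6caeaa689e69648e28607de75c6da6585d65544d24500000000000000000000000000000000000000000000000000000000000000000000000003ce34c2ca2481c61440c2040000000000000000000000000000000000000000000000000000000000000000000000000000000000000000000000000000000000000000000000000000000000000000000000000000000000000000000000000000000000000000000000000000000000000000000000000000000000000000000000000000000000000000000000000000000000000000000000000ffef7cefae78df6d74cf2c70beeb6caeaa689e69648e28607de75c6da6585d65544d24503ce34c2ca2481c61440c2040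

def tp : ℕ := 0x4f0a8000004f0a8000a80013c000a80013c001e46b000001e46b000001e4001ac001e4001ac0000000000000000000000000000000000000000000000000000000000000000000000000000000000000000000000000000000000000000000000000000000000000000000000000000000000000000000000000000000000000000000000000000000000000000000000000000000000000000000000000000000000000000000000000000000000000000000000000000000000000000000000000000000000

/-- The solutions of `x ^ 2 = 1` in the Sylow subgroup. -/
def iv (i : ℕ) : Hm := eh (look tiv 10 1023 i)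

/-- The position of a solution. -/
def pos (h : Hm) : ℕ := look tix 8 255 (ind h)

/-- The class of a solution. -/
def cl (i : ℕ) : ℕ := look tcl 4 15 i

/-- The representatives of the classes. -/
def rep (c : ℕ) : Hm := iv (look 0x109481806080402 8 255 c)

/-- The positions of the elements of the two elementary abelian subgroups of order `64`. -/
def ix (j : Fin 2) (m : ℕ) : ℕ := look tX 7 127 (Nat.add (Nat.mul 64 j) (Nat.land m 63))

/-- The elements of the two elementary abelian subgroups of order `64`. -/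
def A (j : Fin 2) (m : ℕ) : Hm := iv (ix j m)

/-- The coordinates of an element of one of these subgroups. -/
def co (j : Fin 2) (h : Hm) : ℕ := look tP 6 63 (Nat.add (Nat.mul 256 j) (pos h))

theorem co_lt (j : Fin 2) (h : Hm) : co j h < 2 ^ 6 := Nat.and_lt_two_pow _ (by norm_num)

theorem iv_T (i : ℕ) : iv i ∈ Tm := eh_T (Nat.and_lt_two_pow _ (by norm_num : 1023 < 2 ^ 10))

theorem iv_spec : All 192 fun i => iv i * iv i = 1 ∧ pos (iv i) = i ∧ (i = 0 ∨ cl i < 8 ∧
    eh (look tw 15 32767 i) * rep (cl i) = iv i * eh (look tw 15 32767 i)) := by decide +kernel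

theorem iv_zero : iv 0 = 1 := by decide +kernel

theorem sq_spec : ∀ u ∈ Tm, u * u = 1 → pos u < 192 ∧ u = iv (pos u) :=
  forall_T (by decide +kernel)

theorem ix_mod (j : Fin 2) (m : ℕ) : ix j (m % 64) = ix j m := by
  have : Nat.land (m % 64) 63 = Nat.land m 63 := by
    change m % 64 &&& 63 = m &&& 63
    rw [Nat.and_two_pow_sub_one_eq_mod _ 6, Nat.and_two_pow_sub_one_eq_mod _ 6, Nat.mod_mod]
  rw [ix, ix, this]

theorem ix_lt (j : Fin 2) (m : ℕ) : ix j m < 192 :=
  (Nat.and_lt_two_pow _ (by norm_num : 127 < 2 ^ 7)).trans (by norm_num)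

theorem A_mod (j : Fin 2) (m : ℕ) : A j (m % 64) = A j m := by rw [A, A, ix_mod]

theorem A_mul (j : Fin 2) (m n : ℕ) : A j m * A j n = A j (m ^^^ n) := by
  rw [← A_mod j m, ← A_mod j n, ← A_mod j (m ^^^ n), Nat.xor_mod_two_pow (n := 6)]
  exact (by decide +kernel : ∀ j, All 64 fun m => All 64 fun n => A j m * A j n = A j (m ^^^ n)) j _
    (Nat.mod_lt _ (by norm_num)) _ (Nat.mod_lt _ (by norm_num))

theorem co_A : ∀ j, All 64 fun m => co j (A j m) = m := by decide +kernel

theorem A_zero : ∀ j, A j 0 = 1 := by decide +kernel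

theorem A_one : ∀ j, A j 1 = z := by decide +kernel

theorem A_E : ∀ j, All 16 fun m => A j m = A 0 m := by decide +kernel

theorem iv_lt : All 112 fun i => (i < 64 ∧ iv i = A 0 i) ∨ (64 ≤ i ∧ iv i = A 1 (i - 48)) := by
  decide +kernel

theorem big_cent : All 192 fun b => 112 ≤ b →
    cntN (fun i => decide (iv i * iv b = iv b * iv i)) 192 < 64 := by decide +kernel

theorem noncomm : All 64 fun m => 16 ≤ m → All 64 fun n => 16 ≤ n →
    A 0 m * A 1 n ≠ A 1 n * A 0 m := by decide +kernel

theorem mem_T_of {h : Hm} (h1 : h * A 0 2 = A 0 2 * h) (h2 : h * A 0 4 = A 0 4 * h) : h ∈ Tm :=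
  ⟨Or.inl ((by decide +kernel : A 0 2 = eh 4) ▸ h1), Or.inl ((by decide +kernel : A 0 4 = eh 16) ▸ h2)⟩

theorem cent_A (j : Fin 2) : ∀ u ∈ Tm, (All 6 fun i => u * A j (2 ^ i) = A j (2 ^ i) * u) →
    u = A j (co j u) := forall_T ((by decide +kernel : ∀ j, All 1024 fun l =>
      (All 6 fun i => eh l * A j (2 ^ i) = A j (2 ^ i) * eh l) → eh l = A j (co j (eh l))) j)

/-- The commutators of the two elementary abelian subgroups. -/
def K (m : ℕ) : Prop := m < 16 ∧ Nat.testBit 38207 m = true

instance decK (m : ℕ) : Decidable (K m) := inferInstanceAs (Decidable (_ ∧ _))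

theorem comm_K : All 64 fun a => All 64 fun b => K (co 0 (A 0 a * A 1 b * (A 0 a * A 1 b))) ∧
    A 0 a * A 1 b * (A 0 a * A 1 b) = A 0 (co 0 (A 0 a * A 1 b * (A 0 a * A 1 b))) := by
  decide +kernel

theorem K_comm : All 16 fun k => K k → A 0 (look 59421273056774944496268936192 6 63 k) * A 1 (look 59421348596191926302263084032 6 63 k) *
    (A 0 (look 59421273056774944496268936192 6 63 k) * A 1 (look 59421348596191926302263084032 6 63 k)) = A 0 k := by decide +kernel

/-- The centralizer of the intersection. -/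
def InR (u : Hm) : Prop := All 4 fun i => u * A 0 (2 ^ i) = A 0 (2 ^ i) * u

instance decInR (u : Hm) : Decidable (InR u) := inferInstanceAs (Decidable (All _ _))

theorem sq_R : ∀ u ∈ Tm, InR u → K (co 0 (u * u)) ∧ u * u = A 0 (co 0 (u * u)) :=
  forall_T (by decide +kernel)

theorem iv_R : All 192 fun i => InR (iv i) ↔ i < 112 := by decide +kernel

theorem cent_pair : All 16 fun p => ¬ K p → All 16 fun q => ¬ K q → ¬ K (p ^^^ q) →
    All 1024 fun l => eh l * A 0 p = A 0 p * eh l → eh l * A 0 q = A 0 q * eh l → InR (eh l) := by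
  decide +kernel

theorem cent_t : ∀ h : Hm, h * A 0 6 = A 0 6 * h → h ∈ Tm := by decide +kernel

theorem center_S : All 192 fun i => (∀ s ∈ [32, 65, 132], eh s * iv i = iv i * eh s) →
    i = 0 ∨ i = 1 ∨ i = 6 ∨ i = 7 := by decide +kernel

theorem gens_S : ∀ s ∈ [32, 65, 132], eh s * A 0 6 = A 0 6 * eh s := by decide +kernel

theorem outer_S : All 192 fun i => 112 ≤ i → iv i * A 0 6 = A 0 6 * iv i →
    eh (look tp 10 1023 i) * eh (look tp 10 1023 i) = z ∧
    eh (look tp 10 1023 i) * A 0 6 = A 0 6 * eh (look tp 10 1023 i) ∧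
    eh (look tp 10 1023 i) * iv i = iv i * eh (look tp 10 1023 i) ∧
    Ex 192 fun l => z * iv i = iv l ∧ cl l = 3 := by decide +kernel

end Cfsg.Agent.Lib.HeldFacts
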