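import Cfsg.Agent.Lib.HeAN0
import Cfsg.Agent.Lib.HeldHeN0

set_option autoImplicit false
set_option maxRecDepth 100000

namespace Cfsg.Agent.Lib.HeldHe
open Cfsg.Agent.Lib.PermNet

noncomputable def nets : NL := (.cons HeA.net0 (.cons HeA.net1 (.cons HeA.net2 (.cons HeA.net3 (.cons HeA.net4 (.cons HeA.net5 (.cons HeA.net6 (.cons net7 (.cons net8 (.cons net9 (.cons net10 (.cons net11 (.cons net12 (.cons net13 (.cons net14 .nil)))))))))))))))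

theorem hv : nets.Valid 2058 := ⟨HeA.valid0, ⟨HeA.valid1, ⟨HeA.valid2, ⟨HeA.valid3, ⟨HeA.valid4, ⟨HeA.valid5, ⟨HeA.valid6, ⟨valid7, ⟨valid8, ⟨valid9, ⟨valid10, ⟨valid11, ⟨valid12, ⟨valid13, ⟨valid14, trivial⟩⟩⟩⟩⟩⟩⟩⟩⟩⟩⟩⟩⟩⟩⟩

def rels0 : List (List Nat × List Nat) := [([15, 0], []),
  ([17, 10, 6, 12, 6, 10, 2, 0, 2], []),
  ([19, 4, 8, 6, 10, 4, 6, 2, 4, 6, 10, 2, 4, 6, 8, 4], []),
  ([21, 10, 8, 6, 4, 6, 12, 6, 4, 6, 10, 8, 0], []),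
  ([23, 6, 10, 6, 4, 6, 4, 2, 10, 6, 8, 4, 6, 4, 6, 10, 2, 4, 6, 4, 6, 10, 6, 0], []),
  ([25, 8, 6, 10, 6, 4, 6, 2, 4, 6, 2, 4, 6, 10, 6, 8], []),
  ([27, 0, 6, 12, 6, 8, 4, 6, 2, 4, 6, 8, 2, 4, 6, 12, 6, 0], []),
  ([29, 6, 10, 6, 8, 4, 6, 4, 6, 10, 6, 2, 0, 2], []),
  ([14, 16], [16, 14]),
  ([14, 18, 14, 18], [18, 14, 18, 14]),
  ([14, 20], [20, 14]),
  ([14, 24, 14, 24], [24, 14, 24, 14]),
  ([14, 26, 14, 26], [26, 14, 26, 14]),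
  ([16, 18], [18, 16]),
  ([16, 20, 16, 20], [20, 16, 20, 16]),
  ([16, 24, 16, 24], [24, 16, 24, 16]),
  ([16, 26, 16, 26], [26, 16, 26, 16]),
  ([18, 20, 18, 20], [20, 18, 20, 18]),
  ([18, 24, 18], [24, 18, 24]),
  ([18, 26, 18, 26], [26, 18, 26, 18]),
  ([20, 24, 20, 24], [24, 20, 24, 20]),
  ([20, 26, 20], [26, 20, 26]),
  ([24, 26, 24, 26], [26, 24, 26, 24]),
  ([16, 20, 26, 16, 20], [26, 20, 16, 26]),
  ([16, 20, 26, 20], [20, 26, 20, 16]),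
  ([14, 16, 26], [26, 16, 14]),
  ([16, 18, 26, 16, 18, 26], [26, 18, 16, 26, 18, 16]),
  ([18, 26, 20, 26], [26, 20, 26, 18]),
  ([20, 24, 20, 26, 20, 24], [26, 20, 24, 20, 26, 20]),
  ([14, 16, 20, 14, 20], [20, 14, 20, 16, 14]),
  ([14, 18, 24, 14, 18], [24, 18, 14, 24]),
  ([18, 20, 26, 20], [20, 26, 20, 18]),
  ([18, 24, 20, 24], [24, 20, 24, 18]),
  ([14, 24, 18, 24], [24, 18, 24, 14]),
  ([14, 16, 24], [24, 16, 14]),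
  ([14, 20, 24, 18, 26, 14, 20, 24], [26, 18, 24, 20, 14, 26, 18]),
  ([16, 18, 20, 26, 20], [20, 26, 20, 18, 16]),
  ([18, 20, 18, 24], [24, 18, 20, 18]),
  ([14, 16, 24, 26, 24], [24, 26, 24, 16, 14]),
  ([14, 22, 14], [22, 14, 22]),
  ([14, 28], [28, 14]),
  ([16, 22], [22, 16]),
  ([16, 28, 16], [28, 16, 28]),
  ([18, 22, 18, 22], [22, 18, 22, 18]),
  ([18, 28], [28, 18]),
  ([20, 22], [22, 20]),
  ([20, 28, 20, 28], [28, 20, 28, 20]),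
  ([22, 26, 22, 26], [26, 22, 26, 22]),
  ([22, 28], [28, 22]),
  ([26, 28, 26, 28, 26], [28, 26, 28, 26, 28]),
  ([14, 20, 22, 26, 28, 14, 20, 22, 26, 28], [28, 26, 22, 20, 14, 28, 26, 22, 20, 14]),
  ([16, 20, 16, 28], [28, 16, 20, 16]),
  ([16, 22, 26], [26, 22, 16]),
  ([14, 18, 22, 14, 18], [22, 18, 14, 22]),
  ([14, 22, 18, 22], [22, 18, 22, 14]),
  ([16, 22, 16, 22, 28], [28, 22, 16, 22, 16]),
  ([18, 20, 22, 20, 22], [22, 20, 22, 20, 18]),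
  ([16, 26, 20, 28, 26], [26, 28, 20, 26, 16]),
  ([16, 26, 28, 20, 28], [28, 20, 28, 26, 16]),
  ([20, 22, 20, 22, 28], [28, 22, 20, 22, 20]),
  ([16, 20, 16, 20, 22], [22, 20, 16, 20, 16]),
  ([18, 20, 22, 18, 20, 22], [22, 20, 18, 22, 20, 18]),
  ([14, 16, 28, 20, 22, 14, 16, 28], [22, 20, 28, 16, 14, 22, 20]),
  ([20, 26, 14, 28, 26, 20, 26, 28, 14, 26, 20, 26, 14, 28, 26], [26, 14, 28, 26, 20, 26, 28, 14, 26, 20, 26, 14, 28, 26, 20]),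
  ([22, 24, 22, 24, 22], [24, 22, 24, 22, 24]),
  ([24, 28, 24, 28], [28, 24, 28, 24]),
  ([16, 22, 24, 20, 24], [24, 20, 24, 22, 16]),
  ([16, 22, 16, 22, 24], [24, 22, 16, 22, 16]),
  ([16, 24, 28, 24, 28], [28, 24, 28, 24, 16]),
  ([14, 24, 28], [28, 24, 14]),
  ([14, 14], []),
  ([16, 16], []),
  ([18, 18], []),
  ([20, 20], []),
  ([24, 24], []),
  ([26, 26], []),
  ([22, 22], []),
  ([28, 28], []),
  ([0], [14]),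
  ([2], [26, 18, 20, 16, 26, 14, 16, 14, 28, 26, 20, 26, 22, 24, 22, 28, 18, 14, 24, 16, 20, 16, 26, 28, 22, 14, 26, 28, 26, 18, 24, 22, 24, 18, 20]),
  ([4], [16, 24, 18, 22, 14, 28, 26, 24, 28, 22, 24, 26, 24, 28, 16]),
  ([6], [14, 20, 16, 24, 22, 26, 24, 22, 24, 26, 22, 24, 16, 20]),
  ([8], [14, 20, 16, 24, 28, 26, 24, 22, 24, 26, 28, 24, 16, 20]),
  ([10], [16, 24, 20, 22, 28, 26, 24, 28, 22, 18, 24, 26, 24, 28, 16]),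
  ([12], [28, 26, 24, 22, 14, 20, 24, 28, 14, 18, 22, 16, 24, 28, 26, 16, 28, 26, 24, 28, 22, 20, 18, 24, 22, 26, 16])]
def rels : List (List Nat × List Nat) := rels0

def defs : List (List Nat) := [[0], [10, 6, 12, 6, 10, 2, 0, 2], [4, 8, 6, 10, 4, 6, 2, 4, 6, 10, 2, 4, 6, 8, 4], [10, 8, 6, 4, 6, 12, 6, 4, 6, 10, 8, 0], [6, 10, 6, 4, 6, 4, 2, 10, 6, 8, 4, 6, 4, 6, 10, 2, 4, 6, 4, 6, 10, 6, 0], [8, 6, 10, 6, 4, 6, 2, 4, 6, 2, 4, 6, 10, 6, 8], [0, 6, 12, 6, 8, 4, 6, 2, 4, 6, 8, 2, 4, 6, 12, 6, 0], [6, 10, 6, 8, 4, 6, 4, 6, 10, 6, 2, 0, 2]]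

end Cfsg.Agent.Lib.HeldHe
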