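import Mathlib
import Cfsg.Agent.Lib.HJModel

/-! A computable model of the centralizer of a transvection in `SL(5, 2)`: matrices are numbers
below `2 ^ 25`. -/

set_option autoImplicit false
set_option maxRecDepth 100000

namespace Cfsg.Agent.Lib.HeldModel

open Cfsg.Agent.Lib.HJModel (allN anyN allN_iff anyN_iff cntN cntN_eq force force_eq)

/-- A bounded universal statement. -/
def All (n : ℕ) (P : ℕ → Prop) : Prop := ∀ i < n, P i

/-- A bounded existential statement. -/
def Ex (n : ℕ) (P : ℕ → Prop) : Prop := ∃ i < n, P i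

instance decAll (n : ℕ) (P : ℕ → Prop) [DecidablePred P] : Decidable (All n P) :=
  decidable_of_iff (allN (fun v => decide (P v)) n = true)
    ⟨fun h i hi => of_decide_eq_true (allN_iff.mp h i hi),
      fun h => allN_iff.mpr fun i hi => decide_eq_true (h i hi)⟩

instance decEx (n : ℕ) (P : ℕ → Prop) [DecidablePred P] : Decidable (Ex n P) :=
  decidable_of_iff (anyN (fun v => decide (P v)) n = true)
    ⟨fun h => (anyN_iff.mp h).elim fun i h => ⟨i, h.1, of_decide_eq_true h.2⟩,
      fun ⟨i, h1, h2⟩ => anyN_iff.mpr ⟨i, h1, decide_eq_true h2⟩⟩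

/-- One term of the matrix product. -/
def st (a b k l : ℕ) : ℕ := Nat.land (Nat.mul (Nat.land (Nat.shiftRight a k) 0x108421) 31)
  (Nat.mul (Nat.land (Nat.shiftRight b l) 31) 0x108421)

/-- The matrix product. -/
def mulc (a b : ℕ) : ℕ := force a fun a => force b fun b =>
  Nat.xor (Nat.xor (Nat.xor (Nat.xor (st a b 0 0) (st a b 1 5)) (st a b 2 10)) (st a b 3 15))
    (st a b 4 20)

theorem land_col (y : ℕ) : y &&& 0x108421 = (y.testBit 0).toNat + 32 * (y.testBit 5).toNat +
    1024 * (y.testBit 10).toNat + 32768 * (y.testBit 15).toNat +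
      1048576 * (y.testBit 20).toNat := by
  refine Nat.eq_of_testBit_eq fun n => ?_
  rw [Nat.testBit_and]
  by_cases hn : n < 25
  · have key : ∀ a b c d e : Bool, ∀ n < 25, (a.toNat + 32 * b.toNat + 1024 * c.toNat +
        32768 * d.toNat + 1048576 * e.toNat).testBit n = (n == 0 && a || n == 5 && b ||
          n == 10 && c || n == 15 && d || n == 20 && e) := by decide +kernel
    rw [key _ _ _ _ _ n hn]
    interval_cases n <;> simp <;> intro <;> decide
  · have h1 : 2 ^ 25 ≤ 2 ^ n := Nat.pow_le_pow_right (by norm_num) (by omega)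
    have key : ∀ a b c d e : Bool, a.toNat + 32 * b.toNat + 1024 * c.toNat +
        32768 * d.toNat + 1048576 * e.toNat < 2 ^ 25 := by decide +kernel
    rw [Nat.testBit_lt_two_pow (x := 0x108421) (by omega), Bool.and_false,
      Nat.testBit_lt_two_pow ((key _ _ _ _ _).trans_le h1)]

theorem st_lt (a b k l : ℕ) : st a b k l < 2 ^ 25 := by
  refine Nat.and_lt_two_pow _ ?_
  have : b >>> l &&& 31 ≤ 31 := Nat.and_le_right
  change (b >>> l &&& 31) * 0x108421 < _
  omega

theorem testBit_st (a b k l : ℕ) {i j : ℕ} (hi : i < 5) (hj : j < 5) :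
    (st a b k l).testBit (5 * i + j) = (a.testBit (5 * i + k) && b.testBit (l + j)) := by
  have k1 : ∀ a b c d e : Bool, ∀ i < 5, ∀ j < 5, ((a.toNat + 32 * b.toNat + 1024 * c.toNat +
      32768 * d.toNat + 1048576 * e.toNat) * 31).testBit (5 * i + j) = (i == 0 && a || i == 1 && b ||
        i == 2 && c || i == 3 && d || i == 4 && e) := by decide +kernel
  have k2 : ∀ r < 32, ∀ i < 5, ∀ j < 5, (r * 0x108421).testBit (5 * i + j) = r.testBit j := by
    decide +kernel
  have k3 : ∀ j < 5, Nat.testBit 31 j = true := by decide +kernel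
  change (((a >>> k &&& 0x108421) * 31) &&& ((b >>> l &&& 31) * 0x108421)).testBit _ = _
  rw [Nat.testBit_and, land_col, k1 _ _ _ _ _ i hi j hj,
    k2 _ (Nat.lt_succ_of_le Nat.and_le_right) i hi j hj, Nat.testBit_and, k3 j hj]
  simp only [Nat.testBit_shiftRight, Bool.and_true]
  congr 1
  interval_cases i <;> simp [add_comm]

theorem mulc_eq (a b : ℕ) : mulc a b =
    st a b 0 0 ^^^ st a b 1 5 ^^^ st a b 2 10 ^^^ st a b 3 15 ^^^ st a b 4 20 := by
  rw [mulc, force_eq, force_eq]; rfl

theorem mulc_lt (a b : ℕ) : mulc a b < 2 ^ 25 := by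
  rw [mulc_eq]
  exact Nat.xor_lt_two_pow (Nat.xor_lt_two_pow (Nat.xor_lt_two_pow (Nat.xor_lt_two_pow
    (st_lt _ _ _ _) (st_lt _ _ _ _)) (st_lt _ _ _ _)) (st_lt _ _ _ _)) (st_lt _ _ _ _)

/-- The value of a bit. -/
def bv (b : Bool) : ZMod 2 := if b then 1 else 0

theorem bv_xor (a b : Bool) : bv (a ^^ b) = bv a + bv b := by revert a b; decide

theorem bv_and (a b : Bool) : bv (a && b) = bv a * bv b := by revert a b; decide

theorem bv_inj {a b : Bool} (h : bv a = bv b) : a = b := by revert a b; decide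

/-- The order of the basis. -/
def ht : Fin 5 → ℕ := ![0, 4, 1, 2, 3]

theorem ht_lt (i : Fin 5) : ht i < 5 := by revert i; decide

/-- The matrix of a number. -/
def toM (v : ℕ) : Matrix (Fin 5) (Fin 5) (ZMod 2) :=
  Matrix.of fun i j => bv (v.testBit (5 * ht i + ht j))

theorem toM_mul (a b : ℕ) : toM (mulc a b) = toM a * toM b := by
  ext i j
  have hi := ht_lt i
  have hj := ht_lt j
  simp only [toM, Matrix.of_apply, Matrix.mul_apply, Fin.sum_univ_five, mulc_eq, Nat.testBit_xor,
    testBit_st _ _ _ _ hi hj, bv_xor, bv_and]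
  simp only [ht, Matrix.cons_val_zero, Matrix.cons_val_one, Matrix.cons_val]
  ring

theorem toM_inj {a b : ℕ} (ha : a < 2 ^ 25) (hb : b < 2 ^ 25) (h : toM a = toM b) : a = b := by
  refine Nat.eq_of_testBit_eq fun n => ?_
  by_cases hn : n < 25
  · obtain ⟨i, j, rfl⟩ := (by decide : ∀ n < 25, ∃ i j, n = 5 * ht i + ht j) n hn
    exact bv_inj (congrFun (congrFun h i) j)
  · have h1 : 2 ^ 25 ≤ 2 ^ n := Nat.pow_le_pow_right (by norm_num) (by omega)
    rw [Nat.testBit_lt_two_pow (ha.trans_le h1), Nat.testBit_lt_two_pow (hb.trans_le h1)]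

theorem exists_toM (A : Matrix (Fin 5) (Fin 5) (ZMod 2)) : ∃ v < 2 ^ 25, toM v = A := by
  have h : Function.Bijective fun v : Fin (2 ^ 25) => toM v :=
    (Function.Injective.bijective_of_nat_card_le (fun a b h => Fin.ext (toM_inj a.2 b.2 h)) (by
      rw [Nat.card_fin, Matrix, Nat.card_fun, Nat.card_fun, Nat.card_zmod, Nat.card_fin]
      norm_num))
  obtain ⟨v, hv⟩ := h.2 A
  exact ⟨v, v.2, hv⟩

/-- The identity. -/
def onec : ℕ := 17043521

/-- The transvection. -/
def zc : ℕ := 17043537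

theorem toM_one : toM onec = 1 := by decide +kernel

theorem toM_zero : toM 0 = 0 := by decide +kernel

theorem toM_z : toM zc = Matrix.transvection 0 1 1 := by decide +kernel

/-- The numbers of the elements of the centralizer. -/
def Valid (v : ℕ) : Prop := v < 2 ^ 25 ∧ (toM v).det = 1 ∧ mulc v zc = mulc zc v

theorem Valid.mul {a b : ℕ} (ha : Valid a) (hb : Valid b) : Valid (mulc a b) := by
  refine ⟨mulc_lt _ _, by rw [toM_mul, Matrix.det_mul, ha.2.1, hb.2.1, mul_one],
    toM_inj (mulc_lt _ _) (mulc_lt _ _) ?_⟩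
  have h1 := congrArg toM ha.2.2
  have h2 := congrArg toM hb.2.2
  simp only [toM_mul] at h1 h2 ⊢
  rw [mul_assoc, h2, ← mul_assoc, h1, mul_assoc]

def tM : ℕ := 0xfafd3e7f2f77b3d7e9f3797c5e1ef777b5d9eb753a7d1e6f3397cadeef377bad7eb355a9d3e9747a1cfe733599cbe572791c6e33178abf5f2f779bbdd2e571b3d9ac762afd72b559ab552a751a7d3a974a9f4f6753997cba572a8f476351987c3a170a7f3f5f4f97bbd1e4f177bb1d4e973395c4e16bb59aad467b399acc5f2f176b95bad566b1572b156a953a9546a14fa793a9c47a391a8c3e9f0f67a3a9d0e672379b8d66a33998c6622f978ba5c2b958aa549bcd667318bc562711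

def tK : ℕ := 0xffffffffffffffffffffa7a6a5a4ffffffa3ffa2a1ffa0ffff9f9effff9d9cffff9b9affff9998ffff97ff9695ff94ffffff93929190ffffffffffffffffffffffff8f8e8d8cffffffffffffffffffff8bffff8aff8988ff87ff86ff85ff84ff83ffff82ff8180ff7fff7eff7dff7cffffff7b7a7978ffffffffffffffffffffff77ff7675ff74ff73ffff72ff7170ffffffffffffffffff6f6effff6d6cffff6bffff6aff6968ffff67ff6665ff64ff6362ffff6160ffffffffffffffffffffff5f5effff5d5cff07ff06ff05ff04ff5b5affff5958ffffffffffffffffffffff5756ffff5554ff03ff02ff01ff00ff5352ffff5150ffffffffffffffffffffff4f4effff4d4cff4bffff4aff4948ff47ffff46ff4544ffff4342ffff4140ffffffffffffffffff3f3e3d3cffffffff3b3a3938ffffffffffffffffffffffffff37ff3635ff34ff33ff32ff31ff30ffff2fff2e2dff2cff2bff2aff29ff28ff27262524ffffffffffffffffffffffff23222120ffffffffffffffffffffffffffff1f1e1d1cffffffff1b1a1918ffff1716ffff1514ffff1312ffff1110ffff0f0e0d0cffffffff0b0a0908ffffffffffffffffffffffffffffffffffffffffffffffffffffffffffffffffffffffffffffffffffffffffffffffffffffffffffffffffffffffffffffffffffffffffffffffffffffffffffffffffffffffff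

def tI : ℕ := 0x3dc5ebf3380000007d40073bb801e2000027556000023d7200006f75e000062f3200003540057a9803a20000001d47aad728000000000000000000000000003bc6e7f5380000000000000000000000ee800006b0053df2005a80166005b80162007e800006f0052fb200ca8032e00c9803220000001f46aed5280000000000000000000000007cc00757b802e200f5800005d0033ef2000000000000000000005727800005f238000077800007d0072eb2000035c0055e9802a200d56e80000cd6280000000000000000000000004ae3a000043e7200998026a009b80262008f4b800009f4380000000000000000000000004be7a000042e32008b8022a008980222009d4a800008d4280000000000000000000000006ef3e00006375200bd800005f00337d200af800007b00735d2000027d7600002355200000000000000000000ab35bac56000000000b97c9e4720000000000000000000000000000058c006772803c200d18034e00d280342000059c0063f2801c2005380146005280142007359bcc66000000000000000000000000000f1589c46200000000000000000000000000000002b87c76730000000002f85cf63300000ce6f00000d663000005e27000005623000007a7d2e874000000000ea352a854000000000000000000000000000000000000000000000000000000000000000000000000000000000000000000000000000000000000000000000000000000000000000000000000000000000000000000000000000000000000000000000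

def tW : ℕ := 0x7ab773d80036a28145603603603603a28145d800367ab773d80036c79e711f8e070410411f8e07041041d80036c79e71a281451f8e07bd2f520120121f8e07a28145012012bd2f526036030410410120126516516036030410410120126516516036031f8e071f8e076036037fb7230009240009247fb723a28145041041a28145041041000924a69861000924a69861d80036d80036012012012012000924000924d92912d929127ab773c79e71bd2f526516517fb723a69861d92912651651

/-- An entry of a table. -/
def look (t b k i : ℕ) : ℕ := Nat.land (Nat.shiftRight t (Nat.mul b i)) k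

/-- The matrix with a given unipotent part and a given middle block. -/
def pack (q m : ℕ) : ℕ := force q fun q => force m fun m =>
  Nat.lor (Nat.lor (Nat.lor 0x1000001 (Nat.shiftLeft (Nat.land q 15) 1))
    (Nat.land (Nat.mul (Nat.shiftRight q 4) 0x22200) 0x84200))
    (Nat.lor (Nat.lor (Nat.shiftLeft (Nat.land m 7) 6) (Nat.shiftLeft (Nat.land m 56) 8))
      (Nat.shiftLeft (Nat.land m 448) 10))

/-- The unipotent part. -/
def qof (v : ℕ) : ℕ := Nat.lor (Nat.lor (Nat.land (Nat.shiftRight v 1) 15)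
  (Nat.land (Nat.shiftRight v 5) 16)) (Nat.lor (Nat.land (Nat.shiftRight v 9) 32)
    (Nat.land (Nat.shiftRight v 13) 64))

/-- The middle block. -/
def mof (v : ℕ) : ℕ := Nat.lor (Nat.lor (Nat.land (Nat.shiftRight v 6) 7)
  (Nat.land (Nat.shiftRight v 8) 56)) (Nat.land (Nat.shiftRight v 10) 448)

/-- The enumeration. -/
def elc (q k : ℕ) : ℕ := pack (Nat.land q 127) (look tM 9 511 (Nat.mod k 168))

/-- The inverse. -/
def invc (v : ℕ) : ℕ := force v fun v => force (pack 0 (look tI 9 511 (mof v))) fun g =>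
  force (mulc g v) fun u => mulc (mulc u (mulc u u)) g

theorem elc_spec : All 168 fun k => All 128 fun q => elc q k < 2 ^ 25 ∧
    mulc (invc (elc q k)) (elc q k) = onec ∧ mulc (elc q k) zc = mulc zc (elc q k) ∧
      qof (elc q k) = q ∧ look tK 8 255 (mof (elc q k)) = k := by decide +kernel

theorem elc_mod (q k : ℕ) : elc q k = elc (q % 128) (k % 168) := by
  have h1 : Nat.land (q % 128) 127 = Nat.land q 127 := by
    change q % 128 &&& 127 = q &&& 127
    rw [Nat.and_two_pow_sub_one_eq_mod _ 7, Nat.and_two_pow_sub_one_eq_mod _ 7, Nat.mod_mod]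
  have h2 : Nat.mod (k % 168) 168 = Nat.mod k 168 := Nat.mod_mod _ _
  rw [elc, elc, h1, h2]

theorem det_eq_one {a b : ℕ} (h : mulc a b = onec) : (toM a).det = 1 ∧ (toM b).det = 1 := by
  have h1 := congrArg (fun v => (toM v).det) h
  simp only [toM_mul, Matrix.det_mul, toM_one, Matrix.det_one] at h1
  generalize (toM a).det = x at h1
  generalize (toM b).det = y at h1
  revert x y
  decide

theorem valid_elc (q k : ℕ) : Valid (elc q k) := by
  rw [elc_mod]
  obtain ⟨h1, h2, h3, -⟩ := elc_spec _ (Nat.mod_lt k (by norm_num)) _ (Nat.mod_lt q (by norm_num))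
  exact ⟨h1, (det_eq_one h2).2, h3⟩

theorem qof_lt (v : ℕ) : qof v < 2 ^ 7 :=
  Nat.or_lt_two_pow (Nat.or_lt_two_pow (Nat.and_lt_two_pow _ (by norm_num))
    (Nat.and_lt_two_pow _ (by norm_num))) (Nat.or_lt_two_pow (Nat.and_lt_two_pow _ (by norm_num))
      (Nat.and_lt_two_pow _ (by norm_num)))

theorem mof_lt (v : ℕ) : mof v < 2 ^ 9 :=
  Nat.or_lt_two_pow (Nat.or_lt_two_pow (Nat.and_lt_two_pow _ (by norm_num))
    (Nat.and_lt_two_pow _ (by norm_num))) (Nat.and_lt_two_pow _ (by norm_num))

theorem pack_spec : All 512 fun m => All 128 fun q => pack q m < 2 ^ 25 ∧ qof (pack q m) = q ∧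
    mof (pack q m) = m ∧ Nat.land (pack q m) 0x1f08421 = 0x1000001 := by decide +kernel

theorem tb_q (v : ℕ) : ∀ n < 7, (qof v).testBit n = v.testBit ([1, 2, 3, 4, 9, 14, 19].getD n 0) := by
  intro n hn
  simp only [qof, Nat.lor_eq, Nat.land_eq, Nat.shiftRight_eq, Nat.testBit_or, Nat.testBit_and,
    Nat.testBit_shiftRight]
  interval_cases n <;> simp [Nat.testBit_eq_decide_div_mod_eq]

theorem tb_m (v : ℕ) :
    ∀ n < 9, (mof v).testBit n = v.testBit ([6, 7, 8, 11, 12, 13, 16, 17, 18].getD n 0) := by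
  intro n hn
  simp only [mof, Nat.lor_eq, Nat.land_eq, Nat.shiftRight_eq, Nat.testBit_or, Nat.testBit_and,
    Nat.testBit_shiftRight]
  interval_cases n <;> simp [Nat.testBit_eq_decide_div_mod_eq]

theorem Valid.eq_pack {v : ℕ} (h : Valid v) : v = pack (qof v) (mof v) := by
  obtain ⟨h1, h2, h3, h4⟩ := pack_spec _ (mof_lt v) _ (qof_lt v)
  generalize pack (qof v) (mof v) = w at *
  have hc := congrArg toM h.2.2
  rw [toM_mul, toM_mul, toM_z] at hc
  have c0 : Matrix.single 0 1 (1 : ZMod 2) * toM v = toM v * Matrix.single 0 1 (1 : ZMod 2) := by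
    simpa [Matrix.transvection, add_mul, mul_add] using hc.symm
  have c1 : ∀ b, b ≠ 1 → toM v 1 b = 0 := fun b hb => by
    simpa [hb] using congrFun (congrFun c0 0) b
  have c2 : ∀ a, a ≠ 0 → toM v a 0 = 0 := fun a ha => by
    simpa [ha] using (congrFun (congrFun c0 a) 1).symm
  have c3 : toM v 1 1 = toM v 0 0 := by simpa using congrFun (congrFun c0 0) 1
  have c4 : toM v 0 0 = 1 := by
    by_contra hne
    have h0 : toM v 0 0 = 0 := (by decide : ∀ x : ZMod 2, x ≠ 1 → x = 0) _ hne
    have := Matrix.det_eq_zero_of_column_eq_zero (A := toM v) 0 fun a => by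
      by_cases ha : a = 0
      · rwa [ha]
      · exact c2 a ha
    rw [h.2.1] at this
    exact one_ne_zero this
  have b0 : ∀ {b : Bool}, bv b = 0 → b = false := by decide
  have b1 : ∀ {b : Bool}, bv b = 1 → b = true := by decide
  have d0 : v.testBit 0 = true := b1 c4
  have d24 : v.testBit 24 = true := b1 (c3.trans c4)
  have d5 : v.testBit 5 = false := b0 (c2 2 (by decide))
  have d10 : v.testBit 10 = false := b0 (c2 3 (by decide))
  have d15 : v.testBit 15 = false := b0 (c2 4 (by decide))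
  have d20 : v.testBit 20 = false := b0 (c2 1 (by decide))
  have d21 : v.testBit 21 = false := b0 (c1 2 (by decide))
  have d22 : v.testBit 22 = false := b0 (c1 3 (by decide))
  have d23 : v.testBit 23 = false := b0 (c1 4 (by decide))
  have e2 := fun n hn => (tb_q w n hn).symm.trans (h2 ▸ tb_q v n hn)
  have e3 := fun n hn => (tb_m w n hn).symm.trans (h3 ▸ tb_m v n hn)
  have e4 : ∀ n, Nat.testBit 0x1f08421 n = true → w.testBit n = Nat.testBit 0x1000001 n :=
    fun n hn => by
      rw [← h4, Nat.land_eq, Nat.testBit_and, hn, Bool.and_true]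
  refine Nat.eq_of_testBit_eq fun n => ?_
  by_cases hn : n < 25
  · interval_cases n
    exacts [d0.trans (e4 0 rfl).symm, (e2 0 (by decide)).symm, (e2 1 (by decide)).symm,
      (e2 2 (by decide)).symm, (e2 3 (by decide)).symm, d5.trans (e4 5 rfl).symm,
      (e3 0 (by decide)).symm, (e3 1 (by decide)).symm, (e3 2 (by decide)).symm,
      (e2 4 (by decide)).symm, d10.trans (e4 10 rfl).symm,
      (e3 3 (by decide)).symm, (e3 4 (by decide)).symm, (e3 5 (by decide)).symm,
      (e2 5 (by decide)).symm, d15.trans (e4 15 rfl).symm,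
      (e3 6 (by decide)).symm, (e3 7 (by decide)).symm, (e3 8 (by decide)).symm,
      (e2 6 (by decide)).symm, d20.trans (e4 20 rfl).symm, d21.trans (e4 21 rfl).symm,
      d22.trans (e4 22 rfl).symm, d23.trans (e4 23 rfl).symm, d24.trans (e4 24 rfl).symm]
  · have h5 : 2 ^ 25 ≤ 2 ^ n := Nat.pow_le_pow_right (by norm_num) (by omega)
    rw [Nat.testBit_lt_two_pow (h.1.trans_le h5), Nat.testBit_lt_two_pow (h1.trans_le h5)]

theorem sing_spec : All 512 fun m => (look tK 8 255 m < 168 ∧
    look tM 9 511 (Nat.mod (look tK 8 255 m) 168) = m) ∨ All 128 fun q => Ex 2 fun e =>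
      force (look tW 3 7 m) (fun w => Nat.lor e (Nat.land (Nat.mul w 0x2220) 0x8420)) ≠ 0 ∧
      force (look tW 3 7 m) (fun w => Nat.lor e (Nat.land (Nat.mul w 0x2220) 0x8420)) < 2 ^ 25 ∧
      mulc (pack q m)
        (force (look tW 3 7 m) fun w => Nat.lor e (Nat.land (Nat.mul w 0x2220) 0x8420)) = 0 := by
  decide +kernel

theorem Valid.eq_elc {v : ℕ} (h : Valid v) :
    look tK 8 255 (mof v) < 168 ∧ v = elc (qof v) (look tK 8 255 (mof v)) := by
  rcases sing_spec _ (mof_lt v) with ⟨h1, h2⟩ | h1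
  · refine ⟨h1, ?_⟩
    have h3 : Nat.land (qof v) 127 = qof v :=
      (Nat.and_two_pow_sub_one_eq_mod _ 7).trans (Nat.mod_eq_of_lt (qof_lt v))
    rw [elc, h2, h3]
    exact h.eq_pack
  · obtain ⟨e, -, h2, h3, h4⟩ := h1 _ (qof_lt v)
    rw [← h.eq_pack] at h4
    refine absurd (toM_inj h3 (by norm_num) ?_) h2
    have h5 := congrArg toM h4
    rw [toM_mul, toM_zero] at h5
    rw [toM_zero]
    have h6 : IsUnit (toM v) := (Matrix.isUnit_iff_isUnit_det _).2 (h.2.1 ▸ isUnit_one)
    exact h6.mul_right_eq_zero.1 h5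

theorem Valid.inv_mul {v : ℕ} (h : Valid v) : mulc (invc v) v = onec := by
  have := (elc_spec _ h.eq_elc.1 _ (qof_lt v)).2.1
  rwa [← h.eq_elc.2] at this

theorem Valid.inv {v : ℕ} (h : Valid v) : Valid (invc v) := by
  have h0 : invc v < 2 ^ 25 := by
    simp only [invc, force_eq]
    exact mulc_lt _ _
  refine ⟨h0, (det_eq_one h.inv_mul).1, toM_inj (mulc_lt _ _) (mulc_lt _ _) ?_⟩
  have h1 := congrArg toM h.inv_mul
  have h2 := congrArg toM h.2.2
  simp only [toM_mul, toM_one] at h1 h2 ⊢
  have h3 := mul_eq_one_comm.1 h1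
  calc _ = toM (invc v) * (toM zc * toM v) * toM (invc v) := by
        rw [mul_assoc, mul_assoc, h3, mul_one]
    _ = _ := by rw [← h2, ← mul_assoc, h1, one_mul]

/-- The model. -/
structure Hm where
  v : ℕ
  ok : Valid v

theorem Hm.ext {a b : Hm} (h : a.v = b.v) : a = b := by cases a; cases b; cases h; rfl

/-- The enumeration. -/
def el (q k : ℕ) : Hm := ⟨elc q k, valid_elc q k⟩

/-- The element with a given number. -/
def ofc (v : ℕ) : Hm := el (qof v) (look tK 8 255 (mof v))

theorem ofc_v (h : Hm) : ofc h.v = h := Hm.ext h.ok.eq_elc.2.symm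

instance decEqHm : DecidableEq Hm := fun a b =>
  decidable_of_iff (Nat.beq a.v b.v = true) ⟨fun h => Hm.ext (Nat.eq_of_beq_eq_true h),
    fun h => h ▸ Nat.beq_refl _⟩

theorem forall_iff {P : Hm → Prop} : (All 168 fun k => All 128 fun q => P (el q k)) ↔ ∀ h, P h :=
  ⟨fun H h => ofc_v h ▸ H _ h.ok.eq_elc.1 _ (qof_lt _), fun H _ _ _ _ => H _⟩

instance decForallHm (P : Hm → Prop) [DecidablePred P] : Decidable (∀ h, P h) :=
  decidable_of_iff _ forall_iff

instance mulHm : Mul Hm := ⟨fun a b => ⟨mulc a.v b.v, a.ok.mul b.ok⟩⟩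
instance oneHm : One Hm := ⟨⟨onec, (show elc 0 0 = onec by decide +kernel) ▸ valid_elc 0 0⟩⟩
instance invHm : Inv Hm := ⟨fun a => ⟨invc a.v, a.ok.inv⟩⟩

theorem toM_ext {a b : Hm} (h : toM a.v = toM b.v) : a = b := Hm.ext (toM_inj a.ok.1 b.ok.1 h)

instance groupHm : Group Hm :=
  Group.ofLeftAxioms (fun a b c => toM_ext (by
      change toM (mulc (mulc a.v b.v) c.v) = toM (mulc a.v (mulc b.v c.v))
      simp only [toM_mul, mul_assoc]))
    (fun a => toM_ext (by
      change toM (mulc onec a.v) = _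
      rw [toM_mul, toM_one, one_mul])) fun a => Hm.ext a.ok.inv_mul

/-- The enumeration as an equivalence. -/
def equivHm : Hm ≃ Fin 168 × Fin 128 where
  toFun h := (⟨_, h.ok.eq_elc.1⟩, ⟨_, qof_lt h.v⟩)
  invFun p := el p.2 p.1
  left_inv h := ofc_v h
  right_inv p := Prod.ext (Fin.ext (elc_spec _ p.1.2 _ p.2.2).2.2.2.2)
    (Fin.ext (elc_spec _ p.1.2 _ p.2.2).2.2.2.1)

instance finiteHm : Finite Hm := Finite.of_equiv _ equivHm.symm

theorem card_Hm : Nat.card Hm = 21504 := by
  rw [Nat.card_congr equivHm, Nat.card_prod, Nat.card_fin, Nat.card_fin]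

/-- The embedding into `SL(5, 2)`. -/
def toSL : Hm →* Matrix.SpecialLinearGroup (Fin 5) (ZMod 2) :=
  MonoidHom.mk' (fun h => ⟨toM h.v, h.ok.2.1⟩) fun a b => Subtype.ext (toM_mul a.v b.v)

theorem toSL_inj : Function.Injective toSL := fun _ _ h => toM_ext (congrArg Subtype.val h)

/-- The central involution. -/
def z : Hm := el 8 0

theorem z_v : z.v = zc := by decide +kernel

theorem mem_range_toSL {s g : Matrix.SpecialLinearGroup (Fin 5) (ZMod 2)}
    (hs : s.1 = Matrix.transvection 0 1 1) : g * s = s * g ↔ ∃ h, toSL h = g := by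
  refine ⟨fun h => ?_, ?_⟩
  · obtain ⟨v, h1, h2⟩ := exists_toM g.1
    refine ⟨⟨v, h1, h2 ▸ g.2, toM_inj (mulc_lt _ _) (mulc_lt _ _) ?_⟩, Subtype.ext h2⟩
    rw [toM_mul, toM_mul, h2, toM_z, ← hs]
    exact congrArg Subtype.val h
  · rintro ⟨h, rfl⟩
    refine Subtype.ext ?_
    have := congrArg toM h.ok.2.2
    rwa [toM_mul, toM_mul, toM_z, ← hs] at this

theorem toSL_z : (toSL z).1 = Matrix.transvection 0 1 1 := by
  change toM z.v = _
  rw [z_v, toM_z]

end Cfsg.Agent.Lib.HeldModel
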