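import Cfsg.Agent.Lib.HuQ

/-! The three possible actions of an involution on the extraspecial group. -/

set_option autoImplicit false
set_option maxRecDepth 100000
set_option Elab.async false

namespace Cfsg.Agent.Lib.Hu

open Cfsg.Agent.Lib.HJModel (allN anyN allN_iff anyN_iff force force_eq)
open Subgroup Cfsg.Agent.Lib.HeldModel Cfsg.Agent.Lib.HeldFus

/-- The symplectic form. -/
def bV (x y : ℕ) : ℕ :=
  par (Nat.xor (Nat.land x (Nat.shiftRight y 3)) (Nat.land y (Nat.shiftRight x 3)))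

/-- The quadratic form. -/
def qV (x : ℕ) : ℕ := par (Nat.land x (Nat.shiftRight x 3))

/-- The conditions on the image `i` of the basis vector `e`. -/
def chk (e i : ℕ) : List ℕ → Bool := List.rec true fun a l ih =>
  Nat.beq (bV a e) (bV (2 ^ l.length) i) && (Nat.beq (bV a i) (bV (2 ^ l.length) e) && ih)

/-- A search through the orthogonal involutions. -/
def sr (goal : List ℕ → Bool) (k : ℕ) : List ℕ → Bool := Nat.rec goal (fun _ ih pre =>
  allN (fun i => !(Nat.beq (qV i) 0 && chk (2 ^ pre.length) i pre) || ih (i :: pre)) 64) k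

/-- The images of the first basis vectors. -/
def pre (A : ℕ → ℕ) : ℕ → List ℕ
  | 0 => []
  | n + 1 => A n :: pre A n

theorem length_pre (A : ℕ → ℕ) (n : ℕ) : (pre A n).length = n := by
  induction n with
  | zero => rfl
  | succ n ih => rw [pre, List.length_cons, ih]

theorem sr_sound {goal : List ℕ → Bool} {A : ℕ → ℕ} (h1 : ∀ i < 6, A i < 64 ∧ qV (A i) = 0)
    (h2 : ∀ i < 6, ∀ j < 6, bV (A j) (2 ^ i) = bV (2 ^ j) (A i) ∧ bV (A j) (A i) = bV (2 ^ j) (2 ^ i))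
    (k n : ℕ) (hn : n + k = 6) (h : sr goal k (pre A n) = true) : goal (pre A 6) = true := by
  induction k generalizing n with
  | zero => exact hn ▸ h
  | succ k ih =>
    change allN (fun i => !(Nat.beq (qV i) 0 && chk (2 ^ (pre A n).length) i (pre A n)) ||
      sr goal k (i :: pre A n)) 64 = true at h
    refine ih (n + 1) (by omega)
      ((Bool.or_eq_true_iff.1 (allN_iff.1 h _ (h1 n (by omega)).1)).resolve_left ?_)
    have : ∀ j ≤ n, chk (2 ^ n) (A n) (pre A j) = true := fun j hj => by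
      induction j with
      | zero => rfl
      | succ j ih' =>
        obtain ⟨h3, h4⟩ := h2 n (by omega) j (by omega)
        change (Nat.beq (bV (A j) _) (bV (2 ^ (pre A j).length) _) &&
          (Nat.beq (bV (A j) _) (bV (2 ^ (pre A j).length) _) && chk _ _ (pre A j))) = true
        rw [length_pre, h3, h4, Nat.beq_refl, Nat.beq_refl, ih' (by omega)]
        rfl
    rw [length_pre, this n le_rfl, (h1 n (by omega)).2]
    decide

def tF : ℕ := 0x3c7ce1d6ed9ab4b76acd8e7cb8f01c3c60d4e992a4972a4c8c78b0e0bd7ee5defdbaf43668c9866c98b09d3e64dcf9b2e4162848846890a07cfde3d2e58a94f7ebcf8a74a8d05cbd62d0e18284d7ab4e8870a0c0fdffe7daf5aad476e9cb82648890ddbf66d8f1a2c456a94a80608080e5cf871f5efc79eddfa75fdffe7dc58f061d5af469cd9f265ddbf66d6ed9ab47ef9ebc66c98b076e9cb84e992a45eb96ac46890a056a94a8b76acd8a74a8d0bf7aedcaf5aad4972a4c8870a0c09f3a6cc8f1a2c43e78e9c2e58a943668c9826488901e3868c0e1828416284880608080fffbefcefdbaf4f7ebcf8e7cb8f0dfbb6eccf9b2e4d7ab4e8c78b0e07ef9ebc6ed9ab476e9cb866c98b05eb96ac4e992a456a94a846890a0bf7aedcaf5aad4b76acd8a74a8d09f3a6cc8f1a2c4972a4c8870a0c03e78e9c2e58a943668c9826488901e3868c0e1828416284880608080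

/-- The three actions. -/
def fa (k m : ℕ) : ℕ := look tF 7 127 (Nat.add (Nat.mul 128 k) m)

/-- The goal of the search. -/
def Goal (l : List ℕ) : Prop := (All 6 fun j => lin l (fc (2 * lin l (fc (2 * lin l
  (fc (2 * 2 ^ j) / 2)) / 2)) / 2) = 2 ^ j) → Ex 7 fun i => Ex 3 fun k => All 6 fun j =>
    lin l (fc^[i] (2 * 2 ^ j) / 2) = fc^[i] (fa k (2 * 2 ^ j)) / 2

instance decGoal (l : List ℕ) : Decidable (Goal l) := inferInstanceAs (Decidable (_ → _))

theorem sr_ok : sr (fun l => decide (Goal l.reverse)) 6 [] = true := by decide +kernel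

theorem fa_lt (k m : ℕ) : fa k m < 2 ^ 7 := Nat.and_lt_two_pow _ (by norm_num)

theorem fc_lt (m : ℕ) : fc m < 2 ^ 7 := lin_lt (by decide) m

theorem mq_div {m n : ℕ} (hm : m < 128) (hn : n < 128) : mq m n / 2 = m / 2 ^^^ n / 2 :=
  (by decide +kernel : All 128 fun m => All 128 fun n => mq m n / 2 = m / 2 ^^^ n / 2) m hm n hn

theorem pow_lt {j : ℕ} (hj : j < 6) : 2 * 2 ^ j < 128 :=
  (by decide +kernel : All 6 fun j => 2 * 2 ^ j < 128) j hj

variable {H : Type*} [Group H] {Q : Subgroup H} {z c : H} {ψ : ℕ → H}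

theorem Cj.pow {n : ℕ} {f : ℕ → ℕ} (h : Cj n n ψ ψ c f) (i : ℕ) : Cj n n ψ ψ (c ^ i) f^[i] := by
  induction i with
  | zero => exact fun i hi => ⟨hi, by simp⟩
  | succ i ih => exact pow_succ c i ▸ ih.comp h

theorem Xs.B_inner (E : Xs Q z) {q x : H} (hq : q ∈ Q) (hx : x ∈ Q) (y : H) :
    B (q * x * q⁻¹) y = B x y := by
  rcases E.comm q hq x hx with h | h
  · rw [h, mul_inv_cancel_right]
  · rw [h, ← mul_assoc, mul_inv_cancel_right, E.B_z]

namespace QB

variable (E : Xs Q z) (S : QB Q z c ψ)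
include S

theorem mem' {m : ℕ} (hm : m < 128) : ψ m ∈ Q := (S.mem _).2 ⟨m, hm, rfl⟩

theorem mul {m n : ℕ} (hm : m < 128) (hn : n < 128) : ψ m * ψ n = ψ (mq m n) := (S.rep m hm n hn).2

include E

theorem inj {m n : ℕ} (hm : m < 128) (hn : n < 128) (h : ψ m = ψ n) : m = n :=
  S.rep.inj S.zero (S.one ▸ E.ne) hm hn h

theorem conj {g : H} (hg : g * c = c * g) : QB Q z c fun m => g * ψ m * g⁻¹ where
  rep i hi j hj := ⟨mq_lt hi hj, by rw [conj_mul, S.mul hi hj]⟩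
  zero := by simp [S.zero]
  one := by rw [S.one, E.cen, mul_inv_cancel_right]
  mem x := ⟨fun h => by
    obtain ⟨m, hm, e⟩ := (S.mem _).1 (E.normal.conj_mem x h g⁻¹)
    exact ⟨m, hm, by rw [e]; group⟩, fun ⟨m, hm, e⟩ => e ▸ E.normal.conj_mem _ (S.mem' hm) g⟩
  cj i hi := ⟨fc_lt i, by
    rw [← mul_assoc, ← mul_assoc, ← hg, mul_assoc g, (S.cj i hi).2, mul_assoc, mul_assoc, mul_assoc,
      mul_assoc, mul_right_inj, mul_right_inj, mul_inv_eq_iff_eq_mul, mul_assoc, ← hg,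
      inv_mul_cancel_left]⟩

theorem exists_cj (g : H) : ∃ f, Cj 128 128 ψ ψ g f := by
  choose! f h1 h2 using fun m (hm : m < 128) => (S.mem _).1 (E.normal.conj_mem _ (S.mem' hm) g)
  exact ⟨f, fun m hm => ⟨h1 m hm, by rw [h2 m hm, inv_mul_cancel_right]⟩⟩

theorem eq_of_cj {g g' : H} {f f' : ℕ → ℕ} (h : Cj 128 128 ψ ψ g f) (h' : Cj 128 128 ψ ψ g' f')
    (e : All 128 fun m => f m = f' m) : g = g' ∨ g = z * g' := by
  have := E.eq_of (g'⁻¹ * g) fun r hr => by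
    obtain ⟨m, hm, rfl⟩ := (S.mem r).1 hr
    rw [mul_assoc g'⁻¹, (h m hm).2, e m hm, eq_inv_mul_iff_mul_eq, ← mul_assoc, (h' m hm).2,
      mul_assoc, mul_inv_cancel_left]
  rw [inv_mul_eq_one, inv_mul_eq_iff_eq_mul, E.cen, eq_comm] at this
  exact this

theorem bV_eq {m n m' n' : ℕ} (hm : m < 128) (hn : n < 128) (hm' : m' < 128) (hn' : n' < 128)
    (h : B (ψ m) (ψ n) = B (ψ m') (ψ n')) : bV (m / 2) (n / 2) = bV (m' / 2) (n' / 2) := by
  have k : All 128 fun m => All 128 fun n => bV (m / 2) (n / 2) = if mq m n = mq n m then 0 else 1 := by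
    decide +kernel
  have k2 : ∀ {m n}, m < 128 → n < 128 → (mq m n = mq n m ↔ B (ψ m) (ψ n) = 0) := fun hm hn => by
    rw [B_eq_zero, S.mul hm hn, S.mul hn hm]
    exact ⟨congrArg ψ, S.inj E (mq_lt hm hn) (mq_lt hn hm)⟩
  exact (k m hm n hn).trans ((if_congr (by rw [k2 hm hn, k2 hm' hn', h]) rfl rfl).trans
    (k m' hm' n' hn').symm)

theorem div_eq {g : H} {f : ℕ → ℕ} (h : Cj 128 128 ψ ψ g f) {m : ℕ} (hm : m < 128) :
    f m / 2 = lin (pre (fun j => f (2 * 2 ^ j) / 2) 6).reverse (m / 2) := by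
  induction m using Nat.strong_induction_on with
  | _ m ih =>
    rcases (by decide +kernel : All 128 fun m => m = 0 ∨ m = 1 ∨ Ex 6 fun j => m ^^^ 2 * 2 ^ j < m ∧
      mq (2 * 2 ^ j) (m ^^^ 2 * 2 ^ j) = m ∧ m / 2 = 2 ^ j ^^^ (m ^^^ 2 * 2 ^ j) / 2) m hm with
      rfl | rfl | ⟨j, hj, h1, h2, h3⟩
    · rw [S.inj E (h 0 hm).1 hm (by rw [← h.conj hm, S.zero]; simp), lin_zero]
    · rw [S.inj E (h 1 hm).1 hm (by rw [← h.conj hm, S.one, E.cen, mul_inv_cancel_right]), lin_zero]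
    · have h4 := h1.trans hm
      have h5 := pow_lt hj
      rw [h3, lin_xor, ← ih _ h1 h4, S.inj E (h m hm).1 (mq_lt (h _ h5).1 (h _ h4).1) (by
        rw [← S.mul (h _ h5).1 (h _ h4).1, ← h.conj h5, ← h.conj h4, conj_mul, S.mul h5 h4, h2,
          h.conj hm]), mq_div (h _ h5).1 (h _ h4).1]
      congr 1
      interval_cases j <;> simp [pre, lin_cons, lin_zero]

theorem adjust {a : H} {k : ℕ} (hk : k < 3) (h : ∀ j < 6, a * ψ (2 * 2 ^ j) = ψ (fa k (2 * 2 ^ j)) * a ∨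
    a * ψ (2 * 2 ^ j) = z * (ψ (fa k (2 * 2 ^ j)) * a)) :
    ∃ q ∈ Q, Cj 128 128 ψ ψ (a * q) (fa k) := by
  classical
  obtain ⟨n, hn, h1⟩ := (by decide +kernel : All (2 ^ 6) fun e => Ex 128 fun n => All 6 fun j =>
    mq n (2 * 2 ^ j) = if e.testBit j = true then mq (2 * 2 ^ j) n else mq 1 (mq (2 * 2 ^ j) n)) _
      (Nat.ofBits_lt_two_pow fun j : Fin 6 =>
        decide (a * ψ (2 * 2 ^ (j : ℕ)) = ψ (fa k (2 * 2 ^ (j : ℕ))) * a))
  refine ⟨_, S.mem' hn, (S.rep.basis S.zero (fa k) fun i hi => ⟨fa_lt _ _, ?_⟩).congr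
    ((by decide +kernel : All 3 fun k => All 128 fun m => ta [fa k 64, fa k 32, fa k 16, fa k 8,
      fa k 4, fa k 2, fa k 1] m = fa k m) k hk)⟩
  obtain _ | j := i
  · rw [pow_zero, show fa k 1 = 1 from (by decide +kernel : All 3 fun k => fa k 1 = 1) k hk, S.one,
      E.cen]
  · have hj : j < 6 := by omega
    have h2 := congrArg ψ (h1 j hj)
    simp only [Nat.testBit_ofBits_lt _ _ hj, decide_eq_true_iff] at h2
    rw [pow_succ', mul_assoc, S.mul hn (pow_lt hj), h2]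
    split_ifs with h3
    · rw [← S.mul (pow_lt hj) hn, ← mul_assoc, h3, mul_assoc]
    · rw [← S.mul (by norm_num) (mq_lt (pow_lt hj) hn), ← S.mul (pow_lt hj) hn, S.one, ← mul_assoc,
        E.cen, mul_assoc, ← mul_assoc a, (h j hj).resolve_left h3, ← mul_assoc, ← mul_assoc, E.sq,
        one_mul, mul_assoc]

theorem exists_act {a : H} (h1 : a * a ∈ Q) (h2 : (a * c) ^ 3 ∈ Q) : ∃ ψ', QB Q z c ψ' ∧
    ∃ k < 3, ∃ q ∈ Q, Cj 128 128 ψ' ψ' (a * q) (fa k) := by
  obtain ⟨f, hf⟩ := S.exists_cj E a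
  have h3 : ∀ j, 2 * 2 ^ j / 2 = 2 ^ j := fun j => Nat.mul_div_cancel_left _ (by norm_num)
  have h4 := of_decide_eq_true (sr_sound (A := fun j => f (2 * 2 ^ j) / 2) (fun i hi => by
    have k1 := (hf _ (pow_lt hi)).1
    refine ⟨by omega, (by decide +kernel : All 128 fun m => mq m m = 0 → qV (m / 2) = 0) _ k1
      (S.inj E (mq_lt k1 k1) (by norm_num) ?_)⟩
    rw [← S.mul k1 k1, ← hf.conj (pow_lt hi), conj_mul, S.mul (pow_lt hi) (pow_lt hi),
      show mq _ _ = 0 from (by decide +kernel : All 6 fun i => mq (2 * 2 ^ i) (2 * 2 ^ i) = 0) i hi,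
      S.zero]
    simp) (fun i hi j hj => by
    have k1 := pow_lt hi
    have k2 := pow_lt hj
    have k3 := S.bV_eq E (hf _ k2).1 k1 k2 (hf _ k1).1 (by
      rw [← hf.conj k1, ← hf.conj k2, ← B_conj a, conj_conj_eq, E.B_inner h1 (S.mem' k2)])
    have k4 := S.bV_eq E (hf _ k2).1 (hf _ k1).1 k2 k1 (by rw [← hf.conj k1, ← hf.conj k2, B_conj])
    rw [h3, h3] at k3 k4
    exact ⟨k3, k4⟩) 6 0 rfl sr_ok)
  have h5 : ∀ m < 128, f (fc m) / 2 =
      lin (pre (fun j => f (2 * 2 ^ j) / 2) 6).reverse (fc (2 * (m / 2)) / 2) := fun m hm => by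
    rw [S.div_eq E hf (fc_lt m), show fc m / 2 = _ from
      (by decide +kernel : All 128 fun m => fc m / 2 = fc (2 * (m / 2)) / 2) m hm]
  obtain ⟨i, -, k, hk, h6⟩ := h4 fun j hj => by
    obtain ⟨q, hq, e⟩ := (S.mem _).1 h2
    have k1 := hf.comp S.cj
    have k2 := pow_lt hj
    have k3 := (k1.pow 3).conj k2
    rw [← e, (S.rep.inner S.zero hq).conj k2] at k3
    have k4 := S.inj E (S.rep.inner S.zero hq _ k2).1 (k1.pow 3 _ k2).1 k3
    beta_reduce
    rw [← h3 j, ← h5 _ k2, ← h5 _ (k1 _ k2).1, ← h5 _ (k1 _ (k1 _ k2).1).1]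
    exact (congrArg (· / 2) k4).symm.trans ((by decide +kernel : All 128 fun q => All 128 fun m =>
      mq (mq q m) (iq q) / 2 = m / 2) q hq _ k2)
  have S' := S.conj E (g := c ^ i) (pow_mul_comm' c i)
  refine ⟨_, S', k, hk, S'.adjust E hk fun j hj => ?_⟩
  have k1 := S.cj.pow i
  have k2 := (k1 _ (pow_lt hj)).1
  have k3 := (k1 _ (fa_lt k (2 * 2 ^ j))).1
  have k4 := (S.div_eq E hf k2).trans (h6 j hj)
  simp only [k1.conj (pow_lt hj), k1.conj (fa_lt k _), (hf _ k2).2]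
  refine ((by decide +kernel : All 128 fun m => All 128 fun n => m / 2 = n / 2 → m = n ∨ m = mq 1 n)
    _ (hf _ k2).1 _ k3 k4).imp (fun e => by rw [e]) fun e => ?_
  rw [e, ← S.mul (by norm_num) k3, S.one, mul_assoc]

end QB

end Cfsg.Agent.Lib.Hu
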