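import Cfsg.Agent.Lib.HuA

/-! Coordinates for a Sylow `2`-subgroup of an extension of `2^(1+6)` by `SL(3, 2)`. -/

set_option autoImplicit false
set_option maxRecDepth 100000
set_option Elab.async false

namespace Cfsg.Agent.Lib.Hu

open Subgroup Cfsg.Agent.Lib.HeldModel Cfsg.Agent.Lib.HeldFus Cfsg.Agent.Lib.PCore

/-- The quotient group. -/
abbrev L3 := Matrix.SpecialLinearGroup (Fin 3) (ZMod 2)

/-- An involution. -/
def mA : L3 := ⟨!![1, 0, 0; 0, 0, 1; 0, 1, 0], by decide⟩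

/-- An element of order seven. -/
def mC : L3 := ⟨!![0, 0, 1; 1, 0, 1; 0, 1, 0], by decide⟩

/-- A Sylow `2`-subgroup. -/
def dd (k : ℕ) : L3 := [⟨!![1, 0, 0; 0, 1, 0; 0, 0, 1], by decide⟩,
  ⟨!![1, 1, 1; 0, 0, 1; 0, 1, 0], by decide⟩,
  ⟨!![0, 0, 1; 1, 0, 0; 1, 1, 1], by decide⟩,
  ⟨!![0, 1, 0; 1, 1, 1; 1, 0, 0], by decide⟩,
  ⟨!![1, 0, 0; 0, 0, 1; 0, 1, 0], by decide⟩,
  ⟨!![1, 1, 1; 0, 1, 0; 0, 0, 1], by decide⟩,
  ⟨!![0, 1, 0; 1, 0, 0; 1, 1, 1], by decide⟩,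
  ⟨!![0, 0, 1; 1, 1, 1; 1, 0, 0], by decide⟩].getD k 1

/-- Conjugating elements. -/
def gg (k : ℕ) : L3 := [⟨!![1, 0, 0; 0, 1, 0; 0, 0, 1], by decide⟩,
  ⟨!![0, 0, 1; 1, 0, 1; 1, 1, 0], by decide⟩,
  ⟨!![1, 0, 0; 1, 0, 1; 1, 1, 0], by decide⟩,
  ⟨!![0, 0, 1; 0, 1, 0; 1, 0, 0], by decide⟩,
  ⟨!![0, 0, 1; 0, 1, 0; 1, 1, 1], by decide⟩].getD k 1

def tS : ℕ := 0x3e7b1e26cde5ca2a534e878f60c07efa1c22c5f5ea6ad24c838770e0dfb89928d1ddbacb90c9899358b09f399b2cd9cd9a8b11cb8d9b48901e3b9f24c9edda0a13cf858b68d05eba9d20c1fdfa4a92cd818378f0fff8182ad5d5aaebd0488b9750a0bf791a2eddc58aab514a8f9f40809f3a1c28f1a5ca8b124c89b320c0dbb30e0cb934e8cf9b5eadfbb1e270e5a3560c5e3d64cdf3f74edb373668b962648f9e2240e9c3260a94b76abd6a74afdea342edcb362ad4f1e7a75e1c7e7de5cff7ff5efb775ab10a04a914a84e995aa5eb91a21e381820e1858a0a104881a300809f3a1c28f1a5ca8b124c89b320c0dfbb1e2cf9b5eacb934e8dbb30e07ef99b26ed9dba6ad1cb87af18b03e789922e58d9a2a50c983a70890bf7a9d2af5addaab52cd8bb728d0fffb9f2efdbdfaebd3cf8fbf38f05eb91a24e995aa4a914a85ab10a01e381820e1858a0a104881a30080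

def tT : ℕ := 0xfff8e1d081736712235eae5cc8901e3b66de9d4b17f3e0d9a040f0e07efae5d891532793215aa64ce8d09f3962d68d6b5772e2dda850d0a0bf79e3d489634752a25caa54d8b05eba64da955b37b361dba448e0c03e7be7dc994307d3a058a244f8f0dfb860d2857b773263dfac58c0803668c9822409923a70f9e2e58a94c3831e2d7ab4e8cf9b2e4dbb37eebd7ee5da956b57b166d5ba54e8514a913a65eb96ac46890a052a15aa60c593374edc396cdda3578f5f3f952e4498106143993674f8d1e245e9d7b77fdffe7de5cf871f1e7d7b1e3868c0a10386122058a06080803e78e9c2a50b963260d9a2648890dfbb6eccb933e6d3a35eac78b0e0bf7aedcab52bd6b362ddaa74a8d05eb96ac4a913a652a15aa46890a07ef9ebc6ad1bb672e1dba66c98b09f3a6cc8b123c693225ca870a0c0fffbefcebd3bf6f3e3dfae7cb8f01e3868c0a10386122058a0608080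

/-- The action of the element of order four. -/
def fs (k m : ℕ) : ℕ := look tS 7 127 (Nat.add (Nat.mul 128 k) m)

/-- The action of its square. -/
def ft (k m : ℕ) : ℕ := look tT 7 127 (Nat.add (Nat.mul 128 k) m)

/-- The action of a conjugating element. -/
def fg (k m : ℕ) : ℕ := fd (fd (fa k (fc (fc (fc m)))))

/-- The parameters of the multiplication. -/
structure Par where
  k : ℕ
  e : ℕ
  q : ℕ
  s : ℕ
  y : ℕ
  x : ℕ

namespace Par

variable (d : Par)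

/-- The multiplication on the first level. -/
def m8 : ℕ → ℕ → ℕ := em 128 mq (ft d.k) d.s

/-- The multiplication on the second level. -/
def m9 : ℕ → ℕ → ℕ := em 256 d.m8 (ea 128 d.m8 (fs d.k) 128) 128

/-- The multiplication of the Sylow subgroup. -/
def mul : ℕ → ℕ → ℕ :=
  em 512 d.m9 (ea 256 d.m9 (ea 128 d.m9 (fa d.k) d.x) (Nat.add d.y 384)) d.e

/-- The parameters are consistent. -/
def Ok : Prop := d.k < 3 ∧ d.e < 2 ∧ d.q < 128 ∧ d.y < 128 ∧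
  (All 128 fun m => ft d.k (fg d.k m) = mq (mq d.q (fg d.k (fa d.k m))) (iq d.q)) ∧
  d.s = mq (mq (ft d.k d.q) d.q) d.e ∧ mq d.y d.s = 0 ∧ d.x = d.m9 (d.y + 384) (d.y + 384)

instance decOk : Decidable d.Ok := inferInstanceAs (Decidable (_ ∧ _))

end Par

variable {H : Type*} [Group H] {Q : Subgroup H} {z c a : H} {ψ : ℕ → H} {π : H →* L3}

theorem ex_split {n : ℕ} {τ δ : ℕ → H} (x : H) (h : ∀ i < 128 * n, τ i = ψ (i % 128) * δ (i / 128)) :
    ∀ i < 128 * (n + n), ex (128 * n) τ x i = ψ (i % 128) * ex n δ x (i / 128) := by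
  rw [mul_add]
  refine cases_lt (fun i hi => ?_) fun i hi => ?_
  · rw [ex_lt hi, ex_lt (by omega), h i hi]
  · rw [ex_add, Nat.add_mul_mod_self_left, Nat.add_mul_div_left _ _ (by norm_num), ex_add, h i hi,
      mul_assoc]

theorem Rep.exists_subgroup [Finite H] {n : ℕ} {mul : ℕ → ℕ → ℕ} {τ : ℕ → H} (R : Rep n mul τ)
    (h0 : 0 < n) (h1 : τ 0 = 1) : ∃ T : Subgroup H, ∀ x, x ∈ T ↔ ∃ i < n, τ i = x := by
  let S : Submonoid H :=
    { carrier := {x | ∃ i < n, τ i = x}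
      one_mem' := ⟨0, h0, h1⟩
      mul_mem' := by
        rintro _ _ ⟨i, hi, rfl⟩ ⟨j, hj, rfl⟩
        exact ⟨_, (R i hi j hj).1, (R i hi j hj).2.symm⟩ }
  exact ⟨⟨S, fun {x} hx => Submonoid.powers_le.2 hx
    (mem_powers_iff_mem_zpowers.2 (inv_mem (mem_zpowers x)))⟩, fun _ => Iff.rfl⟩

/-- The structure of the extension. -/
structure Ext (Q : Subgroup H) (z c a : H) (ψ : ℕ → H) (π : H →* L3) (k e : ℕ) : Prop where
  xs : Xs Q z
  qb : QB Q z c ψ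
  ker : ∀ x, π x = 1 ↔ x ∈ Q
  surj : Function.Surjective π
  pa : π a = mA
  pc : π c = mC
  c7 : c ^ 7 = 1
  cj : Cj 128 128 ψ ψ a (fa k)
  sq : a * a = ψ e
  card : Nat.card H = 21504

theorem exists_ext [Finite H] (E : Xs Q z) (h1 : ∀ x, π x = 1 ↔ x ∈ Q) (h2 : Function.Surjective π)
    (h3 : Nat.card H = 21504) : ∃ c a ψ, ∃ k < 3, ∃ e < 2, Ext Q z c a ψ π k e := by
  obtain ⟨b, hb⟩ := h2 mC
  obtain ⟨a, ha⟩ := h2 mA
  have h4 : (b ^ 7 * b ^ 7) ^ 2 = 1 := by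
    rcases E.sq_mem ((h1 (b ^ 7)).1 (by rw [map_pow, hb]; decide +kernel)) with h | h
    · rw [h, one_pow]
    · rw [h, sq, E.sq]
  have h5 : (b ^ 8) ^ 7 = 1 := by
    rw [← pow_add, ← pow_mul] at h4
    rw [← pow_mul, show 8 * 7 = (7 + 7) * 2 * 2 from rfl, pow_mul, h4, one_pow]
  have h6 : π (b ^ 8) = mC := by
    rw [map_pow, hb]
    decide +kernel
  obtain ⟨ψ, S⟩ := E.exists_QB h5 fun h => (by decide +kernel : (1 : L3) ≠ mC) (by
    rw [← h6, h, map_one])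
  obtain ⟨ψ, S, k, hk, q, hq, h7⟩ := S.exists_act E (a := a)
    ((h1 _).1 (by rw [map_mul, ha]; decide +kernel))
    ((h1 _).1 (by rw [map_pow, map_mul, ha, h6]; decide +kernel))
  have h8 : π (a * q) = mA := by rw [map_mul, ha, (h1 q).2 hq, mul_one]
  rcases S.eq_of_cj E (h7.comp h7) (S.rep.inner S.zero (q := 0) (by norm_num))
    ((by decide +kernel : All 3 fun k => All 128 fun m => fa k (fa k m) = mq (mq 0 m) (iq 0)) k hk)
    with h | h
  · exact ⟨_, _, ψ, k, hk, 0, by norm_num, E, S, h1, h2, h8, h6, h5, h7, h, h3⟩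
  · exact ⟨_, _, ψ, k, hk, 1, by norm_num, E, S, h1, h2, h8, h6, h5, h7,
      by rw [h, S.zero, S.one, mul_one], h3⟩

/-- The coordinates. -/
def tau (ψ : ℕ → H) (a c : H) : ℕ → H :=
  ex 512 (ex 256 (ex 128 ψ (a * c * a * c⁻¹ * (a * c * a * c⁻¹))) (a * c * a * c⁻¹)) a

theorem tau_lt {m : ℕ} (h : m < 128) : tau ψ a c m = ψ m := by
  rw [tau, ex_lt (by omega), ex_lt (by omega), ex_lt h]

namespace Ext

section
variable {k e : ℕ} (X : Ext Q z c a ψ π k e)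
include X

theorem cjd : Cj 128 128 ψ ψ c⁻¹ fd := X.qb.cj.inv (by decide +kernel)

theorem cjs (hk : k < 3) : Cj 128 128 ψ ψ (a * c * a * c⁻¹) (fs k) :=
  (((X.cj.comp X.qb.cj).comp X.cj).comp X.cjd).congr ((by decide +kernel : All 3 fun k => All 128
    fun m => fa k (fc (fa k (fd m))) = fs k m) k hk)

theorem cjt (hk : k < 3) : Cj 128 128 ψ ψ (a * c * a * c⁻¹ * (a * c * a * c⁻¹)) (ft k) :=
  ((X.cjs hk).comp (X.cjs hk)).congr ((by decide +kernel : All 3 fun k => All 128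
    fun m => fs k (fs k m) = ft k m) k hk)

theorem cen (he : e < 2) (g : H) : g * ψ e = ψ e * g := by
  interval_cases e
  · simp [X.qb.zero]
  · rw [X.qb.one, X.xs.cen]

theorem split : ∃ δ : ℕ → H, (∀ k < 8, π (δ k) = dd k) ∧
    ∀ i < 1024, tau ψ a c i = ψ (i % 128) * δ (i / 128) := by
  have h1 : π (a * c * a * c⁻¹) = dd 2 := by
    rw [map_mul, map_inv, mul_inv_eq_iff_eq_mul, map_mul, map_mul, X.pa, X.pc]
    decide +kernel
  refine ⟨_, fun k hk => ?_, ex_split (n := 4) a (ex_split (n := 2) _ (ex_split (n := 1) _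
    (δ := fun _ => 1) fun i hi => by rw [Nat.mod_eq_of_lt hi, mul_one]))⟩
  generalize a * c * a * c⁻¹ = s at h1
  interval_cases k <;> simp [ex, h1, X.pa] <;> decide +kernel

theorem pi_tau {i : ℕ} (hi : i < 1024) : π (tau ψ a c i) = dd (i / 128) := by
  obtain ⟨δ, h1, h2⟩ := X.split
  rw [h2 i hi, map_mul, (X.ker _).2 (X.qb.mem' (Nat.mod_lt _ (by norm_num))), one_mul,
    h1 _ (by omega)]

theorem inj {i j : ℕ} (hi : i < 1024) (hj : j < 1024) (h : tau ψ a c i = tau ψ a c j) : i = j := by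
  obtain ⟨δ, -, h2⟩ := X.split
  have h3 : i / 128 = j / 128 := (by decide +kernel : All 8 fun k => All 8 fun l => dd k = dd l → k = l)
    _ (by omega) _ (by omega) (by rw [← X.pi_tau hi, h, X.pi_tau hj])
  rw [h2 i hi, h2 j hj, h3, mul_left_inj] at h
  have := X.qb.inj X.xs (Nat.mod_lt _ (by norm_num)) (Nat.mod_lt _ (by norm_num)) h
  omega

theorem exists_lt {x : H} {l : ℕ} (hk : l < 8) (h : π x = dd l) :
    ∃ i < 128 * (l + 1), tau ψ a c i = x := by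
  obtain ⟨δ, h1, h2⟩ := X.split
  obtain ⟨m, hm, e⟩ := (X.qb.mem _).1 ((X.ker (x * (δ l)⁻¹)).1 (by
    rw [map_mul, map_inv, h, h1 l hk, mul_inv_cancel]))
  exact ⟨m + 128 * l, by omega, by
    rw [h2 _ (by omega), Nat.add_mul_mod_self_left, Nat.add_mul_div_left _ _ (by norm_num),
      Nat.mod_eq_of_lt hm, Nat.div_eq_of_lt hm, e, zero_add, inv_mul_cancel_right]⟩

theorem law {i j : ℕ} (hi : i < 256) (hj : j < 1024) {x : H}
    (h : tau ψ a c i * tau ψ a c j = x * (tau ψ a c j * tau ψ a c i)) : x ∈ Q := by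
  have := congrArg π h
  rw [map_mul, map_mul, map_mul, X.pi_tau hj, X.pi_tau (by omega), show dd _ * dd _ = _ from
    (by decide +kernel : All 2 fun k => All 8 fun l => dd k * dd l = dd l * dd k) _ (by omega) _
      (by omega)] at this
  exact (X.ker x).1 (right_eq_mul.1 this)

end

variable {d : Par} (X : Ext Q z c a ψ π d.k d.e) (hd : d.Ok)
include X hd

theorem four : a * c * a * c⁻¹ * (a * c * a * c⁻¹) * (a * c * a * c⁻¹ * (a * c * a * c⁻¹)) = ψ d.s := by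
  obtain ⟨h1, h2, h3, -, h4, h5, -⟩ := hd
  have k1 := X.cjt h1
  have k2 := ((((X.cjd.comp X.cjd).comp X.cj).comp X.qb.cj).comp X.qb.cj).comp X.qb.cj
  have k3 := X.qb.eq_of_cj X.xs (k1.comp k2) ((X.qb.rep.inner X.qb.zero h3).comp (k2.comp X.cj)) h4
  have k4 := (k1 _ h3).2
  rw [h5, ← X.qb.mul (mq_lt (k1 _ h3).1 h3) (by omega), ← X.qb.mul (k1 _ h3).1 h3]
  generalize a * c * a * c⁻¹ * (a * c * a * c⁻¹) = t, c⁻¹ * c⁻¹ * a * c * c * c = g at k3 k4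
  obtain ⟨u, u1, u2, k3⟩ : ∃ u, (∀ g, g * u = u * g) ∧ u * u = 1 ∧ t * g = u * (ψ d.q * (g * a)) :=
    k3.elim (fun h => ⟨1, by simp, by simp, by rw [h, one_mul]⟩) fun h => ⟨z, X.xs.cen, X.xs.sq, h⟩
  rw [← mul_left_inj g, mul_assoc, k3, ← mul_assoc, u1, mul_assoc, ← mul_assoc t, k4, mul_assoc,
    ← mul_assoc t, k3, ← mul_assoc, ← u1, mul_assoc, mul_assoc, ← mul_assoc u, u2, one_mul,
    mul_assoc, mul_assoc, X.sq, X.cen h2 g, mul_assoc, mul_assoc]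

theorem rep : Rep 1024 d.mul (tau ψ a c) := by
  have h0 := X.four hd
  obtain ⟨h1, h2, h3, h4, -, h5, h6, h7⟩ := hd
  have k0 : d.s < 128 := h5 ▸ mq_lt (mq_lt (X.cjt h1 _ h3).1 h3) (by omega)
  have k1 := X.cjs h1
  have k2 := X.cjt h1
  have k3 : a * (a * c * a * c⁻¹) = ψ d.y * (a * c * a * c⁻¹ * (a * c * a * c⁻¹)) *
      (a * c * a * c⁻¹) * a := by
    have e1 := X.qb.mul h4 k0
    rw [h6, X.qb.zero, ← h0] at e1
    have e2 : ψ d.e * ψ d.e = 1 := by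
      rw [X.qb.mul (by omega) (by omega), show mq d.e d.e = 0 from
        (by decide +kernel : All 2 fun e => mq e e = 0) _ h2, X.qb.zero]
    calc _ = ψ d.e * (c * ψ d.e) * a⁻¹ * c⁻¹ := by rw [← X.sq]; group
      _ = c * a⁻¹ * c⁻¹ := by rw [X.cen h2 c, ← mul_assoc, e2, one_mul]
      _ = 1 * (c * a⁻¹ * c⁻¹) := (one_mul _).symm
      _ = _ := by rw [← e1]; group
  unfold tau
  generalize a * c * a * c⁻¹ = s at *
  have k4 : ex 128 ψ (s * s) 128 = s * s := by simp [ex, X.qb.zero]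
  have R8 : Rep 256 d.m8 _ := X.qb.rep.ext k2 k0 h0
  have R9 : Rep 512 d.m9 _ := R8.ext (R8.cj (y := 128) k1.ex (by norm_num) (by rw [k4, mul_assoc]))
    (by norm_num) k4.symm
  have k5 : d.y + 384 < 512 := by omega
  have k6 : a * s = ex 256 (ex 128 ψ (s * s)) s (d.y + 384) * a := by
    rw [k3, show d.y + 384 = d.y + 128 + 256 from rfl, ex_add, ex_add]
  exact R9.ext (R9.cj (R9.cj (y := d.x) X.cj.ex.ex (h7 ▸ (R9 _ k5 _ k5).1) (by
    rw [h7, ← (R9 _ k5 _ k5).2, ← mul_assoc, k6, mul_assoc, k6, mul_assoc])) k5 k6) (by omega)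
    (by rw [X.sq, ex_lt (by omega), ex_lt (by omega)])

variable [Finite H]

theorem sylow : ∃ T : Subgroup H, IsSylowIn 2 T ⊤ ∧ ∀ x, x ∈ T ↔ ∃ i < 1024, tau ψ a c i = x := by
  obtain ⟨T, hT⟩ := (X.rep hd).exists_subgroup (by norm_num) ((tau_lt (by norm_num)).trans X.qb.zero)
  have h1 : Nat.card T = 2 ^ 10 := by
    rw [← Nat.card_eq_of_bijective (fun i : Fin 1024 => (⟨_, (hT _).2 ⟨i, i.2, rfl⟩⟩ : T))
      ⟨fun a b h => Fin.ext (X.inj a.2 b.2 (congrArg Subtype.val h)), ?_⟩, Nat.card_fin]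
    · norm_num
    · rintro ⟨x, hx⟩
      obtain ⟨m, hm, rfl⟩ := (hT x).1 hx
      exact ⟨⟨m, hm⟩, rfl⟩
  refine ⟨T, isSylowIn_of_not_dvd_relIndex le_top (IsPGroup.of_card h1) ?_, hT⟩
  have := T.card_mul_index
  rw [h1, X.card] at this
  rw [relIndex_top_right]
  omega

theorem exists_conj {x : H} (hx : x * x = 1) : ∃ g, ∃ i < 256, tau ψ a c i = g * x * g⁻¹ := by
  obtain ⟨T, h1, h2⟩ := X.sylow hd
  obtain ⟨g, -, h3⟩ := h1.exists_conj_mem (k := 1) (mem_top x) (by rw [pow_one, pow_two, hx])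
  obtain ⟨i, hi, h4⟩ := (h2 _).1 h3
  rcases (by decide +kernel : All 8 fun k => dd k * dd k = 1 → k = 0 ∨ Ex 5 fun j =>
    gg j * dd k = dd 1 * gg j) (i / 128) (by omega) (by
      rw [← X.pi_tau hi, ← map_mul, h4, conj_mul, hx]; simp) with h | ⟨j, -, h⟩
  · exact ⟨g, i, by omega, h4⟩
  · obtain ⟨u, hu⟩ := X.surj (gg j)
    obtain ⟨l, l1, l2⟩ := X.exists_lt (x := u * tau ψ a c i * u⁻¹) (l := 1) (by norm_num) (by
      rw [map_mul, map_mul, map_inv, hu, X.pi_tau hi, h, mul_inv_cancel_right])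
    exact ⟨u * g, l, l1, by rw [l2, h4, conj_conj_eq]⟩

end Ext

end Cfsg.Agent.Lib.Hu
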