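import Cfsg.Agent.Lib.J4DR
import Cfsg.Agent.Lib.J4DT
import Cfsg.Agent.Lib.J4DF
import Cfsg.Agent.Lib.J4DM

set_option autoImplicit false
set_option maxRecDepth 100000

namespace Cfsg.Agent.Lib.J4D
open Cfsg.Agent.Lib.PermNet Cfsg.Agent.Lib.DCE

def d0 : List Der := [.base,
  .base,
  .base,
  .base,
  .base,
  .base,
  .base,
  .base,
  .dfn,
  .tm 1 [] [] [⟨8, [], []⟩],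
  .tm 0 [] [] [⟨8, [], [0]⟩, ⟨8, [11, 17, 13, 0, 7, 1], []⟩],
  .tm 0 [] [] [⟨8, [], [7, 0, 6]⟩, ⟨8, [11, 5, 3, 5, 0], []⟩],
  .tm 0 [] [] [⟨8, [], [6, 0, 7]⟩, ⟨8, [11, 13, 1, 4, 1, 2, 7], []⟩],
  .tm 0 [] [] [⟨8, [], [7, 12, 0, 9]⟩, ⟨8, [13, 15, 11, 0, 4, 2, 4], []⟩],
  .tm 0 [] [] [⟨8, [], [15, 0, 14]⟩, ⟨8, [15, 17, 17, 1, 3, 9, 7, 1, 5], []⟩],
  .tm 0 [] [] [⟨8, [], [11, 8, 6, 0, 2]⟩, ⟨8, [16, 0, 3, 3, 7, 4], []⟩],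
  .tm 2 [8, 5, 3, 6, 4, 8, 4, 0, 6, 0, 0, 17, 10] [] [⟨8, [0, 6, 3, 8, 5], [9, 4, 12, 14, 6]⟩, ⟨8, [8, 5, 3, 6, 4, 8, 2, 1, 6, 2, 6, 10, 14, 10], []⟩],
  .tm 2 [6, 3, 4, 8, 0, 0, 6, 5, 1, 12, 16] [] [⟨16, [0, 4, 0], [28, 20]⟩, ⟨16, [0, 3, 8, 0, 6, 8, 1, 4, 2, 6, 12, 16, 10], []⟩],
  .dfn,
  .tm 1 [] [] [⟨18, [], []⟩],
  .tm 0 [] [] [⟨18, [], [28]⟩, ⟨18, [11, 16, 2, 0, 3, 9, 5, 7, 3, 9], []⟩],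
  .tm 0 [] [] [⟨18, [], [21, 25, 20, 22]⟩, ⟨18, [11, 13, 15, 2, 4, 2, 9, 1, 5, 9, 1], []⟩],
  .tm 0 [] [] [⟨18, [], [21, 23, 24, 22]⟩, ⟨18, [13, 17, 15, 5, 1, 7, 1, 2, 9, 7, 1, 9, 5], []⟩],
  .tm 0 [] [] [⟨18, [], [21, 27, 28, 22]⟩, ⟨18, [11, 16, 15, 0, 4, 7, 1, 9, 3, 4, 9, 7], []⟩],
  .tm 0 [] [] [⟨18, [], [21, 25, 22, 24]⟩, ⟨18, [16, 12, 3, 1, 4, 7, 1, 9, 5, 7, 2, 4], []⟩],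
  .tm 0 [] [] [⟨18, [], [23, 26, 24]⟩, ⟨18, [17, 13, 2, 5, 2, 1, 7, 9, 1, 9, 5, 9], []⟩],
  .tm 2 [5, 0, 6, 4, 0, 12, 16] [] [⟨18, [6, 2], [22, 27, 30]⟩, ⟨18, [6, 8, 1, 2, 8, 3, 4, 3, 10, 14], []⟩],
  .tm 3 [] [] [⟨18, [1, 3], [24]⟩, ⟨17, [6, 0, 4, 2, 8, 6, 4, 2, 4, 13, 10], [27, 20]⟩, ⟨18, [6, 8, 3, 6, 0, 8, 6, 4, 1, 14, 12], []⟩],
  .tm 2 [6, 0, 3, 0, 6, 13, 17, 10] [] [⟨18, [6, 1, 3], [26, 22]⟩, ⟨18, [6, 8, 3, 6, 0, 8, 5, 1, 6, 1, 3, 0, 16, 14], []⟩],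
  .tm 4 [8, 2, 6, 0, 8, 4, 3, 6, 4, 0, 12, 16, 12] [] [⟨18, [1, 6, 8, 2, 8, 4, 8, 3, 4, 6, 5, 14, 12], [30, 23, 29]⟩, ⟨16, [2, 6, 1, 8, 6, 5, 0], [22, 31, 27]⟩, ⟨18, [5, 6, 8, 0, 4, 0, 8, 3, 0, 4, 0, 16, 12, 10], []⟩],
  .tm 1 [6, 8, 2, 6, 4, 8, 6, 4, 3, 5, 0, 10, 14, 12] [] [⟨29, [], []⟩],
  .tm 0 [] [] [⟨30, [], [42, 40]⟩, ⟨29, [0, 6, 4, 8, 2, 8, 6, 5, 0, 16, 12, 10], []⟩],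
  .tm 5 [4, 6, 8, 3, 4, 8, 5, 1, 4, 16, 16] [] [⟨19, [6, 3, 8, 5, 8, 2, 1, 6, 2, 2, 17, 10], [63, 63]⟩, ⟨18, [0, 0], []⟩],
  .dfn,
  .tm 1 [] [] [⟨33, [], []⟩],
  .tm 0 [] [] [⟨33, [], [21, 28]⟩, ⟨33, [12, 1, 3, 1, 4, 7, 9, 5, 9, 7, 3, 0], []⟩],
  .tm 0 [] [] [⟨33, [], [21, 26, 26, 24]⟩, ⟨33, [11, 13, 17, 7, 0, 3], []⟩],
  .tm 0 [] [] [⟨33, [], [21, 26, 24, 27]⟩, ⟨33, [11, 13, 15, 4, 7, 1, 1, 2, 0], []⟩],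
  .tm 0 [] [] [⟨33, [], [21, 23, 21, 30, 30, 24]⟩, ⟨33, [11, 13, 0, 5, 3, 4], []⟩],
  .tm 0 [] [] [⟨33, [], [21, 25, 21, 30, 20, 26]⟩, ⟨33, [11, 17, 3, 1, 2], []⟩],
  .tm 0 [] [] [⟨33, [], [21, 30, 26, 20, 22, 26]⟩, ⟨33, [16, 2, 7, 1, 1], []⟩],
  .tm 0 [] [] [⟨33, [], [27, 30, 29, 24, 22, 30]⟩, ⟨33, [11, 15, 17, 1, 5, 7, 3, 4, 9, 5, 7, 9, 3, 7], []⟩],
  .tm 0 [] [] [⟨33, [], [27, 25, 29, 22, 26, 24, 20]⟩, ⟨33, [11, 12, 0, 4, 2, 7, 5, 9, 5, 7, 9, 5], []⟩],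
  .tm 2 [0, 0, 3, 16, 12] [] [⟨33, [], [31, 31, 24, 26]⟩, ⟨33, [5, 2, 5, 0, 13, 17, 10], []⟩],
  .tm 2 [0, 4, 6, 2, 0] [] [⟨33, [1], [24, 22, 27, 27]⟩, ⟨33, [2, 1, 2, 5, 10, 14, 10], []⟩],
  .tm 2 [5, 6, 3, 6, 1, 16, 14, 10] [] [⟨33, [0, 0], [26, 20, 24, 30, 20]⟩, ⟨33, [6, 0, 0, 3, 12, 16, 10], []⟩],
  .tm 3 [] [] [⟨33, [4, 1], [22, 30, 28, 20]⟩, ⟨16, [2, 6, 8, 1, 2, 8, 0, 3, 6, 1, 14], [26, 28, 26, 20]⟩, ⟨33, [0, 0, 5, 6, 8, 2, 5, 0, 14, 16], []⟩],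
  .tm 3 [] [] [⟨33, [0, 6, 1], [22, 24, 30, 28, 24]⟩, ⟨32, [6, 5, 8, 2, 0, 8, 0, 5, 0, 4, 16, 16, 10], [26, 28, 31, 20, 24, 22]⟩, ⟨33, [5, 6, 8, 0, 8, 4, 3, 6, 14, 12], []⟩],
  .tm 2 [1, 3, 0, 0, 6, 5, 16, 16, 14, 10] [] [⟨33, [4, 6, 1], [24, 22, 24]⟩, ⟨33, [6, 0, 4, 3, 17, 13], []⟩],
  .tm 2 [5, 8, 6, 0, 8, 5, 0, 2, 4, 16, 16, 10] [] [⟨33, [4, 1, 8], [22, 30, 27]⟩, ⟨18, [2, 4, 6, 8, 4, 8, 2, 4, 6, 0, 4, 12, 16, 10], []⟩],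
  .tm 1 [6, 0, 6, 8, 5, 2, 8, 6, 3, 5, 10, 14, 12] [] [⟨49, [], []⟩],
  .tm 4 [2, 5, 2, 8, 4, 1, 6, 3, 0, 17, 13, 10] [] [⟨44, [4, 6, 1, 8, 4, 8, 0, 5, 0, 16, 12, 10], [92, 95]⟩, ⟨33, [0, 4, 1], [30, 24, 26, 20]⟩, ⟨33, [2, 6, 1, 6, 1, 17, 14, 10], []⟩],
  .tm 6 [] [] [⟨44, [6, 2, 0, 8, 2, 8, 4, 6, 0, 3, 12], [95, 95]⟩, ⟨51, [6, 4, 8, 0, 8, 5, 2, 6, 1, 6, 1, 14], [76, 85]⟩, ⟨33, [3, 5, 1], [27, 22, 27, 22]⟩, ⟨33, [6, 0, 5, 2, 5, 16, 16, 10], []⟩],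
  .tm 4 [5, 2, 8, 4, 8, 4, 6, 0, 3, 12] [] [⟨51, [2, 0, 8, 6, 8, 5, 0, 2, 0, 12], [95, 105, 77]⟩, ⟨33, [0, 8, 5, 3], [24, 22, 31, 26]⟩, ⟨18, [1, 2, 8, 1, 3, 14, 13], []⟩],
  .tm 1 [8, 6, 8, 1, 2, 8, 3, 6, 4, 2, 0, 16, 14, 12, 10] [] [⟨53, [], []⟩],
  .tm 5 [8, 1, 3, 6, 0, 8, 1, 3, 6, 0, 0, 16] [] [⟨44, [4, 8, 6, 1, 2, 8, 6, 4, 3, 0, 2, 10], [73, 95, 105]⟩, ⟨44, [2, 8, 0, 0], []⟩],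
  .dfn,
  .tm 1 [] [] [⟨56, [], []⟩],
  .tm 0 [] [] [⟨56, [], [21, 30, 30, 30]⟩, ⟨56, [13, 15, 17, 1, 4, 7, 4], []⟩],
  .tm 0 [] [] [⟨56, [], [21, 25, 27, 28, 26, 20]⟩, ⟨56, [7, 4, 9, 5, 7, 9], []⟩],
  .tm 0 [] [] [⟨56, [], [21, 27, 23, 24, 27, 20]⟩, ⟨56, [16, 15, 3, 0, 4, 0], []⟩],
  .tm 0 [] [] [⟨56, [], [27, 23, 30, 28, 31, 22, 20]⟩, ⟨56, [12, 0, 4, 3, 7, 4, 9, 5, 7, 9, 2, 7], []⟩],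
  .tm 2 [8, 3, 6, 4, 8, 3, 4, 1, 3, 12, 12, 10] [] [⟨56, [1, 3, 8], [27, 31, 28, 30]⟩, ⟨56, [8, 2, 6, 0, 8, 3, 5, 3, 12], []⟩],
  .tm 2 [0, 8, 4, 6, 3, 4, 8, 6, 3, 6, 4, 1, 10, 14] [] [⟨56, [6, 3, 8], [28, 24, 31, 27]⟩, ⟨33, [6, 2, 8, 6, 4, 8, 3, 5, 3, 14, 16, 12, 10], []⟩],
  .tm 1 [8, 1, 6, 0, 8, 2, 2, 1, 6, 12, 16, 10] [] [⟨63, [], []⟩],
  .tm 2 [1, 5, 6, 3, 4, 10] [] [⟨56, [6, 2, 0, 0], [28, 20, 22, 31, 26]⟩, ⟨56, [1, 8, 6, 1, 2, 8, 0, 5, 0, 6, 16, 16], []⟩],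
  .tm 2 [6, 4, 8, 2, 8, 6, 0, 0, 3, 17] [] [⟨56, [5, 8, 2, 1], [30, 30, 28, 22]⟩, ⟨33, [4, 2, 6, 4, 8, 6, 2, 6, 4, 2, 14], []⟩],
  .tm 1 [1, 8, 6, 0, 8, 2, 6, 0, 0, 12] [] [⟨66, [], []⟩],
  .tm 2 [3, 0, 6, 2, 4, 10, 14, 10] [] [⟨56, [5, 2, 6, 1], [27, 20, 27, 20]⟩, ⟨56, [5, 6, 1, 16, 10], []⟩],
  .tm 2 [6, 8, 0, 8, 0, 0, 6, 10, 14, 12, 10] [] [⟨62, [3, 8, 5], [121, 122, 116]⟩, ⟨62, [6, 8, 2, 8, 4, 8, 0, 0, 6, 5, 0, 13, 17], []⟩],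
  .tm 7 [] [] [⟨67, [0, 3, 6, 8, 5, 8, 0, 6, 1, 4, 14, 16, 12], [75, 104]⟩, ⟨51, [5, 8, 2, 0, 6, 0, 12, 10], [79, 105]⟩, ⟨66, [1, 3], []⟩],
  .tm 4 [2, 5, 6, 8, 4, 8, 4, 6, 1, 6, 16, 16, 10] [] [⟨64, [8, 1, 6, 4, 0, 8, 1, 4, 14, 16], [94, 82, 84]⟩, ⟨66, [0, 5, 2, 6, 8, 4, 2], [118, 140]⟩, ⟨65, [1, 6, 1, 8, 5, 8, 5, 2, 6, 4, 0, 16, 14, 12], []⟩],
  .tm 4 [5, 8, 0, 6, 8, 1, 3, 6, 4, 1, 16, 16, 14] [] [⟨64, [0, 3, 6, 8, 5, 8, 2, 1, 6, 5, 0, 17, 10], [95, 84, 76]⟩, ⟨66, [0, 0, 3, 6, 8, 4, 2], [118, 141, 122]⟩, ⟨62, [6, 2, 6, 8, 4, 8, 1, 6, 3, 0, 12, 16, 12], []⟩],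
  .tm 4 [5, 6, 8, 4, 8, 4, 2, 5, 14, 16, 12] [] [⟨64, [6, 0, 8, 4, 8, 4, 6, 0, 0, 16, 14, 12, 10], [95, 83]⟩, ⟨66, [6, 1, 6, 2, 0, 8, 2], [140, 120, 116]⟩, ⟨63, [1, 6, 1, 8, 4, 8, 0, 6, 0, 3, 14], []⟩],
  .tm 1 [8, 2, 8, 6, 0, 8, 0, 6, 2, 2, 16, 14, 10] [] [⟨73, [], []⟩],
  .tm 4 [4, 8, 2, 6, 0, 8, 2, 4, 1, 3, 12, 16, 12] [] [⟨64, [3, 4, 8, 6, 0, 8, 4, 6, 0, 3, 0, 17, 13], [73, 85, 105]⟩, ⟨66, [3, 0, 2, 6, 0, 8, 2], [118, 141, 118, 140, 116]⟩, ⟨71, [6, 8, 3, 6, 4, 8, 2, 2, 0, 6, 14, 17], []⟩],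
  .tm 4 [0, 8, 6, 0, 8, 0, 6, 2, 5, 14, 17, 10] [] [⟨64, [2, 8, 4, 0, 6, 8, 5, 1, 6, 5, 16, 12], [77, 77]⟩, ⟨66, [0, 6, 2, 1, 2, 8, 2], [122, 121, 140]⟩, ⟨65, [5, 6, 8, 2, 6, 2, 5, 0, 17, 14], []⟩],
  .dfn,
  .tm 1 [] [] [⟨77, [], []⟩],
  .tm 0 [] [] [⟨77, [], [44, 51, 44, 50]⟩, ⟨77, [17, 15, 1, 7, 3, 9, 7, 1, 5, 9], []⟩],
  .tm 0 [] [] [⟨77, [], [45, 42, 40, 43, 40]⟩, ⟨77, [11, 0, 3, 7, 4, 9, 5, 7, 0, 9, 5], []⟩],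
  .tm 0 [] [] [⟨77, [], [43, 46, 42, 55, 40]⟩, ⟨77, [13, 15, 11, 0, 7, 5, 2, 9, 1, 9, 7, 2, 9], []⟩],
  .tm 0 [] [] [⟨77, [], [47, 43, 46, 40, 42]⟩, ⟨77, [12, 1, 3, 5, 1, 7, 9, 5, 2, 9, 7, 0], []⟩],
  .tm 0 [] [] [⟨77, [], [54, 62, 46, 44, 42]⟩, ⟨77, [2, 5, 3, 7, 9, 3, 9, 7, 0, 3], []⟩],
  .tm 2 [3, 6, 0, 6, 14, 16, 12, 10] [] [⟨77, [5, 2, 1], [54, 46, 63, 63, 40]⟩, ⟨77, [0, 8, 6, 0, 8, 0, 0, 6, 5, 0, 2, 12], []⟩],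
  .tm 2 [8, 5, 6, 0, 8, 2, 6, 2, 1, 14, 17, 10] [] [⟨77, [8, 2, 1], [51, 54, 45, 42]⟩, ⟨77, [5, 0, 6, 8, 4, 8, 2, 1, 6, 3, 4, 14, 17], []⟩],
  .tm 2 [1, 4, 0, 0, 12, 12] [] [⟨77, [2, 6, 1], [63, 42, 47, 40]⟩, ⟨54, [1, 2, 8, 6, 0, 8, 6, 4, 0, 14, 17, 10], []⟩],
  .tm 1 [2, 8, 5, 8, 0, 2, 6, 14, 16, 12, 10] [] [⟨86, [], []⟩],
  .tm 2 [3, 4, 6, 1, 13] [] [⟨77, [6, 3, 5], [55, 51, 43, 40]⟩, ⟨77, [8, 5, 2, 6, 8, 0, 3, 5, 0, 14, 13], []⟩],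
  .tm 2 [6, 2, 0, 8, 4, 0, 8, 1, 4, 2, 13, 10] [] [⟨77, [3, 8, 5], [62, 54, 40]⟩, ⟨50, [2, 0, 8, 6, 8, 5, 3, 1, 12, 10], []⟩],
  .tm 1 [6, 2, 5, 2, 8, 1, 5, 1, 2, 10, 14, 12, 10] [] [⟨89, [], []⟩],
  .tm 2 [3, 6, 0, 8, 2, 8, 2, 0, 0, 2, 16, 16, 10] [] [⟨77, [6, 2, 8], [50, 50, 48, 43]⟩, ⟨77, [8, 1, 8, 6, 4, 8, 6, 5, 1, 3, 14, 16, 10], []⟩],
  .tm 2 [8, 6, 4, 8, 2, 8, 4, 0, 6, 3, 14, 12] [] [⟨77, [6, 3, 8, 5], [54, 47, 44]⟩, ⟨77, [6, 0, 8, 4, 8, 0, 0, 4, 0, 6, 12, 12, 10], []⟩],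
  .tm 3 [] [] [⟨77, [3, 5], [63, 63, 46]⟩, ⟨26, [8, 5, 6, 0, 8, 6, 2, 6, 5, 16, 16, 10], [42, 62, 62, 40]⟩, ⟨77, [8, 2, 6, 0, 8, 1, 2, 5, 2, 16], []⟩],
  .tm 4 [8, 6, 3, 4, 8, 2, 0, 6, 4, 0, 10, 14, 12, 10] [] [⟨84, [8, 3, 1, 6, 0, 8, 0, 6, 0, 4, 0, 14, 10], [159, 186, 167]⟩, ⟨77, [4, 6, 0, 2, 8, 5], [46, 40, 54, 44]⟩, ⟨77, [1, 2, 6, 8, 4, 8, 6, 2, 14, 16, 10], []⟩],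
  .tm 6 [] [] [⟨84, [5, 8, 6, 0, 8, 3, 0, 0, 3, 14], [162, 167, 167]⟩, ⟨94, [8, 4, 0, 8, 6, 3, 6, 12, 16, 10], [164, 162, 165]⟩, ⟨77, [2, 1, 4, 2, 8, 5], [47, 40, 51, 48]⟩, ⟨77, [6, 8, 5, 3, 0, 12], []⟩],
  .tm 4 [0, 3, 5, 8, 6, 0, 8, 6, 1, 4, 0, 6, 14, 16, 12, 10] [] [⟨94, [0, 2, 8, 6, 0, 8, 5, 1, 6, 5, 1, 14, 13, 10], [161, 165, 159, 164]⟩, ⟨77, [2, 5, 8, 2, 8, 5], [42, 40, 47, 63]⟩, ⟨54, [4, 6, 8, 3, 4, 8, 5, 6, 1, 2, 17, 14, 10], []⟩],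
  .tm 1 [8, 6, 3, 4, 8, 4, 1, 3, 1, 17] [] [⟨96, [], []⟩],
  .tm 4 [6, 8, 2, 8, 4, 8, 0, 6, 2, 5, 0, 13, 17, 10] [] [⟨84, [0, 5, 6, 0, 8, 1, 6, 1, 2, 12, 12, 10], [159, 167, 190, 161]⟩, ⟨77, [3, 8, 0, 5, 8, 5], [50, 40, 54]⟩, ⟨77, [1, 8, 5, 6, 8, 2, 8, 6, 1, 5, 0, 6, 13, 17], []⟩]]

theorem fc0 : checkL (nat_lit 11) (nat_lit 2047) tH tK tK' BB FF TM XW d0 (nat_lit 0) = true := by decide +kernel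

def d99 : List Der := [.tm 5 [8, 6, 4, 0, 8, 1, 6, 1, 3, 0, 14, 12, 10] [] [⟨98, [6, 3, 6, 8, 4, 8, 2, 1, 6, 1, 14, 17], [159, 166, 162]⟩, ⟨84, [0, 8], []⟩],
  .tm 5 [8, 6, 8, 5, 8, 1, 6, 3, 0, 0, 17, 13, 10] [] [⟨84, [2, 1, 8, 2, 8, 4, 3, 0, 14, 17, 10], [159, 167, 163, 166]⟩, ⟨84, [2, 4, 8], []⟩],
  .tm 4 [4, 3, 8, 6, 4, 8, 5, 6, 5, 1, 2, 12, 12, 10] [] [⟨94, [3, 8, 0, 6, 4, 8, 0, 3, 5, 0, 17, 13], [159, 186, 163, 161]⟩, ⟨84, [6, 4, 8, 2, 8, 6, 2], [158, 191, 162]⟩, ⟨99, [3, 5, 6, 8, 4, 8, 2, 6, 4, 0, 16, 10], []⟩],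
  .tm 4 [5, 8, 0, 6, 8, 1, 6, 3, 0, 0, 14, 12, 10] [] [⟨101, [0, 8, 3, 8, 6, 0, 8, 6, 1, 4, 16, 12], [162, 190, 161, 162]⟩, ⟨84, [3, 0, 6, 3, 1, 8, 2], [190, 167, 165]⟩, ⟨101, [8, 0, 6, 8, 4, 8, 6, 1, 4, 2, 16, 12], []⟩],
  .tm 5 [4, 3, 8, 6, 4, 8, 2, 1, 2, 2, 0, 10, 14, 10] [] [⟨74, [1, 8, 5, 6, 8, 3, 1, 6, 3, 14, 12, 10], [73, 95, 71, 105]⟩, ⟨86, [6, 3, 5], []⟩],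
  .tm 1 [5, 2, 6, 8, 4, 8, 2, 1, 2, 6, 0, 0, 16, 14, 10] [] [⟨103, [], []⟩],
  .tm 4 [5, 2, 8, 6, 1, 3, 1, 10] [] [⟨64, [3, 5, 6, 8, 4, 8, 2, 6, 1, 6, 0, 13, 10], [73, 105, 92]⟩, ⟨86, [4, 3, 0, 5, 8, 3], [160, 191, 186]⟩, ⟨94, [8, 5, 3, 6, 4, 8, 6, 0, 4, 3, 4, 16, 14, 12, 10], []⟩],
  .tm 1 [6, 3, 4, 8, 2, 2, 4, 1, 10, 14, 12, 10] [] [⟨105, [], []⟩],
  .tm 4 [8, 4, 8, 2, 6, 0, 6, 5, 17, 13] [] [⟨64, [0, 8, 4, 0, 8, 4, 3, 1, 6, 10, 14, 12], [95, 83, 105]⟩, ⟨86, [0, 0, 4, 6, 8, 3], [191, 158, 187]⟩, ⟨101, [0, 0, 6, 4, 8, 3, 6, 2, 5, 0, 14, 17, 10], []⟩],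
  .tm 1 [8, 3, 8, 6, 4, 8, 3, 6, 2, 5, 0, 16, 10] [] [⟨107, [], []⟩],
  .tm 4 [6, 0, 6, 8, 5, 8, 3, 6, 2, 4, 2, 16, 16] [] [⟨74, [0, 8, 5, 6, 8, 5, 6, 1, 6, 0, 14, 17], [95, 80, 105]⟩, ⟨86, [8, 3, 0, 6, 2, 4], [166, 164]⟩, ⟨91, [0, 3, 6, 8, 5, 8, 0, 6, 0, 6, 14, 16], []⟩],
  .tm 1 [3, 6, 8, 5, 8, 3, 5, 2, 6, 16, 10] [] [⟨109, [], []⟩],
  .tm 2 [2, 5, 6, 8, 4, 8, 1, 6, 5, 3, 17, 13, 10] [] [⟨89, [6, 2], [190]⟩, ⟨100, [3, 4, 6, 8, 4, 8, 1, 6, 2, 1, 2, 13, 17, 10], []⟩],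
  .tm 1 [5, 8, 0, 6, 4, 8, 1, 2, 0, 0, 14, 13, 10] [] [⟨111, [], []⟩],
  .dfn,
  .tm 1 [] [] [⟨113, [], []⟩],
  .tm 0 [] [] [⟨113, [], [81, 82, 82, 81]⟩, ⟨113, [7, 0, 7, 4, 9, 5, 9, 7, 1, 7], []⟩],
  .tm 0 [] [] [⟨113, [], [82, 71, 104, 92]⟩, ⟨113, [17, 17, 2, 4, 7, 4, 9, 5, 9, 0], []⟩],
  .tm 0 [] [] [⟨113, [], [71, 84, 81, 92, 104, 70]⟩, ⟨113, [13, 13, 5, 2, 4, 0, 9, 5, 2, 9, 7, 4], []⟩],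
  .tm 2 [1, 4, 6, 5, 3, 17, 13] [] [⟨113, [6, 3], [72, 104, 82]⟩, ⟨64, [5, 6, 0, 8, 4, 0, 8, 6, 3, 6, 5, 17, 13, 10], []⟩],
  .tm 1 [4, 8, 6, 4, 8, 0, 8, 4, 0, 2, 0, 16, 14, 12, 10] [] [⟨118, [], []⟩],
  .tm 2 [6, 5, 2, 5, 3, 14, 13] [] [⟨113, [2, 4], [92, 77, 83]⟩, ⟨113, [0, 2, 8, 6, 0, 8, 6, 1, 6, 5, 0, 0, 14, 13, 10], []⟩],
  .tm 2 [5, 0, 5, 1, 12, 16, 12] [] [⟨113, [3, 5], [105, 84, 70]⟩, ⟨113, [2, 1, 6, 0, 8, 2, 8, 0, 3, 6, 2, 4, 10, 14], []⟩],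
  .tm 2 [1, 6, 0, 8, 0, 0, 4, 12, 16, 10] [] [⟨113, [8, 5], [94, 105, 78, 76]⟩, ⟨97, [2, 6, 0, 8, 4, 0, 8, 2, 5, 3, 6, 1, 14, 12], []⟩],
  .tm 1 [8, 3, 8, 0, 8, 6, 2, 5, 2, 4, 0, 12] [] [⟨122, [], []⟩],
  .tm 2 [1, 3, 6, 0, 8, 1, 2, 5, 6, 12, 12] [] [⟨113, [0, 8], [77, 85, 79, 72]⟩, ⟨113, [3, 5, 8, 2, 8, 0, 3, 6, 13, 10], []⟩],
  .tm 2 [5, 8, 1, 2, 4, 1, 16] [] [⟨113, [1, 8], [93, 70, 82, 70]⟩, ⟨97, [0, 8, 6, 4, 0, 8, 3, 0, 6, 0, 16, 16, 10], []⟩],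
  .tm 1 [1, 4, 8, 6, 0, 8, 1, 4, 0, 0, 6, 16, 14, 12] [] [⟨125, [], []⟩],
  .tm 2 [8, 4, 3, 6, 4, 8, 5, 6, 3, 1, 2, 14, 13, 10] [] [⟨113, [3, 8], [105, 85, 105, 70]⟩, ⟨113, [8, 1, 4, 8, 1, 6, 0, 14, 16, 12, 10], []⟩],
  .tm 2 [1, 5, 0, 0, 16, 16, 10] [] [⟨113, [0, 4, 0], [84, 77, 70]⟩, ⟨113, [8, 6, 8, 3, 4, 8, 6, 4, 3, 6, 13], []⟩],
  .tm 2 [6, 4, 1, 3, 1, 16, 14, 12, 10] [] [⟨113, [1, 6, 1], [81, 94, 79, 70]⟩, ⟨74, [1, 8, 6, 1, 2, 8, 3, 6, 0, 0, 12, 16], []⟩],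
  .tm 1 [8, 0, 2, 6, 8, 0, 0, 6, 0, 4, 0, 14, 16, 10] [] [⟨129, [], []⟩],
  .tm 2 [0, 8, 4, 6, 3, 4, 8, 6, 3, 6, 4, 1, 10, 14] [] [⟨113, [6, 3, 8], [70, 84, 95]⟩, ⟨87, [4, 3, 8, 6, 0, 8, 0, 4, 1, 6, 16, 12, 10], []⟩],
  .tm 1 [8, 5, 8, 2, 6, 0, 8, 2, 0, 0, 16, 14, 12] [] [⟨131, [], []⟩],
  .tm 2 [1, 5, 0, 6, 17, 13, 10] [] [⟨113, [6, 0, 4, 0], [83, 104, 95, 80]⟩, ⟨74, [8, 6, 8, 6, 4, 8, 0, 6, 2, 2, 13, 17], []⟩],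
  .tm 1 [2, 8, 6, 8, 0, 8, 2, 6, 1, 4, 2, 17, 10] [] [⟨133, [], []⟩],
  .tm 0 [] [] [⟨123, [], [191, 167, 162, 160, 158]⟩, ⟨123, [16, 3, 7, 4, 2, 9, 3, 0, 9, 7], []⟩],
  .tm 4 [2, 4, 6, 8, 4, 8, 1, 5, 6, 5, 14, 10] [] [⟨113, [0, 6, 0, 8, 2, 8, 3, 5, 6, 3, 0, 13, 17], [73, 79, 105, 83]⟩, ⟨114, [8, 6, 8, 1, 5, 0, 0], [232, 270, 235, 270, 234, 270]⟩, ⟨121, [8, 6, 4, 8, 0, 2, 4, 16], []⟩]]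

theorem fc99 : checkL (nat_lit 11) (nat_lit 2047) tH tK tK' BB FF TM XW d99 (nat_lit 99) = true := by decide +kernel

theorem cv0_1_0 : covB FF nets (nat_lit 17228) (nat_lit 15) (nat_lit 16) (nat_lit 2048) (nat_lit 137) (nat_lit 0) (nat_lit 1) [0, 1, 2, 3, 4, 5, 6, 7] [[0], [2], [4], [6], [8], [10], [12], [14]]
    [8] [7, 6, 5, 4, 3, 2, 1, 6, 4, 0, 3, 2, 1, 6, 4, 0, 2, 3] k0_1 = true := by decide +kernel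

theorem rw0 : rowB (nat_lit 17228) (ivl (nat_lit 2048) ((nat_lit 17228) - (nat_lit 2048))) row0 [0, 15180, 0, 0, 0, 0, 0] 0 = true := by decide +kernel

theorem cv1_0_0 : covB FF nets (nat_lit 17228) (nat_lit 15) (nat_lit 16) (nat_lit 2048) (nat_lit 137) (nat_lit 1) (nat_lit 0) [10, 11, 12, 13, 14, 15] [[0], [7, 0, 6], [6, 0, 7], [7, 12, 0, 9], [12, 0, 14, 0, 13, 9, 6, 3, 4, 21, 18], [10, 8, 6, 0, 2]]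
    [9] [] k1_0 = true := by decide +kernel

theorem cv1_1_0 : covB FF nets (nat_lit 17228) (nat_lit 15) (nat_lit 16) (nat_lit 2048) (nat_lit 137) (nat_lit 1) (nat_lit 1) [10, 11, 12, 13, 14, 15] [[0], [7, 0, 6], [6, 0, 7], [7, 12, 0, 9], [12, 0, 14, 0, 13, 9, 6, 3, 4, 21, 18], [10, 8, 6, 0, 2]]
    [32, 17, 16] [0, 3, 0, 2, 5, 0, 1, 0, 2, 1, 0, 5, 4, 2, 1, 0] k1_1 = true := by decide +kernel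

theorem cv1_2_0 : covB FF nets (nat_lit 17228) (nat_lit 15) (nat_lit 16) (nat_lit 2048) (nat_lit 137) (nat_lit 1) (nat_lit 2) [10, 11, 12, 13, 14, 15] [[0], [7, 0, 6], [6, 0, 7], [7, 12, 0, 9], [12, 0, 14, 0, 13, 9, 6, 3, 4, 21, 18], [10, 8, 6, 0, 2]]
    [18] [0, 2, 0, 5, 0, 3, 1, 0, 3] k1_2 = true := by decide +kernel

theorem cv1_3_0 : covB FF nets (nat_lit 17228) (nat_lit 15) (nat_lit 16) (nat_lit 2048) (nat_lit 137) (nat_lit 1) (nat_lit 3) [10, 11, 12, 13, 14, 15] [[0], [7, 0, 6], [6, 0, 7], [7, 12, 0, 9], [12, 0, 14, 0, 13, 9, 6, 3, 4, 21, 18], [10, 8, 6, 0, 2]]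
    [33] [0, 2, 0, 1, 0, 2, 0, 3, 0, 1, 0, 5, 0, 1, 0, 4, 2, 0, 1, 0, 2, 0, 1, 0, 2, 0] k1_3 = true := by decide +kernel

theorem cv1_4_0 : covB FF nets (nat_lit 17228) (nat_lit 15) (nat_lit 16) (nat_lit 2048) (nat_lit 137) (nat_lit 1) (nat_lit 4) [10, 11, 12, 13, 14, 15] [[0], [7, 0, 6], [6, 0, 7], [7, 12, 0, 9], [12, 0, 14, 0, 13, 9, 6, 3, 4, 21, 18], [10, 8, 6, 0, 2]]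
    [56] [0, 2, 0, 1, 0, 3, 0, 2, 0, 5, 0, 1, 0, 2, 0, 1, 0, 4, 2, 0, 1, 0, 3, 0, 1] k1_4 = true := by decide +kernel

theorem rw1 : rowB (nat_lit 17228) (ivl (nat_lit 2048) ((nat_lit 17228) - (nat_lit 2048))) row1 [1, 311, 84, 4032, 10752, 0, 0] 0 = true := by decide +kernel

theorem cv2_1_0 : covB FF nets (nat_lit 17228) (nat_lit 15) (nat_lit 16) (nat_lit 2048) (nat_lit 137) (nat_lit 2) (nat_lit 1) [20, 21, 22, 23, 24, 25, 27, 31] [[9, 12, 2, 0, 14, 0, 3, 7, 12, 9, 2, 9, 4, 2, 17], [2, 5, 13, 0, 14, 12, 9, 12, 3, 0, 4, 10, 4, 9, 18, 22], [14, 7, 4, 13, 7, 0, 14, 5, 7, 8, 2, 0, 3, 6, 2, 6, 18, 20, 16], [12, 5, 6, 3, 0, 14, 13, 7, 4, 2, 0, 6, 10, 4, 3, 18, 20, 16, 16], [7, 3, 0, 3, 0, 14, 10, 12, 2, 0, 6, 10, 4, 2, 21, 16],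 [6, 13, 8, 13, 14, 13, 9, 12, 3, 0, 7, 9, 6, 5, 18, 16, 20, 16], [9, 3, 5, 0, 14, 7, 4, 0, 5, 0, 5, 6, 10, 5, 18, 16, 16, 16], [6, 12, 8, 4, 0, 14, 7, 2, 8, 0, 4, 7, 5, 3, 18, 16, 16, 16]]
    [19] [7, 6, 0, 7, 6, 7, 6, 7, 6] k2_1 = true := by decide +kernel

theorem cv2_2_0 : covB FF nets (nat_lit 17228) (nat_lit 15) (nat_lit 16) (nat_lit 2048) (nat_lit 137) (nat_lit 2) (nat_lit 2) [20, 21, 22, 23, 24, 25, 27, 31] [[9, 12, 2, 0, 14, 0, 3, 7, 12, 9, 2, 9, 4, 2, 17], [2, 5, 13, 0, 14, 12, 9, 12, 3, 0, 4, 10, 4, 9, 18, 22], [14, 7, 4, 13, 7, 0, 14, 5, 7, 8, 2, 0, 3, 6, 2, 6, 18, 20, 16], [12, 5, 6, 3, 0, 14, 13, 7, 4, 2, 0, 6, 10, 4, 3, 18, 20, 16, 16], [7, 3, 0, 3, 0, 14, 10, 12, 2, 0, 6, 10, 4, 2, 21, 16], [6, 13, 8, 13, 14,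 13, 9, 12, 3, 0, 7, 9, 6, 5, 18, 16, 20, 16], [9, 3, 5, 0, 14, 7, 4, 0, 5, 0, 5, 6, 10, 5, 18, 16, 16, 16], [6, 12, 8, 4, 0, 14, 7, 2, 8, 0, 4, 7, 5, 3, 18, 16, 16, 16]]
    [26, 28] [0, 7, 6, 5, 7, 0, 6, 1, 7, 4, 6, 0, 4] k2_2 = true := by decide +kernel

theorem cv2_3_0 : covB FF nets (nat_lit 17228) (nat_lit 15) (nat_lit 16) (nat_lit 2048) (nat_lit 137) (nat_lit 2) (nat_lit 3) [20, 21, 22, 23, 24, 25, 27, 31] [[9, 12, 2, 0, 14, 0, 3, 7, 12, 9, 2, 9, 4, 2, 17], [2, 5, 13, 0, 14, 12, 9, 12, 3, 0, 4, 10, 4, 9, 18, 22], [14, 7, 4, 13, 7, 0, 14, 5, 7, 8, 2, 0, 3, 6, 2, 6, 18, 20, 16], [12, 5, 6, 3, 0, 14, 13, 7, 4, 2, 0, 6, 10, 4, 3, 18, 20, 16, 16], [7, 3, 0, 3, 0, 14, 10, 12, 2, 0, 6, 10, 4, 2, 21, 16], [6, 13, 8, 13, 14, 13,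 9, 12, 3, 0, 7, 9, 6, 5, 18, 16, 20, 16], [9, 3, 5, 0, 14, 7, 4, 0, 5, 0, 5, 6, 10, 5, 18, 16, 16, 16], [6, 12, 8, 4, 0, 14, 7, 2, 8, 0, 4, 7, 5, 3, 18, 16, 16, 16]]
    [54, 50] [0, 4, 1, 7, 0, 6, 3, 4, 0, 7, 6, 7, 0, 6, 4, 1] k2_3 = true := by decide +kernel

theorem cv2_5_0 : covB FF nets (nat_lit 17228) (nat_lit 15) (nat_lit 16) (nat_lit 2048) (nat_lit 137) (nat_lit 2) (nat_lit 5) [20, 21, 22, 23, 24, 25, 27, 31] [[9, 12, 2, 0, 14, 0, 3, 7, 12, 9, 2, 9, 4, 2, 17], [2, 5, 13, 0, 14, 12, 9, 12, 3, 0, 4, 10, 4, 9, 18, 22], [14, 7, 4, 13, 7, 0, 14, 5, 7, 8, 2, 0, 3, 6, 2, 6, 18, 20, 16], [12, 5, 6, 3, 0, 14, 13, 7, 4, 2, 0, 6, 10, 4, 3, 18, 20, 16, 16], [7, 3, 0, 3, 0, 14, 10, 12, 2, 0, 6, 10, 4, 2, 21, 16], [6, 13, 8, 13,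 14, 13, 9, 12, 3, 0, 7, 9, 6, 5, 18, 16, 20, 16], [9, 3, 5, 0, 14, 7, 4, 0, 5, 0, 5, 6, 10, 5, 18, 16, 16, 16], [6, 12, 8, 4, 0, 14, 7, 2, 8, 0, 4, 7, 5, 3, 18, 16, 16, 16]]
    [77] [0, 4, 1, 7, 0, 4, 6, 1, 0, 4, 5, 7, 0, 3, 4, 0, 1, 0] k2_5 = true := by decide +kernel

theorem rw2 : rowB (nat_lit 17228) (ivl (nat_lit 2048) ((nat_lit 17228) - (nat_lit 2048))) row2 [0, 45, 375, 3240, 0, 11520, 0] 0 = true := by decide +kernel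

theorem cv3_1_0 : covB FF nets (nat_lit 17228) (nat_lit 15) (nat_lit 16) (nat_lit 2048) (nat_lit 137) (nat_lit 3) (nat_lit 1) [35, 36, 37, 38, 39, 40, 41, 42, 46, 47, 52] [[0, 6, 3, 0, 14, 4, 6, 4, 0, 9, 2, 7, 20, 18, 17], [0, 3, 7, 13, 7, 8, 2, 5, 22, 20], [3, 0, 10, 3, 9, 3, 21, 18], [6, 0, 5, 2, 0, 3, 4, 7], [2, 10, 6, 0, 8, 2, 8, 2, 23, 16, 16], [13, 9, 0, 5, 9, 10, 2, 21, 17, 17], [10, 2, 6, 0, 14, 8, 4, 13, 9, 2, 8, 4, 18, 17, 17], [2, 0, 5, 10, 0, 14, 8, 3, 0, 4, 3, 6, 2, 16, 23, 16], [2, 9, 6, 0, 14, 2, 6, 9, 2, 0, 8, 3, 6, 4, 18, 23, 16, 16], [9, 7, 5, 0, 14, 12, 6, 2, 4, 0, 4, 9, 10, 3, 21, 16, 16], [12, 6, 13, 0, 14, 10, 12, 2, 4, 0, 4, 2, 7, 2, 23, 18, 21]]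
    [34] [10, 3, 9, 8, 7] k3_1 = true := by decide +kernel

theorem cv3_2_0 : covB FF nets (nat_lit 17228) (nat_lit 15) (nat_lit 16) (nat_lit 2048) (nat_lit 137) (nat_lit 3) (nat_lit 2) [35, 36, 37, 38, 39, 40, 41, 42, 46, 47, 52] [[0, 6, 3, 0, 14, 4, 6, 4, 0, 9, 2, 7, 20, 18, 17], [0, 3, 7, 13, 7, 8, 2, 5, 22, 20], [3, 0, 10, 3, 9, 3, 21, 18], [6, 0, 5, 2, 0, 3, 4, 7], [2, 10, 6, 0, 8, 2, 8, 2, 23, 16, 16], [13, 9, 0, 5, 9, 10, 2, 21, 17, 17], [10, 2, 6, 0, 14, 8, 4, 13, 9, 2, 8, 4, 18, 17, 17], [2, 0, 5, 10, 0, 14, 8, 3, 0, 4, 3, 6, 2, 16, 23, 16], [2, 9, 6, 0, 14, 2, 6, 9, 2, 0, 8, 3, 6, 4, 18, 23, 16, 16], [9, 7, 5, 0, 14, 12, 6, 2, 4, 0, 4, 9, 10, 3, 21, 16, 16], [12, 6, 13, 0, 14, 10, 12, 2, 4, 0, 4, 2, 7, 2, 23, 18,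 21]]
    [49, 53] [3, 1, 10, 3, 10, 10] k3_2 = true := by decide +kernel

theorem cv3_3_0 : covB FF nets (nat_lit 17228) (nat_lit 15) (nat_lit 16) (nat_lit 2048) (nat_lit 137) (nat_lit 3) (nat_lit 3) [35, 36, 37, 38, 39, 40, 41, 42, 46, 47, 52] [[0, 6, 3, 0, 14, 4, 6, 4, 0, 9, 2, 7, 20, 18, 17], [0, 3, 7, 13, 7, 8, 2, 5, 22, 20], [3, 0, 10, 3, 9, 3, 21, 18], [6, 0, 5, 2, 0, 3, 4, 7], [2, 10, 6, 0, 8, 2, 8, 2, 23, 16, 16], [13, 9, 0, 5, 9, 10, 2, 21, 17, 17], [10, 2, 6, 0, 14, 8, 4, 13, 9, 2, 8, 4, 18, 17, 17], [2, 0, 5, 10, 0, 14, 8, 3, 0, 4, 3, 6, 2, 16, 23, 16], [2, 9, 6, 0, 14, 2, 6, 9, 2, 0, 8, 3, 6, 4, 18, 23, 16, 16], [9, 7, 5, 0, 14, 12, 6, 2, 4, 0, 4, 9, 10, 3, 21, 16, 16], [12, 6, 13, 0, 14, 10, 12, 2, 4, 0, 4, 2,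 7, 2, 23, 18, 21]]
    [43, 44, 45, 48, 51, 55] [3, 1, 10, 3, 6, 10, 9, 3, 7, 5, 3, 3, 10] k3_3 = true := by decide +kernel

theorem cv3_4_0 : covB FF nets (nat_lit 17228) (nat_lit 15) (nat_lit 16) (nat_lit 2048) (nat_lit 137) (nat_lit 3) (nat_lit 4) [35, 36, 37, 38, 39, 40, 41, 42, 46, 47, 52] [[0, 6, 3, 0, 14, 4, 6, 4, 0, 9, 2, 7, 20, 18, 17], [0, 3, 7, 13, 7, 8, 2, 5, 22, 20], [3, 0, 10, 3, 9, 3, 21, 18], [6, 0, 5, 2, 0, 3, 4, 7], [2, 10, 6, 0, 8, 2, 8, 2, 23, 16, 16], [13, 9, 0, 5, 9, 10, 2, 21, 17, 17], [10, 2, 6, 0, 14, 8, 4, 13, 9, 2, 8, 4, 18, 17, 17], [2, 0, 5, 10, 0, 14, 8, 3, 0, 4, 3, 6, 2, 16, 23, 16], [2, 9, 6, 0, 14, 2, 6, 9, 2, 0, 8, 3, 6, 4, 18, 23, 16, 16], [9, 7, 5, 0, 14, 12, 6, 2, 4, 0, 4, 9, 10, 3, 21,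 16, 16], [12, 6, 13, 0, 14, 10, 12, 2, 4, 0, 4, 2, 7, 2, 23, 18, 21]]
    [74, 64, 67] [3, 2, 1, 10, 3, 6, 2, 5, 9, 3, 10, 5, 1, 10, 0] k3_4 = true := by decide +kernel

theorem cv3_5_0 : covB FF nets (nat_lit 17228) (nat_lit 15) (nat_lit 16) (nat_lit 2048) (nat_lit 137) (nat_lit 3) (nat_lit 5) [35, 36, 37, 38, 39, 40, 41, 42, 46, 47, 52] [[0, 6, 3, 0, 14, 4, 6, 4, 0, 9, 2, 7, 20, 18, 17], [0, 3, 7, 13, 7, 8, 2, 5, 22, 20], [3, 0, 10, 3, 9, 3, 21, 18], [6, 0, 5, 2, 0, 3, 4, 7], [2, 10, 6, 0, 8, 2, 8, 2, 23, 16, 16], [13, 9, 0, 5, 9, 10, 2, 21, 17, 17], [10, 2, 6, 0, 14, 8, 4, 13, 9, 2, 8, 4, 18, 17, 17], [2, 0, 5, 10, 0, 14, 8, 3, 0, 4, 3, 6, 2, 16, 23, 16], [2, 9, 6, 0, 14, 2, 6, 9, 2, 0, 8, 3, 6, 4, 18, 23, 16, 16], [9, 7,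 5, 0, 14, 12, 6, 2, 4, 0, 4, 9, 10, 3, 21, 16, 16], [12, 6, 13, 0, 14, 10, 12, 2, 4, 0, 4, 2, 7, 2, 23, 18, 21]]
    [97, 111, 87, 90] [3, 2, 1, 4, 6, 5, 10, 3, 2, 9, 3, 5, 7, 0, 10] k3_5 = true := by decide +kernel

theorem cv3_6_0 : covB FF nets (nat_lit 17228) (nat_lit 15) (nat_lit 16) (nat_lit 2048) (nat_lit 137) (nat_lit 3) (nat_lit 6) [35, 36, 37, 38, 39, 40, 41, 42, 46, 47, 52] [[0, 6, 3, 0, 14, 4, 6, 4, 0, 9, 2, 7, 20, 18, 17], [0, 3, 7, 13, 7, 8, 2, 5, 22, 20], [3, 0, 10, 3, 9, 3, 21, 18], [6, 0, 5, 2, 0, 3, 4, 7], [2, 10, 6, 0, 8, 2, 8, 2, 23, 16, 16], [13, 9, 0, 5, 9, 10, 2, 21, 17, 17], [10, 2, 6, 0, 14, 8, 4, 13, 9, 2, 8, 4, 18, 17, 17], [2, 0, 5, 10, 0, 14, 8, 3, 0, 4, 3, 6, 2, 16, 23, 16], [2, 9, 6, 0, 14, 2,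 6, 9, 2, 0, 8, 3, 6, 4, 18, 23, 16, 16], [9, 7, 5, 0, 14, 12, 6, 2, 4, 0, 4, 9, 10, 3, 21, 16, 16], [12, 6, 13, 0, 14, 10, 12, 2, 4, 0, 4, 2, 7, 2, 23, 18, 21]]
    [113] [3, 2, 5, 1, 4, 6, 3, 2, 7, 3, 8, 3, 9, 3, 7, 2, 5] k3_6 = true := by decide +kernel

theorem rw3 : rowB (nat_lit 17228) (ivl (nat_lit 2048) ((nat_lit 17228) - (nat_lit 2048))) row3 [0, 18, 27, 463, 3168, 5360, 6144] 0 = true := by decide +kernel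

theorem cv4_1_0 : covB FF nets (nat_lit 17228) (nat_lit 15) (nat_lit 16) (nat_lit 2048) (nat_lit 137) (nat_lit 4) (nat_lit 1) [58, 59, 60, 61, 70] [[9, 7, 4, 0, 5, 6, 8, 18, 16, 16, 16], [10, 0, 4, 12, 14, 4, 10, 2, 0, 2, 8, 6, 22, 17], [8, 5, 13, 2, 0, 2, 7, 8, 2, 18, 16, 20], [10, 5, 12, 2, 0, 14, 9, 7, 0, 5, 7, 4, 2, 21, 16], [0, 10, 6, 0, 14, 9, 3, 8, 6, 0, 2, 5, 2, 9, 18, 22, 16]]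
    [57] [4, 2, 0, 1] k4_1 = true := by decide +kernel

theorem cv4_3_0 : covB FF nets (nat_lit 17228) (nat_lit 15) (nat_lit 16) (nat_lit 2048) (nat_lit 137) (nat_lit 4) (nat_lit 3) [58, 59, 60, 61, 70] [[9, 7, 4, 0, 5, 6, 8, 18, 16, 16, 16], [10, 0, 4, 12, 14, 4, 10, 2, 0, 2, 8, 6, 22, 17], [8, 5, 13, 2, 0, 2, 7, 8, 2, 18, 16, 20], [10, 5, 12, 2, 0, 14, 9, 7, 0, 5, 7, 4, 2, 21, 16], [0, 10, 6, 0, 14, 9, 3, 8, 6, 0, 2, 5, 2, 9, 18, 22, 16]]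
    [63, 66, 73] [0, 2, 4, 1, 2, 0, 1, 2, 4, 2, 1] k4_3 = true := by decide +kernel

theorem cv4_4_0 : covB FF nets (nat_lit 17228) (nat_lit 15) (nat_lit 16) (nat_lit 2048) (nat_lit 137) (nat_lit 4) (nat_lit 4) [58, 59, 60, 61, 70] [[9, 7, 4, 0, 5, 6, 8, 18, 16, 16, 16], [10, 0, 4, 12, 14, 4, 10, 2, 0, 2, 8, 6, 22, 17], [8, 5, 13, 2, 0, 2, 7, 8, 2, 18, 16, 20], [10, 5, 12, 2, 0, 14, 9, 7, 0, 5, 7, 4, 2, 21, 16], [0, 10, 6, 0, 14, 9, 3, 8, 6, 0, 2, 5, 2, 9, 18, 22, 16]]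
    [62, 65, 68, 69, 76, 72, 75, 71] [2, 0, 4, 2, 0, 1, 2, 3, 0, 2, 1, 0, 2, 4, 2, 2] k4_4 = true := by decide +kernel

theorem cv4_5_0 : covB FF nets (nat_lit 17228) (nat_lit 15) (nat_lit 16) (nat_lit 2048) (nat_lit 137) (nat_lit 4) (nat_lit 5) [58, 59, 60, 61, 70] [[9, 7, 4, 0, 5, 6, 8, 18, 16, 16, 16], [10, 0, 4, 12, 14, 4, 10, 2, 0, 2, 8, 6, 22, 17], [8, 5, 13, 2, 0, 2, 7, 8, 2, 18, 16, 20], [10, 5, 12, 2, 0, 14, 9, 7, 0, 5, 7, 4, 2, 21, 16], [0, 10, 6, 0, 14, 9, 3, 8, 6, 0, 2, 5, 2, 9, 18, 22, 16]]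
    [105, 107, 103, 109] [2, 1, 0, 2, 3, 4, 2, 0, 1, 2, 0, 3, 2, 0, 1, 2, 0, 2] k4_5 = true := by decide +kernel

theorem cv4_6_0 : covB FF nets (nat_lit 17228) (nat_lit 15) (nat_lit 16) (nat_lit 2048) (nat_lit 137) (nat_lit 4) (nat_lit 6) [58, 59, 60, 61, 70] [[9, 7, 4, 0, 5, 6, 8, 18, 16, 16, 16], [10, 0, 4, 12, 14, 4, 10, 2, 0, 2, 8, 6, 22, 17], [8, 5, 13, 2, 0, 2, 7, 8, 2, 18, 16, 20], [10, 5, 12, 2, 0, 14, 9, 7, 0, 5, 7, 4, 2, 21, 16], [0, 10, 6, 0, 14, 9, 3, 8, 6, 0, 2, 5, 2, 9, 18, 22, 16]]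
    [130, 134, 119] [0, 2, 1, 0, 2, 3, 0, 4, 2, 0, 1, 2, 0, 3, 2, 0, 1] k4_6 = true := by decide +kernel

theorem rw4 : rowB (nat_lit 17228) (ivl (nat_lit 2048) ((nat_lit 17228) - (nat_lit 2048))) row4 [0, 5, 0, 330, 3125, 4680, 7040] 0 = true := by decide +kernel

theorem cv5_2_0 : covB FF nets (nat_lit 17228) (nat_lit 15) (nat_lit 16) (nat_lit 2048) (nat_lit 137) (nat_lit 5) (nat_lit 2) [79, 80, 81, 82, 83, 93, 95] [[3, 0, 2, 0, 14, 5, 6, 8, 0, 5, 6, 8, 2, 18, 22, 17], [5, 12, 10, 0, 14, 8, 0, 5, 12, 2, 5, 2, 9, 18, 16, 16], [7, 4, 13, 14, 0, 6, 8, 4, 0, 7, 5, 3, 5, 16, 23], [6, 13, 2, 12, 14, 12, 3, 13, 6, 4, 8, 5, 22, 20, 16], [5, 6, 0, 14, 0, 4, 8, 5, 0, 4, 10, 9, 22, 16, 16, 16], [13, 8, 13, 14, 5, 7, 8, 0, 5, 10, 2,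 5, 20, 16, 16, 16], [10, 7, 5, 0, 14, 6, 3, 10, 0, 9, 7, 3, 4]]
    [78] [6, 5, 1] k5_2 = true := by decide +kernel

theorem cv5_3_0 : covB FF nets (nat_lit 17228) (nat_lit 15) (nat_lit 16) (nat_lit 2048) (nat_lit 137) (nat_lit 5) (nat_lit 3) [79, 80, 81, 82, 83, 93, 95] [[3, 0, 2, 0, 14, 5, 6, 8, 0, 5, 6, 8, 2, 18, 22, 17], [5, 12, 10, 0, 14, 8, 0, 5, 12, 2, 5, 2, 9, 18, 16, 16], [7, 4, 13, 14, 0, 6, 8, 4, 0, 7, 5, 3, 5, 16, 23], [6, 13, 2, 12, 14, 12, 3, 13, 6, 4, 8, 5, 22, 20, 16], [5, 6, 0, 14, 0, 4, 8, 5, 0, 4, 10, 9, 22, 16, 16, 16], [13, 8, 13, 14, 5, 7, 8, 0, 5, 10, 2, 5, 20, 16, 16, 16], [10, 7, 5, 0, 14, 6, 3, 10, 0, 9, 7, 3, 4]]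
    [86, 89, 96, 112] [6, 1, 5, 2, 3, 6, 2, 5, 6, 2, 6] k5_3 = true := by decide +kernel

theorem cv5_4_0 : covB FF nets (nat_lit 17228) (nat_lit 15) (nat_lit 16) (nat_lit 2048) (nat_lit 137) (nat_lit 5) (nat_lit 4) [79, 80, 81, 82, 83, 93, 95] [[3, 0, 2, 0, 14, 5, 6, 8, 0, 5, 6, 8, 2, 18, 22, 17], [5, 12, 10, 0, 14, 8, 0, 5, 12, 2, 5, 2, 9, 18, 16, 16], [7, 4, 13, 14, 0, 6, 8, 4, 0, 7, 5, 3, 5, 16, 23], [6, 13, 2, 12, 14, 12, 3, 13, 6, 4, 8, 5, 22, 20, 16], [5, 6, 0, 14, 0, 4, 8, 5, 0, 4, 10, 9, 22, 16, 16, 16], [13, 8, 13, 14, 5, 7, 8, 0, 5, 10, 2, 5, 20, 16, 16, 16], [10, 7, 5, 0, 14, 6, 3, 10, 0, 9, 7, 3, 4]]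
    [106, 104, 110, 108] [6, 3, 4, 2, 6, 0, 6, 3, 1, 6, 2, 5, 6, 2, 6] k5_4 = true := by decide +kernel

theorem cv5_5_0 : covB FF nets (nat_lit 17228) (nat_lit 15) (nat_lit 16) (nat_lit 2048) (nat_lit 137) (nat_lit 5) (nat_lit 5) [79, 80, 81, 82, 83, 93, 95] [[3, 0, 2, 0, 14, 5, 6, 8, 0, 5, 6, 8, 2, 18, 22, 17], [5, 12, 10, 0, 14, 8, 0, 5, 12, 2, 5, 2, 9, 18, 16, 16], [7, 4, 13, 14, 0, 6, 8, 4, 0, 7, 5, 3, 5, 16, 23], [6, 13, 2, 12, 14, 12, 3, 13, 6, 4, 8, 5, 22, 20, 16], [5, 6, 0, 14, 0, 4, 8, 5, 0, 4, 10, 9, 22, 16, 16, 16], [13, 8, 13, 14, 5, 7, 8, 0, 5, 10, 2, 5, 20, 16, 16, 16], [10, 7, 5, 0, 14, 6, 3, 10, 0, 9, 7, 3, 4]]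
    [84, 85, 88, 91, 92, 94, 101, 99, 98, 100, 102] [6, 5, 1, 6, 4, 3, 2, 6, 5, 3, 6, 2, 6, 3, 6, 6] k5_5 = true := by decide +kernel

theorem cv5_6_0 : covB FF nets (nat_lit 17228) (nat_lit 15) (nat_lit 16) (nat_lit 2048) (nat_lit 137) (nat_lit 5) (nat_lit 6) [79, 80, 81, 82, 83, 93, 95] [[3, 0, 2, 0, 14, 5, 6, 8, 0, 5, 6, 8, 2, 18, 22, 17], [5, 12, 10, 0, 14, 8, 0, 5, 12, 2, 5, 2, 9, 18, 16, 16], [7, 4, 13, 14, 0, 6, 8, 4, 0, 7, 5, 3, 5, 16, 23], [6, 13, 2, 12, 14, 12, 3, 13, 6, 4, 8, 5, 22, 20, 16], [5, 6, 0, 14, 0, 4, 8, 5, 0, 4, 10, 9, 22, 16, 16, 16], [13, 8, 13, 14, 5, 7, 8, 0, 5, 10, 2, 5, 20, 16, 16, 16], [10, 7, 5, 0, 14, 6, 3, 10, 0, 9, 7, 3, 4]]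
    [132, 123, 126] [6, 3, 2, 6, 5, 4, 6, 2, 1, 6, 3, 0, 6, 2, 6, 3, 6] k5_6 = true := by decide +kernel

theorem rw5 : rowB (nat_lit 17228) (ivl (nat_lit 2048) ((nat_lit 17228) - (nat_lit 2048))) row5 [0, 0, 6, 335, 2808, 4735, 7296] 0 = true := by decide +kernel

theorem cv6_3_0 : covB FF nets (nat_lit 17228) (nat_lit 15) (nat_lit 16) (nat_lit 2048) (nat_lit 137) (nat_lit 6) (nat_lit 3) [115, 116, 117, 135] [[8, 12, 8, 0, 14, 8, 0, 4, 0, 4, 6, 9, 6, 18, 23, 16], [2, 13, 0, 14, 13, 2, 7, 12, 3, 10, 3, 9, 21], [10, 4, 0, 13, 14, 2, 7, 2, 12, 6, 8, 3, 5, 20, 16], [12, 7, 13, 0, 14, 5, 3, 9, 4, 0, 8, 7, 10, 8, 21]]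
    [114] [3, 1, 2, 0, 1, 3, 1, 0, 2, 1, 3, 1, 0, 3] k6_3 = true := by decide +kernel

theorem cv6_4_0 : covB FF nets (nat_lit 17228) (nat_lit 15) (nat_lit 16) (nat_lit 2048) (nat_lit 137) (nat_lit 6) (nat_lit 4) [115, 116, 117, 135] [[8, 12, 8, 0, 14, 8, 0, 4, 0, 4, 6, 9, 6, 18, 23, 16], [2, 13, 0, 14, 13, 2, 7, 12, 3, 10, 3, 9, 21], [10, 4, 0, 13, 14, 2, 7, 2, 12, 6, 8, 3, 5, 20, 16], [12, 7, 13, 0, 14, 5, 3, 9, 4, 0, 8, 7, 10, 8, 21]]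
    [118, 129, 133] [1, 3, 1, 2, 3, 1, 0, 2, 3, 1, 2, 3, 1, 0, 1, 3] k6_4 = true := by decide +kernel

theorem cv6_5_0 : covB FF nets (nat_lit 17228) (nat_lit 15) (nat_lit 16) (nat_lit 2048) (nat_lit 137) (nat_lit 6) (nat_lit 5) [115, 116, 117, 135] [[8, 12, 8, 0, 14, 8, 0, 4, 0, 4, 6, 9, 6, 18, 23, 16], [2, 13, 0, 14, 13, 2, 7, 12, 3, 10, 3, 9, 21], [10, 4, 0, 13, 14, 2, 7, 2, 12, 6, 8, 3, 5, 20, 16], [12, 7, 13, 0, 14, 5, 3, 9, 4, 0, 8, 7, 10, 8, 21]]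
    [122, 125, 131] [1, 3, 2, 1, 0, 3, 1, 2, 3, 1, 0, 2, 3, 1, 2, 1, 3, 1] k6_5 = true := by decide +kernel

theorem cv6_6_0 : covB FF nets (nat_lit 17228) (nat_lit 15) (nat_lit 16) (nat_lit 2048) (nat_lit 137) (nat_lit 6) (nat_lit 6) [115, 116, 117, 135] [[8, 12, 8, 0, 14, 8, 0, 4, 0, 4, 6, 9, 6, 18, 23, 16], [2, 13, 0, 14, 13, 2, 7, 12, 3, 10, 3, 9, 21], [10, 4, 0, 13, 14, 2, 7, 2, 12, 6, 8, 3, 5, 20, 16], [12, 7, 13, 0, 14, 5, 3, 9, 4, 0, 8, 7, 10, 8, 21]]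
    [120, 121, 124, 127, 128, 136] [1, 3, 1, 2, 0, 3, 1, 2, 0, 3, 1, 0, 2, 3, 1, 2, 3, 1] k6_6 = true := by decide +kernel

theorem rw6 : rowB (nat_lit 17228) (ivl (nat_lit 2048) ((nat_lit 17228) - (nat_lit 2048))) row6 [0, 0, 0, 253, 2783, 4807, 7337] 0 = true := by decide +kernel

end Cfsg.Agent.Lib.J4D
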