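import Cfsg.Agent.Lib.DCE6
import Cfsg.Agent.Lib.J4DC0
import Cfsg.Agent.Lib.J4DE0
import Cfsg.Agent.Lib.J4DE1
import Cfsg.Agent.Lib.J4DE2

set_option autoImplicit false
set_option maxRecDepth 100000

namespace Cfsg.Agent.Lib.J4D
open Cfsg.Agent.Lib.PermNet Cfsg.Agent.Lib.DCE

open Cfsg.Agent.Lib.Words Cfsg.Agent.Lib.PermGroup

/-- Relators of the subgroup. -/
def K1 : List (List ℕ) := [[10, 10], [0, 0], [2, 2, 2], [0, 2, 0, 2, 0, 2, 0, 2, 0, 2, 0, 2, 0, 2, 0, 2, 0, 2, 0, 2, 0, 2, 0, 2, 0, 2, 0, 2, 0, 2, 0, 2, 0, 2, 0, 2, 0, 2, 0, 2, 0, 2, 0, 2, 0, 2], [1, 3, 0, 2, 1, 3, 0, 2, 1, 3, 0, 2, 1, 3, 0, 2, 1, 3, 0, 2, 1, 3, 0, 2, 1, 3, 0, 2, 1, 3, 0, 2, 1, 3, 0, 2, 1, 3, 0, 2, 1, 3, 0, 2, 1, 3, 0, 2], [1, 3, 1, 3, 0, 2, 0, 2, 1, 3, 1, 3, 0, 2, 0, 2, 1, 3, 1, 3, 0, 2, 0, 2, 1, 3, 1, 3, 0, 2, 0, 2, 1, 3, 1, 3, 0, 2, 0,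 2], [0, 2, 0, 2, 0, 3, 0, 2, 0, 3, 0, 2, 0, 3, 0, 2, 0, 2, 0, 3, 0, 2, 0, 3, 0, 2, 0, 3, 0, 2, 0, 2, 0, 3, 0, 2, 0, 3, 0, 2, 0, 3, 0, 2, 0, 2, 0, 3, 0, 2, 0, 3, 0, 2, 0, 3], [0, 2, 0, 2, 0, 3, 0, 2, 0, 2, 0, 3, 0, 2, 0, 2, 0, 3, 0, 2, 0, 3, 0, 3, 0, 2, 0, 3, 0, 3, 0, 2, 0, 3, 0, 3], [5, 0, 3, 0, 2, 0, 2, 0, 3, 0, 3, 0, 3, 0, 2, 0, 2, 0, 3, 0, 3, 0, 2, 0, 3, 0, 2, 0, 2, 0, 3, 0, 2, 0, 2, 0, 2, 0, 2, 0, 3, 0, 3, 0, 3, 0, 2, 0, 2, 0, 2, 0, 3, 0, 3, 0], [7, 3, 0, 2, 0, 3, 0, 3, 0, 2, 0, 3, 0, 2, 0, 2, 0, 2, 0, 3, 0, 2, 0, 3, 0, 3, 0, 3, 0, 3, 0, 3, 0, 3, 0, 2, 0, 3, 0, 3, 0, 2, 0, 2, 0, 3], [9, 2, 0, 3, 0, 3, 0, 3, 0, 3, 0, 3, 0, 2, 0, 2, 0, 3, 0, 3, 0, 2, 0, 3, 0, 3, 0, 2, 0, 2, 0, 2, 0, 2, 0, 2, 0, 3, 0, 2, 0, 2, 0, 2, 0, 2, 0, 2, 0, 3, 0, 2, 0, 2], [11, 0, 2, 0, 3, 0, 3, 0, 3, 0, 2, 0, 3, 0, 2, 0, 2, 0, 2, 0, 3,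 0, 3, 0, 2, 0, 3, 0, 3, 0, 3, 0, 2, 0, 3, 0, 2, 0, 2, 0, 2, 0, 3, 0, 3], [13, 0, 3, 0, 3, 0, 3, 0, 3, 0, 2, 0, 3, 0, 2, 0, 3, 0, 3, 0, 3, 0, 2, 0, 3, 0, 3, 0, 3, 0, 3, 0, 3, 0, 3, 0, 2, 0, 2, 0, 3, 0, 2, 0, 2, 0, 2, 0, 2, 0, 2, 0, 3], [1, 4, 13, 6, 10, 4, 8, 5, 7, 8, 12, 5], [3, 7, 10, 4, 7, 5, 6], [4, 4, 4], [6, 6, 6], [12, 12, 12], [8, 8, 8, 8], [4, 6, 8, 4, 6, 8], [4, 8, 10, 9, 5, 10], [4, 6, 13, 7, 10, 6, 10, 12, 7, 5, 10], [4, 8, 4, 10, 8, 4, 8, 10, 4, 10, 8], [4, 8, 4, 13, 10, 8, 10, 9, 10, 12, 8], [4, 4, 9, 7, 8, 8, 6, 8, 4, 9, 9], [4, 6, 5, 8, 7, 5, 8, 4, 7, 8, 8], [4, 4, 10, 4, 13, 5, 9, 5, 10, 9, 12], [4, 7, 4, 7, 9, 7, 9, 7, 8, 6, 9], [6, 6, 8, 7, 8, 12, 7, 8, 7, 8, 13], [4, 4, 9, 5, 9, 9, 7, 9, 7, 4, 7], [4, 4, 8, 8, 5, 6, 5, 7, 4, 9, 9], [4, 7, 12, 5, 9, 12, 5, 9, 12, 7, 8], [4, 6, 5, 7, 7, 8, 8,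 6, 4, 9, 9], [4, 4, 6, 9, 7, 4, 9, 6, 8, 6, 8], [4, 8, 5, 9, 9, 10, 7, 10, 8, 10, 6], [4, 12, 6, 8, 7, 13, 5, 6, 13, 10, 7], [4, 7, 8, 6, 9, 6, 5, 6, 9, 6, 8], [4, 6, 9, 6, 8, 6, 5, 9, 5, 6, 9], [4, 7, 8, 4, 8, 4, 9, 6, 6, 9, 7], [14, 14], [4, 14, 5, 14], [6, 14, 7, 14], [8, 14, 9, 14], [10, 14, 11, 14], [12, 14, 12, 14, 12, 14], [12, 14, 13, 5, 12, 14, 13, 4, 10, 8, 8, 12, 14, 13, 9, 9, 10]]

def I1 : List ℕ := []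

/-- Further relations in the subgroup. -/
def X : List (List ℕ) := []

/-- Relators that involve the extra generator. -/
def RR : List (List ℕ) := [[3, 0, 4, 12, 5, 6, 0, 13, 7, 16, 6, 12, 1, 7, 4, 13, 5, 1, 2, 17], [2, 7, 0, 6, 4, 10, 2, 4, 16, 5, 3, 11, 5, 7, 1, 6, 3, 17], [3, 8, 8, 13, 7, 2, 0, 13, 5, 16, 4, 12, 1, 3, 6, 12, 9, 9, 2, 17], [3, 9, 6, 0, 9, 2, 12, 8, 4, 16, 5, 9, 13, 3, 8, 1, 7, 8, 2, 17], [4, 0, 14, 1, 5, 16, 4, 1, 15, 2, 11, 3, 1, 5, 17], [16, 16], [16, 2, 0, 3, 0, 2, 0, 3, 0, 2, 0, 2, 0, 3, 0, 2, 0, 3, 16, 2, 0, 3, 0, 2, 0, 3, 0, 2, 0, 2, 0, 3, 0, 2, 0, 3, 16, 2, 0, 3, 0, 2, 0, 3, 0, 2, 0, 2, 0, 3, 0, 2, 0, 3], [16, 3, 3, 0, 3, 0, 3, 0, 3, 0, 3, 0, 3, 0, 3, 3, 0, 3, 0, 3, 0, 16, 0, 2, 0, 2, 0, 2, 2, 0, 2, 0, 2, 0, 2, 0, 2, 0, 2, 0, 2, 2, 2, 0, 2, 0, 2, 0, 2, 2, 0, 2, 0, 2, 0, 2, 2, 0, 2, 0,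 2, 0, 2, 16, 3, 3, 0, 3, 0, 3, 0, 3, 0, 3, 0, 3, 0, 3, 3, 0, 3, 0, 3, 0, 16, 0, 2, 0, 2, 0, 2, 2, 0, 2, 0, 2, 0, 2, 0, 2, 0, 2, 0, 2, 2, 2, 0, 2, 0, 2, 0, 2, 2, 0, 2, 0, 2, 0, 2, 2, 0, 2, 0, 2, 0, 2]]

noncomputable def dat : Dat where
  N := (nat_lit 17228)
  K := (nat_lit 15)
  nS := (nat_lit 2048)
  KS := (nat_lit 11)
  wb := (nat_lit 11)
  mask := (nat_lit 2047)
  n0 := 8
  nl := (nat_lit 60)
  k0 := 12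
  nK := (nat_lit 9)
  idT := idT
  T := 501397585920
  TK := 33030144
  nF := (nat_lit 137)
  n := 7
  s0 := 0
  tot := 173067389
  nets := nets
  th := th
  tk := tk
  tk' := tk'
  F := FF
  TM := TM
  XW := XW
  defs := defs
  R := RR
  cw := [[], [14], [13, 4, 12, 14], [0, 14]]
  rows := [row0, row1, row2, row3, row4, row5, row6]
  cs := [[0, 15180, 0, 0, 0, 0, 0], [1, 311, 84, 4032, 10752, 0, 0], [0, 45, 375, 3240, 0, 11520, 0], [0, 18, 27, 463, 3168, 5360, 6144], [0, 5, 0, 330, 3125, 4680, 7040], [0, 0, 6, 335, 2808, 4735, 7296], [0, 0, 0, 253, 2783, 4807, 7337]]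
  u := []
  v := []
  live := [(nat_lit 0), (nat_lit 1), (nat_lit 2), (nat_lit 3), (nat_lit 4), (nat_lit 5), (nat_lit 6)]
  cols := [1, 2, 3, 4, 5, 6]
  sz := [1, 15180, 28336, 3400320, 32643072, 54405120, 82575360]
  par := [0, 0, 1, 1, 1, 2, 3]
  chH := chH
  chK := chK
  tc := [[([], 10)],
  [([], 10)],
  [([2, 0, 3, 0, 2, 0, 3, 0, 2, 0, 2, 0, 3, 0, 2, 0, 3], 13)],
  [([], 13)],
  [([3, 3, 0, 3, 0, 3, 0, 3, 0, 3, 0, 3, 0, 3, 3, 0, 3, 0, 3, 0, 16, 0, 2, 0, 2, 0, 2, 2, 0, 2, 0, 2, 0, 2, 0, 2, 0, 2, 0, 2, 2, 2, 0, 2, 0, 2, 0, 2, 2, 0, 2, 0, 2, 0, 2, 2, 0, 2, 0, 2, 0, 2], 15)],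
  [([2, 0, 3, 0, 2, 0, 3, 0, 2, 0, 2, 0, 3, 0, 2, 0, 3], 13)],
  [([16, 0, 2, 0, 2, 0, 2, 2, 0, 2, 0, 2, 0, 2, 0, 2, 0, 2, 0, 2, 2, 2, 0, 2, 0, 2, 0, 2, 2, 0, 2, 0, 2, 0, 2, 2, 0, 2, 0, 2, 0, 2], 15)],
  [([], 13)]]

theorem hrels : ∀ w ∈ relW rels, wval nets.perm w = 1 :=
  relW_one (wval_eq_of_relsOn (K := 15) hv (by norm_num) ((((((((((((((rels0_0.trans rels0_1).trans rels0_2).trans rels0_3).trans rels0_4).trans rels0_5).trans rels0_6).trans rels0_7).trans rels0_8).trans rels0_9).trans rels0_10).trans rels0_11).trans rels0_12).trans rels0_13).trans rels0_14))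

theorem hK1 : ∀ w ∈ K1, wval nets.perm w = 1 := derive [] hrels _ (by decide +kernel)

theorem hX : ∀ w ∈ X, wval nets.perm w = 1 := derive [] hrels _ (by decide +kernel)

theorem hB : dat.B = BB := by decide +kernel

theorem facts : AllR (fun c => ∃ e, checkF (nat_lit 11) (nat_lit 2047) tH tK tK' BB FF TM XW c e = true) 0 (nat_lit 137) :=
  ((allR_of_checkL d0 0 99 (by decide +kernel) fc0).trans
    (allR_of_checkL d99 99 137 (by decide +kernel) fc99))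

theorem tab : AllR (fun l => tabB nets (nat_lit 17228) (nat_lit 15) (nat_lit 2048) (nat_lit 11) (nat_lit 11) (nat_lit 2047) tH l = true)
    0 (nat_lit 60) :=
  ((allR_of 0 30 30 (by decide) tab0).trans
    (allR_of 30 30 60 (by decide) tab30))

theorem cov0 : AllIdx (fun j m => Cov nets FF (nat_lit 2048) (nat_lit 137) (nat_lit 0) (getD 0 dat.live j) m) 0 row0 :=
  ⟨cov_zero,
    (cov_of_covB hv _ (by decide +kernel) _ _ _ _ cv0_1_0),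
    cov_zero,
    cov_zero,
    cov_zero,
    cov_zero,
    cov_zero, trivial⟩

theorem cov1 : AllIdx (fun j m => Cov nets FF (nat_lit 2048) (nat_lit 137) (nat_lit 1) (getD 0 dat.live j) m) 0 row1 :=
  ⟨(cov_of_covB hv _ (by decide +kernel) _ _ _ _ cv1_0_0),
    (cov_of_covB hv _ (by decide +kernel) _ _ _ _ cv1_1_0),
    (cov_of_covB hv _ (by decide +kernel) _ _ _ _ cv1_2_0),
    (cov_of_covB hv _ (by decide +kernel) _ _ _ _ cv1_3_0),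
    (cov_of_covB hv _ (by decide +kernel) _ _ _ _ cv1_4_0),
    cov_zero,
    cov_zero, trivial⟩

theorem cov2 : AllIdx (fun j m => Cov nets FF (nat_lit 2048) (nat_lit 137) (nat_lit 2) (getD 0 dat.live j) m) 0 row2 :=
  ⟨cov_zero,
    (cov_of_covB hv _ (by decide +kernel) _ _ _ _ cv2_1_0),
    (cov_of_covB hv _ (by decide +kernel) _ _ _ _ cv2_2_0),
    (cov_of_covB hv _ (by decide +kernel) _ _ _ _ cv2_3_0),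
    cov_zero,
    (cov_of_covB hv _ (by decide +kernel) _ _ _ _ cv2_5_0),
    cov_zero, trivial⟩

theorem cov3 : AllIdx (fun j m => Cov nets FF (nat_lit 2048) (nat_lit 137) (nat_lit 3) (getD 0 dat.live j) m) 0 row3 :=
  ⟨cov_zero,
    (cov_of_covB hv _ (by decide +kernel) _ _ _ _ cv3_1_0),
    (cov_of_covB hv _ (by decide +kernel) _ _ _ _ cv3_2_0),
    (cov_of_covB hv _ (by decide +kernel) _ _ _ _ cv3_3_0),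
    (cov_of_covB hv _ (by decide +kernel) _ _ _ _ cv3_4_0),
    (cov_of_covB hv _ (by decide +kernel) _ _ _ _ cv3_5_0),
    (cov_of_covB hv _ (by decide +kernel) _ _ _ _ cv3_6_0), trivial⟩

theorem cov4 : AllIdx (fun j m => Cov nets FF (nat_lit 2048) (nat_lit 137) (nat_lit 4) (getD 0 dat.live j) m) 0 row4 :=
  ⟨cov_zero,
    (cov_of_covB hv _ (by decide +kernel) _ _ _ _ cv4_1_0),
    cov_zero,
    (cov_of_covB hv _ (by decide +kernel) _ _ _ _ cv4_3_0),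
    (cov_of_covB hv _ (by decide +kernel) _ _ _ _ cv4_4_0),
    (cov_of_covB hv _ (by decide +kernel) _ _ _ _ cv4_5_0),
    (cov_of_covB hv _ (by decide +kernel) _ _ _ _ cv4_6_0), trivial⟩

theorem cov5 : AllIdx (fun j m => Cov nets FF (nat_lit 2048) (nat_lit 137) (nat_lit 5) (getD 0 dat.live j) m) 0 row5 :=
  ⟨cov_zero,
    cov_zero,
    (cov_of_covB hv _ (by decide +kernel) _ _ _ _ cv5_2_0),
    (cov_of_covB hv _ (by decide +kernel) _ _ _ _ cv5_3_0),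
    (cov_of_covB hv _ (by decide +kernel) _ _ _ _ cv5_4_0),
    (cov_of_covB hv _ (by decide +kernel) _ _ _ _ cv5_5_0),
    (cov_of_covB hv _ (by decide +kernel) _ _ _ _ cv5_6_0), trivial⟩

theorem cov6 : AllIdx (fun j m => Cov nets FF (nat_lit 2048) (nat_lit 137) (nat_lit 6) (getD 0 dat.live j) m) 0 row6 :=
  ⟨cov_zero,
    cov_zero,
    cov_zero,
    (cov_of_covB hv _ (by decide +kernel) _ _ _ _ cv6_3_0),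
    (cov_of_covB hv _ (by decide +kernel) _ _ _ _ cv6_4_0),
    (cov_of_covB hv _ (by decide +kernel) _ _ _ _ cv6_5_0),
    (cov_of_covB hv _ (by decide +kernel) _ _ _ _ cv6_6_0), trivial⟩

noncomputable def m0 : ℕ := (Nat.lor (nat_lit 0x29a112514488a444008925906e442a008600031d206ab2390071978105200a283483000161a604800b06988002820c0000420832864500254141144212202a100c300701220e04801901af01040ac90e2aa0000b0202198082020032800102840459200c0008040062008040c45558a8445103513022424e088808c8307b190a002502081103040530008100820c840010a002047b408cb0020849044650529020280880426938c90182018038b02525a4051310612900a11643e241a20402008508044201b0102908a272100400c0540442104008243068002804304203888000d30310032c84910a6a01134022050012320a08801450108907004e01042621)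
  (Nat.shiftLeft (nat_lit 0x0) (nat_lit 16384)))

def cws : List (List (List ℕ)) := [[[], [8], [9], [13], [12], [5]], [[14], [14, 10], [9, 0], [3, 15], [9, 14], [4, 14]], [[], [5], [8], [4], [6, 14], [2, 12]], [[4], [10], [15], [9], [12], [3, 8]]]

theorem ok : dat.OK' m0 cws :=
  ⟨hv, by decide +kernel, derive [] hrels _ (by decide +kernel), tab, cH, cK, hB ▸ facts,
    ⟨rw0, rw1, rw2, rw3, rw4, rw5, rw6, trivial⟩,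
    ⟨cov0, cov1, cov2, cov3, cov4, cov5, cov6, trivial⟩⟩

end Cfsg.Agent.Lib.J4D
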