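import Cfsg.Agent.Lib.DCEDefs

set_option autoImplicit false
set_option maxRecDepth 100000

namespace Cfsg.Agent.Lib.J4D
open Cfsg.Agent.Lib.PermNet Cfsg.Agent.Lib.DCE

noncomputable def f0 : FT := (.node (nat_lit 16) (.node (nat_lit 8) (.node (nat_lit 4) (.node (nat_lit 2) (.node (nat_lit 1) (.leaf ⟨0, 0, false, [0], []⟩)
  (.leaf ⟨0, 0, false, [2], []⟩))
  (.node (nat_lit 3) (.leaf ⟨0, 0, false, [4], []⟩)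
  (.leaf ⟨0, 0, false, [6], []⟩)))
  (.node (nat_lit 6) (.node (nat_lit 5) (.leaf ⟨0, 0, false, [8], []⟩)
  (.leaf ⟨0, 0, false, [10], []⟩))
  (.node (nat_lit 7) (.leaf ⟨0, 0, false, [12], []⟩)
  (.leaf ⟨0, 0, false, [14], []⟩))))
  (.node (nat_lit 12) (.node (nat_lit 10) (.node (nat_lit 9) (.leaf ⟨0, 1, true, [], []⟩)
  (.leaf ⟨1, 0, true, [], []⟩))
  (.node (nat_lit 11) (.leaf ⟨1, 1, false, [0], []⟩)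
  (.leaf ⟨1, 1, false, [7, 0, 6], []⟩)))
  (.node (nat_lit 14) (.node (nat_lit 13) (.leaf ⟨1, 1, false, [6, 0, 7], []⟩)
  (.leaf ⟨1, 1, false, [7, 12, 0, 9], []⟩))
  (.node (nat_lit 15) (.leaf ⟨1, 1, false, [12, 0, 14, 0, 13, 9, 6, 3, 4, 21, 18], []⟩)
  (.leaf ⟨1, 1, false, [10, 8, 6, 0, 2], []⟩)))))
  (.node (nat_lit 24) (.node (nat_lit 20) (.node (nat_lit 18) (.node (nat_lit 17) (.leaf ⟨1, 1, true, [9, 4, 12, 14, 6], [14, 8, 13, 7, 0, 14, 2, 12, 7, 13, 2, 9, 10, 2, 23, 18, 21]⟩)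
  (.leaf ⟨1, 1, true, [14], [14, 10, 3, 0, 14, 9, 3, 5, 0, 6, 8, 10, 8, 2, 23, 18, 16, 16]⟩))
  (.node (nat_lit 19) (.leaf ⟨1, 2, true, [12, 14, 5], []⟩)
  (.leaf ⟨2, 1, true, [], [14, 4, 13]⟩)))
  (.node (nat_lit 22) (.node (nat_lit 21) (.leaf ⟨2, 2, false, [9, 12, 2, 0, 14, 0, 3, 7, 12, 9, 2, 9, 4, 2, 17], []⟩)
  (.leaf ⟨2, 2, false, [2, 5, 13, 0, 14, 12, 9, 12, 3, 0, 4, 10, 4, 9, 18, 22], []⟩))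
  (.node (nat_lit 23) (.leaf ⟨2, 2, false, [14, 7, 4, 13, 7, 0, 14, 5, 7, 8, 2, 0, 3, 6, 2, 6, 18, 20, 16], []⟩)
  (.leaf ⟨2, 2, false, [12, 5, 6, 3, 0, 14, 13, 7, 4, 2, 0, 6, 10, 4, 3, 18, 20, 16, 16], []⟩))))
  (.node (nat_lit 28) (.node (nat_lit 26) (.node (nat_lit 25) (.leaf ⟨2, 2, false, [7, 3, 0, 3, 0, 14, 10, 12, 2, 0, 6, 10, 4, 2, 21, 16], []⟩)
  (.leaf ⟨2, 2, false, [6, 13, 8, 13, 14, 13, 9, 12, 3, 0, 7, 9, 6, 5, 18, 16, 20, 16], []⟩))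
  (.node (nat_lit 27) (.leaf ⟨2, 2, true, [7, 5, 3, 4], [9, 13, 5, 0, 14, 8, 13, 5, 3, 0, 2, 7, 8, 10, 2, 22, 18]⟩)
  (.leaf ⟨2, 2, false, [9, 3, 5, 0, 14, 7, 4, 0, 5, 0, 5, 6, 10, 5, 18, 16, 16, 16], []⟩)))
  (.node (nat_lit 30) (.node (nat_lit 29) (.leaf ⟨2, 2, true, [4, 13], [6, 8, 7, 0, 14, 3, 10, 3, 0, 3, 22, 20, 18, 16]⟩)
  (.leaf ⟨2, 2, true, [12, 3, 8, 12, 14], [8, 4, 3, 5, 0, 14, 0, 5, 8, 0, 10, 4, 8, 5, 18, 16, 16, 16]⟩))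
  (.node (nat_lit 31) (.leaf ⟨2, 2, true, [4, 8, 3], [14, 4, 12, 9, 0, 14, 0, 6, 0, 2, 5, 7, 4, 2, 16, 23, 17]⟩)
  (.leaf ⟨2, 2, false, [6, 12, 8, 4, 0, 14, 7, 2, 8, 0, 4, 7, 5, 3, 18, 16, 16, 16], []⟩))))))

noncomputable def f32 : FT := (.node (nat_lit 48) (.node (nat_lit 40) (.node (nat_lit 36) (.node (nat_lit 34) (.node (nat_lit 33) (.leaf ⟨1, 1, true, [0, 8, 0, 14, 5], [13, 4, 6, 3, 0, 14, 9, 2, 12, 0, 6, 3, 9, 4, 22, 18, 16]⟩)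
  (.leaf ⟨1, 3, true, [2], []⟩))
  (.node (nat_lit 35) (.leaf ⟨3, 1, true, [], [3]⟩)
  (.leaf ⟨3, 3, false, [0, 6, 3, 0, 14, 4, 6, 4, 0, 9, 2, 7, 20, 18, 17], []⟩)))
  (.node (nat_lit 38) (.node (nat_lit 37) (.leaf ⟨3, 3, false, [0, 3, 7, 13, 7, 8, 2, 5, 22, 20], []⟩)
  (.leaf ⟨3, 3, false, [3, 0, 10, 3, 9, 3, 21, 18], []⟩))
  (.node (nat_lit 39) (.leaf ⟨3, 3, false, [6, 0, 5, 2, 0, 3, 4, 7], []⟩)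
  (.leaf ⟨3, 3, false, [2, 10, 6, 0, 8, 2, 8, 2, 23, 16, 16], []⟩))))
  (.node (nat_lit 44) (.node (nat_lit 42) (.node (nat_lit 41) (.leaf ⟨3, 3, false, [13, 9, 0, 5, 9, 10, 2, 21, 17, 17], []⟩)
  (.leaf ⟨3, 3, false, [10, 2, 6, 0, 14, 8, 4, 13, 9, 2, 8, 4, 18, 17, 17], []⟩))
  (.node (nat_lit 43) (.leaf ⟨3, 3, false, [2, 0, 5, 10, 0, 14, 8, 3, 0, 4, 3, 6, 2, 16, 23, 16], []⟩)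
  (.leaf ⟨3, 3, true, [4, 0, 8, 13], [0, 12, 8, 4, 3, 7, 18, 22, 17]⟩)))
  (.node (nat_lit 46) (.node (nat_lit 45) (.leaf ⟨3, 3, true, [10, 8, 0, 2], [10, 2, 0, 9, 7, 8, 5, 3, 22]⟩)
  (.leaf ⟨3, 3, true, [10, 7, 3, 7], [13, 8, 0, 5, 0, 9, 4, 2, 18, 16, 16]⟩))
  (.node (nat_lit 47) (.leaf ⟨3, 3, false, [2, 9, 6, 0, 14, 2, 6, 9, 2, 0, 8, 3, 6, 4, 18, 23, 16, 16], []⟩)
  (.leaf ⟨3, 3, false, [9, 7, 5, 0, 14, 12, 6, 2, 4, 0, 4, 9, 10, 3, 21, 16, 16], []⟩)))))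
  (.node (nat_lit 56) (.node (nat_lit 52) (.node (nat_lit 50) (.node (nat_lit 49) (.leaf ⟨3, 3, true, [3, 8, 10, 0, 2], [0, 3, 0, 4, 9, 2, 5, 17, 21, 16]⟩)
  (.leaf ⟨3, 2, true, [0, 12, 14, 8, 7, 3], [4, 13, 10, 0, 14, 0, 13, 4, 6, 0, 7, 9, 3, 18, 22]⟩))
  (.node (nat_lit 51) (.leaf ⟨2, 3, true, [9, 6, 2, 5], [3, 5, 13, 14, 3, 5, 2, 5, 0, 8, 3, 4, 7, 18, 20, 16, 16]⟩)
  (.leaf ⟨3, 3, true, [6, 10, 13, 2], [4, 13, 4, 12, 14, 10, 0, 2, 0, 10, 5, 2, 5, 3, 16, 23, 17]⟩)))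
  (.node (nat_lit 54) (.node (nat_lit 53) (.leaf ⟨3, 3, false, [12, 6, 13, 0, 14, 10, 12, 2, 4, 0, 4, 2, 7, 2, 23, 18, 21], []⟩)
  (.leaf ⟨3, 2, true, [3, 0, 12, 14, 13, 2], [14, 5, 8, 0, 14, 10, 3, 0, 3, 9, 2, 7, 20, 18, 17]⟩))
  (.node (nat_lit 55) (.leaf ⟨2, 3, true, [0, 3, 0, 12, 14], [7, 9, 12, 2, 0, 14, 2, 4, 7, 0, 5, 10, 3, 4, 20, 17, 17]⟩)
  (.leaf ⟨3, 3, true, [12, 14, 13], [12, 6, 2, 4, 0, 14, 6, 0, 7, 12, 10, 9, 2, 9, 18, 16, 20, 16]⟩))))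
  (.node (nat_lit 60) (.node (nat_lit 58) (.node (nat_lit 57) (.leaf ⟨1, 4, true, [4], []⟩)
  (.leaf ⟨4, 1, true, [], [5]⟩))
  (.node (nat_lit 59) (.leaf ⟨4, 4, false, [9, 7, 4, 0, 5, 6, 8, 18, 16, 16, 16], []⟩)
  (.leaf ⟨4, 4, false, [10, 0, 4, 12, 14, 4, 10, 2, 0, 2, 8, 6, 22, 17], []⟩)))
  (.node (nat_lit 62) (.node (nat_lit 61) (.leaf ⟨4, 4, false, [8, 5, 13, 2, 0, 2, 7, 8, 2, 18, 16, 20], []⟩)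
  (.leaf ⟨4, 4, false, [10, 5, 12, 2, 0, 14, 9, 7, 0, 5, 7, 4, 2, 21, 16], []⟩))
  (.node (nat_lit 63) (.leaf ⟨4, 4, true, [4, 13, 14], [14, 12, 5, 8, 2, 0, 14, 8, 7, 0, 13, 10, 6, 8, 6, 23, 20, 17]⟩)
  (.leaf ⟨4, 3, true, [12, 0, 14, 12, 3], [12, 8, 4, 2, 0, 14, 9, 4, 6, 5, 0, 4, 8, 2, 23, 18, 16, 16]⟩))))))

noncomputable def f64 : FT := (.node (nat_lit 80) (.node (nat_lit 72) (.node (nat_lit 68) (.node (nat_lit 66) (.node (nat_lit 65) (.leaf ⟨3, 4, true, [5, 2, 4, 6], [9, 2, 9, 2, 0, 14, 8, 13, 9, 13, 6, 2, 8, 5, 2, 22, 18, 16]⟩)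
  (.leaf ⟨4, 4, true, [10, 7, 4, 2], [7, 8, 0, 14, 9, 4, 3, 0, 4, 3, 5, 10, 23, 18, 21, 17]⟩))
  (.node (nat_lit 67) (.leaf ⟨4, 3, true, [12, 14, 6, 0, 4], [2, 10, 0, 14, 6, 9, 13, 7, 0, 8, 3, 5, 18, 23, 16, 16]⟩)
  (.leaf ⟨3, 4, true, [14, 9, 6, 2, 5], [12, 0, 9, 0, 14, 9, 0, 13, 2, 0, 4, 10, 2, 6, 23, 17]⟩)))
  (.node (nat_lit 70) (.node (nat_lit 69) (.leaf ⟨4, 4, true, [12, 6, 0, 4], [8, 8, 3, 0, 5, 6, 4, 3, 22, 20, 16, 16]⟩)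
  (.leaf ⟨4, 4, true, [12, 14, 13], [3, 9, 4, 0, 14, 9, 4, 6, 5, 0, 6, 5, 7, 2, 18, 23]⟩))
  (.node (nat_lit 71) (.leaf ⟨4, 4, false, [0, 10, 6, 0, 14, 9, 3, 8, 6, 0, 2, 5, 2, 9, 18, 22, 16], []⟩)
  (.leaf ⟨4, 4, true, [2, 4, 12, 14], [8, 5, 7, 0, 14, 2, 12, 5, 12, 9, 4, 6, 5, 3, 16, 23]⟩))))
  (.node (nat_lit 76) (.node (nat_lit 74) (.node (nat_lit 73) (.leaf ⟨4, 4, true, [6, 0, 14, 7, 4, 2], [7, 9, 6, 0, 14, 8, 12, 6, 9, 5, 8, 3, 23, 20, 17]⟩)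
  (.leaf ⟨4, 3, true, [3, 4, 13, 14, 0, 2], [10, 6, 10, 3, 0, 14, 0, 8, 3, 0, 7, 9, 5, 6, 18, 23, 16]⟩))
  (.node (nat_lit 75) (.leaf ⟨3, 4, true, [14, 10, 7, 13, 2], [5, 0, 13, 14, 7, 3, 10, 2, 0, 2, 8, 2, 5, 2, 21, 16]⟩)
  (.leaf ⟨4, 4, true, [8, 12, 6, 8], [4, 12, 2, 0, 14, 8, 13, 4, 0, 7, 5, 8, 2, 20, 18, 17]⟩)))
  (.node (nat_lit 78) (.node (nat_lit 77) (.leaf ⟨4, 4, true, [12, 14, 6, 3, 7], [12, 14, 2, 0, 14, 12, 10, 13, 0, 2, 7, 8, 4, 18, 21, 17]⟩)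
  (.leaf ⟨2, 5, true, [4], []⟩))
  (.node (nat_lit 79) (.leaf ⟨5, 2, true, [], [5]⟩)
  (.leaf ⟨5, 5, false, [3, 0, 2, 0, 14, 5, 6, 8, 0, 5, 6, 8, 2, 18, 22, 17], []⟩)))))
  (.node (nat_lit 88) (.node (nat_lit 84) (.node (nat_lit 82) (.node (nat_lit 81) (.leaf ⟨5, 5, false, [5, 12, 10, 0, 14, 8, 0, 5, 12, 2, 5, 2, 9, 18, 16, 16], []⟩)
  (.leaf ⟨5, 5, false, [7, 4, 13, 14, 0, 6, 8, 4, 0, 7, 5, 3, 5, 16, 23], []⟩))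
  (.node (nat_lit 83) (.leaf ⟨5, 5, false, [6, 13, 2, 12, 14, 12, 3, 13, 6, 4, 8, 5, 22, 20, 16], []⟩)
  (.leaf ⟨5, 5, false, [5, 6, 0, 14, 0, 4, 8, 5, 0, 4, 10, 9, 22, 16, 16, 16], []⟩)))
  (.node (nat_lit 86) (.node (nat_lit 85) (.leaf ⟨5, 5, true, [5, 6, 4, 2], [12, 14, 12, 7, 2, 0, 14, 10, 5, 9, 0, 8, 8, 10, 3, 22, 16, 16]⟩)
  (.leaf ⟨5, 5, true, [10, 12, 0, 14, 8, 4], [4, 10, 4, 0, 14, 8, 0, 8, 0, 6, 5, 3, 4, 23, 17, 17]⟩))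
  (.node (nat_lit 87) (.leaf ⟨5, 3, true, [8, 0, 9, 6], [4, 7, 9, 0, 14, 5, 10, 6, 0, 6, 5, 7, 22, 17]⟩)
  (.leaf ⟨3, 5, true, [4, 3, 13, 14, 8], [9, 4, 8, 3, 0, 14, 3, 4, 3, 0, 4, 7, 16, 23]⟩))))
  (.node (nat_lit 92) (.node (nat_lit 90) (.node (nat_lit 89) (.leaf ⟨5, 5, true, [4, 9, 7, 4], [8, 5, 6, 0, 14, 2, 0, 4, 9, 4, 6, 23, 16]⟩)
  (.leaf ⟨5, 3, true, [14, 4, 9, 7, 4], [8, 13, 2, 12, 14, 6, 4, 2, 0, 4, 3, 10, 8, 22, 20, 16]⟩))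
  (.node (nat_lit 91) (.leaf ⟨3, 5, true, [14, 0, 12, 10, 3], [9, 7, 13, 2, 0, 14, 2, 0, 6, 2, 0, 7, 2, 10, 9, 23, 18, 16]⟩)
  (.leaf ⟨5, 5, true, [8, 13, 2, 12, 14, 2], [7, 0, 8, 5, 0, 14, 13, 3, 7, 13, 2, 4, 6, 3, 20, 18, 17]⟩)))
  (.node (nat_lit 94) (.node (nat_lit 93) (.leaf ⟨5, 5, true, [7, 8, 0, 14, 5], [14, 0, 10, 0, 14, 9, 3, 13, 5, 3, 7, 8, 22, 17, 17]⟩)
  (.leaf ⟨5, 5, false, [13, 8, 13, 14, 5, 7, 8, 0, 5, 10, 2, 5, 20, 16, 16, 16], []⟩))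
  (.node (nat_lit 95) (.leaf ⟨5, 5, true, [3, 5, 12, 5], [13, 5, 8, 4, 0, 14, 12, 5, 12, 9, 3, 8, 3, 22, 18, 16]⟩)
  (.leaf ⟨5, 5, false, [10, 7, 5, 0, 14, 6, 3, 10, 0, 9, 7, 3, 4], []⟩))))))

noncomputable def f96 : FT := (.node (nat_lit 112) (.node (nat_lit 104) (.node (nat_lit 100) (.node (nat_lit 98) (.node (nat_lit 97) (.leaf ⟨5, 3, true, [13, 14, 2, 12, 4], [5, 0, 9, 0, 14, 2, 0, 12, 2, 0, 10, 4, 9, 17, 21, 16]⟩)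
  (.leaf ⟨3, 5, true, [2, 10, 6, 9], [7, 0, 6, 3, 12, 14, 12, 4, 7, 0, 6, 3, 10, 2, 20, 17, 17]⟩))
  (.node (nat_lit 99) (.leaf ⟨5, 5, true, [2, 10, 6, 13, 14, 2], [4, 2, 13, 14, 0, 12, 0, 2, 0, 4, 3, 9, 3, 20, 18]⟩)
  (.leaf ⟨5, 5, true, [8, 12, 8, 12, 14, 2], [2, 12, 14, 13, 3, 12, 9, 7, 8, 2, 18, 16]⟩)))
  (.node (nat_lit 102) (.node (nat_lit 101) (.leaf ⟨5, 5, true, [12, 14, 13], [9, 0, 3, 12, 14, 0, 12, 8, 0, 4, 8, 5, 3, 21, 18, 16]⟩)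
  (.leaf ⟨5, 5, true, [13, 3, 7, 8, 2], [9, 10, 8, 6, 0, 14, 2, 12, 10, 7, 0, 7, 3, 7, 5, 20, 17, 17]⟩))
  (.node (nat_lit 103) (.leaf ⟨5, 5, true, [14, 5, 0, 10, 4], [7, 12, 9, 0, 14, 0, 13, 6, 13, 3, 5, 6, 2, 23, 18, 21, 17]⟩)
  (.leaf ⟨4, 5, true, [8, 0, 14, 9, 6], [8, 2, 4, 0, 14, 4, 6, 10, 0, 9, 5, 6, 22, 17]⟩))))
  (.node (nat_lit 108) (.node (nat_lit 106) (.node (nat_lit 105) (.leaf ⟨5, 4, true, [8, 5], [10, 6, 13, 0, 14, 6, 12, 9, 2, 4, 2, 22, 17]⟩)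
  (.leaf ⟨4, 5, true, [13, 10, 2, 8], [14, 12, 5, 8, 2, 0, 14, 4, 3, 9, 4, 0, 3, 10, 3, 20, 18, 17]⟩))
  (.node (nat_lit 107) (.leaf ⟨5, 4, true, [9, 5, 0, 13, 14], [8, 13, 7, 0, 14, 5, 0, 12, 4, 2, 9, 4, 17, 21]⟩)
  (.leaf ⟨4, 5, true, [0, 14, 5, 6, 4, 2], [9, 13, 3, 12, 14, 12, 3, 5, 12, 4, 6, 2, 22]⟩)))
  (.node (nat_lit 110) (.node (nat_lit 109) (.leaf ⟨5, 4, true, [0, 14, 8, 13, 6], [2, 12, 8, 0, 14, 3, 5, 2, 5, 0, 7, 9, 10, 5, 21, 16]⟩)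
  (.leaf ⟨4, 5, true, [8, 0, 4, 12, 14], [0, 5, 6, 13, 14, 12, 0, 6, 0, 5, 10, 5, 22, 20, 16, 16, 16]⟩))
  (.node (nat_lit 111) (.leaf ⟨5, 4, true, [14, 12, 8, 13, 5], [13, 8, 4, 0, 14, 0, 7, 10, 0, 2, 10, 5, 18, 23, 16]⟩)
  (.leaf ⟨3, 5, true, [12, 2, 0, 2], [3, 0, 5, 12, 14, 12, 2, 5, 0, 2, 18, 17, 17]⟩)))))
  (.node (nat_lit 120) (.node (nat_lit 116) (.node (nat_lit 114) (.node (nat_lit 113) (.leaf ⟨5, 3, true, [12, 14, 5, 2, 0, 3], [14, 3, 10, 3, 0, 14, 4, 0, 9, 4, 0, 10, 6, 8, 6, 21, 16, 16]⟩)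
  (.leaf ⟨3, 6, true, [10], []⟩))
  (.node (nat_lit 115) (.leaf ⟨6, 3, true, [], [10]⟩)
  (.leaf ⟨6, 6, false, [8, 12, 8, 0, 14, 8, 0, 4, 0, 4, 6, 9, 6, 18, 23, 16], []⟩)))
  (.node (nat_lit 118) (.node (nat_lit 117) (.leaf ⟨6, 6, false, [2, 13, 0, 14, 13, 2, 7, 12, 3, 10, 3, 9, 21], []⟩)
  (.leaf ⟨6, 6, false, [10, 4, 0, 13, 14, 2, 7, 2, 12, 6, 8, 3, 5, 20, 16], []⟩))
  (.node (nat_lit 119) (.leaf ⟨6, 4, true, [4, 8, 0, 3], [13, 14, 5, 0, 14, 12, 0, 12, 5, 3, 10, 7, 17]⟩)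
  (.leaf ⟨4, 6, true, [4, 3, 0, 12, 14, 3], [14, 9, 7, 2, 0, 14, 13, 2, 0, 7, 4, 3, 21, 17, 17]⟩))))
  (.node (nat_lit 124) (.node (nat_lit 122) (.node (nat_lit 121) (.leaf ⟨6, 6, true, [12, 8, 3], [0, 14, 12, 5, 2, 0, 14, 8, 3, 4, 0, 10, 8, 3, 6, 17, 22]⟩)
  (.leaf ⟨6, 6, true, [12, 5], [0, 7, 5, 0, 14, 6, 8, 0, 3, 5, 6, 2, 18, 17]⟩))
  (.node (nat_lit 123) (.leaf ⟨6, 5, true, [14, 3, 9, 3, 4], [2, 0, 12, 2, 0, 14, 0, 13, 9, 13, 6, 9, 10, 6, 22]⟩)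
  (.leaf ⟨5, 6, true, [7, 9, 0, 14, 4, 2], [12, 3, 13, 14, 6, 5, 0, 10, 6, 4, 2, 23, 18, 16, 16]⟩)))
  (.node (nat_lit 126) (.node (nat_lit 125) (.leaf ⟨6, 6, true, [14, 6, 8, 12, 3], [10, 12, 9, 0, 14, 9, 2, 0, 13, 9, 5, 7, 16, 20, 17]⟩)
  (.leaf ⟨6, 5, true, [5, 0, 13, 14, 0, 4], [13, 6, 13, 14, 2, 12, 6, 2, 0, 2, 5, 3, 10, 20, 16, 16]⟩))
  (.node (nat_lit 127) (.leaf ⟨5, 6, true, [13, 14, 5, 13, 10, 2], [5, 0, 8, 2, 0, 14, 6, 2, 5, 0, 3, 10, 3, 18, 17, 17]⟩)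
  (.leaf ⟨6, 6, true, [12, 14, 8, 7, 3], [9, 6, 8, 0, 14, 8, 10, 8, 6, 0, 6, 4, 8, 3, 18, 22, 17]⟩))))))

noncomputable def f128 : FT := (.node (nat_lit 132) (.node (nat_lit 130) (.node (nat_lit 129) (.leaf ⟨6, 6, true, [8, 10, 0, 2], [14, 12, 3, 5, 12, 14, 4, 12, 0, 8, 4, 7, 4, 18, 21]⟩)
  (.leaf ⟨6, 4, true, [6, 8, 7], [12, 3, 7, 13, 14, 3, 4, 0, 9, 6, 2, 4, 17, 22, 16, 16]⟩))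
  (.node (nat_lit 131) (.leaf ⟨4, 6, true, [8, 5, 10, 12, 14], [14, 5, 0, 14, 0, 4, 8, 5, 0, 10, 2, 4, 6, 23, 18, 16, 16]⟩)
  (.leaf ⟨6, 5, true, [12, 0, 14, 12, 3], [12, 5, 0, 13, 14, 13, 8, 3, 13, 4, 9, 6, 5, 3, 23, 18, 21]⟩)))
  (.node (nat_lit 134) (.node (nat_lit 133) (.leaf ⟨5, 6, true, [9, 10, 2, 4, 2], [9, 13, 7, 0, 14, 9, 7, 13, 3, 0, 8, 3, 7, 22, 16, 16, 16]⟩)
  (.leaf ⟨6, 4, true, [3, 0, 9, 10], [14, 0, 6, 13, 3, 0, 14, 7, 2, 0, 3, 0, 2, 6, 5, 2, 23, 16]⟩))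
  (.node (nat_lit 135) (.leaf ⟨4, 6, true, [8, 4, 13, 14, 8, 2], [0, 14, 7, 12, 9, 0, 14, 0, 13, 8, 13, 10, 2, 9, 4, 2, 18, 16, 20, 16]⟩)
  (.node (nat_lit 136) (.leaf ⟨6, 6, false, [12, 7, 13, 0, 14, 5, 3, 9, 4, 0, 8, 7, 10, 8, 21], []⟩)
  (.leaf ⟨6, 6, true, [0, 7, 2, 13, 2], [0, 3, 9, 0, 14, 4, 9, 2, 0, 3, 7, 3, 6, 18, 23, 16]⟩)))))



end Cfsg.Agent.Lib.J4D
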