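import Cfsg.Agent.Lib.J4DN0

set_option autoImplicit false
set_option maxRecDepth 100000

namespace Cfsg.Agent.Lib.J4D
open Cfsg.Agent.Lib.PermNet

noncomputable def nets : NL := (.cons net0 (.cons net1 (.cons net2 (.cons net3 (.cons net4 (.cons net5 (.cons net6 (.cons net7 (.cons net8 (.cons net9 (.cons net10 (.cons net11 (.cons net12 (.cons net13 (.cons net14 (.cons net15 (.cons net16 (.cons net17 (.cons net18 (.cons net19 (.cons net20 (.cons net21 (.cons net22 (.cons net23 (.cons net24 (.cons net25 (.cons net26 (.cons net27 (.cons net28 (.cons net29 .nil))))))))))))))))))))))))))))))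

theorem hv : nets.Valid 17228 := ⟨valid0, ⟨valid1, ⟨valid2, ⟨valid3, ⟨valid4, ⟨valid5, ⟨valid6, ⟨valid7, ⟨valid8, ⟨valid9, ⟨valid10, ⟨valid11, ⟨valid12, ⟨valid13, ⟨valid14, ⟨valid15, ⟨valid16, ⟨valid17, ⟨valid18, ⟨valid19, ⟨valid20, ⟨valid21, ⟨valid22, ⟨valid23, ⟨valid24, ⟨valid25, ⟨valid26, ⟨valid27, ⟨valid28, ⟨valid29, trivial⟩⟩⟩⟩⟩⟩⟩⟩⟩⟩⟩⟩⟩⟩⟩⟩⟩⟩⟩⟩⟩⟩⟩⟩⟩⟩⟩⟩⟩⟩

def rels0 : List (List Nat × List Nat) := [([10], [11]),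
  ([0], [1]),
  ([2, 2], [3]),
  ([0, 2, 0, 2, 0, 2, 0, 2, 0, 2, 0, 2, 0, 2, 0, 2, 0, 2, 0, 2, 0, 2, 0], [3, 1, 3, 1, 3, 1, 3, 1, 3, 1, 3, 1, 3, 1, 3, 1, 3, 1, 3, 1, 3, 1, 3]),
  ([1, 3, 0, 2, 1, 3, 0, 2, 1, 3, 0, 2, 1, 3, 0, 2, 1, 3, 0, 2, 1, 3, 0, 2], [3, 1, 2, 0, 3, 1, 2, 0, 3, 1, 2, 0, 3, 1, 2, 0, 3, 1, 2, 0, 3, 1, 2, 0]),
  ([1, 3, 1, 3, 0, 2, 0, 2, 1, 3, 1, 3, 0, 2, 0, 2, 1, 3, 1, 3], [3, 1, 3, 1, 2, 0, 2, 0, 3, 1, 3, 1, 2, 0, 2, 0, 3, 1, 3, 1]),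
  ([0, 2, 0, 2, 0, 3, 0, 2, 0, 3, 0, 2, 0, 3, 0, 2, 0, 2, 0, 3, 0, 2, 0, 3, 0, 2, 0, 3], [2, 1, 3, 1, 2, 1, 3, 1, 2, 1, 3, 1, 3, 1, 2, 1, 3, 1, 2, 1, 3, 1, 2, 1, 3, 1, 3, 1]),
  ([0, 2, 0, 2, 0, 3, 0, 2, 0, 2, 0, 3, 0, 2, 0, 2, 0, 3], [2, 1, 2, 1, 3, 1, 2, 1, 2, 1, 3, 1, 2, 1, 2, 1, 3, 1]),
  ([5, 0, 3, 0, 2, 0, 2, 0, 3, 0, 3, 0, 3, 0, 2, 0, 2, 0, 3, 0, 3, 0, 2, 0, 3, 0, 2, 0], [1, 2, 1, 2, 1, 3, 1, 3, 1, 3, 1, 2, 1, 2, 1, 2, 1, 3, 1, 3, 1, 3, 1, 3, 1, 2, 1, 3]),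
  ([7, 3, 0, 2, 0, 3, 0, 3, 0, 2, 0, 3, 0, 2, 0, 2, 0, 2, 0, 3, 0, 2, 0], [2, 1, 3, 1, 3, 1, 2, 1, 2, 1, 3, 1, 2, 1, 2, 1, 2, 1, 2, 1, 2, 1, 2]),
  ([9, 2, 0, 3, 0, 3, 0, 3, 0, 3, 0, 3, 0, 2, 0, 2, 0, 3, 0, 3, 0, 2, 0, 3, 0, 3, 0], [3, 1, 3, 1, 2, 1, 3, 1, 3, 1, 3, 1, 3, 1, 3, 1, 2, 1, 3, 1, 3, 1, 3, 1, 3, 1, 3]),
  ([11, 0, 2, 0, 3, 0, 3, 0, 3, 0, 2, 0, 3, 0, 2, 0, 2, 0, 2, 0, 3, 0, 3], [2, 1, 2, 1, 3, 1, 3, 1, 3, 1, 2, 1, 3, 1, 2, 1, 2, 1, 2, 1, 3, 1]),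
  ([13, 0, 3, 0, 3, 0, 3, 0, 3, 0, 2, 0, 3, 0, 2, 0, 3, 0, 3, 0, 3, 0, 2, 0, 3, 0, 3], [2, 1, 3, 1, 3, 1, 3, 1, 3, 1, 3, 1, 2, 1, 3, 1, 3, 1, 2, 1, 2, 1, 2, 1, 2, 1]),
  ([1, 4, 13, 6, 10, 4], [4, 13, 9, 6, 4, 9]),
  ([3, 7, 10, 4], [7, 4, 6]),
  ([4, 4], [5]),
  ([6, 6], [7]),
  ([12, 12], [13]),
  ([8, 8], [9, 9]),
  ([4, 6, 8], [9, 7, 5]),
  ([4, 8, 10], [11, 4, 8]),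
  ([4, 6, 13, 7, 10, 6], [11, 4, 6, 13, 11]),
  ([4, 8, 4, 10, 8, 4], [9, 11, 5, 11, 9]),
  ([4, 8, 4, 13, 10, 8], [9, 13, 11, 8, 11]),
  ([4, 4, 9, 7, 8, 8], [8, 8, 5, 9, 7]),
  ([4, 6, 5, 8, 7, 5], [9, 9, 6, 5, 9]),
  ([4, 4, 10, 4, 13, 5], [13, 8, 11, 4, 8]),
  ([4, 7, 4, 7, 9, 7], [8, 7, 9, 6, 8]),
  ([6, 6, 8, 7, 8, 12], [12, 9, 6, 9, 6]),
  ([4, 4, 9, 5, 9, 9], [6, 5, 6, 8, 6]),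
  ([4, 4, 8, 8, 5, 6], [8, 8, 5, 6, 4]),
  ([4, 7, 12, 5, 9, 12], [9, 6, 13, 8, 4]),
  ([4, 6, 5, 7, 7, 8], [8, 8, 5, 7, 9]),
  ([4, 4, 6, 9, 7, 4], [9, 7, 9, 7, 8]),
  ([4, 8, 5, 9, 9, 10], [7, 11, 9, 11, 6]),
  ([4, 12, 6, 8, 7, 13], [6, 11, 12, 7, 4]),
  ([4, 7, 8, 6, 9, 6], [9, 7, 8, 7, 4]),
  ([4, 6, 9, 6, 8, 6], [8, 7, 4, 8, 4]),
  ([4, 7, 8, 4, 8, 4], [6, 8, 7, 7, 8]),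
  ([14], [15]),
  ([4, 14], [15, 4]),
  ([6, 14], [15, 6]),
  ([8, 14], [15, 8]),
  ([10, 14], [15, 10]),
  ([12, 14, 12], [15, 13, 15]),
  ([12, 14, 13, 5, 12, 14, 13, 4, 10], [11, 8, 8, 12, 15, 13, 9, 9]),
  ([17, 3, 11, 4, 8], []),
  ([19, 8, 4, 8, 4], []),
  ([21, 11, 6, 9, 7], []),
  ([23, 6, 9, 2, 4, 6, 8, 3, 5], []),
  ([25, 3, 0, 4, 12, 5, 6, 0, 13, 7], []),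
  ([27, 3, 0, 4, 12, 5, 6, 0, 13, 7], []),
  ([29, 2, 7, 0, 6, 4, 10, 2, 4], []),
  ([31, 2, 7, 0, 6, 4, 10, 2, 4], []),
  ([33, 3, 8, 8, 13, 7, 2, 0, 13, 5], []),
  ([35, 3, 8, 8, 13, 7, 2, 0, 13, 5], []),
  ([37, 3, 9, 6, 0, 9, 2, 12, 8, 4], []),
  ([39, 3, 9, 6, 0, 9, 2, 12, 8, 4], []),
  ([41, 4, 0, 14, 1, 5], []),
  ([43, 4, 0, 2, 10, 3, 14, 0, 5], []),
  ([45, 24, 29, 24, 33], []),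
  ([47, 26, 31, 26, 35], []),
  ([49, 33, 25, 28, 36, 28], []),
  ([51, 35, 27, 30, 38, 30], []),
  ([53, 33, 37, 28, 28, 32], []),
  ([55, 35, 39, 30, 30, 34], []),
  ([57, 25, 33, 37, 28, 24, 28, 36, 32, 28, 32], []),
  ([59, 27, 35, 39, 30, 26, 30, 38, 34, 30, 34], [])]
def rels : List (List Nat × List Nat) := rels0

def defs : List (List Nat) := [[3, 11, 4, 8], [8, 4, 8, 4], [11, 6, 9, 7], [6, 9, 2, 4, 6, 8, 3, 5], [3, 0, 4, 12, 5, 6, 0, 13, 7], [3, 0, 4, 12, 5, 6, 0, 13, 7], [2, 7, 0, 6, 4, 10, 2, 4], [2, 7, 0, 6, 4, 10, 2, 4], [3, 8, 8, 13, 7, 2, 0, 13, 5], [3, 8, 8, 13, 7, 2, 0, 13, 5], [3, 9, 6, 0, 9, 2, 12, 8, 4], [3, 9, 6, 0, 9, 2, 12, 8, 4], [4, 0, 14, 1, 5], [4, 0, 2, 10, 3, 14, 0, 5], [24, 29, 24, 33], [26,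 31, 26, 35], [33, 25, 28, 36, 28], [35, 27, 30, 38, 30], [33, 37, 28, 28, 32], [35, 39, 30, 30, 34], [25, 33, 37, 28, 24, 28, 36, 32, 28, 32], [27, 35, 39, 30, 26, 30, 38, 34, 30, 34]]

end Cfsg.Agent.Lib.J4D
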