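import Cfsg.Agent.Lib.J4E2

/-! Commutators in the fourth Janko group. -/

set_option autoImplicit false
set_option maxRecDepth 100000
set_option Elab.async false

namespace Cfsg.Agent.Lib.J4E

open Cfsg.Agent.Lib.PermNet Cfsg.Agent.Lib.Words Cfsg.Agent.Lib.MatRep Cfsg.Agent.Lib.DCE Cfsg.Agent.Lib.J4L

def NC1_0 : List (ℕ × ℕ × ℕ) := [(28, 0, 0), (31, 0, 0), (36, 0, 3), (42, 0, 0), (47, 0, 0), (54, 0, 0), (69, 0, 2), (72, 0, 0), (83, 0, 2), (88, 0, 0), (96, 0, 0), (97, 0, 0)]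

theorem nc1_0 : allL (ncP (XK.getD 1 [])) NC1_0 = true := by decide +kernel

def NC1_1 : List (ℕ × ℕ × ℕ) := [(110, 0, 2), (112, 0, 0), (114, 0, 0), (127, 0, 2), (129, 0, 2), (135, 0, 0), (136, 0, 6), (140, 0, 3), (142, 0, 0), (143, 0, 0), (163, 0, 0), (164, 0, 0)]

theorem nc1_1 : allL (ncP (XK.getD 1 [])) NC1_1 = true := by decide +kernel

def NC1_2 : List (ℕ × ℕ × ℕ) := [(168, 0, 0), (184, 0, 0), (192, 0, 0), (194, 0, 1), (210, 0, 4), (214, 0, 0), (237, 0, 2), (255, 0, 3), (259, 0, 0), (267, 0, 0), (269, 0, 0), (279, 0, 0)]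

theorem nc1_2 : allL (ncP (XK.getD 1 [])) NC1_2 = true := by decide +kernel

def NC1_3 : List (ℕ × ℕ × ℕ) := [(282, 0, 1), (284, 0, 1), (289, 0, 1), (290, 0, 0), (308, 0, 0), (311, 0, 1), (327, 0, 1), (329, 0, 0), (331, 0, 0), (340, 0, 1), (377, 0, 0), (380, 0, 2)]

theorem nc1_3 : allL (ncP (XK.getD 1 [])) NC1_3 = true := by decide +kernel

def NC1_4 : List (ℕ × ℕ × ℕ) := [(385, 0, 0), (405, 0, 3), (421, 0, 1), (431, 0, 2), (438, 0, 0), (444, 0, 2), (451, 0, 1), (454, 0, 0), (456, 0, 0), (476, 0, 0), (480, 0, 2), (485, 0, 1)]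

theorem nc1_4 : allL (ncP (XK.getD 1 [])) NC1_4 = true := by decide +kernel

def NC1_5 : List (ℕ × ℕ × ℕ) := [(523, 0, 0), (525, 0, 0), (527, 0, 0), (530, 0, 0), (531, 0, 3), (533, 0, 2), (564, 0, 1), (569, 0, 2), (570, 0, 3), (574, 0, 0), (577, 0, 0), (579, 0, 0)]

theorem nc1_5 : allL (ncP (XK.getD 1 [])) NC1_5 = true := by decide +kernel

def NC1_6 : List (ℕ × ℕ × ℕ) := [(580, 0, 11), (606, 0, 3), (609, 0, 2), (621, 0, 3), (644, 0, 1), (665, 0, 2), (695, 0, 2), (700, 0, 0), (701, 0, 0), (703, 0, 1), (704, 0, 0), (715, 0, 2)]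

theorem nc1_6 : allL (ncP (XK.getD 1 [])) NC1_6 = true := by decide +kernel

def NC1_7 : List (ℕ × ℕ × ℕ) := [(716, 0, 2), (735, 0, 0), (756, 0, 2), (760, 0, 1), (770, 0, 0), (771, 0, 0), (776, 0, 4), (778, 0, 0), (785, 0, 0), (786, 0, 0), (791, 0, 0), (792, 0, 1)]

theorem nc1_7 : allL (ncP (XK.getD 1 [])) NC1_7 = true := by decide +kernel

def NC1_8 : List (ℕ × ℕ × ℕ) := [(795, 0, 3), (798, 0, 4), (813, 0, 0), (817, 0, 0), (820, 0, 1), (822, 0, 1), (834, 0, 0), (835, 0, 0), (855, 0, 0), (857, 0, 1), (876, 0, 0), (887, 0, 0)]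

theorem nc1_8 : allL (ncP (XK.getD 1 [])) NC1_8 = true := by decide +kernel

def NC1_9 : List (ℕ × ℕ × ℕ) := [(897, 0, 4), (898, 0, 0), (903, 0, 3), (904, 0, 0), (907, 0, 2), (910, 0, 1), (914, 0, 0), (917, 0, 6), (920, 0, 1), (924, 0, 2), (938, 0, 0), (950, 0, 0)]

theorem nc1_9 : allL (ncP (XK.getD 1 [])) NC1_9 = true := by decide +kernel

def NC1_10 : List (ℕ × ℕ × ℕ) := [(952, 0, 4), (954, 0, 0), (963, 0, 0), (964, 0, 0), (977, 0, 1), (985, 0, 4), (992, 0, 0), (1000, 0, 0), (1007, 0, 0), (1011, 0, 0), (1015, 0, 2), (1016, 0, 1)]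

theorem nc1_10 : allL (ncP (XK.getD 1 [])) NC1_10 = true := by decide +kernel

def NC1_11 : List (ℕ × ℕ × ℕ) := [(1026, 0, 2), (1029, 0, 0), (1030, 0, 1), (1031, 0, 2), (1035, 0, 6), (1038, 0, 1), (1040, 0, 1), (1043, 0, 0), (1049, 0, 3), (1050, 0, 0), (1068, 0, 0), (1075, 0, 4)]

theorem nc1_11 : allL (ncP (XK.getD 1 [])) NC1_11 = true := by decide +kernel

def NC1_12 : List (ℕ × ℕ × ℕ) := [(1079, 0, 0), (1087, 0, 0), (1094, 0, 2), (1095, 0, 4), (1107, 0, 0), (1108, 0, 13), (1123, 0, 0), (1125, 0, 1), (1131, 0, 1), (1138, 0, 1), (1140, 0, 1), (1145, 0, 0)]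

theorem nc1_12 : allL (ncP (XK.getD 1 [])) NC1_12 = true := by decide +kernel

def NC1_13 : List (ℕ × ℕ × ℕ) := [(1180, 0, 0), (1183, 0, 0), (1186, 0, 0), (1200, 0, 1), (1208, 0, 2), (1213, 0, 0), (1216, 0, 0), (1230, 0, 0), (1237, 0, 0), (1245, 0, 0), (1263, 0, 0), (1277, 0, 0)]

theorem nc1_13 : allL (ncP (XK.getD 1 [])) NC1_13 = true := by decide +kernel

def NC1_14 : List (ℕ × ℕ × ℕ) := [(1285, 0, 1), (1290, 0, 3), (1293, 0, 1), (1298, 0, 0), (1305, 0, 0), (1309, 0, 1), (1317, 0, 1), (1327, 0, 0), (1333, 0, 0), (1343, 0, 2), (1357, 0, 0), (1361, 0, 1)]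

theorem nc1_14 : allL (ncP (XK.getD 1 [])) NC1_14 = true := by decide +kernel

def NC1_15 : List (ℕ × ℕ × ℕ) := [(1364, 0, 0), (1369, 0, 1), (1377, 0, 1), (1383, 0, 0), (1392, 0, 1), (1394, 0, 6), (1398, 0, 0), (1399, 0, 1), (1414, 0, 0), (1426, 0, 1), (1441, 0, 0), (1442, 0, 1)]

theorem nc1_15 : allL (ncP (XK.getD 1 [])) NC1_15 = true := by decide +kernel

def NC1_16 : List (ℕ × ℕ × ℕ) := [(1460, 0, 1), (1463, 0, 0), (1477, 0, 1), (1493, 0, 0), (1496, 0, 0), (1497, 0, 0), (1506, 0, 0), (1511, 0, 1), (1513, 0, 2), (1519, 0, 0), (1521, 0, 1), (1527, 0, 0)]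

theorem nc1_16 : allL (ncP (XK.getD 1 [])) NC1_16 = true := by decide +kernel

def NC1_17 : List (ℕ × ℕ × ℕ) := [(1541, 0, 0), (1544, 0, 0), (1546, 0, 1), (1556, 0, 0), (1557, 0, 3), (1563, 0, 3), (1588, 0, 2), (1589, 0, 3), (1590, 0, 1), (1598, 0, 0), (1607, 0, 0), (1619, 0, 0)]

theorem nc1_17 : allL (ncP (XK.getD 1 [])) NC1_17 = true := by decide +kernel

def NC1_18 : List (ℕ × ℕ × ℕ) := [(1623, 0, 0), (1627, 0, 2), (1634, 0, 1), (1638, 0, 4), (1642, 0, 1), (1645, 0, 1), (1651, 0, 2), (1660, 0, 1), (1674, 0, 0), (1687, 0, 2), (1712, 0, 0), (1715, 0, 5)]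

theorem nc1_18 : allL (ncP (XK.getD 1 [])) NC1_18 = true := by decide +kernel

def NC1_19 : List (ℕ × ℕ × ℕ) := [(1716, 0, 2), (1726, 0, 1), (1734, 0, 0), (1754, 0, 0), (1755, 0, 5), (1759, 0, 0), (1763, 0, 0), (1772, 0, 1), (1780, 0, 2), (1782, 0, 1), (1786, 0, 1), (1787, 0, 0)]

theorem nc1_19 : allL (ncP (XK.getD 1 [])) NC1_19 = true := by decide +kernel

def NC1_20 : List (ℕ × ℕ × ℕ) := [(1799, 0, 0), (1806, 0, 0), (1810, 0, 3), (1814, 0, 6), (1816, 0, 0), (1823, 0, 2), (1828, 0, 0), (1829, 0, 0), (1832, 0, 3), (1847, 0, 1), (1864, 0, 0), (1868, 0, 4)]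

theorem nc1_20 : allL (ncP (XK.getD 1 [])) NC1_20 = true := by decide +kernel

def NC1_21 : List (ℕ × ℕ × ℕ) := [(1877, 0, 0), (1886, 0, 0), (1895, 0, 1), (1916, 0, 6), (1921, 0, 0), (1923, 0, 0), (1930, 0, 0), (1931, 0, 4), (1940, 0, 0), (1949, 0, 4), (1962, 0, 0), (1963, 0, 0)]

theorem nc1_21 : allL (ncP (XK.getD 1 [])) NC1_21 = true := by decide +kernel

def NC1_22 : List (ℕ × ℕ × ℕ) := [(1967, 0, 1), (1968, 0, 0), (1997, 0, 2), (1999, 0, 3), (2006, 0, 0), (2011, 0, 2), (2026, 0, 0), (2027, 0, 1), (2029, 0, 0), (2033, 0, 1), (2035, 0, 2), (2037, 0, 1)]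

theorem nc1_22 : allL (ncP (XK.getD 1 [])) NC1_22 = true := by decide +kernel

theorem nc1 : NcOK (XK.getD 1 []) := ncOK_of [NC1_0, NC1_1, NC1_2, NC1_3, NC1_4, NC1_5, NC1_6, NC1_7, NC1_8, NC1_9, NC1_10, NC1_11, NC1_12, NC1_13, NC1_14, NC1_15, NC1_16, NC1_17, NC1_18, NC1_19, NC1_20, NC1_21, NC1_22]
  (List.forall_mem_cons.2 ⟨nc1_0, (List.forall_mem_cons.2 ⟨nc1_1, (List.forall_mem_cons.2 ⟨nc1_2, (List.forall_mem_cons.2 ⟨nc1_3, (List.forall_mem_cons.2 ⟨nc1_4, (List.forall_mem_cons.2 ⟨nc1_5, (List.forall_mem_cons.2 ⟨nc1_6, (List.forall_mem_cons.2 ⟨nc1_7, (List.forall_mem_cons.2 ⟨nc1_8, (List.forall_mem_cons.2 ⟨nc1_9, (List.forall_mem_cons.2 ⟨nc1_10, (List.forall_mem_cons.2 ⟨nc1_11, (List.forall_mem_cons.2 ⟨nc1_12, (List.forall_mem_cons.2 ⟨nc1_13, (List.forall_mem_cons.2 ⟨nc1_14, (List.forall_mem_cons.2 ⟨nc1_15, (List.forall_mem_cons.2 ⟨nc1_16, (List.forall_mem_cons.2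 ⟨nc1_17, (List.forall_mem_cons.2 ⟨nc1_18, (List.forall_mem_cons.2 ⟨nc1_19, (List.forall_mem_cons.2 ⟨nc1_20, (List.forall_mem_cons.2 ⟨nc1_21, (List.forall_mem_cons.2 ⟨nc1_22, (by simp)⟩)⟩)⟩)⟩)⟩)⟩)⟩)⟩)⟩)⟩)⟩)⟩)⟩)⟩)⟩)⟩)⟩)⟩)⟩)⟩)⟩)⟩)⟩) (by decide +kernel)

def NC6_0 : List (ℕ × ℕ × ℕ) := [(28, 0, 0), (31, 0, 1), (36, 0, 0), (42, 0, 3), (47, 0, 0), (54, 0, 0), (69, 0, 1), (72, 0, 0), (83, 0, 0), (88, 0, 2), (96, 0, 4), (97, 0, 0)]

theorem nc6_0 : allL (ncP (XK.getD 6 [])) NC6_0 = true := by decide +kernel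

def NC6_1 : List (ℕ × ℕ × ℕ) := [(110, 0, 0), (112, 0, 0), (114, 0, 1), (127, 0, 0), (129, 0, 2), (135, 0, 0), (136, 0, 1), (140, 0, 0), (142, 0, 0), (143, 0, 0), (163, 0, 2), (164, 0, 3)]

theorem nc6_1 : allL (ncP (XK.getD 6 [])) NC6_1 = true := by decide +kernel

def NC6_2 : List (ℕ × ℕ × ℕ) := [(168, 0, 1), (184, 0, 0), (192, 0, 0), (194, 0, 0), (210, 0, 5), (214, 0, 2), (237, 0, 0), (255, 0, 1), (259, 0, 1), (267, 0, 0), (269, 0, 1), (279, 0, 0)]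

theorem nc6_2 : allL (ncP (XK.getD 6 [])) NC6_2 = true := by decide +kernel

def NC6_3 : List (ℕ × ℕ × ℕ) := [(282, 0, 1), (284, 0, 1), (289, 0, 0), (290, 0, 1), (308, 0, 2), (311, 0, 1), (327, 0, 1), (329, 0, 5), (331, 0, 0), (340, 0, 0), (377, 0, 2), (380, 0, 2)]

theorem nc6_3 : allL (ncP (XK.getD 6 [])) NC6_3 = true := by decide +kernel

def NC6_4 : List (ℕ × ℕ × ℕ) := [(385, 0, 0), (405, 0, 0), (421, 0, 0), (431, 0, 0), (438, 0, 3), (444, 0, 1), (451, 0, 2), (454, 0, 0), (456, 0, 1), (476, 0, 0), (480, 0, 1), (485, 0, 0)]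

theorem nc6_4 : allL (ncP (XK.getD 6 [])) NC6_4 = true := by decide +kernel

def NC6_5 : List (ℕ × ℕ × ℕ) := [(523, 0, 4), (525, 0, 2), (527, 0, 1), (530, 0, 1), (531, 0, 0), (533, 0, 2), (564, 0, 0), (569, 0, 2), (570, 0, 1), (574, 0, 1), (577, 0, 1), (579, 0, 2)]

theorem nc6_5 : allL (ncP (XK.getD 6 [])) NC6_5 = true := by decide +kernel

def NC6_6 : List (ℕ × ℕ × ℕ) := [(580, 0, 0), (606, 0, 1), (609, 0, 0), (621, 0, 0), (644, 0, 4), (665, 0, 0), (695, 0, 2), (700, 0, 3), (701, 0, 2), (703, 0, 2), (704, 0, 0), (715, 0, 0)]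

theorem nc6_6 : allL (ncP (XK.getD 6 [])) NC6_6 = true := by decide +kernel

def NC6_7 : List (ℕ × ℕ × ℕ) := [(716, 0, 1), (735, 0, 1), (756, 0, 0), (760, 0, 0), (770, 0, 0), (771, 0, 0), (776, 0, 0), (778, 0, 1), (785, 0, 2), (786, 0, 1), (791, 0, 0), (792, 0, 0)]

theorem nc6_7 : allL (ncP (XK.getD 6 [])) NC6_7 = true := by decide +kernel

def NC6_8 : List (ℕ × ℕ × ℕ) := [(795, 0, 3), (798, 0, 0), (813, 0, 0), (817, 0, 1), (820, 0, 0), (822, 0, 0), (834, 0, 3), (835, 0, 0), (855, 0, 0), (857, 0, 2), (876, 0, 0), (887, 0, 2)]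

theorem nc6_8 : allL (ncP (XK.getD 6 [])) NC6_8 = true := by decide +kernel

def NC6_9 : List (ℕ × ℕ × ℕ) := [(897, 0, 1), (898, 0, 0), (903, 0, 0), (904, 0, 2), (907, 0, 2), (910, 0, 1), (914, 0, 2), (917, 0, 1), (920, 0, 0), (924, 0, 4), (938, 0, 1), (950, 0, 2)]

theorem nc6_9 : allL (ncP (XK.getD 6 [])) NC6_9 = true := by decide +kernel

def NC6_10 : List (ℕ × ℕ × ℕ) := [(952, 0, 1), (954, 0, 6), (963, 0, 0), (964, 0, 1), (977, 0, 0), (985, 0, 4), (992, 0, 0), (1000, 0, 0), (1007, 0, 1), (1011, 0, 0), (1015, 0, 0), (1016, 0, 0)]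

theorem nc6_10 : allL (ncP (XK.getD 6 [])) NC6_10 = true := by decide +kernel

def NC6_11 : List (ℕ × ℕ × ℕ) := [(1026, 0, 2), (1029, 0, 1), (1030, 0, 1), (1031, 0, 0), (1035, 0, 3), (1038, 0, 1), (1040, 0, 2), (1043, 0, 0), (1049, 0, 0), (1050, 0, 0), (1068, 0, 1), (1075, 0, 1)]

theorem nc6_11 : allL (ncP (XK.getD 6 [])) NC6_11 = true := by decide +kernel

def NC6_12 : List (ℕ × ℕ × ℕ) := [(1079, 0, 0), (1087, 0, 0), (1094, 0, 2), (1095, 0, 1), (1107, 0, 2), (1108, 0, 0), (1123, 0, 1), (1125, 0, 1), (1131, 0, 0), (1138, 0, 3), (1140, 0, 0), (1145, 0, 0)]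

theorem nc6_12 : allL (ncP (XK.getD 6 [])) NC6_12 = true := by decide +kernel

def NC6_13 : List (ℕ × ℕ × ℕ) := [(1180, 0, 3), (1183, 0, 0), (1186, 0, 0), (1200, 0, 2), (1208, 0, 1), (1213, 0, 2), (1216, 0, 0), (1230, 0, 0), (1237, 0, 0), (1245, 0, 2), (1263, 0, 0), (1277, 0, 3)]

theorem nc6_13 : allL (ncP (XK.getD 6 [])) NC6_13 = true := by decide +kernel

def NC6_14 : List (ℕ × ℕ × ℕ) := [(1285, 0, 0), (1290, 0, 2), (1293, 0, 1), (1298, 0, 0), (1305, 0, 0), (1309, 0, 5), (1317, 0, 1), (1327, 0, 2), (1333, 0, 0), (1343, 0, 0), (1357, 0, 2), (1361, 0, 0)]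

theorem nc6_14 : allL (ncP (XK.getD 6 [])) NC6_14 = true := by decide +kernel

def NC6_15 : List (ℕ × ℕ × ℕ) := [(1364, 0, 1), (1369, 0, 3), (1377, 0, 2), (1383, 0, 2), (1392, 0, 1), (1394, 0, 3), (1398, 0, 0), (1399, 0, 0), (1414, 0, 0), (1426, 0, 0), (1441, 0, 1), (1442, 0, 1)]

theorem nc6_15 : allL (ncP (XK.getD 6 [])) NC6_15 = true := by decide +kernel

def NC6_16 : List (ℕ × ℕ × ℕ) := [(1460, 0, 5), (1463, 0, 1), (1477, 0, 1), (1493, 0, 0), (1496, 0, 0), (1497, 0, 1), (1506, 0, 0), (1511, 0, 1), (1513, 0, 3), (1519, 0, 0), (1521, 0, 0), (1527, 0, 0)]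

theorem nc6_16 : allL (ncP (XK.getD 6 [])) NC6_16 = true := by decide +kernel

def NC6_17 : List (ℕ × ℕ × ℕ) := [(1541, 0, 1), (1544, 0, 3), (1546, 0, 0), (1556, 0, 0), (1557, 0, 1), (1563, 0, 0), (1588, 0, 0), (1589, 0, 0), (1590, 0, 1), (1598, 0, 0), (1607, 0, 0), (1619, 0, 0)]

theorem nc6_17 : allL (ncP (XK.getD 6 [])) NC6_17 = true := by decide +kernel

def NC6_18 : List (ℕ × ℕ × ℕ) := [(1623, 0, 1), (1627, 0, 3), (1634, 0, 0), (1638, 0, 1), (1642, 0, 0), (1645, 0, 0), (1651, 0, 1), (1660, 0, 1), (1674, 0, 0), (1687, 0, 0), (1712, 0, 0), (1715, 0, 0)]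

theorem nc6_18 : allL (ncP (XK.getD 6 [])) NC6_18 = true := by decide +kernel

def NC6_19 : List (ℕ × ℕ × ℕ) := [(1716, 0, 3), (1726, 0, 0), (1734, 0, 0), (1754, 0, 3), (1755, 0, 0), (1759, 0, 0), (1763, 0, 0), (1772, 0, 0), (1780, 0, 1), (1782, 0, 0), (1786, 0, 0), (1787, 0, 0)]

theorem nc6_19 : allL (ncP (XK.getD 6 [])) NC6_19 = true := by decide +kernel

def NC6_20 : List (ℕ × ℕ × ℕ) := [(1799, 0, 0), (1806, 0, 0), (1810, 0, 0), (1814, 0, 0), (1816, 0, 3), (1823, 0, 0), (1828, 0, 0), (1829, 0, 2), (1832, 0, 0), (1847, 0, 2), (1864, 0, 0), (1868, 0, 0)]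

theorem nc6_20 : allL (ncP (XK.getD 6 [])) NC6_20 = true := by decide +kernel

def NC6_21 : List (ℕ × ℕ × ℕ) := [(1877, 0, 1), (1886, 0, 1), (1895, 0, 0), (1916, 0, 0), (1921, 0, 0), (1923, 0, 0), (1930, 0, 0), (1931, 0, 1), (1940, 0, 0), (1949, 0, 0), (1962, 0, 2), (1963, 0, 0)]

theorem nc6_21 : allL (ncP (XK.getD 6 [])) NC6_21 = true := by decide +kernel

def NC6_22 : List (ℕ × ℕ × ℕ) := [(1967, 0, 3), (1968, 0, 1), (1997, 0, 0), (1999, 0, 0), (2006, 0, 0), (2011, 0, 0), (2026, 0, 0), (2027, 0, 0), (2029, 0, 1), (2033, 0, 0), (2035, 0, 0), (2037, 0, 0)]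

theorem nc6_22 : allL (ncP (XK.getD 6 [])) NC6_22 = true := by decide +kernel

theorem nc6 : NcOK (XK.getD 6 []) := ncOK_of [NC6_0, NC6_1, NC6_2, NC6_3, NC6_4, NC6_5, NC6_6, NC6_7, NC6_8, NC6_9, NC6_10, NC6_11, NC6_12, NC6_13, NC6_14, NC6_15, NC6_16, NC6_17, NC6_18, NC6_19, NC6_20, NC6_21, NC6_22]
  (List.forall_mem_cons.2 ⟨nc6_0, (List.forall_mem_cons.2 ⟨nc6_1, (List.forall_mem_cons.2 ⟨nc6_2, (List.forall_mem_cons.2 ⟨nc6_3, (List.forall_mem_cons.2 ⟨nc6_4, (List.forall_mem_cons.2 ⟨nc6_5, (List.forall_mem_cons.2 ⟨nc6_6, (List.forall_mem_cons.2 ⟨nc6_7, (List.forall_mem_cons.2 ⟨nc6_8, (List.forall_mem_cons.2 ⟨nc6_9, (List.forall_mem_cons.2 ⟨nc6_10, (List.forall_mem_cons.2 ⟨nc6_11, (List.forall_mem_cons.2 ⟨nc6_12, (List.forall_mem_cons.2 ⟨nc6_13, (List.forall_mem_cons.2 ⟨nc6_14, (List.forall_mem_cons.2 ⟨nc6_15, (List.forall_mem_cons.2 ⟨nc6_16, (List.forall_mem_cons.2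 ⟨nc6_17, (List.forall_mem_cons.2 ⟨nc6_18, (List.forall_mem_cons.2 ⟨nc6_19, (List.forall_mem_cons.2 ⟨nc6_20, (List.forall_mem_cons.2 ⟨nc6_21, (List.forall_mem_cons.2 ⟨nc6_22, (by simp)⟩)⟩)⟩)⟩)⟩)⟩)⟩)⟩)⟩)⟩)⟩)⟩)⟩)⟩)⟩)⟩)⟩)⟩)⟩)⟩)⟩)⟩)⟩) (by decide +kernel)

end Cfsg.Agent.Lib.J4E
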