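import Cfsg.Agent.Lib.J4E2

/-! Commutators in the fourth Janko group. -/

set_option autoImplicit false
set_option maxRecDepth 100000
set_option Elab.async false

namespace Cfsg.Agent.Lib.J4E

open Cfsg.Agent.Lib.PermNet Cfsg.Agent.Lib.Words Cfsg.Agent.Lib.MatRep Cfsg.Agent.Lib.DCE Cfsg.Agent.Lib.J4L

def NC2_0 : List (ℕ × ℕ × ℕ) := [(28, 0, 0), (31, 0, 0), (36, 0, 1), (42, 0, 1), (47, 0, 1), (54, 0, 0), (69, 0, 0), (72, 0, 0), (83, 0, 3), (88, 0, 0), (96, 0, 0), (97, 0, 0)]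

theorem nc2_0 : allL (ncP (XK.getD 2 [])) NC2_0 = true := by decide +kernel

def NC2_1 : List (ℕ × ℕ × ℕ) := [(110, 0, 1), (112, 0, 6), (114, 0, 0), (127, 0, 0), (129, 0, 0), (135, 0, 0), (136, 0, 0), (140, 0, 2), (142, 0, 2), (143, 0, 0), (163, 0, 4), (164, 0, 2)]

theorem nc2_1 : allL (ncP (XK.getD 2 [])) NC2_1 = true := by decide +kernel

def NC2_2 : List (ℕ × ℕ × ℕ) := [(168, 0, 1), (184, 0, 4), (192, 0, 0), (194, 0, 1), (210, 0, 0), (214, 0, 1), (237, 0, 0), (255, 0, 1), (259, 0, 0), (267, 0, 3), (269, 0, 1), (279, 0, 1)]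

theorem nc2_2 : allL (ncP (XK.getD 2 [])) NC2_2 = true := by decide +kernel

def NC2_3 : List (ℕ × ℕ × ℕ) := [(282, 0, 0), (284, 0, 0), (289, 0, 2), (290, 0, 0), (308, 0, 2), (311, 0, 0), (327, 0, 0), (329, 0, 3), (331, 0, 0), (340, 0, 1), (377, 0, 1), (380, 0, 10)]

theorem nc2_3 : allL (ncP (XK.getD 2 [])) NC2_3 = true := by decide +kernel

def NC2_4 : List (ℕ × ℕ × ℕ) := [(385, 0, 4), (405, 0, 3), (421, 0, 0), (431, 0, 1), (438, 0, 3), (444, 0, 1), (451, 0, 1), (454, 0, 2), (456, 0, 0), (476, 0, 0), (480, 0, 0), (485, 0, 1)]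

theorem nc2_4 : allL (ncP (XK.getD 2 [])) NC2_4 = true := by decide +kernel

def NC2_5 : List (ℕ × ℕ × ℕ) := [(523, 0, 0), (525, 0, 0), (527, 0, 1), (530, 0, 3), (531, 0, 1), (533, 0, 5), (564, 0, 2), (569, 0, 0), (570, 0, 3), (574, 0, 0), (577, 0, 0), (579, 0, 0)]

theorem nc2_5 : allL (ncP (XK.getD 2 [])) NC2_5 = true := by decide +kernel

def NC2_6 : List (ℕ × ℕ × ℕ) := [(580, 0, 4), (606, 0, 1), (609, 0, 0), (621, 0, 1), (644, 0, 1), (665, 0, 1), (695, 0, 1), (700, 0, 1), (701, 0, 3), (703, 0, 0), (704, 0, 1), (715, 0, 0)]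

theorem nc2_6 : allL (ncP (XK.getD 2 [])) NC2_6 = true := by decide +kernel

def NC2_7 : List (ℕ × ℕ × ℕ) := [(716, 0, 0), (735, 0, 0), (756, 0, 3), (760, 0, 3), (770, 0, 0), (771, 0, 2), (776, 0, 0), (778, 0, 0), (785, 0, 0), (786, 0, 2), (791, 0, 0), (792, 0, 0)]

theorem nc2_7 : allL (ncP (XK.getD 2 [])) NC2_7 = true := by decide +kernel

def NC2_8 : List (ℕ × ℕ × ℕ) := [(795, 0, 0), (798, 0, 1), (813, 0, 2), (817, 0, 0), (820, 0, 0), (822, 0, 0), (834, 0, 0), (835, 0, 0), (855, 0, 6), (857, 0, 0), (876, 0, 1), (887, 0, 1)]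

theorem nc2_8 : allL (ncP (XK.getD 2 [])) NC2_8 = true := by decide +kernel

def NC2_9 : List (ℕ × ℕ × ℕ) := [(897, 0, 0), (898, 0, 1), (903, 0, 2), (904, 0, 2), (907, 0, 2), (910, 0, 0), (914, 0, 0), (917, 0, 2), (920, 0, 2), (924, 0, 6), (938, 0, 0), (950, 0, 1)]

theorem nc2_9 : allL (ncP (XK.getD 2 [])) NC2_9 = true := by decide +kernel

def NC2_10 : List (ℕ × ℕ × ℕ) := [(952, 0, 0), (954, 0, 0), (963, 0, 0), (964, 0, 0), (977, 0, 2), (985, 0, 0), (992, 0, 1), (1000, 0, 3), (1007, 0, 1), (1011, 0, 0), (1015, 0, 0), (1016, 0, 0)]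

theorem nc2_10 : allL (ncP (XK.getD 2 [])) NC2_10 = true := by decide +kernel

def NC2_11 : List (ℕ × ℕ × ℕ) := [(1026, 0, 0), (1029, 0, 1), (1030, 0, 2), (1031, 0, 1), (1035, 0, 2), (1038, 0, 0), (1040, 0, 0), (1043, 0, 1), (1049, 0, 0), (1050, 0, 0), (1068, 0, 0), (1075, 0, 0)]

theorem nc2_11 : allL (ncP (XK.getD 2 [])) NC2_11 = true := by decide +kernel

def NC2_12 : List (ℕ × ℕ × ℕ) := [(1079, 0, 0), (1087, 0, 0), (1094, 0, 0), (1095, 0, 0), (1107, 0, 0), (1108, 0, 0), (1123, 0, 2), (1125, 0, 3), (1131, 0, 0), (1138, 0, 0), (1140, 0, 0), (1145, 0, 1)]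

theorem nc2_12 : allL (ncP (XK.getD 2 [])) NC2_12 = true := by decide +kernel

def NC2_13 : List (ℕ × ℕ × ℕ) := [(1180, 0, 1), (1183, 0, 3), (1186, 0, 4), (1200, 0, 0), (1208, 0, 0), (1213, 0, 0), (1216, 0, 0), (1230, 0, 0), (1237, 0, 0), (1245, 0, 1), (1263, 0, 0), (1277, 0, 0)]

theorem nc2_13 : allL (ncP (XK.getD 2 [])) NC2_13 = true := by decide +kernel

def NC2_14 : List (ℕ × ℕ × ℕ) := [(1285, 0, 0), (1290, 0, 2), (1293, 0, 0), (1298, 0, 2), (1305, 0, 2), (1309, 0, 4), (1317, 0, 0), (1327, 0, 1), (1333, 0, 0), (1343, 0, 0), (1357, 0, 0), (1361, 0, 1)]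

theorem nc2_14 : allL (ncP (XK.getD 2 [])) NC2_14 = true := by decide +kernel

def NC2_15 : List (ℕ × ℕ × ℕ) := [(1364, 0, 0), (1369, 0, 3), (1377, 0, 4), (1383, 0, 0), (1392, 0, 14), (1394, 0, 1), (1398, 0, 0), (1399, 0, 0), (1414, 0, 2), (1426, 0, 0), (1441, 0, 2), (1442, 0, 1)]

theorem nc2_15 : allL (ncP (XK.getD 2 [])) NC2_15 = true := by decide +kernel

def NC2_16 : List (ℕ × ℕ × ℕ) := [(1460, 0, 1), (1463, 0, 1), (1477, 0, 0), (1493, 0, 3), (1496, 0, 1), (1497, 0, 1), (1506, 0, 1), (1511, 0, 0), (1513, 0, 0), (1519, 0, 0), (1521, 0, 0), (1527, 0, 1)]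

theorem nc2_16 : allL (ncP (XK.getD 2 [])) NC2_16 = true := by decide +kernel

def NC2_17 : List (ℕ × ℕ × ℕ) := [(1541, 0, 2), (1544, 0, 0), (1546, 0, 0), (1556, 0, 2), (1557, 0, 0), (1563, 0, 2), (1588, 0, 0), (1589, 0, 0), (1590, 0, 5), (1598, 0, 0), (1607, 0, 3), (1619, 0, 2)]

theorem nc2_17 : allL (ncP (XK.getD 2 [])) NC2_17 = true := by decide +kernel

def NC2_18 : List (ℕ × ℕ × ℕ) := [(1623, 0, 0), (1627, 0, 0), (1634, 0, 2), (1638, 0, 0), (1642, 0, 4), (1645, 0, 3), (1651, 0, 0), (1660, 0, 0), (1674, 0, 3), (1687, 0, 2), (1712, 0, 0), (1715, 0, 0)]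

theorem nc2_18 : allL (ncP (XK.getD 2 [])) NC2_18 = true := by decide +kernel

def NC2_19 : List (ℕ × ℕ × ℕ) := [(1716, 0, 0), (1726, 0, 1), (1734, 0, 0), (1754, 0, 2), (1755, 0, 0), (1759, 0, 2), (1763, 0, 0), (1772, 0, 0), (1780, 0, 1), (1782, 0, 1), (1786, 0, 0), (1787, 0, 0)]

theorem nc2_19 : allL (ncP (XK.getD 2 [])) NC2_19 = true := by decide +kernel

def NC2_20 : List (ℕ × ℕ × ℕ) := [(1799, 0, 0), (1806, 0, 1), (1810, 0, 0), (1814, 0, 0), (1816, 0, 1), (1823, 0, 0), (1828, 0, 6), (1829, 0, 8), (1832, 0, 1), (1847, 0, 2), (1864, 0, 4), (1868, 0, 0)]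

theorem nc2_20 : allL (ncP (XK.getD 2 [])) NC2_20 = true := by decide +kernel

def NC2_21 : List (ℕ × ℕ × ℕ) := [(1877, 0, 1), (1886, 0, 2), (1895, 0, 4), (1916, 0, 0), (1921, 0, 2), (1923, 0, 0), (1930, 0, 0), (1931, 0, 0), (1940, 0, 3), (1949, 0, 2), (1962, 0, 1), (1963, 0, 0)]

theorem nc2_21 : allL (ncP (XK.getD 2 [])) NC2_21 = true := by decide +kernel

def NC2_22 : List (ℕ × ℕ × ℕ) := [(1967, 0, 3), (1968, 0, 0), (1997, 0, 1), (1999, 0, 0), (2006, 0, 1), (2011, 0, 0), (2026, 0, 6), (2027, 0, 8), (2029, 0, 0), (2033, 0, 2), (2035, 0, 0), (2037, 0, 0)]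

theorem nc2_22 : allL (ncP (XK.getD 2 [])) NC2_22 = true := by decide +kernel

theorem nc2 : NcOK (XK.getD 2 []) := ncOK_of [NC2_0, NC2_1, NC2_2, NC2_3, NC2_4, NC2_5, NC2_6, NC2_7, NC2_8, NC2_9, NC2_10, NC2_11, NC2_12, NC2_13, NC2_14, NC2_15, NC2_16, NC2_17, NC2_18, NC2_19, NC2_20, NC2_21, NC2_22]
  (List.forall_mem_cons.2 ⟨nc2_0, (List.forall_mem_cons.2 ⟨nc2_1, (List.forall_mem_cons.2 ⟨nc2_2, (List.forall_mem_cons.2 ⟨nc2_3, (List.forall_mem_cons.2 ⟨nc2_4, (List.forall_mem_cons.2 ⟨nc2_5, (List.forall_mem_cons.2 ⟨nc2_6, (List.forall_mem_cons.2 ⟨nc2_7, (List.forall_mem_cons.2 ⟨nc2_8, (List.forall_mem_cons.2 ⟨nc2_9, (List.forall_mem_cons.2 ⟨nc2_10, (List.forall_mem_cons.2 ⟨nc2_11, (List.forall_mem_cons.2 ⟨nc2_12, (List.forall_mem_cons.2 ⟨nc2_13, (List.forall_mem_cons.2 ⟨nc2_14, (List.forall_mem_cons.2 ⟨nc2_15, (List.forall_mem_cons.2 ⟨nc2_16, (List.forall_mem_cons.2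 ⟨nc2_17, (List.forall_mem_cons.2 ⟨nc2_18, (List.forall_mem_cons.2 ⟨nc2_19, (List.forall_mem_cons.2 ⟨nc2_20, (List.forall_mem_cons.2 ⟨nc2_21, (List.forall_mem_cons.2 ⟨nc2_22, (by simp)⟩)⟩)⟩)⟩)⟩)⟩)⟩)⟩)⟩)⟩)⟩)⟩)⟩)⟩)⟩)⟩)⟩)⟩)⟩)⟩)⟩)⟩)⟩) (by decide +kernel)

def NC4_0 : List (ℕ × ℕ × ℕ) := [(28, 0, 1), (31, 0, 0), (36, 0, 2), (42, 0, 0), (47, 0, 1), (54, 0, 0), (69, 0, 2), (72, 0, 0), (83, 0, 3), (88, 0, 1), (96, 0, 1), (97, 0, 0)]

theorem nc4_0 : allL (ncP (XK.getD 4 [])) NC4_0 = true := by decide +kernel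

def NC4_1 : List (ℕ × ℕ × ℕ) := [(110, 0, 0), (112, 0, 2), (114, 0, 0), (127, 0, 0), (129, 0, 1), (135, 0, 1), (136, 0, 0), (140, 0, 0), (142, 0, 0), (143, 0, 0), (163, 0, 0), (164, 0, 0)]

theorem nc4_1 : allL (ncP (XK.getD 4 [])) NC4_1 = true := by decide +kernel

def NC4_2 : List (ℕ × ℕ × ℕ) := [(168, 0, 0), (184, 0, 0), (192, 0, 1), (194, 0, 1), (210, 0, 1), (214, 0, 1), (237, 0, 0), (255, 0, 3), (259, 0, 0), (267, 0, 1), (269, 0, 0), (279, 0, 2)]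

theorem nc4_2 : allL (ncP (XK.getD 4 [])) NC4_2 = true := by decide +kernel

def NC4_3 : List (ℕ × ℕ × ℕ) := [(282, 0, 1), (284, 0, 1), (289, 0, 1), (290, 0, 1), (308, 0, 1), (311, 0, 0), (327, 0, 2), (329, 0, 0), (331, 0, 0), (340, 0, 4), (377, 0, 0), (380, 0, 0)]

theorem nc4_3 : allL (ncP (XK.getD 4 [])) NC4_3 = true := by decide +kernel

def NC4_4 : List (ℕ × ℕ × ℕ) := [(385, 0, 2), (405, 0, 0), (421, 0, 3), (431, 0, 4), (438, 0, 2), (444, 0, 2), (451, 0, 3), (454, 0, 0), (456, 0, 0), (476, 0, 2), (480, 0, 1), (485, 0, 4)]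

theorem nc4_4 : allL (ncP (XK.getD 4 [])) NC4_4 = true := by decide +kernel

def NC4_5 : List (ℕ × ℕ × ℕ) := [(523, 0, 0), (525, 0, 0), (527, 0, 4), (530, 0, 1), (531, 0, 1), (533, 0, 1), (564, 0, 5), (569, 0, 0), (570, 0, 0), (574, 0, 5), (577, 0, 4), (579, 0, 0)]

theorem nc4_5 : allL (ncP (XK.getD 4 [])) NC4_5 = true := by decide +kernel

def NC4_6 : List (ℕ × ℕ × ℕ) := [(580, 0, 5), (606, 0, 0), (609, 0, 0), (621, 0, 4), (644, 0, 0), (665, 0, 0), (695, 0, 0), (700, 0, 2), (701, 0, 1), (703, 0, 0), (704, 0, 0), (715, 0, 1)]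

theorem nc4_6 : allL (ncP (XK.getD 4 [])) NC4_6 = true := by decide +kernel

def NC4_7 : List (ℕ × ℕ × ℕ) := [(716, 0, 0), (735, 0, 1), (756, 0, 3), (760, 0, 0), (770, 0, 2), (771, 0, 0), (776, 0, 0), (778, 0, 0), (785, 0, 0), (786, 0, 3), (791, 0, 1), (792, 0, 1)]

theorem nc4_7 : allL (ncP (XK.getD 4 [])) NC4_7 = true := by decide +kernel

def NC4_8 : List (ℕ × ℕ × ℕ) := [(795, 0, 0), (798, 0, 0), (813, 0, 0), (817, 0, 4), (820, 0, 0), (822, 0, 0), (834, 0, 0), (835, 0, 1), (855, 0, 1), (857, 0, 3), (876, 0, 0), (887, 0, 3)]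

theorem nc4_8 : allL (ncP (XK.getD 4 [])) NC4_8 = true := by decide +kernel

def NC4_9 : List (ℕ × ℕ × ℕ) := [(897, 0, 0), (898, 0, 0), (903, 0, 1), (904, 0, 0), (907, 0, 2), (910, 0, 1), (914, 0, 2), (917, 0, 1), (920, 0, 0), (924, 0, 0), (938, 0, 5), (950, 0, 0)]

theorem nc4_9 : allL (ncP (XK.getD 4 [])) NC4_9 = true := by decide +kernel

def NC4_10 : List (ℕ × ℕ × ℕ) := [(952, 0, 0), (954, 0, 0), (963, 0, 0), (964, 0, 0), (977, 0, 1), (985, 0, 2), (992, 0, 0), (1000, 0, 1), (1007, 0, 0), (1011, 0, 0), (1015, 0, 1), (1016, 0, 0)]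

theorem nc4_10 : allL (ncP (XK.getD 4 [])) NC4_10 = true := by decide +kernel

def NC4_11 : List (ℕ × ℕ × ℕ) := [(1026, 0, 3), (1029, 0, 1), (1030, 0, 0), (1031, 0, 2), (1035, 0, 0), (1038, 0, 0), (1040, 0, 0), (1043, 0, 1), (1049, 0, 4), (1050, 0, 0), (1068, 0, 0), (1075, 0, 0)]

theorem nc4_11 : allL (ncP (XK.getD 4 [])) NC4_11 = true := by decide +kernel

def NC4_12 : List (ℕ × ℕ × ℕ) := [(1079, 0, 0), (1087, 0, 3), (1094, 0, 1), (1095, 0, 0), (1107, 0, 1), (1108, 0, 0), (1123, 0, 2), (1125, 0, 0), (1131, 0, 1), (1138, 0, 0), (1140, 0, 1), (1145, 0, 3)]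

theorem nc4_12 : allL (ncP (XK.getD 4 [])) NC4_12 = true := by decide +kernel

def NC4_13 : List (ℕ × ℕ × ℕ) := [(1180, 0, 1), (1183, 0, 0), (1186, 0, 0), (1200, 0, 2), (1208, 0, 1), (1213, 0, 0), (1216, 0, 0), (1230, 0, 0), (1237, 0, 2), (1245, 0, 0), (1263, 0, 0), (1277, 0, 2)]

theorem nc4_13 : allL (ncP (XK.getD 4 [])) NC4_13 = true := by decide +kernel

def NC4_14 : List (ℕ × ℕ × ℕ) := [(1285, 0, 1), (1290, 0, 1), (1293, 0, 0), (1298, 0, 1), (1305, 0, 0), (1309, 0, 1), (1317, 0, 0), (1327, 0, 0), (1333, 0, 0), (1343, 0, 0), (1357, 0, 1), (1361, 0, 0)]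

theorem nc4_14 : allL (ncP (XK.getD 4 [])) NC4_14 = true := by decide +kernel

def NC4_15 : List (ℕ × ℕ × ℕ) := [(1364, 0, 0), (1369, 0, 0), (1377, 0, 0), (1383, 0, 0), (1392, 0, 0), (1394, 0, 0), (1398, 0, 0), (1399, 0, 0), (1414, 0, 3), (1426, 0, 1), (1441, 0, 1), (1442, 0, 0)]

theorem nc4_15 : allL (ncP (XK.getD 4 [])) NC4_15 = true := by decide +kernel

def NC4_16 : List (ℕ × ℕ × ℕ) := [(1460, 0, 0), (1463, 0, 0), (1477, 0, 1), (1493, 0, 0), (1496, 0, 0), (1497, 0, 0), (1506, 0, 2), (1511, 0, 0), (1513, 0, 0), (1519, 0, 0), (1521, 0, 0), (1527, 0, 0)]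

theorem nc4_16 : allL (ncP (XK.getD 4 [])) NC4_16 = true := by decide +kernel

def NC4_17 : List (ℕ × ℕ × ℕ) := [(1541, 0, 1), (1544, 0, 0), (1546, 0, 0), (1556, 0, 0), (1557, 0, 1), (1563, 0, 0), (1588, 0, 0), (1589, 0, 0), (1590, 0, 0), (1598, 0, 0), (1607, 0, 2), (1619, 0, 0)]

theorem nc4_17 : allL (ncP (XK.getD 4 [])) NC4_17 = true := by decide +kernel

def NC4_18 : List (ℕ × ℕ × ℕ) := [(1623, 0, 0), (1627, 0, 1), (1634, 0, 1), (1638, 0, 1), (1642, 0, 0), (1645, 0, 0), (1651, 0, 0), (1660, 0, 2), (1674, 0, 1), (1687, 0, 0), (1712, 0, 1), (1715, 0, 3)]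

theorem nc4_18 : allL (ncP (XK.getD 4 [])) NC4_18 = true := by decide +kernel

def NC4_19 : List (ℕ × ℕ × ℕ) := [(1716, 0, 1), (1726, 0, 1), (1734, 0, 0), (1754, 0, 0), (1755, 0, 0), (1759, 0, 1), (1763, 0, 2), (1772, 0, 0), (1780, 0, 0), (1782, 0, 0), (1786, 0, 0), (1787, 0, 0)]

theorem nc4_19 : allL (ncP (XK.getD 4 [])) NC4_19 = true := by decide +kernel

def NC4_20 : List (ℕ × ℕ × ℕ) := [(1799, 0, 0), (1806, 0, 1), (1810, 0, 0), (1814, 0, 0), (1816, 0, 0), (1823, 0, 1), (1828, 0, 2), (1829, 0, 0), (1832, 0, 3), (1847, 0, 1), (1864, 0, 0), (1868, 0, 0)]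

theorem nc4_20 : allL (ncP (XK.getD 4 [])) NC4_20 = true := by decide +kernel

def NC4_21 : List (ℕ × ℕ × ℕ) := [(1877, 0, 2), (1886, 0, 0), (1895, 0, 0), (1916, 0, 1), (1921, 0, 1), (1923, 0, 0), (1930, 0, 0), (1931, 0, 0), (1940, 0, 2), (1949, 0, 1), (1962, 0, 0), (1963, 0, 0)]

theorem nc4_21 : allL (ncP (XK.getD 4 [])) NC4_21 = true := by decide +kernel

def NC4_22 : List (ℕ × ℕ × ℕ) := [(1967, 0, 3), (1968, 0, 0), (1997, 0, 0), (1999, 0, 0), (2006, 0, 3), (2011, 0, 1), (2026, 0, 1), (2027, 0, 0), (2029, 0, 2), (2033, 0, 4), (2035, 0, 0), (2037, 0, 1)]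

theorem nc4_22 : allL (ncP (XK.getD 4 [])) NC4_22 = true := by decide +kernel

theorem nc4 : NcOK (XK.getD 4 []) := ncOK_of [NC4_0, NC4_1, NC4_2, NC4_3, NC4_4, NC4_5, NC4_6, NC4_7, NC4_8, NC4_9, NC4_10, NC4_11, NC4_12, NC4_13, NC4_14, NC4_15, NC4_16, NC4_17, NC4_18, NC4_19, NC4_20, NC4_21, NC4_22]
  (List.forall_mem_cons.2 ⟨nc4_0, (List.forall_mem_cons.2 ⟨nc4_1, (List.forall_mem_cons.2 ⟨nc4_2, (List.forall_mem_cons.2 ⟨nc4_3, (List.forall_mem_cons.2 ⟨nc4_4, (List.forall_mem_cons.2 ⟨nc4_5, (List.forall_mem_cons.2 ⟨nc4_6, (List.forall_mem_cons.2 ⟨nc4_7, (List.forall_mem_cons.2 ⟨nc4_8, (List.forall_mem_cons.2 ⟨nc4_9, (List.forall_mem_cons.2 ⟨nc4_10, (List.forall_mem_cons.2 ⟨nc4_11, (List.forall_mem_cons.2 ⟨nc4_12, (List.forall_mem_cons.2 ⟨nc4_13, (List.forall_mem_cons.2 ⟨nc4_14, (List.forall_mem_cons.2 ⟨nc4_15, (List.forall_mem_cons.2 ⟨nc4_16, (List.forall_mem_cons.2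 ⟨nc4_17, (List.forall_mem_cons.2 ⟨nc4_18, (List.forall_mem_cons.2 ⟨nc4_19, (List.forall_mem_cons.2 ⟨nc4_20, (List.forall_mem_cons.2 ⟨nc4_21, (List.forall_mem_cons.2 ⟨nc4_22, (by simp)⟩)⟩)⟩)⟩)⟩)⟩)⟩)⟩)⟩)⟩)⟩)⟩)⟩)⟩)⟩)⟩)⟩)⟩)⟩)⟩)⟩)⟩)⟩) (by decide +kernel)

end Cfsg.Agent.Lib.J4E
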