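import Cfsg.Agent.Lib.J4E2

/-! Commutators in the fourth Janko group. -/

set_option autoImplicit false
set_option maxRecDepth 100000
set_option Elab.async false

namespace Cfsg.Agent.Lib.J4E

open Cfsg.Agent.Lib.PermNet Cfsg.Agent.Lib.Words Cfsg.Agent.Lib.MatRep Cfsg.Agent.Lib.DCE Cfsg.Agent.Lib.J4L

def NC3_0 : List (ℕ × ℕ × ℕ) := [(28, 0, 0), (31, 0, 4), (36, 0, 2), (42, 0, 1), (47, 0, 3), (54, 0, 0), (69, 0, 4), (72, 0, 1), (83, 0, 2), (88, 0, 0), (96, 0, 1), (97, 0, 1)]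

theorem nc3_0 : allL (ncP (XK.getD 3 [])) NC3_0 = true := by decide +kernel

def NC3_1 : List (ℕ × ℕ × ℕ) := [(110, 0, 0), (112, 0, 8), (114, 0, 2), (127, 0, 0), (129, 0, 3), (135, 0, 0), (136, 0, 1), (140, 0, 0), (142, 0, 0), (143, 0, 0), (163, 0, 7), (164, 0, 2)]

theorem nc3_1 : allL (ncP (XK.getD 3 [])) NC3_1 = true := by decide +kernel

def NC3_2 : List (ℕ × ℕ × ℕ) := [(168, 0, 1), (184, 0, 0), (192, 0, 1), (194, 0, 0), (210, 0, 0), (214, 0, 3), (237, 0, 1), (255, 0, 0), (259, 0, 2), (267, 0, 0), (269, 0, 0), (279, 0, 0)]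

theorem nc3_2 : allL (ncP (XK.getD 3 [])) NC3_2 = true := by decide +kernel

def NC3_3 : List (ℕ × ℕ × ℕ) := [(282, 0, 1), (284, 0, 0), (289, 0, 1), (290, 0, 2), (308, 0, 1), (311, 0, 0), (327, 0, 0), (329, 0, 2), (331, 0, 4), (340, 0, 2), (377, 0, 3), (380, 0, 0)]

theorem nc3_3 : allL (ncP (XK.getD 3 [])) NC3_3 = true := by decide +kernel

def NC3_4 : List (ℕ × ℕ × ℕ) := [(385, 0, 2), (405, 0, 0), (421, 0, 1), (431, 0, 4), (438, 0, 0), (444, 0, 0), (451, 0, 0), (454, 0, 0), (456, 0, 0), (476, 0, 2), (480, 0, 1), (485, 0, 0)]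

theorem nc3_4 : allL (ncP (XK.getD 3 [])) NC3_4 = true := by decide +kernel

def NC3_5 : List (ℕ × ℕ × ℕ) := [(523, 0, 1), (525, 0, 0), (527, 0, 3), (530, 0, 1), (531, 0, 3), (533, 0, 0), (564, 0, 0), (569, 0, 3), (570, 0, 0), (574, 0, 0), (577, 0, 1), (579, 0, 1)]

theorem nc3_5 : allL (ncP (XK.getD 3 [])) NC3_5 = true := by decide +kernel

def NC3_6 : List (ℕ × ℕ × ℕ) := [(580, 0, 0), (606, 0, 0), (609, 0, 0), (621, 0, 0), (644, 0, 0), (665, 0, 2), (695, 0, 4), (700, 0, 1), (701, 0, 1), (703, 0, 1), (704, 0, 0), (715, 0, 1)]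

theorem nc3_6 : allL (ncP (XK.getD 3 [])) NC3_6 = true := by decide +kernel

def NC3_7 : List (ℕ × ℕ × ℕ) := [(716, 0, 1), (735, 0, 2), (756, 0, 3), (760, 0, 0), (770, 0, 2), (771, 0, 0), (776, 0, 2), (778, 0, 0), (785, 0, 1), (786, 0, 1), (791, 0, 0), (792, 0, 0)]

theorem nc3_7 : allL (ncP (XK.getD 3 [])) NC3_7 = true := by decide +kernel

def NC3_8 : List (ℕ × ℕ × ℕ) := [(795, 0, 2), (798, 0, 2), (813, 0, 0), (817, 0, 1), (820, 0, 0), (822, 0, 0), (834, 0, 0), (835, 0, 0), (855, 0, 2), (857, 0, 0), (876, 0, 0), (887, 0, 0)]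

theorem nc3_8 : allL (ncP (XK.getD 3 [])) NC3_8 = true := by decide +kernel

def NC3_9 : List (ℕ × ℕ × ℕ) := [(897, 0, 3), (898, 0, 2), (903, 0, 0), (904, 0, 5), (907, 0, 1), (910, 0, 0), (914, 0, 1), (917, 0, 0), (920, 0, 3), (924, 0, 0), (938, 0, 1), (950, 0, 0)]

theorem nc3_9 : allL (ncP (XK.getD 3 [])) NC3_9 = true := by decide +kernel

def NC3_10 : List (ℕ × ℕ × ℕ) := [(952, 0, 1), (954, 0, 0), (963, 0, 0), (964, 0, 2), (977, 0, 1), (985, 0, 0), (992, 0, 0), (1000, 0, 3), (1007, 0, 0), (1011, 0, 4), (1015, 0, 1), (1016, 0, 0)]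

theorem nc3_10 : allL (ncP (XK.getD 3 [])) NC3_10 = true := by decide +kernel

def NC3_11 : List (ℕ × ℕ × ℕ) := [(1026, 0, 0), (1029, 0, 1), (1030, 0, 0), (1031, 0, 0), (1035, 0, 1), (1038, 0, 0), (1040, 0, 1), (1043, 0, 0), (1049, 0, 1), (1050, 0, 1), (1068, 0, 0), (1075, 0, 0)]

theorem nc3_11 : allL (ncP (XK.getD 3 [])) NC3_11 = true := by decide +kernel

def NC3_12 : List (ℕ × ℕ × ℕ) := [(1079, 0, 2), (1087, 0, 0), (1094, 0, 0), (1095, 0, 1), (1107, 0, 2), (1108, 0, 1), (1123, 0, 1), (1125, 0, 0), (1131, 0, 1), (1138, 0, 1), (1140, 0, 1), (1145, 0, 1)]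

theorem nc3_12 : allL (ncP (XK.getD 3 [])) NC3_12 = true := by decide +kernel

def NC3_13 : List (ℕ × ℕ × ℕ) := [(1180, 0, 1), (1183, 0, 0), (1186, 0, 0), (1200, 0, 0), (1208, 0, 0), (1213, 0, 3), (1216, 0, 1), (1230, 0, 0), (1237, 0, 0), (1245, 0, 1), (1263, 0, 0), (1277, 0, 1)]

theorem nc3_13 : allL (ncP (XK.getD 3 [])) NC3_13 = true := by decide +kernel

def NC3_14 : List (ℕ × ℕ × ℕ) := [(1285, 0, 2), (1290, 0, 1), (1293, 0, 0), (1298, 0, 0), (1305, 0, 0), (1309, 0, 3), (1317, 0, 0), (1327, 0, 0), (1333, 0, 0), (1343, 0, 0), (1357, 0, 1), (1361, 0, 1)]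

theorem nc3_14 : allL (ncP (XK.getD 3 [])) NC3_14 = true := by decide +kernel

def NC3_15 : List (ℕ × ℕ × ℕ) := [(1364, 0, 3), (1369, 0, 0), (1377, 0, 0), (1383, 0, 0), (1392, 0, 0), (1394, 0, 1), (1398, 0, 0), (1399, 0, 0), (1414, 0, 2), (1426, 0, 0), (1441, 0, 1), (1442, 0, 2)]

theorem nc3_15 : allL (ncP (XK.getD 3 [])) NC3_15 = true := by decide +kernel

def NC3_16 : List (ℕ × ℕ × ℕ) := [(1460, 0, 1), (1463, 0, 1), (1477, 0, 0), (1493, 0, 2), (1496, 0, 0), (1497, 0, 3), (1506, 0, 0), (1511, 0, 0), (1513, 0, 2), (1519, 0, 0), (1521, 0, 4), (1527, 0, 0)]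

theorem nc3_16 : allL (ncP (XK.getD 3 [])) NC3_16 = true := by decide +kernel

def NC3_17 : List (ℕ × ℕ × ℕ) := [(1541, 0, 0), (1544, 0, 1), (1546, 0, 4), (1556, 0, 1), (1557, 0, 1), (1563, 0, 2), (1588, 0, 0), (1589, 0, 0), (1590, 0, 0), (1598, 0, 0), (1607, 0, 0), (1619, 0, 0)]

theorem nc3_17 : allL (ncP (XK.getD 3 [])) NC3_17 = true := by decide +kernel

def NC3_18 : List (ℕ × ℕ × ℕ) := [(1623, 0, 4), (1627, 0, 0), (1634, 0, 0), (1638, 0, 1), (1642, 0, 1), (1645, 0, 0), (1651, 0, 1), (1660, 0, 1), (1674, 0, 1), (1687, 0, 1), (1712, 0, 0), (1715, 0, 0)]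

theorem nc3_18 : allL (ncP (XK.getD 3 [])) NC3_18 = true := by decide +kernel

def NC3_19 : List (ℕ × ℕ × ℕ) := [(1716, 0, 4), (1726, 0, 0), (1734, 0, 2), (1754, 0, 0), (1755, 0, 0), (1759, 0, 2), (1763, 0, 0), (1772, 0, 0), (1780, 0, 1), (1782, 0, 2), (1786, 0, 1), (1787, 0, 0)]

theorem nc3_19 : allL (ncP (XK.getD 3 [])) NC3_19 = true := by decide +kernel

def NC3_20 : List (ℕ × ℕ × ℕ) := [(1799, 0, 1), (1806, 0, 1), (1810, 0, 2), (1814, 0, 3), (1816, 0, 2), (1823, 0, 1), (1828, 0, 0), (1829, 0, 0), (1832, 0, 1), (1847, 0, 0), (1864, 0, 3), (1868, 0, 1)]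

theorem nc3_20 : allL (ncP (XK.getD 3 [])) NC3_20 = true := by decide +kernel

def NC3_21 : List (ℕ × ℕ × ℕ) := [(1877, 0, 2), (1886, 0, 0), (1895, 0, 0), (1916, 0, 0), (1921, 0, 3), (1923, 0, 0), (1930, 0, 1), (1931, 0, 2), (1940, 0, 0), (1949, 0, 0), (1962, 0, 3), (1963, 0, 0)]

theorem nc3_21 : allL (ncP (XK.getD 3 [])) NC3_21 = true := by decide +kernel

def NC3_22 : List (ℕ × ℕ × ℕ) := [(1967, 0, 0), (1968, 0, 3), (1997, 0, 0), (1999, 0, 1), (2006, 0, 0), (2011, 0, 1), (2026, 0, 0), (2027, 0, 0), (2029, 0, 2), (2033, 0, 0), (2035, 0, 1), (2037, 0, 0)]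

theorem nc3_22 : allL (ncP (XK.getD 3 [])) NC3_22 = true := by decide +kernel

theorem nc3 : NcOK (XK.getD 3 []) := ncOK_of [NC3_0, NC3_1, NC3_2, NC3_3, NC3_4, NC3_5, NC3_6, NC3_7, NC3_8, NC3_9, NC3_10, NC3_11, NC3_12, NC3_13, NC3_14, NC3_15, NC3_16, NC3_17, NC3_18, NC3_19, NC3_20, NC3_21, NC3_22]
  (List.forall_mem_cons.2 ⟨nc3_0, (List.forall_mem_cons.2 ⟨nc3_1, (List.forall_mem_cons.2 ⟨nc3_2, (List.forall_mem_cons.2 ⟨nc3_3, (List.forall_mem_cons.2 ⟨nc3_4, (List.forall_mem_cons.2 ⟨nc3_5, (List.forall_mem_cons.2 ⟨nc3_6, (List.forall_mem_cons.2 ⟨nc3_7, (List.forall_mem_cons.2 ⟨nc3_8, (List.forall_mem_cons.2 ⟨nc3_9, (List.forall_mem_cons.2 ⟨nc3_10, (List.forall_mem_cons.2 ⟨nc3_11, (List.forall_mem_cons.2 ⟨nc3_12, (List.forall_mem_cons.2 ⟨nc3_13, (List.forall_mem_cons.2 ⟨nc3_14, (List.forall_mem_cons.2 ⟨nc3_15, (List.forall_mem_cons.2 ⟨nc3_16, (List.forall_mem_cons.2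 ⟨nc3_17, (List.forall_mem_cons.2 ⟨nc3_18, (List.forall_mem_cons.2 ⟨nc3_19, (List.forall_mem_cons.2 ⟨nc3_20, (List.forall_mem_cons.2 ⟨nc3_21, (List.forall_mem_cons.2 ⟨nc3_22, (by simp)⟩)⟩)⟩)⟩)⟩)⟩)⟩)⟩)⟩)⟩)⟩)⟩)⟩)⟩)⟩)⟩)⟩)⟩)⟩)⟩)⟩)⟩)⟩) (by decide +kernel)

def NC5_0 : List (ℕ × ℕ × ℕ) := [(28, 0, 0), (31, 0, 1), (36, 0, 0), (42, 0, 0), (47, 0, 1), (54, 0, 3), (69, 0, 7), (72, 0, 1), (83, 0, 0), (88, 0, 0), (96, 0, 1), (97, 0, 0)]

theorem nc5_0 : allL (ncP (XK.getD 5 [])) NC5_0 = true := by decide +kernel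

def NC5_1 : List (ℕ × ℕ × ℕ) := [(110, 0, 0), (112, 0, 1), (114, 0, 1), (127, 0, 0), (129, 0, 0), (135, 0, 0), (136, 0, 3), (140, 0, 0), (142, 0, 0), (143, 0, 0), (163, 0, 2), (164, 0, 0)]

theorem nc5_1 : allL (ncP (XK.getD 5 [])) NC5_1 = true := by decide +kernel

def NC5_2 : List (ℕ × ℕ × ℕ) := [(168, 0, 0), (184, 0, 0), (192, 0, 1), (194, 0, 5), (210, 0, 0), (214, 0, 0), (237, 0, 0), (255, 0, 0), (259, 0, 7), (267, 0, 2), (269, 0, 0), (279, 0, 0)]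

theorem nc5_2 : allL (ncP (XK.getD 5 [])) NC5_2 = true := by decide +kernel

def NC5_3 : List (ℕ × ℕ × ℕ) := [(282, 0, 1), (284, 0, 0), (289, 0, 1), (290, 0, 0), (308, 0, 0), (311, 0, 1), (327, 0, 1), (329, 0, 0), (331, 0, 1), (340, 0, 1), (377, 0, 1), (380, 0, 0)]

theorem nc5_3 : allL (ncP (XK.getD 5 [])) NC5_3 = true := by decide +kernel

def NC5_4 : List (ℕ × ℕ × ℕ) := [(385, 0, 1), (405, 0, 3), (421, 0, 0), (431, 0, 1), (438, 0, 2), (444, 0, 1), (451, 0, 1), (454, 0, 1), (456, 0, 3), (476, 0, 1), (480, 0, 1), (485, 0, 1)]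

theorem nc5_4 : allL (ncP (XK.getD 5 [])) NC5_4 = true := by decide +kernel

def NC5_5 : List (ℕ × ℕ × ℕ) := [(523, 0, 1), (525, 0, 0), (527, 0, 1), (530, 0, 0), (531, 0, 9), (533, 0, 3), (564, 0, 0), (569, 0, 0), (570, 0, 1), (574, 0, 0), (577, 0, 3), (579, 0, 0)]

theorem nc5_5 : allL (ncP (XK.getD 5 [])) NC5_5 = true := by decide +kernel

def NC5_6 : List (ℕ × ℕ × ℕ) := [(580, 0, 1), (606, 0, 2), (609, 0, 2), (621, 0, 0), (644, 0, 0), (665, 0, 0), (695, 0, 0), (700, 0, 0), (701, 0, 1), (703, 0, 1), (704, 0, 1), (715, 0, 0)]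

theorem nc5_6 : allL (ncP (XK.getD 5 [])) NC5_6 = true := by decide +kernel

def NC5_7 : List (ℕ × ℕ × ℕ) := [(716, 0, 0), (735, 0, 4), (756, 0, 2), (760, 0, 0), (770, 0, 0), (771, 0, 1), (776, 0, 0), (778, 0, 3), (785, 0, 0), (786, 0, 2), (791, 0, 0), (792, 0, 0)]

theorem nc5_7 : allL (ncP (XK.getD 5 [])) NC5_7 = true := by decide +kernel

def NC5_8 : List (ℕ × ℕ × ℕ) := [(795, 0, 3), (798, 0, 0), (813, 0, 1), (817, 0, 0), (820, 0, 0), (822, 0, 5), (834, 0, 3), (835, 0, 0), (855, 0, 0), (857, 0, 1), (876, 0, 3), (887, 0, 0)]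

theorem nc5_8 : allL (ncP (XK.getD 5 [])) NC5_8 = true := by decide +kernel

def NC5_9 : List (ℕ × ℕ × ℕ) := [(897, 0, 2), (898, 0, 0), (903, 0, 0), (904, 0, 3), (907, 0, 0), (910, 0, 2), (914, 0, 0), (917, 0, 0), (920, 0, 2), (924, 0, 0), (938, 0, 0), (950, 0, 1)]

theorem nc5_9 : allL (ncP (XK.getD 5 [])) NC5_9 = true := by decide +kernel

def NC5_10 : List (ℕ × ℕ × ℕ) := [(952, 0, 0), (954, 0, 0), (963, 0, 3), (964, 0, 0), (977, 0, 3), (985, 0, 2), (992, 0, 1), (1000, 0, 0), (1007, 0, 0), (1011, 0, 0), (1015, 0, 0), (1016, 0, 0)]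

theorem nc5_10 : allL (ncP (XK.getD 5 [])) NC5_10 = true := by decide +kernel

def NC5_11 : List (ℕ × ℕ × ℕ) := [(1026, 0, 1), (1029, 0, 0), (1030, 0, 0), (1031, 0, 1), (1035, 0, 0), (1038, 0, 1), (1040, 0, 0), (1043, 0, 0), (1049, 0, 7), (1050, 0, 1), (1068, 0, 2), (1075, 0, 1)]

theorem nc5_11 : allL (ncP (XK.getD 5 [])) NC5_11 = true := by decide +kernel

def NC5_12 : List (ℕ × ℕ × ℕ) := [(1079, 0, 0), (1087, 0, 0), (1094, 0, 0), (1095, 0, 0), (1107, 0, 0), (1108, 0, 1), (1123, 0, 0), (1125, 0, 2), (1131, 0, 0), (1138, 0, 0), (1140, 0, 0), (1145, 0, 0)]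

theorem nc5_12 : allL (ncP (XK.getD 5 [])) NC5_12 = true := by decide +kernel

def NC5_13 : List (ℕ × ℕ × ℕ) := [(1180, 0, 2), (1183, 0, 1), (1186, 0, 1), (1200, 0, 1), (1208, 0, 1), (1213, 0, 1), (1216, 0, 0), (1230, 0, 0), (1237, 0, 0), (1245, 0, 1), (1263, 0, 1), (1277, 0, 1)]

theorem nc5_13 : allL (ncP (XK.getD 5 [])) NC5_13 = true := by decide +kernel

def NC5_14 : List (ℕ × ℕ × ℕ) := [(1285, 0, 0), (1290, 0, 0), (1293, 0, 1), (1298, 0, 1), (1305, 0, 0), (1309, 0, 8), (1317, 0, 0), (1327, 0, 0), (1333, 0, 1), (1343, 0, 2), (1357, 0, 4), (1361, 0, 0)]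

theorem nc5_14 : allL (ncP (XK.getD 5 [])) NC5_14 = true := by decide +kernel

def NC5_15 : List (ℕ × ℕ × ℕ) := [(1364, 0, 2), (1369, 0, 0), (1377, 0, 4), (1383, 0, 0), (1392, 0, 0), (1394, 0, 2), (1398, 0, 2), (1399, 0, 4), (1414, 0, 0), (1426, 0, 0), (1441, 0, 5), (1442, 0, 5)]

theorem nc5_15 : allL (ncP (XK.getD 5 [])) NC5_15 = true := by decide +kernel

def NC5_16 : List (ℕ × ℕ × ℕ) := [(1460, 0, 0), (1463, 0, 1), (1477, 0, 0), (1493, 0, 0), (1496, 0, 1), (1497, 0, 1), (1506, 0, 1), (1511, 0, 7), (1513, 0, 0), (1519, 0, 1), (1521, 0, 1), (1527, 0, 0)]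

theorem nc5_16 : allL (ncP (XK.getD 5 [])) NC5_16 = true := by decide +kernel

def NC5_17 : List (ℕ × ℕ × ℕ) := [(1541, 0, 0), (1544, 0, 0), (1546, 0, 0), (1556, 0, 0), (1557, 0, 0), (1563, 0, 0), (1588, 0, 0), (1589, 0, 2), (1590, 0, 3), (1598, 0, 0), (1607, 0, 0), (1619, 0, 0)]

theorem nc5_17 : allL (ncP (XK.getD 5 [])) NC5_17 = true := by decide +kernel

def NC5_18 : List (ℕ × ℕ × ℕ) := [(1623, 0, 0), (1627, 0, 0), (1634, 0, 2), (1638, 0, 0), (1642, 0, 3), (1645, 0, 0), (1651, 0, 0), (1660, 0, 0), (1674, 0, 5), (1687, 0, 0), (1712, 0, 1), (1715, 0, 7)]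

theorem nc5_18 : allL (ncP (XK.getD 5 [])) NC5_18 = true := by decide +kernel

def NC5_19 : List (ℕ × ℕ × ℕ) := [(1716, 0, 0), (1726, 0, 3), (1734, 0, 0), (1754, 0, 0), (1755, 0, 0), (1759, 0, 1), (1763, 0, 1), (1772, 0, 0), (1780, 0, 1), (1782, 0, 0), (1786, 0, 0), (1787, 0, 2)]

theorem nc5_19 : allL (ncP (XK.getD 5 [])) NC5_19 = true := by decide +kernel

def NC5_20 : List (ℕ × ℕ × ℕ) := [(1799, 0, 0), (1806, 0, 0), (1810, 0, 1), (1814, 0, 4), (1816, 0, 0), (1823, 0, 1), (1828, 0, 0), (1829, 0, 0), (1832, 0, 1), (1847, 0, 2), (1864, 0, 1), (1868, 0, 2)]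

theorem nc5_20 : allL (ncP (XK.getD 5 [])) NC5_20 = true := by decide +kernel

def NC5_21 : List (ℕ × ℕ × ℕ) := [(1877, 0, 0), (1886, 0, 1), (1895, 0, 0), (1916, 0, 2), (1921, 0, 4), (1923, 0, 2), (1930, 0, 0), (1931, 0, 2), (1940, 0, 0), (1949, 0, 1), (1962, 0, 2), (1963, 0, 1)]

theorem nc5_21 : allL (ncP (XK.getD 5 [])) NC5_21 = true := by decide +kernel

def NC5_22 : List (ℕ × ℕ × ℕ) := [(1967, 0, 1), (1968, 0, 0), (1997, 0, 0), (1999, 0, 0), (2006, 0, 0), (2011, 0, 0), (2026, 0, 0), (2027, 0, 2), (2029, 0, 1), (2033, 0, 1), (2035, 0, 0), (2037, 0, 1)]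

theorem nc5_22 : allL (ncP (XK.getD 5 [])) NC5_22 = true := by decide +kernel

theorem nc5 : NcOK (XK.getD 5 []) := ncOK_of [NC5_0, NC5_1, NC5_2, NC5_3, NC5_4, NC5_5, NC5_6, NC5_7, NC5_8, NC5_9, NC5_10, NC5_11, NC5_12, NC5_13, NC5_14, NC5_15, NC5_16, NC5_17, NC5_18, NC5_19, NC5_20, NC5_21, NC5_22]
  (List.forall_mem_cons.2 ⟨nc5_0, (List.forall_mem_cons.2 ⟨nc5_1, (List.forall_mem_cons.2 ⟨nc5_2, (List.forall_mem_cons.2 ⟨nc5_3, (List.forall_mem_cons.2 ⟨nc5_4, (List.forall_mem_cons.2 ⟨nc5_5, (List.forall_mem_cons.2 ⟨nc5_6, (List.forall_mem_cons.2 ⟨nc5_7, (List.forall_mem_cons.2 ⟨nc5_8, (List.forall_mem_cons.2 ⟨nc5_9, (List.forall_mem_cons.2 ⟨nc5_10, (List.forall_mem_cons.2 ⟨nc5_11, (List.forall_mem_cons.2 ⟨nc5_12, (List.forall_mem_cons.2 ⟨nc5_13, (List.forall_mem_cons.2 ⟨nc5_14, (List.forall_mem_cons.2 ⟨nc5_15, (List.forall_mem_cons.2 ⟨nc5_16, (List.forall_mem_cons.2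 ⟨nc5_17, (List.forall_mem_cons.2 ⟨nc5_18, (List.forall_mem_cons.2 ⟨nc5_19, (List.forall_mem_cons.2 ⟨nc5_20, (List.forall_mem_cons.2 ⟨nc5_21, (List.forall_mem_cons.2 ⟨nc5_22, (by simp)⟩)⟩)⟩)⟩)⟩)⟩)⟩)⟩)⟩)⟩)⟩)⟩)⟩)⟩)⟩)⟩)⟩)⟩)⟩)⟩)⟩)⟩)⟩) (by decide +kernel)

end Cfsg.Agent.Lib.J4E
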