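import Cfsg.Agent.Lib.J4WT

/-! Certificates. -/

set_option autoImplicit false
set_option maxRecDepth 100000

namespace Cfsg.Agent.Lib.J4W

open Cfsg.Agent.Lib.PermNet Cfsg.Agent.Lib.Words Cfsg.Agent.Lib.PermGroup Cfsg.Agent.Lib.DCE Cfsg.Agent.Lib.PermModel Cfsg.Agent.Lib.BT

/-- The square of the product with a conjugate. -/
def sqc (k : List ℕ) : List ℕ := (1000 :: (k ++ 1000 :: invW k)) ++ (1000 :: (k ++ 1000 :: invW k))

def ke : List (List ℕ) := [[8, 16], [8, 12]]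

def Ue : List (List ℕ) := [[], [23], [21], [21, 23], [19, 19], [19, 19, 23], [19, 19, 21], [19, 19, 21, 23], [13, 17, 9, 19, 17], [13, 17, 9, 19, 17, 23], [13, 17, 9, 19, 17, 21], [13, 17, 9, 19, 17, 21, 23], [13, 17, 9, 18, 17], [13, 17, 9, 18, 17, 23], [13, 17, 9, 18, 17, 21], [13, 17, 9, 18, 17, 21, 23], [15], [15, 23], [15, 21], [15, 21, 23], [15, 19, 19], [15, 19, 19, 23], [15, 19, 19, 21], [15, 19, 19, 21, 23], [15, 13, 17, 9, 19, 17], [15, 13, 17, 9, 19, 17, 23], [15, 13, 17, 9, 19, 17, 21], [15, 13, 17, 9, 19, 17, 21, 23], [15, 13, 17, 9, 18, 17], [15, 13, 17, 9, 18, 17, 23], [15, 13, 17, 9, 18, 17, 21], [15, 13, 17, 9, 18, 17, 21, 23]]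

noncomputable def ts_e : List Tst := [⟨[], [], []⟩,
  ⟨[], [], []⟩,
  ⟨[], [], []⟩,
  ⟨[], [], []⟩,
  ⟨[], [], []⟩]

noncomputable def ct_e : CT := (.node 0 [] [] (nat_lit 0x0) (nd [(4, (nd [(16, (nd [(64, (nd [(256, (lf [(1024, []), (1025, [23])])),
  (257, (lf [(1025, [21]), (1024, [21, 23])]))])),
  (65, (nd [(257, (lf [(1025, [19, 19]), (1024, [19, 19, 23])])),
  (256, (lf [(1024, [19, 19, 21]), (1025, [19, 19, 21, 23])]))]))])),
  (17, (nd [(65, (nd [(256, (lf [(1024, [13, 17, 9, 19, 17]), (1025, [13, 17, 9, 19, 17, 23])])),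
  (257, (lf [(1025, [13, 17, 9, 19, 17, 21]), (1024, [13, 17, 9, 19, 17, 21, 23])]))])),
  (64, (nd [(257, (lf [(1025, [13, 17, 9, 18, 17]), (1024, [13, 17, 9, 18, 17, 23])])),
  (256, (lf [(1024, [13, 17, 9, 18, 17, 21]), (1025, [13, 17, 9, 18, 17, 21, 23])]))]))]))])),
  (5, (nd [(16, (nd [(64, (nd [(256, (lf [(1025, [15]), (1024, [15, 23])])),
  (257, (lf [(1024, [15, 21]), (1025, [15, 21, 23])]))])),
  (65, (nd [(257, (lf [(1024, [15, 19, 19]), (1025, [15, 19, 19, 23])])),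
  (256, (lf [(1025, [15, 19, 19, 21]), (1024, [15, 19, 19, 21, 23])]))]))])),
  (17, (nd [(65, (nd [(256, (lf [(1025, [15, 13, 17, 9, 19, 17]), (1024, [15, 13, 17, 9, 19, 17, 23])])),
  (257, (lf [(1024, [15, 13, 17, 9, 19, 17, 21]), (1025, [15, 13, 17, 9, 19, 17, 21, 23])]))])),
  (64, (nd [(257, (lf [(1024, [15, 13, 17, 9, 18, 17]), (1025, [15, 13, 17, 9, 18, 17, 23])])),
  (256, (lf [(1025, [15, 13, 17, 9, 18, 17, 21]), (1024, [15, 13, 17, 9, 18, 17, 21, 23])]))]))]))]))]) .nil)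

theorem s_e : solveB (nat_lit 12) (nat_lit 4095) wtt (nat_lit 4096) 500 BW (fun _ => true) wch 1 []
    [] [] (prEq 500 [] [] ++ [1000, 1000] :: ke.map sqc) [] [] (memLL Ue) id ts_e ct_e = true := by
  decide +kernel

def kn : List (List ℕ) := [[26, 26], [30]]

def Un : List (List ℕ) := [[], [33], [29, 33, 29], [27, 33, 26], [27, 33, 26, 33], [29, 33, 29, 33], [27, 37, 31, 27], [31, 33, 27, 27, 35], [31, 27, 27, 37], [31, 27, 27, 35], [31, 33, 27, 27, 37], [27, 37, 31, 27, 33], [31, 27, 33, 27, 35], [31, 27, 33, 27, 37], [35, 29, 33, 29, 35], [35, 29, 33, 29, 37]]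

noncomputable def ts_n : List Tst := [⟨[], [], []⟩,
  ⟨[], [], []⟩]

noncomputable def ct_n : CT := (.node 0 [] [] (nat_lit 0x0) (nd [(23, (lf [(36, []), (3876, [33])])),
  (1013, (lf [(2404, [31, 27, 27, 35]), (1636, [31, 27, 27, 37])])),
  (3317, (lf [(996, [27, 33, 26]), (3300, [27, 33, 26, 33])])),
  (3327, (lf [(2692, [29, 33, 29]), (1412, [29, 33, 29, 33])])),
  (3869, (lf [(964, [31, 33, 27, 27, 35]), (3268, [31, 33, 27, 27, 37])])),
  (29, (lf [(1604, [27, 37, 31, 27]), (2372, [27, 37, 31, 27, 33])])),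
  (3863, (lf [(2724, [31, 27, 33, 27, 35]), (1444, [31, 27, 33, 27, 37])])),
  (1023, (lf [(3844, [35, 29, 33, 29, 35]), (4, [35, 29, 33, 29, 37])]))]) .nil)

theorem s_n : solveB (nat_lit 12) (nat_lit 4095) wtt (nat_lit 4096) 500 BW (fun _ => true) wc2 1 []
    [] [] (prEq 500 [] [] ++ [1000, 1000] :: kn.map sqc) [] [] (memLL Un) id ts_n ct_n = true := by
  decide +kernel

def Ub0 : List (List ℕ) := [[], [31, 29, 33], [35, 29, 35], [29, 30, 33], [26, 35, 27], [31, 35, 27, 37], [31, 37, 27, 37], [27, 33, 26], [27, 37, 26], [29, 33, 29], [29, 26, 31, 33], [27, 30, 29, 27, 37], [27, 37, 31, 27, 33], [33, 29, 35, 27, 37], [33, 29, 37, 27, 37], [27, 31, 37, 27, 33], [27, 27, 29, 26, 37], [30, 37, 31, 26, 37], [26, 35, 30, 26, 33], [29, 27, 27, 29, 37], [33, 30, 27, 29], [30, 33, 27, 29], [26, 26, 30, 29, 35], [37, 30, 29, 27, 27], [33, 27, 31, 35, 27], [26, 35, 29, 26, 26, 37], [26, 30, 27,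 29, 26, 35], [27, 33, 27, 29, 26, 37], [27, 37, 27, 29, 26, 37], [30, 35, 29, 33, 26, 37], [29, 35, 27, 33, 29, 37], [30, 27, 29, 35, 29, 37]]

noncomputable def ts_b0 : List Tst := [⟨[], [], []⟩,
  ⟨[], [], []⟩]

noncomputable def ct_b0 : CT := (.node 0 [] [] (nat_lit 0x0) (nd [(23, (lf [(36, [])])),
  (2853, (lf [(2692, [31, 29, 33])])),
  (2111, (lf [(358, [35, 29, 35])])),
  (1037, (lf [(36, [29, 30, 33])])),
  (2101, (lf [(2054, [26, 35, 27])])),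
  (3337, (lf [(36, [31, 35, 27, 37])])),
  (2219, (lf [(2692, [31, 37, 27, 37])])),
  (3317, (lf [(996, [27, 33, 26])])),
  (1031, (lf [(2372, [27, 37, 26])])),
  (3327, (lf [(2692, [29, 33, 29])])),
  (3329, (lf [(2372, [29, 26, 31, 33])])),
  (2863, (lf [(996, [27, 30, 29, 27, 37])])),
  (29, (lf [(2372, [27, 37, 31, 27, 33])])),
  (3635, (lf [(2692, [33, 29, 35, 27, 37])])),
  (305, (lf [(36, [33, 29, 37, 27, 37])])),
  (3109, (lf [(358, [27, 31, 37, 27, 33])])),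
  (2537, (lf [(3014, [27, 27, 29, 26, 37])])),
  (2211, (lf [(996, [30, 37, 31, 26, 37])])),
  (2669, (lf [(678, [26, 35, 30, 26, 33])])),
  (3119, (lf [(2054, [29, 27, 27, 29, 37])])),
  (313, (lf [(2372, [33, 30, 27, 29])])),
  (3643, (lf [(996, [30, 33, 27, 29])])),
  (3517, (lf [(3014, [26, 26, 30, 29, 35])])),
  (3511, (lf [(678, [37, 30, 29, 27, 27])])),
  (2663, (lf [(3014, [33, 27, 31, 35, 27])])),
  (1323, (lf [(2054, [26, 35, 29, 26, 26, 37])])),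
  (2323, (lf [(2054, [26, 30, 27, 29, 26, 35])])),
  (1315, (lf [(358, [27, 33, 27, 29, 26, 37])])),
  (3961, (lf [(678, [27, 37, 27, 29, 26, 37])])),
  (2529, (lf [(678, [30, 35, 29, 33, 26, 37])])),
  (2331, (lf [(358, [29, 35, 27, 33, 29, 37])])),
  (3953, (lf [(3014, [30, 27, 29, 35, 29, 37])]))]) .nil)

theorem s_b0 : solveB (nat_lit 12) (nat_lit 4095) wtt (nat_lit 4096) 500 BW (fun _ => true) wc2 1 []
    [[1, 5, 1, 8, 0, 4, 0]] [[1, 5, 1, 8, 0, 4, 0]] (prEq 500 [[1, 5, 1, 8, 0, 4, 0]] [[1, 5, 1, 8, 0, 4, 0]] ++ []) [] [] (memLL Ub0) id ts_b0 ct_b0 = true := by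
  decide +kernel

def Ub1 : List (List ℕ) := [[], [31, 29, 33], [35, 29, 35], [29, 30, 33], [26, 35, 27], [31, 35, 27, 37], [31, 37, 27, 37], [27, 33, 26], [27, 37, 26], [29, 33, 29], [29, 26, 31, 33], [27, 30, 29, 27, 37], [27, 37, 31, 27, 33], [33, 29, 35, 27, 37], [33, 29, 37, 27, 37], [27, 31, 37, 27, 33], [27, 27, 29, 26, 37], [30, 37, 31, 26, 37], [26, 35, 30, 26, 33], [29, 27, 27, 29, 37], [33, 30, 27, 29], [30, 33, 27, 29], [26, 26, 30, 29, 35], [37, 30, 29, 27, 27], [33, 27, 31, 35, 27], [26, 35, 29, 26, 26, 37], [26, 30, 27, 29, 26, 35], [27, 33, 27, 29, 26, 37], [27, 37, 27, 29, 26, 37], [30, 35, 29, 33, 26, 37], [29, 35, 27, 33, 29, 37], [30, 27, 29, 35, 29, 37]]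

noncomputable def ts_b1 : List Tst := [⟨[], [], []⟩,
  ⟨[], [], []⟩]

noncomputable def ct_b1 : CT := (.node 0 [] [] (nat_lit 0x0) (nd [(23, (lf [(36, [])])),
  (2853, (lf [(2692, [31, 29, 33])])),
  (2111, (lf [(358, [35, 29, 35])])),
  (1037, (lf [(36, [29, 30, 33])])),
  (2101, (lf [(2054, [26, 35, 27])])),
  (3337, (lf [(36, [31, 35, 27, 37])])),
  (2219, (lf [(2692, [31, 37, 27, 37])])),
  (3317, (lf [(996, [27, 33, 26])])),
  (1031, (lf [(2372, [27, 37, 26])])),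
  (3327, (lf [(2692, [29, 33, 29])])),
  (3329, (lf [(2372, [29, 26, 31, 33])])),
  (2863, (lf [(996, [27, 30, 29, 27, 37])])),
  (29, (lf [(2372, [27, 37, 31, 27, 33])])),
  (3635, (lf [(2692, [33, 29, 35, 27, 37])])),
  (305, (lf [(36, [33, 29, 37, 27, 37])])),
  (3109, (lf [(358, [27, 31, 37, 27, 33])])),
  (2537, (lf [(3014, [27, 27, 29, 26, 37])])),
  (2211, (lf [(996, [30, 37, 31, 26, 37])])),
  (2669, (lf [(678, [26, 35, 30, 26, 33])])),
  (3119, (lf [(2054, [29, 27, 27, 29, 37])])),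
  (313, (lf [(2372, [33, 30, 27, 29])])),
  (3643, (lf [(996, [30, 33, 27, 29])])),
  (3517, (lf [(3014, [26, 26, 30, 29, 35])])),
  (3511, (lf [(678, [37, 30, 29, 27, 27])])),
  (2663, (lf [(3014, [33, 27, 31, 35, 27])])),
  (1323, (lf [(2054, [26, 35, 29, 26, 26, 37])])),
  (2323, (lf [(2054, [26, 30, 27, 29, 26, 35])])),
  (1315, (lf [(358, [27, 33, 27, 29, 26, 37])])),
  (3961, (lf [(678, [27, 37, 27, 29, 26, 37])])),
  (2529, (lf [(678, [30, 35, 29, 33, 26, 37])])),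
  (2331, (lf [(358, [29, 35, 27, 33, 29, 37])])),
  (3953, (lf [(3014, [30, 27, 29, 35, 29, 37])]))]) .nil)

theorem s_b1 : solveB (nat_lit 12) (nat_lit 4095) wtt (nat_lit 4096) 500 BW (fun _ => true) wc2 1 []
    [[5, 0, 8, 1, 4]] [[5, 0, 8, 1, 4]] (prEq 500 [[5, 0, 8, 1, 4]] [[5, 0, 8, 1, 4]] ++ []) [] [] (memLL Ub1) id ts_b1 ct_b1 = true := by
  decide +kernel

def Ub2 : List (List ℕ) := [[], [33, 29, 33], [31, 27, 27, 35], [35, 31, 29, 37], [37, 31, 29, 35], [26, 35, 29, 35], [26, 37, 29, 35], [26, 35, 30, 37], [26, 37, 30, 37], [30, 29, 27, 27, 37], [27, 37, 31, 27], [30, 37, 30, 27], [37, 26, 35, 27, 37], [35, 29, 35, 27], [31, 27, 37, 27, 35], [27, 29, 26, 26, 37], [26, 31, 26, 26, 33], [30, 27, 29, 26, 35], [27, 37, 29, 26, 37], [31, 26, 31, 26, 35], [26, 29, 31, 26, 37], [35, 29, 33, 29, 35], [31, 35, 27, 31, 33], [37, 29, 26, 31, 35], [29, 37, 29, 27, 27], [29, 26, 35, 27, 27,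 33], [31, 29, 35, 29, 27, 37], [29, 30, 37, 29, 27, 35], [27, 29, 26, 31, 27, 35], [26, 29, 37, 30, 27, 35], [31, 29, 37, 30, 27, 33], [27, 27, 29, 35, 27, 37]]

noncomputable def ts_b2 : List Tst := [⟨[], [], []⟩,
  ⟨[], [], []⟩]

noncomputable def ct_b2 : CT := (.node 0 [] [] (nat_lit 0x0) (nd [(23, (lf [(36, [])])),
  (1839, (lf [(1820, [33, 29, 33])])),
  (1013, (lf [(2404, [31, 27, 27, 35])])),
  (269, (lf [(2404, [35, 31, 29, 37])])),
  (2981, (lf [(1604, [37, 31, 29, 35])])),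
  (1971, (lf [(2724, [26, 35, 29, 35])])),
  (1945, (lf [(996, [26, 37, 29, 35])])),
  (433, (lf [(3268, [26, 35, 30, 37])])),
  (3771, (lf [(1412, [26, 37, 30, 37])])),
  (679, (lf [(3676, [30, 29, 27, 27, 37])])),
  (29, (lf [(1604, [27, 37, 31, 27])])),
  (1979, (lf [(3268, [30, 37, 30, 27])])),
  (1829, (lf [(380, [37, 26, 35, 27, 37])])),
  (3763, (lf [(996, [35, 29, 35, 27])])),
  (685, (lf [(2108, [31, 27, 37, 27, 35])])),
  (1769, (lf [(3070, [27, 29, 26, 26, 37])])),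
  (441, (lf [(2724, [26, 31, 26, 26, 33])])),
  (2807, (lf [(380, [30, 27, 29, 26, 35])])),
  (263, (lf [(3844, [27, 37, 29, 26, 37])])),
  (1599, (lf [(2108, [31, 26, 31, 26, 35])])),
  (2991, (lf [(36, [26, 29, 31, 26, 37])])),
  (1023, (lf [(3844, [35, 29, 33, 29, 35])])),
  (163, (lf [(1246, [31, 35, 27, 31, 33])])),
  (1937, (lf [(1412, [37, 29, 26, 31, 35])])),
  (1589, (lf [(3676, [29, 37, 29, 27, 27])])),
  (1761, (lf [(3486, [29, 26, 35, 27, 27, 33])])),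
  (4073, (lf [(702, [31, 29, 35, 29, 27, 37])])),
  (1675, (lf [(3070, [29, 30, 37, 29, 27, 35])])),
  (4065, (lf [(1246, [27, 29, 26, 31, 27, 35])])),
  (2813, (lf [(1820, [26, 29, 37, 30, 27, 35])])),
  (1667, (lf [(3486, [31, 29, 37, 30, 27, 33])])),
  (171, (lf [(702, [27, 27, 29, 35, 27, 37])]))]) .nil)

theorem s_b2 : solveB (nat_lit 12) (nat_lit 4095) wtt (nat_lit 4096) 500 BW (fun _ => true) wc2 1 []
    [[10, 2, 0, 8, 1, 3, 11]] [[10, 2, 0, 8, 1, 3, 11]] (prEq 500 [[10, 2, 0, 8, 1, 3, 11]] [[10, 2, 0, 8, 1, 3, 11]] ++ []) [] [] (memLL Ub2) id ts_b2 ct_b2 = true := by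
  decide +kernel

def Ub3 : List (List ℕ) := [[], [31, 29, 33], [35, 29, 35], [29, 30, 33], [26, 35, 27], [31, 35, 27, 37], [31, 37, 27, 37], [27, 33, 26], [27, 37, 26], [29, 33, 29], [29, 26, 31, 33], [27, 30, 29, 27, 37], [27, 37, 31, 27, 33], [33, 29, 35, 27, 37], [33, 29, 37, 27, 37], [27, 31, 37, 27, 33], [27, 27, 29, 26, 37], [30, 37, 31, 26, 37], [26, 35, 30, 26, 33], [29, 27, 27, 29, 37], [33, 30, 27, 29], [30, 33, 27, 29], [26, 26, 30, 29, 35], [37, 30, 29, 27, 27], [33, 27, 31, 35, 27], [26, 35, 29, 26, 26, 37], [26, 30, 27, 29, 26, 35], [27, 33, 27, 29, 26, 37], [27, 37, 27, 29, 26, 37], [30, 35, 29, 33, 26, 37], [29, 35, 27, 33, 29, 37], [30, 27, 29, 35, 29, 37]]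

noncomputable def ts_b3 : List Tst := [⟨[], [], []⟩,
  ⟨[], [], []⟩]

noncomputable def ct_b3 : CT := (.node 0 [] [] (nat_lit 0x0) (nd [(23, (lf [(36, [])])),
  (2853, (lf [(2692, [31, 29, 33])])),
  (2111, (lf [(358, [35, 29, 35])])),
  (1037, (lf [(36, [29, 30, 33])])),
  (2101, (lf [(2054, [26, 35, 27])])),
  (3337, (lf [(36, [31, 35, 27, 37])])),
  (2219, (lf [(2692, [31, 37, 27, 37])])),
  (3317, (lf [(996, [27, 33, 26])])),
  (1031, (lf [(2372, [27, 37, 26])])),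
  (3327, (lf [(2692, [29, 33, 29])])),
  (3329, (lf [(2372, [29, 26, 31, 33])])),
  (2863, (lf [(996, [27, 30, 29, 27, 37])])),
  (29, (lf [(2372, [27, 37, 31, 27, 33])])),
  (3635, (lf [(2692, [33, 29, 35, 27, 37])])),
  (305, (lf [(36, [33, 29, 37, 27, 37])])),
  (3109, (lf [(358, [27, 31, 37, 27, 33])])),
  (2537, (lf [(3014, [27, 27, 29, 26, 37])])),
  (2211, (lf [(996, [30, 37, 31, 26, 37])])),
  (2669, (lf [(678, [26, 35, 30, 26, 33])])),
  (3119, (lf [(2054, [29, 27, 27, 29, 37])])),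
  (313, (lf [(2372, [33, 30, 27, 29])])),
  (3643, (lf [(996, [30, 33, 27, 29])])),
  (3517, (lf [(3014, [26, 26, 30, 29, 35])])),
  (3511, (lf [(678, [37, 30, 29, 27, 27])])),
  (2663, (lf [(3014, [33, 27, 31, 35, 27])])),
  (1323, (lf [(2054, [26, 35, 29, 26, 26, 37])])),
  (2323, (lf [(2054, [26, 30, 27, 29, 26, 35])])),
  (1315, (lf [(358, [27, 33, 27, 29, 26, 37])])),
  (3961, (lf [(678, [27, 37, 27, 29, 26, 37])])),
  (2529, (lf [(678, [30, 35, 29, 33, 26, 37])])),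
  (2331, (lf [(358, [29, 35, 27, 33, 29, 37])])),
  (3953, (lf [(3014, [30, 27, 29, 35, 29, 37])]))]) .nil)

theorem s_b3 : solveB (nat_lit 12) (nat_lit 4095) wtt (nat_lit 4096) 500 BW (fun _ => true) wc2 1 []
    [[5, 0, 8, 1, 4]] [[5, 0, 8, 1, 4]] (prEq 500 [[5, 0, 8, 1, 4]] [[5, 0, 8, 1, 4]] ++ []) [] [] (memLL Ub3) id ts_b3 ct_b3 = true := by
  decide +kernel

def Ub4 : List (List ℕ) := [[], [33], [29], [29, 33], [31], [31, 33], [30], [30, 33], [31, 29], [31, 29, 33], [30, 29], [30, 29, 33], [33, 29], [33, 29, 33], [33, 31], [33, 31, 33], [29, 30], [29, 30, 33], [33, 30], [33, 30, 33], [26, 29, 27], [26, 29, 27, 33], [27, 33, 26], [27, 33, 26, 33], [27, 37, 26], [27, 37, 26, 33], [29, 33, 29], [29, 33, 29, 33], [27, 30, 29, 27, 35], [27, 30, 29, 27, 37], [27, 37, 31, 27], [27, 37, 31, 27, 33], [26, 33, 30, 27, 35], [26, 33, 30, 27, 37], [35, 26, 35, 27, 35], [35, 26, 35, 27, 37], [37,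 26, 35, 27, 35], [37, 26, 35, 27, 37], [35, 31, 26, 26, 35], [35, 31, 26, 26, 37], [37, 31, 26, 26, 35], [37, 31, 26, 26, 37], [27, 27, 29, 26, 35], [27, 27, 29, 26, 37], [31, 27, 33, 26], [31, 27, 33, 26, 33], [35, 29, 33, 26, 35], [35, 29, 33, 26, 37], [37, 29, 33, 26, 35], [37, 29, 33, 26, 37], [26, 31, 35, 26, 35], [26, 31, 35, 26, 37], [27, 37, 26, 29], [27, 37, 26, 29, 33], [35, 27, 33, 29, 35], [35, 27, 33, 29, 37], [37, 27, 33, 29, 35], [37, 27, 33, 29, 37], [27, 29, 35, 29, 35], [27, 29, 35, 29, 37], [26, 31, 37, 29, 35], [26, 31, 37, 29, 37], [27, 30, 37, 29, 35], [27, 30, 37, 29, 37], [26, 35, 29, 27, 27], [26, 35, 29, 27, 27, 33], [26, 37, 27, 29, 27, 35], [26, 37, 27, 29, 27, 37], [35, 29, 37, 29, 27, 35], [35, 29, 37, 29, 27, 37], [26, 37, 27, 30, 27], [26, 37, 27, 30, 27, 33], [27, 29, 26, 35, 27], [27, 29, 26, 35, 27, 33], [26, 26, 29, 35, 27], [26, 26, 29, 35, 27, 33], [26,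 35, 29, 26, 26, 35], [26, 35, 29, 26, 26, 37], [26, 30, 27, 29, 26, 35], [26, 30, 27, 29, 26, 37], [27, 33, 27, 29, 26, 35], [27, 33, 27, 29, 26, 37], [27, 37, 27, 29, 26, 35], [27, 37, 27, 29, 26, 37], [26, 37, 27, 31, 26], [26, 37, 27, 31, 26, 33], [29, 35, 29, 33, 26, 35], [29, 35, 29, 33, 26, 37], [30, 35, 29, 33, 26, 35], [30, 35, 29, 33, 26, 37], [29, 35, 27, 33, 29, 35], [29, 35, 27, 33, 29, 37], [30, 27, 29, 35, 29, 35], [30, 27, 29, 35, 29, 37], [29, 26, 35, 29, 27, 27], [29, 26, 35, 29, 27, 27, 33]]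

noncomputable def ts_b4 : List Tst := [⟨[], [], []⟩,
  ⟨[], [], []⟩]

noncomputable def ct_b4 : CT := (.node 0 [] [] (nat_lit 0x0) (nd [(23, (lf [(36, []), (3876, [33])])),
  (1253, (lf [(3486, [29]), (3030, [29, 33])])),
  (3663, (lf [(2662, [31]), (4078, [31, 33])])),
  (3397, (lf [(1820, [30]), (3486, [30, 33])])),
  (2853, (lf [(3876, [31, 29]), (2692, [31, 29, 33])])),
  (3287, (lf [(4078, [30, 29]), (3084, [30, 29, 33])])),
  (1839, (lf [(340, [33, 29]), (1820, [33, 29, 33])])),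
  (3461, (lf [(2436, [33, 31]), (3084, [33, 31, 33])])),
  (1037, (lf [(1412, [29, 30]), (36, [29, 30, 33])])),
  (621, (lf [(3030, [33, 30]), (340, [33, 30, 33])])),
  (63, (lf [(2436, [26, 29, 27]), (2662, [26, 29, 27, 33])])),
  (3317, (lf [(996, [27, 33, 26]), (3300, [27, 33, 26, 33])])),
  (1031, (lf [(2372, [27, 37, 26]), (3300, [27, 37, 26, 33])])),
  (3327, (lf [(2692, [29, 33, 29]), (1412, [29, 33, 29, 33])])),
  (2863, (lf [(1604, [27, 30, 29, 27, 35]), (996, [27, 30, 29, 27, 37])])),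
  (29, (lf [(1604, [27, 37, 31, 27]), (2372, [27, 37, 31, 27, 33])])),
  (3293, (lf [(1702, [26, 33, 30, 27, 35]), (1348, [26, 33, 30, 27, 37])])),
  (1263, (lf [(3070, [35, 26, 35, 27, 35]), (3510, [35, 26, 35, 27, 37])])),
  (1829, (lf [(1844, [37, 26, 35, 27, 35]), (380, [37, 26, 35, 27, 37])])),
  (3407, (lf [(1844, [35, 31, 26, 26, 35]), (3510, [35, 31, 26, 26, 37])])),
  (615, (lf [(3070, [37, 31, 26, 26, 35]), (380, [37, 31, 26, 26, 37])])),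
  (2537, (lf [(3468, [27, 27, 29, 26, 35]), (3014, [27, 27, 29, 26, 37])])),
  (3471, (lf [(1348, [31, 27, 33, 26]), (204, [31, 27, 33, 26, 33])])),
  (403, (lf [(2542, [35, 29, 33, 26, 35]), (3148, [35, 29, 33, 26, 37])])),
  (2875, (lf [(878, [37, 29, 33, 26, 35]), (1740, [37, 29, 33, 26, 37])])),
  (53, (lf [(204, [26, 31, 35, 26, 35]), (814, [26, 31, 35, 26, 37])])),
  (3653, (lf [(814, [27, 37, 26, 29]), (1702, [27, 37, 26, 29, 33])])),
  (83, (lf [(3926, [35, 27, 33, 29, 35]), (3254, [35, 27, 33, 29, 37])])),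
  (1585, (lf [(948, [37, 27, 33, 29, 35]), (84, [37, 27, 33, 29, 37])])),
  (2497, (lf [(3972, [27, 29, 35, 29, 35]), (1284, [27, 29, 35, 29, 37])])),
  (2299, (lf [(3230, [26, 31, 37, 29, 35]), (924, [26, 31, 37, 29, 37])])),
  (2867, (lf [(3972, [27, 30, 37, 29, 35]), (2598, [27, 30, 37, 29, 37])])),
  (411, (lf [(1284, [26, 35, 29, 27, 27]), (166, [26, 35, 29, 27, 27, 33])])),
  (2291, (lf [(3254, [26, 37, 27, 29, 27, 35]), (948, [26, 37, 27, 29, 27, 37])])),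
  (603, (lf [(84, [35, 29, 37, 29, 27, 35]), (3926, [35, 29, 37, 29, 27, 37])])),
  (595, (lf [(124, [26, 37, 27, 30, 27]), (3966, [26, 37, 27, 30, 27, 33])])),
  (2505, (lf [(1740, [27, 29, 26, 35, 27]), (3148, [27, 29, 26, 35, 27, 33])])),
  (1593, (lf [(124, [26, 26, 29, 35, 27]), (924, [26, 26, 29, 35, 27, 33])])),
  (1323, (lf [(3660, [26, 35, 29, 26, 26, 35]), (2054, [26, 35, 29, 26, 26, 37])])),
  (2323, (lf [(2054, [26, 30, 27, 29, 26, 35]), (3468, [26, 30, 27, 29, 26, 37])])),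
  (1315, (lf [(1836, [27, 33, 27, 29, 26, 35]), (358, [27, 33, 27, 29, 26, 37])])),
  (3961, (lf [(1836, [27, 37, 27, 29, 26, 35]), (678, [27, 37, 27, 29, 26, 37])])),
  (91, (lf [(3966, [26, 37, 27, 31, 26]), (3230, [26, 37, 27, 31, 26, 33])])),
  (1291, (lf [(2542, [29, 35, 29, 33, 26, 35]), (878, [29, 35, 29, 33, 26, 37])])),
  (2529, (lf [(1260, [30, 35, 29, 33, 26, 35]), (678, [30, 35, 29, 33, 26, 37])])),
  (2331, (lf [(1260, [29, 35, 27, 33, 29, 35]), (358, [29, 35, 27, 33, 29, 37])])),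
  (3953, (lf [(3660, [30, 27, 29, 35, 29, 35]), (3014, [30, 27, 29, 35, 29, 37])])),
  (1283, (lf [(2598, [29, 26, 35, 29, 27, 27]), (166, [29, 26, 35, 29, 27, 27, 33])]))]) .nil)

theorem s_b4 : solveB (nat_lit 12) (nat_lit 4095) wtt (nat_lit 4096) 500 BW (fun _ => true) wc2 1 []
    [[5, 1, 2, 0, 2, 4, 3, 0, 4]] [[5, 1, 2, 0, 2, 4, 3, 0, 4]] (prEq 500 [[5, 1, 2, 0, 2, 4, 3, 0, 4]] [[5, 1, 2, 0, 2, 4, 3, 0, 4]] ++ []) [] [] (memLL Ub4) id ts_b4 ct_b4 = true := by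
  decide +kernel

def Ub5 : List (List ℕ) := [[], [33], [31, 29], [31, 29, 33], [29, 30], [29, 30, 33], [27, 33, 26], [27, 33, 26, 33], [27, 37, 26], [27, 37, 26, 33], [29, 33, 29], [29, 33, 29, 33], [27, 30, 29, 27, 35], [27, 30, 29, 27, 37], [27, 37, 31, 27], [27, 37, 31, 27, 33], [27, 27, 29, 26, 35], [27, 27, 29, 26, 37], [26, 35, 29, 26, 26, 35], [26, 35, 29, 26, 26, 37], [26, 30, 27, 29, 26, 35], [26, 30, 27, 29, 26, 37], [27, 33, 27, 29, 26, 35], [27, 33, 27, 29, 26, 37], [27, 37, 27, 29, 26, 35], [27, 37, 27, 29, 26, 37], [30, 35, 29, 33, 26, 35], [30, 35, 29, 33, 26, 37], [29, 35, 27, 33, 29, 35], [29, 35, 27, 33, 29, 37], [30, 27, 29, 35, 29, 35], [30, 27, 29, 35, 29, 37]]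

noncomputable def ts_b5 : List Tst := [⟨[], [], []⟩,
  ⟨[], [], []⟩]

noncomputable def ct_b5 : CT := (.node 0 [] [] (nat_lit 0x0) (nd [(23, (lf [(36, []), (3876, [33])])),
  (2853, (lf [(3876, [31, 29]), (2692, [31, 29, 33])])),
  (1037, (lf [(1412, [29, 30]), (36, [29, 30, 33])])),
  (3317, (lf [(996, [27, 33, 26]), (3300, [27, 33, 26, 33])])),
  (1031, (lf [(2372, [27, 37, 26]), (3300, [27, 37, 26, 33])])),
  (3327, (lf [(2692, [29, 33, 29]), (1412, [29, 33, 29, 33])])),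
  (2863, (lf [(1604, [27, 30, 29, 27, 35]), (996, [27, 30, 29, 27, 37])])),
  (29, (lf [(1604, [27, 37, 31, 27]), (2372, [27, 37, 31, 27, 33])])),
  (2537, (lf [(3468, [27, 27, 29, 26, 35]), (3014, [27, 27, 29, 26, 37])])),
  (1323, (lf [(3660, [26, 35, 29, 26, 26, 35]), (2054, [26, 35, 29, 26, 26, 37])])),
  (2323, (lf [(2054, [26, 30, 27, 29, 26, 35]), (3468, [26, 30, 27, 29, 26, 37])])),
  (1315, (lf [(1836, [27, 33, 27, 29, 26, 35]), (358, [27, 33, 27, 29, 26, 37])])),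
  (3961, (lf [(1836, [27, 37, 27, 29, 26, 35]), (678, [27, 37, 27, 29, 26, 37])])),
  (2529, (lf [(1260, [30, 35, 29, 33, 26, 35]), (678, [30, 35, 29, 33, 26, 37])])),
  (2331, (lf [(1260, [29, 35, 27, 33, 29, 35]), (358, [29, 35, 27, 33, 29, 37])])),
  (3953, (lf [(3660, [30, 27, 29, 35, 29, 35]), (3014, [30, 27, 29, 35, 29, 37])]))]) .nil)

theorem s_b5 : solveB (nat_lit 12) (nat_lit 4095) wtt (nat_lit 4096) 500 BW (fun _ => true) wc2 1 []
    [[0, 5, 0, 0, 2, 8, 4, 8, 1, 4, 1]] [[0, 5, 0, 0, 2, 8, 4, 8, 1, 4, 1]] (prEq 500 [[0, 5, 0, 0, 2, 8, 4, 8, 1, 4, 1]] [[0, 5, 0, 0, 2, 8, 4, 8, 1, 4, 1]] ++ []) [] [] (memLL Ub5) id ts_b5 ct_b5 = true := by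
  decide +kernel



end Cfsg.Agent.Lib.J4W
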