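import Cfsg.Agent.Lib.J4W
import Cfsg.Agent.Lib.J4WC2
import Cfsg.Agent.Lib.BT7
import Cfsg.Agent.Lib.ZStar

/-! Fusion of the central involution of `2 ^ (1 + 12) . 3 M₂₂ . 2`. -/

set_option autoImplicit false
set_option maxRecDepth 100000

namespace Cfsg.Agent.Lib.J4W

open Subgroup Cfsg.Agent.Lib.PermNet Cfsg.Agent.Lib.Words Cfsg.Agent.Lib.PermGroup Cfsg.Agent.Lib.DCE
  Cfsg.Agent.Lib.BT Cfsg.Agent.Lib.J4Defs Cfsg.Agent.Lib.J4Fq
open Cfsg.Agent.Lib.ThCl (Md)

variable {G : Type*} [Group G] {z : G} {Q : Subgroup G} {n f : ℕ → G} {g k x y : G}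

/-- The conjugate of `Q`. -/
def Qg (Q : Subgroup G) (g : G) : Subgroup G := Q.comap (MulAut.conj g).symm.toMonoidHom

theorem mem_Qg : x ∈ Qg Q g ↔ g⁻¹ * x * g ∈ Q := Iff.rfl

/-- The part of the conjugate that centralises `z`. -/
abbrev Xg (z : G) (Q : Subgroup G) (g : G) : Subgroup G := centralizer {z} ⊓ Qg Q g

theorem mem_of_comm (h : x * (g * z * g⁻¹) = g * z * g⁻¹ * x) : g⁻¹ * x * g ∈ centralizer ({z} : Set G) :=
  mem_centralizer_singleton_iff.2 (by
    calc _ = g⁻¹ * (x * (g * z * g⁻¹)) * g := by group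
      _ = _ := by rw [h]; group)

theorem cardX [Finite G] : Nat.card ↥(Q ⊓ centralizer {g⁻¹ * z * g}) ≤ Nat.card (Xg z Q g) :=
  card_conj (g := g) fun x hx => ⟨by
    simpa using mem_of_comm (g := g⁻¹) (z := z) (by simpa using mem_centralizer_singleton_iff.1 hx.2),
    mem_Qg.2 (by simpa [mul_assoc] using hx.1)⟩

section
variable (h : Hyp z Q)
include h

theorem norg (hk : k * (g * z * g⁻¹) = g * z * g⁻¹ * k) (hx : x ∈ Qg Q g) : k * x * k⁻¹ ∈ Qg Q g := by
  have := h.nor _ (mem_of_comm hk) _ (mem_Qg.1 hx)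
  rw [mem_Qg]
  convert this using 1; group

theorem Xj (hx : x ∈ Qg Q g) : x * (g * z * g⁻¹) = g * z * g⁻¹ * x := by
  calc _ = g * (g⁻¹ * x * g * z) * g⁻¹ := by group
    _ = _ := by rw [zc h (mem_Qg.1 hx)]; group

theorem jQ : g * z * g⁻¹ ∈ Qg Q g := mem_Qg.2 (by simpa [mul_assoc] using h.mem)

theorem sqX (hj : g * z * g⁻¹ ∈ Q) (hx : x ∈ Qg Q g) : x * x ∈ Q := by
  have e : x * x = g * (g⁻¹ * x * g * (g⁻¹ * x * g)) * g⁻¹ := by group
  rcases sq_or h (mem_Qg.1 hx) with k | k <;> rw [e, k]
  exacts [by simp, hj]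

theorem Vcom (jz : g * z * g⁻¹ ≠ z) (hx : x ∈ Q) (hx' : x ∈ Qg Q g) (hy : y ∈ Q) (hy' : y ∈ Qg Q g) :
    x * y = y * x := by
  refine (h.com x hx y hy).resolve_right fun e => ?_
  have e2 : x * y = g * (g⁻¹ * x * g * (g⁻¹ * y * g)) * g⁻¹ := by group
  rcases h.com _ (mem_Qg.1 hx') _ (mem_Qg.1 hy') with k | k <;> rw [k, e] at e2
  · exact h.ne (by simpa [mul_assoc] using e2)
  · exact jz (mul_right_cancel (b := y * x) (by rw [e2]; group))

theorem mdq (hx : x ∈ Q) (hy : y ∈ Q) : Md z (x * y * x⁻¹) y :=
  (h.com x hx y hy).imp (fun e => by rw [e]; simp) fun e => by rw [e]; simp [mul_assoc]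

theorem cV (hx : x ∈ Xg z Q g) (hy : y ∈ Q) (e : y * (g * z * g⁻¹) = g * z * g⁻¹ * y) :
    x * y * x⁻¹ * y⁻¹ ∈ Xg z Q g ⊓ Q :=
  have a := mul_mem (h.nor x hx.1 y hy) (inv_mem hy)
  ⟨⟨h.le a, by simpa [mul_assoc] using mul_mem hx.2 (norg h e (inv_mem hx.2))⟩, a⟩

theorem Q1 [Finite G] (hj : g * z * g⁻¹ ∈ Q) : g⁻¹ * z * g ∈ Q := by
  by_cases h0 : g * z * g⁻¹ = z
  · rw [show g⁻¹ * z * g = z from (congrArg (g⁻¹ * · * g) h0.symm).trans (by group)]; exact h.mem
  by_contra hn
  have c := cardC h hj (by rw [conj_mul, h.zz]; group) (fun e => h.ne (by simpa using e)) h0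
  set R := Q ⊓ centralizer {g * z * g⁻¹}
  have : (Q.subgroupOf (centralizer {z})).Normal := ⟨fun a ha b => h.nor b b.2 a ha⟩
  let θ := (QuotientGroup.mk' (Q.subgroupOf (centralizer {z}))).comp
    (((MulAut.conj g).symm.toMonoidHom.comp R.subtype).codRestrict _ fun x =>
      mem_of_comm (mem_centralizer_singleton_iff.1 x.2.2))
  have hk : ∀ x : R, x ∈ θ.ker ↔ x.1 ∈ Qg Q g := fun x => QuotientGroup.eq_one_iff _
  let A := θ.ker.map R.subtype
  have hA : A ≤ Q := (map_subtype_le _).trans inf_le_left
  have hz : z ∉ A := fun ⟨x, hx, e⟩ => hn (e ▸ (hk x).1 hx)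
  have e := CS h hA
  rw [show A ⊓ zpowers z = ⊥ from eq_bot_iff.2 fun a ha => (memZ h ha.2).resolve_right fun e => hz (e ▸ ha.1)] at e
  have h1 : R ≤ Q ⊓ centralizer (A : Set G) := fun r hr => ⟨hr.1, by
    rintro _ ⟨x, hx, rfl⟩
    refine (h.com _ x.2.1 r hr.1).resolve_right fun e => hz ⟨x * (⟨r, hr⟩ * x⁻¹ * (⟨r, hr⟩ : R)⁻¹),
      mul_mem hx ((MonoidHom.normal_ker θ).conj_mem _ (inv_mem hx) _), ?_⟩
    change x.1 * (r * x.1⁻¹ * r⁻¹) = z
    rw [← mul_assoc, ← mul_assoc, e]; group⟩
  have h2 := card_le_of_le h1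
  have h3 : Nat.card A = Nat.card θ.ker := card_map_of_injective R.subtype_injective
  have h4 := card_eq_card_quotient_mul_card_subgroup θ.ker
  rw [Nat.card_congr (QuotientGroup.quotientKerEquivRange θ).toEquiv, c] at h4
  have h5 : Nat.card θ.range ∣ 2661120 := (card_subgroup_dvd_card θ.range).trans (idxQ h).dvd
  have h6 := (Nat.le_of_dvd (by decide) (Nat.dvd_gcd h5 (Dvd.intro _ h4.symm))).trans_eq
    (by decide : _ = 256)
  rw [card_bot, h3] at e
  rw [c] at h2
  have h7 := Nat.mul_le_mul_left (Nat.card θ.ker) h2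
  have h8 := Nat.mul_le_mul h6 (show Nat.card θ.ker ≤ 2 by omega)
  omega

theorem bigX [Finite G] (hj : g * z * g⁻¹ ∈ Q) (jz : g * z * g⁻¹ ≠ z) (l : List G)
    (hl : ∀ x ∈ Xg z Q g, ∃ u ∈ l, u⁻¹ * x ∈ Q) : 32 ≤ l.length := by
  have h1 := cardX (z := z) (Q := Q) (g := g)
  rw [cardC h (Q1 h hj) (by rw [show g⁻¹ * z * g * (g⁻¹ * z * g) = g⁻¹ * (z * z) * g by group, h.zz]; simp)
    (fun e => h.ne (by simpa [mul_assoc] using congrArg (g * · * g⁻¹) e))
    fun e => jz (by nth_rw 1 [← e]; group)] at h1
  have h2 := (h1.trans (card_cos l hl)).trans (Nat.mul_le_mul_left _ (AB h inf_le_right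
    fun a ha b hb => Vcom h jz ha.2 ha.1.2 hb.2 hb.1.2))
  omega

/-- The involution is not isolated. -/
theorem zs [Finite G] [IsSimpleGroup G] : ∃ g, g * z * g⁻¹ ∈ centralizer {z} ∧ g * z * g⁻¹ ≠ z := by
  have h1 : ¬ Cfsg.IsIsolated z := fun hi => by
    have h2 := ZStar.zstar G _ (by rw [sq, h.zz]) hi
    rcases IsSimpleGroup.eq_bot_or_eq_top_of_normal (Cfsg.pPrimeCore 2 G) inferInstance with k | k
    · rcases IsSimpleGroup.eq_bot_or_eq_top_of_normal (center G) inferInstance with k2 | k2
      · exact h.ne (mem_bot.1 (k2 ▸ mem_center_iff.2 fun g =>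
          mul_inv_eq_iff_eq_mul.1 (mul_inv_eq_one.1 (mem_bot.1 (k ▸ h2 g)))))
      · have : Q ≤ zpowers z := fun q hq => (BT.mem_zpowers_two h.zz).2
          (h.cen q (h.le hq) fun r _ => mem_center_iff.1 (k2.ge (mem_top _)) _)
        have := card_le_of_le this
        rw [h.cQ, cardZ h] at this
        omega
    · have h4 := PCoreResidual.coprime_card_pPrimeCore 2 G
      have h5 := orderOf_dvd_natCard z
      rw [orderOf_eq_prime (p := 2) (by rw [sq, h.zz]) h.ne] at h5
      rw [k, card_top] at h4
      exact absurd (Nat.eq_one_of_dvd_coprimes h4 h5 dvd_rfl) (by decide)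
  simp only [Cfsg.IsIsolated, not_forall] at h1
  obtain ⟨g, h1, h2⟩ := h1
  exact ⟨g, mem_centralizer_singleton_iff.2 h1.symm, h2⟩

end

/-- The data for a class of involutions outside `Q`. -/
structure Dt where
  p : ℕ
  w : List ℕ
  u : List ℕ
  yw : List ℕ
  L : List ℕ
  Dl : List ℕ
  W : List (ℕ × ℕ)
  S : List ℕ
  mS : ℕ
  Dv : List ℕ
  U2 : List (List ℕ)

noncomputable def lfts (u : List ℕ) (d : ℕ) : List ℕ :=
  [pw u (d % 4096) ^^^ d % 4096, (pw u (d % 4096) ^^^ d % 4096) + 4096]

def Dt.ok0 (d : Dt) (U : List (List ℕ)) : Prop :=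
  (d.p < 8192 ∧ lt2 6 d.w = true ∧ lt2 6 d.u = true ∧ lt2 6 (invW d.u) = true ∧ d.yw = d.u ++ d.w ++ invW d.u ∧
    mp (mp (aw d.u) (tb d.p d.w)) (aw (invW d.u)) = d.L ∧ lt2 500 d.yw = true ∧ lt2 6 d.yw = true) ∧
  lin d.L 2 = 2 ∧ (∀ a ∈ d.Dl, a < 8192 ∧ lin d.L a = a) ∧
  (∀ e ∈ d.W, e.1 = 4096 ∨ e.1 ≠ 0 ∧ e.2 < 8192 ∧ qm e.1 (lin d.L e.2) = e.2) ∧ (∀ a ∈ d.S, bitB d.mS a = true) ∧
  ((∀ a ∈ d.Dv, a < 8192 ∧ lin d.L a = a) ∧ d.Dv.Nodup ∧ d.Dv.length = 33) ∧ d.U2.length = 2 ∧
  ∀ u ∈ U, u ∈ d.U2 ∨ ∃ a ∈ d.Dl, ∃ b ∈ d.Dl, ∀ x ∈ lfts u a, ∀ y ∈ lfts u b,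
    ¬ (bitB d.mS x = true ∧ bitB d.mS y = true ∧ bitB d.mS (qm x y) = true)

noncomputable instance (d : Dt) (U : List (List ℕ)) : Decidable (d.ok0 U) := inferInstanceAs (Decidable (_ ∧ _))

noncomputable def Dt.ok1 (d : Dt) : Bool :=
  band (allR (fun a => !allL (fun b => Nat.beq (qm a b) (qm b a)) d.Dl || !Nat.beq (lin d.L a) a ||
    memL (d.W.map Prod.fst) a || memL (d.W.map Prod.fst) (qm a a) || memL d.S a) 0 8192)
  (allL (fun a => allL (fun b => Nat.beq a 0 || Nat.beq b 0 || Nat.beq a b || !bitB d.mS (qm a b) ||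
    allL (fun c => !bitB d.mS (qm a c) || !bitB d.mS (qm b c) || !bitB d.mS (qm (qm a b) c) ||
      memL [0, a, b, qm a b] c) d.S) d.S) d.S)

def dB0 : Dt := ⟨0, [8], [1, 5, 1], [1, 5, 1, 8, 0, 4, 0],
  [1, 2, 4, 4104, 5120, 2368, 256, 1552, 64, 1168, 4112, 352], [1, 2, 4, 320, 640, 1040, 2080],
  [(4096, 0), (320, 64), (640, 152), (960, 208), (1040, 24), (1360, 88), (1680, 128), (2000, 200), (2080, 96), (2400, 32), (2720, 240), (3040, 184), (3120, 112), (3440, 48), (3760, 224), (4080, 168), (4416, 72), (4736, 144), (5056, 216), (5136, 16), (5456, 80), (5776, 136), (6096, 192), (6176, 104), (6496, 40), (6816, 248), (7136, 176), (7216, 120), (7536, 56), (7856, 232), (8176, 160)],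
  [0, 4, 324, 644, 964, 1044, 1364, 1684, 2004, 2084, 2404, 2724, 3044, 3124, 3444, 3764, 4084, 4100, 4420, 4740, 5060, 5140, 5460, 5780, 6100, 6180, 6500, 6820, 7140, 7220, 7540, 7860, 8180],
  0x10000000000000000000000000000000000000000000000000000000000000000000000000000000100000000000000000000000000000000000000000000000000000000000000000000000000000001000000000000000000000000000000000000000000000000000000000000000000000000000000010000000000000000000100000000000000000000000000000000000000000000000000000000000000000000000000000001000000000000000000000000000000000000000000000000000000000000000000000000000000010000000000000000000000000000000000000000000000000000000000000000000000000000000100000000000000000001000000000000000000000000000000000000000000000000000000000000000000000000000000010000000000000000000000000000000000000000000000000000000000000000000000000000000100000000000000000000000000000000000000000000000000000000000000000000000000000001000000000000000000010000000000000000000000000000000000000000000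0000000000000000000000000000000000001000000000000000000000000000000000000000000000000000000000000000000000000000000010000000000000000000000000000000000000000000000000000000000000000000000000000000100010000000000000000000000000000000000000000000000000000000000000000000000000000000100000000000000000000000000000000000000000000000000000000000000000000000000000001000000000000000000000000000000000000000000000000000000000000000000000000000000010000000000000000000100000000000000000000000000000000000000000000000000000000000000000000000000000001000000000000000000000000000000000000000000000000000000000000000000000000000000010000000000000000000000000000000000000000000000000000000000000000000000000000000100000000000000000001000000000000000000000000000000000000000000000000000000000000000000000000000000010000000000000000000000000000000000000000000000000000000000000000000000000000000100000000000000000000000000000000000000000000000000000000000000000000000000000001000000000000000000010000000000000000000000000000000000000000000000000000000000000000000000000000000100000000000000000000000000000000000000000000000000000000000000000000000000000001000000000000000000000000000000000000000000000000000000000000000000000000000000011,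
  [0, 1, 2, 3, 4, 5, 6, 7, 320, 321, 322, 323, 324, 325, 326, 327, 640, 641, 642, 643, 644, 645, 646, 647, 960, 961, 962, 963, 964, 965, 966, 967, 1040], [[], [27, 37, 26]]⟩

def dB1 : Dt := ⟨5, [8], [5, 0], [5, 0, 8, 1, 4],
  [1, 2, 4, 8, 5120, 6464, 4352, 5648, 4160, 5264, 4112, 4448], [1, 2, 4, 8, 320, 640, 1040, 2080],
  [(4096, 0), (640, 144), (960, 208), (1360, 80), (2080, 96), (3120, 112), (4416, 64), (5136, 16), (5776, 128), (6096, 192), (6496, 32), (6816, 240), (7136, 176), (7536, 48), (7856, 224), (8176, 160)],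
  [0, 320, 1040, 1680, 2000, 2400, 2720, 3040, 3440, 3760, 4080, 4736, 5056, 5456, 6176, 7216],
  0x100000000000000000000000000000000000000000000000000000000000000000000000000000000000000000000000000000000000000000000000000000000000000000000000000000000000000000000000000000000000000000000000000000000000000000000000000000000000000000000000000000000000000000001000000000000000000000000000000000000000000000000000000000000000000000000000000000000000000000000000000000000000000000000000000000000000000000000000000000000000000000000000000000001000000000000000000000000000000000000000000000000000000000000000000000000000000000000000000000000000100000000000000000000000000000000000000000000000000000000000000000000000000000001000000000000000000000000000000000000000000000000000000000000000000000000000000000000000000000000000000000000000000000000000000000000000000000000000000000000000000010000000000000000000000000000000000000000000000000000000000000000000000000000000100000000000000000000000000000000000000000000000000000000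00000000000000000000000100000000000000000000000000000000000000000000000000000000000000000000000000000000000000000000000000010000000000000000000000000000000000000000000000000000000000000000000000000000000100000000000000000000000000000000000000000000000000000000000000000000000000000001000000000000000000000000000000000000000000000000000000000000000000000000000000000000000000000000000100000000000000000000000000000000000000000000000000000000000000000000000000000001000000000000000000000000000000000000000000000000000000000000000000000000000000000000000000000000000000000000000000000000000000000000000000000000000000000000000100000000000000000000000000000000000000000000000000000000000000000000000000000000000000000000000000000000000000000000000000000000000000000000000000000000000000000000000000000000000100000000000000000000000000000000000000000000000000000000000000000000000000000001,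
  [0, 1, 2, 3, 4, 5, 6, 7, 8, 9, 10, 11, 12, 13, 14, 15, 320, 321, 322, 323, 324, 325, 326, 327, 328, 329, 330, 331, 332, 333, 334, 335, 640], [[], [27, 37, 26]]⟩

def dB2 : Dt := ⟨42, [8], [10, 2, 0], [10, 2, 0, 8, 1, 3, 11],
  [4097, 2, 4100, 8, 4352, 7936, 64, 2432, 4112, 7280, 5456, 6416], [2, 5, 8, 64, 272, 1568, 2064],
  [(4096, 0), (64, 560), (272, 17), (336, 545), (1568, 160), (1632, 657), (1840, 176), (1904, 641), (2064, 145), (2128, 672), (2304, 128), (2368, 689), (3632, 49), (3696, 513), (3872, 33), (3936, 529), (4160, 561), (4368, 16), (4432, 544), (5664, 161), (5728, 656), (5936, 177), (6000, 640), (6160, 144), (6224, 673), (6400, 129), (6464, 688), (7728, 48), (7792, 512), (7968, 32), (8032, 528)],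
  [0, 10, 74, 282, 346, 1578, 1642, 1850, 1914, 2074, 2138, 2314, 2378, 3642, 3706, 3882, 3946, 4106, 4170, 4378, 4442, 5674, 5738, 5946, 6010, 6170, 6234, 6410, 6474, 7738, 7802, 7978, 8042],
  0x40000000000000004000000000000000000000000000000000000000000040000000000000004000000000000000000000000000000000000000000000000000000000000000000000000000000000000000000000000000000000000000000000000000000000000000000000000000000000000000000000000000000000000000000000000000000000000000000000000000000000000000000000000000000000000000000000000000000000000000000000000000000000000000000000000000400000000000000040000000000000000000000000000000000000000000400000000000000040000000000000000000000000000000000000004000000000000000400000000000000000000000000000000000000000000000000040000000000000004000000000000000000000000000000000000000000000000000000000000000000000000000000000000000000000000000000000000000000000000000000000000000000000000000000000000000000000000000000000000000000000000000000000000000000000000000000000000000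00000000000000000000000000000000000000000000000000000000000000000000000000004000000000000000400000000000000000000000000000000000000000000000000040000000000000004000000000000000000000000000000000000000400000000000000040000000000000000000000000000000000000000000400000000000000040000000000000000000000000000000000000000000000000000000000000000000000000000000000000000000000000000000000000000000000000000000000000000000000000000000000000000000000000000000000000000000000000000000000000000000000000000000000000000000000000000000000000000000000000000000000000000000000000000000000000000000000000004000000000000000400000000000000000000000000000000000000000004000000000000000400000000000000000000000000000000000000040000000000000004000000000000000000000000000000000000000000000000000400000000000000040000000000000000000000000000000000000000000000000000000000000000000000000000000000000000000000000000000000000000000000000000000000000000000000000000000000000000000000000000000000000000000000000000000000000000000000000000000000000000000000000000000000000000000000000000000000000000000000000000000000000000000400000000000000040000000000000000000000000000000000000000000000000004000000000000000401,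
  [0, 2, 5, 7, 8, 10, 13, 15, 64, 66, 69, 71, 72, 74, 77, 79, 272, 274, 277, 279, 280, 282, 285, 287, 336, 338, 341, 343, 344, 346, 349, 351, 1568], [[], [27, 37, 29, 26, 37]]⟩

def dB3 : Dt := ⟨43, [8], [5, 0], [5, 0, 8, 1, 4],
  [1, 2, 4100, 4104, 5120, 2368, 4352, 5648, 4160, 5264, 4112, 352], [1, 2, 12, 320, 640, 1040, 2080],
  [(4096, 0), (320, 68), (640, 144), (960, 208), (1040, 20), (1360, 80), (1680, 132), (2000, 196), (2080, 100), (2400, 32), (2720, 240), (3040, 176), (3120, 116), (3440, 48), (3760, 224), (4080, 160), (4416, 64), (4736, 148), (5056, 212), (5136, 16), (5456, 84), (5776, 128), (6096, 192), (6176, 96), (6496, 36), (6816, 244), (7136, 180), (7216, 112), (7536, 52), (7856, 228), (8176, 164)],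
  [0],
  0x1,
  [0, 1, 2, 3, 12, 13, 14, 15, 320, 321, 322, 323, 332, 333, 334, 335, 640, 641, 642, 643, 652, 653, 654, 655, 960, 961, 962, 963, 972, 973, 974, 975, 1040], [[], [27, 37, 26]]⟩

def dB4 : Dt := ⟨0, [0, 2, 4], [5, 1, 2], [5, 1, 2, 0, 2, 4, 3, 0, 4],
  [1045, 2, 6180, 4106, 2328, 4130, 64, 384, 256, 6752, 1320, 6146], [2, 40, 64, 256, 1044, 2056],
  [(4096, 0), (40, 148), (64, 516), (106, 664), (256, 128), (296, 20), (322, 652), (360, 528), (1044, 1), (1046, 9), (1084, 149), (1086, 157), (1108, 517), (1110, 525), (1300, 129), (1302, 137), (1340, 21), (1342, 29), (1404, 529), (1406, 537), (2056, 144), (2082, 12), (2122, 668), (2146, 520), (2312, 16), (2338, 140), (2376, 532), (2400, 640), (3100, 145), (3102, 153), (3356, 17), (3358, 25), (3420, 533), (3422, 541), (3444, 641), (3446, 649), (4098, 8), (4138, 156), (4162, 524), (4200, 656), (4354, 136), (4394, 28), (4416, 644), (4458, 536), (5244, 657), (5246, 665), (5460, 645), (5462, 653), (6154, 152), (6176, 4), (6216, 660), (6240, 512), (6410,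 24), (6432, 132), (6474, 540), (6498, 648), (7220, 5), (7222, 13), (7260, 661), (7262, 669), (7284, 513), (7286, 521), (7476, 133), (7478, 141)],
  [0, 2, 42, 66, 104, 258, 298, 320, 362, 1148, 1150, 1364, 1366, 2058, 2080, 2120, 2144, 2314, 2336, 2378, 2402, 3124, 3126, 3164, 3166, 3188, 3190, 3380, 3382, 4136, 4160, 4202, 4352, 4392, 4418, 4456, 5140, 5142, 5180, 5182, 5204, 5206, 5396, 5398, 5436, 5438, 5500, 5502, 6152, 6178, 6218, 6242, 6408, 6434, 6472, 6496, 7196, 7198, 7452, 7454, 7516, 7518, 7540, 7542],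
  0x500000500000000000000050000000000000000000000000000000000000000000000000000000000000005000000000000000000000000000000000000000000000000000000000000000000000000000000000000000000000000000000000000000000000000000000000000000000000000000000000000000000000000000000100000100000000040000010000000000000000000000000000000000000000040000040000000004000001000000000000000000000000000000000000000000000000000000000000000000000000000000000000000000000000000000000000000000000000000000000000000000000000000000000000000000500000000000000050000000005000000000000000000000000000000000000000000000005000005000000000500000000000000000000000000000000000000000000000000000000000000000000000000000000000000000000000000000000000000000000000000000000000000000000000000000000000000000000000000100000000040000010000000001000000000000000000000000000000000000040000000001000001000000000000000000000000000000000000000000000000000000000000000000000000000000000000000000000000000000000000000000000000000000000000000000000000000000000000000000000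00000000000000000000000500000000000000000000000000000000000000000000000500000500000000050000000000000000000000000000000000000000000000000000000000000000000000000000000000000000000000000000000000000000000000000000000000000000000000000000000000000000000000000000000000004000004000000000100000400000000000000000000000000000000000000000100000100000000010000040000000000000000000000000000000000000000000000000000000000000000000000000000000000000000000000000000000000000000000000000000000000000000000000000000000000000000000000000000500000000000000000000000000000000000000000000000000000500000000000000000000000000000000000000000000000000000000000000000000000000000000000000000000000000000000000000000000000000000000000000000000000000000000000000000000000000000000000000000000000000004000000000100000400000000040000000000000000000000000000000000000100000000040000040000000005,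
  [0, 2, 40, 42, 64, 66, 104, 106, 256, 258, 296, 298, 320, 322, 360, 362, 1044, 1046, 1084, 1086, 1108, 1110, 1148, 1150, 1300, 1302, 1340, 1342, 1364, 1366, 1404, 1406, 2056], [[], [26, 35, 29, 26, 26, 37]]⟩

def dB5 : Dt := ⟨176, [0, 2, 8, 4, 8], [0, 5, 0], [0, 5, 0, 0, 2, 8, 4, 8, 1, 4, 1],
  [2005, 2, 324, 4106, 944, 4130, 2338, 4682, 2146, 2474, 8064, 6146], [2, 40, 320, 1684, 2056],
  [(4096, 0), (2, 704), (40, 596), (42, 148), (320, 4), (322, 708), (360, 152), (362, 600), (1684, 5), (1686, 13), (1724, 153), (1726, 145), (2004, 1), (2006, 9), (2044, 597), (2046, 605), (2056, 536), (2058, 216), (2080, 644), (2082, 68), (2376, 212), (2378, 532), (2400, 640), (2402, 64), (3740, 213), (3742, 221), (3764, 641), (3766, 649), (4060, 537), (4062, 529), (4084, 645), (4086, 653), (4098, 8), (4136, 156), (4138, 604), (4416, 716), (4418, 12), (4456, 592), (4458, 144), (5780, 717), (5782, 709), (5820, 593), (5822, 601), (6100, 713), (6102, 705), (6140, 157), (6142, 149), (6152, 208), (6154, 528), (6176, 76), (6178,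 652), (6472, 540), (6474, 220), (6496, 72), (6498, 648), (7836, 541), (7838, 533), (7860, 73), (7862, 65), (8156, 209), (8158, 217), (8180, 77), (8182, 69)],
  [0],
  0x1,
  [0, 2, 40, 42, 320, 322, 360, 362, 1684, 1686, 1724, 1726, 2004, 2006, 2044, 2046, 2056, 2058, 2080, 2082, 2376, 2378, 2400, 2402, 3740, 3742, 3764, 3766, 4060, 4062, 4084, 4086, 4096], [[], [27, 33, 27, 29, 26, 37]]⟩

theorem o0 : dB0.ok0 Ub0 ∧ dB0.ok1 = true := by decide +kernel

theorem o1 : dB1.ok0 Ub1 ∧ dB1.ok1 = true := by decide +kernel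

theorem o2 : dB2.ok0 Ub2 ∧ dB2.ok1 = true := by decide +kernel

theorem o3 : dB3.ok0 Ub3 ∧ dB3.ok1 = true := by decide +kernel

theorem o4 : dB4.ok0 Ub4 ∧ dB4.ok1 = true := by decide +kernel

theorem o5 : dB5.ok0 Ub5 ∧ dB5.ok1 = true := by decide +kernel

/-- The two bounds. -/
def Nice (z : G) (Q : Subgroup G) (j : G) : Prop := 33 ≤ Nat.card ↥(Q ⊓ centralizer {j}) ∧
  ((∀ g, g * z * g⁻¹ ∈ Q → g * z * g⁻¹ = z) → ∀ g, g * z * g⁻¹ = j → j ≠ z → Nat.card (Xg z Q g) ≤ 32)

namespace Cx
variable [Finite G] {M : MW z Q f} (C : Cx M n)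
include C

omit [Finite G] in
theorem actq (u : List ℕ) {q : G} (hq : q ∈ Q) {a : ℕ} (ha : a < 8192) :
    Md z (wval (FW f) u * q * n a * (wval (FW f) u * q)⁻¹) (n (pw u (a % 4096))) := by
  refine md_trans C.h ?_ (C.act u (Nat.mod_lt a (by decide))).2
  convert md_r (wval (FW f) u)⁻¹ (md_l (M.mem u) (md_trans C.h (mdq C.h hq (C.E.mem a ha)) (md_mod C.E ha))) using 1
  group

omit [Finite G] in
theorem Xcos {ch : List Lv} (hch : M.Ch (centralizer {z}) ch) {b : ℕ} (hb : b ∈ [1, 2]) {ks U : List (List ℕ)}
    {ts : List Tst} {ct : CT} (s : solveB (nat_lit 12) (nat_lit 4095) wtt (nat_lit 4096) 500 BW (fun _ => true) ch 1 []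
      [] [] (prEq 500 [] [] ++ [1000, 1000] :: ks.map sqc) [] [] (memLL U) id ts ct = true)
    (hk : (ch.take 1).map Lv.b = [b] ∧ ∀ k ∈ ks, lt2 500 k = true ∧ pw k b = b) (e : g * z * g⁻¹ = n b)
    (hx : x ∈ Xg z Q g) : ∃ u ∈ U, (wval (FW f) u)⁻¹ * x ∈ Q := by
  have b1 : b < 4096 := (by decide : ∀ b ∈ [1, 2], b < 4096) b hb
  have hj : g * z * g⁻¹ ∈ Q := e ▸ C.E.mem b (by omega)
  have hx1 : x ∈ centralizer ({z} : Set G) := hx.1
  have hx2 : x ∈ Qg Q g := hx.2
  obtain ⟨u, hu, q, hq, rfl⟩ := M.find hch s (by decide) hx.1 (fun c hc => by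
    rw [hk.1, List.mem_singleton] at hc
    exact hc ▸ C.fix _ b1 b1 (.inl (mul_inv_eq_iff_eq_mul.2 (e ▸ Xj C.h hx.2)))) .nil
    (List.forall_mem_cons.2 ⟨by
      rw [wval_cons, wval_cons, lval_upd (nv := 500), wval_nil, mul_one]
      exact sqX C.h hj hx.2, fun w hw => by
      obtain ⟨k, hk', rfl⟩ := List.mem_map.1 hw
      obtain ⟨k1, k2⟩ := hk.2 k hk'
      obtain ⟨r, hr, e1⟩ := exact C.h C.E hb (k2 ▸ (C.act k b1).2)
      rw [sqc, wval_append, wval_cons, wval_append, wval_cons, lval_upd (nv := 500), wval_invW, wval_upd _ k1]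
      have hm := M.mem k
      generalize wval (FW f) k = κ at *
      have h1 := mul_mem hx2 (norg C.h (k := r * κ) (by rw [e, ← mul_inv_eq_iff_eq_mul]; nth_rw 2 [← e1]; group) hx2)
      have h0 := mul_mem (C.h.le hr) hm
      have h2 := mul_mem hx1 (mul_mem (mul_mem h0 hx1) (inv_mem h0))
      have h3 := C.h.nor x hx1 _ (inv_mem hr)
      convert mul_mem (mul_mem (mul_mem h3 (C.h.nor _ h2 _ (mul_mem hr h3))) (sqX C.h hj h1)) hr using 1
      group⟩) (by simp)
  exact ⟨u, memLL_mem hu, by simpa using hq⟩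

theorem nb : g * z * g⁻¹ ≠ n 2 := fun e => by
  have := bigX C.h (e ▸ C.E.mem 2 (by decide)) (fun e' => absurd (C.E.inj 2 (by decide) 4096 (by decide)
    ((e.symm.trans e').trans C.E.z12.symm)) (by decide)) (Un.map (wval (FW f))) fun x hx => by
      obtain ⟨u, hu, h⟩ := C.Xcos C.c2 (by simp) s_n (by decide +kernel) e hx
      exact ⟨_, List.mem_map_of_mem hu, h⟩
  exact absurd this (by simp [Un])

theorem EE (hg : g * z * g⁻¹ = n 1) {a : ℕ} (ha : a < 8192) : g⁻¹ * n a * g ∈ Q ↔ a &&& 2730 = 0 := by
  have hj : g * z * g⁻¹ ∈ Q := hg ▸ C.E.mem 1 (by decide)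
  have jz : g * z * g⁻¹ ≠ z := fun e' => absurd (C.E.inj 1 (by decide) 4096 (by decide)
    ((hg.symm.trans e').trans C.E.z12.symm)) (by decide)
  have zV : z ∈ Qg Q g := Q1 C.h hj
  have k : ∀ e ∈ [1, 4, 16, 64, 256, 1024], n e ∈ Qg Q g := List.forall_mem_cons.2 ⟨hg ▸ jQ C.h, fun e he => by
    obtain ⟨⟨u, b⟩, -, hu, l, b1, b2, b3⟩ := (by decide +kernel : ∀ e ∈ [4, 16, 64, 256, 1024], ∃ c ∈ [([21], 512),
      ([15], 652), ([15], 556), ([15], 168), ([15, 21], 172)], c.1 ∈ Ue ∧ e < 8192 ∧ c.2 < 8192 ∧
        qm c.2 1 = qm 1 c.2 ∧ pw c.1 (c.2 % 4096) = qm e c.2 % 4096) e he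
    obtain ⟨x, hx, hq⟩ : ∃ x ∈ Xg z Q g, (wval (FW f) u)⁻¹ * x ∈ Q := by
      by_contra! hn
      have := bigX C.h hj jz ((Ue.erase u).map (wval (FW f))) fun x hx => by
        obtain ⟨v, hv, h⟩ := C.Xcos C.c1 (by simp) s_e (by decide +kernel) hg hx
        exact ⟨_, List.mem_map_of_mem ((List.mem_erase_of_ne fun (e : v = u) => hn x hx (e ▸ h)).2 hv), h⟩
      rw [List.length_map, List.length_erase_of_mem hu] at this
      exact absurd this (by decide)
    have h1 := C.actq u hq b1
    rw [mul_inv_cancel_left, b3] at h1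
    have h2 := md_r (n b)⁻¹ (md_trans C.h h1 (md_symm C.h (md_mod C.E (qm_lt l b1))))
    rw [← C.E.mul _ l _ b1, mul_inv_cancel_right] at h2
    exact (mdK zV h2).1 (cV C.h hx (C.E.mem b b1) (hg ▸ (ncom C.E b1 (by decide)).2 b2)).1.2⟩
  refine ⟨fun h => e0_ok a ha fun b hb => ?_, fun h => ?_⟩
  · obtain ⟨b1, b2⟩ := (by decide : ∀ b ∈ BW, b < 8192 ∧ b ∈ [1, 4, 16, 64, 256, 1024]) b hb
    exact (ncom C.E ha b1).1 (Vcom C.h jz (C.E.mem a ha) h (C.E.mem b b1) (k b b2))
  · have := allR_all (by decide +kernel : allR (fun a => !Nat.beq (a &&& 2730) 0 ||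
      Nat.beq (lin [1, 0, 4, 0, 16, 0, 64, 0, 256, 0, 1024, 0] a) a) 0 8192 = true) a a.zero_le (by omega)
    rw [h] at this
    rw [← beq_eq this]
    refine linK C.E zV _ (fun b hb => ?_) a
    rcases (by decide : ∀ b ∈ [1, 0, 4, 0, 16, 0, 64, 0, 256, 0, 1024, 0], b < 8192 ∧
      (b = 0 ∨ b ∈ [1, 4, 16, 64, 256, 1024])) b hb with ⟨b1, rfl | b2⟩
    exacts [⟨b1, C.E.zero ▸ one_mem _⟩, ⟨b1, k b b2⟩]

theorem nice (d : Dt) {U : List (List ℕ)} {ts : List Tst} {ct : CT}
    (s : solveB (nat_lit 12) (nat_lit 4095) wtt (nat_lit 4096) 500 BW (fun _ => true) wc2 1 []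
      [d.yw] [d.yw] (prEq 500 [d.yw] [d.yw] ++ []) [] [] (memLL U) id ts ct = true)
    (h0 : d.ok0 U) (h1 : d.ok1 = true) (hx : Md z x (n d.p * wval f d.w)) :
    ∃ k ∈ centralizer ({z} : Set G), Nice z Q (k * x * k⁻¹) := by
  obtain ⟨⟨a1, a2, a3, a4, a5, a6, a7, a8⟩, b1, b2, b3, b4, ⟨b5, b6, b7⟩, b8, b9⟩ := h0
  obtain ⟨c1, c2⟩ := band_eq h1
  have h := C.h
  have E := C.E
  obtain ⟨d1, d2⟩ := act_w E C.S a3
  obtain ⟨d3, d4⟩ := act_tb h E C.S a1 a2
  have hc := mul_mem d1 d3
  have A := (d2.mul d4 E d1).mul (act_w E C.S a4).2 E hc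
  rw [wval_invW] at A
  replace A : Act n _ d.L := (congrArg _ a6).mp A
  replace hc := mul_mem hc (inv_mem d1)
  have hy : wval f d.u * (n d.p * wval f d.w) * (wval f d.u)⁻¹ * (wval (FW f) d.yw)⁻¹ ∈ Q := by
    rw [wval_ext f 6 wdefs _ a8, a5, wval_append, wval_append, wval_invW]
    convert h.nor _ d1 _ (E.mem _ a1) using 1; group
  have hj := md_r (wval f d.u)⁻¹ (md_l d1 hx)
  refine ⟨_, d1, ?_⟩
  generalize wval f d.u * x * (wval f d.u)⁻¹ = j, wval f d.u * (n d.p * wval f d.w) * (wval f d.u)⁻¹ = y at *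
  have al : ∀ a < 8192, j * n a * j⁻¹ = n (lin d.L a) := fun a ha => by
    rcases hj with rfl | rfl
    · exact A.all E hc ha
    · rw [mul_assoc z, mul_inv_rev, ← mul_assoc, mul_assoc z, A.all E hc ha, ← zc h (E.mem _ (A.lt a)),
        mul_inv_cancel_right]
  replace hy : j * (wval (FW f) d.yw)⁻¹ ∈ Q := (mdK h.mem (md_r _ hj)).2 hy
  have f1 : ∀ a < 8192, lin d.L a = a → n a * j = j * n a := fun a ha e =>
    (mul_inv_eq_iff_eq_mul.1 ((al a ha).trans (congrArg n e))).symm
  refine ⟨?_, ?_⟩
  · rw [← b7, ← Fintype.card_fin d.Dv.length, ← Nat.card_eq_fintype_card]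
    exact Nat.card_le_card_of_injective (fun i => ⟨n (d.Dv.get i), E.mem _ (b5 _ (List.get_mem ..)).1,
      mem_centralizer_singleton_iff.2 (f1 _ (b5 _ (List.get_mem ..)).1 (b5 _ (List.get_mem ..)).2)⟩) fun i k e =>
        List.nodup_iff_injective_get.1 b6 (E.inj _ (b5 _ (List.get_mem ..)).1 _ (b5 _ (List.get_mem ..)).1
          (congrArg Subtype.val e))
  rintro NQ g rfl jz
  have zV : z ∉ Qg Q g := fun e => jz (by
    have := NQ g⁻¹ (by simpa using mem_Qg.1 e)
    nth_rw 1 [← this]; group)
  set V := Xg z Q g ⊓ Q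
  have bad : ∀ a < 8192, n a ∈ V → memL (d.W.map Prod.fst) a = false := fun a ha hv => Bool.eq_false_iff.2 fun e' => by
    obtain ⟨e, he, rfl⟩ := List.mem_map.1 (memL_mem e')
    have hq : n e.1 ∈ Qg Q g := hv.1.2
    rcases b3 e he with k | ⟨k1, k2, k3⟩
    · exact zV (E.z12 ▸ k ▸ hq)
    have e1 : n e.1 * (g * z * g⁻¹) = n e.2 * (g * z * g⁻¹) * (n e.2)⁻¹ := by
      nth_rw 1 [← k3]
      rw [← E.mul _ ha _ (A.lt _), ← al _ k2]; group
    have e2 := NQ (g⁻¹ * n e.2 * g) (by
      convert mem_Qg.1 (e1 ▸ mul_mem hq (jQ h)) using 1; group)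
    refine k1 (E.inj _ ha 0 (by decide) ((mul_right_cancel (b := g * z * g⁻¹) ?_).trans E.zero.symm))
    rw [e1, one_mul]
    nth_rw 2 [← e2]; group
  have inV : ∀ a < 8192, n a ∈ V → a ∈ d.S := fun a ha hv => by
    have := allR_all c1 a a.zero_le (by omega)
    rw [allL_of fun b hb => by
      obtain ⟨k1, k2⟩ := b2 b hb
      refine Nat.beq_eq.mpr ((ncom E ha k1).1 ((h.com _ hv.2 _ (E.mem b k1)).resolve_right fun e => zV ?_))
      have : _ ∈ Qg Q g := (cV h hv.1 (E.mem b k1) (f1 b k1 k2)).1.2
      convert this using 1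
      rw [e]; group, show lin d.L a = a from E.inj _ (A.lt a) _ ha (by
        rw [← al a ha, ← Xj h hv.1.2, mul_inv_cancel_right]), bad a ha hv,
      bad _ (qm_lt ha ha) (E.mul _ ha _ ha ▸ mul_mem hv hv)] at this
    exact memL_mem (by simpa using this)
  have bit : ∀ a < 8192, ∀ b < 8192, n a ∈ V → n b ∈ V → bitB d.mS (qm a b) = true := fun a ha b hb h1 h2 =>
    b4 _ (inV _ (qm_lt ha hb) (E.mul _ ha _ hb ▸ mul_mem h1 h2))
  have v4 : Nat.card V ≤ 4 := by
    by_cases hn : ∃ x ∈ V, ∃ y ∈ V, x ≠ 1 ∧ y ≠ 1 ∧ x ≠ y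
    · obtain ⟨x, hx, y, hy, x1, y1, xy⟩ := hn
      obtain ⟨a, ha, rfl⟩ := E.surj x hx.2
      obtain ⟨b, hb, rfl⟩ := E.surj y hy.2
      refine card_list ([0, a, b, qm a b].map n) fun v hv => ?_
      obtain ⟨c, hc, rfl⟩ := E.surj v hv.2
      have := allL_all (allL_all c2 a (inV a ha hx)) b (inV b hb hy)
      rw [bit a ha b hb hx hy, Bool.eq_false_iff.2 fun e => x1 ((congrArg n (beq_eq e)).trans E.zero),
        Bool.eq_false_iff.2 fun e => y1 ((congrArg n (beq_eq e)).trans E.zero),
        Bool.eq_false_iff.2 fun e => xy (congrArg n (beq_eq e))] at this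
      replace this := allL_all this c (inV c hc hv)
      rw [bit a ha c hc hx hv, bit b hb c hc hy hv,
        bit _ (qm_lt ha hb) c hc (E.mul _ ha _ hb ▸ mul_mem hx hy) hv] at this
      exact List.mem_map_of_mem (memL_mem this)
    · push Not at hn
      by_cases hm : ∃ x ∈ V, x ≠ 1
      · obtain ⟨x, hx, x1⟩ := hm
        exact (card_list [1, x] fun y hy => by
          by_cases y1 : y = 1
          exacts [by simp [y1], by simp [hn y hy x hx y1 x1]]).trans (by simp)
      · push Not at hm
        exact (card_list [1] fun y hy => by simp [hm y hy]).trans (by simp)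
  have i1 := card_orb (X := Xg z Q g) (A := V) (n 2) fun x hx =>
    cV h hx (E.mem 2 (by decide)) (f1 2 (by decide) b1)
  have i2 := card_cos (X := Xg z Q g ⊓ centralizer {n 2}) (Q := Q) (d.U2.map (wval (FW f))) fun x hx => by
    obtain ⟨u, hu, q, hq, rfl⟩ := M.find C.c2 s (by simp [a7]) hx.1.1 (fun c hc => by
      obtain rfl : c = 2 := List.mem_singleton.1 hc
      exact C.fix _ (by decide) (by decide) (.inl (mul_inv_eq_iff_eq_mul.2 (mem_centralizer_singleton_iff.1 hx.2))))
      (.cons (by
        convert mul_mem (h.nor x hx.1.1 _ (inv_mem hy)) hy using 1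
        have := Xj h hx.1.2
        generalize g * z * g⁻¹ = j at this ⊢
        calc _ = x * wval (FW f) d.yw * ((j * x)⁻¹ * j) * (wval (FW f) d.yw)⁻¹ := by group
          _ = _ := by rw [← this]; group) .nil) (by simp) (by simp)
    refine ⟨_, List.mem_map_of_mem ((b9 u (memLL_mem hu)).resolve_right ?_), by simpa using hq⟩
    rintro ⟨a, ha, b, hb, e⟩
    have k : ∀ a ∈ d.Dl, ∃ c < 8192, c ∈ lfts u a ∧ n c ∈ V := fun a ha => by
      obtain ⟨k1, k2⟩ := b2 a ha
      have hv := cV h hx.1 (E.mem a k1) (f1 a k1 k2)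
      obtain ⟨c, hc, e⟩ := E.surj _ hv.2
      refine ⟨c, hc, ?_, e ▸ hv⟩
      have := C.actq u hq k1
      rw [id, eq_mul_inv_iff_mul_eq, E.mul _ hc _ k1] at e
      rw [← e] at this
      replace this := md_inj E (Nat.mod_lt _ (by decide)) (C.act u (Nat.mod_lt _ (by decide))).1
        (md_trans h (md_symm h (md_mod E (qm_lt hc k1))) this)
      rw [lfts, ← this, qm_mod, Nat.xor_assoc, Nat.xor_self, Nat.xor_zero]
      simp only [List.mem_cons, List.not_mem_nil]
      omega
    obtain ⟨c, c1, c2, c3⟩ := k a ha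
    obtain ⟨c', c4, c5, c6⟩ := k b hb
    exact e c c2 c' c5 ⟨b4 _ (inV _ c1 c3), b4 _ (inV _ c4 c6), bit _ c1 _ c4 c3 c6⟩
  rw [List.length_map, b8] at i2
  have i3 := (card_le_of_le (inf_le_inf_right Q (inf_le_left : Xg z Q g ⊓ centralizer {n 2} ≤ _))).trans v4
  exact i1.trans (Nat.mul_le_mul v4 (i2.trans (Nat.mul_le_mul_left 2 i3)))

theorem nice' {v : G} (hv : v ∈ centralizer ({z} : Set G)) (vv : v * v = 1) (vQ : v ∉ Q) :
    ∃ k ∈ centralizer ({z} : Set G), Nice z Q (k * v * k⁻¹) := by
  obtain ⟨k, hk, r, hr, e⟩ := (C.cls0 hv vv).resolve_left vQ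
  obtain ⟨c, hc, e⟩ : ∃ c ∈ centralizer ({z} : Set G), Nice z Q (c * (k * v * k⁻¹) * c⁻¹) := by
    simp only [rep0, List.mem_cons, List.not_mem_nil, or_false] at hr
    rcases hr with rfl | rfl | rfl | rfl | rfl | rfl
    exacts [C.nice dB0 s_b0 o0.1 o0.2 e, C.nice dB1 s_b1 o1.1 o1.2 e, C.nice dB2 s_b2 o2.1 o2.2 e,
      C.nice dB3 s_b3 o3.1 o3.2 e, C.nice dB4 s_b4 o4.1 o4.2 e, C.nice dB5 s_b5 o5.1 o5.2 e]
  exact ⟨c * k, mul_mem hc hk, by convert e using 1; group⟩

theorem swap [IsSimpleGroup G] : ∃ g, g * z * g⁻¹ = n 1 ∧ g * n 1 * g⁻¹ = z := by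
  have h := C.h
  have sq : ∀ g, g * z * g⁻¹ * (g * z * g⁻¹) = 1 := fun g => by rw [conj_mul, h.zz]; simp
  have tr : ∀ g, g * z * g⁻¹ ∈ Q → g * z * g⁻¹ ≠ z → ∃ k ∈ centralizer ({z} : Set G),
      k * (g * z * g⁻¹) * k⁻¹ = n 1 := fun g hg hn => by
    obtain ⟨k, hk, b, hb, e⟩ := ((C.trans hg (sq g)).resolve_left fun e => h.ne (by simpa using e)).resolve_left hn
    refine ⟨k, hk, ?_⟩
    rcases List.mem_pair.1 hb with rfl | rfl
    exacts [e, absurd (by rw [← e]; group) (C.nb (g := k * g))]
  have sym : ∀ g, g * z * g⁻¹ ≠ z → g⁻¹ * z * g⁻¹⁻¹ ≠ z := fun g hn e => hn (by nth_rw 1 [← e]; group)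
  have two : ∀ g, ∀ k ∈ centralizer ({z} : Set G), ∀ k' ∈ centralizer ({z} : Set G),
      k * g * k'⁻¹ * z * (k * g * k'⁻¹)⁻¹ = k * (g * z * g⁻¹) * k⁻¹ ∧
      (k * g * k'⁻¹)⁻¹ * z * (k * g * k'⁻¹) = k' * (g⁻¹ * z * g⁻¹⁻¹) * k'⁻¹ := fun g k hk k' hk' => ⟨by
        rw [mul_assoc _ k'⁻¹, mem_centralizer_singleton_iff.1 (inv_mem hk')]; group, by
        rw [mul_assoc _ z, ← mul_assoc z, ← mul_assoc z, ← mem_centralizer_singleton_iff.1 hk]; group⟩
  by_cases NQ : ∀ g, g * z * g⁻¹ ∈ Q → g * z * g⁻¹ = z
  · obtain ⟨g, h1, h2⟩ := zs h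
    obtain ⟨k, hk, -, a⟩ := C.nice' h1 (sq g) fun e => h2 (NQ g e)
    obtain ⟨k', hk', b, -⟩ := C.nice' (v := g⁻¹ * z * g⁻¹⁻¹) (by
      simpa using mem_of_comm (mem_centralizer_singleton_iff.1 h1).symm) (sq _) fun e => sym g h2 (NQ _ e)
    obtain ⟨e1, e2⟩ := two g k hk k' hk'
    have := (e2 ▸ b).trans (cardX.trans (a NQ _ e1 fun e => h2 (by
      rw [mul_inv_eq_iff_eq_mul, ← mem_centralizer_singleton_iff.1 hk] at e
      exact mul_left_cancel e)))
    omega
  · push Not at NQ
    obtain ⟨g, h1, h2⟩ := NQ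
    obtain ⟨k, hk, a⟩ := tr g h1 h2
    obtain ⟨k', hk', b⟩ := tr g⁻¹ (by simpa using Q1 h h1) (sym g h2)
    obtain ⟨e1, e2⟩ := two g k hk k' hk'
    exact ⟨_, e1.trans a, by rw [← b, ← e2]; group⟩

end Cx

end Cfsg.Agent.Lib.J4W

namespace Cfsg.Agent.Lib.J4F

open Cfsg.Agent.Lib.J4Defs Cfsg.Agent.Lib.J4W

variable {G : Type*} [Group G] [Finite G] {z : G} {Q : Subgroup G} {n f : ℕ → G}
  (h : Hyp z Q) (E : Enc z Q n) (S : St z n f)
include h E S

theorem nb : ¬ IsConj z (n 2) := fun e => by
  obtain ⟨M, C⟩ := exists_cx h E S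
  obtain ⟨g, e⟩ := isConj_iff.1 e
  exact C.nb e

theorem EE {g : G} (hg : g * z * g⁻¹ = n 1) (_hg' : g * n 1 * g⁻¹ = z) (a : ℕ) (ha : a < 8192) :
    g⁻¹ * n a * g ∈ Q ↔ a &&& 2730 = 0 := by
  obtain ⟨M, C⟩ := exists_cx h E S
  exact C.EE hg ha

theorem swap [IsSimpleGroup G] : ∃ g, g * z * g⁻¹ = n 1 ∧ g * n 1 * g⁻¹ = z := by
  obtain ⟨M, C⟩ := exists_cx h E S
  exact C.swap

end Cfsg.Agent.Lib.J4F
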