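import Cfsg.Agent.Lib.PermNetDefs

set_option autoImplicit false
set_option maxRecDepth 100000

namespace Cfsg.Agent.Lib.J4L4
open Cfsg.Agent.Lib.PermNet

noncomputable def net0 : Net := .nil
theorem valid0 : net0.Valid 128 := valid_of_validB _ (by decide +kernel)
noncomputable def net1 : Net := .nil
theorem valid1 : net1.Valid 128 := valid_of_validB _ (by decide +kernel)
noncomputable def m2_0 : Nat := (nat_lit 0x14015450455551554005101104101544)
noncomputable def m2_1 : Nat := (nat_lit 0x30233011211101301231131232323302)
noncomputable def m2_2 : Nat := (nat_lit 0xb050c07090b040c090803010c0f0008)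
noncomputable def m2_3 : Nat := (nat_lit 0xaf00260098009d00af00ec00110064)
noncomputable def m2_4 : Nat := (nat_lit 0xb36000004cab00001aed00008f40)
noncomputable def m2_5 : Nat := (nat_lit 0x74a9924c00000000eaeea400)
noncomputable def m2_6 : Nat := (nat_lit 0x54a9924400000000)
noncomputable def m2_7 : Nat := (nat_lit 0x54a992440000000000000000)
noncomputable def m2_8 : Nat := (nat_lit 0x2000000042ec0000422c00000000)
noncomputable def m2_9 : Nat := (nat_lit 0x830028001a0009000a002a00830000)
noncomputable def m2_10 : Nat := (nat_lit 0x60f0408080e0409080009080a000400)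
noncomputable def m2_11 : Nat := (nat_lit 0x32013320112212202210132020131000)
noncomputable def m2_12 : Nat := (nat_lit 0x15051450441554445015101540400444)
noncomputable def net2 : Net := (.cons (nat_lit 1) m2_0 (.cons (nat_lit 2) m2_1 (.cons (nat_lit 4) m2_2 (.cons (nat_lit 8) m2_3 (.cons (nat_lit 16) m2_4 (.cons (nat_lit 32) m2_5 (.cons (nat_lit 64) m2_6 (.cons (nat_lit 32) m2_7 (.cons (nat_lit 16) m2_8 (.cons (nat_lit 8) m2_9 (.cons (nat_lit 4) m2_10 (.cons (nat_lit 2) m2_11 (.cons (nat_lit 1) m2_12 .nil)))))))))))))
theorem valid2 : net2.Valid 128 := valid_of_validB _ (by decide +kernel)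
noncomputable def m3_0 : Nat := (nat_lit 0x11010104150510050010550441554440)
noncomputable def m3_1 : Nat := (nat_lit 0x10231303101313210302200312302002)
noncomputable def m3_2 : Nat := (nat_lit 0x60c0e040e000301090e0f04040f0004)
noncomputable def m3_3 : Nat := (nat_lit 0xa5005d00a7005e005200e600850018)
noncomputable def m3_4 : Nat := (nat_lit 0xcd0200001030000011ca00001760)
noncomputable def m3_5 : Nat := (nat_lit 0x5802368b00000000060be000)
noncomputable def m3_6 : Nat := (nat_lit 0x1000268b00000000)
noncomputable def m3_7 : Nat := (nat_lit 0x1000268b0000000000000000)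
noncomputable def m3_8 : Nat := (nat_lit 0x4802000016000000640200000000)
noncomputable def m3_9 : Nat := (nat_lit 0x850040002600aa0045000e00300000)
noncomputable def m3_10 : Nat := (nat_lit 0x20c04060a05010804040a05090f0400)
noncomputable def m3_11 : Nat := (nat_lit 0x21000102202013101031220000020)
noncomputable def m3_12 : Nat := (nat_lit 0x11000401050441450144110404544450)
noncomputable def net3 : Net := (.cons (nat_lit 1) m3_0 (.cons (nat_lit 2) m3_1 (.cons (nat_lit 4) m3_2 (.cons (nat_lit 8) m3_3 (.cons (nat_lit 16) m3_4 (.cons (nat_lit 32) m3_5 (.cons (nat_lit 64) m3_6 (.cons (nat_lit 32) m3_7 (.cons (nat_lit 16) m3_8 (.cons (nat_lit 8) m3_9 (.cons (nat_lit 4) m3_10 (.cons (nat_lit 2) m3_11 (.cons (nat_lit 1) m3_12 .nil)))))))))))))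
theorem valid3 : net3.Valid 128 := valid_of_validB _ (by decide +kernel)
noncomputable def m4_0 : Nat := (nat_lit 0x54051001154054551405110010155554)
noncomputable def m4_1 : Nat := (nat_lit 0x31230321321323201330211202021202)
noncomputable def m4_2 : Nat := (nat_lit 0x2080b0406050d08010c0b070f01020a)
noncomputable def m4_3 : Nat := (nat_lit 0xe500ae0038002e001400ed004800ec)
noncomputable def m4_4 : Nat := (nat_lit 0xad1200002203000002300000df30)
noncomputable def m4_5 : Nat := (nat_lit 0xba51038400000000525d2900)
noncomputable def m4_6 : Nat := (nat_lit 0x3a41018400000000)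
noncomputable def m4_7 : Nat := (nat_lit 0x3a4101840000000000000000)
noncomputable def m4_8 : Nat := (nat_lit 0x10000002410000610500000000)
noncomputable def m4_9 : Nat := (nat_lit 0xa7008200180022002b005a00ae0000)
noncomputable def m4_10 : Nat := (nat_lit 0x40b0802020b0d0b0f080e0001030100)
noncomputable def m4_11 : Nat := (nat_lit 0x31210201121030023010213322031030)
noncomputable def m4_12 : Nat := (nat_lit 0x40001440141541014145055441501004)
noncomputable def net4 : Net := (.cons (nat_lit 1) m4_0 (.cons (nat_lit 2) m4_1 (.cons (nat_lit 4) m4_2 (.cons (nat_lit 8) m4_3 (.cons (nat_lit 16) m4_4 (.cons (nat_lit 32) m4_5 (.cons (nat_lit 64) m4_6 (.cons (nat_lit 32) m4_7 (.cons (nat_lit 16) m4_8 (.cons (nat_lit 8) m4_9 (.cons (nat_lit 4) m4_10 (.cons (nat_lit 2) m4_11 (.cons (nat_lit 1) m4_12 .nil)))))))))))))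
theorem valid4 : net4.Valid 128 := valid_of_validB _ (by decide +kernel)
noncomputable def m5_0 : Nat := (nat_lit 0x11040044504140550040051001000)
noncomputable def m5_1 : Nat := (nat_lit 0x102011302020002203000)
noncomputable def m5_2 : Nat := (nat_lit 0x10306080c0107010708000004000802)
noncomputable def m5_3 : Nat := (nat_lit 0x9000e001000040009004600000018)
noncomputable def m5_4 : Nat := (nat_lit 0x1820000080420000000700000580)
noncomputable def m5_5 : Nat := (nat_lit 0x180830360000000068264000)
noncomputable def m5_6 : Nat := (nat_lit 0x1008303600000000)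
noncomputable def m5_7 : Nat := (nat_lit 0x100830360000000000000000)
noncomputable def m5_8 : Nat := (nat_lit 0x800000000020000000600000000)
noncomputable def m5_9 : Nat := (nat_lit 0x8001000040009004600000000)
noncomputable def m5_10 : Nat := (nat_lit 0x1030608080107010708000004000800)
noncomputable def m5_11 : Nat := (nat_lit 0x102011302020002203000)
noncomputable def m5_12 : Nat := (nat_lit 0x11040044504140550040051001000)
noncomputable def net5 : Net := (.cons (nat_lit 1) m5_0 (.cons (nat_lit 2) m5_1 (.cons (nat_lit 4) m5_2 (.cons (nat_lit 8) m5_3 (.cons (nat_lit 16) m5_4 (.cons (nat_lit 32) m5_5 (.cons (nat_lit 64) m5_6 (.cons (nat_lit 32) m5_7 (.cons (nat_lit 16) m5_8 (.cons (nat_lit 8) m5_9 (.cons (nat_lit 4) m5_10 (.cons (nat_lit 2) m5_11 (.cons (nat_lit 1) m5_12 .nil)))))))))))))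
theorem valid5 : net5.Valid 128 := valid_of_validB _ (by decide +kernel)
noncomputable def net6 : Net := .nil
theorem valid6 : net6.Valid 128 := valid_of_validB _ (by decide +kernel)
noncomputable def m7_0 : Nat := (nat_lit 0x50050154550444001050014150405445)
noncomputable def m7_1 : Nat := (nat_lit 0x13012000213332120231212322202100)
noncomputable def m7_2 : Nat := (nat_lit 0x1000000070d070e0006060105050c0f)
noncomputable def m7_3 : Nat := (nat_lit 0x6900fb0055001100c6003b005000ed)
noncomputable def m7_4 : Nat := (nat_lit 0xd48f00004b430000000900000cc0)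
noncomputable def m7_5 : Nat := (nat_lit 0x9684e5bf00000000fb3f3241)
noncomputable def m7_6 : Nat := (nat_lit 0x1680e5be01020001)
noncomputable def m7_7 : Nat := (nat_lit 0x1680c5be0000000000000000)
noncomputable def m7_8 : Nat := (nat_lit 0xa004000032280000484200000000)
noncomputable def m7_9 : Nat := (nat_lit 0x960080001500530042001a00c40000)
noncomputable def m7_10 : Nat := (nat_lit 0xc0d0f0f04000f000d04040c04040100)
noncomputable def m7_11 : Nat := (nat_lit 0x23021000133310210132021311101200)
noncomputable def m7_12 : Nat := (nat_lit 0x5105001015104554505041405150110)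
noncomputable def net7 : Net := (.cons (nat_lit 1) m7_0 (.cons (nat_lit 2) m7_1 (.cons (nat_lit 4) m7_2 (.cons (nat_lit 8) m7_3 (.cons (nat_lit 16) m7_4 (.cons (nat_lit 32) m7_5 (.cons (nat_lit 64) m7_6 (.cons (nat_lit 32) m7_7 (.cons (nat_lit 16) m7_8 (.cons (nat_lit 8) m7_9 (.cons (nat_lit 4) m7_10 (.cons (nat_lit 2) m7_11 (.cons (nat_lit 1) m7_12 .nil)))))))))))))
theorem valid7 : net7.Valid 128 := valid_of_validB _ (by decide +kernel)
noncomputable def net8 : Net := .nil
theorem valid8 : net8.Valid 128 := valid_of_validB _ (by decide +kernel)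
noncomputable def net9 : Net := .nil
theorem valid9 : net9.Valid 128 := valid_of_validB _ (by decide +kernel)
noncomputable def net10 : Net := .nil
theorem valid10 : net10.Valid 128 := valid_of_validB _ (by decide +kernel)
noncomputable def net11 : Net := .nil
theorem valid11 : net11.Valid 128 := valid_of_validB _ (by decide +kernel)
noncomputable def net12 : Net := .nil
theorem valid12 : net12.Valid 128 := valid_of_validB _ (by decide +kernel)
noncomputable def net13 : Net := .nil
theorem valid13 : net13.Valid 128 := valid_of_validB _ (by decide +kernel)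
noncomputable def net14 : Net := .nil
theorem valid14 : net14.Valid 128 := valid_of_validB _ (by decide +kernel)
noncomputable def net15 : Net := .nil
theorem valid15 : net15.Valid 128 := valid_of_validB _ (by decide +kernel)
noncomputable def m16_0 : Nat := (nat_lit 0x540554151514455105054014550115)
noncomputable def m16_1 : Nat := (nat_lit 0x23302200221300203201001231023220)
noncomputable def m16_2 : Nat := (nat_lit 0x50503060f0409030c0f0c070507070c)
noncomputable def m16_3 : Nat := (nat_lit 0x610012008500c2000e0045001f0084)
noncomputable def m16_4 : Nat := (nat_lit 0xc23c0000b170000002090000117c)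
noncomputable def m16_5 : Nat := (nat_lit 0x97259b2a000000004fc36798)
noncomputable def m16_6 : Nat := (nat_lit 0xc417833f0bef87c)
noncomputable def m16_7 : Nat := (nat_lit 0xec15000d0000000000000000)
noncomputable def m16_8 : Nat := (nat_lit 0x8828000020540000000a00000000)
noncomputable def m16_9 : Nat := (nat_lit 0x9e00a5000200890045000e00670000)
noncomputable def m16_10 : Nat := (nat_lit 0x6060d0503040a0e0003000706070700)
noncomputable def m16_11 : Nat := (nat_lit 0x13301100112300103102000132012110)
noncomputable def m16_12 : Nat := (nat_lit 0x55015001404041100450501541005440)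
noncomputable def net16 : Net := (.cons (nat_lit 1) m16_0 (.cons (nat_lit 2) m16_1 (.cons (nat_lit 4) m16_2 (.cons (nat_lit 8) m16_3 (.cons (nat_lit 16) m16_4 (.cons (nat_lit 32) m16_5 (.cons (nat_lit 64) m16_6 (.cons (nat_lit 32) m16_7 (.cons (nat_lit 16) m16_8 (.cons (nat_lit 8) m16_9 (.cons (nat_lit 4) m16_10 (.cons (nat_lit 2) m16_11 (.cons (nat_lit 1) m16_12 .nil)))))))))))))
theorem valid16 : net16.Valid 128 := valid_of_validB _ (by decide +kernel)

end Cfsg.Agent.Lib.J4L4
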