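import Cfsg.Agent.Lib.PermNetDefs

set_option autoImplicit false
set_option maxRecDepth 100000

namespace Cfsg.Agent.Lib.J4M
open Cfsg.Agent.Lib.PermNet

noncomputable def m0_0 : Nat := (nat_lit 0x15145)
noncomputable def m0_1 : Nat := (nat_lit 0x111020)
noncomputable def m0_2 : Nat := (nat_lit 0xc050b)
noncomputable def m0_3 : Nat := (nat_lit 0x45)
noncomputable def m0_4 : Nat := (nat_lit 0xed)
noncomputable def m0_5 : Nat := (nat_lit 0xa8)
noncomputable def m0_6 : Nat := (nat_lit 0x30100)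
noncomputable def m0_7 : Nat := (nat_lit 0x222010)
noncomputable def m0_8 : Nat := (nat_lit 0x540410)
noncomputable def net0 : Net := (.cons (nat_lit 1) m0_0 (.cons (nat_lit 2) m0_1 (.cons (nat_lit 4) m0_2 (.cons (nat_lit 8) m0_3 (.cons (nat_lit 16) m0_4 (.cons (nat_lit 8) m0_5 (.cons (nat_lit 4) m0_6 (.cons (nat_lit 2) m0_7 (.cons (nat_lit 1) m0_8 .nil)))))))))
theorem valid0 : net0.Valid 24 := valid_of_validB _ (by decide +kernel)
noncomputable def m1_0 : Nat := (nat_lit 0x514514)
noncomputable def m1_1 : Nat := (nat_lit 0x202020)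
noncomputable def m1_2 : Nat := (nat_lit 0x40c01)
noncomputable def m1_3 : Nat := (nat_lit 0x2a)
noncomputable def m1_4 : Nat := (nat_lit 0xa6)
noncomputable def m1_5 : Nat := (nat_lit 0x26)
noncomputable def m1_6 : Nat := (nat_lit 0x40000)
noncomputable def m1_7 : Nat := (nat_lit 0x200010)
noncomputable def m1_8 : Nat := (nat_lit 0x110440)
noncomputable def net1 : Net := (.cons (nat_lit 1) m1_0 (.cons (nat_lit 2) m1_1 (.cons (nat_lit 4) m1_2 (.cons (nat_lit 8) m1_3 (.cons (nat_lit 16) m1_4 (.cons (nat_lit 8) m1_5 (.cons (nat_lit 4) m1_6 (.cons (nat_lit 2) m1_7 (.cons (nat_lit 1) m1_8 .nil)))))))))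
theorem valid1 : net1.Valid 24 := valid_of_validB _ (by decide +kernel)
noncomputable def m2_0 : Nat := (nat_lit 0x445055)
noncomputable def m2_1 : Nat := (nat_lit 0x12231)
noncomputable def m2_2 : Nat := (nat_lit 0x3060f)
noncomputable def m2_3 : Nat := (nat_lit 0x27)
noncomputable def m2_4 : Nat := (nat_lit 0xf7)
noncomputable def m2_5 : Nat := (nat_lit 0x87)
noncomputable def m2_6 : Nat := (nat_lit 0x90400)
noncomputable def m2_7 : Nat := (nat_lit 0x31100)
noncomputable def m2_8 : Nat := (nat_lit 0x445000)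
noncomputable def net2 : Net := (.cons (nat_lit 1) m2_0 (.cons (nat_lit 2) m2_1 (.cons (nat_lit 4) m2_2 (.cons (nat_lit 8) m2_3 (.cons (nat_lit 16) m2_4 (.cons (nat_lit 8) m2_5 (.cons (nat_lit 4) m2_6 (.cons (nat_lit 2) m2_7 (.cons (nat_lit 1) m2_8 .nil)))))))))
theorem valid2 : net2.Valid 24 := valid_of_validB _ (by decide +kernel)
noncomputable def m3_0 : Nat := (nat_lit 0x114500)
noncomputable def m3_1 : Nat := (nat_lit 0x331011)
noncomputable def m3_2 : Nat := (nat_lit 0x701)
noncomputable def m3_3 : Nat := (nat_lit 0xcc)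
noncomputable def m3_4 : Nat := (nat_lit 0xc5)
noncomputable def m3_5 : Nat := (nat_lit 0xc1)
noncomputable def m3_6 : Nat := (nat_lit 0x80100)
noncomputable def m3_7 : Nat := (nat_lit 0x322310)
noncomputable def m3_8 : Nat := (nat_lit 0x50000)
noncomputable def net3 : Net := (.cons (nat_lit 1) m3_0 (.cons (nat_lit 2) m3_1 (.cons (nat_lit 4) m3_2 (.cons (nat_lit 8) m3_3 (.cons (nat_lit 16) m3_4 (.cons (nat_lit 8) m3_5 (.cons (nat_lit 4) m3_6 (.cons (nat_lit 2) m3_7 (.cons (nat_lit 1) m3_8 .nil)))))))))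
theorem valid3 : net3.Valid 24 := valid_of_validB _ (by decide +kernel)
noncomputable def m4_0 : Nat := (nat_lit 0x105110)
noncomputable def m4_1 : Nat := (nat_lit 0x212032)
noncomputable def m4_2 : Nat := (nat_lit 0x60f09)
noncomputable def m4_3 : Nat := (nat_lit 0xb0)
noncomputable def m4_4 : Nat := (nat_lit 0x8b)
noncomputable def m4_5 : Nat := (nat_lit 0x80)
noncomputable def m4_6 : Nat := (nat_lit 0x900)
noncomputable def m4_7 : Nat := (nat_lit 0x200010)
noncomputable def m4_8 : Nat := (nat_lit 0x155050)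
noncomputable def net4 : Net := (.cons (nat_lit 1) m4_0 (.cons (nat_lit 2) m4_1 (.cons (nat_lit 4) m4_2 (.cons (nat_lit 8) m4_3 (.cons (nat_lit 16) m4_4 (.cons (nat_lit 8) m4_5 (.cons (nat_lit 4) m4_6 (.cons (nat_lit 2) m4_7 (.cons (nat_lit 1) m4_8 .nil)))))))))
theorem valid4 : net4.Valid 24 := valid_of_validB _ (by decide +kernel)
noncomputable def m5_0 : Nat := (nat_lit 0x114100)
noncomputable def m5_1 : Nat := (nat_lit 0x120200)
noncomputable def m5_2 : Nat := (nat_lit 0x60600)
noncomputable def m5_3 : Nat := (nat_lit 0x2b)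
noncomputable def m5_4 : Nat := (nat_lit 0x9f)
noncomputable def m5_5 : Nat := (nat_lit 0xb)
noncomputable def m5_6 : Nat := (nat_lit 0x60200)
noncomputable def m5_7 : Nat := (nat_lit 0x120200)
noncomputable def m5_8 : Nat := (nat_lit 0x104000)
noncomputable def net5 : Net := (.cons (nat_lit 1) m5_0 (.cons (nat_lit 2) m5_1 (.cons (nat_lit 4) m5_2 (.cons (nat_lit 8) m5_3 (.cons (nat_lit 16) m5_4 (.cons (nat_lit 8) m5_5 (.cons (nat_lit 4) m5_6 (.cons (nat_lit 2) m5_7 (.cons (nat_lit 1) m5_8 .nil)))))))))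
theorem valid5 : net5.Valid 24 := valid_of_validB _ (by decide +kernel)
noncomputable def m6_0 : Nat := (nat_lit 0x100500)
noncomputable def m6_1 : Nat := (nat_lit 0x10123)
noncomputable def m6_2 : Nat := (nat_lit 0xb080a)
noncomputable def m6_3 : Nat := (nat_lit 0x3c)
noncomputable def m6_4 : Nat := (nat_lit 0xb5)
noncomputable def m6_5 : Nat := (nat_lit 0x4)
noncomputable def m6_6 : Nat := (nat_lit 0xb0200)
noncomputable def m6_7 : Nat := (nat_lit 0x10300)
noncomputable def m6_8 : Nat := (nat_lit 0x110400)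
noncomputable def net6 : Net := (.cons (nat_lit 1) m6_0 (.cons (nat_lit 2) m6_1 (.cons (nat_lit 4) m6_2 (.cons (nat_lit 8) m6_3 (.cons (nat_lit 16) m6_4 (.cons (nat_lit 8) m6_5 (.cons (nat_lit 4) m6_6 (.cons (nat_lit 2) m6_7 (.cons (nat_lit 1) m6_8 .nil)))))))))
theorem valid6 : net6.Valid 24 := valid_of_validB _ (by decide +kernel)
noncomputable def net7 : Net := .nil
theorem valid7 : net7.Valid 24 := valid_of_validB _ (by decide +kernel)
noncomputable def net8 : Net := .nil
theorem valid8 : net8.Valid 24 := valid_of_validB _ (by decide +kernel)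
noncomputable def m9_0 : Nat := (nat_lit 0x141001)
noncomputable def m9_1 : Nat := (nat_lit 0x131210)
noncomputable def m9_2 : Nat := (nat_lit 0x90b0d)
noncomputable def m9_3 : Nat := (nat_lit 0xd3)
noncomputable def m9_4 : Nat := (nat_lit 0xf8)
noncomputable def m9_5 : Nat := (nat_lit 0xc0)
noncomputable def m9_6 : Nat := (nat_lit 0x70200)
noncomputable def m9_7 : Nat := (nat_lit 0x201120)
noncomputable def m9_8 : Nat := (nat_lit 0x511440)
noncomputable def net9 : Net := (.cons (nat_lit 1) m9_0 (.cons (nat_lit 2) m9_1 (.cons (nat_lit 4) m9_2 (.cons (nat_lit 8) m9_3 (.cons (nat_lit 16) m9_4 (.cons (nat_lit 8) m9_5 (.cons (nat_lit 4) m9_6 (.cons (nat_lit 2) m9_7 (.cons (nat_lit 1) m9_8 .nil)))))))))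
theorem valid9 : net9.Valid 24 := valid_of_validB _ (by decide +kernel)
noncomputable def m10_0 : Nat := (nat_lit 0x545051)
noncomputable def m10_1 : Nat := (nat_lit 0x23011)
noncomputable def m10_2 : Nat := (nat_lit 0x40c01)
noncomputable def m10_3 : Nat := (nat_lit 0xab)
noncomputable def m10_4 : Nat := (nat_lit 0x5e)
noncomputable def m10_5 : Nat := (nat_lit 0x46)
noncomputable def m10_6 : Nat := (nat_lit 0x20100)
noncomputable def m10_7 : Nat := (nat_lit 0x10)
noncomputable def m10_8 : Nat := (nat_lit 0x11114)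
noncomputable def net10 : Net := (.cons (nat_lit 1) m10_0 (.cons (nat_lit 2) m10_1 (.cons (nat_lit 4) m10_2 (.cons (nat_lit 8) m10_3 (.cons (nat_lit 16) m10_4 (.cons (nat_lit 8) m10_5 (.cons (nat_lit 4) m10_6 (.cons (nat_lit 2) m10_7 (.cons (nat_lit 1) m10_8 .nil)))))))))
theorem valid10 : net10.Valid 24 := valid_of_validB _ (by decide +kernel)
noncomputable def m11_0 : Nat := (nat_lit 0x44110)
noncomputable def m11_1 : Nat := (nat_lit 0x330323)
noncomputable def m11_2 : Nat := (nat_lit 0xa0904)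
noncomputable def m11_3 : Nat := (nat_lit 0xa4)
noncomputable def m11_4 : Nat := (nat_lit 0x7f)
noncomputable def m11_5 : Nat := (nat_lit 0x47)
noncomputable def m11_6 : Nat := (nat_lit 0x60300)
noncomputable def m11_7 : Nat := (nat_lit 0x222210)
noncomputable def m11_8 : Nat := (nat_lit 0x454414)
noncomputable def net11 : Net := (.cons (nat_lit 1) m11_0 (.cons (nat_lit 2) m11_1 (.cons (nat_lit 4) m11_2 (.cons (nat_lit 8) m11_3 (.cons (nat_lit 16) m11_4 (.cons (nat_lit 8) m11_5 (.cons (nat_lit 4) m11_6 (.cons (nat_lit 2) m11_7 (.cons (nat_lit 1) m11_8 .nil)))))))))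
theorem valid11 : net11.Valid 24 := valid_of_validB _ (by decide +kernel)
noncomputable def m12_0 : Nat := (nat_lit 0x400010)
noncomputable def m12_1 : Nat := (nat_lit 0x230010)
noncomputable def m12_2 : Nat := (nat_lit 0x6010c)
noncomputable def m12_3 : Nat := (nat_lit 0x92)
noncomputable def m12_4 : Nat := (nat_lit 0xa1)
noncomputable def m12_5 : Nat := (nat_lit 0x80)
noncomputable def m12_6 : Nat := (nat_lit 0x20100)
noncomputable def m12_7 : Nat := (nat_lit 0x230010)
noncomputable def m12_8 : Nat := (nat_lit 0x400010)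
noncomputable def net12 : Net := (.cons (nat_lit 1) m12_0 (.cons (nat_lit 2) m12_1 (.cons (nat_lit 4) m12_2 (.cons (nat_lit 8) m12_3 (.cons (nat_lit 16) m12_4 (.cons (nat_lit 8) m12_5 (.cons (nat_lit 4) m12_6 (.cons (nat_lit 2) m12_7 (.cons (nat_lit 1) m12_8 .nil)))))))))
theorem valid12 : net12.Valid 24 := valid_of_validB _ (by decide +kernel)
noncomputable def m13_0 : Nat := (nat_lit 0x145115)
noncomputable def m13_1 : Nat := (nat_lit 0x110111)
noncomputable def m13_2 : Nat := (nat_lit 0x90a08)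
noncomputable def m13_3 : Nat := (nat_lit 0xc6)
noncomputable def m13_4 : Nat := (nat_lit 0xfd)
noncomputable def m13_5 : Nat := (nat_lit 0xc1)
noncomputable def m13_6 : Nat := (nat_lit 0x400)
noncomputable def m13_7 : Nat := (nat_lit 0x231220)
noncomputable def m13_8 : Nat := (nat_lit 0x54440)
noncomputable def net13 : Net := (.cons (nat_lit 1) m13_0 (.cons (nat_lit 2) m13_1 (.cons (nat_lit 4) m13_2 (.cons (nat_lit 8) m13_3 (.cons (nat_lit 16) m13_4 (.cons (nat_lit 8) m13_5 (.cons (nat_lit 4) m13_6 (.cons (nat_lit 2) m13_7 (.cons (nat_lit 1) m13_8 .nil)))))))))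
theorem valid13 : net13.Valid 24 := valid_of_validB _ (by decide +kernel)

end Cfsg.Agent.Lib.J4M
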