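import Cfsg.Agent.Lib.J4MN0

set_option autoImplicit false
set_option maxRecDepth 100000

namespace Cfsg.Agent.Lib.J4M
open Cfsg.Agent.Lib.PermNet

noncomputable def nets : NL := (.cons net0 (.cons net1 (.cons net2 (.cons net3 (.cons net4 (.cons net5 (.cons net6 (.cons net7 (.cons net8 (.cons net9 (.cons net10 (.cons net11 (.cons net12 (.cons net13 .nil))))))))))))))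

theorem hv : nets.Valid 24 := ⟨valid0, ⟨valid1, ⟨valid2, ⟨valid3, ⟨valid4, ⟨valid5, ⟨valid6, ⟨valid7, ⟨valid8, ⟨valid9, ⟨valid10, ⟨valid11, ⟨valid12, ⟨valid13, trivial⟩⟩⟩⟩⟩⟩⟩⟩⟩⟩⟩⟩⟩⟩

def rels0 : List (List Nat × List Nat) := [([0], [1]),
  ([2, 2], [3]),
  ([0, 2, 0, 2, 0, 2, 0, 2, 0, 2, 0, 2, 0, 2, 0, 2, 0, 2, 0, 2, 0, 2, 0], [3, 1, 3, 1, 3, 1, 3, 1, 3, 1, 3, 1, 3, 1, 3, 1, 3, 1, 3, 1, 3, 1, 3]),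
  ([1, 3, 0, 2, 1, 3, 0, 2, 1, 3, 0, 2, 1, 3, 0, 2, 1, 3, 0, 2, 1, 3, 0, 2], [3, 1, 2, 0, 3, 1, 2, 0, 3, 1, 2, 0, 3, 1, 2, 0, 3, 1, 2, 0, 3, 1, 2, 0]),
  ([1, 3, 1, 3, 0, 2, 0, 2, 1, 3, 1, 3, 0, 2, 0, 2, 1, 3, 1, 3], [3, 1, 3, 1, 2, 0, 2, 0, 3, 1, 3, 1, 2, 0, 2, 0, 3, 1, 3, 1]),
  ([0, 2, 0, 2, 0, 3, 0, 2, 0, 3, 0, 2, 0, 3, 0, 2, 0, 2, 0, 3, 0, 2, 0, 3, 0, 2, 0, 3], [2, 1, 3, 1, 2, 1, 3, 1, 2, 1, 3, 1, 3, 1, 2, 1, 3, 1, 2, 1, 3, 1, 2, 1, 3, 1, 3, 1]),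
  ([0, 2, 0, 2, 0, 3, 0, 2, 0, 2, 0, 3, 0, 2, 0, 2, 0, 3], [2, 1, 2, 1, 3, 1, 2, 1, 2, 1, 3, 1, 2, 1, 2, 1, 3, 1]),
  ([5, 0, 3, 0, 2, 0, 2, 0, 3, 0, 3, 0, 3, 0, 2, 0, 2, 0, 3, 0, 3, 0, 2, 0, 3, 0, 2, 0], [1, 2, 1, 2, 1, 3, 1, 3, 1, 3, 1, 2, 1, 2, 1, 2, 1, 3, 1, 3, 1, 3, 1, 3, 1, 2, 1, 3]),
  ([7, 3, 0, 2, 0, 3, 0, 3, 0, 2, 0, 3, 0, 2, 0, 2, 0, 2, 0, 3, 0, 2, 0], [2, 1, 3, 1, 3, 1, 2, 1, 2, 1, 3, 1, 2, 1, 2, 1, 2, 1, 2, 1, 2, 1, 2]),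
  ([9, 2, 0, 3, 0, 3, 0, 3, 0, 3, 0, 3, 0, 2, 0, 2, 0, 3, 0, 3, 0, 2, 0, 3, 0, 3, 0], [3, 1, 3, 1, 2, 1, 3, 1, 3, 1, 3, 1, 3, 1, 3, 1, 2, 1, 3, 1, 3, 1, 3, 1, 3, 1, 3]),
  ([11, 0, 2, 0, 3, 0, 3, 0, 3, 0, 2, 0, 3, 0, 2, 0, 2, 0, 2, 0, 3, 0, 3], [2, 1, 2, 1, 3, 1, 3, 1, 3, 1, 2, 1, 3, 1, 2, 1, 2, 1, 2, 1, 3, 1]),
  ([13, 0, 3, 0, 3, 0, 3, 0, 3, 0, 2, 0, 3, 0, 2, 0, 3, 0, 3, 0, 3, 0, 2, 0, 3, 0, 3], [2, 1, 3, 1, 3, 1, 3, 1, 3, 1, 3, 1, 2, 1, 3, 1, 3, 1, 2, 1, 2, 1, 2, 1, 2, 1]),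
  ([19, 2, 0, 2, 0, 3, 0, 3, 0, 2, 0, 2, 0, 2, 0, 3, 0, 3, 0, 3, 0, 2, 0, 2, 0, 3, 0, 3, 0, 3, 0, 3, 0, 3, 0, 2, 0, 2, 0, 3, 0, 3, 0, 2, 0, 2, 0, 3, 0, 3, 0, 2, 0, 2, 0, 2, 0, 3, 0, 3, 0, 3, 0, 2, 0, 2, 0, 3, 0], [3, 1, 3, 1, 3, 1, 2, 1, 2, 1, 3, 1, 3, 3, 1, 3, 1, 3, 1, 2, 1, 2, 1, 3, 1, 3, 1, 3, 1, 3, 1, 3, 1, 2, 1, 2, 1, 3, 1, 3, 1, 3, 1, 3, 1, 3, 1, 2, 1, 2, 1, 3, 1, 3, 3, 1, 3, 1, 3, 1, 2, 1, 2, 1, 3, 1, 3, 1, 2]),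
  ([21, 2, 0, 2, 0, 3, 0, 3, 0, 2, 0, 2, 0, 2, 0, 2, 0, 2, 0, 3, 0, 3, 0, 2, 0, 2, 0, 2, 0, 3, 0, 3, 0, 3, 0, 2, 0, 2, 0, 3, 0, 3, 0, 3, 0, 3, 0, 3, 0, 2, 0, 2, 0, 3, 0, 3, 0, 3, 0, 3, 0, 3, 0, 2, 0, 2, 0, 3, 0], [2, 1, 2, 1, 3, 1, 3, 1, 2, 1, 2, 1, 2, 1, 3, 1, 3, 1, 3, 1, 2, 1, 2, 1, 3, 1, 3, 3, 1, 3, 1, 3, 1, 2, 1, 2, 1, 3, 1, 3, 1, 3, 1, 3, 1, 3, 1, 2, 1, 2, 1, 3, 1, 3, 3, 1, 3, 1, 3, 1, 2, 1, 2, 1, 3, 1, 3, 1, 2]),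
  ([23, 2, 0, 2, 0, 3, 0, 3, 0, 2, 0, 2, 0, 2, 0, 2, 0, 2, 0, 3, 0, 3, 0, 2, 0, 2, 0, 2, 2, 0, 2, 0, 3, 0, 3, 0, 2, 0, 2, 0, 2, 0, 2, 0, 2, 0, 3, 0, 3, 0, 2, 0, 2, 0, 2, 0, 2, 0, 2, 0, 3, 0, 3, 0, 2, 0, 2, 0, 2, 2, 0, 2, 0, 3, 0, 3], [3, 1, 3, 1, 3, 1, 2, 1, 2, 1, 3, 1, 3, 1, 3, 1, 3, 1, 3, 1, 2, 1, 2, 1, 3, 1, 3, 3, 1, 3, 1, 3, 1, 2, 1, 2, 1, 3, 1, 3, 1, 2, 1, 2, 1, 3, 1, 3, 1, 2, 1, 2, 1, 2, 1, 2, 1, 2, 1, 3, 1, 3, 1, 2, 1, 2, 1, 2, 1, 3, 1, 3, 1, 3, 1]),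
  ([25, 0, 2, 0, 2, 0, 3, 0, 3, 0, 2, 0, 2, 0, 2, 0, 2, 0, 2, 0, 3, 0, 3, 0, 2, 0, 2, 0, 2, 0, 3, 0, 3, 0, 3, 0, 2, 0, 2, 0, 3, 0, 3, 0, 2, 0, 2, 0, 3, 0, 3, 0, 2, 0, 2, 0, 2, 0, 2, 0, 2, 0, 3, 0], [2, 1, 2, 1, 3, 1, 3, 1, 2, 1, 2, 1, 2, 1, 3, 1, 3, 1, 3, 1, 2, 1, 2, 1, 3, 1, 3, 1, 3, 1, 3, 1, 3, 1, 2, 1, 2, 1, 3, 1, 3, 1, 2, 1, 2, 1, 3, 1, 3, 1, 2, 1, 2, 1, 2, 1, 3, 1, 3, 1, 3, 1, 2]),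
  ([27, 2, 0, 2, 0, 3, 0], [3, 1, 3, 1, 3, 1, 2]),
  ([10], [11]),
  ([4, 4], [5]),
  ([6, 6], [7]),
  ([8, 8], [9, 9]),
  ([4, 6, 8], [9, 7, 5]),
  ([4, 8, 10], [11, 4, 8]),
  ([4, 4, 7, 9, 6], [8, 5, 8, 8]),
  ([4, 6, 10, 8, 4], [11, 9, 7, 11]),
  ([4, 6, 9, 5, 8], [8, 5, 9, 6]),
  ([4, 7, 8, 6, 5], [8, 5, 9, 9]),
  ([6, 6, 8, 7, 8], [9, 6, 9, 6]),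
  ([4, 4, 8, 8, 7], [9, 5, 7, 9]),
  ([6, 10, 7, 9, 9], [11, 8, 11, 8]),
  ([24], [25]),
  ([22, 22], [23]),
  ([18, 18], [19, 19]),
  ([20, 20], [21, 21]),
  ([18, 20, 19], [21, 22]),
  ([18, 20, 19], [21, 23, 23]),
  ([20, 20, 24], [25, 21, 21]),
  ([20, 20, 24], [25, 20, 20]),
  ([22, 24, 22], [25, 23, 25]),
  ([18, 24, 19, 21, 24], [21, 25, 18, 25, 19]),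
  ([18, 20, 23, 18, 20], [22, 19, 23, 20, 22]),
  ([18, 18, 18, 20, 18], [23, 19, 21, 18, 23]),
  ([18, 21, 23, 24, 22], [25, 23, 20, 25, 18]),
  ([18, 20, 22, 18, 23], [23, 21, 21, 22, 19]),
  ([18, 21, 21, 22, 18], [20, 23, 23, 19, 22]),
  ([18, 20, 18, 21, 23], [23, 23, 19, 22, 21]),
  ([18, 18, 18, 20, 18], [25, 19, 20, 18, 25]),
  ([12, 12], [13]),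
  ([4, 6, 13, 7, 10, 6], [11, 4, 6, 13, 11]),
  ([4, 8, 4, 10, 8, 4], [9, 11, 5, 11, 9]),
  ([4, 8, 4, 13, 10, 8], [9, 13, 11, 8, 11]),
  ([4, 4, 9, 7, 8, 8], [8, 8, 5, 9, 7]),
  ([4, 6, 5, 8, 7, 5], [9, 9, 6, 5, 9]),
  ([4, 4, 10, 4, 13, 5], [13, 8, 11, 4, 8]),
  ([4, 7, 4, 7, 9, 7], [8, 7, 9, 6, 8]),
  ([6, 6, 8, 7, 8, 12], [12, 9, 6, 9, 6]),
  ([4, 4, 9, 5, 9, 9], [6, 5, 6, 8, 6]),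
  ([4, 4, 8, 8, 5, 6], [8, 8, 5, 6, 4]),
  ([4, 7, 12, 5, 9, 12], [9, 6, 13, 8, 4]),
  ([4, 6, 5, 7, 7, 8], [8, 8, 5, 7, 9]),
  ([4, 4, 6, 9, 7, 4], [9, 7, 9, 7, 8]),
  ([4, 8, 5, 9, 9, 10], [7, 11, 9, 11, 6]),
  ([4, 12, 6, 8, 7, 13], [6, 11, 12, 7, 4]),
  ([4, 7, 8, 6, 9, 6], [9, 7, 8, 7, 4]),
  ([4, 6, 9, 6, 8, 6], [8, 7, 4, 8, 4]),
  ([4, 7, 8, 4, 8, 4], [6, 8, 7, 7, 8]),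
  ([19, 26, 0, 27, 0, 27, 0, 26, 0], [27, 27, 1, 27, 1, 27, 27, 1, 26]),
  ([21, 26, 0, 26, 0, 27, 0, 27, 0], [26, 1, 27, 27, 1, 27, 27, 1, 26]),
  ([23, 26, 0, 26, 26, 0, 26, 0, 26, 26], [27, 1, 27, 27, 1, 26, 1, 26, 1]),
  ([25, 0, 26, 0, 26, 0, 27, 0, 26, 0], [26, 1, 27, 1, 27, 1, 26, 1, 27]),
  ([12, 5, 9, 1, 10, 0, 8, 4], [23, 20, 19, 20, 25, 19, 12]),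
  ([12, 5, 9, 1, 11, 0, 8, 4], [18, 24, 21, 18, 21, 22, 12]),
  ([12, 5, 9, 1, 8, 4, 0, 8, 4], [25, 20, 23, 19, 22, 25, 18, 12]),
  ([12, 5, 9, 1, 5, 9, 0, 8, 4], [19, 24, 23, 18, 22, 21, 24, 12]),
  ([12, 5, 9, 1, 4, 8, 5, 0, 8], [21, 18, 22, 21, 25, 19, 19, 12, 5]),
  ([12, 5, 9, 1, 4, 9, 5, 0, 8], [18, 18, 24, 20, 23, 19, 20, 12, 5]),
  ([12, 5, 9, 1, 4, 6, 8, 0, 8, 4], [23, 19, 22, 21, 25, 18, 23, 19, 12]),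
  ([12, 5, 9, 1, 9, 7, 5, 0, 8, 4], [18, 22, 19, 24, 20, 23, 18, 22, 12]),
  ([12, 5, 9, 1, 8, 6, 8, 6, 0, 8, 4, 13, 22, 21, 18, 20, 2, 0, 3], [22, 21, 18, 20, 2, 0, 3, 0, 2, 0, 3, 0, 3, 1, 2, 1, 3, 1]),
  ([12, 5, 18, 24, 19, 4, 13, 21], [23, 18, 20, 25, 18, 22, 25]),
  ([12, 5, 18, 25, 19, 4, 13, 23], [21, 24, 23, 19, 24, 21, 19]),
  ([12, 5, 21, 24, 20, 4, 13], [22, 21, 21, 19, 20, 25, 18]),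
  ([12, 5, 21, 25, 20, 4, 13], [19, 24, 21, 18, 20, 20, 23]),
  ([12, 5, 18, 23, 18, 20, 4, 13], [19, 21, 25, 18, 20, 25, 22]),
  ([12, 5, 21, 19, 22, 19, 4, 13], [23, 24, 21, 19, 24, 20, 18]),
  ([12, 5, 21, 22, 20, 22, 4, 13], [23, 20, 19, 21, 19, 25, 21]),
  ([12, 5, 23, 21, 23, 20, 4, 13], [20, 24, 18, 20, 18, 21, 22]),
  ([12, 5, 19, 22, 21, 4, 13, 22, 21, 18, 23, 2, 0, 3, 0, 2], [22, 21, 18, 23, 2, 0, 3, 0, 2, 0, 3, 0, 3, 1, 2, 1]),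
  ([12, 5, 21, 4, 13, 19, 19, 25, 21, 19, 20, 3, 3, 1, 3, 1, 3, 1], [19, 25, 20, 23, 0, 2, 0, 2, 0, 2, 2, 0, 2, 0, 2, 0, 2]),
  ([12, 5, 23, 19, 21, 19, 25, 21, 23, 20, 4, 13, 19, 25, 20, 23, 0, 2, 0, 2, 0, 2, 2, 0, 2, 0, 2, 0, 2, 0, 2, 0], [19, 22, 18, 25, 18, 22, 25, 3, 1, 3, 1, 3, 1, 3, 3, 1, 3, 1, 3, 1, 3, 3, 1, 3, 1, 3, 1, 3, 3, 3, 1, 3]),
  ([12, 5, 21, 4, 13, 19, 22, 18, 25, 18, 22, 25, 3, 3, 1, 3, 1, 3, 1], [23, 25, 22, 19, 20, 23, 0, 2, 0, 2, 0, 2, 2, 0, 2, 0, 2, 0, 2]),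
  ([12, 5, 23, 19, 21, 19, 25, 21, 23, 20, 4, 13, 23, 25, 22, 19, 20, 23, 0, 2, 0, 2, 0, 2, 2, 0, 2, 0, 2, 0, 2, 0, 2], [19, 19, 25, 21, 19, 20, 3, 1, 3, 1, 3, 1, 3, 3, 1, 3, 1, 3, 1, 3, 3, 1, 3, 1, 3, 1, 3, 3, 3, 1, 3, 1]),
  ([12, 5, 9, 1, 7, 9, 2, 1, 2, 1, 3, 1], [18, 21, 21, 18, 21, 25, 19, 2, 0, 2, 0, 2]),
  ([12, 5, 9, 1, 6, 8, 6, 0, 8, 4, 13, 18, 21, 21, 18, 21, 25, 19, 2, 0, 2, 0, 2], [18, 20, 23, 25, 19, 25, 18, 2, 0, 2, 0, 2, 0, 2, 0, 3, 0, 3, 1, 2, 1, 3, 1]),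
  ([12, 5, 9, 1, 4, 7, 7, 0, 8, 4, 13, 18, 20, 23, 25, 19, 25, 18, 2, 0, 2, 0, 2], [21, 18, 25, 23, 19, 19, 2, 0, 2, 0, 2, 0, 2, 0, 3, 0, 3, 1, 2, 1, 3, 1]),
  ([6, 5, 0, 8, 4, 13, 21, 18, 25, 23, 19], [1, 2, 1, 3, 1, 3, 1, 3, 1, 3, 18]),
  ([12, 5, 19, 23, 21, 9, 2, 0, 12, 9, 7, 11, 9, 6, 2], [25, 21, 21, 22, 2, 0, 2, 0, 2, 0, 2, 0, 3, 0]),
  ([12, 5, 19, 22, 18, 4, 13, 25, 21, 21, 22, 2, 0, 2, 0, 2, 0, 2, 0, 3], [20, 22, 20, 23, 25, 19, 23, 2, 0, 2, 0, 2, 0, 2, 0, 3, 0, 3, 1]),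
  ([12, 5, 19, 25, 19, 20, 18, 4, 13, 20, 22, 20, 23, 25, 19, 23, 2, 0, 2, 0, 2, 0], [22, 21, 22, 20, 25, 18, 2, 0, 2, 0, 2, 0, 2, 0, 3, 0, 3, 1, 2, 1, 3]),
  ([13, 1, 3, 8, 18, 24, 18, 4, 13, 22, 21, 22, 20, 25, 18], [9, 7, 11, 9, 6, 1, 2, 1, 3, 1, 3, 1, 3, 1, 3]),
  ([12, 5, 19, 22, 6, 12, 2, 12, 11, 8, 4, 11, 9, 2, 1], [19, 25, 23, 19, 19, 20, 2, 0, 2, 0, 2, 0, 2, 0, 3]),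
  ([12, 5, 19, 23, 25, 23, 18, 4, 13, 19, 25, 23, 19, 19, 20, 2, 0, 2, 0, 2, 0], [22, 25, 18, 23, 18, 23, 2, 0, 2, 0, 2, 0, 2, 0, 3, 0, 3, 1, 2, 1, 3]),
  ([12, 5, 19, 24, 22, 18, 4, 13, 22, 25, 18, 23, 18, 23, 2, 0, 2, 0, 2, 0, 2], [25, 23, 21, 18, 25, 23, 20, 2, 0, 2, 0, 2, 0, 2, 0, 3, 0, 3, 1, 2, 1]),
  ([13, 3, 13, 7, 18, 4, 13, 25, 23, 21, 18, 25, 23, 20, 2], [11, 8, 4, 11, 9, 1, 2, 1, 3, 1, 3, 1, 3, 1]),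
  ([12, 5, 23, 2, 0, 9, 0, 5, 6, 4, 6, 2, 1, 2, 1], [23, 25, 22, 21, 23, 20, 25, 2, 0, 2, 0, 2, 0, 2]),
  ([12, 5, 22, 19, 22, 25, 22, 4, 13, 23, 25, 22, 21, 23, 20, 25, 2, 0, 2, 0, 2], [22, 25, 20, 19, 2, 0, 2, 0, 2, 0, 2, 0, 3, 0, 3, 1, 2, 1, 3, 1]),
  ([12, 5, 21, 24, 23, 18, 23, 4, 13, 22, 25, 20, 19, 2, 0, 2, 0, 2, 0, 2], [20, 18, 22, 21, 25, 18, 2, 0, 2, 0, 2, 0, 2, 0, 3, 0, 3, 1, 2, 1]),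
  ([1, 8, 1, 3, 20, 4, 13, 20, 18, 22, 21, 25, 18, 2], [5, 6, 4, 6, 1, 2, 1, 3, 1, 3, 1, 3, 1]),
  ([11], [10]),
  ([13, 4, 10, 5], [9, 7, 5, 13]),
  ([13, 4, 11, 5], [4, 6, 8, 13]),
  ([13, 9, 4, 8, 12, 4, 6], [11, 4, 9, 11, 8, 6, 4]),
  ([13, 9, 5, 8, 12, 11, 4], [4, 6, 5, 7, 9, 10, 8]),
  ([13, 4, 6, 8, 12], [9, 7, 11, 5]),
  ([13, 9, 7, 5, 12], [4, 10, 6, 8]),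
  ([13, 7, 8, 6, 5, 12], [7, 8, 6, 11, 5]),
  ([13, 4, 7, 9, 6, 12], [4, 10, 7, 9, 6]),
  ([12, 5, 8, 7, 13, 1, 3, 8, 6, 12], [11, 4, 11, 7, 5, 7, 4, 13, 3]),
  ([13, 11, 11, 4, 11, 7, 5, 7, 4, 13, 3, 13, 7], [8, 11, 6, 11, 9, 11, 9, 9, 1, 8, 1, 3]),
  ([13, 10, 12, 8, 11, 6, 11, 9, 11, 9, 9], [5, 8, 7, 13, 1, 3, 8, 2, 0, 9, 0]),
  ([13, 5, 9, 12, 5, 7, 4, 11, 13, 1, 3], [4, 6, 5, 11, 5, 9, 13, 3, 13, 7, 9]),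
  ([13, 4, 9, 11, 4, 4, 12, 4, 6, 5, 11, 5, 9, 13], [4, 7, 11, 8, 7, 5, 8, 1, 8, 1, 3, 6, 12, 2]),
  ([13, 8, 5, 10, 8, 5, 12, 4, 7, 11, 8, 7, 5], [5, 7, 4, 11, 13, 1, 3, 8, 2, 0, 9, 0, 9]),
  ([13, 5, 8, 7, 1, 3, 8, 6, 12, 2], [7, 8, 7, 9, 11, 9, 7, 5, 13]),
  ([13, 11, 5, 6, 6, 9, 4, 12, 7, 8, 7, 9, 11, 9, 7, 5], [5, 9, 11, 6, 5, 6, 11, 1, 8, 1, 3, 6, 12, 2, 12]),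
  ([13, 7, 4, 10, 12, 5, 9, 11, 6, 5], [13, 1, 3, 8, 2, 0, 9, 0, 10, 7]),
  ([13, 7, 5, 6, 11, 5, 13, 1, 3, 8], [11, 9, 4, 11, 9, 4, 13, 3, 13, 7]),
  ([13, 11, 9, 4, 11, 9, 4, 13, 3, 13, 7], [7, 4, 6, 11, 5, 7, 9, 1, 8, 1, 3]),
  ([13, 7, 4, 6, 11, 5, 7, 9, 1, 8, 1], [7, 5, 6, 11, 5, 13, 1, 3, 8, 2]),
  ([3, 0, 4, 12, 5], [18, 6, 12, 1, 7]),
  ([6, 12, 1, 7, 4], [19, 3, 0, 4, 12]),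
  ([2, 7, 0, 6, 4], [20, 5, 3, 11]),
  ([5, 3, 11, 5, 7], [21, 2, 7, 0]),
  ([3, 8, 8, 13, 7], [22, 4, 12, 1, 3]),
  ([4, 12, 1, 3, 6], [23, 3, 8, 8, 13]),
  ([3, 9, 6, 0, 9], [25, 5, 9, 13, 3]),
  ([5, 9, 13, 3, 8], [24, 3, 9, 6, 0]),
  ([4, 0, 7, 11, 7, 13, 3, 13], [25, 21, 22, 21, 25, 12, 5, 6]),
  ([0, 5, 25, 21, 22, 21, 25, 12], [7, 11, 7, 13, 3, 13, 7, 4]),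
  ([4, 0, 2, 10, 3, 7, 11, 7, 13, 3, 13, 7], [25, 21, 22, 21, 25, 12, 5, 23, 19, 24, 18, 22]),
  ([1, 5, 25, 21, 22, 21, 25, 12], [7, 11, 7, 13, 3, 13, 7, 4]),
  ([2, 1, 3, 1, 2, 1, 3, 1], [2, 0, 3, 0, 2, 0, 3, 0]),
  ([1, 2, 1, 2, 1, 2, 2, 1, 2, 1, 2, 1, 2, 1, 2, 1, 2, 1], [0, 2, 0, 2, 0, 2, 2, 0, 2, 0, 2, 0, 2, 0, 2, 0, 2, 0]),
  ([1, 4, 13, 6, 10, 4], [4, 13, 9, 6, 4, 9]),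
  ([3, 7, 10, 4], [7, 4, 6])]
def rels : List (List Nat × List Nat) := rels0

end Cfsg.Agent.Lib.J4M
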