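import Cfsg.Agent.Lib.J4R0

/-! The relators needed for the subgroup `2¹¹:M₂₄` of the presented fourth Janko group. -/

set_option autoImplicit false
set_option maxRecDepth 100000

namespace Cfsg.Agent.Lib.J4R

open Cfsg.Agent.Lib.PermNet Cfsg.Agent.Lib.Words Cfsg.Agent.Lib.PermGroup Cfsg.Agent.Lib.DCE Cfsg.Agent.Lib.J4R0

def A0 : List (List ℕ) := K0 ++ RM

theorem hA0 : ∀ w ∈ A0, wval F w = 1 := all_append hK0 hRM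

def B0 : List (List ℕ) := ([[26, 0, 27, 0, 27, 0, 26, 0, 27, 0, 26, 26, 0, 26, 0, 26, 26], [26, 0, 26, 0, 27, 0, 27, 0, 27, 0, 26, 26, 0, 26, 26, 0, 27], [26, 0, 26, 26, 0, 26, 0, 26, 26, 0, 27, 0, 27, 0, 26, 26, 0, 26], [0, 26, 0, 26, 0, 27, 0, 26, 0, 26, 0, 27, 0, 26, 0, 26, 0, 27]] : List (List ℕ)).map
  fun u => u ++ 2 * 8 :: (invW u ++ [2 * 8 + 1])

theorem hB0 : ∀ w ∈ B0, wval F w = 1 :=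
  comm_words hA0 8 [0, 13] _ (by decide +kernel)

def A1 : List (List ℕ) := A0 ++ B0

theorem hA1 : ∀ w ∈ A1, wval F w = 1 := all_append hA0 hB0

def B1 : List (List ℕ) := [[18, 16, 19, 17], [20, 16, 21, 17], [22, 16, 23, 17], [24, 16, 25, 17]]

theorem hB1 : ∀ w ∈ B1, wval F w = 1 :=
  deriveP [] hA1 _
    [[([26, 0, 27, 0, 27, 0, 26, 0, 27, 0, 26, 26, 0, 26, 0, 26, 26], 155), ([26, 0, 27, 0, 27, 0, 26, 0, 27, 0, 26, 26, 0, 26, 0, 26, 26, 16], 154), ([], 312)],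
  [([26, 0, 26, 0, 27, 0, 27, 0, 27, 0, 26, 26, 0, 26, 26, 0, 27], 157), ([26, 0, 26, 0, 27, 0, 27, 0, 27, 0, 26, 26, 0, 26, 26, 0, 27, 16], 156), ([], 314)],
  [([26, 0, 26, 26, 0, 26, 0, 26, 26, 0, 27, 0, 27, 0, 26, 26, 0, 26], 159), ([26, 0, 26, 26, 0, 26, 0, 26, 26, 0, 27, 0, 27, 0, 26, 26, 0, 26, 16], 158), ([], 316)],
  [([0, 26, 0, 26, 0, 27, 0, 26, 0, 26, 0, 27, 0, 26, 0, 26, 0, 27], 161), ([0, 26, 0, 26, 0, 27, 0, 26, 0, 26, 0, 27, 0, 26, 0, 26, 0, 27, 16], 160), ([], 318)]] (by decide +kernel)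

def A2 : List (List ℕ) := A1 ++ B1

theorem hA2 : ∀ w ∈ A2, wval F w = 1 := all_append hA1 hB1

def B2 : List (List ℕ) := ([[18, 24, 21, 18, 21, 22], [19, 24, 23, 18, 22, 21, 24], [18, 18, 24, 20, 23, 19, 20], [18, 22, 19, 24, 20, 23, 18, 22], [21, 19, 20, 23], [21, 24, 23, 19, 24, 21, 19, 22], [19, 24, 21, 18, 20, 20, 23], [23, 24, 21, 19, 24, 20, 18], [20, 24, 18, 20, 18, 21, 22], [22, 19, 20, 23], [21, 18, 20, 24, 18, 18], [22, 21, 24, 18], [24, 23, 19, 24, 19, 23, 18], [22, 21, 18, 23, 24, 22], [18, 24, 20, 19, 20, 20, 19], [19, 24, 18, 24, 22, 21, 19], [18, 18, 22, 24, 19, 20], [23, 20, 20, 24], [22, 18, 24, 22, 21, 23, 21], [19, 24, 21, 23, 20, 23], [21, 18, 18, 22, 24, 18], [22, 19, 22, 19, 24, 23], [21, 22, 24, 19,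 20, 22, 24], [24, 21, 22, 20, 23, 24, 22], [18, 21, 24, 23], [19, 24, 20, 23, 19, 21], [19], [21], [23], [24], [24, 20, 23, 20, 24]] : List (List ℕ)).map
  fun u => u ++ 2 * 8 :: (invW u ++ [2 * 8 + 1])

theorem hB2 : ∀ w ∈ B2, wval F w = 1 :=
  comm_words hA2 8 [9, 10, 11, 12] _ (by decide +kernel)

def A3 : List (List ℕ) := A2 ++ B2

theorem hA3 : ∀ w ∈ A3, wval F w = 1 := all_append hA2 hB2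

def B3 : List (List ℕ) := [[28, 28], [10, 28, 11, 28], [8, 4, 28, 5, 9, 28], [4, 8, 5, 28, 4, 9, 5, 28], [4, 6, 8, 28, 9, 7, 5, 28], [7, 9, 7, 9, 28, 7, 9, 7, 9, 28, 7, 9, 7, 9, 28], [30, 30], [18, 24, 19, 30, 18, 25, 19, 30], [21, 24, 20, 30, 21, 25, 20, 30], [18, 23, 18, 20, 30, 21, 19, 22, 19, 30], [21, 22, 20, 22, 30, 23, 21, 23, 20, 30], [20, 23, 18, 30, 20, 23, 18, 30, 20, 23, 18, 30], [22, 20, 24, 18, 20, 18, 22, 30, 20, 30, 21, 22, 20, 24, 18, 20, 18, 22, 30, 20, 30, 21], [15, 8, 6, 28, 7, 9, 7, 28, 6, 6, 5, 28, 4, 7]]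

theorem hB3 : ∀ w ∈ B3, wval F w = 1 :=
  deriveP [8] hA3 _
    [[([0, 8, 4, 13, 16, 12, 5, 9, 1], 27), ([], 27)],
  [([10, 0, 8, 4, 13, 16, 12, 5, 9, 1], 27), ([10, 0, 8, 4, 13, 16, 12, 5, 9, 1, 11, 0, 8, 4, 13, 16, 12, 5, 9, 1], 27), ([10, 0, 8, 4, 13, 16, 18, 24, 21, 18, 21, 22], 163), ([10, 0, 8, 4, 13, 16, 18, 24, 21, 18, 21, 22, 16], 162), ([10, 0, 8, 4, 13, 18, 24, 21, 18, 21, 22, 16, 23, 20, 19, 20, 25, 19], 328)],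
  [([8, 4, 0, 8, 4, 13, 16, 12, 5, 9, 1], 27), ([8, 4, 0, 8, 4, 13, 16, 12, 5, 9, 1, 5, 9, 0, 8, 4, 13, 16, 12, 5, 9, 1], 27), ([8, 4, 0, 8, 4, 13, 16, 19, 24, 23, 18, 22, 21, 24], 167), ([8, 4, 0, 8, 4, 13, 16, 19, 24, 23, 18, 22, 21, 24, 16], 166), ([8, 4, 0, 8, 4, 13, 19, 24, 23, 18, 22, 21, 24, 16, 25, 20, 23, 19, 22, 25, 18], 330)],
  [([4, 8, 5, 0, 8, 4, 13, 16, 12, 5, 9, 1], 27), ([4, 8, 5, 0, 8, 4, 13, 16, 12, 5, 9, 1, 4, 9, 5, 0, 8, 4, 13, 16, 12, 5, 9, 1], 27), ([4, 8, 5, 0, 8, 4, 13, 16, 18, 18, 24, 20, 23, 19, 20], 171), ([4, 8, 5, 0, 8, 4, 13, 16, 18, 18, 24, 20, 23, 19, 20, 16], 170), ([4, 8, 5, 0, 8, 4, 13, 18, 18, 24, 20, 23, 19, 20, 16, 21, 18, 22, 21, 25, 19, 19], 332)],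
  [([4, 6, 8, 0, 8, 4, 13, 16, 12, 5, 9, 1], 27), ([4, 6, 8, 0, 8, 4, 13, 16, 12, 5, 9, 1, 9, 7, 5, 0, 8, 4, 13, 16, 12, 5, 9, 1], 27), ([4, 6, 8, 0, 8, 4, 13, 16, 18, 22, 19, 24, 20, 23, 18, 22], 175), ([4, 6, 8, 0, 8, 4, 13, 16, 18, 22, 19, 24, 20, 23, 18, 22, 16], 174), ([4, 6, 8, 0, 8, 4, 13, 18, 22, 19, 24, 20, 23, 18, 22, 16, 23, 19, 22, 21, 25, 18, 23, 19], 334)],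
  [([7, 9, 7, 9, 0, 8, 4, 13, 16, 12, 5, 9, 1], 27), ([7, 9, 7, 9, 0, 8, 4, 13, 16, 12, 5, 9, 1, 7, 9, 7, 9, 0, 8, 4, 13, 16, 12, 5, 9, 1], 27), ([7, 9, 7, 9, 0, 8, 4, 13, 16, 12, 5, 9, 1, 7, 9, 7, 9, 0, 8, 4, 13, 16, 12, 5, 9, 1, 7, 9, 7, 9, 0, 8, 4, 13, 16, 12, 5, 9, 1], 27), ([7, 9, 7, 9, 0, 8, 4, 13, 16, 22, 21, 18, 20, 2, 0, 3, 0, 2, 0, 3, 0, 2, 1, 2, 1, 3, 1, 2, 1, 3, 21, 19, 20, 23], 179), ([7, 9, 7, 9, 0, 8, 4, 13, 16, 22, 21, 18, 20, 2, 0, 3, 0, 2, 0, 3, 0, 2, 1, 2, 1, 3, 1, 2, 1, 3, 21, 19, 20, 23, 16, 22, 21, 18, 20, 2, 0, 3, 0, 2, 0, 3, 0, 2, 1, 2, 1, 3, 1, 2, 1, 3, 21, 19, 20, 23], 179), ([7, 9, 7, 9, 0, 8, 4, 13, 16, 22, 21, 18, 20, 2, 0, 3, 0, 2, 0, 3, 0, 2, 1, 2, 1, 3, 1, 2, 1, 3, 21, 19, 20, 23, 16, 22, 21,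 18, 20, 2, 0, 3, 0, 2, 0, 3, 0, 2, 1, 2, 1, 3, 1, 2, 1, 3, 21, 19, 20, 23, 16, 22, 21, 18, 20, 2, 0, 3, 0, 2, 0, 3, 0, 2, 1, 2, 1, 3, 1, 2, 1, 3, 21, 19, 20, 23], 179), ([7, 9, 7, 9, 0, 8, 4, 13, 22, 21, 18, 20], 336), ([7, 9, 7, 9, 0, 8, 4, 13, 22, 21, 18, 20, 16, 2, 0, 3, 0, 2, 0, 3, 0, 2, 1, 2, 1, 3, 1, 2, 1, 3], 336), ([7, 9, 7, 9, 0, 8, 4, 13, 22, 21, 18, 20, 16, 2, 0, 3, 0, 2, 0, 3, 0, 2, 1, 2, 1, 3, 1, 2, 1, 3, 16, 2, 0, 3, 0, 2, 0, 3, 0, 2, 1, 2, 1, 3, 1, 2, 1, 3], 336), ([7, 9, 7, 9, 0, 8, 4, 13, 22, 21, 18, 20, 2, 0, 3, 0, 2, 0, 3, 0, 3], 20)],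
  [([4, 13, 16, 12, 5], 29), ([], 29)],
  [([18, 24, 19, 4, 13, 16, 12, 5], 29), ([18, 24, 19, 4, 13, 16, 12, 5, 18, 25, 19, 4, 13, 16, 12, 5], 29), ([18, 24, 19, 4, 13, 16, 21, 24, 23, 19, 24, 21, 19, 22], 181), ([18, 24, 19, 4, 13, 16, 21, 24, 23, 19, 24, 21, 19, 22, 16], 180), ([18, 24, 19, 4, 13, 21, 24, 23, 19, 24, 21, 19, 22, 16, 23, 18, 20, 25, 18, 22, 25, 20], 338)],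
  [([21, 24, 20, 4, 13, 16, 12, 5], 29), ([21, 24, 20, 4, 13, 16, 12, 5, 21, 25, 20, 4, 13, 16, 12, 5], 29), ([21, 24, 20, 4, 13, 16, 19, 24, 21, 18, 20, 20, 23], 185), ([21, 24, 20, 4, 13, 16, 19, 24, 21, 18, 20, 20, 23, 16], 184), ([21, 24, 20, 4, 13, 19, 24, 21, 18, 20, 20, 23, 16, 22, 21, 21, 19, 20, 25, 18], 340)],
  [([18, 23, 18, 20, 4, 13, 16, 12, 5], 29), ([18, 23, 18, 20, 4, 13, 16, 12, 5, 21, 19, 22, 19, 4, 13, 16, 12, 5], 29), ([18, 23, 18, 20, 4, 13, 16, 23, 24, 21, 19, 24, 20, 18], 189), ([18, 23, 18, 20, 4, 13, 16, 23, 24, 21, 19, 24, 20, 18, 16], 188), ([18, 23, 18, 20, 4, 13, 23, 24, 21, 19, 24, 20, 18, 16, 19, 21, 25, 18, 20, 25, 22], 342)],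
  [([21, 22, 20, 22, 4, 13, 16, 12, 5], 29), ([21, 22, 20, 22, 4, 13, 16, 12, 5, 23, 21, 23, 20, 4, 13, 16, 12, 5], 29), ([21, 22, 20, 22, 4, 13, 16, 20, 24, 18, 20, 18, 21, 22], 193), ([21, 22, 20, 22, 4, 13, 16, 20, 24, 18, 20, 18, 21, 22, 16], 192), ([21, 22, 20, 22, 4, 13, 20, 24, 18, 20, 18, 21, 22, 16, 23, 20, 19, 21, 19, 25, 21], 344)],
  [([20, 23, 18, 4, 13, 16, 12, 5], 29), ([20, 23, 18, 4, 13, 16, 12, 5, 20, 23, 18, 4, 13, 16, 12, 5], 29), ([20, 23, 18, 4, 13, 16, 12, 5, 20, 23, 18, 4, 13, 16, 12, 5, 20, 23, 18, 4, 13, 16, 12, 5], 29), ([20, 23, 18, 4, 13, 16, 22, 21, 18, 23, 2, 0, 3, 0, 2, 0, 3, 0, 2, 1, 2, 1, 3, 1, 2, 1, 3, 22, 19, 20, 23], 197), ([20, 23, 18, 4, 13, 16, 22, 21, 18, 23, 2, 0, 3, 0, 2, 0, 3, 0,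 2, 1, 2, 1, 3, 1, 2, 1, 3, 22, 19, 20, 23, 16, 22, 21, 18, 23, 2, 0, 3, 0, 2, 0, 3, 0, 2, 1, 2, 1, 3, 1, 2, 1, 3, 22, 19, 20, 23], 197), ([20, 23, 18, 4, 13, 16, 22, 21, 18, 23, 2, 0, 3, 0, 2, 0, 3, 0, 2, 1, 2, 1, 3, 1, 2, 1, 3, 22, 19, 20, 23, 16, 22, 21, 18, 23, 2, 0, 3, 0, 2, 0, 3, 0, 2, 1, 2, 1, 3, 1, 2, 1, 3, 22, 19, 20, 23, 16, 22, 21, 18, 23, 2, 0, 3, 0, 2, 0, 3, 0, 2, 1, 2, 1, 3, 1, 2, 1, 3, 22, 19, 20, 23], 197), ([20, 23, 18, 4, 13, 22, 21, 18, 23], 346), ([20, 23, 18, 4, 13, 22, 21, 18, 23, 16, 2, 0, 3, 0, 2, 0, 3, 0, 2, 1, 2, 1, 3, 1, 2, 1, 3], 346), ([20, 23, 18, 4, 13, 22, 21, 18, 23, 16, 2, 0, 3, 0, 2, 0, 3, 0, 2, 1, 2, 1, 3, 1, 2, 1, 3, 16, 2, 0, 3, 0, 2, 0, 3, 0, 2, 1, 2, 1, 3, 1, 2, 1, 3], 346), ([20, 23,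 18, 4, 13, 22, 21, 18, 23, 2, 0, 3, 0, 2, 0, 3, 0, 3], 20)],
  [([22, 20, 24, 18, 20, 18, 22, 4, 13, 16, 12, 5], 29), ([22, 20, 24, 18, 20, 18, 22, 4, 13, 16, 12, 5, 20, 4, 13, 16, 12, 5], 29), ([22, 20, 24, 18, 20, 18, 22, 4, 13, 16, 12, 5, 20, 4, 13, 16, 12, 5, 21, 22, 20, 24, 18, 20, 18, 22, 4, 13, 16, 12, 5], 29), ([22, 20, 24, 18, 20, 18, 22, 4, 13, 16, 12, 5, 20, 4, 13, 16, 12, 5, 21, 22, 20, 24, 18, 20, 18, 22, 4, 13, 16, 12, 5, 20, 4, 13, 16, 12, 5], 29), ([22, 20, 24, 18, 20, 18, 22, 4, 13, 16, 19, 19, 25, 21, 19, 20, 3, 3, 1, 3, 1, 3, 1, 3, 1, 3, 1, 3, 1, 3, 3, 1, 3, 1, 3, 1, 22, 21, 24, 18], 199), ([22, 20, 24, 18, 20, 18, 22, 4, 13, 16, 19, 19, 25, 21, 19, 20, 3, 3, 1, 3, 1, 3, 1, 3, 1, 3, 1, 3, 1, 3, 3, 1, 3, 1,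 3, 1, 22, 21, 24, 18, 16, 19, 25, 20, 23, 0, 2, 0, 2, 0, 2, 2, 0, 2, 0, 2, 0, 2, 0, 2, 0, 2, 0, 2, 2, 2, 0, 2, 0, 2, 0, 2, 2, 0, 2, 0, 2, 0, 2, 2, 0, 2, 0, 2, 0, 2, 24, 23, 19, 24, 19, 23, 18], 201), ([22, 20, 24, 18, 20, 18, 22, 4, 13, 16, 19, 19, 25, 21, 19, 20, 3, 3, 1, 3, 1, 3, 1, 3, 1, 3, 1, 3, 1, 3, 3, 1, 3, 1, 3, 1, 22, 21, 24, 18, 16, 19, 25, 20, 23, 0, 2, 0, 2, 0, 2, 2, 0, 2, 0, 2, 0, 2, 0, 2, 0, 2, 0, 2, 2, 2, 0, 2, 0, 2, 0, 2, 2, 0, 2, 0, 2, 0, 2, 2, 0, 2, 0, 2, 0, 2, 24, 23, 19, 24, 19, 23, 18, 16, 19, 22, 18, 25, 18, 22, 25, 3, 3, 1, 3, 1, 3, 1, 3, 1, 3, 1, 3, 1, 3, 3, 1, 3, 1, 3, 1, 22, 21, 18, 23, 24, 22], 203), ([22, 20, 24, 18, 20, 18, 22, 4, 13, 16, 19, 19, 25, 21, 19, 20, 3, 3, 1, 3, 1, 3, 1, 3, 1, 3, 1,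 3, 1, 3, 3, 1, 3, 1, 3, 1, 22, 21, 24, 18, 16, 19, 25, 20, 23, 0, 2, 0, 2, 0, 2, 2, 0, 2, 0, 2, 0, 2, 0, 2, 0, 2, 0, 2, 2, 2, 0, 2, 0, 2, 0, 2, 2, 0, 2, 0, 2, 0, 2, 2, 0, 2, 0, 2, 0, 2, 24, 23, 19, 24, 19, 23, 18, 16, 19, 22, 18, 25, 18, 22, 25, 3, 3, 1, 3, 1, 3, 1, 3, 1, 3, 1, 3, 1, 3, 3, 1, 3, 1, 3, 1, 22, 21, 18, 23, 24, 22, 16, 23, 25, 22, 19, 20, 23, 0, 2, 0, 2, 0, 2, 2, 0, 2, 0, 2, 0, 2, 0, 2, 0, 2, 0, 2, 2, 2, 0, 2, 0, 2, 0, 2, 2, 0, 2, 0, 2, 0, 2, 2, 0, 2, 0, 2, 0, 2, 21, 18, 20, 24, 18, 18], 205), ([22, 20, 24, 18, 20, 18, 22, 4, 13, 19, 19, 25, 21, 19, 20], 348), ([22, 20, 24, 18, 20, 18, 22, 4, 13, 19, 19, 25, 21, 19, 20, 16, 3, 3, 1, 3, 1, 3, 1, 3, 1, 3, 1, 3, 1, 3, 3, 1, 3, 1, 3, 1], 350), ([22, 20, 24, 18, 20,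 18, 22, 4, 13, 19, 19, 25, 21, 19, 20, 16, 3, 3, 1, 3, 1, 3, 1, 3, 1, 3, 1, 3, 1, 3, 3, 1, 3, 1, 3, 1, 16, 0, 2, 0, 2, 0, 2, 2, 0, 2, 0, 2, 0, 2, 0, 2, 0, 2, 0, 2, 2, 2, 0, 2, 0, 2, 0, 2, 2, 0, 2, 0, 2, 0, 2, 2, 0, 2, 0, 2, 0, 2], 352), ([22, 20, 24, 18, 20, 18, 22, 4, 13, 19, 19, 25, 21, 19, 20, 16, 3, 3, 1, 3, 1, 3, 1, 3, 1, 3, 1, 3, 1, 3, 3, 1, 3, 1, 3, 1, 16, 0, 2, 0, 2, 0, 2, 2, 0, 2, 0, 2, 0, 2, 0, 2, 0, 2, 0, 2, 2, 2, 0, 2, 0, 2, 0, 2, 2, 0, 2, 0, 2, 0, 2, 2, 0, 2, 0, 2, 0, 2, 16, 3, 3, 1, 3, 1, 3, 1, 3, 1, 3, 1, 3, 1, 3, 3, 1, 3, 1, 3, 1], 354), ([22, 20, 24, 18, 20, 18, 22, 4, 13, 19, 19, 25, 21, 19, 20, 3, 1, 3, 1, 3, 1, 3, 3, 1, 3, 1, 3, 1, 3, 3, 1, 3, 1, 3, 1, 3], 22)],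
  [([15, 8, 6, 0, 8, 4, 13, 16, 12, 5, 9, 1], 27), ([15, 8, 6, 0, 8, 4, 13, 16, 12, 5, 9, 1, 7, 9, 7, 0, 8, 4, 13, 16, 12, 5, 9, 1], 27), ([15, 8, 6, 0, 8, 4, 13, 16, 12, 5, 9, 1, 7, 9, 7, 0, 8, 4, 13, 16, 12, 5, 9, 1, 6, 6, 5, 0, 8, 4, 13, 16, 12, 5, 9, 1], 27), ([15, 2, 1, 2, 1, 3, 1, 3, 1, 3, 1, 3, 18, 24, 20, 19, 20, 20, 19], 207), ([15, 2, 1, 2, 1, 3, 1, 3, 1, 3, 1, 3, 18, 24, 20, 19, 20, 20, 19, 16, 18, 21, 21, 18, 21, 25, 19, 2, 0, 2, 0, 2, 0, 2, 0, 3, 0, 2, 1, 2, 1, 3, 1, 3, 1, 3, 1, 3, 19, 24, 18, 24, 22, 21, 19], 209), ([15, 2, 1, 2, 1, 3, 1, 3, 1, 3, 1, 3, 18, 24, 20, 19, 20, 20, 19, 16, 18, 21, 21, 18, 21, 25, 19, 2, 0, 2, 0, 2, 0, 2, 0, 3, 0, 2, 1, 2, 1, 3, 1, 3, 1, 3, 1, 3, 19, 24, 18, 24, 22, 21, 19, 16, 18,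 20, 23, 25, 19, 25, 18, 2, 0, 2, 0, 2, 0, 2, 0, 3, 0, 2, 1, 2, 1, 3, 1, 3, 1, 3, 1, 3, 18, 18, 22, 24, 19, 20], 211), ([15, 2, 1, 2, 1, 3, 1, 3, 1, 3, 1, 3, 18, 24, 20, 19, 20, 20, 19, 16, 18, 21, 21, 18, 21, 25, 19, 2, 0, 2, 0, 2, 0, 2, 0, 3, 0, 2, 1, 2, 1, 3, 1, 3, 1, 3, 1, 3, 19, 24, 18, 24, 22, 21, 19, 16, 18, 20, 23, 25, 19, 25, 18, 2, 0, 2, 0, 2, 0, 2, 0, 3, 0, 2, 1, 2, 1, 3, 1, 3, 1, 3, 1, 3, 18, 18, 22, 24, 19, 20, 16, 21, 18, 25, 23, 19, 19, 2, 0, 2, 0, 2, 0, 2, 0, 3, 0], 213), ([15, 2, 1, 2, 1, 3, 1, 3, 1, 3, 1, 3], 356), ([15, 2, 1, 2, 1, 3, 1, 3, 1, 3, 1, 3, 16, 2, 0, 2, 0, 2, 0, 2, 0, 3, 0, 2, 1, 2, 1, 3, 1, 3, 1, 3, 1, 3], 358), ([15, 2, 1, 2, 1, 3, 1, 3, 1, 3, 1, 3, 16, 2, 0, 2, 0, 2, 0, 2, 0, 3, 0, 2, 1, 2,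 1, 3, 1, 3, 1, 3, 1, 3, 16, 2, 0, 2, 0, 2, 0, 2, 0, 3, 0, 2, 1, 2, 1, 3, 1, 3, 1, 3, 1, 3], 360), ([], 24)]] (by decide +kernel)

def A4 : List (List ℕ) := A3 ++ B3

theorem hA4 : ∀ w ∈ A4, wval F w = 1 := all_append hA3 hB3

def B4 : List (List ℕ) := J4TC.O1

theorem hB4 : ∀ w ∈ B4, wval F w = 1 :=
  J4TC.rels1 F (derive [] hA4 _ (by decide +kernel))

def A5 : List (List ℕ) := A4 ++ B4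

theorem hA5 : ∀ w ∈ A5, wval F w = 1 := all_append hA4 hB4

def B5 : List (List ℕ) := [[14, 14], [4, 14, 5, 15], [6, 14, 7, 15], [8, 14, 9, 15], [10, 14, 11, 15]]

theorem hB5 : ∀ w ∈ B5, wval F w = 1 :=
  deriveP [] hA5 _
    [[([8, 6, 28, 7, 9, 7, 28, 6, 6, 5, 28, 4, 7], 417), ([8, 6, 28, 7, 9, 7, 28, 6, 6, 5, 28, 4, 7, 8, 6, 28, 7, 9, 7, 28, 6, 6, 5, 28, 4, 7], 417), ([], 418)],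
  [([4, 8, 6, 28, 7, 9, 7, 28, 6, 6, 5, 28, 4, 7], 417), ([4, 8, 6, 28, 7, 9, 7, 28, 6, 6, 5, 28, 4, 7, 5], 416), ([], 420)],
  [([6, 8, 6, 28, 7, 9, 7, 28, 6, 6, 5, 28, 4, 7], 417), ([6, 8, 6, 28, 7, 9, 7, 28, 6, 6, 5, 28, 4, 7, 5, 29, 4, 7, 7, 29, 6, 8, 6, 29, 7, 9, 14], 416), ([], 422)],
  [([8, 8, 6, 28, 7, 9, 7, 28, 6, 6, 5, 28, 4, 7], 417), ([8, 8, 6, 28, 7, 9, 7, 28, 6, 6, 5, 28, 4, 7, 9], 416), ([], 424)],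
  [([10, 8, 6, 28, 7, 9, 7, 28, 6, 6, 5, 28, 4, 7], 417), ([10, 8, 6, 28, 7, 9, 7, 28, 6, 6, 5, 28, 4, 7, 11], 416), ([], 426)]] (by decide +kernel)

def A6 : List (List ℕ) := A5 ++ B5

theorem hA6 : ∀ w ∈ A6, wval F w = 1 := all_append hA5 hB5

def B6 : List (List ℕ) := ([[7, 8, 10, 6, 8], [8, 10, 5, 9, 10], [7, 5, 7, 4], [5], [7], [9], [10], [4, 6, 8], [4, 6, 5, 7, 9, 10, 8, 5, 10], [4, 10, 6, 8], [4, 10, 7, 9, 6], [6, 9, 4], [5, 6, 4, 6, 10, 5, 10], [8, 8, 10, 8, 10, 7, 10, 9], [10, 5, 6, 4], [8, 4, 10, 4, 7, 5], [9, 4, 6, 9, 10, 6, 5], [4, 6, 8, 10, 8, 6, 9, 6], [10, 7, 4, 7, 10, 8, 4], [4, 10, 7, 4, 6], [5, 8, 10, 5, 8, 10], [8, 6, 4, 10, 7, 5, 6], [6, 10, 6]] : List (List ℕ)).map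
  fun u => u ++ 2 * 7 :: (invW u ++ [2 * 7 + 1])

theorem hB6 : ∀ w ∈ B6, wval F w = 1 :=
  comm_words hA6 7 [2, 3, 4, 5] _ (by decide +kernel)

def A7 : List (List ℕ) := A6 ++ B6

theorem hA7 : ∀ w ∈ A7, wval F w = 1 := all_append hA6 hB6

def B7 : List (List ℕ) := J4TC.O2

theorem hB7 : ∀ w ∈ B7, wval F w = 1 :=
  J4TC.rels2 F (derive [] hA7 _ (by decide +kernel))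

def A8 : List (List ℕ) := A7 ++ B7

theorem hA8 : ∀ w ∈ A8, wval F w = 1 := all_append hA7 hB7

def B8 : List (List ℕ) := [[9, 2, 0, 12, 14, 13, 1, 3, 8, 20, 22, 18, 31, 19, 23, 18, 31, 19, 21, 18, 24, 18, 31, 19, 25, 19], [6, 12, 2, 12, 14, 13, 3, 13, 7, 23, 18, 31, 19, 22, 24, 22, 18, 31, 19, 23, 25, 18, 31, 19], [2, 0, 9, 0, 14, 1, 8, 1, 3, 22, 31, 23, 24, 23, 18, 23, 31, 22, 19, 22, 25, 20, 31, 21]]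

theorem hB8 : ∀ w ∈ B8, wval F w = 1 :=
  deriveP [8, 7] hA8 _
    [[([9, 2, 0, 12, 14, 13, 1, 3, 8, 20, 22, 18], 28), ([9, 2, 0, 12, 14, 13, 1, 3, 8, 20, 22, 18, 4, 13, 16, 12, 5, 19, 23, 18], 28), ([9, 2, 0, 12, 14, 13, 1, 3, 8, 20, 22, 18, 4, 13, 16, 12, 5, 19, 23, 18, 4, 13, 16, 12, 5, 19, 21, 18, 24, 18], 28), ([9, 2, 0, 12, 14, 9, 7, 11, 9, 6, 2, 1, 2, 1, 3, 1, 3, 1, 3, 1, 3, 23, 20, 20, 24], 215), ([9, 2, 0, 12, 14, 9, 7, 11, 9, 6, 2, 1, 2, 1, 3, 1, 3, 1, 3, 1, 3, 23, 20, 20, 24, 16, 25, 21, 21, 22, 2, 0, 2, 0, 2, 0, 2, 0, 3, 0, 2, 1, 2, 1, 3, 1, 3, 1, 3, 1, 3, 22, 18, 24, 22, 21, 23, 21], 217), ([9, 2, 0, 12, 14, 9, 7, 11, 9, 6, 2, 1, 2, 1, 3, 1, 3, 1, 3, 1, 3, 23, 20, 20, 24, 16, 25, 21, 21, 22, 2, 0, 2, 0, 2, 0,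 2, 0, 3, 0, 2, 1, 2, 1, 3, 1, 3, 1, 3, 1, 3, 22, 18, 24, 22, 21, 23, 21, 16, 20, 22, 20, 23, 25, 19, 23, 2, 0, 2, 0, 2, 0, 2, 0, 3, 0, 2, 1, 2, 1, 3, 1, 3, 1, 3, 1, 3, 19, 24, 21, 23, 20, 23], 219), ([9, 2, 0, 12, 14, 9, 7, 11, 9, 6, 2, 1, 2, 1, 3, 1, 3, 1, 3, 1, 3, 23, 20, 20, 24, 16, 25, 21, 21, 22, 2, 0, 2, 0, 2, 0, 2, 0, 3, 0, 2, 1, 2, 1, 3, 1, 3, 1, 3, 1, 3, 22, 18, 24, 22, 21, 23, 21, 16, 20, 22, 20, 23, 25, 19, 23, 2, 0, 2, 0, 2, 0, 2, 0, 3, 0, 2, 1, 2, 1, 3, 1, 3, 1, 3, 1, 3, 19, 24, 21, 23, 20, 23, 16, 22, 21, 22, 20, 25, 18, 2, 0, 2, 0, 2, 0, 2, 0, 3, 0, 7, 8, 10, 6, 8], 221), ([9, 2, 0, 12, 9, 7, 11, 9, 6], 438), ([9, 2, 0, 12, 9, 7, 11, 9, 6, 14, 2, 1, 2, 1, 3, 1, 3, 1, 3, 1, 3], 362), ([9, 2, 0, 12, 9, 7, 11, 9,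 6, 14, 2, 1, 2, 1, 3, 1, 3, 1, 3, 1, 3, 16, 2, 0, 2, 0, 2, 0, 2, 0, 3, 0, 2, 1, 2, 1, 3, 1, 3, 1, 3, 1, 3], 364), ([9, 2, 0, 12, 9, 7, 11, 9, 6, 14, 2, 1, 2, 1, 3, 1, 3, 1, 3, 1, 3, 16, 2, 0, 2, 0, 2, 0, 2, 0, 3, 0, 2, 1, 2, 1, 3, 1, 3, 1, 3, 1, 3, 16, 2, 0, 2, 0, 2, 0, 2, 0, 3, 0, 2, 1, 2, 1, 3, 1, 3, 1, 3, 1, 3], 366), ([9, 2, 0, 12, 9, 7, 11, 9, 6], 24)],
  [([6, 12, 2, 12, 14, 13, 3, 13, 7, 23, 18], 28), ([6, 12, 2, 12, 14, 13, 3, 13, 7, 23, 18, 4, 13, 16, 12, 5, 19, 22, 24, 22, 18], 28), ([6, 12, 2, 12, 14, 13, 3, 13, 7, 23, 18, 4, 13, 16, 12, 5, 19, 22, 24, 22, 18, 4, 13, 16, 12, 5, 19, 23, 25, 18], 28), ([6, 12, 2, 12, 14, 11, 8, 4, 11, 9, 2, 1, 2, 1, 3, 1, 3, 1, 3, 1, 3, 21, 18, 18, 22, 24, 18], 223), ([6, 12, 2, 12,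 14, 11, 8, 4, 11, 9, 2, 1, 2, 1, 3, 1, 3, 1, 3, 1, 3, 21, 18, 18, 22, 24, 18, 16, 19, 25, 23, 19, 19, 20, 2, 0, 2, 0, 2, 0, 2, 0, 3, 0, 2, 1, 2, 1, 3, 1, 3, 1, 3, 1, 3, 22, 19, 22, 19, 24, 23], 225), ([6, 12, 2, 12, 14, 11, 8, 4, 11, 9, 2, 1, 2, 1, 3, 1, 3, 1, 3, 1, 3, 21, 18, 18, 22, 24, 18, 16, 19, 25, 23, 19, 19, 20, 2, 0, 2, 0, 2, 0, 2, 0, 3, 0, 2, 1, 2, 1, 3, 1, 3, 1, 3, 1, 3, 22, 19, 22, 19, 24, 23, 16, 22, 25, 18, 23, 18, 23, 2, 0, 2, 0, 2, 0, 2, 0, 3, 0, 2, 1, 2, 1, 3, 1, 3, 1, 3, 1, 3, 21, 22, 24, 19, 20, 22, 24], 227), ([6, 12, 2, 12, 14, 11, 8, 4, 11, 9, 2, 1, 2, 1, 3, 1, 3, 1, 3, 1, 3, 21, 18, 18, 22, 24, 18, 16, 19, 25, 23, 19, 19, 20, 2, 0, 2, 0, 2, 0, 2, 0, 3, 0, 2, 1, 2, 1, 3, 1, 3, 1, 3, 1, 3, 22, 19, 22, 19,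 24, 23, 16, 22, 25, 18, 23, 18, 23, 2, 0, 2, 0, 2, 0, 2, 0, 3, 0, 2, 1, 2, 1, 3, 1, 3, 1, 3, 1, 3, 21, 22, 24, 19, 20, 22, 24, 16, 25, 23, 21, 18, 25, 23, 20, 2, 0, 2, 0, 2, 0, 2, 0, 3, 0, 8, 10, 5, 9, 10], 229), ([6, 12, 2, 12, 11, 8, 4, 11, 9], 440), ([6, 12, 2, 12, 11, 8, 4, 11, 9, 14, 2, 1, 2, 1, 3, 1, 3, 1, 3, 1, 3], 368), ([6, 12, 2, 12, 11, 8, 4, 11, 9, 14, 2, 1, 2, 1, 3, 1, 3, 1, 3, 1, 3, 16, 2, 0, 2, 0, 2, 0, 2, 0, 3, 0, 2, 1, 2, 1, 3, 1, 3, 1, 3, 1, 3], 370), ([6, 12, 2, 12, 11, 8, 4, 11, 9, 14, 2, 1, 2, 1, 3, 1, 3, 1, 3, 1, 3, 16, 2, 0, 2, 0, 2, 0, 2, 0, 3, 0, 2, 1, 2, 1, 3, 1, 3, 1, 3, 1, 3, 16, 2, 0, 2, 0, 2, 0, 2, 0, 3, 0, 2, 1, 2, 1, 3, 1, 3, 1, 3, 1, 3], 372), ([6, 12, 2, 12, 11, 8, 4, 11, 9], 24)],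
  [([2, 0, 9, 0, 14, 1, 8, 1, 3, 22], 28), ([2, 0, 9, 0, 14, 1, 8, 1, 3, 22, 4, 13, 16, 12, 5, 23, 24, 23, 18, 23], 28), ([2, 0, 9, 0, 14, 1, 8, 1, 3, 22, 4, 13, 16, 12, 5, 23, 24, 23, 18, 23, 4, 13, 16, 12, 5, 22, 19, 22, 25, 20], 28), ([2, 0, 9, 0, 14, 5, 6, 4, 6, 2, 1, 2, 1, 3, 1, 3, 1, 3, 1, 3, 24, 21, 22, 20, 23, 24, 22], 231), ([2, 0, 9, 0, 14, 5, 6, 4, 6, 2, 1, 2, 1, 3, 1, 3, 1, 3, 1, 3, 24, 21, 22, 20, 23, 24, 22, 16, 23, 25, 22, 21, 23, 20, 25, 2, 0, 2, 0, 2, 0, 2, 0, 3, 0, 2, 1, 2, 1, 3, 1, 3, 1, 3, 1, 3, 18, 21, 24, 23], 233), ([2, 0, 9, 0, 14, 5, 6, 4, 6, 2, 1, 2, 1, 3, 1, 3, 1, 3, 1, 3, 24, 21, 22, 20, 23, 24, 22, 16, 23, 25, 22, 21, 23, 20, 25, 2, 0, 2, 0, 2, 0, 2, 0, 3, 0, 2, 1, 2, 1, 3, 1, 3, 1, 3, 1, 3, 18,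 21, 24, 23, 16, 22, 25, 20, 19, 2, 0, 2, 0, 2, 0, 2, 0, 3, 0, 2, 1, 2, 1, 3, 1, 3, 1, 3, 1, 3, 19, 24, 20, 23, 19, 21], 235), ([2, 0, 9, 0, 14, 5, 6, 4, 6, 2, 1, 2, 1, 3, 1, 3, 1, 3, 1, 3, 24, 21, 22, 20, 23, 24, 22, 16, 23, 25, 22, 21, 23, 20, 25, 2, 0, 2, 0, 2, 0, 2, 0, 3, 0, 2, 1, 2, 1, 3, 1, 3, 1, 3, 1, 3, 18, 21, 24, 23, 16, 22, 25, 20, 19, 2, 0, 2, 0, 2, 0, 2, 0, 3, 0, 2, 1, 2, 1, 3, 1, 3, 1, 3, 1, 3, 19, 24, 20, 23, 19, 21, 16, 20, 18, 22, 21, 25, 18, 2, 0, 2, 0, 2, 0, 2, 0, 3, 0, 7, 5, 7, 4], 237), ([2, 0, 9, 0, 5, 6, 4, 6], 442), ([2, 0, 9, 0, 5, 6, 4, 6, 14, 2, 1, 2, 1, 3, 1, 3, 1, 3, 1, 3], 374), ([2, 0, 9, 0, 5, 6, 4, 6, 14, 2, 1, 2, 1, 3, 1, 3, 1, 3, 1, 3, 16, 2, 0, 2, 0, 2, 0, 2, 0, 3, 0, 2, 1, 2, 1, 3, 1, 3,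 1, 3, 1, 3], 376), ([2, 0, 9, 0, 5, 6, 4, 6, 14, 2, 1, 2, 1, 3, 1, 3, 1, 3, 1, 3, 16, 2, 0, 2, 0, 2, 0, 2, 0, 3, 0, 2, 1, 2, 1, 3, 1, 3, 1, 3, 1, 3, 16, 2, 0, 2, 0, 2, 0, 2, 0, 3, 0, 2, 1, 2, 1, 3, 1, 3, 1, 3, 1, 3], 378), ([2, 0, 9, 0, 5, 6, 4, 6], 24)]] (by decide +kernel)

def A9 : List (List ℕ) := A8 ++ B8

theorem hA9 : ∀ w ∈ A9, wval F w = 1 := all_append hA8 hB8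

def B9 : List (List ℕ) := [[9, 2, 0, 12, 14, 13, 1, 3, 8, 6, 12, 2, 12, 14, 13, 3, 13, 7, 2, 0, 9, 0, 14, 1, 8, 1, 3], [4, 13, 16, 12, 5, 6, 12, 2, 12, 14, 13, 3, 13, 7, 4, 13, 16, 12, 5, 6, 12, 2, 12, 14, 13, 3, 13, 7, 23, 19, 25, 18, 22]]

theorem hB9 : ∀ w ∈ B9, wval F w = 1 :=
  deriveP [8, 7, 15] hA9 _
    [[([], 488), ([18, 24, 18, 30, 19, 25, 19, 20, 18, 30, 19, 22, 18, 30, 19, 23, 21], 490), ([18, 24, 18, 30, 19, 25, 19, 20, 18, 30, 19, 22, 18, 30, 19, 23, 21, 18, 30, 19, 24, 22, 18, 30, 19, 23, 25, 23, 18, 30, 19, 22], 492), ([], 484)],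
  [([4, 13, 16, 12, 5, 6, 12, 2, 12, 14, 13, 3, 13, 7, 30], 28), ([30], 28), ([30], 490), ([30, 18, 30, 19, 24, 22, 18, 30, 19, 23, 25, 23, 18, 30, 19, 22, 30], 490), ([], 486)]] (by decide +kernel)

def A10 : List (List ℕ) := A9 ++ B9

theorem hA10 : ∀ w ∈ A10, wval F w = 1 := all_append hA9 hB9

def B10 : List (List ℕ) := [[14, 14], [32, 32], [4, 14, 5, 14], [6, 14, 7, 14], [8, 14, 9, 14], [10, 14, 11, 14], [4, 10, 5, 32, 4, 11, 5, 32], [9, 4, 8, 32, 9, 5, 8, 32], [4, 6, 8, 32, 9, 7, 5, 32], [7, 8, 6, 5, 32, 4, 7, 9, 6, 32], [32, 14, 10, 32, 11], [9, 32, 8, 4, 32, 5, 5, 10, 8, 5, 32, 4, 9, 11, 4], [32, 6, 9, 4, 32, 5, 8, 7, 7, 4, 10, 32, 11, 5, 6], [12, 14, 12, 14, 12, 14], [3, 0, 4, 12, 5, 6, 0, 13, 7, 16, 6, 12, 1, 7, 4,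 13, 5, 1, 2, 17], [2, 7, 0, 6, 4, 10, 2, 4, 16, 5, 3, 11, 5, 7, 1, 6, 3, 17], [3, 8, 8, 13, 7, 2, 0, 13, 5, 16, 4, 12, 1, 3, 6, 12, 9, 9, 2, 17], [3, 9, 6, 0, 9, 2, 12, 8, 4, 16, 5, 9, 13, 3, 8, 1, 7, 8, 2, 17], [4, 0, 14, 1, 5, 16, 4, 1, 15, 2, 11, 3, 1, 5, 17], [16, 16], [16, 2, 0, 3, 0, 2, 0, 3, 0, 2, 0, 2, 0, 3, 0, 2, 0, 3, 16, 2, 0, 3, 0, 2, 0, 3, 0, 2, 0, 2, 0, 3, 0, 2, 0, 3, 16, 2, 0, 3, 0, 2, 0, 3, 0, 2, 0, 2, 0, 3, 0, 2, 0, 3], [16, 3, 3, 0, 3, 0, 3, 0, 3, 0, 3, 0, 3, 0, 3, 3, 0, 3, 0, 3, 0, 16, 0, 2, 0, 2, 0, 2, 2, 0, 2, 0, 2, 0, 2, 0, 2, 0, 2, 0, 2, 2, 2, 0, 2, 0, 2, 0, 2, 2, 0, 2, 0, 2, 0, 2, 2, 0, 2, 0, 2, 0, 2, 16, 3, 3, 0, 3, 0, 3, 0, 3, 0, 3, 0, 3, 0, 3, 3, 0, 3, 0, 3, 0, 16, 0, 2, 0, 2, 0, 2, 2, 0, 2, 0, 2,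 0, 2, 0, 2, 0, 2, 0, 2, 2, 2, 0, 2, 0, 2, 0, 2, 2, 0, 2, 0, 2, 0, 2, 2, 0, 2, 0, 2, 0, 2]]

theorem hB10 : ∀ w ∈ B10, wval F w = 1 :=
  deriveP [8, 7] hA10 _
    [[],
  [([12, 14, 13], 31), ([], 31)],
  [([], 430)],
  [([], 432)],
  [([], 434)],
  [([10, 14], 57), ([10, 14, 10, 14], 56), ([10, 10, 14, 11], 436)],
  [([4, 10, 5, 12, 14, 13], 31), ([4, 10, 5, 12, 14, 13, 4, 11, 5, 12, 14, 13], 31), ([4, 10, 5, 12, 14, 4, 6, 8], 241), ([4, 10, 5, 12, 14, 4, 6, 8, 14], 240), ([4, 10, 5, 12, 4, 6, 8, 14, 9, 7, 5], 452)],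
  [([9, 4, 8, 12, 14, 13], 31), ([9, 4, 8, 12, 14, 13, 9, 5, 8, 12, 14, 13], 31), ([9, 4, 8, 12, 14, 4, 6, 5, 7, 9, 10, 8, 5, 10], 245), ([9, 4, 8, 12, 14, 4, 6, 5, 7, 9, 10, 8, 5, 10, 14], 244), ([9, 4, 8, 12, 4, 6, 5, 7, 9, 10, 8, 5, 10, 14, 11, 4, 9, 11, 8, 6, 4, 7, 5], 454)],
  [([4, 6, 8, 12, 14, 13], 31), ([4, 6, 8, 12, 14, 13, 9, 7, 5, 12, 14, 13], 31), ([4, 6, 8, 12, 14, 4, 10, 6, 8], 249), ([4, 6, 8, 12, 14, 4, 10, 6, 8, 14], 248), ([4, 6, 8, 12, 4, 10, 6, 8, 14, 9, 7, 11, 5], 456)],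
  [([7, 8, 6, 5, 12, 14, 13], 31), ([7, 8, 6, 5, 12, 14, 13, 4, 7, 9, 6, 12, 14, 13], 31), ([7, 8, 6, 5, 12, 14, 4, 10, 7, 9, 6], 253), ([7, 8, 6, 5, 12, 14, 4, 10, 7, 9, 6, 14], 252), ([7, 8, 6, 5, 12, 4, 10, 7, 9, 6, 14, 7, 8, 6, 11, 5], 458)],
  [([12, 14, 13], 31), ([12, 14, 13, 14, 10, 12, 14, 13], 31), ([12, 14, 5, 8, 7, 13, 1, 3, 8, 6, 12, 2, 12, 5, 6, 4, 6, 10, 5, 10], 257), ([12, 14, 5, 8, 7, 13, 1, 3, 8, 6, 12, 2, 12, 5, 6, 4, 6, 10, 5, 10, 14, 11, 4, 11, 7, 5, 7, 4, 13, 3, 13, 7, 2, 0, 9, 0, 8, 8, 10, 8, 10, 7, 10, 9], 259), ([12, 14, 5, 8, 7, 13, 1, 3, 8, 6, 12, 2, 12, 5, 6, 4, 6, 10, 5, 10, 14, 11, 4, 11, 7, 5, 7, 4, 13, 3, 13, 7, 2, 0, 9, 0, 8, 8, 10, 8, 10, 7, 10, 9, 14, 8, 11, 6, 11, 9, 11, 9, 9, 1, 8, 1, 3,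 9, 2, 0, 12, 6, 9, 4], 261), ([12, 5, 8, 7], 460), ([12, 5, 8, 7, 14, 13, 1, 3, 8, 6, 12, 2, 12], 462), ([12, 5, 8, 7, 14, 13, 1, 3, 8, 6, 12, 2, 12, 14, 13, 3, 13, 7, 2, 0, 9, 0], 464), ([12, 5, 8, 7, 13, 1, 3, 8], 494)],
  [([9, 12, 14, 13], 31), ([9, 12, 14, 13, 8, 4, 12, 14, 13], 31), ([9, 12, 14, 13, 8, 4, 12, 14, 13, 5, 5, 10, 8, 5, 12, 14, 13], 31), ([9, 12, 14, 5, 7, 4, 11, 13, 1, 3, 8, 6, 12, 2, 12, 8, 4, 10, 4, 7, 5], 263), ([9, 12, 14, 5, 7, 4, 11, 13, 1, 3, 8, 6, 12, 2, 12, 8, 4, 10, 4, 7, 5, 14, 4, 6, 5, 11, 5, 9, 13, 3, 13, 7, 2, 0, 9, 0, 9, 4, 6, 9, 10, 6, 5], 265), ([9, 12, 14, 5, 7, 4, 11, 13, 1, 3, 8, 6, 12, 2, 12, 8, 4, 10, 4, 7, 5, 14, 4, 6, 5, 11, 5, 9, 13, 3, 13, 7, 2, 0, 9, 0, 9, 4, 6, 9, 10, 6, 5, 14,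 4, 7, 11, 8, 7, 5, 8, 1, 8, 1, 3, 9, 2, 0, 12, 10, 5, 6, 4], 267), ([9, 12, 5, 7, 4, 11], 466), ([9, 12, 5, 7, 4, 11, 14, 13, 1, 3, 8, 6, 12, 2, 12], 468), ([9, 12, 5, 7, 4, 11, 14, 13, 1, 3, 8, 6, 12, 2, 12, 14, 13, 3, 13, 7, 2, 0, 9, 0], 470), ([9, 12, 5, 7, 4, 11, 13, 1, 3, 8], 494)],
  [([12, 14, 13], 31), ([12, 14, 13, 6, 9, 4, 12, 14, 13], 31), ([12, 14, 13, 6, 9, 4, 12, 14, 13, 5, 8, 7, 7, 4, 10, 12, 14, 13], 31), ([12, 14, 13, 1, 3, 8, 6, 12, 2, 12, 4, 6, 8, 10, 8, 6, 9, 6], 269), ([12, 14, 13, 1, 3, 8, 6, 12, 2, 12, 4, 6, 8, 10, 8, 6, 9, 6, 14, 7, 8, 7, 9, 11, 9, 7, 5, 13, 3, 13, 7, 2, 0, 9, 0, 10, 7, 4, 7, 10, 8, 4], 271), ([12, 14, 13, 1, 3, 8, 6, 12, 2, 12, 4, 6, 8, 10, 8, 6, 9, 6, 14, 7, 8, 7, 9, 11, 9, 7, 5, 13,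 3, 13, 7, 2, 0, 9, 0, 10, 7, 4, 7, 10, 8, 4, 14, 5, 9, 11, 6, 5, 6, 11, 1, 8, 1, 3, 9, 2, 0, 12], 273), ([12, 14, 13, 1, 3, 8, 6, 12, 2, 12], 472), ([12, 14, 13, 1, 3, 8, 6, 12, 2, 12, 14, 13, 3, 13, 7, 2, 0, 9, 0], 474), ([1, 3, 8], 494)],
  [([12, 14, 7, 5, 6, 11, 5, 13, 1, 3, 8, 6, 12, 2, 12, 5, 8, 10, 5, 8, 10], 275), ([12, 14, 7, 5, 6, 11, 5, 13, 1, 3, 8, 6, 12, 2, 12, 5, 8, 10, 5, 8, 10, 14, 11, 9, 4, 11, 9, 4, 13, 3, 13, 7, 2, 0, 9, 0, 8, 6, 4, 10, 7, 5, 6], 277), ([12, 14, 7, 5, 6, 11, 5, 13, 1, 3, 8, 6, 12, 2, 12, 5, 8, 10, 5, 8, 10, 14, 11, 9, 4, 11, 9, 4, 13, 3, 13, 7, 2, 0, 9, 0, 8, 6, 4, 10, 7, 5, 6, 14, 7, 4, 6, 11, 5, 7, 9, 1, 8, 1, 3, 9, 2, 0, 12, 4, 10, 7, 4, 6], 279), ([12, 7, 5, 6, 11, 5], 476), ([12, 7,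 5, 6, 11, 5, 14, 13, 1, 3, 8, 6, 12, 2, 12], 478), ([12, 7, 5, 6, 11, 5, 14, 13, 1, 3, 8, 6, 12, 2, 12, 14, 13, 3, 13, 7, 2, 0, 9, 0], 480), ([12, 7, 5, 6, 11, 5, 13, 1, 3, 8], 494)],
  [([3, 0, 4, 12, 5, 6, 0, 13, 7, 16, 19], 281), ([3, 0, 4, 12, 5, 6, 0, 13, 7, 16, 19, 16], 280), ([3, 0, 4, 12, 5, 6, 0, 13, 7, 19], 320)],
  [([2, 7, 0, 6, 4, 10, 2, 4, 16, 21], 285), ([2, 7, 0, 6, 4, 10, 2, 4, 16, 21, 16], 284), ([2, 7, 0, 6, 4, 10, 2, 4, 21], 322)],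
  [([3, 8, 8, 13, 7, 2, 0, 13, 5, 16, 23], 289), ([3, 8, 8, 13, 7, 2, 0, 13, 5, 16, 23, 16], 288), ([3, 8, 8, 13, 7, 2, 0, 13, 5, 23], 324)],
  [([3, 9, 6, 0, 9, 2, 12, 8, 4, 16, 24], 293), ([3, 9, 6, 0, 9, 2, 12, 8, 4, 16, 24, 16], 292), ([3, 9, 6, 0, 9, 2, 12, 8, 4, 24, 16, 25], 326)],
  [([4, 0, 14, 7, 11, 7, 13, 3, 13, 7, 4, 13, 24, 20, 23, 20, 24], 297), ([4, 0, 14, 7, 11, 7, 13, 3, 13, 7, 4, 13, 24, 20, 23, 20, 24, 16, 25, 21, 22, 21, 25, 12, 5, 6, 12, 2, 12, 6, 10, 6], 299), ([4, 0, 14, 7, 11, 7, 13, 3, 13, 7, 4, 13, 24, 20, 23, 20, 24, 16, 25, 21, 22, 21, 25, 12, 5, 6, 12, 2, 12, 6, 10, 6, 14, 7, 11, 7, 13, 3, 13, 7, 23, 19, 25, 18, 22, 4, 13, 24, 20, 23, 20, 24], 301), ([4, 0, 14, 7, 11, 7, 13, 3, 13, 7, 4, 13, 24,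 20, 23, 20, 24, 16, 25, 21, 22, 21, 25, 12, 5, 6, 12, 2, 12, 6, 10, 6, 14, 7, 11, 7, 13, 3, 13, 7, 23, 19, 25, 18, 22, 4, 13, 24, 20, 23, 20, 24, 16], 296), ([4, 0, 7, 11, 7], 482), ([4, 0, 7, 11, 7, 14, 13, 3, 13, 7, 4, 13], 388), ([4, 0, 7, 11, 7, 14, 13, 3, 13, 7, 4, 13, 16, 12, 5, 6, 12, 2, 12], 482), ([4, 0, 7, 11, 7, 14, 13, 3, 13, 7, 4, 13, 16, 12, 5, 6, 12, 2, 12, 14, 13, 3, 13, 7, 23, 19, 25, 18, 22, 4, 13], 388), ([4, 0, 7, 11, 7, 13, 3, 13, 7, 4, 13, 16, 12, 5], 496)],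
  [],
  [([16, 2, 0, 3, 0, 2, 0, 3, 0, 2, 1, 2, 1, 3, 1, 2, 1, 3], 305), ([16, 2, 0, 3, 0, 2, 0, 3, 0, 2, 1, 2, 1, 3, 1, 2, 1, 3, 16, 2, 0, 3, 0, 2, 0, 3, 0, 2, 1, 2, 1, 3, 1, 2, 1, 3], 305), ([16, 2, 0, 3, 0, 2, 0, 3, 0, 2, 1, 2, 1, 3, 1, 2, 1, 3, 16, 2, 0, 3, 0, 2, 0, 3, 0, 2, 1, 2, 1, 3, 1, 2, 1, 3, 16, 2, 0, 3, 0, 2, 0, 3, 0, 2, 1, 2, 1, 3, 1, 2, 1, 3], 305), ([2, 0, 3, 0, 2, 0, 3, 0, 3], 20)],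
  [([16, 3, 3, 1, 3, 1, 3, 1, 3, 1, 3, 1, 3, 1, 3, 3, 1, 3, 1, 3, 1], 307), ([16, 3, 3, 1, 3, 1, 3, 1, 3, 1, 3, 1, 3, 1, 3, 3, 1, 3, 1, 3, 1, 16, 0, 2, 0, 2, 0, 2, 2, 0, 2, 0, 2, 0, 2, 0, 2, 0, 2, 0, 2, 2, 2, 0, 2, 0, 2, 0, 2, 2, 0, 2, 0, 2, 0, 2, 2, 0, 2, 0, 2, 0, 2, 16, 3, 3, 1, 3, 1, 3, 1, 3, 1, 3, 1, 3, 1, 3, 3, 1, 3, 1, 3, 1], 307), ([3, 1, 3, 1, 3, 1, 3, 3, 1, 3, 1, 3, 1, 3, 3, 1, 3, 1, 3, 1, 3], 22)]] (by decide +kernel)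

def A11 : List (List ℕ) := A10 ++ B10

theorem hA11 : ∀ w ∈ A11, wval F w = 1 := all_append hA10 hB10

def B11 : List (List ℕ) := J4TC.O4

theorem hB11 : ∀ w ∈ B11, wval F w = 1 :=
  J4TC.rels4 F (derive [] hA11 _ (by decide +kernel))

def A12 : List (List ℕ) := A11 ++ B11

theorem hA12 : ∀ w ∈ A12, wval F w = 1 := all_append hA11 hB11

def B12 : List (List ℕ) := [[12, 14, 13, 5, 12, 14, 13, 4, 10, 8, 8, 12, 14, 13, 9, 9, 10]]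

theorem hB12 : ∀ w ∈ B12, wval F w = 1 :=
  deriveP [8, 7, 0, 5] hA12 _
    [[([12, 14, 13, 5, 12, 14, 13, 4, 10, 8, 8, 32], 30), ([12, 14, 13, 5, 32], 30), ([32], 30), ([], 542)]] (by decide +kernel)

def A13 : List (List ℕ) := A12 ++ B12

theorem hA13 : ∀ w ∈ A13, wval F w = 1 := all_append hA12 hB12

theorem hKH : ∀ w ∈ J4TC.KH, wval F w = 1 := derive [] hA13 _ (by decide +kernel)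

def RR : List (List ℕ) := [[3, 0, 4, 12, 5, 6, 0, 13, 7, 16, 6, 12, 1, 7, 4, 13, 5, 1, 2, 17], [2, 7, 0, 6, 4, 10, 2, 4, 16, 5, 3, 11, 5, 7, 1, 6, 3, 17], [3, 8, 8, 13, 7, 2, 0, 13, 5, 16, 4, 12, 1, 3, 6, 12, 9, 9, 2, 17], [3, 9, 6, 0, 9, 2, 12, 8, 4, 16, 5, 9, 13, 3, 8, 1, 7, 8, 2, 17], [4, 0, 14, 1, 5, 16, 4, 1, 15, 2, 11, 3, 1, 5, 17], [16, 16], [16, 2, 0, 3, 0, 2, 0, 3, 0, 2, 0, 2, 0, 3, 0, 2, 0, 3, 16, 2, 0, 3, 0, 2, 0, 3, 0, 2, 0, 2, 0, 3, 0, 2, 0, 3, 16, 2, 0, 3, 0, 2, 0, 3, 0, 2, 0, 2, 0, 3, 0, 2, 0, 3], [16, 3, 3, 0, 3, 0, 3, 0, 3, 0, 3, 0, 3, 0, 3, 3, 0, 3, 0, 3, 0, 16, 0, 2, 0, 2, 0, 2, 2, 0, 2, 0, 2, 0, 2, 0, 2, 0, 2, 0, 2, 2, 2, 0, 2, 0, 2, 0, 2, 2, 0, 2, 0, 2, 0, 2, 2, 0, 2, 0, 2, 0, 2, 16, 3, 3, 0, 3, 0, 3,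 0, 3, 0, 3, 0, 3, 0, 3, 3, 0, 3, 0, 3, 0, 16, 0, 2, 0, 2, 0, 2, 2, 0, 2, 0, 2, 0, 2, 0, 2, 0, 2, 0, 2, 2, 2, 0, 2, 0, 2, 0, 2, 2, 0, 2, 0, 2, 0, 2, 2, 0, 2, 0, 2, 0, 2]]

theorem hRR : ∀ w ∈ RR, wval F w = 1 := derive [] hA13 _ (by decide +kernel)

end Cfsg.Agent.Lib.J4R
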