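import Cfsg.Agent.Lib.DCE5
import Cfsg.Agent.Lib.M24Ord
import Cfsg.Agent.Lib.TCM241
import Cfsg.Agent.Lib.TCM242
import Cfsg.Agent.Lib.TCM243

/-! The first seven relators of the fourth Janko group bound the order of the group generated by `x` and `y`. -/

set_option autoImplicit false
set_option maxRecDepth 100000

namespace Cfsg.Agent.Lib.M24TC

open Cfsg.Agent.Lib.PermNet Cfsg.Agent.Lib.Words Cfsg.Agent.Lib.PermGroup Cfsg.Agent.Lib.DCE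

def W1 : List (List ℕ) := [[0, 0], [0, 2, 1], [2, 2, 2], [2, 0, 0, 3], [3, 0, 0, 2], [3, 0, 2, 1, 2], [2, 0, 2, 2, 2, 1, 3], [2, 0, 2, 0, 0, 3, 1, 3], [2, 0, 3, 0, 0, 2, 1, 3], [2, 0, 2, 0, 2, 2, 2, 1, 3, 1, 3], [2, 0, 3, 0, 2, 2, 2, 1, 2, 1, 3], [2, 0, 2, 0, 2, 0, 0, 3, 1, 3, 1, 3], [2, 0, 2, 0, 2, 0, 2, 1, 3, 1, 3, 1, 3], [2, 0, 2, 0, 3, 0, 0, 2, 1, 3, 1, 3], [2, 0, 3, 0, 2, 0, 0, 3, 1, 2, 1, 3], [2, 0, 3, 0, 3, 0, 0, 2, 1, 2, 1, 3], [2, 0, 3, 0, 3, 0, 2, 1, 2, 1, 2, 1, 3], [2, 0, 2, 0, 3, 0, 2, 2, 2, 1, 2, 1, 3, 1, 3], [2, 0, 3, 0, 2, 0, 2, 0, 2, 1, 3, 1, 2, 1, 3], [2, 0, 3, 0, 2, 0, 2, 2, 2, 1, 3, 1, 2, 1, 3], [2, 0, 3, 0, 2, 0, 3, 0, 3, 1, 3, 1, 2, 1, 3], [2, 0, 2, 0, 3, 0, 2, 0, 0, 3, 1, 2, 1, 3, 1, 3], [2, 0, 2, 0, 3, 0, 2, 0, 2, 1, 3, 1, 2, 1, 3, 1, 3], [2, 0, 2, 0, 3, 0, 3, 0, 0, 2, 1, 2, 1, 3, 1, 3], [2, 0, 2,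 0, 3, 0, 3, 0, 2, 1, 2, 1, 2, 1, 3, 1, 3]]

def R1 : List (List ℕ) := [[2, 2, 2], [10, 10, 10], [48, 48, 48], [24, 24, 24], [44, 44, 44], [32, 32, 32], [24, 33, 45, 32], [2, 41, 41, 25, 33], [2, 41, 41, 33, 45], [2, 32, 44, 24, 49], [10, 25, 49, 25, 49], [2, 10, 3, 45, 2, 11], [2, 10, 40, 33, 41, 11], [10, 25, 45, 49, 44, 24], [10, 48, 45, 49, 44, 49], [10, 41, 41, 41, 33, 41, 24], [2, 10, 3, 32, 40, 40, 11], [2, 40, 33, 41, 41, 41, 33], [2, 24, 44, 48, 41, 32, 10], [24, 48, 24, 48, 45, 49, 44], [24, 40, 40, 40, 33, 41, 41, 41], [2, 10, 45, 49, 24, 32, 41, 41], [2, 10, 48, 44, 2, 10, 48, 44], [2, 10, 44, 11, 2, 10, 44, 11], [24, 32, 25, 48, 24, 32, 25, 48], [10, 45, 48, 44, 10, 45, 48, 44], [2, 11, 2, 11, 2, 11, 2, 11, 2, 11], [2, 10, 40, 40, 33, 41, 41, 3, 40, 40], [2, 10, 3, 40, 40, 40, 33, 24, 32, 41], [44, 49, 44, 49,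 44, 49, 44, 49, 44, 49], [2, 10, 25, 48, 44, 49, 24, 40, 40, 33], [24, 32, 40, 40, 33, 45, 49, 25, 48, 44], [40, 40, 40, 40, 40, 40, 40, 40, 40, 40, 40, 40, 40, 40, 40, 40, 40, 40, 40, 40, 40, 40, 40]]

def W2 : List (List ℕ) := [[2], [10, 10, 10], [10, 44, 11], [11, 2, 45], [44, 2, 2, 10], [44, 10, 2, 10], [44, 44, 44], [45, 2, 10, 45], [10, 2, 2, 2, 11], [10, 2, 10, 44, 10], [10, 2, 44, 3, 11], [10, 3, 10, 45, 10], [10, 3, 44, 2, 11], [11, 3, 10, 10, 45], [11, 3, 44, 10, 44], [11, 44, 10, 10, 2, 11], [11, 44, 44, 44, 10], [11, 45, 2, 11, 44], [11, 45, 10, 10, 3, 11], [44, 11, 2, 2, 44], [44, 11, 44, 10, 2, 11], [45, 3, 10, 3, 45, 10], [45, 3, 44, 10, 3, 11], [45, 10, 2, 10, 44], [45, 10, 10, 10, 44], [45, 10, 44, 2, 44], [45, 11, 2, 44, 10], [45, 11, 44, 44, 2, 10], [10, 2, 11, 2, 10, 3, 11], [10, 2, 11, 44, 11, 44], [10,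 3, 11, 2, 10, 2, 11], [10, 3, 11, 44, 3, 45, 10], [11, 3, 45, 2, 45, 10], [11, 3, 45, 10, 2, 44], [11, 44, 2, 2, 44, 2, 10], [11, 44, 2, 10, 44, 2, 10], [11, 44, 2, 44, 10, 45]]

def R2 : List (List ℕ) := [[22, 22], [20, 20, 20], [4, 4, 4], [0, 0, 0], [6, 15, 46, 52], [6, 15, 67, 71], [0, 4, 0, 4], [4, 20, 4, 20], [0, 20, 0, 20], [28, 52, 28, 52], [0, 7, 72, 15], [0, 6, 15, 67], [14, 40, 20, 66], [0, 6, 0, 6, 15], [0, 28, 46, 6, 15], [6, 15, 29, 20, 22], [46, 46, 46, 46, 46], [4, 28, 47, 47, 14, 29], [20, 22, 70, 22, 72, 40], [14, 73, 23, 71, 23, 66], [0, 4, 28, 52, 6, 15], [22, 53, 29, 22, 53, 29], [6, 15, 46, 46, 67, 41, 73], [0, 6, 15, 0, 71, 23, 41, 15], [4, 28, 52, 6, 15, 47, 14, 29], [6, 15, 29, 71, 23, 66, 47, 47, 14, 52], [22, 70, 22, 70, 22, 70, 22, 70, 22, 70], [0, 6, 15, 0, 6, 15, 0, 6, 15, 0, 6, 15, 0, 6, 15]]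

theorem card_le_of_le {X : Type*} [Group X] {A B : Subgroup X} (h : A ≤ B) {n : ℕ}
    (hB : Nat.card B ≠ 0 ∧ Nat.card B ≤ n) : Nat.card A ≠ 0 ∧ Nat.card A ≤ n := by
  have : Finite B := Nat.finite_of_card_ne_zero hB.1
  have : Finite A := Finite.of_injective _ (Subgroup.inclusion_injective h)
  exact ⟨Nat.card_pos.ne', (Subgroup.card_le_of_le h).trans hB.2⟩

theorem rels1 {X : Type*} [Group X] (z : ℕ → X) (hz : ∀ w ∈ M24Ord.K, wval z w = 1) :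
    ∀ w ∈ R1, wval (fun i => wval z (W1.getD i [])) w = 1 :=
  one_of_killB [] _ [([0, 10, 3, 0, 45, 42, 26, 14, 6, 2, 0, 11, 2], 1, [([0, 10, 3, 0, 45, 42, 26, 14, 6, 2, 0, 11], 1), ([0, 10], 1), ([], 48)], 0, []),
    ([0, 10, 3, 0, 44, 42, 26, 14, 6, 2, 0, 11, 3], 1, [([0, 10, 3, 0, 44, 42, 26, 14, 6, 2, 0, 11], 1), ([0, 10], 1), ([], 50)], 0, []),
    ([0, 10, 5, 40, 28, 20, 32, 30, 21, 36, 28, 16, 6, 4, 11, 3], 1, [([0, 10, 5, 40, 28, 20, 32, 30, 21, 36, 28, 16, 6, 4, 11], 1), ([0, 10], 1), ([], 64)], 0, []),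
    ([0, 10, 5, 40, 28, 20, 33, 30, 21, 36, 28, 16, 6, 4, 11, 2], 1, [([0, 10, 5, 40, 28, 20, 33, 30, 21, 36, 28, 16, 6, 4, 11], 1), ([0, 10], 1), ([], 66)], 0, []),
    ([0, 10, 5, 36, 39, 36, 28, 20, 33, 30, 16, 6, 2, 0, 11, 3], 1, [([0, 10, 5, 36, 39, 36, 28, 20, 33, 30, 16, 6, 2, 0, 11], 1), ([0, 10], 1), ([], 72)], 0, []),
    ([0, 10, 3, 0, 32, 30, 21, 40, 38, 40, 28, 16, 6, 4, 11, 2], 1, [([0, 10, 3, 0, 32, 30, 21, 40, 38, 40, 28, 16, 6, 4, 11], 1), ([0, 10], 1), ([], 74)], 0, []),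
    ([4, 10, 5, 7, 15, 23, 25, 18, 27, 47, 49, 19, 23, 25, 18, 27, 47, 49], 1, [([4], 0), ([], 80)], 0, []),
    ([4, 10, 5, 25, 22, 18, 49, 46, 26, 19, 25, 22, 18, 49, 46, 26, 14, 6], 1, [([4, 10], 1), ([7, 15, 27, 47, 48, 19, 23, 24, 18, 27, 47, 48, 19, 23, 24], 83)], 0, []),
    ([2, 11, 2, 11, 2, 11, 2, 11, 2, 11], 1, [([2, 11, 2, 11, 2, 11, 2, 11, 2, 11], 1), ([2, 11, 2, 11, 2, 11, 2, 11, 2], 0), ([2, 11, 2, 11, 2, 11, 2, 11], 1), ([2, 11, 2, 11, 2, 11, 2], 0), ([2, 11, 2, 11, 2, 11], 1), ([2, 11, 2, 11, 2], 0), ([2, 11, 2, 11], 1), ([2, 11, 2], 0), ([2, 11], 1), ([2], 0), ([], 84)], 0, []),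
    ([0, 11, 2, 0, 11, 2, 0, 11, 2, 0, 11, 2, 0, 11, 2], 1, [([0, 11, 2, 0, 11, 2, 0, 11, 2, 0, 11, 2, 0], 0), ([0, 11, 2, 0, 11, 2, 0, 11, 2, 0], 0), ([0, 11, 2, 0, 11, 2, 0], 0), ([0, 11, 2, 0], 0), ([0], 0), ([], 86)], 0, []),
    ([4, 10, 5, 25, 22, 18, 45, 42, 34, 49, 46, 35, 44, 42, 26, 19, 24, 22, 14, 6], 1, [([4, 10], 1), ([7, 15, 23, 25, 18, 27, 43, 45, 34, 47, 48, 35, 43, 44, 19, 23, 24], 89)], 0, []),
    ([4, 10, 5, 48, 46, 35, 45, 42, 34, 49, 46, 35, 44, 42, 34, 49, 46, 26, 14, 6], 1, [([4, 10], 1), ([7, 15, 27, 47, 48, 35, 43, 45, 34, 47, 48, 35, 43, 44, 34, 47, 49], 91)], 0, []),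
    ([4, 10, 5, 7, 15, 23, 25, 18, 27, 43, 45, 34, 47, 49, 35, 43, 44, 19, 23, 24], 1, [([4], 0), ([], 92)], 0, []),
    ([4, 10, 5, 7, 15, 27, 47, 48, 35, 43, 45, 34, 47, 49, 35, 43, 44, 34, 47, 49], 1, [([4], 0), ([], 94)], 0, []),
    ([4, 10, 5, 7, 17, 36, 39, 41, 39, 41, 28, 20, 33, 21, 29, 36, 28, 13, 15, 24, 22], 1, [([4, 10], 1), ([23, 25, 14, 12, 29, 37, 28, 20, 32, 21, 29, 40, 38, 40, 38, 37, 16, 6], 101)], 0, []),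
    ([0, 24, 22, 18, 44, 42, 34, 48, 46, 26, 14, 12, 36, 28, 20, 32, 30, 16, 6, 4, 10, 2], 1, [([0, 24, 22, 18, 44, 42, 34, 48, 46, 26, 14, 12, 36, 28, 20, 32, 30, 16, 6, 4, 10], 1), ([], 106)], 0, []),
    ([0, 45, 42, 34, 49, 46, 26, 14, 6, 4, 11, 3, 0, 45, 42, 34, 49, 46, 26, 14, 6, 4, 11, 3], 1, [([0, 45, 42, 34, 49, 46, 26, 14, 6, 4, 11, 3, 0, 45, 42, 34, 49, 46, 26, 14, 6, 4, 11], 1), ([0, 45, 42, 34, 49, 46, 26, 14, 6, 4, 11], 1), ([], 112)], 0, []),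
    ([0, 10, 5, 44, 42, 26, 14, 6, 4, 11, 2, 0, 10, 5, 44, 42, 26, 14, 6, 4, 11, 2], 1, [([0, 10, 5, 44, 42, 26, 14, 6, 4, 11, 2, 0, 10, 5, 44, 42, 26, 14, 6, 4, 11], 1), ([0, 10, 5, 44, 42, 26, 14, 6, 4, 11, 2, 0, 10], 1), ([0, 10, 5, 44, 42, 26, 14, 6, 4, 11], 1), ([0, 10], 1), ([], 114)], 0, []),
    ([0, 36, 39, 36, 28, 16, 6, 2, 0, 40, 38, 40, 28, 20, 32, 30, 21, 36, 39, 36, 28, 16, 6, 4, 11, 3], 1, [([0, 36, 39, 36, 28, 16, 6, 2, 0, 40, 38, 40, 28, 20, 32, 30, 21, 36, 39, 36, 28, 16, 6, 4, 11], 1), ([], 116)], 0, []),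
    ([0, 7, 29, 40, 38, 37, 28, 20, 31, 33, 30, 13, 23, 25, 22, 18, 27, 48, 35, 44, 26, 6, 4, 11, 1, 3], 1, [([0, 7, 29, 40, 38, 37, 28, 20, 31, 33, 30, 13, 23, 25, 22, 18, 27, 48, 35, 44, 26, 6, 4, 11], 1), ([0, 7, 29, 40, 38, 37, 28, 20, 31, 33, 30, 13, 23, 25, 22, 18, 27, 48, 35, 44, 26, 6, 4], 0), ([], 118)], 0, []),
    ([0, 10, 3, 0, 40, 38, 40, 38, 40, 28, 20, 33, 30, 16, 13, 24, 22, 14, 12, 32, 30, 21, 36, 28, 16, 6, 2], 1, [([0, 10], 1), ([], 120)], 0, []),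
    ([4, 10, 5, 45, 42, 34, 48, 46, 35, 44, 42, 26, 14, 6, 4, 10, 5, 45, 42, 34, 48, 46, 35, 44, 42, 26, 14, 6], 1, [([4, 10, 5, 45, 42, 34, 48, 46, 35, 44, 42, 26, 14, 6, 4, 10], 1), ([4, 10], 1), ([7, 15, 27, 43, 45, 34, 47, 49, 35, 43, 44], 129)], 0, []),
    ([0, 10, 5, 25, 22, 18, 48, 46, 35, 44, 42, 34, 49, 46, 26, 19, 24, 22, 14, 12, 40, 38, 40, 28, 20, 33, 30, 16, 6, 2], 1, [([0, 10], 1), ([], 130)], 0, []),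
    ([0, 10, 3, 0, 45, 42, 26, 6, 2, 0, 11, 2], 1, [([0, 10, 3, 0, 45, 42, 26], 3), ([], 136)], 0, []),
    ([0, 10, 3, 0, 44, 42, 26, 6, 2, 0, 11, 3], 1, [([0, 10, 3, 0, 44, 42, 26], 3), ([], 138)], 0, []),
    ([0, 36, 39, 36, 28, 16, 13, 25, 22, 12, 33, 30, 16, 6, 2], 1, [([0, 36, 39, 36, 28, 16, 13, 25, 22], 3), ([], 52)], 0, []),
    ([0, 44, 42, 26, 12, 32, 30, 21, 40, 38, 40, 28, 16, 6, 3], 1, [([0, 44, 42, 26], 3), ([], 54)], 0, []),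
    ([0, 36, 39, 36, 28, 20, 33, 30, 16, 13, 45, 42, 26, 6, 2], 1, [([0, 36, 39, 36, 28, 20, 33, 30, 16, 13, 45, 42, 26], 3), ([], 56)], 0, []),
    ([0, 32, 30, 16, 13, 24, 22, 12, 40, 38, 40, 28, 16, 6, 3], 1, [([0, 32, 30, 16, 13, 24, 22], 3), ([], 58)], 0, []),
    ([12, 17, 31, 32, 13, 23, 25, 12, 17, 31, 33, 13, 27, 43, 44], 1, [([12, 17, 31, 32, 13, 23, 25, 12, 17, 31, 33, 13], 2), ([12, 17, 31, 32, 13], 2), ([], 60)], 0, []),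
    ([12, 17, 31, 32, 13, 23, 24, 12, 17, 31, 33, 13, 27, 43, 45], 1, [([12, 17, 31, 32, 13, 23, 24, 12, 17, 31, 33, 13], 2), ([12, 17, 31, 32, 13], 2), ([], 62)], 0, []),
    ([0, 7, 17, 32, 30, 13, 44, 19, 24, 22, 18, 27, 47, 49, 46, 26, 2], 1, [([0, 7, 17, 32, 30, 13], 2), ([], 70)], 0, []),
    ([4, 10, 5, 7, 23, 25, 18, 27, 47, 49, 19, 23, 25, 18, 27, 47, 49], 1, [([4, 10, 5, 7], 2), ([], 148)], 0, []),
    ([4, 10, 5, 25, 22, 18, 49, 46, 26, 19, 25, 22, 18, 49, 46, 26, 6], 1, [([4, 10, 5, 25, 22, 18, 49, 46, 26, 19, 25, 22, 18, 49, 46, 26], 3), ([], 150)], 0, []),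
    ([4, 10, 5, 25, 22, 18, 45, 42, 34, 49, 46, 35, 44, 42, 26, 19, 24, 22, 6], 1, [([4, 10, 5, 25, 22, 18, 45, 42, 34, 49, 46, 35, 44, 42, 26, 19, 24, 22], 3), ([], 156)], 0, []),
    ([4, 10, 5, 48, 46, 35, 45, 42, 34, 49, 46, 35, 44, 42, 34, 49, 46, 26, 6], 1, [([4, 10, 5, 48, 46, 35, 45, 42, 34, 49, 46, 35, 44, 42, 34, 49, 46, 26], 3), ([], 158)], 0, []),
    ([4, 10, 5, 7, 23, 25, 18, 27, 43, 45, 34, 47, 49, 35, 43, 44, 19, 23, 24], 1, [([4, 10, 5, 7], 2), ([], 160)], 0, []),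
    ([4, 10, 5, 7, 27, 47, 48, 35, 43, 45, 34, 47, 49, 35, 43, 44, 34, 47, 49], 1, [([4, 10, 5, 7], 2), ([], 162)], 0, []),
    ([12, 17, 29, 37, 38, 37, 38, 37, 20, 31, 33, 21, 29, 41, 39, 41, 39, 41, 13, 23, 24], 1, [([12, 17, 29, 37, 38, 37, 38, 37, 20, 31, 33, 21, 29, 41, 39, 41, 39, 41, 13], 2), ([], 96)], 0, []),
    ([12, 17, 29, 37, 38, 37, 38, 37, 20, 31, 32, 21, 29, 41, 39, 41, 39, 41, 13, 23, 25], 1, [([12, 17, 29, 37, 38, 37, 38, 37, 20, 31, 32, 21, 29, 41, 39, 41, 39, 41, 13], 2), ([], 98)], 0, []),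
    ([4, 10, 5, 7, 17, 36, 39, 41, 39, 41, 28, 20, 33, 21, 29, 36, 28, 13, 24, 22], 1, [([4, 10, 5, 7, 17, 36, 39, 41, 39, 41, 28, 20, 33, 21, 29, 36, 28, 13], 2), ([], 164)], 0, []),
    ([2, 10, 5, 43, 45, 42, 34, 47, 49, 46, 19, 24, 12, 17, 32, 21, 41, 39, 36, 16], 1, [([2, 10, 5, 43, 45, 42, 34, 47, 49, 46, 19, 24], 3), ([2, 10, 5], 2), ([], 102)], 0, []),
    ([0, 17, 31, 32, 30, 16, 13, 27, 44, 42, 19, 23, 24, 22, 18, 47, 49, 26, 1, 2], 1, [([0, 17, 31, 32, 30, 16, 13, 27, 44, 42, 19, 23, 24, 22, 18, 47, 49, 26], 3), ([0, 17, 31, 32, 30, 16, 13], 2), ([3], 105)], 0, []),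
    ([0, 24, 22, 18, 44, 42, 34, 48, 46, 26, 12, 36, 28, 20, 32, 30, 16, 6, 4, 10, 2], 1, [([0, 24, 22, 18, 44, 42, 34, 48, 46, 26], 3), ([], 166)], 0, []),
    ([0, 45, 42, 34, 49, 46, 26, 6, 4, 11, 3, 0, 45, 42, 34, 49, 46, 26, 6, 4, 11, 3], 1, [([0, 45, 42, 34, 49, 46, 26, 6, 4, 11, 3, 0, 45, 42, 34, 49, 46, 26], 3), ([0, 45, 42, 34, 49, 46, 26], 3), ([], 168)], 0, []),
    ([0, 10, 5, 44, 42, 26, 6, 4, 11, 2, 0, 10, 5, 44, 42, 26, 6, 4, 11, 2], 1, [([0, 10, 5, 44, 42, 26, 6, 4, 11, 2, 0, 10, 5, 44, 42, 26], 3), ([0, 10, 5, 44, 42, 26], 3), ([], 170)], 0, []),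
    ([0, 10, 3, 0, 40, 38, 40, 38, 40, 28, 20, 33, 30, 16, 13, 24, 22, 12, 32, 30, 21, 36, 28, 16, 6, 2], 1, [([0, 10, 3, 0, 40, 38, 40, 38, 40, 28, 20, 33, 30, 16, 13, 24, 22], 3), ([], 176)], 0, []),
    ([12, 17, 31, 33, 13, 23, 25, 18, 27, 47, 49, 19, 23, 24, 12, 17, 31, 33, 13, 23, 25, 18, 27, 47, 49, 19, 23, 24], 1, [([12, 17, 31, 33, 13, 23, 25, 18, 27, 47, 49, 19, 23, 24, 12, 17, 31, 33, 13], 2), ([12, 17, 31, 33, 13], 2), ([], 126)], 0, []),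
    ([4, 10, 5, 45, 42, 34, 48, 46, 35, 44, 42, 26, 6, 4, 10, 5, 45, 42, 34, 48, 46, 35, 44, 42, 26, 6], 1, [([4, 10, 5, 45, 42, 34, 48, 46, 35, 44, 42, 26, 6, 4, 10, 5, 45, 42, 34, 48, 46, 35, 44, 42, 26], 3), ([4, 10, 5, 45, 42, 34, 48, 46, 35, 44, 42, 26], 3), ([], 178)], 0, []),
    ([0, 10, 5, 25, 22, 18, 48, 46, 35, 44, 42, 34, 49, 46, 26, 19, 24, 22, 12, 40, 38, 40, 28, 20, 33, 30, 16, 6, 2], 1, [([0, 10, 5, 25, 22, 18, 48, 46, 35, 44, 42, 34, 49, 46, 26, 19, 24, 22], 3), ([], 180)], 0, []),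
    ([12, 17, 31, 32, 21, 29, 37, 38, 37, 20, 31, 33, 13, 27, 43, 45, 34, 47, 49, 19, 23, 25, 18, 27, 47, 48, 35, 43, 44, 19, 23, 24], 1, [([12, 17, 31, 32, 21, 29, 37, 38, 37, 20, 31, 33, 13], 2), ([], 132)], 0, []),
    ([0, 44, 42, 26, 12, 32, 30, 40, 38, 40, 28, 16, 6, 3], 1, [([0, 44, 42, 26, 12, 32, 30], 4), ([], 188)], 0, []),
    ([0, 36, 39, 36, 28, 33, 30, 16, 13, 45, 42, 26, 6, 2], 1, [([0, 36, 39, 36, 28], 5), ([], 190)], 0, []),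
    ([0, 10, 5, 40, 28, 32, 30, 36, 28, 16, 6, 4, 11, 3], 1, [([0, 10, 5, 40, 28, 32, 30], 4), ([0, 10, 5, 40, 28], 5), ([], 140)], 0, []),
    ([0, 10, 5, 40, 28, 33, 30, 36, 28, 16, 6, 4, 11, 2], 1, [([0, 10, 5, 40, 28, 33, 30], 4), ([0, 10, 5, 40, 28], 5), ([], 142)], 0, []),
    ([4, 10, 5, 7, 41, 39, 41, 39, 36, 28, 31, 33, 36, 13, 24, 6], 1, [([4, 10, 5, 7, 41, 39, 41, 39, 36, 28, 31, 33], 4), ([4, 10, 5, 7, 41, 39, 41, 39, 36, 28], 5), ([], 68)], 0, []),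
    ([0, 10, 5, 36, 39, 36, 28, 33, 30, 16, 6, 2, 0, 11, 3], 1, [([0, 10, 5, 36, 39, 36, 28], 5), ([], 144)], 0, []),
    ([0, 10, 3, 0, 32, 30, 40, 38, 40, 28, 16, 6, 4, 11, 2], 1, [([0, 10, 3, 0, 32, 30], 4), ([], 146)], 0, []),
    ([0, 40, 28, 33, 30, 36, 39, 36, 39, 36, 28, 33, 30, 16, 6, 2], 1, [([0, 40, 28, 33, 30, 36, 39, 36, 39, 36, 28], 5), ([0, 40, 28, 33, 30], 4), ([0, 40, 28], 5), ([], 76)], 0, []),
    ([0, 32, 30, 40, 38, 40, 38, 40, 28, 32, 30, 36, 28, 16, 6, 3], 1, [([0, 32, 30, 40, 38, 40, 38, 40, 28, 32, 30], 4), ([0, 32, 30, 40, 38, 40, 38, 40, 28], 5), ([0, 32, 30], 4), ([], 78)], 0, []),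
    ([12, 17, 29, 37, 38, 37, 38, 37, 31, 33, 29, 41, 39, 41, 39, 41, 13, 23, 24], 1, [([12, 17, 29, 37, 38, 37, 38, 37, 31, 33], 4), ([12, 17, 29, 37, 38, 37, 38, 37], 5), ([], 212)], 0, []),
    ([12, 17, 29, 37, 38, 37, 38, 37, 31, 32, 29, 41, 39, 41, 39, 41, 13, 23, 25], 1, [([12, 17, 29, 37, 38, 37, 38, 37, 31, 32], 4), ([12, 17, 29, 37, 38, 37, 38, 37], 5), ([], 214)], 0, []),
    ([4, 10, 5, 7, 17, 36, 39, 41, 39, 41, 28, 33, 29, 36, 28, 13, 24, 22], 1, [([4, 10, 5, 7, 17, 36, 39, 41, 39, 41, 28, 33], 4), ([4, 10, 5, 7, 17, 36, 39, 41, 39, 41, 28], 5), ([], 216)], 0, []),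
    ([2, 10, 5, 43, 45, 42, 34, 47, 49, 46, 19, 24, 12, 17, 32, 41, 39, 36, 16], 1, [([2, 10, 5, 43, 45, 42, 34, 47, 49, 46, 19, 24, 12, 17, 32], 4), ([], 218)], 0, []),
    ([0, 24, 22, 18, 44, 42, 34, 48, 46, 26, 12, 36, 28, 32, 30, 16, 6, 4, 10, 2], 1, [([0, 24, 22, 18, 44, 42, 34, 48, 46, 26, 12, 36, 28], 5), ([], 222)], 0, []),
    ([0, 36, 39, 36, 28, 16, 6, 2, 0, 40, 38, 40, 28, 32, 30, 36, 39, 36, 28, 16, 6, 4, 11, 3], 1, [([0, 36, 39, 36, 28, 16, 6, 2, 0, 40, 38, 40, 28, 32, 30], 4), ([0, 36, 39, 36, 28, 16, 6, 2, 0, 40, 38, 40, 28], 5), ([], 172)], 0, []),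
    ([0, 7, 29, 40, 38, 37, 28, 31, 33, 30, 13, 23, 25, 22, 18, 27, 48, 35, 44, 26, 6, 4, 11, 1, 3], 1, [([0, 7, 29, 40, 38, 37, 28], 5), ([], 174)], 0, []),
    ([0, 10, 3, 0, 40, 38, 40, 38, 40, 28, 33, 30, 16, 13, 24, 22, 12, 32, 30, 36, 28, 16, 6, 2], 1, [([0, 10, 3, 0, 40, 38, 40, 38, 40, 28, 33, 30, 16, 13, 24, 22, 12, 32, 30], 4), ([0, 10, 3, 0, 40, 38, 40, 38, 40, 28], 5), ([], 228)], 0, []),
    ([0, 10, 5, 25, 22, 18, 48, 46, 35, 44, 42, 34, 49, 46, 26, 19, 24, 22, 12, 40, 38, 40, 28, 33, 30, 16, 6, 2], 1, [([0, 10, 5, 25, 22, 18, 48, 46, 35, 44, 42, 34, 49, 46, 26, 19, 24, 22, 12, 40, 38, 40, 28], 5), ([], 234)], 0, []),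
    ([12, 17, 31, 32, 29, 37, 38, 37, 31, 33, 13, 27, 43, 45, 34, 47, 49, 19, 23, 25, 18, 27, 47, 48, 35, 43, 44, 19, 23, 24], 1, [([12, 17, 31, 32, 29, 37, 38, 37], 5), ([12, 17, 31, 32], 4), ([], 236)], 0, []),
    ([0, 10, 3, 0, 45, 42, 6, 2, 0, 11, 2], 1, [([0, 10, 3, 0, 45, 42], 7), ([], 182)], 0, []),
    ([0, 10, 3, 0, 44, 42, 6, 2, 0, 11, 3], 1, [([0, 10, 3, 0, 44, 42], 7), ([], 184)], 0, []),
    ([0, 44, 42, 12, 32, 30, 40, 38, 40, 28, 16, 6, 3], 1, [([0, 44, 42], 7), ([], 238)], 0, []),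
    ([0, 36, 39, 36, 28, 33, 30, 16, 13, 45, 42, 6, 2], 1, [([0, 36, 39, 36, 28, 33, 30, 16, 13, 45, 42], 7), ([], 240)], 0, []),
    ([12, 17, 31, 32, 13, 23, 25, 12, 17, 31, 33, 13, 43, 44], 1, [([12, 17, 31, 32, 13, 23, 25, 12, 17, 31, 33, 13], 6), ([], 194)], 0, []),
    ([12, 17, 31, 32, 13, 23, 24, 12, 17, 31, 33, 13, 43, 45], 1, [([12, 17, 31, 32, 13, 23, 24, 12, 17, 31, 33, 13], 6), ([], 196)], 0, []),
    ([0, 7, 17, 32, 30, 13, 44, 19, 24, 22, 18, 47, 49, 46, 2], 1, [([0, 7, 17, 32, 30, 13, 44, 19, 24, 22, 18, 47, 49, 46], 7), ([0, 7, 17, 32, 30, 13, 44, 19, 24, 22, 18], 6), ([], 198)], 0, []),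
    ([4, 10, 5, 7, 23, 25, 18, 47, 49, 19, 23, 25, 18, 47, 49], 1, [([4, 10, 5, 7, 23, 25, 18, 47, 49, 19, 23, 25, 18], 6), ([4, 10, 5, 7, 23, 25, 18], 6), ([], 200)], 0, []),
    ([4, 10, 5, 25, 22, 18, 49, 46, 19, 25, 22, 18, 49, 46, 6], 1, [([4, 10, 5, 25, 22, 18, 49, 46, 19, 25, 22, 18, 49, 46], 7), ([4, 10, 5, 25, 22, 18, 49, 46], 7), ([], 202)], 0, []),
    ([4, 10, 5, 25, 22, 18, 45, 42, 34, 49, 46, 35, 44, 42, 19, 24, 22, 6], 1, [([4, 10, 5, 25, 22, 18, 45, 42, 34, 49, 46, 35, 44, 42], 7), ([], 204)], 0, []),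
    ([4, 10, 5, 48, 46, 35, 45, 42, 34, 49, 46, 35, 44, 42, 34, 49, 46, 6], 1, [([4, 10, 5, 48, 46, 35, 45, 42, 34, 49, 46, 35, 44, 42, 34, 49, 46], 7), ([], 206)], 0, []),
    ([4, 10, 5, 7, 23, 25, 18, 43, 45, 34, 47, 49, 35, 43, 44, 19, 23, 24], 1, [([4, 10, 5, 7, 23, 25, 18], 6), ([], 208)], 0, []),
    ([4, 10, 5, 7, 47, 48, 35, 43, 45, 34, 47, 49, 35, 43, 44, 34, 47, 49], 1, [([4, 10, 5, 7], 6), ([], 210)], 0, []),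
    ([0, 17, 31, 32, 30, 16, 13, 44, 42, 19, 23, 24, 22, 18, 47, 49, 1, 2], 1, [([0, 17, 31, 32, 30, 16, 13, 44, 42, 19, 23, 24, 22, 18, 47, 49], 7), ([0, 17, 31, 32, 30, 16, 13], 6), ([], 220)], 0, []),
    ([0, 24, 22, 18, 44, 42, 34, 48, 46, 12, 36, 28, 32, 30, 16, 6, 4, 10, 2], 1, [([0, 24, 22, 18, 44, 42, 34, 48, 46], 7), ([], 264)], 0, []),
    ([18, 45, 42, 34, 48, 46, 35, 44, 42, 34, 49, 46, 19, 25, 22, 18, 49, 46, 19, 25, 22], 1, [([18, 45, 42, 34, 48, 46, 35, 44, 42, 34, 49, 46, 19, 25, 22, 18, 49, 46], 7), ([18, 45, 42, 34, 48, 46, 35, 44, 42, 34, 49, 46], 7), ([23, 24], 109)], 0, []),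
    ([18, 43, 45, 34, 47, 48, 35, 43, 44, 34, 47, 49, 19, 23, 25, 18, 47, 49, 19, 23, 25], 1, [([18, 43, 45, 34, 47, 48, 35, 43, 44, 34, 47, 49, 19, 23, 25, 18], 6), ([18], 6), ([], 110)], 0, []),
    ([0, 45, 42, 34, 49, 46, 6, 4, 11, 3, 0, 45, 42, 34, 49, 46, 6, 4, 11, 3], 1, [([0, 45, 42, 34, 49, 46, 6, 4, 11, 3, 0, 45, 42, 34, 49, 46], 7), ([0, 45, 42, 34, 49, 46], 7), ([], 224)], 0, []),
    ([0, 10, 5, 44, 42, 6, 4, 11, 2, 0, 10, 5, 44, 42, 6, 4, 11, 2], 1, [([0, 10, 5, 44, 42, 6, 4, 11, 2, 0, 10, 5, 44, 42], 7), ([0, 10, 5, 44, 42], 7), ([], 226)], 0, []),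
    ([0, 7, 29, 40, 38, 37, 28, 31, 33, 30, 13, 23, 25, 22, 18, 48, 35, 44, 6, 4, 11, 1, 3], 1, [([0, 7, 29, 40, 38, 37, 28, 31, 33, 30, 13, 23, 25, 22, 18, 48, 35, 44], 7), ([0, 7, 29, 40, 38, 37, 28, 31, 33, 30, 13, 23, 25, 22, 18], 6), ([], 268)], 0, []),
    ([12, 17, 31, 33, 13, 23, 25, 18, 47, 49, 19, 23, 24, 12, 17, 31, 33, 13, 23, 25, 18, 47, 49, 19, 23, 24], 1, [([12, 17, 31, 33, 13, 23, 25, 18, 47, 49, 19, 23, 24, 12, 17, 31, 33, 13, 23, 25, 18], 6), ([12, 17, 31, 33, 13, 23, 25, 18], 6), ([], 230)], 0, []),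
    ([4, 10, 5, 45, 42, 34, 48, 46, 35, 44, 42, 6, 4, 10, 5, 45, 42, 34, 48, 46, 35, 44, 42, 6], 1, [([4, 10, 5, 45, 42, 34, 48, 46, 35, 44, 42, 6, 4, 10, 5, 45, 42, 34, 48, 46, 35, 44, 42], 7), ([4, 10, 5, 45, 42, 34, 48, 46, 35, 44, 42], 7), ([], 232)], 0, []),
    ([0, 10, 5, 25, 22, 18, 48, 46, 35, 44, 42, 34, 49, 46, 19, 24, 22, 12, 40, 38, 40, 28, 33, 30, 16, 6, 2], 1, [([0, 10, 5, 25, 22, 18, 48, 46, 35, 44, 42, 34, 49, 46], 7), ([], 272)], 0, []),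
    ([12, 17, 31, 32, 29, 37, 38, 37, 31, 33, 13, 43, 45, 34, 47, 49, 19, 23, 25, 18, 47, 48, 35, 43, 44, 19, 23, 24], 1, [([12, 17, 31, 32, 29, 37, 38, 37, 31, 33, 13, 43, 45, 34, 47, 49, 19, 23, 25, 18], 6), ([12, 17, 31, 32, 29, 37, 38, 37, 31, 33, 13], 6), ([], 274)], 0, []),
    ([0, 36, 36, 28, 16, 13, 25, 22, 12, 33, 30, 16, 6, 2], 1, [([0, 36], 8), ([], 186)], 0, []),
    ([0, 44, 42, 12, 32, 30, 40, 40, 28, 16, 6, 3], 1, [([0, 44, 42, 12, 32, 30, 40], 9), ([], 280)], 0, []),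
    ([0, 36, 36, 28, 33, 30, 16, 13, 45, 42, 6, 2], 1, [([0, 36], 8), ([], 282)], 0, []),
    ([0, 32, 30, 16, 13, 24, 22, 12, 40, 40, 28, 16, 6, 3], 1, [([0, 32, 30, 16, 13, 24, 22, 12, 40], 9), ([], 192)], 0, []),
    ([4, 10, 5, 7, 41, 41, 36, 28, 31, 33, 36, 13, 24, 6], 1, [([4, 10, 5, 7, 41, 41], 8), ([4, 10, 5, 7, 41], 8), ([], 246)], 0, []),
    ([0, 10, 5, 36, 36, 28, 33, 30, 16, 6, 2, 0, 11, 3], 1, [([0, 10, 5, 36], 8), ([], 248)], 0, []),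
    ([0, 10, 3, 0, 32, 30, 40, 40, 28, 16, 6, 4, 11, 2], 1, [([0, 10, 3, 0, 32, 30, 40], 9), ([], 250)], 0, []),
    ([0, 40, 28, 33, 30, 36, 36, 36, 28, 33, 30, 16, 6, 2], 1, [([0, 40, 28, 33, 30, 36, 36], 8), ([0, 40, 28, 33, 30, 36], 8), ([], 252)], 0, []),
    ([0, 32, 30, 40, 40, 40, 28, 32, 30, 36, 28, 16, 6, 3], 1, [([0, 32, 30, 40, 40], 9), ([0, 32, 30, 40], 9), ([], 254)], 0, []),
    ([12, 17, 29, 37, 37, 37, 31, 33, 29, 41, 41, 41, 13, 23, 24], 1, [([12, 17, 29, 37, 37, 37, 31, 33, 29, 41, 41], 8), ([12, 17, 29, 37, 37, 37, 31, 33, 29, 41], 8), ([12, 17, 29, 37, 37], 9), ([12, 17, 29, 37], 9), ([], 256)], 0, []),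
    ([12, 17, 29, 37, 37, 37, 31, 32, 29, 41, 41, 41, 13, 23, 25], 1, [([12, 17, 29, 37, 37, 37, 31, 32, 29, 41, 41], 8), ([12, 17, 29, 37, 37, 37, 31, 32, 29, 41], 8), ([12, 17, 29, 37, 37], 9), ([12, 17, 29, 37], 9), ([], 258)], 0, []),
    ([4, 10, 5, 7, 17, 36, 41, 41, 28, 33, 29, 36, 28, 13, 24, 22], 1, [([4, 10, 5, 7, 17, 36, 41], 8), ([4, 10, 5, 7, 17, 36], 8), ([], 260)], 0, []),
    ([2, 10, 5, 43, 45, 42, 34, 47, 49, 46, 19, 24, 12, 17, 32, 41, 36, 16], 1, [([2, 10, 5, 43, 45, 42, 34, 47, 49, 46, 19, 24, 12, 17, 32, 41], 8), ([], 262)], 0, []),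
    ([0, 36, 36, 28, 16, 6, 2, 0, 40, 40, 28, 32, 30, 36, 36, 28, 16, 6, 4, 11, 3], 1, [([0, 36, 36, 28, 16, 6, 2, 0, 40, 40, 28, 32, 30, 36], 8), ([0, 36, 36, 28, 16, 6, 2, 0, 40], 9), ([0, 36], 8), ([], 266)], 0, []),
    ([0, 7, 29, 40, 37, 28, 31, 33, 30, 13, 23, 25, 22, 18, 48, 35, 44, 6, 4, 11, 1, 3], 1, [([0, 7, 29, 40], 9), ([], 314)], 0, []),
    ([0, 10, 3, 0, 40, 40, 40, 28, 33, 30, 16, 13, 24, 22, 12, 32, 30, 36, 28, 16, 6, 2], 1, [([0, 10, 3, 0, 40, 40], 9), ([0, 10, 3, 0, 40], 9), ([], 270)], 0, []),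
    ([0, 10, 5, 25, 22, 18, 48, 46, 35, 44, 42, 34, 49, 46, 19, 24, 22, 12, 40, 40, 28, 33, 30, 16, 6, 2], 1, [([0, 10, 5, 25, 22, 18, 48, 46, 35, 44, 42, 34, 49, 46, 19, 24, 22, 12, 40], 9), ([], 320)], 0, []),
    ([12, 17, 31, 32, 29, 37, 37, 31, 33, 13, 43, 45, 34, 47, 49, 19, 23, 25, 18, 47, 48, 35, 43, 44, 19, 23, 24], 1, [([12, 17, 31, 32, 29, 37], 9), ([], 322)], 0, []),
    ([40, 40, 40, 40, 40, 40, 40, 40, 40, 40, 40, 40, 40, 40, 40, 40, 40, 40, 40, 40, 40, 40, 40], 1, [([40, 40, 40, 40, 40, 40, 40, 40, 40, 40, 40, 40, 40, 40, 40, 40, 40, 40, 40, 40, 40, 40], 9), ([40, 40, 40, 40, 40, 40, 40, 40, 40, 40, 40, 40, 40, 40, 40, 40, 40, 40, 40, 40, 40], 9), ([40, 40, 40, 40, 40, 40, 40, 40, 40, 40, 40, 40, 40, 40, 40, 40, 40, 40, 40, 40], 9), ([40, 40, 40, 40, 40, 40, 40, 40, 40, 40, 40, 40, 40, 40, 40, 40, 40, 40, 40],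 9), ([40, 40, 40, 40, 40, 40, 40, 40, 40, 40, 40, 40, 40, 40, 40, 40, 40, 40], 9), ([40, 40, 40, 40, 40, 40, 40, 40, 40, 40, 40, 40, 40, 40, 40, 40, 40], 9), ([40, 40, 40, 40, 40, 40, 40, 40, 40, 40, 40, 40, 40, 40, 40, 40], 9), ([40, 40, 40, 40, 40, 40, 40, 40, 40, 40, 40, 40, 40, 40, 40], 9), ([40, 40, 40, 40, 40, 40, 40, 40, 40, 40, 40, 40, 40, 40], 9), ([40, 40, 40, 40, 40, 40, 40, 40, 40, 40, 40, 40, 40], 9), ([40, 40, 40, 40, 40, 40, 40, 40, 40, 40, 40, 40], 9), ([40, 40, 40, 40, 40, 40, 40, 40, 40, 40, 40], 9), ([40, 40, 40, 40, 40, 40, 40, 40, 40, 40], 9), ([40, 40, 40, 40, 40, 40, 40, 40, 40], 9), ([40, 40, 40, 40, 40, 40, 40, 40], 9), ([40, 40, 40, 40, 40, 40, 40], 9), ([40, 40, 40, 40, 40, 40], 9), ([40, 40, 40, 40, 40], 9), ([40, 40, 40, 40], 9), ([40, 40, 40], 9), ([40, 40], 9), ([40], 9), ([], 9), ([], 134)],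 0, []),
    ([0, 10, 40, 28, 32, 30, 36, 28, 16, 6, 11, 3], 1, [([0, 10, 40, 28, 32, 30, 36, 28, 16, 6], 11), ([0, 10], 10), ([], 242)], 0, []),
    ([0, 10, 40, 28, 33, 30, 36, 28, 16, 6, 11, 2], 1, [([0, 10, 40, 28, 33, 30, 36, 28, 16, 6], 11), ([0, 10], 10), ([], 244)], 0, []),
    ([6, 10, 7, 41, 41, 36, 28, 31, 33, 36, 13, 24], 1, [([25, 12, 37, 32, 30, 29, 37, 40, 40, 6], 10), ([25, 12, 37, 32, 30, 29, 37, 40, 40, 6, 11], 11), ([25, 12, 37, 32, 30, 29, 37, 40, 40, 6, 11], 332)], 0, []),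
    ([0, 10, 36, 36, 28, 33, 30, 16, 6, 2, 0, 11, 3], 1, [([0, 10], 10), ([], 334)], 0, []),
    ([0, 10, 3, 0, 32, 30, 40, 40, 28, 16, 6, 11, 2], 1, [([0, 10, 3, 0, 32, 30, 40, 40, 28, 16, 6], 11), ([], 336)], 0, []),
    ([6, 11, 48, 46, 19, 24, 22, 18, 48, 46, 19, 24, 22], 1, [([6, 11], 10), ([6], 11), ([23, 25, 18, 47, 49, 19, 23, 25, 18, 47, 49], 291)], 0, []),
    ([6, 10, 25, 22, 18, 49, 46, 19, 25, 22, 18, 49, 46], 1, [([47, 48, 19, 23, 24, 18, 47, 48, 19, 23, 24], 10), ([47, 48, 19, 23, 24, 18, 47, 48, 19, 23, 24, 11], 11), ([47, 48, 19, 23, 24, 18, 47, 48, 19, 23, 24, 11], 292)], 0, []),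
    ([6, 10, 25, 22, 18, 45, 42, 34, 49, 46, 35, 44, 42, 19, 24, 22], 1, [([23, 25, 18, 43, 45, 34, 47, 48, 35, 43, 44, 19, 23, 24], 10), ([23, 25, 18, 43, 45, 34, 47, 48, 35, 43, 44, 19, 23, 24, 11], 11), ([23, 25, 18, 43, 45, 34, 47, 48, 35, 43, 44, 19, 23, 24, 11], 294)], 0, []),
    ([6, 10, 48, 46, 35, 45, 42, 34, 49, 46, 35, 44, 42, 34, 49, 46], 1, [([47, 48, 35, 43, 45, 34, 47, 48, 35, 43, 44, 34, 47, 49], 10), ([47, 48, 35, 43, 45, 34, 47, 48, 35, 43, 44, 34, 47, 49, 11], 11), ([47, 48, 35, 43, 45, 34, 47, 48, 35, 43, 44, 34, 47, 49, 11], 296)], 0, []),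
    ([6, 11, 25, 22, 18, 45, 42, 34, 48, 46, 35, 44, 42, 19, 24, 22], 1, [([6, 11], 10), ([6], 11), ([23, 25, 18, 43, 45, 34, 47, 49, 35, 43, 44, 19, 23, 24], 299)], 0, []),
    ([6, 11, 48, 46, 35, 45, 42, 34, 48, 46, 35, 44, 42, 34, 49, 46], 1, [([6, 11], 10), ([6], 11), ([47, 48, 35, 43, 45, 34, 47, 49, 35, 43, 44, 34, 47, 49], 301)], 0, []),
    ([6, 11, 23, 25, 12, 29, 37, 28, 32, 29, 40, 40, 37, 16], 1, [([6, 11], 10), ([6], 11), ([17, 36, 41, 41, 28, 33, 29, 36, 28, 13, 24, 22], 347)], 0, []),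
    ([2, 10, 43, 45, 42, 34, 47, 49, 46, 19, 24, 12, 17, 32, 41, 36, 16], 1, [([2, 10], 10), ([], 348)], 0, []),
    ([0, 24, 22, 18, 44, 42, 34, 48, 46, 12, 36, 28, 32, 30, 16, 6, 10, 2], 1, [([0, 24, 22, 18, 44, 42, 34, 48, 46, 12, 36, 28, 32, 30, 16, 6], 11), ([], 304)], 0, []),
    ([0, 45, 42, 34, 49, 46, 6, 11, 3, 0, 45, 42, 34, 49, 46, 6, 11, 3], 1, [([0, 45, 42, 34, 49, 46, 6, 11, 3, 0, 45, 42, 34, 49, 46, 6], 11), ([0, 45, 42, 34, 49, 46, 6], 11), ([], 310)], 0, []),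
    ([0, 10, 44, 42, 6, 11, 2, 0, 10, 44, 42, 6, 11, 2], 1, [([0, 10, 44, 42, 6, 11, 2, 0, 10, 44, 42, 6], 11), ([0, 10, 44, 42, 6, 11, 2, 0, 10], 10), ([0, 10, 44, 42, 6], 11), ([0, 10], 10), ([], 312)], 0, []),
    ([0, 36, 36, 28, 16, 6, 2, 0, 40, 40, 28, 32, 30, 36, 36, 28, 16, 6, 11, 3], 1, [([0, 36, 36, 28, 16, 6, 2, 0, 40, 40, 28, 32, 30, 36, 36, 28, 16, 6], 11), ([], 350)], 0, []),
    ([0, 7, 29, 40, 37, 28, 31, 33, 30, 13, 23, 25, 22, 18, 48, 35, 44, 6, 11, 1, 3], 1, [([0, 7, 29, 40, 37, 28, 31, 33, 30, 13, 23, 25, 22, 18, 48, 35, 44, 6], 11), ([], 352)], 0, []),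
    ([6, 10, 45, 42, 34, 48, 46, 35, 44, 42, 6, 10, 45, 42, 34, 48, 46, 35, 44, 42], 1, [([6, 10], 10), ([6], 11), ([43, 45, 34, 47, 49, 35, 43, 44], 10), ([43, 45, 34, 47, 49, 35, 43, 44, 11], 11), ([43, 45, 34, 47, 49, 35, 43, 44, 11], 318)], 0, []),
    ([0, 10, 25, 22, 18, 48, 46, 35, 44, 42, 34, 49, 46, 19, 24, 22, 12, 40, 40, 28, 33, 30, 16, 6, 2], 1, [([0, 10], 10), ([], 356)], 0, []),
    ([0, 36, 36, 28, 13, 25, 22, 12, 33, 30, 6, 2], 1, [([0, 36, 36, 28, 13, 25, 22, 12, 33, 30], 13), ([0, 36, 36, 28], 13), ([], 324)], 0, []),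
    ([0, 44, 42, 12, 32, 30, 40, 40, 28, 6, 3], 1, [([0, 44, 42, 12, 32, 30, 40, 40, 28], 13), ([], 326)], 0, []),
    ([0, 36, 36, 28, 33, 30, 13, 45, 42, 6, 2], 1, [([0, 36, 36, 28, 33, 30], 13), ([], 328)], 0, []),
    ([0, 32, 30, 13, 24, 22, 12, 40, 40, 28, 6, 3], 1, [([0, 32, 30, 13, 24, 22, 12, 40, 40, 28], 13), ([0, 32, 30], 13), ([], 330)], 0, []),
    ([12, 31, 32, 13, 23, 25, 12, 31, 33, 13, 43, 44], 1, [([12, 31, 32, 13, 23, 25, 12], 12), ([12], 12), ([], 284)], 0, []),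
    ([12, 31, 32, 13, 23, 24, 12, 31, 33, 13, 43, 45], 1, [([12, 31, 32, 13, 23, 24, 12], 12), ([12], 12), ([], 286)], 0, []),
    ([0, 10, 40, 28, 32, 30, 36, 28, 6, 11, 3], 1, [([0, 10, 40, 28, 32, 30, 36, 28], 13), ([], 362)], 0, []),
    ([0, 10, 40, 28, 33, 30, 36, 28, 6, 11, 2], 1, [([0, 10, 40, 28, 33, 30, 36, 28], 13), ([], 364)], 0, []),
    ([0, 7, 32, 30, 13, 44, 19, 24, 22, 18, 47, 49, 46, 2], 1, [([0, 7], 12), ([], 288)], 0, []),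
    ([0, 10, 36, 36, 28, 33, 30, 6, 2, 0, 11, 3], 1, [([0, 10, 36, 36, 28, 33, 30], 13), ([], 368)], 0, []),
    ([0, 10, 3, 0, 32, 30, 40, 40, 28, 6, 11, 2], 1, [([0, 10, 3, 0, 32, 30, 40, 40, 28], 13), ([], 370)], 0, []),
    ([0, 40, 28, 33, 30, 36, 36, 36, 28, 33, 30, 6, 2], 1, [([0, 40, 28, 33, 30, 36, 36, 36, 28, 33, 30], 13), ([], 338)], 0, []),
    ([0, 32, 30, 40, 40, 40, 28, 32, 30, 36, 28, 6, 3], 1, [([0, 32, 30, 40, 40, 40, 28, 32, 30, 36, 28], 13), ([], 340)], 0, []),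
    ([12, 29, 37, 37, 37, 31, 33, 29, 41, 41, 41, 13, 23, 24], 1, [([12], 12), ([], 342)], 0, []),
    ([12, 29, 37, 37, 37, 31, 32, 29, 41, 41, 41, 13, 23, 25], 1, [([12], 12), ([], 344)], 0, []),
    ([6, 11, 23, 25, 12, 29, 37, 28, 32, 29, 40, 40, 37], 1, [([6, 11, 23, 25, 12, 29, 37, 28, 32, 29, 40, 40, 37], 13), ([], 384)], 0, []),
    ([2, 10, 43, 45, 42, 34, 47, 49, 46, 19, 24, 12, 32, 41, 36], 1, [([2, 10, 43, 45, 42, 34, 47, 49, 46, 19, 24, 12, 32, 41, 36], 13), ([2, 10, 43, 45, 42, 34, 47, 49, 46, 19, 24, 12], 12), ([], 386)], 0, []),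
    ([0, 31, 32, 30, 13, 44, 42, 19, 23, 24, 22, 18, 47, 49, 1, 2], 1, [([0, 31, 32, 30], 13), ([0], 12), ([], 302)], 0, []),
    ([0, 24, 22, 18, 44, 42, 34, 48, 46, 12, 36, 28, 32, 30, 6, 10, 2], 1, [([0, 24, 22, 18, 44, 42, 34, 48, 46, 12, 36, 28, 32, 30], 13), ([], 388)], 0, []),
    ([0, 36, 36, 28, 6, 2, 0, 40, 40, 28, 32, 30, 36, 36, 28, 6, 11, 3], 1, [([0, 36, 36, 28, 6, 2, 0, 40, 40, 28, 32, 30, 36, 36, 28], 13), ([0, 36, 36, 28], 13), ([], 394)], 0, []),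
    ([0, 10, 3, 0, 40, 40, 40, 28, 33, 30, 13, 24, 22, 12, 32, 30, 36, 28, 6, 2], 1, [([0, 10, 3, 0, 40, 40, 40, 28, 33, 30, 13, 24, 22, 12, 32, 30, 36, 28], 13), ([0, 10, 3, 0, 40, 40, 40, 28, 33, 30], 13), ([], 354)], 0, []),
    ([12, 31, 33, 13, 23, 25, 18, 47, 49, 19, 23, 24, 12, 31, 33, 13, 23, 25, 18, 47, 49, 19, 23, 24], 1, [([12, 31, 33, 13, 23, 25, 18, 47, 49, 19, 23, 24, 12], 12), ([12], 12), ([], 316)], 0, []),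
    ([0, 10, 25, 22, 18, 48, 46, 35, 44, 42, 34, 49, 46, 19, 24, 22, 12, 40, 40, 28, 33, 30, 6, 2], 1, [([0, 10, 25, 22, 18, 48, 46, 35, 44, 42, 34, 49, 46, 19, 24, 22, 12, 40, 40, 28, 33, 30], 13), ([], 400)], 0, []),
    ([12, 31, 32, 29, 37, 37, 31, 33, 13, 43, 45, 34, 47, 49, 19, 23, 25, 18, 47, 48, 35, 43, 44, 19, 23, 24], 1, [([12], 12), ([], 358)], 0, []),
    ([0, 36, 36, 28, 13, 25, 12, 33, 30, 6, 2], 1, [([0, 36, 36, 28, 13, 25], 15), ([], 402)], 0, []),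
    ([0, 32, 30, 13, 24, 12, 40, 40, 28, 6, 3], 1, [([0, 32, 30, 13, 24], 15), ([], 408)], 0, []),
    ([12, 31, 32, 13, 25, 12, 31, 33, 13, 43, 44], 1, [([12, 31, 32, 13], 14), ([], 410)], 0, []),
    ([12, 31, 32, 13, 24, 12, 31, 33, 13, 43, 45], 1, [([12, 31, 32, 13], 14), ([], 412)], 0, []),
    ([0, 7, 32, 30, 13, 44, 19, 24, 18, 47, 49, 46, 2], 1, [([0, 7, 32, 30, 13, 44, 19, 24], 15), ([], 418)], 0, []),
    ([6, 11, 48, 46, 19, 24, 18, 48, 46, 19, 24], 1, [([6, 11, 48, 46, 19, 24, 18, 48, 46, 19, 24], 15), ([6, 11, 48, 46, 19, 24], 15), ([], 372)], 0, []),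
    ([6, 10, 25, 18, 49, 46, 19, 25, 18, 49, 46], 1, [([6, 10, 25, 18, 49, 46, 19, 25], 15), ([6, 10, 25], 15), ([], 374)], 0, []),
    ([6, 10, 25, 18, 45, 42, 34, 49, 46, 35, 44, 42, 19, 24], 1, [([6, 10, 25, 18, 45, 42, 34, 49, 46, 35, 44, 42, 19, 24], 15), ([6, 10, 25], 15), ([], 376)], 0, []),
    ([6, 11, 25, 18, 45, 42, 34, 48, 46, 35, 44, 42, 19, 24], 1, [([6, 11, 25, 18, 45, 42, 34, 48, 46, 35, 44, 42, 19, 24], 15), ([6, 11, 25], 15), ([], 380)], 0, []),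
    ([12, 29, 37, 37, 37, 31, 33, 29, 41, 41, 41, 13, 24], 1, [([12, 29, 37, 37, 37, 31, 33, 29, 41, 41, 41, 13], 14), ([], 428)], 0, []),
    ([12, 29, 37, 37, 37, 31, 32, 29, 41, 41, 41, 13, 25], 1, [([12, 29, 37, 37, 37, 31, 32, 29, 41, 41, 41, 13], 14), ([], 430)], 0, []),
    ([6, 11, 25, 12, 29, 37, 28, 32, 29, 40, 40, 37], 1, [([6, 11], 14), ([], 432)], 0, []),
    ([0, 31, 32, 30, 13, 44, 42, 19, 24, 18, 47, 49, 1, 2], 1, [([0, 31, 32, 30, 13, 44, 42, 19, 24], 15), ([0, 31, 32, 30, 13, 44, 42, 19], 14), ([], 436)], 0, []),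
    ([0, 24, 18, 44, 42, 34, 48, 46, 12, 36, 28, 32, 30, 6, 10, 2], 1, [([0, 24], 15), ([], 438)], 0, []),
    ([18, 45, 42, 34, 48, 46, 35, 44, 42, 34, 49, 46, 19, 25, 18, 49, 46, 19, 25], 1, [([18, 45, 42, 34, 48, 46, 35, 44, 42, 34, 49, 46, 19, 25, 18, 49, 46, 19, 25], 15), ([18, 45, 42, 34, 48, 46, 35, 44, 42, 34, 49, 46, 19, 25], 15), ([], 306)], 0, []),
    ([18, 43, 45, 34, 47, 48, 35, 43, 44, 34, 47, 49, 19, 25, 18, 47, 49, 19, 25], 1, [([18, 43, 45, 34, 47, 48, 35, 43, 44, 34, 47, 49, 19, 25, 18, 47, 49, 19], 14), ([18, 43, 45, 34, 47, 48, 35, 43, 44, 34, 47, 49, 19], 14), ([], 308)], 0, []),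
    ([0, 7, 29, 40, 37, 28, 31, 33, 30, 13, 25, 18, 48, 35, 44, 6, 11, 1, 3], 1, [([0, 7, 29, 40, 37, 28, 31, 33, 30, 13, 25], 15), ([0, 7, 29, 40, 37, 28, 31, 33, 30, 13], 14), ([], 396)], 0, []),
    ([0, 10, 3, 0, 40, 40, 40, 28, 33, 30, 13, 24, 12, 32, 30, 36, 28, 6, 2], 1, [([0, 10, 3, 0, 40, 40, 40, 28, 33, 30, 13, 24], 15), ([], 442)], 0, []),
    ([12, 31, 33, 13, 25, 18, 47, 49, 19, 24, 12, 31, 33, 13, 25, 18, 47, 49, 19, 24], 1, [([12, 31, 33, 13, 25, 18, 47, 49, 19, 24, 12, 31, 33, 13, 25, 18, 47, 49, 19], 14), ([12, 31, 33, 13, 25, 18, 47, 49, 19, 24, 12, 31, 33, 13], 14), ([12, 31, 33, 13, 25, 18, 47, 49, 19], 14), ([12, 31, 33, 13], 14), ([], 444)], 0, []),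
    ([0, 10, 25, 18, 48, 46, 35, 44, 42, 34, 49, 46, 19, 24, 12, 40, 40, 28, 33, 30, 6, 2], 1, [([0, 10, 25, 18, 48, 46, 35, 44, 42, 34, 49, 46, 19, 24], 15), ([0, 10, 25], 15), ([], 446)], 0, []),
    ([12, 31, 32, 29, 37, 37, 31, 33, 13, 43, 45, 34, 47, 49, 19, 25, 18, 47, 48, 35, 43, 44, 19, 24], 1, [([12, 31, 32, 29, 37, 37, 31, 33, 13, 43, 45, 34, 47, 49, 19, 25, 18, 47, 48, 35, 43, 44, 19], 14), ([12, 31, 32, 29, 37, 37, 31, 33, 13, 43, 45, 34, 47, 49, 19], 14), ([], 448)], 0, []),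
    ([0, 36, 36, 13, 25, 12, 33, 30, 6, 2], 1, [([0, 36, 36], 17), ([], 450)], 0, []),
    ([0, 44, 42, 12, 32, 30, 40, 40, 6, 3], 1, [([0, 44, 42, 12, 32, 30, 40, 40], 17), ([], 404)], 0, []),
    ([0, 36, 36, 33, 30, 13, 45, 42, 6, 2], 1, [([0, 36, 36], 17), ([], 406)], 0, []),
    ([0, 32, 30, 13, 24, 12, 40, 40, 6, 3], 1, [([0, 32, 30, 13, 24, 12, 40, 40], 17), ([], 452)], 0, []),
    ([0, 10, 40, 32, 30, 36, 6, 11, 3], 1, [([0, 10, 40, 32, 30, 36], 17), ([0, 10, 40], 17), ([], 414)], 0, []),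
    ([0, 10, 40, 33, 30, 36, 6, 11, 2], 1, [([0, 10, 40, 33, 30, 36], 17), ([0, 10, 40], 17), ([], 416)], 0, []),
    ([6, 10, 7, 41, 41, 36, 31, 33, 36, 13, 24], 1, [([6, 10, 7, 41, 41, 36], 17), ([], 366)], 0, []),
    ([0, 10, 36, 36, 33, 30, 6, 2, 0, 11, 3], 1, [([0, 10, 36, 36], 17), ([], 420)], 0, []),
    ([0, 10, 3, 0, 32, 30, 40, 40, 6, 11, 2], 1, [([0, 10, 3, 0, 32, 30, 40, 40], 17), ([], 422)], 0, []),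
    ([0, 40, 33, 30, 36, 36, 36, 33, 30, 6, 2], 1, [([0, 40, 33, 30, 36, 36, 36], 17), ([0, 40], 17), ([], 424)], 0, []),
    ([0, 32, 30, 40, 40, 40, 32, 30, 36, 6, 3], 1, [([0, 32, 30, 40, 40, 40, 32, 30, 36], 17), ([0, 32, 30, 40, 40, 40], 17), ([], 426)], 0, []),
    ([12, 37, 37, 37, 31, 33, 41, 41, 41, 13, 24], 1, [([12, 37, 37, 37, 31, 33], 16), ([12], 16), ([], 468)], 0, []),
    ([12, 37, 37, 37, 31, 32, 41, 41, 41, 13, 25], 1, [([12, 37, 37, 37, 31, 32], 16), ([12], 16), ([], 470)], 0, []),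
    ([6, 11, 25, 12, 37, 32, 40, 40, 37], 1, [([6, 11, 25, 12, 37, 32], 16), ([6, 11, 25, 12, 37], 17), ([6, 11, 25, 12], 16), ([], 472)], 0, []),
    ([0, 24, 18, 44, 42, 34, 48, 46, 12, 36, 32, 30, 6, 10, 2], 1, [([0, 24, 18, 44, 42, 34, 48, 46, 12, 36], 17), ([], 476)], 0, []),
    ([0, 36, 36, 6, 2, 0, 40, 40, 32, 30, 36, 36, 6, 11, 3], 1, [([0, 36, 36, 6, 2, 0, 40, 40, 32, 30, 36, 36], 17), ([0, 36, 36, 6, 2, 0, 40, 40], 17), ([0, 36, 36], 17), ([], 440)], 0, []),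
    ([0, 7, 40, 37, 31, 33, 30, 13, 25, 18, 48, 35, 44, 6, 11, 1, 3], 1, [([0, 7, 40, 37], 17), ([0, 7], 16), ([], 482)], 0, []),
    ([0, 10, 3, 0, 40, 40, 40, 33, 30, 13, 24, 12, 32, 30, 36, 6, 2], 1, [([0, 10, 3, 0, 40, 40, 40, 33, 30, 13, 24, 12, 32, 30, 36], 17), ([0, 10, 3, 0, 40, 40, 40], 17), ([], 484)], 0, []),
    ([0, 10, 25, 18, 48, 46, 35, 44, 42, 34, 49, 46, 19, 24, 12, 40, 40, 33, 30, 6, 2], 1, [([0, 10, 25, 18, 48, 46, 35, 44, 42, 34, 49, 46, 19, 24, 12, 40, 40], 17), ([], 488)], 0, []),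
    ([12, 31, 32, 37, 37, 31, 33, 13, 43, 45, 34, 47, 49, 19, 25, 18, 47, 48, 35, 43, 44, 19, 24], 1, [([12, 31, 32], 16), ([], 490)], 0, []),
    ([6, 10, 25, 18, 45, 42, 49, 46, 44, 42, 19, 24], 1, [([6, 10, 25, 18, 45, 42, 49, 46], 18), ([6, 10, 25, 18, 45, 42], 19), ([], 464)], 0, []),
    ([6, 10, 48, 46, 45, 42, 49, 46, 44, 42, 49, 46], 1, [([6, 10, 48, 46, 45, 42, 49, 46, 44, 42], 19), ([6, 10, 48, 46, 45, 42, 49, 46], 18), ([6, 10, 48, 46, 45, 42], 19), ([6, 10, 48, 46], 18), ([], 378)], 0, []),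
    ([6, 11, 25, 18, 45, 42, 48, 46, 44, 42, 19, 24], 1, [([6, 11, 25, 18, 45, 42, 48, 46], 18), ([6, 11, 25, 18, 45, 42], 19), ([], 466)], 0, []),
    ([6, 11, 48, 46, 45, 42, 48, 46, 44, 42, 49, 46], 1, [([6, 11, 48, 46, 45, 42, 48, 46, 44, 42], 19), ([6, 11, 48, 46, 45, 42, 48, 46], 18), ([6, 11, 48, 46, 45, 42], 19), ([6, 11, 48, 46], 18), ([], 382)], 0, []),
    ([2, 10, 43, 45, 42, 47, 49, 46, 19, 24, 12, 32, 41, 36], 1, [([2, 10, 43, 45, 42], 19), ([], 434)], 0, []),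
    ([0, 24, 18, 44, 42, 48, 46, 12, 36, 32, 30, 6, 10, 2], 1, [([0, 24, 18, 44, 42], 19), ([], 520)], 0, []),
    ([18, 45, 42, 48, 46, 44, 42, 49, 46, 19, 25, 18, 49, 46, 19, 25], 1, [([18, 45, 42, 48, 46, 44, 42], 19), ([18, 45, 42, 48, 46], 18), ([18, 45, 42], 19), ([], 478)], 0, []),
    ([18, 43, 45, 47, 48, 43, 44, 47, 49, 19, 25, 18, 47, 49, 19, 25], 1, [([18, 43, 45, 47, 48, 43, 44], 19), ([18, 43, 45, 47, 48], 18), ([18, 43, 45], 19), ([], 480)], 0, []),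
    ([0, 45, 42, 49, 46, 6, 11, 3, 0, 45, 42, 49, 46, 6, 11, 3], 1, [([0, 45, 42, 49, 46, 6, 11, 3, 0, 45, 42], 19), ([0, 45, 42], 19), ([], 390)], 0, []),
    ([0, 7, 40, 37, 31, 33, 30, 13, 25, 18, 48, 44, 6, 11, 1, 3], 1, [([0, 7, 40, 37, 31, 33, 30, 13, 25, 18, 48], 18), ([], 524)], 0, []),
    ([42, 48, 43, 45, 42, 48, 43, 45, 42, 48, 43, 45, 42, 48, 43, 45, 42, 48, 43, 45], 1, [([42, 48, 43, 45, 42, 48, 43, 45, 42, 48, 43, 45, 42, 48], 18), ([42, 48, 43, 45, 42, 48, 43, 45, 42, 48, 43, 45, 42], 19), ([42, 48, 43, 45, 42, 48, 43, 45, 42, 48], 18), ([42, 48, 43, 45, 42, 48, 43, 45, 42], 19), ([42, 48, 43, 45, 42, 48], 18), ([42, 48, 43, 45, 42], 19), ([42, 48], 18), ([42], 19), ([44, 42], 18), ([44, 42, 49], 19), ([44, 42, 49], 122)], 0, []),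
    ([42, 47, 49, 44, 42, 47, 49, 44, 42, 47, 49, 44, 42, 47, 49, 44, 42, 47, 49, 44], 1, [([42, 47, 49, 44, 42, 47, 49, 44, 42, 47, 49, 44, 42, 47, 49], 18), ([42, 47, 49, 44, 42, 47, 49, 44, 42, 47, 49, 44, 42], 19), ([42, 47, 49, 44, 42, 47, 49, 44, 42, 47, 49], 18), ([42, 47, 49, 44, 42, 47, 49, 44, 42], 19), ([42, 47, 49, 44, 42, 47, 49], 18), ([42, 47, 49, 44, 42], 19), ([42, 47, 49], 18), ([42], 19), ([45], 18), ([45, 48, 46], 19), ([45, 48, 46], 124)], 0, []),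
    ([6, 10, 45, 42, 48, 46, 44, 42, 6, 10, 45, 42, 48, 46, 44, 42], 1, [([6, 10, 45, 42, 48, 46, 44, 42, 6, 10, 45, 42, 48, 46], 18), ([6, 10, 45, 42, 48, 46, 44, 42, 6, 10, 45, 42], 19), ([6, 10, 45, 42, 48, 46], 18), ([6, 10, 45, 42], 19), ([], 398)], 0, []),
    ([0, 10, 25, 18, 48, 46, 44, 42, 49, 46, 19, 24, 12, 40, 40, 33, 30, 6, 2], 1, [([0, 10, 25, 18, 48, 46, 44, 42], 19), ([0, 10, 25, 18, 48, 46], 18), ([], 528)], 0, []),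
    ([12, 31, 32, 37, 37, 31, 33, 13, 43, 45, 47, 49, 19, 25, 18, 47, 48, 43, 44, 19, 24], 1, [([12, 31, 32, 37, 37, 31, 33, 13, 43, 45, 47, 49, 19, 25, 18, 47, 48], 18), ([12, 31, 32, 37, 37, 31, 33, 13, 43, 45], 19), ([], 530)], 0, []),
    ([0, 7, 32, 30, 13, 44, 19, 24, 18, 49, 2], 1, [([0, 7, 32, 30, 13, 44, 19, 24, 18, 49], 21), ([0, 7, 32, 30, 13, 44, 19, 24, 18], 20), ([], 458)], 0, []),
    ([6, 11, 48, 19, 24, 18, 48, 19, 24], 1, [([6, 11, 48, 19, 24, 18, 48], 21), ([6, 11, 48], 21), ([], 460)], 0, []),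
    ([6, 10, 25, 18, 49, 19, 25, 18, 49], 1, [([6, 10, 25, 18, 49, 19, 25, 18, 49], 21), ([6, 10, 25, 18, 49], 21), ([], 462)], 0, []),
    ([6, 10, 25, 18, 45, 42, 49, 44, 42, 19, 24], 1, [([6, 10, 25, 18, 45, 42, 49], 21), ([], 532)], 0, []),
    ([6, 10, 48, 45, 42, 49, 44, 42, 49], 1, [([6, 10, 48, 45, 42, 49, 44, 42, 49], 21), ([6, 10, 48, 45, 42, 49], 21), ([6, 10, 48], 21), ([], 534)], 0, []),
    ([6, 11, 25, 18, 45, 42, 48, 44, 42, 19, 24], 1, [([6, 11, 25, 18, 45, 42, 48], 21), ([], 536)], 0, []),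
    ([6, 11, 48, 45, 42, 48, 44, 42, 49], 1, [([6, 11, 48, 45, 42, 48, 44, 42, 49], 21), ([6, 11, 48, 45, 42, 48], 21), ([6, 11, 48], 21), ([], 538)], 0, []),
    ([2, 10, 43, 45, 42, 49, 19, 24, 12, 32, 41, 36], 1, [([2, 10, 43, 45, 42, 49], 21), ([2, 10, 43, 45, 42], 20), ([], 540)], 0, []),
    ([0, 31, 32, 30, 13, 44, 42, 19, 24, 18, 49, 1, 2], 1, [([0, 31, 32, 30, 13, 44, 42, 19, 24, 18], 20), ([], 474)], 0, []),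
    ([0, 24, 18, 44, 42, 48, 12, 36, 32, 30, 6, 10, 2], 1, [([0, 24, 18, 44, 42, 48], 21), ([], 542)], 0, []),
    ([18, 45, 42, 48, 44, 42, 49, 19, 25, 18, 49, 19, 25], 1, [([18, 45, 42, 48, 44, 42, 49, 19, 25, 18, 49], 21), ([18, 45, 42, 48, 44, 42, 49], 21), ([18, 45, 42, 48], 21), ([], 544)], 0, []),
    ([18, 43, 45, 48, 43, 44, 49, 19, 25, 18, 49, 19, 25], 1, [([18, 43, 45, 48, 43, 44, 49, 19, 25, 18], 20), ([18, 43, 45, 48, 43, 44], 20), ([18, 43, 45], 20), ([], 546)], 0, []),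
    ([0, 45, 42, 49, 6, 11, 3, 0, 45, 42, 49, 6, 11, 3], 1, [([0, 45, 42, 49, 6, 11, 3, 0, 45, 42, 49], 21), ([0, 45, 42, 49], 21), ([], 548)], 0, []),
    ([42, 49, 44, 42, 49, 44, 42, 49, 44, 42, 49, 44, 42, 49, 44], 1, [([42, 49, 44, 42, 49, 44, 42, 49, 44, 42, 49, 44, 42], 20), ([42, 49, 44, 42, 49, 44, 42, 49, 44, 42], 20), ([42, 49, 44, 42, 49, 44, 42], 20), ([42, 49, 44, 42], 20), ([42], 20), ([], 554)], 0, []),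
    ([12, 31, 33, 13, 25, 18, 49, 19, 24, 12, 31, 33, 13, 25, 18, 49, 19, 24], 1, [([12, 31, 33, 13, 25, 18, 49, 19, 24, 12, 31, 33, 13, 25, 18], 20), ([12, 31, 33, 13, 25, 18], 20), ([], 486)], 0, []),
    ([6, 10, 45, 42, 48, 44, 42, 6, 10, 45, 42, 48, 44, 42], 1, [([6, 10, 45, 42, 48, 44, 42, 6, 10, 45, 42, 48], 21), ([6, 10, 45, 42, 48], 21), ([], 556)], 0, []),
    ([0, 10, 25, 18, 48, 44, 42, 49, 19, 24, 12, 40, 40, 33, 30, 6, 2], 1, [([0, 10, 25, 18, 48, 44, 42, 49], 21), ([0, 10, 25, 18, 48], 21), ([], 558)], 0, []),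
    ([12, 31, 32, 37, 37, 31, 33, 13, 43, 45, 49, 19, 25, 18, 48, 43, 44, 19, 24], 1, [([12, 31, 32, 37, 37, 31, 33, 13, 43, 45, 49, 19, 25, 18], 20), ([12, 31, 32, 37, 37, 31, 33, 13, 43, 45], 20), ([], 560)], 0, []),
    ([2, 10, 3, 45, 42, 6, 2, 11], 1, [([10], 23), ([10, 3, 7, 43, 44], 23), ([10, 3, 7, 43, 44, 2, 11], 23), ([10, 3, 7, 43, 44, 2, 11], 276)], 0, []),
    ([2, 10, 3, 7, 43, 45, 2, 11], 1, [([2, 10, 3, 7, 43, 45, 2, 11], 22), ([2, 10, 3, 7, 43, 45], 22), ([2, 10], 22), ([], 279)], 0, []),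
    ([2, 36, 36, 13, 25, 12, 33, 30, 6], 1, [([7, 31, 32, 13, 24, 12, 37, 37], 23), ([7, 31, 32, 13, 24, 12, 37, 37], 492)], 0, []),
    ([2, 7, 41, 41, 31, 33, 13, 43, 45], 1, [([2, 7, 41, 41, 31, 33, 13, 43, 45], 22), ([], 495)], 0, []),
    ([2, 36, 36, 33, 30, 13, 45, 42, 6], 1, [([7, 43, 44, 12, 31, 32, 37, 37], 23), ([7, 43, 44, 12, 31, 32, 37, 37], 496)], 0, []),
    ([2, 7, 41, 41, 13, 25, 12, 31, 33], 1, [([2, 7, 41, 41, 13, 25, 12, 31, 33], 22), ([], 499)], 0, []),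
    ([2, 10, 7, 37, 31, 33, 41, 11], 1, [([2, 10, 7, 37, 31, 33, 41, 11], 22), ([], 501)], 0, []),
    ([2, 10, 40, 33, 30, 36, 6, 11], 1, [([10, 7, 37, 31, 32, 41, 11], 23), ([10, 7, 37, 31, 32, 41, 11], 502)], 0, []),
    ([2, 7, 32, 30, 13, 44, 19, 24, 18, 49], 1, [([48, 19, 25, 18, 45, 12, 31, 33, 6], 23), ([48, 19, 25, 18, 45, 12, 31, 33, 6], 562)], 0, []),
    ([2, 10, 3, 7, 31, 32, 37, 37, 11], 1, [([2, 10, 3, 7, 31, 32, 37, 37, 11], 22), ([2, 10], 22), ([], 507)], 0, []),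
    ([2, 10, 3, 32, 30, 40, 40, 6, 11], 1, [([10, 7, 41, 41, 31, 33], 23), ([10, 7, 41, 41, 31, 33, 2, 11], 23), ([10, 7, 41, 41, 31, 33, 2, 11], 508)], 0, []),
    ([2, 40, 33, 30, 36, 36, 36, 33, 30, 6], 1, [([7, 31, 32, 37, 37, 37, 31, 32, 41], 23), ([7, 31, 32, 37, 37, 37, 31, 32, 41], 510)], 0, []),
    ([2, 7, 37, 31, 33, 41, 41, 41, 31, 33], 1, [([2, 7, 37, 31, 33, 41, 41, 41, 31, 33], 22), ([], 513)], 0, []),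
    ([2, 31, 32, 30, 13, 44, 42, 19, 24, 18, 49], 1, [([], 22), ([48, 19, 25, 18, 43, 45, 12, 31, 33, 30], 23), ([48, 19, 25, 18, 43, 45, 12, 31, 33, 30], 578)], 0, []),
    ([2, 24, 18, 44, 42, 48, 12, 36, 32, 30, 6, 10], 1, [([11, 7, 31, 33, 37, 13, 49, 43, 45, 19, 25], 23), ([11, 7, 31, 33, 37, 13, 49, 43, 45, 19, 25], 580)], 0, []),
    ([2, 10, 7, 48, 43, 44, 2, 10, 7, 48, 43, 44], 1, [([2, 10, 7, 48, 43, 44, 2, 10, 7, 48, 43, 44], 22), ([2, 10, 7, 48, 43, 44], 22), ([], 587)], 0, []),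
    ([2, 10, 44, 42, 6, 11, 2, 10, 44, 42, 6, 11], 1, [([2], 23), ([10, 7, 43, 45, 11], 23), ([10, 7, 43, 45, 11], 392)], 0, []),
    ([2, 10, 7, 37, 37, 31, 33, 41, 41, 3, 7, 37, 37], 1, [([2, 10, 7, 37, 37, 31, 33, 41, 41, 3, 7, 37, 37], 22), ([2, 10, 7, 37, 37, 31, 33, 41, 41], 22), ([], 523)], 0, []),
    ([2, 10, 7, 45, 49, 19, 24, 12, 31, 32, 30, 36, 41, 6], 1, [([2, 10, 7, 45, 49, 19, 24, 12, 31, 32, 30, 36, 41, 6], 22), ([2], 23), ([], 551)], 0, []),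
    ([2, 10, 3, 40, 40, 40, 33, 30, 13, 24, 12, 32, 30, 36, 6], 1, [([7, 37, 31, 33, 13, 25, 12, 31, 32, 41, 41, 41], 23), ([7, 37, 31, 33, 13, 25, 12, 31, 32, 41, 41, 41, 2, 11], 23), ([7, 37, 31, 33, 13, 25, 12, 31, 32, 41, 41, 41, 2, 11], 526)], 0, []),
    ([2, 10, 25, 18, 48, 44, 42, 49, 19, 24, 12, 40, 40, 33, 30, 6], 1, [([7, 31, 32, 41, 41, 13, 25, 18, 48, 43, 45, 49, 19, 24, 11], 23), ([7, 31, 32, 41, 41, 13, 25, 18, 48, 43, 45, 49, 19, 24, 11], 594)], 0, []),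
    ([2, 10, 3, 45, 42, 2, 11], 1, [([2, 10, 3, 45, 42], 25), ([], 598)], 0, []),
    ([2, 10, 3, 43, 45, 2, 11], 1, [([2, 10, 3], 24), ([], 600)], 0, []),
    ([2, 36, 36, 13, 25, 12, 33, 30], 1, [([2, 36, 36, 13, 25, 12, 33, 30], 25), ([], 602)], 0, []),
    ([2, 41, 41, 31, 33, 13, 43, 45], 1, [([2], 24), ([], 604)], 0, []),
    ([2, 36, 36, 33, 30, 13, 45, 42], 1, [([2, 36, 36, 33, 30, 13, 45, 42], 25), ([], 606)], 0, []),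
    ([2, 41, 41, 13, 25, 12, 31, 33], 1, [([2], 24), ([], 608)], 0, []),
    ([2, 10, 37, 31, 33, 41, 11], 1, [([2, 10], 24), ([], 610)], 0, []),
    ([2, 10, 40, 33, 30, 36, 11], 1, [([2, 10, 40, 33, 30, 36], 25), ([], 612)], 0, []),
    ([10, 41, 41, 36, 31, 33, 36, 13, 24], 1, [([10], 24), ([], 25), ([], 504)], 0, []),
    ([2, 32, 30, 13, 44, 19, 24, 18, 49], 1, [([2], 24), ([], 614)], 0, []),
    ([2, 10, 3, 31, 32, 37, 37, 11], 1, [([2, 10, 3], 24), ([], 616)], 0, []),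
    ([2, 10, 3, 32, 30, 40, 40, 11], 1, [([2, 10, 3, 32, 30, 40, 40], 25), ([], 618)], 0, []),
    ([2, 40, 33, 30, 36, 36, 36, 33, 30], 1, [([2, 40, 33, 30, 36, 36, 36, 33, 30], 25), ([], 620)], 0, []),
    ([2, 37, 31, 33, 41, 41, 41, 31, 33], 1, [([2], 24), ([], 622)], 0, []),
    ([10, 25, 18, 49, 19, 25, 18, 49], 1, [([10], 24), ([48, 19, 24, 18, 48, 19, 24], 565)], 0, []),
    ([10, 25, 18, 45, 42, 49, 44, 42, 19, 24], 1, [([], 25), ([], 568)], 0, []),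
    ([10, 48, 45, 42, 49, 44, 42, 49], 1, [([], 25), ([], 570)], 0, []),
    ([10, 25, 18, 43, 45, 49, 43, 44, 19, 24], 1, [([10], 24), ([25, 18, 45, 42, 48, 44, 42, 19, 24], 573)], 0, []),
    ([10, 48, 43, 45, 49, 43, 44, 49], 1, [([10], 24), ([48, 45, 42, 48, 44, 42, 49], 575)], 0, []),
    ([10, 36, 41, 41, 33, 36, 13, 24], 1, [([10], 24), ([25, 12, 37, 32, 40, 40, 37], 519)], 0, []),
    ([2, 24, 18, 44, 42, 48, 12, 36, 32, 30, 10], 1, [([2, 24, 18, 44, 42, 48, 12, 36, 32, 30], 25), ([], 626)], 0, []),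
    ([2, 10, 48, 43, 44, 2, 10, 48, 43, 44], 1, [([2, 10, 48, 43, 44, 2, 10], 24), ([2, 10], 24), ([], 628)], 0, []),
    ([2, 10, 44, 42, 11, 2, 10, 44, 42, 11], 1, [([2, 10, 44, 42, 11, 2, 10, 44, 42], 25), ([2, 10, 44, 42], 25), ([], 630)], 0, []),
    ([2, 10, 37, 37, 31, 33, 41, 41, 3, 37, 37], 1, [([2, 10, 37, 37, 31, 33, 41, 41, 3], 24), ([2, 10], 24), ([], 632)], 0, []),
    ([2, 10, 45, 49, 19, 24, 12, 31, 32, 30, 36, 41], 1, [([2, 10, 45, 49, 19, 24, 12, 31, 32, 30, 36, 41], 25), ([2, 10], 24), ([], 634)], 0, []),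
    ([2, 10, 3, 40, 40, 40, 33, 30, 13, 24, 12, 32, 30, 36], 1, [([2, 10, 3, 40, 40, 40, 33, 30, 13, 24, 12, 32, 30, 36], 25), ([], 636)], 0, []),
    ([10, 45, 42, 48, 44, 42, 10, 45, 42, 48, 44, 42], 1, [([10, 45, 42, 48, 44, 42], 25), ([], 25), ([], 592)], 0, []),
    ([2, 10, 25, 18, 48, 44, 42, 49, 19, 24, 12, 40, 40, 33, 30], 1, [([2, 10, 25, 18, 48, 44, 42, 49, 19, 24, 12, 40, 40, 33, 30], 25), ([], 638)], 0, []),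
    ([2, 36, 36, 25, 33, 30], 1, [([2, 36, 36, 25], 27), ([2, 36, 36], 26), ([], 644)], 0, []),
    ([2, 41, 41, 31, 33, 43, 45], 1, [([2, 41, 41, 31, 33], 26), ([], 646)], 0, []),
    ([2, 36, 36, 33, 30, 45, 42], 1, [([2, 36, 36, 33, 30], 26), ([], 648)], 0, []),
    ([2, 41, 41, 25, 31, 33], 1, [([2, 41, 41, 25], 27), ([2, 41, 41], 26), ([], 650)], 0, []),
    ([24, 33, 30, 45, 42, 32, 30], 1, [([24, 33, 30], 26), ([24], 27), ([], 26), ([31, 33], 27), ([31, 33, 43, 44], 455)], 0, []),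
    ([24, 31, 33, 43, 45, 31, 32], 1, [([24, 31, 33], 26), ([24], 27), ([], 26), ([33, 30], 27), ([33, 30], 456)], 0, []),
    ([10, 41, 41, 36, 31, 33, 36, 24], 1, [([10, 41, 41, 36, 31, 33, 36], 26), ([], 656)], 0, []),
    ([2, 32, 30, 44, 19, 24, 18, 49], 1, [([2, 32, 30], 26), ([], 658)], 0, []),
    ([24, 37, 37, 37, 31, 33, 41, 41, 41], 1, [([], 26), ([40, 40, 40, 32, 30, 36, 36, 36], 27), ([40, 40, 40, 32, 30, 36, 36, 36], 514)], 0, []),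
    ([24, 40, 40, 40, 33, 30, 36, 36, 36], 1, [([24, 40, 40, 40, 33, 30, 36, 36, 36], 26), ([24], 27), ([], 517)], 0, []),
    ([10, 36, 41, 41, 33, 36, 24], 1, [([10, 36, 41, 41, 33, 36], 26), ([], 678)], 0, []),
    ([2, 10, 43, 45, 42, 49, 19, 24, 32, 41, 36], 1, [([2, 10, 43, 45, 42, 49, 19, 24], 27), ([], 576)], 0, []),
    ([2, 31, 32, 30, 44, 42, 19, 24, 18, 49], 1, [([2, 31, 32, 30], 26), ([], 624)], 0, []),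
    ([2, 24, 18, 44, 42, 48, 36, 32, 30, 10], 1, [([2, 24, 18, 44, 42, 48], 27), ([], 680)], 0, []),
    ([2, 10, 45, 49, 19, 24, 31, 32, 30, 36, 41], 1, [([2, 10, 45, 49, 19, 24], 27), ([], 688)], 0, []),
    ([2, 10, 3, 40, 40, 40, 33, 30, 24, 32, 30, 36], 1, [([2, 10, 3, 40, 40, 40, 33, 30, 24], 27), ([2, 10, 3, 40, 40, 40, 33, 30], 26), ([], 690)], 0, []),
    ([18, 48, 19, 24, 32, 30, 25, 18, 48, 19, 24, 32, 30, 25], 1, [([18, 48, 19, 24, 32, 30, 25, 18, 48, 19, 24, 32, 30], 26), ([18, 48, 19, 24, 32, 30, 25, 18, 48, 19, 24], 27), ([18, 48, 19, 24, 32, 30], 26), ([18, 48, 19, 24], 27), ([24], 591)], 0, []),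
    ([2, 10, 25, 18, 48, 44, 42, 49, 19, 24, 40, 40, 33, 30], 1, [([2, 10, 25, 18, 48, 44, 42, 49, 19, 24], 27), ([], 694)], 0, []),
    ([18, 45, 42, 49, 19, 24, 18, 48, 44, 42, 32, 30, 36, 36, 33, 30, 25], 1, [([18, 45, 42, 49, 19, 24, 18, 48, 44, 42, 32, 30, 36, 36, 33, 30], 26), ([18, 45, 42, 49, 19, 24, 18, 48, 44, 42], 27), ([24], 597)], 0, []),
    ([2, 32, 30, 44, 24, 49], 1, [([2, 32, 30, 44, 24], 29), ([2, 32, 30, 44], 28), ([], 710)], 0, []),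
    ([10, 25, 49, 25, 49], 1, [([10, 25, 49, 25], 29), ([10, 25, 49], 28), ([10, 25], 29), ([], 668)], 0, []),
    ([10, 25, 45, 42, 49, 44, 42, 24], 1, [([10, 25, 45, 42, 49, 44, 42], 28), ([10, 25], 29), ([], 670)], 0, []),
    ([10, 25, 43, 45, 49, 43, 44, 24], 1, [([10, 25, 43, 45, 49, 43, 44], 28), ([10, 25], 29), ([], 674)], 0, []),
    ([2, 10, 43, 45, 42, 49, 24, 32, 41, 36], 1, [([2, 10, 43, 45, 42, 49], 28), ([], 718)], 0, []),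
    ([2, 31, 32, 30, 44, 42, 24, 49], 1, [([2, 31, 32, 30, 44, 42, 24], 29), ([2, 31, 32, 30, 44, 42], 28), ([], 720)], 0, []),
    ([2, 24, 44, 42, 48, 36, 32, 30, 10], 1, [([2, 24], 29), ([], 722)], 0, []),
    ([24, 48, 24, 48, 43, 45, 49, 43, 44], 1, [([24, 48, 24, 48, 43, 45, 49, 43, 44], 28), ([24, 48, 24], 29), ([24, 48], 28), ([24], 29), ([], 583)], 0, []),
    ([24, 48, 24, 48, 45, 42, 49, 44, 42], 1, [([24, 48, 24, 48, 45, 42, 49, 44, 42], 28), ([24, 48, 24], 29), ([24, 48], 28), ([24], 29), ([], 585)], 0, []),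
    ([2, 10, 45, 49, 24, 31, 32, 30, 36, 41], 1, [([2, 10, 45, 49], 28), ([], 724)], 0, []),
    ([24, 31, 33, 25, 49, 24, 31, 33, 25, 49], 1, [([24, 31, 33, 25, 49, 24, 31, 33, 25, 49], 28), ([24, 31, 33, 25, 49, 24, 31, 33, 25], 29), ([24, 31, 33, 25, 49], 28), ([24, 31, 33, 25], 29), ([], 729)], 0, []),
    ([2, 10, 25, 48, 44, 42, 49, 24, 40, 40, 33, 30], 1, [([2, 10, 25, 48, 44, 42, 49], 28), ([2, 10, 25], 29), ([], 730)], 0, []),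
    ([24, 31, 32, 37, 37, 31, 33, 43, 45, 49, 25, 48, 43, 44], 1, [([24, 31, 32, 37, 37, 31, 33, 43, 45, 49, 25, 48, 43, 44], 28), ([24, 31, 32, 37, 37, 31, 33, 43, 45, 49, 25], 29), ([24, 31, 32, 37, 37, 31, 33, 43, 45, 49], 28), ([], 733)], 0, []),
    ([2, 36, 36, 25, 33], 1, [([2, 36, 36, 25, 33], 31), ([], 696)], 0, []),
    ([2, 41, 41, 33, 43, 45], 1, [([2, 41, 41], 30), ([], 698)], 0, []),
    ([2, 36, 36, 33, 45, 42], 1, [([2, 36, 36, 33], 31), ([], 700)], 0, []),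
    ([2, 41, 41, 25, 33], 1, [([2, 41, 41, 25], 30), ([], 702)], 0, []),
    ([24, 33, 45, 42, 32], 1, [([24, 33, 45, 42, 32], 31), ([24, 33], 31), ([], 704)], 0, []),
    ([24, 33, 43, 45, 32], 1, [([24, 33, 43, 45], 30), ([24], 30), ([], 706)], 0, []),
    ([2, 10, 37, 33, 41, 11], 1, [([2, 10, 37], 30), ([], 652)], 0, []),
    ([2, 10, 40, 33, 36, 11], 1, [([2, 10, 40, 33], 31), ([], 654)], 0, []),
    ([10, 41, 41, 36, 33, 36, 24], 1, [([10, 41, 41, 36], 30), ([], 708)], 0, []),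
    ([2, 32, 44, 24, 49], 1, [([2, 32], 31), ([], 734)], 0, []),
    ([2, 10, 3, 32, 37, 37, 11], 1, [([2, 10, 3], 30), ([], 660)], 0, []),
    ([2, 10, 3, 32, 40, 40, 11], 1, [([2, 10, 3, 32], 31), ([], 662)], 0, []),
    ([2, 40, 33, 36, 36, 36, 33], 1, [([2, 40, 33, 36, 36, 36, 33], 31), ([2, 40, 33], 31), ([], 664)], 0, []),
    ([2, 37, 33, 41, 41, 41, 33], 1, [([2, 37, 33, 41, 41, 41], 30), ([2, 37], 30), ([], 666)], 0, []),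
    ([24, 37, 37, 37, 33, 41, 41, 41], 1, [([24, 37, 37, 37], 30), ([], 712)], 0, []),
    ([24, 40, 40, 40, 33, 36, 36, 36], 1, [([24, 40, 40, 40, 33], 31), ([], 714)], 0, []),
    ([2, 32, 44, 42, 24, 49], 1, [([2, 32], 31), ([2], 30), ([], 744)], 0, []),
    ([2, 24, 44, 42, 48, 36, 32, 10], 1, [([2, 24, 44, 42, 48, 36, 32], 31), ([], 746)], 0, []),
    ([2, 10, 37, 37, 33, 41, 41, 3, 37, 37], 1, [([2, 10, 37, 37], 30), ([], 686)], 0, []),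
    ([2, 10, 45, 49, 24, 32, 36, 41], 1, [([2, 10, 45, 49, 24, 32], 31), ([2, 10, 45, 49, 24], 30), ([], 752)], 0, []),
    ([2, 10, 3, 40, 40, 40, 33, 24, 32, 36], 1, [([2, 10, 3, 40, 40, 40, 33, 24, 32], 31), ([2, 10, 3, 40, 40, 40, 33], 31), ([], 726)], 0, []),
    ([24, 32, 25, 48, 24, 32, 25, 48], 1, [([24, 32, 25, 48, 24, 32], 31), ([24, 32], 31), ([49], 755)], 0, []),
    ([2, 10, 25, 48, 44, 42, 49, 24, 40, 40, 33], 1, [([2, 10, 25, 48, 44, 42, 49, 24, 40, 40, 33], 31), ([], 756)], 0, []),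
    ([24, 32, 37, 37, 33, 43, 45, 49, 25, 48, 43, 44], 1, [([24, 32, 37, 37], 30), ([24], 30), ([], 758)], 0, []),
    ([2, 10, 3, 45, 2, 11], 1, [([2, 10, 3, 45], 33), ([], 640)], 0, []),
    ([2, 41, 41, 33, 45], 1, [([2, 41, 41, 33], 32), ([], 762)], 0, []),
    ([2, 36, 36, 33, 45], 1, [([2, 36, 36, 33, 45], 33), ([], 764)], 0, []),
    ([24, 33, 45, 32], 1, [([24, 33, 45], 33), ([], 768)], 0, []),
    ([10, 25, 45, 49, 44, 24], 1, [([10, 25, 45, 49, 44], 33), ([10, 25, 45], 33), ([], 738)], 0, []),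
    ([10, 48, 45, 49, 44, 49], 1, [([10, 48, 45, 49, 44], 33), ([10, 48, 45], 33), ([], 672)], 0, []),
    ([2, 10, 45, 49, 24, 32, 41, 36], 1, [([2, 10, 45], 33), ([2, 10], 32), ([], 742)], 0, []),
    ([2, 24, 44, 48, 36, 32, 10], 1, [([2, 24, 44], 33), ([], 794)], 0, []),
    ([24, 48, 24, 48, 45, 49, 44], 1, [([24, 48, 24, 48, 45, 49], 32), ([24, 48, 24, 48], 32), ([], 748)], 0, []),
    ([2, 10, 48, 44, 2, 10, 48, 44], 1, [([2, 10, 48, 44, 2, 10, 48], 32), ([2, 10, 48], 32), ([], 682)], 0, []),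
    ([2, 10, 44, 11, 2, 10, 44, 11], 1, [([2, 10, 44, 11, 2, 10, 44], 33), ([2, 10, 44], 33), ([], 684)], 0, []),
    ([44, 49, 44, 49, 44, 49, 44, 49, 44, 49], 1, [([44, 49, 44, 49, 44, 49, 44, 49, 44, 49], 32), ([44, 49, 44, 49, 44, 49, 44, 49, 44], 33), ([44, 49, 44, 49, 44, 49, 44, 49], 32), ([44, 49, 44, 49, 44, 49, 44], 33), ([44, 49, 44, 49, 44, 49], 32), ([44, 49, 44, 49, 44], 33), ([44, 49, 44, 49], 32), ([44, 49, 44], 33), ([44, 49], 32), ([44], 33), ([], 553)], 0, []),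
    ([10, 45, 48, 44, 10, 45, 48, 44], 1, [([10, 45, 48, 44, 10, 45, 48, 44], 33), ([10, 45, 48, 44, 10, 45], 33), ([10, 45, 48, 44], 33), ([10, 45], 33), ([], 692)], 0, []),
    ([2, 10, 25, 48, 44, 49, 24, 40, 40, 33], 1, [([2, 10, 25, 48, 44], 33), ([], 804)], 0, []),
    ([24, 32, 37, 37, 33, 45, 49, 25, 48, 44], 1, [([24, 32, 37, 37, 33, 45, 49, 25, 48], 32), ([24, 32, 37, 37, 33], 32), ([], 806)], 0, []),
    ([2, 41, 41, 25, 33], 1, [([2, 41], 35), ([2], 35), ([], 760)], 0, []),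
    ([2, 10, 40, 33, 41, 11], 1, [([2, 10, 37], 34), ([], 772)], 0, []),
    ([10, 41, 41, 41, 33, 41, 24], 1, [([10, 41, 41, 41, 33], 35), ([10, 41, 41], 35), ([], 776)], 0, []),
    ([2, 10, 3, 32, 40, 40, 11], 1, [([2, 10, 3, 32, 40, 37], 34), ([2, 10, 3, 32, 37], 34), ([], 780)], 0, []),
    ([2, 40, 33, 41, 41, 41, 33], 1, [([2, 40, 33, 41, 41], 35), ([2, 40, 33, 41], 35), ([2, 40, 33], 35), ([], 784)], 0, []),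
    ([24, 40, 40, 40, 33, 41, 41, 41], 1, [([24, 40, 40, 37], 34), ([24, 40, 37], 34), ([24, 37], 34), ([], 788)], 0, []),
    ([2, 10, 45, 49, 24, 32, 41, 41], 1, [([2, 10, 45, 49, 24, 32, 41], 35), ([], 820)], 0, []),
    ([2, 24, 44, 48, 41, 32, 10], 1, [([2, 24, 44, 48], 35), ([], 822)], 0, []),
    ([2, 10, 40, 40, 33, 41, 41, 3, 40, 40], 1, [([2, 10, 40, 40, 33, 41, 41, 3, 40, 37], 34), ([2, 10, 40, 40, 33, 41, 41, 3, 37], 34), ([2, 10, 40, 37], 34), ([2, 10, 37], 34), ([], 796)], 0, []),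
    ([2, 10, 3, 40, 40, 40, 33, 24, 32, 41], 1, [([2, 10, 3, 40, 40, 40, 33, 24, 32], 35), ([], 800)], 0, []),
    ([24, 32, 40, 40, 33, 45, 49, 25, 48, 44], 1, [([24, 32, 40, 37], 34), ([24, 32, 37], 34), ([], 836)], 0, [])]
    (rels_of_subst W1 [[8], [14], [20], [26], [38], [4], [16], [22], [28], [34], [46], [0], [6], [12], [18], [30], [42], [36, 40], [2, 2, 2], [10, 10, 10], [48, 48, 48], [24, 24, 24], [44, 44, 44], [32, 32, 32], [0, 10, 8, 3, 0, 45, 42, 26, 14, 6, 2, 0, 11, 8, 2], [0, 10, 8, 3, 0, 44, 42, 26, 14, 6, 2, 0, 11, 8, 3], [0, 36, 39, 36, 28, 16, 13, 25, 22, 14, 12, 33, 30, 16, 6, 2], [0, 44, 42, 26, 14, 12, 32, 30, 21, 40, 38, 40, 28, 16, 6, 3], [0, 36, 39, 36, 28, 20, 33, 30, 16, 13, 45, 42, 26, 14, 6, 2], [0, 32, 30, 16, 13, 24, 22, 14, 12, 40, 38, 40, 28, 16, 6, 3], [12, 17, 31, 32, 13, 15, 23, 25, 12,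 17, 31, 33, 13, 15, 27, 43, 44], [12, 17, 31, 32, 13, 15, 23, 24, 12, 17, 31, 33, 13, 15, 27, 43, 45], [0, 10, 8, 5, 40, 28, 20, 32, 30, 21, 36, 28, 16, 6, 4, 11, 8, 3], [0, 10, 8, 5, 40, 28, 20, 33, 30, 21, 36, 28, 16, 6, 4, 11, 8, 2], [4, 10, 5, 7, 41, 39, 41, 39, 36, 28, 20, 31, 33, 21, 36, 13, 24, 6], [0, 7, 17, 32, 30, 13, 15, 44, 19, 24, 22, 18, 27, 47, 49, 46, 26, 2], [0, 10, 8, 5, 36, 39, 36, 28, 20, 33, 30, 16, 6, 2, 0, 11, 8, 3], [0, 10, 8, 3, 0, 32, 30, 21, 40, 38, 40, 28, 16, 6, 4, 11, 8, 2], [0, 40, 28, 20, 33, 30, 21, 36, 39, 36, 39, 36, 28, 20, 33, 30, 16, 6, 2], [0, 32, 30, 21, 40, 38, 40, 38, 40, 28, 20, 32, 30, 21, 36, 28, 16, 6, 3], [4, 9, 10, 5, 7, 15, 23, 25, 18, 27, 47, 49, 19, 23, 25, 18, 27, 47, 49], [4, 9, 11, 5, 7, 15, 27, 47, 48, 19, 23, 24, 18, 27, 47, 48, 19, 23, 24], [2, 9, 11, 8, 2, 9, 11, 8,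 2, 9, 11, 8, 2, 9, 11, 8, 2, 9, 11, 8], [0, 9, 11, 2, 0, 9, 11, 2, 0, 9, 11, 2, 0, 9, 11, 2, 0, 9, 11, 2], [4, 9, 11, 5, 7, 15, 23, 25, 18, 27, 43, 45, 34, 47, 48, 35, 43, 44, 19, 23, 24], [4, 9, 11, 5, 7, 15, 27, 47, 48, 35, 43, 45, 34, 47, 48, 35, 43, 44, 34, 47, 49], [4, 9, 10, 5, 7, 15, 23, 25, 18, 27, 43, 45, 34, 47, 49, 35, 43, 44, 19, 23, 24], [4, 9, 10, 5, 7, 15, 27, 47, 48, 35, 43, 45, 34, 47, 49, 35, 43, 44, 34, 47, 49], [12, 17, 29, 37, 38, 37, 38, 37, 20, 31, 33, 21, 29, 41, 39, 41, 39, 41, 13, 15, 23, 24], [12, 17, 29, 37, 38, 37, 38, 37, 20, 31, 32, 21, 29, 41, 39, 41, 39, 41, 13, 15, 23, 25], [4, 9, 11, 5, 23, 25, 14, 12, 29, 37, 28, 20, 32, 21, 29, 40, 38, 40, 38, 37, 16, 6], [2, 10, 5, 15, 43, 45, 42, 34, 47, 49, 46, 19, 24, 14, 12, 17, 32, 21, 41, 39, 36, 16], [0, 15, 27, 48, 46, 19, 23, 25, 22, 18, 43,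 45, 26, 14, 12, 17, 31, 33, 30, 16, 1, 3], [0, 24, 22, 18, 44, 42, 34, 48, 46, 26, 14, 12, 36, 28, 20, 32, 30, 16, 6, 4, 10, 8, 2], [18, 27, 47, 48, 19, 23, 24, 18, 27, 47, 48, 35, 43, 45, 34, 47, 49, 35, 43, 44, 19, 23, 24], [18, 27, 43, 45, 34, 47, 48, 35, 43, 44, 34, 47, 49, 19, 23, 25, 18, 27, 47, 49, 19, 23, 25], [0, 45, 42, 34, 49, 46, 26, 14, 6, 4, 11, 8, 3, 0, 45, 42, 34, 49, 46, 26, 14, 6, 4, 11, 8, 3], [0, 10, 8, 5, 44, 42, 26, 14, 6, 4, 11, 8, 2, 0, 10, 8, 5, 44, 42, 26, 14, 6, 4, 11, 8, 2], [0, 36, 39, 36, 28, 16, 6, 2, 0, 40, 38, 40, 28, 20, 32, 30, 21, 36, 39, 36, 28, 16, 6, 4, 11, 8, 3], [0, 7, 29, 40, 38, 37, 28, 20, 31, 33, 30, 13, 23, 25, 22, 18, 27, 48, 35, 44, 26, 6, 4, 9, 11, 8, 1, 3], [0, 10, 8, 3, 0, 40, 38, 40, 38, 40, 28, 20, 33, 30, 16, 13, 24, 22, 14, 12, 32, 30, 21, 36, 28, 16, 6, 2], [34, 48,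 35, 43, 45, 42, 34, 48, 35, 43, 45, 42, 34, 48, 35, 43, 45, 42, 34, 48, 35, 43, 45, 42, 34, 48, 35, 43, 45, 42], [34, 47, 49, 35, 44, 42, 34, 47, 49, 35, 44, 42, 34, 47, 49, 35, 44, 42, 34, 47, 49, 35, 44, 42, 34, 47, 49, 35, 44, 42], [12, 17, 31, 33, 13, 15, 23, 25, 18, 27, 47, 49, 19, 23, 24, 12, 17, 31, 33, 13, 15, 23, 25, 18, 27, 47, 49, 19, 23, 24], [4, 9, 11, 5, 7, 15, 27, 43, 45, 34, 47, 49, 35, 43, 44, 4, 9, 11, 5, 7, 15, 27, 43, 45, 34, 47, 49, 35, 43, 44], [0, 10, 8, 5, 25, 22, 18, 48, 46, 35, 44, 42, 34, 49, 46, 26, 19, 24, 22, 14, 12, 40, 38, 40, 28, 20, 33, 30, 16, 6, 2], [12, 17, 31, 32, 21, 29, 37, 38, 37, 20, 31, 33, 13, 15, 27, 43, 45, 34, 47, 49, 19, 23, 25, 18, 27, 47, 48, 35, 43, 44, 19, 23, 24], [38, 40, 38, 40, 38, 40, 38, 40, 38, 40, 38, 40, 38, 40, 38, 40, 38, 40, 38, 40, 38, 40, 38, 40, 38, 40, 38,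 40, 38, 40, 38, 40, 38, 40, 38, 40, 38, 40, 38, 40, 38, 40, 38, 40, 38, 40]]
      (deriveP [] hz _ [[([3], 0)],
  [([2, 0, 2], 0)],
  [([2, 0, 3, 0], 2)],
  [([2, 0, 2, 0, 3], 0)],
  [([2, 0, 3, 0, 2, 0], 2)],
  [([], 2)],
  [([2, 0, 3], 0)],
  [([2, 0, 2, 0, 2], 0)],
  [([2, 0, 3, 0, 2], 0)],
  [([2, 0, 2, 0, 3, 0], 2)],
  [([2, 0, 2, 0, 3, 0, 3], 0)],
  [([], 0)],
  [([2], 0)],
  [([2, 0], 2)],
  [([2, 0, 2, 0], 2)],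
  [([2, 0, 3, 0, 3], 0)],
  [([2, 0, 2, 0, 3, 0, 2], 0)],
  [([2, 0, 3, 0, 2, 0, 2], 0)],
  [([0], 2)],
  [([3, 0], 2)],
  [([2, 0, 2, 0, 3, 0, 3, 0], 2)],
  [([2, 0, 2, 0, 2, 0], 2)],
  [([2, 0, 2, 0, 3, 0, 2, 0], 2)],
  [([2, 0, 3, 0, 3, 0], 2)],
  [([0, 3, 1, 3, 1], 12)],
  [([0, 2, 1, 3, 1, 2, 1, 2, 1, 3, 1, 2, 1, 2, 1, 3, 1, 2, 1, 3, 1, 3, 1, 2, 1, 3, 1, 3, 1, 2, 1, 3, 1, 3, 1], 12)],
  [([0, 3, 1, 2, 1, 3, 1, 3, 1], 12)],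
  [([0], 12)],
  [([0, 3, 1], 12)],
  [([0, 2, 1, 2, 1, 3, 1, 2, 1, 2, 1, 3, 1, 2, 1, 3, 1, 3, 1, 2, 1, 3, 1, 3, 1, 2, 1, 3, 1, 3, 1], 12)],
  [([2, 0, 2, 0, 3, 0, 2, 0, 3, 0, 3], 13)],
  [([2, 0, 2, 0, 3], 13)],
  [([0, 2, 1, 3, 1, 2, 1, 3, 1, 3, 1, 2, 1, 3, 1, 3, 1, 2, 1, 3, 1, 3, 1], 12)],
  [([0, 3, 1, 3, 1, 2, 1, 3, 1, 3, 1, 2, 1, 3, 1, 3, 1], 12)],
  [([2, 1, 2, 0, 2, 0], 8)],
  [([0, 3, 1, 2, 0, 2, 0], 8)],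
  [([0, 2, 1, 3, 1, 2, 1, 2, 1, 3, 1, 2, 1, 3, 1, 3, 1, 2, 1, 3, 1, 3, 1, 2, 1, 3, 1, 3, 1], 12)],
  [([0, 3, 1, 3, 1, 2, 1, 3, 1, 3, 1], 12)],
  [([0, 3, 1, 2, 1, 3, 1, 3, 1, 2, 1, 3, 1, 3, 1], 12)],
  [([0, 2, 1, 2, 1, 3, 1, 2, 1, 3, 1, 3, 1, 2, 1, 3, 1, 3, 1, 2, 1, 3, 1, 3, 1], 12)],
  [([2, 0, 2, 0, 3, 0, 3], 13)],
  [([2, 0, 2, 0, 2, 0, 3, 0, 2, 0, 3, 0, 3, 0, 2, 0, 3, 0, 3, 0, 2, 0, 3, 0, 3], 13)],
  [([3, 1, 2, 0, 2, 0], 8)],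
  [([0, 3, 1, 3, 0, 2, 0, 2], 9)],
  [([2, 0, 2, 0, 2, 0, 3, 0, 2, 0, 2, 0, 3, 0, 2, 0, 3, 0, 3, 0, 2, 0, 3, 0, 3, 0, 2, 0, 3, 0, 3], 13)],
  [([2, 0, 2, 0, 3, 0, 3, 0, 2, 0, 3, 0, 3, 0, 2, 0, 3, 0, 3], 13)],
  [([2], 13)],
  [([2, 0, 2, 0, 3, 0, 3, 0, 2, 0, 3, 0, 3], 13)],
  [([2, 0, 2, 0, 2, 0, 3, 0, 3], 13)],
  [([2, 0, 2], 13)],
  [([2, 1, 3, 1, 2, 0, 2, 0], 8)],
  [([2, 0], 6)],
  [([0, 2, 0, 2, 0], 8)],
  [([0], 4)],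
  [([2, 0, 2, 0, 2, 0, 3], 13)],
  [([2, 0, 2, 0, 2], 13)],
  [([0], 10)],
  [([0, 3, 1, 3, 1], 10)],
  [([0, 2, 1, 3, 1, 2, 1, 3, 1, 3, 1], 10)],
  [([0, 2, 0], 6)],
  [([0, 3, 1, 2, 1, 3, 1, 2, 1, 3, 1, 3, 1], 10)],
  [([2, 0, 2, 0, 3, 0, 2, 1, 2, 0, 2, 0], 8)],
  [([2, 0, 2, 0, 3, 0, 2, 1, 3, 1, 2, 0, 2, 0], 8)],
  [([2, 0, 2, 0, 2, 0, 3, 0, 2, 0, 3], 11)],
  [([2, 0, 2, 0, 3, 0, 2, 0, 3], 11)],
  [([0, 3, 1, 2, 1, 3, 1, 3, 1], 10)],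
  [([2, 0, 2, 0, 2, 0, 3], 11)],
  [([2, 0, 3, 0, 2, 0, 2, 1], 4)]] (by decide +kernel))) (by decide +kernel)

theorem rels2 {X : Type*} [Group X] (z : ℕ → X) (hz : ∀ w ∈ R1, wval z w = 1) :
    ∀ w ∈ R2, wval (fun i => wval z (W2.getD i [])) w = 1 :=
  one_of_killB [] _ [([22, 65], 1, [([22, 65], 0), ([], 55)], 0, []),
    ([18, 53, 29], 1, [([18, 53, 29], 0), ([], 63)], 0, []),
    ([22, 22], 1, [([22, 22], 0), ([22], 0), ([], 65)], 0, []),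
    ([18, 18], 1, [([18, 18], 0), ([18], 0), ([], 75)], 0, []),
    ([14, 27, 56, 37, 34], 1, [([14, 27], 0), ([35, 36, 57], 93)], 0, []),
    ([34, 42], 1, [([], 3), ([], 44)], 0, []),
    ([16, 22, 19, 16, 22, 19], 1, [([16, 22, 19, 16, 22], 3), ([16, 22], 3), ([], 106)], 0, []),
    ([20, 61], 1, [([20, 61], 4), ([20], 5), ([], 79)], 0, []),
    ([18, 53, 42, 30, 61], 1, [([18, 53, 42, 30, 61], 4), ([], 97)], 0, []),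
    ([18, 53, 54, 64, 23], 1, [([18, 53, 54, 64, 23], 4), ([], 99)], 0, []),
    ([18, 23, 18, 23], 1, [([18, 23, 18, 23], 4), ([18, 23], 4), ([], 129)], 0, []),
    ([14, 52, 36, 58], 1, [([59, 37, 53], 7), ([59, 37, 53], 82)], 0, []),
    ([8, 11, 8, 26, 15], 1, [([8, 11, 8, 26, 15], 6), ([], 88)], 0, []),
    ([46, 46, 51], 1, [([46], 8), ([], 72)], 0, []),
    ([6, 10, 28, 46], 1, [([6, 10, 28], 8), ([], 80)], 0, []),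
    ([34, 47, 59, 56, 37], 1, [([34], 9), ([], 102)], 0, []),
    ([34, 54, 71, 68, 66, 44, 37], 1, [([34], 9), ([], 108)], 0, []),
    ([46, 46, 46, 46, 46], 1, [([46, 46, 46, 46, 46], 8), ([46, 46, 46, 46], 8), ([46, 46, 46], 8), ([46, 46], 8), ([46], 8), ([], 114)], 0, []),
    ([0, 6, 10, 6], 1, [([0, 6, 10], 10), ([], 60)], 0, []),
    ([6, 10, 6, 14, 27], 1, [([6, 10], 10), ([], 10), ([26, 15], 141)], 0, []),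
    ([6, 10, 71, 30, 41, 27], 1, [([], 10), ([26, 40, 31, 70, 11], 101)], 0, []),
    ([6, 10, 6, 10, 6, 10, 6, 10, 6, 10], 1, [([6, 10, 6, 10, 6, 10, 6, 10], 10), ([6, 10, 6, 10, 6, 10], 10), ([6, 10, 6, 10], 10), ([6, 10], 10), ([], 10), ([11], 113)], 0, []),
    ([30, 61, 62, 65, 71], 1, [([30, 61, 62, 68], 13), ([], 84)], 0, []),
    ([38, 67, 64, 70, 64, 72], 1, [([38, 67, 64, 70], 12), ([38, 67], 12), ([], 86)], 0, []),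
    ([34, 54, 71, 65, 66, 44, 37], 1, [([34, 54, 71, 68], 13), ([], 148)], 0, []),
    ([64, 70, 64, 70, 64, 70, 64, 70, 64, 70], 1, [([64, 70, 64, 70, 64, 70, 64, 70], 12), ([64, 70, 64, 70, 64, 70], 12), ([64, 70, 64, 70], 12), ([64, 70], 12), ([], 12), ([71], 111)], 0, []),
    ([4, 37, 53, 44], 1, [([], 14), ([45, 52], 67)], 0, []),
    ([4, 20, 4, 20], 1, [([4, 20], 14), ([], 14), ([21], 68)], 0, []),
    ([4, 37, 34, 14, 27], 1, [([], 14), ([26, 15], 124)], 0, []),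
    ([4, 37, 34, 47, 59], 1, [([], 14), ([58, 46, 35], 146)], 0, []),
    ([18, 53, 29, 64, 23], 1, [([18, 53, 54], 17), ([], 134)], 0, []),
    ([28, 35, 36, 45, 67, 64, 70], 1, [([], 16), ([71, 65, 66, 44, 37], 165)], 0, []),
    ([0, 11, 15], 1, [([0, 26], 19), ([], 52)], 0, []),
    ([10, 38, 42, 72], 1, [([], 18), ([73, 43, 39], 77)], 0, []),
    ([6, 10, 6, 14, 10], 1, [([6, 10, 6, 14], 18), ([], 154)], 0, []),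
    ([4, 37, 34, 14, 10], 1, [([4, 37, 34, 14], 18), ([], 172)], 0, []),
    ([6, 10, 71, 30, 41, 10], 1, [([6, 10, 71, 30, 41], 18), ([], 156)], 0, []),
    ([0, 60, 0, 60], 1, [([0, 60], 20), ([], 20), ([], 70)], 0, []),
    ([4, 18, 53, 44], 1, [([4], 22), ([], 168)], 0, []),
    ([14, 52, 19, 58], 1, [([14, 52, 36], 23), ([], 138)], 0, []),
    ([4, 18, 34, 14, 10], 1, [([4], 22), ([], 186)], 0, []),
    ([4, 18, 34, 47, 59], 1, [([4], 22), ([], 174)], 0, []),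
    ([18, 34, 29, 71, 65, 66, 44], 1, [([], 22), ([45, 67, 64, 70], 179)], 0, []),
    ([22, 70, 64, 63, 60], 1, [([], 24), ([61, 62, 65, 71], 161)], 0, []),
    ([22, 65, 66, 51, 42, 63], 1, [([], 24), ([62, 43, 50, 67, 64], 91)], 0, []),
    ([18, 53, 42, 23, 61], 1, [([18, 53, 42, 30], 25), ([], 132)], 0, []),
    ([6, 10, 71, 23, 41, 10], 1, [([6, 10, 71, 30], 25), ([], 188)], 0, []),
    ([22, 65, 66, 39, 40, 60], 1, [([], 24), ([61, 41, 38, 67, 64], 105)], 0, []),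
    ([6, 15, 42], 1, [([6, 38], 27), ([], 28)], 0, []),
    ([10, 15, 42, 72], 1, [([10, 38], 27), ([], 182)], 0, []),
    ([14, 73, 65, 71, 65, 66], 1, [([], 26), ([67, 64, 70, 64, 72], 163)], 0, []),
    ([0, 6, 15, 67, 64, 23], 1, [([0, 6, 38], 27), ([], 94)], 0, []),
    ([14, 40, 60, 22, 65, 66], 1, [([], 26), ([67, 64, 23], 210)], 0, []),
    ([6, 15, 35], 1, [([6, 15, 42], 127), ([], 212)], 0, []),
    ([34, 67, 71], 1, [([], 126), ([70, 66], 43)], 0, []),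
    ([10, 15, 35, 72], 1, [([10, 15, 42], 127), ([], 214)], 0, []),
    ([22, 65, 66, 51, 35, 63], 1, [([22, 65, 66, 51, 42], 127), ([], 204)], 0, []),
    ([18, 53, 35, 23, 61], 1, [([18, 53, 42], 127), ([], 206)], 0, []),
    ([22, 63, 60, 22, 70], 1, [([], 116), ([71, 23], 202)], 0, []),
    ([14, 73, 23, 71, 23, 66], 1, [([14, 73, 23, 71, 65], 117), ([14, 73, 65], 117), ([], 216)], 0, []),
    ([34, 50, 67, 62], 1, [([34, 50, 67], 116), ([63], 229)], 0, []),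
    ([0, 6, 15, 67], 1, [([0, 6, 15, 67], 116), ([], 218)], 0, []),
    ([14, 40, 60, 66], 1, [([14, 40, 60], 117), ([], 220)], 0, []),
    ([18, 34, 29, 71, 23, 66, 44], 1, [([18, 34, 29, 71, 65], 117), ([], 200)], 0, []),
    ([22, 70, 22, 70, 22, 70, 22, 70, 22, 70], 1, [([22, 70, 22, 70, 22, 70, 22, 70], 116), ([22, 70, 22, 70, 22, 70], 116), ([22, 70, 22, 70], 116), ([22, 70], 116), ([], 116), ([], 166)], 0, []),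
    ([0, 20, 0, 20], 1, [([0, 20, 0], 130), ([0], 130), ([], 190)], 0, []),
    ([20, 22, 70, 22, 63], 1, [([], 130), ([62, 23], 232)], 0, []),
    ([18, 53, 35, 23, 21], 1, [([18, 53, 35, 23, 61], 131), ([], 230)], 0, []),
    ([14, 40, 20, 66], 1, [([14, 40], 130), ([], 240)], 0, []),
    ([6, 15, 46, 52], 1, [([], 48), ([], 36)], 0, []),
    ([6, 15, 67, 71], 1, [([], 48), ([], 224)], 0, []),
    ([6, 11, 73], 1, [([], 48), ([72], 227)], 0, []),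
    ([6, 15, 50, 67, 62], 1, [([], 48), ([], 236)], 0, []),
    ([4, 18, 6, 10], 1, [([4, 18], 48), ([], 196)], 0, []),
    ([6, 15, 52, 19, 20, 22], 1, [([], 48), ([23, 21], 251)], 0, []),
    ([4, 18, 6, 15, 47, 59], 1, [([4, 18], 48), ([], 198)], 0, []),
    ([6, 15, 29, 71, 23, 66, 44, 18], 1, [([], 48), ([19], 242)], 0, []),
    ([4, 18, 53, 51, 59], 1, [([4, 18, 53], 35), ([], 192)], 0, []),
    ([6, 15, 29, 71, 23, 66, 51, 59, 18], 1, [([6, 15, 29, 71, 23, 66], 35), ([], 268)], 0, []),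
    ([20, 22, 70, 22, 72, 40], 1, [([20, 22, 70, 22, 63, 41], 46), ([], 248)], 0, []),
    ([6, 15, 50, 67, 41, 73], 1, [([6, 15, 50, 67, 62, 72], 47), ([], 260)], 0, []),
    ([0, 6, 0, 6, 15], 1, [([], 180), ([14, 7, 1], 152)], 0, []),
    ([0, 7, 72, 15], 1, [([], 180), ([14, 73], 259)], 0, []),
    ([0, 28, 46, 6, 15], 1, [([], 180), ([14, 7], 144)], 0, []),
    ([0, 4, 18, 6, 15], 1, [([], 180), ([14, 7, 19, 5], 262)], 0, []),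
    ([0, 6, 15, 0, 71, 23, 41, 15], 1, [([], 180), ([14, 40, 22, 70, 1], 180), ([14, 40, 22, 70, 1, 14, 7], 208)], 0, []),
    ([0, 6, 15, 0, 6, 15, 0, 6, 15, 0, 6, 15, 0, 6, 15], 1, [([0, 6, 15, 0, 6, 15, 0, 6, 15, 0, 6, 10, 1], 180), ([0, 6, 15, 0, 6, 15, 0, 6, 10, 1], 180), ([0, 6, 15, 0, 6, 10, 1], 180), ([0, 6, 10, 1], 180), ([], 180), ([14, 7], 158)], 0, []),
    ([4, 28, 51, 59], 1, [([4], 119), ([], 270)], 0, []),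
    ([28, 52, 28, 52], 1, [([28, 52], 119), ([], 119), ([], 122)], 0, []),
    ([14, 29, 58], 1, [([14, 52, 19], 118), ([], 194)], 0, []),
    ([0, 4, 28, 52, 6, 15], 1, [([0, 4], 119), ([], 284)], 0, []),
    ([6, 15, 29, 20, 22], 1, [([6, 15, 52, 19], 118), ([], 264)], 0, []),
    ([4, 28, 52, 6, 15, 47, 59], 1, [([4], 119), ([], 266)], 0, []),
    ([22, 53, 29, 22, 53, 29], 1, [([22, 53, 29, 22, 19], 118), ([22, 19], 118), ([], 137)], 0, []),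
    ([6, 15, 29, 71, 23, 66, 51, 59, 28, 52], 1, [([6, 15, 29, 71, 23, 66, 51, 59], 119), ([], 272)], 0, []),
    ([4, 28, 47, 47, 59], 1, [([4, 28, 51], 143), ([], 290)], 0, []),
    ([6, 15, 46, 46, 67, 41, 73], 1, [([6, 15], 142), ([], 276)], 0, []),
    ([6, 15, 29, 71, 23, 66, 47, 47, 59, 28, 52], 1, [([6, 15, 29, 71, 23, 66, 51], 143), ([], 304)], 0, []),
    ([4, 28, 47, 47, 14, 29], 1, [([4, 28, 47, 47], 294), ([], 306)], 0, []),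
    ([4, 28, 52, 6, 15, 47, 14, 29], 1, [([4, 28, 52, 6, 15, 47], 294), ([], 300)], 0, []),
    ([6, 15, 29, 71, 23, 66, 47, 47, 14, 52], 1, [([6, 15, 29, 71, 23, 66, 47, 47], 294), ([], 310)], 0, [])]
    (rels_of_subst W2 [[2], [32], [16], [12], [48], [6, 8], [64, 68], [4, 57], [28, 54], [10, 26], [0, 25], [18, 36], [22, 30], [14, 38], [6, 38, 42], [20, 20, 20], [4, 4, 4], [44, 58, 50], [34, 46, 52], [0, 0, 0], [56, 56, 56], [42, 70, 66], [32, 34, 42], [40, 62, 72], [6, 15, 35], [24, 24, 24], [0, 26, 15], [2, 64, 23], [60, 60, 60], [0, 4, 0, 4], [0, 6, 10, 9], [2, 28, 52, 19], [2, 23, 2, 23], [36, 57, 45, 52], [20, 56, 20, 56], [24, 60, 24, 60], [46, 49, 46, 51], [2, 19, 2, 19], [26, 73, 43, 39], [16, 60, 17, 21], [6, 10, 28, 49, 46], [12, 52, 36, 58, 14], [30, 61, 62, 68, 71], [38, 67, 69, 70, 69, 72], [8, 11, 8, 26, 15,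 13], [30, 62, 43, 50, 67, 64], [2, 26, 15, 35, 36, 57], [0, 6, 38, 67, 64, 23], [16, 60, 31, 43, 52, 19], [16, 22, 65, 55, 52, 19], [8, 26, 40, 31, 70, 11], [34, 48, 47, 59, 56, 37], [30, 61, 41, 38, 67, 64], [16, 22, 32, 19, 16, 22, 32, 19], [34, 48, 54, 71, 68, 66, 44, 37], [68, 71, 68, 71, 68, 71, 68, 71, 68, 71], [8, 11, 8, 11, 8, 11, 8, 11, 8, 11], [46, 49, 46, 49, 46, 49, 46, 49, 46, 49]]
      (deriveP [] (derive [] hz [[2, 2, 2], [10, 10, 10], [44, 44, 44], [2, 10, 3, 45, 2, 11], [2, 10, 44, 11, 2, 10, 44, 11], [2, 11, 2, 11, 2, 11, 2, 11, 2, 11]] (by decide +kernel)) _ [[([], 2)],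
  [([11], 4)],
  [([10], 0)],
  [([], 4)],
  [([45], 2)],
  [([11], 0)],
  [([11, 3, 45], 0)],
  [([10, 2, 11], 7)],
  [([11, 3], 4)],
  [([44], 2)],
  [([], 6)],
  [([10, 2], 2)],
  [([10, 3], 2)],
  [([45], 0)],
  [([11, 44, 2, 11, 3], 6)],
  [([10, 2], 4)],
  [([10], 4)],
  [([45, 3], 4)],
  [([11, 45], 0)],
  [([], 0)],
  [([10, 2, 11], 0)],
  [([45, 3], 2)],
  [([11, 44, 2, 11], 7)],
  [([44, 11], 4)],
  [([11, 45, 2, 11], 7)],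
  [([10, 3], 4)],
  [([45, 2, 11], 7)],
  [([10, 3], 6)],
  [([10, 3, 11], 0)],
  [([], 8)],
  [([44, 2, 11, 3], 6)],
  [([10], 7)],
  [([10, 3], 8)],
  [([11, 45, 3], 6)],
  [([10, 2, 11, 3], 8)],
  [([10, 3, 11, 3], 8)],
  [([45, 10, 44, 2, 11, 3], 6)],
  [([10], 9)],
  [([44, 11], 9)],
  [([10, 2, 44, 2, 11, 3], 6)],
  [([45, 11, 3], 8)],
  [([44, 11, 3], 8)],
  [([11, 44], 7)],
  [([44, 11, 45, 2, 11], 7)],
  [([44, 44, 2, 11, 3], 6)],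
  [([11, 44, 3], 8)],
  [([10], 11)],
  [([], 10)],
  [([10, 2], 10)],
  [([10, 2], 6)],
  [([44], 8)],
  [([11, 45], 6)],
  [([11, 44, 3], 6)],
  [([10, 2], 8)],
  [([11, 45], 8)],
  [([11, 44, 2], 10)],
  [([44], 10)],
  [([45, 10], 10)]] (by decide +kernel))) (by decide +kernel)

theorem b1 {X : Type*} [Group X] (z : ℕ → X) (hz : ∀ w ∈ M24Ord.K, wval z w = 1) :
    (gp z [[0, 2, 1], [3, 0, 2, 1, 2], [2, 0, 2, 0, 2, 0, 2, 1, 3, 1, 3, 1, 3], [2, 0, 3, 0, 3, 0, 2, 1, 2, 1, 2, 1, 3], [2, 0, 3, 0, 2, 0, 3, 0, 3, 1, 3, 1, 2, 1, 3], [2, 0, 2, 0, 3, 0, 2, 0, 2, 1, 3, 1, 2, 1, 3, 1, 3], [2, 0, 2, 0, 3, 0, 3, 0, 2, 1, 2, 1, 2, 1, 3, 1, 3]]).relIndex (gp z [[0], [2]]) ≠ 0 ∧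
    (gp z [[0, 2, 1], [3, 0, 2, 1, 2], [2, 0, 2, 0, 2, 0, 2, 1, 3, 1, 3, 1, 3], [2, 0, 3, 0, 3, 0, 2, 1, 2, 1, 2, 1, 3], [2, 0, 3, 0, 2, 0, 3, 0, 3, 1, 3, 1, 2, 1, 3], [2, 0, 2, 0, 3, 0, 2, 0, 2, 1, 3, 1, 2, 1, 3, 1, 3], [2, 0, 2, 0, 3, 0, 3, 0, 2, 1, 2, 1, 2, 1, 3, 1, 3]]).relIndex (gp z [[0], [2]]) ≤ 24 :=
  tc_wrap [0] hz [[0], [2], [3], [0, 2, 1], [0, 3, 1], [3, 0, 2, 1, 2], [3, 0, 3, 1, 2], [2, 0, 2, 0, 2, 0, 2, 1, 3, 1, 3, 1, 3], [2, 0, 2, 0, 2, 0, 3, 1, 3, 1, 3, 1, 3], [2, 0, 3, 0, 3, 0, 2, 1, 2, 1, 2, 1, 3], [2, 0, 3, 0, 3, 0, 3, 1, 2, 1, 2, 1, 3], [2, 0, 3, 0, 2, 0, 3, 0, 3, 1, 3, 1, 2, 1, 3], [2, 0, 3, 0, 2, 0, 2, 1, 2, 1, 3, 1, 2, 1, 3], [2, 0, 2, 0, 3, 0, 2, 0, 2, 1, 3, 1, 2, 1, 3, 1, 3], [2, 0, 2, 0, 3, 0, 2, 0, 3, 1, 3, 1, 2, 1, 3, 1, 3], [2, 0, 2, 0, 3, 0, 3, 0, 2, 1, 2, 1, 2, 1, 3, 1, 3], [2, 0, 2, 0, 3, 0,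 3, 0, 3, 1, 2, 1, 2, 1, 3, 1, 3]] TCM241.bound _ _ (by decide +kernel)

theorem b2 {X : Type*} [Group X] (z : ℕ → X) (hz : ∀ w ∈ R1, wval z w = 1) :
    (gp z [[2], [11, 2, 45]]).relIndex (gp z [[2], [10], [24], [32], [40], [44], [48]]) ≠ 0 ∧
    (gp z [[2], [11, 2, 45]]).relIndex (gp z [[2], [10], [24], [32], [40], [44], [48]]) ≤ 10626 :=
  tc_wrap [] hz [[2], [3], [10], [11], [24], [25], [32], [33], [40], [41], [44], [45], [48], [49], [11, 2, 45], [44, 3, 10]] TCM242.bound _ _ (by decide +kernel)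

theorem b3 {X : Type*} [Group X] (z : ℕ → X) (hz : ∀ w ∈ R2, wval z w = 1) :
    (gp z []).relIndex (gp z [[0], [4], [6], [14], [20], [22], [28], [40], [46], [52], [66], [70], [72]]) ≠ 0 ∧
    (gp z []).relIndex (gp z [[0], [4], [6], [14], [20], [22], [28], [40], [46], [52], [66], [70], [72]]) ≤ 960 :=
  tc_wrap [] hz [[0], [1], [4], [5], [6], [7], [14], [15], [20], [21], [22], [23], [28], [29], [40], [41], [46], [47], [52], [53], [66], [67], [70], [71], [72], [73]] TCM243.bound _ _ (by decide +kernel)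

theorem card2 {X : Type*} [Group X] (z : ℕ → X) (hz : ∀ w ∈ R1, wval z w = 1) :
    Nat.card (gp z [[2], [10], [24], [32], [40], [44], [48]]) ≠ 0 ∧ Nat.card (gp z [[2], [10], [24], [32], [40], [44], [48]]) ≤ 10200960 := by
  have := card_le_of_le (gp_mono (by decide) : gp _ [[0], [6]] ≤ _)
    (card_le_of_relIndex (gp_mono (by decide)) (b3 _ (rels2 z hz)) (card_gp_nil _))
  rw [gp_subst] at this
  exact card_le_of_relIndex (gp_le.2 (mem_gp_of_lettersIn (by decide))) (b2 z hz) this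

theorem card_le {X : Type*} [Group X] (z : ℕ → X) (hz : ∀ w ∈ M24Ord.K, wval z w = 1) :
    Nat.card (gp z [[0], [2]]) ≠ 0 ∧ Nat.card (gp z [[0], [2]]) ≤ 244823040 := by
  have := card2 _ (rels1 z hz)
  rw [gp_subst] at this
  exact card_le_of_relIndex (gp_le.2 (mem_gp_of_lettersIn (by decide))) (b1 z hz) this

end Cfsg.Agent.Lib.M24TC
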