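import Cfsg.Agent.Lib.DCE6
import Cfsg.Agent.Lib.PermModel
import Cfsg.Agent.Lib.M24TC
import Cfsg.Agent.Lib.TCJ41
import Cfsg.Agent.Lib.TCJ42
import Cfsg.Agent.Lib.TCJ43
import Cfsg.Agent.Lib.TCJ44
import Cfsg.Agent.Lib.TCJ45
import Cfsg.Agent.Lib.TCJ46
import Cfsg.Agent.Lib.TCJ47
import Cfsg.Agent.Lib.TCJ48
import Cfsg.Agent.Lib.J4L1C0
import Cfsg.Agent.Lib.J4L2C0
import Cfsg.Agent.Lib.J4L4C0

/-! Order bounds and further relations for some subgroups of the presented fourth Janko group. -/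

set_option autoImplicit false
set_option maxRecDepth 100000

namespace Cfsg.Agent.Lib.J4TC

open Cfsg.Agent.Lib.PermNet Cfsg.Agent.Lib.Words Cfsg.Agent.Lib.PermGroup Cfsg.Agent.Lib.PermModel Cfsg.Agent.Lib.DCE

def RS : List (List ℕ) := [[10, 10], [4, 4, 4], [6, 6, 6], [8, 8, 8, 8], [4, 6, 8, 4, 6, 8], [4, 8, 10, 9, 5, 10], [4, 4, 7, 9, 6, 9, 9, 4, 9], [4, 6, 10, 8, 4, 10, 6, 8, 10], [4, 6, 9, 5, 8, 7, 8, 4, 9], [4, 7, 8, 6, 5, 8, 8, 4, 9], [6, 6, 8, 7, 8, 7, 8, 7, 8], [4, 4, 8, 8, 7, 8, 6, 4, 8], [6, 10, 7, 9, 9, 9, 10, 9, 10]]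

def RT : List (List ℕ) := [[24, 24], [22, 22, 22], [18, 18, 18, 18], [20, 20, 20, 20], [18, 20, 19, 23, 20], [18, 20, 19, 22, 22, 20], [20, 20, 24, 20, 20, 24], [20, 20, 24, 21, 21, 24], [22, 24, 22, 24, 22, 24], [18, 24, 19, 21, 24, 18, 24, 19, 24, 20], [18, 20, 23, 18, 20, 23, 21, 22, 18, 23], [18, 18, 18, 20, 18, 22, 19, 20, 18, 22], [18, 21, 23, 24, 22, 19, 24, 21, 22, 24], [18, 20, 22, 18, 23, 18, 23, 20, 20, 22], [18, 21, 21, 22, 18, 23, 18, 22, 22, 21], [18, 20, 18, 21, 23, 20, 23, 18, 22, 22], [18, 18, 18, 20, 18, 24, 19, 21, 18, 24]]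

def KL1 : List (List ℕ) := RS ++ [[28, 28], [10, 28, 11, 28], [8, 4, 28, 5, 9, 28], [4, 8, 5, 28, 4, 9, 5, 28], [4, 6, 8, 28, 9, 7, 5, 28], [7, 9, 7, 9, 28, 7, 9, 7, 9, 28, 7, 9, 7, 9, 28]]

def KL2 : List (List ℕ) := RT ++ [[30, 30], [18, 24, 19, 30, 18, 25, 19, 30], [21, 24, 20, 30, 21, 25, 20, 30], [18, 23, 18, 20, 30, 21, 19, 22, 19, 30], [21, 22, 20, 22, 30, 23, 21, 23, 20, 30], [20, 23, 18, 30, 20, 23, 18, 30, 20, 23, 18, 30], [22, 20, 24, 18, 20, 18, 22, 30, 20, 30, 21, 22, 20, 24, 18, 20, 18, 22, 30, 20, 30, 21]]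

def KL4 : List (List ℕ) := RS ++ [[14, 14], [32, 32], [4, 14, 5, 14], [6, 14, 7, 14], [8, 14, 9, 14], [10, 14, 11, 14], [4, 10, 5, 32, 4, 11, 5, 32], [9, 4, 8, 32, 9, 5, 8, 32], [4, 6, 8, 32, 9, 7, 5, 32], [7, 8, 6, 5, 32, 4, 7, 9, 6, 32], [32, 14, 10, 32, 11], [9, 32, 8, 4, 32, 5, 5, 10, 8, 5, 32, 4, 9, 11, 4], [32, 6, 9, 4, 32, 5, 8, 7, 7, 4, 10, 32, 11, 5, 6]]

def KH : List (List ℕ) := [[10, 10], [0, 0], [2, 2, 2], [0, 2, 0, 2, 0, 2, 0, 2, 0, 2, 0, 2, 0, 2, 0, 2, 0, 2, 0, 2, 0, 2, 0, 2, 0, 2, 0, 2, 0, 2, 0, 2, 0, 2, 0, 2, 0, 2, 0, 2, 0, 2, 0, 2, 0, 2], [1, 3, 0, 2, 1, 3, 0, 2, 1, 3, 0, 2, 1, 3, 0, 2, 1, 3, 0, 2, 1, 3, 0, 2, 1, 3, 0, 2, 1, 3, 0, 2, 1, 3, 0, 2, 1, 3, 0, 2, 1, 3, 0, 2, 1, 3, 0, 2], [1, 3, 1, 3, 0, 2, 0, 2, 1, 3, 1, 3, 0, 2, 0, 2, 1, 3, 1, 3, 0, 2, 0, 2, 1, 3, 1, 3, 0, 2, 0, 2,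 1, 3, 1, 3, 0, 2, 0, 2], [0, 2, 0, 2, 0, 3, 0, 2, 0, 3, 0, 2, 0, 3, 0, 2, 0, 2, 0, 3, 0, 2, 0, 3, 0, 2, 0, 3, 0, 2, 0, 2, 0, 3, 0, 2, 0, 3, 0, 2, 0, 3, 0, 2, 0, 2, 0, 3, 0, 2, 0, 3, 0, 2, 0, 3], [0, 2, 0, 2, 0, 3, 0, 2, 0, 2, 0, 3, 0, 2, 0, 2, 0, 3, 0, 2, 0, 3, 0, 3, 0, 2, 0, 3, 0, 3, 0, 2, 0, 3, 0, 3], [5, 0, 3, 0, 2, 0, 2, 0, 3, 0, 3, 0, 3, 0, 2, 0, 2, 0, 3, 0, 3, 0, 2, 0, 3, 0, 2, 0, 2, 0, 3, 0, 2, 0, 2, 0, 2, 0, 2, 0, 3, 0, 3, 0, 3, 0, 2, 0, 2, 0, 2, 0, 3, 0, 3, 0], [7, 3, 0, 2, 0, 3, 0, 3, 0, 2, 0, 3, 0, 2, 0, 2, 0, 2, 0, 3, 0, 2, 0, 3, 0, 3, 0, 3, 0, 3, 0, 3, 0, 3, 0, 2, 0, 3, 0, 3, 0, 2, 0, 2, 0, 3], [9, 2, 0, 3, 0, 3, 0, 3, 0, 3, 0, 3, 0, 2, 0, 2, 0, 3, 0, 3, 0, 2, 0, 3, 0, 3, 0, 2, 0, 2, 0, 2, 0, 2, 0, 2, 0, 3, 0, 2, 0, 2, 0, 2, 0, 2, 0, 2, 0, 3, 0, 2, 0, 2], [11, 0, 2, 0, 3, 0, 3, 0, 3,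 0, 2, 0, 3, 0, 2, 0, 2, 0, 2, 0, 3, 0, 3, 0, 2, 0, 3, 0, 3, 0, 3, 0, 2, 0, 3, 0, 2, 0, 2, 0, 2, 0, 3, 0, 3], [13, 0, 3, 0, 3, 0, 3, 0, 3, 0, 2, 0, 3, 0, 2, 0, 3, 0, 3, 0, 3, 0, 2, 0, 3, 0, 3, 0, 3, 0, 3, 0, 3, 0, 3, 0, 2, 0, 2, 0, 3, 0, 2, 0, 2, 0, 2, 0, 2, 0, 2, 0, 3], [1, 4, 13, 6, 10, 4, 8, 5, 7, 8, 12, 5], [3, 7, 10, 4, 7, 5, 6], [4, 4, 4], [6, 6, 6], [12, 12, 12], [8, 8, 8, 8], [4, 6, 8, 4, 6, 8], [4, 8, 10, 9, 5, 10], [4, 6, 13, 7, 10, 6, 10, 12, 7, 5, 10], [4, 8, 4, 10, 8, 4, 8, 10, 4, 10, 8], [4, 8, 4, 13, 10, 8, 10, 9, 10, 12, 8], [4, 4, 9, 7, 8, 8, 6, 8, 4, 9, 9], [4, 6, 5, 8, 7, 5, 8, 4, 7, 8, 8], [4, 4, 10, 4, 13, 5, 9, 5, 10, 9, 12], [4, 7, 4, 7, 9, 7, 9, 7, 8, 6, 9], [6, 6, 8, 7, 8, 12, 7, 8, 7, 8, 13], [4, 4, 9, 5, 9, 9, 7, 9, 7, 4, 7], [4, 4, 8, 8, 5, 6, 5, 7, 4, 9, 9], [4, 7, 12,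 5, 9, 12, 5, 9, 12, 7, 8], [4, 6, 5, 7, 7, 8, 8, 6, 4, 9, 9], [4, 4, 6, 9, 7, 4, 9, 6, 8, 6, 8], [4, 8, 5, 9, 9, 10, 7, 10, 8, 10, 6], [4, 12, 6, 8, 7, 13, 5, 6, 13, 10, 7], [4, 7, 8, 6, 9, 6, 5, 6, 9, 6, 8], [4, 6, 9, 6, 8, 6, 5, 9, 5, 6, 9], [4, 7, 8, 4, 8, 4, 9, 6, 6, 9, 7], [14, 14], [4, 14, 5, 14], [6, 14, 7, 14], [8, 14, 9, 14], [10, 14, 11, 14], [12, 14, 12, 14, 12, 14], [12, 14, 13, 5, 12, 14, 13, 4, 10, 8, 8, 12, 14, 13, 9, 9, 10]]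

def O1 : List (List ℕ) := [[8, 6, 28, 7, 9, 7, 28, 6, 6, 5, 28, 4, 7, 8, 6, 28, 7, 9, 7, 28, 6, 6, 5, 28, 4, 7], [4, 8, 6, 28, 7, 9, 7, 28, 6, 6, 5, 28, 4, 7, 5, 6, 5, 29, 4, 7, 7, 29, 6, 8, 6, 29, 7, 9], [6, 8, 6, 28, 7, 9, 7, 28, 6, 6, 5, 28, 4, 7, 7, 6, 5, 29, 4, 7, 7, 29, 6, 8, 6, 29, 7, 9], [8, 8, 6, 28, 7, 9, 7, 28, 6, 6, 5, 28, 4, 7, 9, 6, 5, 29, 4, 7, 7, 29, 6, 8, 6, 29, 7, 9], [10, 8, 6, 28, 7, 9, 7, 28, 6, 6, 5, 28, 4, 7, 11, 6, 5, 29, 4, 7, 7, 29, 6, 8, 6, 29, 7, 9]]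

def O2 : List (List ℕ) := [[18, 24, 18, 30, 19, 25, 19, 20, 18, 30, 19, 22, 18, 30, 19, 23, 21, 18, 30, 19, 24, 22, 18, 30, 19, 23, 25, 23, 18, 30, 19, 22, 20, 30, 21, 24, 23, 18, 23, 30, 22, 19, 22, 25, 22, 30, 23], [30, 18, 30, 19, 24, 22, 18, 30, 19, 23, 25, 23, 18, 30, 19, 22, 30, 18, 30, 19, 24, 22, 18, 30, 19, 23, 25, 23, 18, 30, 19, 22, 23, 19, 25, 18, 22]]

def O4 : List (List ℕ) := [[32, 5, 32, 4, 10, 8, 8, 32, 9, 9, 11]]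

theorem b1 {X : Type*} [Group X] (z : ℕ → X) (hz : ∀ w ∈ RS, wval z w = 1) :
    (gp z [[4], [6], [8]]).relIndex (gp z [[4], [6], [8], [10]]) ≠ 0 ∧
    (gp z [[4], [6], [8]]).relIndex (gp z [[4], [6], [8], [10]]) ≤ 64 :=
  tc_wrap [5] hz [[4], [5], [6], [7], [8], [9], [10]] TCJ41.bound _ _ (by decide +kernel)

theorem b2 {X : Type*} [Group X] (z : ℕ → X) (hz : ∀ w ∈ RS, wval z w = 1) :
    (gp z []).relIndex (gp z [[4], [6], [8]]) ≠ 0 ∧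
    (gp z []).relIndex (gp z [[4], [6], [8]]) ≤ 2160 :=
  tc_wrap [] hz [[4], [5], [6], [7], [8], [9]] TCJ42.bound _ _ (by decide +kernel)

theorem b3 {X : Type*} [Group X] (z : ℕ → X) (hz : ∀ w ∈ RT, wval z w = 1) :
    (gp z [[18], [20], [22]]).relIndex (gp z [[18], [20], [22], [24]]) ≠ 0 ∧
    (gp z [[18], [20], [22]]).relIndex (gp z [[18], [20], [22], [24]]) ≤ 64 :=
  tc_wrap [12] hz [[18], [19], [20], [21], [22], [23], [24]] TCJ43.bound _ _ (by decide +kernel)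

theorem b4 {X : Type*} [Group X] (z : ℕ → X) (hz : ∀ w ∈ RT, wval z w = 1) :
    (gp z []).relIndex (gp z [[18], [20], [22]]) ≠ 0 ∧
    (gp z []).relIndex (gp z [[18], [20], [22]]) ≤ 1008 :=
  tc_wrap [] hz [[18], [19], [20], [21], [22], [23]] TCJ44.bound _ _ (by decide +kernel)

theorem b5 {X : Type*} [Group X] (z : ℕ → X) (hz : ∀ w ∈ KL1, wval z w = 1) :
    (gp z [[4], [6], [8], [10]]).relIndex (gp z [[4], [6], [8], [10], [28]]) ≠ 0 ∧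
    (gp z [[4], [6], [8], [10]]).relIndex (gp z [[4], [6], [8], [10], [28]]) ≤ 32 :=
  tc_wrap [5, 14] hz [[4], [5], [6], [7], [8], [9], [10], [28]] TCJ45.bound _ _ (by decide +kernel)

theorem b6 {X : Type*} [Group X] (z : ℕ → X) (hz : ∀ w ∈ KL2, wval z w = 1) :
    (gp z [[18], [20], [22], [24]]).relIndex (gp z [[18], [20], [22], [24], [30]]) ≠ 0 ∧
    (gp z [[18], [20], [22], [24]]).relIndex (gp z [[18], [20], [22], [24], [30]]) ≤ 1024 :=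
  tc_wrap [12, 15] hz [[18], [19], [20], [21], [22], [23], [24], [30]] TCJ46.bound _ _ (by decide +kernel)

theorem b7 {X : Type*} [Group X] (z : ℕ → X) (hz : ∀ w ∈ KL4, wval z w = 1) :
    (gp z [[4], [6], [8], [10]]).relIndex (gp z [[4], [6], [8], [10], [14], [32]]) ≠ 0 ∧
    (gp z [[4], [6], [8], [10]]).relIndex (gp z [[4], [6], [8], [10], [14], [32]]) ≤ 128 :=
  tc_wrap [5, 7, 16] hz [[4], [5], [6], [7], [8], [9], [10], [14], [32]] TCJ47.bound _ _ (by decide +kernel)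

theorem b8 {X : Type*} [Group X] (z : ℕ → X) (hz : ∀ w ∈ KH, wval z w = 1) :
    (gp z [[0], [2], [4], [6], [8], [10], [12]]).relIndex (gp z [[0], [2], [4], [6], [8], [10], [12], [14]]) ≠ 0 ∧
    (gp z [[0], [2], [4], [6], [8], [10], [12]]).relIndex (gp z [[0], [2], [4], [6], [8], [10], [12], [14]]) ≤ 2048 :=
  tc_wrap [0, 5, 7] hz [[0], [2], [3], [4], [5], [6], [7], [8], [9], [10], [12], [13], [14]] TCJ48.bound _ _ (by decide +kernel)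

theorem cardS {X : Type*} [Group X] (z : ℕ → X) (hz : ∀ w ∈ RS, wval z w = 1) :
    Nat.card (gp z [[4], [6], [8], [10]]) ≠ 0 ∧ Nat.card (gp z [[4], [6], [8], [10]]) ≤ 138240 :=
  (card_le_of_relIndex (gp_mono (by decide)) (b1 z hz)
    (card_le_of_relIndex (gp_mono (by decide)) (b2 z hz)
    (card_gp_nil z)))

theorem cardT {X : Type*} [Group X] (z : ℕ → X) (hz : ∀ w ∈ RT, wval z w = 1) :
    Nat.card (gp z [[18], [20], [22], [24]]) ≠ 0 ∧ Nat.card (gp z [[18], [20], [22], [24]]) ≤ 64512 :=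
  (card_le_of_relIndex (gp_mono (by decide)) (b3 z hz)
    (card_le_of_relIndex (gp_mono (by decide)) (b4 z hz)
    (card_gp_nil z)))

theorem card1 {X : Type*} [Group X] (z : ℕ → X) (hz : ∀ w ∈ KL1, wval z w = 1) :
    Nat.card (gp z [[4], [6], [8], [10], [28]]) ≠ 0 ∧ Nat.card (gp z [[4], [6], [8], [10], [28]]) ≤ 4423680 :=
  (card_le_of_relIndex (gp_mono (by decide)) (b5 z hz)
    (cardS z fun w h => hz w (List.mem_append_left _ h)))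

theorem card2 {X : Type*} [Group X] (z : ℕ → X) (hz : ∀ w ∈ KL2, wval z w = 1) :
    Nat.card (gp z [[18], [20], [22], [24], [30]]) ≠ 0 ∧ Nat.card (gp z [[18], [20], [22], [24], [30]]) ≤ 66060288 :=
  (card_le_of_relIndex (gp_mono (by decide)) (b6 z hz)
    (cardT z fun w h => hz w (List.mem_append_left _ h)))

theorem card4 {X : Type*} [Group X] (z : ℕ → X) (hz : ∀ w ∈ KL4, wval z w = 1) :
    Nat.card (gp z [[4], [6], [8], [10], [14], [32]]) ≠ 0 ∧ Nat.card (gp z [[4], [6], [8], [10], [14], [32]]) ≤ 17694720 :=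
  (card_le_of_relIndex (gp_mono (by decide)) (b7 z hz)
    (cardS z fun w h => hz w (List.mem_append_left _ h)))

theorem card_le {X : Type*} [Group X] (z : ℕ → X) (hz : ∀ w ∈ KH, wval z w = 1) :
    Nat.card (gp z [[0], [2], [4], [6], [8], [10], [12], [14]]) ≠ 0 ∧ Nat.card (gp z [[0], [2], [4], [6], [8], [10], [12], [14]]) ≤ 501397585920 :=
  (card_le_of_relIndex (gp_mono (by decide)) (b8 z hz)
    (M24TC.card_le_of_le (gp_le.2 (mem_of_slp hz _ [(2, [0, 3, 0, 2, 0, 2, 0, 3, 0, 3, 0, 3, 0, 2, 0, 2, 0, 3, 0, 3, 0, 2, 0, 3, 0, 2, 0, 2, 0, 3, 0, 2, 0, 2, 0, 2, 0, 2, 0, 3, 0, 3, 0, 3, 0, 2, 0, 2, 0, 2, 0, 3, 0, 3, 0]), (3, [3, 0, 2, 0, 3, 0, 3, 0, 2, 0, 3, 0, 2, 0, 2, 0, 2, 0, 3, 0, 2, 0, 3, 0, 3, 0, 3, 0, 3, 0, 3, 0, 3, 0, 2, 0, 3, 0, 3, 0, 2, 0, 2, 0, 3]), (4, [2, 0, 3, 0, 3, 0, 3, 0, 3, 0, 3, 0,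 2, 0, 2, 0, 3, 0, 3, 0, 2, 0, 3, 0, 3, 0, 2, 0, 2, 0, 2, 0, 2, 0, 2, 0, 3, 0, 2, 0, 2, 0, 2, 0, 2, 0, 2, 0, 3, 0, 2, 0, 2]), (5, [0, 2, 0, 3, 0, 3, 0, 3, 0, 2, 0, 3, 0, 2, 0, 2, 0, 2, 0, 3, 0, 3, 0, 2, 0, 3, 0, 3, 0, 3, 0, 2, 0, 3, 0, 2, 0, 2, 0, 2, 0, 3, 0, 3]), (6, [0, 3, 0, 3, 0, 3, 0, 3, 0, 2, 0, 3, 0, 2, 0, 3, 0, 3, 0, 3, 0, 2, 0, 3, 0, 3, 0, 3, 0, 3, 0, 3, 0, 3, 0, 2, 0, 2, 0, 3, 0, 2, 0, 2, 0, 2, 0, 2, 0, 2, 0, 3])] _ le_rfl (by decide +kernel)))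
    (M24TC.card_le z (derive [] hz _ (by decide +kernel)))))

open J4L1 in
theorem hrelsJ4L1 : ∀ w ∈ relW rels, wval nets.perm w = 1 :=
  relW_one (wval_eq_of_relsOn (K := 11) hv (by norm_num) rels0_0)

open J4L1 in
theorem leJ4L1 (_ : Finite (gp nets.perm [[4], [6], [8], [10], [28]])) : 4423680 ≤ Nat.card (gp nets.perm [[4], [6], [8], [10], [28]]) := by
  rw [← fixer_nil (gp nets.perm _)]
  exact (le_card_fixer hv [[4], [6], [8], [10], [28]] (mem_gp_of_lettersIn (by decide +kernel)) [] 0 [3, 4, 0, 1, 2, 4, 1, 0, 3, 2, 1, 0, 4, 2, 3, 1, 0] 0 2048 2048 ch_0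
    (le_card_fixer hv [[4], [6], [8]] (mem_gp_of_lettersIn (by decide +kernel)) [0] 1 [0, 1, 2, 0, 1, 2, 0, 1, 2, 0, 1, 2, 1, 0] 1 540 540 ch_1
    (le_card_fixer hv [[7, 8, 4, 7], [6, 8, 8, 7]] (mem_gp_of_lettersIn (by decide +kernel)) [1, 0] 2 [0, 1] 2 356 4 ch_2
    (one_le_card_fixer _))))

open J4L2 in
theorem hrelsJ4L2 : ∀ w ∈ relW rels, wval nets.perm w = 1 :=
  relW_one (wval_eq_of_relsOn (K := 10) hv (by norm_num) rels0_0)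

open J4L2 in
theorem leJ4L2 (_ : Finite (gp nets.perm [[18], [20], [22], [24], [30]])) : 66060288 ≤ Nat.card (gp nets.perm [[18], [20], [22], [24], [30]]) := by
  rw [← fixer_nil (gp nets.perm _)]
  exact (le_card_fixer hv [[18], [20], [22], [24], [30]] (mem_gp_of_lettersIn (by decide +kernel)) [] 0 [4, 0, 1, 2, 4, 0, 2, 1, 4, 2, 0, 4, 2, 1, 0, 4, 1, 0] 0 1024 1024 ch_0
    (le_card_fixer hv [[18], [20], [22], [24]] (mem_gp_of_lettersIn (by decide +kernel)) [0] 1 [0, 1, 2, 0, 1, 2, 0, 1, 2, 1, 0, 2, 0] 1 336 336 ch_1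
    (le_card_fixer hv [[21, 18, 20, 18], [18, 24, 22, 20, 18]] (mem_gp_of_lettersIn (by decide +kernel)) [1, 0] 2 [0, 1, 0, 1, 0] 2 256 12 ch_2
    (le_card_fixer hv [[18, 24, 22, 20, 18, 18, 24, 22, 20, 18], [21, 18, 23, 24, 19, 21, 18, 20, 18, 18, 24, 22, 20, 18], [19, 21, 23, 24, 19, 21, 18, 20, 18, 18, 24, 22, 20, 18, 21, 18, 20, 18], [19, 21, 19, 20, 18, 24, 22, 20, 18, 21, 18, 23, 24, 19, 19, 21, 19, 20]] (mem_gp_of_lettersIn (by decide +kernel)) [2, 1, 0] 3 [0] 3 14 2 ch_3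
    (le_card_fixer hv [[21, 18, 23, 24, 19, 21, 18, 20, 18, 18, 24, 22, 20, 18], [19, 21, 23, 24, 19, 21, 18, 20, 18, 18, 24, 22, 20, 18, 21, 18, 20, 18], [19, 21, 23, 24, 19, 19, 21, 23, 24, 19, 19, 21, 19, 20, 18, 24, 22, 20, 18, 21, 18, 23, 24, 19, 19, 21, 19, 20]] (mem_gp_of_lettersIn (by decide +kernel)) [3, 2, 1, 0] 4 [1] 4 14 2 ch_4
    (le_card_fixer hv [[21, 18, 23, 24, 19, 21, 18, 20, 18, 18, 24, 22, 20, 18], [19, 21, 23, 24, 19, 19, 21, 23, 24, 19, 19, 21, 19, 20, 18, 24, 22, 20, 18, 21, 18, 23, 24, 19, 19, 21, 19, 20]] (mem_gp_of_lettersIn (by decide +kernel)) [4, 3, 2, 1, 0] 6 [0] 6 15 2 ch_5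
    (le_card_fixer hv [[19, 21, 23, 24, 19, 19, 21, 19, 20, 18, 24, 22, 19, 20, 19, 21, 23, 24, 19, 19, 21, 23, 24, 19, 19, 21, 19, 20, 18, 24, 22, 20, 18, 21, 18, 23, 24, 19, 19, 21, 19, 20]] (mem_gp_of_lettersIn (by decide +kernel)) [6, 4, 3, 2, 1, 0] 8 [0] 8 39 2 ch_6
    (one_le_card_fixer _))))))))

open J4L4 in
theorem hrelsJ4L4 : ∀ w ∈ relW rels, wval nets.perm w = 1 :=
  relW_one (wval_eq_of_relsOn (K := 7) hv (by norm_num) rels0_0)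

open J4L4 in
theorem leJ4L4 (_ : Finite (gp nets.perm [[4], [6], [8], [10], [14], [32]])) : 17694720 ≤ Nat.card (gp nets.perm [[4], [6], [8], [10], [14], [32]]) := by
  rw [← fixer_nil (gp nets.perm _)]
  exact (le_card_fixer hv [[4], [6], [8], [10], [14], [32]] (mem_gp_of_lettersIn (by decide +kernel)) [] 0 [4, 5, 0, 1, 2, 5, 1, 0, 5, 0, 0] 0 128 128 ch_0
    (le_card_fixer hv [[4], [6], [8], [10]] (mem_gp_of_lettersIn (by decide +kernel)) [0] 1 [0, 1, 2, 0, 1, 3, 2, 0, 2, 0, 1] 1 90 90 ch_1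
    (le_card_fixer hv [[4, 10, 5], [9, 4, 8], [4, 6, 8], [7, 8, 6, 5]] (mem_gp_of_lettersIn (by decide +kernel)) [1, 0] 2 [0, 1, 2, 1, 3, 2, 1, 2] 2 89 48 ch_2
    (le_card_fixer hv [[9, 5, 8, 4, 10, 5, 9, 4, 8], [9, 4, 8, 4, 10, 5, 9, 5, 8], [9, 5, 7, 5, 9, 5, 8, 7, 8, 6, 6, 4, 8], [4, 10, 5, 9, 7, 5, 9, 5, 8, 4, 10, 5, 9, 4, 8, 4, 6, 8]] (mem_gp_of_lettersIn (by decide +kernel)) [2, 1, 0] 3 [2, 0, 2] 3 70 4 ch_3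
    (le_card_fixer hv [[9, 5, 8, 4, 10, 5, 9, 4, 8], [9, 4, 8, 4, 10, 5, 9, 5, 8], [9, 5, 7, 7, 9, 6, 9, 4, 8, 4, 6, 4, 8, 4, 10, 5, 9, 7, 5, 9, 5, 8, 4, 10, 5, 9, 4, 8, 4, 6, 5, 7, 5, 9, 5, 8, 7, 8, 6, 6, 4, 8]] (mem_gp_of_lettersIn (by decide +kernel)) [3, 2, 1, 0] 4 [1] 4 11 2 ch_4
    (le_card_fixer hv [[9, 5, 8, 4, 10, 5, 9, 4, 8], [9, 5, 7, 7, 9, 6, 9, 4, 8, 4, 6, 4, 8, 4, 10, 5, 9, 7, 5, 9, 5, 8, 4, 10, 5, 9, 4, 8, 4, 6, 5, 7, 5, 9, 5, 8, 7, 8, 6, 6, 4, 8]] (mem_gp_of_lettersIn (by decide +kernel)) [4, 3, 2, 1, 0] 7 [1] 7 15 2 ch_5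
    (le_card_fixer hv [[9, 5, 8, 4, 10, 5, 9, 4, 8]] (mem_gp_of_lettersIn (by decide +kernel)) [7, 4, 3, 2, 1, 0] 8 [0] 8 18 2 ch_6
    (one_le_card_fixer _))))))))

theorem rels1 {X : Type*} [Group X] (z : ℕ → X) (hz : ∀ w ∈ KL1, wval z w = 1) :
    ∀ w ∈ O1, wval z w = 1 :=
  rels_of_model hz (derive [5, 14] hrelsJ4L1 _ (by decide +kernel)) (fun z => card1 z) leJ4L1
    (by decide +kernel) (derive [5, 14] hrelsJ4L1 _ (by decide +kernel))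

theorem rels2 {X : Type*} [Group X] (z : ℕ → X) (hz : ∀ w ∈ KL2, wval z w = 1) :
    ∀ w ∈ O2, wval z w = 1 :=
  rels_of_model hz (derive [12, 15] hrelsJ4L2 _ (by decide +kernel)) (fun z => card2 z) leJ4L2
    (by decide +kernel) (derive [12, 15] hrelsJ4L2 _ (by decide +kernel))

theorem rels4 {X : Type*} [Group X] (z : ℕ → X) (hz : ∀ w ∈ KL4, wval z w = 1) :
    ∀ w ∈ O4, wval z w = 1 :=
  rels_of_model hz (derive [5, 7, 16] hrelsJ4L4 _ (by decide +kernel)) (fun z => card4 z) leJ4L4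
    (by decide +kernel) (derive [5, 7, 16] hrelsJ4L4 _ (by decide +kernel))

end Cfsg.Agent.Lib.J4TC
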