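import Cfsg.Agent.Lib.DCE6
import Cfsg.Agent.Lib.J4A0
import Cfsg.Agent.Lib.J4TC
import Cfsg.Agent.Lib.J4MC0

/-! Relations among auxiliary elements of the subgroup `M₂₄` of the presented fourth Janko group. -/

set_option autoImplicit false
set_option maxRecDepth 100000

namespace Cfsg.Agent.Lib.J4R0

open Cfsg.Agent.Lib.PermNet Cfsg.Agent.Lib.Words Cfsg.Agent.Lib.PermGroup Cfsg.Agent.Lib.DCE Cfsg.Agent.Lib.J4Base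

open J4M in
theorem hrels : ∀ w ∈ relW rels, wval nets.perm w = 1 :=
  relW_one (wval_eq_of_relsOn (K := 5) hv (by norm_num) rels0_0)

open J4M in
theorem le (_ : Finite (gp nets.perm [[0], [2]])) : 244823040 ≤ Nat.card (gp nets.perm [[0], [2]]) := by
  rw [← fixer_nil (gp nets.perm _)]
  exact (le_card_fixer hv [[0], [2]] (mem_gp_of_lettersIn (by decide +kernel)) [] 0 [0, 1, 0, 1, 0, 1, 0, 1, 0, 1, 0, 1, 0] 0 24 24 ch_0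
    (le_card_fixer hv [[0, 2, 0], [3, 0, 2, 0, 2], [2, 0, 3, 0, 3, 0, 2, 0, 2, 0, 2, 0, 3]] (mem_gp_of_lettersIn (by decide +kernel)) [0] 1 [0, 0, 1, 0, 0, 2, 0, 1, 0, 0, 1, 2] 1 23 23 ch_1
    (le_card_fixer hv [[2, 0, 3, 0, 3, 0, 2, 0, 2, 0, 2, 0, 3], [3, 0, 2, 0, 2, 0, 3, 0]] (mem_gp_of_lettersIn (by decide +kernel)) [1, 0] 2 [1, 1, 0, 1, 0, 1, 1, 0, 1, 1] 2 22 22 ch_2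
    (le_card_fixer hv [[2, 0, 3, 0, 3, 0, 2, 0, 2, 0, 2, 0, 3], [3, 0, 2, 0, 2, 0, 3, 0, 3, 0, 2, 0, 2, 0, 3, 0, 2, 0, 3, 0, 3, 0, 2, 0, 2, 0, 2, 0, 3, 3, 0, 2, 0, 2, 0, 3, 0]] (mem_gp_of_lettersIn (by decide +kernel)) [2, 1, 0] 3 [0, 0, 1, 0, 0, 1, 0] 3 21 21 ch_3
    (le_card_fixer hv [[0, 2, 0, 3, 0, 3, 0, 2, 2, 0, 3, 0, 3, 0, 3, 0, 2, 0, 2, 0, 3, 0, 2, 0, 3, 0, 3, 0, 2, 0, 2, 0, 3, 0, 3, 0, 2, 2, 0, 3, 0, 3, 0, 2, 0, 2, 0, 2, 0, 3, 3, 0, 2, 0, 2, 0, 3, 0, 3, 0, 2, 0, 2, 0, 3, 0, 2, 0, 3, 0, 3, 0, 2, 0, 2, 0, 2, 0, 3, 3, 0, 2, 0, 2, 0, 3, 0], [3, 0, 2, 0, 2, 0, 3, 0, 3, 0, 2, 0, 2, 0, 3, 0, 2, 0, 3, 0, 3, 0, 2, 0, 2, 0, 2, 0, 3, 3, 0, 2, 0,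 2, 0, 3, 0, 2, 0, 3, 0, 3, 0, 2, 0, 2, 0, 2, 0, 3, 3, 0, 2, 0, 2, 0, 3, 0, 3, 0, 2, 0, 2, 0, 3, 0, 2, 0, 3, 0, 3, 0, 2, 0, 2, 0, 2, 0, 3, 3, 0, 2, 0, 2, 0, 3, 0, 3, 0, 2, 0, 2, 0, 3, 0, 3, 0, 2, 0, 2, 0, 3, 0, 2, 0, 3, 0, 3, 0, 2, 0, 2, 0, 2, 0, 3, 3, 0, 2, 0, 2, 0, 3, 0]] (mem_gp_of_lettersIn (by decide +kernel)) [3, 2, 1, 0] 4 [0, 1, 0, 1, 0, 1] 4 20 20 ch_4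
    (le_card_fixer hv [[0, 2, 0, 3, 0, 3, 0, 2, 2, 0, 3, 0, 3, 0, 3, 0, 2, 0, 2, 0, 3, 0, 2, 0, 3, 0, 3, 0, 2, 0, 2, 0, 3, 0, 3, 0, 2, 2, 0, 3, 0, 3, 0, 3, 0, 2, 0, 2, 0, 3, 3, 0, 2, 0, 2, 0, 3, 0, 3, 0, 2, 0, 2, 0, 3, 0, 2, 0, 3, 0, 3, 0, 2, 0, 2, 0, 2, 0, 3, 3, 0, 2, 0, 2, 0, 3, 0, 3, 0, 2, 0, 2, 0, 3, 0, 3, 0, 2, 0, 2, 0, 3, 0, 2, 0, 3, 0, 3, 0, 2, 0, 2, 0, 2, 0, 3, 3, 0, 2, 0, 2, 0, 3, 0, 2, 0, 3, 0, 3, 0, 2, 0, 2, 0, 2, 0, 3, 3, 0, 2, 0, 2, 0, 3, 0, 3, 0, 2, 0, 2, 0, 3, 0, 2, 0, 3, 0, 3, 0, 2, 0, 2, 0, 2, 0, 3, 3, 0, 2, 0, 2, 0, 3, 0, 3, 0, 2, 0, 2, 0, 3, 0, 3, 0, 2, 0, 2, 0, 3, 0, 2, 0, 3, 0, 3, 0, 2, 0, 2, 0, 2, 0, 3, 3, 0, 2, 0, 2, 0, 3,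 0, 3, 0, 2, 0, 2, 0, 3, 0, 3, 0, 2, 0, 2, 0, 3, 0, 2, 0, 3, 0, 3, 0, 2, 0, 2, 0, 2, 0, 3, 3, 0, 2, 0, 2, 0, 3, 0, 2, 0, 3, 0, 3, 0, 2, 0, 2, 0, 2, 0, 3, 3, 0, 2, 0, 2, 0, 3, 0, 3, 0, 2, 0, 2, 0, 3, 0, 2, 0, 3, 0, 3, 0, 2, 0, 2, 0, 2, 0, 3, 3, 0, 2, 0, 2, 0, 3, 0, 2, 0, 3, 0, 3, 0, 3, 0, 2, 0, 2, 0, 3, 3, 0, 2, 0, 2, 0, 3, 0, 3, 0, 2, 0, 2, 0, 3, 0, 2, 0, 3, 0, 3, 0, 2, 0, 2, 0, 2, 0, 3, 3, 0, 2, 0, 2, 0, 3, 0], [0, 2, 0, 3, 0, 3, 0, 2, 2, 0, 3, 0, 3, 0, 3, 0, 2, 0, 2, 0, 3, 0, 2, 0, 3, 0, 3, 0, 2, 0, 2, 0, 3, 0, 3, 0, 2, 2, 0, 3, 0, 3, 0, 3, 0, 2, 0, 2, 0, 3, 0, 2, 0, 3, 0, 3, 0, 2, 2, 0, 3, 0, 3, 0, 3, 0, 2, 0, 2, 0, 3, 0, 2, 0, 3, 0, 3, 0, 2,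 0, 2, 0, 3, 0, 3, 0, 2, 2, 0, 3, 0, 3, 0, 3, 0, 2, 0, 2, 0, 3, 0, 2, 0, 3, 0, 3, 0, 2, 2, 0, 3, 0, 3, 0, 3, 0, 2, 0, 2, 0, 3, 0, 2, 0, 3, 0, 3, 0, 2, 0, 2, 0, 3, 0, 3, 0, 2, 0, 2, 0, 3, 0, 3, 0, 2, 2, 0, 3, 0, 3, 0, 3, 0, 2, 0, 2, 0, 3, 0, 2, 0, 3, 0, 3, 0, 2, 0, 2, 0, 3, 0, 3, 0, 2, 2, 0, 3, 0, 3, 0, 2, 0, 2, 0, 2, 0, 3, 3, 0, 2, 0, 2, 0, 3, 0, 3, 0, 2, 0, 2, 0, 3, 0, 2, 0, 3, 0, 3, 0, 2, 0, 2, 0, 2, 0, 3, 3, 0, 2, 0, 2, 0, 3, 0, 3, 0, 2, 0, 2, 0, 3, 0, 3, 0, 2, 0, 2, 0, 3, 0, 2, 0, 3, 0, 3, 0, 2, 0, 2, 0, 2, 0, 3, 3, 0, 2, 0, 2, 0, 3, 0, 2, 0, 3, 0, 3, 0, 2, 0, 2, 0, 2, 0, 3, 3, 0, 2, 0, 2, 0, 3, 0, 3, 0, 2, 0, 2, 0, 3, 0, 2, 0, 3, 0, 3, 0, 2,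 0, 2, 0, 2, 0, 3, 3, 0, 2, 0, 2, 0, 3, 0, 2, 0, 3, 0, 3, 0, 3, 0, 2, 0, 2, 0, 3, 3, 0, 2, 0, 2, 0, 3, 0, 3, 0, 2, 0, 2, 0, 3, 0, 2, 0, 3, 0, 3, 0, 2, 0, 2, 0, 2, 0, 3, 3, 0, 2, 0, 2, 0, 3, 0, 3, 0, 2, 0, 2, 0, 3, 0, 3, 0, 2, 0, 2, 0, 3, 0, 2, 0, 3, 0, 3, 0, 2, 0, 2, 0, 2, 0, 3, 3, 0, 2, 0, 2, 0, 3, 0, 2, 0, 3, 0, 3, 0, 2, 0, 2, 0, 2, 0, 3, 3, 0, 2, 0, 2, 0, 3, 0, 3, 0, 2, 0, 2, 0, 3, 0, 2, 0, 3, 0, 3, 0, 2, 0, 2, 0, 2, 0, 3, 3, 0, 2, 0, 2, 0, 3, 0, 3, 0, 2, 0, 2, 0, 3, 0, 3, 0, 2, 0, 2, 0, 3, 0, 2, 0, 3, 0, 3, 0, 2, 0, 2, 0, 2, 0, 3, 3, 0, 2, 0, 2, 0, 3, 0], [0, 2, 0, 3, 0, 3, 0, 2, 2, 0, 3, 0, 3, 0, 3, 0, 2, 0, 2, 0, 3, 0, 2, 0, 3, 0, 3, 0, 2,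 0, 2, 0, 3, 0, 3, 0, 2, 0, 2, 0, 3, 0, 3, 0, 2, 2, 0, 3, 0, 3, 0, 3, 0, 2, 0, 2, 0, 3, 0, 2, 0, 3, 0, 3, 0, 2, 0, 2, 0, 3, 0, 3, 0, 2, 2, 0, 3, 0, 3, 0, 3, 0, 2, 0, 2, 0, 3, 0, 2, 0, 3, 0, 3, 0, 2, 2, 0, 3, 0, 3, 0, 3, 0, 2, 0, 2, 0, 3, 0, 2, 0, 3, 0, 3, 0, 2, 0, 2, 0, 3, 0, 3, 0, 2, 0, 2, 0, 3, 0, 3, 0, 2, 2, 0, 3, 0, 3, 0, 3, 0, 2, 0, 2, 0, 3, 0, 2, 0, 3, 0, 3, 0, 2, 0, 2, 0, 3, 0, 3, 0, 2, 2, 0, 3, 0, 3, 0, 3, 0, 2, 0, 2, 0, 3, 3, 0, 2, 0, 2, 0, 3, 0, 3, 0, 2, 0, 2, 0, 3, 0, 2, 0, 3, 0, 3, 0, 2, 0, 2, 0, 2, 0, 3, 3, 0, 2, 0, 2, 0, 3, 0, 3, 0, 2, 0, 2, 0, 3, 0, 3, 0, 2, 0, 2, 0, 3, 0, 2, 0, 3, 0, 3, 0, 2, 0, 2, 0, 2, 0, 3, 3, 0, 2, 0, 2, 0, 3,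 0, 2, 0, 3, 0, 3, 0, 2, 0, 2, 0, 2, 0, 3, 3, 0, 2, 0, 2, 0, 3, 0, 3, 0, 2, 0, 2, 0, 3, 0, 2, 0, 3, 0, 3, 0, 2, 0, 2, 0, 2, 0, 3, 3, 0, 2, 0, 2, 0, 3, 0, 3, 0, 2, 0, 2, 0, 3, 0, 3, 0, 2, 0, 2, 0, 3, 0, 2, 0, 3, 0, 3, 0, 2, 0, 2, 0, 2, 0, 3, 3, 0, 2, 0, 2, 0, 3, 0, 3, 0, 2, 0, 2, 0, 3, 0, 3, 0, 2, 0, 2, 0, 3, 0, 2, 0, 3, 0, 3, 0, 2, 0, 2, 0, 2, 0, 3, 3, 0, 2, 0, 2, 0, 3, 0, 2, 0, 3, 0, 3, 0, 2, 0, 2, 0, 2, 0, 3, 3, 0, 2, 0, 2, 0, 3, 0, 3, 0, 2, 0, 2, 0, 3, 0, 2, 0, 3, 0, 3, 0, 2, 0, 2, 0, 2, 0, 3, 3, 0, 2, 0, 2, 0, 3, 0, 2, 0, 3, 0, 3, 0, 2, 0, 2, 0, 2, 0, 3, 0, 2, 0, 3, 0, 3, 0, 2, 2, 0, 3, 0, 3, 0, 3, 0, 2, 0, 2, 0, 3, 0, 2, 0, 3, 0, 3, 0, 2, 0,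 2, 0, 3, 0, 3, 0, 2, 2, 0, 3, 0, 3, 0, 3, 0, 2, 0, 2, 0, 3, 0, 2, 0, 3, 0, 3, 0, 2, 2, 0, 3, 0, 3, 0, 3, 0, 2, 0, 2, 0, 3, 0, 2, 0, 3, 0, 3, 0, 2, 0, 2, 0, 3, 0, 3, 0, 2]] (mem_gp_of_lettersIn (by decide +kernel)) [4, 3, 2, 1, 0] 5 [0, 1, 0, 0, 2, 0] 5 19 16 ch_5
    (le_card_fixer hv [[0, 2, 0, 3, 0, 3, 0, 2, 2, 0, 3, 0, 3, 0, 3, 0, 2, 0, 2, 0, 3, 0, 2, 0, 3, 0, 3, 0, 2, 0, 2, 0, 3, 0, 3, 0, 2, 2, 0, 3, 0, 3, 0, 2, 0, 2, 0, 2, 0, 3, 0, 2, 0, 3, 0, 3, 0, 2, 2, 0, 3, 0, 3, 0, 3, 0, 2, 0, 2, 0, 3, 0, 2, 0, 3, 0, 3, 0, 2, 0, 2, 0, 3, 0, 3, 0, 2, 2, 0, 3, 0, 3, 0, 3, 0, 2, 0, 2, 0, 3, 0, 2, 0, 3, 0, 3, 0, 2, 2, 0, 3, 0, 3, 0, 3, 0, 2, 0, 2, 0, 3, 0,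 2, 0, 3, 0, 3, 0, 2, 0, 2, 0, 3, 0, 3, 0, 2, 0, 2, 0, 3, 0, 3, 0, 2, 2, 0, 3, 0, 3, 0, 3, 0, 2, 0, 2, 0, 3, 0, 2, 0, 3, 0, 3, 0, 2, 0, 2, 0, 3, 0, 3, 0, 2, 0, 2, 0, 3, 0, 3, 0, 2, 2, 0, 3, 0, 3, 0, 3, 0, 2, 0, 2, 0, 3, 0, 2, 0, 3, 0, 3, 0, 2, 0, 2, 0, 3, 0, 3, 0, 2, 2, 0, 3, 0, 3, 0, 3, 0, 2, 0, 2, 0, 3, 0, 2, 0, 3, 0, 3, 0, 2, 2, 0, 3, 0, 3, 0, 3, 0, 2, 0, 2, 0, 3, 0, 2, 0, 3, 0, 3, 0, 2, 0, 2, 0, 3, 0, 3, 0, 2, 0, 2, 0, 3, 0, 3, 0, 2, 2, 0, 3, 0, 3, 0, 3, 0, 2, 0, 2, 0, 3, 0, 2, 0, 3, 0, 3, 0, 2, 0, 2, 0, 3, 0, 3, 0, 2, 2, 0, 3, 0, 3, 0, 2, 0, 2, 0, 2, 0, 3, 0, 2, 0, 3, 0, 3, 0, 2, 2, 0, 3, 0, 3, 0, 3, 0, 2, 0, 2, 0, 3, 0, 2, 0, 3, 0, 3, 0, 2,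 0, 2, 0, 3, 0, 3, 0, 2, 2, 0, 3, 0, 3, 0, 3, 0, 2, 0, 2, 0, 3, 0, 2, 0, 3, 0, 3, 0, 2, 2, 0, 3, 0, 3, 0, 3, 0, 2, 0, 2, 0, 3, 0, 2, 0, 3, 0, 3, 0, 2, 0, 2, 0, 3, 0, 3, 0, 2, 0, 2, 0, 3, 0, 3, 0, 2, 2, 0, 3, 0, 3, 0, 3, 0, 2, 0, 2, 0, 3, 0, 2, 0, 3, 0, 3, 0, 2, 0, 2, 0, 3, 0, 3, 0, 2, 2, 0, 3, 0, 3, 0, 3, 0, 2, 0, 2, 0, 3, 3, 0, 2, 0, 2, 0, 3, 0, 3, 0, 2, 0, 2, 0, 3, 0, 2, 0, 3, 0, 3, 0, 2, 0, 2, 0, 2, 0, 3, 3, 0, 2, 0, 2, 0, 3, 0, 3, 0, 2, 0, 2, 0, 3, 0, 3, 0, 2, 0, 2, 0, 3, 0, 2, 0, 3, 0, 3, 0, 2, 0, 2, 0, 2, 0, 3, 3, 0, 2, 0, 2, 0, 3, 0, 2, 0, 3, 0, 3, 0, 2, 0, 2, 0, 2, 0, 3, 3, 0, 2, 0, 2, 0, 3, 0, 3, 0, 2, 0, 2, 0, 3, 0, 2, 0, 3, 0, 3, 0, 2,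 0, 2, 0, 2, 0, 3, 3, 0, 2, 0, 2, 0, 3, 0, 3, 0, 2, 0, 2, 0, 3, 0, 3, 0, 2, 0, 2, 0, 3, 0, 2, 0, 3, 0, 3, 0, 2, 0, 2, 0, 2, 0, 3, 3, 0, 2, 0, 2, 0, 3, 0, 3, 0, 2, 0, 2, 0, 3, 0, 3, 0, 2, 0, 2, 0, 3, 0, 2, 0, 3, 0, 3, 0, 2, 0, 2, 0, 2, 0, 3, 3, 0, 2, 0, 2, 0, 3, 0, 2, 0, 3, 0, 3, 0, 2, 0, 2, 0, 2, 0, 3, 3, 0, 2, 0, 2, 0, 3, 0, 3, 0, 2, 0, 2, 0, 3, 0, 2, 0, 3, 0, 3, 0, 2, 0, 2, 0, 2, 0, 3, 3, 0, 2, 0, 2, 0, 3, 0, 2, 0, 3, 0, 3, 0, 2, 0, 2, 0, 2, 0, 3, 0, 2, 0, 3, 0, 3, 0, 2, 2, 0, 3, 0, 3, 0, 3, 0, 2, 0, 2, 0, 3, 0, 2, 0, 3, 0, 3, 0, 2, 0, 2, 0, 3, 0, 3, 0, 2, 2, 0, 3, 0, 3, 0, 3, 0, 2, 0, 2, 0, 3, 0, 2, 0, 3, 0, 3, 0, 2, 2, 0, 3, 0, 3, 0, 3, 0, 2,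 0, 2, 0, 3, 0, 2, 0, 3, 0, 3, 0, 2, 0, 2, 0, 3, 0, 3, 0, 2]] (mem_gp_of_lettersIn (by decide +kernel)) [5, 4, 3, 2, 1, 0] 6 [0, 0] 6 16 3 ch_6
    (one_le_card_fixer _))))))))

/-- The auxiliary elements as words in the generators. -/
def FW : List (List ℕ) := [[0], [2], [0, 3, 0, 2, 0, 2, 0, 3, 0, 3, 0, 3, 0, 2, 0, 2, 0, 3, 0, 3, 0, 2, 0, 3, 0, 2, 0, 2, 0, 3, 0, 2, 0, 2, 0, 2, 0, 2, 0, 3, 0, 3, 0, 3, 0, 2, 0, 2, 0, 2, 0, 3, 0, 3, 0], [3, 0, 2, 0, 3, 0, 3, 0, 2, 0, 3, 0, 2, 0, 2, 0, 2, 0, 3, 0, 2, 0, 3, 0, 3, 0, 3, 0, 3, 0, 3, 0, 3, 0, 2, 0, 3, 0, 3, 0, 2, 0, 2, 0, 3], [2, 0, 3, 0, 3, 0, 3, 0, 3, 0, 3, 0, 2, 0, 2, 0, 3, 0, 3, 0, 2, 0, 3, 0, 3,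 0, 2, 0, 2, 0, 2, 0, 2, 0, 2, 0, 3, 0, 2, 0, 2, 0, 2, 0, 2, 0, 2, 0, 3, 0, 2, 0, 2], [0, 2, 0, 3, 0, 3, 0, 3, 0, 2, 0, 3, 0, 2, 0, 2, 0, 2, 0, 3, 0, 3, 0, 2, 0, 3, 0, 3, 0, 3, 0, 2, 0, 3, 0, 2, 0, 2, 0, 2, 0, 3, 0, 3], [0, 3, 0, 3, 0, 3, 0, 3, 0, 2, 0, 3, 0, 2, 0, 3, 0, 3, 0, 3, 0, 2, 0, 3, 0, 3, 0, 3, 0, 3, 0, 3, 0, 3, 0, 2, 0, 2, 0, 3, 0, 2, 0, 2, 0, 2, 0, 2, 0, 2, 0, 3], [2, 1, 2, 1, 3, 1, 3, 1, 3, 1, 3, 4, 2, 0, 2, 0, 2, 0, 2, 0, 3, 0, 2, 1, 2, 1, 3, 1, 3, 1, 3, 1, 3, 4, 2, 0, 2, 0, 2, 0, 2, 0, 3, 0, 2, 1, 2, 1, 3, 1, 3, 1, 3, 1, 3, 4, 2, 0, 2, 0, 2, 0, 2, 0, 3, 0], [4], [2, 0, 2, 0, 3, 0, 3, 0, 2, 0, 2, 0, 2, 0, 3, 0, 3, 0, 3, 0, 2, 0, 2,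 0, 3, 0, 3, 0, 3, 0, 3, 0, 3, 0, 2, 0, 2, 0, 3, 0, 3, 0, 2, 0, 2, 0, 3, 0, 3, 0, 2, 0, 2, 0, 2, 0, 3, 0, 3, 0, 3, 0, 2, 0, 2, 0, 3, 0, 3, 0, 2, 0, 2, 0, 3, 0, 3, 0, 2, 0, 2, 0, 2, 2, 0, 2, 0, 3, 0, 3, 0, 2, 0, 2, 0, 2, 0, 2, 0, 2, 0, 3, 0, 3, 0, 2, 0, 2, 0, 2, 0, 2, 0, 2, 0, 3, 0, 3, 0, 2, 0, 2, 0, 2, 2, 0, 2, 0, 3, 0, 3, 0, 2, 0, 2, 0, 2], [2, 0, 2, 0, 3, 0, 3, 0, 2, 0, 2, 0, 2, 0, 2, 0, 2, 0, 3, 0, 3, 0, 2, 0, 2, 0, 2, 0, 3, 0, 3, 0, 3, 0, 2, 0, 2, 0, 3, 0, 3, 0, 3, 0, 3, 0, 3, 0, 2, 0, 2, 0, 3, 0, 3, 0, 3, 0, 3, 0, 3, 0, 2, 0, 2, 0, 3, 0, 3, 0, 2, 0, 2, 0, 3, 0, 3, 0, 2, 0, 2, 0, 2, 2, 0, 2, 0, 3, 0, 3, 0, 2, 0, 2, 0, 2, 0, 2, 0, 2, 0, 3, 0,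 3, 0, 2, 0, 2, 0, 2, 2, 0, 2, 0, 3, 0, 3, 0, 2, 0, 2, 0, 2, 0, 3, 0, 3, 0, 3, 0, 2, 0, 2, 0, 3, 0, 3], [2, 0, 2, 0, 3, 0, 3, 0, 2, 0, 2, 0, 2, 0, 2, 0, 2, 0, 3, 0, 3, 0, 2, 0, 2, 0, 2, 2, 0, 2, 0, 3, 0, 3, 0, 2, 0, 2, 0, 2, 0, 2, 0, 2, 0, 3, 0, 3, 0, 2, 0, 2, 0, 2, 0, 2, 0, 2, 0, 3, 0, 3, 0, 2, 0, 2, 0, 2, 2, 0, 2, 0, 3, 0, 3, 0, 2, 0, 2, 0, 2, 0, 3, 0, 3, 0, 3, 0, 2, 0, 2, 0, 3, 0, 3, 0, 3, 0, 3, 0, 3, 0, 2, 0, 2, 0, 3, 0, 3, 0, 2, 0, 2, 0, 3, 0, 3, 0, 2, 0, 2, 0, 2, 2, 0, 2, 0, 3, 0, 3, 0, 2, 0, 2, 0, 2, 0, 2, 0, 2, 0, 3, 0, 3, 0, 2, 0, 2, 0, 2], [0, 2, 0, 2, 0, 3, 0, 3, 0, 2, 0, 2, 0, 2, 0, 2, 0, 2, 0, 3, 0, 3, 0, 2, 0, 2, 0, 2, 0, 3, 0, 3,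 0, 3, 0, 2, 0, 2, 0, 3, 0, 3, 0, 2, 0, 2, 0, 3, 0, 3, 0, 2, 0, 2, 0, 2, 0, 2, 0, 2, 0, 3, 0, 3, 0, 2, 0, 2, 0, 2, 0, 3, 0, 3, 0, 3, 0, 2, 0, 2, 0, 3, 0, 3, 0, 2, 0, 2, 0, 3, 0, 3, 0, 2, 0, 2, 0, 2, 0, 2, 0, 2, 0, 3, 0, 3, 0, 2, 0, 2, 0, 2, 0, 3, 0, 3, 0, 3, 0, 2, 0, 2, 0, 3, 0, 3], [2, 0, 2, 0, 3, 0, 3, 0, 2, 0, 2, 0, 2], [0, 2, 0, 3, 0, 3, 0, 3, 0, 3, 0, 3, 0, 2, 0, 2, 0, 3, 0, 3, 0, 2, 0, 3, 0, 3, 0, 2, 0, 2, 0, 2, 0, 2, 0, 2, 0, 3, 0, 2, 0, 2, 0, 2, 0, 2, 0, 2, 0, 3, 0, 2, 0, 2, 0, 3, 0, 2, 0, 2, 0, 3, 0, 3, 0, 3, 0, 2, 0, 2, 0, 3, 0, 3, 0, 2, 0, 3, 0, 2, 0, 2, 0, 3, 0, 2, 0, 2, 0, 2, 0, 2, 0, 3, 0, 3, 0, 3, 0, 2, 0, 2, 0, 2, 0, 3, 0, 3, 0,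 2, 1, 3, 1, 3, 1, 3, 1, 3, 1, 3, 1, 2, 1, 3, 1, 3, 1, 2, 1, 2, 1, 2, 1, 2, 1, 2, 1, 2, 1, 3, 1, 2, 1, 2, 1, 2, 1, 3, 1, 2, 1, 3, 1, 2, 1, 2, 1, 2, 1, 2, 1, 4, 0, 3, 0, 3, 0, 3, 0, 3, 0, 2, 0, 3, 0, 2, 0, 3, 0, 3, 0, 3, 0, 2, 0, 3, 0, 3, 0, 3, 0, 3, 0, 3, 0, 3, 0, 2, 0, 2, 0, 3, 0, 2, 0, 2, 0, 2, 0, 2, 0, 2, 0, 3, 1, 2, 1, 2, 1, 3, 1, 3, 1, 3, 1, 2, 1, 2, 1, 2, 1, 3, 1, 3, 1, 3, 1, 3, 1, 2, 1, 3, 1, 3, 1, 2, 1, 3, 1, 2, 1, 2, 1, 3, 1, 3, 1, 2, 1, 2, 1, 2, 1, 3, 1, 3, 1, 2, 1, 3, 1, 3, 1, 2, 1, 3, 1, 3, 1, 3, 1, 3, 1, 3, 1, 2, 1, 3, 1, 3, 1, 3, 1, 3, 1, 3, 1, 2, 1, 2, 1, 3, 1, 2, 1, 2, 1, 3, 1, 3, 1, 2, 1, 2, 1, 2, 1, 2, 1, 2, 1, 3, 1], [0, 3, 0,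 2, 0, 2, 0, 3, 0, 3, 0, 3, 0, 2, 0, 2, 0, 3, 0, 3, 0, 2, 0, 3, 0, 2, 0, 2, 0, 3, 0, 2, 0, 2, 0, 2, 0, 2, 0, 3, 0, 3, 0, 3, 0, 2, 0, 2, 0, 2, 0, 3, 0, 3, 0, 2, 1, 3, 1, 3, 1, 3, 1, 3, 1, 3, 1, 2, 1, 3, 1, 3, 1, 2, 1, 2, 1, 2, 1, 2, 1, 2, 1, 2, 1, 3, 1, 2, 1, 2, 1, 2, 1, 3, 1, 2, 1, 3, 1, 2, 1, 2, 1, 2, 1, 2, 1, 4, 0, 3, 0, 3, 0, 3, 0, 3, 0, 2, 0, 3, 0, 2, 0, 3, 0, 3, 0, 3, 0, 2, 0, 3, 0, 3, 0, 3, 0, 3, 0, 3, 0, 3, 0, 2, 0, 2, 0, 3, 0, 2, 0, 2, 0, 2, 0, 2, 0, 2, 0, 3, 1, 2, 1, 2, 1, 3, 1, 3, 1, 3, 1, 2, 1, 2, 1, 2, 1, 3, 1, 3, 1, 3, 1, 3, 1, 2, 1, 3, 1, 3, 1, 2, 1, 3, 1, 2, 1, 2, 1, 3, 1, 3, 1, 2, 1, 2, 1, 2, 1, 3, 1, 3, 1, 2, 1], [0, 3, 0, 3, 0,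 3, 0, 3, 0, 2, 0, 3, 0, 2, 0, 3, 0, 3, 0, 3, 0, 2, 0, 3, 0, 3, 0, 3, 0, 3, 0, 3, 0, 3, 0, 2, 0, 2, 0, 3, 0, 2, 0, 2, 0, 2, 0, 2, 0, 2, 0, 3, 2, 1, 2, 1, 3, 1, 3, 1, 3, 1, 3, 4, 2, 0, 2, 0, 2, 0, 2, 0, 3, 0, 2, 1, 2, 1, 3, 1, 3, 1, 3, 1, 3, 4, 2, 0, 2, 0, 2, 0, 2, 0, 3, 0, 2, 1, 2, 1, 3, 1, 3, 1, 3, 1, 3, 4, 2, 0, 2, 0, 2, 0, 2, 0, 3, 0, 2, 1, 3, 1, 3, 1, 3, 1, 3, 1, 3, 1, 2, 1, 3, 1, 3, 1, 2, 1, 2, 1, 2, 1, 2, 1, 2, 1, 2, 1, 3, 1, 2, 1, 2, 1, 2, 1, 3, 1, 2, 1, 3, 1, 2, 1, 2, 1, 2, 1, 2, 1]]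

/-- The auxiliary elements. -/
def F (i : ℕ) : Spor.J4 := wval y (FW.getD i [])

def K0 : List (List ℕ) := [[0, 0], [2, 2, 2], [0, 2, 0, 2, 0, 2, 0, 2, 0, 2, 0, 2, 0, 2, 0, 2, 0, 2, 0, 2, 0, 2, 0, 2, 0, 2, 0, 2, 0, 2, 0, 2, 0, 2, 0, 2, 0, 2, 0, 2, 0, 2, 0, 2, 0, 2], [1, 3, 0, 2, 1, 3, 0, 2, 1, 3, 0, 2, 1, 3, 0, 2, 1, 3, 0, 2, 1, 3, 0, 2, 1, 3, 0, 2, 1, 3, 0, 2, 1, 3, 0, 2, 1, 3, 0, 2, 1, 3, 0, 2, 1, 3, 0, 2], [1, 3, 1, 3, 0, 2, 0, 2, 1, 3, 1, 3, 0, 2, 0, 2, 1, 3, 1, 3, 0, 2, 0, 2, 1, 3, 1, 3, 0, 2, 0, 2, 1, 3, 1, 3, 0, 2, 0, 2], [0, 2, 0, 2, 0, 3, 0, 2, 0, 3, 0, 2, 0, 3, 0, 2, 0, 2, 0, 3, 0, 2, 0, 3, 0, 2, 0, 3, 0, 2, 0, 2, 0, 3, 0, 2, 0, 3, 0,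 2, 0, 3, 0, 2, 0, 2, 0, 3, 0, 2, 0, 3, 0, 2, 0, 3], [0, 2, 0, 2, 0, 3, 0, 2, 0, 2, 0, 3, 0, 2, 0, 2, 0, 3, 0, 2, 0, 3, 0, 3, 0, 2, 0, 3, 0, 3, 0, 2, 0, 3, 0, 3], [16, 16], [0, 16, 1, 17], [26, 16, 27, 17], [2, 1, 2, 1, 3, 1, 2, 1, 3, 16, 2, 0, 3, 0, 2, 0, 3, 0, 2, 1, 2, 1, 3, 1, 2, 1, 3, 16, 2, 0, 3, 0, 2, 0, 3, 0, 2, 1, 2, 1, 3, 1, 2, 1, 3, 16, 2, 0, 3, 0, 2, 0, 3, 0], [2, 0, 2, 0, 2, 0, 2, 2, 0, 2, 0, 2, 0, 2, 2, 0, 2, 0, 2, 0, 2, 16, 3, 3, 1, 3, 1, 3, 1, 3, 1, 3, 1, 3, 1, 3, 3, 1, 3, 1, 3, 1, 16, 0, 2, 0, 2, 0, 2, 2, 0, 2, 0, 2, 0, 2, 0, 2, 0, 2, 0, 2, 2, 2, 0, 2, 0, 2, 0, 2, 2, 0, 2, 0, 2, 0, 2, 2, 0, 2, 0, 2, 0, 2, 16, 3, 3, 1, 3, 1, 3, 1,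 3, 1, 3, 1, 3, 1, 3, 3, 1, 3, 1, 3, 1, 16, 0, 2, 0, 2, 0, 2, 2, 0, 2, 0, 2, 0, 2, 0, 2, 0, 2, 0, 2, 2], [15, 2, 1, 2, 1, 3, 1, 3, 1, 3, 1, 3, 16, 2, 0, 2, 0, 2, 0, 2, 0, 3, 0, 2, 1, 2, 1, 3, 1, 3, 1, 3, 1, 3, 16, 2, 0, 2, 0, 2, 0, 2, 0, 3, 0, 2, 1, 2, 1, 3, 1, 3, 1, 3, 1, 3, 16, 2, 0, 2, 0, 2, 0, 2, 0, 3, 0], [29, 0, 8, 4, 13, 16, 12, 5, 9, 1], [31, 4, 13, 16, 12, 5], [33, 12, 14, 13]]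

def RM : List (List ℕ) := [[1, 0], [3, 2], [5, 0, 3, 0, 2, 0, 2, 0, 3, 0, 3, 0, 3, 0, 2, 0, 2, 0, 3, 0, 3, 0, 2, 0, 3, 0, 2, 0, 2, 0, 3, 0, 2, 0, 2, 0, 2, 0, 2, 0, 3, 0, 3, 0, 3, 0, 2, 0, 2, 0, 2, 0, 3, 0, 3, 0], [7, 3, 0, 2, 0, 3, 0, 3, 0, 2, 0, 3, 0, 2, 0, 2, 0, 2, 0, 3, 0, 2, 0, 3, 0, 3, 0, 3, 0, 3, 0, 3, 0, 3, 0, 2, 0, 3, 0, 3, 0, 2, 0, 2, 0, 3], [9, 2, 0, 3, 0, 3, 0, 3, 0, 3, 0, 3, 0, 2, 0, 2, 0, 3, 0, 3, 0, 2, 0, 3, 0, 3, 0, 2, 0, 2, 0, 2, 0, 2, 0, 2, 0, 3, 0, 2, 0, 2, 0, 2, 0, 2, 0, 2, 0, 3, 0, 2, 0, 2], [11, 0, 2, 0, 3, 0, 3, 0, 3, 0, 2, 0, 3, 0, 2, 0, 2, 0, 2, 0, 3, 0, 3, 0, 2, 0, 3, 0, 3, 0, 3, 0, 2, 0, 3, 0, 2, 0, 2, 0, 2, 0, 3, 0,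 3], [13, 0, 3, 0, 3, 0, 3, 0, 3, 0, 2, 0, 3, 0, 2, 0, 3, 0, 3, 0, 3, 0, 2, 0, 3, 0, 3, 0, 3, 0, 3, 0, 3, 0, 3, 0, 2, 0, 2, 0, 3, 0, 2, 0, 2, 0, 2, 0, 2, 0, 2, 0, 3], [19, 2, 0, 2, 0, 3, 0, 3, 0, 2, 0, 2, 0, 2, 0, 3, 0, 3, 0, 3, 0, 2, 0, 2, 0, 3, 0, 3, 0, 3, 0, 3, 0, 3, 0, 2, 0, 2, 0, 3, 0, 3, 0, 2, 0, 2, 0, 3, 0, 3, 0, 2, 0, 2, 0, 2, 0, 3, 0, 3, 0, 3, 0, 2, 0, 2, 0, 3, 0, 3, 0, 2, 0, 2, 0, 3, 0, 3, 0, 2, 0, 2, 0, 2, 2, 0, 2, 0, 3, 0, 3, 0, 2, 0, 2, 0, 2, 0, 2, 0, 2, 0, 3, 0, 3, 0, 2, 0, 2, 0, 2, 0, 2, 0, 2, 0, 3, 0, 3, 0, 2, 0, 2, 0, 2, 2, 0, 2, 0, 3, 0, 3, 0, 2, 0, 2, 0, 2], [21, 2, 0, 2, 0, 3, 0, 3, 0, 2, 0, 2, 0, 2, 0, 2, 0, 2, 0, 3, 0, 3, 0,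 2, 0, 2, 0, 2, 0, 3, 0, 3, 0, 3, 0, 2, 0, 2, 0, 3, 0, 3, 0, 3, 0, 3, 0, 3, 0, 2, 0, 2, 0, 3, 0, 3, 0, 3, 0, 3, 0, 3, 0, 2, 0, 2, 0, 3, 0, 3, 0, 2, 0, 2, 0, 3, 0, 3, 0, 2, 0, 2, 0, 2, 2, 0, 2, 0, 3, 0, 3, 0, 2, 0, 2, 0, 2, 0, 2, 0, 2, 0, 3, 0, 3, 0, 2, 0, 2, 0, 2, 2, 0, 2, 0, 3, 0, 3, 0, 2, 0, 2, 0, 2, 0, 3, 0, 3, 0, 3, 0, 2, 0, 2, 0, 3, 0, 3], [23, 2, 0, 2, 0, 3, 0, 3, 0, 2, 0, 2, 0, 2, 0, 2, 0, 2, 0, 3, 0, 3, 0, 2, 0, 2, 0, 2, 2, 0, 2, 0, 3, 0, 3, 0, 2, 0, 2, 0, 2, 0, 2, 0, 2, 0, 3, 0, 3, 0, 2, 0, 2, 0, 2, 0, 2, 0, 2, 0, 3, 0, 3, 0, 2, 0, 2, 0, 2, 2, 0, 2, 0, 3, 0, 3, 0, 2, 0, 2, 0, 2, 0, 3, 0, 3, 0, 3, 0, 2, 0, 2, 0, 3, 0, 3, 0, 3, 0, 3, 0, 3,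 0, 2, 0, 2, 0, 3, 0, 3, 0, 2, 0, 2, 0, 3, 0, 3, 0, 2, 0, 2, 0, 2, 2, 0, 2, 0, 3, 0, 3, 0, 2, 0, 2, 0, 2, 0, 2, 0, 2, 0, 3, 0, 3, 0, 2, 0, 2, 0, 2], [25, 0, 2, 0, 2, 0, 3, 0, 3, 0, 2, 0, 2, 0, 2, 0, 2, 0, 2, 0, 3, 0, 3, 0, 2, 0, 2, 0, 2, 0, 3, 0, 3, 0, 3, 0, 2, 0, 2, 0, 3, 0, 3, 0, 2, 0, 2, 0, 3, 0, 3, 0, 2, 0, 2, 0, 2, 0, 2, 0, 2, 0, 3, 0, 3, 0, 2, 0, 2, 0, 2, 0, 3, 0, 3, 0, 3, 0, 2, 0, 2, 0, 3, 0, 3, 0, 2, 0, 2, 0, 3, 0, 3, 0, 2, 0, 2, 0, 2, 0, 2, 0, 2, 0, 3, 0, 3, 0, 2, 0, 2, 0, 2, 0, 3, 0, 3, 0, 3, 0, 2, 0, 2, 0, 3, 0, 3], [27, 2, 0, 2, 0, 3, 0, 3, 0, 2, 0, 2, 0, 2], [10, 10], [4, 4, 4], [6, 6, 6], [8, 8, 8, 8], [4, 6, 8, 4, 6, 8], [4, 8, 10,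 9, 5, 10], [4, 4, 7, 9, 6, 9, 9, 4, 9], [4, 6, 10, 8, 4, 10, 6, 8, 10], [4, 6, 9, 5, 8, 7, 8, 4, 9], [4, 7, 8, 6, 5, 8, 8, 4, 9], [6, 6, 8, 7, 8, 7, 8, 7, 8], [4, 4, 8, 8, 7, 8, 6, 4, 8], [6, 10, 7, 9, 9, 9, 10, 9, 10], [24, 24], [22, 22, 22], [18, 18, 18, 18], [20, 20, 20, 20], [18, 20, 19, 23, 20], [18, 20, 19, 22, 22, 20], [20, 20, 24, 20, 20, 24], [20, 20, 24, 21, 21, 24], [22, 24, 22, 24, 22, 24], [18, 24, 19, 21, 24, 18, 24, 19, 24, 20], [18, 20, 23, 18, 20, 23, 21, 22, 18, 23], [18, 18, 18, 20, 18, 22, 19, 20, 18, 22], [18, 21, 23, 24, 22, 19, 24, 21, 22, 24], [18, 20, 22, 18, 23, 18, 23, 20, 20, 22], [18, 21, 21, 22, 18, 23, 18, 22, 22,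 21], [18, 20, 18, 21, 23, 20, 23, 18, 22, 22], [18, 18, 18, 20, 18, 24, 19, 21, 18, 24], [12, 12, 12], [4, 6, 13, 7, 10, 6, 10, 12, 7, 5, 10], [4, 8, 4, 10, 8, 4, 8, 10, 4, 10, 8], [4, 8, 4, 13, 10, 8, 10, 9, 10, 12, 8], [4, 4, 9, 7, 8, 8, 6, 8, 4, 9, 9], [4, 6, 5, 8, 7, 5, 8, 4, 7, 8, 8], [4, 4, 10, 4, 13, 5, 9, 5, 10, 9, 12], [4, 7, 4, 7, 9, 7, 9, 7, 8, 6, 9], [6, 6, 8, 7, 8, 12, 7, 8, 7, 8, 13], [4, 4, 9, 5, 9, 9, 7, 9, 7, 4, 7], [4, 4, 8, 8, 5, 6, 5, 7, 4, 9, 9], [4, 7, 12, 5, 9, 12, 5, 9, 12, 7, 8], [4, 6, 5, 7, 7, 8, 8, 6, 4, 9, 9], [4, 4, 6, 9, 7, 4, 9, 6, 8, 6, 8], [4, 8, 5, 9, 9, 10, 7, 10, 8, 10, 6], [4, 12, 6, 8, 7, 13, 5, 6, 13, 10,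 7], [4, 7, 8, 6, 9, 6, 5, 6, 9, 6, 8], [4, 6, 9, 6, 8, 6, 5, 9, 5, 6, 9], [4, 7, 8, 4, 8, 4, 9, 6, 6, 9, 7], [19, 26, 0, 27, 0, 27, 0, 26, 0, 27, 0, 26, 26, 0, 26, 0, 26, 26], [21, 26, 0, 26, 0, 27, 0, 27, 0, 27, 0, 26, 26, 0, 26, 26, 0, 27], [23, 26, 0, 26, 26, 0, 26, 0, 26, 26, 0, 27, 0, 27, 0, 26, 26, 0, 26], [25, 0, 26, 0, 26, 0, 27, 0, 26, 0, 26, 0, 27, 0, 26, 0, 26, 0, 27], [12, 5, 9, 1, 10, 0, 8, 4, 13, 18, 24, 21, 18, 21, 22], [12, 5, 9, 1, 11, 0, 8, 4, 13, 23, 20, 19, 20, 25, 19], [12, 5, 9, 1, 8, 4, 0, 8, 4, 13, 19, 24, 23, 18, 22, 21, 24], [12, 5, 9, 1, 5, 9, 0, 8, 4, 13, 25, 20, 23, 19, 22, 25, 18], [12, 5, 9, 1, 4, 8, 5, 0, 8, 4, 13,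 18, 18, 24, 20, 23, 19, 20], [12, 5, 9, 1, 4, 9, 5, 0, 8, 4, 13, 21, 18, 22, 21, 25, 19, 19], [12, 5, 9, 1, 4, 6, 8, 0, 8, 4, 13, 18, 22, 19, 24, 20, 23, 18, 22], [12, 5, 9, 1, 9, 7, 5, 0, 8, 4, 13, 23, 19, 22, 21, 25, 18, 23, 19], [12, 5, 9, 1, 8, 6, 8, 6, 0, 8, 4, 13, 22, 21, 18, 20, 2, 0, 3, 0, 2, 0, 3, 0, 2, 1, 2, 1, 3, 1, 2, 1, 3, 21, 19, 20, 23], [12, 5, 18, 24, 19, 4, 13, 21, 24, 23, 19, 24, 21, 19, 22], [12, 5, 18, 25, 19, 4, 13, 23, 18, 20, 25, 18, 22, 25, 20], [12, 5, 21, 24, 20, 4, 13, 19, 24, 21, 18, 20, 20, 23], [12, 5, 21, 25, 20, 4, 13, 22, 21, 21, 19, 20, 25, 18], [12, 5, 18, 23, 18, 20, 4, 13, 23, 24, 21, 19, 24, 20, 18], [12,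 5, 21, 19, 22, 19, 4, 13, 19, 21, 25, 18, 20, 25, 22], [12, 5, 21, 22, 20, 22, 4, 13, 20, 24, 18, 20, 18, 21, 22], [12, 5, 23, 21, 23, 20, 4, 13, 23, 20, 19, 21, 19, 25, 21], [12, 5, 19, 22, 21, 4, 13, 22, 21, 18, 23, 2, 0, 3, 0, 2, 0, 3, 0, 2, 1, 2, 1, 3, 1, 2, 1, 3, 22, 19, 20, 23], [12, 5, 21, 4, 13, 19, 19, 25, 21, 19, 20, 3, 3, 1, 3, 1, 3, 1, 3, 1, 3, 1, 3, 1, 3, 3, 1, 3, 1, 3, 1, 22, 21, 24, 18], [12, 5, 23, 19, 21, 19, 25, 21, 23, 20, 4, 13, 19, 25, 20, 23, 0, 2, 0, 2, 0, 2, 2, 0, 2, 0, 2, 0, 2, 0, 2, 0, 2, 0, 2, 2, 2, 0, 2, 0, 2, 0, 2, 2, 0, 2, 0, 2, 0, 2, 2, 0, 2, 0, 2, 0, 2, 24, 23, 19, 24, 19, 23, 18], [12, 5, 21, 4, 13, 19, 22, 18,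 25, 18, 22, 25, 3, 3, 1, 3, 1, 3, 1, 3, 1, 3, 1, 3, 1, 3, 3, 1, 3, 1, 3, 1, 22, 21, 18, 23, 24, 22], [12, 5, 23, 19, 21, 19, 25, 21, 23, 20, 4, 13, 23, 25, 22, 19, 20, 23, 0, 2, 0, 2, 0, 2, 2, 0, 2, 0, 2, 0, 2, 0, 2, 0, 2, 0, 2, 2, 2, 0, 2, 0, 2, 0, 2, 2, 0, 2, 0, 2, 0, 2, 2, 0, 2, 0, 2, 0, 2, 21, 18, 20, 24, 18, 18], [12, 5, 9, 1, 7, 9, 2, 1, 2, 1, 3, 1, 3, 1, 3, 1, 3, 18, 24, 20, 19, 20, 20, 19], [12, 5, 9, 1, 6, 8, 6, 0, 8, 4, 13, 18, 21, 21, 18, 21, 25, 19, 2, 0, 2, 0, 2, 0, 2, 0, 3, 0, 2, 1, 2, 1, 3, 1, 3, 1, 3, 1, 3, 19, 24, 18, 24, 22, 21, 19], [12, 5, 9, 1, 4, 7, 7, 0, 8, 4, 13, 18, 20, 23, 25, 19, 25, 18, 2, 0, 2, 0, 2, 0, 2, 0, 3, 0,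 2, 1, 2, 1, 3, 1, 3, 1, 3, 1, 3, 18, 18, 22, 24, 19, 20], [6, 5, 0, 8, 4, 13, 21, 18, 25, 23, 19, 19, 2, 0, 2, 0, 2, 0, 2, 0, 3, 0], [12, 5, 19, 23, 21, 9, 2, 0, 12, 9, 7, 11, 9, 6, 2, 1, 2, 1, 3, 1, 3, 1, 3, 1, 3, 23, 20, 20, 24], [12, 5, 19, 22, 18, 4, 13, 25, 21, 21, 22, 2, 0, 2, 0, 2, 0, 2, 0, 3, 0, 2, 1, 2, 1, 3, 1, 3, 1, 3, 1, 3, 22, 18, 24, 22, 21, 23, 21], [12, 5, 19, 25, 19, 20, 18, 4, 13, 20, 22, 20, 23, 25, 19, 23, 2, 0, 2, 0, 2, 0, 2, 0, 3, 0, 2, 1, 2, 1, 3, 1, 3, 1, 3, 1, 3, 19, 24, 21, 23, 20, 23], [13, 1, 3, 8, 18, 24, 18, 4, 13, 22, 21, 22, 20, 25, 18, 2, 0, 2, 0, 2, 0, 2, 0, 3, 0, 7, 8, 10, 6, 8], [12, 5, 19, 22, 6, 12, 2, 12,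 11, 8, 4, 11, 9, 2, 1, 2, 1, 3, 1, 3, 1, 3, 1, 3, 21, 18, 18, 22, 24, 18], [12, 5, 19, 23, 25, 23, 18, 4, 13, 19, 25, 23, 19, 19, 20, 2, 0, 2, 0, 2, 0, 2, 0, 3, 0, 2, 1, 2, 1, 3, 1, 3, 1, 3, 1, 3, 22, 19, 22, 19, 24, 23], [12, 5, 19, 24, 22, 18, 4, 13, 22, 25, 18, 23, 18, 23, 2, 0, 2, 0, 2, 0, 2, 0, 3, 0, 2, 1, 2, 1, 3, 1, 3, 1, 3, 1, 3, 21, 22, 24, 19, 20, 22, 24], [13, 3, 13, 7, 18, 4, 13, 25, 23, 21, 18, 25, 23, 20, 2, 0, 2, 0, 2, 0, 2, 0, 3, 0, 8, 10, 5, 9, 10], [12, 5, 23, 2, 0, 9, 0, 5, 6, 4, 6, 2, 1, 2, 1, 3, 1, 3, 1, 3, 1, 3, 24, 21, 22, 20, 23, 24, 22], [12, 5, 22, 19, 22, 25, 22, 4, 13, 23, 25, 22, 21, 23, 20, 25, 2, 0, 2, 0, 2, 0, 2,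 0, 3, 0, 2, 1, 2, 1, 3, 1, 3, 1, 3, 1, 3, 18, 21, 24, 23], [12, 5, 21, 24, 23, 18, 23, 4, 13, 22, 25, 20, 19, 2, 0, 2, 0, 2, 0, 2, 0, 3, 0, 2, 1, 2, 1, 3, 1, 3, 1, 3, 1, 3, 19, 24, 20, 23, 19, 21], [1, 8, 1, 3, 20, 4, 13, 20, 18, 22, 21, 25, 18, 2, 0, 2, 0, 2, 0, 2, 0, 3, 0, 7, 5, 7, 4], [11, 11], [13, 4, 10, 5, 12, 4, 6, 8], [13, 4, 11, 5, 12, 9, 7, 5], [13, 9, 4, 8, 12, 4, 6, 5, 7, 9, 10, 8, 5, 10], [13, 9, 5, 8, 12, 11, 4, 9, 11, 8, 6, 4, 7, 5], [13, 4, 6, 8, 12, 4, 10, 6, 8], [13, 9, 7, 5, 12, 9, 7, 11, 5], [13, 7, 8, 6, 5, 12, 4, 10, 7, 9, 6], [13, 4, 7, 9, 6, 12, 7, 8, 6, 11, 5], [12, 5, 8, 7, 13, 1, 3, 8, 6, 12, 2, 12, 5, 6, 4, 6, 10, 5,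 10], [13, 11, 11, 4, 11, 7, 5, 7, 4, 13, 3, 13, 7, 2, 0, 9, 0, 8, 8, 10, 8, 10, 7, 10, 9], [13, 10, 12, 8, 11, 6, 11, 9, 11, 9, 9, 1, 8, 1, 3, 9, 2, 0, 12, 6, 9, 4], [13, 5, 9, 12, 5, 7, 4, 11, 13, 1, 3, 8, 6, 12, 2, 12, 8, 4, 10, 4, 7, 5], [13, 4, 9, 11, 4, 4, 12, 4, 6, 5, 11, 5, 9, 13, 3, 13, 7, 2, 0, 9, 0, 9, 4, 6, 9, 10, 6, 5], [13, 8, 5, 10, 8, 5, 12, 4, 7, 11, 8, 7, 5, 8, 1, 8, 1, 3, 9, 2, 0, 12, 10, 5, 6, 4], [13, 5, 8, 7, 1, 3, 8, 6, 12, 2, 12, 4, 6, 8, 10, 8, 6, 9, 6], [13, 11, 5, 6, 6, 9, 4, 12, 7, 8, 7, 9, 11, 9, 7, 5, 13, 3, 13, 7, 2, 0, 9, 0, 10, 7, 4, 7, 10, 8, 4], [13, 7, 4, 10, 12, 5, 9, 11, 6, 5, 6, 11, 1, 8, 1, 3, 9, 2, 0, 12],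 [13, 7, 5, 6, 11, 5, 13, 1, 3, 8, 6, 12, 2, 12, 5, 8, 10, 5, 8, 10], [13, 11, 9, 4, 11, 9, 4, 13, 3, 13, 7, 2, 0, 9, 0, 8, 6, 4, 10, 7, 5, 6], [13, 7, 4, 6, 11, 5, 7, 9, 1, 8, 1, 3, 9, 2, 0, 12, 4, 10, 7, 4, 6], [3, 0, 4, 12, 5, 6, 0, 13, 7, 19], [6, 12, 1, 7, 4, 13, 5, 1, 2, 18], [2, 7, 0, 6, 4, 10, 2, 4, 21], [5, 3, 11, 5, 7, 1, 6, 3, 20], [3, 8, 8, 13, 7, 2, 0, 13, 5, 23], [4, 12, 1, 3, 6, 12, 9, 9, 2, 22], [3, 9, 6, 0, 9, 2, 12, 8, 4, 24], [5, 9, 13, 3, 8, 1, 7, 8, 2, 25], [4, 0, 7, 11, 7, 13, 3, 13, 7, 4, 13, 24, 20, 23, 20, 24], [0, 5, 25, 21, 22, 21, 25, 12, 5, 6, 12, 2, 12, 6, 10, 6], [4, 0, 2, 10, 3, 7, 11, 7, 13, 3, 13, 7, 23, 19, 25,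 18, 22, 4, 13, 24, 20, 23, 20, 24], [1, 5, 25, 21, 22, 21, 25, 12, 5, 6, 12, 2, 12, 6, 10, 6], [2, 1, 3, 1, 2, 1, 3, 1, 1, 2, 1, 3, 1, 2, 1, 3], [1, 2, 1, 2, 1, 2, 2, 1, 2, 1, 2, 1, 2, 1, 2, 1, 2, 1, 1, 3, 1, 3, 1, 3, 1, 3, 1, 3, 1, 3, 3, 1, 3, 1, 3, 1], [1, 4, 13, 6, 10, 4, 8, 5, 7, 8, 12, 5], [3, 7, 10, 4, 7, 5, 6]]

theorem hK0 : ∀ w ∈ K0, wval F w = 1 :=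
  rels_of_subst FW K0 (deriveP [] hK _ [[([], 0)],
  [([], 2)],
  [([], 4)],
  [([], 6)],
  [([], 8)],
  [([], 10)],
  [([], 12)],
  [([], 14)],
  [([4, 0], 19)],
  [([4, 2, 0, 2, 0, 3, 0, 3, 0, 2, 0, 2, 0, 2], 17)],
  [([], 20)],
  [([], 22)],
  [],
  [],
  [],
  []] (by decide +kernel))

theorem hRM : ∀ w ∈ RM, wval F w = 1 :=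
  rels_of_model_aux J4A0.hK7 (derive [] hrels _ (by decide +kernel)) (fun z => M24TC.card_le z) le
    FW [0, 1, 2, 3, 4, 5, 6, 9, 10, 11, 12, 13] (derive [] hrels _ (by decide +kernel)) (by decide +kernel)

end Cfsg.Agent.Lib.J4R0
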