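import Cfsg.Agent.Lib.TCJ4a
import Cfsg.Agent.Lib.TCJ4b
import Cfsg.Agent.Lib.DCE2

/-! Coset enumerations for the recognition of the fourth Janko group. -/

set_option autoImplicit false
set_option maxRecDepth 100000

namespace Cfsg.Agent.Lib.J4T

open Cfsg.Agent.Lib.PermNet Cfsg.Agent.Lib.Words Cfsg.Agent.Lib.DCE Subgroup

def KH : List (List ℕ) := [[6, 6], [8, 8], [0, 0, 0], [2, 2, 2], [2, 6, 3, 6], [4, 4, 4, 4], [2, 2, 6, 2, 6], [0, 2, 4, 0, 2, 4], [0, 6, 0, 6, 0, 6], [0, 0, 5, 3, 1, 5, 3], [0, 0, 6, 1, 6, 1, 6], [0, 2, 4, 0, 3, 3, 4], [0, 0, 5, 3, 0, 0, 5, 3], [0, 2, 4, 0, 2, 5, 5, 5], [0, 2, 4, 0, 6, 2, 6, 4], [0, 2, 6, 3, 0, 6, 0, 6], [0, 3, 3, 4, 0, 3, 3, 4], [0, 3, 5, 2, 0, 3, 5, 2], [0, 3,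 6, 2, 0, 6, 0, 6], [0, 4, 0, 4, 0, 4, 0, 4], [0, 4, 1, 4, 4, 3, 4, 2], [0, 4, 1, 5, 5, 3, 4, 2], [2, 4, 6, 5, 3, 4, 6, 5], [2, 5, 2, 5, 2, 5, 2, 5], [4, 6, 5, 6, 4, 6, 5, 6], [0, 0, 3, 4, 2, 1, 3, 4, 2], [0, 0, 3, 5, 2, 4, 4, 0, 5], [0, 0, 3, 5, 2, 5, 5, 0, 5], [0, 0, 4, 4, 3, 4, 2, 0, 4], [0, 0, 5, 1, 5, 1, 5, 1, 5], [0, 0, 6, 1, 2, 6, 3, 1, 6], [0, 0, 6, 1, 3, 6, 2, 1, 6], [0, 2, 1, 4, 2, 4, 3, 1, 2], [0, 2, 2, 5, 2, 0, 3, 5, 2], [0, 2, 4, 0, 3, 6, 3, 6, 4], [0, 2, 4, 0, 6, 3, 3, 6, 4], [0, 2, 5, 1, 4, 3, 4, 0, 5], [0, 3, 0, 4, 2, 5, 3, 4, 4], [0, 3, 0, 4, 2, 5, 3, 5, 5], [0, 3, 3, 4, 0, 6, 2, 6, 4], [0, 3, 4, 2, 1, 4, 4, 0, 5], [0, 3, 4, 2, 1, 5, 5, 0, 5], [0, 3, 5, 2, 0, 3, 5, 3, 3], [0, 3, 5,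 3, 5, 1, 4, 3, 5], [0, 4, 1, 4, 2, 5, 2, 5, 3], [0, 4, 1, 4, 4, 3, 4, 3, 3], [0, 4, 1, 5, 5, 2, 2, 4, 2], [0, 4, 1, 5, 5, 3, 4, 3, 3], [0, 6, 1, 4, 4, 6, 4, 6, 4], [0, 6, 1, 5, 5, 6, 4, 6, 4], [2, 2, 4, 3, 4, 3, 4, 3, 4], [2, 2, 4, 6, 5, 2, 4, 6, 5], [0, 0, 2, 0, 2, 1, 4, 2, 4, 3], [0, 0, 2, 1, 4, 4, 2, 4, 3, 5], [0, 0, 2, 1, 5, 5, 2, 4, 3, 5], [0, 0, 2, 4, 3, 4, 3, 5, 0, 5], [0, 0, 3, 0, 2, 5, 3, 5, 0, 3], [0, 0, 3, 4, 2, 0, 0, 3, 4, 2], [0, 0, 4, 1, 5, 2, 5, 0, 4, 3], [0, 0, 4, 2, 4, 3, 1, 2, 0, 2], [0, 0, 4, 2, 5, 0, 4, 2, 4, 2], [0, 0, 4, 2, 5, 2, 5, 3, 0, 4], [2, 8, 2, 8, 2, 8], [0, 8, 1, 5, 8, 4, 8], [2, 2, 8, 3, 8, 3, 8], [0, 0, 5, 8, 4, 8, 0, 8], [0, 0, 8, 5, 8, 4, 0, 8], [0, 2, 4, 8, 0, 2,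 4, 8], [0, 2, 4, 8, 5, 3, 1, 8], [0, 2, 8, 3, 1, 2, 8, 3], [0, 8, 1, 8, 0, 8, 1, 8], [2, 4, 3, 8, 2, 5, 3, 8], [2, 6, 8, 2, 8, 2, 8, 6], [4, 8, 5, 8, 4, 8, 5, 8], [0, 0, 2, 8, 3, 0, 2, 8, 3], [0, 0, 8, 0, 2, 4, 8, 5, 3], [0, 0, 8, 0, 8, 1, 8, 0, 8], [0, 0, 8, 5, 3, 1, 8, 5, 3], [0, 2, 4, 8, 0, 3, 3, 4, 8], [0, 2, 4, 8, 5, 2, 2, 1, 8], [0, 2, 8, 2, 2, 1, 2, 8, 3], [0, 2, 8, 3, 1, 2, 8, 2, 2], [0, 2, 8, 3, 1, 3, 8, 2, 8], [0, 2, 8, 4, 0, 8, 2, 4, 8], [0, 2, 8, 4, 8, 0, 8, 2, 4], [0, 3, 0, 8, 1, 2, 8, 1, 8], [0, 3, 8, 2, 8, 1, 2, 8, 3], [0, 4, 4, 8, 4, 4, 8, 1, 8], [0, 4, 4, 8, 5, 5, 8, 1, 8], [0, 5, 5, 8, 4, 4, 8, 1, 8], [0, 5, 5, 8, 5, 5, 8, 1, 8], [0, 8, 1, 4, 4, 4, 8, 4, 8], [0, 8, 1, 5, 8, 5, 5,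 5, 8], [2, 2, 6, 8, 3, 8, 3, 8, 6], [2, 2, 8, 2, 4, 3, 8, 2, 5], [2, 2, 8, 2, 5, 3, 8, 2, 4], [2, 4, 2, 8, 3, 8, 5, 3, 8], [2, 5, 2, 8, 3, 8, 4, 3, 8], [2, 5, 8, 4, 3, 4, 8, 5, 8], [0, 0, 2, 1, 8, 0, 8, 3, 0, 8], [0, 0, 2, 8, 1, 8, 0, 3, 0, 8], [0, 0, 5, 3, 8, 1, 8, 5, 8, 3], [8, 2, 8, 2, 8, 2], [8, 3, 8, 3, 8, 3], [8, 2, 2, 8, 2, 2, 8, 2, 2], [8, 3, 3, 8, 3, 3, 8, 3, 3], [8, 0, 4, 8, 0, 4, 8, 0, 4, 8, 0, 4], [8, 1, 5, 8, 1, 5, 8, 1, 5, 8, 1, 5], [8, 2, 5, 8, 2, 5, 8, 2, 5, 8, 2, 5], [8, 2, 6, 8, 2, 6, 8, 2, 6, 8, 2, 6], [8, 3, 4, 8, 3, 4, 8, 3, 4, 8, 3, 4], [8, 3, 6, 8, 3, 6, 8, 3, 6, 8, 3, 6], [8, 4, 0, 8, 4, 0, 8, 4, 0, 8, 4, 0], [8, 4, 3, 8, 4, 3, 8, 4, 3, 8, 4, 3], [8, 4, 4, 8, 4, 4, 8, 4, 4,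 8, 4, 4], [8, 5, 1, 8, 5, 1, 8, 5, 1, 8, 5, 1], [8, 5, 2, 8, 5, 2, 8, 5, 2, 8, 5, 2], [8, 5, 5, 8, 5, 5, 8, 5, 5, 8, 5, 5], [8, 6, 2, 8, 6, 2, 8, 6, 2, 8, 6, 2], [8, 6, 3, 8, 6, 3, 8, 6, 3, 8, 6, 3], [8, 0, 8, 0, 8, 0, 8, 0, 8, 0, 8, 0], [8, 1, 8, 1, 8, 1, 8, 1, 8, 1, 8, 1], [8, 6, 8, 6, 8, 6, 8, 6, 8, 6, 8, 6], [8, 4, 8, 4, 8, 4, 8, 4, 8, 4, 8, 4, 8, 4, 8, 4], [8, 5, 8, 5, 8, 5, 8, 5, 8, 5, 8, 5, 8, 5, 8, 5], [8, 0, 0, 8, 0, 0, 8, 0, 0, 8, 0, 0, 8, 0, 0, 8, 0, 0], [8, 1, 1, 8, 1, 1, 8, 1, 1, 8, 1, 1, 8, 1, 1, 8, 1, 1], [8, 2, 4, 8, 2, 4, 8, 2, 4, 8, 2, 4, 8, 2, 4, 8, 2, 4], [8, 3, 5, 8, 3, 5, 8, 3, 5, 8, 3, 5, 8, 3, 5, 8, 3, 5], [8, 4, 2, 8, 4, 2, 8, 4, 2, 8, 4, 2, 8, 4, 2, 8, 4, 2], [8, 5, 3, 8,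 5, 3, 8, 5, 3, 8, 5, 3, 8, 5, 3, 8, 5, 3]]

def KS : List (List ℕ) := [[6, 6], [8, 8], [10, 10], [12, 12], [10, 8, 10, 8, 10, 8], [8, 12, 8, 12, 8, 12], [11, 3, 0, 6, 1, 2], [13, 1, 6, 4, 4, 6, 0], [8, 6, 8, 7], [8, 2, 6, 3, 8, 3, 4, 0, 7, 3], [8, 3, 0, 2, 8, 7, 3, 1, 2, 7], [8, 0, 4, 0, 4, 8, 5, 1, 5, 1], [8, 1, 3, 4, 2, 8, 3, 5, 2, 0], [0, 0, 0], [2, 2, 2], [4, 4, 4, 4], [0, 2, 4, 0, 2, 4], [0, 4, 6, 5, 1, 6], [0, 0, 5, 3, 1, 5, 3], [0, 0, 6, 0, 4, 6, 5], [0, 2, 4, 0, 3, 3, 4], [0, 2, 6, 3, 6, 1, 6], [2, 6, 3, 4, 6, 5, 6], [0, 0, 5, 3, 0, 0, 5, 3], [0, 0, 6, 0, 2, 6, 3, 6], [0, 0, 6, 0, 6, 2, 6, 3], [0, 2, 4, 0, 2, 5, 5, 5], [0, 2, 6, 2, 2, 6, 1, 6], [0, 3, 3, 4, 0, 3, 3, 4], [0, 3, 3, 6, 3, 6,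 1, 6], [0, 3, 5, 2, 0, 3, 5, 2], [0, 4, 0, 4, 0, 4, 0, 4], [0, 4, 1, 4, 4, 3, 4, 2], [0, 4, 1, 5, 5, 3, 4, 2], [0, 4, 6, 4, 4, 4, 1, 6], [0, 6, 1, 4, 3, 6, 2, 5], [0, 6, 1, 5, 3, 6, 2, 4], [0, 6, 1, 6, 0, 6, 1, 6], [0, 6, 2, 4, 0, 6, 2, 4], [0, 6, 4, 6, 5, 6, 1, 6], [2, 2, 6, 4, 6, 5, 2, 6], [2, 5, 2, 5, 2, 5, 2, 5], [2, 6, 3, 6, 2, 6, 3, 6], [4, 6, 5, 6, 4, 6, 5, 6], [0, 0, 3, 4, 2, 1, 3, 4, 2], [0, 0, 3, 5, 2, 4, 4, 0, 5], [0, 0, 3, 5, 2, 5, 5, 0, 5], [0, 0, 4, 3, 6, 2, 5, 0, 6], [0, 0, 4, 4, 3, 4, 2, 0, 4], [0, 0, 5, 1, 5, 1, 5, 1, 5], [0, 0, 5, 3, 6, 1, 5, 3, 6], [0, 0, 5, 3, 6, 2, 4, 0, 6], [0, 0, 6, 0, 5, 5, 5, 6, 5], [0, 0, 6, 0, 6, 1, 6, 0, 6], [0, 0, 6, 0, 6, 3, 3, 6, 3], [0, 0, 6, 0, 6,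 4, 6, 5, 6], [0, 2, 1, 4, 2, 4, 3, 1, 2], [0, 2, 2, 5, 2, 0, 3, 5, 2], [0, 2, 4, 6, 0, 6, 2, 6, 4], [0, 2, 5, 1, 4, 3, 4, 0, 5], [0, 2, 6, 4, 0, 6, 2, 4, 6], [0, 3, 0, 4, 2, 5, 3, 4, 4], [0, 3, 0, 4, 2, 5, 3, 5, 5], [0, 3, 4, 2, 1, 4, 4, 0, 5], [0, 3, 4, 2, 1, 5, 5, 0, 5], [0, 3, 5, 2, 0, 3, 5, 3, 3], [0, 3, 5, 3, 5, 1, 4, 3, 5], [0, 3, 6, 2, 1, 5, 6, 4, 6], [0, 4, 1, 4, 2, 5, 2, 5, 3], [0, 4, 1, 4, 4, 3, 4, 3, 3], [0, 4, 1, 5, 5, 2, 2, 4, 2], [0, 4, 1, 5, 5, 3, 4, 3, 3], [0, 6, 1, 4, 2, 2, 6, 2, 5], [0, 6, 1, 5, 2, 2, 6, 2, 4], [0, 6, 2, 4, 0, 6, 3, 3, 4], [2, 2, 4, 3, 4, 3, 4, 3, 4], [2, 2, 6, 2, 6, 3, 6, 2, 6], [2, 6, 3, 4, 6, 4, 4, 4, 6], [2, 6, 3, 5, 5, 5, 6, 5, 6], [0, 0, 2, 0, 2, 1, 4, 2, 4,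 3], [0, 0, 2, 1, 4, 4, 2, 4, 3, 5], [0, 0, 2, 1, 5, 5, 2, 4, 3, 5], [0, 0, 2, 4, 3, 4, 3, 5, 0, 5], [0, 0, 3, 0, 2, 5, 3, 5, 0, 3], [0, 0, 3, 4, 2, 0, 0, 3, 4, 2], [0, 0, 4, 1, 5, 2, 5, 0, 4, 3], [0, 0, 4, 2, 4, 3, 1, 2, 0, 2], [0, 0, 4, 2, 5, 0, 4, 2, 4, 2], [0, 0, 4, 2, 5, 2, 5, 3, 0, 4], [0, 0, 4, 3, 4, 0, 5, 0, 2, 5], [0, 0, 4, 3, 5, 0, 3, 5, 3, 5], [0, 0, 4, 3, 6, 3, 3, 5, 0, 6], [0, 0, 4, 4, 0, 3, 5, 2, 1, 4], [0, 0, 4, 4, 2, 4, 3, 5, 1, 2], [0, 0, 5, 1, 5, 0, 0, 5, 1, 5], [0, 0, 5, 2, 5, 0, 4, 3, 1, 4], [0, 0, 5, 3, 6, 0, 0, 5, 3, 6], [0, 0, 5, 3, 6, 3, 3, 4, 0, 6], [0, 0, 5, 5, 0, 3, 5, 2, 1, 4], [0, 0, 5, 6, 3, 1, 6, 5, 3, 6], [0, 0, 5, 6, 3, 6, 1, 6, 5, 3], [0, 0, 5, 6, 4, 6, 0, 3, 6, 2],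 [0, 0, 6, 0, 6, 0, 0, 6, 0, 6], [0, 0, 6, 5, 3, 1, 5, 6, 3, 6], [0, 0, 6, 5, 3, 6, 1, 5, 6, 3], [0, 0, 6, 5, 6, 4, 0, 3, 6, 2], [0, 2, 0, 2, 5, 0, 3, 5, 1, 3], [0, 2, 0, 3, 5, 0, 2, 0, 3, 5], [0, 2, 0, 3, 5, 0, 4, 2, 1, 3], [0, 2, 0, 4, 3, 4, 1, 3, 4, 4], [0, 2, 0, 4, 3, 4, 1, 3, 5, 5], [0, 2, 0, 4, 3, 5, 0, 2, 1, 2], [0, 2, 0, 5, 3, 0, 2, 0, 5, 3], [0, 2, 1, 2, 4, 1, 2, 0, 5, 3], [0, 2, 1, 2, 4, 2, 4, 4, 0, 4], [0, 2, 1, 2, 4, 2, 5, 5, 0, 4], [0, 2, 1, 2, 4, 4, 2, 0, 4, 4], [0, 2, 1, 2, 4, 4, 2, 0, 5, 5], [0, 2, 1, 2, 5, 5, 2, 0, 4, 4], [0, 2, 1, 2, 5, 5, 2, 0, 5, 5], [0, 2, 1, 3, 0, 4, 0, 3, 4, 2], [0, 2, 1, 4, 0, 5, 2, 4, 1, 5], [0, 2, 1, 4, 2, 4, 3, 1, 3, 3], [0, 2, 1, 4, 3, 3, 4, 3, 1, 2], [0,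 2, 1, 4, 4, 3, 5, 3, 0, 4], [0, 2, 1, 5, 0, 3, 0, 4, 1, 2], [0, 2, 1, 5, 1, 3, 0, 3, 4, 3], [0, 2, 1, 5, 1, 5, 1, 5, 2, 4], [0, 2, 1, 5, 5, 3, 5, 3, 0, 4], [0, 2, 1, 6, 0, 4, 6, 0, 2, 4], [0, 2, 2, 1, 3, 0, 2, 5, 3, 5], [0, 2, 2, 4, 2, 1, 5, 5, 0, 5], [0, 2, 2, 5, 2, 0, 2, 2, 5, 2], [0, 2, 2, 5, 2, 1, 4, 1, 5, 5], [0, 2, 2, 5, 3, 5, 1, 4, 3, 5], [0, 2, 2, 6, 2, 1, 5, 6, 4, 6], [0, 2, 2, 6, 2, 1, 6, 5, 6, 4], [0, 2, 4, 0, 3, 6, 3, 6, 4, 6], [0, 2, 4, 0, 4, 2, 0, 4, 1, 5], [0, 2, 4, 1, 4, 1, 4, 2, 5, 2], [0, 2, 4, 2, 0, 5, 3, 5, 1, 5], [0, 2, 4, 4, 0, 4, 2, 4, 1, 3], [0, 2, 4, 6, 0, 4, 6, 5, 2, 4]]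

theorem bH {X : Type*} [Group X] (z : ℕ → X) (hz : ∀ w ∈ KH, wval z w = 1) :
    (gp z [[8], [0, 6, 1], [1, 2, 1, 5]]).relIndex (gp z [[0], [2], [4], [6], [8]]) ≠ 0 ∧
    (gp z [[8], [0, 6, 1], [1, 2, 1, 5]]).relIndex (gp z [[0], [2], [4], [6], [8]]) ≤ 693 :=
  tc_wrap [3, 4] hz [[0], [1], [2], [3], [4], [5], [6], [8], [0, 6, 1], [0, 7, 1], [1, 2, 1, 5], [4, 0, 3, 0]] TCJ4a.bound _ _ (by decide +kernel)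

theorem bS {X : Type*} [Group X] (z : ℕ → X) (hz : ∀ w ∈ KS, wval z w = 1) :
    (gp z [[0], [2], [4], [6], [10], [12]]).relIndex (gp z [[0], [2], [4], [6], [8], [10], [12]]) ≠ 0 ∧
    (gp z [[0], [2], [4], [6], [10], [12]]).relIndex (gp z [[0], [2], [4], [6], [8], [10], [12]]) ≤ 1771 :=
  tc_wrap [3, 4, 5, 6] hz [[0], [1], [2], [3], [4], [5], [6], [8], [10], [12]] TCJ4b.bound _ _ (by decide +kernel)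

universe u in
/-- A coset enumeration modulo a normal subgroup. -/
theorem tc_mod {G : Type u} [Group G] (y : ℕ → G) {A S B P : Subgroup G} (hy : ∀ i, y i ∈ S)
    (hn : ∀ s ∈ S, ∀ a ∈ A, s * a * s⁻¹ ∈ A) {K hs ls : List (List ℕ)} {N : ℕ} (hK : ∀ w ∈ K, wval y w ∈ A)
    (bound : ∀ {X : Type u} [Group X] (z : ℕ → X), (∀ w ∈ K, wval z w = 1) →
      (gp z hs).relIndex (gp z ls) ≠ 0 ∧ (gp z hs).relIndex (gp z ls) ≤ N)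
    (hA : A ≤ B) (hB : ∀ w ∈ hs, wval y w ∈ B) (hS : P ≤ S) (hP : ∀ T : Subgroup G, S ⊓ A ≤ T →
      (∀ w ∈ ls, wval y w ∈ T) → P ≤ T) : B.relIndex P ≠ 0 ∧ B.relIndex P ≤ N := by
  haveI : (A.subgroupOf S).Normal := ⟨fun a ha s => hn s s.2 a ha⟩
  let φ := QuotientGroup.mk' (A.subgroupOf S)
  let y' : ℕ → S := fun i => ⟨y i, hy i⟩
  have e : ∀ w, ((wval y' w : S) : G) = wval y w := fun w => map_wval S.subtype y' w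
  obtain ⟨b1, b2⟩ := bound (fun i => φ (y' i)) fun w hw => by
    rw [← map_wval]
    exact (QuotientGroup.eq_one_iff _).2 (by rw [mem_subgroupOf, e]; exact hK w hw)
  have h1 : (gp (fun i => φ (y' i)) hs).comap φ ≤ B.subgroupOf S := by
    rw [← map_gp, comap_map_eq, QuotientGroup.ker_mk']
    exact sup_le (gp_le.2 fun w hw => by rw [mem_subgroupOf, e]; exact hB w hw) (comap_mono hA)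
  have h2 : P.subgroupOf S ≤ (gp (fun i => φ (y' i)) ls).comap φ := fun p hp => by
    obtain ⟨q, hq, e'⟩ := hP (((gp (fun i => φ (y' i)) ls).comap φ).map S.subtype)
      (fun a ha => ⟨⟨a, ha.1⟩, by
        change φ _ ∈ gp _ _
        rw [(QuotientGroup.eq_one_iff (N := A.subgroupOf S) (⟨a, ha.1⟩ : S)).2 ha.2 |> (id : φ _ = 1 → _)]
        exact one_mem _, rfl⟩)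
      (fun w hw => ⟨wval y' w, by
        change φ _ ∈ gp _ _
        rw [map_wval]; exact mem_gp hw, e w⟩) hp
    exact (Subtype.ext e' : q = p) ▸ hq
  rw [← map_comap_eq_self_of_surjective (QuotientGroup.mk'_surjective _) (gp _ ls), ← relIndex_comap] at b1 b2
  rw [← relIndex_subgroupOf hS]
  have b3 := mt (relIndex_eq_zero_of_le_left h1) b1
  exact ⟨mt (relIndex_eq_zero_of_le_right h2) b3,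
    (relIndex_le_of_le_right h2 b3).trans ((relIndex_le_of_le_left h1 b1).trans b2)⟩

end Cfsg.Agent.Lib.J4T
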