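import Cfsg.Agent.Lib.J4VT

/-! Certificates. -/

set_option autoImplicit false
set_option maxRecDepth 100000

namespace Cfsg.Agent.Lib.J4V

open Cfsg.Agent.Lib.PermNet Cfsg.Agent.Lib.Words Cfsg.Agent.Lib.PermGroup Cfsg.Agent.Lib.DCE Cfsg.Agent.Lib.PermModel Cfsg.Agent.Lib.BT

noncomputable def ts_y : List Tst := [⟨[], [⟨0, [0], [0], [0, 0, 0]⟩], []⟩,
  ⟨[], [⟨0, [0], [0], [0, 0, 0]⟩], []⟩,
  ⟨[], [], [⟨0, [0], [0], [0, 0, 0]⟩, ⟨0, [1], [1], [1, 1, 1]⟩, ⟨0, [0, 0], [0, 0], [0, 0, 0, 0, 0, 0]⟩]⟩,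
  ⟨[⟨0, [1], [1], [1, 1, 1]⟩], [], []⟩,
  ⟨[⟨0, [1, 1], [1, 1], [1, 1, 1, 1, 1, 1]⟩], [], []⟩,
  ⟨[⟨2, [0, 0], [0, 0], [0, 0, 0, 0, 0, 0]⟩], [], []⟩,
  ⟨[⟨1, [1, 1], [1, 1], [1, 1, 1, 1, 1, 1]⟩], [], []⟩,
  ⟨[⟨0, [0], [0], [0, 0, 0]⟩], [], []⟩,
  ⟨[], [], [⟨0, [0], [0], [0, 0, 0]⟩, ⟨0, [1], [1], [1, 1, 1]⟩, ⟨0, [0, 0], [0, 0], [0, 0, 0, 0, 0, 0]⟩]⟩,
  ⟨[⟨0, [1, 1], [1, 1], [1, 1, 1, 1, 1, 1]⟩], [], []⟩,
  ⟨[⟨1, [0, 0, 0], [0, 0, 0], [0, 0, 0, 0, 0, 0, 0, 0, 0]⟩], [], []⟩,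
  ⟨[⟨1, [1, 1], [1, 1], [1, 1, 1, 1, 1, 1]⟩], [], []⟩]

noncomputable def ct_y : CT := (.node 0 [] [] (nat_lit 0x0) (nd [(804, (nd [(3585, (nd [(1023, (nd [(2115, (nd [(3931, (nd [(4026, (nd [(625, (nd [(794, (nd [(3789, (nd [(1063, (nd [(834, (lf [(1797, [0])]))]))]))]))]))]))]))]))])),
  (499, (nd [(3104, (nd [(1091, (nd [(625, (nd [(2115, (nd [(1023, (nd [(2944, (nd [(2445, (nd [(1797, (lf [(3789, [0, 0, 0, 0, 0, 0, 0])]))]))]))]))]))]))]))]))])),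
  (794, (nd [(625, (nd [(499, (nd [(3664, (nd [(4026, (nd [(3104, (nd [(1797, (nd [(93, (nd [(3200, (lf [(834, [0, 0, 0, 0, 0, 0])]))]))]))]))]))]))]))]))])),
  (3574, (nd [(499, (nd [(4026, (nd [(794, (nd [(1023, (nd [(1091, (nd [(93, (nd [(834, (nd [(3410, (lf [(2614, [0, 0, 0])]))]))]))]))]))]))]))]))])),
  (3931, (nd [(794, (nd [(3574, (nd [(2115, (nd [(3104, (nd [(499, (nd [(3410, (nd [(1817, (nd [(3789, (lf [(2944, [0, 0])]))]))]))]))]))]))]))]))])),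
  (1091, (nd [(1023, (nd [(3664, (nd [(3104, (nd [(794, (nd [(3931, (nd [(2614, (nd [(3200, (nd [(2944, (lf [(3410, [0, 0, 0, 0, 0, 0, 0, 0])]))]))]))]))]))]))]))]))])),
  (3104, (nd [(4026, (nd [(1023, (nd [(3574, (nd [(3664, (nd [(2115, (nd [(834, (nd [(2614, (nd [(1817, (lf [(3200, [0, 0, 0, 0, 0, 0, 0, 0, 0, 0, 0])]))]))]))]))]))]))]))]))])),
  (625, (nd [(3574, (nd [(3104, (nd [(3931, (nd [(1091, (nd [(4026, (nd [(1817, (nd [(2944, (nd [(1063, (lf [(2445, [0, 0, 0, 0, 0, 0, 0, 0, 0, 0])]))]))]))]))]))]))]))]))])),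
  (2115, (nd [(3664, (nd [(794, (nd [(1091, (nd [(3574, (nd [(625, (nd [(3200, (nd [(3410, (nd [(2445, (lf [(1817, [0, 0, 0, 0, 0])]))]))]))]))]))]))]))]))])),
  (3664, (nd [(3931, (nd [(625, (nd [(1023, (nd [(499, (nd [(3574, (nd [(1063, (nd [(1797, (nd [(2614, (lf [(93, [0, 0, 0, 0, 0, 0, 0, 0, 0])]))]))]))]))]))]))]))]))])),
  (4026, (nd [(1091, (nd [(2115, (nd [(499, (nd [(3931, (nd [(3664, (nd [(2445, (nd [(3789, (nd [(93, (lf [(1063, [0, 0, 0, 0])]))]))]))]))]))]))]))]))]))]))]))]) .nil)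

theorem s_y : srch vtt vch [[0]] [[0, 0, 0]] [[1000, 1000, 1000, 1000, 1000]] [] (okR 1 [0]) (mkC [[2]]) ts_y ct_y = true := by
  decide +kernel

noncomputable def ts_w : List Tst := [⟨[], [⟨0, [0], [0], [0]⟩, ⟨0, [2], [2], [2]⟩], []⟩,
  ⟨[], [⟨0, [0], [0], [0]⟩, ⟨0, [2], [2], [2]⟩], []⟩,
  ⟨[], [⟨0, [2], [2], [2]⟩], [⟨0, [0], [0], [0]⟩, ⟨0, [1], [1], [1]⟩, ⟨0, [0, 0], [0, 0], [0, 0]⟩]⟩,
  ⟨[⟨0, [1], [1], [1]⟩], [], []⟩,
  ⟨[⟨0, [3], [3], [3]⟩], [], []⟩,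
  ⟨[⟨0, [3], [3], [3]⟩], [], []⟩,
  ⟨[⟨0, [3], [3], [3]⟩], [], []⟩,
  ⟨[⟨0, [0], [0], [0]⟩], [], []⟩,
  ⟨[], [⟨0, [0, 2, 1], [0, 2, 1], [0, 2, 1]⟩], [⟨0, [0], [0], [0]⟩, ⟨0, [1], [1], [1]⟩, ⟨0, [2], [2], [2]⟩]⟩,
  ⟨[⟨0, [3], [3], [3]⟩], [], []⟩,
  ⟨[⟨0, [3], [3], [3]⟩], [], []⟩,
  ⟨[⟨0, [3], [3], [3]⟩], [], []⟩]

noncomputable def ct_w : CT := (.node 0 [] [] (nat_lit 0x0) (nd [(804, (nd [(3585, (nd [(2505, (nd [(3656, (nd [(1678, (nd [(2940, (nd [(3320, (nd [(1396, (nd [(794, (nd [(2115, (nd [(3931, (lf [(4026, [3])]))]))]))]))]))]))]))]))])),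
  (2614, (nd [(3410, (nd [(3789, (nd [(1063, (nd [(834, (nd [(1797, (nd [(3656, (nd [(1678, (nd [(2940, (lf [(3320, [2])]))]))]))]))]))]))]))]))]))]))])),
  (3365, (nd [(804, (nd [(2505, (nd [(3656, (nd [(1678, (nd [(2940, (nd [(3320, (nd [(1396, (nd [(794, (nd [(2115, (nd [(3931, (lf [(4026, [1])]))]))]))]))]))]))]))]))])),
  (2614, (nd [(3410, (nd [(3789, (nd [(1063, (nd [(834, (nd [(1797, (nd [(3656, (nd [(1678, (nd [(2940, (lf [(3320, [0, 12])]))]))]))]))]))]))]))]))])),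
  (1023, (nd [(794, (nd [(2115, (nd [(3931, (nd [(4026, (nd [(625, (nd [(3410, (nd [(3789, (nd [(1063, (lf [(834, [4, 12])]))]))]))]))]))]))]))]))]))]))])),
  (3585, (nd [(3365, (nd [(2614, (nd [(3410, (nd [(3789, (nd [(1063, (nd [(834, (nd [(1797, (nd [(3656, (nd [(1678, (nd [(2940, (lf [(3320, [0])]))]))]))]))]))]))]))]))])),
  (1023, (nd [(794, (nd [(2115, (nd [(3931, (nd [(4026, (nd [(625, (nd [(3410, (nd [(3789, (nd [(1063, (lf [(834, [4])]))]))]))]))]))]))]))]))])),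
  (2505, (nd [(3656, (nd [(1678, (nd [(2940, (nd [(3320, (nd [(1396, (nd [(794, (nd [(2115, (nd [(3931, (lf [(4026, [1, 12])]))]))]))]))]))]))]))]))]))]))]))]) .nil)

theorem s_w : srch vtt vch [[0], [2]] [[0], [2]] [[1000, 1000, 1000]] [[1000]] (okR 5 [6]) (mkC [[4], [5], [14], [15], [10]]) ts_w ct_w = true := by
  decide +kernel

noncomputable def ts_c : List Tst := [⟨[], [⟨0, [0], [0], [0]⟩], []⟩,
  ⟨[], [⟨0, [0], [0], [0]⟩], []⟩,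
  ⟨[], [], [⟨0, [0], [0], [0]⟩, ⟨0, [1], [1], [1]⟩, ⟨0, [0, 0], [0, 0], [0, 0]⟩]⟩,
  ⟨[⟨0, [1], [1], [1]⟩], [], []⟩,
  ⟨[⟨0, [1, 1], [1, 1], [1, 1]⟩], [], []⟩,
  ⟨[⟨2, [0, 0], [0, 0], [0, 0]⟩], [], []⟩,
  ⟨[⟨1, [1, 1], [1, 1], [1, 1]⟩], [], []⟩,
  ⟨[⟨0, [0], [0], [0]⟩], [], []⟩,
  ⟨[], [], [⟨0, [0], [0], [0]⟩, ⟨0, [1], [1], [1]⟩, ⟨0, [0, 0], [0, 0], [0, 0]⟩]⟩,
  ⟨[⟨0, [1, 1], [1, 1], [1, 1]⟩], [], []⟩,
  ⟨[⟨1, [0, 0, 0], [0, 0, 0], [0, 0, 0]⟩], [], []⟩,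
  ⟨[⟨1, [1, 1], [1, 1], [1, 1]⟩], [], []⟩]

noncomputable def ct_c : CT := (.node 0 [] [] (nat_lit 0x0) (nd [(804, (nd [(3585, (nd [(1023, (nd [(794, (nd [(2115, (nd [(3931, (nd [(4026, (nd [(625, (nd [(3410, (nd [(3789, (nd [(1063, (lf [(834, [0])]))]))]))]))]))]))]))]))])),
  (499, (nd [(1023, (nd [(3104, (nd [(1091, (nd [(625, (nd [(2115, (nd [(2614, (nd [(2944, (nd [(2445, (lf [(1797, [0, 0, 0, 0, 0, 0, 0, 0, 0, 0, 0])]))]))]))]))]))]))]))]))])),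
  (794, (nd [(3104, (nd [(625, (nd [(499, (nd [(3664, (nd [(4026, (nd [(2944, (nd [(1797, (nd [(93, (lf [(3200, [0, 0])]))]))]))]))]))]))]))]))])),
  (2505, (nd [(3656, (nd [(1678, (nd [(2940, (nd [(3320, (nd [(1396, (nd [(794, (nd [(2115, (nd [(3931, (lf [(4026, [1, 4, 4])]))]))]))]))]))]))]))]))])),
  (2614, (nd [(3410, (nd [(3789, (nd [(1063, (nd [(834, (nd [(1797, (nd [(3656, (nd [(1678, (nd [(2940, (lf [(3320, [2, 4])]))]))]))]))]))]))]))]))])),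
  (3574, (nd [(1091, (nd [(499, (nd [(4026, (nd [(794, (nd [(1023, (nd [(2445, (nd [(93, (nd [(834, (lf [(3410, [0, 0, 0, 0, 0, 0, 0, 0])]))]))]))]))]))]))]))]))])),
  (3931, (nd [(499, (nd [(794, (nd [(3574, (nd [(2115, (nd [(3104, (nd [(93, (nd [(3410, (nd [(1817, (lf [(3789, [0, 0, 0, 0, 0, 0, 0, 0, 0, 0])]))]))]))]))]))]))]))]))])),
  (1091, (nd [(3931, (nd [(1023, (nd [(3664, (nd [(3104, (nd [(794, (nd [(1063, (nd [(2614, (nd [(3200, (lf [(2944, [0, 0, 0, 0, 0, 0, 0, 0, 0])]))]))]))]))]))]))]))]))])),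
  (430, (nd [(2505, (nd [(1952, (nd [(3534, (nd [(1396, (nd [(1678, (nd [(1023, (nd [(3104, (nd [(1091, (lf [(625, [1, 0, 0, 0, 0, 0, 0, 0, 0, 0, 0, 4, 4])]))]))]))]))]))]))]))]))])),
  (93, (nd [(2614, (nd [(2944, (nd [(2445, (nd [(1797, (nd [(3789, (nd [(2505, (nd [(1952, (nd [(3534, (lf [(1396, [2, 0, 0, 0, 0, 0, 0, 0, 0, 0, 0, 4])]))]))]))]))]))]))]))]))])),
  (3104, (nd [(2115, (nd [(4026, (nd [(1023, (nd [(3574, (nd [(3664, (nd [(3789, (nd [(834, (nd [(2614, (lf [(1817, [0, 0, 0])]))]))]))]))]))]))]))]))])),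
  (625, (nd [(4026, (nd [(3574, (nd [(3104, (nd [(3931, (nd [(1091, (nd [(834, (nd [(1817, (nd [(2944, (lf [(1063, [0, 0, 0, 0, 0])]))]))]))]))]))]))]))]))])),
  (2115, (nd [(625, (nd [(3664, (nd [(794, (nd [(1091, (nd [(3574, (nd [(1797, (nd [(3200, (nd [(3410, (lf [(2445, [0, 0, 0, 0])]))]))]))]))]))]))]))]))])),
  (3656, (nd [(1952, (nd [(1396, (nd [(430, (nd [(720, (nd [(3320, (nd [(3104, (nd [(625, (nd [(499, (lf [(3664, [1, 0, 4, 4])]))]))]))]))]))]))]))]))])),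
  (3410, (nd [(2944, (nd [(1797, (nd [(93, (nd [(3200, (nd [(834, (nd [(1952, (nd [(1396, (nd [(430, (lf [(720, [2, 0, 4])]))]))]))]))]))]))]))]))])),
  (3664, (nd [(3574, (nd [(3931, (nd [(625, (nd [(1023, (nd [(499, (nd [(1817, (nd [(1063, (nd [(1797, (lf [(2614, [0, 0, 0, 0, 0, 0, 0])]))]))]))]))]))]))]))]))])),
  (2799, (nd [(3534, (nd [(430, (nd [(3320, (nd [(3656, (nd [(2505, (nd [(1091, (nd [(499, (nd [(4026, (lf [(794, [1, 0, 0, 0, 0, 0, 0, 0, 4, 4])]))]))]))]))]))]))]))]))])),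
  (1817, (nd [(2445, (nd [(93, (nd [(834, (nd [(3410, (nd [(2614, (nd [(3534, (nd [(430, (nd [(3320, (lf [(3656, [2, 0, 0, 0, 0, 0, 0, 0, 4])]))]))]))]))]))]))]))]))])),
  (4026, (nd [(3664, (nd [(1091, (nd [(2115, (nd [(499, (nd [(3931, (nd [(3200, (nd [(2445, (nd [(3789, (lf [(93, [0, 0, 0, 0, 0, 0])]))]))]))]))]))]))]))]))])),
  (2940, (nd [(430, (nd [(3656, (nd [(2799, (nd [(1678, (nd [(1952, (nd [(499, (nd [(794, (nd [(3574, (lf [(2115, [1, 0, 0, 0, 0, 0, 0, 0, 0, 0, 4, 4])]))]))]))]))]))]))]))]))])),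
  (1063, (nd [(93, (nd [(3410, (nd [(1817, (nd [(3789, (nd [(2944, (nd [(430, (nd [(3656, (nd [(2799, (lf [(1678, [2, 0, 0, 0, 0, 0, 0, 0, 0, 0, 4])]))]))]))]))]))]))]))]))])),
  (3534, (nd [(2940, (nd [(2505, (nd [(720, (nd [(1952, (nd [(3656, (nd [(3931, (nd [(1023, (nd [(3664, (lf [(3104, [1, 0, 0, 0, 0, 0, 0, 0, 0, 4, 4])]))]))]))]))]))]))]))]))])),
  (2445, (nd [(1063, (nd [(2614, (nd [(3200, (nd [(2944, (nd [(3410, (nd [(2940, (nd [(2505, (nd [(720, (lf [(1952, [2, 0, 0, 0, 0, 0, 0, 0, 0, 4])]))]))]))]))]))]))]))]))])),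
  (2944, (nd [(3789, (nd [(834, (nd [(2614, (nd [(1817, (nd [(3200, (nd [(1678, (nd [(3320, (nd [(2505, (lf [(2799, [2, 0, 0, 4])]))]))]))]))]))]))]))]))])),
  (1952, (nd [(1678, (nd [(3320, (nd [(2505, (nd [(2799, (nd [(720, (nd [(2115, (nd [(4026, (nd [(1023, (lf [(3574, [1, 0, 0, 4, 4])]))]))]))]))]))]))]))]))])),
  (1396, (nd [(3320, (nd [(2799, (nd [(1952, (nd [(2940, (nd [(3534, (nd [(4026, (nd [(3574, (nd [(3104, (lf [(3931, [1, 0, 0, 0, 0, 4, 4])]))]))]))]))]))]))]))]))])),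
  (1797, (nd [(834, (nd [(1817, (nd [(2944, (nd [(1063, (nd [(2445, (nd [(3320, (nd [(2799, (nd [(1952, (lf [(2940, [2, 0, 0, 0, 0, 4])]))]))]))]))]))]))]))]))])),
  (1678, (nd [(1396, (nd [(720, (nd [(3656, (nd [(3534, (nd [(2799, (nd [(625, (nd [(3664, (nd [(794, (lf [(1091, [1, 0, 0, 0, 4, 4])]))]))]))]))]))]))]))]))])),
  (3789, (nd [(1797, (nd [(3200, (nd [(3410, (nd [(2445, (nd [(1817, (nd [(1396, (nd [(720, (nd [(3656, (lf [(3534, [2, 0, 0, 0, 4])]))]))]))]))]))]))]))]))])),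
  (720, (nd [(2799, (nd [(2940, (nd [(1396, (nd [(2505, (nd [(430, (nd [(3574, (nd [(3931, (nd [(625, (lf [(1023, [1, 0, 0, 0, 0, 0, 0, 4, 4])]))]))]))]))]))]))]))]))])),
  (3200, (nd [(1817, (nd [(1063, (nd [(1797, (nd [(2614, (nd [(93, (nd [(2799, (nd [(2940, (nd [(1396, (lf [(2505, [2, 0, 0, 0, 0, 0, 0, 4])]))]))]))]))]))]))]))]))])),
  (3320, (nd [(720, (nd [(3534, (nd [(1678, (nd [(430, (nd [(2940, (nd [(3664, (nd [(1091, (nd [(2115, (lf [(499, [1, 0, 0, 0, 0, 0, 4, 4])]))]))]))]))]))]))]))]))])),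
  (834, (nd [(3200, (nd [(2445, (nd [(3789, (nd [(93, (nd [(1063, (nd [(720, (nd [(3534, (nd [(1678, (lf [(430, [2, 0, 0, 0, 0, 0, 4])]))]))]))]))]))]))]))]))]))])),
  (3365, (nd [(1023, (nd [(794, (nd [(2115, (nd [(3931, (nd [(4026, (nd [(625, (nd [(3410, (nd [(3789, (nd [(1063, (lf [(834, [3])]))]))]))]))]))]))]))]))])),
  (794, (nd [(3104, (nd [(625, (nd [(499, (nd [(3664, (nd [(4026, (nd [(2944, (nd [(1797, (nd [(93, (lf [(3200, [3, 0])]))]))]))]))]))]))]))]))])),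
  (499, (nd [(1023, (nd [(3104, (nd [(1091, (nd [(625, (nd [(2115, (nd [(2614, (nd [(2944, (nd [(2445, (lf [(1797, [3, 0, 0, 0, 0, 0, 0, 0, 0, 0, 0])]))]))]))]))]))]))]))]))])),
  (2614, (nd [(3410, (nd [(3789, (nd [(1063, (nd [(834, (nd [(1797, (nd [(3656, (nd [(1678, (nd [(2940, (lf [(3320, [4, 4])]))]))]))]))]))]))]))]))])),
  (2505, (nd [(3656, (nd [(1678, (nd [(2940, (nd [(3320, (nd [(1396, (nd [(794, (nd [(2115, (nd [(3931, (lf [(4026, [5, 4, 4])]))]))]))]))]))]))]))]))])),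
  (625, (nd [(4026, (nd [(3574, (nd [(3104, (nd [(3931, (nd [(1091, (nd [(834, (nd [(1817, (nd [(2944, (lf [(1063, [3, 0, 0, 0, 0])]))]))]))]))]))]))]))]))])),
  (3104, (nd [(2115, (nd [(4026, (nd [(1023, (nd [(3574, (nd [(3664, (nd [(3789, (nd [(834, (nd [(2614, (lf [(1817, [3, 0, 0])]))]))]))]))]))]))]))]))])),
  (2115, (nd [(625, (nd [(3664, (nd [(794, (nd [(1091, (nd [(3574, (nd [(1797, (nd [(3200, (nd [(3410, (lf [(2445, [3, 0, 0, 0])]))]))]))]))]))]))]))]))])),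
  (3410, (nd [(2944, (nd [(1797, (nd [(93, (nd [(3200, (nd [(834, (nd [(1952, (nd [(1396, (nd [(430, (lf [(720, [4, 0, 4])]))]))]))]))]))]))]))]))])),
  (3656, (nd [(1952, (nd [(1396, (nd [(430, (nd [(720, (nd [(3320, (nd [(3104, (nd [(625, (nd [(499, (lf [(3664, [5, 0, 4, 4])]))]))]))]))]))]))]))]))])),
  (3931, (nd [(499, (nd [(794, (nd [(3574, (nd [(2115, (nd [(3104, (nd [(93, (nd [(3410, (nd [(1817, (lf [(3789, [3, 0, 0, 0, 0, 0, 0, 0, 0, 0])]))]))]))]))]))]))]))]))])),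
  (3574, (nd [(1091, (nd [(499, (nd [(4026, (nd [(794, (nd [(1023, (nd [(2445, (nd [(93, (nd [(834, (lf [(3410, [3, 0, 0, 0, 0, 0, 0, 0])]))]))]))]))]))]))]))]))])),
  (1091, (nd [(3931, (nd [(1023, (nd [(3664, (nd [(3104, (nd [(794, (nd [(1063, (nd [(2614, (nd [(3200, (lf [(2944, [3, 0, 0, 0, 0, 0, 0, 0, 0])]))]))]))]))]))]))]))]))])),
  (93, (nd [(2614, (nd [(2944, (nd [(2445, (nd [(1797, (nd [(3789, (nd [(2505, (nd [(1952, (nd [(3534, (lf [(1396, [4, 0, 0, 0, 0, 0, 0, 0, 0, 0, 0, 4])]))]))]))]))]))]))]))]))])),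
  (430, (nd [(2505, (nd [(1952, (nd [(3534, (nd [(1396, (nd [(1678, (nd [(1023, (nd [(3104, (nd [(1091, (lf [(625, [5, 0, 0, 0, 0, 0, 0, 0, 0, 0, 0, 4, 4])]))]))]))]))]))]))]))]))])),
  (4026, (nd [(3664, (nd [(1091, (nd [(2115, (nd [(499, (nd [(3931, (nd [(3200, (nd [(2445, (nd [(3789, (lf [(93, [3, 0, 0, 0, 0, 0])]))]))]))]))]))]))]))]))])),
  (1797, (nd [(834, (nd [(1817, (nd [(2944, (nd [(1063, (nd [(2445, (nd [(3320, (nd [(2799, (nd [(1952, (lf [(2940, [4, 0, 0, 0, 0, 4])]))]))]))]))]))]))]))]))])),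
  (1396, (nd [(3320, (nd [(2799, (nd [(1952, (nd [(2940, (nd [(3534, (nd [(4026, (nd [(3574, (nd [(3104, (lf [(3931, [5, 0, 0, 0, 0, 4, 4])]))]))]))]))]))]))]))]))])),
  (3664, (nd [(3574, (nd [(3931, (nd [(625, (nd [(1023, (nd [(499, (nd [(1817, (nd [(1063, (nd [(1797, (lf [(2614, [3, 0, 0, 0, 0, 0, 0])]))]))]))]))]))]))]))]))])),
  (2944, (nd [(3789, (nd [(834, (nd [(2614, (nd [(1817, (nd [(3200, (nd [(1678, (nd [(3320, (nd [(2505, (lf [(2799, [4, 0, 0, 4])]))]))]))]))]))]))]))]))])),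
  (1952, (nd [(1678, (nd [(3320, (nd [(2505, (nd [(2799, (nd [(720, (nd [(2115, (nd [(4026, (nd [(1023, (lf [(3574, [5, 0, 0, 4, 4])]))]))]))]))]))]))]))]))])),
  (3789, (nd [(1797, (nd [(3200, (nd [(3410, (nd [(2445, (nd [(1817, (nd [(1396, (nd [(720, (nd [(3656, (lf [(3534, [4, 0, 0, 0, 4])]))]))]))]))]))]))]))]))])),
  (1678, (nd [(1396, (nd [(720, (nd [(3656, (nd [(3534, (nd [(2799, (nd [(625, (nd [(3664, (nd [(794, (lf [(1091, [5, 0, 0, 0, 4, 4])]))]))]))]))]))]))]))]))])),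
  (2940, (nd [(430, (nd [(3656, (nd [(2799, (nd [(1678, (nd [(1952, (nd [(499, (nd [(794, (nd [(3574, (lf [(2115, [5, 0, 0, 0, 0, 0, 0, 0, 0, 0, 4, 4])]))]))]))]))]))]))]))]))])),
  (1063, (nd [(93, (nd [(3410, (nd [(1817, (nd [(3789, (nd [(2944, (nd [(430, (nd [(3656, (nd [(2799, (lf [(1678, [4, 0, 0, 0, 0, 0, 0, 0, 0, 0, 4])]))]))]))]))]))]))]))]))])),
  (1817, (nd [(2445, (nd [(93, (nd [(834, (nd [(3410, (nd [(2614, (nd [(3534, (nd [(430, (nd [(3320, (lf [(3656, [4, 0, 0, 0, 0, 0, 0, 0, 4])]))]))]))]))]))]))]))]))])),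
  (2799, (nd [(3534, (nd [(430, (nd [(3320, (nd [(3656, (nd [(2505, (nd [(1091, (nd [(499, (nd [(4026, (lf [(794, [5, 0, 0, 0, 0, 0, 0, 0, 4, 4])]))]))]))]))]))]))]))]))])),
  (2445, (nd [(1063, (nd [(2614, (nd [(3200, (nd [(2944, (nd [(3410, (nd [(2940, (nd [(2505, (nd [(720, (lf [(1952, [4, 0, 0, 0, 0, 0, 0, 0, 0, 4])]))]))]))]))]))]))]))]))])),
  (3534, (nd [(2940, (nd [(2505, (nd [(720, (nd [(1952, (nd [(3656, (nd [(3931, (nd [(1023, (nd [(3664, (lf [(3104, [5, 0, 0, 0, 0, 0, 0, 0, 0, 4, 4])]))]))]))]))]))]))]))]))])),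
  (834, (nd [(3200, (nd [(2445, (nd [(3789, (nd [(93, (nd [(1063, (nd [(720, (nd [(3534, (nd [(1678, (lf [(430, [4, 0, 0, 0, 0, 0, 4])]))]))]))]))]))]))]))]))])),
  (3320, (nd [(720, (nd [(3534, (nd [(1678, (nd [(430, (nd [(2940, (nd [(3664, (nd [(1091, (nd [(2115, (lf [(499, [5, 0, 0, 0, 0, 0, 4, 4])]))]))]))]))]))]))]))]))])),
  (3200, (nd [(1817, (nd [(1063, (nd [(1797, (nd [(2614, (nd [(93, (nd [(2799, (nd [(2940, (nd [(1396, (lf [(2505, [4, 0, 0, 0, 0, 0, 0, 4])]))]))]))]))]))]))]))]))])),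
  (720, (nd [(2799, (nd [(2940, (nd [(1396, (nd [(2505, (nd [(430, (nd [(3574, (nd [(3931, (nd [(625, (lf [(1023, [5, 0, 0, 0, 0, 0, 0, 4, 4])]))]))]))]))]))]))]))]))]))]))])),
  (3365, (nd [(804, (nd [(2505, (nd [(3656, (nd [(1678, (nd [(2940, (nd [(3320, (nd [(1396, (nd [(794, (nd [(2115, (nd [(3931, (lf [(4026, [0, 4, 4])]))]))]))]))]))]))]))]))])),
  (430, (nd [(2505, (nd [(1952, (nd [(3534, (nd [(1396, (nd [(1678, (nd [(1023, (nd [(3104, (nd [(1091, (lf [(625, [0, 0, 0, 0, 0, 0, 0, 0, 0, 0, 0, 4, 4])]))]))]))]))]))]))]))]))])),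
  (3656, (nd [(1952, (nd [(1396, (nd [(430, (nd [(720, (nd [(3320, (nd [(3104, (nd [(625, (nd [(499, (lf [(3664, [0, 0, 4, 4])]))]))]))]))]))]))]))]))])),
  (2614, (nd [(3410, (nd [(3789, (nd [(1063, (nd [(834, (nd [(1797, (nd [(3656, (nd [(1678, (nd [(2940, (lf [(3320, [1, 4])]))]))]))]))]))]))]))]))])),
  (1023, (nd [(794, (nd [(2115, (nd [(3931, (nd [(4026, (nd [(625, (nd [(3410, (nd [(3789, (nd [(1063, (lf [(834, [2])]))]))]))]))]))]))]))]))])),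
  (2799, (nd [(3534, (nd [(430, (nd [(3320, (nd [(3656, (nd [(2505, (nd [(1091, (nd [(499, (nd [(4026, (lf [(794, [0, 0, 0, 0, 0, 0, 0, 0, 4, 4])]))]))]))]))]))]))]))]))])),
  (2940, (nd [(430, (nd [(3656, (nd [(2799, (nd [(1678, (nd [(1952, (nd [(499, (nd [(794, (nd [(3574, (lf [(2115, [0, 0, 0, 0, 0, 0, 0, 0, 0, 0, 4, 4])]))]))]))]))]))]))]))]))])),
  (3534, (nd [(2940, (nd [(2505, (nd [(720, (nd [(1952, (nd [(3656, (nd [(3931, (nd [(1023, (nd [(3664, (lf [(3104, [0, 0, 0, 0, 0, 0, 0, 0, 0, 4, 4])]))]))]))]))]))]))]))]))])),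
  (93, (nd [(2614, (nd [(2944, (nd [(2445, (nd [(1797, (nd [(3789, (nd [(2505, (nd [(1952, (nd [(3534, (lf [(1396, [1, 0, 0, 0, 0, 0, 0, 0, 0, 0, 0, 4])]))]))]))]))]))]))]))]))])),
  (499, (nd [(1023, (nd [(3104, (nd [(1091, (nd [(625, (nd [(2115, (nd [(2614, (nd [(2944, (nd [(2445, (lf [(1797, [2, 0, 0, 0, 0, 0, 0, 0, 0, 0, 0])]))]))]))]))]))]))]))]))])),
  (1952, (nd [(1678, (nd [(3320, (nd [(2505, (nd [(2799, (nd [(720, (nd [(2115, (nd [(4026, (nd [(1023, (lf [(3574, [0, 0, 0, 4, 4])]))]))]))]))]))]))]))]))])),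
  (1396, (nd [(3320, (nd [(2799, (nd [(1952, (nd [(2940, (nd [(3534, (nd [(4026, (nd [(3574, (nd [(3104, (lf [(3931, [0, 0, 0, 0, 0, 4, 4])]))]))]))]))]))]))]))]))])),
  (1678, (nd [(1396, (nd [(720, (nd [(3656, (nd [(3534, (nd [(2799, (nd [(625, (nd [(3664, (nd [(794, (lf [(1091, [0, 0, 0, 0, 4, 4])]))]))]))]))]))]))]))]))])),
  (3410, (nd [(2944, (nd [(1797, (nd [(93, (nd [(3200, (nd [(834, (nd [(1952, (nd [(1396, (nd [(430, (lf [(720, [1, 0, 4])]))]))]))]))]))]))]))]))])),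
  (794, (nd [(3104, (nd [(625, (nd [(499, (nd [(3664, (nd [(4026, (nd [(2944, (nd [(1797, (nd [(93, (lf [(3200, [2, 0])]))]))]))]))]))]))]))]))])),
  (720, (nd [(2799, (nd [(2940, (nd [(1396, (nd [(2505, (nd [(430, (nd [(3574, (nd [(3931, (nd [(625, (lf [(1023, [0, 0, 0, 0, 0, 0, 0, 4, 4])]))]))]))]))]))]))]))]))])),
  (1817, (nd [(2445, (nd [(93, (nd [(834, (nd [(3410, (nd [(2614, (nd [(3534, (nd [(430, (nd [(3320, (lf [(3656, [1, 0, 0, 0, 0, 0, 0, 0, 4])]))]))]))]))]))]))]))]))])),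
  (3574, (nd [(1091, (nd [(499, (nd [(4026, (nd [(794, (nd [(1023, (nd [(2445, (nd [(93, (nd [(834, (lf [(3410, [2, 0, 0, 0, 0, 0, 0, 0])]))]))]))]))]))]))]))]))])),
  (3320, (nd [(720, (nd [(3534, (nd [(1678, (nd [(430, (nd [(2940, (nd [(3664, (nd [(1091, (nd [(2115, (lf [(499, [0, 0, 0, 0, 0, 0, 4, 4])]))]))]))]))]))]))]))]))])),
  (1063, (nd [(93, (nd [(3410, (nd [(1817, (nd [(3789, (nd [(2944, (nd [(430, (nd [(3656, (nd [(2799, (lf [(1678, [1, 0, 0, 0, 0, 0, 0, 0, 0, 0, 4])]))]))]))]))]))]))]))]))])),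
  (3931, (nd [(499, (nd [(794, (nd [(3574, (nd [(2115, (nd [(3104, (nd [(93, (nd [(3410, (nd [(1817, (lf [(3789, [2, 0, 0, 0, 0, 0, 0, 0, 0, 0])]))]))]))]))]))]))]))]))])),
  (2445, (nd [(1063, (nd [(2614, (nd [(3200, (nd [(2944, (nd [(3410, (nd [(2940, (nd [(2505, (nd [(720, (lf [(1952, [1, 0, 0, 0, 0, 0, 0, 0, 0, 4])]))]))]))]))]))]))]))]))])),
  (1091, (nd [(3931, (nd [(1023, (nd [(3664, (nd [(3104, (nd [(794, (nd [(1063, (nd [(2614, (nd [(3200, (lf [(2944, [2, 0, 0, 0, 0, 0, 0, 0, 0])]))]))]))]))]))]))]))]))])),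
  (3104, (nd [(2115, (nd [(4026, (nd [(1023, (nd [(3574, (nd [(3664, (nd [(3789, (nd [(834, (nd [(2614, (lf [(1817, [2, 0, 0])]))]))]))]))]))]))]))]))])),
  (2944, (nd [(3789, (nd [(834, (nd [(2614, (nd [(1817, (nd [(3200, (nd [(1678, (nd [(3320, (nd [(2505, (lf [(2799, [1, 0, 0, 4])]))]))]))]))]))]))]))]))])),
  (1797, (nd [(834, (nd [(1817, (nd [(2944, (nd [(1063, (nd [(2445, (nd [(3320, (nd [(2799, (nd [(1952, (lf [(2940, [1, 0, 0, 0, 0, 4])]))]))]))]))]))]))]))]))])),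
  (625, (nd [(4026, (nd [(3574, (nd [(3104, (nd [(3931, (nd [(1091, (nd [(834, (nd [(1817, (nd [(2944, (lf [(1063, [2, 0, 0, 0, 0])]))]))]))]))]))]))]))]))])),
  (3789, (nd [(1797, (nd [(3200, (nd [(3410, (nd [(2445, (nd [(1817, (nd [(1396, (nd [(720, (nd [(3656, (lf [(3534, [1, 0, 0, 0, 4])]))]))]))]))]))]))]))]))])),
  (2115, (nd [(625, (nd [(3664, (nd [(794, (nd [(1091, (nd [(3574, (nd [(1797, (nd [(3200, (nd [(3410, (lf [(2445, [2, 0, 0, 0])]))]))]))]))]))]))]))]))])),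
  (3200, (nd [(1817, (nd [(1063, (nd [(1797, (nd [(2614, (nd [(93, (nd [(2799, (nd [(2940, (nd [(1396, (lf [(2505, [1, 0, 0, 0, 0, 0, 0, 4])]))]))]))]))]))]))]))]))])),
  (3664, (nd [(3574, (nd [(3931, (nd [(625, (nd [(1023, (nd [(499, (nd [(1817, (nd [(1063, (nd [(1797, (lf [(2614, [2, 0, 0, 0, 0, 0, 0])]))]))]))]))]))]))]))]))])),
  (834, (nd [(3200, (nd [(2445, (nd [(3789, (nd [(93, (nd [(1063, (nd [(720, (nd [(3534, (nd [(1678, (lf [(430, [1, 0, 0, 0, 0, 0, 4])]))]))]))]))]))]))]))]))])),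
  (4026, (nd [(3664, (nd [(1091, (nd [(2115, (nd [(499, (nd [(3931, (nd [(3200, (nd [(2445, (nd [(3789, (lf [(93, [2, 0, 0, 0, 0, 0])]))]))]))]))]))]))]))]))]))])),
  (3585, (nd [(2505, (nd [(3656, (nd [(1678, (nd [(2940, (nd [(3320, (nd [(1396, (nd [(794, (nd [(2115, (nd [(3931, (lf [(4026, [3, 4, 4])]))]))]))]))]))]))]))]))])),
  (3656, (nd [(1952, (nd [(1396, (nd [(430, (nd [(720, (nd [(3320, (nd [(3104, (nd [(625, (nd [(499, (lf [(3664, [3, 0, 4, 4])]))]))]))]))]))]))]))]))])),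
  (430, (nd [(2505, (nd [(1952, (nd [(3534, (nd [(1396, (nd [(1678, (nd [(1023, (nd [(3104, (nd [(1091, (lf [(625, [3, 0, 0, 0, 0, 0, 0, 0, 0, 0, 0, 4, 4])]))]))]))]))]))]))]))]))])),
  (1023, (nd [(794, (nd [(2115, (nd [(3931, (nd [(4026, (nd [(625, (nd [(3410, (nd [(3789, (nd [(1063, (lf [(834, [4])]))]))]))]))]))]))]))]))])),
  (2614, (nd [(3410, (nd [(3789, (nd [(1063, (nd [(834, (nd [(1797, (nd [(3656, (nd [(1678, (nd [(2940, (lf [(3320, [5, 4])]))]))]))]))]))]))]))]))])),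
  (1396, (nd [(3320, (nd [(2799, (nd [(1952, (nd [(2940, (nd [(3534, (nd [(4026, (nd [(3574, (nd [(3104, (lf [(3931, [3, 0, 0, 0, 0, 4, 4])]))]))]))]))]))]))]))]))])),
  (1952, (nd [(1678, (nd [(3320, (nd [(2505, (nd [(2799, (nd [(720, (nd [(2115, (nd [(4026, (nd [(1023, (lf [(3574, [3, 0, 0, 4, 4])]))]))]))]))]))]))]))]))])),
  (1678, (nd [(1396, (nd [(720, (nd [(3656, (nd [(3534, (nd [(2799, (nd [(625, (nd [(3664, (nd [(794, (lf [(1091, [3, 0, 0, 0, 4, 4])]))]))]))]))]))]))]))]))])),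
  (794, (nd [(3104, (nd [(625, (nd [(499, (nd [(3664, (nd [(4026, (nd [(2944, (nd [(1797, (nd [(93, (lf [(3200, [4, 0])]))]))]))]))]))]))]))]))])),
  (3410, (nd [(2944, (nd [(1797, (nd [(93, (nd [(3200, (nd [(834, (nd [(1952, (nd [(1396, (nd [(430, (lf [(720, [5, 0, 4])]))]))]))]))]))]))]))]))])),
  (2940, (nd [(430, (nd [(3656, (nd [(2799, (nd [(1678, (nd [(1952, (nd [(499, (nd [(794, (nd [(3574, (lf [(2115, [3, 0, 0, 0, 0, 0, 0, 0, 0, 0, 4, 4])]))]))]))]))]))]))]))]))])),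
  (2799, (nd [(3534, (nd [(430, (nd [(3320, (nd [(3656, (nd [(2505, (nd [(1091, (nd [(499, (nd [(4026, (lf [(794, [3, 0, 0, 0, 0, 0, 0, 0, 4, 4])]))]))]))]))]))]))]))]))])),
  (3534, (nd [(2940, (nd [(2505, (nd [(720, (nd [(1952, (nd [(3656, (nd [(3931, (nd [(1023, (nd [(3664, (lf [(3104, [3, 0, 0, 0, 0, 0, 0, 0, 0, 4, 4])]))]))]))]))]))]))]))]))])),
  (499, (nd [(1023, (nd [(3104, (nd [(1091, (nd [(625, (nd [(2115, (nd [(2614, (nd [(2944, (nd [(2445, (lf [(1797, [4, 0, 0, 0, 0, 0, 0, 0, 0, 0, 0])]))]))]))]))]))]))]))]))])),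
  (93, (nd [(2614, (nd [(2944, (nd [(2445, (nd [(1797, (nd [(3789, (nd [(2505, (nd [(1952, (nd [(3534, (lf [(1396, [5, 0, 0, 0, 0, 0, 0, 0, 0, 0, 0, 4])]))]))]))]))]))]))]))]))])),
  (3320, (nd [(720, (nd [(3534, (nd [(1678, (nd [(430, (nd [(2940, (nd [(3664, (nd [(1091, (nd [(2115, (lf [(499, [3, 0, 0, 0, 0, 0, 4, 4])]))]))]))]))]))]))]))]))])),
  (625, (nd [(4026, (nd [(3574, (nd [(3104, (nd [(3931, (nd [(1091, (nd [(834, (nd [(1817, (nd [(2944, (lf [(1063, [4, 0, 0, 0, 0])]))]))]))]))]))]))]))]))])),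
  (1797, (nd [(834, (nd [(1817, (nd [(2944, (nd [(1063, (nd [(2445, (nd [(3320, (nd [(2799, (nd [(1952, (lf [(2940, [5, 0, 0, 0, 0, 4])]))]))]))]))]))]))]))]))])),
  (720, (nd [(2799, (nd [(2940, (nd [(1396, (nd [(2505, (nd [(430, (nd [(3574, (nd [(3931, (nd [(625, (lf [(1023, [3, 0, 0, 0, 0, 0, 0, 4, 4])]))]))]))]))]))]))]))]))])),
  (3104, (nd [(2115, (nd [(4026, (nd [(1023, (nd [(3574, (nd [(3664, (nd [(3789, (nd [(834, (nd [(2614, (lf [(1817, [4, 0, 0])]))]))]))]))]))]))]))]))])),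
  (2944, (nd [(3789, (nd [(834, (nd [(2614, (nd [(1817, (nd [(3200, (nd [(1678, (nd [(3320, (nd [(2505, (lf [(2799, [5, 0, 0, 4])]))]))]))]))]))]))]))]))])),
  (2115, (nd [(625, (nd [(3664, (nd [(794, (nd [(1091, (nd [(3574, (nd [(1797, (nd [(3200, (nd [(3410, (lf [(2445, [4, 0, 0, 0])]))]))]))]))]))]))]))]))])),
  (3789, (nd [(1797, (nd [(3200, (nd [(3410, (nd [(2445, (nd [(1817, (nd [(1396, (nd [(720, (nd [(3656, (lf [(3534, [5, 0, 0, 0, 4])]))]))]))]))]))]))]))]))])),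
  (1063, (nd [(93, (nd [(3410, (nd [(1817, (nd [(3789, (nd [(2944, (nd [(430, (nd [(3656, (nd [(2799, (lf [(1678, [5, 0, 0, 0, 0, 0, 0, 0, 0, 0, 4])]))]))]))]))]))]))]))]))])),
  (3931, (nd [(499, (nd [(794, (nd [(3574, (nd [(2115, (nd [(3104, (nd [(93, (nd [(3410, (nd [(1817, (lf [(3789, [4, 0, 0, 0, 0, 0, 0, 0, 0, 0])]))]))]))]))]))]))]))]))])),
  (3574, (nd [(1091, (nd [(499, (nd [(4026, (nd [(794, (nd [(1023, (nd [(2445, (nd [(93, (nd [(834, (lf [(3410, [4, 0, 0, 0, 0, 0, 0, 0])]))]))]))]))]))]))]))]))])),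
  (1817, (nd [(2445, (nd [(93, (nd [(834, (nd [(3410, (nd [(2614, (nd [(3534, (nd [(430, (nd [(3320, (lf [(3656, [5, 0, 0, 0, 0, 0, 0, 0, 4])]))]))]))]))]))]))]))]))])),
  (1091, (nd [(3931, (nd [(1023, (nd [(3664, (nd [(3104, (nd [(794, (nd [(1063, (nd [(2614, (nd [(3200, (lf [(2944, [4, 0, 0, 0, 0, 0, 0, 0, 0])]))]))]))]))]))]))]))]))])),
  (2445, (nd [(1063, (nd [(2614, (nd [(3200, (nd [(2944, (nd [(3410, (nd [(2940, (nd [(2505, (nd [(720, (lf [(1952, [5, 0, 0, 0, 0, 0, 0, 0, 0, 4])]))]))]))]))]))]))]))]))])),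
  (4026, (nd [(3664, (nd [(1091, (nd [(2115, (nd [(499, (nd [(3931, (nd [(3200, (nd [(2445, (nd [(3789, (lf [(93, [4, 0, 0, 0, 0, 0])]))]))]))]))]))]))]))]))])),
  (834, (nd [(3200, (nd [(2445, (nd [(3789, (nd [(93, (nd [(1063, (nd [(720, (nd [(3534, (nd [(1678, (lf [(430, [5, 0, 0, 0, 0, 0, 4])]))]))]))]))]))]))]))]))])),
  (3664, (nd [(3574, (nd [(3931, (nd [(625, (nd [(1023, (nd [(499, (nd [(1817, (nd [(1063, (nd [(1797, (lf [(2614, [4, 0, 0, 0, 0, 0, 0])]))]))]))]))]))]))]))]))])),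
  (3200, (nd [(1817, (nd [(1063, (nd [(1797, (nd [(2614, (nd [(93, (nd [(2799, (nd [(2940, (nd [(1396, (lf [(2505, [5, 0, 0, 0, 0, 0, 0, 4])]))]))]))]))]))]))]))]))]))]))])),
  (3585, (nd [(3365, (nd [(2614, (nd [(3410, (nd [(3789, (nd [(1063, (nd [(834, (nd [(1797, (nd [(3656, (nd [(1678, (nd [(2940, (lf [(3320, [0, 4])]))]))]))]))]))]))]))]))])),
  (93, (nd [(2614, (nd [(2944, (nd [(2445, (nd [(1797, (nd [(3789, (nd [(2505, (nd [(1952, (nd [(3534, (lf [(1396, [0, 0, 0, 0, 0, 0, 0, 0, 0, 0, 0, 4])]))]))]))]))]))]))]))]))])),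
  (3410, (nd [(2944, (nd [(1797, (nd [(93, (nd [(3200, (nd [(834, (nd [(1952, (nd [(1396, (nd [(430, (lf [(720, [0, 0, 4])]))]))]))]))]))]))]))]))])),
  (1023, (nd [(794, (nd [(2115, (nd [(3931, (nd [(4026, (nd [(625, (nd [(3410, (nd [(3789, (nd [(1063, (lf [(834, [1])]))]))]))]))]))]))]))]))])),
  (2505, (nd [(3656, (nd [(1678, (nd [(2940, (nd [(3320, (nd [(1396, (nd [(794, (nd [(2115, (nd [(3931, (lf [(4026, [2, 4, 4])]))]))]))]))]))]))]))]))])),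
  (1817, (nd [(2445, (nd [(93, (nd [(834, (nd [(3410, (nd [(2614, (nd [(3534, (nd [(430, (nd [(3320, (lf [(3656, [0, 0, 0, 0, 0, 0, 0, 0, 4])]))]))]))]))]))]))]))]))])),
  (1063, (nd [(93, (nd [(3410, (nd [(1817, (nd [(3789, (nd [(2944, (nd [(430, (nd [(3656, (nd [(2799, (lf [(1678, [0, 0, 0, 0, 0, 0, 0, 0, 0, 0, 4])]))]))]))]))]))]))]))]))])),
  (2445, (nd [(1063, (nd [(2614, (nd [(3200, (nd [(2944, (nd [(3410, (nd [(2940, (nd [(2505, (nd [(720, (lf [(1952, [0, 0, 0, 0, 0, 0, 0, 0, 0, 4])]))]))]))]))]))]))]))]))])),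
  (499, (nd [(1023, (nd [(3104, (nd [(1091, (nd [(625, (nd [(2115, (nd [(2614, (nd [(2944, (nd [(2445, (lf [(1797, [1, 0, 0, 0, 0, 0, 0, 0, 0, 0, 0])]))]))]))]))]))]))]))]))])),
  (430, (nd [(2505, (nd [(1952, (nd [(3534, (nd [(1396, (nd [(1678, (nd [(1023, (nd [(3104, (nd [(1091, (lf [(625, [2, 0, 0, 0, 0, 0, 0, 0, 0, 0, 0, 4, 4])]))]))]))]))]))]))]))]))])),
  (2944, (nd [(3789, (nd [(834, (nd [(2614, (nd [(1817, (nd [(3200, (nd [(1678, (nd [(3320, (nd [(2505, (lf [(2799, [0, 0, 0, 4])]))]))]))]))]))]))]))]))])),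
  (1797, (nd [(834, (nd [(1817, (nd [(2944, (nd [(1063, (nd [(2445, (nd [(3320, (nd [(2799, (nd [(1952, (lf [(2940, [0, 0, 0, 0, 0, 4])]))]))]))]))]))]))]))]))])),
  (3789, (nd [(1797, (nd [(3200, (nd [(3410, (nd [(2445, (nd [(1817, (nd [(1396, (nd [(720, (nd [(3656, (lf [(3534, [0, 0, 0, 0, 4])]))]))]))]))]))]))]))]))])),
  (794, (nd [(3104, (nd [(625, (nd [(499, (nd [(3664, (nd [(4026, (nd [(2944, (nd [(1797, (nd [(93, (lf [(3200, [1, 0])]))]))]))]))]))]))]))]))])),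
  (3656, (nd [(1952, (nd [(1396, (nd [(430, (nd [(720, (nd [(3320, (nd [(3104, (nd [(625, (nd [(499, (lf [(3664, [2, 0, 4, 4])]))]))]))]))]))]))]))]))])),
  (3200, (nd [(1817, (nd [(1063, (nd [(1797, (nd [(2614, (nd [(93, (nd [(2799, (nd [(2940, (nd [(1396, (lf [(2505, [0, 0, 0, 0, 0, 0, 0, 4])]))]))]))]))]))]))]))]))])),
  (3574, (nd [(1091, (nd [(499, (nd [(4026, (nd [(794, (nd [(1023, (nd [(2445, (nd [(93, (nd [(834, (lf [(3410, [1, 0, 0, 0, 0, 0, 0, 0])]))]))]))]))]))]))]))]))])),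
  (2799, (nd [(3534, (nd [(430, (nd [(3320, (nd [(3656, (nd [(2505, (nd [(1091, (nd [(499, (nd [(4026, (lf [(794, [2, 0, 0, 0, 0, 0, 0, 0, 4, 4])]))]))]))]))]))]))]))]))])),
  (834, (nd [(3200, (nd [(2445, (nd [(3789, (nd [(93, (nd [(1063, (nd [(720, (nd [(3534, (nd [(1678, (lf [(430, [0, 0, 0, 0, 0, 0, 4])]))]))]))]))]))]))]))]))])),
  (3931, (nd [(499, (nd [(794, (nd [(3574, (nd [(2115, (nd [(3104, (nd [(93, (nd [(3410, (nd [(1817, (lf [(3789, [1, 0, 0, 0, 0, 0, 0, 0, 0, 0])]))]))]))]))]))]))]))]))])),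
  (2940, (nd [(430, (nd [(3656, (nd [(2799, (nd [(1678, (nd [(1952, (nd [(499, (nd [(794, (nd [(3574, (lf [(2115, [2, 0, 0, 0, 0, 0, 0, 0, 0, 0, 4, 4])]))]))]))]))]))]))]))]))])),
  (1091, (nd [(3931, (nd [(1023, (nd [(3664, (nd [(3104, (nd [(794, (nd [(1063, (nd [(2614, (nd [(3200, (lf [(2944, [1, 0, 0, 0, 0, 0, 0, 0, 0])]))]))]))]))]))]))]))]))])),
  (3534, (nd [(2940, (nd [(2505, (nd [(720, (nd [(1952, (nd [(3656, (nd [(3931, (nd [(1023, (nd [(3664, (lf [(3104, [2, 0, 0, 0, 0, 0, 0, 0, 0, 4, 4])]))]))]))]))]))]))]))]))])),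
  (1952, (nd [(1678, (nd [(3320, (nd [(2505, (nd [(2799, (nd [(720, (nd [(2115, (nd [(4026, (nd [(1023, (lf [(3574, [2, 0, 0, 4, 4])]))]))]))]))]))]))]))]))])),
  (3104, (nd [(2115, (nd [(4026, (nd [(1023, (nd [(3574, (nd [(3664, (nd [(3789, (nd [(834, (nd [(2614, (lf [(1817, [1, 0, 0])]))]))]))]))]))]))]))]))])),
  (625, (nd [(4026, (nd [(3574, (nd [(3104, (nd [(3931, (nd [(1091, (nd [(834, (nd [(1817, (nd [(2944, (lf [(1063, [1, 0, 0, 0, 0])]))]))]))]))]))]))]))]))])),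
  (1396, (nd [(3320, (nd [(2799, (nd [(1952, (nd [(2940, (nd [(3534, (nd [(4026, (nd [(3574, (nd [(3104, (lf [(3931, [2, 0, 0, 0, 0, 4, 4])]))]))]))]))]))]))]))]))])),
  (2115, (nd [(625, (nd [(3664, (nd [(794, (nd [(1091, (nd [(3574, (nd [(1797, (nd [(3200, (nd [(3410, (lf [(2445, [1, 0, 0, 0])]))]))]))]))]))]))]))]))])),
  (1678, (nd [(1396, (nd [(720, (nd [(3656, (nd [(3534, (nd [(2799, (nd [(625, (nd [(3664, (nd [(794, (lf [(1091, [2, 0, 0, 0, 4, 4])]))]))]))]))]))]))]))]))])),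
  (3664, (nd [(3574, (nd [(3931, (nd [(625, (nd [(1023, (nd [(499, (nd [(1817, (nd [(1063, (nd [(1797, (lf [(2614, [1, 0, 0, 0, 0, 0, 0])]))]))]))]))]))]))]))]))])),
  (720, (nd [(2799, (nd [(2940, (nd [(1396, (nd [(2505, (nd [(430, (nd [(3574, (nd [(3931, (nd [(625, (lf [(1023, [2, 0, 0, 0, 0, 0, 0, 4, 4])]))]))]))]))]))]))]))]))])),
  (4026, (nd [(3664, (nd [(1091, (nd [(2115, (nd [(499, (nd [(3931, (nd [(3200, (nd [(2445, (nd [(3789, (lf [(93, [1, 0, 0, 0, 0, 0])]))]))]))]))]))]))]))]))])),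
  (3320, (nd [(720, (nd [(3534, (nd [(1678, (nd [(430, (nd [(2940, (nd [(3664, (nd [(1091, (nd [(2115, (lf [(499, [2, 0, 0, 0, 0, 0, 4, 4])]))]))]))]))]))]))]))]))]))])),
  (804, (nd [(2614, (nd [(3410, (nd [(3789, (nd [(1063, (nd [(834, (nd [(1797, (nd [(3656, (nd [(1678, (nd [(2940, (lf [(3320, [3, 4])]))]))]))]))]))]))]))]))])),
  (3410, (nd [(2944, (nd [(1797, (nd [(93, (nd [(3200, (nd [(834, (nd [(1952, (nd [(1396, (nd [(430, (lf [(720, [3, 0, 4])]))]))]))]))]))]))]))]))])),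
  (93, (nd [(2614, (nd [(2944, (nd [(2445, (nd [(1797, (nd [(3789, (nd [(2505, (nd [(1952, (nd [(3534, (lf [(1396, [3, 0, 0, 0, 0, 0, 0, 0, 0, 0, 0, 4])]))]))]))]))]))]))]))]))])),
  (2505, (nd [(3656, (nd [(1678, (nd [(2940, (nd [(3320, (nd [(1396, (nd [(794, (nd [(2115, (nd [(3931, (lf [(4026, [4, 4, 4])]))]))]))]))]))]))]))]))])),
  (1023, (nd [(794, (nd [(2115, (nd [(3931, (nd [(4026, (nd [(625, (nd [(3410, (nd [(3789, (nd [(1063, (lf [(834, [5])]))]))]))]))]))]))]))]))])),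
  (1797, (nd [(834, (nd [(1817, (nd [(2944, (nd [(1063, (nd [(2445, (nd [(3320, (nd [(2799, (nd [(1952, (lf [(2940, [3, 0, 0, 0, 0, 4])]))]))]))]))]))]))]))]))])),
  (2944, (nd [(3789, (nd [(834, (nd [(2614, (nd [(1817, (nd [(3200, (nd [(1678, (nd [(3320, (nd [(2505, (lf [(2799, [3, 0, 0, 4])]))]))]))]))]))]))]))]))])),
  (3789, (nd [(1797, (nd [(3200, (nd [(3410, (nd [(2445, (nd [(1817, (nd [(1396, (nd [(720, (nd [(3656, (lf [(3534, [3, 0, 0, 0, 4])]))]))]))]))]))]))]))]))])),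
  (3656, (nd [(1952, (nd [(1396, (nd [(430, (nd [(720, (nd [(3320, (nd [(3104, (nd [(625, (nd [(499, (lf [(3664, [4, 0, 4, 4])]))]))]))]))]))]))]))]))])),
  (794, (nd [(3104, (nd [(625, (nd [(499, (nd [(3664, (nd [(4026, (nd [(2944, (nd [(1797, (nd [(93, (lf [(3200, [5, 0])]))]))]))]))]))]))]))]))])),
  (1063, (nd [(93, (nd [(3410, (nd [(1817, (nd [(3789, (nd [(2944, (nd [(430, (nd [(3656, (nd [(2799, (lf [(1678, [3, 0, 0, 0, 0, 0, 0, 0, 0, 0, 4])]))]))]))]))]))]))]))]))])),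
  (1817, (nd [(2445, (nd [(93, (nd [(834, (nd [(3410, (nd [(2614, (nd [(3534, (nd [(430, (nd [(3320, (lf [(3656, [3, 0, 0, 0, 0, 0, 0, 0, 4])]))]))]))]))]))]))]))]))])),
  (2445, (nd [(1063, (nd [(2614, (nd [(3200, (nd [(2944, (nd [(3410, (nd [(2940, (nd [(2505, (nd [(720, (lf [(1952, [3, 0, 0, 0, 0, 0, 0, 0, 0, 4])]))]))]))]))]))]))]))]))])),
  (430, (nd [(2505, (nd [(1952, (nd [(3534, (nd [(1396, (nd [(1678, (nd [(1023, (nd [(3104, (nd [(1091, (lf [(625, [4, 0, 0, 0, 0, 0, 0, 0, 0, 0, 0, 4, 4])]))]))]))]))]))]))]))]))])),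
  (499, (nd [(1023, (nd [(3104, (nd [(1091, (nd [(625, (nd [(2115, (nd [(2614, (nd [(2944, (nd [(2445, (lf [(1797, [5, 0, 0, 0, 0, 0, 0, 0, 0, 0, 0])]))]))]))]))]))]))]))]))])),
  (834, (nd [(3200, (nd [(2445, (nd [(3789, (nd [(93, (nd [(1063, (nd [(720, (nd [(3534, (nd [(1678, (lf [(430, [3, 0, 0, 0, 0, 0, 4])]))]))]))]))]))]))]))]))])),
  (1396, (nd [(3320, (nd [(2799, (nd [(1952, (nd [(2940, (nd [(3534, (nd [(4026, (nd [(3574, (nd [(3104, (lf [(3931, [4, 0, 0, 0, 0, 4, 4])]))]))]))]))]))]))]))]))])),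
  (625, (nd [(4026, (nd [(3574, (nd [(3104, (nd [(3931, (nd [(1091, (nd [(834, (nd [(1817, (nd [(2944, (lf [(1063, [5, 0, 0, 0, 0])]))]))]))]))]))]))]))]))])),
  (3200, (nd [(1817, (nd [(1063, (nd [(1797, (nd [(2614, (nd [(93, (nd [(2799, (nd [(2940, (nd [(1396, (lf [(2505, [3, 0, 0, 0, 0, 0, 0, 4])]))]))]))]))]))]))]))]))])),
  (1952, (nd [(1678, (nd [(3320, (nd [(2505, (nd [(2799, (nd [(720, (nd [(2115, (nd [(4026, (nd [(1023, (lf [(3574, [4, 0, 0, 4, 4])]))]))]))]))]))]))]))]))])),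
  (3104, (nd [(2115, (nd [(4026, (nd [(1023, (nd [(3574, (nd [(3664, (nd [(3789, (nd [(834, (nd [(2614, (lf [(1817, [5, 0, 0])]))]))]))]))]))]))]))]))])),
  (1678, (nd [(1396, (nd [(720, (nd [(3656, (nd [(3534, (nd [(2799, (nd [(625, (nd [(3664, (nd [(794, (lf [(1091, [4, 0, 0, 0, 4, 4])]))]))]))]))]))]))]))]))])),
  (2115, (nd [(625, (nd [(3664, (nd [(794, (nd [(1091, (nd [(3574, (nd [(1797, (nd [(3200, (nd [(3410, (lf [(2445, [5, 0, 0, 0])]))]))]))]))]))]))]))]))])),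
  (3931, (nd [(499, (nd [(794, (nd [(3574, (nd [(2115, (nd [(3104, (nd [(93, (nd [(3410, (nd [(1817, (lf [(3789, [5, 0, 0, 0, 0, 0, 0, 0, 0, 0])]))]))]))]))]))]))]))]))])),
  (2940, (nd [(430, (nd [(3656, (nd [(2799, (nd [(1678, (nd [(1952, (nd [(499, (nd [(794, (nd [(3574, (lf [(2115, [4, 0, 0, 0, 0, 0, 0, 0, 0, 0, 4, 4])]))]))]))]))]))]))]))]))])),
  (2799, (nd [(3534, (nd [(430, (nd [(3320, (nd [(3656, (nd [(2505, (nd [(1091, (nd [(499, (nd [(4026, (lf [(794, [4, 0, 0, 0, 0, 0, 0, 0, 4, 4])]))]))]))]))]))]))]))]))])),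
  (3574, (nd [(1091, (nd [(499, (nd [(4026, (nd [(794, (nd [(1023, (nd [(2445, (nd [(93, (nd [(834, (lf [(3410, [5, 0, 0, 0, 0, 0, 0, 0])]))]))]))]))]))]))]))]))])),
  (3534, (nd [(2940, (nd [(2505, (nd [(720, (nd [(1952, (nd [(3656, (nd [(3931, (nd [(1023, (nd [(3664, (lf [(3104, [4, 0, 0, 0, 0, 0, 0, 0, 0, 4, 4])]))]))]))]))]))]))]))]))])),
  (1091, (nd [(3931, (nd [(1023, (nd [(3664, (nd [(3104, (nd [(794, (nd [(1063, (nd [(2614, (nd [(3200, (lf [(2944, [5, 0, 0, 0, 0, 0, 0, 0, 0])]))]))]))]))]))]))]))]))])),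
  (3320, (nd [(720, (nd [(3534, (nd [(1678, (nd [(430, (nd [(2940, (nd [(3664, (nd [(1091, (nd [(2115, (lf [(499, [4, 0, 0, 0, 0, 0, 4, 4])]))]))]))]))]))]))]))]))])),
  (4026, (nd [(3664, (nd [(1091, (nd [(2115, (nd [(499, (nd [(3931, (nd [(3200, (nd [(2445, (nd [(3789, (lf [(93, [5, 0, 0, 0, 0, 0])]))]))]))]))]))]))]))]))])),
  (720, (nd [(2799, (nd [(2940, (nd [(1396, (nd [(2505, (nd [(430, (nd [(3574, (nd [(3931, (nd [(625, (lf [(1023, [4, 0, 0, 0, 0, 0, 0, 4, 4])]))]))]))]))]))]))]))]))])),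
  (3664, (nd [(3574, (nd [(3931, (nd [(625, (nd [(1023, (nd [(499, (nd [(1817, (nd [(1063, (nd [(1797, (lf [(2614, [5, 0, 0, 0, 0, 0, 0])]))]))]))]))]))]))]))]))]))]))]))]) .nil)

theorem s_c : srch vtt vch [[0]] [[0]] [] [] (okR 6 [0, 2]) (mkL [[], [10], [11], [12], [12, 10], [12, 11]]) ts_c ct_c = true := by
  decide +kernel



end Cfsg.Agent.Lib.J4V
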