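import Cfsg.Agent.Lib.J4VT

/-! Certificates. -/

set_option autoImplicit false
set_option maxRecDepth 100000

namespace Cfsg.Agent.Lib.J4V

open Cfsg.Agent.Lib.PermNet Cfsg.Agent.Lib.Words Cfsg.Agent.Lib.PermGroup Cfsg.Agent.Lib.DCE Cfsg.Agent.Lib.PermModel Cfsg.Agent.Lib.BT

noncomputable def ts_u0 : List Tst := [⟨[], [⟨0, [0], [2], [2, 2]⟩], [⟨0, [2], [4], [4]⟩, ⟨0, [3], [5], [5]⟩, ⟨0, [0, 2], [2, 4], [2, 2, 4]⟩]⟩,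
  ⟨[⟨0, [3], [5], [5]⟩], [], []⟩,
  ⟨[], [⟨0, [0], [2], [2, 2]⟩], [⟨0, [2], [4], [4]⟩, ⟨0, [3], [5], [5]⟩, ⟨0, [0, 2], [2, 4], [2, 2, 4]⟩]⟩,
  ⟨[], [], [⟨0, [2], [4], [4]⟩, ⟨0, [3], [5], [5]⟩, ⟨0, [0], [2], [2, 2]⟩]⟩,
  ⟨[⟨0, [1], [3], [3, 3]⟩], [], []⟩,
  ⟨[⟨0, [1], [3], [3, 3]⟩], [], []⟩,
  ⟨[⟨0, [1], [3], [3, 3]⟩], [], []⟩,
  ⟨[⟨3, [0], [2], [2, 2]⟩], [], []⟩,
  ⟨[⟨4, [3], [5], [5]⟩], [], []⟩,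
  ⟨[⟨4, [3], [5], [5]⟩], [], []⟩,
  ⟨[⟨4, [3], [5], [5]⟩], [], []⟩,
  ⟨[⟨4, [3], [5], [5]⟩], [], []⟩]

noncomputable def ct_u0 : CT := (.node 0 [] [] (nat_lit 0x0) (nd [(1023, (nd [(2614, (nd [(804, (nd [(1471, (nd [(1383, (nd [(1753, (nd [(2534, (nd [(706, (nd [(2518, (nd [(3564, (nd [(2543, (lf [(3897, [0])]))]))]))]))]))]))]))]))]))]))])),
  (2505, (nd [(1023, (nd [(3585, (nd [(3006, (nd [(2918, (nd [(2264, (nd [(2023, (nd [(3267, (nd [(1267, (nd [(201, (nd [(1226, (lf [(540, [0, 10])]))]))]))]))]))]))]))]))]))]))])),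
  (2614, (nd [(2505, (nd [(3365, (nd [(1691, (nd [(1603, (nd [(1533, (nd [(2754, (nd [(486, (nd [(2007, (nd [(1005, (nd [(2030, (lf [(312, [0, 10, 10])]))]))]))]))]))]))]))]))]))]))]))]) .nil)

theorem s_u0 : srch vtt vch [[2], [4]] [[2, 2], [4]] [[1000, 1000, 1000, 1000], [0, 1000, 0, 1000, 0, 1000, 0, 1000, 0, 1000, 0, 1000, 0, 1000, 0, 1000, 0, 1000, 0, 1000, 0, 1000, 0, 1000, 0, 1000, 0, 1000, 0, 1000], [0, 1001, 0, 1001, 0, 1001, 0, 1001, 0, 1001, 0, 1001, 0, 1001, 0, 1001, 0, 1001, 0, 1001, 0, 1001, 0, 1001, 0, 1001, 0, 1001, 0, 1001], [0, 0, 1000, 1000, 0, 0, 1000, 1000, 0, 0, 1000, 1000, 0, 0, 1000, 1000, 0, 0, 1000, 1000, 0, 0, 1000, 1000, 0, 0, 1000, 1000, 0, 0, 1000, 1000, 0, 0, 1000, 1000]] [] (okR 1 [5]) (mkC [[6]]) ts_u0 ct_u0 = true := by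
  decide +kernel

noncomputable def ts_u1 : List Tst := [⟨[], [⟨0, [2], [14], [14]⟩, ⟨0, [0], [2], [2, 2]⟩], []⟩,
  ⟨[], [⟨0, [2], [14], [14]⟩, ⟨0, [0], [2], [2, 2]⟩], []⟩,
  ⟨[], [⟨0, [0], [2], [2, 2]⟩], [⟨0, [2], [14], [14]⟩, ⟨0, [3], [15], [15]⟩, ⟨0, [0, 2], [2, 14], [2, 2, 14]⟩]⟩,
  ⟨[], [], [⟨0, [2], [14], [14]⟩, ⟨0, [3], [15], [15]⟩, ⟨0, [0], [2], [2, 2]⟩]⟩,
  ⟨[⟨0, [1], [3], [3, 3]⟩], [], []⟩,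
  ⟨[⟨0, [1], [3], [3, 3]⟩], [], []⟩,
  ⟨[⟨0, [1], [3], [3, 3]⟩], [], []⟩,
  ⟨[⟨3, [0], [2], [2, 2]⟩], [], []⟩,
  ⟨[⟨4, [3], [15], [15]⟩], [], []⟩,
  ⟨[⟨4, [3], [15], [15]⟩], [], []⟩,
  ⟨[⟨4, [3], [15], [15]⟩], [], []⟩,
  ⟨[⟨4, [3], [15], [15]⟩], [], []⟩]

noncomputable def ct_u1 : CT := .nil

theorem s_u1 : srch vtt vch [[2], [14]] [[2, 2], [14]] [[1000, 1000, 1000, 1000], [0, 1000, 0, 1000, 0, 1000, 0, 1000, 0, 1000, 0, 1000, 0, 1000, 0, 1000, 0, 1000, 0, 1000, 0, 1000, 0, 1000, 0, 1000, 0, 1000, 0, 1000], [0, 1001, 0, 1001, 0, 1001, 0, 1001, 0, 1001, 0, 1001, 0, 1001, 0, 1001, 0, 1001, 0, 1001, 0, 1001, 0, 1001, 0, 1001, 0, 1001, 0, 1001], [0, 0, 1000, 1000, 0, 0, 1000, 1000, 0, 0, 1000, 1000, 0, 0, 1000, 1000, 0, 0, 1000, 1000, 0, 0, 1000, 1000, 0, 0, 1000, 1000,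 0, 0, 1000, 1000, 0, 0, 1000, 1000]] [] (okR 0 []) (mkC []) ts_u1 ct_u1 = true := by
  decide +kernel



end Cfsg.Agent.Lib.J4V
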