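import Cfsg.Agent.Lib.J4V0
import Cfsg.Agent.Lib.J4V1
import Cfsg.Agent.Lib.J4V2
import Cfsg.Agent.Lib.J4V3
import Cfsg.Agent.Lib.J4V4

/-! Certificates. -/

set_option autoImplicit false
set_option maxRecDepth 100000

namespace Cfsg.Agent.Lib.J4V

open Cfsg.Agent.Lib.PermNet Cfsg.Agent.Lib.Words Cfsg.Agent.Lib.PermGroup Cfsg.Agent.Lib.DCE Cfsg.Agent.Lib.PermModel Cfsg.Agent.Lib.BT

theorem vTM : TM 7 (nat_lit 4096) (nat_lit 12) (nat_lit 4095) (nat_lit 38) vid 100055114296433049600 vth vdefs vch :=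
  ⟨vok, (all_append (vok.relsA _ vd0) (all_append (vok.relsA _ vd1) (all_append (vok.relsA _ vd2) (vok.relsA _ vd3)))), vc, by decide +kernel⟩

noncomputable def mt0 : ℕ := (nat_lit 0xba186491e7596c170e2aa4e0d15640)
noncomputable def mt1 : ℕ := (nat_lit 0xbb447305258ac957a276851d250d80)
noncomputable def mt2 : ℕ := (nat_lit 0xb894b48e9089acc2a1d299de1a91a0)
noncomputable def mt3 : ℕ := (nat_lit 0xbb4713a1f02a42ca566a3396295880)
noncomputable def mt4 : ℕ := (nat_lit 0xbdab49ca307b9ac5a928398a418820)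
noncomputable def mt6 : ℕ := (nat_lit 0xbc4614cacc23970120f534db4515e0)
noncomputable def mt7 : ℕ := (nat_lit 0xbc50434acc0b8b068e6a49c4faae80)
noncomputable def mt8 : ℕ := (nat_lit 0xba1a9a58ab34243792353ba6253020)
noncomputable def mt9 : ℕ := (nat_lit 0xbc9132b52e59aa280e963be2a61020)
noncomputable def mt10 : ℕ := (nat_lit 0xb88a681e54191315a1b664eaf72820)
noncomputable def mt11 : ℕ := (nat_lit 0xba0b03459320d27589aa952ae7d820)
noncomputable def mt12 : ℕ := (nat_lit 0xb8e9079d11230b3336d55264e58820)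
noncomputable def mt13 : ℕ := (nat_lit 0xba515616149914e19cd192dafb0820)
noncomputable def mt14 : ℕ := (nat_lit 0xbb4678b13033c885d6722ba9650820)
noncomputable def mt15 : ℕ := (nat_lit 0xb91454a27071ad258e2ca3ceda8820)
noncomputable def mt16 : ℕ := (nat_lit 0xb9e545b4a64c6b023d56431d318820)
noncomputable def mt17 : ℕ := (nat_lit 0xba1b4255cc516469a5e7b422b18820)
noncomputable def mt18 : ℕ := (nat_lit 0xba8cb9d9cf4152d24990a9e3418820)
noncomputable def mt19 : ℕ := (nat_lit 0xbc8e49a8a884589a59af355cb18820)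
noncomputable def mt20 : ℕ := (nat_lit 0xbb4c93ae2453ac893e8c9d4b018820)
noncomputable def mt22 : ℕ := (nat_lit 0xbc12ba18ad946c79b11553dc418820)
noncomputable def mt23 : ℕ := (nat_lit 0xbb5135bdd63160aa1ea964a2418820)
noncomputable def mid : ℕ := (nat_lit 0xbdab49ca307b9ac5a928398a418820)
noncomputable def mth : TT := (.node (nat_lit 12) (.node (nat_lit 6) (.node (nat_lit 3) (.node (nat_lit 1) (.leaf mt0) (.node (nat_lit 2) (.leaf mt1) (.leaf mt2))) (.node (nat_lit 4) (.leaf mt3) (.node (nat_lit 5) (.leaf mt4) (.leaf mt4)))) (.node (nat_lit 9) (.node (nat_lit 7) (.leaf mt6) (.node (nat_lit 8) (.leaf mt7) (.leaf mt8))) (.node (nat_lit 10) (.leaf mt9) (.node (nat_lit 11) (.leaf mt10) (.leaf mt11))))) (.node (nat_lit 18) (.node (nat_lit 15) (.node (nat_lit 13) (.leaf mt12) (.node (nat_lit 14) (.leaf mt13) (.leaf mt14))) (.node (nat_lit 16) (.leaf mt15) (.node (nat_lit 17) (.leaf mt16) (.leaf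 mt17)))) (.node (nat_lit 21) (.node (nat_lit 19) (.leaf mt18) (.node (nat_lit 20) (.leaf mt19) (.leaf mt20))) (.node (nat_lit 22) (.leaf mt20) (.node (nat_lit 23) (.leaf mt22) (.leaf mt23))))))
noncomputable abbrev mtt : TT := tabs (nat_lit 12) mth mid
def mdefs : List (List ℕ) := [[0, 0, 2], [0, 6, 1], [10, 8, 8], [8, 8, 10, 10, 8], [12, 14, 13], [14, 12, 15, 12], [15, 12, 14, 12, 15], [17, 18]]

def mch_0_0 : List (ℕ × List ℕ) := [(1, []), (18, [0]), (12, [1]), (13, [2]), (4, [3]), (15, [6]), (20, [7]), (3, [0, 2]), (8, [0, 3]), (21, [1, 1]), (16, [1, 6]), (22, [2, 0]), (11, [2, 6]), (5, [2, 7]), (2, [3, 3]), (17, [6, 1]), (6, [7, 0]), (7, [7, 1]), (10, [0, 2, 1]), (14, [2, 6, 0]), (9, [6, 1, 1]), (19, [7, 0, 0])]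

def mch_1_0 : List (ℕ × List ℕ) := [(2, []), (12, [8]), (4, [9]), (10, [10]), (22, [11]), (3, [8, 8]), (17, [8, 10]), (7, [8, 11]), (15, [9, 10]), (14, [9, 11]), (8, [10, 10]), (18, [11, 9]), (5, [8, 10, 8]), (9, [8, 10, 9]), (6, [9, 10, 8]), (11, [9, 10, 9]), (16, [9, 11, 8]), (21, [10, 10, 8]), (13, [11, 9, 9]), (19, [8, 10, 8, 8]), (20, [8, 10, 9, 9])]

def mch_2_0 : List (ℕ × List ℕ) := [(3, []), (11, [12]), (22, [13]), (10, [14]), (21, [15]), (6, [12, 12]), (9, [13, 13]), (13, [13, 14]), (4, [13, 15]), (7, [14, 13]), (20, [15, 12]), (8, [15, 13]), (14, [12, 12, 14]), (15, [12, 12, 15]), (19, [13, 13, 14]), (17, [13, 13, 15]), (5, [13, 14, 12]), (18, [14, 13, 13]), (16, [15, 12, 12]), (12, [15, 13, 15])]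

def mch_3_0 : List (ℕ × List ℕ) := [(4, []), (19, [16]), (11, [17]), (20, [18]), (16, [20]), (7, [16, 20]), (18, [17, 20]), (9, [18, 20]), (6, [20, 16]), (12, [20, 17]), (15, [20, 18]), (8, [20, 19]), (22, [16, 20, 17]), (21, [16, 20, 18]), (13, [17, 20, 16]), (10, [17, 20, 19])]

def mch_4_0 : List (ℕ × List ℕ) := [(5, []), (14, [22]), (17, [23])]

def mch : List Lv := [⟨1, mch_0_0⟩, ⟨2, mch_1_0⟩, ⟨3, mch_2_0⟩, ⟨4, mch_3_0⟩, ⟨5, mch_4_0⟩]

theorem mok_id : idB (nat_lit 24) (nat_lit 5) (nat_lit 31) mid = true := by decide +kernel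

theorem mok_0 : allR (fun i => okT (nat_lit 24) (nat_lit 5) (nat_lit 31) (mtt.get (2 * i)) (mtt.get (2 * i + 1))) (nat_lit 0) (nat_lit 12) = true := by
  decide +kernel

theorem mok : TabsOK (nat_lit 24) (nat_lit 5) (nat_lit 31) (nat_lit 12) mth mid := ⟨mok_id, (allR_of 0 12 12 (by decide) mok_0)⟩

def mdL0 : List (List ℕ) := [[9, 0, 0, 2], [11, 0, 6, 1], [13, 10, 8, 8], [15, 8, 8, 10, 10, 8], [17, 12, 14, 13], [19, 14, 12, 15, 12], [21, 15, 12, 14, 12, 15], [23, 17, 18]]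

theorem md0 : allL (fixA (nat_lit 5) (nat_lit 31) mtt (nat_lit 24)) mdL0 = true := by decide +kernel

theorem mc : chB (nat_lit 5) (nat_lit 31) mtt (nat_lit 24) (fun _ => true) mch [] = true := by decide +kernel

theorem mTM : TM 4 (nat_lit 24) (nat_lit 5) (nat_lit 31) (nat_lit 12) mid 443520 mth mdefs mch :=
  ⟨mok, (mok.relsA _ md0), mc, by decide +kernel⟩

def gL : List (List ℕ × List ℕ) := [([0, 12, 3, 10, 18, 14, 20, 16, 22, 19, 8, 15, 21, 4, 11, 17, 5, 9, 1, 6, 7, 2, 13, 23], [0, 18, 21, 2, 13, 16, 19, 20, 10, 17, 3, 14, 1, 22, 5, 11, 7, 15, 4, 9, 6, 12, 8, 23]), ([0, 4, 22, 18, 2, 11, 14, 6, 10, 19, 21, 20, 12, 1, 9, 5, 16, 15, 8, 7, 17, 3, 13, 23], [0, 13, 4, 21, 1, 15, 7, 19, 18, 14, 8, 5, 12, 22, 6, 17, 16, 20, 3, 9, 11, 10, 2, 23]), ([0, 1, 2, 3, 4, 5, 6, 7, 8, 9, 10, 11, 12, 13, 14, 15, 16, 17, 18, 19, 20, 21, 22, 23], [0, 1, 2, 3, 4, 5, 6, 7, 8, 9, 10, 11, 12, 13, 14, 15, 16,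 17, 18, 19, 20, 21, 22, 23]), ([0, 20, 11, 21, 15, 2, 7, 9, 10, 19, 3, 13, 16, 5, 14, 1, 12, 22, 18, 6, 4, 8, 17, 23], [0, 15, 5, 10, 20, 13, 19, 6, 21, 7, 8, 2, 16, 11, 14, 4, 12, 22, 18, 9, 1, 3, 17, 23])]

end Cfsg.Agent.Lib.J4V
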