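import Cfsg.Agent.Lib.J4WT

/-! Certificates. -/

set_option autoImplicit false
set_option maxRecDepth 100000

namespace Cfsg.Agent.Lib.J4W

open Cfsg.Agent.Lib.PermNet Cfsg.Agent.Lib.Words Cfsg.Agent.Lib.PermGroup Cfsg.Agent.Lib.DCE Cfsg.Agent.Lib.PermModel Cfsg.Agent.Lib.BT

theorem tb0 : allR (fun p => Nat.beq (lk (nat_lit 12) (nat_lit 4095) (wtt.get 1) p) (Nat.mod (J4Defs.lin (J4Defs.LH.getD 0 []) p) 4096))
    0 4096 = true := by decide +kernel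

theorem tb1 : allR (fun p => Nat.beq (lk (nat_lit 12) (nat_lit 4095) (wtt.get 3) p) (Nat.mod (J4Defs.lin (J4Defs.LH.getD 1 []) p) 4096))
    0 4096 = true := by decide +kernel

theorem tb2 : allR (fun p => Nat.beq (lk (nat_lit 12) (nat_lit 4095) (wtt.get 5) p) (Nat.mod (J4Defs.lin (J4Defs.LH.getD 2 []) p) 4096))
    0 4096 = true := by decide +kernel

theorem tb3 : allR (fun p => Nat.beq (lk (nat_lit 12) (nat_lit 4095) (wtt.get 7) p) (Nat.mod (J4Defs.lin (J4Defs.LH.getD 3 []) p) 4096))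
    0 4096 = true := by decide +kernel

theorem tb4 : allR (fun p => Nat.beq (lk (nat_lit 12) (nat_lit 4095) (wtt.get 9) p) (Nat.mod (J4Defs.lin (J4Defs.LH.getD 4 []) p) 4096))
    0 4096 = true := by decide +kernel

theorem tb5 : allR (fun p => Nat.beq (lk (nat_lit 12) (nat_lit 4095) (wtt.get 11) p) (Nat.mod (J4Defs.lin (J4Defs.LH.getD 5 []) p) 4096))
    0 4096 = true := by decide +kernel

def rw0 : List (List ℕ) := [[], [8], [0, 2, 4], [0, 2, 8, 4, 8]]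

noncomputable def ts_i : List Tst := [⟨[], [], []⟩,
  ⟨[], [], []⟩,
  ⟨[], [], []⟩,
  ⟨[], [], []⟩,
  ⟨[], [], []⟩]

noncomputable def ct_i : CT := (.node 0 [] [] (nat_lit 0x0) (nd [(4, (nd [(16, (nd [(64, (nd [(256, (lf [(1024, [0]), (1025, [1, 10, 1])])),
  (257, (lf [(1025, [1, 26, 12]), (1024, [1, 16, 1])]))])),
  (1044, (nd [(1349, (lf [(84, [1, 4, 26, 16])])),
  (1348, (lf [(84, [1, 3, 30, 27, 4])]))])),
  (1349, (nd [(277, (lf [(1045, [1, 26, 13])])),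
  (276, (lf [(1044, [1, 26])]))])),
  (1361, (nd [(1025, (lf [(257, [1, 8, 18])])),
  (1024, (lf [(256, [1, 8, 10])]))])),
  (1360, (nd [(1024, (lf [(256, [1, 12, 16])])),
  (1025, (lf [(257, [1, 26, 1])]))])),
  (276, (nd [(84, (lf [(1348, [1, 26, 30, 10]), (1349, [1, 27, 1, 10])]))])),
  (277, (nd [(85, (lf [(1349, [1, 3, 32]), (1348, [1, 13, 30, 10])]))])),
  (1045, (nd [(1349, (lf [(85, [1, 28, 27, 10])])),
  (1348, (lf [(85, [1, 26, 26, 12])]))])),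
  (85, (nd [(1044, (lf [(276, [1, 26, 2, 0])])),
  (1045, (lf [(277, [1, 26, 0])]))])),
  (84, (nd [(1045, (lf [(277, [1, 26, 13, 0])])),
  (1044, (lf [(276, [1, 26, 14])]))])),
  (1348, (nd [(277, (lf [(1045, [1, 26, 5])])),
  (276, (lf [(1044, [1, 18, 26])]))])),
  (65, (nd [(257, (lf [(1025, [1, 26, 4, 0]), (1024, [1, 1])])),
  (256, (lf [(1024, [1, 26, 4]), (1025, [1, 16, 10, 1])]))]))])),
  (341, (nd [(1300, (nd [(1108, (lf [(1349, [1])]))])),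
  (1285, (nd [(1093, (lf [(1024, [1, 24, 31, 16])]))])),
  (1284, (nd [(1092, (lf [(1024, [1, 16, 30, 14])]))])),
  (1301, (nd [(1109, (lf [(1349, [1, 0])]))]))])),
  (1109, (nd [(325, (nd [(256, (lf [(1285, [1, 16, 18])]))])),
  (324, (nd [(256, (lf [(1284, [1, 36, 16])]))])),
  (340, (nd [(1349, (lf [(1300, [1, 27, 10, 1])]))])),
  (341, (nd [(1349, (lf [(1301, [1, 30, 10])]))]))])),
  (1092, (nd [(1044, (nd [(1284, (lf [(1024, [1, 16, 5])])),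
  (1285, (lf [(1024, [1, 16, 14])]))])),
  (64, (nd [(1301, (lf [(84, [1, 36, 27, 1])])),
  (1300, (lf [(84, [1, 12, 30, 10])]))]))])),
  (324, (nd [(64, (nd [(84, (lf [(1093, [1, 10]), (1092, [1, 10, 0])]))])),
  (276, (nd [(256, (lf [(1109, [1, 18, 31, 16]), (1108, [1, 16, 27, 1])]))]))])),
  (64, (nd [(16, (nd [(1360, (lf [(1024, [1, 16, 13])])),
  (1361, (lf [(1024, [1, 13, 26])]))]))])),
  (277, (nd [(1284, (nd [(256, (lf [(324, [1, 12, 26, 0])]))])),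
  (1285, (nd [(256, (lf [(325, [1, 16, 18, 4])]))]))])),
  (1093, (nd [(1045, (nd [(1284, (lf [(1024, [1, 16])])),
  (1285, (lf [(1024, [1, 16, 0])]))])),
  (64, (nd [(1300, (lf [(85, [1, 30, 14])])),
  (1301, (lf [(85, [1, 12, 27, 1])]))]))])),
  (325, (nd [(64, (nd [(85, (lf [(1092, [1, 19]), (1093, [1, 18])]))])),
  (277, (nd [(256, (lf [(1108, [1, 30, 27, 13]), (1109, [1, 16, 30, 10])]))]))])),
  (340, (nd [(1300, (nd [(1108, (lf [(1348, [1, 14])]))])),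
  (1285, (nd [(1093, (lf [(1024, [1, 8, 31, 16])]))])),
  (1284, (nd [(1092, (lf [(1024, [1, 31, 16])]))])),
  (1301, (nd [(1109, (lf [(1348, [1, 5])]))]))])),
  (257, (nd [(64, (nd [(17, (lf [(1360, [1, 19, 4]), (1361, [1, 18, 12])]))]))])),
  (1108, (nd [(324, (nd [(256, (lf [(1284, [1, 16, 10])]))])),
  (325, (nd [(256, (lf [(1285, [1, 13, 16])]))])),
  (341, (nd [(1348, (lf [(1301, [1, 27, 1])]))])),
  (340, (nd [(1348, (lf [(1300, [1, 10, 27, 1])]))]))])),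
  (85, (nd [(64, (nd [(325, (lf [(1301, [1, 19, 13]), (1300, [1, 10, 4])]))]))])),
  (1044, (nd [(1092, (nd [(340, (lf [(1024, [1, 16, 4])])),
  (341, (lf [(1024, [1, 14, 16, 4])]))]))])),
  (1360, (nd [(1024, (nd [(256, (lf [(64, [1, 12, 26])]))])),
  (1025, (nd [(256, (lf [(65, [1, 8, 16, 0])]))]))])),
  (1300, (nd [(1348, (nd [(341, (lf [(1109, [1, 27, 16, 1])])),
  (340, (lf [(1108, [1, 8, 30, 10])]))])),
  (64, (nd [(1092, (lf [(324, [1, 27, 30, 5])])),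
  (1093, (lf [(325, [1, 27, 12, 27])]))]))])),
  (1349, (nd [(1109, (nd [(1301, (lf [(341, [1, 13])]))])),
  (1108, (nd [(1300, (lf [(341, [1, 2, 0])]))]))])),
  (1361, (nd [(1024, (nd [(256, (lf [(64, [1, 8, 16])]))])),
  (1025, (nd [(256, (lf [(65, [1, 8, 16, 5])]))]))])),
  (1284, (nd [(1108, (nd [(256, (lf [(276, [1, 30, 10, 34])]))])),
  (1109, (nd [(256, (lf [(276, [1, 26, 28, 4])]))])),
  (340, (nd [(1044, (lf [(1024, [1, 19, 27, 28, 1])]))])),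
  (341, (nd [(1044, (lf [(1024, [1, 27, 31, 16, 0])]))]))])),
  (256, (nd [(64, (nd [(16, (lf [(1361, [1, 13, 10]), (1360, [1, 18, 4])]))]))])),
  (1045, (nd [(1093, (nd [(341, (lf [(1024, [1, 16, 5, 0])])),
  (340, (lf [(1024, [1, 16, 12])]))]))])),
  (276, (nd [(1284, (nd [(256, (lf [(324, [1, 36, 16, 4])]))])),
  (1285, (nd [(256, (lf [(325, [1, 2, 34])]))]))])),
  (84, (nd [(64, (nd [(324, (lf [(1300, [1, 12, 10]), (1301, [1, 12, 19])]))]))])),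
  (17, (nd [(65, (nd [(256, (lf [(1024, [1, 16, 4, 0]), (1025, [1, 8, 16, 1])])),
  (257, (lf [(1025, [1, 4, 0]), (1024, [1, 16, 13, 1])]))])),
  (64, (nd [(257, (lf [(1025, [1, 18, 4, 0]), (1024, [1, 10, 4, 0])])),
  (256, (lf [(1024, [1, 12, 26, 4]), (1025, [1, 13, 1])]))]))])),
  (65, (nd [(17, (nd [(1361, (lf [(1024, [1, 16, 13, 0])])),
  (1360, (lf [(1024, [1, 16, 0, 13])]))]))])),
  (1348, (nd [(1108, (nd [(1300, (lf [(340, [1, 0, 13])]))])),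
  (1109, (nd [(1301, (lf [(340, [1, 13, 0])]))]))])),
  (1024, (nd [(257, (nd [(65, (lf [(16, [1, 12])]))])),
  (256, (nd [(64, (lf [(16, [1, 5, 0])]))]))])),
  (1025, (nd [(257, (nd [(65, (lf [(17, [1, 24, 4])]))])),
  (256, (nd [(64, (lf [(17, [1, 4])]))]))])),
  (1285, (nd [(1109, (nd [(256, (lf [(277, [1, 34, 30, 16])]))])),
  (340, (nd [(1045, (lf [(1024, [1, 34, 31, 14])]))])),
  (341, (nd [(1045, (lf [(1024, [1, 32, 30, 16])]))])),
  (1108, (nd [(256, (lf [(277, [1, 27, 28, 1])]))]))])),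
  (1301, (nd [(64, (nd [(1092, (lf [(324, [1, 27, 27, 0])])),
  (1093, (lf [(325, [1, 1, 31, 26])]))])),
  (1349, (nd [(340, (lf [(1108, [1, 32, 1, 10])])),
  (341, (lf [(1109, [1, 30, 0, 26])]))]))]))])),
  (5, (nd [(16, (nd [(64, (nd [(256, (lf [(1025, [2, 2, 1]), (1024, [3, 1, 12, 0])])),
  (257, (lf [(1024, [2, 16, 2, 1]), (1025, [2, 16, 5, 0])]))])),
  (1044, (nd [(1349, (lf [(85, [2, 2, 28, 1])])),
  (1348, (lf [(85, [2, 27, 19, 2])]))])),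
  (1360, (nd [(1024, (lf [(256, [3, 32, 26, 4])])),
  (1025, (lf [(257, [3, 3, 32, 2, 0])]))])),
  (1361, (nd [(1025, (lf [(257, [3, 26, 14, 13])])),
  (1024, (lf [(256, [3, 8, 10, 5, 0])]))])),
  (277, (nd [(84, (lf [(1349, [2, 28, 26, 14]), (1348, [2, 27, 34])]))])),
  (276, (nd [(85, (lf [(1348, [2, 27, 34, 16]), (1349, [2, 16, 30, 12])]))])),
  (1045, (nd [(1349, (lf [(84, [2, 27, 20, 2])])),
  (1348, (lf [(84, [2, 30, 12])]))])),
  (65, (nd [(257, (lf [(1024, [2, 12, 5, 0]), (1025, [3, 1, 22, 1])])),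
  (256, (lf [(1025, [2, 5, 27, 27]), (1024, [2, 5, 0])]))]))])),
  (340, (nd [(1300, (nd [(1109, (lf [(1348, [3, 27, 32])]))])),
  (1285, (nd [(1092, (lf [(1024, [2, 27, 32, 16])]))])),
  (1284, (nd [(1093, (lf [(1024, [2, 27, 32])]))])),
  (1301, (nd [(1108, (lf [(1348, [3, 5, 0])]))]))])),
  (1109, (nd [(324, (nd [(257, (lf [(1285, [3, 16, 10, 5, 0])]))])),
  (325, (nd [(257, (lf [(1284, [3, 19, 16, 5, 0])]))])),
  (341, (nd [(1348, (lf [(1300, [2, 4, 28, 26])]))])),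
  (340, (nd [(1348, (lf [(1301, [2, 26, 31, 0])]))]))])),
  (1092, (nd [(1044, (nd [(1284, (lf [(1025, [3, 16, 5, 0])])),
  (1285, (lf [(1025, [3, 16, 27, 32])]))])),
  (64, (nd [(1301, (lf [(85, [2, 27, 18, 32])])),
  (1300, (lf [(85, [2, 0, 34, 14, 0])]))]))])),
  (325, (nd [(276, (nd [(256, (lf [(1109, [2, 3, 32, 0]), (1108, [2, 13, 27, 2])]))])),
  (65, (nd [(85, (lf [(1093, [3, 19, 5, 27]), (1092, [3, 10, 5, 0])]))]))])),
  (64, (nd [(16, (nd [(1361, (lf [(1024, [3, 3, 12, 31])])),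
  (1360, (lf [(1024, [3, 16, 5, 2])]))]))])),
  (276, (nd [(1284, (nd [(257, (lf [(324, [3, 28, 27, 30])]))])),
  (1285, (nd [(257, (lf [(325, [3, 28, 20, 28, 0])]))]))])),
  (1093, (nd [(1045, (nd [(1284, (lf [(1025, [3, 16, 5, 27])])),
  (1285, (lf [(1025, [3, 26, 26, 4])]))])),
  (64, (nd [(1300, (lf [(84, [2, 30, 22, 4])])),
  (1301, (lf [(84, [2, 4, 31, 8])]))]))])),
  (324, (nd [(277, (nd [(256, (lf [(1108, [2, 12, 30, 1]), (1109, [2, 1, 34])]))])),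
  (65, (nd [(84, (lf [(1092, [3, 19, 5, 0]), (1093, [3, 18, 5, 0])]))]))])),
  (341, (nd [(1300, (nd [(1109, (lf [(1349, [3, 5, 27])]))])),
  (1285, (nd [(1092, (lf [(1024, [2, 13, 27, 14])]))])),
  (1284, (nd [(1093, (lf [(1024, [2, 5, 27])]))])),
  (1301, (nd [(1108, (lf [(1349, [3, 14, 5, 0])]))]))])),
  (257, (nd [(64, (nd [(17, (lf [(1361, [3, 8, 26, 5]), (1360, [3, 10, 2, 1])]))]))])),
  (1108, (nd [(325, (nd [(257, (lf [(1284, [3, 36, 16, 5, 0])]))])),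
  (324, (nd [(257, (lf [(1285, [3, 2, 34, 1])]))])),
  (340, (nd [(1349, (lf [(1301, [2, 26, 31, 2])]))])),
  (341, (nd [(1349, (lf [(1300, [2, 12, 27, 34])]))]))])),
  (84, (nd [(65, (nd [(325, (lf [(1300, [3, 19, 2, 1]), (1301, [3, 18, 5, 2])]))]))])),
  (1044, (nd [(1093, (nd [(340, (lf [(1025, [3, 26, 26, 16, 4])])),
  (341, (lf [(1025, [3, 32, 0, 10, 1])]))]))])),
  (1361, (nd [(1025, (nd [(256, (lf [(65, [3, 36, 16, 2, 1])]))])),
  (1024, (nd [(256, (lf [(64, [3, 18, 16, 2, 1])]))]))])),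
  (1300, (nd [(1349, (nd [(341, (lf [(1108, [2, 19, 30, 1])])),
  (340, (lf [(1109, [2, 34, 30, 0])]))])),
  (64, (nd [(1092, (lf [(325, [2, 12, 27, 2])])),
  (1093, (lf [(324, [2, 32, 30, 0])]))]))])),
  (1349, (nd [(1109, (nd [(1301, (lf [(340, [3, 22, 2, 1])]))])),
  (1108, (nd [(1300, (lf [(340, [3, 5, 2])]))]))])),
  (1360, (nd [(1025, (nd [(256, (lf [(65, [3, 8, 16, 5, 0])]))])),
  (1024, (nd [(256, (lf [(64, [3, 19, 16, 2, 1])]))]))])),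
  (1284, (nd [(1108, (nd [(256, (lf [(277, [2, 30, 5])]))])),
  (1109, (nd [(256, (lf [(277, [2, 10, 30, 1])]))])),
  (341, (nd [(1045, (lf [(1024, [2, 4, 31, 1])]))])),
  (340, (nd [(1045, (lf [(1024, [2, 8, 30, 1])]))]))])),
  (256, (nd [(64, (nd [(16, (lf [(1360, [3, 34, 18, 28]), (1361, [3, 10, 5, 2])]))]))])),
  (1045, (nd [(1092, (nd [(341, (lf [(1025, [3, 32, 19, 28])])),
  (340, (lf [(1025, [3, 13, 26, 5])]))]))])),
  (277, (nd [(1284, (nd [(257, (lf [(324, [3, 12, 26, 5])]))])),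
  (1285, (nd [(257, (lf [(325, [3, 34, 19, 28])]))]))])),
  (85, (nd [(65, (nd [(324, (lf [(1301, [3, 18, 2, 1]), (1300, [3, 19, 5, 2])]))]))])),
  (17, (nd [(84, (nd [(1044, (lf [(276, [3, 18, 26, 5])])),
  (1045, (lf [(277, [3, 26, 8, 5])]))])),
  (1348, (nd [(277, (lf [(1044, [3, 32, 26, 10])])),
  (276, (lf [(1045, [3, 26, 20, 5])]))])),
  (1349, (nd [(276, (lf [(1045, [3, 26, 14, 3])])),
  (277, (lf [(1044, [3, 30, 34, 0])]))])),
  (65, (nd [(256, (lf [(1025, [3, 26, 1, 3]), (1024, [2, 26, 8, 5])])),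
  (257, (lf [(1024, [3, 26, 2, 4, 0]), (1025, [3, 4, 1, 5, 0])]))])),
  (64, (nd [(257, (lf [(1024, [2, 26, 20, 5]), (1025, [3, 1, 24, 2])])),
  (256, (lf [(1025, [2, 26, 1, 3]), (1024, [2, 26, 5])]))])),
  (85, (nd [(1045, (lf [(277, [3, 26, 5])])),
  (1044, (lf [(276, [3, 22, 26, 5])]))]))])),
  (65, (nd [(17, (nd [(1360, (lf [(1024, [3, 1, 20, 31])])),
  (1361, (lf [(1024, [3, 16, 2, 1])]))]))])),
  (1348, (nd [(1108, (nd [(1300, (lf [(341, [3, 2, 1])]))])),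
  (1109, (nd [(1301, (lf [(341, [3, 20, 2, 1])]))]))])),
  (1025, (nd [(257, (nd [(65, (lf [(17, [3, 27, 14, 13])]))])),
  (256, (nd [(64, (lf [(17, [3, 13, 5, 2])]))]))])),
  (1024, (nd [(257, (nd [(65, (lf [(16, [3, 12, 5, 0])]))])),
  (256, (nd [(64, (lf [(16, [3, 27, 14, 8])]))]))])),
  (1285, (nd [(1109, (nd [(256, (lf [(276, [2, 32, 27, 2])]))])),
  (341, (nd [(1044, (lf [(1024, [2, 13, 30, 1])]))])),
  (340, (nd [(1044, (lf [(1024, [2, 27, 2])]))])),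
  (1108, (nd [(256, (lf [(276, [2, 16, 27, 2])]))]))])),
  (1301, (nd [(64, (nd [(1092, (lf [(325, [2, 30, 1])])),
  (1093, (lf [(324, [2, 16, 30, 1])]))])),
  (1348, (nd [(340, (lf [(1109, [2, 13, 30, 5])])),
  (341, (lf [(1108, [2, 27, 14])]))]))]))]))]) .nil)

theorem s_i : solveB (nat_lit 12) (nat_lit 4095) wtt (nat_lit 4096) 500 BW (fun _ => true) wch 1 []
    [] [] (prEq 500 [] [] ++ [[1000, 1000]]) [] [] (fun u => Nat.blt (u.headD 0) 4) (mkC rw0) ts_i ct_i = true := by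
  decide +kernel



end Cfsg.Agent.Lib.J4W
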