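import Cfsg.Agent.Lib.TrDeg
import Cfsg.Agent.Lib.JRepl

/-! The final step of the degree bound for `J`. -/

set_option autoImplicit false

open Subgroup Cfsg Cfsg.Agent.Lib.PCoreConj Cfsg.Agent.Lib.PCore Cfsg.Agent.Lib.PCoreResidual
open Cfsg.Agent.Lib.TrCtrl Cfsg.Agent.Lib.TrAvg Cfsg.Agent.Lib.TrDeg Cfsg.Agent.Lib.ThompsonJ Cfsg.Agent.Lib.JRepl
open Cfsg.Agent.Lib.PIrred Cfsg.Agent.Lib.FusionControl
open scoped Pointwise commutatorElement

local notation "C(" X ")" => centralizer (SetLike.coe (X : Subgroup _))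
local notation "N(" X ")" => normalizer (SetLike.coe (X : Subgroup _))
local notation "it" => iterCommutator

theorem Cfsg.Agent.Lib.JTrFin.fin {G : Type*} [Group G] [Finite G] {p : ℕ} [Fact p.Prime]
    {T A V Q Y : Subgroup G} {y : G} (hT : IsPGroup p T) (hA : A ≤ T) (hA' : A ≤ C(A)) (hM : cm y A ≤ T)
    (h₁ : ⁅V, A⁆ ≤ A ⊓ V) (h₄ : ⁅cm y A, A⁆ ⊔ V ⊔ A ⊓ (cm y A ⊔ V) ≤ C(cm y A ⊔ V))
    (star : ∀ y' ∈ cm y A, ¬ cm y' A ≤ A → A ⊓ C(cm y' A) ≤ Q)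
    (hY : A ≤ N(Y)) (hVY : V ≤ Y) (hQ : ∀ a ∈ A ⊓ Q, ⁅y, a⁆ ∈ Y)
    (hz : ∀ z ∈ ⁅cm y A, A⁆, ∃ a ∈ A, ∃ e ∈ A, ∃ w ∈ V, z = ⁅y, a⁆ * e * w) : it (cm y A) A 2 ≤ Y := by
  classical
  set M := cm y A with hMd
  have nM : A ≤ N(M) := le_normalizer_cm y A
  have nV : A ≤ N(V) := le_normalizer_of_commutator_le (h₁.trans inf_le_right)
  have nMV : A ≤ N(C(M ⊔ V)) := le_normalizer_centralizer (le_normalizer_sup nM nV)
  have cA : ∀ a ∈ A, ∀ b ∈ A, a * b = b * a := fun a ha b hb => (hA' ha b hb).symm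
  have AA : ⁅A, A⁆ = ⊥ := commutator_eq_bot_iff_le_centralizer'.mpr hA'
  have c2 : ⁅M, A⁆ ≤ C(M ⊔ V) := (le_sup_left.trans le_sup_left).trans h₄
  have cV : V ≤ C(M ⊔ V) := (le_sup_right.trans le_sup_left).trans h₄
  have cE : A ⊓ (M ⊔ V) ≤ C(M ⊔ V) := le_sup_right.trans h₄
  have M2 : ⁅M, A⁆ ≤ M := commutator_le_left_of_le_normalizer nM
  have ci : ∀ i, it M A (i + 1) ≤ C(M ⊔ V) := fun i =>
    (it_antitone nM (Nat.succ_le_succ i.zero_le)).trans c2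
  have flip : ∀ K L : Subgroup G, K ≤ C(M ⊔ V) → L ≤ M ⊔ V → L ≤ N(K) := fun K L hK hL =>
    le_normalizer_of_le_centralizer fun l hl k hk => (hK hk l (hL hl)).symm
  by_contra hne
  change ¬ ⁅⁅M, A⁆, A⁆ ≤ Y at hne
  have hb : it M A 2 ≠ ⊥ := fun h => hne (by change it M A 2 ≤ Y; rw [h]; exact bot_le)
  rw [commutator_le] at hne
  push Not at hne
  obtain ⟨z, hz₁, c, hc, hzc⟩ := hne
  obtain ⟨a, ha, e, he, w, hw, hzz⟩ := hz z hz₁
  apply hzc
  suffices haQ : a ∈ Q by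
    have n1 : ⁅y, a⁆ ∈ Y := hQ a ⟨ha, haQ⟩
    have n2 : ⁅w, c⁆ ∈ Y := hVY (h₁ (commutator_mem_commutator hw hc)).2
    have n3 := mul_mem (mul_mem n1 ((mem_normalizer_iff.mp (hY he) _).mp n2))
      ((mem_normalizer_iff.mp (hY hc) _).mp (inv_mem n1))
    have ec := cA e he c hc
    rw [hzz]
    generalize ⁅y, a⁆ = n at n3 ⊢
    convert n3 using 1
    simp only [commutatorElement_def]
    calc _ = n * e * w * c * w⁻¹ * c⁻¹ * (c * e⁻¹) * n⁻¹ * c⁻¹ := by group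
      _ = n * e * w * c * w⁻¹ * c⁻¹ * (e⁻¹ * c) * n⁻¹ * c⁻¹ := by rw [cA c hc e⁻¹ (inv_mem he)]
      _ = _ := by group
  have naM : ⁅y, a⁆ ∈ M := mem_cm ha
  have eMV : e ∈ M ⊔ V := by
    have : e = ⁅y, a⁆⁻¹ * z * w⁻¹ := by rw [hzz]; group
    rw [this]
    exact mul_mem (mul_mem (mem_sup_left (inv_mem naM)) (mem_sup_left (M2 hz₁))) (mem_sup_right (inv_mem hw))
  have na : ⁅y, a⁆ = z * w⁻¹ * e⁻¹ := by rw [hzz]; group
  have naC : ⁅y, a⁆ ∈ C(M ⊔ V) := by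
    rw [na]; exact mul_mem (mul_mem (c2 hz₁) (inv_mem (cV hw))) (inv_mem (cE ⟨he, eMV⟩))
  have nK : ∀ i, A ≤ N(it M A i ⊔ A ⊓ V) := fun i =>
    le_normalizer_sup (le_normalizer_it nM le_normalizer i) (le_normalizer_inf le_normalizer nV)
  have key : ∀ b ∈ A, ⁅a, ⁅y, b⁆⁆ ∈ it M A 2 ⊔ A ⊓ V := fun b hb => by
    have nb : ⁅y, b⁆ ∈ M := mem_cm hb
    have q1 : ⁅b, ⁅y, a⁆⁆ ∈ C(M ⊔ V) := by
      rw [commutatorElement_def]
      exact mul_mem ((mem_normalizer_iff.mp (nMV hb) _).mp naC) (inv_mem naC)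
    have q2 : a * ⁅y, b⁆ * a⁻¹ ∈ M := (mem_normalizer_iff.mp (nM ha) _).mp nb
    have q3 : ⁅y, a⁆ * (a * ⁅y, b⁆ * a⁻¹) = ⁅y, b⁆ * (b * ⁅y, a⁆ * b⁻¹) := by
      simp only [commutatorElement_def]
      calc _ = y * (a * b) * y⁻¹ * (a * b)⁻¹ := by group
        _ = y * (b * a) * y⁻¹ * (b * a)⁻¹ := by rw [cA a ha b hb]
        _ = _ := by group
    have q4 := naC _ (mem_sup_left q2)
    have q5 := q1 _ (mem_sup_left nb)
    have q6 : ⁅a, ⁅y, b⁆⁆ = ⁅b, ⁅y, a⁆⁆ := by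
      generalize ⁅y, b⁆ = m at *
      generalize ⁅y, a⁆ = n at *
      rw [← q4] at q3
      calc ⁅a, m⁆ = (a * m * a⁻¹ * n) * n⁻¹ * m⁻¹ := by simp only [commutatorElement_def]; group
        _ = (m * ⁅b, n⁆) * m⁻¹ := by rw [q3]; simp only [commutatorElement_def]; group
        _ = _ := by rw [q5]; group
    have q7 : ⁅b, w⁻¹⁆ ∈ A ⊓ V := by
      have := inv_mem (h₁ (commutator_mem_commutator (inv_mem hw) hb))
      rwa [commutatorElement_inv] at this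
    have q8 : ⁅b, z⁆ ∈ it M A 2 := by
      have := inv_mem (commutator_mem_commutator hz₁ hb)
      rwa [commutatorElement_inv] at this
    have q9 := c2 hz₁ _ (mem_sup_right q7.2)
    have q10 : ⁅b, ⁅y, a⁆⁆ = ⁅b, z⁆ * ⁅b, w⁻¹⁆ := by
      rw [na]
      calc _ = b * z * w⁻¹ * (e⁻¹ * b⁻¹) * e * w * z⁻¹ := by simp only [commutatorElement_def]; group
        _ = b * z * w⁻¹ * (b⁻¹ * e⁻¹) * e * w * z⁻¹ := by rw [cA _ (inv_mem he) _ (inv_mem hb)]
        _ = ⁅b, z⁆ * (z * ⁅b, w⁻¹⁆) * z⁻¹ := by simp only [commutatorElement_def]; group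
        _ = _ := by rw [← q9]; group
    rw [q6, q10]
    exact mul_mem (mem_sup_left q8) (mem_sup_right q7)
  have zA : zpowers a ≤ A := zpowers_le.mpr ha
  have P0 : ⁅zpowers a, M⁆ ≤ it M A 2 ⊔ A ⊓ V := by
    refine commutator_closure_le ?_ ?_
    · rintro _ ⟨b, hb, rfl⟩
      exact flip _ M (sup_le (ci 1) (inf_le_right.trans cV)) le_sup_left (mem_cm hb)
    · rintro a' ha' _ ⟨b, hb, rfl⟩
      have : zpowers a ≤ St (it M A 2 ⊔ A ⊓ V) ⁅y, b⁆ := zpowers_le.mpr ⟨nK 2 ha, key b hb⟩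
      exact (this ha').2
  have step : ∀ i, ⁅zpowers a, it M A i⁆ ≤ it M A (i + 2) ⊔ A ⊓ V → ⁅it M A (i + 1), zpowers a⁆ ≤ it M A (i + 3) :=
    fun i hi => by
      have nA : A ≤ N(it M A (i + 3)) := le_normalizer_it nM le_normalizer _
      refine three_subgroups (flip _ _ (ci (i + 2)) ((it_le nM i).trans le_sup_left)) nA (zA.trans nA) ?_ ?_
      · rw [le_bot_iff.mp ((commutator_mono le_rfl zA).trans AA.le), commutator_bot_left]; exact bot_le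
      · refine (commutator_mono hi le_rfl).trans ?_
        rw [commutator_comm]
        refine commutator_sup_le (flip _ _ (ci (i + 2)) ((it_le nM _).trans le_sup_left)) (inf_le_left.trans nA) ?_ ?_
        · rw [commutator_comm]; exact le_rfl
        · exact ((commutator_mono le_rfl inf_le_left).trans AA.le).trans bot_le
  have all : ∀ i, ⁅zpowers a, it M A i⁆ ≤ it M A (i + 2) ⊔ A ⊓ V := fun i => by
    induction i with
    | zero => exact P0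
    | succ i ih => rw [commutator_comm]; exact (step i ih).trans le_sup_left
  have ex := exists_it_eq_bot (hT.to_le hM) (hT.to_le hA) nM
  have f1 := Nat.find_spec ex
  have f2 : 3 ≤ Nat.find ex := by
    by_contra h
    exact hb (le_bot_iff.mp ((it_antitone nM (by omega)).trans f1.le))
  obtain ⟨k, hk⟩ : ∃ k, Nat.find ex = k + 3 := ⟨Nat.find ex - 3, by omega⟩
  have f3 : it M A (k + 2) ≠ ⊥ := Nat.find_min ex (by omega)
  rw [hk] at f1
  have f4 : ¬ ⁅it M A k, A⁆ ≤ A := fun h => f3 (le_bot_iff.mp ((commutator_mono h le_rfl).trans AA.le))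
  rw [commutator_le] at f4
  push Not at f4
  obtain ⟨y', hy', b, hb', hn⟩ := f4
  have f5 : cm y' A ≤ it M A (k + 1) := cm_le_iff.mpr fun x hx => commutator_mem_commutator hy' hx
  have f6 : zpowers a ≤ C(cm y' A) := commutator_eq_bot_iff_le_centralizer'.mp
    (le_bot_iff.mp ((commutator_mono f5 le_rfl).trans ((step k (all k)).trans f1.le)))
  exact star y' (it_le nM k hy') (fun h => hn (h (mem_cm hb'))) ⟨ha, f6 (mem_zpowers a)⟩
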