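import Mathlib
import Cfsg.Agent.Lib.APC6

/-!
The two-sided natural configuration without a swapping element (copy of the swap-free part of `APC2`-`APC6`).
-/

set_option autoImplicit false
set_option linter.unusedSectionVars false

namespace Cfsg.Agent.Lib.AP

open Cfsg Subgroup Cfsg.Agent.Lib.PCoreConj Cfsg.Agent.Lib.PCore Cfsg.Agent.Lib.PCoreResidual
  Cfsg.Agent.Lib.FTDefs
open scoped Classical

universe u

variable {G : Type u} [Group G] [Finite G] {q : ℕ} {K K' W U C C' A B E T P O X : Subgroup G}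
  {n n' x g a b c c' d f k m m' s t u w y z : G}

/-- the two-sided configuration -/
structure B0 (q : ℕ) (K K' W U C C' : Subgroup G) (n n' : G) : Prop where
  loc : Loc G
  q2 : ∃ m, 2 ≤ m ∧ q = 2 ^ m
  a : Hf q K W U C n
  b : Hf q K' U W C' n'
  DD : (W ⊓ C[K]) ⊓ (U ⊓ C[K']) = ⊥
  fa : ∀ k ∈ K, ∀ y ∈ W ⊓ U, y ∉ C[K] → k ∈ c[y] → k ∈ W ⊔ U
  fb : ∀ k ∈ K', ∀ y ∈ U ⊓ W, y ∉ C[K'] → k ∈ c[y] → k ∈ U ⊔ W

theorem B0.symm (h : B0 q K K' W U C C' n n') : B0 q K' K U W C' C n' n :=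
  ⟨h.loc, h.q2, h.b, h.a, by rw [inf_comm]; exact h.DD, h.fb, h.fa⟩

theorem fa_conj (h : ∀ k ∈ K, ∀ y ∈ W ⊓ U, y ∉ C[K] → k ∈ c[y] → k ∈ W ⊔ U) (g : G) :
    ∀ k ∈ K ^ᶜ g, ∀ y ∈ W ^ᶜ g ⊓ U ^ᶜ g, y ∉ C[K ^ᶜ g] → k ∈ c[y] → k ∈ W ^ᶜ g ⊔ U ^ᶜ g := by
  simp only [← conj_centralizer, ← conj_inf, ← conj_sup, mem_conj_iff]
  intro k hk y hy y1 e
  refine h _ hk _ hy y1 (mem_cent1.2 ?_)
  calc _ = g⁻¹ * (k * y) * g := by group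
    _ = _ := by rw [mem_cent1.1 e]; group

theorem B0.conj (h : B0 q K K' W U C C' n n') (g : G) :
    B0 q (K ^ᶜ g) (K' ^ᶜ g) (W ^ᶜ g) (U ^ᶜ g) (C ^ᶜ g) (C' ^ᶜ g) (g * n * g⁻¹) (g * n' * g⁻¹) :=
  ⟨h.loc, h.q2, h.a.conj g, h.b.conj g, by
    simp only [← conj_centralizer, ← conj_inf]; rw [h.DD, conj_bot], fa_conj h.fa g, fa_conj h.fb g⟩

namespace B0
variable (h : B0 q K K' W U C C' n n')
include h

theorem q4 : 4 ≤ q := by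
  obtain ⟨m, h1, rfl⟩ := h.q2; exact Nat.pow_le_pow_right (n := 2) (by norm_num) h1
theorem eW : El W := h.a.eW
theorem eU : El U := h.b.eW
theorem eY : El (W ⊓ U) := h.eW.of_le inf_le_left
theorem UW : U ≤ N[W] := h.b.WU
theorem WU : W ≤ N[U] := h.a.WU
theorem cU : Nat.card U = q * Nat.card ↥(W ⊓ U) := by rw [inf_comm]; exact h.b.cW
theorem cUW : Nat.card U = Nat.card W := h.cU.trans h.a.cW.symm
theorem TW : W ⊔ U ≤ N[W] := sup_le le_normalizer h.UW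
theorem TU : W ⊔ U ≤ N[U] := sup_le h.WU le_normalizer
theorem TK : W ⊔ U ≤ K := sup_le h.a.WK h.a.UK
theorem pT : IsPGroup 2 ↥(W ⊔ U) := IsPGroup.to_sup_of_normal_left' h.eW.pg h.eU.pg h.UW
theorem memT (ht : t ∈ W ⊔ U) : ∃ w ∈ W, ∃ u ∈ U, w * u = t := (mem_sup_iff_of_le_normalizer' h.UW).1 ht
theorem cm (hw : w ∈ W) (hu : u ∈ U) : w * u * w⁻¹ * u⁻¹ ∈ W ⊓ U :=
  mem_inf.2 ⟨by have := mul_mem hw (nconj (h.UW hu) (W.inv_mem hw)); convert this using 1; group,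
    mul_mem (nconj (h.WU hw) hu) (U.inv_mem hu)⟩
theorem YT : W ⊔ U ≤ C[W ⊓ U] :=
  sup_le (le_centralizer_iff.1 (h.eW.le_cent inf_le_left)) (le_centralizer_iff.1 (h.eU.le_cent inf_le_right))
theorem cY (ht : t ∈ W ⊔ U) (hy : y ∈ W ⊓ U) : y * t = t * y := mem_cent_iff.1 (h.YT ht) y hy
theorem nc (hw : w ∈ W) (wU : w ∉ U) (hu : u ∈ U) (uW : u ∉ W) : w * u ≠ u * w := fun e =>
  h.a.nd w hw wU u hu uW (by rw [e]; simp)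
theorem inv_mem (ht : t ∈ W ⊔ U) (t2 : t * t = 1) : t ∈ W ∨ t ∈ U := by
  obtain ⟨w, hw, u, hu, rfl⟩ := h.memT ht
  by_cases wU : w ∈ U
  · exact Or.inr (mul_mem wU hu)
  by_cases uW : u ∈ W
  · exact Or.inl (mul_mem hw uW)
  refine absurd ?_ (h.nc hw wU hu uW)
  rw [← inv_sq t2, mul_inv_rev, inv_sq (h.eW _ hw), inv_sq (h.eU _ hu)]
theorem el_le (hA : El A) (hT : A ≤ W ⊔ U) : A ≤ W ∨ A ≤ U := le_or_le fun a ha => h.inv_mem (hT ha) (hA a ha)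
theorem not_le : ¬ W ≤ U := fun k => by
  have e := h.a.cW
  rw [inf_eq_left.2 k] at e
  have := h.q4
  have : 0 < Nat.card W := Nat.card_pos
  nlinarith
theorem ne : W ≠ U := fun e => h.not_le e.le
theorem eq_or (hA : El A) (hT : A ≤ W ⊔ U) (c : Nat.card A = Nat.card W) : A = W ∨ A = U :=
  (h.el_le hA hT).imp (fun k => eq_of_le_of_card_eq k c) (fun k => eq_of_le_of_card_eq k (c.trans h.cUW.symm))
theorem pair (h1 : W ^ᶜ g = W ∨ W ^ᶜ g = U) (h2 : U ^ᶜ g = W ∨ U ^ᶜ g = U) :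
    (g ∈ N[W] ∧ g ∈ N[U]) ∨ (W ^ᶜ g = U ∧ U ^ᶜ g = W) := by
  have k : W ^ᶜ g ≠ U ^ᶜ g := fun e => h.ne (conj_inj.1 e)
  rcases h1 with h1 | h1 <;> rcases h2 with h2 | h2
  · exact absurd (h1.trans h2.symm) k
  · exact Or.inl ⟨mem_normalizer_iff_conj_eq.2 h1, mem_normalizer_iff_conj_eq.2 h2⟩
  · exact Or.inr ⟨h1, h2⟩
  · exact absurd (h1.trans h2.symm) k
theorem dich (hg : g ∈ N[W ⊔ U]) : (g ∈ N[W] ∧ g ∈ N[U]) ∨ (W ^ᶜ g = U ∧ U ^ᶜ g = W) :=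
  h.pair (h.eq_or (h.eW.conj g) (conj_le_of_mem_normalizer le_sup_left hg) (card_conj _ _))
    (h.eq_or (h.eU.conj g) (conj_le_of_mem_normalizer le_sup_right hg) ((card_conj _ _).trans h.cUW))
omit h in
theorem N0_le (h1 : g ∈ N[W]) (h2 : g ∈ N[U]) : g ∈ N[W ⊔ U] :=
  le_normalizer_sup (L := N[W] ⊓ N[U]) inf_le_left inf_le_right ⟨h1, h2⟩
omit h in
theorem sw_mem (h1 : W ^ᶜ g = U) (h2 : U ^ᶜ g = W) : g ∈ N[W ⊔ U] :=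
  mem_normalizer_iff_conj_eq.2 (by rw [conj_sup, h1, h2, sup_comm])
theorem NY (hg : g ∈ N[W ⊔ U]) : g ∈ N[W ⊓ U] := mem_normalizer_iff_conj_eq.2 (by
  rcases h.dich hg with ⟨h1, h2⟩ | ⟨h1, h2⟩
  · rw [conj_inf, conj_eq_of_mem_normalizer h1, conj_eq_of_mem_normalizer h2]
  · rw [conj_inf, h1, h2, inf_comm])
theorem ofW (hg : g ∈ N[W ⊔ U]) (h1 : g ∈ N[W]) : g ∈ N[U] :=
  (h.dich hg).elim (fun k => k.2) fun k => absurd ((conj_eq_of_mem_normalizer h1).symm.trans k.1) h.ne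
theorem swap_of (hg : g ∈ N[W ⊔ U]) (h1 : g ∉ N[W]) : W ^ᶜ g = U ∧ U ^ᶜ g = W :=
  (h.dich hg).resolve_left fun k => h1 k.1
theorem sw_not (h1 : W ^ᶜ g = U) : g ∉ N[W] := fun k => h.ne ((conj_eq_of_mem_normalizer k).symm.trans h1)
theorem sw_mul (ha : a ∈ N[W ⊔ U]) (a1 : a ∉ N[W]) (hb : b ∈ N[W ⊔ U]) (b1 : b ∉ N[W]) : a * b⁻¹ ∈ N[W] :=
  mem_normalizer_iff_conj_eq.2 (by
    rw [← conj_conj, (h.swap_of (N[W ⊔ U].inv_mem hb) (fun k => b1 (by simpa using N[W].inv_mem k))).1,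
      (h.swap_of ha a1).2])
/-- an involution of `T₀` centralized by a swapping element lies in `Y` -/
theorem sw_fix (hs : s ∈ N[W ⊔ U]) (s1 : s ∉ N[W]) (ht : t ∈ W ⊔ U) (t2 : t * t = 1) (e : s * t * s⁻¹ = t) :
    t ∈ W ⊓ U := by
  obtain ⟨h1, h2⟩ := h.swap_of hs s1
  rcases h.inv_mem ht t2 with k | k
  · exact ⟨k, by rw [← h1, ← e]; exact conj_mem_conj s k⟩
  · exact ⟨by rw [← h2, ← e]; exact conj_mem_conj s k, k⟩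
theorem ND (hg : g ∈ N[W]) : g ∈ N[W ⊓ C[K]] :=
  le_normalizer_inf le_rfl (le_normalizer_centralizer h.a.NK) hg
theorem DY : W ⊓ C[K] ≤ W ⊓ U := le_inf inf_le_left h.a.DU
theorem CW : C ≤ N[W] := (h.a.CK.trans inf_le_left).trans h.a.KN
theorem CU : C ≤ N[U] := h.a.CK.trans inf_le_right
theorem CT : C ≤ N[W ⊔ U] := le_normalizer_sup h.CW h.CU
theorem oddC : Odd (Nat.card C) := by
  obtain ⟨m, h1, e⟩ := h.q2
  have : Even (Nat.card C + 1) := by rw [h.a.cC, e]; exact (Nat.even_pow' (by omega)).2 even_two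
  exact Nat.not_even_iff_odd.1 (Nat.even_add_one.1 this)
theorem TC : (W ⊔ U) ⊓ C = ⊥ := inf_eq_bot_of_isPGroup_of_coprime h.pT (Odd.coprime_two_right h.oddC)
theorem sdp : SDP (W ⊔ U) C (K ⊓ N[U]) :=
  ⟨h.CT, h.TC, le_antisymm (sup_le (le_inf h.TK h.TU) h.a.CK) h.a.bor⟩
theorem sylB : IsSylowIn 2 (W ⊔ U) (K ⊓ N[U]) :=
  isSylowIn_iff_not_dvd_relIndex.2 ⟨le_inf h.TK h.TU, h.pT, by rw [h.sdp.relIndex_left]; exact Odd.not_two_dvd_nat h.oddC⟩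
theorem BT : K ⊓ N[U] ≤ N[W ⊔ U] := le_normalizer_sup (inf_le_left.trans h.a.KN) inf_le_right
theorem two_mem (hg : g ∈ K ⊓ N[U]) {k : ℕ} (g2 : g ^ 2 ^ k = 1) : g ∈ W ⊔ U :=
  h.sylB.le_of_le_normalizer (zpowers_le.2 hg) (isPGroup_zpowers g2) (zpowers_le.2 (h.BT hg)) (mem_zpowers g)
theorem NB (h1 : g ∈ N[W]) (h2 : g ∈ N[U]) : g ∈ N[K ⊓ N[U]] :=
  le_normalizer_inf (L := N[W] ⊓ N[U]) (inf_le_left.trans h.a.NK) (inf_le_right.trans le_normalizer) ⟨h1, h2⟩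
theorem hgC (h1 : g ∈ N[W]) (h2 : g ∈ N[U]) : ∀ c ∈ C, ∃ c' ∈ C, g * c * g⁻¹ * c'⁻¹ ∈ W ⊔ U := fun c hc => by
  obtain ⟨t, ht, c', hc', e⟩ := h.sdp.mem_iff.1 (nconj (h.NB h1 h2) (h.a.CK hc))
  exact ⟨c', hc', by rw [← e]; simpa using ht⟩
theorem trW (ht : t ∈ W ⊔ U) (hw : w ∈ W) : t * w * t⁻¹ * w⁻¹ ∈ W ⊓ U := by
  obtain ⟨a, ha, u, hu, rfl⟩ := h.memT ht
  have k := nconj (h.NY (le_normalizer (mem_sup_left ha))) (Subgroup.inv_mem _ (h.cm hw hu))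
  have e := h.eW.comm ha hw
  convert k using 1
  calc a * u * w * (a * u)⁻¹ * w⁻¹ = a * (u * w * u⁻¹) * (w * a)⁻¹ := by group
    _ = _ := by rw [← e]; group
theorem sec1 : Sec q (W ⊓ U) (W ⊓ C[K]) C (W ⊔ U) where
  el := h.eY
  le := h.DY
  cA := h.a.cY
  CA := le_normalizer_inf h.CW h.CU
  CB := fun _ hc => h.ND (h.CW hc)
  CT := h.CT
  triv := fun t ht a ha => by rw [← h.cY ht ha]; simp
  tr := fun a ha a1 b hb b1 => by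
    obtain ⟨c, hc, e⟩ := h.a.t1 a ha (fun k => a1 ⟨ha.1, k⟩) b hb (fun k => b1 ⟨hb.1, k⟩)
    exact ⟨c, hc, mul_mem (nconj (h.CW hc) ha.1) (Subgroup.inv_mem _ hb.1), e⟩
  sr := fun c hc a ha a1 e => h.a.s1 c hc a ha (fun k => a1 ⟨ha.1, k⟩) e.2
theorem sec2 : Sec q W (W ⊓ U) C (W ⊔ U) where
  el := h.eW
  le := inf_le_left
  cA := h.a.cW
  CA := h.CW
  CB := le_normalizer_inf h.CW h.CU
  CT := h.CT
  triv := fun t ht a ha => h.trW ht ha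
  tr := fun a ha a1 b hb b1 => by
    obtain ⟨c, hc, e⟩ := h.a.t2 a ha (fun k => a1 ⟨ha, k⟩) b hb (fun k => b1 ⟨hb, k⟩)
    exact ⟨c, hc, mul_mem (nconj (h.CW hc) ha) (Subgroup.inv_mem _ hb), e⟩
  sr := fun c hc a ha a1 e => h.a.s2 c hc a ha (fun k => a1 ⟨ha, k⟩) e.2
theorem sec3 : Sec q U (W ⊓ U) C (W ⊔ U) where
  el := h.eU
  le := inf_le_right
  cA := h.cU
  CA := h.CU
  CB := le_normalizer_inf h.CW h.CU
  CT := h.CT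
  triv := fun t ht a ha => by
    have := h.symm.trW (sup_comm W U ▸ ht) ha; rwa [inf_comm] at this
  tr := fun a ha a1 b hb b1 => by
    obtain ⟨c, hc, e⟩ := h.a.t3 a ha (fun k => a1 ⟨k, ha⟩) b hb (fun k => b1 ⟨k, hb⟩)
    exact ⟨c, hc, e, mul_mem (nconj (h.CU hc) ha) (Subgroup.inv_mem _ hb)⟩
  sr := fun c hc a ha a1 e => h.a.s3 c hc a ha (fun k => a1 ⟨k, ha⟩) e.1
theorem two (g2 : g * g ∈ W ⊔ U) : ∃ k, g ^ 2 ^ k = 1 := by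
  obtain ⟨k, hk⟩ := isPGroup_iff_forall_mem.1 h.pT _ g2
  exact ⟨k + 1, by rw [pow_succ', pow_mul, pow_two, hk]⟩
theorem fld (h1 : g ∈ N[W]) (h2 : g ∈ N[U]) (gT : g ∉ W ⊔ U) (g2 : g * g ∈ W ⊔ U) :
    (Nat.card (fx g C (W ⊔ U)) + 1) ^ 2 = q ∧
    Nat.card (fx g (W ⊓ U) (W ⊓ C[K])) = Nat.card ↥(W ⊓ C[K]) * (Nat.card (fx g C (W ⊔ U)) + 1) ∧
    Nat.card (fx g W (W ⊓ U)) = Nat.card ↥(W ⊓ U) * (Nat.card (fx g C (W ⊔ U)) + 1) := by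
  have hq : 1 < q := by have := h.q4; omega
  have gY := h.NY (N0_le h1 h2)
  obtain ⟨e1, k⟩ := h.sec1.dich hq h.a.cC gY (h.ND h1) (h.hgC h1 h2) g2
  refine ⟨k.resolve_left fun k => gT ?_, e1, (h.sec2.dich hq h.a.cC h1 gY (h.hgC h1 h2) g2).1⟩
  rw [k, h.a.cC, mul_comm, ← h.a.cY] at e1
  have hn := h.eY.norm h.DY
  have e := eq_of_le_of_card_eq (fx_le hn) e1
  exact h.a.cent g ⟨h1, h2⟩ (h.two g2) fun y hy => ((mem_fx hn).1 (e.ge hy)).2.2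
theorem rank1 (a1 : a ∈ N[W]) (a2 : a ∈ N[U]) (b1 : b ∈ N[W]) (b2 : b ∈ N[U]) (aT : a ∉ W ⊔ U) (bT : b ∉ W ⊔ U)
    (aa : a * a ∈ W ⊔ U) (bb : b * b ∈ W ⊔ U) (ab : a * b * (a * b) ∈ W ⊔ U) : a * b ∈ W ⊔ U := by
  by_contra hT
  haveI := h.a.cyc
  have c1 := mul_mem a1 b1
  have c2 := mul_mem a2 b2
  have k1 := (h.fld a1 a2 aT aa).1
  have k2 := (h.fld b1 b2 bT bb).1
  have k3 := (h.fld c1 c2 hT ab).1
  have e2 : fx b C (W ⊔ U) = fx a C (W ⊔ U) := CyclicPGroup.eq_of_card_eq_of_le_cyclic (fx_le h.CT) (fx_le h.CT)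
    (by have := Nat.pow_left_injective two_ne_zero (k2.trans k1.symm); simpa using this)
  have e3 : fx (a * b) C (W ⊔ U) = fx a C (W ⊔ U) := CyclicPGroup.eq_of_card_eq_of_le_cyclic (fx_le h.CT)
    (fx_le h.CT) (by have := Nat.pow_left_injective two_ne_zero (k3.trans k1.symm); simpa using this)
  have cc : ∀ x ∈ C, ∀ y ∈ C, x * y = y * x := fun x hx y hy =>
    congrArg Subtype.val (h.a.cyc.commutative.1.1 (⟨x, hx⟩ : C) ⟨y, hy⟩)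
  have aN := N0_le a1 a2
  have : C ≤ fx a C (W ⊔ U) := fun c hc => by
    obtain ⟨ca, ha, ea⟩ := h.hgC a1 a2 c hc
    obtain ⟨cb, hb, eb⟩ := h.hgC b1 b2 c hc
    have m1 := tr_mem aN h.CT (cc _ hc _ ha) aa hc ha ea
    have m2 := e2 ▸ tr_mem (N0_le b1 b2) h.CT (cc _ hc _ hb) bb hc hb eb
    have hd : ca⁻¹ * (c * cb) ∈ C := mul_mem (C.inv_mem ha) (mul_mem hc hb)
    have m3 := e3 ▸ tr_mem (N0_le c1 c2) h.CT (cc _ hc _ hd) ab hc hd (by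
      have p1 := nconj aN eb
      have p2 := nconj' (h.CT ha) (Subgroup.inv_mem _ ea)
      have p3 := nconj' (h.CT ha) ((mem_fx h.CT).1 m2).2
      have := mul_mem p1 (mul_mem p2 p3)
      convert this using 1; group)
    have m4 := mul_mem (mul_mem m3 (Subgroup.inv_mem _ m2)) m1
    have e : c * (ca⁻¹ * (c * cb)) * (c * cb)⁻¹ * (c * ca) = c * c := by rw [cc _ hc _ ha]; group
    obtain ⟨k, hk⟩ := h.oddC
    have o : c ^ (2 * k + 1) = 1 := by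
      have := congrArg Subtype.val (pow_card_eq_one' (x := (⟨c, hc⟩ : C)))
      rwa [hk] at this
    have := pow_mem (e ▸ m4) (k + 1)
    rwa [← pow_two, ← pow_mul, show 2 * (k + 1) = 2 * k + 1 + 1 by ring, pow_succ, o, one_mul] at this
  rw [le_antisymm (fx_le h.CT) this, h.a.cC] at k1
  have := h.q4
  nlinarith
theorem cfY (h1 : g ∈ N[W]) (h2 : g ∈ N[U]) (gT : g ∉ W ⊔ U) (g2 : g * g ∈ W ⊔ U) (hA : A ≤ (W ⊓ U) ⊓ c[g]) :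
    Nat.card A ≤ Nat.card ↥(W ⊓ C[K] ⊓ A) * (Nat.card (fx g C (W ⊔ U)) + 1) := by
  obtain ⟨-, e, -⟩ := h.fld h1 h2 gT g2
  have hn := h.eY.norm h.DY
  have := card_le_mul (B := W ⊓ C[K]) (E := fx g (W ⊓ U) (W ⊓ C[K])) (A := A) fun a ha =>
    (mem_fx hn).2 ⟨(hA ha).1, by rw [← mem_cent1.1 (hA ha).2]; simp⟩
  rw [← card_mul_relIndex (le_fx hn h.DY (h.ND h1))] at e
  rwa [Nat.eq_of_mul_eq_mul_left Nat.card_pos e] at this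
theorem cf_le (h1 : g ∈ N[W]) (h2 : g ∈ N[U]) (gT : g ∉ W ⊔ U) (g2 : g * g ∈ W ⊔ U) (hA : A ≤ W ⊓ c[g]) :
    Nat.card A ≤ Nat.card ↥(W ⊓ U) := by
  obtain ⟨e0, -, e⟩ := h.fld h1 h2 gT g2
  have hn := h.eW.norm (inf_le_left (b := U))
  have := card_le_mul (B := W ⊓ U) (E := fx g W (W ⊓ U)) (A := A) fun a ha =>
    (mem_fx hn).2 ⟨(hA ha).1, by rw [← mem_cent1.1 (hA ha).2]; simp⟩
  rw [← card_mul_relIndex (le_fx hn inf_le_left (h.NY (N0_le h1 h2)))] at e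
  rw [Nat.eq_of_mul_eq_mul_left Nat.card_pos e] at this
  have k := h.cfY h1 h2 gT g2 (A := W ⊓ U ⊓ A) (inf_le_inf_left _ (hA.trans inf_le_right))
  have k2 : Nat.card ↥(W ⊓ C[K] ⊓ (W ⊓ U ⊓ A)) ≤ Nat.card ↥(W ⊓ C[K]) := FTDefs.card_le_of_le inf_le_left
  rw [h.a.cY, ← e0]
  refine this.trans ((Nat.mul_le_mul_right _ (k.trans (Nat.mul_le_mul_right _ k2))).trans (le_of_eq (by ring)))
/-- a 2-group acting trivially on `W / Y` -/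
theorem triv (hP : IsPGroup 2 P) (h1 : P ≤ N[W]) (h2 : P ≤ N[U]) (e : ∀ g ∈ P, ∀ w ∈ W, g * w * g⁻¹ * w⁻¹ ∈ U) :
    P ≤ W ⊔ U := by
  by_contra hn
  obtain ⟨g, hg, gT, g2⟩ := ex_sq hP hn
  obtain ⟨e0, -, e2⟩ := h.fld (h1 hg) (h2 hg) gT g2
  have hn := h.eW.norm (inf_le_left (b := U))
  have : fx g W (W ⊓ U) = W := le_antisymm (fx_le hn) fun w hw =>
    (mem_fx hn).2 ⟨hw, mul_mem (nconj (h1 hg) hw) (W.inv_mem hw), e g hg w hw⟩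
  rw [this, h.a.cW, mul_comm] at e2
  rw [← Nat.eq_of_mul_eq_mul_left Nat.card_pos e2] at e0
  have := h.q4
  nlinarith
theorem idx1 (hA : A ≤ N[W ⊔ U]) : Nat.card A ≤ 2 * Nat.card ↥(A ⊓ N[W]) :=
  card_le_two fun _ ha a1 _ hb b1 => h.sw_mul (hA ha) a1 (hA hb) b1
theorem idx2 (eA : El A) (h1 : A ≤ N[W]) (h2 : A ≤ N[U]) : Nat.card A ≤ 2 * Nat.card ↥(A ⊓ (W ⊔ U)) :=
  card_le_two fun a ha a1 b hb b1 => by
    rw [inv_sq (eA b hb)]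
    exact h.rank1 (h1 ha) (h2 ha) (h1 hb) (h2 hb) a1 b1 (by rw [eA a ha]; exact one_mem _)
      (by rw [eA b hb]; exact one_mem _) (by rw [eA _ (mul_mem ha hb)]; exact one_mem _)
/-- `W` and `U` are the only elementary abelian subgroups of their order in `N(T₀)` -/
theorem wc (eA : El A) (cA : Nat.card A = Nat.card W) (hA : A ≤ N[W ⊔ U]) : A = W ∨ A = U := by
  by_cases hT : A ≤ W ⊔ U
  · exact h.eq_or eA hT cA
  exfalso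
  have i1 := h.idx1 hA
  have n2 : A ⊓ N[W] ≤ N[U] := fun a ha => h.ofW (hA ha.1) ha.2
  have i2 := h.idx2 (eA.of_le inf_le_left) inf_le_right n2
  have pY : 0 < Nat.card ↥(W ⊓ U) := Nat.card_pos
  have q4 : 4 * Nat.card ↥(W ⊓ U) ≤ Nat.card A := by rw [cA, h.a.cW]; exact Nat.mul_le_mul_right _ h.q4
  by_cases hw : A ≤ N[W]
  · obtain ⟨f, hf, fT⟩ := SetLike.not_le_iff_exists.1 hT
    rw [inf_eq_left.2 hw] at i2 n2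
    have f2 : f * f ∈ W ⊔ U := by rw [eA f hf]; exact one_mem _
    have cf : A ⊓ (W ⊔ U) ≤ c[f] := fun a ha => mem_cent1.2 (eA.comm ha.1 hf)
    rcases h.el_le (eA.of_le (inf_le_left (b := W ⊔ U))) inf_le_right with k | k
    · have := h.cf_le (hw hf) (n2 hf) fT f2 (le_inf k cf); omega
    · have := h.symm.cf_le (n2 hf) (hw hf) (sup_comm W U ▸ fT) (sup_comm W U ▸ f2) (le_inf k cf)
      rw [inf_comm U] at this; omega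
  obtain ⟨s, hs, sW⟩ := SetLike.not_le_iff_exists.1 hw
  have l : A ⊓ N[W] ⊓ (W ⊔ U) ≤ W ⊓ U := fun a ha =>
    h.sw_fix (hA hs) sW ha.2 (eA a ha.1.1) (by rw [eA.comm hs ha.1.1]; simp)
  by_cases k : A ⊓ N[W] ≤ W ⊔ U
  · rw [inf_eq_left.2 k] at l
    have := FTDefs.card_le_of_le l; omega
  obtain ⟨f, hf, fT⟩ := SetLike.not_le_iff_exists.1 k
  have e := eq_of_le_of_card_le l (by omega)
  exact fT (h.a.cent f ⟨hf.2, n2 hf⟩ ⟨1, by simpa [pow_two] using eA f hf.1⟩ fun y hy => by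
    rw [eA.comm hf.1 (e.ge hy).1.1]; simp)
theorem wcN (h1 : W ^ᶜ g ≤ N[W ⊔ U]) (h2 : U ^ᶜ g ≤ N[W ⊔ U]) : g ∈ N[W ⊔ U] :=
  (h.pair (h.wc (h.eW.conj g) (card_conj _ _) h1) (h.wc (h.eU.conj g) ((card_conj _ _).trans h.cUW) h2)).elim
    (fun k => N0_le k.1 k.2) fun k => sw_mem k.1 k.2
theorem wcT (h1 : (W ⊔ U) ^ᶜ g ≤ N[W ⊔ U]) : g ∈ N[W ⊔ U] :=
  h.wcN ((conj_mono g le_sup_left).trans h1) ((conj_mono g le_sup_right).trans h1)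
theorem sylN (hP : IsPGroup 2 P) (hT : W ⊔ U ≤ P) : P ≤ N[W ⊔ U] :=
  (eq_of_inf_normalizer_le (Q := P ⊓ N[W ⊔ U]) hP inf_le_left fun _ hg => ⟨hg.1, h.wcT
    ((conj_le_of_mem_normalizer (le_inf hT le_normalizer) hg.2).trans inf_le_right)⟩).ge.trans inf_le_right
theorem normN (hO : IsPGroup 2 O) (hT : W ⊔ U ≤ N[O]) : O ≤ N[W ⊔ U] :=
  le_sup_left.trans (h.sylN (sup_pg h.pT hO hT) le_sup_right)
theorem exC : ∃ c ∈ C, c ≠ 1 := by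
  by_contra hn
  have : C = ⊥ := eq_bot_iff.2 fun c hc => by by_contra k; exact hn ⟨c, hc, k⟩
  have e := h.a.cC
  have := h.q4
  rw [‹C = ⊥›, card_bot] at e; omega
theorem cT (ht : t ∈ W ⊔ U) (hc : t ∈ C[C]) : t ∈ W ⊓ C[K] := by
  obtain ⟨c, hC, c1⟩ := h.exC
  have e : c * t * c⁻¹ * t⁻¹ = 1 := by rw [mem_cent_iff.1 hc c hC]; group
  have tU : t ∈ U := by
    obtain ⟨w, hw, u, hu, rfl⟩ := h.memT ht
    by_contra k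
    refine c1 (h.a.s2 c hC w hw (fun k' => k (mul_mem k' hu)) ?_)
    have := nconj (h.WU hw) (mul_mem hu (U.inv_mem (nconj (h.CU hC) hu)))
    convert this using 1
    have e2 : c * w * c⁻¹ = w * u * (c * u * c⁻¹)⁻¹ := by
      calc _ = c * (w * u) * c⁻¹ * (w * u)⁻¹ * (w * u * (c * u * c⁻¹)⁻¹) := by group
        _ = _ := by rw [e, one_mul]
    rw [e2]; group
  have tW : t ∈ W := by_contra fun k => c1 (h.a.s3 c hC t tU k (e ▸ one_mem _))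
  exact ⟨tW, by_contra fun k => c1 (h.a.s1 c hC t ⟨tW, tU⟩ k (e ▸ one_mem _))⟩
theorem KD : K ≤ N[W ⊓ C[K]] := fun _ hk => h.ND (h.a.KN hk)
theorem YY (mK : m ∈ K) (mY : (W ⊓ U) ⊓ (W ⊓ U) ^ᶜ m ≤ C[K]) : (W ⊓ U) ⊔ (W ⊓ U) ^ᶜ m = W := by
  have l2 : (W ⊓ U) ^ᶜ m ≤ W := conj_le_of_mem_normalizer inf_le_left (h.a.KN mK)
  refine eq_of_le_of_card_le (sup_le inf_le_left l2) ?_
  have e := card_sup_mul_card_inf (H := W ⊓ U) (N := (W ⊓ U) ^ᶜ m) (inf_le_left.trans (h.eW.norm l2))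
  have k : Nat.card ↥((W ⊓ U) ⊓ (W ⊓ U) ^ᶜ m) ≤ Nat.card ↥(W ⊓ C[K]) :=
    FTDefs.card_le_of_le (le_inf (inf_le_left.trans inf_le_left) mY)
  rw [card_conj] at e
  refine Nat.le_of_mul_le_mul_right (c := Nat.card ↥(W ⊓ C[K])) ?_ Nat.card_pos
  refine le_trans (le_of_eq ?_) (e.ge.trans (Nat.mul_le_mul_left _ k))
  rw [h.a.cW]; nth_rw 3 [h.a.cY]; ring
theorem TT (mK : m ∈ K) (mY : (W ⊓ U) ⊓ (W ⊓ U) ^ᶜ m ≤ C[K]) (h1 : t ∈ W ⊔ U) (h2 : t ∈ (W ⊔ U) ^ᶜ m) : t ∈ W := by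
  refine h.a.cw ?_
  rw [← h.YY mK mY, centralizer_sup, ← conj_centralizer]
  exact ⟨h.YT h1, conj_mono m h.YT h2⟩
theorem cjK (mK : m ∈ K) : B0 q K (K' ^ᶜ m) W (U ^ᶜ m) (C ^ᶜ m) (C' ^ᶜ m) (m * n * m⁻¹) (m * n' * m⁻¹) := by
  have := h.conj m
  rwa [conj_eq_of_mem mK, conj_eq_of_mem_normalizer (h.a.KN mK)] at this
theorem half (hX : SDP (W ⊔ U) X ((K ⊓ N[U]) ⊔ (K' ⊓ N[W]))) (hc : (Nat.card ↥(W ⊔ U)).Coprime (Nat.card X))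
    (fX : f ∈ N[X]) : (f ∈ W ⊔ U → f ∈ C[X] → f ∈ W ⊓ C[K]) ∧
      (f ∈ N[W] → f ∈ N[U] → ∃ m ∈ K, (W ⊓ U) ⊓ (W ⊓ U) ^ᶜ m ≤ C[K] ∧ f ∈ N[U ^ᶜ m]) := by
  obtain ⟨t, ht, e⟩ := hX.exists_le_conj hc (h.sdp.le_right.trans le_sup_left)
    (coprime_of_isPGroup_left Nat.prime_two h.pT (Odd.coprime_two_right h.oddC))
    (Or.inl (solv_of_isPGroup Nat.prime_two h.pT))
  rw [le_conj_iff_conj_inv_le] at e
  have ti := (W ⊔ U).inv_mem ht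
  constructor
  · intro fT fc
    have : f ∈ (W ⊓ C[K]) ^ᶜ t⁻¹ := mem_conj_iff.2 (h.cT (mul_mem (mul_mem ((W ⊔ U).inv_mem ti) fT) ti)
      (mem_conj_iff.1 (by rw [conj_centralizer]; exact centralizer_anti e fc)))
    rwa [conj_eq_of_mem_normalizer (h.KD (h.TK ti))] at this
  · intro f1 f2
    have s1 := hX.of_left_le h.sdp.le_left le_sup_left
    have s2 := h.sdp.conj_right (h.sdp.le_left ti)
    have e2 : C ^ᶜ t⁻¹ = X ⊓ (K ⊓ N[U]) := s2.eq_right_of_le s1 (le_inf e s2.le_right)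
    have fC : f ∈ N[C ^ᶜ t⁻¹] := e2 ▸ le_normalizer_inf (L := N[X] ⊓ N[K ⊓ N[U]]) inf_le_left inf_le_right
      ⟨fX, h.NB f1 f2⟩
    refine ⟨t⁻¹ * n, mul_mem (h.TK ti) h.a.nK, ?_, ?_⟩
    · have := conj_mono t⁻¹ h.a.nY
      rwa [conj_inf, conj_conj, conj_eq_of_mem_normalizer (h.NY (le_normalizer ti)), conj_centralizer,
        conj_eq_of_mem (h.TK ti)] at this
    · rw [← conj_conj, ← conj_normalizer]
      refine conj_mono t⁻¹ h.a.nN ?_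
      rw [conj_inf, conj_inf, conj_normalizer, conj_normalizer, conj_normalizer,
        conj_eq_of_mem_normalizer (h.TW ti), conj_eq_of_mem_normalizer (h.TU ti)]
      exact ⟨⟨f1, f2⟩, fC⟩
theorem Ysup (h1 : E ≤ W ⊓ U) (h2 : C ≤ N[E]) (h3 : ¬ E ≤ C[K]) : W ⊓ U ≤ E ⊔ (W ⊓ C[K]) := fun b hb => by
  by_cases k : b ∈ C[K]
  · exact mem_sup_right ⟨hb.1, k⟩
  obtain ⟨a, ha, a1⟩ := SetLike.not_le_iff_exists.1 h3
  obtain ⟨c, hc, e⟩ := h.a.t1 a (h1 ha) a1 b hb k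
  have := mul_mem (Subgroup.inv_mem _ (mem_sup_right (S := E) (T := W ⊓ C[K])
    ⟨mul_mem (nconj (h.CW hc) (h1 ha).1) (W.inv_mem hb.1), e⟩)) (mem_sup_left (nconj (h2 hc) ha))
  convert this using 1; group
theorem cDD : Nat.card ↥(W ⊓ C[K]) = Nat.card ↥(U ⊓ C[K']) := by
  have e := h.b.cY
  rw [inf_comm U W, h.a.cY] at e
  exact Nat.eq_of_mul_eq_mul_left (by have := h.q4; omega) e
theorem DY' : U ⊓ C[K'] ≤ W ⊓ U := inf_comm U W ▸ h.symm.DY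
theorem CD' : C ≤ N[U ⊓ C[K']] := fun _ hc => h.symm.ND (h.CU hc)
theorem Dne (hD : W ⊓ C[K] ≠ ⊥) : U ⊓ C[K'] ≠ ⊥ := fun e => hD (by
  have := h.cDD; rwa [e, card_bot, card_eq_one] at this)
theorem Dbot (hD : W ⊓ C[K] = ⊥) : U ⊓ C[K'] = ⊥ := by_contra fun k => h.symm.Dne k hD
theorem nD (hE : E ≤ U ⊓ C[K']) (e : E ≠ ⊥) : ¬ E ≤ C[K] := fun k =>
  e (eq_bot_iff.2 ((le_inf (le_inf ((hE.trans h.DY').trans inf_le_left) k) hE).trans h.DD.le))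
theorem Ysp (hD : W ⊓ C[K] ≠ ⊥) : (U ⊓ C[K']) ⊔ (W ⊓ C[K]) = W ⊓ U :=
  le_antisymm (sup_le h.DY' h.DY) (h.Ysup h.DY' h.CD' (h.nD le_rfl (h.Dne hD)))
theorem cD (hD : W ⊓ C[K] ≠ ⊥) : Nat.card ↥(W ⊓ C[K]) = q := by
  have e := card_sup_mul_card_inf (H := U ⊓ C[K']) (N := W ⊓ C[K]) (h.DY'.trans (h.eY.norm h.DY))
  rw [h.Ysp hD, inf_comm (U ⊓ C[K']), h.DD, card_bot, mul_one, h.a.cY, ← h.cDD] at e
  exact (Nat.eq_of_mul_eq_mul_right Nat.card_pos e).symm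
theorem exW : ∃ w ∈ W, w ∉ U := SetLike.not_le_iff_exists.1 h.not_le
/-- a centralized element outside `Y` -/
theorem ex_t (h1 : f ∈ N[W]) (h2 : f ∈ N[U]) (fT : f ∉ W ⊔ U) (f2 : f * f = 1) : ∃ t ∈ U, t ∉ W ∧ t ∈ c[f] := by
  by_contra hn
  have l : U ⊓ c[f] ≤ (W ⊓ U) ⊓ c[f] := fun t ht => ⟨⟨by_contra fun k => hn ⟨t, ht.1, k, ht.2⟩, ht.1⟩, ht.2⟩
  have f2' : f * f ∈ W ⊔ U := f2 ▸ one_mem _
  have k1 := card_fx_ge h.eU bot_le h2 (mem_N fun _ k => by rw [mem_bot.1 k]; simp) (fun a _ => by simp [f2])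
  rw [fx_bot, card_bot, mul_one, h.cU, h.a.cY] at k1
  have k2 := h.cfY h1 h2 fT f2' l
  have e1 := (h.fld h1 h2 fT f2').1
  have q4 := h.q4
  have k4 : Nat.card ↥(W ⊓ C[K] ⊓ (U ⊓ c[f])) ^ 2 ≤ Nat.card ↥(W ⊓ C[K]) := by
    by_cases hD : W ⊓ C[K] = ⊥
    · simp [hD]
    have k3 := h.symm.cfY h2 h1 (sup_comm W U ▸ fT) (sup_comm W U ▸ f2') (A := W ⊓ C[K] ⊓ (U ⊓ c[f]))
      (fun a ha => ⟨⟨ha.2.1, ha.1.1⟩, ha.2.2⟩)
    have : U ⊓ C[K'] ⊓ (W ⊓ C[K] ⊓ (U ⊓ c[f])) = ⊥ := eq_bot_iff.2 fun a ha => h.DD.le ⟨ha.2.1, ha.1⟩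
    rw [this, card_bot, one_mul] at k3
    rw [h.cD hD, ← (h.symm.fld h2 h1 (sup_comm W U ▸ fT) (sup_comm W U ▸ f2')).1]
    exact Nat.pow_le_pow_left k3 2
  have k5 := Nat.pow_le_pow_left k2 2
  rw [mul_pow, e1] at k5
  have k6 := k1.trans (k5.trans (Nat.mul_le_mul_right _ k4))
  have : 0 < q * Nat.card ↥(W ⊓ C[K]) := Nat.mul_pos (by omega) Nat.card_pos
  nlinarith
theorem Tc (hy : y ∈ W ⊓ U) : W ⊔ U ≤ c[y] := fun _ ht => mem_cent1.2 (h.cY ht hy).symm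
theorem ON (hy : y ∈ W ⊓ U) : pCoreOf 2 c[y] ≤ N[W ⊔ U] :=
  h.normN (pCoreOf_isPGroup 2 _) ((h.Tc hy).trans (cO y))
theorem ONg (hy : y ∈ W ⊓ U) (hg : g ∈ c[y]) : pCoreOf 2 c[y] ≤ N[(W ⊔ U) ^ᶜ g] := by
  have := le_normalizer_conj (h.ON hy) g
  rwa [conj_eq_of_mem_normalizer (cO y hg)] at this
theorem notY (hO : IsPGroup 2 O) (hT : W ⊔ U ≤ N[O]) (hc : (W ⊔ U) ⊓ C[O] ≤ O) : ¬ O ⊓ (W ⊔ U) ≤ W ⊓ U := fun k => by
  have oN := h.normN hO hT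
  have e : ∀ g ∈ O, ∀ w ∈ W, g * w * g⁻¹ * w⁻¹ ∈ W ⊓ U := fun g hg w hw =>
    k ⟨cmO hg (hT (mem_sup_left hw)), cmO' (oN hg) (mem_sup_left hw)⟩
  have o1 : O ≤ N[W] := fun g hg => mem_N fun w hw => (mul_mem_cancel_right (W.inv_mem hw)).1 (e g hg w hw).1
  have o2 := h.triv hO o1 (fun g hg => h.ofW (oN hg) (o1 hg)) fun g hg w hw => (e g hg w hw).2
  have o3 : O ≤ W ⊓ U := (le_inf le_rfl o2).trans k
  exact h.not_le (le_sup_left.trans ((le_inf le_rfl (h.YT.trans (centralizer_anti o3))).trans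
    (hc.trans (o3.trans inf_le_right))))
theorem Oc (hy : y ∈ W ⊓ U) (y1 : y ≠ 1) : (W ⊔ U) ⊓ C[pCoreOf 2 c[y]] ≤ pCoreOf 2 c[y] :=
  fun _ ht => h.loc.inv (h.eY y hy) y1 ⟨ht.2, h.Tc hy ht.1⟩
theorem CdW (hd : d ∈ W ⊓ C[K]) (d1 : d ≠ 1) : c[d] ≤ N[W] := by
  have dY := h.DY hd
  have Kc : K ≤ c[d] := fun k hk => mem_cent1.2 (mem_cent_iff.1 hd.2 k hk)
  have KO := Kc.trans (cO d)
  have pO := pCoreOf_isPGroup 2 c[d]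
  have o1 : pCoreOf 2 c[d] ⊓ N[W] ≤ W := h.a.mx _ (pO.to_le inf_le_left) inf_le_right
    (le_normalizer_inf KO (h.a.KN.trans le_normalizer))
  have o2 : pCoreOf 2 c[d] ≤ N[W] := fun s hs => by_contra fun s1 => by
    obtain ⟨w, hw, w1⟩ := h.exW
    have k := o1 ⟨cmO hs (KO (h.a.WK hw)), h.TW (cmO' (h.ON dY hs) (mem_sup_left hw))⟩
    have k2 := (mul_mem_cancel_right (W.inv_mem hw)).1 k
    rw [← (h.swap_of (h.ON dY hs) s1).2] at k2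
    exact w1 (conj_mem_conj_iff.1 k2)
  have o3 : pCoreOf 2 c[d] ≤ W := (le_inf le_rfl o2).trans o1
  have o4 : W ≤ pCoreOf 2 c[d] := fun w hw => h.Oc dY d1 ⟨mem_sup_left hw, mem_cent_iff.2 fun a ha => h.eW.comm (o3 ha) hw⟩
  have := cO d
  rwa [le_antisymm o3 o4] at this
theorem cYq (hD : W ⊓ C[K] = ⊥) : Nat.card ↥(W ⊓ U) = q := by rw [h.a.cY, hD, card_bot, mul_one]
theorem small (hD : W ⊓ C[K] = ⊥) (hq : 4 < q) (h1 : g ∈ N[W]) (h2 : g ∈ N[U]) (g2 : g * g ∈ W ⊔ U)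
    (hA : A ≤ (W ⊓ U) ⊓ c[g]) (c : q ≤ 2 * Nat.card A) : g ∈ W ⊔ U := by_contra fun gT => by
  have k := h.cfY h1 h2 gT g2 hA
  have e := (h.fld h1 h2 gT g2).1
  rw [hD, bot_inf_eq, card_bot, one_mul] at k
  nlinarith
theorem cov (hD : W ⊓ C[K] = ⊥) (hW : W ≤ N[O]) (ht : t ∈ O ⊓ (W ⊔ U)) (tW : t ∉ W) : W ⊓ U ≤ O := by
  obtain ⟨w, hw, u, hu, rfl⟩ := h.memT ht.2
  have uW : u ∉ W := fun k => tW (mul_mem hw k)
  have tr := fun a (ha : a ∈ W) => h.trW ht.2 ha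
  let δ : W →* G := MonoidHom.mk' (fun a => w * u * a * (w * u)⁻¹ * (a : G)⁻¹) fun a b => by
    have e := h.cY (mem_sup_left (W.inv_mem a.2)) (tr b b.2)
    simp only [coe_mul]
    calc _ = w * u * a * (w * u)⁻¹ * (w * u * b * (w * u)⁻¹ * (b : G)⁻¹ * (a : G)⁻¹) := by group
      _ = _ := by rw [e]; group
  have r : δ.range ≤ W ⊓ U := by rintro _ ⟨a, rfl⟩; exact tr a a.2
  have k : δ.ker ≤ (W ⊓ U).subgroupOf W := fun a ha => ⟨a.2, by_contra fun a1 => h.nc a.2 a1 hu uW (by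
    have e : w * u * a = a * (w * u) := cmm ha
    apply mul_left_cancel (a := w)
    rw [← mul_assoc, h.eW.comm hw a.2, mul_assoc, ← e, mul_assoc])⟩
  have i := index_antitone k
  rw [index_ker] at i
  have e := card_mul_relIndex (inf_le_left (a := W) (b := U))
  rw [h.a.cW, mul_comm] at e
  have e2 := Nat.eq_of_mul_eq_mul_right Nat.card_pos e
  rw [← eq_of_le_of_card_le r (by rw [h.cYq hD, ← e2]; exact i)]
  rintro _ ⟨a, rfl⟩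
  exact cmO ht.1 (hW a.2)
theorem Tm (mK : m ∈ K) : (W ⊔ U) ^ᶜ m = W ⊔ U ^ᶜ m := by rw [conj_sup, conj_eq_of_mem_normalizer (h.a.KN mK)]
theorem Ym (mK : m ∈ K) : (W ⊓ U) ^ᶜ m = W ⊓ U ^ᶜ m := by rw [conj_inf, conj_eq_of_mem_normalizer (h.a.KN mK)]
theorem two1 (hg : g ∈ K) (gU : g ∈ N[U]) (g2 : g * g = 1) : g ∈ W ⊔ U :=
  h.two_mem ⟨hg, gU⟩ (k := 1) (by simpa [pow_two] using g2)
theorem fTm (mK : m ∈ K) (f2 : f * f = 1) (fU : f ∈ N[U]) (fT : f ∉ W ⊔ U) : f ∉ W ⊔ U ^ᶜ m := fun k =>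
  fT (h.two1 ((h.cjK mK).TK k) fU f2)
theorem tiO (ht : t ∈ U) (tW : t ∉ W) (tc : t ∈ c[f]) : pCoreOf 2 c[f] ⊓ N[W] ≤ N[U] :=
  le_sup_left.trans (h.a.ti _ (sup_pg (pg_sq (h.eU t ht)) ((pCoreOf_isPGroup 2 _).to_le inf_le_left)
    (le_normalizer_inf (zpowers_le.2 (cO f tc)) (zpowers_le.2 (le_normalizer (h.UW ht)))))
    (sup_le inf_le_right (zpowers_le.2 (h.UW ht))) t (mem_sup_right (mem_zpowers t)) ht tW)
theorem OK (ht : t ∈ U) (tW : t ∉ W) (tc : t ∈ c[f]) : pCoreOf 2 c[f] ⊓ K ≤ W ⊔ U := fun a ha => by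
  obtain ⟨j, hj⟩ := isPGroup_iff_forall_mem.1 (pCoreOf_isPGroup 2 c[f]) a ha.1
  exact h.two_mem ⟨ha.2, h.tiO ht tW tc ⟨ha.1, h.a.KN ha.2⟩⟩ hj
theorem fh1 (f2 : f * f = 1) (fW : f ∈ N[W]) (fU : f ∈ N[U]) (fT : f ∉ W ⊔ U) (mK : m ∈ K)
    (mY : (W ⊓ U) ⊓ (W ⊓ U) ^ᶜ m ≤ C[K]) (fm : f ∈ N[U ^ᶜ m]) : pCoreOf 2 c[f] ⊓ (W ⊔ U) ≤ W ∧
      (pCoreOf 2 c[f] ⊓ (W ⊔ U) ≤ U → pCoreOf 2 c[f] ⊓ (W ⊔ U) ≤ C[K]) := by
  have h' := h.cjK mK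
  obtain ⟨t, ht, tW, tc⟩ := h'.ex_t fW fm (h.fTm mK f2 fU fT) f2
  have l : pCoreOf 2 c[f] ⊓ (W ⊔ U) ≤ W := fun a ha => h.TT mK mY ha.2 (h.Tm mK ▸ h'.OK ht tW tc ⟨ha.1, h.TK ha.2⟩)
  refine ⟨l, fun l2 a ha => ?_⟩
  rw [h.Ym mK] at mY
  by_cases k : a ∈ U ^ᶜ m
  · exact mY ⟨⟨l ha, l2 ha⟩, l ha, k⟩
  have k2 := h'.cm (l ha) ht
  exact absurd (mY ⟨⟨k2.1, l2 ⟨cmO ha.1 (cO f tc), mem_sup_left k2.1⟩⟩, k2⟩) (h'.a.nd a (l ha) k t ht tW)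
theorem fk (f2 : f * f = 1) (fW : f ∈ N[W]) (fU : f ∈ N[U]) (fT : f ∉ W ⊔ U) (mK : m ∈ K)
    (mY : (W ⊓ U) ⊓ (W ⊓ U) ^ᶜ m ≤ C[K]) (fm : f ∈ N[U ^ᶜ m]) (hO : pCoreOf 2 c[f] ⊓ (W ⊔ U) = ⊥) :
    pCoreOf 2 c[f] ⊓ N[W] ≤ N[U] ∧
    ∃ k ∈ K, k ∈ c[f] ∧ (orderOf k).Coprime 2 ∧ k ∉ C[pCoreOf 2 c[f]] ∧ k ∈ C[pCoreOf 2 c[f] ⊓ N[W]] := by
  have h' := h.cjK mK
  obtain ⟨t, ht, tW, tc⟩ := h.ex_t fW fU fT f2
  obtain ⟨t', ht', tW', tc'⟩ := h'.ex_t fW fm (h.fTm mK f2 fU fT) f2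
  have z : ∀ a ∈ pCoreOf 2 c[f], a ∈ K → a = 1 := fun a ha k => mem_bot.1 (hO.le ⟨ha, h.OK ht tW tc ⟨ha, k⟩⟩)
  have c1 : t ∈ C[pCoreOf 2 c[f] ⊓ N[W]] := mem_cent_iff.2 fun a ha =>
    cmm (z _ (cmO ha.1 (cO f tc)) (h.a.UK (cmO' (h.tiO ht tW tc ha) ht)))
  have c2 : t' ∈ C[pCoreOf 2 c[f] ⊓ N[W]] := mem_cent_iff.2 fun a ha =>
    cmm (z _ (cmO ha.1 (cO f tc')) (h'.a.UK (cmO' (h'.tiO ht' tW' tc' ha) ht')))
  obtain ⟨j, hj⟩ := exists_pow_coprime (p := 2) (isOfFinOrder_of_finite (t * t'))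
  have tK := mul_mem (h.a.UK ht) (h'.a.UK ht')
  have kc := pow_mem (mul_mem tc tc') (2 ^ j)
  refine ⟨h.tiO ht tW tc, _, pow_mem tK _, kc, hj, fun k => ?_, pow_mem (mul_mem c1 c2) _⟩
  have k1 := z _ (h.loc.inv f2 (fun e => fT (e ▸ one_mem _)) ⟨k, kc⟩) (pow_mem tK _)
  have tn : zpowers t ≤ N[zpowers (t * t')] := zpowers_le.2 (mem_normalizer_iff_conj_eq.2 (by
    rw [conj_zpowers, ← zpowers_inv (g := t * t'), mul_inv_rev, inv_sq (h'.eU _ ht'), ← mul_assoc, h.eU _ ht, one_mul]))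
  have := h.a.ti _ (sup_pg (pg_sq (h.eU t ht)) (isPGroup_zpowers k1) tn)
    (sup_le (zpowers_le.2 (h.a.KN tK)) (zpowers_le.2 (h.UW ht))) t (mem_sup_right (mem_zpowers t)) ht tW
  have t2 := (mul_mem_cancel_left (le_normalizer ht)).1 (this (mem_sup_left (mem_zpowers _)))
  exact tW' (h.TT mK mY (h.two1 (h'.a.UK ht') t2 (h'.eU _ ht')) (h.Tm mK ▸ mem_sup_right ht'))
theorem c3 (gY : g ∈ N[W ⊓ U]) (g2 : g * g = 1) (c : 4 < Nat.card ↥(W ⊓ U)) : 3 ≤ Nat.card ↥(W ⊓ U ⊓ c[g]) := by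
  have k1 := card_fx_ge h.eY bot_le gY (mem_N fun _ k => by rw [mem_bot.1 k]; simp) (fun a _ => by simp [g2])
  rw [fx_bot, card_bot, mul_one] at k1
  by_contra k
  have := Nat.pow_le_pow_left (show Nat.card ↥(W ⊓ U ⊓ c[g]) ≤ 2 by omega) 2
  omega
theorem trz (s1 : s ∈ N[W]) (s2 : s ∈ N[U]) (ps : IsPGroup 2 (zpowers s)) (e : ∀ w ∈ W, s * w * s⁻¹ * w⁻¹ ∈ U) :
    s ∈ W ⊔ U := by
  refine h.triv ps (zpowers_le.2 s1) (zpowers_le.2 s2) (fun g hg w hw => ?_) (mem_zpowers s)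
  obtain ⟨j, rfl⟩ := mem_powers_iff_mem_zpowers.2 hg
  induction j with
  | zero => simp
  | succ j ih =>
    have := mul_mem (nconj s2 (ih (pow_mem (mem_zpowers s) j))) (e w hw)
    convert this using 1
    simp only [pow_succ']; group

end B0

end Cfsg.Agent.Lib.AP
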