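import Mathlib
import Cfsg.Agent.Lib.L3A1
import Cfsg.Agent.Lib.L3Defs
import Cfsg.Agent.Lib.AP4

/-!
The two-sided natural configuration without a swapping element ; the local analysis for S3091.
-/

set_option autoImplicit false
set_option linter.unusedSectionVars false

namespace Cfsg.Agent.Lib.AP

open Cfsg Subgroup Cfsg.Agent.Lib.PCoreConj Cfsg.Agent.Lib.PCore Cfsg.Agent.Lib.PCoreResidual
  Cfsg.Agent.Lib.FTDefs
open scoped Classical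

universe u

variable {G : Type u} [Group G] [Finite G] {q : ℕ} {K K' W U C C' A B E T P O X : Subgroup G}
  {n n' x g a b c c' d f k m m' s t u w y z : G}

/-- `W` is not conjugate to `U` -/
def NS (W U : Subgroup G) : Prop := ∀ g : G, W ^ᶜ g ≠ U

theorem NS.symm (h : NS W U) : NS U W := fun g e => h g⁻¹ (by rw [← e, conj_conj_inv])
theorem NS.conj (h : NS W U) (x : G) : NS (W ^ᶜ x) (U ^ᶜ x) := fun g e => h (x⁻¹ * (g * x)) (by
  rw [← conj_conj, ← conj_conj, e, conj_conj_inv])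

namespace B0
variable (h : B0 q K K' W U C C' n n')
include h

theorem nW (ns : NS W U) : N[W ⊔ U] ≤ N[W] := fun g hg => by_contra fun k => ns g (h.swap_of hg k).1

theorem ex_inv (ns : NS W U) (hg : g ∈ N[W ⊔ U]) (g2 : g * g ∈ W ⊔ U) : ∃ t ∈ W ⊔ U, t * g * (t * g) = 1 ∧
    (g ∈ N[W] → (∃ m ∈ K, (W ⊓ U) ⊓ (W ⊓ U) ^ᶜ m ≤ C[K] ∧ t * g ∈ N[U ^ᶜ m]) ∧
      ∃ m ∈ K', (U ⊓ W) ⊓ (U ⊓ W) ^ᶜ m ≤ C[K'] ∧ t * g ∈ N[W ^ᶜ m]) := by
  have n1 : K ⊓ N[U] ≤ N[K' ⊓ N[W]] := fun k hk => h.symm.NB hk.2 (h.a.KN hk.1)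
  have sy := h.sylB.sup h.symm.sylB n1 (sup_comm W U ▸ le_normalizer)
  rw [sup_comm U W, sup_idem] at sy
  have LN : (K ⊓ N[U]) ⊔ (K' ⊓ N[W]) ≤ N[W ⊔ U] := sup_le h.BT (sup_comm U W ▸ h.symm.BT)
  obtain ⟨X, hX, hh⟩ := exists_sdp_of_hall (hall_of_sylow Nat.prime_two sy) LN
  have hc := hX.coprime_of_left ⟨sy.le, (hall_of_sylow Nat.prime_two sy).coprime⟩
  have gL : ((K ⊓ N[U]) ⊔ (K' ⊓ N[W])) ^ᶜ g = (K ⊓ N[U]) ⊔ (K' ⊓ N[W]) := by
    rcases h.dich hg with ⟨k1, k2⟩ | ⟨k1, k2⟩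
    · rw [conj_sup, conj_eq_of_mem_normalizer (h.NB k1 k2), conj_eq_of_mem_normalizer (h.symm.NB k2 k1)]
    · exact absurd k1 (ns g)
  have hX' := hX.conj g
  rw [gL, conj_eq_of_mem_normalizer hg] at hX'
  obtain ⟨t, ht, e⟩ := hX'.exists_conj hX (by rwa [card_conj]) (Or.inl (solv_of_isPGroup Nat.prime_two h.pT))
  rw [conj_conj] at e
  have fX := mem_normalizer_iff_conj_eq.2 e
  have hXs : SDP (U ⊔ W) X ((K' ⊓ N[W]) ⊔ (K ⊓ N[U])) := by rw [sup_comm U, sup_comm (K' ⊓ N[W])]; exact hX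
  have hcs : (Nat.card ↥(U ⊔ W)).Coprime (Nat.card X) := by rw [sup_comm U]; exact hc
  refine ⟨t, ht, ?_, fun g1 => ⟨(h.half hX hc fX).2 (mul_mem (h.TW ht) g1) (mul_mem (h.TU ht) (h.ofW hg g1)),
    (h.symm.half hXs hcs fX).2 (mul_mem (h.TU ht) (h.ofW hg g1)) (mul_mem (h.TW ht) g1)⟩⟩
  have f2 : t * g * (t * g) ∈ W ⊔ U := by
    have := mul_mem (mul_mem ht (nconj hg ht)) g2
    convert this using 1; group
  have fN := mul_mem fX fX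
  have fc : t * g * (t * g) ∈ C[X] := mem_cent_iff.2 fun x hx => (cmm (hX.eq_one (by
    have := mul_mem f2 (nconj (hX.norm hx) ((W ⊔ U).inv_mem f2))
    convert this using 1; group) (mul_mem (nconj fN hx) (X.inv_mem hx)))).symm
  exact mem_bot.1 (h.DD.le ⟨(h.half hX hc fN).1 f2 fc, (h.symm.half hXs hcs fN).1 (sup_comm W U ▸ f2) fc⟩)


theorem fin0 (hD : W ⊓ C[K] = ⊥) (hy : y ∈ W ⊓ U) (y1 : y ≠ 1) (e : W ^ᶜ g = W) (k : U ^ᶜ g ≤ c[y]) :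
    g ∈ N[W ⊔ U] :=
  h.wcN (e.le.trans (le_sup_left.trans le_normalizer)) fun a ha => le_normalizer (h.fa a
    (conj_le_of_mem_normalizer h.a.UK (h.a.NK (mem_normalizer_iff_conj_eq.2 e)) ha) y hy
    (fun c => y1 (mem_bot.1 (hD.le ⟨hy.1, c⟩))) (k ha))

theorem NYN (ns : NS W U) (hD : W ⊓ C[K] = ⊥) (hq : 4 < q) : N[W ⊓ U] ≤ N[W ⊔ U] := fun g hg => by
  have NN : N[W ⊔ U] ≤ N[pCoreOf 2 N[W ⊓ U]] := fun a ha => le_normalizer_pCoreOf 2 _ (h.NY ha)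
  have hT := le_normalizer.trans NN
  have pO := pCoreOf_isPGroup 2 N[W ⊓ U]
  have Y1 : W ⊓ U ≠ ⊥ := fun e => by
    have := h.cYq hD
    rw [e, card_bot] at this; omega
  have hc : (W ⊔ U) ⊓ C[pCoreOf 2 N[W ⊓ U]] ≤ pCoreOf 2 N[W ⊓ U] :=
    fun t ht => h.loc _ h.eY.pg Y1 ⟨ht.2, h.NY (le_normalizer ht.1)⟩
  have YO : W ⊓ U ≤ pCoreOf 2 N[W ⊓ U] := le_pCoreOf le_normalizer le_rfl h.eY.pg
  obtain ⟨y, hy, y1⟩ := ex_ne Y1
  have Tg : (W ⊔ U) ^ᶜ g ≤ c[y] := by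
    have := conj_mono g h.YT
    rw [conj_centralizer, conj_eq_of_mem_normalizer hg] at this
    exact fun a ha => mem_cent1.2 (mem_cent_iff.1 (this ha) y hy).symm
  have gO := fun V (k : V ≤ pCoreOf 2 N[W ⊓ U] ⊓ (W ⊔ U)) =>
    (conj_le_of_mem_normalizer (k.trans inf_le_left) (le_normalizer_pCoreOf 2 _ hg)).trans (h.normN pO hT)
  rcases h.a.hua hq _ (le_inf YO (inf_le_left.trans le_sup_left)) inf_le_right
    (le_normalizer_inf (h.CT.trans NN) h.CT) (h.notY pO hT hc) with k | k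
  · exact h.fin0 hD hy y1 ((h.wc (h.eW.conj g) (card_conj _ _) (gO _ k)).resolve_right (ns g))
      ((conj_mono g le_sup_right).trans Tg)
  · exact sup_comm U W ▸ h.symm.fin0 (h.Dbot hD) ⟨hy.2, hy.1⟩ y1
      ((h.wc (h.eU.conj g) ((card_conj _ _).trans h.cUW) (gO _ k)).resolve_left (ns.symm g))
      ((conj_mono g le_sup_left).trans Tg)

theorem goodL (ns : NS W U) (hD : W ⊓ C[K] = ⊥) (hq : 4 < q) (hy : y ∈ W ⊓ U) (y1 : y ≠ 1) :
    c[y] ≤ N[W ⊔ U] := fun g hg => by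
  have hT := (h.Tc hy).trans (cO y)
  have pO := pCoreOf_isPGroup 2 c[y]
  obtain ⟨t, ht, tY⟩ := SetLike.not_le_iff_exists.1 (h.notY pO hT (h.Oc hy y1))
  have YO : W ⊓ U ≤ pCoreOf 2 c[y] := by
    by_cases tW : t ∈ W
    · exact inf_comm U W ▸ h.symm.cov (h.Dbot hD) (le_sup_right.trans hT) (sup_comm W U ▸ ht) fun k => tY ⟨tW, k⟩
    · exact h.cov hD (le_sup_left.trans hT) ht tW
  have h' := h.conj g
  have hD' : W ^ᶜ g ⊓ C[K ^ᶜ g] = ⊥ := by rwa [← conj_centralizer, ← conj_inf, conj_eq_bot_iff]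
  have o1 := h.ON hy
  have o2 := h.ONg hy hg
  have gO := conj_eq_of_mem_normalizer (cO y hg)
  have AO : W ^ᶜ g ⊓ U ^ᶜ g ≤ pCoreOf 2 c[y] := by rw [← conj_inf, ← gO]; exact conj_mono g YO
  rw [conj_sup] at o2
  have a1 := AO.trans (o1.trans (h.nW ns))
  have a2 := YO.trans (o2.trans (h'.nW (ns.conj g)))
  have i := h'.idx2 h.eY a2 fun a ha => h'.ofW (o2 (YO ha)) (a2 ha)
  rw [h.cYq hD] at i
  have AT : W ^ᶜ g ⊓ U ^ᶜ g ≤ W ⊔ U := fun f hf => h.small hD hq (a1 hf) (h.ofW (o1 (AO hf)) (a1 hf))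
    (by rw [h'.eY f hf]; exact one_mem _) (A := W ⊓ U ⊓ (W ^ᶜ g ⊔ U ^ᶜ g))
      (fun a ha => ⟨ha.1, h'.Tc hf ha.2⟩) i
  have Tg : (W ⊔ U) ^ᶜ g ≤ c[y] := conj_le_of_mem (h.Tc hy) hg
  have NY' := h'.NYN (ns.conj g) hD' hq
  rcases h.el_le h'.eY AT with k | k
  · exact h.fin0 hD hy y1 ((h'.wc h.eW (card_conj _ _).symm ((h.eW.norm k).trans NY')).resolve_right
      fun e => ns.symm g e.symm).symm ((conj_mono g le_sup_right).trans Tg)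
  · exact sup_comm U W ▸ h.symm.fin0 (h.Dbot hD) ⟨hy.2, hy.1⟩ y1
      ((h'.wc h.eU (h.cUW.trans (card_conj _ _).symm) ((h.eU.norm k).trans NY')).resolve_left
      fun e => ns g e.symm).symm ((conj_mono g le_sup_left).trans Tg)

theorem pick (ns : NS W U) (hD : W ⊓ C[K] = ⊥) (hq : 4 < q) (f2 : f * f = 1) (fW : f ∈ N[W]) (fU : f ∈ N[U]) (gc : g ∈ c[f])
    (e : ∀ w ∈ W ⊓ c[f], g * w * g⁻¹ * w⁻¹ = 1 ∨ g * w * g⁻¹ * w⁻¹ = f) : g ∈ N[W ⊔ U] := by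
  have i := card_le_two (A := W ⊓ U ⊓ c[f]) (B := c[g]) fun a ha a1 b hb b1 => by
    have ea := (e a ⟨ha.1.1, ha.2⟩).resolve_left fun k => a1 (mem_cent1.2 (cmm k).symm)
    have eb := (e b ⟨hb.1.1, hb.2⟩).resolve_left fun k => b1 (mem_cent1.2 (cmm k).symm)
    have ec := mem_cent1.1 (mul_mem ha.2 (Subgroup.inv_mem _ hb.2))
    refine mem_cent1.2 (cmm ?_).symm
    calc _ = g * a * g⁻¹ * a⁻¹ * (a * b⁻¹ * (g * b * g⁻¹ * b⁻¹)⁻¹) * (a * b⁻¹)⁻¹ := by group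
      _ = 1 := by rw [ea, eb, inv_sq f2, ec, ← mul_assoc, f2]; group
  have := h.c3 (h.NY (N0_le fW fU)) f2 (by rwa [h.cYq hD])
  obtain ⟨y, hy, y1⟩ := ex_ne (A := W ⊓ U ⊓ c[f] ⊓ c[g]) fun e => by rw [e, card_bot] at i; omega
  exact h.goodL ns hD hq hy.1.1 y1 (mem_cent1.2 (mem_cent1.1 hy.2).symm)

theorem noF (ns : NS W U) (hq : W ⊓ C[K] = ⊥ → 4 < q) : NoF W U := fun g gW gU g2 => by_contra fun gT => by
  obtain ⟨t, ht, f2, k⟩ := h.ex_inv ns (N0_le gW gU) g2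
  obtain ⟨⟨m, mK, mY, fm⟩, m', mK', mY', fm'⟩ := k gW
  have fW := mul_mem (h.TW ht) gW
  have fU := mul_mem (h.TU ht) gU
  have fT : t * g ∉ W ⊔ U := fun k => gT ((mul_mem_cancel_left ht).1 k)
  generalize t * g = f at *
  have a1 := h.fh1 f2 fW fU fT mK mY fm
  have a2 := h.symm.fh1 f2 fU fW (sup_comm W U ▸ fT) mK' mY' fm'
  rw [sup_comm U W] at a2
  have hO := eq_bot_iff.2 ((le_inf (le_inf a1.1 (a1.2 a2.1)) (le_inf a2.1 (a2.2 a1.1))).trans h.DD.le)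
  obtain ⟨oU, k, kK, kc, ko, k1, k2⟩ := h.fk f2 fW fU fT mK mY fm hO
  have pO := pCoreOf_isPGroup 2 c[f]
  by_cases hD : W ⊓ C[K] = ⊥
  · obtain ⟨x, hx, xW, e⟩ := Blk.exists_fixed_mod (p := 2) (P := W ⊓ c[f]) (U := N[W]) (h.eW.pg.to_le inf_le_left)
      (inf_le_left.trans (le_normalizer.trans le_normalizer)) _ pO (inf_le_right.trans (cO f))
      (fun l => k1 (by rwa [inf_eq_left.2 l] at k2))
    have fO : f ∈ pCoreOf 2 c[f] := h.loc.inv f2 (fun e => fT (e ▸ one_mem _))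
      ⟨mem_cent_iff.2 fun a ha => mem_cent1.1 (pCoreOf_le 2 _ ha), mem_cent1.2 rfl⟩
    have z : ∀ a ∈ pCoreOf 2 c[f], a ∈ W ⊔ U → a = 1 := fun a ha k => mem_bot.1 (hO.le ⟨ha, k⟩)
    have e2 : ∀ w ∈ W ⊓ c[f], x * w * x⁻¹ * w⁻¹ = 1 ∨ x * w * x⁻¹ * w⁻¹ = f := fun w hw => by
      have p1 : x * w * x⁻¹ * w⁻¹ ∈ pCoreOf 2 c[f] := cmO hx (cO f hw.2)
      have p2 : x * w * x⁻¹ * w⁻¹ ∈ N[W] := e w hw
      have p3 := cmm (z _ (cmO p1 (cO f hw.2)) (mem_sup_left (cmO' p2 hw.1)))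
      have w2 := h.eW w hw.1
      have p4 : x * w * x⁻¹ * w⁻¹ * (x * w * x⁻¹ * w⁻¹) = 1 := by
        calc _ = x * w * x⁻¹ * w⁻¹ * w⁻¹ * (w * (x * w * x⁻¹ * w⁻¹)) := by group
          _ = x * (w * x⁻¹ * (w * w)⁻¹ * x * w) * x⁻¹ := by rw [← p3]; group
          _ = 1 := by rw [w2, inv_one, mul_one, inv_mul_cancel_right, w2]; group
      generalize x * w * x⁻¹ * w⁻¹ = φ at *
      by_cases e1 : φ = 1
      · exact Or.inl e1
      have c := mem_cent1.1 (pCoreOf_le 2 _ p1)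
      have := z _ (mul_mem p1 fO) (h.rank1 p2 (oU ⟨p1, p2⟩) fW fU (fun k => e1 (z _ p1 k)) fT (p4 ▸ one_mem _)
        (f2 ▸ one_mem _) (by rw [mul_assoc, ← mul_assoc f, ← c, mul_assoc, f2, mul_one, p4]; exact one_mem _))
      exact Or.inr ((eq_inv_of_mul_eq_one_left this).trans (inv_sq f2))
    exact ns _ (h.swap_of (h.pick ns hD (hq hD) f2 fW fU (pCoreOf_le 2 _ hx) e2) xW).1
  · obtain ⟨d, hd, d1⟩ := ex_ne (inf_centralizer_ne_bot (pg_sq f2) (h.eW.pg.to_le inf_le_left)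
      (zpowers_le.2 (h.ND fW)) hD)
    have dc : d ∈ c[f] := mem_cent1.2 (mem_cent_iff.1 hd.2 f (mem_zpowers f)).symm
    refine k1 (zpowers_le.1 (cop_axb Nat.prime_two pO (pg_sq (h.eW d hd.1.1)) (by rwa [Nat.card_zpowers])
      (zpowers_le.2 (cO f dc)) (zpowers_le.2 (cO f kc))
      (zpowers_le.2 (le_centralizer_iff.1 (zpowers_le.2 (centralizer_anti (zpowers_le.2 kK) hd.1.2)) (mem_zpowers k)))
      (zpowers_le.2 (centralizer_anti (inf_le_inf_left _ fun a ha => h.CdW hd.1 d1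
        (mem_cent1.2 (mem_cent_iff.1 ha d (mem_zpowers d)).symm)) k2))))


theorem four (hD : W ⊓ C[K] = ⊥) (hq : q = 4) : SectionalPRankLE 2 4 G := by
  subst hq
  obtain ⟨S, hS, l⟩ := exists_isSylowIn_ge (le_top (a := W ⊔ U)) h.pT
  have SN := h.sylN hS.isPGroup l
  have cW : Nat.card W = 16 := by rw [h.a.cW, h.cYq hD]
  refine P4.out hS (le_sup_left.trans l) (le_sup_right.trans l) h.eW h.eU cW (h.cUW.trans cW) (h.cYq hD) h.WU h.UW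
    (fun w hw w1 u hu u1 => h.nc hw w1 hu u1) (fun s hs => h.dich (SN hs)) fun s hs s1 sT => ?_
  have s2 := h.ofW (SN hs) s1
  have ps := hS.isPGroup.to_le (zpowers_le.2 hs)
  refine ⟨by_contra fun e => sT (h.a.cent s ⟨s1, s2⟩ (isPGroup_iff_forall_mem.1 hS.isPGroup s hs) fun y hy => ?_),
    by_contra fun e => sT (h.trz s1 s2 ps fun w hw => by_contra fun k => e ⟨w, hw, k⟩),
    by_contra fun e => sT (sup_comm U W ▸ h.symm.trz s2 s1 ps fun w hw => by_contra fun k => e ⟨w, hw, k⟩)⟩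
  have : s * y = y * s := by_contra fun k => e ⟨y, hy, k⟩
  rw [this]; simp


theorem gd (ns : NS W U) (hD : W ⊓ C[K] = ⊥) (hq : 4 < q) : L3.Gd W U where
  syl := by
    obtain ⟨S, hS, l⟩ := exists_isSylowIn_ge (le_top (a := W ⊔ U)) h.pT
    have SN := h.sylN hS.isPGroup l
    rwa [le_antisymm ((h.noF ns fun _ => hq).le hS.isPGroup (SN.trans (h.nW ns))
      fun g hg => h.ofW (SN hg) (h.nW ns (SN hg))) l] at hS
  nW := h.nW ns
  nU := fun _ hg => h.ofW hg (h.nW ns hg)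
  nY := h.NYN ns hD hq
  cy := fun _ hy y1 => h.goodL ns hD hq hy y1

theorem ex_sw (e : W ^ᶜ g = U) : ∃ x, W ^ᶜ x = U ∧ U ^ᶜ x = W := by
  obtain ⟨S, hS, l⟩ := exists_isSylowIn_ge h.TU h.pT
  obtain ⟨m, hm, k⟩ := hS.exists_conj_le (Q := (W ⊔ U) ^ᶜ g) (e ▸ le_normalizer_conj h.TW g) (isPGroup_conj h.pT g)
  rw [conj_conj] at k
  have gN := h.wcT (k.trans (h.sylN hS.isPGroup l))
  have e2 : W ^ᶜ (m * g) = U := by rw [← conj_conj, e, conj_eq_of_mem_normalizer hm]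
  exact ⟨_, h.swap_of gN (h.sw_not e2)⟩

end B0

open AP3 in
theorem fa_pre {F : Type} [Field F] {a b : G → F} (p : Pre K W U a b) :
    ∀ k ∈ K, ∀ y ∈ W ⊓ U, y ∉ C[K] → k ∈ c[y] → k ∈ W ⊔ U := fun k hk y hy y1 e => by
  have e' : k * y * k⁻¹ = y := by rw [mem_cent1.1 e]; group
  exact p.S0_eq ▸ p.mem_S0 hk hy.1 (p.ane hy y1) ((p.Y y hy.1).1 hy.2) (by rw [e']) (by rw [e'])

open AP3 in
theorem sk_pre {F : Type} [Field F] {a b : G → F} (p : Pre K' U W a b) (NK : N[W] ≤ N[K]) (WK : W ≤ K) (UK : U ≤ K)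
    (h1 : W ^ᶜ g = U) (h2 : U ^ᶜ g = W) : K' ≤ K ^ᶜ g := by
  obtain ⟨n, hn, e⟩ := p.real 0 1 1 0 (by linear_combination -p.two)
  have l : p.S0 ≤ K ^ᶜ g := by
    rw [p.S0_eq]; exact sup_le (h1 ▸ conj_mono g WK) (h2 ▸ conj_mono g UK)
  refine p.gen hn e l (conj_le_of_mem_normalizer l ?_)
  have := conj_mono g NK
  rw [conj_normalizer, conj_normalizer, h1] at this
  exact this (p.KN hn)

instance instQ1 : L3.Q1.{u} where
  out := by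
    intro G _ _ F _ _ m K K' W U a b a' b' t
    obtain ⟨C, n, ha⟩ := t.p.hf t.hm t.hF t.NK t.mx t.cw
    obtain ⟨C', n', hb⟩ := t.p'.hf t.hm t.hF t.NK' t.mx' t.cw'
    have h : B0 (2 ^ m) K K' W U C C' n n' :=
      ⟨t.loc, ⟨m, t.hm, rfl⟩, ha, hb, by rw [t.D, bot_inf_eq], fa_pre t.p, fa_pre t.p'⟩
    by_cases ns : NS W U
    · rcases h.q4.eq_or_lt with e | e
      · exact Or.inl (h.four t.D e.symm)
      · exact Or.inr ⟨e, h.gd ns t.D e⟩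
    obtain ⟨g, e⟩ : ∃ g, W ^ᶜ g = U := by_contra fun k => ns fun g e => k ⟨g, e⟩
    obtain ⟨x, x1, x2⟩ := h.ex_sw e
    have l1 := sk_pre t.p' t.NK ha.WK ha.UK x1 x2
    have l2 := sk_pre t.p t.NK' hb.WK hb.UK x2 x1
    have c1 := FTDefs.card_le_of_le l1
    have c2 := FTDefs.card_le_of_le l2
    rw [card_conj] at c1 c2
    exact Or.inl (Bi.main ⟨h.loc, h.q2, ha, hb, h.DD, x, x1, x2,
      (eq_of_le_of_card_le l1 (by rwa [card_conj])).symm, (eq_of_le_of_card_le l2 (by rwa [card_conj])).symm⟩)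

end Cfsg.Agent.Lib.AP
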