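import Mathlib

/-! Elations of the Desarguesian projective plane. -/

set_option autoImplicit false
set_option linter.unusedSectionVars false

namespace Cfsg.Agent.Lib.L3G

open Matrix Projectivization Subgroup
open Equiv (Perm)
open scoped LinearAlgebra.Projectivization

variable {F : Type*} [Field F]

abbrev PP (F : Type*) [Field F] := ℙ F (Fin 3 → F)
abbrev SL3 (F : Type*) [Field F] := SpecialLinearGroup (Fin 3) F
abbrev tp : SL3 F →* Perm (PP F) := MulAction.toPermHom (SL3 F) (PP F)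

/-- `u` is the transvection `x ↦ x + φ(x) v`. -/
structure T (u : SL3 F) (v φ : Fin 3 → F) : Prop where
  dot : φ ⬝ᵥ v = 0
  val : u.1 = 1 + vecMulVec v φ

theorem exists_T {v φ : Fin 3 → F} (h : φ ⬝ᵥ v = 0) : ∃ u : SL3 F, T u v φ :=
  ⟨⟨1 + vecMulVec v φ, by rw [vecMulVec_eq Unit, det_one_add_replicateCol_mul_replicateRow, h, add_zero]⟩, h, rfl⟩

theorem T.eq_one_iff {u : SL3 F} {v φ : Fin 3 → F} (h : T u v φ) : u = 1 ↔ v = 0 ∨ φ = 0 := by
  rw [← vecMulVec_eq_zero, ← add_eq_left (a := (1 : Matrix (Fin 3) (Fin 3) F)), ← h.val]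
  exact Subtype.ext_iff

open SpecialLinearGroup in
theorem top_of_T {M : Subgroup (SL3 F)} (h : ∀ u v φ, T u v φ → u ∈ M) : M = ⊤ := by
  have h1 : ∀ i j (hij : i ≠ j) (a : F), SpecialLinearGroup.transvection hij a ∈ M :=
    fun i j hij a => h _ (Pi.single i a) (Pi.single j 1) ⟨by simp [hij.symm], by
      rw [transvection_coe]
      ext; simp [vecMulVec, Pi.single_apply, single_apply]; grind⟩
  refine eq_top_iff.2 fun g _ => diagonal_transvection_induction' (· ∈ M) g (fun i j hij c hc => ?_) h1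
    fun _ _ => mul_mem
  convert mul_mem (mul_mem (mul_mem (mul_mem (h1 i j hij c) (h1 j i hij.symm (-c⁻¹)))
    (h1 i j hij (c - 1))) (h1 j i hij.symm 1)) (h1 i j hij (-1))
  ext a b
  simp [transvection_coe, mul_add, add_mul, single_mul_single_of_ne, hij, hij.symm, diag2n_coe,
    single_apply, one_apply, diagonal_apply]
  split_ifs <;> grind

theorem pai {β : Type*} (g : Perm β) (x : β) : g (g⁻¹ x) = x := g.apply_symm_apply x
theorem inv_mul_val (u : SL3 F) : (u⁻¹).1 * u.1 = 1 := congrArg Subtype.val (inv_mul_cancel u)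

def On (p l : PP F) : Prop := p.orthogonal l

variable {a b c l m x y : PP F} {s t g : Perm (PP F)}

theorem eqor (h1 : On a l) (h2 : On b l) (h3 : On a m) (h4 : On b m) : a = b ∨ l = m :=
  Configuration.ofField.eq_or_eq_of_orthogonal h1 h2 h3 h4

theorem join (a b : PP F) : ∃ l, On a l ∧ On b l := by
  classical
  by_cases h : a = b
  · subst h
    obtain ⟨w, hw⟩ : ∃ w, a ≠ w := by
      by_contra k
      push Not at k
      obtain ⟨u, hu⟩ := exists_not_self_orthogonal a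
      have e1 : (![1, 0, 0] : Fin 3 → F) ≠ 0 := fun e => by simpa using congrFun e 0
      have e2 : (![0, 1, 0] : Fin 3 → F) ≠ 0 := fun e => by simpa using congrFun e 1
      have := (k (Projectivization.mk F _ e1)).symm.trans (k (Projectivization.mk F _ e2))
      obtain ⟨r, hr⟩ := (mk_eq_mk_iff' F _ _ _ _).1 this
      simpa using congrFun hr 0
    exact ⟨_, orthogonal_cross_left hw, orthogonal_cross_left hw⟩
  · exact ⟨_, orthogonal_cross_left h, orthogonal_cross_right h⟩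

theorem off1 (l : PP F) : ∃ a, ¬ On a l := exists_not_orthogonal_self l

theorem meet (l m : PP F) : ∃ a, On a l ∧ On a m := by
  obtain ⟨a, h1, h2⟩ := join l m
  exact ⟨a, orthogonal_comm.1 h1, orthogonal_comm.1 h2⟩

theorem off2 (l m : PP F) : ∃ a, ¬ On a l ∧ ¬ On a m := by
  obtain ⟨u, hu⟩ := exists_not_orthogonal_self l
  obtain ⟨v, hv⟩ := exists_not_orthogonal_self m
  by_cases h1 : On u m
  · by_cases h2 : On v l
    · induction l using Projectivization.ind with | _ l hl =>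
      induction m using Projectivization.ind with | _ m hm =>
      induction u using Projectivization.ind with | _ u hu0 =>
      induction v using Projectivization.ind with | _ v hv0 =>
      simp only [On, orthogonal_mk] at *
      have : u + v ≠ 0 := fun e => hu (by rw [eq_neg_of_add_eq_zero_left e, neg_dotProduct, h2, neg_zero])
      exact ⟨Projectivization.mk F _ this, by rw [orthogonal_mk, add_dotProduct, h2, add_zero]; exact hu,
        by rw [orthogonal_mk, add_dotProduct, h1, zero_add]; exact hv⟩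
    · exact ⟨v, h2, hv⟩
  · exact ⟨u, hu, h1⟩

/-- collineation -/
def Col (s : Perm (PP F)) : Prop := ∀ l, ∃ l', ∀ p, On (s p) l' ↔ On p l

/-- elation with axis `l` and centre `c` -/
structure El (s : Perm (PP F)) (l c : PP F) : Prop where
  cl : On c l
  ax : ∀ p, On p l → s p = p
  ce : ∀ m, On c m → ∀ p, On p m → On (s p) m

theorem El.off (h : El s l c) (hx : ¬ On x l) : ¬ On (s x) l := fun k =>
  hx (s.injective (h.ax _ k) ▸ k)

theorem stepA (hs : El s l c) (ht : El t l c) (cs : Col s) (ct : Col t) (hx : ¬ On x l) (e : s x = t x)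
    (_hy : ¬ On y l) (hxy : ∀ m, On c m → On x m → ¬ On y m) : s y = t y := by
  obtain ⟨m, xm, ym⟩ := join x y
  obtain ⟨a, am, al⟩ := meet m l
  obtain ⟨m1, h1⟩ := cs m
  obtain ⟨m1', h1'⟩ := ct m
  have sx := hs.off hx
  have e1 : m1 = m1' := by
    rcases eqor ((h1 x).2 xm) (hs.ax a al ▸ (h1 a).2 am) (e ▸ (h1' x).2 xm) (ht.ax a al ▸ (h1' a).2 am) with k | k
    · exact absurd (k ▸ al) sx
    · exact k
  subst e1
  obtain ⟨m2, cm2, ym2⟩ := join c y
  rcases eqor ((h1 y).2 ym) ((h1' y).2 ym) (hs.ce m2 cm2 y ym2) (ht.ce m2 cm2 y ym2) with k | k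
  · exact k
  · subst k
    obtain ⟨m0, cm0, xm0⟩ := join c x
    rcases eqor ((h1 x).2 xm) cm2 (hs.ce m0 cm0 x xm0) cm0 with k | k
    · exact absurd (k ▸ hs.cl) sx
    · exact absurd (k ▸ ym2) (hxy m0 cm0 xm0)

theorem El.uniq (hs : El s l c) (ht : El t l c) (cs : Col s) (ct : Col t) (hx : ¬ On x l) (e : s x = t x) :
    s = t := by
  obtain ⟨m0, cm0, xm0⟩ := join c x
  have key : ∀ {x' y' : PP F}, ¬ On x' l → On x' m0 → ¬ On y' m0 → ∀ m, On c m → On x' m → ¬ On y' m :=
    fun {x' y'} h1 h2 h3 m k1 k2 k3 => by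
      rcases eqor k1 k2 cm0 h2 with k | k
      · exact h1 (k ▸ hs.cl)
      · exact h3 (k ▸ k3)
  ext1 y
  by_cases hy : On y l
  · rw [hs.ax y hy, ht.ax y hy]
  by_cases h0 : On y m0
  · obtain ⟨z, z1, z2⟩ := off2 l m0
    exact stepA hs ht cs ct z1 (stepA hs ht cs ct hx e z1 (key hx xm0 z2)) hy
      fun m k1 k2 k3 => key hy h0 z2 m k1 k3 k2
  · exact stepA hs ht cs ct hx e hy (key hx xm0 h0)

theorem El.conj (h : El s l c) (cg : Col g⁻¹) {l' : PP F} (hl : ∀ p, On (g p) l' ↔ On p l) :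
    El (g * s * g⁻¹) l' (g c) where
  cl := (hl c).2 h.cl
  ax p hp := by
    have : On (g⁻¹ p) l := (hl _).1 (by simpa using hp)
    rw [Perm.mul_apply, Perm.mul_apply, h.ax _ this, pai]
  ce m hm p hp := by
    obtain ⟨m', k⟩ := cg m
    have := h.ce m' (by simpa using (k _).2 hm) _ ((k p).2 hp)
    exact (k _).1 (by simpa [Perm.mul_apply] using this)

theorem Col.mul (hs : Col s) (ht : Col t) : Col (s * t) := fun l => by
  obtain ⟨l1, h1⟩ := ht l
  obtain ⟨l2, h2⟩ := hs l1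
  exact ⟨l2, fun p => (h2 _).trans (h1 p)⟩

theorem tp_mk (u : SL3 F) {v : Fin 3 → F} (hv : v ≠ 0) (h : u.1 *ᵥ v ≠ 0) :
    tp u (Projectivization.mk F v hv) = Projectivization.mk F (u.1 *ᵥ v) h := rfl

theorem mv_ne (u : SL3 F) {v : Fin 3 → F} (hv : v ≠ 0) : u.1 *ᵥ v ≠ 0 :=
  (smul_ne_zero_iff_ne u).2 hv

theorem col_tp (u : SL3 F) : Col (tp u) := fun l => by
  induction l using Projectivization.ind with | _ φ hφ =>
  have e : ∀ v, (u.1 *ᵥ v) ⬝ᵥ (φ ᵥ* (u⁻¹).1) = v ⬝ᵥ φ := fun v => by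
    rw [dotProduct_comm, ← dotProduct_mulVec, mulVec_mulVec, inv_mul_val, one_mulVec, dotProduct_comm]
  have hn : φ ᵥ* (u⁻¹).1 ≠ 0 := fun k => hφ (by
    have := congrArg (· ᵥ* u.1) k
    simp only [vecMul_vecMul, inv_mul_val, vecMul_one, zero_vecMul] at this; exact this)
  refine ⟨Projectivization.mk F _ hn, fun p => ?_⟩
  induction p using Projectivization.ind with | _ v hv =>
  rw [tp_mk u hv (mv_ne u hv), On, On, orthogonal_mk, orthogonal_mk, e]

theorem T_mv {u : SL3 F} {v φ : Fin 3 → F} (h : T u v φ) (w : Fin 3 → F) : u.1 *ᵥ w = w + (φ ⬝ᵥ w) • v := by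
  rw [h.val, add_mulVec, one_mulVec, vecMulVec_mulVec, op_smul_eq_smul]

theorem el_T {u : SL3 F} {v φ : Fin 3 → F} {r : F} (hv : v ≠ 0) (hφ : φ ≠ 0) (e : φ ⬝ᵥ v = 0) (h : T u (r • v) φ) :
    El (tp u) (Projectivization.mk F φ hφ) (Projectivization.mk F v hv) where
  cl := by rw [On, orthogonal_mk, dotProduct_comm, e]
  ax p hp := by
    induction p using Projectivization.ind with | _ w hw =>
    rw [On, orthogonal_mk, dotProduct_comm] at hp
    rw [tp_mk u hw (mv_ne u hw)]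
    congr 1
    rw [T_mv h, hp, zero_smul, add_zero]
  ce m hm p hp := by
    induction p using Projectivization.ind with | _ w hw =>
    induction m using Projectivization.ind with | _ χ hχ =>
    rw [tp_mk u hw (mv_ne u hw)]
    rw [On, orthogonal_mk] at *
    rw [T_mv h, add_dotProduct, smul_dotProduct, smul_dotProduct, hp, hm]; simp

theorem reach {v φ : Fin 3 → F} (hv : v ≠ 0) (hφ : φ ≠ 0) (e : φ ⬝ᵥ v = 0) (hx : ¬ On x (Projectivization.mk F φ hφ))
    (hy : ¬ On y (Projectivization.mk F φ hφ)) (cm : On (Projectivization.mk F v hv) m) (xm : On x m) (ym : On y m) :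
    ∃ (r : F) (u : SL3 F), T u (r • v) φ ∧ tp u x = y := by
  induction x using Projectivization.ind with | _ x hx0 =>
  induction y using Projectivization.ind with | _ y hy0 =>
  induction m using Projectivization.ind with | _ χ hχ =>
  rw [On, orthogonal_mk] at *
  rw [dotProduct_comm] at hx hy
  obtain ⟨r, hr⟩ : ∃ r : F, r • v = y - (φ ⬝ᵥ y / φ ⬝ᵥ x) • x := by
    by_cases h0 : y - (φ ⬝ᵥ y / φ ⬝ᵥ x) • x = 0
    · exact ⟨0, by rw [h0, zero_smul]⟩
    have h1 : (y - (φ ⬝ᵥ y / φ ⬝ᵥ x) • x) ⬝ᵥ φ = 0 := by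
      rw [dotProduct_comm, dotProduct_sub, dotProduct_smul, smul_eq_mul, div_mul_cancel₀ _ hx, sub_self]
    have h2 : (y - (φ ⬝ᵥ y / φ ⬝ᵥ x) • x) ⬝ᵥ χ = 0 := by
      rw [sub_dotProduct, smul_dotProduct, xm, ym]; simp
    rcases eqor (a := Projectivization.mk F _ h0) (b := Projectivization.mk F v hv) (l := Projectivization.mk F φ hφ) (m := Projectivization.mk F χ hχ) h1
      ((dotProduct_comm v φ).trans e) h2 cm with k | k
    · exact (mk_eq_mk_iff' F _ _ _ _).1 k
    · have : On (Projectivization.mk F x hx0) (Projectivization.mk F φ hφ) := k ▸ xm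
      exact absurd ((dotProduct_comm φ x).trans this) hx
  obtain ⟨u, hu⟩ := exists_T (v := (r / φ ⬝ᵥ y) • v) (φ := φ) (by rw [dotProduct_smul, e, smul_zero])
  refine ⟨_, u, hu, ?_⟩
  rw [tp_mk u hx0 (mv_ne u hx0), mk_eq_mk_iff']
  refine ⟨φ ⬝ᵥ x / φ ⬝ᵥ y, ?_⟩
  have k1 : φ ⬝ᵥ x / φ ⬝ᵥ y * (φ ⬝ᵥ y / φ ⬝ᵥ x) = 1 := by field_simp
  have k2 : φ ⬝ᵥ x / φ ⬝ᵥ y * r = φ ⬝ᵥ x * (r / φ ⬝ᵥ y) := by field_simp
  rw [T_mv hu, smul_smul, ← k2, ← smul_smul, hr, smul_sub, smul_smul, k1, one_smul, add_sub_cancel]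

theorem El.mem (h : El s l c) (cs : Col s) : s ∈ (tp (F := F)).range := by
  induction l using Projectivization.ind with | _ φ hφ =>
  induction c using Projectivization.ind with | _ v hv =>
  obtain ⟨x, hx⟩ := off1 (Projectivization.mk F φ hφ)
  obtain ⟨m, cm, xm⟩ := join (Projectivization.mk F v hv) x
  have e : φ ⬝ᵥ v = 0 := (dotProduct_comm φ v).trans h.cl
  obtain ⟨r, u, hu, k⟩ := reach hv hφ e hx (h.off hx) cm xm (h.ce m cm x xm)
  exact ⟨u, (el_T hv hφ e hu).uniq h (col_tp u) cs hx k⟩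

theorem geo {X : Type*} [Group X] (α : X →* Perm (PP F)) (V : Set X) {φ : Fin 3 → F} (hφ : φ ≠ 0)
    (hcol : ∀ g, Col (α g)) (htr : ∀ l, ∃ g, ∀ p, On (α g p) l ↔ On p (Projectivization.mk F φ hφ))
    (h1 : ∀ v ∈ V, ∃ u w, T u w φ ∧ α v = tp u) (h2 : ∀ u w, T u w φ → ∃ v ∈ V, α v = tp u) :
    (normalClosure V).map α = (tp (F := F)).range := by
  have cj : ∀ g v : X, α (g * v * g⁻¹) = α g * α v * (α g)⁻¹ := fun g v => by simp
  have ci : ∀ g, Col (α g)⁻¹ := fun g => map_inv α g ▸ hcol g⁻¹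
  apply le_antisymm
  · rw [map_le_iff_le_comap, normalClosure, closure_le]
    intro k hk
    obtain ⟨v, hv, hc⟩ := Group.mem_conjugatesOfSet_iff.1 hk
    obtain ⟨g, rfl⟩ := isConj_iff.1 hc
    obtain ⟨u, w, hu, e⟩ := h1 v hv
    change α _ ∈ (tp (F := F)).range
    by_cases hw : w = 0
    · rw [cj, e, hu.eq_one_iff.2 (Or.inl hw), map_one, mul_one, mul_inv_cancel]; exact one_mem _
    obtain ⟨l', hl⟩ := hcol g (Projectivization.mk F φ hφ)
    have := (el_T (r := 1) hw hφ hu.dot (by simpa using hu)).conj (ci g) hl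
    exact El.mem (by rw [cj, e]; exact this) (hcol _)
  · have : ((normalClosure V).map α).comap (tp (F := F)) = ⊤ := by
      refine top_of_T fun u v ψ hu => ?_
      by_cases h0 : v = 0 ∨ ψ = 0
      · rw [hu.eq_one_iff.2 h0]; exact one_mem _
      push Not at h0
      obtain ⟨hv, hψ⟩ := h0
      have eu := el_T (r := 1) hv hψ hu.dot (by simpa using hu)
      obtain ⟨g, hg⟩ := htr (Projectivization.mk F ψ hψ)
      obtain ⟨x, hx⟩ := off1 (Projectivization.mk F ψ hψ)
      obtain ⟨m, cm, xm⟩ := join (Projectivization.mk F v hv) x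
      obtain ⟨m', hm⟩ := ci g m
      obtain ⟨v0, hv0, e0⟩ : ∃ v0 hv0, Projectivization.mk F v0 hv0 = (α g)⁻¹ (Projectivization.mk F v hv) := ⟨_, _, mk_rep _⟩
      have d0 : φ ⬝ᵥ v0 = 0 := (dotProduct_comm φ v0).trans
        ((hg (Projectivization.mk F v0 hv0)).1 (by rw [e0]; simpa using eu.cl))
      obtain ⟨r, u0, hu0, k⟩ := reach (x := (α g)⁻¹ x) (y := (α g)⁻¹ (tp u x)) hv0 hφ d0
        (fun k => hx (by simpa using (hg _).2 k)) (fun k => eu.off hx (by simpa using (hg _).2 k))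
        (e0 ▸ (hm _).2 cm) ((hm _).2 xm) ((hm _).2 (eu.ce m cm x xm))
      obtain ⟨w, hw, ew⟩ := h2 u0 _ hu0
      have e1 := (el_T hv0 hφ d0 hu0).conj (ci g) hg
      rw [e0, pai, ← ew, ← cj] at e1
      refine ⟨g * w * g⁻¹, (normalClosure_normal (s := V)).conj_mem _ (subset_normalClosure hw) g, ?_⟩
      exact e1.uniq eu (hcol _) (col_tp u) hx (by rw [cj, ew, Perm.mul_apply, Perm.mul_apply, k, pai])
    rintro _ ⟨u, rfl⟩
    exact (this ▸ mem_top u : u ∈ ((normalClosure V).map α).comap (tp (F := F)))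

theorem iso {X : Type*} [Group X] (α : X →* Perm (PP F)) (hα : Function.Injective α) (N : Subgroup X)
    (h : N.map α = (tp (F := F)).range) : Nonempty (N ≃* ProjectiveSpecialLinearGroup (Fin 3) F) := by
  have e : (PSLAction.toPermHom (K := F) (ι := Fin 3)).range = (tp (F := F)).range := by
    ext s
    constructor
    · rintro ⟨g, rfl⟩
      obtain ⟨u, rfl⟩ := QuotientGroup.mk_surjective g
      exact ⟨u, rfl⟩
    · rintro ⟨u, rfl⟩
      exact ⟨(u : ProjectiveSpecialLinearGroup (Fin 3) F), rfl⟩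
  exact ⟨((N.equivMapOfInjective α hα).trans (MulEquiv.subgroupCongr (h.trans e.symm))).trans
    (MonoidHom.ofInjective ProjectiveSpecialLinearGroup.toPermHom_injective).symm⟩

end Cfsg.Agent.Lib.L3G
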