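import Cfsg.Agent.Lib.PIrred

/-!
Weakly closed subgroups, large subgroups, the families `𝓛_H`, `𝔐_H`, `ℌ_G` of the local structure
theory.
-/

set_option autoImplicit false

namespace Cfsg.Agent.Lib.Large

open Subgroup Cfsg Cfsg.Agent.Lib.PCoreConj Cfsg.Agent.Lib.PCore Cfsg.Agent.Lib.PCoreResidual
  Cfsg.Agent.Lib.PCoreMod Cfsg.Agent.Lib.PReduced Cfsg.Agent.Lib.PIrred
open scoped Pointwise commutatorElement

variable {G : Type*} [Group G] {p : ℕ}

section WC

/-- `Q` is a weakly closed `p`-subgroup of `K`. -/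
structure WCIn (p : ℕ) (Q K : Subgroup G) : Prop where
  le : Q ≤ K
  isPGroup : IsPGroup p Q
  eq : ∀ g ∈ K, IsPGroup p ↥(Q ⊔ Q ^ᶜ g) → Q ^ᶜ g = Q

variable {Q K L R P N : Subgroup G}

theorem WCIn.conj_eq (h : WCIn p Q K) {g : G} (hg : g ∈ K) (hR : IsPGroup p R) (h₁ : Q ≤ R)
    (h₂ : Q ^ᶜ g ≤ R) : Q ^ᶜ g = Q := h.eq g hg (hR.to_le (sup_le h₁ h₂))

theorem WCIn.of_le (h : WCIn p Q K) (h₁ : Q ≤ L) (h₂ : L ≤ K) : WCIn p Q L :=
  ⟨h₁, h.isPGroup, fun g hg => h.eq g (h₂ hg)⟩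

theorem WCIn.inf_normalizer_le (h : WCIn p Q K) (hR : IsPGroup p R) (h₁ : Q ≤ R) :
    K ⊓ normalizer (R : Set G) ≤ normalizer (Q : Set G) := fun _ hg =>
  mem_normalizer_iff_conj_eq.2 (h.conj_eq hg.1 hR h₁ (conj_le_of_mem_normalizer h₁ hg.2))

theorem WCIn.le_normalizer (h : WCIn p Q K) (hR : IsPGroup p R) (h₁ : Q ≤ R) (h₂ : R ≤ K) :
    R ≤ normalizer (Q : Set G) :=
  (le_inf h₂ Subgroup.le_normalizer).trans (h.inf_normalizer_le hR h₁)

/-- A `p`-subgroup normalized by a weakly closed subgroup normalizes it. -/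
theorem WCIn.le_normalizer_of_le_normalizer (h : WCIn p Q K) (hR : IsPGroup p R) (h₂ : R ≤ K)
    (h₁ : Q ≤ normalizer (R : Set G)) : R ≤ normalizer (Q : Set G) :=
  le_sup_right.trans (h.le_normalizer (IsPGroup.to_sup_of_normal_right' h.isPGroup hR h₁)
    le_sup_left (sup_le h.le h₂))

theorem WCIn.conj (h : WCIn p Q K) (g : G) : WCIn p (Q ^ᶜ g) (K ^ᶜ g) := by
  refine ⟨conj_mono g h.le, isPGroup_conj h.isPGroup g, ?_⟩
  rintro _ ⟨k, hk, rfl⟩ hp
  have e : (Q ^ᶜ g) ^ᶜ ((MulAut.conj g).toMonoidHom k) = (Q ^ᶜ k) ^ᶜ g := by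
    rw [conj_conj, conj_conj]; congr 3; simp
  rw [e, ← conj_sup, isPGroup_conj_iff] at hp
  rw [e, h.eq k hk hp]

theorem WCIn.conj_of_mem (h : WCIn p Q K) {g : G} (hg : g ∈ K) : WCIn p (Q ^ᶜ g) K := by
  simpa only [conj_eq_of_mem hg] using h.conj g

theorem le_weakClosure {g : G} (h : Q ^ᶜ g ≤ L) : Q ^ᶜ g ≤ weakClosure Q L :=
  le_iSup (fun g : {g : G // Q ^ᶜ g ≤ L} => Q ^ᶜ (g : G)) ⟨g, h⟩

theorem weakClosure_le (Q L : Subgroup G) : weakClosure Q L ≤ L := iSup_le fun g => g.2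

theorem weakClosure_mono (h : L ≤ K) : weakClosure Q L ≤ weakClosure Q K :=
  iSup_le fun g => le_weakClosure (g.2.trans h)

theorem nclIn_eq_iSup (A H : Subgroup G) : nclIn A H = ⨆ k : H, A ^ᶜ (k : G) :=
  le_antisymm (nclIn_le_iff.2 fun h hh => le_iSup (fun k : H => A ^ᶜ (k : G)) ⟨h, hh⟩)
    (iSup_le fun k => conj_le_nclIn A k.2)

theorem wcIn_map_iff_of_injective {G' : Type*} [Group G'] {f : G →* G'}
    (hf : Function.Injective f) : WCIn p (Q.map f) (K.map f) ↔ WCIn p Q K := by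
  constructor
  · intro h
    refine ⟨(map_le_map_iff_of_injective hf).1 h.le, (isPGroup_map_iff_of_injective hf).1 h.isPGroup,
      fun g hg hp => map_injective hf ?_⟩
    rw [map_conj]
    refine h.eq _ (mem_map_of_mem f hg) ?_
    rw [← map_conj, ← Subgroup.map_sup]
    exact hp.map f
  · intro h
    refine ⟨map_mono h.le, h.isPGroup.map f, ?_⟩
    rintro _ ⟨g, hg, rfl⟩ hp
    rw [← map_conj, ← Subgroup.map_sup, isPGroup_map_iff_of_injective hf] at hp
    rw [← map_conj, h.eq g hg hp]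

variable [hp : Fact p.Prime]

theorem wcIn_of_isSylowIn [Finite K] (hP : IsSylowIn p P K) (h₁ : Q ≤ P)
    (h₂ : ∀ g ∈ K, Q ^ᶜ g ≤ P → Q ^ᶜ g = Q) : WCIn p Q K := by
  refine ⟨h₁.trans hP.le, hP.isPGroup.to_le h₁, fun g hg hp => ?_⟩
  obtain ⟨k, hk, h3⟩ := hP.exists_conj_le (sup_le (h₁.trans hP.le)
    (conj_le_of_mem (h₁.trans hP.le) hg)) hp
  rw [conj_sup, sup_le_iff, conj_conj] at h3
  have e1 := h₂ k hk h3.1
  have e2 := h₂ (k * g) (mul_mem hk hg) h3.2
  rw [← conj_conj, ← e1, conj_inj] at e2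
  rwa [e1] at e2

theorem isWeaklyClosedSubgroup_iff [Finite G] : IsWeaklyClosedSubgroup p Q ↔ WCIn p Q ⊤ := by
  constructor
  · rintro ⟨T, h1, h2⟩
    exact wcIn_of_isSylowIn (isSylowIn_top T) h1 fun g _ => h2 g
  · intro h
    obtain ⟨T, hT⟩ := h.isPGroup.exists_le_sylow
    exact ⟨T, hT, fun g hg => h.conj_eq (mem_top g) T.isPGroup' hT hg⟩

theorem isWeaklyClosedSubgroup_subgroupOf_iff [Finite K] (h : Q ≤ K) :
    IsWeaklyClosedSubgroup p (Q.subgroupOf K) ↔ WCIn p Q K := by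
  rw [isWeaklyClosedSubgroup_iff, ← wcIn_map_iff_of_injective K.subtype_injective,
    subgroupOf_map_subtype_of_le h, ← MonoidHom.range_eq_map, range_subtype]

theorem WCIn.exists_conj_eq [Finite L] (h : WCIn p Q K) (h₁ : Q ≤ L) (h₂ : L ≤ K) {g : G}
    (hg : g ∈ K) (h₃ : Q ^ᶜ g ≤ L) : ∃ l ∈ L, Q ^ᶜ g = Q ^ᶜ l := by
  obtain ⟨P, hP, hQP⟩ := exists_isSylowIn_ge h₁ h.isPGroup
  obtain ⟨l, hl, h4⟩ := hP.exists_conj_le h₃ (isPGroup_conj h.isPGroup g)
  rw [conj_conj] at h4
  have e := h.conj_eq (mul_mem (h₂ hl) hg) hP.isPGroup hQP h4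
  rw [← conj_conj, conj_eq_iff_eq_conj_inv] at e
  exact ⟨l⁻¹, inv_mem hl, e⟩

omit hp in
theorem WCIn.exists_isSylowIn (h : WCIn p Q K) (h₁ : Q ≤ L) (h₂ : L ≤ K) :
    ∃ P, IsSylowIn p P L ∧ Q ≤ P ∧ P ≤ normalizer (Q : Set G) := by
  obtain ⟨P, hP, hQP⟩ := exists_isSylowIn_ge h₁ h.isPGroup
  exact ⟨P, hP, hQP, h.le_normalizer hP.isPGroup hQP (hP.le.trans h₂)⟩

theorem WCIn.map [Finite K] {G' : Type*} [Group G'] (h : WCIn p Q K) (f : G →* G') :
    WCIn p (Q.map f) (K.map f) := by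
  refine ⟨map_mono h.le, h.isPGroup.map f, ?_⟩
  rintro _ ⟨g, hg, rfl⟩ hp'
  set R := Q.map f ⊔ (Q.map f) ^ᶜ (f g) with hR
  have hQL : Q ≤ K ⊓ R.comap f := le_inf h.le (map_le_iff_le_comap.1 le_sup_left)
  have := finite_of_le (inf_le_left : K ⊓ R.comap f ≤ K)
  obtain ⟨l, hl, e⟩ := h.exists_conj_eq hQL inf_le_left hg (le_inf (conj_le_of_mem h.le hg)
    (map_le_iff_le_comap.1 (by rw [map_conj]; exact le_sup_right)))
  obtain ⟨P, hP, -, hPQ⟩ := h.exists_isSylowIn hQL inf_le_left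
  have e2 := (hP.map f).eq_of_isPGroup (hp'.to_le (map_le_iff_le_comap.2 inf_le_right))
  rw [← map_conj, e, map_conj]
  exact conj_eq_of_mem_normalizer (le_normalizer_map f hPQ (e2.ge (mem_map_of_mem f hl)))

theorem WCIn.nclIn_nclIn [Finite L] (h : WCIn p Q K) (h₁ : Q ≤ L) (h₂ : L ≤ K) (hN : N ≤ L) :
    nclIn Q (nclIn Q N) = nclIn Q N := by
  have h3 : nclIn Q N ≤ L := (nclIn_mono le_rfl hN).trans (nclIn_le_of_le h₁)
  have := finite_of_le h3
  refine le_antisymm (nclIn_le_of_le (le_nclIn Q N)) (nclIn_le_iff.2 fun n hn => ?_)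
  obtain ⟨l, hl, e⟩ := h.exists_conj_eq (le_nclIn Q N) (h3.trans h₂) (h₂ (hN hn))
    (conj_le_nclIn Q hn)
  rw [e]
  exact conj_le_nclIn Q hl

theorem WCIn.weakClosure_eq [Finite L] (h : WCIn p Q ⊤) (h₁ : Q ≤ L) :
    weakClosure Q L = nclIn Q L := by
  refine le_antisymm (iSup_le fun g => ?_)
    (nclIn_le_iff.2 fun l hl => le_weakClosure (conj_le_of_mem h₁ hl))
  obtain ⟨l, hl, e⟩ := h.exists_conj_eq h₁ le_top (mem_top g.1) g.2
  rw [e]
  exact conj_le_nclIn Q hl

/-- `N = [N, Q] N_N(Q)` for a subgroup `N` normalized by a weakly closed subgroup `Q`. -/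
theorem WCIn.exists_commutator_mul [Finite K] (h : WCIn p Q K) (hN : N ≤ K)
    (hQN : Q ≤ normalizer (N : Set G)) {n : G} (hn : n ∈ N) :
    ∃ c ∈ ⁅N, Q⁆, ∃ a ∈ N ⊓ normalizer (Q : Set G), n = c * a := by
  have h3 : nclIn Q N ≤ K := (nclIn_mono le_rfl hN).trans (nclIn_le_of_le h.le)
  have := finite_of_le h3
  obtain ⟨l, hl, e⟩ := h.exists_conj_eq (le_nclIn Q N) h3 (hN hn) (conj_le_nclIn Q hn)
  rw [nclIn_eq_sup_commutator, sup_comm, commutator_comm,
    mem_sup_iff_of_le_normalizer' (normalizer_commutator_ge_right N Q)] at hl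
  obtain ⟨c, hc, q, hq, rfl⟩ := hl
  rw [← conj_conj, conj_eq_of_mem hq, eq_comm, conj_eq_iff_eq_conj_inv, conj_conj, eq_comm,
    ← mem_normalizer_iff_conj_eq] at e
  exact ⟨c, hc, c⁻¹ * n, ⟨N.mul_mem (N.inv_mem (commutator_le_left_of_le_normalizer hQN hc)) hn, e⟩,
    by group⟩

theorem wcIn_of_forall_normalizer [Finite K] (h₁ : Q ≤ K) (hQ : IsPGroup p Q)
    (h : ∀ R : Subgroup G, IsPGroup p R → Q ≤ R → R ≤ K →
      K ⊓ normalizer (R : Set G) ≤ normalizer (Q : Set G)) :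
    WCIn p Q K := by
  obtain ⟨P, hP, hQP⟩ := exists_isSylowIn_ge h₁ hQ
  refine wcIn_of_isSylowIn hP hQP fun g hg h2 => ?_
  have := finite_of_le (inf_le_left : K ⊓ normalizer (Q : Set G) ≤ K)
  have h3 : ∀ S, IsSylowIn p S K → Q ≤ S → IsSylowIn p S (K ⊓ normalizer (Q : Set G)) :=
    fun S hS hQS => hS.of_le (le_inf hS.le ((le_inf hS.le le_normalizer).trans
      (h S hS.isPGroup hQS hS.le))) inf_le_left
  obtain ⟨n, hn, e⟩ := (h3 P hP hQP).exists_conj_eq
    (h3 _ (hP.conj_of_mem (inv_mem hg)) (conj_le_iff_le_conj_inv.1 h2))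
  rw [← conj_eq_iff_eq_conj_inv, conj_conj, ← mem_normalizer_iff_conj_eq] at e
  have h4 : g * n ∈ normalizer (Q : Set G) := h P hP.isPGroup hQP hP.le ⟨mul_mem hg hn.1, e⟩
  exact conj_eq_of_mem_normalizer (by simpa using mul_mem h4 (inv_mem hn.2))

theorem wcIn_of_forall_commutator [Finite K] (h₁ : Q ≤ K) (hQ : IsPGroup p Q)
    (h : ∀ g ∈ K, Q ≤ normalizer ((Q ^ᶜ g : Subgroup G) : Set G) →
      Q ^ᶜ g ≤ normalizer (Q : Set G) → Q ^ᶜ g = Q) : WCIn p Q K := by
  refine wcIn_of_forall_normalizer h₁ hQ fun R hR hQR hRK => ?_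
  have := finite_of_le hRK
  refine SubnormalIn.induction_top (P := fun R => R ≤ K →
    K ⊓ normalizer (R : Set G) ≤ normalizer (Q : Set G)) (fun _ => inf_le_right) ?_
    (subnormalIn_of_isPGroup hR hQR) hRK
  intro N H h1 h2 h3 _ ih hHK g hg
  have h4 : H ≤ normalizer (Q : Set G) := (le_inf hHK h3).trans (ih (h2.le.trans hHK))
  have h5 : H ≤ normalizer ((Q ^ᶜ g : Subgroup G) : Set G) := by
    have := le_normalizer_conj h4 g
    rwa [conj_eq_of_mem_normalizer hg.2] at this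
  exact mem_normalizer_iff_conj_eq.2 (h g hg.1 ((h1.trans h2.le).trans h5)
    ((conj_le_of_mem_normalizer (h1.trans h2.le) hg.2).trans h4))

omit hp in
/-- A Sylow subgroup of a normal subgroup is weakly closed. -/
theorem wcIn_of_isSylowIn_normal [Finite N] (hQ : IsSylowIn p Q N) (h₁ : N ≤ K)
    (h₂ : K ≤ normalizer (N : Set G)) : WCIn p Q K := by
  refine ⟨hQ.le.trans h₁, hQ.isPGroup, fun g hg hp' => ?_⟩
  have := hQ.finite
  exact conj_eq_of_conj_le (le_sup_right.trans (hQ.eq_of_le (sup_le hQ.le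
    (conj_le_of_mem_normalizer hQ.le (h₂ hg))) hp' le_sup_left).le)

/-- Characteristic `p` passes from the centralizer of `A` to that of a `p`-overgroup of `A`. -/
theorem charPIn_inf_centralizer_of_le [Finite K] {A : Subgroup G}
    (h : CharPIn p (K ⊓ centralizer (A : Set G))) (hR : IsPGroup p R) (h₁ : A ≤ R) (h₂ : R ≤ K) :
    CharPIn p (K ⊓ centralizer (R : Set G)) := by
  have := finite_of_le h₂
  refine SubnormalIn.induction_top (P := fun R => IsPGroup p R → R ≤ K →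
    CharPIn p (K ⊓ centralizer (R : Set G))) (fun _ _ => h) ?_
    (subnormalIn_of_isPGroup hR h₁) hR h₂
  intro N H _ h2 h3 _ ih hH hHK
  have := finite_of_le hHK
  have := finite_of_le (inf_le_left : K ⊓ centralizer (N : Set G) ≤ K)
  have h4 := (ih (hH.to_le h2.le) (h2.le.trans hHK)).sup_isPGroup hH
    (le_normalizer_inf (hHK.trans le_normalizer) (le_normalizer_centralizer h3))
  have := finite_of_le (sup_le inf_le_left hHK : K ⊓ centralizer (N : Set G) ⊔ H ≤ K)
  have h5 := h4.inf_centralizer hH le_sup_right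
  have e : (K ⊓ centralizer (N : Set G) ⊔ H) ⊓ centralizer (H : Set G) =
      K ⊓ centralizer (H : Set G) :=
    le_antisymm (inf_le_inf_right _ (sup_le inf_le_left hHK))
      (le_inf ((inf_le_inf_left K (centralizer_anti h2.le)).trans le_sup_left) inf_le_right)
  rwa [e] at h5

omit hp in
/-- A subgroup normalizing all `L`-conjugates of `Q` normalizes their join. -/
theorem le_normalizer_nclIn_of_forall {E : Subgroup G}
    (h : ∀ l ∈ L, E ≤ normalizer ((Q ^ᶜ l : Subgroup G) : Set G)) :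
    E ≤ normalizer (nclIn Q L : Set G) := by
  rw [nclIn_eq_iSup]
  exact le_normalizer_iSup fun l => h l l.2

/-- Overgroups of a self-centralizing weakly closed subgroup. -/
theorem WCIn.inf_centralizer_pCoreOf [Finite K] (h : WCIn p Q K)
    (hC : K ⊓ centralizer (Q : Set G) ≤ Q) (hQL : Q ≤ L) (hLK : L ≤ K)
    (hD : CharPIn p (K ⊓ centralizer (pCoreOf p L : Set G))) :
    ⁅Q, K ⊓ centralizer (pCoreOf p L : Set G)⁆ ≤ Q ⊓ pCoreOf p L ∧
      IsPGroup p ↥(K ⊓ centralizer (pCoreOf p L : Set G)) := by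
  set R := pCoreOf p L with hR
  set D := K ⊓ centralizer (R : Set G) with hDdef
  have := finite_of_le (inf_le_left : D ≤ K)
  have := finite_of_le h.le
  have hLR : L ≤ normalizer (R : Set G) := le_normalizer_pCoreOf p L
  have hLD : L ≤ normalizer (D : Set G) :=
    le_normalizer_inf (hLK.trans Subgroup.le_normalizer) (le_normalizer_centralizer hLR)
  have hDR : D ≤ normalizer (R : Set G) := le_normalizer_of_le_centralizer inf_le_right
  set E := pCoreOf p D with hE
  have hED : E ≤ D := pCoreOf_le p D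
  have := finite_of_le hED
  have hLE : L ≤ normalizer (E : Set G) := le_normalizer_pCoreOf_of hLD
  have hEp : IsPGroup p E := pCoreOf_isPGroup p D
  have h0 : E ⊓ nclIn Q L ≤ R := by
    refine (inf_le_pCoreOf ((nclIn_le_of_le hQL).trans hLE) hEp).trans
      (pCoreOf_le_of_normal (nclIn_le_of_le hQL) (le_normalizer_nclIn Q L))
  have h1 : ⁅E, Q⁆ ≤ R := by
    refine le_trans (le_inf (commutator_le_left_of_le_normalizer (hQL.trans hLE)) ?_) h0
    refine (commutator_mono le_rfl (le_nclIn Q L)).trans (commutator_le_right_of_le_normalizer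
      (le_normalizer_nclIn_of_forall fun l hl => ?_))
    exact (h.conj_of_mem (hLK hl)).le_normalizer_of_le_normalizer hEp (hED.trans inf_le_left)
      ((conj_le_of_mem hQL hl).trans hLE)
  have hQD : ⁅Q, D⁆ ≤ D := commutator_le_right_of_le_normalizer (hQL.trans hLD)
  have := finite_of_le hQD
  have h2 : ⁅⁅Q, D⁆, E⁆ ≤ R := by
    refine three_subgroups (hQL.trans hLR) hDR (hED.trans hDR) ?_ ?_
    · exact (commutator_mono (commutator_le_right_of_le_normalizer (le_normalizer_pCoreOf p D))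
        le_rfl).trans h1
    · exact (commutator_mono h1 le_rfl).trans (commutator_le_left_of_le_normalizer hDR)
  have h3 : IsPGroup p ↥⁅Q, D⁆ := by
    refine hD.isPGroup_of_le hQD (pResidualOf_le_centralizer_of_le (N := R) hEp
      (((pResidualOf_le p _).trans hQD).trans (le_normalizer_pCoreOf p D)) ?_
      (((pResidualOf_le p _).trans hQD).trans inf_le_right))
    rw [commutator_comm]
    exact (commutator_mono (pResidualOf_le p _) le_rfl).trans h2
  have h4 : D ≤ normalizer (Q : Set G) := fun d hd => by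
    refine mem_normalizer_iff_conj_eq.2 (h.conj_eq hd.1 (R := nclIn Q D) ?_ (le_nclIn Q D)
      (conj_le_nclIn Q hd))
    rw [nclIn_eq_sup_commutator]
    exact IsPGroup.to_sup_of_normal_right' h.isPGroup h3 (normalizer_commutator_ge_left Q D)
  have h5 : ⁅Q, D⁆ ≤ Q ⊓ R := by
    refine le_inf (commutator_le_left_of_le_normalizer h4) (le_trans (le_inf ?_ ?_) h0)
    · exact le_pCoreOf hQD (normalizer_commutator_ge_right Q D) h3
    · exact (commutator_le_left_of_le_normalizer h4).trans (le_nclIn Q L)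
  refine ⟨h5, isPGroup_of_pResidualOf_le h.isPGroup (le_trans (le_inf
    ((pResidualOf_le p D).trans inf_le_left) ?_) hC)⟩
  exact pResidualOf_le_centralizer_of_le (N := R) h.isPGroup ((pResidualOf_le p D).trans h4)
    ((commutator_mono le_rfl (pResidualOf_le p D)).trans (h5.trans inf_le_right))
    ((pResidualOf_le p D).trans inf_le_right)

theorem WCIn.charPIn_of_le [Finite K] (h : WCIn p Q K) (hC : K ⊓ centralizer (Q : Set G) ≤ Q)
    (hK : CharPIn p K) (hQL : Q ≤ L) (hLK : L ≤ K) : CharPIn p L :=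
  charPIn_of_isPGroup_inf ((h.inf_centralizer_pCoreOf hC hQL hLK (hK.inf_centralizer
    (pCoreOf_isPGroup p L) ((pCoreOf_le p L).trans hLK))).2.to_le (inf_le_inf_right _ hLK))

end WC

section Large

variable {Q L U Y R : Subgroup G}

theorem isLarge_conj (h : IsLarge Q) (g : G) : IsLarge (Q ^ᶜ g) := by
  refine ⟨by rw [← conj_centralizer]; exact conj_mono g h.1, fun U h1 h2 => ?_⟩
  rw [← conj_centralizer, le_conj_iff_conj_inv_le] at h1
  have := h.2 _ h1 (by rwa [ne_eq, conj_eq_bot_iff])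
  rwa [← conj_normalizer, ← le_conj_iff_conj_inv_le, conj_normalizer] at this

theorem charPIn_of_isLarge (h : IsLarge Q) (hQ : IsPGroup p Q) (h₁ : Q ≤ L)
    (h₂ : L ≤ normalizer (Q : Set G)) : CharPIn p L :=
  charPIn_of_self_centralizing h₁ h₂ hQ (inf_le_right.trans h.1)

theorem charPIn_centralizer_of_isLarge (h : IsLarge Q) (hQ : IsPGroup p Q)
    (h₁ : U ≤ centralizer (Q : Set G)) (h₂ : U ≠ ⊥) : CharPIn p (centralizer (U : Set G)) :=
  charPIn_of_isLarge h hQ (le_centralizer_iff.1 h₁) ((centralizer_le_normalizer _).trans (h.2 U h₁ h₂))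

variable [hp : Fact p.Prime] [Finite G]

theorem wcIn_of_isLarge (h : IsLarge Q) (hQ : IsPGroup p Q) (hQ1 : Q ≠ ⊥) : WCIn p Q ⊤ :=
  wcIn_of_forall_normalizer le_top hQ fun R hR hQR _ => inf_le_right.trans
    ((le_normalizer_inf le_rfl (normalizer_le_normalizer_centralizer R)).trans
      (h.2 _ (inf_le_right.trans (centralizer_anti hQR))
        (center_ne_bot hR fun e => hQ1 (le_bot_iff.1 (e ▸ hQR)))))

theorem centralizer_le_normalizer_of_isLarge (h : IsLarge Q) (hQ : IsPGroup p Q)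
    (hY : IsPGroup p Y) (hY1 : Y ≠ ⊥) (hQY : Q ≤ normalizer (Y : Set G)) :
    centralizer (Y : Set G) ≤ normalizer (Q : Set G) :=
  (centralizer_anti inf_le_left).trans ((centralizer_le_normalizer _).trans
    (h.2 _ inf_le_right (inf_centralizer_ne_bot hQ hY hQY hY1)))

theorem centralizer_le_normalizer_nclIn (h : IsLarge Q) (hQ : IsPGroup p Q) (hQL : Q ≤ L)
    (hY : IsPGroup p Y) (hY1 : Y ≠ ⊥) (hLY : L ≤ normalizer (Y : Set G)) :
    centralizer (Y : Set G) ≤ normalizer (nclIn Q L : Set G) :=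
  le_normalizer_nclIn_of_forall fun l hl => centralizer_le_normalizer_of_isLarge
    (isLarge_conj h l) (isPGroup_conj hQ l) hY hY1 ((conj_le_of_mem hQL hl).trans hLY)

theorem nclIn_sup_centralizer (h : IsLarge Q) (hQ : IsPGroup p Q) (hQL : Q ≤ L)
    (hY : IsPGroup p Y) (hY1 : Y ≠ ⊥) (hLY : L ≤ normalizer (Y : Set G)) :
    nclIn Q (L ⊔ centralizer (Y : Set G)) = nclIn Q L :=
  le_antisymm (nclIn_le (le_nclIn Q L) (sup_le (le_normalizer_nclIn Q L)
    (centralizer_le_normalizer_nclIn h hQ hQL hY hY1 hLY))) (nclIn_mono le_rfl le_sup_left)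

theorem isPGroup_centralizer_pCoreOf (h : IsLarge Q) (hQ : IsPGroup p Q) (hQ1 : Q ≠ ⊥)
    (hQL : Q ≤ L) (hL : pCoreOf p L ≠ ⊥) : IsPGroup p (centralizer (pCoreOf p L : Set G)) := by
  have h1 := charPIn_centralizer_of_isLarge h hQ inf_le_right (inf_centralizer_ne_bot hQ
    (pCoreOf_isPGroup p L) (hQL.trans (le_normalizer_pCoreOf p L)) hL)
  rw [← top_inf_eq (centralizer _)] at h1 ⊢
  exact ((wcIn_of_isLarge h hQ hQ1).inf_centralizer_pCoreOf (inf_le_right.trans h.1) hQL le_top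
    (charPIn_inf_centralizer_of_le h1 (pCoreOf_isPGroup p L) inf_le_left le_top)).2

theorem centralizer_pCoreOf_le_of_isLarge (h : IsLarge Q) (hQ : IsPGroup p Q) (hQ1 : Q ≠ ⊥)
    {T : Subgroup G} (hT : IsSylowIn p T ⊤) (hTR : T ≤ R) (hR : pCoreOf p R ≠ ⊥) :
    centralizer (pCoreOf p R : Set G) ≤ pCoreOf p R := by
  obtain ⟨g, -, hg⟩ := hT.exists_conj_le le_top hQ
  have h1 := isPGroup_centralizer_pCoreOf (isLarge_conj h g) (isPGroup_conj hQ g)
    (by rwa [ne_eq, conj_eq_bot_iff]) (hg.trans hTR) hR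
  have h2 : R ≤ normalizer (centralizer (pCoreOf p R : Set G) : Set G) :=
    le_normalizer_centralizer (le_normalizer_pCoreOf p R)
  exact le_pCoreOf ((hT.le_of_le_normalizer' le_top h1 (hTR.trans h2)).trans hTR) h2 h1

theorem isOfParabolicCharacteristic_of_isLarge (h : IsLarge Q) (hQ : IsPGroup p Q) (hQ1 : Q ≠ ⊥) :
    IsOfParabolicCharacteristic p G := by
  rintro R hR hR1 ⟨T, hT⟩
  refine charPIn_iff.2 (inf_le_right.trans (centralizer_pCoreOf_le_of_isLarge h hQ hQ1
    (isSylowIn_top T) hT fun e => hR1 (le_bot_iff.1 ?_)))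
  rw [← e]
  exact le_pCoreOf le_normalizer le_rfl hR

end Large

section FrakM

variable {L M X T R H : Subgroup G}

theorem mem_charPSubgroups_iff : L ∈ charPSubgroups p G ↔
    pCoreOf p L ≠ ⊥ ∧ centralizer (pCoreOf p L : Set G) ≤ pCoreOf p L := by
  rw [ne_eq, pCoreOf_eq_bot_iff]; rfl

theorem charPIn_of_mem (h : L ∈ charPSubgroups p G) : CharPIn p L := inf_le_right.trans h.2

theorem mem_charPSubgroups_of_parabolic (hG : IsOfParabolicCharacteristic p G)
    (hT : IsSylowIn p T ⊤) (hTX : T ≤ X) (hX : pCoreOf p X ≠ ⊥) : X ∈ charPSubgroups p G := by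
  obtain ⟨S, rfl⟩ := isSylowIn_top_iff.1 hT
  have h1 := charPIn_iff.1 (hG _ (pCoreOf_isPGroup p X) hX
    ⟨S, hTX.trans (le_normalizer_pCoreOf p X)⟩)
  have h2 : pCoreOf p (normalizer (pCoreOf p X : Set G)) ≤ pCoreOf p X :=
    pCoreOf_le_of_le_of_le ((hT.of_le (hTX.trans (le_normalizer_pCoreOf p X))
      le_top).pCoreOf_le.trans hTX) (le_normalizer_pCoreOf p X)
  exact mem_charPSubgroups_iff.2 ⟨hX, (h1.le_pCoreOf (centralizer_le_normalizer _)
    (centralizer_anti h2)).trans h2⟩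

theorem normalizer_mem_charPSubgroups (hG : IsOfParabolicCharacteristic p G)
    (hT : IsSylowIn p T ⊤) (hR : IsPGroup p R) (hR1 : R ≠ ⊥) (hTR : T ≤ normalizer (R : Set G)) :
    normalizer (R : Set G) ∈ charPSubgroups p G :=
  mem_charPSubgroups_of_parabolic hG hT hTR fun e => hR1 (le_bot_iff.1 (by
    rw [← e]; exact le_pCoreOf le_normalizer le_rfl hR))

theorem exists_max_ge [Finite G] (h : L ∈ charPSubgroups p G) :
    ∃ X ∈ maxCharPSubgroups p G, L ≤ X := by
  obtain ⟨X, ⟨h1, h2⟩, hmax⟩ := exists_maximal_of_wellFoundedGT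
    (fun X : Subgroup G => X ∈ charPSubgroups p G ∧ L ≤ X) ⟨L, h, le_rfl⟩
  exact ⟨X, ⟨h1, fun K hK hXK => le_antisymm (hmax ⟨hK, h2.trans hXK⟩ hXK) hXK⟩, h2⟩

theorem le_dagger [Finite G] (hM : IsInFrakM p M) (hX : X ∈ charPSubgroups p G) (h : M ≤ X) :
    X ≤ M ⊔ centralizer (largestPReducedOf p M : Set G) := by
  obtain ⟨X', h1, h2⟩ := exists_max_ge hX
  exact h2.trans (hM.2.2.1 X' h1 (h.trans h2)).le

theorem dagger_le_normalizer (p : ℕ) (M : Subgroup G) :
    M ⊔ centralizer (largestPReducedOf p M : Set G) ≤ normalizer (largestPReducedOf p M : Set G) :=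
  sup_le (le_normalizer_largest p M) (centralizer_le_normalizer _)

theorem redOn_dagger (p : ℕ) (M : Subgroup G) :
    RedOn p (largestPReducedOf p M) (M ⊔ centralizer (largestPReducedOf p M : Set G)) :=
  (redOn_sup_iff (le_normalizer_largest p M)).2 (isPRed_largest p M).red

variable [hp : Fact p.Prime] [Finite G]

theorem largest_ne_bot_of_mem (h : L ∈ charPSubgroups p G) : largestPReducedOf p L ≠ ⊥ :=
  largestPReducedOf_ne_bot (charPIn_of_mem h) fun e => (mem_charPSubgroups_iff.1 h).1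
    (by rw [e, pCoreOf_bot])

omit hp in
theorem normalizer_le_dagger (hG : IsOfParabolicCharacteristic p G) (hT : IsSylowIn p T ⊤)
    (hTM : T ≤ M) (hM : IsInFrakM p M) (hR : IsPGroup p R) (hR1 : R ≠ ⊥)
    (hMR : M ≤ normalizer (R : Set G)) :
    normalizer (R : Set G) ≤ M ⊔ centralizer (largestPReducedOf p M : Set G) :=
  le_dagger hM (normalizer_mem_charPSubgroups hG hT hR hR1 (hTM.trans hMR)) hMR

theorem normalizer_largest_eq (hG : IsOfParabolicCharacteristic p G) (hT : IsSylowIn p T ⊤)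
    (hTM : T ≤ M) (hM : IsInFrakM p M) : normalizer (largestPReducedOf p M : Set G) =
      M ⊔ centralizer (largestPReducedOf p M : Set G) :=
  le_antisymm (normalizer_le_dagger hG hT hTM hM (largest_isPGroup p M) (largest_ne_bot_of_mem hM.1)
    (le_normalizer_largest p M)) (dagger_le_normalizer p M)

omit hp [Finite G] in
theorem pCoreOf_eq_inf_centralizer (hT : IsSylowIn p T ⊤) (hTM : T ≤ M) (hM : IsInFrakM p M) :
    pCoreOf p M = T ⊓ centralizer (largestPReducedOf p M : Set G) :=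
  le_antisymm (le_inf (hT.of_le hTM le_top).pCoreOf_le (pCoreOf_le_centralizer_largest p M))
    (le_pCoreOf_of_isPClosed hM.2.2.2.2.1 (.of_normal inf_le_left (le_normalizer_inf le_normalizer
      (le_normalizer_centralizer (le_normalizer_largest p M)))) (hT.isPGroup.to_le inf_le_left)
      (inf_le_inf_right _ hTM))

theorem isSylowIn_pCoreOf (hT : IsSylowIn p T ⊤) (hTM : T ≤ M) (hM : IsInFrakM p M) :
    IsSylowIn p (pCoreOf p M) (centralizer (largestPReducedOf p M : Set G)) := by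
  have h := isSylowIn_inf_centralizer (hTM.trans (le_normalizer_largest p M)) hT
  rwa [top_inf_eq, ← pCoreOf_eq_inf_centralizer hT hTM hM] at h

theorem largest_eq_omegaOneCenter_pCoreOf (hT : IsSylowIn p T ⊤) (hTM : T ≤ M)
    (hM : IsInFrakM p M) : largestPReducedOf p M = omegaOneCenter p (pCoreOf p M) := by
  rw [pCoreOf_eq_inf_centralizer hT hTM hM]
  exact largest_eq_omegaOneCenter (charPIn_of_mem hM.1) (hT.of_le hTM le_top)

theorem normalizer_pCoreOf_le (hT : IsSylowIn p T ⊤) (hTM : T ≤ M) (hM : IsInFrakM p M) :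
    normalizer (pCoreOf p M : Set G) ≤ normalizer (largestPReducedOf p M : Set G) := by
  rw [largest_eq_omegaOneCenter_pCoreOf hT hTM hM]
  exact normalizer_le_normalizer_omegaOneCenter p _

omit hp [Finite G] in
theorem le_centralizer_of_not_isSymmetricIn {Y : Subgroup G} (h : ¬ IsSymmetricIn Y) {g : G}
    (h₁ : Y ≤ normalizer ((Y ^ᶜ g : Subgroup G) : Set G)) (h₂ : Y ^ᶜ g ≤ normalizer (Y : Set G)) :
    Y ^ᶜ g ≤ centralizer (Y : Set G) := by
  by_contra hc
  exact h ⟨g, fun e => hc (commutator_eq_bot_iff_le_centralizer'.1 e), le_inf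
    (commutator_le_left_of_le_normalizer h₂) (commutator_le_right_of_le_normalizer h₁)⟩

/-- If `Y_M` is asymmetric then `O_p(M)` is weakly closed. -/
theorem wcIn_pCoreOf (hG : IsOfParabolicCharacteristic p G) (hT : IsSylowIn p T ⊤)
    (hTM : T ≤ M) (hM : IsInFrakM p M) (hasym : ¬ IsSymmetricIn (largestPReducedOf p M)) :
    WCIn p (pCoreOf p M) ⊤ := by
  set Y := largestPReducedOf p M with hY
  set R := pCoreOf p M with hR
  have hYR : Y ≤ R := largestPReducedOf_le_pCoreOf p M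
  have hRp : IsPGroup p R := pCoreOf_isPGroup p M
  have hS : IsSylowIn p R (centralizer (Y : Set G)) := isSylowIn_pCoreOf hT hTM hM
  have hN : normalizer (R : Set G) ≤ normalizer (Y : Set G) := normalizer_pCoreOf_le hT hTM hM
  let A : Set G := {a | R ≤ normalizer ((R ^ᶜ a : Subgroup G) : Set G) ∧
    R ^ᶜ a ≤ normalizer (R : Set G)}
  have hA : A⁻¹ = A := by
    have key : ∀ a ∈ A, a⁻¹ ∈ A := fun a ha =>
      ⟨by simpa only [conj_conj_inv] using le_normalizer_conj ha.2 a⁻¹,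
        by simpa only [conj_conj_inv] using le_normalizer_conj ha.1 a⁻¹⟩
    ext a
    exact ⟨fun h => by simpa using key _ h, fun h => key a h⟩
  have hAn : ∀ n : ℕ, ∀ a ∈ A ^ n, a⁻¹ ∈ A ^ n := fun n a ha => by
    rw [← hA, inv_pow]; simpa using ha
  have key : ∀ n : ℕ, ∀ a ∈ A ^ n, Y ^ᶜ a ≤ R := by
    intro n
    induction n with
    | zero =>
      intro a ha
      rw [pow_zero, Set.mem_one] at ha
      rw [ha, conj_one]; exact hYR
    | succ n ih =>
      have h1 : ∀ a ∈ A ^ (n + 1), Y ^ᶜ a ≤ normalizer (R : Set G) := by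
        intro a ha
        rw [pow_succ'] at ha
        obtain ⟨s, hs, b, hb, rfl⟩ := ha
        rw [← conj_conj]
        exact (conj_mono s (ih b hb)).trans hs.2
      intro a ha
      refine hS.le_of_le_normalizer (le_centralizer_of_not_isSymmetricIn hasym ?_
        ((h1 a ha).trans hN)) (isPGroup_conj (hRp.to_le hYR) a) (h1 a ha)
      simpa only [conj_inv_conj] using le_normalizer_conj ((h1 _ (hAn _ a ha)).trans hN) a
  let D : Subgroup G :=
    { carrier := {a | ∃ n : ℕ, a ∈ A ^ n}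
      one_mem' := ⟨0, by simp⟩
      mul_mem' := fun ⟨m, hm⟩ ⟨n, hn⟩ => ⟨m + n, by rw [pow_add]; exact Set.mul_mem_mul hm hn⟩
      inv_mem' := fun ⟨n, hn⟩ => ⟨n, hAn n _ hn⟩ }
  have hAD : ∀ a ∈ A, a ∈ D := fun a ha => ⟨1, by rwa [pow_one]⟩
  have hW : nclIn Y D ≤ R := nclIn_le_iff.2 fun a ⟨n, hn⟩ => key n a hn
  have hMD : M ≤ D := fun m hm => hAD m (by
    have e := conj_eq_of_mem_normalizer (le_normalizer_pCoreOf p M hm)
    change _ ∧ _
    rw [e]
    exact ⟨le_normalizer, le_normalizer⟩)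
  have hD := (le_normalizer_nclIn Y D).trans (normalizer_le_dagger hG hT hTM hM (hRp.to_le hW)
    (fun e => largest_ne_bot_of_mem hM.1 (le_bot_iff.1 (e ▸ le_nclIn Y D)))
    (hMD.trans (le_normalizer_nclIn Y D)))
  refine wcIn_of_forall_commutator le_top hRp fun g _ h1 h2 => ?_
  refine conj_eq_of_conj_le (hS.le_of_le_normalizer ?_ (isPGroup_conj hRp g) h2)
  exact conj_le_of_mem_normalizer hS.le (normalizer_le_normalizer_centralizer Y
    (dagger_le_normalizer p M (hD (hAD g ⟨h1, h2⟩))))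

theorem largest_inf_normalizer_eq (hL : CharPIn p L) (hTL : IsSylowIn p T L) (hTM : IsSylowIn p T M)
    (hfac : M ⊔ centralizer (largestPReducedOf p L : Set G) =
      L ⊔ centralizer (largestPReducedOf p L : Set G)) :
    largestPReducedOf p (M ⊓ normalizer
      ((T ⊓ centralizer (largestPReducedOf p L : Set G) : Subgroup G) : Set G)) =
      largestPReducedOf p L := by
  have hY := isPRed_largest p L
  have hM' : RedOn p (largestPReducedOf p L) M := hY.red.of_sup_eq hfac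
  have hTN := le_inf_normalizer_inf_centralizer (hTM.le.trans hM'.1) hTM.le
  have h1 := IsPRed.le_largest ⟨(hY.le_pCoreOf.trans hTL.pCoreOf_le).trans hTN, hY.elem,
    hM'.inf_normalizer hTM⟩
  refine le_antisymm ((isPRed_largest p _).le_omegaOneCenter.trans ?_) h1
  rw [hM'.pCoreOf_inf_normalizer hTM, ← largest_eq_omegaOneCenter hL hTL]

/-- Existence of members of `𝔐_G(T)` above a given member of `𝓛_G(T)`. -/
theorem exists_isInFrakM (hG : IsOfParabolicCharacteristic p G) (hT : IsSylowIn p T ⊤)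
    (hTL : T ≤ L) (hL : L ∈ charPSubgroups p G) :
    ∃ M Ls : Subgroup G, T ≤ M ∧ IsInFrakM p M ∧ T ≤ Ls ∧ Ls ≤ M ∧ Ls ∈ charPSubgroups p G ∧
      largestPReducedOf p L = largestPReducedOf p Ls ∧
      largestPReducedOf p L ≤ largestPReducedOf p M ∧
      L ⊔ centralizer (largestPReducedOf p L : Set G) =
        Ls ⊔ centralizer (largestPReducedOf p L : Set G) := by
  set YL := largestPReducedOf p L with hYL
  set Ld := L ⊔ centralizer (YL : Set G) with hLd
  let 𝒮 : Subgroup G → Prop := fun X => X ∈ charPSubgroups p G ∧ T ≤ X ∧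
    Ld ≤ (Ld ⊓ X) ⊔ centralizer (YL : Set G)
  have hSup : ∀ X X', 𝒮 X → X ≤ X' → X' ∈ charPSubgroups p G → 𝒮 X' := fun X X' h1 h2 h3 =>
    ⟨h3, h1.2.1.trans h2, h1.2.2.trans (sup_le_sup_right (inf_le_inf_left _ h2) _)⟩
  have hmono : ∀ X X', T ≤ X → X ≤ X' → X' ∈ charPSubgroups p G →
      largestPReducedOf p X ≤ largestPReducedOf p X' := fun X X' h1 h2 h3 =>
    largestPReducedOf_mono (charPIn_of_mem h3) (hT.of_le (h1.trans h2) le_top) h1 h2
  have hfac : ∀ X, 𝒮 X → (Ld ⊓ X) ⊔ centralizer (YL : Set G) = Ld := fun X hX =>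
    le_antisymm (sup_le inf_le_left le_sup_right) hX.2.2
  have hTLd : ∀ X, 𝒮 X → T ≤ Ld ⊓ X := fun X hX => le_inf (hTL.trans le_sup_left) hX.2.1
  have hYX : ∀ X, 𝒮 X → YL ≤ largestPReducedOf p X := fun X hX =>
    IsPRed.le_largest_of_le (R := Ld ⊓ X) ⟨((largestPReducedOf_le_pCoreOf p L).trans
      (hT.of_le hTL le_top).pCoreOf_le).trans (hTLd X hX), (isPRed_largest p L).elem,
      (isPRed_largest p L).red.of_sup_eq (hfac X hX)⟩ (charPIn_of_mem hX.1)
      (hT.of_le hX.2.1 le_top) (hTLd X hX) inf_le_right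
  obtain ⟨Y, ⟨X, hX, hXY⟩, hmax⟩ := exists_maximal_of_wellFoundedGT
    (fun Y : Subgroup G => ∃ X, 𝒮 X ∧ largestPReducedOf p X = Y)
    ⟨_, L, ⟨hL, hTL, sup_le_sup_right (le_inf le_sup_left le_rfl) _⟩, rfl⟩
  have hmax' : ∀ X', 𝒮 X' → Y ≤ largestPReducedOf p X' → largestPReducedOf p X' = Y :=
    fun X' h1 h2 => le_antisymm (hmax ⟨X', h1, rfl⟩ h2) h2
  set F := normalizer (Y : Set G) with hF
  have hXF : X ≤ F := by rw [hF, ← hXY]; exact le_normalizer_largest p X
  have hYp : IsPGroup p Y := hXY ▸ largest_isPGroup p X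
  have hY1 : Y ≠ ⊥ := hXY ▸ largest_ne_bot_of_mem hX.1
  have hFm : F ∈ charPSubgroups p G :=
    normalizer_mem_charPSubgroups hG hT hYp hY1 (hX.2.1.trans hXF)
  have hFS : 𝒮 F := hSup X F hX hXF hFm
  have hFY : largestPReducedOf p F = Y := hmax' F hFS (hXY ▸ hmono X F hX.2.1 hXF hFm)
  have hCF : centralizer (Y : Set G) ≤ F := centralizer_le_normalizer _
  obtain ⟨M, ⟨hTM, hMC⟩, hmin⟩ := exists_minimal_of_wellFoundedLT
    (fun M : Subgroup G => T ≤ M ∧ M ⊔ centralizer (Y : Set G) = F)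
    ⟨F, hFS.2.1, sup_eq_left.2 hCF⟩
  have hMF : M ≤ F := le_sup_left.trans hMC.le
  have hTM' := hT.of_le hTM le_top
  have hred : RedOn p Y M := (hFY ▸ (isPRed_largest p F).red : RedOn p Y F).of_sup_eq
    (hMC.trans (sup_eq_left.2 hCF).symm)
  have hYT : Y ≤ T := hFY ▸ (largestPReducedOf_le_pCoreOf p F).trans
    (hT.of_le hFS.2.1 le_top).pCoreOf_le
  have hYM : IsPRed p Y M := ⟨hYT.trans hTM, hFY ▸ (isPRed_largest p F).elem, hred⟩
  have hMm : M ∈ charPSubgroups p G := mem_charPSubgroups_of_parabolic hG hT hTM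
    fun e => hY1 (le_bot_iff.1 (e ▸ hYM.le_pCoreOf))
  have hMS : 𝒮 M := by
    refine ⟨hMm, hTM, hFS.2.2.trans (sup_le ?_ le_sup_right)⟩
    have hC : centralizer (Y : Set G) ≤ centralizer (YL : Set G) :=
      centralizer_anti (hFY ▸ hYX F hFS)
    rw [← hMC, inf_comm, sup_comm M, sup_inf_of_le_normalizer' hred.normC (hC.trans le_sup_right),
      inf_comm M]
    exact sup_le (hC.trans le_sup_right) le_sup_left
  have hMY : largestPReducedOf p M = Y := hmax' M hMS hYM.le_largest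
  have huniq : ∀ X' ∈ charPSubgroups p G, M ≤ X' → X' ≤ F := fun X' h1 h2 => by
    rw [hF, ← hmax' X' (hSup M X' hMS h2 h1) (hMY ▸ hmono M X' hTM h2 h1)]
    exact le_normalizer_largest p X'
  have hMN : M ⊓ normalizer ((T ⊓ centralizer (Y : Set G) : Subgroup G) : Set G) = M :=
    le_antisymm inf_le_left (hmin ⟨le_inf_normalizer_inf_centralizer (hTM.trans hred.1) hTM,
      (inf_normalizer_sup_centralizer hred.1 hTM').trans hMC⟩ inf_le_left)
  have hO : pCoreOf p M = T ⊓ centralizer (Y : Set G) := by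
    rw [← hred.pCoreOf_inf_normalizer hTM', hMN]
  have hS0 := isSylowIn_inf_centralizer (hTM.trans hred.1) hTM'
  refine ⟨M, (Ld ⊓ M) ⊓ normalizer ((T ⊓ centralizer (YL : Set G) : Subgroup G) : Set G), hTM, ?_,
    le_inf_normalizer_inf_centralizer (hTL.trans (le_normalizer_largest p L)) (hTLd M hMS),
    inf_le_left.trans inf_le_right, ?_, ?_, hYX M hMS, ?_⟩
  · unfold IsInFrakM
    rw [hMY, hMC]
    refine ⟨hMm, ⟨hFm, fun X' h1 h2 => le_antisymm (huniq X' h1 (hMF.trans h2)) h2⟩,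
      fun X' h1 h2 => (h1.2 F hFm (huniq X' h1.1 h2)).symm, hFY.symm,
      isPClosed_of_isSylowIn hS0 (inf_le_left.trans (hMN.ge.trans inf_le_right)), ?_⟩
    refine FrattiniFacts.le_frattini_iff.2 fun K hK => map_le_iff_le_comap.2 ?_
    have hK1 := FrattiniFacts.isCoatom_comap_mk hK
    set K₁ := K.comap (QuotientGroup.mk' (pCore p M)) with hK₁
    by_contra hc
    have e1 : K₁ ⊔ (M ⊓ centralizer (Y : Set G)).subgroupOf M = ⊤ :=
      hK1.2 _ (lt_of_le_of_ne le_sup_left fun e => hc (le_sup_right.trans e.ge))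
    have e2 := congrArg (map M.subtype) e1
    rw [Subgroup.map_sup, subgroupOf_map_subtype_of_le inf_le_left, ← MonoidHom.range_eq_map,
      range_subtype] at e2
    set K₂ := K₁.map M.subtype with hK₂
    have hK₂M : K₂ ≤ M := map_subtype_le _
    have hOK : T ⊓ centralizer (Y : Set G) ≤ K₂ := by
      rw [← hO]; exact map_mono (SolvBasic.le_comap_mk _ _)
    obtain ⟨P, hP⟩ := exists_isSylowIn p K₂
    have h3 := hP.sup hS0 (hK₂M.trans (le_normalizer_inf le_normalizer hred.normC))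
      ((hP.le.trans hK₂M).trans (hMN.ge.trans inf_le_right))
    rw [e2] at h3
    obtain ⟨m, hm, h4⟩ := h3.exists_le_conj hTM hT.isPGroup
    have h5 : M ≤ K₂ ^ᶜ m := by
      refine hmin ⟨h4.trans (conj_mono m (sup_le hP.le hOK)), ?_⟩ (conj_le_of_mem hK₂M hm)
      rw [← conj_eq_of_mem_normalizer (hred.normC hm), ← conj_sup, ← conj_eq_of_mem (hMF hm),
        conj_inj, ← hMC]
      refine le_antisymm (sup_le_sup_right hK₂M _) (sup_le ?_ le_sup_right)
      exact e2.ge.trans (sup_le_sup_left inf_le_right _)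
    rw [le_conj_iff_conj_inv_le, conj_eq_of_mem (inv_mem hm)] at h5
    apply hK1.1
    rw [← map_subtype_subgroupOf K₁, subgroupOf_eq_top]
    exact h5
  · refine mem_charPSubgroups_of_parabolic hG hT (le_inf_normalizer_inf_centralizer
      (hTL.trans (le_normalizer_largest p L)) (hTLd M hMS)) fun e => largest_ne_bot_of_mem hL ?_
    rw [← largest_inf_normalizer_eq (charPIn_of_mem hL) (hT.of_le hTL le_top)
      (hT.of_le (hTLd M hMS) le_top) (hfac M hMS), eq_bot_iff, ← e]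
    exact largestPReducedOf_le_pCoreOf p _
  · exact (largest_inf_normalizer_eq (charPIn_of_mem hL) (hT.of_le hTL le_top)
      (hT.of_le (hTLd M hMS) le_top) (hfac M hMS)).symm
  · rw [inf_normalizer_sup_centralizer (inf_le_left.trans (dagger_le_normalizer p L))
      (hT.of_le (hTLd M hMS) le_top), hfac M hMS]

omit hp [Finite G] in
theorem frakH_nclIn_pCoreOf (hH : IsInFrakH p M H) : nclIn (pCoreOf p M) H = H := by
  by_contra hne
  exact hH.2.2.1 ((hH.2.2.2 _ (le_nclIn _ _) (lt_of_le_of_ne (nclIn_le_of_le hH.2.1) hne)).trans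
    (pCoreOf_le_of_normal (nclIn_le_of_le hH.2.1) (le_normalizer_nclIn _ _)))

theorem frakH_pResidualOf_sup (hH : IsInFrakH p M H) : pResidualOf p H ⊔ pCoreOf p M = H :=
  pResidualOf_sup_eq_of_nclIn hH.2.1 (frakH_nclIn_pCoreOf hH)

omit hp [Finite G] in
theorem frakH_le_or (hH : IsInFrakH p M H) {N : Subgroup G} (h₁ : N ≤ H)
    (h₂ : H ≤ normalizer (N : Set G)) :
    pResidualOf p H ≤ N ∨ largestPReducedOf p M ≤ pCoreOf p (N ⊔ pCoreOf p M) := by
  by_cases e : N ⊔ pCoreOf p M = H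
  · exact Or.inl ((pResidualOf_mono e.ge).trans
      (pResidualOf_sup_le (pCoreOf_isPGroup p M) (hH.2.1.trans h₂)))
  · exact Or.inr (hH.2.2.2 _ le_sup_right (lt_of_le_of_ne (sup_le h₁ hH.2.1) e))

omit hp [Finite G] in
theorem frakH_pResidualOf_le (hH : IsInFrakH p M H) :
    pResidualOf p H ≤ nclIn (largestPReducedOf p M) H := by
  have hYH := (largestPReducedOf_le_pCoreOf p M).trans hH.2.1
  refine (frakH_le_or hH (nclIn_le_of_le hYH) (le_normalizer_nclIn _ _)).resolve_right fun h => ?_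
  exact hH.2.2.1 (((le_inf h (le_nclIn _ _)).trans (pCoreOf_inf_le le_sup_left)).trans
    (pCoreOf_le_of_normal (nclIn_le_of_le hYH) (le_normalizer_nclIn _ _)))

theorem frakH_pIrrIn (hH : IsInFrakH p M H) : PIrrIn p H := by
  have hYH := (largestPReducedOf_le_pCoreOf p M).trans hH.2.1
  refine ⟨fun hc => hH.2.2.1 (isPClosed_iff_forall_le.1 hc _ hYH (largest_isPGroup p M)),
    fun N h1 h2 h3 => (frakH_le_or hH h1 h2).resolve_right fun h4 => h3 ?_⟩
  have hO := le_normalizer_pCoreOf p H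
  have h5 : ⁅N, largestPReducedOf p M⁆ ≤ pCoreOf p H := by
    refine le_trans (le_inf ?_ (commutator_le_left_of_le_normalizer (hYH.trans h2)))
      ((pCoreOf_inf_le (le_sup_left : N ≤ N ⊔ pCoreOf p M)).trans (pCoreOf_le_of_normal h1 h2))
    exact (commutator_mono le_rfl h4).trans (commutator_le_right_of_le_normalizer
      (le_sup_left.trans (le_normalizer_pCoreOf p _)))
  have h6 : ⁅N, pResidualOf p H⁆ ≤ pCoreOf p H :=
    (commutator_mono le_rfl (frakH_pResidualOf_le hH)).trans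
      (commutator_nclIn_le hO (hYH.trans hO) h2 h5)
  obtain ⟨T, hT⟩ := exists_isSylowIn p H
  refine isPClosed_of_isSylowIn_le (hT.inf_normal h1 h2) ((le_inf ?_ inf_le_right).trans
    (pCoreOf_inf_le h1))
  refine le_sup_left.trans (le_pCoreOf (N := (T ⊓ N) ⊔ pCoreOf p H)
    (sup_le (inf_le_left.trans hT.le) (pCoreOf_le p H)) ?_
    (hT.isPGroup.to_le (sup_le inf_le_left hT.pCoreOf_le)))
  refine (pResidualOf_sup_of_isSylowIn hT).ge.trans (sup_le (le_normalizer_of_commutator_le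
    (le_trans ?_ le_sup_right)) (le_normalizer_sup (le_normalizer_inf le_normalizer
      (hT.le.trans h2)) (hT.le.trans hO)))
  rw [commutator_comm]
  refine commutator_sup_le ((inf_le_left.trans hT.le).trans hO) le_normalizer ?_
    (commutator_le_right_of_le_normalizer ((pResidualOf_le p H).trans hO))
  rw [commutator_comm]
  exact (commutator_mono inf_le_right le_rfl).trans h6

theorem pIrrIn_sup {Q : Subgroup G} (h : PIrrIn p H) (hQ : IsPGroup p Q)
    (hHQ : H ≤ normalizer (Q : Set G)) : PIrrIn p (H ⊔ Q) := by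
  refine ⟨fun hc => h.1 (isPClosed_of_le hc le_sup_left), fun N h1 h2 h3 => ?_⟩
  have e : Q ⊔ (H ⊓ (N ⊔ Q)) = N ⊔ Q := by
    rw [← sup_inf_of_le_normalizer' hHQ le_sup_right, sup_comm Q]
    exact inf_eq_right.2 (sup_le h1 le_sup_right)
  have hn : H ≤ normalizer ((H ⊓ (N ⊔ Q) : Subgroup G) : Set G) :=
    le_normalizer_inf le_normalizer (le_normalizer_sup (le_sup_left.trans h2) hHQ)
  have h4 : pResidualOf p H ≤ N ⊔ Q := by
    refine (h.2 _ inf_le_left hn fun hc => h3 (isPClosed_of_le ?_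
      (le_sup_left : N ≤ N ⊔ Q))).trans inf_le_right
    rw [← e, sup_comm Q]
    refine isPClosed_of_isSylowIn ((isPClosed_iff_isSylowIn_pCoreOf.1 hc).sup (isSylowIn_self hQ)
      (inf_le_left.trans hHQ) (((pCoreOf_le p _).trans inf_le_left).trans hHQ)) (sup_le ?_ ?_)
    · exact le_normalizer_sup (le_normalizer_pCoreOf p _) (inf_le_left.trans hHQ)
    · exact le_normalizer_of_le le_sup_right
  refine (pResidualOf_idem p _).ge.trans ((pResidualOf_mono ((pResidualOf_sup_le_sup hHQ).trans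
    (sup_le h4 le_sup_right))).trans (pResidualOf_sup_le hQ (le_sup_right.trans h2)))

end FrakM

end Cfsg.Agent.Lib.Large
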