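import Cfsg.Agent.Lib.LyDF0

set_option autoImplicit false
set_option maxRecDepth 100000

namespace Cfsg.Agent.Lib.LyD
open Cfsg.Agent.Lib.PermNet Cfsg.Agent.Lib.DCE

noncomputable def FF : FT := (.node (nat_lit 32) f0 (.node (nat_lit 64) f32 f64))

def TM : List Tm := [⟨false, [], [(false, []), (true, [])]⟩,
  ⟨true, [], [(false, [0, 0])]⟩,
  ⟨true, [3, 3, 1, 2, 2], [(false, [3, 3, 1, 2, 2, 1, 1]), (true, [1, 1, 3, 3, 1, 2, 2])]⟩,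
  ⟨true, [2, 1, 3, 1, 2, 1, 4, 0, 2, 4, 3, 6, 4, 3, 0, 4, 2, 7, 0], [(false, [6, 4, 3, 0, 4, 0, 6, 4]), (true, [1, 1, 2, 2, 0, 2, 4, 2, 2, 5, 1, 4, 0, 6, 4, 1, 2, 4, 1, 6, 4, 0])]⟩,
  ⟨false, [2, 1, 2, 2, 1, 2, 4, 2, 0, 3, 6, 4, 2, 0, 3, 6, 4, 0, 0, 0], [(false, [6, 0, 0]), (false, [5, 3, 5, 7, 2, 2, 5, 7, 2, 5, 3, 5, 1, 4, 3, 3, 0, 3, 3, 0, 3, 1]), (true, [1, 1, 7]), (true, [1, 1])]⟩,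
  ⟨true, [3, 5, 0, 3, 3, 4, 7, 4, 0, 5, 1, 4, 3, 3, 0, 2, 0, 3, 3], [(false, [7, 3]), (false, [3, 0, 2, 0, 2, 5, 1, 5, 0, 5, 6, 4, 3, 5, 0, 4, 0, 0]), (true, [1, 1, 2, 6, 0, 0])]⟩,
  ⟨true, [2, 1, 2, 2, 1, 2, 4, 2, 0, 3, 6, 4, 2, 0, 3, 6, 4, 0, 0, 0], [(false, [6, 0, 0]), (false, [5, 3, 5, 7, 2, 2, 5, 7, 2, 5, 3, 5, 1, 4, 3, 3, 0, 3, 3, 0, 3, 1]), (true, [1, 1, 7])]⟩,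
  ⟨false, [2, 1, 3, 1, 2, 1, 4, 0, 2, 4, 3, 6, 4, 3, 0, 4, 2, 7, 0], [(false, [6, 4, 3, 0, 4, 0, 6, 4]), (true, [1, 1, 2, 2, 0, 2, 4, 2, 2, 5, 1, 4, 0, 6, 4, 1, 2, 4, 1, 6, 4, 0]), (true, [1, 1])]⟩,
  ⟨false, [5, 3, 5, 7, 2, 2, 5, 7, 2, 5, 3, 5, 1, 4, 3, 3, 0, 3, 3, 0, 3, 1], [(false, [7]), (false, [2, 1, 2, 2, 1, 2, 4, 2, 0, 3, 6, 4, 2, 0, 3, 6, 4, 0, 0, 0]), (false, [6, 0, 0]), (true, [1, 1])]⟩,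
  ⟨true, [5, 3, 5, 7, 2, 2, 5, 7, 2, 5, 3, 5, 1, 4, 3, 3, 0, 3, 3, 0, 3, 1], [(false, [7]), (false, [2, 1, 2, 2, 1, 2, 4, 2, 0, 3, 6, 4, 2, 0, 3, 6, 4, 0, 0, 0]), (true, [1, 1, 6, 0, 0])]⟩,
  ⟨true, [6, 2, 5, 0, 5, 1, 5, 7, 4, 4, 0, 3, 4, 3, 5, 0, 2, 2, 1], [(false, [5, 3, 5, 7, 2, 2, 5, 7, 3, 5, 3, 3, 5, 2, 0, 2, 2, 0, 2, 1, 3]), (false, [0, 3, 0, 2, 2, 0, 5, 0, 2, 1, 6, 4, 0, 5, 3, 5, 1, 6, 0, 0]), (true, [1, 1, 2, 0, 3, 1, 3, 3, 1, 3, 4, 2, 2, 4, 2, 6, 4, 3, 3, 6, 4, 2, 4, 0, 0])]⟩,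
  ⟨true, [2, 0, 3, 1, 3, 3, 1, 3, 4, 2, 2, 4, 2, 6, 4, 3, 3, 6, 4, 2, 4, 0, 0], [(false, [6, 2, 5, 0, 5, 1, 5, 7, 4, 4, 0, 3, 4, 3, 5, 0, 2, 2, 1]), (false, [5, 3, 5, 7, 2, 2, 5, 7, 3, 5, 3, 3, 5, 2, 0, 2, 2, 0, 2, 1, 3]), (true, [1, 3, 0, 2, 2, 0, 5, 0, 2, 1, 6, 4, 0, 5, 3, 5, 1, 6, 0, 0])]⟩,
  ⟨true, [2, 2, 0, 2, 4, 2, 2, 5, 1, 4, 0, 6, 4, 1, 2, 4, 1, 6, 4, 0], [(false, [2, 1, 3, 1, 2, 1, 4, 0, 2, 4, 3, 6, 4, 3, 0, 4, 2, 7, 0]), (false, [6, 4, 3, 0, 4, 0, 6, 4])]⟩,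
  ⟨false, [6, 4, 3, 0, 4, 0, 6, 4], [(false, [2, 2, 0, 2, 4, 2, 2, 5, 1, 4, 0, 6, 4, 1, 2, 4, 1, 6, 4, 0]), (false, [2, 1, 3, 1, 2, 1, 4, 0, 2, 4, 3, 6, 4, 3, 0, 4, 2, 7, 0]), (false, [])]⟩]

def XW : List (List (List Nat)) := [[],
  [[]],
  [[], [6]],
  [[], [16, 6]],
  [[], [6, 2]]]

def BB : List Nat := [(nat_lit 0), (nat_lit 1), (nat_lit 55)]



end Cfsg.Agent.Lib.LyD
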