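import Cfsg.Agent.Lib.LyDR
import Cfsg.Agent.Lib.LyDT
import Cfsg.Agent.Lib.LyDF
import Cfsg.Agent.Lib.LyDM

set_option autoImplicit false
set_option maxRecDepth 100000

namespace Cfsg.Agent.Lib.LyD
open Cfsg.Agent.Lib.PermNet Cfsg.Agent.Lib.DCE

theorem cv1_0_0 : covB FF nets (nat_lit 23436) (nat_lit 15) (nat_lit 22) (nat_lit 3906) (nat_lit 92) (nat_lit 1) (nat_lit 0) [13, 14, 15, 16] [[1, 1, 1], [13, 4, 11, 4], [1, 3, 8, 2, 0], [3, 24, 24, 1]]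
    [12] [] k1_0 = true := by decide +kernel

theorem cv1_1_0 : covB FF nets (nat_lit 23436) (nat_lit 15) (nat_lit 22) (nat_lit 3906) (nat_lit 92) (nat_lit 1) (nat_lit 1) [13, 14, 15, 16] [[1, 1, 1], [13, 4, 11, 4], [1, 3, 8, 2, 0], [3, 24, 24, 1]]
    [17, 18] [0, 3, 0, 3, 2, 0, 3, 0, 3, 1, 0, 0] k1_1 = true := by decide +kernel

theorem cv1_2_0 : covB FF nets (nat_lit 23436) (nat_lit 15) (nat_lit 22) (nat_lit 3906) (nat_lit 92) (nat_lit 1) (nat_lit 2) [13, 14, 15, 16] [[1, 1, 1], [13, 4, 11, 4], [1, 3, 8, 2, 0], [3, 24, 24, 1]]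
    [19] [1, 2, 0, 3, 1, 0, 3, 0, 1, 0, 2, 0, 3, 0, 1, 0, 0, 0, 0] k1_2 = true := by decide +kernel

theorem cv1_3_0 : covB FF nets (nat_lit 23436) (nat_lit 15) (nat_lit 22) (nat_lit 3906) (nat_lit 92) (nat_lit 1) (nat_lit 3) [13, 14, 15, 16] [[1, 1, 1], [13, 4, 11, 4], [1, 3, 8, 2, 0], [3, 24, 24, 1]]
    [27] [0, 3, 0, 1, 0, 3, 0, 2, 0, 1, 0, 3, 0, 1, 0, 3, 0, 0, 0] k1_3 = true := by decide +kernel

theorem cv1_4_0 : covB FF nets (nat_lit 23436) (nat_lit 15) (nat_lit 22) (nat_lit 3906) (nat_lit 92) (nat_lit 1) (nat_lit 4) [13, 14, 15, 16] [[1, 1, 1], [13, 4, 11, 4], [1, 3, 8, 2, 0], [3, 24, 24, 1]]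
    [47] [0, 1, 2, 0, 3, 1, 0, 3, 0, 1, 0, 2, 0, 3, 0, 1, 0, 3, 0, 0, 1] k1_4 = true := by decide +kernel

theorem rw1 : rowB (nat_lit 23436) (ivl (nat_lit 3906) ((nat_lit 23436) - (nat_lit 3906))) row1 [1, 154, 3125, 3750, 12500] 0 = true := by decide +kernel

theorem cv2_1_0 : covB FF nets (nat_lit 23436) (nat_lit 15) (nat_lit 22) (nat_lit 3906) (nat_lit 92) (nat_lit 2) (nat_lit 1) [21, 22, 24] [[0, 0, 0], [1, 25, 23], [21, 0, 4, 12, 24, 2, 25, 2, 0]]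
    [20] [2, 1, 0, 2, 1, 0, 1, 0, 2, 1, 0] k2_1 = true := by decide +kernel

theorem cv2_2_0 : covB FF nets (nat_lit 23436) (nat_lit 15) (nat_lit 22) (nat_lit 3906) (nat_lit 92) (nat_lit 2) (nat_lit 2) [21, 22, 24] [[0, 0, 0], [1, 25, 23], [21, 0, 4, 12, 24, 2, 25, 2, 0]]
    [23, 25, 26] [1, 0, 1, 0, 1, 0, 1, 2, 0, 1, 0, 1, 0, 2, 1, 0, 1, 0, 1, 2, 1] k2_2 = true := by decide +kernel

theorem cv2_3_0 : covB FF nets (nat_lit 23436) (nat_lit 15) (nat_lit 22) (nat_lit 3906) (nat_lit 92) (nat_lit 2) (nat_lit 3) [21, 22, 24] [[0, 0, 0], [1, 25, 23], [21, 0, 4, 12, 24, 2, 25, 2, 0]]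
    [37, 35, 41, 39] [0, 1, 0, 1, 0, 1, 2, 0, 1, 0, 1, 0, 2, 1, 0, 1, 0, 2, 0, 1, 0] k2_3 = true := by decide +kernel

theorem cv2_4_0 : covB FF nets (nat_lit 23436) (nat_lit 15) (nat_lit 22) (nat_lit 3906) (nat_lit 92) (nat_lit 2) (nat_lit 4) [21, 22, 24] [[0, 0, 0], [1, 25, 23], [21, 0, 4, 12, 24, 2, 25, 2, 0]]
    [52, 58, 71] [1, 0, 1, 0, 1, 0, 1, 2, 0, 1, 0, 1, 0, 2, 1, 0, 1, 0, 2, 1, 0, 1, 1, 1] k2_4 = true := by decide +kernel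

theorem rw2 : rowB (nat_lit 23436) (ivl (nat_lit 3906) ((nat_lit 23436) - (nat_lit 3906))) row2 [0, 63, 2520, 4599, 12348] 0 = true := by decide +kernel

theorem cv3_1_0 : covB FF nets (nat_lit 23436) (nat_lit 15) (nat_lit 22) (nat_lit 3906) (nat_lit 92) (nat_lit 3) (nat_lit 1) [29, 30, 31, 33, 38] [[5, 5], [5, 1, 22, 24], [0, 12, 1, 1, 1], [2, 1, 9, 16, 1, 13, 3, 0, 4, 24, 2, 25, 1], [18, 21, 14, 21, 10, 10, 2, 8, 2, 25, 25, 3]]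
    [28] [4, 0, 1, 0, 2, 1, 0, 3, 4] k3_1 = true := by decide +kernel

theorem cv3_2_0 : covB FF nets (nat_lit 23436) (nat_lit 15) (nat_lit 22) (nat_lit 3906) (nat_lit 92) (nat_lit 3) (nat_lit 2) [29, 30, 31, 33, 38] [[5, 5], [5, 1, 22, 24], [0, 12, 1, 1, 1], [2, 1, 9, 16, 1, 13, 3, 0, 4, 24, 2, 25, 1], [18, 21, 14, 21, 10, 10, 2, 8, 2, 25, 25, 3]]
    [34, 36, 42, 40] [0, 0, 1, 0, 2, 1, 4, 0, 1, 0, 2, 1, 0, 1, 4, 0, 1] k3_2 = true := by decide +kernel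

theorem cv3_3_0 : covB FF nets (nat_lit 23436) (nat_lit 15) (nat_lit 22) (nat_lit 3906) (nat_lit 92) (nat_lit 3) (nat_lit 3) [29, 30, 31, 33, 38] [[5, 5], [5, 1, 22, 24], [0, 12, 1, 1, 1], [2, 1, 9, 16, 1, 13, 3, 0, 4, 24, 2, 25, 1], [18, 21, 14, 21, 10, 10, 2, 8, 2, 25, 25, 3]]
    [32, 44, 46, 45, 43] [0, 1, 0, 2, 0, 1, 2, 1, 4, 0, 1, 0, 2, 0, 1, 3, 2, 1, 1, 4] k3_3 = true := by decide +kernel

theorem cv3_4_0 : covB FF nets (nat_lit 23436) (nat_lit 15) (nat_lit 22) (nat_lit 3906) (nat_lit 92) (nat_lit 3) (nat_lit 4) [29, 30, 31, 33, 38] [[5, 5], [5, 1, 22, 24], [0, 12, 1, 1, 1], [2, 1, 9, 16, 1, 13, 3, 0, 4, 24, 2, 25, 1], [18, 21, 14, 21, 10, 10, 2, 8, 2, 25, 25, 3]]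
    [63, 69, 61, 75, 85, 81, 83, 90] [0, 0, 1, 0, 2, 1, 2, 1, 4, 0, 1, 0, 2, 0, 1, 3, 2, 1, 1, 4] k3_4 = true := by decide +kernel

theorem rw3 : rowB (nat_lit 23436) (ivl (nat_lit 3906) ((nat_lit 23436) - (nat_lit 3906))) row3 [0, 36, 2190, 4584, 12720] 0 = true := by decide +kernel

theorem cv4_1_0 : covB FF nets (nat_lit 23436) (nat_lit 15) (nat_lit 22) (nat_lit 3906) (nat_lit 92) (nat_lit 4) (nat_lit 1) [49, 50, 78] [[1, 2, 25, 0], [1], [13, 3, 0, 19, 10, 5, 0, 4, 22, 0, 3, 24]]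
    [48] [2, 1, 1, 1, 1, 1, 1, 1, 2, 1, 1, 1, 1, 1, 1, 2, 1] k4_1 = true := by decide +kernel

theorem cv4_2_0 : covB FF nets (nat_lit 23436) (nat_lit 15) (nat_lit 22) (nat_lit 3906) (nat_lit 92) (nat_lit 4) (nat_lit 2) [49, 50, 78] [[1, 2, 25, 0], [1], [13, 3, 0, 19, 10, 5, 0, 4, 22, 0, 3, 24]]
    [51, 57, 72] [1, 1, 1, 1, 0, 1, 1, 1, 2, 1, 1, 1, 1, 1, 1, 1, 2, 1, 1, 1, 1, 1, 1, 2, 1, 1] k4_2 = true := by decide +kernel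

theorem cv4_3_0 : covB FF nets (nat_lit 23436) (nat_lit 15) (nat_lit 22) (nat_lit 3906) (nat_lit 92) (nat_lit 4) (nat_lit 3) [49, 50, 78] [[1, 2, 25, 0], [1], [13, 3, 0, 19, 10, 5, 0, 4, 22, 0, 3, 24]]
    [60, 62, 70, 76, 91, 82, 84, 86] [1, 1, 1, 1, 0, 1, 1, 1, 2, 1, 1, 1, 1, 1, 1, 1, 2, 1, 1, 1, 1, 1, 1, 2, 1, 1] k4_3 = true := by decide +kernel

theorem cv4_4_0 : covB FF nets (nat_lit 23436) (nat_lit 15) (nat_lit 22) (nat_lit 3906) (nat_lit 92) (nat_lit 4) (nat_lit 4) [49, 50, 78] [[1, 2, 25, 0], [1], [13, 3, 0, 19, 10, 5, 0, 4, 22, 0, 3, 24]]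
    [53, 54, 55, 56, 59, 64, 65, 66, 67, 68, 73, 74, 77, 88, 87, 79, 80, 89] [1, 1, 1, 0, 1, 1, 1, 1, 1, 2, 1, 1, 1, 1, 1, 1, 1, 2, 1, 1, 1, 1, 1, 1, 2, 1] k4_4 = true := by decide +kernel

theorem rw4 : rowB (nat_lit 23436) (ivl (nat_lit 3906) ((nat_lit 23436) - (nat_lit 3906))) row4 [0, 42, 2058, 4452, 12978] 0 = true := by decide +kernel

end Cfsg.Agent.Lib.LyD
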