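import Cfsg.Agent.Lib.DCE2
import Cfsg.Agent.Lib.LyDC0
import Cfsg.Agent.Lib.LyDE0
import Cfsg.Agent.Lib.LyDE1
import Cfsg.Agent.Lib.LyDE2
import Cfsg.Agent.Lib.LyDE3
import Cfsg.Agent.Lib.LyDE4

set_option autoImplicit false
set_option maxRecDepth 100000

namespace Cfsg.Agent.Lib.LyD
open Cfsg.Agent.Lib.PermNet Cfsg.Agent.Lib.DCE

open Cfsg.Agent.Lib.Words Cfsg.Agent.Lib.PermGroup

/-- Relators of the subgroup. -/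
def K1 : List (List ℕ) := [[0, 0, 0, 0, 0, 0, 0, 0], [2, 2, 2, 2, 2], [0, 2, 0, 2, 0, 2, 0, 2], [1, 1, 3, 0, 0, 2], [1, 3, 0, 2, 1, 3, 0, 2, 1, 3, 0, 2], [8, 1, 5, 0], [10, 3, 5, 2], [12, 2, 5, 3], [14, 9, 5, 8, 4], [4, 4, 4, 4, 4], [14, 14, 14, 14, 14], [5, 15, 4, 14], [9, 15, 8, 14], [11, 15, 10, 14], [13, 15, 12, 14], [5, 11, 4, 10, 14, 14], [5, 13, 4, 12, 15, 15], [9, 11, 8, 10, 14], [9, 13, 8, 12], [11, 13, 10, 12, 14], [1, 8, 0, 4, 4], [1, 10, 0, 13, 5, 10, 10], [1, 12, 0, 13, 5, 13, 10, 8, 5], [1, 14, 0, 15, 15], [3, 8, 2, 12, 4, 12, 11, 9], [3, 10, 2, 10, 10, 13, 5, 5], [3, 14, 2, 15], [16, 7, 5, 7, 2, 1, 3, 5, 7, 1, 5, 0, 5, 1, 4, 0, 2, 2], [16, 16], [17, 4, 16, 4, 3, 11, 3], [17, 10, 16, 0, 12, 4, 9, 1, 3, 3], [17, 12, 16, 13, 10, 3, 3], [17, 14, 16, 12, 5, 10, 5], [16, 0, 0, 16, 12, 15,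 5, 1, 2, 1, 3, 3, 1], [17, 2, 16, 12, 12, 10, 5], [16, 0, 2, 2, 0, 3, 0, 16, 12, 15, 5, 1, 1], [16, 8, 16, 9, 16, 8, 13, 0, 10, 0, 0, 0], [6, 17, 3, 8, 1, 17, 1, 17, 1, 14, 12, 4, 2, 0, 3, 3, 1], [6, 6, 1, 1, 1, 1], [3, 7, 2, 6], [7, 0, 6, 1, 1, 1], [6, 14, 6, 14, 6, 14, 6, 14, 6, 14], [6, 14, 6, 15, 6, 14, 1, 1]]

def I1 : List ℕ := [8]

/-- Further relations in the subgroup. -/
def X : List (List ℕ) := [[0, 4, 7, 1, 4, 7, 0, 0, 4, 7, 1, 4, 7, 0, 0, 4, 7, 1, 4, 7, 0, 0, 4, 7, 1, 4, 7, 0, 0, 4, 7, 1, 4, 7, 0, 0, 4, 7, 1, 4, 7, 0, 0, 4, 7, 1, 4, 7, 0], [0, 0, 4, 0, 0, 4, 0, 0, 4, 0, 0, 4], [1, 5, 0, 8], [8, 8, 8, 8, 8], [3, 5, 2, 10], [10, 10, 10, 10, 10], [2, 5, 3, 12], [12, 12, 12, 12, 12], [8, 5, 12, 6, 8, 5, 12, 6, 8, 5, 12, 6], [6, 6, 6, 6], [0, 0, 14, 0, 0, 14, 0, 0, 14, 0, 0, 14], [9, 6, 6,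 16, 9, 6, 6, 16, 9, 6, 6, 16]]

/-- Relators that involve the extra generator. -/
def RR : List (List ℕ) := [[4, 18, 1, 3, 4, 1, 2, 4, 3, 0, 2, 0, 19], [8, 18, 3, 5, 3, 0, 5, 1, 2, 2, 19], [10, 18, 1, 3, 1, 5, 0, 2, 0, 19], [12, 18, 3, 1, 2, 5, 3, 0, 2, 19], [14, 18, 4, 2, 2, 5, 1, 3, 5, 2, 0, 3, 3, 19], [0, 18, 0, 0, 0, 19], [2, 0, 3, 18, 0, 0, 2, 0, 3, 19], [2, 2, 0, 3, 3, 18, 0, 2, 2, 1, 3, 3, 1, 19], [18, 1, 1, 18], [3, 3, 0, 2, 2, 18, 3, 3, 0, 2, 2, 18, 3, 3, 0, 2, 2, 18, 0, 0], [5, 7, 1, 5, 1, 2, 5, 7, 18, 1, 6, 3, 5, 1, 2, 5, 7, 2, 5, 3, 1, 5, 0, 3, 0, 2, 0, 3, 18, 1, 5, 7, 0, 5, 3, 0, 5, 7, 1, 5, 0, 4, 3, 3, 5, 3, 1, 3, 3, 18], [19, 7, 19, 1, 5, 7, 2, 1, 3, 5, 7, 2, 1, 3, 5, 3, 0, 3, 3, 0, 3, 18, 6, 18, 0, 2, 1, 2, 2, 1, 2, 2, 5, 0, 4, 2, 4, 3, 6, 4, 3, 3, 6, 4, 2, 4], [18, 2, 0, 3, 1, 3,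 3, 1, 3, 4, 2, 2, 4, 2, 6, 4, 3, 3, 6, 4, 2, 4, 18, 0, 3, 3, 1, 4, 2, 5, 2, 1, 5, 5, 6, 4, 0, 4, 1, 4, 3, 7, 19, 5, 3, 5, 7, 2, 2, 5, 7, 3, 5, 3, 3, 5, 2, 0, 2, 2, 0, 2, 1, 3, 19, 7, 0, 4, 2, 4, 1, 5, 7, 0, 3, 1, 4, 1, 3, 3, 1, 2, 1], [18, 2, 6, 18, 2, 2, 1, 3, 1, 2, 2, 5, 0, 4, 1, 5, 6, 5, 2, 2, 1, 4, 2, 19, 7, 3, 19, 5, 1, 4, 2, 5, 7, 4, 1, 4, 0, 4, 3, 1, 3, 1, 2]]

noncomputable def dat : Dat where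
  N := (nat_lit 23436)
  K := (nat_lit 15)
  nS := (nat_lit 3906)
  KS := (nat_lit 12)
  wb := (nat_lit 12)
  mask := (nat_lit 4095)
  n0 := 9
  nl := (nat_lit 62)
  k0 := 13
  nK := (nat_lit 9)
  idT := idT
  T := 5859000000
  TK := 300000
  nF := (nat_lit 92)
  n := 5
  s0 := 0
  tot := 8835156
  nets := nets
  th := th
  tk := tk
  tk' := tk'
  F := FF
  TM := TM
  XW := XW
  defs := defs
  R := RR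
  cw := [[], [6], [15, 12, 6]]
  rows := [row0, row1, row2, row3, row4]
  cs := [[0, 19530, 0, 0, 0], [1, 154, 3125, 3750, 12500], [0, 63, 2520, 4599, 12348], [0, 36, 2190, 4584, 12720], [0, 42, 2058, 4452, 12978]]
  u := []
  v := [1, 1]
  live := [(nat_lit 0), (nat_lit 1), (nat_lit 2), (nat_lit 3), (nat_lit 4)]
  cols := [1, 2, 3, 4]
  sz := [1, 19530, 968750, 2034375, 5812500]
  par := [0, 0, 1, 1, 1]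
  chH := chH
  chK := chK
  tc := [[([], 16)],
  [([], 16)],
  [([3, 3, 0, 2, 2, 18, 0, 0], 19)],
  [([1, 5, 7, 0, 5, 3, 0, 5, 7, 1, 5, 0, 4, 3, 3, 5, 3, 1, 3, 3, 18], 21)],
  [([18, 6, 18, 0, 2, 1, 2, 2, 1, 2, 2, 5, 0, 4, 2, 4, 3, 6, 4, 3, 3, 6, 4, 2, 4], 23)],
  [([1, 1, 7, 3, 18, 1, 1, 5, 1, 4, 2, 5, 7, 4, 1, 4, 0, 4, 3, 1, 3, 1, 2], 27)],
  [([6, 18, 0, 2, 1, 2, 2, 1, 2, 2, 5, 0, 4, 2, 4, 3, 6, 4, 3, 3, 6, 4, 2, 4], 23)],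
  [([18, 1, 5, 7, 0, 5, 3, 0, 5, 7, 1, 5, 0, 4, 3, 3, 5, 3, 1, 3, 3, 18], 21)],
  [([], 23)],
  [([1, 1, 7, 18, 1, 1, 1, 5, 7, 2, 1, 3, 5, 7, 2, 1, 3, 5, 3, 0, 3, 3, 0, 3, 18, 6, 18, 0, 2, 1, 2, 2, 1, 2, 2, 5, 0, 4, 2, 4, 3, 6, 4, 3, 3, 6, 4, 2, 4], 23)],
  [([1, 1, 5, 3, 5, 7, 2, 2, 5, 7, 3, 5, 3, 3, 5, 2, 0, 2, 2, 0, 2, 1, 3, 18, 1, 1, 7, 0, 4, 2, 4, 1, 5, 7, 0, 3, 1, 4, 1, 3, 3, 1, 2, 1], 25)],
  [([1, 1, 7, 0, 4, 2, 4, 1, 5, 7, 0, 3, 1, 4, 1, 3, 3, 1, 2, 1], 25)],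
  [([], 21)],
  [([18, 1, 6, 3, 5, 1, 2, 5, 7, 2, 5, 3, 1, 5, 0, 3, 0, 2, 0, 3, 18, 1, 5, 7, 0, 5, 3, 0, 5, 7, 1, 5, 0, 4, 3, 3, 5, 3, 1, 3, 3, 18], 21)]]

theorem hrels : ∀ w ∈ relW rels, wval nets.perm w = 1 :=
  relW_one (wval_eq_of_relsOn (K := 15) hv (by norm_num) ((((((((((((((rels0_0.trans rels0_1).trans rels0_2).trans rels0_3).trans rels0_4).trans rels0_5).trans rels0_6).trans rels0_7).trans rels0_8).trans rels0_9).trans rels0_10).trans rels0_11).trans rels0_12).trans rels0_13).trans rels0_14))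

theorem hK1 : ∀ w ∈ K1, wval nets.perm w = 1 := derive [] hrels _ (by decide +kernel)

theorem hX : ∀ w ∈ X, wval nets.perm w = 1 := derive [] hrels _ (by decide +kernel)

theorem hB : dat.B = BB := by decide +kernel

theorem facts : AllR (fun c => ∃ e, checkF (nat_lit 12) (nat_lit 4095) tH tK tK' BB FF TM XW c e = true) 0 (nat_lit 92) :=
  (allR_of_checkL d0 0 92 (by decide +kernel) fc0)

theorem tab : AllR (fun l => tabB nets (nat_lit 23436) (nat_lit 15) (nat_lit 3906) (nat_lit 12) (nat_lit 12) (nat_lit 4095) tH l = true)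
    0 (nat_lit 62) :=
  ((((allR_of 0 16 16 (by decide) tab0).trans
    (allR_of 16 16 32 (by decide) tab16)).trans
    (allR_of 32 16 48 (by decide) tab32)).trans
    (allR_of 48 14 62 (by decide) tab48))

theorem cov0 : AllIdx (fun j m => Cov nets FF (nat_lit 3906) (nat_lit 92) (nat_lit 0) (getD 0 dat.live j) m) 0 row0 :=
  ⟨cov_zero,
    (cov_of_covB hv _ (by decide +kernel) _ _ _ _ cv0_1_0),
    cov_zero,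
    cov_zero,
    cov_zero, trivial⟩

theorem cov1 : AllIdx (fun j m => Cov nets FF (nat_lit 3906) (nat_lit 92) (nat_lit 1) (getD 0 dat.live j) m) 0 row1 :=
  ⟨(cov_of_covB hv _ (by decide +kernel) _ _ _ _ cv1_0_0),
    (cov_of_covB hv _ (by decide +kernel) _ _ _ _ cv1_1_0),
    (cov_of_covB hv _ (by decide +kernel) _ _ _ _ cv1_2_0),
    (cov_of_covB hv _ (by decide +kernel) _ _ _ _ cv1_3_0),
    (cov_of_covB hv _ (by decide +kernel) _ _ _ _ cv1_4_0), trivial⟩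

theorem cov2 : AllIdx (fun j m => Cov nets FF (nat_lit 3906) (nat_lit 92) (nat_lit 2) (getD 0 dat.live j) m) 0 row2 :=
  ⟨cov_zero,
    (cov_of_covB hv _ (by decide +kernel) _ _ _ _ cv2_1_0),
    (cov_of_covB hv _ (by decide +kernel) _ _ _ _ cv2_2_0),
    (cov_of_covB hv _ (by decide +kernel) _ _ _ _ cv2_3_0),
    (cov_of_covB hv _ (by decide +kernel) _ _ _ _ cv2_4_0), trivial⟩

theorem cov3 : AllIdx (fun j m => Cov nets FF (nat_lit 3906) (nat_lit 92) (nat_lit 3) (getD 0 dat.live j) m) 0 row3 :=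
  ⟨cov_zero,
    (cov_of_covB hv _ (by decide +kernel) _ _ _ _ cv3_1_0),
    (cov_of_covB hv _ (by decide +kernel) _ _ _ _ cv3_2_0),
    (cov_of_covB hv _ (by decide +kernel) _ _ _ _ cv3_3_0),
    (cov_of_covB hv _ (by decide +kernel) _ _ _ _ cv3_4_0), trivial⟩

theorem cov4 : AllIdx (fun j m => Cov nets FF (nat_lit 3906) (nat_lit 92) (nat_lit 4) (getD 0 dat.live j) m) 0 row4 :=
  ⟨cov_zero,
    (cov_of_covB hv _ (by decide +kernel) _ _ _ _ cv4_1_0),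
    (cov_of_covB hv _ (by decide +kernel) _ _ _ _ cv4_2_0),
    (cov_of_covB hv _ (by decide +kernel) _ _ _ _ cv4_3_0),
    (cov_of_covB hv _ (by decide +kernel) _ _ _ _ cv4_4_0), trivial⟩

theorem ok : dat.OK :=
  ⟨hv, by decide +kernel, derive [] hrels _ (by decide +kernel), tab, cH, cK, hB ▸ facts,
    ⟨rw0, rw1, rw2, rw3, rw4, trivial⟩,
    ⟨cov0, cov1, cov2, cov3, cov4, trivial⟩⟩

end Cfsg.Agent.Lib.LyD
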