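import Cfsg.Agent.Lib.PermGroup
import Cfsg.Agent.Lib.TCLy1
import Cfsg.Agent.Lib.TCLy2
import Cfsg.Agent.Lib.TCLy3

/-! Upper bound for the order of groups that satisfy the first relators of the Lyons group. -/

set_option autoImplicit false
set_option maxRecDepth 100000

namespace Cfsg.Agent.Lib.LyTC

open Cfsg.Agent.Lib.PermNet Cfsg.Agent.Lib.Words Cfsg.Agent.Lib.PermGroup 

def K1 : List (List ℕ) := [[0, 0, 0, 0, 0, 0, 0, 0], [2, 2, 2, 2, 2], [0, 2, 0, 2, 0, 2, 0, 2], [1, 1, 3, 0, 0, 2], [1, 3, 0, 2, 1, 3, 0, 2, 1, 3, 0, 2], [8, 1, 5, 0], [10, 3, 5, 2], [12, 2, 5, 3], [14, 9, 5, 8, 4], [4, 4, 4, 4, 4], [14, 14, 14, 14, 14], [5, 15, 4, 14], [9, 15, 8, 14], [11, 15, 10, 14], [13, 15, 12, 14], [5, 11, 4, 10, 14, 14], [5, 13, 4, 12, 15, 15], [9, 11, 8, 10, 14], [9, 13, 8, 12], [11, 13, 10, 12, 14], [1, 8, 0, 4, 4], [1, 10, 0, 13, 5, 10, 10], [1, 12,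 0, 13, 5, 13, 10, 8, 5], [1, 14, 0, 15, 15], [3, 8, 2, 12, 4, 12, 11, 9], [3, 10, 2, 10, 10, 13, 5, 5], [3, 14, 2, 15], [16, 7, 5, 7, 2, 1, 3, 5, 7, 1, 5, 0, 5, 1, 4, 0, 2, 2], [16, 16], [17, 4, 16, 4, 3, 11, 3], [17, 10, 16, 0, 12, 4, 9, 1, 3, 3], [17, 12, 16, 13, 10, 3, 3], [17, 14, 16, 12, 5, 10, 5], [16, 0, 0, 16, 12, 15, 5, 1, 2, 1, 3, 3, 1], [17, 2, 16, 12, 12, 10, 5], [16, 0, 2, 2, 0, 3, 0, 16, 12, 15, 5, 1, 1], [16, 8, 16, 9, 16, 8, 13, 0, 10, 0, 0, 0], [6, 17, 3, 8, 1, 17, 1, 17, 1, 14, 12, 4, 2, 0, 3, 3, 1], [6, 6, 1, 1, 1, 1], [3, 7, 2, 6], [7, 0, 6, 1, 1, 1], [6, 14, 6, 14, 6, 14, 6, 14, 6, 14], [6, 14, 6, 15, 6, 14, 1, 1]]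

def I1 : List ℕ := [8]

theorem b1 {X : Type*} [Group X] (z : ℕ → X) (hz : ∀ w ∈ K1, wval z w = 1) :
    (gp z [[0], [2], [4], [8], [10], [12], [14]]).relIndex (gp z [[0], [2], [4], [6], [8], [10], [12], [14], [16]]) ≠ 0 ∧
    (gp z [[0], [2], [4], [8], [10], [12], [14]]).relIndex (gp z [[0], [2], [4], [6], [8], [10], [12], [14], [16]]) ≤ 3906 :=
  tc_wrap I1 hz [[0], [1], [2], [3], [4], [5], [6], [7], [8], [9], [10], [11], [12], [13], [14], [15], [16]] TCLy1.bound _ _ (by decide +kernel)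

theorem b2 {X : Type*} [Group X] (z : ℕ → X) (hz : ∀ w ∈ K1, wval z w = 1) :
    (gp z [[0], [2]]).relIndex (gp z [[0], [2], [4], [8], [10], [12], [14]]) ≠ 0 ∧
    (gp z [[0], [2]]).relIndex (gp z [[0], [2], [4], [8], [10], [12], [14]]) ≤ 3125 :=
  tc_wrap I1 hz [[0], [1], [2], [3], [4], [5], [8], [9], [10], [11], [12], [13], [14], [15]] TCLy2.bound _ _ (by decide +kernel)

theorem b3 {X : Type*} [Group X] (z : ℕ → X) (hz : ∀ w ∈ K1, wval z w = 1) :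
    (gp z []).relIndex (gp z [[0], [2]]) ≠ 0 ∧
    (gp z []).relIndex (gp z [[0], [2]]) ≤ 480 :=
  tc_wrap I1 hz [[0], [1], [2], [3]] TCLy3.bound _ _ (by decide +kernel)

theorem card_le {X : Type*} [Group X] (z : ℕ → X) (hz : ∀ w ∈ K1, wval z w = 1) :
    Nat.card (gp z [[0], [2], [4], [6], [8], [10], [12], [14], [16]]) ≠ 0 ∧ Nat.card (gp z [[0], [2], [4], [6], [8], [10], [12], [14], [16]]) ≤ 5859000000 :=
  (card_le_of_relIndex (gp_mono (by decide)) (b1 z hz)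
    (card_le_of_relIndex (gp_mono (by decide)) (b2 z hz)
    (card_le_of_relIndex (gp_mono (by decide)) (b3 z hz)
    (card_gp_nil z))))

end Cfsg.Agent.Lib.LyTC
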