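import Cfsg.Agent.Lib.RepLyC0

set_option autoImplicit false
set_option maxRecDepth 100000
set_option Elab.async false

namespace Cfsg.Agent.Lib.RepLy
open Cfsg.Agent.Lib.Words Cfsg.Agent.Lib.PermNet Cfsg.Agent.Lib.MatRep

theorem hall : RelOn c ms (r0 ++ (r1 ++ (r2 ++ (r3 ++ (r4 ++ (r5 ++ (r6 ++ (r7 ++ (r8 ++ (r9 ++ (r10))))))))))) 0 111 := h0.append (h1.append (h2.append (h3.append (h4.append (h5.append (h6.append (h7.append (h8.append (h9.append (h10))))))))))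

theorem hinv : RelOn c ms (invs 40) 0 111 := hall.mono (by decide +kernel)

/-- The generators (in the order of the constructors of `Spor.Ly.Gen`) as matrices; `f 39` is the value of the word `g0`. -/
noncomputable def f : ℕ → (Matrix (Fin 111) (Fin 111) (ZMod 5))ˣ := gen c ms

/-- The defining relators. -/
def K : List (List ℕ) := [[0, 0, 0, 0, 0, 0, 0, 0],
  [2, 2, 2, 2, 2],
  [0, 2, 0, 2, 0, 2, 0, 2],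
  [1, 1, 3, 0, 0, 2],
  [1, 3, 0, 2, 1, 3, 0, 2, 1, 3, 0, 2],
  [20, 5],
  [22, 1, 5, 0],
  [24, 3, 5, 2],
  [26, 2, 5, 3],
  [28, 23, 21, 22, 20],
  [20, 20, 20, 20, 20],
  [28, 28, 28, 28, 28],
  [21, 29, 20, 28],
  [23, 29, 22, 28],
  [25, 29, 24, 28],
  [27, 29, 26, 28],
  [21, 25, 20, 24, 28, 28],
  [21, 27, 20, 26, 29, 29],
  [23, 25, 22, 24, 28],
  [23, 27, 22, 26],
  [25, 27, 24, 26, 28],
  [1, 22, 0, 20, 20],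
  [1, 24, 0, 27, 21, 24, 24],
  [1, 26, 0, 27, 21, 27, 24, 22, 21],
  [1, 28, 0, 29, 29],
  [3, 22, 2, 26, 20, 26, 25, 23],
  [3, 24, 2, 24, 24, 27, 21, 21],
  [3, 28, 2, 29],
  [10, 7, 21, 7, 2, 1, 3, 21, 7, 1, 21, 0, 21, 1, 20, 0, 2, 2],
  [10, 10],
  [11, 20, 10, 20, 3, 25, 3],
  [11, 24, 10, 0, 26, 20, 23, 1, 3, 3],
  [11, 26, 10, 27, 24, 3, 3],
  [11, 28, 10, 26, 21, 24, 21],
  [10, 0, 0, 10, 26, 29, 21, 1, 2, 1, 3, 3, 1],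
  [11, 2, 10, 26, 26, 24, 21],
  [10, 0, 2, 2, 0, 3, 0, 10, 26, 29, 21, 1, 1],
  [10, 22, 10, 23, 10, 22, 27, 0, 24, 0, 0, 0],
  [6, 11, 3, 22, 1, 11, 1, 11, 1, 28, 26, 20, 2, 0, 3, 3, 1],
  [6, 6, 1, 1, 1, 1],
  [3, 7, 2, 6],
  [7, 0, 6, 1, 1, 1],
  [6, 28, 6, 28, 6, 28, 6, 28, 6, 28],
  [6, 28, 6, 29, 6, 28, 1, 1],
  [12, 1],
  [14, 2, 1, 3],
  [16, 2, 2, 1, 3, 3],
  [18, 3, 3, 1, 2, 2],
  [30, 1, 1],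
  [32, 7],
  [34, 6],
  [36, 3, 5, 0, 3, 3, 4, 7, 4, 0, 5, 1, 4, 3, 3, 0, 2, 0, 3, 3],
  [38, 5, 3, 5, 7, 2, 2, 5, 7, 2, 5, 3, 5, 1, 4, 3, 3, 0, 3, 3, 0, 3, 1],
  [40, 6, 4, 3, 0, 4, 0, 6, 4],
  [42, 7, 3],
  [44, 2, 6],
  [46, 1, 3, 4, 1, 2, 4, 3, 0, 2, 0],
  [48, 3, 5, 3, 0, 5, 1, 2, 2],
  [50, 1, 3, 1, 5, 0, 2, 0],
  [52, 3, 1, 2, 5, 3, 0, 2],
  [54, 4, 2, 2, 5, 1, 3, 5, 2, 0, 3, 3],
  [56, 0, 0, 0],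
  [58, 0, 0, 2, 0, 3],
  [60, 0, 2, 2, 1, 3, 3, 1],
  [62, 2, 1, 3, 1, 2, 1, 4, 0, 2, 4, 3, 6, 4, 3, 0, 4, 2, 7, 0],
  [64, 6, 2, 5, 0, 5, 1, 5, 7, 4, 4, 0, 3, 4, 3, 5, 0, 2, 2, 1],
  [66, 5, 3, 5, 7, 2, 2, 5, 7, 3, 5, 3, 3, 5, 2, 0, 2, 2, 0, 2, 1, 3],
  [68, 2, 0, 3, 1, 3, 3, 1, 3, 4, 2, 2, 4, 2, 6, 4, 3, 3, 6, 4, 2, 4],
  [70, 2, 2, 0, 2, 4, 2, 2, 5, 1, 4, 0, 6, 4, 1, 2, 4, 1, 6, 4, 0],
  [72, 2, 1, 2, 2, 1, 2, 4, 2, 0, 3, 6, 4, 2, 0, 3, 6, 4, 0],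
  [74, 0, 3, 0, 2, 2, 0, 5, 0, 2, 1, 6, 4, 0, 5, 3, 5, 1, 6],
  [76, 3, 0, 2, 0, 2, 5, 1, 5, 0, 5, 6, 4, 3, 5, 0, 4],
  [9, 20, 8, 47],
  [9, 22, 8, 49],
  [9, 24, 8, 51],
  [9, 26, 8, 53],
  [9, 28, 8, 55],
  [9, 12, 8, 57],
  [9, 14, 8, 59],
  [9, 16, 8, 61],
  [8, 8, 31],
  [18, 8, 18, 8, 18, 8, 30],
  [40, 8, 62, 8, 70, 8],
  [9, 34, 9, 72, 8, 32, 8, 38],
  [8, 66, 8, 64, 9, 68, 9, 74],
  [8, 42, 8, 36, 9, 44, 9, 76]]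

theorem rels : ∀ w ∈ K, wval f w = 1 := rels_of hinv (hall.mono (by decide +kernel)) (by decide +kernel)

def g0 : List ℕ := [0, 4, 7, 9]

/-- A word whose value has order 37. -/
def g : List ℕ := rep 1 g0

theorem wval_g0 : wval f g0 = wval f [78] := by
  have := rels_of hinv (hall.mono (ws := [g0 ++ invW [78]]) (by decide +kernel)) (by decide +kernel) _ List.mem_cons_self
  rwa [wval_append, wval_invW, mul_inv_eq_one] at this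

theorem g_pow : wval f g ^ 37 = 1 := by
  rw [g, wval_rep, wval_g0, ← pow_mul, ← wval_rep]
  exact rels_of hinv (hall.mono (ws := [rep (1 * 37) [78]]) (by decide +kernel)) (by decide +kernel) _ List.mem_cons_self

theorem g_ne : wval f g ≠ 1 := by
  rw [g, wval_rep, wval_g0, ← wval_rep]
  exact ne_one ok hinv _ 1 4 (by decide +kernel)

end Cfsg.Agent.Lib.RepLy
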