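import Cfsg.Agent.Lib.LyBase
import Cfsg.Agent.Lib.LyD
import Cfsg.Agent.Lib.LyTC
import Cfsg.Agent.Lib.RepLy

/-! The presented Lyons group: index of the subgroup `G₂(5)`, order and simplicity. -/

set_option autoImplicit false
set_option maxRecDepth 100000

namespace Cfsg.Agent.Lib.LyA

open Cfsg.Agent.Lib.PermNet Cfsg.Agent.Lib.Words Cfsg.Agent.Lib.PermGroup Cfsg.Agent.Lib.LyBase Cfsg.Agent.Lib.DCE

def hw : List (List ℕ) := [[0], [2], [4], [6], [22], [24], [26], [28], [10], [8]]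

def ws : List (List ℕ) := [[0], [2], [4], [6], [18], [16], [0], [2, 0, 3], [2, 2, 0, 3, 3], [3, 3, 0, 2, 2], [4], [8], [10], [12], [14], [0, 0], [6], [7], [2, 2, 1, 3, 1, 2, 2, 5, 0, 4, 1, 5, 6, 5, 2, 2, 1, 4, 2], [0, 2, 1, 2, 2, 1, 2, 2, 5, 0, 4, 2, 4, 3, 6, 4, 3, 3, 6, 4, 2, 4], [5, 7, 1, 5, 1, 2, 5, 7], [2, 6], [7, 3], [1, 3, 1, 2, 5, 3, 0, 5, 2, 0], [3, 3, 0, 4, 1, 2, 4, 2], [1, 3, 1, 4, 0, 2, 0], [3, 1, 2, 4, 3, 0, 2], [2, 2, 1, 3, 4, 2, 0, 4, 3, 3, 5], [1, 1, 1], [2, 1, 3, 1, 1], [0, 2, 2, 0, 3, 3, 1], [1, 6, 3, 5, 1, 2, 5, 7, 2, 5, 3, 1, 5, 0, 3, 0, 2, 0, 3], [0, 3, 3, 1, 4, 2, 5, 2, 1, 5, 5, 6, 4, 0, 4, 1, 4, 3, 7], [2, 0, 3, 1, 3, 3, 1, 3, 4, 2, 2, 4, 2, 6, 4, 3, 3, 6, 4, 2, 4], [5, 3, 5, 7, 2, 2, 5, 7, 3, 5, 3, 3, 5, 2, 0, 2, 2, 0, 2, 1, 3], [1, 5, 7, 0, 5, 3, 0, 5, 7, 1, 5, 0, 4, 3, 3, 5, 3, 1, 3, 3], [1, 5, 7, 2, 1,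 3, 5, 7, 2, 1, 3, 5, 3, 0, 3, 3, 0, 3], [7, 0, 4, 2, 4, 1, 5, 7, 0, 3, 1, 4, 1, 3, 3, 1, 2, 1], [5, 1, 4, 2, 5, 7, 4, 1, 4, 0, 4, 3, 1, 3, 1, 2]]

/-- The generators a, b, c, d, c2, c3, c4, c5, e, z. -/
noncomputable def f (i : ℕ) : Spor.Ly := wval y (hw.getD i [])

theorem hD : ∀ w ∈ defRels 0 (ws.map (subst hw)), wval y w = 1 :=
  deriveP [] hK _ [[],
  [],
  [],
  [],
  [],
  [],
  [([1], 89)],
  [([2, 1, 3], 91)],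
  [([2, 2, 1, 3, 3], 93)],
  [([3, 3, 1, 2, 2], 95)],
  [([5], 11)],
  [],
  [],
  [],
  [],
  [([1, 1], 97)],
  [([7], 99)],
  [([6], 101)],
  [([3, 5, 0, 3, 3, 4, 7, 4, 0, 5, 1, 4, 3, 3, 0, 2, 0, 3, 3], 103)],
  [([5, 3, 5, 7, 2, 2, 5, 7, 2, 5, 3, 5, 1, 4, 3, 3, 0, 3, 3, 0, 3, 1], 105)],
  [([6, 4, 3, 0, 4, 0, 6, 4], 107)],
  [([7, 3], 109)],
  [([2, 6], 111)],
  [([1, 3, 4, 1, 2, 4, 3, 0, 2, 0], 113)],
  [([3, 5, 3, 0, 5, 1, 2, 2], 115)],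
  [([1, 3, 1, 5, 0, 2, 0], 117)],
  [([3, 1, 2, 5, 3, 0, 2], 119)],
  [([4, 2, 2, 5, 1, 3, 5, 2, 0, 3, 3], 121)],
  [([0, 0, 0], 123)],
  [([0, 0, 2, 0, 3], 125)],
  [([0, 2, 2, 1, 3, 3, 1], 127)],
  [([2, 1, 3, 1, 2, 1, 4, 0, 2, 4, 3, 6, 4, 3, 0, 4, 2, 7, 0], 129)],
  [([6, 2, 5, 0, 5, 1, 5, 7, 4, 4, 0, 3, 4, 3, 5, 0, 2, 2, 1], 131)],
  [([5, 3, 5, 7, 2, 2, 5, 7, 3, 5, 3, 3, 5, 2, 0, 2, 2, 0, 2, 1, 3], 133)],
  [([2, 0, 3, 1, 3, 3, 1, 3, 4, 2, 2, 4, 2, 6, 4, 3, 3, 6, 4, 2, 4], 135)],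
  [([2, 2, 0, 2, 4, 2, 2, 5, 1, 4, 0, 6, 4, 1, 2, 4, 1, 6, 4, 0], 137)],
  [([2, 1, 2, 2, 1, 2, 4, 2, 0, 3, 6, 4, 2, 0, 3, 6, 4, 0], 139)],
  [([0, 3, 0, 2, 2, 0, 5, 0, 2, 1, 6, 4, 0, 5, 3, 5, 1, 6], 141)],
  [([3, 0, 2, 0, 2, 5, 1, 5, 0, 5, 6, 4, 3, 5, 0, 4], 143)]] (by decide +kernel)

theorem hK2 : ∀ w ∈ (K ++ defRels 0 (ws.map (subst hw))).map (subst (ws.map (subst hw))),
    wval y w = 1 := rels_subst [] _ (all_append hK hD) (by decide +kernel)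

theorem hKf : ∀ w ∈ LyD.K1 ++ LyD.RR, wval f w = 1 :=
  rels_of_subst hw _ (deriveP [] hK2 _ [[([], 0)],
  [([], 2)],
  [([], 4)],
  [([], 6)],
  [([], 8)],
  [([], 12)],
  [([], 14)],
  [([], 16)],
  [([], 18)],
  [([], 20)],
  [([], 22)],
  [([], 24)],
  [([], 26)],
  [([], 28)],
  [([], 30)],
  [([], 32)],
  [([], 34)],
  [([], 36)],
  [([], 38)],
  [([], 40)],
  [([], 42)],
  [([], 44)],
  [([], 46)],
  [([], 48)],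
  [([], 50)],
  [([], 52)],
  [([], 54)],
  [([], 56)],
  [([], 58)],
  [([], 60)],
  [([], 62)],
  [([], 64)],
  [([], 66)],
  [([], 68)],
  [([], 70)],
  [([], 72)],
  [([], 74)],
  [([], 76)],
  [([], 78)],
  [([], 80)],
  [([], 82)],
  [([], 84)],
  [([], 86)],
  [([8], 144)],
  [([8], 146)],
  [([8], 148)],
  [([8], 150)],
  [([8], 152)],
  [([8], 154)],
  [([8], 156)],
  [([8], 158)],
  [([9], 160)],
  [([], 162)],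
  [([], 164)],
  [([], 166)],
  [([], 168)],
  [([], 170)]] (by decide +kernel))

theorem htop : gp f (sing 10) = ⊤ :=
  top_of_defs (n := 39) (gp_top (by decide +kernel)) hD hw ws 10 (by decide +kernel)

theorem hK1 : ∀ w ∈ LyTC.K1, wval f w = 1 := fun w h => hKf w (List.mem_append_left _ h)

theorem hub : Nat.card (WW f LyD.nets 9) ≠ 0 ∧ Nat.card (WW f LyD.nets 9) ≤ 5859000000 :=
  LyTC.card_le _ (rels_pair hK1 LyD.hK1)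

theorem gp_eq : gp f (sing 9) = gp y [[0], [2], [4], [6]] := by
  rw [show f = fun i => wval y (hw.getD i []) from rfl, gp_subst]
  exact le_antisymm (gp_le.2 (mem_of_slp (deriveP [] hK2 [[23, 1, 4, 0], [25, 3, 4, 2], [27, 2, 4, 3], [29, 5, 23, 4, 22], [11, 3, 3, 1, 5, 0, 4, 1, 4, 0, 6, 4, 2, 0, 3, 6, 4, 6]]
    [[([1, 5, 0], 13)],
  [([3, 5, 2], 15)],
  [([2, 5, 3], 17)],
  [([23, 5, 22, 4], 19)],
  [([7, 5, 7, 2, 1, 3, 5, 7, 1, 5, 0, 5, 1, 4, 0, 2, 2], 57)]] (by decide +kernel)) _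
    [(11, [1, 4, 0]), (12, [3, 4, 2]), (13, [2, 4, 3]), (14, [5, 9, 4, 8]), (5, [3, 3, 1, 5, 0, 4, 1, 4, 0, 6, 4, 2, 0, 3, 6, 4, 6])] _ le_rfl (by decide +kernel)))
    (gp_mono (by decide +kernel))

theorem g_pow : wval RepLy.f RepLy.g ^ 37 = 1 := RepLy.g_pow

theorem g_ne : wval RepLy.f RepLy.g ≠ 1 := RepLy.g_ne

theorem exists_phi : ∃ φ : Spor.Ly →* _, ∀ i < 39, φ (y i) = RepLy.f i :=
  exists_hom RepLy.f (derive [] RepLy.rels K (by decide +kernel))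

noncomputable def phi := exists_phi.choose

theorem phi_wval (w : List ℕ) (hw : w.all (fun l => decide (l < 2 * 39)) = true) :
    phi (wval y w) = wval RepLy.f w := by
  rw [map_wval]; exact wval_congr exists_phi.choose_spec (by simpa using hw)

theorem g_eq : wval f [0, 4, 7, 19] = wval y RepLy.g := by
  rw [show f = fun i => wval y (hw.getD i []) from rfl, ← wval_subst]; congr 1

theorem main : (gp f (sing 9)).index = 8835156 ∧ Nat.card (gp f (sing 9)) = 5859000000 ∧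
    Nat.card Spor.Ly = 8835156 * 5859000000 ∧ Function.Injective phi ∧
    (∀ w : List ℕ, w.all (fun l => decide (l < 2 * 9)) = true → wval LyD.nets.perm w = 1 →
      wval f w = 1) ∧
    ((∀ M : Subgroup Spor.Ly, M.Normal → wval f [0, 4, 7, 19] ∈ M → gp f (sing 9) ≤ M) →
      IsSimpleGroup Spor.Ly) :=
  LyD.ok.final f (fun w h => hKf w (List.mem_append_right _ h)) htop hub phi _ (q := 37)
    (by norm_num) (by decide) (by decide) (by rw [g_eq, phi_wval _ (by decide +kernel)]; exact g_pow)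
    (by rw [g_eq, phi_wval _ (by decide +kernel)]; exact g_ne)

theorem hX : ∀ w ∈ LyD.X, wval f w = 1 := fun w h =>
  main.2.2.2.2.1 w (List.all_eq_true.1 (by decide +kernel :
    LyD.X.all (fun w => w.all (fun l => decide (l < 2 * 9))) = true) w h) (LyD.hX w h)

theorem simple : IsSimpleGroup Spor.Ly :=
  main.2.2.2.2.2 (le_of_kill (all_append hKf hX) 9 _ [0, 4, 7] [18, 1, 1, 18] [8] [([6, 5, 1], 0)]
    [([0, 4, 7, 1, 4, 7], [0], 7, 8), ([0], [2], 4, 5), ([0, 0], [4], 4, 5), ([1, 5, 0], [8], 1, 5), ([3, 5, 2], [10], 1, 5), ([2, 5, 3], [12], 1, 5), ([8, 5, 12], [6], 3, 4), ([0, 0], [14], 4, 5), ([9, 6, 6], [16], 3, 2)]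
    (by decide +kernel))

theorem card_eq : Nat.card Spor.Ly = 51765179004000000 := main.2.2.1

end Cfsg.Agent.Lib.LyA
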