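import Cfsg.Agent.Lib.LyBDN0
import Cfsg.Agent.Lib.LyBDN7
import Cfsg.Agent.Lib.LyBDN14
import Cfsg.Agent.Lib.LyBDN21
import Cfsg.Agent.Lib.LyBDN28
import Cfsg.Agent.Lib.LyBDN35

set_option autoImplicit false
set_option maxRecDepth 100000

namespace Cfsg.Agent.Lib.LyBD
open Cfsg.Agent.Lib.PermNet

noncomputable def nets : NL := (.cons net0 (.cons net1 (.cons net2 (.cons net3 (.cons net4 (.cons net5 (.cons net6 (.cons net7 (.cons net8 (.cons net9 (.cons net10 (.cons net11 (.cons net12 (.cons net13 (.cons net14 (.cons net15 (.cons net16 (.cons net17 (.cons net18 (.cons net19 (.cons net20 (.cons net21 (.cons net22 (.cons net23 (.cons net24 (.cons net25 (.cons net26 (.cons net27 (.cons net28 (.cons net29 (.cons net30 (.cons net31 (.cons net32 (.cons net33 (.cons net34 (.cons net35 .nil))))))))))))))))))))))))))))))))))))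

theorem hv : nets.Valid 82500 := ⟨valid0, ⟨valid1, ⟨valid2, ⟨valid3, ⟨valid4, ⟨valid5, ⟨valid6, ⟨valid7, ⟨valid8, ⟨valid9, ⟨valid10, ⟨valid11, ⟨valid12, ⟨valid13, ⟨valid14, ⟨valid15, ⟨valid16, ⟨valid17, ⟨valid18, ⟨valid19, ⟨valid20, ⟨valid21, ⟨valid22, ⟨valid23, ⟨valid24, ⟨valid25, ⟨valid26, ⟨valid27, ⟨valid28, ⟨valid29, ⟨valid30, ⟨valid31, ⟨valid32, ⟨valid33, ⟨valid34, ⟨valid35, trivial⟩⟩⟩⟩⟩⟩⟩⟩⟩⟩⟩⟩⟩⟩⟩⟩⟩⟩⟩⟩⟩⟩⟩⟩⟩⟩⟩⟩⟩⟩⟩⟩⟩⟩⟩⟩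

def rels0 : List (List Nat × List Nat) := [([0, 0], [1]),
  ([2, 2], [3]),
  ([4, 4], [5]),
  ([6, 6], [7]),
  ([8, 8], [9]),
  ([10, 10], [11]),
  ([0, 3, 0], [3, 0, 3]),
  ([0, 5, 0], [5, 0, 5]),
  ([0, 3, 0, 4], [5, 0, 3, 0]),
  ([0, 7, 0], [7, 0, 7]),
  ([4, 7, 4], [7, 4, 7]),
  ([0, 3, 0, 6], [7, 0, 3, 0]),
  ([0, 9, 0], [9, 0, 9]),
  ([4, 9, 4], [9, 4, 9]),
  ([6, 9, 6], [9, 6, 9]),
  ([0, 3, 0, 8], [9, 0, 3, 0]),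
  ([0, 11, 0], [11, 0, 11]),
  ([4, 11, 4], [11, 4, 11]),
  ([6, 11, 6], [11, 6, 11]),
  ([8, 11, 8], [11, 8, 11]),
  ([0, 3, 0, 10], [11, 0, 3, 0]),
  ([12, 12], [13]),
  ([12, 0], [0, 12]),
  ([12, 2], [2, 12]),
  ([12, 4], [4, 12]),
  ([12, 6], [6, 12]),
  ([12, 8], [8, 12]),
  ([12, 10], [10, 12]),
  ([14], [15]),
  ([14, 12], [13, 15]),
  ([14, 0, 14], [8, 0, 9]),
  ([14, 2, 14, 9], [9, 5, 0, 4]),
  ([14, 4, 14, 9], [9, 3, 0, 2]),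
  ([14, 6, 14, 9], [9, 7, 0, 6]),
  ([14, 8, 14], [9, 1, 8]),
  ([14, 10, 14, 10], [10, 8, 0, 9]),
  ([14, 16], [16, 14])]
def rels1 : List (List Nat × List Nat) := [([2, 0, 11, 7, 4, 9, 4, 0, 2, 16], [16, 2, 0, 11, 7, 4, 9, 4, 0, 2]),
  ([9, 1, 4, 2, 16, 13], [16, 3, 5, 0, 8, 12]),
  ([12, 16], [16, 12]),
  ([16], [17]),
  ([16, 1, 9, 6, 11, 6, 2, 5, 2, 16, 1, 9, 6, 11], [3, 4, 3, 7, 10, 7, 8, 0, 17, 3, 4, 3, 7]),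
  ([16, 3, 0, 11, 6, 9, 6, 4, 0, 16, 3, 0, 11, 6], [1, 5, 7, 8, 7, 10, 1, 2, 17, 1, 5, 7, 8]),
  ([19, 6, 14, 1], []),
  ([21, 8, 16, 9], []),
  ([23, 1, 6, 16, 6], []),
  ([25, 19, 21, 22, 18, 22], []),
  ([27, 21, 19, 22, 22, 20, 22], []),
  ([29, 24, 24, 26, 26, 26, 25], []),
  ([31, 26, 25, 27, 24, 27, 27], []),
  ([33, 28, 30, 28, 31], []),
  ([35, 29, 30, 28, 31, 29], []),
  ([37, 6, 11, 16, 3, 16, 0, 2, 0, 2, 17, 2, 17, 10, 7], []),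
  ([39, 11, 16, 11, 0, 16, 0, 2, 0, 2, 17, 1, 10, 17, 10], []),
  ([41, 2, 5, 2], []),
  ([43, 8, 0, 12, 14], []),
  ([45, 1, 8, 11, 2, 7, 14], []),
  ([47, 8, 11, 2, 7, 14], []),
  ([49, 12], []),
  ([51, 0], []),
  ([53, 45, 40, 44, 36], [])]
def rels2 : List (List Nat × List Nat) := [([55, 47, 42, 46, 38], []),
  ([57, 40, 45, 37, 40, 44, 44], []),
  ([59, 42, 47, 39, 42, 46, 46], []),
  ([61, 44, 41, 44, 44, 44, 44, 36], []),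
  ([63, 46, 43, 46, 46, 46, 46, 38], []),
  ([65, 52, 60, 56, 56, 53], []),
  ([67, 54, 62, 58, 58, 55], []),
  ([69, 56, 60, 60, 57], []),
  ([71, 58, 62, 62, 59], [])]
def rels : List (List Nat × List Nat) := ((rels0 ++ rels1) ++ rels2)

def defs : List (List Nat) := [[6, 14, 1], [8, 16, 9], [1, 6, 16, 6], [19, 21, 22, 18, 22], [21, 19, 22, 22, 20, 22], [24, 24, 26, 26, 26, 25], [26, 25, 27, 24, 27, 27], [28, 30, 28, 31], [29, 30, 28, 31, 29], [6, 11, 16, 3, 16, 0, 2, 0, 2, 17, 2, 17, 10, 7], [11, 16, 11, 0, 16, 0, 2, 0, 2, 17, 1, 10, 17, 10], [2, 5, 2], [8, 0, 12, 14], [1, 8, 11, 2, 7, 14], [8, 11, 2, 7, 14], [12], [0], [45, 40, 44, 36], [47, 42, 46, 38], [40, 45, 37, 40, 44, 44], [42, 47, 39, 42, 46, 46], [44, 41, 44, 44, 44, 44, 36], [46, 43, 46, 46, 46, 46, 38], [52, 60, 56, 56, 53], [54, 62, 58, 58, 55],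 [56, 60, 60, 57], [58, 62, 62, 59]]

end Cfsg.Agent.Lib.LyBD
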