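import Cfsg.Agent.Lib.DCETab
import Cfsg.Agent.Lib.LyBDR
import Cfsg.Agent.Lib.LyBDT
import Cfsg.Agent.Lib.LyBDF
import Cfsg.Agent.Lib.LyBDM

set_option autoImplicit false
set_option maxRecDepth 100000

namespace Cfsg.Agent.Lib.LyBD
open Cfsg.Agent.Lib.PermNet Cfsg.Agent.Lib.DCE

theorem tab60 : allR (tabB nets (nat_lit 82500) (nat_lit 17) (nat_lit 67100) (nat_lit 17) (nat_lit 17) (nat_lit 131071) tH) (nat_lit 60) (nat_lit 2) = true :=
  tab_of_tabD (by decide +kernel) (by decide +kernel)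

theorem tab62 : allR (tabB nets (nat_lit 82500) (nat_lit 17) (nat_lit 67100) (nat_lit 17) (nat_lit 17) (nat_lit 131071) tH) (nat_lit 62) (nat_lit 2) = true :=
  tab_of_tabD (by decide +kernel) (by decide +kernel)

theorem tab64 : allR (tabB nets (nat_lit 82500) (nat_lit 17) (nat_lit 67100) (nat_lit 17) (nat_lit 17) (nat_lit 131071) tH) (nat_lit 64) (nat_lit 2) = true :=
  tab_of_tabD (by decide +kernel) (by decide +kernel)

theorem tab66 : allR (tabB nets (nat_lit 82500) (nat_lit 17) (nat_lit 67100) (nat_lit 17) (nat_lit 17) (nat_lit 131071) tH) (nat_lit 66) (nat_lit 2) = true :=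
  tab_of_tabD (by decide +kernel) (by decide +kernel)

theorem tab68 : allR (tabB nets (nat_lit 82500) (nat_lit 17) (nat_lit 67100) (nat_lit 17) (nat_lit 17) (nat_lit 131071) tH) (nat_lit 68) (nat_lit 2) = true :=
  tab_of_tabD (by decide +kernel) (by decide +kernel)

theorem tab70 : allR (tabB nets (nat_lit 82500) (nat_lit 17) (nat_lit 67100) (nat_lit 17) (nat_lit 17) (nat_lit 131071) tH) (nat_lit 70) (nat_lit 2) = true :=
  tab_of_tabD (by decide +kernel) (by decide +kernel)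

def lH0 : Lev := ⟨[[0], [2], [4], [6], [8], [10], [14], [16], [12]], 66825, [(66825, 0), (66825, 1), (66825, 2), (66825, 3), (66825, 4), (66825, 5), (66825, 6), (66825, 7), (66863, 0), (66863, 1), (66863, 2), (66863, 3), (66863, 4), (66863, 5), (66863, 7), (66972, 0), (66972, 1), (66972, 2), (66972, 3), (66972, 4), (66972, 5), (66972, 6), (66972, 7), (67088, 0), (67088, 1), (67088, 2), (67088, 3), (67088, 6), (67088, 7), (66950, 0), (66950, 1), (66950, 3), (66950, 4), (66950, 5), (66950, 7), (66855, 0), (66855, 2), (66855, 3), (66855, 4), (66855, 6), (66889, 2), (66889, 3), (66889, 4), (66889, 5), (66889, 6), (66889, 7), (66916, 0), (66916, 1), (66916, 2), (66916, 3), (66916, 5), (66916, 7), (66947, 1), (66947, 2), (66947, 4), (66947, 5), (67050, 1), (67050, 2), (67050, 3), (67050, 4), (67050, 5), (67050, 6), (67050, 7), (66902, 0), (66902, 1), (66902, 2), (66902, 3), (66902, 4), (66902, 5), (66902,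 6), (66902, 7), (66948, 0), (66948, 2), (66948, 3), (66948, 5), (66948, 6), (66959, 0), (66959, 1), (66959, 3), (66959, 4), (66959, 6), (66959, 7), (67002, 2), (67002, 3), (67002, 4), (67002, 5), (67002, 6), (67002, 7), (66877, 0), (66877, 1), (66877, 3), (66877, 5), (66877, 7), (66869, 1), (66869, 4), (66869, 5), (67054, 0), (67054, 1), (67054, 5), (66871, 0), (66871, 5), (66871, 6), (66871, 7), (66946, 0), (66946, 2), (66946, 3), (66946, 7), (67005, 0), (67005, 3), (67005, 7), (66868, 2), (66868, 4), (66868, 5), (66868, 6), (67097, 5), (67097, 7), (66937, 0), (66937, 1), (66937, 2), (66937, 4), (66937, 5), (66998, 0), (66998, 2), (66998, 3), (66998, 4), (66998, 5), (66930, 0), (66930, 1), (66930, 3), (66930, 7), (66961, 6), (66961, 7), (66919, 1), (66919, 5), (66919, 7), (66921, 0), (66921, 1), (66921, 3), (66921, 5), (66921, 6), (66921, 7), (66870, 2), (66870, 7), (67072, 2), (67072, 4), (67016, 0),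 (67016, 1), (67016, 2), (67016, 5), (67016, 6), (66956, 0), (66956, 2), (66999, 0), (66999, 6), (67047, 1), (67047, 4), (66844, 2), (66837, 1), (66837, 2), (66850, 1), (66850, 5), (66864, 1), (66864, 3), (66864, 5), (66986, 5), (66989, 2), (66853, 0), (66853, 5), (66838, 1), (66838, 3), (67038, 0), (67038, 6), (66904, 0), (66904, 2), (66904, 6), (66953, 6), (66953, 7), (66862, 7), (67022, 2), (67022, 5), (66965, 0), (66965, 5), (66965, 6), (66965, 7), (67049, 1), (67049, 6), (66860, 1), (66860, 2), (66860, 3), (66860, 5), (67066, 0), (67066, 3), (67066, 6), (66901, 1), (66901, 3), (66901, 5), (66908, 1), (66908, 4), (67021, 0), (67021, 5), (67055, 0), (67055, 2), (67077, 0), (67077, 4), (67077, 7), (67081, 3), (67081, 6), (67073, 0), (67073, 1), (66861, 6), (67008, 2), (66927, 5), (67011, 2), (67011, 3), (66900, 0), (66900, 6), (66900, 7), (67037, 6), (66847, 5), (66847, 7), (66958, 4), (66958, 7), (66993,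 2), (66993, 3), (66845, 0), (66845, 5), (66845, 6), (66845, 7), (67043, 1), (67043, 3), (67043, 7), (67083, 0), (67083, 5), (67086, 7), (66888, 4), (67074, 2), (67074, 5), (67074, 7), (66897, 5), (66841, 0), (66936, 4), (67034, 7), (66920, 1), (67080, 2), (66873, 1), (66992, 7), (66906, 5), (66964, 7), (66834, 0), (66834, 1), (67033, 6), (67040, 2), (66926, 0), (66926, 2), (66896, 7), (66831, 3), (66974, 7), (66828, 7), (67099, 7), (67041, 1), (67041, 2), (66881, 7), (66945, 7), (66929, 0), (66929, 1), (66960, 7), (67025, 7), (66983, 7), (66910, 7), (66857, 7), (66849, 2), (66849, 5), (66941, 2), (67059, 5)], 275⟩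

def lH1 : Lev := ⟨[[18], [20], [22], [12]], 66826, [(66826, 0), (66826, 1), (66826, 2), (66996, 1), (66996, 2), (66912, 0), (66912, 2), (67060, 0), (67060, 1), (67060, 2), (67022, 0), (67022, 2), (66947, 0), (66947, 1), (66947, 2), (66842, 1), (66842, 2), (66878, 0), (66878, 2), (66840, 2), (67058, 0), (67058, 2), (67069, 1), (66901, 1), (66901, 2), (66991, 1), (66991, 2), (66844, 2), (67087, 0), (67087, 2), (66924, 0), (66924, 1), (66924, 2), (66963, 0), (66963, 2), (66900, 0), (66959, 1), (66959, 2), (67072, 0), (67072, 2), (66949, 2), (66828, 1), (66828, 2), (67085, 0), (67085, 1), (67085, 2), (67049, 0), (67049, 2), (66961, 0), (66961, 2), (66888, 0), (66888, 2), (67019, 0), (66945, 0), (66945, 1), (66945, 2), (66940, 0), (66940, 1), (66940, 2), (66946, 1), (66946, 2), (67073, 0), (67073, 1), (67073, 2), (67005, 1), (66920, 0), (67002, 1), (67002, 2), (67033, 0), (67033, 2), (66831, 2), (66830, 2),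 (66975, 1), (67062, 1), (67062, 2), (67063, 0), (66857, 1), (66958, 0), (66848, 0), (66848, 1), (66848, 2), (66849, 0), (66849, 2), (66973, 0), (66973, 1), (66973, 2), (67093, 2), (67070, 1), (67070, 2), (67032, 1), (67032, 2), (66967, 0), (66967, 1), (66897, 1), (66897, 2), (66902, 1), (66902, 2), (66850, 2), (67091, 0), (67091, 1), (67091, 2), (66932, 1), (66932, 2), (66883, 0), (66883, 2), (66837, 1), (66837, 2), (67047, 1), (67086, 1), (67075, 2), (66921, 1), (66921, 2), (66998, 0), (66998, 2), (67046, 0), (66846, 2), (66882, 0), (66882, 1), (66882, 2), (66906, 2), (67084, 0), (67084, 1), (67084, 2), (66983, 0), (66983, 2), (67077, 0), (66898, 2), (67098, 1), (67098, 2), (67082, 2), (66929, 2), (66939, 2), (67017, 1), (67017, 2), (67030, 1), (67030, 2), (67034, 2), (67076, 0), (67076, 2), (67038, 2), (67099, 2), (66982, 1), (66936, 1), (66845, 0), (67014, 0), (67071, 2), (66881, 2), (66954, 0), (67083,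 0), (67083, 1), (67064, 1), (67059, 2), (66904, 2), (66841, 2), (66969, 0), (67023, 2), (66829, 0), (67031, 2), (67008, 0), (66843, 2), (66853, 2)], 162⟩

def lH2 : Lev := ⟨[[24], [26], [12]], 66828, [(66828, 0), (66828, 1), (66945, 0), (66945, 1), (66948, 0), (66948, 1), (67070, 0), (67070, 1), (67097, 0), (67097, 1), (66961, 0), (66961, 1), (67048, 0), (67048, 1), (67072, 0), (67072, 1), (67024, 0), (67024, 1), (66963, 0), (67054, 0), (67054, 1), (66882, 0), (66882, 1), (67071, 0), (67071, 1), (66864, 0), (66864, 1), (66975, 1), (67049, 1), (66924, 0), (66924, 1), (66966, 0), (66966, 1), (67081, 0), (67081, 1), (66895, 0), (66895, 1), (66906, 0), (66845, 0), (66845, 1), (67094, 0), (67094, 1), (67061, 0), (67061, 1), (66949, 1), (67056, 0), (67056, 1), (66841, 1), (66978, 0), (66844, 1), (67052, 0), (67052, 1), (66965, 0), (66965, 1), (66849, 0), (66849, 1), (66840, 0), (66840, 1), (66829, 1), (67095,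 0), (67095, 1), (67058, 0), (67058, 1), (66876, 0), (66883, 1), (67030, 0), (66846, 0), (66901, 0), (66853, 0), (66931, 0), (66830, 0), (67078, 0), (66843, 0), (66843, 1), (67011, 0), (66839, 1), (66878, 1), (67013, 1), (67099, 0), (67060, 0), (67060, 1), (66936, 0), (67001, 0), (67008, 0), (67008, 1), (66967, 0), (67017, 0), (67017, 1), (66837, 1), (67090, 1), (66940, 0), (66940, 1), (67063, 1), (66933, 0), (66998, 0), (67002, 1), (66990, 0), (67019, 1), (67076, 0), (67003, 0), (67016, 0), (67016, 1), (66988, 0), (66927, 0)], 105⟩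

def lH3 : Lev := ⟨[[28], [30], [12]], 66829, [(66829, 0), (66829, 1), (66936, 0), (66936, 1), (67048, 0), (67048, 1), (66981, 0), (67090, 1), (67091, 0), (67091, 1), (67012, 0), (66940, 0), (66940, 1), (66844, 0), (66933, 0), (66933, 1), (66983, 0), (67056, 0), (67081, 0), (67081, 1), (67013, 0), (67013, 1), (67076, 0), (67076, 1), (66830, 0), (66830, 1), (67008, 0), (67008, 1), (67022, 0), (67022, 1), (67063, 0), (66912, 0), (66912, 1), (66837, 0), (66837, 1), (66850, 1), (66841, 0), (66901, 0), (66901, 1), (67052, 0), (66966, 0), (67024, 0), (67024, 1), (66846, 0), (66846, 1), (66843, 0), (66958, 1), (66962, 1), (67085, 0), (67003, 1), (66965, 0), (67030, 0), (67029, 0), (67099, 0), (67099, 1), (67017, 0), (67007, 0), (67007, 1), (67094, 0), (66845, 1), (66832, 1), (66840, 0), (66927, 0)], 64⟩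

def lH4 : Lev := ⟨[[32], [34], [12]], 66827, [(66827, 0), (66827, 1), (66968, 0), (66968, 1), (66877, 0)], 6⟩

def lH5 : Lev := ⟨[[12]], 0, [(0, 0), (2, 0)], 3⟩

def chH : List Lev := [lH0, lH1, lH2, lH3, lH4, lH5]

theorem cH : chainB (nat_lit 17) (nat_lit 131071) tH (nat_lit 67100) chH [] = true := by decide +kernel

def lK0 : Lev := ⟨[[0], [2], [4], [6]], 66825, [(66825, 0), (66825, 1), (66825, 2), (66946, 1), (66946, 2), (66847, 0), (66847, 1), (66847, 2), (66959, 1), (66959, 2), (66882, 0), (66882, 1), (66882, 2), (67052, 0), (67052, 1), (67052, 2), (66888, 1), (66888, 2), (67003, 0), (67003, 2), (67026, 0), (67026, 1), (67026, 2), (66899, 0), (66899, 2), (67062, 0), (67062, 1), (67062, 2), (66896, 2), (66982, 0), (66982, 1), (66982, 2), (66908, 0), (66908, 1), (66908, 2), (67093, 1), (67093, 2), (66890, 2), (67079, 0), (67079, 1), (67079, 2), (66974, 1), (66975, 0), (66975, 1), (66975, 2), (66958,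 1), (66958, 2), (67098, 0), (67098, 1), (67098, 2), (67058, 1), (67058, 2), (67056, 2), (67072, 1), (67014, 1), (67014, 2), (66937, 0), (66937, 1), (66937, 2), (67048, 2), (66968, 0), (66968, 2), (67005, 1), (67005, 2), (67031, 0), (67031, 1), (67031, 2), (66924, 1), (66924, 2), (66961, 2), (66832, 1), (66832, 2), (66932, 1), (66932, 2), (67092, 0), (67092, 2), (66950, 1), (66994, 0), (66994, 1), (66846, 0), (66846, 1), (66846, 2), (67037, 0), (67037, 2), (66910, 1), (66910, 2), (67055, 0), (67055, 2), (66859, 1), (66859, 2), (66833, 1), (66833, 2), (66830, 1), (66830, 2), (66925, 0), (66936, 0), (66936, 1), (66936, 2), (66895, 0), (66895, 2), (67078, 0), (67078, 1), (66926, 1), (66926, 2), (67004, 2), (66987, 0), (66987, 1), (66987, 2), (67016, 1), (67016, 2), (67073, 0), (67073, 1), (66913, 2), (66858, 1), (66858, 2), (66843, 2), (67088, 0), (67088, 2), (66907, 1), (66907, 2), (66984, 0), (66984, 1),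 (66984, 2), (67068, 2), (66935, 1), (66935, 2), (66914, 0), (66965, 0), (66965, 1), (66965, 2), (67082, 1), (67082, 2), (67087, 0), (67087, 2), (66989, 1), (66989, 2), (66889, 2), (66884, 1), (67075, 0), (67075, 1), (67075, 2), (67071, 2), (66874, 1), (67002, 0), (67002, 1), (67002, 2), (66869, 2), (67019, 0), (67019, 1), (67019, 2), (66964, 2), (67059, 2), (66947, 1), (66930, 2), (66956, 0), (66956, 2), (66887, 0), (66887, 2), (66868, 1), (66868, 2), (67099, 1), (66837, 2), (66973, 1), (66967, 0), (66967, 2), (67001, 0), (67001, 1), (67001, 2), (66881, 0), (67090, 2), (67067, 2), (66962, 0), (66962, 2), (66860, 1), (66985, 0), (66985, 1), (66870, 1), (66870, 2), (67020, 0), (67020, 2), (67057, 2), (66981, 2), (66993, 1), (66993, 2), (67054, 0), (67054, 2), (67033, 0), (66875, 0), (66894, 2), (66991, 1), (66866, 2), (67064, 0), (66839, 2), (67024, 2), (66940, 2), (67066, 2), (66922, 1), (66922, 2), (67006,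 0), (67006, 2), (66855, 0), (66855, 1), (67060, 2), (66904, 0), (66904, 2), (67061, 0), (66928, 1), (66928, 2), (67063, 2), (67081, 1), (67081, 2), (66845, 2), (66871, 2), (67042, 2), (67023, 0), (67023, 1), (66983, 0), (66983, 1), (66955, 1), (67094, 0), (67096, 0), (67096, 2), (66892, 0), (67029, 2), (66906, 2), (66838, 1), (66966, 2), (66903, 2), (67044, 0), (67084, 1), (66971, 1), (67025, 2), (66876, 0), (66915, 2), (66900, 2), (66919, 2), (67040, 2), (66880, 2), (66916, 0), (66916, 2), (66979, 2), (66848, 1), (66891, 0), (67000, 0), (67011, 2), (67053, 1), (67091, 2), (66921, 2), (67049, 2), (66988, 2), (67035, 2), (66938, 1), (66851, 2), (66829, 2), (67008, 0), (67008, 1), (66995, 2), (66865, 2), (66844, 2), (66878, 2), (66850, 2), (66852, 0), (66852, 1), (66931, 2), (67047, 1), (67015, 2), (66986, 1), (67050, 2), (67077, 1)], 270⟩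

def lK1 : Lev := ⟨[[8], [10], [12], [6]], 66826, [(66826, 0), (66826, 1), (66826, 2), (66936, 0), (66936, 1), (66936, 2), (66865, 1), (66865, 2), (66876, 0), (66876, 1), (66876, 2), (66845, 0), (66845, 1), (66845, 2), (66867, 0), (66867, 1), (66867, 2), (67040, 0), (67040, 1), (67040, 2), (67031, 0), (67031, 1), (67031, 2), (66878, 0), (66961, 0), (66961, 1), (66961, 2), (67054, 0), (67054, 1), (67054, 2), (67063, 0), (67063, 1), (67063, 2), (67002, 1), (67002, 2), (66944, 0), (66944, 1), (66944, 2), (66965, 0), (66965, 2), (66916, 0), (66916, 1), (66916, 2), (66832, 0), (66832, 1), (66832, 2), (67072, 0), (67072, 1), (67072, 2), (67061, 1), (67059, 0), (66909, 0), (66909, 1), (66909, 2), (66959, 0), (66959, 1), (66959, 2), (66967, 0), (66967, 1), (66967, 2), (67095, 1), (66983, 0), (66900, 1), (67098, 1), (67009, 1), (66945, 1), (66945, 2), (67073, 2), (67082, 0), (67082, 2), (67016, 0), (67016, 2),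 (67011, 0), (67011, 1), (67011, 2), (66864, 0), (66864, 1), (66897, 0), (67008, 0), (67008, 1), (67008, 2), (66830, 0), (66830, 2), (67033, 0), (67033, 1), (67033, 2), (66888, 1), (66852, 1), (66841, 0), (66853, 0), (67020, 1), (66991, 2), (67046, 1), (67046, 2), (67022, 2), (67028, 2), (66997, 1), (67007, 2), (66939, 1), (66978, 2), (66964, 0), (67069, 1), (67047, 1), (67047, 2), (67065, 0), (67070, 0), (66977, 1)], 108⟩

def lK2 : Lev := ⟨[[14], [16], [6]], 66828, [(66828, 0), (66828, 1), (67007, 1)], 4⟩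

def lK3 : Lev := ⟨[[6]], 66829, [], 1⟩

def lK4 : Lev := ⟨[[6]], 66827, [], 1⟩

def lK5 : Lev := ⟨[[6]], 0, [(0, 0), (2, 0)], 3⟩

def chK : List Lev := [lK0, lK1, lK2, lK3, lK4, lK5]

theorem cK : chainB (nat_lit 17) (nat_lit 131071) tK (nat_lit 67100) chK [] = true := by decide +kernel

def d0 : List Der := [.base,
  .base,
  .base,
  .base,
  .base,
  .base,
  .base,
  .base,
  .base,
  .dfn,
  .tm 1 [] [] [⟨9, [], []⟩],
  .tm 0 [] [] [⟨9, [], [0]⟩, ⟨9, [14, 11, 13, 10, 1, 3, 5, 1, 4, 2], []⟩],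
  .tm 0 [] [] [⟨9, [], [12]⟩, ⟨9, [7], []⟩],
  .tm 0 [] [] [⟨9, [], [9, 14]⟩, ⟨9, [6, 14, 9, 9, 13, 11, 3, 3, 1, 3], []⟩],
  .tm 0 [] [] [⟨9, [], [5, 14, 2]⟩, ⟨9, [15, 9, 13, 11, 11, 4, 3, 1], []⟩],
  .tm 0 [] [] [⟨9, [], [3, 6, 3]⟩, ⟨9, [6, 13, 9, 13, 2, 4, 1, 5, 3], []⟩],
  .tm 0 [] [] [⟨9, [], [3, 10, 3]⟩, ⟨9, [6, 17, 9, 10, 13, 3, 4, 1, 4], []⟩],
  .tm 0 [] [] [⟨9, [], [17, 10, 16]⟩, ⟨9, [17, 12, 11, 3, 4, 1, 5], []⟩],
  .tm 2 [5, 0, 5, 2, 0, 11, 9, 11, 9, 15, 6] [] [⟨9, [0, 4, 4, 2, 5], [4, 16, 14, 5]⟩, ⟨9, [5, 2, 5, 5, 2, 10, 10, 10, 12, 7], []⟩],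
  .dfn,
  .tm 1 [] [] [⟨19, [], []⟩],
  .tm 0 [] [] [⟨19, [], [22]⟩, ⟨19, [6], []⟩],
  .tm 0 [] [] [⟨19, [], [26, 26]⟩, ⟨19, [7, 3, 3], []⟩],
  .tm 0 [] [] [⟨19, [], [28, 26]⟩, ⟨19, [13, 13, 10, 4, 2, 1, 5], []⟩],
  .tm 0 [] [] [⟨19, [], [27, 30, 26]⟩, ⟨19, [15, 9, 11, 13, 11, 5, 1, 2, 1, 3], []⟩],
  .tm 0 [] [] [⟨19, [], [27, 32, 26]⟩, ⟨19, [15, 12, 11, 1, 4, 3, 5, 1], []⟩],
  .tm 0 [] [] [⟨19, [], [29, 26, 28]⟩, ⟨19, [7, 17, 13, 11, 2, 1, 3], []⟩],
  .tm 2 [3, 0, 5, 5, 0, 10, 8, 8] [] [⟨19, [5, 2, 0, 4, 0, 4], [34, 33, 26, 35, 25]⟩, ⟨19, [5, 12, 9, 14], []⟩],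
  .tm 3 [] [] [⟨19, [4, 4], [34, 28, 32]⟩, ⟨18, [4, 2, 5, 0, 13, 10, 10, 14, 7], [29, 31, 34, 32]⟩, ⟨19, [4, 3, 5, 2, 0, 13, 7], []⟩],
  .dfn,
  .tm 1 [] [] [⟨29, [], []⟩],
  .tm 0 [] [] [⟨29, [], [22]⟩, ⟨29, [6], []⟩],
  .tm 0 [] [] [⟨29, [], [24, 26]⟩, ⟨29, [6, 2], []⟩],
  .tm 0 [] [] [⟨29, [], [24, 28, 28, 28]⟩, ⟨29, [6, 14, 9, 13, 9, 5, 5, 2, 4], []⟩],
  .tm 0 [] [] [⟨29, [], [28, 30, 29]⟩, ⟨29, [6, 14, 10, 13, 11, 1, 3, 5, 1, 4, 4], []⟩],
  .tm 0 [] [] [⟨29, [], [28, 32, 29]⟩, ⟨29, [6, 13, 11, 11, 1, 3, 3], []⟩],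
  .tm 2 [0, 5, 2, 0, 12, 10, 12, 15] [] [⟨29, [0, 4, 4, 0, 4], [34, 26, 32, 34]⟩, ⟨29, [5, 5, 0, 2, 0, 10, 13, 8, 15, 7], []⟩],
  .tm 2 [4, 3, 5, 0, 10, 10, 13, 8, 15, 6] [] [⟨29, [], [30, 25]⟩, ⟨19, [2, 2, 0, 9], []⟩],
  .tm 1 [4, 2, 0, 3, 9, 11, 8, 8, 16] [] [⟨37, [], []⟩],
  .tm 2 [2, 5, 0, 10, 10, 12, 6] [] [⟨29, [5], [30, 28]⟩, ⟨29, [0, 2, 5, 10, 10, 15, 7], []⟩],
  .tm 3 [] [] [⟨29, [5, 5], [32, 34, 31, 28]⟩, ⟨18, [0, 4, 3, 0, 9, 16], [32, 29, 34, 30, 25]⟩, ⟨29, [3, 0, 2, 5, 13, 8, 14], []⟩],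
  .tm 0 [] [] [⟨38, [], [57, 48, 56]⟩, ⟨38, [7, 9, 13, 11, 11, 4, 2], []⟩],
  .dfn,
  .tm 1 [] [] [⟨42, [], []⟩],
  .tm 0 [] [] [⟨42, [], [22]⟩, ⟨42, [6], []⟩]]

theorem fc0 : checkL (nat_lit 17) (nat_lit 131071) tH tK tK' BB FF TM XW d0 (nat_lit 0) = true := by decide +kernel

def d45 : List Der := [.tm 0 [] [] [⟨42, [], [27, 31, 32, 30]⟩, ⟨42, [6, 17, 9, 9, 13, 11, 5, 1, 3], []⟩],
  .tm 0 [] [] [⟨42, [], [24, 31, 28, 34, 32, 28]⟩, ⟨42, [7, 15, 9, 13, 10, 5, 3, 1], []⟩],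
  .tm 2 [3, 4, 0, 11, 9, 14] [] [⟨42, [5, 5, 2, 4, 0, 4], [34, 27, 34, 26, 32, 24]⟩, ⟨42, [0, 3, 5, 2, 12, 9, 6], []⟩],
  .tm 1 [2, 10, 10, 8] [] [⟨47, [], []⟩],
  .tm 2 [4, 4, 2, 0, 11, 8, 8, 15, 7] [] [⟨42, [4, 0, 3, 4, 0, 4], [30, 26, 32, 34, 25]⟩, ⟨29, [5, 2, 4, 2, 0, 12, 12, 9, 7], []⟩],
  .tm 1 [4, 3, 0, 2, 2, 8, 12, 12, 8, 15] [] [⟨49, [], []⟩],
  .tm 2 [3, 4, 0, 11, 12, 15, 6] [] [⟨42, [5, 5, 3, 4, 0, 4], [27, 34, 30, 28, 34]⟩, ⟨29, [5, 5, 2, 5, 0, 9, 10, 15, 7], []⟩],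
  .tm 1 [5, 2, 5, 0, 5, 2, 10, 12, 11, 16] [] [⟨51, [], []⟩],
  .tm 2 [4, 3, 5, 0, 10, 10, 13, 8, 15, 6] [] [⟨42, [], [34, 27, 35, 27, 34]⟩, ⟨42, [4, 4, 3, 5, 8, 12, 8, 15, 6], []⟩],
  .tm 2 [5, 3, 5, 5, 11, 11, 8, 8, 6] [] [⟨42, [4], [32, 28, 35, 30]⟩, ⟨19, [4, 2, 0, 2, 2, 11, 14, 6], []⟩],
  .tm 1 [2, 0, 9, 11, 8, 6] [] [⟨54, [], []⟩],
  .tm 2 [2, 4, 2, 0, 4, 12, 8, 8, 15, 7] [] [⟨42, [0, 4], [33, 26, 34, 33]⟩, ⟨42, [4, 3, 0, 10, 12, 14, 6], []⟩],
  .tm 1 [4, 2, 5, 5, 10, 10, 12, 8, 7] [] [⟨56, [], []⟩],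
  .tm 2 [0, 5, 3, 4, 2, 10, 12, 11, 15, 7] [] [⟨42, [3, 0, 4], [34, 30, 34, 33, 25]⟩, ⟨42, [5, 2, 0, 12, 12, 14, 7], []⟩],
  .tm 2 [5, 2, 4, 2, 8, 10, 12, 7] [] [⟨42, [3, 0, 5], [26, 35, 33, 35, 32, 26]⟩, ⟨42, [2, 0, 5, 2, 2, 13, 8, 10, 15, 6], []⟩],
  .tm 1 [4, 4, 2, 0, 3, 10, 13, 8, 14, 6] [] [⟨59, [], []⟩],
  .tm 2 [2, 0, 4, 0, 4, 12, 8, 8, 7] [] [⟨42, [4, 2, 5], [29, 29, 24]⟩, ⟨42, [5, 3, 4, 0, 3, 9, 11, 8, 8, 16, 7], []⟩],
  .tm 2 [3, 5, 5, 8, 12, 8, 14, 6] [] [⟨42, [0, 2, 0, 4], [32, 34, 29, 27, 32, 24]⟩, ⟨42, [5, 3, 4, 0, 3, 13, 8, 10, 8, 15], []⟩],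
  .tm 1 [5, 5, 3, 4, 2, 9, 13, 8, 14, 6] [] [⟨62, [], []⟩],
  .tm 4 [2, 5, 0, 5, 0, 10, 8, 8, 16] [] [⟨52, [5, 2, 5, 0, 5, 2, 10, 8, 12, 8, 15], [83, 62, 70]⟩, ⟨49, [2, 2, 0, 5], []⟩],
  .tm 1 [0, 3, 0, 4, 11, 8] [] [⟨64, [], []⟩]]

theorem fc45 : checkL (nat_lit 17) (nat_lit 131071) tH tK tK' BB FF TM XW d45 (nat_lit 45) = true := by decide +kernel

end Cfsg.Agent.Lib.LyBD
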