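import Cfsg.Agent.Lib.DCETab
import Cfsg.Agent.Lib.LyBDR
import Cfsg.Agent.Lib.LyBDT
import Cfsg.Agent.Lib.LyBDF
import Cfsg.Agent.Lib.LyBDM

set_option autoImplicit false
set_option maxRecDepth 100000

namespace Cfsg.Agent.Lib.LyBD
open Cfsg.Agent.Lib.PermNet Cfsg.Agent.Lib.DCE

def d66 : List Der := [.tm 4 [0, 3, 0, 2, 2, 10, 9] [] [⟨52, [0, 3, 4, 0, 11, 12, 12, 15, 7], [67, 81, 81, 83, 64]⟩, ⟨49, [3, 5, 0, 5], []⟩],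
  .tm 1 [3, 5, 2, 0, 8, 10, 12, 14] [] [⟨66, [], []⟩],
  .tm 4 [3, 4, 0, 4, 3, 9, 11, 8, 8, 16, 6] [] [⟨52, [0, 4, 2, 5, 0, 11, 8, 11, 8, 8, 14, 6], [67, 80, 64]⟩, ⟨51, [2, 0, 3, 0, 4], []⟩],
  .tm 2 [5, 3, 4, 2, 10, 10, 13, 8, 16, 6] [] [⟨51, [4, 0, 3, 0, 4], [92, 90]⟩, ⟨67, [4, 3, 5, 5, 2, 13, 10, 8, 16], []⟩],
  .tm 1 [3, 0, 4, 0, 4, 12, 8, 12, 16] [] [⟨69, [], []⟩],
  .tm 4 [4, 0, 2, 0, 12, 10, 12] [] [⟨69, [3, 4, 2, 0, 8, 14, 6], [65, 67, 71, 68]⟩, ⟨51, [2, 0, 4, 0, 4], []⟩],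
  .tm 4 [5, 3, 5, 11, 16, 6] [] [⟨69, [4, 0, 11, 9, 11, 9, 15, 6], [71]⟩, ⟨51, [3, 0, 4], []⟩],
  .tm 1 [4, 2, 0, 2, 2, 8, 8, 11, 8, 14] [] [⟨72, [], []⟩],
  .tm 5 [] [] [⟨66, [5, 0, 5, 0, 9, 10, 16], [89, 91, 93]⟩, ⟨69, [4, 4, 3, 5, 10, 10, 13, 8, 15, 6], [65, 66, 81]⟩, ⟨51, [2, 2, 0, 4], []⟩],
  .tm 2 [2, 0, 3, 13, 10, 10, 8, 7] [] [⟨51, [5, 2, 0, 4], [92, 88]⟩, ⟨73, [3, 0, 5, 5, 0, 11, 11, 12, 15, 6], []⟩],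
  .tm 1 [5, 2, 5, 0, 8, 8, 16, 6] [] [⟨75, [], []⟩],
  .tm 2 [0, 4, 2, 0, 4, 13, 8, 15] [] [⟨51, [5, 3, 0, 4], [90, 148, 92]⟩, ⟨70, [4, 2, 5, 5, 2, 8, 12, 8, 6], []⟩],
  .tm 1 [5, 5, 2, 2, 9, 13, 8] [] [⟨77, [], []⟩],
  .tm 4 [2, 5, 5, 5, 2, 15, 6] [] [⟨78, [4, 0, 10, 10, 10, 12, 15, 6], [63, 71, 68]⟩, ⟨51, [0, 4, 0, 4], []⟩],
  .tm 1 [4, 4, 2, 10, 12, 9, 15] [] [⟨79, [], []⟩],
  .tm 4 [0, 4, 2, 5, 12, 11] [] [⟨75, [2, 4, 2, 5, 12, 8, 8, 16, 7], [63, 83]⟩, ⟨51, [0, 5, 0, 4], []⟩],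
  .tm 1 [2, 5, 12, 10, 12, 8, 16] [] [⟨81, [], []⟩],
  .tm 4 [4, 4, 3, 5, 5, 2, 13, 8, 10, 8] [] [⟨75, [4, 4, 2, 0, 3, 9, 11, 8, 8, 16, 6], [62, 80, 83]⟩, ⟨51, [0, 4, 2, 5], []⟩],
  .tm 1 [5, 2, 0, 9, 11, 9, 14] [] [⟨83, [], []⟩],
  .tm 6 [3, 0, 5, 3, 10, 13, 8, 15, 6] [] [⟨51, [5, 0, 2, 0, 4, 4], [149, 149, 149, 92, 148, 90]⟩, ⟨51, [2, 0, 4, 0, 4, 13, 10, 12, 8, 14, 7], []⟩]]

theorem fc66 : checkL (nat_lit 17) (nat_lit 131071) tH tK tK' BB FF TM XW d66 (nat_lit 66) = true := by decide +kernel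

def d86 : List Der := [.tm 6 [2, 5, 2, 0, 9, 10, 12, 8, 15, 7] [] [⟨51, [5, 5], [88, 148, 89, 148, 88]⟩, ⟨84, [2, 5, 2, 5, 12, 8], []⟩],
  .tm 1 [0, 5, 2, 10, 10, 13, 8, 14, 7] [] [⟨86, [], []⟩],
  .tm 6 [5, 5, 5, 2, 12, 11, 15, 7] [] [⟨51, [5, 0, 5], [92, 149, 88, 148]⟩, ⟨64, [0, 2, 4, 4, 2, 0, 10, 12, 10, 8, 7], []⟩],
  .tm 1 [3, 0, 2, 2, 12, 11, 11, 14, 7] [] [⟨88, [], []⟩],
  .tm 2 [5, 2, 0, 11, 9, 11, 9, 7] [] [⟨53, [4, 0, 4], [149, 93, 148]⟩, ⟨81, [5, 2, 0, 5, 0, 3, 8, 8, 14, 7], []⟩],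
  .tm 1 [4, 8, 12, 14, 6] [] [⟨90, [], []⟩],
  .tm 2 [5, 3, 5, 5, 11, 12, 8, 15] [] [⟨54, [5, 3, 0, 2, 0, 4], [149, 92, 148, 93]⟩, ⟨90, [5, 3, 0, 2, 2, 10, 8, 12, 8], []⟩],
  .tm 1 [4, 3, 5, 0, 11, 13, 10] [] [⟨92, [], []⟩],
  .tm 4 [4, 3, 4, 4, 10, 12, 8] [] [⟨92, [2, 4, 9, 13, 8, 14, 7], [56, 47, 57]⟩, ⟨54, [0, 5, 0, 2, 0, 4], []⟩],
  .tm 4 [2, 5, 2, 5, 12, 10, 12, 9, 15] [] [⟨92, [5, 0, 5, 0, 3, 13, 10, 10], [51, 56, 56, 49, 47]⟩, ⟨54, [5, 5, 2, 4, 0, 4], []⟩],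
  .tm 2 [0, 4, 4, 4, 2, 11, 11, 8, 8, 14] [] [⟨54, [4, 0, 3, 4, 0, 4], [148, 93, 93]⟩, ⟨89, [3, 0, 4, 3, 0, 11, 13, 10, 15, 7], []⟩],
  .tm 1 [3, 4, 2, 5, 5, 13, 8, 15, 6] [] [⟨96, [], []⟩],
  .tm 2 [3, 5, 5, 12, 11, 14] [] [⟨54, [4, 4, 0, 4], [92, 92, 148, 89]⟩, ⟨73, [2, 4, 2, 0, 4, 10, 10, 12, 11, 14, 7], []⟩],
  .tm 1 [5, 0, 4, 3, 13, 11, 9, 14, 7] [] [⟨98, [], []⟩],
  .tm 4 [2, 0, 4, 4, 10, 10, 12, 14] [] [⟨99, [3, 4, 4, 4, 2, 8, 12, 12, 15, 6], [88, 149, 91]⟩, ⟨69, [4, 4, 3, 0, 5], []⟩],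
  .tm 1 [3, 11, 11, 11, 6] [] [⟨100, [], []⟩]]

theorem fc86 : checkL (nat_lit 17) (nat_lit 131071) tH tK tK' BB FF TM XW d86 (nat_lit 86) = true := by decide +kernel

theorem cv0_1_0 : covB FF nets (nat_lit 82500) (nat_lit 17) (nat_lit 18) (nat_lit 67100) (nat_lit 102) (nat_lit 0) (nat_lit 1) [0, 1, 2, 3, 4, 5, 6, 7, 8] [[0], [2], [4], [6], [8], [10], [12], [14], [16]]
    [9] [] k0_1_0 = true := by decide +kernel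

theorem cv0_1_1 : stepB FF nets (nat_lit 102) (nat_lit 0) [0, 1, 2, 3, 4, 5, 6, 7, 8] [[0], [2], [4], [6], [8], [10], [12], [14], [16]] [8, 7, 3, 2, 0, 8, 5, 7, 1, 3, 8, 4, 5, 2, 8, 0, 4, 1, 8, 7] k0_1_0 k0_1 = true := by decide +kernel

theorem rw0 : rowB (nat_lit 82500) (ivl (nat_lit 67100) ((nat_lit 82500) - (nat_lit 67100))) row0 [0, 15400, 0, 0, 0] 0 = true := by decide +kernel

theorem cv1_0_0 : covB FF nets (nat_lit 82500) (nat_lit 17) (nat_lit 18) (nat_lit 67100) (nat_lit 102) (nat_lit 1) (nat_lit 0) [11, 12, 13, 14, 15, 16, 17] [[13], [0], [9, 6, 3, 18, 26, 26, 26, 24, 28, 28, 30, 29, 34, 33], [5, 2, 1, 20, 22, 20, 18, 26, 24, 26, 24, 29, 29, 29, 34, 12], [5, 9, 2, 22, 24, 24, 28, 31, 28, 28, 33], [9, 1, 23, 18, 23, 24, 24, 27, 25, 25, 29, 30, 29, 34, 33, 13], [16, 2, 18, 23, 18, 20, 18,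 26, 24, 24, 26, 30, 29, 29, 30, 28, 32]]
    [10] [] k1_0 = true := by decide +kernel

theorem cv1_1_0 : covB FF nets (nat_lit 82500) (nat_lit 17) (nat_lit 18) (nat_lit 67100) (nat_lit 102) (nat_lit 1) (nat_lit 1) [11, 12, 13, 14, 15, 16, 17] [[13], [0], [9, 6, 3, 18, 26, 26, 26, 24, 28, 28, 30, 29, 34, 33], [5, 2, 1, 20, 22, 20, 18, 26, 24, 26, 24, 29, 29, 29, 34, 12], [5, 9, 2, 22, 24, 24, 28, 31, 28, 28, 33], [9, 1, 23, 18, 23, 24, 24, 27, 25, 25, 29, 30, 29, 34, 33, 13], [16, 2, 18, 23, 18, 20, 18, 26, 24, 24, 26, 30, 29, 29, 30, 28, 32]]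
    [18] [] k1_1_0 = true := by decide +kernel

theorem cv1_1_1 : stepB FF nets (nat_lit 102) (nat_lit 1) [11, 12, 13, 14, 15, 16, 17] [[13], [0], [9, 6, 3, 18, 26, 26, 26, 24, 28, 28, 30, 29, 34, 33], [5, 2, 1, 20, 22, 20, 18, 26, 24, 26, 24, 29, 29, 29, 34, 12], [5, 9, 2, 22, 24, 24, 28, 31, 28, 28, 33], [9, 1, 23, 18, 23, 24, 24, 27, 25, 25, 29, 30, 29, 34, 33, 13], [16, 2, 18, 23, 18, 20, 18, 26, 24, 24, 26, 30, 29, 29, 30, 28, 32]] [4, 2, 4, 5, 3, 4, 2, 6, 2, 4] k1_1_0 k1_1 = true := by decide +kernel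

theorem cv1_2_0 : covB FF nets (nat_lit 82500) (nat_lit 17) (nat_lit 18) (nat_lit 67100) (nat_lit 102) (nat_lit 1) (nat_lit 2) [11, 12, 13, 14, 15, 16, 17] [[13], [0], [9, 6, 3, 18, 26, 26, 26, 24, 28, 28, 30, 29, 34, 33], [5, 2, 1, 20, 22, 20, 18, 26, 24, 26, 24, 29, 29, 29, 34, 12], [5, 9, 2, 22, 24, 24, 28, 31, 28, 28, 33], [9, 1, 23, 18, 23, 24, 24, 27, 25, 25, 29, 30, 29, 34, 33, 13], [16, 2, 18, 23, 18, 20, 18, 26, 24, 24, 26, 30, 29, 29, 30, 28, 32]]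
    [19] [] k1_2_0 = true := by decide +kernel

theorem cv1_2_1 : stepB FF nets (nat_lit 102) (nat_lit 1) [11, 12, 13, 14, 15, 16, 17] [[13], [0], [9, 6, 3, 18, 26, 26, 26, 24, 28, 28, 30, 29, 34, 33], [5, 2, 1, 20, 22, 20, 18, 26, 24, 26, 24, 29, 29, 29, 34, 12], [5, 9, 2, 22, 24, 24, 28, 31, 28, 28, 33], [9, 1, 23, 18, 23, 24, 24, 27, 25, 25, 29, 30, 29, 34, 33, 13], [16, 2, 18, 23, 18, 20, 18, 26, 24, 24, 26, 30, 29, 29, 30, 28, 32]] [1, 1, 4, 6, 2, 4, 3, 4, 5, 2, 4, 3, 4, 6, 4, 4] k1_2_0 k1_2 = true := by decide +kernel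

theorem cv1_3_0 : covB FF nets (nat_lit 82500) (nat_lit 17) (nat_lit 18) (nat_lit 67100) (nat_lit 102) (nat_lit 1) (nat_lit 3) [11, 12, 13, 14, 15, 16, 17] [[13], [0], [9, 6, 3, 18, 26, 26, 26, 24, 28, 28, 30, 29, 34, 33], [5, 2, 1, 20, 22, 20, 18, 26, 24, 26, 24, 29, 29, 29, 34, 12], [5, 9, 2, 22, 24, 24, 28, 31, 28, 28, 33], [9, 1, 23, 18, 23, 24, 24, 27, 25, 25, 29, 30, 29, 34, 33, 13], [16, 2, 18, 23, 18, 20, 18, 26, 24, 24, 26, 30, 29, 29, 30, 28, 32]]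
    [29] [] k1_3_0 = true := by decide +kernel

theorem cv1_3_1 : stepB FF nets (nat_lit 102) (nat_lit 1) [11, 12, 13, 14, 15, 16, 17] [[13], [0], [9, 6, 3, 18, 26, 26, 26, 24, 28, 28, 30, 29, 34, 33], [5, 2, 1, 20, 22, 20, 18, 26, 24, 26, 24, 29, 29, 29, 34, 12], [5, 9, 2, 22, 24, 24, 28, 31, 28, 28, 33], [9, 1, 23, 18, 23, 24, 24, 27, 25, 25, 29, 30, 29, 34, 33, 13], [16, 2, 18, 23, 18, 20, 18, 26, 24, 24, 26, 30, 29, 29, 30, 28, 32]] [1, 1, 4, 3, 6, 4, 2, 5, 4, 3, 4, 2, 6, 4, 2, 4, 4] k1_3_0 k1_3 = true := by decide +kernel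

theorem cv1_4_0 : covB FF nets (nat_lit 82500) (nat_lit 17) (nat_lit 18) (nat_lit 67100) (nat_lit 102) (nat_lit 1) (nat_lit 4) [11, 12, 13, 14, 15, 16, 17] [[13], [0], [9, 6, 3, 18, 26, 26, 26, 24, 28, 28, 30, 29, 34, 33], [5, 2, 1, 20, 22, 20, 18, 26, 24, 26, 24, 29, 29, 29, 34, 12], [5, 9, 2, 22, 24, 24, 28, 31, 28, 28, 33], [9, 1, 23, 18, 23, 24, 24, 27, 25, 25, 29, 30, 29, 34, 33, 13], [16, 2, 18, 23, 18, 20, 18, 26, 24, 24, 26, 30, 29, 29, 30, 28, 32]]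
    [42] [] k1_4_0 = true := by decide +kernel

theorem cv1_4_1 : stepB FF nets (nat_lit 102) (nat_lit 1) [11, 12, 13, 14, 15, 16, 17] [[13], [0], [9, 6, 3, 18, 26, 26, 26, 24, 28, 28, 30, 29, 34, 33], [5, 2, 1, 20, 22, 20, 18, 26, 24, 26, 24, 29, 29, 29, 34, 12], [5, 9, 2, 22, 24, 24, 28, 31, 28, 28, 33], [9, 1, 23, 18, 23, 24, 24, 27, 25, 25, 29, 30, 29, 34, 33, 13], [16, 2, 18, 23, 18, 20, 18, 26, 24, 24, 26, 30, 29, 29, 30, 28, 32]] [1, 1, 4, 2, 4, 3, 4, 6, 2, 4, 5, 4, 6, 4, 2, 3, 4] k1_4_0 k1_4_1 = true := by decide +kernel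

theorem cv1_4_2 : stepB FF nets (nat_lit 102) (nat_lit 1) [11, 12, 13, 14, 15, 16, 17] [[13], [0], [9, 6, 3, 18, 26, 26, 26, 24, 28, 28, 30, 29, 34, 33], [5, 2, 1, 20, 22, 20, 18, 26, 24, 26, 24, 29, 29, 29, 34, 12], [5, 9, 2, 22, 24, 24, 28, 31, 28, 28, 33], [9, 1, 23, 18, 23, 24, 24, 27, 25, 25, 29, 30, 29, 34, 33, 13], [16, 2, 18, 23, 18, 20, 18, 26, 24, 24, 26, 30, 29, 29, 30, 28, 32]] [5, 4, 4] k1_4_1 k1_4 = true := by decide +kernel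

theorem rw1 : rowB (nat_lit 82500) (ivl (nat_lit 67100) ((nat_lit 82500) - (nat_lit 67100))) row1 [1, 90, 1215, 2430, 11664] 0 = true := by decide +kernel

theorem cv2_1_0 : covB FF nets (nat_lit 82500) (nat_lit 17) (nat_lit 18) (nat_lit 67100) (nat_lit 102) (nat_lit 2) (nat_lit 1) [21, 22, 23, 24, 25, 26, 28] [[1], [3, 1, 3], [4, 9, 4], [7, 11, 1, 18, 25, 26, 24, 24, 31, 29, 29, 31, 33, 13], [10, 16, 1, 20, 22, 22, 20, 18, 27, 27, 27, 24, 24, 28, 30, 28, 28, 34, 12], [2, 4, 18, 22, 26, 30, 28, 28, 34, 32, 13], [0, 7, 22, 22, 18, 20, 22, 25, 25, 27, 31, 28, 31, 28, 34, 12]]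
    [20] [] k2_1_0 = true := by decide +kernel

theorem cv2_1_1 : stepB FF nets (nat_lit 102) (nat_lit 2) [21, 22, 23, 24, 25, 26, 28] [[1], [3, 1, 3], [4, 9, 4], [7, 11, 1, 18, 25, 26, 24, 24, 31, 29, 29, 31, 33, 13], [10, 16, 1, 20, 22, 22, 20, 18, 27, 27, 27, 24, 24, 28, 30, 28, 28, 34, 12], [2, 4, 18, 22, 26, 30, 28, 28, 34, 32, 13], [0, 7, 22, 22, 18, 20, 22, 25, 25, 27, 31, 28, 31, 28, 34, 12]] [6, 2, 6, 0, 2, 6, 0, 2, 3, 6] k2_1_0 k2_1 = true := by decide +kernel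

theorem cv2_2_0 : covB FF nets (nat_lit 82500) (nat_lit 17) (nat_lit 18) (nat_lit 67100) (nat_lit 102) (nat_lit 2) (nat_lit 2) [21, 22, 23, 24, 25, 26, 28] [[1], [3, 1, 3], [4, 9, 4], [7, 11, 1, 18, 25, 26, 24, 24, 31, 29, 29, 31, 33, 13], [10, 16, 1, 20, 22, 22, 20, 18, 27, 27, 27, 24, 24, 28, 30, 28, 28, 34, 12], [2, 4, 18, 22, 26, 30, 28, 28, 34, 32, 13], [0, 7, 22, 22, 18, 20, 22, 25, 25, 27, 31, 28, 31, 28, 34, 12]]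
    [27] [] k2_2_0 = true := by decide +kernel

theorem cv2_2_1 : stepB FF nets (nat_lit 102) (nat_lit 2) [21, 22, 23, 24, 25, 26, 28] [[1], [3, 1, 3], [4, 9, 4], [7, 11, 1, 18, 25, 26, 24, 24, 31, 29, 29, 31, 33, 13], [10, 16, 1, 20, 22, 22, 20, 18, 27, 27, 27, 24, 24, 28, 30, 28, 28, 34, 12], [2, 4, 18, 22, 26, 30, 28, 28, 34, 32, 13], [0, 7, 22, 22, 18, 20, 22, 25, 25, 27, 31, 28, 31, 28, 34, 12]] [2, 1, 5, 3, 2, 6, 0, 2, 6, 0, 2, 6, 0, 2, 3, 6] k2_2_0 k2_2 = true := by decide +kernel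

theorem cv2_3_0 : covB FF nets (nat_lit 82500) (nat_lit 17) (nat_lit 18) (nat_lit 67100) (nat_lit 102) (nat_lit 2) (nat_lit 3) [21, 22, 23, 24, 25, 26, 28] [[1], [3, 1, 3], [4, 9, 4], [7, 11, 1, 18, 25, 26, 24, 24, 31, 29, 29, 31, 33, 13], [10, 16, 1, 20, 22, 22, 20, 18, 27, 27, 27, 24, 24, 28, 30, 28, 28, 34, 12], [2, 4, 18, 22, 26, 30, 28, 28, 34, 32, 13], [0, 7, 22, 22, 18, 20, 22, 25, 25, 27, 31, 28, 31, 28, 34, 12]]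
    [38, 96, 100] [] k2_3_0 = true := by decide +kernel

theorem cv2_3_1 : stepB FF nets (nat_lit 102) (nat_lit 2) [21, 22, 23, 24, 25, 26, 28] [[1], [3, 1, 3], [4, 9, 4], [7, 11, 1, 18, 25, 26, 24, 24, 31, 29, 29, 31, 33, 13], [10, 16, 1, 20, 22, 22, 20, 18, 27, 27, 27, 24, 24, 28, 30, 28, 28, 34, 12], [2, 4, 18, 22, 26, 30, 28, 28, 34, 32, 13], [0, 7, 22, 22, 18, 20, 22, 25, 25, 27, 31, 28, 31, 28, 34, 12]] [0, 0, 2, 1, 5, 3, 2, 6, 0, 0, 2, 6, 0, 2, 3, 6] k2_3_0 k2_3 = true := by decide +kernel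

theorem cv2_4_0 : covB FF nets (nat_lit 82500) (nat_lit 17) (nat_lit 18) (nat_lit 67100) (nat_lit 102) (nat_lit 2) (nat_lit 4) [21, 22, 23, 24, 25, 26, 28] [[1], [3, 1, 3], [4, 9, 4], [7, 11, 1, 18, 25, 26, 24, 24, 31, 29, 29, 31, 33, 13], [10, 16, 1, 20, 22, 22, 20, 18, 27, 27, 27, 24, 24, 28, 30, 28, 28, 34, 12], [2, 4, 18, 22, 26, 30, 28, 28, 34, 32, 13], [0, 7, 22, 22, 18, 20, 22, 25, 25, 27, 31, 28, 31, 28, 34, 12]]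
    [92, 55, 98] [] k2_4_0 = true := by decide +kernel

theorem cv2_4_1 : stepB FF nets (nat_lit 102) (nat_lit 2) [21, 22, 23, 24, 25, 26, 28] [[1], [3, 1, 3], [4, 9, 4], [7, 11, 1, 18, 25, 26, 24, 24, 31, 29, 29, 31, 33, 13], [10, 16, 1, 20, 22, 22, 20, 18, 27, 27, 27, 24, 24, 28, 30, 28, 28, 34, 12], [2, 4, 18, 22, 26, 30, 28, 28, 34, 32, 13], [0, 7, 22, 22, 18, 20, 22, 25, 25, 27, 31, 28, 31, 28, 34, 12]] [0, 0, 2, 1, 5, 3, 2, 6, 0, 0, 2, 6, 0, 2, 6, 0, 2, 3, 6, 0] k2_4_0 k2_4 = true := by decide +kernel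

theorem rw2 : rowB (nat_lit 82500) (ivl (nat_lit 67100) ((nat_lit 82500) - (nat_lit 67100))) row2 [0, 35, 560, 3045, 11760] 0 = true := by decide +kernel

theorem cv3_1_0 : covB FF nets (nat_lit 82500) (nat_lit 17) (nat_lit 18) (nat_lit 67100) (nat_lit 102) (nat_lit 3) (nat_lit 1) [31, 32, 33, 34, 35, 40, 41] [[1], [3, 6, 22, 18, 27, 25, 27, 28, 30, 28, 32], [16, 7, 1, 18, 23, 18, 20, 26, 24, 24, 28, 28, 28, 30, 29, 34, 32, 13], [4, 6, 18, 22, 18, 27, 25, 27, 28, 30, 28, 32, 12], [10, 16, 1, 18, 20, 22, 24, 27, 25, 25, 28, 28, 30, 33], [14, 0, 2, 22, 22, 18, 20, 22, 27, 27, 24, 27, 29, 29, 29, 30, 34, 33, 12], [7, 3, 22, 18, 22, 18, 22, 20, 27, 24, 26, 30, 29, 29, 30, 28]]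
    [30] [] k3_1_0 = true := by decide +kernel

theorem cv3_1_1 : stepB FF nets (nat_lit 102) (nat_lit 3) [31, 32, 33, 34, 35, 40, 41] [[1], [3, 6, 22, 18, 27, 25, 27, 28, 30, 28, 32], [16, 7, 1, 18, 23, 18, 20, 26, 24, 24, 28, 28, 28, 30, 29, 34, 32, 13], [4, 6, 18, 22, 18, 27, 25, 27, 28, 30, 28, 32, 12], [10, 16, 1, 18, 20, 22, 24, 27, 25, 25, 28, 28, 30, 33], [14, 0, 2, 22, 22, 18, 20, 22, 27, 27, 24, 27, 29, 29, 29, 30, 34, 33, 12], [7, 3, 22, 18, 22, 18, 22, 20, 27, 24, 26, 30, 29, 29, 30, 28]] [6, 0, 0, 3, 5, 0, 4] k3_1_0 k3_1 = true := by decide +kernel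

theorem cv3_2_0 : covB FF nets (nat_lit 82500) (nat_lit 17) (nat_lit 18) (nat_lit 67100) (nat_lit 102) (nat_lit 3) (nat_lit 2) [31, 32, 33, 34, 35, 40, 41] [[1], [3, 6, 22, 18, 27, 25, 27, 28, 30, 28, 32], [16, 7, 1, 18, 23, 18, 20, 26, 24, 24, 28, 28, 28, 30, 29, 34, 32, 13], [4, 6, 18, 22, 18, 27, 25, 27, 28, 30, 28, 32, 12], [10, 16, 1, 18, 20, 22, 24, 27, 25, 25, 28, 28, 30, 33], [14, 0, 2, 22, 22, 18, 20, 22, 27, 27, 24, 27, 29, 29, 29, 30, 34, 33, 12], [7, 3, 22, 18, 22, 18, 22, 20, 27, 24, 26, 30, 29, 29, 30, 28]]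
    [37, 97, 101] [] k3_2_0 = true := by decide +kernel

theorem cv3_2_1 : stepB FF nets (nat_lit 102) (nat_lit 3) [31, 32, 33, 34, 35, 40, 41] [[1], [3, 6, 22, 18, 27, 25, 27, 28, 30, 28, 32], [16, 7, 1, 18, 23, 18, 20, 26, 24, 24, 28, 28, 28, 30, 29, 34, 32, 13], [4, 6, 18, 22, 18, 27, 25, 27, 28, 30, 28, 32, 12], [10, 16, 1, 18, 20, 22, 24, 27, 25, 25, 28, 28, 30, 33], [14, 0, 2, 22, 22, 18, 20, 22, 27, 27, 24, 27, 29, 29, 29, 30, 34, 33, 12], [7, 3, 22, 18, 22, 18, 22, 20, 27, 24, 26, 30, 29, 29, 30, 28]] [0, 0, 1, 4, 3, 6, 0, 0, 4, 6, 0, 0, 3, 6] k3_2_0 k3_2 = true := by decide +kernel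

theorem cv3_3_0 : covB FF nets (nat_lit 82500) (nat_lit 17) (nat_lit 18) (nat_lit 67100) (nat_lit 102) (nat_lit 3) (nat_lit 3) [31, 32, 33, 34, 35, 40, 41] [[1], [3, 6, 22, 18, 27, 25, 27, 28, 30, 28, 32], [16, 7, 1, 18, 23, 18, 20, 26, 24, 24, 28, 28, 28, 30, 29, 34, 32, 13], [4, 6, 18, 22, 18, 27, 25, 27, 28, 30, 28, 32, 12], [10, 16, 1, 18, 20, 22, 24, 27, 25, 25, 28, 28, 30, 33], [14, 0, 2, 22, 22, 18, 20, 22, 27, 27, 24, 27, 29, 29, 29, 30, 34, 33, 12], [7, 3, 22, 18, 22, 18, 22, 20, 27, 24, 26, 30, 29, 29, 30, 28]]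
    [36, 39, 78, 77, 85] [] k3_3_0 = true := by decide +kernel

theorem cv3_3_1 : stepB FF nets (nat_lit 102) (nat_lit 3) [31, 32, 33, 34, 35, 40, 41] [[1], [3, 6, 22, 18, 27, 25, 27, 28, 30, 28, 32], [16, 7, 1, 18, 23, 18, 20, 26, 24, 24, 28, 28, 28, 30, 29, 34, 32, 13], [4, 6, 18, 22, 18, 27, 25, 27, 28, 30, 28, 32, 12], [10, 16, 1, 18, 20, 22, 24, 27, 25, 25, 28, 28, 30, 33], [14, 0, 2, 22, 22, 18, 20, 22, 27, 27, 24, 27, 29, 29, 29, 30, 34, 33, 12], [7, 3, 22, 18, 22, 18, 22, 20, 27, 24, 26, 30, 29, 29, 30, 28]] [0, 0, 1, 4, 3, 6, 0, 0, 3, 2, 4, 5, 0, 0, 4, 4] k3_3_0 k3_3 = true := by decide +kernel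

theorem cv3_4_0 : covB FF nets (nat_lit 82500) (nat_lit 17) (nat_lit 18) (nat_lit 67100) (nat_lit 102) (nat_lit 3) (nat_lit 4) [31, 32, 33, 34, 35, 40, 41] [[1], [3, 6, 22, 18, 27, 25, 27, 28, 30, 28, 32], [16, 7, 1, 18, 23, 18, 20, 26, 24, 24, 28, 28, 28, 30, 29, 34, 32, 13], [4, 6, 18, 22, 18, 27, 25, 27, 28, 30, 28, 32, 12], [10, 16, 1, 18, 20, 22, 24, 27, 25, 25, 28, 28, 30, 33], [14, 0, 2, 22, 22, 18, 20, 22, 27, 27, 24, 27, 29, 29, 29, 30, 34, 33, 12], [7, 3, 22, 18, 22, 18, 22, 20, 27, 24, 26, 30, 29, 29, 30, 28]]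
    [52, 75, 50, 69, 79, 86, 88] [] k3_4_0 = true := by decide +kernel

theorem cv3_4_1 : stepB FF nets (nat_lit 102) (nat_lit 3) [31, 32, 33, 34, 35, 40, 41] [[1], [3, 6, 22, 18, 27, 25, 27, 28, 30, 28, 32], [16, 7, 1, 18, 23, 18, 20, 26, 24, 24, 28, 28, 28, 30, 29, 34, 32, 13], [4, 6, 18, 22, 18, 27, 25, 27, 28, 30, 28, 32, 12], [10, 16, 1, 18, 20, 22, 24, 27, 25, 25, 28, 28, 30, 33], [14, 0, 2, 22, 22, 18, 20, 22, 27, 27, 24, 27, 29, 29, 29, 30, 34, 33, 12], [7, 3, 22, 18, 22, 18, 22, 20, 27, 24, 26, 30, 29, 29, 30, 28]] [0, 0, 1, 3, 4, 6, 0, 0, 3, 2, 4, 5, 0, 0, 3, 6, 0] k3_4_0 k3_4 = true := by decide +kernel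

theorem rw3 : rowB (nat_lit 82500) (ivl (nat_lit 67100) ((nat_lit 82500) - (nat_lit 67100))) row3 [0, 20, 870, 2990, 11520] 0 = true := by decide +kernel

end Cfsg.Agent.Lib.LyBD
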