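import Cfsg.Agent.Lib.DCETab
import Cfsg.Agent.Lib.LyBDR
import Cfsg.Agent.Lib.LyBDT
import Cfsg.Agent.Lib.LyBDF
import Cfsg.Agent.Lib.LyBDM

set_option autoImplicit false
set_option maxRecDepth 100000

namespace Cfsg.Agent.Lib.LyBD
open Cfsg.Agent.Lib.PermNet Cfsg.Agent.Lib.DCE

theorem cv4_1_0 : covB FF nets (nat_lit 82500) (nat_lit 17) (nat_lit 18) (nat_lit 67100) (nat_lit 102) (nat_lit 4) (nat_lit 1) [44, 45, 46, 74] [[1], [16, 0, 18, 22, 20, 18, 20, 26, 24, 24, 29, 30, 28, 28, 34], [0, 2, 23, 20, 18, 23, 20, 26, 25, 27, 24, 29, 29, 30, 29], [9, 1, 23, 18, 20, 25, 27, 24, 26, 24, 31, 28, 30, 34, 32, 12]]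
    [43] [] k4_1_0 = true := by decide +kernel

theorem cv4_1_1 : stepB FF nets (nat_lit 102) (nat_lit 4) [44, 45, 46, 74] [[1], [16, 0, 18, 22, 20, 18, 20, 26, 24, 24, 29, 30, 28, 28, 34], [0, 2, 23, 20, 18, 23, 20, 26, 25, 27, 24, 29, 29, 30, 29], [9, 1, 23, 18, 20, 25, 27, 24, 26, 24, 31, 28, 30, 34, 32, 12]] [3, 0, 0, 3, 0, 0, 3, 0, 0, 3, 0] k4_1_0 k4_1 = true := by decide +kernel

theorem cv4_2_0 : covB FF nets (nat_lit 82500) (nat_lit 17) (nat_lit 18) (nat_lit 67100) (nat_lit 102) (nat_lit 4) (nat_lit 2) [44, 45, 46, 74] [[1], [16, 0, 18, 22, 20, 18, 20, 26, 24, 24, 29, 30, 28, 28, 34], [0, 2, 23, 20, 18, 23, 20, 26, 25, 27, 24, 29, 29, 30, 29], [9, 1, 23, 18, 20, 25, 27, 24, 26, 24, 31, 28, 30, 34, 32, 12]]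
    [54, 99, 93] [] k4_2_0 = true := by decide +kernel

theorem cv4_2_1 : stepB FF nets (nat_lit 102) (nat_lit 4) [44, 45, 46, 74] [[1], [16, 0, 18, 22, 20, 18, 20, 26, 24, 24, 29, 30, 28, 28, 34], [0, 2, 23, 20, 18, 23, 20, 26, 25, 27, 24, 29, 29, 30, 29], [9, 1, 23, 18, 20, 25, 27, 24, 26, 24, 31, 28, 30, 34, 32, 12]] [0, 0, 2, 3, 0, 0, 1, 3, 0, 0, 3, 0, 0, 3, 0, 0, 3, 0] k4_2_0 k4_2 = true := by decide +kernel

theorem cv4_3_0 : covB FF nets (nat_lit 82500) (nat_lit 17) (nat_lit 18) (nat_lit 67100) (nat_lit 102) (nat_lit 4) (nat_lit 3) [44, 45, 46, 74] [[1], [16, 0, 18, 22, 20, 18, 20, 26, 24, 24, 29, 30, 28, 28, 34], [0, 2, 23, 20, 18, 23, 20, 26, 25, 27, 24, 29, 29, 30, 29], [9, 1, 23, 18, 20, 25, 27, 24, 26, 24, 31, 28, 30, 34, 32, 12]]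
    [49, 51, 70, 80, 89, 87, 76] [] k4_3_0 = true := by decide +kernel

theorem cv4_3_1 : stepB FF nets (nat_lit 102) (nat_lit 4) [44, 45, 46, 74] [[1], [16, 0, 18, 22, 20, 18, 20, 26, 24, 24, 29, 30, 28, 28, 34], [0, 2, 23, 20, 18, 23, 20, 26, 25, 27, 24, 29, 29, 30, 29], [9, 1, 23, 18, 20, 25, 27, 24, 26, 24, 31, 28, 30, 34, 32, 12]] [0, 0, 2, 1, 3, 0, 0, 3, 0, 0, 3, 0, 0, 3, 0, 0, 3, 0] k4_3_0 k4_3 = true := by decide +kernel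

theorem cv4_4_0 : covB FF nets (nat_lit 82500) (nat_lit 17) (nat_lit 18) (nat_lit 67100) (nat_lit 102) (nat_lit 4) (nat_lit 4) [44, 45, 46, 74] [[1], [16, 0, 18, 22, 20, 18, 20, 26, 24, 24, 29, 30, 28, 28, 34], [0, 2, 23, 20, 18, 23, 20, 26, 25, 27, 24, 29, 29, 30, 29], [9, 1, 23, 18, 20, 25, 27, 24, 26, 24, 31, 28, 30, 34, 32, 12]]
    [47, 48, 53, 56, 57, 58, 59, 60, 61, 62, 63, 64, 65, 66, 67, 68, 71, 72, 73, 94, 90, 82, 81, 91, 95, 83, 84] [] k4_4_0 = true := by decide +kernel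

theorem cv4_4_1 : stepB FF nets (nat_lit 102) (nat_lit 4) [44, 45, 46, 74] [[1], [16, 0, 18, 22, 20, 18, 20, 26, 24, 24, 29, 30, 28, 28, 34], [0, 2, 23, 20, 18, 23, 20, 26, 25, 27, 24, 29, 29, 30, 29], [9, 1, 23, 18, 20, 25, 27, 24, 26, 24, 31, 28, 30, 34, 32, 12]] [0, 0, 2, 3, 0, 0, 1, 3, 0, 0, 3, 0, 0, 3, 0, 0, 3, 0] k4_4_0 k4_4 = true := by decide +kernel

theorem rw4 : rowB (nat_lit 82500) (ivl (nat_lit 67100) ((nat_lit 82500) - (nat_lit 67100))) row4 [0, 25, 875, 3000, 11500] 0 = true := by decide +kernel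

end Cfsg.Agent.Lib.LyBD
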