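import Cfsg.Agent.Lib.DCE7
import Cfsg.Agent.Lib.LyBDC0
import Cfsg.Agent.Lib.LyBDE0
import Cfsg.Agent.Lib.LyBDE1
import Cfsg.Agent.Lib.LyBDE2
import Cfsg.Agent.Lib.LyBDE3
import Cfsg.Agent.Lib.LyBDE4
import Cfsg.Agent.Lib.LyBDE5

set_option autoImplicit false
set_option maxRecDepth 100000

namespace Cfsg.Agent.Lib.LyBD
open Cfsg.Agent.Lib.PermNet Cfsg.Agent.Lib.DCE

open Cfsg.Agent.Lib.Words Cfsg.Agent.Lib.PermGroup

/-- Relators of the subgroup. -/
def K1 : List (List ℕ) := [[0, 0, 0], [2, 2, 2], [4, 4, 4], [6, 6, 6], [8, 8, 8], [10, 10, 10], [0, 3, 0, 2, 1, 2], [0, 5, 0, 4, 1, 4], [0, 3, 0, 4, 1, 2, 1, 4], [0, 7, 0, 6, 1, 6], [4, 7, 4, 6, 5, 6], [0, 3, 0, 6, 1, 2, 1, 6], [0, 9, 0, 8, 1, 8], [4, 9, 4, 8, 5, 8], [6, 9, 6, 8, 7, 8], [0, 3, 0, 8, 1, 2, 1, 8], [0, 11, 0, 10, 1, 10], [4, 11, 4, 10, 5, 10], [6, 11, 6, 10, 7, 10], [8, 11, 8, 10, 9, 10], [0, 3, 0, 10, 1, 2, 1, 10], [12, 12, 12], [12, 0, 13,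 1], [12, 2, 13, 3], [12, 4, 13, 5], [12, 6, 13, 7], [12, 8, 13, 9], [12, 10, 13, 11], [14, 14], [14, 12, 14, 12], [14, 0, 14, 8, 1, 9], [14, 2, 14, 9, 5, 1, 4, 8], [14, 4, 14, 9, 3, 1, 2, 8], [14, 6, 14, 9, 7, 1, 6, 8], [14, 8, 14, 9, 0, 8], [14, 10, 14, 10, 8, 1, 9, 11], [14, 16, 15, 17], [2, 0, 11, 7, 4, 9, 4, 0, 2, 16, 3, 1, 5, 8, 5, 6, 10, 1, 3, 17], [9, 1, 4, 2, 16, 13, 13, 9, 1, 4, 2, 17], [12, 16, 13, 17], [16, 16], [16, 1, 9, 6, 11, 6, 2, 5, 2, 16, 1, 9, 6, 11, 6, 2, 5, 2, 16, 1, 9, 6, 11, 6, 2, 5, 2], [16, 3, 0, 11, 6, 9, 6, 4, 0, 16, 3, 0, 11, 6, 9, 6, 4, 0, 16, 3, 0, 11, 6, 9, 6, 4, 0]]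

def I1 : List ℕ := [7, 8]

/-- Further relations in the subgroup. -/
def X : List (List ℕ) := []

/-- Relators that involve the extra generator. -/
def RR : List (List ℕ) := [[6, 11, 16, 3, 16, 0, 2, 0, 2, 17, 2, 17, 10, 7, 18, 11, 16, 11, 0, 16, 3, 1, 3, 1, 17, 1, 10, 17, 10, 19], [2, 5, 2, 18, 15, 13, 1, 9, 19], [1, 8, 11, 2, 7, 14, 18, 15, 6, 3, 10, 9, 19], [12, 18, 1, 19], [18, 15, 13, 1, 3, 4, 3, 8, 18], [18, 8, 11, 8, 4, 1, 6, 2, 0, 18, 8, 11, 8, 4, 1, 6, 2, 0, 18, 8, 11, 8, 4, 1, 6, 2, 0, 15, 13, 3, 1, 3, 1, 1, 11, 8]]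

noncomputable def dat : Dat where
  N := (nat_lit 82500)
  K := (nat_lit 17)
  nS := (nat_lit 67100)
  KS := (nat_lit 17)
  wb := (nat_lit 17)
  mask := (nat_lit 131071)
  n0 := 9
  nl := (nat_lit 72)
  k0 := 18
  nK := (nat_lit 9)
  idT := idT
  T := 5388768000
  TK := 349920
  nF := (nat_lit 102)
  n := 5
  s0 := 0
  tot := 9606125
  nets := nets
  th := th
  tk := tk
  tk' := tk'
  F := FF
  TM := TM
  XW := XW
  defs := defs
  R := RR
  cw := []
  rows := [row0, row1, row2, row3, row4]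
  cs := [[0, 15400, 0, 0, 0], [1, 90, 1215, 2430, 11664], [0, 35, 560, 3045, 11760], [0, 20, 870, 2990, 11520], [0, 25, 875, 3000, 11500]]
  u := []
  v := [15, 13, 1, 3, 4, 3, 8]
  live := [(nat_lit 0), (nat_lit 1), (nat_lit 2), (nat_lit 3), (nat_lit 4)]
  cols := [1, 2, 3, 4]
  sz := [1, 15400, 534600, 1871100, 7185024]
  par := [0, 0, 1, 1, 1]
  chH := chH
  chK := chK
  tc := [[([], 8)],
  [([], 8)],
  [([8, 11, 8, 4, 1, 6, 2, 0, 18, 8, 11, 8, 4, 1, 6, 2, 0, 15, 13, 3, 1, 3, 1, 1, 11, 8], 11)],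
  [([18, 8, 11, 8, 4, 1, 6, 2, 0, 18, 8, 11, 8, 4, 1, 6, 2, 0, 15, 13, 3, 1, 3, 1, 1, 11, 8], 11)],
  [([8, 11, 8, 4, 1, 6, 2, 0, 15, 13, 3, 1, 3, 1, 1, 11, 8], 11)],
  [([], 11)],
  [([8, 11, 8, 4, 1, 6, 2, 0, 15, 13, 3, 1, 3, 1, 1, 11, 8], 11)]]

theorem hrels : ∀ w ∈ relW rels, wval nets.perm w = 1 :=
  relW_one (wval_eq_of_relsOn (K := 17) hv (by norm_num) ((((((((((((((((((rels0_0.trans rels0_1).trans rels0_2).trans rels0_3).trans rels0_4).trans rels0_5).trans rels0_6).trans rels0_7).trans rels0_8).trans rels0_9).trans rels0_10).trans rels0_11).trans rels0_12).trans rels0_13).trans rels0_14).trans rels0_15).trans rels0_16).append ((((((((((((((((rels1_0.trans rels1_1).trans rels1_2).trans rels1_3).trans rels1_4).trans rels1_5).trans rels1_6).trans rels1_7).trans rels1_8).trans rels1_9).trans rels1_10).trans rels1_11).trans rels1_12).trans rels1_13).trans rels1_14).trans rels1_15).trans rels1_16)).append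 (((((rels2_0.trans rels2_3).trans rels2_6).trans rels2_9).trans rels2_12).trans rels2_15)))

theorem hK1 : ∀ w ∈ K1, wval nets.perm w = 1 := derive [] hrels _ (by decide +kernel)

theorem hX : ∀ w ∈ X, wval nets.perm w = 1 := derive [] hrels _ (by decide +kernel)

theorem hB : dat.B = BB := by decide +kernel

theorem facts : AllR (fun c => ∃ e, checkF (nat_lit 17) (nat_lit 131071) tH tK tK' BB FF TM XW c e = true) 0 (nat_lit 102) :=
  ((((allR_of_checkL d0 0 45 (by decide +kernel) fc0).trans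
    (allR_of_checkL d45 45 66 (by decide +kernel) fc45)).trans
    (allR_of_checkL d66 66 86 (by decide +kernel) fc66)).trans
    (allR_of_checkL d86 86 102 (by decide +kernel) fc86))

theorem tab : AllR (fun l => tabB nets (nat_lit 82500) (nat_lit 17) (nat_lit 67100) (nat_lit 17) (nat_lit 17) (nat_lit 131071) tH l = true)
    0 (nat_lit 72) :=
  ((((((((((((((((((((((((((((((((((((allR_of 0 2 2 (by decide) tab0).trans
    (allR_of 2 2 4 (by decide) tab2)).trans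
    (allR_of 4 2 6 (by decide) tab4)).trans
    (allR_of 6 2 8 (by decide) tab6)).trans
    (allR_of 8 2 10 (by decide) tab8)).trans
    (allR_of 10 2 12 (by decide) tab10)).trans
    (allR_of 12 2 14 (by decide) tab12)).trans
    (allR_of 14 2 16 (by decide) tab14)).trans
    (allR_of 16 2 18 (by decide) tab16)).trans
    (allR_of 18 2 20 (by decide) tab18)).trans
    (allR_of 20 2 22 (by decide) tab20)).trans
    (allR_of 22 2 24 (by decide) tab22)).trans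
    (allR_of 24 2 26 (by decide) tab24)).trans
    (allR_of 26 2 28 (by decide) tab26)).trans
    (allR_of 28 2 30 (by decide) tab28)).trans
    (allR_of 30 2 32 (by decide) tab30)).trans
    (allR_of 32 2 34 (by decide) tab32)).trans
    (allR_of 34 2 36 (by decide) tab34)).trans
    (allR_of 36 2 38 (by decide) tab36)).trans
    (allR_of 38 2 40 (by decide) tab38)).trans
    (allR_of 40 2 42 (by decide) tab40)).trans
    (allR_of 42 2 44 (by decide) tab42)).trans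
    (allR_of 44 2 46 (by decide) tab44)).trans
    (allR_of 46 2 48 (by decide) tab46)).trans
    (allR_of 48 2 50 (by decide) tab48)).trans
    (allR_of 50 2 52 (by decide) tab50)).trans
    (allR_of 52 2 54 (by decide) tab52)).trans
    (allR_of 54 2 56 (by decide) tab54)).trans
    (allR_of 56 2 58 (by decide) tab56)).trans
    (allR_of 58 2 60 (by decide) tab58)).trans
    (allR_of 60 2 62 (by decide) tab60)).trans
    (allR_of 62 2 64 (by decide) tab62)).trans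
    (allR_of 64 2 66 (by decide) tab64)).trans
    (allR_of 66 2 68 (by decide) tab66)).trans
    (allR_of 68 2 70 (by decide) tab68)).trans
    (allR_of 70 2 72 (by decide) tab70))

theorem cov0 : AllIdx (fun j m => Cov nets FF (nat_lit 67100) (nat_lit 102) (nat_lit 0) (getD 0 dat.live j) m) 0 row0 :=
  ⟨cov_zero,
    (Cov.step hv _ _ _ (cov_of_covB hv _ (by decide +kernel) _ _ _ _ cv0_1_0) cv0_1_1),
    cov_zero,
    cov_zero,
    cov_zero, trivial⟩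

theorem cov1 : AllIdx (fun j m => Cov nets FF (nat_lit 67100) (nat_lit 102) (nat_lit 1) (getD 0 dat.live j) m) 0 row1 :=
  ⟨(cov_of_covB hv _ (by decide +kernel) _ _ _ _ cv1_0_0),
    (Cov.step hv _ _ _ (cov_of_covB hv _ (by decide +kernel) _ _ _ _ cv1_1_0) cv1_1_1),
    (Cov.step hv _ _ _ (cov_of_covB hv _ (by decide +kernel) _ _ _ _ cv1_2_0) cv1_2_1),
    (Cov.step hv _ _ _ (cov_of_covB hv _ (by decide +kernel) _ _ _ _ cv1_3_0) cv1_3_1),
    (Cov.step hv _ _ _ (Cov.step hv _ _ _ (cov_of_covB hv _ (by decide +kernel) _ _ _ _ cv1_4_0) cv1_4_1) cv1_4_2), trivial⟩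

theorem cov2 : AllIdx (fun j m => Cov nets FF (nat_lit 67100) (nat_lit 102) (nat_lit 2) (getD 0 dat.live j) m) 0 row2 :=
  ⟨cov_zero,
    (Cov.step hv _ _ _ (cov_of_covB hv _ (by decide +kernel) _ _ _ _ cv2_1_0) cv2_1_1),
    (Cov.step hv _ _ _ (cov_of_covB hv _ (by decide +kernel) _ _ _ _ cv2_2_0) cv2_2_1),
    (Cov.step hv _ _ _ (cov_of_covB hv _ (by decide +kernel) _ _ _ _ cv2_3_0) cv2_3_1),
    (Cov.step hv _ _ _ (cov_of_covB hv _ (by decide +kernel) _ _ _ _ cv2_4_0) cv2_4_1), trivial⟩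

theorem cov3 : AllIdx (fun j m => Cov nets FF (nat_lit 67100) (nat_lit 102) (nat_lit 3) (getD 0 dat.live j) m) 0 row3 :=
  ⟨cov_zero,
    (Cov.step hv _ _ _ (cov_of_covB hv _ (by decide +kernel) _ _ _ _ cv3_1_0) cv3_1_1),
    (Cov.step hv _ _ _ (cov_of_covB hv _ (by decide +kernel) _ _ _ _ cv3_2_0) cv3_2_1),
    (Cov.step hv _ _ _ (cov_of_covB hv _ (by decide +kernel) _ _ _ _ cv3_3_0) cv3_3_1),
    (Cov.step hv _ _ _ (cov_of_covB hv _ (by decide +kernel) _ _ _ _ cv3_4_0) cv3_4_1), trivial⟩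

theorem cov4 : AllIdx (fun j m => Cov nets FF (nat_lit 67100) (nat_lit 102) (nat_lit 4) (getD 0 dat.live j) m) 0 row4 :=
  ⟨cov_zero,
    (Cov.step hv _ _ _ (cov_of_covB hv _ (by decide +kernel) _ _ _ _ cv4_1_0) cv4_1_1),
    (Cov.step hv _ _ _ (cov_of_covB hv _ (by decide +kernel) _ _ _ _ cv4_2_0) cv4_2_1),
    (Cov.step hv _ _ _ (cov_of_covB hv _ (by decide +kernel) _ _ _ _ cv4_3_0) cv4_3_1),
    (Cov.step hv _ _ _ (cov_of_covB hv _ (by decide +kernel) _ _ _ _ cv4_4_0) cv4_4_1), trivial⟩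

theorem ok : dat.OKI :=
  ⟨hv, by decide +kernel, derive [] hrels _ (by decide +kernel), tab, cH, cK, hB ▸ facts,
    ⟨rw0, rw1, rw2, rw3, rw4, trivial⟩,
    ⟨cov0, cov1, cov2, cov3, cov4, trivial⟩⟩

end Cfsg.Agent.Lib.LyBD
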