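import Cfsg.Agent.Lib.DCEDefs

set_option autoImplicit false
set_option maxRecDepth 100000

namespace Cfsg.Agent.Lib.LyBD
open Cfsg.Agent.Lib.PermNet Cfsg.Agent.Lib.DCE

noncomputable def f0 : FT := (.node (nat_lit 16) (.node (nat_lit 8) (.node (nat_lit 4) (.node (nat_lit 2) (.node (nat_lit 1) (.leaf ⟨0, 0, false, [0], []⟩)
  (.leaf ⟨0, 0, false, [2], []⟩))
  (.node (nat_lit 3) (.leaf ⟨0, 0, false, [4], []⟩)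
  (.leaf ⟨0, 0, false, [6], []⟩)))
  (.node (nat_lit 6) (.node (nat_lit 5) (.leaf ⟨0, 0, false, [8], []⟩)
  (.leaf ⟨0, 0, false, [10], []⟩))
  (.node (nat_lit 7) (.leaf ⟨0, 0, false, [12], []⟩)
  (.leaf ⟨0, 0, false, [14], []⟩))))
  (.node (nat_lit 12) (.node (nat_lit 10) (.node (nat_lit 9) (.leaf ⟨0, 0, false, [16], []⟩)
  (.leaf ⟨0, 1, true, [], []⟩))
  (.node (nat_lit 11) (.leaf ⟨1, 0, true, [], [2, 16, 0, 23, 23, 18, 23, 24, 27, 25, 26, 24, 29, 29, 30, 32, 13]⟩)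
  (.leaf ⟨1, 1, false, [13], []⟩)))
  (.node (nat_lit 14) (.node (nat_lit 13) (.leaf ⟨1, 1, false, [0], []⟩)
  (.leaf ⟨1, 1, false, [9, 6, 3, 18, 26, 26, 26, 24, 28, 28, 30, 29, 34, 33], []⟩))
  (.node (nat_lit 15) (.leaf ⟨1, 1, false, [5, 2, 1, 20, 22, 20, 18, 26, 24, 26, 24, 29, 29, 29, 34, 12], []⟩)
  (.leaf ⟨1, 1, false, [5, 9, 2, 22, 24, 24, 28, 31, 28, 28, 33], []⟩)))))
  (.node (nat_lit 24) (.node (nat_lit 20) (.node (nat_lit 18) (.node (nat_lit 17) (.leaf ⟨1, 1, false, [9, 1, 23, 18, 23, 24, 24, 27, 25, 25, 29, 30, 29, 34, 33, 13], []⟩)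
  (.leaf ⟨1, 1, false, [16, 2, 18, 23, 18, 20, 18, 26, 24, 24, 26, 30, 29, 29, 30, 28, 32], []⟩))
  (.node (nat_lit 19) (.leaf ⟨1, 1, true, [16, 6, 14, 3], [1, 5, 1, 20, 18, 22, 20, 24, 27, 24, 31]⟩)
  (.leaf ⟨1, 2, true, [2], []⟩)))
  (.node (nat_lit 22) (.node (nat_lit 21) (.leaf ⟨2, 1, true, [], [16, 5, 0, 23, 25, 25, 26, 25, 28, 30, 28, 28, 34, 33, 12]⟩)
  (.leaf ⟨2, 2, false, [1], []⟩))
  (.node (nat_lit 23) (.leaf ⟨2, 2, false, [3, 1, 3], []⟩)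
  (.leaf ⟨2, 2, false, [4, 9, 4], []⟩))))
  (.node (nat_lit 28) (.node (nat_lit 26) (.node (nat_lit 25) (.leaf ⟨2, 2, false, [7, 11, 1, 18, 25, 26, 24, 24, 31, 29, 29, 31, 33, 13], []⟩)
  (.leaf ⟨2, 2, false, [10, 16, 1, 20, 22, 22, 20, 18, 27, 27, 27, 24, 24, 28, 30, 28, 28, 34, 12], []⟩))
  (.node (nat_lit 27) (.leaf ⟨2, 2, false, [2, 4, 18, 22, 26, 30, 28, 28, 34, 32, 13], []⟩)
  (.leaf ⟨2, 2, true, [14, 7, 16, 1, 6], [5, 8, 23, 23, 18, 20, 22, 24, 30, 28, 28, 32, 13]⟩)))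
  (.node (nat_lit 30) (.node (nat_lit 29) (.leaf ⟨2, 2, false, [0, 7, 22, 22, 18, 20, 22, 25, 25, 27, 31, 28, 31, 28, 34, 12], []⟩)
  (.leaf ⟨1, 3, true, [4, 2], []⟩))
  (.node (nat_lit 31) (.leaf ⟨3, 1, true, [], [0, 7, 0, 23, 18, 20, 23, 26, 26, 24, 24, 30, 32, 13]⟩)
  (.leaf ⟨3, 3, false, [1], []⟩))))))

noncomputable def f32 : FT := (.node (nat_lit 48) (.node (nat_lit 40) (.node (nat_lit 36) (.node (nat_lit 34) (.node (nat_lit 33) (.leaf ⟨3, 3, false, [3, 6, 22, 18, 27, 25, 27, 28, 30, 28, 32], []⟩)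
  (.leaf ⟨3, 3, false, [16, 7, 1, 18, 23, 18, 20, 26, 24, 24, 28, 28, 28, 30, 29, 34, 32, 13], []⟩))
  (.node (nat_lit 35) (.leaf ⟨3, 3, false, [4, 6, 18, 22, 18, 27, 25, 27, 28, 30, 28, 32, 12], []⟩)
  (.leaf ⟨3, 3, false, [10, 16, 1, 18, 20, 22, 24, 27, 25, 25, 28, 28, 30, 33], []⟩)))
  (.node (nat_lit 38) (.node (nat_lit 37) (.leaf ⟨3, 3, true, [7, 3, 1, 16, 8], [3, 1, 3, 18, 20, 18, 24, 27, 27, 27, 30, 28, 28, 30, 12]⟩)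
  (.leaf ⟨3, 2, true, [6, 4, 1, 2], [11, 14, 18, 22, 24, 27, 25, 26, 24, 28, 31, 28, 31, 28, 34]⟩))
  (.node (nat_lit 39) (.leaf ⟨2, 3, true, [6, 4, 1, 2], [11, 14, 18, 22, 24, 27, 25, 26, 24, 28, 31, 28, 31, 28, 34]⟩)
  (.leaf ⟨3, 3, true, [6, 14, 5], [8, 11, 0, 20, 22, 18, 27, 24, 27, 24, 30, 29, 29, 32, 12]⟩))))
  (.node (nat_lit 44) (.node (nat_lit 42) (.node (nat_lit 41) (.leaf ⟨3, 3, false, [14, 0, 2, 22, 22, 18, 20, 22, 27, 27, 24, 27, 29, 29, 29, 30, 34, 33, 12], []⟩)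
  (.leaf ⟨3, 3, false, [7, 3, 22, 18, 22, 18, 22, 20, 27, 24, 26, 30, 29, 29, 30, 28], []⟩))
  (.node (nat_lit 43) (.leaf ⟨1, 4, true, [16, 4], []⟩)
  (.leaf ⟨4, 1, true, [], [10, 3, 0, 20, 23, 20, 22, 20, 18, 25, 27, 24, 24, 28, 28, 34, 33, 13]⟩)))
  (.node (nat_lit 46) (.node (nat_lit 45) (.leaf ⟨4, 4, false, [1], []⟩)
  (.leaf ⟨4, 4, false, [16, 0, 18, 22, 20, 18, 20, 26, 24, 24, 29, 30, 28, 28, 34], []⟩))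
  (.node (nat_lit 47) (.leaf ⟨4, 4, false, [0, 2, 23, 20, 18, 23, 20, 26, 25, 27, 24, 29, 29, 30, 29], []⟩)
  (.leaf ⟨4, 4, true, [4, 16, 5], [6, 3, 22, 20, 26, 25, 25, 28, 31, 28, 28, 28, 13]⟩)))))
  (.node (nat_lit 56) (.node (nat_lit 52) (.node (nat_lit 50) (.node (nat_lit 49) (.leaf ⟨4, 4, true, [16, 6, 14, 3], [6, 5, 23, 20, 23, 18, 22, 27, 27, 25, 31, 28, 34, 32, 12]⟩)
  (.leaf ⟨4, 3, true, [3, 16, 1, 16, 3], [1, 7, 1, 20, 23, 23, 18, 27, 27, 24, 30, 29, 29, 34, 33, 13]⟩))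
  (.node (nat_lit 51) (.leaf ⟨3, 4, true, [16, 7, 3, 16, 3], [0, 4, 1, 23, 18, 20, 22, 25, 27, 25, 28, 28, 28, 30, 29, 34, 12]⟩)
  (.leaf ⟨4, 3, true, [4, 16, 14, 5], [11, 2, 0, 23, 23, 20, 22, 20, 26, 24, 24, 26, 25, 31, 28, 34, 32, 13]⟩)))
  (.node (nat_lit 54) (.node (nat_lit 53) (.leaf ⟨3, 4, true, [7, 5, 3, 16, 7], [9, 1, 20, 23, 18, 23, 20, 27, 25, 26, 24, 31, 28, 30, 28, 32]⟩)
  (.leaf ⟨4, 4, true, [6, 4, 1, 2], [1, 9, 20, 23, 18, 20, 22, 26, 24, 24, 26, 24, 30, 32, 13]⟩))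
  (.node (nat_lit 55) (.leaf ⟨4, 2, true, [10, 4, 1, 2], [2, 16, 2, 23, 20, 22, 22, 18, 24, 31, 28, 30, 28, 34, 32, 12]⟩)
  (.leaf ⟨2, 4, true, [5, 10, 16, 14, 5], [10, 3, 0, 23, 18, 22, 22, 20, 26, 24, 27, 24, 28, 28, 28, 28, 33, 12]⟩))))
  (.node (nat_lit 60) (.node (nat_lit 58) (.node (nat_lit 57) (.leaf ⟨4, 4, true, [14, 5, 11, 16, 6], [4, 6, 0, 20, 22, 20, 18, 25, 25, 28, 28, 28, 30, 33, 13]⟩)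
  (.leaf ⟨4, 4, true, [7, 16, 8, 4], [10, 14, 20, 22, 22, 18, 23, 18, 27, 27, 24, 27, 31, 29, 13]⟩))
  (.node (nat_lit 59) (.leaf ⟨4, 4, true, [9, 5, 11, 16, 6], [14, 3, 1, 18, 22, 18, 20, 23, 18, 25, 25, 26, 26, 30, 29, 29, 29, 32, 12]⟩)
  (.leaf ⟨4, 4, true, [10, 3, 0, 16], [7, 4, 18, 22, 22, 18, 23, 18, 27, 25, 30, 28, 32, 12]⟩)))
  (.node (nat_lit 62) (.node (nat_lit 61) (.leaf ⟨4, 4, true, [4, 11, 6, 16, 5], [9, 10, 18, 20, 23, 18, 23, 20, 26, 26, 24, 28, 30, 28, 34, 33]⟩)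
  (.leaf ⟨4, 4, true, [10, 6, 1, 2], [5, 9, 1, 22, 22, 18, 20, 22, 27, 24, 27, 28, 31, 28, 30, 34, 13]⟩))
  (.node (nat_lit 63) (.leaf ⟨4, 4, true, [5, 7, 16, 7], [16, 8, 20, 23, 18, 22, 22, 20, 27, 27, 24, 31, 28, 30, 34, 33, 13]⟩)
  (.leaf ⟨4, 4, true, [7, 16, 1, 2], [14, 11, 22, 18, 22, 18, 26, 26, 26, 24, 24, 30, 28, 28, 31, 28, 34]⟩))))))

noncomputable def f64 : FT := (.node (nat_lit 80) (.node (nat_lit 72) (.node (nat_lit 68) (.node (nat_lit 66) (.node (nat_lit 65) (.leaf ⟨4, 4, true, [2, 7, 8, 16, 10, 2], [1, 20, 23, 18, 22, 18, 27, 27, 30, 29, 29, 33, 12]⟩)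
  (.leaf ⟨4, 4, true, [6, 3, 4, 16, 7], [6, 3, 1, 20, 23, 18, 22, 18, 27, 27, 24, 27, 28, 30, 28, 12]⟩))
  (.node (nat_lit 67) (.leaf ⟨4, 4, true, [14, 0, 10, 16, 4], [9, 11, 20, 18, 22, 22, 20, 24, 27, 24, 29, 29, 31, 13]⟩)
  (.leaf ⟨4, 4, true, [4, 16, 0, 4, 16], [4, 16, 10, 20, 23, 23, 20, 22, 18, 24, 24, 26, 25, 29, 29, 31, 34, 32, 13]⟩)))
  (.node (nat_lit 70) (.node (nat_lit 69) (.leaf ⟨4, 4, true, [7, 0, 5, 16, 10, 2], [1, 3, 1, 20, 18, 20, 18, 20, 26, 25, 25, 28, 28, 28, 34, 13]⟩)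
  (.leaf ⟨3, 4, true, [6, 10, 4, 16, 3], [6, 10, 22, 20, 18, 20, 23, 18, 26, 25, 27, 25, 28, 28, 28, 28, 32]⟩))
  (.node (nat_lit 71) (.leaf ⟨4, 3, true, [16, 1, 4, 11, 16, 3], [2, 5, 22, 18, 20, 24, 27, 25, 26, 24, 29, 29, 30, 32]⟩)
  (.leaf ⟨4, 4, true, [8, 16, 5, 16, 5], [5, 1, 2, 18, 20, 27, 24, 26, 24, 29, 29, 30, 32, 13]⟩))))
  (.node (nat_lit 76) (.node (nat_lit 74) (.node (nat_lit 73) (.leaf ⟨4, 4, true, [11, 4, 16, 3], [0, 4, 0, 18, 22, 18, 20, 23, 18, 27, 25, 29, 31, 28, 28]⟩)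
  (.leaf ⟨4, 4, true, [16, 3, 7, 16, 9], [2, 4, 1, 20, 22, 20, 26, 24, 24, 27, 24, 28, 31, 28, 28, 28, 34, 33, 12]⟩))
  (.node (nat_lit 75) (.leaf ⟨4, 4, false, [9, 1, 23, 18, 20, 25, 27, 24, 26, 24, 31, 28, 30, 34, 32, 12], []⟩)
  (.leaf ⟨3, 4, true, [5, 16, 7, 16, 10, 2], [5, 6, 0, 20, 23, 18, 20, 22, 27, 25, 27, 24, 28, 31, 28, 34, 12]⟩)))
  (.node (nat_lit 78) (.node (nat_lit 77) (.leaf ⟨4, 3, true, [0, 16, 5, 16, 6, 2], [4, 16, 10, 18, 22, 25, 27, 27, 31, 28, 31, 28, 34, 33, 12]⟩)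
  (.leaf ⟨3, 3, true, [8, 2, 16, 14, 3], [1, 7, 0, 20, 18, 20, 18, 20, 26, 24, 26, 24, 24, 30, 28, 28, 34, 32, 13]⟩))
  (.node (nat_lit 79) (.leaf ⟨3, 3, true, [1, 16, 1, 16, 3], [7, 1, 18, 22, 22, 20, 18, 24, 26, 25, 29, 29, 29, 30, 33]⟩)
  (.leaf ⟨3, 4, true, [6, 16, 1, 3, 16, 2], [5, 9, 1, 18, 27, 27, 24, 29, 29, 30, 33]⟩)))))
  (.node (nat_lit 88) (.node (nat_lit 84) (.node (nat_lit 82) (.node (nat_lit 81) (.leaf ⟨4, 3, true, [0, 2, 1, 16], [16, 7, 1, 18, 22, 22, 22, 20, 26, 24, 24, 30, 29, 29, 31, 32, 13]⟩)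
  (.leaf ⟨4, 4, true, [11, 16, 0, 7, 16, 3], [0, 5, 23, 20, 22, 18, 25, 25, 26, 25, 31, 28, 34, 13]⟩))
  (.node (nat_lit 83) (.leaf ⟨4, 4, true, [0, 4, 16, 7], [7, 3, 20, 22, 22, 20, 18, 25, 26, 24, 24, 28, 30, 28, 34, 33]⟩)
  (.leaf ⟨4, 4, true, [16, 0, 16, 6, 1, 2], [10, 14, 22, 22, 18, 26, 26, 25, 27, 28, 28, 30, 12]⟩)))
  (.node (nat_lit 86) (.node (nat_lit 85) (.leaf ⟨4, 4, true, [9, 16, 0, 8, 16], [11, 2, 0, 23, 18, 22, 22, 20, 24, 27, 25, 26, 31, 28, 28, 28, 33, 12]⟩)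
  (.leaf ⟨3, 3, true, [11, 16, 0, 2, 16, 4], [10, 16, 1, 23, 23, 18, 23, 23, 20, 26, 25, 28, 31, 28, 28, 34, 32, 13]⟩))
  (.node (nat_lit 87) (.leaf ⟨3, 4, true, [16, 0, 2, 10, 16, 2], [7, 20, 18, 20, 23, 23, 18, 25, 25, 27, 28, 30, 28, 31, 28, 34]⟩)
  (.leaf ⟨4, 3, true, [2, 4, 16, 7], [7, 18, 22, 20, 24, 27, 24, 27, 29, 29, 29, 30, 29, 34, 12]⟩))))
  (.node (nat_lit 92) (.node (nat_lit 90) (.node (nat_lit 89) (.leaf ⟨3, 4, true, [8, 16, 2, 9, 16, 4, 2], [16, 4, 22, 22, 20, 23, 18, 25, 27, 24, 24, 31, 32]⟩)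
  (.leaf ⟨4, 3, true, [5, 8, 11, 0, 16], [11, 1, 18, 23, 18, 20, 18, 27, 27, 25, 34, 33, 13]⟩))
  (.node (nat_lit 91) (.leaf ⟨4, 4, true, [4, 0, 16, 8], [10, 6, 22, 22, 18, 20, 22, 24, 29, 29, 31, 33]⟩)
  (.leaf ⟨4, 4, true, [2, 11, 16, 5], [16, 2, 20, 23, 23, 20, 22, 18, 25, 27, 24, 24, 28, 31, 28, 34]⟩)))
  (.node (nat_lit 94) (.node (nat_lit 93) (.leaf ⟨2, 4, true, [11, 3, 9, 16, 3], [8, 4, 0, 23, 18, 26, 24, 24, 26, 25, 28, 28, 30, 29, 34, 32, 13]⟩)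
  (.leaf ⟨4, 2, true, [6, 16, 7, 8, 16, 2], [4, 2, 0, 23, 18, 23, 23, 20, 24, 27, 24, 27, 28, 30, 29, 34, 13]⟩))
  (.node (nat_lit 95) (.leaf ⟨4, 4, true, [2, 1, 16, 2, 0, 16], [7, 11, 2, 23, 20, 18, 22, 18, 24, 26, 25, 28, 30, 28, 32]⟩)
  (.leaf ⟨4, 4, true, [1, 8, 6, 16], [2, 16, 2, 18, 22, 20, 23, 18, 25, 26, 26, 26, 24, 30, 29, 29, 29, 34, 32, 13]⟩))))))

noncomputable def f96 : FT := (.node (nat_lit 99) (.node (nat_lit 97) (.leaf ⟨2, 3, true, [16, 1, 16, 5, 16, 5], [8, 1, 18, 20, 23, 18, 23, 20, 25, 26, 26, 26, 24, 30, 28, 28, 34, 33, 13]⟩)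
  (.node (nat_lit 98) (.leaf ⟨3, 2, true, [14, 1, 16, 4, 3, 16, 2], [5, 20, 18, 22, 18, 24, 26, 24, 28, 34, 33]⟩)
  (.leaf ⟨2, 4, true, [3, 16, 0, 3, 16, 9], [5, 9, 22, 22, 18, 22, 20, 25, 28, 30, 28, 31, 28, 34, 32]⟩)))
  (.node (nat_lit 100) (.leaf ⟨4, 2, true, [0, 16, 5, 16], [3, 16, 2, 20, 22, 22, 20, 18, 24, 27, 25, 28, 31, 28, 28, 34]⟩)
  (.node (nat_lit 101) (.leaf ⟨2, 3, true, [2, 16, 3, 5, 16, 10], [9, 2, 23, 18, 23, 20, 25, 27, 24, 29, 30, 33, 12]⟩)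
  (.leaf ⟨3, 2, true, [3, 16, 6, 8, 16], [11, 2, 18, 20, 22, 25, 27, 25, 26, 29, 31, 34, 33, 13]⟩))))



end Cfsg.Agent.Lib.LyBD
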