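import Cfsg.Prelude.Def_Spor_Ly
import Cfsg.Agent.Lib.PermGroup

/-! The presented group `Ly` in terms of numbered generators. -/

set_option autoImplicit false

namespace Cfsg.Agent.Lib.LyBase

open Cfsg.Agent.Lib.PermNet Cfsg.Agent.Lib.Words

def gen : ℕ → Spor.Ly.Gen
  | 0 => .a
  | 1 => .b
  | 2 => .c
  | 3 => .d
  | 4 => .z
  | 5 => .e
  | 6 => .a1
  | 7 => .a2
  | 8 => .a3
  | 9 => .a4
  | 10 => .c1
  | 11 => .c2
  | 12 => .c3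
  | 13 => .c4
  | 14 => .c5
  | 15 => .u
  | 16 => .x23
  | 17 => .x24
  | 18 => .x25
  | 19 => .x29
  | 20 => .x47
  | 21 => .x96
  | 22 => .x129
  | 23 => .x162
  | 24 => .x163
  | 25 => .x164
  | 26 => .x165
  | 27 => .x166
  | 28 => .x167
  | 29 => .x168
  | 30 => .x169
  | 31 => .x364
  | 32 => .x365
  | 33 => .x366
  | 34 => .x367
  | 35 => .x368
  | 36 => .x369
  | 37 => .x370
  | _ => .x371

def idx : Spor.Ly.Gen → ℕ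
  | .a => 0
  | .b => 1
  | .c => 2
  | .d => 3
  | .z => 4
  | .e => 5
  | .a1 => 6
  | .a2 => 7
  | .a3 => 8
  | .a4 => 9
  | .c1 => 10
  | .c2 => 11
  | .c3 => 12
  | .c4 => 13
  | .c5 => 14
  | .u => 15
  | .x23 => 16
  | .x24 => 17
  | .x25 => 18
  | .x29 => 19
  | .x47 => 20
  | .x96 => 21
  | .x129 => 22
  | .x162 => 23
  | .x163 => 24
  | .x164 => 25
  | .x165 => 26
  | .x166 => 27
  | .x167 => 28
  | .x168 => 29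
  | .x169 => 30
  | .x364 => 31
  | .x365 => 32
  | .x366 => 33
  | .x367 => 34
  | .x368 => 35
  | .x369 => 36
  | .x370 => 37
  | .x371 => 38

def es : List E := [(.pow (.g 0) 8),
  (.pow (.g 1) 5),
  (.pow (.mul (.g 0) (.g 1)) 4),
  (.mul (.mul (.mul (.inv (.pow (.g 0) 2)) (.inv (.g 1))) (.pow (.g 0) 2)) (.g 1)),
  (.pow (.mul (.mul (.mul (.inv (.g 0)) (.inv (.g 1))) (.g 0)) (.g 1)) 3),
  (.mul (.g 10) (.inv (.g 2))),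
  (.mul (.g 11) (.inv (.mul (.mul (.inv (.g 0)) (.g 2)) (.g 0)))),
  (.mul (.g 12) (.inv (.mul (.mul (.inv (.g 1)) (.g 2)) (.g 1)))),
  (.mul (.g 13) (.inv (.mul (.mul (.inv (.inv (.g 1))) (.g 2)) (.inv (.g 1))))),
  (.mul (.g 14) (.inv (.mul (.mul (.mul (.inv (.g 10)) (.inv (.g 11))) (.g 10)) (.g 11)))),
  (.pow (.g 10) 5),
  (.pow (.g 14) 5),
  (.mul (.mul (.mul (.inv (.g 10)) (.inv (.g 14))) (.g 10)) (.g 14)),
  (.mul (.mul (.mul (.inv (.g 11)) (.inv (.g 14))) (.g 11)) (.g 14)),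
  (.mul (.mul (.mul (.inv (.g 12)) (.inv (.g 14))) (.g 12)) (.g 14)),
  (.mul (.mul (.mul (.inv (.g 13)) (.inv (.g 14))) (.g 13)) (.g 14)),
  (.mul (.mul (.mul (.mul (.inv (.g 10)) (.inv (.g 12))) (.g 10)) (.g 12)) (.inv (.inv (.pow (.g 14) 2)))),
  (.mul (.mul (.mul (.mul (.inv (.g 10)) (.inv (.g 13))) (.g 10)) (.g 13)) (.inv (.pow (.g 14) 2))),
  (.mul (.mul (.mul (.mul (.inv (.g 11)) (.inv (.g 12))) (.g 11)) (.g 12)) (.inv (.inv (.g 14)))),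
  (.mul (.mul (.mul (.inv (.g 11)) (.inv (.g 13))) (.g 11)) (.g 13)),
  (.mul (.mul (.mul (.mul (.inv (.g 12)) (.inv (.g 13))) (.g 12)) (.g 13)) (.inv (.inv (.g 14)))),
  (.mul (.mul (.mul (.inv (.g 0)) (.g 11)) (.g 0)) (.inv (.inv (.pow (.g 10) 2)))),
  (.mul (.mul (.mul (.inv (.g 0)) (.g 12)) (.g 0)) (.inv (.mul (.mul (.inv (.pow (.g 12) 2)) (.g 10)) (.g 13)))),
  (.mul (.mul (.mul (.inv (.g 0)) (.g 13)) (.g 0)) (.inv (.mul (.mul (.mul (.mul (.mul (.g 10) (.inv (.g 11))) (.inv (.g 12))) (.g 13)) (.g 10)) (.g 13)))),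
  (.mul (.mul (.mul (.inv (.g 0)) (.g 14)) (.g 0)) (.inv (.pow (.g 14) 2))),
  (.mul (.mul (.mul (.inv (.g 1)) (.g 11)) (.g 1)) (.inv (.mul (.mul (.mul (.mul (.g 11) (.g 12)) (.inv (.g 13))) (.inv (.g 10))) (.inv (.g 13))))),
  (.mul (.mul (.mul (.inv (.g 1)) (.g 12)) (.g 1)) (.inv (.mul (.mul (.pow (.g 10) 2) (.g 13)) (.inv (.pow (.g 12) 2))))),
  (.mul (.mul (.mul (.inv (.g 1)) (.g 14)) (.g 1)) (.inv (.g 14))),
  (.mul (.g 5) (.inv (.mul (.mul (.mul (.mul (.mul (.mul (.mul (.mul (.mul (.mul (.mul (.mul (.inv (.pow (.g 1) 2)) (.mul (.mul (.mul (.inv (.g 0)) (.inv (.g 10))) (.g 0)) (.g 10))) (.inv (.g 0))) (.g 10)) (.g 0)) (.g 3)) (.g 10)) (.g 1)) (.g 0)) (.inv (.g 1))) (.g 3)) (.g 10)) (.g 3)))),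
  (.pow (.g 5) 2),
  (.mul (.mul (.mul (.inv (.g 5)) (.g 10)) (.g 5)) (.inv (.mul (.mul (.mul (.g 1) (.g 12)) (.g 1)) (.inv (.g 10))))),
  (.mul (.mul (.mul (.inv (.g 5)) (.g 12)) (.g 5)) (.inv (.mul (.mul (.mul (.mul (.mul (.pow (.g 1) 2) (.g 0)) (.g 11)) (.inv (.g 10))) (.inv (.g 13))) (.inv (.g 0))))),
  (.mul (.mul (.mul (.inv (.g 5)) (.g 13)) (.g 5)) (.inv (.mul (.mul (.pow (.g 1) 2) (.inv (.g 12))) (.g 13)))),
  (.mul (.mul (.mul (.inv (.g 5)) (.g 14)) (.g 5)) (.inv (.mul (.mul (.mul (.g 10) (.inv (.g 12))) (.g 10)) (.inv (.g 13))))),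
  (.mul (.mul (.mul (.g 5) (.pow (.g 0) 2)) (.g 5)) (.inv (.mul (.mul (.mul (.mul (.mul (.mul (.mul (.g 0) (.pow (.g 1) 2)) (.g 0)) (.inv (.g 1))) (.g 0)) (.g 10)) (.g 14)) (.inv (.g 13))))),
  (.mul (.mul (.mul (.inv (.g 5)) (.g 1)) (.g 5)) (.inv (.mul (.mul (.g 10) (.inv (.g 12))) (.inv (.pow (.g 13) 2))))),
  (.mul (.mul (.mul (.mul (.mul (.mul (.mul (.g 5) (.g 0)) (.pow (.g 1) 2)) (.g 0)) (.inv (.g 1))) (.g 0)) (.g 5)) (.inv (.mul (.mul (.mul (.pow (.g 0) 2) (.g 10)) (.g 14)) (.inv (.g 13))))),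
  (.mul (.mul (.mul (.mul (.mul (.mul (.mul (.mul (.mul (.g 5) (.g 11)) (.g 5)) (.inv (.g 11))) (.g 5)) (.g 11)) (.inv (.g 13))) (.g 0)) (.g 12)) (.pow (.g 0) 3)),
  (.mul (.g 3) (.inv (.mul (.mul (.mul (.mul (.mul (.mul (.mul (.mul (.mul (.mul (.mul (.mul (.mul (.mul (.g 0) (.pow (.g 1) 2)) (.inv (.g 0))) (.inv (.g 1))) (.inv (.g 10))) (.inv (.g 13))) (.inv (.g 14))) (.g 0)) (.g 5)) (.g 0)) (.g 5)) (.g 0)) (.inv (.g 11))) (.g 1)) (.g 5)))),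
  (.mul (.pow (.g 3) 2) (.inv (.pow (.g 0) 4))),
  (.mul (.mul (.mul (.inv (.g 1)) (.inv (.g 3))) (.g 1)) (.g 3)),
  (.mul (.mul (.mul (.inv (.g 3)) (.g 0)) (.g 3)) (.inv (.pow (.g 0) 3))),
  (.pow (.mul (.g 3) (.g 14)) 5),
  (.mul (.mul (.mul (.mul (.mul (.mul (.g 3) (.g 14)) (.g 3)) (.inv (.g 14))) (.g 3)) (.g 14)) (.inv (.pow (.g 0) 2))),
  (.mul (.g 6) (.inv (.g 0))),
  (.mul (.g 7) (.inv (.mul (.mul (.inv (.inv (.g 1))) (.g 0)) (.inv (.g 1))))),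
  (.mul (.g 8) (.inv (.mul (.mul (.inv (.inv (.pow (.g 1) 2))) (.g 0)) (.inv (.pow (.g 1) 2))))),
  (.mul (.g 9) (.inv (.mul (.mul (.inv (.pow (.g 1) 2)) (.g 0)) (.pow (.g 1) 2)))),
  (.mul (.g 15) (.inv (.pow (.g 0) 2))),
  (.mul (.g 16) (.inv (.g 3))),
  (.mul (.g 17) (.inv (.inv (.g 3)))),
  (.mul (.g 18) (.inv (.mul (.mul (.mul (.mul (.mul (.mul (.mul (.mul (.mul (.mul (.mul (.mul (.mul (.mul (.mul (.pow (.g 1) 2) (.inv (.g 0))) (.inv (.g 1))) (.inv (.g 0))) (.pow (.g 1) 2)) (.inv (.g 2))) (.g 0)) (.g 2)) (.inv (.g 0))) (.inv (.g 2))) (.g 3)) (.inv (.g 2))) (.pow (.g 1) 2)) (.inv (.g 0))) (.g 2)) (.g 1)))),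
  (.mul (.g 19) (.inv (.mul (.mul (.mul (.mul (.mul (.mul (.mul (.mul (.mul (.mul (.mul (.mul (.mul (.mul (.mul (.mul (.mul (.mul (.g 0) (.g 1)) (.inv (.g 0))) (.pow (.g 1) 2)) (.inv (.g 0))) (.pow (.g 1) 2)) (.inv (.g 2))) (.g 0)) (.g 2)) (.g 1)) (.g 2)) (.inv (.g 1))) (.g 3)) (.g 2)) (.inv (.pow (.g 1) 2))) (.g 3)) (.g 2)) (.g 1)) (.g 2)))),
  (.mul (.g 20) (.inv (.mul (.mul (.mul (.mul (.mul (.mul (.mul (.inv (.g 2)) (.inv (.g 3))) (.inv (.g 0))) (.inv (.g 2))) (.inv (.g 0))) (.g 1)) (.inv (.g 2))) (.inv (.g 3))))),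
  (.mul (.g 21) (.inv (.mul (.g 1) (.g 3)))),
  (.mul (.g 22) (.inv (.mul (.inv (.g 3)) (.inv (.g 1))))),
  (.mul (.g 23) (.inv (.mul (.mul (.mul (.mul (.mul (.mul (.mul (.mul (.mul (.inv (.g 0)) (.inv (.g 1))) (.inv (.g 0))) (.g 1)) (.inv (.g 2))) (.inv (.g 1))) (.g 0)) (.inv (.g 2))) (.g 1)) (.g 0)))),
  (.mul (.g 24) (.inv (.mul (.mul (.mul (.mul (.mul (.mul (.inv (.pow (.g 1) 2)) (.g 0)) (.g 2)) (.inv (.g 0))) (.g 1)) (.g 2)) (.g 1)))),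
  (.mul (.g 25) (.inv (.mul (.mul (.mul (.mul (.mul (.mul (.inv (.g 0)) (.inv (.g 1))) (.inv (.g 0))) (.g 2)) (.g 0)) (.g 1)) (.g 0)))),
  (.mul (.g 26) (.inv (.mul (.mul (.mul (.mul (.mul (.mul (.inv (.g 1)) (.inv (.g 0))) (.g 1)) (.g 2)) (.inv (.g 1))) (.g 0)) (.g 1)))),
  (.mul (.g 27) (.inv (.mul (.mul (.mul (.mul (.mul (.mul (.mul (.mul (.pow (.g 1) 2) (.inv (.g 0))) (.inv (.g 1))) (.g 2)) (.g 1)) (.g 0)) (.g 2)) (.inv (.pow (.g 1) 2))) (.inv (.g 2))))),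
  (.mul (.g 28) (.inv (.inv (.pow (.g 0) 3)))),
  (.mul (.g 29) (.inv (.mul (.mul (.mul (.g 1) (.inv (.g 0))) (.inv (.g 1))) (.inv (.pow (.g 0) 2))))),
  (.mul (.g 30) (.inv (.mul (.mul (.mul (.mul (.g 0) (.pow (.g 1) 2)) (.g 0)) (.inv (.pow (.g 1) 2))) (.inv (.g 0))))),
  (.mul (.g 31) (.inv (.mul (.mul (.mul (.mul (.mul (.mul (.mul (.mul (.mul (.mul (.mul (.mul (.mul (.mul (.mul (.mul (.mul (.mul (.inv (.g 0)) (.g 3)) (.inv (.g 1))) (.inv (.g 2))) (.inv (.g 0))) (.g 1)) (.inv (.g 2))) (.inv (.g 3))) (.g 1)) (.inv (.g 2))) (.inv (.g 1))) (.inv (.g 0))) (.inv (.g 2))) (.g 0)) (.inv (.g 1))) (.g 0)) (.g 1)) (.g 0)) (.inv (.g 1))))),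
  (.mul (.g 32) (.inv (.mul (.mul (.mul (.mul (.mul (.mul (.mul (.mul (.mul (.mul (.mul (.mul (.mul (.mul (.mul (.mul (.g 0) (.inv (.pow (.g 1) 2))) (.inv (.g 0))) (.g 2)) (.g 1)) (.inv (.g 2))) (.g 1)) (.inv (.g 0))) (.inv (.pow (.g 2) 2))) (.g 3)) (.g 2)) (.g 0)) (.g 2)) (.inv (.g 0))) (.g 2)) (.inv (.g 1))) (.inv (.g 3))))),
  (.mul (.g 33) (.inv (.mul (.mul (.mul (.mul (.mul (.mul (.mul (.mul (.mul (.mul (.mul (.mul (.mul (.mul (.mul (.mul (.mul (.g 1) (.g 0)) (.inv (.g 1))) (.inv (.g 0))) (.inv (.pow (.g 1) 2))) (.inv (.g 0))) (.inv (.g 1))) (.g 2)) (.pow (.g 1) 2)) (.g 2)) (.g 1)) (.g 3)) (.g 2)) (.inv (.pow (.g 1) 2))) (.g 3)) (.g 2)) (.g 1)) (.g 2)))),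
  (.mul (.g 34) (.inv (.mul (.mul (.mul (.mul (.mul (.mul (.mul (.mul (.mul (.mul (.mul (.mul (.mul (.mul (.mul (.mul (.mul (.inv (.g 2)) (.inv (.g 1))) (.inv (.g 2))) (.inv (.g 3))) (.pow (.g 1) 2)) (.inv (.g 2))) (.inv (.g 3))) (.inv (.g 1))) (.inv (.g 2))) (.inv (.pow (.g 1) 2))) (.inv (.g 2))) (.g 1)) (.g 0)) (.pow (.g 1) 2)) (.g 0)) (.g 1)) (.inv (.g 0))) (.inv (.g 1))))),
  (.mul (.g 35) (.inv (.mul (.mul (.mul (.mul (.mul (.mul (.mul (.mul (.mul (.mul (.mul (.mul (.mul (.mul (.mul (.mul (.mul (.inv (.g 0)) (.inv (.g 2))) (.inv (.g 3))) (.g 0)) (.inv (.g 2))) (.inv (.g 1))) (.g 0)) (.inv (.g 2))) (.inv (.g 3))) (.inv (.g 0))) (.inv (.g 2))) (.g 0)) (.g 2)) (.inv (.pow (.g 1) 2))) (.inv (.g 2))) (.inv (.g 1))) (.inv (.g 0))) (.inv (.pow (.g 1) 2))))),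
  (.mul (.g 36) (.inv (.mul (.mul (.mul (.mul (.mul (.mul (.mul (.mul (.mul (.mul (.mul (.mul (.mul (.mul (.mul (.mul (.inv (.g 0)) (.inv (.g 2))) (.inv (.g 3))) (.g 1)) (.inv (.g 0))) (.inv (.g 1))) (.inv (.g 2))) (.inv (.g 3))) (.g 1)) (.inv (.g 0))) (.inv (.g 1))) (.inv (.g 2))) (.inv (.g 1))) (.g 0)) (.inv (.pow (.g 1) 2))) (.g 0)) (.inv (.g 1))))),
  (.mul (.g 37) (.inv (.mul (.mul (.mul (.mul (.mul (.mul (.mul (.mul (.mul (.mul (.mul (.mul (.mul (.mul (.mul (.mul (.inv (.g 3)) (.g 0)) (.g 2)) (.g 1)) (.g 2)) (.inv (.g 0))) (.inv (.g 2))) (.inv (.g 3))) (.g 0)) (.inv (.g 1))) (.inv (.g 0))) (.g 2)) (.inv (.g 0))) (.inv (.pow (.g 1) 2))) (.inv (.g 0))) (.g 1)) (.inv (.g 0))))),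
  (.mul (.g 38) (.inv (.mul (.mul (.mul (.mul (.mul (.mul (.mul (.mul (.mul (.mul (.mul (.mul (.mul (.mul (.mul (.inv (.g 2)) (.inv (.g 0))) (.g 2)) (.g 1)) (.inv (.g 2))) (.inv (.g 3))) (.g 2)) (.inv (.g 0))) (.g 2)) (.g 0)) (.g 2)) (.inv (.g 1))) (.inv (.g 0))) (.inv (.g 1))) (.inv (.g 0))) (.g 1)))),
  (.mul (.mul (.mul (.inv (.g 4)) (.g 10)) (.g 4)) (.inv (.g 23))),
  (.mul (.mul (.mul (.inv (.g 4)) (.g 11)) (.g 4)) (.inv (.g 24))),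
  (.mul (.mul (.mul (.inv (.g 4)) (.g 12)) (.g 4)) (.inv (.g 25))),
  (.mul (.mul (.mul (.inv (.g 4)) (.g 13)) (.g 4)) (.inv (.g 26))),
  (.mul (.mul (.mul (.inv (.g 4)) (.g 14)) (.g 4)) (.inv (.g 27))),
  (.mul (.mul (.mul (.inv (.g 4)) (.g 6)) (.g 4)) (.inv (.g 28))),
  (.mul (.mul (.mul (.inv (.g 4)) (.g 7)) (.g 4)) (.inv (.g 29))),
  (.mul (.mul (.mul (.inv (.g 4)) (.g 8)) (.g 4)) (.inv (.g 30))),
  (.mul (.pow (.g 4) 2) (.inv (.g 15))),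
  (.mul (.pow (.mul (.g 9) (.g 4)) 3) (.g 15)),
  (.mul (.mul (.mul (.mul (.mul (.g 20) (.g 4)) (.g 31)) (.g 4)) (.g 35)) (.g 4)),
  (.mul (.mul (.mul (.mul (.mul (.mul (.mul (.inv (.g 4)) (.g 17)) (.inv (.g 4))) (.g 36)) (.g 4)) (.g 16)) (.g 4)) (.g 19)),
  (.mul (.mul (.mul (.mul (.mul (.mul (.mul (.g 4) (.g 33)) (.g 4)) (.g 32)) (.inv (.g 4))) (.g 34)) (.inv (.g 4))) (.g 37)),
  (.mul (.mul (.mul (.mul (.mul (.mul (.mul (.g 4) (.g 21)) (.g 4)) (.g 18)) (.inv (.g 4))) (.g 22)) (.inv (.g 4))) (.g 38))]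

/-- The generators a, b, c, d, z, e, a1, a2, a3, a4, c1, c2, c3, c4, c5, u, x23, x24, x25, x29, x47, x96, x129, x162, x163, x164, x165, x166, x167, x168, x169, x364, x365, x366, x367, x368, x369, x370, x371, numbered from 0. -/
def y (i : ℕ) : Spor.Ly := PresentedGroup.of (gen i)

/-- The defining relators as words. -/
def K : List (List ℕ) := allK Spor.Ly.edges idx es

/-- The generators that are involutions by a defining relator. -/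
def I : List ℕ := []

theorem hgi (x : Spor.Ly.Gen) : gen (idx x) = x := by cases x <;> rfl

theorem hex : Spor.Ly.extra = es.map (E.eval fun i => FreeGroup.of (gen i)) := by
  simp only [Spor.Ly.extra, es, List.map_cons, List.map_nil, E.eval, gen]

theorem hK : ∀ w ∈ K, wval y w = 1 := cox_rels hgi hex

theorem exists_hom {H : Type*} [Group H] (f : ℕ → H) (hf : ∀ w ∈ K, wval f w = 1) :
    ∃ φ : Spor.Ly →* H, ∀ i < 39, φ (y i) = f i :=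
  cox_hom 39 (by decide) hex (by decide +kernel) f hf

theorem gp_top {ws : List (List ℕ)} (h : (List.range 39).all (fun i => ws.contains [2 * i]) = true) :
    gp y ws = ⊤ := by
  simp only [List.all_eq_true, List.contains_iff_mem, List.mem_range] at h
  exact cox_gp_top hgi fun x => h _ (by cases x <;> decide)

theorem map_closure (fs : List E) (S : Set (FreeGroup Spor.Ly.Gen))
    (hS : S = {x | x ∈ fs.map (E.eval fun i => FreeGroup.of (gen i))}) :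
    (Subgroup.closure S).map (PresentedGroup.mk
      (Spor.coxRelators Spor.Ly.edges ∪ {r | r ∈ Spor.Ly.extra})) = gp y (fs.map E.toW) :=
  cox_map_closure fs S hS

end Cfsg.Agent.Lib.LyBase
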