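import Cfsg.Agent.Lib.DCEDefs

set_option autoImplicit false
set_option maxRecDepth 100000

namespace Cfsg.Agent.Lib.LyD
open Cfsg.Agent.Lib.PermNet Cfsg.Agent.Lib.DCE

noncomputable def f0 : FT := (.node (nat_lit 16) (.node (nat_lit 8) (.node (nat_lit 4) (.node (nat_lit 2) (.node (nat_lit 1) (.leaf ⟨0, 0, false, [0], []⟩)
  (.leaf ⟨0, 0, false, [2], []⟩))
  (.node (nat_lit 3) (.leaf ⟨0, 0, false, [4], []⟩)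
  (.leaf ⟨0, 0, false, [6], []⟩)))
  (.node (nat_lit 6) (.node (nat_lit 5) (.leaf ⟨0, 0, false, [8], []⟩)
  (.leaf ⟨0, 0, false, [10], []⟩))
  (.node (nat_lit 7) (.leaf ⟨0, 0, false, [12], []⟩)
  (.leaf ⟨0, 0, false, [14], []⟩))))
  (.node (nat_lit 12) (.node (nat_lit 10) (.node (nat_lit 9) (.leaf ⟨0, 0, false, [16], []⟩)
  (.leaf ⟨0, 0, false, [18], []⟩))
  (.node (nat_lit 11) (.leaf ⟨0, 0, false, [20], []⟩)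
  (.leaf ⟨0, 1, true, [], []⟩)))
  (.node (nat_lit 14) (.node (nat_lit 13) (.leaf ⟨1, 0, true, [], [1, 1]⟩)
  (.leaf ⟨1, 1, false, [1, 1, 1], []⟩))
  (.node (nat_lit 15) (.leaf ⟨1, 1, false, [13, 4, 11, 4], []⟩)
  (.leaf ⟨1, 1, false, [1, 3, 8, 2, 0], []⟩)))))
  (.node (nat_lit 24) (.node (nat_lit 20) (.node (nat_lit 18) (.node (nat_lit 17) (.leaf ⟨1, 1, false, [3, 24, 24, 1], []⟩)
  (.leaf ⟨1, 1, true, [0, 2], [22, 1, 23]⟩))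
  (.node (nat_lit 19) (.leaf ⟨1, 1, true, [9, 9, 16, 2], [16, 12, 21, 11, 9, 4, 25, 22, 0, 0]⟩)
  (.leaf ⟨1, 2, true, [6], []⟩)))
  (.node (nat_lit 22) (.node (nat_lit 21) (.leaf ⟨2, 1, true, [], [6, 1, 1]⟩)
  (.leaf ⟨2, 2, false, [0, 0, 0], []⟩))
  (.node (nat_lit 23) (.leaf ⟨2, 2, false, [1, 25, 23], []⟩)
  (.leaf ⟨2, 2, true, [1, 16], [16, 12, 21, 14, 4, 12, 25, 25, 3]⟩))))
  (.node (nat_lit 28) (.node (nat_lit 26) (.node (nat_lit 25) (.leaf ⟨2, 2, false, [21, 0, 4, 12, 24, 2, 25, 2, 0], []⟩)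
  (.leaf ⟨2, 2, true, [19, 8, 18, 12, 6], [7, 19, 11, 20, 11, 11, 12, 0, 5, 24, 3, 1, 2, 0]⟩))
  (.node (nat_lit 27) (.leaf ⟨2, 2, true, [18, 6, 8, 18, 2], [21, 0, 4, 6, 5, 2, 8, 4, 24, 3, 0]⟩)
  (.leaf ⟨1, 3, true, [16, 6], []⟩)))
  (.node (nat_lit 30) (.node (nat_lit 29) (.leaf ⟨3, 1, true, [], [21, 1, 10, 25, 23, 25, 2]⟩)
  (.leaf ⟨3, 3, false, [5, 5], []⟩))
  (.node (nat_lit 31) (.leaf ⟨3, 3, false, [5, 1, 22, 24], []⟩)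
  (.leaf ⟨3, 3, false, [0, 12, 1, 1, 1], []⟩))))))

noncomputable def f32 : FT := (.node (nat_lit 48) (.node (nat_lit 40) (.node (nat_lit 36) (.node (nat_lit 34) (.node (nat_lit 33) (.leaf ⟨3, 3, true, [3], [3, 1, 2]⟩)
  (.leaf ⟨3, 3, false, [2, 1, 9, 16, 1, 13, 3, 0, 4, 24, 2, 25, 1], []⟩))
  (.node (nat_lit 35) (.leaf ⟨3, 2, true, [16, 0, 20], [2, 1, 9, 16, 10, 13, 0, 4, 0, 0, 0]⟩)
  (.leaf ⟨2, 3, true, [21, 14, 20], [2, 0, 16, 5, 11, 11, 23, 25, 25, 0]⟩)))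
  (.node (nat_lit 38) (.node (nat_lit 37) (.leaf ⟨3, 2, true, [8, 5, 16], [16, 12, 21, 1, 13, 11, 4, 25, 2, 0]⟩)
  (.leaf ⟨2, 3, true, [16, 11, 21], [18, 21, 21, 6, 11, 8, 4, 1, 22, 24, 22, 0]⟩))
  (.node (nat_lit 39) (.leaf ⟨3, 3, false, [18, 21, 14, 21, 10, 10, 2, 8, 2, 25, 25, 3], []⟩)
  (.leaf ⟨2, 3, true, [6, 12, 8, 19, 3], [9, 21, 7, 19, 12, 3, 11, 9, 24, 23, 1]⟩))))
  (.node (nat_lit 44) (.node (nat_lit 42) (.node (nat_lit 41) (.leaf ⟨3, 2, true, [1, 9, 11, 19], [21, 12, 12, 6, 4, 3, 9, 4, 25, 23, 25, 0]⟩)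
  (.leaf ⟨2, 3, true, [19, 15, 0, 10, 6], [16, 18, 10, 6, 4, 12, 4, 8, 24, 23, 1, 23, 1]⟩))
  (.node (nat_lit 43) (.leaf ⟨3, 2, true, [18, 12, 2, 12, 6], [15, 4, 0, 19, 11, 9, 3, 11, 25, 22, 25, 1]⟩)
  (.leaf ⟨3, 3, true, [14, 8, 16, 20, 2], [18, 16, 9, 6, 13, 9, 3, 10, 1, 2, 1, 23]⟩)))
  (.node (nat_lit 46) (.node (nat_lit 45) (.leaf ⟨3, 3, true, [19, 15, 8, 6], [4, 12, 3, 9, 6, 10, 10, 8, 5, 3, 1, 2, 0]⟩)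
  (.leaf ⟨3, 3, true, [16, 13, 16, 20], [1, 2, 13, 6, 1, 10, 9, 5, 25, 0, 0]⟩))
  (.node (nat_lit 47) (.leaf ⟨3, 3, true, [19, 14, 21, 15, 6], [12, 0, 12, 19, 13, 13, 4, 24, 23, 24, 0]⟩)
  (.leaf ⟨1, 4, true, [6, 2], []⟩)))))
  (.node (nat_lit 56) (.node (nat_lit 52) (.node (nat_lit 50) (.node (nat_lit 49) (.leaf ⟨4, 1, true, [], [6, 1, 25, 0]⟩)
  (.leaf ⟨4, 4, false, [1, 2, 25, 0], []⟩))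
  (.node (nat_lit 51) (.leaf ⟨4, 4, false, [1], []⟩)
  (.leaf ⟨4, 2, true, [3], [3, 1, 2]⟩)))
  (.node (nat_lit 54) (.node (nat_lit 53) (.leaf ⟨2, 4, true, [2], [22, 24, 24, 1]⟩)
  (.leaf ⟨4, 4, true, [3, 3], [22, 0, 3, 0]⟩))
  (.node (nat_lit 55) (.leaf ⟨4, 4, true, [3, 16, 21], [21, 1, 14, 19, 0, 15, 11, 24, 1, 25]⟩)
  (.leaf ⟨4, 4, true, [16, 14, 21], [16, 5, 21, 8, 10, 8, 5, 0, 24, 3, 0]⟩))))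
  (.node (nat_lit 60) (.node (nat_lit 58) (.node (nat_lit 57) (.leaf ⟨4, 4, true, [16, 4, 12, 21], [21, 1, 14, 19, 15, 8, 2, 9, 24, 24, 3, 24]⟩)
  (.leaf ⟨4, 2, true, [16, 1, 20], [16, 12, 21, 12, 1, 9, 5, 0, 3, 24, 0]⟩))
  (.node (nat_lit 59) (.leaf ⟨2, 4, true, [16, 4, 21, 2], [16, 1, 20, 11, 13, 13, 0, 5, 25, 22, 0, 22]⟩)
  (.leaf ⟨4, 4, true, [16, 15, 21, 2], [19, 21, 21, 12, 8, 2, 12, 24, 23, 24, 24, 1]⟩)))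
  (.node (nat_lit 62) (.node (nat_lit 61) (.leaf ⟨4, 3, true, [13, 16, 21], [16, 5, 21, 5, 2, 9, 4, 22, 1, 22, 25]⟩)
  (.leaf ⟨3, 4, true, [16, 12, 12, 21], [21, 1, 14, 19, 14, 12, 8, 25, 23, 1]⟩))
  (.node (nat_lit 63) (.leaf ⟨4, 3, true, [16, 21, 3, 3], [1, 8, 16, 12, 8, 1, 10, 4, 22, 24, 0, 0]⟩)
  (.leaf ⟨3, 4, true, [9, 4, 16], [16, 12, 21, 10, 0, 10, 4, 25, 1, 23]⟩))))))

noncomputable def f64 : FT := (.node (nat_lit 78) (.node (nat_lit 71) (.node (nat_lit 67) (.node (nat_lit 65) (.leaf ⟨4, 4, true, [3, 21, 4, 8, 6], [5, 5, 20, 2, 12, 0, 5, 23, 1, 1]⟩)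
  (.node (nat_lit 66) (.leaf ⟨4, 4, true, [19, 20, 19, 19], [13, 16, 5, 19, 2, 12, 12, 1, 23, 24, 3]⟩)
  (.leaf ⟨4, 4, true, [18, 2, 0, 19], [8, 4, 8, 21, 13, 11, 2, 0, 4, 24, 22, 25, 25]⟩)))
  (.node (nat_lit 69) (.node (nat_lit 68) (.leaf ⟨4, 4, true, [19, 13, 9, 19], [5, 6, 12, 6, 3, 8, 4, 4, 23, 25, 2]⟩)
  (.leaf ⟨4, 4, true, [16, 4, 12, 6], [11, 16, 4, 6, 10, 8, 5, 12, 25, 22, 25, 0, 0]⟩))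
  (.node (nat_lit 70) (.leaf ⟨3, 4, true, [2, 0, 18, 6], [0, 20, 14, 2, 0, 4, 23, 1, 25]⟩)
  (.leaf ⟨4, 3, true, [16, 15, 4, 4, 6], [0, 19, 4, 6, 2, 0, 15, 12, 22, 25, 25, 1]⟩))))
  (.node (nat_lit 74) (.node (nat_lit 72) (.leaf ⟨2, 4, true, [4, 21, 11, 6], [19, 3, 8, 6, 5, 10, 2, 12, 23, 24, 22]⟩)
  (.node (nat_lit 73) (.leaf ⟨4, 2, true, [11, 19, 21, 6, 3], [13, 13, 11, 6, 4, 12, 9, 4, 25, 3, 1]⟩)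
  (.leaf ⟨4, 4, true, [3, 16, 10, 19, 2], [0, 13, 21, 21, 9, 1, 12, 8, 0, 23, 24, 3]⟩)))
  (.node (nat_lit 76) (.node (nat_lit 75) (.leaf ⟨4, 4, true, [5, 11, 20, 20], [10, 0, 16, 6, 4, 10, 10, 8, 3, 24, 0, 0]⟩)
  (.leaf ⟨3, 4, true, [15, 21, 8, 16], [7, 4, 8, 6, 15, 12, 0, 5, 23, 0, 23, 0]⟩))
  (.node (nat_lit 77) (.leaf ⟨4, 3, true, [8, 4, 0, 16, 6], [12, 18, 2, 9, 6, 8, 8, 3, 9, 25, 23, 25, 0]⟩)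
  (.leaf ⟨4, 4, true, [10, 8, 3, 16, 6], [5, 16, 12, 6, 8, 3, 1, 13, 4, 0, 24, 23, 25, 0]⟩)))))
  (.node (nat_lit 85) (.node (nat_lit 81) (.node (nat_lit 79) (.leaf ⟨4, 4, false, [13, 3, 0, 19, 10, 5, 0, 4, 22, 0, 3, 24], []⟩)
  (.node (nat_lit 80) (.leaf ⟨4, 4, true, [3, 11, 16, 14, 6], [11, 16, 4, 6, 2, 12, 4, 8, 25, 3, 0, 0]⟩)
  (.leaf ⟨4, 4, true, [21, 2, 8, 6, 2], [5, 6, 19, 11, 13, 11, 24, 24, 3, 1]⟩)))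
  (.node (nat_lit 83) (.node (nat_lit 82) (.leaf ⟨3, 4, true, [10, 20, 4, 20, 3], [11, 11, 16, 6, 9, 0, 13, 3, 0, 22, 0]⟩)
  (.leaf ⟨4, 3, true, [8, 2, 19, 19], [4, 16, 5, 19, 11, 0, 11, 4, 24, 24, 23]⟩))
  (.node (nat_lit 84) (.leaf ⟨3, 4, true, [2, 20, 11, 6], [19, 16, 9, 6, 13, 3, 11, 3, 24, 1]⟩)
  (.leaf ⟨4, 3, true, [2, 13, 16, 19, 2], [11, 19, 14, 19, 15, 13, 10, 25, 0, 24, 0]⟩))))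
  (.node (nat_lit 88) (.node (nat_lit 86) (.leaf ⟨3, 4, true, [20, 4, 3, 0, 19], [15, 3, 16, 6, 12, 0, 10, 12, 0, 23, 24, 3, 0]⟩)
  (.node (nat_lit 87) (.leaf ⟨4, 3, true, [9, 2, 18, 6, 2], [9, 3, 21, 19, 5, 8, 3, 11, 23, 24, 24, 0]⟩)
  (.leaf ⟨4, 4, true, [12, 18, 9, 16, 2], [15, 9, 20, 13, 0, 12, 4, 4, 0, 23, 0, 23]⟩)))
  (.node (nat_lit 90) (.node (nat_lit 89) (.leaf ⟨4, 4, true, [7, 15, 4, 20], [4, 11, 4, 6, 12, 1, 8, 10, 5, 1, 23, 24]⟩)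
  (.leaf ⟨4, 4, true, [10, 12, 19, 6, 19], [10, 13, 16, 6, 0, 12, 10, 8, 23, 1, 1]⟩))
  (.node (nat_lit 91) (.leaf ⟨3, 4, true, [12, 0, 11, 19], [14, 8, 21, 6, 14, 8, 5, 3, 0, 22, 0]⟩)
  (.leaf ⟨4, 3, true, [13, 11, 21, 18, 2], [10, 18, 8, 16, 8, 3, 0, 4, 24, 23, 24, 24, 0]⟩))))))



end Cfsg.Agent.Lib.LyD
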