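import Cfsg.Agent.Lib.LyGN0

set_option autoImplicit false
set_option maxRecDepth 100000

namespace Cfsg.Agent.Lib.LyG
open Cfsg.Agent.Lib.PermNet

noncomputable def nets : NL := (.cons net0 (.cons net1 (.cons net2 (.cons net3 (.cons net4 (.cons net5 (.cons net6 (.cons net7 (.cons net8 .nil)))))))))

theorem hv : nets.Valid 3906 := ⟨valid0, ⟨valid1, ⟨valid2, ⟨valid3, ⟨valid4, ⟨valid5, ⟨valid6, ⟨valid7, ⟨valid8, trivial⟩⟩⟩⟩⟩⟩⟩⟩⟩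

def rels0 : List (List Nat × List Nat) := [([0, 0, 0, 0], [1, 1, 1, 1]),
  ([2, 2, 2], [3, 3]),
  ([0, 2, 0, 2], [3, 1, 3, 1]),
  ([1, 1, 3], [3, 1, 1]),
  ([1, 3, 0, 2, 1, 3], [3, 1, 2, 0, 3, 1]),
  ([8, 1], [1, 4]),
  ([10, 3], [3, 4]),
  ([12, 2], [2, 4]),
  ([14, 9, 5], [5, 9]),
  ([4, 4, 4], [5, 5]),
  ([14, 14, 14], [15, 15]),
  ([5, 15], [15, 5]),
  ([9, 15], [15, 9]),
  ([11, 15], [15, 11]),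
  ([13, 15], [15, 13]),
  ([5, 11, 4], [15, 15, 11]),
  ([5, 13, 4], [14, 14, 13]),
  ([9, 11, 8], [15, 11]),
  ([9, 13], [13, 9]),
  ([11, 13, 10], [15, 13]),
  ([1, 8, 0], [5, 5]),
  ([1, 10, 0, 13], [11, 11, 4]),
  ([1, 12, 0, 13, 5], [4, 9, 11, 12]),
  ([1, 14, 0], [14, 14]),
  ([3, 8, 2, 12], [8, 10, 13, 5]),
  ([3, 10, 2, 10], [4, 4, 12, 11]),
  ([3, 14], [14, 3]),
  ([16, 7, 5, 7, 2, 1, 3, 5, 7], [3, 3, 1, 5, 0, 4, 1, 4, 0]),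
  ([16], [17]),
  ([17, 4, 16, 4], [2, 10, 2]),
  ([17, 10, 16, 0, 12], [2, 2, 0, 8, 5]),
  ([17, 12, 16, 13], [2, 2, 11]),
  ([17, 14, 16, 12], [4, 11, 4]),
  ([16, 0, 0, 16, 12, 15, 5], [0, 2, 2, 0, 3, 0]),
  ([17, 2, 16, 12], [4, 11, 13]),
  ([16, 0, 2, 2, 0, 3, 0], [0, 0, 4, 14, 13, 17]),
  ([16, 8, 16, 9, 16, 8], [1, 1, 1, 11, 1, 12]),
  ([6, 17, 3, 8, 1, 17, 1, 17, 1], [0, 2, 2, 1, 3, 5, 13, 15]),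
  ([6, 6, 1], [0, 0, 0]),
  ([3, 7], [7, 3]),
  ([7, 0, 6], [0, 0, 0]),
  ([6, 14, 6, 14, 6], [15, 7, 15, 7, 15]),
  ([6, 14, 6, 15], [0, 0, 15, 7]),
  ([5, 11, 3, 6, 5, 11, 3, 6, 5, 11, 3, 6, 5, 11], [7, 2, 10, 4, 7, 2, 10, 4, 7, 2, 10, 4, 7, 2]),
  ([5, 11, 3, 6, 16, 5, 11, 3], [17, 7, 2, 10, 4, 17, 7]),
  ([16, 6, 16, 6, 16, 6, 16, 6, 16, 6, 16, 6, 16, 6, 16, 6, 16, 6, 16, 6, 16], [7, 17, 7, 17, 7, 17, 7, 17, 7, 17, 7, 17, 7, 17, 7, 17, 7, 17, 7, 17, 7]),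
  ([6, 6], [7, 7]),
  ([16, 0, 16, 0, 16, 0, 16, 0, 16, 0, 16, 0, 16, 0, 16, 0, 16, 0, 16, 0, 16, 0, 16, 0, 16, 0, 16, 0, 16, 0, 16], [1, 17, 1, 17, 1, 17, 1, 17, 1, 17, 1, 17, 1, 17, 1, 17, 1, 17, 1, 17, 1, 17, 1, 17, 1, 17, 1, 17, 1, 17, 1]),
  ([0, 4, 0, 4, 0, 4, 0, 4], [5, 1, 5, 1, 5, 1, 5, 1]),
  ([0, 8, 0, 8, 0, 8, 0, 8], [9, 1, 9, 1, 9, 1, 9, 1]),
  ([8, 8, 8], [9, 9]),
  ([0, 10, 0, 10, 0, 10, 0, 10], [11, 1, 11, 1, 11, 1, 11, 1]),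
  ([10, 10, 10], [11, 11]),
  ([0, 12, 0, 12, 0, 12, 0, 12], [13, 1, 13, 1, 13, 1, 13, 1]),
  ([12, 12, 12], [13, 13]),
  ([0, 14, 0, 14, 0, 14, 0, 14], [15, 1, 15, 1, 15, 1, 15, 1])]
def rels : List (List Nat × List Nat) := rels0

def defs : List (List Nat) := []

def allg : List (List Nat) := [[0], [2], [4], [6], [8], [10], [12], [14], [16]]

def hs : List (List Nat) := [[0], [2], [4], [8], [10], [12], [14]]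

end Cfsg.Agent.Lib.LyG
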