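import Cfsg.Agent.Lib.DCE2
import Cfsg.Agent.Lib.TCLyH1
import Cfsg.Agent.Lib.TCLyH2
import Cfsg.Agent.Lib.TCLyH3
import Cfsg.Agent.Lib.TCLyH4
import Cfsg.Agent.Lib.TCLyH5

/-! Presentations of the double covers of `A₈`, `A₁₁`, `S₈`. -/

set_option autoImplicit false
set_option maxRecDepth 100000

namespace Cfsg.Agent.Lib.LyK

open Cfsg.Agent.Lib.PermNet Cfsg.Agent.Lib.Words Cfsg.Agent.Lib.PermGroup Cfsg.Agent.Lib.DCE

def K8 : List (List ℕ) := [[0, 0, 0], [2, 2, 2], [4, 4, 4], [6, 6, 6], [8, 8, 8], [10, 10, 10], [0, 3, 0, 2, 1, 2], [0, 5, 0, 4, 1, 4], [0, 3, 0, 4, 1, 2, 1, 4], [0, 7, 0, 6, 1, 6], [4, 7, 4, 6, 5, 6], [0, 3, 0, 6, 1, 2, 1, 6], [0, 9, 0, 8, 1, 8], [4, 9, 4, 8, 5, 8], [6, 9, 6, 8, 7, 8], [0, 3, 0, 8, 1, 2, 1, 8], [0, 11, 0, 10, 1, 10], [4, 11, 4, 10, 5, 10], [6, 11, 6, 10, 7, 10], [8, 11, 8, 10, 9, 10], [0, 3, 0, 10, 1, 2, 1, 10]]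

def K1 : List (List ℕ) := K8 ++ [[12, 12, 12], [14, 14, 14], [0, 12, 1, 13], [2, 12, 3, 13], [4, 12, 5, 13], [6, 12, 7, 13], [8, 12, 9, 13], [10, 12, 11, 13], [0, 15, 0, 14, 1, 14], [4, 15, 4, 14, 5, 14], [6, 15, 6, 14, 7, 14], [8, 15, 8, 14, 9, 14], [10, 15, 10, 14, 11, 14], [0, 3, 0, 14, 1, 2, 1, 14], [13, 14, 12, 15, 13, 14, 12, 14, 13, 15, 12, 14], [14, 12, 14, 12, 14, 13, 15, 13, 15, 13]]

def KD : List (List ℕ) := [[12, 12, 12], [12, 0, 13, 1], [12, 2, 13, 3], [12, 4, 13, 5], [12, 6, 13, 7], [12, 8, 13, 9], [12, 10, 13, 11], [14, 14], [14, 12, 14, 12], [14, 0, 14, 8, 1, 9], [14, 2, 14, 9, 5, 1, 4, 8], [14, 4, 14, 9, 3, 1, 2, 8], [14, 6, 14, 9, 7, 1, 6, 8], [14, 8, 14, 9, 0, 8], [14, 10, 14, 10, 8, 1, 9, 11]]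

def KB : List (List ℕ) := K8 ++ KD ++ [[12]]

theorem b1 {X : Type*} [Group X] (z : ℕ → X) (hz : ∀ w ∈ K8, wval z w = 1) :
    (gp z []).relIndex (gp z [[0], [2], [4]]) ≠ 0 ∧
    (gp z []).relIndex (gp z [[0], [2], [4]]) ≤ 120 :=
  tc_wrap [] hz [[0], [1], [2], [3], [4], [5]] TCLyH1.bound _ _ (by decide +kernel)

theorem b2 {X : Type*} [Group X] (z : ℕ → X) (hz : ∀ w ∈ [0, 2, 0, 2] :: K8, wval z w = 1) :
    (gp z []).relIndex (gp z [[0], [2], [4]]) ≠ 0 ∧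
    (gp z []).relIndex (gp z [[0], [2], [4]]) ≤ 60 :=
  tc_wrap [] hz [[0], [1], [2], [3], [4], [5]] TCLyH2.bound _ _ (by decide +kernel)

theorem b3 {X : Type*} [Group X] (z : ℕ → X) (hz : ∀ w ∈ K8, wval z w = 1) :
    (gp z [[0], [2], [4]]).relIndex (gp z [[0], [2], [4], [6], [8], [10]]) ≠ 0 ∧
    (gp z [[0], [2], [4]]).relIndex (gp z [[0], [2], [4], [6], [8], [10]]) ≤ 336 :=
  tc_wrap [] hz [[0], [1], [2], [3], [4], [5], [6], [7], [8], [9], [10], [11]] TCLyH3.bound _ _ (by decide +kernel)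

theorem b4 {X : Type*} [Group X] (z : ℕ → X) (hz : ∀ w ∈ K1, wval z w = 1) :
    (gp z [[0], [2], [4], [6], [8], [10]]).relIndex (gp z [[0], [2], [4], [6], [8], [10], [12], [14]]) ≠ 0 ∧
    (gp z [[0], [2], [4], [6], [8], [10]]).relIndex (gp z [[0], [2], [4], [6], [8], [10], [12], [14]]) ≤ 990 :=
  tc_wrap [] hz [[0], [1], [2], [3], [4], [5], [6], [7], [8], [9], [10], [11], [12], [13], [14], [15]] TCLyH4.bound _ _ (by decide +kernel)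

theorem b5 {X : Type*} [Group X] (z : ℕ → X) (hz : ∀ w ∈ KB, wval z w = 1) :
    (gp z [[0], [2], [4], [6], [8], [10]]).relIndex (gp z [[0], [2], [4], [6], [8], [10], [12], [14]]) ≠ 0 ∧
    (gp z [[0], [2], [4], [6], [8], [10]]).relIndex (gp z [[0], [2], [4], [6], [8], [10], [12], [14]]) ≤ 2 :=
  tc_wrap [7] hz [[0], [1], [2], [3], [4], [5], [6], [7], [8], [9], [10], [11], [12], [13], [14]] TCLyH5.bound _ _ (by decide +kernel)

theorem card_le8 {X : Type*} [Group X] (z : ℕ → X) (hz : ∀ w ∈ K8, wval z w = 1) :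
    Nat.card (gp z (sing 6)) ≠ 0 ∧ Nat.card (gp z (sing 6)) ≤ 40320 :=
  (card_le_of_relIndex (gp_mono (by decide)) (b3 z hz)
    (card_le_of_relIndex (gp_mono (by decide)) (b1 z hz)
    (card_gp_nil z)))

theorem card_le {X : Type*} [Group X] (z : ℕ → X) (hz : ∀ w ∈ K1, wval z w = 1) :
    Nat.card (gp z (sing 8)) ≠ 0 ∧ Nat.card (gp z (sing 8)) ≤ 39916800 :=
  (card_le_of_relIndex (gp_mono (by decide)) (b4 z hz)
    (card_le8 z fun w h => hz w (List.mem_append_left _ h)))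

theorem card_le' {X : Type*} [Group X] (z : ℕ → X) (hz : ∀ w ∈ [0, 2, 0, 2] :: K1, wval z w = 1) :
    Nat.card (gp z (sing 8)) ≠ 0 ∧ Nat.card (gp z (sing 8)) ≤ 19958400 :=
  (card_le_of_relIndex (gp_mono (by decide)) (b4 z (fun w h => hz w (.tail _ h)))
    (card_le_of_relIndex (gp_mono (by decide)) (b3 z (fun w h => hz w (.tail _ (List.mem_append_left _ h))))
    (card_le_of_relIndex (gp_mono (by decide)) (b2 z (fun w h => hz w ((by decide : [0, 2, 0, 2] :: K8 ⊆ [0, 2, 0, 2] :: K1) h)))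
    (card_gp_nil z))))

theorem card_leB {X : Type*} [Group X] (z : ℕ → X) (hz : ∀ w ∈ KB, wval z w = 1) :
    Nat.card (gp z (sing 8)) ≠ 0 ∧ Nat.card (gp z (sing 8)) ≤ 80640 :=
  (card_le_of_relIndex (gp_mono (by decide)) (b5 z hz)
    (card_le8 z fun w h => hz w (List.mem_append_left _ (List.mem_append_left _ h))))

end Cfsg.Agent.Lib.LyK
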