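import Cfsg.Agent.Lib.LyMDT

/-! Consequences of the action on the centraliser of a four-group. -/

set_option autoImplicit false
set_option maxRecDepth 100000

namespace Cfsg.Agent.Lib.LyMD

open Cfsg.Agent.Lib.PermNet Cfsg.Agent.Lib.Words Cfsg.Agent.Lib.PermGroup Cfsg.Agent.Lib.DCE Cfsg.Agent.Lib.PermModel Cfsg.Agent.Lib.BT

def us4 : List (List ℕ) := [[14], [26], [20], [32], [16], [18]]

def usF : List (List ℕ) := [[9, 1, 4, 2], [14], [0, 5, 10, 6, 3, 8, 4, 2, 0, 2, 0, 2], [9, 1, 4, 2, 0, 5, 10, 6, 3, 8, 4, 2, 0, 2, 0, 2, 3, 5, 0, 8], [0, 2, 0, 2], [0, 3, 0, 9, 6, 11, 6, 4], [12], [2, 0, 11, 7, 4, 9, 4, 0, 2]]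

def vsF (k : ℕ) : List (List ℕ) := ([3, 5, 0, 8] ++ List.replicate k 12) :: [[14], [0, 5, 10, 6, 3, 8, 4, 2, 0, 2, 0, 2], [3, 5, 0, 8, 0, 5, 10, 6, 3, 8, 4, 2, 0, 2, 0, 2, 9, 1, 4, 2], [0, 3, 0, 9, 6, 11, 6, 4], [0, 2, 0, 2], [12], [2, 0, 11, 7, 4, 9, 4, 0, 2]]

def usA : List (List ℕ) := [[14], [26], [28], [16], [18], [12]]

def vsA : List (List ℕ) := [[14], [26], [26, 28], [18], [16], [12]]

def Wt : List (List ℕ) := [[0], [2], [4], [6], [8], [10], [13], [14, 0, 2, 0, 2]]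

variable {G : Type*} [Group G] {F : ℕ → G} {H : Subgroup G}
  {M : Model F H ⊥ (nat_lit 243) (nat_lit 8) (nat_lit 255) dtt B2 241920} (S : M.SD dch [16] [18]) {t : G}

noncomputable def ts_kr0 : List Tst := [⟨[], [⟨0, [0], [18], [18]⟩, ⟨0, [4], [20, 28], [28, 21]⟩], [⟨0, [2], [12], [12]⟩, ⟨0, [3], [13], [13]⟩, ⟨0, [0, 2], [18, 12], [18, 12]⟩]⟩,
  ⟨[⟨0, [3], [13], [13]⟩], [], []⟩,
  ⟨[], [⟨0, [0], [18], [18]⟩, ⟨0, [2], [12], [12]⟩], [⟨0, [4], [20, 28], [28, 21]⟩, ⟨0, [5], [29, 21], [20, 29]⟩, ⟨0, [0, 4], [18, 20, 28], [18, 28, 21]⟩]⟩,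
  ⟨[], [⟨0, [0], [18], [18]⟩, ⟨0, [2], [12], [12]⟩], [⟨0, [4], [20, 28], [28, 21]⟩, ⟨0, [5], [29, 21], [20, 29]⟩, ⟨0, [0, 4], [18, 20, 28], [18, 28, 21]⟩]⟩,
  ⟨[], [⟨0, [2], [12], [12]⟩], [⟨0, [0], [18], [18]⟩, ⟨0, [4], [20, 28], [28, 21]⟩, ⟨0, [5], [29, 21], [20, 29]⟩]⟩]

noncomputable def ct_kr0 : CT := .nil

theorem s_kr0 : solveB (nat_lit 8) (nat_lit 255) dtt (nat_lit 243) 500 B2 (fun _ => true) dch 0 []
    [[18], [12], [20, 28]] [[18], [12], [28, 21]] (prEq 500 [[18], [12], [20, 28]] [[18], [12], [28, 21]] ++ ([] : List (List ℕ))) [] [] (fun _ => false) id ts_kr0 ct_kr0 = true := by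
  decide +kernel

noncomputable def ts_kr1 : List Tst := [⟨[], [⟨0, [0], [18], [18]⟩, ⟨0, [4], [16, 24, 20], [21, 33, 16]⟩], [⟨0, [2], [12], [12]⟩, ⟨0, [3], [13], [13]⟩, ⟨0, [0, 2], [18, 12], [18, 12]⟩]⟩,
  ⟨[⟨0, [3], [13], [13]⟩], [], []⟩,
  ⟨[], [⟨0, [0], [18], [18]⟩, ⟨0, [2], [12], [12]⟩], [⟨0, [4], [16, 24, 20], [21, 33, 16]⟩, ⟨0, [5], [21, 25, 17], [17, 32, 20]⟩, ⟨0, [0, 4], [18, 16, 24, 20], [18, 21, 33, 16]⟩]⟩,
  ⟨[], [⟨0, [0], [18], [18]⟩, ⟨0, [2], [12], [12]⟩], [⟨0, [4], [16, 24, 20], [21, 33, 16]⟩, ⟨0, [5], [21, 25, 17], [17, 32, 20]⟩, ⟨0, [0, 4], [18, 16, 24, 20], [18, 21, 33, 16]⟩]⟩,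
  ⟨[], [⟨0, [2], [12], [12]⟩], [⟨0, [0], [18], [18]⟩, ⟨0, [0, 2], [18, 12], [18, 12]⟩, ⟨0, [0, 3], [18, 13], [18, 13]⟩]⟩]

noncomputable def ct_kr1 : CT := .nil

theorem s_kr1 : solveB (nat_lit 8) (nat_lit 255) dtt (nat_lit 243) 500 B2 (fun _ => true) dch 0 []
    [[18], [12], [16, 24, 20]] [[18], [12], [21, 33, 16]] (prEq 500 [[18], [12], [16, 24, 20]] [[18], [12], [21, 33, 16]] ++ ([] : List (List ℕ))) [] [] (fun _ => false) id ts_kr1 ct_kr1 = true := by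
  decide +kernel

noncomputable def ts_kr2 : List Tst := [⟨[], [⟨0, [0], [18], [18]⟩, ⟨0, [4], [16, 24, 20], [21, 32, 18]⟩], [⟨0, [2], [12], [12]⟩, ⟨0, [3], [13], [13]⟩, ⟨0, [0, 2], [18, 12], [18, 12]⟩]⟩,
  ⟨[⟨0, [3], [13], [13]⟩], [], []⟩,
  ⟨[], [⟨0, [0], [18], [18]⟩, ⟨0, [2], [12], [12]⟩], [⟨0, [4], [16, 24, 20], [21, 32, 18]⟩, ⟨0, [5], [21, 25, 17], [19, 33, 20]⟩, ⟨0, [0, 4], [18, 16, 24, 20], [18, 21, 32, 18]⟩]⟩,
  ⟨[], [⟨0, [0], [18], [18]⟩, ⟨0, [2], [12], [12]⟩], [⟨0, [4], [16, 24, 20], [21, 32, 18]⟩, ⟨0, [5], [21, 25, 17], [19, 33, 20]⟩, ⟨0, [0, 4], [18, 16, 24, 20], [18, 21, 32, 18]⟩]⟩,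
  ⟨[], [⟨0, [2], [12], [12]⟩], [⟨0, [0], [18], [18]⟩, ⟨0, [0, 2], [18, 12], [18, 12]⟩, ⟨0, [0, 3], [18, 13], [18, 13]⟩]⟩]

noncomputable def ct_kr2 : CT := .nil

theorem s_kr2 : solveB (nat_lit 8) (nat_lit 255) dtt (nat_lit 243) 500 B2 (fun _ => true) dch 0 []
    [[18], [12], [16, 24, 20]] [[18], [12], [21, 32, 18]] (prEq 500 [[18], [12], [16, 24, 20]] [[18], [12], [21, 32, 18]] ++ ([] : List (List ℕ))) [] [] (fun _ => false) id ts_kr2 ct_kr2 = true := by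
  decide +kernel

noncomputable def ts_ks02 : List Tst := [⟨[], [⟨0, [0], [18], [18]⟩, ⟨0, [4], [26], [26]⟩, ⟨0, [6], [20], [20]⟩, ⟨0, [2], [14], [14, 16, 18]⟩], [⟨0, [8], [32], [32]⟩, ⟨0, [9], [33], [33]⟩, ⟨0, [0, 8], [18, 32], [18, 32]⟩]⟩,
  ⟨[⟨0, [9], [33], [33]⟩], [], []⟩,
  ⟨[], [⟨0, [0], [18], [18]⟩, ⟨0, [4, 9], [26, 33], [26, 33]⟩, ⟨0, [7, 4, 6], [21, 26, 20], [21, 26, 20]⟩, ⟨0, [2, 6], [14, 20], [14, 16, 18, 20]⟩], [⟨0, [4], [26], [26]⟩, ⟨0, [6], [20], [20]⟩, ⟨0, [7], [21], [21]⟩]⟩,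
  ⟨[⟨0, [6, 9, 7], [20, 33, 21], [20, 33, 21]⟩], [], []⟩,
  ⟨[], [⟨0, [6, 4, 7], [20, 26, 21], [20, 26, 21]⟩], [⟨0, [0], [18], [18]⟩, ⟨0, [4], [26], [26]⟩, ⟨0, [6], [20], [20]⟩]⟩]

noncomputable def ct_ks02 : CT := .nil

theorem s_ks02 : solveB (nat_lit 8) (nat_lit 255) dtt (nat_lit 243) 500 B2 (fun _ => true) dch 0 []
    [[18], [14], [26], [20], [32]] [[18], [14, 16, 18], [26], [20], [32]] (prEq 500 [[18], [14], [26], [20], [32]] [[18], [14, 16, 18], [26], [20], [32]] ++ ([] : List (List ℕ))) [] [] (fun _ => false) id ts_ks02 ct_ks02 = true := by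
  decide +kernel

noncomputable def ts_cK : List Tst := [⟨[], [⟨0, [0], [18], [18]⟩, ⟨0, [2], [14], [14]⟩, ⟨0, [4], [26], [26]⟩, ⟨0, [6], [20], [20]⟩], [⟨0, [8], [32], [32]⟩, ⟨0, [9], [33], [33]⟩, ⟨0, [0, 8], [18, 32], [18, 32]⟩]⟩,
  ⟨[⟨0, [9], [33], [33]⟩], [], []⟩,
  ⟨[], [⟨0, [0], [18], [18]⟩, ⟨0, [2, 6], [14, 20], [14, 20]⟩, ⟨0, [4, 9], [26, 33], [26, 33]⟩], [⟨0, [2], [14], [14]⟩, ⟨0, [4], [26], [26]⟩, ⟨0, [6], [20], [20]⟩]⟩,
  ⟨[⟨0, [6, 9, 7], [20, 33, 21], [20, 33, 21]⟩], [], []⟩,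
  ⟨[], [⟨0, [6, 4, 7], [20, 26, 21], [20, 26, 21]⟩], [⟨0, [0], [18], [18]⟩, ⟨0, [2], [14], [14]⟩, ⟨0, [4], [26], [26]⟩]⟩]

noncomputable def ct_cK : CT := (.node 0 [] [] (nat_lit 0x0) (nd [(240, (nd [(241, (nd [(2, (nd [(119, (lf [(0, []), (238, [18])]))])),
  (139, (nd [(214, (lf [(154, [16]), (118, [18, 16])]))]))]))]))]) .nil)

theorem s_cK : solveB (nat_lit 8) (nat_lit 255) dtt (nat_lit 243) 500 B2 (fun _ => true) dch 0 []
    [[18], [14], [26], [20], [32]] [[18], [14], [26], [20], [32]] (prEq 500 [[18], [14], [26], [20], [32]] [[18], [14], [26], [20], [32]] ++ ([] : List (List ℕ))) [] [] (memLL [[], [16], [18], [18, 16]]) id ts_cK ct_cK = true := by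
  decide +kernel

noncomputable def ts_cA : List Tst := [⟨[], [⟨0, [0], [18], [18]⟩, ⟨0, [2], [14], [14]⟩, ⟨0, [4], [26], [26]⟩, ⟨0, [6], [28], [28]⟩], [⟨0, [8], [12], [12]⟩, ⟨0, [9], [13], [13]⟩, ⟨0, [0, 8], [18, 12], [18, 12]⟩]⟩,
  ⟨[⟨0, [9], [13], [13]⟩], [], []⟩,
  ⟨[], [⟨0, [0], [18], [18]⟩, ⟨0, [8], [12], [12]⟩, ⟨0, [4, 6], [26, 28], [26, 28]⟩, ⟨0, [2, 4, 2], [14, 26, 14], [14, 26, 14]⟩], [⟨0, [2], [14], [14]⟩, ⟨0, [4], [26], [26]⟩, ⟨0, [6], [28], [28]⟩]⟩,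
  ⟨[], [⟨0, [0], [18], [18]⟩, ⟨0, [8], [12], [12]⟩], [⟨0, [2], [14], [14]⟩, ⟨0, [4], [26], [26]⟩, ⟨0, [6], [28], [28]⟩]⟩,
  ⟨[], [⟨0, [6], [28], [28]⟩, ⟨0, [8], [12], [12]⟩], [⟨0, [0], [18], [18]⟩, ⟨0, [2], [14], [14]⟩, ⟨0, [4], [26], [26]⟩]⟩]

noncomputable def ct_cA : CT := (.node 0 [] [] (nat_lit 0x0) (nd [(240, (nd [(241, (nd [(2, (nd [(119, (lf [(0, []), (238, [18])]))])),
  (139, (nd [(214, (lf [(154, [16]), (118, [18, 16])]))]))]))]))]) .nil)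

theorem s_cA : solveB (nat_lit 8) (nat_lit 255) dtt (nat_lit 243) 500 B2 (fun _ => true) dch 0 []
    [[18], [14], [26], [28], [12]] [[18], [14], [26], [28], [12]] (prEq 500 [[18], [14], [26], [28], [12]] [[18], [14], [26], [28], [12]] ++ ([] : List (List ℕ))) [] [] (memLL [[], [16], [18], [18, 16]]) id ts_cA ct_cA = true := by
  decide +kernel

noncomputable def ts_cE : List Tst := [⟨[], [⟨0, [0], [18], [18]⟩, ⟨0, [2], [26], [26]⟩, ⟨0, [4], [28], [28]⟩], []⟩,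
  ⟨[], [⟨0, [0], [18], [18]⟩, ⟨0, [2], [26], [26]⟩, ⟨0, [4], [28], [28]⟩], []⟩,
  ⟨[], [⟨0, [0], [18], [18]⟩, ⟨0, [2, 4], [26, 28], [26, 28]⟩], [⟨0, [2], [26], [26]⟩, ⟨0, [4], [28], [28]⟩, ⟨0, [0, 2], [18, 26], [18, 26]⟩]⟩,
  ⟨[], [⟨0, [0], [18], [18]⟩], [⟨0, [2], [26], [26]⟩, ⟨0, [4], [28], [28]⟩, ⟨0, [0, 2], [18, 26], [18, 26]⟩]⟩,
  ⟨[], [⟨0, [4], [28], [28]⟩], [⟨0, [0], [18], [18]⟩, ⟨0, [2], [26], [26]⟩, ⟨0, [0, 2], [18, 26], [18, 26]⟩]⟩]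

noncomputable def ct_cE : CT := (.node 0 [] [] (nat_lit 0x0) (nd [(240, (nd [(241, (nd [(2, (nd [(119, (lf [(0, []), (238, [18])])),
  (214, (lf [(118, [26, 18, 28]), (154, [26, 28])]))])),
  (139, (nd [(214, (lf [(154, [16]), (118, [16, 18])])),
  (119, (lf [(238, [32, 26, 33, 28]), (0, [26, 16, 28])]))])),
  (237, (nd [(83, (lf [(238, [18, 28]), (0, [28])])),
  (16, (lf [(118, [26, 18]), (154, [26])]))])),
  (106, (nd [(16, (lf [(154, [16, 28]), (118, [16, 18, 28])])),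
  (83, (lf [(0, [26, 16]), (238, [32, 26, 33])]))]))]))])),
  (242, (nd [(240, (nd [(2, (nd [(119, (lf [(0, [13]), (238, [18, 13])])),
  (214, (lf [(118, [32, 28, 32, 26]), (154, [26, 13, 28])]))])),
  (139, (nd [(214, (lf [(154, [16, 13]), (118, [32, 32])])),
  (119, (lf [(238, [32, 32, 26, 28]), (0, [32, 26, 28, 32])]))])),
  (237, (nd [(83, (lf [(238, [32, 28, 32]), (0, [13, 28])])),
  (16, (lf [(118, [26, 18, 13]), (154, [26, 13])]))])),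
  (106, (nd [(16, (lf [(154, [33, 28, 24]), (118, [32, 32, 28])])),
  (83, (lf [(0, [26, 16, 13]), (238, [32, 32, 26])]))]))]))])),
  (241, (nd [(242, (nd [(2, (nd [(119, (lf [(0, [12]), (238, [18, 12])])),
  (214, (lf [(118, [32, 26, 28, 25]), (154, [26, 12, 28])]))])),
  (139, (nd [(214, (lf [(154, [16, 12]), (118, [32, 24])])),
  (119, (lf [(238, [32, 26, 25, 28]), (0, [32, 26, 28, 24])]))])),
  (237, (nd [(83, (lf [(238, [32, 28, 24]), (0, [12, 28])])),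
  (16, (lf [(118, [26, 18, 12]), (154, [26, 12])]))])),
  (106, (nd [(16, (lf [(154, [32, 28, 25]), (118, [32, 24, 28])])),
  (83, (lf [(0, [26, 16, 12]), (238, [32, 26, 25])]))]))]))]))]) .nil)

theorem s_cE : solveB (nat_lit 8) (nat_lit 255) dtt (nat_lit 243) 500 B2 (fun _ => true) dch 0 []
    [[18], [26], [28]] [[18], [26], [28]] (prEq 500 [[18], [26], [28]] [[18], [26], [28]] ++ ([] : List (List ℕ))) [] [] (memLL [[], [26], [28], [16], [18], [12], [13], [26, 28], [26, 16], [26, 18], [26, 12], [26, 13], [16, 28], [18, 28], [12, 28], [13, 28], [16, 18], [16, 12], [16, 13], [18, 12], [18, 13], [26, 16, 28], [26, 18, 28], [26, 12, 28], [26, 13, 28], [32, 26, 33], [26, 16, 12], [26, 16, 13], [26, 18, 12], [26, 18, 13], [16, 18, 28], [32, 28, 25], [33, 28, 24], [32, 28, 24], [32, 28, 32], [32, 24], [32, 32], [32, 26, 33, 28], [32, 26, 28, 24], [32, 26, 28, 32], [32, 26, 28,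 25], [32, 28, 32, 26], [32, 26, 25], [32, 32, 26], [32, 24, 28], [32, 32, 28], [32, 26, 25, 28], [32, 32, 26, 28]]) id ts_cE ct_cE = true := by
  decide +kernel

include S

theorem kr0 (C : Cj t F [[20], [32], [16], [18]] [[20, 28], [32], [18], [16]]) : False := by
  obtain ⟨u, h, -⟩ := S.power C [[22, 27], [22, 27], [22, 27]]
    [([22, 27], [6]), ([22, 27], [4, 6]), ([22, 27], [4])]
    [([22, 27], [4]), ([22, 27], [6]), ([22, 27], [4, 6])]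
    [([18], [([22, 27], [4]), ([22, 27], [6]), ([22, 27], [4, 6])], [18]),
    ([12], [([22, 27], [2, 2, 2, 2]), ([22, 27], [2, 2, 2, 2]), ([22, 27], [2, 2, 2, 2])], [12]),
    ([20, 28], [([22, 27], [1]), ([22, 27], [0]), ([22, 27], [1])], [28, 21])] s_kr0 (by decide +kernel)
  cases h

theorem kr1 (C : Cj t F [[20], [32], [16], [18]] [[32, 20, 16], [32], [18], [16]]) : False := by
  obtain ⟨u, h, -⟩ := S.power C [[22, 33, 21], [22, 33, 21], [22, 33, 21]]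
    [([22, 33, 21], [6]), ([22, 33, 21], [4, 6]), ([22, 33, 21], [4])]
    [([22, 33, 21], [4]), ([22, 33, 21], [6]), ([22, 33, 21], [4, 6])]
    [([18], [([22, 33, 21], [4]), ([22, 33, 21], [6]), ([22, 33, 21], [4, 6])], [18]),
    ([12], [([22, 33, 21], [2, 2, 2, 2]), ([22, 33, 21], [2, 2, 2, 2]), ([22, 33, 21], [2, 2, 2, 2])], [12]),
    ([16, 24, 20], [([22, 33, 21], [1]), ([22, 33, 21], [0, 2, 2, 4, 6]), ([22, 33, 21], [1])], [21, 33, 16])] s_kr1 (by decide +kernel)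
  cases h

theorem kr2 (C : Cj t F [[20], [32], [16], [18]] [[33, 20, 18], [32], [18], [16]]) : False := by
  obtain ⟨u, h, -⟩ := S.power C [[22, 33, 21], [22, 33, 21], [22, 33, 21]]
    [([22, 33, 21], [6]), ([22, 33, 21], [4, 6]), ([22, 33, 21], [4])]
    [([22, 33, 21], [4]), ([22, 33, 21], [6]), ([22, 33, 21], [4, 6])]
    [([18], [([22, 33, 21], [4]), ([22, 33, 21], [6]), ([22, 33, 21], [4, 6])], [18]),
    ([12], [([22, 33, 21], [2, 2, 2, 2]), ([22, 33, 21], [2, 2, 2, 2]), ([22, 33, 21], [2, 2, 2, 2])], [12]),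
    ([16, 24, 20], [([22, 33, 21], [1]), ([22, 33, 21], [0, 2, 2, 2, 2]), ([22, 33, 21], [1])], [21, 32, 18])] s_kr2 (by decide +kernel)
  cases h

theorem ks02 (C : Cj t F [[14], [26], [20], [32], [16], [18]] [[14, 16], [26], [21], [32], [18], [16]]) : False := by
  obtain ⟨u, h, -⟩ := S.power C [[], []]
    [([], [10]), ([], [8])]
    [([], [8]), ([], [10])]
    [([18], [([], [8]), ([], [10])], [18]),
    ([14], [([], [0, 8]), ([], [0])], [14, 16, 18]),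
    ([26], [([], [2]), ([], [2])], [26]),
    ([20], [([], [5]), ([], [4])], [20]),
    ([32], [([], [6]), ([], [6])], [32])] s_ks02 (by decide +kernel)
  cases h

theorem ks03 (C : Cj t F [[14], [26], [20], [32], [16], [18]] [[14, 18], [26], [21], [32], [18], [16]]) : False := by
  obtain ⟨u, h, -⟩ := S.power C [[], []]
    [([], [10]), ([], [8])]
    [([], [8]), ([], [10])]
    [([18], [([], [8]), ([], [10])], [18]),
    ([14], [([], [0, 10]), ([], [0])], [14, 16, 18]),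
    ([26], [([], [2]), ([], [2])], [26]),
    ([20], [([], [5]), ([], [4])], [20]),
    ([32], [([], [6]), ([], [6])], [32])] s_ks02 (by decide +kernel)
  cases h

theorem ks12 (C : Cj t F [[14], [26], [20], [32], [16], [18]] [[14, 16], [26], [21, 12], [32], [18], [16]]) : False := by
  obtain ⟨u, h, -⟩ := S.power C [[], []]
    [([], [10]), ([], [8])]
    [([], [8]), ([], [10])]
    [([18], [([], [8]), ([], [10])], [18]),
    ([14], [([], [0, 8]), ([], [0])], [14, 16, 18]),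
    ([26], [([], [2]), ([], [2])], [26]),
    ([20], [([], [2, 7, 2, 7, 5]), ([], [4])], [20]),
    ([32], [([], [6]), ([], [6])], [32])] s_ks02 (by decide +kernel)
  cases h

theorem ks13 (C : Cj t F [[14], [26], [20], [32], [16], [18]] [[14, 18], [26], [21, 12], [32], [18], [16]]) : False := by
  obtain ⟨u, h, -⟩ := S.power C [[], []]
    [([], [10]), ([], [8])]
    [([], [8]), ([], [10])]
    [([18], [([], [8]), ([], [10])], [18]),
    ([14], [([], [0, 10]), ([], [0])], [14, 16, 18]),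
    ([26], [([], [2]), ([], [2])], [26]),
    ([20], [([], [2, 7, 2, 7, 5]), ([], [4])], [20]),
    ([32], [([], [6]), ([], [6])], [32])] s_ks02 (by decide +kernel)
  cases h

theorem ks22 (C : Cj t F [[14], [26], [20], [32], [16], [18]] [[14, 16], [26], [21, 12, 12], [32], [18], [16]]) : False := by
  obtain ⟨u, h, -⟩ := S.power C [[], []]
    [([], [10]), ([], [8])]
    [([], [8]), ([], [10])]
    [([18], [([], [8]), ([], [10])], [18]),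
    ([14], [([], [0, 8]), ([], [0])], [14, 16, 18]),
    ([26], [([], [2]), ([], [2])], [26]),
    ([20], [([], [2, 6, 2, 6, 5]), ([], [4])], [20]),
    ([32], [([], [6]), ([], [6])], [32])] s_ks02 (by decide +kernel)
  cases h

theorem ks23 (C : Cj t F [[14], [26], [20], [32], [16], [18]] [[14, 18], [26], [21, 12, 12], [32], [18], [16]]) : False := by
  obtain ⟨u, h, -⟩ := S.power C [[], []]
    [([], [10]), ([], [8])]
    [([], [8]), ([], [10])]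
    [([18], [([], [8]), ([], [10])], [18]),
    ([14], [([], [0, 10]), ([], [0])], [14, 16, 18]),
    ([26], [([], [2]), ([], [2])], [26]),
    ([20], [([], [2, 6, 2, 6, 5]), ([], [4])], [20]),
    ([32], [([], [6]), ([], [6])], [32])] s_ks02 (by decide +kernel)
  cases h

theorem p200 (C : Cj t F [[14], [26], [20], [32], [16], [18]] [[14], [26], [21], [32], [18], [16]]) :
    ∃ u ∈ ([[], [18, 16]] : List (List ℕ)), (t * wval F []) ^ 2 = wval F u :=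
  S.powIn C _ _ [([], [10]), ([], [8])]
    [([], [8]), ([], [10])]
    [([18], [([], [8]), ([], [10])], [18]),
    ([14], [([], [0]), ([], [0])], [14]),
    ([26], [([], [2]), ([], [2])], [26]),
    ([20], [([], [5]), ([], [4])], [20]),
    ([32], [([], [6]), ([], [6])], [32])] _
    [([], [([], [])]),
    ([16], [([], [8])]),
    ([18], [([], [10])]),
    ([18, 16], [([], [8, 10])])] s_cK (by decide +kernel)

theorem p201 (C : Cj t F [[14], [26], [20], [32], [16], [18]] [[14, 18, 16], [26], [21], [32], [18], [16]]) :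
    ∃ u ∈ ([[], [18, 16]] : List (List ℕ)), (t * wval F []) ^ 2 = wval F u :=
  S.powIn C _ _ [([], [10]), ([], [8])]
    [([], [8]), ([], [10])]
    [([18], [([], [8]), ([], [10])], [18]),
    ([14], [([], [0, 8, 10]), ([], [0])], [14]),
    ([26], [([], [2]), ([], [2])], [26]),
    ([20], [([], [5]), ([], [4])], [20]),
    ([32], [([], [6]), ([], [6])], [32])] _
    [([], [([], [])]),
    ([16], [([], [8])]),
    ([18], [([], [10])]),
    ([18, 16], [([], [8, 10])])] s_cK (by decide +kernel)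

theorem p210 (C : Cj t F [[14], [26], [20], [32], [16], [18]] [[14], [26], [21, 12], [32], [18], [16]]) :
    ∃ u ∈ ([[], [18, 16]] : List (List ℕ)), (t * wval F []) ^ 2 = wval F u :=
  S.powIn C _ _ [([], [10]), ([], [8])]
    [([], [8]), ([], [10])]
    [([18], [([], [8]), ([], [10])], [18]),
    ([14], [([], [0]), ([], [0])], [14]),
    ([26], [([], [2]), ([], [2])], [26]),
    ([20], [([], [2, 7, 2, 7, 5]), ([], [4])], [20]),
    ([32], [([], [6]), ([], [6])], [32])] _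
    [([], [([], [])]),
    ([16], [([], [8])]),
    ([18], [([], [10])]),
    ([18, 16], [([], [8, 10])])] s_cK (by decide +kernel)

theorem p211 (C : Cj t F [[14], [26], [20], [32], [16], [18]] [[14, 18, 16], [26], [21, 12], [32], [18], [16]]) :
    ∃ u ∈ ([[], [18, 16]] : List (List ℕ)), (t * wval F []) ^ 2 = wval F u :=
  S.powIn C _ _ [([], [10]), ([], [8])]
    [([], [8]), ([], [10])]
    [([18], [([], [8]), ([], [10])], [18]),
    ([14], [([], [0, 8, 10]), ([], [0])], [14]),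
    ([26], [([], [2]), ([], [2])], [26]),
    ([20], [([], [2, 7, 2, 7, 5]), ([], [4])], [20]),
    ([32], [([], [6]), ([], [6])], [32])] _
    [([], [([], [])]),
    ([16], [([], [8])]),
    ([18], [([], [10])]),
    ([18, 16], [([], [8, 10])])] s_cK (by decide +kernel)

theorem p220 (C : Cj t F [[14], [26], [20], [32], [16], [18]] [[14], [26], [21, 12, 12], [32], [18], [16]]) :
    ∃ u ∈ ([[], [18, 16]] : List (List ℕ)), (t * wval F []) ^ 2 = wval F u :=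
  S.powIn C _ _ [([], [10]), ([], [8])]
    [([], [8]), ([], [10])]
    [([18], [([], [8]), ([], [10])], [18]),
    ([14], [([], [0]), ([], [0])], [14]),
    ([26], [([], [2]), ([], [2])], [26]),
    ([20], [([], [2, 6, 2, 6, 5]), ([], [4])], [20]),
    ([32], [([], [6]), ([], [6])], [32])] _
    [([], [([], [])]),
    ([16], [([], [8])]),
    ([18], [([], [10])]),
    ([18, 16], [([], [8, 10])])] s_cK (by decide +kernel)

theorem p221 (C : Cj t F [[14], [26], [20], [32], [16], [18]] [[14, 18, 16], [26], [21, 12, 12], [32], [18], [16]]) :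
    ∃ u ∈ ([[], [18, 16]] : List (List ℕ)), (t * wval F []) ^ 2 = wval F u :=
  S.powIn C _ _ [([], [10]), ([], [8])]
    [([], [8]), ([], [10])]
    [([18], [([], [8]), ([], [10])], [18]),
    ([14], [([], [0, 8, 10]), ([], [0])], [14]),
    ([26], [([], [2]), ([], [2])], [26]),
    ([20], [([], [2, 6, 2, 6, 5]), ([], [4])], [20]),
    ([32], [([], [6]), ([], [6])], [32])] _
    [([], [([], [])]),
    ([16], [([], [8])]),
    ([18], [([], [10])]),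
    ([18, 16], [([], [8, 10])])] s_cK (by decide +kernel)

theorem p3 (C : Cj t F [[14], [26], [28], [16], [18], [12]] [[14], [26], [26, 28], [18], [16], [12]]) :
    ∃ u ∈ ([[]] : List (List ℕ)), (t * wval F [22]) ^ 3 = wval F u :=
  S.powIn C _ _ [([22], [8]), ([22], [6, 8]), ([22], [6])]
    [([22], [6]), ([22], [8]), ([22], [6, 8])]
    [([18], [([22], [6]), ([22], [8]), ([22], [6, 8])], [18]),
    ([14], [([22], [0]), ([22], [0, 8]), ([22], [0, 6])], [14]),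
    ([26], [([22], [2]), ([22], [2, 4]), ([22], [4])], [26]),
    ([28], [([22], [2, 4]), ([22], [4]), ([22], [2])], [28]),
    ([12], [([22], [10]), ([22], [10]), ([22], [10])], [12])] _
    [([], [([22], [])]),
    ([16], [([22], [6])]),
    ([18], [([22], [6, 8])]),
    ([18, 16], [([22], [8])])] s_cA (by decide +kernel)

theorem pc (C : Cj t F [[14], [26], [28], [16], [18], [12]] [[14], [26], [26, 28], [18], [16], [12]]) :
    ∃ u ∈ ([[], [26], [12], [13], [26, 12], [26, 13], [16, 18, 28], [32, 26, 33, 28], [32, 24, 28], [32, 32, 28], [32, 26, 25, 28], [32, 32, 26, 28]] : List (List ℕ)), (t * wval F [30]) ^ 3 = wval F u :=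
  S.powIn C _ _ [([30], [8]), ([30], [2, 6, 8]), ([30], [6])]
    [([30], [6]), ([30], [8]), ([30], [2, 6, 8])]
    [([18], [([30], [6]), ([30], [8]), ([30], [2, 6, 8])], [18]),
    ([26], [([30], [2]), ([30], [2]), ([30], [2])], [26]),
    ([28], [([30], [2, 4]), ([30], [4, 8]), ([30], [4, 6])], [28])] _
    [([], [([30], [])]),
    ([26], [([30], [2])]),
    ([28], [([30], [4, 6])]),
    ([16], [([30], [6])]),
    ([18], [([30], [2, 6, 8])]),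
    ([12], [([30], [10])]),
    ([13], [([30], [11])]),
    ([26, 28], [([30], [2, 4, 6])]),
    ([26, 16], [([30], [2, 6])]),
    ([26, 18], [([30], [6, 8])]),
    ([26, 12], [([30], [2, 10])]),
    ([26, 13], [([30], [2, 11])]),
    ([16, 28], [([30], [4])]),
    ([18, 28], [([30], [2, 4, 8])]),
    ([12, 28], [([30], [4, 6, 10])]),
    ([13, 28], [([30], [4, 6, 11])]),
    ([16, 18], [([30], [2, 8])]),
    ([16, 12], [([30], [6, 10])]),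
    ([16, 13], [([30], [6, 11])]),
    ([18, 12], [([30], [2, 6, 8, 10])]),
    ([18, 13], [([30], [2, 6, 8, 11])]),
    ([26, 16, 28], [([30], [2, 4])]),
    ([26, 18, 28], [([30], [4, 8])]),
    ([26, 12, 28], [([30], [2, 4, 6, 10])]),
    ([26, 13, 28], [([30], [2, 4, 6, 11])]),
    ([32, 26, 33], [([30], [8])]),
    ([26, 16, 12], [([30], [2, 6, 10])]),
    ([26, 16, 13], [([30], [2, 6, 11])]),
    ([26, 18, 12], [([30], [6, 8, 10])]),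
    ([26, 18, 13], [([30], [6, 8, 11])]),
    ([16, 18, 28], [([30], [2, 4, 6, 8])]),
    ([32, 28, 25], [([30], [4, 10])]),
    ([33, 28, 24], [([30], [4, 11])]),
    ([32, 28, 24], [([30], [2, 4, 8, 10])]),
    ([32, 28, 32], [([30], [2, 4, 8, 11])]),
    ([32, 24], [([30], [2, 8, 10])]),
    ([32, 32], [([30], [2, 8, 11])]),
    ([32, 26, 33, 28], [([30], [4, 6, 8])]),
    ([32, 26, 28, 24], [([30], [2, 4, 10])]),
    ([32, 26, 28, 32], [([30], [2, 4, 11])]),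
    ([32, 26, 28, 25], [([30], [4, 8, 10])]),
    ([32, 28, 32, 26], [([30], [4, 8, 11])]),
    ([32, 26, 25], [([30], [8, 10])]),
    ([32, 32, 26], [([30], [8, 11])]),
    ([32, 24, 28], [([30], [2, 4, 6, 8, 10])]),
    ([32, 32, 28], [([30], [2, 4, 6, 8, 11])]),
    ([32, 26, 25, 28], [([30], [4, 6, 8, 10])]),
    ([32, 32, 26, 28], [([30], [4, 6, 8, 11])])] s_cE (by decide +kernel)

omit S

theorem der00 (M : Model F H ⊥ (nat_lit 243) (nat_lit 8) (nat_lit 255) dtt B2 241920)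
    (C : Cj t F us4 [[14], [26], [21], [32], [18], [16]]) : Cj t F usF (vsF 0) :=
  M.derive C [([4], [9, 1, 4, 2], [3, 5, 0, 8]),
    ([0], [14], [14]),
    ([2], [0, 5, 10, 6, 3, 8, 4, 2, 0, 2, 0, 2], [0, 5, 10, 6, 3, 8, 4, 2, 0, 2, 0, 2]),
    ([4, 2, 5], [9, 1, 4, 2, 0, 5, 10, 6, 3, 8, 4, 2, 0, 2, 0, 2, 3, 5, 0, 8], [3, 5, 0, 8, 0, 5, 10, 6, 3, 8, 4, 2, 0, 2, 0, 2, 9, 1, 4, 2]),
    ([8], [0, 2, 0, 2], [0, 3, 0, 9, 6, 11, 6, 4]),
    ([10], [0, 3, 0, 9, 6, 11, 6, 4], [0, 2, 0, 2]),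
    ([2, 7, 2, 7], [12], [12]),
    ([2, 7, 7, 7], [2, 0, 11, 7, 4, 9, 4, 0, 2], [2, 0, 11, 7, 4, 9, 4, 0, 2])] (by decide +kernel)

theorem der01 (M : Model F H ⊥ (nat_lit 243) (nat_lit 8) (nat_lit 255) dtt B2 241920)
    (C : Cj t F us4 [[14, 18, 16], [26], [21], [32], [18], [16]]) : Cj t F (usF.map (subst Wt)) ((vsF 0).map (subst Wt)) :=
  M.derive C [([4], [9, 1, 4, 2], [3, 5, 0, 8]),
    ([0, 8], [14, 0, 2, 0, 2], [14, 0, 2, 0, 2]),
    ([2], [0, 5, 10, 6, 3, 8, 4, 2, 0, 2, 0, 2], [0, 5, 10, 6, 3, 8, 4, 2, 0, 2, 0, 2]),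
    ([4, 2, 5], [9, 1, 4, 2, 0, 5, 10, 6, 3, 8, 4, 2, 0, 2, 0, 2, 3, 5, 0, 8], [3, 5, 0, 8, 0, 5, 10, 6, 3, 8, 4, 2, 0, 2, 0, 2, 9, 1, 4, 2]),
    ([8], [0, 2, 0, 2], [0, 3, 0, 9, 6, 11, 6, 4]),
    ([10], [0, 3, 0, 9, 6, 11, 6, 4], [0, 2, 0, 2]),
    ([2, 6, 2, 6], [13], [13]),
    ([2, 7, 7, 7], [2, 0, 11, 7, 4, 9, 4, 0, 2], [2, 0, 11, 7, 4, 9, 4, 0, 2])] (by decide +kernel)

theorem der10 (M : Model F H ⊥ (nat_lit 243) (nat_lit 8) (nat_lit 255) dtt B2 241920)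
    (C : Cj t F us4 [[14], [26], [21, 12], [32], [18], [16]]) : Cj t F usF (vsF 1) :=
  M.derive C [([4], [9, 1, 4, 2], [3, 5, 0, 8, 12]),
    ([0], [14], [14]),
    ([2], [0, 5, 10, 6, 3, 8, 4, 2, 0, 2, 0, 2], [0, 5, 10, 6, 3, 8, 4, 2, 0, 2, 0, 2]),
    ([4, 2, 5], [9, 1, 4, 2, 0, 5, 10, 6, 3, 8, 4, 2, 0, 2, 0, 2, 3, 5, 0, 8], [3, 5, 0, 8, 0, 5, 10, 6, 3, 8, 4, 2, 0, 2, 0, 2, 9, 1, 4, 2]),
    ([8], [0, 2, 0, 2], [0, 3, 0, 9, 6, 11, 6, 4]),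
    ([10], [0, 3, 0, 9, 6, 11, 6, 4], [0, 2, 0, 2]),
    ([2, 7, 2, 7], [12], [12]),
    ([2, 7, 7, 7], [2, 0, 11, 7, 4, 9, 4, 0, 2], [2, 0, 11, 7, 4, 9, 4, 0, 2])] (by decide +kernel)

theorem der11 (M : Model F H ⊥ (nat_lit 243) (nat_lit 8) (nat_lit 255) dtt B2 241920)
    (C : Cj t F us4 [[14, 18, 16], [26], [21, 12], [32], [18], [16]]) : Cj t F (usF.map (subst Wt)) ((vsF 2).map (subst Wt)) :=
  M.derive C [([4], [9, 1, 4, 2], [3, 5, 0, 8, 13, 13]),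
    ([0, 8], [14, 0, 2, 0, 2], [14, 0, 2, 0, 2]),
    ([2], [0, 5, 10, 6, 3, 8, 4, 2, 0, 2, 0, 2], [0, 5, 10, 6, 3, 8, 4, 2, 0, 2, 0, 2]),
    ([4, 2, 5], [9, 1, 4, 2, 0, 5, 10, 6, 3, 8, 4, 2, 0, 2, 0, 2, 3, 5, 0, 8], [3, 5, 0, 8, 0, 5, 10, 6, 3, 8, 4, 2, 0, 2, 0, 2, 9, 1, 4, 2]),
    ([8], [0, 2, 0, 2], [0, 3, 0, 9, 6, 11, 6, 4]),
    ([10], [0, 3, 0, 9, 6, 11, 6, 4], [0, 2, 0, 2]),
    ([2, 6, 2, 6], [13], [13]),
    ([2, 7, 7, 7], [2, 0, 11, 7, 4, 9, 4, 0, 2], [2, 0, 11, 7, 4, 9, 4, 0, 2])] (by decide +kernel)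

theorem der20 (M : Model F H ⊥ (nat_lit 243) (nat_lit 8) (nat_lit 255) dtt B2 241920)
    (C : Cj t F us4 [[14], [26], [21, 12, 12], [32], [18], [16]]) : Cj t F usF (vsF 2) :=
  M.derive C [([4], [9, 1, 4, 2], [3, 5, 0, 8, 12, 12]),
    ([0], [14], [14]),
    ([2], [0, 5, 10, 6, 3, 8, 4, 2, 0, 2, 0, 2], [0, 5, 10, 6, 3, 8, 4, 2, 0, 2, 0, 2]),
    ([4, 2, 5], [9, 1, 4, 2, 0, 5, 10, 6, 3, 8, 4, 2, 0, 2, 0, 2, 3, 5, 0, 8], [3, 5, 0, 8, 0, 5, 10, 6, 3, 8, 4, 2, 0, 2, 0, 2, 9, 1, 4, 2]),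
    ([8], [0, 2, 0, 2], [0, 3, 0, 9, 6, 11, 6, 4]),
    ([10], [0, 3, 0, 9, 6, 11, 6, 4], [0, 2, 0, 2]),
    ([2, 7, 2, 7], [12], [12]),
    ([2, 7, 7, 7], [2, 0, 11, 7, 4, 9, 4, 0, 2], [2, 0, 11, 7, 4, 9, 4, 0, 2])] (by decide +kernel)

theorem der21 (M : Model F H ⊥ (nat_lit 243) (nat_lit 8) (nat_lit 255) dtt B2 241920)
    (C : Cj t F us4 [[14, 18, 16], [26], [21, 12, 12], [32], [18], [16]]) : Cj t F (usF.map (subst Wt)) ((vsF 1).map (subst Wt)) :=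
  M.derive C [([4], [9, 1, 4, 2], [3, 5, 0, 8, 13]),
    ([0, 8], [14, 0, 2, 0, 2], [14, 0, 2, 0, 2]),
    ([2], [0, 5, 10, 6, 3, 8, 4, 2, 0, 2, 0, 2], [0, 5, 10, 6, 3, 8, 4, 2, 0, 2, 0, 2]),
    ([4, 2, 5], [9, 1, 4, 2, 0, 5, 10, 6, 3, 8, 4, 2, 0, 2, 0, 2, 3, 5, 0, 8], [3, 5, 0, 8, 0, 5, 10, 6, 3, 8, 4, 2, 0, 2, 0, 2, 9, 1, 4, 2]),
    ([8], [0, 2, 0, 2], [0, 3, 0, 9, 6, 11, 6, 4]),
    ([10], [0, 3, 0, 9, 6, 11, 6, 4], [0, 2, 0, 2]),
    ([2, 6, 2, 6], [13], [13]),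
    ([2, 7, 7, 7], [2, 0, 11, 7, 4, 9, 4, 0, 2], [2, 0, 11, 7, 4, 9, 4, 0, 2])] (by decide +kernel)

theorem derA (M : Model F H ⊥ (nat_lit 243) (nat_lit 8) (nat_lit 255) dtt B2 241920) {k : ℕ}
    (C : Cj t F usF (vsF k)) : Cj t F usA vsA :=
  M.derive (us := usF.tail) (vs := (vsF 0).tail) (fun i => C (i + 1)) [([0], [14], [14]), ([2], [26], [26]), ([4], [28], [26, 28]), ([6], [16], [18]), ([8], [18], [16]), ([10], [12], [12])] (by decide +kernel)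

theorem ifil (M : Model F H ⊥ (nat_lit 243) (nat_lit 8) (nat_lit 255) dtt B2 241920)
    (C : Cj t F usA vsA) {u : List ℕ} (hu : u ∈ ([[], [26], [12], [13], [26, 12], [26, 13], [16, 18, 28], [32, 26, 33, 28], [32, 24, 28], [32, 32, 28], [32, 26, 25, 28], [32, 32, 26, 28]] : List (List ℕ)))
    (hc : t * wval F u = (wval F u)⁻¹ * t) : u ∈ ([[], [26]] : List (List ℕ)) :=
  M.ifilter C _ [([], []), ([26], [2]), ([12], [10]), ([13], [11]), ([26, 12], [2, 10]), ([26, 13], [2, 11]), ([16, 18, 28], [4, 6, 8]), ([32, 26, 33, 28], [2, 4, 6, 8]), ([32, 24, 28], [4, 6, 8, 10]), ([32, 32, 28], [4, 6, 8, 11]), ([32, 26, 25, 28], [2, 4, 6, 8, 10]), ([32, 32, 26, 28], [2, 4, 6, 8, 11])] (by decide +kernel) hu hc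



end Cfsg.Agent.Lib.LyMD
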