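import Cfsg.Agent.Lib.LyMDT

/-! The automorphisms of the centraliser of a four-group. -/

set_option autoImplicit false
set_option maxRecDepth 100000

namespace Cfsg.Agent.Lib.LyMD

open Cfsg.Agent.Lib.PermNet Cfsg.Agent.Lib.Words Cfsg.Agent.Lib.PermGroup Cfsg.Agent.Lib.DCE Cfsg.Agent.Lib.PermModel Cfsg.Agent.Lib.BT

noncomputable def ts_1 : List Tst := [⟨[], [⟨0, [0], [18], [18]⟩], []⟩,
  ⟨[], [⟨0, [0], [18], [18]⟩], []⟩,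
  ⟨[], [⟨0, [0], [18], [18]⟩], []⟩,
  ⟨[], [⟨0, [0], [18], [18]⟩], []⟩,
  ⟨[], [], [⟨0, [0], [18], [18]⟩]⟩]

noncomputable def ct_1 : CT := (.node 0 [] [] (nat_lit 0x0) (nd [(242, (nd [(240, (nd [(237, (nd [(83, (lf [(171, [0, 14]), (163, [0, 26, 14, 28])]))])),
  (106, (nd [(16, (lf [(168, [0, 26, 14]), (32, [0, 14, 28])]))])),
  (83, (nd [(106, (lf [(216, [0, 21, 14]), (172, [0, 14, 26, 20])]))])),
  (119, (nd [(139, (lf [(13, [0, 20, 14, 28]), (123, [0, 32, 20, 14])]))])),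
  (16, (nd [(237, (lf [(121, [0, 21, 14, 28]), (180, [0, 32, 21, 14])]))])),
  (214, (nd [(2, (lf [(162, [0, 26, 20, 14]), (235, [0, 20, 14])]))]))]))])),
  (241, (nd [(242, (nd [(237, (nd [(83, (lf [(171, [0, 26]), (163, [0, 28])]))])),
  (106, (nd [(16, (lf [(168, [0]), (32, [0, 26, 28])]))])),
  (83, (nd [(106, (lf [(216, [0, 32, 21]), (172, [0, 21, 28])]))])),
  (119, (nd [(139, (lf [(13, [0, 26, 20]), (123, [0, 20])]))])),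
  (16, (nd [(237, (lf [(121, [0, 28, 21]), (180, [0, 21])]))])),
  (214, (nd [(2, (lf [(162, [0, 20, 28]), (235, [0, 32, 20])]))]))]))]))]) .nil)

theorem s_1 : stepB0 (nat_lit 8) (nat_lit 255) dtt B2 (nat_lit 243) 500 dch [16] [18]
    [[16], [18]] [[18], [16]] [32] [2] [0]
    [([0], [0])]
    [[0, 0, 0, 0, 0, 0, 2, 4]] [[0, 0, 0, 0]] [[32]] ts_1 ct_1 = true := by
  decide +kernel

noncomputable def ts_2 : List Tst := [⟨[], [⟨0, [0], [18], [18]⟩], [⟨0, [2], [32, 32, 32, 32], [32, 32, 32, 32]⟩, ⟨0, [3], [33, 33, 33, 33], [33, 33, 33, 33]⟩, ⟨0, [0, 2], [18, 32, 32, 32, 32], [18, 32, 32, 32, 32]⟩]⟩,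
  ⟨[⟨0, [3], [33, 33, 33, 33], [33, 33, 33, 33]⟩], [], []⟩,
  ⟨[], [⟨0, [0], [18], [18]⟩, ⟨0, [2], [32, 32, 32, 32], [32, 32, 32, 32]⟩], []⟩,
  ⟨[], [⟨0, [0], [18], [18]⟩, ⟨0, [2], [32, 32, 32, 32], [32, 32, 32, 32]⟩], []⟩,
  ⟨[], [⟨0, [2], [32, 32, 32, 32], [32, 32, 32, 32]⟩], [⟨0, [0], [18], [18]⟩, ⟨0, [0, 2], [18, 32, 32, 32, 32], [18, 32, 32, 32, 32]⟩, ⟨0, [0, 3], [18, 33, 33, 33, 33], [18, 33, 33, 33, 33]⟩]⟩]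

noncomputable def ct_2 : CT := (.node 0 [] [] (nat_lit 0x0) (nd [(240, (nd [(241, (nd [(239, (nd [(132, (lf [(152, [0])]))])),
  (42, (nd [(113, (lf [(159, [3, 21, 32, 20, 26]), (66, [3])]))])),
  (113, (nd [(189, (lf [(4, [3, 20, 32, 21, 26])]))])),
  (122, (nd [(38, (lf [(108, [0, 32])]))])),
  (38, (nd [(122, (lf [(61, [0, 20, 32, 21, 26])]))])),
  (48, (nd [(174, (lf [(40, [0, 21, 32, 20, 26])]))])),
  (182, (nd [(42, (lf [(151, [3, 32])]))]))]))])),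
  (242, (nd [(240, (nd [(239, (nd [(132, (lf [(152, [2])]))])),
  (42, (nd [(113, (lf [(159, [5, 32]), (66, [5, 20, 32, 21, 26])]))])),
  (113, (nd [(189, (lf [(4, [5])]))])),
  (122, (nd [(38, (lf [(108, [2, 32])]))])),
  (38, (nd [(122, (lf [(61, [2, 20, 32, 21, 26])]))])),
  (48, (nd [(174, (lf [(40, [2, 21, 32, 20, 26])]))])),
  (182, (nd [(42, (lf [(151, [5, 21, 32, 20, 26])]))]))]))])),
  (241, (nd [(242, (nd [(239, (nd [(132, (lf [(152, [1])]))])),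
  (42, (nd [(113, (lf [(159, [4, 32]), (66, [4, 20, 32, 21, 26])]))])),
  (113, (nd [(189, (lf [(4, [4])]))])),
  (122, (nd [(38, (lf [(108, [1, 32])]))])),
  (38, (nd [(122, (lf [(61, [1, 20, 32, 21, 26])]))])),
  (48, (nd [(174, (lf [(40, [1, 21, 32, 20, 26])]))])),
  (182, (nd [(42, (lf [(151, [4, 21, 32, 20, 26])]))]))]))]))]) .nil)

theorem s_2 : stepB0 (nat_lit 8) (nat_lit 255) dtt B2 (nat_lit 243) 500 dch [16] [18]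
    [[32], [16], [18]] [[32], [18], [16]] [20] [4] [2]
    [([2], [2]), ([0, 0, 0, 0], [0, 0, 0, 0])]
    [[0, 0, 0], [3, 1, 4, 3, 1, 3, 1]] ([] : List (List ℕ)) [[21], [21, 12], [21, 12, 12], [20, 28], [32, 20, 16], [33, 20, 18]] ts_2 ct_2 = true := by
  decide +kernel

noncomputable def ts_30 : List Tst := [⟨[], [⟨0, [0], [18], [18]⟩], [⟨0, [2], [32, 32, 32, 32], [32, 32, 32, 32]⟩, ⟨0, [3], [33, 33, 33, 33], [33, 33, 33, 33]⟩, ⟨0, [0, 2], [18, 32, 32, 32, 32], [18, 32, 32, 32, 32]⟩]⟩,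
  ⟨[⟨0, [3], [33, 33, 33, 33], [33, 33, 33, 33]⟩], [], []⟩,
  ⟨[], [⟨0, [0], [18], [18]⟩, ⟨0, [2], [32, 32, 32, 32], [32, 32, 32, 32]⟩], []⟩,
  ⟨[], [⟨0, [0], [18], [18]⟩, ⟨0, [2], [32, 32, 32, 32], [32, 32, 32, 32]⟩], []⟩,
  ⟨[], [⟨0, [2], [32, 32, 32, 32], [32, 32, 32, 32]⟩], [⟨0, [0], [18], [18]⟩, ⟨0, [0, 2], [18, 32, 32, 32, 32], [18, 32, 32, 32, 32]⟩, ⟨0, [0, 3], [18, 33, 33, 33, 33], [18, 33, 33, 33, 33]⟩]⟩]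

noncomputable def ct_30 : CT := (.node 0 [] [] (nat_lit 0x0) (nd [(240, (nd [(241, (nd [(237, (nd [(16, (lf [(154, [0])]))]))]))]))]) .nil)

theorem s_30 : stepB0 (nat_lit 8) (nat_lit 255) dtt B2 (nat_lit 243) 500 dch [16] [18]
    [[20], [32], [16], [18]] [[21], [32], [18], [16]] [26] [6] [4]
    [([4], [4]), ([2, 2, 2, 2], [2, 2, 2, 2])]
    [[0, 0], [6, 8, 5, 1, 4, 1], [5, 3, 0, 8, 2, 4, 3, 1, 2], [0, 2, 0, 2, 1, 2]] ([] : List (List ℕ)) [[26]] ts_30 ct_30 = true := by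
  decide +kernel

noncomputable def ts_31 : List Tst := [⟨[], [⟨0, [0], [18], [18]⟩], [⟨0, [2], [32, 32, 32, 32], [32, 32, 32, 32]⟩, ⟨0, [3], [33, 33, 33, 33], [33, 33, 33, 33]⟩, ⟨0, [0, 2], [18, 32, 32, 32, 32], [18, 32, 32, 32, 32]⟩]⟩,
  ⟨[⟨0, [3], [33, 33, 33, 33], [33, 33, 33, 33]⟩], [], []⟩,
  ⟨[], [⟨0, [0], [18], [18]⟩, ⟨0, [2], [32, 32, 32, 32], [32, 32, 32, 32]⟩], []⟩,
  ⟨[], [⟨0, [0], [18], [18]⟩, ⟨0, [2], [32, 32, 32, 32], [32, 32, 32, 32]⟩], []⟩,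
  ⟨[], [⟨0, [2], [32, 32, 32, 32], [32, 32, 32, 32]⟩], [⟨0, [0], [18], [18]⟩, ⟨0, [0, 2], [18, 32, 32, 32, 32], [18, 32, 32, 32, 32]⟩, ⟨0, [0, 3], [18, 33, 33, 33, 33], [18, 33, 33, 33, 33]⟩]⟩]

noncomputable def ct_31 : CT := (.node 0 [] [] (nat_lit 0x0) (nd [(240, (nd [(241, (nd [(237, (nd [(16, (lf [(154, [0])]))]))]))]))]) .nil)

theorem s_31 : stepB0 (nat_lit 8) (nat_lit 255) dtt B2 (nat_lit 243) 500 dch [16] [18]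
    [[20], [32], [16], [18]] [[21, 12], [32], [18], [16]] [26] [6] [4]
    [([4], [4]), ([2, 2, 2, 2], [2, 2, 2, 2])]
    [[0, 0], [6, 8, 5, 1, 4, 1], [5, 3, 0, 8, 2, 4, 3, 1, 2], [0, 2, 0, 2, 1, 2]] ([] : List (List ℕ)) [[26]] ts_31 ct_31 = true := by
  decide +kernel

noncomputable def ts_32 : List Tst := [⟨[], [⟨0, [0], [18], [18]⟩], [⟨0, [2], [32, 32, 32, 32], [32, 32, 32, 32]⟩, ⟨0, [3], [33, 33, 33, 33], [33, 33, 33, 33]⟩, ⟨0, [0, 2], [18, 32, 32, 32, 32], [18, 32, 32, 32, 32]⟩]⟩,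
  ⟨[⟨0, [3], [33, 33, 33, 33], [33, 33, 33, 33]⟩], [], []⟩,
  ⟨[], [⟨0, [0], [18], [18]⟩, ⟨0, [2], [32, 32, 32, 32], [32, 32, 32, 32]⟩], []⟩,
  ⟨[], [⟨0, [0], [18], [18]⟩, ⟨0, [2], [32, 32, 32, 32], [32, 32, 32, 32]⟩], []⟩,
  ⟨[], [⟨0, [2], [32, 32, 32, 32], [32, 32, 32, 32]⟩], [⟨0, [0], [18], [18]⟩, ⟨0, [0, 2], [18, 32, 32, 32, 32], [18, 32, 32, 32, 32]⟩, ⟨0, [0, 3], [18, 33, 33, 33, 33], [18, 33, 33, 33, 33]⟩]⟩]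

noncomputable def ct_32 : CT := (.node 0 [] [] (nat_lit 0x0) (nd [(240, (nd [(241, (nd [(237, (nd [(16, (lf [(154, [0])]))]))]))]))]) .nil)

theorem s_32 : stepB0 (nat_lit 8) (nat_lit 255) dtt B2 (nat_lit 243) 500 dch [16] [18]
    [[20], [32], [16], [18]] [[21, 12, 12], [32], [18], [16]] [26] [6] [4]
    [([4], [4]), ([2, 2, 2, 2], [2, 2, 2, 2])]
    [[0, 0], [6, 8, 5, 1, 4, 1], [5, 3, 0, 8, 2, 4, 3, 1, 2], [0, 2, 0, 2, 1, 2]] ([] : List (List ℕ)) [[26]] ts_32 ct_32 = true := by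
  decide +kernel

noncomputable def ts_40 : List Tst := [⟨[], [⟨0, [0], [18], [18]⟩, ⟨0, [4], [21], [20]⟩, ⟨0, [6, 4, 7], [32, 21, 33], [33, 20, 32]⟩, ⟨0, [2], [26], [26, 32, 32, 32]⟩], [⟨0, [6], [32], [33]⟩, ⟨0, [7], [33], [32]⟩, ⟨0, [0, 6], [18, 32], [18, 33]⟩]⟩,
  ⟨[⟨0, [7], [33], [32]⟩], [], []⟩,
  ⟨[], [⟨0, [0], [18], [18]⟩, ⟨0, [2, 7], [26, 33], [26, 32, 32, 32, 32]⟩, ⟨0, [4, 2, 5], [21, 26, 20], [20, 26, 32, 32, 32, 21]⟩], [⟨0, [4], [21], [20]⟩, ⟨0, [5], [20], [21]⟩, ⟨0, [6], [32], [33]⟩]⟩,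
  ⟨[⟨0, [5, 7, 4], [20, 33, 21], [21, 32, 20]⟩], [], []⟩,
  ⟨[], [⟨0, [5, 2, 4], [20, 26, 21], [21, 26, 32, 32, 32, 20]⟩], [⟨0, [0], [18], [18]⟩, ⟨0, [4], [21], [20]⟩, ⟨0, [5], [20], [21]⟩]⟩]

noncomputable def ct_40 : CT := (.node 0 [] [] (nat_lit 0x0) (nd [(240, (nd [(242, (nd [(62, (nd [(75, (lf [(80, [0]), (8, [3])]))])),
  (18, (nd [(226, (lf [(1, [2]), (143, [1])]))]))]))])),
  (242, (nd [(241, (nd [(62, (nd [(75, (lf [(80, [0, 12]), (8, [3, 12])]))])),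
  (18, (nd [(226, (lf [(1, [2, 12]), (143, [1, 12])]))]))]))])),
  (241, (nd [(240, (nd [(62, (nd [(75, (lf [(80, [0, 13]), (8, [3, 13])]))])),
  (18, (nd [(226, (lf [(1, [2, 13]), (143, [1, 13])]))]))]))]))]) .nil)

theorem s_40 : stepB0 (nat_lit 8) (nat_lit 255) dtt B2 (nat_lit 243) 500 dch [16] [18]
    [[26], [20], [32], [16], [18]] [[26], [21], [32], [18], [16]] [14] [8] [6]
    [([6], [6]), ([0], [0, 4, 4, 4]), ([2], [3]), ([4], [5])]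
    ([] : List (List ℕ)) ([] : List (List ℕ)) [[14], [14, 18, 16], [14, 16], [14, 18]] ts_40 ct_40 = true := by
  decide +kernel

noncomputable def ts_41 : List Tst := [⟨[], [⟨0, [0], [18], [18]⟩, ⟨0, [4, 7], [21, 12, 33], [13, 20, 32]⟩, ⟨0, [5, 6], [13, 20, 32], [21, 12, 33]⟩, ⟨0, [2], [26], [26, 32, 32, 32]⟩], [⟨0, [6], [32], [33]⟩, ⟨0, [7], [33], [32]⟩, ⟨0, [4], [21, 12], [13, 20]⟩]⟩,
  ⟨[⟨0, [7], [33], [32]⟩], [], []⟩,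
  ⟨[], [⟨0, [0], [18], [18]⟩, ⟨0, [2, 7], [26, 33], [26, 32, 32, 32, 32]⟩, ⟨0, [4, 2, 5], [21, 12, 26, 13, 20], [13, 20, 26, 32, 32, 32, 21, 12]⟩], [⟨0, [6], [32], [33]⟩, ⟨0, [7], [33], [32]⟩, ⟨0, [4], [21, 12], [13, 20]⟩]⟩,
  ⟨[⟨0, [5, 7, 4], [13, 20, 33, 21, 12], [21, 12, 32, 13, 20]⟩], [], []⟩,
  ⟨[], [⟨0, [5, 2, 4], [13, 20, 26, 21, 12], [21, 12, 26, 32, 32, 32, 13, 20]⟩], [⟨0, [0], [18], [18]⟩, ⟨0, [6], [32], [33]⟩, ⟨0, [7], [33], [32]⟩]⟩]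

noncomputable def ct_41 : CT := (.node 0 [] [] (nat_lit 0x0) (nd [(240, (nd [(242, (nd [(62, (nd [(75, (lf [(80, [0]), (8, [3])]))])),
  (18, (nd [(226, (lf [(1, [2]), (143, [1])]))]))]))])),
  (242, (nd [(241, (nd [(62, (nd [(75, (lf [(80, [0, 12]), (8, [3, 12])]))])),
  (18, (nd [(226, (lf [(1, [2, 12]), (143, [1, 12])]))]))]))])),
  (241, (nd [(240, (nd [(62, (nd [(75, (lf [(80, [0, 13]), (8, [3, 13])]))])),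
  (18, (nd [(226, (lf [(1, [2, 13]), (143, [1, 13])]))]))]))]))]) .nil)

theorem s_41 : stepB0 (nat_lit 8) (nat_lit 255) dtt B2 (nat_lit 243) 500 dch [16] [18]
    [[26], [20], [32], [16], [18]] [[26], [21, 12], [32], [18], [16]] [14] [8] [6]
    [([6], [6]), ([0], [0, 4, 4, 4]), ([2], [3]), ([4], [5])]
    ([] : List (List ℕ)) ([] : List (List ℕ)) [[14], [14, 18, 16], [14, 16], [14, 18]] ts_41 ct_41 = true := by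
  decide +kernel

noncomputable def ts_42 : List Tst := [⟨[], [⟨0, [0], [18], [18]⟩, ⟨0, [6, 6, 6], [32, 32, 32], [33, 33, 33]⟩, ⟨0, [2], [26], [26, 32, 32, 32]⟩, ⟨0, [4, 6], [21, 12, 12, 32], [13, 13, 20, 33]⟩], [⟨0, [6], [32], [33]⟩, ⟨0, [7], [33], [32]⟩, ⟨0, [0, 6], [18, 32], [18, 33]⟩]⟩,
  ⟨[⟨0, [7], [33], [32]⟩], [], []⟩,
  ⟨[], [⟨0, [0], [18], [18]⟩, ⟨0, [2, 7], [26, 33], [26, 32, 32, 32, 32]⟩, ⟨0, [4, 2, 5], [21, 12, 12, 26, 13, 13, 20], [13, 13, 20, 26, 32, 32, 32, 21, 12, 12]⟩], [⟨0, [6], [32], [33]⟩, ⟨0, [7], [33], [32]⟩, ⟨0, [0, 6], [18, 32], [18, 33]⟩]⟩,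
  ⟨[⟨0, [5, 7, 4], [13, 13, 20, 33, 21, 12, 12], [21, 12, 12, 32, 13, 13, 20]⟩], [], []⟩,
  ⟨[], [⟨0, [5, 2, 4], [13, 13, 20, 26, 21, 12, 12], [21, 12, 12, 26, 32, 32, 32, 13, 13, 20]⟩], [⟨0, [0], [18], [18]⟩, ⟨0, [6], [32], [33]⟩, ⟨0, [7], [33], [32]⟩]⟩]

noncomputable def ct_42 : CT := (.node 0 [] [] (nat_lit 0x0) (nd [(240, (nd [(242, (nd [(62, (nd [(75, (lf [(80, [0]), (8, [3])]))])),
  (18, (nd [(226, (lf [(1, [2]), (143, [1])]))]))]))])),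
  (242, (nd [(241, (nd [(62, (nd [(75, (lf [(80, [0, 12]), (8, [3, 12])]))])),
  (18, (nd [(226, (lf [(1, [2, 12]), (143, [1, 12])]))]))]))])),
  (241, (nd [(240, (nd [(62, (nd [(75, (lf [(80, [0, 13]), (8, [3, 13])]))])),
  (18, (nd [(226, (lf [(1, [2, 13]), (143, [1, 13])]))]))]))]))]) .nil)

theorem s_42 : stepB0 (nat_lit 8) (nat_lit 255) dtt B2 (nat_lit 243) 500 dch [16] [18]
    [[26], [20], [32], [16], [18]] [[26], [21, 12, 12], [32], [18], [16]] [14] [8] [6]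
    [([6], [6]), ([0], [0, 4, 4, 4]), ([2], [3]), ([4], [5])]
    ([] : List (List ℕ)) ([] : List (List ℕ)) [[14], [14, 18, 16], [14, 16], [14, 18]] ts_42 ct_42 = true := by
  decide +kernel



end Cfsg.Agent.Lib.LyMD
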