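import Cfsg.Agent.Lib.LySDR
import Cfsg.Agent.Lib.LySDT
import Cfsg.Agent.Lib.LySDF
import Cfsg.Agent.Lib.LySDM

set_option autoImplicit false
set_option maxRecDepth 100000

namespace Cfsg.Agent.Lib.LySD
open Cfsg.Agent.Lib.PermNet Cfsg.Agent.Lib.DCE

theorem tab0 : allR (tabB nets (nat_lit 450) (nat_lit 9) (nat_lit 240) (nat_lit 8) (nat_lit 8) (nat_lit 255) tH) (nat_lit 0) (nat_lit 50) = true := by decide +kernel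

def lH0 : Lev := ⟨[[0], [2], [4], [6], [8], [10], [12], [14]], 0, [(0, 0), (0, 1), (0, 2), (0, 3), (0, 4), (0, 5), (0, 7), (31, 0), (31, 1), (31, 2), (31, 3), (31, 4), (31, 5), (130, 0), (130, 1), (130, 2), (130, 3), (130, 4), (130, 5), (130, 7), (228, 0), (228, 1), (228, 2), (228, 3), (228, 7), (110, 0), (110, 1), (110, 3), (110, 4), (110, 5), (23, 0), (23, 2), (23, 3), (23, 4), (23, 7), (55, 2), (55, 3), (55, 4), (55, 5), (55, 7), (80, 0), (80, 1), (80, 2), (80, 3), (80, 5), (195, 1), (195, 2), (195, 3), (195, 4), (195, 5), (195, 7), (67, 0), (67, 1), (67, 2), (67, 3), (67, 4), (67, 5), (67, 7), (109, 0), (109, 2), (109, 3), (109, 5), (109, 7), (118, 0), (118, 1), (118, 2), (118, 3), (118, 4), (118, 7), (153, 2), (153, 3), (153, 4), (153, 5), (153, 7), (44, 0), (44, 1), (44, 3), (44, 5), (199,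 0), (199, 1), (199, 5), (38, 0), (38, 4), (38, 5), (38, 7), (107, 0), (107, 2), (107, 3), (156, 0), (156, 3), (156, 4), (35, 0), (35, 2), (35, 4), (35, 5), (35, 7), (237, 5), (99, 0), (99, 1), (99, 2), (99, 4), (99, 5), (92, 0), (92, 1), (92, 3), (92, 4), (120, 1), (120, 5), (120, 7), (83, 1), (83, 5), (85, 0), (85, 1), (85, 3), (85, 5), (85, 7), (37, 2), (167, 0), (167, 1), (167, 2), (167, 5), (167, 7), (115, 0), (115, 2), (150, 0), (150, 1), (150, 7), (192, 1), (192, 2), (192, 4), (15, 2), (15, 4), (19, 1), (19, 5), (32, 1), (32, 3), (32, 5), (142, 5), (145, 1), (145, 2), (145, 7), (22, 0), (22, 4), (22, 5), (10, 1), (10, 3), (186, 0), (186, 1), (186, 7), (69, 0), (69, 2), (69, 7), (113, 4), (113, 7), (123, 0), (123, 2), (123, 5), (123, 7), (194, 0), (194, 1), (194, 7), (28, 1), (28, 2), (28,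 3), (28, 4), (28, 5), (28, 7), (208, 0), (208, 3), (208, 7), (66, 1), (66, 3), (66, 5), (213, 0), (213, 1), (29, 7), (159, 0), (159, 1), (159, 2), (179, 5), (179, 7), (90, 1), (90, 5), (65, 0), (65, 1), (65, 4), (65, 7), (144, 0), (144, 4), (227, 4), (227, 5), (185, 7), (18, 5), (117, 2), (117, 4), (16, 0), (16, 5), (16, 7), (165, 1), (165, 7), (189, 1), (189, 3), (152, 4), (223, 0), (223, 5), (226, 5), (212, 0), (212, 1), (212, 2), (212, 5), (54, 0), (54, 2), (54, 4), (214, 2), (214, 5), (143, 5), (12, 0), (114, 7), (68, 4), (68, 7), (210, 4), (40, 1), (40, 5), (93, 1), (98, 4), (98, 7), (71, 5), (5, 1), (181, 7), (9, 1), (187, 2), (209, 7), (62, 4), (4, 3), (239, 5), (43, 7), (95, 7), (229, 3), (134, 5)], 240⟩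

def lH1 : Lev := ⟨[[12], [16], [18], [20]], 1, [(1, 1), (1, 2), (1, 3), (161, 2), (161, 3), (59, 1), (59, 3), (128, 1), (128, 2), (128, 3), (6, 1), (6, 3), (176, 1), (176, 2), (176, 3), (99, 3), (100, 1), (100, 2), (100, 3), (57, 2), (57, 3), (145, 1), (145, 3), (46, 1), (46, 2), (166, 3), (111, 1), (111, 2), (111, 3), (147, 3), (79, 1), (103, 1), (103, 2), (24, 1), (24, 3), (175, 2), (23, 1), (190, 1), (190, 2), (195, 1), (72, 2), (72, 3), (55, 1), (150, 3), (97, 1), (97, 2), (97, 3), (58, 3), (96, 3), (119, 3), (110, 3), (56, 2), (56, 3), (30, 1), (38, 3)], 56⟩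

def lH2 : Lev := ⟨[[12], [22], [24]], 2, [(2, 1), (2, 2), (238, 2), (32, 1), (118, 1)], 6⟩

def chH : List Lev := [lH0, lH1, lH2]

theorem cH : chainB (nat_lit 8) (nat_lit 255) tH (nat_lit 240) chH [] = true := by decide +kernel

def lK0 : Lev := ⟨[[0], [2], [4], [6]], 0, [(0, 0), (0, 1), (0, 2), (80, 1), (80, 2), (32, 0), (32, 2), (152, 0), (152, 1), (152, 2), (8, 0), (8, 2), (86, 1), (86, 2), (61, 0), (61, 1), (61, 2), (109, 1), (6, 0), (6, 2), (66, 1), (238, 1), (238, 2), (200, 0), (200, 2), (140, 0), (140, 2), (114, 1), (63, 0), (63, 2), (150, 1), (211, 0), (211, 2), (103, 2), (197, 0), (197, 1), (197, 2), (71, 0), (71, 2), (168, 0), (168, 2), (60, 1), (116, 1), (219, 1), (171, 1), (171, 2), (229, 0), (229, 2), (210, 1), (210, 2), (4, 0), (4, 1), (4, 2), (151, 0), (151, 2), (41, 1), (143,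 0), (143, 1), (143, 2), (159, 0), (159, 2), (92, 1), (92, 2), (121, 0), (121, 2), (91, 1), (91, 2), (7, 1), (7, 2), (195, 0), (195, 2), (130, 0), (130, 2), (169, 0), (55, 1), (30, 1), (135, 2), (175, 2), (123, 0), (1, 2), (163, 2), (208, 0), (208, 2), (196, 1), (90, 2), (127, 0), (127, 2), (180, 1), (105, 1), (105, 2), (96, 1), (232, 2), (5, 0), (13, 0), (54, 0)], 96⟩

def lK1 : Lev := ⟨[[6], [8], [10]], 1, [(1, 1), (1, 2), (96, 2)], 4⟩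

def chK : List Lev := [lK0, lK1]

theorem cK : chainB (nat_lit 8) (nat_lit 255) tK (nat_lit 240) chK [] = true := by decide +kernel

def d0 : List Der := [.base,
  .base,
  .base,
  .base,
  .base,
  .base,
  .base,
  .base,
  .dfn,
  .tm 1 [] [] [⟨8, [], []⟩],
  .tm 0 [] [] [⟨8, [], [14]⟩, ⟨8, [1], []⟩],
  .tm 0 [] [] [⟨8, [], [1, 2, 8, 0]⟩, ⟨8, [9, 5, 3, 1, 3, 1, 4], []⟩],
  .tm 0 [] [] [⟨8, [], [0, 8, 4, 2]⟩, ⟨8, [11, 1, 3, 5, 3, 1, 4], []⟩],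
  .tm 0 [] [] [⟨8, [], [5, 7, 10, 7]⟩, ⟨8, [9, 11, 3, 4, 3, 5], []⟩],
  .tm 0 [] [] [⟨8, [], [2, 11, 14, 7]⟩, ⟨8, [11, 3, 1, 5, 3, 5], []⟩],
  .tm 2 [4, 0, 2, 0, 10, 8] [] [⟨8, [], [9, 5]⟩, ⟨8, [4, 0, 2, 0, 10, 8], []⟩],
  .tm 3 [5, 2, 10, 8] [] [⟨8, [4, 0], [6, 4, 3, 0]⟩, ⟨8, [5, 0, 2, 4, 10], []⟩],
  .dfn,
  .tm 1 [] [] [⟨17, [], []⟩],
  .tm 0 [] [] [⟨17, [], [23, 26]⟩, ⟨17, [9, 11, 3, 1, 3, 1, 3], []⟩],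
  .tm 0 [] [] [⟨17, [], [24, 24, 20]⟩, ⟨17, [11, 3, 1, 3, 5], []⟩],
  .tm 0 [] [] [⟨17, [], [28, 28, 22]⟩, ⟨17, [9, 5, 3, 5, 3, 5], []⟩],
  .tm 0 [] [] [⟨17, [], [21, 29, 22, 25]⟩, ⟨17, [9, 11, 1, 3, 1, 3], []⟩],
  .tm 2 [4, 0, 2, 0, 10, 8] [] [⟨17, [], [25, 20]⟩, ⟨17, [4, 0, 2, 4, 10, 8], []⟩],
  .tm 3 [2, 5, 2, 8] [] [⟨17, [2, 4, 2], [25]⟩, ⟨16, [2, 4, 2, 0, 10], []⟩],
  .tm 1 [2, 5, 0, 2, 0, 10, 8] [] [⟨24, [], []⟩],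
  .tm 3 [2, 4, 2, 10] [] [⟨17, [2, 5, 2], [28, 23, 20]⟩, ⟨25, [0, 2, 4, 0, 10], []⟩],
  .tm 1 [2, 0, 2, 4] [] [⟨26, [], []⟩],
  .tm 3 [4, 2, 5, 10] [] [⟨17, [5, 2, 4], [29, 20, 22]⟩, ⟨25, [5, 2, 5, 0, 2, 0, 10, 8], []⟩],
  .tm 3 [2, 0, 2, 5, 2, 10, 8] [] [⟨17, [0, 2, 4, 2], [28, 28, 20]⟩, ⟨25, [4, 2, 0, 2, 0, 10, 8], []⟩],
  .tm 3 [4, 0, 2, 4, 2, 0, 2, 0, 10] [] [⟨17, [4, 0, 2, 4], [29]⟩, ⟨17, [5, 2, 5, 2], []⟩],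
  .tm 4 [4, 0, 2, 4, 2, 8] [] [⟨25, [4, 0, 2, 5, 2, 8], [21, 23, 28]⟩, ⟨24, [4, 0, 2, 4], []⟩],
  .tm 1 [4, 0, 2, 0, 10, 8] [] [⟨31, [], []⟩],
  .dfn,
  .tm 1 [] [] [⟨33, [], []⟩],
  .tm 0 [] [] [⟨33, [], [23, 26]⟩, ⟨33, [9, 11, 3, 1, 3, 1, 3], []⟩],
  .tm 0 [] [] [⟨33, [], [21, 25, 22, 22]⟩, ⟨33, [11, 3, 1, 3, 5], []⟩],
  .tm 0 [] [] [⟨33, [], [23, 24, 28, 22]⟩, ⟨33, [1, 4], []⟩],
  .tm 3 [5, 0, 2, 5, 2, 10, 8] [] [⟨33, [0, 2, 5, 2], [23, 25]⟩, ⟨25, [4, 0, 2, 4, 2, 10], []⟩],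
  .tm 1 [5, 0, 2, 0] [] [⟨38, [], []⟩],
  .tm 3 [4, 0, 2, 4, 2, 0, 2, 0, 10] [] [⟨33, [4, 0, 2, 4], [22]⟩, ⟨25, [4, 0], []⟩],
  .tm 1 [0, 2, 0, 2, 4, 10, 8] [] [⟨40, [], []⟩],
  .tm 3 [2, 0, 2, 8] [] [⟨33, [0, 2], [28]⟩, ⟨33, [5, 0, 2, 0, 2, 4, 10, 8], []⟩],
  .tm 4 [2, 4, 8] [] [⟨41, [5, 10, 8], [42]⟩, ⟨40, [5, 2], []⟩],
  .tm 4 [4, 0, 2, 5, 0, 2, 0] [] [⟨26, [4, 2, 0, 2, 4, 10, 8], [41]⟩, ⟨40, [2, 5], []⟩],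
  .tm 1 [2, 4, 0, 10] [] [⟨44, [], []⟩],
  .tm 0 [] [] [⟨44, [], [43, 40, 38]⟩, ⟨44, [9, 11, 5, 3, 1], []⟩],
  .tm 3 [4, 0, 2, 4, 0] [] [⟨38, [5, 2, 4], [92, 70, 92]⟩, ⟨38, [5, 0, 2, 0, 2, 4, 8], []⟩],
  .dfn,
  .tm 1 [] [] [⟨48, [], []⟩],
  .tm 0 [] [] [⟨48, [], [23, 26]⟩, ⟨48, [9, 11, 3, 1, 3, 1, 3], []⟩],
  .tm 0 [] [] [⟨48, [], [24, 24, 20]⟩, ⟨48, [11, 1, 3, 5, 3], []⟩],
  .tm 0 [] [] [⟨48, [], [23, 24, 28, 22]⟩, ⟨48, [9, 5, 3, 1, 3], []⟩],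
  .tm 2 [4, 0, 2, 0, 10, 8] [] [⟨48, [], [25]⟩, ⟨33, [4, 0, 2, 0, 2, 10], []⟩],
  .tm 1 [5, 2, 4, 2, 0, 2, 0, 10] [] [⟨53, [], []⟩],
  .tm 3 [0, 2, 4, 10] [] [⟨48, [0, 2, 5], [29, 22, 20]⟩, ⟨33, [4, 2, 4, 2, 0], []⟩],
  .tm 1 [5, 2, 4, 0, 2, 0, 10] [] [⟨55, [], []⟩],
  .tm 3 [2, 0, 2, 5, 2, 10, 8] [] [⟨48, [0, 2, 4, 2], [29, 24]⟩, ⟨48, [5, 2, 5, 2, 8], []⟩],
  .tm 3 [5, 0, 2, 5, 2, 10, 8] [] [⟨48, [0, 2, 5, 2], [25, 23, 24]⟩, ⟨25, [4, 0, 2, 10, 8], []⟩],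
  .tm 1 [2, 5, 2, 5, 8] [] [⟨58, [], []⟩],
  .tm 3 [5, 0, 2, 0, 2, 4, 10, 8] [] [⟨48, [5, 0, 2, 5], [29, 22, 20, 22]⟩, ⟨25, [0, 2], []⟩],
  .tm 1 [0, 2, 4] [] [⟨60, [], []⟩],
  .tm 4 [4, 0, 2, 4, 0] [] [⟨56, [0, 2, 0, 2, 8], [73, 75, 73, 93]⟩, ⟨55, [], []⟩],
  .tm 4 [2, 0, 2, 0, 2, 8] [] [⟨38, [2, 10, 8], [93, 73]⟩, ⟨55, [2], []⟩],
  .tm 1 [0, 2, 0, 2] [] [⟨63, [], []⟩],
  .tm 3 [5, 0, 2, 5, 0, 2, 0, 8] [] [⟨57, [2, 5], [104]⟩, ⟨62, [5, 0, 2], []⟩],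
  .tm 1 [4, 2, 0, 2] [] [⟨65, [], []⟩],
  .tm 4 [4, 2, 4, 2, 0, 10, 8] [] [⟨66, [2, 5], [103, 105]⟩, ⟨57, [2, 5, 2], []⟩],
  .tm 4 [2, 5, 2, 0, 2, 0, 8] [] [⟨59, [4, 2, 4, 10, 8], [43]⟩, ⟨58, [2, 5], []⟩],
  .tm 3 [4, 2, 10, 8] [] [⟨58, [2, 4, 2], [104]⟩, ⟨67, [4, 0, 2], []⟩],
  .tm 1 [0, 2, 0, 2, 4, 10, 8] [] [⟨69, [], []⟩],
  .tm 4 [5, 2, 0, 2, 5, 2, 8] [] [⟨70, [2, 4, 2, 0], [103]⟩, ⟨65, [2], []⟩],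
  .tm 1 [5, 2, 0, 2, 5, 2] [] [⟨71, [], []⟩],
  .tm 3 [2, 4, 0, 2, 0, 10, 8] [] [⟨65, [4, 2], [104, 100]⟩, ⟨70, [0, 2, 5, 2, 10], []⟩],
  .tm 1 [0, 2, 0, 2, 4, 10, 8] [] [⟨73, [], []⟩],
  .tm 3 [4, 0, 2, 4, 2, 10] [] [⟨65, [2, 4, 2], [102, 100]⟩, ⟨68, [0, 2, 5, 0, 2, 0, 8], []⟩],
  .tm 1 [2, 0, 2, 0] [] [⟨75, [], []⟩],
  .tm 3 [5, 0, 2, 4] [] [⟨71, [4, 2], []⟩, ⟨39, [5, 2, 5, 0, 2, 0, 10], []⟩],
  .tm 1 [0, 2, 4, 0, 2, 0, 10, 8] [] [⟨77, [], []⟩],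
  .tm 3 [0, 2, 0, 2, 0] [] [⟨71, [5, 2], [44, 42]⟩, ⟨63, [5, 0, 2, 0, 2, 8], []⟩],
  .tm 3 [5, 0, 2, 4, 10, 8] [] [⟨71, [2, 4], [44, 42]⟩, ⟨71, [0, 2, 0, 2, 4, 10], []⟩],
  .dfn,
  .tm 1 [] [] [⟨81, [], []⟩],
  .tm 0 [] [] [⟨81, [], [43, 40, 38]⟩, ⟨81, [9, 3, 1, 5], []⟩],
  .tm 2 [4, 0, 2, 0, 10, 8] [] [⟨81, [], [38]⟩, ⟨74, [4, 0, 2, 4, 2, 0, 2, 0, 8], []⟩],
  .tm 1 [0, 2] [] [⟨84, [], []⟩],
  .tm 3 [0, 2, 0, 2, 4, 2, 0, 8] [] [⟨81, [], [44, 40]⟩, ⟨74, [5, 0, 2, 0, 2, 10], []⟩],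
  .tm 1 [4, 0, 2, 10, 8] [] [⟨86, [], []⟩],
  .tm 3 [2, 4] [] [⟨81, [2], []⟩, ⟨31, [2, 5, 10, 8], []⟩],
  .tm 1 [4, 2, 4, 0, 2, 0, 10] [] [⟨88, [], []⟩],
  .tm 3 [4, 2, 4, 8] [] [⟨81, [4], [44, 43]⟩, ⟨89, [5, 2, 0, 2, 0, 10, 8], []⟩],
  .tm 1 [4, 0, 2, 4, 0] [] [⟨90, [], []⟩],
  .tm 3 [5, 2, 4, 2, 0, 2, 0] [] [⟨81, [5], [44, 40]⟩, ⟨69, [5, 0, 10, 8], []⟩],
  .tm 1 [5, 2, 0, 2, 5, 2, 8] [] [⟨92, [], []⟩],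
  .tm 3 [5, 0, 2, 4, 10] [] [⟨81, [5, 0], [38]⟩, ⟨71, [4, 0, 2, 4, 2], []⟩],
  .tm 1 [5, 0, 2, 5, 0, 2, 0, 10] [] [⟨94, [], []⟩],
  .tm 4 [4, 2, 4, 0, 2, 0, 8] [] [⟨91, [2, 5, 2, 10], [167]⟩, ⟨81, [0, 2], []⟩],
  .tm 1 [2, 4, 2, 0, 2, 10, 8] [] [⟨96, [], []⟩],
  .tm 3 [5, 0, 2, 0, 2, 10] [] [⟨81, [4, 2], [44, 40]⟩, ⟨71, [5, 2, 0, 10, 8], []⟩],
  .tm 1 [4, 0, 2, 0, 8] [] [⟨98, [], []⟩],
  .tm 3 [4, 2, 10] [] [⟨81, [5, 2], [44, 40, 38]⟩, ⟨97, [0, 2, 4, 10], []⟩],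
  .tm 1 [4, 0, 2, 5, 2] [] [⟨100, [], []⟩],
  .tm 3 [5, 0, 2, 0, 2, 10] [] [⟨81, [5, 0, 2], [38]⟩, ⟨69, [5, 2, 0, 2, 5, 2, 8], []⟩],
  .tm 1 [4, 2, 4, 2, 0] [] [⟨102, [], []⟩],
  .tm 3 [4, 2, 5, 10] [] [⟨81, [5, 2, 4], [44, 42]⟩, ⟨81, [5, 0, 2, 0, 2, 4, 8], []⟩],
  .tm 0 [] [] [⟨93, [], [101, 104]⟩, ⟨93, [9, 11, 3, 4, 3, 1, 5], []⟩],
  .tm 4 [2, 5, 2, 0, 2, 0, 10] [] [⟨72, [2, 0, 2, 10, 8], []⟩, ⟨86, [2, 4], []⟩],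
  .tm 1 [5, 2, 0] [] [⟨106, [], []⟩],
  .tm 4 [4, 2, 10] [] [⟨79, [0, 2, 4, 10], []⟩, ⟨86, [2, 5], []⟩],
  .tm 1 [4, 0, 2, 10, 8] [] [⟨108, [], []⟩],
  .tm 4 [2, 5, 2, 10, 8] [] [⟨77, [5, 2, 4, 2, 0, 10], []⟩, ⟨86, [2, 5, 2], []⟩],
  .tm 1 [2, 0, 2, 0, 2, 0, 8] [] [⟨110, [], []⟩],
  .tm 4 [2, 0, 2, 0, 2, 0, 10] [] [⟨108, [2, 4, 2, 0, 2], [101, 105, 103]⟩, ⟨86, [5, 2, 4], []⟩],
  .tm 4 [5, 2, 0, 2, 0] [] [⟨72, [4, 0, 2, 5, 0, 2, 0], [101, 103, 105]⟩, ⟨86, [], []⟩],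
  .tm 1 [5, 0, 2, 4, 10] [] [⟨113, [], []⟩],
  .tm 4 [5, 2, 4, 2, 0, 2, 0, 10, 8] [] [⟨108, [2, 4, 2, 0, 10, 8], []⟩, ⟨86, [4], []⟩],
  .tm 4 [4, 2, 4, 2, 4, 10] [] [⟨108, [4, 0, 2, 5, 2], [101, 103, 105]⟩, ⟨86, [5], []⟩],
  .tm 4 [5, 2, 4, 2, 0, 2, 0] [] [⟨44, [5, 2, 0, 2, 4, 8], [45]⟩, ⟨88, [4, 0, 2], []⟩],
  .tm 1 [0, 2, 0, 2, 4, 2, 0, 10, 8] [] [⟨117, [], []⟩],
  .tm 4 [2, 5, 2, 5, 10, 8] [] [⟨106, [4, 0, 10], [42]⟩, ⟨88, [0, 2, 5], []⟩],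
  .tm 1 [4, 0, 2, 8] [] [⟨119, [], []⟩],
  .tm 4 [4, 2, 10] [] [⟨44, [0], [39, 45]⟩, ⟨88, [0, 2, 5, 2], []⟩],
  .tm 1 [4, 2, 0, 2, 4, 10] [] [⟨121, [], []⟩],
  .tm 4 [5, 0, 2, 0, 8] [] [⟨106, [5, 2, 0, 2, 4], [45]⟩, ⟨88, [4, 0, 2, 4], []⟩],
  .tm 4 [2] [] [⟨44, [5, 0, 2, 5, 2], [43]⟩, ⟨88, [0], []⟩],
  .tm 1 [5, 2, 0] [] [⟨124, [], []⟩]]

theorem fc0 : checkL (nat_lit 8) (nat_lit 255) tH tK tK' BB FF TM XW d0 (nat_lit 0) = true := by decide +kernel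

theorem cv0_1_0 : covB FF nets (nat_lit 450) (nat_lit 9) (nat_lit 16) (nat_lit 240) (nat_lit 126) (nat_lit 0) (nat_lit 1) [0, 1, 2, 3, 4, 5, 6, 7] [[0], [2], [4], [6], [8], [10], [12], [14]]
    [8] [5, 4, 3, 1, 0, 5, 2, 3, 7, 5] k0_1 = true := by decide +kernel

theorem rw0 : rowB (nat_lit 450) (ivl (nat_lit 240) ((nat_lit 450) - (nat_lit 240))) row0 [0, 210, 0, 0, 0, 0] 0 = true := by decide +kernel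

theorem cv1_0_0 : covB FF nets (nat_lit 450) (nat_lit 9) (nat_lit 16) (nat_lit 240) (nat_lit 126) (nat_lit 1) (nat_lit 0) [10, 11, 12, 13, 14] [[14], [3, 8, 0, 20, 18, 20, 16, 22, 24, 22], [7, 3, 0, 18, 16, 21], [6, 3, 1, 18, 20, 16, 22], [6, 10, 18, 20, 22, 24]]
    [9] [] k1_0 = true := by decide +kernel

theorem cv1_1_0 : covB FF nets (nat_lit 450) (nat_lit 9) (nat_lit 16) (nat_lit 240) (nat_lit 126) (nat_lit 1) (nat_lit 1) [10, 11, 12, 13, 14] [[14], [3, 8, 0, 20, 18, 20, 16, 22, 24, 22], [7, 3, 0, 18, 16, 21], [6, 3, 1, 18, 20, 16, 22], [6, 10, 18, 20, 22, 24]]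
    [16, 15] [0, 4, 0, 2, 0, 4] k1_1 = true := by decide +kernel

theorem cv1_2_0 : covB FF nets (nat_lit 450) (nat_lit 9) (nat_lit 16) (nat_lit 240) (nat_lit 126) (nat_lit 1) (nat_lit 2) [10, 11, 12, 13, 14] [[14], [3, 8, 0, 20, 18, 20, 16, 22, 24, 22], [7, 3, 0, 18, 16, 21], [6, 3, 1, 18, 20, 16, 22], [6, 10, 18, 20, 22, 24]]
    [17, 25] [0, 4, 0, 2, 0, 3, 0, 4, 0, 2] k1_2 = true := by decide +kernel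

theorem cv1_3_0 : covB FF nets (nat_lit 450) (nat_lit 9) (nat_lit 16) (nat_lit 240) (nat_lit 126) (nat_lit 1) (nat_lit 3) [10, 11, 12, 13, 14] [[14], [3, 8, 0, 20, 18, 20, 16, 22, 24, 22], [7, 3, 0, 18, 16, 21], [6, 3, 1, 18, 20, 16, 22], [6, 10, 18, 20, 22, 24]]
    [33] [0, 4, 0, 2, 0, 3, 0, 4] k1_3 = true := by decide +kernel

theorem cv1_4_0 : covB FF nets (nat_lit 450) (nat_lit 9) (nat_lit 16) (nat_lit 240) (nat_lit 126) (nat_lit 1) (nat_lit 4) [10, 11, 12, 13, 14] [[14], [3, 8, 0, 20, 18, 20, 16, 22, 24, 22], [7, 3, 0, 18, 16, 21], [6, 3, 1, 18, 20, 16, 22], [6, 10, 18, 20, 22, 24]]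
    [48] [0, 4, 0, 2, 0, 3, 0, 4] k1_4 = true := by decide +kernel

theorem rw1 : rowB (nat_lit 450) (ivl (nat_lit 240) ((nat_lit 450) - (nat_lit 240))) row1 [1, 25, 120, 32, 32, 0] 0 = true := by decide +kernel

theorem cv2_1_0 : covB FF nets (nat_lit 450) (nat_lit 9) (nat_lit 16) (nat_lit 240) (nat_lit 126) (nat_lit 2) (nat_lit 1) [19, 20, 21, 22] [[10, 2, 16, 18, 20], [6, 5, 20, 18, 21, 24], [4, 9, 4, 18, 21, 16, 22], [8, 4, 18, 20, 16, 22, 24, 22]]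
    [18, 24] [1, 2] k2_1 = true := by decide +kernel

theorem cv2_2_0 : covB FF nets (nat_lit 450) (nat_lit 9) (nat_lit 16) (nat_lit 240) (nat_lit 126) (nat_lit 2) (nat_lit 2) [19, 20, 21, 22] [[10, 2, 16, 18, 20], [6, 5, 20, 18, 21, 24], [4, 9, 4, 18, 21, 16, 22], [8, 4, 18, 20, 16, 22, 24, 22]]
    [26, 47, 29, 28, 27, 23, 31, 30, 32] [1, 2, 0, 3] k2_2 = true := by decide +kernel

theorem cv2_3_0 : covB FF nets (nat_lit 450) (nat_lit 9) (nat_lit 16) (nat_lit 240) (nat_lit 126) (nat_lit 2) (nat_lit 3) [19, 20, 21, 22] [[10, 2, 16, 18, 20], [6, 5, 20, 18, 21, 24], [4, 9, 4, 18, 21, 16, 22], [8, 4, 18, 20, 16, 22, 24, 22]]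
    [41, 44, 39] [0, 1, 2, 3] k2_3 = true := by decide +kernel

theorem cv2_4_0 : covB FF nets (nat_lit 450) (nat_lit 9) (nat_lit 16) (nat_lit 240) (nat_lit 126) (nat_lit 2) (nat_lit 4) [19, 20, 21, 22] [[10, 2, 16, 18, 20], [6, 5, 20, 18, 21, 24], [4, 9, 4, 18, 21, 16, 22], [8, 4, 18, 20, 16, 22, 24, 22]]
    [59, 71, 63, 74, 69, 61] [0, 2, 1, 3] k2_4 = true := by decide +kernel

theorem cv2_5_0 : covB FF nets (nat_lit 450) (nat_lit 9) (nat_lit 16) (nat_lit 240) (nat_lit 126) (nat_lit 2) (nat_lit 5) [19, 20, 21, 22] [[10, 2, 16, 18, 20], [6, 5, 20, 18, 21, 24], [4, 9, 4, 18, 21, 16, 22], [8, 4, 18, 20, 16, 22, 24, 22]]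
    [81, 97, 113, 89, 106] [0, 1, 3, 2] k2_5 = true := by decide +kernel

theorem rw2 : rowB (nat_lit 450) (ivl (nat_lit 240) ((nat_lit 450) - (nat_lit 240))) row2 [0, 5, 45, 24, 64, 72] 0 = true := by decide +kernel

theorem cv3_1_0 : covB FF nets (nat_lit 450) (nat_lit 9) (nat_lit 16) (nat_lit 240) (nat_lit 126) (nat_lit 3) (nat_lit 1) [35, 36, 37, 46] [[10, 2, 16, 18, 20], [6, 5, 20, 18, 21, 24], [5, 1, 21, 16, 18, 16, 22], [14, 4, 18, 21, 16, 24]]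
    [34] [3, 0] k3_1 = true := by decide +kernel

theorem cv3_2_0 : covB FF nets (nat_lit 450) (nat_lit 9) (nat_lit 16) (nat_lit 240) (nat_lit 126) (nat_lit 3) (nat_lit 2) [35, 36, 37, 46] [[10, 2, 16, 18, 20], [6, 5, 20, 18, 21, 24], [5, 1, 21, 16, 18, 16, 22], [14, 4, 18, 21, 16, 24]]
    [38, 40, 45] [1, 2, 3, 0, 2, 3] k3_2 = true := by decide +kernel

theorem cv3_3_0 : covB FF nets (nat_lit 450) (nat_lit 9) (nat_lit 16) (nat_lit 240) (nat_lit 126) (nat_lit 3) (nat_lit 3) [35, 36, 37, 46] [[10, 2, 16, 18, 20], [6, 5, 20, 18, 21, 24], [5, 1, 21, 16, 18, 16, 22], [14, 4, 18, 21, 16, 24]]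
    [42, 43] [3, 1, 0, 2, 1] k3_3 = true := by decide +kernel

theorem cv3_4_0 : covB FF nets (nat_lit 450) (nat_lit 9) (nat_lit 16) (nat_lit 240) (nat_lit 126) (nat_lit 3) (nat_lit 4) [35, 36, 37, 46] [[10, 2, 16, 18, 20], [6, 5, 20, 18, 21, 24], [5, 1, 21, 16, 18, 16, 22], [14, 4, 18, 21, 16, 24]]
    [78, 56, 54] [3, 0, 1, 2, 1] k3_4 = true := by decide +kernel

theorem cv3_5_0 : covB FF nets (nat_lit 450) (nat_lit 9) (nat_lit 16) (nat_lit 240) (nat_lit 126) (nat_lit 3) (nat_lit 5) [35, 36, 37, 46] [[10, 2, 16, 18, 20], [6, 5, 20, 18, 21, 24], [5, 1, 21, 16, 18, 16, 22], [14, 4, 18, 21, 16, 24]]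
    [124, 110, 121, 117] [0, 3, 1, 2, 3, 1] k3_5 = true := by decide +kernel

theorem rw3 : rowB (nat_lit 450) (ivl (nat_lit 240) ((nat_lit 450) - (nat_lit 240))) row3 [0, 3, 54, 36, 27, 90] 0 = true := by decide +kernel

theorem cv4_1_0 : covB FF nets (nat_lit 450) (nat_lit 9) (nat_lit 16) (nat_lit 240) (nat_lit 126) (nat_lit 4) (nat_lit 1) [50, 51, 52] [[10, 2, 16, 18, 20], [2, 6, 1, 20, 16, 21, 22], [3, 0, 18, 21, 22, 24]]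
    [49] [] k4_1 = true := by decide +kernel

theorem cv4_2_0 : covB FF nets (nat_lit 450) (nat_lit 9) (nat_lit 16) (nat_lit 240) (nat_lit 126) (nat_lit 4) (nat_lit 2) [50, 51, 52] [[10, 2, 16, 18, 20], [2, 6, 1, 20, 16, 21, 22], [3, 0, 18, 21, 22, 24]]
    [73, 72, 58, 60, 64, 70] [2, 1, 0, 2] k4_2 = true := by decide +kernel

theorem cv4_3_0 : covB FF nets (nat_lit 450) (nat_lit 9) (nat_lit 16) (nat_lit 240) (nat_lit 126) (nat_lit 4) (nat_lit 3) [50, 51, 52] [[10, 2, 16, 18, 20], [2, 6, 1, 20, 16, 21, 22], [3, 0, 18, 21, 22, 24]]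
    [55, 53, 77] [2, 1, 2] k4_3 = true := by decide +kernel

theorem cv4_4_0 : covB FF nets (nat_lit 450) (nat_lit 9) (nat_lit 16) (nat_lit 240) (nat_lit 126) (nat_lit 4) (nat_lit 4) [50, 51, 52] [[10, 2, 16, 18, 20], [2, 6, 1, 20, 16, 21, 22], [3, 0, 18, 21, 22, 24]]
    [62, 76, 57, 67, 80, 65, 66, 68, 79, 75] [0, 2, 1, 2] k4_4 = true := by decide +kernel

theorem cv4_5_0 : covB FF nets (nat_lit 450) (nat_lit 9) (nat_lit 16) (nat_lit 240) (nat_lit 126) (nat_lit 4) (nat_lit 5) [50, 51, 52] [[10, 2, 16, 18, 20], [2, 6, 1, 20, 16, 21, 22], [3, 0, 18, 21, 22, 24]]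
    [95, 87, 85, 93, 99, 108, 103] [0, 2, 1, 2] k4_5 = true := by decide +kernel

theorem rw4 : rowB (nat_lit 450) (ivl (nat_lit 240) ((nat_lit 450) - (nat_lit 240))) row4 [0, 1, 48, 9, 86, 66] 0 = true := by decide +kernel

theorem cv5_2_0 : covB FF nets (nat_lit 450) (nat_lit 9) (nat_lit 16) (nat_lit 240) (nat_lit 126) (nat_lit 5) (nat_lit 2) [83, 105] [[10, 5, 1, 21, 18, 16, 20, 16, 22, 24], [9, 1, 16, 21]]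
    [82, 88, 96, 107, 114] [1, 0, 1, 0, 1] k5_2 = true := by decide +kernel

theorem cv5_3_0 : covB FF nets (nat_lit 450) (nat_lit 9) (nat_lit 16) (nat_lit 240) (nat_lit 126) (nat_lit 5) (nat_lit 3) [83, 105] [[10, 5, 1, 21, 18, 16, 20, 16, 22, 24], [9, 1, 16, 21]]
    [122, 111, 118, 125] [1, 0, 1, 0, 1] k5_3 = true := by decide +kernel

theorem cv5_4_0 : covB FF nets (nat_lit 450) (nat_lit 9) (nat_lit 16) (nat_lit 240) (nat_lit 126) (nat_lit 5) (nat_lit 4) [83, 105] [[10, 5, 1, 21, 18, 16, 20, 16, 22, 24], [9, 1, 16, 21]]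
    [84, 86, 92, 94, 98, 102, 109] [1, 0, 1, 0, 1] k5_4 = true := by decide +kernel

theorem cv5_5_0 : covB FF nets (nat_lit 450) (nat_lit 9) (nat_lit 16) (nat_lit 240) (nat_lit 126) (nat_lit 5) (nat_lit 5) [83, 105] [[10, 5, 1, 21, 18, 16, 20, 16, 22, 24], [9, 1, 16, 21]]
    [90, 91, 100, 101, 104, 116, 120, 115, 112, 123, 119] [1, 0, 1, 0, 1] k5_5 = true := by decide +kernel

theorem rw5 : rowB (nat_lit 450) (ivl (nat_lit 240) ((nat_lit 450) - (nat_lit 240))) row5 [0, 0, 45, 25, 55, 85] 0 = true := by decide +kernel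

end Cfsg.Agent.Lib.LySD
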