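import Cfsg.Agent.Lib.DCE7
import Cfsg.Agent.Lib.LySDC0
import Cfsg.Agent.Lib.LySDE0

set_option autoImplicit false
set_option maxRecDepth 100000

namespace Cfsg.Agent.Lib.LySD
open Cfsg.Agent.Lib.PermNet Cfsg.Agent.Lib.DCE

open Cfsg.Agent.Lib.Words Cfsg.Agent.Lib.PermGroup

/-- Relators of the subgroup. -/
def K1 : List (List ℕ) := [[0, 0, 0], [2, 2, 2], [4, 4, 4], [6, 6, 6], [8, 8, 8], [10, 10, 10], [0, 3, 0, 2, 1, 2], [0, 5, 0, 4, 1, 4], [0, 3, 0, 4, 1, 2, 1, 4], [0, 7, 0, 6, 1, 6], [4, 7, 4, 6, 5, 6], [0, 3, 0, 6, 1, 2, 1, 6], [0, 9, 0, 8, 1, 8], [4, 9, 4, 8, 5, 8], [6, 9, 6, 8, 7, 8], [0, 3, 0, 8, 1, 2, 1, 8], [0, 11, 0, 10, 1, 10], [4, 11, 4, 10, 5, 10], [6, 11, 6, 10, 7, 10], [8, 11, 8, 10, 9, 10], [0, 3, 0, 10, 1, 2, 1, 10], [12, 12, 12], [12, 0, 13, 1], [12, 2, 13, 3], [12, 4, 13, 5], [12, 6, 13, 7], [12, 8, 13, 9], [12, 10, 13, 11], [14, 14], [14, 12, 14, 12], [14, 0,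 14, 8, 1, 9], [14, 2, 14, 9, 5, 1, 4, 8], [14, 4, 14, 9, 3, 1, 2, 8], [14, 6, 14, 9, 7, 1, 6, 8], [14, 8, 14, 9, 0, 8], [14, 10, 14, 10, 8, 1, 9, 11], [12]]

def I1 : List ℕ := [7]

/-- Further relations in the subgroup. -/
def X : List (List ℕ) := []

/-- Relators that involve the extra generator. -/
def RR : List (List ℕ) := [[14, 16, 15, 17], [2, 0, 11, 7, 4, 9, 4, 0, 2, 16, 3, 1, 5, 8, 5, 6, 10, 1, 3, 17], [9, 1, 4, 2, 16, 13, 13, 9, 1, 4, 2, 17], [12, 16, 13, 17], [16, 16], [16, 1, 9, 6, 11, 6, 2, 5, 2, 16, 1, 9, 6, 11, 6, 2, 5, 2, 16, 1, 9, 6, 11, 6, 2, 5, 2], [16, 3, 0, 11, 6, 9, 6, 4, 0, 16, 3, 0, 11, 6, 9, 6, 4, 0, 16, 3, 0, 11, 6, 9, 6, 4, 0]]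

noncomputable def dat : Dat where
  N := (nat_lit 450)
  K := (nat_lit 9)
  nS := (nat_lit 240)
  KS := (nat_lit 8)
  wb := (nat_lit 8)
  mask := (nat_lit 255)
  n0 := 8
  nl := (nat_lit 50)
  k0 := 13
  nK := (nat_lit 6)
  idT := idT
  T := 80640
  TK := 384
  nF := (nat_lit 126)
  n := 6
  s0 := 0
  tot := 22275
  nets := nets
  th := th
  tk := tk
  tk' := tk'
  F := FF
  TM := TM
  XW := XW
  defs := defs
  R := RR
  cw := []
  rows := [row0, row1, row2, row3, row4, row5]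
  cs := [[0, 210, 0, 0, 0, 0], [1, 25, 120, 32, 32, 0], [0, 5, 45, 24, 64, 72], [0, 3, 54, 36, 27, 90], [0, 1, 48, 9, 86, 66], [0, 0, 45, 25, 55, 85]]
  u := []
  v := []
  live := [(nat_lit 0), (nat_lit 1), (nat_lit 2), (nat_lit 3), (nat_lit 4), (nat_lit 5)]
  cols := [1, 2, 3, 4, 5]
  sz := [1, 210, 5040, 2240, 6720, 8064]
  par := [0, 0, 1, 1, 1, 2]
  chH := chH
  chK := chK
  tc := [[([], 8)],
  [([], 8)],
  [([1, 9, 6, 11, 6, 2, 5, 2], 11)],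
  [([3, 0, 11, 6, 9, 6, 4, 0], 13)],
  [([3, 0, 11, 6, 9, 6, 4, 0], 13)]]

theorem hrels : ∀ w ∈ relW rels, wval nets.perm w = 1 :=
  relW_one (wval_eq_of_relsOn (K := 9) hv (by norm_num) rels0_0)

theorem hK1 : ∀ w ∈ K1, wval nets.perm w = 1 := derive [] hrels _ (by decide +kernel)

theorem hX : ∀ w ∈ X, wval nets.perm w = 1 := derive [] hrels _ (by decide +kernel)

theorem hB : dat.B = BB := by decide +kernel

theorem facts : AllR (fun c => ∃ e, checkF (nat_lit 8) (nat_lit 255) tH tK tK' BB FF TM XW c e = true) 0 (nat_lit 126) :=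
  (allR_of_checkL d0 0 126 (by decide +kernel) fc0)

theorem tab : AllR (fun l => tabB nets (nat_lit 450) (nat_lit 9) (nat_lit 240) (nat_lit 8) (nat_lit 8) (nat_lit 255) tH l = true)
    0 (nat_lit 50) :=
  (allR_of 0 50 50 (by decide) tab0)

theorem cov0 : AllIdx (fun j m => Cov nets FF (nat_lit 240) (nat_lit 126) (nat_lit 0) (getD 0 dat.live j) m) 0 row0 :=
  ⟨cov_zero,
    (cov_of_covB hv _ (by decide +kernel) _ _ _ _ cv0_1_0),
    cov_zero,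
    cov_zero,
    cov_zero,
    cov_zero, trivial⟩

theorem cov1 : AllIdx (fun j m => Cov nets FF (nat_lit 240) (nat_lit 126) (nat_lit 1) (getD 0 dat.live j) m) 0 row1 :=
  ⟨(cov_of_covB hv _ (by decide +kernel) _ _ _ _ cv1_0_0),
    (cov_of_covB hv _ (by decide +kernel) _ _ _ _ cv1_1_0),
    (cov_of_covB hv _ (by decide +kernel) _ _ _ _ cv1_2_0),
    (cov_of_covB hv _ (by decide +kernel) _ _ _ _ cv1_3_0),
    (cov_of_covB hv _ (by decide +kernel) _ _ _ _ cv1_4_0),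
    cov_zero, trivial⟩

theorem cov2 : AllIdx (fun j m => Cov nets FF (nat_lit 240) (nat_lit 126) (nat_lit 2) (getD 0 dat.live j) m) 0 row2 :=
  ⟨cov_zero,
    (cov_of_covB hv _ (by decide +kernel) _ _ _ _ cv2_1_0),
    (cov_of_covB hv _ (by decide +kernel) _ _ _ _ cv2_2_0),
    (cov_of_covB hv _ (by decide +kernel) _ _ _ _ cv2_3_0),
    (cov_of_covB hv _ (by decide +kernel) _ _ _ _ cv2_4_0),
    (cov_of_covB hv _ (by decide +kernel) _ _ _ _ cv2_5_0), trivial⟩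

theorem cov3 : AllIdx (fun j m => Cov nets FF (nat_lit 240) (nat_lit 126) (nat_lit 3) (getD 0 dat.live j) m) 0 row3 :=
  ⟨cov_zero,
    (cov_of_covB hv _ (by decide +kernel) _ _ _ _ cv3_1_0),
    (cov_of_covB hv _ (by decide +kernel) _ _ _ _ cv3_2_0),
    (cov_of_covB hv _ (by decide +kernel) _ _ _ _ cv3_3_0),
    (cov_of_covB hv _ (by decide +kernel) _ _ _ _ cv3_4_0),
    (cov_of_covB hv _ (by decide +kernel) _ _ _ _ cv3_5_0), trivial⟩

theorem cov4 : AllIdx (fun j m => Cov nets FF (nat_lit 240) (nat_lit 126) (nat_lit 4) (getD 0 dat.live j) m) 0 row4 :=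
  ⟨cov_zero,
    (cov_of_covB hv _ (by decide +kernel) _ _ _ _ cv4_1_0),
    (cov_of_covB hv _ (by decide +kernel) _ _ _ _ cv4_2_0),
    (cov_of_covB hv _ (by decide +kernel) _ _ _ _ cv4_3_0),
    (cov_of_covB hv _ (by decide +kernel) _ _ _ _ cv4_4_0),
    (cov_of_covB hv _ (by decide +kernel) _ _ _ _ cv4_5_0), trivial⟩

theorem cov5 : AllIdx (fun j m => Cov nets FF (nat_lit 240) (nat_lit 126) (nat_lit 5) (getD 0 dat.live j) m) 0 row5 :=
  ⟨cov_zero,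
    cov_zero,
    (cov_of_covB hv _ (by decide +kernel) _ _ _ _ cv5_2_0),
    (cov_of_covB hv _ (by decide +kernel) _ _ _ _ cv5_3_0),
    (cov_of_covB hv _ (by decide +kernel) _ _ _ _ cv5_4_0),
    (cov_of_covB hv _ (by decide +kernel) _ _ _ _ cv5_5_0), trivial⟩

theorem ok : dat.OKI :=
  ⟨hv, by decide +kernel, derive [] hrels _ (by decide +kernel), tab, cH, cK, hB ▸ facts,
    ⟨rw0, rw1, rw2, rw3, rw4, rw5, trivial⟩,
    ⟨cov0, cov1, cov2, cov3, cov4, cov5, trivial⟩⟩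

end Cfsg.Agent.Lib.LySD
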