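import Cfsg.Agent.Lib.LyMMT
import Cfsg.Agent.Lib.LyK
import Cfsg.Agent.Lib.LySD

/-! A model of `McL:2`. -/

set_option autoImplicit false
set_option maxRecDepth 100000

namespace Cfsg.Agent.Lib.LyMM

open Cfsg.Agent.Lib.PermNet Cfsg.Agent.Lib.Words Cfsg.Agent.Lib.PermGroup Cfsg.Agent.Lib.DCE Cfsg.Agent.Lib.PermModel Cfsg.Agent.Lib.BT

theorem mok_id : idB (nat_lit 275) (nat_lit 9) (nat_lit 511) mid = true := by decide +kernel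

theorem mok_0 : allR (fun i => okT (nat_lit 275) (nat_lit 9) (nat_lit 511) (mtt.get (2 * i)) (mtt.get (2 * i + 1))) (nat_lit 0) (nat_lit 33) = true := by
  decide +kernel

def hdL0 : List (List ℕ) := [[19, 3, 6, 5, 2, 0, 2, 0, 2], [21, 0, 2, 0, 2], [23, 3, 8, 5, 2, 0, 2, 0, 2], [25, 3, 10, 5, 2, 0, 2, 0, 2], [27, 11, 16, 11, 0, 16, 20, 17, 1, 10, 17, 10], [29, 16, 0, 16, 0, 16, 20, 17, 1, 17, 1, 17], [31, 6, 11, 16, 2, 16, 20, 17, 3, 17, 10, 7], [33, 6, 11, 16, 3, 16, 20, 17, 2, 17, 10, 7], [35, 7, 2, 11, 16, 2, 16, 20, 17, 3, 17, 10, 3, 6], [37, 7, 4, 11, 16, 2, 16, 20, 17, 3, 17, 10, 5, 6], [39, 6, 9, 6, 16, 10, 16, 20, 17, 11, 17, 7, 8, 7], [41, 7, 8, 7, 16, 10, 16, 20, 17, 11, 17, 6, 9, 6], [43, 0, 14, 8], [45, 8, 16, 9], [47, 7, 10], [49, 6, 44, 10, 42, 45], [51, 44, 10, 6, 44, 43, 10, 45, 6], [53, 42, 42], [55, 47, 50],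 [57, 47, 51, 46, 50, 49, 49], [59, 46, 51, 46, 46, 43, 49], [61, 54, 52, 55], [63, 57, 57, 54, 54, 56, 55], [65, 60, 59]]

theorem hd0 : allL (fixA (nat_lit 9) (nat_lit 511) mtt (nat_lit 275)) hdL0 = true := by decide +kernel

theorem hc : chB (nat_lit 9) (nat_lit 511) mtt (nat_lit 275) (fun _ => true) mch [] = true := by decide +kernel

def hkL0 : List (List ℕ) := [[0, 0, 0], [2, 2, 2], [4, 4, 4], [6, 6, 6], [8, 8, 8], [10, 10, 10], [0, 3, 0, 2, 1, 2], [0, 5, 0, 4, 1, 4], [0, 3, 0, 4, 1, 2, 1, 4], [0, 7, 0, 6, 1, 6], [4, 7, 4, 6, 5, 6], [0, 3, 0, 6, 1, 2, 1, 6], [0, 9, 0, 8, 1, 8], [4, 9, 4, 8, 5, 8], [6, 9, 6, 8, 7, 8], [0, 3, 0, 8, 1, 2, 1, 8], [0, 11, 0, 10, 1, 10], [4, 11, 4, 10, 5, 10], [6, 11, 6, 10, 7, 10], [8, 11, 8, 10, 9, 10], [0, 3, 0, 10, 1, 2, 1, 10], [12, 12, 12], [12, 0, 13, 1], [12, 2, 13, 3], [12, 4, 13, 5],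 [12, 6, 13, 7], [12, 8, 13, 9], [12, 10, 13, 11], [14, 14], [14, 12, 14, 12], [14, 0, 14, 8, 1, 9], [14, 2, 14, 9, 5, 1, 4, 8], [14, 4, 14, 9, 3, 1, 2, 8], [14, 6, 14, 9, 7, 1, 6, 8], [14, 8, 14, 9, 0, 8], [14, 10, 14, 10, 8, 1, 9, 11], [12], [14, 16, 15, 17], [2, 0, 11, 7, 4, 9, 4, 0, 2, 16, 3, 1, 5, 8, 5, 6, 10, 1, 3, 17], [9, 1, 4, 2, 16, 13, 13, 9, 1, 4, 2, 17], [12, 16, 13, 17], [16, 16], [16, 1, 9, 6, 11, 6, 2, 5, 2, 16, 1, 9, 6, 11, 6, 2, 5, 2, 16, 1, 9, 6, 11, 6, 2, 5, 2], [16, 3, 0, 11, 6, 9, 6, 4, 0, 16, 3, 0, 11, 6, 9, 6, 4, 0, 16, 3, 0, 11, 6, 9, 6, 4, 0]]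

theorem hk0 : allL (fixA (nat_lit 9) (nat_lit 511) mtt (nat_lit 275)) hkL0 = true := by decide +kernel

theorem mok : TabsOK (nat_lit 275) (nat_lit 9) (nat_lit 511) (nat_lit 33) mth mid := ⟨mok_id, (allR_of 0 33 33 (by decide) mok_0)⟩

theorem hTM : TM 9 (nat_lit 275) (nat_lit 9) (nat_lit 511) (nat_lit 33) mid 1796256000 mth mdefs mch :=
  ⟨mok, (mok.relsA _ hd0), hc, by decide +kernel⟩

theorem hK : ∀ w ∈ LyK.KB ++ LySD.RR, wval (tp (nat_lit 275) (nat_lit 9) (nat_lit 511) mtt) w = 1 := fun w hw =>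
  mok.relsA hkL0 hk0 w ((by decide +kernel : LyK.KB ++ LySD.RR = hkL0) ▸ hw)

noncomputable def ts_u : List Tst := [⟨[], [], [⟨0, [0], [0], [0]⟩, ⟨0, [1], [1], [1]⟩, ⟨0, [2], [18], [18]⟩]⟩,
  ⟨[⟨0, [1], [1], [1]⟩], [], []⟩,
  ⟨[⟨1, [3], [19], [19]⟩], [], []⟩,
  ⟨[⟨0, [1], [1], [1]⟩], [], []⟩,
  ⟨[⟨3, [0], [0], [0]⟩], [], []⟩,
  ⟨[], [], [⟨0, [0], [0], [0]⟩, ⟨0, [1], [1], [1]⟩, ⟨0, [2], [18], [18]⟩]⟩]

noncomputable def ct_u : CT := (.node 0 [] [] (nat_lit 0x0) (nd [(153, (nd [(29, (nd [(154, (nd [(1, (nd [(137, (lf [(178, [20])]))]))]))]))])),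
  (32, (nd [(218, (nd [(208, (nd [(94, (nd [(3, (lf [(104, [26])]))]))]))]))])),
  (139, (nd [(50, (nd [(109, (nd [(20, (nd [(158, (lf [(0, [28])]))]))]))]))])),
  (88, (nd [(196, (nd [(238, (nd [(163, (nd [(78, (lf [(99, [30])]))]))]))]))])),
  (269, (nd [(111, (nd [(53, (nd [(181, (nd [(202, (lf [(121, [32])]))]))]))]))])),
  (164, (nd [(182, (nd [(4, (nd [(89, (nd [(184, (lf [(56, [34])]))]))]))]))])),
  (247, (nd [(177, (nd [(79, (nd [(127, (nd [(211, (lf [(157, [36])]))]))]))]))])),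
  (84, (nd [(190, (nd [(224, (nd [(142, (nd [(28, (lf [(133, [38])]))]))]))]))])),
  (125, (nd [(141, (nd [(19, (nd [(31, (nd [(191, (lf [(149, [40])]))]))]))]))]))]) .nil)

def UU : List (List ℕ) := [[20], [26], [28], [30], [32], [34], [36], [38], [40]]

theorem s_u : solveB (nat_lit 9) (nat_lit 511) mtt (nat_lit 275) 500 B2 (fun _ => true) mch 0 []
    [[0], [18]] [[0], [18]] (prEq 500 [[0], [18]] [[0], [18]] ++ [[1000, 1000]]) [[1000]] [] (memLL UU) id ts_u ct_u = true := by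
  decide +kernel



end Cfsg.Agent.Lib.LyMM
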