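import Cfsg.Agent.Lib.BT4
import Cfsg.Agent.Lib.LySD
import Cfsg.Agent.Lib.LyK

/-! A double coset enumeration that collapses. -/

set_option autoImplicit false
set_option maxRecDepth 100000

namespace Cfsg.Agent.Lib.LySC

open Cfsg.Agent.Lib.PermNet Cfsg.Agent.Lib.Words Cfsg.Agent.Lib.PermGroup Cfsg.Agent.Lib.DCE Cfsg.Agent.Lib.PermModel Cfsg.Agent.Lib.BT

open LySD

theorem hub {G : Type*} [Group G] (f : ℕ → G) (hK : ∀ w ∈ LyK.KB, wval f w = 1) :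
    Nat.card (WW f nets 8) ≠ 0 ∧ Nat.card (WW f nets 8) ≤ 80640 :=
  LyK.card_leB _ (rels_pair hK hK1)

noncomputable def Fsb : FT := (.node (nat_lit 15) (.node (nat_lit 7) (.node (nat_lit 3) (.node (nat_lit 1) (.leaf ⟨0, 0, false, [0], []⟩)
  (.node (nat_lit 2) (.leaf ⟨0, 0, false, [2], []⟩)
  (.leaf ⟨0, 0, false, [4], []⟩)))
  (.node (nat_lit 5) (.node (nat_lit 4) (.leaf ⟨0, 0, false, [6], []⟩)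
  (.leaf ⟨0, 0, false, [8], []⟩))
  (.node (nat_lit 6) (.leaf ⟨0, 0, false, [10], []⟩)
  (.leaf ⟨0, 0, false, [12], []⟩))))
  (.node (nat_lit 11) (.node (nat_lit 9) (.node (nat_lit 8) (.leaf ⟨0, 0, false, [14], []⟩)
  (.leaf ⟨0, 1, true, [], []⟩))
  (.node (nat_lit 10) (.leaf ⟨1, 0, true, [], []⟩)
  (.leaf ⟨1, 1, false, [14], []⟩)))
  (.node (nat_lit 13) (.node (nat_lit 12) (.leaf ⟨1, 1, false, [3, 8, 0, 20, 18, 20, 16, 22, 24, 22], []⟩)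
  (.leaf ⟨1, 1, false, [7, 3, 0, 18, 16, 21], []⟩))
  (.node (nat_lit 14) (.leaf ⟨1, 1, false, [6, 10, 18, 20, 22, 24], []⟩)
  (.leaf ⟨1, 1, true, [11, 14, 2, 0], [6, 2, 20, 16]⟩)))))
  (.node (nat_lit 22) (.node (nat_lit 18) (.node (nat_lit 16) (.leaf ⟨1, 2, true, [4], []⟩)
  (.node (nat_lit 17) (.leaf ⟨2, 2, false, [6, 5, 20, 18, 21, 24], []⟩)
  (.leaf ⟨2, 2, false, [4, 9, 4, 18, 21, 16, 22], []⟩)))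
  (.node (nat_lit 20) (.node (nat_lit 19) (.leaf ⟨2, 2, true, [2, 7, 2], [7, 8, 0, 20, 18, 21]⟩)
  (.leaf ⟨2, 1, true, [14, 7, 1], [11, 4, 1, 21, 16, 21, 16, 22, 24]⟩))
  (.node (nat_lit 21) (.leaf ⟨1, 2, true, [9, 6, 3], [3, 0, 18, 21, 24]⟩)
  (.leaf ⟨2, 2, true, [2, 7, 4, 0], [2, 4, 1, 18, 20]⟩))))
  (.node (nat_lit 26) (.node (nat_lit 24) (.node (nat_lit 23) (.leaf ⟨2, 2, true, [6, 4, 3, 0], [3, 5, 20, 18, 21, 24]⟩)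
  (.leaf ⟨2, 2, false, [8, 6, 20, 16, 18, 16, 24], []⟩))
  (.node (nat_lit 25) (.leaf ⟨1, 2, false, [11, 18, 20, 16, 24], []⟩)
  (.leaf ⟨2, 1, false, [1, 3, 0, 20, 16, 18, 22], []⟩)))
  (.node (nat_lit 28) (.node (nat_lit 27) (.leaf ⟨1, 1, false, [11, 1, 20, 18, 20, 22, 24], []⟩)
  (.leaf ⟨1, 1, true, [11, 4], [7, 5, 1, 21, 18, 16, 20, 16, 22, 24, 22]⟩))
  (.node (nat_lit 29) (.leaf ⟨1, 0, false, [1, 3, 18, 20, 18], []⟩)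
  (.leaf ⟨0, 0, true, [], [1, 3, 18, 20, 18]⟩))))))

def TMsb : List Tm := [⟨true, [], [(true, [])]⟩, ⟨false, [], [(false, []), (true, [])]⟩, ⟨true, [], [(false, [])]⟩, ⟨true, [1, 5, 7, 8, 7, 10, 1, 2], [(false, [7, 4, 11, 3, 8, 4, 2, 1, 1, 5, 7, 8, 7, 10, 1, 2]), (true, [1, 5, 7, 8, 7, 10, 1, 2])]⟩]

def XWsb : List (List (List ℕ)) := [[], [[]], [[], [4]]]

def dsb : List Der := [.base,
  .base,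
  .base,
  .base,
  .base,
  .base,
  .base,
  .base,
  .dfn,
  .tm 2 [] [] [⟨8, [], []⟩],
  .tm 1 [] [] [⟨8, [], [14]⟩, ⟨8, [1], []⟩],
  .tm 1 [] [] [⟨8, [], [1, 2, 8, 0]⟩, ⟨8, [9, 5, 3, 1, 3, 1, 4], []⟩],
  .tm 1 [] [] [⟨8, [], [0, 8, 4, 2]⟩, ⟨8, [11, 1, 3, 5, 3, 1, 4], []⟩],
  .tm 1 [] [] [⟨8, [], [2, 11, 14, 7]⟩, ⟨8, [11, 3, 1, 5, 3, 5], []⟩],
  .tm 3 [5, 2, 10, 8] [] [⟨8, [4, 0], [6, 4, 3, 0]⟩, ⟨8, [5, 2, 0, 2, 4, 10, 8], []⟩],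
  .dfn,
  .tm 1 [] [] [⟨15, [], [24, 24, 20]⟩, ⟨15, [11, 3, 1, 3, 5], []⟩],
  .tm 1 [] [] [⟨15, [], [26, 26, 22]⟩, ⟨15, [9, 5, 3, 5, 3, 5], []⟩],
  .tm 3 [4, 0, 2, 4, 2, 0, 2, 0, 10] [] [⟨15, [4, 0, 2, 4], [27]⟩, ⟨15, [2, 4, 0, 2, 0], []⟩],
  .tm 3 [5, 0, 2, 0, 2, 4, 10, 8] [] [⟨15, [5, 0, 2, 5], [20, 22]⟩, ⟨14, [0, 2, 5, 10, 8], []⟩],
  .tm 2 [5, 0, 2, 0, 2] [] [⟨19, [], []⟩],
  .tm 3 [5, 2, 4, 2, 0, 2, 0] [] [⟨15, [5], [26, 22, 20]⟩, ⟨20, [2, 10], []⟩],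
  .tm 2 [5, 0, 2] [] [⟨21, [], []⟩],
  .tm 1 [] [] [⟨22, [], [34, 32]⟩, ⟨21, [4, 0, 2, 8], []⟩],
  .tm 1 [] [] [⟨19, [], [46, 32]⟩, ⟨18, [0, 2], []⟩],
  .walk [49],
  .walk [51, 32, 50],
  .tm 0 [0, 2, 0] [51] [⟨21, [], [50]⟩],
  .tm 1 [] [] [⟨27, [], [52, 22, 52, 23, 52]⟩, ⟨9, [5, 0, 10, 8], []⟩],
  .tm 0 [] [] [⟨8, [], [56]⟩]]

def Rsb : List (List ℕ) := [[14, 16, 15, 17], [2, 0, 11, 7, 4, 9, 4, 0, 2, 16, 3, 1, 5, 8, 5, 6, 10, 1, 3, 17], [9, 1, 4, 2, 16, 13, 13, 9, 1, 4, 2, 17], [12, 16, 13, 17], [16, 16], [16, 1, 9, 6, 11, 6, 2, 5, 2, 16, 1, 9, 6, 11, 6, 2, 5, 2, 16, 1, 9, 6, 11, 6, 2, 5, 2], [16, 3, 0, 11, 6, 9, 6, 4, 0, 16, 3, 0, 11, 6, 9, 6, 4, 0, 16, 3, 0, 11, 6, 9, 6, 4, 0, 0, 3, 5, 9, 2, 10, 5, 6]]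

theorem csb : checkL (nat_lit 8) (nat_lit 255) tH tK tK' BB Fsb TMsb XWsb dsb (nat_lit 0) = true := by
  decide +kernel

theorem col {G : Type*} [Group G] (f : ℕ → G) (hK : ∀ w ∈ LyK.KB, wval f w = 1)
    (hR : ∀ w ∈ Rsb, wval f w = 1) : f 8 ∈ gp f (sing 8) :=
  collapse ok f hR (hub f hK) [[([], 8)],
  [([], 8)],
  [([], 8)],
  [([3, 0, 11, 6, 9, 6, 4, 0, 16, 3, 0, 11, 6, 9, 6, 4, 0, 0, 3, 5, 9, 2, 10, 5, 6], 13)]] 29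
    (hB ▸ allR_of_checkL dsb 0 30 (by decide +kernel) csb) (by decide +kernel)

end Cfsg.Agent.Lib.LySC
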