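import Cfsg.Agent.Lib.DCEDefs

set_option autoImplicit false
set_option maxRecDepth 100000

namespace Cfsg.Agent.Lib.LySD
open Cfsg.Agent.Lib.PermNet Cfsg.Agent.Lib.DCE

noncomputable def f0 : FT := (.node (nat_lit 16) (.node (nat_lit 8) (.node (nat_lit 4) (.node (nat_lit 2) (.node (nat_lit 1) (.leaf ⟨0, 0, false, [0], []⟩)
  (.leaf ⟨0, 0, false, [2], []⟩))
  (.node (nat_lit 3) (.leaf ⟨0, 0, false, [4], []⟩)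
  (.leaf ⟨0, 0, false, [6], []⟩)))
  (.node (nat_lit 6) (.node (nat_lit 5) (.leaf ⟨0, 0, false, [8], []⟩)
  (.leaf ⟨0, 0, false, [10], []⟩))
  (.node (nat_lit 7) (.leaf ⟨0, 0, false, [12], []⟩)
  (.leaf ⟨0, 0, false, [14], []⟩))))
  (.node (nat_lit 12) (.node (nat_lit 10) (.node (nat_lit 9) (.leaf ⟨0, 1, true, [], []⟩)
  (.leaf ⟨1, 0, true, [], []⟩))
  (.node (nat_lit 11) (.leaf ⟨1, 1, false, [14], []⟩)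
  (.leaf ⟨1, 1, false, [3, 8, 0, 20, 18, 20, 16, 22, 24, 22], []⟩)))
  (.node (nat_lit 14) (.node (nat_lit 13) (.leaf ⟨1, 1, false, [7, 3, 0, 18, 16, 21], []⟩)
  (.leaf ⟨1, 1, false, [6, 3, 1, 18, 20, 16, 22], []⟩))
  (.node (nat_lit 15) (.leaf ⟨1, 1, false, [6, 10, 18, 20, 22, 24], []⟩)
  (.leaf ⟨1, 1, true, [9, 5], [21, 22]⟩)))))
  (.node (nat_lit 24) (.node (nat_lit 20) (.node (nat_lit 18) (.node (nat_lit 17) (.leaf ⟨1, 1, true, [11, 14, 2, 0], [0, 3, 1, 21, 16, 20, 22, 24, 22]⟩)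
  (.leaf ⟨1, 2, true, [4], []⟩))
  (.node (nat_lit 19) (.leaf ⟨2, 1, true, [], [5]⟩)
  (.leaf ⟨2, 2, false, [10, 2, 16, 18, 20], []⟩)))
  (.node (nat_lit 22) (.node (nat_lit 21) (.leaf ⟨2, 2, false, [6, 5, 20, 18, 21, 24], []⟩)
  (.leaf ⟨2, 2, false, [4, 9, 4, 18, 21, 16, 22], []⟩))
  (.node (nat_lit 23) (.leaf ⟨2, 2, false, [8, 4, 18, 20, 16, 22, 24, 22], []⟩)
  (.leaf ⟨2, 2, true, [9, 5], [5, 8, 0, 21, 16, 21, 22, 24, 22]⟩))))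
  (.node (nat_lit 28) (.node (nat_lit 26) (.node (nat_lit 25) (.leaf ⟨2, 1, true, [10, 2], [7, 3, 1, 21, 16, 21, 16]⟩)
  (.leaf ⟨1, 2, true, [10, 3, 0], [3, 21, 16, 20, 18, 22]⟩))
  (.node (nat_lit 27) (.leaf ⟨2, 2, true, [0, 7, 0], [14, 5, 1, 16, 20, 22, 24, 22]⟩)
  (.leaf ⟨2, 2, true, [7, 14, 2, 0], [8, 4, 1, 20, 18, 20, 24]⟩)))
  (.node (nat_lit 30) (.node (nat_lit 29) (.leaf ⟨2, 2, true, [11, 3], [8, 4, 2, 21, 18, 16, 22]⟩)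
  (.leaf ⟨2, 2, true, [6, 2], [4, 2, 21, 18, 20, 22]⟩))
  (.node (nat_lit 31) (.leaf ⟨2, 2, true, [2, 7, 2], [14, 4, 18, 21, 16, 22, 24, 22]⟩)
  (.leaf ⟨2, 2, true, [10, 6, 3], [7, 5, 0, 21, 22]⟩))))))

noncomputable def f32 : FT := (.node (nat_lit 48) (.node (nat_lit 40) (.node (nat_lit 36) (.node (nat_lit 34) (.node (nat_lit 33) (.leaf ⟨2, 2, true, [11, 9, 1], [1, 7, 0, 18, 16, 20, 24]⟩)
  (.leaf ⟨1, 3, true, [0], []⟩))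
  (.node (nat_lit 35) (.leaf ⟨3, 1, true, [], [1]⟩)
  (.leaf ⟨3, 3, false, [10, 2, 16, 18, 20], []⟩)))
  (.node (nat_lit 38) (.node (nat_lit 37) (.leaf ⟨3, 3, false, [6, 5, 20, 18, 21, 24], []⟩)
  (.leaf ⟨3, 3, false, [5, 1, 21, 16, 18, 16, 22], []⟩))
  (.node (nat_lit 39) (.leaf ⟨3, 2, true, [7, 5, 2, 0], [14, 0, 2, 20, 16, 21, 24, 22]⟩)
  (.leaf ⟨2, 3, true, [3, 10, 1], [14, 2, 0, 16, 21, 18, 20, 16, 22]⟩))))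
  (.node (nat_lit 44) (.node (nat_lit 42) (.node (nat_lit 41) (.leaf ⟨3, 2, true, [2, 7, 2], [0, 3, 1, 16, 18, 21, 22, 24, 22]⟩)
  (.leaf ⟨2, 3, true, [8, 11], [10, 3, 20, 18, 16, 24, 22]⟩))
  (.node (nat_lit 43) (.leaf ⟨3, 3, true, [0, 11, 0], [7, 8, 0, 18, 21]⟩)
  (.leaf ⟨3, 3, true, [8, 7, 1], [6, 1, 18, 16, 20, 22]⟩)))
  (.node (nat_lit 46) (.node (nat_lit 45) (.leaf ⟨2, 3, true, [0, 3], [14, 20, 18, 16, 22, 24]⟩)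
  (.leaf ⟨3, 2, true, [10, 2, 0], [4, 6, 18, 22]⟩))
  (.node (nat_lit 47) (.leaf ⟨3, 3, false, [14, 4, 18, 21, 16, 24], []⟩)
  (.leaf ⟨2, 2, true, [11, 7], [6, 10]⟩)))))
  (.node (nat_lit 56) (.node (nat_lit 52) (.node (nat_lit 50) (.node (nat_lit 49) (.leaf ⟨1, 4, true, [2, 0], []⟩)
  (.leaf ⟨4, 1, true, [], [1, 3]⟩))
  (.node (nat_lit 51) (.leaf ⟨4, 4, false, [10, 2, 16, 18, 20], []⟩)
  (.leaf ⟨4, 4, false, [2, 6, 1, 20, 16, 21, 22], []⟩)))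
  (.node (nat_lit 54) (.node (nat_lit 53) (.leaf ⟨4, 4, false, [3, 0, 18, 21, 22, 24], []⟩)
  (.leaf ⟨4, 3, true, [9, 5], [6, 3, 1, 18, 16, 22, 24, 22]⟩))
  (.node (nat_lit 55) (.leaf ⟨3, 4, true, [9, 5], [7, 5, 0, 21, 16, 18, 22, 24, 22]⟩)
  (.leaf ⟨4, 3, true, [11, 1], [5, 3, 1, 20, 18, 20, 18, 22, 24, 22]⟩))))
  (.node (nat_lit 60) (.node (nat_lit 58) (.node (nat_lit 57) (.leaf ⟨3, 4, true, [6, 4, 3, 0], [14, 0, 2, 16, 18, 21, 16, 22]⟩)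
  (.leaf ⟨4, 4, true, [6, 2], [2, 14, 16, 18, 21, 24]⟩))
  (.node (nat_lit 59) (.leaf ⟨4, 2, true, [7, 5, 2, 0], [8, 0, 20, 22]⟩)
  (.leaf ⟨2, 4, true, [5, 2], [3, 6, 1, 18, 20, 16, 22]⟩)))
  (.node (nat_lit 62) (.node (nat_lit 61) (.leaf ⟨4, 2, true, [14, 7, 1], [8, 11, 0, 16, 18, 16, 22, 24, 22]⟩)
  (.leaf ⟨2, 4, true, [10, 3, 6], [11, 2, 21, 16, 20, 18, 24, 22]⟩))
  (.node (nat_lit 63) (.leaf ⟨4, 4, true, [7, 4], [8, 2, 16, 20, 18, 24]⟩)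
  (.leaf ⟨2, 4, true, [4, 7], [10, 8, 16, 21, 16]⟩))))))

noncomputable def f64 : FT := (.node (nat_lit 80) (.node (nat_lit 72) (.node (nat_lit 68) (.node (nat_lit 66) (.node (nat_lit 65) (.leaf ⟨4, 2, true, [8, 1], [8, 6, 18, 16, 21]⟩)
  (.leaf ⟨4, 4, true, [2, 5, 6], [0, 7, 1, 18, 16, 21, 22, 24]⟩))
  (.node (nat_lit 67) (.leaf ⟨4, 4, true, [10, 14, 0], [0, 2, 0, 18, 21, 22, 24, 22]⟩)
  (.leaf ⟨4, 4, true, [8, 7], [10, 2, 20, 16, 20, 24, 22]⟩)))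
  (.node (nat_lit 70) (.node (nat_lit 69) (.leaf ⟨4, 4, true, [9, 6, 3], [5, 7, 0, 18, 16, 22]⟩)
  (.leaf ⟨2, 4, true, [8, 6, 1], [9, 4, 0, 20, 24, 22]⟩))
  (.node (nat_lit 71) (.leaf ⟨4, 2, true, [8, 6, 1], [10, 1, 21, 18, 16, 24, 22]⟩)
  (.leaf ⟨2, 4, true, [2, 7, 2, 0], [11, 2, 0, 20, 18, 20, 24]⟩))))
  (.node (nat_lit 76) (.node (nat_lit 74) (.node (nat_lit 73) (.leaf ⟨4, 2, true, [3, 6], [1, 3, 0, 21, 18, 20, 22, 24]⟩)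
  (.leaf ⟨4, 2, true, [0], [8, 1, 18, 20, 18, 20, 16, 22, 24, 22]⟩))
  (.node (nat_lit 75) (.leaf ⟨2, 4, true, [14, 2, 0], [0, 7, 0, 18, 20, 18, 22, 24, 22]⟩)
  (.leaf ⟨4, 4, true, [14, 10, 6], [0, 10, 14, 18, 16, 20, 16]⟩)))
  (.node (nat_lit 78) (.node (nat_lit 77) (.leaf ⟨4, 4, true, [9, 1], [11, 3, 20, 18, 22]⟩)
  (.leaf ⟨4, 3, true, [6, 5, 2, 0], [0, 3, 1, 18, 24, 22]⟩))
  (.node (nat_lit 79) (.leaf ⟨3, 4, true, [11, 4], [5, 3, 21, 18, 22, 24, 22]⟩)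
  (.leaf ⟨4, 4, true, [5, 6, 1], [7, 3, 0, 21, 18, 21]⟩)))))
  (.node (nat_lit 88) (.node (nat_lit 84) (.node (nat_lit 82) (.node (nat_lit 81) (.leaf ⟨4, 4, true, [6, 3], [6, 9, 0, 20, 22, 24, 22]⟩)
  (.leaf ⟨2, 5, true, [0], []⟩))
  (.node (nat_lit 83) (.leaf ⟨5, 2, true, [], [1]⟩)
  (.leaf ⟨5, 5, false, [10, 5, 1, 21, 18, 16, 20, 16, 22, 24], []⟩)))
  (.node (nat_lit 86) (.node (nat_lit 85) (.leaf ⟨5, 4, true, [9, 5], [2, 11, 20, 16, 22]⟩)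
  (.leaf ⟨4, 5, true, [8, 2, 0], [11, 8, 18, 20, 22, 24]⟩))
  (.node (nat_lit 87) (.leaf ⟨5, 4, true, [7, 14, 2, 0], [0, 8, 1, 18, 20, 24, 22]⟩)
  (.leaf ⟨4, 5, true, [9, 10, 4], [7, 3, 0, 16, 20, 16, 22]⟩))))
  (.node (nat_lit 92) (.node (nat_lit 90) (.node (nat_lit 89) (.leaf ⟨5, 2, true, [11, 5, 2, 0], [9, 3, 1, 21, 18, 20, 16, 24]⟩)
  (.leaf ⟨2, 5, true, [11, 7, 2], [6, 0, 18, 21, 16, 22]⟩))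
  (.node (nat_lit 91) (.leaf ⟨5, 5, true, [10, 4, 3, 0], [18, 21, 18, 16, 20, 16, 22, 24, 22]⟩)
  (.leaf ⟨5, 5, true, [10, 2], [8, 1, 2, 16, 20, 18, 22, 24]⟩)))
  (.node (nat_lit 94) (.node (nat_lit 93) (.leaf ⟨5, 4, true, [2, 7, 4, 0], [0, 4, 1, 20, 16, 18, 16, 24]⟩)
  (.leaf ⟨4, 5, true, [0, 11], [7, 11, 18, 16, 20, 16, 22, 24, 22]⟩))
  (.node (nat_lit 95) (.leaf ⟨5, 4, true, [6, 4, 3, 0], [10, 9, 16, 21, 18, 20, 16]⟩)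
  (.leaf ⟨4, 5, true, [4, 1], [9, 7, 21, 16, 21, 24]⟩))))))

noncomputable def f96 : FT := (.node (nat_lit 111) (.node (nat_lit 103) (.node (nat_lit 99) (.node (nat_lit 97) (.leaf ⟨5, 2, true, [7, 1], [5, 6, 0, 21, 18, 20, 22, 24, 22]⟩)
  (.node (nat_lit 98) (.leaf ⟨2, 5, true, [10, 1], [14, 6, 18, 20, 18, 22, 24, 22]⟩)
  (.leaf ⟨5, 4, true, [6, 0], [2, 6, 1, 20, 18, 20, 16, 22, 24, 22]⟩)))
  (.node (nat_lit 101) (.node (nat_lit 100) (.leaf ⟨4, 5, true, [6, 2, 0], [11, 6, 0, 20, 18, 20, 18, 22, 24]⟩)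
  (.leaf ⟨5, 5, true, [2, 11, 2], [4, 10, 1, 18, 16, 21, 22, 24, 22]⟩))
  (.node (nat_lit 102) (.leaf ⟨5, 5, true, [14, 10, 0], [1, 3, 1, 20, 18, 16, 20, 16, 22, 24]⟩)
  (.leaf ⟨5, 4, true, [14, 6, 0], [5, 11, 20, 16, 20]⟩))))
  (.node (nat_lit 107) (.node (nat_lit 105) (.node (nat_lit 104) (.leaf ⟨4, 5, true, [9, 7, 1], [5, 0, 21, 18, 20, 16, 22]⟩)
  (.leaf ⟨5, 5, true, [11, 3], [2, 10, 24]⟩))
  (.node (nat_lit 106) (.leaf ⟨5, 5, false, [9, 1, 16, 21], []⟩)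
  (.leaf ⟨2, 5, true, [10, 5, 0], [2, 0, 18, 20, 24]⟩)))
  (.node (nat_lit 109) (.node (nat_lit 108) (.leaf ⟨5, 2, true, [9, 6, 1], [1, 8, 16, 18, 21, 16]⟩)
  (.leaf ⟨4, 5, true, [10, 0, 5], [1, 3, 16, 21, 18, 20, 16, 22, 24]⟩))
  (.node (nat_lit 110) (.leaf ⟨5, 4, true, [5, 6], [14, 0, 5, 20, 24, 22]⟩)
  (.leaf ⟨3, 5, true, [10, 3, 0], [0, 3, 1, 16, 18, 16]⟩)))))
  (.node (nat_lit 118) (.node (nat_lit 114) (.node (nat_lit 112) (.leaf ⟨5, 3, true, [8, 1], [8, 1, 2, 18, 21, 24, 22]⟩)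
  (.node (nat_lit 113) (.leaf ⟨5, 5, true, [6, 14, 0], [7, 5, 0, 21, 16, 18, 24]⟩)
  (.leaf ⟨2, 5, true, [8, 7, 3], [9, 4, 1, 16, 21, 18, 20, 16, 24, 22]⟩)))
  (.node (nat_lit 116) (.node (nat_lit 115) (.leaf ⟨5, 2, true, [6, 0, 5], [1, 7, 0, 21, 18, 24]⟩)
  (.leaf ⟨5, 5, true, [9, 6, 3], [0, 3, 1, 16, 20, 22]⟩))
  (.node (nat_lit 117) (.leaf ⟨5, 5, true, [8, 3], [14, 2, 0, 18, 16, 22, 24]⟩)
  (.leaf ⟨3, 5, true, [5, 6, 0], [11, 3, 0, 20, 18, 20, 22, 24, 22]⟩))))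
  (.node (nat_lit 122) (.node (nat_lit 120) (.node (nat_lit 119) (.leaf ⟨5, 3, true, [2, 11, 0], [9, 21, 16, 18, 16, 22, 24]⟩)
  (.leaf ⟨5, 5, true, [11, 5], [5, 20, 16]⟩))
  (.node (nat_lit 121) (.leaf ⟨5, 5, true, [6, 3, 0], [5, 2, 0, 16, 20, 22, 24]⟩)
  (.leaf ⟨3, 5, true, [11, 3, 1], [4, 14, 16, 21, 16]⟩)))
  (.node (nat_lit 124) (.node (nat_lit 123) (.leaf ⟨5, 3, true, [11, 2, 7], [11, 4, 21, 18, 16, 20, 16, 22]⟩)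
  (.leaf ⟨5, 5, true, [4, 7, 4, 0], [4, 14, 21, 16, 20, 18, 24]⟩))
  (.node (nat_lit 125) (.leaf ⟨3, 5, true, [5], [3, 14, 0, 20, 18, 20, 16, 24, 22]⟩)
  (.leaf ⟨5, 3, true, [5, 10], [5, 9, 2, 21, 18, 16, 20, 16]⟩))))))



end Cfsg.Agent.Lib.LySD
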