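import Cfsg.Agent.Lib.McRR

set_option autoImplicit false
set_option maxRecDepth 100000
set_option Elab.async false

namespace Cfsg.Agent.Lib.McR
open Cfsg.Agent.Lib.PermNet Cfsg.Agent.Lib.Words Cfsg.Agent.Lib.PermGroup Cfsg.Agent.Lib.Rk3Aut Cfsg.Agent.Lib.Rk3Emb
  Cfsg.Agent.Lib.Rk3PH Cfsg.Agent.Lib.Rk3Iso

theorem phc0 : (decide (275 ≤ 2 ^ 9 ∧ ¬ 7 ∣ 162 ∧ 162 < pcN phcR ∧ ¬ 162 ∣ 20160 ∧ 0 < 162) && (pcG phcP).all (lt 17) &&
    (pcG phcR).all (lt 17) && pcOK phcP && pcOK phcR && phcP.all (fun e => Nat.beq e.2.1 7) &&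
    phcR.all (fun e => Nat.beq e.2.1 3) && relsOnB nets 275 9 (pcR phcP) 0 9 && relsOnB nets 275 9 (pcR phcR) 0 9) = true := by decide +kernel

theorem phc1_0 : List.all (List.take 34 (NW phcR)) phcF = true := by decide +kernel

theorem phc1_1 : List.all (List.take 74 (List.drop 34 (NW phcR))) phcF = true := by decide +kernel

theorem phc1_2 : List.all (List.take 39 (List.drop 74 (List.drop 34 (NW phcR)))) phcF = true := by decide +kernel

theorem phc1_3 : List.all (List.take 20 (List.drop 39 (List.drop 74 (List.drop 34 (NW phcR))))) phcF = true := by decide +kernel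

theorem phc1_4 : List.all (List.take 36 (List.drop 20 (List.drop 39 (List.drop 74 (List.drop 34 (NW phcR)))))) phcF = true := by decide +kernel

theorem phc1_5 : List.all (List.take 20 (List.drop 36 (List.drop 20 (List.drop 39 (List.drop 74 (List.drop 34 (NW phcR))))))) phcF = true := by decide +kernel

theorem phc1_6 : List.all (List.drop 20 (List.drop 36 (List.drop 20 (List.drop 39 (List.drop 74 (List.drop 34 (NW phcR))))))) phcF = true := by decide +kernel

theorem phc2_0 : List.all (List.take 1 phcS) (spB nets 275 9 17 20160 (pcG phcP) phcL) = true := by decide +kernel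

theorem phc2_1 : List.all (List.take 1 (List.drop 1 phcS)) (spB nets 275 9 17 20160 (pcG phcP) phcL) = true := by decide +kernel

theorem phc2_2 : List.all (List.take 1 (List.drop 1 (List.drop 1 phcS))) (spB nets 275 9 17 20160 (pcG phcP) phcL) = true := by decide +kernel

theorem phc2_3 : List.all (List.drop 1 (List.drop 1 (List.drop 1 phcS))) (spB nets 275 9 17 20160 (pcG phcP) phcL) = true := by decide +kernel

theorem mod : (fixB nets hs (pt 0) && fixB nets hs (ivl 1 112) &&
    fixB nets hs (ivl (1 + 112) 162) && subB (ivl 1 112) (grow nets hs sb (pt 1)) &&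
    subB (ivl (1 + 112) 162) (grow nets hs sc (pt (1 + 112)))) = true := by decide +kernel

theorem fxc : ((ivl 113 162).testBit 113 && fixB nets Kc (pt 113) && unionB nets Kc 275 ol1 (ivl 113 162) fun q s =>
    !q.testBit 113 || Nat.beq q (pt 113) || !(Nat.ble (s * 0) 20160 && Nat.beq (20160 % s) 0)) = true := by decide +kernel

theorem fxd : ((ivl 113 162).testBit 113 && fixB nets L3 (pt 113) && unionB nets L3 275 ol2 (ivl 113 162) fun q s =>
    !q.testBit 113 || Nat.beq q (pt 113) || !(Nat.ble (s * 0) 20160 && Nat.beq (20160 % s) 0)) = true := by decide +kernel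

theorem fxb : ((ivl 1 112).testBit 1 && unionB nets us 275 ol3 (ivl 1 112) fun q s =>
    !q.testBit 1 || Nat.beq q (pt 1) || Nat.beq q 30 || !Nat.beq (29160 % s) 0) = true := by decide +kernel

theorem rw : rowsB nets 17 275 112 1 113 P1 Kc ol4 ol5 rwN (finB nets 20 112 1 113 rwA) = true := by decide +kernel

theorem prim : ((ivl 1 112).testBit 1 && List.all P1 (lt 17) && fixB nets P1 (pt 1) && unionB nets P1 275 ol6 (ivl 1 112) fun q s =>
    !q.testBit 1 || Nat.beq q (pt 1) || Nat.beq s 112 || !Nat.beq (112 % s) 0) = true := by decide +kernel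

theorem ex : exec nets 275 20 (ivl 1 112) (fun l => sepB l 275) prog [ones 275] = true := by decide +kernel

theorem ex2 : exec nets 275 20 (ivl 1 112) (fun l => sepB l 275) prog2 [30, pt 0, ones 275] = true := by decide +kernel

theorem ch0 : (List.all ls (lt 20) && levelB nets ls [] 0 [0, 1, 2, 0, 1, 2, 0, 1, 2, 1, 0, 1, 0, 0] 0 275 275) = true := by decide +kernel

theorem ch1 : (List.all hs (lt 17) && levelB nets hs [0] 1 [8, 3, 7, 8, 0, 1, 2, 8, 7, 8, 0, 3, 0, 0] 1 112 112) = true := by decide +kernel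

theorem ch2 : (List.all P1 (lt 17) && levelB nets P1 [1, 0] 6 [0, 1, 2, 3, 6, 0, 5, 3] 6 107 81) = true := by decide +kernel

theorem ch3 : (List.all ws7 (lt 17) && levelB nets ws7 [6, 1, 0] 11 [1, 0, 2, 0, 1, 0, 1, 1] 11 102 30) = true := by decide +kernel

theorem ch4 : (List.all ws8 (lt 17) && levelB nets ws8 [11, 6, 1, 0] 18 [0, 1, 0, 1, 1] 18 14 12) = true := by decide +kernel

theorem sig : ∀ x < 275, ∀ w ∈ sigW[x]?.getD ([], []) :: [], lt 20 w.1 = true ∧ lt 20 w.2 = true ∧
    appW nets w.1 (pt 0) = pt x ∧ appW nets [40] (appW nets w.2 (pt 0)) = pt x ∧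
    appW nets [40] (appW nets w.2 (ivl 1 112)) = appW nets w.1 (ivl 1 112) := by decide +kernel

theorem r1 : relsOnB nets 275 9 R 0 9 = true := by decide +kernel

theorem r2 : relsOnB nets 275 9 (R.map fun r => (subst W r.1, subst W r.2)) 0 9 = true := by decide +kernel

theorem rels0_0 : RelsOn nets 275 9 rels0 0 9 :=
  relsOn_of_B _ _ _ _ _ 9 _ (by decide +kernel) (by decide +kernel)

end Cfsg.Agent.Lib.McR
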