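import Cfsg.Agent.Lib.PermNetDefs

set_option autoImplicit false
set_option maxRecDepth 100000

namespace Cfsg.Agent.Lib.McR
open Cfsg.Agent.Lib.PermNet

noncomputable def m0_0 : Nat := (nat_lit 0x105141555450144105405104455510515001155041051105001514444455411144444)
noncomputable def m0_1 : Nat := (nat_lit 0x22322220321311330112111002312110131120122101310221312111213312220000)
noncomputable def m0_2 : Nat := (nat_lit 0x70a040a000402040d080506070c0f0e07090c070f0e0b0d09090f0709080f00)
noncomputable def m0_3 : Nat := (nat_lit 0x3400c40058007300c50025007b000300a000c900dd0098006100f300fd005a00e0)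
noncomputable def m0_4 : Nat := (nat_lit 0x40000271200006a320000aea900002c920000b42800002b490000e45a00000000)
noncomputable def m0_5 : Nat := (nat_lit 0xf7336c16000000000cde378a000000002dd89eca0000000040000020)
noncomputable def m0_6 : Nat := (nat_lit 0x3c5a72e4ac0b1653000000000000000099e8578a00008020)
noncomputable def m0_7 : Nat := (nat_lit 0x4201202009c014000000000000067fff)
noncomputable def m0_8 : Nat := (nat_lit 0x6ffff)
noncomputable def m0_9 : Nat := (nat_lit 0x6ffff)
noncomputable def m0_10 : Nat := (nat_lit 0x420020200104b34a00000000000000000000000000008000)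
noncomputable def m0_11 : Nat := (nat_lit 0x5b4595de000000000141dcd80000000099c0d6080000000000000020)
noncomputable def m0_12 : Nat := (nat_lit 0x10000452c000034df00004a8c000016200000b43800000dc00000504000000000)
noncomputable def m0_13 : Nat := (nat_lit 0x920044002000350068004c00c20040005700050045004100d40000004000000000)
noncomputable def m0_14 : Nat := (nat_lit 0x406060601030c0801060107060a0100000d020306040e0406040400000407000e00)
noncomputable def m0_15 : Nat := (nat_lit 0x103311003333100012021323200333222010231103112110012123211101130000000)
noncomputable def m0_16 : Nat := (nat_lit 0x151150451110141401455405105111111151415440544410040550011111054500000)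
noncomputable def net0 : Net := (.cons (nat_lit 1) m0_0 (.cons (nat_lit 2) m0_1 (.cons (nat_lit 4) m0_2 (.cons (nat_lit 8) m0_3 (.cons (nat_lit 16) m0_4 (.cons (nat_lit 32) m0_5 (.cons (nat_lit 64) m0_6 (.cons (nat_lit 128) m0_7 (.cons (nat_lit 256) m0_8 (.cons (nat_lit 128) m0_9 (.cons (nat_lit 64) m0_10 (.cons (nat_lit 32) m0_11 (.cons (nat_lit 16) m0_12 (.cons (nat_lit 8) m0_13 (.cons (nat_lit 4) m0_14 (.cons (nat_lit 2) m0_15 (.cons (nat_lit 1) m0_16 .nil)))))))))))))))))
theorem valid0 : net0.Valid 275 := valid_of_validB _ (by decide +kernel)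
noncomputable def m1_0 : Nat := (nat_lit 0x144545150414015414545055114541414014004150011554104140411405450054500)
noncomputable def m1_1 : Nat := (nat_lit 0x13102313300020222313023022232233132003312122301321122123022013012100)
noncomputable def m1_2 : Nat := (nat_lit 0xe0206090b050b0b0a030c02030b06070c030b0503040909050a060803010e060c00)
noncomputable def m1_3 : Nat := (nat_lit 0xe400ba00d10066008b0052001f00f7004d00e6008200b70069004e003a00d400a0)
noncomputable def m1_4 : Nat := (nat_lit 0x4d78000017ce00001d1c000096d10000a28e00002b060000d5ff0000c050)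
noncomputable def m1_5 : Nat := (nat_lit 0xfe3026980000000050b1c3b600000000ba0cc77200000000730e44ac)
noncomputable def m1_6 : Nat := (nat_lit 0xa4e7022df266256100000000000000003a84c7518002e8bc)
noncomputable def m1_7 : Nat := (nat_lit 0x4111208c180000020000000000077bfe)
noncomputable def m1_8 : Nat := (nat_lit 0x7fbfe)
noncomputable def m1_9 : Nat := (nat_lit 0x7fbfe)
noncomputable def m1_10 : Nat := (nat_lit 0x110000c0806f9ba00000000000000000000000000008000)
noncomputable def m1_11 : Nat := (nat_lit 0x801f56a0000000019054094000000003a028c03000000000000800c)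
noncomputable def m1_12 : Nat := (nat_lit 0x10000d97e000093f10000e413000018c00000a08e00004baf000029200000c910)
noncomputable def m1_13 : Nat := (nat_lit 0xc1001800d600cc00e9006300b5004f002d00020000002f000100bf002600cf0000)
noncomputable def m1_14 : Nat := (nat_lit 0xc0605010a0809090c09020101010b0c020c0a050a0104030d0a090a02010f020000)
noncomputable def m1_15 : Nat := (nat_lit 0x10013003112320222121000132100023222013202110112303300030121013210000)
noncomputable def m1_16 : Nat := (nat_lit 0x150000404400114040051050115401100111414511051455055405110505105150100)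
noncomputable def net1 : Net := (.cons (nat_lit 1) m1_0 (.cons (nat_lit 2) m1_1 (.cons (nat_lit 4) m1_2 (.cons (nat_lit 8) m1_3 (.cons (nat_lit 16) m1_4 (.cons (nat_lit 32) m1_5 (.cons (nat_lit 64) m1_6 (.cons (nat_lit 128) m1_7 (.cons (nat_lit 256) m1_8 (.cons (nat_lit 128) m1_9 (.cons (nat_lit 64) m1_10 (.cons (nat_lit 32) m1_11 (.cons (nat_lit 16) m1_12 (.cons (nat_lit 8) m1_13 (.cons (nat_lit 4) m1_14 (.cons (nat_lit 2) m1_15 (.cons (nat_lit 1) m1_16 .nil)))))))))))))))))
theorem valid1 : net1.Valid 275 := valid_of_validB _ (by decide +kernel)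
noncomputable def m2_0 : Nat := (nat_lit 0x14110044010154040544405054000441414005015055444141044544555514554040)
noncomputable def m2_1 : Nat := (nat_lit 0x23022202300221013223031002032300012321330010303301332222032210021220)
noncomputable def m2_2 : Nat := (nat_lit 0x4030f0b080000000c0a020c00040b030e0a0e0100020e06020b05040e0a03030000)
noncomputable def m2_3 : Nat := (nat_lit 0x70000008000e5004a00ad007100e6003200b7002c003a00bd00e700de00e50080)
noncomputable def m2_4 : Nat := (nat_lit 0x400006f6500001a150000748000006c4700002a6d0000d5630000aede00008aa0)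
noncomputable def m2_5 : Nat := (nat_lit 0x166e6ad4000000007b53038d000000001a04fc4000000000d4413064)
noncomputable def m2_6 : Nat := (nat_lit 0x53a29d14786a191f000000000000000032616d9a08938c44)
noncomputable def m2_7 : Nat := (nat_lit 0x4592000510002000000000000007ffed)
noncomputable def m2_8 : Nat := (nat_lit 0x7ffed)
noncomputable def m2_9 : Nat := (nat_lit 0x7f7ad)
noncomputable def m2_10 : Nat := (nat_lit 0x459000051005718000000000000000000000000000000840)
noncomputable def m2_11 : Nat := (nat_lit 0x58071508000000005007e82d000000003060e9d80000000000002804)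
noncomputable def m2_12 : Nat := (nat_lit 0x40000549f000014a70000e1e90000665400002a650000276b0000706000000000)
noncomputable def m2_13 : Nat := (nat_lit 0xac00cc002600a00050006e00670010002c0001000c00a4009300b2008200c20000)
noncomputable def m2_14 : Nat := (nat_lit 0x90d08050108010504050c050401040e01070d000005060202010805000e0d020000)
noncomputable def m2_15 : Nat := (nat_lit 0x100013103203300013130123121030132330230322200200300303321031021033200)
noncomputable def m2_16 : Nat := (nat_lit 0x54115041500401445050414155041041501004415011041005055440154500454040)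
noncomputable def net2 : Net := (.cons (nat_lit 1) m2_0 (.cons (nat_lit 2) m2_1 (.cons (nat_lit 4) m2_2 (.cons (nat_lit 8) m2_3 (.cons (nat_lit 16) m2_4 (.cons (nat_lit 32) m2_5 (.cons (nat_lit 64) m2_6 (.cons (nat_lit 128) m2_7 (.cons (nat_lit 256) m2_8 (.cons (nat_lit 128) m2_9 (.cons (nat_lit 64) m2_10 (.cons (nat_lit 32) m2_11 (.cons (nat_lit 16) m2_12 (.cons (nat_lit 8) m2_13 (.cons (nat_lit 4) m2_14 (.cons (nat_lit 2) m2_15 (.cons (nat_lit 1) m2_16 .nil)))))))))))))))))
theorem valid2 : net2.Valid 275 := valid_of_validB _ (by decide +kernel)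
noncomputable def m3_0 : Nat := (nat_lit 0x154551055050541440044500014404051101451551000505004104050110501150444)
noncomputable def m3_1 : Nat := (nat_lit 0x113033202110202212103333112131012213011000311203212311321311232231010)
noncomputable def m3_2 : Nat := (nat_lit 0x4040302060005060d050d08070f0f0f09050500080a0c090309030c090e09080504)
noncomputable def m3_3 : Nat := (nat_lit 0xbb007c0091006900bd00cc00ae00fb005b005200ed00200049009100a800f50010)
noncomputable def m3_4 : Nat := (nat_lit 0x40000a4c00000998d0000998200000bcb000052f300006db70000ad6400008480)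
noncomputable def m3_5 : Nat := (nat_lit 0x3eac5f2100000000c3a375c100000000c8ae1594000000007b6b04c2)
noncomputable def m3_6 : Nat := (nat_lit 0x9d73b111570bc7de0000000000000000984cbe9c331700d2)
noncomputable def m3_7 : Nat := (nat_lit 0x2500406388081000000000000007ff6e)
noncomputable def m3_8 : Nat := (nat_lit 0x7fffe)
noncomputable def m3_9 : Nat := (nat_lit 0x3fffe)
noncomputable def m3_10 : Nat := (nat_lit 0x2500402388055a0000000000000000000000000000040090)
noncomputable def m3_11 : Nat := (nat_lit 0x4131422400000000240209ad000000008a5d12980000000000040042)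
noncomputable def m3_12 : Nat := (nat_lit 0x10000f31a000064e00000088b00007661000052f30000e3690000d0d700000480)
noncomputable def m3_13 : Nat := (nat_lit 0x780044007500a8006c0048002d004100100006000f004300e000d9002400800000)
noncomputable def m3_14 : Nat := (nat_lit 0x10b0f040f0c0c020b05030e03040600090700010b080f0e0409010b080e000a0100)
noncomputable def m3_15 : Nat := (nat_lit 0x132200113111031020221110012203010001011002003332200002313331000021010)
noncomputable def m3_16 : Nat := (nat_lit 0x154540544111041051501015505051110054055010044504515014405154101514000)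
noncomputable def net3 : Net := (.cons (nat_lit 1) m3_0 (.cons (nat_lit 2) m3_1 (.cons (nat_lit 4) m3_2 (.cons (nat_lit 8) m3_3 (.cons (nat_lit 16) m3_4 (.cons (nat_lit 32) m3_5 (.cons (nat_lit 64) m3_6 (.cons (nat_lit 128) m3_7 (.cons (nat_lit 256) m3_8 (.cons (nat_lit 128) m3_9 (.cons (nat_lit 64) m3_10 (.cons (nat_lit 32) m3_11 (.cons (nat_lit 16) m3_12 (.cons (nat_lit 8) m3_13 (.cons (nat_lit 4) m3_14 (.cons (nat_lit 2) m3_15 (.cons (nat_lit 1) m3_16 .nil)))))))))))))))))
theorem valid3 : net3.Valid 275 := valid_of_validB _ (by decide +kernel)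
noncomputable def m4_0 : Nat := (nat_lit 0x1140111055401415114014545541104441445150055440554415505004551451440)
noncomputable def m4_1 : Nat := (nat_lit 0x31333320320232110011333200133220300121132121100130000130212330333100)
noncomputable def m4_2 : Nat := (nat_lit 0x4060e00040108060f04080d020403070406070809030e0b0206060e040a0f020900)
noncomputable def m4_3 : Nat := (nat_lit 0x3a007900b5009a00da002e0044000700e800c0007a00bb002200e800d200200080)
noncomputable def m4_4 : Nat := (nat_lit 0x70000a37f0000458a0000fe8a000041920000072e00002f0e0000f1b0000085c0)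
noncomputable def m4_5 : Nat := (nat_lit 0xb0650494000000007ea3c60a000000003f6c70b100000000112fbc00)
noncomputable def m4_6 : Nat := (nat_lit 0x30c577cc9f32a9b10000000000000000bb4c48b1c6231440)
noncomputable def m4_7 : Nat := (nat_lit 0x4091050e18000020000000000002dffe)
noncomputable def m4_8 : Nat := (nat_lit 0x2dffe)
noncomputable def m4_9 : Nat := (nat_lit 0x2dffe)
noncomputable def m4_10 : Nat := (nat_lit 0x11000618025cfc00000000000000000000000000000000)
noncomputable def m4_11 : Nat := (nat_lit 0x73209ee9000000001090832400000000396248e00000000000000400)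
noncomputable def m4_12 : Nat := (nat_lit 0x200009ad4000045a000003b2d000048b00000872e000016340000235e00000400)
noncomputable def m4_13 : Nat := (nat_lit 0xdb0044004f00f900a00016005b00910041008600e800630008001100d200480000)
noncomputable def m4_14 : Nat := (nat_lit 0x803000d040e0b090c0f0600010d0b000a020a0c010b050e010007000204010c0800)
noncomputable def m4_15 : Nat := (nat_lit 0x23302001223302203201313100120102203012022323210030122220030330203100)
noncomputable def m4_16 : Nat := (nat_lit 0x140445455450050001141054540055151045115414050450055155114411501041000)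
noncomputable def net4 : Net := (.cons (nat_lit 1) m4_0 (.cons (nat_lit 2) m4_1 (.cons (nat_lit 4) m4_2 (.cons (nat_lit 8) m4_3 (.cons (nat_lit 16) m4_4 (.cons (nat_lit 32) m4_5 (.cons (nat_lit 64) m4_6 (.cons (nat_lit 128) m4_7 (.cons (nat_lit 256) m4_8 (.cons (nat_lit 128) m4_9 (.cons (nat_lit 64) m4_10 (.cons (nat_lit 32) m4_11 (.cons (nat_lit 16) m4_12 (.cons (nat_lit 8) m4_13 (.cons (nat_lit 4) m4_14 (.cons (nat_lit 2) m4_15 (.cons (nat_lit 1) m4_16 .nil)))))))))))))))))
theorem valid4 : net4.Valid 275 := valid_of_validB _ (by decide +kernel)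
noncomputable def m5_0 : Nat := (nat_lit 0x111515550110100454455011104051055144504044001500050444541151540041440)
noncomputable def m5_1 : Nat := (nat_lit 0x20232221113333103131321330223203110000311021022113013032102101032200)
noncomputable def m5_2 : Nat := (nat_lit 0x2020b04070d0a02040e090f010e0d080f00060703010c0b0303090c0b0b050b0400)
noncomputable def m5_3 : Nat := (nat_lit 0xf000f6001e0023007600bd0099004f000b0076000900e200b900fa005d00fd00c0)
noncomputable def m5_4 : Nat := (nat_lit 0x20000580e000080930000af5700007f1e0000e9c700000dd90000bb010000c6c0)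
noncomputable def m5_5 : Nat := (nat_lit 0x1022139f00000000ce86140d0000000023334d0800000000accd4400)
noncomputable def m5_6 : Nat := (nat_lit 0xdd3324a731ef917200000000000000004bf61730250ba100)
noncomputable def m5_7 : Nat := (nat_lit 0x408a0c300300800000000000007fffd)
noncomputable def m5_8 : Nat := (nat_lit 0x7fffd)
noncomputable def m5_9 : Nat := (nat_lit 0x7fefd)
noncomputable def m5_10 : Nat := (nat_lit 0x820c300225dd800000000000000000000000000000100)
noncomputable def m5_11 : Nat := (nat_lit 0xa8a0dc0800000000042762410000000042f01f300000000000000100)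
noncomputable def m5_12 : Nat := (nat_lit 0x50000f9780000c49c00008b6c0000a4480000a9c7000024490000895e00000140)
noncomputable def m5_13 : Nat := (nat_lit 0xff00e0003f00ca00f8004500de004000000044001000de0048002f002200c00000)
noncomputable def m5_14 : Nat := (nat_lit 0x2070d050f080e050205030c0501090c090b0b04060f0c0b01060909010b0c040000)
noncomputable def m5_15 : Nat := (nat_lit 0x33333220211233013300232323211003130201311302321002122333121111202300)
noncomputable def m5_16 : Nat := (nat_lit 0x4141111545405505041545155141500504550545005404141405505140401041400)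
noncomputable def net5 : Net := (.cons (nat_lit 1) m5_0 (.cons (nat_lit 2) m5_1 (.cons (nat_lit 4) m5_2 (.cons (nat_lit 8) m5_3 (.cons (nat_lit 16) m5_4 (.cons (nat_lit 32) m5_5 (.cons (nat_lit 64) m5_6 (.cons (nat_lit 128) m5_7 (.cons (nat_lit 256) m5_8 (.cons (nat_lit 128) m5_9 (.cons (nat_lit 64) m5_10 (.cons (nat_lit 32) m5_11 (.cons (nat_lit 16) m5_12 (.cons (nat_lit 8) m5_13 (.cons (nat_lit 4) m5_14 (.cons (nat_lit 2) m5_15 (.cons (nat_lit 1) m5_16 .nil)))))))))))))))))
theorem valid5 : net5.Valid 275 := valid_of_validB _ (by decide +kernel)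
noncomputable def m6_0 : Nat := (nat_lit 0x11144140455105000515451051155410155015105554550515505551551111411010)
noncomputable def m6_1 : Nat := (nat_lit 0x33130222133233321203231332220230201212221330112111121111111111210000)
noncomputable def m6_2 : Nat := (nat_lit 0xc0106020b0706050d020f0f03050b06040105000c0d0f00080d030701090d000200)
noncomputable def m6_3 : Nat := (nat_lit 0xe700350033004400db00580011001e00ed00ec0025009f00fc008300e000be00d0)
noncomputable def m6_4 : Nat := (nat_lit 0x700002adc0000c4ff0000f7b000009e6a00002f6400008f08000043c800006218)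
noncomputable def m6_5 : Nat := (nat_lit 0xd34210270000000025b823db00000000126028f7000000009de64510)
noncomputable def m6_6 : Nat := (nat_lit 0x55fc5544a941404c00000000000000003d05b8a680056d58)
noncomputable def m6_7 : Nat := (nat_lit 0xc09a070010000024000000000005dfbf)
noncomputable def m6_8 : Nat := (nat_lit 0x5ffff)
noncomputable def m6_9 : Nat := (nat_lit 0x5f7ff)
noncomputable def m6_10 : Nat := (nat_lit 0x401a050000006af200000000000000000000000000002840)
noncomputable def m6_11 : Nat := (nat_lit 0x8c803838000000009001e81d000000003c00f86c0000000000002500)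
noncomputable def m6_12 : Nat := (nat_lit 0x2000030a10000e2100000f2b2000012a000002f6500001f6000002da500006018)
noncomputable def m6_13 : Nat := (nat_lit 0xf700c20081001b001200e500170023009000020081004c002100ad005800020000)
noncomputable def m6_14 : Nat := (nat_lit 0x605050c0102050600040501090d0a04010001020f010b0c0c04050d0b0100010d00)
noncomputable def m6_15 : Nat := (nat_lit 0x130300022332021033230010332200003011300000020002222000000000000000)
noncomputable def m6_16 : Nat := (nat_lit 0x155100401105150011014115001440540440000000100400015100454400540010110)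
noncomputable def net6 : Net := (.cons (nat_lit 1) m6_0 (.cons (nat_lit 2) m6_1 (.cons (nat_lit 4) m6_2 (.cons (nat_lit 8) m6_3 (.cons (nat_lit 16) m6_4 (.cons (nat_lit 32) m6_5 (.cons (nat_lit 64) m6_6 (.cons (nat_lit 128) m6_7 (.cons (nat_lit 256) m6_8 (.cons (nat_lit 128) m6_9 (.cons (nat_lit 64) m6_10 (.cons (nat_lit 32) m6_11 (.cons (nat_lit 16) m6_12 (.cons (nat_lit 8) m6_13 (.cons (nat_lit 4) m6_14 (.cons (nat_lit 2) m6_15 (.cons (nat_lit 1) m6_16 .nil)))))))))))))))))
theorem valid6 : net6.Valid 275 := valid_of_validB _ (by decide +kernel)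
noncomputable def m7_0 : Nat := (nat_lit 0x100445001555114015504054554111551500040014154440154440444044444445414)
noncomputable def m7_1 : Nat := (nat_lit 0x10233103010311120131021023132313310012320032223032220222022233323310)
noncomputable def m7_2 : Nat := (nat_lit 0x5000704050b0c0306030a0e0a050d0b0f00010e0d010f01010e010e000e0a0a020c)
noncomputable def m7_3 : Nat := (nat_lit 0xd4001300a100ae006d00cb00a80067009d00840046004d00100000006900040068)
noncomputable def m7_4 : Nat := (nat_lit 0x50000787c0000c9be0000be150000a68e000099f20000420d00007f6100000000)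
noncomputable def m7_5 : Nat := (nat_lit 0xb22ce4b0000000020447a00000000005a473df70000000001000000)
noncomputable def m7_6 : Nat := (nat_lit 0x5de17dcb10846dfa000000000000000042757a5d000001a2)
noncomputable def m7_7 : Nat := (nat_lit 0x8000042041810000000000002955a)
noncomputable def m7_8 : Nat := (nat_lit 0x295fa)
noncomputable def m7_9 : Nat := (nat_lit 0x294f8)
noncomputable def m7_10 : Nat := (nat_lit 0x48dda000000000000000000000000000001a2)
noncomputable def m7_11 : Nat := (nat_lit 0x3298c4a000000004004180000000000422559f70000000000000000)
noncomputable def m7_12 : Nat := (nat_lit 0x50490000499300001c06000080a2000019f2000022200000110800000000)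
noncomputable def m7_13 : Nat := (nat_lit 0xd4001300e900ae004500a900a200a000b800840026002d00300028000100000000)
noncomputable def m7_14 : Nat := (nat_lit 0x502070405030e0106030a0c0a070f090d0001080d01010001000100000000000400)
noncomputable def m7_15 : Nat := (nat_lit 0x10033303012131120131021023112111310012120030003030000000000001000130)
noncomputable def m7_16 : Nat := (nat_lit 0x140445001555110015504054554111551500000014154440154440444044444440500)
noncomputable def net7 : Net := (.cons (nat_lit 1) m7_0 (.cons (nat_lit 2) m7_1 (.cons (nat_lit 4) m7_2 (.cons (nat_lit 8) m7_3 (.cons (nat_lit 16) m7_4 (.cons (nat_lit 32) m7_5 (.cons (nat_lit 64) m7_6 (.cons (nat_lit 128) m7_7 (.cons (nat_lit 256) m7_8 (.cons (nat_lit 128) m7_9 (.cons (nat_lit 64) m7_10 (.cons (nat_lit 32) m7_11 (.cons (nat_lit 16) m7_12 (.cons (nat_lit 8) m7_13 (.cons (nat_lit 4) m7_14 (.cons (nat_lit 2) m7_15 (.cons (nat_lit 1) m7_16 .nil)))))))))))))))))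
theorem valid7 : net7.Valid 275 := valid_of_validB _ (by decide +kernel)
noncomputable def m8_0 : Nat := (nat_lit 0x15500044101014144510101544145041055551004451115511111111111111114545)
noncomputable def m8_1 : Nat := (nat_lit 0x133031121313203023003001033222112103233012311110111110000111133310000)
noncomputable def m8_2 : Nat := (nat_lit 0x90403020f08040104020d06090b050b0d07050f070f020a0f020e030f020a050301)
noncomputable def m8_3 : Nat := (nat_lit 0xe40089004c00f600ec001600be00e0008c005e00400040009f003900bf002f0020)
noncomputable def m8_4 : Nat := (nat_lit 0x40000854b0000a34f000061b70000a514000033000000df9f000028e700000200)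
noncomputable def m8_5 : Nat := (nat_lit 0xde754a0d0000000057ba158500000000fffbbf000000000020040000)
noncomputable def m8_6 : Nat := (nat_lit 0x86ae550ef0c0bee10000000000000000dffbffff00050000)
noncomputable def m8_7 : Nat := (nat_lit 0x400008cfa03000000000000079f5b)
noncomputable def m8_8 : Nat := (nat_lit 0x79f5b)
noncomputable def m8_9 : Nat := (nat_lit 0x69f5b)
noncomputable def m8_10 : Nat := (nat_lit 0x8da035200000000000000000000000000010000)
noncomputable def m8_11 : Nat := (nat_lit 0xdca26b3600000000085c001100000000cefbf7180000000000040000)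
noncomputable def m8_12 : Nat := (nat_lit 0x2000026100000828c00005c7800009b4200007300000008a70000200000000000)
noncomputable def m8_13 : Nat := (nat_lit 0xdc006100a000a20053008e00920040000400420018003900200000002000020000)
noncomputable def m8_14 : Nat := (nat_lit 0x7060f09030007040a0907050b0208050d090d050c00020604060406040607000200)
noncomputable def m8_15 : Nat := (nat_lit 0x31033012102231030221121112301021203322113022222133333333333002000000)
noncomputable def m8_16 : Nat := (nat_lit 0x154100100450015550001414004005111454140544044444044444444444155550101)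
noncomputable def net8 : Net := (.cons (nat_lit 1) m8_0 (.cons (nat_lit 2) m8_1 (.cons (nat_lit 4) m8_2 (.cons (nat_lit 8) m8_3 (.cons (nat_lit 16) m8_4 (.cons (nat_lit 32) m8_5 (.cons (nat_lit 64) m8_6 (.cons (nat_lit 128) m8_7 (.cons (nat_lit 256) m8_8 (.cons (nat_lit 128) m8_9 (.cons (nat_lit 64) m8_10 (.cons (nat_lit 32) m8_11 (.cons (nat_lit 16) m8_12 (.cons (nat_lit 8) m8_13 (.cons (nat_lit 4) m8_14 (.cons (nat_lit 2) m8_15 (.cons (nat_lit 1) m8_16 .nil)))))))))))))))))
theorem valid8 : net8.Valid 275 := valid_of_validB _ (by decide +kernel)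
noncomputable def m9_0 : Nat := (nat_lit 0x110545511454001444150014141550041041114040541054514100500051145101100)
noncomputable def m9_1 : Nat := (nat_lit 0x131032003333001030320113033030222000222002103202210332030002002332100)
noncomputable def m9_2 : Nat := (nat_lit 0xa0d0d05060509020d0e08010f01050e0a030b090a040e04030903020b0305030300)
noncomputable def m9_3 : Nat := (nat_lit 0x93004000560022002800b500b200f600b300f400dd006800f2003e008b00a70020)
noncomputable def m9_4 : Nat := (nat_lit 0x70000c6890000b49e00002d8400006bb7000095500000c60900009f1e0000b720)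
noncomputable def m9_5 : Nat := (nat_lit 0x540be1390000000097b4789a00000000f015718b00000000ec54e9e0)
noncomputable def m9_6 : Nat := (nat_lit 0x46deff628f4e4c0b0000000000000000f555138e02ee6d80)
noncomputable def m9_7 : Nat := (nat_lit 0xaa88450000100000000000000066fbb)
noncomputable def m9_8 : Nat := (nat_lit 0x66fbb)
noncomputable def m9_9 : Nat := (nat_lit 0x26ebb)
noncomputable def m9_10 : Nat := (nat_lit 0x220845000074b8200000000000000000000000000040100)
noncomputable def m9_11 : Nat := (nat_lit 0x8305653a000000000002c8d000000000601503060000000000000000)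
noncomputable def m9_12 : Nat := (nat_lit 0x1000059150000720a000063360000452d000085500000e1290000609800000600)
noncomputable def m9_13 : Nat := (nat_lit 0xa6005100c600b6003200c800b0004600770010007d00ba0091006400e5004f0000)
noncomputable def m9_14 : Nat := (nat_lit 0x50c0e010f0c0d06030f040500070403030a07050a03080608030e0e030803060600)
noncomputable def m9_15 : Nat := (nat_lit 0x13022032033213132300300203222221231131203323012230013213200210101100)
noncomputable def m9_16 : Nat := (nat_lit 0x111144115555055444101415515114455004041401440400444011105555404510100)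
noncomputable def net9 : Net := (.cons (nat_lit 1) m9_0 (.cons (nat_lit 2) m9_1 (.cons (nat_lit 4) m9_2 (.cons (nat_lit 8) m9_3 (.cons (nat_lit 16) m9_4 (.cons (nat_lit 32) m9_5 (.cons (nat_lit 64) m9_6 (.cons (nat_lit 128) m9_7 (.cons (nat_lit 256) m9_8 (.cons (nat_lit 128) m9_9 (.cons (nat_lit 64) m9_10 (.cons (nat_lit 32) m9_11 (.cons (nat_lit 16) m9_12 (.cons (nat_lit 8) m9_13 (.cons (nat_lit 4) m9_14 (.cons (nat_lit 2) m9_15 (.cons (nat_lit 1) m9_16 .nil)))))))))))))))))
theorem valid9 : net9.Valid 275 := valid_of_validB _ (by decide +kernel)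
noncomputable def m10_0 : Nat := (nat_lit 0x5141051044104150515545150510000441044015051114051110111011111110500)
noncomputable def m10_1 : Nat := (nat_lit 0x112220110032312111000220330302330310302020331111031110111011133313200)
noncomputable def m10_2 : Nat := (nat_lit 0x70a0e0a0305020a050c0802080e0c0f0400000a05020d00020d020d020d05050504)
noncomputable def m10_3 : Nat := (nat_lit 0xdb00350089002a0025004400f100290011008200d500cb0020002000220008006c)
noncomputable def m10_4 : Nat := (nat_lit 0x6000053ca00002bc70000ad7500000f780000632c000004c10000b74900000002)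
noncomputable def m10_5 : Nat := (nat_lit 0xa3a20fdd000000004235487d00000000a68cf3a80000000002000000)
noncomputable def m10_6 : Nat := (nat_lit 0x3abd7d1e8a3fa6bc000000000000000065a867aa00000008)
noncomputable def m10_7 : Nat := (nat_lit 0x1852000404804320000000000005fce6)
noncomputable def m10_8 : Nat := (nat_lit 0x5fcee)
noncomputable def m10_9 : Nat := (nat_lit 0x5fce6)
noncomputable def m10_10 : Nat := (nat_lit 0x181000040005a6a400000000000000000000000000000008)
noncomputable def m10_11 : Nat := (nat_lit 0x8921da200000000001548640000000004a863a80000000000000000)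
noncomputable def m10_12 : Nat := (nat_lit 0x2000053ca000003f300002d61000002300000632c000004000000022000000000)
noncomputable def m10_13 : Nat := (nat_lit 0xf8002d008900020015004400c000090019008200f500eb00000000000200000000)
noncomputable def m10_14 : Nat := (nat_lit 0x70a06080305080a050c0802080c040f0400000a0402000002000200020000000000)
noncomputable def m10_15 : Nat := (nat_lit 0x12220110032302110000220330302330110302020330000030000000000002003200)
noncomputable def m10_16 : Nat := (nat_lit 0x5101051040104140515545150510000441044015051114051110111011111110500)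
noncomputable def net10 : Net := (.cons (nat_lit 1) m10_0 (.cons (nat_lit 2) m10_1 (.cons (nat_lit 4) m10_2 (.cons (nat_lit 8) m10_3 (.cons (nat_lit 16) m10_4 (.cons (nat_lit 32) m10_5 (.cons (nat_lit 64) m10_6 (.cons (nat_lit 128) m10_7 (.cons (nat_lit 256) m10_8 (.cons (nat_lit 128) m10_9 (.cons (nat_lit 64) m10_10 (.cons (nat_lit 32) m10_11 (.cons (nat_lit 16) m10_12 (.cons (nat_lit 8) m10_13 (.cons (nat_lit 4) m10_14 (.cons (nat_lit 2) m10_15 (.cons (nat_lit 1) m10_16 .nil)))))))))))))))))
theorem valid10 : net10.Valid 275 := valid_of_validB _ (by decide +kernel)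
noncomputable def m11_0 : Nat := (nat_lit 0x14444541411100504150455554500545014050554000010514040150550040054410)
noncomputable def m11_1 : Nat := (nat_lit 0x12210302133223100203302330221230131021131321012133113230031021331120)
noncomputable def m11_2 : Nat := (nat_lit 0x40d090e0400050d0d0e0c01050c090d02070300010204070f0e020504080d0308)
noncomputable def m11_3 : Nat := (nat_lit 0xd800670063008300d9004f00d100ac00fd0046002f00f600c400a8002500860020)
noncomputable def m11_4 : Nat := (nat_lit 0x300006e290000b39700001dcb00005d11000045b800006f4f000086f700008b20)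
noncomputable def m11_5 : Nat := (nat_lit 0x90c244f400000000e79a25e60000000087811e7b00000000c8a78310)
noncomputable def m11_6 : Nat := (nat_lit 0x45c7cf403abd92cb0000000000000000c739bc3470dac650)
noncomputable def m11_7 : Nat := (nat_lit 0x3846418082010020000000000007ffe6)
noncomputable def m11_8 : Nat := (nat_lit 0x7fff6)
noncomputable def m11_9 : Nat := (nat_lit 0x7fbf6)
noncomputable def m11_10 : Nat := (nat_lit 0x200601008201235000000000000000000000000000000410)
noncomputable def m11_11 : Nat := (nat_lit 0x496542a900000000b203e57400000000878116700000000000014410)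
noncomputable def m11_12 : Nat := (nat_lit 0x2000020c100006a300000c685000098f1000045b80000f3420000491400008800)
noncomputable def m11_13 : Nat := (nat_lit 0x13000b0033003c007a0021005700d80097000000d400cb003800c200c900070000)
noncomputable def m11_14 : Nat := (nat_lit 0x205020b07020c090a0403060000060d0704000303040b0a050707080605000600)
noncomputable def m11_15 : Nat := (nat_lit 0x111221321110211211010312020032021201220023111232112221222131013200020)
noncomputable def m11_16 : Nat := (nat_lit 0x15011014545554114105004515504544050144015045011001440050451040504554)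
noncomputable def net11 : Net := (.cons (nat_lit 1) m11_0 (.cons (nat_lit 2) m11_1 (.cons (nat_lit 4) m11_2 (.cons (nat_lit 8) m11_3 (.cons (nat_lit 16) m11_4 (.cons (nat_lit 32) m11_5 (.cons (nat_lit 64) m11_6 (.cons (nat_lit 128) m11_7 (.cons (nat_lit 256) m11_8 (.cons (nat_lit 128) m11_9 (.cons (nat_lit 64) m11_10 (.cons (nat_lit 32) m11_11 (.cons (nat_lit 16) m11_12 (.cons (nat_lit 8) m11_13 (.cons (nat_lit 4) m11_14 (.cons (nat_lit 2) m11_15 (.cons (nat_lit 1) m11_16 .nil)))))))))))))))))
theorem valid11 : net11.Valid 275 := valid_of_validB _ (by decide +kernel)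
noncomputable def m12_0 : Nat := (nat_lit 0x104151115014110040405044140444111405155040005541051040144044055451444)
noncomputable def m12_1 : Nat := (nat_lit 0x11210121312121013300132133210001000330200222232021031220123130223330)
noncomputable def m12_2 : Nat := (nat_lit 0xe000a08000a000a050a040b060b070704080d050b00040e04020d0c080408020404)
noncomputable def m12_3 : Nat := (nat_lit 0x65003d008b00ff005800f400ba005500980080002900ea00e8005b006d00ce0080)
noncomputable def m12_4 : Nat := (nat_lit 0x10000616700000c4b0000acf1000033fd0000fcfb000096bc000072460000ea60)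
noncomputable def m12_5 : Nat := (nat_lit 0xe6ec0d8200000000f029dabc0000000076d16ade0000000082bdf440)
noncomputable def m12_6 : Nat := (nat_lit 0x74a56af94754ad00000000000000005ab9494a841a61f0)
noncomputable def m12_7 : Nat := (nat_lit 0x104942102000808000000000003be3f)
noncomputable def m12_8 : Nat := (nat_lit 0x3feff)
noncomputable def m12_9 : Nat := (nat_lit 0x3de7f)
noncomputable def m12_10 : Nat := (nat_lit 0x4042102012c1b000000000000000000000000000060c0)
noncomputable def m12_11 : Nat := (nat_lit 0x48261065000000000004c02500000000820268ca0000000000004020)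
noncomputable def m12_12 : Nat := (nat_lit 0x40000315a0000767d000002f0000058700000fceb00003be0000070480000c040)
noncomputable def m12_13 : Nat := (nat_lit 0x1c00630003006d0022007c00f500c700160000002b0048003c0003003700340000)
noncomputable def m12_14 : Nat := (nat_lit 0xd0e0b09080a0e0305060400070807080c0307030b05010004070a06020c07010000)
noncomputable def m12_15 : Nat := (nat_lit 0x23320300302102330330320320321301130111220312311103230033020301010010)
noncomputable def m12_16 : Nat := (nat_lit 0x145401115541505500110541151414110054001000445441455511444514041141440)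
noncomputable def net12 : Net := (.cons (nat_lit 1) m12_0 (.cons (nat_lit 2) m12_1 (.cons (nat_lit 4) m12_2 (.cons (nat_lit 8) m12_3 (.cons (nat_lit 16) m12_4 (.cons (nat_lit 32) m12_5 (.cons (nat_lit 64) m12_6 (.cons (nat_lit 128) m12_7 (.cons (nat_lit 256) m12_8 (.cons (nat_lit 128) m12_9 (.cons (nat_lit 64) m12_10 (.cons (nat_lit 32) m12_11 (.cons (nat_lit 16) m12_12 (.cons (nat_lit 8) m12_13 (.cons (nat_lit 4) m12_14 (.cons (nat_lit 2) m12_15 (.cons (nat_lit 1) m12_16 .nil)))))))))))))))))
theorem valid12 : net12.Valid 275 := valid_of_validB _ (by decide +kernel)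
noncomputable def m13_0 : Nat := (nat_lit 0x145404450110041504141450455550545450411504115511050104401145445001150)
noncomputable def m13_1 : Nat := (nat_lit 0x101232122211300321200123220323223320323200101212312132012030112131200)
noncomputable def m13_2 : Nat := (nat_lit 0x5060307010d09010f0f0d0f04000a0c0e080f0e010008000005000a00090a080500)
noncomputable def m13_3 : Nat := (nat_lit 0x1400f900fb002900ee001800f5004a001600390091007a0083008c00e7001f00d0)
noncomputable def m13_4 : Nat := (nat_lit 0x6000009a20000fcf4000097a700007908000099140000e0870000730e00005800)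
noncomputable def m13_5 : Nat := (nat_lit 0xa78817b30000000051da0a8f0000000011740658000000004676bb84)
noncomputable def m13_6 : Nat := (nat_lit 0xeef9c5cc5f1ff8d0000000000000000886007b0811bf0c4)
noncomputable def m13_7 : Nat := (nat_lit 0x2689980400600000000000000007fdff)
noncomputable def m13_8 : Nat := (nat_lit 0x7fdff)
noncomputable def m13_9 : Nat := (nat_lit 0x7fdff)
noncomputable def m13_10 : Nat := (nat_lit 0x268898040063cca300000000000000000000000000000000)
noncomputable def m13_11 : Nat := (nat_lit 0x6c650e61000000002080a84200000000097063700000000000010004)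
noncomputable def m13_12 : Nat := (nat_lit 0x50000ce1400008b210000f42500005a690000981400003cbc0000ed2200003000)
noncomputable def m13_13 : Nat := (nat_lit 0x72002f00d50052006a00c200de006a006c000300fd004a00c80035004200280000)
noncomputable def m13_14 : Nat := (nat_lit 0xa0008010c0b01070c0008070a0e0f020a0f0c060700060c0002000a040c0e0a0000)
noncomputable def m13_15 : Nat := (nat_lit 0x103120311003330212122300120103220101020102031230210300202231002030100)
noncomputable def m13_16 : Nat := (nat_lit 0x50051400515144505441500514411114141400040551414155444001100505101510)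
noncomputable def net13 : Net := (.cons (nat_lit 1) m13_0 (.cons (nat_lit 2) m13_1 (.cons (nat_lit 4) m13_2 (.cons (nat_lit 8) m13_3 (.cons (nat_lit 16) m13_4 (.cons (nat_lit 32) m13_5 (.cons (nat_lit 64) m13_6 (.cons (nat_lit 128) m13_7 (.cons (nat_lit 256) m13_8 (.cons (nat_lit 128) m13_9 (.cons (nat_lit 64) m13_10 (.cons (nat_lit 32) m13_11 (.cons (nat_lit 16) m13_12 (.cons (nat_lit 8) m13_13 (.cons (nat_lit 4) m13_14 (.cons (nat_lit 2) m13_15 (.cons (nat_lit 1) m13_16 .nil)))))))))))))))))
theorem valid13 : net13.Valid 275 := valid_of_validB _ (by decide +kernel)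
noncomputable def m14_0 : Nat := (nat_lit 0x145515151450150040515055414044014145400415404041514400444405150414400)
noncomputable def m14_1 : Nat := (nat_lit 0x33020312033102202212112331302120112221100221313302011120001123222320)
noncomputable def m14_2 : Nat := (nat_lit 0x20e0f07090c060d060d0302080d0b0f020e000d0b0406040001050801000a080800)
noncomputable def m14_3 : Nat := (nat_lit 0x51005400cb0071001500a800030049008200c2007500ea00c1001a00e2008500a0)
noncomputable def m14_4 : Nat := (nat_lit 0x3000021db0000c0f70000ff0f0000edab000015ed000044ca000078de00004610)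
noncomputable def m14_5 : Nat := (nat_lit 0xc14f7f32000000008888893c00000000772998b400000000432e3720)
noncomputable def m14_6 : Nat := (nat_lit 0x9f42b858007f32a400000000000000007345b89688e95754)
noncomputable def m14_7 : Nat := (nat_lit 0x88120141200000a0000000000007e3f6)
noncomputable def m14_8 : Nat := (nat_lit 0x7f3f6)
noncomputable def m14_9 : Nat := (nat_lit 0x7f3f2)
noncomputable def m14_10 : Nat := (nat_lit 0x1201402006f14200000000000000000000000000001004)
noncomputable def m14_11 : Nat := (nat_lit 0xbf0832e600000000a80371c200000000600458a60000000000001040)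
noncomputable def m14_12 : Nat := (nat_lit 0x6000090ea00006f7000001bb800005857000015ed0000090d0000061800001030)
noncomputable def m14_13 : Nat := (nat_lit 0xd500cc00b3008d00210081008d00a30023000700a10061008a0058004000040000)
noncomputable def m14_14 : Nat := (nat_lit 0xf0c0d0105080a0001080202010a0d00060104050f04070308000401080002040000)
noncomputable def m14_15 : Nat := (nat_lit 0x11100302101230210032322003211311021213000002110002021101031122332220)
noncomputable def m14_16 : Nat := (nat_lit 0x54145451104114554104454441145544015004055544155011400551115110450000)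
noncomputable def net14 : Net := (.cons (nat_lit 1) m14_0 (.cons (nat_lit 2) m14_1 (.cons (nat_lit 4) m14_2 (.cons (nat_lit 8) m14_3 (.cons (nat_lit 16) m14_4 (.cons (nat_lit 32) m14_5 (.cons (nat_lit 64) m14_6 (.cons (nat_lit 128) m14_7 (.cons (nat_lit 256) m14_8 (.cons (nat_lit 128) m14_9 (.cons (nat_lit 64) m14_10 (.cons (nat_lit 32) m14_11 (.cons (nat_lit 16) m14_12 (.cons (nat_lit 8) m14_13 (.cons (nat_lit 4) m14_14 (.cons (nat_lit 2) m14_15 (.cons (nat_lit 1) m14_16 .nil)))))))))))))))))
theorem valid14 : net14.Valid 275 := valid_of_validB _ (by decide +kernel)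
noncomputable def m15_0 : Nat := (nat_lit 0x104105111140515105514011001450044040154514040105441544040055455144550)
noncomputable def m15_1 : Nat := (nat_lit 0x113023030302112233210201121300230102100020332132122323112230220110022)
noncomputable def m15_2 : Nat := (nat_lit 0xb0a04070e060f04010407060c010d05050a06080d0d030706010708030c0900070c)
noncomputable def m15_3 : Nat := (nat_lit 0x310095008a001d00800010006000a600ab002b004100f6005d006c00bd003000c4)
noncomputable def m15_4 : Nat := (nat_lit 0x600000d47000084760000e0920000759800003ebe0000fcd300005ffe00006396)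
noncomputable def m15_5 : Nat := (nat_lit 0x6515790800000000efd83c9f000000004675631000000000bf2e0702)
noncomputable def m15_6 : Nat := (nat_lit 0x9ac0f29f654d3a6c000000000000000068c3c250133d52da)
noncomputable def m15_7 : Nat := (nat_lit 0x81001c2e00402000000000000006fdeb)
noncomputable def m15_8 : Nat := (nat_lit 0x7fffb)
noncomputable def m15_9 : Nat := (nat_lit 0x7fffb)
noncomputable def m15_10 : Nat := (nat_lit 0x81000c080040bac800000000000000000000000000010210)
noncomputable def m15_11 : Nat := (nat_lit 0x5c08d66300000000810612390000000048dba2100000000000010212)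
noncomputable def m15_12 : Nat := (nat_lit 0x10000c56a00003db600000a530000437400003e3e00005f15000008d100002930)
noncomputable def m15_13 : Nat := (nat_lit 0x44003a002000b4006600c5003a0093000200010002002b0029002a006e00010000)
noncomputable def m15_14 : Nat := (nat_lit 0x70f080207000c0f01040c090e050704020b020a0e05030e030403000b0103030000)
noncomputable def m15_15 : Nat := (nat_lit 0x113212020300132010213032012231023023222120303122320122120221132203000)
noncomputable def m15_16 : Nat := (nat_lit 0x55504000010105150414104040010450441014414514104114451401114110044454)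
noncomputable def net15 : Net := (.cons (nat_lit 1) m15_0 (.cons (nat_lit 2) m15_1 (.cons (nat_lit 4) m15_2 (.cons (nat_lit 8) m15_3 (.cons (nat_lit 16) m15_4 (.cons (nat_lit 32) m15_5 (.cons (nat_lit 64) m15_6 (.cons (nat_lit 128) m15_7 (.cons (nat_lit 256) m15_8 (.cons (nat_lit 128) m15_9 (.cons (nat_lit 64) m15_10 (.cons (nat_lit 32) m15_11 (.cons (nat_lit 16) m15_12 (.cons (nat_lit 8) m15_13 (.cons (nat_lit 4) m15_14 (.cons (nat_lit 2) m15_15 (.cons (nat_lit 1) m15_16 .nil)))))))))))))))))
theorem valid15 : net15.Valid 275 := valid_of_validB _ (by decide +kernel)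
noncomputable def m16_0 : Nat := (nat_lit 0x45014414455505500454150411541000514050114514415440151555005100001014)
noncomputable def m16_1 : Nat := (nat_lit 0x2031231100003010033330103323113031222220203011002132133323300003010)
noncomputable def m16_2 : Nat := (nat_lit 0xa0305010b00050a090808020a0e010a03020508080a030b0d04010e0d0707080600)
noncomputable def m16_3 : Nat := (nat_lit 0xac00210084007200190095009f00aa009c006d00870034001a003d0014009e0004)
noncomputable def m16_4 : Nat := (nat_lit 0x4000097490000687a00007bb5000053330000758300004afb000000280000d008)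
noncomputable def m16_5 : Nat := (nat_lit 0x60e1dff100000000d72aa3e000000000d2ddd21f000000009008252c)
noncomputable def m16_6 : Nat := (nat_lit 0xb8b454690c2e9fdf0000000000000000e6da5277500447c9)
noncomputable def m16_7 : Nat := (nat_lit 0x820250082481002000000000003bff9)
noncomputable def m16_8 : Nat := (nat_lit 0x7fff9)
noncomputable def m16_9 : Nat := (nat_lit 0x7bff8)
noncomputable def m16_10 : Nat := (nat_lit 0x800210002453b8900000000000000000000000000044001)
noncomputable def m16_11 : Nat := (nat_lit 0x263f5c80000000008a46802b00000000825c50bb0000000000000000)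
noncomputable def m16_12 : Nat := (nat_lit 0x30000c60d000028db0000bf4000003c8b0000750300000024000095040000d000)
noncomputable def m16_13 : Nat := (nat_lit 0x4e00390074001400f600ab008e000b002c000400e4000c0002002d007400000000)
noncomputable def m16_14 : Nat := (nat_lit 0xd0001030c0f05040406000a060f0f010d0103080d0407060408070c0e0601000400)
noncomputable def m16_15 : Nat := (nat_lit 0x20033023200130013011132020322001011122022302211303130131202222220010)
noncomputable def m16_16 : Nat := (nat_lit 0x155544010515451004004101505455411410051411050041041545550005511101100)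
noncomputable def net16 : Net := (.cons (nat_lit 1) m16_0 (.cons (nat_lit 2) m16_1 (.cons (nat_lit 4) m16_2 (.cons (nat_lit 8) m16_3 (.cons (nat_lit 16) m16_4 (.cons (nat_lit 32) m16_5 (.cons (nat_lit 64) m16_6 (.cons (nat_lit 128) m16_7 (.cons (nat_lit 256) m16_8 (.cons (nat_lit 128) m16_9 (.cons (nat_lit 64) m16_10 (.cons (nat_lit 32) m16_11 (.cons (nat_lit 16) m16_12 (.cons (nat_lit 8) m16_13 (.cons (nat_lit 4) m16_14 (.cons (nat_lit 2) m16_15 (.cons (nat_lit 1) m16_16 .nil)))))))))))))))))
theorem valid16 : net16.Valid 275 := valid_of_validB _ (by decide +kernel)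
noncomputable def m17_0 : Nat := (nat_lit 0x55114050541111505014554140014140050000401100555115150010011140400151)
noncomputable def m17_1 : Nat := (nat_lit 0x11123303212033233013323211003021231312011122133232312312223221011220)
noncomputable def m17_2 : Nat := (nat_lit 0x501030802050e0d0302010a0d0402080a090301030d0801060c07010e0f000c070c)
noncomputable def m17_3 : Nat := (nat_lit 0x9100e4000b00b1008400360057007d00a1000b001500bf00b50037009400d80087)
noncomputable def m17_4 : Nat := (nat_lit 0x10000ef95000039cb000080ae0000ae650000006e000040a000000bdd00005389)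
noncomputable def m17_5 : Nat := (nat_lit 0xf379279800000000877b9c4500000000f284838600000000cf062dbe)
noncomputable def m17_6 : Nat := (nat_lit 0xb1e05c1e6fead8ac0000000000000000e2cc4583840051bd)
noncomputable def m17_7 : Nat := (nat_lit 0xd06090d22b12669d3e957732c85bfc6a)
noncomputable def m17_8 : Nat := (nat_lit 0x37ffd)
noncomputable def m17_9 : Nat := (nat_lit 0x357ec)
noncomputable def m17_10 : Nat := (nat_lit 0xc8a1e0e063019a4900000000000000000000000000002918)
noncomputable def m17_11 : Nat := (nat_lit 0x159a923c0000000004a2ae6e000000007086a0160000000000017804)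
noncomputable def m17_12 : Nat := (nat_lit 0x400005f920000625a0000a1ac0000ef8d0000002e0000c3b10000074000001208)
noncomputable def m17_13 : Nat := (nat_lit 0x8008000e700dc000700220051009800a20000007200a60078001c00f500c40000)
noncomputable def m17_14 : Nat := (nat_lit 0x202000f030008040b040808040c04070c0d03080707030801070c01010908080405)
noncomputable def m17_15 : Nat := (nat_lit 0x133001322311312132103223120120212221132013011021210312013303330030310)
noncomputable def m17_16 : Nat := (nat_lit 0x155005410015440445010015154415544544004401100401105054055100550415511)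
noncomputable def net17 : Net := (.cons (nat_lit 1) m17_0 (.cons (nat_lit 2) m17_1 (.cons (nat_lit 4) m17_2 (.cons (nat_lit 8) m17_3 (.cons (nat_lit 16) m17_4 (.cons (nat_lit 32) m17_5 (.cons (nat_lit 64) m17_6 (.cons (nat_lit 128) m17_7 (.cons (nat_lit 256) m17_8 (.cons (nat_lit 128) m17_9 (.cons (nat_lit 64) m17_10 (.cons (nat_lit 32) m17_11 (.cons (nat_lit 16) m17_12 (.cons (nat_lit 8) m17_13 (.cons (nat_lit 4) m17_14 (.cons (nat_lit 2) m17_15 (.cons (nat_lit 1) m17_16 .nil)))))))))))))))))
theorem valid17 : net17.Valid 275 := valid_of_validB _ (by decide +kernel)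
noncomputable def m18_0 : Nat := (nat_lit 0x110405101100140011150500100445445055050144151004405050010555105115454)
noncomputable def m18_1 : Nat := (nat_lit 0x120103323230311113233200030313200001223232111032311012121332001133222)
noncomputable def m18_2 : Nat := (nat_lit 0xe0e070804070e0e00070b0005030a0f0907000b000404050d0a07020c040803080a)
noncomputable def m18_3 : Nat := (nat_lit 0xe800b50038003b00ea005c0018003e0039000600fe00480029008b009d00e200a4)
noncomputable def m18_4 : Nat := (nat_lit 0x200006646000086b90000b3b7000076860000b66300009af1000037e90000df4e)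
noncomputable def m18_5 : Nat := (nat_lit 0x8b882700000000f177345b00000000ba609e0700000000b4517c7f)
noncomputable def m18_6 : Nat := (nat_lit 0x9fd393fbf65b49aa0000000000000000a24194957c693dd6)
noncomputable def m18_7 : Nat := (nat_lit 0x32035b4ae62018c40dcbec0c49b8780b)
noncomputable def m18_8 : Nat := (nat_lit 0x77ff9)
noncomputable def m18_9 : Nat := (nat_lit 0x74b38)
noncomputable def m18_10 : Nat := (nat_lit 0x1483640a21f4104000000000000000000000000000205d1)
noncomputable def m18_11 : Nat := (nat_lit 0xc0f7645300000000631c6f450000000000218a800000000000000690)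
noncomputable def m18_12 : Nat := (nat_lit 0x73db000001210000b03c0000a9340000ae610000fdd20000e5fa000028a0)
noncomputable def m18_13 : Nat := (nat_lit 0x4f00f0007f005b007800d400f9005100b9004f00cf007d00c80002008e00700002)
noncomputable def m18_14 : Nat := (nat_lit 0xc0a010806070e01020e0b08010e080f0407080804040c020a060708060001040906)
noncomputable def m18_15 : Nat := (nat_lit 0x100013123030203010103033302330121231220032131303302130321300312232012)
noncomputable def m18_16 : Nat := (nat_lit 0x154410504101015110100010154150050005500000100411101001501045511440114)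
noncomputable def net18 : Net := (.cons (nat_lit 1) m18_0 (.cons (nat_lit 2) m18_1 (.cons (nat_lit 4) m18_2 (.cons (nat_lit 8) m18_3 (.cons (nat_lit 16) m18_4 (.cons (nat_lit 32) m18_5 (.cons (nat_lit 64) m18_6 (.cons (nat_lit 128) m18_7 (.cons (nat_lit 256) m18_8 (.cons (nat_lit 128) m18_9 (.cons (nat_lit 64) m18_10 (.cons (nat_lit 32) m18_11 (.cons (nat_lit 16) m18_12 (.cons (nat_lit 8) m18_13 (.cons (nat_lit 4) m18_14 (.cons (nat_lit 2) m18_15 (.cons (nat_lit 1) m18_16 .nil)))))))))))))))))
theorem valid18 : net18.Valid 275 := valid_of_validB _ (by decide +kernel)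
noncomputable def m19_0 : Nat := (nat_lit 0x40445455104011414041405400454105144440451110151111044404551014500055)
noncomputable def m19_1 : Nat := (nat_lit 0x22111332111221002300232313112021213302022030201012102101200301300231)
noncomputable def m19_2 : Nat := (nat_lit 0xa04090a0c0f05040e0004050b020f010b0b0002050404070d060d0e0f0d000d0204)
noncomputable def m19_3 : Nat := (nat_lit 0x40003f0031001f004300fe0093002600c4002600ee00c8003300b600fd00f20021)
noncomputable def m19_4 : Nat := (nat_lit 0x40000f3750000c03b000008b00000e241000055c80000022200009c050000ea97)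
noncomputable def m19_5 : Nat := (nat_lit 0xa8b6dc3b0000000003a71f8300000000d073fe8a00000000dba5dde5)
noncomputable def m19_6 : Nat := (nat_lit 0x3a345a42e18f47940000000000000000c7d3c1361c0ddbfd)
noncomputable def m19_7 : Nat := (nat_lit 0x5be249587ec27744240db6a2193a0e65)
noncomputable def m19_8 : Nat := (nat_lit 0x7fafe)
noncomputable def m19_9 : Nat := (nat_lit 0x7caac)
noncomputable def m19_10 : Nat := (nat_lit 0x45a22008056f622100000000000000000000000000033218)
noncomputable def m19_11 : Nat := (nat_lit 0xb07c449f000000007ad8e92b00000000c99334550000000000034200)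
noncomputable def m19_12 : Nat := (nat_lit 0x6000022340000a622000079b8000000f20000051c00001bd90000b69200005200)
noncomputable def m19_13 : Nat := (nat_lit 0x6800b10069007200c2005100d200b6002800ff001d00ce000500ac002600480004)
noncomputable def m19_14 : Nat := (nat_lit 0xc050e090a09010c03020b030c020b0e0b030a0807010f07040607080c020a090200)
noncomputable def m19_15 : Nat := (nat_lit 0x23311213303333120302320230302021020302100110013100233212320110100)
noncomputable def m19_16 : Nat := (nat_lit 0x40505000141050544144045401004401114500054045510510011040100505104415)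
noncomputable def net19 : Net := (.cons (nat_lit 1) m19_0 (.cons (nat_lit 2) m19_1 (.cons (nat_lit 4) m19_2 (.cons (nat_lit 8) m19_3 (.cons (nat_lit 16) m19_4 (.cons (nat_lit 32) m19_5 (.cons (nat_lit 64) m19_6 (.cons (nat_lit 128) m19_7 (.cons (nat_lit 256) m19_8 (.cons (nat_lit 128) m19_9 (.cons (nat_lit 64) m19_10 (.cons (nat_lit 32) m19_11 (.cons (nat_lit 16) m19_12 (.cons (nat_lit 8) m19_13 (.cons (nat_lit 4) m19_14 (.cons (nat_lit 2) m19_15 (.cons (nat_lit 1) m19_16 .nil)))))))))))))))))
theorem valid19 : net19.Valid 275 := valid_of_validB _ (by decide +kernel)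
noncomputable def m20_0 : Nat := (nat_lit 0x40445455001040104011015004444555140545405555050455545051044455540444)
noncomputable def m20_1 : Nat := (nat_lit 0x1320001311201011123320332230232320230210322003023100103031322322200)
noncomputable def m20_2 : Nat := (nat_lit 0x80701000603010700050a0c050a0001060103020408000e05020d0c050f06060908)
noncomputable def m20_3 : Nat := (nat_lit 0x9500ef00ef00ab00cd005b002d00330014004a0062009b00bc00a500b800620021)
noncomputable def m20_4 : Nat := (nat_lit 0x30000b6510000b0e50000d0e300000b030000a1a200006e3d0000a0910000b3f9)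
noncomputable def m20_5 : Nat := (nat_lit 0x82f80538000000003c7d1e19000000000391031d00000000545d2b75)
noncomputable def m20_6 : Nat := (nat_lit 0x67ce4b643cc2d0e00000000000000000afc6027c2219f041)
noncomputable def m20_7 : Nat := (nat_lit 0x1545d470e33e606db6817fdf58803902)
noncomputable def m20_8 : Nat := (nat_lit 0x7ffff)
noncomputable def m20_9 : Nat := (nat_lit 0x80)
noncomputable def m20_10 : Nat := (nat_lit 0x82408183b8b008690000000000000000000000000005688e)
noncomputable def m20_11 : Nat := (nat_lit 0x11ca2fc000000000d16d4ac0000000001001520a000000000006de81)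
noncomputable def m20_12 : Nat := (nat_lit 0x20000201c00001adf000088050000769a000029050000a0920000a2eb00007048)
noncomputable def m20_13 : Nat := (nat_lit 0x1e0028006d008a00d100c400f200b10099005000d50024005400010054009f0001)
noncomputable def m20_14 : Nat := (nat_lit 0x40c0c08000900060e04090f040b0d0b05020e0e0e03040901080d0a010e0c070100)
noncomputable def m20_15 : Nat := (nat_lit 0x21310023300031311022123023131310332212313010003111021110021310000210)
noncomputable def m20_16 : Nat := (nat_lit 0x14144444441444055441115455510050104000001501155014010144140451505451)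
noncomputable def net20 : Net := (.cons (nat_lit 1) m20_0 (.cons (nat_lit 2) m20_1 (.cons (nat_lit 4) m20_2 (.cons (nat_lit 8) m20_3 (.cons (nat_lit 16) m20_4 (.cons (nat_lit 32) m20_5 (.cons (nat_lit 64) m20_6 (.cons (nat_lit 128) m20_7 (.cons (nat_lit 256) m20_8 (.cons (nat_lit 128) m20_9 (.cons (nat_lit 64) m20_10 (.cons (nat_lit 32) m20_11 (.cons (nat_lit 16) m20_12 (.cons (nat_lit 8) m20_13 (.cons (nat_lit 4) m20_14 (.cons (nat_lit 2) m20_15 (.cons (nat_lit 1) m20_16 .nil)))))))))))))))))
theorem valid20 : net20.Valid 275 := valid_of_validB _ (by decide +kernel)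
noncomputable def m21_0 : Nat := (nat_lit 0x50115455401155110440005001055010454500455544444444444444444400000000)
noncomputable def m21_1 : Nat := (nat_lit 0x130303011203201020110001122100311120132203122222022220000222233320000)
noncomputable def m21_2 : Nat := (nat_lit 0xa0c0d07040e0400030007060c0f060904040c05090d03070d0307090d03050a0000)
noncomputable def m21_3 : Nat := (nat_lit 0x6c00bc00350023007d00fa00cd00b3002600920002000200ed009c00fd001e0000)
noncomputable def m21_4 : Nat := (nat_lit 0x60000eef70000ce8b0000118f00001e33000098b00000ef5d0000144b00000000)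
noncomputable def m21_5 : Nat := (nat_lit 0x63beb8db000000007c91ff6100000000ff4fedb00000000010001000)
noncomputable def m21_6 : Nat := (nat_lit 0x97e4a5e14accb33b0000000000000000efffefff000710b0)
noncomputable def m21_7 : Nat := (nat_lit 0x100065488800000000000005f74f)
noncomputable def m21_8 : Nat := (nat_lit 0x7f7ff)
noncomputable def m21_9 : Nat := (nat_lit 0xf7ff)
noncomputable def m21_10 : Nat := (nat_lit 0x10002109a704000000000000000000000000000700b0)
noncomputable def m21_11 : Nat := (nat_lit 0x1c412a0c00000000040c91240000000067cfebb40000000000001000)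
noncomputable def m21_12 : Nat := (nat_lit 0x6000019200000fa40000034250000c71e00009ab000000449000010b000000000)
noncomputable def m21_13 : Nat := (nat_lit 0xa5003800fd00c6008000b800cc0015004000020084009c00100000001000000000)
noncomputable def m21_14 : Nat := (nat_lit 0x4010804030200000f090c0b040a0b0e05070a01040001010001000100010b000000)
noncomputable def m21_15 : Nat := (nat_lit 0x2120110222102200103003323003313102320101222223000000000000001000000)
noncomputable def m21_16 : Nat := (nat_lit 0x40105154040014110541541541550505044415111115111111111111044440000)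
noncomputable def net21 : Net := (.cons (nat_lit 1) m21_0 (.cons (nat_lit 2) m21_1 (.cons (nat_lit 4) m21_2 (.cons (nat_lit 8) m21_3 (.cons (nat_lit 16) m21_4 (.cons (nat_lit 32) m21_5 (.cons (nat_lit 64) m21_6 (.cons (nat_lit 128) m21_7 (.cons (nat_lit 256) m21_8 (.cons (nat_lit 128) m21_9 (.cons (nat_lit 64) m21_10 (.cons (nat_lit 32) m21_11 (.cons (nat_lit 16) m21_12 (.cons (nat_lit 8) m21_13 (.cons (nat_lit 4) m21_14 (.cons (nat_lit 2) m21_15 (.cons (nat_lit 1) m21_16 .nil)))))))))))))))))
theorem valid21 : net21.Valid 275 := valid_of_validB _ (by decide +kernel)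
noncomputable def m22_0 : Nat := (nat_lit 0x105410414140050140044004014154504050444014100410015414144450104011000)
noncomputable def m22_1 : Nat := (nat_lit 0x120012332030103203301022323233223311030202323233200322200033231212100)
noncomputable def m22_2 : Nat := (nat_lit 0x2030e03070900050d07010c0a050706020109040d0e0d03040b0d030d000c080900)
noncomputable def m22_3 : Nat := (nat_lit 0xc6004a0047001e00a900300034000d00bc0013003c00cb006d00aa00eb00440080)
noncomputable def m22_4 : Nat := (nat_lit 0x3000055490000984100000b7a00009b670000e1170000376e000012220000ece0)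
noncomputable def m22_5 : Nat := (nat_lit 0x743db5a00000000032dd1afb00000000032144830000000021616640)
noncomputable def m22_6 : Nat := (nat_lit 0x857bce265ac6a9ce0000000000000000a13440c2478ff521)
noncomputable def m22_7 : Nat := (nat_lit 0x18c88114002000020000000000052de0)
noncomputable def m22_8 : Nat := (nat_lit 0x56de1)
noncomputable def m22_9 : Nat := (nat_lit 0x52de0)
noncomputable def m22_10 : Nat := (nat_lit 0x488004000429c200000000000000000000000000004001)
noncomputable def m22_11 : Nat := (nat_lit 0x8625a7bc0000000008c9082200000000e22344430000000000004000)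
noncomputable def m22_12 : Nat := (nat_lit 0x10000531800004ac500000162000088670000e1170000958a0000a2e200000000)
noncomputable def m22_13 : Nat := (nat_lit 0xc6005a0013008e007500a8002c001d0084000300f40012008d0022004000800000)
noncomputable def m22_14 : Nat := (nat_lit 0x2030203030d0405090901040a010306020109040d080c06000d09030d00080e0c00)
noncomputable def m22_15 : Nat := (nat_lit 0x120012332030103203301022323233223311030202322233200322210332231202100)
noncomputable def m22_16 : Nat := (nat_lit 0x105410414140050140044004014154504050444014104410015414144150004001000)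
noncomputable def net22 : Net := (.cons (nat_lit 1) m22_0 (.cons (nat_lit 2) m22_1 (.cons (nat_lit 4) m22_2 (.cons (nat_lit 8) m22_3 (.cons (nat_lit 16) m22_4 (.cons (nat_lit 32) m22_5 (.cons (nat_lit 64) m22_6 (.cons (nat_lit 128) m22_7 (.cons (nat_lit 256) m22_8 (.cons (nat_lit 128) m22_9 (.cons (nat_lit 64) m22_10 (.cons (nat_lit 32) m22_11 (.cons (nat_lit 16) m22_12 (.cons (nat_lit 8) m22_13 (.cons (nat_lit 4) m22_14 (.cons (nat_lit 2) m22_15 (.cons (nat_lit 1) m22_16 .nil)))))))))))))))))
theorem valid22 : net22.Valid 275 := valid_of_validB _ (by decide +kernel)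
noncomputable def m23_0 : Nat := (nat_lit 0x55410110415545051500010414514440540515414151055411450010110555510500)
noncomputable def m23_1 : Nat := (nat_lit 0x10100310231231113201230210221010201001201110211012120011102003333020)
noncomputable def m23_2 : Nat := (nat_lit 0x4060e060f050b0c0c060d02000a060e09020203040206020908050a00040a010d08)
noncomputable def m23_3 : Nat := (nat_lit 0xcf00b1008c00080046000900aa003e00d900fa004600ac000a004c008200b80008)
noncomputable def m23_4 : Nat := (nat_lit 0x70000926900006a02000041f50000273900005c16000066a10000e6cd00008d84)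
noncomputable def m23_5 : Nat := (nat_lit 0x49e3369000000000e5dbea6600000000e61a06800000000037272b7a)
noncomputable def m23_6 : Nat := (nat_lit 0x71abcd238f5f48da0000000000000000fa1e056120e4ca3e)
noncomputable def m23_7 : Nat := (nat_lit 0x100480200000000000000000007f7ef)
noncomputable def m23_8 : Nat := (nat_lit 0x7f7ef)
noncomputable def m23_9 : Nat := (nat_lit 0x7f7ef)
noncomputable def m23_10 : Nat := (nat_lit 0x10048020003f60000000000000000000000000000000000)
noncomputable def m23_11 : Nat := (nat_lit 0x97e523b000000000010169ee00000000820884010000000000000000)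
noncomputable def m23_12 : Nat := (nat_lit 0x50000018d00008e4d0000034d0000252000005c160000aec40000c54300000000)
noncomputable def m23_13 : Nat := (nat_lit 0x6f0043009100ef00a9009b000a0012004900220058000500cb00c4004d00820000)
noncomputable def m23_14 : Nat := (nat_lit 0xb0404050408070d080507010e00010f000200020808060201040000040e0c0a0900)
noncomputable def m23_15 : Nat := (nat_lit 0x31023020213030203320210131200003031000001200331110033012311103113222)
noncomputable def m23_16 : Nat := (nat_lit 0x144115551515401401051115101415505404555014541040055444144011404051504)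
noncomputable def net23 : Net := (.cons (nat_lit 1) m23_0 (.cons (nat_lit 2) m23_1 (.cons (nat_lit 4) m23_2 (.cons (nat_lit 8) m23_3 (.cons (nat_lit 16) m23_4 (.cons (nat_lit 32) m23_5 (.cons (nat_lit 64) m23_6 (.cons (nat_lit 128) m23_7 (.cons (nat_lit 256) m23_8 (.cons (nat_lit 128) m23_9 (.cons (nat_lit 64) m23_10 (.cons (nat_lit 32) m23_11 (.cons (nat_lit 16) m23_12 (.cons (nat_lit 8) m23_13 (.cons (nat_lit 4) m23_14 (.cons (nat_lit 2) m23_15 (.cons (nat_lit 1) m23_16 .nil)))))))))))))))))
theorem valid23 : net23.Valid 275 := valid_of_validB _ (by decide +kernel)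
noncomputable def m24_0 : Nat := (nat_lit 0x115515055104000550115550014015555005400504040111551145440140104441050)
noncomputable def m24_1 : Nat := (nat_lit 0x132320013132311022112331113200300100133131120321210122111203222312332)
noncomputable def m24_2 : Nat := (nat_lit 0x20c0e09090801080d0d0b0e0a0006040201000f04070806070d060e0f0104000200)
noncomputable def m24_3 : Nat := (nat_lit 0xcd006a00ad00bf00e400c4005000600008002c00f300e000d80082008c00ce00ea)
noncomputable def m24_4 : Nat := (nat_lit 0x1000099e400009de7000043240000c25800002ec300005050000027700000b192)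
noncomputable def m24_5 : Nat := (nat_lit 0x5bcebbac00000000b65c20d00000000039634fb700000000f154a556)
noncomputable def m24_6 : Nat := (nat_lit 0x52deb8be89273f2f000000000000000035e0c69b6a92206c)
noncomputable def m24_7 : Nat := (nat_lit 0x100000000008030000000000063b2c)
noncomputable def m24_8 : Nat := (nat_lit 0x63b2c)
noncomputable def m24_9 : Nat := (nat_lit 0x63b2c)
noncomputable def m24_10 : Nat := (nat_lit 0x10000000063b2f00000000000000000000000000000000)
noncomputable def m24_11 : Nat := (nat_lit 0xdacebfbc0000000000121008000000001b628ed30000000000000000)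
noncomputable def m24_12 : Nat := (nat_lit 0x892000001ab5000092100000001000002e83000007d70000065000000800)
noncomputable def m24_13 : Nat := (nat_lit 0x500d9008d008e0074001100ae00420008000000e7008700fa00d400bc00950000)
noncomputable def m24_14 : Nat := (nat_lit 0x30100000009010a01070c00010f050b000004040e0307050202000f0a03080f0900)
noncomputable def m24_15 : Nat := (nat_lit 0x33222030112122211330222103302112000013010001130331323310123200130100)
noncomputable def m24_16 : Nat := (nat_lit 0x45404114155104101505154500451414400511004040110510104144151105414440)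
noncomputable def net24 : Net := (.cons (nat_lit 1) m24_0 (.cons (nat_lit 2) m24_1 (.cons (nat_lit 4) m24_2 (.cons (nat_lit 8) m24_3 (.cons (nat_lit 16) m24_4 (.cons (nat_lit 32) m24_5 (.cons (nat_lit 64) m24_6 (.cons (nat_lit 128) m24_7 (.cons (nat_lit 256) m24_8 (.cons (nat_lit 128) m24_9 (.cons (nat_lit 64) m24_10 (.cons (nat_lit 32) m24_11 (.cons (nat_lit 16) m24_12 (.cons (nat_lit 8) m24_13 (.cons (nat_lit 4) m24_14 (.cons (nat_lit 2) m24_15 (.cons (nat_lit 1) m24_16 .nil)))))))))))))))))
theorem valid24 : net24.Valid 275 := valid_of_validB _ (by decide +kernel)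
noncomputable def m25_0 : Nat := (nat_lit 0x105410414140050140044004014154504050444014100410015414144450104011000)
noncomputable def m25_1 : Nat := (nat_lit 0x120012332030103203301022323233223311030202323233200322200033231212100)
noncomputable def m25_2 : Nat := (nat_lit 0x2030e03070900050d07010c0a050706020109040d0e0d03040b0d030d000c080900)
noncomputable def m25_3 : Nat := (nat_lit 0xc6004a0047001e00a900300034000d00bc0013003c00cb006d00aa00eb00440080)
noncomputable def m25_4 : Nat := (nat_lit 0x3000055490000984100000b7a00009b670000e1170000376e000012220000ece0)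
noncomputable def m25_5 : Nat := (nat_lit 0x743db5a00000000032dd1afb00000000032144830000000021616640)
noncomputable def m25_6 : Nat := (nat_lit 0x857bce265ac6a9ce0000000000000000a13440c2478ff521)
noncomputable def m25_7 : Nat := (nat_lit 0x18c88114002000020000000000052de0)
noncomputable def m25_8 : Nat := (nat_lit 0x56de1)
noncomputable def m25_9 : Nat := (nat_lit 0x52de0)
noncomputable def m25_10 : Nat := (nat_lit 0x488004000429c200000000000000000000000000004001)
noncomputable def m25_11 : Nat := (nat_lit 0x8625a7bc0000000008c9082200000000e22344430000000000004000)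
noncomputable def m25_12 : Nat := (nat_lit 0x10000531800004ac500000162000088670000e1170000958a0000a2e200000000)
noncomputable def m25_13 : Nat := (nat_lit 0xc6005a0013008e007500a8002c001d0084000300f40012008d0022004000800000)
noncomputable def m25_14 : Nat := (nat_lit 0x2030203030d0405090901040a010306020109040d080c06000d09030d00080e0c00)
noncomputable def m25_15 : Nat := (nat_lit 0x120012332030103203301022323233223311030202322233200322210332231202100)
noncomputable def m25_16 : Nat := (nat_lit 0x105410414140050140044004014154504050444014104410015414144150004001000)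
noncomputable def net25 : Net := (.cons (nat_lit 1) m25_0 (.cons (nat_lit 2) m25_1 (.cons (nat_lit 4) m25_2 (.cons (nat_lit 8) m25_3 (.cons (nat_lit 16) m25_4 (.cons (nat_lit 32) m25_5 (.cons (nat_lit 64) m25_6 (.cons (nat_lit 128) m25_7 (.cons (nat_lit 256) m25_8 (.cons (nat_lit 128) m25_9 (.cons (nat_lit 64) m25_10 (.cons (nat_lit 32) m25_11 (.cons (nat_lit 16) m25_12 (.cons (nat_lit 8) m25_13 (.cons (nat_lit 4) m25_14 (.cons (nat_lit 2) m25_15 (.cons (nat_lit 1) m25_16 .nil)))))))))))))))))
theorem valid25 : net25.Valid 275 := valid_of_validB _ (by decide +kernel)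
noncomputable def m26_0 : Nat := (nat_lit 0x114450454104545115100451111105515000000015400551151004504100111405100)
noncomputable def m26_1 : Nat := (nat_lit 0x12320000230310133332223232022010020121003023123013333020320320303000)
noncomputable def m26_2 : Nat := (nat_lit 0xa010f07080c0f070e080e02090d050f0f000003040b050400050d03000604080900)
noncomputable def m26_3 : Nat := (nat_lit 0xd000d7006500f6007600660031001a0090002400f100c7002900cb001500c40080)
noncomputable def m26_4 : Nat := (nat_lit 0x60000dbe60000c32300003405000016f10000fc9f000028cf000021770000f4a0)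
noncomputable def m26_5 : Nat := (nat_lit 0x8588ef5400000000d77587980000000010af717d000000007459e740)
noncomputable def m26_6 : Nat := (nat_lit 0xc02015fbaebae48e00000000000000008c35715cf3038cd1)
noncomputable def m26_7 : Nat := (nat_lit 0x300888200205008000000000007ffe6)
noncomputable def m26_8 : Nat := (nat_lit 0x7fff7)
noncomputable def m26_9 : Nat := (nat_lit 0x7ffe6)
noncomputable def m26_10 : Nat := (nat_lit 0x820022e4ca00000000000000000000000000000011)
noncomputable def m26_11 : Nat := (nat_lit 0x588ed54000000000221078c000000001422711d0000000000009000)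
noncomputable def m26_12 : Nat := (nat_lit 0x96e40000831000005011000014e00000dc9f00004cc90000446000000000)
noncomputable def m26_13 : Nat := (nat_lit 0x940093006500f2007600620021005a0084002000e50043003800da000000540000)
noncomputable def m26_14 : Nat := (nat_lit 0xa050e0708080f070e080e060d0d050b0f000003040b040401050d00000604080800)
noncomputable def m26_15 : Nat := (nat_lit 0x12320000230310133312023232022010020121003023123013333020320320303000)
noncomputable def m26_16 : Nat := (nat_lit 0x114450454104541115100451111105515000000015400551051004504100110405100)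
noncomputable def net26 : Net := (.cons (nat_lit 1) m26_0 (.cons (nat_lit 2) m26_1 (.cons (nat_lit 4) m26_2 (.cons (nat_lit 8) m26_3 (.cons (nat_lit 16) m26_4 (.cons (nat_lit 32) m26_5 (.cons (nat_lit 64) m26_6 (.cons (nat_lit 128) m26_7 (.cons (nat_lit 256) m26_8 (.cons (nat_lit 128) m26_9 (.cons (nat_lit 64) m26_10 (.cons (nat_lit 32) m26_11 (.cons (nat_lit 16) m26_12 (.cons (nat_lit 8) m26_13 (.cons (nat_lit 4) m26_14 (.cons (nat_lit 2) m26_15 (.cons (nat_lit 1) m26_16 .nil)))))))))))))))))
theorem valid26 : net26.Valid 275 := valid_of_validB _ (by decide +kernel)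
noncomputable def m27_0 : Nat := (nat_lit 0x150454540101504455444105400145041404104411405405044044400555000501510)
noncomputable def m27_1 : Nat := (nat_lit 0x101123123332323312112012122333103201331222121021121211000303122202330)
noncomputable def m27_2 : Nat := (nat_lit 0xd070400080501000b080d040b070901010a0c060a0a0801020b0c000a04080b0e04)
noncomputable def m27_3 : Nat := (nat_lit 0xd20013000100bc00d0001a00ca002600d800cf00d100a6003900d800ab00eb0038)
noncomputable def m27_4 : Nat := (nat_lit 0x60000fdd50000a25c00002a49000007e90000cf1e0000a67d0000ee6700000420)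
noncomputable def m27_5 : Nat := (nat_lit 0xdd0299db00000000d825d1da00000000c24c11c20000000043c2b3e4)
noncomputable def m27_6 : Nat := (nat_lit 0x676fd524fa5f6ae500000000000000004e5809a24722eadc)
noncomputable def m27_7 : Nat := (nat_lit 0x21c00000000000000000000006fbff)
noncomputable def m27_8 : Nat := (nat_lit 0x6fbff)
noncomputable def m27_9 : Nat := (nat_lit 0x6fbff)
noncomputable def m27_10 : Nat := (nat_lit 0x21c0000004ea2400000000000000000000000000000000)
noncomputable def m27_11 : Nat := (nat_lit 0x9053b80000000000025d1ba00000000094221020000000000000000)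
noncomputable def m27_12 : Nat := (nat_lit 0x300005a130000a358000061e4000022610000cf1e0000e55c0000b08400000000)
noncomputable def m27_13 : Nat := (nat_lit 0xcf00dd00e9009600c1009c006b006700c00008009e002c00fc0051009d00040000)
noncomputable def m27_14 : Nat := (nat_lit 0xb00080704060f08060c0c0106030200010c000002010e0b0c0c08070c0502050800)
noncomputable def m27_15 : Nat := (nat_lit 0x10103213020303120312312020001002201000020020221323300310202222033210)
noncomputable def m27_16 : Nat := (nat_lit 0x150050111400050401114044140000150001001454040110500050455541050550150)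
noncomputable def net27 : Net := (.cons (nat_lit 1) m27_0 (.cons (nat_lit 2) m27_1 (.cons (nat_lit 4) m27_2 (.cons (nat_lit 8) m27_3 (.cons (nat_lit 16) m27_4 (.cons (nat_lit 32) m27_5 (.cons (nat_lit 64) m27_6 (.cons (nat_lit 128) m27_7 (.cons (nat_lit 256) m27_8 (.cons (nat_lit 128) m27_9 (.cons (nat_lit 64) m27_10 (.cons (nat_lit 32) m27_11 (.cons (nat_lit 16) m27_12 (.cons (nat_lit 8) m27_13 (.cons (nat_lit 4) m27_14 (.cons (nat_lit 2) m27_15 (.cons (nat_lit 1) m27_16 .nil)))))))))))))))))
theorem valid27 : net27.Valid 275 := valid_of_validB _ (by decide +kernel)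

end Cfsg.Agent.Lib.McR
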