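import Cfsg.Agent.Lib.Rk3Iso
import Cfsg.Agent.Lib.McRN0

set_option autoImplicit false
set_option maxRecDepth 100000
set_option Elab.async false

namespace Cfsg.Agent.Lib.McR
open Cfsg.Agent.Lib.PermNet Cfsg.Agent.Lib.Words Cfsg.Agent.Lib.PermGroup Cfsg.Agent.Lib.Rk3Aut Cfsg.Agent.Lib.Rk3Emb
  Cfsg.Agent.Lib.Rk3PH Cfsg.Agent.Lib.Rk3Iso

noncomputable def nets : NL := (.cons net0 (.cons net1 (.cons net2 (.cons net3 (.cons net4 (.cons net5 (.cons net6 (.cons net7 (.cons net8 (.cons net9 (.cons net10 (.cons net11 (.cons net12 (.cons net13 (.cons net14 (.cons net15 (.cons net16 (.cons net17 (.cons net18 (.cons net19 (.cons net20 (.cons net21 (.cons net22 (.cons net23 (.cons net24 (.cons net25 (.cons net26 (.cons net27 .nil))))))))))))))))))))))))))))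

theorem hv : nets.Valid 275 := ⟨valid0, ⟨valid1, ⟨valid2, ⟨valid3, ⟨valid4, ⟨valid5, ⟨valid6, ⟨valid7, ⟨valid8, ⟨valid9, ⟨valid10, ⟨valid11, ⟨valid12, ⟨valid13, ⟨valid14, ⟨valid15, ⟨valid16, ⟨valid17, ⟨valid18, ⟨valid19, ⟨valid20, ⟨valid21, ⟨valid22, ⟨valid23, ⟨valid24, ⟨valid25, ⟨valid26, ⟨valid27, trivial⟩⟩⟩⟩⟩⟩⟩⟩⟩⟩⟩⟩⟩⟩⟩⟩⟩⟩⟩⟩⟩⟩⟩⟩⟩⟩⟩⟩

def rels0 : List (List Nat × List Nat) := [([19, 3, 8, 5], []),
  ([21, 16, 14, 16], []),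
  ([23, 2, 2, 4, 4, 6, 8, 8, 10, 12, 12], []),
  ([25, 2, 2, 4, 6, 12, 12], []),
  ([27, 8, 10, 10, 12, 12], []),
  ([29, 8, 8, 10, 10, 12, 12], []),
  ([31, 19, 14, 19, 16, 14], []),
  ([33, 12, 1, 7, 4, 8, 4, 14, 5, 9, 5], []),
  ([34, 34, 34], []),
  ([36, 36, 36, 36, 36], []),
  ([38, 38, 38, 38, 38], []),
  ([16, 12, 14, 0, 2, 16, 12, 14, 0, 2, 16, 12, 14, 0, 2, 16, 12, 14, 0, 2, 16, 12, 14, 0, 2, 16, 12, 14, 0, 2, 16, 12, 14, 0, 2], []),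
  ([45, 38, 35], []),
  ([47, 36, 34, 37], []),
  ([49, 37, 34, 36], []),
  ([51, 44], []),
  ([53, 47, 48, 44, 49, 46], []),
  ([55, 48, 46, 48, 47, 48], []),
  ([1, 50, 52, 54, 50, 52, 54, 52, 55, 52], []),
  ([3, 52, 54, 52, 54, 50, 52, 55, 50, 52, 50, 54, 50], []),
  ([5, 54, 50, 52, 54, 54, 52, 55, 50, 52], []),
  ([7, 50, 55, 50, 55, 50, 55], []),
  ([9, 54, 54, 52, 50, 55, 52, 54, 50, 52], []),
  ([11, 50, 55, 50, 54, 52, 54, 50, 52, 50, 54, 52], []),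
  ([13, 54, 54, 50, 55, 50, 55, 50, 54], []),
  ([15, 55, 52, 54, 50, 55, 50, 52, 54, 54, 50], []),
  ([17, 48, 47, 52, 50, 55, 52, 54, 50, 52, 54, 50, 55, 52], []),
  ([0], [0]),
  ([2], [4, 3, 3, 5]),
  ([4], [2, 5, 3, 5]),
  ([6], [6]),
  ([8], [10, 9, 9, 11]),
  ([10], [8, 11, 9, 11]),
  ([12], [12]),
  ([14], [14, 1, 0]),
  ([16], [16]),
  ([42, 0, 43], [0]),
  ([42, 2, 43], [4, 3, 4, 2]),
  ([42, 4, 43], [4, 3, 3, 5]),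
  ([42, 6, 43], [6]),
  ([42, 8, 43], [10, 9, 10, 8]),
  ([42, 10, 43], [10, 9, 9, 11]),
  ([42, 12, 43], [12]),
  ([42, 14, 43], [14, 1, 1]),
  ([42, 16, 43], [16])]
def rels : List (List Nat × List Nat) := rels0

def defs : List (List Nat) := [[3, 8, 5], [16, 14, 16], [2, 2, 4, 4, 6, 8, 8, 10, 12, 12], [2, 2, 4, 6, 12, 12], [8, 10, 10, 12, 12], [8, 8, 10, 10, 12, 12], [19, 14, 19, 16, 14], [12, 1, 7, 4, 8, 4, 14, 5, 9, 5]]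


def hs : List (List ℕ) := [[0], [2], [4], [6], [8], [10], [12], [14], [16]]

def Kc : List (List ℕ) := [[14], [18], [20]]

def L2 : List (List ℕ) := [[14, 0], [2, 5, 10, 9, 2, 4], [16, 14, 0, 16]]

def ls : List (List ℕ) := [[34], [36], [38]]

def us : List (List ℕ) := [[2], [4], [6], [8], [10], [12]]

def P1 : List (List ℕ) := [[0], [2], [4], [6], [8], [10], [12], [14]]

def L3 : List (List ℕ) := [[14, 1, 0], [4, 2, 2, 5, 10, 9, 9, 11, 4, 2, 4, 3], [16, 14, 1, 0, 16]]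

def phcP : PC := [(15, 7, [], [])]

def phcR : PC := [(11, 3, [12], [[24, 26, 26, 28], [26, 12, 12], [28], [12]]),
  (12, 3, [12], [[26], [28, 12, 12], [12]]),
  (13, 3, [], [[28], [12]]),
  (14, 3, [], [[12]]),
  (6, 3, [], [])]

def phcS : List (List ℕ × Cert) := [([22, 24, 24, 28, 28], .good 0 [26, 16, 0] [[0, 2, 2, 1, 3, 3, 0, 3, 1, 3, 3, 0], [2, 2, 1, 2, 2, 1, 3, 0], [2, 0, 2, 2, 0, 2, 0, 3, 1, 2, 2, 0]]),
  ([22, 24, 24, 26, 28, 28, 12], .good 1 [20, 6] [[1, 3, 0, 3, 1, 3, 0, 2, 0], [2, 1, 3, 3, 0, 3, 1, 3, 0, 3, 1], [3, 3, 1, 3, 0, 3, 1, 3, 3, 1]]),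
  ([22, 22, 24, 12, 12], .good 1 [20, 6] [[0, 3, 0, 2, 1, 2, 0, 2, 1], [2, 0, 3, 3, 0, 2, 1, 2, 0, 3, 0], [3, 3, 0, 3, 1, 3, 0, 3, 3, 0]]),
  ([22, 22, 24, 26, 12], .good 0 [26, 16, 0] [[0, 2, 2, 1, 2, 0, 2, 2, 1, 3, 3, 0], [2, 2, 0, 2, 2, 0, 3, 1], [2, 1, 3, 0, 2, 1, 2, 1, 2, 0, 2, 0]])]

def phcL : List (List (List ℕ)) := [Kc, L2]

noncomputable def phcF : List ℕ → Bool := nwB nets 3 (nat_lit 0x4dd1b1d934c433734b2dc6ea822f72ea2f4910c27964d001dec683f5319bf213dfd32) 113 162 14 (pcG phcP) [0, 1, 1, 1] phcS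

def sb : List ℕ := [8, 3, 7, 8, 0, 1, 2, 8, 7, 8, 0, 3, 0, 0]

def sc : List ℕ := [0, 1, 2, 6, 8, 3, 0, 2, 1, 0]

def ol1 : List (ℕ × List ℕ) := [(113, []), (114, [0, 1, 2, 1, 0, 1, 2, 1, 0, 2, 1, 1]), (134, [1, 2, 0, 1, 0, 2, 1, 1, 0, 2, 1, 1])]

def ol2 : List (ℕ × List ℕ) := [(113, []), (114, [0, 2, 1, 0, 2, 1, 0, 2, 1, 0, 2, 1]), (134, [2, 1, 0, 2, 1, 0, 2, 1, 0, 1, 2, 1])]

def ol3 : List (ℕ × List ℕ) := [(1, []), (2, [2, 2]), (5, [0, 1, 5, 0, 1, 5]), (6, [0, 1, 2, 3, 4, 0, 2, 0])]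

def rwA : List (List ℕ × List ℕ × List ℕ) := [([], [34, 22, 38], [35, 4, 29]), ([42], [34, 22, 38], [35, 16, 27])]

def rwN : List (List ℕ × ℕ × ℕ) := [([], 1, 113), ([30], 17, 136)]

def ol4 : List (ℕ × List ℕ) := [(0, []), (1, []), (2, [0, 7, 1, 2, 0, 2, 3, 1]), (6, [0, 1, 2, 3, 6, 0, 5, 3]), (113, [0, 1, 2, 6, 0, 3, 5, 0]), (123, [0, 1, 2, 3, 6, 7, 0, 2])]

def ol5 : List (ℕ × List ℕ) := [(0, []), (1, [2, 1, 0, 1, 0, 1, 2, 0, 1, 2, 0, 1, 1]), (3, [0, 2, 1, 0, 1, 0, 1, 2, 1, 1, 0, 1, 0]), (113, []), (114, [0, 1, 2, 1, 0, 1, 2, 1, 0, 2, 1, 1]), (134, [1, 2, 0, 1, 0, 2, 1, 1, 0, 2, 1, 1])]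

def ol6 : List (ℕ × List ℕ) := [(1, []), (2, [0, 7, 1, 2, 0, 2, 3, 1]), (6, [0, 1, 2, 3, 6, 0, 5, 3])]

def prog : List Ins := [.fix 0 0 275, .row 0 [], .dif 2 0, .dif 0 2, .fix 0 113 162, .row 0 [35, 4, 29],
  .dif 6 4, .dif 0 1, .dif 0 7, .dif 0 4, .fix 0 114 105, .row 0 [35, 25],
  .and 12 10, .and 0 7, .and 0 2, .fix 0 1 32, .row 0 [34, 22, 38], .and 17 15,
  .and 0 1, .and 0 13, .dif 0 8, .fix 0 2 6, .row 0 [35, 4, 17, 36], .and 23 17,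
  .and 0 7, .and 0 2, .dif 0 14, .row 0 [35, 8], .and 28 16, .and 0 12,
  .dif 0 28, .dif 0 8, .dif 0 26, .dif 0 5, .row 0 [37, 7], .and 35 33,
  .and 0 19, .and 0 14, .dif 0 26, .row 0 [34, 3, 38], .and 40 34, .and 0 13,
  .dif 0 40, .and 0 31, .and 0 9, .dif 0 28, .row 0 [37, 31], .and 47 45,
  .and 0 31, .and 0 21, .and 0 3, .dif 0 39, .dif 0 17, .row 0 [37, 38, 19],
  .and 54 52, .and 0 15, .dif 0 44, .and 0 22, .and 0 11, .row 0 [35, 33, 38],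
  .and 60 54, .and 0 14, .dif 0 60, .dif 0 46, .dif 0 41, .row 0 [35, 16, 29],
  .and 66 64, .and 0 50, .and 0 62, .and 0 57, .and 0 23, .fix 0 27 2,
  .row 0 [35, 7, 39], .and 73 71, .and 0 51, .and 0 69, .and 0 16, .and 0 4,
  .row 0 [35, 9, 35], .and 79 62, .and 0 57, .dif 0 21, .dif 0 47, .and 0 17,
  .and 0 5, .row 0 [35, 36], .and 86 84, .and 0 47, .and 0 22, .and 0 83,
  .dif 0 36, .and 0 18, .row 0 [35, 38, 36], .and 93 81, .and 0 77, .and 0 72,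
  .and 0 42, .dif 0 50, .dif 0 25, .row 0 [36, 24], .and 100 98, .and 0 47,
  .dif 0 67, .and 0 10, .and 0 98, .row 0 [34, 23, 34], .and 106 104, .and 0 47,
  .and 0 102, .dif 0 97, .and 0 37, .row 0 [37, 38, 30], .keep [110, 106, 100, 95, 33, 26, 0, 6, 65, 77, 58, 72, 19, 84, 46, 12, 52]]

def prog2 : List Ins := [.row 1 [], .dif 3 0, .dif 0 3, .fix 0 113 162, .row 0 [35, 4, 29], .and 7 5,
  .and 0 1, .fix 0 1 2, .row 0 [34, 22, 38], .and 11 9, .and 0 5, .and 0 2,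
  .row 0 [35, 4, 17, 36], .and 15 12, .and 0 9, .dif 0 6, .dif 0 3, .fix 0 7 36,
  .row 0 [34, 30, 39], .and 21 14, .and 0 11, .and 0 8, .and 0 3, .row 0 [35, 8],
  .and 26 24, .and 0 6, .row 0 [34, 3, 38], .and 29 26, .and 0 9, .and 0 24,
  .and 0 6, .row 0 [35, 38, 37], .and 34 31, .and 0 14, .and 0 7, .dif 0 30,
  .row 0 [35, 21, 37], .and 39 24, .dif 0 19, .dif 0 38, .dif 0 13, .dif 0 32,
  .dif 0 37, .dif 0 19, .row 0 [35, 1, 16], .and 47 21, .and 0 9, .and 0 20,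
  .dif 0 43, .dif 0 17, .row 0 [35, 16, 31], .and 53 46, .and 0 39, .and 0 34,
  .dif 0 17, .dif 0 54, .dif 0 29, .row 0 [34, 26], .and 60 57, .and 0 50,
  .and 0 55, .and 0 42, .fix 0 5 2, .row 0 [35, 1, 12, 39], .and 66 55, .and 0 1,
  .and 0 47, .dif 0 54, .dif 0 10, .dif 0 45, .row 0 [37, 4], .and 73 58,
  .and 0 48, .and 0 46, .and 0 16, .dif 0 43, .and 0 5, .row 0 [35, 1, 21],
  .and 80 73, .and 0 70, .dif 0 35, .dif 0 30, .dif 0 55, .dif 0 5,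
  .row 0 [37, 16], .and 87 84, .and 0 67, .and 0 82, .dif 0 43, .dif 0 4,
  .row 0 [35, 6, 37], .and 93 90, .and 0 65, .and 0 42, .dif 0 9, .and 0 71,
  .row 0 [35, 33, 38], .and 99 88, .and 0 74, .and 0 67, .and 0 63, .dif 0 74,
  .dif 0 38, .row 0 [37, 28], .keep [103, 99, 95, 85, 33, 7, 26, 59, 19, 80, 13, 46, 53, 91, 0, 72, 40]]

def ws7 : List (List ℕ) := [[14], [4, 8, 4], [6, 0, 13]]

def ws8 : List (List ℕ) := [[14], [32]]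

def sigW : List (List ℕ × List ℕ) := [([], [37, 23, 36]),
  ([34, 22, 38], [36, 25]),
  ([35, 4, 17, 36], [34, 10]),
  ([34, 3, 38], [36, 38, 4]),
  ([35, 10, 36, 15], [34, 38]),
  ([35, 1, 12, 39], [35, 26, 35]),
  ([35, 3, 35], [39, 39]),
  ([34, 30, 39], [35, 0, 38]),
  ([35, 1, 35, 12], [37, 7]),
  ([34, 0, 34], [34, 11]),
  ([34, 6, 35], [39, 0]),
  ([35, 21, 37], [35]),
  ([34, 16, 38], [35, 6, 34]),
  ([35, 10, 36], [34, 16]),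
  ([35, 12, 39], [34, 25, 38]),
  ([35, 1, 35, 7], [35, 12]),
  ([35, 1, 35], [34, 29]),
  ([39, 36, 1], [35, 1, 35, 7]),
  ([34, 13, 39], [35, 1, 21]),
  ([35, 38, 36], [39, 28]),
  ([34, 19, 37], [35, 37]),
  ([36, 38, 10], []),
  ([39, 36], [34, 0, 34]),
  ([35, 16, 38], [34, 13, 35]),
  ([35, 10, 39], [35, 33, 38]),
  ([35, 2, 35], [37, 38]),
  ([37, 38, 30], [35, 7, 31]),
  ([35, 7, 39], [35, 16, 28]),
  ([35, 16, 35], [36, 22]),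
  ([35, 38, 37], [39, 37]),
  ([34, 22, 36], [35, 1, 22]),
  ([35, 12, 37], [35, 33]),
  ([39, 36, 0], [35, 21, 26]),
  ([37, 5, 35], [35, 21, 13]),
  ([35, 22, 35], [35, 4, 38]),
  ([34, 13, 37], [35, 3, 23]),
  ([39, 37, 12], [37, 25]),
  ([37, 7, 39], [35, 24]),
  ([39, 37, 4], [35, 2, 21]),
  ([37, 38], [35, 3, 35]),
  ([35, 22, 36], [37, 9]),
  ([35, 3, 39], [36, 25, 39]),
  ([36, 38], [35, 23]),
  ([34, 1, 39], [35, 21, 11]),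
  ([35, 8, 37], [34, 24]),
  ([34, 1, 36], [35, 22, 31]),
  ([37, 5, 39], [35, 0]),
  ([35, 9, 36], [35, 1, 26]),
  ([34, 25, 38], [35, 26, 37]),
  ([35, 26, 35], [35, 4, 29]),
  ([34, 13, 36], [35, 6, 35]),
  ([37, 26, 37], [35, 16, 19]),
  ([34, 31, 39], [35, 38]),
  ([35, 8, 36], [37, 26]),
  ([34, 7, 34], [34, 25]),
  ([34, 13, 35], [35, 10, 36, 15]),
  ([34, 1, 38], [35, 1, 30]),
  ([34, 1, 35], [35, 38, 36]),
  ([35, 3, 37], [36, 24]),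
  ([39, 36, 30], [34, 19]),
  ([35, 4, 38], [34, 17]),
  ([35, 1, 39, 7], [35, 17, 23]),
  ([35, 8, 35], [35, 3, 34]),
  ([34, 30, 34], [35, 2, 23]),
  ([37, 3, 35], [34, 31, 35]),
  ([35, 6, 34], [37, 15]),
  ([35, 10, 35], [37, 38, 21]),
  ([34, 38, 37], [35, 36]),
  ([37, 23, 36], [35, 16, 27]),
  ([37, 38, 19], [39, 16]),
  ([35, 6, 37], [35, 1, 12]),
  ([35, 9, 35], [35, 3, 39]),
  ([36, 38, 4], [35, 28]),
  ([34, 11, 34], [39, 36]),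
  ([36, 38, 18], [35, 2]),
  ([35, 1, 38], [35, 5, 16]),
  ([35, 6, 35], [35, 4, 21]),
  ([34, 6, 36], [35, 17, 7]),
  ([35, 23, 38], [34]),
  ([34, 7, 39], [35, 1, 28]),
  ([35, 26, 37], [34, 38, 37]),
  ([35, 2, 36], [34, 37]),
  ([39, 37, 23], [37, 23, 39]),
  ([37, 25, 37], [35, 2, 37]),
  ([35, 16, 39], [39, 8]),
  ([36, 25, 39], [37, 25, 37]),
  ([34, 6, 39], [35, 16, 7]),
  ([36, 38, 12], [37, 24]),
  ([34, 23, 37], [34, 7]),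
  ([37, 11, 34], [35, 5]),
  ([34, 0, 39], [35, 10, 35]),
  ([37, 38, 21], [35, 0, 3]),
  ([36, 22, 39], [35, 12, 16]),
  ([34, 12, 39], [39, 33]),
  ([36, 38, 26], [35, 39]),
  ([37, 0, 38], [35, 16, 35]),
  ([34, 31, 35], [35, 26]),
  ([35, 7, 36], [35, 38, 37]),
  ([35, 1, 39], [35, 1, 18]),
  ([39, 37, 3], [39]),
  ([34, 23, 35], [34, 33]),
  ([37, 23, 39], [35, 21]),
  ([35, 12, 35], [35, 1, 5]),
  ([37, 7, 36], [35, 6, 31]),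
  ([35, 13, 36], [35, 22, 35]),
  ([34, 23, 34], [35, 8, 30]),
  ([35, 33, 38], [37]),
  ([39, 37, 5], [35, 6, 5]),
  ([35, 7, 35], [35, 8, 35]),
  ([34, 23, 36], [34, 0, 25]),
  ([37, 38, 23], [35, 27]),
  ([35, 7, 34], [35, 1, 39]),
  ([39, 37], [35, 0, 11]),
  ([35, 4, 29], [35, 7, 35]),
  ([35, 25], [37, 11, 34]),
  ([35, 2, 23], [35, 9, 36]),
  ([35, 33], [34, 3, 38]),
  ([37], [37, 4]),
  ([35, 37], [34, 6, 39]),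
  ([35, 0, 11], [37, 26, 37]),
  ([36], [34, 6, 36]),
  ([35, 7, 8], [37, 5, 35]),
  ([37, 4], [35, 0, 31]),
  ([35, 17], [36]),
  ([35, 0], [37, 21]),
  ([35, 22, 17], [34, 1, 35]),
  ([34, 37], [35, 1, 38]),
  ([34], [35, 13, 36]),
  ([34, 25], [35, 8, 37]),
  ([34, 29], [35, 10, 36]),
  ([35, 36], [37, 11]),
  ([35], [35, 2, 36]),
  ([35, 3, 23], [35, 1, 35, 12]),
  ([39, 16], [34, 12]),
  ([35, 17, 7], [35, 6]),
  ([35, 2, 7], [34, 23, 34]),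
  ([35, 16, 29], [34, 0]),
  ([37, 31], [35, 1, 16]),
  ([37, 3], [34, 1, 39]),
  ([35, 21, 26], [35, 33, 21]),
  ([35, 1, 10], [37, 13]),
  ([37, 11], [39, 30]),
  ([37, 9], [35, 1, 39, 7]),
  ([35, 33, 21], [35, 1, 12, 39]),
  ([35, 3, 6], [35, 9, 35]),
  ([36, 24], [34, 12, 39]),
  ([35, 0, 2], [34, 5]),
  ([34, 0, 25], [35, 3]),
  ([37, 13], [34, 22, 38]),
  ([35, 0, 31], [34, 30, 39]),
  ([35, 10], [34, 23, 35]),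
  ([35, 5, 31], [35, 17, 15]),
  ([37, 16], [35, 22, 36]),
  ([34, 16], [34, 3]),
  ([39, 6], [36, 5]),
  ([37, 21], [36, 38, 12]),
  ([39, 26], [35, 16, 31]),
  ([35, 16], [35, 16]),
  ([35, 13], [34, 16, 38]),
  ([35, 12], [39, 22]),
  ([35, 16, 31], [39, 37, 23]),
  ([35, 4, 17], [35, 4, 16]),
  ([35, 17, 23], [34, 13, 37]),
  ([37, 0], [34, 13, 39]),
  ([36, 5], [34, 9]),
  ([35, 4], [34, 4]),
  ([35, 3, 31], [34, 0, 39]),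
  ([37, 5], [34, 22]),
  ([37, 17], [37, 31]),
  ([35, 7], [39, 36, 0]),
  ([34, 9], [35, 2, 17]),
  ([35, 1, 34], [37, 0]),
  ([34, 30], [34, 23]),
  ([35, 1, 26], [36, 22, 39]),
  ([34, 22], [35, 9]),
  ([35, 10, 31], [37, 5, 39]),
  ([35, 1, 12], [39, 26]),
  ([39, 39], [35, 23, 38]),
  ([35, 1, 5], [35, 22, 17]),
  ([36, 12], [34, 1, 38]),
  ([35, 26], [35, 0, 21]),
  ([34, 26], [35, 17]),
  ([39, 22], [34, 1, 24]),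
  ([35, 4, 16], [37, 23]),
  ([35, 7, 30], [37, 0, 38]),
  ([35, 38, 15], [37, 17]),
  ([34, 2], [35, 16, 39]),
  ([35, 4, 21], [36, 12]),
  ([35, 6, 5], [35, 12, 35]),
  ([35, 0, 21], [35, 17, 33]),
  ([34, 6], [35, 16, 29]),
  ([37, 26], [34, 27]),
  ([34, 27], [35, 3, 6]),
  ([34, 4], [35, 2, 35]),
  ([35, 27], [35, 12, 39]),
  ([35, 39, 25], [35, 3, 31]),
  ([35, 3], [35, 7, 8]),
  ([35, 22, 31], [35, 1, 10]),
  ([35, 1, 18], [35, 8]),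
  ([34, 13], [34, 7, 39]),
  ([35, 16, 19], [34, 31]),
  ([35, 8, 34], [37, 28]),
  ([34, 31], [35, 4, 17]),
  ([34, 21], [34, 1]),
  ([34, 1], [34, 6, 35]),
  ([36, 15], [35, 7, 34]),
  ([35, 21, 13], [35, 10, 39]),
  ([37, 7], [34, 6]),
  ([35, 1], [35, 10, 31]),
  ([36, 22], [35, 7, 39]),
  ([35, 2, 38], [37, 16]),
  ([39, 28], [35, 38, 15]),
  ([35, 23], [39, 37, 3]),
  ([35, 5], [35, 13]),
  ([34, 10], [35, 5, 21]),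
  ([34, 12], [35, 0, 2]),
  ([39, 30], [34, 2]),
  ([35, 6], [35, 39, 25]),
  ([34, 8], [35, 7]),
  ([35, 1, 16], [34, 13, 36]),
  ([37, 15], [34, 11, 34]),
  ([35, 9], [39, 36, 30]),
  ([35, 2, 37], [36, 15]),
  ([35, 0, 3], [34, 26]),
  ([35, 5, 16], [35, 2, 38]),
  ([34, 11], [37, 7, 39]),
  ([34, 17], [35, 2, 7]),
  ([34, 24], [36, 21]),
  ([34, 7], [35, 10]),
  ([35, 7, 31], [35, 3, 11]),
  ([35, 3, 11], [37, 7, 36]),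
  ([35, 1, 28], [39, 37, 4]),
  ([35, 17, 33], [35, 1, 35]),
  ([35, 8], [35, 8, 34]),
  ([37, 24], [34, 7, 34]),
  ([35, 1, 22], [36, 38, 10]),
  ([35, 21, 11], [35, 1]),
  ([34, 3], [35, 7, 30]),
  ([39, 33], [37, 38, 30]),
  ([35, 2, 17], [34, 23, 36]),
  ([39, 0], [34, 30]),
  ([36, 21], [35, 4, 17, 36]),
  ([35, 22], [34, 23, 37]),
  ([35, 17, 15], [37, 3, 35]),
  ([37, 28], [35, 16, 38]),
  ([35, 5, 21], [35, 22]),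
  ([35, 6, 31], [34, 31, 39]),
  ([34, 0], [37, 5]),
  ([35, 16, 27], [39, 37, 5]),
  ([34, 1, 24], [36, 38, 18]),
  ([39, 8], [37, 38, 23]),
  ([34, 5], [35, 1, 34]),
  ([35, 12, 16], [35, 3, 37]),
  ([37, 23], [34, 13]),
  ([35, 16, 28], [34, 21]),
  ([35, 38], [35, 12, 37]),
  ([35, 2, 21], [37, 38, 19]),
  ([39], [36, 38]),
  ([34, 38], [34, 19, 37]),
  ([35, 1, 21], [35, 7, 36]),
  ([37, 25], [35, 4]),
  ([34, 19], [35, 21, 37]),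
  ([35, 24], [34, 8]),
  ([36, 25], [34, 1, 36]),
  ([35, 28], [36, 38, 26]),
  ([35, 1, 30], [34, 22, 36]),
  ([35, 8, 30], [39, 36, 1]),
  ([34, 23], [35, 5, 31]),
  ([35, 0, 38], [35, 6, 37]),
  ([35, 16, 7], [35, 8, 36]),
  ([35, 2], [39, 37, 12]),
  ([34, 33], [37, 3]),
  ([35, 3, 34], [35, 25]),
  ([35, 21], [39, 6]),
  ([35, 39], [34, 30, 34])]

def R : List (List ℕ × List ℕ) := [([0, 0, 0, 0], []),
  ([2, 0], [0, 4]),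
  ([4, 0], [0, 2, 2]),
  ([6, 0], [0, 6, 6]),
  ([8, 0], [0, 10, 10]),
  ([10, 0], [0, 8]),
  ([12, 0], [0, 12, 12]),
  ([2, 2, 2], []),
  ([4, 2], [2, 4]),
  ([6, 2], [2, 6, 10, 10, 12]),
  ([8, 2], [2, 8]),
  ([10, 2], [2, 10, 12]),
  ([12, 2], [2, 12]),
  ([4, 4, 4], []),
  ([6, 4], [4, 6, 8, 12]),
  ([8, 4], [4, 8, 12, 12]),
  ([10, 4], [4, 10]),
  ([12, 4], [4, 12]),
  ([6, 6, 6], []),
  ([8, 6], [6, 8]),
  ([10, 6], [6, 10]),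
  ([12, 6], [6, 12]),
  ([8, 8, 8], []),
  ([10, 8], [8, 10]),
  ([12, 8], [8, 12]),
  ([10, 10, 10], []),
  ([12, 10], [10, 12]),
  ([12, 12, 12], []),
  ([14, 0], [0, 0, 0, 14]),
  ([14, 6], [12, 14]),
  ([14, 8], [8, 8, 14]),
  ([14, 10], [10, 14]),
  ([14, 12], [6, 14]),
  ([16, 0], [0, 0, 0, 16]),
  ([16, 2], [10, 10, 16]),
  ([16, 4], [8, 16]),
  ([16, 8], [4, 4, 16]),
  ([16, 10], [2, 16]),
  ([16, 12], [12, 16]),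
  ([14, 14], []),
  ([16, 16], [0, 0]),
  ([14, 4, 14], [4, 4, 14, 4, 4]),
  ([14, 4, 4, 14], [4, 14, 4]),
  ([14, 2, 14], [2, 14, 0, 0, 2]),
  ([14, 2, 4, 14], [2, 2, 4, 14, 0, 0, 0, 2, 2, 4]),
  ([14, 2, 4, 4, 14], [2, 2, 4, 4, 14, 0, 2, 2, 4, 4]),
  ([14, 2, 2, 14], [2, 2, 14, 0, 0, 2, 2]),
  ([14, 2, 2, 4, 14], [2, 4, 14, 0, 2, 4]),
  ([14, 2, 2, 4, 4, 14], [2, 4, 4, 14, 0, 0, 0, 2, 4, 4]),
  ([16, 6, 16], [6, 6, 16, 0, 0, 6, 6]),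
  ([16, 6, 6, 16], [6, 16, 6]),
  ([14, 16, 14, 16], [16, 14, 16, 14])]

def W : List (List ℕ) := [[0], [4, 2], [4, 3], [6], [10, 8], [10, 9], [13], [14, 1], [16]]

def V : List (List ℕ) := [[0], [4, 3], [5, 3], [6], [10, 9], [11, 9], [13], [14, 0], [16]]

def D : List (List ℕ) := [[45, 38, 35], [47, 36, 34, 37], [49, 37, 34, 36], [51, 44], [53, 47, 48, 44, 49, 46], [55, 48, 46, 48, 47, 48], [1, 50, 52, 54, 50, 52, 54, 52, 55, 52], [3, 52, 54, 52, 54, 50, 52, 55, 50, 52, 50, 54, 50], [5, 54, 50, 52, 54, 54, 52, 55, 50, 52], [7, 50, 55, 50, 55, 50, 55], [9, 54, 54, 52, 50, 55, 52, 54, 50, 52], [11, 50, 55, 50, 54, 52, 54, 50, 52, 50, 54, 52], [13, 54, 54, 50, 55, 50, 55, 50, 54], [15, 55, 52, 54, 50, 55, 50, 52, 54, 54, 50], [17, 48, 47, 52, 50, 55, 52, 54, 50, 52, 54, 50, 55, 52]]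

def slp : List (ℕ × List ℕ) := [(22, [4, 1]), (23, [2, 0, 3]), (24, [3, 0, 2]), (25, [6]), (26, [9, 10, 6, 11, 8]), (27, [10, 8, 10, 9, 10]), (0, [12, 14, 16, 12, 14, 16, 14, 17, 14]), (1, [14, 16, 14, 16, 12, 14, 17, 12, 14, 12, 16, 12]), (2, [16, 12, 14, 16, 16, 14, 17, 12, 14]), (3, [12, 17, 12, 17, 12, 17]), (4, [16, 16, 14, 12, 17, 14, 16, 12, 14]), (5, [12, 17, 12, 16, 14, 16, 12, 14, 12, 16, 14]), (6, [16, 16, 12, 17, 12, 17, 12, 16]), (7, [17, 14, 16, 12, 17, 12, 14, 16, 16, 12]), (8, [10, 9, 14, 12, 17, 14, 16, 12, 14, 16, 12, 17, 14])]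

def dB : PC := [(0, 4, [], [[4], [2, 2], [6, 6], [10, 10], [8], [12, 12]]),
  (1, 3, [], [[4], [6, 10, 10, 12], [8], [10, 12], [12]]),
  (2, 3, [], [[6, 8, 12], [8, 12, 12], [10], [12]]),
  (3, 3, [], [[8], [10], [12]]),
  (4, 3, [], [[10], [12]]),
  (5, 3, [], [[12]]),
  (6, 3, [], [])]


end Cfsg.Agent.Lib.McR
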