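import Cfsg.Agent.Lib.TCDefs

set_option autoImplicit false
set_option maxRecDepth 100000

namespace Cfsg.Agent.Lib.McTa
open Cfsg.Agent.Lib.TCCore

noncomputable def l0 : T := .leaf (nat_lit 0) (nat_lit 0x790b923a24a21a22a1fa20a1aa1ba0970d60f9154137109fff0cc0ca08a2592492592491f92092592490680d50940ea11a138fff0540570971e81d82182281f81e8238248075079093107129147fff0cc0a80681e71d72172071f71e72372270460aa0f811315814afff0540660561a61961a61961a61961a61960ea057035182143114fff03c0650551c51b51f51e52352251a51b50c9088022046134123fff03c0530531e41d42342241f41e41c41b403316214a0a9126145fff0540640441c31d32132231d31e31a31b3022044127088115136fff054011031042032042032042032042032154033176035042032fff0cc042022021011021011021011021011021011021011021011fff000)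

end Cfsg.Agent.Lib.McTa
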