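import Cfsg.Agent.Lib.McTaD0

set_option autoImplicit false
set_option maxRecDepth 100000

namespace Cfsg.Agent.Lib.McTa
open Cfsg.Agent.Lib.TCCore

noncomputable def tb : T := l0
noncomputable def r0 : WT := (.leaf (nat_lit 46093) [nat_lit 48, nat_lit 48, nat_lit 72, nat_lit 204, nat_lit 84, nat_lit 60, nat_lit 204, nat_lit 48, nat_lit 48, nat_lit 72, nat_lit 192, nat_lit 24, nat_lit 24])
noncomputable def r1 : WT := (.leaf (nat_lit 47115) [nat_lit 48, nat_lit 48, nat_lit 72, nat_lit 72, nat_lit 204, nat_lit 84, nat_lit 84, nat_lit 60, nat_lit 204, nat_lit 48, nat_lit 48, nat_lit 72, nat_lit 72, nat_lit 192])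
noncomputable def r2 : WT := (.leaf (nat_lit 50187) [nat_lit 24, nat_lit 48, nat_lit 72, nat_lit 72, nat_lit 204, nat_lit 84, nat_lit 84, nat_lit 60, nat_lit 60, nat_lit 204, nat_lit 48, nat_lit 72, nat_lit 72, nat_lit 192, nat_lit 24])
noncomputable def w0 : WT := (.node (nat_lit 2) (.node (nat_lit 1) (.leaf (nat_lit 0) [nat_lit 36]) (.leaf (nat_lit 36866) [nat_lit 204, nat_lit 36, nat_lit 36, nat_lit 36, nat_lit 192])) (.node (nat_lit 4) (.node (nat_lit 3) (.leaf (nat_lit 49159) [nat_lit 48, nat_lit 72, nat_lit 204, nat_lit 84, nat_lit 60, nat_lit 60, nat_lit 204, nat_lit 48, nat_lit 72, nat_lit 192]) r0) (.node (nat_lit 5) r1 r2)))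
noncomputable def r3 : WT := (.leaf (nat_lit 50196) [nat_lit 36, nat_lit 204, nat_lit 84, nat_lit 84, nat_lit 60, nat_lit 192, nat_lit 48, nat_lit 48, nat_lit 72, nat_lit 72, nat_lit 192, nat_lit 84, nat_lit 84, nat_lit 60, nat_lit 36])
noncomputable def r4 : WT := (.leaf (nat_lit 50198) [nat_lit 204, nat_lit 84, nat_lit 84, nat_lit 60, nat_lit 192, nat_lit 48, nat_lit 48, nat_lit 72, nat_lit 72, nat_lit 192, nat_lit 84, nat_lit 84, nat_lit 60, nat_lit 36, nat_lit 36])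
noncomputable def w1 : WT := (.node (nat_lit 1) (.leaf (nat_lit 2) [nat_lit 24]) (.node (nat_lit 2) (.leaf (nat_lit 49166) [nat_lit 204, nat_lit 84, nat_lit 60, nat_lit 192, nat_lit 48, nat_lit 48, nat_lit 72, nat_lit 192, nat_lit 84, nat_lit 60]) (.node (nat_lit 3) r3 r4)))
noncomputable def w2 : WT := (.node (nat_lit 1) (.leaf (nat_lit 1024) [nat_lit 60]) (.node (nat_lit 2) (.leaf (nat_lit 15360) [nat_lit 48, nat_lit 48]) (.node (nat_lit 3) (.leaf (nat_lit 16386) [nat_lit 84, nat_lit 60, nat_lit 72]) (.leaf (nat_lit 16385) [nat_lit 72, nat_lit 60, nat_lit 84]))))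
noncomputable def r5 : WT := (.leaf (nat_lit 47118) [nat_lit 60, nat_lit 36, nat_lit 204, nat_lit 84, nat_lit 84, nat_lit 60, nat_lit 60, nat_lit 192, nat_lit 48, nat_lit 72, nat_lit 72, nat_lit 192, nat_lit 84, nat_lit 84])
noncomputable def w3 : WT := (.node (nat_lit 1) (.leaf (nat_lit 1026) [nat_lit 48]) (.node (nat_lit 3) (.node (nat_lit 2) (.leaf (nat_lit 16390) [nat_lit 72, nat_lit 48, nat_lit 84]) (.leaf (nat_lit 16389) [nat_lit 84, nat_lit 48, nat_lit 72])) (.node (nat_lit 4) (.leaf (nat_lit 48136) [nat_lit 60, nat_lit 36, nat_lit 36, nat_lit 204, nat_lit 60, nat_lit 60, nat_lit 192, nat_lit 48, nat_lit 48, nat_lit 192]) r5)))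
noncomputable def w4 : WT := (.node (nat_lit 1) (.leaf (nat_lit 2048) [nat_lit 84]) (.leaf (nat_lit 44033) [nat_lit 192, nat_lit 72, nat_lit 204, nat_lit 84, nat_lit 84, nat_lit 204]))
noncomputable def r6 : WT := (.leaf (nat_lit 47114) [nat_lit 84, nat_lit 60, nat_lit 60, nat_lit 36, nat_lit 204, nat_lit 84, nat_lit 84, nat_lit 60, nat_lit 60, nat_lit 192, nat_lit 48, nat_lit 72, nat_lit 72, nat_lit 192])
noncomputable def w5 : WT := (.node (nat_lit 2) (.node (nat_lit 1) (.leaf (nat_lit 2050) [nat_lit 72]) (.leaf (nat_lit 49162) [nat_lit 60, nat_lit 36, nat_lit 204, nat_lit 84, nat_lit 60, nat_lit 192, nat_lit 48, nat_lit 48, nat_lit 72, nat_lit 192])) (.node (nat_lit 3) (.leaf (nat_lit 43020) [nat_lit 84, nat_lit 192, nat_lit 72, nat_lit 192, nat_lit 84, nat_lit 84, nat_lit 204]) r6))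
noncomputable def w6 : WT := (.node (nat_lit 1) (.leaf (nat_lit 3072) [nat_lit 108]) (.node (nat_lit 2) (.leaf (nat_lit 37890) [nat_lit 204, nat_lit 180, nat_lit 192]) (.node (nat_lit 3) (.leaf (nat_lit 17408) [nat_lit 48, nat_lit 180, nat_lit 156, nat_lit 156, nat_lit 108, nat_lit 60]) (.leaf (nat_lit 11264) [nat_lit 24, nat_lit 108, nat_lit 108, nat_lit 36]))))
noncomputable def w7 : WT := (.node (nat_lit 1) (.leaf (nat_lit 3074) [nat_lit 96]) (.node (nat_lit 2) (.leaf (nat_lit 11273) [nat_lit 24, nat_lit 96, nat_lit 96, nat_lit 36]) (.node (nat_lit 3) (.leaf (nat_lit 22539) [nat_lit 72, nat_lit 96, nat_lit 120, nat_lit 168, nat_lit 84]) (.leaf (nat_lit 17421) [nat_lit 48, nat_lit 96, nat_lit 144, nat_lit 144, nat_lit 168, nat_lit 60]))))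
noncomputable def w8 : WT := (.node (nat_lit 2) (.node (nat_lit 1) (.leaf (nat_lit 4096) [nat_lit 132]) (.leaf (nat_lit 18432) [nat_lit 48, nat_lit 132, nat_lit 60])) (.node (nat_lit 3) (.leaf (nat_lit 38914) [nat_lit 204, nat_lit 132, nat_lit 132, nat_lit 192]) (.node (nat_lit 4) (.leaf (nat_lit 18435) [nat_lit 60, nat_lit 132, nat_lit 48]) (.leaf (nat_lit 12288) [nat_lit 24, nat_lit 156, nat_lit 156, nat_lit 36]))))
noncomputable def w9 : WT := (.node (nat_lit 1) (.leaf (nat_lit 4098) [nat_lit 120]) (.node (nat_lit 2) (.leaf (nat_lit 18436) [nat_lit 60, nat_lit 120, nat_lit 48]) (.node (nat_lit 3) (.leaf (nat_lit 18439) [nat_lit 48, nat_lit 120, nat_lit 60]) (.leaf (nat_lit 22534) [nat_lit 108, nat_lit 84, nat_lit 96, nat_lit 72, nat_lit 180]))))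
noncomputable def w10 : WT := (.node (nat_lit 2) (.node (nat_lit 1) (.leaf (nat_lit 5120) [nat_lit 156]) (.leaf (nat_lit 13312) [nat_lit 24, nat_lit 132, nat_lit 36])) (.node (nat_lit 3) (.leaf (nat_lit 19456) [nat_lit 48, nat_lit 180, nat_lit 156, nat_lit 60]) (.node (nat_lit 4) (.leaf (nat_lit 24579) [nat_lit 84, nat_lit 156, nat_lit 72]) (.leaf (nat_lit 39938) [nat_lit 204, nat_lit 156, nat_lit 192]))))
noncomputable def w11 : WT := (.node (nat_lit 1) (.leaf (nat_lit 5122) [nat_lit 144]) (.node (nat_lit 2) (.leaf (nat_lit 24580) [nat_lit 84, nat_lit 144, nat_lit 72]) (.node (nat_lit 3) (.leaf (nat_lit 39942) [nat_lit 192, nat_lit 144, nat_lit 204]) (.leaf (nat_lit 19462) [nat_lit 60, nat_lit 144, nat_lit 48, nat_lit 180]))))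
noncomputable def w12 : WT := (.node (nat_lit 2) (.node (nat_lit 1) (.leaf (nat_lit 20480) [nat_lit 48, nat_lit 180, nat_lit 60]) (.leaf (nat_lit 6144) [nat_lit 180])) (.node (nat_lit 4) (.node (nat_lit 3) (.leaf (nat_lit 20483) [nat_lit 60, nat_lit 180, nat_lit 48]) (.leaf (nat_lit 25603) [nat_lit 84, nat_lit 180, nat_lit 72])) (.node (nat_lit 5) (.leaf (nat_lit 37889) [nat_lit 192, nat_lit 108, nat_lit 204]) (.leaf (nat_lit 40962) [nat_lit 204, nat_lit 108, nat_lit 192]))))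
noncomputable def w13 : WT := (.node (nat_lit 1) (.leaf (nat_lit 6146) [nat_lit 168]) (.node (nat_lit 2) (.leaf (nat_lit 37894) [nat_lit 192, nat_lit 96, nat_lit 204]) (.leaf (nat_lit 22532) [nat_lit 132, nat_lit 108, nat_lit 84, nat_lit 96, nat_lit 72])))
noncomputable def r7 : WT := (.leaf (nat_lit 46086) [nat_lit 84, nat_lit 60, nat_lit 60, nat_lit 36, nat_lit 36, nat_lit 36, nat_lit 204, nat_lit 84, nat_lit 60, nat_lit 60, nat_lit 192, nat_lit 48, nat_lit 72])
noncomputable def r8 : WT := (.leaf (nat_lit 50186) [nat_lit 84, nat_lit 84, nat_lit 60, nat_lit 36, nat_lit 36, nat_lit 36, nat_lit 204, nat_lit 84, nat_lit 84, nat_lit 60, nat_lit 192, nat_lit 48, nat_lit 48, nat_lit 72, nat_lit 72])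
noncomputable def w14 : WT := (.node (nat_lit 3) (.node (nat_lit 1) (.leaf (nat_lit 7168) [nat_lit 204]) (.node (nat_lit 2) (.leaf (nat_lit 41984) [nat_lit 192]) (.leaf (nat_lit 44038) [nat_lit 84, nat_lit 204, nat_lit 84, nat_lit 192, nat_lit 72, nat_lit 72]))) (.node (nat_lit 5) (.node (nat_lit 4) (.leaf (nat_lit 43012) [nat_lit 84, nat_lit 84, nat_lit 204, nat_lit 84, nat_lit 84, nat_lit 192, nat_lit 72]) (.leaf (nat_lit 45060) [nat_lit 60, nat_lit 36, nat_lit 36, nat_lit 204, nat_lit 60, nat_lit 192, nat_lit 48])) (.node (nat_lit 6) (.leaf (nat_lit 48134) [nat_lit 60, nat_lit 60, nat_lit 36, nat_lit 36, nat_lit 204, nat_lit 60, nat_lit 60, nat_lit 192, nat_lit 48, nat_lit 48]) (.node (nat_lit 7) r7 r8))))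
noncomputable def w15 : WT := (.leaf (nat_lit 7170) [nat_lit 192])
noncomputable def wP : WT := (.leaf (nat_lit 0) [nat_lit 24, nat_lit 36])
noncomputable def P : Par := ⟨tb, nat_lit 216, nat_lit 0xffffffffffffffffffffffffffffffffffffffffffffffffffffff, nat_lit 10, nat_lit 4095, nat_lit 15, nat_lit 12, nat_lit 4, nat_lit 10,
  [nat_lit 24, nat_lit 36, nat_lit 48, nat_lit 60, nat_lit 72, nat_lit 84, nat_lit 96, nat_lit 108, nat_lit 120, nat_lit 132, nat_lit 144, nat_lit 156, nat_lit 168, nat_lit 180, nat_lit 192, nat_lit 204], [nat_lit 24, nat_lit 48, nat_lit 72, nat_lit 96, nat_lit 120, nat_lit 144, nat_lit 168], wP,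
  (.cons (nat_lit 24) w0 (.cons (nat_lit 36) w1 (.cons (nat_lit 48) w2 (.cons (nat_lit 60) w3 (.cons (nat_lit 72) w4 (.cons (nat_lit 84) w5 (.cons (nat_lit 96) w6 (.cons (nat_lit 108) w7 (.cons (nat_lit 120) w8 (.cons (nat_lit 132) w9 (.cons (nat_lit 144) w10 (.cons (nat_lit 156) w11 (.cons (nat_lit 168) w12 (.cons (nat_lit 180) w13 (.cons (nat_lit 192) w14 (.cons (nat_lit 204) w15 .nil)))))))))))))))),
  .nil⟩

end Cfsg.Agent.Lib.McTa
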