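import Cfsg.Agent.Lib.McTbD0

set_option autoImplicit false
set_option maxRecDepth 100000

namespace Cfsg.Agent.Lib.McTb
open Cfsg.Agent.Lib.TCCore

noncomputable def tb : T := (.node (nat_lit 68) l0 l1)
noncomputable def r0 : WT := (.node (nat_lit 5) (.leaf (nat_lit 50179) [nat_lit 266, nat_lit 266, nat_lit 28]) (.leaf (nat_lit 15361) [nat_lit 196, nat_lit 196, nat_lit 42, nat_lit 210]))
noncomputable def r1 : WT := (.node (nat_lit 7) (.leaf (nat_lit 13314) [nat_lit 182, nat_lit 182, nat_lit 42, nat_lit 140]) (.leaf (nat_lit 37889) [nat_lit 28, nat_lit 28, nat_lit 224, nat_lit 42, nat_lit 238]))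
noncomputable def r2 : WT := (.node (nat_lit 9) (.leaf (nat_lit 50177) [nat_lit 28, nat_lit 266, nat_lit 266]) (.leaf (nat_lit 12289) [nat_lit 112, nat_lit 112, nat_lit 42, nat_lit 126]))
noncomputable def r3 : WT := (.node (nat_lit 11) (.leaf (nat_lit 11265) [nat_lit 56, nat_lit 56, nat_lit 42, nat_lit 98]) (.node (nat_lit 12) (.leaf (nat_lit 15362) [nat_lit 210, nat_lit 210, nat_lit 42, nat_lit 196]) (.leaf (nat_lit 11266) [nat_lit 70, nat_lit 70, nat_lit 42, nat_lit 84])))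
noncomputable def r4 : WT := (.node (nat_lit 15) (.node (nat_lit 14) (.leaf (nat_lit 37890) [nat_lit 238, nat_lit 42, nat_lit 42, nat_lit 42, nat_lit 224]) (.leaf (nat_lit 13313) [nat_lit 168, nat_lit 168, nat_lit 42, nat_lit 154])) (.node (nat_lit 16) (.leaf (nat_lit 37893) [nat_lit 224, nat_lit 42, nat_lit 238, nat_lit 28, nat_lit 28]) (.node (nat_lit 17) (.leaf (nat_lit 43010) [nat_lit 266, nat_lit 42, nat_lit 42, nat_lit 42, nat_lit 252]) (.leaf (nat_lit 53253) [nat_lit 28, nat_lit 56, nat_lit 238, nat_lit 70, nat_lit 238, nat_lit 56, nat_lit 224]))))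
noncomputable def w0 : WT := (.node (nat_lit 1) (.leaf (nat_lit 0) [nat_lit 42]) (.node (nat_lit 6) (.node (nat_lit 3) (.node (nat_lit 2) (.leaf (nat_lit 10242) [nat_lit 98, nat_lit 42, nat_lit 56]) (.leaf (nat_lit 9216) [nat_lit 28, nat_lit 28, nat_lit 28])) (.node (nat_lit 4) (.leaf (nat_lit 10241) [nat_lit 84, nat_lit 42, nat_lit 70]) r0)) (.node (nat_lit 10) (.node (nat_lit 8) r1 r2) (.node (nat_lit 13) r3 r4))))
noncomputable def r5 : WT := (.node (nat_lit 5) (.leaf (nat_lit 12296) [nat_lit 112, nat_lit 28, nat_lit 126, nat_lit 126]) (.leaf (nat_lit 37894) [nat_lit 42, nat_lit 42, nat_lit 224, nat_lit 28, nat_lit 238]))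
noncomputable def r6 : WT := (.node (nat_lit 7) (.leaf (nat_lit 10246) [nat_lit 56, nat_lit 28, nat_lit 98]) (.leaf (nat_lit 15367) [nat_lit 210, nat_lit 28, nat_lit 196, nat_lit 196]))
noncomputable def r7 : WT := (.node (nat_lit 9) (.leaf (nat_lit 10245) [nat_lit 70, nat_lit 28, nat_lit 84]) (.node (nat_lit 10) (.leaf (nat_lit 14342) [nat_lit 168, nat_lit 28, nat_lit 154]) (.leaf (nat_lit 50180) [nat_lit 42, nat_lit 252, nat_lit 252])))
noncomputable def r8 : WT := (.node (nat_lit 12) (.leaf (nat_lit 50182) [nat_lit 252, nat_lit 252, nat_lit 42]) (.node (nat_lit 13) (.leaf (nat_lit 12295) [nat_lit 126, nat_lit 28, nat_lit 112, nat_lit 112]) (.leaf (nat_lit 13319) [nat_lit 154, nat_lit 28, nat_lit 168, nat_lit 168])))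
noncomputable def r9 : WT := (.leaf (nat_lit 54290) [nat_lit 238, nat_lit 98, nat_lit 70, nat_lit 70, nat_lit 224, nat_lit 56, nat_lit 84, nat_lit 224, nat_lit 98, nat_lit 70, nat_lit 70, nat_lit 42, nat_lit 42])
noncomputable def r10 : WT := (.node (nat_lit 17) (.node (nat_lit 15) r9 (.node (nat_lit 16) (.leaf (nat_lit 43014) [nat_lit 42, nat_lit 42, nat_lit 252, nat_lit 28, nat_lit 266]) (.leaf (nat_lit 15368) [nat_lit 196, nat_lit 28, nat_lit 210, nat_lit 210]))) (.node (nat_lit 18) (.leaf (nat_lit 13320) [nat_lit 140, nat_lit 28, nat_lit 182, nat_lit 182]) (.node (nat_lit 19) (.leaf (nat_lit 14341) [nat_lit 182, nat_lit 28, nat_lit 140]) (.leaf (nat_lit 9217) [nat_lit 42, nat_lit 42, nat_lit 42]))))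
noncomputable def w1 : WT := (.node (nat_lit 1) (.leaf (nat_lit 2) [nat_lit 28]) (.node (nat_lit 6) (.node (nat_lit 3) (.node (nat_lit 2) (.leaf (nat_lit 11271) [nat_lit 98, nat_lit 28, nat_lit 56, nat_lit 56]) (.leaf (nat_lit 43017) [nat_lit 266, nat_lit 28, nat_lit 28, nat_lit 28, nat_lit 252])) (.node (nat_lit 4) (.leaf (nat_lit 11272) [nat_lit 84, nat_lit 28, nat_lit 70, nat_lit 70]) r5)) (.node (nat_lit 11) (.node (nat_lit 8) r6 r7) (.node (nat_lit 14) r8 r10))))
noncomputable def r11 : WT := (.node (nat_lit 4) (.leaf (nat_lit 17409) [nat_lit 84, nat_lit 70, nat_lit 98]) (.leaf (nat_lit 21505) [nat_lit 196, nat_lit 70, nat_lit 210]))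
noncomputable def r12 : WT := (.node (nat_lit 7) (.leaf (nat_lit 53250) [nat_lit 224, nat_lit 70, nat_lit 42, nat_lit 42, nat_lit 238, nat_lit 70, nat_lit 224]) (.leaf (nat_lit 53249) [nat_lit 224, nat_lit 28, nat_lit 28, nat_lit 56, nat_lit 238, nat_lit 70, nat_lit 238]))
noncomputable def r13 : WT := (.node (nat_lit 9) (.leaf (nat_lit 10240) [nat_lit 28, nat_lit 98, nat_lit 42]) (.node (nat_lit 10) (.leaf (nat_lit 53257) [nat_lit 238, nat_lit 70, nat_lit 238, nat_lit 56, nat_lit 224, nat_lit 28, nat_lit 28]) (.leaf (nat_lit 19458) [nat_lit 154, nat_lit 70, nat_lit 140])))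
noncomputable def r14 : WT := (.leaf (nat_lit 55311) [nat_lit 84, nat_lit 84, nat_lit 238, nat_lit 98, nat_lit 98, nat_lit 70, nat_lit 238, nat_lit 56, nat_lit 56, nat_lit 84, nat_lit 84, nat_lit 224, nat_lit 28, nat_lit 56])
noncomputable def r15 : WT := (.node (nat_lit 13) (.node (nat_lit 12) (.leaf (nat_lit 19457) [nat_lit 140, nat_lit 70, nat_lit 154]) (.leaf (nat_lit 21506) [nat_lit 210, nat_lit 70, nat_lit 196])) (.node (nat_lit 14) (.leaf (nat_lit 11267) [nat_lit 56, nat_lit 42, nat_lit 98, nat_lit 28]) (.node (nat_lit 15) (.leaf (nat_lit 18433) [nat_lit 112, nat_lit 168, nat_lit 168, nat_lit 196, nat_lit 70, nat_lit 126]) r14)))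
noncomputable def w2 : WT := (.node (nat_lit 1) (.leaf (nat_lit 1024) [nat_lit 70]) (.node (nat_lit 5) (.node (nat_lit 2) (.leaf (nat_lit 16384) [nat_lit 56, nat_lit 56]) (.node (nat_lit 3) (.leaf (nat_lit 17410) [nat_lit 98, nat_lit 70, nat_lit 84]) r11)) (.node (nat_lit 8) (.node (nat_lit 6) (.leaf (nat_lit 44034) [nat_lit 266, nat_lit 182, nat_lit 182, nat_lit 252]) r12) (.node (nat_lit 11) r13 r15))))
noncomputable def r16 : WT := (.node (nat_lit 5) (.leaf (nat_lit 47110) [nat_lit 252, nat_lit 168, nat_lit 266]) (.leaf (nat_lit 17413) [nat_lit 98, nat_lit 56, nat_lit 84]))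
noncomputable def r17 : WT := (.node (nat_lit 7) (.leaf (nat_lit 18444) [nat_lit 112, nat_lit 56, nat_lit 210, nat_lit 182, nat_lit 182, nat_lit 126]) (.leaf (nat_lit 11268) [nat_lit 70, nat_lit 42, nat_lit 84, nat_lit 28]))
noncomputable def r18 : WT := (.node (nat_lit 9) (.leaf (nat_lit 53261) [nat_lit 238, nat_lit 56, nat_lit 224, nat_lit 28, nat_lit 28, nat_lit 56, nat_lit 238]) (.leaf (nat_lit 53262) [nat_lit 224, nat_lit 56, nat_lit 224, nat_lit 70, nat_lit 42, nat_lit 42, nat_lit 238]))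
noncomputable def r19 : WT := (.node (nat_lit 11) (.leaf (nat_lit 53254) [nat_lit 42, nat_lit 42, nat_lit 238, nat_lit 70, nat_lit 224, nat_lit 56, nat_lit 224]) (.node (nat_lit 12) (.leaf (nat_lit 21510) [nat_lit 196, nat_lit 56, nat_lit 210]) (.leaf (nat_lit 20487) [nat_lit 182, nat_lit 56, nat_lit 168, nat_lit 196])))
noncomputable def r20 : WT := (.node (nat_lit 15) (.node (nat_lit 14) (.leaf (nat_lit 21509) [nat_lit 210, nat_lit 56, nat_lit 196]) (.leaf (nat_lit 19461) [nat_lit 154, nat_lit 56, nat_lit 140])) (.node (nat_lit 16) (.leaf (nat_lit 19462) [nat_lit 140, nat_lit 56, nat_lit 154]) (.leaf (nat_lit 10247) [nat_lit 28, nat_lit 84, nat_lit 42])))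
noncomputable def w3 : WT := (.node (nat_lit 1) (.leaf (nat_lit 1026) [nat_lit 56]) (.node (nat_lit 6) (.node (nat_lit 3) (.node (nat_lit 2) (.leaf (nat_lit 16385) [nat_lit 70, nat_lit 70]) (.leaf (nat_lit 17414) [nat_lit 84, nat_lit 56, nat_lit 98])) (.node (nat_lit 4) (.leaf (nat_lit 44039) [nat_lit 266, nat_lit 168, nat_lit 168, nat_lit 252]) r16)) (.node (nat_lit 10) (.node (nat_lit 8) r17 r18) (.node (nat_lit 13) r19 r20))))
noncomputable def r21 : WT := (.node (nat_lit 6) (.leaf (nat_lit 26625) [nat_lit 196, nat_lit 98, nat_lit 210]) (.leaf (nat_lit 25602) [nat_lit 182, nat_lit 98, nat_lit 168]))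
noncomputable def r22 : WT := (.node (nat_lit 8) (.leaf (nat_lit 17408) [nat_lit 56, nat_lit 98, nat_lit 70]) (.node (nat_lit 9) (.leaf (nat_lit 11264) [nat_lit 28, nat_lit 70, nat_lit 70, nat_lit 42]) (.leaf (nat_lit 46081) [nat_lit 84, nat_lit 252, nat_lit 154, nat_lit 266])))
noncomputable def r23 : WT := (.node (nat_lit 11) (.leaf (nat_lit 52226) [nat_lit 84, nat_lit 224, nat_lit 98, nat_lit 238, nat_lit 98, nat_lit 224]) (.node (nat_lit 12) (.leaf (nat_lit 52225) [nat_lit 224, nat_lit 84, nat_lit 238, nat_lit 98, nat_lit 98, nat_lit 238]) (.leaf (nat_lit 26626) [nat_lit 210, nat_lit 98, nat_lit 196])))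
noncomputable def r24 : WT := (.node (nat_lit 15) (.node (nat_lit 14) (.leaf (nat_lit 24578) [nat_lit 210, nat_lit 210, nat_lit 154, nat_lit 98, nat_lit 140]) (.leaf (nat_lit 24577) [nat_lit 140, nat_lit 196, nat_lit 196, nat_lit 98, nat_lit 154])) (.node (nat_lit 16) (.leaf (nat_lit 51202) [nat_lit 224, nat_lit 98, nat_lit 98, nat_lit 238, nat_lit 98, nat_lit 98, nat_lit 224]) (.leaf (nat_lit 57350) [nat_lit 224, nat_lit 98, nat_lit 70, nat_lit 42, nat_lit 238, nat_lit 98, nat_lit 70, nat_lit 224, nat_lit 56, nat_lit 56])))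
noncomputable def w4 : WT := (.node (nat_lit 1) (.leaf (nat_lit 2048) [nat_lit 98]) (.node (nat_lit 5) (.node (nat_lit 3) (.node (nat_lit 2) (.leaf (nat_lit 10243) [nat_lit 42, nat_lit 70, nat_lit 28]) (.leaf (nat_lit 45058) [nat_lit 266, nat_lit 154, nat_lit 252])) (.node (nat_lit 4) (.leaf (nat_lit 17411) [nat_lit 70, nat_lit 98, nat_lit 56]) (.leaf (nat_lit 22528) [nat_lit 84, nat_lit 84]))) (.node (nat_lit 10) (.node (nat_lit 7) r21 r22) (.node (nat_lit 13) r23 r24))))
noncomputable def r25 : WT := (.node (nat_lit 5) (.leaf (nat_lit 17415) [nat_lit 56, nat_lit 84, nat_lit 70]) (.leaf (nat_lit 52236) [nat_lit 224, nat_lit 84, nat_lit 84, nat_lit 224, nat_lit 98, nat_lit 238]))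
noncomputable def r26 : WT := (.node (nat_lit 7) (.leaf (nat_lit 26629) [nat_lit 210, nat_lit 84, nat_lit 196]) (.leaf (nat_lit 45061) [nat_lit 266, nat_lit 140, nat_lit 252]))
noncomputable def r27 : WT := (.node (nat_lit 9) (.leaf (nat_lit 51206) [nat_lit 98, nat_lit 238, nat_lit 98, nat_lit 98, nat_lit 224, nat_lit 84, nat_lit 224]) (.leaf (nat_lit 23562) [nat_lit 112, nat_lit 84, nat_lit 210, nat_lit 154, nat_lit 126]))
noncomputable def r28 : WT := (.node (nat_lit 11) (.leaf (nat_lit 52233) [nat_lit 98, nat_lit 238, nat_lit 84, nat_lit 224, nat_lit 84, nat_lit 238]) (.node (nat_lit 12) (.leaf (nat_lit 26630) [nat_lit 196, nat_lit 84, nat_lit 210]) (.leaf (nat_lit 46086) [nat_lit 98, nat_lit 252, nat_lit 140, nat_lit 266])))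
noncomputable def r29 : WT := (.leaf (nat_lit 54295) [nat_lit 70, nat_lit 238, nat_lit 56, nat_lit 56, nat_lit 84, nat_lit 224, nat_lit 28, nat_lit 28, nat_lit 28, nat_lit 56, nat_lit 56, nat_lit 84, nat_lit 238])
noncomputable def r30 : WT := (.node (nat_lit 15) (.node (nat_lit 14) (.leaf (nat_lit 52232) [nat_lit 238, nat_lit 98, nat_lit 224, nat_lit 84, nat_lit 84, nat_lit 224]) r29) (.node (nat_lit 16) (.leaf (nat_lit 24586) [nat_lit 140, nat_lit 84, nat_lit 210, nat_lit 210, nat_lit 154]) (.node (nat_lit 17) (.leaf (nat_lit 11273) [nat_lit 28, nat_lit 56, nat_lit 56, nat_lit 42]) (.leaf (nat_lit 25605) [nat_lit 182, nat_lit 84, nat_lit 168]))))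
noncomputable def w5 : WT := (.node (nat_lit 1) (.leaf (nat_lit 2050) [nat_lit 84]) (.node (nat_lit 6) (.node (nat_lit 3) (.node (nat_lit 2) (.leaf (nat_lit 22529) [nat_lit 98, nat_lit 98]) (.leaf (nat_lit 17412) [nat_lit 70, nat_lit 84, nat_lit 56])) (.node (nat_lit 4) (.leaf (nat_lit 10244) [nat_lit 42, nat_lit 56, nat_lit 28]) r25)) (.node (nat_lit 10) (.node (nat_lit 8) r26 r27) (.node (nat_lit 13) r28 r30))))
noncomputable def r31 : WT := (.node (nat_lit 6) (.leaf (nat_lit 30722) [nat_lit 210, nat_lit 126, nat_lit 196]) (.leaf (nat_lit 12291) [nat_lit 112, nat_lit 42, nat_lit 126, nat_lit 28]))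
noncomputable def r32 : WT := (.node (nat_lit 8) (.leaf (nat_lit 60421) [nat_lit 266, nat_lit 126, nat_lit 126, nat_lit 266, nat_lit 112, nat_lit 252]) (.leaf (nat_lit 12288) [nat_lit 28, nat_lit 126, nat_lit 126, nat_lit 42]))
noncomputable def r33 : WT := (.node (nat_lit 10) (.leaf (nat_lit 28673) [nat_lit 140, nat_lit 126, nat_lit 154]) (.node (nat_lit 11) (.leaf (nat_lit 23552) [nat_lit 84, nat_lit 210, nat_lit 154, nat_lit 126, nat_lit 98]) (.leaf (nat_lit 23555) [nat_lit 140, nat_lit 196, nat_lit 98, nat_lit 126, nat_lit 84])))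
noncomputable def r34 : WT := (.node (nat_lit 14) (.node (nat_lit 13) (.leaf (nat_lit 18432) [nat_lit 56, nat_lit 210, nat_lit 182, nat_lit 182, nat_lit 126, nat_lit 70]) (.leaf (nat_lit 29698) [nat_lit 182, nat_lit 126, nat_lit 168])) (.node (nat_lit 15) (.leaf (nat_lit 60418) [nat_lit 112, nat_lit 252, nat_lit 126, nat_lit 266, nat_lit 126, nat_lit 252]) (.node (nat_lit 16) (.leaf (nat_lit 30721) [nat_lit 196, nat_lit 126, nat_lit 210]) (.leaf (nat_lit 60417) [nat_lit 252, nat_lit 112, nat_lit 266, nat_lit 126, nat_lit 126, nat_lit 266]))))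
noncomputable def w6 : WT := (.node (nat_lit 1) (.leaf (nat_lit 3072) [nat_lit 126]) (.node (nat_lit 5) (.node (nat_lit 3) (.node (nat_lit 2) (.leaf (nat_lit 38914) [nat_lit 238, nat_lit 210, nat_lit 224]) (.leaf (nat_lit 27648) [nat_lit 112, nat_lit 112])) (.node (nat_lit 4) (.leaf (nat_lit 18435) [nat_lit 168, nat_lit 168, nat_lit 196, nat_lit 70, nat_lit 126, nat_lit 56]) (.leaf (nat_lit 41985) [nat_lit 224, nat_lit 210, nat_lit 238]))) (.node (nat_lit 9) (.node (nat_lit 7) r31 r32) (.node (nat_lit 12) r33 r34))))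
noncomputable def r35 : WT := (.node (nat_lit 5) (.leaf (nat_lit 30725) [nat_lit 210, nat_lit 112, nat_lit 196]) (.leaf (nat_lit 41990) [nat_lit 224, nat_lit 196, nat_lit 238]))
noncomputable def r36 : WT := (.node (nat_lit 8) (.leaf (nat_lit 12297) [nat_lit 28, nat_lit 112, nat_lit 112, nat_lit 42]) (.leaf (nat_lit 27649) [nat_lit 126, nat_lit 126]))
noncomputable def r37 : WT := (.node (nat_lit 10) (.leaf (nat_lit 29701) [nat_lit 182, nat_lit 112, nat_lit 168]) (.node (nat_lit 11) (.leaf (nat_lit 28678) [nat_lit 140, nat_lit 112, nat_lit 154]) (.leaf (nat_lit 30726) [nat_lit 196, nat_lit 112, nat_lit 210])))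
noncomputable def r38 : WT := (.node (nat_lit 14) (.node (nat_lit 13) (.leaf (nat_lit 18445) [nat_lit 56, nat_lit 112, nat_lit 168, nat_lit 168, nat_lit 196, nat_lit 70]) (.leaf (nat_lit 29702) [nat_lit 168, nat_lit 112, nat_lit 182])) (.node (nat_lit 15) (.leaf (nat_lit 60428) [nat_lit 252, nat_lit 112, nat_lit 112, nat_lit 252, nat_lit 126, nat_lit 266]) (.leaf (nat_lit 60425) [nat_lit 126, nat_lit 266, nat_lit 112, nat_lit 252, nat_lit 112, nat_lit 266])))
noncomputable def w7 : WT := (.node (nat_lit 1) (.leaf (nat_lit 3074) [nat_lit 112]) (.node (nat_lit 6) (.node (nat_lit 3) (.node (nat_lit 2) (.leaf (nat_lit 28677) [nat_lit 154, nat_lit 112, nat_lit 140]) (.leaf (nat_lit 38917) [nat_lit 238, nat_lit 196, nat_lit 224])) (.node (nat_lit 4) (.leaf (nat_lit 23563) [nat_lit 84, nat_lit 112, nat_lit 140, nat_lit 196, nat_lit 98]) r35)) (.node (nat_lit 9) (.node (nat_lit 7) (.leaf (nat_lit 12292) [nat_lit 126, nat_lit 42, nat_lit 112, nat_lit 28])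 r36) (.node (nat_lit 12) r37 r38))))
noncomputable def r39 : WT := (.node (nat_lit 6) (.leaf (nat_lit 31744) [nat_lit 140, nat_lit 140]) (.leaf (nat_lit 19456) [nat_lit 56, nat_lit 154, nat_lit 70]))
noncomputable def r40 : WT := (.node (nat_lit 8) (.leaf (nat_lit 46082) [nat_lit 266, nat_lit 98, nat_lit 98, nat_lit 252]) (.leaf (nat_lit 39937) [nat_lit 140, nat_lit 224, nat_lit 154, nat_lit 238]))
noncomputable def r41 : WT := (.node (nat_lit 10) (.leaf (nat_lit 33794) [nat_lit 210, nat_lit 154, nat_lit 196]) (.leaf (nat_lit 39939) [nat_lit 224, nat_lit 154, nat_lit 238, nat_lit 140]))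
noncomputable def r42 : WT := (.node (nat_lit 12) (.leaf (nat_lit 24579) [nat_lit 196, nat_lit 196, nat_lit 98, nat_lit 154, nat_lit 84]) (.node (nat_lit 13) (.leaf (nat_lit 45057) [nat_lit 252, nat_lit 98, nat_lit 266]) (.leaf (nat_lit 32770) [nat_lit 182, nat_lit 154, nat_lit 168])))
noncomputable def r43 : WT := (.node (nat_lit 16) (.node (nat_lit 15) (.leaf (nat_lit 28675) [nat_lit 126, nat_lit 154, nat_lit 112]) (.leaf (nat_lit 28672) [nat_lit 112, nat_lit 154, nat_lit 126])) (.node (nat_lit 17) (.leaf (nat_lit 13312) [nat_lit 28, nat_lit 182, nat_lit 182, nat_lit 42]) (.node (nat_lit 18) (.leaf (nat_lit 33793) [nat_lit 196, nat_lit 154, nat_lit 210]) (.leaf (nat_lit 23557) [nat_lit 196, nat_lit 98, nat_lit 126, nat_lit 84, nat_lit 112]))))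
noncomputable def w8 : WT := (.node (nat_lit 2) (.node (nat_lit 1) (.leaf (nat_lit 4096) [nat_lit 154]) (.leaf (nat_lit 19459) [nat_lit 70, nat_lit 154, nat_lit 56])) (.node (nat_lit 7) (.node (nat_lit 4) (.node (nat_lit 3) (.leaf (nat_lit 24576) [nat_lit 84, nat_lit 210, nat_lit 210, nat_lit 154, nat_lit 98]) (.leaf (nat_lit 39938) [nat_lit 238, nat_lit 154, nat_lit 154, nat_lit 224])) (.node (nat_lit 5) (.leaf (nat_lit 14339) [nat_lit 42, nat_lit 182, nat_lit 28]) r39)) (.node (nat_lit 11) (.node (nat_lit 9) r40 r41) (.node (nat_lit 14) r42 r43))))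
noncomputable def r44 : WT := (.node (nat_lit 5) (.leaf (nat_lit 39942) [nat_lit 154, nat_lit 224, nat_lit 140, nat_lit 238]) (.leaf (nat_lit 39943) [nat_lit 238, nat_lit 140, nat_lit 140, nat_lit 224]))
noncomputable def r45 : WT := (.node (nat_lit 8) (.leaf (nat_lit 33797) [nat_lit 210, nat_lit 140, nat_lit 196]) (.leaf (nat_lit 45062) [nat_lit 252, nat_lit 84, nat_lit 266]))
noncomputable def r46 : WT := (.node (nat_lit 10) (.leaf (nat_lit 31745) [nat_lit 154, nat_lit 154]) (.node (nat_lit 11) (.leaf (nat_lit 28676) [nat_lit 126, nat_lit 140, nat_lit 112]) (.leaf (nat_lit 28679) [nat_lit 112, nat_lit 140, nat_lit 126])))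
noncomputable def r47 : WT := (.node (nat_lit 14) (.node (nat_lit 13) (.leaf (nat_lit 33798) [nat_lit 196, nat_lit 140, nat_lit 210]) (.leaf (nat_lit 13321) [nat_lit 28, nat_lit 168, nat_lit 168, nat_lit 42])) (.node (nat_lit 15) (.leaf (nat_lit 46087) [nat_lit 266, nat_lit 84, nat_lit 84, nat_lit 252]) (.leaf (nat_lit 23558) [nat_lit 126, nat_lit 98, nat_lit 112, nat_lit 84, nat_lit 210])))
noncomputable def w9 : WT := (.node (nat_lit 1) (.leaf (nat_lit 4098) [nat_lit 140]) (.node (nat_lit 6) (.node (nat_lit 3) (.node (nat_lit 2) (.leaf (nat_lit 14340) [nat_lit 42, nat_lit 168, nat_lit 28]) (.leaf (nat_lit 19460) [nat_lit 70, nat_lit 140, nat_lit 56])) (.node (nat_lit 4) (.leaf (nat_lit 19463) [nat_lit 56, nat_lit 140, nat_lit 70]) r44)) (.node (nat_lit 9) (.node (nat_lit 7) (.leaf (nat_lit 24587) [nat_lit 84, nat_lit 140, nat_lit 196, nat_lit 196, nat_lit 98]) r45) (.node (nat_lit 12) r46 r47))))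
noncomputable def r48 : WT := (.node (nat_lit 6) (.leaf (nat_lit 34816) [nat_lit 168, nat_lit 168]) (.leaf (nat_lit 29696) [nat_lit 112, nat_lit 182, nat_lit 126]))
noncomputable def r49 : WT := (.node (nat_lit 8) (.leaf (nat_lit 20483) [nat_lit 196, nat_lit 70, nat_lit 182, nat_lit 56]) (.leaf (nat_lit 13315) [nat_lit 168, nat_lit 42, nat_lit 154, nat_lit 28]))
noncomputable def r50 : WT := (.node (nat_lit 10) (.leaf (nat_lit 32771) [nat_lit 154, nat_lit 182, nat_lit 140]) (.node (nat_lit 11) (.leaf (nat_lit 40961) [nat_lit 224, nat_lit 182, nat_lit 238]) (.leaf (nat_lit 35842) [nat_lit 210, nat_lit 182, nat_lit 196])))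
noncomputable def r51 : WT := (.node (nat_lit 13) (.leaf (nat_lit 35841) [nat_lit 196, nat_lit 182, nat_lit 210]) (.node (nat_lit 14) (.leaf (nat_lit 32768) [nat_lit 140, nat_lit 182, nat_lit 154]) (.leaf (nat_lit 29699) [nat_lit 126, nat_lit 182, nat_lit 112])))
noncomputable def r52 : WT := (.node (nat_lit 17) (.node (nat_lit 16) (.leaf (nat_lit 25603) [nat_lit 98, nat_lit 182, nat_lit 84]) (.leaf (nat_lit 14336) [nat_lit 28, nat_lit 154, nat_lit 42])) (.node (nat_lit 18) (.leaf (nat_lit 44033) [nat_lit 168, nat_lit 252, nat_lit 70, nat_lit 266]) (.leaf (nat_lit 44035) [nat_lit 252, nat_lit 70, nat_lit 266, nat_lit 168])))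
noncomputable def w10 : WT := (.node (nat_lit 2) (.node (nat_lit 1) (.leaf (nat_lit 5120) [nat_lit 182]) (.leaf (nat_lit 47106) [nat_lit 266, nat_lit 70, nat_lit 252])) (.node (nat_lit 7) (.node (nat_lit 4) (.node (nat_lit 3) (.leaf (nat_lit 40962) [nat_lit 238, nat_lit 182, nat_lit 224]) (.leaf (nat_lit 25600) [nat_lit 84, nat_lit 182, nat_lit 98])) (.node (nat_lit 5) (.leaf (nat_lit 20480) [nat_lit 56, nat_lit 210, nat_lit 182, nat_lit 70]) r48)) (.node (nat_lit 12) (.node (nat_lit 9) r49 r50) (.node (nat_lit 15) r51 r52))))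
noncomputable def r53 : WT := (.node (nat_lit 5) (.leaf (nat_lit 40965) [nat_lit 238, nat_lit 168, nat_lit 224]) (.leaf (nat_lit 40966) [nat_lit 224, nat_lit 168, nat_lit 238]))
noncomputable def r54 : WT := (.node (nat_lit 7) (.leaf (nat_lit 34817) [nat_lit 182, nat_lit 182]) (.leaf (nat_lit 35846) [nat_lit 196, nat_lit 168, nat_lit 210]))
noncomputable def r55 : WT := (.node (nat_lit 9) (.leaf (nat_lit 32775) [nat_lit 140, nat_lit 168, nat_lit 154]) (.node (nat_lit 10) (.leaf (nat_lit 32772) [nat_lit 154, nat_lit 168, nat_lit 140]) (.leaf (nat_lit 29703) [nat_lit 112, nat_lit 168, nat_lit 126])))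
noncomputable def r56 : WT := (.node (nat_lit 12) (.leaf (nat_lit 13316) [nat_lit 182, nat_lit 42, nat_lit 140, nat_lit 28]) (.node (nat_lit 13) (.leaf (nat_lit 25604) [nat_lit 98, nat_lit 168, nat_lit 84]) (.leaf (nat_lit 44038) [nat_lit 182, nat_lit 252, nat_lit 56, nat_lit 266])))
noncomputable def r57 : WT := (.node (nat_lit 16) (.node (nat_lit 15) (.leaf (nat_lit 35845) [nat_lit 210, nat_lit 168, nat_lit 196]) (.leaf (nat_lit 29700) [nat_lit 126, nat_lit 168, nat_lit 112])) (.node (nat_lit 17) (.leaf (nat_lit 47109) [nat_lit 266, nat_lit 56, nat_lit 252]) (.leaf (nat_lit 20486) [nat_lit 70, nat_lit 168, nat_lit 56, nat_lit 210])))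
noncomputable def w11 : WT := (.node (nat_lit 1) (.leaf (nat_lit 5122) [nat_lit 168]) (.node (nat_lit 6) (.node (nat_lit 3) (.node (nat_lit 2) (.leaf (nat_lit 20489) [nat_lit 56, nat_lit 168, nat_lit 196, nat_lit 70]) (.leaf (nat_lit 25607) [nat_lit 84, nat_lit 168, nat_lit 98])) (.node (nat_lit 4) (.leaf (nat_lit 14343) [nat_lit 28, nat_lit 140, nat_lit 42]) r53)) (.node (nat_lit 11) (.node (nat_lit 8) r54 r55) (.node (nat_lit 14) r56 r57))))
noncomputable def r58 : WT := (.node (nat_lit 5) (.leaf (nat_lit 33795) [nat_lit 154, nat_lit 210, nat_lit 140]) (.leaf (nat_lit 38913) [nat_lit 224, nat_lit 126, nat_lit 238]))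
noncomputable def r59 : WT := (.node (nat_lit 7) (.leaf (nat_lit 21504) [nat_lit 56, nat_lit 210, nat_lit 70]) (.leaf (nat_lit 48130) [nat_lit 266, nat_lit 210, nat_lit 252]))
noncomputable def r60 : WT := (.node (nat_lit 9) (.leaf (nat_lit 48129) [nat_lit 252, nat_lit 210, nat_lit 266]) (.leaf (nat_lit 30720) [nat_lit 112, nat_lit 210, nat_lit 126]))
noncomputable def r61 : WT := (.node (nat_lit 11) (.leaf (nat_lit 26627) [nat_lit 98, nat_lit 210, nat_lit 84]) (.node (nat_lit 12) (.leaf (nat_lit 35843) [nat_lit 182, nat_lit 210, nat_lit 168]) (.leaf (nat_lit 15360) [nat_lit 28, nat_lit 210, nat_lit 210, nat_lit 42])))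
noncomputable def r62 : WT := (.node (nat_lit 16) (.node (nat_lit 14) (.leaf (nat_lit 15363) [nat_lit 196, nat_lit 42, nat_lit 210, nat_lit 28]) (.node (nat_lit 15) (.leaf (nat_lit 30723) [nat_lit 126, nat_lit 210, nat_lit 112]) (.leaf (nat_lit 33792) [nat_lit 140, nat_lit 210, nat_lit 154]))) (.node (nat_lit 17) (.leaf (nat_lit 41986) [nat_lit 238, nat_lit 126, nat_lit 224]) (.node (nat_lit 18) (.leaf (nat_lit 15365) [nat_lit 42, nat_lit 210, nat_lit 28, nat_lit 196]) (.leaf (nat_lit 20485) [nat_lit 70, nat_lit 182, nat_lit 56, nat_lit 168]))))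
noncomputable def w12 : WT := (.node (nat_lit 1) (.leaf (nat_lit 6144) [nat_lit 210]) (.node (nat_lit 6) (.node (nat_lit 3) (.node (nat_lit 2) (.leaf (nat_lit 21507) [nat_lit 70, nat_lit 210, nat_lit 56]) (.leaf (nat_lit 26624) [nat_lit 84, nat_lit 210, nat_lit 98])) (.node (nat_lit 4) (.leaf (nat_lit 36864) [nat_lit 196, nat_lit 196]) r58)) (.node (nat_lit 10) (.node (nat_lit 8) r59 r60) (.node (nat_lit 13) r61 r62))))
noncomputable def r63 : WT := (.node (nat_lit 7) (.leaf (nat_lit 36865) [nat_lit 210, nat_lit 210]) (.node (nat_lit 8) (.leaf (nat_lit 26628) [nat_lit 98, nat_lit 196, nat_lit 84]) (.leaf (nat_lit 30727) [nat_lit 112, nat_lit 196, nat_lit 126])))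
noncomputable def r64 : WT := (.node (nat_lit 10) (.leaf (nat_lit 33799) [nat_lit 140, nat_lit 196, nat_lit 154]) (.node (nat_lit 11) (.leaf (nat_lit 48134) [nat_lit 252, nat_lit 196, nat_lit 266]) (.leaf (nat_lit 48133) [nat_lit 266, nat_lit 196, nat_lit 252])))
noncomputable def r65 : WT := (.node (nat_lit 14) (.node (nat_lit 13) (.leaf (nat_lit 20484) [nat_lit 182, nat_lit 70, nat_lit 168, nat_lit 56]) (.leaf (nat_lit 23556) [nat_lit 154, nat_lit 126, nat_lit 98, nat_lit 112, nat_lit 84])) (.node (nat_lit 15) (.leaf (nat_lit 15369) [nat_lit 28, nat_lit 196, nat_lit 196, nat_lit 42]) (.node (nat_lit 16) (.leaf (nat_lit 15364) [nat_lit 210, nat_lit 42, nat_lit 196, nat_lit 28]) (.leaf (nat_lit 35844) [nat_lit 182, nat_lit 196, nat_lit 168]))))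
noncomputable def w13 : WT := (.node (nat_lit 1) (.leaf (nat_lit 6146) [nat_lit 196]) (.node (nat_lit 5) (.node (nat_lit 3) (.node (nat_lit 2) (.leaf (nat_lit 38918) [nat_lit 224, nat_lit 112, nat_lit 238]) (.leaf (nat_lit 21508) [nat_lit 70, nat_lit 196, nat_lit 56])) (.node (nat_lit 4) (.leaf (nat_lit 21511) [nat_lit 56, nat_lit 196, nat_lit 70]) (.leaf (nat_lit 26631) [nat_lit 84, nat_lit 196, nat_lit 98]))) (.node (nat_lit 9) (.node (nat_lit 6) (.leaf (nat_lit 41989) [nat_lit 238, nat_lit 112, nat_lit 224]) r63) (.node (nat_lit 12) r64 r65))))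
noncomputable def r66 : WT := (.node (nat_lit 6) (.leaf (nat_lit 53248) [nat_lit 56, nat_lit 224, nat_lit 70, nat_lit 42, nat_lit 42, nat_lit 238, nat_lit 70]) (.leaf (nat_lit 56326) [nat_lit 70, nat_lit 70, nat_lit 42, nat_lit 42, nat_lit 238, nat_lit 70, nat_lit 70, nat_lit 224, nat_lit 56, nat_lit 56]))
noncomputable def r67 : WT := (.node (nat_lit 8) (.leaf (nat_lit 40963) [nat_lit 182, nat_lit 238, nat_lit 168]) (.node (nat_lit 9) (.leaf (nat_lit 41984) [nat_lit 196, nat_lit 238, nat_lit 126]) (.leaf (nat_lit 41987) [nat_lit 210, nat_lit 238, nat_lit 112])))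
noncomputable def r68 : WT := (.leaf (nat_lit 58378) [nat_lit 98, nat_lit 98, nat_lit 70, nat_lit 42, nat_lit 42, nat_lit 42, nat_lit 238, nat_lit 98, nat_lit 98, nat_lit 70, nat_lit 224, nat_lit 56, nat_lit 56, nat_lit 84, nat_lit 84])
noncomputable def r69 : WT := (.node (nat_lit 12) (.node (nat_lit 11) (.leaf (nat_lit 51204) [nat_lit 98, nat_lit 98, nat_lit 238, nat_lit 98, nat_lit 98, nat_lit 224, nat_lit 84]) r68) (.node (nat_lit 13) (.leaf (nat_lit 57352) [nat_lit 98, nat_lit 70, nat_lit 42, nat_lit 238, nat_lit 98, nat_lit 70, nat_lit 224, nat_lit 56, nat_lit 56, nat_lit 84]) (.node (nat_lit 14) (.leaf (nat_lit 61440) [nat_lit 252, nat_lit 224, nat_lit 252, nat_lit 238, nat_lit 266, nat_lit 238, nat_lit 266]) (.leaf (nat_lit 52227) [nat_lit 84, nat_lit 238, nat_lit 98, nat_lit 98, nat_lit 238, nat_lit 84]))))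
noncomputable def r70 : WT := (.node (nat_lit 18) (.node (nat_lit 16) (.leaf (nat_lit 52224) [nat_lit 84, nat_lit 84, nat_lit 224, nat_lit 98, nat_lit 238, nat_lit 98]) (.node (nat_lit 17) (.leaf (nat_lit 37888) [nat_lit 28, nat_lit 238, nat_lit 42, nat_lit 42, nat_lit 42]) (.leaf (nat_lit 39941) [nat_lit 154, nat_lit 238, nat_lit 140, nat_lit 140]))) (.node (nat_lit 19) (.leaf (nat_lit 39936) [nat_lit 140, nat_lit 238, nat_lit 154, nat_lit 154]) (.node (nat_lit 20) (.leaf (nat_lit 40960) [nat_lit 168, nat_lit 238, nat_lit 182]) (.leaf (nat_lit 38912) [nat_lit 112, nat_lit 238, nat_lit 210]))))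
noncomputable def w14 : WT := (.node (nat_lit 1) (.leaf (nat_lit 7168) [nat_lit 238]) (.node (nat_lit 5) (.node (nat_lit 3) (.node (nat_lit 2) (.leaf (nat_lit 49152) [nat_lit 224]) (.leaf (nat_lit 53252) [nat_lit 70, nat_lit 42, nat_lit 42, nat_lit 238, nat_lit 70, nat_lit 224, nat_lit 56])) (.node (nat_lit 4) (.leaf (nat_lit 38915) [nat_lit 126, nat_lit 238, nat_lit 196]) (.leaf (nat_lit 37895) [nat_lit 42, nat_lit 238, nat_lit 28, nat_lit 28, nat_lit 28]))) (.node (nat_lit 10) (.node (nat_lit 7) r66 r67) (.node (nat_lit 15) r69 r70))))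
noncomputable def r71 : WT := (.node (nat_lit 4) (.leaf (nat_lit 40964) [nat_lit 182, nat_lit 224, nat_lit 168]) (.leaf (nat_lit 38916) [nat_lit 210, nat_lit 224, nat_lit 112]))
noncomputable def r72 : WT := (.node (nat_lit 6) (.leaf (nat_lit 41988) [nat_lit 126, nat_lit 224, nat_lit 196]) (.leaf (nat_lit 52231) [nat_lit 98, nat_lit 98, nat_lit 238, nat_lit 84, nat_lit 224, nat_lit 84]))
noncomputable def r73 : WT := (.node (nat_lit 8) (.leaf (nat_lit 53263) [nat_lit 56, nat_lit 224, nat_lit 28, nat_lit 28, nat_lit 56, nat_lit 238, nat_lit 70]) (.node (nat_lit 9) (.leaf (nat_lit 38919) [nat_lit 196, nat_lit 224, nat_lit 126]) (.leaf (nat_lit 39940) [nat_lit 154, nat_lit 154, nat_lit 224, nat_lit 140])))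
noncomputable def r74 : WT := (.leaf (nat_lit 55317) [nat_lit 98, nat_lit 98, nat_lit 70, nat_lit 238, nat_lit 56, nat_lit 56, nat_lit 84, nat_lit 84, nat_lit 224, nat_lit 28, nat_lit 56, nat_lit 56, nat_lit 84, nat_lit 84])
noncomputable def r75 : WT := (.leaf (nat_lit 54293) [nat_lit 98, nat_lit 70, nat_lit 238, nat_lit 56, nat_lit 56, nat_lit 84, nat_lit 224, nat_lit 28, nat_lit 28, nat_lit 28, nat_lit 56, nat_lit 56, nat_lit 84])
noncomputable def r76 : WT := (.node (nat_lit 12) (.node (nat_lit 11) (.leaf (nat_lit 53259) [nat_lit 70, nat_lit 238, nat_lit 56, nat_lit 224, nat_lit 28, nat_lit 28, nat_lit 56]) (.leaf (nat_lit 61448) [nat_lit 266, nat_lit 238, nat_lit 266, nat_lit 224, nat_lit 252, nat_lit 224, nat_lit 252])) (.node (nat_lit 13) r74 r75))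
noncomputable def r77 : WT := (.node (nat_lit 17) (.node (nat_lit 15) (.leaf (nat_lit 56335) [nat_lit 70, nat_lit 70, nat_lit 238, nat_lit 56, nat_lit 56, nat_lit 224, nat_lit 28, nat_lit 28, nat_lit 56, nat_lit 56]) (.node (nat_lit 16) (.leaf (nat_lit 61452) [nat_lit 266, nat_lit 224, nat_lit 252, nat_lit 224, nat_lit 252, nat_lit 238, nat_lit 266]) (.leaf (nat_lit 51210) [nat_lit 98, nat_lit 98, nat_lit 224, nat_lit 84, nat_lit 224, nat_lit 98, nat_lit 98]))) (.node (nat_lit 18) (.leaf (nat_lit 37899) [nat_lit 28, nat_lit 28, nat_lit 28, nat_lit 224, nat_lit 42]) (.node (nat_lit 19) (.leaf (nat_lit 41991) [nat_lit 112, nat_lit 224, nat_lit 210]) (.leaf (nat_lit 40967) [nat_lit 168, nat_lit 224, nat_lit 182]))))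
noncomputable def w15 : WT := (.node (nat_lit 1) (.leaf (nat_lit 7170) [nat_lit 224]) (.node (nat_lit 5) (.node (nat_lit 2) (.leaf (nat_lit 49153) [nat_lit 238]) (.node (nat_lit 3) (.leaf (nat_lit 37892) [nat_lit 42, nat_lit 42, nat_lit 42, nat_lit 224, nat_lit 28]) r71)) (.node (nat_lit 10) (.node (nat_lit 7) r72 r73) (.node (nat_lit 14) r76 r77))))
noncomputable def r78 : WT := (.node (nat_lit 5) (.leaf (nat_lit 45059) [nat_lit 98, nat_lit 266, nat_lit 140]) (.leaf (nat_lit 46080) [nat_lit 140, nat_lit 266, nat_lit 98, nat_lit 98]))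
noncomputable def r79 : WT := (.node (nat_lit 7) (.leaf (nat_lit 61442) [nat_lit 224, nat_lit 252, nat_lit 238, nat_lit 266, nat_lit 238, nat_lit 266, nat_lit 224]) (.leaf (nat_lit 43015) [nat_lit 42, nat_lit 266, nat_lit 28, nat_lit 28, nat_lit 28]))
noncomputable def r80 : WT := (.node (nat_lit 9) (.leaf (nat_lit 46085) [nat_lit 154, nat_lit 266, nat_lit 84, nat_lit 84]) (.leaf (nat_lit 50178) [nat_lit 42, nat_lit 42, nat_lit 252]))
noncomputable def r81 : WT := (.node (nat_lit 11) (.leaf (nat_lit 44032) [nat_lit 56, nat_lit 266, nat_lit 182, nat_lit 182]) (.node (nat_lit 12) (.leaf (nat_lit 44037) [nat_lit 70, nat_lit 266, nat_lit 168, nat_lit 168]) (.leaf (nat_lit 48131) [nat_lit 210, nat_lit 266, nat_lit 196])))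
noncomputable def r82 : WT := (.node (nat_lit 15) (.node (nat_lit 14) (.leaf (nat_lit 48128) [nat_lit 196, nat_lit 266, nat_lit 210]) (.leaf (nat_lit 50176) [nat_lit 252, nat_lit 42, nat_lit 42])) (.node (nat_lit 16) (.leaf (nat_lit 60422) [nat_lit 126, nat_lit 266, nat_lit 126, nat_lit 252, nat_lit 112, nat_lit 112]) (.node (nat_lit 17) (.leaf (nat_lit 61441) [nat_lit 224, nat_lit 252, nat_lit 224, nat_lit 266, nat_lit 238, nat_lit 266, nat_lit 238]) (.leaf (nat_lit 59396) [nat_lit 126, nat_lit 126, nat_lit 42, nat_lit 42, nat_lit 266, nat_lit 126, nat_lit 126, nat_lit 252, nat_lit 112]))))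
noncomputable def w16 : WT := (.node (nat_lit 1) (.leaf (nat_lit 8192) [nat_lit 266]) (.node (nat_lit 6) (.node (nat_lit 3) (.node (nat_lit 2) (.leaf (nat_lit 47107) [nat_lit 182, nat_lit 266, nat_lit 56]) (.leaf (nat_lit 47104) [nat_lit 168, nat_lit 266, nat_lit 70])) (.node (nat_lit 4) (.leaf (nat_lit 45056) [nat_lit 84, nat_lit 266, nat_lit 154]) r78)) (.node (nat_lit 10) (.node (nat_lit 8) r79 r80) (.node (nat_lit 13) r81 r82))))
noncomputable def r83 : WT := (.node (nat_lit 2) (.leaf (nat_lit 45060) [nat_lit 154, nat_lit 252, nat_lit 84]) (.leaf (nat_lit 44041) [nat_lit 168, nat_lit 168, nat_lit 252, nat_lit 70]))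
noncomputable def r84 : WT := (.node (nat_lit 7) (.leaf (nat_lit 50181) [nat_lit 266, nat_lit 28, nat_lit 28]) (.leaf (nat_lit 46084) [nat_lit 98, nat_lit 98, nat_lit 252, nat_lit 140]))
noncomputable def r85 : WT := (.node (nat_lit 9) (.leaf (nat_lit 61449) [nat_lit 238, nat_lit 266, nat_lit 238, nat_lit 252, nat_lit 224, nat_lit 252, nat_lit 224]) (.leaf (nat_lit 48135) [nat_lit 196, nat_lit 252, nat_lit 210]))
noncomputable def r86 : WT := (.node (nat_lit 11) (.leaf (nat_lit 48132) [nat_lit 210, nat_lit 252, nat_lit 196]) (.node (nat_lit 12) (.leaf (nat_lit 47111) [nat_lit 56, nat_lit 252, nat_lit 182]) (.leaf (nat_lit 46089) [nat_lit 84, nat_lit 84, nat_lit 252, nat_lit 154])))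
noncomputable def r87 : WT := (.node (nat_lit 15) (.node (nat_lit 14) (.leaf (nat_lit 43012) [nat_lit 42, nat_lit 42, nat_lit 42, nat_lit 252, nat_lit 28]) (.leaf (nat_lit 43019) [nat_lit 28, nat_lit 28, nat_lit 28, nat_lit 252, nat_lit 42])) (.node (nat_lit 16) (.leaf (nat_lit 61450) [nat_lit 238, nat_lit 266, nat_lit 224, nat_lit 252, nat_lit 224, nat_lit 252, nat_lit 238]) (.node (nat_lit 17) (.leaf (nat_lit 61453) [nat_lit 238, nat_lit 252, nat_lit 224, nat_lit 252, nat_lit 224, nat_lit 266, nat_lit 238]) (.leaf (nat_lit 59411) [nat_lit 112, nat_lit 112, nat_lit 252, nat_lit 28, nat_lit 28, nat_lit 112, nat_lit 112, nat_lit 266, nat_lit 126]))))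
noncomputable def w17 : WT := (.node (nat_lit 1) (.leaf (nat_lit 8194) [nat_lit 252]) (.node (nat_lit 6) (.node (nat_lit 4) (.node (nat_lit 3) r83 (.leaf (nat_lit 44036) [nat_lit 182, nat_lit 182, nat_lit 252, nat_lit 56])) (.node (nat_lit 5) (.leaf (nat_lit 50183) [nat_lit 28, nat_lit 28, nat_lit 266]) (.leaf (nat_lit 45063) [nat_lit 140, nat_lit 252, nat_lit 98]))) (.node (nat_lit 10) (.node (nat_lit 8) r84 r85) (.node (nat_lit 13) r86 r87))))
noncomputable def wP : WT := (.leaf (nat_lit 0) [nat_lit 28, nat_lit 42])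
noncomputable def P : Par := ⟨tb, nat_lit 280, nat_lit 0xffffffffffffffffffffffffffffffffffffffffffffffffffffffffffffffffffffff, nat_lit 112, nat_lit 16383, nat_lit 127, nat_lit 14, nat_lit 7, nat_lit 112,
  [nat_lit 28, nat_lit 42, nat_lit 56, nat_lit 70, nat_lit 84, nat_lit 98, nat_lit 112, nat_lit 126, nat_lit 140, nat_lit 154, nat_lit 168, nat_lit 182, nat_lit 196, nat_lit 210, nat_lit 224, nat_lit 238, nat_lit 252, nat_lit 266], [nat_lit 28, nat_lit 56, nat_lit 84, nat_lit 112, nat_lit 140, nat_lit 168, nat_lit 196, nat_lit 224], wP,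
  (.cons (nat_lit 28) w0 (.cons (nat_lit 42) w1 (.cons (nat_lit 56) w2 (.cons (nat_lit 70) w3 (.cons (nat_lit 84) w4 (.cons (nat_lit 98) w5 (.cons (nat_lit 112) w6 (.cons (nat_lit 126) w7 (.cons (nat_lit 140) w8 (.cons (nat_lit 154) w9 (.cons (nat_lit 168) w10 (.cons (nat_lit 182) w11 (.cons (nat_lit 196) w12 (.cons (nat_lit 210) w13 (.cons (nat_lit 224) w14 (.cons (nat_lit 238) w15 (.cons (nat_lit 252) w16 (.cons (nat_lit 266) w17 .nil)))))))))))))))))),
  .nil⟩

end Cfsg.Agent.Lib.McTb
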