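import Cfsg.Agent.Lib.ONAR

set_option autoImplicit false
set_option maxRecDepth 100000

namespace Cfsg.Agent.Lib.ONA
open Cfsg.Agent.Lib.PermNet

theorem tr_0 : subB (ones 122760) (grow nets allg [6, 1, 2, 3, 4, 6, 1, 3, 2, 5, 0, 1, 3, 4, 6, 2, 3, 6, 1, 4, 2, 6, 3, 1, 0, 6, 4, 2, 1, 3] (pt 0)) = true := by decide +kernel

theorem fix0 : fixB nets hs (pt 0) = true := by decide +kernel

theorem o0_0 : subB (ivl 1 5586) (grow nets hs [4, 3, 5, 2, 1, 3, 4, 0, 2, 3, 5, 2, 1, 4, 3, 5, 0, 2, 4, 3, 4, 5, 2, 1, 3, 4, 2, 0, 3, 2, 1, 4, 5, 0, 2, 3, 2, 1, 4, 0, 3, 2, 1] (pt 1)) = true := by decide +kernel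

theorem fix1 : fixB nets hs (ivl 1 5586) = true := by decide +kernel

theorem o1_0 : subB (ivl 5587 6384) (grow nets hs [0, 1, 2, 4, 3, 0, 5, 1, 4, 2, 0, 3, 1, 5, 4, 2, 0, 5, 3, 1, 0, 2, 4, 1, 3, 0, 4, 2, 3, 1, 4] (pt 5587)) = true := by decide +kernel

theorem fix2 : fixB nets hs (ivl 5587 6384) = true := by decide +kernel

theorem o2_0 : subB (ivl 11971 52136) (grow nets hs [2, 3, 4, 5, 1, 3, 2, 0, 3, 4, 1, 2, 0, 3, 1, 5, 4, 2, 0, 5, 1, 3, 0, 4, 2, 5, 3, 1, 4, 2, 0, 1, 3, 5, 4, 2, 0, 1, 3, 2, 4, 3, 1, 2, 1, 4, 0, 1, 2, 3, 2] (pt 11971)) = true := by decide +kernel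

theorem fix3 : fixB nets hs (ivl 11971 52136) = true := by decide +kernel

theorem o3_0 : subB (ivl 64107 58653) (grow nets hs [1, 2, 3, 4, 0, 1, 3, 5, 2, 3, 1, 0, 4, 2, 3, 1, 5, 2, 4, 0, 3, 1, 5, 4, 2, 0, 5, 3, 1, 2, 4, 0, 1, 3, 5, 2, 4, 1, 3, 4] (pt 64107)) = true := by decide +kernel

theorem fix4 : fixB nets hs (ivl 64107 58653) = true := by decide +kernel

theorem sub_0 : levelB nets [[0], [2], [4], [6], [8], [10]] [] 1 [4, 3, 5, 2, 1, 3, 4, 0, 2, 3, 5, 2, 1, 4, 3, 5, 0, 2, 4, 3, 4, 5, 2, 1, 3, 4, 2, 0, 3, 2, 1, 4, 5, 0, 2, 3, 2, 1, 4, 0, 3, 2, 1] 1 5586 5586 = true := by decide +kernel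

theorem sub_1 : levelB nets [[0], [2], [4], [6], [10]] [1] 247 [0, 1, 2, 3, 4, 0, 1, 2, 0, 1, 3, 0, 2, 3, 1] 247 4011 672 = true := by decide +kernel

theorem rels0_0 : RelsOn nets 122760 17 rels0 0 1 :=
  relsOn_of_B _ _ _ _ _ 1 _ (by decide +kernel) (by decide +kernel)

theorem rels0_1 : RelsOn nets 122760 17 rels0 1 2 :=
  relsOn_of_B _ _ _ _ _ 1 _ (by decide +kernel) (by decide +kernel)

theorem rels0_2 : RelsOn nets 122760 17 rels0 2 3 :=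
  relsOn_of_B _ _ _ _ _ 1 _ (by decide +kernel) (by decide +kernel)

theorem rels0_3 : RelsOn nets 122760 17 rels0 3 4 :=
  relsOn_of_B _ _ _ _ _ 1 _ (by decide +kernel) (by decide +kernel)

theorem rels0_4 : RelsOn nets 122760 17 rels0 4 5 :=
  relsOn_of_B _ _ _ _ _ 1 _ (by decide +kernel) (by decide +kernel)

theorem rels0_5 : RelsOn nets 122760 17 rels0 5 6 :=
  relsOn_of_B _ _ _ _ _ 1 _ (by decide +kernel) (by decide +kernel)

theorem rels0_6 : RelsOn nets 122760 17 rels0 6 7 :=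
  relsOn_of_B _ _ _ _ _ 1 _ (by decide +kernel) (by decide +kernel)

theorem rels0_7 : RelsOn nets 122760 17 rels0 7 8 :=
  relsOn_of_B _ _ _ _ _ 1 _ (by decide +kernel) (by decide +kernel)

theorem rels0_8 : RelsOn nets 122760 17 rels0 8 9 :=
  relsOn_of_B _ _ _ _ _ 1 _ (by decide +kernel) (by decide +kernel)

end Cfsg.Agent.Lib.ONA
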