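import Cfsg.Agent.Lib.ONTC
import Cfsg.Agent.Lib.ONAC0
import Cfsg.Agent.Lib.ONAC1
import Cfsg.Agent.Lib.ONAC2
import Cfsg.Agent.Lib.ONAC3
import Cfsg.Agent.Lib.ONAC4
import Cfsg.Agent.Lib.ONAC5

/-! The presented O'Nan group acting on 122760 points: index, suborbits, order, simplicity. -/

set_option autoImplicit false
set_option maxRecDepth 100000

namespace Cfsg.Agent.Lib.ONA

open Cfsg.Agent.Lib.PermNet Cfsg.Agent.Lib.Words Cfsg.Agent.Lib.PermGroup Cfsg.Agent.Lib.ONBase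

theorem hrels : ∀ w ∈ relW rels, wval nets.perm w = 1 :=
  relW_one (wval_eq_of_relsOn (K := 17) hv (by norm_num) ((((((((((((((((((((rels0_0.trans rels0_1).trans rels0_2).trans rels0_3).trans rels0_4).trans rels0_5).trans rels0_6).trans rels0_7).trans rels0_8).trans rels0_9).trans rels0_10).trans rels0_11).trans rels0_12).trans rels0_13).trans rels0_14).trans rels0_15).trans rels0_16).append (((((rels1_0.trans rels1_3).trans rels1_6).trans rels1_9).trans rels1_12).trans rels1_15)).append ((((((((((((((((rels2_0.trans rels2_1).trans rels2_2).trans rels2_3).trans rels2_4).trans rels2_5).trans rels2_6).trans rels2_7).trans rels2_8).trans rels2_9).trans rels2_10).trans rels2_11).trans rels2_12).trans rels2_13).trans rels2_14).trans rels2_15).trans rels2_16)).append ((((((((((((((((rels3_0.trans rels3_1).trans rels3_2).trans rels3_3).trans rels3_4).trans rels3_5).trans rels3_6).trans rels3_7).trans rels3_8).trans rels3_9).trans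 rels3_10).trans rels3_11).trans rels3_12).trans rels3_13).trans rels3_14).trans rels3_15).trans rels3_16)).append ((((((((((((((((rels4_0.trans rels4_1).trans rels4_2).trans rels4_3).trans rels4_4).trans rels4_5).trans rels4_6).trans rels4_7).trans rels4_8).trans rels4_9).trans rels4_10).trans rels4_11).trans rels4_12).trans rels4_13).trans rels4_14).trans rels4_15).trans rels4_16)))

/-- The generators followed by the auxiliary elements. -/
def Y : ℕ → Spor.ON := ext y 7 defs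

theorem hdefs : ∀ w ∈ defRels 7 defs, wval nets.perm w = 1 :=
  derive I hrels _ (by decide +kernel)

theorem exists_phi : ∃ φ : Spor.ON →* Equiv.Perm ℕ, ∀ i, φ (Y i) = nets.perm i := by
  obtain ⟨φ, h⟩ := exists_hom nets.perm (derive I hrels K (by decide +kernel))
  exact ⟨φ, map_ext φ y 7 defs nets h hdefs (by decide +kernel)⟩

noncomputable def phi : Spor.ON →* Equiv.Perm ℕ := exists_phi.choose

theorem hphi : ∀ i, phi (Y i) = nets.perm i := exists_phi.choose_spec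

theorem gpY (ws : List (List ℕ))
    (hw : ws.all (fun w => w.all (fun l => decide (l < 2 * 7))) = true) : gp Y ws = gp y ws :=
  gp_ext y 7 defs ws hw

theorem hKY : ∀ w ∈ K, wval Y w = 1 := (rels_ext 7 defs (by decide +kernel)).2 hK

theorem htr : InOrb phi.range 0 (ones 122760) := (InOrb.step hv (wval_mem_range hphi _) [6, 1, 2, 3, 4, 6, 1, 3, 2, 5, 0, 1, 3, 4, 6, 2, 3, 6, 1, 4, 2, 6, 3, 1, 0, 6, 4, 2, 1, 3] (inOrb_pt _ 0) tr_0)

theorem index_hs : (gp Y hs).index = 122760 ∧ ∀ g, g ∈ gp Y hs ↔ phi g 0 = 0 :=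
  index_gp_eq hv hphi (by rw [gpY hs (by decide)]; exact ONTC.index1) fix0 htr

theorem index_eq : (gp y hs).index = 122760 := by rw [← gpY hs (by decide)]; exact index_hs.1

theorem orb0 : InOrb (gp nets.perm hs) 1 (ivl 1 5586) := (InOrb.step hv (fun _ h => mem_gp h) [4, 3, 5, 2, 1, 3, 4, 0, 2, 3, 5, 2, 1, 4, 3, 5, 0, 2, 4, 3, 4, 5, 2, 1, 3, 4, 2, 0, 3, 2, 1, 4, 5, 0, 2, 3, 2, 1, 4, 0, 3, 2, 1] (inOrb_pt _ 1) o0_0)

theorem suborbit0 : ∃ q : Spor.ON ⧸ gp Y hs,
    toPt index_hs.2 '' MulAction.orbit (gp Y hs) q = Set.Ico 1 (1 + 5586) ∧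
      (MulAction.orbit (gp Y hs) q).ncard = 5586 :=
  exists_suborbit hv hphi index_hs.2 htr (by norm_num) (by norm_num) orb0 fix1

theorem orb1 : InOrb (gp nets.perm hs) 5587 (ivl 5587 6384) := (InOrb.step hv (fun _ h => mem_gp h) [0, 1, 2, 4, 3, 0, 5, 1, 4, 2, 0, 3, 1, 5, 4, 2, 0, 5, 3, 1, 0, 2, 4, 1, 3, 0, 4, 2, 3, 1, 4] (inOrb_pt _ 5587) o1_0)

theorem suborbit1 : ∃ q : Spor.ON ⧸ gp Y hs,
    toPt index_hs.2 '' MulAction.orbit (gp Y hs) q = Set.Ico 5587 (5587 + 6384) ∧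
      (MulAction.orbit (gp Y hs) q).ncard = 6384 :=
  exists_suborbit hv hphi index_hs.2 htr (by norm_num) (by norm_num) orb1 fix2

theorem orb2 : InOrb (gp nets.perm hs) 11971 (ivl 11971 52136) := (InOrb.step hv (fun _ h => mem_gp h) [2, 3, 4, 5, 1, 3, 2, 0, 3, 4, 1, 2, 0, 3, 1, 5, 4, 2, 0, 5, 1, 3, 0, 4, 2, 5, 3, 1, 4, 2, 0, 1, 3, 5, 4, 2, 0, 1, 3, 2, 4, 3, 1, 2, 1, 4, 0, 1, 2, 3, 2] (inOrb_pt _ 11971) o2_0)

theorem suborbit2 : ∃ q : Spor.ON ⧸ gp Y hs,
    toPt index_hs.2 '' MulAction.orbit (gp Y hs) q = Set.Ico 11971 (11971 + 52136) ∧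
      (MulAction.orbit (gp Y hs) q).ncard = 52136 :=
  exists_suborbit hv hphi index_hs.2 htr (by norm_num) (by norm_num) orb2 fix3

theorem orb3 : InOrb (gp nets.perm hs) 64107 (ivl 64107 58653) := (InOrb.step hv (fun _ h => mem_gp h) [1, 2, 3, 4, 0, 1, 3, 5, 2, 3, 1, 0, 4, 2, 3, 1, 5, 2, 4, 0, 3, 1, 5, 4, 2, 0, 5, 3, 1, 2, 4, 0, 1, 3, 5, 2, 4, 1, 3, 4] (inOrb_pt _ 64107) o3_0)

theorem suborbit3 : ∃ q : Spor.ON ⧸ gp Y hs,
    toPt index_hs.2 '' MulAction.orbit (gp Y hs) q = Set.Ico 64107 (64107 + 58653) ∧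
      (MulAction.orbit (gp Y hs) q).ncard = 58653 :=
  exists_suborbit hv hphi index_hs.2 htr (by norm_num) (by norm_num) orb3 fix4

theorem topY : gp Y allg = ⊤ := by rw [gpY allg (by decide)]; exact gp_top (by decide)

theorem coatom : IsCoatom (gp Y hs) :=
  isCoatom_of_cover hv hphi index_hs.2 [12] (by rw [gpY _ (by decide)]; exact gp_top (by decide)) 64107 (by norm_num) (by decide +kernel)
    [(5586, [12, 6, 12], [10, 0, 10, 6, 0, 10, 6, 0, 6, 0, 10, 0]), (6384, [13, 6, 2, 4, 2, 12], [6, 0, 2, 0, 4, 2, 0]), (52136, [6, 13, 8, 12], [0, 0, 6, 0, 10, 8, 6, 0]), (58653, [12], [0])]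
    (by decide +kernel) ⟨orb0, orb1, orb2, orb3, trivial⟩

theorem faithful_hs : Nat.card (gp Y hs) = 3753792 ∧ ∀ g ∈ gp Y hs, phi g = 1 → g = 1 := by
  have h : Nat.card (gp Y hs) ≠ 0 ∧ Nat.card (gp Y hs) ≤ 3753792 := by
    rw [gpY _ (by decide)]; exact ONTC.card_hs
  refine faithful_of_card phi h ?_
  have := finite_map phi h.1
  rw [map_gp' hphi] at this ⊢
  rw [← fixer_nil (gp nets.perm _)]
  exact (le_card_fixer hv [[0], [2], [4], [6], [8], [10]] (mem_gp_of_lettersIn (by decide +kernel)) [] 1 [4, 3, 5, 2, 1, 3, 4, 0, 2, 3, 5, 2, 1, 4, 3, 5, 0, 2, 4, 3, 4, 5, 2, 1, 3, 4, 2, 0, 3, 2, 1, 4, 5, 0, 2, 3, 2, 1, 4, 0, 3, 2, 1] 1 5586 5586 sub_0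
    (le_card_fixer hv [[0], [2], [4], [6], [10]] (mem_gp_of_lettersIn (by decide +kernel)) [1] 247 [0, 1, 2, 3, 4, 0, 1, 2, 0, 1, 3, 0, 2, 3, 1] 247 4011 672 sub_1
    (one_le_card_fixer _)))

theorem card_hs : Nat.card (gp Y hs) = 3753792 := faithful_hs.1

theorem phi_eq_one {g : Spor.ON} (h : phi g = 1) : g = 1 :=
  faithful_hs.2 g ((index_hs.2 g).2 (by rw [h]; rfl)) h

theorem card_eq : Nat.card Spor.ON = 460815505920 := by
  rw [← (gp Y hs).index_mul_card, index_hs.1, card_hs]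

instance finiteG : Finite Spor.ON := Nat.finite_of_card_ne_zero (by rw [card_eq]; norm_num)

/-- Every relation checked on the networks holds in the group. -/
theorem hrelsY : ∀ w ∈ relW rels, wval Y w = 1 :=
  rels_of_faithful (L := ⊤) hphi (fun _ _ h => phi_eq_one h) (fun _ _ => trivial) hrels

theorem simple : IsSimpleGroup Spor.ON := by
  refine isSimpleGroup_of coatom (fun M hM h => ?_) (p := 11) (by norm_num)
    (by rw [card_hs]; norm_num) (fun M hM h => ?_)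
  · exact eq_bot_iff.2 fun g hg =>
      phi_eq_one (core_of_faithful hv hphi topY index_hs.2 htr hM h hg)
  · rw [eq_top_iff, ← topY]
    exact le_of_steps I (all_append hKY hrelsY) 11 [[12, 8, 2, 12, 4, 2, 0, 13, 6], [10, 12, 4, 6, 13, 8, 2]] allg
      [([12, 8, 2, 12, 4, 2, 0, 13, 6], [0], 5, 2), ([10, 12, 4, 6, 13, 8, 2], [6], 15, 2), ([0], [2], 3, 2), ([2], [4], 3, 2), ([6], [8], 3, 2), ([8], [10], 3, 2), ([2, 4, 6], [12], 5, 4)]
      (by decide +kernel) M hM h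

end Cfsg.Agent.Lib.ONA
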