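import Cfsg.Agent.Lib.ONAN0
import Cfsg.Agent.Lib.ONAN4

set_option autoImplicit false
set_option maxRecDepth 100000

namespace Cfsg.Agent.Lib.ONA
open Cfsg.Agent.Lib.PermNet

noncomputable def nets : NL := (.cons net0 (.cons net1 (.cons net2 (.cons net3 (.cons net4 (.cons net5 (.cons net6 .nil)))))))

theorem hv : nets.Valid 122760 := ⟨valid0, ⟨valid1, ⟨valid2, ⟨valid3, ⟨valid4, ⟨valid5, ⟨valid6, trivial⟩⟩⟩⟩⟩⟩⟩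

def rels0 : List (List Nat × List Nat) := [([0, 0], []),
  ([2, 2], []),
  ([4, 4], []),
  ([6, 6], []),
  ([8, 8], []),
  ([10, 10], []),
  ([0, 2, 0], [2, 0, 2]),
  ([0, 4], [4, 0]),
  ([0, 6], [6, 0]),
  ([0, 8], [8, 0]),
  ([0, 10], [10, 0]),
  ([2, 4, 2], [4, 2, 4]),
  ([2, 6], [6, 2]),
  ([2, 8], [8, 2]),
  ([2, 10], [10, 2]),
  ([4, 6, 4, 6, 4, 6, 4, 6], [6, 4, 6, 4, 6, 4, 6, 4]),
  ([4, 8], [8, 4]),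
  ([4, 10], [10, 4]),
  ([6, 8, 6], [8, 6, 8]),
  ([6, 10], [10, 6]),
  ([8, 10, 8], [10, 8, 10]),
  ([0, 10], [12, 12]),
  ([0, 10, 6, 4, 6], [4, 6, 4, 6, 4]),
  ([4, 13, 6, 13, 6], [13, 6, 13, 6, 4]),
  ([6, 13, 4, 13, 4], [13, 4, 13, 4, 6])]
def rels1 : List (List Nat × List Nat) := [([2, 4, 6, 12, 2, 4, 6, 12, 2, 4], [13, 6, 4, 2, 13, 6, 4, 2, 13, 6]),
  ([12, 2, 4, 12, 4, 2], [4, 13, 4, 2, 13]),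
  ([12, 8, 6, 12, 6, 8], [6, 13, 6, 8, 13])]
def rels2 : List (List Nat × List Nat) := [([12, 8, 2, 12, 4, 2, 0, 13, 6, 12, 8, 2, 12, 4, 2, 0, 13, 6, 12, 8, 2, 12, 4, 2, 0, 13, 6, 12, 8, 2, 12, 4, 2, 0, 13, 6, 12, 8, 2, 12, 4, 2, 0, 13, 6, 12, 8, 2, 12, 4], [6, 12, 0, 2, 4, 13, 2, 8, 13, 6, 12, 0, 2, 4, 13, 2, 8, 13, 6, 12, 0, 2, 4, 13, 2, 8, 13, 6, 12, 0, 2, 4, 13, 2, 8, 13, 6, 12, 0, 2, 4, 13, 2, 8, 13, 6, 12, 0, 2])]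
def rels3 : List (List Nat × List Nat) := [([12, 8, 2, 12, 4, 2, 0, 13, 6, 0, 12, 8, 2, 12, 4, 2, 0, 13, 6, 0, 12, 8, 2, 12, 4], [0, 6, 12, 0, 2, 4, 13, 2, 8, 13, 0, 6, 12, 0, 2, 4, 13, 2, 8, 13, 0, 6, 12, 0, 2]),
  ([10, 12, 4, 6, 13, 8, 2, 10, 12, 4, 6, 13, 8, 2, 10, 12, 4, 6, 13, 8, 2, 10, 12, 4, 6, 13, 8, 2, 10, 12, 4, 6, 13, 8, 2, 10, 12, 4, 6], [2, 8, 12, 6, 4, 13, 10, 2, 8, 12, 6, 4, 13, 10, 2, 8, 12, 6, 4, 13, 10, 2, 8, 12, 6, 4, 13, 10, 2, 8, 12, 6, 4, 13, 10, 2, 8, 12])]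
def rels4 : List (List Nat × List Nat) := [([10, 12, 4, 6, 13, 8, 2, 6, 10, 12, 4, 6, 13, 8, 2, 6, 10, 12, 4, 6, 13, 8, 2, 6, 10, 12, 4, 6, 13, 8, 2, 6, 10, 12, 4, 6, 13, 8, 2, 6, 10, 12, 4, 6, 13, 8, 2, 6, 10, 12, 4, 6, 13, 8, 2, 6, 10, 12, 4, 6], [6, 2, 8, 12, 6, 4, 13, 10, 6, 2, 8, 12, 6, 4, 13, 10, 6, 2, 8, 12, 6, 4, 13, 10, 6, 2, 8, 12, 6, 4, 13, 10, 6, 2, 8, 12, 6, 4, 13, 10, 6, 2, 8, 12, 6, 4, 13, 10, 6, 2, 8, 12, 6, 4, 13, 10, 6, 2, 8, 12]),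
  ([12, 12], [13, 13])]
def rels : List (List Nat × List Nat) := ((((rels0 ++ rels1) ++ rels2) ++ rels3) ++ rels4)

def defs : List (List Nat) := []

def allg : List (List Nat) := [[0], [2], [4], [6], [8], [10], [12]]

def hs : List (List Nat) := [[0], [2], [4], [6], [8], [10]]

end Cfsg.Agent.Lib.ONA
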