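import Cfsg.Agent.Lib.BT4

/-! Certificates. -/

set_option autoImplicit false
set_option maxRecDepth 100000

namespace Cfsg.Agent.Lib.ONE

open Cfsg.Agent.Lib.PermNet Cfsg.Agent.Lib.Words Cfsg.Agent.Lib.PermGroup Cfsg.Agent.Lib.DCE Cfsg.Agent.Lib.PermModel Cfsg.Agent.Lib.BT

noncomputable def xk15 : CT := (nd [(1013, (lf [(623, [23, 1, 23, 1]), (406, [13, 3, 23, 1, 24])])),
  (659, (lf [(29, [21, 1, 23, 1, 8]), (568, [14, 2, 23, 1, 24, 8])])),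
  (830, (lf [(623, [22, 2, 24, 23, 1]), (568, [15, 4, 24, 23, 1, 24])])),
  (821, (lf [(446, [23, 6, 23, 1, 14]), (549, [24, 0, 23, 1, 14, 24])])),
  (1010, (lf [(394, [24, 0, 23, 1, 17]), (617, [24, 0, 23, 1, 17, 24])])),
  (1031, (lf [(363, [24, 0, 23, 1, 16]), (115, [24, 0, 23, 1, 16, 24])])),
  (1007, (lf [(623, [24, 0, 23, 21, 1]), (406, [24, 0, 23, 1, 24, 21])])),
  (816, (lf [(29, [20, 2, 24, 23, 1, 8]), (406, [12, 2, 23, 2, 23, 5])])),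
  (959, (lf [(197, [21, 6, 23, 1, 14, 8]), (293, [24, 0, 23, 1, 14, 24, 8])])),
  (642, (lf [(29, [24, 0, 23, 21, 1, 8]), (568, [24, 0, 16, 6, 18, 5, 1])])),
  (847, (lf [(446, [24, 0, 23, 1, 14, 12]), (293, [15, 3, 14, 23, 24, 3, 0])])),
  (1057, (lf [(394, [24, 0, 23, 1, 17, 12]), (115, [24, 0, 23, 12, 17, 12, 0])])),
  (878, (lf [(363, [24, 0, 23, 12, 17, 0]), (617, [24, 0, 4, 2, 8, 18, 6])])),
  (846, (lf [(623, [24, 0, 24, 23, 21, 1]), (568, [24, 0, 5, 18, 3, 12, 0])])),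
  (1059, (lf [(550, [22, 5, 24, 23, 1, 14]), (402, [24, 0, 1, 16, 18, 8, 1])])),
  (1026, (lf [(467, [24, 0, 23, 1, 17, 14]), (264, [24, 0, 4, 22, 8, 2, 0])])),
  (796, (lf [(420, [24, 0, 23, 1, 16, 14]), (7, [24, 0, 24, 18, 5, 18, 0])])),
  (865, (lf [(446, [24, 0, 23, 21, 1, 14]), (549, [24, 0, 5, 14, 0, 23, 5])])),
  (1015, (lf [(467, [24, 0, 23, 1, 14, 17]), (264, [14, 5, 17, 6, 18, 12, 4])])),
  (1019, (lf [(394, [24, 0, 23, 21, 1, 17]), (617, [24, 0, 12, 1, 14, 4, 8])])),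
  (785, (lf [(420, [24, 0, 23, 1, 14, 16]), (7, [13, 4, 3, 1, 16, 23, 6])])),
  (1065, (lf [(363, [24, 0, 23, 21, 1, 16]), (115, [24, 0, 12, 1, 14, 10, 4])])),
  (1030, (lf [(197, [24, 0, 20, 5, 14, 3, 0]), (549, [12, 5, 20, 12, 6, 4, 3])])),
  (672, (lf [(29, [24, 0, 23, 2, 22, 5]), (406, [24, 0, 14, 12, 3, 17, 3])])),
  (1033, (lf [(19, [20, 5, 22, 1, 16, 8, 5]), (217, [24, 0, 23, 1, 24, 14, 12])])),
  (843, (lf [(197, [24, 0, 0, 16, 4, 24, 2]), (293, [24, 0, 18, 6, 12, 4, 1])])),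
  (748, (lf [(550, [24, 0, 2, 24, 6, 12, 0]), (217, [13, 4, 23, 1, 24, 14])])),
  (655, (lf [(467, [24, 0, 2, 18, 22, 21, 0]), (7, [24, 0, 17, 1, 22, 16, 0])])),
  (845, (lf [(420, [24, 0, 2, 16, 2, 17, 0]), (264, [24, 0, 3, 14, 1, 18, 16])])),
  (975, (lf [(446, [24, 0, 24, 14, 5, 12, 2]), (293, [24, 0, 22, 12, 17, 3, 0])])),
  (661, (lf [(467, [20, 5, 2, 18, 22, 10, 0]), (7, [24, 0, 4, 23, 4, 18, 2])])),
  (917, (lf [(394, [24, 0, 23, 8, 3, 14, 2]), (115, [24, 0, 14, 24, 22, 12, 0])])),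
  (849, (lf [(420, [22, 5, 1, 1, 24, 22, 2]), (264, [24, 0, 1, 23, 0, 18, 1])])),
  (840, (lf [(363, [24, 0, 14, 24, 22, 0]), (617, [24, 0, 6, 18, 5, 23, 18])])),
  (784, (lf [(569, [24, 0, 8, 3, 16, 6, 3]), (151, [24, 0, 21, 4, 1, 3])])),
  (1035, (lf [(463, [24, 0, 8, 4, 24, 2, 0]), (322, [24, 0, 2, 12, 0, 4, 0])])),
  (692, (lf [(596, [24, 0, 17, 6, 18, 23, 4]), (239, [24, 0, 23, 0, 18, 8, 5])])),
  (1063, (lf [(550, [24, 0, 17, 0, 12, 5]), (402, [24, 0, 4, 1, 3, 14, 8])])),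
  (1051, (lf [(239, [24, 0, 18, 5, 18, 12, 0]), (463, [24, 0, 22, 24, 0, 3, 0])])),
  (1028, (lf [(322, [24, 0, 17, 5, 2, 16, 0]), (596, [24, 0, 18, 5, 18, 0])])),
  (956, (lf [(239, [24, 0, 3, 22, 2, 22, 2]), (463, [23, 6, 4, 8, 23, 2, 0])])),
  (948, (lf [(322, [24, 0, 12, 1, 14, 4, 14]), (596, [21, 6, 21, 18, 5, 18, 0])])),
  (993, (lf [(19, [24, 0, 16, 1, 2, 18, 22]), (402, [14, 5, 2, 24, 10, 6, 0])])),
  (989, (lf [(197, [24, 0, 5, 14, 3, 0]), (549, [24, 0, 12, 6, 4, 3])])),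
  (714, (lf [(196, [24, 0, 23, 16, 18, 17, 1]), (14, [24, 0, 3, 18, 5, 3])])),
  (848, (lf [(19, [24, 0, 16, 22, 3, 18]), (217, [24, 0, 4, 1, 3, 14])])),
  (664, (lf [(569, [24, 0, 14, 1, 14, 0, 23]), (14, [24, 0, 17, 14, 23, 1, 2])])),
  (868, (lf [(550, [24, 0, 14, 5, 12, 2]), (217, [24, 0, 4, 1, 3, 14, 12])])),
  (828, (lf [(239, [12, 5, 4, 1, 3, 16, 14]), (596, [24, 0, 14, 24, 22, 0, 14])])),
  (1027, (lf [(322, [15, 3, 22, 6, 17, 23, 3]), (463, [24, 0, 14, 6, 8, 0, 3])])),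
  (774, (lf [(196, [24, 0, 18, 17, 6, 18]), (151, [24, 0, 17, 1, 3, 14, 1])])),
  (762, (lf [(17, [24, 0, 6, 23, 5, 1, 8]), (221, [24, 0, 1, 23, 6, 8, 5])])),
  (644, (lf [(74, [24, 0, 6, 23, 10, 5, 1]), (314, [24, 0, 0, 4, 22, 6])])),
  (806, (lf [(569, [24, 0, 16, 6, 2, 23, 3]), (151, [24, 0, 10, 4, 1, 3])])),
  (698, (lf [(17, [20, 2, 16, 6, 1, 14, 2]), (221, [12, 2, 4, 1, 3, 16])])),
  (637, (lf [(74, [22, 2, 6, 23, 21, 5, 1]), (314, [15, 4, 4, 1, 3, 17])])),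
  (653, (lf [(314, [14, 2, 23, 23, 5, 14, 0]), (17, [21, 1, 8, 18, 24, 6])])),
  (841, (lf [(221, [13, 3, 4, 1, 3, 16, 12]), (74, [23, 1, 4, 24, 4, 14, 0])])),
  (677, (lf [(314, [24, 0, 5, 24, 14, 10, 0]), (17, [24, 0, 8, 18, 24, 20, 6])])),
  (981, (lf [(402, [24, 0, 2, 24, 21, 6, 0]), (19, [24, 0, 6, 3, 23, 18, 0])])),
  (707, (lf [(221, [24, 0, 22, 14, 2, 0, 0]), (74, [24, 0, 5, 23, 23, 14, 0])])),
  (731, (lf [(196, [24, 0, 14, 22, 18, 17, 1]), (14, [24, 0, 18, 1, 1, 22, 1])])),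
  (710, (lf [(569, [24, 0, 18, 1, 8, 1, 18]), (14, [24, 0, 12, 18, 16, 6, 1])])),
  (869, (lf [(196, [24, 0, 5, 18, 12, 3, 0]), (151, [24, 0, 4, 1, 3, 12])]))])

noncomputable def xk14 : CT := (.node 1074 [] [] (nat_lit 0x0) (lf [(0, [24, 0, 17, 1]), (418, [24, 0, 17, 1, 24])]) (.node 892 [] [] (nat_lit 0x0) (lf [(54, [24, 0, 17, 1, 8]), (231, [24, 0, 17, 1, 24, 8])]) (.node 1052 [] [] (nat_lit 0x0) (lf [(0, [24, 0, 16, 24, 1]), (231, [24, 0, 16, 24, 1, 24])]) (.node 661 [] [] (nat_lit 0x0) (lf [(480, [24, 0, 17, 1, 14]), (330, [24, 0, 17, 1, 14, 24])]) (.node 1051 [] [] (nat_lit 0x0) (lf [(505, [24, 0, 17, 1, 17]), (203, [24, 0, 12, 16, 1, 17])]) (.node 643 [] [] (nat_lit 0x0) (lf [(184, [24, 0, 17, 1, 16]), (312, [24, 0, 12, 16, 1, 16])]) (.node 1009 [] [] (nat_lit 0x0) (lf [(0, [6, 4, 20, 17, 1]), (418, [24, 0, 17, 1, 24, 21])])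 (.node 763 [] [] (nat_lit 0x0) (lf [(54, [24, 0, 16, 24, 1, 8]), (418, [24, 0, 17, 2, 23, 5])]) (.node 894 [] [] (nat_lit 0x0) (lf [(537, [24, 0, 17, 1, 14, 8]), (353, [24, 0, 17, 1, 14, 24, 8])]) (.node 993 [] [] (nat_lit 0x0) (lf [(54, [7, 4, 20, 17, 1, 8]), (231, [24, 0, 17, 1, 24, 21, 8])]) (.node 891 [] [] (nat_lit 0x0) (lf [(505, [24, 0, 17, 1, 17, 12]), (312, [24, 0, 12, 24, 0])]) (.node 954 [] [] (nat_lit 0x0) (lf [(184, [24, 0, 24, 8, 0]), (203, [24, 0, 24, 8, 0, 24])]) (.node 1044 [] [] (nat_lit 0x0) (lf [(0, [24, 0, 21, 12, 16, 1]), (231, [0, 4, 0, 23, 6, 8, 0])]) (.node 1070 [] [] (nat_lit 0x0) (lf [(616, [24, 0, 16, 24, 1, 14]), (230, [24, 0, 18, 6, 16, 18, 5])]) (.node 703 [] [] (nat_lit 0x0) (lf [(62, [24, 0, 17, 1, 17, 14]), (425, [24, 0, 18, 17, 1, 16, 14])]) (.node 655 [] [] (nat_lit 0x0) (lf [(480, [6, 3, 20, 17,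 1, 14]), (330, [1, 3, 24, 2, 0, 4])]) (.node 697 [] [] (nat_lit 0x0) (lf [(62, [24, 0, 17, 1, 14, 17]), (425, [24, 0, 23, 6, 5, 18, 4])]) (.node 1014 [] [] (nat_lit 0x0) (lf [(505, [24, 0, 20, 17, 1, 17]), (203, [24, 0, 17, 2, 22, 5, 16])]) (.node 638 [] [] (nat_lit 0x0) (lf [(184, [24, 0, 20, 17, 1, 16]), (312, [24, 0, 12, 24, 21, 0, 12])]) (.node 876 [] [] (nat_lit 0x0) (lf [(54, [24, 0, 17, 2, 22, 5]), (418, [1, 4, 5, 18, 14, 10, 4])]) (.node 670 [] [] (nat_lit 0x0) (lf [(457, [24, 0, 16, 14, 3, 18]), (257, [24, 0, 17, 1, 24, 14, 12])]) (.node 905 [] [] (nat_lit 0x0) (lf [(537, [7, 3, 18, 4, 12, 0, 3]), (353, [0, 3, 0, 17, 4, 8, 6])]) (.node 861 [[10, 18]] [(62, 0)] (nat_lit 0x4000000000000000) (lf [(62, [24, 0, 24, 3, 23, 6])]) (.node 1000 [[10, 18]] [(385, 0)] (nat_lit 0x2000000000000000000000000000000000000000000000000000000000000000000000000000000000000000000000000)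 (lf [(385, [24, 0, 14, 2, 0, 18, 1])]) (.node 961 [[10, 18]] [(62, 0)] (nat_lit 0x4000000000000000) (lf [(62, [24, 0, 18, 5, 18, 16, 5])]) (.node 812 [] [] (nat_lit 0x0) (lf [(505, [24, 0, 16, 3, 14, 10, 2]), (312, [24, 0, 12, 24, 20, 0])]) (.node 973 [[10, 18]] [(385, 0)] (nat_lit 0x2000000000000000000000000000000000000000000000000000000000000000000000000000000000000000000000000) (lf [(385, [24, 0, 16, 18, 1, 23, 2])]) (.node 948 [] [] (nat_lit 0x0) (lf [(184, [24, 0, 24, 20, 8, 0]), (203, [24, 0, 12, 17, 3, 14, 2])]) (.node 854 [] [] (nat_lit 0x0) (lf [(592, [24, 0, 24, 12, 18, 14, 2]), (216, [24, 0, 1, 2, 12, 18, 16])]) (.node 1067 [] [] (nat_lit 0x0) (lf [(616, [24, 0, 21, 12, 16, 1, 14]), (230, [24, 0, 1, 2, 12, 18])]) (.node 718 [[18]] [(107, 0)] (nat_lit 0x800000000000000000000000000) (lf [(107, [24, 0, 14, 6, 22, 17, 2])])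 (.node 991 [[18]] [(216, 0)] (nat_lit 0x1000000000000000000000000000000000000000000000000000000) (lf [(216, [24, 0, 12, 24, 0, 12, 14])]) (.node 712 [[18]] [(107, 0)] (nat_lit 0x800000000000000000000000000) (lf [(107, [24, 0, 1, 4, 17, 24, 1])]) (.node 934 [[18]] [(216, 0)] (nat_lit 0x1000000000000000000000000000000000000000000000000000000) (lf [(216, [24, 0, 4, 2, 17, 5, 1])]) (.node 700 [] [] (nat_lit 0x0) (lf [(457, [24, 0, 16, 18, 6, 8, 0]), (257, [24, 0, 1, 2, 12, 18, 8])]) (.node 634 [] [] (nat_lit 0x0) (lf [(107, [24, 0, 1, 4, 16, 1]), (414, [24, 0, 24, 20, 8, 0, 14])]) .nil))))))))))))))))))))))))))))))))))))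

noncomputable def xk13 : CT := (nd [(828, (lf [(0, [24, 0, 12, 1]), (156, [24, 0, 12, 1, 24])])),
  (646, (lf [(29, [24, 0, 12, 1, 8]), (429, [24, 0, 17, 0, 16])])),
  (682, (lf [(0, [24, 0, 12, 1, 12]), (429, [24, 0, 17, 0, 16, 12])])),
  (783, (lf [(528, [24, 0, 12, 1, 14]), (393, [24, 0, 12, 1, 14, 24])])),
  (803, (lf [(573, [24, 0, 12, 1, 17]), (170, [3, 4, 24, 12, 1, 17])])),
  (647, (lf [(295, [24, 0, 17, 0, 12]), (111, [2, 4, 24, 17, 0, 12])])),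
  (743, (lf [(0, [24, 0, 21, 12, 1]), (156, [24, 0, 18, 12, 4, 3])])),
  (816, (lf [(29, [24, 0, 12, 1, 12, 8]), (156, [24, 0, 12, 2, 23, 5])])),
  (908, (lf [(556, [24, 0, 12, 1, 14, 8]), (330, [24, 0, 16, 6, 2, 16, 3])])),
  (654, (lf [(29, [24, 0, 22, 0, 18, 5]), (429, [24, 0, 21, 17, 0, 16])])),
  (847, (lf [(528, [24, 0, 12, 1, 14, 12]), (330, [24, 0, 22, 14, 23, 3, 0])])),
  (728, (lf [(573, [4, 4, 16, 8, 0, 8]), (111, [24, 0, 17, 12, 0])])),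
  (879, (lf [(295, [5, 4, 17, 0]), (170, [24, 0, 17, 0, 24])])),
  (655, (lf [(0, [24, 0, 24, 20, 12, 1]), (429, [24, 0, 12, 2, 24, 12, 5])])),
  (961, (lf [(544, [24, 0, 12, 1, 12, 14]), (473, [24, 0, 1, 23, 0, 16, 3])])),
  (664, (lf [(219, [24, 0, 12, 1, 17, 14]), (279, [24, 0, 4, 24, 22, 2, 0])])),
  (948, (lf [(510, [24, 0, 17, 0, 12, 14]), (381, [24, 0, 8, 5, 18, 2])])),
  (794, (lf [(528, [24, 0, 21, 12, 1, 14]), (393, [24, 0, 17, 8, 2, 0, 4])])),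
  (710, (lf [(219, [24, 0, 12, 1, 14, 17]), (279, [24, 0, 24, 22, 1, 22])])),
  (792, (lf [(573, [24, 0, 21, 12, 1, 17]), (170, [24, 0, 18, 24, 14, 2, 8])])),
  (954, (lf [(510, [24, 0, 12, 1, 14, 16]), (381, [24, 0, 21, 8, 5, 18, 2])])),
  (635, (lf [(295, [24, 0, 21, 17, 0, 12]), (111, [24, 0, 18, 24, 14, 10, 2])])),
  (981, (lf [(556, [24, 0, 12, 1, 14, 12, 8]), (393, [24, 0, 22, 1, 23, 17])])),
  (672, (lf [(29, [24, 0, 12, 2, 22, 5]), (156, [24, 0, 12, 2, 23, 21, 5])])),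
  (922, (lf [(316, [24, 0, 12, 1, 12, 14, 8]), (67, [24, 0, 1, 23, 21, 6, 4])])),
  (969, (lf [(556, [24, 0, 21, 12, 1, 14, 8]), (330, [24, 0, 24, 1, 23, 6, 4])])),
  (696, (lf [(544, [24, 0, 22, 1, 22, 16]), (67, [24, 0, 12, 1, 24, 14])])),
  (846, (lf [(219, [24, 0, 5, 0, 5, 12, 2]), (381, [24, 0, 17, 12, 0, 14])])),
  (941, (lf [(510, [24, 0, 16, 3, 23, 6, 8]), (279, [24, 0, 17, 0, 24, 14])])),
  (975, (lf [(528, [24, 0, 16, 5, 12, 8, 2]), (330, [24, 0, 23, 23, 17, 3, 0])])),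
  (851, (lf [(219, [24, 0, 22, 1, 24, 23]), (381, [24, 0, 22, 1, 8, 23])])),
  (719, (lf [(573, [24, 0, 20, 17, 0, 8]), (111, [24, 0, 21, 17, 12, 0])])),
  (944, (lf [(510, [24, 0, 22, 1, 23, 24]), (279, [24, 0, 22, 1, 23])])),
  (766, (lf [(295, [24, 0, 21, 17, 0]), (170, [24, 0, 22, 1, 23, 14])])),
  (773, (lf [(453, [24, 0, 18, 12, 3, 24, 4]), (151, [24, 0, 12, 1, 23, 23])])),
  (1035, (lf [(272, [4, 3, 8, 4, 8, 2, 0]), (348, [4, 3, 22, 3, 0, 23, 0])])),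
  (985, (lf [(300, [5, 3, 17, 0, 14]), (274, [5, 3, 17, 0, 14, 24])])),
  (861, (lf [(544, [24, 0, 23, 1, 16, 5]), (473, [24, 0, 24, 16, 2, 0, 4])])),
  (714, (lf [(274, [3, 3, 22, 2, 12, 5]), (272, [2, 3, 22, 1, 22, 21])])),
  (859, (lf [(348, [2, 3, 17, 12, 0, 12, 14]), (300, [3, 3, 4, 14, 16, 2, 0])])),
  (731, (lf [(274, [24, 0, 24, 0, 23, 18, 0]), (272, [24, 0, 22, 1, 22, 10])])),
  (796, (lf [(348, [24, 0, 22, 1, 24, 22]), (300, [24, 0, 22, 1, 22, 8])])),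
  (989, (lf [(316, [24, 0, 22, 1, 22, 16, 8]), (473, [24, 0, 17, 0, 16, 14])])),
  (993, (lf [(556, [24, 0, 24, 22, 1, 14, 23]), (393, [24, 0, 23, 6, 4, 3])])),
  (1051, (lf [(584, [24, 0, 12, 16, 18, 17, 1]), (600, [24, 0, 23, 6, 17, 18, 1])])),
  (932, (lf [(316, [24, 0, 16, 22, 1, 4, 3]), (67, [24, 0, 4, 0, 24, 6, 3])])),
  (1026, (lf [(453, [24, 0, 22, 1, 22, 17, 14]), (600, [24, 0, 12, 2, 23, 24, 5])])),
  (772, (lf [(544, [24, 0, 12, 18, 16, 4, 3]), (67, [24, 0, 17, 0, 14, 17])])),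
  (1013, (lf [(274, [24, 0, 18, 23, 4, 18, 5]), (300, [24, 0, 21, 17, 0, 14])])),
  (1027, (lf [(348, [24, 0, 5, 12, 3, 23, 4]), (272, [24, 0, 22, 1, 22, 12])])),
  (806, (lf [(584, [24, 0, 22, 1, 22, 16, 14]), (151, [24, 0, 4, 1, 2, 12, 2])])),
  (897, (lf [(22, [24, 0, 18, 23, 16, 0, 0]), (417, [5, 4, 18, 16, 18, 0])])),
  (767, (lf [(601, [24, 0, 18, 16, 18, 12, 0]), (504, [4, 4, 17, 3, 0, 22, 4])])),
  (774, (lf [(453, [24, 0, 6, 0, 18, 16, 18]), (151, [24, 0, 4, 24, 8, 1, 3])])),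
  (822, (lf [(22, [24, 0, 18, 14, 22, 0, 0]), (417, [24, 0, 21, 18, 16, 18, 0])])),
  (699, (lf [(601, [24, 0, 5, 14, 0, 23]), (504, [24, 0, 0, 3, 17, 5, 0])])),
  (713, (lf [(504, [24, 0, 22, 12, 5, 14, 0]), (22, [24, 0, 22, 1, 22, 14, 8])])),
  (1036, (lf [(417, [24, 0, 0, 14, 1, 24, 3]), (601, [24, 0, 22, 1, 22, 14, 10])])),
  (791, (lf [(504, [24, 0, 17, 0, 22, 22]), (22, [3, 4, 22, 1, 17, 23])])),
  (1030, (lf [(473, [24, 0, 17, 0, 14, 16]), (316, [24, 0, 22, 1, 14, 23])])),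
  (1040, (lf [(417, [24, 0, 6, 4, 14, 6, 3]), (601, [2, 4, 6, 3, 1, 22, 2])])),
  (956, (lf [(584, [24, 0, 16, 6, 1, 23, 2]), (600, [24, 0, 5, 22, 16, 14, 1])])),
  (1015, (lf [(453, [24, 0, 2, 16, 5, 17, 5]), (600, [24, 0, 23, 18, 16, 6, 1])])),
  (888, (lf [(584, [24, 0, 23, 18, 6, 17, 4]), (151, [24, 0, 3, 12, 17, 6, 0])]))])

noncomputable def xk12 : CT := (nd [(767, (lf [(4, [24, 0, 6, 1]), (504, [24, 0, 6, 1, 24])])),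
  (978, (lf [(50, [24, 0, 6, 1, 8]), (592, [24, 0, 6, 1, 24, 8])])),
  (712, (lf [(4, [24, 0, 6, 1, 12]), (592, [24, 0, 6, 1, 12, 24])])),
  (949, (lf [(386, [24, 0, 6, 1, 14]), (29, [24, 0, 8, 4, 1, 2])])),
  (655, (lf [(209, [24, 0, 6, 1, 17]), (45, [24, 0, 4, 3, 23, 4])])),
  (856, (lf [(305, [24, 0, 6, 1, 16]), (340, [24, 0, 6, 1, 16, 24])])),
  (755, (lf [(4, [8, 5, 20, 6, 1]), (504, [17, 6, 14, 16, 6, 3])])),
  (857, (lf [(50, [24, 0, 6, 1, 12, 8]), (504, [24, 0, 6, 2, 23, 5])])),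
  (837, (lf [(456, [24, 0, 6, 1, 14, 8]), (509, [24, 0, 8, 4, 1, 2, 8])])),
  (966, (lf [(50, [16, 5, 20, 6, 1, 8]), (592, [9, 6, 21, 17, 6, 17, 4])])),
  (808, (lf [(386, [24, 0, 6, 1, 14, 12]), (509, [24, 0, 8, 6, 14, 2, 1])])),
  (671, (lf [(209, [24, 0, 6, 1, 17, 12]), (340, [24, 0, 6, 12, 17, 12, 0])])),
  (921, (lf [(305, [24, 0, 6, 12, 17, 0]), (45, [24, 0, 24, 5, 0, 23, 2])])),
  (789, (lf [(4, [11, 5, 20, 6, 1, 12]), (592, [10, 6, 6, 2, 24, 12, 5])])),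
  (1054, (lf [(564, [24, 0, 6, 1, 12, 14]), (353, [24, 0, 23, 5, 0, 8, 1])])),
  (752, (lf [(527, [24, 0, 24, 6, 2, 8]), (621, [24, 0, 23, 21, 12, 6, 2])])),
  (791, (lf [(313, [24, 0, 24, 10, 6, 2]), (541, [24, 0, 18, 10, 6, 1, 4])])),
  (927, (lf [(386, [8, 2, 20, 6, 1, 14]), (29, [24, 0, 12, 1, 23, 0, 0])])),
  (765, (lf [(527, [24, 0, 6, 1, 14, 17]), (621, [17, 1, 23, 12, 6, 2])])),
  (682, (lf [(209, [24, 0, 20, 6, 1, 17]), (45, [24, 0, 4, 3, 23, 20, 4])])),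
  (781, (lf [(313, [24, 0, 24, 21, 6, 2]), (541, [9, 1, 21, 18, 6, 1, 4])])),
  (873, (lf [(305, [24, 0, 20, 6, 1, 16]), (340, [24, 0, 10, 1, 1, 5, 1])])),
  (900, (lf [(456, [24, 0, 16, 23, 18, 6, 5]), (29, [24, 0, 8, 4, 1, 2, 12])])),
  (969, (lf [(50, [19, 5, 6, 2, 22, 5]), (504, [18, 6, 16, 3, 16, 6, 5])])),
  (638, (lf [(594, [24, 0, 12, 2, 22, 5, 2]), (389, [24, 0, 8, 2, 23, 2])])),
  (851, (lf [(456, [16, 2, 18, 4, 18, 22, 5]), (509, [24, 0, 17, 4, 24, 14, 3])])),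
  (688, (lf [(564, [24, 0, 4, 18, 24, 17, 6]), (389, [24, 0, 6, 1, 24, 14])])),
  (826, (lf [(527, [24, 0, 24, 6, 2, 12, 8]), (541, [24, 0, 18, 6, 1, 4, 12])])),
  (914, (lf [(313, [24, 0, 3, 17, 0, 8, 1]), (621, [24, 0, 3, 23, 6, 23, 2])])),
  (743, (lf [(386, [24, 0, 4, 18, 0, 23, 2]), (509, [10, 1, 1, 24, 0, 3, 18])])),
  (867, (lf [(527, [11, 2, 6, 1, 14, 17, 12]), (541, [24, 0, 17, 3, 24, 4, 3])])),
  (815, (lf [(209, [24, 0, 4, 1, 1, 1]), (340, [24, 0, 16, 6, 1, 12, 3])])),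
  (695, (lf [(313, [19, 2, 2, 17, 18, 22]), (621, [24, 0, 18, 3, 8, 6, 3])])),
  (935, (lf [(305, [24, 0, 20, 6, 12, 17, 0]), (45, [24, 0, 1, 5, 1, 12, 1])])),
  (926, (lf [(309, [24, 0, 18, 24, 6, 5, 2]), (598, [24, 0, 6, 1, 23, 23])])),
  (987, (lf [(543, [24, 0, 4, 17, 23, 12, 0]), (59, [24, 0, 12, 14, 8, 0, 4])])),
  (1058, (lf [(60, [24, 0, 24, 16, 22, 0, 4]), (471, [24, 0, 4, 17, 23, 0])])),
  (1034, (lf [(564, [11, 2, 20, 6, 1, 12, 14]), (353, [24, 0, 22, 8, 18, 12, 2])])),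
  (1021, (lf [(471, [24, 0, 24, 6, 1, 22, 4]), (543, [24, 0, 1, 22, 20, 6, 5])])),
  (871, (lf [(59, [24, 0, 14, 3, 12, 18, 4]), (60, [24, 0, 24, 6, 1, 12, 4])])),
  (999, (lf [(471, [24, 0, 2, 17, 18, 23, 10]), (543, [16, 2, 1, 22, 10, 6, 5])])),
  (854, (lf [(59, [24, 0, 23, 23, 2, 14, 2]), (60, [8, 2, 1, 22, 6, 5, 8])])),
  (928, (lf [(594, [24, 0, 23, 1, 8, 2]), (353, [24, 0, 18, 8, 22, 18, 2])])),
  (786, (lf [(456, [24, 0, 18, 6, 1, 4, 16]), (29, [18, 1, 4, 23, 12, 1, 2])])),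
  (637, (lf [(442, [24, 0, 6, 16, 18, 17, 1]), (74, [24, 0, 6, 1, 23, 23, 8])])),
  (636, (lf [(594, [19, 2, 12, 1, 12, 8, 2]), (389, [24, 0, 18, 12, 5, 2, 0])])),
  (943, (lf [(309, [24, 0, 18, 1, 2, 14, 4]), (74, [24, 0, 23, 18, 6, 18])])),
  (874, (lf [(564, [24, 0, 24, 17, 5, 17, 2]), (389, [17, 1, 22, 22, 3, 24, 1])])),
  (1004, (lf [(471, [10, 1, 4, 8, 22, 14, 0]), (60, [24, 0, 17, 6, 14, 5])])),
  (877, (lf [(59, [18, 1, 4, 8, 18, 6, 1]), (543, [24, 0, 18, 23, 14, 3, 0])])),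
  (931, (lf [(442, [24, 0, 24, 14, 3, 12, 18]), (598, [24, 0, 3, 8, 6, 2, 1])])),
  (1076, (lf [(63, [24, 0, 2, 14, 6, 22, 5]), (190, [24, 0, 4, 3, 22, 21, 4])])),
  (858, (lf [(490, [24, 0, 12, 1, 4, 8, 0]), (77, [24, 0, 17, 18, 1, 14, 4])])),
  (1022, (lf [(309, [24, 0, 4, 24, 16, 0, 0, 0]), (598, [24, 0, 14, 2, 23, 8, 1])])),
  (953, (lf [(63, [11, 5, 18, 22, 4, 22, 1]), (190, [10, 6, 4, 3, 22, 4])])),
  (881, (lf [(490, [19, 5, 4, 3, 12, 4]), (77, [18, 6, 3, 12, 0, 4, 2])])),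
  (895, (lf [(77, [17, 6, 6, 23, 5, 14, 0]), (63, [8, 5, 3, 24, 4, 0, 2])])),
  (985, (lf [(190, [9, 6, 14, 6, 18, 4, 3]), (490, [16, 5, 2, 14, 6, 3, 1])])),
  (903, (lf [(77, [24, 0, 0, 18, 24, 22, 4, 0]), (63, [24, 0, 16, 22, 2, 16, 4])])),
  (1023, (lf [(353, [9, 1, 0, 18, 23, 23, 2]), (594, [24, 0, 8, 4, 14, 16, 1])])),
  (1013, (lf [(190, [24, 0, 5, 22, 14, 23, 6]), (490, [24, 0, 17, 18, 14, 23, 0])])),
  (644, (lf [(442, [24, 0, 24, 23, 12, 6, 1]), (74, [24, 0, 4, 3, 22, 4, 16])])),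
  (955, (lf [(309, [24, 0, 5, 3, 1, 17, 4]), (74, [24, 0, 2, 17, 2, 22, 0])])),
  (929, (lf [(442, [24, 0, 8, 23, 18, 22, 6]), (598, [24, 0, 14, 2, 23, 24, 1])]))])

noncomputable def xk11 : CT := (nd [(632, (lf [(3, [20, 4, 4, 1]), (210, [11, 6, 4, 1, 24])])),
  (737, (lf [(84, [22, 4, 4, 1, 8]), (505, [19, 6, 4, 1, 24, 8])])),
  (891, (lf [(3, [9, 3, 4, 1, 12]), (505, [14, 4, 4, 1, 12, 24])])),
  (959, (lf [(104, [20, 3, 4, 1, 14]), (115, [24, 0, 14, 6, 16, 23])])),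
  (909, (lf [(208, [24, 0, 4, 1, 17]), (209, [24, 0, 4, 1, 17, 24])])),
  (772, (lf [(304, [24, 0, 4, 1, 16]), (339, [24, 0, 4, 1, 16, 24])])),
  (663, (lf [(3, [24, 0, 21, 4, 1]), (210, [24, 0, 4, 1, 24, 21])])),
  (970, (lf [(84, [17, 3, 4, 1, 12, 8]), (210, [13, 6, 4, 2, 23, 5])])),
  (686, (lf [(205, [22, 3, 4, 1, 14, 8]), (357, [24, 0, 23, 1, 18, 6])])),
  (874, (lf [(84, [24, 0, 21, 4, 1, 8]), (505, [24, 0, 18, 3, 23, 20, 3])])),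
  (1018, (lf [(104, [24, 0, 4, 1, 14, 12]), (357, [14, 3, 2, 8, 18, 6, 2])])),
  (746, (lf [(208, [24, 0, 4, 1, 17, 12]), (339, [24, 0, 4, 12, 17, 12, 0])])),
  (967, (lf [(304, [24, 0, 4, 12, 17, 0]), (209, [24, 0, 4, 1, 12, 17, 12])])),
  (799, (lf [(3, [24, 0, 14, 6, 23, 8]), (505, [24, 0, 24, 3, 18, 0, 4])])),
  (908, (lf [(553, [9, 4, 4, 1, 12, 14]), (111, [24, 0, 12, 1, 18, 6, 8])])),
  (1070, (lf [(488, [24, 0, 3, 18, 8, 3]), (346, [24, 0, 0, 17, 0, 17, 1])])),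
  (782, (lf [(489, [24, 0, 4, 1, 16, 14]), (325, [24, 0, 24, 22, 14, 24, 6])])),
  (843, (lf [(104, [24, 0, 21, 4, 1, 14]), (115, [24, 0, 14, 6, 22, 14])])),
  (1075, (lf [(488, [24, 0, 4, 1, 14, 17]), (346, [24, 0, 17, 18, 14, 3, 1])])),
  (827, (lf [(208, [24, 0, 21, 4, 1, 17]), (209, [24, 0, 14, 6, 23, 16])])),
  (721, (lf [(489, [24, 0, 4, 1, 14, 16]), (325, [24, 0, 3, 12, 18, 22, 2])])),
  (748, (lf [(304, [24, 0, 21, 4, 1, 16]), (339, [24, 0, 14, 6, 23, 17])])),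
  (1031, (lf [(205, [24, 0, 4, 1, 14, 12, 8]), (115, [13, 1, 14, 6, 16, 23, 12])])),
  (904, (lf [(84, [24, 0, 14, 6, 23]), (210, [24, 0, 14, 6, 23, 24])])),
  (920, (lf [(558, [17, 4, 14, 6, 17, 22]), (280, [24, 0, 12, 1, 18, 6])])),
  (650, (lf [(205, [24, 0, 21, 4, 1, 14, 8]), (357, [24, 0, 23, 21, 1, 18, 6])])),
  (914, (lf [(553, [24, 0, 24, 6, 17, 6, 0]), (280, [11, 1, 4, 1, 24, 14])])),
  (787, (lf [(488, [24, 0, 3, 18, 8, 3, 12]), (325, [24, 0, 22, 2, 14, 16, 3])])),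
  (1054, (lf [(489, [24, 0, 4, 1, 16, 14, 12]), (346, [24, 0, 22, 17, 6, 0, 3])])),
  (1025, (lf [(104, [24, 0, 8, 2, 16, 22, 0]), (357, [24, 0, 17, 8, 0, 5, 0, 0])])),
  (807, (lf [(488, [24, 0, 22, 22, 3, 23, 2]), (325, [24, 0, 1, 18, 1, 5, 2])])),
  (825, (lf [(208, [24, 0, 6, 5, 1, 1, 1]), (339, [24, 0, 17, 23, 6, 17, 3])])),
  (957, (lf [(489, [24, 0, 16, 2, 18, 14, 4]), (346, [24, 0, 14, 23, 6, 0, 3])])),
  (924, (lf [(304, [24, 0, 21, 4, 12, 17, 0]), (209, [24, 0, 22, 4, 17, 3, 1])])),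
  (1060, (lf [(514, [24, 0, 0, 22, 18, 8, 0]), (212, [24, 0, 23, 18, 22, 18])])),
  (990, (lf [(138, [24, 0, 4, 1, 17, 12, 14]), (242, [24, 0, 17, 1, 14, 6, 17, 0])])),
  (776, (lf [(59, [24, 0, 0, 22, 2, 8, 1]), (365, [24, 0, 6, 5, 17, 23, 0])])),
  (969, (lf [(553, [24, 0, 23, 0, 16, 0, 0]), (111, [24, 0, 23, 4, 14, 8, 4])])),
  (844, (lf [(365, [24, 0, 0, 4, 23, 5, 0]), (138, [24, 0, 18, 5, 0, 4])])),
  (974, (lf [(242, [24, 0, 4, 1, 12, 16, 14]), (59, [24, 0, 0, 22, 2, 24, 1])])),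
  (860, (lf [(365, [24, 0, 8, 3, 0, 23, 3]), (138, [24, 0, 3, 1, 16, 6])])),
  (1014, (lf [(242, [24, 0, 16, 23, 2, 14, 0]), (59, [24, 0, 18, 6, 5, 16, 3])])),
  (647, (lf [(558, [24, 0, 17, 0, 0, 22, 3]), (111, [19, 1, 8, 6, 5, 3])])),
  (1065, (lf [(205, [24, 0, 2, 14, 1, 22, 0, 0]), (115, [24, 0, 23, 6, 18, 23, 1])])),
  (1042, (lf [(535, [24, 0, 4, 16, 18, 17, 1]), (151, [24, 0, 23, 0, 4, 18, 5])])),
  (973, (lf [(558, [24, 0, 14, 6, 23, 14]), (280, [24, 0, 0, 16, 23, 2])])),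
  (817, (lf [(514, [24, 0, 24, 1, 24, 2, 0]), (151, [24, 0, 14, 6, 22, 20])])),
  (747, (lf [(553, [24, 0, 4, 18, 16, 4, 3]), (280, [24, 0, 5, 12, 3, 14, 3])])),
  (759, (lf [(365, [24, 0, 12, 1, 18, 6, 16]), (59, [24, 0, 24, 5, 18, 0, 0])])),
  (992, (lf [(242, [24, 0, 12, 1, 18, 6, 17]), (138, [24, 0, 8, 6, 5, 3, 16])])),
  (689, (lf [(535, [24, 0, 22, 16, 0, 5, 17]), (212, [24, 0, 12, 18, 22, 18])])),
  (723, (lf [(62, [24, 0, 14, 6, 14, 23]), (396, [24, 0, 23, 4, 16, 8, 5])])),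
  (1044, (lf [(347, [24, 0, 12, 6, 5, 18, 0]), (286, [24, 0, 23, 6, 5, 18, 0])])),
  (1062, (lf [(514, [24, 0, 14, 6, 22, 24, 12]), (212, [24, 0, 4, 1, 5, 24, 4])])),
  (804, (lf [(62, [24, 0, 20, 12, 4, 17, 5]), (396, [24, 0, 6, 5, 3, 22, 4])])),
  (1052, (lf [(347, [24, 0, 6, 5, 3, 12, 4]), (286, [24, 0, 14, 6, 22, 12, 16])])),
  (1057, (lf [(286, [24, 0, 4, 23, 5, 14, 0]), (62, [24, 0, 14, 23, 8, 0, 5])])),
  (802, (lf [(396, [24, 0, 6, 22, 22, 17, 6]), (347, [24, 0, 14, 6, 22, 16, 12])])),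
  (1003, (lf [(286, [24, 0, 22, 12, 18, 6, 2, 0]), (62, [24, 0, 0, 2, 17, 3, 1])])),
  (631, (lf [(111, [24, 0, 2, 16, 8, 1, 3]), (558, [24, 0, 5, 24, 18, 16, 3])])),
  (719, (lf [(396, [24, 0, 23, 6, 3, 18, 3]), (347, [24, 0, 12, 18, 2, 17, 3])])),
  (945, (lf [(535, [24, 0, 3, 1, 18, 12, 5]), (151, [24, 0, 14, 6, 22, 12])])),
  (972, (lf [(514, [24, 0, 14, 6, 22, 24]), (151, [24, 0, 14, 6, 22])])),
  (768, (lf [(535, [24, 0, 16, 18, 24, 23, 6]), (212, [24, 0, 14, 6, 8, 22])]))])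

noncomputable def xk10 : CT := (nd [(768, (lf [(14, [24, 0, 5, 1]), (352, [24, 0, 5, 1, 24])])),
  (970, (lf [(51, [24, 0, 5, 1, 8]), (388, [24, 0, 5, 1, 24, 8])])),
  (1014, (lf [(14, [24, 0, 5, 1, 12]), (388, [24, 0, 5, 1, 12, 24])])),
  (1018, (lf [(201, [24, 0, 5, 1, 14]), (30, [24, 0, 5, 1, 14, 24])])),
  (920, (lf [(45, [24, 0, 5, 1, 17]), (350, [24, 0, 6, 3, 23, 4])])),
  (650, (lf [(87, [24, 0, 5, 1, 16]), (496, [24, 0, 5, 1, 16, 24])])),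
  (664, (lf [(14, [24, 0, 21, 5, 1]), (352, [24, 0, 5, 1, 24, 21])])),
  (1077, (lf [(51, [24, 0, 5, 1, 12, 8]), (352, [24, 0, 5, 2, 23, 5])])),
  (635, (lf [(345, [24, 0, 5, 1, 14, 8]), (510, [24, 0, 0, 22, 6, 5])])),
  (904, (lf [(51, [24, 0, 21, 5, 1, 8]), (388, [24, 0, 5, 1, 24, 21, 8])])),
  (723, (lf [(201, [24, 0, 5, 1, 14, 12]), (510, [24, 0, 0, 22, 6, 5, 12])])),
  (1057, (lf [(45, [24, 0, 12, 16, 0, 4]), (496, [24, 0, 5, 12, 17, 12, 0])])),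
  (967, (lf [(87, [24, 0, 5, 12, 17, 0]), (350, [24, 0, 0, 5, 1, 17, 0])])),
  (1051, (lf [(14, [24, 0, 21, 5, 1, 12]), (388, [24, 0, 12, 0, 16, 6, 0])])),
  (914, (lf [(617, [24, 0, 5, 1, 12, 14]), (211, [24, 0, 18, 2, 23, 3, 14])])),
  (855, (lf [(589, [24, 0, 5, 1, 17, 14]), (499, [24, 0, 22, 6, 23, 1, 14])])),
  (1073, (lf [(556, [24, 0, 5, 1, 16, 14]), (483, [24, 0, 17, 4, 17, 0, 18])])),
  (1025, (lf [(201, [24, 0, 21, 5, 1, 14]), (30, [10, 4, 12, 6, 0, 4, 0])])),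
  (776, (lf [(589, [24, 0, 2, 18, 1, 2]), (499, [24, 0, 17, 6, 12, 0, 3])])),
  (973, (lf [(45, [24, 0, 21, 5, 1, 17]), (350, [24, 0, 6, 3, 23, 20, 4])])),
  (1067, (lf [(556, [24, 0, 5, 1, 14, 16]), (483, [24, 0, 24, 6, 17, 0, 0])])),
  (727, (lf [(87, [24, 0, 21, 5, 1, 16]), (496, [24, 0, 20, 18, 17, 18, 3])])),
  (827, (lf [(345, [24, 0, 5, 1, 14, 12, 8]), (30, [24, 0, 22, 22, 8, 6, 3])])),
  (1034, (lf [(51, [24, 0, 5, 2, 22, 5]), (352, [24, 0, 5, 2, 23, 21, 5])])),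
  (1038, (lf [(619, [24, 0, 8, 3, 17, 18, 4]), (390, [24, 0, 4, 12, 1, 18, 6])])),
  (660, (lf [(345, [24, 0, 21, 5, 1, 14, 8]), (510, [18, 4, 0, 22, 21, 6, 5])])),
  (1052, (lf [(617, [24, 0, 24, 1, 23, 16, 5]), (390, [24, 0, 16, 0, 8, 2])])),
  (1015, (lf [(589, [24, 0, 16, 5, 3, 17, 1]), (483, [24, 0, 16, 5, 16, 2, 23])])),
  (688, (lf [(556, [24, 0, 5, 1, 16, 14, 12]), (499, [24, 0, 8, 22, 6, 17, 2])])),
  (804, (lf [(201, [8, 1, 6, 18, 0, 23, 2]), (510, [24, 0, 14, 3, 18, 12, 5])])),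
  (1060, (lf [(589, [24, 0, 2, 18, 1, 2, 12]), (483, [24, 0, 0, 3, 8, 4, 0, 0])])),
  (917, (lf [(45, [24, 0, 6, 1, 1, 1]), (496, [24, 0, 6, 1, 1, 1, 24])])),
  (778, (lf [(556, [24, 0, 8, 3, 23, 1, 1]), (499, [24, 0, 5, 23, 12, 1, 23])])),
  (924, (lf [(87, [24, 0, 23, 3, 1, 16, 0]), (350, [24, 0, 14, 22, 12, 0, 4])])),
  (817, (lf [(214, [24, 0, 18, 3, 18, 4, 1]), (356, [24, 0, 5, 1, 23, 23])])),
  (990, (lf [(256, [24, 0, 16, 6, 1, 5, 0]), (60, [24, 0, 18, 22, 17, 6, 4])])),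
  (731, (lf [(128, [24, 0, 5, 12, 17, 0, 14]), (517, [24, 0, 6, 17, 23, 0])])),
  (747, (lf [(617, [24, 0, 18, 5, 23, 6]), (211, [23, 5, 22, 5, 18, 22, 6])])),
  (663, (lf [(517, [24, 0, 6, 17, 23, 0, 12]), (256, [24, 0, 0, 4, 3, 24, 2])])),
  (976, (lf [(60, [24, 0, 18, 17, 18, 3, 14]), (128, [24, 0, 23, 12, 4, 14, 6])])),
  (630, (lf [(517, [24, 0, 22, 3, 23, 18, 0]), (256, [24, 0, 18, 22, 5, 0, 3])])),
  (850, (lf [(60, [24, 0, 22, 22, 18, 23, 0]), (128, [24, 0, 2, 12, 3, 0, 18])])),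
  (868, (lf [(619, [24, 0, 24, 21, 18, 16, 3]), (211, [24, 0, 4, 8, 6, 5, 3])])),
  (834, (lf [(345, [16, 1, 5, 22, 5, 14, 3, 0]), (30, [24, 0, 6, 23, 12, 1, 2])])),
  (799, (lf [(323, [24, 0, 5, 16, 18, 17, 1]), (75, [24, 0, 18, 2, 23, 10, 3])])),
  (1031, (lf [(619, [24, 0, 1, 18, 14, 24, 3]), (390, [21, 5, 4, 0, 16, 23, 2])])),
  (807, (lf [(214, [24, 0, 14, 22, 18, 6, 5]), (75, [24, 0, 5, 2, 23, 24, 5])])),
  (966, (lf [(617, [12, 3, 5, 18, 16, 4, 3]), (390, [24, 0, 12, 3, 14, 3])])),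
  (782, (lf [(517, [24, 0, 6, 8, 22, 14, 0]), (128, [24, 0, 14, 12, 18, 14, 0, 0])])),
  (992, (lf [(60, [24, 0, 1, 22, 0, 5, 1]), (256, [24, 0, 6, 24, 23, 14, 0])])),
  (820, (lf [(323, [24, 0, 18, 1, 14, 2, 17]), (356, [24, 0, 3, 0, 22, 0, 5])])),
  (959, (lf [(132, [24, 0, 14, 3, 16, 6, 8]), (529, [24, 0, 17, 2, 1, 5, 0])])),
  (880, (lf [(481, [24, 0, 20, 6, 3, 12, 4]), (78, [24, 0, 5, 1, 22, 22, 17])])),
  (972, (lf [(214, [8, 6, 18, 5, 2, 8, 0]), (356, [21, 2, 5, 1, 5, 24, 4])])),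
  (843, (lf [(132, [24, 0, 6, 3, 23, 24, 4]), (529, [24, 0, 6, 3, 22, 4])])),
  (908, (lf [(481, [24, 0, 6, 3, 12, 4]), (78, [24, 0, 5, 1, 22, 14, 23])])),
  (728, (lf [(78, [24, 0, 5, 23, 5, 14, 0]), (132, [24, 0, 23, 1, 18, 14, 1])])),
  (833, (lf [(529, [24, 0, 24, 1, 17, 12, 4]), (481, [24, 0, 14, 8, 1, 1, 18])])),
  (790, (lf [(78, [24, 0, 22, 6, 23, 10, 1]), (132, [24, 0, 18, 1, 14, 10, 2])])),
  (748, (lf [(211, [24, 0, 8, 5, 3, 14, 1]), (619, [15, 6, 24, 18, 16, 3])])),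
  (825, (lf [(529, [24, 0, 22, 6, 23, 1, 8]), (481, [24, 0, 18, 6, 2, 0, 5])])),
  (788, (lf [(323, [16, 6, 8, 22, 4, 0, 8, 1]), (75, [23, 2, 18, 2, 23, 20, 3])])),
  (890, (lf [(214, [15, 1, 24, 18, 16, 3, 14]), (75, [10, 3, 4, 14, 6, 22])])),
  (823, (lf [(323, [12, 4, 1, 8, 5, 1, 8, 0]), (356, [18, 3, 6, 18, 6, 4, 2])]))])

noncomputable def xk9 : CT := (nd [(862, (lf [(2, [24, 0, 2, 1]), (593, [24, 0, 2, 1, 24])])),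
  (872, (lf [(83, [24, 0, 2, 1, 8]), (577, [24, 0, 2, 1, 24, 8])])),
  (811, (lf [(2, [24, 0, 2, 1, 12]), (577, [24, 0, 3, 23, 5, 8])])),
  (998, (lf [(475, [24, 0, 2, 1, 14]), (73, [24, 0, 2, 1, 14, 24])])),
  (780, (lf [(129, [24, 0, 2, 1, 17]), (21, [24, 0, 6, 4, 23, 4])])),
  (767, (lf [(302, [24, 0, 2, 1, 16]), (338, [24, 0, 2, 1, 16, 24])])),
  (971, (lf [(2, [7, 2, 21, 2, 1]), (593, [1, 2, 2, 1, 24, 21])])),
  (721, (lf [(83, [24, 0, 3, 22, 20, 5]), (593, [24, 0, 3, 23, 5])])),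
  (950, (lf [(423, [24, 0, 2, 1, 14, 8]), (513, [24, 0, 17, 24, 3, 8, 4])])),
  (855, (lf [(83, [6, 2, 21, 2, 1, 8]), (577, [0, 2, 3, 22, 22, 3, 1])])),
  (848, (lf [(475, [24, 0, 2, 1, 14, 12]), (513, [24, 0, 24, 23, 6, 18, 3])])),
  (695, (lf [(129, [24, 0, 2, 1, 17, 12]), (338, [24, 0, 3, 23, 5, 17])])),
  (967, (lf [(302, [24, 0, 2, 12, 17, 0]), (21, [24, 0, 3, 23, 5, 16])])),
  (706, (lf [(2, [7, 2, 3, 22, 5, 8]), (577, [1, 2, 3, 24, 12, 5])])),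
  (713, (lf [(627, [24, 0, 2, 1, 12, 14]), (504, [24, 0, 1, 17, 3, 18, 8])])),
  (985, (lf [(462, [24, 0, 5, 18, 8, 3]), (620, [24, 0, 22, 12, 8, 3])])),
  (895, (lf [(348, [24, 0, 2, 1, 16, 14]), (328, [24, 0, 8, 22, 12, 3, 8])])),
  (1022, (lf [(475, [7, 5, 21, 2, 1, 14]), (73, [24, 0, 18, 3, 18, 6, 12])])),
  (1013, (lf [(462, [24, 0, 2, 1, 14, 17]), (620, [24, 0, 12, 5, 22, 24, 0])])),
  (789, (lf [(129, [24, 0, 21, 2, 1, 17]), (21, [24, 0, 3, 22, 5, 16])])),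
  (903, (lf [(348, [24, 0, 2, 1, 14, 16]), (328, [24, 0, 5, 12, 18, 22, 2])])),
  (699, (lf [(302, [24, 0, 21, 2, 1, 16]), (338, [24, 0, 3, 22, 5, 17])])),
  (637, (lf [(423, [24, 0, 16, 3, 8, 1, 5]), (73, [24, 0, 3, 23, 5, 14])])),
  (714, (lf [(83, [6, 2, 3, 22, 5]), (593, [0, 2, 3, 23, 21, 5])])),
  (758, (lf [(548, [24, 0, 17, 4, 23, 18, 1]), (592, [24, 0, 1, 17, 3, 18])])),
  (929, (lf [(423, [6, 5, 21, 2, 1, 14, 8]), (513, [24, 0, 3, 12, 8, 5, 14])])),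
  (765, (lf [(627, [24, 0, 21, 14, 5, 1, 5]), (592, [24, 0, 2, 1, 24, 14])])),
  (888, (lf [(462, [24, 0, 12, 16, 1, 17, 3]), (328, [24, 0, 3, 23, 5, 17, 14])])),
  (1075, (lf [(348, [24, 0, 6, 17, 0, 8, 1]), (620, [24, 0, 6, 23, 6, 23, 2])])),
  (955, (lf [(475, [24, 0, 4, 16, 24, 18, 3]), (513, [1, 5, 16, 5, 16, 6, 5])])),
  (795, (lf [(462, [24, 0, 3, 12, 14, 16, 4]), (328, [24, 0, 3, 23, 5, 14, 17])])),
  (914, (lf [(129, [24, 0, 6, 4, 0, 2]), (338, [24, 0, 3, 23, 21, 5, 17])])),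
  (1073, (lf [(348, [24, 0, 2, 1, 14, 16, 12]), (620, [24, 0, 22, 8, 2, 12, 2])])),
  (924, (lf [(302, [24, 0, 21, 2, 12, 17, 0]), (21, [24, 0, 14, 2, 1, 8, 0])])),
  (659, (lf [(478, [24, 0, 18, 3, 22, 22, 2]), (536, [24, 0, 2, 1, 23, 23])])),
  (990, (lf [(142, [24, 0, 12, 6, 14, 12, 1]), (162, [24, 0, 24, 22, 18, 2, 0])])),
  (815, (lf [(58, [24, 0, 14, 16, 1, 22, 0]), (428, [24, 0, 8, 4, 1, 1, 5])])),
  (720, (lf [(627, [7, 5, 3, 22, 5, 14, 8]), (504, [24, 0, 18, 24, 8, 18, 14])])),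
  (866, (lf [(428, [24, 0, 3, 12, 18, 1, 1]), (142, [24, 0, 22, 22, 2, 18, 0])])),
  (684, (lf [(162, [24, 0, 17, 23, 0, 16, 5]), (58, [24, 0, 3, 14, 24, 17, 4])])),
  (853, (lf [(428, [24, 0, 3, 14, 23, 14, 4]), (142, [24, 0, 5, 1, 16, 6])])),
  (715, (lf [(162, [24, 0, 24, 4, 0, 18, 0]), (58, [24, 0, 23, 0, 8, 1, 2])])),
  (999, (lf [(548, [24, 0, 6, 23, 1, 8, 0]), (504, [24, 0, 5, 14, 1, 4])])),
  (657, (lf [(423, [24, 0, 12, 0, 16, 18, 2]), (73, [0, 5, 18, 3, 18, 6])])),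
  (1072, (lf [(433, [24, 0, 3, 24, 8, 3, 1]), (47, [24, 0, 0, 24, 14, 16, 0])])),
  (775, (lf [(548, [6, 5, 3, 22, 5, 14]), (592, [24, 0, 12, 6, 14, 17, 0])])),
  (947, (lf [(478, [24, 0, 23, 2, 18, 24, 0]), (47, [24, 0, 3, 23, 24, 5])])),
  (752, (lf [(627, [24, 0, 2, 18, 16, 4, 3]), (592, [1, 5, 18, 22, 18, 17, 3])])),
  (671, (lf [(428, [24, 0, 23, 18, 23, 17, 6]), (58, [24, 0, 0, 8, 4, 18, 0])])),
  (992, (lf [(162, [24, 0, 1, 2, 22, 8, 0]), (142, [24, 0, 6, 4, 0, 2, 14])])),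
  (668, (lf [(433, [24, 0, 3, 14, 24, 14, 5]), (536, [24, 0, 6, 8, 6, 2, 1])])),
  (771, (lf [(1, [24, 0, 0, 14, 23, 23, 1]), (484, [24, 0, 6, 4, 22, 21, 4])])),
  (1004, (lf [(427, [24, 0, 5, 24, 6, 12, 2]), (57, [24, 0, 18, 6, 17, 18, 6])])),
  (642, (lf [(478, [24, 0, 3, 12, 5, 8, 22]), (536, [24, 0, 2, 1, 5, 24, 4])])),
  (910, (lf [(1, [24, 0, 0, 23, 16, 22, 1]), (484, [24, 0, 6, 4, 22, 4])])),
  (1058, (lf [(427, [24, 0, 6, 4, 12, 4]), (57, [24, 0, 6, 12, 0, 4, 2])])),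
  (1044, (lf [(57, [24, 0, 1, 14, 24, 12, 0]), (1, [24, 0, 6, 24, 4, 0, 2])])),
  (969, (lf [(484, [24, 0, 6, 4, 22, 4, 12]), (427, [24, 0, 1, 14, 24, 0])])),
  (978, (lf [(57, [24, 0, 14, 23, 0, 8, 3]), (1, [24, 0, 0, 12, 14, 8, 1])])),
  (989, (lf [(504, [0, 5, 20, 5, 14, 1, 4]), (548, [24, 0, 14, 5, 1, 5, 8])])),
  (908, (lf [(484, [24, 0, 8, 22, 3, 17, 5]), (427, [24, 0, 1, 14, 24, 21, 0])])),
  (1066, (lf [(433, [24, 0, 5, 1, 18, 12, 5]), (47, [24, 0, 0, 16, 12, 14, 0])])),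
  (952, (lf [(478, [24, 0, 6, 5, 1, 17, 4]), (47, [24, 0, 1, 14, 17, 8, 1])])),
  (733, (lf [(433, [24, 0, 24, 18, 1, 8, 0]), (536, [24, 0, 5, 0, 16, 6, 1])]))])

noncomputable def xk8 : CT := (nd [(856, (lf [(10, [24, 0, 3, 1]), (353, [24, 0, 23, 5, 12])])),
  (903, (lf [(164, [24, 0, 3, 1, 8]), (389, [24, 0, 23, 5, 12, 8])])),
  (676, (lf [(10, [24, 0, 3, 1, 12]), (389, [24, 0, 23, 5, 8])])),
  (677, (lf [(421, [24, 0, 3, 1, 14]), (47, [24, 0, 23, 5, 14, 12])])),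
  (745, (lf [(162, [24, 0, 3, 1, 17]), (58, [24, 0, 22, 20, 5, 16])])),
  (665, (lf [(307, [24, 0, 3, 1, 16]), (291, [24, 0, 22, 20, 5, 17])])),
  (777, (lf [(10, [24, 0, 21, 3, 1]), (353, [19, 4, 23, 21, 5, 12])])),
  (996, (lf [(164, [24, 0, 22, 20, 5]), (353, [24, 0, 23, 5])])),
  (1048, (lf [(349, [24, 0, 3, 1, 14, 8]), (587, [24, 0, 14, 22, 3, 12, 2])])),
  (893, (lf [(164, [24, 0, 22, 5, 12]), (389, [11, 4, 22, 22, 3, 1])])),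
  (717, (lf [(421, [24, 0, 3, 1, 14, 12]), (587, [24, 0, 23, 5, 14, 8])])),
  (1004, (lf [(162, [24, 0, 3, 1, 17, 12]), (291, [24, 0, 23, 5, 17])])),
  (967, (lf [(307, [24, 0, 3, 12, 17, 0]), (58, [24, 0, 23, 5, 16])])),
  (682, (lf [(10, [17, 2, 22, 5, 8]), (389, [24, 0, 24, 12, 5])])),
  (825, (lf [(608, [24, 0, 3, 1, 12, 14]), (593, [24, 0, 23, 8, 5, 23, 14])])),
  (874, (lf [(581, [24, 0, 3, 1, 17, 14]), (579, [24, 0, 1, 22, 22, 8, 0])])),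
  (957, (lf [(500, [24, 0, 14, 17, 0, 2]), (485, [24, 0, 16, 1, 16, 22, 2])])),
  (653, (lf [(421, [24, 0, 21, 3, 1, 14]), (47, [24, 0, 12, 17, 2, 12, 3])])),
  (688, (lf [(581, [24, 0, 4, 18, 1, 2]), (579, [24, 0, 24, 16, 14, 0, 2])])),
  (824, (lf [(162, [24, 0, 21, 3, 1, 17]), (58, [24, 0, 22, 5, 16])])),
  (1077, (lf [(500, [24, 0, 3, 1, 14, 16]), (485, [24, 0, 12, 5, 17, 23, 16])])),
  (779, (lf [(307, [24, 0, 21, 3, 1, 16]), (291, [24, 0, 22, 5, 17])])),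
  (716, (lf [(349, [24, 0, 23, 5, 14, 24]), (47, [24, 0, 23, 5, 14])])),
  (985, (lf [(164, [9, 2, 22, 5]), (353, [24, 0, 23, 21, 5])])),
  (934, (lf [(614, [24, 0, 22, 20, 5, 14]), (451, [24, 0, 23, 5, 12, 14, 12])])),
  (1040, (lf [(349, [24, 0, 22, 5, 12, 14]), (587, [24, 0, 12, 8, 5, 14])])),
  (917, (lf [(608, [24, 0, 22, 16, 3, 12, 2]), (451, [24, 0, 23, 5, 12, 14])])),
  (1032, (lf [(581, [24, 0, 12, 16, 14, 4]), (485, [24, 0, 23, 5, 17, 14])])),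
  (815, (lf [(500, [24, 0, 24, 14, 22, 14, 4]), (579, [24, 0, 17, 14, 23, 4])])),
  (685, (lf [(421, [24, 0, 8, 3, 23, 17, 0]), (587, [24, 0, 24, 12, 5, 14])])),
  (1053, (lf [(581, [24, 0, 12, 14, 16, 4]), (485, [24, 0, 23, 5, 14, 17])])),
  (1058, (lf [(162, [24, 0, 6, 4, 1, 3, 1]), (291, [24, 0, 23, 21, 5, 17])])),
  (671, (lf [(500, [24, 0, 6, 17, 18, 22]), (579, [24, 0, 23, 17, 14, 4])])),
  (924, (lf [(307, [24, 0, 21, 3, 12, 17, 0]), (58, [24, 0, 23, 21, 5, 16])])),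
  (937, (lf [(215, [24, 0, 24, 23, 5, 22]), (486, [24, 0, 3, 1, 23, 23])])),
  (990, (lf [(258, [24, 0, 8, 6, 17, 18, 8]), (109, [24, 0, 24, 6, 17, 18])])),
  (881, (lf [(110, [24, 0, 24, 20, 18, 16, 6]), (472, [24, 0, 3, 0, 18, 8, 5])])),
  (833, (lf [(608, [17, 5, 22, 5, 14, 8]), (593, [22, 1, 16, 4, 12, 17, 6])])),
  (938, (lf [(472, [24, 0, 12, 18, 1, 1]), (258, [24, 0, 12, 24, 18, 1, 1])])),
  (643, (lf [(109, [24, 0, 22, 5, 14, 17]), (110, [24, 0, 14, 24, 17, 4])])),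
  (928, (lf [(472, [24, 0, 14, 23, 14, 4]), (258, [24, 0, 14, 23, 12, 14, 4])])),
  (645, (lf [(109, [24, 0, 16, 12, 14, 12, 4]), (110, [24, 0, 17, 14, 12, 4])])),
  (809, (lf [(614, [24, 0, 22, 20, 5, 14, 12]), (593, [24, 0, 12, 6, 0, 18, 1])])),
  (675, (lf [(349, [24, 0, 17, 6, 14, 22, 4]), (47, [24, 0, 23, 21, 5, 14])])),
  (900, (lf [(248, [24, 0, 24, 8, 3, 1]), (52, [24, 0, 23, 24, 5, 12])])),
  (991, (lf [(614, [9, 5, 22, 5, 14]), (451, [20, 1, 22, 5, 14, 24])])),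
  (828, (lf [(215, [24, 0, 0, 2, 12, 4]), (52, [24, 0, 23, 24, 5])])),
  (1068, (lf [(608, [14, 1, 3, 18, 16, 4, 3]), (451, [19, 3, 5, 17, 1, 3, 8])])),
  (858, (lf [(472, [24, 0, 14, 12, 16, 0, 2]), (110, [24, 0, 24, 18, 16, 6])])),
  (992, (lf [(109, [24, 0, 8, 18, 17, 8, 6]), (258, [24, 0, 4, 8, 18, 1, 2])])),
  (846, (lf [(248, [24, 0, 14, 24, 14, 5]), (486, [24, 0, 0, 2, 22, 4])])),
  (840, (lf [(6, [24, 0, 17, 5, 1, 8, 3]), (192, [24, 0, 3, 1, 22, 22, 16])])),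
  (728, (lf [(492, [24, 0, 23, 24, 5, 17, 8]), (118, [24, 0, 17, 6, 16, 3, 1])])),
  (927, (lf [(215, [24, 0, 12, 5, 8, 22]), (486, [20, 6, 12, 8, 5, 12])])),
  (968, (lf [(6, [24, 0, 12, 8, 5, 16]), (192, [24, 0, 6, 4, 2, 22, 4])])),
  (719, (lf [(492, [24, 0, 12, 8, 5, 17]), (118, [24, 0, 14, 6, 8, 6, 12])])),
  (791, (lf [(118, [24, 0, 14, 6, 8, 6]), (6, [24, 0, 22, 24, 5, 17])])),
  (752, (lf [(192, [24, 0, 12, 5, 22, 17]), (492, [24, 0, 22, 24, 5, 16])])),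
  (781, (lf [(118, [24, 0, 20, 14, 6, 8, 6]), (6, [24, 0, 16, 3, 1, 4, 1])])),
  (766, (lf [(593, [11, 3, 12, 5, 23, 14]), (614, [13, 5, 24, 5, 18, 6, 2])])),
  (765, (lf [(192, [24, 0, 16, 6, 23, 17, 4]), (492, [24, 0, 23, 24, 5, 16, 12])])),
  (889, (lf [(248, [24, 0, 12, 5, 22, 10]), (52, [22, 6, 24, 22, 5, 22])])),
  (743, (lf [(215, [13, 2, 23, 4, 24, 4]), (52, [24, 0, 23, 24, 21, 5])])),
  (851, (lf [(248, [14, 6, 22, 24, 5, 8]), (486, [24, 0, 12, 10, 8, 5])]))])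

noncomputable def xk7 : CT := (nd [(773, (lf [(620, [24, 0, 23]), (72, [24, 0, 23, 24])])),
  (788, (lf [(620, [24, 0, 23, 12]), (178, [24, 0, 23, 12, 24])])),
  (924, (lf [(627, [24, 0, 23, 14]), (401, [24, 0, 23, 14, 24])])),
  (732, (lf [(565, [24, 0, 23, 17]), (126, [24, 0, 23, 17, 24])])),
  (774, (lf [(620, [24, 0, 23, 21]), (72, [24, 0, 23, 24, 21])])),
  (765, (lf [(627, [24, 0, 23, 14, 12]), (253, [24, 0, 16, 5, 8, 4])])),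
  (720, (lf [(565, [24, 0, 23, 17, 12]), (461, [24, 0, 14, 5, 8, 4])])),
  (812, (lf [(620, [24, 0, 23, 21, 12]), (178, [24, 0, 24, 23, 20, 12])])),
  (656, (lf [(65, [24, 0, 23, 12, 14]), (48, [24, 0, 22, 14, 8])])),
  (1024, (lf [(301, [24, 0, 23, 17, 14]), (550, [24, 0, 22, 24, 17, 14])])),
  (877, (lf [(627, [24, 0, 17, 22, 10]), (401, [24, 0, 12, 16, 22])])),
  (665, (lf [(565, [24, 0, 23, 21, 17]), (126, [24, 0, 14, 24, 22, 10])])),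
  (790, (lf [(65, [24, 0, 23, 12, 14, 12]), (44, [24, 0, 22, 14, 12])])),
  (889, (lf [(301, [24, 0, 23, 17, 14, 12]), (625, [24, 0, 0, 23, 12, 1])])),
  (752, (lf [(627, [24, 0, 24, 17, 23]), (253, [24, 0, 17, 4, 8, 5])])),
  (781, (lf [(565, [24, 0, 24, 14, 22, 10]), (461, [24, 0, 12, 24, 14, 23])]))])

noncomputable def xk6 : CT := (nd [(940, (lf [(8, [19, 6, 6]), (567, [22, 4, 6, 24])])),
  (1022, (lf [(96, [11, 6, 6, 8]), (530, [20, 4, 6, 24, 8])])),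
  (968, (lf [(8, [14, 4, 6, 12]), (530, [9, 3, 6, 12, 24])])),
  (855, (lf [(234, [19, 1, 6, 14]), (37, [24, 0, 6, 14, 24])])),
  (1071, (lf [(348, [24, 0, 6, 17]), (16, [24, 0, 6, 17, 24])])),
  (731, (lf [(462, [24, 0, 6, 16]), (273, [24, 0, 6, 16, 24])])),
  (931, (lf [(8, [24, 0, 20, 6]), (567, [24, 0, 6, 24, 21])])),
  (902, (lf [(96, [13, 6, 6, 12, 8]), (567, [17, 3, 6, 24, 12])])),
  (1002, (lf [(576, [11, 1, 6, 14, 8]), (547, [24, 0, 6, 14, 24, 8])])),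
  (998, (lf [(96, [24, 0, 20, 6, 8]), (530, [24, 0, 6, 24, 21, 8])])),
  (996, (lf [(234, [24, 0, 6, 14, 12]), (547, [9, 4, 6, 12, 24, 14])])),
  (811, (lf [(348, [24, 0, 6, 17, 12]), (273, [24, 0, 6, 12, 16, 12])])),
  (659, (lf [(462, [24, 0, 6, 16, 12]), (16, [24, 0, 6, 12, 17, 12])])),
  (840, (lf [(8, [24, 0, 20, 6, 12]), (530, [24, 0, 6, 12, 24, 21])])),
  (906, (lf [(437, [14, 3, 6, 12, 14]), (320, [24, 0, 6, 14, 23, 23])])),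
  (631, (lf [(393, [24, 0, 6, 17, 14]), (564, [24, 0, 6, 17, 14, 24])])),
  (793, (lf [(182, [24, 0, 6, 16, 14]), (412, [24, 0, 6, 16, 14, 24])])),
  (872, (lf [(234, [24, 0, 20, 6, 14]), (37, [24, 0, 6, 14, 24, 20])])),
  (660, (lf [(393, [24, 0, 6, 14, 17]), (564, [24, 0, 6, 14, 17, 24])])),
  (1066, (lf [(348, [24, 0, 20, 6, 17]), (16, [24, 0, 21, 6, 12, 17])])),
  (804, (lf [(182, [24, 0, 6, 14, 16]), (412, [24, 0, 6, 14, 16, 24])])),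
  (714, (lf [(462, [24, 0, 20, 6, 16]), (273, [24, 0, 21, 6, 12, 16])])),
  (1073, (lf [(576, [24, 0, 6, 14, 12, 8]), (37, [17, 4, 6, 14, 24, 12])])),
  (892, (lf [(96, [24, 0, 20, 6, 12, 8]), (567, [24, 0, 6, 24, 21, 12])])),
  (795, (lf [(507, [13, 1, 6, 12, 14, 8]), (294, [24, 0, 6, 24, 14, 12])])),
  (964, (lf [(576, [24, 0, 20, 6, 14, 8]), (547, [24, 0, 2, 8, 5, 8, 1])])),
  (724, (lf [(437, [24, 0, 6, 12, 14, 12]), (294, [22, 3, 6, 24, 14])])),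
  (783, (lf [(393, [24, 0, 6, 17, 14, 12]), (412, [24, 0, 6, 12, 16, 12, 14])])),
  (965, (lf [(182, [24, 0, 6, 16, 14, 12]), (564, [24, 0, 0, 5, 22, 17, 3])])),
  (1007, (lf [(234, [24, 0, 20, 6, 14, 12]), (547, [24, 0, 18, 2, 18, 2, 1])])),
  (899, (lf [(393, [24, 0, 6, 14, 17, 12]), (412, [24, 0, 17, 5, 1, 12, 2])])),
  (764, (lf [(348, [24, 0, 20, 6, 17, 12]), (273, [24, 0, 20, 6, 12, 16, 12])])),
  (962, (lf [(182, [24, 0, 17, 18, 12, 5]), (564, [24, 0, 6, 14, 12, 17, 12])])),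
  (654, (lf [(462, [24, 0, 20, 6, 16, 12]), (16, [24, 0, 4, 0, 23, 21, 3])])),
  (791, (lf [(190, [24, 0, 6, 4, 24, 5]), (557, [24, 0, 6, 23, 23])])),
  (741, (lf [(583, [24, 0, 6, 17, 12, 14]), (150, [24, 0, 6, 12, 16, 14, 12])])),
  (1000, (lf [(54, [24, 0, 6, 16, 12, 14]), (386, [24, 0, 1, 4, 17, 23, 0])])),
  (893, (lf [(437, [24, 0, 20, 6, 12, 14]), (320, [24, 0, 6, 23, 16, 22])])),
  (717, (lf [(386, [24, 0, 6, 12, 17, 14]), (583, [24, 0, 0, 3, 12, 8, 6])])),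
  (763, (lf [(150, [24, 0, 6, 12, 16, 14]), (54, [24, 0, 17, 0, 4, 2, 1])])),
  (726, (lf [(386, [24, 0, 6, 12, 14, 17]), (583, [24, 0, 6, 24, 14, 17, 12])])),
  (876, (lf [(150, [24, 0, 6, 12, 14, 16]), (54, [24, 0, 12, 8, 6, 2, 0])])),
  (883, (lf [(507, [24, 0, 22, 10, 2, 8, 0]), (320, [20, 3, 6, 24, 14, 8])])),
  (1075, (lf [(576, [24, 0, 20, 6, 14, 12, 8]), (37, [24, 0, 12, 6, 18, 16, 2])])),
  (871, (lf [(270, [24, 0, 6, 8, 4, 24, 5]), (63, [24, 0, 6, 23, 23, 8])])),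
  (888, (lf [(507, [24, 0, 0, 18, 4, 8, 1]), (294, [24, 0, 6, 23, 17, 22])])),
  (865, (lf [(190, [24, 0, 6, 3, 1, 12, 4]), (63, [24, 0, 6, 14, 24, 14])])),
  (649, (lf [(437, [24, 0, 20, 6, 12, 14, 12]), (294, [24, 0, 6, 24, 21, 14])])),
  (973, (lf [(386, [24, 0, 6, 12, 14, 17, 12]), (54, [24, 0, 5, 1, 22, 14, 0])])),
  (833, (lf [(150, [24, 0, 6, 12, 14, 16, 12]), (583, [24, 0, 5, 1, 18, 6, 1])])),
  (1019, (lf [(270, [24, 0, 6, 5, 12, 0, 2]), (557, [24, 0, 6, 22, 22, 12])])),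
  (756, (lf [(88, [24, 0, 2, 8, 18, 23, 0]), (187, [24, 0, 6, 22, 22, 16])])),
  (684, (lf [(546, [24, 0, 3, 12, 1, 8, 2]), (372, [24, 0, 6, 22, 22, 17])])),
  (781, (lf [(190, [24, 0, 3, 18, 16, 1, 3]), (557, [24, 0, 6, 5, 24, 4])])),
  (671, (lf [(88, [24, 0, 6, 14, 17, 12, 14]), (187, [24, 0, 4, 18, 12, 0, 4])])),
  (678, (lf [(546, [24, 0, 8, 6, 14, 3, 1]), (372, [24, 0, 6, 22, 14, 23])])),
  (921, (lf [(372, [24, 0, 8, 6, 14, 23, 5]), (88, [24, 0, 24, 18, 8, 23, 1])])),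
  (853, (lf [(187, [24, 0, 22, 14, 5, 16, 4]), (546, [24, 0, 18, 8, 0, 2, 0])])),
  (990, (lf [(372, [24, 0, 18, 24, 22, 4, 0]), (88, [24, 0, 8, 6, 14, 22, 5])])),
  (862, (lf [(320, [24, 0, 18, 23, 23, 2]), (507, [24, 0, 22, 20, 2, 8, 0])])),
  (770, (lf [(187, [24, 0, 6, 22, 22, 16, 12]), (546, [24, 0, 4, 24, 22, 18, 12])])),
  (854, (lf [(270, [24, 0, 16, 24, 0, 23, 2]), (63, [24, 0, 22, 5, 23, 6, 0])])),
  (821, (lf [(190, [24, 0, 18, 3, 24, 17, 2]), (63, [24, 0, 14, 4, 1, 22])])),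
  (1010, (lf [(270, [24, 0, 8, 2, 12, 16, 2]), (557, [24, 0, 6, 12, 5, 24, 4])]))])

noncomputable def xk5 : CT := (nd [(710, (lf [(7, [24, 0, 4]), (572, [24, 0, 4, 24])])),
  (1062, (lf [(95, [24, 0, 4, 8]), (381, [24, 0, 4, 24, 8])])),
  (642, (lf [(7, [24, 0, 4, 12]), (381, [24, 0, 4, 12, 24])])),
  (752, (lf [(177, [24, 0, 4, 14]), (113, [24, 0, 4, 14, 24])])),
  (740, (lf [(332, [24, 0, 4, 17]), (112, [24, 0, 4, 17, 24])])),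
  (1058, (lf [(464, [24, 0, 4, 16]), (344, [24, 0, 4, 16, 24])])),
  (689, (lf [(7, [24, 0, 21, 4]), (572, [24, 0, 4, 24, 21])])),
  (944, (lf [(95, [24, 0, 4, 12, 8]), (572, [24, 0, 4, 24, 12])])),
  (878, (lf [(582, [24, 0, 4, 14, 8]), (611, [24, 0, 4, 14, 24, 8])])),
  (1026, (lf [(95, [24, 0, 21, 4, 8]), (381, [24, 0, 23, 20, 12, 4])])),
  (790, (lf [(177, [24, 0, 4, 14, 12]), (611, [24, 0, 4, 12, 24, 14])])),
  (1001, (lf [(332, [24, 0, 4, 17, 12]), (344, [24, 0, 4, 12, 16, 12])])),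
  (680, (lf [(464, [24, 0, 4, 16, 12]), (112, [24, 0, 4, 12, 17, 12])])),
  (646, (lf [(7, [24, 0, 21, 4, 12]), (381, [24, 0, 8, 4, 22])])),
  (917, (lf [(624, [24, 0, 4, 12, 14]), (291, [24, 0, 4, 14, 23, 23])])),
  (846, (lf [(288, [24, 0, 14, 16, 5]), (553, [24, 0, 14, 16, 5, 24])])),
  (828, (lf [(475, [24, 0, 4, 16, 14]), (428, [24, 0, 4, 16, 14, 24])])),
  (707, (lf [(177, [24, 0, 21, 4, 14]), (113, [22, 3, 4, 14, 24, 20])])),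
  (851, (lf [(288, [24, 0, 4, 14, 17]), (553, [24, 0, 4, 14, 17, 24])])),
  (745, (lf [(332, [24, 0, 21, 4, 17]), (112, [24, 0, 20, 4, 12, 17])])),
  (743, (lf [(475, [24, 0, 4, 14, 16]), (428, [24, 0, 4, 14, 16, 24])])),
  (918, (lf [(464, [24, 0, 21, 4, 16]), (344, [24, 0, 20, 4, 12, 16])])),
  (791, (lf [(582, [24, 0, 4, 14, 12, 8]), (113, [24, 0, 4, 14, 24, 12])])),
  (845, (lf [(95, [24, 0, 21, 4, 12, 8]), (572, [24, 0, 22, 10, 0, 2])])),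
  (656, (lf [(513, [24, 0, 4, 12, 14, 8]), (58, [24, 0, 4, 24, 14, 12])])),
  (840, (lf [(582, [24, 0, 21, 4, 14, 8]), (611, [20, 3, 24, 4, 12, 14])])),
  (809, (lf [(624, [24, 0, 4, 12, 14, 12]), (58, [24, 0, 4, 24, 14])])),
  (882, (lf [(288, [24, 0, 14, 16, 5, 12]), (428, [24, 0, 22, 16, 14, 3, 1])])),
  (774, (lf [(475, [24, 0, 4, 16, 14, 12]), (553, [24, 0, 0, 8, 23, 4, 0])])),
  (728, (lf [(177, [14, 3, 21, 4, 14, 12]), (611, [24, 0, 8, 4, 22, 14])])),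
  (859, (lf [(288, [24, 0, 4, 14, 17, 12]), (428, [24, 0, 22, 14, 16, 3, 1])])),
  (925, (lf [(332, [24, 0, 21, 4, 17, 12]), (344, [24, 0, 22, 0, 2, 16, 8])])),
  (869, (lf [(475, [24, 0, 4, 14, 16, 12]), (553, [24, 0, 17, 14, 5, 22])])),
  (726, (lf [(464, [24, 0, 21, 4, 16, 12]), (112, [24, 0, 1, 23, 4, 14, 2])])),
  (782, (lf [(396, [24, 0, 5, 24, 5]), (596, [24, 0, 24, 20, 4])])),
  (996, (lf [(360, [24, 0, 14, 16, 24, 5]), (375, [24, 0, 16, 12, 14, 5])])),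
  (676, (lf [(53, [24, 0, 4, 16, 12, 14]), (104, [24, 0, 24, 4, 14, 16])])),
  (1068, (lf [(624, [24, 0, 21, 4, 12, 14]), (291, [17, 4, 22, 12, 4, 14])])),
  (806, (lf [(104, [24, 0, 4, 12, 17, 14]), (360, [24, 0, 12, 14, 16, 3, 1])])),
  (963, (lf [(375, [24, 0, 4, 12, 16, 14]), (53, [24, 0, 10, 1, 3, 8, 0])])),
  (888, (lf [(104, [24, 0, 4, 12, 14, 17]), (360, [24, 0, 17, 14, 5, 23])])),
  (1028, (lf [(375, [24, 0, 4, 12, 14, 16]), (53, [24, 0, 20, 1, 3, 8, 0])])),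
  (1036, (lf [(513, [24, 0, 4, 12, 14, 12, 8]), (291, [24, 0, 4, 24, 14, 8])])),
  (713, (lf [(582, [13, 1, 21, 4, 14, 12, 8]), (113, [24, 0, 23, 4, 1, 14, 5])])),
  (974, (lf [(300, [24, 0, 5, 24, 5, 8]), (62, [24, 0, 22, 21, 12, 4])])),
  (674, (lf [(513, [24, 0, 21, 4, 12, 14, 8]), (58, [9, 4, 24, 4, 14, 10])])),
  (1006, (lf [(396, [24, 0, 24, 22, 0, 2]), (62, [24, 0, 4, 14, 24, 14])])),
  (708, (lf [(624, [11, 1, 2, 17, 18, 1]), (58, [24, 0, 4, 24, 21, 14])])),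
  (682, (lf [(104, [24, 0, 0, 23, 18, 12, 3]), (53, [24, 0, 6, 1, 22, 14, 0])])),
  (985, (lf [(375, [24, 0, 5, 8, 18, 1, 1]), (360, [24, 0, 6, 1, 18, 6, 1])])),
  (761, (lf [(300, [24, 0, 12, 0, 2]), (596, [24, 0, 23, 0, 2])])),
  (741, (lf [(130, [24, 0, 18, 6, 12, 10, 2]), (480, [24, 0, 24, 21, 4, 16])])),
  (679, (lf [(605, [24, 0, 16, 0, 5, 0, 2]), (401, [24, 0, 24, 21, 4, 17])])),
  (721, (lf [(396, [14, 4, 22, 22, 4]), (596, [9, 3, 24, 4])])),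
  (746, (lf [(130, [24, 0, 24, 4, 12, 16]), (480, [24, 0, 24, 4, 17, 8])])),
  (711, (lf [(605, [24, 0, 24, 4, 12, 17]), (401, [24, 0, 24, 4, 16, 8])])),
  (967, (lf [(401, [24, 0, 22, 22, 4, 17]), (130, [24, 0, 8, 4, 23, 16])])),
  (648, (lf [(480, [24, 0, 22, 22, 4, 16]), (605, [24, 0, 8, 4, 23, 17])])),
  (987, (lf [(401, [24, 0, 5, 24, 5, 17]), (130, [24, 0, 12, 0, 2, 17, 8])])),
  (1040, (lf [(291, [24, 0, 12, 2, 17, 23, 0]), (513, [19, 1, 8, 4, 23, 14, 8])])),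
  (779, (lf [(480, [24, 0, 5, 24, 5, 16]), (605, [24, 0, 12, 0, 2, 16, 8])])),
  (1014, (lf [(300, [13, 6, 23, 12, 24, 4]), (62, [17, 3, 24, 4, 8])])),
  (1011, (lf [(396, [19, 6, 8, 4, 23, 8]), (62, [22, 4, 24, 4, 12, 8])])),
  (702, (lf [(300, [11, 6, 21, 12, 0, 2]), (596, [20, 4, 23, 21, 0, 2])]))])

noncomputable def xk4 : CT := (nd [(860, (lf [(26, [24, 0, 5]), (402, [17, 2, 5, 24])])),
  (972, (lf [(102, [24, 0, 5, 8]), (277, [9, 2, 5, 24, 8])])),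
  (952, (lf [(26, [11, 4, 5, 12]), (277, [24, 0, 22, 3, 1])])),
  (918, (lf [(235, [24, 0, 5, 14]), (103, [24, 0, 5, 14, 24])])),
  (925, (lf [(492, [24, 0, 5, 17]), (108, [24, 0, 5, 17, 24])])),
  (713, (lf [(582, [24, 0, 5, 16]), (105, [24, 0, 5, 16, 24])])),
  (820, (lf [(26, [24, 0, 21, 5]), (402, [24, 0, 22, 22, 5])])),
  (939, (lf [(102, [19, 4, 5, 12, 8]), (402, [24, 0, 5, 24, 12])])),
  (674, (lf [(303, [24, 0, 5, 14, 8]), (548, [24, 0, 5, 14, 24, 8])])),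
  (735, (lf [(102, [24, 0, 21, 5, 8]), (277, [24, 0, 22, 22, 5, 8])])),
  (741, (lf [(235, [24, 0, 5, 14, 12]), (548, [24, 0, 22, 3, 1, 14])])),
  (675, (lf [(492, [24, 0, 5, 17, 12]), (105, [24, 0, 5, 12, 16, 12])])),
  (751, (lf [(582, [24, 0, 5, 16, 12]), (108, [24, 0, 5, 12, 17, 12])])),
  (964, (lf [(26, [24, 0, 21, 5, 12]), (277, [24, 0, 22, 21, 3, 1])])),
  (719, (lf [(460, [11, 3, 5, 12, 14]), (321, [13, 5, 5, 14, 23, 23])])),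
  (1023, (lf [(394, [24, 0, 5, 17, 14]), (617, [24, 0, 5, 17, 14, 24])])),
  (1053, (lf [(183, [24, 0, 5, 16, 14]), (232, [24, 0, 24, 14, 17, 4])])),
  (1056, (lf [(235, [24, 0, 21, 5, 14]), (103, [24, 0, 5, 14, 24, 20])])),
  (1016, (lf [(394, [24, 0, 5, 14, 17]), (617, [24, 0, 5, 14, 17, 24])])),
  (934, (lf [(492, [24, 0, 21, 5, 17]), (108, [24, 0, 20, 5, 12, 17])])),
  (953, (lf [(183, [24, 0, 17, 14, 4]), (232, [24, 0, 17, 12, 14, 4])])),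
  (720, (lf [(582, [24, 0, 21, 5, 16]), (105, [24, 0, 20, 5, 12, 16])])),
  (841, (lf [(303, [24, 0, 5, 14, 12, 8]), (103, [24, 0, 5, 14, 24, 12])])),
  (930, (lf [(102, [24, 0, 2, 0, 22, 0]), (402, [24, 0, 22, 22, 5, 12])])),
  (680, (lf [(213, [19, 3, 5, 12, 14, 8]), (126, [14, 1, 5, 24, 14, 12])])),
  (677, (lf [(303, [24, 0, 21, 5, 14, 8]), (548, [24, 0, 5, 14, 24, 20, 8])])),
  (648, (lf [(460, [22, 1, 5, 12, 14, 12]), (126, [17, 5, 5, 24, 14])])),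
  (1011, (lf [(394, [24, 0, 5, 17, 14, 12]), (232, [24, 0, 18, 2, 22, 2, 0])])),
  (944, (lf [(183, [24, 0, 5, 16, 14, 12]), (617, [24, 0, 16, 14, 4, 22])])),
  (746, (lf [(235, [24, 0, 21, 5, 14, 12]), (548, [24, 0, 8, 5, 17, 23])])),
  (1035, (lf [(394, [24, 0, 5, 14, 17, 12]), (232, [24, 0, 17, 0, 14, 23, 0])])),
  (679, (lf [(492, [24, 0, 21, 5, 17, 12]), (105, [24, 0, 8, 5, 14, 23, 10])])),
  (845, (lf [(183, [24, 0, 17, 14, 4, 12]), (617, [24, 0, 14, 16, 4, 22])])),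
  (878, (lf [(582, [24, 0, 21, 5, 16, 12]), (108, [24, 0, 23, 3, 12, 17, 0])])),
  (1073, (lf [(529, [24, 0, 24, 5]), (549, [14, 6, 5, 23, 23])])),
  (756, (lf [(478, [24, 0, 5, 17, 12, 14]), (149, [24, 0, 20, 8, 18, 1, 1])])),
  (645, (lf [(117, [24, 0, 5, 16, 12, 14]), (201, [24, 0, 18, 12, 24, 5, 0])])),
  (802, (lf [(460, [24, 0, 21, 5, 12, 14]), (321, [24, 0, 5, 23, 16, 22])])),
  (646, (lf [(201, [24, 0, 12, 18, 16, 6]), (478, [24, 0, 16, 14, 4, 23])])),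
  (816, (lf [(149, [24, 0, 5, 12, 16, 14]), (117, [24, 0, 18, 1, 1, 22])])),
  (654, (lf [(201, [24, 0, 5, 12, 14, 17]), (478, [24, 0, 14, 16, 4, 23])])),
  (672, (lf [(149, [24, 0, 5, 12, 14, 16]), (117, [24, 0, 12, 6, 17, 18, 10])])),
  (766, (lf [(213, [20, 1, 8, 5, 23, 14]), (321, [9, 5, 5, 24, 14, 8])])),
  (765, (lf [(303, [24, 0, 3, 16, 5, 24, 0]), (103, [24, 0, 8, 5, 16, 23])])),
  (976, (lf [(257, [24, 0, 24, 5, 8]), (132, [13, 2, 8, 23, 12, 5])])),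
  (726, (lf [(213, [24, 0, 16, 6, 12, 14, 1]), (126, [24, 0, 5, 23, 17, 22])])),
  (842, (lf [(529, [20, 6, 24, 5, 12]), (132, [24, 0, 24, 22, 3, 1])])),
  (732, (lf [(460, [24, 0, 4, 2, 17, 18, 1]), (126, [24, 0, 22, 22, 5, 14])])),
  (636, (lf [(201, [24, 0, 14, 12, 17, 4]), (117, [24, 0, 18, 2, 23, 2, 0])])),
  (701, (lf [(149, [24, 0, 8, 18, 1, 1]), (478, [24, 0, 24, 8, 18, 1, 1])])),
  (995, (lf [(257, [22, 6, 4, 12, 0, 2]), (549, [24, 0, 4, 23, 0, 2])])),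
  (1003, (lf [(200, [24, 0, 2, 24, 6, 18, 5]), (291, [24, 0, 24, 5, 16, 12])])),
  (740, (lf [(628, [24, 0, 5, 16, 4, 24, 5]), (533, [24, 0, 24, 5, 17, 12])])),
  (1067, (lf [(529, [24, 0, 24, 21, 5]), (549, [24, 0, 4, 24, 4])])),
  (1057, (lf [(200, [24, 0, 5, 14, 17, 12, 14]), (291, [24, 0, 6, 18, 12, 0, 4])])),
  (745, (lf [(628, [24, 0, 22, 14, 6, 8, 6]), (533, [24, 0, 5, 22, 14, 23])])),
  (967, (lf [(533, [24, 0, 24, 21, 5, 17]), (200, [24, 0, 4, 8, 4, 23, 16])])),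
  (1045, (lf [(291, [24, 0, 24, 21, 5, 16]), (628, [24, 0, 8, 5, 14, 22])])),
  (987, (lf [(533, [24, 0, 24, 5, 17]), (200, [24, 0, 8, 5, 23, 17])])),
  (879, (lf [(321, [24, 0, 23, 23, 5, 14, 8]), (213, [24, 0, 8, 5, 17, 22])])),
  (1036, (lf [(291, [24, 0, 24, 5, 16]), (628, [24, 0, 8, 5, 23, 16])])),
  (850, (lf [(257, [24, 0, 22, 12, 8, 5]), (132, [24, 0, 4, 24, 4, 8])])),
  (750, (lf [(529, [24, 0, 24, 21, 5, 12]), (132, [24, 0, 24, 22, 21, 3, 1])])),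
  (984, (lf [(257, [24, 0, 24, 23, 3, 1]), (549, [24, 0, 12, 8, 3, 1])]))])

noncomputable def xk3 : CT := (nd [(830, (lf [(22, [24, 0, 3]), (568, [24, 0, 3, 24])])),
  (927, (lf [(13, [24, 0, 3, 8]), (278, [24, 0, 3, 24, 8])])),
  (972, (lf [(22, [24, 0, 3, 12]), (278, [24, 0, 3, 12, 24])])),
  (966, (lf [(311, [24, 0, 3, 14]), (17, [24, 0, 3, 14, 24])])),
  (633, (lf [(313, [24, 0, 3, 17]), (73, [24, 0, 3, 17, 24])])),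
  (908, (lf [(527, [24, 0, 3, 16]), (106, [24, 0, 3, 16, 24])])),
  (846, (lf [(22, [24, 0, 21, 3]), (568, [24, 0, 3, 24, 21])])),
  (954, (lf [(13, [24, 0, 3, 12, 8]), (568, [24, 0, 3, 24, 12])])),
  (1033, (lf [(573, [24, 0, 3, 14, 8]), (558, [24, 0, 3, 14, 24, 8])])),
  (949, (lf [(13, [24, 0, 21, 3, 8]), (278, [24, 0, 3, 24, 21, 8])])),
  (707, (lf [(311, [24, 0, 3, 14, 12]), (558, [24, 0, 3, 12, 24, 14])])),
  (712, (lf [(313, [24, 0, 3, 17, 12]), (106, [24, 0, 3, 12, 16, 12])])),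
  (926, (lf [(527, [24, 0, 3, 16, 12]), (73, [24, 0, 23, 5, 17, 1])])),
  (735, (lf [(22, [24, 0, 21, 3, 12]), (278, [24, 0, 2, 1, 23, 4])])),
  (713, (lf [(609, [24, 0, 3, 12, 14]), (515, [24, 0, 3, 14, 23, 23])])),
  (883, (lf [(395, [24, 0, 3, 17, 14]), (608, [24, 0, 3, 17, 14, 24])])),
  (659, (lf [(201, [24, 0, 3, 16, 14]), (517, [24, 0, 18, 4, 18, 4])])),
  (978, (lf [(311, [24, 0, 21, 3, 14]), (17, [8, 4, 3, 14, 24, 20])])),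
  (862, (lf [(395, [24, 0, 3, 14, 17]), (608, [24, 0, 23, 12, 0, 3])])),
  (644, (lf [(313, [24, 0, 21, 3, 17]), (73, [24, 0, 20, 3, 12, 17])])),
  (642, (lf [(201, [24, 0, 3, 14, 16]), (517, [24, 0, 3, 14, 16, 24])])),
  (969, (lf [(527, [24, 0, 21, 3, 16]), (106, [24, 0, 20, 3, 12, 16])])),
  (695, (lf [(573, [24, 0, 3, 14, 12, 8]), (17, [24, 0, 3, 14, 24, 12])])),
  (963, (lf [(13, [24, 0, 4, 0, 22, 0]), (568, [24, 0, 24, 1, 5, 2])])),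
  (867, (lf [(510, [24, 0, 3, 12, 14, 8]), (128, [24, 0, 3, 24, 14, 12])])),
  (848, (lf [(573, [24, 0, 21, 3, 14, 8]), (558, [16, 4, 0, 16, 4, 3, 1])])),
  (940, (lf [(609, [24, 0, 3, 12, 14, 12]), (128, [24, 0, 3, 24, 14])])),
  (1039, (lf [(395, [24, 0, 3, 17, 14, 12]), (517, [24, 0, 3, 12, 16, 12, 14])])),
  (984, (lf [(201, [24, 0, 3, 16, 14, 12]), (608, [24, 0, 0, 8, 23, 2, 0])])),
  (841, (lf [(311, [18, 2, 21, 3, 14, 12]), (558, [24, 0, 6, 5, 22, 12, 1])])),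
  (1047, (lf [(395, [24, 0, 3, 14, 17, 12]), (517, [24, 0, 16, 23, 6, 4, 0])])),
  (718, (lf [(313, [24, 0, 21, 3, 17, 12]), (106, [24, 0, 16, 23, 2, 8, 3])])),
  (997, (lf [(201, [24, 0, 3, 14, 16, 12]), (608, [24, 0, 3, 14, 12, 17, 12])])),
  (936, (lf [(527, [24, 0, 21, 3, 16, 12]), (73, [24, 0, 18, 6, 8, 5, 0])])),
  (957, (lf [(192, [24, 0, 4, 3, 24, 5]), (559, [24, 0, 3, 23, 23])])),
  (872, (lf [(514, [24, 0, 3, 17, 12, 14]), (403, [24, 0, 12, 18, 22, 1, 4])])),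
  (1012, (lf [(5, [24, 0, 3, 16, 12, 14]), (421, [24, 0, 0, 3, 18, 8, 5])])),
  (720, (lf [(609, [24, 0, 21, 3, 12, 14]), (515, [21, 3, 3, 23, 16, 22])])),
  (1026, (lf [(421, [24, 0, 3, 12, 17, 14]), (514, [24, 0, 24, 12, 6, 16, 2])])),
  (700, (lf [(403, [24, 0, 3, 12, 16, 14]), (5, [24, 0, 1, 23, 12, 3, 12])])),
  (1015, (lf [(421, [24, 0, 3, 12, 14, 17]), (514, [24, 0, 17, 6, 3, 8, 0])])),
  (670, (lf [(403, [24, 0, 3, 12, 14, 16]), (5, [24, 0, 17, 23, 0, 16, 4])])),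
  (699, (lf [(510, [24, 0, 17, 22, 5, 0, 0]), (515, [24, 0, 3, 24, 14, 8])])),
  (914, (lf [(573, [10, 2, 0, 16, 4, 23, 5]), (17, [24, 0, 3, 14, 24, 20, 12])])),
  (643, (lf [(272, [24, 0, 3, 8, 4, 24, 5]), (6, [24, 0, 3, 23, 23, 8])])),
  (826, (lf [(510, [24, 0, 21, 3, 12, 14, 8]), (128, [23, 3, 3, 23, 17, 22])])),
  (691, (lf [(192, [24, 0, 2, 1, 12, 4]), (6, [24, 0, 3, 14, 24, 14])])),
  (950, (lf [(609, [15, 5, 5, 17, 18, 1]), (128, [24, 0, 3, 24, 21, 14])])),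
  (1072, (lf [(421, [24, 0, 3, 12, 14, 17, 12]), (5, [24, 0, 22, 12, 8, 2, 1])])),
  (855, (lf [(403, [24, 0, 3, 12, 14, 16, 12]), (514, [24, 0, 0, 22, 8, 2, 0])])),
  (896, (lf [(272, [24, 0, 5, 3, 12, 0, 2]), (559, [24, 0, 0, 12, 1, 3])])),
  (1056, (lf [(49, [24, 0, 6, 8, 18, 23, 0]), (362, [24, 0, 3, 22, 22, 16])])),
  (871, (lf [(548, [24, 0, 3, 16, 4, 24, 5]), (373, [24, 0, 3, 22, 22, 17])])),
  (1077, (lf [(192, [18, 5, 5, 3, 22, 22, 4]), (559, [23, 4, 5, 3, 24, 4])])),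
  (1004, (lf [(49, [24, 0, 3, 14, 17, 12, 14]), (362, [24, 0, 3, 23, 14, 22, 10])])),
  (758, (lf [(548, [24, 0, 3, 14, 16, 12, 14]), (373, [24, 0, 3, 22, 14, 23])])),
  (967, (lf [(373, [24, 0, 8, 18, 14, 1, 4]), (49, [24, 0, 1, 18, 16, 24, 2, 0])])),
  (999, (lf [(362, [24, 0, 12, 0, 5, 17, 0]), (548, [24, 0, 2, 0, 14, 24, 0])])),
  (987, (lf [(373, [24, 0, 3, 22, 22, 17, 12]), (49, [24, 0, 17, 3, 18, 24, 1])])),
  (767, (lf [(515, [24, 0, 3, 24, 20, 14, 8]), (510, [12, 6, 17, 18, 24, 5, 1])])),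
  (989, (lf [(362, [24, 0, 22, 8, 3, 24, 6]), (548, [24, 0, 22, 18, 1, 22, 17])])),
  (645, (lf [(272, [10, 5, 3, 22, 24, 22, 20]), (6, [21, 4, 23, 2, 0, 8, 2])])),
  (813, (lf [(192, [12, 1, 3, 22, 5, 8, 4]), (6, [8, 3, 24, 1, 2, 24, 5])])),
  (994, (lf [(272, [15, 2, 12, 18, 8, 4, 0]), (559, [16, 3, 0, 5, 24, 23, 1])]))])

noncomputable def xk2 : CT := (nd [(1028, (lf [(5, [24, 0, 0]), (496, [24, 0, 0, 24])])),
  (872, (lf [(93, [24, 0, 0, 8]), (572, [24, 0, 12, 10, 0])])),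
  (643, (lf [(5, [24, 0, 0, 12]), (572, [24, 0, 0, 12, 24])])),
  (998, (lf [(523, [24, 0, 0, 14]), (2, [24, 0, 0, 14, 24])])),
  (783, (lf [(346, [24, 0, 0, 17]), (0, [24, 0, 24, 16, 1])])),
  (1046, (lf [(462, [24, 0, 0, 16]), (275, [24, 0, 0, 16, 24])])),
  (948, (lf [(5, [24, 0, 21, 0]), (496, [24, 0, 0, 24, 21])])),
  (1026, (lf [(93, [24, 0, 0, 12, 8]), (496, [24, 0, 0, 24, 12])])),
  (999, (lf [(577, [24, 0, 0, 14, 8]), (529, [24, 0, 0, 14, 24, 8])])),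
  (855, (lf [(93, [24, 0, 21, 0, 8]), (572, [24, 0, 20, 12, 0])])),
  (708, (lf [(523, [24, 0, 0, 14, 12]), (529, [24, 0, 0, 12, 24, 14])])),
  (1008, (lf [(346, [24, 0, 0, 17, 12]), (275, [24, 0, 0, 12, 16, 12])])),
  (793, (lf [(462, [24, 0, 0, 16, 12]), (0, [24, 0, 12, 16, 12, 1])])),
  (645, (lf [(5, [24, 0, 21, 0, 12]), (572, [24, 0, 3, 0, 23, 4])])),
  (924, (lf [(438, [24, 0, 0, 12, 14]), (499, [24, 0, 0, 14, 23, 23])])),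
  (983, (lf [(393, [24, 0, 0, 17, 14]), (566, [24, 0, 0, 17, 14, 24])])),
  (659, (lf [(227, [24, 0, 0, 16, 14]), (522, [24, 0, 0, 16, 14, 24])])),
  (1022, (lf [(523, [24, 0, 21, 0, 14]), (2, [24, 0, 0, 14, 24, 20])])),
  (907, (lf [(393, [0, 3, 0, 14, 17]), (566, [7, 3, 0, 14, 17, 24])])),
  (794, (lf [(346, [0, 4, 21, 0, 17]), (0, [24, 0, 20, 16, 12, 1])])),
  (642, (lf [(227, [1, 3, 0, 14, 16]), (522, [6, 3, 0, 14, 16, 24])])),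
  (1049, (lf [(462, [1, 4, 21, 0, 16]), (275, [24, 0, 20, 0, 12, 16])])),
  (673, (lf [(577, [24, 0, 0, 14, 12, 8]), (2, [24, 0, 0, 14, 24, 12])])),
  (1015, (lf [(93, [24, 0, 2, 0, 22, 5]), (496, [24, 0, 0, 24, 21, 12])])),
  (718, (lf [(512, [24, 0, 0, 12, 14, 8]), (391, [24, 0, 0, 24, 14, 12])])),
  (1021, (lf [(577, [24, 0, 21, 0, 14, 8]), (529, [24, 0, 0, 14, 24, 20, 8])])),
  (727, (lf [(438, [24, 0, 0, 12, 14, 12]), (391, [24, 0, 0, 24, 14])])),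
  (1071, (lf [(393, [24, 0, 0, 17, 14, 12]), (522, [24, 0, 0, 12, 16, 12, 14])])),
  (817, (lf [(227, [24, 0, 0, 16, 14, 12]), (566, [24, 0, 6, 5, 22, 17, 3])])),
  (879, (lf [(523, [24, 0, 21, 0, 14, 12]), (529, [24, 0, 3, 0, 23, 4, 14])])),
  (1012, (lf [(393, [0, 3, 0, 14, 17, 12]), (522, [7, 3, 5, 3, 22, 8, 1])])),
  (915, (lf [(346, [24, 0, 21, 0, 17, 12]), (275, [7, 4, 4, 8, 6, 18, 3])])),
  (972, (lf [(227, [1, 3, 0, 14, 16, 12]), (566, [6, 3, 3, 23, 3, 18, 5])])),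
  (730, (lf [(462, [24, 0, 21, 0, 16, 12]), (0, [6, 4, 21, 12, 16, 12, 1])])),
  (937, (lf [(321, [24, 0, 0, 4, 24, 5]), (517, [24, 0, 0, 23, 23])])),
  (1077, (lf [(546, [24, 0, 0, 17, 12, 14]), (347, [24, 0, 22, 0, 2, 18, 5])])),
  (651, (lf [(52, [24, 0, 0, 16, 12, 14]), (387, [24, 0, 8, 23, 0, 0, 0])])),
  (877, (lf [(438, [24, 0, 21, 0, 12, 14]), (499, [24, 0, 0, 23, 16, 22])])),
  (851, (lf [(387, [24, 0, 16, 12, 1, 14]), (546, [24, 0, 21, 8, 2, 0, 4])])),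
  (1069, (lf [(347, [24, 0, 0, 12, 16, 14]), (52, [24, 0, 8, 6, 2, 16, 3])])),
  (837, (lf [(387, [24, 0, 0, 12, 14, 17]), (546, [24, 0, 18, 4, 18, 23, 1])])),
  (1055, (lf [(347, [24, 0, 0, 12, 14, 16]), (52, [24, 0, 8, 2, 0, 4, 8])])),
  (738, (lf [(512, [24, 0, 1, 4, 23, 16, 3]), (499, [24, 0, 0, 24, 14, 8])])),
  (697, (lf [(577, [24, 0, 16, 22, 1, 22]), (2, [24, 0, 14, 6, 14, 12, 2])])),
  (997, (lf [(231, [24, 0, 12, 0, 23, 23]), (61, [24, 0, 0, 23, 23, 8])])),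
  (780, (lf [(512, [24, 0, 6, 18, 4, 8, 1]), (391, [24, 0, 0, 23, 17, 22])])),
  (862, (lf [(321, [24, 0, 3, 0, 12, 4]), (61, [24, 0, 0, 14, 24, 14])])),
  (639, (lf [(438, [24, 0, 21, 0, 12, 14, 12]), (391, [24, 0, 0, 24, 21, 14])])),
  (700, (lf [(387, [24, 0, 8, 5, 12, 8, 2]), (52, [24, 0, 22, 22, 8, 3, 0])])),
  (1034, (lf [(347, [24, 0, 1, 1, 22, 8, 0]), (546, [24, 0, 17, 23, 3, 14, 1])])),
  (813, (lf [(231, [24, 0, 5, 0, 8, 18, 1]), (517, [24, 0, 3, 0, 22, 4])])),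
  (824, (lf [(58, [24, 0, 0, 17, 4, 24, 5]), (188, [24, 0, 0, 22, 22, 16])])),
  (1065, (lf [(583, [24, 0, 14, 4, 22, 21, 1]), (368, [24, 0, 0, 22, 22, 17])])),
  (927, (lf [(321, [24, 0, 3, 18, 5, 22, 0]), (517, [24, 0, 0, 5, 24, 4])])),
  (832, (lf [(58, [0, 4, 18, 24, 17, 4, 3]), (188, [24, 0, 0, 23, 14, 22, 10])])),
  (951, (lf [(583, [1, 4, 14, 4, 22, 1]), (368, [24, 0, 0, 22, 14, 23])])),
  (656, (lf [(368, [7, 4, 14, 1, 18, 8, 2]), (58, [24, 0, 22, 24, 6, 8, 0, 0])])),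
  (722, (lf [(188, [6, 4, 0, 14, 12, 16, 14]), (583, [24, 0, 24, 14, 1, 2])])),
  (653, (lf [(368, [24, 0, 0, 22, 22, 17, 12]), (58, [24, 0, 14, 24, 20, 18, 3, 0])])),
  (865, (lf [(499, [24, 0, 21, 12, 0, 14]), (512, [24, 0, 6, 18, 4, 24, 1])])),
  (729, (lf [(188, [24, 0, 22, 18, 8, 6, 3]), (583, [24, 0, 24, 20, 14, 1, 2])])),
  (988, (lf [(231, [24, 0, 20, 2, 12, 3, 0]), (61, [24, 0, 2, 22, 5, 23, 2])])),
  (971, (lf [(321, [24, 0, 0, 22, 5, 8, 4]), (61, [24, 0, 0, 14, 24, 20, 14])])),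
  (666, (lf [(231, [24, 0, 23, 2, 18, 2, 18]), (517, [24, 0, 3, 23, 23, 2, 0])]))])

noncomputable def xk1 : CT := (nd [(823, (lf [(0, [24, 0, 1]), (504, [24, 0, 1, 24])])),
  (1077, (lf [(34, [24, 0, 1, 8]), (501, [24, 0, 1, 24, 8])])),
  (850, (lf [(0, [24, 0, 1, 12]), (501, [24, 0, 1, 12, 24])])),
  (723, (lf [(342, [24, 0, 1, 14]), (52, [24, 0, 1, 14, 24])])),
  (1038, (lf [(109, [3, 4, 1, 17]), (110, [24, 0, 1, 17, 24])])),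
  (660, (lf [(172, [2, 4, 1, 16]), (199, [24, 0, 1, 16, 24])])),
  (844, (lf [(0, [24, 0, 21, 1]), (504, [24, 0, 1, 24, 21])])),
  (737, (lf [(34, [24, 0, 1, 12, 8]), (504, [24, 0, 2, 23, 5])])),
  (696, (lf [(498, [24, 0, 1, 14, 8]), (598, [24, 0, 1, 14, 24, 8])])),
  (1034, (lf [(34, [24, 0, 21, 1, 8]), (501, [24, 0, 1, 24, 21, 8])])),
  (959, (lf [(342, [24, 0, 1, 14, 12]), (598, [24, 0, 1, 12, 24, 14])])),
  (728, (lf [(109, [24, 0, 1, 17, 12]), (199, [5, 4, 12, 17, 12, 0])])),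
  (967, (lf [(172, [24, 0, 12, 17, 0]), (110, [4, 4, 1, 12, 17, 12])])),
  (1042, (lf [(0, [24, 0, 21, 1, 12]), (501, [24, 0, 2, 24, 12, 5])])),
  (1052, (lf [(622, [24, 0, 1, 12, 14]), (353, [24, 0, 1, 14, 23, 23])])),
  (714, (lf [(469, [3, 3, 1, 17, 14]), (591, [2, 3, 1, 17, 14, 24])])),
  (759, (lf [(392, [2, 3, 1, 16, 14]), (586, [3, 3, 1, 16, 14, 24])])),
  (804, (lf [(342, [24, 0, 21, 1, 14]), (52, [24, 0, 1, 14, 24, 20])])),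
  (731, (lf [(469, [24, 0, 1, 14, 17]), (591, [24, 0, 1, 14, 17, 24])])),
  (1031, (lf [(109, [24, 0, 21, 1, 17]), (110, [24, 0, 2, 22, 5, 16])])),
  (872, (lf [(392, [24, 0, 1, 14, 16]), (586, [24, 0, 1, 14, 16, 24])])),
  (631, (lf [(172, [24, 0, 21, 1, 16]), (199, [24, 0, 20, 1, 12, 16])])),
  (973, (lf [(498, [24, 0, 1, 14, 12, 8]), (52, [24, 0, 1, 14, 24, 12])])),
  (874, (lf [(34, [24, 0, 2, 22, 5]), (504, [24, 0, 2, 23, 21, 5])])),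
  (909, (lf [(618, [24, 0, 1, 12, 14, 8]), (525, [24, 0, 1, 24, 14, 12])])),
  (772, (lf [(498, [24, 0, 21, 1, 14, 8]), (598, [24, 0, 14, 1, 24, 1, 2])])),
  (908, (lf [(622, [24, 0, 1, 12, 14, 12]), (525, [24, 0, 1, 24, 14])])),
  (885, (lf [(469, [5, 3, 1, 17, 14, 12]), (586, [5, 3, 0, 18, 5, 23, 10])])),
  (881, (lf [(392, [4, 3, 1, 16, 14, 12]), (591, [4, 3, 8, 23, 4, 2, 0])])),
  (843, (lf [(342, [24, 0, 21, 1, 14, 12]), (598, [24, 0, 2, 24, 12, 5, 14])])),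
  (817, (lf [(469, [24, 0, 1, 14, 17, 12]), (586, [24, 0, 1, 14, 12, 16, 12])])),
  (719, (lf [(109, [24, 0, 8, 3, 14, 2]), (199, [24, 0, 21, 12, 17, 12, 0])])),
  (858, (lf [(392, [24, 0, 1, 14, 16, 12]), (591, [24, 0, 23, 12, 1, 23])])),
  (924, (lf [(172, [24, 0, 21, 12, 17, 0]), (110, [24, 0, 18, 5, 17, 22, 1])])),
  (807, (lf [(361, [24, 0, 1, 4, 24, 5]), (509, [24, 0, 1, 23, 23])])),
  (990, (lf [(415, [24, 0, 1, 17, 12, 14]), (129, [24, 0, 17, 5, 0, 17, 1])])),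
  (1075, (lf [(21, [24, 0, 12, 17, 0, 14]), (542, [24, 0, 0, 18, 8, 5])])),
  (966, (lf [(622, [24, 0, 21, 1, 12, 14]), (353, [24, 0, 1, 23, 16, 22])])),
  (664, (lf [(542, [24, 0, 1, 12, 17, 14]), (415, [24, 0, 5, 18, 5, 0, 4])])),
  (812, (lf [(129, [24, 0, 1, 12, 16, 14]), (21, [24, 0, 0, 18, 5, 22])])),
  (710, (lf [(542, [24, 0, 1, 12, 14, 17]), (415, [24, 0, 5, 3, 1, 16, 6])])),
  (891, (lf [(129, [24, 0, 1, 12, 14, 16]), (21, [24, 0, 0, 16, 5, 14, 2])])),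
  (639, (lf [(618, [24, 0, 6, 23, 1, 8, 2]), (353, [24, 0, 1, 24, 14, 8])])),
  (1000, (lf [(498, [24, 0, 22, 5, 14, 3, 0]), (52, [24, 0, 22, 12, 6, 4, 3])])),
  (1051, (lf [(404, [24, 0, 16, 18, 17, 1]), (73, [24, 0, 1, 23, 23, 8])])),
  (827, (lf [(618, [24, 0, 2, 22, 5, 14]), (525, [24, 0, 1, 23, 17, 22])])),
  (1060, (lf [(361, [24, 0, 18, 8, 1, 4, 0]), (73, [24, 0, 2, 23, 24, 5])])),
  (969, (lf [(622, [24, 0, 18, 16, 4, 3]), (525, [24, 0, 1, 24, 21, 14])])),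
  (1073, (lf [(542, [24, 0, 16, 1, 4, 16, 1]), (21, [24, 0, 6, 17, 6, 14, 5])])),
  (992, (lf [(129, [24, 0, 23, 0, 12, 5, 0]), (415, [24, 0, 1, 24, 14, 16, 8])])),
  (658, (lf [(404, [24, 0, 16, 18, 12, 16, 1]), (509, [24, 0, 1, 22, 22, 12])])),
  (1018, (lf [(22, [5, 4, 1, 17, 4, 24, 5]), (327, [24, 0, 1, 22, 22, 16])])),
  (695, (lf [(585, [4, 4, 23, 17, 0, 22]), (156, [24, 0, 1, 22, 22, 17])])),
  (890, (lf [(361, [24, 0, 1, 5, 22, 22, 4]), (509, [24, 0, 1, 5, 24, 4])])),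
  (1025, (lf [(22, [24, 0, 1, 14, 17, 12, 14]), (327, [24, 0, 6, 4, 3, 22, 4])])),
  (914, (lf [(585, [24, 0, 6, 4, 3, 12, 4]), (156, [24, 0, 1, 22, 14, 23])])),
  (746, (lf [(156, [24, 0, 23, 5, 14, 0]), (22, [24, 0, 14, 4, 23, 1, 1])])),
  (1068, (lf [(327, [24, 0, 1, 14, 12, 16, 14]), (585, [24, 0, 23, 5, 14, 12, 0])])),
  (741, (lf [(156, [2, 4, 23, 20, 5, 14, 0]), (22, [24, 0, 24, 18, 2, 16, 3])])),
  (727, (lf [(353, [24, 0, 14, 0, 3, 23, 0]), (618, [24, 0, 24, 5, 18, 6, 0])])),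
  (917, (lf [(327, [3, 4, 16, 1, 23, 8, 2]), (585, [24, 0, 18, 23, 3, 22, 17])])),
  (956, (lf [(404, [24, 0, 21, 16, 18, 17, 1]), (73, [24, 0, 16, 12, 14, 1, 2])])),
  (1062, (lf [(361, [24, 0, 1, 22, 5, 8, 4]), (73, [24, 0, 17, 14, 1, 2])])),
  (632, (lf [(404, [24, 0, 2, 22, 24, 5, 8]), (509, [24, 0, 23, 4, 24, 1, 3])]))])

noncomputable def xk0 : CT := (nd [(630, (lf [(1, [0, 0]), (534, [24, 0, 24])])),
  (784, (lf [(1, [24, 0, 12]), (447, [0, 0, 12, 24])])),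
  (679, (lf [(207, [24, 0, 17]), (47, [24, 0, 17, 24])])),
  (658, (lf [(1, [24, 0, 21]), (534, [24, 0, 24, 21])])),
  (832, (lf [(207, [24, 0, 17, 12]), (204, [24, 0, 12, 16, 12])])),
  (806, (lf [(1, [24, 0, 21, 12]), (447, [24, 0, 12, 24, 21])])),
  (825, (lf [(566, [24, 0, 12, 14]), (480, [24, 0, 14, 23, 23])])),
  (873, (lf [(528, [24, 0, 17, 14]), (622, [24, 0, 17, 14, 24])])),
  (1045, (lf [(566, [24, 0, 12, 14, 12]), (237, [24, 0, 24, 14])])),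
  (750, (lf [(528, [24, 0, 17, 14, 12]), (384, [24, 0, 12, 16, 12, 14])])),
  (903, (lf [(544, [24, 0, 17, 12, 14]), (243, [24, 0, 12, 16, 14, 12])])),
  (833, (lf [(566, [24, 0, 21, 12, 14]), (480, [24, 0, 23, 16, 22])])),
  (964, (lf [(342, [24, 0, 12, 17, 14]), (544, [24, 0, 24, 17, 14, 12])])),
  (1002, (lf [(342, [24, 0, 12, 14, 17]), (544, [24, 0, 24, 14, 17, 12])])),
  (1048, (lf [(566, [24, 0, 21, 12, 14, 12]), (237, [24, 0, 24, 21, 14])])),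
  (900, (lf [(342, [24, 0, 12, 14, 17, 12]), (18, [24, 0, 24, 14, 17, 8])]))])


end Cfsg.Agent.Lib.ONE
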