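import Cfsg.Agent.Lib.BT4

/-! Certificates. -/

set_option autoImplicit false
set_option maxRecDepth 100000

namespace Cfsg.Agent.Lib.ONE

open Cfsg.Agent.Lib.PermNet Cfsg.Agent.Lib.Words Cfsg.Agent.Lib.PermGroup Cfsg.Agent.Lib.DCE Cfsg.Agent.Lib.PermModel Cfsg.Agent.Lib.BT

noncomputable def xk31 : CT := (nd [(960, (lf [(65, [24, 0, 5, 2]), (276, [24, 0, 5, 2, 24])])),
  (784, (lf [(198, [24, 0, 5, 2, 8]), (231, [24, 0, 5, 2, 24, 8])])),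
  (743, (lf [(65, [24, 0, 5, 2, 12]), (231, [24, 0, 2, 22, 3, 1])])),
  (802, (lf [(289, [24, 0, 5, 2, 14]), (200, [24, 0, 5, 2, 14, 24])])),
  (898, (lf [(585, [24, 0, 5, 2, 17]), (30, [12, 3, 5, 2, 17, 24])])),
  (825, (lf [(574, [24, 0, 5, 2, 16]), (203, [15, 6, 5, 2, 16, 24])])),
  (883, (lf [(65, [24, 0, 21, 5, 2]), (276, [24, 0, 2, 22, 22, 5])])),
  (651, (lf [(198, [24, 0, 5, 2, 12, 8]), (276, [24, 0, 5, 2, 24, 12])])),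
  (730, (lf [(463, [24, 0, 5, 2, 14, 8]), (614, [24, 0, 6, 0, 18, 8, 0])])),
  (806, (lf [(198, [24, 0, 21, 5, 2, 8]), (231, [24, 0, 1, 23, 4, 22, 5])])),
  (978, (lf [(289, [24, 0, 5, 2, 14, 12]), (614, [24, 0, 12, 17, 12, 3])])),
  (1000, (lf [(585, [21, 5, 5, 2, 17, 12]), (203, [24, 0, 5, 2, 12, 16, 12])])),
  (1061, (lf [(574, [23, 5, 5, 2, 16, 12]), (30, [24, 0, 5, 2, 12, 17, 12])])),
  (808, (lf [(65, [24, 0, 21, 5, 2, 12]), (231, [24, 0, 12, 0, 8, 3])])),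
  (914, (lf [(458, [24, 0, 5, 2, 12, 14]), (339, [24, 0, 6, 22, 24, 18, 2])])),
  (689, (lf [(455, [24, 0, 5, 2, 17, 14]), (602, [24, 0, 5, 2, 17, 14, 24])])),
  (817, (lf [(161, [24, 0, 5, 2, 16, 14]), (217, [24, 0, 2, 24, 14, 17, 4])])),
  (790, (lf [(289, [24, 0, 21, 5, 2, 14]), (200, [24, 0, 5, 2, 14, 24, 20])])),
  (768, (lf [(455, [24, 0, 5, 2, 14, 17]), (602, [24, 0, 6, 23, 18, 2, 17])])),
  (909, (lf [(585, [24, 0, 21, 5, 2, 17]), (30, [24, 0, 6, 0, 2, 8, 1])])),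
  (972, (lf [(161, [24, 0, 14, 4, 14, 1]), (217, [24, 0, 2, 17, 12, 14, 4])])),
  (833, (lf [(574, [24, 0, 21, 5, 2, 16]), (203, [24, 0, 20, 5, 2, 12, 16])])),
  (1057, (lf [(463, [24, 0, 23, 23, 17, 5, 0]), (200, [24, 0, 12, 17, 12, 3, 8])])),
  (700, (lf [(198, [24, 0, 3, 0, 22, 0]), (276, [24, 0, 12, 0, 8, 3, 8])])),
  (979, (lf [(358, [24, 0, 1, 16, 24, 1, 3]), (209, [24, 0, 6, 1, 12, 1, 1])])),
  (723, (lf [(463, [24, 0, 24, 4, 16, 4, 2]), (614, [24, 0, 1, 17, 5, 12, 1])])),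
  (647, (lf [(458, [24, 0, 6, 14, 2, 16, 2]), (209, [24, 0, 5, 2, 24, 14])])),
  (694, (lf [(455, [24, 0, 5, 2, 17, 14, 12]), (217, [24, 0, 18, 5, 2, 12, 2, 0])])),
  (640, (lf [(161, [24, 0, 16, 5, 12, 17, 1]), (602, [24, 0, 0, 18, 0, 4, 1])])),
  (1044, (lf [(289, [24, 0, 17, 18, 12, 2, 0]), (614, [24, 0, 17, 5, 22, 10, 0])])),
  (814, (lf [(455, [24, 0, 1, 4, 3, 1, 4]), (217, [24, 0, 12, 3, 8, 18, 1])])),
  (986, (lf [(585, [24, 0, 1, 14, 2, 0]), (203, [24, 0, 0, 24, 3, 16])])),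
  (681, (lf [(161, [24, 0, 18, 5, 12, 3, 0]), (602, [24, 0, 0, 24, 3, 17, 14])])),
  (1064, (lf [(574, [24, 0, 16, 4, 23, 8, 2]), (30, [24, 0, 0, 24, 3, 17])])),
  (671, (lf [(541, [24, 0, 2, 24, 5]), (545, [24, 0, 5, 2, 23, 23])])),
  (970, (lf [(215, [21, 2, 18, 23, 1, 18]), (228, [8, 6, 24, 5, 22, 4, 0])])),
  (891, (lf [(155, [23, 2, 5, 2, 16, 12, 14]), (315, [16, 6, 22, 17, 2, 23, 14])])),
  (747, (lf [(458, [24, 0, 1, 23, 17, 1, 3]), (339, [24, 0, 22, 5, 18, 17, 4])])),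
  (949, (lf [(315, [12, 4, 23, 12, 5, 1, 5]), (215, [18, 3, 22, 5, 3, 8, 18])])),
  (845, (lf [(228, [15, 1, 18, 4, 12, 24, 2]), (155, [10, 3, 21, 18, 5, 3, 0])])),
  (958, (lf [(315, [24, 0, 18, 23, 24, 18, 5]), (215, [24, 0, 18, 5, 3, 0, 8])])),
  (849, (lf [(228, [24, 0, 16, 5, 14, 1, 2]), (155, [24, 0, 18, 10, 5, 3, 0])])),
  (727, (lf [(358, [24, 0, 6, 18, 23, 18, 2]), (339, [24, 0, 17, 18, 2, 0])])),
  (917, (lf [(463, [24, 0, 16, 5, 24, 0]), (200, [24, 0, 12, 1, 12, 6, 4])])),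
  (764, (lf [(416, [24, 0, 2, 24, 5, 8]), (26, [24, 0, 2, 8, 23, 12, 5])])),
  (818, (lf [(358, [24, 0, 3, 0, 22, 0, 14]), (209, [24, 0, 6, 16, 22, 0, 14])])),
  (901, (lf [(541, [24, 0, 5, 1, 12, 4]), (26, [24, 0, 2, 24, 22, 3, 1])])),
  (635, (lf [(458, [24, 0, 4, 3, 17, 18, 1]), (209, [24, 0, 6, 4, 17, 12, 6])])),
  (799, (lf [(315, [24, 0, 2, 14, 12, 17, 4]), (155, [24, 0, 18, 5, 3, 0, 12])])),
  (904, (lf [(228, [24, 0, 12, 3, 1, 4, 0]), (215, [24, 0, 1, 14, 2, 0, 14])])),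
  (1017, (lf [(416, [24, 0, 4, 2, 12, 0, 2]), (545, [24, 0, 5, 1, 22, 4])])),
  (857, (lf [(114, [24, 0, 8, 22, 3, 17, 1]), (199, [16, 1, 22, 17, 2, 23])])),
  (951, (lf [(619, [24, 0, 22, 2, 16, 4, 2]), (438, [8, 1, 20, 16, 6, 16, 2])])),
  (756, (lf [(541, [24, 0, 2, 24, 21, 5]), (545, [24, 0, 4, 2, 24, 4])])),
  (880, (lf [(114, [24, 0, 12, 1, 17, 5, 3]), (199, [24, 0, 14, 23, 2, 23])])),
  (1038, (lf [(619, [24, 0, 24, 18, 24, 16, 3]), (438, [24, 0, 16, 6, 16, 2])])),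
  (967, (lf [(438, [24, 0, 16, 6, 16, 2, 12]), (114, [24, 0, 21, 18, 0, 16, 2])])),
  (868, (lf [(199, [24, 0, 16, 4, 12, 0, 0]), (619, [24, 0, 1, 4, 17, 2, 0])])),
  (987, (lf [(438, [24, 0, 2, 24, 5, 17]), (114, [10, 4, 18, 0, 16, 2])])),
  (650, (lf [(339, [24, 0, 20, 17, 18, 2, 0]), (358, [24, 0, 17, 14, 12, 6, 18])])),
  (748, (lf [(199, [24, 0, 2, 24, 5, 16]), (619, [18, 4, 18, 24, 22, 3, 16])])),
  (811, (lf [(416, [24, 0, 6, 16, 22, 12, 0]), (26, [24, 0, 3, 22, 12, 18, 3])])),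
  (835, (lf [(541, [24, 0, 18, 24, 22, 20, 3]), (26, [24, 0, 6, 8, 2, 14, 1])])),
  (939, (lf [(416, [24, 0, 2, 24, 23, 3, 1]), (545, [24, 0, 2, 12, 8, 3, 1])]))])

noncomputable def xk30 : CT := (nd [(688, (lf [(21, [24, 0, 0, 2]), (495, [24, 0, 0, 2, 24])])),
  (990, (lf [(184, [24, 0, 0, 2, 8]), (242, [24, 0, 0, 2, 24, 8])])),
  (1051, (lf [(21, [24, 0, 0, 2, 12]), (242, [24, 0, 23, 20, 4])])),
  (877, (lf [(143, [24, 0, 0, 2, 14]), (58, [14, 3, 12, 4, 24, 14])])),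
  (918, (lf [(281, [24, 0, 0, 2, 17]), (49, [24, 0, 0, 2, 17, 24])])),
  (766, (lf [(503, [24, 0, 0, 2, 16]), (86, [24, 0, 0, 2, 16, 24])])),
  (778, (lf [(21, [24, 0, 21, 0, 2]), (495, [24, 0, 23, 4, 12, 8])])),
  (664, (lf [(184, [24, 0, 0, 2, 12, 8]), (495, [24, 0, 12, 24, 21, 4])])),
  (1068, (lf [(294, [24, 0, 0, 2, 14, 8]), (412, [13, 1, 22, 4, 14, 10])])),
  (992, (lf [(184, [24, 0, 21, 0, 2, 8]), (242, [24, 0, 23, 4, 12])])),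
  (1040, (lf [(143, [20, 3, 0, 2, 14, 12]), (412, [24, 0, 23, 20, 4, 14])])),
  (716, (lf [(281, [24, 0, 0, 2, 17, 12]), (86, [24, 0, 23, 21, 4, 16])])),
  (791, (lf [(503, [24, 0, 0, 2, 16, 12]), (49, [24, 0, 23, 21, 4, 17])])),
  (956, (lf [(21, [24, 0, 23, 4, 24]), (242, [24, 0, 23, 4])])),
  (825, (lf [(582, [24, 0, 0, 2, 12, 14]), (497, [19, 1, 14, 0, 4, 8, 1])])),
  (663, (lf [(352, [24, 0, 0, 2, 17, 14]), (615, [24, 0, 18, 16, 14, 4, 2])])),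
  (759, (lf [(388, [24, 0, 4, 18, 0, 3]), (518, [24, 0, 1, 23, 8, 1, 3])])),
  (987, (lf [(143, [24, 0, 21, 0, 2, 14]), (58, [24, 0, 23, 4, 14, 12, 8])])),
  (630, (lf [(352, [24, 0, 16, 14, 3, 1]), (615, [24, 0, 5, 23, 1, 8, 0])])),
  (1056, (lf [(281, [24, 0, 21, 0, 2, 17]), (49, [24, 0, 23, 4, 17, 12])])),
  (872, (lf [(388, [24, 0, 0, 2, 14, 16]), (518, [24, 0, 1, 5, 22, 24, 1])])),
  (809, (lf [(503, [24, 0, 21, 0, 2, 16]), (86, [24, 0, 23, 4, 16, 12])])),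
  (832, (lf [(294, [22, 3, 21, 4, 1, 14, 5]), (58, [24, 0, 23, 20, 4, 14, 8])])),
  (710, (lf [(184, [24, 0, 22, 22, 12, 4]), (495, [24, 0, 23, 4, 8])])),
  (719, (lf [(492, [24, 0, 1, 16, 3, 1, 4]), (329, [11, 1, 22, 4, 12, 14])])),
  (1003, (lf [(294, [24, 0, 21, 0, 2, 14, 8]), (412, [24, 0, 23, 4, 14, 12])])),
  (680, (lf [(582, [17, 4, 23, 24, 4, 14]), (329, [24, 0, 0, 2, 24, 14])])),
  (1070, (lf [(352, [24, 0, 8, 1, 8, 2, 0]), (518, [24, 0, 23, 4, 14, 16])])),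
  (976, (lf [(388, [24, 0, 16, 14, 22, 5]), (615, [24, 0, 16, 22, 17, 5])])),
  (1036, (lf [(143, [24, 0, 23, 4, 14, 24]), (412, [24, 0, 23, 4, 14])])),
  (1075, (lf [(352, [24, 0, 16, 12, 14, 12, 5]), (518, [24, 0, 1, 5, 22, 8, 1])])),
  (675, (lf [(281, [24, 0, 23, 4, 12, 16]), (86, [24, 0, 23, 4, 17, 8])])),
  (850, (lf [(388, [24, 0, 22, 16, 14, 5]), (615, [24, 0, 23, 14, 17, 8, 5])])),
  (713, (lf [(503, [24, 0, 23, 4, 12, 17]), (49, [24, 0, 23, 4, 16, 8])])),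
  (957, (lf [(489, [20, 4, 12, 4, 12]), (586, [11, 6, 22, 4, 12, 10])])),
  (890, (lf [(507, [24, 0, 12, 4, 16, 14, 12]), (182, [24, 0, 17, 12, 14, 3, 1])])),
  (788, (lf [(28, [24, 0, 14, 12, 17, 3, 1]), (195, [24, 0, 24, 3, 23, 12, 2])])),
  (833, (lf [(582, [24, 0, 23, 4, 24, 14]), (497, [24, 0, 14, 6, 16, 3, 1])])),
  (860, (lf [(195, [24, 0, 22, 16, 12, 14, 5]), (507, [24, 0, 12, 5, 14, 17, 4])])),
  (972, (lf [(182, [24, 0, 17, 14, 12, 5]), (28, [24, 0, 12, 14, 17, 8, 5])])),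
  (820, (lf [(195, [24, 0, 24, 14, 23, 14, 5]), (507, [24, 0, 23, 24, 16, 14, 5])])),
  (735, (lf [(182, [24, 0, 14, 17, 12, 5]), (28, [24, 0, 12, 16, 14, 5])])),
  (752, (lf [(492, [9, 4, 12, 4, 14, 10]), (497, [24, 0, 20, 16, 6, 8, 6])])),
  (740, (lf [(294, [24, 0, 4, 1, 14, 10, 5]), (58, [24, 0, 23, 4, 14, 8])])),
  (858, (lf [(71, [22, 4, 12, 4, 12, 8]), (5, [19, 6, 12, 4, 24, 12])])),
  (802, (lf [(492, [24, 0, 5, 17, 0, 24, 1]), (329, [24, 0, 1, 12, 2, 0, 14])])),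
  (731, (lf [(489, [9, 3, 12, 4]), (5, [14, 4, 12, 4, 24])])),
  (726, (lf [(582, [24, 0, 14, 6, 16, 23, 5]), (329, [24, 0, 22, 2, 17, 18, 1])])),
  (812, (lf [(195, [24, 0, 16, 5, 17, 0, 5]), (28, [24, 0, 17, 14, 24, 3, 1])])),
  (798, (lf [(182, [24, 0, 2, 0, 22, 8, 0]), (507, [24, 0, 12, 4, 14, 16, 12])])),
  (1062, (lf [(71, [17, 3, 23, 24, 4]), (586, [13, 6, 22, 4])])),
  (1001, (lf [(48, [24, 0, 22, 4, 17, 8]), (477, [24, 0, 22, 4, 12, 16])])),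
  (968, (lf [(359, [24, 0, 22, 4, 16, 8]), (308, [24, 0, 22, 4, 12, 17])])),
  (1077, (lf [(489, [24, 0, 21, 12, 4, 12]), (586, [24, 0, 24, 8, 0, 2])])),
  (925, (lf [(48, [24, 0, 22, 20, 4, 16]), (477, [24, 0, 17, 5, 14, 24, 6])])),
  (751, (lf [(359, [24, 0, 22, 20, 4, 17]), (308, [24, 0, 14, 6, 14, 0, 2])])),
  (656, (lf [(308, [24, 0, 23, 18, 6, 12, 2]), (48, [24, 0, 20, 12, 4, 17])])),
  (779, (lf [(477, [24, 0, 17, 0, 2, 17, 6]), (359, [24, 0, 20, 12, 4, 16])])),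
  (653, (lf [(308, [24, 0, 4, 1, 17, 4]), (48, [24, 0, 12, 4, 16, 8])])),
  (765, (lf [(497, [24, 0, 5, 23, 6, 23, 2]), (492, [24, 0, 21, 12, 4, 14])])),
  (665, (lf [(477, [24, 0, 12, 4, 12, 16]), (359, [24, 0, 12, 4, 17, 8])])),
  (970, (lf [(71, [24, 0, 22, 22, 0, 2]), (5, [24, 0, 24, 23, 4, 22])])),
  (782, (lf [(489, [24, 0, 21, 12, 4]), (5, [24, 0, 22, 20, 4, 8])])),
  (1026, (lf [(71, [24, 0, 23, 24, 21, 4]), (586, [24, 0, 22, 21, 4])]))])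

noncomputable def xk29 : CT := (nd [(850, (lf [(181, [24, 0, 22, 3]), (501, [24, 0, 22, 3, 24])])),
  (988, (lf [(299, [24, 0, 22, 3, 8]), (476, [24, 0, 22, 3, 24, 8])])),
  (682, (lf [(181, [24, 0, 22, 3, 12]), (476, [24, 0, 22, 3, 12, 24])])),
  (861, (lf [(373, [24, 0, 22, 3, 14]), (22, [24, 0, 1, 14, 4, 18])])),
  (911, (lf [(123, [11, 4, 22, 3, 17]), (14, [24, 0, 5, 12, 16, 1])])),
  (847, (lf [(296, [19, 4, 22, 3, 16]), (218, [24, 0, 22, 3, 16, 24])])),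
  (1042, (lf [(181, [24, 0, 22, 21, 3]), (501, [24, 0, 22, 3, 24, 21])])),
  (799, (lf [(299, [24, 0, 22, 3, 12, 8]), (501, [24, 0, 22, 3, 24, 12])])),
  (909, (lf [(262, [24, 0, 22, 3, 14, 8]), (267, [24, 0, 1, 18, 6, 8, 3])])),
  (995, (lf [(299, [24, 0, 22, 21, 3, 8]), (476, [24, 0, 23, 23, 5, 8, 0])])),
  (917, (lf [(373, [24, 0, 22, 3, 14, 12]), (267, [24, 0, 16, 24, 2, 14, 6])])),
  (977, (lf [(123, [24, 0, 22, 3, 17, 12]), (218, [17, 2, 23, 23, 6, 0, 5])])),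
  (821, (lf [(296, [24, 0, 22, 3, 16, 12]), (14, [9, 2, 5, 17, 1])])),
  (655, (lf [(181, [24, 0, 22, 21, 3, 12]), (476, [24, 0, 1, 22, 0, 24, 0])])),
  (824, (lf [(512, [24, 0, 22, 3, 12, 14]), (255, [24, 0, 22, 3, 14, 23, 23])])),
  (725, (lf [(211, [11, 3, 22, 3, 17, 14]), (321, [13, 5, 8, 4, 23, 2])])),
  (1077, (lf [(500, [19, 3, 22, 3, 16, 14]), (406, [14, 1, 22, 18, 4, 18, 4])])),
  (863, (lf [(373, [24, 0, 4, 18, 16, 5]), (22, [24, 0, 16, 18, 4, 23, 8])])),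
  (678, (lf [(211, [24, 0, 22, 3, 14, 17]), (321, [24, 0, 12, 0, 3])])),
  (695, (lf [(123, [24, 0, 22, 21, 3, 17]), (14, [24, 0, 21, 5, 12, 16, 1])])),
  (1034, (lf [(500, [24, 0, 22, 3, 14, 16]), (406, [24, 0, 8, 23, 18, 5])])),
  (975, (lf [(296, [24, 0, 4, 18, 14, 4]), (218, [24, 0, 0, 14, 5, 18])])),
  (913, (lf [(262, [24, 0, 12, 0, 3, 17]), (22, [24, 0, 1, 14, 4, 18, 12])])),
  (788, (lf [(299, [24, 0, 22, 4, 0, 22, 0]), (501, [24, 0, 22, 24, 1, 5, 2])])),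
  (637, (lf [(297, [24, 0, 22, 3, 12, 14, 8]), (506, [24, 0, 16, 2, 23, 8, 0])])),
  (827, (lf [(262, [24, 0, 4, 18, 16, 5, 8]), (267, [24, 0, 16, 18, 4, 23])])),
  (712, (lf [(512, [24, 0, 17, 3, 24, 20, 2]), (506, [24, 0, 22, 3, 24, 14])])),
  (813, (lf [(211, [22, 1, 18, 24, 18, 5, 1]), (406, [17, 5, 23, 17, 14, 0, 18])])),
  (797, (lf [(500, [20, 1, 12, 4, 17, 6, 4]), (321, [9, 5, 5, 17, 1, 14])])),
  (1068, (lf [(373, [24, 0, 6, 8, 3, 22, 3]), (267, [24, 0, 18, 3, 17, 0, 5])])),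
  (666, (lf [(211, [24, 0, 12, 1, 1, 23, 5]), (406, [24, 0, 12, 0, 3, 12, 8])])),
  (1043, (lf [(123, [24, 0, 17, 4, 1, 12, 1]), (218, [24, 0, 20, 5, 17, 1, 8])])),
  (786, (lf [(500, [24, 0, 18, 22, 0, 22, 0]), (321, [24, 0, 24, 5, 0, 23, 5])])),
  (865, (lf [(296, [24, 0, 4, 18, 14, 4, 12]), (14, [24, 0, 21, 5, 17, 1])])),
  (1027, (lf [(200, [24, 0, 5, 1, 23, 8, 2]), (562, [24, 0, 22, 3, 23, 23])])),
  (774, (lf [(278, [24, 0, 12, 8, 5, 18, 4]), (293, [24, 0, 2, 24, 0, 4, 8])])),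
  (901, (lf [(300, [24, 0, 24, 22, 1, 22, 3]), (548, [24, 0, 5, 23, 5, 12, 2])])),
  (832, (lf [(512, [24, 0, 2, 16, 8, 5, 1]), (255, [24, 0, 22, 3, 23, 16, 22])])),
  (714, (lf [(548, [24, 0, 5, 16, 24, 1, 14]), (278, [24, 0, 18, 23, 8, 2, 22, 0])])),
  (640, (lf [(293, [24, 0, 22, 3, 12, 16, 14]), (300, [24, 0, 6, 18, 6, 22, 21, 0])])),
  (731, (lf [(548, [24, 0, 2, 14, 2, 14, 2]), (278, [24, 0, 4, 24, 23, 18, 4, 0])])),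
  (681, (lf [(293, [24, 0, 22, 3, 12, 14, 16]), (300, [24, 0, 1, 23, 6, 18, 6])])),
  (690, (lf [(297, [24, 0, 20, 14, 5, 0, 0]), (255, [24, 0, 22, 3, 24, 14, 8])])),
  (897, (lf [(262, [24, 0, 16, 18, 24, 8, 4]), (22, [24, 0, 4, 18, 17, 5, 22])])),
  (756, (lf [(266, [24, 0, 24, 18, 5, 2, 12]), (533, [24, 0, 14, 1, 17, 4, 1])])),
  (657, (lf [(297, [24, 0, 16, 18, 4, 22]), (506, [24, 0, 14, 8, 5, 1, 4])])),
  (1012, (lf [(200, [24, 0, 22, 2, 1, 12, 4]), (533, [24, 0, 3, 24, 1, 18, 1])])),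
  (718, (lf [(512, [24, 0, 22, 5, 17, 18, 1]), (506, [24, 0, 14, 4, 0, 22, 1])])),
  (835, (lf [(548, [24, 0, 2, 24, 20, 0, 4]), (300, [24, 0, 8, 5, 23, 3, 0])])),
  (869, (lf [(293, [24, 0, 0, 12, 18, 10, 2, 0]), (278, [24, 0, 16, 18, 8, 4, 17])])),
  (923, (lf [(266, [24, 0, 24, 18, 10, 5, 2]), (562, [24, 0, 12, 8, 2, 18, 0])])),
  (1001, (lf [(332, [22, 6, 16, 1, 1, 4, 12]), (217, [24, 0, 6, 2, 1, 5, 0])])),
  (915, (lf [(593, [20, 6, 1, 14, 12, 18, 1]), (333, [24, 0, 4, 18, 14, 24, 4])])),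
  (1006, (lf [(200, [24, 0, 3, 12, 2, 18, 12]), (562, [24, 0, 0, 18, 1, 22, 3])])),
  (925, (lf [(332, [24, 0, 0, 12, 16, 5, 2]), (217, [24, 0, 2, 0, 8, 2, 17])])),
  (980, (lf [(593, [24, 0, 5, 14, 8, 1, 2]), (333, [24, 0, 2, 0, 8, 2, 16])])),
  (713, (lf [(333, [24, 0, 3, 18, 5, 17, 0]), (332, [24, 0, 20, 16, 1, 1, 4])])),
  (986, (lf [(217, [24, 0, 20, 5, 18, 17, 1]), (593, [24, 0, 23, 16, 6, 17, 1])])),
  (791, (lf [(333, [13, 2, 14, 12, 4, 0, 4]), (332, [24, 0, 17, 8, 1, 1, 4])])),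
  (744, (lf [(255, [24, 0, 16, 18, 5, 8, 5]), (297, [24, 0, 14, 10, 5, 0, 0])])),
  (1000, (lf [(217, [14, 6, 3, 1, 17, 18, 0]), (593, [24, 0, 18, 0, 12, 14, 2])])),
  (701, (lf [(266, [24, 0, 0, 23, 5, 3, 0]), (533, [24, 0, 2, 0, 8, 2])])),
  (1072, (lf [(200, [24, 0, 3, 12, 2, 18]), (533, [24, 0, 8, 0, 3, 23, 3])])),
  (838, (lf [(266, [24, 0, 8, 0, 18, 4, 1]), (562, [24, 0, 20, 1, 18, 4, 3, 0])]))])

noncomputable def xk28 : CT := (nd [(887, (lf [(287, [24, 0, 17, 3]), (267, [24, 0, 17, 3, 24])])),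
  (713, (lf [(118, [24, 0, 17, 3, 8]), (615, [24, 0, 17, 3, 24, 8])])),
  (884, (lf [(287, [24, 0, 17, 3, 12]), (615, [24, 0, 0, 16, 23, 3])])),
  (1067, (lf [(346, [24, 0, 17, 3, 14]), (86, [24, 0, 17, 3, 14, 24])])),
  (733, (lf [(465, [24, 0, 17, 3, 17]), (351, [24, 0, 3, 22, 18, 8])])),
  (916, (lf [(171, [24, 0, 17, 3, 16]), (328, [24, 0, 3, 22, 18, 10])])),
  (794, (lf [(287, [24, 0, 20, 17, 3]), (267, [24, 0, 17, 3, 24, 21])])),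
  (809, (lf [(118, [24, 0, 17, 3, 12, 8]), (267, [24, 0, 17, 3, 24, 12])])),
  (1039, (lf [(223, [24, 0, 17, 3, 14, 8]), (268, [24, 0, 5, 2, 22, 20, 2])])),
  (791, (lf [(118, [24, 0, 20, 17, 3, 8]), (615, [24, 0, 2, 14, 22, 1])])),
  (632, (lf [(346, [24, 0, 17, 3, 14, 12]), (268, [24, 0, 23, 16, 2, 16, 0])])),
  (768, (lf [(465, [24, 0, 17, 3, 17, 12]), (328, [24, 0, 3, 22, 18, 12])])),
  (1007, (lf [(171, [24, 0, 17, 3, 16, 12]), (351, [24, 0, 17, 23, 5, 17, 1])])),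
  (863, (lf [(287, [24, 0, 20, 17, 3, 12]), (615, [24, 0, 12, 1, 18, 6, 2])])),
  (856, (lf [(479, [24, 0, 17, 3, 12, 14]), (105, [24, 0, 2, 12, 5, 12, 2])])),
  (822, (lf [(68, [24, 0, 17, 3, 17, 14]), (494, [24, 0, 16, 23, 4, 23, 2])])),
  (989, (lf [(93, [24, 0, 18, 5, 24, 6]), (504, [24, 0, 17, 18, 4, 18, 4])])),
  (1073, (lf [(346, [24, 0, 24, 0, 8, 3]), (86, [24, 0, 3, 23, 16, 6, 0])])),
  (897, (lf [(68, [24, 0, 17, 3, 14, 17]), (494, [23, 5, 17, 23, 12, 0, 3])])),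
  (668, (lf [(465, [24, 0, 20, 17, 3, 17]), (351, [24, 0, 6, 2, 17, 4, 3])])),
  (1030, (lf [(93, [24, 0, 17, 3, 14, 16]), (504, [21, 5, 22, 22, 17, 18, 5])])),
  (1005, (lf [(171, [24, 0, 20, 17, 3, 16]), (328, [24, 0, 3, 22, 21, 18])])),
  (923, (lf [(223, [24, 0, 3, 1, 4, 3, 0]), (86, [24, 0, 4, 17, 12, 6, 1])])),
  (766, (lf [(118, [24, 0, 17, 4, 0, 22, 0]), (267, [24, 0, 17, 24, 1, 5, 2])])),
  (640, (lf [(389, [24, 0, 6, 1, 14, 3]), (195, [24, 0, 22, 5, 1, 4])])),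
  (1055, (lf [(223, [24, 0, 1, 24, 10, 0, 0]), (268, [24, 0, 5, 1, 1, 23, 1])])),
  (938, (lf [(479, [24, 0, 5, 18, 22, 21, 1]), (195, [24, 0, 17, 3, 24, 14])])),
  (908, (lf [(68, [24, 0, 17, 3, 17, 14, 12]), (504, [24, 0, 23, 21, 6, 4, 0])])),
  (1036, (lf [(93, [24, 0, 18, 5, 24, 6, 12]), (494, [24, 0, 16, 0, 17, 22, 6])])),
  (658, (lf [(346, [24, 0, 23, 18, 8, 22, 0]), (268, [24, 0, 14, 22, 2, 17, 8, 0])])),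
  (880, (lf [(68, [12, 3, 17, 3, 14, 17, 12]), (504, [24, 0, 23, 6, 4, 0])])),
  (689, (lf [(465, [24, 0, 22, 17, 18, 17, 5]), (328, [24, 0, 23, 2, 8, 3])])),
  (1040, (lf [(93, [15, 6, 23, 6, 4, 12, 0]), (494, [24, 0, 16, 0, 23, 14, 6])])),
  (1013, (lf [(171, [24, 0, 20, 17, 3, 16, 12]), (351, [24, 0, 5, 23, 4, 1, 1])])),
  (902, (lf [(280, [24, 0, 17, 4, 3, 24, 5]), (477, [24, 0, 17, 3, 23, 23])])),
  (802, (lf [(26, [24, 0, 24, 6, 22, 18, 12]), (157, [24, 0, 4, 18, 24, 16, 2])])),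
  (932, (lf [(295, [24, 0, 12, 16, 1, 22, 3]), (376, [24, 0, 5, 16, 18, 0, 23])])),
  (873, (lf [(479, [24, 0, 2, 24, 22, 3, 0]), (105, [24, 0, 1, 22, 24, 12, 2])])),
  (729, (lf [(376, [24, 0, 17, 3, 12, 17, 14]), (26, [24, 0, 22, 6, 18, 23, 5])])),
  (1050, (lf [(157, [24, 0, 3, 22, 18, 14]), (295, [24, 0, 24, 6, 22, 18, 8])])),
  (792, (lf [(376, [24, 0, 22, 6, 18, 22, 5]), (26, [8, 1, 14, 6, 17, 4, 0])])),
  (942, (lf [(157, [24, 0, 3, 16, 23, 18]), (295, [16, 1, 23, 8, 0, 16, 4])])),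
  (971, (lf [(389, [24, 0, 22, 8, 5, 0, 0]), (105, [24, 0, 1, 3, 17, 22, 6])])),
  (933, (lf [(223, [24, 0, 6, 3, 24, 17, 3]), (86, [24, 0, 24, 21, 12, 5, 2])])),
  (647, (lf [(519, [24, 0, 6, 3, 0, 8, 3]), (163, [24, 0, 8, 6, 0, 24, 4])])),
  (687, (lf [(389, [24, 0, 20, 6, 1, 14, 3]), (195, [24, 0, 22, 20, 5, 1, 4])])),
  (699, (lf [(280, [24, 0, 17, 2, 1, 12, 4]), (163, [24, 0, 17, 3, 14, 24, 14])])),
  (1016, (lf [(479, [24, 0, 5, 18, 22, 1]), (195, [24, 0, 17, 3, 24, 21, 14])])),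
  (922, (lf [(376, [18, 4, 23, 0, 3, 14, 3]), (295, [24, 0, 16, 22, 12, 2, 1])])),
  (719, (lf [(157, [10, 4, 6, 0, 24, 0, 0]), (26, [24, 0, 24, 2, 24, 6, 23])])),
  (696, (lf [(519, [24, 0, 14, 1, 3, 18, 4]), (477, [24, 0, 18, 12, 14, 4, 2])])),
  (1017, (lf [(622, [24, 0, 14, 1, 12, 14, 1]), (224, [24, 0, 2, 14, 5, 14, 0])])),
  (1054, (lf [(562, [24, 0, 5, 12, 4, 3, 23]), (289, [24, 0, 17, 3, 22, 22, 17])])),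
  (892, (lf [(280, [24, 0, 2, 17, 4, 12, 1]), (477, [24, 0, 17, 5, 3, 24, 4])])),
  (1024, (lf [(622, [12, 4, 24, 22, 5, 1, 5]), (224, [18, 3, 2, 17, 4, 17, 0])])),
  (1034, (lf [(562, [15, 1, 3, 8, 18, 0, 18]), (289, [10, 3, 3, 12, 2, 1, 4])])),
  (954, (lf [(289, [23, 2, 0, 23, 3, 8, 18]), (622, [16, 6, 18, 2, 22, 1, 4])])),
  (1006, (lf [(224, [21, 2, 6, 24, 6, 22, 24]), (562, [8, 6, 6, 24, 6, 22])])),
  (963, (lf [(289, [24, 0, 18, 0, 4, 22, 18]), (622, [24, 0, 3, 24, 0, 23, 3])])),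
  (960, (lf [(105, [24, 0, 18, 0, 3, 22, 2]), (389, [24, 0, 14, 3, 12, 10, 6])])),
  (1011, (lf [(224, [24, 0, 16, 22, 3, 24, 6]), (562, [24, 0, 3, 18, 12, 4, 1])])),
  (631, (lf [(519, [24, 0, 4, 18, 6, 2, 18]), (163, [24, 0, 12, 14, 1, 3, 1])])),
  (767, (lf [(280, [24, 0, 12, 4, 17, 18]), (163, [24, 0, 0, 23, 18, 17, 4])])),
  (868, (lf [(519, [24, 0, 24, 2, 1, 14, 3]), (477, [24, 0, 5, 2, 22, 2, 14])]))])

noncomputable def xk27 : CT := (nd [(928, (lf [(62, [24, 0, 4, 3]), (524, [24, 0, 4, 3, 24])])),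
  (743, (lf [(40, [24, 0, 4, 3, 8]), (230, [24, 0, 4, 3, 24, 8])])),
  (890, (lf [(62, [24, 0, 4, 3, 12]), (230, [24, 0, 4, 3, 12, 24])])),
  (969, (lf [(92, [24, 0, 4, 3, 14]), (50, [0, 4, 14, 0, 22, 18])])),
  (718, (lf [(474, [24, 0, 4, 3, 17]), (151, [24, 0, 4, 3, 17, 24])])),
  (914, (lf [(573, [24, 0, 4, 3, 16]), (206, [24, 0, 4, 3, 16, 24])])),
  (1023, (lf [(62, [24, 0, 21, 4, 3]), (524, [24, 0, 4, 3, 24, 21])])),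
  (702, (lf [(40, [24, 0, 4, 3, 12, 8]), (524, [24, 0, 4, 3, 24, 12])])),
  (826, (lf [(625, [24, 0, 4, 3, 14, 8]), (619, [1, 4, 6, 5, 8, 4, 1])])),
  (808, (lf [(40, [24, 0, 21, 4, 3, 8]), (230, [24, 0, 3, 23, 20, 12, 4])])),
  (1056, (lf [(92, [6, 4, 4, 3, 14, 12]), (619, [24, 0, 6, 22, 21, 12, 1])])),
  (854, (lf [(474, [24, 0, 4, 3, 17, 12]), (206, [24, 0, 16, 6, 14, 22, 1])])),
  (943, (lf [(573, [24, 0, 4, 3, 16, 12]), (151, [24, 0, 12, 24, 14, 2])])),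
  (798, (lf [(62, [24, 0, 21, 4, 3, 12]), (230, [24, 0, 3, 8, 4, 22])])),
  (765, (lf [(607, [24, 0, 4, 3, 12, 14]), (338, [0, 4, 1, 1, 14, 2, 1])])),
  (668, (lf [(222, [24, 0, 3, 14, 16, 5]), (426, [24, 0, 23, 2, 24, 0])])),
  (947, (lf [(342, [24, 0, 4, 3, 16, 14]), (542, [24, 0, 6, 22, 16, 8, 0])])),
  (857, (lf [(92, [24, 0, 21, 4, 3, 14]), (50, [24, 0, 18, 1, 3, 14, 0])])),
  (733, (lf [(222, [24, 0, 4, 3, 14, 17]), (426, [24, 0, 23, 2, 24, 21, 0])])),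
  (780, (lf [(474, [24, 0, 21, 4, 3, 17]), (151, [24, 0, 12, 18, 17, 12, 0])])),
  (952, (lf [(342, [24, 0, 4, 3, 14, 16]), (542, [24, 0, 6, 14, 23, 0])])),
  (747, (lf [(573, [24, 0, 12, 18, 17, 0]), (206, [24, 0, 20, 4, 3, 12, 16])])),
  (1044, (lf [(625, [7, 4, 23, 14, 8, 1, 1]), (50, [24, 0, 24, 12, 6, 24, 0])])),
  (816, (lf [(40, [24, 0, 5, 0, 22, 0]), (524, [24, 0, 12, 18, 24, 12, 1])])),
  (926, (lf [(598, [24, 0, 14, 2, 8, 22, 1]), (21, [1, 4, 17, 1, 18, 0, 4])])),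
  (771, (lf [(625, [24, 0, 16, 1, 4, 0]), (619, [24, 0, 1, 18, 16, 2, 0])])),
  (999, (lf [(607, [6, 4, 20, 17, 18, 1]), (21, [24, 0, 4, 3, 24, 14])])),
  (813, (lf [(222, [24, 0, 0, 8, 23, 12, 0]), (542, [24, 0, 0, 23, 8, 0, 8])])),
  (954, (lf [(342, [24, 0, 12, 24, 18, 8, 0]), (426, [24, 0, 0, 8, 23, 0])])),
  (1004, (lf [(92, [24, 0, 21, 4, 3, 14, 12]), (619, [24, 0, 6, 22, 12, 1])])),
  (666, (lf [(222, [24, 0, 6, 1, 14, 4]), (542, [24, 0, 0, 16, 18, 6, 1])])),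
  (871, (lf [(474, [24, 0, 6, 5, 24, 14, 6]), (206, [24, 0, 14, 4, 3, 12, 0])])),
  (963, (lf [(342, [24, 0, 4, 3, 14, 16, 12]), (426, [24, 0, 0, 23, 20, 8, 0])])),
  (1033, (lf [(573, [24, 0, 14, 4, 3, 0]), (151, [24, 0, 12, 24, 21, 14, 2])])),
  (778, (lf [(329, [6, 3, 5, 3, 24, 5]), (584, [1, 3, 3, 24, 20, 4])])),
  (721, (lf [(214, [24, 0, 21, 18, 4, 18]), (226, [24, 0, 3, 16, 12, 14, 5])])),
  (811, (lf [(19, [24, 0, 17, 18, 17, 24, 0]), (161, [24, 0, 18, 8, 0, 23, 0])])),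
  (752, (lf [(607, [24, 0, 17, 18, 1, 12]), (338, [24, 0, 17, 23, 3, 23, 10])])),
  (735, (lf [(161, [24, 0, 16, 5, 24, 14, 1]), (214, [24, 0, 17, 18, 1, 17])])),
  (983, (lf [(226, [24, 0, 8, 4, 1, 4, 2]), (19, [24, 0, 17, 18, 1, 16])])),
  (885, (lf [(161, [24, 0, 2, 16, 1, 8, 6]), (214, [24, 0, 18, 4, 18, 12])])),
  (907, (lf [(226, [24, 0, 4, 3, 12, 14, 16]), (19, [24, 0, 21, 17, 18, 1, 16])])),
  (931, (lf [(598, [7, 4, 14, 2, 22, 24, 1]), (338, [24, 0, 4, 3, 24, 14, 8])])),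
  (1052, (lf [(625, [24, 0, 16, 22, 10, 1, 1]), (50, [24, 0, 23, 2, 17, 8, 1])])),
  (797, (lf [(170, [7, 3, 6, 24, 3, 14, 1]), (23, [0, 3, 8, 6, 1, 16, 0])])),
  (936, (lf [(598, [24, 0, 23, 16, 8, 1, 5]), (21, [24, 0, 17, 18, 2, 23, 5])])),
  (912, (lf [(329, [7, 3, 8, 5, 0, 18, 0]), (23, [0, 3, 0, 22, 3, 0, 8])])),
  (1021, (lf [(607, [24, 0, 17, 18, 1]), (21, [24, 0, 17, 18, 1, 24])])),
  (706, (lf [(161, [24, 0, 17, 5, 17, 22, 1]), (19, [24, 0, 14, 6, 8, 3])])),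
  (714, (lf [(226, [24, 0, 18, 4, 18, 24, 10]), (214, [24, 0, 18, 4, 18, 10])])),
  (687, (lf [(170, [6, 3, 3, 12, 0, 2]), (584, [1, 3, 3, 23, 0, 2])])),
  (781, (lf [(113, [24, 0, 5, 24, 6, 18, 5]), (515, [24, 0, 16, 2, 12, 5, 2])])),
  (633, (lf [(616, [24, 0, 17, 12, 4, 18, 12]), (436, [24, 0, 6, 18, 6, 14, 5])])),
  (737, (lf [(329, [24, 0, 3, 22, 22, 4]), (584, [24, 0, 3, 24, 4])])),
  (791, (lf [(113, [24, 0, 18, 6, 14, 6, 1]), (515, [24, 0, 24, 0, 16, 22, 2])])),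
  (644, (lf [(616, [24, 0, 0, 17, 22, 18, 2]), (436, [24, 0, 22, 0, 16, 1, 1])])),
  (967, (lf [(436, [24, 0, 22, 8, 1, 16, 0]), (113, [24, 0, 16, 24, 18, 12, 0])])),
  (709, (lf [(515, [24, 0, 16, 24, 18, 0]), (616, [24, 0, 22, 16, 24, 0, 0])])),
  (987, (lf [(436, [24, 0, 0, 17, 3, 23, 4]), (113, [24, 0, 18, 3, 12, 17, 2])])),
  (929, (lf [(338, [24, 0, 14, 5, 24, 22, 3]), (598, [24, 0, 17, 18, 10, 1, 8])])),
  (699, (lf [(515, [24, 0, 21, 12, 16, 18, 0]), (616, [24, 0, 24, 17, 4, 18])])),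
  (786, (lf [(170, [24, 0, 3, 23, 12, 24, 4]), (23, [24, 0, 3, 24, 4, 8])])),
  (982, (lf [(329, [24, 0, 3, 8, 4, 23, 8]), (23, [24, 0, 0, 14, 3, 14, 1])])),
  (640, (lf [(170, [24, 0, 17, 18, 1, 14]), (584, [24, 0, 0, 22, 20, 3, 0])]))])

noncomputable def xk26 : CT := (nd [(760, (lf [(132, [19, 5, 5, 3]), (441, [18, 6, 5, 3, 24])])),
  (953, (lf [(98, [11, 5, 5, 3, 8]), (148, [10, 6, 5, 3, 24, 8])])),
  (1062, (lf [(132, [16, 5, 5, 3, 12]), (148, [9, 6, 3, 22, 3, 1])])),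
  (747, (lf [(180, [19, 2, 5, 3, 14]), (114, [24, 0, 5, 3, 14, 24])])),
  (871, (lf [(427, [24, 0, 5, 3, 17]), (75, [24, 0, 5, 3, 17, 24])])),
  (1052, (lf [(625, [24, 0, 5, 3, 16]), (44, [24, 0, 5, 3, 16, 24])])),
  (873, (lf [(132, [24, 0, 21, 5, 3]), (441, [24, 0, 3, 22, 22, 5])])),
  (984, (lf [(98, [8, 5, 0, 22, 20, 0]), (441, [17, 6, 5, 3, 24, 12])])),
  (936, (lf [(527, [11, 2, 5, 3, 14, 8]), (618, [24, 0, 6, 8, 4, 1])])),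
  (1076, (lf [(98, [24, 0, 21, 5, 3, 8]), (148, [24, 0, 22, 20, 18, 1, 5])])),
  (781, (lf [(180, [24, 0, 5, 3, 14, 12]), (618, [9, 1, 2, 12, 17, 12, 3])])),
  (657, (lf [(427, [24, 0, 5, 3, 17, 12]), (44, [24, 0, 5, 3, 12, 16, 12])])),
  (867, (lf [(625, [24, 0, 5, 3, 16, 12]), (75, [24, 0, 5, 23, 5, 17, 1])])),
  (1026, (lf [(132, [24, 0, 0, 22, 0, 8]), (148, [24, 0, 0, 22, 12, 10, 0])])),
  (1058, (lf [(538, [16, 2, 5, 3, 12, 14]), (362, [24, 0, 22, 16, 18, 22, 3])])),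
  (770, (lf [(240, [24, 0, 5, 3, 17, 14]), (554, [8, 2, 4, 23, 2, 24, 0])])),
  (911, (lf [(180, [24, 0, 21, 5, 3, 14]), (114, [24, 0, 12, 2, 22, 1, 17])])),
  (757, (lf [(240, [24, 0, 5, 3, 14, 17]), (554, [24, 0, 5, 23, 12, 0, 3])])),
  (758, (lf [(427, [24, 0, 21, 5, 3, 17]), (75, [24, 0, 0, 22, 0, 16])])),
  (784, (lf [(104, [24, 0, 3, 17, 14, 4]), (365, [24, 0, 6, 4, 14, 23, 0])])),
  (966, (lf [(625, [24, 0, 21, 5, 3, 16]), (44, [24, 0, 0, 22, 0, 17])])),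
  (880, (lf [(527, [24, 0, 1, 3, 17, 1, 4]), (114, [17, 1, 23, 18, 5, 17, 1])])),
  (997, (lf [(98, [24, 0, 0, 22, 0]), (441, [24, 0, 0, 22, 0, 24])])),
  (998, (lf [(527, [24, 0, 4, 16, 1, 4, 0]), (618, [24, 0, 18, 16, 3, 23, 0])])),
  (709, (lf [(538, [24, 0, 14, 2, 23, 4, 1]), (59, [18, 1, 5, 3, 24, 14])])),
  (702, (lf [(104, [10, 1, 12, 2, 22, 1]), (554, [24, 0, 0, 8, 23, 3, 0])])),
  (791, (lf [(180, [24, 0, 22, 2, 14, 0, 4]), (618, [24, 0, 18, 6, 23, 18, 0])])),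
  (905, (lf [(240, [24, 0, 18, 22, 2, 22, 2]), (365, [24, 0, 8, 18, 1, 18, 10])])),
  (633, (lf [(427, [24, 0, 6, 24, 14, 6]), (44, [24, 0, 0, 22, 12, 0, 16])])),
  (816, (lf [(104, [24, 0, 0, 3, 18, 23]), (554, [24, 0, 8, 18, 1, 18, 8])])),
  (826, (lf [(625, [24, 0, 4, 14, 4, 3, 0]), (75, [24, 0, 8, 4, 22, 14, 2])])),
  (652, (lf [(247, [24, 0, 12, 18, 5, 12, 3]), (56, [24, 0, 0, 24, 5, 12, 2])]))])

noncomputable def xk25 : CT := (nd [(947, (lf [(73, [24, 0, 1, 3]), (440, [24, 0, 1, 3, 24])])),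
  (872, (lf [(3, [24, 0, 1, 3, 8]), (423, [24, 0, 1, 3, 24, 8])])),
  (930, (lf [(73, [24, 0, 1, 3, 12]), (423, [24, 0, 1, 3, 12, 24])])),
  (998, (lf [(472, [24, 0, 1, 3, 14]), (5, [24, 0, 1, 3, 14, 24])])),
  (775, (lf [(182, [24, 0, 1, 3, 17]), (28, [24, 0, 1, 3, 17, 24])])),
  (993, (lf [(393, [24, 0, 1, 3, 16]), (114, [24, 0, 1, 3, 16, 24])])),
  (952, (lf [(73, [10, 4, 21, 1, 3]), (440, [24, 0, 1, 3, 24, 21])])),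
  (632, (lf [(3, [24, 0, 1, 3, 12, 8]), (440, [24, 0, 1, 3, 24, 12])])),
  (738, (lf [(572, [24, 0, 1, 3, 14, 8]), (430, [24, 0, 20, 16, 4, 3, 1])])),
  (855, (lf [(3, [18, 4, 21, 1, 3, 8]), (423, [24, 0, 2, 22, 24, 4, 0])])),
  (647, (lf [(472, [24, 0, 1, 3, 14, 12]), (430, [24, 0, 5, 14, 5, 12, 2])])),
  (968, (lf [(182, [24, 0, 1, 3, 17, 12]), (114, [24, 0, 23, 5, 16, 0])])),
  (791, (lf [(393, [24, 0, 1, 3, 16, 12]), (28, [24, 0, 24, 4, 14, 0])])),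
  (1024, (lf [(73, [24, 0, 12, 5, 23, 1]), (423, [16, 1, 22, 1, 1, 23, 0])])),
  (730, (lf [(579, [24, 0, 18, 12, 17, 2]), (495, [24, 0, 24, 3, 22, 17, 18])])),
  (796, (lf [(302, [24, 0, 1, 3, 17, 14]), (574, [24, 0, 22, 12, 8, 2, 0])])),
  (937, (lf [(127, [24, 0, 1, 3, 16, 14]), (597, [24, 0, 22, 20, 4, 18, 2])])),
  (1022, (lf [(472, [10, 3, 21, 1, 3, 14]), (5, [15, 1, 2, 18, 14, 22, 2])])),
  (785, (lf [(302, [24, 0, 1, 3, 14, 17]), (574, [24, 0, 1, 23, 12, 0, 3])])),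
  (854, (lf [(182, [24, 0, 21, 1, 3, 17]), (28, [24, 0, 6, 5, 23, 5, 1])])),
  (927, (lf [(127, [24, 0, 1, 3, 14, 16]), (597, [24, 0, 22, 4, 18, 2])])),
  (892, (lf [(393, [24, 0, 21, 1, 3, 16]), (114, [24, 0, 0, 22, 0, 14, 3])])),
  (962, (lf [(572, [24, 0, 24, 17, 0, 5, 2]), (5, [24, 0, 16, 4, 22, 5])])),
  (663, (lf [(3, [24, 0, 8, 3, 18, 5]), (440, [8, 1, 1, 24, 1, 5, 2])])),
  (899, (lf [(596, [24, 0, 18, 12, 17, 2, 8]), (531, [24, 0, 18, 14, 2, 23, 0])])),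
  (769, (lf [(572, [18, 3, 21, 1, 3, 14, 8]), (430, [12, 4, 16, 4, 3, 1])])),
  (1020, (lf [(579, [24, 0, 4, 14, 3, 12, 0]), (531, [24, 0, 1, 3, 24, 14])])),
  (995, (lf [(302, [24, 0, 8, 23, 2, 12, 0]), (597, [24, 0, 17, 12, 14, 2, 0])])),
  (788, (lf [(127, [24, 0, 14, 1, 16, 4]), (574, [24, 0, 8, 23, 2, 0])])),
  (635, (lf [(472, [23, 2, 16, 22, 0, 5, 2]), (430, [16, 6, 16, 4, 3, 1, 12])])),
  (984, (lf [(302, [24, 0, 4, 16, 1, 14, 0]), (597, [24, 0, 4, 24, 8, 18, 2])])),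
  (751, (lf [(182, [24, 0, 4, 24, 14, 0]), (114, [24, 0, 23, 21, 5, 16, 0])])),
  (812, (lf [(127, [24, 0, 3, 18, 12, 3, 1]), (574, [24, 0, 23, 20, 8, 2, 0])])),
  (713, (lf [(393, [24, 0, 22, 5, 17, 8, 0]), (28, [24, 0, 4, 24, 14, 12, 0])])),
  (895, (lf [(324, [24, 0, 3, 8, 23, 18, 1]), (600, [24, 0, 5, 23, 21, 1])])),
  (890, (lf [(550, [24, 0, 22, 20, 8, 2, 0]), (455, [24, 0, 0, 3, 22, 20, 8, 0])])),
  (753, (lf [(1, [24, 0, 14, 12, 17, 2, 0]), (259, [24, 0, 3, 18, 8, 5])])),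
  (723, (lf [(579, [24, 0, 8, 0, 22, 16, 0]), (495, [24, 0, 5, 23, 1, 14, 8])])),
  (774, (lf [(259, [24, 0, 22, 8, 0, 23, 4]), (550, [24, 0, 6, 14, 4, 0, 2])])),
  (900, (lf [(455, [24, 0, 5, 2, 18, 22, 0]), (1, [24, 0, 3, 18, 5, 22])])),
  (869, (lf [(259, [24, 0, 14, 1, 12, 16, 4]), (550, [24, 0, 23, 12, 8, 2, 0])])),
  (889, (lf [(455, [24, 0, 18, 12, 17, 2, 16]), (1, [24, 0, 0, 24, 23, 23, 1])])),
  (950, (lf [(596, [24, 0, 17, 23, 6, 14, 2]), (495, [24, 0, 4, 14, 10, 3, 0])])),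
  (965, (lf [(572, [21, 2, 16, 4, 23, 5]), (5, [8, 6, 16, 4, 22, 20, 5])])),
  (784, (lf [(441, [24, 0, 22, 0, 24, 22, 4]), (9, [24, 0, 6, 24, 18, 16, 2])])),
  (783, (lf [(596, [24, 0, 8, 3, 18, 5, 14]), (531, [24, 0, 5, 23, 1, 14])])),
  (1028, (lf [(324, [24, 0, 2, 0, 0, 12, 4]), (9, [24, 0, 4, 18, 10, 3, 0])])),
  (1029, (lf [(579, [24, 0, 1, 5, 17, 18, 1]), (531, [24, 0, 17, 4, 12, 10, 5])])),
  (839, (lf [(259, [24, 0, 22, 8, 2, 12, 0]), (1, [24, 0, 17, 14, 24, 2, 0])])),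
  (798, (lf [(455, [24, 0, 0, 3, 22, 8, 0]), (550, [24, 0, 22, 8, 2, 0])])),
  (777, (lf [(441, [24, 0, 12, 1, 3, 24]), (600, [24, 0, 12, 1, 3])])),
  (920, (lf [(52, [24, 0, 14, 16, 6, 22, 0]), (215, [24, 0, 14, 5, 24, 0, 2])])),
  (763, (lf [(553, [24, 0, 0, 14, 6, 17, 5]), (288, [24, 0, 17, 4, 18, 16, 6])])),
  (903, (lf [(324, [23, 5, 17, 18, 10, 6, 2]), (600, [24, 0, 5, 23, 10, 1])])),
  (973, (lf [(52, [24, 0, 18, 17, 23, 4, 0]), (215, [24, 0, 5, 23, 1, 16])])),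
  (805, (lf [(553, [24, 0, 22, 24, 6, 22, 0]), (288, [24, 0, 5, 23, 1, 17])])),
  (746, (lf [(288, [24, 0, 24, 14, 3, 1, 4]), (52, [24, 0, 3, 22, 5, 14, 1])])),
  (726, (lf [(215, [24, 0, 5, 23, 12, 17, 0]), (553, [24, 0, 2, 8, 18, 6])])),
  (741, (lf [(288, [24, 0, 12, 24, 4, 14, 0]), (52, [24, 0, 18, 1, 1, 14, 0])])),
  (940, (lf [(495, [24, 0, 21, 4, 14, 3, 0]), (596, [24, 0, 17, 4, 24, 22, 5])])),
  (680, (lf [(215, [24, 0, 22, 12, 5, 16, 0]), (553, [24, 0, 14, 12, 3, 1, 4])])),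
  (806, (lf [(441, [21, 5, 16, 4, 23, 5, 14]), (9, [24, 0, 14, 24, 1, 17, 4])])),
  (948, (lf [(324, [24, 0, 24, 0, 5, 8, 1]), (9, [15, 6, 20, 4, 18, 3, 0])])),
  (760, (lf [(441, [24, 0, 22, 0, 8, 0, 2]), (600, [12, 3, 5, 24, 23, 1])]))])

noncomputable def xk24 : CT := (nd [(812, (lf [(300, [24, 0, 22, 0]), (436, [24, 0, 22, 0, 24])])),
  (774, (lf [(439, [24, 0, 22, 0, 8]), (71, [24, 0, 22, 12, 10, 0])])),
  (756, (lf [(300, [24, 0, 22, 0, 12]), (71, [24, 0, 22, 0, 12, 24])])),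
  (738, (lf [(505, [24, 0, 22, 0, 14]), (150, [24, 0, 22, 0, 14, 24])])),
  (998, (lf [(15, [24, 0, 22, 0, 17]), (623, [24, 0, 22, 24, 16, 1])])),
  (805, (lf [(74, [24, 0, 22, 0, 16]), (263, [24, 0, 22, 0, 16, 24])])),
  (891, (lf [(300, [24, 0, 22, 21, 0]), (436, [24, 0, 22, 0, 24, 21])])),
  (714, (lf [(439, [24, 0, 16, 2, 14, 1]), (436, [24, 0, 22, 0, 24, 12])])),
  (986, (lf [(408, [24, 0, 22, 0, 14, 8]), (215, [24, 0, 22, 0, 14, 24, 8])])),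
  (869, (lf [(439, [24, 0, 22, 21, 0, 8]), (71, [24, 0, 22, 20, 12, 0])])),
  (726, (lf [(505, [24, 0, 22, 0, 14, 12]), (215, [24, 0, 14, 1, 18, 24, 0])])),
  (871, (lf [(15, [24, 0, 22, 0, 17, 12]), (263, [24, 0, 14, 24, 0, 18, 5])])),
  (887, (lf [(74, [24, 0, 22, 0, 16, 12]), (623, [24, 0, 22, 12, 16, 12, 1])])),
  (701, (lf [(300, [24, 0, 22, 21, 0, 12]), (71, [24, 0, 22, 3, 0, 23, 4])])),
  (720, (lf [(393, [24, 0, 22, 0, 12, 14]), (555, [24, 0, 3, 18, 14, 22])])),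
  (831, (lf [(133, [24, 0, 3, 18, 22, 8]), (253, [24, 0, 8, 5, 23, 2])])),
  (1077, (lf [(209, [24, 0, 3, 18, 22, 10]), (482, [24, 0, 14, 6, 1, 18])])),
  (769, (lf [(505, [24, 0, 22, 21, 0, 14]), (150, [24, 0, 16, 0, 3, 12, 5])])),
  (933, (lf [(133, [24, 0, 22, 0, 14, 17]), (253, [3, 5, 24, 20, 5, 12, 2])])),
  (1022, (lf [(15, [24, 0, 22, 21, 0, 17]), (623, [24, 0, 0, 22, 3, 16, 0])])),
  (1034, (lf [(209, [24, 0, 22, 0, 14, 16]), (482, [2, 5, 16, 24, 6, 5, 1])])),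
  (705, (lf [(74, [24, 0, 22, 21, 0, 16]), (263, [24, 0, 24, 6, 4, 18, 3])])),
  (931, (lf [(408, [24, 0, 1, 4, 17, 18, 1]), (150, [24, 0, 8, 3, 14, 24, 0])])),
  (731, (lf [(439, [24, 0, 10, 1, 5, 3]), (436, [24, 0, 5, 23, 1, 5])])),
  (1043, (lf [(214, [24, 0, 5, 1, 16, 0, 3]), (98, [24, 0, 0, 0, 5, 16, 3])])),
  (920, (lf [(408, [24, 0, 12, 16, 22, 18, 2]), (215, [24, 0, 12, 5, 18, 6, 4])])),
  (993, (lf [(393, [24, 0, 6, 24, 8, 2, 0]), (98, [24, 0, 22, 0, 24, 14])])),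
  (810, (lf [(133, [24, 0, 8, 3, 16, 14, 1]), (482, [24, 0, 3, 18, 22, 24, 12])])),
  (676, (lf [(209, [24, 0, 18, 2, 18, 5, 3]), (253, [24, 0, 3, 18, 4, 8, 5])])),
  (717, (lf [(505, [24, 0, 14, 5, 14, 12, 6]), (215, [24, 0, 16, 12, 1, 5, 0, 0])])),
  (901, (lf [(133, [4, 5, 18, 4, 0, 2, 0]), (482, [24, 0, 0, 16, 3, 14, 3, 0])])),
  (758, (lf [(15, [24, 0, 5, 22, 0, 17, 3]), (263, [24, 0, 24, 5, 2, 17, 5])])),
  (682, (lf [(209, [5, 5, 6, 14, 4, 22, 5]), (253, [24, 0, 24, 5, 3, 12, 3])])),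
  (899, (lf [(74, [24, 0, 6, 1, 22, 0, 0]), (623, [24, 0, 12, 14, 22, 12, 1])])),
  (997, (lf [(587, [24, 0, 21, 4, 18, 2, 0]), (406, [24, 0, 22, 0, 23, 23])])),
  (1006, (lf [(285, [24, 0, 3, 18, 23, 24, 8]), (343, [24, 0, 3, 18, 23, 8])])),
  (687, (lf [(529, [24, 0, 5, 22, 24, 0, 0]), (44, [24, 0, 3, 18, 23, 10])])),
  (781, (lf [(393, [24, 0, 17, 0, 18, 8, 0]), (555, [24, 0, 14, 8, 5, 14, 6])])),
  (945, (lf [(44, [24, 0, 0, 3, 16, 6, 2]), (285, [24, 0, 16, 3, 22, 16, 0])])),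
  (742, (lf [(343, [24, 0, 18, 0, 22, 2]), (529, [24, 0, 0, 16, 6, 24, 2])])),
  (976, (lf [(44, [24, 0, 5, 0, 5, 23, 3]), (285, [2, 5, 4, 8, 6, 16, 2])])),
  (691, (lf [(343, [24, 0, 18, 3, 23, 20, 1]), (529, [3, 5, 6, 5, 16, 3, 0])])),
  (793, (lf [(214, [24, 0, 8, 22, 3, 23, 6]), (555, [24, 0, 22, 0, 24, 14, 8])])),
  (940, (lf [(408, [24, 0, 0, 5, 3, 17, 2]), (150, [24, 0, 4, 17, 8, 5, 2])])),
  (786, (lf [(314, [24, 0, 22, 12, 0, 23, 23]), (461, [24, 0, 21, 17, 0, 14, 2])])),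
  (962, (lf [(214, [24, 0, 6, 4, 24, 18, 2]), (98, [24, 0, 3, 18, 23, 17])])),
  (678, (lf [(587, [24, 0, 22, 3, 0, 12, 4]), (461, [24, 0, 4, 18, 0, 23, 4])])),
  (892, (lf [(393, [24, 0, 12, 2, 1, 14, 1]), (98, [24, 0, 17, 23, 18, 10, 2])])),
  (640, (lf [(44, [5, 5, 3, 18, 23, 20]), (529, [24, 0, 8, 23, 3, 0])])),
  (1011, (lf [(343, [4, 5, 8, 23, 3, 12, 0]), (285, [24, 0, 18, 6, 17, 5, 0])])),
  (1072, (lf [(314, [24, 0, 5, 0, 23, 0, 0]), (406, [24, 0, 1, 22, 12, 18, 3])])),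
  (968, (lf [(582, [24, 0, 16, 22, 18, 3, 0]), (540, [24, 0, 3, 14, 2, 22, 0])])),
  (631, (lf [(334, [24, 0, 16, 23, 4, 22, 1]), (43, [24, 0, 12, 18, 8, 6, 3])])),
  (988, (lf [(587, [24, 0, 4, 18, 10, 2, 0]), (406, [24, 0, 16, 8, 6, 5, 2])])),
  (751, (lf [(582, [4, 2, 2, 16, 8, 4, 2]), (540, [5, 2, 3, 18, 17, 22])])),
  (647, (lf [(334, [5, 2, 22, 14, 4, 22, 1]), (43, [4, 2, 1, 24, 6, 18, 5])])),
  (825, (lf [(43, [3, 2, 6, 24, 23, 1, 3]), (582, [3, 2, 2, 17, 4, 2, 12])])),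
  (1029, (lf [(540, [2, 2, 23, 18, 6, 18, 2]), (334, [2, 2, 18, 24, 20, 6, 0])])),
  (746, (lf [(43, [24, 0, 6, 16, 1, 17, 4]), (582, [24, 0, 18, 24, 6, 0, 8])])),
  (804, (lf [(555, [24, 0, 12, 16, 3, 22, 4]), (214, [24, 0, 1, 5, 3, 14, 12])])),
  (1020, (lf [(540, [24, 0, 6, 17, 14, 1, 3]), (334, [24, 0, 18, 24, 10, 6, 0])])),
  (900, (lf [(314, [24, 0, 12, 4, 14, 6, 18]), (461, [24, 0, 4, 18, 2, 12, 0])])),
  (684, (lf [(587, [24, 0, 1, 3, 24, 5]), (461, [24, 0, 17, 18, 6, 5, 2])])),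
  (1066, (lf [(314, [24, 0, 2, 18, 2, 18]), (406, [24, 0, 18, 12, 0, 4, 0])]))])

noncomputable def xk23 : CT := (nd [(787, (lf [(95, [24, 0, 23, 0]), (100, [24, 0, 23, 0, 24])])),
  (785, (lf [(374, [24, 0, 23, 0, 8]), (21, [24, 0, 23, 12, 10, 0])])),
  (1016, (lf [(95, [24, 0, 23, 0, 12]), (21, [24, 0, 23, 0, 12, 24])])),
  (783, (lf [(270, [24, 0, 23, 0, 14]), (50, [20, 5, 23, 0, 14, 24])])),
  (723, (lf [(120, [24, 0, 23, 0, 17]), (623, [24, 0, 23, 24, 16, 1])])),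
  (705, (lf [(138, [24, 0, 23, 0, 16]), (175, [24, 0, 23, 0, 16, 24])])),
  (807, (lf [(95, [24, 0, 23, 21, 0]), (100, [24, 0, 23, 0, 24, 21])])),
  (689, (lf [(374, [24, 0, 23, 0, 12, 8]), (100, [24, 0, 23, 0, 24, 12])])),
  (920, (lf [(190, [24, 0, 23, 0, 14, 8]), (52, [22, 5, 21, 2, 1, 14, 1])])),
  (882, (lf [(374, [24, 0, 17, 18, 6, 1]), (21, [24, 0, 23, 20, 12, 0])])),
  (741, (lf [(270, [13, 4, 23, 0, 14, 12]), (52, [24, 0, 23, 0, 12, 24, 14])])),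
  (854, (lf [(120, [24, 0, 23, 0, 17, 12]), (175, [24, 0, 17, 23, 5, 1, 3])])),
  (738, (lf [(138, [24, 0, 23, 0, 16, 12]), (623, [24, 0, 14, 5, 8, 4, 1])])),
  (938, (lf [(95, [24, 0, 23, 21, 0, 12]), (21, [24, 0, 20, 14, 1, 14, 4])])),
  (840, (lf [(114, [24, 0, 23, 0, 12, 14]), (276, [21, 6, 24, 17, 5, 2, 0])])),
  (866, (lf [(438, [24, 0, 23, 0, 17, 14]), (65, [24, 0, 12, 3, 18, 23])])),
  (990, (lf [(159, [24, 0, 23, 0, 16, 14]), (286, [24, 0, 12, 3, 18, 8, 23])])),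
  (794, (lf [(270, [24, 0, 16, 3, 22, 4]), (50, [24, 0, 16, 3, 23, 24, 4])])),
  (853, (lf [(438, [15, 3, 23, 0, 14, 17]), (65, [24, 0, 17, 6, 1, 4])])),
  (804, (lf [(120, [15, 4, 23, 21, 0, 17]), (623, [22, 2, 14, 22, 12, 10, 1])])),
  (992, (lf [(159, [12, 5, 23, 0, 14, 16]), (286, [24, 0, 18, 1, 5, 22, 1])])),
  (876, (lf [(138, [12, 2, 23, 21, 0, 16]), (175, [20, 2, 4, 24, 6, 18, 3])])),
  (1043, (lf [(190, [14, 5, 23, 0, 14, 12, 8]), (50, [24, 0, 1, 1, 23, 14, 0])])),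
  (768, (lf [(374, [24, 0, 22, 22, 1, 5, 3]), (100, [24, 0, 12, 1, 5, 3])])),
  (950, (lf [(609, [24, 0, 21, 2, 18, 6, 3]), (230, [23, 6, 23, 0, 24, 14, 12])])),
  (973, (lf [(190, [24, 0, 12, 17, 23, 18, 2]), (52, [24, 0, 18, 2, 16, 23, 0])])),
  (981, (lf [(114, [15, 3, 21, 5, 18, 6, 4]), (230, [24, 0, 23, 0, 24, 14])])),
  (742, (lf [(438, [24, 0, 1, 12, 1, 4, 0]), (286, [24, 0, 12, 18, 0, 22, 2])])),
  (661, (lf [(159, [24, 0, 0, 0, 4, 18, 2]), (65, [24, 0, 14, 1, 16, 5])])),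
  (746, (lf [(270, [24, 0, 16, 3, 22, 4, 12]), (52, [24, 0, 14, 1, 16, 5, 16])])),
  (691, (lf [(438, [24, 0, 18, 5, 24, 1]), (286, [21, 6, 8, 1, 4, 3])])),
  (871, (lf [(120, [14, 2, 23, 21, 0, 17, 12]), (175, [21, 1, 24, 6, 22, 12, 2])])),
  (676, (lf [(159, [24, 0, 6, 3, 22, 6]), (65, [23, 6, 21, 14, 1, 16, 5])])),
  (769, (lf [(138, [13, 3, 23, 21, 0, 16, 12]), (623, [23, 1, 12, 24, 14, 23, 1])])),
  (750, (lf [(608, [13, 3, 23, 0, 4, 24, 5]), (57, [23, 1, 23, 0, 23, 23])])),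
  (659, (lf [(592, [24, 0, 12, 3, 18, 22]), (490, [24, 0, 0, 2, 18, 5])])),
  (811, (lf [(549, [24, 0, 22, 20, 8, 3, 0]), (627, [24, 0, 22, 5, 22, 8, 2])])),
  (968, (lf [(114, [24, 0, 16, 3, 23, 21, 4]), (276, [24, 0, 0, 2, 18, 5, 17])])),
  (976, (lf [(627, [24, 0, 14, 1, 16, 24, 5]), (592, [24, 0, 8, 22, 0, 22, 5])])),
  (835, (lf [(490, [24, 0, 0, 0, 8, 2, 0]), (549, [24, 0, 18, 1, 24, 1, 3])])),
  (850, (lf [(627, [22, 5, 17, 6, 24, 8, 2]), (592, [24, 0, 8, 23, 2, 0, 4])])),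
  (800, (lf [(490, [20, 5, 24, 5, 12, 1, 4]), (549, [24, 0, 8, 22, 3, 0, 12])])),
  (998, (lf [(609, [12, 5, 16, 0, 23, 3, 0]), (276, [24, 0, 21, 16, 1, 1, 1])])),
  (962, (lf [(190, [24, 0, 18, 5, 3, 14, 2]), (50, [24, 0, 16, 0, 5, 23, 2])])),
  (937, (lf [(38, [14, 2, 6, 8, 6, 23, 0]), (23, [21, 1, 8, 2, 0, 8, 0])])),
  (929, (lf [(609, [24, 0, 12, 4, 16, 5, 2]), (230, [24, 0, 3, 14, 4, 2, 18])])),
  (916, (lf [(608, [12, 2, 23, 3, 0, 12, 4]), (23, [20, 2, 3, 14, 16, 1, 4])])),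
  (993, (lf [(114, [24, 0, 18, 23, 6, 23, 1]), (230, [24, 0, 24, 14, 4, 2, 0])])),
  (706, (lf [(627, [24, 0, 5, 17, 18, 14, 0]), (549, [13, 4, 22, 8, 3, 0])])),
  (642, (lf [(490, [24, 0, 16, 6, 5, 1]), (592, [14, 5, 2, 22, 5, 18, 1])])),
  (1039, (lf [(38, [15, 4, 5, 12, 18, 6, 16]), (57, [22, 2, 23, 3, 0, 22, 4])])),
  (713, (lf [(582, [24, 0, 17, 23, 18, 10, 3, 0]), (139, [24, 0, 6, 24, 18, 24, 0])])),
  (1020, (lf [(432, [24, 0, 17, 22, 4, 22, 1]), (283, [24, 0, 24, 23, 18, 17, 1])])),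
  (753, (lf [(608, [24, 0, 17, 24, 0, 14, 2]), (57, [24, 0, 4, 14, 6, 18])])),
  (720, (lf [(582, [24, 0, 18, 5, 24, 1, 14]), (139, [24, 0, 17, 6, 2, 17, 2, 0])])),
  (1029, (lf [(432, [24, 0, 24, 16, 4, 12, 1]), (283, [24, 0, 18, 6, 2, 1, 4])])),
  (726, (lf [(283, [24, 0, 16, 0, 22, 8, 0]), (582, [24, 0, 24, 6, 8, 0, 0])])),
  (660, (lf [(139, [24, 0, 21, 18, 8, 6, 3]), (432, [24, 0, 17, 23, 4, 23, 1])])),
  (680, (lf [(283, [24, 0, 18, 14, 6, 17, 4]), (582, [24, 0, 5, 12, 18, 6, 8])])),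
  (936, (lf [(276, [24, 0, 16, 1, 1, 1]), (609, [24, 0, 5, 18, 6, 4, 8])])),
  (635, (lf [(139, [24, 0, 18, 8, 6, 3]), (432, [24, 0, 18, 14, 16, 6, 1])])),
  (927, (lf [(38, [24, 0, 17, 24, 6, 5, 2]), (23, [24, 0, 4, 14, 6, 18, 8])])),
  (919, (lf [(608, [24, 0, 2, 0, 0, 23]), (23, [24, 0, 12, 1, 3, 24, 5])])),
  (1047, (lf [(38, [24, 0, 14, 1, 14, 24, 4]), (57, [24, 0, 2, 1, 14, 1, 14])]))])

noncomputable def xk22 : CT := (nd [(1020, (lf [(20, [24, 0, 6, 0]), (479, [24, 0, 6, 0, 24])])),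
  (781, (lf [(183, [24, 0, 6, 0, 8]), (588, [24, 0, 6, 12, 10, 0])])),
  (898, (lf [(20, [24, 0, 6, 0, 12]), (588, [24, 0, 6, 0, 12, 24])])),
  (750, (lf [(453, [24, 0, 6, 0, 17]), (4, [24, 0, 6, 24, 16, 1])])),
  (916, (lf [(303, [24, 0, 6, 0, 16]), (146, [24, 0, 6, 0, 16, 24])])),
  (1019, (lf [(20, [24, 0, 20, 6, 0]), (479, [3, 1, 6, 0, 24, 21])])),
  (848, (lf [(183, [24, 0, 6, 0, 12, 8]), (479, [24, 0, 6, 0, 24, 12])])),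
  (720, (lf [(183, [24, 0, 20, 6, 0, 8]), (588, [2, 1, 21, 6, 12, 0])])),
  (1069, (lf [(453, [24, 0, 6, 0, 17, 12]), (146, [24, 0, 3, 24, 3, 12, 1])])),
  (937, (lf [(303, [24, 0, 6, 0, 16, 12]), (4, [24, 0, 6, 12, 16, 12, 1])])),
  (834, (lf [(20, [4, 1, 20, 6, 0, 12]), (588, [24, 0, 18, 22, 4, 17, 4])])),
  (935, (lf [(267, [24, 0, 6, 0, 12, 14]), (578, [24, 0, 0, 2, 8, 0, 5])])),
  (744, (lf [(528, [24, 0, 6, 0, 17, 14]), (437, [24, 0, 4, 14, 6, 16, 1])])),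
  (656, (lf [(378, [24, 0, 6, 0, 16, 14]), (605, [24, 0, 23, 3, 23, 16, 5])])),
  (1033, (lf [(183, [5, 1, 6, 2, 0, 22, 5]), (479, [24, 0, 16, 5, 3, 22])])),
  (976, (lf [(363, [24, 0, 21, 18, 4, 8, 1]), (448, [24, 0, 2, 24, 8, 18, 3])])),
  (1023, (lf [(267, [24, 0, 16, 6, 24, 4, 1]), (448, [24, 0, 6, 0, 24, 14])])),
  (679, (lf [(528, [24, 0, 5, 14, 5, 8, 0]), (605, [24, 0, 3, 18, 6, 22, 5, 0])])),
  (867, (lf [(378, [24, 0, 17, 2, 17, 22, 6]), (437, [24, 0, 5, 22, 17, 3])])),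
  (978, (lf [(614, [24, 0, 6, 0, 17, 12, 14]), (500, [24, 0, 16, 3, 18, 1, 1])])),
  (932, (lf [(29, [24, 0, 17, 5, 12, 18, 0]), (234, [24, 0, 22, 22, 16, 18])])),
  (992, (lf [(267, [4, 6, 2, 18, 24, 0, 2]), (578, [24, 0, 4, 23, 24, 4, 0])])),
  (772, (lf [(234, [24, 0, 22, 22, 16, 18, 12]), (614, [24, 0, 3, 12, 8, 6])])),
  (1008, (lf [(500, [24, 0, 17, 0, 0, 4, 0]), (29, [24, 0, 18, 4, 24, 1, 17])])),
  (696, (lf [(234, [24, 0, 23, 14, 22, 18, 12]), (614, [24, 0, 20, 3, 12, 8, 6])])),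
  (819, (lf [(500, [24, 0, 12, 8, 6, 8, 4]), (29, [24, 0, 14, 5, 3, 23, 18])])),
  (796, (lf [(363, [24, 0, 18, 4, 24, 20, 1]), (578, [24, 0, 22, 5, 18, 5, 1])])),
  (945, (lf [(363, [5, 6, 18, 4, 8, 1]), (448, [24, 0, 23, 23, 16, 18, 17])])),
  (928, (lf [(267, [24, 0, 3, 12, 8, 6, 16]), (448, [3, 6, 5, 0, 12, 5, 1])])),
  (922, (lf [(234, [24, 0, 23, 14, 22, 18]), (29, [24, 0, 0, 8, 22, 12, 6])])),
  (966, (lf [(500, [24, 0, 17, 3, 24, 0, 0]), (614, [24, 0, 16, 0, 3, 18, 10])])),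
  (785, (lf [(578, [2, 6, 1, 18, 23, 23, 2]), (363, [24, 0, 18, 4, 24, 1])]))])

noncomputable def xk21 : CT := (nd [(672, (lf [(19, [24, 0, 4, 0]), (199, [24, 0, 4, 0, 24])])),
  (721, (lf [(182, [24, 0, 4, 0, 8]), (402, [24, 0, 4, 12, 10, 0])])),
  (797, (lf [(19, [24, 0, 4, 0, 12]), (402, [24, 0, 4, 0, 12, 24])])),
  (848, (lf [(606, [24, 0, 4, 0, 14]), (11, [24, 0, 4, 0, 14, 24])])),
  (821, (lf [(499, [24, 0, 4, 0, 17]), (3, [24, 0, 4, 24, 16, 1])])),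
  (897, (lf [(576, [24, 0, 4, 0, 16]), (416, [24, 0, 4, 0, 16, 24])])),
  (761, (lf [(19, [24, 0, 21, 4, 0]), (199, [24, 0, 2, 12, 24, 2])])),
  (735, (lf [(182, [24, 0, 12, 8, 1, 5]), (199, [24, 0, 4, 0, 24, 12])])),
  (709, (lf [(282, [24, 0, 4, 0, 14, 8]), (327, [24, 0, 6, 1, 23, 24, 0])])),
  (714, (lf [(182, [24, 0, 21, 4, 0, 8]), (402, [24, 0, 20, 4, 12, 0])])),
  (732, (lf [(606, [24, 0, 4, 0, 14, 12]), (327, [24, 0, 16, 1, 8, 22, 2])])),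
  (722, (lf [(499, [24, 0, 4, 0, 17, 12]), (416, [24, 0, 4, 0, 12, 16, 12])])),
  (979, (lf [(576, [24, 0, 4, 0, 16, 12]), (3, [24, 0, 4, 12, 16, 12, 1])])),
  (786, (lf [(19, [24, 0, 21, 4, 0, 12]), (402, [24, 0, 0, 0, 5, 22, 2])])),
  (924, (lf [(233, [24, 0, 4, 0, 12, 14]), (591, [24, 0, 22, 24, 2, 16])])),
  (681, (lf [(221, [24, 0, 4, 0, 17, 14]), (624, [24, 0, 18, 24, 1, 24, 5])])),
  (947, (lf [(55, [24, 0, 4, 0, 16, 14]), (604, [24, 0, 3, 22, 24, 20, 1])])),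
  (955, (lf [(606, [24, 0, 21, 4, 0, 14]), (11, [24, 0, 3, 14, 24, 23, 0])])),
  (652, (lf [(221, [24, 0, 4, 0, 14, 17]), (624, [24, 0, 18, 3, 18, 2, 0])])),
  (865, (lf [(499, [24, 0, 21, 4, 0, 17]), (3, [24, 0, 6, 18, 22, 8, 0])])),
  (952, (lf [(55, [24, 0, 4, 0, 14, 16]), (604, [24, 0, 3, 22, 24, 1])])),
  (822, (lf [(576, [24, 0, 21, 4, 0, 16]), (416, [24, 0, 2, 14, 4, 3, 8])])),
  (1049, (lf [(282, [24, 0, 3, 16, 0, 23]), (11, [24, 0, 4, 0, 14, 24, 12])])),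
  (885, (lf [(182, [24, 0, 16, 5, 2, 14, 3]), (199, [24, 0, 2, 12, 24, 2, 12])])),
  (871, (lf [(216, [24, 0, 1, 3, 1, 17, 3]), (526, [24, 0, 0, 17, 3, 24, 4])])),
  (755, (lf [(282, [24, 0, 0, 17, 4, 3]), (327, [24, 0, 18, 17, 5, 18, 23])])),
  (631, (lf [(233, [24, 0, 22, 3, 18, 22, 6]), (526, [24, 0, 4, 0, 24, 14])])),
  (764, (lf [(221, [24, 0, 6, 14, 5, 8, 0]), (604, [24, 0, 3, 22, 20, 8, 1])])),
  (807, (lf [(55, [24, 0, 4, 0, 16, 14, 12]), (624, [24, 0, 6, 22, 17, 3])])),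
  (665, (lf [(606, [24, 0, 21, 4, 0, 14, 12]), (327, [24, 0, 24, 1, 17, 18, 5])])),
  (811, (lf [(221, [24, 0, 1, 1, 16, 6, 0]), (604, [24, 0, 3, 22, 8, 1])])),
  (803, (lf [(499, [24, 0, 1, 12, 24, 6, 0]), (416, [24, 0, 23, 1, 16, 1, 2])])),
  (890, (lf [(55, [24, 0, 24, 12, 18, 4, 0]), (624, [24, 0, 6, 1, 23, 16, 1])])),
  (818, (lf [(576, [24, 0, 21, 4, 0, 16, 12]), (3, [24, 0, 2, 14, 4, 3, 12])])),
  (828, (lf [(480, [24, 0, 4, 0, 4, 24, 5]), (542, [24, 0, 4, 0, 23, 23])])),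
  (737, (lf [(522, [24, 0, 4, 0, 17, 12, 14]), (481, [24, 0, 18, 5, 3, 22, 0])])),
  (994, (lf [(115, [24, 0, 24, 4, 8, 3, 0]), (177, [24, 0, 22, 24, 21, 2])])),
  (877, (lf [(233, [24, 0, 21, 4, 0, 12, 14]), (591, [24, 0, 22, 24, 21, 2, 16])])),
  (1016, (lf [(177, [24, 0, 18, 12, 24, 4, 0]), (522, [24, 0, 22, 24, 1, 23, 4])])),
  (742, (lf [(481, [24, 0, 12, 18, 17, 23, 6]), (115, [24, 0, 16, 6, 14, 17, 3])])),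
  (938, (lf [(177, [24, 0, 0, 24, 18, 10, 0]), (522, [24, 0, 2, 0, 22, 18])])),
  (691, (lf [(481, [24, 0, 0, 12, 0, 23, 0]), (115, [24, 0, 18, 0, 2, 24, 0])])),
  (1063, (lf [(216, [24, 0, 16, 0, 17, 5, 14]), (591, [24, 0, 1, 22, 16, 4, 2])])),
  (1041, (lf [(282, [24, 0, 0, 17, 4, 3, 12]), (11, [24, 0, 16, 18, 0, 8, 3])])),
  (963, (lf [(383, [24, 0, 3, 16, 0, 23, 14]), (130, [24, 0, 4, 0, 23, 23, 8])])),
  (758, (lf [(216, [24, 0, 5, 16, 5, 24, 2]), (526, [24, 0, 24, 22, 6, 5, 0])])),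
  (733, (lf [(480, [24, 0, 21, 8, 18, 12, 3]), (130, [24, 0, 18, 1, 17, 6, 3])])),
  (647, (lf [(233, [24, 0, 12, 17, 22, 4, 3]), (526, [24, 0, 6, 0, 12, 5, 1])])),
  (983, (lf [(177, [24, 0, 22, 24, 10, 2]), (115, [24, 0, 22, 24, 2, 24, 10])])),
  (874, (lf [(481, [24, 0, 22, 24, 2, 8]), (522, [24, 0, 22, 24, 2, 24, 8])])),
  (982, (lf [(383, [24, 0, 0, 8, 18, 1]), (542, [24, 0, 18, 8, 23, 12, 2])])),
  (991, (lf [(126, [24, 0, 14, 0, 18, 22, 2]), (42, [24, 0, 23, 18, 24, 18, 6])])),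
  (834, (lf [(308, [24, 0, 23, 24, 18, 6]), (249, [24, 0, 23, 5, 16, 4, 2])])),
  (743, (lf [(480, [24, 0, 12, 16, 14, 1, 1]), (542, [24, 0, 1, 16, 6, 18, 2])])),
  (1001, (lf [(126, [24, 0, 23, 1, 14, 8, 1]), (42, [24, 0, 22, 24, 2, 14, 10])])),
  (898, (lf [(308, [24, 0, 4, 14, 4, 22, 1]), (249, [24, 0, 22, 24, 2, 14, 8])])),
  (680, (lf [(249, [24, 0, 22, 17, 0, 0, 5]), (126, [24, 0, 23, 1, 14, 24, 1])])),
  (852, (lf [(42, [24, 0, 24, 17, 4, 0, 3]), (308, [24, 0, 4, 24, 14, 1, 2])])),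
  (685, (lf [(249, [24, 0, 1, 4, 12, 10, 6]), (126, [24, 0, 16, 0, 17, 5, 17])])),
  (1059, (lf [(591, [24, 0, 14, 5, 23, 4, 3]), (216, [24, 0, 12, 6, 12, 4, 2])])),
  (736, (lf [(42, [24, 0, 12, 17, 2, 24, 0]), (308, [24, 0, 12, 16, 0, 5, 0])])),
  (1028, (lf [(383, [24, 0, 0, 18, 5, 22, 18]), (130, [24, 0, 14, 6, 23, 23, 2])])),
  (649, (lf [(480, [24, 0, 8, 18, 12, 10, 3]), (130, [24, 0, 24, 18, 14, 8, 6])])),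
  (905, (lf [(383, [24, 0, 21, 0, 8, 18, 1]), (542, [24, 0, 3, 12, 24, 1, 23])]))])

noncomputable def xk20 : CT := (nd [(988, (lf [(56, [24, 0, 5, 0]), (339, [24, 0, 5, 0, 24])])),
  (1067, (lf [(314, [24, 0, 5, 0, 8]), (534, [24, 0, 5, 12, 10, 0])])),
  (661, (lf [(56, [24, 0, 5, 0, 12]), (534, [24, 0, 5, 0, 12, 24])])),
  (771, (lf [(595, [24, 0, 5, 0, 14]), (35, [24, 0, 1, 4, 17, 2])])),
  (1074, (lf [(591, [24, 0, 5, 0, 17]), (14, [24, 0, 5, 24, 16, 1])])),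
  (669, (lf [(562, [24, 0, 5, 0, 16]), (147, [24, 0, 5, 0, 16, 24])])),
  (995, (lf [(56, [24, 0, 21, 5, 0]), (339, [24, 0, 5, 0, 24, 21])])),
  (798, (lf [(314, [24, 0, 5, 0, 12, 8]), (339, [24, 0, 5, 0, 24, 12])])),
  (940, (lf [(452, [24, 0, 5, 0, 14, 8]), (396, [24, 0, 1, 4, 17, 2, 8])])),
  (1070, (lf [(314, [24, 0, 21, 5, 0, 8]), (534, [24, 0, 20, 5, 12, 0])])),
  (1048, (lf [(595, [24, 0, 5, 0, 14, 12]), (396, [24, 0, 5, 0, 12, 24, 14])])),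
  (852, (lf [(591, [24, 0, 5, 0, 17, 12]), (147, [24, 0, 1, 8, 2, 16, 1])])),
  (1061, (lf [(562, [24, 0, 5, 0, 16, 12]), (14, [24, 0, 5, 12, 16, 12, 1])])),
  (676, (lf [(56, [24, 0, 21, 5, 0, 12]), (534, [24, 0, 14, 12, 4, 16, 3])])),
  (924, (lf [(268, [24, 0, 5, 0, 12, 14]), (346, [24, 0, 16, 2, 23, 18, 0])])),
  (700, (lf [(238, [24, 0, 5, 0, 17, 14]), (460, [24, 0, 3, 18, 2, 23])])),
  (795, (lf [(121, [24, 0, 5, 0, 16, 14]), (546, [24, 0, 3, 8, 4, 12, 1])])),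
  (910, (lf [(595, [24, 0, 2, 0, 16, 2]), (35, [24, 0, 21, 1, 4, 17, 2])])),
  (670, (lf [(238, [14, 6, 5, 0, 14, 17]), (460, [24, 0, 16, 12, 6, 12, 1])])),
  (1059, (lf [(591, [14, 1, 6, 8, 2, 8]), (14, [19, 3, 20, 5, 16, 12, 1])])),
  (784, (lf [(121, [13, 2, 5, 0, 14, 16]), (546, [24, 0, 4, 3, 22, 24, 1])])),
  (673, (lf [(562, [13, 5, 10, 6, 8, 2]), (147, [11, 3, 8, 4, 2, 17, 5])])),
  (822, (lf [(452, [24, 0, 24, 14, 0, 18, 2]), (35, [24, 0, 1, 4, 17, 2, 12])])),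
  (787, (lf [(314, [24, 0, 2, 23, 1, 18]), (339, [24, 0, 16, 6, 3, 23, 1])])),
  (633, (lf [(364, [24, 0, 23, 23, 17, 5, 2]), (581, [24, 0, 3, 16, 24, 23, 0])])),
  (950, (lf [(452, [24, 0, 4, 0, 17, 4, 3]), (396, [24, 0, 18, 2, 8, 4, 16])])),
  (748, (lf [(268, [24, 0, 5, 0, 12, 14, 12]), (581, [24, 0, 5, 0, 24, 14])])),
  (684, (lf [(238, [24, 0, 23, 5, 1, 24, 3]), (546, [24, 0, 22, 12, 18, 0, 22])])),
  (1060, (lf [(121, [24, 0, 22, 22, 6, 16, 2]), (460, [24, 0, 6, 2, 17, 23, 2])])),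
  (1040, (lf [(595, [24, 0, 2, 0, 16, 2, 12]), (396, [24, 0, 12, 3, 18, 8, 6])])),
  (715, (lf [(238, [24, 0, 5, 0, 14, 17, 12]), (546, [22, 6, 4, 3, 22, 8, 1])])),
  (749, (lf [(591, [17, 5, 1, 14, 1, 1]), (147, [22, 1, 8, 6, 18, 3])])),
  (1062, (lf [(121, [24, 0, 22, 5, 1, 4, 1]), (460, [20, 6, 24, 22, 3, 23, 5])])),
  (1064, (lf [(562, [9, 5, 6, 14, 4, 16, 2]), (14, [20, 1, 6, 12, 1, 4, 22, 0])])),
  (1053, (lf [(291, [24, 0, 1, 23, 18, 10, 4]), (365, [24, 0, 5, 0, 23, 23])])),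
  (970, (lf [(604, [24, 0, 3, 18, 2, 22]), (585, [24, 0, 24, 20, 12, 18, 5])])),
  (640, (lf [(30, [24, 0, 6, 22, 4, 16, 1]), (235, [24, 0, 12, 1, 22, 1])])),
  (877, (lf [(268, [24, 0, 17, 2, 18, 24, 4]), (346, [24, 0, 6, 23, 24, 4, 0])])),
  (856, (lf [(235, [24, 0, 8, 3, 24, 23, 0]), (604, [24, 0, 12, 8, 1, 18])])),
  (894, (lf [(585, [24, 0, 5, 0, 12, 16, 14]), (30, [24, 0, 2, 18, 5, 2, 8])])),
  (777, (lf [(235, [19, 4, 18, 2, 24, 8, 4]), (604, [24, 0, 24, 2, 18, 24, 0])])),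
  (912, (lf [(585, [11, 4, 12, 6, 16, 0, 0]), (30, [24, 0, 0, 16, 12, 6, 18])])),
  (887, (lf [(364, [24, 0, 18, 22, 24, 6, 4]), (346, [24, 0, 0, 12, 1, 14, 1])])),
  (875, (lf [(452, [24, 0, 24, 6, 22, 18, 0]), (35, [24, 0, 18, 3, 17, 5, 8, 0])])),
  (816, (lf [(123, [24, 0, 6, 18, 0, 14, 0]), (200, [24, 0, 14, 3, 0, 17, 0])])),
  (644, (lf [(364, [24, 0, 16, 5, 24, 2]), (581, [24, 0, 8, 3, 23, 17, 1])])),
  (757, (lf [(291, [24, 0, 5, 3, 0, 12, 4]), (200, [24, 0, 18, 2, 17, 14, 5])])),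
  (868, (lf [(268, [24, 0, 12, 8, 1, 18, 16]), (581, [24, 0, 23, 17, 18, 4, 1])])),
  (681, (lf [(235, [24, 0, 12, 1, 22, 21, 1]), (30, [9, 2, 18, 4, 2, 23])])),
  (904, (lf [(585, [24, 0, 24, 12, 18, 5]), (604, [17, 2, 3, 22, 17, 14, 1])])),
  (1039, (lf [(123, [24, 0, 4, 0, 8, 18, 1]), (365, [24, 0, 5, 3, 0, 22, 4])])),
  (716, (lf [(237, [24, 0, 1, 17, 8, 1, 5]), (96, [24, 0, 0, 3, 16, 5, 1])])),
  (1000, (lf [(465, [24, 0, 3, 17, 5, 22, 2]), (408, [24, 0, 5, 0, 22, 22, 17])])),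
  (953, (lf [(291, [24, 0, 1, 23, 20, 18, 4]), (365, [24, 0, 5, 0, 5, 24, 4])])),
  (675, (lf [(237, [24, 0, 20, 1, 16, 1, 5]), (96, [24, 0, 6, 22, 12, 0, 0])])),
  (986, (lf [(465, [24, 0, 23, 5, 17, 0, 0]), (408, [24, 0, 16, 2, 1, 12, 1])])),
  (751, (lf [(408, [24, 0, 20, 1, 18, 16, 4]), (237, [24, 0, 6, 24, 1, 4, 8])])),
  (1008, (lf [(96, [24, 0, 16, 18, 23, 0, 5]), (465, [24, 0, 5, 24, 14, 1, 2])])),
  (968, (lf [(408, [24, 0, 22, 4, 14, 5, 3]), (237, [24, 0, 12, 6, 4, 18, 5])])),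
  (794, (lf [(346, [24, 0, 21, 5, 12, 0, 14]), (364, [24, 0, 22, 6, 23, 5, 0])])),
  (819, (lf [(96, [24, 0, 1, 18, 16, 4, 8]), (465, [24, 0, 1, 17, 12, 4, 0])])),
  (672, (lf [(123, [24, 0, 22, 2, 17, 24, 6]), (200, [24, 0, 18, 4, 18, 5, 2, 0])])),
  (866, (lf [(291, [24, 0, 24, 0, 8, 1, 2]), (200, [24, 0, 18, 8, 1, 24, 0])])),
  (1047, (lf [(123, [24, 0, 0, 12, 3, 23, 0]), (365, [24, 0, 16, 2, 1, 17, 0])]))])

noncomputable def xk19 : CT := (nd [(870, (lf [(18, [24, 0, 2, 0]), (515, [24, 0, 2, 0, 24])])),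
  (903, (lf [(181, [24, 0, 2, 0, 8]), (398, [24, 0, 2, 12, 10, 0])])),
  (812, (lf [(18, [24, 0, 2, 0, 12]), (398, [24, 0, 0, 23, 20, 4])])),
  (677, (lf [(264, [24, 0, 2, 0, 14]), (10, [24, 0, 2, 0, 14, 24])])),
  (703, (lf [(450, [24, 0, 2, 0, 17]), (2, [24, 0, 2, 24, 16, 1])])),
  (729, (lf [(581, [24, 0, 2, 0, 16]), (170, [24, 0, 2, 0, 16, 24])])),
  (773, (lf [(18, [18, 5, 21, 2, 0]), (515, [23, 4, 2, 0, 24, 21])])),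
  (964, (lf [(181, [24, 0, 2, 0, 12, 8]), (515, [24, 0, 3, 0, 23, 5])])),
  (809, (lf [(389, [24, 0, 8, 5, 16, 0]), (541, [24, 0, 18, 16, 5, 2])])),
  (893, (lf [(181, [10, 5, 21, 2, 0, 8]), (398, [21, 4, 20, 2, 12, 0])])),
  (686, (lf [(264, [24, 0, 2, 0, 14, 12]), (541, [24, 0, 18, 16, 5, 2, 12])])),
  (887, (lf [(450, [24, 0, 2, 0, 17, 12]), (170, [24, 0, 6, 24, 3, 12, 1])])),
  (926, (lf [(581, [24, 0, 2, 0, 16, 12]), (2, [24, 0, 2, 12, 16, 12, 1])])),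
  (891, (lf [(18, [12, 1, 21, 2, 0, 12]), (398, [8, 3, 0, 23, 4])])),
  (924, (lf [(563, [24, 0, 2, 0, 12, 14]), (575, [24, 0, 8, 4, 18, 2, 14])])),
  (963, (lf [(454, [24, 0, 2, 0, 17, 14]), (580, [24, 0, 4, 18, 2, 23])])),
  (937, (lf [(376, [24, 0, 2, 0, 16, 14]), (600, [24, 0, 23, 8, 1, 3])])),
  (653, (lf [(264, [18, 2, 21, 2, 0, 14]), (10, [24, 0, 5, 14, 24, 23, 0])])),
  (1028, (lf [(454, [24, 0, 2, 0, 14, 17]), (580, [24, 0, 24, 16, 14, 1, 3])])),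
  (669, (lf [(450, [24, 0, 21, 2, 0, 17]), (2, [24, 0, 14, 6, 14, 2])])),
  (927, (lf [(376, [24, 0, 2, 0, 14, 16]), (600, [24, 0, 5, 22, 24, 1])])),
  (722, (lf [(581, [24, 0, 21, 2, 0, 16]), (170, [24, 0, 22, 5, 17, 3, 0])])),
  (1008, (lf [(389, [24, 0, 5, 16, 0, 23]), (10, [24, 0, 2, 0, 14, 24, 12])])),
  (1002, (lf [(181, [15, 2, 3, 0, 22, 5]), (515, [16, 3, 12, 0, 12, 4])])),
  (740, (lf [(470, [24, 0, 16, 3, 1, 4]), (488, [24, 0, 4, 16, 24, 23, 0])])),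
  (708, (lf [(389, [10, 2, 21, 8, 5, 16, 0]), (541, [24, 0, 24, 23, 4, 14, 0])])),
  (989, (lf [(563, [24, 0, 24, 8, 6, 22, 0]), (488, [24, 0, 2, 0, 24, 14])])),
  (797, (lf [(454, [24, 0, 24, 6, 14, 24, 1]), (600, [24, 0, 5, 22, 20, 8, 1])])),
  (795, (lf [(376, [24, 0, 0, 16, 14, 22, 5]), (580, [24, 0, 0, 16, 22, 17, 5])])),
  (650, (lf [(264, [24, 0, 18, 16, 0, 24, 3]), (541, [8, 4, 0, 23, 4, 14])])),
  (786, (lf [(454, [24, 0, 8, 1, 1, 23, 0]), (600, [24, 0, 5, 22, 8, 1])])),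
  (899, (lf [(450, [24, 0, 22, 18, 14, 0, 3]), (170, [24, 0, 0, 23, 4, 17, 8])])),
  (784, (lf [(376, [24, 0, 0, 22, 16, 14, 5]), (580, [24, 0, 23, 3, 18, 5])])),
  (936, (lf [(581, [24, 0, 21, 2, 0, 16, 12]), (2, [24, 0, 0, 23, 4, 16, 8])])),
  (807, (lf [(339, [24, 0, 0, 12, 4, 12]), (384, [24, 0, 21, 12, 2, 0])])),
  (872, (lf [(594, [24, 0, 4, 18, 2, 22]), (313, [24, 0, 22, 3, 18, 24, 5])])),
  (984, (lf [(73, [24, 0, 24, 22, 5, 22, 1]), (261, [24, 0, 14, 22, 18, 6, 2])])),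
  (877, (lf [(563, [12, 6, 12, 18, 16, 5, 2]), (575, [24, 0, 12, 8, 5, 16, 0])])),
  (632, (lf [(261, [24, 0, 24, 6, 16, 1, 2]), (594, [24, 0, 6, 12, 8, 6])])),
  (839, (lf [(313, [24, 0, 1, 5, 18, 22, 0]), (73, [24, 0, 12, 5, 8, 22, 1])])),
  (663, (lf [(261, [24, 0, 23, 3, 18, 24, 5]), (594, [24, 0, 17, 14, 5, 12, 1])])),
  (842, (lf [(313, [24, 0, 8, 0, 8, 0, 2]), (73, [24, 0, 23, 4, 23, 1, 2])])),
  (1049, (lf [(470, [24, 0, 17, 22, 5, 0, 2]), (575, [24, 0, 23, 0, 3, 14, 1])])),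
  (915, (lf [(389, [24, 0, 1, 5, 24, 6, 0]), (10, [16, 4, 0, 23, 4, 14, 8])])),
  (930, (lf [(148, [24, 0, 3, 12, 10, 3, 0]), (17, [24, 0, 8, 4, 18, 10, 2])])),
  (745, (lf [(470, [15, 5, 22, 24, 5, 17, 0]), (488, [24, 0, 12, 2, 0, 14])])),
  (856, (lf [(339, [24, 0, 0, 12, 4]), (17, [24, 0, 0, 12, 4, 24])])),
  (999, (lf [(563, [24, 0, 16, 6, 14, 1, 5]), (488, [23, 3, 12, 2, 0, 14, 12])])),
  (997, (lf [(261, [24, 0, 18, 23, 24, 2, 1]), (73, [24, 0, 23, 8, 5, 23, 1])])),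
  (855, (lf [(313, [24, 0, 12, 2, 0, 17, 14]), (594, [24, 0, 4, 22, 17, 14, 1])])),
  (882, (lf [(148, [24, 0, 0, 23, 24, 4]), (384, [24, 0, 0, 22, 4])])),
  (1031, (lf [(110, [24, 0, 12, 14, 0, 5, 2]), (318, [24, 0, 23, 5, 17, 3, 0])])),
  (712, (lf [(512, [24, 0, 4, 17, 5, 22, 2]), (371, [24, 0, 20, 12, 2, 0, 17])])),
  (890, (lf [(339, [24, 0, 18, 5, 22, 0]), (384, [24, 0, 12, 10, 2, 0])])),
  (1065, (lf [(110, [24, 0, 18, 8, 5, 16, 1]), (318, [24, 0, 12, 2, 0, 16])])),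
  (718, (lf [(512, [24, 0, 12, 2, 24, 16, 1]), (371, [24, 0, 12, 2, 0, 17])])),
  (793, (lf [(371, [24, 0, 12, 2, 0, 17, 12]), (110, [24, 0, 24, 17, 18, 0, 3])])),
  (738, (lf [(318, [24, 0, 12, 2, 0, 16, 12]), (512, [24, 0, 6, 22, 0, 5])])),
  (804, (lf [(371, [24, 0, 0, 4, 1, 17, 4]), (110, [24, 0, 0, 12, 4, 16, 8])])),
  (1046, (lf [(575, [21, 3, 16, 23, 5, 0, 2]), (470, [24, 0, 22, 0, 3, 14, 1])])),
  (865, (lf [(318, [24, 0, 8, 23, 1, 3, 14]), (512, [24, 0, 6, 22, 21, 0, 5])])),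
  (1024, (lf [(148, [24, 0, 12, 2, 12, 0]), (17, [24, 0, 18, 8, 5, 24, 0])])),
  (777, (lf [(339, [24, 0, 21, 0, 12, 4]), (17, [24, 0, 6, 23, 6, 0, 0])])),
  (859, (lf [(148, [24, 0, 23, 2, 1, 23, 0]), (384, [24, 0, 23, 23, 2, 0])]))])

noncomputable def xk18 : CT := (nd [(907, (lf [(31, [1, 6, 3, 0]), (480, [24, 0, 3, 0, 24])])),
  (1077, (lf [(202, [0, 6, 3, 0, 8]), (524, [24, 0, 3, 12, 10, 0])])),
  (684, (lf [(31, [24, 0, 3, 0, 12]), (524, [6, 6, 0, 23, 5, 8])])),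
  (723, (lf [(429, [1, 1, 3, 0, 14]), (0, [24, 0, 3, 0, 14, 24])])),
  (980, (lf [(293, [24, 0, 3, 0, 17]), (10, [24, 0, 3, 24, 16, 1])])),
  (865, (lf [(469, [24, 0, 3, 0, 16]), (300, [24, 0, 3, 0, 16, 24])])),
  (896, (lf [(31, [24, 0, 21, 3, 0]), (480, [24, 0, 22, 0, 0, 0])])),
  (808, (lf [(202, [24, 0, 0, 22, 20, 5]), (480, [7, 6, 0, 23, 5])])),
  (639, (lf [(501, [0, 1, 3, 0, 14, 8]), (487, [24, 0, 2, 18, 16, 5, 2])])),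
  (1034, (lf [(202, [24, 0, 21, 3, 0, 8]), (524, [24, 0, 20, 3, 12, 0])])),
  (1021, (lf [(429, [24, 0, 3, 0, 14, 12]), (487, [6, 1, 12, 14, 5, 1, 3])])),
  (673, (lf [(293, [24, 0, 3, 0, 17, 12]), (300, [24, 0, 0, 23, 5, 17])])),
  (656, (lf [(469, [24, 0, 3, 0, 16, 12]), (10, [24, 0, 0, 23, 5, 16])])),
  (715, (lf [(31, [24, 0, 0, 22, 5, 8]), (524, [24, 0, 2, 0, 23, 4])])),
  (869, (lf [(239, [24, 0, 3, 0, 17, 14]), (609, [24, 0, 22, 22, 8, 0])])),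
  (807, (lf [(150, [24, 0, 3, 0, 16, 14]), (547, [24, 0, 2, 23, 8, 1, 3])])),
  (804, (lf [(429, [24, 0, 4, 0, 16, 2]), (0, [24, 0, 17, 5, 12, 1, 2])])),
  (870, (lf [(239, [24, 0, 3, 0, 14, 17]), (609, [24, 0, 5, 22, 12, 4, 0])])),
  (819, (lf [(293, [24, 0, 21, 3, 0, 17]), (10, [24, 0, 0, 22, 5, 16])])),
  (890, (lf [(150, [24, 0, 23, 6, 14, 4]), (547, [24, 0, 23, 16, 18, 6, 1])])),
  (738, (lf [(469, [24, 0, 21, 3, 0, 16]), (300, [24, 0, 0, 22, 5, 17])])),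
  (887, (lf [(501, [24, 0, 3, 0, 14, 12, 8]), (0, [7, 1, 0, 23, 5, 14])])),
  (692, (lf [(202, [24, 0, 0, 22, 5]), (480, [24, 0, 0, 23, 21, 5])])),
  (686, (lf [(501, [24, 0, 4, 0, 16, 2, 8]), (487, [24, 0, 17, 14, 6, 22, 2])])),
  (974, (lf [(239, [24, 0, 0, 12, 16, 14, 4]), (547, [24, 0, 22, 17, 2, 14, 1])])),
  (1053, (lf [(150, [24, 0, 4, 18, 2, 24, 5]), (609, [24, 0, 6, 4, 17, 23, 2])])),
  (1030, (lf [(429, [24, 0, 24, 0, 16, 18]), (487, [24, 0, 18, 22, 6, 1, 4])])),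
  (1014, (lf [(239, [24, 0, 0, 12, 14, 16, 4]), (547, [24, 0, 5, 2, 22, 8, 1])])),
  (697, (lf [(293, [24, 0, 21, 3, 0, 17, 12]), (300, [24, 0, 0, 23, 21, 5, 17])])),
  (953, (lf [(150, [24, 0, 23, 6, 14, 4, 12]), (609, [24, 0, 0, 23, 17, 14, 4])])),
  (674, (lf [(469, [24, 0, 17, 5, 24, 18, 2]), (10, [24, 0, 22, 18, 22, 17, 3])])),
  (899, (lf [(501, [24, 0, 6, 18, 23, 8, 4]), (0, [24, 0, 23, 23, 17, 12, 1])]))])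

noncomputable def xk17 : CT := (nd [(691, (lf [(17, [24, 0, 0, 0]), (497, [24, 0, 0, 0, 24])])),
  (927, (lf [(90, [24, 0, 0, 0, 8]), (573, [24, 0, 0, 12, 10, 0])])),
  (810, (lf [(17, [24, 0, 0, 0, 12]), (573, [24, 0, 0, 0, 12, 24])])),
  (966, (lf [(274, [24, 0, 0, 0, 14]), (9, [24, 0, 0, 0, 14, 24])])),
  (826, (lf [(455, [24, 0, 0, 0, 17]), (1, [24, 0, 0, 24, 16, 1])])),
  (868, (lf [(305, [24, 0, 0, 0, 16]), (196, [24, 0, 0, 0, 16, 24])])),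
  (813, (lf [(17, [24, 0, 21, 0, 0]), (497, [24, 0, 0, 0, 24, 21])])),
  (859, (lf [(90, [24, 0, 0, 0, 12, 8]), (497, [24, 0, 0, 0, 24, 12])])),
  (744, (lf [(326, [24, 0, 0, 0, 14, 8]), (554, [24, 0, 23, 18, 16, 18, 2])])),
  (949, (lf [(90, [24, 0, 21, 0, 0, 8]), (573, [24, 0, 20, 0, 12, 0])])),
  (803, (lf [(274, [24, 0, 0, 0, 14, 12]), (554, [24, 0, 17, 8, 2, 1, 5])])),
  (763, (lf [(455, [24, 0, 0, 0, 17, 12]), (196, [24, 0, 14, 1, 4, 12, 3])])),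
  (791, (lf [(305, [24, 0, 0, 0, 16, 12]), (1, [24, 0, 0, 12, 16, 12, 1])])),
  (901, (lf [(17, [24, 0, 21, 0, 0, 12]), (573, [24, 0, 4, 2, 17, 6, 4])])),
  (674, (lf [(565, [24, 0, 0, 0, 12, 14]), (440, [24, 0, 16, 14, 1, 17, 0])])),
  (710, (lf [(527, [24, 0, 0, 0, 17, 14]), (438, [24, 0, 22, 4, 12, 8, 0])])),
  (921, (lf [(377, [24, 0, 22, 4, 8, 0]), (405, [24, 0, 2, 16, 23, 6, 18])])),
  (978, (lf [(274, [24, 0, 21, 0, 0, 14]), (9, [24, 0, 12, 4, 16, 1])])),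
  (689, (lf [(527, [3, 1, 0, 0, 14, 17]), (438, [24, 0, 23, 12, 0, 2, 0])])),
  (771, (lf [(455, [3, 6, 21, 0, 0, 17]), (1, [24, 0, 20, 0, 16, 12, 1])])),
  (990, (lf [(377, [2, 1, 0, 0, 14, 16]), (405, [24, 0, 12, 1, 3, 18, 2])])),
  (696, (lf [(305, [2, 6, 21, 0, 0, 16]), (196, [24, 0, 20, 0, 0, 12, 16])])),
  (898, (lf [(326, [24, 0, 0, 0, 14, 12, 8]), (9, [24, 0, 0, 0, 14, 24, 12])])),
  (796, (lf [(90, [24, 0, 17, 6, 1, 22, 1]), (497, [24, 0, 22, 17, 2, 18, 6])])),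
  (932, (lf [(426, [24, 0, 0, 0, 12, 14, 8]), (397, [24, 0, 0, 0, 24, 14, 12])])),
  (690, (lf [(326, [24, 0, 24, 0, 16, 8, 3]), (554, [24, 0, 22, 8, 2, 17, 5])])),
  (665, (lf [(565, [24, 0, 18, 0, 22, 21, 6]), (397, [24, 0, 0, 0, 24, 14])])),
  (655, (lf [(527, [24, 0, 17, 6, 12, 5, 0]), (405, [24, 0, 2, 8, 2, 18, 10, 0])])),
  (753, (lf [(377, [24, 0, 3, 12, 3, 18, 10]), (438, [24, 0, 22, 3, 16, 22, 6, 0])])),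
  (792, (lf [(274, [24, 0, 17, 1, 22, 4, 1]), (554, [24, 0, 20, 16, 2, 1, 5])])),
  (661, (lf [(527, [24, 0, 5, 24, 3, 22, 0]), (405, [5, 1, 16, 2, 1, 5, 16])])),
  (805, (lf [(455, [24, 0, 18, 6, 3, 22]), (196, [5, 6, 22, 3, 23, 6, 0])])),
  (839, (lf [(377, [24, 0, 12, 2, 12, 18]), (438, [4, 1, 18, 24, 5, 8, 1])])),
  (713, (lf [(305, [24, 0, 1, 14, 1, 23, 8]), (1, [4, 6, 1, 22, 3, 23, 6])])),
  (659, (lf [(188, [24, 0, 0, 0, 4, 24, 5]), (561, [24, 0, 0, 0, 23, 23])])),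
  (890, (lf [(490, [24, 0, 12, 1, 18, 4, 2]), (281, [24, 0, 1, 22, 20, 8, 0])])),
  (976, (lf [(49, [24, 0, 2, 22, 5, 23, 0]), (523, [24, 0, 24, 2, 16, 6, 0])])),
  (677, (lf [(565, [24, 0, 2, 12, 5, 17, 1]), (440, [24, 0, 14, 16, 1, 17, 0])])),
  (946, (lf [(523, [24, 0, 1, 8, 1, 5, 3]), (490, [24, 0, 8, 2, 18, 3, 12])])),
  (811, (lf [(281, [24, 0, 0, 0, 12, 16, 14]), (49, [24, 0, 8, 5, 3, 18, 0])])),
  (1005, (lf [(523, [24, 0, 0, 0, 12, 14, 17]), (490, [3, 6, 4, 23, 16, 3, 16])])),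
  (706, (lf [(281, [24, 0, 1, 22, 8, 0, 12]), (49, [2, 6, 4, 23, 16, 3, 17])])),
  (1033, (lf [(426, [24, 0, 4, 23, 16, 3]), (440, [24, 0, 16, 4, 24, 0, 3])])),
  (909, (lf [(326, [24, 0, 3, 24, 17, 18, 2]), (9, [24, 0, 12, 4, 17, 24, 1])])),
  (1069, (lf [(382, [24, 0, 1, 5, 23, 10, 2]), (58, [24, 0, 8, 22, 12, 2])])),
  (829, (lf [(426, [24, 0, 8, 23, 12, 18, 6]), (397, [24, 0, 5, 24, 17, 4, 2])])),
  (1023, (lf [(188, [24, 0, 22, 1, 4, 22, 0]), (58, [24, 0, 17, 2, 17, 3, 0])])),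
  (779, (lf [(565, [24, 0, 17, 24, 3, 8, 2]), (397, [24, 0, 16, 18, 23, 18, 0])])),
  (850, (lf [(523, [4, 6, 1, 8, 22, 0, 8]), (49, [24, 0, 1, 22, 12, 8, 0])])),
  (798, (lf [(281, [5, 6, 1, 22, 8, 0]), (490, [24, 0, 20, 8, 2, 18, 3])])),
  (757, (lf [(382, [24, 0, 23, 18, 17, 14, 0]), (561, [24, 0, 6, 16, 22, 4, 1])])),
  (819, (lf [(10, [24, 0, 3, 14, 23, 23, 1]), (306, [24, 0, 0, 0, 22, 22, 16])])),
  (716, (lf [(543, [24, 0, 2, 17, 5, 8, 18]), (375, [24, 0, 12, 0, 18, 17, 1])])),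
  (642, (lf [(188, [24, 0, 1, 4, 23, 18, 5]), (561, [24, 0, 2, 8, 5, 18, 4])])),
  (1008, (lf [(10, [24, 0, 3, 23, 16, 22, 1]), (306, [4, 1, 22, 12, 6, 5, 0])])),
  (675, (lf [(543, [24, 0, 0, 14, 4, 22, 1]), (375, [5, 1, 24, 6, 24, 0, 0])])),
  (793, (lf [(375, [24, 0, 16, 4, 22, 5, 0]), (10, [2, 1, 8, 6, 24, 23, 0])])),
  (1029, (lf [(306, [24, 0, 23, 18, 14, 12, 1]), (543, [3, 1, 1, 3, 14, 24, 0])])),
  (804, (lf [(375, [24, 0, 1, 5, 23, 2, 16]), (10, [24, 0, 3, 12, 14, 8, 1])])),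
  (943, (lf [(440, [24, 0, 8, 0, 4, 24, 6]), (426, [24, 0, 4, 14, 22, 10, 3])])),
  (1020, (lf [(306, [24, 0, 17, 22, 18, 12, 1]), (543, [24, 0, 23, 14, 12, 4, 3])])),
  (1055, (lf [(382, [24, 0, 22, 24, 4, 3, 0]), (58, [24, 0, 3, 16, 12, 14, 0])])),
  (1016, (lf [(188, [24, 0, 3, 23, 0, 23, 10]), (58, [24, 0, 8, 22, 3, 12, 3])])),
  (866, (lf [(382, [24, 0, 23, 18, 14, 17, 0]), (561, [24, 0, 0, 3, 23, 23, 2, 0])]))])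

noncomputable def xk16 : CT := (nd [(1007, (lf [(623, [24, 0, 22, 1]), (57, [24, 0, 22, 1, 24])])),
  (1006, (lf [(626, [24, 0, 22, 1, 8]), (96, [24, 0, 1, 4, 0, 0])])),
  (837, (lf [(623, [24, 0, 22, 1, 12]), (96, [24, 0, 0, 8, 1, 18])])),
  (783, (lf [(494, [24, 0, 22, 1, 14]), (529, [5, 5, 22, 1, 14, 24])])),
  (635, (lf [(478, [24, 0, 22, 1, 17]), (149, [24, 0, 24, 22, 1, 17])])),
  (722, (lf [(305, [24, 0, 22, 1, 16]), (141, [24, 0, 17, 0, 23])])),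
  (996, (lf [(623, [24, 0, 22, 21, 1]), (57, [24, 0, 22, 1, 24, 21])])),
  (845, (lf [(626, [24, 0, 22, 1, 12, 8]), (57, [24, 0, 22, 2, 23, 5])])),
  (857, (lf [(252, [24, 0, 22, 1, 14, 8]), (254, [4, 5, 22, 1, 14, 24, 8])])),
  (1011, (lf [(626, [24, 0, 12, 0, 18, 5]), (96, [24, 0, 21, 1, 4, 0, 0])])),
  (696, (lf [(494, [3, 5, 22, 1, 14, 12]), (254, [24, 0, 14, 24, 22, 3, 0])])),
  (1048, (lf [(478, [24, 0, 22, 1, 17, 12]), (141, [24, 0, 22, 12, 17, 12, 0])])),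
  (713, (lf [(305, [24, 0, 22, 12, 17, 0]), (149, [24, 0, 12, 1, 17, 22])])),
  (830, (lf [(623, [24, 0, 24, 22, 20, 1]), (96, [24, 0, 6, 8, 0, 16, 1])])),
  (961, (lf [(574, [24, 0, 22, 1, 12, 14]), (26, [2, 5, 0, 14, 2, 0, 18])])),
  (1051, (lf [(203, [24, 0, 22, 1, 17, 14]), (541, [24, 0, 8, 23, 0, 3, 0])])),
  (773, (lf [(452, [24, 0, 22, 1, 16, 14]), (396, [24, 0, 12, 5, 14, 6])])),
  (794, (lf [(494, [24, 0, 22, 21, 1, 14]), (529, [24, 0, 1, 5, 14, 22, 3])])),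
  (956, (lf [(203, [24, 0, 22, 1, 14, 17]), (541, [24, 0, 24, 12, 1, 22])])),
  (660, (lf [(478, [24, 0, 22, 21, 1, 17]), (149, [24, 0, 17, 0, 23, 21, 8])])),
  (774, (lf [(452, [24, 0, 22, 1, 14, 16]), (396, [24, 0, 14, 16, 5, 2, 0])])),
  (803, (lf [(305, [24, 0, 22, 21, 1, 16]), (141, [24, 0, 17, 0, 23, 20])])),
  (1021, (lf [(252, [2, 5, 5, 24, 14, 3, 0]), (529, [24, 0, 12, 1, 23, 17])])),
  (849, (lf [(626, [24, 0, 22, 2, 22, 5]), (57, [24, 0, 24, 14, 3, 17, 3])])),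
  (829, (lf [(37, [24, 0, 23, 1, 17, 5]), (425, [3, 5, 22, 1, 24, 14, 12])])),
  (880, (lf [(252, [24, 0, 17, 4, 3, 18, 2]), (254, [24, 0, 17, 0, 16, 14, 22])])),
  (847, (lf [(574, [5, 5, 12, 1, 22, 16]), (425, [24, 0, 22, 1, 24, 14])])),
  (661, (lf [(203, [24, 0, 3, 23, 18, 3]), (396, [24, 0, 8, 4, 2, 0, 8])])),
  (761, (lf [(452, [24, 0, 17, 0, 22, 14]), (541, [24, 0, 12, 1, 23, 20])])),
  (772, (lf [(494, [24, 0, 4, 2, 1, 16, 3]), (254, [24, 0, 23, 17, 24, 3, 0])])),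
  (676, (lf [(203, [24, 0, 12, 1, 24, 23]), (396, [24, 0, 12, 1, 8, 23])])),
  (1040, (lf [(478, [24, 0, 22, 8, 3, 14, 2]), (141, [24, 0, 16, 4, 18, 1])])),
  (702, (lf [(452, [24, 0, 17, 0, 16, 23]), (541, [24, 0, 12, 1, 23])])),
  (720, (lf [(305, [24, 0, 14, 24, 23, 8, 0]), (149, [24, 0, 12, 1, 23, 14])])),
  (948, (lf [(377, [3, 2, 22, 1, 4, 24, 5]), (539, [3, 2, 22, 1, 23, 23])])),
  (659, (lf [(571, [24, 0, 24, 8, 4, 2, 0]), (97, [24, 0, 20, 0, 12, 5, 0])])),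
  (808, (lf [(572, [24, 0, 23, 4, 18, 0, 0]), (125, [24, 0, 22, 0, 18, 8, 5])])),
  (861, (lf [(574, [24, 0, 3, 0, 22, 16, 1]), (26, [24, 0, 17, 3, 8, 2, 0])])),
  (1060, (lf [(125, [24, 0, 12, 2, 12, 5]), (571, [24, 0, 12, 1, 22, 21])])),
  (806, (lf [(97, [24, 0, 17, 0, 23, 14, 10]), (572, [24, 0, 20, 5, 8, 18, 2])])),
  (1062, (lf [(125, [24, 0, 3, 12, 5, 3]), (571, [24, 0, 12, 1, 22, 10])])),
  (888, (lf [(97, [24, 0, 12, 1, 24, 22]), (572, [24, 0, 5, 8, 18, 2])])),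
  (892, (lf [(37, [4, 5, 16, 22, 6, 17, 5]), (26, [24, 0, 22, 1, 24, 14, 8])])),
  (1030, (lf [(252, [24, 0, 1, 24, 17, 4, 2]), (529, [24, 0, 2, 18, 16, 1, 1])])),
  (664, (lf [(185, [2, 2, 22, 16, 18, 17, 1]), (14, [2, 2, 5, 16, 14, 12, 1])])),
  (836, (lf [(37, [24, 0, 17, 23, 3, 18]), (425, [24, 0, 1, 23, 6, 8, 4])])),
  (782, (lf [(377, [4, 2, 2, 16, 5, 14, 4]), (14, [5, 2, 18, 2, 22, 2])])),
  (975, (lf [(574, [24, 0, 18, 4, 17, 3]), (425, [24, 0, 14, 1, 22, 1, 1])])),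
  (692, (lf [(125, [24, 0, 18, 23, 4, 1, 1]), (572, [24, 0, 0, 12, 5, 12, 0])])),
  (642, (lf [(97, [24, 0, 0, 12, 5, 0]), (571, [24, 0, 12, 1, 22, 12])])),
  (859, (lf [(185, [5, 2, 8, 2, 22, 24, 2]), (539, [4, 2, 4, 24, 20, 1, 3])])),
  (699, (lf [(181, [24, 0, 17, 0, 8, 22]), (72, [24, 0, 2, 23, 17, 14, 6])])),
  (913, (lf [(138, [24, 0, 17, 0, 22]), (38, [24, 0, 17, 12, 0, 22])])),
  (954, (lf [(377, [24, 0, 5, 14, 0, 16]), (539, [24, 0, 23, 23, 4, 1, 3])])),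
  (709, (lf [(181, [24, 0, 17, 0, 22, 21, 8]), (72, [24, 0, 2, 23, 14, 17, 6])])),
  (897, (lf [(138, [24, 0, 17, 0, 22, 20]), (38, [24, 0, 5, 14, 0, 12])])),
  (879, (lf [(38, [24, 0, 5, 14, 0]), (181, [24, 0, 5, 14, 0, 24])])),
  (802, (lf [(72, [24, 0, 17, 22, 2, 0, 0]), (138, [24, 0, 5, 14, 12, 0])])),
  (708, (lf [(38, [24, 0, 20, 5, 14, 0]), (181, [24, 0, 12, 1, 17, 23])])),
  (993, (lf [(26, [24, 0, 14, 3, 17, 3, 14]), (37, [24, 0, 12, 1, 14, 23])])),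
  (719, (lf [(72, [24, 0, 4, 12, 5, 17, 0]), (138, [24, 0, 20, 5, 14, 12, 0])])),
  (710, (lf [(185, [24, 0, 12, 0, 18, 24, 5]), (14, [24, 0, 2, 0, 8, 0, 0])])),
  (721, (lf [(377, [24, 0, 3, 23, 4, 18, 4]), (14, [24, 0, 17, 0, 14, 23])])),
  (796, (lf [(185, [24, 0, 5, 14, 0, 17, 12]), (539, [24, 0, 4, 24, 1, 3])]))])


end Cfsg.Agent.Lib.ONE
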