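import Cfsg.Agent.Lib.BT4

/-! Certificates. -/

set_option autoImplicit false
set_option maxRecDepth 100000

namespace Cfsg.Agent.Lib.ONE

open Cfsg.Agent.Lib.PermNet Cfsg.Agent.Lib.Words Cfsg.Agent.Lib.PermGroup Cfsg.Agent.Lib.DCE Cfsg.Agent.Lib.PermModel Cfsg.Agent.Lib.BT

noncomputable def xk47 : CT := (nd [(1062, (lf [(612, [24, 0, 0, 23]), (149, [24, 0, 0, 23, 24])])),
  (645, (lf [(32, [24, 0, 0, 23, 8]), (284, [24, 0, 0, 23, 24, 8])])),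
  (984, (lf [(612, [24, 0, 0, 23, 12]), (284, [24, 0, 0, 23, 12, 24])])),
  (674, (lf [(615, [24, 0, 0, 23, 14]), (246, [1, 5, 0, 23, 14, 24])])),
  (821, (lf [(623, [24, 0, 0, 23, 17]), (236, [24, 0, 0, 23, 17, 24])])),
  (686, (lf [(487, [24, 0, 0, 23, 16]), (431, [24, 0, 0, 23, 16, 24])])),
  (1026, (lf [(612, [24, 0, 0, 23, 21]), (149, [24, 0, 12, 0, 23, 20])])),
  (927, (lf [(32, [24, 0, 0, 23, 12, 8]), (149, [24, 0, 0, 23, 24, 12])])),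
  (803, (lf [(170, [24, 0, 0, 23, 14, 8]), (56, [0, 5, 0, 23, 14, 24, 8])])),
  (636, (lf [(32, [24, 0, 0, 23, 21, 8]), (284, [24, 0, 0, 24, 23, 20])])),
  (1046, (lf [(615, [7, 5, 1, 18, 6, 3]), (56, [24, 0, 17, 24, 4, 2, 0])])),
  (998, (lf [(623, [24, 0, 16, 22, 10, 1]), (431, [24, 0, 6, 14, 17, 5, 3])])),
  (999, (lf [(487, [24, 0, 16, 22, 1, 8]), (236, [24, 0, 16, 1, 4, 0, 0])])),
  (997, (lf [(612, [24, 0, 0, 23, 21, 12]), (284, [24, 0, 3, 0, 8, 0, 2])])),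
  (793, (lf [(135, [24, 0, 0, 23, 12, 14]), (110, [0, 5, 0, 22, 14, 8])])),
  (735, (lf [(461, [24, 0, 0, 23, 17, 14]), (514, [24, 0, 4, 18, 4, 2])])),
  (1071, (lf [(569, [24, 0, 0, 23, 16, 14]), (591, [24, 0, 12, 0, 22, 16, 14])])),
  (677, (lf [(615, [24, 0, 2, 22, 14, 1]), (246, [24, 0, 0, 12, 16, 22])])),
  (885, (lf [(461, [24, 0, 23, 3, 18, 8]), (514, [24, 0, 3, 8, 2, 0])])),
  (865, (lf [(623, [24, 0, 23, 14, 24, 1]), (236, [24, 0, 3, 24, 6, 22, 0])])),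
  (1012, (lf [(569, [24, 0, 23, 3, 18, 10]), (591, [24, 0, 23, 3, 18, 24, 10])])),
  (650, (lf [(487, [24, 0, 0, 14, 22]), (431, [24, 0, 0, 14, 22, 24])])),
  (783, (lf [(170, [6, 5, 17, 4, 0, 12, 4]), (246, [24, 0, 0, 17, 5, 8, 4])])),
  (949, (lf [(32, [24, 0, 0, 4, 22, 12, 5]), (149, [24, 0, 22, 24, 14, 16, 0])])),
  (1008, (lf [(40, [24, 0, 17, 4, 2, 0]), (104, [1, 5, 0, 22, 14])])),
  (792, (lf [(170, [24, 0, 0, 16, 22, 10]), (56, [24, 0, 16, 12, 1, 22])])),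
  (824, (lf [(135, [6, 5, 16, 12, 5, 14, 6]), (104, [24, 0, 0, 22, 14, 12])])),
  (670, (lf [(461, [24, 0, 8, 22, 4, 18, 0]), (591, [24, 0, 0, 0, 23, 12, 1])])),
  (1077, (lf [(569, [24, 0, 1, 22, 5, 18, 1]), (514, [24, 0, 6, 12, 3, 16, 1])])),
  (1049, (lf [(615, [24, 0, 12, 0, 16, 23]), (56, [24, 0, 0, 17, 4, 8, 5])])),
  (734, (lf [(461, [24, 0, 4, 14, 23, 14, 2]), (591, [24, 0, 1, 24, 14, 16, 3])])),
  (1022, (lf [(623, [24, 0, 8, 23, 14, 1]), (431, [24, 0, 2, 1, 22, 16, 0])])),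
  (1034, (lf [(569, [24, 0, 23, 3, 18, 12, 10]), (514, [24, 0, 3, 14, 24, 14, 2, 0])])),
  (1021, (lf [(487, [24, 0, 0, 14, 22, 12]), (236, [24, 0, 16, 14, 3, 17, 3])])),
  (883, (lf [(289, [7, 2, 12, 0, 22, 10]), (80, [1, 2, 0, 22, 10])])),
  (830, (lf [(608, [24, 0, 16, 22, 1, 14, 10]), (367, [24, 0, 0, 22, 17, 14])])),
  (1069, (lf [(197, [24, 0, 18, 23, 1, 5, 2]), (279, [24, 0, 0, 22, 16, 14])])),
  (730, (lf [(135, [24, 0, 0, 16, 24, 23]), (110, [24, 0, 0, 17, 23, 10])])),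
  (896, (lf [(279, [24, 0, 17, 0, 14, 3]), (608, [24, 0, 22, 16, 0, 14, 1])])),
  (659, (lf [(367, [24, 0, 18, 5, 23, 8, 0]), (197, [24, 0, 17, 3, 14, 4, 3])])),
  (994, (lf [(279, [24, 0, 21, 17, 0, 14, 3]), (608, [24, 0, 18, 22, 12, 5, 0])])),
  (642, (lf [(367, [24, 0, 18, 23, 24, 3]), (197, [24, 0, 0, 5, 14, 17, 5])])),
  (1065, (lf [(40, [7, 5, 17, 23, 0, 3, 0]), (110, [24, 0, 1, 1, 14, 10, 1])])),
  (794, (lf [(170, [24, 0, 0, 24, 16, 23]), (246, [24, 0, 0, 16, 4, 8, 5])])),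
  (691, (lf [(332, [6, 2, 0, 24, 22, 10]), (48, [0, 2, 0, 8, 22])])),
  (915, (lf [(40, [24, 0, 24, 16, 1, 23]), (104, [24, 0, 0, 16, 23, 10])])),
  (963, (lf [(289, [7, 2, 0, 12, 24, 23]), (48, [1, 2, 0, 8, 22, 12])])),
  (832, (lf [(135, [24, 0, 0, 16, 24, 23, 12]), (104, [24, 0, 0, 24, 16, 22])])),
  (1055, (lf [(279, [24, 0, 0, 22, 14, 16]), (197, [24, 0, 4, 3, 18, 10, 2])])),
  (846, (lf [(367, [24, 0, 0, 14, 23, 14]), (608, [24, 0, 5, 0, 12, 2, 1])])),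
  (759, (lf [(332, [6, 2, 0, 24, 22, 12]), (80, [0, 2, 0, 22, 12])])),
  (708, (lf [(64, [24, 0, 0, 22, 16, 24]), (533, [24, 0, 0, 22, 16])])),
  (673, (lf [(19, [24, 0, 0, 22, 17, 24]), (161, [24, 0, 0, 22, 17])])),
  (862, (lf [(289, [24, 0, 12, 0, 22, 20]), (80, [24, 0, 0, 22, 20])])),
  (879, (lf [(64, [24, 0, 0, 14, 24, 23]), (533, [24, 0, 0, 22, 21, 16])])),
  (697, (lf [(19, [24, 0, 0, 14, 23, 24]), (161, [24, 0, 0, 14, 23])])),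
  (780, (lf [(161, [24, 0, 14, 4, 12, 1]), (64, [24, 0, 5, 3, 16, 12, 0])])),
  (877, (lf [(533, [24, 0, 5, 3, 16, 0]), (19, [24, 0, 1, 3, 23, 0, 17])])),
  (718, (lf [(161, [24, 0, 0, 22, 17, 12]), (64, [24, 0, 0, 22, 12, 16, 12])])),
  (1031, (lf [(110, [24, 0, 0, 17, 23, 12]), (40, [24, 0, 16, 12, 1, 23, 12])])),
  (924, (lf [(533, [24, 0, 0, 22, 16, 12]), (19, [24, 0, 0, 22, 12, 17, 12])])),
  (813, (lf [(332, [24, 0, 0, 24, 22, 20]), (48, [24, 0, 0, 22, 20, 8])])),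
  (1028, (lf [(289, [24, 0, 16, 5, 14, 0]), (48, [24, 0, 22, 2, 0, 12, 0])])),
  (872, (lf [(332, [24, 0, 22, 2, 0, 0]), (80, [24, 0, 3, 22, 1, 3])]))])

noncomputable def xk46 : CT := (nd [(880, (lf [(382, [24, 0, 17, 18]), (626, [24, 0, 17, 18, 24])])),
  (966, (lf [(137, [24, 0, 17, 18, 8]), (204, [24, 0, 17, 18, 24, 8])])),
  (898, (lf [(382, [24, 0, 17, 18, 12]), (204, [24, 0, 1, 1, 22, 6])])),
  (853, (lf [(450, [24, 0, 17, 18, 14]), (400, [24, 0, 17, 18, 14, 24])])),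
  (1075, (lf [(478, [0, 0, 17, 18, 17]), (32, [24, 0, 17, 18, 17, 24])])),
  (990, (lf [(433, [0, 0, 17, 18, 16]), (88, [24, 0, 17, 18, 16, 24])])),
  (686, (lf [(137, [24, 0, 17, 18, 12, 8]), (626, [24, 0, 17, 18, 24, 12])])),
  (996, (lf [(274, [24, 0, 17, 18, 14, 8]), (384, [24, 0, 0, 18, 22, 4])])),
  (649, (lf [(450, [24, 0, 17, 18, 14, 12]), (384, [24, 0, 22, 0, 8, 22, 1])])),
  (815, (lf [(478, [24, 0, 17, 18, 17, 12]), (88, [0, 0, 4, 2, 12, 8, 4])])),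
  (888, (lf [(433, [24, 0, 17, 18, 16, 12]), (32, [0, 0, 18, 24, 12, 18])])),
  (964, (lf [(562, [24, 0, 17, 18, 12, 14]), (25, [24, 0, 17, 2, 16, 1, 2])])),
  (730, (lf [(87, [24, 0, 17, 18, 14, 17]), (62, [24, 0, 6, 8, 3, 1])])),
  (1000, (lf [(267, [24, 0, 17, 18, 14, 16]), (289, [24, 0, 6, 23, 5, 22, 10])])),
  (659, (lf [(274, [24, 0, 18, 10, 5, 0, 5]), (400, [24, 0, 17, 18, 14, 24, 12])])),
  (1071, (lf [(90, [24, 0, 17, 18, 12, 14, 8]), (287, [24, 0, 23, 1, 22, 12, 1])])),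
  (906, (lf [(562, [24, 0, 22, 3, 8, 3]), (287, [24, 0, 17, 18, 24, 14])])),
  (951, (lf [(87, [24, 0, 6, 8, 23, 5]), (289, [24, 0, 6, 22, 21, 8, 5])])),
  (1057, (lf [(267, [24, 0, 6, 3, 1, 23]), (62, [24, 0, 6, 12, 4, 24, 4])])),
  (987, (lf [(426, [24, 0, 6, 14, 16, 0, 2]), (498, [24, 0, 17, 18, 23, 23])])),
  (647, (lf [(233, [24, 0, 6, 12, 5, 12]), (78, [24, 0, 6, 23, 12, 3, 1])])),
  (825, (lf [(339, [24, 0, 6, 2, 0, 23, 0]), (170, [24, 0, 6, 24, 20, 3, 1])])),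
  (979, (lf [(170, [24, 0, 23, 1, 14, 23, 0]), (233, [24, 0, 6, 12, 10, 5])])),
  (696, (lf [(78, [24, 0, 6, 24, 22, 5]), (339, [24, 0, 6, 12, 5, 8])])),
  (843, (lf [(170, [24, 0, 6, 3, 1, 22]), (233, [24, 0, 21, 6, 12, 5])])),
  (868, (lf [(78, [24, 0, 8, 0, 5, 16, 1]), (339, [24, 0, 14, 24, 3, 18, 0])])),
  (715, (lf [(90, [24, 0, 0, 18, 0, 2]), (25, [24, 0, 17, 18, 24, 14, 8])])),
  (914, (lf [(628, [24, 0, 18, 22, 12, 6, 5]), (342, [24, 0, 14, 4, 23, 12, 2])])),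
  (719, (lf [(426, [24, 0, 18, 6, 12, 8, 2]), (342, [24, 0, 24, 6, 24, 12, 2])])),
  (746, (lf [(170, [24, 0, 6, 24, 3, 1]), (339, [24, 0, 6, 23, 5, 23])])),
  (631, (lf [(78, [24, 0, 22, 22, 8, 6, 0]), (233, [24, 0, 22, 1, 1, 17, 3])])),
  (1025, (lf [(628, [24, 0, 22, 6, 4, 2, 0]), (498, [24, 0, 17, 18, 22, 22, 12])]))])

noncomputable def xk45 : CT := (.node 1066 [] [] (nat_lit 0x0) (lf [(137, [24, 0, 12, 18]), (487, [24, 0, 12, 18, 24])]) (.node 676 [] [] (nat_lit 0x0) (lf [(141, [24, 0, 12, 18, 8]), (534, [24, 0, 12, 18, 24, 8])]) (.node 644 [] [] (nat_lit 0x0) (lf [(355, [24, 0, 12, 18, 14]), (552, [7, 5, 12, 18, 14, 24])]) (.node 884 [[10, 18]] [(32, 0)] (nat_lit 0x100000000) (lf [(32, [24, 0, 12, 18, 17])]) (.node 920 [[10, 18]] [(57, 0)] (nat_lit 0x200000000000000) (lf [(57, [24, 0, 12, 18, 16])]) (.node 1071 [] [] (nat_lit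 0x0) (lf [(137, [24, 0, 21, 12, 18]), (487, [24, 0, 12, 18, 24, 21])]) (.node 865 [] [] (nat_lit 0x0) (lf [(512, [24, 0, 12, 18, 14, 8]), (237, [6, 5, 12, 18, 14, 24, 8])]) (.node 682 [] [] (nat_lit 0x0) (lf [(141, [24, 0, 21, 12, 18, 8]), (534, [24, 0, 14, 1, 2, 16, 1])]) (.node 693 [] [] (nat_lit 0x0) (lf [(355, [0, 5, 12, 18, 14, 12]), (237, [24, 0, 6, 23, 3, 18, 0])]) (.node 965 [] [] (nat_lit 0x0) (lf [(32, [24, 0, 12, 18, 17, 12]), (335, [24, 0, 24, 18, 17, 18])]) (.node 1073 [] [] (nat_lit 0x0) (lf [(21, [24, 0, 12, 18, 17, 14]), (219, [24, 0, 18, 2, 14, 6, 2])]) (.node 849 [] [] (nat_lit 0x0) (lf [(589, [24, 0, 12, 18, 16, 14]), (174, [24, 0, 12, 5, 18, 4, 3])]) (.node 637 [] [] (nat_lit 0x0) (lf [(355, [24, 0, 21, 12, 18, 14]), (552, [24, 0, 24, 6, 5, 23, 3])]) (.node 1067 [] [] (nat_lit 0x0) (lf [(21, [24, 0, 12, 18,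 14, 17]), (219, [24, 0, 24, 20, 5, 0, 5])]) (.node 961 [[10, 18]] [(32, 0)] (nat_lit 0x100000000) (lf [(32, [24, 0, 21, 12, 18, 17])]) (.node 941 [] [] (nat_lit 0x0) (lf [(589, [24, 0, 12, 18, 14, 16]), (174, [24, 0, 0, 23, 18, 1, 22])]) (.node 973 [[10, 18]] [(57, 0)] (nat_lit 0x200000000000000) (lf [(57, [24, 0, 21, 12, 18, 16])]) (.node 1008 [] [] (nat_lit 0x0) (lf [(512, [1, 5, 12, 18, 14, 12, 8]), (552, [24, 0, 12, 18, 14, 24, 12])]) (.node 738 [] [] (nat_lit 0x0) (lf [(512, [24, 0, 21, 12, 18, 14, 8]), (237, [24, 0, 18, 3, 0, 17, 1])]) (.node 1051 [] [] (nat_lit 0x0) (lf [(21, [24, 0, 3, 23, 8, 2]), (174, [24, 0, 18, 23, 5, 1, 1])]) (.node 906 [] [] (nat_lit 0x0) (lf [(589, [24, 0, 14, 6, 18, 1, 5]), (219, [24, 0, 6, 18, 4, 14, 0])]) (.node 739 [] [] (nat_lit 0x0) (lf [(355, [24, 0, 0, 16, 6, 17, 1]), (237, [24, 0, 18, 1,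 16, 24, 3])]) (.node 956 [] [] (nat_lit 0x0) (lf [(21, [24, 0, 3, 23, 21, 8, 2]), (174, [24, 0, 1, 23, 4, 0, 4])]) (.node 977 [] [] (nat_lit 0x0) (lf [(32, [24, 0, 4, 3, 12, 17, 1]), (335, [24, 0, 2, 0, 24, 2, 17])]) (.node 895 [] [] (nat_lit 0x0) (lf [(589, [24, 0, 22, 24, 18, 23, 4]), (219, [24, 0, 23, 20, 2, 18, 3, 0])]) (.node 812 [] [] (nat_lit 0x0) (lf [(324, [0, 2, 22, 21, 2, 1, 4]), (457, [6, 2, 12, 18, 23, 23])]) (.node 915 [] [] (nat_lit 0x0) (lf [(512, [24, 0, 2, 17, 24, 5, 1]), (552, [24, 0, 2, 0, 24, 2, 14])]) (.node 838 [] [] (nat_lit 0x0) (lf [(515, [1, 2, 22, 0, 23, 0, 4]), (616, [7, 2, 12, 18, 23, 23, 8])]) (.node 718 [[18]] [(276, 0)] (nat_lit 0x1000000000000000000000000000000000000000000000000000000000000000000000) (lf [(276, [24, 0, 17, 2, 0, 5, 2])]) (.node 925 [[18]] [(328, 0)] (nat_lit 0x10000000000000000000000000000000000000000000000000000000000000000000000000000000000)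 (lf [(328, [24, 0, 18, 23, 2, 14, 3, 0])]) (.node 891 [] [] (nat_lit 0x0) (lf [(324, [24, 0, 22, 10, 2, 1, 4]), (457, [24, 0, 12, 18, 5, 24, 4])]) (.node 780 [[18]] [(276, 0)] (nat_lit 0x1000000000000000000000000000000000000000000000000000000000000000000000) (lf [(276, [24, 0, 4, 17, 5, 0, 3])]) (.node 934 [[18]] [(328, 0)] (nat_lit 0x10000000000000000000000000000000000000000000000000000000000000000000000000000000000) (lf [(328, [24, 0, 14, 6, 14, 6, 16, 0])]) (.node 875 [] [] (nat_lit 0x0) (lf [(136, [24, 0, 16, 3, 18, 12, 0]), (276, [24, 0, 24, 4, 2, 16, 3])]) (.node 822 [] [] (nat_lit 0x0) (lf [(136, [24, 0, 4, 8, 6, 4]), (276, [24, 0, 5, 2, 16, 1, 1])]) (.node 831 [] [] (nat_lit 0x0) (lf [(515, [24, 0, 17, 6, 3, 24, 1]), (616, [24, 0, 23, 18, 5, 18, 5])]) .nil))))))))))))))))))))))))))))))))))))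

noncomputable def xk44 : CT := (nd [(905, (lf [(360, [24, 0, 5, 18]), (329, [24, 0, 5, 18, 24])])),
  (974, (lf [(203, [24, 0, 5, 18, 8]), (277, [24, 0, 5, 18, 24, 8])])),
  (1005, (lf [(360, [24, 0, 5, 18, 12]), (277, [24, 0, 5, 18, 12, 24])])),
  (922, (lf [(304, [24, 0, 5, 18, 14]), (151, [24, 0, 5, 18, 14, 24])])),
  (695, (lf [(467, [24, 0, 5, 18, 17]), (264, [24, 0, 5, 18, 17, 24])])),
  (965, (lf [(182, [24, 0, 5, 18, 16]), (42, [24, 0, 5, 18, 16, 24])])),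
  (894, (lf [(360, [24, 0, 21, 5, 18]), (329, [24, 0, 5, 18, 24, 21])])),
  (1028, (lf [(203, [24, 0, 5, 18, 12, 8]), (329, [24, 0, 5, 18, 24, 12])])),
  (910, (lf [(35, [24, 0, 17, 1, 23, 5]), (548, [24, 0, 17, 1, 22, 20, 5])])),
  (1014, (lf [(203, [24, 0, 21, 5, 18, 8]), (277, [24, 0, 5, 18, 24, 21, 8])])),
  (854, (lf [(304, [24, 0, 5, 18, 14, 12]), (548, [24, 0, 17, 3, 22, 18, 2])])),
  (698, (lf [(467, [24, 0, 5, 18, 17, 12]), (42, [24, 0, 12, 18, 14, 24, 5])])),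
  (840, (lf [(182, [24, 0, 5, 18, 16, 12]), (264, [24, 0, 24, 18, 6, 23, 4])])),
  (916, (lf [(360, [24, 0, 21, 5, 18, 12]), (277, [24, 0, 8, 0, 0, 22, 0])])),
  (665, (lf [(611, [24, 0, 5, 18, 12, 14]), (406, [24, 0, 5, 2, 16, 1, 2])])),
  (906, (lf [(417, [24, 0, 5, 18, 17, 14]), (589, [24, 0, 6, 23, 6, 24, 2])])),
  (874, (lf [(441, [24, 0, 5, 18, 16, 14]), (563, [24, 0, 4, 18, 4, 3])])),
  (895, (lf [(417, [24, 0, 5, 18, 14, 17]), (589, [24, 0, 12, 18, 17, 4, 16])])),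
  (914, (lf [(467, [24, 0, 21, 5, 18, 17]), (264, [24, 0, 20, 5, 18, 12, 17])])),
  (688, (lf [(441, [24, 0, 5, 18, 14, 16]), (563, [24, 0, 3, 8, 1, 3, 1])])),
  (977, (lf [(182, [24, 0, 21, 5, 18, 16]), (42, [24, 0, 1, 12, 16, 2, 1])])),
  (697, (lf [(35, [24, 0, 12, 18, 17, 4]), (151, [24, 0, 17, 1, 3, 1])])),
  (948, (lf [(203, [24, 0, 14, 1, 5, 17, 1]), (329, [24, 0, 4, 8, 3, 12, 5])])),
  (723, (lf [(566, [24, 0, 0, 2, 14, 22, 3]), (132, [24, 0, 17, 2, 12, 4])])),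
  (790, (lf [(611, [24, 0, 24, 6, 1, 23, 1]), (132, [24, 0, 24, 14, 5, 0])])),
  (799, (lf [(417, [24, 0, 3, 8, 2, 23, 4]), (563, [24, 0, 6, 24, 16, 18, 5])])),
  (849, (lf [(441, [24, 0, 5, 18, 16, 14, 12]), (589, [24, 0, 16, 4, 16, 1, 4])])),
  (871, (lf [(304, [24, 0, 21, 5, 18, 14, 12]), (548, [24, 0, 18, 14, 24, 8, 3])])),
  (788, (lf [(417, [24, 0, 22, 1, 8, 5, 2]), (563, [24, 0, 24, 6, 4, 22, 6])])),
  (704, (lf [(467, [24, 0, 14, 1, 22, 10, 3]), (42, [24, 0, 14, 4, 16, 6, 3, 0])])),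
  (941, (lf [(441, [24, 0, 6, 12, 6, 12, 3]), (589, [24, 0, 17, 1, 3, 1, 16])])),
  (968, (lf [(182, [24, 0, 14, 1, 22, 3, 8]), (264, [24, 0, 6, 23, 5, 0, 2, 0])]))])

noncomputable def xk43 : CT := (nd [(764, (lf [(466, [24, 0, 0, 18]), (570, [24, 0, 0, 18, 24])])),
  (795, (lf [(86, [24, 0, 0, 18, 8]), (572, [24, 0, 0, 18, 24, 8])])),
  (849, (lf [(466, [24, 0, 0, 18, 12]), (572, [24, 0, 0, 18, 12, 24])])),
  (631, (lf [(105, [24, 0, 0, 18, 14]), (78, [24, 0, 0, 18, 14, 24])])),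
  (746, (lf [(156, [24, 0, 0, 18, 17]), (558, [24, 0, 1, 5, 17, 22])])),
  (857, (lf [(301, [24, 0, 0, 18, 16]), (50, [24, 0, 0, 18, 16, 24])])),
  (811, (lf [(466, [24, 0, 21, 0, 18]), (570, [24, 0, 1, 18, 1, 1])])),
  (667, (lf [(86, [24, 0, 0, 18, 12, 8]), (570, [24, 0, 0, 18, 24, 12])])),
  (978, (lf [(9, [24, 0, 0, 18, 14, 8]), (529, [24, 0, 1, 5, 22, 16])])),
  (784, (lf [(86, [24, 0, 21, 0, 18, 8]), (572, [24, 0, 1, 14, 12, 16, 4])])),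
  (1061, (lf [(105, [24, 0, 0, 18, 14, 12]), (529, [24, 0, 18, 14, 3, 8, 3])])),
  (911, (lf [(156, [24, 0, 0, 18, 17, 12]), (50, [24, 0, 0, 18, 12, 16, 12])])),
  (723, (lf [(301, [24, 0, 0, 18, 16, 12]), (558, [24, 0, 3, 12, 14, 3, 12])])),
  (941, (lf [(466, [24, 0, 21, 0, 18, 12]), (572, [24, 0, 0, 18, 12, 24, 21])])),
  (686, (lf [(420, [24, 0, 0, 18, 12, 14]), (605, [24, 0, 6, 17, 6])])),
  (828, (lf [(98, [24, 0, 0, 18, 17, 14]), (528, [24, 0, 10, 1, 4, 8, 4])])),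
  (1017, (lf [(578, [24, 0, 0, 18, 16, 14]), (226, [24, 0, 21, 1, 8, 5])])),
  (647, (lf [(105, [24, 0, 21, 0, 18, 14]), (78, [24, 0, 22, 6, 23, 8, 1])])),
  (743, (lf [(98, [20, 4, 0, 18, 14, 17]), (528, [11, 6, 1, 8, 5, 8])])),
  (825, (lf [(156, [20, 3, 21, 0, 18, 17]), (558, [24, 0, 1, 5, 23, 14])])),
  (939, (lf [(578, [22, 4, 1, 5, 22, 12]), (226, [19, 6, 10, 1, 8, 5])])),
  (880, (lf [(301, [22, 3, 21, 0, 18, 16]), (50, [24, 0, 1, 5, 8, 23, 14])])),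
  (772, (lf [(9, [24, 0, 22, 4, 14, 24, 1]), (78, [24, 0, 4, 3, 0, 12, 6])])),
  (801, (lf [(86, [24, 0, 17, 1, 16, 22, 3]), (570, [24, 0, 3, 17, 18, 6, 3])])),
  (1003, (lf [(267, [24, 0, 1, 5, 23, 17]), (61, [24, 0, 6, 17, 6, 8])])),
  (1044, (lf [(9, [24, 0, 23, 0, 2, 17, 2]), (529, [24, 0, 12, 1, 14, 0, 0])])),
  (987, (lf [(420, [24, 0, 12, 0, 3, 18, 6]), (61, [24, 0, 0, 18, 24, 14])])),
  (812, (lf [(98, [24, 0, 1, 5, 22, 21, 8]), (226, [24, 0, 20, 1, 8, 5, 12])])),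
  (735, (lf [(578, [24, 0, 1, 5, 22, 20]), (528, [24, 0, 1, 23, 8, 3, 1])])),
  (1064, (lf [(105, [24, 0, 17, 0, 3, 18, 2]), (529, [24, 0, 1, 5, 24, 14, 23])])),
  (891, (lf [(98, [9, 3, 1, 5, 8, 22]), (226, [14, 4, 1, 8, 5, 12])])),
  (695, (lf [(156, [24, 0, 6, 0, 18, 0, 4]), (50, [14, 3, 12, 6, 22, 24, 3])])),
  (885, (lf [(578, [17, 3, 1, 5, 22]), (528, [13, 6, 1, 5, 22, 24])])),
  (804, (lf [(301, [24, 0, 21, 0, 18, 16, 12]), (558, [13, 1, 18, 2, 23, 6, 1])])),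
  (960, (lf [(278, [24, 0, 22, 4, 3, 18]), (456, [24, 0, 0, 18, 23, 23])])),
  (810, (lf [(180, [24, 0, 18, 4, 18, 24, 2]), (549, [24, 0, 1, 24, 4, 8, 4])])),
  (651, (lf [(492, [24, 0, 1, 22, 24, 22, 5]), (497, [24, 0, 1, 24, 20, 8, 5])])),
  (650, (lf [(420, [24, 0, 1, 5, 14, 22, 10]), (605, [24, 0, 21, 6, 17, 6])])),
  (881, (lf [(497, [24, 0, 1, 5, 23, 21]), (180, [24, 0, 2, 12, 5, 3, 1])])),
  (768, (lf [(549, [24, 0, 17, 18, 17, 4]), (492, [24, 0, 24, 8, 1, 3, 1])])),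
  (858, (lf [(497, [24, 0, 1, 5, 23, 10]), (180, [24, 0, 1, 5, 24, 23, 8])])),
  (664, (lf [(549, [24, 0, 1, 5, 23, 8]), (492, [24, 0, 1, 24, 5, 22])])),
  (986, (lf [(267, [24, 0, 23, 2, 1, 14, 0]), (605, [24, 0, 6, 17, 6, 12])])),
  (748, (lf [(9, [24, 0, 1, 16, 14, 4, 14]), (78, [24, 0, 14, 4, 3, 16, 6])])),
  (756, (lf [(477, [24, 0, 23, 6, 18, 16, 0]), (391, [24, 0, 1, 24, 14, 16, 4])])),
  (1057, (lf [(267, [24, 0, 17, 18, 17, 4, 16]), (61, [24, 0, 21, 6, 17, 6, 8])])),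
  (949, (lf [(278, [24, 0, 22, 4, 3, 18, 12]), (391, [24, 0, 22, 18, 4, 22, 0])])),
  (967, (lf [(420, [24, 0, 22, 2, 17, 24, 2]), (61, [24, 0, 16, 6, 18, 14, 4])])),
  (700, (lf [(497, [24, 0, 1, 24, 8, 5]), (492, [24, 0, 2, 12, 5, 22, 5])])),
  (901, (lf [(549, [24, 0, 1, 22, 20, 12, 5]), (180, [24, 0, 1, 4, 24, 8, 4])])),
  (687, (lf [(477, [24, 0, 16, 3, 12, 6, 0]), (456, [24, 0, 0, 18, 22, 22, 12])])),
  (827, (lf [(357, [24, 0, 16, 12, 0, 5, 3]), (140, [24, 0, 24, 17, 5, 18])])),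
  (1065, (lf [(409, [24, 0, 1, 5, 16, 23]), (109, [24, 0, 1, 17, 3, 12, 2])])),
  (883, (lf [(278, [24, 0, 22, 18, 23, 1, 5]), (456, [24, 0, 18, 22, 8, 18])])),
  (834, (lf [(357, [9, 4, 14, 24, 6, 17, 0]), (140, [24, 0, 1, 8, 5, 14, 12])])),
  (951, (lf [(409, [17, 4, 1, 5, 22, 14]), (109, [24, 0, 22, 14, 3, 24, 2])])),
  (719, (lf [(109, [11, 1, 18, 8, 2, 17, 3]), (357, [24, 0, 1, 24, 5, 22, 14])])),
  (979, (lf [(140, [19, 1, 1, 8, 5, 14]), (409, [24, 0, 1, 8, 5, 14, 24])])),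
  (728, (lf [(109, [24, 0, 18, 6, 5, 0, 3]), (357, [24, 0, 5, 22, 6, 4, 12])])),
  (1000, (lf [(605, [24, 0, 8, 2, 12, 14, 2]), (267, [24, 0, 1, 5, 24, 14, 22])])),
  (843, (lf [(140, [24, 0, 14, 0, 22, 8, 2]), (409, [24, 0, 14, 6, 16, 2, 0])])),
  (701, (lf [(477, [24, 0, 1, 16, 14, 4]), (391, [24, 0, 12, 0, 18, 2, 1])])),
  (958, (lf [(278, [24, 0, 3, 17, 1, 14, 1]), (391, [24, 0, 12, 5, 24, 18, 12, 0])])),
  (640, (lf [(477, [24, 0, 12, 5, 24, 18, 0]), (456, [24, 0, 24, 12, 6, 23, 6])]))])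

noncomputable def xk42 : CT := (nd [(712, (lf [(196, [24, 0, 22, 6]), (246, [24, 0, 22, 6, 24])])),
  (769, (lf [(435, [24, 0, 22, 6, 8]), (56, [24, 0, 22, 6, 24, 8])])),
  (877, (lf [(196, [24, 0, 22, 6, 12]), (56, [24, 0, 22, 6, 12, 24])])),
  (869, (lf [(405, [24, 0, 22, 6, 14]), (240, [24, 0, 22, 6, 14, 24])])),
  (810, (lf [(83, [24, 0, 22, 6, 17]), (147, [24, 0, 22, 6, 17, 24])])),
  (956, (lf [(74, [24, 0, 22, 6, 16]), (484, [24, 0, 22, 6, 16, 24])])),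
  (789, (lf [(196, [11, 5, 22, 20, 6]), (246, [10, 6, 22, 6, 24, 21])])),
  (650, (lf [(435, [24, 0, 22, 6, 12, 8]), (246, [24, 0, 22, 6, 24, 12])])),
  (895, (lf [(526, [24, 0, 22, 6, 14, 8]), (414, [24, 0, 16, 2, 0, 17, 3])])),
  (738, (lf [(435, [19, 5, 22, 20, 6, 8]), (56, [18, 6, 22, 6, 24, 21, 8])])),
  (860, (lf [(405, [24, 0, 22, 6, 14, 12]), (414, [24, 0, 22, 6, 12, 24, 14])])),
  (651, (lf [(83, [24, 0, 22, 6, 17, 12]), (484, [24, 0, 18, 1, 8, 18, 5])])),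
  (1077, (lf [(74, [24, 0, 22, 6, 16, 12]), (147, [24, 0, 18, 2, 24, 10, 2])])),
  (924, (lf [(196, [8, 5, 22, 20, 6, 12]), (56, [17, 6, 22, 6, 12, 24, 21])])),
  (1024, (lf [(69, [24, 0, 22, 6, 12, 14]), (173, [24, 0, 6, 17, 4, 24, 3])])),
  (803, (lf [(133, [24, 0, 22, 6, 17, 14]), (564, [24, 0, 23, 12, 6, 22, 8])])),
  (887, (lf [(53, [24, 0, 22, 6, 16, 14]), (177, [24, 0, 3, 23, 21, 8, 6])])),
  (774, (lf [(405, [11, 2, 22, 20, 6, 14]), (240, [24, 0, 22, 6, 14, 24, 20])])),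
  (722, (lf [(133, [24, 0, 22, 6, 14, 17]), (564, [16, 2, 3, 8, 23, 6, 8])])),
  (800, (lf [(83, [24, 0, 22, 20, 6, 17]), (147, [24, 0, 6, 16, 24, 18, 4])])),
  (794, (lf [(53, [24, 0, 22, 6, 14, 16]), (177, [8, 2, 3, 23, 8, 6])])),
  (1051, (lf [(74, [24, 0, 22, 20, 6, 16]), (484, [24, 0, 8, 0, 16, 14, 4])])),
  (692, (lf [(526, [24, 0, 22, 6, 14, 12, 8]), (240, [24, 0, 14, 5, 16, 12, 5])])),
  (686, (lf [(435, [16, 5, 22, 20, 6, 12, 8]), (246, [9, 6, 14, 3, 23, 5, 0])])),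
  (787, (lf [(375, [24, 0, 16, 4, 16, 3, 1]), (611, [24, 0, 20, 4, 12, 18, 3])])),
  (906, (lf [(526, [19, 2, 18, 8, 1, 8, 2]), (414, [24, 0, 2, 24, 18, 24, 0])])),
  (946, (lf [(69, [24, 0, 20, 1, 18, 0, 0]), (611, [24, 0, 22, 6, 24, 14])])),
  (998, (lf [(133, [24, 0, 22, 6, 17, 14, 12]), (177, [24, 0, 20, 16, 1, 8, 3])])),
  (703, (lf [(53, [24, 0, 1, 24, 8, 6, 3]), (564, [24, 0, 6, 5, 24, 5, 18])])),
  (844, (lf [(405, [24, 0, 8, 0, 5, 23, 10]), (414, [17, 1, 16, 4, 17, 12, 5])])),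
  (936, (lf [(133, [10, 1, 6, 0, 22, 18, 1]), (177, [24, 0, 17, 8, 1, 8, 3])])),
  (734, (lf [(83, [24, 0, 14, 5, 22, 16, 4]), (484, [24, 0, 18, 0, 2, 18, 2])])),
  (697, (lf [(53, [18, 1, 22, 17, 18, 12, 5]), (564, [24, 0, 16, 1, 8, 3, 8])])),
  (957, (lf [(74, [24, 0, 17, 18, 22, 16, 1]), (147, [24, 0, 18, 2, 24, 21, 2])])),
  (745, (lf [(577, [24, 0, 8, 6, 18, 10, 1]), (532, [24, 0, 22, 6, 23, 23])])),
  (708, (lf [(334, [24, 0, 17, 22, 4, 8, 1]), (371, [24, 0, 4, 16, 22, 5, 3])])),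
  (1030, (lf [(82, [24, 0, 23, 12, 6, 23]), (318, [24, 0, 6, 2, 23, 0, 12])])),
  (930, (lf [(69, [8, 2, 8, 0, 8, 5]), (173, [24, 0, 12, 6, 0, 3, 14])])),
  (674, (lf [(318, [24, 0, 6, 2, 23, 0]), (334, [24, 0, 12, 16, 23, 4, 1])])),
  (1041, (lf [(371, [24, 0, 2, 12, 6, 23, 0]), (82, [24, 0, 6, 2, 23, 12, 0])])),
  (656, (lf [(318, [24, 0, 16, 3, 16, 6, 0]), (334, [17, 1, 6, 0, 3, 22, 12])])),
  (1049, (lf [(371, [24, 0, 22, 6, 12, 14, 16]), (82, [9, 1, 17, 18, 24, 0, 0, 0])])),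
  (725, (lf [(375, [24, 0, 23, 23, 2, 8, 0]), (173, [24, 0, 8, 18, 0, 18, 2])])),
  (808, (lf [(526, [24, 0, 23, 12, 6, 22, 16]), (240, [9, 1, 0, 18, 4, 17, 6])])),
  (915, (lf [(523, [24, 0, 8, 18, 24, 14, 3]), (427, [24, 0, 16, 0, 4, 3, 0])])),
  (798, (lf [(375, [16, 2, 23, 24, 3, 22, 2]), (611, [24, 0, 18, 4, 23, 5, 1])])),
  (804, (lf [(577, [24, 0, 6, 4, 16, 12, 6, 0]), (427, [24, 0, 2, 22, 6, 1, 3])])),
  (919, (lf [(69, [24, 0, 1, 18, 10, 0, 0]), (611, [10, 1, 16, 4, 22, 14, 5])])),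
  (1021, (lf [(318, [11, 2, 5, 16, 4, 24, 2]), (82, [24, 0, 6, 0, 3, 22, 8])])),
  (809, (lf [(371, [19, 2, 1, 5, 1, 17, 5]), (334, [24, 0, 6, 0, 3, 22, 10])])),
  (1031, (lf [(523, [24, 0, 0, 18, 23, 14, 0]), (532, [24, 0, 14, 17, 24, 6])])),
  (1076, (lf [(269, [24, 0, 6, 18, 14, 1, 3]), (165, [24, 0, 3, 18, 23, 18, 10])])),
  (668, (lf [(285, [24, 0, 6, 5, 14, 5, 0]), (437, [24, 0, 5, 1, 23, 1])])),
  (740, (lf [(577, [24, 0, 21, 8, 6, 18, 1]), (532, [24, 0, 22, 6, 5, 24, 4])])),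
  (953, (lf [(269, [10, 6, 24, 17, 18, 6, 0]), (165, [11, 5, 3, 18, 23, 21, 18])])),
  (724, (lf [(285, [18, 6, 23, 4, 23, 18, 10]), (437, [19, 5, 5, 1, 23, 20, 1])])),
  (654, (lf [(437, [16, 5, 21, 0, 5, 12, 5]), (269, [9, 6, 0, 17, 6, 1, 3])])),
  (907, (lf [(165, [8, 5, 1, 5, 23, 23, 1]), (285, [17, 6, 23, 4, 23, 18, 12])])),
  (659, (lf [(437, [24, 0, 5, 1, 24, 23, 1]), (269, [24, 0, 16, 4, 14, 22, 4])])),
  (678, (lf [(173, [18, 1, 8, 0, 5, 22]), (375, [24, 0, 14, 5, 23, 14, 5])])),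
  (896, (lf [(165, [24, 0, 1, 4, 24, 4, 1]), (285, [24, 0, 23, 3, 24, 2, 1])])),
  (1008, (lf [(523, [24, 0, 0, 14, 0, 8, 1]), (427, [24, 0, 12, 10, 6, 0, 3])])),
  (723, (lf [(577, [24, 0, 18, 8, 22, 6, 1]), (427, [24, 0, 16, 2, 24, 0, 0])])),
  (1038, (lf [(523, [24, 0, 0, 18, 17, 22, 0]), (532, [24, 0, 17, 14, 24, 6])]))])

noncomputable def xk41 : CT := (nd [(697, (lf [(185, [24, 0, 23, 6]), (502, [24, 0, 23, 6, 24])])),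
  (794, (lf [(501, [24, 0, 23, 6, 8]), (411, [24, 0, 23, 6, 24, 8])])),
  (824, (lf [(185, [24, 0, 23, 6, 12]), (411, [24, 0, 23, 6, 12, 24])])),
  (882, (lf [(233, [24, 0, 23, 6, 14]), (618, [24, 0, 23, 6, 14, 24])])),
  (742, (lf [(337, [24, 0, 23, 6, 17]), (218, [24, 0, 23, 6, 17, 24])])),
  (1015, (lf [(138, [24, 0, 3, 0, 4]), (448, [24, 0, 3, 0, 4, 24])])),
  (673, (lf [(185, [24, 0, 23, 20, 6]), (502, [11, 4, 23, 6, 24, 21])])),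
  (686, (lf [(501, [24, 0, 23, 6, 12, 8]), (502, [24, 0, 23, 6, 24, 12])])),
  (760, (lf [(290, [24, 0, 23, 6, 14, 8]), (274, [24, 0, 23, 6, 14, 24, 8])])),
  (783, (lf [(501, [24, 0, 23, 20, 6, 8]), (411, [19, 4, 18, 1, 8, 6, 2])])),
  (844, (lf [(233, [24, 0, 23, 6, 14, 12]), (274, [24, 0, 12, 1, 17, 14, 3])])),
  (894, (lf [(337, [24, 0, 23, 6, 17, 12]), (448, [24, 0, 1, 2, 24, 2, 1])])),
  (990, (lf [(138, [24, 0, 3, 0, 4, 12]), (218, [24, 0, 16, 4, 17, 4])])),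
  (745, (lf [(185, [9, 2, 23, 20, 6, 12]), (411, [24, 0, 23, 6, 12, 24, 21])])),
  (964, (lf [(372, [24, 0, 23, 6, 12, 14]), (157, [24, 0, 17, 14, 3, 22, 2])])),
  (1065, (lf [(438, [24, 0, 23, 6, 17, 14]), (564, [24, 0, 4, 18, 5, 1, 17])])),
  (738, (lf [(104, [24, 0, 3, 0, 4, 14]), (177, [24, 0, 22, 12, 6, 22])])),
  (785, (lf [(233, [24, 0, 23, 20, 6, 14]), (618, [24, 0, 17, 6, 23, 1, 4])])),
  (1031, (lf [(438, [24, 0, 23, 6, 14, 17]), (564, [24, 0, 17, 0, 4, 1, 1])])),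
  (666, (lf [(337, [24, 0, 23, 20, 6, 17]), (218, [24, 0, 4, 22, 5, 0, 3])])),
  (865, (lf [(104, [24, 0, 23, 6, 14, 16]), (177, [24, 0, 17, 2, 14, 16, 0])])),
  (1026, (lf [(138, [24, 0, 20, 3, 0, 4]), (448, [24, 0, 2, 18, 2, 24, 1])])),
  (828, (lf [(290, [24, 0, 2, 14, 4, 16, 0]), (618, [24, 0, 1, 1, 23, 8, 0])])),
  (639, (lf [(501, [17, 2, 23, 20, 6, 12, 8]), (502, [24, 0, 3, 23, 4, 14, 2])])),
  (799, (lf [(360, [24, 0, 23, 6, 12, 14, 8]), (113, [24, 0, 2, 12, 8, 0, 12])])),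
  (777, (lf [(290, [24, 0, 4, 14, 0, 17, 0]), (274, [24, 0, 17, 12, 14, 6, 14])])),
  (678, (lf [(372, [24, 0, 12, 18, 8, 22, 3]), (113, [24, 0, 2, 12, 8, 0])])),
  (723, (lf [(438, [24, 0, 0, 16, 8, 2, 0]), (177, [24, 0, 14, 0, 3, 24, 3, 0])])),
  (789, (lf [(104, [24, 0, 6, 18, 8, 4, 1]), (564, [24, 0, 20, 18, 17, 18, 4])])),
  (823, (lf [(233, [24, 0, 4, 18, 5, 1]), (274, [24, 0, 0, 23, 18, 0, 3])])),
  (730, (lf [(438, [24, 0, 21, 0, 17, 2, 0]), (177, [24, 0, 18, 17, 18, 4, 8])])),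
  (905, (lf [(337, [24, 0, 1, 24, 8, 0, 0]), (448, [24, 0, 2, 23, 0, 0, 0])])),
  (780, (lf [(104, [24, 0, 23, 17, 18, 12, 5]), (564, [24, 0, 18, 17, 18, 10, 4])])),
  (921, (lf [(138, [24, 0, 22, 1, 24, 0, 3]), (218, [24, 0, 1, 17, 1, 16, 0])])),
  (987, (lf [(171, [24, 0, 23, 6, 4, 24, 5]), (457, [24, 0, 23, 6, 23, 23])])),
  (677, (lf [(432, [24, 0, 8, 2, 22, 6]), (2, [24, 0, 6, 23, 1, 23, 0])])),
  (989, (lf [(400, [24, 0, 1, 8, 0, 17, 3]), (170, [24, 0, 0, 0, 14, 2, 1])])),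
  (952, (lf [(372, [9, 5, 23, 20, 6, 12, 14]), (157, [20, 1, 3, 24, 3, 22, 3])])),
  (879, (lf [(170, [24, 0, 6, 4, 2, 0, 5]), (432, [24, 0, 17, 24, 22, 4, 1])])),
  (1037, (lf [(2, [24, 0, 20, 2, 17, 12, 1]), (400, [24, 0, 22, 12, 6, 23, 12])])),
  (708, (lf [(170, [24, 0, 2, 17, 12, 1, 8]), (432, [24, 0, 22, 12, 14, 4, 1])])),
  (1041, (lf [(2, [24, 0, 2, 24, 17, 1]), (400, [24, 0, 12, 6, 22, 8, 2])])),
  (1005, (lf [(360, [24, 0, 10, 2, 8, 0]), (157, [24, 0, 0, 5, 0, 5, 2])])),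
  (692, (lf [(290, [24, 0, 22, 1, 22, 5, 0]), (618, [24, 0, 16, 4, 14, 5])])),
  (1008, (lf [(560, [24, 0, 2, 23, 14, 1, 22]), (134, [24, 0, 5, 23, 21, 6, 0])])),
  (891, (lf [(360, [17, 5, 21, 2, 8, 0, 12]), (113, [22, 1, 4, 2, 23, 3, 12])])),
  (936, (lf [(171, [24, 0, 2, 8, 0, 14]), (134, [24, 0, 5, 0, 5, 17, 5])])),
  (725, (lf [(372, [13, 5, 21, 2, 8, 0, 8]), (113, [11, 3, 4, 2, 23, 3])])),
  (1030, (lf [(170, [24, 0, 0, 23, 16, 24, 2, 0]), (400, [24, 0, 2, 8, 0, 17, 12])])),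
  (674, (lf [(2, [24, 0, 2, 17, 24, 12, 1]), (432, [24, 0, 22, 14, 4, 8, 1])])),
  (792, (lf [(560, [24, 0, 2, 12, 18, 14, 2]), (457, [24, 0, 24, 14, 17, 6])])),
  (643, (lf [(198, [24, 0, 14, 23, 6, 4, 1]), (136, [24, 0, 16, 14, 3, 22, 1])])),
  (971, (lf [(592, [24, 0, 3, 0, 5, 24, 5]), (511, [24, 0, 24, 6, 3, 16, 1])])),
  (877, (lf [(171, [24, 0, 4, 18, 5, 1, 14]), (457, [22, 6, 23, 6, 5, 24, 4])])),
  (638, (lf [(198, [24, 0, 22, 17, 6, 4, 1]), (136, [24, 0, 3, 0, 24, 4, 8])])),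
  (862, (lf [(592, [24, 0, 22, 4, 23, 18]), (511, [24, 0, 3, 12, 0, 8, 4])])),
  (1011, (lf [(511, [24, 0, 1, 24, 22, 12, 2]), (198, [24, 0, 16, 4, 12, 17, 4])])),
  (694, (lf [(136, [24, 0, 14, 5, 16, 4]), (592, [24, 0, 14, 5, 16, 4, 24])])),
  (1035, (lf [(511, [24, 0, 1, 1, 22, 3, 0]), (198, [24, 0, 0, 3, 24, 8, 2])])),
  (916, (lf [(157, [19, 3, 23, 18, 23, 23, 2]), (360, [14, 1, 20, 2, 8, 0])])),
  (814, (lf [(136, [24, 0, 20, 17, 4, 14, 4]), (592, [24, 0, 8, 4, 1, 18, 2, 0])])),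
  (819, (lf [(560, [24, 0, 1, 5, 8, 6, 0]), (134, [20, 6, 5, 23, 6, 0])])),
  (926, (lf [(171, [14, 6, 8, 1, 16, 5, 3]), (134, [24, 0, 18, 17, 5, 18, 3])])),
  (803, (lf [(560, [13, 2, 6, 2, 18, 24, 1]), (457, [24, 0, 24, 17, 14, 6])]))])

noncomputable def xk40 : CT := (nd [(940, (lf [(229, [21, 1, 12, 6]), (449, [14, 2, 12, 6, 24])])),
  (865, (lf [(335, [23, 1, 12, 6, 8]), (459, [13, 3, 12, 6, 24, 8])])),
  (680, (lf [(229, [20, 2, 12, 6, 12]), (459, [12, 2, 12, 6, 12, 24])])),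
  (963, (lf [(144, [21, 6, 12, 6, 14]), (158, [24, 0, 12, 6, 14, 24])])),
  (1069, (lf [(129, [24, 0, 12, 6, 17]), (468, [24, 0, 12, 6, 17, 24])])),
  (710, (lf [(346, [24, 0, 12, 6, 16]), (201, [24, 0, 12, 6, 16, 24])])),
  (931, (lf [(229, [24, 0, 20, 12, 6]), (449, [24, 0, 12, 6, 24, 21])])),
  (920, (lf [(335, [22, 2, 12, 6, 12, 8]), (449, [15, 4, 12, 6, 24, 12])])),
  (856, (lf [(457, [23, 6, 12, 6, 14, 8]), (239, [24, 0, 0, 8, 3, 23, 1])])),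
  (821, (lf [(335, [24, 0, 20, 12, 6, 8]), (459, [24, 0, 18, 2, 16, 23, 3])])),
  (1070, (lf [(144, [24, 0, 12, 6, 14, 12]), (239, [12, 5, 23, 1, 17, 14, 3])])),
  (923, (lf [(129, [24, 0, 12, 6, 17, 12]), (201, [24, 0, 17, 18, 8, 6, 1])])),
  (1054, (lf [(346, [24, 0, 12, 6, 16, 12]), (468, [24, 0, 6, 23, 18, 16, 1])])),
  (685, (lf [(229, [24, 0, 20, 12, 6, 12]), (459, [24, 0, 12, 6, 12, 24, 21])])),
  (1024, (lf [(307, [20, 5, 12, 6, 12, 14]), (248, [24, 0, 12, 6, 14, 23, 23])])),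
  (635, (lf [(52, [24, 0, 12, 6, 17, 14]), (51, [24, 0, 8, 23, 6, 0, 0])])),
  (887, (lf [(553, [24, 0, 12, 6, 16, 14]), (291, [24, 0, 23, 23, 6, 22])])),
  (954, (lf [(144, [24, 0, 8, 22, 0, 5]), (158, [24, 0, 16, 6, 4, 2])])),
  (647, (lf [(52, [24, 0, 12, 6, 14, 17]), (51, [13, 4, 24, 18, 14, 22, 18])])),
  (1047, (lf [(129, [24, 0, 20, 12, 6, 17]), (468, [24, 0, 17, 6, 14, 6])])),
  (794, (lf [(553, [24, 0, 18, 12, 6, 4]), (291, [14, 5, 6, 4, 18, 12, 2])])),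
  (664, (lf [(346, [24, 0, 20, 12, 6, 16]), (201, [24, 0, 16, 1, 18, 14, 0])])),
  (1013, (lf [(457, [24, 0, 12, 6, 14, 12, 8]), (158, [15, 3, 3, 12, 24, 18, 1])])),
  (986, (lf [(335, [24, 0, 18, 2, 1, 17, 3]), (449, [24, 0, 16, 14, 1, 16, 2])])),
  (663, (lf [(475, [22, 5, 4, 23, 1, 1, 5]), (513, [24, 0, 1, 1, 18, 24, 4])])),
  (873, (lf [(457, [24, 0, 1, 1, 18, 4]), (239, [24, 0, 16, 5, 0, 14, 2])])),
  (723, (lf [(52, [24, 0, 2, 1, 12, 14, 1]), (291, [24, 0, 22, 22, 6, 22, 12])])),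
  (1043, (lf [(553, [24, 0, 12, 6, 16, 14, 12]), (51, [24, 0, 8, 22, 6, 23, 3])])),
  (1067, (lf [(144, [24, 0, 6, 8, 18, 16, 2]), (239, [24, 0, 24, 17, 6, 18, 0])])),
  (933, (lf [(129, [24, 0, 20, 12, 6, 17, 12]), (201, [24, 0, 23, 14, 5, 17, 4])])),
  (1034, (lf [(346, [24, 0, 20, 12, 6, 16, 12]), (468, [24, 0, 24, 2, 12, 4, 3])])),
  (993, (lf [(54, [24, 0, 22, 22, 6, 23]), (617, [24, 0, 5, 22, 16, 4, 2])]))])

noncomputable def xk39 : CT := (nd [(1002, (lf [(25, [24, 0, 0, 4]), (573, [24, 0, 0, 4, 24])])),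
  (882, (lf [(187, [24, 0, 0, 4, 8]), (286, [24, 0, 0, 4, 24, 8])])),
  (990, (lf [(25, [24, 0, 0, 4, 12]), (286, [24, 0, 0, 4, 12, 24])])),
  (1049, (lf [(183, [24, 0, 0, 4, 14]), (158, [24, 0, 0, 4, 14, 24])])),
  (915, (lf [(40, [24, 0, 2, 23, 6]), (212, [15, 5, 2, 23, 6, 24])])),
  (697, (lf [(577, [24, 0, 0, 4, 16]), (399, [12, 6, 24, 17, 5, 1])])),
  (947, (lf [(25, [24, 0, 21, 0, 4]), (573, [24, 0, 0, 4, 24, 21])])),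
  (1011, (lf [(187, [24, 0, 0, 4, 12, 8]), (573, [24, 0, 0, 4, 24, 12])])),
  (780, (lf [(563, [24, 0, 0, 4, 14, 8]), (601, [24, 0, 14, 3, 12, 18, 3])])),
  (859, (lf [(187, [24, 0, 6, 17, 8, 3]), (286, [24, 0, 14, 6, 23, 0, 3])])),
  (824, (lf [(183, [24, 0, 0, 4, 14, 12]), (601, [24, 0, 18, 6, 5, 23])])),
  (1031, (lf [(40, [23, 3, 2, 23, 6, 12]), (399, [24, 0, 12, 17, 22, 5, 1])])),
  (989, (lf [(577, [21, 3, 0, 4, 16, 12]), (212, [24, 0, 23, 20, 4, 14, 2])])),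
  (992, (lf [(25, [24, 0, 21, 0, 4, 12]), (286, [24, 0, 0, 8, 4, 22])])),
  (766, (lf [(267, [24, 0, 0, 4, 12, 14]), (300, [24, 0, 18, 0, 16, 4, 3])])),
  (919, (lf [(373, [24, 0, 0, 14, 16, 5]), (548, [24, 0, 23, 3, 18, 23, 5])])),
  (823, (lf [(195, [24, 0, 24, 0, 8, 2]), (443, [24, 0, 5, 18, 8, 2, 22])])),
  (1041, (lf [(183, [24, 0, 21, 0, 4, 14]), (158, [24, 0, 18, 5, 14, 4, 1])])),
  (946, (lf [(373, [24, 0, 0, 4, 14, 17]), (548, [24, 0, 23, 12, 17, 6, 1])])),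
  (980, (lf [(40, [24, 0, 2, 23, 21, 6]), (212, [24, 0, 3, 1, 14, 22, 2])])),
  (844, (lf [(195, [24, 0, 17, 3, 14, 3]), (443, [24, 0, 4, 3, 18, 1, 22])])),
  (703, (lf [(577, [24, 0, 21, 0, 4, 16]), (399, [24, 0, 20, 17, 12, 5, 1])])),
  (926, (lf [(563, [24, 0, 2, 0, 17, 2, 0]), (158, [24, 0, 16, 0, 4, 12, 2])])),
  (1035, (lf [(187, [24, 0, 21, 0, 4, 12, 8]), (573, [24, 0, 3, 23, 0, 0, 0])])),
  (793, (lf [(537, [24, 0, 0, 4, 12, 14, 8]), (10, [24, 0, 18, 6, 8, 5])])),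
  (789, (lf [(563, [24, 0, 16, 1, 18, 23, 2]), (601, [24, 0, 22, 22, 2, 14, 5])])),
  (722, (lf [(267, [24, 0, 0, 4, 12, 14, 12]), (10, [24, 0, 0, 4, 24, 14])])),
  (971, (lf [(373, [24, 0, 8, 0, 0, 4, 1]), (443, [24, 0, 3, 8, 0, 23, 23])])),
  (1026, (lf [(195, [24, 0, 18, 12, 0, 18, 0]), (548, [24, 0, 24, 2, 12, 2, 18])])),
  (832, (lf [(183, [24, 0, 21, 0, 4, 14, 12]), (601, [24, 0, 24, 1, 16, 1, 1])])),
  (960, (lf [(373, [24, 0, 18, 1, 17, 6]), (443, [24, 0, 18, 1, 17, 6, 24])])),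
  (1065, (lf [(40, [24, 0, 8, 3, 16, 8, 4]), (399, [24, 0, 22, 12, 14, 5, 1])])),
  (1015, (lf [(195, [24, 0, 23, 4, 18, 8, 0]), (548, [24, 0, 2, 16, 4, 14, 5])])),
  (999, (lf [(577, [24, 0, 8, 3, 17, 4, 8]), (212, [24, 0, 23, 4, 14, 2])])),
  (777, (lf [(451, [24, 0, 0, 5, 24, 5]), (510, [24, 0, 0, 24, 20, 4])])),
  (808, (lf [(385, [23, 4, 0, 14, 16, 24, 5]), (91, [18, 5, 14, 0, 0, 16, 1])])),
  (684, (lf [(116, [21, 4, 3, 8, 0, 12]), (130, [10, 5, 0, 24, 4, 14, 16])])),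
  (809, (lf [(267, [24, 0, 1, 5, 14, 0, 0]), (300, [24, 0, 0, 22, 12, 4, 14])])),
  (645, (lf [(130, [15, 2, 3, 12, 10, 8, 0]), (385, [16, 3, 3, 8, 0, 8])])),
  (742, (lf [(91, [12, 1, 3, 12, 8, 0, 8]), (116, [8, 3, 10, 3, 8, 0])])),
  (636, (lf [(130, [24, 0, 4, 3, 23, 3]), (385, [24, 0, 21, 3, 8, 0, 8])])),
  (691, (lf [(91, [24, 0, 23, 18, 4, 0, 0]), (116, [24, 0, 20, 3, 8, 0])])),
  (650, (lf [(537, [24, 0, 1, 18, 0, 17, 4]), (300, [24, 0, 8, 3, 14, 5])])),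
  (936, (lf [(563, [24, 0, 23, 14, 4, 14, 6]), (158, [24, 0, 23, 5, 14, 1, 5])])),
  (799, (lf [(98, [24, 0, 0, 5, 24, 5, 8]), (131, [24, 0, 3, 22, 1, 4, 3])])),
  (730, (lf [(537, [24, 0, 3, 8, 0, 16, 12]), (10, [24, 0, 3, 17, 24, 12, 1])])),
  (912, (lf [(451, [24, 0, 0, 24, 22, 0, 2]), (131, [24, 0, 0, 4, 14, 24, 14])])),
  (803, (lf [(267, [24, 0, 0, 2, 17, 18, 1]), (10, [24, 0, 3, 24, 17, 1])])),
  (715, (lf [(130, [24, 0, 14, 12, 8, 6, 1]), (116, [24, 0, 5, 12, 5, 0, 0])])),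
  (692, (lf [(91, [24, 0, 24, 3, 22, 10, 3]), (385, [24, 0, 8, 3, 14, 5, 16])])),
  (801, (lf [(98, [24, 0, 0, 12, 0, 2]), (510, [24, 0, 0, 23, 0, 2])])),
  (987, (lf [(175, [24, 0, 22, 22, 2, 17, 4]), (499, [10, 2, 20, 12, 18, 6, 5])])),
  (783, (lf [(412, [24, 0, 5, 12, 14, 22, 3]), (246, [18, 2, 1, 14, 0, 18, 3])])),
  (760, (lf [(451, [24, 0, 0, 22, 22, 4]), (510, [24, 0, 0, 24, 4])])),
  (967, (lf [(175, [24, 0, 14, 12, 4, 1, 2]), (499, [24, 0, 12, 18, 6, 5])])),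
  (794, (lf [(412, [24, 0, 6, 3, 18, 8, 1]), (246, [24, 0, 5, 2, 23, 6, 0])])),
  (656, (lf [(246, [24, 0, 12, 2, 22, 12, 6]), (175, [24, 0, 20, 3, 8, 0, 14])])),
  (769, (lf [(499, [24, 0, 2, 24, 17, 14, 6]), (412, [24, 0, 6, 3, 18, 24, 1])])),
  (653, (lf [(246, [24, 0, 0, 5, 24, 5, 17]), (175, [8, 4, 18, 16, 5, 18, 5])])),
  (686, (lf [(300, [24, 0, 4, 12, 16, 0, 3]), (537, [24, 0, 3, 8, 0, 17, 8])])),
  (738, (lf [(499, [24, 0, 8, 3, 17, 24, 4]), (412, [16, 4, 8, 4, 14, 8, 3])])),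
  (788, (lf [(98, [24, 0, 17, 4, 18, 16, 2]), (131, [24, 0, 0, 24, 4, 8])])),
  (982, (lf [(451, [24, 0, 0, 8, 4, 23, 8]), (131, [24, 0, 2, 14, 5, 16, 4])])),
  (694, (lf [(98, [24, 0, 21, 0, 12, 0, 2]), (510, [24, 0, 0, 23, 21, 0, 2])]))])

noncomputable def xk38 : CT := (nd [(632, (lf [(70, [1, 1, 0, 5]), (404, [24, 0, 0, 5, 24])])),
  (839, (lf [(43, [0, 1, 0, 5, 8]), (436, [24, 0, 0, 5, 24, 8])])),
  (846, (lf [(70, [24, 0, 0, 5, 12]), (436, [6, 1, 0, 22, 3, 1])])),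
  (703, (lf [(19, [1, 6, 0, 5, 14]), (199, [24, 0, 0, 5, 14, 24])])),
  (1065, (lf [(470, [24, 0, 0, 5, 17]), (51, [24, 0, 6, 23, 3, 12])])),
  (936, (lf [(563, [24, 0, 0, 5, 16]), (177, [24, 0, 22, 8, 6, 22])])),
  (663, (lf [(70, [24, 0, 21, 0, 5]), (404, [24, 0, 0, 22, 22, 5])])),
  (817, (lf [(43, [24, 0, 0, 5, 12, 8]), (404, [7, 1, 0, 5, 24, 12])])),
  (730, (lf [(462, [0, 6, 0, 5, 14, 8]), (420, [24, 0, 1, 2, 14, 24, 3])])),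
  (842, (lf [(43, [24, 0, 21, 0, 5, 8]), (436, [24, 0, 2, 24, 16, 6, 3])])),
  (987, (lf [(19, [24, 0, 0, 5, 14, 12]), (420, [6, 6, 0, 22, 3, 1, 14])])),
  (899, (lf [(470, [24, 0, 0, 5, 17, 12]), (177, [24, 0, 6, 23, 3, 8])])),
  (718, (lf [(563, [24, 0, 0, 5, 16, 12]), (51, [24, 0, 6, 23, 10, 3])])),
  (851, (lf [(70, [24, 0, 21, 0, 5, 12]), (436, [24, 0, 0, 22, 21, 3, 1])])),
  (740, (lf [(254, [24, 0, 0, 5, 12, 14]), (188, [7, 1, 17, 2, 14, 16, 3])])),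
  (724, (lf [(390, [24, 0, 0, 5, 17, 14]), (513, [24, 0, 14, 22, 6, 14, 6])])),
  (1014, (lf [(96, [24, 0, 0, 5, 16, 14]), (137, [24, 0, 12, 0, 14, 16, 4])])),
  (669, (lf [(19, [24, 0, 23, 12, 8, 6]), (199, [24, 0, 5, 2, 16, 3])])),
  (668, (lf [(390, [24, 0, 0, 5, 14, 17]), (513, [24, 0, 3, 17, 23, 1, 14])])),
  (951, (lf [(470, [24, 0, 21, 0, 5, 17]), (51, [24, 0, 8, 6, 23, 12, 3])])),
  (1051, (lf [(96, [24, 0, 0, 17, 14, 4]), (137, [24, 0, 0, 17, 12, 14, 4])])),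
  (998, (lf [(563, [24, 0, 21, 0, 5, 16]), (177, [24, 0, 20, 0, 5, 12, 16])])),
  (1037, (lf [(462, [24, 0, 1, 17, 1, 4]), (199, [7, 6, 6, 18, 23, 12, 1])])),
  (972, (lf [(43, [24, 0, 0, 2, 0, 22, 0]), (404, [24, 0, 12, 0, 12, 3, 1])])),
  (989, (lf [(355, [24, 0, 1, 16, 24, 2]), (236, [6, 1, 8, 6, 0, 3])])),
  (723, (lf [(462, [24, 0, 23, 12, 8, 6, 8]), (420, [24, 0, 2, 8, 2, 17, 4])])),
  (769, (lf [(254, [0, 1, 18, 12, 17, 23, 2]), (236, [24, 0, 0, 5, 24, 14])])),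
  (982, (lf [(390, [24, 0, 16, 4, 17, 22, 4]), (137, [24, 0, 5, 8, 0, 18, 3])])),
  (1011, (lf [(96, [24, 0, 0, 5, 16, 14, 12]), (513, [24, 0, 16, 4, 17, 12, 4])])),
  (967, (lf [(19, [24, 0, 6, 8, 22, 18, 5]), (420, [24, 0, 17, 12, 3, 23, 2])])),
  (905, (lf [(390, [24, 0, 0, 5, 14, 17, 12]), (137, [24, 0, 6, 5, 18, 14, 2])])),
  (783, (lf [(470, [24, 0, 6, 5, 8, 0]), (177, [24, 0, 17, 24, 1, 8, 3])])),
  (1035, (lf [(96, [24, 0, 18, 8, 1, 24, 1]), (513, [24, 0, 6, 23, 21, 3, 14])])),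
  (780, (lf [(563, [24, 0, 6, 18, 5, 14, 6]), (51, [24, 0, 6, 23, 21, 3])])),
  (900, (lf [(554, [24, 0, 0, 24, 5]), (473, [6, 6, 0, 5, 23, 23])])),
  (1076, (lf [(466, [24, 0, 23, 0, 4, 24, 2]), (7, [24, 0, 16, 4, 17, 0, 2])])),
  (901, (lf [(217, [24, 0, 22, 0, 2, 18]), (341, [24, 0, 3, 22, 3, 18])])),
  (745, (lf [(254, [24, 0, 12, 6, 18, 1]), (188, [24, 0, 17, 2, 16, 14, 3])])),
  (992, (lf [(341, [24, 0, 0, 12, 18, 16, 6]), (466, [24, 0, 17, 6, 23, 4, 1])])),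
  (814, (lf [(7, [24, 0, 0, 5, 12, 16, 14]), (217, [24, 0, 5, 18, 10, 8, 1])])),
  (935, (lf [(341, [24, 0, 12, 5, 0, 12, 3]), (466, [24, 0, 23, 5, 3, 8, 3])])),
  (667, (lf [(7, [24, 0, 0, 5, 12, 14, 16]), (217, [24, 0, 20, 5, 18, 8, 1])])),
  (729, (lf [(355, [1, 1, 1, 16, 24, 2, 12]), (188, [24, 0, 6, 4, 23, 0, 0])])),
  (1046, (lf [(462, [24, 0, 21, 1, 17, 1, 4]), (199, [24, 0, 16, 2, 18, 22, 3])])),
  (795, (lf [(179, [24, 0, 0, 24, 5, 8]), (245, [7, 6, 16, 4, 14, 3, 1])])),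
  (999, (lf [(355, [24, 0, 5, 18, 16, 24, 0]), (236, [24, 0, 21, 8, 6, 0, 3])])),
  (1066, (lf [(554, [1, 6, 0, 24, 5, 12]), (245, [24, 0, 0, 24, 22, 3, 1])])),
  (821, (lf [(254, [24, 0, 18, 22, 14, 24, 2]), (236, [24, 0, 22, 16, 18, 3, 1])])),
  (835, (lf [(341, [24, 0, 0, 14, 12, 17, 4]), (217, [24, 0, 4, 24, 12, 18])])),
  (1032, (lf [(7, [24, 0, 0, 8, 18, 1, 1]), (466, [24, 0, 6, 5, 8, 0, 14])])),
  (1039, (lf [(179, [0, 6, 0, 4, 12, 0, 2]), (473, [24, 0, 23, 1, 5, 2, 1])])),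
  (708, (lf [(334, [24, 0, 24, 23, 0, 18, 6]), (300, [24, 0, 6, 18, 1, 22])])),
  (915, (lf [(400, [24, 0, 8, 22, 6, 23]), (604, [24, 0, 0, 24, 5, 17, 12])])),
  (889, (lf [(554, [24, 0, 0, 24, 21, 5]), (473, [24, 0, 0, 4, 24, 4])])),
  (879, (lf [(334, [24, 0, 22, 18, 17, 5, 0]), (300, [24, 0, 4, 1, 23, 18, 16])])),
  (980, (lf [(400, [24, 0, 1, 16, 23, 4, 0]), (604, [24, 0, 3, 12, 17, 23, 1])])),
  (656, (lf [(604, [24, 0, 23, 6, 2, 12, 0]), (334, [24, 0, 8, 22, 14, 4, 1])])),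
  (727, (lf [(300, [24, 0, 23, 24, 3, 17, 0]), (400, [24, 0, 23, 6, 2, 0])])),
  (653, (lf [(604, [24, 0, 0, 24, 5, 17]), (334, [24, 0, 17, 23, 10, 4, 1])])),
  (792, (lf [(188, [24, 0, 6, 12, 8, 2, 1]), (355, [24, 0, 0, 8, 5, 17, 22])])),
  (650, (lf [(300, [24, 0, 0, 24, 5, 16]), (400, [24, 0, 23, 20, 6, 2, 0])])),
  (784, (lf [(179, [24, 0, 0, 22, 12, 8, 5]), (245, [24, 0, 22, 4, 22, 18, 3])])),
  (1071, (lf [(554, [24, 0, 14, 5, 22, 17, 5]), (245, [24, 0, 22, 6, 16, 22, 4])])),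
  (1047, (lf [(179, [24, 0, 0, 24, 23, 3, 1]), (473, [24, 0, 0, 12, 8, 3, 1])]))])

noncomputable def xk37 : CT := (nd [(808, (lf [(279, [24, 0, 1, 5]), (246, [24, 0, 1, 5, 24])])),
  (930, (lf [(196, [24, 0, 1, 5, 8]), (248, [24, 0, 1, 5, 24, 8])])),
  (768, (lf [(279, [24, 0, 1, 5, 12]), (248, [24, 0, 1, 22, 3, 1])])),
  (986, (lf [(385, [24, 0, 1, 5, 14]), (43, [24, 0, 1, 5, 14, 24])])),
  (695, (lf [(511, [24, 0, 1, 5, 17]), (45, [24, 0, 1, 5, 17, 24])])),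
  (730, (lf [(580, [24, 0, 1, 5, 16]), (87, [24, 0, 0, 18, 17, 23])])),
  (692, (lf [(279, [24, 0, 21, 1, 5]), (246, [24, 0, 1, 22, 22, 5])])),
  (881, (lf [(196, [24, 0, 12, 8, 4, 0]), (246, [24, 0, 1, 5, 24, 12])])),
  (924, (lf [(172, [24, 0, 1, 5, 14, 8]), (553, [24, 0, 0, 18, 23, 16])])),
  (1024, (lf [(196, [24, 0, 21, 1, 5, 8]), (248, [24, 0, 18, 23, 20, 5, 3])])),
  (978, (lf [(385, [24, 0, 6, 18, 17, 6]), (553, [24, 0, 24, 4, 14, 0, 3])])),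
  (951, (lf [(511, [24, 0, 1, 5, 17, 12]), (87, [24, 0, 17, 23, 18, 4])])),
  (909, (lf [(580, [24, 0, 1, 5, 16, 12]), (45, [24, 0, 8, 23, 6, 8, 3])])),
  (664, (lf [(279, [24, 0, 21, 1, 5, 12]), (248, [24, 0, 22, 4, 22, 10, 0])])),
  (1061, (lf [(299, [24, 0, 1, 5, 12, 14]), (327, [24, 0, 24, 18, 4, 0, 16])])),
  (862, (lf [(313, [24, 0, 1, 5, 17, 14]), (606, [24, 0, 23, 17, 0, 17, 4])])),
  (815, (lf [(177, [24, 0, 17, 4, 17, 2]), (124, [24, 0, 1, 24, 14, 17, 4])])),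
  (920, (lf [(385, [24, 0, 21, 1, 5, 14]), (43, [13, 1, 2, 1, 5, 16, 3])])),
  (971, (lf [(313, [24, 0, 1, 5, 14, 17]), (606, [24, 0, 6, 5, 14, 24, 0])])),
  (914, (lf [(511, [24, 0, 21, 1, 5, 17]), (45, [24, 0, 6, 1, 1, 8, 1])])),
  (671, (lf [(177, [24, 0, 14, 5, 14, 2]), (124, [24, 0, 1, 17, 12, 14, 4])])),
  (723, (lf [(580, [24, 0, 21, 1, 5, 16]), (87, [24, 0, 14, 5, 18, 8, 0])])),
  (635, (lf [(172, [24, 0, 3, 22, 17, 18, 0]), (43, [24, 0, 3, 16, 8, 0, 0])])),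
  (858, (lf [(196, [24, 0, 0, 2, 22, 0]), (246, [24, 0, 3, 24, 1, 4, 1])])),
  (868, (lf [(115, [24, 0, 8, 2, 17, 2, 1]), (377, [24, 0, 1, 5, 24, 14, 12])])),
  (877, (lf [(172, [24, 0, 22, 2, 14, 0, 3]), (553, [14, 3, 0, 18, 14, 22])])),
  (686, (lf [(299, [24, 0, 21, 4, 14, 2, 1]), (377, [24, 0, 1, 5, 24, 14])])),
  (944, (lf [(313, [24, 0, 0, 18, 23, 21, 8]), (124, [24, 0, 14, 3, 18, 6, 1])])),
  (694, (lf [(177, [24, 0, 0, 18, 23, 20]), (606, [24, 0, 8, 23, 4, 3, 0])])),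
  (1044, (lf [(385, [22, 3, 21, 6, 18, 17, 6]), (553, [24, 0, 23, 6, 3, 18, 0])])),
  (845, (lf [(313, [24, 0, 0, 18, 8, 23]), (124, [24, 0, 0, 18, 24, 23])])),
  (1038, (lf [(511, [24, 0, 6, 8, 18, 3, 1]), (87, [24, 0, 22, 8, 18, 14, 4])])),
  (814, (lf [(177, [24, 0, 0, 18, 23]), (606, [24, 0, 0, 18, 23, 24])])),
  (827, (lf [(580, [24, 0, 24, 0, 2, 16, 1]), (45, [24, 0, 6, 1, 1, 24, 1])])),
  (810, (lf [(616, [24, 0, 1, 24, 5]), (422, [24, 0, 1, 5, 23, 23])])),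
  (706, (lf [(318, [24, 0, 4, 3, 22, 5, 0]), (72, [24, 0, 22, 6, 16, 3, 0])])),
  (806, (lf [(218, [24, 0, 23, 18, 23, 18, 3]), (127, [24, 0, 24, 21, 18, 4, 0])])),
  (1064, (lf [(299, [24, 0, 22, 17, 0, 16, 6]), (327, [11, 1, 22, 24, 18, 6, 4])])),
  (949, (lf [(127, [24, 0, 0, 18, 22, 20]), (318, [24, 0, 0, 18, 22, 24, 20])])),
  (681, (lf [(72, [24, 0, 24, 0, 22, 4, 3]), (218, [24, 0, 0, 18, 24, 22, 21])])),
  (958, (lf [(127, [24, 0, 0, 18, 22]), (318, [24, 0, 0, 18, 22, 24])])),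
  (652, (lf [(72, [24, 0, 0, 18, 8, 22]), (218, [24, 0, 0, 18, 24, 22, 10])])),
  (917, (lf [(115, [24, 0, 3, 16, 22, 12, 2]), (327, [24, 0, 18, 5, 22, 10, 6])])),
  (660, (lf [(172, [20, 3, 3, 14, 23, 18, 0]), (43, [24, 0, 20, 3, 17, 0, 0])])),
  (651, (lf [(139, [24, 0, 1, 24, 5, 8]), (439, [24, 0, 16, 2, 17, 24, 1])])),
  (696, (lf [(115, [24, 0, 10, 6, 5, 1, 2]), (377, [19, 1, 1, 5, 23, 17, 22])])),
  (735, (lf [(616, [24, 0, 1, 24, 5, 12]), (439, [24, 0, 16, 2, 16, 1])])),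
  (650, (lf [(299, [9, 4, 14, 6, 17, 2, 0]), (377, [24, 0, 1, 22, 22, 5, 14])])),
  (888, (lf [(127, [24, 0, 0, 18, 22, 12]), (218, [24, 0, 0, 18, 24, 22, 12])])),
  (864, (lf [(72, [24, 0, 22, 0, 4, 8, 0]), (318, [24, 0, 23, 12, 1, 4])])),
  (799, (lf [(139, [24, 0, 1, 4, 12, 0, 2]), (422, [24, 0, 22, 5, 18, 2, 0])])),
  (959, (lf [(170, [24, 0, 14, 2, 18, 23, 0]), (160, [24, 0, 22, 24, 12, 18, 6])])),
  (719, (lf [(603, [24, 0, 0, 18, 17, 22]), (608, [24, 0, 1, 24, 5, 17, 12])])),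
  (901, (lf [(616, [22, 4, 12, 18, 12, 3]), (422, [19, 6, 1, 4, 24, 4])])),
  (843, (lf [(170, [24, 0, 24, 5, 17, 4, 2]), (160, [24, 0, 24, 0, 17, 1, 5])])),
  (802, (lf [(603, [24, 0, 0, 18, 23, 14]), (608, [24, 0, 5, 14, 6, 5, 16])])),
  (746, (lf [(608, [24, 0, 18, 16, 22, 5, 3]), (170, [24, 0, 18, 0, 17, 5, 0, 0])])),
  (908, (lf [(160, [24, 0, 20, 17, 0, 5, 0]), (603, [24, 0, 16, 2, 24, 21, 0])])),
  (741, (lf [(608, [24, 0, 1, 24, 5, 17]), (170, [24, 0, 0, 14, 1, 1, 5])])),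
  (1057, (lf [(327, [24, 0, 16, 5, 14, 6, 2]), (115, [17, 4, 3, 24, 22, 14, 2])])),
  (880, (lf [(160, [24, 0, 1, 24, 5, 16]), (603, [24, 0, 16, 2, 24, 10, 0])])),
  (700, (lf [(139, [20, 4, 3, 18, 23, 18, 0]), (439, [11, 6, 5, 14, 6, 5])])),
  (885, (lf [(616, [17, 3, 17, 14, 1, 1]), (439, [13, 6, 21, 16, 2, 16, 1])])),
  (788, (lf [(139, [9, 3, 1, 24, 23, 3, 1]), (422, [14, 4, 1, 12, 8, 3, 1])]))])

noncomputable def xk36 : CT := (nd [(678, (lf [(533, [24, 0, 23, 2]), (32, [24, 0, 23, 2, 24])])),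
  (992, (lf [(89, [24, 0, 23, 2, 8]), (532, [24, 0, 23, 2, 24, 8])])),
  (671, (lf [(533, [24, 0, 23, 2, 12]), (532, [24, 0, 23, 2, 12, 24])])),
  (674, (lf [(123, [24, 0, 23, 2, 14]), (23, [24, 0, 23, 2, 14, 24])])),
  (999, (lf [(490, [24, 0, 23, 2, 17]), (549, [24, 0, 23, 2, 17, 24])])),
  (707, (lf [(179, [24, 0, 23, 2, 16]), (77, [24, 0, 23, 2, 16, 24])])),
  (684, (lf [(533, [24, 0, 23, 21, 2]), (32, [24, 0, 23, 2, 24, 21])])),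
  (757, (lf [(89, [24, 0, 23, 2, 12, 8]), (32, [24, 0, 23, 2, 24, 12])])),
  (1050, (lf [(456, [24, 0, 23, 2, 14, 8]), (477, [24, 0, 22, 21, 18, 6])])),
  (935, (lf [(89, [24, 0, 23, 21, 2, 8]), (532, [24, 0, 14, 22, 18, 17, 2])])),
  (696, (lf [(123, [24, 0, 23, 2, 14, 12]), (477, [24, 0, 8, 4, 14, 1, 2])])),
  (1020, (lf [(490, [24, 0, 23, 2, 17, 12]), (77, [24, 0, 6, 18, 24, 2, 1])])),
  (738, (lf [(179, [24, 0, 23, 2, 16, 12]), (549, [24, 0, 14, 2, 16, 14, 4])])),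
  (756, (lf [(533, [24, 0, 23, 21, 2, 12]), (532, [24, 0, 23, 1, 23, 4])])),
  (1059, (lf [(594, [24, 0, 23, 2, 12, 14]), (100, [24, 0, 3, 8, 6, 1])])),
  (985, (lf [(355, [24, 0, 23, 2, 17, 14]), (237, [24, 0, 18, 2, 22, 22, 2])])),
  (784, (lf [(413, [24, 0, 23, 2, 16, 14]), (306, [24, 0, 8, 1, 18, 4, 2])])),
  (677, (lf [(123, [24, 0, 23, 21, 2, 14]), (23, [24, 0, 16, 23, 3, 18, 1])])),
  (1013, (lf [(355, [24, 0, 23, 2, 14, 17]), (237, [16, 1, 5, 1, 3, 8, 1])])),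
  (1021, (lf [(490, [24, 0, 23, 21, 2, 17]), (549, [24, 0, 14, 0, 22, 18, 0])])),
  (806, (lf [(413, [24, 0, 23, 2, 14, 16]), (306, [8, 1, 20, 12, 2, 18, 3])])),
  (841, (lf [(179, [24, 0, 23, 21, 2, 16]), (77, [24, 0, 8, 2, 12, 18, 14])])),
  (1057, (lf [(456, [24, 0, 18, 14, 2, 18, 2]), (23, [24, 0, 10, 6, 0, 4, 2])])),
  (866, (lf [(89, [24, 0, 12, 6, 23, 17, 1]), (32, [24, 0, 4, 3, 14, 16, 1])])),
  (704, (lf [(69, [24, 0, 3, 16, 6, 17, 4]), (524, [24, 0, 14, 5, 2, 23])])),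
  (847, (lf [(456, [24, 0, 5, 1, 2, 14, 2]), (477, [24, 0, 22, 18, 10, 6])])),
  (818, (lf [(594, [24, 0, 4, 22, 24, 17, 1]), (524, [24, 0, 23, 2, 24, 14])])),
  (1072, (lf [(355, [24, 0, 22, 18, 6, 16]), (306, [24, 0, 12, 2, 18, 3, 12])])),
  (811, (lf [(413, [24, 0, 22, 18, 6, 17]), (237, [24, 0, 12, 5, 3, 18, 0])])),
  (772, (lf [(123, [24, 0, 12, 0, 4, 24, 6]), (477, [24, 0, 4, 1, 17, 23, 0])])),
  (1066, (lf [(355, [10, 4, 23, 2, 14, 17, 12]), (306, [24, 0, 16, 6, 5, 3, 0])])),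
  (1029, (lf [(490, [24, 0, 23, 21, 2, 17, 12]), (77, [24, 0, 16, 4, 8, 3])])),
  (706, (lf [(413, [18, 4, 14, 6, 17, 14, 1]), (237, [24, 0, 5, 1, 3, 24, 1])])),
  (769, (lf [(179, [24, 0, 1, 3, 22, 17, 0]), (549, [24, 0, 12, 6, 24, 23, 0])])),
  (1002, (lf [(273, [24, 0, 12, 8, 0, 12, 0]), (328, [24, 0, 23, 2, 23, 23])])),
  (659, (lf [(70, [24, 0, 23, 2, 17, 12, 14]), (11, [24, 0, 8, 4, 24, 0])])),
  (721, (lf [(575, [24, 0, 4, 22, 20, 8, 0]), (518, [24, 0, 0, 18, 24, 1])])),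
  (1063, (lf [(594, [24, 0, 8, 4, 16, 1]), (100, [24, 0, 17, 1, 4, 1])])),
  (1075, (lf [(518, [24, 0, 0, 18, 10, 8, 1]), (70, [24, 0, 1, 16, 6, 2, 12, 0])])),
  (893, (lf [(11, [24, 0, 1, 16, 6, 2, 0]), (575, [24, 0, 17, 12, 6, 18, 22])])),
  (1073, (lf [(518, [24, 0, 20, 0, 18, 8, 1]), (70, [21, 5, 4, 17, 2, 14, 1])])),
  (906, (lf [(11, [24, 0, 5, 2, 24, 5, 1]), (575, [23, 5, 3, 18, 24, 16, 6])])),
  (1065, (lf [(69, [24, 0, 16, 0, 23, 1, 2]), (100, [24, 0, 6, 8, 0, 4, 2])])),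
  (917, (lf [(456, [24, 0, 12, 4, 16, 5, 0]), (23, [24, 0, 14, 3, 17, 6, 0])])),
  (971, (lf [(16, [24, 0, 10, 4, 0, 0, 0]), (620, [24, 0, 12, 10, 8, 0, 0])])),
  (754, (lf [(69, [24, 0, 8, 4, 16, 1, 8]), (524, [24, 0, 24, 0, 16, 12, 3])])),
  (733, (lf [(273, [24, 0, 24, 23, 1, 4]), (620, [24, 0, 18, 17, 6, 18, 4])])),
  (959, (lf [(594, [24, 0, 0, 18, 16, 24, 0]), (524, [24, 0, 6, 22, 4, 12, 4])])),
  (714, (lf [(518, [15, 6, 1, 18, 1, 1, 1]), (575, [24, 0, 4, 22, 8, 0])])),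
  (642, (lf [(11, [12, 3, 4, 22, 12, 8, 0]), (70, [24, 0, 4, 8, 22, 0, 8])])),
  (759, (lf [(16, [24, 0, 23, 1, 23, 24, 4]), (328, [24, 0, 23, 1, 22, 4])])),
  (633, (lf [(39, [24, 0, 8, 0, 16, 8, 1]), (226, [24, 0, 4, 16, 23, 18, 2])])),
  (943, (lf [(19, [24, 0, 0, 17, 0, 23, 1]), (284, [24, 0, 18, 16, 23, 0, 0])])),
  (947, (lf [(273, [24, 0, 17, 2, 23, 17, 4]), (328, [24, 0, 23, 5, 2, 24, 4])])),
  (644, (lf [(39, [10, 3, 20, 8, 0, 17, 1]), (226, [15, 1, 4, 22, 18, 14, 2])])),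
  (1033, (lf [(19, [18, 3, 6, 8, 1, 8, 0]), (284, [12, 4, 18, 22, 14, 0, 0])])),
  (878, (lf [(284, [16, 6, 4, 17, 4, 17, 6]), (39, [23, 2, 0, 24, 6, 4, 0, 0])])),
  (993, (lf [(226, [8, 6, 1, 24, 17, 6, 17]), (19, [21, 2, 18, 2, 18, 6])])),
  (751, (lf [(284, [24, 0, 4, 0, 0, 0, 16]), (39, [24, 0, 1, 1, 18, 14, 0])])),
  (1031, (lf [(100, [24, 0, 14, 2, 22, 12, 5]), (69, [24, 0, 6, 22, 4, 22, 4])])),
  (981, (lf [(226, [24, 0, 5, 14, 5, 1, 4]), (19, [24, 0, 20, 18, 2, 18, 6])])),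
  (960, (lf [(16, [24, 0, 1, 17, 12, 6]), (620, [24, 0, 4, 23, 3, 0])])),
  (649, (lf [(273, [24, 0, 16, 1, 17, 5, 2]), (620, [24, 0, 12, 18, 6, 17, 5])])),
  (872, (lf [(16, [24, 0, 1, 24, 17, 6, 12]), (328, [24, 0, 22, 18, 6, 14])]))])

noncomputable def xk35 : CT := (.node 698 [] [] (nat_lit 0x0) (lf [(163, [24, 0, 17, 2]), (489, [24, 0, 17, 2, 24])]) (.node 1020 [[18]] [(163, 0)] (nat_lit 0x80000000000000000000000000000000000000000) (lf [(163, [24, 0, 17, 2, 12])]) (.node 895 [] [] (nat_lit 0x0) (lf [(349, [24, 0, 17, 2, 14]), (417, [24, 0, 17, 2, 14, 24])]) (.node 688 [] [] (nat_lit 0x0) (lf [(556, [24, 0, 17, 2, 17]), (330, [24, 0, 17, 2, 17, 24])]) (.node 839 [] [] (nat_lit 0x0) (lf [(411, [24, 0, 17, 2, 16]), (137, [24, 0, 0, 18, 8, 2])]) (.node 762 [] [] (nat_lit 0x0) (lf [(163, [24, 0, 20, 17, 2]), (489, [24, 0, 17,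 2, 24, 21])]) (.node 868 [[18]] [(281, 0)] (nat_lit 0x20000000000000000000000000000000000000000000000000000000000000000000000) (lf [(281, [24, 0, 17, 2, 12, 8])]) (.node 1012 [] [] (nat_lit 0x0) (lf [(471, [24, 0, 17, 2, 14, 8]), (241, [24, 0, 8, 22, 0, 8, 0])]) (.node 946 [] [] (nat_lit 0x0) (lf [(349, [24, 0, 12, 18, 1, 3]), (241, [24, 0, 0, 4, 12, 0, 4])]) (.node 1019 [[18]] [(163, 0)] (nat_lit 0x80000000000000000000000000000000000000000) (lf [(163, [24, 0, 20, 17, 2, 12])]) (.node 1059 [] [] (nat_lit 0x0) (lf [(581, [24, 0, 17, 2, 17, 14]), (17, [24, 0, 24, 8, 6, 2, 18])]) (.node 841 [] [] (nat_lit 0x0) (lf [(94, [24, 0, 17, 2, 16, 14]), (607, [24, 0, 17, 2, 16, 14, 24])]) (.node 906 [] [] (nat_lit 0x0) (lf [(349, [24, 0, 20, 17, 2, 14]), (417, [5, 4, 0, 0, 8, 18, 2])]) (.node 1074 [] [] (nat_lit 0x0) (lf [(581, [24, 0, 5,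 16, 1, 5]), (17, [24, 0, 24, 18, 22, 18, 6])]) (.node 874 [] [] (nat_lit 0x0) (lf [(556, [24, 0, 16, 6, 5, 0]), (330, [24, 0, 21, 17, 2, 12, 17])]) (.node 707 [] [] (nat_lit 0x0) (lf [(94, [24, 0, 17, 2, 14, 16]), (607, [24, 0, 2, 18, 23, 17, 4])]) (.node 753 [] [] (nat_lit 0x0) (lf [(411, [24, 0, 20, 17, 2, 16]), (137, [24, 0, 16, 6, 5, 12, 0])]) (.node 891 [] [] (nat_lit 0x0) (lf [(471, [24, 0, 24, 6, 4, 16, 4]), (417, [24, 0, 23, 3, 17, 6, 0])]) (.node 748 [[18]] [(281, 0)] (nat_lit 0x20000000000000000000000000000000000000000000000000000000000000000000000) (lf [(281, [24, 0, 20, 17, 2, 12, 8])]) (.node 1071 [] [] (nat_lit 0x0) (lf [(471, [24, 0, 20, 17, 2, 14, 8]), (241, [4, 4, 22, 22, 16, 18, 6])]) (.node 633 [] [] (nat_lit 0x0) (lf [(581, [24, 0, 24, 14, 2, 18, 2]), (607, [24, 0, 20, 5, 18, 16, 4])]) (.node 847 [] [] (nat_lit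 0x0) (lf [(94, [24, 0, 22, 18, 8, 6]), (17, [24, 0, 22, 18, 8, 6, 24])]) (.node 919 [] [] (nat_lit 0x0) (lf [(349, [3, 4, 20, 12, 18, 1, 3]), (241, [24, 0, 16, 2, 17, 23, 2])]) (.node 657 [] [] (nat_lit 0x0) (lf [(581, [24, 0, 5, 16, 1, 5, 12]), (607, [24, 0, 6, 23, 8, 5, 1])]) (.node 1050 [] [] (nat_lit 0x0) (lf [(94, [24, 0, 5, 17, 12, 4, 0]), (17, [24, 0, 1, 23, 6, 18, 2])]) (.node 968 [] [] (nat_lit 0x0) (lf [(284, [24, 0, 4, 0, 17, 1, 4]), (416, [24, 0, 17, 2, 23, 23])]) (.node 812 [] [] (nat_lit 0x0) (lf [(471, [2, 4, 12, 4, 2, 18]), (417, [24, 0, 23, 2, 8, 5])]) (.node 1033 [[10, 18]] [(284, 0)] (nat_lit 0x100000000000000000000000000000000000000000000000000000000000000000000000) (lf [(284, [24, 0, 16, 24, 1, 4])]) (.node 653 [[10, 18]] [(127, 0)] (nat_lit 0x80000000000000000000000000000000) (lf [(127, [24, 0, 17, 1, 23,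 24, 4])]) (.node 838 [] [] (nat_lit 0x0) (lf [(86, [24, 0, 18, 4, 16, 6, 2]), (628, [24, 0, 17, 2, 22, 22, 16])]) (.node 734 [] [] (nat_lit 0x0) (lf [(457, [24, 0, 22, 18, 8, 6, 14]), (5, [24, 0, 2, 8, 2, 18])]) (.node 840 [] [] (nat_lit 0x0) (lf [(284, [3, 3, 2, 18, 23, 14, 5]), (416, [2, 3, 17, 5, 2, 24, 4])]) (.node 923 [] [] (nat_lit 0x0) (lf [(86, [24, 0, 1, 24, 22, 12, 18]), (628, [24, 0, 14, 6, 14, 17, 2])]) (.node 670 [] [] (nat_lit 0x0) (lf [(457, [24, 0, 23, 21, 4, 18, 5, 0]), (5, [24, 0, 14, 24, 4, 18, 16])]) (.node 943 [[10, 18]] [(284, 0)] (nat_lit 0x100000000000000000000000000000000000000000000000000000000000000000000000) (lf [(284, [5, 3, 0, 0, 14, 0])]) (.node 677 [[10, 18]] [(127, 0)] (nat_lit 0x80000000000000000000000000000000) (lf [(127, [4, 3, 24, 2, 18, 10, 6])]) .nil))))))))))))))))))))))))))))))))))))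

noncomputable def xk34 : CT := (nd [(733, (lf [(6, [24, 0, 12, 2]), (405, [24, 0, 12, 2, 24])])),
  (957, (lf [(508, [24, 0, 12, 2, 8]), (526, [24, 0, 12, 2, 24, 8])])),
  (953, (lf [(6, [24, 0, 12, 2, 12]), (526, [24, 0, 12, 2, 12, 24])])),
  (781, (lf [(376, [24, 0, 12, 2, 14]), (321, [24, 0, 12, 2, 14, 24])])),
  (892, (lf [(522, [24, 0, 12, 2, 17]), (393, [24, 0, 12, 2, 17, 24])])),
  (1040, (lf [(266, [24, 0, 12, 2, 16]), (141, [24, 0, 12, 2, 16, 24])])),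
  (649, (lf [(6, [24, 0, 21, 12, 2]), (405, [24, 0, 12, 2, 24, 21])])),
  (700, (lf [(508, [24, 0, 12, 2, 12, 8]), (405, [24, 0, 12, 2, 24, 12])])),
  (1050, (lf [(500, [24, 0, 12, 2, 14, 8]), (281, [24, 0, 1, 22, 4, 16, 5])])),
  (1077, (lf [(508, [24, 0, 21, 12, 2, 8]), (526, [24, 0, 14, 0, 16, 4, 0])])),
  (748, (lf [(376, [24, 0, 12, 2, 14, 12]), (281, [24, 0, 20, 14, 6, 14, 0])])),
  (729, (lf [(522, [24, 0, 12, 2, 17, 12]), (141, [24, 0, 6, 22, 0, 5, 0])])),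
  (887, (lf [(266, [24, 0, 12, 2, 16, 12]), (393, [24, 0, 8, 4, 3, 23, 6])])),
  (1076, (lf [(6, [24, 0, 3, 12, 3]), (526, [24, 0, 12, 1, 23, 4])])),
  (961, (lf [(594, [24, 0, 12, 2, 12, 14]), (93, [24, 0, 23, 8, 0, 0, 14])])),
  (692, (lf [(152, [24, 0, 12, 2, 17, 14]), (253, [21, 3, 17, 6, 2, 18])])),
  (773, (lf [(413, [24, 0, 12, 2, 16, 14]), (524, [23, 3, 6, 18, 4, 14])])),
  (791, (lf [(376, [24, 0, 21, 12, 2, 14]), (321, [24, 0, 2, 16, 23, 12, 5])])),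
  (828, (lf [(152, [24, 0, 12, 2, 14, 17]), (253, [24, 0, 6, 0, 0, 12, 6])])),
  (902, (lf [(522, [24, 0, 21, 12, 2, 17]), (393, [24, 0, 2, 14, 8, 4])])),
  (774, (lf [(413, [24, 0, 12, 2, 14, 16]), (524, [24, 0, 23, 20, 2, 18, 3])])),
  (1036, (lf [(266, [24, 0, 21, 12, 2, 16]), (141, [24, 0, 18, 5, 18, 16, 2])])),
  (728, (lf [(500, [24, 0, 14, 22, 4, 18, 5]), (321, [24, 0, 4, 14, 4, 1, 3])])),
  (670, (lf [(508, [24, 0, 3, 12, 3, 8]), (405, [24, 0, 17, 0, 24, 16, 4])])),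
  (875, (lf [(162, [24, 0, 21, 2, 17, 5]), (306, [24, 0, 23, 18, 12, 14, 1])])),
  (847, (lf [(500, [24, 0, 2, 12, 17, 5]), (281, [24, 0, 22, 22, 12, 18, 6])])),
  (880, (lf [(594, [24, 0, 4, 22, 17, 1]), (306, [24, 0, 12, 2, 24, 14])])),
  (810, (lf [(152, [15, 5, 5, 2, 22, 4, 1]), (524, [24, 0, 3, 8, 23, 2, 1])])),
  (896, (lf [(413, [12, 6, 12, 2, 16, 14, 12]), (253, [24, 0, 0, 4, 16, 6])])),
  (868, (lf [(376, [24, 0, 16, 5, 18, 0, 5]), (281, [24, 0, 14, 6, 14, 0])])),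
  (901, (lf [(152, [24, 0, 22, 2, 24, 22, 4]), (524, [24, 0, 22, 2, 8, 23, 4])])),
  (722, (lf [(522, [24, 0, 6, 18, 24, 4]), (141, [24, 0, 0, 12, 4, 16, 0])])),
  (994, (lf [(413, [24, 0, 3, 18, 22, 1, 4]), (253, [24, 0, 22, 2, 24, 12, 4])])),
  (899, (lf [(266, [24, 0, 6, 18, 22, 12, 4]), (393, [24, 0, 23, 6, 24, 23, 0])])),
  (1017, (lf [(258, [24, 0, 23, 8, 0, 12, 0]), (166, [24, 0, 12, 2, 23, 23])])),
  (646, (lf [(471, [24, 0, 3, 22, 0, 3, 12]), (167, [8, 4, 8, 4, 8, 0])])),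
  (1014, (lf [(277, [24, 0, 8, 4, 12, 8, 0]), (507, [16, 4, 22, 1, 12, 5, 12])])),
  (861, (lf [(594, [24, 0, 3, 12, 3, 14]), (93, [24, 0, 17, 3, 24, 2, 0])])),
  (860, (lf [(507, [24, 0, 22, 1, 12, 5]), (471, [18, 2, 3, 22, 10, 0, 3])])),
  (893, (lf [(167, [24, 0, 22, 2, 22, 8, 4]), (277, [10, 2, 21, 0, 12, 18, 2])])),
  (820, (lf [(507, [24, 0, 1, 8, 4, 8, 1]), (471, [24, 0, 3, 22, 20, 0, 3])])),
  (906, (lf [(167, [24, 0, 4, 1, 4, 12, 1]), (277, [24, 0, 0, 12, 18, 10, 2])])),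
  (635, (lf [(162, [24, 0, 20, 6, 5, 18, 3]), (93, [24, 0, 2, 23, 14, 3, 1])])),
  (719, (lf [(500, [24, 0, 23, 4, 16, 5, 0]), (321, [24, 0, 0, 17, 4, 18, 0])])),
  (919, (lf [(12, [24, 0, 6, 18, 4, 16]), (1, [24, 0, 8, 23, 0, 0])])),
  (913, (lf [(162, [24, 0, 2, 16, 8, 5]), (306, [24, 0, 18, 8, 23, 6, 1])])),
  (678, (lf [(258, [24, 0, 12, 1, 12, 4]), (1, [24, 0, 0, 17, 12, 14, 1])])),
  (908, (lf [(594, [24, 0, 4, 14, 23, 1]), (306, [24, 0, 2, 16, 5, 22, 10])])),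
  (1051, (lf [(507, [24, 0, 5, 8, 5, 0, 8]), (277, [24, 0, 4, 24, 22, 0])])),
  (654, (lf [(167, [24, 0, 10, 5, 8, 5, 0]), (471, [24, 0, 6, 23, 1, 16, 0])])),
  (807, (lf [(12, [24, 0, 17, 0, 16, 23, 4]), (166, [24, 0, 12, 1, 22, 4])])),
  (755, (lf [(181, [15, 2, 1, 22, 4, 14, 4]), (515, [16, 3, 18, 24, 23, 6, 2])])),
  (836, (lf [(316, [12, 1, 2, 24, 14, 22, 4]), (370, [8, 3, 6, 18, 4, 12, 8])])),
  (939, (lf [(258, [24, 0, 18, 23, 4, 1, 2]), (166, [24, 0, 17, 0, 16, 0, 2])])),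
  (767, (lf [(181, [24, 0, 22, 3, 0, 14, 1]), (515, [24, 0, 2, 23, 17, 22, 4])])),
  (922, (lf [(316, [24, 0, 6, 18, 22, 0, 2]), (370, [24, 0, 12, 2, 22, 14, 23])])),
  (879, (lf [(370, [24, 0, 21, 6, 18, 4, 8]), (181, [24, 0, 1, 4, 3, 14, 1])])),
  (989, (lf [(515, [24, 0, 20, 6, 18, 4]), (316, [24, 0, 8, 3, 23, 6, 0])])),
  (708, (lf [(370, [21, 4, 6, 18, 4, 8]), (181, [10, 5, 3, 0, 5, 17, 0])])),
  (647, (lf [(93, [24, 0, 1, 4, 22, 16, 0]), (162, [24, 0, 2, 17, 5, 12])])),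
  (1030, (lf [(515, [23, 4, 6, 18, 10, 4]), (316, [18, 5, 6, 18, 4, 24, 10])])),
  (946, (lf [(12, [24, 0, 1, 12, 17, 22, 6]), (1, [24, 0, 23, 20, 8, 0, 0])])),
  (684, (lf [(258, [24, 0, 5, 22, 1, 4, 2]), (1, [24, 0, 23, 18, 6, 17, 5])])),
  (890, (lf [(12, [24, 0, 16, 2, 18, 6]), (166, [24, 0, 12, 1, 22, 21, 4])]))])

noncomputable def xk33 : CT := (nd [(1045, (lf [(24, [24, 0, 6, 2]), (571, [24, 0, 6, 2, 24])])),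
  (653, (lf [(186, [24, 0, 6, 2, 8]), (241, [24, 0, 6, 2, 24, 8])])),
  (1025, (lf [(24, [24, 0, 6, 2, 12]), (241, [24, 0, 6, 2, 12, 24])])),
  (893, (lf [(141, [24, 0, 6, 2, 14]), (88, [24, 0, 6, 2, 14, 24])])),
  (797, (lf [(500, [10, 2, 6, 2, 17]), (29, [24, 0, 6, 2, 17, 24])])),
  (1013, (lf [(581, [18, 2, 6, 2, 16]), (85, [24, 0, 6, 2, 16, 24])])),
  (1036, (lf [(24, [24, 0, 20, 6, 2]), (571, [24, 0, 6, 2, 24, 21])])),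
  (690, (lf [(186, [24, 0, 6, 2, 12, 8]), (571, [24, 0, 6, 2, 24, 12])])),
  (692, (lf [(391, [24, 0, 6, 2, 14, 8]), (522, [24, 0, 4, 0, 18, 8, 0])])),
  (677, (lf [(186, [24, 0, 20, 6, 2, 8]), (241, [24, 0, 24, 23, 12, 6, 2])])),
  (737, (lf [(141, [24, 0, 6, 2, 14, 12]), (522, [24, 0, 5, 0, 23, 10, 2])])),
  (676, (lf [(500, [24, 0, 6, 2, 17, 12]), (85, [16, 4, 6, 2, 12, 16, 12])])),
  (937, (lf [(581, [24, 0, 6, 2, 16, 12]), (29, [8, 4, 8, 4, 1, 12, 2])])),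
  (1018, (lf [(24, [24, 0, 20, 6, 2, 12]), (241, [24, 0, 6, 1, 23, 4])])),
  (1054, (lf [(540, [24, 0, 6, 2, 12, 14]), (479, [24, 0, 4, 22, 24, 18, 2])])),
  (699, (lf [(454, [10, 5, 24, 20, 6, 1]), (601, [21, 4, 17, 4, 0, 5, 0])])),
  (926, (lf [(312, [18, 5, 6, 2, 16, 14]), (519, [23, 4, 1, 4, 1, 5, 17])])),
  (903, (lf [(141, [24, 0, 20, 6, 2, 14]), (88, [24, 0, 8, 0, 23, 1, 1])])),
  (767, (lf [(454, [24, 0, 24, 10, 6, 1]), (601, [24, 0, 22, 6, 23, 1, 2])])),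
  (889, (lf [(500, [24, 0, 20, 6, 2, 17]), (29, [24, 0, 4, 0, 2, 8, 1])])),
  (1022, (lf [(312, [24, 0, 24, 6, 1, 8]), (519, [24, 0, 5, 3, 14, 23, 0])])),
  (985, (lf [(581, [24, 0, 20, 6, 2, 16]), (85, [24, 0, 10, 0, 5, 2, 1])])),
  (671, (lf [(391, [24, 0, 12, 8, 2, 24, 2]), (88, [24, 0, 18, 3, 14, 6])])),
  (744, (lf [(186, [24, 0, 8, 3, 14, 22, 0]), (571, [24, 0, 18, 24, 16, 1, 3])])),
  (1053, (lf [(491, [24, 0, 8, 18, 3, 8, 1]), (208, [24, 0, 4, 1, 12, 1, 1])])),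
  (808, (lf [(391, [24, 0, 21, 8, 5, 16, 6]), (522, [24, 0, 3, 8, 5, 8, 1])])),
  (830, (lf [(540, [24, 0, 4, 14, 2, 16, 2]), (208, [24, 0, 6, 2, 24, 14])])),
  (703, (lf [(454, [15, 2, 24, 20, 6, 1, 12]), (519, [16, 3, 16, 3, 18, 3, 1])])),
  (932, (lf [(312, [12, 1, 17, 1, 24, 1, 1]), (601, [8, 3, 14, 0, 8, 1, 4])])),
  (778, (lf [(141, [24, 0, 4, 23, 21, 18, 2]), (522, [24, 0, 23, 1, 4, 8, 0])])),
  (697, (lf [(454, [24, 0, 24, 6, 24, 8, 1]), (519, [24, 0, 17, 3, 24, 3])])),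
  (661, (lf [(500, [24, 0, 1, 1, 4, 0, 2]), (85, [24, 0, 22, 16, 4, 14, 3])])),
  (922, (lf [(312, [24, 0, 18, 12, 14, 2, 0]), (601, [24, 0, 24, 6, 2, 23, 5])])),
  (958, (lf [(581, [24, 0, 22, 0, 24, 22, 3]), (29, [24, 0, 4, 0, 2, 24, 1])])),
  (746, (lf [(325, [24, 0, 4, 24, 18, 6, 1]), (606, [24, 0, 6, 2, 23, 23])])),
  (978, (lf [(512, [24, 0, 23, 18, 2, 16, 5]), (227, [24, 0, 14, 12, 0, 8, 2])])),
  (657, (lf [(78, [24, 0, 14, 4, 2, 24, 0]), (314, [24, 0, 14, 0, 24, 2, 8])])),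
  (1034, (lf [(540, [24, 0, 16, 2, 18, 6, 0]), (479, [24, 0, 8, 4, 12, 18, 2])])),
  (959, (lf [(314, [24, 0, 8, 0, 17, 18, 4]), (512, [24, 0, 0, 0, 12, 8, 6])])),
  (962, (lf [(227, [24, 0, 23, 6, 23, 18, 10]), (78, [24, 0, 23, 12, 6, 1, 12])])),
  (818, (lf [(314, [24, 0, 1, 14, 0, 23, 3]), (512, [24, 0, 16, 18, 4, 0, 0])])),
  (1043, (lf [(227, [24, 0, 0, 5, 2, 1, 14]), (78, [24, 0, 14, 3, 12, 18])])),
  (873, (lf [(491, [24, 0, 4, 18, 23, 18, 2]), (479, [24, 0, 1, 14, 6, 5])])),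
  (815, (lf [(391, [24, 0, 24, 4, 1, 1, 1]), (88, [24, 0, 16, 23, 2, 14, 5])])),
  (925, (lf [(70, [24, 0, 14, 2, 23, 8, 2]), (8, [24, 0, 14, 4, 22, 4, 3])])),
  (1032, (lf [(491, [24, 0, 12, 18, 2, 24, 2, 0]), (208, [24, 0, 24, 4, 3, 22, 4])])),
  (1046, (lf [(325, [24, 0, 6, 1, 12, 4]), (8, [24, 0, 18, 24, 18, 6, 2])])),
  (837, (lf [(540, [24, 0, 14, 4, 2, 16, 1]), (208, [24, 0, 5, 17, 12, 6])])),
  (637, (lf [(314, [24, 0, 22, 18, 22, 6, 22]), (78, [24, 0, 23, 21, 12, 6, 1])])),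
  (966, (lf [(227, [24, 0, 18, 23, 14, 2, 0]), (512, [24, 0, 17, 23, 3, 0, 5])])),
  (981, (lf [(70, [24, 0, 6, 1, 23, 24, 4]), (606, [24, 0, 6, 1, 22, 4])])),
  (970, (lf [(51, [15, 5, 3, 8, 18, 23, 0]), (319, [24, 0, 22, 24, 18, 12, 2])])),
  (643, (lf [(594, [12, 6, 12, 1, 8, 2]), (385, [24, 0, 23, 14, 3, 17, 4])])),
  (741, (lf [(325, [24, 0, 18, 16, 1, 3]), (606, [24, 0, 4, 16, 22, 10, 0])])),
  (858, (lf [(51, [24, 0, 16, 4, 14, 10, 2]), (319, [24, 0, 22, 12, 3, 24, 1])])),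
  (638, (lf [(594, [24, 0, 20, 12, 1, 8, 2]), (385, [24, 0, 24, 8, 2, 23, 2])])),
  (921, (lf [(385, [24, 0, 24, 6, 1, 24, 14]), (51, [24, 0, 21, 17, 5, 17, 2])])),
  (928, (lf [(319, [24, 0, 18, 16, 1, 3, 16]), (594, [24, 0, 6, 0, 14, 24, 0])])),
  (990, (lf [(385, [21, 3, 12, 5, 0, 8, 1]), (51, [24, 0, 12, 6, 14, 1, 1])])),
  (856, (lf [(479, [24, 0, 2, 18, 23, 23, 2]), (491, [24, 0, 18, 4, 24, 3, 1])])),
  (1023, (lf [(319, [23, 3, 17, 5, 18, 17, 2]), (594, [24, 0, 5, 18, 1, 1, 1])])),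
  (1001, (lf [(70, [24, 0, 4, 16, 22, 12, 0]), (8, [24, 0, 6, 22, 4, 23, 3, 0])])),
  (1037, (lf [(325, [24, 0, 20, 6, 1, 12, 4]), (8, [24, 0, 4, 8, 2, 14, 1])])),
  (902, (lf [(70, [24, 0, 0, 16, 2, 23, 18]), (606, [24, 0, 6, 1, 22, 21, 4])]))])

noncomputable def xk32 : CT := (nd [(853, (lf [(23, [19, 4, 4, 2]), (398, [24, 0, 4, 2, 24])])),
  (952, (lf [(185, [11, 4, 4, 2, 8]), (123, [24, 0, 4, 2, 24, 8])])),
  (927, (lf [(23, [24, 0, 4, 2, 12]), (123, [9, 2, 4, 2, 12, 24])])),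
  (1068, (lf [(158, [19, 3, 4, 2, 14]), (130, [14, 1, 4, 2, 14, 24])])),
  (951, (lf [(481, [24, 0, 4, 2, 17]), (115, [24, 0, 16, 18, 2, 18])])),
  (719, (lf [(448, [24, 0, 4, 2, 16]), (299, [24, 0, 4, 2, 16, 24])])),
  (770, (lf [(23, [24, 0, 21, 4, 2]), (398, [24, 0, 4, 2, 24, 21])])),
  (640, (lf [(185, [24, 0, 4, 2, 12, 8]), (398, [17, 2, 4, 2, 24, 12])])),
  (1064, (lf [(574, [11, 3, 4, 2, 14, 8]), (628, [13, 5, 17, 23, 0, 4, 0])])),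
  (964, (lf [(185, [24, 0, 21, 4, 2, 8]), (123, [24, 0, 24, 18, 5, 23, 3])])),
  (911, (lf [(158, [20, 1, 4, 2, 14, 12]), (628, [9, 5, 18, 0, 0, 17, 1])])),
  (834, (lf [(481, [24, 0, 4, 2, 17, 12]), (299, [24, 0, 12, 2, 24, 8, 6])])),
  (979, (lf [(448, [24, 0, 4, 2, 16, 12]), (115, [24, 0, 3, 12, 24, 14, 2])])),
  (949, (lf [(23, [24, 0, 21, 4, 2, 12]), (123, [24, 0, 4, 1, 23, 4])])),
  (908, (lf [(626, [24, 0, 4, 2, 12, 14]), (199, [24, 0, 1, 3, 14, 2, 1])])),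
  (658, (lf [(284, [24, 0, 2, 14, 16, 5]), (599, [24, 0, 3, 23, 2, 24, 0])])),
  (1060, (lf [(421, [24, 0, 4, 2, 16, 14]), (472, [24, 0, 16, 2, 18, 22, 17])])),
  (1003, (lf [(158, [24, 0, 21, 4, 2, 14]), (130, [24, 0, 4, 2, 14, 24, 20])])),
  (632, (lf [(284, [24, 0, 4, 2, 14, 17]), (599, [24, 0, 23, 6, 4, 17, 3])])),
  (1038, (lf [(481, [24, 0, 21, 4, 2, 17]), (115, [24, 0, 24, 1, 2, 16, 2])])),
  (1062, (lf [(421, [24, 0, 4, 2, 14, 16]), (472, [24, 0, 18, 5, 0, 22])])),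
  (802, (lf [(448, [24, 0, 21, 4, 2, 16]), (299, [24, 0, 20, 4, 2, 12, 16])])),
  (746, (lf [(574, [22, 1, 4, 2, 14, 12, 8]), (130, [17, 5, 18, 12, 1, 17, 0])])),
  (681, (lf [(185, [24, 0, 5, 3, 0, 22, 0]), (398, [24, 0, 0, 24, 20, 2, 1])])),
  (793, (lf [(587, [24, 0, 4, 2, 12, 14, 8]), (110, [24, 0, 4, 2, 24, 14, 12])])),
  (1018, (lf [(574, [24, 0, 3, 16, 1, 4, 0]), (628, [24, 0, 24, 20, 4, 18, 6])])),
  (639, (lf [(626, [24, 0, 20, 3, 17, 18, 1]), (110, [24, 0, 4, 2, 24, 14])])),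
  (919, (lf [(284, [24, 0, 24, 14, 2, 17, 1]), (472, [24, 0, 17, 3, 22, 17, 5, 0])])),
  (994, (lf [(421, [24, 0, 4, 2, 16, 14, 12]), (599, [24, 0, 0, 8, 23, 5, 0])])),
  (695, (lf [(158, [24, 0, 12, 4, 3, 17, 0]), (628, [24, 0, 6, 3, 22, 12, 1])])),
  (946, (lf [(284, [24, 0, 0, 22, 5, 22, 0]), (472, [24, 0, 1, 18, 1, 4, 2])])),
  (898, (lf [(481, [24, 0, 5, 1, 14, 2, 0]), (299, [24, 0, 23, 4, 1, 14, 3])])),
  (983, (lf [(421, [24, 0, 4, 2, 14, 16, 12]), (599, [24, 0, 6, 0, 23, 2, 17])])),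
  (818, (lf [(448, [24, 0, 3, 14, 4, 3, 0]), (115, [24, 0, 18, 1, 18, 17, 4])])),
  (1007, (lf [(494, [20, 6, 5, 2, 24, 5]), (555, [24, 0, 2, 24, 20, 4])])),
  (737, (lf [(116, [24, 0, 2, 14, 16, 24, 5]), (122, [24, 0, 2, 16, 12, 14, 5])])),
  (850, (lf [(77, [24, 0, 1, 1, 8, 0, 12]), (183, [24, 0, 1, 4, 0, 5, 1])])),
  (969, (lf [(626, [24, 0, 18, 3, 14, 8, 0]), (199, [24, 0, 16, 24, 4, 0, 0])])),
  (1076, (lf [(183, [24, 0, 0, 4, 24, 18, 3]), (116, [24, 0, 1, 1, 8, 0, 8])])),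
  (869, (lf [(122, [24, 0, 1, 8, 1, 8, 0]), (77, [24, 0, 10, 1, 1, 8, 0])])),
  (1032, (lf [(183, [24, 0, 16, 1, 8, 6]), (116, [24, 0, 3, 18, 4, 18, 12])])),
  (870, (lf [(122, [24, 0, 17, 6, 8, 18, 0]), (77, [24, 0, 20, 1, 1, 8, 0])])),
  (748, (lf [(587, [24, 0, 22, 2, 17, 5, 3]), (199, [24, 0, 5, 17, 18, 2, 0])])),
  (825, (lf [(574, [24, 0, 5, 16, 5, 24, 0]), (130, [24, 0, 24, 14, 2, 24, 8, 0])])),
  (1071, (lf [(275, [22, 6, 18, 0, 4, 24, 0]), (7, [24, 0, 21, 18, 3, 18, 2])])),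
  (730, (lf [(587, [24, 0, 16, 24, 0, 22, 1]), (110, [24, 0, 23, 5, 16, 18, 3])])),
  (801, (lf [(494, [24, 0, 4, 1, 12, 4]), (7, [14, 6, 1, 12, 4, 0, 2])])),
  (686, (lf [(626, [24, 0, 3, 17, 18, 1]), (110, [24, 0, 6, 17, 12, 6])])),
  (1042, (lf [(183, [24, 0, 24, 18, 12, 8, 2]), (77, [24, 0, 0, 4, 0, 18, 0])])),
  (874, (lf [(122, [24, 0, 17, 23, 4, 12, 6]), (116, [24, 0, 24, 2, 23, 18, 1])])),
  (941, (lf [(275, [24, 0, 2, 12, 0, 2]), (555, [13, 2, 2, 23, 0, 2])])),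
  (978, (lf [(50, [24, 0, 23, 2, 24, 14, 1]), (496, [24, 0, 2, 24, 21, 4, 16])])),
  (986, (lf [(558, [24, 0, 17, 14, 1, 17, 18]), (268, [24, 0, 22, 4, 12, 6])])),
  (996, (lf [(494, [24, 0, 2, 22, 22, 4]), (555, [24, 0, 2, 24, 4])])),
  (1044, (lf [(50, [24, 0, 14, 22, 5, 0, 5]), (496, [24, 0, 8, 6, 8, 4, 2])])),
  (920, (lf [(558, [24, 0, 22, 2, 12, 6, 4]), (268, [24, 0, 1, 12, 6, 2, 1])])),
  (967, (lf [(268, [24, 0, 16, 3, 22, 0, 8]), (50, [24, 0, 2, 8, 4, 23, 16])])),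
  (647, (lf [(496, [24, 0, 16, 3, 22, 10, 0]), (558, [24, 0, 4, 0, 14, 24, 0])])),
  (987, (lf [(268, [24, 0, 17, 3, 23, 5, 2]), (50, [24, 0, 5, 18, 0, 16, 2])])),
  (772, (lf [(199, [24, 0, 6, 24, 17, 6, 8]), (587, [24, 0, 12, 6, 12, 4, 0])])),
  (631, (lf [(496, [24, 0, 16, 3, 22, 20, 0]), (558, [24, 0, 6, 18, 1, 1, 1])])),
  (1012, (lf [(275, [24, 0, 1, 12, 4, 23, 4]), (7, [24, 0, 2, 24, 4, 8])])),
  (694, (lf [(494, [24, 0, 22, 12, 18, 22, 0]), (7, [24, 0, 2, 24, 4, 12, 8])])),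
  (944, (lf [(275, [24, 0, 21, 2, 12, 0, 2]), (555, [24, 0, 2, 23, 21, 0, 2])]))])


end Cfsg.Agent.Lib.ONE
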