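import Cfsg.Agent.Lib.BT4

/-! Certificates. -/

set_option autoImplicit false
set_option maxRecDepth 100000

namespace Cfsg.Agent.Lib.ONE

open Cfsg.Agent.Lib.PermNet Cfsg.Agent.Lib.Words Cfsg.Agent.Lib.PermGroup Cfsg.Agent.Lib.DCE Cfsg.Agent.Lib.PermModel Cfsg.Agent.Lib.BT

noncomputable def xk63 : CT := (.node 936 [] [] (nat_lit 0x0) (lf [(188, [24, 0, 6, 23, 0]), (196, [24, 0, 6, 23, 0, 24])]) (.node 865 [] [] (nat_lit 0x0) (lf [(368, [24, 0, 6, 23, 0, 8]), (60, [24, 0, 6, 23, 12, 10, 0])]) (.node 650 [] [] (nat_lit 0x0) (lf [(188, [24, 0, 6, 23, 0, 12]), (60, [24, 0, 22, 14, 4, 0, 2])]) (.node 750 [] [] (nat_lit 0x0) (lf [(417, [24, 0, 6, 23, 0, 14]), (34, [24, 0, 0, 4, 24, 23, 4])]) (.node 949 [] [] (nat_lit 0x0) (lf [(226, [24, 0, 6, 23, 0, 17]), (619, [24, 0, 6, 23, 24, 16, 1])]) (.node 995 [] [] (nat_lit 0x0) (lf [(255, [24, 0, 6, 23,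 0, 16]), (89, [24, 0, 2, 16, 4, 14, 4])]) (.node 926 [] [] (nat_lit 0x0) (lf [(188, [6, 4, 6, 23, 21, 0]), (196, [24, 0, 4, 24, 22, 6, 1])]) (.node 989 [] [] (nat_lit 0x0) (lf [(368, [24, 0, 6, 23, 0, 12, 8]), (196, [24, 0, 6, 23, 0, 24, 12])]) (.node 889 [] [] (nat_lit 0x0) (lf [(327, [24, 0, 6, 23, 0, 14, 8]), (29, [24, 0, 3, 22, 6, 16])]) (.node 821 [] [] (nat_lit 0x0) (lf [(368, [7, 4, 12, 6, 23, 20, 0]), (60, [24, 0, 14, 4, 1, 8, 0])]) (.node 891 [] [] (nat_lit 0x0) (lf [(226, [24, 0, 6, 23, 0, 17, 12]), (89, [24, 0, 24, 3, 22, 2, 1])]) (.node 796 [] [] (nat_lit 0x0) (lf [(255, [24, 0, 3, 1, 18, 0, 0]), (619, [24, 0, 23, 6, 24, 5, 17, 0])]) (.node 686 [] [] (nat_lit 0x0) (lf [(188, [24, 0, 14, 5, 0, 5, 1]), (60, [0, 4, 16, 23, 4, 0, 2])]) (.node 806 [] [] (nat_lit 0x0) (lf [(84, [24, 0, 4, 12, 4, 1, 2]), (446, [24, 0, 14, 0, 24, 16, 18])])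 (.node 708 [] [] (nat_lit 0x0) (lf [(267, [24, 0, 12, 4, 14, 0, 4]), (134, [24, 0, 8, 4, 14, 0, 4])]) (.node 842 [] [] (nat_lit 0x0) (lf [(417, [6, 3, 2, 8, 2, 8, 0]), (34, [1, 3, 3, 22, 21, 6, 17])]) (.node 809 [] [] (nat_lit 0x0) (lf [(267, [24, 0, 16, 6, 4, 14, 1]), (134, [24, 0, 1, 8, 0, 17, 0])]) (.node 927 [] [] (nat_lit 0x0) (lf [(226, [24, 0, 6, 23, 21, 0, 17]), (619, [24, 0, 14, 16, 6, 12, 6])]) (.node 988 [] [] (nat_lit 0x0) (lf [(255, [24, 0, 17, 2, 0, 12, 6]), (89, [24, 0, 16, 12, 3, 17, 18])]) (.node 1030 [] [] (nat_lit 0x0) (lf [(368, [24, 0, 23, 0, 0, 22, 6]), (196, [1, 4, 6, 12, 1, 5, 3])]) (.node 663 [] [] (nat_lit 0x0) (lf [(610, [24, 0, 0, 22, 0, 4, 2]), (379, [24, 0, 2, 17, 4, 14, 5])]) (.node 900 [] [] (nat_lit 0x0) (lf [(327, [7, 3, 4, 14, 0, 4, 16]), (29, [0, 3, 4, 24, 1, 8, 2])]) (.node 722 [[10, 8]] [(267, 0)] (nat_lit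 0x8000000000000000000000000000000000000000000000000000000000000000000) (lf [(267, [24, 0, 14, 2, 1, 24, 3])]) (.node 951 [[10, 8]] [(205, 0)] (nat_lit 0x2000000000000000000000000000000000000000000000000000) (lf [(205, [24, 0, 3, 22, 21, 6])]) (.node 729 [[10, 8]] [(267, 0)] (nat_lit 0x8000000000000000000000000000000000000000000000000000000000000000000) (lf [(267, [24, 0, 12, 3, 22, 6])]) (.node 812 [] [] (nat_lit 0x0) (lf [(226, [24, 0, 22, 14, 6, 2, 1]), (89, [24, 0, 24, 2, 0, 24, 2, 0])]) (.node 1065 [[10, 8]] [(205, 0)] (nat_lit 0x2000000000000000000000000000000000000000000000000000) (lf [(205, [24, 0, 3, 22, 6])]) (.node 859 [] [] (nat_lit 0x0) (lf [(255, [24, 0, 1, 22, 18, 24, 1]), (619, [24, 0, 3, 22, 6, 24, 14])]) (.node 656 [] [] (nat_lit 0x0) (lf [(501, [24, 0, 16, 18, 16, 14, 2]), (585, [24, 0, 4, 24, 12, 6, 2])]) (.node 784 [] []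 (nat_lit 0x0) (lf [(84, [24, 0, 0, 4, 8, 23, 4]), (446, [24, 0, 0, 4, 24, 22, 4])]) (.node 718 [[8]] [(601, 0)] (nat_lit 0x2000000000000000000000000000000000000000000000000000000000000000000000000000000000000000000000000000000000000000000000000000000000000000000000000000000) (lf [(601, [24, 0, 21, 2, 12, 6, 0, 0])]) (.node 703 [[8]] [(585, 0)] (nat_lit 0x200000000000000000000000000000000000000000000000000000000000000000000000000000000000000000000000000000000000000000000000000000000000000000000000000) (lf [(585, [24, 0, 23, 17, 5, 3, 1])]) (.node 712 [[8]] [(601, 0)] (nat_lit 0x2000000000000000000000000000000000000000000000000000000000000000000000000000000000000000000000000000000000000000000000000000000000000000000000000000000) (lf [(601, [24, 0, 2, 12, 6, 0, 0])]) (.node 697 [[8]] [(585, 0)] (nat_lit 0x200000000000000000000000000000000000000000000000000000000000000000000000000000000000000000000000000000000000000000000000000000000000000000000000000)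 (lf [(585, [24, 0, 22, 6, 1, 3, 12])]) (.node 632 [] [] (nat_lit 0x0) (lf [(610, [24, 0, 0, 17, 18, 16, 1]), (379, [24, 0, 3, 23, 4, 23, 18])]) (.node 824 [] [] (nat_lit 0x0) (lf [(601, [24, 0, 17, 18, 14, 16, 2]), (429, [24, 0, 6, 22, 8, 3, 0])]) .nil))))))))))))))))))))))))))))))))))))

noncomputable def xk62 : CT := (.node 874 [] [] (nat_lit 0x0) (lf [(618, [24, 0, 22, 4, 0]), (141, [24, 0, 22, 4, 0, 24])]) (.node 1014 [] [] (nat_lit 0x0) (lf [(53, [24, 0, 22, 4, 0, 8]), (353, [24, 0, 12, 5, 22, 3])]) (.node 827 [] [] (nat_lit 0x0) (lf [(502, [24, 0, 22, 4, 0, 14]), (378, [24, 0, 6, 0, 24, 2, 0])]) (.node 723 [] [] (nat_lit 0x0) (lf [(555, [24, 0, 22, 4, 0, 17]), (9, [24, 0, 12, 4, 17, 1])]) (.node 688 [] [] (nat_lit 0x0) (lf [(618, [24, 0, 22, 21, 4, 0]), (141, [24, 0, 22, 2, 12, 24, 2])]) (.node 693 [] [] (nat_lit 0x0) (lf [(298, [24,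 0, 3, 14, 2, 17, 6]), (72, [24, 0, 23, 24, 0, 17, 1])]) (.node 1051 [] [] (nat_lit 0x0) (lf [(53, [24, 0, 22, 21, 4, 0, 8]), (353, [24, 0, 24, 8, 0, 2, 0])]) (.node 679 [] [] (nat_lit 0x0) (lf [(502, [24, 0, 22, 4, 0, 14, 12]), (72, [24, 0, 14, 6, 2, 14, 0])]) (.node 1029 [[18]] [(555, 0)] (nat_lit 0x8000000000000000000000000000000000000000000000000000000000000000000000000000000000000000000000000000000000000000000000000000000000000000000) (lf [(555, [24, 0, 20, 12, 18, 14, 4])]) (.node 748 [[18]] [(526, 0)] (nat_lit 0x400000000000000000000000000000000000000000000000000000000000000000000000000000000000000000000000000000000000000000000000000000000000) (lf [(526, [24, 0, 22, 4, 0, 16, 12])]) (.node 894 [] [] (nat_lit 0x0) (lf [(327, [24, 0, 16, 14, 4, 18]), (329, [5, 4, 4, 2, 8, 18])]) (.node 903 [] [] (nat_lit 0x0) (lf [(398, [24, 0, 24, 18,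 6, 14, 12]), (531, [4, 4, 14, 17, 0, 23, 0])]) (.node 834 [] [] (nat_lit 0x0) (lf [(502, [24, 0, 22, 21, 4, 0, 14]), (378, [24, 0, 4, 18, 24, 16, 3])]) (.node 912 [] [] (nat_lit 0x0) (lf [(327, [24, 0, 2, 22, 18, 0]), (329, [24, 0, 18, 1, 3, 18, 8])]) (.node 804 [] [] (nat_lit 0x0) (lf [(555, [24, 0, 8, 5, 16, 18]), (9, [24, 0, 21, 12, 4, 17, 1])]) (.node 893 [] [] (nat_lit 0x0) (lf [(398, [24, 0, 8, 0, 22, 1, 5]), (531, [24, 0, 2, 22, 18, 12, 0])]) (.node 705 [] [] (nat_lit 0x0) (lf [(298, [24, 0, 22, 3, 16, 0, 23]), (378, [24, 0, 6, 8, 1, 18, 3])]) (.node 739 [] [] (nat_lit 0x0) (lf [(298, [24, 0, 3, 14, 8, 5, 1]), (72, [24, 0, 14, 22, 1, 24, 1])]) (.node 734 [] [] (nat_lit 0x0) (lf [(327, [3, 4, 16, 14, 4, 18, 12]), (531, [24, 0, 2, 14, 17, 18, 4, 0])]) (.node 948 [] [] (nat_lit 0x0) (lf [(398, [2, 4, 24, 18, 6, 14]), (329, [24, 0, 8, 0,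 5, 12, 3])]) (.node 711 [] [] (nat_lit 0x0) (lf [(502, [24, 0, 0, 17, 23, 5, 1]), (72, [24, 0, 12, 18, 16, 24, 5])]) (.node 651 [] [] (nat_lit 0x0) (lf [(327, [24, 0, 0, 23, 6, 14, 5]), (531, [24, 0, 22, 3, 22, 8, 1])]) (.node 1010 [[18]] [(555, 0)] (nat_lit 0x8000000000000000000000000000000000000000000000000000000000000000000000000000000000000000000000000000000000000000000000000000000000000000000) (lf [(555, [24, 0, 12, 18, 14, 4])]) (.node 954 [] [] (nat_lit 0x0) (lf [(398, [24, 0, 18, 4, 24, 5, 2]), (329, [24, 0, 17, 14, 3, 12, 5])]) (.node 868 [[18]] [(526, 0)] (nat_lit 0x400000000000000000000000000000000000000000000000000000000000000000000000000000000000000000000000000000000000000000000000000000000000) (lf [(526, [24, 0, 24, 3, 17, 12, 2])]) (.node 1073 [] [] (nat_lit 0x0) (lf [(86, [24, 0, 0, 18, 5, 23, 0]), (125, [24, 0, 6, 22, 1, 14,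 1])]) (.node 876 [] [] (nat_lit 0x0) (lf [(298, [24, 0, 4, 17, 1, 22, 3]), (378, [24, 0, 23, 6, 8, 18])]) (.node 788 [] [] (nat_lit 0x0) (lf [(457, [24, 0, 16, 0, 22, 3, 17]), (503, [24, 0, 2, 24, 3, 23, 12])]) (.node 732 [] [] (nat_lit 0x0) (lf [(47, [3, 3, 20, 1, 14, 8, 1]), (24, [2, 3, 18, 24, 18, 6])]) (.node 1067 [] [] (nat_lit 0x0) (lf [(86, [24, 0, 8, 0, 12, 1, 4]), (125, [24, 0, 17, 22, 2, 14, 0, 0])]) (.node 665 [] [] (nat_lit 0x0) (lf [(47, [24, 0, 1, 14, 8, 1]), (24, [24, 0, 18, 24, 21, 18, 6])]) (.node 653 [[10, 18]] [(430, 0)] (nat_lit 0x400000000000000000000000000000000000000000000000000000000000000000000000000000000000000000000000000000000000) (lf [(430, [24, 0, 16, 0, 22, 21, 3])]) (.node 955 [[10, 18]] [(24, 0)] (nat_lit 0x1000000) (lf [(24, [24, 0, 18, 4, 16, 24, 3])]) (.node 677 [[10, 18]] [(430, 0)] (nat_lit 0x400000000000000000000000000000000000000000000000000000000000000000000000000000000000000000000000000000000000)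 (lf [(430, [5, 3, 16, 3, 23, 1, 2])]) (.node 848 [[10, 18]] [(24, 0)] (nat_lit 0x1000000) (lf [(24, [4, 3, 16, 0, 22, 3, 8])]) (.node 812 [] [] (nat_lit 0x0) (lf [(457, [24, 0, 20, 17, 1, 16, 2, 0]), (503, [24, 0, 1, 14, 12, 16, 0])]) .nil))))))))))))))))))))))))))))))))))))

noncomputable def xk61 : CT := (nd [(667, (lf [(55, [24, 0, 0, 4, 0]), (204, [24, 0, 23, 10, 4, 2])])),
  (760, (lf [(313, [24, 0, 0, 4, 0, 8]), (404, [24, 0, 0, 4, 12, 10, 0])])),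
  (734, (lf [(55, [24, 0, 0, 4, 0, 12]), (404, [24, 0, 24, 6, 4, 16, 23])])),
  (902, (lf [(617, [24, 0, 24, 6, 8, 4]), (34, [24, 0, 18, 2, 18, 8, 6])])),
  (955, (lf [(440, [4, 1, 0, 4, 0, 17]), (13, [24, 0, 0, 4, 24, 16, 1])])),
  (942, (lf [(456, [5, 1, 0, 4, 0, 16]), (545, [24, 0, 16, 18, 23, 23, 0])])),
  (801, (lf [(55, [24, 0, 21, 0, 4, 0]), (204, [24, 0, 23, 20, 4, 2])])),
  (842, (lf [(313, [24, 0, 1, 22, 22, 18]), (204, [24, 0, 23, 4, 2, 12, 10])])),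
  (959, (lf [(115, [24, 0, 24, 6, 8, 4, 8]), (321, [24, 0, 2, 16, 8, 5, 3])])),
  (873, (lf [(313, [24, 0, 21, 0, 4, 0, 8]), (404, [24, 0, 20, 0, 4, 12, 0])])),
  (821, (lf [(617, [24, 0, 5, 24, 16, 18, 3]), (321, [24, 0, 17, 4, 22, 2, 18])])),
  (1029, (lf [(440, [24, 0, 23, 4, 2, 17]), (545, [3, 1, 18, 2, 23, 17, 2])])),
  (917, (lf [(456, [24, 0, 23, 4, 2, 16]), (13, [2, 1, 2, 12, 6, 24, 4])])),
  (651, (lf [(55, [24, 0, 3, 18, 24, 18]), (404, [24, 0, 24, 18, 1, 18, 3])])),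
  (674, (lf [(308, [24, 0, 24, 4, 14, 4, 1]), (622, [24, 0, 22, 18, 22, 14, 5])])),
  (816, (lf [(289, [4, 6, 21, 8, 1, 18, 2]), (267, [24, 0, 4, 12, 6, 14])])),
  (830, (lf [(119, [5, 6, 0, 4, 0, 16, 14]), (579, [24, 0, 18, 6, 17, 3, 0])])),
  (981, (lf [(617, [24, 0, 24, 21, 6, 8, 4]), (34, [24, 0, 1, 16, 4, 8, 2])])),
  (672, (lf [(289, [24, 0, 8, 1, 18, 10, 2]), (267, [24, 0, 22, 4, 22, 4, 0])])),
  (943, (lf [(440, [24, 0, 12, 24, 6, 0, 12]), (13, [24, 0, 18, 12, 8, 6, 3])])),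
  (846, (lf [(119, [24, 0, 8, 1, 18, 2, 8]), (579, [24, 0, 0, 3, 22, 24, 1])])),
  (1050, (lf [(456, [24, 0, 21, 0, 4, 0, 16]), (545, [24, 0, 18, 1, 17, 22, 2])])),
  (696, (lf [(115, [24, 0, 4, 12, 6, 17, 14]), (34, [24, 0, 4, 8, 23, 6, 0, 0])])),
  (843, (lf [(115, [24, 0, 2, 23, 0, 16, 0]), (321, [24, 0, 20, 2, 17, 5, 3])])),
  (815, (lf [(289, [24, 0, 20, 1, 16, 6, 0]), (579, [3, 6, 8, 22, 3, 22, 0])])),
  (759, (lf [(119, [24, 0, 23, 1, 1, 8, 0]), (267, [2, 6, 6, 1, 22, 17, 3])])),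
  (865, (lf [(617, [24, 0, 4, 18, 12, 6, 4]), (321, [24, 0, 6, 5, 18, 12, 2])])),
  (671, (lf [(289, [24, 0, 1, 16, 6, 0]), (579, [24, 0, 0, 3, 22, 8, 1])])),
  (1010, (lf [(440, [24, 0, 12, 24, 6, 0]), (545, [24, 0, 4, 16, 0, 23, 2])])),
  (872, (lf [(119, [24, 0, 14, 2, 14, 0, 5]), (267, [24, 0, 1, 16, 6, 12, 0])])),
  (1068, (lf [(456, [24, 0, 12, 6, 5, 24, 2]), (13, [24, 0, 12, 24, 6, 12, 0])])),
  (772, (lf [(115, [24, 0, 2, 8, 6, 0, 22]), (34, [24, 0, 2, 17, 0, 22, 0])]))])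

noncomputable def xk60 : CT := (.node 886 [[8, 18, 8]] [(10, 0)] (nat_lit 0x400) (lf [(10, [3, 2, 3, 17, 1])]) (.node 1029 [[8, 18, 8]] [(20, 0)] (nat_lit 0x100000) (lf [(20, [2, 2, 3, 17, 1, 8])]) (.node 825 [] [] (nat_lit 0x0) (lf [(10, [4, 2, 3, 16, 24, 1]), (277, [5, 2, 12, 14, 5, 18, 4])]) (.node 764 [] [] (nat_lit 0x0) (lf [(515, [3, 5, 3, 17, 1, 14]), (193, [24, 0, 6, 14, 3, 8, 2])]) (.node 900 [] [] (nat_lit 0x0) (lf [(449, [24, 0, 3, 17, 1, 17]), (105, [24, 0, 23, 3, 23, 18])]) (.node 684 [] [] (nat_lit 0x0) (lf [(173, [24, 0, 3, 17, 1, 16]), (182, [24, 0, 3, 12, 16, 1, 16])]) (.node 749 [[8, 18, 8]] [(10, 0)] (nat_lit 0x400) (lf [(10, [24, 0, 20, 3, 17, 1])]) (.node 667 [] [] (nat_lit 0x0) (lf [(432, [2, 5, 5, 18, 24, 23, 3]), (593, [24, 0, 22, 20, 4, 3, 18, 0])]) (.node 1020 [[8, 18, 8]] [(20, 0)] (nat_lit 0x100000) (lf [(20, [24,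 0, 24, 0, 23, 14, 4])]) (.node 974 [] [] (nat_lit 0x0) (lf [(515, [24, 0, 16, 2, 22, 14]), (593, [5, 5, 0, 17, 18, 6, 0])]) (.node 746 [] [] (nat_lit 0x0) (lf [(10, [24, 0, 21, 3, 12, 16, 1]), (277, [24, 0, 12, 18, 16, 24, 2])]) (.node 904 [] [] (nat_lit 0x0) (lf [(558, [4, 5, 23, 2, 0, 18, 0]), (123, [24, 0, 6, 18, 17, 5, 2])]) (.node 783 [] [] (nat_lit 0x0) (lf [(23, [24, 0, 12, 6, 1, 18, 1]), (518, [24, 0, 1, 5, 16, 23, 1])]) (.node 1056 [] [] (nat_lit 0x0) (lf [(372, [24, 0, 23, 6, 22, 5, 2]), (268, [24, 0, 8, 23, 5, 2, 14])]) (.node 864 [] [] (nat_lit 0x0) (lf [(515, [24, 0, 20, 3, 17, 1, 14]), (193, [24, 0, 3, 24, 2, 0, 4])]) (.node 899 [] [] (nat_lit 0x0) (lf [(23, [24, 0, 18, 1, 1, 16, 3]), (518, [24, 0, 6, 23, 4, 16, 6, 0])]) (.node 786 [] [] (nat_lit 0x0) (lf [(449, [24, 0, 18, 14, 6, 23, 2]), (105, [24, 0, 1, 14, 24, 17, 2])]) (.node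 918 [] [] (nat_lit 0x0) (lf [(372, [24, 0, 16, 18, 5, 2, 0]), (268, [24, 0, 24, 0, 14, 23, 5])]) (.node 678 [] [] (nat_lit 0x0) (lf [(173, [24, 0, 24, 2, 1, 8, 1]), (182, [24, 0, 6, 12, 6, 22, 2, 1])]) (.node 814 [] [] (nat_lit 0x0) (lf [(432, [24, 0, 16, 2, 24, 17, 22]), (593, [24, 0, 22, 6, 12, 3, 14])]) (.node 861 [] [] (nat_lit 0x0) (lf [(23, [24, 0, 23, 16, 24, 12, 3]), (268, [24, 0, 6, 22, 1, 18, 4])]) (.node 675 [] [] (nat_lit 0x0) (lf [(372, [24, 0, 2, 17, 22, 12, 18]), (518, [24, 0, 22, 17, 8, 5, 0])]) (.node 956 [] [] (nat_lit 0x0) (lf [(515, [24, 0, 4, 3, 12, 0, 3]), (593, [24, 0, 16, 2, 17, 24, 23])]) (.node 961 [] [] (nat_lit 0x0) (lf [(23, [24, 0, 12, 24, 14, 23, 3]), (268, [24, 0, 17, 18, 3, 23, 0, 0])]) (.node 716 [] [] (nat_lit 0x0) (lf [(372, [24, 0, 2, 22, 24, 18, 14]), (518, [24, 0, 22, 21, 16, 5, 0])]) (.node 880 [[10,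 8, 18, 8]] [(335, 0)] (nat_lit 0x800000000000000000000000000000000000000000000000000000000000000000000000000000000000) (lf [(335, [24, 0, 16, 2, 22])]) (.node 970 [] [] (nat_lit 0x0) (lf [(558, [24, 0, 8, 23, 18, 5, 3, 0]), (123, [24, 0, 8, 6, 12, 6, 3])]) (.node 745 [[10, 8, 18, 8]] [(384, 0)] (nat_lit 0x1000000000000000000000000000000000000000000000000000000000000000000000000000000000000000000000000) (lf [(384, [24, 0, 3, 18, 17, 1])]) (.node 1041 [] [] (nat_lit 0x0) (lf [(335, [24, 0, 16, 2, 22, 12]), (210, [24, 0, 24, 0, 17, 0, 2])]) (.node 850 [] [] (nat_lit 0x0) (lf [(373, [24, 0, 24, 6, 17, 4, 2]), (49, [24, 0, 16, 12, 2, 16, 5])]) (.node 923 [] [] (nat_lit 0x0) (lf [(469, [24, 0, 2, 22, 24, 21, 18]), (267, [24, 0, 16, 2, 22, 17, 12])]) (.node 857 [[10, 8, 18, 8]] [(335, 0)] (nat_lit 0x800000000000000000000000000000000000000000000000000000000000000000000000000000000000)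 (lf [(335, [24, 0, 16, 2, 22, 21])]) (.node 976 [] [] (nat_lit 0x0) (lf [(373, [24, 0, 23, 8, 0, 24, 3]), (49, [24, 0, 24, 23, 0, 12, 18])]) (.node 933 [] [] (nat_lit 0x0) (lf [(469, [24, 0, 2, 22, 24, 18]), (267, [24, 0, 5, 0, 5, 18])]) (.node 740 [[10, 8, 18, 8]] [(384, 0)] (nat_lit 0x1000000000000000000000000000000000000000000000000000000000000000000000000000000000000000000000000) (lf [(384, [24, 0, 20, 3, 18, 17, 1])]) (.node 1049 [] [] (nat_lit 0x0) (lf [(335, [24, 0, 18, 4, 22, 6, 2]), (210, [24, 0, 22, 6, 12, 3, 8])]) .nil))))))))))))))))))))))))))))))))))))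

noncomputable def xk59 : CT := (nd [(998, (lf [(623, [24, 0, 22, 14, 1]), (134, [24, 0, 22, 14, 1, 24])])),
  (1037, (lf [(275, [24, 0, 22, 14, 1, 8]), (155, [24, 0, 8, 6, 18, 5, 1])])),
  (738, (lf [(623, [24, 0, 22, 14, 1, 12]), (155, [24, 0, 0, 23, 5, 16, 23])])),
  (808, (lf [(565, [24, 0, 12, 0, 12, 5]), (247, [24, 0, 0, 22, 8, 5, 8])])),
  (1053, (lf [(471, [24, 0, 22, 14, 1, 17]), (363, [24, 0, 21, 2, 8, 2, 0])])),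
  (1051, (lf [(531, [24, 0, 22, 14, 1, 16]), (579, [24, 0, 0, 22, 18, 1, 1])])),
  (936, (lf [(623, [24, 0, 16, 23, 1]), (134, [24, 0, 16, 23, 1, 24])])),
  (819, (lf [(275, [24, 0, 16, 5, 18, 3, 0]), (134, [24, 0, 22, 14, 2, 23, 5])])),
  (725, (lf [(11, [24, 0, 0, 23, 21, 8, 5]), (288, [24, 0, 0, 22, 8, 5])])),
  (1041, (lf [(275, [24, 0, 16, 23, 1, 8]), (155, [24, 0, 4, 24, 16, 18, 4])])),
  (700, (lf [(565, [24, 0, 1, 8, 22, 12, 1]), (288, [24, 0, 2, 0, 8, 0, 2])])),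
  (939, (lf [(471, [24, 0, 24, 18, 14, 6, 1]), (579, [24, 0, 23, 23, 4, 18, 1])])),
  (906, (lf [(531, [24, 0, 24, 14, 22, 14, 0]), (363, [24, 0, 1, 22, 6, 0, 16, 0])])),
  (865, (lf [(623, [24, 0, 16, 24, 23, 1]), (155, [24, 0, 18, 24, 14, 0, 22])])),
  (823, (lf [(235, [24, 0, 0, 12, 10, 5]), (35, [24, 0, 3, 0, 22, 20])])),
  (722, (lf [(604, [24, 0, 3, 12, 16, 22, 1]), (452, [24, 0, 23, 14, 0, 3, 0])])),
  (766, (lf [(541, [24, 0, 6, 18, 22, 10, 4]), (545, [24, 0, 6, 18, 12, 4, 8])])),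
  (743, (lf [(565, [24, 0, 3, 0, 23]), (247, [11, 2, 12, 3, 0, 22])])),
  (729, (lf [(604, [10, 1, 3, 23, 14, 24, 1]), (452, [24, 0, 17, 22, 0, 3, 0])])),
  (1032, (lf [(471, [10, 6, 16, 23, 1, 17]), (363, [11, 5, 2, 8, 2, 0])])),
  (879, (lf [(541, [18, 1, 3, 0, 14, 22]), (545, [24, 0, 14, 5, 1, 3, 22])])),
  (1014, (lf [(531, [18, 6, 16, 23, 1, 16]), (579, [19, 5, 0, 12, 5, 16, 14])])),
  (646, (lf [(11, [24, 0, 0, 22, 5, 22, 10]), (247, [24, 0, 20, 0, 8, 3, 1])])),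
  (980, (lf [(275, [24, 0, 22, 14, 2, 22, 5]), (134, [24, 0, 6, 16, 14, 4, 2])])),
  (919, (lf [(474, [24, 0, 8, 22, 3, 18]), (28, [24, 0, 0, 24, 22, 10, 5])])),
  (715, (lf [(11, [24, 0, 0, 23, 8, 5]), (288, [19, 2, 22, 1, 24, 1, 2])])),
  (651, (lf [(565, [9, 1, 3, 0, 23, 12]), (288, [24, 0, 8, 6, 5, 23, 6])])),
  (804, (lf [(604, [24, 0, 3, 8, 23, 14, 1]), (545, [16, 2, 1, 22, 16, 0])])),
  (1017, (lf [(471, [9, 6, 16, 23, 1, 17, 12]), (579, [16, 5, 1, 22, 16, 0, 14])])),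
  (686, (lf [(541, [24, 0, 1, 22, 16, 12, 0]), (452, [8, 2, 23, 16, 12, 18, 2])])),
  (893, (lf [(531, [17, 6, 24, 23, 16, 14, 0]), (363, [8, 5, 18, 22, 1, 12, 2])])),
  (642, (lf [(11, [17, 1, 22, 12, 6, 17, 5]), (247, [24, 0, 10, 0, 8, 3, 1])]))])

noncomputable def xk58 : CT := (nd [(750, (lf [(4, [24, 0, 6, 14, 1]), (324, [24, 0, 6, 14, 1, 24])])),
  (984, (lf [(89, [24, 0, 6, 14, 1, 8]), (441, [24, 0, 6, 14, 1, 24, 8])])),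
  (798, (lf [(4, [24, 0, 6, 14, 1, 12]), (441, [24, 0, 0, 0, 24, 5, 3])])),
  (1058, (lf [(372, [24, 0, 6, 14, 1, 14]), (113, [24, 0, 1, 8, 23, 6])])),
  (719, (lf [(200, [24, 0, 6, 14, 1, 17]), (147, [24, 0, 24, 16, 0, 14, 6])])),
  (752, (lf [(628, [24, 0, 6, 14, 1, 16]), (218, [24, 0, 22, 6, 8, 3, 18])])),
  (753, (lf [(4, [24, 0, 21, 6, 14, 1]), (324, [24, 0, 0, 4, 14, 6])])),
  (799, (lf [(89, [24, 0, 6, 3, 17, 22, 0]), (324, [24, 0, 6, 14, 2, 23, 5])])),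
  (779, (lf [(69, [24, 0, 14, 8, 0, 14, 6]), (611, [24, 0, 18, 16, 23, 12, 2])])),
  (997, (lf [(89, [24, 0, 22, 22, 6, 14, 1]), (441, [24, 0, 5, 2, 1, 18, 4])])),
  (824, (lf [(372, [24, 0, 6, 14, 1, 14, 12]), (611, [24, 0, 24, 18, 14, 24, 3])])),
  (741, (lf [(200, [24, 0, 12, 6, 8, 22, 0]), (218, [24, 0, 0, 5, 1, 23, 16])])),
  (717, (lf [(628, [24, 0, 6, 14, 12, 17, 0]), (147, [24, 0, 24, 14, 0, 4, 1])])),
  (787, (lf [(4, [24, 0, 8, 6, 17, 1, 2]), (441, [24, 0, 23, 2, 24, 18])])),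
  (917, (lf [(16, [24, 0, 2, 24, 18, 16, 12]), (192, [24, 0, 18, 23, 16, 18, 0])])),
  (856, (lf [(559, [24, 0, 12, 10, 0, 5, 1]), (313, [24, 0, 16, 0, 4, 1, 16])])),
  (906, (lf [(621, [24, 0, 5, 17, 6, 23, 0]), (261, [24, 0, 4, 12, 5, 3, 1])])),
  (777, (lf [(559, [24, 0, 20, 12, 0, 5, 1]), (313, [24, 0, 24, 2, 24, 18, 22])])),
  (802, (lf [(200, [24, 0, 3, 17, 2, 22, 3]), (147, [24, 0, 14, 24, 18, 24, 3])])),
  (895, (lf [(621, [24, 0, 18, 23, 18, 12, 1]), (261, [24, 0, 24, 23, 0, 5, 1])])),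
  (707, (lf [(628, [24, 0, 8, 3, 22, 6, 4]), (218, [24, 0, 16, 3, 0, 16, 6])])),
  (924, (lf [(69, [24, 0, 12, 6, 0, 0, 0]), (113, [24, 0, 16, 24, 0, 14, 6])])),
  (788, (lf [(89, [24, 0, 6, 14, 2, 22, 5]), (324, [24, 0, 23, 2, 24, 18, 8])])),
  (1048, (lf [(106, [24, 0, 6, 8, 3, 18, 10]), (118, [24, 0, 21, 14, 0, 14, 6])])),
  (809, (lf [(16, [24, 0, 2, 24, 18, 16]), (118, [24, 0, 17, 0, 4, 1])])),
  (796, (lf [(559, [24, 0, 22, 6, 17, 1, 2]), (261, [24, 0, 8, 2, 24, 18, 10])])),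
  (774, (lf [(621, [24, 0, 2, 18, 6, 14, 3]), (313, [24, 0, 12, 5, 1, 8, 0])])),
  (832, (lf [(372, [24, 0, 0, 5, 23, 17, 0]), (611, [24, 0, 0, 23, 16, 0, 4])])),
  (785, (lf [(559, [24, 0, 17, 6, 3, 16, 6]), (261, [24, 0, 16, 14, 0, 5, 1])])),
  (746, (lf [(200, [24, 0, 2, 24, 18, 12, 14]), (218, [24, 0, 14, 12, 0, 4, 1])])),
  (869, (lf [(621, [24, 0, 23, 6, 17, 1, 2]), (313, [24, 0, 5, 23, 4, 0, 2])])),
  (685, (lf [(628, [24, 0, 17, 18, 24, 3]), (147, [24, 0, 18, 12, 17, 1, 5])]))])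

noncomputable def xk57 : CT := (nd [(867, (lf [(4, [24, 0, 6, 8, 1]), (548, [24, 0, 6, 8, 1, 24])])),
  (967, (lf [(50, [24, 0, 6, 8, 1, 8]), (627, [24, 0, 14, 24, 3, 8, 2])])),
  (1004, (lf [(4, [24, 0, 6, 24, 10, 1]), (627, [24, 0, 3, 14, 2, 0, 8])])),
  (676, (lf [(204, [24, 0, 1, 2, 22, 0]), (382, [24, 0, 6, 24, 1, 17])])),
  (856, (lf [(407, [24, 0, 6, 8, 1, 16]), (251, [24, 0, 0, 3, 24, 3])])),
  (910, (lf [(4, [24, 0, 20, 6, 8, 1]), (548, [7, 6, 14, 23, 6, 14, 0])])),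
  (747, (lf [(50, [24, 0, 5, 0, 16, 22, 5]), (548, [24, 0, 3, 14, 2, 0])])),
  (987, (lf [(50, [24, 0, 18, 6, 16, 6, 0]), (627, [6, 6, 8, 18, 17, 0, 0])])),
  (715, (lf [(204, [24, 0, 21, 6, 3, 14, 2]), (251, [24, 0, 6, 16, 24, 12, 0])])),
  (757, (lf [(407, [24, 0, 6, 16, 24, 0]), (382, [24, 0, 22, 21, 2, 18, 2])])),
  (1056, (lf [(4, [0, 6, 6, 24, 20, 1]), (627, [24, 0, 8, 6, 18, 5, 3])])),
  (687, (lf [(412, [24, 0, 14, 22, 24, 14, 2]), (87, [24, 0, 1, 18, 23, 10])])),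
  (752, (lf [(210, [24, 0, 1, 18, 14, 23, 10]), (315, [24, 0, 23, 3, 12, 6, 3])])),
  (871, (lf [(298, [24, 0, 0, 8, 4, 14, 2]), (482, [24, 0, 24, 0, 17, 23, 0])])),
  (914, (lf [(50, [1, 6, 6, 8, 2, 22, 5]), (548, [24, 0, 20, 3, 14, 2, 0])])),
  (816, (lf [(123, [24, 0, 1, 18, 24, 23]), (378, [24, 0, 4, 2, 1, 4])])),
  (1062, (lf [(412, [24, 0, 16, 12, 5, 14, 2]), (378, [24, 0, 12, 3, 16, 14, 0])])),
  (699, (lf [(210, [24, 0, 12, 16, 3, 22, 3, 0]), (482, [24, 0, 6, 4, 24, 18, 0, 0])])),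
  (969, (lf [(298, [24, 0, 23, 18, 6, 24, 0]), (315, [24, 0, 6, 23, 4, 2, 0])])),
  (966, (lf [(352, [24, 0, 1, 18, 14, 22, 24]), (470, [24, 0, 1, 18, 14, 22])])),
  (718, (lf [(220, [24, 0, 23, 24, 16, 4, 3]), (196, [24, 0, 14, 22, 18, 12, 1])])),
  (652, (lf [(412, [0, 1, 17, 23, 16, 12, 2]), (87, [24, 0, 24, 18, 8, 5])])),
  (1021, (lf [(196, [24, 0, 5, 0, 14, 22, 4]), (352, [24, 0, 3, 22, 18, 6, 2])])),
  (791, (lf [(470, [24, 0, 22, 18, 22, 17, 2]), (220, [24, 0, 24, 12, 6, 24, 3])])),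
  (999, (lf [(196, [24, 0, 5, 0, 23, 16, 4]), (352, [24, 0, 14, 2, 23, 1, 23])])),
  (781, (lf [(470, [24, 0, 0, 23, 5, 16, 3]), (220, [24, 0, 22, 4, 2, 16, 0])])),
  (1039, (lf [(123, [24, 0, 1, 18, 24, 23, 12]), (87, [24, 0, 0, 16, 6, 2])])),
  (702, (lf [(123, [1, 1, 21, 6, 14, 3, 18]), (378, [24, 0, 20, 4, 2, 1, 4])])),
  (1060, (lf [(412, [24, 0, 24, 18, 5, 22, 10]), (378, [7, 1, 18, 2, 17, 22, 6])])),
  (712, (lf [(196, [24, 0, 1, 18, 23, 17]), (220, [24, 0, 14, 22, 12, 4, 3])])),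
  (1052, (lf [(470, [24, 0, 1, 18, 23, 16]), (352, [24, 0, 12, 4, 2, 16, 5])])),
  (1047, (lf [(87, [6, 1, 21, 0, 16, 6, 2]), (123, [24, 0, 24, 18, 5, 22, 8])]))])

noncomputable def xk56 : CT := (.node 753 [] [] (nat_lit 0x0) (lf [(1, [24, 0, 0, 8, 1]), (424, [24, 0, 0, 8, 1, 24])]) (.node 895 [] [] (nat_lit 0x0) (lf [(39, [24, 0, 0, 8, 1, 8]), (626, [24, 0, 8, 4, 1, 8, 2])]) (.node 978 [] [] (nat_lit 0x0) (lf [(347, [24, 0, 0, 8, 1, 14]), (474, [1, 5, 17, 4, 23, 4])]) (.node 716 [] [] (nat_lit 0x0) (lf [(340, [24, 0, 0, 8, 1, 17]), (380, [24, 0, 0, 24, 1, 17])]) (.node 839 [] [] (nat_lit 0x0) (lf [(1, [24, 0, 21, 0, 8, 1]), (424, [24, 0, 22, 14, 6, 23, 2])]) (.node 1063 [] [] (nat_lit 0x0) (lf [(66, [24, 0, 17, 23, 0, 4, 2]), (252, [0, 5, 24, 6, 2, 0, 0])]) (.node 903 [] [] (nat_lit 0x0) (lf [(39, [24, 0, 2, 23, 18, 4, 0]), (626, [24, 0,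 0, 3, 14, 2, 17])]) (.node 973 [] [] (nat_lit 0x0) (lf [(347, [7, 5, 20, 17, 4, 0, 2]), (252, [24, 0, 23, 2, 17, 4, 0])]) (.node 1031 [[10, 8]] [(340, 0)] (nat_lit 0x10000000000000000000000000000000000000000000000000000000000000000000000000000000000000) (lf [(340, [24, 0, 20, 0, 3, 14, 2])]) (.node 792 [[10, 8]] [(433, 0)] (nat_lit 0x2000000000000000000000000000000000000000000000000000000000000000000000000000000000000000000000000000000000000) (lf [(433, [24, 0, 0, 16, 24, 0])]) (.node 873 [] [] (nat_lit 0x0) (lf [(282, [24, 0, 0, 8, 1, 17, 14]), (313, [24, 0, 20, 3, 12, 1, 1])]) (.node 997 [] [] (nat_lit 0x0) (lf [(299, [24, 0, 20, 17, 6, 2, 1]), (481, [24, 0, 0, 12, 5, 18, 2])]) (.node 1044 [] [] (nat_lit 0x0) (lf [(347, [24, 0, 16, 4, 12, 4]), (474, [24, 0, 16, 12, 0, 4, 2])]) (.node 856 [] [] (nat_lit 0x0) (lf [(282, [24, 0, 12, 16, 6, 2,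 1]), (313, [24, 0, 3, 12, 1, 1])]) (.node 675 [] [] (nat_lit 0x0) (lf [(340, [24, 0, 6, 1, 24, 1, 1]), (380, [24, 0, 23, 8, 18, 16, 2])]) (.node 988 [] [] (nat_lit 0x0) (lf [(299, [24, 0, 17, 6, 2, 1]), (481, [24, 0, 4, 18, 6, 18, 16])]) (.node 775 [] [] (nat_lit 0x0) (lf [(66, [6, 5, 1, 3, 14, 3, 1]), (474, [24, 0, 12, 6, 16, 6, 2])]) (.node 1009 [] [] (nat_lit 0x0) (lf [(66, [24, 0, 22, 22, 18, 16, 1]), (252, [24, 0, 16, 4, 22, 10, 4])]) (.node 663 [] [] (nat_lit 0x0) (lf [(282, [24, 0, 5, 12, 18, 0, 0]), (481, [24, 0, 23, 6, 12, 6, 8])]) (.node 869 [] [] (nat_lit 0x0) (lf [(299, [24, 0, 20, 6, 5, 17, 2]), (313, [24, 0, 0, 23, 4, 2, 0])]) (.node 1000 [] [] (nat_lit 0x0) (lf [(347, [24, 0, 17, 4, 0, 2]), (252, [24, 0, 18, 16, 1, 23, 10])]) (.node 630 [] [] (nat_lit 0x0) (lf [(282, [24, 0, 18, 16, 14, 0, 0, 0]), (481, [24, 0, 2, 17, 0, 14,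 0])]) (.node 1065 [[10, 8]] [(340, 0)] (nat_lit 0x10000000000000000000000000000000000000000000000000000000000000000000000000000000000000) (lf [(340, [24, 0, 0, 3, 14, 2])]) (.node 870 [] [] (nat_lit 0x0) (lf [(299, [24, 0, 6, 5, 17, 2]), (313, [24, 0, 3, 17, 0, 16, 1])]) (.node 729 [[10, 8]] [(433, 0)] (nat_lit 0x2000000000000000000000000000000000000000000000000000000000000000000000000000000000000000000000000000000000000) (lf [(433, [24, 0, 20, 0, 12, 16, 0])]) (.node 963 [] [] (nat_lit 0x0) (lf [(84, [7, 2, 2, 18, 14, 17, 0]), (101, [1, 2, 16, 4, 23, 4, 14])]) (.node 854 [] [] (nat_lit 0x0) (lf [(66, [24, 0, 0, 5, 18, 6, 0]), (474, [24, 0, 4, 8, 18, 22, 6])]) (.node 799 [] [] (nat_lit 0x0) (lf [(610, [6, 2, 1, 8, 3, 8, 3]), (574, [0, 2, 3, 8, 22, 4, 18])]) (.node 925 [] [] (nat_lit 0x0) (lf [(517, [24, 0, 1, 22, 6, 0]), (231, [24, 0, 12, 1,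 22, 6, 0])]) (.node 1028 [] [] (nat_lit 0x0) (lf [(84, [24, 0, 3, 22, 0, 23, 0]), (101, [24, 0, 24, 1, 4, 24, 2])]) (.node 934 [] [] (nat_lit 0x0) (lf [(517, [24, 0, 1, 22, 21, 6, 0]), (231, [24, 0, 14, 5, 8, 22, 5])]) (.node 712 [[8]] [(418, 0)] (nat_lit 0x400000000000000000000000000000000000000000000000000000000000000000000000000000000000000000000000000000000) (lf [(418, [24, 0, 2, 14, 12, 4, 3])]) (.node 669 [[8]] [(231, 0)] (nat_lit 0x8000000000000000000000000000000000000000000000000000000000) (lf [(231, [24, 0, 14, 1, 22, 6, 17])]) (.node 789 [[8]] [(418, 0)] (nat_lit 0x400000000000000000000000000000000000000000000000000000000000000000000000000000000000000000000000000000000) (lf [(418, [24, 0, 22, 14, 1, 8, 0])]) (.node 703 [[8]] [(231, 0)] (nat_lit 0x8000000000000000000000000000000000000000000000000000000000) (lf [(231, [24, 0, 22, 3,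 18, 14, 0])]) (.node 788 [] [] (nat_lit 0x0) (lf [(610, [24, 0, 5, 8, 23, 5, 1]), (574, [24, 0, 12, 14, 0, 17, 18])]) .nil))))))))))))))))))))))))))))))))))))

noncomputable def xk55 : CT := (nd [(869, (lf [(9, [5, 6, 23, 4, 1]), (555, [24, 0, 23, 4, 1, 24])])),
  (816, (lf [(75, [4, 6, 23, 4, 1, 8]), (523, [24, 0, 3, 17, 12, 6, 4])])),
  (948, (lf [(9, [24, 0, 23, 4, 1, 12]), (523, [2, 6, 3, 18, 24, 18, 5])])),
  (847, (lf [(28, [5, 1, 23, 4, 1, 14]), (545, [24, 0, 4, 24, 21, 14, 4])])),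
  (1033, (lf [(285, [24, 0, 23, 4, 1, 17]), (227, [24, 0, 12, 6, 24, 0, 3])])),
  (843, (lf [(148, [24, 0, 23, 4, 1, 16]), (226, [24, 0, 4, 17, 22, 5])])),
  (870, (lf [(9, [24, 0, 23, 21, 4, 1]), (555, [24, 0, 23, 4, 1, 24, 21])])),
  (941, (lf [(75, [24, 0, 17, 22, 6, 23]), (555, [3, 6, 23, 4, 2, 23, 5])])),
  (892, (lf [(30, [4, 1, 6, 23, 4, 1]), (595, [24, 0, 0, 4, 16, 23, 1])])),
  (672, (lf [(75, [24, 0, 23, 21, 4, 1, 8]), (523, [24, 0, 6, 4, 24, 14, 4])])),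
  (762, (lf [(28, [24, 0, 17, 0, 5, 3, 1]), (595, [2, 1, 3, 8, 5, 3, 16])])),
  (653, (lf [(285, [24, 0, 23, 4, 1, 17, 12]), (226, [24, 0, 21, 0, 2, 16, 0])])),
  (878, (lf [(148, [24, 0, 16, 0, 24, 5]), (227, [24, 0, 20, 4, 17, 3, 1])])),
  (954, (lf [(9, [24, 0, 0, 2, 12, 8, 1]), (523, [24, 0, 0, 2, 16, 0, 17])])),
  (748, (lf [(388, [24, 0, 18, 6, 24, 22, 1]), (169, [2, 6, 12, 3, 23, 2, 16])])),
  (808, (lf [(279, [24, 0, 2, 12, 18, 23, 1]), (120, [24, 0, 5, 14, 22, 6])])),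
  (1060, (lf [(381, [24, 0, 22, 8, 2, 16, 6]), (378, [24, 0, 18, 6, 5, 14, 0])])),
  (975, (lf [(28, [24, 0, 23, 21, 4, 1, 14]), (545, [24, 0, 4, 24, 14, 10, 4])])),
  (692, (lf [(279, [24, 0, 0, 16, 22, 16, 3]), (120, [24, 0, 12, 4, 0, 3, 0])])),
  (848, (lf [(285, [24, 0, 12, 2, 8, 6, 1]), (227, [24, 0, 22, 2, 8, 6, 1])])),
  (1062, (lf [(381, [24, 0, 5, 0, 23, 5, 3]), (378, [24, 0, 5, 23, 16, 6, 8])])),
  (979, (lf [(148, [24, 0, 4, 17, 23, 5]), (226, [24, 0, 4, 23, 14, 5])])),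
  (1019, (lf [(30, [24, 0, 5, 2, 1, 16, 1]), (545, [3, 1, 8, 4, 17, 0, 2])])),
  (944, (lf [(75, [24, 0, 23, 14, 6, 23]), (555, [24, 0, 0, 17, 6, 4, 0])])),
  (1021, (lf [(236, [24, 0, 14, 1, 18, 12, 2]), (299, [3, 6, 22, 6, 22, 5, 0])])),
  (902, (lf [(30, [24, 0, 6, 23, 20, 4, 1]), (595, [24, 0, 0, 4, 22, 14, 1])])),
  (637, (lf [(388, [5, 6, 3, 14, 5, 3]), (299, [24, 0, 23, 4, 1, 24, 14])])),
  (795, (lf [(279, [24, 0, 22, 3, 23, 20, 2]), (378, [24, 0, 2, 14, 16, 3])])),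
  (646, (lf [(381, [24, 0, 1, 8, 22, 18, 1]), (120, [24, 0, 17, 6, 0, 3])])),
  (698, (lf [(28, [24, 0, 5, 14, 22, 6, 16]), (595, [24, 0, 17, 6, 0, 3, 16])])),
  (784, (lf [(279, [24, 0, 22, 3, 23, 2]), (378, [24, 0, 2, 17, 14, 8, 3])])),
  (656, (lf [(285, [24, 0, 14, 3, 12, 18, 5, 0]), (226, [24, 0, 0, 2, 17, 8, 0])])),
  (654, (lf [(381, [24, 0, 2, 22, 4, 14, 16, 0]), (120, [24, 0, 5, 2, 1, 24, 0])])),
  (840, (lf [(148, [24, 0, 0, 2, 24, 16, 0]), (227, [24, 0, 4, 17, 3, 1])])),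
  (664, (lf [(390, [24, 0, 8, 0, 16, 6, 3]), (168, [3, 1, 16, 6, 23, 10, 3])])),
  (1035, (lf [(585, [24, 0, 1, 8, 3, 22, 8]), (396, [24, 0, 24, 22, 0, 12, 2])])),
  (859, (lf [(474, [24, 0, 3, 17, 18, 12, 6]), (541, [24, 0, 12, 3, 23, 21, 2])])),
  (868, (lf [(388, [24, 0, 2, 17, 18, 1, 4]), (169, [24, 0, 18, 8, 0, 16, 1])])),
  (1007, (lf [(541, [24, 0, 14, 8, 1, 14, 3]), (585, [24, 0, 5, 12, 17, 6])])),
  (782, (lf [(396, [24, 0, 14, 2, 14, 10, 0]), (474, [24, 0, 24, 23, 14, 6])])),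
  (996, (lf [(541, [24, 0, 8, 5, 17, 2, 14, 0]), (585, [24, 0, 23, 3, 1, 16, 6])])),
  (721, (lf [(396, [24, 0, 20, 14, 2, 14, 0]), (474, [24, 0, 6, 16, 0, 5])])),
  (951, (lf [(236, [4, 6, 22, 5, 18, 16, 3]), (169, [24, 0, 23, 8, 6, 5, 3])])),
  (1020, (lf [(30, [24, 0, 24, 0, 14, 4, 3]), (545, [24, 0, 0, 17, 2, 8, 3])])),
  (846, (lf [(506, [24, 0, 16, 0, 5, 24, 17]), (85, [2, 1, 8, 2, 22, 5, 3])])),
  (1030, (lf [(236, [24, 0, 4, 23, 16, 8, 4]), (299, [24, 0, 23, 0, 16, 23, 2])])),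
  (661, (lf [(390, [4, 1, 16, 0, 5, 16]), (85, [24, 0, 17, 22, 6, 22])])),
  (657, (lf [(388, [24, 0, 18, 6, 22, 21, 1]), (299, [24, 0, 14, 6, 16, 4, 18])])),
  (796, (lf [(541, [24, 0, 12, 3, 23, 10, 2]), (474, [24, 0, 6, 4, 24, 16, 5])])),
  (1027, (lf [(396, [24, 0, 14, 23, 1, 16, 2]), (585, [24, 0, 24, 23, 4, 1, 23])])),
  (974, (lf [(506, [5, 1, 16, 0, 5, 17]), (168, [24, 0, 18, 17, 6, 24, 3])])),
  (821, (lf [(489, [24, 0, 4, 16, 12, 5]), (586, [24, 0, 16, 0, 22, 3, 1])])),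
  (1074, (lf [(490, [24, 0, 12, 3, 22, 18, 6]), (326, [24, 0, 8, 18, 24, 14, 1])])),
  (710, (lf [(390, [24, 0, 6, 4, 23, 17, 4]), (168, [24, 0, 16, 6, 23, 20, 3])])),
  (865, (lf [(489, [24, 0, 21, 4, 16, 12, 5]), (586, [24, 0, 24, 1, 8, 3, 17])])),
  (1059, (lf [(490, [24, 0, 18, 5, 14, 12, 2]), (326, [24, 0, 5, 24, 6, 18, 0])])),
  (752, (lf [(326, [24, 0, 6, 14, 2, 14, 0]), (489, [24, 0, 20, 16, 0, 5])])),
  (1068, (lf [(586, [24, 0, 4, 16, 24, 3, 1]), (490, [24, 0, 0, 23, 3, 12, 6])])),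
  (765, (lf [(326, [24, 0, 12, 18, 6, 2, 0]), (489, [24, 0, 17, 8, 0, 5])])),
  (1065, (lf [(169, [24, 0, 18, 24, 17, 1, 1]), (236, [24, 0, 18, 2, 14, 0, 0])])),
  (917, (lf [(586, [24, 0, 24, 18, 6, 12, 1]), (490, [24, 0, 16, 0, 5, 8])])),
  (851, (lf [(506, [24, 0, 16, 6, 5, 8, 0]), (85, [24, 0, 24, 1, 8, 3])])),
  (676, (lf [(390, [24, 0, 2, 12, 5, 18, 0]), (85, [24, 0, 23, 14, 6, 22])])),
  (1014, (lf [(506, [24, 0, 21, 16, 0, 5, 17]), (168, [24, 0, 17, 6, 23, 12, 3])]))])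

noncomputable def xk54 : CT := (nd [(929, (lf [(15, [24, 0, 6, 4, 1]), (210, [24, 0, 6, 4, 1, 24])])),
  (857, (lf [(114, [24, 0, 6, 4, 1, 8]), (354, [24, 0, 24, 8, 6, 1, 5])])),
  (854, (lf [(15, [24, 0, 6, 4, 1, 12]), (354, [24, 0, 2, 17, 22, 18, 0])])),
  (808, (lf [(202, [24, 0, 1, 1, 4, 1]), (76, [24, 0, 4, 8, 4, 1, 2])])),
  (638, (lf [(350, [1, 6, 23, 12, 16, 6]), (109, [24, 0, 5, 3, 23, 4])])),
  (851, (lf [(466, [0, 6, 6, 4, 1, 16]), (319, [24, 0, 3, 22, 3, 1, 4])])),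
  (950, (lf [(15, [24, 0, 20, 6, 4, 1]), (210, [24, 0, 21, 0, 14, 5, 1])])),
  (911, (lf [(114, [24, 0, 18, 22, 12, 6, 1]), (210, [24, 0, 22, 20, 5, 16, 4])])),
  (938, (lf [(159, [24, 0, 1, 1, 4, 1, 8]), (212, [24, 0, 6, 23, 1, 18, 6])])),
  (969, (lf [(114, [24, 0, 20, 6, 4, 1, 8]), (354, [24, 0, 16, 3, 1, 4, 2])])),
  (1076, (lf [(202, [24, 0, 5, 0, 22, 8, 0]), (212, [24, 0, 18, 24, 3, 8, 1])])),
  (895, (lf [(350, [24, 0, 23, 18, 24, 5, 0]), (319, [6, 6, 23, 14, 6, 18, 1])])),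
  (921, (lf [(466, [24, 0, 6, 4, 12, 17, 0]), (109, [7, 6, 24, 18, 24, 12, 5])])),
  (775, (lf [(15, [24, 0, 17, 6, 5, 16, 0]), (354, [24, 0, 21, 12, 5, 14, 4])])),
  (688, (lf [(424, [24, 0, 1, 22, 18, 8, 0]), (111, [24, 0, 24, 8, 18, 17, 6])])),
  (918, (lf [(573, [1, 1, 6, 3, 18, 8, 3]), (453, [24, 0, 18, 24, 2, 14, 2])])),
  (841, (lf [(474, [0, 1, 4, 24, 10, 6, 2]), (484, [24, 0, 3, 24, 1, 16, 4])])),
  (743, (lf [(202, [24, 0, 20, 1, 1, 4, 1]), (76, [24, 0, 8, 5, 8, 1, 2])])),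
  (1058, (lf [(573, [24, 0, 18, 4, 2, 14, 1]), (453, [24, 0, 4, 23, 12, 6, 2])])),
  (636, (lf [(350, [24, 0, 14, 22, 24, 6]), (109, [24, 0, 1, 17, 0, 17, 1])])),
  (707, (lf [(474, [24, 0, 5, 12, 4, 17, 0]), (484, [24, 0, 23, 14, 12, 0, 5])])),
  (846, (lf [(466, [24, 0, 24, 18, 3, 1]), (319, [24, 0, 18, 5, 17, 6])])),
  (682, (lf [(159, [24, 0, 8, 0, 23, 2, 23]), (76, [24, 0, 2, 1, 4, 23, 5])])),
  (747, (lf [(114, [24, 0, 6, 14, 6, 23]), (210, [24, 0, 1, 5, 14, 5, 3])])),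
  (889, (lf [(600, [24, 0, 16, 12, 14, 4, 1]), (449, [24, 0, 24, 4, 3, 8, 1])])),
  (1016, (lf [(159, [24, 0, 16, 4, 17, 22, 18]), (212, [24, 0, 5, 8, 23, 18, 3, 0])])),
  (881, (lf [(424, [24, 0, 5, 18, 24, 17, 6]), (449, [24, 0, 20, 3, 18, 0, 3])])),
  (936, (lf [(573, [24, 0, 17, 18, 0, 12, 2]), (484, [6, 1, 22, 5, 14, 8, 5])])),
  (1052, (lf [(474, [24, 0, 18, 8, 2, 17, 18]), (453, [7, 1, 12, 5, 16, 5])])),
  (953, (lf [(202, [24, 0, 16, 18, 8, 6, 0]), (212, [24, 0, 1, 24, 2, 1, 5])])),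
  (926, (lf [(573, [24, 0, 3, 12, 16, 2, 0]), (484, [24, 0, 24, 23, 6, 18, 0])])),
  (906, (lf [(350, [24, 0, 5, 1, 1, 1]), (319, [24, 0, 17, 22, 6, 18, 1])])),
  (1044, (lf [(474, [24, 0, 8, 1, 5, 14, 3]), (453, [24, 0, 20, 12, 5, 16, 5])])),
  (935, (lf [(466, [24, 0, 5, 22, 18, 10, 2]), (109, [24, 0, 17, 1, 14, 4, 2])])),
  (943, (lf [(470, [24, 0, 5, 8, 6, 1, 4]), (357, [24, 0, 23, 5, 16, 0, 2])])),
  (987, (lf [(255, [24, 0, 5, 17, 23, 12, 0]), (128, [6, 6, 22, 3, 17, 18, 0])])),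
  (713, (lf [(129, [24, 0, 14, 23, 3, 22, 2]), (516, [7, 6, 5, 17, 23, 0])])),
  (874, (lf [(424, [24, 0, 24, 16, 6, 23, 12]), (111, [24, 0, 1, 16, 23, 2, 14])])),
  (755, (lf [(516, [24, 0, 0, 5, 17, 18, 5]), (255, [1, 6, 6, 18, 5, 0, 4])])),
  (633, (lf [(128, [24, 0, 22, 14, 2, 8, 0]), (129, [0, 6, 3, 1, 14, 10, 5])])),
  (709, (lf [(516, [24, 0, 23, 5, 23, 17, 5]), (255, [24, 0, 1, 2, 17, 3, 1])])),
  (657, (lf [(128, [24, 0, 16, 23, 2, 8, 0]), (129, [24, 0, 18, 23, 23, 6, 2])])),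
  (760, (lf [(600, [24, 0, 4, 23, 1, 8, 2]), (111, [24, 0, 6, 8, 6, 5, 3])])),
  (676, (lf [(159, [24, 0, 24, 16, 6, 22, 24]), (76, [24, 0, 24, 16, 6, 22])])),
  (789, (lf [(570, [24, 0, 2, 18, 4, 16, 3]), (152, [24, 0, 12, 17, 3, 22, 1])])),
  (900, (lf [(600, [24, 0, 17, 6, 8, 2, 0]), (449, [24, 0, 6, 0, 16, 23, 2])])),
  (867, (lf [(470, [24, 0, 21, 3, 1, 17, 4]), (152, [24, 0, 12, 8, 5, 16, 4])])),
  (904, (lf [(424, [24, 0, 24, 16, 6, 23]), (449, [24, 0, 3, 18, 10, 0, 3])])),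
  (791, (lf [(516, [24, 0, 5, 8, 22, 14, 0]), (129, [24, 0, 22, 17, 3, 22, 2])])),
  (877, (lf [(128, [24, 0, 5, 8, 18, 6, 1]), (255, [24, 0, 5, 24, 23, 14, 0])])),
  (989, (lf [(570, [24, 0, 24, 0, 17, 0, 3]), (357, [24, 0, 6, 12, 18, 22, 18])])),
  (949, (lf [(133, [24, 0, 8, 3, 23, 23, 1]), (326, [7, 1, 5, 3, 22, 21, 4])])),
  (957, (lf [(500, [24, 0, 0, 22, 0, 8, 4]), (155, [6, 1, 3, 22, 16, 5, 16, 0])])),
  (955, (lf [(470, [24, 0, 3, 1, 17, 4, 12]), (357, [24, 0, 17, 24, 6, 14, 0, 0])])),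
  (927, (lf [(133, [24, 0, 14, 24, 6, 18, 1]), (326, [24, 0, 5, 3, 22, 4])])),
  (1054, (lf [(500, [24, 0, 5, 3, 12, 4]), (155, [24, 0, 18, 2, 23, 2, 23])])),
  (1007, (lf [(155, [24, 0, 1, 4, 23, 5, 0]), (133, [24, 0, 20, 0, 3, 16, 6])])),
  (701, (lf [(326, [24, 0, 22, 22, 17, 6]), (500, [24, 0, 1, 22, 2, 24, 1])])),
  (996, (lf [(155, [24, 0, 24, 18, 12, 8, 5]), (133, [0, 1, 0, 3, 16, 6])])),
  (873, (lf [(111, [24, 0, 3, 18, 0, 3, 8]), (600, [24, 0, 8, 5, 17, 14, 1])])),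
  (815, (lf [(326, [24, 0, 22, 14, 23, 6]), (500, [1, 1, 24, 18, 22, 24, 5])])),
  (780, (lf [(570, [24, 0, 23, 23, 17, 6, 16]), (152, [24, 0, 1, 16, 23, 10, 2])])),
  (910, (lf [(470, [24, 0, 3, 1, 17, 4]), (152, [24, 0, 6, 14, 6, 22])])),
  (1030, (lf [(570, [24, 0, 12, 5, 14, 24, 4]), (357, [24, 0, 5, 18, 6, 4, 2])]))])

noncomputable def xk53 : CT := (nd [(1014, (lf [(73, [24, 0, 23, 5, 1]), (475, [24, 0, 23, 5, 1, 24])])),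
  (941, (lf [(51, [24, 0, 23, 5, 1, 8]), (288, [24, 0, 17, 0, 16, 1, 3])])),
  (721, (lf [(73, [24, 0, 23, 5, 1, 12]), (288, [24, 0, 14, 0, 16, 4, 2])])),
  (762, (lf [(258, [24, 0, 23, 5, 1, 14]), (431, [24, 0, 4, 3, 22, 6, 5])])),
  (1021, (lf [(43, [24, 0, 23, 5, 1, 17]), (524, [24, 0, 23, 6, 3, 23, 4])])),
  (902, (lf [(152, [24, 0, 23, 5, 1, 16]), (100, [24, 0, 17, 1, 4, 8, 1])])),
  (1051, (lf [(73, [15, 3, 23, 21, 5, 1]), (475, [24, 0, 16, 3, 22, 8, 6])])),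
  (659, (lf [(51, [24, 0, 5, 22, 4, 1, 2]), (475, [24, 0, 6, 5, 24, 14, 0])])),
  (1038, (lf [(454, [24, 0, 23, 5, 1, 14, 8]), (27, [24, 0, 23, 0, 22, 6, 5])])),
  (944, (lf [(51, [12, 5, 23, 21, 5, 1, 8]), (288, [24, 0, 0, 23, 2, 18, 4])])),
  (821, (lf [(258, [24, 0, 14, 22, 3, 22, 3]), (27, [24, 0, 14, 4, 22, 18, 4])])),
  (752, (lf [(43, [24, 0, 6, 3, 18, 5, 3]), (100, [24, 0, 3, 1, 16, 8, 0])])),
  (878, (lf [(152, [24, 0, 23, 5, 12, 17, 0]), (524, [24, 0, 22, 5, 3, 14, 2])])),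
  (714, (lf [(73, [24, 0, 22, 10, 5, 8, 1]), (288, [21, 6, 5, 2, 23, 4, 0])])),
  (637, (lf [(581, [24, 0, 23, 5, 1, 12, 14]), (395, [24, 0, 0, 16, 1, 23, 0])])),
  (882, (lf [(429, [24, 0, 23, 5, 1, 17, 14]), (276, [24, 0, 6, 23, 1, 14])])),
  (828, (lf [(377, [24, 0, 3, 12, 18, 4, 2]), (338, [24, 0, 24, 23, 4, 14, 6])])),
  (698, (lf [(258, [15, 4, 16, 18, 5, 23, 0]), (431, [22, 2, 18, 5, 23, 18, 14])])),
  (859, (lf [(429, [24, 0, 23, 2, 18, 1, 2]), (276, [24, 0, 6, 23, 20, 1, 14])])),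
  (1030, (lf [(43, [24, 0, 0, 16, 2, 18, 5]), (524, [22, 5, 22, 0, 18, 14, 0])])),
  (743, (lf [(377, [24, 0, 12, 4, 2, 16, 6]), (338, [24, 0, 17, 2, 17, 4, 23])])),
  (981, (lf [(152, [24, 0, 6, 24, 4, 1, 3]), (100, [20, 5, 18, 24, 6, 4, 12])])),
  (848, (lf [(454, [24, 0, 22, 14, 16, 6, 1]), (431, [24, 0, 22, 8, 6, 3])])),
  (642, (lf [(51, [24, 0, 5, 1, 23, 23, 3]), (475, [23, 6, 24, 6, 24, 17, 3, 0])])),
  (1010, (lf [(508, [24, 0, 1, 18, 6, 0, 2]), (476, [24, 0, 22, 6, 23, 12, 18])])),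
  (1031, (lf [(454, [12, 2, 0, 23, 16, 5, 0]), (27, [20, 2, 1, 3, 23, 6, 4])])),
  (865, (lf [(258, [14, 2, 6, 23, 1, 14, 16]), (27, [21, 1, 16, 23, 6, 17, 4])])),
  (664, (lf [(429, [24, 0, 17, 12, 2, 14, 5]), (338, [24, 0, 12, 8, 18, 0, 0])])),
  (707, (lf [(43, [14, 5, 18, 2, 8, 6, 0]), (100, [24, 0, 22, 5, 12, 16, 0])])),
  (702, (lf [(377, [24, 0, 2, 12, 6, 17, 0]), (276, [24, 0, 20, 8, 6, 17, 2])])),
  (840, (lf [(152, [13, 4, 12, 5, 23, 16, 0]), (524, [24, 0, 8, 5, 12, 6, 2])])),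
  (955, (lf [(454, [13, 3, 17, 23, 17, 6, 1]), (431, [23, 1, 18, 6, 22, 5, 1])]))])

noncomputable def xk52 : CT := (.node 665 [] [] (nat_lit 0x0) (lf [(12, [24, 0, 6, 2, 1]), (593, [24, 0, 6, 2, 1, 24])]) (.node 781 [] [] (nat_lit 0x0) (lf [(113, [24, 0, 6, 2, 1, 8]), (451, [24, 0, 23, 1, 18, 14, 2])]) (.node 832 [] [] (nat_lit 0x0) (lf [(12, [24, 0, 6, 2, 1, 12]), (451, [24, 0, 5, 24, 14, 1, 3])]) (.node 798 [] [] (nat_lit 0x0) (lf [(314, [24, 0, 6, 2, 1, 14]), (74, [24, 0, 14, 6, 1, 3])]) (.node 945 [] [] (nat_lit 0x0) (lf [(59, [24, 0, 6, 2, 1, 17]), (60, [24, 0, 4, 23, 4])]) (.node 823 [] [] (nat_lit 0x0) (lf [(316, [24, 0, 6, 2, 1, 16]), (197, [24, 0, 4, 12, 24, 4])]) (.node 732 [] [] (nat_lit 0x0) (lf [(12, [24, 0, 20, 6, 2, 1]), (593, [3, 5, 2, 14, 16, 6, 3])]) (.node 707 [] [] (nat_lit 0x0) (lf [(113, [24, 0, 4, 23, 4, 17]), (593,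 [24, 0, 6, 3, 23, 5])]) (.node 720 [] [] (nat_lit 0x0) (lf [(113, [24, 0, 1, 16, 0, 4, 2]), (451, [2, 5, 4, 0, 2, 17])]) (.node 1026 [[10, 8]] [(314, 0)] (nat_lit 0x4000000000000000000000000000000000000000000000000000000000000000000000000000000) (lf [(314, [24, 0, 6, 2, 1, 14, 12])]) (.node 858 [] [] (nat_lit 0x0) (lf [(59, [24, 0, 21, 4, 0, 2]), (197, [24, 0, 4, 23, 4, 12, 8])]) (.node 921 [] [] (nat_lit 0x0) (lf [(316, [24, 0, 6, 2, 12, 17, 0]), (60, [24, 0, 4, 23, 4, 12, 10])]) (.node 824 [] [] (nat_lit 0x0) (lf [(12, [4, 5, 6, 3, 22, 5, 8]), (451, [24, 0, 6, 3, 24, 12, 5])]) (.node 776 [] [] (nat_lit 0x0) (lf [(601, [24, 0, 3, 1, 18, 1, 2]), (504, [24, 0, 12, 18, 24, 2, 1])]) (.node 1068 [] [] (nat_lit 0x0) (lf [(303, [24, 0, 16, 0, 8, 1]), (590, [24, 0, 23, 8, 6, 23, 2])]) (.node 746 [] [] (nat_lit 0x0) (lf [(207, [24, 0, 17, 12, 0, 8,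 1]), (487, [24, 0, 17, 4, 1, 8, 2])]) (.node 890 [] [] (nat_lit 0x0) (lf [(314, [24, 0, 3, 22, 6, 16, 0]), (74, [24, 0, 20, 14, 6, 1, 3])]) (.node 917 [] [] (nat_lit 0x0) (lf [(303, [24, 0, 20, 16, 0, 8, 1]), (590, [24, 0, 2, 23, 12, 6, 2])]) (.node 1042 [] [] (nat_lit 0x0) (lf [(59, [24, 0, 4, 0, 2, 12]), (60, [24, 0, 4, 23, 20, 4])]) (.node 741 [] [] (nat_lit 0x0) (lf [(207, [24, 0, 22, 1, 23, 14, 1]), (487, [24, 0, 4, 0, 18, 4, 16, 0])]) (.node 820 [] [] (nat_lit 0x0) (lf [(316, [24, 0, 23, 21, 0, 4, 2]), (197, [24, 0, 22, 0, 2, 8, 4])]) (.node 1051 [[10, 8]] [(335, 0)] (nat_lit 0x800000000000000000000000000000000000000000000000000000000000000000000000000000000000) (lf [(335, [24, 0, 12, 2, 22, 5, 0])]) (.node 752 [] [] (nat_lit 0x0) (lf [(113, [5, 5, 6, 3, 22, 5]), (593, [24, 0, 6, 3, 23, 21, 5])]) (.node 731 [[8]] [(601, 0)] (nat_lit 0x2000000000000000000000000000000000000000000000000000000000000000000000000000000000000000000000000000000000000000000000000000000000000000000000000000000)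 (lf [(601, [24, 0, 14, 6, 12, 1, 3])]) (.node 1062 [[10, 8]] [(314, 0)] (nat_lit 0x4000000000000000000000000000000000000000000000000000000000000000000000000000000) (lf [(314, [24, 0, 12, 8, 1, 8, 0])]) (.node 881 [] [] (nat_lit 0x0) (lf [(59, [24, 0, 4, 0, 2]), (197, [24, 0, 4, 0, 2, 24])]) (.node 935 [] [] (nat_lit 0x0) (lf [(316, [24, 0, 24, 8, 4, 0, 2]), (60, [24, 0, 4, 1, 2, 12, 0])]) (.node 987 [] [] (nat_lit 0x0) (lf [(263, [24, 0, 21, 4, 0, 2, 14]), (126, [24, 0, 14, 12, 1, 24, 18])]) (.node 719 [] [] (nat_lit 0x0) (lf [(82, [24, 0, 18, 16, 3, 22, 5]), (461, [24, 0, 5, 22, 17, 2, 0])]) (.node 855 [] [] (nat_lit 0x0) (lf [(601, [4, 2, 22, 6, 4, 14, 1]), (504, [5, 2, 0, 17, 6, 12, 18])]) (.node 809 [] [] (nat_lit 0x0) (lf [(461, [24, 0, 1, 17, 1, 8, 0]), (263, [24, 0, 1, 16, 1, 8, 0])]) (.node 1001 [] [] (nat_lit 0x0) (lf [(126, [24, 0,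 23, 1, 17, 12, 1]), (82, [24, 0, 12, 6, 23, 10, 2])]) (.node 710 [[8]] [(419, 0)] (nat_lit 0x800000000000000000000000000000000000000000000000000000000000000000000000000000000000000000000000000000000) (lf [(419, [24, 0, 23, 1, 8, 0])]) (.node 1014 [[10, 8]] [(335, 0)] (nat_lit 0x800000000000000000000000000000000000000000000000000000000000000000000000000000000000) (lf [(335, [24, 0, 12, 1, 12, 8, 0])]) (.node 714 [[8]] [(601, 0)] (nat_lit 0x2000000000000000000000000000000000000000000000000000000000000000000000000000000000000000000000000000000000000000000000000000000000000000000000000000000) (lf [(601, [3, 2, 0, 4, 1, 24, 5])]) (.node 689 [[8]] [(504, 0)] (nat_lit 0x1000000000000000000000000000000000000000000000000000000000000000000000000000000000000000000000000000000000000000000000000000000) (lf [(504, [2, 2, 4, 14, 16, 3, 1])]) .nil))))))))))))))))))))))))))))))))))))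

noncomputable def xk51 : CT := (nd [(660, (lf [(33, [24, 0, 6, 3, 1]), (353, [24, 0, 6, 23, 5, 12])])),
  (741, (lf [(130, [24, 0, 22, 0, 16, 0]), (525, [24, 0, 16, 5, 24, 3])])),
  (1065, (lf [(33, [24, 0, 6, 3, 1, 12]), (525, [24, 0, 6, 23, 5, 8])])),
  (646, (lf [(473, [24, 0, 0, 5, 8, 3]), (16, [24, 0, 0, 18, 8, 0, 2])])),
  (864, (lf [(126, [24, 0, 6, 3, 1, 17]), (82, [24, 0, 4, 2, 23, 4])])),
  (862, (lf [(174, [24, 0, 6, 3, 1, 16]), (336, [24, 0, 12, 18, 24, 18, 0])])),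
  (635, (lf [(33, [24, 0, 20, 6, 3, 1]), (353, [24, 0, 0, 16, 5, 2, 1])])),
  (1003, (lf [(130, [24, 0, 6, 22, 20, 5]), (353, [24, 0, 6, 23, 5])])),
  (649, (lf [(493, [24, 0, 8, 6, 24, 22, 6]), (486, [24, 0, 17, 18, 22, 16])])),
  (833, (lf [(130, [24, 0, 6, 22, 5, 12]), (525, [24, 0, 6, 22, 22, 3, 1])])),
  (964, (lf [(473, [24, 0, 18, 0, 23, 8, 1]), (486, [24, 0, 6, 23, 5, 14, 8])])),
  (1073, (lf [(126, [24, 0, 21, 4, 1, 3, 1]), (336, [24, 0, 6, 23, 5, 17])])),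
  (921, (lf [(174, [24, 0, 6, 3, 12, 17, 0]), (82, [24, 0, 6, 23, 5, 16])])),
  (1031, (lf [(33, [24, 0, 6, 22, 5, 8]), (525, [24, 0, 6, 24, 12, 5])])),
  (906, (lf [(532, [24, 0, 1, 18, 1, 2]), (593, [24, 0, 24, 3, 23, 24, 3])])),
  (969, (lf [(463, [24, 0, 2, 16, 0, 8, 1]), (603, [24, 0, 12, 5, 22, 18, 16])])),
  (1044, (lf [(347, [24, 0, 6, 14, 17, 0, 2]), (529, [24, 0, 1, 18, 14, 24, 0])])),
  (642, (lf [(473, [24, 0, 22, 6, 16, 0]), (16, [24, 0, 17, 18, 14, 23, 10])])),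
  (908, (lf [(463, [24, 0, 17, 5, 8, 2, 1]), (603, [24, 0, 3, 23, 12, 6, 2])])),
  (706, (lf [(126, [24, 0, 4, 1, 3, 1, 12]), (82, [24, 0, 17, 18, 23, 14])])),
  (978, (lf [(347, [24, 0, 17, 18, 22, 12]), (529, [24, 0, 17, 18, 24, 22, 12])])),
  (883, (lf [(174, [24, 0, 1, 8, 5, 3, 1]), (336, [24, 0, 6, 22, 5, 17])])),
  (1072, (lf [(493, [24, 0, 12, 8, 18, 24, 1]), (16, [24, 0, 6, 23, 5, 14])])),
  (1068, (lf [(130, [24, 0, 6, 22, 5]), (353, [24, 0, 6, 23, 21, 5])])),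
  (678, (lf [(546, [24, 0, 17, 18, 23, 17]), (577, [24, 0, 3, 8, 2, 23, 2])])),
  (733, (lf [(493, [24, 0, 24, 5, 0, 8, 0]), (486, [24, 0, 22, 6, 24, 16, 0])])),
  (1064, (lf [(463, [24, 0, 6, 12, 16, 14, 4]), (529, [24, 0, 6, 23, 5, 17, 14])])),
  (719, (lf [(347, [24, 0, 17, 18, 22, 20]), (603, [24, 0, 2, 23, 6, 23, 2])])),
  (952, (lf [(473, [24, 0, 0, 18, 24, 12, 4]), (486, [24, 0, 1, 18, 14, 16, 1])])),
  (1075, (lf [(126, [24, 0, 4, 1, 3, 1]), (336, [24, 0, 1, 24, 5, 12, 5])])),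
  (935, (lf [(174, [24, 0, 1, 5, 23, 10, 5]), (82, [24, 0, 1, 5, 22, 21, 5])])),
  (914, (lf [(45, [24, 0, 24, 20, 18, 16, 0]), (310, [24, 0, 4, 3, 17, 23, 0])]))])

noncomputable def xk50 : CT := (nd [(731, (lf [(58, [24, 0, 1, 3, 1]), (320, [24, 0, 1, 23, 5, 12])])),
  (990, (lf [(89, [24, 0, 3, 22, 18, 2]), (294, [24, 0, 1, 23, 5, 12, 8])])),
  (1072, (lf [(58, [24, 0, 1, 3, 1, 12]), (294, [24, 0, 2, 23, 20, 4])])),
  (877, (lf [(259, [24, 0, 1, 3, 1, 14]), (110, [24, 0, 3, 8, 18, 6, 1])])),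
  (802, (lf [(390, [24, 0, 1, 3, 1, 17]), (61, [24, 0, 23, 2, 14, 4, 8])])),
  (727, (lf [(211, [24, 0, 1, 3, 1, 16]), (160, [24, 0, 21, 6, 5, 3, 1])])),
  (782, (lf [(58, [24, 0, 21, 1, 3, 1]), (320, [24, 0, 2, 23, 4, 12, 8])])),
  (866, (lf [(89, [24, 0, 1, 22, 20, 5]), (320, [24, 0, 1, 23, 5])])),
  (969, (lf [(208, [24, 0, 5, 24, 18, 16, 0]), (519, [24, 0, 16, 5, 18, 12])])),
  (992, (lf [(89, [24, 0, 1, 22, 5, 12]), (294, [24, 0, 2, 23, 4, 12])])),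
  (772, (lf [(259, [24, 0, 16, 5, 18, 24]), (519, [24, 0, 16, 5, 18])])),
  (973, (lf [(390, [24, 0, 6, 5, 24, 12, 5]), (160, [24, 0, 1, 23, 5, 17])])),
  (746, (lf [(211, [24, 0, 1, 3, 12, 17, 0]), (61, [24, 0, 1, 23, 5, 16])])),
  (1066, (lf [(58, [24, 0, 1, 22, 5, 8]), (294, [24, 0, 2, 23, 4])])),
  (1052, (lf [(574, [24, 0, 6, 18, 1, 2]), (520, [24, 0, 6, 1, 8, 0, 5])])),
  (649, (lf [(503, [24, 0, 6, 4, 17, 1, 3]), (604, [24, 0, 18, 16, 14, 4, 0])])),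
  (895, (lf [(452, [24, 0, 1, 14, 17, 0, 2]), (425, [24, 0, 6, 18, 14, 24, 0])])),
  (987, (lf [(259, [24, 0, 3, 17, 23, 12, 0]), (110, [24, 0, 16, 23, 1, 18, 3, 0])])),
  (724, (lf [(503, [24, 0, 2, 16, 14, 3, 1]), (604, [24, 0, 18, 14, 16, 4, 0])])),
  (790, (lf [(390, [24, 0, 5, 16, 5, 24, 3]), (61, [24, 0, 1, 22, 5, 16])])),
  (903, (lf [(452, [24, 0, 1, 3, 1, 14, 16]), (425, [24, 0, 24, 1, 14, 6, 1])])),
  (639, (lf [(211, [24, 0, 6, 8, 5, 3, 1]), (160, [24, 0, 1, 22, 5, 17])])),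
  (1065, (lf [(208, [24, 0, 16, 5, 18, 24, 8]), (110, [24, 0, 16, 5, 18, 8])])),
  (853, (lf [(89, [24, 0, 1, 22, 5]), (320, [24, 0, 1, 23, 21, 5])])),
  (914, (lf [(585, [24, 0, 23, 18, 12, 6, 1]), (396, [24, 0, 2, 22, 4, 12, 14])])),
  (857, (lf [(208, [24, 0, 17, 0, 0, 22, 0]), (519, [24, 0, 3, 17, 23, 10, 0])])),
  (979, (lf [(574, [24, 0, 6, 18, 1, 2, 12]), (396, [24, 0, 1, 23, 5, 12, 14])])),
  (701, (lf [(503, [24, 0, 1, 12, 16, 14, 4]), (425, [24, 0, 1, 23, 5, 17, 14])])),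
  (764, (lf [(452, [24, 0, 2, 16, 14, 22, 5]), (604, [24, 0, 1, 17, 14, 23, 4])])),
  (748, (lf [(259, [24, 0, 20, 17, 0, 5, 3]), (519, [24, 0, 2, 23, 4, 14])])),
  (815, (lf [(503, [24, 0, 1, 12, 14, 16, 4]), (425, [24, 0, 5, 1, 18, 1, 2])])),
  (1000, (lf [(390, [24, 0, 4, 17, 22, 18, 0]), (160, [24, 0, 6, 24, 5, 12, 5])])),
  (811, (lf [(452, [24, 0, 5, 12, 0, 18, 3]), (604, [24, 0, 23, 12, 2, 23])])),
  (825, (lf [(211, [24, 0, 6, 5, 23, 10, 5]), (61, [24, 0, 6, 5, 22, 21, 5])])),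
  (759, (lf [(193, [24, 0, 2, 12, 4, 12]), (328, [24, 0, 18, 23, 0, 23, 0])])),
  (642, (lf [(491, [24, 0, 17, 5, 0, 17, 2]), (312, [24, 0, 3, 18, 0, 23, 2])])),
  (678, (lf [(48, [24, 0, 0, 22, 5, 23, 0]), (333, [24, 0, 3, 1, 18, 8, 5])])),
  (966, (lf [(574, [24, 0, 0, 12, 5, 17, 1]), (520, [24, 0, 14, 17, 24, 3, 14])])),
  (960, (lf [(333, [24, 0, 1, 12, 18, 1, 1]), (491, [24, 0, 8, 5, 2, 18, 12])])),
  (784, (lf [(312, [24, 0, 5, 22, 6, 16, 0]), (48, [24, 0, 1, 14, 24, 17, 4])])),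
  (883, (lf [(333, [24, 0, 1, 14, 23, 14, 4]), (491, [24, 0, 24, 8, 0, 18])])),
  (806, (lf [(312, [24, 0, 4, 1, 4, 3, 1]), (48, [24, 0, 1, 17, 14, 12, 4])])),
  (1068, (lf [(585, [24, 0, 24, 23, 2, 16, 0]), (520, [24, 0, 0, 18, 1, 17, 4])])),
  (951, (lf [(208, [24, 0, 23, 1, 18, 6, 2, 0]), (110, [24, 0, 2, 23, 4, 14, 8])])),
  (1073, (lf [(134, [24, 0, 1, 24, 8, 3, 1]), (18, [24, 0, 16, 14, 24, 8, 3])])),
  (747, (lf [(585, [24, 0, 1, 22, 5, 14]), (396, [24, 0, 22, 0, 4, 16, 4])])),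
  (1013, (lf [(193, [24, 0, 2, 12, 4]), (18, [24, 0, 1, 23, 24, 5])])),
  (818, (lf [(574, [24, 0, 14, 24, 8, 5, 2]), (396, [24, 0, 17, 18, 0, 5, 1])])),
  (684, (lf [(333, [24, 0, 12, 14, 6, 12, 3]), (48, [24, 0, 8, 4, 18, 1, 3])])),
  (646, (lf [(312, [24, 0, 3, 0, 22, 8, 0]), (491, [24, 0, 16, 12, 18, 14, 5])])),
  (952, (lf [(134, [24, 0, 2, 23, 24, 4]), (328, [24, 0, 2, 22, 4])])),
  (834, (lf [(9, [24, 0, 2, 22, 4, 17, 8]), (324, [24, 0, 2, 22, 4, 12, 16])])),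
  (1025, (lf [(511, [24, 0, 2, 22, 4, 16, 8]), (216, [24, 0, 2, 22, 4, 12, 17])])),
  (872, (lf [(193, [24, 0, 21, 2, 12, 4, 12]), (328, [24, 0, 2, 24, 8, 0, 2])])),
  (898, (lf [(9, [24, 0, 14, 6, 16, 1, 3]), (324, [24, 0, 14, 12, 17, 3, 17])])),
  (1061, (lf [(511, [24, 0, 5, 17, 1, 1, 5]), (216, [24, 0, 12, 3, 24, 14, 2])])),
  (793, (lf [(216, [24, 0, 1, 14, 6, 8, 6]), (9, [24, 0, 8, 4, 17, 24, 2])])),
  (631, (lf [(324, [24, 0, 24, 22, 18, 17, 5]), (511, [24, 0, 24, 8, 0, 18, 14])])),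
  (804, (lf [(216, [24, 0, 23, 0, 22, 14, 0]), (9, [24, 0, 5, 17, 2, 22, 0])])),
  (917, (lf [(520, [24, 0, 1, 12, 5, 23, 14]), (585, [24, 0, 16, 18, 5, 18, 8])])),
  (660, (lf [(324, [24, 0, 23, 0, 18, 6, 1]), (511, [24, 0, 12, 3, 18, 17, 0])])),
  (1067, (lf [(134, [24, 0, 2, 22, 22, 0, 2]), (18, [24, 0, 14, 12, 17, 3])])),
  (1007, (lf [(193, [24, 0, 21, 2, 12, 4]), (18, [24, 0, 1, 23, 24, 21, 5])])),
  (964, (lf [(134, [24, 0, 17, 2, 8, 6]), (328, [24, 0, 2, 22, 21, 4])]))])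

noncomputable def xk49 : CT := (nd [(937, (lf [(108, [18, 3, 5, 1, 1]), (439, [12, 4, 17, 6, 5, 12])])),
  (756, (lf [(2, [10, 3, 5, 1, 1, 8]), (422, [15, 1, 17, 6, 5, 12, 8])])),
  (681, (lf [(108, [21, 2, 6, 16, 22, 3]), (422, [8, 6, 17, 6, 5, 8])])),
  (840, (lf [(517, [18, 4, 5, 1, 1, 14]), (117, [24, 0, 17, 1, 18, 17, 6])])),
  (824, (lf [(181, [24, 0, 17, 0, 23, 3]), (46, [24, 0, 17, 6, 5, 24, 16])])),
  (836, (lf [(283, [24, 0, 5, 1, 1, 16]), (113, [24, 0, 4, 12, 14, 8, 3])])),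
  (927, (lf [(108, [24, 0, 21, 5, 1, 1]), (439, [24, 0, 16, 2, 16, 24, 1])])),
  (862, (lf [(2, [23, 2, 17, 6, 5, 24]), (439, [16, 6, 17, 6, 5])])),
  (673, (lf [(445, [10, 4, 16, 0, 8, 18]), (429, [24, 0, 16, 0, 8, 18, 24])])),
  (701, (lf [(2, [24, 0, 4, 18, 5, 3]), (422, [24, 0, 23, 16, 24, 6, 0])])),
  (999, (lf [(517, [24, 0, 22, 12, 18, 16]), (429, [8, 1, 6, 8, 18, 8, 4])])),
  (843, (lf [(181, [24, 0, 2, 24, 20, 14, 0]), (113, [24, 0, 17, 6, 5, 17])])),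
  (728, (lf [(283, [24, 0, 5, 1, 12, 17, 0]), (46, [24, 0, 17, 6, 5, 16])])),
  (652, (lf [(108, [24, 0, 6, 8, 23, 14, 3]), (422, [24, 0, 5, 0, 3, 23, 4])])),
  (826, (lf [(499, [21, 5, 17, 23, 1, 5, 1]), (187, [24, 0, 12, 4, 24, 6, 4])])),
  (810, (lf [(175, [24, 0, 5, 18, 23, 12, 5]), (573, [24, 0, 22, 21, 12, 18])])),
  (817, (lf [(221, [24, 0, 18, 8, 0, 4, 3]), (545, [24, 0, 22, 20, 12, 18, 8])])),
  (968, (lf [(517, [24, 0, 24, 16, 18, 23, 4]), (117, [24, 0, 8, 0, 17, 23, 3])])),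
  (901, (lf [(175, [24, 0, 5, 23, 24, 18, 0]), (573, [24, 0, 22, 12, 18, 10])])),
  (832, (lf [(181, [24, 0, 17, 0, 23, 20, 3]), (46, [24, 0, 8, 18, 17, 2, 0])])),
  (972, (lf [(221, [24, 0, 22, 12, 18, 24, 8]), (545, [24, 0, 22, 12, 18, 8])])),
  (922, (lf [(283, [24, 0, 5, 24, 6, 8, 1]), (113, [24, 0, 5, 14, 10, 0, 5, 0])])),
  (641, (lf [(445, [24, 0, 18, 17, 0, 18, 1]), (117, [16, 1, 17, 6, 5, 14])])),
  (971, (lf [(2, [24, 0, 6, 0, 18, 14, 5]), (439, [24, 0, 16, 2, 17, 1])])),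
  (875, (lf [(613, [23, 5, 4, 14, 1, 18, 12]), (440, [24, 0, 24, 20, 0, 17, 2])])),
  (697, (lf [(445, [24, 0, 4, 18, 5, 3, 14]), (429, [24, 0, 23, 0, 12, 6, 0])])),
  (1043, (lf [(499, [24, 0, 2, 14, 3, 12, 0]), (440, [12, 3, 14, 5, 22, 18, 3])])),
  (941, (lf [(175, [24, 0, 22, 2, 0, 24, 2]), (545, [24, 0, 5, 18, 5, 23, 10])])),
  (864, (lf [(221, [24, 0, 4, 22, 2, 22, 2]), (573, [24, 0, 22, 1, 24, 5, 2])])),
  (1021, (lf [(517, [24, 0, 14, 17, 6, 1, 2]), (429, [24, 0, 16, 1, 8, 1, 4])])),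
  (944, (lf [(175, [24, 0, 2, 16, 1, 14, 0]), (545, [24, 0, 2, 24, 8, 18, 2])])),
  (979, (lf [(181, [24, 0, 2, 24, 14, 0]), (113, [24, 0, 0, 14, 1, 5, 1])])),
  (764, (lf [(221, [24, 0, 5, 18, 12, 3, 1]), (573, [24, 0, 22, 12, 18, 12])])),
  (719, (lf [(283, [24, 0, 16, 24, 18, 0, 18]), (46, [24, 0, 2, 24, 14, 12, 0])])),
  (858, (lf [(570, [24, 0, 5, 8, 23, 18, 1]), (419, [24, 0, 4, 2, 23, 21, 1])])),
  (784, (lf [(557, [24, 0, 12, 0, 5, 0, 5]), (222, [24, 0, 4, 22, 18, 22, 1])])),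
  (814, (lf [(65, [24, 0, 18, 5, 18, 5]), (255, [24, 0, 5, 18, 8, 5])])),
  (771, (lf [(499, [24, 0, 12, 1, 17, 2, 1]), (187, [24, 0, 22, 8, 5, 8, 6])])),
  (651, (lf [(255, [24, 0, 18, 14, 4, 8, 6]), (557, [24, 0, 2, 23, 4, 17, 6])])),
  (799, (lf [(222, [24, 0, 4, 3, 18, 22, 0]), (65, [24, 0, 5, 18, 5, 22])])),
  (700, (lf [(255, [24, 0, 6, 0, 18, 17, 4]), (557, [24, 0, 6, 16, 12, 0, 3])])),
  (788, (lf [(222, [24, 0, 23, 14, 3, 18, 6]), (65, [24, 0, 5, 16, 5, 14, 2])])),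
  (732, (lf [(613, [24, 0, 4, 14, 1, 18]), (187, [15, 6, 2, 14, 10, 3, 0])])),
  (683, (lf [(445, [24, 0, 4, 3, 24, 6, 0]), (117, [24, 0, 16, 2, 17, 1, 14])])),
  (743, (lf [(572, [24, 0, 17, 24, 22, 18, 17]), (152, [24, 0, 1, 17, 4, 14, 3])])),
  (913, (lf [(613, [24, 0, 22, 16, 3, 18, 0]), (440, [24, 0, 24, 0, 17, 2])])),
  (1024, (lf [(570, [24, 0, 24, 12, 2, 18, 1]), (152, [24, 0, 17, 6, 24, 5])])),
  (962, (lf [(499, [24, 0, 23, 16, 0, 22, 2]), (440, [24, 0, 24, 0, 17, 2, 12])])),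
  (667, (lf [(255, [24, 0, 21, 5, 18, 8, 5]), (65, [24, 0, 14, 16, 24, 4, 2])])),
  (806, (lf [(222, [24, 0, 24, 0, 16, 6, 5, 0]), (557, [24, 0, 2, 24, 14, 0, 14])])),
  (664, (lf [(572, [24, 0, 8, 23, 2, 12, 1]), (419, [24, 0, 5, 2, 12, 1, 3])])),
  (758, (lf [(75, [24, 0, 8, 23, 2, 17, 0]), (214, [24, 0, 5, 18, 8, 5, 14])])),
  (704, (lf [(627, [24, 0, 3, 23, 16, 12, 3]), (467, [24, 0, 12, 17, 22, 18, 12])])),
  (970, (lf [(570, [24, 0, 1, 18, 1, 8, 1]), (419, [24, 0, 4, 2, 23, 10, 1])])),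
  (775, (lf [(75, [24, 0, 23, 6, 5, 0, 0]), (214, [24, 0, 12, 24, 18, 17, 3])])),
  (754, (lf [(627, [24, 0, 23, 16, 18, 22, 0]), (467, [24, 0, 22, 12, 18, 14, 12])])),
  (695, (lf [(467, [24, 0, 22, 12, 18, 14]), (75, [24, 0, 5, 22, 5, 14, 1])])),
  (730, (lf [(214, [24, 0, 22, 24, 6, 4, 8, 0]), (627, [24, 0, 24, 23, 6, 18, 2])])),
  (911, (lf [(467, [24, 0, 12, 17, 22, 18]), (75, [24, 0, 5, 18, 5, 22, 14])])),
  (648, (lf [(187, [24, 0, 21, 2, 14, 3, 0]), (613, [24, 0, 5, 18, 5, 22, 16])])),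
  (793, (lf [(214, [24, 0, 17, 24, 22, 18, 8]), (627, [24, 0, 16, 4, 12, 2, 18])])),
  (808, (lf [(572, [24, 0, 4, 18, 3, 24, 5]), (152, [24, 0, 4, 12, 18, 1, 4])])),
  (1017, (lf [(570, [24, 0, 17, 6, 4, 24, 4]), (152, [24, 0, 20, 2, 18, 3, 0])])),
  (710, (lf [(572, [24, 0, 4, 16, 1, 14, 1]), (419, [24, 0, 4, 2, 24, 23, 1])]))])

noncomputable def xk48 : CT := (nd [(948, (lf [(591, [24, 0, 3, 23]), (225, [24, 0, 3, 23, 24])])),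
  (735, (lf [(93, [24, 0, 3, 23, 8]), (216, [24, 0, 3, 23, 24, 8])])),
  (638, (lf [(591, [24, 0, 3, 23, 12]), (216, [24, 0, 3, 23, 12, 24])])),
  (924, (lf [(622, [24, 0, 3, 23, 14]), (436, [24, 0, 3, 23, 14, 24])])),
  (755, (lf [(629, [10, 2, 3, 23, 17]), (59, [24, 0, 3, 23, 17, 24])])),
  (929, (lf [(513, [18, 2, 3, 23, 16]), (471, [24, 0, 23, 16, 18, 4])])),
  (954, (lf [(591, [24, 0, 3, 23, 21]), (225, [24, 0, 3, 23, 24, 21])])),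
  (1077, (lf [(93, [24, 0, 3, 23, 12, 8]), (225, [24, 0, 22, 18, 10, 1])])),
  (1021, (lf [(43, [24, 0, 3, 23, 14, 8]), (516, [24, 0, 8, 0, 16, 0, 5])])),
  (885, (lf [(93, [24, 0, 3, 23, 21, 8]), (216, [24, 0, 3, 24, 23, 20])])),
  (908, (lf [(622, [24, 0, 3, 23, 14, 12]), (516, [24, 0, 8, 18, 17, 0, 3])])),
  (966, (lf [(629, [24, 0, 3, 23, 17, 12]), (471, [16, 4, 3, 14, 5, 8, 4])])),
  (1033, (lf [(513, [24, 0, 3, 23, 16, 12]), (59, [8, 4, 17, 14, 0, 17, 3])])),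
  (643, (lf [(591, [24, 0, 3, 23, 21, 12]), (216, [24, 0, 2, 1, 8, 0, 2])])),
  (926, (lf [(26, [24, 0, 3, 23, 12, 14]), (28, [24, 0, 3, 22, 14, 8])])),
  (988, (lf [(416, [10, 5, 3, 23, 17, 14]), (595, [21, 4, 0, 14, 1, 17, 4])])),
  (1039, (lf [(396, [18, 5, 3, 23, 16, 14]), (574, [23, 4, 10, 0, 8, 1, 3])])),
  (877, (lf [(622, [24, 0, 3, 17, 22, 10]), (436, [24, 0, 3, 12, 16, 22])])),
  (995, (lf [(416, [24, 0, 3, 23, 14, 17]), (595, [24, 0, 0, 3, 18, 5, 12])])),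
  (767, (lf [(629, [24, 0, 3, 23, 21, 17]), (59, [24, 0, 3, 14, 24, 22, 10])])),
  (1047, (lf [(396, [24, 0, 3, 14, 22, 14]), (574, [24, 0, 20, 0, 8, 1, 3])])),
  (931, (lf [(513, [24, 0, 3, 14, 22]), (471, [24, 0, 14, 22, 18, 4])])),
  (633, (lf [(43, [24, 0, 6, 24, 5, 8, 1]), (436, [24, 0, 3, 17, 5, 8, 4])])),
  (1034, (lf [(93, [24, 0, 4, 3, 22, 12, 5]), (225, [24, 0, 22, 20, 18, 1])])),
  (712, (lf [(474, [24, 0, 3, 22, 14, 24]), (203, [24, 0, 3, 22, 14])])),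
  (1030, (lf [(43, [24, 0, 3, 16, 22, 10]), (516, [24, 0, 3, 12, 17, 22])])),
  (1056, (lf [(26, [24, 0, 16, 2, 14, 17, 0]), (203, [24, 0, 3, 22, 14, 12])])),
  (1066, (lf [(416, [15, 2, 24, 22, 21, 18, 0]), (574, [16, 3, 22, 12, 4, 18])])),
  (872, (lf [(396, [12, 1, 14, 1, 17, 8, 0]), (595, [8, 3, 18, 0, 4, 23, 0])])),
  (969, (lf [(622, [24, 0, 3, 24, 17, 23]), (516, [24, 0, 3, 17, 4, 8, 5])])),
  (1071, (lf [(416, [24, 0, 24, 22, 18, 10, 0]), (574, [24, 0, 0, 3, 18, 5, 8])])),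
  (978, (lf [(629, [24, 0, 4, 18, 16, 0, 0]), (471, [24, 0, 0, 0, 22, 16, 0])])),
  (855, (lf [(396, [24, 0, 20, 14, 1, 16, 0]), (595, [24, 0, 0, 3, 18, 10, 5])])),
  (848, (lf [(513, [24, 0, 3, 14, 22, 12]), (59, [24, 0, 14, 17, 0, 17, 3])])),
  (742, (lf [(119, [24, 0, 3, 22, 24, 10]), (197, [24, 0, 3, 22, 10])])),
  (1060, (lf [(582, [24, 0, 16, 5, 24, 14, 2]), (229, [24, 0, 3, 22, 17, 14])])),
  (700, (lf [(42, [24, 0, 6, 0, 22, 6]), (439, [24, 0, 3, 22, 16, 14])])),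
  (936, (lf [(26, [24, 0, 3, 16, 24, 23]), (28, [24, 0, 3, 17, 23, 10])])),
  (971, (lf [(439, [24, 0, 5, 0, 3, 18, 4]), (582, [24, 0, 18, 8, 23, 12, 18])])),
  (659, (lf [(229, [24, 0, 14, 6, 8, 4, 3]), (42, [24, 0, 5, 14, 2, 16, 0])])),
  (960, (lf [(439, [24, 0, 16, 2, 14, 12, 1]), (582, [24, 0, 16, 6, 24, 6, 17])])),
  (642, (lf [(229, [24, 0, 23, 12, 2, 23, 0]), (42, [24, 0, 12, 0, 5, 22, 1])])),
  (871, (lf [(474, [24, 0, 4, 14, 16, 6, 0]), (28, [24, 0, 12, 17, 6, 18, 6])])),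
  (644, (lf [(43, [24, 0, 3, 24, 16, 23]), (436, [24, 0, 1, 18, 14, 1, 3])])),
  (907, (lf [(465, [24, 0, 3, 24, 22, 10]), (61, [24, 0, 3, 8, 22])])),
  (718, (lf [(474, [24, 0, 3, 17, 24, 23]), (203, [24, 0, 3, 16, 23, 10])])),
  (837, (lf [(119, [24, 0, 3, 12, 24, 23]), (61, [24, 0, 3, 8, 22, 12])])),
  (1004, (lf [(26, [24, 0, 16, 2, 17, 14, 0]), (203, [24, 0, 3, 24, 16, 22])])),
  (670, (lf [(439, [24, 0, 3, 22, 14, 16]), (42, [24, 0, 12, 8, 1, 18, 0])])),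
  (1062, (lf [(229, [24, 0, 3, 14, 23, 14]), (582, [24, 0, 8, 0, 23, 4, 1])])),
  (937, (lf [(465, [24, 0, 3, 24, 22, 12]), (197, [24, 0, 3, 22, 12])])),
  (707, (lf [(7, [15, 5, 3, 22, 16, 24]), (627, [24, 0, 3, 22, 16])])),
  (695, (lf [(180, [12, 6, 3, 22, 17, 24]), (36, [24, 0, 3, 22, 17])])),
  (691, (lf [(119, [24, 0, 3, 22, 24, 20]), (197, [24, 0, 3, 22, 20])])),
  (841, (lf [(7, [24, 0, 3, 14, 24, 23]), (627, [24, 0, 3, 22, 21, 16])])),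
  (914, (lf [(180, [24, 0, 3, 14, 23, 24]), (36, [24, 0, 3, 14, 23])])),
  (826, (lf [(36, [24, 0, 3, 14, 23, 12]), (7, [24, 0, 0, 17, 4, 3, 1])])),
  (720, (lf [(627, [24, 0, 3, 24, 14, 23]), (180, [24, 0, 4, 17, 6, 0, 17])])),
  (867, (lf [(36, [21, 3, 3, 22, 17, 12]), (7, [24, 0, 4, 0, 14, 8, 1])])),
  (854, (lf [(28, [24, 0, 3, 17, 23, 12]), (474, [24, 0, 4, 16, 14, 6, 0])])),
  (713, (lf [(627, [23, 3, 3, 22, 16, 12]), (180, [24, 0, 0, 18, 14, 0, 3])])),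
  (896, (lf [(465, [24, 0, 3, 24, 22, 20]), (61, [24, 0, 3, 22, 20, 8])])),
  (830, (lf [(119, [24, 0, 5, 3, 8, 4]), (61, [24, 0, 1, 14, 12, 17, 2])])),
  (927, (lf [(465, [24, 0, 4, 16, 8, 6, 0]), (197, [24, 0, 3, 22, 21, 12])]))])


end Cfsg.Agent.Lib.ONE
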