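import Cfsg.Agent.Lib.BT7
import Cfsg.Agent.Lib.TCHP1
import Cfsg.Agent.Lib.TCOP1
import Cfsg.Agent.Lib.TCOP2
import Cfsg.Agent.Lib.TCOP3
import Cfsg.Agent.Lib.TCOP4
import Cfsg.Agent.Lib.TCOP5
import Cfsg.Agent.Lib.TCOP6
import Cfsg.Agent.Lib.TCOP7
import Cfsg.Agent.Lib.TCOP8

/-! Presentations of the fourfold covers of `L₃(4)` by elements of odd order, and of some extensions. -/

set_option autoImplicit false
set_option maxRecDepth 100000

namespace Cfsg.Agent.Lib.ONP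

open Cfsg.Agent.Lib.PermNet Cfsg.Agent.Lib.Words Cfsg.Agent.Lib.PermGroup Cfsg.Agent.Lib.DCE Cfsg.Agent.Lib.PermModel Cfsg.Agent.Lib.BT

/-- The conjugation relations. -/
def RB : List (List ℕ × List ℕ × List ℕ) := [([2], [0], [0, 0]),
  ([2], [4], [4]),
  ([0, 5, 0, 5, 0, 5, 0, 5, 0], [2], [2]),
  ([0, 5, 1, 5, 0, 4, 1, 4, 0], [2], [3]),
  ([0, 4, 0, 4, 0, 4, 0, 4, 0], [2], [2]),
  ([1, 2, 4, 0, 5, 1, 4, 3, 0], [4], [3]),
  ([1, 2, 4, 0, 5, 1, 4, 3, 0], [2], [4])]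

/-- The relators of the covering group. -/
def KE : List (List ℕ) := [[0, 0, 0, 0, 0, 0, 0],
  [2, 2, 2],
  [4, 4, 4],
  [2, 0, 3, 1, 1],
  [2, 4, 3, 5],
  [0, 5, 0, 5, 0, 5, 0, 5, 0, 2, 1, 4, 1, 4, 1, 4, 1, 4, 1, 3],
  [0, 5, 1, 5, 0, 4, 1, 4, 0, 2, 1, 5, 0, 5, 1, 4, 0, 4, 1, 2],
  [0, 4, 0, 4, 0, 4, 0, 4, 0, 2, 1, 5, 1, 5, 1, 5, 1, 5, 1, 3],
  [1, 2, 4, 0, 5, 1, 4, 3, 0, 4, 1, 2, 5, 0, 4, 1, 5, 3, 0, 2],
  [1, 2, 4, 0, 5, 1, 4, 3, 0, 2, 1, 2, 5, 0, 4, 1, 5, 3, 0, 5]]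

def z1 : List ℕ := [0, 4, 0, 4, 0, 4, 0, 4, 0, 4]

def z2 : List ℕ := [0, 2, 4, 0, 2, 4, 0, 2, 4, 0, 2, 4, 0, 2, 4]

def z3 : List ℕ := [0, 3, 4, 0, 3, 4, 0, 3, 4, 0, 3, 4, 0, 3, 4]

def K1 : List (List ℕ) := KE ++ [z1]

def K2 : List (List ℕ) := KE ++ [z2 ++ invW z3]

def K3 : List (List ℕ) := KE ++ [z2 ++ z3]

def KL : List (List ℕ) := KE ++ [z1, z2]

/-- The relators of an outer involution. -/
def cr (W : List (List ℕ)) : List (List ℕ) :=
  [[6, 0, 7] ++ invW (W.getD 0 []), [6, 2, 7] ++ invW (W.getD 1 []), [6, 4, 7] ++ invW (W.getD 2 []), [6, 6]]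

def W21 : List (List ℕ) := [[1], [2], [4]]

def W22 : List (List ℕ) := [[0], [2], [5]]

def W23 : List (List ℕ) := [[1], [2], [5]]

def KX21 : List (List ℕ) := KL ++ cr W21

def KX22 : List (List ℕ) := KL ++ cr W22

def KX23 : List (List ℕ) := KL ++ cr W23

def KH : List (List ℕ) := K2 ++ cr W21

theorem b0 {X : Type*} [Group X] (z : ℕ → X) (hz : ∀ w ∈ KE, wval z w = 1) :
    (gp z []).relIndex (gp z [[0], [2]]) ≠ 0 ∧
    (gp z []).relIndex (gp z [[0], [2]]) ≤ 21 :=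
  tc_wrap [] hz [[0], [1], [2], [3]] TCHP1.bound _ _ (by decide +kernel)

theorem b1 {X : Type*} [Group X] (z : ℕ → X) (hz : ∀ w ∈ K1, wval z w = 1) :
    (gp z [[0], [2]]).relIndex (gp z [[0], [2], [4]]) ≠ 0 ∧
    (gp z [[0], [2]]).relIndex (gp z [[0], [2], [4]]) ≤ 3840 :=
  tc_wrap [] hz [[0], [1], [2], [3], [4], [5]] TCOP1.bound _ _ (by decide +kernel)

theorem b2 {X : Type*} [Group X] (z : ℕ → X) (hz : ∀ w ∈ K2, wval z w = 1) :
    (gp z [[0], [2]]).relIndex (gp z [[0], [2], [4]]) ≠ 0 ∧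
    (gp z [[0], [2]]).relIndex (gp z [[0], [2], [4]]) ≤ 3840 :=
  tc_wrap [] hz [[0], [1], [2], [3], [4], [5]] TCOP2.bound _ _ (by decide +kernel)

theorem b3 {X : Type*} [Group X] (z : ℕ → X) (hz : ∀ w ∈ K3, wval z w = 1) :
    (gp z [[0], [2]]).relIndex (gp z [[0], [2], [4]]) ≠ 0 ∧
    (gp z [[0], [2]]).relIndex (gp z [[0], [2], [4]]) ≤ 3840 :=
  tc_wrap [] hz [[0], [1], [2], [3], [4], [5]] TCOP3.bound _ _ (by decide +kernel)

theorem bL {X : Type*} [Group X] (z : ℕ → X) (hz : ∀ w ∈ KL, wval z w = 1) :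
    (gp z [[0], [2]]).relIndex (gp z [[0], [2], [4]]) ≠ 0 ∧
    (gp z [[0], [2]]).relIndex (gp z [[0], [2], [4]]) ≤ 960 :=
  tc_wrap [] hz [[0], [1], [2], [3], [4], [5]] TCOP4.bound _ _ (by decide +kernel)

theorem b21 {X : Type*} [Group X] (z : ℕ → X) (hz : ∀ w ∈ KX21, wval z w = 1) :
    (gp z [[0], [2], [4]]).relIndex (gp z [[0], [2], [4], [6]]) ≠ 0 ∧
    (gp z [[0], [2], [4]]).relIndex (gp z [[0], [2], [4], [6]]) ≤ 2 :=
  tc_wrap [] hz [[0], [1], [2], [3], [4], [5], [6], [7]] TCOP5.bound _ _ (by decide +kernel)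

theorem b22 {X : Type*} [Group X] (z : ℕ → X) (hz : ∀ w ∈ KX22, wval z w = 1) :
    (gp z [[0], [2], [4]]).relIndex (gp z [[0], [2], [4], [6]]) ≠ 0 ∧
    (gp z [[0], [2], [4]]).relIndex (gp z [[0], [2], [4], [6]]) ≤ 2 :=
  tc_wrap [] hz [[0], [1], [2], [3], [4], [5], [6], [7]] TCOP6.bound _ _ (by decide +kernel)

theorem b23 {X : Type*} [Group X] (z : ℕ → X) (hz : ∀ w ∈ KX23, wval z w = 1) :
    (gp z [[0], [2], [4]]).relIndex (gp z [[0], [2], [4], [6]]) ≠ 0 ∧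
    (gp z [[0], [2], [4]]).relIndex (gp z [[0], [2], [4], [6]]) ≤ 2 :=
  tc_wrap [] hz [[0], [1], [2], [3], [4], [5], [6], [7]] TCOP7.bound _ _ (by decide +kernel)

theorem bH {X : Type*} [Group X] (z : ℕ → X) (hz : ∀ w ∈ KH, wval z w = 1) :
    (gp z [[0], [2], [4]]).relIndex (gp z [[0], [2], [4], [6]]) ≠ 0 ∧
    (gp z [[0], [2], [4]]).relIndex (gp z [[0], [2], [4], [6]]) ≤ 2 :=
  tc_wrap [] hz [[0], [1], [2], [3], [4], [5], [6], [7]] TCOP8.bound _ _ (by decide +kernel)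

theorem le1 {X : Type*} [Group X] (z : ℕ → X) (hz : ∀ w ∈ K1, wval z w = 1) :
    Nat.card (gp z (sing 3)) ≠ 0 ∧ Nat.card (gp z (sing 3)) ≤ 80640 :=
  (card_le_of_relIndex (gp_mono (by decide)) (b1 z hz)
    (card_le_of_relIndex (gp_mono (by decide)) (b0 z fun w h => hz w (List.mem_append_left _ h))
    (card_gp_nil z)))

theorem le2 {X : Type*} [Group X] (z : ℕ → X) (hz : ∀ w ∈ K2, wval z w = 1) :
    Nat.card (gp z (sing 3)) ≠ 0 ∧ Nat.card (gp z (sing 3)) ≤ 80640 :=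
  (card_le_of_relIndex (gp_mono (by decide)) (b2 z hz)
    (card_le_of_relIndex (gp_mono (by decide)) (b0 z fun w h => hz w (List.mem_append_left _ h))
    (card_gp_nil z)))

theorem le3 {X : Type*} [Group X] (z : ℕ → X) (hz : ∀ w ∈ K3, wval z w = 1) :
    Nat.card (gp z (sing 3)) ≠ 0 ∧ Nat.card (gp z (sing 3)) ≤ 80640 :=
  (card_le_of_relIndex (gp_mono (by decide)) (b3 z hz)
    (card_le_of_relIndex (gp_mono (by decide)) (b0 z fun w h => hz w (List.mem_append_left _ h))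
    (card_gp_nil z)))

theorem le21 {X : Type*} [Group X] (z : ℕ → X) (hz : ∀ w ∈ KX21, wval z w = 1) :
    Nat.card (gp z (sing 4)) ≠ 0 ∧ Nat.card (gp z (sing 4)) ≤ 40320 :=
  (card_le_of_relIndex (gp_mono (by decide)) (b21 z hz)
    (card_le_of_relIndex (gp_mono (by decide)) (bL z fun w h => hz w (List.mem_append_left _ h))
    (card_le_of_relIndex (gp_mono (by decide)) (b0 z fun w h => hz w (List.mem_append_left _ (List.mem_append_left _ h)))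
    (card_gp_nil z))))

theorem le22 {X : Type*} [Group X] (z : ℕ → X) (hz : ∀ w ∈ KX22, wval z w = 1) :
    Nat.card (gp z (sing 4)) ≠ 0 ∧ Nat.card (gp z (sing 4)) ≤ 40320 :=
  (card_le_of_relIndex (gp_mono (by decide)) (b22 z hz)
    (card_le_of_relIndex (gp_mono (by decide)) (bL z fun w h => hz w (List.mem_append_left _ h))
    (card_le_of_relIndex (gp_mono (by decide)) (b0 z fun w h => hz w (List.mem_append_left _ (List.mem_append_left _ h)))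
    (card_gp_nil z))))

theorem le23 {X : Type*} [Group X] (z : ℕ → X) (hz : ∀ w ∈ KX23, wval z w = 1) :
    Nat.card (gp z (sing 4)) ≠ 0 ∧ Nat.card (gp z (sing 4)) ≤ 40320 :=
  (card_le_of_relIndex (gp_mono (by decide)) (b23 z hz)
    (card_le_of_relIndex (gp_mono (by decide)) (bL z fun w h => hz w (List.mem_append_left _ h))
    (card_le_of_relIndex (gp_mono (by decide)) (b0 z fun w h => hz w (List.mem_append_left _ (List.mem_append_left _ h)))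
    (card_gp_nil z))))

theorem leH {X : Type*} [Group X] (z : ℕ → X) (hz : ∀ w ∈ KH, wval z w = 1) :
    Nat.card (gp z (sing 4)) ≠ 0 ∧ Nat.card (gp z (sing 4)) ≤ 161280 :=
  (card_le_of_relIndex (gp_mono (by decide)) (bH z hz)
    (card_le_of_relIndex (gp_mono (by decide)) (b2 z fun w h => hz w (List.mem_append_left _ h))
    (card_le_of_relIndex (gp_mono (by decide)) (b0 z fun w h => hz w (List.mem_append_left _ (List.mem_append_left _ h)))
    (card_gp_nil z))))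

end Cfsg.Agent.Lib.ONP
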