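import Cfsg.Agent.Lib.ONPT
import Cfsg.Agent.Lib.ONPK

/-! Certificates. -/

set_option autoImplicit false
set_option maxRecDepth 100000

namespace Cfsg.Agent.Lib.ONP

open Cfsg.Agent.Lib.PermNet Cfsg.Agent.Lib.Words Cfsg.Agent.Lib.PermGroup Cfsg.Agent.Lib.DCE Cfsg.Agent.Lib.PermModel Cfsg.Agent.Lib.BT

theorem uok_id : idB (nat_lit 480) (nat_lit 9) (nat_lit 511) uid = true := by decide +kernel

theorem uok_0 : allR (fun i => okT (nat_lit 480) (nat_lit 9) (nat_lit 511) (utt.get (2 * i)) (utt.get (2 * i + 1))) (nat_lit 0) (nat_lit 17) = true := by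
  decide +kernel

def udL0 : List (List ℕ) := [[7, 4, 0, 5, 0, 0, 0, 5, 0, 4], [9, 4, 0, 5, 1, 3, 4, 1, 4, 1, 4, 1, 4, 0, 4], [11, 0, 2, 9], [13, 4, 0, 0, 4, 1, 4, 0, 0], [15, 0, 4, 1, 3, 4, 0, 2, 4, 1, 4, 0, 5], [17, 13, 2, 14, 2], [19, 0, 2], [21, 0, 4, 1, 4, 3, 0, 5, 1], [23, 4, 1, 2, 5, 1, 2, 1, 1, 4, 0, 5], [25, 19, 20, 23], [27, 0, 2], [29, 0, 4, 1, 4, 3, 0, 5, 1], [31, 4, 1, 2, 5, 1, 2, 1, 1, 4, 0, 5], [33, 31, 26, 30]]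

theorem ud0 : allL (fixA (nat_lit 9) (nat_lit 511) utt (nat_lit 480)) udL0 = true := by decide +kernel

def uk1L0 : List (List ℕ) := [[0, 0, 0, 0, 0, 0, 0], [2, 2, 2], [4, 4, 4], [2, 0, 3, 1, 1], [2, 4, 3, 5], [0, 5, 0, 5, 0, 5, 0, 5, 0, 2, 1, 4, 1, 4, 1, 4, 1, 4, 1, 3], [0, 5, 1, 5, 0, 4, 1, 4, 0, 2, 1, 5, 0, 5, 1, 4, 0, 4, 1, 2], [0, 4, 0, 4, 0, 4, 0, 4, 0, 2, 1, 5, 1, 5, 1, 5, 1, 5, 1, 3], [1, 2, 4, 0, 5, 1, 4, 3, 0, 4, 1, 2, 5, 0, 4, 1, 5, 3, 0, 2], [1, 2, 4, 0, 5, 1, 4, 3, 0, 2, 1, 2, 5, 0, 4, 1, 5, 3, 0, 5], [0, 4, 0, 4, 0, 4, 0, 4, 0, 4]]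

theorem uk10 : allL (fixA (nat_lit 9) (nat_lit 511) utt (nat_lit 480)) uk1L0 = true := by decide +kernel

def uk3L0 : List (List ℕ) := [[0, 0, 0, 0, 0, 0, 0], [2, 2, 2], [4, 4, 4], [2, 0, 3, 1, 1], [2, 4, 3, 5], [0, 5, 0, 5, 0, 5, 0, 5, 0, 2, 1, 4, 1, 4, 1, 4, 1, 4, 1, 3], [0, 5, 1, 5, 0, 4, 1, 4, 0, 2, 1, 5, 0, 5, 1, 4, 0, 4, 1, 2], [0, 4, 0, 4, 0, 4, 0, 4, 0, 2, 1, 5, 1, 5, 1, 5, 1, 5, 1, 3], [1, 2, 4, 0, 5, 1, 4, 3, 0, 4, 1, 2, 5, 0, 4, 1, 5, 3, 0, 2], [1, 2, 4, 0, 5, 1, 4, 3, 0, 2, 1, 2, 5, 0, 4, 1, 5, 3, 0, 5], [0, 2, 4, 0, 2, 4, 0, 2, 4, 0, 2, 4, 0, 2, 4, 0, 3, 4, 0, 3, 4, 0, 3, 4, 0, 3, 4, 0, 3, 4]]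

theorem uk30 : allL (fixA (nat_lit 9) (nat_lit 511) utt (nat_lit 480)) uk3L0 = true := by decide +kernel

theorem uc : chB (nat_lit 9) (nat_lit 511) utt (nat_lit 480) (fun _ => true) uch [] = true := by decide +kernel

theorem uok : TabsOK (nat_lit 480) (nat_lit 9) (nat_lit 511) (nat_lit 17) uth uid := ⟨uok_id, (allR_of 0 17 17 (by decide) uok_0)⟩

theorem uTM : TM 3 (nat_lit 480) (nat_lit 9) (nat_lit 511) (nat_lit 17) uid 80640 uth udefs uch :=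
  ⟨uok, (uok.relsA _ ud0), uc, by decide +kernel⟩

theorem uK1 : ∀ w ∈ K1, wval (tp (nat_lit 480) (nat_lit 9) (nat_lit 511) utt) w = 1 := (uok.relsA _ uk10)

theorem uK3 : ∀ w ∈ K3, wval (tp (nat_lit 480) (nat_lit 9) (nat_lit 511) utt) w = 1 := (uok.relsA _ uk30)

theorem ucha_top : band (chB (nat_lit 9) (nat_lit 511) utt (nat_lit 480) (fun _ => true) ucha []) (decide (80640 ≤ (ucha.map fun l => l.T.length).prod)) = true := by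
  decide +kernel

theorem uchb_top : band (chB (nat_lit 9) (nat_lit 511) utt (nat_lit 480) (fun _ => true) uchb []) (decide (80640 ≤ (uchb.map fun l => l.T.length).prod)) = true := by
  decide +kernel

theorem uchj_top : band (chB (nat_lit 9) (nat_lit 511) utt (nat_lit 480) (fun _ => true) uchj []) (decide (80640 ≤ (uchj.map fun l => l.T.length).prod)) = true := by
  decide +kernel

noncomputable def ts_u1 : List Tst := [⟨[], [], [⟨0, [0], [0], [0, 0]⟩, ⟨0, [1], [1], [1, 1]⟩, ⟨0, [0, 0], [0, 0], [0, 0, 0, 0]⟩]⟩,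
  ⟨[⟨0, [1], [1], [1, 1]⟩], [], []⟩,
  ⟨[⟨1, [0], [0], [0, 0]⟩], [], []⟩]

noncomputable def ct_u1 : CT := (.node 0 [] [] (nat_lit 0x0) (nd [(2, (nd [(43, (lf [(45, [])]))])),
  (5, (nd [(16, (lf [(32, [0])]))])),
  (16, (nd [(44, (lf [(5, [0, 0, 0, 0, 0, 0])]))])),
  (45, (nd [(2, (lf [(44, [0, 0])]))])),
  (44, (nd [(45, (lf [(16, [0, 0, 0, 0])]))])),
  (43, (nd [(32, (lf [(2, [0, 0, 0, 0, 0])]))])),
  (32, (nd [(5, (lf [(43, [0, 0, 0])]))]))]) .nil)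

theorem s_u1 : solveB (nat_lit 9) (nat_lit 511) utt (nat_lit 480) 500 (uch.map Lv.b) (fun _ => true) ucha 0 []
    [[0]] [[0, 0]] (prEq 500 [[0]] [[0, 0]] ++ [[1000, 1000, 1000]]) [] [] (allL (okL [0]))
    (fun u => u ++ [2] ++ invW u) ts_u1 ct_u1 = true := by decide +kernel

noncomputable def ts_u20 : List Tst := [⟨[], [], [⟨0, [0], [2], [2]⟩, ⟨0, [1], [3], [3]⟩]⟩,
  ⟨[⟨0, [1], [3], [3]⟩], [], []⟩,
  ⟨[⟨1, [0], [2], [2]⟩], [], []⟩]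

noncomputable def ct_u20 : CT := (.node 0 [] [] (nat_lit 0x0) (nd [(6, (nd [(52, (lf [(57, [5])]))])),
  (20, (nd [(53, (lf [(56, [4])]))]))]) .nil)

theorem s_u20 : solveB (nat_lit 9) (nat_lit 511) utt (nat_lit 480) 500 (uch.map Lv.b) (fun _ => true) uchb 0 []
    [[2]] [[2]] (prEq 500 [[2]] [[2]] ++ pat.map (subst [[2 * 500], [0], [2]])) [] [] (memLL [[4], [5]])
    id ts_u20 ct_u20 = true := by decide +kernel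

noncomputable def ts_u21 : List Tst := [⟨[], [], [⟨0, [0], [2], [2]⟩, ⟨0, [1], [3], [3]⟩]⟩,
  ⟨[⟨0, [1], [3], [3]⟩], [], []⟩,
  ⟨[⟨1, [0], [2], [2]⟩], [], []⟩]

noncomputable def ct_u21 : CT := (.node 0 [] [] (nat_lit 0x0) (nd [(6, (nd [(52, (lf [(57, [5])]))])),
  (20, (nd [(53, (lf [(56, [4])]))]))]) .nil)

theorem s_u21 : solveB (nat_lit 9) (nat_lit 511) utt (nat_lit 480) 500 (uch.map Lv.b) (fun _ => true) uchb 0 []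
    [[2]] [[2]] (prEq 500 [[2]] [[2]] ++ pat.map (subst [[2 * 500], [1], [2]])) [] [] (memLL [[4], [5]])
    id ts_u21 ct_u21 = true := by decide +kernel

noncomputable def ts_uj : List Tst := [⟨[], [], [⟨0, [0], [4, 1, 5, 1, 4, 0, 0, 0], [4, 1, 5, 1, 4, 0, 0, 0]⟩]⟩,
  ⟨[⟨0, [0], [4, 1, 5, 1, 4, 0, 0, 0], [4, 1, 5, 1, 4, 0, 0, 0]⟩], [], []⟩,
  ⟨[], [], [⟨0, [0], [4, 1, 5, 1, 4, 0, 0, 0], [4, 1, 5, 1, 4, 0, 0, 0]⟩]⟩]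

noncomputable def ct_uj : CT := (.node 0 [] [] (nat_lit 0x0) (nd [(172, (nd [(265, (lf [(97, [3, 1, 5, 3, 1, 5, 7, 0])]))])),
  (69, (nd [(64, (lf [(117, [0, 4, 0, 0, 4, 1, 1, 1])]))])),
  (265, (nd [(172, (lf [(117, [0, 4, 0, 0, 4, 3, 6, 1, 11])]))])),
  (352, (nd [(458, (lf [(395, [1, 4, 0, 0, 4, 1, 5, 1, 2, 11])]))])),
  (64, (nd [(69, (lf [(97, [3, 1, 5, 3, 1, 5, 9, 11])]))])),
  (191, (nd [(383, (lf [(360, [4, 3, 1, 4, 3, 1, 4, 0, 9, 1, 11])]))])),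
  (383, (nd [(191, (lf [(395, [1, 4, 0, 0, 4, 1, 5, 8, 1, 6])]))])),
  (458, (nd [(352, (lf [(360, [4, 3, 1, 4, 3, 1, 4, 1, 1, 11])]))]))]) .nil)

theorem s_uj : solveB (nat_lit 9) (nat_lit 511) utt (nat_lit 480) 500 (uch.map Lv.b) (fun _ => true) uchj 0 []
    [xw] [xw] (prEq 500 [xw] [xw] ++ [[1000, 1000] ++ invW xw]) [] [] (okI (nat_lit 9) (nat_lit 511) utt (uch.map Lv.b))
    id ts_uj ct_uj = true := by decide +kernel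

end Cfsg.Agent.Lib.ONP
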