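import Cfsg.Agent.Lib.ONPT
import Cfsg.Agent.Lib.ONPK

/-! Certificates. -/

set_option autoImplicit false
set_option maxRecDepth 100000

namespace Cfsg.Agent.Lib.ONP

open Cfsg.Agent.Lib.PermNet Cfsg.Agent.Lib.Words Cfsg.Agent.Lib.PermGroup Cfsg.Agent.Lib.DCE Cfsg.Agent.Lib.PermModel Cfsg.Agent.Lib.BT

theorem vok_id : idB (nat_lit 224) (nat_lit 8) (nat_lit 255) vid = true := by decide +kernel

theorem vok_0 : allR (fun i => okT (nat_lit 224) (nat_lit 8) (nat_lit 255) (vtt.get (2 * i)) (vtt.get (2 * i + 1))) (nat_lit 0) (nat_lit 24) = true := by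
  decide +kernel

def vdL0 : List (List ℕ) := [[7, 0, 5, 0, 5], [9, 1, 5, 0, 4, 3, 0], [11, 0, 4, 0, 5, 2, 0, 4, 0, 3], [13, 0, 2, 4, 1, 4, 1, 4, 3], [15, 8, 7], [17, 12, 12, 10, 7, 11, 6], [19, 0, 5, 0, 5], [21, 1, 5, 0, 4, 3, 0], [23, 0, 4, 0, 5, 2, 0, 4, 0, 3], [25, 18, 20, 19, 19], [27, 23, 20, 18, 21, 23, 20], [29, 0, 5, 0, 5], [31, 1, 5, 0, 4, 3, 0], [33, 0, 4, 0, 5, 2, 0, 4, 0, 3], [35, 31, 32, 31, 29], [37, 29, 33, 28, 32, 28, 32], [39, 0, 5, 0, 5], [41, 1, 5, 0, 4, 3, 0], [43, 0, 4, 0, 5, 2, 0, 4, 0, 3], [45, 38, 43, 40, 42], [47, 40, 38, 38, 40, 42, 39, 39]]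

theorem vd0 : allL (fixA (nat_lit 8) (nat_lit 255) vtt (nat_lit 224)) vdL0 = true := by decide +kernel

def vk2L0 : List (List ℕ) := [[0, 0, 0, 0, 0, 0, 0], [2, 2, 2], [4, 4, 4], [2, 0, 3, 1, 1], [2, 4, 3, 5], [0, 5, 0, 5, 0, 5, 0, 5, 0, 2, 1, 4, 1, 4, 1, 4, 1, 4, 1, 3], [0, 5, 1, 5, 0, 4, 1, 4, 0, 2, 1, 5, 0, 5, 1, 4, 0, 4, 1, 2], [0, 4, 0, 4, 0, 4, 0, 4, 0, 2, 1, 5, 1, 5, 1, 5, 1, 5, 1, 3], [1, 2, 4, 0, 5, 1, 4, 3, 0, 4, 1, 2, 5, 0, 4, 1, 5, 3, 0, 2], [1, 2, 4, 0, 5, 1, 4, 3, 0, 2, 1, 2, 5, 0, 4, 1, 5, 3, 0, 5], [0, 2, 4, 0, 2, 4, 0, 2, 4, 0, 2, 4, 0, 2, 4, 5, 2, 1, 5, 2, 1, 5, 2, 1, 5, 2, 1, 5, 2, 1]]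

theorem vk20 : allL (fixA (nat_lit 8) (nat_lit 255) vtt (nat_lit 224)) vk2L0 = true := by decide +kernel

theorem vc : chB (nat_lit 8) (nat_lit 255) vtt (nat_lit 224) (fun _ => true) vch [] = true := by decide +kernel

theorem vok : TabsOK (nat_lit 224) (nat_lit 8) (nat_lit 255) (nat_lit 24) vth vid := ⟨vok_id, (allR_of 0 24 24 (by decide) vok_0)⟩

theorem vTM : TM 3 (nat_lit 224) (nat_lit 8) (nat_lit 255) (nat_lit 24) vid 80640 vth vdefs vch :=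
  ⟨vok, (vok.relsA _ vd0), vc, by decide +kernel⟩

theorem vK2 : ∀ w ∈ K2, wval (tp (nat_lit 224) (nat_lit 8) (nat_lit 255) vtt) w = 1 := (vok.relsA _ vk20)

theorem vcha_top : band (chB (nat_lit 8) (nat_lit 255) vtt (nat_lit 224) (fun _ => true) vcha []) (decide (80640 ≤ (vcha.map fun l => l.T.length).prod)) = true := by
  decide +kernel

theorem vchb_top : band (chB (nat_lit 8) (nat_lit 255) vtt (nat_lit 224) (fun _ => true) vchb []) (decide (80640 ≤ (vchb.map fun l => l.T.length).prod)) = true := by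
  decide +kernel

theorem vchj_top : band (chB (nat_lit 8) (nat_lit 255) vtt (nat_lit 224) (fun _ => true) vchj []) (decide (80640 ≤ (vchj.map fun l => l.T.length).prod)) = true := by
  decide +kernel

noncomputable def ts_v1 : List Tst := [⟨[], [], [⟨0, [0], [0], [0, 0]⟩, ⟨0, [1], [1], [1, 1]⟩, ⟨0, [0, 0], [0, 0], [0, 0, 0, 0]⟩]⟩,
  ⟨[⟨0, [1], [1], [1, 1]⟩], [], []⟩,
  ⟨[⟨1, [0], [0], [0, 0]⟩], [], []⟩]

noncomputable def ct_v1 : CT := (.node 0 [] [] (nat_lit 0x0) (nd [(44, (nd [(118, (lf [(114, [])]))])),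
  (114, (nd [(44, (lf [(212, [0, 0])]))])),
  (118, (nd [(70, (lf [(44, [0, 0, 0, 0, 0])]))])),
  (197, (nd [(31, (lf [(70, [0])]))])),
  (31, (nd [(212, (lf [(197, [0, 0, 0, 0, 0, 0])]))])),
  (212, (nd [(114, (lf [(31, [0, 0, 0, 0])]))])),
  (70, (nd [(197, (lf [(118, [0, 0, 0])]))]))]) .nil)

theorem s_v1 : solveB (nat_lit 8) (nat_lit 255) vtt (nat_lit 224) 500 (vch.map Lv.b) (fun _ => true) vcha 0 []
    [[0]] [[0, 0]] (prEq 500 [[0]] [[0, 0]] ++ [[1000, 1000, 1000]]) [] [] (allL (okL [0]))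
    (fun u => u ++ [2] ++ invW u) ts_v1 ct_v1 = true := by decide +kernel

noncomputable def ts_v20 : List Tst := [⟨[], [], [⟨0, [0], [2], [2]⟩, ⟨0, [1], [3], [3]⟩]⟩,
  ⟨[⟨0, [1], [3], [3]⟩], [], []⟩,
  ⟨[⟨1, [0], [2], [2]⟩], [], []⟩]

noncomputable def ct_v20 : CT := (.node 0 [] [] (nat_lit 0x0) (nd [(113, (nd [(167, (lf [(58, [5])]))])),
  (40, (nd [(108, (lf [(147, [4])]))]))]) .nil)

theorem s_v20 : solveB (nat_lit 8) (nat_lit 255) vtt (nat_lit 224) 500 (vch.map Lv.b) (fun _ => true) vchb 0 []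
    [[2]] [[2]] (prEq 500 [[2]] [[2]] ++ pat.map (subst [[2 * 500], [0], [2]])) [] [] (memLL [[4], [5]])
    id ts_v20 ct_v20 = true := by decide +kernel

noncomputable def ts_v21 : List Tst := [⟨[], [], [⟨0, [0], [2], [2]⟩, ⟨0, [1], [3], [3]⟩]⟩,
  ⟨[⟨0, [1], [3], [3]⟩], [], []⟩,
  ⟨[⟨1, [0], [2], [2]⟩], [], []⟩]

noncomputable def ct_v21 : CT := (.node 0 [] [] (nat_lit 0x0) (nd [(113, (nd [(167, (lf [(58, [5])]))])),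
  (40, (nd [(108, (lf [(147, [4])]))]))]) .nil)

theorem s_v21 : solveB (nat_lit 8) (nat_lit 255) vtt (nat_lit 224) 500 (vch.map Lv.b) (fun _ => true) vchb 0 []
    [[2]] [[2]] (prEq 500 [[2]] [[2]] ++ pat.map (subst [[2 * 500], [1], [2]])) [] [] (memLL [[4], [5]])
    id ts_v21 ct_v21 = true := by decide +kernel

noncomputable def ts_vj : List Tst := [⟨[], [⟨0, [2, 4, 2], [5, 1, 4, 1, 5, 0, 0, 0, 4, 3, 0, 4, 2, 0, 5, 0, 5, 1, 4, 1, 5, 0, 0, 0], [5, 1, 4, 1, 5, 0, 0, 0, 4, 3, 0, 4, 2, 0, 5, 0, 5, 1, 4, 1, 5, 0, 0, 0]⟩], [⟨0, [0], [4, 1, 5, 1, 4, 0, 0, 0], [4, 1, 5, 1, 4, 0, 0, 0]⟩, ⟨0, [2], [5, 1, 4, 1, 5, 0, 0, 0], [5, 1, 4, 1, 5, 0, 0, 0]⟩, ⟨0, [4], [4, 3, 0, 4, 2, 0, 5, 0], [4, 3, 0, 4, 2, 0, 5, 0]⟩]⟩,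
  ⟨[⟨0, [0], [4, 1, 5, 1, 4, 0, 0, 0], [4, 1, 5, 1, 4, 0, 0, 0]⟩], [], []⟩,
  ⟨[⟨1, [2], [5, 1, 4, 1, 5, 0, 0, 0], [5, 1, 4, 1, 5, 0, 0, 0]⟩], [], []⟩]

noncomputable def ct_vj : CT := .nil

theorem s_vj : solveB (nat_lit 8) (nat_lit 255) vtt (nat_lit 224) 500 (vch.map Lv.b) (fun _ => true) vchj 0 []
    ys ys (prEq 500 ys ys ++ [[1000, 1000] ++ invW xw]) [] [] (fun _ => false)
    id ts_vj ct_vj = true := by decide +kernel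

end Cfsg.Agent.Lib.ONP
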