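import Cfsg.Agent.Lib.ONPT
import Cfsg.Agent.Lib.ONPK

/-! Certificates. -/

set_option autoImplicit false
set_option maxRecDepth 100000

namespace Cfsg.Agent.Lib.ONP

open Cfsg.Agent.Lib.PermNet Cfsg.Agent.Lib.Words Cfsg.Agent.Lib.PermGroup Cfsg.Agent.Lib.DCE Cfsg.Agent.Lib.PermModel Cfsg.Agent.Lib.BT

theorem xaok_id : idB (nat_lit 105) (nat_lit 7) (nat_lit 127) xaid = true := by decide +kernel

theorem xaok_0 : allR (fun i => okT (nat_lit 105) (nat_lit 7) (nat_lit 127) (xatt.get (2 * i)) (xatt.get (2 * i + 1))) (nat_lit 0) (nat_lit 11) = true := by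
  decide +kernel

def xadL0 : List (List ℕ) := [[9, 1, 4, 3, 0], [11, 1, 6, 0, 0], [13, 4, 6, 1, 5], [15, 0, 0, 5, 0, 7, 1, 4], [17, 15, 8, 14, 13], [19, 15, 12, 8, 14, 11, 9], [21, 9, 10, 12, 11, 8]]

theorem xad0 : allL (fixA (nat_lit 7) (nat_lit 127) xatt (nat_lit 105)) xadL0 = true := by decide +kernel

def xakL0 : List (List ℕ) := [[0, 0, 0, 0, 0, 0, 0], [2, 2, 2], [4, 4, 4], [2, 0, 3, 1, 1], [2, 4, 3, 5], [0, 5, 0, 5, 0, 5, 0, 5, 0, 2, 1, 4, 1, 4, 1, 4, 1, 4, 1, 3], [0, 5, 1, 5, 0, 4, 1, 4, 0, 2, 1, 5, 0, 5, 1, 4, 0, 4, 1, 2], [0, 4, 0, 4, 0, 4, 0, 4, 0, 2, 1, 5, 1, 5, 1, 5, 1, 5, 1, 3], [1, 2, 4, 0, 5, 1, 4, 3, 0, 4, 1, 2, 5, 0, 4, 1, 5, 3, 0, 2], [1, 2, 4, 0, 5, 1, 4, 3, 0, 2, 1, 2, 5, 0, 4, 1, 5, 3, 0, 5], [0, 4, 0, 4, 0, 4, 0, 4, 0, 4], [0, 2, 4, 0, 2, 4, 0, 2, 4, 0, 2, 4, 0, 2, 4], [6, 0, 7, 0], [6, 2, 7, 3], [6, 4,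 7, 5], [6, 6]]

theorem xak0 : allL (fixA (nat_lit 7) (nat_lit 127) xatt (nat_lit 105)) xakL0 = true := by decide +kernel

theorem xac : chB (nat_lit 7) (nat_lit 127) xatt (nat_lit 105) (fun _ => true) xach [] = true := by decide +kernel

theorem xaok : TabsOK (nat_lit 105) (nat_lit 7) (nat_lit 127) (nat_lit 11) xath xaid := ⟨xaok_id, (allR_of 0 11 11 (by decide) xaok_0)⟩

theorem xaTM : TM 4 (nat_lit 105) (nat_lit 7) (nat_lit 127) (nat_lit 11) xaid 40320 xath xadefs xach :=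
  ⟨xaok, (xaok.relsA _ xad0), xac, by decide +kernel⟩

theorem xaK : ∀ w ∈ KX21, wval (tp (nat_lit 105) (nat_lit 7) (nat_lit 127) xatt) w = 1 := (xaok.relsA _ xak0)

noncomputable def ts_xai : List Tst := [⟨[], [], []⟩,
  ⟨[], [], []⟩]

noncomputable def ct_xai : CT := (.node 0 [] [] (nat_lit 0x0) (nd [(5, (lf [(2, [0]), (30, [2, 0, 0]), (35, [2, 18, 0, 0]), (40, [2, 4, 20])])),
  (85, (lf [(4, [1, 0, 8, 0])])),
  (65, (lf [(3, [1, 4, 9, 2])])),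
  (96, (lf [(30, [2, 0, 8])])),
  (70, (lf [(3, [1, 6, 8, 3])])),
  (24, (lf [(2, [1, 1, 14, 3])])),
  (8, (lf [(2, [1, 1, 14, 0])])),
  (95, (lf [(4, [1, 0, 19, 2])])),
  (22, (lf [(2, [1, 2, 12, 1])])),
  (9, (lf [(2, [1, 6, 14, 0])])),
  (71, (lf [(35, [2, 0, 16, 15])])),
  (20, (lf [(2, [1, 5, 14, 5]), (40, [2, 9, 0, 9])])),
  (19, (lf [(2, [1, 1, 20, 2])])),
  (68, (lf [(30, [2, 12, 0, 0])])),
  (101, (lf [(35, [2, 8, 0, 9])])),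
  (10, (lf [(2, [1, 6, 4, 0]), (30, [2, 12, 0, 9])])),
  (90, (lf [(4, [1, 0, 8, 3])])),
  (17, (lf [(2, [1, 3, 8, 0])])),
  (88, (lf [(35, [2, 3, 0, 15])])),
  (67, (lf [(35, [2, 8, 0, 0])])),
  (55, (lf [(1, [1, 6, 14])])),
  (89, (lf [(30, [2, 20, 0, 8])])),
  (76, (lf [(40, [2, 1, 15, 0])])),
  (75, (lf [(3, [1, 0, 9, 5])])),
  (15, (lf [(35, [2, 8, 0, 8]), (2, [1, 4, 15])])),
  (69, (lf [(40, [2, 6, 14, 1])])),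
  (12, (lf [(2, [1, 5, 15, 2])])),
  (13, (lf [(2, [1, 6, 20, 0])])),
  (51, (lf [(26, [2, 18, 0, 8])])),
  (87, (lf [(40, [2, 9, 0, 0])])),
  (60, (lf [(1, [1, 2, 0, 4])])),
  (18, (lf [(2, [1, 3, 16, 1])])),
  (61, (lf [(26, [2, 2, 9, 0])])),
  (49, (lf [(26, [2, 2, 19, 0])])),
  (100, (lf [(4, [1, 0, 4])])),
  (80, (lf [(3, [1, 3, 0, 4])])),
  (7, (lf [(2, [1, 0, 15, 6])])),
  (91, (lf [(40, [2, 16, 9, 0, 0])])),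
  (14, (lf [(2, [1, 12, 0, 4])])),
  (48, (lf [(26, [2, 2, 18, 0])])),
  (56, (lf [(26, [2, 2, 8, 0])])),
  (47, (lf [(26, [2, 16, 0, 8])])),
  (50, (lf [(1, [1, 4, 10, 12])])),
  (81, (lf [(30, [2, 0, 9])])),
  (23, (lf [(2, [1, 3, 19, 0])])),
  (45, (lf [(1, [1, 1, 15, 6])]))]) .nil)

theorem s_xai : solveB (nat_lit 7) (nat_lit 127) xatt (nat_lit 105) 500 (xach.map Lv.b) (fun _ => true) xach 1 []
    ([] : List (List ℕ)) ([] : List (List ℕ)) (prEq 500 ([] : List (List ℕ)) ([] : List (List ℕ)) ++ [[1000, 1000]]) [] [] (fun u => Nat.blt (u.headD 0) 3)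
    (mkC [[], xw, [6]]) ts_xai ct_xai = true := by decide +kernel

theorem xbok_id : idB (nat_lit 105) (nat_lit 7) (nat_lit 127) xbid = true := by decide +kernel

theorem xbok_0 : allR (fun i => okT (nat_lit 105) (nat_lit 7) (nat_lit 127) (xbtt.get (2 * i)) (xbtt.get (2 * i + 1))) (nat_lit 0) (nat_lit 18) = true := by
  decide +kernel

def xbdL0 : List (List ℕ) := [[9, 6, 4], [11, 1, 4, 3, 0], [13, 1, 1, 4, 0, 3], [15, 0, 4, 0, 0, 5, 2, 1], [17, 10, 12, 14], [19, 8, 11, 8, 10, 9], [21, 12, 11, 14, 10, 12, 9], [23, 8, 12, 14, 9, 11, 9], [25, 6, 4], [27, 1, 4, 3, 0], [29, 1, 1, 4, 0, 3], [31, 26, 24, 27], [33, 26, 28, 26, 25], [35, 29, 24, 27, 25]]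

theorem xbd0 : allL (fixA (nat_lit 7) (nat_lit 127) xbtt (nat_lit 105)) xbdL0 = true := by decide +kernel

def xbkL0 : List (List ℕ) := [[0, 0, 0, 0, 0, 0, 0], [2, 2, 2], [4, 4, 4], [2, 0, 3, 1, 1], [2, 4, 3, 5], [0, 5, 0, 5, 0, 5, 0, 5, 0, 2, 1, 4, 1, 4, 1, 4, 1, 4, 1, 3], [0, 5, 1, 5, 0, 4, 1, 4, 0, 2, 1, 5, 0, 5, 1, 4, 0, 4, 1, 2], [0, 4, 0, 4, 0, 4, 0, 4, 0, 2, 1, 5, 1, 5, 1, 5, 1, 5, 1, 3], [1, 2, 4, 0, 5, 1, 4, 3, 0, 4, 1, 2, 5, 0, 4, 1, 5, 3, 0, 2], [1, 2, 4, 0, 5, 1, 4, 3, 0, 2, 1, 2, 5, 0, 4, 1, 5, 3, 0, 5], [0, 4, 0, 4, 0, 4, 0, 4, 0, 4], [0, 2, 4, 0, 2, 4, 0, 2, 4, 0, 2, 4, 0, 2, 4], [6, 0, 7, 1], [6, 2, 7, 3], [6, 4, 7, 4], [6, 6]]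

theorem xbk0 : allL (fixA (nat_lit 7) (nat_lit 127) xbtt (nat_lit 105)) xbkL0 = true := by decide +kernel

theorem xbc : chB (nat_lit 7) (nat_lit 127) xbtt (nat_lit 105) (fun _ => true) xbch [] = true := by decide +kernel

theorem xbok : TabsOK (nat_lit 105) (nat_lit 7) (nat_lit 127) (nat_lit 18) xbth xbid := ⟨xbok_id, (allR_of 0 18 18 (by decide) xbok_0)⟩

theorem xbTM : TM 4 (nat_lit 105) (nat_lit 7) (nat_lit 127) (nat_lit 18) xbid 40320 xbth xbdefs xbch :=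
  ⟨xbok, (xbok.relsA _ xbd0), xbc, by decide +kernel⟩

theorem xbK : ∀ w ∈ KX22, wval (tp (nat_lit 105) (nat_lit 7) (nat_lit 127) xbtt) w = 1 := (xbok.relsA _ xbk0)

theorem xbchc_top : band (chB (nat_lit 7) (nat_lit 127) xbtt (nat_lit 105) (fun _ => true) xbchc []) (decide (40320 ≤ (xbchc.map fun l => l.T.length).prod)) = true := by
  decide +kernel

noncomputable def ts_xbi : List Tst := [⟨[], [], []⟩,
  ⟨[], [], []⟩]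

noncomputable def ct_xbi : CT := (.node 0 [] [] (nat_lit 0x0) (nd [(5, (lf [(12, [0]), (22, [2, 4, 12]), (18, [2, 4, 30]), (14, [2, 34, 4])])),
  (70, (lf [(78, [2, 4]), (82, [1, 10, 0, 4])])),
  (85, (lf [(104, [1, 0, 10, 0]), (102, [2, 30, 4])])),
  (65, (lf [(78, [1, 4, 11, 2]), (82, [2, 30, 11, 4])])),
  (8, (lf [(14, [1, 3, 30, 0]), (12, [2, 8, 13, 4])])),
  (9, (lf [(13, [1, 5, 12, 30]), (24, [2, 8, 12, 4])])),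
  (10, (lf [(9, [2, 14, 4]), (7, [1, 1, 35])])),
  (90, (lf [(97, [1, 0, 10, 3])])),
  (24, (lf [(10, [2, 12, 10, 4]), (15, [1, 6, 14, 2])])),
  (95, (lf [(91, [1, 4, 20])])),
  (20, (lf [(12, [2, 16, 10, 4]), (18, [1, 5, 22])])),
  (12, (lf [(5, [1, 2, 33, 0])])),
  (45, (lf [(51, [1, 12, 0, 4]), (61, [2, 12, 11, 4])])),
  (82, (lf [(65, [2, 10, 12, 4])])),
  (78, (lf [(70, [2, 1, 30])])),
  (17, (lf [(12, [2, 33, 4]), (22, [1, 3, 10, 0])])),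
  (23, (lf [(19, [1, 3, 17, 0])])),
  (75, (lf [(67, [1, 0, 18, 2])])),
  (22, (lf [(17, [1, 5, 22, 4])])),
  (53, (lf [(59, [2, 13, 4])])),
  (92, (lf [(97, [2, 12, 4])])),
  (18, (lf [(20, [1, 2, 12, 0])])),
  (13, (lf [(7, [2, 35, 10, 4]), (9, [1, 3, 18, 0])])),
  (64, (lf [(47, [2, 34, 11, 4])])),
  (80, (lf [(71, [1, 0, 14])])),
  (15, (lf [(13, [2, 10, 4]), (24, [1, 0, 34])])),
  (100, (lf [(89, [2, 11, 4]), (87, [1, 0, 4])])),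
  (19, (lf [(23, [1, 0, 34, 5])])),
  (14, (lf [(8, [1, 2, 15, 0])])),
  (50, (lf [(47, [1, 14, 0, 4])])),
  (99, (lf [(91, [2, 15, 10, 4])])),
  (60, (lf [(59, [1, 4, 13, 0])])),
  (55, (lf [(63, [1, 8, 0, 4]), (54, [2, 17, 4])])),
  (7, (lf [(10, [1, 1, 12, 1]), (15, [2, 0, 15])]))]) .nil)

theorem s_xbi : solveB (nat_lit 7) (nat_lit 127) xbtt (nat_lit 105) 500 (xbch.map Lv.b) (fun _ => true) xbch 1 []
    ([] : List (List ℕ)) ([] : List (List ℕ)) (prEq 500 ([] : List (List ℕ)) ([] : List (List ℕ)) ++ [[1000, 1000]]) [] [] (fun u => Nat.blt (u.headD 0) 3)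
    (mkC [[], xw, [6]]) ts_xbi ct_xbi = true := by decide +kernel

noncomputable def ts_xbc : List Tst := [⟨[], [], [⟨0, [0], [4, 0, 5, 2, 0, 5, 1], [4, 0, 5, 2, 0, 5, 1]⟩, ⟨0, [1], [0, 4, 1, 3, 4, 1, 5], [0, 4, 1, 3, 4, 1, 5]⟩, ⟨0, [2], [5, 3, 1, 4, 0, 5, 1], [5, 3, 1, 4, 0, 5, 1]⟩]⟩,
  ⟨[⟨0, [1], [0, 4, 1, 3, 4, 1, 5], [0, 4, 1, 3, 4, 1, 5]⟩], [], []⟩,
  ⟨[⟨1, [0], [4, 0, 5, 2, 0, 5, 1], [4, 0, 5, 2, 0, 5, 1]⟩], [], []⟩,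
  ⟨[⟨2, [3], [0, 4, 1, 5, 0, 2, 4], [0, 4, 1, 5, 0, 2, 4]⟩], [], []⟩]

noncomputable def ct_xbc : CT := .nil

theorem s_xbc : solveB (nat_lit 7) (nat_lit 127) xbtt (nat_lit 105) 500 (xbch.map Lv.b) (fun _ => true) xbchc 0 []
    qs qs (prEq 500 qs qs ++ [[1000, 1000] ++ invW xw]) [] [] (fun _ => false)
    id ts_xbc ct_xbc = true := by decide +kernel

theorem xcok_id : idB (nat_lit 105) (nat_lit 7) (nat_lit 127) xcid = true := by decide +kernel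

theorem xcok_0 : allR (fun i => okT (nat_lit 105) (nat_lit 7) (nat_lit 127) (xctt.get (2 * i)) (xctt.get (2 * i + 1))) (nat_lit 0) (nat_lit 24) = true := by
  decide +kernel

def xcdL0 : List (List ℕ) := [[9, 1, 4, 3, 0], [11, 4, 6, 1, 5], [13, 1, 1, 4, 0, 3], [15, 0, 2, 4, 0, 5, 1], [17, 8, 10, 9], [19, 8, 12, 14], [21, 12, 15, 8, 14, 12, 11], [23, 1, 4, 3, 0], [25, 4, 6, 1, 5], [27, 1, 1, 4, 0, 3], [29, 27, 24, 23, 25], [31, 22, 24, 26, 25, 27], [33, 24, 23, 26, 24, 23, 26], [35, 1, 4, 3, 0], [37, 4, 6, 1, 5], [39, 1, 1, 4, 0, 3], [41, 38, 34, 39], [43, 39, 36, 35, 37], [45, 36, 34, 38, 37, 34], [47, 42, 41]]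

theorem xcd0 : allL (fixA (nat_lit 7) (nat_lit 127) xctt (nat_lit 105)) xcdL0 = true := by decide +kernel

def xckL0 : List (List ℕ) := [[0, 0, 0, 0, 0, 0, 0], [2, 2, 2], [4, 4, 4], [2, 0, 3, 1, 1], [2, 4, 3, 5], [0, 5, 0, 5, 0, 5, 0, 5, 0, 2, 1, 4, 1, 4, 1, 4, 1, 4, 1, 3], [0, 5, 1, 5, 0, 4, 1, 4, 0, 2, 1, 5, 0, 5, 1, 4, 0, 4, 1, 2], [0, 4, 0, 4, 0, 4, 0, 4, 0, 2, 1, 5, 1, 5, 1, 5, 1, 5, 1, 3], [1, 2, 4, 0, 5, 1, 4, 3, 0, 4, 1, 2, 5, 0, 4, 1, 5, 3, 0, 2], [1, 2, 4, 0, 5, 1, 4, 3, 0, 2, 1, 2, 5, 0, 4, 1, 5, 3, 0, 5], [0, 4, 0, 4, 0, 4, 0, 4, 0, 4], [0, 2, 4, 0, 2, 4, 0, 2, 4, 0, 2, 4, 0, 2, 4], [6, 0, 7, 0], [6, 2, 7, 3], [6, 4, 7, 4], [6, 6]]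

theorem xck0 : allL (fixA (nat_lit 7) (nat_lit 127) xctt (nat_lit 105)) xckL0 = true := by decide +kernel

theorem xcc : chB (nat_lit 7) (nat_lit 127) xctt (nat_lit 105) (fun _ => true) xcch [] = true := by decide +kernel

theorem xcok : TabsOK (nat_lit 105) (nat_lit 7) (nat_lit 127) (nat_lit 24) xcth xcid := ⟨xcok_id, (allR_of 0 24 24 (by decide) xcok_0)⟩

theorem xcTM : TM 4 (nat_lit 105) (nat_lit 7) (nat_lit 127) (nat_lit 24) xcid 40320 xcth xcdefs xcch :=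
  ⟨xcok, (xcok.relsA _ xcd0), xcc, by decide +kernel⟩

theorem xcK : ∀ w ∈ KX23, wval (tp (nat_lit 105) (nat_lit 7) (nat_lit 127) xctt) w = 1 := (xcok.relsA _ xck0)

theorem xcchc_top : band (chB (nat_lit 7) (nat_lit 127) xctt (nat_lit 105) (fun _ => true) xcchc []) (decide (40320 ≤ (xcchc.map fun l => l.T.length).prod)) = true := by
  decide +kernel

theorem xcch4_top : band (chB (nat_lit 7) (nat_lit 127) xctt (nat_lit 105) (fun _ => true) xcch4 []) (decide (40320 ≤ (xcch4.map fun l => l.T.length).prod)) = true := by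
  decide +kernel

noncomputable def ts_xci : List Tst := [⟨[], [], []⟩,
  ⟨[], [], []⟩]

noncomputable def ct_xci : CT := (.node 0 [] [] (nat_lit 0x0) (nd [(5, (lf [(2, [0]), (35, [2, 5, 41, 1])])),
  (85, (lf [(4, [1, 0, 8, 0])])),
  (65, (lf [(3, [1, 4, 9, 2])])),
  (88, (lf [(30, [2, 0, 8])])),
  (8, (lf [(2, [1, 4, 15, 2])])),
  (9, (lf [(2, [1, 2, 40, 0])])),
  (56, (lf [(26, [2, 3, 18])])),
  (101, (lf [(30, [2, 0, 45, 0])])),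
  (12, (lf [(2, [1, 0, 10, 0])])),
  (7, (lf [(2, [1, 4, 44])])),
  (55, (lf [(1, [1, 1, 47, 2])])),
  (95, (lf [(4, [1, 0, 19, 2])])),
  (67, (lf [(40, [2, 4, 13, 0])])),
  (13, (lf [(2, [1, 5, 14, 1])])),
  (45, (lf [(1, [1, 0, 31, 0])])),
  (82, (lf [(40, [2, 3, 9])])),
  (49, (lf [(26, [2, 18, 0, 8])])),
  (78, (lf [(40, [2, 31, 0, 8])])),
  (23, (lf [(2, [1, 3, 19, 0])])),
  (14, (lf [(2, [1, 2, 15, 0])])),
  (71, (lf [(40, [2, 0, 10, 0])])),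
  (17, (lf [(2, [1, 1, 46])])),
  (60, (lf [(1, [1, 4, 13, 0])])),
  (24, (lf [(2, [1, 3, 46, 0])])),
  (10, (lf [(35, [2, 6, 20, 1]), (2, [1, 5, 16])])),
  (80, (lf [(3, [1, 0, 14])])),
  (53, (lf [(26, [2, 6, 8, 0])])),
  (19, (lf [(2, [1, 5, 47, 3])])),
  (70, (lf [(3, [1, 8, 0, 4])])),
  (92, (lf [(30, [2, 1, 19, 0])])),
  (18, (lf [(2, [1, 2, 12, 0])])),
  (99, (lf [(30, [2, 33, 0, 8])])),
  (64, (lf [(26, [2, 15, 0, 8])])),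
  (50, (lf [(1, [1, 6, 9, 0])])),
  (22, (lf [(2, [1, 4, 32, 12])])),
  (75, (lf [(3, [1, 4, 20])])),
  (15, (lf [(35, [2, 4, 33, 0]), (2, [1, 0, 32])])),
  (100, (lf [(4, [1, 0, 4])])),
  (90, (lf [(4, [1, 5, 28])])),
  (20, (lf [(35, [2, 1, 40]), (2, [1, 4, 13, 3])]))]) .nil)

theorem s_xci : solveB (nat_lit 7) (nat_lit 127) xctt (nat_lit 105) 500 (xcch.map Lv.b) (fun _ => true) xcch 1 []
    ([] : List (List ℕ)) ([] : List (List ℕ)) (prEq 500 ([] : List (List ℕ)) ([] : List (List ℕ)) ++ [[1000, 1000]]) [] [] (fun u => Nat.blt (u.headD 0) 3)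
    (mkC [[], xw, [6]]) ts_xci ct_xci = true := by decide +kernel

noncomputable def ts_xcc : List Tst := [⟨[], [], [⟨0, [0], [4, 0, 5, 2, 0, 5, 1], [4, 0, 5, 2, 0, 5, 1]⟩, ⟨0, [1], [0, 4, 1, 3, 4, 1, 5], [0, 4, 1, 3, 4, 1, 5]⟩, ⟨0, [2], [5, 3, 1, 4, 0, 5, 1], [5, 3, 1, 4, 0, 5, 1]⟩]⟩,
  ⟨[⟨0, [1], [0, 4, 1, 3, 4, 1, 5], [0, 4, 1, 3, 4, 1, 5]⟩], [], []⟩,
  ⟨[⟨1, [0], [4, 0, 5, 2, 0, 5, 1], [4, 0, 5, 2, 0, 5, 1]⟩], [], []⟩]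

noncomputable def ct_xcc : CT := .nil

theorem s_xcc : solveB (nat_lit 7) (nat_lit 127) xctt (nat_lit 105) 500 (xcch.map Lv.b) (fun _ => true) xcchc 0 []
    qs qs (prEq 500 qs qs ++ [[1000, 1000] ++ invW xw]) [] [] (fun _ => false)
    id ts_xcc ct_xcc = true := by decide +kernel

noncomputable def ts_xc4 : List Tst := [⟨[], [], [⟨0, [0], [6], [6]⟩]⟩,
  ⟨[⟨0, [0], [6], [6]⟩], [], []⟩,
  ⟨[], [], [⟨0, [0], [6], [6]⟩]⟩,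
  ⟨[⟨0, [0], [6], [6]⟩], [], []⟩]

noncomputable def ct_xc4 : CT := .nil

theorem s_xc4 : solveB (nat_lit 7) (nat_lit 127) xctt (nat_lit 105) 500 (xcch.map Lv.b) (fun _ => true) xcch4 0 []
    [[6]] [[6]] (prEq 500 [[6]] [[6]] ++ [[1000, 1000, 1000, 1000]]) [[1000, 1000]] [] (fun _ => false)
    id ts_xc4 ct_xc4 = true := by decide +kernel

end Cfsg.Agent.Lib.ONP
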