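import Cfsg.Agent.Lib.ONPHT

/-! The automorphisms of the centraliser of a four-group. -/

set_option autoImplicit false
set_option maxRecDepth 100000

namespace Cfsg.Agent.Lib.ONP

open Cfsg.Agent.Lib.PermNet Cfsg.Agent.Lib.Words Cfsg.Agent.Lib.PermGroup Cfsg.Agent.Lib.DCE Cfsg.Agent.Lib.PermModel Cfsg.Agent.Lib.BT

noncomputable def ts_h0 : List Tst := [⟨[], [], []⟩,
  ⟨[], [], []⟩]

noncomputable def ct_h0 : CT := (.node 0 [] [] (nat_lit 0x0) (nd [(679, (lf [(207, [0, 12, 16, 12, 20])])),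
  (765, (lf [(303, [0])])),
  (707, (lf [(303, [0, 20])])),
  (716, (lf [(207, [0, 12, 16, 12])])),
  (832, (lf [(204, [0, 12])])),
  (656, (lf [(47, [0, 16, 12, 20])])),
  (806, (lf [(447, [3, 16])])),
  (795, (lf [(447, [3, 12])])),
  (711, (lf [(207, [0, 12, 16, 12, 14])])),
  (675, (lf [(207, [0, 12, 14, 16, 12])])),
  (752, (lf [(303, [0, 14])])),
  (841, (lf [(303, [0, 14, 20])])),
  (677, (lf [(47, [0, 16, 12])])),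
  (745, (lf [(204, [0, 12, 20])])),
  (869, (lf [(534, [3, 14])])),
  (773, (lf [(534, [3])])),
  (740, (lf [(204, [0, 12, 14])])),
  (824, (lf [(204, [0, 12, 14, 20])])),
  (674, (lf [(47, [0, 16, 12, 14])])),
  (653, (lf [(47, [0, 14, 16, 12])])),
  (785, (lf [(327, [1, 12])])),
  (948, (lf [(417, [1])])),
  (963, (lf [(417, [2, 12])])),
  (859, (lf [(327, [2])]))]) .nil)

theorem s_h0 : stepB (nat_lit 11) (nat_lit 2047) htt (hch.map Lv.b) (nat_lit 1078) 500 hch [10] [8]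
    [[10], [8]] [[8], [10]] [16] [2] [0]
    []
    [[4, 3, 1, 1]] ([] : List (List ℕ)) [[16], [12, 14, 12, 14], [8, 12, 14, 12, 14], [12, 16, 12, 16, 20]] ts_h0 ct_h0 = true := by
  decide +kernel

noncomputable def ts_h1 : List Tst := [⟨[], [], []⟩,
  ⟨[], [], []⟩]

noncomputable def ct_h1 : CT := (.node 0 [] [] (nat_lit 0x0) (nd [(720, (lf [(387, [0])])),
  (726, (lf [(464, [1])])),
  (791, (lf [(387, [1, 12, 14, 12, 14])])),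
  (781, (lf [(387, [1, 12, 14, 12, 14, 16])])),
  (713, (lf [(387, [0, 16])])),
  (685, (lf [(464, [0, 12, 14, 12, 14])])),
  (717, (lf [(464, [0, 12, 14, 12, 14, 16])])),
  (680, (lf [(464, [1, 16])])),
  (1045, (lf [(566, [2])])),
  (779, (lf [(359, [3])])),
  (1040, (lf [(566, [3, 12, 14, 12, 14])])),
  (1048, (lf [(566, [3, 12, 14, 12, 14, 16])])),
  (1036, (lf [(566, [2, 16])])),
  (665, (lf [(359, [3, 16])])),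
  (732, (lf [(359, [2, 12, 14, 12, 14])])),
  (648, (lf [(359, [2, 12, 14, 12, 14, 16])]))]) .nil)

theorem s_h1 : stepB (nat_lit 11) (nat_lit 2047) htt (hch.map Lv.b) (nat_lit 1078) 500 hch [10] [8]
    [[16], [10], [8]] [[16], [8], [10]] [12] [4] [2]
    []
    [[1, 1], [2, 0, 3, 0, 7, 2, 1, 3, 1]] ([] : List (List ℕ)) [[14], [8, 14], [12, 14, 12], [8, 12, 14, 12]] ts_h1 ct_h1 = true := by
  decide +kernel

noncomputable def ts_h2 : List Tst := [⟨[], [], []⟩,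
  ⟨[], [], []⟩]

noncomputable def ct_h2 : CT := (.node 0 [] [] (nat_lit 0x0) (nd [(630, (lf [(534, [8])])),
  (890, (lf [(447, [5])])),
  (632, (lf [(534, [6])])),
  (784, (lf [(1, [0])])),
  (787, (lf [(447, [9])])),
  (774, (lf [(39, [1])])),
  (888, (lf [(1, [2])])),
  (870, (lf [(39, [3])])),
  (759, (lf [(327, [4])])),
  (812, (lf [(417, [7])])),
  (855, (lf [(327, [10])])),
  (785, (lf [(22, [14])])),
  (948, (lf [(597, [15])])),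
  (799, (lf [(417, [11])])),
  (963, (lf [(597, [12])])),
  (859, (lf [(22, [13])]))]) .nil)

theorem s_h2 : stepB (nat_lit 11) (nat_lit 2047) htt (hch.map Lv.b) (nat_lit 1078) 500 hch [10] [8]
    [[12], [16], [10], [8]] [[14], [16], [8], [10]] [14] [6] [4]
    []
    [[1, 1], [5, 2, 0, 2, 5, 3, 5, 1, 5, 3], [4, 0, 5, 0, 9, 5, 1, 5, 1]] ([] : List (List ℕ)) [[12], [8, 12], [10, 12], [8, 10, 12], [14, 12, 14], [16, 12, 16], [16, 12, 17], [8, 14, 12, 14], [8, 16, 12, 16], [8, 16, 12, 17], [10, 14, 12, 14], [8, 10, 14, 12, 14], [14, 16, 12, 16, 14], [14, 16, 12, 17, 14], [8, 14, 16, 12, 16, 14], [8, 14, 16, 12, 17, 14]] ts_h2 ct_h2 = true := by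
  decide +kernel

noncomputable def ts_h3 : List Tst := [⟨[], [], []⟩,
  ⟨[], [], []⟩]

noncomputable def ct_h3 : CT := (.node 0 [] [] (nat_lit 0x0) (nd [(630, (lf [(534, [8])])),
  (890, (lf [(447, [5])])),
  (632, (lf [(534, [6])])),
  (784, (lf [(1, [0])])),
  (787, (lf [(447, [9])])),
  (774, (lf [(39, [1])])),
  (888, (lf [(1, [2])])),
  (870, (lf [(39, [3])])),
  (759, (lf [(327, [4])])),
  (812, (lf [(417, [7])])),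
  (855, (lf [(327, [10])])),
  (785, (lf [(22, [14])])),
  (948, (lf [(597, [15])])),
  (799, (lf [(417, [11])])),
  (963, (lf [(597, [12])])),
  (859, (lf [(22, [13])]))]) .nil)

theorem s_h3 : stepB (nat_lit 11) (nat_lit 2047) htt (hch.map Lv.b) (nat_lit 1078) 500 hch [10] [8]
    [[12], [16], [10], [8]] [[8, 14], [16], [8], [10]] [14] [6] [4]
    []
    [[1, 1], [5, 2, 0, 2, 5, 3, 5, 1, 5, 3], [4, 0, 5, 0, 9, 5, 1, 5, 1]] ([] : List (List ℕ)) [[12], [8, 12], [10, 12], [8, 10, 12], [14, 12, 14], [16, 12, 16], [16, 12, 17], [8, 14, 12, 14], [8, 16, 12, 16], [8, 16, 12, 17], [10, 14, 12, 14], [8, 10, 14, 12, 14], [14, 16, 12, 16, 14], [14, 16, 12, 17, 14], [8, 14, 16, 12, 16, 14], [8, 14, 16, 12, 17, 14]] ts_h3 ct_h3 = true := by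
  decide +kernel

noncomputable def ts_h4 : List Tst := [⟨[], [], []⟩,
  ⟨[], [], []⟩]

noncomputable def ct_h4 : CT := (.node 0 [] [] (nat_lit 0x0) (nd [(630, (lf [(534, [8])])),
  (890, (lf [(447, [5])])),
  (632, (lf [(534, [6])])),
  (784, (lf [(1, [0])])),
  (787, (lf [(447, [9])])),
  (774, (lf [(39, [1])])),
  (888, (lf [(1, [2])])),
  (870, (lf [(39, [3])])),
  (759, (lf [(327, [4])])),
  (812, (lf [(417, [7])])),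
  (855, (lf [(327, [10])])),
  (785, (lf [(22, [14])])),
  (948, (lf [(597, [15])])),
  (799, (lf [(417, [11])])),
  (963, (lf [(597, [12])])),
  (859, (lf [(22, [13])]))]) .nil)

theorem s_h4 : stepB (nat_lit 11) (nat_lit 2047) htt (hch.map Lv.b) (nat_lit 1078) 500 hch [10] [8]
    [[12], [16], [10], [8]] [[12, 14, 12], [16], [8], [10]] [14] [6] [4]
    []
    [[1, 1], [5, 2, 0, 2, 5, 3, 5, 1, 5, 3], [4, 0, 5, 0, 9, 5, 1, 5, 1]] ([] : List (List ℕ)) [[12], [8, 12], [10, 12], [8, 10, 12], [14, 12, 14], [16, 12, 16], [16, 12, 17], [8, 14, 12, 14], [8, 16, 12, 16], [8, 16, 12, 17], [10, 14, 12, 14], [8, 10, 14, 12, 14], [14, 16, 12, 16, 14], [14, 16, 12, 17, 14], [8, 14, 16, 12, 16, 14], [8, 14, 16, 12, 17, 14]] ts_h4 ct_h4 = true := by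
  decide +kernel

noncomputable def ts_h5 : List Tst := [⟨[], [], []⟩,
  ⟨[], [], []⟩]

noncomputable def ct_h5 : CT := (.node 0 [] [] (nat_lit 0x0) (nd [(630, (lf [(534, [8])])),
  (890, (lf [(447, [5])])),
  (632, (lf [(534, [6])])),
  (784, (lf [(1, [0])])),
  (787, (lf [(447, [9])])),
  (774, (lf [(39, [1])])),
  (888, (lf [(1, [2])])),
  (870, (lf [(39, [3])])),
  (759, (lf [(327, [4])])),
  (812, (lf [(417, [7])])),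
  (855, (lf [(327, [10])])),
  (785, (lf [(22, [14])])),
  (948, (lf [(597, [15])])),
  (799, (lf [(417, [11])])),
  (963, (lf [(597, [12])])),
  (859, (lf [(22, [13])]))]) .nil)

theorem s_h5 : stepB (nat_lit 11) (nat_lit 2047) htt (hch.map Lv.b) (nat_lit 1078) 500 hch [10] [8]
    [[12], [16], [10], [8]] [[8, 12, 14, 12], [16], [8], [10]] [14] [6] [4]
    []
    [[1, 1], [5, 2, 0, 2, 5, 3, 5, 1, 5, 3], [4, 0, 5, 0, 9, 5, 1, 5, 1]] ([] : List (List ℕ)) [[12], [8, 12], [10, 12], [8, 10, 12], [14, 12, 14], [16, 12, 16], [16, 12, 17], [8, 14, 12, 14], [8, 16, 12, 16], [8, 16, 12, 17], [10, 14, 12, 14], [8, 10, 14, 12, 14], [14, 16, 12, 16, 14], [14, 16, 12, 17, 14], [8, 14, 16, 12, 16, 14], [8, 14, 16, 12, 17, 14]] ts_h5 ct_h5 = true := by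
  decide +kernel

noncomputable def ts_h6 : List Tst := [⟨[], [], []⟩,
  ⟨[], [], []⟩]

noncomputable def ct_h6 : CT := .nil

theorem s_h6 : stepB (nat_lit 11) (nat_lit 2047) htt (hch.map Lv.b) (nat_lit 1078) 500 hch [10] [8]
    [[16], [10], [8]] [[12, 14, 12, 14], [8], [10]] [12] [4] [2]
    []
    [[1, 1], [2, 0, 3, 0, 7, 2, 1, 3, 1]] ([] : List (List ℕ)) ([] : List (List ℕ)) ts_h6 ct_h6 = true := by
  decide +kernel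

noncomputable def ts_h7 : List Tst := [⟨[], [], []⟩,
  ⟨[], [], []⟩]

noncomputable def ct_h7 : CT := .nil

theorem s_h7 : stepB (nat_lit 11) (nat_lit 2047) htt (hch.map Lv.b) (nat_lit 1078) 500 hch [10] [8]
    [[16], [10], [8]] [[8, 12, 14, 12, 14], [8], [10]] [12] [4] [2]
    []
    [[1, 1], [2, 0, 3, 0, 7, 2, 1, 3, 1]] ([] : List (List ℕ)) ([] : List (List ℕ)) ts_h7 ct_h7 = true := by
  decide +kernel

noncomputable def ts_h8 : List Tst := [⟨[], [], []⟩,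
  ⟨[], [], []⟩]

noncomputable def ct_h8 : CT := .nil

theorem s_h8 : stepB (nat_lit 11) (nat_lit 2047) htt (hch.map Lv.b) (nat_lit 1078) 500 hch [10] [8]
    [[16], [10], [8]] [[12, 16, 12, 16, 20], [8], [10]] [12] [4] [2]
    []
    [[1, 1], [2, 0, 3, 0, 7, 2, 1, 3, 1]] ([] : List (List ℕ)) ([] : List (List ℕ)) ts_h8 ct_h8 = true := by
  decide +kernel

def us : List (List ℕ) := [[14], [12], [16], [10], [8]]

def kl0 : List Kl := [⟨[[8, 12], [14], [16], [8], [10]], [[], []], [([], [8]), ([], [6])], [([], [6]), ([], [8])],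
    [([12], [([], [0]), ([], [2])], [8, 12]), ([16], [([], [4]), ([], [4])], [16])],
    [[12], [16]], [[8, 12], [16]], [⟨[], [], [⟨0, [2], [16], [16]⟩, ⟨0, [3], [17], [17]⟩, ⟨0, [0], [12], [8, 12]⟩]⟩,  ⟨[], [⟨0, [0], [12], [8, 12]⟩], [⟨0, [2], [16], [16]⟩, ⟨0, [3], [17], [17]⟩, ⟨0, [2, 2], [16, 16], [16, 16]⟩]⟩]⟩,
  ⟨[[10, 12], [14], [16], [8], [10]], [[], []], [([], [8]), ([], [6])], [([], [6]), ([], [8])],
    [([12], [([], [0]), ([], [2])], [10, 12]), ([16], [([], [4]), ([], [4])], [16])],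
    [[12], [16]], [[10, 12], [16]], [⟨[], [], [⟨0, [2], [16], [16]⟩, ⟨0, [3], [17], [17]⟩, ⟨0, [0], [12], [10, 12]⟩]⟩,  ⟨[], [⟨0, [0], [12], [10, 12]⟩], [⟨0, [2], [16], [16]⟩, ⟨0, [3], [17], [17]⟩, ⟨0, [2, 2], [16, 16], [16, 16]⟩]⟩]⟩,
  ⟨[[8, 10, 12], [14], [16], [8], [10]], [[22], [22], [22]], [([22], [8]), ([22], [4, 4]), ([22], [6])], [([22], [6]), ([22], [8]), ([22], [4, 4])],
    [([12], [([22], [2, 4, 0, 5, 2]), ([22], [0, 2, 0, 2, 5]), ([22], [0, 4, 2, 4, 0, 6])], [14, 16, 12, 16, 14]), ([14], [([22], [0, 4, 2, 4, 0]), ([22], [0, 6]), ([22], [0, 2, 5, 0, 2])], [8, 12, 14, 12, 20])],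
    [[12], [14]], [[14, 16, 12, 16, 14], [8, 12, 14, 12, 20]], [⟨[], [], [⟨0, [0], [12], [14, 16, 12, 16, 14]⟩, ⟨0, [2], [14], [8, 12, 14, 12, 20]⟩, ⟨0, [0, 2], [12, 14], [14, 16, 12, 16, 14, 8, 12, 14, 12, 20]⟩]⟩,  ⟨[], [⟨0, [0], [12], [14, 16, 12, 16, 14]⟩], [⟨0, [2], [14], [8, 12, 14, 12, 20]⟩, ⟨0, [0, 2], [12, 14], [14, 16, 12, 16, 14, 8, 12, 14, 12, 20]⟩, ⟨0, [2, 0], [14, 12], [8, 12, 14, 12, 20, 14, 16, 12, 16, 14]⟩]⟩]⟩,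
  ⟨[[14, 12, 14], [14], [16], [8], [10]], [[], []], [([], [8]), ([], [6])], [([], [6]), ([], [8])],
    [([12], [([], [0]), ([], [2])], [14, 12, 14]), ([16], [([], [4]), ([], [4])], [16])],
    [[12], [16]], [[14, 12, 14], [16]], [⟨[], [], [⟨0, [2], [16], [16]⟩, ⟨0, [3], [17], [17]⟩, ⟨0, [2, 2], [16, 16], [16, 16]⟩]⟩,  ⟨[], [⟨0, [0], [12], [14, 12, 14]⟩], [⟨0, [2], [16], [16]⟩, ⟨0, [3], [17], [17]⟩, ⟨0, [2, 2], [16, 16], [16, 16]⟩]⟩]⟩,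
  ⟨[[16, 12, 16], [14], [16], [8], [10]], [[22], [22], [22]], [([22], [8]), ([22], [4, 4]), ([22], [6])], [([22], [6]), ([22], [8]), ([22], [4, 4])],
    [([12], [([22], [2, 4, 0, 5, 2]), ([22], [0, 2, 0, 2, 5]), ([22], [0, 4, 2, 4, 0, 6])], [8, 10, 14, 12, 14]), ([14], [([22], [4, 2, 5]), ([22], [0, 8]), ([22], [0, 2, 5, 0, 2])], [14, 21])],
    [[12], [14]], [[8, 10, 14, 12, 14], [14, 21]], [⟨[], [], [⟨0, [2], [14], [14, 21]⟩, ⟨0, [0], [12], [8, 10, 14, 12, 14]⟩, ⟨0, [0, 2], [12, 14], [8, 10, 14, 12, 14, 14, 21]⟩]⟩,  ⟨[], [⟨0, [0], [12], [8, 10, 14, 12, 14]⟩], [⟨0, [2], [14], [14, 21]⟩, ⟨0, [0, 2], [12, 14], [8, 10, 14, 12, 14, 14, 21]⟩, ⟨0, [2, 0], [14, 12], [14, 21, 8, 10, 14, 12, 14]⟩]⟩]⟩,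
  ⟨[[16, 12, 17], [14], [16], [8], [10]], [[22], [22], [22]], [([22], [8]), ([22], [4, 4]), ([22], [6])], [([22], [6]), ([22], [8]), ([22], [4, 4])],
    [([12], [([22], [2, 4, 0, 5, 2]), ([22], [0, 2, 0, 2, 5]), ([22], [0, 4, 2, 4, 0, 6])], [14, 12, 14]), ([14], [([22], [4, 2, 4, 6]), ([22], [0, 8]), ([22], [0, 2, 5, 0, 2])], [14, 20])],
    [[12], [14]], [[14, 12, 14], [14, 20]], [⟨[], [], [⟨0, [2], [14], [14, 20]⟩, ⟨0, [0], [12], [14, 12, 14]⟩, ⟨0, [0, 2], [12, 14], [14, 12, 14, 14, 20]⟩]⟩,  ⟨[], [⟨0, [0], [12], [14, 12, 14]⟩], [⟨0, [2], [14], [14, 20]⟩, ⟨0, [0, 2], [12, 14], [14, 12, 14, 14, 20]⟩, ⟨0, [2, 0], [14, 12], [14, 20, 14, 12, 14]⟩]⟩]⟩,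
  ⟨[[8, 14, 12, 14], [14], [16], [8], [10]], [[], []], [([], [8]), ([], [6])], [([], [6]), ([], [8])],
    [([12], [([], [0]), ([], [2])], [8, 14, 12, 14]), ([16], [([], [4]), ([], [4])], [16])],
    [[12], [16]], [[8, 14, 12, 14], [16]], [⟨[], [], [⟨0, [2], [16], [16]⟩, ⟨0, [3], [17], [17]⟩, ⟨0, [2, 2], [16, 16], [16, 16]⟩]⟩,  ⟨[], [⟨0, [0], [12], [8, 14, 12, 14]⟩], [⟨0, [2], [16], [16]⟩, ⟨0, [3], [17], [17]⟩, ⟨0, [2, 2], [16, 16], [16, 16]⟩]⟩]⟩,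
  ⟨[[8, 16, 12, 16], [14], [16], [8], [10]], [[], []], [([], [8]), ([], [6])], [([], [6]), ([], [8])],
    [([12], [([], [0]), ([], [2])], [8, 16, 12, 16]), ([16], [([], [4]), ([], [4])], [16])],
    [[12], [16]], [[8, 16, 12, 16], [16]], [⟨[], [], [⟨0, [2], [16], [16]⟩, ⟨0, [3], [17], [17]⟩, ⟨0, [2, 2], [16, 16], [16, 16]⟩]⟩,  ⟨[], [⟨0, [0], [12], [8, 16, 12, 16]⟩], [⟨0, [2], [16], [16]⟩, ⟨0, [3], [17], [17]⟩, ⟨0, [2, 2], [16, 16], [16, 16]⟩]⟩]⟩,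
  ⟨[[8, 16, 12, 17], [14], [16], [8], [10]], [[], []], [([], [8]), ([], [6])], [([], [6]), ([], [8])],
    [([12], [([], [0]), ([], [2])], [8, 16, 12, 17]), ([16], [([], [4]), ([], [4])], [16])],
    [[12], [16]], [[8, 16, 12, 17], [16]], [⟨[], [], [⟨0, [2], [16], [16]⟩, ⟨0, [3], [17], [17]⟩, ⟨0, [2, 2], [16, 16], [16, 16]⟩]⟩,  ⟨[], [⟨0, [0], [12], [8, 16, 12, 17]⟩], [⟨0, [2], [16], [16]⟩, ⟨0, [3], [17], [17]⟩, ⟨0, [2, 2], [16, 16], [16, 16]⟩]⟩]⟩,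
  ⟨[[10, 14, 12, 14], [14], [16], [8], [10]], [[], []], [([], [8]), ([], [6])], [([], [6]), ([], [8])],
    [([12], [([], [0]), ([], [2])], [10, 14, 12, 14]), ([16], [([], [4]), ([], [4])], [16])],
    [[12], [16]], [[10, 14, 12, 14], [16]], [⟨[], [], [⟨0, [2], [16], [16]⟩, ⟨0, [3], [17], [17]⟩, ⟨0, [2, 2], [16, 16], [16, 16]⟩]⟩,  ⟨[], [⟨0, [0], [12], [10, 14, 12, 14]⟩], [⟨0, [2], [16], [16]⟩, ⟨0, [3], [17], [17]⟩, ⟨0, [2, 2], [16, 16], [16, 16]⟩]⟩]⟩,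
  ⟨[[8, 10, 14, 12, 14], [14], [16], [8], [10]], [[], []], [([], [8]), ([], [6])], [([], [6]), ([], [8])],
    [([12], [([], [0]), ([], [2])], [8, 10, 14, 12, 14]), ([16], [([], [4]), ([], [4])], [16])],
    [[12], [16]], [[8, 10, 14, 12, 14], [16]], [⟨[], [], [⟨0, [2], [16], [16]⟩, ⟨0, [3], [17], [17]⟩, ⟨0, [2, 2], [16, 16], [16, 16]⟩]⟩,  ⟨[], [⟨0, [0], [12], [8, 10, 14, 12, 14]⟩], [⟨0, [2], [16], [16]⟩, ⟨0, [3], [17], [17]⟩, ⟨0, [2, 2], [16, 16], [16, 16]⟩]⟩]⟩,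
  ⟨[[14, 16, 12, 16, 14], [14], [16], [8], [10]], [[], []], [([], [8]), ([], [6])], [([], [6]), ([], [8])],
    [([12], [([], [0]), ([], [2])], [14, 16, 12, 16, 14]), ([16], [([], [4]), ([], [4])], [16])],
    [[12], [16]], [[14, 16, 12, 16, 14], [16]], [⟨[], [], [⟨0, [2], [16], [16]⟩, ⟨0, [3], [17], [17]⟩, ⟨0, [2, 2], [16, 16], [16, 16]⟩]⟩,  ⟨[], [⟨0, [0], [12], [14, 16, 12, 16, 14]⟩], [⟨0, [2], [16], [16]⟩, ⟨0, [3], [17], [17]⟩, ⟨0, [2, 2], [16, 16], [16, 16]⟩]⟩]⟩,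
  ⟨[[14, 16, 12, 17, 14], [14], [16], [8], [10]], [[], []], [([], [8]), ([], [6])], [([], [6]), ([], [8])],
    [([12], [([], [0]), ([], [2])], [14, 16, 12, 17, 14]), ([16], [([], [4]), ([], [4])], [16])],
    [[12], [16]], [[14, 16, 12, 17, 14], [16]], [⟨[], [], [⟨0, [2], [16], [16]⟩, ⟨0, [3], [17], [17]⟩, ⟨0, [2, 2], [16, 16], [16, 16]⟩]⟩,  ⟨[], [⟨0, [0], [12], [14, 16, 12, 17, 14]⟩], [⟨0, [2], [16], [16]⟩, ⟨0, [3], [17], [17]⟩, ⟨0, [2, 2], [16, 16], [16, 16]⟩]⟩]⟩,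
  ⟨[[8, 14, 16, 12, 16, 14], [14], [16], [8], [10]], [[], []], [([], [8]), ([], [6])], [([], [6]), ([], [8])],
    [([12], [([], [0]), ([], [2])], [8, 14, 16, 12, 16, 14]), ([16], [([], [4]), ([], [4])], [16])],
    [[12], [16]], [[8, 14, 16, 12, 16, 14], [16]], [⟨[], [], [⟨0, [2], [16], [16]⟩, ⟨0, [3], [17], [17]⟩, ⟨0, [2, 2], [16, 16], [16, 16]⟩]⟩,  ⟨[], [⟨0, [0], [12], [8, 14, 16, 12, 16, 14]⟩], [⟨0, [2], [16], [16]⟩, ⟨0, [3], [17], [17]⟩, ⟨0, [2, 2], [16, 16], [16, 16]⟩]⟩]⟩,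
  ⟨[[8, 14, 16, 12, 17, 14], [14], [16], [8], [10]], [[], []], [([], [8]), ([], [6])], [([], [6]), ([], [8])],
    [([12], [([], [0]), ([], [2])], [8, 14, 16, 12, 17, 14]), ([16], [([], [4]), ([], [4])], [16])],
    [[12], [16]], [[8, 14, 16, 12, 17, 14], [16]], [⟨[], [], [⟨0, [2], [16], [16]⟩, ⟨0, [3], [17], [17]⟩, ⟨0, [2, 2], [16, 16], [16, 16]⟩]⟩,  ⟨[], [⟨0, [0], [12], [8, 14, 16, 12, 17, 14]⟩], [⟨0, [2], [16], [16]⟩, ⟨0, [3], [17], [17]⟩, ⟨0, [2, 2], [16, 16], [16, 16]⟩]⟩]⟩]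

theorem s_kl0 : allL (klB (nat_lit 11) (nat_lit 2047) htt (hch.map Lv.b) (nat_lit 1078) hch [10] [8] us) kl0 = true := by
  decide +kernel

def kl1 : List Kl := [⟨[[12], [8, 14], [16], [8], [10]], [[], []], [([], [8]), ([], [6])], [([], [6]), ([], [8])],
    [([12], [([], [0, 8]), ([], [2])], [10, 12]), ([16], [([], [4]), ([], [4])], [16])],
    [[12], [16]], [[10, 12], [16]], [⟨[], [], [⟨0, [2], [16], [16]⟩, ⟨0, [3], [17], [17]⟩, ⟨0, [0], [12], [10, 12]⟩]⟩,  ⟨[], [⟨0, [0], [12], [10, 12]⟩], [⟨0, [2], [16], [16]⟩, ⟨0, [3], [17], [17]⟩, ⟨0, [2, 2], [16, 16], [16, 16]⟩]⟩]⟩,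
  ⟨[[8, 12], [8, 14], [16], [8], [10]], [[22], [22], [22]], [([22], [8]), ([22], [4, 4]), ([22], [6])], [([22], [6]), ([22], [8]), ([22], [4, 4])],
    [([12], [([22], [2, 4, 0, 4, 2, 6]), ([22], [0, 2, 0, 2, 4]), ([22], [0, 4, 2, 4, 0, 6])], [14, 16, 12, 16, 14]), ([14], [([22], [0, 4, 2, 4, 0, 6]), ([22], [0, 6]), ([22], [0, 2, 5, 0, 2])], [8, 12, 14, 12, 20])],
    [[12], [14]], [[14, 16, 12, 16, 14], [8, 12, 14, 12, 20]], [⟨[], [], [⟨0, [0], [12], [14, 16, 12, 16, 14]⟩, ⟨0, [2], [14], [8, 12, 14, 12, 20]⟩, ⟨0, [0, 2], [12, 14], [14, 16, 12, 16, 14, 8, 12, 14, 12, 20]⟩]⟩,  ⟨[], [⟨0, [0], [12], [14, 16, 12, 16, 14]⟩], [⟨0, [2], [14], [8, 12, 14, 12, 20]⟩, ⟨0, [0, 2], [12, 14], [14, 16, 12, 16, 14, 8, 12, 14, 12, 20]⟩, ⟨0, [2, 0], [14, 12], [8, 12, 14, 12, 20, 14, 16, 12, 16, 14]⟩]⟩]⟩,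
  ⟨[[8, 10, 12], [8, 14], [16], [8], [10]], [[], []], [([], [8]), ([], [6])], [([], [6]), ([], [8])],
    [([12], [([], [0, 8]), ([], [2])], [8, 12]), ([16], [([], [4]), ([], [4])], [16])],
    [[12], [16]], [[8, 12], [16]], [⟨[], [], [⟨0, [2], [16], [16]⟩, ⟨0, [3], [17], [17]⟩, ⟨0, [0], [12], [8, 12]⟩]⟩,  ⟨[], [⟨0, [0], [12], [8, 12]⟩], [⟨0, [2], [16], [16]⟩, ⟨0, [3], [17], [17]⟩, ⟨0, [2, 2], [16, 16], [16, 16]⟩]⟩]⟩,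
  ⟨[[14, 12, 14], [8, 14], [16], [8], [10]], [[], []], [([], [8]), ([], [6])], [([], [6]), ([], [8])],
    [([12], [([], [0, 8]), ([], [2])], [10, 14, 12, 14]), ([16], [([], [4]), ([], [4])], [16])],
    [[12], [16]], [[10, 14, 12, 14], [16]], [⟨[], [], [⟨0, [2], [16], [16]⟩, ⟨0, [3], [17], [17]⟩, ⟨0, [2, 2], [16, 16], [16, 16]⟩]⟩,  ⟨[], [⟨0, [0], [12], [10, 14, 12, 14]⟩], [⟨0, [2], [16], [16]⟩, ⟨0, [3], [17], [17]⟩, ⟨0, [2, 2], [16, 16], [16, 16]⟩]⟩]⟩,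
  ⟨[[16, 12, 16], [8, 14], [16], [8], [10]], [[], []], [([], [8]), ([], [6])], [([], [6]), ([], [8])],
    [([12], [([], [0, 8]), ([], [2])], [8, 16, 12, 17]), ([16], [([], [4]), ([], [4])], [16])],
    [[12], [16]], [[8, 16, 12, 17], [16]], [⟨[], [], [⟨0, [2], [16], [16]⟩, ⟨0, [3], [17], [17]⟩, ⟨0, [2, 2], [16, 16], [16, 16]⟩]⟩,  ⟨[], [⟨0, [0], [12], [8, 16, 12, 17]⟩], [⟨0, [2], [16], [16]⟩, ⟨0, [3], [17], [17]⟩, ⟨0, [2, 2], [16, 16], [16, 16]⟩]⟩]⟩,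
  ⟨[[16, 12, 17], [8, 14], [16], [8], [10]], [[], []], [([], [8]), ([], [6])], [([], [6]), ([], [8])],
    [([12], [([], [0, 8]), ([], [2])], [8, 16, 12, 16]), ([16], [([], [4]), ([], [4])], [16])],
    [[12], [16]], [[8, 16, 12, 16], [16]], [⟨[], [], [⟨0, [2], [16], [16]⟩, ⟨0, [3], [17], [17]⟩, ⟨0, [2, 2], [16, 16], [16, 16]⟩]⟩,  ⟨[], [⟨0, [0], [12], [8, 16, 12, 16]⟩], [⟨0, [2], [16], [16]⟩, ⟨0, [3], [17], [17]⟩, ⟨0, [2, 2], [16, 16], [16, 16]⟩]⟩]⟩,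
  ⟨[[8, 14, 12, 14], [8, 14], [16], [8], [10]], [[], []], [([], [8]), ([], [6])], [([], [6]), ([], [8])],
    [([12], [([], [0, 8]), ([], [2])], [8, 10, 14, 12, 14]), ([16], [([], [4]), ([], [4])], [16])],
    [[12], [16]], [[8, 10, 14, 12, 14], [16]], [⟨[], [], [⟨0, [2], [16], [16]⟩, ⟨0, [3], [17], [17]⟩, ⟨0, [2, 2], [16, 16], [16, 16]⟩]⟩,  ⟨[], [⟨0, [0], [12], [8, 10, 14, 12, 14]⟩], [⟨0, [2], [16], [16]⟩, ⟨0, [3], [17], [17]⟩, ⟨0, [2, 2], [16, 16], [16, 16]⟩]⟩]⟩,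
  ⟨[[8, 16, 12, 16], [8, 14], [16], [8], [10]], [[22], [22], [22]], [([22], [8]), ([22], [4, 4]), ([22], [6])], [([22], [6]), ([22], [8]), ([22], [4, 4])],
    [([12], [([22], [2, 4, 0, 4, 2, 6]), ([22], [0, 2, 0, 2, 4]), ([22], [0, 4, 2, 4, 0, 6])], [14, 12, 14]), ([14], [([22], [4, 2, 4]), ([22], [0, 8]), ([22], [0, 2, 5, 0, 2])], [14, 20])],
    [[12], [14]], [[14, 12, 14], [14, 20]], [⟨[], [], [⟨0, [2], [14], [14, 20]⟩, ⟨0, [0], [12], [14, 12, 14]⟩, ⟨0, [0, 2], [12, 14], [14, 12, 14, 14, 20]⟩]⟩,  ⟨[], [⟨0, [0], [12], [14, 12, 14]⟩], [⟨0, [2], [14], [14, 20]⟩, ⟨0, [0, 2], [12, 14], [14, 12, 14, 14, 20]⟩, ⟨0, [2, 0], [14, 12], [14, 20, 14, 12, 14]⟩]⟩]⟩,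
  ⟨[[8, 16, 12, 17], [8, 14], [16], [8], [10]], [[22], [22], [22]], [([22], [8]), ([22], [4, 4]), ([22], [6])], [([22], [6]), ([22], [8]), ([22], [4, 4])],
    [([12], [([22], [2, 4, 0, 4, 2, 6]), ([22], [0, 2, 0, 2, 4]), ([22], [0, 4, 2, 4, 0, 6])], [8, 10, 14, 12, 14]), ([14], [([22], [4, 2, 4, 8]), ([22], [0, 8]), ([22], [0, 2, 5, 0, 2])], [14, 21])],
    [[12], [14]], [[8, 10, 14, 12, 14], [14, 21]], [⟨[], [], [⟨0, [2], [14], [14, 21]⟩, ⟨0, [0], [12], [8, 10, 14, 12, 14]⟩, ⟨0, [0, 2], [12, 14], [8, 10, 14, 12, 14, 14, 21]⟩]⟩,  ⟨[], [⟨0, [0], [12], [8, 10, 14, 12, 14]⟩], [⟨0, [2], [14], [14, 21]⟩, ⟨0, [0, 2], [12, 14], [8, 10, 14, 12, 14, 14, 21]⟩, ⟨0, [2, 0], [14, 12], [14, 21, 8, 10, 14, 12, 14]⟩]⟩]⟩,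
  ⟨[[10, 14, 12, 14], [8, 14], [16], [8], [10]], [[], []], [([], [8]), ([], [6])], [([], [6]), ([], [8])],
    [([12], [([], [0, 8]), ([], [2])], [14, 12, 14]), ([16], [([], [4]), ([], [4])], [16])],
    [[12], [16]], [[14, 12, 14], [16]], [⟨[], [], [⟨0, [2], [16], [16]⟩, ⟨0, [3], [17], [17]⟩, ⟨0, [2, 2], [16, 16], [16, 16]⟩]⟩,  ⟨[], [⟨0, [0], [12], [14, 12, 14]⟩], [⟨0, [2], [16], [16]⟩, ⟨0, [3], [17], [17]⟩, ⟨0, [2, 2], [16, 16], [16, 16]⟩]⟩]⟩,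
  ⟨[[8, 10, 14, 12, 14], [8, 14], [16], [8], [10]], [[], []], [([], [8]), ([], [6])], [([], [6]), ([], [8])],
    [([12], [([], [0, 8]), ([], [2])], [8, 14, 12, 14]), ([16], [([], [4]), ([], [4])], [16])],
    [[12], [16]], [[8, 14, 12, 14], [16]], [⟨[], [], [⟨0, [2], [16], [16]⟩, ⟨0, [3], [17], [17]⟩, ⟨0, [2, 2], [16, 16], [16, 16]⟩]⟩,  ⟨[], [⟨0, [0], [12], [8, 14, 12, 14]⟩], [⟨0, [2], [16], [16]⟩, ⟨0, [3], [17], [17]⟩, ⟨0, [2, 2], [16, 16], [16, 16]⟩]⟩]⟩,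
  ⟨[[14, 16, 12, 16, 14], [8, 14], [16], [8], [10]], [[], []], [([], [8]), ([], [6])], [([], [6]), ([], [8])],
    [([12], [([], [0, 8]), ([], [2])], [8, 14, 16, 12, 17, 14]), ([16], [([], [4]), ([], [4])], [16])],
    [[12], [16]], [[8, 14, 16, 12, 17, 14], [16]], [⟨[], [], [⟨0, [2], [16], [16]⟩, ⟨0, [3], [17], [17]⟩, ⟨0, [2, 2], [16, 16], [16, 16]⟩]⟩,  ⟨[], [⟨0, [0], [12], [8, 14, 16, 12, 17, 14]⟩], [⟨0, [2], [16], [16]⟩, ⟨0, [3], [17], [17]⟩, ⟨0, [2, 2], [16, 16], [16, 16]⟩]⟩]⟩,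
  ⟨[[14, 16, 12, 17, 14], [8, 14], [16], [8], [10]], [[], []], [([], [8]), ([], [6])], [([], [6]), ([], [8])],
    [([12], [([], [0, 8]), ([], [2])], [8, 14, 16, 12, 16, 14]), ([16], [([], [4]), ([], [4])], [16])],
    [[12], [16]], [[8, 14, 16, 12, 16, 14], [16]], [⟨[], [], [⟨0, [2], [16], [16]⟩, ⟨0, [3], [17], [17]⟩, ⟨0, [2, 2], [16, 16], [16, 16]⟩]⟩,  ⟨[], [⟨0, [0], [12], [8, 14, 16, 12, 16, 14]⟩], [⟨0, [2], [16], [16]⟩, ⟨0, [3], [17], [17]⟩, ⟨0, [2, 2], [16, 16], [16, 16]⟩]⟩]⟩,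
  ⟨[[8, 14, 16, 12, 16, 14], [8, 14], [16], [8], [10]], [[], []], [([], [8]), ([], [6])], [([], [6]), ([], [8])],
    [([12], [([], [0, 8]), ([], [2])], [14, 16, 12, 17, 14]), ([16], [([], [4]), ([], [4])], [16])],
    [[12], [16]], [[14, 16, 12, 17, 14], [16]], [⟨[], [], [⟨0, [2], [16], [16]⟩, ⟨0, [3], [17], [17]⟩, ⟨0, [2, 2], [16, 16], [16, 16]⟩]⟩,  ⟨[], [⟨0, [0], [12], [14, 16, 12, 17, 14]⟩], [⟨0, [2], [16], [16]⟩, ⟨0, [3], [17], [17]⟩, ⟨0, [2, 2], [16, 16], [16, 16]⟩]⟩]⟩,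
  ⟨[[8, 14, 16, 12, 17, 14], [8, 14], [16], [8], [10]], [[], []], [([], [8]), ([], [6])], [([], [6]), ([], [8])],
    [([12], [([], [0, 8]), ([], [2])], [14, 16, 12, 16, 14]), ([16], [([], [4]), ([], [4])], [16])],
    [[12], [16]], [[14, 16, 12, 16, 14], [16]], [⟨[], [], [⟨0, [2], [16], [16]⟩, ⟨0, [3], [17], [17]⟩, ⟨0, [2, 2], [16, 16], [16, 16]⟩]⟩,  ⟨[], [⟨0, [0], [12], [14, 16, 12, 16, 14]⟩], [⟨0, [2], [16], [16]⟩, ⟨0, [3], [17], [17]⟩, ⟨0, [2, 2], [16, 16], [16, 16]⟩]⟩]⟩]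

theorem s_kl1 : allL (klB (nat_lit 11) (nat_lit 2047) htt (hch.map Lv.b) (nat_lit 1078) hch [10] [8] us) kl1 = true := by
  decide +kernel

def kl2 : List Kl := [⟨[[12], [12, 14, 12], [16], [8], [10]], [[], []], [([], [8]), ([], [6])], [([], [6]), ([], [8])],
    [([12], [([], [2, 0, 2]), ([], [2])], [8, 10, 14, 12, 14]), ([16], [([], [4]), ([], [4])], [16])],
    [[12], [16]], [[8, 10, 14, 12, 14], [16]], [⟨[], [], [⟨0, [2], [16], [16]⟩, ⟨0, [3], [17], [17]⟩, ⟨0, [2, 2], [16, 16], [16, 16]⟩]⟩,  ⟨[], [⟨0, [0], [12], [8, 10, 14, 12, 14]⟩], [⟨0, [2], [16], [16]⟩, ⟨0, [3], [17], [17]⟩, ⟨0, [2, 2], [16, 16], [16, 16]⟩]⟩]⟩,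
  ⟨[[8, 12], [12, 14, 12], [16], [8], [10]], [[], []], [([], [8]), ([], [6])], [([], [6]), ([], [8])],
    [([12], [([], [2, 0, 2]), ([], [2])], [10, 14, 12, 14]), ([16], [([], [4]), ([], [4])], [16])],
    [[12], [16]], [[10, 14, 12, 14], [16]], [⟨[], [], [⟨0, [2], [16], [16]⟩, ⟨0, [3], [17], [17]⟩, ⟨0, [2, 2], [16, 16], [16, 16]⟩]⟩,  ⟨[], [⟨0, [0], [12], [10, 14, 12, 14]⟩], [⟨0, [2], [16], [16]⟩, ⟨0, [3], [17], [17]⟩, ⟨0, [2, 2], [16, 16], [16, 16]⟩]⟩]⟩,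
  ⟨[[10, 12], [12, 14, 12], [16], [8], [10]], [[], []], [([], [8]), ([], [6])], [([], [6]), ([], [8])],
    [([12], [([], [2, 0, 2]), ([], [2])], [8, 14, 12, 14]), ([16], [([], [4]), ([], [4])], [16])],
    [[12], [16]], [[8, 14, 12, 14], [16]], [⟨[], [], [⟨0, [2], [16], [16]⟩, ⟨0, [3], [17], [17]⟩, ⟨0, [2, 2], [16, 16], [16, 16]⟩]⟩,  ⟨[], [⟨0, [0], [12], [8, 14, 12, 14]⟩], [⟨0, [2], [16], [16]⟩, ⟨0, [3], [17], [17]⟩, ⟨0, [2, 2], [16, 16], [16, 16]⟩]⟩]⟩,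
  ⟨[[8, 10, 12], [12, 14, 12], [16], [8], [10]], [[], []], [([], [8]), ([], [6])], [([], [6]), ([], [8])],
    [([12], [([], [2, 0, 2]), ([], [2])], [14, 12, 14]), ([16], [([], [4]), ([], [4])], [16])],
    [[12], [16]], [[14, 12, 14], [16]], [⟨[], [], [⟨0, [2], [16], [16]⟩, ⟨0, [3], [17], [17]⟩, ⟨0, [2, 2], [16, 16], [16, 16]⟩]⟩,  ⟨[], [⟨0, [0], [12], [14, 12, 14]⟩], [⟨0, [2], [16], [16]⟩, ⟨0, [3], [17], [17]⟩, ⟨0, [2, 2], [16, 16], [16, 16]⟩]⟩]⟩,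
  ⟨[[14, 12, 14], [12, 14, 12], [16], [8], [10]], [[22], [22], [22]], [([22], [8]), ([22], [4, 4]), ([22], [6])], [([22], [6]), ([22], [8]), ([22], [4, 4])],
    [([12], [([22], [2, 0, 2, 8]), ([22], [0, 2, 0, 4, 2]), ([22], [0, 4, 2, 4, 0, 6])], [8, 12]), ([14], [([22], [0, 2, 0]), ([22], [0, 6]), ([22], [0, 2, 5, 0, 2])], [8, 10, 14])],
    [[12], [14]], [[8, 12], [8, 10, 14]], [⟨[], [], [⟨0, [0], [12], [8, 12]⟩, ⟨0, [2], [14], [8, 10, 14]⟩, ⟨0, [0, 2], [12, 14], [8, 12, 8, 10, 14]⟩]⟩,  ⟨[], [⟨0, [0], [12], [8, 12]⟩], [⟨0, [2], [14], [8, 10, 14]⟩, ⟨0, [0, 2], [12, 14], [8, 12, 8, 10, 14]⟩, ⟨0, [2, 0], [14, 12], [8, 10, 14, 8, 12]⟩]⟩]⟩,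
  ⟨[[16, 12, 16], [12, 14, 12], [16], [8], [10]], [[], []], [([], [8]), ([], [6])], [([], [6]), ([], [8])],
    [([12], [([], [2, 0, 2]), ([], [2])], [14, 16, 12, 17, 14]), ([16], [([], [4]), ([], [4])], [16])],
    [[12], [16]], [[14, 16, 12, 17, 14], [16]], [⟨[], [], [⟨0, [2], [16], [16]⟩, ⟨0, [3], [17], [17]⟩, ⟨0, [2, 2], [16, 16], [16, 16]⟩]⟩,  ⟨[], [⟨0, [0], [12], [14, 16, 12, 17, 14]⟩], [⟨0, [2], [16], [16]⟩, ⟨0, [3], [17], [17]⟩, ⟨0, [2, 2], [16, 16], [16, 16]⟩]⟩]⟩,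
  ⟨[[16, 12, 17], [12, 14, 12], [16], [8], [10]], [[], []], [([], [8]), ([], [6])], [([], [6]), ([], [8])],
    [([12], [([], [2, 0, 2]), ([], [2])], [14, 16, 12, 16, 14]), ([16], [([], [4]), ([], [4])], [16])],
    [[12], [16]], [[14, 16, 12, 16, 14], [16]], [⟨[], [], [⟨0, [2], [16], [16]⟩, ⟨0, [3], [17], [17]⟩, ⟨0, [2, 2], [16, 16], [16, 16]⟩]⟩,  ⟨[], [⟨0, [0], [12], [14, 16, 12, 16, 14]⟩], [⟨0, [2], [16], [16]⟩, ⟨0, [3], [17], [17]⟩, ⟨0, [2, 2], [16, 16], [16, 16]⟩]⟩]⟩,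
  ⟨[[8, 14, 12, 14], [12, 14, 12], [16], [8], [10]], [[], []], [([], [8]), ([], [6])], [([], [6]), ([], [8])],
    [([12], [([], [2, 0, 2]), ([], [2])], [10, 12]), ([16], [([], [4]), ([], [4])], [16])],
    [[12], [16]], [[10, 12], [16]], [⟨[], [], [⟨0, [2], [16], [16]⟩, ⟨0, [3], [17], [17]⟩, ⟨0, [0], [12], [10, 12]⟩]⟩,  ⟨[], [⟨0, [0], [12], [10, 12]⟩], [⟨0, [2], [16], [16]⟩, ⟨0, [3], [17], [17]⟩, ⟨0, [2, 2], [16, 16], [16, 16]⟩]⟩]⟩,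
  ⟨[[8, 16, 12, 16], [12, 14, 12], [16], [8], [10]], [[], []], [([], [8]), ([], [6])], [([], [6]), ([], [8])],
    [([12], [([], [2, 0, 2]), ([], [2])], [8, 14, 16, 12, 17, 14]), ([16], [([], [4]), ([], [4])], [16])],
    [[12], [16]], [[8, 14, 16, 12, 17, 14], [16]], [⟨[], [], [⟨0, [2], [16], [16]⟩, ⟨0, [3], [17], [17]⟩, ⟨0, [2, 2], [16, 16], [16, 16]⟩]⟩,  ⟨[], [⟨0, [0], [12], [8, 14, 16, 12, 17, 14]⟩], [⟨0, [2], [16], [16]⟩, ⟨0, [3], [17], [17]⟩, ⟨0, [2, 2], [16, 16], [16, 16]⟩]⟩]⟩,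
  ⟨[[8, 16, 12, 17], [12, 14, 12], [16], [8], [10]], [[], []], [([], [8]), ([], [6])], [([], [6]), ([], [8])],
    [([12], [([], [2, 0, 2]), ([], [2])], [8, 14, 16, 12, 16, 14]), ([16], [([], [4]), ([], [4])], [16])],
    [[12], [16]], [[8, 14, 16, 12, 16, 14], [16]], [⟨[], [], [⟨0, [2], [16], [16]⟩, ⟨0, [3], [17], [17]⟩, ⟨0, [2, 2], [16, 16], [16, 16]⟩]⟩,  ⟨[], [⟨0, [0], [12], [8, 14, 16, 12, 16, 14]⟩], [⟨0, [2], [16], [16]⟩, ⟨0, [3], [17], [17]⟩, ⟨0, [2, 2], [16, 16], [16, 16]⟩]⟩]⟩,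
  ⟨[[10, 14, 12, 14], [12, 14, 12], [16], [8], [10]], [[], []], [([], [8]), ([], [6])], [([], [6]), ([], [8])],
    [([12], [([], [2, 0, 2]), ([], [2])], [8, 12]), ([16], [([], [4]), ([], [4])], [16])],
    [[12], [16]], [[8, 12], [16]], [⟨[], [], [⟨0, [2], [16], [16]⟩, ⟨0, [3], [17], [17]⟩, ⟨0, [0], [12], [8, 12]⟩]⟩,  ⟨[], [⟨0, [0], [12], [8, 12]⟩], [⟨0, [2], [16], [16]⟩, ⟨0, [3], [17], [17]⟩, ⟨0, [2, 2], [16, 16], [16, 16]⟩]⟩]⟩,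
  ⟨[[14, 16, 12, 16, 14], [12, 14, 12], [16], [8], [10]], [[22], [22], [22]], [([22], [8]), ([22], [4, 4]), ([22], [6])], [([22], [6]), ([22], [8]), ([22], [4, 4])],
    [([12], [([22], [2, 0, 2, 8]), ([22], [0, 2, 0, 4, 2]), ([22], [0, 4, 2, 4, 0, 6])], [8, 16, 12, 16]), ([14], [([22], [2, 6]), ([22], [0, 8]), ([22], [0, 2, 5, 0, 2])], [8, 12, 14, 12])],
    [[12], [14]], [[8, 16, 12, 16], [8, 12, 14, 12]], [⟨[], [], [⟨0, [0], [12], [8, 16, 12, 16]⟩, ⟨0, [2], [14], [8, 12, 14, 12]⟩, ⟨0, [0, 2], [12, 14], [8, 16, 12, 16, 8, 12, 14, 12]⟩]⟩,  ⟨[], [⟨0, [0], [12], [8, 16, 12, 16]⟩], [⟨0, [2], [14], [8, 12, 14, 12]⟩, ⟨0, [0, 2], [12, 14], [8, 16, 12, 16, 8, 12, 14, 12]⟩, ⟨0, [2, 0], [14, 12], [8, 12, 14, 12, 8, 16, 12, 16]⟩]⟩]⟩,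
  ⟨[[14, 16, 12, 17, 14], [12, 14, 12], [16], [8], [10]], [[22], [22], [22]], [([22], [8]), ([22], [4, 4]), ([22], [6])], [([22], [6]), ([22], [8]), ([22], [4, 4])],
    [([12], [([22], [2, 0, 2, 8]), ([22], [0, 2, 0, 4, 2]), ([22], [0, 4, 2, 4, 0, 6])], [8, 16, 12, 17]), ([14], [([22], [2, 4, 4]), ([22], [0, 8]), ([22], [0, 2, 5, 0, 2])], [8, 10, 12, 14, 12])],
    [[12], [14]], [[8, 16, 12, 17], [8, 10, 12, 14, 12]], [⟨[], [], [⟨0, [0], [12], [8, 16, 12, 17]⟩, ⟨0, [2], [14], [8, 10, 12, 14, 12]⟩, ⟨0, [0, 2], [12, 14], [8, 16, 12, 17, 8, 10, 12, 14, 12]⟩]⟩,  ⟨[], [⟨0, [0], [12], [8, 16, 12, 17]⟩], [⟨0, [2], [14], [8, 10, 12, 14, 12]⟩, ⟨0, [0, 2], [12, 14], [8, 16, 12, 17, 8, 10, 12, 14, 12]⟩, ⟨0, [2, 0], [14, 12], [8, 10, 12, 14, 12, 8, 16, 12, 17]⟩]⟩]⟩,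
  ⟨[[8, 14, 16, 12, 16, 14], [12, 14, 12], [16], [8], [10]], [[], []], [([], [8]), ([], [6])], [([], [6]), ([], [8])],
    [([12], [([], [2, 0, 2]), ([], [2])], [8, 16, 12, 17]), ([16], [([], [4]), ([], [4])], [16])],
    [[12], [16]], [[8, 16, 12, 17], [16]], [⟨[], [], [⟨0, [2], [16], [16]⟩, ⟨0, [3], [17], [17]⟩, ⟨0, [2, 2], [16, 16], [16, 16]⟩]⟩,  ⟨[], [⟨0, [0], [12], [8, 16, 12, 17]⟩], [⟨0, [2], [16], [16]⟩, ⟨0, [3], [17], [17]⟩, ⟨0, [2, 2], [16, 16], [16, 16]⟩]⟩]⟩,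
  ⟨[[8, 14, 16, 12, 17, 14], [12, 14, 12], [16], [8], [10]], [[], []], [([], [8]), ([], [6])], [([], [6]), ([], [8])],
    [([12], [([], [2, 0, 2]), ([], [2])], [8, 16, 12, 16]), ([16], [([], [4]), ([], [4])], [16])],
    [[12], [16]], [[8, 16, 12, 16], [16]], [⟨[], [], [⟨0, [2], [16], [16]⟩, ⟨0, [3], [17], [17]⟩, ⟨0, [2, 2], [16, 16], [16, 16]⟩]⟩,  ⟨[], [⟨0, [0], [12], [8, 16, 12, 16]⟩], [⟨0, [2], [16], [16]⟩, ⟨0, [3], [17], [17]⟩, ⟨0, [2, 2], [16, 16], [16, 16]⟩]⟩]⟩]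

theorem s_kl2 : allL (klB (nat_lit 11) (nat_lit 2047) htt (hch.map Lv.b) (nat_lit 1078) hch [10] [8] us) kl2 = true := by
  decide +kernel

def kl3 : List Kl := [⟨[[12], [8, 12, 14, 12], [16], [8], [10]], [[], []], [([], [8]), ([], [6])], [([], [6]), ([], [8])],
    [([12], [([], [2, 0, 2, 8]), ([], [2])], [8, 14, 12, 14]), ([16], [([], [4]), ([], [4])], [16])],
    [[12], [16]], [[8, 14, 12, 14], [16]], [⟨[], [], [⟨0, [2], [16], [16]⟩, ⟨0, [3], [17], [17]⟩, ⟨0, [2, 2], [16, 16], [16, 16]⟩]⟩,  ⟨[], [⟨0, [0], [12], [8, 14, 12, 14]⟩], [⟨0, [2], [16], [16]⟩, ⟨0, [3], [17], [17]⟩, ⟨0, [2, 2], [16, 16], [16, 16]⟩]⟩]⟩,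
  ⟨[[8, 12], [8, 12, 14, 12], [16], [8], [10]], [[], []], [([], [8]), ([], [6])], [([], [6]), ([], [8])],
    [([12], [([], [2, 0, 2, 8]), ([], [2])], [14, 12, 14]), ([16], [([], [4]), ([], [4])], [16])],
    [[12], [16]], [[14, 12, 14], [16]], [⟨[], [], [⟨0, [2], [16], [16]⟩, ⟨0, [3], [17], [17]⟩, ⟨0, [2, 2], [16, 16], [16, 16]⟩]⟩,  ⟨[], [⟨0, [0], [12], [14, 12, 14]⟩], [⟨0, [2], [16], [16]⟩, ⟨0, [3], [17], [17]⟩, ⟨0, [2, 2], [16, 16], [16, 16]⟩]⟩]⟩,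
  ⟨[[10, 12], [8, 12, 14, 12], [16], [8], [10]], [[], []], [([], [8]), ([], [6])], [([], [6]), ([], [8])],
    [([12], [([], [2, 0, 2, 8]), ([], [2])], [8, 10, 14, 12, 14]), ([16], [([], [4]), ([], [4])], [16])],
    [[12], [16]], [[8, 10, 14, 12, 14], [16]], [⟨[], [], [⟨0, [2], [16], [16]⟩, ⟨0, [3], [17], [17]⟩, ⟨0, [2, 2], [16, 16], [16, 16]⟩]⟩,  ⟨[], [⟨0, [0], [12], [8, 10, 14, 12, 14]⟩], [⟨0, [2], [16], [16]⟩, ⟨0, [3], [17], [17]⟩, ⟨0, [2, 2], [16, 16], [16, 16]⟩]⟩]⟩,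
  ⟨[[8, 10, 12], [8, 12, 14, 12], [16], [8], [10]], [[], []], [([], [8]), ([], [6])], [([], [6]), ([], [8])],
    [([12], [([], [2, 0, 2, 8]), ([], [2])], [10, 14, 12, 14]), ([16], [([], [4]), ([], [4])], [16])],
    [[12], [16]], [[10, 14, 12, 14], [16]], [⟨[], [], [⟨0, [2], [16], [16]⟩, ⟨0, [3], [17], [17]⟩, ⟨0, [2, 2], [16, 16], [16, 16]⟩]⟩,  ⟨[], [⟨0, [0], [12], [10, 14, 12, 14]⟩], [⟨0, [2], [16], [16]⟩, ⟨0, [3], [17], [17]⟩, ⟨0, [2, 2], [16, 16], [16, 16]⟩]⟩]⟩,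
  ⟨[[14, 12, 14], [8, 12, 14, 12], [16], [8], [10]], [[], []], [([], [8]), ([], [6])], [([], [6]), ([], [8])],
    [([12], [([], [2, 0, 2, 8]), ([], [2])], [8, 12]), ([16], [([], [4]), ([], [4])], [16])],
    [[12], [16]], [[8, 12], [16]], [⟨[], [], [⟨0, [2], [16], [16]⟩, ⟨0, [3], [17], [17]⟩, ⟨0, [0], [12], [8, 12]⟩]⟩,  ⟨[], [⟨0, [0], [12], [8, 12]⟩], [⟨0, [2], [16], [16]⟩, ⟨0, [3], [17], [17]⟩, ⟨0, [2, 2], [16, 16], [16, 16]⟩]⟩]⟩,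
  ⟨[[16, 12, 16], [8, 12, 14, 12], [16], [8], [10]], [[], []], [([], [8]), ([], [6])], [([], [6]), ([], [8])],
    [([12], [([], [2, 0, 2, 8]), ([], [2])], [8, 14, 16, 12, 16, 14]), ([16], [([], [4]), ([], [4])], [16])],
    [[12], [16]], [[8, 14, 16, 12, 16, 14], [16]], [⟨[], [], [⟨0, [2], [16], [16]⟩, ⟨0, [3], [17], [17]⟩, ⟨0, [2, 2], [16, 16], [16, 16]⟩]⟩,  ⟨[], [⟨0, [0], [12], [8, 14, 16, 12, 16, 14]⟩], [⟨0, [2], [16], [16]⟩, ⟨0, [3], [17], [17]⟩, ⟨0, [2, 2], [16, 16], [16, 16]⟩]⟩]⟩,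
  ⟨[[16, 12, 17], [8, 12, 14, 12], [16], [8], [10]], [[], []], [([], [8]), ([], [6])], [([], [6]), ([], [8])],
    [([12], [([], [2, 0, 2, 8]), ([], [2])], [8, 14, 16, 12, 17, 14]), ([16], [([], [4]), ([], [4])], [16])],
    [[12], [16]], [[8, 14, 16, 12, 17, 14], [16]], [⟨[], [], [⟨0, [2], [16], [16]⟩, ⟨0, [3], [17], [17]⟩, ⟨0, [2, 2], [16, 16], [16, 16]⟩]⟩,  ⟨[], [⟨0, [0], [12], [8, 14, 16, 12, 17, 14]⟩], [⟨0, [2], [16], [16]⟩, ⟨0, [3], [17], [17]⟩, ⟨0, [2, 2], [16, 16], [16, 16]⟩]⟩]⟩,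
  ⟨[[8, 16, 12, 16], [8, 12, 14, 12], [16], [8], [10]], [[], []], [([], [8]), ([], [6])], [([], [6]), ([], [8])],
    [([12], [([], [2, 0, 2, 8]), ([], [2])], [14, 16, 12, 16, 14]), ([16], [([], [4]), ([], [4])], [16])],
    [[12], [16]], [[14, 16, 12, 16, 14], [16]], [⟨[], [], [⟨0, [2], [16], [16]⟩, ⟨0, [3], [17], [17]⟩, ⟨0, [2, 2], [16, 16], [16, 16]⟩]⟩,  ⟨[], [⟨0, [0], [12], [14, 16, 12, 16, 14]⟩], [⟨0, [2], [16], [16]⟩, ⟨0, [3], [17], [17]⟩, ⟨0, [2, 2], [16, 16], [16, 16]⟩]⟩]⟩,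
  ⟨[[8, 16, 12, 17], [8, 12, 14, 12], [16], [8], [10]], [[], []], [([], [8]), ([], [6])], [([], [6]), ([], [8])],
    [([12], [([], [2, 0, 2, 8]), ([], [2])], [14, 16, 12, 17, 14]), ([16], [([], [4]), ([], [4])], [16])],
    [[12], [16]], [[14, 16, 12, 17, 14], [16]], [⟨[], [], [⟨0, [2], [16], [16]⟩, ⟨0, [3], [17], [17]⟩, ⟨0, [2, 2], [16, 16], [16, 16]⟩]⟩,  ⟨[], [⟨0, [0], [12], [14, 16, 12, 17, 14]⟩], [⟨0, [2], [16], [16]⟩, ⟨0, [3], [17], [17]⟩, ⟨0, [2, 2], [16, 16], [16, 16]⟩]⟩]⟩,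
  ⟨[[10, 14, 12, 14], [8, 12, 14, 12], [16], [8], [10]], [[22], [22], [22]], [([22], [8]), ([22], [4, 4]), ([22], [6])], [([22], [6]), ([22], [8]), ([22], [4, 4])],
    [([12], [([22], [2, 0, 2]), ([22], [0, 2, 0, 5, 2]), ([22], [0, 4, 2, 4, 0, 6])], [8, 12]), ([14], [([22], [0, 2, 0, 6]), ([22], [0, 6]), ([22], [0, 2, 5, 0, 2])], [8, 10, 14])],
    [[12], [14]], [[8, 12], [8, 10, 14]], [⟨[], [], [⟨0, [0], [12], [8, 12]⟩, ⟨0, [2], [14], [8, 10, 14]⟩, ⟨0, [0, 2], [12, 14], [8, 12, 8, 10, 14]⟩]⟩,  ⟨[], [⟨0, [0], [12], [8, 12]⟩], [⟨0, [2], [14], [8, 10, 14]⟩, ⟨0, [0, 2], [12, 14], [8, 12, 8, 10, 14]⟩, ⟨0, [2, 0], [14, 12], [8, 10, 14, 8, 12]⟩]⟩]⟩,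
  ⟨[[8, 10, 14, 12, 14], [8, 12, 14, 12], [16], [8], [10]], [[], []], [([], [8]), ([], [6])], [([], [6]), ([], [8])],
    [([12], [([], [2, 0, 2, 8]), ([], [2])], [10, 12]), ([16], [([], [4]), ([], [4])], [16])],
    [[12], [16]], [[10, 12], [16]], [⟨[], [], [⟨0, [2], [16], [16]⟩, ⟨0, [3], [17], [17]⟩, ⟨0, [0], [12], [10, 12]⟩]⟩,  ⟨[], [⟨0, [0], [12], [10, 12]⟩], [⟨0, [2], [16], [16]⟩, ⟨0, [3], [17], [17]⟩, ⟨0, [2, 2], [16, 16], [16, 16]⟩]⟩]⟩,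
  ⟨[[14, 16, 12, 16, 14], [8, 12, 14, 12], [16], [8], [10]], [[], []], [([], [8]), ([], [6])], [([], [6]), ([], [8])],
    [([12], [([], [2, 0, 2, 8]), ([], [2])], [8, 16, 12, 16]), ([16], [([], [4]), ([], [4])], [16])],
    [[12], [16]], [[8, 16, 12, 16], [16]], [⟨[], [], [⟨0, [2], [16], [16]⟩, ⟨0, [3], [17], [17]⟩, ⟨0, [2, 2], [16, 16], [16, 16]⟩]⟩,  ⟨[], [⟨0, [0], [12], [8, 16, 12, 16]⟩], [⟨0, [2], [16], [16]⟩, ⟨0, [3], [17], [17]⟩, ⟨0, [2, 2], [16, 16], [16, 16]⟩]⟩]⟩,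
  ⟨[[14, 16, 12, 17, 14], [8, 12, 14, 12], [16], [8], [10]], [[], []], [([], [8]), ([], [6])], [([], [6]), ([], [8])],
    [([12], [([], [2, 0, 2, 8]), ([], [2])], [8, 16, 12, 17]), ([16], [([], [4]), ([], [4])], [16])],
    [[12], [16]], [[8, 16, 12, 17], [16]], [⟨[], [], [⟨0, [2], [16], [16]⟩, ⟨0, [3], [17], [17]⟩, ⟨0, [2, 2], [16, 16], [16, 16]⟩]⟩,  ⟨[], [⟨0, [0], [12], [8, 16, 12, 17]⟩], [⟨0, [2], [16], [16]⟩, ⟨0, [3], [17], [17]⟩, ⟨0, [2, 2], [16, 16], [16, 16]⟩]⟩]⟩,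
  ⟨[[8, 14, 16, 12, 16, 14], [8, 12, 14, 12], [16], [8], [10]], [[22], [22], [22]], [([22], [8]), ([22], [4, 4]), ([22], [6])], [([22], [6]), ([22], [8]), ([22], [4, 4])],
    [([12], [([22], [2, 0, 2]), ([22], [0, 2, 0, 5, 2]), ([22], [0, 4, 2, 4, 0, 6])], [8, 16, 12, 17]), ([14], [([22], [2, 8]), ([22], [0, 8]), ([22], [0, 2, 5, 0, 2])], [8, 10, 12, 14, 12])],
    [[12], [14]], [[8, 16, 12, 17], [8, 10, 12, 14, 12]], [⟨[], [], [⟨0, [0], [12], [8, 16, 12, 17]⟩, ⟨0, [2], [14], [8, 10, 12, 14, 12]⟩, ⟨0, [0, 2], [12, 14], [8, 16, 12, 17, 8, 10, 12, 14, 12]⟩]⟩,  ⟨[], [⟨0, [0], [12], [8, 16, 12, 17]⟩], [⟨0, [2], [14], [8, 10, 12, 14, 12]⟩, ⟨0, [0, 2], [12, 14], [8, 16, 12, 17, 8, 10, 12, 14, 12]⟩, ⟨0, [2, 0], [14, 12], [8, 10, 12, 14, 12, 8, 16, 12, 17]⟩]⟩]⟩,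
  ⟨[[8, 14, 16, 12, 17, 14], [8, 12, 14, 12], [16], [8], [10]], [[22], [22], [22]], [([22], [8]), ([22], [4, 4]), ([22], [6])], [([22], [6]), ([22], [8]), ([22], [4, 4])],
    [([12], [([22], [2, 0, 2]), ([22], [0, 2, 0, 5, 2]), ([22], [0, 4, 2, 4, 0, 6])], [8, 16, 12, 16]), ([14], [([22], [2]), ([22], [0, 8]), ([22], [0, 2, 5, 0, 2])], [8, 12, 14, 12])],
    [[12], [14]], [[8, 16, 12, 16], [8, 12, 14, 12]], [⟨[], [], [⟨0, [0], [12], [8, 16, 12, 16]⟩, ⟨0, [2], [14], [8, 12, 14, 12]⟩, ⟨0, [0, 2], [12, 14], [8, 16, 12, 16, 8, 12, 14, 12]⟩]⟩,  ⟨[], [⟨0, [0], [12], [8, 16, 12, 16]⟩], [⟨0, [2], [14], [8, 12, 14, 12]⟩, ⟨0, [0, 2], [12, 14], [8, 16, 12, 16, 8, 12, 14, 12]⟩, ⟨0, [2, 0], [14, 12], [8, 12, 14, 12, 8, 16, 12, 16]⟩]⟩]⟩]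

theorem s_kl3 : allL (klB (nat_lit 11) (nat_lit 2047) htt (hch.map Lv.b) (nat_lit 1078) hch [10] [8] us) kl3 = true := by
  decide +kernel

end Cfsg.Agent.Lib.ONP
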