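import Mathlib
import Cfsg.Agent.Lib.PCoreResidual
import Cfsg.Agent.Lib.Dickson
import Cfsg.Agent.Lib.FrattiniFacts

/-!
Extraspecial groups of order `p ^ 3`: the commutator form, torus elements coming from `SL₂(p)`
automizers, and the action of the normalizer on the subgroups of order `p ^ 2`.
-/

set_option autoImplicit false
set_option linter.unusedSectionVars false

namespace Cfsg.Agent.Lib.PCubed

open Subgroup Cfsg.Agent.Lib.PCoreConj Cfsg.Agent.Lib.PCore Cfsg.Agent.Lib.PCoreResidual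
open scoped commutatorElement

variable {G : Type*} [Group G] {p : ℕ} [hp : Fact p.Prime]

/-- power of a group element by a residue class. -/
def pw (x : G) (i : ZMod p) : G := x ^ i.val

section Pw

variable {x y g : G}

theorem pw_natCast (hx : x ^ p = 1) (n : ℕ) : pw x (n : ZMod p) = x ^ n := by
  rw [pw, ZMod.val_natCast, ← pow_eq_pow_mod n hx]

theorem pw_add (hx : x ^ p = 1) (i j : ZMod p) : pw x (i + j) = pw x i * pw x j := by
  rw [pw, pw, pw, ZMod.val_add, ← pow_eq_pow_mod _ hx, pow_add]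

theorem pw_zero (x : G) : pw x (0 : ZMod p) = 1 := by simp [pw]

theorem pw_one (x : G) : pw x (1 : ZMod p) = x := by simp [pw, ZMod.val_one]

theorem pw_neg (hx : x ^ p = 1) (i : ZMod p) : pw x (-i) = (pw x i)⁻¹ := by
  rw [eq_inv_iff_mul_eq_one, ← pw_add hx, neg_add_cancel, pw_zero]

theorem pw_pow (hx : x ^ p = 1) (i : ZMod p) (n : ℕ) : pw x i ^ n = pw x (i * (n : ZMod p)) := by
  rw [pw, ← pow_mul, ← pw_natCast hx]
  simp

theorem pw_pw (hx : x ^ p = 1) (i j : ZMod p) : pw (pw x i) j = pw x (i * j) := by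
  rw [pw, pw_pow hx]; simp

theorem pw_pow_char (hx : x ^ p = 1) (i : ZMod p) : pw x i ^ p = 1 := by
  rw [pw_pow hx]; simp [pw_zero]

theorem pw_eq_one_iff (hx : orderOf x = p) {i : ZMod p} : pw x i = 1 ↔ i = 0 := by
  rw [pw, ← orderOf_dvd_iff_pow_eq_one, hx, ← ZMod.natCast_eq_zero_iff]; simp

theorem pw_inj (hx : orderOf x = p) {i j : ZMod p} (h : pw x i = pw x j) : i = j := by
  have hx' : x ^ p = 1 := hx ▸ pow_orderOf_eq_one x
  rw [← sub_eq_zero, ← pw_eq_one_iff hx, sub_eq_add_neg, pw_add hx', pw_neg hx', h, mul_inv_cancel]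

theorem conj_pw (g x : G) (i : ZMod p) : g * pw x i * g⁻¹ = pw (g * x * g⁻¹) i := by
  rw [pw, pw, conj_pow]

theorem pw_mem {H : Subgroup G} (hx : x ∈ H) (i : ZMod p) : pw x i ∈ H := H.pow_mem hx _

theorem pw_mem_zpowers (x : G) (i : ZMod p) : pw x i ∈ zpowers x := pw_mem (mem_zpowers x) i

theorem exists_pw (hx : x ^ p = 1) (hy : y ∈ zpowers x) : ∃ i : ZMod p, pw x i = y := by
  have hfin : IsOfFinOrder x := isOfFinOrder_iff_pow_eq_one.mpr ⟨p, hp.out.pos, hx⟩
  obtain ⟨n, rfl⟩ := hfin.mem_powers_iff_mem_zpowers.mpr hy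
  exact ⟨n, pw_natCast hx n⟩

theorem commute_pw (h : Commute x y) (i j : ZMod p) : Commute (pw x i) (pw y j) := h.pow_pow _ _

theorem mul_pw (h : Commute x y) (i : ZMod p) : pw (x * y) i = pw x i * pw y i := h.mul_pow _

end Pw

theorem mul_pow_of_central {u v w : G} (h : v * u = u * v * w) (hu : Commute w u) (hv : Commute w v)
    (n : ℕ) : (u * v) ^ n = u ^ n * v ^ n * w ^ n.choose 2 := by
  have h1 : ∀ n : ℕ, v ^ n * u = u * v ^ n * w ^ n := by
    intro n
    induction n with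
    | zero => simp
    | succ n ih =>
      calc v ^ (n + 1) * u = v ^ n * (v * u) := by rw [pow_succ, mul_assoc]
        _ = (v ^ n * u) * v * w := by rw [h]; group
        _ = u * v ^ n * (w ^ n * v) * w := by rw [ih]; group
        _ = _ := by rw [(hv.pow_left n).eq]; group
  induction n with
  | zero => simp
  | succ n ih =>
    rw [Nat.choose_succ_succ' n 1, Nat.choose_one_right]
    calc (u * v) ^ (n + 1) = u ^ n * v ^ n * (w ^ n.choose 2 * (u * v)) := by rw [pow_succ, ih]; group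
      _ = u ^ n * (v ^ n * u) * v * w ^ n.choose 2 := by
        rw [((hu.mul_right hv).pow_left _).eq]; group
      _ = u ^ n * u * v ^ n * (w ^ n * v) * w ^ n.choose 2 := by rw [h1]; group
      _ = _ := by rw [(hv.pow_left n).eq]; group

/-- `P` has order `p ^ 3`, centre generated by `c` of order `p`, and class two. -/
structure Data (p : ℕ) (P : Subgroup G) (c : G) : Prop where
  card : Nat.card P = p ^ 3
  ord : orderOf c = p
  mem : c ∈ P
  cent : ∀ u ∈ P, (∀ v ∈ P, Commute u v) ↔ u ∈ zpowers c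
  comm : ∀ u ∈ P, ∀ v ∈ P, ⁅u, v⁆ ∈ zpowers c

theorem exists_data {P : Subgroup G} [Finite P] (hE : IsExtraspecial p P) (hc : Nat.card P = p ^ 3) :
    ∃ c, Data p P c := by
  have : IsCyclic (center P) := isCyclic_of_prime_card hE.2
  obtain ⟨⟨c, hcc⟩, hg⟩ := IsCyclic.exists_generator (α := center P)
  have hz : ∀ u : P, u ∈ center P ↔ (u : G) ∈ zpowers (c : G) := by
    intro u
    constructor
    · intro hu
      obtain ⟨k, hk⟩ := hg ⟨u, hu⟩
      exact ⟨k, by simpa using congrArg (fun w : center P => ((w : P) : G)) hk⟩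
    · rintro ⟨k, hk⟩
      have : u = c ^ k := Subtype.ext (by simpa using hk.symm)
      exact this ▸ zpow_mem hcc k
  refine ⟨c, hc, ?_, c.2, fun u hu => ?_, fun u hu v hv => ?_⟩
  · have := orderOf_eq_card_of_forall_mem_zpowers hg
    rw [hE.2, ← orderOf_coe] at this
    rw [orderOf_coe]
    exact this
  · rw [← hz ⟨u, hu⟩, mem_center_iff]
    exact ⟨fun h g => Subtype.ext (h g g.2).symm, fun h v hv => (congrArg Subtype.val (h ⟨v, hv⟩)).symm⟩
  · have : (⁅(⟨u, hu⟩ : P), ⟨v, hv⟩⁆ : P) ∈ center P := by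
      rw [← hE.1.2.2]
      exact commutator_mem_commutator (mem_top _) (mem_top _)
    exact (hz _).mp this

theorem Data.conj {P : Subgroup G} {c : G} (h : Data p P c) (g : G) :
    Data p (P ^ᶜ g) (g * c * g⁻¹) := by
  refine ⟨by rw [card_conj, h.card], by rw [orderOf_conj, h.ord], conj_mem_conj g h.mem, ?_, ?_⟩
  · intro u hu
    obtain ⟨u, hu', rfl⟩ := mem_conj_iff'.mp hu
    rw [← conj_zpowers, conj_mem_conj_iff, ← h.cent u hu']
    constructor
    · intro h1 v hv
      have := (h1 _ (conj_mem_conj g hv)).eq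
      rw [Commute, SemiconjBy]
      calc u * v = g⁻¹ * (g * u * g⁻¹ * (g * v * g⁻¹)) * g := by group
        _ = _ := by rw [this]; group
    · intro h1 v hv
      obtain ⟨v, hv', rfl⟩ := mem_conj_iff'.mp hv
      exact (h1 v hv').conj g
  · intro u hu v hv
    obtain ⟨u, hu', rfl⟩ := mem_conj_iff'.mp hu
    obtain ⟨v, hv', rfl⟩ := mem_conj_iff'.mp hv
    rw [← conj_zpowers, ← conjugate_commutatorElement]
    exact conj_mem_conj g (h.comm u hu' v hv')

open Classical in
/-- the commutator form. -/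
noncomputable def beta (p : ℕ) (c u v : G) : ZMod p :=
  if h : ∃ i : ZMod p, c ^ i.val = ⁅u, v⁆ then h.choose else 0

namespace Data

variable {P : Subgroup G} {c : G} (h : Data p P c)
include h

theorem pow_c : c ^ p = 1 := h.ord ▸ pow_orderOf_eq_one c

theorem c_ne_one : c ≠ 1 := fun e => hp.out.one_lt.ne' (by rw [← h.ord, e, orderOf_one])

theorem zle : zpowers c ≤ P := Subgroup.zpowers_le.mpr h.mem

theorem commute {z v : G} (hz : z ∈ zpowers c) (hv : v ∈ P) : Commute z v :=
  (h.cent z (h.zle hz)).mpr hz v hv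

theorem isPGroup : IsPGroup p P := IsPGroup.of_card h.card

theorem finite : Finite P := Nat.finite_of_card_ne_zero (h.card ▸ pow_ne_zero _ hp.out.ne_zero)

theorem beta_spec {u v : G} (hu : u ∈ P) (hv : v ∈ P) : pw c (beta p c u v) = ⁅u, v⁆ := by
  have : ∃ i : ZMod p, c ^ i.val = ⁅u, v⁆ := exists_pw h.pow_c (h.comm u hu v hv)
  rw [beta, dif_pos this]
  exact this.choose_spec

theorem beta_eq {u v : G} (hu : u ∈ P) (hv : v ∈ P) {i : ZMod p} (hi : pw c i = ⁅u, v⁆) :
    beta p c u v = i := pw_inj h.ord (by rw [h.beta_spec hu hv, hi])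

theorem beta_eq_zero_iff {u v : G} (hu : u ∈ P) (hv : v ∈ P) : beta p c u v = 0 ↔ Commute u v := by
  rw [← pw_eq_one_iff h.ord, h.beta_spec hu hv, commutatorElement_eq_one_iff_commute]

theorem beta_self {u : G} (hu : u ∈ P) : beta p c u u = 0 :=
  (h.beta_eq_zero_iff hu hu).mpr (Commute.refl u)

theorem beta_swap {u v : G} (hu : u ∈ P) (hv : v ∈ P) : beta p c u v = -beta p c v u :=
  h.beta_eq hu hv (by rw [pw_neg h.pow_c, h.beta_spec hv hu, commutatorElement_inv])

theorem beta_mul_left {u v w : G} (hu : u ∈ P) (hv : v ∈ P) (hw : w ∈ P) :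
    beta p c (u * v) w = beta p c u w + beta p c v w := by
  refine h.beta_eq (P.mul_mem hu hv) hw ?_
  rw [add_comm, pw_add h.pow_c, h.beta_spec hu hw, h.beta_spec hv hw]
  have := (h.commute (h.comm v hv w hw) hu).eq
  calc ⁅v, w⁆ * ⁅u, w⁆ = (⁅v, w⁆ * u) * u⁻¹ * ⁅u, w⁆ := by group
    _ = _ := by rw [this]; simp only [commutatorElement_def]; group

theorem beta_mul_right {u v w : G} (hu : u ∈ P) (hv : v ∈ P) (hw : w ∈ P) :
    beta p c w (u * v) = beta p c w u + beta p c w v := by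
  rw [h.beta_swap hw (P.mul_mem hu hv), h.beta_mul_left hu hv hw, h.beta_swap hw hu,
    h.beta_swap hw hv]; ring

theorem beta_center_left {z v : G} (hz : z ∈ zpowers c) (hv : v ∈ P) : beta p c z v = 0 :=
  (h.beta_eq_zero_iff (h.zle hz) hv).mpr (h.commute hz hv)

theorem beta_center_right {z v : G} (hz : z ∈ zpowers c) (hv : v ∈ P) : beta p c v z = 0 :=
  (h.beta_eq_zero_iff hv (h.zle hz)).mpr (h.commute hz hv).symm

theorem beta_pow_left {u v : G} (hu : u ∈ P) (hv : v ∈ P) (n : ℕ) :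
    beta p c (u ^ n) v = n * beta p c u v := by
  induction n with
  | zero => simpa using h.beta_center_left (one_mem _) hv
  | succ n ih => rw [pow_succ, h.beta_mul_left (P.pow_mem hu n) hu hv, ih]; push_cast; ring

theorem beta_pw_left {u v : G} (hu : u ∈ P) (hv : v ∈ P) (i : ZMod p) :
    beta p c (pw u i) v = i * beta p c u v := by
  rw [pw, h.beta_pow_left hu hv]; simp

theorem beta_pw_right {u v : G} (hu : u ∈ P) (hv : v ∈ P) (i : ZMod p) :
    beta p c u (pw v i) = i * beta p c u v := by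
  rw [h.beta_swap hu (pw_mem hv i), h.beta_pw_left hv hu, h.beta_swap hu hv]; ring

theorem beta_coord {x y z x' y' z' : G} (hx : x ∈ P) (hy : y ∈ P) (hz : z ∈ zpowers c)
    (hx' : x' ∈ P) (hy' : y' ∈ P) (hz' : z' ∈ zpowers c) :
    beta p c (x * y * z) (x' * y' * z') =
      beta p c x x' + beta p c x y' + beta p c y x' + beta p c y y' := by
  have hz1 := h.zle hz
  have hz2 := h.zle hz'
  have hw := P.mul_mem (P.mul_mem hx' hy') hz2
  rw [h.beta_mul_left (P.mul_mem hx hy) hz1 hw, h.beta_center_left hz hw, h.beta_mul_left hx hy hw,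
    h.beta_mul_right (P.mul_mem hx' hy') hz2 hx, h.beta_mul_right (P.mul_mem hx' hy') hz2 hy,
    h.beta_center_right hz' hx, h.beta_center_right hz' hy, h.beta_mul_right hx' hy' hx,
    h.beta_mul_right hx' hy' hy]
  ring

theorem beta_conj {n u v : G} (hn : n ∈ normalizer (P : Set G)) {l : ZMod p}
    (hl : n * c * n⁻¹ = pw c l) (hu : u ∈ P) (hv : v ∈ P) :
    beta p c (n * u * n⁻¹) (n * v * n⁻¹) = l * beta p c u v := by
  refine h.beta_eq ((mem_normalizer_iff.mp hn u).mp hu) ((mem_normalizer_iff.mp hn v).mp hv) ?_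
  rw [← conjugate_commutatorElement, ← h.beta_spec hu hv, conj_pw, hl, pw_pw h.pow_c]

theorem pow_mem_center {u : G} (hu : u ∈ P) : u ^ p ∈ zpowers c := by
  refine (h.cent _ (P.pow_mem hu p)).mp fun v hv => ?_
  rw [← h.beta_eq_zero_iff (P.pow_mem hu p) hv, h.beta_pow_left hu hv]; simp

theorem exists_beta_ne_zero {a : G} (ha : a ∈ P) (haZ : a ∉ zpowers c) :
    ∃ x ∈ P, beta p c x a ≠ 0 := by
  by_contra hne
  push Not at hne
  exact haZ ((h.cent a ha).mp fun v hv => ((h.beta_eq_zero_iff hv ha).mp (hne v hv)).symm)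

theorem exists_beta_eq {a : G} (ha : a ∈ P) (haZ : a ∉ zpowers c) (s : ZMod p) :
    ∃ x ∈ P, beta p c x a = s := by
  obtain ⟨x, hx, hb⟩ := h.exists_beta_ne_zero ha haZ
  exact ⟨pw x (s * (beta p c x a)⁻¹), pw_mem hx _, by
    rw [h.beta_pw_left hx ha, mul_assoc, inv_mul_cancel₀ hb, mul_one]⟩

theorem exists_not_mem : ∃ a ∈ P, a ∉ zpowers c := by
  by_contra hne
  push Not at hne
  have := h.finite
  have h1 : P = zpowers c := le_antisymm hne h.zle
  have h2 := h.card
  rw [h1, Nat.card_zpowers, h.ord] at h2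
  have := Nat.pow_lt_pow_right hp.out.one_lt (show 1 < 3 by omega)
  rw [pow_one] at this
  omega

theorem exists_coord {x y : G} (hx : x ∈ P) (hy : y ∈ P) (hxy : beta p c x y ≠ 0) {u : G}
    (hu : u ∈ P) : ∃ i j : ZMod p, ∃ z ∈ zpowers c, u = pw x i * pw y j * z := by
  have := h.finite
  let f : ZMod p × ZMod p × zpowers c → P := fun t =>
    ⟨pw x t.1 * pw y t.2.1 * t.2.2,
      P.mul_mem (P.mul_mem (pw_mem hx _) (pw_mem hy _)) (h.zle t.2.2.2)⟩
  have hf : Function.Injective f := by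
    rintro ⟨i, j, z⟩ ⟨i', j', z'⟩ e
    have e : pw x i * pw y j * z = pw x i' * pw y j' * z' := congrArg Subtype.val e
    have k1 : ∀ (i j : ZMod p) (z : zpowers c), beta p c (pw x i * pw y j * z) y = i * beta p c x y := by
      intro i j z
      rw [h.beta_mul_left (P.mul_mem (pw_mem hx _) (pw_mem hy _)) (h.zle z.2) hy,
        h.beta_center_left z.2 hy, h.beta_mul_left (pw_mem hx _) (pw_mem hy _) hy,
        h.beta_pw_left hx hy, h.beta_pw_left hy hy, h.beta_self hy]; ring
    have k2 : ∀ (i j : ZMod p) (z : zpowers c), beta p c x (pw x i * pw y j * z) = j * beta p c x y := by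
      intro i j z
      rw [h.beta_mul_right (P.mul_mem (pw_mem hx _) (pw_mem hy _)) (h.zle z.2) hx,
        h.beta_center_right z.2 hx, h.beta_mul_right (pw_mem hx _) (pw_mem hy _) hx,
        h.beta_pw_right hx hy, h.beta_pw_right hx hx, h.beta_self hx]; ring
    have e1 : i = i' := mul_right_cancel₀ hxy (by rw [← k1 i j z, e, k1])
    have e2 : j = j' := mul_right_cancel₀ hxy (by rw [← k2 i j z, e, k2])
    subst e1 e2
    rw [Subtype.ext (mul_left_cancel e)]
  have hb := hf.bijective_of_nat_card_le (by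
    rw [h.card, Nat.card_prod, Nat.card_prod, Nat.card_zmod, Nat.card_zpowers, h.ord]
    ring_nf; rfl)
  obtain ⟨⟨i, j, z⟩, e⟩ := hb.2 ⟨u, hu⟩
  exact ⟨i, j, z, z.2, (congrArg Subtype.val e).symm⟩

theorem mul_pow_char (hp2 : p ≠ 2) {u v : G} (hu : u ∈ P) (hv : v ∈ P) :
    (u * v) ^ p = u ^ p * v ^ p := by
  have hw := h.comm _ (P.inv_mem hv) _ (P.inv_mem hu)
  rw [mul_pow_of_central (w := ⁅v⁻¹, u⁻¹⁆) (by simp only [commutatorElement_def]; group)
    (h.commute hw hu) (h.commute hw hv)]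
  obtain ⟨i, hi⟩ := exists_pw h.pow_c hw
  obtain ⟨k, hk⟩ := hp.out.dvd_choose_self two_ne_zero (lt_of_le_of_ne hp.out.two_le (Ne.symm hp2))
  rw [hk, pow_mul, ← hi, pw_pow_char h.pow_c]
  simp

theorem conj_c {n : G} (hn : n ∈ normalizer (P : Set G)) : ∃ l : ZMod p, n * c * n⁻¹ = pw c l := by
  have : n * c * n⁻¹ ∈ zpowers c := by
    refine (h.cent _ ((mem_normalizer_iff.mp hn c).mp h.mem)).mp fun v hv => ?_
    have := (h.commute (mem_zpowers c) ((mem_normalizer_iff''.mp hn v).mp hv)).conj n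
    simpa [mul_assoc] using this
  obtain ⟨l, hl⟩ := exists_pw h.pow_c this
  exact ⟨l, hl.symm⟩

theorem le_of_card {A : Subgroup G} (hA : A ≤ P) (hc : Nat.card A = p ^ 2) : zpowers c ≤ A := by
  have := h.finite
  have hAf : Finite A := finite_of_le hA
  have hn : A ≤ normalizer (zpowers c : Set G) :=
    le_normalizer_of_le_centralizer fun a ha z hz => h.commute hz (hA ha)
  by_contra hne
  have h1 : A ⊓ zpowers c = ⊥ := by
    have : Fact (Nat.card (zpowers c)).Prime := ⟨by rw [Nat.card_zpowers, h.ord]; exact hp.out⟩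
    rcases (A.subgroupOf (zpowers c)).eq_bot_or_eq_top_of_prime_card with h2 | h2
    · rwa [subgroupOf_eq_bot, disjoint_iff] at h2
    · exact absurd (subgroupOf_eq_top.mp h2) hne
  have h2 := card_sup_mul_card_inf hn
  rw [h1, card_bot, mul_one, hc, Nat.card_zpowers, h.ord] at h2
  have h3 : A ⊔ zpowers c = P := eq_of_le_of_card_le (sup_le hA h.zle) (by
    rw [h2, h.card]; ring_nf; rfl)
  have hcomm : ∀ a ∈ A, ∀ b ∈ A, Commute a b := fun a ha b hb =>
    congrArg Subtype.val ((IsPGroup.isMulCommutative_of_card_eq_prime_sq hc).is_comm.comm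
      (⟨a, ha⟩ : A) ⟨b, hb⟩)
  have h4 : A ≤ zpowers c := fun a ha => (h.cent a (hA ha)).mp fun v hv => by
    rw [← h3, mem_sup_iff_of_le_normalizer hn] at hv
    obtain ⟨b, hb, z, hz, rfl⟩ := hv
    exact (hcomm a ha b hb).mul_right (h.commute hz (hA ha)).symm
  have := finite_of_le h.zle
  have h5 := card_le_of_le h4
  rw [hc, Nat.card_zpowers, h.ord] at h5
  have := Nat.pow_lt_pow_right hp.out.one_lt (show 1 < 2 by omega)
  rw [pow_one] at this
  omega

end Data

section Torus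

variable {c a : G}

/-- `g` induces the given matrix on `⟨c, a⟩`. -/
def Ind (c a g : G) (m₁ m₂ m₃ m₄ : ZMod p) : Prop :=
  ∀ i j : ZMod p, g * (pw c i * pw a j) * g⁻¹ = pw c (m₁ * i + m₂ * j) * pw a (m₃ * i + m₄ * j)

theorem ind_of (hc : c ^ p = 1) (ha : a ^ p = 1) (hca : Commute c a) {g : G} {m₁ m₂ m₃ m₄ : ZMod p}
    (h1 : g * c * g⁻¹ = pw c m₁ * pw a m₃) (h2 : g * a * g⁻¹ = pw c m₂ * pw a m₄) :
    Ind c a g m₁ m₂ m₃ m₄ := by
  intro i j
  rw [← conj_mul, conj_pw, conj_pw, h1, h2, mul_pw (commute_pw hca _ _), mul_pw (commute_pw hca _ _),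
    pw_pw hc, pw_pw hc, pw_pw ha, pw_pw ha, pw_add hc, pw_add ha, mul_assoc, mul_assoc,
    ← mul_assoc (pw a _), ← (commute_pw hca _ _).eq, mul_assoc]

theorem Ind.mul {g g' : G} {m₁ m₂ m₃ m₄ n₁ n₂ n₃ n₄ : ZMod p} (h : Ind c a g m₁ m₂ m₃ m₄)
    (h' : Ind c a g' n₁ n₂ n₃ n₄) : Ind c a (g * g') (m₁ * n₁ + m₂ * n₃) (m₁ * n₂ + m₂ * n₄)
      (m₃ * n₁ + m₄ * n₃) (m₃ * n₂ + m₄ * n₄) := by
  intro i j
  calc g * g' * (pw c i * pw a j) * (g * g')⁻¹ = g * (g' * (pw c i * pw a j) * g'⁻¹) * g⁻¹ := by group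
    _ = _ := by rw [h', h]; congr 2 <;> ring

theorem Ind.pow_lower {g : G} {s : ZMod p} (h : Ind c a g 1 0 s 1) (n : ℕ) :
    Ind c a (g ^ n) 1 0 ((n : ZMod p) * s) 1 := by
  induction n with
  | zero => intro i j; simp
  | succ n ih =>
    have := ih.mul h
    rw [pow_succ]
    convert this using 1 <;> push_cast <;> ring

theorem Data.torus [Finite G] {P : Subgroup G} (h : Data p P c) (hS : IsSylowIn p P ⊤)
    (haP : a ∈ P) (haZ : a ∉ zpowers c) (ha : a ^ p = 1)
    (hV : ∃ (g : G) (s : ZMod p), s ≠ 0 ∧ g * a * g⁻¹ = a ∧ g * c * g⁻¹ = c * pw a s)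
    {l : ZMod p} (hl : l ≠ 0) : ∃ n ∈ normalizer (P : Set G), n * c * n⁻¹ = pw c l ∧
      ∃ z ∈ zpowers c, n * a * n⁻¹ = pw a l⁻¹ * z := by
  have hc := h.pow_c
  have hca : Commute c a := h.commute (mem_zpowers c) haP
  have hU : ∀ s : ZMod p, ∃ g : G, Ind c a g 1 s 0 1 := fun s => by
    obtain ⟨x, hx, hb⟩ := h.exists_beta_eq haP haZ s
    refine ⟨x, ind_of hc ha hca ?_ ?_⟩
    · rw [pw_one, pw_zero, mul_one, ← (h.commute (mem_zpowers c) hx).eq, mul_inv_cancel_right]
    · rw [pw_one, ← hb, h.beta_spec hx haP, commutatorElement_def]; group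
  have hL : ∀ t : ZMod p, ∃ g : G, Ind c a g 1 0 t 1 := fun t => by
    obtain ⟨g, s, hs, h1, h2⟩ := hV
    have h3 : Ind c a g 1 0 s 1 := ind_of hc ha hca (by rw [pw_one, h2])
      (by rw [pw_one, pw_zero, one_mul, h1])
    refine ⟨g ^ (t * s⁻¹).val, ?_⟩
    convert h3.pow_lower (t * s⁻¹).val using 1
    simp [hs]
  have hW : ∀ t : ZMod p, t ≠ 0 → ∃ g : G, Ind c a g 0 t (-t⁻¹) 0 := fun t ht => by
    obtain ⟨g₁, h1⟩ := hU t
    obtain ⟨g₂, h2⟩ := hL (-t⁻¹)
    refine ⟨g₁ * g₂ * g₁, ?_⟩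
    convert (h1.mul h2).mul h1 using 1 <;> field_simp <;> ring
  obtain ⟨d, hd⟩ : ∃ g : G, Ind c a g l 0 0 l⁻¹ := by
    obtain ⟨g₁, h1⟩ := hW l hl
    obtain ⟨g₂, h2⟩ := hW (-1) (by simp)
    refine ⟨g₁ * g₂, ?_⟩
    convert h1.mul h2 using 1 <;> simp
  have hdc : d * c * d⁻¹ = pw c l := by simpa [pw_one, pw_zero] using hd 1 0
  have hda : d * a * d⁻¹ = pw a l⁻¹ := by simpa [pw_one, pw_zero] using hd 0 1
  set A := zpowers c ⊔ zpowers a with hA
  have hAP : A ≤ P := sup_le h.zle (zpowers_le.mpr haP)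
  set M := normalizer (A : Set G) ⊓ normalizer (zpowers c : Set G) with hM
  have hdZ : d ∈ normalizer (zpowers c : Set G) := mem_normalizer_of_conj_le (by
    rw [conj_zpowers, hdc, zpowers_le]; exact pw_mem_zpowers _ _)
  have hdM : d ∈ M := ⟨mem_normalizer_of_conj_le (by
    rw [hA, conj_sup, conj_zpowers, conj_zpowers, hdc, hda]
    exact sup_le_sup (zpowers_le.mpr (pw_mem_zpowers _ _)) (zpowers_le.mpr (pw_mem_zpowers _ _))), hdZ⟩
  have hPZ : P ≤ centralizer (zpowers c : Set G) := fun v hv z hz => h.commute hz hv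
  have hAPZ : ⁅A, P⁆ ≤ zpowers c := commutator_le.mpr fun u hu v hv => h.comm u (hAP hu) v hv
  have hPM : P ≤ M := le_inf (le_normalizer_of_commutator_le (hAPZ.trans le_sup_left))
    (le_normalizer_of_le_centralizer hPZ)
  have hR : IsSylowIn p P (nclIn P M) := hS.of_le (le_nclIn P M) le_top
  obtain ⟨r, hr, n, hn, hdrn⟩ := hR.frattini (le_normalizer_nclIn P M hdM)
  have hr' : r⁻¹ ∈ nclIn P M := inv_mem hr
  have h1 := nclIn_le_centralizer (H := M) inf_le_right hPZ hr'
  have h2 := commutator_nclIn_le (H := M) inf_le_right (le_normalizer_of_le_centralizer hPZ)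
    inf_le_left hAPZ
  have hn' : n = r⁻¹ * d := by rw [hdrn]; group
  refine ⟨n, hn, ?_, (⁅(pw a l⁻¹)⁻¹, r⁻¹⁆), h2 (commutator_mem_commutator
    (inv_mem (mem_sup_right (pw_mem_zpowers _ _))) hr'), ?_⟩
  · calc n * c * n⁻¹ = r⁻¹ * (d * c * d⁻¹) * r := by rw [hn']; group
      _ = _ := by rw [hdc, ← h1 _ (pw_mem_zpowers c l)]; group
  · calc n * a * n⁻¹ = r⁻¹ * (d * a * d⁻¹) * r := by rw [hn']; group
      _ = _ := by rw [hda, commutatorElement_def]; group

/-- a conjugate of the centre outside the centre yields a second transvection group. -/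
theorem Data.exists_transvection [Finite G] {P : Subgroup G} (h : Data p P c)
    (hS : IsSylowIn p P ⊤) (haP : a ∈ P) (haZ : a ∉ zpowers c) {g : G} (hg : g * c * g⁻¹ = a) :
    ∃ (g : G) (s : ZMod p), s ≠ 0 ∧ g * a * g⁻¹ = a ∧ g * c * g⁻¹ = c * pw a s := by
  have h1 := h.conj g
  rw [hg] at h1
  have hQ : IsSylowIn p (P ^ᶜ g) (centralizer ({a} : Set G)) := (hS.conj_top g).of_le
    (fun v hv => mem_centralizer_singleton_iff.mpr (h1.commute (mem_zpowers a) hv).symm) le_top
  obtain ⟨k, hk, hle⟩ := hQ.exists_le_conj (Q := zpowers c)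
    (zpowers_le.mpr (mem_centralizer_singleton_iff.mpr (h.commute (mem_zpowers c) haP)))
    (h.isPGroup.to_le h.zle)
  have h2 := h1.conj k
  rw [mem_centralizer_singleton_iff.mp hk, mul_inv_cancel_right] at h2
  have hcQ := hle (mem_zpowers c)
  have hca : c ∉ zpowers a := by
    intro hc
    apply haZ
    obtain ⟨i, hi⟩ := exists_pw h1.pow_c hc
    have hi0 : i ≠ 0 := fun e => h.c_ne_one (by rw [← hi, e, pw_zero])
    have : a = pw c i⁻¹ := by rw [← hi, pw_pw h1.pow_c, mul_inv_cancel₀ hi0, pw_one]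
    exact this ▸ pw_mem_zpowers _ _
  obtain ⟨v, hv, hb⟩ := h2.exists_beta_ne_zero hcQ hca
  refine ⟨v, _, hb, ?_, ?_⟩
  · rw [← (h2.commute (mem_zpowers a) hv).eq, mul_inv_cancel_right]
  · rw [← (h2.commute (pw_mem_zpowers a _) hcQ).eq, h2.beta_spec hv hcQ, commutatorElement_def]
    group

end Torus

section Projective

open Matrix OnePoint Cfsg.Agent.Lib.PGL2Action
open scoped MatrixGroups

theorem Data.exists_action [Finite G] {P : Subgroup G} {c : G} (h : Data p P c)
    (hS : IsSylowIn p P ⊤) : ∃ (H : Subgroup (PGL2 (ZMod p))) (pt : G → OnePoint (ZMod p)),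
      (∀ g ∈ H, g ^ p = 1 → g = 1) ∧
      (∀ a ∈ P, a ∉ zpowers c → ∀ a' ∈ P, a' ∉ zpowers c → pt a = pt a' →
        a' ∈ zpowers c ⊔ zpowers a) ∧
      (∀ q, ∃ a ∈ P, a ∉ zpowers c ∧ pt a = q) ∧
      ∀ a ∈ P, a ∉ zpowers c → ∀ n ∈ normalizer (P : Set G), ∀ l : ZMod p, l ≠ 0 →
        n * c * n⁻¹ = pw c l → (∃ z ∈ zpowers c, n * a * n⁻¹ = pw a l⁻¹ * z) →
        ∃ t ∈ H, t • pt a = pt a ∧ ∀ k : ℕ, t ^ k = 1 → l ^ (3 * k) = 1 := by
  classical
  obtain ⟨y, hy, hyZ⟩ := h.exists_not_mem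
  obtain ⟨x, hx, hxy⟩ := h.exists_beta_eq hy hyZ 1
  have hyx : beta p c y x = -1 := by rw [h.beta_swap hy hx, hxy]
  let π : G → Fin 2 → ZMod p := fun u => ![beta p c u y, beta p c x u]
  have hπc : ∀ (i j : ZMod p) {x' y' z : G}, x' ∈ P → y' ∈ P → z ∈ zpowers c →
      π (pw x' i * pw y' j * z) = i • π x' + j • π y' := by
    intro i j x' y' z hx' hy' hz
    have hz' := h.zle hz
    ext k
    fin_cases k
    · simp only [π, Fin.zero_eta, cons_val_zero, Pi.add_apply, Pi.smul_apply, smul_eq_mul]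
      rw [h.beta_mul_left (P.mul_mem (pw_mem hx' _) (pw_mem hy' _)) hz' hy,
        h.beta_center_left hz hy, h.beta_mul_left (pw_mem hx' _) (pw_mem hy' _) hy,
        h.beta_pw_left hx' hy, h.beta_pw_left hy' hy, add_zero]
    · simp only [π, Fin.mk_one, cons_val_one, cons_val_zero, Pi.add_apply, Pi.smul_apply, smul_eq_mul]
      rw [h.beta_mul_right (P.mul_mem (pw_mem hx' _) (pw_mem hy' _)) hz' hx,
        h.beta_center_right hz hx, h.beta_mul_right (pw_mem hx' _) (pw_mem hy' _) hx,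
        h.beta_pw_right hx hx', h.beta_pw_right hx hy', add_zero]
  have hπx : π x = ![1, 0] := by simp only [π, hxy, h.beta_self hx]
  have hπy : π y = ![0, 1] := by simp only [π, hxy, h.beta_self hy]
  have hπc' : ∀ (i j : ZMod p) {z : G}, z ∈ zpowers c → π (pw x i * pw y j * z) = ![i, j] := by
    intro i j z hz
    rw [hπc i j hx hy hz, hπx, hπy]
    ext k; fin_cases k <;> simp
  have hco := fun {u : G} (hu : u ∈ P) => h.exists_coord hx hy (hxy ▸ one_ne_zero) hu
  have hπ0 : ∀ {u}, u ∈ P → π u = 0 → u ∈ zpowers c := by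
    intro u hu h0
    obtain ⟨i, j, z, hz, rfl⟩ := hco hu
    rw [hπc' i j hz] at h0
    have e1 : i = 0 := congrFun h0 0
    have e2 : j = 0 := congrFun h0 1
    simpa [e1, e2, pw_zero] using hz
  have hN : ∀ {n u}, n ∈ normalizer (P : Set G) → u ∈ P → n * u * n⁻¹ ∈ P := fun hn hu =>
    (mem_normalizer_iff.mp hn _).mp hu
  have hNZ : ∀ {n z}, n ∈ normalizer (P : Set G) → z ∈ zpowers c → n * z * n⁻¹ ∈ zpowers c := by
    intro n z hn hz
    obtain ⟨l, hl⟩ := h.conj_c hn
    obtain ⟨i, rfl⟩ := exists_pw h.pow_c hz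
    rw [conj_pw, hl]
    exact pw_mem (pw_mem_zpowers _ _) _
  let M : G → Matrix (Fin 2) (Fin 2) (ZMod p) := fun n =>
    Matrix.of fun i j => π (n * ![x, y] j * n⁻¹) i
  have hM : ∀ {n u}, n ∈ normalizer (P : Set G) → u ∈ P → π (n * u * n⁻¹) = M n *ᵥ π u := by
    intro n u hn hu
    obtain ⟨i, j, z, hz, rfl⟩ := hco hu
    rw [hπc' i j hz, ← conj_mul, ← conj_mul, conj_pw, conj_pw, hπc i j (hN hn hx) (hN hn hy) (hNZ hn hz)]
    ext k
    simp [M, Matrix.mulVec, dotProduct, Fin.sum_univ_two, mul_comm]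
  have hxy' : ∀ j : Fin 2, ![x, y] j ∈ P := fun j => by fin_cases j; exacts [hx, hy]
  let ρ₀ : normalizer (P : Set G) →* Matrix (Fin 2) (Fin 2) (ZMod p) :=
    { toFun := fun n => M n
      map_one' := by
        ext i j
        fin_cases j
        · simp only [M, of_apply, OneMemClass.coe_one, one_mul, inv_one, mul_one, Fin.zero_eta,
            cons_val_zero, hπx]
          fin_cases i <;> simp
        · simp only [M, of_apply, OneMemClass.coe_one, one_mul, inv_one, mul_one, Fin.mk_one,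
            cons_val_one, cons_val_zero, hπy]
          fin_cases i <;> simp
      map_mul' := fun n m => by
        ext i j
        have := congrFun (hM n.2 (hN m.2 (hxy' j))) i
        simp only [M, of_apply, Subgroup.coe_mul, _root_.mul_inv_rev] at this ⊢
        rw [show (n : G) * m * ![x, y] j * ((m : G)⁻¹ * (n : G)⁻¹) =
          n * (m * ![x, y] j * (m : G)⁻¹) * (n : G)⁻¹ by group, this]
        simp [Matrix.mulVec, dotProduct, Matrix.mul_apply] }
  let ρ : normalizer (P : Set G) →* GL (Fin 2) (ZMod p) := ρ₀.toHomUnits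
  have hρ : ∀ n, ((ρ n : GL (Fin 2) (ZMod p)) : Matrix (Fin 2) (Fin 2) (ZMod p)) = M n := fun n => rfl
  let φ : normalizer (P : Set G) →* PGL2 (ZMod p) := ProjGenLinGroup.mk.comp ρ
  let pt : G → OnePoint (ZMod p) := fun u =>
    if hu : π u ≠ 0 then (equivProjectivization (ZMod p)).symm (Projectivization.mk _ (π u) hu) else ∞
  have hpt : ∀ {u} (hu : π u ≠ 0),
      equivProjectivization (ZMod p) (pt u) = Projectivization.mk _ (π u) hu := by
    intro u hu
    simp only [pt, dif_pos hu, Equiv.apply_symm_apply]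
  refine ⟨φ.range, pt, ?_, ?_, ?_, ?_⟩
  · rintro _ ⟨n, rfl⟩ hn
    obtain ⟨b, -, ⟨k, hk⟩, hb⟩ := exists_preimage_pElement (p := p) φ (isOfFinOrder_of_finite n)
      (j := 1) (by rwa [pow_one])
    have hbP : (b : G) ∈ P := hS.le_of_le_normalizer (Q := zpowers (b : G)) le_top
      (isPGroup_zpowers_of_orderOf (by rw [orderOf_coe]; exact hk)) (zpowers_le.mpr b.2)
      (mem_zpowers _)
    rw [← hb]
    have : ρ b = 1 := by
      ext i j
      rw [hρ, ← map_one ρ, hρ]
      simp only [M, of_apply, OneMemClass.coe_one, one_mul, inv_one, mul_one]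
      have e : (b : G) * ![x, y] j * (b : G)⁻¹ =
          pw (![x, y] j) (1 : ZMod p) * pw x (0 : ZMod p) * ⁅(![x, y] j)⁻¹, (b : G)⁆ := by
        rw [pw_one, pw_zero, commutatorElement_def]; group
      rw [e, hπc _ _ (hxy' j) hx (h.comm _ (P.inv_mem (hxy' j)) _ hbP)]
      simp
    simp only [φ, MonoidHom.comp_apply, this, map_one]
  · intro a ha haZ a' ha' haZ' e
    have h1 : π a ≠ 0 := fun h0 => haZ (hπ0 ha h0)
    have h2 : π a' ≠ 0 := fun h0 => haZ' (hπ0 ha' h0)
    have e2 := congrArg (equivProjectivization (ZMod p)) e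
    rw [hpt h1, hpt h2, eq_comm, Projectivization.mk_eq_mk_iff'] at e2
    obtain ⟨s, hs⟩ := e2
    have h3 : pw a (-s) * pw a' (1 : ZMod p) * 1 ∈ zpowers c := by
      refine hπ0 (P.mul_mem (P.mul_mem (pw_mem ha _) (pw_mem ha' _)) P.one_mem) ?_
      rw [hπc _ _ ha ha' (one_mem _), ← hs]; simp
    rw [pw_one, mul_one] at h3
    simpa using mul_mem (inv_mem (mem_sup_right (pw_mem_zpowers a (-s)) : _ ∈ zpowers c ⊔ zpowers a))
      (mem_sup_left h3)
  · intro q
    obtain ⟨r, rfl⟩ := (equivProjectivization (ZMod p)).symm.surjective q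
    induction r using Projectivization.ind with | h v hv => ?_
    have e : π (pw x (v 0) * pw y (v 1) * 1) = v := by
      rw [hπc' _ _ (one_mem _)]
      ext k; fin_cases k <;> rfl
    refine ⟨_, P.mul_mem (P.mul_mem (pw_mem hx (v 0)) (pw_mem hy (v 1))) P.one_mem, fun hz => hv ?_, ?_⟩
    · rw [← e]
      have := hπc' 0 0 hz
      rw [pw_zero, pw_zero, one_mul, one_mul] at this
      rw [this]; ext k; fin_cases k <;> rfl
    · apply (equivProjectivization (ZMod p)).injective
      rw [hpt (e.symm ▸ hv), Equiv.apply_symm_apply]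
      simp only [e]
  · rintro a ha haZ n hn l hl hc ⟨z, hz, hna⟩
    have h1 : π a ≠ 0 := fun h0 => haZ (hπ0 ha h0)
    have hev : M n *ᵥ π a = l⁻¹ • π a := by
      rw [← hM hn ha, hna, ← mul_one (pw a l⁻¹), ← pw_zero (p := p) x, hπc _ _ ha hx hz]
      simp
    have hdet : (M n).det = l := by
      have := h.beta_conj hn hc hx hy
      obtain ⟨i, j, z₁, hz₁, e₁⟩ := hco (hN hn hx)
      obtain ⟨i', j', z₂, hz₂, e₂⟩ := hco (hN hn hy)
      rw [hxy, mul_one, e₁, e₂, h.beta_coord (pw_mem hx _) (pw_mem hy _) hz₁ (pw_mem hx _)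
        (pw_mem hy _) hz₂] at this
      simp only [h.beta_pw_left hx (pw_mem hx _), h.beta_pw_left hx (pw_mem hy _),
        h.beta_pw_left hy (pw_mem hx _), h.beta_pw_left hy (pw_mem hy _), h.beta_pw_right hx hx,
        h.beta_pw_right hx hy, h.beta_pw_right hy hx, h.beta_pw_right hy hy, h.beta_self hx,
        h.beta_self hy, hxy, hyx] at this
      rw [det_fin_two]
      simp only [M, of_apply, cons_val_zero, cons_val_one, e₁, e₂, hπc' _ _ hz₁, hπc' _ _ hz₂]
      rw [← this]; ring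
    refine ⟨φ ⟨n, hn⟩, ⟨_, rfl⟩, ?_, fun k hk => ?_⟩
    · apply (equivProjectivization (ZMod p)).injective
      change equivProjectivization (ZMod p) (ρ ⟨n, hn⟩ • pt a) = _
      rw [equivProjectivization_smul, hpt h1, Projectivization.smul_mk, Projectivization.mk_eq_mk_iff']
      exact ⟨l⁻¹, hev.symm⟩
    · rw [← map_pow] at hk
      have hk2 : ρ (⟨n, hn⟩ ^ k) ∈ Subgroup.center (GL (Fin 2) (ZMod p)) := by
        have := (MonoidHom.mem_ker (f := ProjGenLinGroup.mk)).mpr hk
        rwa [ProjGenLinGroup.ker_mk] at this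
      rw [GeneralLinearGroup.center_eq_range_scalar] at hk2
      obtain ⟨s, hs⟩ := hk2
      have hs' : M n ^ k = (s : ZMod p) • (1 : Matrix (Fin 2) (Fin 2) (ZMod p)) := by
        have := congrArg (fun g : GL (Fin 2) (ZMod p) => (g : Matrix (Fin 2) (Fin 2) (ZMod p))) hs
        simp only [map_pow, Units.val_pow_eq_pow_val, hρ] at this
        rw [← this]
        ext i j
        simp [GeneralLinearGroup.scalar, Matrix.one_apply, Matrix.diagonal_apply]
      have e1 : ∀ k : ℕ, M n ^ k *ᵥ π a = l⁻¹ ^ k • π a := by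
        intro k
        induction k with
        | zero => simp
        | succ k ih => rw [pow_succ, ← mulVec_mulVec, hev, mulVec_smul, ih, smul_smul, pow_succ']
      have e2 : (s : ZMod p) = l⁻¹ ^ k := by
        have := e1 k
        rw [hs', smul_mulVec, one_mulVec] at this
        exact smul_left_injective _ h1 this
      have e3 := congrArg Matrix.det hs'
      rw [det_pow, hdet, det_smul, det_one, Fintype.card_fin, e2, mul_one] at e3
      have : l ^ (3 * k) = l ^ k * (l ^ k) ^ 2 := by ring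
      rw [this]
      nth_rewrite 1 [e3]
      rw [← mul_pow, ← mul_pow, inv_mul_cancel₀ hl]; simp

/-- three elements with non-trivial squares fixing three distinct points in a `p'`-subgroup of
`PGL₂(p)`. -/
theorem pgl_three (hp3 : 3 < p) (H : Subgroup (PGL2 (ZMod p))) (hH : ∀ g ∈ H, g ^ p = 1 → g = 1)
    (t : Fin 3 → PGL2 (ZMod p)) (x : Fin 3 → OnePoint (ZMod p)) (hx : Function.Injective x)
    (ht : ∀ i, t i ∈ H) (hfix : ∀ i, t i • x i = x i) (h2 : ∀ i, t i ^ 2 ≠ 1) :
    Nonempty (H ≃* alternatingGroup (Fin 4)) ∨ Nonempty (H ≃* Equiv.Perm (Fin 4)) ∨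
      Nonempty (H ≃* alternatingGroup (Fin 5)) := by
  have hcomm : ¬ ∀ i j, Commute (t i) (t j) := by
    intro hc
    have h0 : t 0 ^ p ≠ 1 := fun e => h2 0 (by rw [hH _ (ht 0) e, one_pow])
    obtain ⟨y, hy, hf⟩ := two_fixed p h0 (hfix 0)
    have key : ∀ i, x i = x 0 ∨ x i = y := by
      intro i
      by_contra hne
      push Not at hne
      have k1 : ∀ w : OnePoint (ZMod p), t 0 • w = w → t 0 • t i • w = t i • w := fun w hw => by
        rw [← mul_smul, (hc 0 i).eq, mul_smul, hw]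
      have a1 := (hf _).mp (k1 _ (hfix 0))
      have a2 := (hf _).mp (k1 y ((hf y).mpr (Or.inr rfl)))
      have a3 : t i • x 0 ≠ t i • y := fun e => hy (MulAction.injective _ e)
      refine h2 i (eq_one_of_three hy hne.1.symm hne.2.symm ?_ ?_ ?_)
      · rw [sq, mul_smul]
        rcases a1 with a1 | a1
        · rw [a1, a1]
        · rcases a2 with a2 | a2
          · rw [a1, a2]
          · exact absurd (a1.trans a2.symm) a3
      · rw [sq, mul_smul]
        rcases a2 with a2 | a2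
        · rcases a1 with a1 | a1
          · exact absurd (a1.trans a2.symm) a3
          · rw [a2, a1]
        · rw [a2, a2]
      · rw [sq, mul_smul, hfix, hfix]
    rcases key 1 with e1 | e1
    · exact absurd (hx e1) (by decide)
    rcases key 2 with e2 | e2
    · exact absurd (hx e2) (by decide)
    exact absurd (hx (e1.trans e2.symm)) (by decide)
  have hcomm' : (∀ a b : H, a ^ 2 ≠ 1 → b ^ 2 ≠ 1 → Commute a b) → False := fun hc =>
    hcomm fun i j => congrArg Subtype.val (hc ⟨t i, ht i⟩ ⟨t j, ht j⟩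
      (fun e => h2 i (congrArg Subtype.val e)) (fun e => h2 j (congrArg Subtype.val e))).eq
  have hdih : ∀ n : ℕ, Nonempty (H ≃* DihedralGroup n) → False := by
    rintro n ⟨e⟩
    refine hcomm' fun a b ha hb => ?_
    have key : ∀ u : H, u ^ 2 ≠ 1 → ∃ i, e u = DihedralGroup.r i := fun u hu => by
      rcases h : e u with i | i
      · exact ⟨i, rfl⟩
      · exact absurd (e.injective (by rw [map_pow, h, map_one, sq, DihedralGroup.sr_mul_self])) hu
    obtain ⟨i, hi⟩ := key a ha
    obtain ⟨j, hj⟩ := key b hb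
    exact e.injective (by rw [map_mul, map_mul, hi, hj]; simp [add_comm])
  have hdvd : ¬ p ∣ Nat.card H := fun hd => by
    obtain ⟨g, hg, ho⟩ := exists_mem_orderOf_eq hd
    have := pow_orderOf_eq_one g
    rw [ho] at this
    rw [hH g hg this, orderOf_one] at ho
    omega
  rcases Cfsg.Agent.Lib.Dickson.dickson_pgl p H.subtype H.subtype_injective with
    ⟨w, hw⟩ | ⟨-, h | ⟨r, -, -, h⟩ | h⟩ | ⟨h, -⟩ | ⟨h, -⟩ | h
  · exfalso
    obtain ⟨χ, hχ⟩ := exists_char p w
    refine hcomm' fun a b _ _ => ?_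
    rw [← commutatorElement_eq_one_iff_commute]
    apply Subtype.ext
    refine hH _ (⁅a, b⁆).2 ?_
    have := (hχ ⁅(⟨a, hw a⟩ : MulAction.stabilizer (PGL2 (ZMod p)) w), ⟨b, hw b⟩⁆).mp (by
      rw [commutatorElement_def, map_mul, map_mul, map_mul, mul_right_comm (χ _) (χ _), ← map_mul,
        mul_inv_cancel, map_one, one_mul, ← map_mul, mul_inv_cancel, map_one])
    exact this
  · exact absurd (hcomm' fun a b _ _ => h.isMulCommutative.is_comm.comm a b) id
  · exact absurd (hdih _ h) id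
  · exact h
  · omega
  · omega
  · exfalso
    obtain ⟨F₀, h⟩ := h.equiv H.subtype_injective
    have : Fintype F₀ := Fintype.ofFinite _
    have hF : p ∣ Fintype.card F₀ := by
      obtain ⟨n, -, hn⟩ := FiniteField.card F₀ p
      rw [hn]; exact dvd_pow_self p n.ne_zero
    apply hdvd
    rcases h with ⟨⟨e⟩⟩ | ⟨⟨e⟩⟩
    · rw [Nat.card_congr e.toEquiv]
      have := Cfsg.Agent.Lib.LinearOrders.card_PSL2_mul (F := F₀) rfl
      refine (Nat.Coprime.dvd_mul_right (n := Nat.gcd 2 (Fintype.card F₀ - 1)) ?_).mp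
        (this ▸ hF.mul_right _)
      refine Nat.Coprime.coprime_dvd_right (Nat.gcd_dvd_left _ _) ?_
      exact (Nat.coprime_primes hp.out Nat.prime_two).mpr (by omega)
    · rw [Nat.card_congr e.toEquiv, Cfsg.Agent.Lib.LinearOrders.card_PGL2 (F := F₀) rfl]
      exact hF.mul_right _

end Projective

/-- a non-abelian group of order `p ^ 3` is extraspecial. -/
theorem isExtraspecial_of_card {P : Type*} [Group P] [Finite P] (hc : Nat.card P = p ^ 3)
    (hna : ¬ IsMulCommutative P) : IsExtraspecial p P := by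
  have hP : IsPGroup p P := IsPGroup.of_card hc
  have : Group.IsNilpotent P := hP.isNilpotent
  have hp1 := hp.out.one_lt
  have hcard : ∀ N : Subgroup P, ∃ k ≤ 3, Nat.card N = p ^ k := fun N =>
    (Nat.dvd_prime_pow hp.out).mp (hc ▸ card_subgroup_dvd_card N)
  have hidx : ∀ (N : Subgroup P) (k j : ℕ), k + j = 3 → Nat.card N = p ^ k → N.index = p ^ j := by
    intro N k j hkj h
    have := N.card_mul_index
    rw [h, hc, ← hkj, pow_add] at this
    exact Nat.eq_of_mul_eq_mul_left (by positivity) this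
  have htop : ∀ N : Subgroup P, Nat.card N = p ^ 3 → N = ⊤ := fun N h =>
    index_eq_one.mp (hidx N 3 0 rfl h)
  have hnt : Nontrivial P := Finite.one_lt_card_iff_nontrivial.mp (hc ▸ Nat.one_lt_pow (by omega) hp1)
  have hZ : Nat.card (center P) = p := by
    obtain ⟨k, hk, h⟩ := hcard (center P)
    interval_cases k
    · have := hP.center_nontrivial
      have := Finite.one_lt_card (α := center P)
      rw [h, pow_zero] at this
      omega
    · simpa using h
    · exfalso
      have : IsCyclic (P ⧸ center P) := isCyclic_of_prime_card (p := p)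
        ((hidx _ 2 1 rfl h).trans (pow_one p))
      exact hna (isMulCommutative_of_isCyclic_quotient_center_self P)
    · exact absurd (⟨⟨fun a b => mem_center_iff.mp (htop _ h ▸ mem_top b) a⟩⟩) hna
  have hcomm : commutator P = center P := by
    have h1 : commutator P ≤ center P := Normal.quotient_commutative_iff_commutator_le.mp
      (IsPGroup.isMulCommutative_of_card_eq_prime_sq (hidx _ 1 2 rfl (by simpa using hZ)))
    have : Fact (Nat.card (center P)).Prime := ⟨hZ.symm ▸ hp.out⟩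
    rcases ((commutator P).subgroupOf (center P)).eq_bot_or_eq_top_of_prime_card with h | h
    · rw [subgroupOf_eq_bot, disjoint_iff, inf_eq_left.mpr h1] at h
      refine absurd ⟨⟨fun a b => ?_⟩⟩ hna
      have : ⁅a, b⁆ ∈ commutator P := commutator_mem_commutator (mem_top a) (mem_top b)
      rw [h] at this
      exact commutatorElement_eq_one_iff_mul_comm.mp this
    · exact le_antisymm h1 (subgroupOf_eq_top.mp h)
  refine ⟨⟨hP, ?_, hcomm⟩, hZ⟩
  have h1 : center P ≤ frattini P := hcomm ▸ Cfsg.Agent.Lib.FrattiniFacts.commutator_le_frattini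
  by_contra hne
  have h2 := card_lt_of_lt (lt_of_le_of_ne h1 (Ne.symm hne))
  obtain ⟨k, hk, h⟩ := hcard (frattini P)
  replace h2 : p < p ^ k := by rwa [hZ, h] at h2
  interval_cases k
  · simp at h2; omega
  · simp at h2
  · have : IsCyclic (P ⧸ frattini P) := isCyclic_of_prime_card (p := p)
      ((hidx _ 2 1 rfl h).trans (pow_one p))
    obtain ⟨g, hg⟩ := IsCyclic.exists_generator (α := P ⧸ frattini P)
    obtain ⟨g, rfl⟩ := QuotientGroup.mk'_surjective _ g
    have h3 : zpowers g ⊔ frattini P = ⊤ := by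
      rw [← Cfsg.Agent.Lib.SolvBasic.map_mk_eq_top_iff, MonoidHom.map_zpowers, eq_top_iff]
      exact fun x _ => hg x
    have : IsCyclic P := isCyclic_iff_exists_zpowers_eq_top.mpr ⟨g, frattini_nongenerating h3⟩
    exact hna this.isMulCommutative
  · exact Cfsg.Agent.Lib.FrattiniFacts.frattini_ne_top (htop _ h)

end Cfsg.Agent.Lib.PCubed
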