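import Cfsg.Agent.Lib.MinParOff
import Cfsg.Agent.Lib.PushE

/-!
A `p`-minimal group of characteristic `p` in which the Baumann subgroup (for abelian subgroups of largest order) lies
in a unique maximal subgroup modulo `O_p` is a rank one pushing up configuration.
-/

set_option autoImplicit false

namespace Cfsg.Agent.Lib.RankOneRec

open Cfsg Cfsg.Agent.Lib.PCoreConj Cfsg.Agent.Lib.PCore Cfsg.Agent.Lib.FFRep Cfsg.Agent.Lib.SL2Mod
  Cfsg.Agent.Lib.TIOff Cfsg.Agent.Lib.TIOffQ Cfsg.Agent.Lib.TIOffCls Cfsg.Agent.Lib.PIrred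
  Cfsg.Agent.Lib.MinParFF Cfsg.Agent.Lib.MinParOff Subgroup
open scoped commutatorElement MatrixGroups

section Module

variable {G : Type*} [Group G] {p : ℕ} [hp : Fact p.Prime] {V : Type*} [AddCommGroup V] [Module (ZMod p) V]
variable {ρ : Representation (ZMod p) G V} {A B D D' J R T M : Subgroup G} {q : ℕ} [Finite G] [Finite V]

theorem exists_minOff_ab (hf : cent ρ ⊤ = ⊥) (hA : Cm A A) (hAp : IsPGroup p A) (hne : A ≠ ⊥)
    (h : Nat.card V ≤ ms ρ ⊤ A) : ∃ B ≤ A, MinOff ρ B := by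
  obtain ⟨B, ⟨h₁, h₂, h₃⟩, hmin⟩ := exists_minimal_of_wellFoundedLT
    (fun B : Subgroup G => B ≤ A ∧ B ≠ ⊥ ∧ ms ρ ⊤ A ≤ ms ρ ⊤ B) ⟨A, le_rfl, hne, le_rfl⟩
  have hlt : ∀ B' ≤ B, B' ≠ ⊥ → B' ≠ B → ms ρ ⊤ B' < ms ρ ⊤ B := fun B' a₁ a₂ a₃ => by
    refine lt_of_lt_of_le ?_ h₃
    by_contra! a₄
    exact a₃ (le_antisymm a₁ (hmin ⟨a₁.trans h₁, a₂, a₄⟩ a₁))
  refine ⟨B, h₁, elem_of_quad hf ?_, h₂, h.trans h₃, hlt⟩
  have hb : Best ρ ⊤ B := fun C hC => by
    by_cases h1 : C = ⊥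
    · rw [h1, ms_bot, card_top_submodule]; exact h.trans h₃
    by_cases h2 : C = B
    · rw [h2]
    exact (hlt C hC h1 h2).le
  by_cases hn : ⊤ ≤ fix ρ B
  · exact le_top.trans hn
  have hc := hA.mono h₁ h₁
  have h1 := hb.replace_nontrivial hc (hAp.to_le h₁) le_stab_top le_rfl le_stab_top hn
  have h2 := (hb.replace hc le_stab_top le_rfl).1
  by_contra hne
  refine (hlt _ inf_le_left (fun e => h1 ?_) fun e => hne (le_fix_iff.mpr (e.ge.trans inf_le_right))).ne h2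
  rw [e, fix_bot]

theorem le_dl (c : Ctx ρ T M) (hB : MinOff ρ B) (hA : Cm A A) (hAT : A ≤ T) (h : Nat.card V ≤ ms ρ ⊤ A) :
    A ≤ sSup (Dl B T) := by
  induction A using WellFoundedLT.induction with | ind A ih => ?_
  by_cases hne : A = ⊥
  · exact hne ▸ bot_le
  obtain ⟨D, h₁, hD⟩ := exists_minOff_ab c.faith hA (c.syl.isPGroup.to_le hAT) hne h
  obtain ⟨D', s⟩ := Ctx.exists_sp c hD ⟨self_mem_cls D, h₁.trans hAT⟩
  have tD := c.ti hD
  obtain ⟨A₁, h₂, h₃, h₄, h₅⟩ := exists_split s tD c.syl.isPGroup c.min.le hA h₁ hAT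
  refine h₃.trans (sup_le (fun t ht => Ctx.mem_of_cent c hB (hAT (h₁ ht)) ?_)
    (ih A₁ h₂ (hA.mono h₂.le h₂.le) (h₂.le.trans hAT) (h.trans ?_)))
  · rintro _ ⟨⟨g, rfl⟩, hg⟩
    exact (Ctx.cm_of_minOff c hD (hB.conj g) (h₁.trans hAT) hg).le_centralizer ht
  have h₆ := tD.card_inf_of_sup (W := fix ρ A₁) (top_le_iff.mp ((com_sup_fix s.good.symm
    (ti_of_mem tD s.cls)).ge.trans (sup_le_sup_left (com_le_fix_of_comm h₄ (h₅.trans (fix_anti le_sup_right))) _)))
  rw [ms_top, ms_top, h₆, ← mul_assoc, mul_comm (Nat.card A₁)]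
  exact Nat.mul_le_mul (card_le_of_le_sup h₃ (Cm.mono hA h₁ h₂.le))
    (FFRep.card_le_of_le (le_inf (fix_anti h₁) (fix_anti h₂.le)))

theorem cent_of_fix_com (hb : Base ρ) (s : SP ρ T M D D') (hD : TI ρ q D) (hT : IsPGroup p T) (hTM : T ≤ M)
    {t : G} (ht : t ∈ T) (h : t ∈ cent ρ (com ρ ⊤ D)) : t ∈ centralizer (D : Set G) := by
  obtain ⟨F, _, _, -, ⟨k⟩⟩ := exists_coord s.good hD
  have hx : ∀ r v, k.x (ρ (k.α r) v - v) = r * k.y v := fun r v => by rw [map_sub, k.x_α, add_sub_cancel_left]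
  have h₁ : D ^ᶜ t = D := by
    by_contra hn
    have h₂ := TI.com_le_fix hb (hD.conj t) (ti_of_mem hD s.cls)
      (s.cm _ (conj_mem_dl_of_mem ⟨self_mem_cls D, s.le⟩ ht) hn)
    rw [← tr_com_top, tr_eq_of_mem_stab (cent_le_stab _ h)] at h₂
    obtain ⟨v, -, hv⟩ := k.surj 0 1
    have := (k.x_eq_zero _).mpr (h₂ (sub_mem_com (w := v) trivial (k.α_mem 1)))
    rw [hx, hv, one_mul] at this
    exact one_ne_zero this
  obtain ⟨a, ha, e⟩ := SP.conj_le s hTM ht h₁
  have hn' : a⁻¹ * t ∈ normalizer (D' : Set G) :=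
    mem_normalizer_iff_conj_eq.mpr (by rw [← conj_conj, e, conj_conj_inv])
  have hn : a⁻¹ * t ∈ normalizer (D : Set G) :=
    mul_mem (inv_mem (le_normalizer ha)) (mem_normalizer_iff_conj_eq.mpr h₁)
  have hc : a⁻¹ * t ∈ cent ρ (com ρ ⊤ D) := mul_mem (inv_mem (le_fix_iff.mp hD.quad ha)) h
  rw [← mul_inv_cancel_left a t]
  refine mul_mem (hD.cm_self.le_centralizer ha) ?_
  have hp' := hT.to_le (zpowers_le.mpr (mul_mem (inv_mem (s.le ha)) ht))
  generalize a⁻¹ * t = x at *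
  have sA := normalizer_le_stab_fix (ρ := ρ) D hn
  have sA' := normalizer_le_stab_fix (ρ := ρ) D' hn'
  obtain ⟨w, hw, hwZ, hr⟩ := exists_mem_relFix hp' (zpowers_le.mpr sA') (U := fix ρ (D ⊔ D'))
    (by rw [fix_sup]; exact le_stab_inf (zpowers_le.mpr sA) (zpowers_le.mpr sA')) fun e => by
      obtain ⟨v, h0, h1⟩ := k.surj 0 1
      exact one_ne_zero (h1 ▸ (k.y_eq_zero v).mpr (fix_anti le_sup_left (e ((k.x_eq_zero v).mp h0))))
  have hy : k.y w ≠ 0 := fun e => hwZ (by rw [fix_sup]; exact ⟨(k.y_eq_zero w).mp e, hw⟩)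
  intro d hd
  obtain ⟨r, rfl⟩ := k.α_surj d hd
  obtain ⟨r', hr'⟩ := k.α_surj _ ((mem_normalizer_iff.mp hn _).mp hd)
  have h₃ := hc _ (sub_mem_com (w := w) trivial hd)
  have h₄ := hr x (mem_zpowers x) _ (mem_sup_left (k.α_mem r'))
  have h₅ : ρ (k.α r') w - w = ρ (k.α r) w - w := by
    rw [← h₃, map_sub, ← act_mul, show x * k.α r = k.α r' * x by rw [hr']; group, act_mul]
    rw [map_sub] at h₄
    rw [eq_comm, sub_eq_sub_iff_sub_eq_sub]
    exact h₄
  have h₆ := congrArg k.x h₅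
  rw [hx, hx] at h₆
  rw [mul_right_cancel₀ hy h₆] at hr'
  rw [mul_eq_of_eq_mul_inv hr']

theorem exists_hom_of (c : Ctx ρ T M) (hR : R ≤ T) (hmax : ∀ K, R ≤ K → K < ⊤ → K ≤ M) (hJ : J ≠ ⊥)
    (hJ' : ∀ K, (∀ A, Cm A A → A ≤ T → Nat.card V ≤ ms ρ ⊤ A → A ≤ K) → J ≤ K) (hRJ : R ≤ cent ρ (fix ρ J)) :
    ∃ (F : Type) (_ : Field F) (_ : Fintype F) (n : ℕ) (π : G →* SL(2, F)),
      Fintype.card F = p ^ n ∧ Function.Surjective π := by
  obtain ⟨A, h₁, h₂, h₃, h₄⟩ : ∃ A, Cm A A ∧ A ≤ T ∧ Nat.card V ≤ ms ρ ⊤ A ∧ A ≠ ⊥ := by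
    by_contra! h
    exact hJ (le_bot_iff.mp (hJ' ⊥ fun A a b c => (h A a b c).le))
  obtain ⟨D, h₅, hD⟩ := exists_minOff_ab c.faith h₁ (c.syl.isPGroup.to_le h₂) h₄ h₃
  have hDT := h₅.trans h₂
  obtain ⟨D', s⟩ := Ctx.exists_sp c hD ⟨self_mem_cls D, hDT⟩
  have tD := c.ti hD
  have h₆ : com ρ ⊤ D ≤ fix ρ J := le_fix_iff.mpr ((hJ' _ fun A => le_dl c hD).trans (sSup_le fun C hC =>
    le_fix_iff.mp (TI.com_le_fix c.base tD (ti_of_mem tD hC.1)
      (cm_of_mem_dl c.base tD c.syl.isPGroup ⟨self_mem_cls D, hDT⟩ hC))))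
  obtain ⟨F, _, _, hF, ⟨k⟩⟩ := exists_coord s.good tD
  have h₇ : R ≤ k.lin := fun t ht => by
    have h₈ := cent_of_fix_com c.base s tD c.syl.isPGroup c.min.le (hR ht) (cent_anti h₆ (hRJ ht))
    obtain ⟨a, ha, -, e⟩ := exists_cent s tD c.syl.isPGroup c.min.le (hR ht) h₈
    rw [← mul_inv_cancel_left a t]
    exact mul_mem (k.sup_le_lin (mem_sup_left ha)) ⟨1, fun v => by
      rw [one_smul, ← sub_eq_zero, ← map_sub, k.vec_eq_zero]; exact e v⟩
  have h₉ : k.lin = ⊤ := by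
    by_contra hn
    exact s.not_le ((le_sup_right.trans k.sup_le_lin).trans (hmax _ h₇ (lt_top_iff_ne_top.mpr hn)))
  obtain ⟨π, hπ, -⟩ := k.exists_hom' (L := ⊤) le_top h₉.ge
  obtain ⟨n, hn⟩ := IsPGroup.iff_card.mp tD.isPGroup
  exact ⟨F, _, _, n, π.comp (topEquiv (G := G)).symm.toMonoidHom, hF.trans hn,
    hπ.comp (topEquiv (G := G)).symm.surjective⟩

end Module

section Group

open Cfsg.Agent.Lib.PCoreResidual Cfsg.Agent.Lib.ThompsonJ Cfsg.Agent.Lib.EMod Cfsg.Agent.Lib.SL2Amb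
open Cfsg.Agent.Lib.PushBase (PU RO)
open scoped IsMulCommutative

local notation "C(" X ")" => centralizer (SetLike.coe (X : Subgroup _))
local notation "N(" X ")" => normalizer (SetLike.coe (X : Subgroup _))

variable {G : Type*} [Group G] [Finite G] {p : ℕ} [hp : Fact p.Prime] {S M W R : Subgroup G}

theorem mem_center_of_pow (hS : IsSylowIn p S ⊤) [hW : W.Normal] (hc : W ≤ C(W))
    (h₁ : ∀ u ∈ W, u ∈ C(S) → u ^ p = 1 → u ∈ center G) {z : G} (hz : z ∈ W) (hzS : z ∈ C(S))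
    (h₂ : z ^ p ∈ center G) : z ∈ center G := by
  classical
  haveI : IsMulCommutative W := ⟨⟨fun a b => Subtype.ext (hc b.2 a a.2)⟩⟩
  haveI : Fintype (G ⧸ S) := Fintype.ofFinite _
  let z' : W := ⟨z, hz⟩
  let F : G ⧸ S → W := fun ω => MulAut.conjNormal ω.out z'
  have hF : ∀ x : G, F (x : G ⧸ S) = MulAut.conjNormal x z' := fun x => by
    obtain ⟨m, hm⟩ := QuotientGroup.mk_out_eq_mul S x
    refine Subtype.ext ?_
    simp only [F, hm, MulAut.conjNormal_apply, z']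
    rw [mul_assoc x, hzS m m.2]
    group
  have hy : ∀ g : G, MulAut.conjNormal g (∏ ω, F ω) = ∏ ω, F ω := fun g => by
    rw [map_prod, ← Equiv.prod_comp (MulAction.toPerm g) F]
    refine Finset.prod_congr rfl fun ω _ => ?_
    rw [MulAction.toPerm_apply, show g • ω = ((g * ω.out : G) : G ⧸ S) by
      conv_lhs => rw [← ω.out_eq']
      rfl, hF, map_mul]
    rfl
  have hy' : ((∏ ω, F ω : W) : G) ∈ center G := mem_center_iff.mpr fun g => by
    have := congrArg Subtype.val (hy g)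
    rw [MulAut.conjNormal_apply] at this
    exact mul_inv_eq_iff_eq_mul.mp this
  have e : ∏ ω, F ω = (∏ ω, F ω * z'⁻¹) * z' ^ S.index := by
    rw [Finset.prod_mul_distrib, Finset.prod_const, Finset.card_univ, ← Nat.card_eq_fintype_card, ← index,
      mul_assoc, ← mul_pow, inv_mul_cancel, one_pow, mul_one]
  have hu : (∏ ω, F ω * z'⁻¹) ^ p = 1 := by
    rw [← Finset.prod_pow]
    refine Finset.prod_eq_one fun ω _ => ?_
    rw [mul_pow, ← map_pow, inv_pow, mul_inv_eq_one]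
    refine Subtype.ext ?_
    rw [MulAut.conjNormal_apply, coe_pow, mem_center_iff.mp h₂, mul_inv_cancel_right]
  have e' := congrArg Subtype.val e
  rw [coe_mul, coe_pow] at e'
  have h₃ := h₁ _ (∏ ω, F ω * z'⁻¹).2 (by
    rw [eq_mul_inv_of_mul_eq e'.symm]
    exact mul_mem (center_le_centralizer _ hy') (inv_mem (pow_mem hzS _))) (congrArg Subtype.val hu)
  have h₄ : z ^ S.index ∈ center G := by
    rw [e'] at hy'
    exact (mul_mem_cancel_left h₃).mp hy'
  have h₅ : (S.index).Coprime p := by simpa using hS.coprime_relIndex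
  have := mul_mem (zpow_mem h₄ (Nat.gcdA S.index p)) (zpow_mem h₂ (Nat.gcdB S.index p))
  rwa [← zpow_natCast, ← zpow_natCast, ← zpow_mul, ← zpow_mul, ← zpow_add, ← Nat.gcd_eq_gcd_ab, h₅.gcd_eq_one,
    Nat.cast_one, zpow_one] at this

theorem center_le_of_omega (hS : IsSylowIn p S ⊤) (hc : C(pCore p G) ≤ pCore p G)
    (h : ⊤ ≤ C(omegaOneCenter p S)) : ⊤ ≤ C(S ⊓ C(S)) := by
  have key : ∀ k : ℕ, ∀ z ∈ S ⊓ C(S), z ^ p ^ k = 1 → z ∈ center G := fun k => by
    induction k with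
    | zero => intro z _ e; rw [pow_zero, pow_one] at e; exact e ▸ one_mem _
    | succ k ih =>
      intro z hz e
      have h₁ := centralizer_anti hS.pCore_le hz.2
      refine mem_center_of_pow hS (W := pCore p G ⊓ C(pCore p G)) (le_centralizer_iff.mp
        (inf_le_right.trans (centralizer_anti inf_le_left))) (fun u hu a b => mem_center_iff.mpr fun g => ?_)
        ⟨hc h₁, h₁⟩ hz.2 (ih _ (pow_mem hz p) (by rw [← pow_mul, ← pow_succ', e]))
      exact (h (mem_top g) u (mem_omegaOneCenter_iff.mpr ⟨hS.pCore_le hu.1, a, b⟩)).symm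
  intro g _ z hz
  obtain ⟨k, hk⟩ := isPGroup_iff_forall_mem.mp hS.isPGroup z hz.1
  exact (mem_center_iff.mp (key k z hz hk) g).symm

theorem card_le_of_maxAb {V A : Subgroup G} (hV : V ≤ C(V)) (hVS : V ≤ S) (hA : MaxAb 0 S A) :
    Nat.card V * Nat.card ↥(A ⊓ C(V)) ≤ Nat.card A * Nat.card ↥(V ⊓ C(A)) := by
  rw [mul_comm, ← card_sup_mul_card_inf (le_normalizer_of_le_centralizer inf_le_right)]
  exact Nat.mul_le_mul (hA.card_le (sup_le (inf_le_left.trans hA.le) hVS) ((hA.abExp.mono inf_le_left).sup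
    (PushBase.abExp_of_le_cent hV) inf_le_right))
    (Subgroup.card_le_of_le (le_inf inf_le_right ((inf_le_left.trans inf_le_left).trans hA.abExp.le_centralizer)))

theorem pu_of_min (hS : IsSylowIn p S ⊤) (hc : C(pCore p G) ≤ pCore p G) (hm : MinOver S M ⊤)
    (hZ : C(S ⊓ C(S)) ≤ M) (hJ : ¬ J 0 S ≤ pCore p G)
    (hmax : ∀ K, S ⊓ C(ZJ 0 S) ⊔ pCore p G ≤ K → K < ⊤ → K ≤ M) : PU p ⊤ S (pCore p G) M := by
  set V := omegaOneCenter p (pCore p G) with hVdef
  have hV : IsElementaryAbelian p V := isElementaryAbelian_omegaOneCenter p _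
  have hN : ⊤ ≤ N(V) := le_normalizer_omegaOneCenter (normal_iff_top_le.mp inferInstance)
  have hVS : V ≤ S := (omegaOneCenter_le p _).trans hS.pCore_le
  have hQV : pCore p G ≤ C(V) := le_centralizer_omegaOneCenter p _
  let ρ := arep hV (MonoidHom.id G) fun x => hN (mem_top x)
  let φ := QuotientGroup.mk' (cent ρ ⊤)
  have hφ : Function.Surjective φ := QuotientGroup.mk'_surjective _
  have hK : cent ρ ⊤ = C(V) := by rw [cent_arep_top, comap_id]
  have hK' : φ.ker = C(V) := (QuotientGroup.ker_mk' _).trans hK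
  have hZ' : C(V ⊓ C(S)) ≤ M := by
    have h := (omegaOneCenter_le_centralizer p S).trans (centralizer_anti hS.pCore_le)
    refine (centralizer_anti (le_inf (le_omegaOneCenter (isElementaryAbelian_omegaOneCenter p _) (h.trans hc) h)
      (omegaOneCenter_le_centralizer p _))).trans (hm.max _ (le_centralizer_omegaOneCenter p _)
        (lt_top_iff_ne_top.mpr fun e => hm.lt.not_ge ((center_le_of_omega hS hc e.ge).trans hZ)))
  have hKM : C(V) ≤ M := (centralizer_anti inf_le_left).trans hZ'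
  have c : Ctx (quo ρ) (S.map φ) (M.map φ) := by
    refine ⟨cent_quo ρ, hS.map_mk' _, ?_, (pCore_quotient_eq_bot_iff _).mpr fun N hN' h => ?_, fun x hx => ?_⟩
    · simpa only [map_top_of_surjective φ hφ] using hm.map_of_ker φ (inf_le_right.trans (hK'.le.trans hKM))
    · rw [hK] at h ⊢
      exact ((hm.pIrrIn hS.isPGroup).redOn hN
        (fun e => PMinimal.MinOver.not_pResidualOf_le hm hS (e.trans hKM))
        (pCoreOf_top p G ▸ hQV)).le_centralizer
          (SubnormalIn.of_normal le_top (normal_iff_top_le.mp hN')) h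
    · obtain ⟨x, rfl⟩ := hφ x
      rw [fix_quo] at hx
      have : x ∈ cent ρ (fix ρ S) := hx
      rw [cent_arep, toSub_fix, Subgroup.map_id, comap_id] at this
      exact mem_map_of_mem φ (hZ' this)
  obtain ⟨F, _, _, n, π, hF, hπ⟩ := exists_hom_of c (R := (S ⊓ C(ZJ 0 S)).map φ) (J := (J 0 S).map φ)
    (map_mono inf_le_left) (fun K h₁ h₂ => by
      rw [← map_comap_eq_self_of_surjective hφ K]
      refine map_mono (hmax _ (sup_le (map_le_iff_le_comap.mp h₁) (hQV.trans (hK'.ge.trans (ker_le_comap φ K))))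
        (lt_top_iff_ne_top.mpr fun e => h₂.ne ?_))
      rw [← map_comap_eq_self_of_surjective hφ K, e, map_top_of_surjective φ hφ])
    (fun e => hJ (by
      have := PMinimal.MinOver.inf_le_pCoreOf hm hS.isPGroup (SubnormalIn.of_normal le_top
        (le_normalizer_centralizer hN)) hKM
      rw [pCoreOf_top] at this
      exact (le_inf (hK' ▸ (Subgroup.map_eq_bot_iff _).mp e) (J_le 0 S)).trans this))
    (fun K h => map_le_iff_le_comap.mpr (J_le_iff.mpr fun A hA => map_le_iff_le_comap.mp (h _ (by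
      rintro _ ⟨a, ha, rfl⟩ _ ⟨b, hb, rfl⟩
      rw [← map_mul, hA.abExp.comm ha hb, map_mul]) (map_mono hA.le) (by
        have := card_le_of_maxAb ((omegaOneCenter_le p _).trans hQV) hVS hA
        rw [card_eq_card_map_mul φ A, hK', mul_right_comm] at this
        rw [ms_top, fix_quo, card_fix, card_em, Subgroup.map_id]
        exact Nat.le_of_mul_le_mul_right this Nat.card_pos))))
    (by
      rintro _ ⟨x, hx, rfl⟩
      rw [fix_quo]
      change x ∈ cent ρ (fix ρ (J 0 S))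
      rw [cent_arep, toSub_fix, Subgroup.map_id, comap_id]
      exact centralizer_anti ((inf_le_inf_right _ hVS).trans (inf_centralizer_J_eq S).le) hx.2)
  haveI : CharP F p := SL2Nat.charP_of_card p hF
  let f : G →* PSL(2, F) := (QuotientGroup.mk' _).comp (π.comp φ)
  have hf : Function.Surjective f := (QuotientGroup.mk'_surjective _).comp (hπ.comp hφ)
  have := hS.map f
  rw [map_top_of_surjective f hf] at this
  obtain ⟨B, hB⟩ := PushBase.ro_PSL2 this
  exact ⟨RO.lift f hf hS hm.lt hm.max hB, inf_le_right.trans hc⟩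

end Group

end Cfsg.Agent.Lib.RankOneRec
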