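import Cfsg.Agent.Lib.PairK
import Cfsg.Agent.Lib.RankOneRec
import Cfsg.Agent.Lib.TrAvg
import Cfsg.Agent.Lib.CoprimeBasic

/-!
Glauberman's theorem: for odd `p`, transfer is controlled by the pair `C(Z(S))`, `N(K(S))`.
-/

set_option autoImplicit false

namespace Cfsg.Agent.Lib.PairTr

open Subgroup Cfsg Cfsg.Agent.Lib.PCoreConj Cfsg.Agent.Lib.PCore Cfsg.Agent.Lib.PCoreResidual
open Cfsg.Agent.Lib.PCoreMod Cfsg.Agent.Lib.FusionControl Cfsg.Agent.Lib.ThompsonJ Cfsg.Agent.Lib.PushBase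
open Cfsg.Agent.Lib.TrCtrl Cfsg.Agent.Lib.TrAvg Cfsg.Agent.Lib.PairK Cfsg.Agent.Lib.PIrred
open scoped Pointwise commutatorElement

universe u

section
variable {G : Type*} [Group G] [Finite G] {p : ℕ} [hp : Fact p.Prime] {L S T M Q D U U₀ : Subgroup G}

theorem res_step [Q.Normal] (hQ : IsPGroup p Q) (h₁ : ⁅Q, pResidualOf p L⁆ ≤ U)
    (h₂ : ∀ l ∈ L, ∀ u ∈ U, u ∈ Q → ⁅l, u⁆ ∈ D) : pResidualOf p L ≤ stabD Q D := by
  refine pResidualOf_le_iff.mpr fun e he ho q hq => ?_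
  obtain ⟨d, hd, c, hc, rfl⟩ := CoprimeBasic.exists_commutator_mul_centralizer (A := zpowers e)
    (le_top.trans (normal_iff_top_le.mp inferInstance))
    (by rw [Nat.card_zpowers]; exact (coprime_card_of_isPGroup hQ ho).symm)
    (.inl (CoprimeBasic.solvable_zpowers e)) hq
  have : ⁅e, d * c⁆ = ⁅e, d⁆ := by
    simp only [commutatorElement_def, mul_inv_rev]
    rw [mul_assoc e, mul_assoc d, ← hc.2 _ (inv_mem (mem_zpowers e))]
    group
  rw [this]
  exact h₂ e he d (h₁ (commutator_mono le_rfl (zpowers_le.mpr (mem_pResidualOf he ho)) hd))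
    (commutator_le_left _ _ hd)

theorem ro_step (hp2 : p ≠ 2) (h : RO p L S T M) [Q.Normal] (hQ : IsPGroup p Q) (hD : ⁅Q, Q⁆ ≤ D)
    (hM : M ≤ stabD Q D) (hU : L ≤ N(U)) (hU₀ : U₀ ≤ U) (hU₀' : L ≤ N(U₀)) (hq : ⁅⁅U, S⁆, S⁆ ≤ U₀)
    (h₀ : ∀ l ∈ L, ∀ u ∈ U₀, u ∈ Q → ⁅l, u⁆ ∈ D) : ∀ l ∈ L, ∀ u ∈ U, u ∈ Q → ⁅l, u⁆ ∈ D := by
  obtain ⟨g, hg, hgT⟩ := h.exists_S
  have hQn : L ≤ N(Q) := le_top.trans (normal_iff_top_le.mp inferInstance)
  intro l hl u hu huQ
  refine avg_step (U := U ⊓ Q) (U₀ := U₀ ⊓ Q) (M := M) (R := zpowers g) {g} (le_normalizer_inf hU hQn)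
    (hQ.to_le inf_le_right) ((commutator_mono inf_le_right inf_le_right).trans hD)
    (fun m _ hm u hu => hM hm u hu.2) (inf_le_inf_right _ hU₀) (fun l hl u hu => h₀ l hl u hu.1 hu.2)
    (zpowers_le.mpr (h.S_le hg)) (zpowers_le.mpr (h.S_le_M hg)) (h.pS.to_le (zpowers_le.mpr hg))
    (fun R₁ hR => ⟨g, rfl, mem_zpowers g, fun e => hR.not_ge (zpowers_le.mpr e)⟩)
    (fun x hx hf => by_contra fun hn => h.not_mem_conj hx hn hg hgT (mem_conj_iff.mpr (hf g (mem_zpowers g))))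
    ?_ l hl u ⟨hu, huQ⟩
  rintro _ rfl - u hu
  have h2 : 2 ≤ p - 1 := by have := hp.out.two_le; omega
  refine iter_mem_of_le (le_normalizer_inf hU₀' hQn (inv_mem (h.S_le hg))) h2
    ⟨?_, iter_mem (hQn (inv_mem (h.S_le hg))) hu.2 2⟩
  exact comm_mem_swap (hq (commutator_mem_commutator
    (comm_mem_swap (commutator_mem_commutator hu.1 (inv_mem hg))) (inv_mem hg)))

omit [Finite G] hp in
theorem bau_eq [Finite S] (h₁ : S ⊓ C(ZJ 0 S) ≤ T) (h₂ : T ≤ S) : T ⊓ C(ZJ 0 T) = S ⊓ C(ZJ 0 S) := by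
  rw [ZJ_eq_of_J_le ((le_inf (J_le 0 S) (J_le_centralizer_ZJ 0 S)).trans h₁) h₂]
  exact le_antisymm (inf_le_inf_right _ h₂) (le_inf h₁ inf_le_right)

omit hp in
theorem mem_normalizer_bau {g : G} (h : (S ⊓ C(ZJ 0 S)) ^ᶜ g ≤ S) : g ∈ N(S ⊓ C(ZJ 0 S)) := by
  have h₁ := conj_J_eq_of_le ((conj_mono g (le_inf (J_le 0 S) (J_le_centralizer_ZJ 0 S))).trans h)
  have h₂ := normalizer_J_le_normalizer_ZJ 0 S (mem_normalizer_iff_conj_eq.mpr h₁)
  exact mem_normalizer_of_conj_le (le_inf h (conj_le_of_mem_normalizer inf_le_right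
    (normalizer_le_normalizer_centralizer _ h₂)))

theorem norm_bau (hS : IsSylowIn p S ⊤) (hc : C(pCore p G) ≤ pCore p G) (hm : MinOver S M ⊤)
    (hZ : C(Z(S)) ≤ M) (hJ : J 0 S ≤ pCore p G) : ⊤[G] ≤ N(S ⊓ C(ZJ 0 S)) := by
  have hT := hS.pCore_le
  have h₁ : Z(S) ≤ Z(pCore p G) := (inf_le_right.trans (centralizer_anti hT)).trans (le_inf hc le_rfl)
  have hn : ⊤[G] ≤ N(pCore p G) := normal_iff_top_le.mp inferInstance
  have h₂ : nclIn Z(S) ⊤ ≤ ZJ 0 S := (nclIn_le h₁ (le_norm_center hn)).trans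
    ((inf_centralizer_le_ZJ _).trans (ZJ_eq_of_J_le hJ hT).le)
  have h₃ := PMinimal.MinOver.inf_le_pCoreOf hm hS.isPGroup (SubnormalIn.of_normal le_top
    (le_normalizer_centralizer (le_normalizer_nclIn Z(S) ⊤))) ((centralizer_anti (le_nclIn _ _)).trans hZ)
  rw [pCoreOf_top] at h₃
  rw [← bau_eq ((le_inf (inf_le_right.trans (centralizer_anti h₂)) inf_le_left).trans h₃) hT]
  exact le_normalizer_inf hn (le_normalizer_centralizer (hn.trans (normalizer_le_normalizer_ZJ 0 _)))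

end

variable {G : Type u} [Group G] [Finite G] {p : ℕ} [hp : Fact p.Prime] {H S T M Q D : Subgroup G}

theorem pu_le_stab (hp2 : p ≠ 2) (k : PU p H S T M) [Q.Normal] (hQ : Q ≤ T) (hD : ⁅Q, Q⁆ ≤ D)
    (hM : M ≤ stabD Q D) (nc : ¬ H ≤ C(Z(S))) (hK : H ⊓ N((K p).toFun S) ≤ M) : H ≤ stabD Q D := by
  set B := S ⊓ C(ZJ 0 S) with hB
  have hJ : ¬ B ≤ T := fun e => k.min.lt.not_ge ((le_inf le_rfl ((k.norm_of_J_le nc
    ((le_inf (J_le 0 S) (J_le_centralizer_ZJ 0 S)).trans e)).trans (normalizer_bau_le S))).trans hK)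
  have hL := k.isSylowIn_baumann nc
  set L := nclIn B H
  have hLH : L ≤ H := nclIn_le_of_le (inf_le_left.trans k.S_le)
  have hn : H ≤ N(L) := le_normalizer_nclIn B H
  have e : L ⊓ S = B := hL.eq_of_le inf_le_left (k.pS.to_le inf_le_right) (le_inf hL.le inf_le_left)
  have k₁ := k.normal hLH hn (e ▸ hJ)
  rw [e] at k₁
  have hE : pResidualOf p H ≤ L := k.res_le inf_le_left hJ
  have hgen : ∀ X : Subgroup G, L ≤ X → S ≤ X → H ≤ X := fun X a b => k.res_sup.ge.trans (sup_le (hE.trans a) b)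
  have k₂ := k₁.pk_of_cent (fun a => nc (hgen _ (a.trans (centralizer_anti (le_inf (inf_le_inf_left _
    (centralizer_anti (ZJ_le 0 S))) (inf_le_right.trans (centralizer_anti inf_le_left)))))
    (le_centralizer_iff.mp inf_le_right))) (bau_le_cent S)
  set V := nclIn Z(B) L
  have hQp : IsPGroup p Q := k.pT.to_le hQ
  have hM' : L ⊓ M ≤ stabD Q D := inf_le_right.trans hM
  have h₁ : ⁅Q, pResidualOf p L⁆ ≤ L ⊓ T := le_inf
    ((commutator_mono le_rfl (pResidualOf_le p L)).trans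
      (commutator_le_right_of_le_normalizer ((hQ.trans k.T_le_G).trans hn)))
    ((commutator_le_left _ _).trans hQ)
  have hV : ∀ l ∈ L, ∀ u ∈ V, u ∈ Q → ⁅l, u⁆ ∈ D := ro_step (U₀ := ⊥) hp2 k₂.toRO hQp hD hM' k₂.V_norm bot_le
    (le_top.trans (normal_iff_top_le.mp inferInstance)) ((commutator_mono k₂.quad le_rfl).trans
      (commutator_eq_bot_iff_le_centralizer.mpr inf_le_right).le)
    fun l _ u hu _ => by rw [mem_bot.mp hu]; simp
  have hQn : pResidualOf p L ≤ N(Q) := le_top.trans (normal_iff_top_le.mp inferInstance)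
  have fin : pResidualOf p L ≤ stabD Q D → H ≤ stabD Q D := fun a =>
    hgen _ (k₁.res_sup.ge.trans (sup_le a (k₁.S_le_M.trans hM'))) (k.S_le_M.trans hM)
  rcases norm_K k₂ with c | c | ⟨X, c⟩
  · exact absurd (hgen _ ((le_inf hLH c).trans hK) k.S_le_M) k.min.lt.not_ge
  · exact fin (res_step hQp (comm_res_trans hQp hQn h₁ c.one) hV)
  · exact fin (res_step hQp (comm_res_trans hQp hQn h₁ c.comm_TE) (ro_step hp2 k₂.toRO hQp hD hM' c.rm.V_norm
      (c.rm.W_le.trans c.rm.Y_le) k₂.V_norm ((commutator_mono c.rm.quad le_rfl).trans c.rm.comm_Y) hV))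

theorem not_cfg (hp2 : p ≠ 2) (c : Cfg p S M D) (hK : N((K p).toFun S) ≤ M) (hZ : C(Z(S)) ≤ M) : False := by
  set Q := pCore p G with hQ
  set B := S ⊓ C(ZJ 0 S) with hB
  have hQS : Q ≤ S := c.syl.pCore_le
  have hBM : N(B) ≤ M := (normalizer_bau_le S).trans hK
  have hM : M = stabD Q D := Subgroup.ext c.mem
  obtain ⟨H, ⟨h₁, h₂, h₃⟩, hmin⟩ := exists_minimal_of_wellFoundedLT
    (fun H : Subgroup G => B ⊔ Q ≤ H ∧ IsSylowIn p (S ⊓ H) H ∧ ¬ H ≤ M)
    ⟨⊤, le_top, by rw [inf_top_eq]; exact c.syl, c.min.lt.not_ge⟩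
  have hBS : B ⊔ Q ≤ S ⊓ H := le_inf (sup_le inf_le_left hQS) h₁
  have hmax : ∀ X, B ⊔ Q ≤ X → X < H → X ≤ M := fun X a b => by
    obtain ⟨P, hP, hP'⟩ := exists_isSylowIn_ge a (h₂.isPGroup.to_le hBS)
    obtain ⟨x, hx, hxP⟩ := h₂.exists_conj_le (hP.le.trans b.le) hP.isPGroup
    have hxB : x ∈ N(B) := mem_normalizer_bau ((conj_mono x (le_sup_left.trans hP')).trans (hxP.trans inf_le_left))
    have d : X ^ᶜ x < H := by rw [← conj_eq_of_mem hx]; exact conj_lt_conj_iff.mpr b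
    rw [← conj_le_conj_iff (g := x), conj_eq_of_mem (hBM hxB)]
    by_contra hn
    refine d.not_ge (hmin ⟨?_, ?_, hn⟩ d.le)
    · rw [← conj_eq_of_mem_normalizer hxB, ← conj_eq_of_normal Q x, ← conj_sup]
      exact conj_mono x a
    · have := hP.conj x
      rwa [this.eq_of_le inf_le_right (c.syl.isPGroup.to_le inf_le_left)
        (le_inf (hxP.trans inf_le_left) this.le)]
  set S₁ := S ⊓ H
  have eB : S₁ ⊓ C(ZJ 0 S₁) = B := bau_eq (le_sup_left.trans hBS) inf_le_left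
  have hnB : ¬ H ≤ N(B) := fun e => h₃ (e.trans hBM)
  have hm : MinOver S₁ (M ⊓ H) H := PMinimal.minOver_of_max h₂ (fun e => hnB (eB ▸ le_normalizer_inf e
    (le_normalizer_centralizer (e.trans (normalizer_le_normalizer_ZJ 0 _)))))
    (lt_of_le_of_ne inf_le_right fun e => h₃ (e.ge.trans inf_le_left)) (inf_le_inf_right _ c.min.le)
    fun X a b => le_inf (hmax X (hBS.trans a) b) b.le
  have hQT : Q ≤ pCoreOf p H := le_pCoreOf (le_sup_right.trans h₁)
    (le_top.trans (normal_iff_top_le.mp inferInstance)) (pCore_isPGroup p G)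
  have hc : C(pCore p H) ≤ pCore p H :=
    charP_iff.mpr (inf_le_right.trans ((centralizer_anti hQT).trans (c.char.trans hQT)))
  have hZ₁ : C(Z(S₁)) ≤ M := (centralizer_anti (le_inf ((inf_le_right.trans ((centralizer_anti hQS).trans
    c.char)).trans (le_sup_right.trans hBS)) (inf_le_right.trans (centralizer_anti inf_le_left)))).trans hZ
  have hS' : IsSylowIn p (S₁.subgroupOf H) ⊤ := by simpa using h₂.subgroupOf le_rfl
  have hZ' : C(Z(S₁.subgroupOf H)) ≤ (M ⊓ H).subgroupOf H := by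
    rw [centralizer_subgroupOf h₂.le, show S₁.subgroupOf H ⊓ (C(S₁)).subgroupOf H = (Z(S₁)).subgroupOf H from rfl,
      centralizer_subgroupOf (inf_le_left.trans h₂.le), inf_subgroupOf_right]
    exact subgroupOf_mono H hZ₁
  have eB' : S₁.subgroupOf H ⊓ C(ZJ 0 (S₁.subgroupOf H)) = B.subgroupOf H := by
    rw [ZJ_subgroupOf h₂.le, centralizer_subgroupOf ((ZJ_le 0 _).trans h₂.le), ← eB]
    rfl
  have k := (RankOneRec.pu_of_min hS' hc hm.subgroupOf hZ' (fun e => hnB (by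
    have := norm_bau hS' hc hm.subgroupOf hZ' e
    rw [eB', ← subgroupOf_normalizer_eq (le_sup_left.trans h₁)] at this
    exact fun x hx => this (mem_top ⟨x, hx⟩))) fun X a b => by
      rw [eB', ← pCoreOf_subgroupOf] at a
      refine fun x hx => ⟨hmax (X.map H.subtype) (sup_le (fun y hy => ?_) fun y hy => ?_) ?_
        (mem_map_of_mem _ hx), x.2⟩
      · exact ⟨⟨y, h₁ (mem_sup_left hy)⟩, a (mem_sup_left hy), rfl⟩
      · exact ⟨⟨y, h₁ (mem_sup_right hy)⟩, a (mem_sup_right (hQT hy)), rfl⟩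
      · conv_rhs => rw [← map_top_subtype H]
        exact (map_lt_map_iff_of_injective H.subtype_injective).mpr b).map H.subtype_injective
  rw [map_top_subtype, subgroupOf_map_subtype_of_le h₂.le, pCoreOf_def,
    subgroupOf_map_subtype_of_le inf_le_right] at k
  refine h₃ (hM ▸ pu_le_stab hp2 k hQT ((le_inf ((commutator_le_left _ _).trans hQS)
    (commutator_mono (hQS.trans c.min.le) (hQS.trans c.min.le))).trans c.foc) (inf_le_left.trans hM.le)
    (fun e => h₃ (e.trans hZ₁)) (le_inf (inf_le_right.trans ?_) inf_le_left))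
  rwa [show (K p).toFun S₁ = (K p).toFun S from congrArg (ofType (K₀ p) (fun _ _ _ _ => map_K₀)
    fun _ _ _ _ => K₀_ne_bot).toFun eB]

/-- Glauberman's theorem -/
theorem main (hp2 : p ≠ 2) (hS : IsSylowIn p S ⊤)
    (h₁ : S ⊓ ⁅normalizer (((K p).toFun S : Subgroup G) : Set G),
      normalizer (((K p).toFun S : Subgroup G) : Set G)⁆ ≤ D)
    (h₂ : S ⊓ ⁅centralizer ((S ⊓ centralizer (S : Set G) : Subgroup G) : Set G),
      centralizer ((S ⊓ centralizer (S : Set G) : Subgroup G) : Set G)⁆ ≤ D) : S ⊓ ⁅(⊤ : Subgroup G), ⊤⁆ ≤ D :=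
  foc_of_cfg (K p) True (fun _ _ _ _ _ _ c a b => not_cfg hp2 c a (b trivial)) G S D hS h₁ fun _ => h₂

end Cfsg.Agent.Lib.PairTr
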