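import Cfsg.Agent.Lib.PushExc
import Mathlib.GroupTheory.PushoutI

/-! Comparing two pushing up embeddings of the same `p`-group through their amalgam. -/

set_option autoImplicit false
open Cfsg

namespace Cfsg.Agent.Lib.PushBase

open Subgroup Cfsg.Agent.Lib.PCoreConj Cfsg.Agent.Lib.PCore Cfsg.Agent.Lib.PCoreResidual Cfsg.Agent.Lib.PCoreMod
open Cfsg.Agent.Lib.PReduced Cfsg.Agent.Lib.PIrred Cfsg.Agent.Lib.ThompsonJ
open scoped Pointwise commutatorElement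

universe u v

/-- A family of two types. -/
def PairFam (G₁ G₂ : Type u) : Bool → Type u
  | false => G₁
  | true => G₂

instance pairFamGroup (G₁ G₂ : Type u) [g₁ : Group G₁] [g₂ : Group G₂] : ∀ b, Group (PairFam G₁ G₂ b)
  | false => g₁
  | true => g₂

/-- The two homomorphisms as a family. -/
def pairFamHom {P : Type v} {G₁ G₂ : Type u} [Group P] [Group G₁] [Group G₂] (τ₁ : P →* G₁)
    (τ₂ : P →* G₂) : ∀ b, P →* PairFam G₁ G₂ b
  | false => τ₁
  | true => τ₂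

theorem exists_amalgam {P : Type v} {G₁ G₂ : Type u} [Group P] [Group G₁] [Group G₂]
    {τ₁ : P →* G₁} {τ₂ : P →* G₂} (h₁ : Function.Injective τ₁) (h₂ : Function.Injective τ₂) :
    ∃ (H : Type (max u v)) (_ : Group H) (f₁ : G₁ →* H) (f₂ : G₂ →* H), Function.Injective f₁ ∧
      Function.Injective f₂ ∧ f₁.comp τ₁ = f₂.comp τ₂ := by
  have hφ : ∀ b, Function.Injective (pairFamHom τ₁ τ₂ b) := fun b => by
    cases b
    · exact h₁
    · exact h₂
  exact ⟨Monoid.PushoutI (pairFamHom τ₁ τ₂), inferInstance,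
    Monoid.PushoutI.of (φ := pairFamHom τ₁ τ₂) false, Monoid.PushoutI.of (φ := pairFamHom τ₁ τ₂) true,
    Monoid.PushoutI.of_injective hφ false, Monoid.PushoutI.of_injective hφ true,
    (Monoid.PushoutI.of_comp_eq_base (φ := pairFamHom τ₁ τ₂) false).trans
      (Monoid.PushoutI.of_comp_eq_base (φ := pairFamHom τ₁ τ₂) true).symm⟩

variable {H : Type*} [Group H] {p : ℕ} {H' : Type*} [Group H'] {f : H →* H'}
variable {G S T M V W X Y A B : Subgroup H}

theorem map_le_cent_iff (hf : Function.Injective f) : A.map f ≤ C(B.map f) ↔ A ≤ C(B) := by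
  rw [← inf_eq_left, ← map_centralizer_inf hf, (map_injective hf).eq_iff, inf_eq_left]

theorem map_le_norm_iff (hf : Function.Injective f) : A.map f ≤ N(B.map f) ↔ A ≤ N(B) := by
  refine ⟨fun h => ?_, le_normalizer_map f⟩
  have := le_normalizer_comap f h
  rwa [comap_map_eq_self_of_injective hf, comap_map_eq_self_of_injective hf] at this

theorem mem_map_inj (hf : Function.Injective f) {x : H} : f x ∈ A.map f ↔ x ∈ A :=
  mem_map_iff_mem hf

theorem MaxAb.map' (hf : Function.Injective f) (h : MaxAb 0 S A) : MaxAb 0 (S.map f) (A.map f) :=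
  h.map (inf_ker_of_injective hf S)

theorem RP.map (h : RP S) (hf : Function.Injective f) : RP (S.map f) where
  top := (cd_map_iff hf).2 h.top
  ab A hA := by
    obtain ⟨B, hB, rfl⟩ := hA.exists_of_map (inf_ker_of_injective hf S)
    exact (cd_map_iff hf).2 (h.ab B hB)

theorem NM.map [Fact p.Prime] (h : NM p G S T M V Y W) (hf : Function.Injective f) :
    NM p (G.map f) (S.map f) (T.map f) (M.map f) (V.map f) (Y.map f) (W.map f) where
  toRO := h.toRO.map f ((inf_ker_of_injective hf G).le.trans bot_le)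
  V_le := map_mono h.V_le
  V_norm := le_normalizer_map f h.V_norm
  V_cent := (map_le_cent_iff hf).2 h.V_cent
  hY := by rw [← map_centralizer_inf hf, h.hY]
  hW := by rw [← map_centralizer_inf hf, h.hW]
  quad := by rw [← map_commutator]; exact map_mono h.quad
  ncl := by rw [← map_nclIn]; exact map_mono h.ncl
  nc := fun e => h.nc ((map_le_cent_iff hf).1 e)
  idx := by rw [relIndex_map_map_of_injective _ _ hf, relIndex_map_map_of_injective _ _ hf]; exact h.idx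

theorem PK.map [Fact p.Prime] (h : PK p G S T M V) (hf : Function.Injective f) :
    PK p (G.map f) (S.map f) (T.map f) (M.map f) (V.map f) where
  toNM := by rw [← map_center hf, ← map_center hf]; exact h.toNM.map hf
  char := (h.pu.map hf).char

theorem One.of_map (h₀ : PK p G S T M V) (hf : Function.Injective f)
    (h : ⁅T.map f, pResidualOf p (G.map f)⁆ ≤ V.map f) : One p G S T M V where
  toPK := h₀
  one := by rwa [← map_pResidualOf_of_injective hf, ← map_commutator, map_le_map_iff_of_injective hf] at h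

theorem RO.C_inf [Fact p.Prime] (h : RO p G S T M) : (C(pResidualOf p G) ⊓ C(S) : Subgroup H) ≤ C(G) := by
  rw [← centralizer_sup, h.res_sup]

/-- `V / W` behaves like a natural module for `G / T`. -/
structure RM (p : ℕ) (G S T M V Y W : Subgroup H) : Prop extends RO p G S T M where
  W_le : W ≤ Y
  Y_le : Y ≤ V
  V_le : V ≤ T
  V_norm : G ≤ N(V)
  W_norm : G ≤ N(W)
  comm_T : ⁅V, T⁆ ≤ W
  quad : ⁅V, S⁆ ≤ Y
  comm_Y : ⁅Y, S⁆ ≤ W
  key : ∀ v ∈ V, ∀ a ∈ S, a ∉ T → ⁅v, a⁆ ∈ W → v ∈ Y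
  fix : ∀ v ∈ V, (∀ g ∈ G, ⁅v, g⁆ ∈ W) → v ∈ W
  ncl : V ≤ nclIn Y G
  nc : ¬ V ≤ W
  idx : Y.relIndex V ≤ T.relIndex S

theorem NM.rm (h : NM p G S T M V Y W) : RM p G S T M V Y W where
  toRO := h.toRO
  W_le := h.W_le
  Y_le := h.Y_le
  V_le := h.V_le
  V_norm := h.V_norm
  W_norm := h.W_norm
  comm_T := commutator_le.2 fun _ hv _ ht => comm_eq_one_of_cent (h.V_cent ht) hv ▸ one_mem _
  quad := h.quad
  comm_Y := commutator_le.2 fun _ hv _ ht => comm_eq_one_of_cent (h.Y_cent ht) hv ▸ one_mem _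
  key := fun _ hv _ ha haT hc => h.key hv ha haT hc
  fix := fun v hv hc => by
    obtain ⟨a, ha, haT⟩ := h.exists_S
    exact h.mem_W_of_comm (h.key hv ha haT (hc a (h.S_le ha))) hc
  ncl := h.ncl
  nc := fun e => h.not_le_Y (e.trans h.W_le)
  idx := h.idx

theorem RM.of_map (h₀ : RO p G S T M) (hf : Function.Injective f)
    (h : RM p (G.map f) (S.map f) (T.map f) (M.map f) (V.map f) (Y.map f) (W.map f)) :
    RM p G S T M V Y W where
  toRO := h₀
  W_le := (map_le_map_iff_of_injective hf).1 h.W_le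
  Y_le := (map_le_map_iff_of_injective hf).1 h.Y_le
  V_le := (map_le_map_iff_of_injective hf).1 h.V_le
  V_norm := (map_le_norm_iff hf).1 h.V_norm
  W_norm := (map_le_norm_iff hf).1 h.W_norm
  comm_T := (map_le_map_iff_of_injective hf).1 ((map_commutator _ _ f).le.trans h.comm_T)
  quad := (map_le_map_iff_of_injective hf).1 ((map_commutator _ _ f).le.trans h.quad)
  comm_Y := (map_le_map_iff_of_injective hf).1 ((map_commutator _ _ f).le.trans h.comm_Y)
  key := fun v hv a ha haT hc => (mem_map_inj hf).1 (h.key _ (mem_map_of_mem f hv) _ (mem_map_of_mem f ha)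
    (fun e => haT ((mem_map_inj hf).1 e)) (map_commutatorElement f v a ▸ mem_map_of_mem f hc))
  fix := fun v hv hc => (mem_map_inj hf).1 (h.fix _ (mem_map_of_mem f hv) (by
    rintro _ ⟨g, hg, rfl⟩
    exact map_commutatorElement f v g ▸ mem_map_of_mem f (hc g hg)))
  ncl := (map_le_map_iff_of_injective hf).1 (h.ncl.trans (map_nclIn f _ _).ge)
  nc := fun e => h.nc (map_mono e)
  idx := by
    have := h.idx
    rwa [relIndex_map_map_of_injective _ _ hf, relIndex_map_map_of_injective _ _ hf] at this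

/-- The exceptional configuration seen from one of the two groups. -/
structure Tw (p : ℕ) (G S T M V X : Subgroup H) : Prop extends PK p G S T M V where
  three : p = 3
  rm : RM p G S T M (nclIn X G) X V
  comm_TE : ⁅T, pResidualOf p G⁆ ≤ nclIn X G
  faith : ∀ g ∈ G, (∀ u ∈ nclIn X G, ⁅u, g⁆ ∈ V) → g ∈ T
  Phi_le : Phi T ≤ C(pResidualOf p G)
  comm_Phi : ⁅⁅Phi S, S⁆, S⁆ ≤ C(pResidualOf p G)
  cubic : ¬ ⁅S, S⁆ ≤ C(S)
  cube : ∃ s ∈ S, s ^ 3 ≠ 1

theorem Tw.of_map (h₀ : PK p G S T M V) (hf : Function.Injective f)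
    (h : Tw p (G.map f) (S.map f) (T.map f) (M.map f) (V.map f) (X.map f)) : Tw p G S T M V X where
  toPK := h₀
  three := h.three
  rm := RM.of_map h₀.toRO hf (by rw [map_nclIn]; exact h.rm)
  comm_TE := by
    have := h.comm_TE
    rwa [← map_pResidualOf_of_injective hf, ← map_commutator, ← map_nclIn,
      map_le_map_iff_of_injective hf] at this
  faith := fun g hg hc => (mem_map_inj hf).1 (h.faith _ (mem_map_of_mem f hg) (by
    rw [← map_nclIn]
    rintro _ ⟨u, hu, rfl⟩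
    exact map_commutatorElement f u g ▸ mem_map_of_mem f (hc u hu)))
  Phi_le := by
    have := h.Phi_le
    rwa [← map_pResidualOf_of_injective hf, ← map_Phi hf, map_le_cent_iff hf] at this
  comm_Phi := by
    have := h.comm_Phi
    rwa [← map_pResidualOf_of_injective hf, ← map_Phi hf, ← map_commutator, ← map_commutator,
      map_le_cent_iff hf] at this
  cubic := fun e => h.cubic (by rwa [← map_commutator, map_le_cent_iff hf])
  cube := by
    obtain ⟨_, ⟨s, hs, rfl⟩, h⟩ := h.cube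
    exact ⟨s, hs, fun e => h (by rw [← map_pow, e, map_one])⟩

theorem Two.rm {G₁ G₂ T₁ T₂ M₁ M₂ V₁ V₂ : Subgroup H} (h : Two p G₁ G₂ S T₁ T₂ M₁ M₂ V₁ V₂) :
    RM p G₁ S T₁ M₁ (nclIn (V₁ ⊔ V₂) G₁) (V₁ ⊔ V₂) V₁ where
  toRO := h.k₁.toRO
  W_le := le_sup_left
  Y_le := le_nclIn _ _
  V_le := h.U_le
  V_norm := le_normalizer_nclIn _ _
  W_norm := h.k₁.V_norm
  comm_T := h.comm_UT.trans h.k₁.W_le_V
  quad := h.comm_US
  comm_Y := h.comm_XS.trans h.k₁.Y_le
  key := fun _ hv _ ha haT hc => h.keyU hv ha haT hc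
  fix := fun v hv hc => by
    obtain ⟨a, ha, haT⟩ := h.k₁.exists_S
    obtain ⟨g, hg, hgM⟩ := h.k₁.exists_G
    have h₁ := h.keyU hv ha haT (hc a (h.k₁.S_le ha))
    have hv' : g⁻¹ * v * g⁻¹⁻¹ ∈ nclIn (V₁ ⊔ V₂) G₁ :=
      conj_mem_of_norm (le_normalizer_nclIn _ _ (inv_mem hg)) hv
    have h₂ := h.keyU hv' ha haT (by
      have := conj_mem_of_norm (h.k₁.V_norm (inv_mem hg))
        (hc _ (mul_mem (mul_mem hg (h.k₁.S_le ha)) (inv_mem hg)))
      rw [conj_comm] at this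
      convert this using 2
      group)
    rw [← h.conj_inf_X hg hgM]
    exact ⟨mem_conj_iff.2 (by simpa using h₂), h₁⟩
  ncl := le_rfl
  nc := fun e => by
    obtain ⟨x, hx, hxX⟩ := h.exists_U
    exact hxX (mem_sup_left (e hx))
  idx := by
    obtain ⟨g, hg, hgM⟩ := h.k₁.exists_G
    have := relIndex_sup_of_le_normalizer (H := (V₁ ⊔ V₂) ^ᶜ g) (N := V₁ ⊔ V₂)
      (((h.conj_XT hg).trans h.k₁.T_le).trans h.S_norm_X)
    rw [sup_comm _ (V₁ ⊔ V₂), h.U_eq hg hgM, ← inf_relIndex_right (V₁ ⊔ V₂) ((V₁ ⊔ V₂) ^ᶜ g), inf_comm,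
      h.conj_inf_X hg hgM] at this
    rw [this, ← h.idx_eq, ← LocIdx.relIndex_conj V₁ (V₁ ⊔ V₂) g, h.k₁.conj_V hg]

theorem Two.tw {G₁ G₂ T₁ T₂ M₁ M₂ V₁ V₂ : Subgroup H} [Fact p.Prime]
    (h : Two p G₁ G₂ S T₁ T₂ M₁ M₂ V₁ V₂) : Tw p G₁ S T₁ M₁ V₁ (V₁ ⊔ V₂) where
  toPK := h.k₁
  three := h.eq_three
  rm := h.rm
  comm_TE := h.comm_TE
  faith := fun g hg hc => h.faith ⟨hg, mem_rel.2 ⟨h.k₁.V_norm hg, hc⟩⟩
  Phi_le := h.Phi_le.trans inf_le_right
  comm_Phi := h.comm_Phi.trans inf_le_right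
  cubic := fun e => by
    obtain ⟨x, hx, hxX⟩ := h.exists_U
    obtain ⟨a, ha, haT⟩ := h.k₁.exists_S
    refine h.cubic hx hxX ha haT ha haT ?_
    rw [comm_eq_one_of_cent' (e (commutator_mem_commutator (h.k₁.T_le (h.U_le hx)) ha)) ha]
    exact one_mem _
  cube := h.exists_cube

theorem PK.eq_of_T_eq {G₁ G₂ M₁ M₂ V₁ V₂ : Subgroup H} (k₁ : PK p G₁ S T M₁ V₁) (k₂ : PK p G₂ S T M₂ V₂)
    (hS : CD S S) : V₁ = V₂ := (k₁.center_T hS).symm.trans (k₂.center_T hS)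

/-- The pushing up alternative for two groups over the same `S`. -/
theorem two_cases [Fact p.Prime] {G₁ G₂ T₁ T₂ M₁ M₂ V₁ V₂ : Subgroup H} (k₁ : PK p G₁ S T₁ M₁ V₁)
    (k₂ : PK p G₂ S T₂ M₂ V₂) (rp : RP S) (hJ : S ≤ J 0 S) :
    One p G₁ S T₁ M₁ V₁ ∨ One p G₂ S T₂ M₂ V₂ ∨ Tw p G₁ S T₁ M₁ V₁ (V₁ ⊔ V₂) ∨
      (V₁ ≤ C(V₂) ∧ G₁ ≤ N(V₁ ⊔ V₂)) := by
  by_cases e : T₁ = T₂
  · subst e
    obtain rfl := k₁.eq_of_T_eq k₂ rp.top
    exact .inr (.inr (.inr ⟨k₁.V_comm, (sup_idem V₁).symm ▸ k₁.V_norm⟩))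
  have o : ∀ {G T M V : Subgroup H}, PK p G S T M V → ∃ A, MaxAb 0 S A ∧ ¬ A ≤ T := fun k => by
    by_contra hn
    push Not at hn
    exact k.not_le (hJ.trans (J_le_iff.2 hn))
  have h : Pair p G₁ G₂ S T₁ T₂ M₁ M₂ V₁ V₂ := ⟨k₁, k₂, rp, e, o k₁, o k₂⟩
  rcases h.concl with c | c | ⟨c, r₁, r₂, n | n⟩
  · exact .inl ⟨k₁, c⟩
  · exact .inr (.inl ⟨k₂, c⟩)
  · exact .inr (.inr (.inr ⟨c, n.1⟩))
  · exact .inr (.inr (.inl (Two.tw ⟨h, n, c, r₁, r₂⟩)))

/-- The pushing up alternative for two embeddings of the same `p`-group. -/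
theorem two_emb [Fact p.Prime] {P : Type v} {G₁ G₂ : Type u} [Group P] [Group G₁] [Group G₂]
    {τ₁ : P →* G₁} {τ₂ : P →* G₂} (h₁ : Function.Injective τ₁) (h₂ : Function.Injective τ₂)
    {S V₁ V₂ : Subgroup P} {L₁ T₁ M₁ : Subgroup G₁} {L₂ T₂ M₂ : Subgroup G₂}
    (k₁ : PK p L₁ (S.map τ₁) T₁ M₁ (V₁.map τ₁)) (k₂ : PK p L₂ (S.map τ₂) T₂ M₂ (V₂.map τ₂))
    (rp : RP S) (hJ : S ≤ J 0 S) :
    One p L₁ (S.map τ₁) T₁ M₁ (V₁.map τ₁) ∨ One p L₂ (S.map τ₂) T₂ M₂ (V₂.map τ₂) ∨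
      Tw p L₁ (S.map τ₁) T₁ M₁ (V₁.map τ₁) ((V₁ ⊔ V₂).map τ₁) ∨
      (V₁ ≤ C(V₂) ∧ L₁ ≤ N((V₁ ⊔ V₂).map τ₁)) := by
  obtain ⟨H, _, f₁, f₂, i₁, i₂, e⟩ := exists_amalgam h₁ h₂
  have hi : Function.Injective (f₁.comp τ₁) := i₁.comp h₁
  have e₁ : ∀ A : Subgroup P, (A.map τ₁).map f₁ = A.map (f₁.comp τ₁) := fun A => map_map _ _ _
  have e₂ : ∀ A : Subgroup P, (A.map τ₂).map f₂ = A.map (f₁.comp τ₁) := fun A => e ▸ map_map _ _ _
  have l₁ := k₁.map i₁
  have l₂ := k₂.map i₂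
  rw [e₁, e₁] at l₁
  rw [e₂, e₂] at l₂
  rcases two_cases l₁ l₂ (rp.map hi)
    ((map_mono hJ).trans (map_J (inf_ker_of_injective hi S)).le) with c | c | c | c
  · exact .inl (.of_map k₁ i₁ (by rw [e₁]; exact c.one))
  · exact .inr (.inl (.of_map k₂ i₂ (by rw [e₂]; exact c.one)))
  · refine .inr (.inr (.inl (.of_map k₁ i₁ ?_)))
    rwa [e₁, e₁, e₁, Subgroup.map_sup]
  · refine .inr (.inr (.inr ⟨(map_le_cent_iff hi).1 c.1, (map_le_norm_iff i₁).1 ?_⟩))
    rw [e₁, Subgroup.map_sup]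
    exact c.2

end Cfsg.Agent.Lib.PushBase
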