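/-
Automorphisms of odd order of the Sylow `2`-subgroup of a minimal parabolic group with one layer of
noncentral chief factors.
-/
import Cfsg.Agent.Lib.MinParOff
import Cfsg.Agent.Lib.PMinimal
import Cfsg.Agent.Lib.SFreeRestr

set_option autoImplicit false

namespace Cfsg.Agent.Lib.PushAut

open Cfsg Subgroup PCoreConj PCore PCoreResidual SFreeOB
open scoped commutatorElement

section

variable {P : Type*} [Group P] {A K W X Y Z : Subgroup P}

/-- `X` is a nontrivial offender on `W`. -/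
structure Off (W X : Subgroup P) : Prop where
  norm : X.Normal
  sq : ∀ x ∈ X, x ^ 2 = 1
  nc : ¬ X ≤ centralizer (W : Set P)
  off : (centralizer (X : Set P)).relIndex W ≤ (centralizer (W : Set P)).relIndex X

/-- `x` is a regular element. -/
def Reg (W K F : Subgroup P) (x : P) : Prop := ∀ w ∈ W, ⁅w, x⁆ ∈ K → w ∈ F

/-- The properties of `Ω₁ Z(O₂(G))` that are visible in the Sylow subgroup. -/
structure Gd (W K : Subgroup P) : Prop where
  norm : W.Normal
  sq : ∀ w ∈ W, w ^ 2 = 1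
  normK : K.Normal
  sqK : ∀ q ∈ centralizer (W : Set P), q ^ 2 ∈ K
  le : ∀ A : Subgroup P, (∀ a ∈ A, a ^ 2 = 1) →
    (centralizer (W : Set P)).relIndex A ≤ (centralizer (A : Set P)).relIndex W
  eq : ∀ X Y, Off W X → Off W Y → X ≤ Y ⊔ centralizer (W : Set P)
  reg : ∀ X, Off W X → ∃ F, ¬ W ≤ F ∧ ∃ d ∈ X, Reg W K F d ∧ ∀ x ∈ X, Reg W K F x ∨ Reg W K F (d * x)

theorem map_C (e : P ≃* P) (A : Subgroup P) : centralizer ((A.map e.toMonoidHom : Subgroup P) : Set P) =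
    (centralizer (A : Set P)).map e.toMonoidHom := by
  refine le_antisymm (fun x hx => ⟨e.symm x, fun a ha => e.injective ?_, e.apply_symm_apply x⟩)
    (map_centralizer_le_centralizer_image _ _)
  rw [map_mul, map_mul, e.apply_symm_apply]
  exact hx _ ⟨a, ha, rfl⟩

theorem exists_map (e : P ≃* P) (A : Subgroup P) : ∃ B : Subgroup P, B.map e.toMonoidHom = A :=
  ⟨_, map_comap_eq_self_of_surjective e.surjective A⟩

theorem Off.of_map (e : P ≃* P) (h : Off (W.map e.toMonoidHom) (X.map e.toMonoidHom)) : Off W X := by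
  refine ⟨?_, fun x hx => e.injective ((map_pow e x 2).trans ((h.sq _ ⟨x, hx, rfl⟩).trans
    (map_one e).symm)), fun c => h.nc (map_C e W ▸ map_mono c), ?_⟩
  · rw [← comap_map_eq_self_of_injective (f := e.toMonoidHom) e.injective X]
    exact h.norm.comap _
  · simpa only [map_C, relIndex_map_map_of_injective _ _ (f := e.toMonoidHom) e.injective] using h.off

theorem Gd.map (h : Gd W K) (e : P ≃* P) : Gd (W.map e.toMonoidHom) (K.map e.toMonoidHom) := by
  refine ⟨h.norm.map _ e.surjective, ?_, h.normK.map _ e.surjective, ?_, fun A hA => ?_,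
    fun X Y hX hY => ?_, fun X hX => ?_⟩
  · rintro _ ⟨w, hw, rfl⟩
    rw [← map_pow, h.sq w hw, map_one]
  · rw [map_C]
    rintro _ ⟨q, hq, rfl⟩
    exact ⟨_, h.sqK q hq, map_pow _ q 2⟩
  · obtain ⟨A, rfl⟩ := exists_map e A
    simpa only [map_C, relIndex_map_map_of_injective _ _ (f := e.toMonoidHom) e.injective] using
      h.le A fun a ha => e.injective ((map_pow e a 2).trans ((hA _ ⟨a, ha, rfl⟩).trans (map_one e).symm))
  · obtain ⟨X, rfl⟩ := exists_map e X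
    obtain ⟨Y, rfl⟩ := exists_map e Y
    rw [map_C, ← Subgroup.map_sup]
    exact map_mono (h.eq X Y (hX.of_map e) (hY.of_map e))
  · obtain ⟨X, rfl⟩ := exists_map e X
    obtain ⟨F, h1, d, hd, h2, h3⟩ := h.reg X (hX.of_map e)
    have key : ∀ x, Reg W K F x → Reg (W.map e.toMonoidHom) (K.map e.toMonoidHom)
        (F.map e.toMonoidHom) (e x) := by
      rintro x hx _ ⟨w, hw, rfl⟩ ⟨k, hk, e1⟩
      exact ⟨w, hx w hw (e.injective (e1.trans (map_commutatorElement e w x).symm) ▸ hk), rfl⟩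
    refine ⟨F.map e.toMonoidHom, fun c => h1 ((map_le_map_iff_of_injective e.injective).1 c), e d,
      ⟨d, hd, rfl⟩, key d h2, ?_⟩
    rintro _ ⟨x, hx, rfl⟩
    exact (h3 x hx).imp (key x) fun c => map_mul e d x ▸ key _ c

variable {K₁ K₂ K₃ : Subgroup P}

theorem Gd.off (h : Gd W K) (h₁ : Gd X K₁) (n : ¬ X ≤ centralizer (W : Set P)) : Off W X :=
  ⟨h₁.norm, h₁.sq, n, h₁.le W h.sq⟩

theorem Gd.exists (h : Gd W K) (h₁ : Gd X K₁) (h₂ : Gd Y K₂) (n₁ : ¬ X ≤ centralizer (W : Set P))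
    (n₂ : ¬ Y ≤ centralizer (W : Set P)) {x : P} (hx : x ∈ X) :
    ∃ y ∈ Y, y⁻¹ * x ∈ centralizer (W : Set P) := by
  have := h.norm
  obtain ⟨y, hy, c, hc, rfl⟩ := (mem_sup_iff_of_le_normalizer (le_top.trans (normal_iff_top_le.1
    inferInstance))).1 (h.eq X Y (h.off h₁ n₁) (h.off h₂ n₂) hx)
  exact ⟨y, hy, by rwa [inv_mul_cancel_left]⟩

theorem comm_eq {w x z : P} (h : w⁻¹ * z ∈ centralizer (X : Set P)) (hx : x ∈ X) : ⁅z, x⁆ = ⁅w, x⁆ := by
  have := h x hx
  calc _ = w * (w⁻¹ * z * x) * z⁻¹ * x⁻¹ := by rw [commutatorElement_def]; group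
    _ = _ := by rw [← this, commutatorElement_def]; group

theorem Gd.triangle (h : Gd W K) (h₁ : Gd X K₁) (h₂ : Gd Z K₂) (n₁ : ¬ X ≤ centralizer (W : Set P))
    (n₂ : ¬ Z ≤ centralizer (W : Set P)) (n₃ : ¬ Z ≤ centralizer (X : Set P)) : False := by
  have := h.norm
  have := h₁.norm
  have n₄ := mt le_centralizer_iff.1 n₁
  let R : P → P → Prop := fun x w => ∃ z ∈ Z, z⁻¹ * x ∈ centralizer (W : Set P) ∧
    w⁻¹ * z ∈ centralizer (X : Set P)
  have key : ∀ x ∈ X, ∀ w, R x w → ⁅w, x⁆ ∈ K := by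
    rintro x hx w ⟨z, hz, c1, c2⟩
    have e1 : z⁻¹ = z := inv_eq_of_mul_eq_one_right ((pow_two z).symm.trans (h₂.sq z hz))
    have e2 : x⁻¹ = x := inv_eq_of_mul_eq_one_right ((pow_two x).symm.trans (h₁.sq x hx))
    rw [← comm_eq c2 hx, commutatorElement_def, e1, e2, mul_assoc, ← pow_two]
    exact h.sqK _ (e1 ▸ c1)
  obtain ⟨F, h1, d, hd, h2, h3⟩ := h.reg X (h.off h₁ n₁)
  refine h1 fun w hw => ?_
  obtain ⟨z, hz, c1⟩ := h₁.exists h h₂ n₄ n₃ hw
  obtain ⟨x, hx, c2⟩ := h.exists h₂ h₁ n₂ n₁ hz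
  have r : R x w := ⟨z, hz, by simpa using inv_mem c2, by simpa using inv_mem c1⟩
  refine (h3 x hx).elim (fun c => c w hw (key x hx w r)) fun c => ?_
  obtain ⟨z', hz', c3⟩ := h.exists h₁ h₂ n₁ n₂ hd
  obtain ⟨w', hw', c4⟩ := h₁.exists h₂ h n₃ n₄ hz'
  obtain ⟨z, hz, c1, c2⟩ := r
  refine (F.mul_mem_cancel_left (h2 w' hw' (key d hd w' ⟨z', hz', c3, c4⟩))).1
    (c _ (mul_mem hw' hw) (key _ (mul_mem hd hx) _ ⟨z' * z, mul_mem hz' hz, ?_, ?_⟩))
  · rw [show (z' * z)⁻¹ * (d * x) = z⁻¹ * (z'⁻¹ * d) * z⁻¹⁻¹ * (z⁻¹ * x) by group]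
    exact mul_mem (Normal.conj_mem inferInstance _ c3 _) c1
  · rw [show (w' * w)⁻¹ * (z' * z) = w⁻¹ * (w'⁻¹ * z') * w⁻¹⁻¹ * (w⁻¹ * z) by group]
    exact mul_mem (Normal.conj_mem inferInstance _ c4 _) c2

theorem Gd.path (h : Gd W K) (h₁ : Gd X K₁) (h₂ : Gd Y K₂) (h₃ : Gd Z K₃)
    (n₁ : ¬ X ≤ centralizer (W : Set P)) (n₂ : ¬ Y ≤ centralizer (W : Set P))
    (n₃ : ¬ Z ≤ centralizer (X : Set P)) : ¬ Z ≤ centralizer (Y : Set P) := fun c => by
  have := h.normK
  have c' : Z ≤ centralizer (W : Set P) := by_contra fun n => h.triangle h₁ h₃ n₁ n n₃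
  obtain ⟨F, h1, d, hd, h2, -⟩ := h.reg X (h.off h₁ n₁)
  refine h1 fun w hw => h2 w hw ?_
  obtain ⟨y, hy, c1⟩ := h.exists h₁ h₂ n₁ n₂ hd
  obtain ⟨z, hz, c2⟩ := h₁.exists h h₃ (mt le_centralizer_iff.1 n₁) n₃ hw
  have c3 := c' hz
  have e : ⁅z, y⁻¹ * d⁆ ∈ K := by
    rw [show ⁅z, y⁻¹ * d⁆ = (z * (y⁻¹ * d)) ^ 2 * ((y⁻¹ * d)⁻¹ * z⁻¹ ^ 2 * (y⁻¹ * d)⁻¹⁻¹) *
      (y⁻¹ * d)⁻¹ ^ 2 by simp only [pow_two, commutatorElement_def]; group]
    exact mul_mem (mul_mem (h.sqK _ (mul_mem c3 c1)) (this.conj_mem _ (h.sqK _ (inv_mem c3)) _))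
      (h.sqK _ (inv_mem c1))
  rw [comm_eq c2 hd, show ⁅z, d⁆ = y * ⁅z, y⁻¹ * d⁆ * y⁻¹ by
    calc _ = y * ((y⁻¹ * z) * d * z⁻¹ * d⁻¹ * y) * y⁻¹ := by rw [commutatorElement_def]; group
      _ = _ := by rw [c hz _ (inv_mem hy), commutatorElement_def]; group]
  exact this.conj_mem _ e y

theorem Gd.comm (h : Gd W K) {a : MulAut P} (ha : Odd (orderOf a)) :
    W.map a.toMonoidHom ≤ centralizer (W : Set P) := by_contra fun n => by
  have e : ∀ k, (W.map (a ^ k).toMonoidHom).map a.toMonoidHom = W.map (a ^ (k + 1)).toMonoidHom :=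
    fun k => by rw [map_map, pow_succ']; rfl
  have s : ∀ k, ¬ W.map (a ^ (k + 1)).toMonoidHom ≤
      centralizer ((W.map (a ^ k).toMonoidHom : Subgroup P) : Set P) := fun k => by
    induction k with
    | zero => rwa [zero_add, pow_one, pow_zero, show W.map (1 : MulAut P).toMonoidHom = W from map_id W]
    | succ k ih =>
      rw [← e (k + 1)]
      nth_rewrite 2 [← e k]
      rwa [map_C, map_le_map_iff_of_injective a.injective]
  have t : ∀ k, ¬ W ≤ centralizer ((W.map (a ^ (2 * k + 1)).toMonoidHom : Subgroup P) : Set P) :=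
    fun k => by
      induction k with
      | zero => exact mt le_centralizer_iff.1 (by rwa [mul_zero, zero_add, pow_one])
      | succ k ih =>
        exact (h.map _).path (h.map _) (h.map _) h (mt le_centralizer_iff.1 (s (2 * k + 1)))
          (s (2 * k + 2)) ih
  obtain ⟨k, hk⟩ := ha
  refine t k ?_
  rw [← hk, pow_orderOf_eq_one, show W.map (1 : MulAut P).toMonoidHom = W from map_id W]
  exact le_C_of_sq h.sq

end

open FFRep TIOff TIOffCls MinParFF MinParOff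

section

variable {G : Type*} [Group G] {p : ℕ} [hp : Fact p.Prime] {V : Type*} [AddCommGroup V]
  [Module (ZMod p) V] {ρ : Representation (ZMod p) G V} {B T M X Y : Subgroup G} [Finite G] [Finite V]
  (c : MinParFF.Ctx ρ T M)
include c

theorem dl_le (hB : MinOff ρ B) (h₁ : B ≤ X) (h₂ : X ≤ T) (h₃ : T ≤ normalizer (X : Set G)) :
    sSup (Dl B T) ≤ X := sSup_le fun D hD => by_contra fun n => by
  obtain ⟨D', s⟩ := Ctx.exists_sp c hB hD
  have l : nclIn B T ≤ X := nclIn_le h₁ h₃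
  refine s.not_le (le_trans (le_normalizer_of_le_centralizer (le_centralizer_iff.1 (nclIn_le_iff.2
    fun t ht => ?_))) (normalizer_le_of_pgroup c.min c.core (c.syl.isPGroup.to_le (l.trans h₂))
      (ne_bot_of_le_ne_bot hB.ne_bot (le_nclIn B T)) (le_normalizer_nclIn B T)))
  refine (s.cm _ (dl_eq hD.1 T ▸ conj_mem_dl_of_mem ⟨self_mem_cls B, h₁.trans h₂⟩ ht)
    fun e => n (e ▸ (conj_le_nclIn B ht).trans l)).le_centralizer

theorem mod_eq (hX : IsElementaryAbelian p X) (x₁ : X ≠ ⊥) (x₂ : Nat.card V ≤ ms ρ ⊤ X) (x₃ : X ≤ T)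
    (x₄ : T ≤ normalizer (X : Set G)) (hY : IsElementaryAbelian p Y) (y₁ : Y ≠ ⊥)
    (y₂ : Nat.card V ≤ ms ρ ⊤ Y) (y₃ : Y ≤ T) (y₄ : T ≤ normalizer (Y : Set G)) : X ≤ Y := by
  obtain ⟨B, b, hB, -⟩ := exists_minOff hX x₁ x₂
  obtain ⟨C, b', hC, -⟩ := exists_minOff hY y₁ y₂
  have l : X ≤ sSup (Dl B T) := fun x hx => Ctx.mem_of_cent c hB (x₃ hx) fun D hD d hd =>
    comm_of_elem hX d (dl_le c hB b x₃ x₄ (le_sSup hD hd)) x hx
  refine l.trans (sSup_le ?_)
  rintro _ ⟨⟨g, rfl⟩, h1⟩ x hx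
  refine dl_le c hC b' y₃ y₄ (Ctx.mem_of_cent c hC (h1 hx) ?_)
  rintro _ ⟨⟨k, rfl⟩, h2⟩
  exact (Ctx.cm_of_minOff c (hB.conj g) (hC.conj k) h1 h2).le_centralizer hx

theorem mod_reg (hX : IsElementaryAbelian p X) (x₁ : X ≠ ⊥) (x₂ : Nat.card V ≤ ms ρ ⊤ X) (x₃ : X ≤ T)
    (x₄ : T ≤ normalizer (X : Set G)) (hq : com ρ ⊤ X ≤ fix ρ X) : ∃ F : Submodule (ZMod p) V, F ≠ ⊤ ∧
      ∃ d ∈ X, ∀ x ∈ X, (∀ v, ρ d v - v ∈ fix ρ (pResidual p G) → v ∈ F) ∧
        ((∀ v, ρ x v - v ∈ fix ρ (pResidual p G) → v ∈ F) ∨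
          ∀ v, ρ (d * x) v - v ∈ fix ρ (pResidual p G) → v ∈ F) := by
  obtain ⟨B, b, hB, -⟩ := exists_minOff hX x₁ x₂
  obtain ⟨B', s⟩ := Ctx.exists_sp c hB ⟨self_mem_cls B, b.trans x₃⟩
  obtain ⟨A, a1, a2, -, a3⟩ := exists_split s (c.ti hB) c.syl.isPGroup c.min.le (comm_of_elem hX) b x₃
  obtain ⟨d, hd, d1⟩ := (c.ti hB).exists_ne_one
  have key : ∀ y ∈ B, y ≠ 1 → ∀ a ∈ A, ∀ v, ρ (y * a) v - v ∈ fix ρ (pResidual p G) → v ∈ fix ρ B := by
    intro y hy y1 a ha v hv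
    have m := a3 (sub_mem_com (Submodule.mem_top (x := v)) ha)
    rw [fix_sup] at m
    refine mem_fix_of_sub_mem s.good hy y1 ?_
    rw [show ρ y v - v = (ρ (y * a) v - v) - (ρ a v - v) by
      rw [← m.1 y hy, act_mul, map_sub]; abel]
    refine sub_mem ?_ m.2
    obtain ⟨g, rfl⟩ := s.cls
    obtain ⟨o, ho, t, ht, rfl⟩ := (mem_sup_iff_of_le_normalizer' (le_top.trans (normal_iff_top_le.1
      inferInstance))).1 ((pResidualOf_top p G ▸ pResidualOf_sup_of_isSylowIn c.syl).ge (mem_top g))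
    rw [← hv o ho, ← conj_conj]
    exact act_mem_fix_conj o (fix_anti (conj_le_of_mem_normalizer b (x₄ ht))
      (hq (sub_mem_com Submodule.mem_top (mul_mem (b hy) (a1.le ha)))))
  refine ⟨fix ρ B, (c.ti hB).fix_ne_top, d, b hd, fun x hx => ⟨mul_one d ▸ key d hd d1 1 (one_mem _), ?_⟩⟩
  obtain ⟨y, hy, a, ha, rfl⟩ := (mem_sup_iff_of_le_normalizer (le_normalizer_of_comm fun y hy a ha =>
    comm_of_elem hX y (b hy) a (a1.le ha))).1 (a2 hx)
  by_cases e : y = 1
  · exact Or.inr (by rw [e, one_mul]; exact key d hd d1 a ha)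
  · exact Or.inl (key y hy e a ha)

end

open EMod SL2Amb PReduced

theorem gd {G : Type*} [Group G] [Finite G] {S M : Subgroup G} (hS : IsSylowIn 2 S ⊤)
    (hm : PIrred.MinOver S M ⊤) (hG : centralizer (pCore 2 G : Set G) ≤ pCore 2 G)
    (hZ : centralizer (omegaOneCenter 2 S : Set G) ≤ M)
    (hF : ⁅pCore 2 G, pResidual 2 G⁆ ≤ omegaOneCenter 2 (pCore 2 G)) :
    centralizer (omegaOneCenter 2 (pCore 2 G) : Set G) ≤ pCore 2 G ∧
    Gd ((omegaOneCenter 2 (pCore 2 G)).subgroupOf S)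
      ((centralizer (pResidual 2 G : Set G)).subgroupOf S) := by
  set V := omegaOneCenter 2 (pCore 2 G)
  have hV : IsElementaryAbelian 2 V := isElementaryAbelian_omegaOneCenter 2 _
  have hN : ⊤ ≤ normalizer (V : Set G) := le_normalizer_omegaOneCenter (normal_iff_top_le.1 inferInstance)
  have := normal_iff_top_le.2 hN
  have hVS : V ≤ S := (omegaOneCenter_le 2 _).trans hS.pCore_le
  have hC : centralizer (V : Set G) ≤ pCore 2 G := le_pCore inferInstance (isPGroup_of_pResidualOf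
    ((pCore_isPGroup 2 G).to_le (le_trans (PCoreMod.pResidualOf_le_centralizer_of_le (pCore_isPGroup 2 G)
      (le_top.trans (normal_iff_top_le.1 inferInstance)) ((commutator_mono le_rfl
        (pResidualOf_le_pResidual 2 _)).trans hF) (pResidualOf_le 2 _)) hG)))
  let ρ := arep hV (MonoidHom.id G) fun x => hN (mem_top x)
  let φ := QuotientGroup.mk' (cent ρ ⊤)
  have hφ : Function.Surjective φ := QuotientGroup.mk'_surjective _
  have hK : cent ρ ⊤ = centralizer (V : Set G) := by rw [cent_arep_top, comap_id]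
  have hK' : φ.ker = centralizer (V : Set G) := (QuotientGroup.ker_mk' _).trans hK
  have c : MinParFF.Ctx (quo ρ) (S.map φ) (M.map φ) := by
    refine ⟨cent_quo ρ, hS.map_mk' _, ?_, ?_, fun x hx => ?_⟩
    · simpa only [map_top_of_surjective φ hφ] using hm.map_of_ker φ
        (inf_le_right.trans (hK'.le.trans ((hC.trans hS.pCore_le).trans hm.le)))
    · rw [← map_pCore_of_surjective hφ (hK' ▸ (pCore_isPGroup 2 G).to_le hC), Subgroup.map_eq_bot_iff, hK']
      exact le_centralizer_omegaOneCenter 2 _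
    · obtain ⟨x, rfl⟩ := hφ x
      rw [fix_quo] at hx
      have : x ∈ cent ρ (fix ρ S) := hx
      rw [cent_arep, toSub_fix, Subgroup.map_id, comap_id] at this
      have h := (omegaOneCenter_le_centralizer 2 S).trans (centralizer_anti hS.pCore_le)
      exact mem_map_of_mem φ (hZ (centralizer_anti (le_inf (le_omegaOneCenter
        (isElementaryAbelian_omegaOneCenter 2 _) (h.trans hG) h) (omegaOneCenter_le_centralizer 2 _)) this))
  let ψ := φ.comp S.subtype
  have hf := ThompsonJ.inf_ker_of_injective S.subtype_injective ⊤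
  have hW := subgroupOf_map_subtype_of_le hVS
  have mem : ∀ x : S, x ∈ centralizer ((V.subgroupOf S : Subgroup S) : Set S) ↔
      (x : G) ∈ centralizer (V : Set G) := fun x => by
    rw [← SFreeRestr.mem_C_iff hf le_top (mem_top x), hW]; rfl
  have hk : ψ.ker = centralizer ((V.subgroupOf S : Subgroup S) : Set S) := Subgroup.ext fun x => by
    rw [mem, ← hK']; rfl
  have el : ∀ A : Subgroup S, (∀ a ∈ A, a ^ 2 = 1) → IsElementaryAbelian 2 (A.map ψ) := fun A hA =>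
    isElementaryAbelian_map (LocIdx.isElementaryAbelian_two_of_sq hA) ψ
  have cd : ∀ A : Subgroup S, ∃ n, 0 < n ∧ Nat.card (EM hV) =
      (centralizer (A : Set S)).relIndex (V.subgroupOf S) * n ∧ ms (quo ρ) ⊤ (A.map ψ) =
      (centralizer ((V.subgroupOf S : Subgroup S) : Set S)).relIndex A * n := fun A => by
    refine ⟨Nat.card ↥(V ⊓ centralizer ((A.map S.subtype : Subgroup G) : Set G)), Nat.card_pos, ?_, ?_⟩
    · rw [card_em, ← SFreeRestr.relIndex_C hf le_top le_top, hW, mul_comm, inf_comm,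
        card_inf_mul_relIndex]
    · rw [ms_top, ← relIndex_ker, hk, ← map_map, fix_quo, card_fix, Subgroup.map_id]
  have hS' : S.map φ = (⊤ : Subgroup S).map ψ := by
    rw [← map_map, ← MonoidHom.range_eq_map, range_subtype]
  have of : ∀ X, Off (V.subgroupOf S) X → X.map ψ ≠ ⊥ ∧ Nat.card (EM hV) ≤ ms (quo ρ) ⊤ (X.map ψ) ∧
      X.map ψ ≤ S.map φ ∧ S.map φ ≤ normalizer ((X.map ψ : Subgroup _) : Set _) := fun X hX => by
    obtain ⟨n, -, e1, e2⟩ := cd X
    rw [e1, e2, hS', Ne, Subgroup.map_eq_bot_iff, hk]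
    exact ⟨hX.nc, Nat.mul_le_mul_right _ hX.off, map_mono le_top,
      le_normalizer_map ψ (normal_iff_top_le.1 hX.norm)⟩
  refine ⟨hC, inferInstance, fun w hw => Subtype.ext (hV.2 w hw), inferInstance, fun q hq e he => ?_,
    fun A hA => ?_, fun X Y hX hY => ?_, fun X hX => ?_⟩
  · have h1 := hC ((mem q).1 hq)
    have h2 := hF (commutator_mem_commutator (inv_mem h1) he)
    have h3 : e * q * e⁻¹ = q * ⁅(q : G)⁻¹, e⁆ := by rw [commutatorElement_def]; group
    rw [← mul_inv_eq_iff_eq_mul, map_pow, coe_subtype, ← conj_pow, h3,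
      (show Commute (q : G) _ from omegaOneCenter_le_centralizer 2 _ h2 _ h1).mul_pow, hV.2 _ h2, mul_one]
  · obtain ⟨n, h0, e1, e2⟩ := cd A
    have := c.base.noOver _ (el A hA)
    rw [e1, e2] at this
    exact Nat.le_of_mul_le_mul_right this h0
  · obtain ⟨x1, x2, x3, x4⟩ := of X hX
    obtain ⟨y1, y2, y3, y4⟩ := of Y hY
    rw [← hk, ← comap_map_eq, ← map_le_iff_le_comap]
    exact mod_eq c (el X hX.sq) x1 x2 x3 x4 (el Y hY.sq) y1 y2 y3 y4
  obtain ⟨x1, x2, x3, x4⟩ := of X hX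
  obtain ⟨F, h1, _, ⟨d, hd, rfl⟩, h2⟩ := mod_reg c (el X hX.sq) x1 x2 x3 x4 (by
    rw [← map_map, com_quo, fix_quo, ← toSub_le_toSub, toSub_com_top, toSub_fix, Subgroup.map_id]
    refine le_inf (commutator_le_left _ _) ?_
    rw [← hW, ← map_commutator]
    have := hX.norm
    exact (map_mono ((commutator_le_right _ X).trans (le_C_of_sq hX.sq))).trans
      (map_centralizer_le_centralizer_image _ _))
  have key : ∀ x : S, (∀ v, quo ρ (ψ x) v - v ∈ fix (quo ρ) (pResidual 2 _) → v ∈ F) →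
      Reg (V.subgroupOf S) ((centralizer (pResidual 2 G : Set G)).subgroupOf S)
        ((toSub F).subgroupOf S) x := fun x hx w hw e => by
    obtain ⟨v, hv⟩ := exists_val (h := hV) hw
    refine mem_toSub.2 ⟨v, hx v ?_, hv⟩
    rw [← map_pResidual_of_surjective hφ, fix_quo, fix_arep, Subgroup.map_id]
    change (ρ x v - v).val ∈ centralizer (pResidual 2 G : Set G)
    rw [val_arep_sub, hv, ← commutatorElement_inv]
    exact inv_mem e
  refine ⟨(toSub F).subgroupOf S, fun e => h1 (toSub_eq_self.1 (le_antisymm (toSub_le F) fun v hv =>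
    e (show (⟨v, hVS hv⟩ : S) ∈ V.subgroupOf S from hv))), d, hd, key d (h2 1 (one_mem _)).1,
    fun x hx => (h2 _ ⟨x, hx, rfl⟩).2.imp (key x) fun e => key _ (map_mul ψ d x ▸ e)⟩

theorem exists_normal {G : Type*} [Group G] [Finite G] {S M : Subgroup G} (hS : IsSylowIn 2 S ⊤)
    (hm : PIrred.MinOver S M ⊤) (hG : centralizer (pCore 2 G : Set G) ≤ pCore 2 G)
    (hZ : centralizer (omegaOneCenter 2 S : Set G) ≤ M)
    (hF : ⁅pCore 2 G, pResidual 2 G⁆ ≤ omegaOneCenter 2 (pCore 2 G)) (A : Subgroup (MulAut S))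
    (hA : Odd (Nat.card A)) : ∃ U : Subgroup G, omegaOneCenter 2 (pCore 2 G) ≤ U ∧ U.Normal ∧ U ≤ S ∧
      ∀ a ∈ A, ∀ x : S, (x : G) ∈ U → (a x : G) ∈ U := by
  obtain ⟨hC, h⟩ := gd hS hm hG hZ hF
  set V := omegaOneCenter 2 (pCore 2 G)
  have hVS : V ≤ S := (omegaOneCenter_le 2 _).trans hS.pCore_le
  set U := ⨆ a : A, (V.subgroupOf S).map (a : MulAut S).toMonoidHom
  have hVU : V ≤ U.map S.subtype := (subgroupOf_map_subtype_of_le hVS).ge.trans
    (map_mono (le_iSup_of_le (1 : A) (map_id _).ge))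
  have hU : U.map S.subtype ≤ pCore 2 G := by
    refine le_trans ?_ hC
    rw [← subgroupOf_map_subtype_of_le hVS]
    refine (map_mono (iSup_le fun a => h.comm (hA.of_dvd_nat ?_))).trans
      (map_centralizer_le_centralizer_image _ _)
    exact orderOf_coe a ▸ orderOf_dvd_natCard a
  have hn : U.Normal := normal_iff_top_le.2 (le_normalizer_iSup fun a =>
    normal_iff_top_le.1 (h.map _).norm)
  refine ⟨U.map S.subtype, hVU, normal_iff_top_le.2 ((pResidualOf_top 2 G ▸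
    pResidualOf_sup_of_isSylowIn hS).ge.trans (sup_le (le_normalizer_of_commutator_le
      (((commutator_mono hU le_rfl).trans hF).trans hVU)) ?a)), map_subtype_le _, ?b⟩
  case a => simpa only [← MonoidHom.range_eq_map, range_subtype] using
      le_normalizer_map S.subtype (normal_iff_top_le.1 hn)
  · rintro a ha x ⟨y, hy, e⟩
    obtain rfl : y = x := Subtype.ext e
    have : U ≤ U.comap a.toMonoidHom := iSup_le fun b =>
      map_le_iff_le_comap.1 (le_iSup_of_le (⟨a, ha⟩ * b) (by rw [map_map]; rfl))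
    exact mem_map_of_mem S.subtype (this hy)

end Cfsg.Agent.Lib.PushAut
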