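import Cfsg.Agent.Lib.PIrred
import Cfsg.Agent.Lib.ThompsonJ
import Cfsg.Agent.Lib.CDLattice
import Cfsg.Agent.Lib.LocIdx

/-! Rank one pushing up: measure lemmas and the basic structure. -/

set_option autoImplicit false
open Cfsg

namespace Cfsg.Agent.Lib.PushBase

open Subgroup Cfsg.Agent.Lib.PCoreConj Cfsg.Agent.Lib.PCore Cfsg.Agent.Lib.PCoreResidual Cfsg.Agent.Lib.PCoreMod
open Cfsg.Agent.Lib.PReduced Cfsg.Agent.Lib.PIrred Cfsg.Agent.Lib.ThompsonJ
open scoped Pointwise commutatorElement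

variable {H : Type*} [Group H] {p : ℕ}

scoped notation "C(" X ")" => Subgroup.centralizer ((X : Subgroup _) : Set _)
scoped notation "N(" X ")" => Subgroup.normalizer ((X : Subgroup _) : Set _)
scoped notation "Z(" X ")" => X ⊓ Subgroup.centralizer ((X : Subgroup _) : Set _)

section Count
variable {A B L S X : Subgroup H}

theorem card_mul_card_le [Finite L] (hA : A ≤ L) (hB : B ≤ L) :
    Nat.card A * Nat.card B ≤ Nat.card L * Nat.card ↥(A ⊓ B) := by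
  rw [← CDLattice.card_mul_set]
  exact Nat.mul_le_mul_right _ (Nat.card_mono (Set.toFinite (L : Set H))
    (CDLattice.mul_subset_of_le hA hB))

theorem coe_eq_mul_of_card [Finite L] (hA : A ≤ L) (hB : B ≤ L)
    (h : Nat.card L * Nat.card ↥(A ⊓ B) ≤ Nat.card A * Nat.card B) :
    (L : Set H) = (A : Set H) * (B : Set H) := by
  rw [← CDLattice.card_mul_set A B] at h
  haveI := finite_of_le (inf_le_left.trans hA : A ⊓ B ≤ L)
  exact (Set.eq_of_subset_of_ncard_le (CDLattice.mul_subset_of_le hA hB)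
    (Nat.le_of_mul_le_mul_right h Nat.card_pos) (Set.toFinite _)).symm

theorem exists_mul_of_coe (h : (L : Set H) = (A : Set H) * (B : Set H)) {x : H} (hx : x ∈ L) :
    ∃ a ∈ A, ∃ b ∈ B, a * b = x := by
  have : x ∈ (A : Set H) * (B : Set H) := h ▸ hx
  exact this

theorem relIndex_le_of_map [Finite X] (f : H → H) (hf : ∀ s ∈ S, f s ∈ X)
    (h : ∀ s ∈ S, ∀ t ∈ S, (f s)⁻¹ * f t ∈ B → s⁻¹ * t ∈ A) : A.relIndex S ≤ B.relIndex X := by
  refine Nat.card_le_card_of_injective (fun c : S ⧸ A.subgroupOf S =>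
    ((⟨f c.out, hf _ c.out.2⟩ : X) : X ⧸ B.subgroupOf X)) fun c d e => ?_
  rw [← c.out_eq', ← d.out_eq', QuotientGroup.eq]
  exact h _ c.out.2 _ d.out.2 ((QuotientGroup.eq (s := B.subgroupOf X)).1 e)

theorem exists_of_relIndex_le [Finite X] (f : H → H) (hf : ∀ s ∈ S, f s ∈ X)
    (h : ∀ s ∈ S, ∀ t ∈ S, (f s)⁻¹ * f t ∈ B ↔ s⁻¹ * t ∈ A) (hle : B.relIndex X ≤ A.relIndex S)
    {x : H} (hx : x ∈ X) : ∃ s ∈ S, (f s)⁻¹ * x ∈ B := by
  let φ : S ⧸ A.subgroupOf S → X ⧸ B.subgroupOf X := fun c => ((⟨f c.out, hf _ c.out.2⟩ : X) : _)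
  have hi : Function.Injective φ := fun c d e => by
    rw [← c.out_eq', ← d.out_eq', QuotientGroup.eq]
    exact (h _ c.out.2 _ d.out.2).1 ((QuotientGroup.eq (s := B.subgroupOf X)).1 e)
  obtain ⟨c, hc⟩ := (hi.bijective_of_nat_card_le hle).2 ((⟨x, hx⟩ : X) : _)
  exact ⟨_, c.out.2, (QuotientGroup.eq (s := B.subgroupOf X)).1 hc⟩

theorem card_pos_of_le [Finite L] (h : A ≤ L) : 0 < Nat.card A :=
  haveI := finite_of_le h
  Nat.card_pos

end Count

section Best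

/-- The measure of `X` on `V`. -/
noncomputable def meas (V X : Subgroup H) : ℕ := Nat.card X * Nat.card ↥(V ⊓ C(X))

/-- `R` has largest measure on `V` among the subgroups between `T` and `S`. -/
structure Best (T S V R : Subgroup H) : Prop where
  ge : T ≤ R
  le : R ≤ S
  max : ∀ Y, T ≤ Y → Y ≤ S → meas V Y ≤ meas V R

variable {T S V Q R Y : Subgroup H}

theorem meas_conj (V X : Subgroup H) (g : H) : meas (V ^ᶜ g) (X ^ᶜ g) = meas V X := by
  rw [meas, meas, ← conj_centralizer, ← conj_inf, card_conj, card_conj]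

theorem Best.conj (h : Best T S V R) (g : H) : Best (T ^ᶜ g) (S ^ᶜ g) (V ^ᶜ g) (R ^ᶜ g) where
  ge := conj_mono g h.ge
  le := conj_mono g h.le
  max Y h₁ h₂ := by
    rw [← conj_inv_conj Y g, meas_conj, meas_conj]
    exact h.max _ (conj_le_iff_le_conj_inv.1 h₁) (le_conj_iff_conj_inv_le.1 h₂)

theorem Best.of_le (h : Best T S V R) (h₁ : T ≤ Y) (h₂ : Y ≤ S) (h₃ : meas V R ≤ meas V Y) :
    Best T S V Y := ⟨h₁, h₂, fun Z h₄ h₅ => (h.max Z h₄ h₅).trans h₃⟩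

theorem Best.meas_eq (hQ : Best T S V Q) (hR : Best T S V R) : meas V Q = meas V R :=
  le_antisymm (hR.max Q hQ.ge hQ.le) (hQ.max R hR.ge hR.le)

theorem exists_best [Finite S] (h : T ≤ S) (V : Subgroup H) : ∃ R, Best T S V R := by
  obtain ⟨R, hR, hm⟩ := Set.exists_max_image {R | T ≤ R ∧ R ≤ S} (meas V)
    ((finite_setOf_le S).subset fun R hR => hR.2) ⟨S, h, le_rfl⟩
  exact ⟨R, hR.1, hR.2, fun Y h₁ h₂ => hm Y ⟨h₁, h₂⟩⟩

private theorem arith {a b c d e f g h m : ℕ} (hm : 0 < m) (h1 : a * b = m) (h2 : c * d = m)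
    (h3 : a * c ≤ e * f) (h4 : b * d ≤ g * h) (h5 : e * h ≤ m) (h6 : f * g ≤ m) :
    e * h = m ∧ f * g = m ∧ e * f ≤ a * c ∧ g * h ≤ b * d := by
  have k1 : m * m = (a * c) * (b * d) := by
    calc m * m = (a * b) * (c * d) := by rw [h1, h2]
      _ = _ := by ring
  have k2 : (e * f) * (g * h) = (e * h) * (f * g) := by ring
  have k3 : m * m ≤ (e * h) * (f * g) := by rw [k1, ← k2]; exact Nat.mul_le_mul h3 h4
  have e1 : e * h = m := le_antisymm h5 (by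
    by_contra hc
    exact absurd k3 (not_le.2 (Nat.mul_lt_mul_of_lt_of_le (not_le.1 hc) h6 hm)))
  have e2 : f * g = m := le_antisymm h6 (by
    rw [e1] at k3; exact Nat.le_of_mul_le_mul_left k3 hm)
  have k4 : (e * f) * (g * h) = (a * c) * (b * d) := by rw [k2, e1, e2, k1]
  have p1 : 0 < (a * c) * (b * d) := k1 ▸ Nat.mul_pos hm hm
  refine ⟨e1, e2, ?_, ?_⟩
  · by_contra hc
    exact absurd k4 (Nat.mul_lt_mul_of_lt_of_le' (not_le.1 hc) h4 (Nat.pos_of_mul_pos_left p1)).ne'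
  · by_contra hc
    exact absurd k4 (Nat.mul_lt_mul_of_le_of_lt h3 (not_le.1 hc)
      (lt_of_lt_of_le (Nat.pos_of_mul_pos_right p1) h3)).ne'

theorem meas_pos [Finite S] [Finite V] (h : R ≤ S) : 0 < meas V R :=
  Nat.mul_pos (card_pos_of_le h) (card_pos_of_le inf_le_left)

theorem Best.lattice [Finite S] [Finite V] (hQ : Best T S V Q) (hR : Best T S V R) :
    Best T S V (Q ⊔ R) ∧ Best T S V (Q ⊓ R) ∧
      ((Q ⊔ R : Subgroup H) : Set H) = (Q : Set H) * (R : Set H) ∧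
      ((V ⊓ C(Q ⊓ R) : Subgroup H) : Set H) =
        ((V ⊓ C(Q) : Subgroup H) : Set H) * ((V ⊓ C(R) : Subgroup H) : Set H) := by
  haveI := finite_of_le (sup_le hQ.le hR.le)
  haveI := finite_of_le (inf_le_left : V ⊓ C(Q ⊓ R) ≤ V)
  have e : (V ⊓ C(Q)) ⊓ (V ⊓ C(R)) = V ⊓ C(Q ⊔ R) := by
    rw [centralizer_sup]; exact (inf_inf_distrib_left _ _ _).symm
  have l₁ : V ⊓ C(Q) ≤ V ⊓ C(Q ⊓ R) := inf_le_inf_left _ (centralizer_anti inf_le_left)
  have l₂ : V ⊓ C(R) ≤ V ⊓ C(Q ⊓ R) := inf_le_inf_left _ (centralizer_anti inf_le_right)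
  have h₃ := card_mul_card_le l₁ l₂
  rw [e] at h₃
  obtain ⟨a₁, a₂, a₃, a₄⟩ := arith (meas_pos (V := V) hQ.le) rfl (hR.meas_eq hQ)
    (card_mul_card_le (le_sup_left : Q ≤ Q ⊔ R) le_sup_right) h₃
    (hQ.max _ (hQ.ge.trans le_sup_left) (sup_le hQ.le hR.le))
    (hQ.max _ (le_inf hQ.ge hR.ge) (inf_le_left.trans hQ.le))
  exact ⟨hQ.of_le (hQ.ge.trans le_sup_left) (sup_le hQ.le hR.le) a₁.ge,
    hQ.of_le (le_inf hQ.ge hR.ge) (inf_le_left.trans hQ.le) a₂.ge,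
    coe_eq_mul_of_card le_sup_left le_sup_right a₃, coe_eq_mul_of_card l₁ l₂ (e ▸ a₄)⟩

theorem Best.sup [Finite S] [Finite V] (hQ : Best T S V Q) (hR : Best T S V R) :
    Best T S V (Q ⊔ R) := (hQ.lattice hR).1

theorem Best.inf [Finite S] [Finite V] (hQ : Best T S V Q) (hR : Best T S V R) :
    Best T S V (Q ⊓ R) := (hQ.lattice hR).2.1

theorem Best.exists_mul [Finite S] [Finite V] (hQ : Best T S V Q) (hR : Best T S V R) {x : H}
    (hx : x ∈ Q ⊔ R) : ∃ a ∈ Q, ∃ b ∈ R, a * b = x := exists_mul_of_coe (hQ.lattice hR).2.2.1 hx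

theorem Best.centralizer_inf [Finite S] [Finite V] (hQ : Best T S V Q) (hR : Best T S V R) :
    V ⊓ C(Q ⊓ R) = (V ⊓ C(Q)) ⊔ (V ⊓ C(R)) :=
  CDLattice.eq_sup_of_coe_eq_mul (hQ.lattice hR).2.2.2

theorem exists_best_top [Finite S] [Finite V] (h : T ≤ S) :
    ∃ R, Best T S V R ∧ ∀ Q, Best T S V Q → Q ≤ R := by
  obtain ⟨R₀, hR₀⟩ := exists_best h V
  obtain ⟨R, hR⟩ := ((finite_setOf_le S).subset
    fun R (hR : R ∈ {R | Best T S V R}) => hR.le).exists_maximal ⟨R₀, hR₀⟩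
  exact ⟨R, hR.prop, fun Q hQ => le_sup_right.trans (hR.le_of_ge (hR.prop.sup hQ) le_sup_left)⟩

/-- Timmesfeld replacement, one step. -/
theorem Best.replace [Finite S] [Finite V] (hS : Best T S V S) (hV : V ≤ C(V)) (hSV : S ≤ N(V))
    (hT : T ≤ C(V)) (hc : ⁅S, S⁆ ≤ C(V)) {v : H} (hv : v ∈ V) :
    ∃ A, Best T S V A ∧ V ⊓ C(A) ≤ ⁅V, S⁆ ⊔ (V ⊓ C(S)) ∧
      ∀ s ∈ S, A ≤ centralizer {v⁻¹ * (s * v * s⁻¹)} := by
  set f : H → H := fun s => v⁻¹ * (s * v * s⁻¹) with hf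
  have hfV : ∀ s ∈ S, f s ∈ V := fun s hs =>
    mul_mem (inv_mem hv) ((mem_normalizer_iff.1 (hSV hs) v).1 hv)
  set A := S ⊓ centralizer (f '' S) with hA
  have hTA : T ≤ A := le_inf hS.ge fun t ht => by
    rintro _ ⟨s, hs, rfl⟩; exact hT ht _ (hfV s hs)
  set X := (⁅V, S⁆ ⊔ (V ⊓ C(S))) ⊓ C(A) with hX
  have hXV : X ≤ V ⊓ C(A) := inf_le_inf_right _
    (sup_le (commutator_le_left_of_le_normalizer hSV) inf_le_left)
  haveI := finite_of_le (hXV.trans inf_le_left)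
  have hZX : V ⊓ C(S) ≤ X := le_inf le_sup_right (inf_le_right.trans (centralizer_anti inf_le_left))
  have h₁ : A.relIndex S ≤ (V ⊓ C(S)).relIndex X := by
    refine relIndex_le_of_map f (fun s hs => mem_inf.2 ⟨mem_sup_left ?_, fun a ha =>
      ((mem_inf.1 ha).2 _ ⟨s, hs, rfl⟩).symm⟩) fun s hs t ht h => mem_inf.2
        ⟨mul_mem (inv_mem hs) ht, ?_⟩
    · have := commutator_mem_commutator (inv_mem hv) hs
      simpa only [hf, commutatorElement_def, inv_inv, mul_assoc] using this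
    · rintro _ ⟨s', hs', rfl⟩
      set a := s⁻¹ * t with ha
      have haS : a ∈ S := mul_mem (inv_mem hs) ht
      have h₂ : f a ∈ C(S) := by
        have e : f a = s⁻¹ * ((f s)⁻¹ * f t) * s := by simp only [hf, ha]; group
        have := (mem_inf.1 h).2 s⁻¹ (inv_mem hs)
        rw [e, this, inv_mul_cancel_right]; exact (mem_inf.1 h).2
      have h₃ := hc (commutator_mem_commutator (inv_mem hs') (inv_mem haS)) v hv
      have h₄ := h₂ s'⁻¹ (inv_mem hs')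
      have h₅ := hV (hfV a haS) _ (hfV s' hs')
      rw [commutatorElement_def, inv_inv, inv_inv] at h₃
      have e₁ : a * f s' * a⁻¹ = (f a)⁻¹ * v⁻¹ * (a * s' * v * s'⁻¹ * a⁻¹) := by
        simp only [hf]; group
      have e₂ : a * s' * v * s'⁻¹ * a⁻¹ = s' * v * f a * s'⁻¹ := by
        calc _ = a * s' * (v * (s'⁻¹ * a⁻¹ * s' * a)) * a⁻¹ * s'⁻¹ := by group
          _ = s' * a * (a⁻¹ * s'⁻¹ * a * s') * (s'⁻¹ * a⁻¹ * s' * a) * v * a⁻¹ * s'⁻¹ := by
            rw [h₃]; group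
          _ = s' * (a * (⁅a⁻¹, s'⁻¹⁆ * ⁅s'⁻¹, a⁻¹⁆) * v * a⁻¹) * s'⁻¹ := by
            simp only [commutatorElement_def]; group
          _ = _ := by
            rw [← commutatorElement_inv a⁻¹, mul_inv_cancel]; simp only [hf]; group
      rw [e₂, mul_assoc (s' * v), ← h₄] at e₁
      have e₃ : a * f s' * a⁻¹ = f s' := by
        rw [e₁]
        calc _ = (f a)⁻¹ * (f s' * f a) := by simp only [hf]; group
          _ = _ := by rw [h₅, inv_mul_cancel_left]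
      exact (mul_inv_eq_iff_eq_mul.1 e₃).symm
  have h₂ : meas V S ≤ Nat.card A * Nat.card X := by
    rw [meas, ← card_mul_relIndex (inf_le_left : A ≤ S), ← card_mul_relIndex hZX, mul_assoc,
      mul_comm (A.relIndex S)]
    exact Nat.mul_le_mul_left _ (Nat.mul_le_mul_left _ h₁)
  haveI := finite_of_le (inf_le_left : V ⊓ C(A) ≤ V)
  have h₃ : Nat.card X ≤ Nat.card ↥(V ⊓ C(A)) := card_le_of_le hXV
  refine ⟨A, hS.of_le hTA inf_le_left (h₂.trans (Nat.mul_le_mul_left _ h₃)), ?_,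
    fun s hs => inf_le_right.trans (centralizer_le (Set.singleton_subset_iff.2 ⟨s, hs, rfl⟩))⟩
  have h₄ := (hS.max A hTA inf_le_left).trans h₂
  exact (eq_of_le_of_card_le hXV (Nat.le_of_mul_le_mul_left h₄
    (card_pos_of_le (inf_le_left : A ≤ S)))).ge.trans inf_le_left

/-- Timmesfeld replacement. -/
theorem Best.exists_quadratic [Finite S] [Finite V] (hS : Best T S V S) (hV : V ≤ C(V))
    (hSV : S ≤ N(V)) (hT : T ≤ C(V)) (hc : ⁅S, S⁆ ≤ C(V)) :
    ∃ A, Best T S V A ∧ V ⊓ C(A) ≤ ⁅V, S⁆ ⊔ (V ⊓ C(S)) ∧ A ≤ C(⁅V, S⁆) := by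
  obtain ⟨R, hR⟩ := ((finite_setOf_le S).subset fun R (hR : R ∈ {R | Best T S V R ∧
    V ⊓ C(R) ≤ ⁅V, S⁆ ⊔ (V ⊓ C(S))}) => hR.1.le).exists_minimal ⟨S, hS, le_sup_right⟩
  refine ⟨R, hR.prop.1, hR.prop.2, le_centralizer_iff.1 (commutator_le.2 fun v hv s hs r hr => ?_)⟩
  obtain ⟨A, h₁, h₂, h₃⟩ := hS.replace hV hSV hT hc (inv_mem hv)
  have := hR.le_of_le (y := R ⊓ A) ⟨hR.prop.1.inf h₁, by
    rw [hR.prop.1.centralizer_inf h₁]; exact sup_le hR.prop.2 h₂⟩ inf_le_left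
  have := mem_centralizer_singleton_iff.1 (h₃ s hs (mem_inf.1 (this hr)).2)
  simpa only [commutatorElement_def, inv_inv, mul_assoc] using this

end Best

section CD

/-- Members of the Chermak–Delgado lattice of `S`. -/
abbrev CD (S R : Subgroup H) : Prop := Best ⊥ S S R

variable {S T R Q A Y : Subgroup H}

theorem CD.of_le' (h : CD S R) (h₂ : Y ≤ S) (h₃ : meas S R ≤ meas S Y) : CD S Y :=
  Best.of_le h bot_le h₂ h₃

theorem CD.max' (h : CD S R) (h₂ : Y ≤ S) : meas S Y ≤ meas S R := h.max Y bot_le h₂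

theorem CD.conj' (h : CD S R) (g : H) : CD (S ^ᶜ g) (R ^ᶜ g) := by
  have := Best.conj h g
  rwa [conj_bot] at this

theorem CD.conj_mem (h : CD S R) {g : H} (hg : g ∈ N(S)) : CD S (R ^ᶜ g) := by
  have := h.conj' g
  rwa [conj_eq_of_mem_normalizer hg] at this

theorem le_cent_cent (h : R ≤ S) : R ≤ S ⊓ C(S ⊓ C(R)) :=
  le_inf h (le_centralizer_iff.1 inf_le_right)

theorem meas_le_cent [Finite S] (h : R ≤ S) : meas S R ≤ meas S (S ⊓ C(R)) := by
  haveI := finite_of_le (inf_le_left : S ⊓ C(S ⊓ C(R)) ≤ S)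
  rw [meas, meas, mul_comm]
  exact Nat.mul_le_mul_left _ (card_le_of_le (le_cent_cent h))

theorem CD.cent [Finite S] (h : CD S R) : CD S (S ⊓ C(R)) :=
  h.of_le' inf_le_left (meas_le_cent h.le)

theorem CD.cent_cent [Finite S] (h : CD S R) : S ⊓ C(S ⊓ C(R)) = R := by
  haveI := finite_of_le (inf_le_left : S ⊓ C(S ⊓ C(R)) ≤ S)
  have h₁ := h.max' (inf_le_left : S ⊓ C(R) ≤ S)
  rw [meas, meas, mul_comm] at h₁
  exact (eq_of_le_of_card_le (le_cent_cent h.le)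
    (Nat.le_of_mul_le_mul_right h₁ (card_pos_of_le (inf_le_left : S ⊓ C(R) ≤ S)))).symm

theorem CD.center_le [Finite S] (h : CD S R) : Z(S) ≤ R := by
  rw [← h.cent_cent]
  exact inf_le_inf_left _ (centralizer_anti inf_le_left)

theorem CD.le_of_cent_le [Finite S] (h : CD S R) (hQ : Q ≤ S) (hc : S ⊓ C(R) ≤ C(Q)) : Q ≤ R := by
  rw [← h.cent_cent]
  exact le_inf hQ (le_centralizer_iff.1 hc)

theorem meas_mono [Finite S] (h : T ≤ S) (R : Subgroup H) : meas T R ≤ meas S R :=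
  haveI := finite_of_le (inf_le_left : S ⊓ C(R) ≤ S)
  Nat.mul_le_mul_left _ (card_le_of_le (inf_le_inf_right _ h))

theorem meas_eq_of_le (h : T ≤ S) (h' : S ⊓ C(R) ≤ T) : meas T R = meas S R := by
  rw [meas, meas, le_antisymm (inf_le_inf_right _ h) (le_inf h' inf_le_right)]

theorem CD.restrict [Finite S] (h : CD S R) (hT : T ≤ S) (hR : R ≤ T) (hc : S ⊓ C(R) ≤ T) :
    CD T R :=
  ⟨bot_le, hR, fun Y _ hY => (meas_mono hT Y).trans
    ((h.max' (hY.trans hT)).trans (meas_eq_of_le hT hc).ge)⟩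

theorem CD.extend [Finite S] (h : CD T R) (hT : CD S T) (hc : S ⊓ C(T) ≤ T) : CD S R :=
  hT.of_le' (h.le.trans hT.le)
    ((meas_eq_of_le hT.le hc).ge.trans ((h.max' le_rfl).trans (meas_mono hT.le R)))

theorem CD.iSup [Finite S] {ι : Sort*} [Nonempty ι] {R : ι → Subgroup H} (h : ∀ i, CD S (R i)) :
    CD S (⨆ i, R i) := by
  obtain ⟨Y, hY⟩ := ((finite_setOf_le S).subset fun Y (hY : Y ∈ {Y | CD S Y ∧ Y ≤ ⨆ i, R i}) =>
    hY.1.le).exists_maximal ⟨R (Classical.arbitrary ι), h _, le_iSup R _⟩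
  have : Y = ⨆ i, R i := le_antisymm hY.prop.2 (iSup_le fun i => le_sup_right.trans
    (hY.le_of_ge ⟨hY.prop.1.sup (h i), sup_le hY.prop.2 (le_iSup R i)⟩ le_sup_left))
  exact this ▸ hY.prop.1

/-- The group `S` and its large abelian subgroups are all in the Chermak–Delgado lattice. -/
structure RP (S : Subgroup H) : Prop where
  top : CD S S
  ab : ∀ A, MaxAb 0 S A → CD S A

theorem RP.conj (h : RP S) (g : H) : RP (S ^ᶜ g) where
  top := h.top.conj' g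
  ab A hA := by
    have := hA.conj g⁻¹
    rw [conj_conj_inv] at this
    simpa only [conj_inv_conj] using (h.ab _ this).conj' g

end CD

end Cfsg.Agent.Lib.PushBase
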