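import Cfsg.Agent.Lib.PushOne

/-! The exceptional pushing up configuration (two noncentral chief factors, `p = 3`). -/

set_option autoImplicit false
open Cfsg

namespace Cfsg.Agent.Lib.PushBase

open Subgroup Cfsg.Agent.Lib.PCoreConj Cfsg.Agent.Lib.PCore Cfsg.Agent.Lib.PCoreResidual Cfsg.Agent.Lib.PCoreMod
open Cfsg.Agent.Lib.PReduced Cfsg.Agent.Lib.PIrred Cfsg.Agent.Lib.ThompsonJ
open scoped Pointwise commutatorElement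

universe u
variable {H : Type u} [Group H] {p : ℕ}

theorem exists_model {U W G : Subgroup H} (hU : G ≤ N(U)) (hW : G ≤ N(W)) (hUG : U ≤ G)
    (hc : ⁅U, U⁆ ≤ W) :
    ∃ (A : Type u) (_ : AddCommGroup A) (ψ : H → A) (act : H → A →+ A) (img : Subgroup H → AddSubgroup A),
      (∀ u ∈ U, ∀ v ∈ U, ψ (u * v) = ψ u + ψ v) ∧ (∀ u ∈ U, ψ u = 0 ↔ u ∈ W) ∧
      (∀ g ∈ G, ∀ u ∈ U, act g (ψ u) = ψ (g * u * g⁻¹)) ∧ (∀ g ∈ G, ∀ a, act g⁻¹ (act g a) = a) ∧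
      ∀ K, K ≤ U → ∀ a, a ∈ img K ↔ ∃ k ∈ K, ψ k = a := by
  classical
  haveI : (W.subgroupOf U).Normal := normal_subgroupOf_of_le (hUG.trans hW)
  let Q := U ⧸ W.subgroupOf U
  letI : CommGroup Q := { (inferInstance : Group Q) with
    mul_comm := fun a b => by
      obtain ⟨a, rfl⟩ := QuotientGroup.mk_surjective a
      obtain ⟨b, rfl⟩ := QuotientGroup.mk_surjective b
      refine QuotientGroup.eq.2 ?_
      have := hc (commutator_mem_commutator (inv_mem b.2) (inv_mem a.2))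
      simpa only [commutatorElement_def, inv_inv, mem_subgroupOf, Subgroup.coe_mul, Subgroup.coe_inv,
        mul_inv_rev, mul_assoc] using this }
  let ψ : H → Additive Q := fun u => if hu : u ∈ U then Additive.ofMul ((⟨u, hu⟩ : U) : Q) else 0
  have hψ : ∀ u (hu : u ∈ U), ψ u = Additive.ofMul ((⟨u, hu⟩ : U) : Q) := fun u hu => dif_pos hu
  let c : ∀ g ∈ G, Q →* Q := fun g hg => QuotientGroup.map _ _
    (normalizerMonoidHom U ⟨g, hU hg⟩).toMonoidHom fun x hx => conj_mem_of_norm (hW hg) hx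
  let act : H → Additive Q →+ Additive Q := fun g =>
    if hg : g ∈ G then MonoidHom.toAdditive (c g hg) else 0
  have hact : ∀ g ∈ G, ∀ u ∈ U, act g (ψ u) = ψ (g * u * g⁻¹) := fun g hg u hu => by
    rw [hψ u hu, hψ _ (conj_mem_of_norm (hU hg) hu)]
    simp only [act, dif_pos hg]
    rfl
  refine ⟨Additive Q, inferInstance, ψ, act, fun K => ((K.subgroupOf U).map
    (QuotientGroup.mk' _)).toAddSubgroup, fun u hu v hv => ?_, fun u hu => ?_, hact,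
    fun g hg a => ?_, fun K hK a => ⟨?_, ?_⟩⟩
  · rw [hψ u hu, hψ v hv, hψ _ (mul_mem hu hv)]; rfl
  · rw [hψ u hu]; exact QuotientGroup.eq_one_iff (N := W.subgroupOf U) _
  · obtain ⟨u, rfl⟩ := QuotientGroup.mk_surjective (s := W.subgroupOf U) a.toMul
    change act g⁻¹ (act g (Additive.ofMul (u : Q))) = Additive.ofMul (u : Q)
    rw [← hψ u u.2, hact g hg u u.2, hact _ (inv_mem hg) _ (conj_mem_of_norm (hU hg) u.2)]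
    congr 1; group
  · rintro ⟨k, hk, e⟩
    exact ⟨k, hk, (hψ k k.2).trans (congrArg Additive.ofMul e)⟩
  · rintro ⟨k, hk, rfl⟩
    exact ⟨⟨k, hK hk⟩, hk, (congrArg Additive.toMul (hψ k (hK hk))).symm⟩

theorem arith_three {A : Type*} [AddCommGroup A] (y b yi bi : A →+ A) (hy : ∀ v, yi (y v) = v)
    (hb : ∀ v, bi (b v) = v) {P P' : AddSubgroup A} (hd : ∀ v ∈ P, v ∈ P' → v = 0)
    (hP : ∀ v ∈ P, y v = v) (hP' : ∀ v ∈ P', b v = v) {x a s σ m τ n t : A}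
    (hx : x ∈ P') (hs : s ∈ P') (hm : m ∈ P') (hn : n ∈ P') (ht : t ∈ P') (ha : a ∈ P) (hσ : σ ∈ P)
    (hτ : τ ∈ P) (e₁ : y x = a + s + x) (e₂ : y s = σ + s) (e₃ : b a = m + τ + a)
    (e₄ : b σ = n + σ) (e₅ : b τ = t + τ) (r₁ : b (y (y x)) ∈ P) (r₂ : b (b (y x)) ∈ P)
    (r₃ : bi (bi (yi x)) ∈ P) (r₄ : b (y (y s)) ∈ P) : 3 • s = 0 := by
  have k : ∀ {w u v : A}, w ∈ P → u ∈ P → v ∈ P' → w = u + v → v = 0 := fun hw hu hv e =>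
    hd _ (by simpa only [e, add_sub_cancel_left] using sub_mem hw hu) hv
  have i₁ : yi x = x - a - s + σ := by
    rw [← hy (x - a - s + σ)]; simp only [map_add, map_sub, e₁, e₂, hP a ha, hP σ hσ]; congr 1; abel
  have j : ∀ v ∈ P', bi v = v := fun v hv => by conv_lhs => rw [← hP' v hv, hb]
  have i₂ : bi σ = σ - n := by
    rw [← hb (σ - n), map_sub b, e₄, hP' n hn, add_sub_cancel_left]
  have i₃ : bi τ = τ - t := by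
    rw [← hb (τ - t), map_sub b, e₅, hP' t ht, add_sub_cancel_left]
  have i₄ : bi a = a - m - τ + t := by
    rw [← hb (a - m - τ + t)]; simp only [map_add, map_sub, e₃, e₅, hP' m hm, hP' t ht]; congr 1; abel
  have k₁ := k (u := a + a + τ + τ + σ) (v := x + m + m + s + s + n) r₁
    (by repeat' apply add_mem <;> try assumption) (by repeat' apply add_mem <;> try assumption) (by
      simp only [map_add, e₁, e₂, e₃, e₄, hP a ha, hP' x hx, hP' s hs]; abel)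
  have k₂ := k (u := a + τ + τ) (v := x + s + m + m + t) r₂
    (by repeat' apply add_mem <;> try assumption) (by repeat' apply add_mem <;> try assumption) (by
      simp only [map_add, e₁, e₃, e₅, hP' x hx, hP' s hs, hP' m hm]; abel)
  have k₃ := k (u := τ + τ + σ - a) (v := x + m + m - (s + t + t + t + n + n)) r₃
    (sub_mem (by repeat' apply add_mem <;> try assumption) ha)
    (sub_mem (by repeat' apply add_mem <;> try assumption)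
      (by repeat' apply add_mem <;> try assumption)) (by
      simp only [map_add, map_sub, i₁, i₂, i₃, i₄, j x hx, j s hs, j m hm, j n hn, j t ht]; abel)
  have k₄ := k (u := σ + σ) (v := s + n + n) r₄
    (add_mem hσ hσ) (by repeat' apply add_mem <;> try assumption) (by
      simp only [map_add, e₂, e₄, hP σ hσ, hP' s hs]; abel)
  calc 3 • s = 4 • (x + m + m + s + s + n) - 3 • (x + s + m + m + t) -
      (x + m + m - (s + t + t + t + n + n)) - 3 • (s + n + n) := by abel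
    _ = 0 := by rw [k₁, k₂, k₃, k₄]; simp

/-- The exceptional configuration. -/
structure Two (p : ℕ) (G₁ G₂ S T₁ T₂ M₁ M₂ V₁ V₂ : Subgroup H) : Prop extends
    Pair p G₁ G₂ S T₁ T₂ M₁ M₂ V₁ V₂, Exc G₁ G₂ M₁ M₂ V₁ V₂ where
  c : V₁ ≤ C(V₂)
  r₁ : ⁅V₁, S⁆ ≤ Z(G₂)
  r₂ : ⁅V₂, S⁆ ≤ Z(G₁)

namespace Two
variable {G₁ G₂ S T₁ T₂ M₁ M₂ V₁ V₂ R : Subgroup H} {g x y a u : H}
  (h : Two p G₁ G₂ S T₁ T₂ M₁ M₂ V₁ V₂)
include h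

theorem swap : Two p G₂ G₁ S T₂ T₁ M₂ M₁ V₂ V₁ :=
  ⟨h.toPair.symm, ⟨sup_comm V₁ V₂ ▸ h.n₂, sup_comm V₁ V₂ ▸ h.n₁, h.c₂, h.c₁⟩,
    le_centralizer_iff.1 h.c, h.r₂, h.r₁⟩

theorem XT₁ : V₁ ⊔ V₂ ≤ T₁ := h.X_le_T h.c
theorem XT₂ : V₁ ⊔ V₂ ≤ T₂ := h.X_le_T' h.c
theorem XG : V₁ ⊔ V₂ ≤ G₁ := h.XT₁.trans h.k₁.T_le_G
theorem conj_XT (hg : g ∈ G₁) : (V₁ ⊔ V₂) ^ᶜ g ≤ T₁ :=
  (conj_mono g h.XT₁).trans (h.k₁.conj_T hg).le
theorem V_le_conj (hg : g ∈ G₁) : V₁ ≤ (V₁ ⊔ V₂) ^ᶜ g :=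
  (h.k₁.conj_V hg).ge.trans (conj_mono g le_sup_left)
theorem cdD : CD T₁ (T₁ ⊓ T₂) := haveI := h.k₁.finS
  h.k₁.cd_restrict ((h.k₁.cd_T h.rp.top).inf (h.k₂.cd_T h.rp.top))
    (le_inf h.k₁.V_le (le_sup_left.trans h.XT₂)) inf_le_left
theorem cdX : CD T₁ (V₁ ⊔ V₂) := haveI := h.k₁.finS
  h.k₁.cd_restrict ((h.k₁.cd_V h.rp.top).sup (h.k₂.cd_V h.rp.top)) le_sup_left h.XT₁
theorem Z_le : Z(G₁) ≤ V₂ := h.k₁.W_le.trans h.k₂.Y_le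
theorem Z_norm : G₁ ≤ N(Z(G₁)) := h.k₁.W_norm

theorem not_le_T₂ (hg : g ∈ G₁) (hgM : g ∉ M₁) : ¬ (V₁ ⊔ V₂) ^ᶜ g ≤ T₂ := fun e =>
  h.c₁ g hg hgM (h.k₂.V_le_C.trans (centralizer_anti ((conj_mono g le_sup_right).trans e)))

theorem sup_D (hR : CD T₁ R) (hRT : ¬ R ≤ T₂) : R ⊔ T₁ ⊓ T₂ = T₁ := by
  have := sup_inf_of_le_normalizer ((hR.le.trans h.k₁.T_le).trans (h.k₂.S_le.trans h.k₂.T_norm)) hR.le
  rw [h.k₂.sup_cd h.rp.top (h.k₁.cd_extend h.rp.top hR) hRT, inf_eq_right.2 h.k₁.T_le] at this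
  rw [inf_comm, ← this]

theorem inf_X (hR : CD T₁ R) (hX : ¬ V₁ ⊔ V₂ ≤ R) : R ⊓ (V₁ ⊔ V₂) = V₁ := by
  haveI := h.k₁.finT
  have h₁ : V₁ ≤ R := h.k₁.center_T h.rp.top ▸ hR.center_le
  rw [inf_comm, sup_inf_of_le_normalizer (le_normalizer_of_le_centralizer h.c) h₁, inf_comm,
    h.k₂.inf_cd h.rp.top (h.k₁.cd_extend h.rp.top hR) fun e => hX (sup_le h₁ e),
    sup_eq_left.2 h.k₁.Y_le]

theorem conj_inf_X (hg : g ∈ G₁) (hgM : g ∉ M₁) : (V₁ ⊔ V₂) ^ᶜ g ⊓ (V₁ ⊔ V₂) = V₁ :=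
  h.inf_X (h.cdX.conj_mem (h.k₁.T_norm hg)) fun e => h.not_le_T₂ hg hgM (by
    haveI := h.k₁.finT
    haveI := finite_of_le (h.conj_XT hg)
    exact (eq_of_le_of_card_le e (card_conj _ g).le).ge.trans h.XT₂)

theorem conj_inf_T₂ (hg : g ∈ G₁) (hgM : g ∉ M₁) : (V₁ ⊔ V₂) ^ᶜ g ⊓ T₂ ≤ V₁ := by
  have := h.inf_X (h.cdD.conj_mem (h.k₁.T_norm (inv_mem hg))) fun e =>
    h.not_le_T₂ hg hgM ((conj_le_iff_le_conj_inv.2 e).trans inf_le_right)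
  have := congrArg (· ^ᶜ g) this
  simp only [conj_inf, conj_inv_conj, h.k₁.conj_V hg] at this
  exact (le_inf (le_inf (inf_le_left.trans (h.conj_XT hg)) inf_le_right) inf_le_left).trans this.le

theorem comm_XS : ⁅V₁ ⊔ V₂, S⁆ ≤ Z(S) := by
  have hn : S ≤ N(Z(S)) := le_norm_center le_normalizer
  rw [commutator_comm]
  exact commutator_sup_le (h.k₁.V_le_S.trans hn) (h.k₂.V_le_S.trans hn)
    (commutator_comm V₁ S ▸ h.k₁.quad) (commutator_comm V₂ S ▸ h.k₂.quad)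

theorem comm_XT : ⁅V₁ ⊔ V₂, T₁⁆ ≤ Z(G₁) := by
  rw [commutator_comm]
  refine commutator_sup_le (h.k₁.V_le_G.trans h.Z_norm) ((le_sup_right.trans h.XG).trans h.Z_norm)
    ((commutator_eq_bot_iff_le_centralizer'.2 h.k₁.V_le_C).trans_le bot_le) ?_
  rw [commutator_comm]
  exact (commutator_mono le_rfl h.k₁.T_le).trans h.r₂

theorem U_le : nclIn (V₁ ⊔ V₂) G₁ ≤ T₁ := nclIn_le h.XT₁ h.k₁.T_norm
theorem U_le_G : nclIn (V₁ ⊔ V₂) G₁ ≤ G₁ := h.U_le.trans h.k₁.T_le_G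
theorem V_le_U : V₁ ≤ nclIn (V₁ ⊔ V₂) G₁ := le_sup_left.trans (le_nclIn _ _)

theorem comm_UT : ⁅nclIn (V₁ ⊔ V₂) G₁, T₁⁆ ≤ Z(G₁) := by
  rw [commutator_comm]
  exact commutator_nclIn_le h.Z_norm (h.XG.trans h.Z_norm) h.k₁.T_norm
    (commutator_comm _ T₁ ▸ h.comm_XT)

theorem exists_Y : ∃ Y, Y ≤ nclIn (V₂ ⊔ V₁) G₂ ∧ Y ⊔ T₁ = S ∧ ⁅T₂, Y⁆ ≤ ⁅V₁, S⁆ := by
  obtain ⟨g, hg, hgM⟩ := h.k₂.exists_G
  have h₁ : V₁ ^ᶜ g ≤ nclIn (V₂ ⊔ V₁) G₂ := (conj_mono g le_sup_right).trans (conj_le_nclIn _ hg)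
  refine ⟨V₁ ^ᶜ g, h₁, (h.k₁.conj g).crit_sup h.k₁ (h₁.trans (h.swap.U_le.trans h.k₂.T_le))
    ((le_sup_left.trans h.XT₂).trans (h.k₂.T_le_conj hg))
      fun e => h.c₂ g hg hgM (le_centralizer_iff.1 e), ?_⟩
  rw [← conj_eq_of_mem_centralizer (le_centralizer_iff.1 (h.r₁.trans inf_le_right) hg),
    conj_commutator, commutator_comm]
  exact commutator_mono le_rfl (h.k₂.T_le_conj hg)

theorem norm_E (hg : g ∈ G₁) : S ≤ N(T₁ ⊓ T₂ ⊓ (T₁ ⊓ T₂) ^ᶜ g) := by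
  obtain ⟨Y, -, h₂, h₃⟩ := h.exists_Y
  have hD : S ≤ N(T₁ ⊓ T₂) := le_normalizer_inf h.S_norm_T (h.k₂.S_le.trans h.k₂.T_norm)
  have hV : V₁ ≤ T₁ ⊓ T₂ := le_inf h.k₁.V_le (le_sup_left.trans h.XT₂)
  refine h₂.ge.trans (sup_le (le_normalizer_of_commutator_le (((commutator_mono
    (inf_le_left.trans inf_le_right) le_rfl).trans h₃).trans ((h.k₁.quad.trans h.k₁.Y_le).trans
      (le_inf hV ((h.k₁.conj_V hg).ge.trans (conj_mono g hV)))))) (le_normalizer_inf (h.k₁.T_le.trans hD) ?_))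
  exact (h.k₁.T_le_conj hg).trans (le_normalizer_conj hD g)

theorem U_eq (hg : g ∈ G₁) (hgM : g ∉ M₁) : V₁ ⊔ V₂ ⊔ (V₁ ⊔ V₂) ^ᶜ g = nclIn (V₁ ⊔ V₂) G₁ := by
  haveI := h.k₁.finT
  refine le_antisymm (sup_le (le_nclIn _ _) (conj_le_nclIn _ hg)) (nclIn_le le_sup_left ?_)
  have e : T₁ ⊓ C(T₁ ⊓ T₂) = V₁ ⊔ V₂ := le_antisymm ((inf_le_inf_right _ h.k₁.T_le).trans h.cent_D.le)
    (le_inf h.XT₁ (h.cent_D.ge.trans inf_le_right))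
  have e' : T₁ ⊓ C((T₁ ⊓ T₂) ^ᶜ g) = (V₁ ⊔ V₂) ^ᶜ g := by
    rw [← e, conj_inf T₁ (centralizer _), h.k₁.conj_T hg, conj_centralizer]
  rw [← e', ← e, ← h.cdD.centralizer_inf (h.cdD.conj_mem (h.k₁.T_norm hg))]
  refine le_normalizer_inf h.k₁.T_norm (le_normalizer_centralizer (h.k₁.gen₃ hg hgM (h.norm_E hg) ?_))
  have := le_normalizer_conj (h.norm_E (inv_mem hg)) g
  rwa [conj_inf, conj_inv_conj, inf_comm] at this

theorem exists_mul_U (hg : g ∈ G₁) (hgM : g ∉ M₁) (hx : x ∈ nclIn (V₁ ⊔ V₂) G₁) :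
    ∃ a ∈ V₁ ⊔ V₂, ∃ b ∈ (V₁ ⊔ V₂) ^ᶜ g, a * b = x :=
  (mem_sup_iff_of_le_normalizer' ((h.conj_XT hg).trans (h.k₁.T_le.trans h.S_norm_X))).1
    ((h.U_eq hg hgM).ge hx)

theorem U_inf : nclIn (V₁ ⊔ V₂) G₁ ⊓ T₂ ≤ V₁ ⊔ V₂ := fun x hx => by
  obtain ⟨g, hg, hgM⟩ := h.k₁.exists_G
  obtain ⟨a, ha, b, hb, rfl⟩ := h.exists_mul_U hg hgM hx.1
  refine mul_mem ha (mem_sup_left (h.conj_inf_T₂ hg hgM (mem_inf.2 ⟨hb, ?_⟩)))
  simpa only [inv_mul_cancel_left] using mul_mem (inv_mem (h.XT₂ ha)) (mem_inf.1 hx).2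

theorem comm_US : ⁅nclIn (V₁ ⊔ V₂) G₁, S⁆ ≤ V₁ ⊔ V₂ :=
  (le_inf (commutator_le_left_of_le_normalizer (h.k₁.S_le.trans (le_normalizer_nclIn _ _)))
    ((commutator_mono (h.U_le.trans h.k₁.T_le) le_rfl).trans h.k₂.comm)).trans h.U_inf

theorem comm_US' (hg : g ∈ G₁) : ⁅nclIn (V₁ ⊔ V₂) G₁, S ^ᶜ g⁆ ≤ (V₁ ⊔ V₂) ^ᶜ g := by
  have := conj_mono g h.comm_US
  rwa [conj_commutator, conj_eq_of_mem_normalizer (le_normalizer_nclIn _ _ hg)] at this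

theorem keyU (hx : x ∈ nclIn (V₁ ⊔ V₂) G₁) (ha : a ∈ S) (haT : a ∉ T₁) (hc : ⁅x, a⁆ ∈ V₁) :
    x ∈ V₁ ⊔ V₂ := by
  obtain ⟨g, hg, hgM⟩ := h.k₁.exists_G
  obtain ⟨u, hu, b, hb, rfl⟩ := h.exists_mul_U hg hgM hx
  have h₁ : ⁅b, a⁆ ∈ V₁ := by
    rw [comm_mul_left] at hc
    have := conj_mem_of_norm (h.k₁.V_norm (inv_mem (h.XG hu)))
      (mul_mem hc (inv_mem (h.k₁.Y_le (h.comm_XS (commutator_mem_commutator hu ha)))))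
    simpa only [mul_assoc, mul_inv_cancel, mul_one, inv_inv, inv_mul_cancel_left, inv_mul_cancel]
      using this
  have h₂ := (mem_stab.1 (h.k₁.gen (K := stab V₁ b) hg hgM ha haT (fun s hs => mem_stab.2
    ⟨h.k₁.V_norm (h.k₁.conj_S_le hg hs), (h.k₁.conj_mem hg).Y_le (by
      rw [← conj_center]
      exact conj_mono g h.comm_XS ((conj_commutator _ _ g).ge (commutator_mem_commutator hb hs)))⟩)
      (mem_stab.2 ⟨h.k₁.V_norm (h.k₁.S_le ha), h₁⟩) (inv_mem hg))).2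
  have h₃ : g⁻¹ * b * g⁻¹⁻¹ ∈ V₁ := (h.conj_inf_X hg hgM).le (mem_inf.2 ⟨by
    rw [conj_eq_comm]; exact mul_mem (inv_mem (h.V_le_conj hg h₂)) hb, by
      rw [inv_inv]; exact mem_conj_iff.1 hb⟩)
  rw [conj_eq_comm] at h₃
  refine mul_mem hu (mem_sup_left ?_)
  simpa only [mul_inv_cancel_left] using mul_mem h₂ h₃

theorem not_mem_V₂ (hx : x ∈ nclIn (V₁ ⊔ V₂) G₁) (hxX : x ∉ V₁ ⊔ V₂) (hy : y ∈ S) (hyT : y ∉ T₁) :
    ⁅x, y⁆ ∉ V₂ := fun e => by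
  obtain ⟨Y, h₁, h₂, -⟩ := h.exists_Y
  have hYS : Y ≤ S := h₂ ▸ le_sup_left
  obtain ⟨a, ha, t, ht, rfl⟩ := (mem_sup_iff_of_le_normalizer (hYS.trans h.S_norm_T)).1 (h₂.ge hy)
  have h₃ := h.comm_UT (commutator_mem_commutator hx ht)
  rw [comm_mul_right, conj_eq_of_cent' h₃.2 (h.k₁.S_le (hYS ha))] at e
  have h₄ : ⁅x, a⁆ ∈ V₂ := by simpa only [mul_inv_cancel_right] using mul_mem e (inv_mem (h.Z_le h₃))
  exact hyT (mul_mem (h.swap.XT₂ (h.swap.keyU (h₁ ha) (h.k₁.T_le (h.U_le hx))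
    (fun k => hxX (h.U_inf ⟨hx, k⟩)) (comm_mem_swap h₄))) ht)

theorem mem_V₂ (hu : u ∈ V₁ ⊔ V₂) (hy : y ∈ S) (hyT : y ∉ T₁) (hc : ⁅u, y⁆ ∈ Z(G₁)) : u ∈ V₂ := by
  obtain ⟨a, ha, b, hb, rfl⟩ := h.exists_mul h.c hu
  have h₁ := h.r₂ (commutator_mem_commutator hb hy)
  rw [comm_mul_left, conj_eq_of_cent' h₁.2 (h.k₁.V_le_G ha)] at hc
  refine mul_mem (h.k₂.Y_le (h.k₁.key ha hy hyT ?_)) hb
  simpa only [inv_mul_cancel_left] using mul_mem (inv_mem h₁) hc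

theorem cubic (hx : x ∈ nclIn (V₁ ⊔ V₂) G₁) (hxX : x ∉ V₁ ⊔ V₂) (hy : y ∈ S) (hyT : y ∉ T₁)
    (ha : a ∈ S) (haT : a ∉ T₁) : ⁅⁅x, y⁆, a⁆ ∉ Z(G₁) := fun e =>
  h.not_mem_V₂ hx hxX hy hyT (h.mem_V₂ (h.comm_US (commutator_mem_commutator hx hy)) ha haT e)

theorem exists_U : ∃ x ∈ nclIn (V₁ ⊔ V₂) G₁, x ∉ V₁ ⊔ V₂ := SetLike.not_le_iff_exists.1 fun e =>
  h.n₁ (le_antisymm e (le_nclIn _ _) ▸ le_normalizer_nclIn _ _)

theorem comm_iffU (hx : x ∈ nclIn (V₁ ⊔ V₂) G₁) (hxX : x ∉ V₁ ⊔ V₂) (hy : y ∈ S) (ha : a ∈ S) :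
    ⁅x, y⁆⁻¹ * ⁅x, a⁆ ∈ V₁ ↔ y⁻¹ * a ∈ T₁ := by
  have e : ⁅x, y⁆⁻¹ * ⁅x, a⁆ = y * ⁅x, y⁻¹ * a⁆ * y⁻¹ := by simp only [commutatorElement_def]; group
  rw [e, ← mem_normalizer_iff.1 (h.k₁.V_norm (h.k₁.S_le hy))]
  exact ⟨fun k => by_contra fun k' => hxX (h.keyU hx (mul_mem (inv_mem hy) ha) k' k),
    fun k => h.k₁.W_le_V (h.comm_UT (commutator_mem_commutator hx k))⟩

theorem idx_X : V₁.relIndex (V₁ ⊔ V₂) = T₂.relIndex S := by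
  rw [sup_comm, relIndex_sup_of_le_normalizer (le_normalizer_of_le_centralizer h.swap.c),
    ← inf_relIndex_right, h.k₂.inf_cd h.rp.top (h.k₁.cd_V h.rp.top) fun e => h.n₁
      ((sup_eq_left.2 e).symm ▸ h.k₁.V_norm), h.k₂.idx_eq]

theorem idx_le : T₁.relIndex S ≤ T₂.relIndex S := by
  haveI := h.k₁.finS
  haveI := finite_of_le h.X_le
  obtain ⟨x, hx, hxX⟩ := h.exists_U
  exact (relIndex_le_of_map (fun s => ⁅x, s⁆) (fun s hs => h.comm_US (commutator_mem_commutator hx hs))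
    fun s hs t ht => (h.comm_iffU hx hxX hs ht).1).trans h.idx_X.le

theorem idx_eq : V₁.relIndex (V₁ ⊔ V₂) = T₁.relIndex S :=
  h.idx_X.trans (le_antisymm h.swap.idx_le h.idx_le)

theorem surjU (hx : x ∈ nclIn (V₁ ⊔ V₂) G₁) (hxX : x ∉ V₁ ⊔ V₂) (hu : u ∈ V₁ ⊔ V₂) :
    ∃ s ∈ S, ⁅x, s⁆⁻¹ * u ∈ V₁ :=
  haveI := h.k₁.finS
  haveI := finite_of_le h.X_le
  exists_of_relIndex_le (fun s => ⁅x, s⁆) (fun _ hs => h.comm_US (commutator_mem_commutator hx hs))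
    (fun _ hs _ ht => h.comm_iffU hx hxX hs ht) h.idx_eq.le hu

theorem M_norm_X : M₁ ≤ N(V₁ ⊔ V₂) := fun m hm => by
  haveI := h.k₁.finS
  haveI := finite_of_le h.X_le
  refine mem_normalizer_of_conj_le fun v hv => by_contra fun hvY => ?_
  obtain ⟨g, hg, hgM⟩ := h.k₁.exists_G
  have hmG := h.k₁.M_le hm
  obtain ⟨y, hy, u, hu, e⟩ := h.exists_mul_U hg hgM (conj_le_nclIn _ hmG hv)
  obtain ⟨s, hs, hw⟩ := h.surjU (conj_le_nclIn _ hg hu) (fun hu => hvY (e ▸ mul_mem hy hu))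
    (inv_mem hy)
  have hsg : m⁻¹ * (s * g) ∉ M₁ := fun k => hgM (by
    simpa only [mul_inv_cancel_left, inv_mul_cancel_left] using
      mul_mem (inv_mem (h.k₁.S_le_M hs)) (mul_mem hm k))
  have hsG := mul_mem (h.k₁.S_le hs) hg
  have h₁ : v ∈ (V₁ ⊔ V₂) ^ᶜ (s * g) := by
    have e₁ : v = (⁅u, s⁆⁻¹ * y⁻¹)⁻¹ * (s * u * s⁻¹) := by
      rw [← e]; simp only [commutatorElement_def]; group
    rw [e₁]
    exact mul_mem (inv_mem (h.V_le_conj hsG hw)) (conj_conj _ g s ▸ conj_mem_conj s hu)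
  have h₂ : v ∈ ((V₁ ⊔ V₂) ^ᶜ (m⁻¹ * (s * g)) ⊓ (V₁ ⊔ V₂)) ^ᶜ m := by
    rw [conj_inf, conj_conj, mul_inv_cancel_left]; exact ⟨h₁, hv⟩
  rw [h.conj_inf_X (mul_mem (inv_mem hmG) hsG) hsg, h.k₁.conj_V hmG] at h₂
  exact hvY (mem_sup_left h₂)

theorem pow_X (hu : u ∈ V₁ ⊔ V₂) : u ^ p ∈ Z(G₁) := by
  obtain ⟨a, ha, b, hb, rfl⟩ := h.exists_mul h.c hu
  obtain ⟨w, hw, e⟩ := h.k₂.exists_pow_eq' hb
  rw [Commute.mul_pow (h.c ha b hb).symm, e]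
  exact mul_mem (h.k₁.pow_mem_W ha) (h.k₁.pow_mem_W (h.k₁.Y_le (h.k₂.W_le hw)))

theorem pow_U (hu : u ∈ nclIn (V₁ ⊔ V₂) G₁) : u ^ p ∈ Z(G₁) := by
  obtain ⟨g, hg, hgM⟩ := h.k₁.exists_G
  obtain ⟨a, ha, b, hb, rfl⟩ := h.exists_mul_U hg hgM hu
  have hc := h.comm_UT (commutator_mem_commutator (conj_le_nclIn _ hg hb) (h.XT₁ ha))
  rw [mul_pow_of_commutator_comm (hc.2 _ (h.XG ha)) (hc.2 _ (h.k₁.T_le_G (h.conj_XT hg hb)))]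
  refine mul_mem (mul_mem (pow_mem hc _) (h.pow_X ha)) ?_
  obtain ⟨b, hb', rfl⟩ := mem_conj_iff'.1 hb
  rw [conj_pow]
  exact conj_mem_of_norm (h.Z_norm hg) (h.pow_X hb')

theorem ne_two : p ≠ 2 := by
  rintro rfl
  obtain ⟨x, hx, hxX⟩ := h.exists_U
  obtain ⟨y, hy, hyT⟩ := h.k₁.exists_S
  have h₁ := h.comm_UT (commutator_mem_commutator hx (h.k₁.pow y hy))
  have hu := h.comm_US (commutator_mem_commutator hx hy)
  have h₂ := h.pow_X hu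
  have h₃ := h.comm_XS (commutator_mem_commutator hu hy)
  rw [sq] at h₁ h₂
  rw [comm_mul_right, conj_eq_comm, ← (inv_mem h₃).2 _ (h.X_le hu), ← mul_assoc] at h₁
  refine h.cubic hx hxX hy hyT hy hyT ?_
  simpa only [inv_mem_iff, inv_mul_cancel_left] using mul_mem (inv_mem h₂) h₁

variable [hp : Fact p.Prime]

theorem comm_TE : ⁅T₁, pResidualOf p G₁⁆ ≤ nclIn (V₁ ⊔ V₂) G₁ := by
  obtain ⟨Y, -, h₂, h₃⟩ := h.exists_Y
  obtain ⟨g, hg, hgM⟩ := h.k₁.exists_G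
  have hYS : Y ≤ S := h₂ ▸ le_sup_left
  have hn := le_normalizer_nclIn (V₁ ⊔ V₂) G₁
  refine (commutator_mono le_rfl (h.k₁.res_le hYS fun e => h.k₁.not_le
    (h₂.ge.trans (sup_le e le_rfl)))).trans (commutator_nclIn_le hn (hYS.trans (h.k₁.S_le.trans hn))
      h.k₁.T_norm ?_)
  rw [commutator_comm]
  refine (commutator_mono le_rfl (h.sup_D (h.cdX.conj_mem (h.k₁.T_norm hg))
    (h.not_le_T₂ hg hgM)).ge).trans (commutator_sup_le ((h.conj_XT hg).trans (h.k₁.T_le_G.trans hn))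
      (inf_le_left.trans (h.k₁.T_le_G.trans hn)) ((commutator_mono le_rfl (conj_le_nclIn _ hg)).trans
        (commutator_le_right_of_le_normalizer (hYS.trans (h.k₁.S_le.trans hn)))) ?_)
  rw [commutator_comm]
  exact ((commutator_mono inf_le_right le_rfl).trans h₃).trans
    ((h.k₁.quad.trans h.k₁.Y_le).trans h.V_le_U)

theorem isPGroup_of {K : Subgroup H} (hK : K ≤ G₁) (h₁ : ⁅nclIn (V₁ ⊔ V₂) G₁, K⁆ ≤ V₁ ⊔ V₂)
    (h₂ : ⁅V₁ ⊔ V₂, K⁆ ≤ V₁) (h₃ : ⁅V₁, K⁆ ≤ Z(S)) (h₄ : ⁅Z(S), K⁆ ≤ Z(G₁)) : IsPGroup p K := by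
  haveI := h.k₁.finT
  have hl := pResidualOf_le p K
  have hn := (hl.trans hK).trans h.k₁.T_norm
  exact h.k₁.pu.isPGroup_of hK (comm_res_trans h.k₁.pT hn (comm_res_trans h.k₁.pT hn
    (comm_res_trans h.k₁.pT hn (comm_res_trans h.k₁.pT hn ((commutator_mono le_rfl
      (pResidualOf_mono hK)).trans h.comm_TE) ((commutator_mono le_rfl hl).trans h₁))
        ((commutator_mono le_rfl hl).trans h₂)) ((commutator_mono le_rfl hl).trans h₃))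
          ((commutator_mono le_rfl hl).trans h₄))

theorem M_norm_S : M₁ ≤ N(S) := by
  have hS := h.k₁.S_le
  have hM := h.k₁.M_le
  have hle : S ≤ G₁ ⊓ rel (V₁ ⊔ V₂) (nclIn (V₁ ⊔ V₂) G₁) ⊓ rel V₁ (V₁ ⊔ V₂) ⊓ rel Z(S) V₁ ⊓
      rel Z(G₁) Z(S) := le_inf (le_inf (le_inf (le_inf hS (le_rel_iff.2 ⟨h.S_norm_X, h.comm_US⟩))
    (le_rel_iff.2 ⟨hS.trans h.k₁.V_norm, h.comm_XS.trans h.k₁.Y_le⟩))
    (le_rel_iff.2 ⟨le_norm_center le_normalizer, h.k₁.quad⟩)) (le_rel_iff.2 ⟨hS.trans h.Z_norm,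
      (commutator_eq_bot_iff_le_centralizer'.2 h.k₁.Y_cent).trans_le bot_le⟩)
  have hG : G₁ ⊓ rel (V₁ ⊔ V₂) (nclIn (V₁ ⊔ V₂) G₁) ⊓ rel V₁ (V₁ ⊔ V₂) ⊓ rel Z(S) V₁ ⊓
      rel Z(G₁) Z(S) ≤ G₁ := inf_le_left.trans (inf_le_left.trans (inf_le_left.trans inf_le_left))
  rw [← h.k₁.syl.eq_of_le hG (h.isPGroup_of hG
    (comm_le_of_le_rel (inf_le_left.trans (inf_le_left.trans (inf_le_left.trans inf_le_right))))
    (comm_le_of_le_rel (inf_le_left.trans (inf_le_left.trans inf_le_right)))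
    (comm_le_of_le_rel (inf_le_left.trans inf_le_right)) (comm_le_of_le_rel inf_le_right)) hle]
  exact le_normalizer_inf (le_normalizer_inf (le_normalizer_inf (le_normalizer_inf
    (le_normalizer_of_le hM) (le_norm_rel h.M_norm_X (hM.trans (le_normalizer_nclIn _ _))))
    (le_norm_rel (hM.trans h.k₁.V_norm) h.M_norm_X)) (le_norm_rel h.k₁.M_norm (hM.trans h.k₁.V_norm)))
    (le_norm_rel (hM.trans h.Z_norm) h.k₁.M_norm)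

theorem M_norm_V₂ : M₁ ≤ N(V₂) := by
  have e : V₂ = (V₁ ⊔ V₂) ⊓ rel Z(G₁) S := le_antisymm (le_inf le_sup_right (le_rel_iff.2
    ⟨(le_sup_right.trans h.XG).trans h.Z_norm, commutator_comm V₂ S ▸ h.r₂⟩)) fun u hu =>
      let ⟨y, hy, hyT⟩ := h.k₁.exists_S
      h.mem_V₂ hu.1 hy hyT (comm_mem_swap ((mem_rel.1 hu.2).2 y hy))
  rw [e]
  exact le_normalizer_inf h.M_norm_X (le_norm_rel (h.k₁.M_le.trans h.Z_norm) h.M_norm_S)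

theorem eq_three : p = 3 := by
  obtain ⟨g, hg, hgM⟩ := h.k₁.exists_G
  obtain ⟨y, hy, hyT⟩ := h.k₁.exists_S
  have k' := h.k₁.conj_mem hg
  have hy2 : y * y ∉ T₁ := fun e => hyT (by
    obtain ⟨m, hm⟩ := hp.out.odd_of_ne_two h.ne_two
    have := h.k₁.pow y hy
    rw [hm, pow_succ, pow_mul, sq] at this
    simpa only [inv_mul_cancel_left] using mul_mem (inv_mem (pow_mem e m)) this)
  obtain ⟨b, hb, r₁⟩ := h.k₁.exists_swap hg hgM (mul_mem hy hy) hy2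
  have r := (h.k₁.swap_iff hg hgM hb (mul_mem hy hy)).1 r₁
  have r' : ∀ u ∈ Z(S) ^ᶜ g, ⁅⁅u, y⁆, b * b⁆ * u ∈ Z(G₁) := fun u hu => by
    have huV := h.k₁.conj_Y_le hg hu
    have hz := h.k₁.comm_mem_V huV (h.k₁.S_le hy)
    rw [k'.comm_mul hz hb hb, ← k'.mul_comm' hz hz (k'.S_le hb), ← h.k₁.comm_mul huV hy hy]
    exact r u hu
  have r₂ := (h.k₁.swap_iff hg hgM (mul_mem hb hb) hy).2 r'
  have r₃ := (h.k₁.swap_iff hg hgM (inv_mem (mul_mem hb hb)) (inv_mem hy)).2 fun u hu => by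
    have huV := h.k₁.conj_Y_le hg hu
    have hz := h.k₁.comm_mem_V huV (h.k₁.S_le hy)
    rw [h.k₁.comm_inv huV hy, k'.comm_inv (inv_mem hz) (mul_mem hb hb),
      k'.inv_comm hz (k'.S_le (mul_mem hb hb)), inv_inv]
    exact r' u hu
  have hU := le_normalizer_nclIn (V₁ ⊔ V₂) G₁
  obtain ⟨A, _, ψ, act, img, ψm, ψ0, ψa, ψi, ψs⟩ := exists_model hU h.Z_norm h.U_le_G
    ((commutator_mono le_rfl h.U_le).trans h.comm_UT)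
  have hV₂ : V₂ ≤ nclIn (V₁ ⊔ V₂) G₁ := le_sup_right.trans (le_nclIn _ _)
  have hV₂' : V₂ ^ᶜ g ≤ nclIn (V₁ ⊔ V₂) G₁ := (conj_mono g le_sup_right).trans (conj_le_nclIn _ hg)
  have hyG := h.k₁.S_le hy
  have hbG := k'.S_le hb
  have hZ' : Z(S ^ᶜ g) ≤ V₂ ^ᶜ g := conj_center S g ▸ conj_mono g h.k₂.Y_le
  have sw : ∀ c ∈ G₁, c * g ∈ M₁ → ∀ v ∈ V₂ ^ᶜ g, ψ (c * v * c⁻¹) ∈ img V₂ := fun c hc e v hv =>
    (ψs _ hV₂ _).2 ⟨_, by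
      have := conj_mem_conj c hv
      rwa [conj_conj, conj_eq_of_mem_normalizer (h.M_norm_V₂ e)] at this, rfl⟩
  have ac : ∀ c ∈ G₁, ∀ v ∈ nclIn (V₁ ⊔ V₂) G₁, act c (ψ v) = ψ ⁅v, c⁆⁻¹ + ψ v := fun c hc v hv => by
    rw [ψa c hc v hv, conj_eq_comm, ψm _ (inv_mem (comm_mem_of_norm (hU hc) hv)) _ hv]
  have ac₂ : ∀ c ∈ G₁, ∀ d ∈ G₁, ∀ v ∈ nclIn (V₁ ⊔ V₂) G₁,
      act c (ψ (d * v * d⁻¹)) = ψ (c * d * v * (c * d)⁻¹) := fun c hc d hd v hv => by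
    rw [ψa c hc _ (conj_mem_of_norm (hU hd) hv)]; congr 1; group
  obtain ⟨x, hx, hxX⟩ : ∃ x ∈ V₂ ^ᶜ g, x ∉ V₁ ⊔ V₂ := SetLike.not_le_iff_exists.1 fun e =>
    h.not_le_T₂ hg hgM (by
      rw [conj_sup, h.k₁.conj_V hg]; exact (sup_le le_sup_left e).trans h.XT₂)
  have hX : V₁ ⊔ V₂ ≤ V₂ ⊔ Z(S) ^ᶜ g := sup_le ((h.k₁.sup_conj hg hgM).ge.trans
    (sup_le_sup_right h.k₂.Y_le _)) le_sup_left
  obtain ⟨a, ha, s, hs, e₁⟩ := (mem_sup_iff_of_le_normalizer' ((h.k₁.conj_Y_le hg).trans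
    (h.k₁.V_le_S.trans (h.k₂.S_le.trans h.k₂.V_norm)))).1
      (hX (inv_mem (h.comm_US (commutator_mem_commutator (hV₂' hx) hy))))
  have hX' : (V₁ ⊔ V₂) ^ᶜ g ≤ V₂ ^ᶜ g ⊔ Z(S) := by
    rw [conj_sup, h.k₁.conj_V hg]
    exact sup_le ((h.k₁.sup_conj hg hgM).ge.trans (sup_le le_sup_right
      ((conj_mono g h.k₂.Y_le).trans le_sup_left))) le_sup_left
  obtain ⟨m, hm, τ, hτ, e₃⟩ := (mem_sup_iff_of_le_normalizer' (le_normalizer_of_le_centralizer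
    (inf_le_right.trans (centralizer_anti (hV₂'.trans (h.U_le.trans h.k₁.T_le)))))).1
      (hX' (inv_mem (h.comm_US' hg (commutator_mem_commutator (hV₂ ha) hb))))
  have hsV := h.k₁.conj_Y_le hg hs
  have hs' := conj_mono g h.k₂.Y_le hs
  have hσ := inv_mem (h.k₁.comm_mem hsV hy)
  have hn := inv_mem (k'.comm_mem (h.k₁.Y_le hσ) hb)
  have ht := inv_mem (k'.comm_mem (h.k₁.Y_le hτ) hb)
  have mP : ∀ v ∈ V₂, ψ v ∈ img V₂ := fun v hv => (ψs _ hV₂ _).2 ⟨v, hv, rfl⟩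
  have mP' : ∀ v ∈ V₂ ^ᶜ g, ψ v ∈ img (V₂ ^ᶜ g) := fun v hv => (ψs _ hV₂' _).2 ⟨v, hv, rfl⟩
  have key := arith_three (act y) (act b) (act y⁻¹) (act b⁻¹) (ψi y hyG) (ψi b hbG)
    (P := img V₂) (P' := img (V₂ ^ᶜ g)) (fun v h₁ h₂ => ?_) (fun v hv' => ?_) (fun v hv' => ?_)
    (mP' x hx) (mP' s hs') (mP' m hm) (mP' _ (hZ' hn)) (mP' _ (hZ' ht)) (mP a ha)
    (mP _ (h.k₂.Y_le hσ)) (mP τ (h.k₂.Y_le hτ))
    (by rw [ac y hyG x (hV₂' hx), ← e₁, ψm a (hV₂ ha) s (hV₂' hs')])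
    (ac y hyG s (hV₂' hs'))
    (by rw [ac b hbG a (hV₂ ha), ← e₃, ψm m (hV₂' hm) τ (hV₂ (h.k₂.Y_le hτ))])
    (ac b hbG _ (hV₂ (h.k₂.Y_le hσ))) (ac b hbG τ (hV₂ (h.k₂.Y_le hτ)))
    (by rw [ψa y hyG x (hV₂' hx), ac₂ y hyG y hyG x (hV₂' hx),
      ac₂ b hbG _ (mul_mem hyG hyG) x (hV₂' hx)]
        exact sw _ (mul_mem hbG (mul_mem hyG hyG)) r₁ x hx)
    (by rw [ψa y hyG x (hV₂' hx), ac₂ b hbG y hyG x (hV₂' hx),
      ac₂ b hbG _ (mul_mem hbG hyG) x (hV₂' hx), ← mul_assoc b b y]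
        exact sw _ (mul_mem (mul_mem hbG hbG) hyG) r₂ x hx)
    (by rw [ψa _ (inv_mem hyG) x (hV₂' hx), ac₂ _ (inv_mem hbG) _ (inv_mem hyG) x (hV₂' hx),
      ac₂ _ (inv_mem hbG) _ (mul_mem (inv_mem hbG) (inv_mem hyG)) x (hV₂' hx), ← mul_assoc b⁻¹ b⁻¹,
      ← mul_inv_rev]
        exact sw _ (mul_mem (inv_mem (mul_mem hbG hbG)) (inv_mem hyG)) r₃ x hx)
    (by rw [ψa y hyG s (hV₂' hs'), ac₂ y hyG y hyG s (hV₂' hs'),
      ac₂ b hbG _ (mul_mem hyG hyG) s (hV₂' hs')]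
        exact sw _ (mul_mem hbG (mul_mem hyG hyG)) r₁ s hs')
  · have hsU := hV₂' hs'
    have h₃ : s ^ 3 ∈ Z(G₁) := by
      rw [← ψ0 _ (pow_mem hsU 3), pow_succ, sq, ψm _ (mul_mem hsU hsU) s hsU, ψm s hsU s hsU, ← key]
      abel
    by_contra hp3
    obtain ⟨k, hk⟩ := isPGroup_iff_forall_orderOf.1 h.k₁.pV s hsV
    have h₄ := mem_of_pow_mem_of_coprime (hk ▸ ((Nat.coprime_primes hp.out Nat.prime_three).2
      hp3).pow_left k) h₃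
    exact h.not_mem_V₂ (hV₂' hx) hxX hy hyT (inv_mem_iff.1 (e₁ ▸ mul_mem ha (h.Z_le h₄)))
  · obtain ⟨v₁, hv₁, rfl⟩ := (ψs _ hV₂ _).1 h₁
    obtain ⟨v₂, hv₂, e⟩ := (ψs _ hV₂' _).1 h₂
    have h₃ : v₂⁻¹ * v₁ ∈ Z(G₁) := by
      rw [← ψ0 _ (mul_mem (inv_mem (hV₂' hv₂)) (hV₂ hv₁)), ψm _ (inv_mem (hV₂' hv₂)) _ (hV₂ hv₁), ← e,
        ← ψm _ (inv_mem (hV₂' hv₂)) _ (hV₂' hv₂), inv_mul_cancel, ψ0 _ (one_mem _)]
      exact one_mem _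
    have h₄ : v₁ ∈ V₂ ^ᶜ g := by
      simpa only [mul_inv_cancel_left] using mul_mem hv₂ (hZ' (k'.W_le h₃))
    have h₅ : v₁ ∈ V₁ := (h.conj_inf_X hg hgM).le ⟨conj_mono g le_sup_right h₄, mem_sup_right hv₁⟩
    have h₆ : V₁ ⊓ V₂ ≤ Z(S) := (h.k₂.inf_cd h.rp.top (h.k₁.cd_V h.rp.top) fun e => h.n₁
      ((sup_eq_left.2 e).symm ▸ h.k₁.V_norm)).le
    refine (ψ0 _ (hV₂ hv₁)).2 ((h.k₁.inf_conj hg hgM).le ⟨h₆ ⟨h₅, hv₁⟩, conj_mono g h₆ ?_⟩)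
    rw [conj_inf, h.k₁.conj_V hg]
    exact ⟨h₅, h₄⟩
  · obtain ⟨v, hv, rfl⟩ := (ψs _ hV₂ _).1 hv'
    have h₁ := inv_mem (h.r₂ (commutator_mem_commutator hv hy))
    rw [ac y hyG v (hV₂ hv), (ψ0 _ (hV₂ (h.Z_le h₁))).2 h₁, zero_add]
  · obtain ⟨v, hv, rfl⟩ := (ψs _ hV₂' _).1 hv'
    have h₁ : ⁅v, b⁆⁻¹ ∈ Z(G₁) := inv_mem ((h.k₁.conj_W hg).le (conj_mono g h.r₂
      ((conj_commutator V₂ S g).ge (commutator_mem_commutator hv hb))))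
    rw [ac b hbG v (hV₂' hv), (ψ0 _ (hV₂ (h.Z_le h₁))).2 h₁, zero_add]

theorem Phi_le : Phi T₁ ≤ T₁ ⊓ C(pResidualOf p G₁) :=
  le_inf (PushBase.Phi_le T₁) (h.k₁.toRO.Phi_le h.U_le_G h.comm_TE h.comm_UT fun _ => h.pow_U)

theorem comm_Phi : ⁅⁅Phi S, S⁆, S⁆ ≤ T₁ ⊓ C(pResidualOf p G₁) := by
  haveI := h.k₁.finS
  haveI := h.k₁.finT
  have hC : S ≤ N(T₁ ⊓ C(pResidualOf p G₁)) := h.k₁.S_le.trans
    (le_normalizer_inf h.k₁.T_norm (le_normalizer_centralizer (le_normalizer_pResidualOf p G₁)))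
  have hn : S ≤ N(Z(S) ⊔ T₁ ⊓ C(pResidualOf p G₁)) :=
    le_normalizer_sup (le_norm_center le_normalizer) hC
  obtain ⟨Y, -, h₂, h₃⟩ := h.exists_Y
  have h₄ : ⁅Phi S, S⁆ ≤ Z(S) ⊔ T₁ ⊓ C(pResidualOf p G₁) :=
    (commutator_mono le_rfl h₂.ge).trans (commutator_sup_le ((h₂ ▸ le_sup_left : Y ≤ S).trans hn)
      (h.k₁.T_le.trans hn) (((commutator_mono (Phi_le_of h.k₂.comm h.k₂.pow) le_rfl).trans h₃).trans
        (h.k₁.quad.trans le_sup_left)) ((commutator_mono (Phi_le_of h.k₁.comm h.k₁.pow) le_rfl).trans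
          (((comm_le_Phi h.k₁.pT).trans h.Phi_le).trans le_sup_right)))
  rw [commutator_comm]
  exact (commutator_mono le_rfl h₄).trans (commutator_sup_le (inf_le_left.trans hC) le_normalizer
    ((commutator_eq_bot_iff_le_centralizer'.2 inf_le_right).trans_le bot_le)
    (commutator_le_right_of_le_normalizer hC))

theorem C_inf : T₁ ⊓ C(pResidualOf p G₁) ⊓ Z(S) ≤ Z(G₁) := fun _ hv =>
  h.k₁.inf_cent_res ⟨h.k₁.Y_le hv.2, hv.1.2⟩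

theorem faith : G₁ ⊓ rel V₁ (nclIn (V₁ ⊔ V₂) G₁) ≤ T₁ := by
  haveI := h.k₁.fin
  set K := G₁ ⊓ rel V₁ (nclIn (V₁ ⊔ V₂) G₁)
  have hn : G₁ ≤ N(K) :=
    le_normalizer_inf le_normalizer (le_norm_rel h.k₁.V_norm (le_normalizer_nclIn _ _))
  obtain ⟨x, hx, hxX⟩ := h.exists_U
  have hKS : K ⊓ S ≤ T₁ := fun s hs => by_contra fun e =>
    hxX (h.keyU hx hs.2 e ((mem_rel.1 hs.1.2).2 x hx))
  have hKM : K ≤ M₁ := by
    by_contra e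
    obtain ⟨k, hk, hkM⟩ := SetLike.not_le_iff_exists.1 e
    refine h.n₁ (h.k₁.gen' h.S_norm_X hk.1 hkM (le_normalizer_of_commutator_le ?_ hk))
    exact (commutator_mono (le_nclIn _ _) le_rfl).trans
      ((comm_le_of_le_rel inf_le_right).trans le_sup_left)
  have hc : ⁅S, K⁆ ≤ T₁ := (le_inf (commutator_le_right_of_le_normalizer (h.k₁.S_le.trans hn))
    (commutator_le_left_of_le_normalizer (hKM.trans h.M_norm_S))).trans hKS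
  have hZ : K ≤ rel Z(G₁) Z(S) := fun k hk => mem_rel.2 ⟨h.Z_norm hk.1, fun z hz => by
    obtain ⟨y, hy, hyT⟩ := h.k₁.exists_S
    have hu := h.comm_US (commutator_mem_commutator hx hy)
    obtain ⟨v₁, hv₁, v₂, hv₂, e⟩ := h.exists_mul h.c hu
    obtain ⟨s, hs, hw⟩ := h.k₁.surj₁ hv₁ (fun k => h.not_mem_V₂ hx hxX hy hyT
      (e ▸ mul_mem (h.k₂.Y_le k) hv₂)) hz
    have h₁ := h.r₂ (commutator_mem_commutator hv₂ hs)
    have h₂ : ⁅⁅x, y⁆, s⁆⁻¹ * z ∈ Z(G₁) := by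
      rw [← e, comm_mul_left, conj_eq_of_cent' h₁.2 (h.k₁.V_le_G hv₁), mul_inv_rev,
        (inv_mem h₁).2 _ (inv_mem (h.k₁.V_le_G (h.k₁.comm_mem_V hv₁ (h.k₁.S_le hs)))), mul_assoc]
      exact mul_mem (inv_mem h₁) hw
    have h₃ : ⁅⁅x, y⁆, k⁆ ∈ Z(S) := by
      have hv := (mem_rel.1 hk.2).2 x hx
      have ht := hc (commutator_mem_commutator hy hk)
      have e₁ : k * ⁅x, y⁆ * k⁻¹ = ⁅⁅x, k⁆⁻¹ * x, ⁅y, k⁆⁻¹ * y⁆ := by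
        rw [conj_comm, conj_eq_comm k x, conj_eq_comm k y]
      have h₄ := h.comm_UT (commutator_mem_commutator hx (inv_mem ht))
      have h₅ := h.k₁.comm_mem (inv_mem hv) (mul_mem (h.k₁.T_le (inv_mem ht)) hy)
      have h₆ := h.comm_XT (commutator_mem_commutator hu (inv_mem ht))
      rw [comm_mul_left, comm_mul_right, conj_eq_of_cent' (h.k₁.V_cent (mul_mem
        (h.k₁.V_le (h.k₁.W_le_V h₄)) (conj_mem_of_norm (h.k₁.T_norm (h.k₁.T_le_G (inv_mem ht)))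
          (h.XT₁ hu)))) (inv_mem hv), conj_eq_comm k, conj_eq_comm _ ⁅x, y⁆, mul_assoc, mul_assoc,
          h₅.2 _ (h.X_le hu), ← mul_assoc, ← mul_assoc, mul_left_inj] at e₁
      rw [← inv_mem_iff, e₁]
      exact mul_mem (mul_mem (h.k₁.W_le h₄) (inv_mem (h.k₁.W_le h₆))) h₅
    have h₄ : ⁅⁅⁅x, y⁆, s⁆, k⁆ ∈ Z(G₁) := by
      have ht := hc (commutator_mem_commutator hs hk)
      have e₁ : k * ⁅⁅x, y⁆, s⁆ * k⁻¹ = ⁅⁅⁅x, y⁆, k⁆⁻¹ * ⁅x, y⁆, ⁅s, k⁆⁻¹ * s⁆ := by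
        rw [conj_comm, conj_eq_comm k ⁅x, y⁆, conj_eq_comm k s]
      have h₅ := h.comm_XT (commutator_mem_commutator hu (inv_mem ht))
      have h₆ := h.comm_XS (commutator_mem_commutator hu hs)
      rw [comm_mul_left, comm_eq_one_of_cent' (inv_mem h₃).2 (mul_mem (h.k₁.T_le (inv_mem ht)) hs),
        mul_one, conj_eq_of_cent (inv_mem h₃).2 (h.X_le (comm_mem_of_norm (h.S_norm_X
          (mul_mem (h.k₁.T_le (inv_mem ht)) hs)) hu)), comm_mul_right,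
        conj_eq_of_cent' h₆.2 (h.k₁.T_le (inv_mem ht)), conj_eq_comm k, mul_left_inj] at e₁
      rw [← inv_mem_iff, e₁]
      exact h₅
    rw [← mul_inv_cancel_left ⁅⁅x, y⁆, s⁆ z, comm_mul_left, comm_eq_one_of_cent' h₂.2 hk.1, mul_one,
      mul_inv_cancel, one_mul]
    exact h₄⟩
  obtain ⟨g, hg, hgM⟩ := h.k₁.exists_G
  have hV : ⁅V₁, K⁆ ≤ Z(G₁) := by
    rw [← h.k₁.sup_conj hg hgM, commutator_comm]
    refine commutator_sup_le ((h.k₁.Y_le.trans h.k₁.V_le_G).trans h.Z_norm)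
      (((h.k₁.conj_Y_le hg).trans h.k₁.V_le_G).trans h.Z_norm)
      (commutator_comm _ K ▸ comm_le_of_le_rel hZ) ?_
    have := conj_mono g (comm_le_of_le_rel hZ)
    rwa [conj_commutator, conj_eq_of_mem_normalizer (hn hg), h.k₁.conj_W hg, commutator_comm] at this
  have hU : ⁅nclIn (V₁ ⊔ V₂) G₁, K⁆ ≤ V₁ := comm_le_of_le_rel inf_le_right
  exact h.k₁.le_T inf_le_left hn (h.isPGroup_of inf_le_left (hU.trans le_sup_left)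
    ((commutator_mono (le_nclIn _ _) le_rfl).trans hU) (hV.trans h.k₁.W_le)
    ((commutator_mono h.k₁.Y_le le_rfl).trans hV))

theorem exists_cube : ∃ s ∈ S, s ^ 3 ≠ 1 := by
  by_contra! hc
  obtain rfl := h.eq_three
  obtain ⟨x, hx, hxX⟩ := h.exists_U
  obtain ⟨y, hy, hyT⟩ := h.k₁.exists_S
  have hU := le_normalizer_nclIn (V₁ ⊔ V₂) G₁
  obtain ⟨A, _, ψ, act, -, ψm, ψ0, ψa, -, -⟩ := exists_model hU h.Z_norm h.U_le_G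
    ((commutator_mono le_rfl h.U_le).trans h.comm_UT)
  have hyG := h.k₁.S_le hy
  have ac : ∀ v ∈ nclIn (V₁ ⊔ V₂) G₁, ψ (y * v * y⁻¹) = ψ ⁅v, y⁆⁻¹ + ψ v := fun v hv => by
    rw [conj_eq_comm, ψm _ (inv_mem (comm_mem_of_norm (hU hyG) hv)) _ hv]
  have h3 : ∀ v ∈ nclIn (V₁ ⊔ V₂) G₁, ψ v + ψ v + ψ v = 0 := fun v hv => by
    rw [← ψm v hv v hv, ← ψm _ (mul_mem hv hv) v hv, ← sq, ← pow_succ, ψ0 _ (pow_mem hv _)]
    exact h.pow_U hv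
  have hu := inv_mem (h.comm_US (commutator_mem_commutator hx hy))
  have huU := le_nclIn _ G₁ hu
  have hx₁ := conj_mem_of_norm (hU hyG) hx
  have hx₂ := conj_mem_of_norm (hU hyG) hx₁
  have e₁ : (x * y) ^ 3 = x * (y * x * y⁻¹) * (y * (y * x * y⁻¹) * y⁻¹) * y ^ 3 := by
    simp only [pow_succ, pow_zero]; group
  rw [hc _ (mul_mem (h.k₁.T_le (h.U_le hx)) hy), hc y hy, mul_one] at e₁
  have e₂ := (ψ0 _ (one_mem _)).2 (one_mem _)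
  rw [e₁, ψm _ (mul_mem hx hx₁) _ hx₂, ψm _ hx _ hx₁, ← ψa y hyG _ hx₁, ac x hx, map_add,
    ψa y hyG _ huU, ψa y hyG _ hx, ac x hx, ac _ huU] at e₂
  have e₃ : ψ ⁅⁅x, y⁆⁻¹, y⁆⁻¹ = 0 := by
    calc _ = ψ ⁅⁅x, y⁆⁻¹, y⁆⁻¹ + (ψ x + ψ x + ψ x) + (ψ ⁅x, y⁆⁻¹ + ψ ⁅x, y⁆⁻¹ + ψ ⁅x, y⁆⁻¹) := by
          rw [h3 x hx, h3 _ huU, add_zero, add_zero]
      _ = _ := by rw [← e₂]; abel
  exact h.not_mem_V₂ hx hxX hy hyT (inv_mem_iff.1 (h.mem_V₂ hu hy hyT (inv_mem_iff.1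
    ((ψ0 _ (inv_mem (comm_mem_of_norm (hU hyG) huU))).1 e₃))))

end Two

end Cfsg.Agent.Lib.PushBase
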