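import Cfsg.Agent.Lib.PushAmal

/-! The Glauberman-Niles pair of characteristic subgroups. -/

set_option autoImplicit false
open Cfsg

namespace Cfsg.Agent.Lib.PushBase

open Subgroup Cfsg.Agent.Lib.PCoreConj Cfsg.Agent.Lib.PCore Cfsg.Agent.Lib.PCoreResidual Cfsg.Agent.Lib.PCoreMod
open Cfsg.Agent.Lib.PReduced Cfsg.Agent.Lib.PIrred Cfsg.Agent.Lib.ThompsonJ
open scoped Pointwise commutatorElement

universe u

/-- The top subgroup of a named group. -/
scoped notation "⊤[" X "]" => (⊤ : Subgroup X)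

section S0
variable {H : Type*} [Group H] {p : ℕ} {H' : Type*} [Group H'] {f : H →* H'}
variable {G S T M V X A Q : Subgroup H}

/-- The subgroup `S₀` of Glauberman and Niles. -/
def S0 (p : ℕ) (S : Subgroup H) : Subgroup H :=
  if p = 2 then ⁅Phi S, S⁆ ⊔ Phi (Phi S) else if p = 3 then ⁅⁅Phi S, S⁆, S⁆ ⊔ Phi (Phi S)
    else ⁅Phi S, S⁆ ⊔ powerClosure p 1 S

theorem map_S0 (hf : Function.Injective f) (S : Subgroup H) : (S0 p S).map f = S0 p (S.map f) := by
  unfold S0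
  split_ifs <;> simp only [Subgroup.map_sup, map_commutator, map_Phi hf, map_powerClosure]

theorem S0_le (p : ℕ) (S : Subgroup H) : S0 p S ≤ S := by
  have h₁ : ⁅Phi S, S⁆ ≤ S := commutator_le_right_of_le_normalizer (le_normalizer_of_le (Phi_le S))
  unfold S0
  split_ifs
  · exact sup_le h₁ ((Phi_le _).trans (Phi_le _))
  · exact sup_le (commutator_le_right_of_le_normalizer (le_normalizer_of_le h₁))
      ((Phi_le _).trans (Phi_le _))
  · exact sup_le h₁ (powerClosure_le_self _ _)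

theorem RP.le_J [Finite S] (rp : RP S) (h : S ≤ C(ZJ 0 S)) : S ≤ J 0 S := by
  obtain ⟨A, hA⟩ := exists_maxAb 0 S
  haveI : Nonempty {A // MaxAb 0 S A} := ⟨⟨A, hA⟩⟩
  have h₁ : CD S (⨆ A : {A // MaxAb 0 S A}, A.1) := CD.iSup fun A => rp.ab _ A.2
  have h₂ : (⨆ A : {A // MaxAb 0 S A}, A.1) = J 0 S :=
    le_antisymm (iSup_le fun A => A.2.le_J) (J_le_iff.2 fun A hA => le_iSup_of_le ⟨A, hA⟩ le_rfl)
  rw [h₂] at h₁
  exact h₁.le_of_cent_le le_rfl ((inf_centralizer_J_eq S).le.trans (le_centralizer_iff.1 h))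

theorem rp_of_mcl [Finite S] (h : S ≤ C(ZJ 0 S)) (hQ : MCL S Q) (hc : Q ≤ C(Q)) : RP S where
  top := cd_of_le_cent_ZJ h
  ab A hA := hQ.cd.of_le' hA.le (by
    have h₁ := hA.card_le hQ.toCL.le (abExp_of_le_cent hc)
    unfold meas
    rw [hA.inf_centralizer_eq, le_antisymm hQ.cent (le_inf hQ.toCL.le hc)]
    exact Nat.mul_le_mul h₁ h₁)

variable [hp : Fact p.Prime]

theorem RO.Phi_le_T (h : RO p G S T M) : Phi S ≤ T :=
  haveI := h.finS
  Phi_le_of h.comm h.pow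

theorem RO.Phi_Phi_le (h : RO p G S T M) : Phi (Phi S) ≤ Phi T :=
  haveI := h.finT
  Phi_mono h.pT h.Phi_le_T

omit hp in
theorem RO.exists_maxAb (h : RO p G S T M) (hJ : S ≤ J 0 S) : ∃ A, MaxAb 0 S A ∧ ¬ A ≤ T := by
  by_contra hn
  push Not at hn
  exact h.not_le (hJ.trans (J_le_iff.2 hn))

theorem One.comm_Phi' (h : One p G S T M V) (hJ : S ≤ J 0 S) : ⁅Phi S, S⁆ ≤ C(pResidualOf p G) := by
  obtain ⟨A, hA, hAT⟩ := h.exists_maxAb hJ
  exact (h.comm_Phi hA hAT).trans inf_le_right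

theorem One.S0_le (h : One p G S T M V) (hJ : S ≤ J 0 S) : S0 p S ≤ C(pResidualOf p G) := by
  have h₁ := h.comm_Phi' hJ
  have h₂ := h.Phi_Phi_le.trans (h.Phi_le.trans inf_le_right)
  unfold S0
  split_ifs with e₂ e₃
  · exact sup_le h₁ h₂
  · exact sup_le ((commutator_le_left_of_le_normalizer
      (le_normalizer_commutator (le_norm_Phi le_normalizer) le_normalizer)).trans h₁) h₂
  · exact sup_le h₁ (powerClosure_le_iff.2 fun x hx => (h.pow_mem_C e₂ hx).2)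

theorem Tw.S0_le (h : Tw p G S T M V X) : S0 p S ≤ C(pResidualOf p G) := by
  unfold S0
  rw [if_neg (by rw [h.three]; decide), if_pos h.three]
  exact sup_le h.comm_Phi (h.Phi_Phi_le.trans h.Phi_le)

omit hp in
theorem CL.maxCP [Finite S] (h : CL S Q) : maxCentralProduct S = Nat.card Q * Nat.card ↥(Z(Q)) := by
  obtain ⟨Q, hQ, rfl⟩ := h.exists_map
  rw [← hQ, CDLattice.card_center, ← map_center S.subtype_injective,
    card_map_of_injective S.subtype_injective, card_map_of_injective S.subtype_injective]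

omit hp in
theorem CL.maxCP_eq [Finite S] (h : CL S Q) (h₁ : Q ≤ A) (h₂ : A ≤ S) :
    maxCentralProduct A = maxCentralProduct S := by
  haveI := finite_of_le h₂
  exact (CL.maxCP ⟨h.cd.restrict h₂ h₁ (h.cent.trans h₁), (inf_le_inf_right _ h₂).trans h.cent⟩).trans
    h.maxCP.symm

end S0

section Master
variable {p : ℕ} {P : Type u} [Group P] {A V S₁ S₂ : Subgroup P}

theorem char_of_funct (F : Subgroup P → Subgroup P)
    (h : ∀ f : P →* P, Function.Injective f → (F ⊤).map f = F (⊤[P].map f)) :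
    (F ⊤).Characteristic :=
  characteristic_iff_map_eq.2 fun φ => by rw [h _ φ.injective, map_top_of_surjective _ φ.surjective]

theorem char_subgroupOf_of_top_le {K : Subgroup P} (hK : ⊤ ≤ K) (h : A.Characteristic) :
    (A.subgroupOf K).Characteristic := by
  obtain rfl := top_le_iff.1 hK
  refine characteristic_iff_le_comap.2 fun φ x hx => ?_
  exact characteristic_iff_le_comap.1 h (topEquiv.symm.trans (φ.trans topEquiv)) hx

theorem map_top_cent {G : Type*} [Group G] {τ : P →* G} (hτ : Function.Injective τ) (A : Subgroup P) :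
    (C(A)).map τ = ⊤[P].map τ ⊓ C(A.map τ) := by
  rw [← map_centralizer_inf hτ, top_inf_eq]

theorem le_center_of (h : A ≤ C(⊤[P])) : A ≤ center P := fun _ hx =>
  mem_center_iff.2 fun g => h hx g trivial

/-- A pushing up pair. -/
structure Good (p : ℕ) (P : Type u) [Group P] (S₁ S₂ : Subgroup P) : Prop where
  ne₁ : S₁ ≠ ⊥
  ne₂ : S₂ ≠ ⊥
  ch₁ : S₁.Characteristic
  ch₂ : S₂.Characteristic
  le₁ : S₁ ≤ center P
  le₂ : S₂ ≤ C(ZJ 0 ⊤[P])
  ch₃ : (S₂.subgroupOf C(ZJ 0 ⊤[P])).Characteristic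
  norm : ∀ (G : Type u) [Group G] (τ : P →* G) (T M : Subgroup G), Function.Injective τ →
    PU p ⊤ (⊤[P].map τ) T M → (S₁.map τ).Normal ∨ (S₂.map τ).Normal

theorem Good.of_cent (hJ : ⊤[P] ≤ C(ZJ 0 ⊤[P])) (ne₁ : S₁ ≠ ⊥) (ne₂ : S₂ ≠ ⊥)
    (ch₁ : S₁.Characteristic) (ch₂ : S₂.Characteristic) (le₁ : S₁ ≤ C(⊤[P]))
    (norm : ∀ (G : Type u) [Group G] (τ : P →* G) (T M : Subgroup G), Function.Injective τ →
      PU p ⊤ (⊤[P].map τ) T M → ⊤[G] ≤ C(S₁.map τ) ∨ ⊤[G] ≤ N(S₂.map τ)) : Good p P S₁ S₂ :=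
  ⟨ne₁, ne₂, ch₁, ch₂, le_center_of le₁, le_top.trans hJ, char_subgroupOf_of_top_le hJ ch₂,
    fun G _ τ T M hτ h => (norm G τ T M hτ h).imp
      (fun e => normal_iff_top_le.2 (le_normalizer_of_le_centralizer e)) normal_iff_top_le.2⟩

theorem map_cent_ZJ {G : Type*} [Group G] {τ : P →* G} (hτ : Function.Injective τ)
    (hJ : ⊤[P] ≤ C(ZJ 0 ⊤[P])) : ⊤[P].map τ ≤ C(ZJ 0 (⊤[P].map τ)) := by
  rw [← map_ZJ (inf_ker_of_injective hτ _)]
  exact (map_le_cent_iff hτ).2 hJ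

/-- The subgroups `⟨Z(S)^G⟩` for those `G` that do not centralize `A`. -/
def Bad (p : ℕ) (A V : Subgroup P) : Prop :=
  ∃ (G : Type u) (_ : Group G) (τ : P →* G) (T M : Subgroup G), Function.Injective τ ∧
    PK p ⊤ (⊤[P].map τ) T M (V.map τ) ∧ ¬ ⊤[G] ≤ C(A.map τ)

theorem Bad.map [hA : A.Characteristic] (h : Bad p A V) (φ : P ≃* P) : Bad p A (V.map φ.toMonoidHom) := by
  obtain ⟨G, _, τ, T, M, hτ, k, n⟩ := h
  have e : ∀ B : Subgroup P, B.map (τ.comp φ.symm.toMonoidHom) = (B.map φ.symm.toMonoidHom).map τ :=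
    fun B => (map_map _ _ _).symm
  refine ⟨G, _, τ.comp φ.symm.toMonoidHom, T, M, hτ.comp φ.symm.injective, ?_, ?_⟩
  · have : (V.map φ.toMonoidHom).map φ.symm.toMonoidHom = V := by rw [map_map]; simp
    rwa [e, e, map_top_of_surjective _ φ.symm.surjective, this]
  · rwa [e, characteristic_iff_map_eq.1 hA φ.symm]

theorem Bad.cd (h : Bad p A V) (hc : CD ⊤ ⊤[P]) : CD ⊤ V := by
  obtain ⟨G, _, τ, T, M, hτ, k, -⟩ := h
  exact (cd_map_iff hτ).1 (k.cd_V ((cd_map_iff hτ).2 hc))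

variable [hp : Fact p.Prime] [Finite P]

theorem good_comm_ZJ (hP : IsPGroup p P) (h : ¬ ⊤[P] ≤ C(ZJ 0 ⊤[P])) :
    Good p P (⁅ZJ 0 ⊤[P], ⊤[P]⁆ ⊓ Z(⊤[P])) C(ZJ 0 ⊤[P]) := by
  have ht : IsPGroup p ⊤[P] := hP.to_subgroup _
  have c₂ : (C(ZJ 0 ⊤[P]) : Subgroup P).Characteristic := by
    rw [← top_inf_eq (C(ZJ 0 ⊤[P]) : Subgroup P)]
    exact char_of_funct (fun S : Subgroup P => S ⊓ C(ZJ 0 S)) fun f hf => by
      rw [map_centralizer_inf hf, map_ZJ (inf_ker_of_injective hf _)]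
  refine ⟨?_, fun e => h ?_, char_of_funct (fun S => ⁅ZJ 0 S, S⁆ ⊓ Z(S)) fun f hf => ?_, c₂,
    le_center_of (inf_le_right.trans inf_le_right), le_rfl, ?_, fun G _ τ T M hτ k => ?_⟩
  · rw [top_inf_eq]
    exact inf_centralizer_ne_bot ht (hP.to_subgroup _) (le_normalizer_commutator
      (le_normalizer.trans (normalizer_le_normalizer_ZJ 0 ⊤)) le_normalizer)
      fun e => h (commutator_eq_bot_iff_le_centralizer'.1 e)
  · rw [le_bot_iff.1 ((abExp_ZJ 0 ⊤).le_centralizer.trans e.le), centralizer_bot']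
  · rw [map_inf_eq _ _ _ hf, map_commutator, map_center hf, map_ZJ (inf_ker_of_injective hf _)]
  · rw [subgroupOf_self]; infer_instance
  · rw [map_inf_eq _ _ _ hτ, map_commutator, map_center hτ, map_top_cent hτ,
      map_ZJ (inf_ker_of_injective hτ _)]
    exact k.comm_ZJ.imp (fun e => normal_iff_top_le.2 (le_normalizer_of_le_centralizer e))
      normal_iff_top_le.2

theorem good_pow [Nontrivial P] (hJ : ⊤[P] ≤ C(ZJ 0 ⊤[P]))
    (h : powerClosure p 1 Z(⊤[P]) ≠ ⊥) : Good p P (powerClosure p 1 Z(⊤[P])) ⊤ := by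
  have c := char_of_funct (fun S : Subgroup P => powerClosure p 1 Z(S)) fun f hf =>
      (map_powerClosure f 1 _).trans (congrArg _ (map_center hf _))
  refine .of_cent hJ h top_ne_bot c inferInstance ((powerClosure_le_self (p := p) 1 _).trans inf_le_right)
    fun G _ τ T M hτ k => ?_
  · rw [map_powerClosure, map_center hτ]
    refine k.pow_center.imp id fun e => ?_
    rwa [inf_eq_left.2 (map_cent_ZJ hτ hJ)] at e

theorem good_mcl (hP : IsPGroup p P) (hJ : ⊤[P] ≤ C(ZJ 0 ⊤[P])) {Q : Subgroup P}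
    (hQ : MCL ⊤ Q) (h : ¬ Q ≤ C(Q)) : Good p P (Z(⊤[P]) ⊓ ⁅Q, Q⁆) (SMCL ⊤) := by
  have c : (⁅Q, Q⁆).Characteristic := characteristic_iff_map_eq.2 fun φ => by
    rw [map_commutator]
    have := (mcl_map_iff (f := φ.toMonoidHom) φ.injective).2 hQ
    rw [map_top_of_surjective _ φ.surjective] at this
    exact this.comm_eq hQ
  haveI : (Z(⊤[P])).Characteristic := char_of_funct (fun S => Z(S)) fun f hf => map_center hf _
  refine .of_cent hJ ?_ (fun e => h ((hQ.le_SMCL.trans e.le).trans bot_le)) inferInstance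
    (char_of_funct SMCL fun f hf => map_SMCL hf _) (inf_le_left.trans inf_le_right)
    fun G _ τ T M hτ k => ?_
  · rw [top_inf_eq, inf_comm]
    exact inf_centralizer_ne_bot (hP.to_subgroup _) (hP.to_subgroup _)
      (normal_iff_top_le.1 inferInstance) fun e => h (commutator_eq_bot_iff_le_centralizer'.1 e)
  · rw [map_inf_eq _ _ _ hτ, map_commutator, map_center hτ, map_SMCL hτ]
    exact k.mcl (map_cent_ZJ hτ hJ) ((mcl_map_iff hτ).2 hQ)

theorem good_sphi [Nontrivial P] (hP : IsPGroup p P) (hJ : ⊤[P] ≤ C(ZJ 0 ⊤[P]))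
    (h : SPhi p ⊤[P] ≠ ⊥) : Good p P Z(⊤[P]) (SPhi p ⊤) := by
  refine .of_cent hJ (center_ne_bot (hP.to_subgroup _) top_ne_bot) h
    (char_of_funct (fun S => Z(S)) fun f hf => map_center hf _)
    (char_of_funct (SPhi p) fun f hf => map_SPhi hf _) inf_le_right fun G _ τ T M hτ k => ?_
  rw [map_center hτ, map_SPhi hτ]
  exact k.sphi (map_cent_ZJ hτ hJ)

omit hp [Finite P] in
theorem good_ab [Nontrivial P] (h : ⊤[P] ≤ C(⊤[P])) : Good p P ⊤ ⊤ := by
  refine .of_cent (h.trans (centralizer_anti le_top)) top_ne_bot top_ne_bot inferInstance inferInstance h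
    fun G _ τ T M hτ k => absurd ?_ k.not_le
  exact (le_inf le_top (((map_le_cent_iff hτ).2 h).trans (centralizer_anti k.T_le))).trans k.char

theorem bad_pair (rp : RP ⊤[P]) (hJ : ⊤ ≤ J 0 ⊤[P]) (hA : A ≤ Z(⊤[P]) ⊓ S0 p ⊤)
    {G : Type u} [Group G] {τ : P →* G} {T M : Subgroup G} (hτ : Function.Injective τ)
    (k : PK p ⊤ (⊤[P].map τ) T M (V.map τ)) (n : ¬ ⊤[G] ≤ C(A.map τ)) {V' : Subgroup P}
    (h : Bad p A V') : V ≤ C(V') ∧ ⊤[G] ≤ N((V ⊔ V').map τ) := by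
  have key : ∀ {G : Type u} [Group G] {τ : P →* G} {T M : Subgroup G}, Function.Injective τ →
      RO p ⊤ (⊤[P].map τ) T M →
      S0 p (⊤[P].map τ) ≤ C(pResidualOf p ⊤[G]) → ⊤[G] ≤ C(A.map τ) := fun {G} _ {τ T M} hτ k e => by
    refine le_centralizer_iff.1 (le_trans ?_ k.C_inf)
    refine le_inf ((map_mono (hA.trans inf_le_right)).trans ((map_S0 hτ _).le.trans e)) ?_
    exact (map_le_cent_iff hτ).2 (hA.trans (inf_le_left.trans inf_le_right))
  have hJ' : ∀ {G : Type u} [Group G] {τ : P →* G}, Function.Injective τ →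
      ⊤[P].map τ ≤ J 0 (⊤[P].map τ) := fun hτ =>
    (map_mono hJ).trans (map_J (inf_ker_of_injective hτ _)).le
  obtain ⟨G', _, τ', T', M', hτ', k', n'⟩ := h
  rcases two_emb hτ hτ' k k' rp hJ with c | c | c | c
  · exact absurd (key hτ k.toRO (c.S0_le (hJ' hτ))) n
  · exact absurd (key hτ' k'.toRO (c.S0_le (hJ' hτ'))) n'
  · exact absurd (key hτ k.toRO c.S0_le) n
  · exact c

theorem good_S0 (hP : IsPGroup p P) (hJ : ⊤[P] ≤ C(ZJ 0 ⊤[P])) (rp : RP ⊤[P])
    (h : S0 p ⊤[P] ≠ ⊥) : ∃ S₂, Good p P (Z(⊤[P]) ⊓ S0 p ⊤) S₂ ∧ CL ⊤ S₂ := by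
  haveI : (Z(⊤[P])).Characteristic := char_of_funct (fun S => Z(S)) fun f hf => map_center hf _
  haveI : (S0 p ⊤[P]).Characteristic := char_of_funct (S0 p) fun f hf => map_S0 hf _
  set A : Subgroup P := Z(⊤[P]) ⊓ S0 p ⊤ with hA
  have hA0 : A ≠ ⊥ := by
    rw [hA, top_inf_eq, inf_comm]
    exact inf_centralizer_ne_bot (hP.to_subgroup _) (hP.to_subgroup _)
      (normal_iff_top_le.1 inferInstance) h
  let W : Subgroup P := ⨆ V : {V // Bad p A V}, V.1
  haveI : W.Characteristic := characteristic_iff_map_le.2 fun φ => by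
    rw [Subgroup.map_iSup]
    exact iSup_le fun V => le_iSup_of_le ⟨_, V.2.map φ⟩ le_rfl
  have hW : W ≤ C(W) := iSup_le fun V => le_centralizer_iff.1 (iSup_le fun V' => by
    obtain ⟨G, _, τ, T, M, hτ, k, n⟩ := V'.2
    exact (bad_pair rp (rp.le_J hJ) le_rfl hτ k n V.2).1)
  have hcl : CL ⊤[P] C(W) := by
    by_cases e : Nonempty {V // Bad p A V}
    · have h₁ : CD ⊤ W := CD.iSup fun V => V.2.cd rp.top
      have h₂ := h₁.cent
      have h₃ := h₁.cent_cent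
      rw [top_inf_eq] at h₂
      rw [top_inf_eq (C(W) : Subgroup P)] at h₃
      exact ⟨h₂, h₃.le.trans hW⟩
    · have : W = ⊥ := le_bot_iff.1 (iSup_le fun V => absurd ⟨V⟩ e)
      rw [this, centralizer_bot']
      exact ⟨rp.top, inf_le_left⟩
  refine ⟨C(W), .of_cent hJ hA0 (fun e => hA0 (le_bot_iff.1 ?_)) inferInstance inferInstance
    (inf_le_left.trans inf_le_right) fun G _ τ T M hτ k => ?_, hcl⟩
  · exact ((inf_le_left.trans inf_le_right).trans (centralizer_anti le_top)).trans e.le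
  refine or_iff_not_imp_left.2 fun n => ?_
  have k' := k.pk_of_cent (fun e => n (e.trans (centralizer_anti
    ((map_mono inf_le_left).trans (map_center hτ _).le)))) (map_cent_ZJ hτ hJ)
  obtain ⟨V, -, hV⟩ := exists_map_eq k'.V_le_S
  rw [← hV] at k'
  have hVW : V ≤ W := le_iSup_of_le ⟨V, G, _, τ, T, M, hτ, k', n⟩ le_rfl
  have h₁ : W = ⨆ V' : {V // Bad p A V}, V ⊔ V'.1 :=
    le_antisymm (iSup_mono fun _ => le_sup_right) (iSup_le fun V' => sup_le hVW (le_iSup_of_le V' le_rfl))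
  have h₂ : ⊤[G] ≤ N(W.map τ) := by
    rw [h₁, Subgroup.map_iSup]
    exact le_normalizer_iSup fun V' => (bad_pair rp (rp.le_J hJ) le_rfl hτ k' n V'.2).2
  have h₃ : (C(W)).map τ = T ⊓ C(W.map τ) := by
    rw [map_top_cent hτ]
    exact le_antisymm (le_inf ((inf_le_inf_left _ (centralizer_anti (map_mono hVW))).trans k'.cent_eq.le)
      inf_le_right) (inf_le_inf_right _ k.T_le)
  rw [h₃]
  exact le_normalizer_inf k.T_norm (le_normalizer_centralizer h₂)

/-- The exceptional `p`-groups. -/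
structure Small (p : ℕ) (P : Type u) [Group P] : Prop where
  nab : ¬ ⊤[P] ≤ C(⊤[P])
  cent : ⊤[P] ≤ C(ZJ 0 ⊤[P])
  pow : powerClosure p 1 Z(⊤[P]) = ⊥
  rp : RP ⊤[P]
  s0 : S0 p ⊤[P] = ⊥

theorem master [Nontrivial P] (hP : IsPGroup p P) :
    (∃ S₁ S₂, Good p P S₁ S₂ ∧
      maxCentralProduct S₂ = maxCentralProduct (C(ZJ 0 ⊤[P]) : Subgroup P)) ∨ Small p P := by
  by_cases hJ : ⊤[P] ≤ C(ZJ 0 ⊤[P])
  swap
  · exact .inl ⟨_, _, good_comm_ZJ hP hJ, rfl⟩
  have e := top_le_iff.1 hJ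
  by_cases h₁ : ⊤[P] ≤ C(⊤[P])
  · exact .inl ⟨_, _, good_ab h₁, by rw [e]⟩
  by_cases h₂ : powerClosure p 1 Z(⊤[P]) = ⊥
  swap
  · exact .inl ⟨_, _, good_pow hJ h₂, by rw [e]⟩
  obtain ⟨Q, hQ⟩ := exists_mcl ⊤[P]
  by_cases h₃ : Q ≤ C(Q)
  swap
  · exact .inl ⟨_, _, good_mcl hP hJ hQ h₃, by rw [e]; exact hQ.toCL.maxCP_eq hQ.le_SMCL le_top⟩
  have rp := rp_of_mcl hJ hQ h₃
  by_cases h₄ : S0 p ⊤[P] = ⊥
  · exact .inr ⟨h₁, hJ, h₂, rp, h₄⟩
  obtain ⟨S₂, g, c⟩ := good_S0 hP hJ rp h₄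
  exact .inl ⟨_, _, g, by rw [e]; exact c.maxCP_eq le_rfl le_top⟩

omit hp in
theorem ZJ_top_eq : thompsonSubgroupA P ⊓ centralizer (thompsonSubgroupA P : Set P) = ZJ 0 ⊤[P] := by
  rw [thompsonSubgroupA_eq]
  exact le_antisymm ((inf_le_inf_right _ le_top).trans (inf_centralizer_J_eq _).le)
    (le_inf (ZJ_le_J 0 _) (ZJ_le_centralizer_J 0 _))

omit hp [Finite P] in
theorem Good.situation (h : Good p P S₁ S₂) [Fact p.Prime] (G : Type u) [Group G] [Finite G]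
    (S : Subgroup G) (e : P ≃* S) (hS : IsPushingUpSituation p S) :
    (S₁.map (S.subtype.comp e.toMonoidHom)).Normal ∨ (S₂.map (S.subtype.comp e.toMonoidHom)).Normal := by
  obtain ⟨M, k⟩ := pu_of_situation hS
  refine h.norm G _ (pCore p G) M (S.subtype_injective.comp e.injective) ?_
  rwa [← map_map, map_top_of_surjective _ e.surjective, map_top_subtype]

namespace Small
variable (h : Small p P)
include h

omit hp in
theorem J_eq : J 0 ⊤[P] = ⊤ := top_le_iff.1 (h.rp.le_J h.cent)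

omit hp [Finite P] in
theorem pow_center {x : P} (hx : x ∈ (C(⊤[P]) : Subgroup P)) : x ^ p = 1 :=
  mem_bot.1 (powerClosure_le_iff.1 h.pow.le x (mem_inf.2 ⟨mem_top x, hx⟩))

omit hp [Finite P] in
theorem two (e : p = 2) : ⁅Phi ⊤[P], ⊤[P]⁆ = ⊥ ∧ Phi (Phi ⊤[P]) = ⊥ := by
  have := h.s0
  rwa [S0, if_pos e, sup_eq_bot_iff] at this

omit hp [Finite P] in
theorem three (e : p = 3) : ⁅⁅Phi ⊤[P], ⊤[P]⁆, ⊤[P]⁆ = ⊥ ∧ Phi (Phi ⊤[P]) = ⊥ := by
  have := h.s0
  rwa [S0, if_neg (by rw [e]; decide), if_pos e, sup_eq_bot_iff] at this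

omit hp [Finite P] in
theorem big (e₂ : p ≠ 2) (e₃ : p ≠ 3) : ⁅Phi ⊤[P], ⊤[P]⁆ = ⊥ ∧ powerClosure p 1 ⊤[P] = ⊥ := by
  have := h.s0
  rwa [S0, if_neg e₂, if_neg e₃, sup_eq_bot_iff] at this

theorem elem_Phi (hP : IsPGroup p P) : IsElementaryAbelian p (Phi ⊤[P]) := by
  by_cases e₂ : p = 2
  · exact isElem_of_Phi (hP.to_subgroup _) (h.two e₂).2
  by_cases e₃ : p = 3
  · exact isElem_of_Phi (hP.to_subgroup _) (h.three e₃).2
  have := le_centralizer_iff.1 (commutator_eq_bot_iff_le_centralizer'.1 (h.big e₂ e₃).1)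
  exact ⟨CDLattice.comm_of_le_centralizer (this.trans (centralizer_anti le_top)),
    fun x hx => h.pow_center (this hx)⟩

theorem exc [Nontrivial P] (hP : IsPGroup p P) : ¬ IsMulCommutative P ∧ thompsonSubgroupA P = ⊤ ∧
    IsElementaryAbelian p (center P) ∧ IsElementaryAbelian p (frattini P) ∧
    (p = 2 → frattini P ≤ center P) ∧ (p = 3 → frattini P ≤ Subgroup.upperCentralSeries P 2) ∧
    (3 < p → frattini P ≤ center P ∧ Monoid.exponent P = p) ∧
    ∀ A ∈ maxAbelianSubgroups P, ∀ B ∈ maxAbelianSubgroups P, ∀ Q : Subgroup P,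
      Nat.card A ^ 2 = Nat.card P * Nat.card (center P) ∧
      Nat.card Q * Nat.card (center Q) ≤ Nat.card P * Nat.card (center P) ∧
      ((A ⊔ B : Subgroup P) : Set P) = (A : Set P) * (B : Set P) ∧
      A ⊔ B = centralizer ((A ⊓ B : Subgroup P) : Set P) := by
  have hc : ∀ {A : Subgroup P}, ⁅A, ⊤[P]⁆ = ⊥ → A ≤ center P := fun e =>
    le_center_of (le_centralizer_iff.1 (commutator_eq_bot_iff_le_centralizer'.1 e))
  have hm : meas ⊤[P] ⊤ = Nat.card P * Nat.card (center P) := by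
    rw [meas, card_top, top_inf_eq, coe_top, centralizer_univ]
  refine ⟨fun e => h.nab fun x _ y _ => e.is_comm.comm y x, thompsonSubgroupA_eq.trans h.J_eq,
    ⟨inferInstance, fun x hx => h.pow_center fun y _ => mem_center_iff.1 hx y⟩,
    Phi_top (H := P) ▸ h.elem_Phi hP, fun e => hc (Phi_top (H := P) ▸ (h.two e).1), fun e x hx => ?_,
    fun e => ?_, fun A hA B hB Q => ?_⟩
  · rw [Subgroup.mem_upperCentralSeries_succ_iff]
    intro y
    rw [Subgroup.upperCentralSeries_one]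
    exact hc (h.three e).1 (commutator_mem_commutator (Phi_top (H := P) ▸ hx) trivial)
  · have := h.big (by omega) (by omega)
    refine ⟨hc (Phi_top (H := P) ▸ this.1), ?_⟩
    refine ((Nat.dvd_prime hp.out).1 (Monoid.exponent_dvd_of_forall_pow_eq_one fun x =>
      mem_bot.1 (this.2.le (pow_mem_powerClosure (A := ⊤[P]) trivial)))).resolve_left ?_
    exact Monoid.one_lt_exponent.ne'
  · rw [mem_maxAbelianSubgroups_iff] at hA hB
    have h₁ := (h.rp.ab A hA).lattice (h.rp.ab B hB)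
    have h₂ := (h.rp.ab A hA).centralizer_inf (h.rp.ab B hB)
    rw [hA.inf_centralizer_eq, hB.inf_centralizer_eq, top_inf_eq] at h₂
    refine ⟨?_, ?_, h₁.2.2.1, h₂.symm⟩
    · rw [← hm, ← (h.rp.ab A hA).meas_eq h.rp.top, meas, hA.inf_centralizer_eq, sq]
    · rw [← hm, CDLattice.card_center]
      exact (Nat.mul_le_mul_left _ (card_le_of_le (inf_le_inf_right _ le_top))).trans (h.rp.top.max' le_top)

theorem exists_elem (hP : IsPGroup p P) (e : SPhi p ⊤[P] = ⊥) :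
    ∃ A ∈ maxAbelianSubgroups P, IsElementaryAbelian p A := by
  obtain ⟨Q, hQ⟩ := exists_mz p ⊤[P]
  have h₁ := isElem_of_Phi (p := p) (hP.to_subgroup Q) (le_bot_iff.1 (hQ.le_SPhi.trans e.le))
  exact ⟨Q, CDLattice.maxAb_of_cl_comm (cl_top_iff.1 hQ.toCL) (le_centralizer_of_isElementaryAbelian h₁), h₁⟩

end Small

end Master

end Cfsg.Agent.Lib.PushBase
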