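import Cfsg.Agent.Lib.PushBase

/-! Rank one groups `RO` and their quadratic two dimensional modules `NM`. -/

set_option autoImplicit false
open Cfsg

namespace Cfsg.Agent.Lib.PushBase

open Subgroup Cfsg.Agent.Lib.PCoreConj Cfsg.Agent.Lib.PCore Cfsg.Agent.Lib.PCoreResidual Cfsg.Agent.Lib.PCoreMod
open Cfsg.Agent.Lib.PReduced Cfsg.Agent.Lib.PIrred Cfsg.Agent.Lib.ThompsonJ
open scoped Pointwise commutatorElement

variable {H : Type*} [Group H] {p : ℕ}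

theorem comm_mul_right (v s t : H) : ⁅v, s * t⁆ = ⁅v, s⁆ * (s * ⁅v, t⁆ * s⁻¹) := by
  simp only [commutatorElement_def]; group

theorem comm_mul_left (v w s : H) : ⁅v * w, s⁆ = v * ⁅w, s⁆ * v⁻¹ * ⁅v, s⁆ := by
  simp only [commutatorElement_def]; group

theorem conj_comm (g v s : H) : g * ⁅v, s⁆ * g⁻¹ = ⁅g * v * g⁻¹, g * s * g⁻¹⁆ := by
  simp only [commutatorElement_def]; group

theorem conj_eq_of_cent {A : Subgroup H} {x a : H} (hx : x ∈ C(A)) (ha : a ∈ A) :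
    x * a * x⁻¹ = a := by rw [← hx a ha, mul_inv_cancel_right]

theorem conj_eq_of_cent' {A : Subgroup H} {x a : H} (hx : x ∈ C(A)) (ha : a ∈ A) :
    a * x * a⁻¹ = x := by rw [hx a ha, mul_inv_cancel_right]

theorem comm_eq_one_of_cent {A : Subgroup H} {x a : H} (hx : x ∈ C(A)) (ha : a ∈ A) :
    ⁅a, x⁆ = 1 := commutatorElement_eq_one_iff_mul_comm.2 (hx a ha)

theorem comm_eq_one_of_cent' {A : Subgroup H} {x a : H} (hx : x ∈ C(A)) (ha : a ∈ A) :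
    ⁅x, a⁆ = 1 := commutatorElement_eq_one_iff_mul_comm.2 (hx a ha).symm

theorem conj_mem_of_norm {A : Subgroup H} {g a : H} (hg : g ∈ N(A)) (ha : a ∈ A) :
    g * a * g⁻¹ ∈ A := (mem_normalizer_iff.1 hg a).1 ha

theorem comm_mem_of_norm {A : Subgroup H} {g a : H} (hg : g ∈ N(A)) (ha : a ∈ A) :
    ⁅a, g⁆ ∈ A := by
  have := mul_mem ha (conj_mem_of_norm hg (inv_mem ha))
  simpa only [commutatorElement_def, mul_assoc] using this

/-- The elements of `N(W)` centralizing `v` modulo `W`. -/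
def stab (W : Subgroup H) (v : H) : Subgroup H where
  carrier := {x : H | x ∈ normalizer (W : Set H) ∧ ⁅v, x⁆ ∈ W}
  one_mem' := ⟨one_mem _, by rw [commutatorElement_one_right]; exact one_mem _⟩
  mul_mem' {a b} ha hb := ⟨mul_mem ha.1 hb.1, by
    rw [comm_mul_right]; exact mul_mem ha.2 (conj_mem_of_norm ha.1 hb.2)⟩
  inv_mem' {a} ha := ⟨inv_mem ha.1, by
    have : ⁅v, a⁻¹⁆ = a⁻¹ * ⁅v, a⁆⁻¹ * a⁻¹⁻¹ := by simp only [commutatorElement_def]; group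
    rw [this]; exact conj_mem_of_norm (inv_mem ha.1) (inv_mem ha.2)⟩

theorem mem_stab {W : Subgroup H} {v x : H} : x ∈ stab W v ↔ x ∈ N(W) ∧ ⁅v, x⁆ ∈ W := Iff.rfl

/-- A group of rank one with Sylow subgroup `S`, `p`-core `T` and Borel subgroup `M`. -/
structure RO (p : ℕ) (G S T M : Subgroup H) : Prop where
  fin : Finite G
  syl : IsSylowIn p S G
  core : pCoreOf p G = T
  min : MinOver S M G
  ti : ∀ g ∈ G, g ∉ M → S ⊓ M ^ᶜ g ≤ T
  comm : ⁅S, S⁆ ≤ T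
  pow : ∀ s ∈ S, s ^ p ∈ T
  irr : ∀ X, T ≤ X → X ≤ S → G ⊓ N(S) ≤ N(X) → X = T ∨ X = S

namespace RO

variable {G S T M K N A : Subgroup H} {g a : H} (h : RO p G S T M)
include h

theorem S_le : S ≤ G := h.syl.le
theorem pS : IsPGroup p S := h.syl.isPGroup
theorem T_le : T ≤ S := h.core ▸ h.syl.pCoreOf_le
theorem T_le_G : T ≤ G := h.T_le.trans h.S_le
theorem pT : IsPGroup p T := h.pS.to_le h.T_le
theorem T_norm : G ≤ N(T) := h.core ▸ le_normalizer_pCoreOf p G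
theorem S_le_M : S ≤ M := h.min.le
theorem T_le_M : T ≤ M := h.T_le.trans h.S_le_M
theorem M_le : M ≤ G := h.min.lt.le
theorem finS : Finite S := haveI := h.fin; finite_of_le h.S_le
theorem finT : Finite T := haveI := h.fin; finite_of_le h.T_le_G
theorem not_norm : ¬ G ≤ N(S) := h.min.not_le_normalizer le_rfl h.S_le_M
theorem not_le : ¬ S ≤ T := fun e => h.not_norm (le_antisymm e h.T_le ▸ h.T_norm)
theorem exists_S : ∃ a ∈ S, a ∉ T := SetLike.not_le_iff_exists.1 h.not_le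
theorem exists_G : ∃ g ∈ G, g ∉ M := SetLike.not_le_iff_exists.1 h.min.lt.not_ge
theorem N_le : G ⊓ N(S) ≤ M := h.min.inf_normalizer_le le_rfl h.S_le_M
theorem conj_T (hg : g ∈ G) : T ^ᶜ g = T := conj_eq_of_mem_normalizer (h.T_norm hg)
theorem conj_S_le (hg : g ∈ G) : S ^ᶜ g ≤ G := conj_le_of_mem h.S_le hg
theorem T_le_conj (hg : g ∈ G) : T ≤ S ^ᶜ g := h.conj_T hg ▸ conj_mono g h.T_le
theorem le_T (h₁ : N ≤ G) (h₂ : G ≤ N(N)) (h₃ : IsPGroup p N) : N ≤ T :=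
  h.core ▸ le_pCoreOf h₁ h₂ h₃

theorem conj (x : H) : RO p (G ^ᶜ x) (S ^ᶜ x) (T ^ᶜ x) (M ^ᶜ x) where
  fin := haveI := h.fin; finite_conj G x
  syl := h.syl.conj x
  core := by rw [← conj_pCoreOf, h.core]
  min := h.min.conj x
  ti g hg hM := by
    have := conj_mono x (h.ti _ (mem_conj_iff.1 hg) fun e => hM (mem_conj_iff.2 e))
    rwa [conj_inf, conj_conj, ← mul_assoc, ← mul_assoc, mul_inv_cancel, one_mul, ← conj_conj] at this
  comm := by rw [← conj_commutator]; exact conj_mono x h.comm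
  pow s hs := by
    have := h.pow _ (mem_conj_iff.1 hs)
    rw [mem_conj_iff]
    simpa only [← inv_inv x ▸ conj_pow (a := x⁻¹)] using this
  irr X h₁ h₂ h₃ := by
    have := conj_mono x⁻¹ h₃
    rw [conj_inf, conj_normalizer, conj_normalizer, conj_conj_inv, conj_conj_inv] at this
    exact (h.irr _ (conj_le_iff_le_conj_inv.1 h₁) (le_conj_iff_conj_inv_le.1 h₂) this).imp
      (fun e => by rw [← e, conj_inv_conj]) fun e => by rw [← e, conj_inv_conj]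

theorem conj_mem (hg : g ∈ G) : RO p G (S ^ᶜ g) T (M ^ᶜ g) := by
  have := h.conj g
  rwa [conj_eq_of_mem hg, h.conj_T hg] at this

omit h in
theorem inv_not_mem (hg : g ∉ M) : g⁻¹ ∉ M ^ᶜ g := fun e => hg (by
  simpa only [mem_conj_iff, inv_mul_cancel_right, inv_mem_iff] using (mem_conj_iff.1 e))

theorem gen' (hK : S ≤ K) (hg : g ∈ G) (hgM : g ∉ M) (hgK : g ∈ K) : G ≤ K :=
  (h.min.eq_of_not_le (le_inf hK h.S_le) inf_le_right fun e => hgM (e ⟨hgK, hg⟩)).ge.trans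
    inf_le_left

theorem not_mem_conj (hg : g ∈ G) (hgM : g ∉ M) (ha : a ∈ S) (haT : a ∉ T) : a ∉ M ^ᶜ g :=
  fun e => haT (h.ti g hg hgM ⟨ha, e⟩)

theorem not_mem_of_conj (hg : g ∈ G) (hgM : g ∉ M) (ha : a ∈ S ^ᶜ g) (haT : a ∉ T) : a ∉ M := by
  have := (h.conj_mem hg).not_mem_conj (inv_mem hg) (inv_not_mem hgM) ha haT
  rwa [conj_conj_inv] at this

theorem gen (hg : g ∈ G) (hgM : g ∉ M) (ha : a ∈ S) (haT : a ∉ T) (hK : S ^ᶜ g ≤ K)
    (haK : a ∈ K) : G ≤ K :=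
  (h.conj_mem hg).gen' hK (h.S_le ha) (h.not_mem_conj hg hgM ha haT) haK

theorem gen₂ (hg : g ∈ G) (hgM : g ∉ M) (ha : a ∈ S ^ᶜ g) (haT : a ∉ T) (hK : S ≤ K)
    (haK : a ∈ K) : G ≤ K :=
  h.gen' hK (h.conj_S_le hg ha) (h.not_mem_of_conj hg hgM ha haT) haK

theorem gen₃ (hg : g ∈ G) (hgM : g ∉ M) (hK : S ≤ K) (hK' : S ^ᶜ g ≤ K) : G ≤ K :=
  let ⟨_, ha, haT⟩ := h.exists_S
  h.gen hg hgM ha haT hK' (hK ha)

theorem le_of_norm (hK : S ≤ K) (hG : G ≤ N(K)) : G ≤ K := h.min.ncl ▸ nclIn_le hK hG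

theorem cent_of_norm (hN : G ≤ N(N)) (hS : S ≤ C(N)) : G ≤ C(N) :=
  h.le_of_norm hS (le_normalizer_centralizer hN)

theorem eq_S (h₁ : T ≤ A) (h₂ : A ≤ S) (h₃ : G ⊓ N(S) ≤ N(A)) (h₄ : ¬ A ≤ T) : A = S :=
  (h.irr A h₁ h₂ h₃).resolve_left fun e => h₄ e.le

theorem one_lt_relIndex : 1 < T.relIndex S := by
  haveI := h.finS
  have h₀ := LocIdx.relIndex_ne_zero_of_finite T S
  have h₁ : T.relIndex S ≠ 1 := fun e => h.not_le (relIndex_eq_one.1 e)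
  omega

end RO

/-- A quadratic module `V` for a rank one group, `Y = C_V(S)`, `W = C_V(G)`. -/
structure NM (p : ℕ) (G S T M V Y W : Subgroup H) : Prop extends RO p G S T M where
  V_le : V ≤ T
  V_norm : G ≤ N(V)
  V_cent : T ≤ C(V)
  hY : V ⊓ C(S) = Y
  hW : V ⊓ C(G) = W
  quad : ⁅V, S⁆ ≤ Y
  ncl : V ≤ nclIn Y G
  nc : ¬ G ≤ C(V)
  idx : Y.relIndex V ≤ T.relIndex S

namespace NM

variable {G S T M V Y W K N A : Subgroup H} {g a v w y s t : H} (h : NM p G S T M V Y W)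
include h

theorem Y_le : Y ≤ V := h.hY ▸ inf_le_left
theorem W_le_V : W ≤ V := h.hW ▸ inf_le_left
theorem Y_cent : S ≤ C(Y) := le_centralizer_iff.1 (h.hY ▸ inf_le_right)
theorem W_cent : G ≤ C(W) := le_centralizer_iff.1 (h.hW ▸ inf_le_right)
theorem Y_le_C : Y ≤ C(S) := h.hY ▸ inf_le_right
theorem W_le_C : W ≤ C(G) := h.hW ▸ inf_le_right
theorem mem_Y (hv : v ∈ V) (hc : v ∈ C(S)) : v ∈ Y := h.hY ▸ ⟨hv, hc⟩
theorem mem_W (hv : v ∈ V) (hc : v ∈ C(G)) : v ∈ W := h.hW ▸ ⟨hv, hc⟩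
theorem W_le : W ≤ Y := fun _ hw => h.mem_Y (h.W_le_V hw) (centralizer_anti h.S_le (h.W_le_C hw))
theorem V_le_S : V ≤ S := h.V_le.trans h.T_le
theorem V_le_G : V ≤ G := h.V_le.trans h.T_le_G
theorem V_comm : V ≤ C(V) := h.V_le.trans h.V_cent
theorem V_le_C : V ≤ C(T) := le_centralizer_iff.1 h.V_cent
theorem W_norm : G ≤ N(W) := le_normalizer_of_le_centralizer h.W_cent
theorem finV : Finite V := haveI := h.fin; finite_of_le h.V_le_G
theorem finY : Finite Y := haveI := h.finV; finite_of_le h.Y_le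
theorem pV : IsPGroup p V := h.pT.to_le h.V_le
theorem conj_V (hg : g ∈ G) : V ^ᶜ g = V := conj_eq_of_mem_normalizer (h.V_norm hg)
theorem conj_W (hg : g ∈ G) : W ^ᶜ g = W := conj_eq_of_mem_normalizer (h.W_norm hg)
theorem conj_Y_le (hg : g ∈ G) : Y ^ᶜ g ≤ V := h.conj_V hg ▸ conj_mono g h.Y_le
theorem comm_mem (hv : v ∈ V) (hs : s ∈ S) : ⁅v, s⁆ ∈ Y := h.quad (commutator_mem_commutator hv hs)
theorem comm_mem_V (hv : v ∈ V) (hg : g ∈ G) : ⁅v, g⁆ ∈ V := comm_mem_of_norm (h.V_norm hg) hv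
theorem not_S_cent : ¬ S ≤ C(V) := fun e => h.nc (h.cent_of_norm h.V_norm e)
theorem N_norm_Y : G ⊓ N(S) ≤ N(Y) := h.hY ▸
  le_normalizer_inf (inf_le_left.trans h.V_norm) (le_normalizer_centralizer inf_le_right)

theorem cent_eq : S ⊓ C(V) = T :=
  (h.irr _ (le_inf h.T_le h.V_cent) inf_le_left (le_normalizer_inf inf_le_right
    (le_normalizer_centralizer (inf_le_left.trans h.V_norm)))).resolve_right
      fun e => h.not_S_cent (e.ge.trans inf_le_right)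

theorem mem_T (hs : s ∈ S) (hc : s ∈ C(V)) : s ∈ T := h.cent_eq ▸ ⟨hs, hc⟩
theorem le_T_of_cent (hA : A ≤ S) (hc : A ≤ C(V)) : A ≤ T := h.cent_eq ▸ le_inf hA hc

theorem comm_mul (hv : v ∈ V) (hs : s ∈ S) (ht : t ∈ S) : ⁅v, s * t⁆ = ⁅v, s⁆ * ⁅v, t⁆ := by
  rw [comm_mul_right, conj_eq_of_cent (h.Y_cent hs) (h.comm_mem hv ht)]

theorem mul_comm' (hv : v ∈ V) (hw : w ∈ V) (hg : g ∈ G) : ⁅v * w, g⁆ = ⁅v, g⁆ * ⁅w, g⁆ := by
  rw [comm_mul_left, conj_eq_of_cent (h.V_comm hv) (h.comm_mem_V hw hg)]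
  exact h.V_comm (h.comm_mem_V hv hg) _ (h.comm_mem_V hw hg)

theorem comm_inv (hv : v ∈ V) (hs : s ∈ S) : ⁅v, s⁻¹⁆ = ⁅v, s⁆⁻¹ := by
  rw [eq_inv_iff_mul_eq_one, ← h.comm_mul hv (inv_mem hs) hs, inv_mul_cancel,
    commutatorElement_one_right]

theorem inv_comm (hv : v ∈ V) (hg : g ∈ G) : ⁅v⁻¹, g⁆ = ⁅v, g⁆⁻¹ := by
  rw [eq_inv_iff_mul_eq_one, ← h.mul_comm' (inv_mem hv) hv hg, inv_mul_cancel,
    commutatorElement_one_left]

theorem comm_pow (hv : v ∈ V) (hs : s ∈ S) (n : ℕ) : ⁅v, s ^ n⁆ = ⁅v, s⁆ ^ n := by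
  induction n with
  | zero => rw [pow_zero, pow_zero, commutatorElement_one_right]
  | succ n ih => rw [pow_succ, pow_succ, h.comm_mul hv (pow_mem hs n) hs, ih]

theorem comm_pow_p (hv : v ∈ V) (hs : s ∈ S) : ⁅v, s⁆ ^ p = 1 := by
  rw [← h.comm_pow hv hs, comm_eq_one_of_cent (h.V_cent (h.pow s hs)) hv]

theorem conj (x : H) :
    NM p (G ^ᶜ x) (S ^ᶜ x) (T ^ᶜ x) (M ^ᶜ x) (V ^ᶜ x) (Y ^ᶜ x) (W ^ᶜ x) where
  toRO := h.toRO.conj x
  V_le := conj_mono x h.V_le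
  V_norm := le_normalizer_conj h.V_norm x
  V_cent := by rw [← conj_centralizer]; exact conj_mono x h.V_cent
  hY := by rw [← conj_centralizer, ← conj_inf, h.hY]
  hW := by rw [← conj_centralizer, ← conj_inf, h.hW]
  quad := by rw [← conj_commutator]; exact conj_mono x h.quad
  ncl := by rw [← conj_nclIn]; exact conj_mono x h.ncl
  nc := by rw [← conj_centralizer, conj_le_conj_iff]; exact h.nc
  idx := by rw [LocIdx.relIndex_conj, LocIdx.relIndex_conj]; exact h.idx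

theorem conj_mem (hg : g ∈ G) : NM p G (S ^ᶜ g) T (M ^ᶜ g) V (Y ^ᶜ g) W := by
  have := h.conj g
  rwa [conj_eq_of_mem hg, h.conj_T hg, h.conj_V hg, h.conj_W hg] at this

theorem norm_of_le (h₁ : Y ≤ A) (h₂ : A ≤ V) : S ≤ N(A) :=
  le_normalizer_of_commutator_le ((commutator_mono h₂ le_rfl).trans (h.quad.trans h₁))

theorem sup_conj (hg : g ∈ G) (hgM : g ∉ M) : Y ⊔ Y ^ᶜ g = V := by
  have h₁ : Y ⊔ Y ^ᶜ g ≤ V := sup_le h.Y_le (h.conj_Y_le hg)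
  exact le_antisymm h₁ (h.ncl.trans (nclIn_le le_sup_left (h.gen₃ hg hgM
    (h.norm_of_le le_sup_left h₁) ((h.conj_mem hg).norm_of_le le_sup_right h₁))))

theorem inf_conj (hg : g ∈ G) (hgM : g ∉ M) : Y ⊓ Y ^ᶜ g = W :=
  le_antisymm (h.hW ▸ le_inf (inf_le_left.trans h.Y_le) (le_centralizer_iff.1 (h.gen₃ hg hgM
    (h.Y_cent.trans (centralizer_anti inf_le_left))
      ((h.conj_mem hg).Y_cent.trans (centralizer_anti inf_le_right)))))
    (le_inf h.W_le (h.conj_mem hg).W_le)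

theorem exists_mul (hg : g ∈ G) (hgM : g ∉ M) (hv : v ∈ V) :
    ∃ y ∈ Y, ∃ u ∈ Y ^ᶜ g, y * u = v := by
  rw [← h.sup_conj hg hgM] at hv
  exact (mem_sup_iff_of_le_normalizer (le_normalizer_of_le_centralizer ((h.Y_le.trans h.V_comm).trans
    (centralizer_anti (h.conj_Y_le hg))))).1 hv

theorem le_W_of_norm (h₁ : N ≤ Y) (h₂ : G ≤ N(N)) : N ≤ W :=
  h.hW ▸ le_inf (h₁.trans h.Y_le)
    (le_centralizer_iff.1 (h.cent_of_norm h₂ (h.Y_cent.trans (centralizer_anti h₁))))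

theorem mem_W_of_comm (hy : y ∈ Y) (hc : ∀ x ∈ G, ⁅y, x⁆ ∈ W) : y ∈ W := by
  refine h.le_W_of_norm (N := zpowers y ⊔ W) (sup_le (zpowers_le.2 hy) h.W_le) ?_
    (mem_sup_left (mem_zpowers y))
  haveI := h.finY
  haveI := finite_of_le (sup_le (zpowers_le.2 hy) h.W_le)
  intro x hx
  refine mem_normalizer_of_conj_le ?_
  rw [conj_sup, h.conj_W hx, conj_zpowers]
  refine sup_le (zpowers_le.2 ?_) le_sup_right
  have : x * y * x⁻¹ = ⁅y, x⁆⁻¹ * y := by simp only [commutatorElement_def]; group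
  rw [this]
  exact mul_mem (inv_mem (mem_sup_right (hc x hx))) (mem_sup_left (mem_zpowers y))

theorem comm_Y_mul (hy : y ∈ Y) (hs : s ∈ S) (hv : v ∈ V) : ⁅y * v, s⁆ = ⁅v, s⁆ := by
  rw [h.mul_comm' (h.Y_le hy) hv (h.S_le hs), comm_eq_one_of_cent (h.Y_cent hs) hy, one_mul]

/-- An element of `V` fixed modulo `W` by an element of `S` outside `T` lies in `Y`. -/
theorem key (hv : v ∈ V) (ha : a ∈ S) (haT : a ∉ T) (hc : ⁅v, a⁆ ∈ W) : v ∈ Y := by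
  obtain ⟨g, hg, hgM⟩ := h.exists_G
  obtain ⟨y, hy, u, hu, rfl⟩ := h.exists_mul hg hgM hv
  rw [h.comm_Y_mul hy ha (h.conj_Y_le hg hu)] at hc
  refine mul_mem hy (h.W_le ((h.conj_mem hg).mem_W_of_comm hu fun x hx => ?_))
  refine (mem_stab.1 (h.gen (K := stab W u) hg hgM ha haT (fun s hs => mem_stab.2
    ⟨h.W_norm (h.conj_S_le hg hs), ?_⟩) (mem_stab.2 ⟨h.W_norm (h.S_le ha), hc⟩) hx)).2
  rw [comm_eq_one_of_cent ((h.conj_mem hg).Y_cent hs) hu]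
  exact one_mem _

theorem key' (hv : v ∈ V) (hvY : v ∉ Y) (ha : a ∈ S) (hc : ⁅v, a⁆ ∈ W) : a ∈ T :=
  by_contra fun haT => hvY (h.key hv ha haT hc)

theorem mem_Y_of_comm (hv : v ∈ V) (ha : a ∈ S) (haT : a ∉ T) (hc : a * v = v * a) : v ∈ Y :=
  h.key hv ha haT (by rw [commutatorElement_eq_one_iff_mul_comm.2 hc.symm]; exact one_mem _)

theorem inf_cent_le (hA : A ≤ S) (hT : ¬ A ≤ T) : V ⊓ C(A) ≤ Y :=
  let ⟨a, ha, haT⟩ := SetLike.not_le_iff_exists.1 hT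
  fun _ hv => h.mem_Y_of_comm hv.1 (hA ha) haT (hv.2 a ha)

theorem not_le_Y : ¬ V ≤ Y := fun e => h.not_S_cent (h.Y_cent.trans (centralizer_anti e))

theorem exists_V : ∃ v ∈ V, v ∉ Y := SetLike.not_le_iff_exists.1 h.not_le_Y

theorem not_comm_le : ¬ ⁅V, S⁆ ≤ W := fun e =>
  let ⟨_, hv, hvY⟩ := h.exists_V
  let ⟨_, ha, haT⟩ := h.exists_S
  hvY (h.key hv ha haT (e (commutator_mem_commutator hv ha)))

theorem not_Y_le : ¬ Y ≤ W := fun e => h.not_comm_le (h.quad.trans e)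

theorem comm_iff (hv : v ∈ V) (hvY : v ∉ Y) (hs : s ∈ S) (ht : t ∈ S) :
    ⁅v, s⁆⁻¹ * ⁅v, t⁆ ∈ W ↔ s⁻¹ * t ∈ T := by
  rw [← h.comm_inv hv hs, ← h.comm_mul hv (inv_mem hs) ht]
  exact ⟨h.key' hv hvY (mul_mem (inv_mem hs) ht), fun e => by
    rw [comm_eq_one_of_cent (h.V_cent e) hv]; exact one_mem _⟩

theorem comm_iff' (ha : a ∈ S) (haT : a ∉ T) (hv : v ∈ V) (hw : w ∈ V) :
    ⁅v, a⁆⁻¹ * ⁅w, a⁆ ∈ W ↔ v⁻¹ * w ∈ Y := by
  rw [← h.inv_comm hv (h.S_le ha), ← h.mul_comm' (inv_mem hv) hw (h.S_le ha)]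
  exact ⟨h.key (mul_mem (inv_mem hv) hw) ha haT, fun e => by
    rw [comm_eq_one_of_cent (h.Y_cent ha) e]; exact one_mem _⟩

theorem idx_VY : Y.relIndex V = W.relIndex Y := by
  obtain ⟨g, hg, hgM⟩ := h.exists_G
  have := relIndex_sup_of_le_normalizer (H := Y ^ᶜ g) (N := Y) (le_normalizer_of_le_centralizer
    (((h.conj_Y_le hg).trans h.V_comm).trans (centralizer_anti h.Y_le)))
  rw [sup_comm, h.sup_conj hg hgM, ← inf_relIndex_right Y (Y ^ᶜ g), h.inf_conj hg hgM] at this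
  rw [this, ← LocIdx.relIndex_conj W Y g, h.conj_W hg]

theorem idx_ST : T.relIndex S = W.relIndex Y := by
  obtain ⟨v, hv, hvY⟩ := h.exists_V
  haveI := h.finY
  exact le_antisymm (relIndex_le_of_map (fun s => ⁅v, s⁆) (fun s hs => h.comm_mem hv hs)
    fun s hs t ht => (h.comm_iff hv hvY hs ht).1) (h.idx_VY ▸ h.idx)

theorem idx_eq : Y.relIndex V = T.relIndex S := h.idx_VY.trans h.idx_ST.symm

theorem surj₁ (hv : v ∈ V) (hvY : v ∉ Y) (hy : y ∈ Y) : ∃ s ∈ S, ⁅v, s⁆⁻¹ * y ∈ W :=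
  haveI := h.finY
  exists_of_relIndex_le (fun s => ⁅v, s⁆) (fun _ hs => h.comm_mem hv hs)
    (fun _ hs _ ht => h.comm_iff hv hvY hs ht) h.idx_ST.ge hy

theorem surj₂ (ha : a ∈ S) (haT : a ∉ T) (hy : y ∈ Y) : ∃ v ∈ V, ⁅v, a⁆⁻¹ * y ∈ W :=
  haveI := h.finY
  exists_of_relIndex_le (fun v => ⁅v, a⁆) (fun _ hv => h.comm_mem hv ha)
    (fun _ hv _ hw => h.comm_iff' ha haT hv hw) h.idx_VY.ge hy

theorem Y_le_sup (hA : A ≤ S) (hT : ¬ A ≤ T) : Y ≤ ⁅V, A⁆ ⊔ W := fun y hy => by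
  obtain ⟨a, ha, haT⟩ := SetLike.not_le_iff_exists.1 hT
  obtain ⟨v, hv, e⟩ := h.surj₂ (hA ha) haT hy
  rw [← mul_inv_cancel_left ⁅v, a⁆ y]
  exact mul_mem_sup (commutator_mem_commutator hv ha) e

theorem M_norm : M ≤ N(Y) := fun m hm => by
  haveI := h.finY
  refine mem_normalizer_of_conj_le fun v hv => by_contra fun hvY => ?_
  obtain ⟨g, hg, hgM⟩ := h.exists_G
  have hmG := h.M_le hm
  obtain ⟨y, hy, u, hu, e⟩ := h.exists_mul hg hgM (h.conj_Y_le hmG hv)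
  have huV := h.conj_Y_le hg hu
  obtain ⟨s, hs, hw⟩ := h.surj₁ huV (fun hu => hvY (e ▸ mul_mem hy hu)) (inv_mem hy)
  have hsg : m⁻¹ * (s * g) ∉ M := fun k => hgM (by
    simpa only [mul_inv_cancel_left, inv_mul_cancel_left] using
      mul_mem (inv_mem (h.S_le_M hs)) (mul_mem hm k))
  have hsG := mul_mem (h.S_le hs) hg
  have h₁ : v ∈ Y ^ᶜ (s * g) := by
    have e₁ : v = (⁅u, s⁆⁻¹ * y⁻¹)⁻¹ * (s * u * s⁻¹) := by
      rw [← e]; simp only [commutatorElement_def]; group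
    rw [e₁]
    exact mul_mem (inv_mem ((h.conj_mem hsG).W_le hw)) (conj_conj Y g s ▸ conj_mem_conj s hu)
  have h₂ : v ∈ (Y ⊓ Y ^ᶜ (m⁻¹ * (s * g))) ^ᶜ m := by
    rw [conj_inf, conj_conj, mul_inv_cancel_left]; exact ⟨hv, h₁⟩
  rw [h.inf_conj (mul_mem (inv_mem hmG) hsG) hsg, h.conj_W hmG] at h₂
  exact hvY (h.W_le h₂)

theorem exists_pow_eq (hy : y ∈ Y) : ∃ w ∈ W, y ^ p = w ^ p := by
  obtain ⟨a, ha, haT⟩ := h.exists_S
  obtain ⟨v, hv, e⟩ := h.surj₂ ha haT hy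
  refine ⟨_, e, ?_⟩
  rw [Commute.mul_pow (h.V_comm (h.Y_le hy) _ (inv_mem (h.Y_le (h.comm_mem hv ha)))), inv_pow,
    h.comm_pow_p hv ha, inv_one, one_mul]

theorem exists_pow_eq' (hv : v ∈ V) : ∃ w ∈ W, v ^ p = w ^ p := by
  obtain ⟨g, hg, hgM⟩ := h.exists_G
  obtain ⟨y, hy, u, hu, rfl⟩ := h.exists_mul hg hgM hv
  obtain ⟨w, hw, e⟩ := h.exists_pow_eq hy
  obtain ⟨w', hw', e'⟩ := (h.conj_mem hg).exists_pow_eq hu
  refine ⟨w * w', mul_mem hw hw', ?_⟩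
  rw [Commute.mul_pow (h.V_comm (h.conj_Y_le hg hu) _ (h.Y_le hy)), e, e',
    Commute.mul_pow (h.V_comm (h.W_le_V hw') _ (h.W_le_V hw))]

theorem pow_mem_W (hv : v ∈ V) : v ^ p ∈ W :=
  let ⟨_, hw, e⟩ := h.exists_pow_eq' hv
  e ▸ pow_mem hw p

end NM

end Cfsg.Agent.Lib.PushBase
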