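import Cfsg.Agent.Lib.PushNM

/-! The rank one pushing up situation `PU` and the natural module `⟨Z(S)^G⟩` (`PK`). -/

set_option autoImplicit false
open Cfsg

namespace Cfsg.Agent.Lib.PushBase

open Subgroup Cfsg.Agent.Lib.PCoreConj Cfsg.Agent.Lib.PCore Cfsg.Agent.Lib.PCoreResidual Cfsg.Agent.Lib.PCoreMod
open Cfsg.Agent.Lib.PReduced Cfsg.Agent.Lib.PIrred Cfsg.Agent.Lib.ThompsonJ
open scoped Pointwise commutatorElement

variable {H : Type*} [Group H] {p : ℕ}

theorem abExp_of_le_cent {A : Subgroup H} (h : A ≤ C(A)) : AbExp 0 A :=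
  abExp_zero_iff.2 (isMulCommutative_iff_forall.2 fun a ha b hb => h hb a ha)

theorem center_le_maxAb {S A : Subgroup H} [Finite S] (h : MaxAb 0 S A) : Z(S) ≤ A :=
  (inf_centralizer_le_ZJ S).trans h.ZJ_le

theorem le_norm_center {S L : Subgroup H} (h : L ≤ N(S)) : L ≤ N(Z(S)) :=
  le_normalizer_inf h (le_normalizer_centralizer h)

theorem conj_center (S : Subgroup H) (g : H) : (Z(S)) ^ᶜ g = Z(S ^ᶜ g) := by
  rw [conj_inf, conj_centralizer]

/-- The rank one pushing up situation. -/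
structure PU (p : ℕ) (G S T M : Subgroup H) : Prop extends RO p G S T M where
  char : G ⊓ C(T) ≤ T

/-- The pushing up situation in which `V = ⟨Z(S)^G⟩` is a natural module over `Z(G)`. -/
structure PK (p : ℕ) (G S T M V : Subgroup H) : Prop extends NM p G S T M V Z(S) Z(G) where
  char : G ⊓ C(T) ≤ T

variable {G S T M V A B R N K : Subgroup H} {g a : H}

theorem PK.pu (h : PK p G S T M V) : PU p G S T M := ⟨h.toRO, h.char⟩

namespace PU
variable (h : PU p G S T M)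
include h

theorem conj (x : H) : PU p (G ^ᶜ x) (S ^ᶜ x) (T ^ᶜ x) (M ^ᶜ x) where
  toRO := h.toRO.conj x
  char := by rw [← conj_centralizer, ← conj_inf]; exact conj_mono x h.char

theorem conj_mem (hg : g ∈ G) : PU p G (S ^ᶜ g) T (M ^ᶜ g) := ⟨h.toRO.conj_mem hg, h.char⟩

theorem Z_le_T : Z(S) ≤ T := (inf_le_inf h.S_le (centralizer_anti h.T_le)).trans h.char

theorem ZG_le : Z(G) ≤ Z(S) :=
  le_inf (((inf_le_inf_left _ (centralizer_anti h.T_le_G)).trans h.char).trans h.T_le)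
    (inf_le_right.trans (centralizer_anti h.S_le))

theorem ncl_le : nclIn Z(S) G ≤ T := nclIn_le h.Z_le_T h.T_norm

theorem ncl_cent : T ≤ C(nclIn Z(S) G) :=
  le_centralizer_iff.1 (nclIn_le_centralizer h.T_norm
    (inf_le_right.trans (centralizer_anti h.T_le)))

theorem norm_Z_iff : G ≤ N(Z(S)) ↔ G ≤ C(Z(S)) :=
  ⟨fun e => h.cent_of_norm e (le_centralizer_iff.1 inf_le_right), le_normalizer_of_le_centralizer⟩

variable [hp : Fact p.Prime]

theorem pk (hV : nclIn Z(S) G = V) (nc : ¬ G ≤ C(Z(S))) (hTR : T ≤ R) (hRS : R ≤ S)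
    (hRT : ¬ R ≤ T) (hm : meas V T ≤ meas V R) : PK p G S T M V := by
  haveI := h.finS
  have hVT : V ≤ T := hV ▸ h.ncl_le
  have hVS := hVT.trans h.T_le
  haveI := finite_of_le hVS
  have hTV : T ≤ C(V) := hV ▸ h.ncl_cent
  have hZV : Z(S) ≤ V := hV ▸ le_nclIn _ _
  have hGV : G ≤ N(V) := hV ▸ le_normalizer_nclIn _ _
  have hY : V ⊓ C(S) = Z(S) := le_antisymm (inf_le_inf_right _ hVS) (le_inf hZV inf_le_right)
  have nc' : ¬ G ≤ C(V) := fun e => nc (e.trans (centralizer_anti hZV))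
  have nS : ¬ S ≤ C(V) := fun e => nc' (h.cent_of_norm hGV e)
  have hVC : V ⊓ C(T) = V := inf_eq_left.2 (le_centralizer_iff.1 hTV)
  have hS : Best T S V S := by
    obtain ⟨Q, hQ, hQ'⟩ := exists_best_top (V := V) h.T_le
    have hn : G ⊓ N(S) ≤ N(Q) := fun x hx => by
      haveI := finite_of_le hQ.le
      have := hQ.conj x
      rw [h.conj_T hx.1, conj_eq_of_mem_normalizer hx.2,
        conj_eq_of_mem_normalizer (hGV hx.1)] at this
      exact mem_normalizer_of_conj_le (hQ' _ this)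
    rcases h.irr Q hQ.ge hQ.le hn with e | e
    · subst e
      exact absurd (hQ' R (hQ.of_le hTR hRS hm)) hRT
    · exact e ▸ hQ
  have hSV := h.S_le.trans hGV
  obtain ⟨A, hA, hA₁, hA₂⟩ := hS.exists_quadratic (hVT.trans hTV) hSV hTV (h.comm.trans hTV)
  have hVSV : ⁅V, S⁆ ≤ V := commutator_le_left_of_le_normalizer hSV
  have hq : S ⊓ C(⁅V, S⁆) = S := by
    refine h.eq_S (le_inf h.T_le (hTV.trans (centralizer_anti hVSV))) inf_le_left
      (le_normalizer_inf inf_le_right (le_normalizer_centralizer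
        (le_normalizer_commutator (inf_le_left.trans hGV) inf_le_right))) fun e => nS ?_
    rw [le_antisymm ((le_inf hA.le hA₂).trans e) hA.ge, hVC, sup_comm] at hA₁
    refine le_centralizer_iff.1 (le_trans (le_of_le_sup_commutator h.pS (h.pS.to_le hVS) hSV
      (le_normalizer_inf hSV (le_normalizer_centralizer le_normalizer)) ?_ hA₁) inf_le_right)
    exact le_normalizer_of_le_centralizer ((hVT.trans hTV).trans (centralizer_anti inf_le_left))
  refine ⟨⟨h.toRO, hVT, hGV, hTV, hY, le_antisymm (inf_le_inf_right _ (hVS.trans h.S_le))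
    (le_inf (h.ZG_le.trans hZV) inf_le_right), le_inf (hVSV.trans hVS)
      (le_centralizer_iff.1 (hq.ge.trans inf_le_right)), hV.ge, nc', ?_⟩, h.char⟩
  have := hS.max T le_rfl h.T_le
  rw [meas, meas, hVC, hY, ← card_mul_relIndex hZV, ← card_mul_relIndex h.T_le, mul_assoc,
    mul_comm (T.relIndex S)] at this
  exact Nat.le_of_mul_le_mul_left (Nat.le_of_mul_le_mul_left this (card_pos_of_le h.T_le))
    (card_pos_of_le hZV)

omit hp in
theorem card_inf_mul_le (hVT : V ≤ T) (hTV : T ≤ C(V)) (hA : MaxAb 0 S A) :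
    Nat.card ↥(A ⊓ T) * Nat.card V ≤ Nat.card A * Nat.card ↥(A ⊓ V) := by
  have hc : A ⊓ T ≤ C(V) := inf_le_right.trans hTV
  rw [← card_sup_mul_card_inf (le_normalizer_of_le_centralizer hc), inf_assoc, inf_eq_right.2 hVT]
  exact Nat.mul_le_mul_right _ (hA.card_le (sup_le (inf_le_left.trans hA.le) (hVT.trans h.T_le))
    ((hA.abExp.mono inf_le_left).sup (abExp_of_le_cent (hVT.trans hTV)) hc))

theorem pk_of_maxAb (nc : ¬ G ≤ C(Z(S))) (hA : MaxAb 0 S A) (hAT : ¬ A ≤ T) :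
    PK p G S T M (nclIn Z(S) G) := by
  haveI := h.finS
  refine h.pk rfl nc le_sup_right (sup_le hA.le h.T_le) (fun e => hAT (le_sup_left.trans e)) ?_
  set V := nclIn Z(S) G
  have hVT : V ≤ T := h.ncl_le
  have hTV : T ≤ C(V) := h.ncl_cent
  have h₁ := h.card_inf_mul_le hVT hTV hA
  have h₂ := card_sup_mul_card_inf ((hA.le.trans h.S_le).trans h.T_norm)
  haveI := finite_of_le (inf_le_left.trans (hVT.trans h.T_le) : V ⊓ C(A ⊔ T) ≤ S)
  have h₃ : Nat.card ↥(A ⊓ V) ≤ Nat.card ↥(V ⊓ C(A ⊔ T)) := card_le_of_le (le_inf inf_le_right (by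
    rw [centralizer_sup]
    exact le_inf (inf_le_left.trans hA.abExp.le_centralizer)
      (inf_le_right.trans (le_centralizer_iff.1 hTV))))
  rw [meas, meas, inf_eq_left.2 (le_centralizer_iff.1 hTV)]
  refine Nat.le_of_mul_le_mul_left ?_ (card_pos_of_le (inf_le_left.trans hA.le : A ⊓ T ≤ S))
  calc _ = Nat.card T * (Nat.card ↥(A ⊓ T) * Nat.card V) := by ring
    _ ≤ Nat.card T * (Nat.card A * Nat.card ↥(V ⊓ C(A ⊔ T))) :=
      Nat.mul_le_mul_left _ (h₁.trans (Nat.mul_le_mul_left _ h₃))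
    _ = (Nat.card A * Nat.card T) * Nat.card ↥(V ⊓ C(A ⊔ T)) := by ring
    _ = _ := by rw [← h₂]; ring

end PU

namespace PK
variable (h : PK p G S T M V)
include h

theorem conj (x : H) : PK p (G ^ᶜ x) (S ^ᶜ x) (T ^ᶜ x) (M ^ᶜ x) (V ^ᶜ x) where
  toNM := by rw [← conj_center, ← conj_center]; exact h.toNM.conj x
  char := (h.pu.conj x).char

theorem conj_mem (hg : g ∈ G) : PK p G (S ^ᶜ g) T (M ^ᶜ g) V where
  toNM := by rw [← conj_center]; exact h.toNM.conj_mem hg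
  char := h.char

theorem ncl_eq : nclIn Z(S) G = V := le_antisymm (nclIn_le h.Y_le h.V_norm) h.ncl

theorem not_cent : ¬ G ≤ C(Z(S)) := fun e =>
  h.not_Y_le (le_inf (inf_le_left.trans h.S_le) (le_centralizer_iff.1 e))

theorem not_norm_Z : ¬ G ≤ N(Z(S)) := fun e => h.not_cent (h.pu.norm_Z_iff.1 e)

theorem inf_maxAb (hA : MaxAb 0 S A) (hAT : ¬ A ≤ T) : A ⊓ V = Z(S) :=
  haveI := h.finS
  le_antisymm ((le_inf inf_le_right (inf_le_left.trans hA.abExp.le_centralizer)).trans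
    (h.inf_cent_le hA.le hAT)) (le_inf (center_le_maxAb hA) h.Y_le)

theorem relIndex_maxAb (hA : MaxAb 0 S A) (hAT : ¬ A ≤ T) : T.relIndex A = T.relIndex S := by
  haveI := h.finS
  refine le_antisymm (relIndex_le_of_le_right hA.le (LocIdx.relIndex_ne_zero_of_finite _ _)) ?_
  have h₁ := h.pu.card_inf_mul_le h.V_le h.V_cent hA
  rw [h.inf_maxAb hA hAT, ← card_mul_relIndex h.Y_le, ← card_inf_mul_relIndex T A, inf_comm T A,
    mul_assoc, mul_comm (T.relIndex A), h.idx_eq] at h₁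
  exact Nat.le_of_mul_le_mul_left (Nat.le_of_mul_le_mul_left h₁
    (card_pos_of_le (inf_le_left.trans hA.le : A ⊓ T ≤ S))) (card_pos_of_le inf_le_left)

theorem sup_of_relIndex (hA : A ≤ S) (e : T.relIndex S ≤ T.relIndex A) : A ⊔ T = S := by
  haveI := h.finS
  refine eq_of_le_of_card_le (sup_le hA h.T_le) ?_
  rw [← card_mul_relIndex h.T_le, ← card_mul_relIndex (le_sup_right : T ≤ A ⊔ T),
    relIndex_sup_of_le_normalizer ((hA.trans h.S_le).trans h.T_norm)]
  exact Nat.mul_le_mul_left _ e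

theorem sup_maxAb (hA : MaxAb 0 S A) (hAT : ¬ A ≤ T) : A ⊔ T = S :=
  h.sup_of_relIndex hA.le (h.relIndex_maxAb hA hAT).ge

theorem card_inf_sup (hA : A ≤ S) (h₁ : A ⊓ V = Z(S)) (h₂ : A ⊔ T = S) :
    Nat.card ↥(A ⊓ T ⊔ V) = Nat.card A := by
  haveI := h.finS
  have h₃ := card_sup_mul_card_inf
    (le_normalizer_of_le_centralizer (inf_le_right.trans h.V_cent : A ⊓ T ≤ C(V)))
  rw [inf_assoc, inf_eq_right.2 h.V_le, h₁, ← card_mul_relIndex h.Y_le, h.idx_eq, ← h₂,
    relIndex_sup_of_le_normalizer ((hA.trans h.S_le).trans h.T_norm), h₂, mul_left_comm,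
    inf_comm A T, card_inf_mul_relIndex, mul_comm] at h₃
  rw [inf_comm A T]
  exact Nat.eq_of_mul_eq_mul_left (card_pos_of_le inf_le_left) h₃

theorem inf_sup_le (A : Subgroup H) : A ⊓ T ⊔ V ≤ T := sup_le inf_le_right h.V_le

theorem maxAb_inf_sup (hA : MaxAb 0 S A) (hAT : ¬ A ≤ T) : MaxAb 0 S (A ⊓ T ⊔ V) :=
  hA.of_card_le ((h.inf_sup_le A).trans h.T_le) ((hA.abExp.mono inf_le_left).sup
    (abExp_of_le_cent h.V_comm) (inf_le_right.trans h.V_cent))
      (h.card_inf_sup hA.le (h.inf_maxAb hA hAT) (h.sup_maxAb hA hAT)).ge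

theorem exists_maxAb_le : ∃ B, MaxAb 0 S B ∧ B ≤ T := by
  haveI := h.finS
  obtain ⟨A, hA⟩ := exists_maxAb 0 S
  by_cases hAT : A ≤ T
  · exact ⟨A, hA, hAT⟩
  · exact ⟨_, h.maxAb_inf_sup hA hAT, h.inf_sup_le A⟩

theorem maxAb_of_T (hB : MaxAb 0 T B) : MaxAb 0 S B :=
  let ⟨_, hA, hAT⟩ := h.exists_maxAb_le
  hA.of_le' hAT h.T_le hB

theorem V_le_maxAb (hB : MaxAb 0 S B) (hBT : B ≤ T) : V ≤ B :=
  haveI := h.finS
  hB.le_of_le_centralizer h.V_le_S (abExp_of_le_cent h.V_comm) (hBT.trans h.V_cent)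

theorem comm_inf_sup_le (hA : AbExp 0 A) (hAG : A ≤ G) : ⁅A ⊓ T ⊔ V, A⁆ ≤ ⁅V, A⁆ := by
  rw [commutator_comm, commutator_comm V]
  have hn : A ≤ N(⁅A, V⁆) := le_normalizer_commutator le_normalizer (hAG.trans h.V_norm)
  refine commutator_sup_le (inf_le_left.trans hn) (le_normalizer_of_le_centralizer
    (h.V_comm.trans (centralizer_anti (commutator_le_right_of_le_normalizer
      (hAG.trans h.V_norm))))) ?_ le_rfl
  exact (commutator_eq_bot_iff_le_centralizer'.2 (inf_le_left.trans hA.le_centralizer)).trans_le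
    bot_le

theorem meas_le : meas S S ≤ meas S T := by
  haveI := h.finS
  haveI := finite_of_le (inf_le_left : S ⊓ C(T) ≤ S)
  refine le_trans ?_ (Nat.mul_le_mul_left _ (card_le_of_le (le_inf h.V_le_S h.V_le_C)))
  rw [meas, ← card_mul_relIndex h.Y_le, ← card_mul_relIndex h.T_le, h.idx_eq]
  exact le_of_eq (by ring)

theorem cd_T (hS : CD S S) : CD S T := hS.of_le' h.T_le h.meas_le

theorem cent_T (hS : CD S S) : S ⊓ C(T) = V := by
  haveI := h.finS
  haveI := finite_of_le (inf_le_left : S ⊓ C(T) ≤ S)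
  refine (eq_of_le_of_card_le (le_inf h.V_le_S h.V_le_C) ?_).symm
  have := hS.max' h.T_le
  rw [meas, meas, ← card_mul_relIndex h.T_le, mul_assoc, ← h.idx_eq, mul_comm (Subgroup.relIndex _ _),
    card_mul_relIndex h.Y_le] at this
  exact Nat.le_of_mul_le_mul_left this (card_pos_of_le h.T_le)

theorem center_T (hS : CD S S) : Z(T) = V :=
  le_antisymm ((inf_le_inf_right _ h.T_le).trans (h.cent_T hS).le) (le_inf h.V_le h.V_le_C)

theorem cd_V (hS : CD S S) : CD S V :=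
  haveI := h.finS
  h.cent_T hS ▸ (h.cd_T hS).cent

theorem sup_cd (hS : CD S S) (hR : CD S R) (hRT : ¬ R ≤ T) : R ⊔ T = S := by
  haveI := h.finS
  have h₁ := hR.sup (h.cd_T hS)
  refine le_antisymm h₁.le (CD.le_of_cent_le h₁ le_rfl ?_)
  rw [centralizer_sup, inf_comm (centralizer (R : Set H)), ← inf_assoc, h.cent_T hS]
  exact (h.inf_cent_le hR.le hRT).trans inf_le_right

theorem inf_cd (hS : CD S S) (hR : CD S R) (hRV : ¬ V ≤ R) : R ⊓ V = Z(S) := by
  haveI := h.finS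
  have h₁ := hR.inf (h.cd_V hS)
  refine le_antisymm ?_ (CD.center_le h₁)
  have h₂ := h.sup_cd hS hR.cent fun e => hRV (hR.le_of_cent_le h.V_le_S
    (e.trans h.V_cent))
  refine le_inf h₁.le (le_centralizer_iff.1 ?_)
  rw [← h₂]
  exact sup_le (inf_le_right.trans (centralizer_anti inf_le_left))
    (h.V_cent.trans (centralizer_anti inf_le_right))

theorem cent_T_le (hS : CD S S) : S ⊓ C(T) ≤ T := (h.cent_T hS).le.trans h.V_le

theorem cd_restrict (hR : CD S R) (h₁ : V ≤ R) (h₂ : R ≤ T) : CD T R :=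
  haveI := h.finS
  hR.restrict h.T_le h₂ ((inf_le_inf_left _ (centralizer_anti h₁)).trans h.cent_eq.le)

theorem cd_extend (hS : CD S S) (hR : CD T R) : CD S R :=
  haveI := h.finS
  hR.extend (h.cd_T hS) (h.cent_T_le hS)

theorem cd_TT (hS : CD S S) : CD T T := h.cd_restrict (h.cd_T hS) h.V_le le_rfl

theorem rp_T (hS : RP S) : RP T where
  top := h.cd_TT hS.top
  ab B hB := h.cd_restrict (hS.ab B (h.maxAb_of_T hB)) (h.V_le_maxAb (h.maxAb_of_T hB) hB.le) hB.le

/-- Moving a member of the lattice across the vertex. -/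
theorem cd_conj (hS : CD S S) (hg : g ∈ G) (hR : CD S R) (h₁ : V ≤ R) (h₂ : R ≤ T) :
    CD (S ^ᶜ g) R :=
  (h.conj_mem hg).cd_extend (hS.conj' g) (h.cd_restrict hR h₁ h₂)

theorem maxAb_conj (hg : g ∈ G) (hB : MaxAb 0 S B) (hBT : B ≤ T) : MaxAb 0 (S ^ᶜ g) B :=
  (h.conj_mem hg).maxAb_of_T (hB.of_le hBT h.T_le)

end PK

end Cfsg.Agent.Lib.PushBase
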