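import Cfsg.Agent.Lib.PushPath

/-! Two rank one pushing up groups over the same Sylow subgroup. -/

set_option autoImplicit false
open Cfsg

namespace Cfsg.Agent.Lib.PushBase

open Subgroup Cfsg.Agent.Lib.PCoreConj Cfsg.Agent.Lib.PCore Cfsg.Agent.Lib.PCoreResidual Cfsg.Agent.Lib.PCoreMod
open Cfsg.Agent.Lib.PReduced Cfsg.Agent.Lib.PIrred Cfsg.Agent.Lib.ThompsonJ
open scoped Pointwise commutatorElement

variable {H : Type*} [Group H] {p : ℕ} [hp : Fact p.Prime]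

section Normal
variable {G S T M V L A : Subgroup H} {g : H}

theorem RO.res_le (h : RO p G S T M) (hA : A ≤ S) (hT : ¬ A ≤ T) :
    pResidualOf p G ≤ nclIn A G :=
  haveI := h.fin
  (h.min.pIrrIn h.pS).le_nclIn (h.pS.to_le hA) (hA.trans h.S_le) (h.core ▸ hT)

theorem RO.res_sup (h : RO p G S T M) : pResidualOf p G ⊔ S = G :=
  haveI := h.fin
  pResidualOf_sup_of_isSylowIn h.syl

theorem RO.res_not_le (h : RO p G S T M) : ¬ pResidualOf p G ≤ M := fun e =>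
  h.min.lt.not_ge (h.res_sup.ge.trans (sup_le e h.S_le_M))

omit hp in
theorem RO.inf_sup (h : RO p G S T M) (hn : G ≤ N(L)) (hT : ¬ L ⊓ S ≤ T) : L ⊓ S ⊔ T = S :=
  h.eq_S le_sup_right (sup_le inf_le_right h.T_le) (le_normalizer_sup (le_normalizer_inf
    (inf_le_left.trans hn) inf_le_right) (inf_le_left.trans h.T_norm))
      fun e => hT (le_sup_left.trans e)

theorem RO.normal (h : RO p G S T M) (hL : L ≤ G) (hn : G ≤ N(L)) (hT : ¬ L ⊓ S ≤ T) :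
    RO p L (L ⊓ S) (L ⊓ T) (L ⊓ M) := by
  haveI := h.fin
  have hS := h.inf_sup hn hT
  have hS' : ∀ K, L ⊓ S ≤ K → S ≤ K ⊔ T := fun K hK => hS.ge.trans (sup_le_sup_right hK _)
  have hTR : T ≤ N(L ⊓ S) := le_normalizer_inf (h.T_le_G.trans hn) (h.T_le.trans le_normalizer)
  have hLT : G ≤ L ⊔ T := h.le_of_norm (hS' _ inf_le_left) (le_normalizer_sup hn h.T_norm)
  have key : ∀ K, L ⊓ S ≤ K → K ≤ L → G ≤ K ⊔ T → K = L := fun K h₁ h₂ h₃ => by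
    have := sup_inf_of_le_normalizer ((h₂.trans hL).trans h.T_norm) h₂
    rw [inf_eq_right.2 (hL.trans h₃), sup_eq_left.2 ((le_inf inf_le_right
      (inf_le_left.trans h.T_le)).trans h₁)] at this
    exact this.symm
  have min : MinOver (L ⊓ S) (L ⊓ M) L := by
    refine ⟨key _ (le_nclIn _ _) (nclIn_le_of_le inf_le_left) (h.le_of_norm (hS' _ (le_nclIn _ _))
      (hLT.trans (sup_le (le_normalizer_sup (le_normalizer_nclIn _ _) (hL.trans h.T_norm))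
        (le_normalizer_of_le le_sup_right)))), inf_le_inf_left _ h.S_le_M,
      lt_of_le_of_ne inf_le_left fun e => h.min.lt.not_ge (hLT.trans
        (sup_le (e.ge.trans inf_le_right) h.T_le_M)), fun K h₁ h₂ => le_inf h₂.le fun k hk => ?_⟩
    by_contra e
    exact h₂.ne (key K h₁ h₂.le (h.gen' (hS' _ h₁) (hL (h₂.le hk)) e (mem_sup_left hk)))
  refine ⟨finite_of_le hL, by rw [inf_comm]; exact h.syl.inf_normal hL hn, by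
    rw [pCoreOf_eq_inf_of_normal hL hn, h.core, inf_comm], min,
    fun g hg hgM => le_inf (inf_le_left.trans inf_le_left) ((inf_le_inf inf_le_right
      (conj_mono g inf_le_right)).trans (h.ti g (hL hg) fun e => hgM (mem_inf.2 ⟨hg, e⟩))),
    le_inf ((commutator_le_left_of_le_normalizer le_normalizer).trans inf_le_left)
      ((commutator_mono inf_le_right inf_le_right).trans h.comm),
    fun s hs => mem_inf.2 ⟨pow_mem (mem_inf.1 hs).1 p, h.pow s (mem_inf.1 hs).2⟩,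
    fun X h₁ h₂ h₃ => ?_⟩
  refine (h.irr (X ⊔ T) le_sup_right (sup_le (h₂.trans inf_le_right) h.T_le) fun x hx => ?_).imp
    (fun e => le_antisymm (le_inf (h₂.trans inf_le_left) (le_sup_left.trans e.le)) h₁) fun e => ?_
  · obtain ⟨l, hl, t, ht, rfl⟩ := (mem_sup_iff_of_le_normalizer (hL.trans h.T_norm)).1 (hLT hx.1)
    refine mul_mem (le_normalizer_sup h₃ ((inf_le_left.trans hL).trans h.T_norm)
      (mem_inf.2 ⟨hl, ?_⟩)) (le_normalizer_of_le le_sup_right ht)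
    have := mul_mem (le_normalizer_inf (inf_le_left.trans hn) inf_le_right hx) (inv_mem (hTR ht))
    rwa [mul_inv_cancel_right] at this
  · have := sup_inf_of_le_normalizer (((h₂.trans inf_le_left).trans hL).trans h.T_norm) h₂
    rw [e, inf_eq_right.2 inf_le_right, sup_eq_left.2 (le_trans (le_inf
      (inf_le_right.trans inf_le_left) inf_le_left) h₁)] at this
    exact this.symm

theorem PU.normal (h : PU p G S T M) (hL : L ≤ G) (hn : G ≤ N(L)) (hT : ¬ L ⊓ S ≤ T) :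
    PU p L (L ⊓ S) (L ⊓ T) (L ⊓ M) where
  toRO := h.toRO.normal hL hn hT
  char := by
    haveI := h.fin
    have h₁ : CharPIn p G := by rw [CharPIn, h.core]; exact h.char
    have h₂ := h₁.normal hL hn
    rwa [CharPIn, (h.toRO.normal hL hn hT).core] at h₂

end Normal

/-- Two pushing up groups with natural modules over the same Sylow subgroup. -/
structure Pair (p : ℕ) (G₁ G₂ S T₁ T₂ M₁ M₂ V₁ V₂ : Subgroup H) : Prop where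
  k₁ : PK p G₁ S T₁ M₁ V₁
  k₂ : PK p G₂ S T₂ M₂ V₂
  rp : RP S
  ne : T₁ ≠ T₂
  o₁ : ∃ A, MaxAb 0 S A ∧ ¬ A ≤ T₁
  o₂ : ∃ A, MaxAb 0 S A ∧ ¬ A ≤ T₂

/-- The exceptional configuration. -/
structure Exc (G₁ G₂ M₁ M₂ V₁ V₂ : Subgroup H) : Prop where
  n₁ : ¬ G₁ ≤ N(V₁ ⊔ V₂)
  n₂ : ¬ G₂ ≤ N(V₁ ⊔ V₂)
  c₁ : ∀ g ∈ G₁, g ∉ M₁ → ¬ V₂ ≤ C(V₂ ^ᶜ g)
  c₂ : ∀ g ∈ G₂, g ∉ M₂ → ¬ V₁ ≤ C(V₁ ^ᶜ g)

namespace Pair
variable {G₁ G₂ S T₁ T₂ M₁ M₂ V₁ V₂ : Subgroup H} (h : Pair p G₁ G₂ S T₁ T₂ M₁ M₂ V₁ V₂)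
include h

omit hp in
theorem symm : Pair p G₂ G₁ S T₂ T₁ M₂ M₁ V₂ V₁ := ⟨h.k₂, h.k₁, h.rp, h.ne.symm, h.o₂, h.o₁⟩

omit hp in
theorem not_le : ¬ T₁ ≤ T₂ := fun e => h.k₂.not_le (by
  have := h.k₁.sup_cd h.rp.top (h.k₂.cd_T h.rp.top) fun e' => h.ne (le_antisymm e e')
  rw [← this, sup_eq_left.2 e])

omit hp in
theorem sup_T : T₁ ⊔ T₂ = S := h.k₂.sup_cd h.rp.top (h.k₁.cd_T h.rp.top) h.not_le

omit hp in
theorem cent_D : S ⊓ C(T₁ ⊓ T₂) = V₁ ⊔ V₂ := by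
  haveI := h.k₁.finS
  rw [(h.k₁.cd_T h.rp.top).centralizer_inf (h.k₂.cd_T h.rp.top), h.k₁.cent_T h.rp.top,
    h.k₂.cent_T h.rp.top]

omit hp in
theorem cent_X : S ⊓ C(V₁ ⊔ V₂) = T₁ ⊓ T₂ := by
  rw [centralizer_sup, inf_inf_distrib_left, h.k₁.cent_eq, h.k₂.cent_eq]

omit hp in
theorem X_le : V₁ ⊔ V₂ ≤ S := sup_le h.k₁.V_le_S h.k₂.V_le_S

omit hp in
theorem S_norm_X : S ≤ N(V₁ ⊔ V₂) :=
  le_normalizer_sup (h.k₁.S_le.trans h.k₁.V_norm) (h.k₂.S_le.trans h.k₂.V_norm)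

omit hp in
theorem S_norm_T : S ≤ N(T₁) := h.k₁.S_le.trans h.k₁.T_norm

omit hp in
theorem X_le_T (c : V₁ ≤ C(V₂)) : V₁ ⊔ V₂ ≤ T₁ :=
  sup_le h.k₁.V_le (h.k₁.le_T_of_cent h.k₂.V_le_S (le_centralizer_iff.1 c))

omit hp in
theorem X_le_T' (c : V₁ ≤ C(V₂)) : V₁ ⊔ V₂ ≤ T₂ :=
  sup_le (h.k₂.le_T_of_cent h.k₁.V_le_S c) h.k₂.V_le

omit hp in
theorem center_D (c : V₁ ≤ C(V₂)) : Z(T₁ ⊓ T₂) = V₁ ⊔ V₂ :=
  le_antisymm ((inf_le_inf_right _ (inf_le_left.trans h.k₁.T_le)).trans h.cent_D.le)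
    (le_inf (le_inf (h.X_le_T c) (h.X_le_T' c)) (h.cent_D.ge.trans inf_le_right))

omit hp in
theorem exists_mul (c : V₁ ≤ C(V₂)) {x : H} (hx : x ∈ V₁ ⊔ V₂) : ∃ a ∈ V₁, ∃ b ∈ V₂, a * b = x :=
  (mem_sup_iff_of_le_normalizer (le_normalizer_of_le_centralizer c)).1 hx

theorem one_of_not_comm (c : ¬ V₁ ≤ C(V₂)) : ⁅T₁, pResidualOf p G₁⁆ ≤ V₁ := by
  have hT : ¬ V₂ ≤ T₁ := fun e => c (h.k₁.V_le_C.trans (centralizer_anti e))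
  refine (commutator_mono le_rfl (h.k₁.res_le h.k₂.V_le_S hT)).trans (commutator_nclIn_le
    h.k₁.V_norm (h.k₂.V_le_S.trans (h.k₁.S_le.trans h.k₁.V_norm)) h.k₁.T_norm ?_)
  rw [commutator_comm]
  exact (commutator_mono le_rfl h.k₁.T_le).trans (h.k₂.quad.trans h.k₁.Y_le)

omit hp in
theorem Y_le : (V₁ ⊔ V₂) ⊓ C(nclIn T₁ G₂) ≤ V₁ :=
  (inf_le_inf h.X_le (centralizer_anti (le_nclIn _ _))).trans (h.k₁.cent_T h.rp.top).le

omit hp in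
theorem le_sup_Y (c : V₁ ≤ C(V₂)) (n : G₂ ≤ N(V₁ ⊔ V₂)) :
    V₁ ≤ Z(S) ⊔ (V₁ ⊔ V₂) ⊓ C(nclIn T₁ G₂) := fun v hv => by
  obtain ⟨g, hg, hgM⟩ := h.k₂.exists_G
  have hX : v ∈ (V₁ ⊔ V₂) ^ᶜ g := (conj_eq_of_mem_normalizer (n hg)).ge (mem_sup_left hv)
  rw [conj_sup, h.k₂.conj_V hg, ← h.k₂.sup_conj hg hgM, sup_comm (Z(S)), ← sup_assoc,
    sup_eq_left.2 (conj_mono g h.k₁.Y_le), sup_comm] at hX
  have hT : V₁ ^ᶜ g ≤ S := (conj_mono g le_sup_left).trans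
    ((conj_eq_of_mem_normalizer (n hg)).le.trans h.X_le)
  obtain ⟨z, hz, u, hu, rfl⟩ := (mem_sup_iff_of_le_normalizer (le_normalizer_of_le_centralizer
    (inf_le_right.trans (centralizer_anti hT)))).1 hX
  have huV : u ∈ V₁ := by simpa only [inv_mul_cancel_left] using mul_mem (inv_mem (h.k₁.Y_le hz)) hv
  refine mul_mem_sup hz ⟨mem_sup_left huV, fun x hx => ?_⟩
  obtain ⟨a, ha, haT⟩ : ∃ a ∈ T₁ ^ᶜ g, a ∉ T₂ := SetLike.not_le_iff_exists.1 (by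
    rw [← h.k₂.conj_T hg, conj_le_conj_iff]; exact h.not_le)
  have haS := conj_mono g h.k₁.T_le ha
  refine mem_centralizer_singleton_iff.1 (h.k₂.nclIn_le (K := centralizer {u}) h.sup_T
    (h.k₂.T_le.trans h.S_norm_T) (fun y hy => mem_centralizer_singleton_iff.2 (h.k₁.V_le_C huV y hy))
    (h.k₂.conj_S_le hg haS) (h.k₂.not_mem_of_conj hg hgM haS haT)
    (mem_centralizer_singleton_iff.2 ((h.k₁.conj g).V_le_C hu a ha)) hx)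

theorem Y_inf : (V₁ ⊔ V₂) ⊓ C(nclIn T₁ G₂) ⊓ Z(S) ≤ Z(G₂) := by
  refine le_inf ((inf_le_right.trans inf_le_left).trans h.k₂.S_le) (le_centralizer_iff.1 ?_)
  exact h.k₂.res_sup.ge.trans (sup_le ((h.k₂.res_le h.k₁.T_le h.not_le).trans (le_centralizer_iff.1
    (inf_le_left.trans inf_le_right))) (le_centralizer_iff.1 (inf_le_right.trans inf_le_right)))

theorem comm_le_of_norm (c : V₁ ≤ C(V₂)) (n : G₂ ≤ N(V₁ ⊔ V₂)) : ⁅V₁, S⁆ ≤ Z(G₂) := by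
  refine le_trans (le_inf ?_ h.k₁.quad) h.Y_inf
  have hn : S ≤ N((V₁ ⊔ V₂) ⊓ C(nclIn T₁ G₂)) := h.k₂.S_le.trans
    (le_normalizer_inf n (le_normalizer_centralizer (le_normalizer_nclIn _ _)))
  rw [commutator_comm]
  exact (commutator_mono le_rfl (h.le_sup_Y c n)).trans (commutator_sup_le
    (inf_le_left.trans hn) le_normalizer
    ((commutator_eq_bot_iff_le_centralizer'.2 inf_le_right).trans_le bot_le)
    (commutator_le_right_of_le_normalizer hn))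

omit hp in
theorem ncl_inf (c : V₁ ≤ C(V₂)) (n : G₂ ≤ N(V₁ ⊔ V₂)) : nclIn T₁ G₂ ⊓ S = T₁ := by
  refine le_antisymm (h.k₁.le_T_of_cent inf_le_right (le_trans ?_
    (centralizer_anti (h.le_sup_Y c n)))) (le_inf (le_nclIn _ _) h.k₁.T_le)
  rw [centralizer_sup]
  exact le_inf (inf_le_right.trans (le_centralizer_iff.1 inf_le_right))
    (inf_le_left.trans (le_centralizer_iff.1 inf_le_right))

theorem pk_ncl (c : V₁ ≤ C(V₂)) (n : G₂ ≤ N(V₁ ⊔ V₂)) {B : Subgroup H} (hB : MaxAb 0 T₁ B)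
    (hBT : ¬ B ≤ T₂) :
    PK p (nclIn T₁ G₂) T₁ (T₁ ⊓ T₂) (nclIn T₁ G₂ ⊓ M₂) (V₁ ⊔ V₂) := by
  have e := h.ncl_inf c n
  have h₁ := h.k₂.pu.normal (nclIn_le_of_le (h.k₁.T_le.trans h.k₂.S_le)) (le_normalizer_nclIn _ _)
    (fun k => h.not_le (e.ge.trans k))
  have e₂ : nclIn T₁ G₂ ⊓ T₂ = T₁ ⊓ T₂ := by
    conv_rhs => rw [← e, inf_assoc, inf_eq_right.2 h.k₂.T_le]
  rw [e, e₂] at h₁
  have h₂ := h₁.pk_of_maxAb (fun k => h.k₂.not_cent ?_) hB fun k => hBT (k.trans inf_le_right)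
  · rwa [← h₂.center_T (h.k₁.cd_TT h.rp.top), h.center_D c] at h₂
  · rw [← h.k₂.res_sup]
    rw [h.k₁.center_T h.rp.top] at k
    exact sup_le ((h.k₂.res_le h.k₁.T_le h.not_le).trans (k.trans (centralizer_anti h.k₁.Y_le)))
      (le_centralizer_iff.1 inf_le_right)

theorem one_of_ncl (c : V₁ ≤ C(V₂)) (n : G₂ ≤ N(V₁ ⊔ V₂))
    (k : ⁅T₁ ⊓ T₂, pResidualOf p (nclIn T₁ G₂)⁆ ≤ V₁ ⊔ V₂) : ⁅T₂, pResidualOf p G₂⁆ ≤ V₂ := by
  have hE := h.k₂.res_le h.k₁.T_le h.not_le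
  have hL : nclIn T₁ G₂ ≤ G₂ := nclIn_le_of_le (h.k₁.T_le.trans h.k₂.S_le)
  have hEG := pResidualOf_le p G₂
  rw [pResidualOf_eq_of_le hE hL] at k
  haveI := h.k₂.finT
  have e := commutator_commutator_pResidualOf h.k₂.pT (hEG.trans h.k₂.T_norm)
  have h₁ : ⁅T₂, pResidualOf p G₂⁆ ≤ T₁ ⊓ T₂ := le_inf (le_trans (le_inf
    ((commutator_le_right_of_le_normalizer (h.k₂.T_le_G.trans (le_normalizer_pResidualOf p G₂))).trans hE)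
      ((commutator_le_left_of_le_normalizer (hEG.trans h.k₂.T_norm)).trans h.k₂.T_le))
        (h.ncl_inf c n).le) (commutator_le_left_of_le_normalizer (hEG.trans h.k₂.T_norm))
  have h₂ : ⁅T₂, pResidualOf p G₂⁆ ≤ (V₁ ⊔ V₂) ⊓ C(nclIn T₁ G₂) ⊔ V₂ :=
    (e.ge.trans ((commutator_mono h₁ le_rfl).trans k)).trans (sup_le ((h.le_sup_Y c n).trans
      (sup_le (h.k₂.Y_le.trans le_sup_right) le_sup_left)) le_sup_right)
  rw [← e, commutator_comm]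
  exact (commutator_mono le_rfl h₂).trans (commutator_sup_le
    ((inf_le_left.trans h.X_le).trans (h.k₂.S_le.trans h.k₂.V_norm)) le_normalizer
    ((commutator_eq_bot_iff_le_centralizer'.2 (inf_le_right.trans (centralizer_anti hE))).trans_le
      bot_le) (commutator_le_right_of_le_normalizer (hEG.trans h.k₂.V_norm)))

end Pair

/-- The conclusion of the pair theorem. -/
def Concl (p : ℕ) (G₁ G₂ S T₁ T₂ M₁ M₂ V₁ V₂ : Subgroup H) : Prop :=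
  ⁅T₁, pResidualOf p G₁⁆ ≤ V₁ ∨ ⁅T₂, pResidualOf p G₂⁆ ≤ V₂ ∨
    (V₁ ≤ C(V₂) ∧ ⁅V₁, S⁆ ≤ Z(G₂) ∧ ⁅V₂, S⁆ ≤ Z(G₁) ∧
      ((G₁ ≤ N(V₁ ⊔ V₂) ∧ G₂ ≤ N(V₁ ⊔ V₂)) ∨ Exc G₁ G₂ M₁ M₂ V₁ V₂))

theorem Pair.mixed {G₁ G₂ S T₁ T₂ M₁ M₂ V₁ V₂ : Subgroup H} (h : Pair p G₁ G₂ S T₁ T₂ M₁ M₂ V₁ V₂)
    (ih : ∀ G₁ G₂ T₁' T₂ M₁ M₂ V₁ V₂, Pair p G₁ G₂ T₁ T₁' T₂ M₁ M₂ V₁ V₂ →
      Concl p G₁ G₂ T₁ T₁' T₂ M₁ M₂ V₁ V₂)
    (c : V₁ ≤ C(V₂)) (n₁ : ¬ G₁ ≤ N(V₁ ⊔ V₂)) (n : G₂ ≤ N(V₁ ⊔ V₂)) :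
    ⁅T₂, pResidualOf p G₂⁆ ≤ V₂ := by
  haveI := h.k₁.finS
  obtain ⟨g, hg, hgM⟩ := h.k₁.exists_G
  obtain ⟨A₀, hA₀, hA₀T⟩ := h.o₁
  have hA := hA₀.conj g
  have hAT : ¬ A₀ ^ᶜ g ≤ T₁ := by rw [← h.k₁.conj_T hg, conj_le_conj_iff]; exact hA₀T
  set A := A₀ ^ᶜ g
  have k' := h.k₁.conj_mem hg
  have hAG := hA.le.trans k'.S_le
  obtain ⟨a, ha, haT⟩ := SetLike.not_le_iff_exists.1 hAT
  have haG := hAG ha
  have haX : a ∉ N(V₁ ⊔ V₂) := fun e => n₁ (h.k₁.gen₂ hg hgM (hA.le ha) haT h.S_norm_X e)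
  have hB := (k'.maxAb_inf_sup hA hAT).of_le (h.k₁.inf_sup_le A) k'.T_le
  have hBS := h.k₁.maxAb_of_T hB
  have hBT := h.k₁.not_le_next h.k₂ (sup_comm V₁ V₂ ▸ n₁) hg hgM hA hAT
  set B := A ⊓ T₁ ⊔ V₁
  have l₁ := h.pk_ncl c n hB hBT
  have l₂ := l₁.conj a
  rw [h.k₁.conj_T haG] at l₂
  have hP : Pair p _ _ T₁ _ _ _ _ _ _ := ⟨l₁, l₂, h.k₁.rp_T h.rp, fun e => haX (by
    rw [mem_normalizer_iff_conj_eq, ← h.center_D c, conj_center, ← e]),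
    ⟨B, hB, fun e => hBT (e.trans inf_le_right)⟩,
    ⟨B ^ᶜ a, hB.conj_of_mem (h.k₁.T_norm haG), fun e =>
      hBT ((conj_le_conj_iff.1 e).trans inf_le_right)⟩⟩
  rcases ih _ _ _ _ _ _ _ _ hP with k | k | ⟨-, -, k, -⟩
  · exact h.one_of_ncl c n k
  · rw [← conj_pResidualOf, ← conj_commutator, conj_le_conj_iff] at k
    exact h.one_of_ncl c n k
  exfalso
  have k₁ : ⁅(V₁ ⊔ V₂) ^ᶜ a, T₁⁆ ≤ (V₁ ⊔ V₂) ⊓ C(nclIn T₁ G₂) :=
    k.trans (le_inf l₁.W_le_V inf_le_right)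
  have k₂ : (V₁ ⊔ V₂) ^ᶜ a ≤ B ⊔ (V₁ ⊔ V₂) := by
    have e := (h.rp.ab B hBS).centralizer_inf ((h.k₁.cd_T h.rp.top).inf (h.k₂.cd_T h.rp.top))
    rw [hBS.inf_centralizer_eq, h.cent_D] at e
    rw [← e]
    refine le_inf (l₂.V_le_S.trans h.k₁.T_le) (le_centralizer_iff.1 fun x hx => ?_)
    obtain ⟨y, hy, v, hv, rfl⟩ := (mem_sup_iff_of_le_normalizer (le_normalizer_of_le_centralizer
      (inf_le_right.trans h.k₁.V_cent))).1 hx.1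
    refine mul_mem ?_ (centralizer_anti l₂.V_le_S (h.k₁.V_le_C hv))
    rw [← conj_centralizer, mem_conj_iff, mul_assoc, hA.abExp.comm hy.1 ha, inv_mul_cancel_left]
    refine l₁.V_cent ?_
    simpa only [mul_inv_cancel_right] using mul_mem (mem_inf.1 hx).2 (inv_mem (l₁.V_le (mem_sup_left hv)))
  have k₃ : (V₁ ⊔ V₂) ^ᶜ a ≤ B := fun x hx => by
    have hx' := k₂ hx
    rw [← sup_assoc, sup_eq_left.2 (le_sup_right : V₁ ≤ B)] at hx'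
    obtain ⟨b, hb, v, hv, rfl⟩ := (mem_sup_iff_of_le_normalizer
      (hBS.le.trans (h.k₂.S_le.trans h.k₂.V_norm))).1 hx'
    obtain ⟨b', hb', hb'T⟩ := SetLike.not_le_iff_exists.1 hBT
    have h₁ := k₁ (commutator_mem_commutator hx (hB.le hb'))
    have h₂ := h.k₂.comm_mem hv (hBS.le hb')
    rw [comm_mul_left, commutatorElement_eq_one_iff_mul_comm.2 (hB.abExp.comm hb hb'), mul_one,
      conj_eq_of_cent' h₂.2 (hBS.le hb)] at h₁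
    exact mul_mem hb (center_le_maxAb hBS (h.k₂.key hv (hBS.le hb') hb'T (h.Y_inf ⟨h₁, h₂⟩)))
  have k₄ : A ≤ N((V₁ ⊔ V₂) ^ᶜ a) := le_normalizer_of_commutator_le
    ((commutator_mono k₃ le_rfl).trans ((h.k₁.comm_inf_sup_le hA.abExp hAG).trans
      ((commutator_le_left_of_le_normalizer (hAG.trans h.k₁.V_norm)).trans
        ((h.k₁.conj_V haG).ge.trans (conj_mono a le_sup_left)))))
  have := k₄ ha
  rw [← conj_normalizer, mem_conj_iff, inv_mul_cancel, one_mul] at this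
  exact haX this

theorem Pair.concl {G₁ G₂ S T₁ T₂ M₁ M₂ V₁ V₂ : Subgroup H} (h : Pair p G₁ G₂ S T₁ T₂ M₁ M₂ V₁ V₂) :
    Concl p G₁ G₂ S T₁ T₂ M₁ M₂ V₁ V₂ := by
  induction hn : Nat.card S using Nat.strong_induction_on generalizing G₁ G₂ S T₁ T₂ M₁ M₂ V₁ V₂ with
  | _ n ih =>
  haveI := h.k₁.finS
  by_cases c : V₁ ≤ C(V₂)
  swap
  · exact .inl (h.one_of_not_comm c)
  have c' := le_centralizer_iff.1 c
  by_cases n₁ : G₁ ≤ N(V₁ ⊔ V₂) <;> by_cases n₂ : G₂ ≤ N(V₁ ⊔ V₂)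
  · exact .inr (.inr ⟨c, h.comm_le_of_norm c n₂, h.symm.comm_le_of_norm c' (sup_comm V₁ V₂ ▸ n₁),
      .inl ⟨n₁, n₂⟩⟩)
  · exact .inl (h.symm.mixed (fun _ _ _ _ _ _ _ _ k => ih _ (hn ▸ card_lt_of_lt
      (lt_of_le_not_ge h.k₂.T_le h.k₂.not_le)) k rfl) c' (sup_comm V₁ V₂ ▸ n₂) (sup_comm V₁ V₂ ▸ n₁))
  · exact .inr (.inl (h.mixed (fun _ _ _ _ _ _ _ _ k => ih _ (hn ▸ card_lt_of_lt
      (lt_of_le_not_ge h.k₁.T_le h.k₁.not_le)) k rfl) c n₁ n₂))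
  · have m₂ := fun g hg hgM => h.k₁.path_main h.k₂ c n₁ n₂ h.o₂ (g := g) hg hgM
    have m₁ := fun g hg hgM => h.k₂.path_main h.k₁ c' (sup_comm V₁ V₂ ▸ n₂) (sup_comm V₁ V₂ ▸ n₁)
      h.o₁ (g := g) hg hgM
    obtain ⟨g₁, hg₁, hg₁M⟩ := h.k₁.exists_G
    obtain ⟨g₂, hg₂, hg₂M⟩ := h.k₂.exists_G
    exact .inr (.inr ⟨c, (m₂ g₂ hg₂ hg₂M).1, (m₁ g₁ hg₁ hg₁M).1, .inr ⟨n₁, n₂,
      fun g hg hgM => (m₁ g hg hgM).2, fun g hg hgM => (m₂ g hg hgM).2⟩⟩)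

end Cfsg.Agent.Lib.PushBase
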