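import Cfsg.Agent.Lib.PushCL

/-! The amalgam argument for two rank one pushing up groups over the same Sylow subgroup. -/

set_option autoImplicit false
open Cfsg

namespace Cfsg.Agent.Lib.PushBase

open Subgroup Cfsg.Agent.Lib.PCoreConj Cfsg.Agent.Lib.PCore Cfsg.Agent.Lib.PCoreResidual Cfsg.Agent.Lib.PCoreMod
open Cfsg.Agent.Lib.PReduced Cfsg.Agent.Lib.PIrred Cfsg.Agent.Lib.ThompsonJ
open scoped Pointwise commutatorElement

variable {H : Type*} [Group H] {p : ℕ}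

section Crit
variable {G S T M V G' S' T' M' V' A : Subgroup H} {g : H}

theorem PK.crit_idx (h : PK p G S T M V) (h' : PK p G' S' T' M' V') (h₂ : V' ≤ S)
    (hc : ¬ V ≤ C(V')) : T.relIndex S ≤ T'.relIndex V := by
  haveI := h.finV
  rw [← h.idx_eq, ← inf_relIndex_right T' V]
  refine relIndex_le_of_le_left ?_ (LocIdx.relIndex_ne_zero_of_finite _ _)
  exact (le_inf inf_le_right (inf_le_left.trans h'.V_cent)).trans
    (h.inf_cent_le h₂ fun e => hc (h.V_le_C.trans (centralizer_anti e)))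

theorem PK.crit_sup (h : PK p G S T M V) (h' : PK p G' S' T' M' V') (h₁ : V ≤ S') (h₂ : V' ≤ S)
    (hc : ¬ V ≤ C(V')) : V ⊔ T' = S' := by
  haveI := h.finS
  refine h'.sup_of_relIndex h₁ (le_trans ?_ (h.crit_idx h' h₂ hc))
  exact (h'.crit_idx h h₁ fun e => hc (le_centralizer_iff.1 e)).trans
    (relIndex_le_of_le_right h₂ (LocIdx.relIndex_ne_zero_of_finite _ _))

theorem PK.comm_sup (h : PK p G S T M V) (hA : A ⊔ T = S) : ⁅V, S⁆ = ⁅V, A⁆ := by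
  have hAS : A ≤ S := hA ▸ le_sup_left
  refine le_antisymm ?_ (commutator_mono le_rfl hAS)
  have hn : S ≤ N(⁅V, A⁆) := le_normalizer_of_le_centralizer (h.Y_cent.trans (centralizer_anti
    ((commutator_mono le_rfl hAS).trans h.quad)))
  conv_lhs => rw [← hA]
  exact commutator_sup_le (hAS.trans hn) (h.T_le.trans hn) le_rfl
    ((commutator_eq_bot_iff_le_centralizer'.2 h.V_cent).trans_le bot_le)

theorem PK.crit_comm (h : PK p G S T M V) (h' : PK p G' S' T' M' V') (h₁ : V ≤ S') (h₂ : V' ≤ S)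
    (hc : ¬ V ≤ C(V')) : ⁅V, S⁆ = ⁅V', S'⁆ := by
  rw [h.comm_sup (h'.crit_sup h h₂ h₁ fun e => hc (le_centralizer_iff.1 e)),
    h'.comm_sup (h.crit_sup h' h₁ h₂ hc), commutator_comm]

theorem norm_sup_of_comm {A B L : Subgroup H} (h₁ : L ≤ N(B)) (h₂ : ⁅A, L⁆ ≤ B) : L ≤ N(A ⊔ B) := by
  refine le_normalizer_iff_conj_le.2 fun x hx => ?_
  rw [conj_sup, conj_eq_of_mem_normalizer (h₁ hx)]
  refine sup_le (conj_le_iff.2 fun a ha => ?_) le_sup_right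
  have : x * a * x⁻¹ = ⁅a, x⁆⁻¹ * a := by simp only [commutatorElement_def]; group
  rw [this]
  exact mul_mem (inv_mem (mem_sup_right (h₂ (commutator_mem_commutator ha hx)))) (mem_sup_left ha)

/-- Moving a large abelian subgroup across a vertex. -/
theorem PK.not_le_next (h : PK p G S T M V) (h' : PK p G' S T' M' V') (hn : ¬ G ≤ N(V' ⊔ V))
    (hg : g ∈ G) (hgM : g ∉ M) (hA : MaxAb 0 (S ^ᶜ g) A) (hAT : ¬ A ≤ T) : ¬ A ⊓ T ⊔ V ≤ T' := by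
  intro e
  have hk := h.conj_mem hg
  have hB := h.maxAb_of_T ((hk.maxAb_inf_sup hA hAT).of_le (h.inf_sup_le A) hk.T_le)
  have hAG := hA.le.trans hk.S_le
  obtain ⟨a, ha, haT⟩ := SetLike.not_le_iff_exists.1 hAT
  refine hn (h.gen₂ hg hgM (hA.le ha) haT (le_normalizer_sup (h'.S_le.trans h'.V_norm)
    (h.S_le.trans h.V_norm)) (norm_sup_of_comm (hAG.trans h.V_norm) ?_ ha))
  exact (commutator_mono (h'.V_le_maxAb hB e) le_rfl).trans ((h.comm_inf_sup_le hA.abExp hAG).trans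
    (commutator_le_left_of_le_normalizer (hAG.trans h.V_norm)))

end Crit

/-- A path in the coset graph. -/
structure Path (p : ℕ) (G S T M M' V : ℕ → Subgroup H) (g : ℕ → H) : Prop where
  k₁ : ∀ k, PK p (G k) (S k) (T k) (M k) (V k)
  k₂ : ∀ k, PK p (G (k + 1)) (S k) (T (k + 1)) (M' k) (V (k + 1))
  gG : ∀ k, g k ∈ G (k + 1)
  gM : ∀ k, g k ∉ M' k
  eS : ∀ k, S (k + 1) = S k ^ᶜ g k
  eM : ∀ k, M (k + 1) = M' k ^ᶜ g k
  eV : ∀ k, V (k + 2) = V k ^ᶜ g k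
  c : ∀ k, V k ≤ C(V (k + 1))
  n₁ : ∀ k, ¬ G k ≤ N(V (k + 1) ⊔ V k)
  n₂ : ∀ k, ¬ G (k + 1) ≤ N(V k ⊔ V (k + 1))
  off : ∃ A, MaxAb 0 (S 0) A ∧ ¬ A ≤ T 1

namespace Path
variable {G S T M M' V : ℕ → Subgroup H} {g : ℕ → H} (h : Path p G S T M M' V g)
variable {K A : Subgroup H}
include h

theorem genF (k : ℕ) (hK : S k ≤ K) (hA : A ≤ S (k + 1)) (hT : ¬ A ≤ T (k + 1)) (hAK : A ≤ K) :
    G (k + 1) ≤ K :=
  let ⟨_, ha, haT⟩ := SetLike.not_le_iff_exists.1 hT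
  (h.k₂ k).gen₂ (h.gG k) (h.gM k) (h.eS k ▸ hA ha) haT hK (hAK ha)

theorem genB (k : ℕ) (hK : S (k + 1) ≤ K) (hA : A ≤ S k) (hT : ¬ A ≤ T (k + 1)) (hAK : A ≤ K) :
    G (k + 1) ≤ K :=
  let ⟨_, ha, haT⟩ := SetLike.not_le_iff_exists.1 hT
  (h.k₂ k).gen (h.gG k) (h.gM k) (hA ha) haT (h.eS k ▸ hK) (hAK ha)

theorem le_T {b : ℕ} (hb : ∀ d < b, ∀ i, V i ≤ C(V (i + d))) :
    ∀ d < b, ∀ i, V i ≤ T (i + d) ∧ V (i + d) ≤ T i := by
  intro d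
  induction d with
  | zero => exact fun _ i => ⟨(h.k₁ i).V_le, (h.k₁ i).V_le⟩
  | succ d ih =>
    intro hd i
    refine ⟨(h.k₂ (i + d)).le_T_of_cent ((ih (by omega) i).1.trans (h.k₁ _).T_le) (hb _ hd i),
      (h.k₁ i).le_T_of_cent (le_trans ?_ (h.k₂ i).T_le) (le_centralizer_iff.1 (hb _ hd i))⟩
    have := (ih (by omega) (i + 1)).2
    rwa [add_right_comm] at this

theorem exists_not_comm : ∃ d i, ¬ V i ≤ C(V (i + d)) := by
  by_contra! hc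
  have hT : ∀ i j, i ≤ j → V i ≤ T j := fun i j hij => by
    obtain ⟨d, rfl⟩ := Nat.exists_eq_add_of_le hij
    exact (h.le_T (b := d + 1) (fun d _ i => hc d i) d (by omega) i).1
  obtain ⟨A₀, hA₀, hA₀T⟩ := h.off
  have key : ∀ k, ∃ A W, MaxAb 0 (S k) A ∧ ¬ A ≤ T (k + 1) ∧ Nat.card A = Nat.card A₀ ∧ W ≤ A ∧
      k < Nat.card W ∧ ∀ j, k ≤ j → W ≤ T j := by
    intro k
    induction k with
    | zero => exact ⟨A₀, ⊥, hA₀, hA₀T, rfl, bot_le, by simp, fun _ _ => bot_le⟩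
    | succ k ih =>
      obtain ⟨A, W, h₁, h₂, h₃, h₄, h₅, h₆⟩ := ih
      have hB := (h.k₂ k).maxAb_inf_sup h₁ h₂
      have hB' := (h.k₁ (k + 1)).maxAb_of_T (hB.of_le ((h.k₂ k).inf_sup_le A) (h.k₂ k).T_le)
      have hW : W ⊔ V (k + 1) ≤ A ⊓ T (k + 1) ⊔ V (k + 1) :=
        sup_le_sup_right (le_inf h₄ (h₆ _ (by omega))) _
      haveI := (h.k₁ (k + 1)).finS
      haveI := finite_of_le (hW.trans hB'.le)
      refine ⟨_, W ⊔ V (k + 1), hB', (h.k₁ (k + 1)).not_le_next (h.k₂ (k + 1)) (h.n₁ _)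
        (inv_mem (h.gG k)) (h.eM k ▸ RO.inv_not_mem (h.gM k)) (by rwa [h.eS, conj_conj_inv]) h₂,
        (hB.card_eq h₁).trans h₃, hW, lt_of_le_of_lt h₅ (card_lt_of_lt (left_lt_sup.2 fun e => ?_)),
        fun j hj => sup_le (h₆ j (by omega)) (hT _ _ hj)⟩
      exact (h.k₂ k).not_le_Y ((le_inf (e.trans h₄) le_rfl).trans ((h.k₂ k).inf_maxAb h₁ h₂).le)
  obtain ⟨A, W, h₁, -, h₃, h₄, h₅, -⟩ := key (Nat.card A₀)
  haveI := (h.k₁ (Nat.card A₀)).finS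
  haveI := finite_of_le h₁.le
  exact absurd (card_le_of_le h₄) (by omega)

theorem main : ⁅V 0, S 0⁆ ≤ Z(G 1) ∧ ¬ V 0 ≤ C(V 2) := by
  classical
  have hex := h.exists_not_comm
  obtain ⟨i₀, hi₀⟩ := Nat.find_spec hex
  have hb : ∀ d < Nat.find hex, ∀ i, V i ≤ C(V (i + d)) := fun d hd i =>
    by_contra fun e => Nat.find_min hex hd ⟨i, e⟩
  obtain ⟨e, he⟩ : ∃ e, Nat.find hex = e + 2 := by
    refine ⟨Nat.find hex - 2, ?_⟩
    have h0 : Nat.find hex ≠ 0 := fun e => hi₀ (by rw [e]; exact (h.k₁ _).V_comm)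
    have h1 : Nat.find hex ≠ 1 := fun e => hi₀ (by rw [e]; exact h.c _)
    omega
  rw [he] at hi₀ hb
  have hT := h.le_T hb
  have l₁ : ∀ i, V i ≤ S (i + (e + 1)) := fun i => (hT _ (by omega) i).1.trans (h.k₁ _).T_le
  have l₂ : ∀ i, V (i + (e + 2)) ≤ S i := fun i => by
    have := (hT (e + 1) (by omega) (i + 1)).2.trans (h.k₂ i).T_le
    rwa [show i + 1 + (e + 1) = i + (e + 2) by omega] at this
  have hR : ∀ i, ¬ V i ≤ C(V (i + (e + 2))) → ⁅V i, S i⁆ = ⁅V (i + (e + 2)), S (i + (e + 1))⁆ :=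
    fun i hi => (h.k₁ i).crit_comm (h.k₂ (i + (e + 1))) (l₁ i) (l₂ i) hi
  have hRV : ∀ i, ⁅V (i + 1), S i⁆ ≤ V (i + 1) := fun i => (h.k₂ i).quad.trans (h.k₂ i).Y_le
  have n₁ : ∀ i, ¬ V i ≤ C(V (i + (e + 2))) → ¬ V (i + (e + 2)) ≤ T i := fun i hi k =>
    hi ((h.k₁ i).V_le_C.trans (centralizer_anti k))
  have n₂ : ∀ i, ¬ V i ≤ C(V (i + (e + 2))) → ¬ V i ≤ T (i + (e + 2)) := fun i hi k =>
    hi (k.trans (h.k₁ _).V_cent)
  have back : ∀ i, ¬ V (i + 1) ≤ C(V (i + 1 + (e + 2))) → ¬ V i ≤ C(V (i + (e + 2))) := by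
    intro i hi hc
    have h₁ : V i ≤ S (i + 1 + (e + 1)) := by
      have := ((h.k₂ (i + (e + 1))).le_T_of_cent (l₁ i) hc).trans (h.k₁ _).T_le
      rwa [show i + (e + 1) + 1 = i + 1 + (e + 1) by omega] at this
    refine h.n₂ i (h.genF i (le_normalizer_sup ((h.k₁ i).S_le.trans (h.k₁ i).V_norm)
      ((h.k₂ i).S_le.trans (h.k₂ i).V_norm)) (l₂ (i + 1)) (n₁ _ hi) (norm_sup_of_comm
        ((l₂ (i + 1)).trans ((h.k₁ _).S_le.trans (h.k₁ _).V_norm)) ?_))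
    rw [commutator_comm]
    exact (commutator_mono le_rfl h₁).trans ((hR _ hi).ge.trans ((h.k₁ _).quad.trans (h.k₁ _).Y_le))
  have forth : ∀ i, ¬ V i ≤ C(V (i + (e + 2))) → ¬ V (i + 1) ≤ C(V (i + 1 + (e + 2))) := by
    intro i hi hc
    have h₁ : V (i + (e + 2) + 1) ≤ S i := by
      have := ((h.k₁ (i + 1)).le_T_of_cent (l₂ (i + 1)) (le_centralizer_iff.1 hc)).trans
        (h.k₂ i).T_le
      rwa [show i + 1 + (e + 2) = i + (e + 2) + 1 by omega] at this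
    refine h.n₁ (i + (e + 2)) (h.genB (i + (e + 1)) (le_normalizer_sup
      ((h.k₂ _).S_le.trans (h.k₂ _).V_norm) ((h.k₁ _).S_le.trans (h.k₁ _).V_norm)) (l₁ i) (n₂ _ hi)
        (norm_sup_of_comm ((l₁ i).trans ((h.k₂ _).S_le.trans (h.k₂ _).V_norm)) ?_))
    rw [commutator_comm]
    exact (commutator_mono le_rfl h₁).trans ((hR _ hi).le.trans (hRV _))
  have h0 : ¬ V 0 ≤ C(V (0 + (e + 2))) := by
    clear he
    induction i₀ with
    | zero => exact hi₀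
    | succ i ih => exact ih (back i hi₀)
  have h1 := forth 0 h0
  have h2 := forth 1 h1
  have hZ : G 1 ≤ C(⁅V 0, S 0⁆) := by
    refine h.genF 0 (le_centralizer_iff.1 ((h.k₁ 0).quad.trans inf_le_right)) (l₂ 1) (n₁ 1 h1) ?_
    rw [hR 0 h0]
    have := le_centralizer_iff.1 (h.c (0 + (e + 2)))
    rw [show 0 + (e + 2) + 1 = 1 + (e + 2) by omega] at this
    exact this.trans (centralizer_anti (hRV _))
  refine ⟨le_inf (((h.k₁ 0).quad.trans inf_le_left).trans (h.k₂ 0).S_le) (le_centralizer_iff.1 hZ),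
    fun hc => ?_⟩
  have he0 : e ≠ 0 := by rintro rfl; exact h0 hc
  have e₂ : ⁅V 2, S 1⁆ = ⁅V 0, S 0⁆ := by
    rw [h.eV 0, h.eS 0, ← conj_commutator, conj_eq_of_mem_centralizer (hZ (h.gG 0))]
  refine (h.k₂ 1).not_comm_le (le_inf (((h.k₂ 1).quad.trans inf_le_left).trans (h.k₂ 1).S_le)
    (le_centralizer_iff.1 (h.genF 1 (le_centralizer_iff.1 ((h.k₂ 1).quad.trans inf_le_right))
      (l₂ 2) (n₁ 2 h2) ?_)))
  rw [e₂, hR 0 h0]
  have := le_centralizer_iff.1 (hb 2 (by omega) (0 + (e + 2)))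
  rw [show 0 + (e + 2) + 2 = 2 + (e + 2) by omega] at this
  exact this.trans (centralizer_anti (hRV _))

end Path

/-- An oriented edge together with an element leading to the next edge. -/
structure Step (p : ℕ) (H : Type*) [Group H] where
  (G₁ G₂ S T₁ T₂ M₁ M₂ V₁ V₂ : Subgroup H)
  g : H
  k₁ : PK p G₁ S T₁ M₁ V₁
  k₂ : PK p G₂ S T₂ M₂ V₂
  c : V₁ ≤ C(V₂)
  n₁ : ¬ G₁ ≤ N(V₂ ⊔ V₁)
  n₂ : ¬ G₂ ≤ N(V₁ ⊔ V₂)
  gG : g ∈ G₂
  gM : g ∉ M₂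

/-- The next edge. -/
noncomputable def Step.succ (s : Step p H) : Step p H where
  G₁ := s.G₂
  G₂ := s.G₁ ^ᶜ s.g
  S := s.S ^ᶜ s.g
  T₁ := s.T₂
  T₂ := s.T₁ ^ᶜ s.g
  M₁ := s.M₂ ^ᶜ s.g
  M₂ := s.M₁ ^ᶜ s.g
  V₁ := s.V₂
  V₂ := s.V₁ ^ᶜ s.g
  g := (s.k₁.conj s.g).exists_G.choose
  k₁ := s.k₂.conj_mem s.gG
  k₂ := s.k₁.conj s.g
  c := by
    rw [← s.k₂.conj_V s.gG, ← conj_centralizer]
    exact conj_mono _ (le_centralizer_iff.1 s.c)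
  n₁ := by
    rw [← s.k₂.conj_V s.gG, ← conj_sup, ← conj_normalizer, le_conj_iff_conj_inv_le,
      conj_eq_of_mem (inv_mem s.gG)]
    exact s.n₂
  n₂ := by
    rw [← s.k₂.conj_V s.gG, ← conj_sup, ← conj_normalizer, conj_le_conj_iff]
    exact s.n₁
  gG := (s.k₁.conj s.g).exists_G.choose_spec.1
  gM := (s.k₁.conj s.g).exists_G.choose_spec.2

/-- The path starting at an edge. -/
noncomputable def Step.path (s : Step p H) : ℕ → Step p H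
  | 0 => s
  | n + 1 => (s.path n).succ

theorem Step.main (s : Step p H) (off : ∃ A, MaxAb 0 s.S A ∧ ¬ A ≤ s.T₂) :
    ⁅s.V₁, s.S⁆ ≤ Z(s.G₂) ∧ ¬ s.V₁ ≤ C(s.V₁ ^ᶜ s.g) :=
  Path.main (p := p) (G := fun k => (s.path k).G₁) (S := fun k => (s.path k).S)
    (T := fun k => (s.path k).T₁) (M := fun k => (s.path k).M₁) (M' := fun k => (s.path k).M₂)
    (V := fun k => (s.path k).V₁) (g := fun k => (s.path k).g)
    ⟨fun k => (s.path k).k₁, fun k => (s.path k).k₂, fun k => (s.path k).gG, fun k => (s.path k).gM,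
      fun _ => rfl, fun _ => rfl, fun _ => rfl, fun k => (s.path k).c, fun k => (s.path k).n₁,
      fun k => (s.path k).n₂, off⟩

theorem PK.path_main {G₁ G₂ S T₁ T₂ M₁ M₂ V₁ V₂ : Subgroup H} (k₁ : PK p G₁ S T₁ M₁ V₁)
    (k₂ : PK p G₂ S T₂ M₂ V₂) (c : V₁ ≤ C(V₂)) (n₁ : ¬ G₁ ≤ N(V₁ ⊔ V₂)) (n₂ : ¬ G₂ ≤ N(V₁ ⊔ V₂))
    (off : ∃ A, MaxAb 0 S A ∧ ¬ A ≤ T₂) {g : H} (hg : g ∈ G₂) (hgM : g ∉ M₂) :
    ⁅V₁, S⁆ ≤ Z(G₂) ∧ ¬ V₁ ≤ C(V₁ ^ᶜ g) :=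
  Step.main ⟨G₁, G₂, S, T₁, T₂, M₁, M₂, V₁, V₂, g, k₁, k₂, c, sup_comm V₁ V₂ ▸ n₁, n₂, hg, hgM⟩ off

end Cfsg.Agent.Lib.PushBase
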