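import Cfsg.Agent.Lib.QRDefs
import Cfsg.Agent.Lib.CgMatch

/-! The piece `E1` of the qrc-lemma. -/

set_option autoImplicit false

namespace Cfsg.Agent.Lib.QR

open Cfsg Subgroup Cfsg.Agent.Lib.PCoreConj Cfsg.Agent.Lib.PCore Cfsg.Agent.Lib.PCoreResidual Cfsg.Agent.Lib.PCoreMod
open Cfsg.Agent.Lib.Blk Cfsg.Agent.Lib.PReduced Cfsg.Agent.Lib.PushBase Cfsg.Agent.Lib.ThompsonJ
open scoped Pointwise commutatorElement

universe u

theorem e1 : E1.{u} := by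
  intro G _ _ _ hG hQ T M₀ H M hM₀ _ hH TM lt mx hRM hz
  by_contra k
  have hT := isSylowIn_top T
  have ec : ∀ X : Subgroup G, X ≠ ⊥ → X ≤ T → (T : Subgroup G) ≤ normalizer (X : Set G) →
      CharPIn 2 (normalizer (X : Set G)) := fun X h₁ h₂ h₃ =>
    charPIn_iff.1 (hQ.2.2 _ ⟨X, T.isPGroup'.to_le h₂, h₁, rfl⟩ ⟨T, h₃⟩)
  have hTH := TM.trans lt.le
  have sH := hT.of_le hTH le_top
  have cH : CharPIn 2 H := (ec _ hH sH.pCoreOf_le (hTH.trans (le_normalizer_pCoreOf 2 H))).of_isSylowIn_le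
    (hT.of_le (hTH.trans (le_normalizer_pCoreOf 2 H)) le_top) hTH (le_normalizer_pCoreOf 2 H)
  have key : ∀ X ≤ Bm 2 (T : Subgroup G), X ≠ ⊥ → M₀ ≤ N(X) → H ⊓ N(X) ≤ M := fun X h₁ h₂ h₃ =>
    mx _ (le_inf hTH (hM₀.trans h₃)) (lt_of_le_of_ne inf_le_left fun e =>
      k ⟨X, h₂, h₁, sup_le h₃ (e.ge.trans inf_le_right)⟩)
  have hRT := Bm_le 2 (T : Subgroup G)
  have eB : Bm 2 (Bm 2 (T : Subgroup G)) = Bm 2 (T : Subgroup G) := Bm_eq_of_le le_rfl hRT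
  have nB : M₀ ≤ N(Bm 2 (Bm 2 (T : Subgroup G))) := hRM.trans (normalizer_le_normalizer_Bm 2 _)
  obtain ⟨E, h₁, l₀, h₂, h₃⟩ := exists_lb_in (M₀ := M) cH sH lt.not_ge
    (fun X h₁ h₂ h₃ => key X h₁ h₂ (hRM.trans h₃))
    (mx _ (le_inf hTH (le_centralizer_omegaOneCenter 2 _)) (lt_of_le_of_ne inf_le_left fun e =>
      hz (e.ge.trans inf_le_right)))
  have zz : omegaOneCenter 2 (T : Subgroup G) ≤ omegaOneCenter 2 (Bm 2 (T : Subgroup G)) := fun x hx => by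
    have hx' := mem_omegaOneCenter_iff.1 hx
    exact mem_omegaOneCenter_iff.2 ⟨J_le_Bm 2 _ (ZJ_le_J 2 _ (omegaOneCenter_le_ZJ 2 _ hx)),
      centralizer_anti hRT hx'.2.1, hx'.2.2⟩
  have l : LB (Bm 2 (T : Subgroup G)) E :=
    ⟨l₀.blk.of_eq eB (fun e => l₀.blk.nz (le_bot_iff.1 ((commutator_mono le_rfl zz).trans e.le))),
      l₀.lin, hT.isPGroup.to_le hRT, eB.ge.trans' l₀.WB, by
        rw [J_eq_of_J_le (J_le_Bm 2 _) hRT]; exact l₀.nc⟩
  have c : nclIn (WE 2 E) M₀ ≤ NC 2 E := le_inf ((nclIn_le l.WB nB).trans l.blk.B_norm) (nclIn_le_iff.2 fun m hm =>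
    (conj_WE 2 E m).le.trans (l.match_false hT ec hM₀ hRM hRT (fun t ht => by
      rw [← conj_WE]
      exact (conj_le_of_mem_normalizer h₃ (le_normalizer_omegaOneCenter
        (hTH.trans (le_normalizer_pCoreOf 2 H)) ht)).trans
          ((le_centralizer_of_isElementaryAbelian (isElementaryAbelian_omegaOneCenter 2 _)).trans
            (centralizer_anti h₃))) hm))
  exact h₂ ((le_inf h₁ (le_normalizer_of_commutator_le (((l.blk.NC_comm' c).trans l.blk.core_two.le).trans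
    (le_nclIn _ _)))).trans (key _ ((nclIn_le l.WB nB).trans (Bm_le 2 _))
      (fun e => l.blk.WE_ne_bot (le_bot_iff.1 ((le_nclIn _ _).trans e.le))) (le_normalizer_nclIn _ _)))

end Cfsg.Agent.Lib.QR
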