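import Cfsg.Agent.Lib.SXDefs

/-! S1852: no over-offenders on sections (instance of `SX.NS`). -/

set_option autoImplicit false

namespace Cfsg.Agent.Lib.SXNS

open Cfsg Subgroup Cfsg.Agent.Lib.PCoreConj Cfsg.Agent.Lib.PCore Cfsg.Agent.Lib.ThompsonJ Cfsg.Agent.Lib.PushBase
open Cfsg.Agent.Lib.PIrred Cfsg.Agent.Lib.PReduced Cfsg.Agent.Lib.Blk Cfsg.Agent.Lib.PCoreResidual
open Cfsg.Agent.Lib.PCoreMod Cfsg.Agent.Lib.SX
open scoped commutatorElement

universe u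

variable {G : Type u} [Group G] [Finite G] {T M₁ H : Subgroup G}

theorem sec (h : Mp T M₁ H) {W₁ W₂ A : Subgroup G} (n₁ : H ≤ N(W₁)) (n₂ : H ≤ N(W₂)) (h₂ : W₂ ≤ W₁)
    (hQ : W₁ ≤ pCoreOf 2 H) (cQ : ⁅W₁, pCoreOf 2 H⁆ ≤ W₂) (sq : ∀ w ∈ W₁, w * w ∈ W₂)
    (hK : ¬ ⁅W₁, pResidualOf 2 H⁆ ≤ W₂) (hA : A ≤ T) (el : IsElementaryAbelian 2 A) :
    Nat.card A * Nat.card ↥(W₁ ⊓ C(A) ⊔ W₂) ≤ Nat.card ↥(A ⊓ pCoreOf 2 H) * Nat.card W₁ := by
  haveI : (W₂.subgroupOf H).Normal := normal_subgroupOf_of_le n₂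
  let f := QuotientGroup.mk' (W₂.subgroupOf H)
  have hf : Function.Surjective f := QuotientGroup.mk'_surjective _
  have hk : f.ker = W₂.subgroupOf H := QuotientGroup.ker_mk' _
  have QH := pCoreOf_le 2 H
  have AH : A ≤ H := hA.trans h.syl.le
  have WH : W₁ ≤ H := hQ.trans QH
  have card : ∀ X ≤ H, Nat.card X = Nat.card ((X.subgroupOf H).map f) * Nat.card ↥(X ⊓ W₂) := fun X hX => by
    have e := card_eq_card_map_mul f (X.subgroupOf H)
    rwa [hk, show X.subgroupOf H ⊓ W₂.subgroupOf H = (X ⊓ W₂).subgroupOf H from rfl,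
      Nat.card_congr (subgroupOfEquivOfLe hX).toEquiv,
      Nat.card_congr (subgroupOfEquivOfLe (inf_le_left.trans hX)).toEquiv] at e
  have cm : ∀ X ≤ H, ∀ Y ≤ H, (X.subgroupOf H).map f ≤ C((Y.subgroupOf H).map f) ↔ ⁅Y, X⁆ ≤ W₂ :=
    fun X hX Y hY => by
      rw [← commutator_eq_bot_iff_le_centralizer', ← map_commutator, Subgroup.map_eq_bot_iff, hk]
      refine (map_le_iff_le_comap (f := H.subtype)).symm.trans ?_
      rw [map_commutator, map_subgroupOf_eq_of_le hX, map_subgroupOf_eq_of_le hY]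
  have syl : IsSylowIn 2 ((T.subgroupOf H).map f) ⊤ := (subgroupOf_self H ▸ h.syl.subgroupOf le_rfl :).map_mk' _
  have min : MinOver ((T.subgroupOf H).map f) ((M₁.subgroupOf H).map f) ⊤ := by
    simpa only [map_top_of_surjective f hf] using h.min.subgroupOf.map_of_ker f fun x hx =>
      h.min.le (h.syl.pCoreOf_le (hQ (h₂ (hk.le hx.2))))
  have eQ : pCoreOf 2 (⊤ : Subgroup (H ⧸ W₂.subgroupOf H)) = ((pCoreOf 2 H).subgroupOf H).map f := by
    rw [pCoreOf_top, pCoreOf_subgroupOf, map_pCore_of_surjective hf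
      (by rw [hk]; exact isPGroup_subgroupOf ((pCoreOf_isPGroup 2 H).to_le (h₂.trans hQ)) H)]
  have eK : pResidualOf 2 (⊤ : Subgroup (H ⧸ W₂.subgroupOf H)) = ((pResidualOf 2 H).subgroupOf H).map f := by
    rw [pResidualOf_top, pResidualOf_subgroupOf, map_pResidual_of_surjective hf]
  have cW : ⁅W₁, W₁⁆ ≤ W₂ := (commutator_mono le_rfl hQ).trans cQ
  have elV : IsElementaryAbelian 2 ((W₁.subgroupOf H).map f) := FFRep.elem_iff.2 ⟨fun a ha b hb =>
    (cm W₁ WH W₁ WH).2 cW hb a ha, by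
      rintro _ ⟨x, hx, rfl⟩
      rw [← map_pow, pow_two]
      exact hk.ge (sq x hx)⟩
  have nV : (⊤ : Subgroup (H ⧸ W₂.subgroupOf H)) ≤ N((W₁.subgroupOf H).map f) := by
    have := le_normalizer_map f (le_normalizer_subgroupOf n₁ H)
    rwa [subgroupOf_self, map_top_of_surjective f hf] at this
  have hL : ¬ pResidualOf 2 (⊤ : Subgroup (H ⧸ W₂.subgroupOf H)) ≤ C((W₁.subgroupOf H).map f) := by
    rw [eK, cm _ (pResidualOf_le 2 H) _ WH]
    exact hK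
  have elA := isElementaryAbelian_map (isElementaryAbelian_subgroupOf el H) f
  have k := noOver (A := (A.subgroupOf H).map f) syl min elV nV (by rw [eQ, cm _ QH _ WH]; exact cQ) hL le_top
    (by rw [commutator_eq_bot_iff_le_centralizer'.2 (le_centralizer_of_isElementaryAbelian elA)]; exact bot_le)
    (fun a ha => by rw [elA.2 a ha]; exact one_mem _)
  have nC := le_normalizer_centralizer nV
  have k₁ : (A.subgroupOf H).map f ⊓ C((W₁.subgroupOf H).map f) ≤ ((A ⊓ pCoreOf 2 H).subgroupOf H).map f := by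
    have := PMinimal.MinOver.inf_le_pCoreOf min syl.isPGroup (SubnormalIn.of_normal le_top nC)
      ((PMinimal.MinOver.pResidualOf_le_or min syl.isPGroup le_top (le_top.trans nC)).resolve_left hL)
    rw [eQ] at this
    rintro _ ⟨⟨a, ha, rfl⟩, hc⟩
    obtain ⟨q, hq, e⟩ := this ⟨hc, a, hA ha, rfl⟩
    refine ⟨a, ⟨ha, ?_⟩, rfl⟩
    have : q⁻¹ * a ∈ W₂.subgroupOf H := hk.le (by simp [MonoidHom.mem_ker, e])
    have := (pCoreOf 2 H).mul_mem hq (hQ (h₂ this))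
    simpa using this
  have XW : W₁ ⊓ C(A) ⊔ W₂ ≤ W₁ := sup_le inf_le_left h₂
  have k₂ : ((W₁ ⊓ C(A) ⊔ W₂).subgroupOf H).map f ≤ (W₁.subgroupOf H).map f ⊓ C((A.subgroupOf H).map f) :=
    le_inf (map_mono (comap_mono XW)) ((cm _ (XW.trans WH) _ AH).2 (commutator_sup_le
      ((inf_le_left.trans WH).trans n₂) le_normalizer
      (by rw [commutator_eq_bot_iff_le_centralizer'.2 inf_le_right]; exact bot_le)
      (commutator_le_right_of_le_normalizer (AH.trans n₂))))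
  rw [card A AH, card _ (XW.trans WH), card W₁ WH, card _ (inf_le_left.trans AH : A ⊓ pCoreOf 2 H ≤ H),
    inf_eq_right.2 h₂, inf_eq_right.2 (le_sup_right : W₂ ≤ _), inf_assoc, inf_eq_right.2 (h₂.trans hQ)]
  exact (mul_mul_mul_comm _ _ _ _).le.trans ((Nat.mul_le_mul_right _ (le_trans (Nat.mul_le_mul_left _
    (card_le_of_le k₂)) (k.trans (Nat.mul_le_mul_right _ (card_le_of_le k₁))))).trans (mul_mul_mul_comm _ _ _ _).le)

theorem ns (h : Mp T M₁ H) (U Y : Subgroup G) (hU : U ≤ Y) (hY : Y ≤ pCoreOf 2 H) (nU : H ≤ N(U)) (nY : H ≤ N(Y))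
    (hK : ¬ ⁅Y, pResidualOf 2 H⁆ ≤ U) (A : Subgroup G) (hA : A ≤ T) (el : IsElementaryAbelian 2 A) :
    ∃ W₁ W₂ : Subgroup G, U ≤ W₂ ∧ W₂ ≤ W₁ ∧ W₁ ≤ Y ∧ (∀ w ∈ W₁, w * w ∈ W₂) ∧
      Nat.card A * Nat.card ↥(W₁ ⊓ C(A) ⊔ W₂) ≤ Nat.card ↥(A ⊓ pCoreOf 2 H) * Nat.card W₁ := by
  have KH := pResidualOf_le 2 H
  have QH := pCoreOf_le 2 H
  have pQ := pCoreOf_isPGroup 2 H
  obtain ⟨W₂, ⟨a₁, a₂, a₃, a₄⟩, mx⟩ := exists_maximal_of_wellFoundedGT
    (fun W : Subgroup G => U ≤ W ∧ W ≤ Y ∧ H ≤ N(W) ∧ ¬ ⁅Y, pResidualOf 2 H⁆ ≤ W) ⟨U, le_rfl, hU, nU, hK⟩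
  obtain ⟨W₁, ⟨b₁, b₂, b₃, b₄⟩, mn⟩ := exists_minimal_of_wellFoundedLT
    (fun W : Subgroup G => W₂ ≤ W ∧ ¬ W ≤ W₂ ∧ W ≤ Y ∧ H ≤ N(W))
    ⟨Y, a₂, fun e => a₄ ((commutator_le_left_of_le_normalizer (KH.trans nY)).trans e), le_rfl, nY⟩
  have key : ∀ W : Subgroup G, W₂ ≤ W → W ≤ W₁ → H ≤ N(W) → W ≤ W₂ ∨ W₁ ≤ W := fun W c₁ c₂ c₃ =>
    (em _).imp_right fun c => mn ⟨c₁, c, c₂.trans b₃, c₃⟩ c₂
  have WQ := b₃.trans hY
  have cQ : ⁅W₁, pCoreOf 2 H⁆ ≤ W₂ := by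
    rcases key (W₂ ⊔ ⁅W₁, pCoreOf 2 H⁆) le_sup_left (sup_le b₁ (commutator_le_left_of_le_normalizer (QH.trans b₄)))
      (le_normalizer_sup a₃ (le_normalizer_commutator b₄ (le_normalizer_pCoreOf 2 H))) with c | c
    · exact le_sup_right.trans c
    · exact absurd (le_of_le_sup_commutator pQ (pQ.to_le WQ) (QH.trans b₄) (QH.trans a₃) ((WQ.trans QH).trans a₃) c) b₂
  have sq : ∀ w ∈ W₁, w * w ∈ W₂ := by
    let S : Subgroup G :=
      { carrier := {w | w ∈ W₁ ∧ w * w ∈ W₂}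
        one_mem' := ⟨one_mem _, by simp⟩
        inv_mem' := fun {x} hx => ⟨inv_mem hx.1, by simpa using inv_mem hx.2⟩
        mul_mem' := fun {x y} hx hy => ⟨mul_mem hx.1 hy.1, by
          have := mul_mem (mul_mem hx.2 (cQ (commutator_mem_commutator (inv_mem hx.1) (WQ hy.1)))) hy.2
          rwa [show x * x * ⁅x⁻¹, y⁆ * (y * y) = x * y * (x * y) by rw [commutatorElement_def]; group] at this⟩ }
    rcases key S (fun x hx => ⟨b₁ hx, mul_mem hx hx⟩) (fun x hx => hx.1) (le_normalizer_iff_conj_le.2 fun g hg =>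
      conj_le_iff.2 fun x hx => ⟨(mem_normalizer_iff.1 (b₄ hg) x).1 hx.1, by
        have := (mem_normalizer_iff.1 (a₃ hg) _).1 hx.2
        rwa [show g * (x * x) * g⁻¹ = g * x * g⁻¹ * (g * x * g⁻¹) by group] at this⟩) with c | c
    · refine absurd (fun w hw => ?_) b₂
      obtain ⟨k, hk⟩ := pQ ⟨w, WQ hw⟩
      have hk' : w ^ 2 ^ k ∈ W₂ := by
        rw [show w ^ 2 ^ k = 1 from congrArg Subtype.val hk]
        exact one_mem _
      clear hk
      induction k generalizing w with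
      | zero => simpa using hk'
      | succ k ih => exact c ⟨hw, ih _ (mul_mem hw hw) (by rwa [← pow_two, ← pow_mul, ← pow_succ'])⟩
    · exact fun w hw => (c hw).2
  refine ⟨W₁, W₂, a₁, b₁, b₃, sq, sec h b₄ a₃ b₁ WQ cQ sq (fun e => a₄ ?_) hA el⟩
  rw [← commutator_commutator_pResidualOf (pQ.to_le hY) (KH.trans nY)]
  refine (commutator_mono ?_ le_rfl).trans e
  by_contra c
  exact b₂ (mx ⟨a₁.trans b₁, b₃, b₄, c⟩ b₁)

open FFRep EMod SL2Amb MinParFF in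
theorem nf (h : Mp T M₁ H) (hZ : H ≤ C(omegaOneCenter 2 T)) (hJ : ¬ J 2 T ≤ pCoreOf 2 H) (V : Subgroup G)
    (hV : IsElementaryAbelian 2 V) (hVQ : V ≤ pCoreOf 2 H) (hP : H ≤ N(V)) (hQ : pCoreOf 2 H ≤ C(V)) :
    pResidualOf 2 H ≤ C(V) := by
  by_contra hL
  have hT := h.syl
  have hm := h.min
  obtain ⟨A, mA, nA⟩ : ∃ A, MaxAb 2 T A ∧ ¬ A ≤ pCoreOf 2 H := by
    by_contra! a
    exact hJ (J_le_iff.2 a)
  have hA : A ≤ H := mA.le.trans hT.le
  have VT : V ≤ T := hVQ.trans hT.pCoreOf_le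
  have hn := (card_le_of_maxAb hV VT mA).1
  let ρ := arep hV H.subtype fun x => hP x.2
  let φ := QuotientGroup.mk' (cent ρ ⊤)
  have hφ : Function.Surjective φ := QuotientGroup.mk'_surjective _
  have hK : cent ρ ⊤ = (C(V) : Subgroup G).subgroupOf H := cent_arep_top
  have hK' : φ.ker = (C(V) : Subgroup G).subgroupOf H := (QuotientGroup.ker_mk' _).trans hK
  have nC : H ≤ N(H ⊓ C(V)) := le_normalizer_inf le_normalizer (le_normalizer_centralizer hP)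
  have CM : H ⊓ C(V) ≤ M₁ := (PMinimal.MinOver.pResidualOf_le_or hm hT.isPGroup inf_le_left (hT.le.trans
    nC)).resolve_left fun e => hL (e.trans inf_le_right)
  have syl : IsSylowIn 2 ((T.subgroupOf H).map φ) ⊤ := (subgroupOf_self H ▸ hT.subgroupOf le_rfl :).map_mk' _
  have min : MinOver ((T.subgroupOf H).map φ) ((M₁.subgroupOf H).map φ) ⊤ := by
    simpa only [map_top_of_surjective φ hφ] using hm.subgroupOf.map_of_ker φ fun x hx =>
      CM (mem_inf.2 ⟨x.2, hK'.le hx.2⟩)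
  have core : pCore 2 (H ⧸ cent ρ ⊤) = ⊥ := (pCore_quotient_eq_bot_iff _).mpr fun N hN' k => by
    rw [hK] at k ⊢
    exact map_le_iff_le_comap.1 (((hm.pIrrIn hT.isPGroup).redOn hP hL hQ).le_centralizer
      (SubnormalIn.of_normal (map_subtype_le N) (le_normalizer_map_subtype N)) (by
        rintro _ ⟨x, hx, rfl⟩
        exact k x hx))
  have el : IsElementaryAbelian 2 ((A.subgroupOf H).map φ) :=
    isElementaryAbelian_map (isElementaryAbelian_subgroupOf (abExp_iff_isElementaryAbelian.1 mA.abExp) H) φ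
  have ov : Nat.card (EM hV) ≤ ms (quo ρ) ⊤ ((A.subgroupOf H).map φ) := by
    have e := card_eq_card_map_mul φ (A.subgroupOf H)
    rw [hK', show A.subgroupOf H ⊓ (C(V) : Subgroup G).subgroupOf H = (A ⊓ C(V)).subgroupOf H from rfl,
      Nat.card_congr (subgroupOfEquivOfLe hA).toEquiv,
      Nat.card_congr (subgroupOfEquivOfLe (inf_le_left.trans hA)).toEquiv] at e
    rw [e, mul_comm, mul_right_comm] at hn
    rw [ms_top, fix_quo, card_fix, card_em, map_subgroupOf_eq_of_le hA]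
    exact Nat.le_of_mul_le_mul_right hn Nat.card_pos
  have ne : (A.subgroupOf H).map φ ≠ ⊥ := fun e => nA fun a ha => by
    rw [Subgroup.map_eq_bot_iff, hK'] at e
    exact PMinimal.MinOver.inf_le_pCoreOf hm hT.isPGroup (SubnormalIn.of_normal inf_le_left nC) CM
      ⟨⟨hA ha, e (show (⟨a, hA ha⟩ : H) ∈ A.subgroupOf H from ha)⟩, mA.le ha⟩
  obtain ⟨B, -, hB, -⟩ := exists_minOff el ne ov
  refine MinParOff.not_fix_le (cent_quo ρ) syl min core hB ?_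
  rw [← map_top_of_surjective φ hφ, fix_quo, fix_quo]
  intro v hv a _
  refine (arep_eq_iff a v).2 (hZ a.2 _ (mem_omegaOneCenter_iff.2 ⟨VT (val_mem v), fun t ht => ?_,
    hV.2 _ (val_mem v)⟩)).symm
  exact (arep_eq_iff (⟨t, hT.le ht⟩ : H) v).1 (hv _ ht)

instance instNS : NS.{u} := ⟨fun h => ns h, fun h => nf h⟩

end Cfsg.Agent.Lib.SXNS
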