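import Cfsg.Agent.Lib.QRDefs
import Cfsg.Agent.Lib.SXNS

/-! qrc-lemma: the piece `E2`. -/

set_option autoImplicit false
open Cfsg

namespace Cfsg.Agent.Lib.QR

open Subgroup Cfsg.Agent.Lib.PCoreConj Cfsg.Agent.Lib.PCore Cfsg.Agent.Lib.PCoreResidual
open Cfsg.Agent.Lib.PushBase Cfsg.Agent.Lib.ThompsonJ

universe u

theorem e2 : E2.{u} := by
  intro G _ _ T H N hT hc TN NH mx hJ hZ
  have nT : H ⊓ N(T) ≤ N := (inf_le_inf_left _ (normalizer_le_normalizer_J 2 T)).trans hJ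
  have ncl : nclIn T H = H := by
    by_contra e
    have h1 := nclIn_le_of_le hT.le
    have h2 := (hT.of_le (le_nclIn T H) h1).frattini_sup h1 (le_normalizer_nclIn T H)
    exact NH.not_ge (h2 ▸ sup_le (mx _ (le_nclIn T H) (lt_of_le_of_ne h1 e)) nT)
  refine SXNS.nf ⟨hT, ⟨ncl, TN, NH, mx⟩, hc⟩ hZ (fun e => NH.not_ge (le_trans (le_inf le_rfl ?_) hJ)) _
    (isElementaryAbelian_omegaOneCenter 2 _) (omegaOneCenter_le 2 _)
    (le_normalizer_omegaOneCenter (le_normalizer_pCoreOf 2 H)) (le_centralizer_omegaOneCenter 2 _)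
  rw [← J_eq_of_J_le e hT.pCoreOf_le]
  exact (le_normalizer_pCoreOf 2 H).trans (normalizer_le_normalizer_J 2 _)

end Cfsg.Agent.Lib.QR
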