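import Cfsg.Agent.Lib.QRDefs
import Cfsg.Agent.S2834

/-! S1824, piece `LL`: the configuration of the L-lemma. -/

set_option autoImplicit false
open Cfsg

namespace Cfsg.Agent.Lib.QR

open Subgroup Cfsg.Agent.Lib.PCoreConj Cfsg.Agent.Lib.PCore Cfsg.Agent.Lib.PCoreResidual
open Cfsg.Agent.Lib.PReduced Cfsg.Agent.Lib.PushBase Cfsg.Agent.Lib.ThompsonJ Cfsg.Agent.Lib.PIrred

universe u

theorem ll_nq_conj {G : Type u} [Group G] {N V : Subgroup G} (h : NQ N V) (g : G) : NQ (N ^ᶜ g) (V ^ᶜ g) := by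
  intro B h1 h2 h3 h4
  obtain ⟨B, rfl⟩ : ∃ B', B = B' ^ᶜ g := ⟨B ^ᶜ g⁻¹, (conj_inv_conj B g).symm⟩
  rw [← conj_commutator, ← conj_commutator, conj_eq_bot_iff] at h3
  rw [← conj_centralizer, conj_le_conj_iff] at h4
  rw [← conj_centralizer, ← conj_centralizer, relIndex_map_map_of_injective _ _ (MulAut.conj g).injective,
    relIndex_map_map_of_injective _ _ (MulAut.conj g).injective]
  exact h B (conj_le_conj_iff.1 h1) (isPGroup_conj_iff.1 h2) h3 h4

/-- the L-lemma inside an ambient group -/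
theorem ll_amb {G : Type u} [Group G] [Finite G] {K S M A : Subgroup G} (hS : IsSylowIn 2 S K) (hm : MinOver S M K)
    (hA : A ≤ S) (hn : ¬ A ≤ pCoreOf 2 K) : ∃ L L0 : Subgroup G, A ⊔ pCoreOf 2 K ≤ L ∧ L ≤ K ∧
      A ⊔ pCoreOf 2 L ≤ L0 ∧ L0 < L ∧ (∀ X : Subgroup G, A ⊔ pCoreOf 2 L ≤ X → X < L → X ≤ L0) ∧
      (∃ g ∈ K, L0 = L ⊓ (M ^ᶜ g)) ∧ ∀ x ∈ L, x ∉ L0 → A ⊔ (A ^ᶜ x) ⊔ pCoreOf 2 L = L := by
  haveI : Fact (Nat.Prime 2) := ⟨Nat.prime_two⟩
  have AK := hA.trans hS.le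
  have inj := subtype_injective K
  have eA := subgroupOf_map_subtype_of_le AK
  have eM := subgroupOf_map_subtype_of_le hm.lt.le
  have co : IsCoatom (M.subgroupOf K) := by
    refine ⟨fun e => hm.lt.not_ge (subgroupOf_eq_top.1 e), fun X hX => ?_⟩
    by_contra hne
    have l1 : X.map K.subtype < K := lt_of_le_of_ne (map_subtype_le X) fun e => hne (eq_top_iff.2 fun x _ => by
      obtain ⟨y, hy, e'⟩ := e.ge x.2
      exact (Subtype.ext e' : y = x) ▸ hy)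
    have l2 := hm.max _ (hm.le.trans (eM.ge.trans (map_mono hX.le))) l1
    exact hX.not_ge fun x hx => l2 ⟨x, hx, rfl⟩
  obtain ⟨L, a1, L0, a2, a3, a4, ⟨g, a5⟩, a6⟩ := Cfsg.Agent.S2834.result hS.toSylow
    (isMinimalOver_iff_map.2 ⟨M, by rw [hS.map_toSylow]; exact hm⟩) (M.subgroupOf K)
    ⟨co, fun x hx => hm.le hx⟩ (A.subgroupOf K) (fun x hx => hA hx)
    (fun e => hn (eA.ge.trans (map_mono e)))
  have eO := map_pCoreOf_subtype (p := 2) L
  refine ⟨L.map K.subtype, L0.map K.subtype, ?_, map_subtype_le L, ?_, (map_lt_map_iff_of_injective inj).2 a3,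
    fun X h1 h2 => ?_, ⟨g, g.2, ?_⟩, ?_⟩
  · have := map_mono (f := K.subtype) a1
    rwa [Subgroup.map_sup, eA] at this
  · have := map_mono (f := K.subtype) a2
    rwa [Subgroup.map_sup, eA, eO] at this
  · have eX := subgroupOf_map_subtype_of_le (h2.le.trans (map_subtype_le L))
    rw [← eX]
    refine map_mono (a4 _ ((map_le_map_iff_of_injective inj).1 ?_) ((map_lt_map_iff_of_injective inj).1 ?_))
    · rwa [Subgroup.map_sup, eA, eO, eX]
    · rwa [eX]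
  · rw [a5, Subgroup.map_inf _ _ _ inj, map_conj, eM]
    rfl
  · rintro _ ⟨x, hx, rfl⟩ h0
    have := congrArg (Subgroup.map K.subtype) (a6 x hx fun k => h0 ⟨x, k, rfl⟩)
    rwa [Subgroup.map_sup, Subgroup.map_sup, map_conj, eA, eO] at this

theorem ll (a : TRa.{u}) (b : TRb.{u}) (o : TRo.{u}) (c : TRc.{u}) : LL.{u} := by
  intro G _ _ T H N V h L1 S1 l1 l2 sy sT hO hJ
  haveI : Fact (Nat.Prime 2) := ⟨Nat.prime_two⟩
  have nV : N ≤ N(V) := h.NV.ge.trans inf_le_right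
  have SN : S1 ≤ N := sT.trans h.TN
  obtain ⟨K, ⟨k1, k2, k3⟩, k4⟩ := (wellFounded_lt (α := Subgroup G)).has_min {K | S1 ≤ K ∧ K ≤ L1 ∧ ¬ K ≤ N}
    ⟨L1, sy.le, le_rfl, l2⟩
  have mx : ∀ X, S1 ≤ X → X < K → X ≤ N := fun X h1 h2 => by
    by_contra h3
    exact k4 X ⟨h1, h2.le.trans k2, h3⟩ h2
  have sK : IsSylowIn 2 S1 K := sy.of_le k1 k2
  have KH : K ≤ H := k2.trans l1
  have nJ : K ⊓ N(J 2 S1) ≤ N := (inf_le_inf_right _ k2).trans hJ
  have mo : MinOver S1 (K ⊓ N) K := by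
    refine ⟨?_, le_inf k1 SN, lt_of_le_of_ne inf_le_left fun e => k3 (e.ge.trans inf_le_right),
      fun X h1 h2 => le_inf h2.le (mx X h1 h2)⟩
    by_contra hne
    have f := (sK.of_le (le_nclIn S1 K) (nclIn_le_of_le k1)).frattini_sup (nclIn_le_of_le k1)
      (le_normalizer_nclIn S1 K)
    exact k3 (f.ge.trans (sup_le (mx _ (le_nclIn S1 K) (lt_of_le_of_ne (nclIn_le_of_le k1) hne))
      ((inf_le_inf_left _ (normalizer_le_normalizer_J 2 S1)).trans nJ)))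
  have DS : pCoreOf 2 K ≤ S1 := sK.pCoreOf_le
  have OD : V ⊔ pCoreOf 2 H ≤ pCoreOf 2 K := hO.trans (pCoreOf_le_of_le_of_le (sy.pCoreOf_le.trans k1) k2)
  have VD : V ≤ pCoreOf 2 K := le_sup_left.trans OD
  have nD := le_normalizer_pCoreOf 2 K
  have UD : nclIn V K ≤ pCoreOf 2 K := nclIn_le VD nD
  have nU := le_normalizer_nclIn V K
  have Uel : IsElementaryAbelian 2 (nclIn V K) := by
    refine isElementaryAbelian_iSup (fun i => isElementaryAbelian_map h.el _) fun i j => ?_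
    have m : (j : G)⁻¹ * i ∈ K := K.mul_mem (K.inv_mem j.2) i.2
    have := c N V ((j : G)⁻¹ * i) h.nq h.el nV ((conj_le_of_mem_normalizer VD (nD m)).trans (DS.trans SN))
      (VD.trans ((conj_eq_of_mem_normalizer (nD m)).ge.trans (conj_mono _ (DS.trans SN))))
    have := conj_mono (j : G) this
    rwa [conj_conj, mul_inv_cancel_left, conj_centralizer] at this
  have nc : ¬ J 2 S1 ≤ C(nclIn V K) := fun e => by
    have n : K ≤ N(K ⊓ C(nclIn V K)) := le_normalizer_inf le_normalizer (le_normalizer_centralizer nU)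
    have f := (sK.inf_normal inf_le_left n).frattini_sup inf_le_left n
    have eJ : J 2 (S1 ⊓ (K ⊓ C(nclIn V K))) = J 2 S1 :=
      J_eq_of_J_le (le_inf (J_le 2 S1) (le_inf ((J_le 2 S1).trans k1) e)) inf_le_left
    refine k3 (f.ge.trans (sup_le ?_ ?_))
    · exact (inf_le_inf KH ((centralizer_anti (le_nclIn V K)).trans (centralizer_le_normalizer _))).trans h.NV.le
    · exact (inf_le_inf_left _ (eJ ▸ normalizer_le_normalizer_J 2 _)).trans nJ
  obtain ⟨A, A1, A2, A3⟩ := b S1 (nclIn V K) sy.isPGroup Uel (UD.trans DS) (k1.trans nU) nc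
  have AD : ¬ A ≤ pCoreOf 2 K := fun e => by
    have j := a N V (pCoreOf 2 K) h.nq h.el nV VD (DS.trans SN) (pCoreOf_isPGroup 2 K)
    exact A2 ((A1.of_le e DS).le_J.trans (le_centralizer_iff.1 (nclIn_le_centralizer
      (nD.trans (normalizer_le_normalizer_J 2 _)) (le_centralizer_iff.1 j))))
  obtain ⟨L, L0, m1, m2, m3, m4, m5, ⟨g, hg, m6⟩, m7⟩ := ll_amb sK mo A1.le AD
  have e0 : L0 = L ⊓ (N ^ᶜ g) := by
    rw [m6, conj_inf, conj_eq_of_mem hg, ← inf_assoc, inf_eq_left.2 m2]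
  have DL : pCoreOf 2 K ≤ pCoreOf 2 L := pCoreOf_le_of_le_of_le (le_sup_right.trans m1) m2
  have UU : nclIn (V ^ᶜ g) L ≤ nclIn V K := nclIn_le (conj_le_nclIn V hg) (m2.trans nU)
  have L0N : L0 ≤ N ^ᶜ g := e0.le.trans inf_le_right
  have nq := ll_nq_conj h.nq g
  refine ⟨L, L0, A, V ^ᶜ g, abExp_iff_isElementaryAbelian.1 A1.abExp, m3, m4, m5, m7,
    isElementaryAbelian_of_le Uel UU, UU.trans (UD.trans DL), ?_, ?_,
    eq_bot_iff.2 ((commutator_mono (commutator_mono UU le_rfl) le_rfl).trans A3.le),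
    fun B h1 => nq B (h1.trans L0N),
    fun Y hY => o S1 A Y A1 (isElementaryAbelian_of_le Uel (hY.trans UU)) (hY.trans (UU.trans (UD.trans DS))),
    (le_sup_right.trans OD).trans DL, (m2.trans KH).trans (le_normalizer_pCoreOf 2 H), fun x hx => ?_⟩
  · rw [e0, ← h.NV, conj_inf, conj_eq_of_mem (KH hg), conj_normalizer, ← inf_assoc, inf_eq_left.2 (m2.trans KH)]
  · have AS : A ⊔ pCoreOf 2 K ≤ S1 := sup_le A1.le DS
    exact (A1.of_le le_sup_left AS).le_J.trans (a (N ^ᶜ g) (V ^ᶜ g) (A ⊔ pCoreOf 2 K) nq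
      (isElementaryAbelian_map h.el _) (le_normalizer_conj nV g)
      ((conj_le_of_mem_normalizer VD (nD hg)).trans le_sup_right)
      (((sup_le_sup_left DL A).trans m3).trans L0N) (sy.isPGroup.to_le AS))
  · have x1 := UU hx.1
    have x2 : x ∈ omegaOneCenter 2 (pCoreOf 2 H) := mem_omegaOneCenter_iff.2
      ⟨h.chr ⟨KH (pCoreOf_le 2 K (UD x1)), hx.2⟩, hx.2, Uel.2 x x1⟩
    exact centralizer_anti (pResidualOf_mono (m2.trans KH)) (le_centralizer_iff.1 h.hW x2)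

end Cfsg.Agent.Lib.QR
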