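import Cfsg.Agent.Lib.PCoreConj

/-! Interface of the amalgam step of S1832: an edge with one or two `J`-components at each end. -/

set_option autoImplicit false

namespace Cfsg.Agent.Lib.QZAm

open Subgroup

/-- the data of an edge: `e : Bool` is the end, `c : Bool` the component (both equal at an `S₃` end) -/
structure Dat (G : Type*) [Group G] where
  B : Subgroup G
  P : Bool → Subgroup G
  K : Bool → Bool → Subgroup G
  W : Bool → Bool → Subgroup G
  z : Bool → Bool → G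
  u : Bool → Bool → G
  k : Bool → Bool → G

/-- the centralizer of the modules at the end `e` -/
def Dat.Q {G : Type*} [Group G] (A : Dat G) (e : Bool) : Subgroup G :=
  centralizer (A.W e false : Set G) ⊓ centralizer (A.W e true : Set G)

/-- the local axioms -/
structure Ok {G : Type*} [Group G] (A : Dat G) : Prop where
  BP : ∀ e, A.B ≤ A.P e
  KP : ∀ e c, A.K e c ≤ A.P e
  NW : ∀ e c, A.P e ≤ normalizer (A.W e c : Set G)
  NK : ∀ e c, A.P e ≤ normalizer (A.K e c : Set G)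
  WB : ∀ e c, A.W e c ≤ A.B
  WK : ∀ e c, A.W e c ≤ A.K e c
  memW : ∀ e c x, x ∈ A.W e c ↔ x = 1 ∨ x = A.z e c ∨ x = A.u e c ∨ x = A.z e c * A.u e c
  z1 : ∀ e c, A.z e c ≠ 1
  zz : ∀ e c, A.z e c * A.z e c = 1
  zu : ∀ e c, A.z e c * A.u e c = A.u e c * A.z e c
  kK : ∀ e c, A.k e c ∈ A.K e c
  kz : ∀ e c, A.k e c * A.z e c * (A.k e c)⁻¹ = A.u e c
  ku : ∀ e c, A.k e c * A.u e c * (A.k e c)⁻¹ = A.z e c * A.u e c
  fz : ∀ e c, ∀ s ∈ A.B, s * A.z e c * s⁻¹ = A.z e c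
  edge : ∀ e, ∀ x ∈ A.P e, (∀ c, x * A.z e c * x⁻¹ = A.z e c) → x ∈ A.B
  ty : ∀ e, (∀ c, A.K e c ≤ centralizer (A.W e (!c) : Set G)) ∨
    (A.K e true = A.K e false ∧ A.W e true = A.W e false ∧ A.z e true = A.z e false)
  gen : ∀ e c, ∀ h ∈ A.P e, h * A.z e c * h⁻¹ ≠ A.z e c → A.K e c ≤ A.B ⊔ zpowers h
  nn : ∀ e c, ¬ A.K e c ≤ normalizer ((A.B ⊓ A.Q e ⊓ A.Q (!e) : Subgroup G) : Set G)
  split : ∀ e c c', A.K e c ≤ centralizer {A.z (!e) c'} ∨ A.K e c ≤ centralizer {A.z (!e) c' * A.z e c}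
  sym : ∀ e c c', A.K e c ≤ centralizer {A.z (!e) c'} → A.K e (!c) ≤ centralizer {A.z (!e) (!c')}
  core : ∀ N : Subgroup G, N ≤ A.B → A.P false ≤ normalizer (N : Set G) → A.P true ≤ normalizer (N : Set G) → N = ⊥

universe u

/-- the critical distance is one -/
class AM : Prop where
  out : ∀ {G : Type u} [Group G] (A : Dat G), Ok A → ∃ c c', ¬ A.W false c ≤ centralizer (A.W true c' : Set G)

end Cfsg.Agent.Lib.QZAm
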