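import Cfsg.Agent.Lib.QZDefs
import Cfsg.Agent.Lib.CgFin
import Cfsg.Agent.Lib.LocIdx
import Cfsg.Agent.Lib.CoprimeBasic

/-! An `A₄`-block outside a given overgroup of `C*(G,T)` in a solvable group. -/

set_option autoImplicit false

namespace Cfsg.Agent.Lib.QZB1

open Cfsg Subgroup Cfsg.Agent.Lib.PCoreConj Cfsg.Agent.Lib.PCore Cfsg.Agent.Lib.PCoreResidual Cfsg.Agent.Lib.Blk
open scoped Pointwise commutatorElement MatrixGroups

local notation "C(" X ")" => centralizer (SetLike.coe (X : Subgroup _))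
local notation "N(" X ")" => normalizer (SetLike.coe (X : Subgroup _))

universe u

variable {G : Type u} [Group G] [Finite G] {T E K : Subgroup G}

omit [Finite G] in
/-- the four-group on two commuting involutions -/
def four (z u : G) (hz : z * z = 1) (hu : u * u = 1) (h : z * u = u * z) : Subgroup G where
  carrier := {x | x = 1 ∨ x = z ∨ x = u ∨ x = z * u}
  one_mem' := Or.inl rfl
  mul_mem' := by
    have a₁ : z * (z * u) = u := by rw [← mul_assoc, hz, one_mul]
    have a₂ : u * (z * u) = z := by rw [h, ← mul_assoc, hu, one_mul]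
    have a₃ : z * u * z = u := by rw [h, mul_assoc, hz, mul_one]
    have a₄ : z * u * u = z := by rw [mul_assoc, hu, mul_one]
    have a₅ : z * u * (z * u) = 1 := by rw [← mul_assoc, a₃, hu]
    have h' := h.symm
    rintro x y (e | e | e | e) (e' | e' | e' | e') <;> rw [e, e'] <;> simp [a₁, a₂, a₃, a₄, a₅, hz, hu, h']
  inv_mem' := by
    have a₁ : z⁻¹ = z := inv_eq_of_mul_eq_one_right hz
    have a₂ : u⁻¹ = u := inv_eq_of_mul_eq_one_right hu
    have h' := h.symm
    rintro x (e | e | e | e) <;> rw [e] <;> simp [a₁, a₂, h']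

theorem blk_of (hG : C(pCore 2 G) ≤ pCore 2 G) (hT : IsSylowIn 2 T ⊤) (b : Blk.Blk 2 T E)
    (h₃ : Nat.card (E ⧸ pCore 2 E) = 3) :
    ∃ z u ρ : G, QZ.Blk (Bm 2 T) z u ρ ∧ E = closure {z, u, ρ} ∧ z ∈ T ∧ u ∈ T := by
  have hW : pCoreOf 2 E = WE 2 E := by
    rcases b.cases' with ⟨F, _, _, _, -, k | k⟩ | ⟨-, m, -, -, k, -⟩
    exacts [k, absurd k.three (by norm_num), k]
  set W := WE 2 E with hWd
  have hWE : W ≤ E := WE_le_E 2 E
  have hc : Nat.card E = 3 * Nat.card W := by rw [card_eq_quot 2 E, h₃, hW]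
  have hi : W.relIndex E = 3 := Nat.eq_of_mul_eq_mul_left Nat.card_pos
    ((card_mul_relIndex hWE).trans (hc.trans (mul_comm _ _)))
  have : Fact (Nat.Prime 3) := ⟨Nat.prime_three⟩
  obtain ⟨r, hr⟩ := exists_prime_orderOf_dvd_card' (G := E) 3 (hc ▸ dvd_mul_right _ _)
  rw [← orderOf_coe] at hr
  obtain ⟨ρ, hρ⟩ := r
  simp only at hr
  have sq : ∀ w ∈ W, w * w = 1 := fun w hw => by rw [← sq]; exact (WE_elem 2 E).2 w hw
  have ab : W ≤ C(W) := (WE_le_core 2 E).trans (core_le_cent' 2 E)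
  have r3 : ρ ^ 3 = 1 := hr ▸ pow_orderOf_eq_one ρ
  have hρW : ρ ∉ W := fun h => by
    have := orderOf_dvd_of_pow_eq_one (show ρ ^ 2 = 1 by rw [pow_two, sq ρ h])
    rw [hr] at this
    omega
  have gen : ∀ {H : Subgroup G}, W ≤ H → ρ ∈ H → E ≤ H := fun h₁ h₂ =>
    LocIdx.le_of_relIndex_prime Nat.prime_three hWE hi h₁ hρ hρW h₂
  have hEW : E ≤ N(W) := le_normalizer.trans (norm_WE 2 E)
  have hBW : Bm 2 T ≤ N(W) := b.B_norm.trans (norm_WE 2 E)
  have hB : IsPGroup 2 (Bm 2 T) := hT.isPGroup.to_le (Bm_le 2 T)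
  have fix : ∀ w ∈ W, ρ * w * ρ⁻¹ = w → w = 1 := fun w hw e => by
    have : IsMulCommutative W := le_centralizer_iff_isMulCommutative.mp ab
    have hρN : zpowers ρ ≤ N(W) := zpowers_le.mpr (hEW hρ)
    have k := CoprimeBasic.centralizer_inf_commutator_eq_bot hρN (by
      obtain ⟨n, hn⟩ := IsPGroup.iff_card.mp (WE_pgroup 2 E)
      rw [Nat.card_zpowers, hr, hn]
      exact Nat.Coprime.pow_right n (by norm_num))
    have k₂ : W ≤ ⁅W, zpowers ρ⁆ := b.comm_WE.ge.trans ((commutator_mono le_rfl (gen le_sup_left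
      (mem_sup_right (mem_zpowers ρ)))).trans (commutator_sup_le (normalizer_commutator_ge_left _ _)
        (normalizer_commutator_ge_right _ _) ((commutator_eq_bot_iff_le_centralizer.mpr ab).le.trans bot_le) le_rfl))
    refine mem_bot.mp (k ▸ mem_inf.mpr ⟨?_, k₂ hw⟩)
    rintro _ ⟨n, rfl⟩
    exact (Commute.zpow_left (mul_inv_eq_iff_eq_mul.mp e) n).eq
  obtain ⟨⟨z, hz, hzB⟩, z1⟩ := (ne_bot_iff_exists_ne_one).mp
    (inf_centralizer_ne_bot hB (WE_pgroup 2 E) hBW b.WE_ne_bot)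
  have z1 : z ≠ 1 := fun e => z1 (Subtype.ext e)
  have cj : ∀ g ∈ N(W), ∀ w ∈ W, g * w * g⁻¹ ∈ W := fun g hg w hw => (mem_normalizer_iff.mp hg w).mp hw
  obtain ⟨u, hu⟩ : ∃ u, ρ * z * ρ⁻¹ = u := ⟨_, rfl⟩
  have huW : u ∈ W := hu ▸ cj ρ (hEW hρ) z hz
  obtain ⟨v, hv⟩ : ∃ v, ρ * u * ρ⁻¹ = v := ⟨_, rfl⟩
  have hvW : v ∈ W := hv ▸ cj ρ (hEW hρ) u huW
  have zu : z * u = u * z := ab huW z hz
  have hvz : ρ * v * ρ⁻¹ = z := by
    rw [← hv, ← hu]
    calc _ = ρ ^ 3 * z * (ρ ^ 3)⁻¹ := by simp only [pow_succ, pow_zero, one_mul, mul_inv_rev, mul_assoc]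
      _ = z := by rw [r3]; group
  have cu : v = z * u := by
    have k := fix (z * u * v) (mul_mem (mul_mem hz huW) hvW) (by
      calc _ = ρ * z * ρ⁻¹ * (ρ * u * ρ⁻¹) * (ρ * v * ρ⁻¹) := by group
        _ = _ := by rw [hu, hv, hvz, ab hz _ (mul_mem huW hvW), mul_assoc])
    rw [← inv_eq_of_mul_eq_one_right k, inv_eq_of_mul_eq_one_right (sq _ (mul_mem hz huW))]
  subst cu
  set Y := four z u (sq z hz) (sq u huW) zu
  have mY : ∀ x, x ∈ Y ↔ x = 1 ∨ x = z ∨ x = u ∨ x = z * u := fun x => Iff.rfl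
  have hYW : Y ≤ W := by
    rintro x (rfl | rfl | rfl | rfl)
    exacts [one_mem _, hz, huW, hvW]
  have hWY : W ≤ Y := (b.irr (hYW.trans (WE_le 2 E)) (gen (le_normalizer_of_le_centralizer
      (ab.trans (centralizer_anti hYW))) (mem_normalizer_of_conj_le (conj_le_iff.mpr (by
        rintro x (rfl | rfl | rfl | rfl)
        · simp
        · exact (mY _).mpr (Or.inr (Or.inr (Or.inl hu)))
        · exact (mY _).mpr (Or.inr (Or.inr (Or.inr hv)))
        · exact (mY _).mpr (Or.inr (Or.inl hvz))))))).resolve_left fun h => z1 (fix z hz (by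
      rw [h ((mY z).mpr (Or.inr (Or.inl rfl))) ρ hρ, mul_inv_cancel_right]))
  have hE : E = closure {z, u, ρ} := le_antisymm (gen (hWY.trans (by
      rintro x (rfl | rfl | rfl | rfl)
      · exact one_mem _
      · exact subset_closure (by simp)
      · exact subset_closure (by simp)
      · exact mul_mem (subset_closure (by simp)) (subset_closure (by simp)))) (subset_closure (by simp)))
    ((closure_le _).mpr (by
      rintro x (rfl | rfl | rfl)
      exacts [hWE hz, hWE huW, hρ]))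
  have WB := b.W_le_B hT hG
  have fz : ∀ s ∈ Bm 2 T, s * z * s⁻¹ = z := fun s hs => by rw [hzB s hs, mul_inv_cancel_right]
  have fu : ∀ s ∈ Bm 2 T, s * u * s⁻¹ = u ∨ s * u * s⁻¹ = z * u := fun s hs => by
    rcases (mY _).mp (hWY (cj s (hBW hs) u huW)) with e | e | e | e
    · refine absurd ?_ z1
      have : u = 1 := by simpa using e
      simpa [this] using hu
    · refine absurd (fix z hz ?_) z1
      rw [← fz s hs] at e
      rw [hu, (by simpa using e : u = z)]
    exacts [Or.inl e, Or.inr e]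
  refine ⟨z, u, ρ, ⟨z1, sq z hz, zu, hu, hv, r3, hB, WB hz, WB huW, hE ▸ b.B_norm, fz, fu, ?_⟩, hE,
    Bm_le 2 T (WB hz), Bm_le 2 T (WB huW)⟩
  by_contra! hn
  refine b.not_B_cent hT hG fun s hs x hx => ?_
  have e₁ := mul_inv_eq_iff_eq_mul.mp (fz s hs)
  have e₂ := mul_inv_eq_iff_eq_mul.mp ((fu s hs).resolve_right (hn s hs))
  rcases (mY _).mp (hWY hx) with rfl | rfl | rfl | rfl
  · simp
  · exact e₁.symm
  · exact e₂.symm
  · rw [mul_assoc, ← e₂, ← mul_assoc, ← e₁, mul_assoc]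

theorem amb [Group.IsSolvable G] (hG : C(pCore 2 G) ≤ pCore 2 G) (hT : IsSylowIn 2 T ⊤) (hK : cStarOf 2 T ≤ K)
    (hne : K ≠ ⊤) : ∃ z u ρ : G, QZ.Blk (Bm 2 T) z u ρ ∧ ρ ∉ K ∧ ∀ t : G, t ∈ N((closure {z, u, ρ} : Subgroup G)) ∨
      ∀ x ∈ closure ({z, u, ρ} : Set G), ∀ x' ∈ closure ({z, u, ρ} : Set G), Commute x (t * x' * t⁻¹) := by
  obtain ⟨h₁, h₂, h₃, h₄, -, -, h₅⟩ := cStar_main hG hT
  generalize Bs 2 T (cStarOf 2 T) ⊤ = 𝓑 at *
  obtain ⟨E, hE, hEK⟩ : ∃ E ∈ 𝓑, ¬ E ≤ K := by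
    by_contra! hn
    exact hne (top_le_iff.mp (h₄.ge.trans (sup_le hK (sSup_le hn))))
  have b := blk_iff.mp (h₁ E hE)
  have nt : Nontrivial (E ⧸ pCore 2 E) := by
    by_contra n
    have := not_nontrivial_iff_subsingleton.mp n
    have c := card_eq_quot 2 E
    rw [Nat.card_unique (α := E ⧸ pCore 2 E), one_mul] at c
    refine b.not_pgroup ?_
    rw [← eq_of_le_of_card_ge (pCoreOf_le 2 E) c.le]
    exact pCoreOf_isPGroup 2 E
  have np : ∀ (H : Type) [Group H], (E ⧸ pCore 2 E ≃* H) → _root_.commutator H ≠ ⊤ := fun H _ e =>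
    have : Group.IsSolvable H := Group.isSolvable_of_surjective (f := e.toMonoidHom) e.surjective
    have : Nontrivial H := e.injective.nontrivial
    (Group.IsSolvable.commutator_lt_top_of_nontrivial H).ne
  have h3 : Nat.card (E ⧸ pCore 2 E) = 3 := by
    rcases h₅ E hE with ⟨F, _, _, m, hm, hF, ⟨e⟩, -⟩ | ⟨-, m, ⟨e⟩, -⟩ | ⟨h, -⟩
    · exact absurd (comm_eq_top (by rw [Nat.card_eq_fintype_card, hF]; omega)) (np _ e)
    · rcases m with _ | _ | m
      · have : Subsingleton (Fin (2 * 0 + 1)) := inferInstanceAs (Subsingleton (Fin 1))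
        exact absurd e.injective.subsingleton (not_subsingleton _)
      · rw [Nat.card_congr e.toEquiv, Nat.card_eq_fintype_card]
        decide
      · exact absurd (commutator_alternatingGroup_eq_top (by simp; omega)) (np _ e)
    · omega
  obtain ⟨z, u, ρ, k, e, hz, hu⟩ := blk_of hG hT b h3
  have hTK : T ≤ K := (le_centralizer_omegaOneCenter 2 T).trans (le_sup_left.trans hK)
  refine ⟨z, u, ρ, k, fun h => hEK (e ▸ (closure_le _).mpr ?_), fun t => ?_⟩
  · rintro x (rfl | rfl | rfl)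
    exacts [hTK hz, hTK hu, h]
  · rw [← e]
    by_cases c : E = E ^ᶜ t
    · exact Or.inl (mem_normalizer_iff_conj_eq.mpr c.symm)
    · exact Or.inr fun x hx x' hx' => commutatorElement_eq_one_iff_commute.mp (mem_bot.mp
        (h₃ E hE _ (h₂ E hE t) c ▸ commutator_mem_commutator hx (conj_mem_conj t hx')))

instance instQB1 : QZ.QB1.{u} where
  out := fun {G _ _} T h M M' hT hO hM hC hY => by
    have := h.solv M' hT hO
    have hS : IsSylowIn 2 (T : Subgroup G) ⊤ := isSylowIn_top T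
    have e : (Bm 2 ((T : Subgroup G).subgroupOf M')).map M'.subtype = Bm 2 T := by
      rw [map_Bm M'.subtype_injective, map_subgroupOf_eq_of_le hT]
    rw [baumann_eq] at hY ⊢
    have hK : cStarOf 2 ((T : Subgroup G).subgroupOf M') ≤ M.subgroupOf M' := by
      refine sup_le ?_ (iSup_le ?_)
      · rw [centralizer_eq_subgroupOf, map_omegaOneCenter M'.subtype_injective, map_subgroupOf_eq_of_le hT]
        exact fun x hx => hC ⟨x.2, hx⟩
      · rintro ⟨A, h₁, h₂, h₃⟩
        rw [baumann_eq] at h₁ h₃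
        let ψ : Bm 2 ((T : Subgroup G).subgroupOf M') ≃* Bm 2 (T : Subgroup G) :=
          (equivMapOfInjective _ _ M'.subtype_injective).trans (MulEquiv.subgroupCongr e)
        have c : ((A.subgroupOf _).map ψ.toMonoidHom).Characteristic := characteristic_iff_map_le.2 fun φ => by
          rintro _ ⟨_, ⟨a, ha, rfl⟩, rfl⟩
          exact ⟨_, characteristic_iff_map_le.1 h₃ (ψ.trans (φ.trans ψ.symm)) ⟨a, ha, rfl⟩, by simp⟩
        have c₂ := normalizer_le_normalizer_map_subtype ((A.subgroupOf _).map ψ.toMonoidHom)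
        have c₃ : ((A.subgroupOf _).map ψ.toMonoidHom).map (Bm 2 (T : Subgroup G)).subtype = A.map M'.subtype := by
          conv_rhs => rw [← map_subgroupOf_eq_of_le h₁]
          rw [map_map, map_map]
          rfl
        rw [c₃] at c₂
        rw [normalizer_eq_subgroupOf]
        exact comap_mono (hY _ (e ▸ map_mono h₁)
          (fun k => h₂ ((Subgroup.map_eq_bot_iff_of_injective _ M'.subtype_injective).1 k)) c₂)
    obtain ⟨z, u, ρ, k, hρ, ht⟩ := amb (K := M.subgroupOf M') (charP_iff.mpr (h.ch2 M' hT hO)) (syl_sub hS hT)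
      hK fun e => hM (subgroupOf_eq_top.mp e)
    · have ec : (closure {z, u, ρ} : Subgroup M').map M'.subtype = closure {(z : G), (u : G), (ρ : G)} := by
        rw [MonoidHom.map_closure]
        simp [Set.image_insert_eq]
      have mS : ∀ s ∈ Bm 2 (T : Subgroup G), ∃ s' ∈ Bm 2 ((T : Subgroup G).subgroupOf M'), (s' : G) = s :=
        fun s hs => e.ge hs
      refine ⟨z, u, ρ, ⟨fun e => k.z1 (Subtype.ext e), congrArg Subtype.val k.zz, congrArg Subtype.val k.zu,
        congrArg Subtype.val k.cz, congrArg Subtype.val k.cu, congrArg Subtype.val k.r3,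
        hS.isPGroup.to_le (Bm_le 2 _), e.le (mem_map_of_mem _ k.zS), e.le (mem_map_of_mem _ k.uS),
        e ▸ ec ▸ le_normalizer_map _ k.nS, fun s hs => ?_, fun s hs => ?_, ?_⟩, hρ, fun t ht' => ?_⟩
      · obtain ⟨s, hs', rfl⟩ := mS s hs
        exact congrArg Subtype.val (k.fz s hs')
      · obtain ⟨s, hs', rfl⟩ := mS s hs
        exact (k.fu s hs').imp (congrArg Subtype.val) (congrArg Subtype.val)
      · obtain ⟨a, ha, c⟩ := k.mv
        exact ⟨a, e.le (mem_map_of_mem _ ha), congrArg Subtype.val c⟩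
      · rw [← ec]
        refine (ht ⟨t, hT ht'⟩).imp (map_mem_norm M'.subtype_injective).mpr ?_
        rintro c _ ⟨x, hx, rfl⟩ _ ⟨x', hx', rfl⟩
        exact congrArg Subtype.val (c x hx x' hx').eq

end Cfsg.Agent.Lib.QZB1
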