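import Cfsg.Agent.S3035
import Cfsg.Agent.S2911
import Cfsg.Agent.Lib.JComp

/-! The endgame of S1832: a Sylow 2-subgroup inside `S₄` or `C₂ × S₄`. -/

set_option autoImplicit false

namespace Cfsg.Agent.Lib.QZEnd

open Cfsg Subgroup Equiv Cfsg.Agent.Lib.PCoreConj Cfsg.Agent.Lib.PCore Cfsg.Agent.Lib.PCoreResidual

variable {G : Type*} [Group G] [Finite G]

/-- the dihedral group of order 8 inside `S₄` -/
def δ : DihedralGroup 4 →* Perm (Fin 4) := MonoidHom.mk' (fun
  | .r i => (swap 0 1 * swap 1 2 * swap 2 3) ^ i.val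
  | .sr i => swap 0 2 * (swap 0 1 * swap 1 2 * swap 2 3) ^ i.val) (by decide)

theorem δ_inj : Function.Injective δ := (injective_iff_map_eq_one δ).mpr (by decide)

theorem equiv_of {D H : Type*} [Group D] [Group H] (T : Sylow 2 G) {P : Subgroup G} (hT : (T : Subgroup G) ≤ P)
    (φ : P ≃* H) (f : D →* H) (hf : Function.Injective f) {k : ℕ} (h₁ : Nat.card D = 2 ^ k)
    (h₂ : Nat.card H = 2 ^ k * 3) : Nonempty ((T : Subgroup G) ≃* D) := by
  let g : D →* G := P.subtype.comp (φ.symm.toMonoidHom.comp f)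
  have hg : Function.Injective g := P.subtype_injective.comp (φ.symm.injective.comp hf)
  have c : Nat.card g.range = 2 ^ k := by rw [← h₁]; exact Nat.card_congr (MonoidHom.ofInjective hg).symm.toEquiv
  obtain ⟨S, hS⟩ := (IsPGroup.of_card c).exists_le_sylow
  have e : g.range = S := eq_of_le_of_card_ge hS (by
    obtain ⟨j, hj⟩ := IsPGroup.iff_card.1 T.isPGroup'
    have d := card_dvd_of_le hT
    rw [Nat.card_congr φ.toEquiv, h₂, hj] at d
    rw [c, Nat.card_congr (Sylow.equiv S T).toEquiv, hj]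
    exact Nat.le_of_dvd (by positivity) ((Nat.Coprime.pow_left j (by norm_num)).dvd_of_dvd_mul_right d))
  exact ⟨(Sylow.equiv T S).trans ((MulEquiv.subgroupCongr e.symm).trans (MonoidHom.ofInjective hg).symm)⟩

omit [Finite G] in
theorem not_perm [IsSimpleGroup G] {α : Type*} [Fintype α] [DecidableEq α] (φ : G ≃* Perm α) {a b : Perm α}
    (h₁ : Perm.sign a ≠ 1) (h₂ : Perm.sign b = 1) (h₃ : b ≠ 1) : False := by
  have : IsSimpleGroup (Perm α) := φ.symm.isSimpleGroup
  rcases IsSimpleGroup.eq_bot_or_eq_top_of_normal (alternatingGroup α) inferInstance with e | e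
  · exact h₃ (mem_bot.mp (e ▸ Perm.mem_alternatingGroup.mpr h₂))
  · exact h₁ (Perm.mem_alternatingGroup.mp (e ▸ mem_top _))

theorem of_dihedral [IsSimpleGroup G] (hG : ¬ IsMulCommutative G) (T : Sylow 2 G)
    (hC : centralizer (omegaOneCenter 2 (T : Subgroup G) : Set G) = (T : Subgroup G))
    (ψ : (T : Subgroup G) ≃* DihedralGroup 4) :
    (∃ (F : Type) (_ : Field F) (_ : Fintype F), Fintype.card F = 2 ∧
        Nonempty (G ≃* Matrix.ProjectiveSpecialLinearGroup (Fin 3) F)) ∨
      Nonempty (G ≃* ↥(alternatingGroup (Fin 6))) := by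
  have cent : center G = ⊥ := (IsSimpleGroup.eq_bot_or_eq_top_of_normal (center G) inferInstance).resolve_right
    fun e => hG ⟨⟨fun a b => mem_center_iff.mp (e ▸ mem_top b) a⟩⟩
  obtain ⟨z, hz⟩ : ∃ z : G, z = (ψ.symm (.r 2) : (T : Subgroup G)) := ⟨_, rfl⟩
  have oz : orderOf z = 2 := by
    rw [hz, orderOf_coe, MulEquiv.orderOf_eq]
    exact orderOf_eq_prime (by decide) (by decide)
  have e : centralizer ({z} : Set G) = (T : Subgroup G) := by
    refine le_antisymm (fun g hg => hC.le fun x hx => ?_) fun g hg => mem_centralizer_singleton_iff.mpr ?_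
    · obtain ⟨h₁, h₂, -⟩ := mem_omegaOneCenter_iff.mp hx
      have k : ∀ y : DihedralGroup 4, (∀ u, u * y = y * u) → y = 1 ∨ y = .r 2 := by decide
      rcases k (ψ ⟨x, h₁⟩) (fun u => by
        rw [← ψ.apply_symm_apply u, ← map_mul, ← map_mul]
        exact congrArg ψ (Subtype.ext (h₂ _ (ψ.symm u).2))) with c | c
      · have : x = 1 := congrArg Subtype.val ((map_eq_one_iff ψ ψ.injective).mp c)
        simp [this]
      · have : x = z := by rw [hz, ← c, ψ.symm_apply_apply]
        rw [this]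
        exact (mem_centralizer_singleton_iff.mp hg).symm
    · have k : ∀ u : DihedralGroup 4, u * .r 2 = .r 2 * u := by decide
      have := congrArg (fun u => (ψ.symm u : G)) (k (ψ ⟨g, hg⟩))
      simpa [hz] using this
  rcases Cfsg.Agent.S3035.result z oz ⟨(MulEquiv.subgroupCongr e).trans ψ⟩ with h | ⟨⟨φ⟩⟩ | ⟨⟨φ⟩⟩ | ⟨⟨φ⟩⟩ | h
  · rcases IsSimpleGroup.eq_bot_or_eq_top_of_normal (pPrimeCore 2 G) inferInstance with c | c
    · rw [oddCore, c, sup_bot_eq] at h
      have : z ∈ center G := mem_center_iff.mpr fun g => mem_centralizer_singleton_iff.mp (h ▸ mem_top g)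
      rw [cent, mem_bot] at this
      simp [this] at oz
    · have := coprime_card_pPrimeCore 2 G
      rw [c, card_top] at this
      exact absurd (this.symm.eq_one_of_dvd (oz ▸ orderOf_dvd_natCard z)) (by norm_num)
  · exact (not_perm φ (a := swap 0 1) (b := swap 0 1 * swap 0 2) (by decide) (by decide) (by decide)).elim
  · exact (not_perm φ (a := swap 0 1) (b := swap 0 1 * swap 0 2) (by decide) (by decide) (by decide)).elim
  · refine Or.inl ⟨ZMod 2, inferInstance, inferInstance, by simp, ⟨φ.trans ?_⟩⟩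
    have : center (Matrix.SpecialLinearGroup (Fin 3) (ZMod 2)) = ⊥ := eq_bot_iff.mpr fun x hx => by
      have : φ.symm x ∈ center G := mem_center_iff.mpr fun g => φ.injective (by simp [mem_center_iff.mp hx])
      rw [cent, mem_bot, map_eq_one_iff _ φ.symm.injective] at this
      exact this
    exact ((QuotientGroup.quotientMulEquivOfEq this).trans QuotientGroup.quotientBot).symm
  · exact Or.inr h

theorem fin [IsSimpleGroup G] (hG : ¬ IsMulCommutative G) (T : Sylow 2 G)
    (hC : centralizer (omegaOneCenter 2 (T : Subgroup G) : Set G) = (T : Subgroup G)) {P : Subgroup G}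
    (hT : (T : Subgroup G) ≤ P)
    (h : Nonempty (P ≃* Perm (Fin 4)) ∨ Nonempty (P ≃* Multiplicative (ZMod 2) × Perm (Fin 4))) :
    (∃ (F : Type) (_ : Field F) (_ : Fintype F), Fintype.card F = 2 ∧
        Nonempty (G ≃* Matrix.ProjectiveSpecialLinearGroup (Fin 3) F)) ∨
      Nonempty (G ≃* ↥(alternatingGroup (Fin 6))) := by
  rcases h with ⟨⟨φ⟩⟩ | ⟨⟨φ⟩⟩
  · obtain ⟨ψ⟩ := equiv_of T hT φ δ δ_inj (k := 3) DihedralGroup.nat_card (by simp; rfl)
    exact of_dihedral hG T hC ψ
  · obtain ⟨H, hH⟩ := Cfsg.Agent.S2911.result T (equiv_of T hT φ ((MonoidHom.id _).prodMap δ)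
      (Function.injective_id.prodMap δ_inj) (k := 4) (by rw [Nat.card_prod, DihedralGroup.nat_card]; simp)
      (by simp; rfl))
    rcases IsSimpleGroup.eq_bot_or_eq_top_of_normal H (normal_of_index_eq_two hH) with e | e
    · rw [e, index_bot] at hH
      have : IsCyclic G := isCyclic_of_prime_card (p := 2) hH
      exact absurd IsCyclic.isMulCommutative hG
    · simp [e] at hH

end Cfsg.Agent.Lib.QZEnd
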