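import Cfsg.Agent.Lib.RepLyD

set_option autoImplicit false
set_option maxRecDepth 100000
set_option Elab.async false

namespace Cfsg.Agent.Lib.RepLy
open Cfsg.Agent.Lib.PermNet Cfsg.Agent.Lib.MatRep

def r0 : List (List Nat) := [[0, 1], [2, 3], [4, 5], [6, 7], [8, 9], [10, 11], [12, 13], [14, 15], [16, 17], [18, 19], [20, 21], [22, 23], [24, 25], [26, 27], [28, 29], [30, 31], [32, 33], [34, 35], [36, 37], [38, 39], [40, 41], [42, 43], [44, 45], [46, 47], [48, 49], [50, 51], [52, 53], [54, 55], [56, 57], [58, 59], [60, 61], [62, 63], [64, 65], [66, 67], [68, 69], [70, 71], [72, 73], [74, 75], [76, 77]]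

theorem h0_0 : RelOn c ms r0 0 111 := relOn ok _ 0 111 111 (by decide +kernel)

theorem h0 : RelOn c ms r0 0 111 := h0_0

def r1 : List (List Nat) := [[78, 79], [0, 0, 0, 0, 0, 0, 0, 0], [2, 2, 2, 2, 2], [0, 2, 0, 2, 0, 2, 0, 2], [1, 1, 3, 0, 0, 2], [1, 3, 0, 2, 1, 3, 0, 2, 1, 3, 0, 2], [20, 5], [22, 1, 5, 0], [24, 3, 5, 2], [26, 2, 5, 3], [28, 23, 21, 22, 20], [20, 20, 20, 20, 20], [28, 28, 28, 28, 28], [21, 29, 20, 28], [23, 29, 22, 28]]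

theorem h1_0 : RelOn c ms r1 0 111 := relOn ok _ 0 111 111 (by decide +kernel)

theorem h1 : RelOn c ms r1 0 111 := h1_0

def r2 : List (List Nat) := [[25, 29, 24, 28], [27, 29, 26, 28], [21, 25, 20, 24, 28, 28], [21, 27, 20, 26, 29, 29], [23, 25, 22, 24, 28], [23, 27, 22, 26], [25, 27, 24, 26, 28], [1, 22, 0, 20, 20], [1, 24, 0, 27, 21, 24, 24], [1, 26, 0, 27, 21, 27, 24, 22, 21], [1, 28, 0, 29, 29], [3, 22, 2, 26, 20, 26, 25, 23], [3, 24, 2, 24, 24, 27, 21, 21]]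

theorem h2_0 : RelOn c ms r2 0 111 := relOn ok _ 0 111 111 (by decide +kernel)

theorem h2 : RelOn c ms r2 0 111 := h2_0

def r3 : List (List Nat) := [[3, 28, 2, 29], [10, 7, 21, 7, 2, 1, 3, 21, 7, 1, 21, 0, 21, 1, 20, 0, 2, 2], [10, 10], [11, 20, 10, 20, 3, 25, 3], [11, 24, 10, 0, 26, 20, 23, 1, 3, 3], [11, 26, 10, 27, 24, 3, 3], [11, 28, 10, 26, 21, 24, 21], [10, 0, 0, 10, 26, 29, 21, 1, 2, 1, 3, 3, 1], [11, 2, 10, 26, 26, 24, 21]]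

theorem h3_0 : RelOn c ms r3 0 111 := relOn ok _ 0 111 111 (by decide +kernel)

theorem h3 : RelOn c ms r3 0 111 := h3_0

def r4 : List (List Nat) := [[10, 0, 2, 2, 0, 3, 0, 10, 26, 29, 21, 1, 1], [10, 22, 10, 23, 10, 22, 27, 0, 24, 0, 0, 0], [6, 11, 3, 22, 1, 11, 1, 11, 1, 28, 26, 20, 2, 0, 3, 3, 1], [6, 6, 1, 1, 1, 1], [3, 7, 2, 6], [7, 0, 6, 1, 1, 1], [6, 28, 6, 28, 6, 28, 6, 28, 6, 28], [6, 28, 6, 29, 6, 28, 1, 1], [12, 1]]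

theorem h4_0 : RelOn c ms r4 0 111 := relOn ok _ 0 111 111 (by decide +kernel)

theorem h4 : RelOn c ms r4 0 111 := h4_0

def r5 : List (List Nat) := [[14, 2, 1, 3], [16, 2, 2, 1, 3, 3], [18, 3, 3, 1, 2, 2], [30, 1, 1], [32, 7], [34, 6], [36, 3, 5, 0, 3, 3, 4, 7, 4, 0, 5, 1, 4, 3, 3, 0, 2, 0, 3, 3], [38, 5, 3, 5, 7, 2, 2, 5, 7, 2, 5, 3, 5, 1, 4, 3, 3, 0, 3, 3, 0, 3, 1], [40, 6, 4, 3, 0, 4, 0, 6, 4], [42, 7, 3]]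

theorem h5_0 : RelOn c ms r5 0 111 := relOn ok _ 0 111 111 (by decide +kernel)

theorem h5 : RelOn c ms r5 0 111 := h5_0

def r6 : List (List Nat) := [[44, 2, 6], [46, 1, 3, 4, 1, 2, 4, 3, 0, 2, 0], [48, 3, 5, 3, 0, 5, 1, 2, 2], [50, 1, 3, 1, 5, 0, 2, 0], [52, 3, 1, 2, 5, 3, 0, 2], [54, 4, 2, 2, 5, 1, 3, 5, 2, 0, 3, 3], [56, 0, 0, 0], [58, 0, 0, 2, 0, 3], [60, 0, 2, 2, 1, 3, 3, 1]]

theorem h6_0 : RelOn c ms r6 0 111 := relOn ok _ 0 111 111 (by decide +kernel)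

theorem h6 : RelOn c ms r6 0 111 := h6_0

def r7 : List (List Nat) := [[62, 2, 1, 3, 1, 2, 1, 4, 0, 2, 4, 3, 6, 4, 3, 0, 4, 2, 7, 0], [64, 6, 2, 5, 0, 5, 1, 5, 7, 4, 4, 0, 3, 4, 3, 5, 0, 2, 2, 1], [66, 5, 3, 5, 7, 2, 2, 5, 7, 3, 5, 3, 3, 5, 2, 0, 2, 2, 0, 2, 1, 3]]

theorem h7_0 : RelOn c ms r7 0 111 := relOn ok _ 0 111 111 (by decide +kernel)

theorem h7 : RelOn c ms r7 0 111 := h7_0

def r8 : List (List Nat) := [[68, 2, 0, 3, 1, 3, 3, 1, 3, 4, 2, 2, 4, 2, 6, 4, 3, 3, 6, 4, 2, 4], [70, 2, 2, 0, 2, 4, 2, 2, 5, 1, 4, 0, 6, 4, 1, 2, 4, 1, 6, 4, 0], [72, 2, 1, 2, 2, 1, 2, 4, 2, 0, 3, 6, 4, 2, 0, 3, 6, 4, 0]]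

theorem h8_0 : RelOn c ms r8 0 111 := relOn ok _ 0 111 111 (by decide +kernel)

theorem h8 : RelOn c ms r8 0 111 := h8_0

def r9 : List (List Nat) := [[74, 0, 3, 0, 2, 2, 0, 5, 0, 2, 1, 6, 4, 0, 5, 3, 5, 1, 6], [76, 3, 0, 2, 0, 2, 5, 1, 5, 0, 5, 6, 4, 3, 5, 0, 4], [9, 20, 8, 47], [9, 22, 8, 49], [9, 24, 8, 51], [9, 26, 8, 53], [9, 28, 8, 55], [9, 12, 8, 57], [9, 14, 8, 59], [9, 16, 8, 61], [8, 8, 31], [18, 8, 18, 8, 18, 8, 30]]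

theorem h9_0 : RelOn c ms r9 0 111 := relOn ok _ 0 111 111 (by decide +kernel)

theorem h9 : RelOn c ms r9 0 111 := h9_0

def r10 : List (List Nat) := [[40, 8, 62, 8, 70, 8], [9, 34, 9, 72, 8, 32, 8, 38], [8, 66, 8, 64, 9, 68, 9, 74], [8, 42, 8, 36, 9, 44, 9, 76], [0, 4, 7, 9, 79], [78, 78, 78, 78, 78, 78, 78, 78, 78, 78, 78, 78, 78, 78, 78, 78, 78, 78, 78, 78, 78, 78, 78, 78, 78, 78, 78, 78, 78, 78, 78, 78, 78, 78, 78, 78, 78]]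

theorem h10_0 : RelOn c ms r10 0 111 := relOn ok _ 0 111 111 (by decide +kernel)

theorem h10 : RelOn c ms r10 0 111 := h10_0


end Cfsg.Agent.Lib.RepLy
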