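import Cfsg.Agent.Lib.RepThD

set_option autoImplicit false
set_option maxRecDepth 100000
set_option Elab.async false

namespace Cfsg.Agent.Lib.RepTh
open Cfsg.Agent.Lib.PermNet Cfsg.Agent.Lib.MatRep

def r13 : List (List Nat) := [[2, 4, 6, 8, 2, 4, 6, 8, 2, 4, 6, 8, 2, 4, 6, 8, 2, 4, 6, 8, 2, 4, 6, 8, 2, 4, 6, 8, 2, 4, 6, 8]]

theorem h13_0 : RelOn c ms r13 0 50 := relOn ok _ 0 50 50 (by decide +kernel)

theorem h13_1 : RelOn c ms r13 50 99 := relOn ok _ 50 49 99 (by decide +kernel)

theorem h13_2 : RelOn c ms r13 99 149 := relOn ok _ 99 50 149 (by decide +kernel)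

theorem h13_3 : RelOn c ms r13 149 198 := relOn ok _ 149 49 198 (by decide +kernel)

theorem h13_4 : RelOn c ms r13 198 248 := relOn ok _ 198 50 248 (by decide +kernel)

theorem h13 : RelOn c ms r13 0 248 := ((((h13_0).trans h13_1).trans h13_2).trans h13_3).trans h13_4

def r14 : List (List Nat) := [[10, 10, 10, 10, 10, 10, 10]]

theorem h14_0 : RelOn c ms r14 0 248 := relOn ok _ 0 248 248 (by decide +kernel)

theorem h14 : RelOn c ms r14 0 248 := h14_0

def r15 : List (List Nat) := [[11, 1, 10, 0]]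

theorem h15_0 : RelOn c ms r15 0 248 := relOn ok _ 0 248 248 (by decide +kernel)

theorem h15 : RelOn c ms r15 0 248 := h15_0

def r16 : List (List Nat) := [[11, 3, 10, 2]]

theorem h16_0 : RelOn c ms r16 0 248 := relOn ok _ 0 248 248 (by decide +kernel)

theorem h16 : RelOn c ms r16 0 248 := h16_0

def r17 : List (List Nat) := [[11, 5, 10, 4]]

theorem h17_0 : RelOn c ms r17 0 248 := relOn ok _ 0 248 248 (by decide +kernel)

theorem h17 : RelOn c ms r17 0 248 := h17_0

def r18 : List (List Nat) := [[10, 6, 10, 6]]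

theorem h18_0 : RelOn c ms r18 0 248 := relOn ok _ 0 248 248 (by decide +kernel)

theorem h18 : RelOn c ms r18 0 248 := h18_0

def r19 : List (List Nat) := [[9, 11, 8, 10, 11, 11, 11, 9, 10, 10, 10]]

theorem h19_0 : RelOn c ms r19 0 124 := relOn ok _ 0 124 124 (by decide +kernel)

theorem h19_1 : RelOn c ms r19 124 248 := relOn ok _ 124 124 248 (by decide +kernel)

theorem h19 : RelOn c ms r19 0 248 := (h19_0).trans h19_1

def r20 : List (List Nat) := [[12, 12, 12], [13, 1, 12, 0]]

theorem h20_0 : RelOn c ms r20 0 248 := relOn ok _ 0 248 248 (by decide +kernel)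

theorem h20 : RelOn c ms r20 0 248 := h20_0

def r21 : List (List Nat) := [[13, 3, 12, 2]]

theorem h21_0 : RelOn c ms r21 0 248 := relOn ok _ 0 248 248 (by decide +kernel)

theorem h21 : RelOn c ms r21 0 248 := h21_0

def r22 : List (List Nat) := [[13, 5, 12, 4]]

theorem h22_0 : RelOn c ms r22 0 248 := relOn ok _ 0 248 248 (by decide +kernel)

theorem h22 : RelOn c ms r22 0 248 := h22_0

def r23 : List (List Nat) := [[13, 7, 12, 6]]

theorem h23_0 : RelOn c ms r23 0 248 := relOn ok _ 0 248 248 (by decide +kernel)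

theorem h23 : RelOn c ms r23 0 248 := h23_0


end Cfsg.Agent.Lib.RepTh
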