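import Cfsg.Agent.Lib.RepThD

set_option autoImplicit false
set_option maxRecDepth 100000
set_option Elab.async false

namespace Cfsg.Agent.Lib.RepTh
open Cfsg.Agent.Lib.PermNet Cfsg.Agent.Lib.MatRep

def r35 : List (List Nat) := [[0, 4, 11, 15, 11, 15, 11, 15]]

theorem h35_0 : RelOn c ms r35 0 124 := relOn ok _ 0 124 124 (by decide +kernel)

theorem h35_1 : RelOn c ms r35 124 248 := relOn ok _ 124 124 248 (by decide +kernel)

theorem h35 : RelOn c ms r35 0 248 := (h35_0).trans h35_1

def r36 : List (List Nat) := [[0, 4, 11, 15, 10, 14, 11, 15, 10, 14, 11, 15, 10, 14, 11, 15, 10, 14]]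

theorem h36_0 : RelOn c ms r36 0 83 := relOn ok _ 0 83 83 (by decide +kernel)

theorem h36_1 : RelOn c ms r36 83 165 := relOn ok _ 83 82 165 (by decide +kernel)

theorem h36_2 : RelOn c ms r36 165 248 := relOn ok _ 165 83 248 (by decide +kernel)

theorem h36 : RelOn c ms r36 0 248 := ((h36_0).trans h36_1).trans h36_2

def r37 : List (List Nat) := [[6, 11, 11, 14, 10, 10, 6, 11, 11, 14, 10, 10, 6, 11, 11, 14, 10, 10, 6, 11, 11, 14, 10, 10, 11, 11, 9, 7, 5, 6, 8, 10, 10, 10, 9, 7, 5, 6, 8, 11, 7, 5, 6, 5, 1]]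

theorem h37_0 : RelOn c ms r37 0 41 := relOn ok _ 0 41 41 (by decide +kernel)

theorem h37_1 : RelOn c ms r37 41 83 := relOn ok _ 41 42 83 (by decide +kernel)

theorem h37_2 : RelOn c ms r37 83 124 := relOn ok _ 83 41 124 (by decide +kernel)

theorem h37_3 : RelOn c ms r37 124 165 := relOn ok _ 124 41 165 (by decide +kernel)

theorem h37_4 : RelOn c ms r37 165 207 := relOn ok _ 165 42 207 (by decide +kernel)

theorem h37_5 : RelOn c ms r37 207 248 := relOn ok _ 207 41 248 (by decide +kernel)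

theorem h37 : RelOn c ms r37 0 248 := (((((h37_0).trans h37_1).trans h37_2).trans h37_3).trans h37_4).trans h37_5

def r38 : List (List Nat) := [[2, 6, 11, 14, 17]]

theorem h38_0 : RelOn c ms r38 0 248 := relOn ok _ 0 248 248 (by decide +kernel)

theorem h38 : RelOn c ms r38 0 248 := h38_0


end Cfsg.Agent.Lib.RepTh
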