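import Cfsg.Agent.Lib.RepThD

set_option autoImplicit false
set_option maxRecDepth 100000
set_option Elab.async false

namespace Cfsg.Agent.Lib.RepTh
open Cfsg.Agent.Lib.PermNet Cfsg.Agent.Lib.MatRep

def r39 : List (List Nat) := [[16, 16, 16, 16, 16, 16, 16, 16, 16, 16, 16, 16, 16, 16, 16]]

theorem h39_0 : RelOn c ms r39 0 124 := relOn ok _ 0 124 124 (by decide +kernel)

theorem h39_1 : RelOn c ms r39 124 248 := relOn ok _ 124 124 248 (by decide +kernel)

theorem h39 : RelOn c ms r39 0 248 := (h39_0).trans h39_1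


end Cfsg.Agent.Lib.RepTh
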