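import Cfsg.Prelude.Def_Spor_Ru
import Cfsg.Agent.Lib.GMat

/-! A basis of the Rudvalis lattice, six automorphisms in its coordinates, and the checks on them. -/

set_option autoImplicit false
set_option maxRecDepth 100000
set_option Elab.async false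

namespace Cfsg.Agent.Lib.RuLatD

open Cfsg.Agent.Lib.GMat Cfsg.Spor

def e : RuIdx ≃ Fin 28 := finProdFinEquiv

/-- The columns are the basis vectors. -/
def Bc : Mat := [[⟨4, 0⟩, ⟨1, 0⟩, ⟨-1, 0⟩, ⟨0, -1⟩, ⟨1, 0⟩, ⟨1, 0⟩, ⟨0, 1⟩, ⟨0, -1⟩, ⟨1, 0⟩, ⟨-1, 0⟩, ⟨1, 0⟩, ⟨0, -1⟩, ⟨0, 1⟩, ⟨-1, 0⟩, 0, 0, 0, 0, 0, 0, 0, 0, 0, 0, 0, 0, 0, 0],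
  [0, ⟨1, 0⟩, 0, ⟨0, 1⟩, ⟨0, 1⟩, ⟨-1, 0⟩, ⟨0, 1⟩, ⟨0, -1⟩, ⟨1, 0⟩, ⟨-1, 0⟩, 0, ⟨0, -1⟩, 0, ⟨0, 1⟩, 0, 0, 0, 0, ⟨-1, 0⟩, 0, 0, 0, 0, ⟨-1, 0⟩, 0, 0, ⟨0, 1⟩, 0],
  [0, 0, 0, ⟨0, -1⟩, 0, 0, 0, 0, 0, ⟨0, 1⟩, 0, 0, 0, ⟨-1, 0⟩, ⟨0, -1⟩, 0, ⟨0, -1⟩, ⟨0, -1⟩, 0, ⟨0, 1⟩, ⟨-1, 0⟩, ⟨0, -1⟩, ⟨0, -1⟩, ⟨0, -1⟩, 0, 0, ⟨1, 0⟩, ⟨0, 1⟩],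
  [0, 0, ⟨-1, 0⟩, ⟨0, 1⟩, 0, 0, 0, 0, 0, ⟨0, -1⟩, ⟨-1, 0⟩, 0, ⟨1, 0⟩, ⟨0, -1⟩, ⟨0, 1⟩, 0, ⟨-1, 0⟩, ⟨-1, 0⟩, ⟨0, -1⟩, ⟨-1, 0⟩, ⟨0, 1⟩, ⟨-1, 0⟩, ⟨1, 0⟩, 0, 0, 0, 0, ⟨-1, 0⟩],
  [0, ⟨-1, 0⟩, ⟨-1, 0⟩, ⟨1, 0⟩, ⟨1, 0⟩, 0, ⟨0, 1⟩, 0, 0, ⟨-1, 0⟩, 0, 0, 0, ⟨0, 1⟩, 0, 0, ⟨1, 0⟩, ⟨0, -1⟩, ⟨1, 0⟩, 0, 0, 0, 0, 0, ⟨1, 0⟩, 0, 0, 0],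
  [0, ⟨0, 1⟩, ⟨-1, 0⟩, 0, 0, 0, ⟨1, 0⟩, 0, 0, 0, 0, 0, ⟨1, 0⟩, 0, ⟨0, 1⟩, 0, ⟨0, -1⟩, ⟨-1, 0⟩, 0, 0, 0, 0, 0, 0, ⟨-1, 0⟩, 0, 0, 0],
  [0, 0, 0, 0, ⟨1, 0⟩, ⟨1, 0⟩, 0, ⟨1, 0⟩, ⟨0, -1⟩, 0, ⟨1, 0⟩, ⟨-1, 0⟩, 0, 0, 0, 0, 0, 0, 0, ⟨0, -1⟩, ⟨0, -1⟩, ⟨-1, 0⟩, ⟨0, 1⟩, ⟨-1, 0⟩, ⟨0, 1⟩, 0, ⟨0, 1⟩, ⟨0, -1⟩],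
  [0, 0, 0, ⟨1, 0⟩, 0, ⟨1, 0⟩, 0, ⟨1, 0⟩, ⟨0, -1⟩, ⟨-1, 0⟩, ⟨0, 1⟩, ⟨-1, 0⟩, ⟨-1, 0⟩, ⟨0, 1⟩, ⟨-1, 0⟩, 0, 0, 0, ⟨0, 1⟩, ⟨0, 1⟩, ⟨0, 1⟩, ⟨1, 0⟩, ⟨0, -1⟩, ⟨0, -1⟩, ⟨1, 0⟩, 0, ⟨1, 0⟩, ⟨0, -1⟩],
  [0, 0, ⟨0, -1⟩, 0, 0, 0, 0, ⟨-1, 0⟩, ⟨0, -1⟩, 0, ⟨0, -1⟩, ⟨0, 1⟩, ⟨1, 0⟩, 0, 0, ⟨0, -1⟩, 0, 0, 0, ⟨1, 0⟩, 0, 0, ⟨0, 1⟩, ⟨-1, 0⟩, 0, ⟨0, 1⟩, ⟨0, -1⟩, 0],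
  [0, ⟨0, -1⟩, ⟨1, 0⟩, 0, ⟨0, 1⟩, ⟨0, 1⟩, ⟨-1, 0⟩, 0, 0, 0, ⟨-1, 0⟩, 0, ⟨-1, 0⟩, 0, ⟨0, -1⟩, ⟨0, 1⟩, ⟨1, 0⟩, ⟨1, 0⟩, ⟨1, 0⟩, 0, ⟨-1, 0⟩, ⟨0, -1⟩, 0, ⟨0, -1⟩, 0, ⟨0, -1⟩, ⟨-1, 0⟩, ⟨-1, 0⟩],
  [0, 0, 0, ⟨0, 1⟩, ⟨0, -1⟩, 0, 0, ⟨-1, 0⟩, ⟨0, -1⟩, ⟨1, 0⟩, 0, ⟨0, 1⟩, ⟨-1, 0⟩, ⟨0, 1⟩, ⟨0, 1⟩, ⟨1, 0⟩, 0, 0, 0, ⟨1, 0⟩, 0, 0, ⟨0, 1⟩, 0, 0, ⟨1, 0⟩, 0, 0],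
  [0, ⟨-1, 0⟩, 0, ⟨-1, 0⟩, 0, ⟨1, 0⟩, ⟨0, 1⟩, 0, 0, ⟨0, -1⟩, 0, 0, ⟨1, 0⟩, ⟨-1, 0⟩, 0, ⟨0, -1⟩, ⟨0, 1⟩, ⟨0, 1⟩, ⟨1, 0⟩, 0, ⟨0, 1⟩, ⟨-1, 0⟩, 0, 0, 0, ⟨0, -1⟩, 0, ⟨0, -1⟩],
  [0, ⟨0, -1⟩, ⟨-1, 0⟩, 0, 0, 0, ⟨1, 0⟩, ⟨0, -1⟩, ⟨-1, 0⟩, ⟨0, -1⟩, ⟨0, 1⟩, ⟨0, -1⟩, 0, 0, 0, 0, 0, ⟨0, -1⟩, ⟨0, -1⟩, 0, ⟨0, 1⟩, ⟨1, 0⟩, 0, 0, ⟨-1, 0⟩, 0, 0, 0],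
  [0, 0, 0, 0, ⟨0, -1⟩, ⟨-1, 0⟩, 0, 0, 0, ⟨1, 0⟩, 0, 0, ⟨1, 0⟩, 0, ⟨1, 0⟩, 0, ⟨0, 1⟩, 0, ⟨0, -1⟩, ⟨1, 0⟩, 0, 0, ⟨-1, 0⟩, ⟨0, -1⟩, ⟨0, 1⟩, 0, ⟨1, 0⟩, ⟨-1, 0⟩],
  [0, 0, ⟨1, 0⟩, ⟨-1, 0⟩, 0, ⟨1, 0⟩, 0, 0, 0, 0, ⟨0, -1⟩, 0, ⟨0, 1⟩, ⟨-1, 0⟩, 0, 0, ⟨0, 1⟩, 0, ⟨1, 0⟩, ⟨1, 0⟩, 0, 0, ⟨1, 0⟩, 0, ⟨1, 0⟩, 0, 0, ⟨1, 0⟩],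
  [0, ⟨-1, 0⟩, 0, ⟨-1, 0⟩, ⟨0, -1⟩, 0, ⟨0, -1⟩, ⟨1, 0⟩, ⟨0, -1⟩, 0, 0, ⟨-1, 0⟩, 0, ⟨1, 0⟩, ⟨-1, 0⟩, 0, 0, ⟨-1, 0⟩, ⟨-1, 0⟩, 0, ⟨-1, 0⟩, ⟨0, 1⟩, 0, ⟨-1, 0⟩, ⟨1, 0⟩, 0, ⟨0, 1⟩, 0],
  [0, ⟨1, 0⟩, 0, 0, ⟨0, 1⟩, ⟨0, 1⟩, ⟨0, -1⟩, 0, 0, ⟨0, 1⟩, 0, ⟨-1, 0⟩, ⟨1, 0⟩, ⟨-1, 0⟩, ⟨0, -1⟩, ⟨0, 1⟩, 0, ⟨0, 1⟩, ⟨0, 1⟩, ⟨0, 1⟩, ⟨1, 0⟩, ⟨0, -1⟩, 0, ⟨-1, 0⟩, ⟨0, -1⟩, ⟨0, 1⟩, ⟨0, -1⟩, ⟨1, 0⟩],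
  [0, 0, ⟨0, -1⟩, ⟨0, 1⟩, ⟨0, 1⟩, 0, 0, ⟨1, 0⟩, ⟨0, -1⟩, 0, ⟨-1, 0⟩, 0, ⟨-1, 0⟩, 0, ⟨-1, 0⟩, ⟨1, 0⟩, ⟨-1, 0⟩, 0, 0, 0, 0, 0, ⟨0, -1⟩, 0, ⟨0, -1⟩, ⟨-1, 0⟩, 0, 0],
  [0, ⟨0, -1⟩, ⟨0, -1⟩, 0, ⟨1, 0⟩, ⟨1, 0⟩, ⟨-1, 0⟩, 0, 0, ⟨0, 1⟩, ⟨-1, 0⟩, ⟨0, -1⟩, 0, ⟨-1, 0⟩, ⟨-1, 0⟩, ⟨0, -1⟩, 0, ⟨1, 0⟩, 0, ⟨-1, 0⟩, ⟨0, -1⟩, ⟨-1, 0⟩, 0, 0, ⟨0, -1⟩, ⟨0, 1⟩, 0, ⟨0, -1⟩],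
  [0, 0, 0, ⟨-1, 0⟩, ⟨-1, 0⟩, 0, 0, ⟨-1, 0⟩, ⟨0, 1⟩, 0, 0, 0, 0, 0, ⟨0, 1⟩, ⟨0, -1⟩, ⟨1, 0⟩, 0, ⟨0, -1⟩, 0, 0, 0, ⟨0, 1⟩, ⟨0, -1⟩, ⟨-1, 0⟩, ⟨0, -1⟩, ⟨-1, 0⟩, 0],
  [0, ⟨-1, 0⟩, ⟨-1, 0⟩, ⟨-1, 0⟩, ⟨0, 1⟩, ⟨0, -1⟩, ⟨0, -1⟩, ⟨1, 0⟩, ⟨0, -1⟩, 0, 0, ⟨-1, 0⟩, ⟨1, 0⟩, ⟨-1, 0⟩, 0, ⟨-1, 0⟩, ⟨0, 1⟩, ⟨0, -1⟩, 0, ⟨1, 0⟩, ⟨0, -1⟩, ⟨-1, 0⟩, ⟨0, -1⟩, ⟨-1, 0⟩, ⟨1, 0⟩, ⟨0, 1⟩, ⟨0, -1⟩, ⟨0, 1⟩],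
  [0, ⟨1, 0⟩, 0, 0, 0, ⟨1, 0⟩, ⟨0, 1⟩, ⟨0, -1⟩, ⟨-1, 0⟩, ⟨1, 0⟩, ⟨-1, 0⟩, ⟨0, -1⟩, ⟨0, 1⟩, 0, ⟨0, 1⟩, ⟨-1, 0⟩, ⟨-1, 0⟩, ⟨0, -1⟩, 0, ⟨-1, 0⟩, ⟨0, 1⟩, ⟨1, 0⟩, ⟨0, 1⟩, 0, ⟨0, 1⟩, ⟨0, 1⟩, 0, ⟨-1, 0⟩],
  [0, ⟨0, 1⟩, ⟨0, 1⟩, 0, 0, ⟨0, -1⟩, ⟨-1, 0⟩, ⟨0, 1⟩, ⟨1, 0⟩, ⟨-1, 0⟩, 0, ⟨1, 0⟩, 0, 0, ⟨-1, 0⟩, ⟨-1, 0⟩, ⟨0, -1⟩, ⟨0, -1⟩, ⟨-1, 0⟩, ⟨-1, 0⟩, ⟨0, -1⟩, ⟨-1, 0⟩, ⟨-1, 0⟩, ⟨0, -1⟩, ⟨0, 1⟩, ⟨0, 1⟩, ⟨-1, 0⟩, ⟨-1, 0⟩],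
  [0, ⟨0, 1⟩, 0, ⟨0, 1⟩, ⟨0, 1⟩, ⟨-1, 0⟩, ⟨-1, 0⟩, ⟨1, 0⟩, ⟨0, -1⟩, 0, ⟨1, 0⟩, ⟨0, -1⟩, 0, ⟨0, 1⟩, 0, ⟨0, 1⟩, ⟨-1, 0⟩, ⟨0, -1⟩, ⟨0, 1⟩, ⟨1, 0⟩, ⟨0, 1⟩, ⟨1, 0⟩, ⟨-1, 0⟩, 0, ⟨0, 1⟩, ⟨1, 0⟩, 0, ⟨0, -1⟩],
  [0, ⟨0, 1⟩, ⟨0, 1⟩, ⟨0, 1⟩, 0, ⟨0, 1⟩, ⟨-1, 0⟩, 0, 0, 0, ⟨0, 1⟩, ⟨0, -1⟩, 0, 0, ⟨0, 1⟩, ⟨0, -1⟩, 0, 0, ⟨-1, 0⟩, ⟨0, -1⟩, ⟨0, 1⟩, ⟨-1, 0⟩, 0, ⟨0, 1⟩, 0, ⟨1, 0⟩, ⟨0, 1⟩, 0],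
  [0, 0, ⟨0, -1⟩, 0, 0, 0, 0, ⟨1, 0⟩, ⟨0, 1⟩, ⟨1, 0⟩, ⟨0, 1⟩, 0, ⟨-1, 0⟩, ⟨1, 0⟩, ⟨0, 1⟩, ⟨1, 0⟩, ⟨0, -1⟩, ⟨0, 1⟩, ⟨0, 1⟩, 0, 0, 0, ⟨1, 0⟩, ⟨0, 1⟩, 0, ⟨0, -1⟩, ⟨0, 1⟩, ⟨0, 1⟩],
  [0, 0, ⟨-1, 0⟩, ⟨-1, 0⟩, ⟨0, 1⟩, 0, 0, ⟨0, -1⟩, ⟨1, 0⟩, 0, ⟨1, 0⟩, 0, 0, 0, 0, ⟨1, 0⟩, ⟨1, 0⟩, ⟨1, 0⟩, 0, 0, 0, 0, ⟨0, -1⟩, ⟨0, 1⟩, 0, ⟨0, -1⟩, ⟨0, 1⟩, ⟨1, 0⟩],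
  [0, ⟨0, -1⟩, ⟨-1, 0⟩, 0, ⟨1, 0⟩, ⟨0, -1⟩, ⟨1, 0⟩, 0, 0, ⟨1, 0⟩, ⟨-1, 0⟩, ⟨0, 1⟩, ⟨0, -1⟩, ⟨1, 0⟩, 0, ⟨1, 0⟩, 0, 0, 0, ⟨0, 1⟩, ⟨0, -1⟩, ⟨1, 0⟩, 0, ⟨0, 1⟩, 0, ⟨0, 1⟩, ⟨0, 1⟩, 0]]

def b (j : ℕ) : RuVec := fun p => (Bc.getD (e p) []).getD j 0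

def mp : ℕ → RuVec → RuVec
  | 0 => (gI • ·)
  | 1 => ruRj
  | 2 => ruRk
  | 3 => ruSign
  | _ => ruShift

def tab (f : ℕ → RuVec) : Mat := (List.finRange 28).map fun i => (List.range 28).map fun j => f j (e.symm i)

def W : List (List ℕ × ℕ) := [([], 0), ([4, 4, 1, 0, 0, 0], 14), ([3, 4, 3, 1, 0, 0], 16), ([3, 0], 12), ([4, 4, 3, 4, 3, 1], 6), ([4, 4, 2, 0, 0], 7), ([3, 4, 4, 1, 0, 0], 14), ([4, 3, 4, 2, 1, 0], 6), ([4, 3, 4, 3, 1, 2], 6), ([3,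 1, 0, 0, 0], 6), ([4, 3, 1, 0, 0], 7), ([4, 4, 3, 2, 0], 8), ([4, 4, 3, 4, 4, 4], 17), ([2, 0], 15), ([4, 3, 4, 4, 1, 2], 8), ([3, 4, 1, 2], 3), ([3, 4, 3, 4, 3, 2], 11), ([4, 3, 4, 0], 6), ([3, 4, 4, 4, 4, 1], 8), ([4, 4], 18), ([4, 4, 0, 0, 0], 13), ([4, 4, 3], 13), ([4, 3, 4, 1, 0, 0], 12), ([4, 0], 7), ([4, 3, 4, 1, 2, 0], 3), ([4, 0], 4), ([4, 3, 0, 0, 0], 6), ([4, 4, 1, 2], 15)]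

def par : List ℕ := [0, 0, 0, 0, 0, 0, 0, 0, 0, 0, 0, 0, 0, 0, 1, 1, 1, 1, 1, 1, 1, 1, 1, 2, 2, 2, 3, 3]

def Dh : Mat := [[⟨1, 0⟩, ⟨-1, -1⟩, ⟨1, -1⟩, ⟨0, -1⟩, ⟨0, 1⟩, ⟨0, 2⟩, ⟨1, 0⟩, 0, ⟨0, 1⟩, ⟨0, 1⟩, ⟨0, -1⟩, ⟨0, -1⟩, 0, ⟨0, 1⟩, ⟨-1, 0⟩, 0, 0, ⟨0, 2⟩, ⟨0, 1⟩, ⟨1, 0⟩, ⟨0, -1⟩, ⟨1, 0⟩, 0, 0, ⟨1, 1⟩, ⟨0, -1⟩, ⟨-1, 1⟩, ⟨1, 0⟩],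
  [0, ⟨0, 1⟩, ⟨-1, 0⟩, ⟨-1, 1⟩, ⟨1, 0⟩, ⟨0, -2⟩, ⟨0, -1⟩, 0, ⟨1, -1⟩, 0, ⟨-1, 1⟩, ⟨-1, 1⟩, ⟨1, 1⟩, ⟨1, 0⟩, ⟨1, 0⟩, 0, ⟨1, 0⟩, ⟨2, -1⟩, ⟨-1, -1⟩, 0, ⟨-1, 1⟩, ⟨-1, -1⟩, ⟨1, 0⟩, ⟨-1, 0⟩, ⟨1, -1⟩, ⟨0, 1⟩, ⟨1, -1⟩, ⟨-1, 0⟩],
  [0, ⟨-1, -1⟩, ⟨1, 0⟩, ⟨0, -1⟩, ⟨0, 2⟩, ⟨0, 1⟩, ⟨1, 1⟩, ⟨0, -1⟩, ⟨1, 2⟩, ⟨-1, 1⟩, ⟨-1, -1⟩, ⟨0, -1⟩, 0, ⟨0, 1⟩, 0, ⟨0, 1⟩, 0, ⟨1, 3⟩, 0, 0, ⟨-1, -2⟩, ⟨2, 0⟩, 0, ⟨-1, 0⟩, ⟨1, 1⟩, 0, ⟨0, 1⟩, ⟨0, -1⟩],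
  [0, ⟨-2, 1⟩, ⟨0, -2⟩, ⟨-1, -2⟩, ⟨-2, 1⟩, ⟨2, 2⟩, ⟨-1, -1⟩, ⟨0, 1⟩, ⟨-2, 1⟩, ⟨1, -1⟩, ⟨1, 0⟩, ⟨-1, -1⟩, ⟨-2, 0⟩, ⟨-4, 0⟩, ⟨-3, -3⟩, 0, ⟨-1, -1⟩, ⟨-4, -1⟩, ⟨0, 1⟩, ⟨0, -2⟩, ⟨1, 2⟩, ⟨0, 1⟩, ⟨-2, -2⟩, ⟨1, -3⟩, ⟨0, 1⟩, ⟨-3, -2⟩, ⟨-1, 1⟩, ⟨1, -1⟩],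
  [0, ⟨1, -1⟩, ⟨1, 2⟩, ⟨3, 0⟩, ⟨-2, 2⟩, ⟨-1, -1⟩, ⟨0, 3⟩, ⟨1, -2⟩, 0, ⟨-2, -1⟩, ⟨-1, -1⟩, ⟨0, -1⟩, ⟨-2, 0⟩, ⟨0, -1⟩, ⟨2, 1⟩, ⟨0, 2⟩, ⟨0, 1⟩, ⟨-1, 1⟩, ⟨1, -2⟩, ⟨-1, 1⟩, ⟨-1, -3⟩, ⟨1, 1⟩, ⟨-1, 1⟩, 0, ⟨-2, 1⟩, ⟨1, 1⟩, ⟨1, -1⟩, ⟨0, -1⟩],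
  [0, 0, ⟨1, 0⟩, ⟨1, 0⟩, ⟨0, -2⟩, ⟨0, -1⟩, 0, ⟨-1, 0⟩, ⟨-1, -1⟩, ⟨1, 0⟩, ⟨0, 1⟩, 0, ⟨-1, 0⟩, ⟨-1, -3⟩, ⟨2, -1⟩, ⟨1, -1⟩, ⟨-1, -1⟩, ⟨0, -4⟩, 0, 0, ⟨-1, 2⟩, ⟨-1, -1⟩, 0, ⟨2, 1⟩, ⟨-1, -1⟩, 0, ⟨0, -1⟩, ⟨0, 1⟩],
  [0, ⟨-1, -1⟩, ⟨1, -1⟩, ⟨0, -2⟩, ⟨-2, 1⟩, ⟨2, 3⟩, ⟨1, -2⟩, ⟨0, -1⟩, ⟨-2, -1⟩, ⟨1, 0⟩, ⟨0, 1⟩, ⟨0, -1⟩, ⟨-2, 0⟩, ⟨-2, -2⟩, ⟨0, -2⟩, ⟨0, 2⟩, 0, ⟨-1, -1⟩, ⟨-1, 1⟩, ⟨2, 0⟩, ⟨-1, 1⟩, 0, ⟨-1, -1⟩, ⟨2, 0⟩, ⟨1, 1⟩, ⟨-1, -3⟩, ⟨-2, 0⟩, ⟨2, 0⟩],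
  [0, ⟨1, 0⟩, ⟨2, 1⟩, ⟨3, -1⟩, ⟨1, 0⟩, ⟨-3, 1⟩, ⟨2, 1⟩, ⟨-1, -1⟩, ⟨-1, -1⟩, ⟨-1, 1⟩, ⟨-1, 1⟩, 0, ⟨-2, 0⟩, ⟨-1, -2⟩, ⟨1, -2⟩, ⟨1, 1⟩, ⟨1, -1⟩, ⟨0, -2⟩, ⟨-3, 0⟩, ⟨1, 2⟩, ⟨-1, 1⟩, ⟨1, 1⟩, ⟨-1, 0⟩, ⟨1, 2⟩, ⟨-1, 0⟩, ⟨2, 0⟩, ⟨-1, -2⟩, 0],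
  [0, 0, ⟨-1, 0⟩, ⟨-1, 0⟩, ⟨1, 1⟩, ⟨1, -2⟩, ⟨-2, 0⟩, ⟨-1, 0⟩, ⟨-1, 2⟩, ⟨-1, -1⟩, ⟨1, 1⟩, ⟨0, 1⟩, ⟨0, 2⟩, ⟨-2, 1⟩, ⟨-1, -1⟩, ⟨1, 0⟩, 0, ⟨-1, 1⟩, 0, ⟨0, -2⟩, ⟨1, 1⟩, ⟨0, 1⟩, ⟨0, 1⟩, ⟨0, -2⟩, ⟨0, -1⟩, ⟨-2, 1⟩, ⟨0, 2⟩, ⟨0, -2⟩],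
  [0, ⟨-2, 0⟩, ⟨0, -1⟩, ⟨-1, 0⟩, ⟨-3, 0⟩, ⟨1, 2⟩, ⟨-2, 0⟩, ⟨1, 1⟩, ⟨-1, 2⟩, 0, ⟨2, -1⟩, ⟨1, -1⟩, ⟨1, 0⟩, ⟨-1, 1⟩, ⟨-2, 0⟩, ⟨-1, 0⟩, ⟨-1, 0⟩, ⟨-3, 1⟩, ⟨2, 1⟩, ⟨-1, -3⟩, ⟨2, -1⟩, ⟨0, 1⟩, ⟨0, -1⟩, ⟨0, -3⟩, ⟨0, 1⟩, ⟨-1, -1⟩, ⟨0, 2⟩, ⟨1, 0⟩],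
  [0, ⟨-1, 0⟩, ⟨1, 2⟩, ⟨1, 3⟩, ⟨-2, -2⟩, ⟨-2, 0⟩, ⟨-2, 1⟩, ⟨1, 0⟩, 0, ⟨-1, 1⟩, ⟨1, 0⟩, ⟨2, -1⟩, ⟨2, -2⟩, ⟨1, -2⟩, ⟨1, 1⟩, ⟨-1, 0⟩, ⟨-1, -1⟩, ⟨0, -3⟩, ⟨1, 0⟩, ⟨-2, -2⟩, ⟨0, -1⟩, ⟨-2, 0⟩, ⟨1, -2⟩, 0, ⟨-1, 0⟩, ⟨1, 0⟩, ⟨1, 0⟩, ⟨-1, 2⟩],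
  [0, ⟨0, -1⟩, ⟨1, 0⟩, 0, ⟨1, -1⟩, 0, ⟨-1, 0⟩, ⟨-1, 0⟩, ⟨-1, 1⟩, ⟨-1, 1⟩, ⟨1, 0⟩, ⟨1, 0⟩, ⟨1, 2⟩, 0, ⟨0, 1⟩, ⟨1, -1⟩, ⟨-1, -1⟩, ⟨0, -1⟩, ⟨1, 2⟩, ⟨0, -2⟩, 0, ⟨0, -1⟩, ⟨1, 1⟩, ⟨1, 0⟩, ⟨-1, 0⟩, ⟨0, 1⟩, ⟨0, 1⟩, ⟨-1, 0⟩],
  [0, ⟨1, -1⟩, ⟨1, 2⟩, ⟨1, 0⟩, ⟨-1, 0⟩, ⟨-1, 0⟩, ⟨-1, 1⟩, 0, ⟨-2, 0⟩, ⟨-2, -1⟩, 0, ⟨1, 0⟩, ⟨-2, 1⟩, ⟨-1, -1⟩, ⟨-1, -1⟩, ⟨1, 0⟩, ⟨0, -2⟩, ⟨-2, -1⟩, ⟨-1, 1⟩, ⟨1, 0⟩, ⟨1, 0⟩, ⟨1, 0⟩, ⟨-1, 0⟩, ⟨1, 0⟩, ⟨-2, 1⟩, 0, ⟨-1, -1⟩, ⟨-1, 0⟩],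
  [0, ⟨1, -2⟩, ⟨2, 0⟩, ⟨3, 0⟩, ⟨0, -2⟩, ⟨-3, 1⟩, ⟨2, 2⟩, 0, ⟨1, 0⟩, ⟨0, 2⟩, ⟨-1, -1⟩, ⟨0, -1⟩, 0, ⟨1, -1⟩, ⟨2, 1⟩, ⟨0, -1⟩, ⟨-1, 0⟩, ⟨0, -1⟩, 0, ⟨0, 2⟩, ⟨-1, -1⟩, ⟨0, -1⟩, ⟨1, 1⟩, ⟨1, 2⟩, ⟨-1, 1⟩, ⟨3, 0⟩, ⟨0, -1⟩, ⟨0, 2⟩],
  [0, 0, ⟨1, -1⟩, ⟨0, -2⟩, ⟨3, 0⟩, 0, ⟨3, -1⟩, ⟨-2, -1⟩, ⟨1, 0⟩, ⟨1, 2⟩, ⟨-1, 1⟩, ⟨-1, 1⟩, ⟨0, 2⟩, 0, ⟨1, 0⟩, ⟨1, 0⟩, ⟨0, 1⟩, ⟨2, 0⟩, ⟨-1, 0⟩, ⟨1, 1⟩, ⟨-2, 1⟩, ⟨0, -2⟩, ⟨0, 2⟩, ⟨1, 2⟩, ⟨2, 0⟩, ⟨1, 0⟩, ⟨-1, -1⟩, ⟨0, 1⟩],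
  [0, ⟨0, -1⟩, 0, ⟨0, -1⟩, 0, 0, ⟨1, -1⟩, 0, ⟨0, 1⟩, 0, 0, ⟨0, 1⟩, ⟨1, 1⟩, 0, ⟨1, 0⟩, ⟨-1, 0⟩, ⟨0, 1⟩, ⟨0, 1⟩, 0, ⟨1, 1⟩, 0, ⟨-1, 0⟩, ⟨1, 1⟩, ⟨1, 0⟩, ⟨1, 1⟩, ⟨1, 0⟩, ⟨-1, 0⟩, ⟨1, 1⟩],
  [0, ⟨-1, 0⟩, ⟨0, -1⟩, 0, ⟨1, -1⟩, ⟨-1, 1⟩, ⟨1, 0⟩, ⟨0, 1⟩, ⟨2, 1⟩, ⟨1, 2⟩, 0, 0, ⟨3, 0⟩, ⟨1, 1⟩, ⟨1, 0⟩, ⟨-1, -1⟩, ⟨0, 1⟩, 0, 0, ⟨-1, 0⟩, 0, ⟨-1, 0⟩, ⟨2, 0⟩, ⟨-1, 0⟩, ⟨1, 0⟩, ⟨2, 1⟩, ⟨1, 0⟩, ⟨0, 1⟩],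
  [0, ⟨1, -1⟩, ⟨2, 1⟩, ⟨3, -2⟩, ⟨-3, 3⟩, ⟨-1, 2⟩, ⟨2, 2⟩, ⟨1, -2⟩, ⟨-2, -1⟩, ⟨-1, -1⟩, ⟨-1, -1⟩, ⟨-1, -2⟩, ⟨-5, 0⟩, ⟨-2, -2⟩, ⟨0, -1⟩, ⟨0, 2⟩, 0, ⟨-3, 1⟩, ⟨-1, -1⟩, ⟨1, 3⟩, ⟨-1, -1⟩, ⟨2, 1⟩, ⟨-3, 0⟩, ⟨1, 1⟩, ⟨-1, 3⟩, ⟨0, -2⟩, ⟨-1, -2⟩, ⟨1, 0⟩],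
  [0, ⟨-2, 0⟩, ⟨-2, -1⟩, ⟨-3, 2⟩, ⟨2, 0⟩, ⟨2, -2⟩, ⟨-2, -1⟩, ⟨0, 1⟩, ⟨2, 2⟩, ⟨1, 0⟩, ⟨1, -1⟩, ⟨1, 0⟩, ⟨5, -1⟩, ⟨2, 3⟩, ⟨0, 1⟩, ⟨-1, -1⟩, ⟨1, 1⟩, ⟨2, 3⟩, ⟨2, 0⟩, ⟨-1, -2⟩, ⟨1, -1⟩, ⟨-1, 1⟩, ⟨3, -1⟩, ⟨-2, -2⟩, ⟨2, -2⟩, ⟨-1, 0⟩, ⟨1, 4⟩, ⟨1, -1⟩],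
  [0, ⟨1, 1⟩, ⟨-1, -1⟩, ⟨-1, -1⟩, ⟨-1, -2⟩, ⟨1, 1⟩, ⟨0, -2⟩, ⟨0, 1⟩, ⟨-1, -2⟩, ⟨2, -1⟩, ⟨0, 2⟩, ⟨-1, 1⟩, ⟨-1, 1⟩, ⟨-1, -1⟩, ⟨0, -1⟩, ⟨0, -1⟩, ⟨-1, -1⟩, ⟨-2, -3⟩, ⟨-1, 1⟩, ⟨1, 0⟩, ⟨1, 3⟩, ⟨-2, -1⟩, ⟨-1, 0⟩, ⟨2, 0⟩, 0, ⟨0, -1⟩, ⟨-2, -2⟩, ⟨0, 1⟩],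
  [0, 0, ⟨-1, -1⟩, ⟨-1, -1⟩, ⟨1, 1⟩, ⟨1, 1⟩, 0, 0, ⟨1, 1⟩, 0, ⟨1, -1⟩, 0, ⟨2, 0⟩, ⟨1, 3⟩, ⟨-1, 1⟩, 0, ⟨1, 1⟩, ⟨0, 4⟩, ⟨1, 1⟩, 0, ⟨1, -1⟩, ⟨1, 1⟩, ⟨1, 1⟩, ⟨-1, -1⟩, ⟨1, -1⟩, 0, ⟨0, 2⟩, ⟨1, -1⟩],
  [0, 0, ⟨-1, 3⟩, ⟨0, 2⟩, ⟨-1, 1⟩, ⟨0, -3⟩, ⟨-3, 2⟩, ⟨1, -1⟩, 0, ⟨-2, -2⟩, ⟨0, -1⟩, ⟨1, 0⟩, ⟨0, -2⟩, ⟨1, -1⟩, ⟨1, 0⟩, ⟨0, 1⟩, ⟨1, 0⟩, ⟨1, 1⟩, ⟨1, -2⟩, ⟨-1, -1⟩, ⟨0, -2⟩, ⟨1, 2⟩, ⟨0, -1⟩, ⟨-1, -1⟩, ⟨-2, -1⟩, ⟨-1, 1⟩, ⟨2, 1⟩, ⟨0, -2⟩],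
  [0, ⟨1, -2⟩, ⟨1, 1⟩, ⟨1, 0⟩, ⟨-1, -1⟩, ⟨-2, 1⟩, ⟨0, 1⟩, ⟨1, 1⟩, ⟨0, 2⟩, ⟨-2, 1⟩, ⟨1, -1⟩, ⟨1, 0⟩, ⟨2, 2⟩, ⟨0, 2⟩, ⟨0, 2⟩, ⟨-1, -1⟩, ⟨-1, 0⟩, ⟨-2, 2⟩, ⟨1, 1⟩, ⟨0, -1⟩, ⟨2, -2⟩, 0, ⟨1, 2⟩, ⟨0, -1⟩, ⟨-1, 2⟩, ⟨2, 1⟩, ⟨-1, 1⟩, ⟨-1, 1⟩],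
  [0, ⟨2, 1⟩, ⟨0, 2⟩, ⟨1, 2⟩, ⟨0, -4⟩, ⟨-3, 0⟩, ⟨-1, 0⟩, ⟨0, 2⟩, ⟨-1, -2⟩, 0, ⟨1, 2⟩, ⟨1, 1⟩, ⟨-1, 0⟩, ⟨0, -1⟩, ⟨-1, 0⟩, ⟨0, -1⟩, ⟨-1, -2⟩, ⟨-1, -5⟩, ⟨-2, 2⟩, ⟨0, 1⟩, ⟨2, 2⟩, ⟨-1, -1⟩, ⟨-1, 0⟩, ⟨1, 2⟩, ⟨-2, -1⟩, ⟨2, 1⟩, ⟨-1, -3⟩, ⟨-2, 2⟩],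
  [0, ⟨-1, 1⟩, ⟨-1, 0⟩, ⟨-1, 0⟩, ⟨-1, -1⟩, ⟨1, 1⟩, ⟨-1, -2⟩, ⟨1, 0⟩, ⟨-1, -2⟩, ⟨1, -1⟩, ⟨0, 1⟩, 0, ⟨-2, -1⟩, ⟨0, -2⟩, ⟨-1, -1⟩, ⟨0, 1⟩, ⟨0, -1⟩, ⟨0, -2⟩, ⟨0, 1⟩, ⟨1, -1⟩, ⟨0, 1⟩, ⟨0, -1⟩, ⟨-1, -2⟩, ⟨1, 0⟩, 0, ⟨-1, -2⟩, ⟨0, -1⟩, 0],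
  [0, 0, 0, ⟨2, 0⟩, ⟨-2, 0⟩, ⟨1, 1⟩, 0, ⟨1, -1⟩, ⟨1, -2⟩, ⟨2, -1⟩, ⟨0, -1⟩, ⟨0, -1⟩, ⟨-1, -4⟩, ⟨1, -2⟩, ⟨2, -1⟩, ⟨-1, 2⟩, ⟨1, 1⟩, 0, ⟨1, -1⟩, ⟨0, 2⟩, ⟨-1, -1⟩, ⟨0, 2⟩, ⟨0, -2⟩, ⟨1, 1⟩, ⟨0, -2⟩, ⟨0, -2⟩, ⟨1, 1⟩, ⟨3, -1⟩],
  [0, ⟨2, 0⟩, ⟨-1, 1⟩, ⟨1, 3⟩, ⟨1, 0⟩, ⟨0, -3⟩, ⟨-1, 2⟩, ⟨1, 0⟩, ⟨1, 1⟩, ⟨-1, -1⟩, ⟨0, -2⟩, 0, ⟨1, -1⟩, ⟨3, 1⟩, ⟨1, 3⟩, ⟨-1, -1⟩, ⟨0, 1⟩, ⟨1, 2⟩, ⟨2, -1⟩, ⟨-2, 1⟩, ⟨1, -2⟩, ⟨0, 1⟩, ⟨0, 1⟩, ⟨-2, 1⟩, ⟨-1, -2⟩, ⟨0, 3⟩, ⟨2, 1⟩, ⟨0, -1⟩],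
  [0, ⟨0, -1⟩, ⟨2, -1⟩, ⟨2, -2⟩, ⟨0, 1⟩, ⟨-2, 2⟩, ⟨3, 2⟩, 0, 0, ⟨-1, 1⟩, ⟨-1, -1⟩, ⟨-1, -1⟩, ⟨-2, 0⟩, ⟨-1, 0⟩, ⟨0, -1⟩, 0, 0, ⟨-1, 1⟩, ⟨-1, 0⟩, ⟨1, 2⟩, ⟨-1, -1⟩, ⟨2, 0⟩, ⟨-1, 0⟩, ⟨0, 1⟩, ⟨-1, 2⟩, ⟨1, -1⟩, ⟨0, -1⟩, 0]]

def G : Mat := [[⟨16, 0⟩, ⟨4, 0⟩, ⟨-4, 0⟩, ⟨0, -4⟩, ⟨4, 0⟩, ⟨4, 0⟩, ⟨0, 4⟩, ⟨0, -4⟩, ⟨4, 0⟩, ⟨-4, 0⟩, ⟨4, 0⟩, ⟨0, -4⟩, ⟨0, 4⟩, ⟨-4, 0⟩, 0, 0, 0, 0, 0, 0, 0, 0, 0, 0, 0, 0, 0, 0],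
  [⟨4, 0⟩, ⟨16, 0⟩, ⟨4, 0⟩, ⟨4, 0⟩, ⟨0, 4⟩, ⟨0, 4⟩, ⟨0, 4⟩, ⟨0, -4⟩, 0, ⟨0, 4⟩, ⟨0, -4⟩, ⟨0, -4⟩, 0, 0, ⟨4, 0⟩, ⟨0, 4⟩, ⟨-4, 0⟩, ⟨0, 4⟩, ⟨0, 4⟩, ⟨-4, 0⟩, ⟨4, 0⟩, ⟨4, 0⟩, ⟨0, 4⟩, 0, 0, 0, 0, 0],
  [⟨-4, 0⟩, ⟨4, 0⟩, ⟨16, 0⟩, 0, ⟨-4, 0⟩, ⟨0, 4⟩, ⟨-4, 0⟩, ⟨0, 4⟩, 0, ⟨0, 4⟩, ⟨0, -4⟩, 0, ⟨-4, 0⟩, 0, ⟨0, -4⟩, ⟨0, 4⟩, 0, ⟨0, 4⟩, ⟨0, 4⟩, 0, 0, 0, ⟨0, 4⟩, ⟨0, -4⟩, ⟨4, 0⟩, ⟨0, -4⟩, 0, 0],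
  [⟨0, 4⟩, ⟨4, 0⟩, 0, ⟨16, 0⟩, ⟨4, 0⟩, ⟨0, 4⟩, ⟨0, 4⟩, 0, ⟨-4, 0⟩, ⟨-4, 0⟩, ⟨0, 4⟩, 0, ⟨-4, 0⟩, ⟨4, 0⟩, ⟨4, 0⟩, 0, 0, 0, ⟨0, 4⟩, ⟨-4, 0⟩, ⟨4, 0⟩, ⟨4, 0⟩, 0, ⟨4, 0⟩, 0, 0, ⟨4, 0⟩, ⟨-4, 0⟩],
  [⟨4, 0⟩, ⟨0, -4⟩, ⟨-4, 0⟩, ⟨4, 0⟩, ⟨16, 0⟩, ⟨4, 0⟩, ⟨0, 4⟩, ⟨0, -4⟩, ⟨0, -4⟩, ⟨0, 4⟩, 0, ⟨-4, 0⟩, 0, ⟨0, 4⟩, ⟨-4, 0⟩, ⟨4, 0⟩, 0, ⟨0, -4⟩, ⟨4, 0⟩, 0, ⟨0, -4⟩, ⟨-4, 0⟩, ⟨-4, 0⟩, ⟨0, 4⟩, 0, ⟨0, 4⟩, ⟨0, 4⟩, ⟨0, -4⟩],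
  [⟨4, 0⟩, ⟨0, -4⟩, ⟨0, -4⟩, ⟨0, -4⟩, ⟨4, 0⟩, ⟨16, 0⟩, ⟨0, 4⟩, 0, 0, 0, 0, ⟨-4, 0⟩, ⟨0, 4⟩, ⟨-4, 0⟩, ⟨-4, 0⟩, ⟨0, -4⟩, 0, ⟨4, 0⟩, ⟨4, 0⟩, ⟨-4, 0⟩, ⟨4, 0⟩, ⟨-4, 0⟩, ⟨4, 0⟩, 0, 0, ⟨-4, 0⟩, 0, ⟨0, -4⟩],
  [⟨0, -4⟩, ⟨0, -4⟩, ⟨-4, 0⟩, ⟨0, -4⟩, ⟨0, -4⟩, ⟨0, -4⟩, ⟨16, 0⟩, ⟨-4, 0⟩, 0, 0, 0, ⟨-4, 0⟩, ⟨4, 0⟩, ⟨4, 0⟩, ⟨4, 0⟩, 0, 0, ⟨-4, 0⟩, ⟨0, -4⟩, ⟨0, 4⟩, ⟨4, 0⟩, ⟨4, 0⟩, ⟨4, 0⟩, 0, 0, ⟨-4, 0⟩, ⟨4, 0⟩, ⟨0, 4⟩],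
  [⟨0, 4⟩, ⟨0, 4⟩, ⟨0, -4⟩, 0, ⟨0, 4⟩, 0, ⟨-4, 0⟩, ⟨16, 0⟩, ⟨0, -4⟩, 0, ⟨0, 4⟩, ⟨0, -4⟩, ⟨-4, 0⟩, 0, ⟨-4, 0⟩, ⟨0, 4⟩, ⟨-4, 0⟩, 0, ⟨0, 4⟩, 0, ⟨-4, 0⟩, ⟨0, 4⟩, ⟨0, -4⟩, ⟨-4, 0⟩, ⟨4, 0⟩, 0, ⟨0, 4⟩, 0],
  [⟨4, 0⟩, 0, 0, ⟨-4, 0⟩, ⟨0, 4⟩, 0, 0, ⟨0, 4⟩, ⟨16, 0⟩, ⟨-4, 0⟩, ⟨4, 0⟩, ⟨0, -4⟩, 0, ⟨-4, 0⟩, ⟨0, -4⟩, 0, ⟨0, -4⟩, ⟨4, 0⟩, ⟨-4, 0⟩, ⟨0, 4⟩, ⟨0, -4⟩, ⟨-4, 0⟩, ⟨0, -4⟩, ⟨0, -4⟩, ⟨0, 4⟩, ⟨-4, 0⟩, ⟨0, 4⟩, ⟨4, 0⟩],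
  [⟨-4, 0⟩, ⟨0, -4⟩, ⟨0, -4⟩, ⟨-4, 0⟩, ⟨0, -4⟩, 0, 0, 0, ⟨-4, 0⟩, ⟨16, 0⟩, ⟨-4, 0⟩, ⟨0, 4⟩, 0, ⟨4, 0⟩, ⟨0, 4⟩, ⟨4, 0⟩, ⟨-4, 0⟩, 0, ⟨4, 0⟩, ⟨4, 0⟩, ⟨-4, 0⟩, 0, ⟨0, 4⟩, ⟨0, 4⟩, ⟨-4, 0⟩, ⟨4, 0⟩, 0, 0],
  [⟨4, 0⟩, ⟨0, 4⟩, ⟨0, 4⟩, ⟨0, -4⟩, 0, 0, 0, ⟨0, -4⟩, ⟨4, 0⟩, ⟨-4, 0⟩, ⟨16, 0⟩, ⟨-4, 0⟩, ⟨0, 4⟩, 0, ⟨4, 0⟩, 0, 0, 0, ⟨0, 4⟩, ⟨4, 0⟩, ⟨4, 0⟩, 0, ⟨-4, 0⟩, 0, ⟨0, 4⟩, ⟨0, -4⟩, ⟨4, 0⟩, ⟨4, 0⟩],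
  [⟨0, 4⟩, ⟨0, 4⟩, 0, 0, ⟨-4, 0⟩, ⟨-4, 0⟩, ⟨-4, 0⟩, ⟨0, 4⟩, ⟨0, 4⟩, ⟨0, -4⟩, ⟨-4, 0⟩, ⟨16, 0⟩, ⟨-4, 0⟩, ⟨0, -4⟩, 0, ⟨0, -4⟩, ⟨0, -4⟩, ⟨4, 0⟩, ⟨0, -4⟩, ⟨0, -4⟩, ⟨-4, 0⟩, 0, 0, ⟨4, 0⟩, ⟨-4, 0⟩, 0, ⟨-4, 0⟩, 0],
  [⟨0, -4⟩, 0, ⟨-4, 0⟩, ⟨-4, 0⟩, 0, ⟨0, -4⟩, ⟨4, 0⟩, ⟨-4, 0⟩, 0, 0, ⟨0, -4⟩, ⟨-4, 0⟩, ⟨16, 0⟩, ⟨-4, 0⟩, ⟨4, 0⟩, ⟨-4, 0⟩, ⟨0, 4⟩, ⟨-4, 0⟩, ⟨0, -4⟩, 0, ⟨4, 0⟩, ⟨-4, 0⟩, 0, ⟨-4, 0⟩, 0, ⟨0, 4⟩, ⟨0, -4⟩, 0],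
  [⟨-4, 0⟩, 0, 0, ⟨4, 0⟩, ⟨0, -4⟩, ⟨-4, 0⟩, ⟨4, 0⟩, 0, ⟨-4, 0⟩, ⟨4, 0⟩, 0, ⟨0, 4⟩, ⟨-4, 0⟩, ⟨16, 0⟩, ⟨0, 4⟩, ⟨4, 0⟩, ⟨0, -4⟩, ⟨-4, 0⟩, 0, ⟨0, -4⟩, 0, ⟨4, 0⟩, ⟨0, 4⟩, ⟨0, 4⟩, 0, ⟨0, -4⟩, ⟨0, 4⟩, ⟨-4, 0⟩],
  [0, ⟨4, 0⟩, ⟨0, 4⟩, ⟨4, 0⟩, ⟨-4, 0⟩, ⟨-4, 0⟩, ⟨4, 0⟩, ⟨-4, 0⟩, ⟨0, 4⟩, ⟨0, -4⟩, ⟨4, 0⟩, 0, ⟨4, 0⟩, ⟨0, -4⟩, ⟨16, 0⟩, ⟨-4, 0⟩, ⟨0, 4⟩, ⟨0, 4⟩, 0, 0, ⟨4, 0⟩, ⟨4, 0⟩, ⟨4, 0⟩, ⟨4, 0⟩, ⟨0, 4⟩, ⟨0, -4⟩, ⟨4, 0⟩, ⟨0, 4⟩],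
  [0, ⟨0, -4⟩, ⟨0, -4⟩, 0, ⟨4, 0⟩, ⟨0, 4⟩, 0, ⟨0, -4⟩, 0, ⟨4, 0⟩, 0, ⟨0, 4⟩, ⟨-4, 0⟩, ⟨4, 0⟩, ⟨-4, 0⟩, ⟨16, 0⟩, 0, ⟨0, 4⟩, ⟨4, 0⟩, ⟨4, 0⟩, 0, ⟨0, -4⟩, 0, ⟨0, 4⟩, ⟨0, -4⟩, ⟨0, -4⟩, ⟨0, 4⟩, ⟨4, 0⟩],
  [0, ⟨-4, 0⟩, 0, 0, 0, 0, 0, ⟨-4, 0⟩, ⟨0, 4⟩, ⟨-4, 0⟩, 0, ⟨0, 4⟩, ⟨0, -4⟩, ⟨0, 4⟩, ⟨0, -4⟩, 0, ⟨16, 0⟩, ⟨4, 0⟩, ⟨0, -4⟩, ⟨0, -4⟩, ⟨0, -4⟩, 0, 0, 0, ⟨0, -4⟩, ⟨0, -4⟩, ⟨-4, 0⟩, 0],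
  [0, ⟨0, -4⟩, ⟨0, -4⟩, 0, ⟨0, 4⟩, ⟨4, 0⟩, ⟨-4, 0⟩, 0, ⟨4, 0⟩, 0, 0, ⟨4, 0⟩, ⟨-4, 0⟩, ⟨-4, 0⟩, ⟨0, -4⟩, ⟨0, -4⟩, ⟨4, 0⟩, ⟨16, 0⟩, ⟨4, 0⟩, 0, ⟨0, -4⟩, 0, ⟨0, -4⟩, ⟨4, 0⟩, ⟨-4, 0⟩, ⟨-4, 0⟩, 0, ⟨0, -4⟩],
  [0, ⟨0, -4⟩, ⟨0, -4⟩, ⟨0, -4⟩, ⟨4, 0⟩, ⟨4, 0⟩, ⟨0, 4⟩, ⟨0, -4⟩, ⟨-4, 0⟩, ⟨4, 0⟩, ⟨0, -4⟩, ⟨0, 4⟩, ⟨0, 4⟩, 0, 0, ⟨4, 0⟩, ⟨0, 4⟩, ⟨4, 0⟩, ⟨16, 0⟩, ⟨4, 0⟩, 0, ⟨0, -4⟩, 0, ⟨4, 0⟩, ⟨0, -4⟩, ⟨0, -4⟩, ⟨0, -4⟩, ⟨0, -4⟩],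
  [0, ⟨-4, 0⟩, 0, ⟨-4, 0⟩, 0, ⟨-4, 0⟩, ⟨0, -4⟩, 0, ⟨0, -4⟩, ⟨4, 0⟩, ⟨4, 0⟩, ⟨0, 4⟩, 0, ⟨0, 4⟩, 0, ⟨4, 0⟩, ⟨0, 4⟩, 0, ⟨4, 0⟩, ⟨16, 0⟩, 0, ⟨0, -4⟩, ⟨-4, 0⟩, ⟨-4, 0⟩, 0, ⟨4, 0⟩, ⟨0, -4⟩, ⟨4, 0⟩],
  [0, ⟨4, 0⟩, 0, ⟨4, 0⟩, ⟨0, 4⟩, ⟨4, 0⟩, ⟨4, 0⟩, ⟨-4, 0⟩, ⟨0, 4⟩, ⟨-4, 0⟩, ⟨4, 0⟩, ⟨-4, 0⟩, ⟨4, 0⟩, 0, ⟨4, 0⟩, 0, ⟨0, 4⟩, ⟨0, 4⟩, 0, 0, ⟨16, 0⟩, ⟨0, -4⟩, 0, 0, 0, ⟨-4, 0⟩, ⟨0, -4⟩, 0],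
  [0, ⟨4, 0⟩, 0, ⟨4, 0⟩, ⟨-4, 0⟩, ⟨-4, 0⟩, ⟨4, 0⟩, ⟨0, -4⟩, ⟨-4, 0⟩, 0, 0, 0, ⟨-4, 0⟩, ⟨4, 0⟩, ⟨4, 0⟩, ⟨0, 4⟩, 0, 0, ⟨0, 4⟩, ⟨0, 4⟩, ⟨0, 4⟩, ⟨16, 0⟩, 0, ⟨4, 0⟩, 0, 0, ⟨4, 0⟩, 0],
  [0, ⟨0, -4⟩, ⟨0, -4⟩, 0, ⟨-4, 0⟩, ⟨4, 0⟩, ⟨4, 0⟩, ⟨0, 4⟩, ⟨0, 4⟩, ⟨0, -4⟩, ⟨-4, 0⟩, 0, 0, ⟨0, -4⟩, ⟨4, 0⟩, 0, 0, ⟨0, 4⟩, 0, ⟨-4, 0⟩, 0, 0, ⟨16, 0⟩, ⟨0, 4⟩, ⟨4, 0⟩, ⟨0, -4⟩, ⟨0, 4⟩, ⟨0, 4⟩],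
  [0, 0, ⟨0, 4⟩, ⟨4, 0⟩, ⟨0, -4⟩, 0, 0, ⟨-4, 0⟩, ⟨0, 4⟩, ⟨0, -4⟩, 0, ⟨4, 0⟩, ⟨-4, 0⟩, ⟨0, -4⟩, ⟨4, 0⟩, ⟨0, -4⟩, 0, ⟨4, 0⟩, ⟨4, 0⟩, ⟨-4, 0⟩, 0, ⟨4, 0⟩, ⟨0, -4⟩, ⟨16, 0⟩, ⟨-4, 0⟩, ⟨0, -4⟩, ⟨4, 0⟩, ⟨0, -4⟩],
  [0, 0, ⟨4, 0⟩, 0, 0, 0, 0, ⟨4, 0⟩, ⟨0, -4⟩, ⟨-4, 0⟩, ⟨0, -4⟩, ⟨-4, 0⟩, 0, 0, ⟨0, -4⟩, ⟨0, 4⟩, ⟨0, 4⟩, ⟨-4, 0⟩, ⟨0, 4⟩, 0, 0, 0, ⟨4, 0⟩, ⟨-4, 0⟩, ⟨16, 0⟩, 0, ⟨4, 0⟩, ⟨0, 4⟩],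
  [0, 0, ⟨0, 4⟩, 0, ⟨0, -4⟩, ⟨-4, 0⟩, ⟨-4, 0⟩, 0, ⟨-4, 0⟩, ⟨4, 0⟩, ⟨0, 4⟩, 0, ⟨0, -4⟩, ⟨0, 4⟩, ⟨0, 4⟩, ⟨0, 4⟩, ⟨0, 4⟩, ⟨-4, 0⟩, ⟨0, 4⟩, ⟨4, 0⟩, ⟨-4, 0⟩, 0, ⟨0, 4⟩, ⟨0, 4⟩, 0, ⟨16, 0⟩, ⟨-4, 0⟩, 0],
  [0, 0, 0, ⟨4, 0⟩, ⟨0, -4⟩, 0, ⟨4, 0⟩, ⟨0, -4⟩, ⟨0, -4⟩, 0, ⟨4, 0⟩, ⟨-4, 0⟩, ⟨0, 4⟩, ⟨0, -4⟩, ⟨4, 0⟩, ⟨0, -4⟩, ⟨-4, 0⟩, 0, ⟨0, 4⟩, ⟨0, 4⟩, ⟨0, 4⟩, ⟨4, 0⟩, ⟨0, -4⟩, ⟨4, 0⟩, ⟨4, 0⟩, ⟨-4, 0⟩, ⟨16, 0⟩, 0],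
  [0, 0, 0, ⟨-4, 0⟩, ⟨0, 4⟩, ⟨0, 4⟩, ⟨0, -4⟩, 0, ⟨4, 0⟩, 0, ⟨4, 0⟩, 0, 0, ⟨-4, 0⟩, ⟨0, -4⟩, ⟨4, 0⟩, 0, ⟨0, 4⟩, ⟨0, 4⟩, ⟨4, 0⟩, 0, 0, ⟨0, -4⟩, ⟨0, 4⟩, ⟨0, -4⟩, 0, 0, ⟨16, 0⟩]]

def X0 : Mat := [[⟨1, 0⟩, 0, ⟨0, -1⟩, ⟨1, 0⟩, 0, ⟨0, -1⟩, ⟨-1, -1⟩, ⟨0, -1⟩, ⟨1, 0⟩, ⟨0, 1⟩, 0, ⟨1, 0⟩, ⟨1, 1⟩, ⟨0, 1⟩, 0, ⟨1, 1⟩, 0, ⟨1, -1⟩, ⟨1, 1⟩, ⟨0, 1⟩, 0, 0, 0, 0, 0, 0, 0, 0],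
  [0, 0, ⟨0, 1⟩, 0, ⟨1, 0⟩, ⟨1, 1⟩, ⟨0, 1⟩, ⟨-1, 1⟩, ⟨-1, -1⟩, ⟨-1, 0⟩, 0, 0, ⟨0, -1⟩, ⟨1, -1⟩, 0, ⟨0, -2⟩, ⟨1, 0⟩, ⟨-2, 0⟩, ⟨0, -1⟩, ⟨1, -1⟩, 0, 0, 0, 0, 0, 0, 0, 0],
  [0, 0, ⟨-1, -1⟩, ⟨1, 0⟩, 0, ⟨0, 1⟩, ⟨-1, 0⟩, ⟨0, -2⟩, ⟨0, -1⟩, 0, ⟨0, -1⟩, ⟨1, 0⟩, ⟨1, 1⟩, ⟨1, 1⟩, 0, ⟨2, 0⟩, ⟨0, 1⟩, ⟨0, -2⟩, ⟨1, 0⟩, ⟨0, 1⟩, 0, 0, 0, 0, 0, 0, 0, 0],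
  [0, 0, ⟨2, 0⟩, ⟨-1, 2⟩, ⟨-2, 1⟩, ⟨-3, -1⟩, ⟨0, -4⟩, ⟨1, 1⟩, ⟨1, 3⟩, ⟨0, 2⟩, ⟨0, 2⟩, ⟨-1, 1⟩, ⟨1, 1⟩, ⟨-1, 0⟩, ⟨1, -1⟩, ⟨0, 3⟩, ⟨-1, -1⟩, ⟨2, 0⟩, ⟨-1, 1⟩, ⟨-2, 1⟩, 0, 0, 0, 0, 0, 0, 0, 0],
  [0, ⟨0, -1⟩, ⟨-3, 0⟩, ⟨-1, 0⟩, ⟨-1, -1⟩, ⟨0, 3⟩, ⟨3, 1⟩, ⟨2, -2⟩, ⟨-1, -1⟩, ⟨0, -3⟩, ⟨0, -1⟩, 0, ⟨-1, 0⟩, ⟨1, 0⟩, ⟨0, -1⟩, 0, ⟨0, 2⟩, ⟨2, -1⟩, ⟨1, 0⟩, ⟨0, 1⟩, 0, 0, 0, 0, 0, 0, 0, 0],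
  [0, 0, ⟨0, 2⟩, ⟨-2, -1⟩, ⟨-1, 0⟩, ⟨0, -1⟩, ⟨3, 0⟩, ⟨0, 1⟩, ⟨-2, 1⟩, ⟨-1, -1⟩, ⟨-1, 0⟩, ⟨-2, 0⟩, ⟨-1, -1⟩, ⟨0, -1⟩, ⟨0, 1⟩, ⟨-2, 0⟩, ⟨2, 0⟩, ⟨0, 2⟩, ⟨-1, -1⟩, ⟨0, -1⟩, 0, 0, 0, 0, 0, 0, 0, 0],
  [0, 0, ⟨1, 2⟩, ⟨-1, 1⟩, ⟨-2, -1⟩, ⟨-2, -1⟩, ⟨1, -3⟩, ⟨-1, 1⟩, ⟨1, 2⟩, ⟨-1, 0⟩, ⟨-1, 1⟩, ⟨1, 0⟩, ⟨0, 2⟩, ⟨0, -1⟩, 0, ⟨-2, 3⟩, 0, ⟨1, 0⟩, ⟨-1, 1⟩, ⟨-1, 1⟩, 0, 0, 0, 0, 0, 0, 0, 0],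
  [0, 0, ⟨-1, 2⟩, ⟨-1, 0⟩, ⟨-2, -1⟩, ⟨3, 0⟩, ⟨4, -1⟩, ⟨0, -1⟩, ⟨-2, 2⟩, ⟨-2, 0⟩, ⟨-2, 0⟩, 0, ⟨-2, 0⟩, ⟨-1, -2⟩, ⟨-1, -2⟩, ⟨-3, 0⟩, ⟨2, 0⟩, ⟨1, 0⟩, ⟨-1, -1⟩, ⟨-1, -1⟩, 0, 0, 0, 0, 0, 0, 0, 0],
  [0, 0, ⟨2, -1⟩, ⟨0, 1⟩, ⟨-1, 2⟩, ⟨0, 2⟩, ⟨-2, -1⟩, ⟨1, 0⟩, ⟨1, -1⟩, 0, ⟨1, 0⟩, ⟨0, -1⟩, ⟨1, 1⟩, ⟨-1, 0⟩, 0, ⟨2, 2⟩, 0, ⟨0, -1⟩, 0, ⟨1, 0⟩, 0, 0, 0, 0, 0, 0, 0, 0],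
  [0, 0, ⟨1, -2⟩, ⟨1, 1⟩, ⟨1, 1⟩, ⟨-3, -1⟩, ⟨-2, -1⟩, ⟨1, 1⟩, ⟨1, 0⟩, ⟨1, 1⟩, ⟨1, 1⟩, ⟨-1, 1⟩, ⟨2, 1⟩, ⟨0, 2⟩, ⟨1, 1⟩, ⟨2, 2⟩, ⟨-2, -1⟩, ⟨1, 0⟩, ⟨0, 2⟩, ⟨-1, 1⟩, 0, 0, 0, 0, 0, 0, 0, 0],
  [0, 0, ⟨-1, -1⟩, ⟨0, -1⟩, ⟨2, -1⟩, ⟨0, -1⟩, ⟨2, 3⟩, ⟨1, 2⟩, ⟨-3, -1⟩, ⟨0, -1⟩, ⟨0, -1⟩, ⟨-3, 0⟩, ⟨1, -1⟩, ⟨1, 1⟩, ⟨1, 2⟩, ⟨-1, -2⟩, 0, ⟨-1, 3⟩, ⟨-1, 0⟩, ⟨-1, -1⟩, 0, 0, 0, 0, 0, 0, 0, 0],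
  [0, 0, 0, 0, ⟨0, 2⟩, ⟨1, -1⟩, 0, 0, ⟨0, -1⟩, 0, 0, ⟨-2, -1⟩, ⟨1, 0⟩, ⟨-1, 1⟩, ⟨-2, 2⟩, ⟨1, 1⟩, ⟨1, 0⟩, ⟨-1, 0⟩, 0, 0, 0, 0, 0, 0, 0, 0, 0, 0],
  [0, 0, 0, ⟨-1, 1⟩, ⟨-2, 1⟩, ⟨1, 0⟩, ⟨2, -1⟩, ⟨1, 0⟩, 0, ⟨0, -1⟩, 0, ⟨-1, -1⟩, ⟨-1, 1⟩, ⟨-2, 0⟩, ⟨-2, -1⟩, ⟨-1, 1⟩, ⟨0, 1⟩, ⟨1, 0⟩, ⟨-1, 0⟩, ⟨-2, 0⟩, 0, 0, 0, 0, 0, 0, 0, 0],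
  [0, 0, ⟨-2, 1⟩, ⟨-1, -1⟩, ⟨1, 0⟩, ⟨2, -2⟩, ⟨3, 0⟩, ⟨0, -2⟩, ⟨-2, 0⟩, ⟨-1, -1⟩, ⟨-1, -1⟩, ⟨-1, 1⟩, ⟨-2, -1⟩, ⟨0, 1⟩, ⟨-1, 1⟩, ⟨-2, -1⟩, ⟨2, 0⟩, ⟨1, 1⟩, 0, 0, 0, 0, 0, 0, 0, 0, 0, 0],
  [0, 0, ⟨0, 3⟩, 0, 0, ⟨2, 0⟩, ⟨0, -1⟩, ⟨-2, -1⟩, ⟨0, 1⟩, ⟨-2, 0⟩, ⟨-1, 0⟩, ⟨1, 0⟩, ⟨-1, 0⟩, ⟨0, -1⟩, ⟨-1, 1⟩, ⟨-1, 0⟩, ⟨3, -1⟩, ⟨-1, -1⟩, ⟨0, -1⟩, ⟨2, 0⟩, 0, 0, 0, 0, 0, 0, 0, 0],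
  [0, 0, ⟨1, 1⟩, ⟨0, 1⟩, ⟨1, 0⟩, 0, ⟨-1, -1⟩, ⟨-1, 0⟩, ⟨1, 0⟩, ⟨-1, 0⟩, 0, ⟨1, 1⟩, ⟨-1, 1⟩, 0, ⟨0, 2⟩, ⟨0, 1⟩, ⟨1, -1⟩, ⟨0, -1⟩, 0, ⟨1, 0⟩, 0, 0, 0, 0, 0, 0, 0, 0],
  [0, 0, 0, ⟨1, 0⟩, ⟨3, 0⟩, ⟨1, -1⟩, ⟨-1, 0⟩, ⟨-1, 0⟩, ⟨-1, 0⟩, ⟨-1, 1⟩, 0, ⟨0, 2⟩, ⟨0, -1⟩, ⟨1, 1⟩, ⟨1, 2⟩, ⟨1, -1⟩, ⟨1, -2⟩, ⟨-1, 0⟩, 0, ⟨1, -1⟩, 0, 0, 0, 0, 0, 0, 0, 0],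
  [0, 0, ⟨-2, 2⟩, ⟨-2, 1⟩, ⟨-3, -1⟩, ⟨-1, 1⟩, ⟨4, -3⟩, ⟨1, -2⟩, ⟨0, 2⟩, ⟨-1, -2⟩, ⟨-1, 0⟩, ⟨1, 1⟩, ⟨-2, 1⟩, ⟨0, -1⟩, ⟨-1, -3⟩, ⟨-3, 2⟩, ⟨0, 2⟩, ⟨4, -1⟩, ⟨0, 1⟩, ⟨-2, 2⟩, 0, 0, 0, 0, 0, 0, 0, 0],
  [0, ⟨0, 1⟩, ⟨2, -4⟩, ⟨3, -1⟩, ⟨3, 0⟩, ⟨-1, 0⟩, ⟨-6, 3⟩, ⟨0, 1⟩, ⟨1, -4⟩, ⟨1, 2⟩, ⟨2, -1⟩, ⟨1, -1⟩, ⟨3, 0⟩, ⟨1, 2⟩, ⟨3, 2⟩, ⟨5, -1⟩, ⟨-2, -1⟩, ⟨-2, 0⟩, ⟨2, 0⟩, ⟨2, -1⟩, 0, 0, 0, 0, 0, 0, 0, 0],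
  [0, 0, ⟨2, 3⟩, ⟨-1, 1⟩, ⟨-1, 0⟩, ⟨-1, -2⟩, ⟨1, -3⟩, ⟨-1, 2⟩, ⟨1, 3⟩, ⟨0, 1⟩, ⟨0, 2⟩, ⟨0, 1⟩, ⟨-2, 0⟩, ⟨-1, -1⟩, ⟨-1, 0⟩, ⟨-3, 1⟩, ⟨0, -2⟩, ⟨0, 1⟩, ⟨-2, 0⟩, ⟨-1, 0⟩, 0, 0, 0, 0, 0, 0, 0, 0],
  [0, 0, ⟨1, -2⟩, ⟨2, 0⟩, ⟨1, 0⟩, 0, ⟨-4, 0⟩, ⟨0, -1⟩, ⟨2, -1⟩, ⟨1, 2⟩, ⟨1, 0⟩, ⟨2, 0⟩, ⟨1, 1⟩, ⟨0, 1⟩, 0, ⟨3, 1⟩, ⟨-2, -1⟩, ⟨0, -2⟩, ⟨2, 1⟩, ⟨1, 0⟩, 0, 0, 0, 0, 0, 0, 0, 0],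
  [0, 0, ⟨-1, -3⟩, ⟨0, -1⟩, ⟨-1, -1⟩, ⟨-1, 3⟩, ⟨0, 4⟩, ⟨2, 0⟩, ⟨-1, -3⟩, ⟨2, -2⟩, ⟨1, -2⟩, ⟨0, -2⟩, ⟨1, 0⟩, ⟨1, 0⟩, ⟨2, -1⟩, ⟨2, -1⟩, ⟨-2, 2⟩, 0, ⟨1, -1⟩, ⟨0, -1⟩, 0, 0, 0, 0, 0, 0, 0, 0],
  [0, 0, ⟨0, -1⟩, ⟨1, 1⟩, ⟨2, 2⟩, ⟨1, -1⟩, ⟨-1, -1⟩, ⟨1, -1⟩, ⟨1, -1⟩, 0, ⟨1, 0⟩, ⟨-1, 1⟩, ⟨0, 1⟩, ⟨-1, 3⟩, ⟨-2, 2⟩, ⟨1, 1⟩, ⟨0, -1⟩, ⟨0, -1⟩, ⟨0, 1⟩, ⟨0, 1⟩, 0, 0, 0, 0, 0, 0, 0, 0],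
  [0, 0, ⟨0, 1⟩, ⟨-1, 0⟩, 0, ⟨2, -2⟩, ⟨3, 0⟩, ⟨0, 2⟩, ⟨-1, 2⟩, 0, ⟨-1, 1⟩, ⟨-2, 0⟩, ⟨-2, -1⟩, ⟨-2, -1⟩, ⟨-2, -1⟩, ⟨-4, -1⟩, ⟨1, -1⟩, ⟨0, 3⟩, ⟨-3, 0⟩, ⟨-2, -1⟩, 0, 0, 0, 0, 0, 0, 0, 0],
  [0, 0, ⟨0, 1⟩, ⟨-1, 0⟩, ⟨-1, -1⟩, ⟨-2, -1⟩, ⟨1, 0⟩, ⟨-1, 2⟩, ⟨0, 1⟩, ⟨1, 0⟩, ⟨0, 1⟩, ⟨0, -1⟩, 0, ⟨0, -1⟩, ⟨0, -1⟩, ⟨-2, 0⟩, ⟨-1, 0⟩, ⟨0, 1⟩, ⟨-1, 0⟩, ⟨-1, 0⟩, 0, 0, 0, 0, 0, 0, 0, 0],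
  [0, ⟨1, 0⟩, ⟨-1, -1⟩, ⟨-1, -2⟩, ⟨-1, -4⟩, ⟨-2, 0⟩, ⟨1, 2⟩, ⟨1, 0⟩, ⟨-1, 0⟩, ⟨1, 0⟩, ⟨-1, -1⟩, ⟨2, 0⟩, ⟨-1, 0⟩, ⟨2, -1⟩, ⟨3, -1⟩, ⟨-1, 0⟩, ⟨-2, 0⟩, ⟨2, 1⟩, ⟨1, 0⟩, ⟨0, -1⟩, 0, 0, 0, 0, 0, 0, 0, 0],
  [0, ⟨1, 0⟩, ⟨-2, -3⟩, ⟨1, -2⟩, ⟨1, 0⟩, ⟨0, 2⟩, ⟨-1, 4⟩, ⟨2, -1⟩, ⟨0, -3⟩, ⟨2, -1⟩, ⟨1, -2⟩, 0, ⟨0, -2⟩, ⟨1, 1⟩, 0, ⟨2, -2⟩, ⟨-1, 2⟩, 0, ⟨2, 0⟩, ⟨1, 0⟩, 0, 0, 0, 0, 0, 0, 0, 0],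
  [0, 0, ⟨-2, 1⟩, ⟨-1, 0⟩, ⟨-1, 0⟩, ⟨1, -1⟩, ⟨2, -2⟩, ⟨0, -3⟩, ⟨-1, 2⟩, ⟨-1, 0⟩, ⟨-1, 0⟩, ⟨0, 1⟩, ⟨-1, 0⟩, 0, ⟨-1, -2⟩, ⟨-1, 0⟩, ⟨1, 1⟩, ⟨2, -1⟩, 0, ⟨-1, 1⟩, 0, 0, 0, 0, 0, 0, 0, 0]]

def X1 : Mat := [[⟨1, -1⟩, ⟨1, 1⟩, ⟨1, 1⟩, 0, ⟨-1, -1⟩, ⟨1, -1⟩, ⟨0, 1⟩, 0, 0, ⟨-1, 0⟩, 0, ⟨0, -1⟩, 0, ⟨-1, 0⟩, ⟨0, 1⟩, ⟨-1, 0⟩, ⟨-1, 1⟩, 0, ⟨-1, -1⟩, ⟨-1, 0⟩, ⟨1, 1⟩, ⟨0, 1⟩, 0, ⟨1, -1⟩, ⟨0, 1⟩, 0, 0, ⟨-2, 0⟩],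
  [⟨-1, 0⟩, ⟨-1, 0⟩, 0, 0, ⟨0, 1⟩, ⟨-2, -1⟩, ⟨0, -1⟩, ⟨1, 1⟩, ⟨0, -1⟩, ⟨0, 1⟩, 0, ⟨0, 1⟩, ⟨-1, 0⟩, ⟨1, 1⟩, ⟨0, -1⟩, ⟨0, 2⟩, ⟨1, -1⟩, ⟨-1, -1⟩, ⟨0, 2⟩, ⟨1, 1⟩, ⟨-1, -1⟩, ⟨1, -1⟩, ⟨0, -1⟩, ⟨-1, 0⟩, ⟨2, -1⟩, ⟨1, 0⟩, 0, ⟨1, 1⟩],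
  [⟨1, -1⟩, ⟨1, 0⟩, 0, 0, ⟨-1, -1⟩, ⟨1, -2⟩, ⟨1, 1⟩, ⟨0, 1⟩, ⟨1, 0⟩, ⟨-1, 0⟩, ⟨-1, 0⟩, ⟨0, -2⟩, 0, 0, ⟨0, 1⟩, ⟨-2, 0⟩, ⟨-1, 1⟩, ⟨0, -1⟩, ⟨-2, -1⟩, ⟨-2, 0⟩, ⟨1, 0⟩, ⟨1, 1⟩, ⟨1, 0⟩, ⟨1, -1⟩, ⟨1, 2⟩, ⟨0, 1⟩, ⟨0, 1⟩, ⟨-2, 0⟩],
  [⟨-1, -2⟩, ⟨1, -1⟩, ⟨2, 1⟩, ⟨2, 1⟩, 0, ⟨3, 2⟩, ⟨-2, -1⟩, ⟨-4, -2⟩, ⟨-2, 2⟩, ⟨-1, 0⟩, ⟨2, -1⟩, ⟨-2, 4⟩, ⟨1, -2⟩, ⟨-2, -1⟩, ⟨1, -1⟩, ⟨3, -2⟩, ⟨1, 2⟩, ⟨2, 4⟩, 0, ⟨0, -2⟩, ⟨5, 0⟩, ⟨-2, -2⟩, 0, ⟨1, 2⟩, ⟨-2, -1⟩, ⟨-1, -1⟩, ⟨1, -2⟩,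 0],
  [⟨1, 1⟩, ⟨0, -2⟩, ⟨-2, -1⟩, ⟨-1, 1⟩, ⟨0, -1⟩, ⟨1, 0⟩, ⟨1, 0⟩, ⟨-1, 1⟩, ⟨2, 1⟩, ⟨1, -3⟩, ⟨-3, 1⟩, ⟨1, -2⟩, ⟨0, -1⟩, ⟨1, 0⟩, 0, ⟨-2, -1⟩, 0, ⟨1, -1⟩, ⟨-1, -3⟩, ⟨-1, -1⟩, ⟨-1, 0⟩, ⟨1, 1⟩, ⟨2, 2⟩, 0, ⟨0, 2⟩, ⟨0, 2⟩, ⟨-2, 1⟩, ⟨0, -1⟩],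
  [0, ⟨-1, -1⟩, ⟨-2, 0⟩, ⟨0, 1⟩, ⟨1, 1⟩, ⟨-1, 2⟩, ⟨1, -2⟩, ⟨1, -2⟩, ⟨-1, -1⟩, ⟨0, -1⟩, ⟨1, 2⟩, ⟨-3, 0⟩, ⟨1, 0⟩, ⟨0, -1⟩, 0, ⟨2, 1⟩, 0, ⟨-2, 1⟩, ⟨0, 1⟩, ⟨1, 1⟩, ⟨0, 1⟩, ⟨0, -1⟩, 0, ⟨-2, 1⟩, ⟨0, -2⟩, 0, ⟨1, 0⟩, ⟨2, 1⟩],
  [⟨1, -1⟩, ⟨1, -1⟩, ⟨2, 1⟩, ⟨1, 1⟩, ⟨-1, 0⟩, ⟨1, 2⟩, ⟨-1, -1⟩, ⟨-1, -2⟩, ⟨-2, 0⟩, ⟨-1, -1⟩, ⟨1, 2⟩, ⟨-3, 0⟩, ⟨1, 0⟩, ⟨-1, -1⟩, ⟨1, 0⟩, ⟨1, 1⟩, ⟨0, 2⟩, ⟨-1, 2⟩, ⟨-1, 0⟩, ⟨1, -1⟩, ⟨2, 3⟩, ⟨0, -2⟩, 0, ⟨-1, 0⟩, ⟨0, -1⟩, ⟨1, -1⟩, ⟨1, -1⟩,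 ⟨-1, 1⟩],
  [⟨0, 1⟩, ⟨-1, 0⟩, ⟨-1, 0⟩, ⟨1, 1⟩, ⟨-1, -1⟩, ⟨-1, 2⟩, ⟨1, -1⟩, ⟨2, 0⟩, ⟨0, -1⟩, ⟨0, -2⟩, ⟨-1, 3⟩, ⟨-1, -1⟩, ⟨-1, 0⟩, ⟨2, -2⟩, ⟨-1, 0⟩, ⟨1, 2⟩, ⟨-1, -1⟩, ⟨-2, 1⟩, ⟨-1, 0⟩, 0, ⟨-1, 2⟩, ⟨1, -1⟩, ⟨2, 0⟩, ⟨-1, 1⟩, ⟨1, -2⟩, ⟨1, 0⟩, ⟨1, 1⟩, 0],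
  [0, ⟨-1, 0⟩, ⟨0, -2⟩, ⟨1, -1⟩, ⟨0, 1⟩, ⟨2, 0⟩, ⟨-1, 1⟩, ⟨-1, 1⟩, ⟨0, 2⟩, ⟨-1, 0⟩, ⟨2, -1⟩, ⟨1, 2⟩, 0, 0, ⟨0, -1⟩, ⟨1, -1⟩, ⟨1, -1⟩, ⟨1, 1⟩, ⟨0, 1⟩, ⟨-1, -2⟩, ⟨2, -1⟩, ⟨-1, 0⟩, ⟨1, 0⟩, ⟨0, 2⟩, ⟨-1, 0⟩, ⟨-1, -1⟩, ⟨-1, 0⟩, ⟨2, 0⟩],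
  [⟨0, -2⟩, ⟨2, 0⟩, ⟨1, 1⟩, ⟨-1, 0⟩, ⟨1, 0⟩, ⟨3, 0⟩, ⟨-1, 0⟩, ⟨-3, -1⟩, ⟨-1, 2⟩, ⟨0, 1⟩, ⟨0, -3⟩, ⟨1, 1⟩, ⟨2, -1⟩, ⟨-2, 0⟩, 0, ⟨1, -3⟩, ⟨-1, 1⟩, ⟨2, 2⟩, ⟨1, -2⟩, ⟨-1, -2⟩, ⟨3, 0⟩, ⟨-2, 0⟩, ⟨-1, 0⟩, ⟨2, 1⟩, ⟨-3, 1⟩, ⟨-2, 0⟩, ⟨-1, -1⟩, ⟨0, -2⟩],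
  [⟨0, -1⟩, ⟨2, 0⟩, ⟨-2, 1⟩, ⟨-3, 1⟩, ⟨3, 1⟩, ⟨-1, 1⟩, ⟨1, -1⟩, ⟨0, -2⟩, ⟨-1, 0⟩, ⟨2, 1⟩, ⟨-2, -2⟩, ⟨0, -2⟩, ⟨3, 0⟩, 0, ⟨-1, 0⟩, ⟨1, 0⟩, ⟨-2, 0⟩, ⟨-2, 0⟩, ⟨2, -2⟩, ⟨0, -1⟩, ⟨0, 1⟩, ⟨-1, -1⟩, ⟨-2, 0⟩, ⟨0, 1⟩, ⟨-1, -1⟩, ⟨-1, 1⟩, ⟨-1, 0⟩, ⟨2, -2⟩],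
  [⟨1, 0⟩, 0, ⟨-2, -1⟩, ⟨-1, -1⟩, ⟨1, 2⟩, ⟨1, 0⟩, ⟨1, 0⟩, ⟨1, -1⟩, 0, ⟨-1, 0⟩, ⟨1, 0⟩, ⟨0, -1⟩, ⟨1, 1⟩, ⟨-1, -1⟩, ⟨-1, 0⟩, ⟨1, 0⟩, ⟨-1, 0⟩, 0, ⟨1, 0⟩, ⟨-1, 0⟩, ⟨1, 0⟩, ⟨-1, 0⟩, ⟨0, -1⟩, ⟨0, 1⟩, ⟨-1, -1⟩, ⟨-1, 0⟩, ⟨-1, 0⟩, ⟨2, 0⟩],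
  [⟨1, 1⟩, 0, ⟨-2, -1⟩, 0, ⟨0, 1⟩, ⟨1, 2⟩, 0, ⟨0, -1⟩, 0, ⟨0, -2⟩, 0, ⟨1, 0⟩, 0, ⟨0, -2⟩, ⟨-1, -1⟩, ⟨1, -1⟩, ⟨-1, -1⟩, ⟨1, 0⟩, ⟨1, -1⟩, ⟨0, -2⟩, ⟨0, 1⟩, ⟨-1, -1⟩, ⟨1, 0⟩, ⟨0, 2⟩, ⟨-1, -1⟩, ⟨-1, 0⟩, ⟨0, -1⟩, ⟨1, 0⟩],
  [⟨2, 1⟩, ⟨0, 1⟩, ⟨-3, 2⟩, ⟨-1, 1⟩, ⟨1, -1⟩, ⟨-1, 0⟩, ⟨2, -1⟩, ⟨2, -1⟩, ⟨1, -2⟩, ⟨0, -1⟩, ⟨-1, 2⟩, ⟨-1, -3⟩, 0, 0, ⟨-1, 2⟩, ⟨-1, 1⟩, ⟨-2, 0⟩, ⟨-2, -1⟩, ⟨-1, -1⟩, ⟨0, 2⟩, ⟨-2, 1⟩, ⟨1, 2⟩, 0, 0, 0, ⟨1, 2⟩, ⟨0, 1⟩, ⟨0, -1⟩],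
  [0, ⟨-2, 0⟩, ⟨0, 1⟩, ⟨1, 0⟩, ⟨-1, 0⟩, ⟨-1, -1⟩, ⟨1, -1⟩, ⟨2, 1⟩, ⟨0, -2⟩, ⟨-2, 0⟩, ⟨1, 3⟩, ⟨-2, -1⟩, ⟨-1, 1⟩, 0, ⟨0, 1⟩, ⟨-1, 2⟩, ⟨1, 0⟩, ⟨-2, -1⟩, ⟨-2, 2⟩, ⟨0, 2⟩, ⟨-1, 0⟩, ⟨1, 0⟩, ⟨1, -1⟩, ⟨-1, -1⟩, ⟨2, -1⟩, ⟨2, 0⟩, ⟨1, 1⟩, ⟨0, 1⟩],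
  [⟨1, 0⟩, ⟨-1, 1⟩, ⟨0, 1⟩, 0, ⟨0, -1⟩, ⟨0, -1⟩, 0, 0, ⟨-1, -1⟩, ⟨-1, 0⟩, ⟨1, 0⟩, 0, ⟨0, 1⟩, ⟨0, 1⟩, ⟨0, 1⟩, ⟨-1, 0⟩, 0, ⟨-1, -1⟩, 0, ⟨1, 0⟩, ⟨-1, 1⟩, ⟨1, 1⟩, 0, 0, 0, ⟨1, 0⟩, 0, ⟨0, -1⟩],
  [⟨0, -1⟩, ⟨0, 1⟩, ⟨0, 2⟩, ⟨-1, 0⟩, ⟨1, -1⟩, ⟨-1, -2⟩, ⟨0, -1⟩, ⟨1, 0⟩, ⟨0, -1⟩, ⟨0, 2⟩, ⟨0, -1⟩, 0, 0, ⟨0, 1⟩, ⟨-1, 1⟩, ⟨0, 1⟩, ⟨-1, 0⟩, ⟨-1, 0⟩, ⟨0, 1⟩, ⟨0, 2⟩, ⟨-1, -1⟩, ⟨1, 1⟩, ⟨-1, -1⟩, ⟨1, 0⟩, 0, ⟨1, 1⟩, ⟨0, 1⟩, ⟨0, -2⟩],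
  [⟨1, 1⟩, ⟨0, -2⟩, ⟨0, 1⟩, ⟨1, 2⟩, ⟨-1, -2⟩, ⟨2, 2⟩, 0, ⟨-2, 0⟩, ⟨1, 0⟩, ⟨0, -4⟩, ⟨-2, 3⟩, ⟨-1, -1⟩, ⟨-1, -2⟩, ⟨0, -1⟩, 0, ⟨-1, -1⟩, ⟨0, 1⟩, ⟨1, 0⟩, ⟨-2, -3⟩, ⟨0, -1⟩, ⟨0, 2⟩, 0, ⟨2, 2⟩, 0, ⟨0, 1⟩, ⟨1, 1⟩, 0, ⟨-2, 0⟩],
  [⟨0, -2⟩, ⟨1, 2⟩, ⟨2, -1⟩, ⟨-1, -1⟩, ⟨1, 0⟩, ⟨0, -3⟩, ⟨-1, 3⟩, ⟨0, 1⟩, ⟨0, 1⟩, ⟨0, 4⟩, ⟨1, -4⟩, ⟨1, 0⟩, ⟨1, 1⟩, ⟨0, 3⟩, ⟨0, 1⟩, ⟨-1, 0⟩, 0, ⟨0, -1⟩, ⟨1, 1⟩, ⟨-1, 0⟩, ⟨1, -1⟩, ⟨0, 2⟩, ⟨-2, 0⟩, ⟨1, -1⟩, ⟨0, 2⟩, ⟨-1, -1⟩, ⟨-1, 1⟩,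 ⟨-1, -1⟩],
  [⟨-1, 1⟩, ⟨-1, 0⟩, ⟨1, 1⟩, ⟨1, 0⟩, ⟨0, 1⟩, ⟨-1, 3⟩, ⟨-2, -3⟩, ⟨0, -2⟩, ⟨-2, -1⟩, 0, ⟨2, 1⟩, ⟨-1, 3⟩, ⟨-1, 0⟩, ⟨-1, -1⟩, ⟨0, -1⟩, ⟨3, 0⟩, ⟨1, 0⟩, ⟨0, 2⟩, ⟨1, 2⟩, ⟨3, 0⟩, ⟨-1, 0⟩, ⟨-1, -2⟩, ⟨-1, -1⟩, ⟨-1, 1⟩, ⟨-1, -3⟩, ⟨1, -1⟩, ⟨1, -2⟩, ⟨2, 1⟩],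
  [0, ⟨0, 1⟩, ⟨2, -1⟩, ⟨0, -1⟩, ⟨-1, -1⟩, ⟨1, -2⟩, ⟨-1, 2⟩, ⟨0, 2⟩, ⟨1, 1⟩, ⟨0, 1⟩, ⟨0, -1⟩, ⟨2, 0⟩, ⟨-1, 0⟩, ⟨0, 1⟩, ⟨0, 1⟩, ⟨-1, -1⟩, 0, ⟨2, 0⟩, 0, ⟨-1, 0⟩, ⟨0, -1⟩, ⟨0, 2⟩, 0, ⟨2, -1⟩, ⟨-1, 2⟩, ⟨0, -1⟩, ⟨-1, 1⟩, ⟨-2, -1⟩],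
  [0, ⟨1, -1⟩, ⟨-1, -3⟩, ⟨-1, 0⟩, 0, 0, ⟨1, 2⟩, ⟨-1, 1⟩, ⟨1, 2⟩, ⟨2, -1⟩, ⟨-2, -2⟩, ⟨2, -1⟩, ⟨1, 0⟩, ⟨2, 0⟩, ⟨1, -1⟩, ⟨-1, -1⟩, ⟨0, -1⟩, ⟨1, -1⟩, ⟨1, -2⟩, ⟨-1, -2⟩, 0, ⟨1, 0⟩, ⟨1, 2⟩, 0, ⟨0, 2⟩, ⟨-2, 0⟩, ⟨-1, 1⟩, 0],
  [⟨2, 1⟩, ⟨0, 2⟩, ⟨-2, 1⟩, ⟨-2, -1⟩, ⟨1, 0⟩, ⟨2, -1⟩, 0, 0, ⟨1, 0⟩, ⟨-1, 0⟩, ⟨0, -2⟩, ⟨3, -1⟩, ⟨0, 1⟩, ⟨-1, 0⟩, ⟨-2, 1⟩, ⟨-1, -2⟩, ⟨-2, -1⟩, ⟨1, -1⟩, ⟨1, -2⟩, ⟨-1, -1⟩, ⟨-1, 0⟩, ⟨-1, 2⟩, ⟨0, -1⟩, ⟨2, 1⟩, ⟨-2, 1⟩, ⟨-1, 1⟩, ⟨-2, 0⟩, ⟨1,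 -3⟩],
  [⟨-1, 2⟩, ⟨-1, 1⟩, ⟨-2, 0⟩, ⟨-1, -1⟩, ⟨1, 1⟩, ⟨-2, 3⟩, ⟨0, -2⟩, ⟨2, -2⟩, ⟨-1, -1⟩, ⟨2, 0⟩, 0, ⟨1, 1⟩, ⟨0, 1⟩, ⟨0, -2⟩, ⟨-2, -1⟩, ⟨3, 0⟩, ⟨-1, -2⟩, ⟨-1, 1⟩, ⟨3, 1⟩, ⟨2, 0⟩, ⟨-3, 0⟩, ⟨-2, -2⟩, ⟨-1, -1⟩, ⟨-1, 2⟩, ⟨-1, -4⟩, 0, ⟨1, -2⟩, ⟨3, 0⟩],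
  [⟨-1, -1⟩, ⟨1, -1⟩, ⟨1, 0⟩, 0, ⟨-1, 1⟩, ⟨-1, 2⟩, ⟨0, -1⟩, ⟨-1, -2⟩, ⟨-2, 0⟩, ⟨1, 0⟩, 0, ⟨-1, 1⟩, ⟨1, 0⟩, ⟨0, -1⟩, ⟨1, -1⟩, ⟨2, 0⟩, ⟨1, 1⟩, ⟨0, 1⟩, ⟨1, 0⟩, ⟨2, -1⟩, ⟨1, 1⟩, ⟨0, -3⟩, ⟨-1, 0⟩, ⟨-1, 0⟩, ⟨0, -2⟩, ⟨0, -1⟩, ⟨1, -2⟩, ⟨0, 2⟩],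
  [0, ⟨2, -1⟩, ⟨2, -1⟩, ⟨0, 2⟩, ⟨-1, -2⟩, ⟨-1, 1⟩, ⟨0, 1⟩, ⟨0, -1⟩, ⟨-1, 1⟩, ⟨3, -1⟩, ⟨-2, 1⟩, ⟨-2, -1⟩, ⟨1, -1⟩, ⟨2, 1⟩, ⟨2, 2⟩, ⟨0, 1⟩, ⟨0, 2⟩, ⟨-1, 2⟩, ⟨0, -1⟩, ⟨1, 0⟩, ⟨0, 2⟩, ⟨2, 1⟩, ⟨0, 3⟩, ⟨-1, -1⟩, ⟨0, 1⟩, ⟨1, -1⟩, ⟨0, 1⟩, ⟨-3, 0⟩],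
  [⟨0, 2⟩, 0, ⟨-1, -3⟩, ⟨-1, -1⟩, ⟨1, -1⟩, ⟨0, -2⟩, ⟨1, 3⟩, ⟨1, 2⟩, ⟨2, 1⟩, ⟨2, 0⟩, ⟨-2, -1⟩, ⟨3, -1⟩, ⟨-1, 0⟩, ⟨1, 2⟩, ⟨-1, 1⟩, ⟨-2, -1⟩, ⟨0, -1⟩, ⟨1, -2⟩, ⟨1, -1⟩, ⟨-1, 1⟩, ⟨-2, -2⟩, ⟨0, 4⟩, ⟨0, 2⟩, ⟨0, -1⟩, ⟨0, 2⟩, ⟨-1, 1⟩, ⟨-2, 1⟩, 0],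
  [⟨1, 0⟩, 0, ⟨-1, 2⟩, ⟨1, 1⟩, ⟨-1, -2⟩, ⟨1, 0⟩, ⟨1, 0⟩, 0, ⟨1, -1⟩, ⟨-1, -2⟩, ⟨-1, 2⟩, ⟨-1, -1⟩, ⟨-1, -1⟩, ⟨0, -1⟩, ⟨0, 1⟩, ⟨-1, 0⟩, ⟨-1, 1⟩, 0, ⟨-2, -1⟩, ⟨-1, 1⟩, ⟨0, 1⟩, ⟨1, 1⟩, ⟨2, 0⟩, ⟨1, 0⟩, ⟨1, 1⟩, ⟨1, 1⟩, ⟨1, 1⟩, ⟨-2, 0⟩]]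

def X2 : Mat := [[⟨1, 1⟩, 0, ⟨0, -2⟩, ⟨1, 0⟩, ⟨0, 1⟩, ⟨1, -1⟩, ⟨0, 1⟩, 0, ⟨0, 1⟩, ⟨-1, 0⟩, 0, ⟨0, 1⟩, ⟨0, 1⟩, ⟨1, -1⟩, ⟨0, 1⟩, ⟨-1, 0⟩, ⟨0, -1⟩, 0, 0, ⟨-1, 0⟩, ⟨1, 0⟩, 0, ⟨1, 0⟩, ⟨-1, 0⟩, 0, ⟨-2, 0⟩, 0, ⟨-2, 1⟩],
  [⟨0, -1⟩, 0, ⟨-1, 1⟩, 0, 0, ⟨-1, 1⟩, ⟨0, -1⟩, ⟨1, 1⟩, ⟨1, -1⟩, 0, ⟨0, 1⟩, ⟨1, -1⟩, ⟨0, -2⟩, ⟨-2, 0⟩, ⟨0, -1⟩, ⟨1, 1⟩, ⟨-1, 1⟩, ⟨1, 1⟩, ⟨0, 1⟩, ⟨1, 1⟩, 0, 0, ⟨0, -1⟩, ⟨1, 1⟩, 0, ⟨2, 1⟩, 0, ⟨2, 0⟩],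
  [⟨0, 1⟩, 0, ⟨0, -1⟩, 0, ⟨0, 1⟩, ⟨0, -1⟩, 0, ⟨0, 1⟩, ⟨1, 1⟩, ⟨-1, 0⟩, ⟨-1, 0⟩, ⟨1, 1⟩, ⟨1, 0⟩, ⟨0, -2⟩, 0, ⟨-2, 0⟩, ⟨-1, -1⟩, ⟨0, 1⟩, 0, ⟨-1, 1⟩, 0, ⟨-1, 0⟩, ⟨1, -1⟩, ⟨-1, 0⟩, 0, ⟨-2, 1⟩, 0, ⟨-1, 1⟩],
  [⟨2, 0⟩, ⟨-2, -3⟩, ⟨-4, -1⟩, ⟨0, -1⟩, ⟨2, -2⟩, ⟨1, -3⟩, ⟨3, 0⟩, ⟨-2, -4⟩, ⟨-4, 2⟩, ⟨1, -1⟩, ⟨0, 1⟩, ⟨-4, 1⟩, ⟨3, 2⟩, ⟨3, 0⟩, ⟨1, 3⟩, ⟨1, -1⟩, ⟨1, 2⟩, ⟨-4, -2⟩, ⟨0, -3⟩, ⟨-1, 0⟩, ⟨1, 0⟩, ⟨1, 1⟩, ⟨1, 0⟩, ⟨-1, 2⟩, ⟨0, -2⟩, 0, 0, ⟨-1, 2⟩],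
  [⟨-2, 1⟩, ⟨2, 2⟩, ⟨2, 1⟩, ⟨-1, 2⟩, ⟨-1, 0⟩, ⟨-2, 0⟩, ⟨-1, 0⟩, ⟨-1, 1⟩, ⟨1, 0⟩, 0, ⟨-2, -1⟩, ⟨2, 0⟩, ⟨1, 0⟩, 0, 0, ⟨-1, -1⟩, ⟨-1, -2⟩, ⟨-1, 1⟩, ⟨-1, 0⟩, ⟨-1, 0⟩, ⟨-2, 1⟩, ⟨-1, 0⟩, 0, ⟨0, -1⟩, 0, 0, ⟨0, 1⟩, ⟨0, -1⟩],
  [⟨0, 1⟩, ⟨1, -1⟩, ⟨0, -1⟩, 0, ⟨1, -1⟩, ⟨0, 1⟩, ⟨0, 1⟩, ⟨2, -1⟩, ⟨-1, -2⟩, ⟨2, 0⟩, ⟨-1, 1⟩, ⟨0, -3⟩, ⟨-1, 0⟩, ⟨0, 2⟩, ⟨-1, 0⟩, ⟨1, 0⟩, ⟨0, 1⟩, ⟨1, -2⟩, ⟨0, -1⟩, ⟨0, -1⟩, ⟨-2, 0⟩, ⟨0, 2⟩, ⟨-1, 1⟩, 0, 0, ⟨2, 0⟩, ⟨0, 1⟩, ⟨0, -1⟩],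
  [⟨1, 1⟩, ⟨1, -2⟩, ⟨-1, -3⟩, ⟨1, 0⟩, ⟨2, 0⟩, ⟨1, -2⟩, ⟨1, 2⟩, ⟨1, -2⟩, ⟨-3, 0⟩, ⟨2, 1⟩, ⟨-1, 0⟩, ⟨-1, 0⟩, ⟨0, 2⟩, ⟨3, 2⟩, ⟨0, 3⟩, ⟨1, 1⟩, ⟨-1, 0⟩, ⟨-1, -2⟩, ⟨2, -1⟩, ⟨-1, -1⟩, 0, ⟨0, 2⟩, ⟨1, 0⟩, ⟨-1, 2⟩, ⟨0, -1⟩, ⟨0, -1⟩, ⟨-1, 1⟩, ⟨-2, 1⟩],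
  [⟨-1, 2⟩, ⟨2, -1⟩, ⟨2, -1⟩, ⟨1, 2⟩, ⟨1, 1⟩, ⟨1, 2⟩, ⟨-2, 1⟩, ⟨2, -1⟩, ⟨-1, -2⟩, 0, ⟨-1, 1⟩, ⟨0, -2⟩, ⟨-2, -1⟩, ⟨0, 3⟩, ⟨-2, 0⟩, ⟨1, -1⟩, ⟨0, 1⟩, ⟨2, 0⟩, ⟨1, 0⟩, ⟨1, -2⟩, ⟨0, 1⟩, ⟨-1, 1⟩, ⟨-1, -1⟩, 0, ⟨0, -1⟩, ⟨1, -2⟩, ⟨0, 1⟩, ⟨0, -3⟩],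
  [⟨0, -1⟩, ⟨-1, -2⟩, ⟨-2, 1⟩, ⟨0, -1⟩, ⟨0, -1⟩, ⟨-1, 0⟩, ⟨2, -1⟩, ⟨-1, -1⟩, ⟨0, 2⟩, ⟨1, -2⟩, ⟨0, 1⟩, ⟨-1, 0⟩, ⟨1, 0⟩, ⟨2, -2⟩, ⟨2, -1⟩, ⟨1, -1⟩, ⟨0, 1⟩, ⟨-1, 1⟩, ⟨0, -1⟩, ⟨-1, 1⟩, 0, ⟨2, -1⟩, ⟨0, -1⟩, ⟨2, 0⟩, ⟨-1, 0⟩, ⟨-1, -1⟩, ⟨1, 1⟩, ⟨1, 0⟩],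
  [⟨1, 0⟩, ⟨-2, 0⟩, ⟨-2, 0⟩, ⟨0, -2⟩, ⟨0, -1⟩, ⟨1, -3⟩, ⟨2, 0⟩, ⟨-2, -2⟩, ⟨-2, 3⟩, ⟨-1, -1⟩, ⟨1, 0⟩, ⟨-2, 2⟩, ⟨2, 3⟩, ⟨2, -2⟩, ⟨1, 2⟩, ⟨-1, -1⟩, ⟨1, 0⟩, ⟨-3, -1⟩, ⟨0, -2⟩, ⟨-2, 1⟩, ⟨1, 0⟩, ⟨0, -1⟩, ⟨1, 1⟩, ⟨-1, -1⟩, 0, ⟨-2, 0⟩, ⟨0, -1⟩, ⟨-3, 2⟩],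
  [⟨-2, 1⟩, ⟨-1, 2⟩, ⟨1, 1⟩, ⟨-1, -1⟩, 0, ⟨1, -1⟩, ⟨-1, 0⟩, ⟨2, 0⟩, ⟨-1, -1⟩, ⟨-1, 0⟩, 0, ⟨0, -1⟩, ⟨0, 1⟩, ⟨-2, 1⟩, ⟨-2, 0⟩, ⟨-1, 0⟩, ⟨0, 1⟩, ⟨0, -2⟩, ⟨1, -1⟩, ⟨0, 1⟩, ⟨-1, 0⟩, ⟨-2, 0⟩, ⟨-1, 1⟩, ⟨-1, -3⟩, ⟨1, 1⟩, ⟨1, 1⟩, ⟨-1, -1⟩, ⟨-2, -1⟩],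
  [⟨0, 1⟩, ⟨-1, 0⟩, 0, ⟨1, -1⟩, ⟨0, -1⟩, 0, ⟨0, 1⟩, 0, 0, ⟨0, -1⟩, ⟨0, 1⟩, ⟨1, -1⟩, ⟨-1, 1⟩, ⟨1, -1⟩, 0, ⟨-1, -2⟩, 0, ⟨1, -1⟩, ⟨0, -1⟩, ⟨-1, 0⟩, ⟨-1, 0⟩, 0, ⟨-2, 1⟩, ⟨1, -2⟩, ⟨-1, 1⟩, ⟨-1, 0⟩, ⟨1, 0⟩, ⟨-2, -1⟩],
  [⟨-2, 1⟩, ⟨-1, -1⟩, ⟨1, 0⟩, ⟨0, 1⟩, ⟨0, -1⟩, ⟨1, 0⟩, ⟨-1, 0⟩, ⟨-1, 0⟩, ⟨-2, 0⟩, ⟨1, -1⟩, ⟨-2, 0⟩, 0, 0, ⟨1, 1⟩, ⟨-1, 0⟩, ⟨0, -3⟩, ⟨1, 0⟩, ⟨0, -1⟩, ⟨0, -2⟩, ⟨-1, -2⟩, ⟨-1, 0⟩, ⟨-1, 0⟩, ⟨-1, 0⟩, ⟨1, -1⟩, ⟨-1, -1⟩, ⟨0, -1⟩, 0, ⟨-1, -3⟩],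
  [⟨0, 2⟩, ⟨2, 2⟩, ⟨3, -2⟩, ⟨0, 1⟩, ⟨-1, 1⟩, ⟨1, 1⟩, ⟨-2, 2⟩, ⟨2, 1⟩, ⟨1, -2⟩, ⟨-1, 1⟩, 0, ⟨1, -2⟩, ⟨-2, 0⟩, ⟨-1, 2⟩, ⟨-3, 0⟩, ⟨-2, 0⟩, ⟨0, -2⟩, ⟨2, -1⟩, ⟨-1, 1⟩, ⟨0, -1⟩, ⟨-1, 1⟩, ⟨-1, 1⟩, ⟨-1, 2⟩, ⟨-2, -2⟩, ⟨0, 1⟩, 0, 0, ⟨-2, -2⟩],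
  [⟨1, 1⟩, ⟨2, 0⟩, ⟨1, -1⟩, ⟨2, 1⟩, ⟨0, 1⟩, ⟨-1, 2⟩, ⟨-1, 1⟩, ⟨2, 1⟩, ⟨1, -1⟩, ⟨0, 1⟩, ⟨0, 2⟩, ⟨1, -2⟩, ⟨-2, -2⟩, ⟨0, 1⟩, 0, ⟨-1, 2⟩, ⟨-1, 0⟩, ⟨2, 1⟩, ⟨-1, 2⟩, 0, ⟨0, 1⟩, ⟨1, 2⟩, ⟨-1, 0⟩, ⟨0, 1⟩, ⟨-1, 1⟩, ⟨1, 0⟩, ⟨0, 1⟩, 0],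
  [0, ⟨1, 0⟩, ⟨1, -1⟩, ⟨1, 0⟩, ⟨-1, 1⟩, ⟨0, 1⟩, ⟨0, 1⟩, ⟨1, 1⟩, 0, 0, 0, ⟨0, -1⟩, ⟨-1, 0⟩, ⟨1, 0⟩, 0, ⟨-1, 1⟩, ⟨-1, -1⟩, 0, ⟨0, 2⟩, ⟨-1, 0⟩, ⟨0, 1⟩, ⟨1, 0⟩, ⟨1, 1⟩, 0, ⟨0, 1⟩, ⟨0, -1⟩, 0, ⟨-1, 0⟩],
  [⟨1, 0⟩, ⟨0, 1⟩, 0, ⟨0, -1⟩, ⟨-1, 1⟩, ⟨0, 1⟩, 0, ⟨1, 0⟩, ⟨1, 0⟩, ⟨-2, 0⟩, ⟨2, 1⟩, ⟨0, -1⟩, ⟨-1, 0⟩, ⟨-1, -1⟩, ⟨-1, 0⟩, ⟨-1, 1⟩, 0, ⟨1, 0⟩, ⟨0, 1⟩, ⟨1, 1⟩, ⟨1, 1⟩, ⟨0, -1⟩, ⟨0, 1⟩, ⟨-1, -1⟩, ⟨0, 1⟩, 0, ⟨0, -1⟩, ⟨-1, 1⟩],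
  [⟨-1, 2⟩, ⟨2, 0⟩, ⟨2, -2⟩, ⟨0, 3⟩, 0, ⟨0, -1⟩, ⟨-1, 1⟩, ⟨-1, 0⟩, ⟨-2, 0⟩, ⟨1, 1⟩, ⟨-3, -1⟩, ⟨0, 1⟩, ⟨1, 0⟩, ⟨2, 3⟩, ⟨-1, 2⟩, ⟨0, -1⟩, ⟨0, -2⟩, ⟨-2, 0⟩, ⟨-1, -1⟩, ⟨-1, -2⟩, ⟨-1, 1⟩, ⟨-1, 2⟩, ⟨1, 0⟩, ⟨-2, 1⟩, ⟨0, -2⟩, ⟨0, -1⟩, ⟨-1, 1⟩, ⟨-1, -1⟩],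
  [⟨1, -2⟩, ⟨-1, 0⟩, ⟨-2, 0⟩, ⟨-1, -3⟩, ⟨-1, 2⟩, 0, ⟨2, -1⟩, ⟨0, 1⟩, ⟨3, 2⟩, ⟨-1, -1⟩, ⟨2, -1⟩, ⟨0, 1⟩, ⟨1, 1⟩, ⟨-1, -5⟩, ⟨2, -2⟩, ⟨0, 2⟩, ⟨-1, 0⟩, ⟨0, 1⟩, ⟨1, 1⟩, ⟨0, 3⟩, ⟨2, -1⟩, ⟨1, -3⟩, ⟨2, 0⟩, ⟨0, -1⟩, ⟨1, 2⟩, ⟨-3, 1⟩, ⟨0, -1⟩, ⟨1, 4⟩],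
  [⟨1, -1⟩, ⟨0, -1⟩, ⟨-1, 0⟩, ⟨1, 0⟩, ⟨1, -2⟩, ⟨1, 0⟩, ⟨0, 1⟩, ⟨0, -2⟩, ⟨-3, -1⟩, ⟨2, 1⟩, ⟨1, 1⟩, ⟨-2, -1⟩, ⟨-1, 0⟩, ⟨1, 3⟩, ⟨0, 2⟩, ⟨1, 0⟩, ⟨1, 1⟩, ⟨0, -2⟩, 0, ⟨0, -2⟩, 0, ⟨1, 2⟩, ⟨-1, 1⟩, ⟨1, 2⟩, ⟨-1, -1⟩, ⟨3, -1⟩, 0, ⟨0, -1⟩],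
  [⟨1, -1⟩, 0, 0, ⟨0, -1⟩, ⟨-1, 1⟩, 0, ⟨1, 0⟩, ⟨-2, 0⟩, ⟨2, 2⟩, ⟨-1, 0⟩, ⟨2, -1⟩, ⟨0, 2⟩, ⟨0, 1⟩, ⟨1, -3⟩, ⟨2, 0⟩, 0, ⟨0, -1⟩, ⟨0, 2⟩, ⟨0, 1⟩, ⟨0, 1⟩, ⟨2, 0⟩, ⟨1, -2⟩, ⟨1, 0⟩, 0, ⟨0, 1⟩, ⟨-3, -1⟩, ⟨1, 0⟩, ⟨0, 2⟩],
  [⟨-3, -1⟩, 0, ⟨0, 2⟩, ⟨-2, 0⟩, 0, ⟨-1, 0⟩, ⟨1, -2⟩, ⟨-1, 1⟩, ⟨1, 0⟩, ⟨1, -1⟩, ⟨-2, -2⟩, ⟨1, 1⟩, ⟨2, 0⟩, ⟨-1, -2⟩, ⟨1, -2⟩, ⟨1, -1⟩, ⟨-1, 0⟩, ⟨-1, 1⟩, ⟨1, -1⟩, ⟨0, 1⟩, ⟨-1, -1⟩, ⟨-1, -2⟩, ⟨1, -1⟩, ⟨1, -1⟩, ⟨1, 0⟩, ⟨-1, 1⟩, 0, ⟨2, 0⟩],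
  [⟨-1, 1⟩, ⟨-1, 2⟩, ⟨2, 0⟩, ⟨1, 0⟩, ⟨-2, 0⟩, ⟨1, 0⟩, ⟨-1, 1⟩, ⟨-1, 1⟩, ⟨0, 1⟩, ⟨-2, -1⟩, ⟨1, 0⟩, ⟨0, 1⟩, ⟨-1, 1⟩, ⟨1, -1⟩, ⟨-1, 0⟩, ⟨-3, -2⟩, ⟨1, -2⟩, 0, ⟨-1, 1⟩, ⟨-2, 0⟩, ⟨0, 1⟩, ⟨0, -1⟩, ⟨-1, 2⟩, ⟨0, -3⟩, ⟨-1, 1⟩, ⟨-2, -1⟩, ⟨1, -1⟩, ⟨-3, -2⟩],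
  [⟨-2, 0⟩, ⟨-2, 1⟩, ⟨2, 2⟩, ⟨0, 1⟩, ⟨0, -2⟩, ⟨2, 1⟩, ⟨-3, 0⟩, ⟨1, -1⟩, ⟨-2, -2⟩, 0, ⟨1, 1⟩, ⟨-1, -1⟩, ⟨-3, -1⟩, ⟨-1, 4⟩, ⟨-3, 0⟩, ⟨1, -2⟩, ⟨3, 1⟩, ⟨2, -2⟩, ⟨0, -1⟩, ⟨1, -3⟩, ⟨-1, 0⟩, ⟨-1, 1⟩, ⟨-3, 0⟩, ⟨2, -1⟩, ⟨-1, -1⟩, ⟨3, -2⟩, 0, ⟨0, -5⟩],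
  [⟨0, -1⟩, ⟨-1, -1⟩, ⟨-2, 0⟩, 0, ⟨2, -1⟩, ⟨1, -2⟩, ⟨1, 0⟩, ⟨0, -1⟩, ⟨-2, -1⟩, ⟨1, 1⟩, ⟨-1, 0⟩, ⟨-1, 0⟩, ⟨1, 1⟩, ⟨0, 2⟩, ⟨0, 2⟩, ⟨1, 0⟩, ⟨0, 1⟩, ⟨-1, -2⟩, ⟨1, -2⟩, ⟨0, -1⟩, ⟨0, -1⟩, ⟨-1, 1⟩, ⟨0, -1⟩, ⟨0, 1⟩, ⟨0, -1⟩, ⟨1, 1⟩, ⟨-1, 0⟩, 0],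
  [0, ⟨3, 0⟩, ⟨0, -2⟩, ⟨-2, 0⟩, ⟨1, 2⟩, ⟨0, -1⟩, ⟨1, 1⟩, ⟨1, -2⟩, ⟨1, -1⟩, ⟨1, 2⟩, ⟨0, -3⟩, 0, ⟨0, 2⟩, ⟨0, 1⟩, ⟨0, 1⟩, ⟨2, 2⟩, ⟨-1, -1⟩, ⟨0, -1⟩, ⟨2, 0⟩, ⟨1, 0⟩, ⟨0, -1⟩, 0, ⟨2, 0⟩, ⟨-2, 1⟩, ⟨2, 0⟩, ⟨-1, 0⟩, ⟨-1, 1⟩, ⟨1, 2⟩],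
  [⟨-1, -1⟩, ⟨0, 3⟩, ⟨1, 2⟩, ⟨-2, 0⟩, ⟨-2, 1⟩, ⟨-2, 1⟩, ⟨-1, -1⟩, ⟨-1, 2⟩, ⟨4, 1⟩, ⟨-1, -1⟩, ⟨1, -2⟩, ⟨3, 1⟩, ⟨0, -1⟩, ⟨-2, -2⟩, ⟨1, -3⟩, ⟨0, -1⟩, ⟨1, -2⟩, ⟨1, 2⟩, ⟨-1, 1⟩, ⟨1, 0⟩, ⟨-1, -1⟩, ⟨0, -2⟩, 0, ⟨1, -1⟩, ⟨0, 1⟩, ⟨-1, 0⟩, 0, ⟨3, 0⟩],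
  [⟨1, 2⟩, ⟨1, 0⟩, ⟨1, -2⟩, ⟨0, 2⟩, ⟨0, 1⟩, ⟨1, 0⟩, ⟨-1, 1⟩, 0, ⟨0, -1⟩, ⟨-1, 0⟩, ⟨-1, 0⟩, 0, 0, ⟨0, 1⟩, ⟨-2, 1⟩, ⟨-1, -1⟩, ⟨0, -1⟩, 0, ⟨-1, 0⟩, ⟨0, -1⟩, ⟨0, 1⟩, ⟨-1, 1⟩, 0, ⟨-2, 0⟩, ⟨0, -1⟩, ⟨-1, 0⟩, 0, ⟨-1, -1⟩]]

def X3 : Mat := [[⟨-1, 0⟩, 0, ⟨2, -1⟩, ⟨-1, 1⟩, ⟨-2, 1⟩, 0, 0, ⟨0, 1⟩, ⟨1, 0⟩, ⟨-1, -1⟩, ⟨1, -2⟩, 0, 0, 0, ⟨0, -1⟩, 0, ⟨2, 0⟩, ⟨1, 0⟩, 0, ⟨0, -1⟩, ⟨1, -1⟩, 0, ⟨1, 1⟩, ⟨0, -1⟩, ⟨1, 0⟩, ⟨-1, -2⟩, 0, ⟨0, -1⟩],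
  [0, 0, ⟨-2, 0⟩, ⟨1, 0⟩, ⟨1, 1⟩, ⟨-1, 0⟩, ⟨0, -1⟩, ⟨1, -1⟩, ⟨-1, -1⟩, ⟨0, 1⟩, ⟨-1, 0⟩, ⟨-1, 1⟩, ⟨0, -1⟩, 0, 0, ⟨0, 1⟩, ⟨-2, 0⟩, ⟨-1, 0⟩, ⟨0, 1⟩, ⟨0, 1⟩, ⟨-1, 0⟩, ⟨1, 0⟩, ⟨0, -1⟩, ⟨-1, 1⟩, 0, ⟨0, 2⟩, ⟨0, -1⟩, ⟨0, 1⟩],
  [0, 0, ⟨1, -2⟩, ⟨-1, 1⟩, ⟨-2, 2⟩, ⟨0, -1⟩, 0, ⟨1, 1⟩, ⟨2, -1⟩, ⟨-1, -1⟩, ⟨2, -2⟩, ⟨-1, 0⟩, ⟨1, 0⟩, 0, ⟨0, -1⟩, 0, 0, ⟨1, 0⟩, ⟨0, 1⟩, ⟨1, 0⟩, ⟨2, -1⟩, 0, 0, ⟨-1, -1⟩, ⟨1, 0⟩, ⟨-2, -1⟩, ⟨1, -1⟩, ⟨0, -1⟩],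
  [0, 0, ⟨1, 1⟩, ⟨-1, 1⟩, ⟨0, -1⟩, 0, 0, ⟨-2, 0⟩, ⟨1, 3⟩, ⟨1, -1⟩, ⟨1, 1⟩, ⟨1, 0⟩, ⟨0, 1⟩, 0, ⟨1, 1⟩, ⟨-1, 1⟩, ⟨3, -2⟩, ⟨1, -1⟩, ⟨-2, -1⟩, ⟨-1, 0⟩, ⟨-1, 0⟩, ⟨0, 1⟩, ⟨1, 1⟩, ⟨1, 0⟩, ⟨-2, 3⟩, ⟨0, -1⟩, ⟨0, 3⟩, ⟨-1, 1⟩],
  [0, 0, ⟨0, -1⟩, ⟨0, -1⟩, ⟨-2, 0⟩, ⟨1, -2⟩, 0, ⟨1, 1⟩, 0, 0, ⟨2, 3⟩, ⟨-1, -2⟩, ⟨1, 1⟩, 0, ⟨0, 1⟩, ⟨-2, -1⟩, ⟨-2, 1⟩, ⟨1, 0⟩, ⟨-1, 1⟩, ⟨1, 1⟩, ⟨3, 1⟩, 0, ⟨-2, -1⟩, ⟨-1, -1⟩, ⟨-1, 0⟩, ⟨0, 1⟩, ⟨1, -1⟩, 0],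
  [0, 0, ⟨-2, 2⟩, ⟨1, -1⟩, ⟨3, -1⟩, ⟨-1, 0⟩, 0, ⟨0, -2⟩, ⟨-2, 1⟩, ⟨1, 1⟩, ⟨-1, 2⟩, ⟨1, 0⟩, ⟨-1, 0⟩, ⟨1, 0⟩, ⟨0, 2⟩, ⟨0, -1⟩, ⟨0, 1⟩, 0, ⟨1, -2⟩, ⟨0, -1⟩, ⟨-1, -1⟩, ⟨-1, 0⟩, ⟨-2, 0⟩, ⟨1, 1⟩, ⟨-3, 0⟩, ⟨1, 1⟩, ⟨-2, 1⟩, ⟨-1, 0⟩],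
  [0, ⟨0, 1⟩, 0, ⟨-2, 0⟩, ⟨-1, 0⟩, ⟨0, -1⟩, 0, ⟨0, -2⟩, ⟨-2, 2⟩, 0, ⟨1, 0⟩, ⟨0, 1⟩, ⟨0, 1⟩, ⟨0, -1⟩, ⟨-1, 2⟩, ⟨-1, 1⟩, ⟨3, 0⟩, 0, ⟨0, -1⟩, ⟨-1, -1⟩, 0, 0, ⟨0, 1⟩, 0, ⟨-2, 0⟩, ⟨0, -2⟩, ⟨-1, 1⟩, ⟨-2, 0⟩],
  [0, 0, ⟨-1, 2⟩, ⟨0, -2⟩, ⟨1, 0⟩, ⟨-1, 0⟩, 0, ⟨0, -2⟩, ⟨-2, 1⟩, 0, ⟨3, 1⟩, ⟨-1, 1⟩, 0, ⟨1, 0⟩, 0, ⟨0, 1⟩, ⟨1, 4⟩, 0, ⟨2, 0⟩, ⟨2, -1⟩, ⟨2, -1⟩, ⟨0, -1⟩, ⟨-3, 1⟩, ⟨0, 1⟩, ⟨-1, 0⟩, ⟨2, 0⟩, ⟨-2, -1⟩, ⟨1, 0⟩],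
  [0, 0, ⟨0, 1⟩, ⟨-1, 1⟩, 0, ⟨-1, 0⟩, 0, ⟨-2, 0⟩, ⟨2, 2⟩, ⟨1, 0⟩, ⟨1, 0⟩, 0, ⟨1, 0⟩, ⟨-1, 0⟩, ⟨2, 1⟩, ⟨1, 1⟩, ⟨-1, -2⟩, ⟨-1, 0⟩, ⟨-1, 0⟩, ⟨0, 2⟩, ⟨0, 1⟩, 0, 0, 0, ⟨0, 2⟩, ⟨-1, 0⟩, ⟨1, 1⟩, ⟨1, 2⟩],
  [0, 0, ⟨3, 0⟩, ⟨-1, 2⟩, ⟨-2, -1⟩, ⟨1, 0⟩, 0, ⟨-2, 2⟩, ⟨3, 1⟩, ⟨0, -1⟩, 0, ⟨1, -1⟩, ⟨0, 1⟩, ⟨-1, 0⟩, ⟨1, 0⟩, ⟨-1, -1⟩, ⟨1, -2⟩, ⟨1, 1⟩, ⟨-3, 0⟩, ⟨-1, 1⟩, ⟨0, 1⟩, ⟨0, 1⟩, ⟨2, 0⟩, ⟨1, -1⟩, ⟨0, 1⟩, ⟨-1, -1⟩, ⟨2, 2⟩, ⟨0, -1⟩],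
  [0, 0, ⟨0, 1⟩, ⟨1, 1⟩, ⟨1, -1⟩, ⟨1, -1⟩, 0, 0, ⟨0, -1⟩, ⟨1, 0⟩, ⟨-2, 2⟩, ⟨1, 0⟩, ⟨-1, 0⟩, ⟨0, 1⟩, ⟨0, 1⟩, ⟨-1, -3⟩, ⟨-2, 2⟩, ⟨1, 2⟩, ⟨-1, 0⟩, ⟨1, 1⟩, ⟨1, 1⟩, ⟨0, 1⟩, ⟨-1, -2⟩, ⟨1, 1⟩, ⟨-1, -1⟩, ⟨0, 2⟩, ⟨1, 0⟩, ⟨0, -2⟩],
  [0, 0, ⟨0, 1⟩, ⟨0, 1⟩, ⟨1, 0⟩, 0, 0, ⟨-1, 0⟩, ⟨1, 1⟩, 0, ⟨0, -1⟩, ⟨1, 0⟩, 0, 0, ⟨1, 1⟩, ⟨1, -2⟩, 0, ⟨0, 1⟩, ⟨0, -1⟩, ⟨0, -1⟩, ⟨1, -1⟩, ⟨-1, 0⟩, 0, ⟨1, 1⟩, 0, ⟨-1, 0⟩, ⟨0, 1⟩, ⟨1, -1⟩],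
  [0, 0, ⟨0, 2⟩, ⟨-1, -1⟩, ⟨0, -1⟩, ⟨1, 0⟩, 0, ⟨-1, 0⟩, ⟨0, 3⟩, ⟨1, -1⟩, ⟨2, 2⟩, ⟨1, 0⟩, 0, 0, ⟨0, 1⟩, ⟨1, -1⟩, ⟨0, 1⟩, ⟨0, 1⟩, ⟨0, -1⟩, ⟨1, 0⟩, ⟨2, 1⟩, ⟨-1, 0⟩, ⟨-1, 0⟩, ⟨1, 1⟩, ⟨-2, 1⟩, ⟨1, -1⟩, ⟨-1, 1⟩, ⟨2, 0⟩],
  [0, 0, ⟨1, 1⟩, ⟨1, -2⟩, ⟨0, -1⟩, 0, 0, ⟨1, 0⟩, ⟨-1, -1⟩, ⟨-1, 0⟩, ⟨1, 0⟩, ⟨0, -1⟩, ⟨-1, 0⟩, ⟨1, 0⟩, ⟨0, -1⟩, ⟨-1, -2⟩, ⟨1, 3⟩, ⟨1, 0⟩, ⟨1, -1⟩, ⟨1, -2⟩, ⟨1, -2⟩, 0, ⟨-2, 1⟩, ⟨1, -1⟩, ⟨0, -1⟩, ⟨1, 0⟩, ⟨-1, -1⟩, ⟨0, -2⟩],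
  [0, 0, ⟨-1, 0⟩, ⟨0, -1⟩, ⟨1, 1⟩, ⟨-2, 0⟩, 0, ⟨1, -2⟩, ⟨-1, -1⟩, ⟨-1, 1⟩, ⟨1, -3⟩, ⟨-1, 1⟩, 0, ⟨1, -1⟩, 0, ⟨0, 1⟩, ⟨1, 1⟩, ⟨-1, -1⟩, ⟨2, 0⟩, ⟨0, -2⟩, ⟨-1, -3⟩, ⟨0, -1⟩, ⟨-1, 2⟩, ⟨-1, 0⟩, ⟨1, 0⟩, 0, ⟨-1, -1⟩, ⟨-1, 0⟩],
  [0, 0, ⟨1, 0⟩, ⟨-1, -1⟩, ⟨-1, -1⟩, 0, 0, ⟨0, -1⟩, 0, 0, ⟨1, -1⟩, ⟨-1, 0⟩, ⟨0, 1⟩, ⟨0, -1⟩, 0, 0, 0, ⟨-1, 0⟩, 0, ⟨-1, 0⟩, ⟨-1, 0⟩, 0, ⟨0, 1⟩, ⟨0, -1⟩, ⟨1, 0⟩, ⟨0, -1⟩, ⟨1, 0⟩, 0],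
  [0, 0, ⟨1, 0⟩, ⟨1, 0⟩, 0, ⟨-1, 1⟩, 0, 0, ⟨1, -2⟩, ⟨-1, 0⟩, ⟨0, -2⟩, ⟨-1, 0⟩, 0, 0, ⟨1, -2⟩, ⟨-1, 0⟩, ⟨0, 1⟩, 0, ⟨0, 1⟩, 0, ⟨-1, -1⟩, ⟨1, 0⟩, ⟨0, 1⟩, ⟨0, -1⟩, ⟨2, 0⟩, ⟨0, 1⟩, ⟨1, -1⟩, ⟨0, -1⟩],
  [0, 0, ⟨1, 0⟩, ⟨-1, -2⟩, ⟨-2, -1⟩, ⟨1, -2⟩, 0, ⟨1, 0⟩, ⟨-2, 2⟩, ⟨0, -1⟩, ⟨4, 3⟩, ⟨-1, -1⟩, ⟨0, 1⟩, ⟨1, 0⟩, ⟨-1, 1⟩, ⟨-2, 1⟩, ⟨2, 2⟩, ⟨1, -1⟩, 0, ⟨1, -1⟩, ⟨3, 0⟩, 0, ⟨-2, 1⟩, ⟨0, -1⟩, ⟨-2, 1⟩, ⟨2, -2⟩, ⟨-1, 0⟩, ⟨-1, 0⟩],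
  [0, 0, ⟨1, -2⟩, ⟨0, 3⟩, ⟨-1, 2⟩, ⟨0, 1⟩, 0, ⟨-1, 2⟩, ⟨3, -2⟩, ⟨-1, 0⟩, ⟨-3, -3⟩, 0, ⟨1, -1⟩, ⟨-2, 1⟩, ⟨1, -2⟩, ⟨1, 0⟩, ⟨-1, -3⟩, ⟨0, 1⟩, ⟨-1, 1⟩, ⟨-1, 2⟩, ⟨-1, 1⟩, 0, ⟨3, -1⟩, ⟨-1, -1⟩, ⟨3, -1⟩, ⟨-3, 0⟩, ⟨2, -1⟩, 0],
  [0, 0, ⟨-1, 2⟩, ⟨0, -2⟩, ⟨2, -2⟩, ⟨0, 1⟩, 0, ⟨-1, -2⟩, ⟨-2, 2⟩, ⟨1, 1⟩, ⟨-1, 1⟩, ⟨1, 1⟩, ⟨-1, 0⟩, ⟨1, -1⟩, ⟨-1, 1⟩, ⟨0, 1⟩, ⟨2, -1⟩, ⟨-1, -1⟩, ⟨0, -2⟩, ⟨-2, -1⟩, ⟨-3, 0⟩, 0, ⟨0, 1⟩, ⟨1, 1⟩, ⟨-2, 1⟩, ⟨2, 0⟩, ⟨-2, 2⟩, ⟨-1, 1⟩],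
  [0, 0, ⟨2, -2⟩, ⟨-1, 1⟩, ⟨-2, 1⟩, ⟨0, 1⟩, 0, ⟨-1, 2⟩, ⟨2, -1⟩, ⟨-1, 0⟩, ⟨0, -3⟩, 0, ⟨1, 0⟩, ⟨-1, 0⟩, ⟨0, -2⟩, ⟨1, 1⟩, ⟨1, -2⟩, 0, ⟨0, 1⟩, 0, 0, ⟨0, -1⟩, ⟨2, 1⟩, ⟨-1, -1⟩, ⟨3, -1⟩, ⟨-1, -1⟩, ⟨1, -1⟩, ⟨1, 0⟩],
  [0, 0, ⟨-1, -1⟩, ⟨0, 1⟩, ⟨-1, 1⟩, ⟨1, -1⟩, 0, ⟨0, 2⟩, ⟨1, 0⟩, ⟨1, 0⟩, ⟨-1, 3⟩, ⟨0, -1⟩, ⟨1, 0⟩, ⟨-1, 1⟩, ⟨0, 1⟩, ⟨0, -1⟩, ⟨-4, -1⟩, ⟨0, 1⟩, ⟨-1, 1⟩, ⟨1, 3⟩, ⟨2, 3⟩, ⟨-1, 0⟩, ⟨0, -3⟩, ⟨-1, 0⟩, ⟨-1, -1⟩, ⟨-1, 1⟩, ⟨1, -1⟩, ⟨1, 1⟩],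
  [0, 0, ⟨3, 1⟩, ⟨-1, 0⟩, ⟨-2, -2⟩, ⟨1, 0⟩, 0, ⟨-1, 2⟩, ⟨3, 0⟩, ⟨0, -1⟩, ⟨2, -1⟩, ⟨0, -1⟩, 0, 0, ⟨1, -1⟩, ⟨0, -2⟩, 0, ⟨0, 1⟩, ⟨-2, 0⟩, 0, ⟨1, 0⟩, ⟨0, 1⟩, ⟨0, 1⟩, ⟨1, -1⟩, ⟨2, 1⟩, ⟨0, -1⟩, ⟨2, 1⟩, ⟨2, -2⟩],
  [0, 0, ⟨-1, 4⟩, ⟨1, -2⟩, ⟨3, -3⟩, ⟨0, 2⟩, 0, ⟨-1, -2⟩, ⟨-2, 1⟩, ⟨1, 0⟩, ⟨-1, 2⟩, ⟨2, 1⟩, ⟨-2, -1⟩, ⟨1, 0⟩, ⟨-1, 0⟩, ⟨2, -1⟩, ⟨0, 3⟩, ⟨-1, 1⟩, ⟨1, -2⟩, ⟨1, -1⟩, ⟨-1, 1⟩, 0, ⟨-2, 0⟩, ⟨2, 2⟩, ⟨-1, 0⟩, ⟨3, 1⟩, ⟨-2, 1⟩, ⟨2, 0⟩],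
  [0, 0, ⟨-1, 0⟩, 0, ⟨1, 0⟩, ⟨1, 0⟩, 0, ⟨0, -1⟩, ⟨-2, 1⟩, ⟨0, 1⟩, ⟨-2, 1⟩, ⟨1, 1⟩, ⟨-1, 0⟩, 0, ⟨-2, 1⟩, 0, ⟨1, -1⟩, 0, ⟨0, -1⟩, ⟨-1, 0⟩, ⟨-1, 1⟩, 0, ⟨1, -1⟩, ⟨0, 1⟩, ⟨-2, -1⟩, 0, ⟨-1, 1⟩, ⟨-1, 0⟩],
  [0, 0, ⟨0, -2⟩, ⟨0, -1⟩, ⟨-1, 0⟩, ⟨1, 0⟩, 0, 0, ⟨-3, -1⟩, ⟨0, 1⟩, ⟨-2, 1⟩, 0, ⟨0, 1⟩, 0, ⟨-2, 0⟩, ⟨-1, 0⟩, ⟨1, 0⟩, ⟨1, 0⟩, ⟨1, 0⟩, 0, ⟨0, 1⟩, ⟨0, -1⟩, 0, ⟨-1, -1⟩, ⟨-1, -3⟩, 0, ⟨-1, -2⟩, ⟨-2, 0⟩],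
  [0, 0, ⟨0, -1⟩, ⟨2, 0⟩, 0, ⟨1, 0⟩, 0, ⟨1, 2⟩, ⟨1, -2⟩, ⟨-1, 0⟩, ⟨-1, 1⟩, ⟨0, -2⟩, 0, ⟨0, 1⟩, ⟨0, -1⟩, ⟨1, -1⟩, ⟨-3, -1⟩, 0, ⟨0, 1⟩, ⟨0, 1⟩, ⟨1, 1⟩, 0, ⟨0, -2⟩, ⟨0, -1⟩, ⟨2, -1⟩, ⟨-1, 1⟩, ⟨1, -1⟩, ⟨1, 0⟩],
  [0, 0, ⟨1, 0⟩, ⟨0, -1⟩, ⟨-1, 0⟩, 0, 0, ⟨1, 1⟩, 0, ⟨-1, -1⟩, ⟨3, 0⟩, ⟨-1, -1⟩, 0, ⟨1, 0⟩, ⟨0, -1⟩, ⟨-1, 0⟩, ⟨2, 2⟩, ⟨1, -1⟩, 0, ⟨1, -2⟩, ⟨2, -2⟩, 0, ⟨-1, 2⟩, ⟨0, -1⟩, ⟨0, 1⟩, ⟨1, -1⟩, ⟨-1, 0⟩, ⟨0, -1⟩]]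

def X4 : Mat := [[⟨1, 1⟩, ⟨1, 1⟩, 0, ⟨1, 1⟩, 0, 0, ⟨-1, 0⟩, ⟨1, -1⟩, ⟨0, -1⟩, 0, ⟨1, -1⟩, ⟨0, 1⟩, ⟨-1, 0⟩, ⟨1, 0⟩, ⟨1, 1⟩, 0, 0, ⟨1, 1⟩, ⟨1, 1⟩, ⟨0, -1⟩, 0, ⟨1, 1⟩, 0, ⟨1, 1⟩, 0, ⟨0, -1⟩, ⟨1, 0⟩, ⟨-1, -2⟩],
  [⟨1, -1⟩, ⟨0, -1⟩, ⟨-1, -1⟩, ⟨-1, -1⟩, ⟨0, 1⟩, 0, ⟨1, 1⟩, ⟨-1, -1⟩, 0, 0, 0, ⟨0, -2⟩, ⟨1, 2⟩, ⟨-2, 0⟩, ⟨0, -1⟩, 0, ⟨-1, 0⟩, ⟨0, -2⟩, ⟨0, -1⟩, ⟨0, 1⟩, ⟨0, 1⟩, ⟨0, -1⟩, 0, ⟨-1, -1⟩, 0, ⟨-1, 1⟩, ⟨0, -1⟩, ⟨1, 2⟩],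
  [⟨1, 1⟩, ⟨2, 1⟩, ⟨1, -1⟩, ⟨1, 0⟩, 0, ⟨1, 0⟩, ⟨-1, 1⟩, ⟨2, -2⟩, ⟨0, -1⟩, ⟨0, 1⟩, ⟨1, 0⟩, 0, ⟨-2, 0⟩, 0, ⟨0, 1⟩, 0, ⟨0, -1⟩, ⟨2, 1⟩, ⟨1, 1⟩, ⟨-1, 0⟩, 0, ⟨1, 2⟩, ⟨-1, 0⟩, ⟨1, 0⟩, ⟨-1, -1⟩, ⟨-1, -1⟩, ⟨1, 0⟩, ⟨-1, -1⟩],
  [⟨0, 1⟩, ⟨-3, 0⟩, ⟨1, 4⟩, ⟨2, -1⟩, ⟨0, -4⟩, ⟨-3, 0⟩, ⟨-1, -1⟩, ⟨-2, 1⟩, ⟨-2, 2⟩, ⟨1, -2⟩, ⟨1, 0⟩, ⟨1, 4⟩, ⟨-1, -1⟩, ⟨3, -2⟩, ⟨3, 0⟩, 0, ⟨3, 2⟩, ⟨-1, 1⟩, ⟨2, 0⟩, ⟨2, -1⟩, ⟨-2, -1⟩, ⟨0, -1⟩, ⟨0, 1⟩, ⟨3, 1⟩, ⟨1, 0⟩, ⟨3, -3⟩, ⟨1, -1⟩,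 ⟨-3, 0⟩],
  [⟨-2, 1⟩, ⟨0, 1⟩, ⟨2, -1⟩, ⟨1, 0⟩, 0, ⟨2, -1⟩, ⟨0, 1⟩, ⟨3, 0⟩, ⟨1, 0⟩, ⟨-2, 1⟩, ⟨0, 3⟩, ⟨-1, -1⟩, ⟨-2, -2⟩, ⟨-1, 1⟩, ⟨-3, 1⟩, 0, ⟨0, -1⟩, ⟨0, 1⟩, ⟨-1, 1⟩, ⟨-2, 2⟩, ⟨1, 0⟩, ⟨-1, 2⟩, ⟨-2, -1⟩, ⟨0, -2⟩, ⟨0, -1⟩, ⟨-1, 0⟩, ⟨1, 1⟩, 0],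
  [⟨-1, -1⟩, ⟨-1, -2⟩, ⟨-2, 0⟩, 0, ⟨2, -1⟩, ⟨0, -2⟩, ⟨1, 0⟩, ⟨-2, 0⟩, ⟨-1, 1⟩, ⟨1, 0⟩, ⟨-1, 1⟩, ⟨-1, 1⟩, ⟨1, 0⟩, ⟨1, 1⟩, ⟨0, 1⟩, 0, ⟨0, 1⟩, ⟨-1, -1⟩, ⟨0, -1⟩, ⟨0, 1⟩, ⟨0, -1⟩, ⟨0, -1⟩, ⟨0, 1⟩, ⟨-1, 0⟩, ⟨0, 1⟩, ⟨1, 2⟩, ⟨-1, 1⟩, 0],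
  [⟨1, 1⟩, ⟨-1, -1⟩, ⟨-1, 2⟩, ⟨2, 0⟩, ⟨1, -2⟩, ⟨-1, -1⟩, ⟨0, -1⟩, ⟨-1, -1⟩, ⟨-2, 0⟩, ⟨1, -1⟩, ⟨1, 0⟩, ⟨-1, 2⟩, ⟨-1, 0⟩, ⟨3, 0⟩, ⟨2, 2⟩, 0, ⟨0, 3⟩, ⟨0, 1⟩, ⟨2, 1⟩, ⟨1, 0⟩, ⟨0, -1⟩, ⟨1, 0⟩, ⟨-1, 1⟩, ⟨2, 1⟩, ⟨0, 1⟩, ⟨2, -1⟩, ⟨1, -1⟩, ⟨-3, -2⟩],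
  [⟨-1, 0⟩, ⟨-1, 0⟩, ⟨-2, -1⟩, ⟨0, 1⟩, ⟨1, -1⟩, ⟨0, -3⟩, ⟨2, 0⟩, ⟨0, -1⟩, ⟨-1, -1⟩, ⟨1, 1⟩, ⟨1, 2⟩, ⟨-3, 1⟩, ⟨0, -1⟩, ⟨1, 4⟩, ⟨-1, 4⟩, 0, ⟨-1, 1⟩, ⟨-2, 0⟩, ⟨-1, 1⟩, ⟨2, 2⟩, ⟨1, 0⟩, ⟨1, 2⟩, ⟨-1, 1⟩, ⟨-2, 1⟩, ⟨-1, 0⟩, ⟨2, 2⟩, 0, ⟨1, -1⟩],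
  [⟨0, -1⟩, ⟨-1, 1⟩, ⟨1, 1⟩, ⟨0, -2⟩, ⟨-1, -1⟩, ⟨-1, 1⟩, 0, ⟨0, 1⟩, ⟨0, 1⟩, ⟨-1, 0⟩, 0, ⟨1, 0⟩, 0, ⟨0, -2⟩, ⟨1, -1⟩, 0, ⟨2, 0⟩, 0, ⟨0, -1⟩, 0, ⟨-1, 0⟩, 0, ⟨1, 1⟩, ⟨0, -1⟩, ⟨1, 0⟩, ⟨0, -1⟩, ⟨-1, 0⟩, ⟨-1, 3⟩],
  [⟨0, 1⟩, ⟨0, 1⟩, ⟨2, 3⟩, ⟨1, 0⟩, ⟨0, -1⟩, ⟨-1, 2⟩, ⟨-2, -1⟩, ⟨1, 1⟩, ⟨0, 1⟩, ⟨-1, -1⟩, ⟨0, -1⟩, ⟨1, 1⟩, ⟨-1, -1⟩, ⟨1, -3⟩, ⟨1, -2⟩, 0, ⟨2, 1⟩, ⟨0, 2⟩, ⟨1, 1⟩, ⟨-1, -2⟩, ⟨-1, -1⟩, ⟨-1, -1⟩, ⟨1, -1⟩, ⟨3, 1⟩, ⟨2, -1⟩, ⟨1, -3⟩, ⟨1, 1⟩, ⟨-1, -1⟩],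
  [⟨-1, 0⟩, ⟨1, -1⟩, ⟨0, 1⟩, ⟨0, 1⟩, ⟨3, 1⟩, ⟨2, 1⟩, 0, 0, 0, ⟨-1, 0⟩, ⟨-1, 0⟩, ⟨-2, -1⟩, ⟨1, -1⟩, ⟨-1, 0⟩, ⟨-2, -2⟩, 0, ⟨0, 1⟩, ⟨-1, 0⟩, ⟨0, 1⟩, ⟨-2, 0⟩, ⟨1, -1⟩, ⟨-1, -1⟩, ⟨0, -1⟩, ⟨1, 1⟩, ⟨1, -1⟩, ⟨0, 1⟩, ⟨0, 2⟩, ⟨3, -2⟩],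
  [⟨-1, 0⟩, ⟨1, 1⟩, 0, 0, ⟨0, 1⟩, 0, ⟨0, -1⟩, 0, ⟨0, 1⟩, ⟨-1, 0⟩, ⟨0, -1⟩, ⟨0, 1⟩, 0, ⟨1, -1⟩, ⟨1, -1⟩, 0, ⟨1, 0⟩, ⟨0, 1⟩, 0, ⟨-1, -1⟩, ⟨1, -1⟩, ⟨1, -1⟩, ⟨1, 0⟩, 0, ⟨1, 0⟩, ⟨-1, 0⟩, ⟨-1, 1⟩, ⟨1, 0⟩],
  [⟨-2, 1⟩, ⟨-2, 2⟩, ⟨0, 1⟩, ⟨0, 1⟩, 0, ⟨-1, 0⟩, ⟨0, -1⟩, ⟨1, 1⟩, ⟨0, 1⟩, ⟨0, -1⟩, ⟨1, 2⟩, ⟨-1, 1⟩, ⟨-1, -2⟩, ⟨2, 1⟩, ⟨0, 1⟩, 0, ⟨1, 0⟩, ⟨-2, 1⟩, ⟨-1, 1⟩, ⟨1, -1⟩, 0, ⟨0, 1⟩, ⟨-1, 0⟩, ⟨0, 1⟩, 0, ⟨1, -1⟩, ⟨-1, 1⟩, ⟨2, 0⟩],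
  [⟨-1, 1⟩, ⟨2, 0⟩, ⟨-2, -2⟩, ⟨0, 2⟩, ⟨1, 1⟩, ⟨1, -2⟩, ⟨1, 0⟩, ⟨1, -1⟩, ⟨1, -1⟩, ⟨0, 1⟩, ⟨0, 1⟩, ⟨-1, 0⟩, ⟨0, -1⟩, ⟨0, 2⟩, ⟨-1, 2⟩, 0, ⟨-2, -1⟩, ⟨0, 1⟩, ⟨-1, 1⟩, ⟨-1, 1⟩, ⟨1, 0⟩, ⟨1, 1⟩, ⟨0, -1⟩, ⟨-1, 1⟩, ⟨-1, 0⟩, ⟨0, 2⟩, ⟨1, 2⟩, ⟨2, -3⟩],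
  [⟨2, 0⟩, ⟨2, -1⟩, ⟨-2, -3⟩, ⟨0, -1⟩, 0, ⟨0, -2⟩, ⟨2, 1⟩, ⟨-1, -2⟩, ⟨0, -1⟩, ⟨1, 1⟩, ⟨1, -1⟩, 0, ⟨0, 3⟩, ⟨1, 1⟩, ⟨1, 2⟩, 0, ⟨-2, 0⟩, ⟨1, -1⟩, ⟨1, -1⟩, ⟨1, 1⟩, ⟨1, 0⟩, ⟨2, 0⟩, ⟨0, 2⟩, ⟨-2, -1⟩, ⟨-1, 1⟩, ⟨-1, 2⟩, ⟨0, -1⟩, ⟨-1, 0⟩],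
  [⟨1, 1⟩, ⟨1, 0⟩, ⟨-1, -1⟩, 0, ⟨0, 1⟩, 0, 0, ⟨1, 0⟩, ⟨1, -1⟩, 0, 0, ⟨1, -1⟩, ⟨0, 1⟩, 0, 0, 0, ⟨-1, 0⟩, ⟨1, 0⟩, 0, 0, 0, 0, 0, ⟨-1, 0⟩, 0, ⟨0, 1⟩, 0, ⟨0, -1⟩],
  [⟨1, 0⟩, ⟨2, -1⟩, ⟨-1, -1⟩, ⟨-1, 0⟩, ⟨0, 1⟩, 0, 0, ⟨0, -1⟩, ⟨1, -1⟩, ⟨0, 1⟩, ⟨0, -1⟩, ⟨0, -1⟩, ⟨1, 1⟩, ⟨-2, 0⟩, ⟨0, -1⟩, 0, ⟨-1, 0⟩, ⟨1, 0⟩, 0, ⟨0, 1⟩, 0, ⟨0, -1⟩, ⟨1, -1⟩, ⟨-1, 0⟩, ⟨0, -1⟩, ⟨0, 1⟩, ⟨1, 0⟩, ⟨1, -1⟩],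
  [⟨-1, 3⟩, ⟨-2, 2⟩, ⟨1, 0⟩, ⟨2, 1⟩, ⟨0, -2⟩, ⟨0, -2⟩, 0, ⟨2, 0⟩, 0, 0, ⟨2, 3⟩, ⟨-1, 2⟩, ⟨-3, -2⟩, ⟨2, 2⟩, ⟨-1, 4⟩, 0, 0, ⟨-1, 2⟩, ⟨0, 2⟩, ⟨1, 1⟩, 0, ⟨0, 3⟩, ⟨-3, 0⟩, ⟨1, 0⟩, ⟨-1, 0⟩, ⟨1, -1⟩, ⟨2, 0⟩, ⟨-1, -2⟩],
  [⟨2, -2⟩, ⟨2, -1⟩, ⟨1, 0⟩, ⟨-1, 0⟩, ⟨0, 2⟩, ⟨1, 3⟩, ⟨-2, 0⟩, 0, ⟨1, -2⟩, ⟨-1, 1⟩, ⟨-2, -3⟩, ⟨1, -2⟩, ⟨2, 1⟩, ⟨-3, -3⟩, ⟨0, -4⟩, 0, ⟨1, -1⟩, ⟨3, -1⟩, ⟨0, -1⟩, ⟨-2, -1⟩, ⟨-1, 0⟩, ⟨-1, -1⟩, ⟨2, -1⟩, 0, ⟨1, -1⟩, ⟨-2, 0⟩, 0, ⟨-1, 1⟩],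
  [0, ⟨-2, -1⟩, ⟨-2, 2⟩, 0, ⟨0, -1⟩, ⟨-3, 0⟩, ⟨1, -1⟩, ⟨-3, 1⟩, ⟨-1, 2⟩, ⟨1, -2⟩, 0, ⟨1, 1⟩, ⟨1, 0⟩, ⟨2, 0⟩, ⟨2, 0⟩, 0, ⟨0, 2⟩, ⟨-2, 0⟩, ⟨0, -1⟩, ⟨2, -1⟩, 0, ⟨0, -2⟩, ⟨0, 1⟩, ⟨0, 1⟩, ⟨0, 1⟩, ⟨2, 0⟩, ⟨-1, -1⟩, 0],
  [⟨1, -1⟩, ⟨1, 1⟩, ⟨1, 0⟩, ⟨-1, 0⟩, ⟨-2, 1⟩, ⟨0, 1⟩, ⟨-1, -1⟩, ⟨1, 0⟩, ⟨1, -1⟩, ⟨-1, 1⟩, ⟨0, -2⟩, ⟨1, 0⟩, 0, ⟨-1, -1⟩, ⟨0, -1⟩, 0, ⟨1, -1⟩, ⟨2, 1⟩, 0, ⟨0, -1⟩, 0, 0, ⟨1, -1⟩, 0, ⟨0, -1⟩, ⟨-1, -1⟩, ⟨0, -1⟩, ⟨-1, 0⟩],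
  [⟨-2, -1⟩, ⟨-1, 0⟩, ⟨2, 0⟩, 0, ⟨1, 1⟩, ⟨2, 1⟩, ⟨-1, 1⟩, ⟨2, 1⟩, 0, ⟨-1, 1⟩, ⟨-2, 2⟩, ⟨-1, -2⟩, ⟨0, -2⟩, ⟨-2, 0⟩, ⟨-3, -1⟩, 0, ⟨1, -1⟩, ⟨0, -1⟩, ⟨-1, 0⟩, ⟨-2, 1⟩, 0, ⟨-2, 1⟩, ⟨-1, -1⟩, ⟨0, -1⟩, ⟨0, -1⟩, ⟨-1, 0⟩, ⟨-1, 1⟩, ⟨0, 2⟩],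
  [⟨-1, 2⟩, ⟨2, 3⟩, ⟨1, 0⟩, ⟨0, 1⟩, ⟨-1, 2⟩, ⟨0, 2⟩, ⟨-1, -1⟩, ⟨3, 1⟩, ⟨2, 0⟩, ⟨-2, 0⟩, ⟨1, 0⟩, ⟨1, -1⟩, ⟨-1, -1⟩, ⟨0, -1⟩, ⟨0, -1⟩, 0, ⟨0, -1⟩, ⟨0, 3⟩, ⟨-1, 2⟩, ⟨-1, -2⟩, ⟨1, 0⟩, 0, ⟨1, -1⟩, ⟨0, 1⟩, ⟨1, -1⟩, ⟨0, -1⟩, ⟨0, 2⟩, ⟨3, -2⟩],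
  [⟨-2, -1⟩, ⟨-2, 0⟩, ⟨-2, 1⟩, ⟨-2, 1⟩, 0, ⟨-1, 0⟩, ⟨2, -1⟩, ⟨-2, 2⟩, ⟨0, 2⟩, ⟨1, -2⟩, ⟨0, 1⟩, ⟨-1, 0⟩, ⟨2, -1⟩, ⟨1, 2⟩, 0, 0, ⟨-1, 1⟩, ⟨-4, 0⟩, ⟨-2, 0⟩, ⟨2, -1⟩, ⟨1, 1⟩, ⟨0, -1⟩, ⟨1, 0⟩, ⟨-1, 2⟩, ⟨0, 1⟩, ⟨2, 1⟩, ⟨-2, 1⟩, ⟨5, 0⟩],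
  [0, ⟨-2, -1⟩, ⟨-1, 2⟩, ⟨1, 0⟩, ⟨1, -1⟩, ⟨-1, 0⟩, 0, ⟨-2, 0⟩, ⟨-2, 1⟩, ⟨1, -2⟩, 0, ⟨0, 1⟩, 0, ⟨2, 0⟩, ⟨1, 0⟩, ⟨0, -1⟩, ⟨0, 2⟩, ⟨-1, -1⟩, ⟨1, 0⟩, ⟨1, -1⟩, 0, ⟨0, -1⟩, ⟨-1, 0⟩, ⟨2, 1⟩, ⟨0, 1⟩, ⟨1, -1⟩, ⟨0, -1⟩, ⟨-1, 0⟩],
  [⟨0, -2⟩, ⟨-1, -3⟩, ⟨-1, 1⟩, ⟨1, 1⟩, ⟨2, -1⟩, ⟨2, -2⟩, 0, 0, ⟨-1, -2⟩, ⟨0, 1⟩, ⟨-2, 1⟩, ⟨-2, 0⟩, ⟨1, -2⟩, ⟨-1, 2⟩, ⟨-2, 1⟩, 0, ⟨0, 1⟩, ⟨1, -1⟩, 0, ⟨-1, 2⟩, ⟨0, -1⟩, ⟨-1, 1⟩, ⟨-1, -2⟩, ⟨1, 0⟩, ⟨-1, 0⟩, ⟨1, 1⟩, ⟨1, 0⟩, ⟨-3, -2⟩],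
  [⟨-1, -2⟩, ⟨1, 1⟩, ⟨2, -2⟩, ⟨-1, 1⟩, ⟨-1, 2⟩, ⟨3, 1⟩, ⟨-1, 1⟩, ⟨2, 2⟩, ⟨2, -1⟩, ⟨-2, 1⟩, ⟨-3, 0⟩, ⟨1, -2⟩, ⟨1, -1⟩, ⟨-4, 0⟩, ⟨-3, -2⟩, 0, ⟨0, -3⟩, ⟨1, 0⟩, ⟨-2, -1⟩, ⟨-3, 0⟩, ⟨0, 1⟩, ⟨-2, 1⟩, ⟨1, -2⟩, ⟨-1, -2⟩, ⟨0, -1⟩, ⟨-3, 1⟩, ⟨-1, 1⟩, ⟨1, 1⟩],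
  [⟨-1, 2⟩, ⟨0, 1⟩, ⟨0, -1⟩, ⟨1, 1⟩, ⟨0, -1⟩, ⟨0, -2⟩, 0, ⟨1, -1⟩, ⟨0, -1⟩, ⟨1, 1⟩, ⟨2, 1⟩, ⟨-1, 2⟩, ⟨-2, -1⟩, ⟨1, 2⟩, ⟨0, 3⟩, 0, ⟨-1, -1⟩, ⟨0, 1⟩, ⟨0, 2⟩, ⟨1, 1⟩, 0, ⟨1, 2⟩, ⟨-1, 0⟩, ⟨0, 1⟩, ⟨-1, 0⟩, ⟨1, 0⟩, ⟨2, 0⟩, ⟨0, -2⟩]]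

def M0 : Mat := [[⟨1, 0⟩, 0, 0, ⟨0, -1⟩, ⟨1, -1⟩, ⟨1, -1⟩, 0, ⟨1, 0⟩, ⟨-1, -1⟩, ⟨0, 1⟩, ⟨-1, 0⟩, 0, ⟨1, 0⟩, 0, ⟨-1, 0⟩, ⟨-1, 0⟩, ⟨-1, 1⟩, 0, ⟨1, -1⟩, 0, 0, ⟨-1, 1⟩, ⟨-1, -1⟩, 0, ⟨0, -1⟩, ⟨0, 1⟩, ⟨0, -1⟩, ⟨-1, -1⟩],
  [0, ⟨1, 1⟩, 0, ⟨0, 1⟩, ⟨-2, 1⟩, ⟨-1, 0⟩, 0, 0, ⟨0, 1⟩, ⟨0, -1⟩, ⟨1, 1⟩, 0, ⟨-1, 0⟩, 0, ⟨1, 1⟩, ⟨0, 1⟩, ⟨1, 0⟩, 0, ⟨-1, 1⟩, 0, ⟨1, 0⟩, ⟨1, 0⟩, ⟨1, 1⟩, 0, 0, ⟨1, -1⟩, ⟨-1, 0⟩, ⟨0, 2⟩],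
  [0, ⟨0, 1⟩, 0, ⟨-1, -1⟩, ⟨-1, -1⟩, ⟨1, -1⟩, 0, ⟨1, 0⟩, ⟨-2, -1⟩, ⟨1, 1⟩, ⟨-1, 0⟩, 0, ⟨1, 0⟩, 0, ⟨-1, 1⟩, ⟨-2, 0⟩, ⟨-1, 1⟩, 0, ⟨1, 0⟩, 0, ⟨0, 1⟩, ⟨0, 1⟩, ⟨-1, 0⟩, 0, ⟨0, -1⟩, ⟨1, 1⟩, ⟨0, -2⟩, ⟨-1, -1⟩],
  [0, ⟨0, -1⟩, ⟨-2, 0⟩, ⟨2, 0⟩, ⟨4, -1⟩, ⟨0, 1⟩, 0, ⟨0, -1⟩, ⟨0, -3⟩, ⟨0, 1⟩, ⟨-1, -2⟩, 0, ⟨2, 0⟩, ⟨0, -2⟩, ⟨0, -1⟩, ⟨1, -2⟩, ⟨-3, 0⟩, 0, ⟨1, -1⟩, 0, 0, ⟨-1, 0⟩, ⟨-2, -1⟩, ⟨0, 1⟩, ⟨1, 0⟩, ⟨-3, 3⟩, ⟨3, 0⟩, ⟨0, -2⟩],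
  [0, ⟨-2, 1⟩, ⟨-1, -1⟩, ⟨-2, 0⟩, ⟨-2, 0⟩, ⟨1, 0⟩, 0, ⟨0, 1⟩, ⟨0, -1⟩, 0, ⟨0, -1⟩, 0, 0, ⟨-1, 1⟩, ⟨-1, 0⟩, ⟨-1, -1⟩, ⟨0, -1⟩, 0, ⟨-1, 2⟩, 0, ⟨-2, 2⟩, ⟨1, 0⟩, ⟨2, 0⟩, ⟨-1, 1⟩, ⟨1, 1⟩, ⟨1, 0⟩, ⟨1, 0⟩, ⟨1, -1⟩],
  [0, ⟨0, -1⟩, ⟨-1, 0⟩, ⟨0, 2⟩, ⟨2, 2⟩, ⟨-1, 1⟩, 0, ⟨-1, -1⟩, ⟨2, 1⟩, ⟨0, -1⟩, ⟨1, 0⟩, 0, ⟨-1, 0⟩, ⟨1, 0⟩, ⟨1, 0⟩, ⟨3, 0⟩, ⟨1, -2⟩, 0, 0, 0, 0, ⟨0, -2⟩, ⟨1, 0⟩, ⟨0, 1⟩, ⟨0, 1⟩, ⟨-1, -2⟩, ⟨0, 3⟩, ⟨1, 0⟩],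
  [0, ⟨1, 0⟩, ⟨-2, -2⟩, ⟨0, 2⟩, ⟨3, 2⟩, ⟨-1, 0⟩, 0, ⟨1, -1⟩, ⟨1, -2⟩, ⟨0, 2⟩, ⟨-1, -2⟩, ⟨-1, 0⟩, ⟨2, -1⟩, ⟨1, 1⟩, ⟨-1, 0⟩, ⟨1, 1⟩, ⟨-1, -1⟩, 0, ⟨1, 0⟩, 0, 0, ⟨0, 1⟩, ⟨-1, -2⟩, ⟨-1, 2⟩, ⟨0, -1⟩, ⟨-2, 1⟩, ⟨0, 1⟩, ⟨1, -2⟩],
  [0, ⟨1, 1⟩, ⟨-1, 0⟩, ⟨-1, 2⟩, ⟨0, 4⟩, ⟨0, 1⟩, 0, ⟨1, -1⟩, 0, ⟨-1, 0⟩, ⟨0, -2⟩, 0, ⟨0, 1⟩, ⟨0, 1⟩, ⟨0, -1⟩, ⟨1, 1⟩, ⟨0, -2⟩, 0, ⟨2, 1⟩, 0, ⟨0, 2⟩, ⟨1, -2⟩, ⟨2, -2⟩, ⟨-1, 1⟩, ⟨1, -1⟩, ⟨-2, -2⟩, ⟨0, 1⟩, ⟨2, -1⟩],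
  [0, 0, ⟨-2, 2⟩, ⟨2, 0⟩, ⟨1, -2⟩, ⟨0, 2⟩, 0, ⟨-1, -1⟩, ⟨-1, -1⟩, ⟨1, 0⟩, ⟨-1, 1⟩, 0, ⟨-1, 0⟩, ⟨1, -1⟩, ⟨0, 1⟩, ⟨1, -2⟩, ⟨-1, 0⟩, 0, 0, 0, ⟨0, 1⟩, ⟨1, -1⟩, ⟨-2, 0⟩, ⟨2, 0⟩, ⟨-1, 0⟩, ⟨0, 1⟩, ⟨2, 0⟩, ⟨-1, -1⟩],
  [0, ⟨-1, -1⟩, 0, ⟨2, -3⟩, ⟨2, -3⟩, ⟨2, 0⟩, 0, ⟨0, 1⟩, ⟨0, -2⟩, ⟨0, 1⟩, 0, 0, ⟨2, 1⟩, ⟨0, -2⟩, 0, ⟨-1, -3⟩, ⟨-2, 1⟩, 0, ⟨0, -1⟩, 0, ⟨0, -1⟩, ⟨-2, 1⟩, ⟨-2, 0⟩, ⟨0, -1⟩, ⟨0, 1⟩, ⟨-1, 3⟩, ⟨2, -1⟩, ⟨-1, -1⟩],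
  [0, ⟨0, -1⟩, ⟨1, -1⟩, ⟨1, -2⟩, ⟨0, 1⟩, ⟨1, 0⟩, 0, ⟨0, 2⟩, ⟨2, 0⟩, ⟨-1, 0⟩, ⟨3, 0⟩, 0, ⟨1, 2⟩, ⟨0, -1⟩, ⟨2, 0⟩, ⟨0, -1⟩, ⟨1, -1⟩, 0, ⟨0, 1⟩, 0, ⟨0, -2⟩, ⟨-1, -1⟩, ⟨1, 1⟩, ⟨-1, -2⟩, ⟨0, 2⟩, ⟨0, -1⟩, ⟨0, 1⟩, ⟨1, 0⟩],
  [0, ⟨0, -1⟩, ⟨0, 2⟩, ⟨2, 0⟩, ⟨2, 0⟩, ⟨1, 1⟩, ⟨-1, 0⟩, ⟨-1, 0⟩, ⟨0, 1⟩, 0, ⟨0, 2⟩, 0, ⟨-1, 0⟩, ⟨1, 0⟩, ⟨0, 1⟩, ⟨1, -1⟩, 0, 0, 0, 0, ⟨1, 0⟩, ⟨-1, -2⟩, ⟨-1, 0⟩, ⟨1, 0⟩, ⟨-1, 1⟩, ⟨1, 0⟩, ⟨0, 1⟩, ⟨-1, -1⟩],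
  [0, ⟨0, -1⟩, ⟨-1, 0⟩, ⟨1, 1⟩, ⟨2, 2⟩, ⟨1, 2⟩, 0, ⟨-1, 0⟩, ⟨1, -1⟩, ⟨-1, 0⟩, ⟨-1, -1⟩, 0, ⟨0, 1⟩, 0, ⟨-1, -1⟩, ⟨2, -1⟩, ⟨-1, -1⟩, 0, ⟨1, 1⟩, 0, ⟨0, 1⟩, ⟨0, -3⟩, ⟨1, -1⟩, ⟨0, 1⟩, ⟨1, 0⟩, ⟨-1, 1⟩, ⟨1, 1⟩, ⟨2, -2⟩],
  [0, ⟨-1, 0⟩, ⟨2, 0⟩, ⟨-1, 0⟩, ⟨0, 1⟩, ⟨1, -1⟩, 0, ⟨0, 1⟩, ⟨1, 1⟩, ⟨-1, 0⟩, ⟨1, 0⟩, 0, ⟨0, 1⟩, ⟨0, 1⟩, ⟨0, -1⟩, 0, ⟨1, -1⟩, 0, 0, 0, 0, ⟨-2, -1⟩, ⟨2, -1⟩, ⟨-1, 0⟩, ⟨1, 0⟩, ⟨0, -2⟩, ⟨0, 1⟩, 0],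
  [0, ⟨1, 1⟩, ⟨0, 1⟩, ⟨-1, 2⟩, ⟨0, 1⟩, ⟨-1, -1⟩, 0, ⟨0, -1⟩, ⟨-1, 2⟩, ⟨1, 0⟩, ⟨-1, 1⟩, 0, ⟨-1, -1⟩, ⟨1, 2⟩, ⟨0, 1⟩, ⟨0, 2⟩, ⟨1, 0⟩, 0, ⟨1, -1⟩, 0, ⟨1, 1⟩, 0, ⟨0, -1⟩, ⟨1, 1⟩, ⟨-1, -2⟩, ⟨1, -2⟩, ⟨-2, 0⟩, ⟨-1, 0⟩],
  [0, ⟨0, 1⟩, ⟨1, 0⟩, 0, ⟨0, -1⟩, 0, 0, ⟨0, 1⟩, ⟨1, 0⟩, ⟨0, 1⟩, 0, 0, ⟨-1, 0⟩, ⟨1, 1⟩, ⟨-1, 0⟩, 0, ⟨0, -1⟩, 0, 0, 0, 0, ⟨-1, 1⟩, ⟨0, -1⟩, ⟨1, 0⟩, ⟨0, -1⟩, ⟨0, -1⟩, 0, 0],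
  [0, ⟨0, 1⟩, ⟨2, 1⟩, ⟨0, -2⟩, ⟨-1, -1⟩, ⟨1, -1⟩, 0, ⟨1, 1⟩, ⟨0, 1⟩, 0, ⟨2, 1⟩, 0, ⟨0, 1⟩, ⟨0, -1⟩, ⟨1, 0⟩, ⟨-2, 0⟩, 0, 0, 0, 0, ⟨1, -1⟩, ⟨-2, 1⟩, 0, ⟨0, -1⟩, 0, ⟨0, -1⟩, ⟨0, -1⟩, ⟨-1, 2⟩],
  [0, ⟨-1, 1⟩, ⟨-2, -2⟩, ⟨-2, 2⟩, ⟨1, 2⟩, 0, 0, ⟨1, 0⟩, ⟨0, -3⟩, ⟨-1, 1⟩, ⟨-2, -4⟩, 0, ⟨2, -1⟩, ⟨-1, 2⟩, ⟨-2, -2⟩, 0, ⟨-1, -1⟩, 0, ⟨1, 1⟩, ⟨0, -1⟩, ⟨-2, 2⟩, 0, ⟨2, -2⟩, ⟨-2, 3⟩, ⟨3, -1⟩, ⟨-1, 1⟩, ⟨1, 0⟩, ⟨2, -3⟩],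
  [0, 0, ⟨2, 1⟩, ⟨1, -3⟩, ⟨-2, -5⟩, ⟨0, -1⟩, 0, ⟨1, 1⟩, ⟨-1, 0⟩, ⟨2, 0⟩, ⟨1, 3⟩, 0, ⟨-1, 0⟩, ⟨1, -2⟩, ⟨1, 2⟩, ⟨-2, 0⟩, ⟨0, 2⟩, 0, ⟨-1, -1⟩, 0, ⟨0, -2⟩, ⟨0, 3⟩, ⟨-3, 2⟩, ⟨2, -3⟩, ⟨-2, 1⟩, ⟨2, 0⟩, ⟨0, -1⟩, ⟨-3, 2⟩],
  [0, ⟨1, -1⟩, ⟨0, -1⟩, ⟨1, 2⟩, ⟨3, 2⟩, ⟨-1, 1⟩, 0, ⟨-1, -1⟩, ⟨2, 1⟩, ⟨-1, 0⟩, ⟨0, -1⟩, 0, 0, 0, ⟨0, -1⟩, ⟨3, 0⟩, ⟨0, -1⟩, ⟨0, 1⟩, 0, 0, ⟨1, -1⟩, ⟨-1, -1⟩, ⟨1, -1⟩, ⟨0, 2⟩, ⟨0, -1⟩, ⟨-2, 0⟩, ⟨0, 2⟩, ⟨2, 0⟩],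
  [0, 0, ⟨1, 1⟩, ⟨0, -2⟩, ⟨-1, -3⟩, ⟨1, -1⟩, 0, ⟨1, 0⟩, ⟨-2, 0⟩, ⟨1, 0⟩, ⟨-1, 1⟩, 0, ⟨0, -1⟩, 0, ⟨-1, 0⟩, ⟨-2, 0⟩, ⟨-1, 2⟩, 0, ⟨0, -1⟩, 0, 0, ⟨0, 2⟩, ⟨-2, 0⟩, ⟨1, -1⟩, ⟨-1, 0⟩, ⟨1, 1⟩, ⟨0, -2⟩, ⟨-2, 0⟩],
  [0, ⟨-1, 0⟩, ⟨-1, -1⟩, ⟨-1, -1⟩, ⟨-3, -1⟩, ⟨0, 1⟩, 0, 0, ⟨0, -1⟩, ⟨1, -1⟩, ⟨1, 0⟩, 0, ⟨-1, 1⟩, ⟨0, -1⟩, ⟨0, 1⟩, ⟨0, -1⟩, 0, 0, ⟨-1, 2⟩, 0, ⟨-2, 1⟩, ⟨3, 0⟩, ⟨0, 2⟩, ⟨0, -1⟩, ⟨0, 2⟩, ⟨1, 0⟩, ⟨1, 0⟩, ⟨1, 0⟩],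
  [0, ⟨-1, 0⟩, ⟨2, 1⟩, ⟨2, -2⟩, ⟨1, -2⟩, ⟨3, 0⟩, 0, ⟨-1, 2⟩, 0, ⟨-1, 1⟩, ⟨0, 1⟩, 0, ⟨0, 2⟩, 0, ⟨-1, 0⟩, ⟨-1, -3⟩, ⟨-1, 0⟩, 0, 0, 0, ⟨1, 0⟩, ⟨-3, -1⟩, ⟨0, -1⟩, ⟨1, -1⟩, 0, ⟨0, 1⟩, ⟨2, -1⟩, ⟨-1, -1⟩],
  [0, ⟨1, -2⟩, ⟨1, 0⟩, ⟨1, 1⟩, ⟨2, 4⟩, ⟨1, 2⟩, 0, ⟨-2, 0⟩, ⟨2, 2⟩, ⟨-2, -1⟩, ⟨1, -1⟩, 0, ⟨0, 2⟩, ⟨-1, 0⟩, ⟨1, -2⟩, ⟨3, 0⟩, ⟨1, -2⟩, 0, ⟨1, 0⟩, 0, ⟨1, -1⟩, ⟨-1, -4⟩, ⟨3, 0⟩, ⟨-1, 0⟩, 0, ⟨-2, -1⟩, ⟨-1, 2⟩, ⟨3, 0⟩],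
  [0, ⟨1, -1⟩, ⟨-1, -2⟩, ⟨0, 1⟩, ⟨1, 2⟩, ⟨-1, 0⟩, 0, ⟨0, -1⟩, ⟨1, 0⟩, 0, ⟨0, -1⟩, 0, ⟨1, 0⟩, 0, 0, ⟨2, 1⟩, 0, 0, 0, 0, ⟨0, -1⟩, ⟨1, 0⟩, 0, ⟨-1, 1⟩, 0, ⟨-1, 1⟩, ⟨-1, 1⟩, ⟨2, 0⟩],
  [0, 0, ⟨0, -3⟩, ⟨-3, 0⟩, ⟨-2, 0⟩, ⟨-2, -1⟩, 0, ⟨2, -1⟩, ⟨1, -1⟩, ⟨1, 0⟩, ⟨1, -2⟩, 0, ⟨1, -1⟩, 0, ⟨0, -1⟩, ⟨0, 2⟩, ⟨0, -1⟩, 0, ⟨-1, 0⟩, 0, ⟨-3, 0⟩, ⟨2, 3⟩, 0, ⟨-2, 0⟩, ⟨0, 1⟩, ⟨-1, -1⟩, ⟨0, 1⟩, ⟨1, 1⟩],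
  [0, ⟨-2, 0⟩, ⟨1, 1⟩, ⟨-1, -2⟩, ⟨-3, -3⟩, 0, 0, 0, ⟨-1, 1⟩, ⟨0, -1⟩, ⟨1, 2⟩, 0, ⟨-2, -1⟩, ⟨-1, 0⟩, 0, ⟨-1, 0⟩, ⟨2, 1⟩, 0, ⟨-2, 0⟩, 0, ⟨-2, 0⟩, ⟨1, 1⟩, ⟨1, 2⟩, ⟨0, -1⟩, ⟨0, 1⟩, ⟨3, -1⟩, 0, ⟨-1, 2⟩],
  [0, ⟨-1, 1⟩, 0, ⟨-1, 1⟩, ⟨0, 1⟩, ⟨1, -1⟩, 0, ⟨1, 0⟩, ⟨-1, -1⟩, ⟨-1, 0⟩, ⟨-1, -1⟩, 0, ⟨1, 0⟩, ⟨-1, 1⟩, ⟨-1, -1⟩, ⟨-1, 0⟩, ⟨-1, 0⟩, 0, ⟨1, 0⟩, 0, ⟨0, 2⟩, ⟨-1, 0⟩, ⟨1, -2⟩, ⟨-1, 1⟩, ⟨2, -1⟩, ⟨-1, 0⟩, ⟨1, -1⟩, ⟨0, -1⟩]]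

def M1 : Mat := [[⟨1, 0⟩, 0, 0, ⟨0, -1⟩, ⟨1, 0⟩, 0, 0, ⟨0, -2⟩, 0, ⟨-1, 1⟩, ⟨1, 0⟩, ⟨-1, 1⟩, 0, ⟨-1, 0⟩, ⟨0, -1⟩, 0, ⟨1, 1⟩, ⟨0, 1⟩, 0, 0, 0, ⟨-1, 0⟩, ⟨-1, -1⟩, ⟨-1, 0⟩, ⟨1, -1⟩, ⟨-1, 0⟩, ⟨1, -1⟩, ⟨0, 1⟩],
  [0, ⟨0, -1⟩, 0, ⟨-1, 0⟩, ⟨0, -1⟩, ⟨1, 0⟩, ⟨0, 1⟩, ⟨-1, 1⟩, 0, ⟨2, 0⟩, ⟨-1, 0⟩, ⟨1, -1⟩, ⟨0, 1⟩, 0, ⟨0, 1⟩, 0, 0, ⟨1, -1⟩, ⟨1, -1⟩, 0, 0, 0, ⟨0, 1⟩, ⟨1, 0⟩, ⟨-1, 0⟩, ⟨1, 0⟩, ⟨-1, 1⟩, ⟨0, -1⟩],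
  [0, ⟨1, 0⟩, ⟨1, 0⟩, ⟨0, -1⟩, ⟨1, 0⟩, ⟨0, 1⟩, ⟨-1, 0⟩, ⟨0, -2⟩, 0, ⟨-1, 2⟩, ⟨1, 0⟩, 0, ⟨-1, 0⟩, ⟨-1, 0⟩, 0, 0, ⟨1, 1⟩, ⟨1, 1⟩, 0, ⟨0, -1⟩, 0, ⟨-1, 0⟩, ⟨-1, 0⟩, ⟨-1, 0⟩, ⟨1, 0⟩, 0, 0, ⟨0, 1⟩],
  [0, ⟨-2, 3⟩, 0, ⟨1, 0⟩, ⟨1, 1⟩, ⟨-1, -2⟩, ⟨0, -2⟩, ⟨1, 2⟩, 0, ⟨-2, 2⟩, ⟨-1, -1⟩, ⟨1, 3⟩, ⟨0, -1⟩, ⟨3, 2⟩, ⟨-4, -2⟩, 0, ⟨2, -4⟩, ⟨-1, 0⟩, ⟨-1, 1⟩, ⟨0, -1⟩, ⟨0, -1⟩, ⟨-1, -1⟩, ⟨-2, -3⟩, ⟨-1, 1⟩, ⟨1, -2⟩, ⟨-3, 1⟩, ⟨0, -2⟩, ⟨-1, -1⟩],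
  [0, ⟨2, -1⟩, 0, ⟨1, -1⟩, ⟨0, 2⟩, ⟨0, 1⟩, ⟨-1, 0⟩, ⟨2, -1⟩, ⟨1, 0⟩, ⟨-2, 0⟩, ⟨2, 1⟩, ⟨0, -2⟩, ⟨-2, 0⟩, 0, ⟨1, 1⟩, 0, ⟨-2, 1⟩, ⟨1, 1⟩, ⟨0, 2⟩, ⟨1, 0⟩, 0, ⟨1, -1⟩, ⟨2, 0⟩, ⟨-1, 0⟩, ⟨0, 3⟩, ⟨2, -1⟩, ⟨-1, 2⟩, 0],
  [0, ⟨-1, 0⟩, 0, ⟨0, 1⟩, ⟨-1, 1⟩, ⟨1, -1⟩, ⟨1, 0⟩, ⟨-1, 2⟩, ⟨1, 0⟩, ⟨-1, -1⟩, ⟨1, -1⟩, ⟨-1, 0⟩, ⟨1, 1⟩, ⟨0, 1⟩, ⟨1, -1⟩, 0, ⟨0, -1⟩, ⟨-1, -1⟩, ⟨-1, 1⟩, ⟨0, 1⟩, ⟨1, 0⟩, ⟨1, 0⟩, ⟨2, -1⟩, 0, ⟨1, 1⟩, ⟨-1, -1⟩, ⟨1, 1⟩, ⟨2, 0⟩],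
  [0, ⟨-3, -1⟩, 0, ⟨0, -1⟩, ⟨0, 1⟩, ⟨1, -2⟩, ⟨1, -1⟩, ⟨-1, 1⟩, ⟨1, 1⟩, ⟨-2, 0⟩, ⟨1, -1⟩, ⟨-2, 3⟩, 0, ⟨0, 2⟩, ⟨-1, -3⟩, 0, ⟨3, 0⟩, 0, ⟨0, 1⟩, ⟨0, 1⟩, ⟨1, -1⟩, ⟨-1, -1⟩, ⟨1, -4⟩, 0, ⟨2, -1⟩, ⟨-2, -2⟩, ⟨1, -2⟩, 0],
  [0, ⟨-1, -2⟩, ⟨1, 0⟩, 0, ⟨0, 1⟩, ⟨1, 0⟩, ⟨0, 1⟩, ⟨1, 0⟩, ⟨1, 0⟩, ⟨-1, -1⟩, ⟨2, 0⟩, ⟨-2, -2⟩, ⟨-1, 2⟩, 0, ⟨2, -1⟩, 0, 0, ⟨0, -1⟩, ⟨0, 1⟩, ⟨-1, -1⟩, ⟨-1, 0⟩, ⟨-1, -1⟩, ⟨3, -1⟩, 0, ⟨2, 2⟩, ⟨0, -4⟩, ⟨2, 3⟩, 0],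
  [0, ⟨-1, 3⟩, ⟨0, 1⟩, ⟨-1, 1⟩, ⟨1, 0⟩, ⟨-2, -1⟩, ⟨-1, -1⟩, ⟨1, 1⟩, ⟨1, -1⟩, ⟨-1, 1⟩, ⟨-1, -1⟩, ⟨3, 1⟩, ⟨0, -1⟩, ⟨1, 0⟩, ⟨-2, 1⟩, 0, ⟨0, -2⟩, 0, ⟨1, -1⟩, ⟨1, -1⟩, ⟨-1, -1⟩, ⟨-1, 1⟩, ⟨-3, -1⟩, ⟨1, 0⟩, ⟨-1, -1⟩, ⟨-1, 1⟩, ⟨-2, 0⟩, ⟨0, -1⟩],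
  [0, ⟨0, 3⟩, 0, ⟨1, 0⟩, 0, ⟨-2, -1⟩, ⟨1, -2⟩, ⟨1, 0⟩, ⟨-1, 0⟩, ⟨-2, 1⟩, ⟨-1, 0⟩, ⟨1, 2⟩, ⟨0, -2⟩, ⟨1, 1⟩, ⟨-2, -1⟩, 0, ⟨1, -1⟩, ⟨-1, 1⟩, ⟨-1, -1⟩, ⟨1, 0⟩, 0, ⟨1, 0⟩, ⟨-2, -1⟩, ⟨-1, -1⟩, ⟨0, -1⟩, ⟨-2, 2⟩, ⟨0, -2⟩, ⟨-1, 0⟩],
  [0, ⟨1, 1⟩, 0, ⟨1, 1⟩, ⟨-2, 0⟩, ⟨0, -1⟩, ⟨2, 0⟩, ⟨0, 1⟩, ⟨-1, 1⟩, ⟨-1, -2⟩, ⟨0, 1⟩, ⟨0, -1⟩, ⟨0, -1⟩, ⟨0, 1⟩, ⟨2, 0⟩, 0, ⟨1, 0⟩, ⟨-1, -1⟩, ⟨-3, -2⟩, 0, ⟨1, 0⟩, ⟨3, 0⟩, ⟨2, 2⟩, ⟨-1, -2⟩, ⟨0, 3⟩, 0, ⟨0, 2⟩, ⟨-1, 1⟩],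
  [0, ⟨0, 2⟩, 0, ⟨0, 1⟩, 0, ⟨-1, -1⟩, ⟨1, 1⟩, ⟨0, -1⟩, ⟨0, -1⟩, ⟨-1, 0⟩, ⟨1, -1⟩, 0, ⟨1, 1⟩, 0, ⟨1, 1⟩, 0, ⟨-1, 0⟩, ⟨-1, -1⟩, ⟨0, -1⟩, ⟨0, 1⟩, ⟨0, 1⟩, ⟨1, 2⟩, ⟨-1, 0⟩, ⟨0, -1⟩, ⟨0, 1⟩, ⟨-2, 0⟩, ⟨1, 1⟩, ⟨0, 1⟩],
  [0, ⟨-1, 1⟩, 0, ⟨1, 0⟩, ⟨0, 1⟩, ⟨1, -1⟩, ⟨0, 1⟩, ⟨2, 0⟩, 0, ⟨-2, -1⟩, ⟨1, 1⟩, ⟨-1, -1⟩, ⟨0, 1⟩, ⟨1, 0⟩, ⟨0, 1⟩, 0, ⟨-1, -1⟩, ⟨-1, -1⟩, 0, ⟨-1, 0⟩, ⟨0, 1⟩, 0, ⟨1, -1⟩, ⟨0, -1⟩, ⟨0, 2⟩, ⟨-1, -2⟩, ⟨0, 2⟩, ⟨-2, 0⟩],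
  [0, ⟨2, -2⟩, 0, ⟨1, 0⟩, ⟨0, 1⟩, ⟨1, 1⟩, ⟨1, 1⟩, ⟨0, -2⟩, 0, ⟨-1, -1⟩, ⟨2, 0⟩, ⟨-3, -2⟩, ⟨1, 1⟩, ⟨-2, -1⟩, ⟨4, -1⟩, 0, ⟨-2, 3⟩, ⟨-1, 1⟩, ⟨-1, 1⟩, ⟨-1, 1⟩, ⟨1, 1⟩, ⟨1, 0⟩, ⟨3, 0⟩, ⟨-1, 0⟩, ⟨2, 2⟩, ⟨0, -1⟩, ⟨3, 2⟩, ⟨2, 1⟩],
  [0, ⟨0, -3⟩, ⟨0, -1⟩, ⟨-1, -1⟩, ⟨1, 0⟩, ⟨1, 0⟩, ⟨1, 1⟩, ⟨-2, -1⟩, ⟨1, 0⟩, ⟨1, 1⟩, ⟨1, -2⟩, ⟨-2, 0⟩, ⟨1, 2⟩, ⟨-1, -1⟩, ⟨2, -1⟩, 0, ⟨0, 2⟩, ⟨1, 0⟩, ⟨2, 1⟩, ⟨-1, 1⟩, ⟨1, -1⟩, ⟨-1, 0⟩, ⟨1, -1⟩, ⟨1, 1⟩, ⟨2, -1⟩, ⟨-1, -1⟩, ⟨2, 0⟩,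 ⟨2, 1⟩],
  [0, ⟨0, -2⟩, 0, ⟨0, -1⟩, ⟨1, 0⟩, 0, ⟨1, 0⟩, ⟨-1, -1⟩, 0, 0, ⟨0, -1⟩, ⟨-1, 1⟩, ⟨1, 0⟩, ⟨-1, -1⟩, ⟨1, -1⟩, ⟨1, 0⟩, ⟨0, 3⟩, ⟨0, 1⟩, ⟨2, 0⟩, ⟨1, 1⟩, ⟨1, -1⟩, ⟨0, -1⟩, ⟨0, -1⟩, ⟨1, 0⟩, ⟨1, -1⟩, 0, ⟨1, -1⟩, ⟨1, 0⟩],
  [0, ⟨2, -1⟩, ⟨1, 0⟩, 0, ⟨0, -1⟩, ⟨-1, 1⟩, ⟨1, 0⟩, ⟨-1, -1⟩, ⟨-1, 0⟩, ⟨1, 1⟩, ⟨-1, -1⟩, ⟨0, -1⟩, ⟨1, 0⟩, ⟨-1, -1⟩, ⟨2, -1⟩, 0, ⟨0, 2⟩, ⟨0, 1⟩, ⟨0, -1⟩, 0, 0, ⟨1, 0⟩, ⟨0, 1⟩, 0, ⟨1, -1⟩, ⟨0, 1⟩, ⟨2, 0⟩, ⟨1, 0⟩],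
  [0, ⟨0, -2⟩, 0, ⟨2, -2⟩, ⟨1, 3⟩, ⟨2, 0⟩, ⟨-1, 0⟩, ⟨2, -1⟩, ⟨1, 1⟩, ⟨-3, 0⟩, ⟨3, 1⟩, ⟨-3, 0⟩, ⟨-2, 1⟩, ⟨1, 0⟩, ⟨0, -1⟩, 0, ⟨-1, 0⟩, ⟨0, 1⟩, ⟨0, 4⟩, ⟨-1, 0⟩, ⟨1, 0⟩, ⟨-1, -3⟩, ⟨3, -3⟩, ⟨-1, 1⟩, ⟨2, 2⟩, ⟨0, -3⟩, ⟨1, 1⟩, ⟨-1, 0⟩],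
  [0, ⟨0, 2⟩, ⟨0, 1⟩, ⟨-2, 1⟩, ⟨0, -2⟩, ⟨-3, 1⟩, ⟨-1, -2⟩, ⟨-2, 0⟩, ⟨-1, 0⟩, ⟨2, 1⟩, ⟨-3, 0⟩, ⟨4, 2⟩, ⟨1, -3⟩, ⟨-2, 0⟩, ⟨-1, 0⟩, 0, ⟨3, 1⟩, ⟨1, 1⟩, ⟨0, -4⟩, ⟨3, -1⟩, ⟨-1, -1⟩, ⟨0, 1⟩, ⟨-5, 2⟩, ⟨0, -1⟩, ⟨-3, -3⟩, ⟨1, 4⟩, ⟨-3, -3⟩, ⟨1, 0⟩],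
  [0, ⟨-2, -1⟩, ⟨-1, -1⟩, 0, 0, ⟨2, -2⟩, ⟨2, 0⟩, ⟨0, 2⟩, 0, ⟨1, -1⟩, ⟨-1, -1⟩, ⟨-2, 1⟩, ⟨2, 1⟩, ⟨1, 0⟩, ⟨-1, -1⟩, 0, ⟨-1, -1⟩, ⟨-1, -1⟩, ⟨1, 1⟩, ⟨-1, 2⟩, ⟨1, 0⟩, 0, ⟨2, -2⟩, ⟨1, 1⟩, ⟨1, -1⟩, ⟨-2, 0⟩, ⟨2, -1⟩, ⟨0, -1⟩],
  [0, 0, 0, ⟨-1, 0⟩, ⟨1, -1⟩, ⟨-2, 1⟩, ⟨-1, -1⟩, ⟨0, -2⟩, ⟨0, -1⟩, ⟨1, 1⟩, ⟨-1, 0⟩, ⟨1, 1⟩, ⟨0, -1⟩, ⟨-1, -1⟩, ⟨-1, 0⟩, 0, ⟨0, 1⟩, ⟨1, 1⟩, ⟨1, -1⟩, ⟨1, 0⟩, ⟨-2, 0⟩, ⟨-1, 1⟩, ⟨-3, 0⟩, 0, ⟨-1, -2⟩, ⟨0, 2⟩, ⟨0, -2⟩, 0],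
  [0, ⟨0, 2⟩, ⟨0, 1⟩, ⟨0, 1⟩, ⟨-1, 0⟩, ⟨-1, 1⟩, ⟨-2, -1⟩, ⟨1, 1⟩, 0, ⟨-1, -1⟩, ⟨0, 2⟩, ⟨3, -1⟩, ⟨-2, -2⟩, ⟨0, 1⟩, ⟨-1, 2⟩, 0, ⟨1, -1⟩, ⟨1, 0⟩, ⟨-1, -1⟩, ⟨2, -2⟩, ⟨-1, 0⟩, ⟨1, 0⟩, ⟨-1, 2⟩, ⟨0, -1⟩, ⟨-3, 2⟩, ⟨3, 0⟩, ⟨-4, 1⟩, ⟨-1, -1⟩],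
  [0, ⟨2, 1⟩, 0, ⟨1, 0⟩, ⟨1, 0⟩, ⟨-1, 0⟩, ⟨1, 1⟩, ⟨2, -3⟩, ⟨-1, -1⟩, ⟨-1, 0⟩, 0, ⟨-1, -1⟩, ⟨1, 0⟩, ⟨-1, -2⟩, ⟨2, 1⟩, 0, ⟨-3, 3⟩, ⟨-1, 1⟩, ⟨1, -1⟩, ⟨0, 1⟩, ⟨0, 1⟩, ⟨1, 1⟩, 0, ⟨0, -1⟩, ⟨1, 1⟩, ⟨-1, 1⟩, ⟨2, 1⟩, ⟨-1, 1⟩],
  [0, 0, ⟨0, -1⟩, ⟨1, 1⟩, ⟨-2, 0⟩, ⟨2, -1⟩, ⟨2, 2⟩, ⟨2, 2⟩, 0, ⟨1, -3⟩, ⟨0, 1⟩, ⟨-2, -3⟩, ⟨1, 2⟩, ⟨1, -1⟩, ⟨2, 1⟩, 0, ⟨-3, -2⟩, ⟨-2, -2⟩, ⟨-1, 0⟩, ⟨-3, 1⟩, ⟨0, 1⟩, ⟨1, 1⟩, ⟨4, 1⟩, ⟨1, -1⟩, ⟨0, 2⟩, ⟨-1, -2⟩, ⟨2, 3⟩, ⟨-1, 0⟩],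
  [0, ⟨-2, 0⟩, ⟨0, -1⟩, 0, ⟨-1, 0⟩, ⟨2, -1⟩, ⟨1, 0⟩, ⟨-1, 2⟩, ⟨0, 1⟩, ⟨0, -1⟩, 0, ⟨-1, 1⟩, 0, ⟨1, 2⟩, ⟨-2, -1⟩, 0, ⟨2, -2⟩, ⟨0, -1⟩, ⟨-1, 0⟩, ⟨-1, 0⟩, ⟨1, 0⟩, 0, ⟨1, 0⟩, 0, ⟨-1, 0⟩, ⟨-1, -1⟩, ⟨-1, -1⟩, ⟨-1, -1⟩],
  [0, ⟨-1, -2⟩, 0, 0, ⟨-1, 1⟩, ⟨0, 1⟩, ⟨-1, -2⟩, ⟨-1, 1⟩, ⟨1, 1⟩, ⟨-1, -1⟩, ⟨0, 1⟩, ⟨0, 1⟩, ⟨-1, -2⟩, ⟨-2, 2⟩, ⟨-1, -3⟩, 0, ⟨3, 0⟩, ⟨1, 1⟩, ⟨-2, 1⟩, ⟨1, 0⟩, ⟨-1, -1⟩, ⟨0, -1⟩, ⟨1, -1⟩, ⟨-1, 0⟩, ⟨-1, -1⟩, ⟨2, 0⟩, ⟨-1, -2⟩, ⟨2, -1⟩],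
  [0, ⟨3, 1⟩, ⟨0, 1⟩, ⟨0, 1⟩, ⟨-1, 0⟩, ⟨-2, 2⟩, ⟨-2, 0⟩, ⟨1, -1⟩, 0, ⟨1, -1⟩, ⟨0, 2⟩, ⟨3, -2⟩, ⟨-1, -1⟩, ⟨-1, -2⟩, ⟨1, 3⟩, 0, ⟨-3, 0⟩, ⟨0, 1⟩, ⟨-1, 0⟩, ⟨1, 0⟩, ⟨-1, 1⟩, ⟨1, 1⟩, ⟨-1, 3⟩, 0, ⟨-3, 1⟩, ⟨3, 2⟩, ⟨-2, 1⟩, ⟨1, 1⟩],
  [0, ⟨1, -1⟩, ⟨1, 0⟩, ⟨1, -1⟩, ⟨1, 1⟩, ⟨1, 1⟩, ⟨-1, 1⟩, ⟨1, -2⟩, 0, ⟨-1, 1⟩, ⟨2, 0⟩, ⟨-2, -1⟩, ⟨-1, 1⟩, 0, ⟨1, -1⟩, 0, ⟨-1, 1⟩, ⟨0, 1⟩, ⟨0, 2⟩, ⟨-1, -1⟩, ⟨0, 1⟩, ⟨-1, -1⟩, ⟨1, -1⟩, ⟨-1, 1⟩, ⟨2, 1⟩, ⟨0, -2⟩, ⟨2, 1⟩, 0]]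

def M2 : Mat := [[⟨1, 0⟩, ⟨0, -1⟩, ⟨-1, -1⟩, 0, ⟨1, 1⟩, 0, ⟨1, 1⟩, ⟨-1, -1⟩, ⟨0, -1⟩, ⟨0, 1⟩, 0, ⟨0, -1⟩, ⟨0, 2⟩, 0, ⟨0, 1⟩, ⟨1, -1⟩, 0, ⟨1, -1⟩, ⟨1, 0⟩, ⟨1, 1⟩, ⟨0, 1⟩, ⟨1, -2⟩, 0, 0, ⟨-1, 0⟩, 0, ⟨1, 1⟩, ⟨-1, -1⟩],
  [0, 0, ⟨0, 1⟩, 0, 0, ⟨0, -1⟩, ⟨0, -1⟩, ⟨0, 1⟩, 0, ⟨0, -1⟩, ⟨1, 0⟩, ⟨-1, 0⟩, ⟨2, -1⟩, ⟨-1, 0⟩, ⟨1, -1⟩, ⟨-2, 1⟩, ⟨-1, 0⟩, ⟨-1, -1⟩, ⟨-1, 0⟩, 0, ⟨1, -1⟩, ⟨-2, 1⟩, 0, ⟨-1, 0⟩, ⟨1, 1⟩, ⟨0, 1⟩, ⟨0, -2⟩, ⟨0, 2⟩],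
  [0, ⟨0, -1⟩, ⟨-1, -1⟩, ⟨1, 0⟩, ⟨0, 1⟩, 0, ⟨1, 1⟩, ⟨-1, -1⟩, ⟨0, -1⟩, 0, ⟨0, 1⟩, ⟨0, -1⟩, ⟨0, 3⟩, ⟨0, -1⟩, ⟨1, 1⟩, ⟨0, -2⟩, 0, ⟨2, -1⟩, ⟨1, 0⟩, ⟨0, 1⟩, ⟨0, 1⟩, ⟨0, -2⟩, 0, ⟨0, -1⟩, ⟨-1, 0⟩, ⟨-1, 0⟩, ⟨2, 0⟩, ⟨-2, 0⟩],
  [0, ⟨0, -1⟩, ⟨2, -1⟩, ⟨1, 0⟩, ⟨2, -2⟩, ⟨1, 2⟩, ⟨-2, 1⟩, ⟨0, -1⟩, ⟨-2, 1⟩, ⟨1, 3⟩, ⟨-2, 0⟩, ⟨0, 1⟩, ⟨-4, -1⟩, ⟨2, 1⟩, ⟨-4, 1⟩, ⟨4, -1⟩, ⟨2, 0⟩, ⟨1, 2⟩, ⟨3, 1⟩, 0, ⟨-1, 1⟩, ⟨1, -2⟩, 0, ⟨3, 1⟩, ⟨0, -3⟩, ⟨2, -3⟩, ⟨1, 2⟩, ⟨-1, -4⟩],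
  [0, ⟨2, 2⟩, 0, ⟨1, 0⟩, ⟨-3, 0⟩, ⟨0, -1⟩, ⟨1, 1⟩, ⟨0, -1⟩, ⟨1, 1⟩, ⟨-1, -1⟩, ⟨0, 1⟩, ⟨2, 0⟩, ⟨-1, 1⟩, ⟨0, -1⟩, ⟨2, 0⟩, ⟨-1, -1⟩, ⟨1, -1⟩, ⟨2, 2⟩, ⟨-1, 0⟩, ⟨-3, 0⟩, 0, ⟨2, 1⟩, 0, ⟨1, -1⟩, ⟨-1, -1⟩, ⟨-2, 0⟩, ⟨1, 0⟩, 0],
  [0, ⟨1, 1⟩, ⟨1, 2⟩, 0, 0, ⟨-1, 2⟩, ⟨-1, -2⟩, ⟨1, 1⟩, 0, ⟨-1, 0⟩, ⟨0, -1⟩, ⟨0, 1⟩, ⟨0, -4⟩, ⟨0, 1⟩, ⟨0, -3⟩, ⟨0, 2⟩, ⟨1, 0⟩, ⟨-1, 2⟩, ⟨-1, 1⟩, ⟨0, -1⟩, ⟨-1, -1⟩, ⟨1, 2⟩, 0, ⟨0, 1⟩, ⟨1, 0⟩, ⟨1, 0⟩, ⟨-2, 0⟩, ⟨3, 0⟩],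
  [0, ⟨1, 0⟩, ⟨0, 1⟩, ⟨0, 1⟩, ⟨1, 0⟩, ⟨-2, 0⟩, ⟨0, -1⟩, ⟨0, -1⟩, ⟨-2, 0⟩, ⟨0, 2⟩, ⟨-1, -1⟩, 0, ⟨0, -2⟩, ⟨1, 1⟩, ⟨-1, 0⟩, ⟨2, 1⟩, 0, ⟨-1, 1⟩, ⟨0, 1⟩, ⟨0, 1⟩, ⟨-1, 1⟩, ⟨3, -1⟩, 0, ⟨1, 2⟩, 0, ⟨2, 0⟩, ⟨1, 2⟩, ⟨0, -3⟩],
  [0, ⟨1, 0⟩, ⟨1, 1⟩, ⟨0, -1⟩, ⟨-1, 1⟩, ⟨-2, -1⟩, ⟨1, -1⟩, ⟨1, 0⟩, ⟨0, -1⟩, ⟨-2, 0⟩, ⟨1, 0⟩, ⟨1, 0⟩, ⟨-1, -1⟩, ⟨0, 1⟩, ⟨0, -2⟩, ⟨0, 2⟩, 0, 0, ⟨0, 1⟩, ⟨0, 2⟩, ⟨-2, -1⟩, ⟨3, 2⟩, 0, 0, ⟨0, -1⟩, ⟨1, 1⟩, ⟨-2, 0⟩, ⟨3, 0⟩],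
  [0, ⟨1, -1⟩, ⟨2, 0⟩, ⟨1, 0⟩, 0, ⟨0, 2⟩, ⟨-2, 0⟩, ⟨1, 0⟩, ⟨1, 1⟩, ⟨1, 0⟩, ⟨-1, 1⟩, ⟨0, -1⟩, ⟨-3, 0⟩, ⟨1, -1⟩, ⟨-1, 0⟩, ⟨1, -1⟩, ⟨-1, 0⟩, ⟨1, 1⟩, ⟨0, 1⟩, 0, 0, ⟨-1, -2⟩, 0, ⟨1, -1⟩, ⟨1, 0⟩, ⟨0, -1⟩, ⟨1, 0⟩, ⟨-2, 0⟩],
  [0, ⟨0, -1⟩, ⟨1, -2⟩, ⟨1, 1⟩, ⟨2, -1⟩, ⟨2, 2⟩, ⟨-2, 2⟩, ⟨-1, -2⟩, ⟨-1, 0⟩, ⟨1, 2⟩, ⟨-2, -1⟩, ⟨-1, 1⟩, ⟨-2, 1⟩, ⟨1, -1⟩, ⟨-2, 2⟩, ⟨3, -2⟩, ⟨1, 1⟩, ⟨1, 2⟩, ⟨2, 1⟩, ⟨-1, -1⟩, ⟨0, 1⟩, ⟨0, -2⟩, 0, ⟨2, 1⟩, ⟨0, -2⟩, ⟨0, -2⟩, ⟨2, 2⟩, ⟨-2,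 -3⟩],
  [0, ⟨0, 1⟩, ⟨1, 0⟩, ⟨1, 1⟩, ⟨1, 0⟩, ⟨1, 2⟩, ⟨-2, 1⟩, ⟨0, -1⟩, ⟨0, -1⟩, ⟨-2, 0⟩, ⟨0, -2⟩, ⟨-2, 2⟩, ⟨1, -2⟩, ⟨-1, 0⟩, ⟨0, -1⟩, ⟨1, 1⟩, ⟨2, 2⟩, ⟨-1, 3⟩, ⟨0, 2⟩, ⟨-2, -2⟩, ⟨0, -1⟩, ⟨-1, 3⟩, 0, ⟨0, 2⟩, ⟨2, -2⟩, ⟨0, -1⟩, ⟨-1, 0⟩, ⟨2, 0⟩],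
  [0, ⟨1, 0⟩, ⟨1, 0⟩, 0, ⟨0, 1⟩, ⟨-1, 3⟩, ⟨-1, -1⟩, ⟨0, -1⟩, ⟨1, 0⟩, 0, ⟨1, -1⟩, ⟨-1, 0⟩, 0, ⟨0, -1⟩, ⟨1, -1⟩, ⟨1, 0⟩, ⟨0, 1⟩, ⟨0, 2⟩, ⟨0, 1⟩, ⟨1, -1⟩, 0, ⟨0, -1⟩, 0, 0, 0, ⟨0, -1⟩, 0, ⟨1, 0⟩],
  [0, ⟨1, 1⟩, ⟨2, 0⟩, 0, ⟨-2, 0⟩, ⟨-2, 1⟩, ⟨-1, 0⟩, ⟨1, -1⟩, ⟨1, 1⟩, ⟨-1, 0⟩, ⟨1, 0⟩, ⟨1, 0⟩, ⟨-2, 0⟩, ⟨1, 0⟩, 0, ⟨2, 1⟩, ⟨1, 1⟩, ⟨0, 3⟩, ⟨0, 1⟩, 0, ⟨-1, 0⟩, ⟨2, 1⟩, 0, ⟨1, 0⟩, ⟨0, -2⟩, ⟨1, -2⟩, ⟨-1, 1⟩, ⟨2, -1⟩],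
  [0, ⟨1, 1⟩, 0, ⟨-1, 0⟩, ⟨-1, 2⟩, 0, ⟨1, 0⟩, 0, ⟨1, -2⟩, ⟨-2, 0⟩, ⟨1, -1⟩, ⟨1, 0⟩, ⟨1, 0⟩, ⟨-1, 1⟩, ⟨1, -2⟩, ⟨-1, 1⟩, ⟨1, -1⟩, ⟨1, 0⟩, ⟨-1, 0⟩, 0, ⟨-1, 0⟩, ⟨2, 2⟩, 0, ⟨-2, 0⟩, ⟨-1, 0⟩, ⟨-1, 1⟩, ⟨-2, 1⟩, ⟨3, 0⟩],
  [0, ⟨1, -1⟩, ⟨-1, 1⟩, ⟨-1, -1⟩, ⟨0, 2⟩, ⟨-1, 0⟩, ⟨2, -2⟩, ⟨-1, 1⟩, ⟨0, -1⟩, 0, ⟨1, -1⟩, ⟨0, -1⟩, ⟨2, 0⟩, 0, ⟨1, -2⟩, ⟨-2, 1⟩, ⟨-1, -2⟩, ⟨0, -3⟩, ⟨-1, -1⟩, ⟨1, 1⟩, 0, ⟨1, -1⟩, ⟨0, 1⟩, ⟨-2, -1⟩, ⟨-1, 3⟩, ⟨-1, 2⟩, ⟨-1, -1⟩, ⟨0, 1⟩],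
  [0, ⟨1, -1⟩, 0, ⟨-1, 1⟩, ⟨0, 2⟩, 0, ⟨0, -1⟩, 0, ⟨1, -1⟩, 0, ⟨0, -1⟩, ⟨0, -1⟩, 0, 0, ⟨0, -1⟩, ⟨0, 1⟩, ⟨-1, -1⟩, ⟨1, -1⟩, ⟨-1, 0⟩, 0, 0, ⟨1, -1⟩, 0, ⟨-1, 0⟩, ⟨0, 2⟩, ⟨-1, 1⟩, ⟨0, 1⟩, ⟨0, -1⟩],
  [0, ⟨0, -2⟩, ⟨0, -1⟩, 0, ⟨2, 1⟩, ⟨2, 0⟩, ⟨0, 1⟩, ⟨-1, 0⟩, ⟨0, -2⟩, 0, ⟨0, -1⟩, ⟨-1, 0⟩, ⟨1, 1⟩, ⟨-1, 0⟩, ⟨0, -1⟩, ⟨-1, 0⟩, ⟨-1, 0⟩, ⟨1, -2⟩, ⟨1, 0⟩, 0, 0, ⟨-1, 0⟩, 0, ⟨-1, 0⟩, ⟨0, 1⟩, ⟨-1, 1⟩, 0, 0],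
  [0, ⟨2, 2⟩, 0, 0, ⟨-3, 0⟩, ⟨-1, -2⟩, ⟨2, 1⟩, ⟨0, -1⟩, ⟨0, 1⟩, ⟨-1, 1⟩, ⟨0, 1⟩, ⟨3, 0⟩, ⟨-2, 0⟩, ⟨1, 1⟩, ⟨0, 1⟩, ⟨1, 0⟩, ⟨2, -2⟩, ⟨2, 2⟩, 0, ⟨-2, 2⟩, ⟨-1, 1⟩, ⟨5, 1⟩, 0, ⟨2, 0⟩, ⟨-3, -2⟩, ⟨0, -1⟩, ⟨0, 2⟩, ⟨1, -3⟩],
  [0, ⟨-2, -3⟩, ⟨-1, -1⟩, ⟨1, 1⟩, ⟨3, 0⟩, ⟨2, 1⟩, ⟨-1, 1⟩, ⟨-1, 1⟩, ⟨0, -1⟩, ⟨2, -1⟩, ⟨-2, 1⟩, ⟨-2, -1⟩, ⟨1, 1⟩, ⟨-1, -1⟩, ⟨0, 1⟩, ⟨0, -2⟩, ⟨-2, 2⟩, ⟨0, -2⟩, 0, ⟨1, -1⟩, ⟨2, 0⟩, ⟨-5, -3⟩, 0, ⟨-1, 0⟩, ⟨2, 2⟩, ⟨0, 1⟩, ⟨2, -1⟩, ⟨-4, 2⟩],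
  [0, ⟨0, 1⟩, ⟨1, 1⟩, ⟨-2, 0⟩, ⟨0, -1⟩, ⟨-1, 0⟩, ⟨-1, -2⟩, ⟨1, 1⟩, ⟨-1, 1⟩, ⟨0, 1⟩, ⟨0, -2⟩, ⟨1, 1⟩, ⟨0, -3⟩, ⟨1, 1⟩, ⟨-2, -1⟩, ⟨1, 2⟩, ⟨0, -1⟩, ⟨-2, 1⟩, ⟨0, -1⟩, ⟨1, -1⟩, ⟨-1, 0⟩, ⟨1, 1⟩, 0, ⟨0, 1⟩, 0, ⟨1, -1⟩, ⟨-2, 1⟩, ⟨2, -2⟩],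
  [0, ⟨-1, -2⟩, ⟨-1, -2⟩, 0, ⟨1, 0⟩, ⟨1, -1⟩, ⟨1, 1⟩, ⟨-1, 0⟩, 0, ⟨2, 0⟩, ⟨-1, 1⟩, ⟨0, -1⟩, ⟨0, 3⟩, ⟨0, -1⟩, ⟨0, 2⟩, ⟨0, -2⟩, ⟨-2, 0⟩, ⟨1, -2⟩, ⟨1, -1⟩, ⟨1, 1⟩, ⟨1, 1⟩, ⟨-1, -3⟩, 0, ⟨0, -1⟩, ⟨-1, 1⟩, ⟨-1, 1⟩, ⟨2, 0⟩, ⟨-3, 0⟩],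
  [0, ⟨0, 1⟩, 0, ⟨2, 1⟩, ⟨-1, -1⟩, 0, ⟨-1, 1⟩, ⟨1, 0⟩, ⟨1, 1⟩, ⟨0, -2⟩, ⟨-1, 2⟩, 0, ⟨-1, 0⟩, ⟨0, -1⟩, ⟨1, 1⟩, ⟨0, -1⟩, ⟨0, 2⟩, ⟨0, 2⟩, ⟨-1, 1⟩, ⟨-2, -1⟩, ⟨1, -1⟩, ⟨-2, 1⟩, 0, ⟨1, 0⟩, ⟨2, -1⟩, 0, ⟨1, -1⟩, ⟨-1, 2⟩],
  [0, ⟨1, 0⟩, ⟨1, -2⟩, ⟨-1, 1⟩, ⟨-1, 2⟩, ⟨1, 1⟩, ⟨-1, 1⟩, ⟨0, -2⟩, ⟨2, -1⟩, ⟨-1, 0⟩, ⟨1, -1⟩, ⟨0, -1⟩, ⟨-1, 3⟩, ⟨0, -1⟩, ⟨0, 1⟩, ⟨1, -1⟩, 0, ⟨2, 1⟩, 0, ⟨0, -1⟩, ⟨0, 1⟩, ⟨1, -1⟩, 0, ⟨-1, -1⟩, ⟨-1, 0⟩, ⟨-2, -1⟩, ⟨0, 2⟩, ⟨0, -2⟩],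
  [0, ⟨-1, 2⟩, ⟨2, 1⟩, ⟨-2, -1⟩, ⟨-1, -1⟩, ⟨-1, 0⟩, ⟨-1, -1⟩, ⟨2, 0⟩, 0, ⟨-2, 0⟩, ⟨2, -2⟩, ⟨0, 2⟩, ⟨0, -2⟩, ⟨0, 1⟩, ⟨-1, -1⟩, ⟨0, 3⟩, ⟨1, 1⟩, ⟨-3, 2⟩, 0, ⟨1, -1⟩, ⟨-2, -1⟩, ⟨1, 5⟩, 0, ⟨-1, 1⟩, ⟨1, -2⟩, ⟨1, -1⟩, ⟨-4, 0⟩, ⟨5, 0⟩],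
  [0, ⟨-1, 1⟩, ⟨0, 1⟩, 0, ⟨1, -2⟩, ⟨-1, 0⟩, ⟨0, -1⟩, 0, ⟨-2, 1⟩, ⟨0, 1⟩, ⟨0, -1⟩, ⟨-1, 1⟩, ⟨1, -2⟩, ⟨1, 1⟩, ⟨-1, 0⟩, ⟨1, 1⟩, ⟨1, 1⟩, ⟨-3, 1⟩, 0, ⟨0, -1⟩, 0, ⟨0, 1⟩, 0, ⟨1, 2⟩, ⟨1, -1⟩, ⟨2, -1⟩, 0, ⟨1, -1⟩],
  [0, ⟨-1, 1⟩, ⟨-1, 1⟩, ⟨1, 1⟩, ⟨1, -2⟩, ⟨0, -2⟩, ⟨1, 0⟩, ⟨0, 1⟩, ⟨-2, 0⟩, 0, ⟨-2, 1⟩, ⟨1, 1⟩, ⟨0, -2⟩, ⟨0, 1⟩, 0, 0, 0, ⟨-1, 0⟩, ⟨-1, 0⟩, ⟨-1, 0⟩, 0, ⟨1, 1⟩, 0, ⟨1, 2⟩, ⟨1, 0⟩, ⟨1, 2⟩, ⟨1, 1⟩, 0],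
  [0, ⟨-1, 1⟩, ⟨-1, 0⟩, 0, ⟨-2, -1⟩, ⟨1, -1⟩, ⟨1, 1⟩, ⟨0, 1⟩, ⟨2, 1⟩, ⟨1, -3⟩, ⟨0, 2⟩, ⟨1, 0⟩, ⟨0, 1⟩, ⟨-1, -1⟩, ⟨3, 1⟩, ⟨-2, -2⟩, 0, ⟨1, 0⟩, ⟨-1, -2⟩, ⟨0, -1⟩, ⟨1, -1⟩, ⟨-2, 1⟩, 0, ⟨0, -2⟩, ⟨-1, 1⟩, ⟨-2, 0⟩, ⟨0, -1⟩, ⟨-1, 3⟩],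
  [0, ⟨1, 0⟩, ⟨0, -1⟩, ⟨0, -1⟩, ⟨-1, 1⟩, ⟨0, -1⟩, ⟨2, 1⟩, ⟨0, -1⟩, ⟨0, -1⟩, ⟨-1, 1⟩, ⟨1, 1⟩, ⟨1, -1⟩, ⟨-1, 2⟩, ⟨0, 1⟩, 0, 0, ⟨1, -1⟩, ⟨2, -1⟩, ⟨1, 0⟩, ⟨0, 2⟩, ⟨-1, 1⟩, ⟨3, 0⟩, 0, ⟨0, -1⟩, ⟨-2, -1⟩, 0, ⟨0, 1⟩, ⟨1, -1⟩]]

def M3 : Mat := [[⟨1, 0⟩, ⟨1, 0⟩, ⟨1, 1⟩, ⟨1, -1⟩, ⟨1, 0⟩, 0, ⟨0, 1⟩, ⟨-1, 0⟩, ⟨2, 2⟩, ⟨-2, 0⟩, ⟨1, 0⟩, ⟨1, 0⟩, ⟨-1, 0⟩, ⟨0, -1⟩, ⟨1, -1⟩, 0, ⟨1, -1⟩, ⟨1, 1⟩, ⟨1, 0⟩, ⟨-1, 1⟩, ⟨1, -1⟩, ⟨0, -1⟩, 0, ⟨2, -1⟩, 0, ⟨-1, -1⟩, ⟨0, 1⟩, 0],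
  [0, 0, ⟨0, -1⟩, ⟨-1, -1⟩, ⟨-2, -1⟩, 0, ⟨1, 0⟩, ⟨1, 0⟩, ⟨0, -2⟩, ⟨1, 1⟩, 0, ⟨-1, 0⟩, 0, 0, ⟨-1, 1⟩, 0, ⟨-2, 0⟩, ⟨-1, 0⟩, ⟨-1, 0⟩, ⟨1, 1⟩, ⟨-1, 1⟩, ⟨0, 1⟩, 0, ⟨-2, -1⟩, 0, 0, ⟨1, -1⟩, ⟨-1, 1⟩],
  [0, ⟨1, 0⟩, ⟨1, 1⟩, ⟨1, -1⟩, ⟨0, -1⟩, 0, ⟨0, 1⟩, ⟨-1, 1⟩, ⟨2, 2⟩, ⟨-1, 0⟩, 0, ⟨1, 0⟩, ⟨-1, -1⟩, ⟨1, -1⟩, ⟨1, -1⟩, 0, ⟨1, -2⟩, ⟨1, 1⟩, 0, ⟨-2, 1⟩, ⟨0, -1⟩, ⟨1, -1⟩, ⟨1, 1⟩, ⟨2, -1⟩, ⟨0, 1⟩, ⟨0, -1⟩, ⟨0, 2⟩, ⟨-1, -1⟩],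
  [0, ⟨-1, 3⟩, ⟨1, 1⟩, ⟨-1, 3⟩, ⟨1, 2⟩, ⟨-4, 1⟩, ⟨-2, -1⟩, 0, ⟨1, 0⟩, ⟨-3, 0⟩, ⟨1, 0⟩, ⟨2, -2⟩, ⟨0, -1⟩, ⟨-2, 1⟩, ⟨-1, -2⟩, ⟨-1, 1⟩, ⟨3, 0⟩, ⟨1, -1⟩, ⟨-1, 0⟩, ⟨1, -3⟩, ⟨-1, -1⟩, ⟨-2, 1⟩, ⟨-3, -1⟩, ⟨1, 1⟩, ⟨0, -1⟩, 0, ⟨-1, 0⟩, ⟨3, 1⟩],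
  [0, ⟨-2, 0⟩, ⟨-2, 1⟩, 0, ⟨1, -2⟩, ⟨2, -1⟩, ⟨-1, 0⟩, ⟨-1, 0⟩, ⟨-1, 2⟩, ⟨1, -2⟩, ⟨-1, 0⟩, ⟨-1, 1⟩, ⟨2, -1⟩, ⟨1, 1⟩, 0, ⟨0, -1⟩, ⟨2, 0⟩, ⟨-1, 0⟩, ⟨0, -1⟩, ⟨-2, -2⟩, ⟨-1, 0⟩, ⟨0, -1⟩, ⟨2, 1⟩, ⟨1, 2⟩, ⟨0, 1⟩, ⟨3, 0⟩, ⟨-1, 1⟩, ⟨-1, -4⟩],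
  [0, ⟨-2, 0⟩, ⟨-2, -1⟩, ⟨-2, 1⟩, ⟨-1, 1⟩, ⟨-1, -2⟩, ⟨1, -2⟩, ⟨1, 0⟩, ⟨-1, -1⟩, ⟨1, -1⟩, ⟨-1, 1⟩, 0, ⟨2, 1⟩, ⟨-1, 0⟩, 0, 0, ⟨-1, 1⟩, ⟨-1, -1⟩, ⟨-1, -1⟩, ⟨2, 0⟩, ⟨0, 1⟩, ⟨-1, -1⟩, ⟨1, -3⟩, ⟨-2, 1⟩, ⟨1, -1⟩, ⟨0, 1⟩, ⟨1, -1⟩, ⟨0, 2⟩],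
  [0, ⟨-2, 1⟩, ⟨1, 1⟩, ⟨-2, 0⟩, 0, ⟨-2, -1⟩, ⟨-1, -1⟩, 0, ⟨1, 0⟩, ⟨-2, -1⟩, ⟨1, -1⟩, ⟨2, 1⟩, 0, ⟨-1, -1⟩, ⟨0, -2⟩, ⟨-1, 0⟩, ⟨2, 1⟩, ⟨1, 0⟩, ⟨1, -1⟩, ⟨2, -1⟩, ⟨-1, -1⟩, ⟨-2, -1⟩, ⟨0, -1⟩, 0, ⟨2, 0⟩, ⟨0, -1⟩, 0, ⟨0, 1⟩],
  [0, ⟨-2, 1⟩, ⟨-2, 1⟩, ⟨-1, 1⟩, ⟨-1, 1⟩, ⟨0, -2⟩, ⟨1, -1⟩, 0, ⟨0, 1⟩, ⟨0, -3⟩, ⟨0, 1⟩, ⟨0, 2⟩, 0, ⟨2, -1⟩, ⟨1, 1⟩, ⟨0, -1⟩, ⟨1, 1⟩, ⟨0, 1⟩, 0, ⟨0, -1⟩, ⟨1, 1⟩, ⟨0, -2⟩, ⟨2, -2⟩, ⟨1, 2⟩, ⟨1, 1⟩, ⟨0, -2⟩, ⟨0, 1⟩, ⟨-2, 0⟩],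
  [0, ⟨1, 2⟩, 0, ⟨0, 2⟩, ⟨-1, 0⟩, ⟨-1, 1⟩, ⟨-1, 0⟩, 0, ⟨-1, 0⟩, ⟨0, 1⟩, ⟨-1, 0⟩, ⟨1, -1⟩, ⟨0, -1⟩, ⟨0, 1⟩, ⟨-1, 1⟩, ⟨0, 1⟩, ⟨1, -1⟩, 0, ⟨-2, -1⟩, ⟨-1, -2⟩, ⟨0, 1⟩, ⟨0, 2⟩, ⟨-1, 0⟩, ⟨0, 1⟩, ⟨-1, -1⟩, 0, ⟨-1, 0⟩, 0],
  [0, ⟨1, 0⟩, ⟨1, 1⟩, ⟨1, 1⟩, ⟨2, 1⟩, ⟨-2, 1⟩, ⟨-2, 0⟩, ⟨-1, -1⟩, ⟨0, 1⟩, ⟨-1, 1⟩, ⟨1, 0⟩, ⟨1, -1⟩, ⟨0, -1⟩, ⟨-1, 1⟩, ⟨1, -1⟩, ⟨0, 1⟩, ⟨2, 0⟩, ⟨1, 0⟩, ⟨0, 1⟩, ⟨0, -1⟩, ⟨0, -2⟩, ⟨0, 1⟩, ⟨-3, 1⟩, ⟨1, 1⟩, ⟨-1, -1⟩, ⟨1, 1⟩, ⟨-1, 0⟩, ⟨3, 0⟩],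
  [0, ⟨0, -3⟩, ⟨-1, -1⟩, ⟨-1, 0⟩, ⟨0, 2⟩, ⟨0, -1⟩, ⟨0, -1⟩, ⟨0, -1⟩, ⟨-2, 0⟩, ⟨3, 0⟩, ⟨-1, 1⟩, ⟨-1, 0⟩, ⟨1, 0⟩, ⟨-1, 1⟩, ⟨2, 0⟩, ⟨0, 1⟩, ⟨-1, 2⟩, 0, ⟨0, 2⟩, ⟨2, 1⟩, 0, ⟨2, -1⟩, 0, ⟨-2, 2⟩, 0, ⟨2, 2⟩, ⟨0, -1⟩, ⟨2, 1⟩],
  [0, ⟨1, 0⟩, 0, ⟨0, 1⟩, ⟨0, 1⟩, ⟨0, -1⟩, ⟨0, -1⟩, 0, 0, ⟨0, 1⟩, ⟨-1, 0⟩, 0, ⟨1, 0⟩, ⟨-1, 0⟩, ⟨1, 0⟩, ⟨0, 1⟩, ⟨0, -1⟩, 0, ⟨-1, 0⟩, ⟨-1, 1⟩, ⟨1, 0⟩, 0, ⟨0, -2⟩, 0, ⟨1, -1⟩, ⟨-1, 1⟩, ⟨1, 0⟩, ⟨0, 1⟩],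
  [0, ⟨0, 2⟩, ⟨-1, 1⟩, ⟨0, 2⟩, ⟨0, 1⟩, ⟨0, -1⟩, ⟨0, -1⟩, ⟨0, -1⟩, ⟨-2, 1⟩, ⟨-1, -1⟩, ⟨-1, 0⟩, 0, ⟨1, 0⟩, 0, ⟨1, 1⟩, ⟨-1, 0⟩, ⟨2, 0⟩, ⟨-1, 0⟩, ⟨-1, 0⟩, ⟨-2, -2⟩, ⟨0, 1⟩, ⟨1, 0⟩, ⟨1, -1⟩, ⟨1, 2⟩, ⟨1, 0⟩, 0, ⟨0, 1⟩, 0],
  [0, ⟨-1, -1⟩, ⟨-2, 1⟩, ⟨1, -1⟩, ⟨1, 0⟩, ⟨1, -2⟩, ⟨1, -1⟩, 0, ⟨0, 2⟩, ⟨1, -2⟩, ⟨0, 2⟩, ⟨-1, 2⟩, ⟨1, 0⟩, ⟨1, -1⟩, ⟨2, 0⟩, ⟨1, -1⟩, ⟨-1, 0⟩, ⟨-1, 1⟩, ⟨1, 0⟩, ⟨0, 2⟩, ⟨2, 0⟩, ⟨0, -3⟩, ⟨1, -2⟩, ⟨1, 0⟩, 0, 0, ⟨1, 0⟩, ⟨-1, 0⟩],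
  [0, 0, 0, ⟨0, -1⟩, ⟨-1, -1⟩, ⟨0, -1⟩, ⟨1, 0⟩, ⟨1, 1⟩, ⟨2, -1⟩, 0, ⟨0, 1⟩, ⟨0, 1⟩, ⟨-1, 0⟩, ⟨1, -1⟩, ⟨-1, 0⟩, 0, ⟨-2, -2⟩, 0, 0, ⟨0, 3⟩, ⟨0, 1⟩, ⟨-1, -1⟩, ⟨1, -2⟩, ⟨0, -2⟩, ⟨1, 0⟩, ⟨-1, -1⟩, ⟨2, 0⟩, ⟨-3, 1⟩],
  [0, ⟨1, 0⟩, ⟨0, 1⟩, ⟨1, -1⟩, ⟨0, -1⟩, 0, 0, 0, 0, 0, 0, ⟨0, 1⟩, ⟨0, -1⟩, ⟨1, 0⟩, 0, 0, ⟨-1, 0⟩, ⟨-1, 1⟩, 0, ⟨0, 1⟩, ⟨1, 0⟩, 0, ⟨-1, 0⟩, ⟨0, -1⟩, 0, 0, ⟨0, -1⟩, ⟨-1, 0⟩],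
  [0, ⟨1, -1⟩, ⟨0, 1⟩, ⟨1, -1⟩, 0, ⟨-1, 0⟩, 0, 0, ⟨1, 0⟩, ⟨1, 0⟩, ⟨1, 1⟩, ⟨0, 1⟩, ⟨-1, -1⟩, ⟨1, 0⟩, ⟨1, 0⟩, ⟨1, 0⟩, ⟨-2, 0⟩, ⟨0, 1⟩, ⟨0, 1⟩, ⟨1, 2⟩, ⟨1, -1⟩, 0, ⟨-2, 0⟩, ⟨0, -1⟩, ⟨-1, 0⟩, 0, ⟨0, -1⟩, ⟨0, 1⟩],
  [0, ⟨-3, 2⟩, ⟨-1, 2⟩, ⟨0, 1⟩, ⟨2, -1⟩, ⟨0, -1⟩, ⟨-1, 0⟩, ⟨-1, 0⟩, ⟨0, 3⟩, ⟨-2, -3⟩, 0, ⟨0, 1⟩, ⟨1, -1⟩, ⟨1, 0⟩, ⟨0, -1⟩, ⟨-1, -1⟩, ⟨4, 0⟩, ⟨-1, 0⟩, ⟨1, -1⟩, ⟨-2, -3⟩, ⟨-1, 0⟩, ⟨-1, -2⟩, ⟨2, 0⟩, ⟨3, 2⟩, ⟨1, 1⟩, ⟨2, -2⟩, ⟨-1, 2⟩, ⟨-1, -3⟩],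
  [0, ⟨3, -2⟩, ⟨3, -1⟩, ⟨1, -2⟩, ⟨-1, -1⟩, ⟨0, 2⟩, ⟨0, 2⟩, ⟨-1, 0⟩, 0, ⟨1, 3⟩, ⟨0, -1⟩, ⟨1, -1⟩, ⟨-2, 0⟩, 0, 0, ⟨1, 1⟩, ⟨-2, 0⟩, ⟨1, 1⟩, 0, ⟨1, 2⟩, ⟨1, -1⟩, ⟨2, 2⟩, ⟨-2, 3⟩, ⟨-1, -2⟩, ⟨-2, -1⟩, ⟨-1, 1⟩, ⟨-1, -1⟩, ⟨1, 1⟩],
  [0, ⟨-1, 2⟩, ⟨-1, 0⟩, ⟨-1, 1⟩, ⟨0, 1⟩, ⟨-2, 0⟩, ⟨0, -2⟩, ⟨2, -1⟩, ⟨-1, -3⟩, ⟨-1, 0⟩, ⟨1, 0⟩, 0, ⟨1, 1⟩, ⟨-1, 0⟩, ⟨-1, 0⟩, ⟨-1, 0⟩, ⟨-1, 1⟩, ⟨-1, -1⟩, 0, ⟨2, -1⟩, ⟨-1, 1⟩, ⟨-2, 1⟩, ⟨-2, -2⟩, ⟨-2, 0⟩, ⟨1, -1⟩, ⟨-1, 1⟩, ⟨1, -2⟩,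 ⟨1, 2⟩],
  [0, ⟨2, 0⟩, ⟨2, 1⟩, ⟨2, -1⟩, ⟨1, -1⟩, ⟨1, 2⟩, ⟨-1, 2⟩, ⟨-1, 0⟩, ⟨1, 1⟩, ⟨-1, 1⟩, ⟨1, -1⟩, ⟨1, 0⟩, ⟨-2, 0⟩, ⟨1, -1⟩, 0, ⟨1, 0⟩, ⟨0, -1⟩, ⟨1, 1⟩, ⟨1, 0⟩, ⟨-2, 0⟩, ⟨1, -1⟩, ⟨0, 1⟩, ⟨-1, 2⟩, ⟨2, -1⟩, ⟨-1, 0⟩, ⟨-1, -1⟩, ⟨-1, 1⟩, ⟨0, -1⟩],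
  [0, ⟨0, -1⟩, ⟨0, -1⟩, ⟨-1, 0⟩, ⟨-1, -1⟩, ⟨2, 0⟩, ⟨0, 1⟩, ⟨-1, 0⟩, ⟨-2, 1⟩, ⟨2, 0⟩, ⟨-2, -1⟩, ⟨0, -1⟩, ⟨1, 0⟩, ⟨0, 1⟩, ⟨0, 1⟩, 0, ⟨1, 1⟩, 0, ⟨-1, -1⟩, ⟨-1, -2⟩, ⟨-1, 0⟩, ⟨2, 1⟩, ⟨2, 3⟩, ⟨-1, 2⟩, ⟨-1, 1⟩, ⟨2, 1⟩, ⟨-2, 1⟩, ⟨0, -2⟩],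
  [0, ⟨2, 0⟩, ⟨-1, 2⟩, ⟨3, 0⟩, ⟨2, 0⟩, ⟨1, 0⟩, ⟨-1, 0⟩, ⟨-1, -1⟩, ⟨-1, 2⟩, 0, ⟨0, 1⟩, ⟨-1, 1⟩, ⟨1, -1⟩, ⟨1, 0⟩, ⟨2, 1⟩, 0, ⟨0, -1⟩, ⟨-1, 1⟩, ⟨0, 1⟩, ⟨-3, 1⟩, ⟨2, 0⟩, ⟨1, 0⟩, ⟨-2, 0⟩, ⟨2, 0⟩, ⟨-1, 0⟩, ⟨0, 1⟩, 0, ⟨0, -1⟩],
  [0, 0, ⟨-3, -1⟩, ⟨0, 2⟩, ⟨0, 4⟩, 0, ⟨1, -2⟩, ⟨2, -2⟩, ⟨-3, -2⟩, ⟨1, -1⟩, ⟨0, 1⟩, ⟨-2, 0⟩, ⟨1, 2⟩, 0, ⟨1, 2⟩, 0, ⟨-1, 2⟩, ⟨-1, -1⟩, ⟨0, 2⟩, ⟨1, -1⟩, ⟨1, 2⟩, ⟨1, -1⟩, ⟨0, -2⟩, ⟨-2, 2⟩, ⟨1, 0⟩, ⟨-1, 1⟩, ⟨1, -1⟩, ⟨1, 2⟩],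
  [0, ⟨-1, 0⟩, ⟨1, -1⟩, ⟨-2, 0⟩, ⟨0, 1⟩, ⟨-1, 0⟩, ⟨0, -1⟩, ⟨1, 0⟩, ⟨0, -2⟩, ⟨-1, 1⟩, ⟨0, -1⟩, ⟨1, -1⟩, ⟨0, 1⟩, ⟨-2, 0⟩, ⟨-1, -1⟩, ⟨-1, 0⟩, ⟨1, 1⟩, ⟨1, -1⟩, 0, ⟨2, -1⟩, ⟨-2, -1⟩, ⟨-1, 0⟩, 0, ⟨-2, 0⟩, ⟨1, 0⟩, ⟨0, 1⟩, 0, ⟨1, 1⟩],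
  [0, ⟨-3, -2⟩, 0, ⟨-2, -2⟩, ⟨1, -1⟩, ⟨1, 0⟩, 0, ⟨-1, 0⟩, ⟨0, 1⟩, ⟨1, -2⟩, ⟨1, -1⟩, ⟨1, 1⟩, ⟨0, 1⟩, ⟨0, -1⟩, ⟨0, -2⟩, ⟨1, -1⟩, ⟨1, 3⟩, ⟨1, 0⟩, ⟨2, -2⟩, ⟨3, -2⟩, ⟨0, -2⟩, ⟨-1, -2⟩, ⟨1, 2⟩, ⟨-1, 1⟩, ⟨0, 1⟩, ⟨1, 0⟩, ⟨-2, 0⟩, ⟨1, -1⟩],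
  [0, ⟨1, -2⟩, ⟨-1, -2⟩, ⟨1, -1⟩, ⟨1, -1⟩, ⟨3, 1⟩, ⟨1, 1⟩, ⟨-1, 0⟩, ⟨-1, 1⟩, ⟨3, 1⟩, ⟨-1, -1⟩, ⟨-2, 0⟩, ⟨1, 1⟩, ⟨1, 1⟩, ⟨0, 1⟩, ⟨2, 0⟩, ⟨-1, 0⟩, ⟨-1, 0⟩, ⟨1, -1⟩, ⟨-1, 0⟩, ⟨1, 0⟩, ⟨2, 0⟩, ⟨1, 2⟩, 0, ⟨-2, 0⟩, ⟨0, 1⟩, ⟨-1, 0⟩, ⟨1, -3⟩],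
  [0, ⟨-1, 1⟩, ⟨0, 2⟩, ⟨1, 0⟩, ⟨1, 0⟩, ⟨0, -1⟩, 0, ⟨-1, 1⟩, ⟨2, 3⟩, ⟨-2, -2⟩, ⟨1, 1⟩, ⟨0, 1⟩, ⟨0, -1⟩, ⟨1, -1⟩, ⟨1, -1⟩, ⟨0, -1⟩, ⟨2, -1⟩, ⟨0, 1⟩, 0, ⟨-2, 0⟩, ⟨1, -1⟩, ⟨-1, -2⟩, ⟨1, -1⟩, ⟨3, 0⟩, ⟨0, 1⟩, ⟨0, -2⟩, ⟨0, 2⟩, ⟨-1, -1⟩]]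

def M5 : Mat := [[⟨1, 1⟩, ⟨0, 1⟩, ⟨0, -1⟩, ⟨1, 0⟩, 0, ⟨1, 0⟩, ⟨-1, 1⟩, ⟨1, 1⟩, 0, 0, ⟨0, 1⟩, 0, ⟨0, 1⟩, ⟨1, 0⟩, ⟨0, 1⟩, ⟨-1, 0⟩, ⟨1, 0⟩, 0, 0, ⟨0, -1⟩, 0, 0, ⟨1, 1⟩, ⟨-1, 0⟩, 0, ⟨1, 0⟩, ⟨-1, 1⟩, ⟨-1, -1⟩],
  [⟨0, -1⟩, ⟨1, -1⟩, ⟨0, 1⟩, ⟨1, 0⟩, ⟨1, -1⟩, 0, ⟨1, 0⟩, ⟨0, -1⟩, ⟨-1, 0⟩, 0, 0, ⟨0, -1⟩, ⟨0, -1⟩, ⟨0, -1⟩, ⟨1, 0⟩, 0, ⟨-1, -1⟩, 0, ⟨-1, 0⟩, ⟨-2, 0⟩, 0, ⟨0, 1⟩, 0, ⟨1, 1⟩, ⟨0, 1⟩, ⟨-1, 0⟩, ⟨2, 1⟩, ⟨-1, 1⟩],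
  [⟨1, 1⟩, ⟨0, 1⟩, ⟨0, -1⟩, ⟨1, 1⟩, ⟨1, 0⟩, 0, ⟨-1, 1⟩, ⟨1, 1⟩, 0, 0, ⟨-1, 1⟩, ⟨1, 0⟩, ⟨0, 1⟩, ⟨2, 0⟩, ⟨-1, 1⟩, 0, ⟨1, -1⟩, ⟨-1, 0⟩, ⟨-1, -1⟩, ⟨0, -2⟩, 0, ⟨-1, -1⟩, ⟨0, 1⟩, ⟨-2, 0⟩, 0, 0, ⟨-1, 2⟩, ⟨-2, -1⟩],
  [⟨2, -1⟩, 0, ⟨1, -1⟩, ⟨-4, 0⟩, ⟨-2, 0⟩, ⟨1, -2⟩, ⟨1, 0⟩, ⟨-3, -1⟩, ⟨2, -1⟩, 0, ⟨2, -1⟩, ⟨-2, 2⟩, ⟨2, 1⟩, ⟨-2, 2⟩, 0, ⟨1, 1⟩, ⟨3, 1⟩, 0, ⟨1, -2⟩, ⟨2, 1⟩, 0, 0, ⟨0, 1⟩, ⟨-1, -2⟩, ⟨-1, -3⟩, ⟨2, -1⟩, ⟨-2, -2⟩, ⟨2, -1⟩],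
  [⟨-1, 1⟩, ⟨-2, 0⟩, ⟨0, 1⟩, ⟨-1, 0⟩, ⟨2, 0⟩, ⟨-1, 1⟩, ⟨0, -1⟩, ⟨0, 1⟩, ⟨-1, 0⟩, 0, ⟨-2, 0⟩, ⟨2, 1⟩, ⟨-1, -1⟩, ⟨1, 1⟩, ⟨-3, -1⟩, ⟨2, -1⟩, ⟨1, 1⟩, ⟨-1, 0⟩, ⟨1, -2⟩, ⟨3, -1⟩, 0, ⟨-1, -2⟩, ⟨-3, 0⟩, ⟨-1, -1⟩, 0, ⟨-1, 0⟩, ⟨-2, 0⟩, ⟨0, -1⟩],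
  [0, 0, ⟨0, 1⟩, ⟨-2, -1⟩, ⟨-1, -1⟩, 0, ⟨1, -1⟩, ⟨0, -2⟩, ⟨1, 0⟩, 0, ⟨1, 0⟩, ⟨-1, -1⟩, 0, ⟨-3, -1⟩, 0, 0, ⟨-1, 2⟩, ⟨1, 1⟩, ⟨1, 1⟩, ⟨0, 2⟩, 0, ⟨0, 1⟩, ⟨-1, -1⟩, ⟨2, 0⟩, ⟨1, -1⟩, ⟨0, 1⟩, ⟨2, -2⟩, ⟨2, 1⟩],
  [⟨1, 1⟩, ⟨-1, 0⟩, ⟨1, 0⟩, ⟨-2, -2⟩, ⟨0, -1⟩, ⟨3, 0⟩, ⟨0, 1⟩, ⟨0, -1⟩, ⟨2, 0⟩, 0, ⟨2, 2⟩, ⟨-2, 0⟩, ⟨0, 1⟩, ⟨-2, 0⟩, ⟨-1, 0⟩, 0, ⟨2, 2⟩, ⟨1, 0⟩, ⟨1, -1⟩, ⟨1, 1⟩, 0, ⟨-2, 0⟩, ⟨0, 1⟩, ⟨-1, -1⟩, ⟨1, -1⟩, ⟨2, 0⟩, 0, ⟨1, 0⟩],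
  [⟨-1, 0⟩, ⟨-3, 0⟩, ⟨1, 0⟩, ⟨-1, -1⟩, ⟨0, -3⟩, ⟨1, 0⟩, ⟨-1, -1⟩, 0, ⟨0, 1⟩, 0, ⟨0, 2⟩, ⟨0, -1⟩, ⟨-1, 1⟩, ⟨-1, 0⟩, ⟨-2, 1⟩, ⟨0, -3⟩, ⟨0, 2⟩, ⟨1, 1⟩, 0, ⟨1, 0⟩, 0, ⟨-2, 0⟩, ⟨-2, 1⟩, ⟨0, -1⟩, ⟨1, 0⟩, ⟨0, 2⟩, ⟨1, -1⟩, 0],
  [0, ⟨-1, 1⟩, ⟨1, -1⟩, ⟨-2, 2⟩, ⟨-1, 0⟩, ⟨0, -2⟩, ⟨0, -1⟩, ⟨-1, 0⟩, ⟨0, -1⟩, 0, ⟨1, -2⟩, ⟨0, 2⟩, 0, ⟨0, 2⟩, ⟨-1, 0⟩, 0, ⟨2, -2⟩, ⟨0, -1⟩, ⟨-1, -1⟩, ⟨1, -1⟩, 0, ⟨0, 1⟩, 0, ⟨-1, 0⟩, ⟨0, -1⟩, ⟨-1, -1⟩, ⟨0, -1⟩, ⟨0, -1⟩],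
  [⟨2, 0⟩, ⟨1, 1⟩, ⟨0, -1⟩, ⟨-1, 1⟩, ⟨-1, 2⟩, ⟨0, -1⟩, ⟨0, 1⟩, ⟨-1, 0⟩, ⟨1, -1⟩, ⟨-1, 0⟩, ⟨0, -2⟩, ⟨-1, 2⟩, ⟨1, 0⟩, ⟨0, 2⟩, ⟨0, -1⟩, ⟨0, 3⟩, ⟨2, 0⟩, ⟨-1, -1⟩, ⟨1, -1⟩, ⟨1, 0⟩, 0, ⟨2, 0⟩, ⟨1, 0⟩, ⟨-1, -1⟩, ⟨0, -2⟩, ⟨1, -1⟩, ⟨-3, -1⟩, ⟨1, -1⟩],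
  [⟨1, 0⟩, ⟨1, -1⟩, 0, ⟨0, -1⟩, 0, ⟨-1, 1⟩, ⟨1, 0⟩, ⟨0, -1⟩, 0, 0, ⟨-2, -1⟩, ⟨-1, 0⟩, ⟨0, -1⟩, ⟨-1, -1⟩, ⟨0, -2⟩, ⟨1, 3⟩, ⟨-2, 2⟩, ⟨-2, 1⟩, ⟨1, 1⟩, ⟨0, 2⟩, 0, ⟨2, 0⟩, ⟨0, -1⟩, ⟨1, 0⟩, ⟨2, -2⟩, ⟨0, 1⟩, ⟨0, -2⟩, ⟨2, 2⟩],
  [⟨0, 1⟩, ⟨0, 2⟩, ⟨0, -1⟩, ⟨-1, 1⟩, ⟨-2, 0⟩, ⟨-1, -1⟩, 0, ⟨1, 0⟩, 0, 0, ⟨0, -1⟩, 0, 0, 0, ⟨0, 1⟩, ⟨-2, 1⟩, 0, 0, ⟨0, 1⟩, 0, 0, ⟨1, 2⟩, ⟨1, 0⟩, ⟨0, 1⟩, ⟨1, -1⟩, 0, ⟨0, -1⟩, ⟨0, 1⟩],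
  [⟨-1, 1⟩, ⟨-2, 1⟩, ⟨1, 0⟩, ⟨-3, 0⟩, ⟨-1, -1⟩, ⟨-1, -1⟩, ⟨0, -1⟩, ⟨-1, 1⟩, ⟨1, 0⟩, 0, ⟨0, -1⟩, 0, ⟨1, 0⟩, ⟨-1, 1⟩, ⟨-1, 0⟩, ⟨-1, -1⟩, ⟨0, 2⟩, ⟨-1, 0⟩, ⟨0, -1⟩, ⟨2, 1⟩, 0, ⟨-1, 1⟩, ⟨-2, 1⟩, ⟨-1, -2⟩, ⟨1, 0⟩, ⟨0, 1⟩, ⟨-1, -2⟩, ⟨1, 0⟩],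
  [⟨-1, 2⟩, ⟨0, 1⟩, ⟨-1, 0⟩, ⟨2, 0⟩, 0, ⟨-1, 2⟩, ⟨-1, 0⟩, ⟨2, 0⟩, ⟨-1, 1⟩, 0, ⟨-2, 2⟩, ⟨1, -2⟩, ⟨-1, 0⟩, ⟨0, -1⟩, ⟨0, 1⟩, ⟨-1, -1⟩, ⟨-1, 2⟩, ⟨1, 1⟩, ⟨1, 1⟩, 0, 0, ⟨1, 0⟩, ⟨-1, 0⟩, ⟨1, 0⟩, 0, ⟨0, 2⟩, 0, 0],
  [0, ⟨0, 1⟩, 0, ⟨1, 1⟩, ⟨0, -1⟩, ⟨1, 1⟩, ⟨-1, 0⟩, ⟨2, 0⟩, 0, 0, ⟨1, 2⟩, ⟨0, -2⟩, ⟨-1, 0⟩, ⟨0, -1⟩, ⟨0, 2⟩, ⟨-1, -2⟩, ⟨0, -1⟩, ⟨2, 1⟩, ⟨-1, 1⟩, ⟨-1, -2⟩, 0, ⟨-2, 1⟩, ⟨1, 1⟩, ⟨0, 2⟩, ⟨0, 1⟩, 0, ⟨2, 2⟩, ⟨-1, 0⟩],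
  [⟨0, 1⟩, 0, 0, ⟨1, 1⟩, ⟨1, 1⟩, ⟨1, 1⟩, ⟨-1, 0⟩, ⟨1, 0⟩, 0, 0, ⟨0, 1⟩, ⟨-1, -1⟩, ⟨-1, 0⟩, ⟨0, 1⟩, 0, ⟨-1, 0⟩, ⟨1, 0⟩, ⟨1, -1⟩, 0, ⟨0, -1⟩, 0, 0, 0, 0, ⟨0, 1⟩, 0, ⟨0, 1⟩, ⟨0, -1⟩],
  [⟨1, 0⟩, ⟨2, 0⟩, ⟨-1, -1⟩, ⟨3, 1⟩, ⟨0, 1⟩, ⟨0, 1⟩, ⟨-1, 1⟩, ⟨1, -1⟩, ⟨-1, 1⟩, 0, ⟨-1, 1⟩, ⟨0, -1⟩, ⟨-1, 0⟩, ⟨1, 0⟩, ⟨1, 1⟩, ⟨0, 1⟩, ⟨0, -1⟩, ⟨1, 0⟩, ⟨0, 1⟩, ⟨-2, -1⟩, 0, ⟨2, 0⟩, ⟨1, 0⟩, ⟨1, 1⟩, ⟨-1, 0⟩, 0, ⟨0, 1⟩, ⟨-1, 0⟩],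
  [⟨-1, 1⟩, ⟨-3, 0⟩, ⟨1, 1⟩, ⟨-3, -1⟩, ⟨1, -1⟩, ⟨1, 1⟩, ⟨0, -1⟩, ⟨-1, 2⟩, ⟨1, 0⟩, 0, ⟨-1, 2⟩, ⟨1, 0⟩, 0, ⟨-1, 1⟩, ⟨-3, 0⟩, ⟨1, -3⟩, ⟨2, 3⟩, ⟨0, 1⟩, ⟨1, -3⟩, ⟨4, 0⟩, 0, ⟨-3, -2⟩, ⟨-3, 2⟩, ⟨-2, -3⟩, ⟨-1, 0⟩, ⟨1, 1⟩, ⟨-3, 0⟩, ⟨1, -2⟩],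
  [⟨2, 0⟩, ⟨3, 0⟩, ⟨-1, -1⟩, ⟨4, 1⟩, ⟨1, 2⟩, ⟨0, -1⟩, ⟨0, 2⟩, ⟨1, -1⟩, ⟨-1, 0⟩, 0, ⟨0, -1⟩, ⟨0, 1⟩, ⟨-1, 1⟩, ⟨3, 0⟩, ⟨2, 0⟩, ⟨0, 3⟩, ⟨0, -4⟩, ⟨-1, -2⟩, ⟨-1, 1⟩, ⟨-3, -1⟩, 0, ⟨3, 0⟩, ⟨3, -2⟩, ⟨1, 2⟩, 0, ⟨-1, -2⟩, ⟨1, 2⟩, ⟨-2, 0⟩],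
  [⟨-1, -1⟩, ⟨0, -1⟩, ⟨0, 1⟩, ⟨-2, -1⟩, ⟨-2, 0⟩, 0, ⟨1, -1⟩, ⟨-1, -1⟩, ⟨1, 0⟩, 0, ⟨2, 0⟩, ⟨-2, -1⟩, ⟨1, -1⟩, ⟨-3, 0⟩, ⟨2, -1⟩, ⟨-1, 0⟩, ⟨0, 2⟩, ⟨2, 0⟩, ⟨1, 0⟩, ⟨0, 2⟩, 0, ⟨0, 1⟩, 0, ⟨1, -1⟩, 0, ⟨1, 0⟩, ⟨1, -2⟩, ⟨2, 1⟩],
  [0, ⟨0, 1⟩, ⟨-1, -1⟩, ⟨2, 1⟩, ⟨0, 1⟩, ⟨0, -1⟩, ⟨-1, 1⟩, ⟨1, 1⟩, ⟨-1, 0⟩, 0, 0, ⟨1, 1⟩, ⟨-1, 1⟩, ⟨3, 1⟩, ⟨0, 1⟩, ⟨-1, 0⟩, ⟨1, -3⟩, ⟨0, -2⟩, ⟨-1, 0⟩, ⟨-1, -2⟩, ⟨-1, 0⟩, ⟨1, 0⟩, ⟨2, 0⟩, ⟨-1, 1⟩, ⟨-1, 1⟩, ⟨0, -1⟩, ⟨-1, 2⟩, ⟨-2, -1⟩],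
  [0, ⟨-1, -1⟩, ⟨0, 1⟩, ⟨-1, -1⟩, ⟨2, 0⟩, ⟨-1, -1⟩, ⟨1, -1⟩, ⟨-1, 0⟩, 0, 0, ⟨-1, -2⟩, ⟨1, 2⟩, 0, ⟨1, 0⟩, ⟨-2, -2⟩, ⟨2, 1⟩, ⟨-1, -1⟩, ⟨-3, -1⟩, ⟨0, -1⟩, ⟨1, 1⟩, 0, ⟨0, -2⟩, ⟨-2, -2⟩, ⟨0, -1⟩, ⟨1, 0⟩, ⟨-2, 0⟩, ⟨0, -1⟩, 0],
  [⟨-1, 2⟩, ⟨0, 2⟩, ⟨0, -1⟩, ⟨1, 3⟩, ⟨-1, 2⟩, ⟨-2, 1⟩, ⟨-2, 0⟩, ⟨1, 2⟩, ⟨-1, 0⟩, 0, ⟨-2, -1⟩, ⟨1, 0⟩, ⟨-1, -1⟩, ⟨2, 2⟩, 0, ⟨-2, 1⟩, ⟨1, 0⟩, ⟨0, -1⟩, 0, ⟨1, -2⟩, 0, ⟨2, 1⟩, ⟨0, 1⟩, ⟨-1, 0⟩, 0, 0, ⟨-3, 0⟩, ⟨0, -1⟩],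
  [⟨-2, -1⟩, ⟨-1, -1⟩, 0, ⟨-1, -1⟩, ⟨-2, -1⟩, ⟨-1, 0⟩, ⟨0, -1⟩, ⟨-1, 0⟩, 0, 0, ⟨0, -1⟩, ⟨-1, -1⟩, ⟨1, -1⟩, ⟨-3, 0⟩, ⟨1, -1⟩, ⟨-1, -1⟩, ⟨-3, 3⟩, ⟨1, 1⟩, ⟨1, 2⟩, ⟨0, 3⟩, 0, ⟨0, 2⟩, ⟨-1, 0⟩, ⟨1, -1⟩, ⟨1, 0⟩, ⟨0, 2⟩, ⟨1, -4⟩, ⟨2, 2⟩],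
  [⟨1, -1⟩, ⟨0, -1⟩, ⟨0, 1⟩, ⟨-2, -3⟩, ⟨0, -1⟩, ⟨1, -1⟩, ⟨2, 1⟩, ⟨-1, -1⟩, ⟨2, 0⟩, 0, ⟨2, 0⟩, ⟨-2, 0⟩, ⟨2, 0⟩, ⟨-2, -1⟩, ⟨1, -1⟩, ⟨0, 1⟩, ⟨-1, 1⟩, ⟨-1, 0⟩, ⟨1, 0⟩, ⟨0, 3⟩, 0, ⟨-1, 0⟩, 0, ⟨0, -1⟩, ⟨1, 0⟩, ⟨1, 0⟩, ⟨1, -1⟩, ⟨1, 2⟩],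
  [0, ⟨-1, -2⟩, ⟨-1, 1⟩, ⟨1, -4⟩, ⟨2, 0⟩, ⟨2, 0⟩, ⟨1, 1⟩, ⟨0, -2⟩, ⟨0, 1⟩, 0, ⟨1, 2⟩, ⟨-1, 1⟩, ⟨-1, 2⟩, ⟨0, -1⟩, ⟨-1, -1⟩, ⟨2, 0⟩, ⟨0, 1⟩, ⟨0, -1⟩, ⟨2, 0⟩, ⟨0, 2⟩, 0, ⟨0, -3⟩, ⟨-1, -2⟩, ⟨1, -1⟩, 0, 0, ⟨1, 0⟩, 0],
  [⟨-2, 0⟩, ⟨0, -1⟩, ⟨-1, 0⟩, ⟨2, 1⟩, ⟨1, 2⟩, ⟨-2, 0⟩, ⟨0, -1⟩, ⟨1, 1⟩, ⟨-2, 0⟩, 0, ⟨-2, -1⟩, ⟨2, 1⟩, ⟨-1, -1⟩, ⟨2, 0⟩, ⟨0, -1⟩, ⟨1, 0⟩, ⟨-1, -1⟩, 0, ⟨0, 1⟩, 0, 0, ⟨2, -1⟩, ⟨0, -3⟩, ⟨1, 1⟩, ⟨-1, 1⟩, ⟨-2, -1⟩, ⟨0, 1⟩, ⟨-1, -1⟩],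
  [⟨0, 1⟩, ⟨-1, 1⟩, 0, 0, ⟨0, -1⟩, ⟨0, 1⟩, ⟨-1, 0⟩, ⟨0, 1⟩, ⟨0, 1⟩, 0, ⟨-1, 2⟩, ⟨1, -1⟩, ⟨0, 1⟩, ⟨1, 0⟩, ⟨-1, 2⟩, ⟨0, -2⟩, ⟨1, 1⟩, ⟨0, 1⟩, ⟨0, -1⟩, ⟨1, -1⟩, 0, ⟨-1, -1⟩, ⟨-1, 2⟩, ⟨-1, -1⟩, ⟨-1, 0⟩, ⟨1, 1⟩, ⟨-2, 1⟩, ⟨-1, -1⟩]]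

def M6 : Mat := [[⟨1, 0⟩, 0, ⟨-1, -1⟩, ⟨1, -1⟩, 0, ⟨-1, -1⟩, ⟨1, 0⟩, ⟨1, 0⟩, ⟨-1, 1⟩, 0, ⟨1, 1⟩, 0, 0, ⟨1, 0⟩, 0, ⟨0, 1⟩, 0, ⟨-1, 0⟩, 0, 0, ⟨1, 0⟩, ⟨1, 0⟩, ⟨-1, 0⟩, 0, ⟨-1, -1⟩, 0, ⟨0, -1⟩, 0],
  [0, 0, ⟨0, 1⟩, ⟨-1, 0⟩, 0, ⟨1, 2⟩, ⟨-1, 0⟩, 0, ⟨2, 0⟩, 0, 0, ⟨0, -1⟩, 0, ⟨-2, 0⟩, 0, 0, 0, ⟨1, 1⟩, 0, 0, ⟨-1, 0⟩, ⟨-1, 0⟩, ⟨1, 0⟩, 0, ⟨-1, 1⟩, ⟨1, 0⟩, ⟨-1, 1⟩, ⟨1, -1⟩],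
  [0, ⟨-1, 1⟩, ⟨-2, 0⟩, ⟨1, -1⟩, ⟨0, -1⟩, ⟨-2, -1⟩, ⟨1, -1⟩, ⟨1, 0⟩, ⟨-1, 1⟩, ⟨-1, 0⟩, ⟨1, 1⟩, ⟨1, 0⟩, 0, ⟨0, -1⟩, 0, ⟨-1, 0⟩, 0, ⟨-1, 0⟩, 0, 0, 0, ⟨1, 0⟩, ⟨-1, -1⟩, ⟨1, 0⟩, ⟨-1, -1⟩, ⟨0, 1⟩, ⟨1, -1⟩, ⟨1, 0⟩],
  [0, ⟨0, -2⟩, ⟨1, -2⟩, 0, ⟨-2, 1⟩, ⟨0, -2⟩, ⟨1, 0⟩, ⟨1, 1⟩, ⟨0, 1⟩, ⟨1, -3⟩, ⟨0, 2⟩, ⟨0, 1⟩, ⟨-2, 1⟩, ⟨4, 0⟩, 0, ⟨1, 1⟩, ⟨-1, -1⟩, ⟨-1, -1⟩, ⟨-1, 0⟩, ⟨1, 1⟩, ⟨2, 2⟩, ⟨2, -2⟩, ⟨2, 1⟩, ⟨-2, -1⟩, ⟨3, 1⟩, ⟨-1, -1⟩, 0, ⟨-2, 2⟩],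
  [0, 0, ⟨-1, 1⟩, ⟨1, 0⟩, ⟨2, -1⟩, ⟨-1, 0⟩, 0, ⟨-2, -1⟩, ⟨-2, 0⟩, ⟨-1, 1⟩, ⟨-2, 0⟩, ⟨2, 0⟩, 0, ⟨-1, -1⟩, 0, ⟨-1, -2⟩, ⟨1, 0⟩, ⟨0, -1⟩, ⟨1, 0⟩, 0, ⟨-2, 0⟩, ⟨1, 0⟩, ⟨-1, -1⟩, ⟨2, 1⟩, ⟨0, -2⟩, ⟨0, 2⟩, ⟨1, 0⟩, ⟨2, 1⟩],
  [0, ⟨2, 0⟩, ⟨2, 1⟩, ⟨-2, 0⟩, ⟨-1, 0⟩, ⟨2, 1⟩, ⟨-1, 0⟩, ⟨-1, 0⟩, ⟨1, 0⟩, ⟨2, 1⟩, ⟨-1, -1⟩, ⟨-1, -1⟩, 0, ⟨-1, 1⟩, 0, 0, ⟨-1, 0⟩, ⟨1, 0⟩, 0, ⟨0, 1⟩, ⟨0, 1⟩, 0, ⟨0, 1⟩, ⟨0, -1⟩, ⟨1, 2⟩, 0, 0, 0],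
  [0, ⟨1, -2⟩, ⟨1, -1⟩, ⟨1, -1⟩, 0, 0, ⟨1, 1⟩, ⟨0, 1⟩, ⟨-1, 1⟩, ⟨2, 0⟩, ⟨-1, 2⟩, 0, ⟨-2, -1⟩, ⟨2, 2⟩, 0, ⟨1, 2⟩, ⟨0, -1⟩, ⟨0, -1⟩, ⟨1, 0⟩, ⟨0, 2⟩, ⟨0, 2⟩, ⟨2, 0⟩, ⟨0, 2⟩, ⟨0, -1⟩, ⟨0, 1⟩, ⟨1, -1⟩, ⟨-1, 0⟩, ⟨-1, 1⟩],
  [0, ⟨1, 0⟩, ⟨2, 1⟩, 0, ⟨-1, -1⟩, 0, ⟨0, 1⟩, ⟨-2, 0⟩, 0, ⟨0, 2⟩, ⟨-1, 1⟩, ⟨1, -2⟩, ⟨-1, 0⟩, ⟨-1, 2⟩, 0, ⟨-1, 0⟩, ⟨0, -1⟩, ⟨1, -1⟩, 0, ⟨0, 1⟩, ⟨-1, 3⟩, ⟨2, 0⟩, ⟨-2, -1⟩, ⟨2, -1⟩, 0, ⟨1, 0⟩, ⟨2, 0⟩, ⟨1, -1⟩],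
  [0, ⟨-3, -1⟩, ⟨-1, -1⟩, ⟨-1, 0⟩, ⟨0, -1⟩, ⟨1, -1⟩, ⟨1, -1⟩, ⟨0, 1⟩, ⟨1, 0⟩, ⟨0, -2⟩, ⟨1, 1⟩, ⟨0, 1⟩, ⟨-1, 1⟩, ⟨1, -1⟩, 0, ⟨1, -2⟩, 0, 0, ⟨0, -1⟩, ⟨2, 0⟩, ⟨1, 0⟩, ⟨0, -1⟩, ⟨2, -1⟩, 0, ⟨1, 0⟩, ⟨-1, -1⟩, ⟨1, 1⟩, ⟨1, 0⟩],
  [0, ⟨-1, 0⟩, ⟨-2, -2⟩, ⟨1, 1⟩, ⟨0, 1⟩, ⟨0, -3⟩, ⟨1, 0⟩, ⟨2, 1⟩, ⟨-1, 0⟩, ⟨0, -3⟩, ⟨0, 1⟩, ⟨0, 2⟩, 0, ⟨3, 0⟩, 0, 0, 0, ⟨-1, -1⟩, ⟨-1, -1⟩, ⟨0, -1⟩, ⟨2, -1⟩, 0, ⟨1, 0⟩, ⟨-2, 0⟩, ⟨1, 0⟩, ⟨-2, 0⟩, ⟨-1, 0⟩, ⟨-2, 1⟩],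
  [0, ⟨1, 2⟩, ⟨-1, 1⟩, ⟨0, 1⟩, 0, ⟨2, -2⟩, ⟨-1, 0⟩, ⟨1, 0⟩, ⟨-1, -1⟩, 0, ⟨-1, -1⟩, ⟨0, 1⟩, ⟨1, -1⟩, ⟨-1, 2⟩, 0, ⟨-2, 0⟩, 0, ⟨1, -1⟩, ⟨-1, -1⟩, ⟨-1, -1⟩, ⟨0, -1⟩, ⟨-1, 2⟩, ⟨0, -1⟩, ⟨-1, 0⟩, ⟨0, 2⟩, ⟨-1, 1⟩, ⟨-1, 0⟩, ⟨-2, 0⟩],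
  [0, ⟨-1, 1⟩, ⟨-1, 0⟩, ⟨-1, 0⟩, 0, ⟨1, 0⟩, ⟨0, -1⟩, ⟨0, 1⟩, 0, ⟨1, 0⟩, ⟨1, 0⟩, ⟨-1, -1⟩, ⟨1, 1⟩, 0, 0, ⟨-1, -1⟩, ⟨-1, 0⟩, ⟨0, -1⟩, ⟨0, -1⟩, ⟨1, -1⟩, ⟨2, 0⟩, ⟨-1, -1⟩, ⟨-1, 0⟩, ⟨0, -1⟩, ⟨-1, 1⟩, ⟨-1, 0⟩, ⟨0, -1⟩, ⟨0, -1⟩],
  [0, 0, ⟨1, -1⟩, 0, ⟨-1, 0⟩, ⟨1, 0⟩, ⟨1, 0⟩, ⟨-1, 1⟩, ⟨-1, -1⟩, ⟨0, 1⟩, ⟨-1, 1⟩, ⟨0, -1⟩, ⟨0, 1⟩, 0, 0, ⟨-1, -1⟩, ⟨-1, -1⟩, ⟨0, -1⟩, 0, ⟨1, 1⟩, ⟨1, 3⟩, ⟨1, -1⟩, ⟨0, -1⟩, ⟨0, -1⟩, ⟨1, -1⟩, ⟨-1, 0⟩, ⟨2, -1⟩, ⟨0, 1⟩],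
  [0, ⟨2, 1⟩, ⟨1, 1⟩, 0, 0, 0, ⟨-1, 0⟩, ⟨-1, 0⟩, ⟨-1, 0⟩, ⟨1, 3⟩, ⟨-1, -1⟩, ⟨-1, -1⟩, ⟨2, -1⟩, ⟨-2, 1⟩, 0, ⟨-2, 1⟩, ⟨0, 1⟩, 0, ⟨0, 1⟩, ⟨-1, 0⟩, ⟨0, -1⟩, ⟨0, 1⟩, ⟨-3, 0⟩, ⟨1, 0⟩, ⟨-1, -1⟩, ⟨1, 2⟩, ⟨0, -2⟩, ⟨1, -1⟩],
  [0, ⟨1, 0⟩, ⟨1, 1⟩, ⟨-1, -1⟩, 0, ⟨0, 2⟩, ⟨-1, 0⟩, ⟨-1, 0⟩, ⟨1, 2⟩, ⟨1, 2⟩, ⟨1, 0⟩, ⟨-1, -2⟩, ⟨1, 0⟩, ⟨-2, 1⟩, 0, ⟨0, 1⟩, ⟨0, 1⟩, ⟨0, 1⟩, ⟨1, 0⟩, 0, ⟨1, 0⟩, ⟨-1, -1⟩, ⟨-2, 1⟩, ⟨1, -1⟩, ⟨-2, 0⟩, ⟨2, 0⟩, ⟨-1, -1⟩, ⟨2, -2⟩],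
  [0, ⟨0, -1⟩, ⟨0, -1⟩, 0, ⟨1, 0⟩, ⟨1, 0⟩, ⟨0, 1⟩, ⟨0, 1⟩, 0, ⟨1, 0⟩, 0, ⟨-1, 0⟩, ⟨1, -1⟩, ⟨-1, 1⟩, 0, 0, ⟨0, 1⟩, 0, ⟨1, 0⟩, 0, ⟨0, -1⟩, ⟨-1, 1⟩, ⟨0, 1⟩, 0, ⟨-1, 0⟩, ⟨1, 0⟩, ⟨-1, 0⟩, ⟨1, -1⟩],
  [0, ⟨0, 1⟩, ⟨-1, 1⟩, ⟨0, 1⟩, 0, ⟨0, -1⟩, ⟨-1, 0⟩, ⟨1, 0⟩, ⟨1, 0⟩, ⟨0, -1⟩, ⟨1, 0⟩, ⟨-1, 0⟩, ⟨1, -1⟩, ⟨-1, 1⟩, 0, ⟨-1, 1⟩, ⟨0, 1⟩, 0, ⟨-1, 0⟩, ⟨-1, -1⟩, ⟨0, -2⟩, ⟨-1, 1⟩, ⟨-1, 0⟩, 0, ⟨-1, 1⟩, ⟨1, 1⟩, ⟨-1, 0⟩, ⟨0, -2⟩],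
  [0, ⟨2, -2⟩, ⟨2, -1⟩, ⟨2, -1⟩, 0, ⟨-2, 0⟩, ⟨1, 1⟩, ⟨-2, 0⟩, ⟨-3, 1⟩, ⟨0, 2⟩, ⟨-3, 2⟩, ⟨2, -1⟩, ⟨-1, 0⟩, ⟨1, 0⟩, 0, ⟨0, 1⟩, ⟨0, -1⟩, ⟨-1, -1⟩, ⟨1, 1⟩, ⟨0, 2⟩, ⟨-1, 3⟩, ⟨3, -1⟩, ⟨-1, 0⟩, ⟨1, 0⟩, ⟨1, -3⟩, ⟨1, 1⟩, ⟨1, -1⟩, ⟨1, 3⟩],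
  [0, ⟨-3, 1⟩, ⟨-3, 0⟩, 0, ⟨1, -1⟩, ⟨0, -2⟩, ⟨1, -1⟩, ⟨3, 0⟩, ⟨1, 0⟩, ⟨-1, -3⟩, ⟨3, -1⟩, ⟨-1, 3⟩, ⟨0, -1⟩, ⟨1, -1⟩, 0, ⟨1, 0⟩, ⟨1, 1⟩, ⟨-1, 1⟩, ⟨-1, -1⟩, ⟨0, -1⟩, ⟨0, -4⟩, ⟨-1, 2⟩, ⟨2, 0⟩, ⟨-1, 1⟩, ⟨-1, 2⟩, ⟨-1, -1⟩, ⟨-1, 2⟩, ⟨-1, -1⟩],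
  [0, ⟨2, -2⟩, ⟨3, -1⟩, ⟨-1, 1⟩, ⟨-1, 2⟩, ⟨2, 2⟩, ⟨-1, 1⟩, ⟨-1, 1⟩, ⟨2, -1⟩, ⟨2, 0⟩, ⟨-1, 0⟩, ⟨-2, -1⟩, 0, ⟨0, 1⟩, 0, ⟨1, 1⟩, ⟨-1, 0⟩, ⟨1, 0⟩, ⟨0, 1⟩, ⟨0, 1⟩, ⟨1, 1⟩, ⟨-1, -1⟩, ⟨1, 2⟩, ⟨-1, -1⟩, ⟨1, 1⟩, ⟨1, -1⟩, ⟨-1, 0⟩, ⟨-1, 0⟩],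
  [0, ⟨-2, 0⟩, ⟨-2, -1⟩, ⟨1, 0⟩, ⟨1, 0⟩, ⟨-2, -1⟩, ⟨1, 0⟩, ⟨1, 0⟩, 0, ⟨-1, -1⟩, ⟨2, 0⟩, ⟨0, 1⟩, 0, ⟨2, -1⟩, 0, ⟨1, 0⟩, ⟨1, 0⟩, ⟨-1, 0⟩, 0, ⟨0, -1⟩, ⟨0, -2⟩, 0, 0, ⟨0, 1⟩, ⟨-1, -1⟩, ⟨0, -1⟩, ⟨0, 1⟩, ⟨0, -1⟩],
  [0, ⟨-2, 1⟩, ⟨-2, 1⟩, 0, ⟨1, -2⟩, ⟨0, -1⟩, ⟨1, -1⟩, ⟨0, -1⟩, ⟨-1, -1⟩, ⟨-2, -1⟩, ⟨-1, -1⟩, ⟨2, 2⟩, ⟨-1, 0⟩, ⟨0, -2⟩, 0, ⟨0, -3⟩, ⟨1, -1⟩, 0, ⟨0, -1⟩, 0, ⟨-3, 0⟩, ⟨1, 1⟩, ⟨2, -2⟩, ⟨1, 1⟩, ⟨1, 0⟩, ⟨-2, 0⟩, ⟨2, 2⟩, ⟨0, 1⟩],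
  [0, ⟨-1, 0⟩, ⟨-1, -2⟩, ⟨1, 1⟩, ⟨1, 1⟩, ⟨1, -1⟩, 0, ⟨0, 2⟩, ⟨-1, -1⟩, 0, 0, ⟨-1, 0⟩, ⟨2, 0⟩, ⟨-1, 0⟩, ⟨0, -1⟩, ⟨-2, -1⟩, ⟨0, 1⟩, ⟨0, -1⟩, 0, ⟨0, -2⟩, ⟨2, -2⟩, ⟨-2, 0⟩, ⟨-1, -1⟩, 0, ⟨-1, -2⟩, ⟨-1, 1⟩, ⟨0, -2⟩, ⟨1, -1⟩],
  [0, ⟨2, 1⟩, ⟨3, 0⟩, ⟨-1, 2⟩, ⟨-2, 2⟩, ⟨2, 1⟩, ⟨-2, 1⟩, ⟨-1, 0⟩, ⟨1, -3⟩, ⟨0, 2⟩, ⟨-1, -1⟩, ⟨-1, -2⟩, ⟨1, 1⟩, ⟨-2, 2⟩, 0, ⟨-1, 0⟩, ⟨-1, 0⟩, ⟨2, -1⟩, ⟨-1, 1⟩, 0, ⟨1, 2⟩, ⟨-1, 0⟩, ⟨-1, -1⟩, ⟨-1, -1⟩, ⟨2, 0⟩, 0, ⟨1, -1⟩, ⟨-1, 0⟩],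
  [0, ⟨1, 0⟩, ⟨1, 0⟩, 0, ⟨-1, 1⟩, ⟨0, 1⟩, 0, 0, 0, 0, ⟨-1, 0⟩, 0, ⟨-1, 0⟩, ⟨1, 1⟩, 0, ⟨1, 1⟩, ⟨0, -1⟩, 0, 0, ⟨0, 1⟩, ⟨0, 2⟩, ⟨1, -1⟩, ⟨1, 1⟩, ⟨-1, -1⟩, ⟨1, 1⟩, ⟨0, -1⟩, ⟨-1, 0⟩, ⟨-2, 1⟩],
  [0, ⟨1, -1⟩, ⟨0, 1⟩, ⟨1, -1⟩, ⟨1, -1⟩, ⟨-2, -1⟩, ⟨1, 1⟩, ⟨0, -2⟩, ⟨-1, 0⟩, 0, ⟨-1, -1⟩, ⟨1, 2⟩, ⟨-2, -2⟩, ⟨2, 1⟩, 0, ⟨2, 1⟩, ⟨2, 0⟩, 0, ⟨1, 1⟩, ⟨-1, 2⟩, ⟨-4, -1⟩, ⟨3, 2⟩, ⟨0, 1⟩, ⟨1, 1⟩, ⟨1, 1⟩, ⟨1, -1⟩, ⟨0, 2⟩, ⟨-1, 1⟩],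
  [0, ⟨-1, 1⟩, ⟨-2, 1⟩, 0, ⟨2, 0⟩, ⟨-1, 0⟩, ⟨0, -1⟩, ⟨0, -2⟩, ⟨0, -1⟩, ⟨-2, 0⟩, ⟨1, -2⟩, ⟨1, 1⟩, ⟨1, 0⟩, ⟨-1, -3⟩, 0, ⟨1, -2⟩, ⟨0, 1⟩, ⟨0, 1⟩, ⟨0, 1⟩, ⟨0, -1⟩, ⟨-1, -3⟩, ⟨-1, 1⟩, ⟨0, -2⟩, ⟨1, 3⟩, ⟨0, -1⟩, ⟨-1, 1⟩, ⟨1, 1⟩, ⟨2, 1⟩],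
  [0, ⟨1, 0⟩, ⟨1, 0⟩, ⟨1, 0⟩, ⟨-1, 0⟩, ⟨-2, 0⟩, 0, ⟨-1, 0⟩, ⟨-2, 1⟩, ⟨0, 1⟩, ⟨-1, 1⟩, ⟨1, -1⟩, 0, 0, 0, ⟨-1, 1⟩, 0, ⟨-1, 0⟩, ⟨0, 1⟩, 0, ⟨0, 2⟩, ⟨2, -1⟩, ⟨-2, 0⟩, ⟨1, 0⟩, ⟨0, -2⟩, ⟨1, 1⟩, ⟨1, -2⟩, ⟨1, 0⟩]]

def X : ℕ → Mat
  | 1 => X1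
  | 2 => X2
  | 3 => X3
  | _ => X4

def M : ℕ → Mat
  | 0 => M0
  | 1 => M1
  | 2 => M2
  | 3 => M3
  | 4 => sc 28 ⟨0, 1⟩
  | _ => M5

def M' : ℕ → Mat
  | 2 => M6
  | 4 => sc 28 ⟨0, -1⟩
  | i => M i

theorem hW : Bc = tab fun j => (W.getD j ([], 0)).1.foldr mp (ruTable.getD (W.getD j ([], 0)).2 0) := by decide +kernel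

theorem hD : mul Dh Bc = sc 28 4 := by decide +kernel

theorem hG : mul (ct 28 Bc) Bc = G := by decide +kernel

theorem hT : mul Bc X0 = tab fun j => ruTable.getD j 0 := by decide +kernel

theorem hX1 : mul Bc (X 1) = tab fun j => mp 1 (b j) := by decide +kernel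

theorem hX2 : mul Bc (X 2) = tab fun j => mp 2 (b j) := by decide +kernel

theorem hX3 : mul Bc (X 3) = tab fun j => mp 3 (b j) := by decide +kernel

theorem hX4 : mul Bc (X 4) = tab fun j => mp 4 (b j) := by decide +kernel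

theorem hM0 : mul (M' 0) (M 0) = sc 28 1 ∧ mul (ct 28 (M 0)) G = mul G (M' 0) := by decide +kernel

theorem hM1 : mul (M' 1) (M 1) = sc 28 1 ∧ mul (ct 28 (M 1)) G = mul G (M' 1) := by decide +kernel

theorem hM2 : mul (M' 2) (M 2) = sc 28 1 ∧ mul (ct 28 (M 2)) G = mul G (M' 2) := by decide +kernel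

theorem hM3 : mul (M' 3) (M 3) = sc 28 1 ∧ mul (ct 28 (M 3)) G = mul G (M' 3) := by decide +kernel

theorem hM4 : mul (M' 4) (M 4) = sc 28 1 ∧ mul (ct 28 (M 4)) G = mul G (M' 4) := by decide +kernel

theorem hM5 : mul (M' 5) (M 5) = sc 28 1 ∧ mul (ct 28 (M 5)) G = mul G (M' 5) := by decide +kernel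

theorem hpar : ∀ j < 28, (par.getD j 0 < j ∨ j = 0) ∧ ruNorm (b j) = 16 ∧ ∀ m < 4, ∀ n < 4,
    ruNorm (gI ^ m • b j + gI ^ n • b (par.getD j 0)) = ruNorm (b j + b (par.getD j 0)) →
    ruNorm (gI ^ m • b j + gI • gI ^ n • b (par.getD j 0)) = ruNorm (b j + gI • b (par.getD j 0)) → m = n := by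
  decide +kernel

end Cfsg.Agent.Lib.RuLatD
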