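import Cfsg.Agent.Lib.Rk3Fast
import Cfsg.Agent.Lib.RuRN0

set_option autoImplicit false
set_option maxRecDepth 100000
set_option Elab.async false

namespace Cfsg.Agent.Lib.RuR
open Cfsg.Agent.Lib.PermNet Cfsg.Agent.Lib.Words Cfsg.Agent.Lib.PermGroup Cfsg.Agent.Lib.Rk3Aut Cfsg.Agent.Lib.Rk3Emb
  Cfsg.Agent.Lib.Rk3PH Cfsg.Agent.Lib.Rk3Iso Cfsg.Agent.Lib.Rk3Fast

noncomputable def nets : NL := (.cons net0 (.cons net1 (.cons net2 (.cons net3 (.cons net4 (.cons net5 (.cons net6 (.cons net7 (.cons net8 (.cons net9 (.cons net10 (.cons net11 (.cons net12 (.cons net13 (.cons net14 (.cons net15 (.cons net16 (.cons net17 (.cons net18 (.cons net19 .nil))))))))))))))))))))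

theorem hv : nets.Valid 4060 := ⟨valid0, ⟨valid1, ⟨valid2, ⟨valid3, ⟨valid4, ⟨valid5, ⟨valid6, ⟨valid7, ⟨valid8, ⟨valid9, ⟨valid10, ⟨valid11, ⟨valid12, ⟨valid13, ⟨valid14, ⟨valid15, ⟨valid16, ⟨valid17, ⟨valid18, ⟨valid19, trivial⟩⟩⟩⟩⟩⟩⟩⟩⟩⟩⟩⟩⟩⟩⟩⟩⟩⟩⟩⟩

def rels0 : List (List Nat × List Nat) := [([9, 4, 4], []),
  ([11, 2, 4, 2], []),
  ([13, 10, 5, 10, 4], []),
  ([15, 10, 8, 10, 8], []),
  ([17, 10, 5, 0, 4, 0], []),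
  ([19, 10, 10], []),
  ([21, 8, 2, 14, 2], []),
  ([23, 5, 12, 12, 4], []),
  ([25, 0, 16, 16, 0], []),
  ([27, 14, 14], []),
  ([29, 2, 8, 18], []),
  ([31, 6, 2, 6, 2, 0, 16], []),
  ([33, 30, 30], []),
  ([35, 31, 15, 8, 33, 29, 32, 32, 29, 32, 32, 29, 32, 29, 8, 14, 30], []),
  ([37, 31, 15, 8, 32, 32, 29, 33, 29, 32, 29, 32, 32, 29, 8, 14, 30], [])]
def rels : List (List Nat × List Nat) := rels0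

def defs : List (List Nat) := [[4, 4], [2, 4, 2], [10, 5, 10, 4], [10, 8, 10, 8], [10, 5, 0, 4, 0], [10, 10], [8, 2, 14, 2], [5, 12, 12, 4], [0, 16, 16, 0], [14, 14], [2, 8, 18], [6, 2, 6, 2, 0, 16], [30, 30], [31, 15, 8, 33, 29, 32, 32, 29, 32, 32, 29, 32, 29, 8, 14, 30], [31, 15, 8, 32, 32, 29, 33, 29, 32, 29, 32, 32, 29, 8, 14, 30]]


def L1 : List (List ℕ) := [[29], [32]]

def us : List (List ℕ) := [[4], [8], [0], [10], [12], [14], [16], [18], [20], [22], [24], [26]]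

def P2 : List (List ℕ) := [[4], [8], [0], [10], [12], [14], [16], [18], [20], [22], [24], [26], [6]]

def Kc : List (List ℕ) := [[28], [30]]

def phcP : PC := [(17, 5, [], [[36]]),
  (18, 5, [], [])]

def phcR : PC := [(2, 2, [8], [[8], [0, 10, 16, 20, 22, 26], [10, 12, 18, 26], [12, 14, 18, 20, 22, 24], [14, 20], [16, 20], [18, 20], [20, 22], [22, 24, 26], [24], [26]]),
  (4, 2, [], [[0, 12, 22], [10, 14, 18, 26], [12, 22, 24, 26], [14, 22], [16, 22], [18, 22], [20, 24, 26], [22], [24], [26]]),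
  (0, 2, [], [[10], [12, 22, 24], [14, 20, 22, 26], [16, 18, 20, 22], [18], [20, 26], [22, 26], [24, 26], [26]]),
  (5, 2, [18], [[12, 20, 22, 24, 26], [14, 22], [16, 20, 22, 24], [18], [20], [22, 26], [24], [26]]),
  (6, 2, [22, 24, 26], [[14, 24, 26], [16, 22, 24], [18, 26], [20, 26], [22], [24], [26]]),
  (7, 2, [26], [[16, 24, 26], [18, 26], [20], [22], [24], [26]]),
  (8, 2, [24, 26], [[18, 26], [20], [22], [24], [26]]),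
  (9, 2, [], [[20], [22], [24], [26]]),
  (10, 2, [], [[22], [24], [26]]),
  (11, 2, [], [[24], [26]]),
  (12, 2, [], [[26]]),
  (13, 2, [], [])]

def phcS : List (List ℕ × Cert) := [([22, 24, 26], .good 0 [31, 15, 8] [[3, 0, 2, 2, 0, 4, 3, 0, 2, 0], [4, 0, 5, 5, 0, 5, 3, 0]]),
  ([20, 26], .good 0 [32, 10, 14] [[2, 2, 0, 5, 5, 3, 3, 0, 2, 2], [0, 4, 3, 0, 2]]),
  ([14, 18], .good 0 [32, 10, 14] [[3, 3, 0, 3, 0, 2, 0, 2, 2], [4, 0, 2, 2, 0, 3, 0]]),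
  ([14, 18, 20, 26], .good 0 [32, 10, 14] [[0, 4, 0, 5, 2, 0, 4, 2, 0], [2, 0, 5, 2, 0, 5, 2, 2]]),
  ([0, 18, 20, 24], .good 0 [31, 15, 8] [[5, 2, 2, 0, 3, 3, 0, 2, 2, 0], [2, 2, 0, 4, 2, 2, 0]]),
  ([0, 18, 20, 22, 26], .good 0 [31, 15, 8] [[0, 3, 0, 4, 0, 5, 0, 2, 0], [0, 4, 0, 2, 0, 2, 0]]),
  ([0, 12, 24], .good 0 [31, 15, 8] [[4, 0, 2, 2, 0, 4, 3, 0, 3, 0], [3, 3, 0, 4, 4, 0, 3]]),
  ([0, 12, 22, 26], .good 0 [31, 15, 8] [[4, 0, 5, 0, 3, 0, 2, 0, 4, 0], [0, 2, 0, 3, 3, 0, 3, 3]]),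
  ([0, 10, 12, 14, 16, 18, 26], .good 0 [32, 10, 14] [[3, 3, 0, 4, 4, 3, 0, 2], [2, 0, 4, 4, 2, 0]]),
  ([0, 10, 12, 14, 16, 18, 20], .good 0 [32, 10, 14] [[5, 2, 0, 3, 3, 0, 4, 3, 3], [5, 0, 5, 3, 0, 4, 0, 4, 0]]),
  ([8, 26], .good 0 [11, 31, 4] [[0, 2, 0, 3, 0], [2, 0, 5, 5, 0, 2]]),
  ([8, 14, 18, 22, 24], .good 0 [11, 12, 6] [[0, 5, 3, 0, 4, 2, 0], [5, 2, 0, 4, 3, 3]])]

def phcL : List (List (List ℕ)) := [L1]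

noncomputable def phcF : List ℕ → Bool := nwB nets 2 (nat_lit 0x787721e268a147a8266278854199d128a4b0ee47a29b1ae470c81fb059023e3ed7ae77194338e16b532f293457e1f70901ed5afea06084fcc4ee5c236791243c506c727ca8689fa7a949c1ba5930b67a29b13d4c4818cacef7bc24afe322c41b04ae7950c731464ad118a2cc833aeabb0a840b161d3da5b47830b822f4f7cf3bd5bd5718682df59fd578964ad8d02ca34f64c62bbb36ce5475f2a39c66d93c5bbe7b56bafa8c5c97c1b3f3e1704889db225e67666a8e8be37946552acf7afd999daccd2fa3b93049dbda4826bce889075dee216cfb1cd3b89ee7f026ec0884cf85d701b5e8bfa6343946c2e57e5cbfcb21ab39add11e08eb4bbc52f6ac64129c142c608e75c1ed75036768aedf7b1d3e6f3fe207872c06f17b4e5d126a9a1910eac6580d1011c87dc9aee25ce80812f226ef452885e74378268072ca152f274873d046dd2f5034d60ac93b821e8310f801641ed7b5170149ef76a162ca83077f5c03f5744cdb2805cb2a547c363ba47add6241434e77bfcd52ed964784a2e3422eeee9812d89bb5f1f87512bac6f2a52ffc5a538eeb8b1aa157cd3c830118fc62bc39c5a3fd0ea1e217252babac93399247430d1f97b6517c1f9dff6f437702f5b7844373e3f8f017c104bf8ba23b7901bbfb6eddaba845d1789153ad171baf0ad42471bcaaac3172a860bcb52a547e7479a417dca44618c927beda)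 1 1755 12 (pcG phcP) [0, 1, 2, 1, 2, 1, 2] phcS

def ol1 : List (ℕ × List ℕ) := [(1, []), (2, [2]), (4, [0, 1, 2, 8]), (16, [0, 1, 5]), (28, [0, 2, 3, 4, 5, 6, 7, 8, 9, 11]), (44, [0, 1, 4, 5, 9, 10]), (76, [0, 1, 2, 3, 5, 6, 10, 11, 4, 7]), (228, [0, 1, 2, 3, 4, 7, 8])]

def ol2 : List (ℕ × List ℕ) := [(1756, []), (1757, [1, 0, 1, 0, 1, 0, 1, 0, 1, 0, 1, 0, 1, 0, 1, 0, 1, 0, 1, 0, 1, 0, 1, 0, 1, 0]), (1760, [0, 1, 0, 1, 0, 1, 0, 1, 0, 1, 1, 0, 1, 0, 1, 1, 0, 1, 0, 1]), (1762, [0, 1, 0, 1, 0, 1, 1, 0, 1, 0, 1, 0, 1, 0, 1, 0, 1]), (1765, [0, 1, 0, 1, 0, 1, 0, 1, 0, 1, 0, 1, 0, 1, 0, 1, 1, 0, 1, 0]), (1766, [0, 1, 0, 1, 0, 1, 0, 1, 0, 1, 1, 0, 1, 1, 0, 1, 0, 1, 0]), (1768, [0, 1, 0, 1, 1, 0, 1, 0, 1, 1, 0, 1, 0, 1, 1, 0, 1, 0, 1, 1, 0, 1])]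

def rwA : List (List ℕ × List ℕ × List ℕ) := [([], [38], [38, 32, 15, 35, 38])]

def rwN : List (List ℕ × ℕ × ℕ) := [([], 1, 1756), ([36], 969, 2574)]

def ol3 : List (ℕ × List ℕ) := [(0, []), (1, []), (2, [2, 12, 0, 1]), (4, [0, 1, 2, 8, 12, 0, 1]), (28, [0, 2, 3, 4, 5, 6, 7, 8, 9, 11]), (76, [0, 1, 2, 3, 5, 6, 10, 11, 12, 0, 3, 0]), (1756, [0, 1, 2, 3, 5, 6, 7, 8, 9, 11]), (1772, [0, 1, 2, 3, 4, 9, 10, 11, 12, 0, 6, 1, 0])]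

def ol4 : List (ℕ × List ℕ) := [(0, []), (1, [0, 1, 0, 1, 0, 1, 1, 0, 1, 1, 0, 1, 0, 1, 1, 0, 1, 1, 0, 1, 1, 0, 1]), (2, [1, 0, 1, 0, 1, 1, 0, 1, 0, 1, 1, 0, 1, 1, 0, 1, 1, 0, 1, 0, 1, 0, 1, 0]), (1756, []), (1757, [1, 0, 1, 0, 1, 1, 0, 1, 0, 1, 1, 0, 1, 1, 0, 1, 1, 0, 1, 0, 1, 0, 1, 0]), (1760, [0, 1, 0, 1, 0, 1, 1, 0, 1, 0, 1, 1, 0, 1, 1, 0, 1, 0, 1, 0, 1]), (1762, [0, 1, 0, 1, 1, 0, 1, 1, 0, 1, 1, 0, 1, 0, 1, 1, 0]), (1766, [0, 1, 0, 1, 0, 1, 1, 0, 1, 1, 0, 1, 1, 0, 1, 1, 0, 1]), (1768, [0, 1, 0, 1, 0, 1, 1, 0, 1, 1, 0, 1, 1, 0, 1, 1, 0, 1])]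

def ol5 : List (ℕ × List ℕ) := [(1, []), (2, [2, 12, 0, 1]), (4, [0, 1, 2, 8, 12, 0, 1]), (28, [0, 2, 3, 4, 5, 6, 7, 8, 9, 11]), (76, [0, 1, 2, 3, 5, 6, 10, 11, 12, 0, 3, 0])]

def ws4 : List (List ℕ) := [[0], [2], [4], [6], [8], [10], [12], [14], [16], [18], [20], [22], [24], [26]]

def ws5 : List (List ℕ) := [[4], [6]]

def prog : List Ins := [.fix 0 0 4060, .row 0 [], .fix 0 1 1755, .row 0 [38], .dif 2 1, .dif 0 1,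
  .fix 0 30 1024, .row 0 [38, 32, 34, 13], .and 8 6, .and 0 5, .and 0 2, .cnt 0 [38, 2, 6, 2, 0, 4, 4, 4, 6, 4, 0, 4, 0, 4, 4, 4, 2, 0, 2, 0, 4, 4, 2, 4, 2, 4, 2, 4, 0, 2, 4, 4, 0, 2, 0, 4, 4, 4, 6, 4, 0, 4, 0, 4, 4, 4, 6, 4, 0, 4, 0, 4, 4, 4, 6, 4, 0, 4, 0, 4, 4, 4, 6, 4, 0, 2, 0, 4, 2, 4, 4, 4, 2, 5, 5, 2, 5, 14, 2, 6, 4, 4, 4, 15, 0, 4, 4, 4, 6, 4, 0, 5, 0, 4, 0, 4, 0, 4, 4, 4, 6, 4, 0, 5, 0, 4, 4, 4, 15, 4, 0, 4, 0, 4, 4, 4, 6, 4, 0, 4, 6, 0, 4, 4, 4, 10, 4, 4, 6, 4, 0, 4, 4, 4, 16, 4, 4, 4, 6, 0, 4, 4, 4, 6, 4, 0, 4, 4, 4, 6, 5, 5, 6, 4, 6, 4, 0, 4, 4, 4, 6, 11, 6, 4, 4, 4, 11, 4, 4, 0, 4, 4, 4, 13, 4, 4, 4, 0, 4, 4, 4, 6, 4, 0, 4, 4, 4, 10, 4, 6, 4, 4, 4, 0, 6, 0, 6, 5, 0, 4, 0, 4, 4, 4, 11, 4, 4, 4, 33, 5, 6, 5, 16, 4, 4, 0, 4, 4, 4, 6, 4, 0, 4, 4, 4, 10, 4, 4, 4, 0, 18, 4, 4, 4, 0, 30, 4,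 4, 10, 15, 4, 4, 4, 0, 2, 10, 5, 2, 4, 4, 10, 6, 5, 10, 4, 4, 4, 11, 4, 4, 4, 24, 4, 4, 4, 4, 11, 5, 10, 4, 4, 4, 20, 4, 0, 20, 5, 6, 5, 16, 4, 4, 4, 30, 4, 4, 4, 0, 15, 31, 4, 4, 4, 0, 38, 5, 14, 5, 11, 4, 4, 4, 26, 4, 4, 4, 6, 24, 22, 13, 30, 6, 5, 0, 12, 4, 4, 4, 22, 38, 5, 32, 14, 2, 6, 20, 12, 2, 4, 8],
  .and 20 5, .and 0 8, .fix 0 25 5, .row 0 [38, 31, 6], .and 24 9, .dif 0 5,
  .and 0 9, .and 0 11, .and 0 4, .cnt 0 [38, 2, 31, 2, 14, 16, 22, 6, 4, 4, 4], .and 32 2, .and 0 2,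
  .and 0 30, .and 0 15, .and 0 12, .dif 0 22, .row 0 [38, 31, 38, 6], .and 39 25,
  .dif 0 25, .and 0 10, .dif 0 34, .row 0 [38, 2, 0], .and 44 29, .dif 0 29,
  .and 0 16, .and 0 23, .row 0 [38, 31, 38, 2], .and 49 35, .dif 0 35, .dif 0 31,
  .and 0 13, .dif 0 4, .fix 0 18 4, .row 0 [38, 2, 6, 5], .and 56 36, .dif 0 40,
  .and 0 14, .and 0 10, .dif 0 28, .and 0 5, .dif 0 23, .and 0 32,
  .row 0 [38, 2, 37, 16], .and 65 35, .and 0 34, .and 0 63, .dif 0 49, .dif 0 25,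
  .dif 0 46, .dif 0 32, .dif 0 7, .dif 0 17, .row 0 [38, 31, 2, 37, 38], .and 75 61,
  .dif 0 61, .dif 0 38, .dif 0 13, .dif 0 23, .dif 0 5, .row 0 [38, 37, 30, 11],
  .and 82 67, .and 0 53, .and 0 40, .and 0 46, .dif 0 54, .dif 0 22,
  .and 0 13, .dif 0 33, .row 0 [38, 32, 12, 18], .and 91 75, .dif 0 73, .and 0 37,
  .and 0 19, .and 0 30, .and 0 14, .dif 0 48, .and 0 74, .and 0 60,
  .row 0 [38, 2, 33, 38, 36, 15], .and 101 71, .and 0 71, .and 0 99, .and 0 84, .and 0 4,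
  .dif 0 82, .and 0 63, .dif 0 33, .row 0 [38, 31, 38], .and 110 86, .and 0 72,
  .and 0 56, .and 0 12, .dif 0 49, .and 0 24, .dif 0 114, .and 0 100,
  .dif 0 114, .row 0 [38, 30, 36, 38, 30, 35], .and 120 100, .dif 0 104, .and 0 83, .and 0 13,
  .dif 0 42, .and 0 93, .and 0 51, .and 0 7, .dif 0 63, .row 0 [38, 31, 34, 2],
  .and 130 122, .and 0 82, .and 0 93, .and 0 77, .and 0 24, .dif 0 118,
  .dif 0 71, .dif 0 62, .and 0 56, .dif 0 115, .dif 0 20, .row 0 [38, 33, 17, 0, 38, 34],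
  .and 142 134, .and 0 119, .and 0 95, .and 0 89, .and 0 26, .dif 0 46,
  .and 0 38, .dif 0 84, .row 0 [38, 32, 11, 38, 37], .and 151 135, .dif 0 133, .and 0 145,
  .and 0 3, .and 0 73, .and 0 26, .and 0 113, .row 0 [38, 34, 11, 38, 30], .keep [157, 155, 151, 135, 120, 103, 94, 84, 0, 68, 39, 8, 58, 127, 77, 49, 110, 17, 29, 128, 142, 115]]


end Cfsg.Agent.Lib.RuR
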