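import Cfsg.Agent.Lib.Rk3Iso
import Cfsg.Agent.Lib.RuTN0

set_option autoImplicit false
set_option maxRecDepth 100000
set_option Elab.async false

namespace Cfsg.Agent.Lib.RuT
open Cfsg.Agent.Lib.PermNet Cfsg.Agent.Lib.Words Cfsg.Agent.Lib.PermGroup Cfsg.Agent.Lib.Rk3Aut Cfsg.Agent.Lib.Rk3Emb
  Cfsg.Agent.Lib.Rk3PH Cfsg.Agent.Lib.Rk3Iso

noncomputable def nets : NL := (.cons net0 (.cons net1 (.cons net2 (.cons net3 (.cons net4 (.cons net5 (.cons net6 (.cons net7 (.cons net8 (.cons net9 (.cons net10 (.cons net11 (.cons net12 (.cons net13 (.cons net14 (.cons net15 .nil))))))))))))))))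

theorem hv : nets.Valid 4060 := ⟨valid0, ⟨valid1, ⟨valid2, ⟨valid3, ⟨valid4, ⟨valid5, ⟨valid6, ⟨valid7, ⟨valid8, ⟨valid9, ⟨valid10, ⟨valid11, ⟨valid12, ⟨valid13, ⟨valid14, ⟨valid15, trivial⟩⟩⟩⟩⟩⟩⟩⟩⟩⟩⟩⟩⟩⟩⟩⟩

def rels0 : List (List Nat × List Nat) := [([8], []),
  ([0, 0], []),
  ([2, 2], []),
  ([6, 6], []),
  ([10, 10], []),
  ([12, 12], []),
  ([22, 22], []),
  ([24, 24], []),
  ([26, 26], []),
  ([28, 28], []),
  ([30, 30], []),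
  ([12, 4], [5]),
  ([15, 2], [2, 5]),
  ([17, 14, 5], [5, 15]),
  ([19, 14, 12], [12, 15]),
  ([21, 14, 5], [0, 5, 0]),
  ([22, 14], [15]),
  ([24, 12, 2], [2, 19]),
  ([26, 5, 16], [5, 17]),
  ([28, 0, 20], [0, 21]),
  ([30, 18], [19]),
  ([4, 4], [12]),
  ([12, 4], [4, 12]),
  ([0, 4, 30, 26, 24], [4, 0, 14, 20]),
  ([14, 4, 30, 22], [4, 14, 16]),
  ([16, 4, 28, 26, 24], [4, 16, 18, 22]),
  ([18, 4, 24], [4, 18]),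
  ([20, 4, 24], [4, 20]),
  ([22, 4, 24], [4, 22]),
  ([24, 4, 26], [4, 24]),
  ([26, 4, 30], [4, 26, 28]),
  ([28, 4], [4, 28]),
  ([30, 4], [4, 30]),
  ([0, 12, 26], [12, 0, 16]),
  ([14, 12, 30, 22], [12, 14, 18]),
  ([16, 12, 30, 28], [12, 16, 26]),
  ([18, 12, 26], [12, 18]),
  ([20, 12, 26], [12, 20]),
  ([22, 12, 26], [12, 22]),
  ([24, 12, 30], [12, 24, 28]),
  ([26, 12], [12, 26]),
  ([28, 12], [12, 28]),
  ([30, 12], [12, 30]),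
  ([14, 0], [0, 14]),
  ([16, 0, 28], [0, 16, 26]),
  ([18, 0, 30, 26], [0, 18, 24]),
  ([20, 0, 26, 24], [0, 20, 22]),
  ([22, 0], [0, 22]),
  ([24, 0, 30], [0, 24]),
  ([26, 0, 30], [0, 26]),
  ([28, 0, 30], [0, 28]),
  ([30, 0], [0, 30]),
  ([14, 14], [22]),
  ([16, 14, 30, 28], [14, 16, 24, 26]),
  ([18, 14, 26], [14, 18]),
  ([20, 14, 28, 26], [14, 20, 24]),
  ([22, 14], [14, 22]),
  ([24, 14], [14, 24]),
  ([26, 14, 30], [14, 26]),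
  ([28, 14], [14, 28]),
  ([30, 14], [14, 30]),
  ([16, 16, 30], [26, 28]),
  ([18, 16, 30], [16, 18, 28]),
  ([20, 16, 28], [16, 20, 26]),
  ([22, 16, 30], [16, 22]),
  ([24, 16, 30], [16, 24]),
  ([26, 16], [16, 26]),
  ([28, 16], [16, 28]),
  ([30, 16], [16, 30]),
  ([18, 18], [30]),
  ([20, 18, 30], [18, 20, 28]),
  ([22, 18, 30], [18, 22]),
  ([24, 18], [18, 24]),
  ([26, 18], [18, 26]),
  ([28, 18], [18, 28]),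
  ([30, 18], [18, 30]),
  ([20, 20], [28, 30]),
  ([22, 20, 30], [20, 22]),
  ([24, 20], [20, 24]),
  ([26, 20], [20, 26]),
  ([28, 20], [20, 28]),
  ([30, 20], [20, 30]),
  ([24, 22], [22, 24]),
  ([26, 22], [22, 26]),
  ([28, 22], [22, 28]),
  ([30, 22], [22, 30]),
  ([26, 24], [24, 26]),
  ([28, 24], [24, 28]),
  ([30, 24], [24, 30]),
  ([28, 26], [26, 28]),
  ([30, 26], [26, 30]),
  ([30, 28], [28, 30]),
  ([6, 0, 6], [28, 22, 18]),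
  ([6, 14, 6], [24, 20, 16]),
  ([6, 16, 6, 5], [5, 19, 0]),
  ([6, 18, 6], [28, 22, 0]),
  ([6, 20, 6], [0, 21, 19]),
  ([6, 22, 6], [20, 20]),
  ([6, 24, 6], [22, 16, 16]),
  ([6, 26, 6, 4], [26, 4, 22]),
  ([6, 28, 6], [30, 22]),
  ([6, 30], [30, 6]),
  ([2, 4], [14, 2]),
  ([2, 12], [22, 2]),
  ([2, 14], [4, 2]),
  ([2, 16, 2], [16, 12, 22]),
  ([2, 18, 2], [12, 24]),
  ([2, 20, 2], [17, 21, 12]),
  ([2, 22], [12, 2]),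
  ([2, 24, 2], [22, 18]),
  ([2, 26], [26, 2]),
  ([2, 28], [28, 2]),
  ([2, 30, 2], [20, 20]),
  ([0, 2, 0], [2, 0, 2]),
  ([6, 4, 6], [4, 6, 12]),
  ([6, 12, 6], [5, 6, 4]),
  ([2, 6, 2, 6, 2, 6, 2, 6], [6, 2, 6, 2, 6, 2, 6, 2]),
  ([10, 4, 10, 5], [8, 16, 16, 15]),
  ([10, 12, 10, 5, 16], [9, 9, 28, 4]),
  ([10, 0], [0, 10]),
  ([10, 14, 10], [9, 9, 15]),
  ([10, 16, 10], [16, 24]),
  ([10, 18, 10], [0, 19, 0]),
  ([10, 20, 10, 21], [9, 9, 22]),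
  ([10, 22], [22, 10]),
  ([10, 24], [24, 10]),
  ([10, 26], [26, 10]),
  ([10, 28, 10], [20, 20]),
  ([10, 30], [30, 10]),
  ([10, 6, 10, 19], [9, 9, 6, 0]),
  ([10, 2, 10, 2], [9, 9, 2, 10]),
  ([10, 2, 6, 2, 10, 0, 2, 4, 6, 2], [8, 0, 2, 4, 6, 2, 15, 0, 10]),
  ([10, 2, 6, 2, 6, 2, 6, 10, 6, 2, 6, 2, 6], [9, 9, 19, 0, 2, 6, 2, 6, 2, 0, 18, 10, 2]),
  ([8, 8], [9, 9]),
  ([8, 4], [4, 8]),
  ([8, 12], [12, 8]),
  ([8, 0], [0, 8]),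
  ([8, 14], [14, 8]),
  ([8, 16], [16, 8]),
  ([8, 18], [18, 8]),
  ([8, 20], [20, 8]),
  ([8, 22], [22, 8]),
  ([8, 24], [24, 8]),
  ([8, 26], [26, 8]),
  ([8, 28], [28, 8]),
  ([8, 30], [30, 8]),
  ([8, 2], [2, 8]),
  ([8, 6], [6, 8]),
  ([8, 10], [10, 8]),
  ([6, 2, 4, 4, 6, 2, 4, 4, 6, 2, 4, 4, 6, 2, 4, 4, 6, 2, 4, 4, 6, 2, 4, 4, 6, 2], [5, 5, 2, 6, 5, 5, 2, 6, 5, 5, 2, 6, 5, 5, 2, 6, 5, 5, 2, 6, 5, 5, 2, 6, 5, 5])]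
def rels : List (List Nat × List Nat) := rels0

def defs : List (List Nat) := [[4, 4], [2, 4, 2], [14, 5, 14, 4], [14, 12, 14, 12], [14, 5, 0, 4, 0], [14, 14], [12, 2, 18, 2], [5, 16, 16, 4], [0, 20, 20, 0], [18, 18]]

def K1 : List (List Nat) := [[0, 0], [2, 2], [6, 6], [12, 12], [22, 22], [24, 24], [26, 26], [28, 28], [30, 30], [13, 4, 4], [15, 2, 4, 2], [17, 14, 5, 14, 4], [19, 14, 12, 14, 12], [21, 14, 5, 0, 4, 0], [23, 14, 14], [25, 12, 2, 18, 2], [27, 5, 16, 16, 4], [29, 0, 20, 20, 0], [31, 18, 18], [4, 4, 13], [12, 4, 13, 5], [0, 4, 31, 27, 25, 21, 15, 1, 5], [14, 4, 31, 23, 17, 15, 5], [16, 4, 29, 27, 25, 23, 19, 17, 5], [18, 4, 25, 19, 5], [20, 4, 25, 21, 5], [22, 4, 25, 23, 5], [24, 4, 27, 25, 5], [26, 4, 31, 29, 27, 5], [28, 4, 29, 5], [30, 4, 31, 5], [12, 12], [0, 12, 27, 17, 1, 13], [14, 12, 31, 23, 19, 15, 13], [16,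 12, 31, 29, 27, 17, 13], [18, 12, 27, 19, 13], [20, 12, 27, 21, 13], [22, 12, 27, 23, 13], [24, 12, 31, 29, 25, 13], [26, 12, 27, 13], [28, 12, 29, 13], [30, 12, 31, 13], [0, 0], [14, 0, 15, 1], [16, 0, 29, 27, 17, 1], [18, 0, 31, 27, 25, 19, 1], [20, 0, 27, 25, 23, 21, 1], [22, 0, 23, 1], [24, 0, 31, 25, 1], [26, 0, 31, 27, 1], [28, 0, 31, 29, 1], [30, 0, 31, 1], [14, 14, 23], [16, 14, 31, 29, 27, 25, 17, 15], [18, 14, 27, 19, 15], [20, 14, 29, 27, 25, 21, 15], [22, 14, 23, 15], [24, 14, 25, 15], [26, 14, 31, 27, 15], [28, 14, 29, 15], [30, 14, 31, 15], [16, 16, 31, 29, 27], [18, 16, 31, 29, 19, 17], [20, 16, 29, 27, 21, 17], [22, 16, 31, 23, 17], [24, 16, 31, 25, 17], [26, 16, 27, 17], [28, 16, 29, 17], [30, 16, 31, 17], [18, 18, 31], [20, 18, 31, 29, 21, 19], [22, 18, 31, 23, 19], [24, 18, 25, 19], [26, 18, 27, 19], [28, 18,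 29, 19], [30, 18, 31, 19], [20, 20, 31, 29], [22, 20, 31, 23, 21], [24, 20, 25, 21], [26, 20, 27, 21], [28, 20, 29, 21], [30, 20, 31, 21], [22, 22], [24, 22, 25, 23], [26, 22, 27, 23], [28, 22, 29, 23], [30, 22, 31, 23], [24, 24], [26, 24, 27, 25], [28, 24, 29, 25], [30, 24, 31, 25], [26, 26], [28, 26, 29, 27], [30, 26, 31, 27], [28, 28], [30, 28, 31, 29], [30, 30], [6, 0, 6, 19, 23, 29], [6, 14, 6, 17, 21, 25], [6, 16, 6, 5, 1, 18, 4], [6, 18, 6, 1, 23, 29], [6, 20, 6, 18, 20, 1], [6, 22, 6, 21, 21], [6, 24, 6, 17, 17, 23], [6, 26, 6, 4, 23, 5, 27], [6, 28, 6, 23, 31], [6, 30, 6, 31], [2, 4, 2, 15], [2, 12, 2, 23], [2, 14, 2, 5], [2, 16, 2, 23, 13, 17], [2, 18, 2, 25, 13], [2, 20, 2, 13, 20, 16], [2, 22, 2, 13], [2, 24, 2, 19, 23], [2, 26, 2, 27], [2, 28, 2, 29], [2, 30, 2, 21, 21], [0, 2, 0, 2, 0, 2], [6, 4, 6, 13, 7, 5], [6,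 12, 6, 5, 7, 4], [2, 6, 2, 6, 2, 6, 2, 6, 2, 6, 2, 6, 2, 6, 2, 6]]

def K2 : List (List Nat) := [[10, 10], [10, 4, 10, 5, 14, 17, 17, 9], [10, 12, 10, 5, 16, 5, 29, 8, 8], [10, 0, 10, 1], [10, 14, 10, 14, 8, 8], [10, 16, 10, 25, 17], [10, 18, 10, 1, 18, 1], [10, 20, 10, 21, 23, 8, 8], [10, 22, 10, 23], [10, 24, 10, 25], [10, 26, 10, 27], [10, 28, 10, 21, 21], [10, 30, 10, 31], [10, 6, 10, 19, 1, 7, 8, 8], [10, 2, 10, 2, 10, 2, 8, 8], [10, 2, 6, 2, 10, 0, 2, 4, 6, 2, 10, 0, 14, 2, 6, 5, 2, 0, 9], [10, 2, 6, 2, 6, 2, 6, 10, 6, 2, 6, 2, 6, 2, 10, 19, 0, 2, 6, 2, 6, 2, 0, 18, 8, 8], [8, 8, 8, 8], [8, 4, 9, 5], [8, 12, 9, 13], [8, 0, 9, 1], [8, 14, 9, 15], [8, 16, 9, 17], [8, 18, 9, 19], [8, 20, 9, 21], [8, 22, 9, 23], [8, 24, 9, 25], [8, 26, 9, 27], [8, 28, 9, 29], [8, 30, 9, 31], [8, 2, 9, 3], [8, 6, 9, 7], [8, 10, 9, 11]]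

def I1 : List Nat := [0, 1, 3, 5, 6, 11, 12, 13, 14, 15]

def dU : PC := [(2, 2, [12], [[12], [0, 14, 20, 24, 26, 30], [14, 16, 22, 30], [16, 18, 22, 24, 26, 28], [18, 24], [20, 24], [22, 24], [24, 26], [26, 28, 30], [28], [30]]),
  (6, 2, [], [[0, 16, 26], [14, 18, 22, 30], [16, 26, 28, 30], [18, 26], [20, 26], [22, 26], [24, 28, 30], [26], [28], [30]]),
  (0, 2, [], [[14], [16, 26, 28], [18, 24, 26, 30], [20, 22, 24, 26], [22], [24, 30], [26, 30], [28, 30], [30]]),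
  (7, 2, [22], [[16, 24, 26, 28, 30], [18, 26], [20, 24, 26, 28], [22], [24], [26, 30], [28], [30]]),
  (8, 2, [26, 28, 30], [[18, 28, 30], [20, 26, 28], [22, 30], [24, 30], [26], [28], [30]]),
  (9, 2, [30], [[20, 28, 30], [22, 30], [24], [26], [28], [30]]),
  (10, 2, [28, 30], [[22, 30], [24], [26], [28], [30]]),
  (11, 2, [], [[24], [26], [28], [30]]),
  (12, 2, [], [[26], [28], [30]]),
  (13, 2, [], [[28], [30]]),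
  (14, 2, [], [[30]]),
  (15, 2, [], [])]


def hs : List (List ℕ) := [[4], [12], [0], [14], [16], [18], [20], [22], [24], [26], [28], [30], [2], [6], [8]]

def sb : List ℕ := [12, 2, 13, 0, 1, 12, 2, 13, 0, 1, 12, 2, 13, 0, 1, 12, 2]

def sc : List ℕ := [0, 1, 2, 3, 5, 6, 7, 8, 9, 11, 12, 13, 0, 0]

def ls : List (List ℕ) := [[4], [12], [0], [14], [16], [18], [20], [22], [24], [26], [28], [30], [2], [6], [8], [10]]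


end Cfsg.Agent.Lib.RuT
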