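import Cfsg.Agent.Lib.RuTaD0

set_option autoImplicit false
set_option maxRecDepth 100000

namespace Cfsg.Agent.Lib.RuTa
open Cfsg.Agent.Lib.TCCore

noncomputable def tb : T := l0
noncomputable def w0 : WT := (.node (nat_lit 1) (.leaf (nat_lit 0) [nat_lit 36]) (.leaf (nat_lit 13316) [nat_lit 48, nat_lit 24]))
noncomputable def w1 : WT := (.leaf (nat_lit 2) [nat_lit 24])
noncomputable def w2 : WT := (.node (nat_lit 1) (.leaf (nat_lit 1024) [nat_lit 48]) (.node (nat_lit 2) (.leaf (nat_lit 13312) [nat_lit 24, nat_lit 24]) (.leaf (nat_lit 104454) [nat_lit 228, nat_lit 36, nat_lit 228, nat_lit 24, nat_lit 228])))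
noncomputable def w3 : WT := (.node (nat_lit 2) (.node (nat_lit 1) (.leaf (nat_lit 16394) [nat_lit 156, nat_lit 72, nat_lit 36, nat_lit 60, nat_lit 24]) (.leaf (nat_lit 33792) [nat_lit 48, nat_lit 192, nat_lit 108, nat_lit 60, nat_lit 48])) (.node (nat_lit 3) (.leaf (nat_lit 94210) [nat_lit 228, nat_lit 132, nat_lit 168, nat_lit 204, nat_lit 228]) (.leaf (nat_lit 98305) [nat_lit 156, nat_lit 132, nat_lit 228, nat_lit 156, nat_lit 228])))
noncomputable def w4 : WT := (.node (nat_lit 1) (.leaf (nat_lit 3072) [nat_lit 84]) (.node (nat_lit 2) (.leaf (nat_lit 14338) [nat_lit 36, nat_lit 72, nat_lit 24, nat_lit 108]) (.leaf (nat_lit 95234) [nat_lit 228, nat_lit 108, nat_lit 156, nat_lit 180, nat_lit 228])))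
noncomputable def w5 : WT := (.node (nat_lit 1) (.leaf (nat_lit 3074) [nat_lit 72]) (.node (nat_lit 2) (.leaf (nat_lit 34826) [nat_lit 48, nat_lit 72, nat_lit 48, nat_lit 216, nat_lit 168, nat_lit 132]) (.leaf (nat_lit 23564) [nat_lit 60, nat_lit 36, nat_lit 60, nat_lit 24, nat_lit 216, nat_lit 192, nat_lit 180, nat_lit 156])))
noncomputable def w6 : WT := (.node (nat_lit 1) (.leaf (nat_lit 96258) [nat_lit 228, nat_lit 36, nat_lit 60, nat_lit 120, nat_lit 24, nat_lit 228]) (.node (nat_lit 2) (.leaf (nat_lit 14345) [nat_lit 36, nat_lit 84, nat_lit 24, nat_lit 84]) (.leaf (nat_lit 35840) [nat_lit 48, nat_lit 216, nat_lit 204, nat_lit 192, nat_lit 108, nat_lit 48])))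
noncomputable def w7 : WT := (.leaf (nat_lit 4098) [nat_lit 96])
noncomputable def w8 : WT := (.node (nat_lit 1) (.leaf (nat_lit 5120) [nat_lit 132]) (.node (nat_lit 2) (.leaf (nat_lit 36864) [nat_lit 48, nat_lit 192, nat_lit 132, nat_lit 48]) (.leaf (nat_lit 97282) [nat_lit 228, nat_lit 60, nat_lit 168, nat_lit 204, nat_lit 228])))
noncomputable def w9 : WT := (.node (nat_lit 1) (.leaf (nat_lit 5122) [nat_lit 120]) (.node (nat_lit 2) (.leaf (nat_lit 26630) [nat_lit 36, nat_lit 120, nat_lit 24, nat_lit 180]) (.leaf (nat_lit 25612) [nat_lit 108, nat_lit 36, nat_lit 96, nat_lit 24, nat_lit 204, nat_lit 192, nat_lit 180, nat_lit 168])))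
noncomputable def w10 : WT := (.node (nat_lit 1) (.leaf (nat_lit 6144) [nat_lit 156]) (.node (nat_lit 2) (.leaf (nat_lit 37888) [nat_lit 48, nat_lit 192, nat_lit 156, nat_lit 48]) (.leaf (nat_lit 98306) [nat_lit 228, nat_lit 120, nat_lit 144, nat_lit 60, nat_lit 228])))
noncomputable def w11 : WT := (.node (nat_lit 1) (.leaf (nat_lit 6146) [nat_lit 144]) (.leaf (nat_lit 27654) [nat_lit 36, nat_lit 144, nat_lit 24, nat_lit 180]))
noncomputable def w12 : WT := (.node (nat_lit 1) (.leaf (nat_lit 101384) [nat_lit 36, nat_lit 192, nat_lit 228, nat_lit 192, nat_lit 228, nat_lit 24]) (.node (nat_lit 2) (.leaf (nat_lit 38912) [nat_lit 48, nat_lit 192, nat_lit 168, nat_lit 48]) (.leaf (nat_lit 99330) [nat_lit 228, nat_lit 156, nat_lit 156, nat_lit 228])))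
noncomputable def w13 : WT := (.node (nat_lit 2) (.node (nat_lit 1) (.leaf (nat_lit 28676) [nat_lit 168, nat_lit 36, nat_lit 168, nat_lit 24]) (.leaf (nat_lit 29702) [nat_lit 36, nat_lit 180, nat_lit 24, nat_lit 192])) (.node (nat_lit 3) (.leaf (nat_lit 95233) [nat_lit 144, nat_lit 96, nat_lit 228, nat_lit 84, nat_lit 228]) (.leaf (nat_lit 100354) [nat_lit 228, nat_lit 108, nat_lit 108, nat_lit 168, nat_lit 228])))
noncomputable def w14 : WT := (.node (nat_lit 2) (.node (nat_lit 1) (.leaf (nat_lit 40960) [nat_lit 48, nat_lit 192, nat_lit 48]) (.leaf (nat_lit 18432) [nat_lit 36, nat_lit 96, nat_lit 96, nat_lit 24])) (.node (nat_lit 3) (.leaf (nat_lit 29700) [nat_lit 180, nat_lit 36, nat_lit 180, nat_lit 24]) (.leaf (nat_lit 101378) [nat_lit 228, nat_lit 24, nat_lit 168, nat_lit 36, nat_lit 192, nat_lit 228])))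
noncomputable def w15 : WT := (.node (nat_lit 2) (.node (nat_lit 1) (.leaf (nat_lit 31748) [nat_lit 36, nat_lit 204, nat_lit 24]) (.leaf (nat_lit 102402) [nat_lit 228, nat_lit 168, nat_lit 216, nat_lit 228])) (.node (nat_lit 3) (.leaf (nat_lit 39942) [nat_lit 180, nat_lit 48, nat_lit 180, nat_lit 48, nat_lit 216]) (.leaf (nat_lit 71686) [nat_lit 156, nat_lit 132, nat_lit 144, nat_lit 120, nat_lit 216])))
noncomputable def w16 : WT := (.node (nat_lit 2) (.node (nat_lit 1) (.leaf (nat_lit 32772) [nat_lit 36, nat_lit 216, nat_lit 24]) (.leaf (nat_lit 103426) [nat_lit 228, nat_lit 216, nat_lit 228])) (.node (nat_lit 3) (.leaf (nat_lit 49156) [nat_lit 180, nat_lit 60, nat_lit 180, nat_lit 60]) (.leaf (nat_lit 78852) [nat_lit 168, nat_lit 156, nat_lit 168, nat_lit 144])))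
noncomputable def w17 : WT := (.node (nat_lit 1) (.leaf (nat_lit 12288) [nat_lit 228]) (.leaf (nat_lit 104452) [nat_lit 48, nat_lit 228, nat_lit 36, nat_lit 228, nat_lit 24]))
noncomputable def wP : WT := (.leaf (nat_lit 0) [nat_lit 24, nat_lit 36])
noncomputable def P : Par := ⟨tb, nat_lit 240, nat_lit 0xffffffffffffffffffffffffffffffffffffffffffffffffffffffffffff, nat_lit 5, nat_lit 4095, nat_lit 7, nat_lit 12, nat_lit 3, nat_lit 5,
  [nat_lit 24, nat_lit 36, nat_lit 48, nat_lit 60, nat_lit 72, nat_lit 84, nat_lit 96, nat_lit 108, nat_lit 120, nat_lit 132, nat_lit 144, nat_lit 156, nat_lit 168, nat_lit 180, nat_lit 192, nat_lit 204, nat_lit 216, nat_lit 228], [nat_lit 24, nat_lit 48, nat_lit 60, nat_lit 72, nat_lit 96, nat_lit 120, nat_lit 144, nat_lit 168, nat_lit 180, nat_lit 192, nat_lit 204, nat_lit 216], wP,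
  (.cons (nat_lit 24) w0 (.cons (nat_lit 36) w1 (.cons (nat_lit 48) w2 (.cons (nat_lit 60) w3 (.cons (nat_lit 72) w4 (.cons (nat_lit 84) w5 (.cons (nat_lit 96) w6 (.cons (nat_lit 108) w7 (.cons (nat_lit 120) w8 (.cons (nat_lit 132) w9 (.cons (nat_lit 144) w10 (.cons (nat_lit 156) w11 (.cons (nat_lit 168) w12 (.cons (nat_lit 180) w13 (.cons (nat_lit 192) w14 (.cons (nat_lit 204) w15 (.cons (nat_lit 216) w16 (.cons (nat_lit 228) w17 .nil)))))))))))))))))),
  .nil⟩

end Cfsg.Agent.Lib.RuTa
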