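import Cfsg.Agent.Lib.TCGroup
import Cfsg.Agent.Lib.RuTbC0

set_option autoImplicit false
set_option maxRecDepth 100000

namespace Cfsg.Agent.Lib.RuTb
open Cfsg.Agent.Lib.TCCore

theorem rowsS : P.RowsS 0 P.N := s0

theorem rowsT : P.RowsT P.N P.M := t0

def base : List (List Nat) := [
  [0, 1],
  [2, 2],
  [3, 3],
  [4, 5],
  [6, 7],
  [8, 9],
  [10, 11],
  [12, 12],
  [13, 13],
  [14, 14],
  [15, 15],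
  [16, 16],
  [17, 17],
  [18, 18],
  [2, 0, 0],
  [5, 17, 0, 17],
  [7, 4, 1, 4, 0],
  [9, 4, 2, 4, 2],
  [11, 4, 1, 3, 0, 3],
  [12, 4, 4],
  [13, 2, 17, 8, 17],
  [14, 1, 6, 6, 0],
  [15, 3, 10, 10, 3],
  [16, 8, 8],
  [0, 0, 2],
  [2, 0, 2, 1],
  [3, 0, 16, 14, 13, 11, 5, 3, 1],
  [4, 0, 16, 12, 7, 5, 1],
  [6, 0, 15, 14, 13, 12, 9, 7, 1],
  [8, 0, 13, 9, 1],
  [10, 0, 13, 11, 1],
  [12, 0, 13, 12, 1],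
  [13, 0, 14, 13, 1],
  [14, 0, 16, 15, 14, 1],
  [15, 0, 15, 1],
  [16, 0, 16, 1],
  [3, 2, 14, 7, 3, 2],
  [4, 2, 16, 12, 9, 5, 2],
  [6, 2, 16, 15, 14, 7, 2],
  [8, 2, 14, 9, 2],
  [10, 2, 14, 11, 2],
  [12, 2, 14, 12, 2],
  [13, 2, 16, 15, 13, 2],
  [14, 2, 14, 2],
  [15, 2, 15, 2],
  [16, 2, 16, 2],
  [4, 3, 5, 3],
  [6, 3, 15, 14, 7, 3],
  [8, 3, 16, 14, 13, 9, 3],
  [10, 3, 14, 13, 12, 11, 3],
  [12, 3, 12, 3],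
  [13, 3, 16, 13, 3],
  [14, 3, 16, 14, 3],
  [15, 3, 16, 15, 3],
  [16, 3, 16, 3],
  [4, 4, 12],
  [6, 4, 16, 15, 14, 13, 7, 5],
  [8, 4, 14, 9, 5],
  [10, 4, 15, 14, 13, 11, 5],
  [12, 4, 12, 5],
  [13, 4, 13, 5],
  [14, 4, 16, 14, 5],
  [15, 4, 15, 5],
  [16, 4, 16, 5],
  [6, 6, 16, 15, 14],
  [8, 6, 16, 15, 9, 7],
  [10, 6, 15, 14, 11, 7],
  [12, 6, 16, 12, 7],
  [13, 6, 16, 13, 7],
  [14, 6, 14, 7],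
  [15, 6, 15, 7],
  [16, 6, 16, 7],
  [8, 8, 16],
  [10, 8, 16, 15, 11, 9],
  [12, 8, 16, 12, 9],
  [13, 8, 13, 9],
  [14, 8, 14, 9],
  [15, 8, 15, 9],
  [16, 8, 16, 9],
  [10, 10, 16, 15],
  [12, 10, 16, 12, 11],
  [13, 10, 13, 11],
  [14, 10, 14, 11],
  [15, 10, 15, 11],
  [16, 10, 16, 11],
  [13, 12, 13, 12],
  [14, 12, 14, 12],
  [15, 12, 15, 12],
  [16, 12, 16, 12],
  [14, 13, 14, 13],
  [15, 13, 15, 13],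
  [16, 13, 16, 13],
  [15, 14, 15, 14],
  [16, 14, 16, 14],
  [16, 15, 16, 15],
  [18, 3, 18, 9, 12, 15],
  [18, 4, 18, 7, 11, 13],
  [18, 6, 18, 1, 3, 8, 0],
  [18, 8, 18, 3, 12, 15],
  [18, 10, 18, 8, 10, 3],
  [18, 12, 18, 11, 11],
  [18, 13, 18, 7, 7, 12],
  [18, 14, 18, 0, 12, 1, 14],
  [18, 15, 18, 12, 16],
  [18, 16, 18, 16],
  [17, 0, 17, 5],
  [17, 2, 17, 12],
  [17, 4, 17, 1],
  [17, 6, 17, 12, 2, 7],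
  [17, 8, 17, 13, 2],
  [17, 10, 17, 2, 10, 6],
  [17, 12, 17, 2],
  [17, 13, 17, 9, 12],
  [17, 14, 17, 14],
  [17, 15, 17, 15],
  [17, 16, 17, 11, 11],
  [3, 17, 3, 17, 3, 17],
  [18, 0, 18, 2, 18, 1],
  [18, 2, 18, 1, 18, 0],
  [17, 18, 17, 18, 17, 18, 17, 18, 17, 18, 17, 18, 17, 18, 17, 18]]

theorem static_ok : TCGroup.static P base [1, 0, 2, 3, 5, 4, 7, 6, 9, 8, 11, 10, 12, 13, 14, 15, 16, 17, 18] 19 19 [0, 2, 3, 4, 6, 8, 10, 12, 13, 14, 15, 16, 18] = true := by decide +kernel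

theorem bound {G : Type*} [Group G] (y : Nat → G) (H : Subgroup G)
    (hrel : ∀ r ∈ base, (r.map y).prod = 1) (hinv : ∀ i < 19, y (List.getD [1, 0, 2, 3, 5, 4, 7, 6, 9, 8, 11, 10, 12, 13, 14, 15, 16, 17, 18] i i) = (y i)⁻¹)
    (hsub : ∀ i ∈ ([0, 2, 3, 4, 6, 8, 10, 12, 13, 14, 15, 16, 18] : List Nat), y i ∈ H) :
    H.relIndex (Subgroup.closure (y '' {i | i < 19})) ≠ 0 ∧
      H.relIndex (Subgroup.closure (y '' {i | i < 19})) ≤ 1755 :=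
  TCGroup.relIndex_le y 19 19 base [1, 0, 2, 3, 5, 4, 7, 6, 9, 8, 11, 10, 12, 13, 14, 15, 16, 17, 18] [0, 2, 3, 4, 6, 8, 10, 12, 13, 14, 15, 16, 18] P H hrel hinv hsub static_ok rowsS rowsT

end Cfsg.Agent.Lib.RuTb
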