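import Cfsg.Agent.Lib.RuTbD0

set_option autoImplicit false
set_option maxRecDepth 100000

namespace Cfsg.Agent.Lib.RuTb
open Cfsg.Agent.Lib.TCCore

noncomputable def n0 : T := (.node (nat_lit 172) l3 l4)
noncomputable def n1 : T := (.node (nat_lit 387) l8 l9)
noncomputable def n2 : T := (.node (nat_lit 602) l13 l14)
noncomputable def n3 : T := (.node (nat_lit 817) l18 l19)
noncomputable def n4 : T := (.node (nat_lit 1032) l23 l24)
noncomputable def n5 : T := (.node (nat_lit 1247) l28 l29)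
noncomputable def n6 : T := (.node (nat_lit 1462) l33 l34)
noncomputable def n7 : T := (.node (nat_lit 1591) l36 l37)
noncomputable def n8 : T := (.node (nat_lit 1720) l39 l40)
noncomputable def tb : T := (.node (nat_lit 860) (.node (nat_lit 430) (.node (nat_lit 215) (.node (nat_lit 86) (.node (nat_lit 43) l0 l1) (.node (nat_lit 129) l2 n0)) (.node (nat_lit 301) (.node (nat_lit 258) l5 l6) (.node (nat_lit 344) l7 n1))) (.node (nat_lit 645) (.node (nat_lit 516) (.node (nat_lit 473) l10 l11) (.node (nat_lit 559) l12 n2)) (.node (nat_lit 731) (.node (nat_lit 688) l15 l16) (.node (nat_lit 774) l17 n3)))) (.node (nat_lit 1290) (.node (nat_lit 1075) (.node (nat_lit 946) (.node (nat_lit 903) l20 l21) (.node (nat_lit 989) l22 n4)) (.node (nat_lit 1161) (.node (nat_lit 1118) l25 l26) (.node (nat_lit 1204) l27 n5))) (.node (nat_lit 1505) (.node (nat_lit 1376) (.node (nat_lit 1333) l30 l31) (.node (nat_lit 1419) l32 n6)) (.node (nat_lit 1634) (.node (nat_lit 1548) l35 n7)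 (.node (nat_lit 1677) l38 n8)))))
noncomputable def r0 : WT := (.node (nat_lit 3) (.leaf (nat_lit 14338) [nat_lit 42, nat_lit 84]) (.leaf (nat_lit 21512) [nat_lit 336, nat_lit 63, nat_lit 168, nat_lit 168]))
noncomputable def r1 : WT := (.node (nat_lit 5) (.leaf (nat_lit 34818) [nat_lit 357, nat_lit 63, nat_lit 357]) (.leaf (nat_lit 21511) [nat_lit 336, nat_lit 63, nat_lit 189, nat_lit 189]))
noncomputable def r2 : WT := (.node (nat_lit 7) (.leaf (nat_lit 32770) [nat_lit 336, nat_lit 315, nat_lit 63, nat_lit 315]) (.leaf (nat_lit 35842) [nat_lit 378, nat_lit 63, nat_lit 378]))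
noncomputable def r3 : WT := (.node (nat_lit 9) (.leaf (nat_lit 33794) [nat_lit 378, nat_lit 357, nat_lit 336, nat_lit 63, nat_lit 336]) (.leaf (nat_lit 18440) [nat_lit 105, nat_lit 273, nat_lit 126, nat_lit 63, nat_lit 105]))
noncomputable def r4 : WT := (.node (nat_lit 11) (.leaf (nat_lit 15364) [nat_lit 399, nat_lit 147, nat_lit 399]) (.leaf (nat_lit 31746) [nat_lit 315, nat_lit 294, nat_lit 63, nat_lit 294]))
noncomputable def r5 : WT := (.node (nat_lit 13) (.leaf (nat_lit 28673) [nat_lit 168, nat_lit 210, nat_lit 294, nat_lit 315, nat_lit 336, nat_lit 357, nat_lit 63, nat_lit 189]) (.node (nat_lit 14) (.leaf (nat_lit 16389) [nat_lit 147, nat_lit 168, nat_lit 63, nat_lit 147]) (.leaf (nat_lit 119810) [nat_lit 420, nat_lit 84, nat_lit 420, nat_lit 63, nat_lit 420])))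
noncomputable def r6 : WT := (.node (nat_lit 17) (.node (nat_lit 16) (.leaf (nat_lit 29698) [nat_lit 315, nat_lit 231, nat_lit 63, nat_lit 210]) (.leaf (nat_lit 30721) [nat_lit 252, nat_lit 315, nat_lit 63, nat_lit 273])) (.node (nat_lit 18) (.leaf (nat_lit 30722) [nat_lit 315, nat_lit 273, nat_lit 63, nat_lit 252]) (.leaf (nat_lit 16392) [nat_lit 189, nat_lit 126, nat_lit 63, nat_lit 126])))
noncomputable def r7 : WT := (.node (nat_lit 30) (.leaf (nat_lit 104454) [nat_lit 294, nat_lit 63, nat_lit 336, nat_lit 420, nat_lit 336, nat_lit 420]) (.node (nat_lit 31) (.leaf (nat_lit 27650) [nat_lit 378, nat_lit 294, nat_lit 189, nat_lit 147, nat_lit 63, nat_lit 126]) (.leaf (nat_lit 26626) [nat_lit 378, nat_lit 336, nat_lit 315, nat_lit 273, nat_lit 147, nat_lit 105, nat_lit 63, nat_lit 105])))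
noncomputable def r8 : WT := (.node (nat_lit 23) (.node (nat_lit 21) (.node (nat_lit 20) (.leaf (nat_lit 29697) [nat_lit 210, nat_lit 315, nat_lit 63, nat_lit 231]) (.leaf (nat_lit 27649) [nat_lit 126, nat_lit 168, nat_lit 294, nat_lit 378, nat_lit 63, nat_lit 147])) (.node (nat_lit 22) (.leaf (nat_lit 99335) [nat_lit 420, nat_lit 189, nat_lit 420, nat_lit 63, nat_lit 231, nat_lit 105]) (.leaf (nat_lit 28674) [nat_lit 357, nat_lit 336, nat_lit 315, nat_lit 294, nat_lit 231, nat_lit 189, nat_lit 63, nat_lit 168]))) (.node (nat_lit 26) (.node (nat_lit 24) (.leaf (nat_lit 32769) [nat_lit 315, nat_lit 336, nat_lit 63, nat_lit 315]) (.node (nat_lit 25) (.leaf (nat_lit 31745) [nat_lit 294, nat_lit 315, nat_lit 63, nat_lit 294]) (.leaf (nat_lit 99340) [nat_lit 420, nat_lit 168, nat_lit 420, nat_lit 63, nat_lit 105, nat_lit 210]))) (.node (nat_lit 28) (.node (nat_lit 27) (.leaf (nat_lit 104451) [nat_lit 294, nat_lit 63, nat_lit 420, nat_lit 336, nat_lit 420, nat_lit 336])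 (.leaf (nat_lit 18439) [nat_lit 147, nat_lit 252, nat_lit 105, nat_lit 63, nat_lit 105])) (.node (nat_lit 29) (.leaf (nat_lit 33793) [nat_lit 336, nat_lit 357, nat_lit 378, nat_lit 63, nat_lit 336]) r7))))
noncomputable def w0 : WT := (.node (nat_lit 2) (.node (nat_lit 1) (.leaf (nat_lit 0) [nat_lit 63]) (.leaf (nat_lit 14340) [nat_lit 84, nat_lit 42])) (.node (nat_lit 10) (.node (nat_lit 6) (.node (nat_lit 4) r0 r1) (.node (nat_lit 8) r2 r3)) (.node (nat_lit 15) (.node (nat_lit 12) r4 r5) (.node (nat_lit 19) r6 r8))))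
noncomputable def r9 : WT := (.node (nat_lit 3) (.leaf (nat_lit 21506) [nat_lit 168, nat_lit 168, nat_lit 42, nat_lit 336]) (.leaf (nat_lit 14337) [nat_lit 63, nat_lit 84]))
noncomputable def r10 : WT := (.node (nat_lit 5) (.leaf (nat_lit 34822) [nat_lit 357, nat_lit 42, nat_lit 357]) (.leaf (nat_lit 29703) [nat_lit 231, nat_lit 42, nat_lit 210, nat_lit 315]))
noncomputable def r11 : WT := (.node (nat_lit 7) (.leaf (nat_lit 35846) [nat_lit 378, nat_lit 42, nat_lit 378]) (.leaf (nat_lit 16385) [nat_lit 147, nat_lit 42, nat_lit 147, nat_lit 168]))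
noncomputable def r12 : WT := (.node (nat_lit 9) (.leaf (nat_lit 119818) [nat_lit 420, nat_lit 42, nat_lit 420, nat_lit 84, nat_lit 420]) (.leaf (nat_lit 31752) [nat_lit 294, nat_lit 42, nat_lit 315, nat_lit 294]))
noncomputable def r13 : WT := (.node (nat_lit 11) (.leaf (nat_lit 28688) [nat_lit 168, nat_lit 42, nat_lit 357, nat_lit 336, nat_lit 315, nat_lit 294, nat_lit 231, nat_lit 189]) (.node (nat_lit 12) (.leaf (nat_lit 18435) [nat_lit 105, nat_lit 42, nat_lit 147, nat_lit 252, nat_lit 105]) (.leaf (nat_lit 15363) [nat_lit 399, nat_lit 126, nat_lit 399])))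
noncomputable def r14 : WT := (.node (nat_lit 15) (.node (nat_lit 14) (.leaf (nat_lit 16388) [nat_lit 126, nat_lit 42, nat_lit 189, nat_lit 126]) (.leaf (nat_lit 30728) [nat_lit 252, nat_lit 42, nat_lit 315, nat_lit 273])) (.node (nat_lit 16) (.leaf (nat_lit 30727) [nat_lit 273, nat_lit 42, nat_lit 252, nat_lit 315]) (.node (nat_lit 17) (.leaf (nat_lit 104458) [nat_lit 336, nat_lit 420, nat_lit 336, nat_lit 420, nat_lit 42, nat_lit 294]) (.leaf (nat_lit 27660) [nat_lit 126, nat_lit 42, nat_lit 378, nat_lit 294, nat_lit 189, nat_lit 147]))))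
noncomputable def r15 : WT := (.node (nat_lit 29) (.leaf (nat_lit 99329) [nat_lit 231, nat_lit 105, nat_lit 42, nat_lit 420, nat_lit 189, nat_lit 420]) (.leaf (nat_lit 31751) [nat_lit 294, nat_lit 42, nat_lit 294, nat_lit 315]))
noncomputable def r16 : WT := (.node (nat_lit 31) (.leaf (nat_lit 104455) [nat_lit 420, nat_lit 336, nat_lit 420, nat_lit 336, nat_lit 42, nat_lit 294]) (.node (nat_lit 32) (.leaf (nat_lit 33801) [nat_lit 336, nat_lit 42, nat_lit 336, nat_lit 357, nat_lit 378]) (.leaf (nat_lit 26639) [nat_lit 105, nat_lit 42, nat_lit 105, nat_lit 126, nat_lit 252, nat_lit 315, nat_lit 336, nat_lit 378])))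
noncomputable def r17 : WT := (.node (nat_lit 23) (.node (nat_lit 20) (.node (nat_lit 19) (.leaf (nat_lit 29704) [nat_lit 210, nat_lit 42, nat_lit 315, nat_lit 231]) (.leaf (nat_lit 32775) [nat_lit 315, nat_lit 42, nat_lit 315, nat_lit 336])) (.node (nat_lit 21) (.leaf (nat_lit 18436) [nat_lit 105, nat_lit 42, nat_lit 105, nat_lit 273, nat_lit 126]) (.node (nat_lit 22) (.leaf (nat_lit 33802) [nat_lit 336, nat_lit 42, nat_lit 378, nat_lit 357, nat_lit 336]) (.leaf (nat_lit 21505) [nat_lit 189, nat_lit 189, nat_lit 42, nat_lit 336])))) (.node (nat_lit 26) (.node (nat_lit 24) (.leaf (nat_lit 27659) [nat_lit 147, nat_lit 42, nat_lit 126, nat_lit 168, nat_lit 294, nat_lit 378]) (.node (nat_lit 25) (.leaf (nat_lit 99334) [nat_lit 105, nat_lit 210, nat_lit 42, nat_lit 420, nat_lit 168, nat_lit 420]) (.leaf (nat_lit 32776) [nat_lit 315, nat_lit 42, nat_lit 336, nat_lit 315]))) (.node (nat_lit 28) (.node (nat_lit 27) (.leaf (nat_lit 26640) [nat_lit 105, nat_lit 42, nat_lit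 378, nat_lit 336, nat_lit 315, nat_lit 273, nat_lit 147, nat_lit 105]) (.leaf (nat_lit 28687) [nat_lit 189, nat_lit 42, nat_lit 168, nat_lit 210, nat_lit 294, nat_lit 315, nat_lit 336, nat_lit 357])) (.node (nat_lit 30) r15 r16))))
noncomputable def w1 : WT := (.node (nat_lit 1) (.leaf (nat_lit 2) [nat_lit 42]) (.node (nat_lit 8) (.node (nat_lit 4) (.node (nat_lit 2) (.leaf (nat_lit 14339) [nat_lit 84, nat_lit 63]) r9) (.node (nat_lit 6) r10 r11)) (.node (nat_lit 13) (.node (nat_lit 10) r12 r13) (.node (nat_lit 18) r14 r17))))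
noncomputable def r18 : WT := (.node (nat_lit 2) (.leaf (nat_lit 14336) [nat_lit 42, nat_lit 42]) (.leaf (nat_lit 38913) [nat_lit 168, nat_lit 336, nat_lit 357, nat_lit 378, nat_lit 84, nat_lit 189]))
noncomputable def r19 : WT := (.node (nat_lit 4) (.leaf (nat_lit 44034) [nat_lit 336, nat_lit 84, nat_lit 336]) (.leaf (nat_lit 14341) [nat_lit 63, nat_lit 63]))
noncomputable def r20 : WT := (.node (nat_lit 6) (.leaf (nat_lit 46082) [nat_lit 378, nat_lit 84, nat_lit 378]) (.leaf (nat_lit 45058) [nat_lit 357, nat_lit 84, nat_lit 357]))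
noncomputable def r21 : WT := (.node (nat_lit 8) (.leaf (nat_lit 108546) [nat_lit 399, nat_lit 294, nat_lit 399]) (.leaf (nat_lit 41986) [nat_lit 336, nat_lit 294, nat_lit 84, nat_lit 294]))
noncomputable def r22 : WT := (.node (nat_lit 10) (.leaf (nat_lit 38924) [nat_lit 168, nat_lit 84, nat_lit 378, nat_lit 357, nat_lit 336, nat_lit 189]) (.node (nat_lit 11) (.leaf (nat_lit 20482) [nat_lit 399, nat_lit 210, nat_lit 399, nat_lit 315]) (.leaf (nat_lit 38914) [nat_lit 378, nat_lit 357, nat_lit 336, nat_lit 189, nat_lit 84, nat_lit 168])))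
noncomputable def r23 : WT := (.node (nat_lit 14) (.node (nat_lit 13) (.leaf (nat_lit 110595) [nat_lit 294, nat_lit 399, nat_lit 189, nat_lit 399, nat_lit 168]) (.leaf (nat_lit 17413) [nat_lit 147, nat_lit 210, nat_lit 84, nat_lit 147])) (.node (nat_lit 15) (.leaf (nat_lit 43010) [nat_lit 378, nat_lit 357, nat_lit 315, nat_lit 84, nat_lit 315]) (.leaf (nat_lit 119814) [nat_lit 420, nat_lit 63, nat_lit 420, nat_lit 42, nat_lit 420])))
noncomputable def r24 : WT := (.node (nat_lit 18) (.node (nat_lit 17) (.leaf (nat_lit 40968) [nat_lit 252, nat_lit 84, nat_lit 336, nat_lit 273]) (.leaf (nat_lit 36866) [nat_lit 336, nat_lit 189, nat_lit 105, nat_lit 84, nat_lit 105])) (.node (nat_lit 19) (.leaf (nat_lit 40962) [nat_lit 336, nat_lit 273, nat_lit 84, nat_lit 252]) (.node (nat_lit 20) (.leaf (nat_lit 36874) [nat_lit 105, nat_lit 84, nat_lit 336, nat_lit 189, nat_lit 105]) (.leaf (nat_lit 17409) [nat_lit 147, nat_lit 84, nat_lit 147, nat_lit 210]))))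
noncomputable def r25 : WT := (.node (nat_lit 28) (.leaf (nat_lit 41992) [nat_lit 294, nat_lit 84, nat_lit 336, nat_lit 294]) (.leaf (nat_lit 36865) [nat_lit 105, nat_lit 168, nat_lit 336, nat_lit 84, nat_lit 105]))
noncomputable def r26 : WT := (.node (nat_lit 31) (.leaf (nat_lit 39937) [nat_lit 210, nat_lit 336, nat_lit 84, nat_lit 231]) (.leaf (nat_lit 40967) [nat_lit 273, nat_lit 84, nat_lit 252, nat_lit 336]))
noncomputable def r27 : WT := (.node (nat_lit 33) (.leaf (nat_lit 20487) [nat_lit 315, nat_lit 399, nat_lit 231, nat_lit 399]) (.leaf (nat_lit 110600) [nat_lit 189, nat_lit 399, nat_lit 168, nat_lit 399, nat_lit 294]))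
noncomputable def r28 : WT := (.node (nat_lit 35) (.leaf (nat_lit 37889) [nat_lit 126, nat_lit 210, nat_lit 294, nat_lit 378, nat_lit 84, nat_lit 147]) (.leaf (nat_lit 37900) [nat_lit 126, nat_lit 84, nat_lit 378, nat_lit 294, nat_lit 231, nat_lit 147]))
noncomputable def r29 : WT := (.node (nat_lit 37) (.leaf (nat_lit 37899) [nat_lit 147, nat_lit 84, nat_lit 126, nat_lit 210, nat_lit 294, nat_lit 378]) (.node (nat_lit 38) (.leaf (nat_lit 40961) [nat_lit 252, nat_lit 336, nat_lit 84, nat_lit 273]) (.leaf (nat_lit 112645) [nat_lit 399, nat_lit 273, nat_lit 399, nat_lit 189, nat_lit 273])))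
noncomputable def r30 : WT := (.node (nat_lit 41) (.node (nat_lit 40) (.leaf (nat_lit 112646) [nat_lit 252, nat_lit 168, nat_lit 399, nat_lit 252, nat_lit 399]) (.leaf (nat_lit 43017) [nat_lit 315, nat_lit 84, nat_lit 315, nat_lit 357, nat_lit 378])) (.node (nat_lit 42) (.leaf (nat_lit 43009) [nat_lit 315, nat_lit 357, nat_lit 378, nat_lit 84, nat_lit 315]) (.node (nat_lit 43) (.leaf (nat_lit 41991) [nat_lit 294, nat_lit 84, nat_lit 294, nat_lit 336]) (.leaf (nat_lit 41985) [nat_lit 294, nat_lit 336, nat_lit 84, nat_lit 294]))))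
noncomputable def r31 : WT := (.node (nat_lit 26) (.node (nat_lit 23) (.node (nat_lit 22) (.leaf (nat_lit 39944) [nat_lit 210, nat_lit 84, nat_lit 336, nat_lit 231]) (.leaf (nat_lit 17412) [nat_lit 126, nat_lit 84, nat_lit 231, nat_lit 126])) (.node (nat_lit 24) (.leaf (nat_lit 17416) [nat_lit 231, nat_lit 126, nat_lit 84, nat_lit 126]) (.node (nat_lit 25) (.leaf (nat_lit 39938) [nat_lit 336, nat_lit 231, nat_lit 84, nat_lit 210]) (.leaf (nat_lit 39943) [nat_lit 231, nat_lit 84, nat_lit 210, nat_lit 336])))) (.node (nat_lit 32) (.node (nat_lit 29) (.node (nat_lit 27) (.leaf (nat_lit 43018) [nat_lit 315, nat_lit 84, nat_lit 378, nat_lit 357, nat_lit 315]) r25) (.node (nat_lit 30) (.leaf (nat_lit 36873) [nat_lit 105, nat_lit 84, nat_lit 105, nat_lit 168, nat_lit 336]) r26)) (.node (nat_lit 36) (.node (nat_lit 34) r27 r28) (.node (nat_lit 39) r29 r30))))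
noncomputable def w2 : WT := (.node (nat_lit 1) (.leaf (nat_lit 1024) [nat_lit 84]) (.node (nat_lit 9) (.node (nat_lit 5) (.node (nat_lit 3) r18 r19) (.node (nat_lit 7) r20 r21)) (.node (nat_lit 16) (.node (nat_lit 12) r22 r23) (.node (nat_lit 21) r24 r31))))
noncomputable def r32 : WT := (.node (nat_lit 2) (.leaf (nat_lit 55298) [nat_lit 378, nat_lit 105, nat_lit 378]) (.leaf (nat_lit 52226) [nat_lit 378, nat_lit 315, nat_lit 105, nat_lit 315]))
noncomputable def r33 : WT := (.node (nat_lit 4) (.leaf (nat_lit 48130) [nat_lit 357, nat_lit 336, nat_lit 189, nat_lit 105, nat_lit 168]) (.leaf (nat_lit 53250) [nat_lit 378, nat_lit 336, nat_lit 105, nat_lit 336]))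
noncomputable def r34 : WT := (.node (nat_lit 6) (.leaf (nat_lit 97282) [nat_lit 420, nat_lit 231, nat_lit 294, nat_lit 357, nat_lit 420]) (.leaf (nat_lit 51202) [nat_lit 294, nat_lit 105, nat_lit 294]))
noncomputable def r35 : WT := (.node (nat_lit 8) (.leaf (nat_lit 18438) [nat_lit 42, nat_lit 105, nat_lit 273, nat_lit 126, nat_lit 63]) (.node (nat_lit 9) (.leaf (nat_lit 47106) [nat_lit 147, nat_lit 105, nat_lit 126]) (.leaf (nat_lit 47110) [nat_lit 126, nat_lit 105, nat_lit 147])))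
noncomputable def r36 : WT := (.node (nat_lit 11) (.leaf (nat_lit 36864) [nat_lit 84, nat_lit 336, nat_lit 189, nat_lit 105, nat_lit 84]) (.node (nat_lit 12) (.leaf (nat_lit 36872) [nat_lit 84, nat_lit 105, nat_lit 84, nat_lit 336, nat_lit 189]) (.leaf (nat_lit 22530) [nat_lit 252, nat_lit 252, nat_lit 105, nat_lit 357])))
noncomputable def r37 : WT := (.node (nat_lit 15) (.node (nat_lit 14) (.leaf (nat_lit 18442) [nat_lit 273, nat_lit 126, nat_lit 63, nat_lit 105, nat_lit 42]) (.leaf (nat_lit 53256) [nat_lit 336, nat_lit 105, nat_lit 378, nat_lit 336])) (.node (nat_lit 17) (.node (nat_lit 16) (.leaf (nat_lit 118784) [nat_lit 399, nat_lit 105, nat_lit 399, nat_lit 105, nat_lit 399]) (.leaf (nat_lit 49154) [nat_lit 378, nat_lit 336, nat_lit 315, nat_lit 231, nat_lit 105, nat_lit 210])) (.node (nat_lit 18) (.leaf (nat_lit 48138) [nat_lit 168, nat_lit 105, nat_lit 357, nat_lit 336, nat_lit 189]) (.leaf (nat_lit 22536) [nat_lit 357, nat_lit 105, nat_lit 252, nat_lit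 252]))))
noncomputable def r38 : WT := (.node (nat_lit 23) (.node (nat_lit 21) (.node (nat_lit 20) (.leaf (nat_lit 22535) [nat_lit 357, nat_lit 105, nat_lit 273, nat_lit 273]) (.leaf (nat_lit 50188) [nat_lit 252, nat_lit 105, nat_lit 336, nat_lit 315, nat_lit 294, nat_lit 273])) (.node (nat_lit 22) (.leaf (nat_lit 52232) [nat_lit 315, nat_lit 105, nat_lit 378, nat_lit 315]) (.leaf (nat_lit 36867) [nat_lit 168, nat_lit 336, nat_lit 84, nat_lit 105, nat_lit 84]))) (.node (nat_lit 25) (.node (nat_lit 24) (.leaf (nat_lit 49164) [nat_lit 210, nat_lit 105, nat_lit 378, nat_lit 336, nat_lit 315, nat_lit 231]) (.leaf (nat_lit 48129) [nat_lit 168, nat_lit 336, nat_lit 357, nat_lit 105, nat_lit 189])) (.node (nat_lit 26) (.leaf (nat_lit 26638) [nat_lit 63, nat_lit 105, nat_lit 42, nat_lit 378, nat_lit 336, nat_lit 315, nat_lit 273, nat_lit 147]) (.node (nat_lit 27) (.leaf (nat_lit 97289) [nat_lit 420, nat_lit 357, nat_lit 294, nat_lit 210, nat_lit 420]) (.leaf (nat_lit 48137)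 [nat_lit 189, nat_lit 105, nat_lit 168, nat_lit 336, nat_lit 357])))))
noncomputable def r39 : WT := (.node (nat_lit 39) (.leaf (nat_lit 36875) [nat_lit 84, nat_lit 105, nat_lit 168, nat_lit 336, nat_lit 84]) (.leaf (nat_lit 53255) [nat_lit 336, nat_lit 105, nat_lit 336, nat_lit 378]))
noncomputable def r40 : WT := (.node (nat_lit 41) (.leaf (nat_lit 52231) [nat_lit 315, nat_lit 105, nat_lit 315, nat_lit 378]) (.leaf (nat_lit 52225) [nat_lit 315, nat_lit 378, nat_lit 105, nat_lit 315]))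
noncomputable def r41 : WT := (.node (nat_lit 43) (.leaf (nat_lit 101377) [nat_lit 273, nat_lit 231, nat_lit 420, nat_lit 273, nat_lit 420]) (.node (nat_lit 44) (.leaf (nat_lit 50178) [nat_lit 336, nat_lit 315, nat_lit 294, nat_lit 273, nat_lit 105, nat_lit 252]) (.leaf (nat_lit 50177) [nat_lit 252, nat_lit 294, nat_lit 315, nat_lit 336, nat_lit 105, nat_lit 273])))
noncomputable def r42 : WT := (.node (nat_lit 46) (.leaf (nat_lit 50187) [nat_lit 273, nat_lit 105, nat_lit 252, nat_lit 294, nat_lit 315, nat_lit 336]) (.node (nat_lit 47) (.leaf (nat_lit 26624) [nat_lit 42, nat_lit 378, nat_lit 336, nat_lit 315, nat_lit 273, nat_lit 147, nat_lit 105, nat_lit 63]) (.leaf (nat_lit 53249) [nat_lit 336, nat_lit 378, nat_lit 105, nat_lit 336])))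
noncomputable def r43 : WT := (.node (nat_lit 50) (.node (nat_lit 49) (.leaf (nat_lit 26627) [nat_lit 126, nat_lit 252, nat_lit 315, nat_lit 336, nat_lit 378, nat_lit 63, nat_lit 105, nat_lit 42]) (.leaf (nat_lit 100357) [nat_lit 420, nat_lit 231, nat_lit 420, nat_lit 357, nat_lit 294])) (.node (nat_lit 51) (.leaf (nat_lit 54279) [nat_lit 357, nat_lit 105, nat_lit 357, nat_lit 378]) (.node (nat_lit 52) (.leaf (nat_lit 54273) [nat_lit 357, nat_lit 378, nat_lit 105, nat_lit 357]) (.leaf (nat_lit 26641) [nat_lit 42, nat_lit 105, nat_lit 126, nat_lit 252, nat_lit 315, nat_lit 336, nat_lit 378, nat_lit 63]))))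
noncomputable def r44 : WT := (.node (nat_lit 35) (.node (nat_lit 31) (.node (nat_lit 29) (.leaf (nat_lit 18433) [nat_lit 63, nat_lit 105, nat_lit 42, nat_lit 147, nat_lit 252]) (.node (nat_lit 30) (.leaf (nat_lit 54274) [nat_lit 378, nat_lit 357, nat_lit 105, nat_lit 357]) (.leaf (nat_lit 18437) [nat_lit 42, nat_lit 147, nat_lit 252, nat_lit 105, nat_lit 63]))) (.node (nat_lit 33) (.node (nat_lit 32) (.leaf (nat_lit 22529) [nat_lit 273, nat_lit 273, nat_lit 105, nat_lit 357]) (.leaf (nat_lit 54280) [nat_lit 357, nat_lit 105, nat_lit 378, nat_lit 357])) (.node (nat_lit 34) (.leaf (nat_lit 49153) [nat_lit 210, nat_lit 315, nat_lit 336, nat_lit 378, nat_lit 105, nat_lit 231]) (.leaf (nat_lit 99333) [nat_lit 42, nat_lit 420, nat_lit 189, nat_lit 420, nat_lit 63, nat_lit 231])))) (.node (nat_lit 40) (.node (nat_lit 37) (.node (nat_lit 36) (.leaf (nat_lit 100358) [nat_lit 294, nat_lit 357, nat_lit 420, nat_lit 210, nat_lit 420]) (.leaf (nat_lit 99336) [nat_lit 210, nat_lit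 42, nat_lit 420, nat_lit 168, nat_lit 420, nat_lit 63])) (.node (nat_lit 38) (.leaf (nat_lit 101386) [nat_lit 420, nat_lit 252, nat_lit 420, nat_lit 210, nat_lit 252]) r39)) (.node (nat_lit 45) (.node (nat_lit 42) r40 r41) (.node (nat_lit 48) r42 r43))))
noncomputable def w3 : WT := (.node (nat_lit 1) (.leaf (nat_lit 2048) [nat_lit 105]) (.node (nat_lit 10) (.node (nat_lit 5) (.node (nat_lit 3) r32 r33) (.node (nat_lit 7) r34 r35)) (.node (nat_lit 19) (.node (nat_lit 13) r36 r37) (.node (nat_lit 28) r38 r44))))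
noncomputable def r45 : WT := (.node (nat_lit 4) (.leaf (nat_lit 47104) [nat_lit 105, nat_lit 147, nat_lit 105]) (.leaf (nat_lit 98306) [nat_lit 420, nat_lit 189, nat_lit 273, nat_lit 315, nat_lit 420]))
noncomputable def r46 : WT := (.node (nat_lit 6) (.leaf (nat_lit 19460) [nat_lit 294, nat_lit 126]) (.leaf (nat_lit 17414) [nat_lit 84, nat_lit 231, nat_lit 126, nat_lit 84]))
noncomputable def r47 : WT := (.node (nat_lit 8) (.leaf (nat_lit 64514) [nat_lit 378, nat_lit 147, nat_lit 378]) (.leaf (nat_lit 62466) [nat_lit 378, nat_lit 336, nat_lit 147, nat_lit 336]))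
noncomputable def r48 : WT := (.node (nat_lit 10) (.leaf (nat_lit 16386) [nat_lit 63, nat_lit 126, nat_lit 42, nat_lit 189]) (.leaf (nat_lit 16390) [nat_lit 42, nat_lit 189, nat_lit 126, nat_lit 63]))
noncomputable def r49 : WT := (.node (nat_lit 12) (.leaf (nat_lit 63490) [nat_lit 357, nat_lit 147, nat_lit 357]) (.node (nat_lit 13) (.leaf (nat_lit 57346) [nat_lit 378, nat_lit 357, nat_lit 336, nat_lit 315, nat_lit 189, nat_lit 147, nat_lit 168]) (.leaf (nat_lit 15367) [nat_lit 399, nat_lit 63, nat_lit 399])))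
noncomputable def r50 : WT := (.node (nat_lit 16) (.node (nat_lit 15) (.leaf (nat_lit 58370) [nat_lit 336, nat_lit 231, nat_lit 147, nat_lit 210]) (.leaf (nat_lit 27651) [nat_lit 168, nat_lit 294, nat_lit 378, nat_lit 63, nat_lit 147, nat_lit 42])) (.node (nat_lit 17) (.leaf (nat_lit 57345) [nat_lit 168, nat_lit 315, nat_lit 336, nat_lit 357, nat_lit 378, nat_lit 147, nat_lit 189]) (.leaf (nat_lit 17410) [nat_lit 84, nat_lit 126, nat_lit 84, nat_lit 231])))
noncomputable def r51 : WT := (.node (nat_lit 27) (.leaf (nat_lit 27648) [nat_lit 42, nat_lit 378, nat_lit 294, nat_lit 189, nat_lit 147, nat_lit 63]) (.leaf (nat_lit 60418) [nat_lit 294, nat_lit 147, nat_lit 294]))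
noncomputable def r52 : WT := (.node (nat_lit 21) (.node (nat_lit 19) (.leaf (nat_lit 58369) [nat_lit 210, nat_lit 336, nat_lit 147, nat_lit 231]) (.node (nat_lit 20) (.leaf (nat_lit 59393) [nat_lit 252, nat_lit 315, nat_lit 336, nat_lit 357, nat_lit 147, nat_lit 273]) (.leaf (nat_lit 59394) [nat_lit 357, nat_lit 336, nat_lit 315, nat_lit 273, nat_lit 147, nat_lit 252]))) (.node (nat_lit 23) (.node (nat_lit 22) (.leaf (nat_lit 18434) [nat_lit 63, nat_lit 105, nat_lit 42, nat_lit 105, nat_lit 273]) (.leaf (nat_lit 62465) [nat_lit 336, nat_lit 378, nat_lit 147, nat_lit 336])) (.node (nat_lit 25) (.node (nat_lit 24) (.leaf (nat_lit 26629) [nat_lit 252, nat_lit 315, nat_lit 336, nat_lit 378, nat_lit 63, nat_lit 105, nat_lit 42, nat_lit 105]) (.leaf (nat_lit 37891) [nat_lit 210, nat_lit 294, nat_lit 378, nat_lit 84, nat_lit 147, nat_lit 84])) (.node (nat_lit 26) (.leaf (nat_lit 37888) [nat_lit 84, nat_lit 378, nat_lit 294, nat_lit 231, nat_lit 147, nat_lit 84]) r51))))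
noncomputable def w4 : WT := (.node (nat_lit 2) (.node (nat_lit 1) (.leaf (nat_lit 3072) [nat_lit 147]) (.leaf (nat_lit 19458) [nat_lit 126, nat_lit 294])) (.node (nat_lit 9) (.node (nat_lit 5) (.node (nat_lit 3) (.leaf (nat_lit 61442) [nat_lit 315, nat_lit 147, nat_lit 315]) r45) (.node (nat_lit 7) r46 r47)) (.node (nat_lit 14) (.node (nat_lit 11) r48 r49) (.node (nat_lit 18) r50 r52))))
noncomputable def r53 : WT := (.node (nat_lit 3) (.leaf (nat_lit 19457) [nat_lit 147, nat_lit 294]) (.leaf (nat_lit 47108) [nat_lit 105, nat_lit 126, nat_lit 105]))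
noncomputable def r54 : WT := (.node (nat_lit 5) (.leaf (nat_lit 19459) [nat_lit 294, nat_lit 147]) (.leaf (nat_lit 98313) [nat_lit 420, nat_lit 315, nat_lit 252, nat_lit 168, nat_lit 420]))
noncomputable def r55 : WT := (.node (nat_lit 7) (.leaf (nat_lit 64518) [nat_lit 378, nat_lit 126, nat_lit 378]) (.leaf (nat_lit 16391) [nat_lit 168, nat_lit 63, nat_lit 147, nat_lit 42]))
noncomputable def r56 : WT := (.node (nat_lit 9) (.leaf (nat_lit 63494) [nat_lit 357, nat_lit 126, nat_lit 357]) (.leaf (nat_lit 58375) [nat_lit 231, nat_lit 126, nat_lit 210, nat_lit 336]))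
noncomputable def r57 : WT := (.node (nat_lit 11) (.leaf (nat_lit 16387) [nat_lit 42, nat_lit 147, nat_lit 168, nat_lit 63]) (.leaf (nat_lit 17411) [nat_lit 84, nat_lit 147, nat_lit 210, nat_lit 84]))
noncomputable def r58 : WT := (.node (nat_lit 14) (.node (nat_lit 13) (.leaf (nat_lit 15360) [nat_lit 399, nat_lit 42, nat_lit 399]) (.leaf (nat_lit 27658) [nat_lit 63, nat_lit 126, nat_lit 42, nat_lit 378, nat_lit 294, nat_lit 189])) (.node (nat_lit 15) (.leaf (nat_lit 62472) [nat_lit 336, nat_lit 126, nat_lit 378, nat_lit 336]) (.leaf (nat_lit 59404) [nat_lit 252, nat_lit 126, nat_lit 357, nat_lit 336, nat_lit 315, nat_lit 273])))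
noncomputable def r59 : WT := (.node (nat_lit 25) (.leaf (nat_lit 59403) [nat_lit 273, nat_lit 126, nat_lit 252, nat_lit 315, nat_lit 336, nat_lit 357]) (.leaf (nat_lit 57357) [nat_lit 189, nat_lit 126, nat_lit 168, nat_lit 315, nat_lit 336, nat_lit 357, nat_lit 378]))
noncomputable def r60 : WT := (.node (nat_lit 19) (.node (nat_lit 17) (.leaf (nat_lit 57358) [nat_lit 168, nat_lit 126, nat_lit 378, nat_lit 357, nat_lit 336, nat_lit 315, nat_lit 189]) (.node (nat_lit 18) (.leaf (nat_lit 58376) [nat_lit 210, nat_lit 126, nat_lit 336, nat_lit 231]) (.leaf (nat_lit 17415) [nat_lit 210, nat_lit 84, nat_lit 147, nat_lit 84]))) (.node (nat_lit 21) (.node (nat_lit 20) (.leaf (nat_lit 18441) [nat_lit 252, nat_lit 105, nat_lit 63, nat_lit 105, nat_lit 42]) (.leaf (nat_lit 37898) [nat_lit 84, nat_lit 126, nat_lit 84, nat_lit 378, nat_lit 294, nat_lit 231])) (.node (nat_lit 23) (.node (nat_lit 22) (.leaf (nat_lit 62471) [nat_lit 336, nat_lit 126, nat_lit 336, nat_lit 378])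 (.leaf (nat_lit 26636) [nat_lit 105, nat_lit 63, nat_lit 105, nat_lit 42, nat_lit 378, nat_lit 336, nat_lit 315, nat_lit 273])) (.node (nat_lit 24) (.leaf (nat_lit 27661) [nat_lit 42, nat_lit 126, nat_lit 168, nat_lit 294, nat_lit 378, nat_lit 63]) r59))))
noncomputable def w5 : WT := (.node (nat_lit 1) (.leaf (nat_lit 3074) [nat_lit 126]) (.node (nat_lit 8) (.node (nat_lit 4) (.node (nat_lit 2) (.leaf (nat_lit 61446) [nat_lit 315, nat_lit 126, nat_lit 315]) r53) (.node (nat_lit 6) r54 r55)) (.node (nat_lit 12) (.node (nat_lit 10) r56 r57) (.node (nat_lit 16) r58 r60))))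
noncomputable def r61 : WT := (.node (nat_lit 3) (.leaf (nat_lit 21510) [nat_lit 42, nat_lit 336, nat_lit 63, nat_lit 168]) (.leaf (nat_lit 71682) [nat_lit 357, nat_lit 189, nat_lit 357]))
noncomputable def r62 : WT := (.node (nat_lit 5) (.leaf (nat_lit 72706) [nat_lit 378, nat_lit 189, nat_lit 378]) (.leaf (nat_lit 69634) [nat_lit 378, nat_lit 315, nat_lit 189, nat_lit 315]))
noncomputable def r63 : WT := (.node (nat_lit 7) (.leaf (nat_lit 21508) [nat_lit 168, nat_lit 42, nat_lit 336, nat_lit 63]) (.node (nat_lit 8) (.leaf (nat_lit 65538) [nat_lit 378, nat_lit 357, nat_lit 336, nat_lit 168]) (.leaf (nat_lit 110594) [nat_lit 399, nat_lit 294, nat_lit 84, nat_lit 189, nat_lit 399])))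
noncomputable def r64 : WT := (.node (nat_lit 10) (.leaf (nat_lit 67585) [nat_lit 252, nat_lit 336, nat_lit 357, nat_lit 189, nat_lit 273]) (.node (nat_lit 11) (.leaf (nat_lit 68610) [nat_lit 378, nat_lit 294, nat_lit 189, nat_lit 294]) (.leaf (nat_lit 36869) [nat_lit 336, nat_lit 84, nat_lit 105, nat_lit 84, nat_lit 105])))
noncomputable def r65 : WT := (.node (nat_lit 14) (.node (nat_lit 13) (.leaf (nat_lit 28675) [nat_lit 210, nat_lit 294, nat_lit 315, nat_lit 336, nat_lit 357, nat_lit 63, nat_lit 189, nat_lit 42]) (.leaf (nat_lit 38912) [nat_lit 84, nat_lit 378, nat_lit 357, nat_lit 336, nat_lit 189, nat_lit 84])) (.node (nat_lit 15) (.leaf (nat_lit 48128) [nat_lit 105, nat_lit 357, nat_lit 336, nat_lit 189, nat_lit 105]) (.leaf (nat_lit 16393) [nat_lit 63, nat_lit 147, nat_lit 42, nat_lit 147])))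
noncomputable def r66 : WT := (.node (nat_lit 18) (.node (nat_lit 17) (.leaf (nat_lit 66561) [nat_lit 210, nat_lit 357, nat_lit 378, nat_lit 189, nat_lit 231]) (.leaf (nat_lit 98309) [nat_lit 420, nat_lit 147, nat_lit 420, nat_lit 315, nat_lit 252])) (.node (nat_lit 19) (.leaf (nat_lit 27653) [nat_lit 294, nat_lit 378, nat_lit 63, nat_lit 147, nat_lit 42, nat_lit 126]) (.node (nat_lit 20) (.leaf (nat_lit 99330) [nat_lit 420, nat_lit 63, nat_lit 105, nat_lit 210, nat_lit 42, nat_lit 420]) (.leaf (nat_lit 69633) [nat_lit 315, nat_lit 378, nat_lit 189, nat_lit 315]))))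
noncomputable def r67 : WT := (.node (nat_lit 31) (.leaf (nat_lit 48131) [nat_lit 336, nat_lit 357, nat_lit 105, nat_lit 189, nat_lit 105]) (.leaf (nat_lit 112650) [nat_lit 399, nat_lit 252, nat_lit 399, nat_lit 84, nat_lit 252]))
noncomputable def r68 : WT := (.node (nat_lit 33) (.leaf (nat_lit 68609) [nat_lit 294, nat_lit 378, nat_lit 189, nat_lit 294]) (.leaf (nat_lit 110593) [nat_lit 84, nat_lit 294, nat_lit 399, nat_lit 189, nat_lit 399]))
noncomputable def r69 : WT := (.node (nat_lit 25) (.node (nat_lit 23) (.node (nat_lit 22) (.leaf (nat_lit 57344) [nat_lit 126, nat_lit 378, nat_lit 357, nat_lit 336, nat_lit 315, nat_lit 189, nat_lit 147]) (.leaf (nat_lit 103429) [nat_lit 420, nat_lit 315, nat_lit 420, nat_lit 294, nat_lit 168])) (.node (nat_lit 24) (.leaf (nat_lit 103427) [nat_lit 168, nat_lit 420, nat_lit 315, nat_lit 420, nat_lit 294]) (.leaf (nat_lit 28672) [nat_lit 42, nat_lit 357, nat_lit 336, nat_lit 315, nat_lit 294, nat_lit 231, nat_lit 189, nat_lit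 63]))) (.node (nat_lit 28) (.node (nat_lit 26) (.leaf (nat_lit 67586) [nat_lit 357, nat_lit 336, nat_lit 273, nat_lit 189, nat_lit 252]) (.node (nat_lit 27) (.leaf (nat_lit 65536) [nat_lit 168, nat_lit 378, nat_lit 357, nat_lit 336]) (.leaf (nat_lit 66562) [nat_lit 378, nat_lit 357, nat_lit 231, nat_lit 189, nat_lit 210]))) (.node (nat_lit 30) (.node (nat_lit 29) (.leaf (nat_lit 57347) [nat_lit 315, nat_lit 336, nat_lit 357, nat_lit 378, nat_lit 147, nat_lit 189, nat_lit 126]) (.leaf (nat_lit 38915) [nat_lit 336, nat_lit 357, nat_lit 378, nat_lit 84, nat_lit 189, nat_lit 84])) (.node (nat_lit 32) r67 r68))))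
noncomputable def w6 : WT := (.node (nat_lit 1) (.leaf (nat_lit 4096) [nat_lit 189]) (.node (nat_lit 9) (.node (nat_lit 4) (.node (nat_lit 2) (.leaf (nat_lit 70658) [nat_lit 336, nat_lit 189, nat_lit 336]) r61) (.node (nat_lit 6) r62 r63)) (.node (nat_lit 16) (.node (nat_lit 12) r64 r65) (.node (nat_lit 21) r66 r69))))
noncomputable def r70 : WT := (.node (nat_lit 3) (.leaf (nat_lit 70662) [nat_lit 336, nat_lit 168, nat_lit 336]) (.leaf (nat_lit 69640) [nat_lit 315, nat_lit 168, nat_lit 378, nat_lit 315]))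
noncomputable def r71 : WT := (.node (nat_lit 5) (.leaf (nat_lit 72710) [nat_lit 378, nat_lit 168, nat_lit 378]) (.leaf (nat_lit 71686) [nat_lit 357, nat_lit 168, nat_lit 357]))
noncomputable def r72 : WT := (.node (nat_lit 7) (.leaf (nat_lit 48139) [nat_lit 105, nat_lit 168, nat_lit 336, nat_lit 357, nat_lit 105]) (.leaf (nat_lit 16384) [nat_lit 126, nat_lit 63, nat_lit 126, nat_lit 42]))
noncomputable def r73 : WT := (.node (nat_lit 9) (.leaf (nat_lit 21507) [nat_lit 189, nat_lit 42, nat_lit 336, nat_lit 63]) (.node (nat_lit 10) (.leaf (nat_lit 68616) [nat_lit 294, nat_lit 168, nat_lit 378, nat_lit 294]) (.leaf (nat_lit 57359) [nat_lit 126, nat_lit 168, nat_lit 315, nat_lit 336, nat_lit 357, nat_lit 378, nat_lit 147])))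
noncomputable def r74 : WT := (.node (nat_lit 12) (.leaf (nat_lit 110601) [nat_lit 399, nat_lit 168, nat_lit 84, nat_lit 294, nat_lit 399]) (.node (nat_lit 13) (.leaf (nat_lit 110602) [nat_lit 399, nat_lit 168, nat_lit 399, nat_lit 294, nat_lit 84]) (.leaf (nat_lit 98310) [nat_lit 273, nat_lit 315, nat_lit 420, nat_lit 126, nat_lit 420])))
noncomputable def r75 : WT := (.node (nat_lit 16) (.node (nat_lit 15) (.leaf (nat_lit 65545) [nat_lit 336, nat_lit 357, nat_lit 378, nat_lit 189]) (.leaf (nat_lit 66570) [nat_lit 210, nat_lit 168, nat_lit 378, nat_lit 357, nat_lit 231])) (.node (nat_lit 17) (.leaf (nat_lit 99339) [nat_lit 420, nat_lit 63, nat_lit 231, nat_lit 105, nat_lit 42, nat_lit 420]) (.node (nat_lit 18) (.leaf (nat_lit 67594) [nat_lit 252, nat_lit 168, nat_lit 357, nat_lit 336, nat_lit 273]) (.leaf (nat_lit 36870) [nat_lit 105, nat_lit 84, nat_lit 105, nat_lit 84, nat_lit 336]))))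
noncomputable def r76 : WT := (.node (nat_lit 29) (.leaf (nat_lit 68615) [nat_lit 294, nat_lit 168, nat_lit 294, nat_lit 378]) (.leaf (nat_lit 112641) [nat_lit 273, nat_lit 84, nat_lit 399, nat_lit 273, nat_lit 399]))
noncomputable def r77 : WT := (.node (nat_lit 31) (.leaf (nat_lit 38922) [nat_lit 84, nat_lit 168, nat_lit 84, nat_lit 378, nat_lit 357, nat_lit 336]) (.leaf (nat_lit 66569) [nat_lit 231, nat_lit 168, nat_lit 210, nat_lit 357, nat_lit 378]))
noncomputable def r78 : WT := (.node (nat_lit 33) (.leaf (nat_lit 48136) [nat_lit 105, nat_lit 168, nat_lit 105, nat_lit 357, nat_lit 336]) (.leaf (nat_lit 69639) [nat_lit 315, nat_lit 168, nat_lit 315, nat_lit 378]))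
noncomputable def r79 : WT := (.node (nat_lit 23) (.node (nat_lit 21) (.node (nat_lit 20) (.leaf (nat_lit 38925) [nat_lit 84, nat_lit 168, nat_lit 336, nat_lit 357, nat_lit 378, nat_lit 84]) (.leaf (nat_lit 103430) [nat_lit 189, nat_lit 294, nat_lit 420, nat_lit 315, nat_lit 420])) (.node (nat_lit 22) (.leaf (nat_lit 65543) [nat_lit 189, nat_lit 336, nat_lit 357, nat_lit 378]) (.leaf (nat_lit 27656) [nat_lit 147, nat_lit 63, nat_lit 126, nat_lit 42, nat_lit 378, nat_lit 294]))) (.node (nat_lit 27) (.node (nat_lit 25) (.node (nat_lit 24) (.leaf (nat_lit 28689) [nat_lit 42, nat_lit 168, nat_lit 210, nat_lit 294, nat_lit 315, nat_lit 336, nat_lit 357, nat_lit 63]) (.leaf (nat_lit 57356) [nat_lit 147, nat_lit 168, nat_lit 126, nat_lit 378, nat_lit 357, nat_lit 336, nat_lit 315])) (.node (nat_lit 26) (.leaf (nat_lit 103432) [nat_lit 294, nat_lit 420, nat_lit 315, nat_lit 420, nat_lit 189]) (.leaf (nat_lit 67593) [nat_lit 273, nat_lit 168, nat_lit 252, nat_lit 336, nat_lit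 357]))) (.node (nat_lit 30) (.node (nat_lit 28) (.leaf (nat_lit 28686) [nat_lit 63, nat_lit 168, nat_lit 42, nat_lit 357, nat_lit 336, nat_lit 315, nat_lit 294, nat_lit 231]) r76) (.node (nat_lit 32) r77 r78))))
noncomputable def w7 : WT := (.node (nat_lit 1) (.leaf (nat_lit 4098) [nat_lit 168]) (.node (nat_lit 8) (.node (nat_lit 4) (.node (nat_lit 2) (.leaf (nat_lit 21509) [nat_lit 42, nat_lit 336, nat_lit 63, nat_lit 189]) r70) (.node (nat_lit 6) r71 r72)) (.node (nat_lit 14) (.node (nat_lit 11) r73 r74) (.node (nat_lit 19) r75 r79))))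
noncomputable def r80 : WT := (.node (nat_lit 3) (.leaf (nat_lit 77826) [nat_lit 336, nat_lit 231, nat_lit 336]) (.leaf (nat_lit 76802) [nat_lit 315, nat_lit 231, nat_lit 315]))
noncomputable def r81 : WT := (.node (nat_lit 5) (.leaf (nat_lit 23556) [nat_lit 378, nat_lit 210]) (.leaf (nat_lit 29696) [nat_lit 42, nat_lit 315, nat_lit 231, nat_lit 63]))
noncomputable def r82 : WT := (.node (nat_lit 7) (.leaf (nat_lit 78850) [nat_lit 357, nat_lit 231, nat_lit 357]) (.leaf (nat_lit 66560) [nat_lit 168, nat_lit 378, nat_lit 357, nat_lit 231, nat_lit 189]))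
noncomputable def r83 : WT := (.node (nat_lit 9) (.leaf (nat_lit 58368) [nat_lit 126, nat_lit 336, nat_lit 231, nat_lit 147]) (.leaf (nat_lit 66563) [nat_lit 357, nat_lit 378, nat_lit 189, nat_lit 231, nat_lit 168]))
noncomputable def r84 : WT := (.node (nat_lit 11) (.leaf (nat_lit 20486) [nat_lit 399, nat_lit 315, nat_lit 84, nat_lit 399]) (.node (nat_lit 12) (.leaf (nat_lit 17417) [nat_lit 84, nat_lit 147, nat_lit 84, nat_lit 147]) (.leaf (nat_lit 75778) [nat_lit 378, nat_lit 294, nat_lit 231, nat_lit 294])))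
noncomputable def r85 : WT := (.node (nat_lit 14) (.leaf (nat_lit 74753) [nat_lit 252, nat_lit 357, nat_lit 378, nat_lit 231, nat_lit 273]) (.node (nat_lit 15) (.leaf (nat_lit 100354) [nat_lit 420, nat_lit 105, nat_lit 294, nat_lit 357, nat_lit 420]) (.leaf (nat_lit 29699) [nat_lit 315, nat_lit 63, nat_lit 231, nat_lit 42])))
noncomputable def r86 : WT := (.node (nat_lit 17) (.leaf (nat_lit 49152) [nat_lit 105, nat_lit 378, nat_lit 336, nat_lit 315, nat_lit 231, nat_lit 105]) (.node (nat_lit 18) (.leaf (nat_lit 39936) [nat_lit 84, nat_lit 336, nat_lit 231, nat_lit 84]) (.leaf (nat_lit 97285) [nat_lit 420, nat_lit 105, nat_lit 420, nat_lit 357, nat_lit 294])))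
noncomputable def r87 : WT := (.node (nat_lit 22) (.node (nat_lit 20) (.leaf (nat_lit 58371) [nat_lit 336, nat_lit 147, nat_lit 231, nat_lit 126]) (.node (nat_lit 21) (.leaf (nat_lit 101382) [nat_lit 252, nat_lit 105, nat_lit 420, nat_lit 252, nat_lit 420]) (.leaf (nat_lit 74754) [nat_lit 378, nat_lit 357, nat_lit 273, nat_lit 231, nat_lit 252]))) (.node (nat_lit 25) (.node (nat_lit 23) (.leaf (nat_lit 99338) [nat_lit 42, nat_lit 420, nat_lit 168, nat_lit 420, nat_lit 63, nat_lit 105]) (.node (nat_lit 24) (.leaf (nat_lit 28677) [nat_lit 294, nat_lit 315, nat_lit 336, nat_lit 357, nat_lit 63, nat_lit 189, nat_lit 42, nat_lit 168]) (.leaf (nat_lit 114691) [nat_lit 399, nat_lit 315, nat_lit 399, nat_lit 294]))) (.node (nat_lit 27) (.node (nat_lit 26) (.leaf (nat_lit 49155) [nat_lit 315, nat_lit 336, nat_lit 378, nat_lit 105, nat_lit 231, nat_lit 105]) (.leaf (nat_lit 75777) [nat_lit 294, nat_lit 378, nat_lit 231, nat_lit 294])) (.node (nat_lit 28) (.leaf (nat_lit 37893)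 [nat_lit 294, nat_lit 378, nat_lit 84, nat_lit 147, nat_lit 84, nat_lit 126]) (.leaf (nat_lit 39939) [nat_lit 336, nat_lit 84, nat_lit 231, nat_lit 84])))))
noncomputable def w8 : WT := (.node (nat_lit 2) (.node (nat_lit 1) (.leaf (nat_lit 5120) [nat_lit 231]) (.leaf (nat_lit 23554) [nat_lit 210, nat_lit 378])) (.node (nat_lit 10) (.node (nat_lit 6) (.node (nat_lit 4) r80 r81) (.node (nat_lit 8) r82 r83)) (.node (nat_lit 16) (.node (nat_lit 13) r84 r85) (.node (nat_lit 19) r86 r87))))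
noncomputable def r88 : WT := (.node (nat_lit 3) (.leaf (nat_lit 77830) [nat_lit 336, nat_lit 210, nat_lit 336]) (.leaf (nat_lit 76806) [nat_lit 315, nat_lit 210, nat_lit 315]))
noncomputable def r89 : WT := (.node (nat_lit 5) (.leaf (nat_lit 78854) [nat_lit 357, nat_lit 210, nat_lit 357]) (.leaf (nat_lit 66571) [nat_lit 168, nat_lit 210, nat_lit 357, nat_lit 378, nat_lit 189]))
noncomputable def r90 : WT := (.node (nat_lit 7) (.leaf (nat_lit 23555) [nat_lit 378, nat_lit 231]) (.leaf (nat_lit 17408) [nat_lit 126, nat_lit 84, nat_lit 126, nat_lit 84]))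
noncomputable def r91 : WT := (.node (nat_lit 9) (.leaf (nat_lit 58377) [nat_lit 126, nat_lit 210, nat_lit 336, nat_lit 147]) (.leaf (nat_lit 75784) [nat_lit 294, nat_lit 210, nat_lit 378, nat_lit 294]))
noncomputable def r92 : WT := (.node (nat_lit 11) (.leaf (nat_lit 20483) [nat_lit 399, nat_lit 84, nat_lit 315, nat_lit 399]) (.node (nat_lit 12) (.leaf (nat_lit 29705) [nat_lit 42, nat_lit 210, nat_lit 315, nat_lit 63]) (.leaf (nat_lit 100361) [nat_lit 420, nat_lit 357, nat_lit 294, nat_lit 105, nat_lit 420])))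
noncomputable def r93 : WT := (.node (nat_lit 15) (.node (nat_lit 14) (.leaf (nat_lit 97286) [nat_lit 294, nat_lit 357, nat_lit 420, nat_lit 105, nat_lit 420]) (.leaf (nat_lit 49165) [nat_lit 105, nat_lit 210, nat_lit 315, nat_lit 336, nat_lit 378, nat_lit 105])) (.node (nat_lit 16) (.leaf (nat_lit 74762) [nat_lit 252, nat_lit 210, nat_lit 378, nat_lit 357, nat_lit 273]) (.leaf (nat_lit 39942) [nat_lit 84, nat_lit 210, nat_lit 84, nat_lit 336])))
noncomputable def r94 : WT := (.node (nat_lit 28) (.leaf (nat_lit 74761) [nat_lit 273, nat_lit 210, nat_lit 252, nat_lit 357, nat_lit 378]) (.leaf (nat_lit 75783) [nat_lit 294, nat_lit 210, nat_lit 294, nat_lit 378]))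
noncomputable def r95 : WT := (.node (nat_lit 21) (.node (nat_lit 19) (.node (nat_lit 18) (.leaf (nat_lit 101381) [nat_lit 420, nat_lit 273, nat_lit 420, nat_lit 105, nat_lit 273]) (.leaf (nat_lit 29702) [nat_lit 63, nat_lit 210, nat_lit 42, nat_lit 315])) (.node (nat_lit 20) (.leaf (nat_lit 39945) [nat_lit 84, nat_lit 210, nat_lit 336, nat_lit 84]) (.leaf (nat_lit 49162) [nat_lit 105, nat_lit 210, nat_lit 105, nat_lit 378, nat_lit 336, nat_lit 315]))) (.node (nat_lit 24) (.node (nat_lit 22) (.leaf (nat_lit 28684) [nat_lit 189, nat_lit 63, nat_lit 168, nat_lit 42, nat_lit 357, nat_lit 336, nat_lit 315, nat_lit 294]) (.node (nat_lit 23) (.leaf (nat_lit 66568) [nat_lit 189, nat_lit 210, nat_lit 168, nat_lit 378, nat_lit 357]) (.leaf (nat_lit 99331) [nat_lit 105, nat_lit 42, nat_lit 420, nat_lit 189, nat_lit 420, nat_lit 63]))) (.node (nat_lit 26) (.node (nat_lit 25) (.leaf (nat_lit 114694) [nat_lit 294, nat_lit 399, nat_lit 315, nat_lit 399]) (.leaf (nat_lit 58374)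 [nat_lit 147, nat_lit 210, nat_lit 126, nat_lit 336])) (.node (nat_lit 27) (.leaf (nat_lit 37896) [nat_lit 147, nat_lit 84, nat_lit 126, nat_lit 84, nat_lit 378, nat_lit 294]) r94))))
noncomputable def w9 : WT := (.node (nat_lit 1) (.leaf (nat_lit 5122) [nat_lit 210]) (.node (nat_lit 8) (.node (nat_lit 4) (.node (nat_lit 2) (.leaf (nat_lit 23553) [nat_lit 231, nat_lit 378]) r88) (.node (nat_lit 6) r89 r90)) (.node (nat_lit 13) (.node (nat_lit 10) r91 r92) (.node (nat_lit 17) r93 r95))))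
noncomputable def r96 : WT := (.node (nat_lit 4) (.leaf (nat_lit 83970) [nat_lit 336, nat_lit 273, nat_lit 336]) (.leaf (nat_lit 67584) [nat_lit 168, nat_lit 357, nat_lit 336, nat_lit 273, nat_lit 189]))
noncomputable def r97 : WT := (.node (nat_lit 6) (.leaf (nat_lit 86018) [nat_lit 378, nat_lit 273, nat_lit 378]) (.leaf (nat_lit 40960) [nat_lit 84, nat_lit 336, nat_lit 273, nat_lit 84]))
noncomputable def r98 : WT := (.node (nat_lit 8) (.leaf (nat_lit 67587) [nat_lit 336, nat_lit 357, nat_lit 189, nat_lit 273, nat_lit 168]) (.node (nat_lit 9) (.leaf (nat_lit 80898) [nat_lit 378, nat_lit 357, nat_lit 252]) (.leaf (nat_lit 22532) [nat_lit 252, nat_lit 105, nat_lit 357, nat_lit 105])))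
noncomputable def r99 : WT := (.node (nat_lit 11) (.leaf (nat_lit 59392) [nat_lit 126, nat_lit 357, nat_lit 336, nat_lit 315, nat_lit 273, nat_lit 147]) (.node (nat_lit 12) (.leaf (nat_lit 30720) [nat_lit 42, nat_lit 315, nat_lit 273, nat_lit 63]) (.leaf (nat_lit 81922) [nat_lit 378, nat_lit 294, nat_lit 273, nat_lit 294])))
noncomputable def r100 : WT := (.node (nat_lit 15) (.node (nat_lit 14) (.leaf (nat_lit 102403) [nat_lit 420, nat_lit 294, nat_lit 420, nat_lit 252]) (.leaf (nat_lit 30723) [nat_lit 315, nat_lit 63, nat_lit 273, nat_lit 42])) (.node (nat_lit 16) (.leaf (nat_lit 18443) [nat_lit 105, nat_lit 63, nat_lit 105, nat_lit 42, nat_lit 147]) (.leaf (nat_lit 102401) [nat_lit 252, nat_lit 420, nat_lit 294, nat_lit 420])))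
noncomputable def r101 : WT := (.node (nat_lit 19) (.node (nat_lit 18) (.leaf (nat_lit 74755) [nat_lit 357, nat_lit 378, nat_lit 231, nat_lit 273, nat_lit 210]) (.leaf (nat_lit 101378) [nat_lit 420, nat_lit 210, nat_lit 252, nat_lit 105, nat_lit 420])) (.node (nat_lit 20) (.leaf (nat_lit 59395) [nat_lit 315, nat_lit 336, nat_lit 357, nat_lit 147, nat_lit 273, nat_lit 126]) (.node (nat_lit 21) (.leaf (nat_lit 74752) [nat_lit 210, nat_lit 378, nat_lit 357, nat_lit 273, nat_lit 231]) (.leaf (nat_lit 50176) [nat_lit 105, nat_lit 336, nat_lit 315, nat_lit 294, nat_lit 273, nat_lit 105]))))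
noncomputable def r102 : WT := (.node (nat_lit 33) (.leaf (nat_lit 117763) [nat_lit 399, nat_lit 378, nat_lit 399, nat_lit 252]) (.leaf (nat_lit 40963) [nat_lit 336, nat_lit 84, nat_lit 273, nat_lit 84]))
noncomputable def r103 : WT := (.node (nat_lit 26) (.node (nat_lit 24) (.node (nat_lit 23) (.leaf (nat_lit 22534) [nat_lit 105, nat_lit 357, nat_lit 105, nat_lit 252]) (.leaf (nat_lit 84994) [nat_lit 357, nat_lit 273, nat_lit 357])) (.node (nat_lit 25) (.leaf (nat_lit 98307) [nat_lit 168, nat_lit 420, nat_lit 147, nat_lit 420, nat_lit 315]) (.leaf (nat_lit 101384) [nat_lit 105, nat_lit 420, nat_lit 252, nat_lit 420, nat_lit 210]))) (.node (nat_lit 29) (.node (nat_lit 27) (.leaf (nat_lit 112642) [nat_lit 399, nat_lit 84, nat_lit 252, nat_lit 168, nat_lit 399]) (.node (nat_lit 28) (.leaf (nat_lit 117761) [nat_lit 252, nat_lit 399, nat_lit 378, nat_lit 399]) (.leaf (nat_lit 112648) [nat_lit 168, nat_lit 399, nat_lit 252, nat_lit 399, nat_lit 84]))) (.node (nat_lit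 31) (.node (nat_lit 30) (.leaf (nat_lit 50179) [nat_lit 294, nat_lit 315, nat_lit 336, nat_lit 105, nat_lit 273, nat_lit 105]) (.leaf (nat_lit 81921) [nat_lit 294, nat_lit 378, nat_lit 273, nat_lit 294])) (.node (nat_lit 32) (.leaf (nat_lit 26631) [nat_lit 315, nat_lit 336, nat_lit 378, nat_lit 63, nat_lit 105, nat_lit 42, nat_lit 105, nat_lit 126]) r102))))
noncomputable def w10 : WT := (.node (nat_lit 2) (.node (nat_lit 1) (.leaf (nat_lit 6144) [nat_lit 273]) (.leaf (nat_lit 80896) [nat_lit 252, nat_lit 378, nat_lit 357])) (.node (nat_lit 10) (.node (nat_lit 5) (.node (nat_lit 3) (.leaf (nat_lit 82946) [nat_lit 315, nat_lit 273, nat_lit 315]) r96) (.node (nat_lit 7) r97 r98)) (.node (nat_lit 17) (.node (nat_lit 13) r99 r100) (.node (nat_lit 22) r101 r103))))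
noncomputable def r104 : WT := (.node (nat_lit 3) (.leaf (nat_lit 83974) [nat_lit 336, nat_lit 252, nat_lit 336]) (.leaf (nat_lit 80901) [nat_lit 273, nat_lit 357, nat_lit 378]))
noncomputable def r105 : WT := (.node (nat_lit 5) (.leaf (nat_lit 80903) [nat_lit 357, nat_lit 378, nat_lit 273]) (.leaf (nat_lit 84998) [nat_lit 357, nat_lit 252, nat_lit 357]))
noncomputable def r106 : WT := (.node (nat_lit 7) (.leaf (nat_lit 67595) [nat_lit 168, nat_lit 252, nat_lit 336, nat_lit 357, nat_lit 189]) (.leaf (nat_lit 22531) [nat_lit 273, nat_lit 105, nat_lit 357, nat_lit 105]))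
noncomputable def r107 : WT := (.node (nat_lit 9) (.leaf (nat_lit 30729) [nat_lit 42, nat_lit 252, nat_lit 315, nat_lit 63]) (.node (nat_lit 10) (.leaf (nat_lit 102406) [nat_lit 273, nat_lit 420, nat_lit 294, nat_lit 420]) (.leaf (nat_lit 40969) [nat_lit 84, nat_lit 252, nat_lit 336, nat_lit 84])))
noncomputable def r108 : WT := (.node (nat_lit 13) (.node (nat_lit 12) (.leaf (nat_lit 81928) [nat_lit 294, nat_lit 252, nat_lit 378, nat_lit 294]) (.leaf (nat_lit 59405) [nat_lit 126, nat_lit 252, nat_lit 315, nat_lit 336, nat_lit 357, nat_lit 147])) (.node (nat_lit 14) (.leaf (nat_lit 98312) [nat_lit 315, nat_lit 420, nat_lit 126, nat_lit 420, nat_lit 189]) (.leaf (nat_lit 101385) [nat_lit 420, nat_lit 105, nat_lit 273, nat_lit 231, nat_lit 420])))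
noncomputable def r109 : WT := (.node (nat_lit 18) (.node (nat_lit 16) (.leaf (nat_lit 74763) [nat_lit 210, nat_lit 252, nat_lit 357, nat_lit 378, nat_lit 231]) (.node (nat_lit 17) (.leaf (nat_lit 102408) [nat_lit 420, nat_lit 294, nat_lit 420, nat_lit 273]) (.leaf (nat_lit 40966) [nat_lit 84, nat_lit 252, nat_lit 84, nat_lit 336]))) (.node (nat_lit 19) (.leaf (nat_lit 30726) [nat_lit 63, nat_lit 252, nat_lit 42, nat_lit 315]) (.node (nat_lit 20) (.leaf (nat_lit 18432) [nat_lit 126, nat_lit 63, nat_lit 105, nat_lit 42, nat_lit 105]) (.leaf (nat_lit 86022) [nat_lit 378, nat_lit 252, nat_lit 378]))))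
noncomputable def r110 : WT := (.node (nat_lit 31) (.leaf (nat_lit 50189) [nat_lit 105, nat_lit 252, nat_lit 294, nat_lit 315, nat_lit 336, nat_lit 105]) (.leaf (nat_lit 59402) [nat_lit 147, nat_lit 252, nat_lit 126, nat_lit 357, nat_lit 336, nat_lit 315]))
noncomputable def r111 : WT := (.node (nat_lit 33) (.leaf (nat_lit 81927) [nat_lit 294, nat_lit 252, nat_lit 294, nat_lit 378]) (.leaf (nat_lit 26634) [nat_lit 147, nat_lit 105, nat_lit 63, nat_lit 105, nat_lit 42, nat_lit 378, nat_lit 336, nat_lit 315]))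
noncomputable def r112 : WT := (.node (nat_lit 25) (.node (nat_lit 23) (.node (nat_lit 22) (.leaf (nat_lit 112643) [nat_lit 84, nat_lit 399, nat_lit 273, nat_lit 399, nat_lit 189]) (.leaf (nat_lit 22533) [nat_lit 105, nat_lit 357, nat_lit 105, nat_lit 273])) (.node (nat_lit 24) (.leaf (nat_lit 117768) [nat_lit 399, nat_lit 378, nat_lit 399, nat_lit 273]) (.leaf (nat_lit 50186) [nat_lit 105, nat_lit 252, nat_lit 105, nat_lit 336, nat_lit 315, nat_lit 294]))) (.node (nat_lit 28) (.node (nat_lit 26) (.leaf (nat_lit 101379) [nat_lit 231, nat_lit 420, nat_lit 273, nat_lit 420, nat_lit 105]) (.node (nat_lit 27) (.leaf (nat_lit 112649) [nat_lit 399, nat_lit 189, nat_lit 273, nat_lit 84, nat_lit 399]) (.leaf (nat_lit 74760) [nat_lit 231, nat_lit 252, nat_lit 210, nat_lit 378, nat_lit 357]))) (.node (nat_lit 30) (.node (nat_lit 29) (.leaf (nat_lit 117766) [nat_lit 273, nat_lit 399, nat_lit 378, nat_lit 399]) (.leaf (nat_lit 67592) [nat_lit 189, nat_lit 252, nat_lit 168,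 nat_lit 357, nat_lit 336])) (.node (nat_lit 32) r110 r111))))
noncomputable def w11 : WT := (.node (nat_lit 1) (.leaf (nat_lit 6146) [nat_lit 252]) (.node (nat_lit 8) (.node (nat_lit 4) (.node (nat_lit 2) (.leaf (nat_lit 82950) [nat_lit 315, nat_lit 252, nat_lit 315]) r104) (.node (nat_lit 6) r105 r106)) (.node (nat_lit 15) (.node (nat_lit 11) r107 r108) (.node (nat_lit 21) r109 r112))))
noncomputable def r113 : WT := (.node (nat_lit 3) (.leaf (nat_lit 88066) [nat_lit 336, nat_lit 294, nat_lit 336]) (.leaf (nat_lit 51200) [nat_lit 105, nat_lit 294, nat_lit 105]))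
noncomputable def r114 : WT := (.node (nat_lit 5) (.leaf (nat_lit 90114) [nat_lit 378, nat_lit 294, nat_lit 378]) (.leaf (nat_lit 89090) [nat_lit 357, nat_lit 294, nat_lit 357]))
noncomputable def r115 : WT := (.node (nat_lit 7) (.leaf (nat_lit 102402) [nat_lit 420, nat_lit 273, nat_lit 273, nat_lit 420]) (.node (nat_lit 8) (.leaf (nat_lit 68608) [nat_lit 168, nat_lit 378, nat_lit 294, nat_lit 189]) (.leaf (nat_lit 68611) [nat_lit 378, nat_lit 189, nat_lit 294, nat_lit 168])))
noncomputable def r116 : WT := (.node (nat_lit 10) (.leaf (nat_lit 19456) [nat_lit 126, nat_lit 126]) (.node (nat_lit 11) (.leaf (nat_lit 19461) [nat_lit 147, nat_lit 147]) (.leaf (nat_lit 108550) [nat_lit 399, nat_lit 84, nat_lit 399])))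
noncomputable def r117 : WT := (.node (nat_lit 13) (.leaf (nat_lit 31744) [nat_lit 42, nat_lit 315, nat_lit 294, nat_lit 63]) (.node (nat_lit 14) (.leaf (nat_lit 41984) [nat_lit 84, nat_lit 336, nat_lit 294, nat_lit 84]) (.leaf (nat_lit 81920) [nat_lit 252, nat_lit 378, nat_lit 294, nat_lit 273])))
noncomputable def r118 : WT := (.node (nat_lit 18) (.node (nat_lit 16) (.leaf (nat_lit 31747) [nat_lit 315, nat_lit 63, nat_lit 294, nat_lit 42]) (.node (nat_lit 17) (.leaf (nat_lit 41990) [nat_lit 84, nat_lit 294, nat_lit 84, nat_lit 336]) (.leaf (nat_lit 68614) [nat_lit 189, nat_lit 294, nat_lit 168, nat_lit 378]))) (.node (nat_lit 20) (.node (nat_lit 19) (.leaf (nat_lit 75776) [nat_lit 210, nat_lit 378, nat_lit 294, nat_lit 231]) (.leaf (nat_lit 81923) [nat_lit 378, nat_lit 273, nat_lit 294, nat_lit 252])) (.node (nat_lit 21) (.leaf (nat_lit 75779) [nat_lit 378, nat_lit 231, nat_lit 294, nat_lit 210]) (.leaf (nat_lit 104456) [nat_lit 63, nat_lit 336, nat_lit 420, nat_lit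 336, nat_lit 420, nat_lit 42]))))
noncomputable def r119 : WT := (.node (nat_lit 31) (.leaf (nat_lit 114689) [nat_lit 210, nat_lit 399, nat_lit 315, nat_lit 399]) (.leaf (nat_lit 97283) [nat_lit 210, nat_lit 420, nat_lit 105, nat_lit 420, nat_lit 357]))
noncomputable def r120 : WT := (.node (nat_lit 34) (.leaf (nat_lit 31753) [nat_lit 42, nat_lit 294, nat_lit 315, nat_lit 63]) (.leaf (nat_lit 50181) [nat_lit 315, nat_lit 336, nat_lit 105, nat_lit 273, nat_lit 105, nat_lit 252]))
noncomputable def r121 : WT := (.node (nat_lit 36) (.leaf (nat_lit 100360) [nat_lit 357, nat_lit 420, nat_lit 210, nat_lit 420, nat_lit 105]) (.leaf (nat_lit 103425) [nat_lit 168, nat_lit 168, nat_lit 420, nat_lit 315, nat_lit 420]))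
noncomputable def r122 : WT := (.node (nat_lit 38) (.leaf (nat_lit 102407) [nat_lit 420, nat_lit 252, nat_lit 252, nat_lit 420]) (.node (nat_lit 39) (.leaf (nat_lit 104453) [nat_lit 63, nat_lit 420, nat_lit 336, nat_lit 420, nat_lit 336, nat_lit 42]) (.leaf (nat_lit 50184) [nat_lit 273, nat_lit 105, nat_lit 252, nat_lit 105, nat_lit 336, nat_lit 315])))
noncomputable def r123 : WT := (.node (nat_lit 41) (.leaf (nat_lit 27655) [nat_lit 378, nat_lit 63, nat_lit 147, nat_lit 42, nat_lit 126, nat_lit 168]) (.node (nat_lit 42) (.leaf (nat_lit 110598) [nat_lit 84, nat_lit 189, nat_lit 399, nat_lit 168, nat_lit 399]) (.leaf (nat_lit 81926) [nat_lit 273, nat_lit 294, nat_lit 252, nat_lit 378])))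
noncomputable def r124 : WT := (.node (nat_lit 46) (.node (nat_lit 44) (.leaf (nat_lit 41987) [nat_lit 336, nat_lit 84, nat_lit 294, nat_lit 84]) (.node (nat_lit 45) (.leaf (nat_lit 37895) [nat_lit 378, nat_lit 84, nat_lit 147, nat_lit 84, nat_lit 126, nat_lit 210]) (.leaf (nat_lit 100355) [nat_lit 105, nat_lit 420, nat_lit 231, nat_lit 420, nat_lit 357]))) (.node (nat_lit 47) (.leaf (nat_lit 75785) [nat_lit 210, nat_lit 294, nat_lit 378, nat_lit 231]) (.node (nat_lit 48) (.leaf (nat_lit 105475) [nat_lit 420, nat_lit 357, nat_lit 420, nat_lit 378]) (.leaf (nat_lit 60416) [nat_lit 126, nat_lit 294, nat_lit 147]))))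
noncomputable def r125 : WT := (.node (nat_lit 29) (.node (nat_lit 25) (.node (nat_lit 23) (.leaf (nat_lit 31750) [nat_lit 63, nat_lit 294, nat_lit 42, nat_lit 315]) (.node (nat_lit 24) (.leaf (nat_lit 105478) [nat_lit 378, nat_lit 420, nat_lit 357, nat_lit 420]) (.leaf (nat_lit 68617) [nat_lit 168, nat_lit 294, nat_lit 378, nat_lit 189]))) (.node (nat_lit 27) (.node (nat_lit 26) (.leaf (nat_lit 75782) [nat_lit 231, nat_lit 294, nat_lit 210, nat_lit 378]) (.leaf (nat_lit 114696) [nat_lit 399, nat_lit 315, nat_lit 399, nat_lit 231])) (.node (nat_lit 28) (.leaf (nat_lit 103434) [nat_lit 420, nat_lit 315, nat_lit 420, nat_lit 189, nat_lit 189]) (.leaf (nat_lit 28679) [nat_lit 315, nat_lit 336, nat_lit 357, nat_lit 63, nat_lit 189, nat_lit 42, nat_lit 168, nat_lit 210])))) (.node (nat_lit 35) (.node (nat_lit 32) (.node (nat_lit 30) (.leaf (nat_lit 81929) [nat_lit 252, nat_lit 294, nat_lit 378, nat_lit 273]) r119) (.node (nat_lit 33) (.leaf (nat_lit 110597) [nat_lit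 399, nat_lit 189, nat_lit 399, nat_lit 168, nat_lit 84]) r120)) (.node (nat_lit 40) (.node (nat_lit 37) r121 r122) (.node (nat_lit 43) r123 r124))))
noncomputable def w12 : WT := (.node (nat_lit 1) (.leaf (nat_lit 7168) [nat_lit 294]) (.node (nat_lit 9) (.node (nat_lit 4) (.node (nat_lit 2) (.leaf (nat_lit 87042) [nat_lit 315, nat_lit 294, nat_lit 315]) r113) (.node (nat_lit 6) r114 r115)) (.node (nat_lit 15) (.node (nat_lit 12) r116 r117) (.node (nat_lit 22) r118 r125))))
noncomputable def r126 : WT := (.node (nat_lit 2) (.leaf (nat_lit 91138) [nat_lit 336, nat_lit 315, nat_lit 336]) (.leaf (nat_lit 69632) [nat_lit 168, nat_lit 378, nat_lit 315, nat_lit 189]))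
noncomputable def r127 : WT := (.node (nat_lit 4) (.leaf (nat_lit 69635) [nat_lit 378, nat_lit 189, nat_lit 315, nat_lit 168]) (.leaf (nat_lit 92162) [nat_lit 357, nat_lit 315, nat_lit 357]))
noncomputable def r128 : WT := (.node (nat_lit 6) (.leaf (nat_lit 87040) [nat_lit 294, nat_lit 315, nat_lit 294]) (.leaf (nat_lit 93186) [nat_lit 378, nat_lit 315, nat_lit 378]))
noncomputable def r129 : WT := (.node (nat_lit 8) (.leaf (nat_lit 52224) [nat_lit 105, nat_lit 378, nat_lit 315, nat_lit 105]) (.node (nat_lit 9) (.leaf (nat_lit 61440) [nat_lit 126, nat_lit 315, nat_lit 147]) (.leaf (nat_lit 82944) [nat_lit 252, nat_lit 315, nat_lit 273])))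
noncomputable def r130 : WT := (.node (nat_lit 11) (.leaf (nat_lit 32768) [nat_lit 42, nat_lit 336, nat_lit 315, nat_lit 63]) (.node (nat_lit 12) (.leaf (nat_lit 61444) [nat_lit 147, nat_lit 315, nat_lit 126]) (.leaf (nat_lit 20489) [nat_lit 399, nat_lit 231, nat_lit 399, nat_lit 84])))
noncomputable def r131 : WT := (.node (nat_lit 15) (.node (nat_lit 14) (.leaf (nat_lit 76804) [nat_lit 231, nat_lit 315, nat_lit 210]) (.leaf (nat_lit 29700) [nat_lit 231, nat_lit 63, nat_lit 210, nat_lit 42])) (.node (nat_lit 16) (.leaf (nat_lit 82948) [nat_lit 273, nat_lit 315, nat_lit 252]) (.leaf (nat_lit 103426) [nat_lit 420, nat_lit 189, nat_lit 189, nat_lit 294, nat_lit 420])))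
noncomputable def r132 : WT := (.node (nat_lit 20) (.node (nat_lit 18) (.leaf (nat_lit 98305) [nat_lit 252, nat_lit 168, nat_lit 420, nat_lit 147, nat_lit 420]) (.node (nat_lit 19) (.leaf (nat_lit 20480) [nat_lit 84, nat_lit 399, nat_lit 210, nat_lit 399]) (.leaf (nat_lit 43008) [nat_lit 84, nat_lit 378, nat_lit 357, nat_lit 315, nat_lit 84]))) (.node (nat_lit 22) (.node (nat_lit 21) (.leaf (nat_lit 32774) [nat_lit 63, nat_lit 315, nat_lit 42, nat_lit 336]) (.leaf (nat_lit 76800) [nat_lit 210, nat_lit 315, nat_lit 231])) (.node (nat_lit 23) (.leaf (nat_lit 31749) [nat_lit 63, nat_lit 294, nat_lit 42, nat_lit 294]) (.node (nat_lit 24) (.leaf (nat_lit 69638) [nat_lit 189, nat_lit 315, nat_lit 168, nat_lit 378]) (.leaf (nat_lit 31748) [nat_lit 294, nat_lit 63, nat_lit 294, nat_lit 42])))))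
noncomputable def r133 : WT := (.node (nat_lit 36) (.leaf (nat_lit 49160) [nat_lit 231, nat_lit 105, nat_lit 210, nat_lit 105, nat_lit 378, nat_lit 336]) (.leaf (nat_lit 43016) [nat_lit 84, nat_lit 315, nat_lit 84, nat_lit 378, nat_lit 357]))
noncomputable def r134 : WT := (.node (nat_lit 39) (.leaf (nat_lit 52230) [nat_lit 105, nat_lit 315, nat_lit 105, nat_lit 378]) (.leaf (nat_lit 49157) [nat_lit 336, nat_lit 378, nat_lit 105, nat_lit 231, nat_lit 105, nat_lit 210]))
noncomputable def r135 : WT := (.node (nat_lit 41) (.leaf (nat_lit 32771) [nat_lit 336, nat_lit 63, nat_lit 315, nat_lit 42]) (.node (nat_lit 42) (.leaf (nat_lit 69641) [nat_lit 168, nat_lit 315, nat_lit 378, nat_lit 189]) (.leaf (nat_lit 50182) [nat_lit 294, nat_lit 273, nat_lit 105, nat_lit 252, nat_lit 105, nat_lit 336])))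
noncomputable def r136 : WT := (.node (nat_lit 45) (.node (nat_lit 44) (.leaf (nat_lit 50183) [nat_lit 336, nat_lit 105, nat_lit 273, nat_lit 105, nat_lit 252, nat_lit 294]) (.leaf (nat_lit 59400) [nat_lit 273, nat_lit 147, nat_lit 252, nat_lit 126, nat_lit 357, nat_lit 336])) (.node (nat_lit 46) (.leaf (nat_lit 43011) [nat_lit 357, nat_lit 378, nat_lit 84, nat_lit 315, nat_lit 84]) (.leaf (nat_lit 28681) [nat_lit 336, nat_lit 357, nat_lit 63, nat_lit 189, nat_lit 42, nat_lit 168, nat_lit 210, nat_lit 294])))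
noncomputable def r137 : WT := (.node (nat_lit 32) (.node (nat_lit 28) (.node (nat_lit 26) (.leaf (nat_lit 57349) [nat_lit 336, nat_lit 357, nat_lit 378, nat_lit 147, nat_lit 189, nat_lit 126, nat_lit 168]) (.node (nat_lit 27) (.leaf (nat_lit 29701) [nat_lit 63, nat_lit 231, nat_lit 42, nat_lit 210]) (.leaf (nat_lit 30724) [nat_lit 273, nat_lit 63, nat_lit 252, nat_lit 42]))) (.node (nat_lit 30) (.node (nat_lit 29) (.leaf (nat_lit 98314) [nat_lit 420, nat_lit 126, nat_lit 420, nat_lit 189, nat_lit 273]) (.leaf (nat_lit 59397) [nat_lit 336, nat_lit 357, nat_lit 147, nat_lit 273, nat_lit 126, nat_lit 252])) (.node (nat_lit 31) (.leaf (nat_lit 114690) [nat_lit 399, nat_lit 231, nat_lit 294, nat_lit 399]) (.leaf (nat_lit 103433) [nat_lit 420, nat_lit 294, nat_lit 168, nat_lit 168, nat_lit 420])))) (.node (nat_lit 37) (.node (nat_lit 34) (.node (nat_lit 33) (.leaf (nat_lit 52233) [nat_lit 105, nat_lit 315, nat_lit 378, nat_lit 105]) (.leaf (nat_lit 32777) [nat_lit 42,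 nat_lit 315, nat_lit 336, nat_lit 63])) (.node (nat_lit 35) (.leaf (nat_lit 52227) [nat_lit 378, nat_lit 105, nat_lit 315, nat_lit 105]) r133)) (.node (nat_lit 40) (.node (nat_lit 38) (.leaf (nat_lit 30725) [nat_lit 63, nat_lit 273, nat_lit 42, nat_lit 252]) r134) (.node (nat_lit 43) r135 r136))))
noncomputable def w13 : WT := (.node (nat_lit 1) (.leaf (nat_lit 8192) [nat_lit 315]) (.node (nat_lit 10) (.node (nat_lit 5) (.node (nat_lit 3) r126 r127) (.node (nat_lit 7) r128 r129)) (.node (nat_lit 17) (.node (nat_lit 13) r130 r131) (.node (nat_lit 25) r132 r137))))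
noncomputable def r138 : WT := (.node (nat_lit 3) (.leaf (nat_lit 70660) [nat_lit 189, nat_lit 336, nat_lit 168]) (.leaf (nat_lit 95234) [nat_lit 378, nat_lit 336, nat_lit 378]))
noncomputable def r139 : WT := (.node (nat_lit 5) (.leaf (nat_lit 70656) [nat_lit 168, nat_lit 336, nat_lit 189]) (.leaf (nat_lit 94210) [nat_lit 357, nat_lit 336, nat_lit 357]))
noncomputable def r140 : WT := (.node (nat_lit 7) (.leaf (nat_lit 53248) [nat_lit 105, nat_lit 378, nat_lit 336, nat_lit 105]) (.leaf (nat_lit 88064) [nat_lit 294, nat_lit 336, nat_lit 294]))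
noncomputable def r141 : WT := (.node (nat_lit 10) (.node (nat_lit 9) (.leaf (nat_lit 44032) [nat_lit 84, nat_lit 336, nat_lit 84]) (.leaf (nat_lit 83968) [nat_lit 252, nat_lit 336, nat_lit 273])) (.node (nat_lit 11) (.leaf (nat_lit 77828) [nat_lit 231, nat_lit 336, nat_lit 210]) (.leaf (nat_lit 33792) [nat_lit 42, nat_lit 378, nat_lit 357, nat_lit 336, nat_lit 63])))
noncomputable def r142 : WT := (.node (nat_lit 14) (.node (nat_lit 13) (.leaf (nat_lit 115714) [nat_lit 399, nat_lit 336, nat_lit 399]) (.leaf (nat_lit 104450) [nat_lit 420, nat_lit 42, nat_lit 294, nat_lit 63, nat_lit 336, nat_lit 420])) (.node (nat_lit 15) (.leaf (nat_lit 21504) [nat_lit 63, nat_lit 168, nat_lit 168, nat_lit 42]) (.leaf (nat_lit 83972) [nat_lit 273, nat_lit 336, nat_lit 252])))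
noncomputable def r143 : WT := (.node (nat_lit 20) (.node (nat_lit 18) (.node (nat_lit 17) (.leaf (nat_lit 62464) [nat_lit 126, nat_lit 378, nat_lit 336, nat_lit 147]) (.leaf (nat_lit 65544) [nat_lit 168, nat_lit 168, nat_lit 378, nat_lit 357])) (.node (nat_lit 19) (.leaf (nat_lit 58372) [nat_lit 231, nat_lit 147, nat_lit 210, nat_lit 126]) (.leaf (nat_lit 77824) [nat_lit 210, nat_lit 336, nat_lit 231]))) (.node (nat_lit 22) (.node (nat_lit 21) (.leaf (nat_lit 53254) [nat_lit 105, nat_lit 336, nat_lit 105, nat_lit 378]) (.leaf (nat_lit 32772) [nat_lit 315, nat_lit 63, nat_lit 315, nat_lit 42])) (.node (nat_lit 23) (.leaf (nat_lit 41988) [nat_lit 294, nat_lit 84, nat_lit 294, nat_lit 84]) (.leaf (nat_lit 104459) [nat_lit 420, nat_lit 336, nat_lit 42, nat_lit 294, nat_lit 63, nat_lit 420]))))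
noncomputable def r144 : WT := (.node (nat_lit 34) (.leaf (nat_lit 58373) [nat_lit 147, nat_lit 231, nat_lit 126, nat_lit 210]) (.leaf (nat_lit 41989) [nat_lit 84, nat_lit 294, nat_lit 84, nat_lit 294]))
noncomputable def r145 : WT := (.node (nat_lit 37) (.leaf (nat_lit 36871) [nat_lit 84, nat_lit 105, nat_lit 84, nat_lit 105, nat_lit 168]) (.leaf (nat_lit 50185) [nat_lit 105, nat_lit 273, nat_lit 105, nat_lit 252, nat_lit 294, nat_lit 315]))
noncomputable def r146 : WT := (.node (nat_lit 39) (.leaf (nat_lit 104460) [nat_lit 420, nat_lit 336, nat_lit 420, nat_lit 42, nat_lit 294, nat_lit 63]) (.leaf (nat_lit 48133) [nat_lit 357, nat_lit 105, nat_lit 189, nat_lit 105, nat_lit 168]))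
noncomputable def r147 : WT := (.node (nat_lit 41) (.leaf (nat_lit 40964) [nat_lit 273, nat_lit 84, nat_lit 252, nat_lit 84]) (.node (nat_lit 42) (.leaf (nat_lit 50180) [nat_lit 315, nat_lit 294, nat_lit 273, nat_lit 105, nat_lit 252, nat_lit 105]) (.leaf (nat_lit 49159) [nat_lit 378, nat_lit 105, nat_lit 231, nat_lit 105, nat_lit 210, nat_lit 315])))
noncomputable def r148 : WT := (.node (nat_lit 45) (.node (nat_lit 44) (.leaf (nat_lit 59399) [nat_lit 357, nat_lit 147, nat_lit 273, nat_lit 126, nat_lit 252, nat_lit 315]) (.leaf (nat_lit 59398) [nat_lit 315, nat_lit 273, nat_lit 147, nat_lit 252, nat_lit 126, nat_lit 357])) (.node (nat_lit 46) (.leaf (nat_lit 49158) [nat_lit 315, nat_lit 231, nat_lit 105, nat_lit 210, nat_lit 105, nat_lit 378]) (.leaf (nat_lit 38917) [nat_lit 357, nat_lit 378, nat_lit 84, nat_lit 189, nat_lit 84, nat_lit 168])))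
noncomputable def r149 : WT := (.node (nat_lit 50) (.node (nat_lit 48) (.leaf (nat_lit 67590) [nat_lit 273, nat_lit 189, nat_lit 252, nat_lit 168, nat_lit 357]) (.node (nat_lit 49) (.leaf (nat_lit 48134) [nat_lit 189, nat_lit 105, nat_lit 168, nat_lit 105, nat_lit 357]) (.leaf (nat_lit 40965) [nat_lit 84, nat_lit 273, nat_lit 84, nat_lit 252]))) (.node (nat_lit 51) (.leaf (nat_lit 21513) [nat_lit 63, nat_lit 189, nat_lit 189, nat_lit 42]) (.node (nat_lit 52) (.leaf (nat_lit 57352) [nat_lit 315, nat_lit 189, nat_lit 147, nat_lit 168, nat_lit 126, nat_lit 378, nat_lit 357]) (.leaf (nat_lit 57351) [nat_lit 357, nat_lit 378, nat_lit 147, nat_lit 189, nat_lit 126, nat_lit 168, nat_lit 315]))))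
noncomputable def r150 : WT := (.node (nat_lit 32) (.node (nat_lit 28) (.node (nat_lit 26) (.node (nat_lit 25) (.leaf (nat_lit 33803) [nat_lit 42, nat_lit 336, nat_lit 357, nat_lit 378, nat_lit 63]) (.leaf (nat_lit 62467) [nat_lit 378, nat_lit 147, nat_lit 336, nat_lit 126])) (.node (nat_lit 27) (.leaf (nat_lit 32773) [nat_lit 63, nat_lit 315, nat_lit 42, nat_lit 315]) (.leaf (nat_lit 53251) [nat_lit 378, nat_lit 105, nat_lit 336, nat_lit 105]))) (.node (nat_lit 30) (.node (nat_lit 29) (.leaf (nat_lit 104449) [nat_lit 42, nat_lit 294, nat_lit 63, nat_lit 420, nat_lit 336, nat_lit 420]) (.leaf (nat_lit 39940) [nat_lit 231, nat_lit 84, nat_lit 210, nat_lit 84])) (.node (nat_lit 31) (.leaf (nat_lit 65537) [nat_lit 357, nat_lit 378, nat_lit 189, nat_lit 189]) (.leaf (nat_lit 53257) [nat_lit 105, nat_lit 336, nat_lit 378, nat_lit 105])))) (.node (nat_lit 38) (.node (nat_lit 35) (.node (nat_lit 33) (.leaf (nat_lit 62470) [nat_lit 147, nat_lit 336, nat_lit 126, nat_lit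 378]) r144) (.node (nat_lit 36) (.leaf (nat_lit 39941) [nat_lit 84, nat_lit 231, nat_lit 84, nat_lit 210]) r145)) (.node (nat_lit 43) (.node (nat_lit 40) r146 r147) (.node (nat_lit 47) r148 r149))))
noncomputable def w14 : WT := (.node (nat_lit 1) (.leaf (nat_lit 9216) [nat_lit 336]) (.node (nat_lit 8) (.node (nat_lit 4) (.node (nat_lit 2) (.leaf (nat_lit 91136) [nat_lit 315, nat_lit 336, nat_lit 315]) r138) (.node (nat_lit 6) r139 r140)) (.node (nat_lit 16) (.node (nat_lit 12) r141 r142) (.node (nat_lit 24) r143 r150))))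
noncomputable def r151 : WT := (.node (nat_lit 3) (.leaf (nat_lit 71680) [nat_lit 168, nat_lit 357, nat_lit 189]) (.leaf (nat_lit 71684) [nat_lit 189, nat_lit 357, nat_lit 168]))
noncomputable def r152 : WT := (.node (nat_lit 5) (.leaf (nat_lit 92160) [nat_lit 315, nat_lit 357, nat_lit 315]) (.leaf (nat_lit 105474) [nat_lit 420, nat_lit 294, nat_lit 378, nat_lit 420]))
noncomputable def r153 : WT := (.node (nat_lit 7) (.leaf (nat_lit 80902) [nat_lit 252, nat_lit 252, nat_lit 378]) (.leaf (nat_lit 34820) [nat_lit 63, nat_lit 357, nat_lit 42]))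
noncomputable def r154 : WT := (.node (nat_lit 9) (.leaf (nat_lit 45056) [nat_lit 84, nat_lit 357, nat_lit 84]) (.node (nat_lit 10) (.leaf (nat_lit 89088) [nat_lit 294, nat_lit 357, nat_lit 294]) (.leaf (nat_lit 22528) [nat_lit 105, nat_lit 252, nat_lit 252, nat_lit 105])))
noncomputable def r155 : WT := (.node (nat_lit 12) (.leaf (nat_lit 63492) [nat_lit 147, nat_lit 357, nat_lit 126]) (.node (nat_lit 13) (.leaf (nat_lit 63488) [nat_lit 126, nat_lit 357, nat_lit 147]) (.leaf (nat_lit 34816) [nat_lit 42, nat_lit 357, nat_lit 63])))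
noncomputable def r156 : WT := (.node (nat_lit 16) (.node (nat_lit 15) (.leaf (nat_lit 78852) [nat_lit 231, nat_lit 357, nat_lit 210]) (.leaf (nat_lit 84996) [nat_lit 273, nat_lit 357, nat_lit 252])) (.node (nat_lit 17) (.leaf (nat_lit 96258) [nat_lit 378, nat_lit 357, nat_lit 378]) (.node (nat_lit 18) (.leaf (nat_lit 116738) [nat_lit 399, nat_lit 357, nat_lit 399]) (.leaf (nat_lit 84992) [nat_lit 252, nat_lit 357, nat_lit 273]))))
noncomputable def r157 : WT := (.node (nat_lit 27) (.leaf (nat_lit 97281) [nat_lit 294, nat_lit 210, nat_lit 420, nat_lit 105, nat_lit 420]) (.leaf (nat_lit 59396) [nat_lit 336, nat_lit 315, nat_lit 273, nat_lit 147, nat_lit 252, nat_lit 126]))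
noncomputable def r158 : WT := (.node (nat_lit 29) (.leaf (nat_lit 54278) [nat_lit 105, nat_lit 357, nat_lit 105, nat_lit 378]) (.node (nat_lit 30) (.leaf (nat_lit 43013) [nat_lit 378, nat_lit 84, nat_lit 315, nat_lit 84, nat_lit 315]) (.leaf (nat_lit 48132) [nat_lit 336, nat_lit 189, nat_lit 105, nat_lit 168, nat_lit 105])))
noncomputable def r159 : WT := (.node (nat_lit 32) (.leaf (nat_lit 66566) [nat_lit 231, nat_lit 189, nat_lit 210, nat_lit 168, nat_lit 378]) (.node (nat_lit 33) (.leaf (nat_lit 33797) [nat_lit 378, nat_lit 63, nat_lit 336, nat_lit 42, nat_lit 336]) (.leaf (nat_lit 97290) [nat_lit 420, nat_lit 105, nat_lit 420, nat_lit 231, nat_lit 294])))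
noncomputable def r160 : WT := (.node (nat_lit 36) (.node (nat_lit 35) (.leaf (nat_lit 65542) [nat_lit 336, nat_lit 168, nat_lit 168, nat_lit 378]) (.leaf (nat_lit 59401) [nat_lit 147, nat_lit 273, nat_lit 126, nat_lit 252, nat_lit 315, nat_lit 336])) (.node (nat_lit 37) (.leaf (nat_lit 43014) [nat_lit 315, nat_lit 84, nat_lit 315, nat_lit 84, nat_lit 378]) (.leaf (nat_lit 48135) [nat_lit 105, nat_lit 189, nat_lit 105, nat_lit 168, nat_lit 336])))
noncomputable def r161 : WT := (.node (nat_lit 41) (.node (nat_lit 39) (.leaf (nat_lit 67591) [nat_lit 189, nat_lit 273, nat_lit 168, nat_lit 252, nat_lit 336]) (.node (nat_lit 40) (.leaf (nat_lit 74757) [nat_lit 378, nat_lit 231, nat_lit 273, nat_lit 210, nat_lit 252]) (.leaf (nat_lit 38919) [nat_lit 378, nat_lit 84, nat_lit 189, nat_lit 84, nat_lit 168, nat_lit 336]))) (.node (nat_lit 42) (.leaf (nat_lit 54281) [nat_lit 105, nat_lit 357, nat_lit 378, nat_lit 105]) (.node (nat_lit 43) (.leaf (nat_lit 57350) [nat_lit 336,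 nat_lit 315, nat_lit 189, nat_lit 147, nat_lit 168, nat_lit 126, nat_lit 378]) (.leaf (nat_lit 28676) [nat_lit 336, nat_lit 315, nat_lit 294, nat_lit 231, nat_lit 189, nat_lit 63, nat_lit 168, nat_lit 42]))))
noncomputable def r162 : WT := (.node (nat_lit 23) (.node (nat_lit 21) (.node (nat_lit 20) (.leaf (nat_lit 80897) [nat_lit 378, nat_lit 273, nat_lit 273]) (.leaf (nat_lit 65539) [nat_lit 378, nat_lit 189, nat_lit 189, nat_lit 336])) (.node (nat_lit 22) (.leaf (nat_lit 54272) [nat_lit 105, nat_lit 378, nat_lit 357, nat_lit 105]) (.leaf (nat_lit 78848) [nat_lit 210, nat_lit 357, nat_lit 231]))) (.node (nat_lit 28) (.node (nat_lit 25) (.node (nat_lit 24) (.leaf (nat_lit 54275) [nat_lit 378, nat_lit 105, nat_lit 357, nat_lit 105]) (.leaf (nat_lit 67588) [nat_lit 336, nat_lit 273, nat_lit 189, nat_lit 252, nat_lit 168])) (.node (nat_lit 26) (.leaf (nat_lit 22537) [nat_lit 105, nat_lit 273, nat_lit 273, nat_lit 105]) r157)) (.node (nat_lit 34) (.node (nat_lit 31)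 r158 r159) (.node (nat_lit 38) r160 r161))))
noncomputable def w15 : WT := (.node (nat_lit 1) (.leaf (nat_lit 10240) [nat_lit 357]) (.node (nat_lit 8) (.node (nat_lit 4) (.node (nat_lit 2) (.leaf (nat_lit 94208) [nat_lit 336, nat_lit 357, nat_lit 336]) r151) (.node (nat_lit 6) r152 r153)) (.node (nat_lit 14) (.node (nat_lit 11) r154 r155) (.node (nat_lit 19) r156 r162))))
noncomputable def r163 : WT := (.node (nat_lit 3) (.leaf (nat_lit 72704) [nat_lit 168, nat_lit 378, nat_lit 189]) (.leaf (nat_lit 93184) [nat_lit 315, nat_lit 378, nat_lit 315]))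
noncomputable def r164 : WT := (.node (nat_lit 5) (.leaf (nat_lit 72708) [nat_lit 189, nat_lit 378, nat_lit 168]) (.leaf (nat_lit 106498) [nat_lit 420, nat_lit 378, nat_lit 420]))
noncomputable def r165 : WT := (.node (nat_lit 7) (.leaf (nat_lit 55296) [nat_lit 105, nat_lit 378, nat_lit 105]) (.leaf (nat_lit 80899) [nat_lit 273, nat_lit 273, nat_lit 357]))
noncomputable def r166 : WT := (.node (nat_lit 9) (.leaf (nat_lit 35844) [nat_lit 63, nat_lit 378, nat_lit 42]) (.node (nat_lit 10) (.leaf (nat_lit 90112) [nat_lit 294, nat_lit 378, nat_lit 294]) (.leaf (nat_lit 46080) [nat_lit 84, nat_lit 378, nat_lit 84])))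
noncomputable def r167 : WT := (.node (nat_lit 12) (.leaf (nat_lit 23552) [nat_lit 210, nat_lit 210]) (.node (nat_lit 13) (.leaf (nat_lit 35840) [nat_lit 42, nat_lit 378, nat_lit 63]) (.leaf (nat_lit 64516) [nat_lit 147, nat_lit 378, nat_lit 126])))
noncomputable def r168 : WT := (.node (nat_lit 17) (.node (nat_lit 15) (.leaf (nat_lit 86016) [nat_lit 252, nat_lit 378, nat_lit 273]) (.node (nat_lit 16) (.leaf (nat_lit 64512) [nat_lit 126, nat_lit 378, nat_lit 147]) (.leaf (nat_lit 80900) [nat_lit 357, nat_lit 252, nat_lit 252]))) (.node (nat_lit 18) (.leaf (nat_lit 23557) [nat_lit 231, nat_lit 231]) (.node (nat_lit 19) (.leaf (nat_lit 96256) [nat_lit 357, nat_lit 378, nat_lit 357]) (.leaf (nat_lit 117762) [nat_lit 399, nat_lit 273, nat_lit 273, nat_lit 399]))))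
noncomputable def r169 : WT := (.node (nat_lit 28) (.leaf (nat_lit 86020) [nat_lit 273, nat_lit 378, nat_lit 252]) (.leaf (nat_lit 75781) [nat_lit 231, nat_lit 294, nat_lit 210, nat_lit 294]))
noncomputable def r170 : WT := (.node (nat_lit 30) (.leaf (nat_lit 53252) [nat_lit 336, nat_lit 105, nat_lit 336, nat_lit 105]) (.leaf (nat_lit 53253) [nat_lit 105, nat_lit 336, nat_lit 105, nat_lit 336]))
noncomputable def r171 : WT := (.node (nat_lit 32) (.leaf (nat_lit 69636) [nat_lit 315, nat_lit 189, nat_lit 315, nat_lit 168]) (.leaf (nat_lit 105480) [nat_lit 420, nat_lit 357, nat_lit 420, nat_lit 294]))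
noncomputable def r172 : WT := (.node (nat_lit 34) (.leaf (nat_lit 62469) [nat_lit 147, nat_lit 336, nat_lit 126, nat_lit 336]) (.node (nat_lit 35) (.leaf (nat_lit 49161) [nat_lit 105, nat_lit 231, nat_lit 105, nat_lit 210, nat_lit 315, nat_lit 336]) (.leaf (nat_lit 81925) [nat_lit 273, nat_lit 294, nat_lit 252, nat_lit 294])))
noncomputable def r173 : WT := (.node (nat_lit 38) (.node (nat_lit 37) (.leaf (nat_lit 33796) [nat_lit 357, nat_lit 336, nat_lit 63, nat_lit 336, nat_lit 42]) (.leaf (nat_lit 26628) [nat_lit 336, nat_lit 315, nat_lit 273, nat_lit 147, nat_lit 105, nat_lit 63, nat_lit 105, nat_lit 42])) (.node (nat_lit 39) (.leaf (nat_lit 57348) [nat_lit 357, nat_lit 336, nat_lit 315, nat_lit 189, nat_lit 147, nat_lit 168, nat_lit 126]) (.node (nat_lit 40) (.leaf (nat_lit 38916) [nat_lit 357, nat_lit 336, nat_lit 189, nat_lit 84, nat_lit 168, nat_lit 84]) (.leaf (nat_lit 37897) [nat_lit 84, nat_lit 147, nat_lit 84, nat_lit 126, nat_lit 210, nat_lit 294]))))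
noncomputable def r174 : WT := (.node (nat_lit 43) (.node (nat_lit 42) (.leaf (nat_lit 37892) [nat_lit 294, nat_lit 231, nat_lit 147, nat_lit 84, nat_lit 126, nat_lit 84]) (.leaf (nat_lit 27652) [nat_lit 294, nat_lit 189, nat_lit 147, nat_lit 63, nat_lit 126, nat_lit 42])) (.node (nat_lit 44) (.leaf (nat_lit 66564) [nat_lit 357, nat_lit 231, nat_lit 189, nat_lit 210, nat_lit 168]) (.node (nat_lit 45) (.leaf (nat_lit 43015) [nat_lit 84, nat_lit 315, nat_lit 84, nat_lit 315, nat_lit 357]) (.leaf (nat_lit 43012) [nat_lit 357, nat_lit 315, nat_lit 84, nat_lit 315, nat_lit 84]))))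
noncomputable def r175 : WT := (.node (nat_lit 49) (.node (nat_lit 47) (.leaf (nat_lit 33799) [nat_lit 63, nat_lit 336, nat_lit 42, nat_lit 336, nat_lit 357]) (.node (nat_lit 48) (.leaf (nat_lit 117767) [nat_lit 399, nat_lit 252, nat_lit 252, nat_lit 399]) (.leaf (nat_lit 54277) [nat_lit 105, nat_lit 357, nat_lit 105, nat_lit 357]))) (.node (nat_lit 50) (.leaf (nat_lit 81924) [nat_lit 294, nat_lit 273, nat_lit 294, nat_lit 252]) (.node (nat_lit 51) (.leaf (nat_lit 69637) [nat_lit 189, nat_lit 315, nat_lit 168, nat_lit 315]) (.leaf (nat_lit 68612) [nat_lit 294, nat_lit 189, nat_lit 294, nat_lit 168]))))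
noncomputable def r176 : WT := (.node (nat_lit 26) (.node (nat_lit 22) (.node (nat_lit 21) (.leaf (nat_lit 65540) [nat_lit 357, nat_lit 336, nat_lit 168, nat_lit 168]) (.leaf (nat_lit 52228) [nat_lit 315, nat_lit 105, nat_lit 315, nat_lit 105])) (.node (nat_lit 24) (.node (nat_lit 23) (.leaf (nat_lit 68613) [nat_lit 189, nat_lit 294, nat_lit 168, nat_lit 294]) (.leaf (nat_lit 65541) [nat_lit 189, nat_lit 189, nat_lit 336, nat_lit 357])) (.node (nat_lit 25) (.leaf (nat_lit 62468) [nat_lit 336, nat_lit 147, nat_lit 336, nat_lit 126]) (.leaf (nat_lit 52229) [nat_lit 105, nat_lit 315, nat_lit 105, nat_lit 315])))) (.node (nat_lit 33) (.node (nat_lit 29) (.node (nat_lit 27) (.leaf (nat_lit 54276) [nat_lit 357, nat_lit 105, nat_lit 357, nat_lit 105]) r169) (.node (nat_lit 31) r170 r171)) (.node (nat_lit 41) (.node (nat_lit 36) r172 r173) (.node (nat_lit 46) r174 r175))))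
noncomputable def w16 : WT := (.node (nat_lit 1) (.leaf (nat_lit 11264) [nat_lit 378]) (.node (nat_lit 8) (.node (nat_lit 4) (.node (nat_lit 2) (.leaf (nat_lit 95232) [nat_lit 336, nat_lit 378, nat_lit 336]) r163) (.node (nat_lit 6) r164 r165)) (.node (nat_lit 14) (.node (nat_lit 11) r166 r167) (.node (nat_lit 20) r168 r176))))
noncomputable def r177 : WT := (.node (nat_lit 3) (.leaf (nat_lit 118786) [nat_lit 105, nat_lit 399, nat_lit 105, nat_lit 399, nat_lit 105]) (.leaf (nat_lit 116736) [nat_lit 357, nat_lit 399, nat_lit 357]))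
noncomputable def r178 : WT := (.node (nat_lit 5) (.leaf (nat_lit 117764) [nat_lit 273, nat_lit 273, nat_lit 399, nat_lit 378]) (.leaf (nat_lit 15365) [nat_lit 126, nat_lit 399, nat_lit 63]))
noncomputable def r179 : WT := (.node (nat_lit 7) (.leaf (nat_lit 15362) [nat_lit 42, nat_lit 399, nat_lit 147]) (.node (nat_lit 8) (.leaf (nat_lit 108544) [nat_lit 84, nat_lit 399, nat_lit 294]) (.leaf (nat_lit 20481) [nat_lit 231, nat_lit 399, nat_lit 84, nat_lit 315])))
noncomputable def r180 : WT := (.node (nat_lit 10) (.leaf (nat_lit 108548) [nat_lit 294, nat_lit 399, nat_lit 84]) (.leaf (nat_lit 110596) [nat_lit 294, nat_lit 84, nat_lit 189, nat_lit 399, nat_lit 168]))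
noncomputable def r181 : WT := (.node (nat_lit 12) (.leaf (nat_lit 15366) [nat_lit 147, nat_lit 399, nat_lit 42]) (.node (nat_lit 13) (.leaf (nat_lit 110592) [nat_lit 168, nat_lit 399, nat_lit 294, nat_lit 84, nat_lit 189]) (.leaf (nat_lit 15361) [nat_lit 63, nat_lit 399, nat_lit 126])))
noncomputable def r182 : WT := (.node (nat_lit 16) (.node (nat_lit 15) (.leaf (nat_lit 110603) [nat_lit 168, nat_lit 84, nat_lit 294, nat_lit 399, nat_lit 189]) (.leaf (nat_lit 112651) [nat_lit 189, nat_lit 273, nat_lit 84, nat_lit 399, nat_lit 273])) (.node (nat_lit 17) (.leaf (nat_lit 20488) [nat_lit 315, nat_lit 84, nat_lit 399, nat_lit 210]) (.leaf (nat_lit 20485) [nat_lit 84, nat_lit 315, nat_lit 399, nat_lit 231])))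
noncomputable def r183 : WT := (.leaf (nat_lit 121856) [nat_lit 420, nat_lit 399, nat_lit 420, nat_lit 399, nat_lit 420, nat_lit 399, nat_lit 420, nat_lit 399, nat_lit 420, nat_lit 399, nat_lit 420, nat_lit 399, nat_lit 420, nat_lit 399, nat_lit 420])
noncomputable def r184 : WT := (.node (nat_lit 28) (.leaf (nat_lit 114688) [nat_lit 315, nat_lit 399, nat_lit 231, nat_lit 294]) (.node (nat_lit 29) (.leaf (nat_lit 110599) [nat_lit 189, nat_lit 399, nat_lit 168, nat_lit 84, nat_lit 294]) (.leaf (nat_lit 114697) [nat_lit 294, nat_lit 210, nat_lit 399, nat_lit 315])))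
noncomputable def r185 : WT := (.node (nat_lit 21) (.node (nat_lit 19) (.leaf (nat_lit 117765) [nat_lit 378, nat_lit 399, nat_lit 252, nat_lit 252]) (.node (nat_lit 20) (.leaf (nat_lit 112644) [nat_lit 84, nat_lit 252, nat_lit 168, nat_lit 399, nat_lit 252]) (.leaf (nat_lit 117760) [nat_lit 378, nat_lit 399, nat_lit 273, nat_lit 273]))) (.node (nat_lit 24) (.node (nat_lit 22) (.leaf (nat_lit 114692) [nat_lit 231, nat_lit 294, nat_lit 399, nat_lit 315]) (.node (nat_lit 23) (.leaf (nat_lit 112640) [nat_lit 252, nat_lit 399, nat_lit 84, nat_lit 252, nat_lit 168]) (.leaf (nat_lit 20484) [nat_lit 210, nat_lit 399, nat_lit 315, nat_lit 84]))) (.node (nat_lit 26) (.node (nat_lit 25) (.leaf (nat_lit 117769) [nat_lit 252, nat_lit 252, nat_lit 399, nat_lit 378]) r183) (.node (nat_lit 27) (.leaf (nat_lit 112647) [nat_lit 273, nat_lit 399, nat_lit 189, nat_lit 273, nat_lit 84]) r184))))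
noncomputable def w17 : WT := (.node (nat_lit 1) (.leaf (nat_lit 12288) [nat_lit 399]) (.node (nat_lit 9) (.node (nat_lit 4) (.node (nat_lit 2) (.leaf (nat_lit 115712) [nat_lit 336, nat_lit 399, nat_lit 336]) r177) (.node (nat_lit 6) r178 r179)) (.node (nat_lit 14) (.node (nat_lit 11) r180 r181) (.node (nat_lit 18) r182 r185))))
noncomputable def r186 : WT := (.node (nat_lit 2) (.leaf (nat_lit 106496) [nat_lit 378, nat_lit 420, nat_lit 378]) (.leaf (nat_lit 104452) [nat_lit 42, nat_lit 294, nat_lit 63, nat_lit 336, nat_lit 420, nat_lit 336]))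
noncomputable def r187 : WT := (.node (nat_lit 4) (.leaf (nat_lit 119808) [nat_lit 42, nat_lit 420, nat_lit 84, nat_lit 420, nat_lit 63]) (.leaf (nat_lit 98311) [nat_lit 147, nat_lit 420, nat_lit 315, nat_lit 252, nat_lit 168]))
noncomputable def r188 : WT := (.node (nat_lit 6) (.leaf (nat_lit 105476) [nat_lit 294, nat_lit 378, nat_lit 420, nat_lit 357]) (.leaf (nat_lit 98304) [nat_lit 126, nat_lit 420, nat_lit 189, nat_lit 273, nat_lit 315]))
noncomputable def r189 : WT := (.node (nat_lit 8) (.leaf (nat_lit 97284) [nat_lit 231, nat_lit 294, nat_lit 357, nat_lit 420, nat_lit 105]) (.node (nat_lit 9) (.leaf (nat_lit 119812) [nat_lit 84, nat_lit 420, nat_lit 63, nat_lit 420, nat_lit 42]) (.leaf (nat_lit 119816) [nat_lit 63, nat_lit 420, nat_lit 42, nat_lit 420, nat_lit 84])))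
noncomputable def r190 : WT := (.node (nat_lit 12) (.node (nat_lit 11) (.leaf (nat_lit 99341) [nat_lit 63, nat_lit 231, nat_lit 105, nat_lit 42, nat_lit 420, nat_lit 189]) (.leaf (nat_lit 102404) [nat_lit 273, nat_lit 273, nat_lit 420, nat_lit 294])) (.node (nat_lit 13) (.leaf (nat_lit 103428) [nat_lit 189, nat_lit 189, nat_lit 294, nat_lit 420, nat_lit 315]) (.leaf (nat_lit 98308) [nat_lit 189, nat_lit 273, nat_lit 315, nat_lit 420, nat_lit 126])))
noncomputable def r191 : WT := (.node (nat_lit 16) (.node (nat_lit 15) (.leaf (nat_lit 102400) [nat_lit 294, nat_lit 420, nat_lit 273, nat_lit 273]) (.leaf (nat_lit 97287) [nat_lit 105, nat_lit 420, nat_lit 357, nat_lit 294, nat_lit 210])) (.node (nat_lit 17) (.leaf (nat_lit 103431) [nat_lit 315, nat_lit 420, nat_lit 294, nat_lit 168, nat_lit 168]) (.node (nat_lit 18) (.leaf (nat_lit 98315) [nat_lit 315, nat_lit 252, nat_lit 168, nat_lit 420, nat_lit 147]) (.leaf (nat_lit 97280) [nat_lit 105, nat_lit 420, nat_lit 231,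 nat_lit 294, nat_lit 357]))))
noncomputable def r192 : WT := (.node (nat_lit 22) (.node (nat_lit 20) (.leaf (nat_lit 101376) [nat_lit 252, nat_lit 420, nat_lit 210, nat_lit 252, nat_lit 105]) (.node (nat_lit 21) (.leaf (nat_lit 99328) [nat_lit 168, nat_lit 420, nat_lit 63, nat_lit 105, nat_lit 210, nat_lit 42]) (.leaf (nat_lit 100363) [nat_lit 357, nat_lit 294, nat_lit 105, nat_lit 420, nat_lit 231]))) (.node (nat_lit 24) (.node (nat_lit 23) (.leaf (nat_lit 102405) [nat_lit 294, nat_lit 420, nat_lit 252, nat_lit 252]) (.leaf (nat_lit 101387) [nat_lit 105, nat_lit 273, nat_lit 231, nat_lit 420, nat_lit 273])) (.node (nat_lit 25) (.leaf (nat_lit 104448) [nat_lit 336, nat_lit 420, nat_lit 42, nat_lit 294, nat_lit 63, nat_lit 336]) (.leaf (nat_lit 101380) [nat_lit 210, nat_lit 252, nat_lit 105, nat_lit 420, nat_lit 252]))))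
noncomputable def r193 : WT := (.leaf (nat_lit 121858) [nat_lit 399, nat_lit 420, nat_lit 399, nat_lit 420, nat_lit 399, nat_lit 420, nat_lit 399, nat_lit 420, nat_lit 399, nat_lit 420, nat_lit 399, nat_lit 420, nat_lit 399, nat_lit 420, nat_lit 399])
noncomputable def r194 : WT := (.node (nat_lit 39) (.leaf (nat_lit 101383) [nat_lit 273, nat_lit 420, nat_lit 105, nat_lit 273, nat_lit 231]) (.leaf (nat_lit 100352) [nat_lit 210, nat_lit 420, nat_lit 105, nat_lit 294, nat_lit 357]))
noncomputable def r195 : WT := (.node (nat_lit 41) (.leaf (nat_lit 103424) [nat_lit 315, nat_lit 420, nat_lit 189, nat_lit 189, nat_lit 294]) (.leaf (nat_lit 104461) [nat_lit 336, nat_lit 42, nat_lit 294, nat_lit 63, nat_lit 420, nat_lit 336]))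
noncomputable def r196 : WT := (.node (nat_lit 32) (.node (nat_lit 29) (.node (nat_lit 27) (.leaf (nat_lit 100356) [nat_lit 105, nat_lit 294, nat_lit 357, nat_lit 420, nat_lit 210]) (.node (nat_lit 28) (.leaf (nat_lit 102409) [nat_lit 252, nat_lit 252, nat_lit 420, nat_lit 294]) (.leaf (nat_lit 99332) [nat_lit 63, nat_lit 105, nat_lit 210, nat_lit 42, nat_lit 420, nat_lit 168]))) (.node (nat_lit 30) (.leaf (nat_lit 105472) [nat_lit 357, nat_lit 420, nat_lit 294, nat_lit 378]) (.node (nat_lit 31) (.leaf (nat_lit 97291) [nat_lit 357, nat_lit 294, nat_lit 210, nat_lit 420, nat_lit 105]) r193))) (.node (nat_lit 36) (.node (nat_lit 34) (.node (nat_lit 33) (.leaf (nat_lit 105477) [nat_lit 357, nat_lit 420, nat_lit 378, nat_lit 294]) (.leaf (nat_lit 105481) [nat_lit 378, nat_lit 294, nat_lit 420, nat_lit 357])) (.node (nat_lit 35) (.leaf (nat_lit 99337) [nat_lit 189, nat_lit 420, nat_lit 63, nat_lit 231, nat_lit 105, nat_lit 42]) (.leaf (nat_lit 104457) [nat_lit 336, nat_lit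 420, nat_lit 336, nat_lit 42, nat_lit 294, nat_lit 63]))) (.node (nat_lit 38) (.node (nat_lit 37) (.leaf (nat_lit 103435) [nat_lit 294, nat_lit 168, nat_lit 168, nat_lit 420, nat_lit 315]) (.leaf (nat_lit 100359) [nat_lit 231, nat_lit 420, nat_lit 357, nat_lit 294, nat_lit 105])) (.node (nat_lit 40) r194 r195))))
noncomputable def w18 : WT := (.node (nat_lit 1) (.leaf (nat_lit 13312) [nat_lit 420]) (.node (nat_lit 10) (.node (nat_lit 5) (.node (nat_lit 3) r186 r187) (.node (nat_lit 7) r188 r189)) (.node (nat_lit 19) (.node (nat_lit 14) r190 r191) (.node (nat_lit 26) r192 r196))))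
noncomputable def wP : WT := (.leaf (nat_lit 110596) [nat_lit 399, nat_lit 294, nat_lit 84, nat_lit 189, nat_lit 399, nat_lit 168])
noncomputable def P : Par := ⟨tb, nat_lit 441, nat_lit 0x1ffffffffffffffffffffffffffffffffffffffffffffffffffffffffffffffffffffffffffffffffffffffffffffffffffffffffffffff, nat_lit 1756, nat_lit 2097151, nat_lit 2047, nat_lit 21, nat_lit 11, nat_lit 1755,
  [nat_lit 42, nat_lit 63, nat_lit 84, nat_lit 105, nat_lit 126, nat_lit 147, nat_lit 168, nat_lit 189, nat_lit 210, nat_lit 231, nat_lit 252, nat_lit 273, nat_lit 294, nat_lit 315, nat_lit 336, nat_lit 357, nat_lit 378, nat_lit 399, nat_lit 420], [nat_lit 42, nat_lit 84, nat_lit 105, nat_lit 126, nat_lit 168, nat_lit 210, nat_lit 252, nat_lit 294, nat_lit 315, nat_lit 336, nat_lit 357, nat_lit 378, nat_lit 420], wP,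
  (.cons (nat_lit 42) w0 (.cons (nat_lit 63) w1 (.cons (nat_lit 84) w2 (.cons (nat_lit 105) w3 (.cons (nat_lit 126) w4 (.cons (nat_lit 147) w5 (.cons (nat_lit 168) w6 (.cons (nat_lit 189) w7 (.cons (nat_lit 210) w8 (.cons (nat_lit 231) w9 (.cons (nat_lit 252) w10 (.cons (nat_lit 273) w11 (.cons (nat_lit 294) w12 (.cons (nat_lit 315) w13 (.cons (nat_lit 336) w14 (.cons (nat_lit 357) w15 (.cons (nat_lit 378) w16 (.cons (nat_lit 399) w17 (.cons (nat_lit 420) w18 .nil))))))))))))))))))),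
  .nil⟩

end Cfsg.Agent.Lib.RuTb
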