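import Cfsg.Agent.Lib.RuTcD0

set_option autoImplicit false
set_option maxRecDepth 100000

namespace Cfsg.Agent.Lib.RuTc
open Cfsg.Agent.Lib.TCCore

noncomputable def n0 : T := (.node (nat_lit 33) l0 (.node (nat_lit 66) l1 l2))
noncomputable def n1 : T := (.node (nat_lit 165) (.node (nat_lit 132) l3 l4) (.node (nat_lit 198) l5 l6))
noncomputable def n2 : T := (.node (nat_lit 297) (.node (nat_lit 264) l7 l8) (.node (nat_lit 330) l9 l10))
noncomputable def n3 : T := (.node (nat_lit 429) (.node (nat_lit 396) l11 l12) (.node (nat_lit 462) l13 l14))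
noncomputable def n4 : T := (.node (nat_lit 561) (.node (nat_lit 528) l15 l16) (.node (nat_lit 594) l17 l18))
noncomputable def n5 : T := (.node (nat_lit 693) (.node (nat_lit 660) l19 l20) (.node (nat_lit 726) l21 l22))
noncomputable def n6 : T := (.node (nat_lit 825) (.node (nat_lit 792) l23 l24) (.node (nat_lit 858) l25 l26))
noncomputable def n7 : T := (.node (nat_lit 957) (.node (nat_lit 924) l27 l28) (.node (nat_lit 990) l29 l30))
noncomputable def n8 : T := (.node (nat_lit 1089) (.node (nat_lit 1056) l31 l32) (.node (nat_lit 1122) l33 l34))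
noncomputable def n9 : T := (.node (nat_lit 1221) (.node (nat_lit 1188) l35 l36) (.node (nat_lit 1254) l37 l38))
noncomputable def n10 : T := (.node (nat_lit 1353) (.node (nat_lit 1320) l39 l40) (.node (nat_lit 1386) l41 l42))
noncomputable def n11 : T := (.node (nat_lit 1485) (.node (nat_lit 1452) l43 l44) (.node (nat_lit 1518) l45 l46))
noncomputable def n12 : T := (.node (nat_lit 1617) (.node (nat_lit 1584) l47 l48) (.node (nat_lit 1650) l49 l50))
noncomputable def n13 : T := (.node (nat_lit 1749) (.node (nat_lit 1716) l51 l52) (.node (nat_lit 1782) l53 l54))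
noncomputable def n14 : T := (.node (nat_lit 1881) (.node (nat_lit 1848) l55 l56) (.node (nat_lit 1914) l57 l58))
noncomputable def n15 : T := (.node (nat_lit 2013) (.node (nat_lit 1980) l59 l60) (.node (nat_lit 2046) l61 l62))
noncomputable def n16 : T := (.node (nat_lit 2112) l63 (.node (nat_lit 2145) l64 l65))
noncomputable def n17 : T := (.node (nat_lit 2244) (.node (nat_lit 2211) l66 l67) (.node (nat_lit 2277) l68 l69))
noncomputable def n18 : T := (.node (nat_lit 2376) (.node (nat_lit 2343) l70 l71) (.node (nat_lit 2409) l72 l73))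
noncomputable def n19 : T := (.node (nat_lit 2508) (.node (nat_lit 2475) l74 l75) (.node (nat_lit 2541) l76 l77))
noncomputable def n20 : T := (.node (nat_lit 2640) (.node (nat_lit 2607) l78 l79) (.node (nat_lit 2673) l80 l81))
noncomputable def n21 : T := (.node (nat_lit 2772) (.node (nat_lit 2739) l82 l83) (.node (nat_lit 2805) l84 l85))
noncomputable def n22 : T := (.node (nat_lit 2904) (.node (nat_lit 2871) l86 l87) (.node (nat_lit 2937) l88 l89))
noncomputable def n23 : T := (.node (nat_lit 3036) (.node (nat_lit 3003) l90 l91) (.node (nat_lit 3069) l92 l93))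
noncomputable def n24 : T := (.node (nat_lit 3168) (.node (nat_lit 3135) l94 l95) (.node (nat_lit 3201) l96 l97))
noncomputable def n25 : T := (.node (nat_lit 3300) (.node (nat_lit 3267) l98 l99) (.node (nat_lit 3333) l100 l101))
noncomputable def n26 : T := (.node (nat_lit 3432) (.node (nat_lit 3399) l102 l103) (.node (nat_lit 3465) l104 l105))
noncomputable def n27 : T := (.node (nat_lit 3564) (.node (nat_lit 3531) l106 l107) (.node (nat_lit 3597) l108 l109))
noncomputable def n28 : T := (.node (nat_lit 3696) (.node (nat_lit 3663) l110 l111) (.node (nat_lit 3729) l112 l113))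
noncomputable def n29 : T := (.node (nat_lit 3828) (.node (nat_lit 3795) l114 l115) (.node (nat_lit 3861) l116 l117))
noncomputable def n30 : T := (.node (nat_lit 3960) (.node (nat_lit 3927) l118 l119) (.node (nat_lit 3993) l120 l121))
noncomputable def n31 : T := (.node (nat_lit 4092) (.node (nat_lit 4059) l122 l123) (.node (nat_lit 4125) l124 l125))
noncomputable def tb : T := (.node (nat_lit 2079) (.node (nat_lit 1023) (.node (nat_lit 495) (.node (nat_lit 231) (.node (nat_lit 99) n0 n1) (.node (nat_lit 363) n2 n3)) (.node (nat_lit 759) (.node (nat_lit 627) n4 n5) (.node (nat_lit 891) n6 n7))) (.node (nat_lit 1551) (.node (nat_lit 1287) (.node (nat_lit 1155) n8 n9) (.node (nat_lit 1419) n10 n11)) (.node (nat_lit 1815) (.node (nat_lit 1683) n12 n13) (.node (nat_lit 1947) n14 n15)))) (.node (nat_lit 3102) (.node (nat_lit 2574) (.node (nat_lit 2310) (.node (nat_lit 2178) n16 n17) (.node (nat_lit 2442) n18 n19)) (.node (nat_lit 2838) (.node (nat_lit 2706) n20 n21) (.node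 (nat_lit 2970) n22 n23))) (.node (nat_lit 3630) (.node (nat_lit 3366) (.node (nat_lit 3234) n24 n25) (.node (nat_lit 3498) n26 n27)) (.node (nat_lit 3894) (.node (nat_lit 3762) n28 n29) (.node (nat_lit 4026) n30 n31)))))
noncomputable def r0 : WT := (.node (nat_lit 3) (.leaf (nat_lit 16388) [nat_lit 96, nat_lit 48]) (.leaf (nat_lit 20488) [nat_lit 120, nat_lit 312, nat_lit 144, nat_lit 72, nat_lit 120]))
noncomputable def r1 : WT := (.node (nat_lit 5) (.leaf (nat_lit 17412) [nat_lit 456, nat_lit 168, nat_lit 456]) (.leaf (nat_lit 16386) [nat_lit 48, nat_lit 96]))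
noncomputable def r2 : WT := (.node (nat_lit 7) (.leaf (nat_lit 35842) [nat_lit 432, nat_lit 408, nat_lit 384, nat_lit 72, nat_lit 384]) (.node (nat_lit 8) (.leaf (nat_lit 36866) [nat_lit 408, nat_lit 72, nat_lit 408]) (.leaf (nat_lit 34818) [nat_lit 384, nat_lit 360, nat_lit 72, nat_lit 360])))
noncomputable def r3 : WT := (.node (nat_lit 10) (.leaf (nat_lit 23560) [nat_lit 384, nat_lit 72, nat_lit 192, nat_lit 192]) (.node (nat_lit 11) (.leaf (nat_lit 37890) [nat_lit 432, nat_lit 72, nat_lit 432]) (.leaf (nat_lit 23559) [nat_lit 384, nat_lit 72, nat_lit 216, nat_lit 216])))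
noncomputable def r4 : WT := (.node (nat_lit 13) (.leaf (nat_lit 121858) [nat_lit 480, nat_lit 96, nat_lit 480, nat_lit 72, nat_lit 480]) (.node (nat_lit 14) (.leaf (nat_lit 18437) [nat_lit 168, nat_lit 192, nat_lit 72, nat_lit 168]) (.leaf (nat_lit 18440) [nat_lit 216, nat_lit 144, nat_lit 72, nat_lit 144])))
noncomputable def r5 : WT := (.node (nat_lit 17) (.node (nat_lit 16) (.leaf (nat_lit 33794) [nat_lit 360, nat_lit 336, nat_lit 72, nat_lit 336]) (.leaf (nat_lit 32770) [nat_lit 360, nat_lit 312, nat_lit 72, nat_lit 288])) (.node (nat_lit 18) (.leaf (nat_lit 30721) [nat_lit 192, nat_lit 240, nat_lit 336, nat_lit 360, nat_lit 384, nat_lit 408, nat_lit 72, nat_lit 216]) (.node (nat_lit 19) (.leaf (nat_lit 31745) [nat_lit 240, nat_lit 360, nat_lit 72, nat_lit 264]) (.leaf (nat_lit 30722) [nat_lit 408, nat_lit 384, nat_lit 360, nat_lit 336, nat_lit 264, nat_lit 216, nat_lit 72, nat_lit 192]))))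
noncomputable def r6 : WT := (.node (nat_lit 28) (.leaf (nat_lit 101388) [nat_lit 480, nat_lit 192, nat_lit 480, nat_lit 72, nat_lit 120, nat_lit 240]) (.leaf (nat_lit 101383) [nat_lit 480, nat_lit 216, nat_lit 480, nat_lit 72, nat_lit 264, nat_lit 120]))
noncomputable def r7 : WT := (.node (nat_lit 30) (.leaf (nat_lit 106499) [nat_lit 336, nat_lit 72, nat_lit 480, nat_lit 384, nat_lit 480, nat_lit 384]) (.leaf (nat_lit 125959) [nat_lit 216, nat_lit 48, nat_lit 552, nat_lit 96, nat_lit 552, nat_lit 528, nat_lit 528, nat_lit 408]))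
noncomputable def r8 : WT := (.node (nat_lit 32) (.leaf (nat_lit 20487) [nat_lit 168, nat_lit 288, nat_lit 120, nat_lit 72, nat_lit 120]) (.node (nat_lit 33) (.leaf (nat_lit 34817) [nat_lit 360, nat_lit 384, nat_lit 72, nat_lit 360]) (.leaf (nat_lit 29698) [nat_lit 432, nat_lit 336, nat_lit 216, nat_lit 168, nat_lit 72, nat_lit 144])))
noncomputable def r9 : WT := (.leaf (nat_lit 139278) [nat_lit 480, nat_lit 456, nat_lit 552, nat_lit 120, nat_lit 144, nat_lit 456, nat_lit 480, nat_lit 72, nat_lit 456, nat_lit 120, nat_lit 528, nat_lit 552, nat_lit 456, nat_lit 480, nat_lit 456, nat_lit 552, nat_lit 120, nat_lit 456])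
noncomputable def r10 : WT := (.node (nat_lit 36) (.node (nat_lit 35) (.leaf (nat_lit 27650) [nat_lit 96, nat_lit 72, nat_lit 96]) r9) (.node (nat_lit 37) (.leaf (nat_lit 28673) [nat_lit 120, nat_lit 144, nat_lit 288, nat_lit 360, nat_lit 384, nat_lit 432, nat_lit 72, nat_lit 120]) (.node (nat_lit 38) (.leaf (nat_lit 124937) [nat_lit 552, nat_lit 72, nat_lit 552, nat_lit 504, nat_lit 192, nat_lit 192, nat_lit 168]) (.leaf (nat_lit 28674) [nat_lit 432, nat_lit 384, nat_lit 360, nat_lit 312, nat_lit 168, nat_lit 120, nat_lit 72, nat_lit 120]))))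
noncomputable def r11 : WT := (.node (nat_lit 23) (.node (nat_lit 21) (.leaf (nat_lit 31746) [nat_lit 360, nat_lit 264, nat_lit 72, nat_lit 240]) (.node (nat_lit 22) (.leaf (nat_lit 32769) [nat_lit 288, nat_lit 360, nat_lit 72, nat_lit 312]) (.leaf (nat_lit 29697) [nat_lit 144, nat_lit 192, nat_lit 336, nat_lit 432, nat_lit 72, nat_lit 168]))) (.node (nat_lit 27) (.node (nat_lit 25) (.node (nat_lit 24) (.leaf (nat_lit 33793) [nat_lit 336, nat_lit 360, nat_lit 72, nat_lit 336]) (.leaf (nat_lit 106502) [nat_lit 336, nat_lit 72, nat_lit 384, nat_lit 480, nat_lit 384, nat_lit 480])) (.node (nat_lit 26) (.leaf (nat_lit 35841) [nat_lit 384, nat_lit 408, nat_lit 432, nat_lit 72, nat_lit 384]) (.leaf (nat_lit 125963) [nat_lit 552, nat_lit 96, nat_lit 552, nat_lit 528, nat_lit 528, nat_lit 408, nat_lit 48, nat_lit 216]))) (.node (nat_lit 31) (.node (nat_lit 29) r6 r7) (.node (nat_lit 34) r8 r10))))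
noncomputable def w0 : WT := (.node (nat_lit 1) (.leaf (nat_lit 0) [nat_lit 72]) (.node (nat_lit 9) (.node (nat_lit 4) (.node (nat_lit 2) (.leaf (nat_lit 124930) [nat_lit 552, nat_lit 72, nat_lit 144, nat_lit 216, nat_lit 216, nat_lit 528, nat_lit 552]) r0) (.node (nat_lit 6) r1 r2)) (.node (nat_lit 15) (.node (nat_lit 12) r3 r4) (.node (nat_lit 20) r5 r11))))
noncomputable def r12 : WT := (.node (nat_lit 3) (.leaf (nat_lit 23554) [nat_lit 192, nat_lit 192, nat_lit 48, nat_lit 384]) (.leaf (nat_lit 124934) [nat_lit 144, nat_lit 216, nat_lit 216, nat_lit 528, nat_lit 552, nat_lit 48, nat_lit 552]))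
noncomputable def r13 : WT := (.node (nat_lit 5) (.leaf (nat_lit 17411) [nat_lit 456, nat_lit 144, nat_lit 456]) (.leaf (nat_lit 18433) [nat_lit 168, nat_lit 48, nat_lit 168, nat_lit 192]))
noncomputable def r14 : WT := (.node (nat_lit 7) (.leaf (nat_lit 16385) [nat_lit 72, nat_lit 96]) (.leaf (nat_lit 36870) [nat_lit 408, nat_lit 48, nat_lit 408]))
noncomputable def r15 : WT := (.node (nat_lit 9) (.leaf (nat_lit 20483) [nat_lit 120, nat_lit 48, nat_lit 168, nat_lit 288, nat_lit 120]) (.leaf (nat_lit 124941) [nat_lit 552, nat_lit 504, nat_lit 192, nat_lit 192, nat_lit 168, nat_lit 48, nat_lit 552]))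
noncomputable def r16 : WT := (.node (nat_lit 11) (.leaf (nat_lit 121866) [nat_lit 480, nat_lit 48, nat_lit 480, nat_lit 96, nat_lit 480]) (.node (nat_lit 12) (.leaf (nat_lit 37894) [nat_lit 432, nat_lit 48, nat_lit 432]) (.leaf (nat_lit 31751) [nat_lit 264, nat_lit 48, nat_lit 240, nat_lit 360])))
noncomputable def r17 : WT := (.node (nat_lit 15) (.node (nat_lit 14) (.leaf (nat_lit 30736) [nat_lit 192, nat_lit 48, nat_lit 408, nat_lit 384, nat_lit 360, nat_lit 336, nat_lit 264, nat_lit 216]) (.leaf (nat_lit 18436) [nat_lit 144, nat_lit 48, nat_lit 216, nat_lit 144])) (.node (nat_lit 16) (.leaf (nat_lit 33800) [nat_lit 336, nat_lit 48, nat_lit 360, nat_lit 336]) (.node (nat_lit 17) (.leaf (nat_lit 125962) [nat_lit 408, nat_lit 504, nat_lit 504, nat_lit 552, nat_lit 96, nat_lit 552, nat_lit 72, nat_lit 192]) (.leaf (nat_lit 32776) [nat_lit 288, nat_lit 48, nat_lit 360, nat_lit 312]))))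
noncomputable def r18 : WT := (.node (nat_lit 26) (.leaf (nat_lit 101377) [nat_lit 264, nat_lit 120, nat_lit 48, nat_lit 480, nat_lit 216, nat_lit 480]) (.leaf (nat_lit 23553) [nat_lit 216, nat_lit 216, nat_lit 48, nat_lit 384]))
noncomputable def r19 : WT := (.node (nat_lit 28) (.leaf (nat_lit 34823) [nat_lit 360, nat_lit 48, nat_lit 360, nat_lit 384]) (.leaf (nat_lit 101382) [nat_lit 120, nat_lit 240, nat_lit 48, nat_lit 480, nat_lit 192, nat_lit 480]))
noncomputable def r20 : WT := (.node (nat_lit 30) (.leaf (nat_lit 34824) [nat_lit 360, nat_lit 48, nat_lit 384, nat_lit 360]) (.leaf (nat_lit 125958) [nat_lit 192, nat_lit 72, nat_lit 408, nat_lit 504, nat_lit 504, nat_lit 552, nat_lit 96, nat_lit 552]))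
noncomputable def r21 : WT := (.node (nat_lit 32) (.leaf (nat_lit 30735) [nat_lit 216, nat_lit 48, nat_lit 192, nat_lit 240, nat_lit 336, nat_lit 360, nat_lit 384, nat_lit 408]) (.node (nat_lit 33) (.leaf (nat_lit 28688) [nat_lit 120, nat_lit 48, nat_lit 432, nat_lit 384, nat_lit 360, nat_lit 312, nat_lit 168, nat_lit 120]) (.leaf (nat_lit 29707) [nat_lit 168, nat_lit 48, nat_lit 144, nat_lit 192, nat_lit 336, nat_lit 432])))
noncomputable def r22 : WT := (.leaf (nat_lit 139294) [nat_lit 456, nat_lit 120, nat_lit 528, nat_lit 552, nat_lit 456, nat_lit 480, nat_lit 456, nat_lit 552, nat_lit 120, nat_lit 456, nat_lit 48, nat_lit 480, nat_lit 456, nat_lit 552, nat_lit 120, nat_lit 144, nat_lit 456, nat_lit 480])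
noncomputable def r23 : WT := (.leaf (nat_lit 139287) [nat_lit 456, nat_lit 120, nat_lit 552, nat_lit 456, nat_lit 480, nat_lit 456, nat_lit 552, nat_lit 504, nat_lit 120, nat_lit 456, nat_lit 48, nat_lit 480, nat_lit 456, nat_lit 168, nat_lit 120, nat_lit 552, nat_lit 456, nat_lit 480])
noncomputable def r24 : WT := (.node (nat_lit 36) (.node (nat_lit 35) (.leaf (nat_lit 106503) [nat_lit 480, nat_lit 384, nat_lit 480, nat_lit 384, nat_lit 48, nat_lit 336]) (.leaf (nat_lit 28687) [nat_lit 120, nat_lit 48, nat_lit 120, nat_lit 144, nat_lit 288, nat_lit 360, nat_lit 384, nat_lit 432])) (.node (nat_lit 37) (.leaf (nat_lit 35850) [nat_lit 384, nat_lit 48, nat_lit 432, nat_lit 408, nat_lit 384]) (.node (nat_lit 38) r22 (.node (nat_lit 39) (.leaf (nat_lit 27654) [nat_lit 96, nat_lit 48, nat_lit 96]) r23))))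
noncomputable def r25 : WT := (.node (nat_lit 22) (.node (nat_lit 20) (.node (nat_lit 19) (.leaf (nat_lit 31752) [nat_lit 240, nat_lit 48, nat_lit 360, nat_lit 264]) (.leaf (nat_lit 32775) [nat_lit 312, nat_lit 48, nat_lit 288, nat_lit 360])) (.node (nat_lit 21) (.leaf (nat_lit 29708) [nat_lit 144, nat_lit 48, nat_lit 432, nat_lit 336, nat_lit 216, nat_lit 168]) (.leaf (nat_lit 20484) [nat_lit 120, nat_lit 48, nat_lit 120, nat_lit 312, nat_lit 144]))) (.node (nat_lit 27) (.node (nat_lit 24) (.node (nat_lit 23) (.leaf (nat_lit 106506) [nat_lit 384, nat_lit 480, nat_lit 384, nat_lit 480, nat_lit 48, nat_lit 336]) (.leaf (nat_lit 33799) [nat_lit 336, nat_lit 48, nat_lit 336, nat_lit 360])) (.node (nat_lit 25) (.leaf (nat_lit 35849) [nat_lit 384, nat_lit 48, nat_lit 384, nat_lit 408, nat_lit 432]) r18)) (.node (nat_lit 31) (.node (nat_lit 29) r19 r20) (.node (nat_lit 34) r21 r24))))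
noncomputable def w1 : WT := (.node (nat_lit 1) (.leaf (nat_lit 2) [nat_lit 48]) (.node (nat_lit 8) (.node (nat_lit 4) (.node (nat_lit 2) (.leaf (nat_lit 16387) [nat_lit 96, nat_lit 72]) r12) (.node (nat_lit 6) r13 r14)) (.node (nat_lit 13) (.node (nat_lit 10) r15 r16) (.node (nat_lit 18) r17 r25))))
noncomputable def r26 : WT := (.node (nat_lit 2) (.leaf (nat_lit 16389) [nat_lit 72, nat_lit 72]) (.leaf (nat_lit 125954) [nat_lit 552, nat_lit 72, nat_lit 192, nat_lit 72, nat_lit 408, nat_lit 504, nat_lit 504, nat_lit 552]))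
noncomputable def r27 : WT := (.node (nat_lit 4) (.leaf (nat_lit 110594) [nat_lit 456, nat_lit 336, nat_lit 456]) (.leaf (nat_lit 16384) [nat_lit 48, nat_lit 48]))
noncomputable def r28 : WT := (.node (nat_lit 6) (.leaf (nat_lit 46082) [nat_lit 384, nat_lit 96, nat_lit 384]) (.leaf (nat_lit 47106) [nat_lit 408, nat_lit 96, nat_lit 408]))
noncomputable def r29 : WT := (.node (nat_lit 8) (.leaf (nat_lit 38914) [nat_lit 384, nat_lit 216, nat_lit 120, nat_lit 96, nat_lit 120]) (.leaf (nat_lit 48130) [nat_lit 432, nat_lit 96, nat_lit 432]))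
noncomputable def r30 : WT := (.node (nat_lit 10) (.leaf (nat_lit 112643) [nat_lit 336, nat_lit 456, nat_lit 216, nat_lit 456, nat_lit 192]) (.node (nat_lit 11) (.leaf (nat_lit 121862) [nat_lit 480, nat_lit 72, nat_lit 480, nat_lit 48, nat_lit 480]) (.leaf (nat_lit 22530) [nat_lit 456, nat_lit 240, nat_lit 456, nat_lit 360])))
noncomputable def r31 : WT := (.node (nat_lit 14) (.node (nat_lit 13) (.leaf (nat_lit 40972) [nat_lit 192, nat_lit 96, nat_lit 432, nat_lit 408, nat_lit 384, nat_lit 216]) (.leaf (nat_lit 40961) [nat_lit 192, nat_lit 384, nat_lit 408, nat_lit 432, nat_lit 96, nat_lit 216])) (.node (nat_lit 15) (.leaf (nat_lit 19460) [nat_lit 144, nat_lit 96, nat_lit 264, nat_lit 144]) (.leaf (nat_lit 19461) [nat_lit 168, nat_lit 240, nat_lit 96, nat_lit 168])))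
noncomputable def r32 : WT := (.node (nat_lit 19) (.node (nat_lit 17) (.leaf (nat_lit 43016) [nat_lit 288, nat_lit 96, nat_lit 384, nat_lit 312]) (.node (nat_lit 18) (.leaf (nat_lit 40962) [nat_lit 432, nat_lit 408, nat_lit 384, nat_lit 216, nat_lit 96, nat_lit 192]) (.leaf (nat_lit 44034) [nat_lit 384, nat_lit 336, nat_lit 96, nat_lit 336]))) (.node (nat_lit 20) (.leaf (nat_lit 43010) [nat_lit 384, nat_lit 312, nat_lit 96, nat_lit 288]) (.node (nat_lit 21) (.leaf (nat_lit 125967) [nat_lit 552, nat_lit 528, nat_lit 528, nat_lit 408, nat_lit 48, nat_lit 216, nat_lit 48, nat_lit 552]) (.leaf (nat_lit 41992) [nat_lit 240, nat_lit 96, nat_lit 384, nat_lit 264]))))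
noncomputable def r33 : WT := (.node (nat_lit 29) (.leaf (nat_lit 43015) [nat_lit 312, nat_lit 96, nat_lit 288, nat_lit 384]) (.leaf (nat_lit 41991) [nat_lit 264, nat_lit 96, nat_lit 240, nat_lit 384]))
noncomputable def r34 : WT := (.node (nat_lit 31) (.leaf (nat_lit 43009) [nat_lit 288, nat_lit 384, nat_lit 96, nat_lit 312]) (.leaf (nat_lit 45065) [nat_lit 360, nat_lit 96, nat_lit 360, nat_lit 408, nat_lit 432]))
noncomputable def r35 : WT := (.node (nat_lit 33) (.leaf (nat_lit 39948) [nat_lit 144, nat_lit 96, nat_lit 432, nat_lit 336, nat_lit 264, nat_lit 168]) (.leaf (nat_lit 44040) [nat_lit 336, nat_lit 96, nat_lit 384, nat_lit 336]))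
noncomputable def r36 : WT := (.node (nat_lit 35) (.leaf (nat_lit 38921) [nat_lit 120, nat_lit 96, nat_lit 120, nat_lit 192, nat_lit 384]) (.node (nat_lit 36) (.leaf (nat_lit 41985) [nat_lit 240, nat_lit 384, nat_lit 96, nat_lit 264]) (.leaf (nat_lit 44033) [nat_lit 336, nat_lit 384, nat_lit 96, nat_lit 336])))
noncomputable def r37 : WT := (.node (nat_lit 39) (.node (nat_lit 38) (.leaf (nat_lit 114693) [nat_lit 456, nat_lit 312, nat_lit 456, nat_lit 216, nat_lit 312]) (.leaf (nat_lit 39937) [nat_lit 144, nat_lit 240, nat_lit 336, nat_lit 432, nat_lit 96, nat_lit 168])) (.node (nat_lit 40) (.leaf (nat_lit 22535) [nat_lit 360, nat_lit 456, nat_lit 264, nat_lit 456]) (.leaf (nat_lit 38913) [nat_lit 120, nat_lit 192, nat_lit 384, nat_lit 96, nat_lit 120])))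
noncomputable def r38 : WT := (.node (nat_lit 44) (.node (nat_lit 42) (.leaf (nat_lit 112648) [nat_lit 216, nat_lit 456, nat_lit 192, nat_lit 456, nat_lit 336]) (.node (nat_lit 43) (.leaf (nat_lit 39947) [nat_lit 168, nat_lit 96, nat_lit 144, nat_lit 240, nat_lit 336, nat_lit 432]) (.leaf (nat_lit 44039) [nat_lit 336, nat_lit 96, nat_lit 336, nat_lit 384]))) (.node (nat_lit 45) (.leaf (nat_lit 40971) [nat_lit 216, nat_lit 96, nat_lit 192, nat_lit 384, nat_lit 408, nat_lit 432]) (.node (nat_lit 46) (.leaf (nat_lit 39938) [nat_lit 432, nat_lit 336, nat_lit 264, nat_lit 168, nat_lit 96, nat_lit 144]) (.node (nat_lit 47) (.leaf (nat_lit 114694) [nat_lit 288, nat_lit 192, nat_lit 456, nat_lit 288, nat_lit 456]) (.leaf (nat_lit 45057) [nat_lit 360, nat_lit 408, nat_lit 432, nat_lit 96, nat_lit 360])))))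
noncomputable def r39 : WT := (.node (nat_lit 26) (.node (nat_lit 24) (.node (nat_lit 23) (.leaf (nat_lit 38922) [nat_lit 120, nat_lit 96, nat_lit 384, nat_lit 216, nat_lit 120]) (.leaf (nat_lit 19457) [nat_lit 168, nat_lit 96, nat_lit 168, nat_lit 240])) (.node (nat_lit 25) (.leaf (nat_lit 19464) [nat_lit 264, nat_lit 144, nat_lit 96, nat_lit 144]) (.leaf (nat_lit 45058) [nat_lit 432, nat_lit 408, nat_lit 360, nat_lit 96, nat_lit 360]))) (.node (nat_lit 32) (.node (nat_lit 28) (.node (nat_lit 27) (.leaf (nat_lit 41986) [nat_lit 384, nat_lit 264, nat_lit 96, nat_lit 240]) (.leaf (nat_lit 45066) [nat_lit 360, nat_lit 96, nat_lit 432, nat_lit 408, nat_lit 360])) (.node (nat_lit 30) r33 r34)) (.node (nat_lit 37) (.node (nat_lit 34) r35 r36) (.node (nat_lit 41) r37 r38))))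
noncomputable def w2 : WT := (.node (nat_lit 1) (.leaf (nat_lit 1024) [nat_lit 96]) (.node (nat_lit 9) (.node (nat_lit 5) (.node (nat_lit 3) r26 r27) (.node (nat_lit 7) r28 r29)) (.node (nat_lit 16) (.node (nat_lit 12) r30 r31) (.node (nat_lit 22) r32 r39))))
noncomputable def r40 : WT := (.node (nat_lit 3) (.leaf (nat_lit 55298) [nat_lit 432, nat_lit 384, nat_lit 120, nat_lit 384]) (.leaf (nat_lit 99330) [nat_lit 480, nat_lit 264, nat_lit 336, nat_lit 408, nat_lit 480]))
noncomputable def r41 : WT := (.node (nat_lit 5) (.leaf (nat_lit 57346) [nat_lit 432, nat_lit 120, nat_lit 432]) (.node (nat_lit 6) (.leaf (nat_lit 20490) [nat_lit 312, nat_lit 144, nat_lit 72, nat_lit 120, nat_lit 48]) (.leaf (nat_lit 50178) [nat_lit 408, nat_lit 384, nat_lit 216, nat_lit 120, nat_lit 192])))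
noncomputable def r42 : WT := (.node (nat_lit 8) (.leaf (nat_lit 49154) [nat_lit 168, nat_lit 120, nat_lit 144]) (.node (nat_lit 9) (.leaf (nat_lit 20486) [nat_lit 48, nat_lit 120, nat_lit 312, nat_lit 144, nat_lit 72]) (.leaf (nat_lit 49158) [nat_lit 144, nat_lit 120, nat_lit 168])))
noncomputable def r43 : WT := (.node (nat_lit 11) (.leaf (nat_lit 54274) [nat_lit 432, nat_lit 360, nat_lit 120, nat_lit 360]) (.node (nat_lit 12) (.leaf (nat_lit 53250) [nat_lit 336, nat_lit 120, nat_lit 336]) (.leaf (nat_lit 24578) [nat_lit 288, nat_lit 288, nat_lit 120, nat_lit 408])))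
noncomputable def r44 : WT := (.node (nat_lit 15) (.node (nat_lit 14) (.leaf (nat_lit 120832) [nat_lit 456, nat_lit 120, nat_lit 456, nat_lit 120, nat_lit 456]) (.leaf (nat_lit 38912) [nat_lit 96, nat_lit 384, nat_lit 216, nat_lit 120, nat_lit 96])) (.node (nat_lit 16) (.leaf (nat_lit 38920) [nat_lit 96, nat_lit 120, nat_lit 96, nat_lit 384, nat_lit 216]) (.node (nat_lit 17) (.leaf (nat_lit 20485) [nat_lit 48, nat_lit 168, nat_lit 288, nat_lit 120, nat_lit 72]) (.leaf (nat_lit 130058) [nat_lit 552, nat_lit 240, nat_lit 552, nat_lit 120, nat_lit 240]))))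
noncomputable def r45 : WT := (.node (nat_lit 22) (.node (nat_lit 20) (.node (nat_lit 19) (.leaf (nat_lit 24584) [nat_lit 408, nat_lit 120, nat_lit 288, nat_lit 288]) (.leaf (nat_lit 50177) [nat_lit 192, nat_lit 384, nat_lit 408, nat_lit 120, nat_lit 216])) (.node (nat_lit 21) (.leaf (nat_lit 50186) [nat_lit 192, nat_lit 120, nat_lit 408, nat_lit 384, nat_lit 216]) (.leaf (nat_lit 130053) [nat_lit 552, nat_lit 264, nat_lit 552, nat_lit 120, nat_lit 264]))) (.node (nat_lit 25) (.node (nat_lit 23) (.leaf (nat_lit 24583) [nat_lit 408, nat_lit 120, nat_lit 312, nat_lit 312]) (.node (nat_lit 24) (.leaf (nat_lit 51212) [nat_lit 240, nat_lit 120, nat_lit 432, nat_lit 384, nat_lit 360, nat_lit 264]) (.leaf (nat_lit 52236) [nat_lit 288, nat_lit 120, nat_lit 384, nat_lit 360, nat_lit 336, nat_lit 312]))) (.node (nat_lit 26) (.leaf (nat_lit 103434) [nat_lit 480, nat_lit 288, nat_lit 480, nat_lit 240, nat_lit 288]) (.node (nat_lit 27) (.leaf (nat_lit 52226) [nat_lit 384, nat_lit 360,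 nat_lit 336, nat_lit 312, nat_lit 120, nat_lit 288]) (.leaf (nat_lit 55304) [nat_lit 384, nat_lit 120, nat_lit 432, nat_lit 384])))))
noncomputable def r46 : WT := (.node (nat_lit 34) (.leaf (nat_lit 20481) [nat_lit 72, nat_lit 120, nat_lit 48, nat_lit 168, nat_lit 288]) (.leaf (nat_lit 51202) [nat_lit 432, nat_lit 384, nat_lit 360, nat_lit 264, nat_lit 120, nat_lit 240]))
noncomputable def r47 : WT := (.leaf (nat_lit 139298) [nat_lit 528, nat_lit 552, nat_lit 456, nat_lit 480, nat_lit 456, nat_lit 552, nat_lit 120, nat_lit 456, nat_lit 48, nat_lit 480, nat_lit 456, nat_lit 552, nat_lit 120, nat_lit 144, nat_lit 456, nat_lit 480, nat_lit 72, nat_lit 456])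
noncomputable def r48 : WT := (.node (nat_lit 37) (.leaf (nat_lit 103425) [nat_lit 312, nat_lit 264, nat_lit 480, nat_lit 312, nat_lit 480]) r47)
noncomputable def r49 : WT := (.node (nat_lit 39) (.leaf (nat_lit 24577) [nat_lit 312, nat_lit 312, nat_lit 120, nat_lit 408]) (.leaf (nat_lit 38915) [nat_lit 192, nat_lit 384, nat_lit 96, nat_lit 120, nat_lit 96]))
noncomputable def r50 : WT := (.leaf (nat_lit 139274) [nat_lit 456, nat_lit 48, nat_lit 480, nat_lit 456, nat_lit 552, nat_lit 120, nat_lit 144, nat_lit 456, nat_lit 480, nat_lit 72, nat_lit 456, nat_lit 120, nat_lit 528, nat_lit 552, nat_lit 456, nat_lit 480, nat_lit 456, nat_lit 552])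
noncomputable def r51 : WT := (.node (nat_lit 41) (.leaf (nat_lit 52235) [nat_lit 312, nat_lit 120, nat_lit 288, nat_lit 336, nat_lit 360, nat_lit 384]) r50)
noncomputable def r52 : WT := (.node (nat_lit 43) (.leaf (nat_lit 38923) [nat_lit 96, nat_lit 120, nat_lit 192, nat_lit 384, nat_lit 96]) (.leaf (nat_lit 130054) [nat_lit 240, nat_lit 120, nat_lit 552, nat_lit 240, nat_lit 552]))
noncomputable def r53 : WT := (.leaf (nat_lit 139279) [nat_lit 552, nat_lit 456, nat_lit 480, nat_lit 72, nat_lit 456, nat_lit 120, nat_lit 552, nat_lit 456, nat_lit 480, nat_lit 456, nat_lit 552, nat_lit 504, nat_lit 120, nat_lit 456, nat_lit 48, nat_lit 480, nat_lit 456, nat_lit 168])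
noncomputable def r54 : WT := (.node (nat_lit 45) (.leaf (nat_lit 55303) [nat_lit 384, nat_lit 120, nat_lit 384, nat_lit 432]) (.node (nat_lit 46) r53 (.leaf (nat_lit 54279) [nat_lit 360, nat_lit 120, nat_lit 360, nat_lit 432])))
noncomputable def r55 : WT := (.node (nat_lit 48) (.leaf (nat_lit 101381) [nat_lit 48, nat_lit 480, nat_lit 216, nat_lit 480, nat_lit 72, nat_lit 264]) (.node (nat_lit 49) (.leaf (nat_lit 102405) [nat_lit 480, nat_lit 264, nat_lit 480, nat_lit 408, nat_lit 336]) (.leaf (nat_lit 56327) [nat_lit 408, nat_lit 120, nat_lit 408, nat_lit 432])))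
noncomputable def r56 : WT := (.node (nat_lit 51) (.leaf (nat_lit 56322) [nat_lit 432, nat_lit 408, nat_lit 120, nat_lit 408]) (.node (nat_lit 52) (.leaf (nat_lit 55297) [nat_lit 384, nat_lit 432, nat_lit 120, nat_lit 384]) (.leaf (nat_lit 54273) [nat_lit 360, nat_lit 432, nat_lit 120, nat_lit 360])))
noncomputable def r57 : WT := (.node (nat_lit 55) (.node (nat_lit 54) (.leaf (nat_lit 28675) [nat_lit 144, nat_lit 288, nat_lit 360, nat_lit 384, nat_lit 432, nat_lit 72, nat_lit 120, nat_lit 48]) (.leaf (nat_lit 137223) [nat_lit 240, nat_lit 552, nat_lit 480, nat_lit 552, nat_lit 528, nat_lit 528, nat_lit 480])) (.node (nat_lit 56) (.leaf (nat_lit 50185) [nat_lit 216, nat_lit 120, nat_lit 192, nat_lit 384, nat_lit 408]) (.leaf (nat_lit 101384) [nat_lit 240, nat_lit 48, nat_lit 480, nat_lit 192, nat_lit 480, nat_lit 72])))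
noncomputable def r58 : WT := (.leaf (nat_lit 139291) [nat_lit 552, nat_lit 456, nat_lit 480, nat_lit 456, nat_lit 552, nat_lit 504, nat_lit 120, nat_lit 456, nat_lit 48, nat_lit 480, nat_lit 456, nat_lit 168, nat_lit 120, nat_lit 552, nat_lit 456, nat_lit 480, nat_lit 72, nat_lit 456])
noncomputable def r59 : WT := (.leaf (nat_lit 140332) [nat_lit 240, nat_lit 504, nat_lit 504, nat_lit 552, nat_lit 456, nat_lit 480, nat_lit 456, nat_lit 480, nat_lit 456, nat_lit 480, nat_lit 552, nat_lit 480, nat_lit 456, nat_lit 480, nat_lit 456, nat_lit 480, nat_lit 456, nat_lit 552, nat_lit 264, nat_lit 120, nat_lit 456, nat_lit 480, nat_lit 456, nat_lit 480, nat_lit 456])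
noncomputable def r60 : WT := (.node (nat_lit 59) (.node (nat_lit 58) (.leaf (nat_lit 51211) [nat_lit 264, nat_lit 120, nat_lit 240, nat_lit 360, nat_lit 384, nat_lit 432]) (.leaf (nat_lit 130049) [nat_lit 264, nat_lit 120, nat_lit 552, nat_lit 264, nat_lit 552])) (.node (nat_lit 61) (.node (nat_lit 60) (.leaf (nat_lit 28686) [nat_lit 72, nat_lit 120, nat_lit 48, nat_lit 432, nat_lit 384, nat_lit 360, nat_lit 312, nat_lit 168]) (.leaf (nat_lit 137224) [nat_lit 480, nat_lit 504, nat_lit 504, nat_lit 552, nat_lit 480, nat_lit 552, nat_lit 264])) (.node (nat_lit 62) (.leaf (nat_lit 28672) [nat_lit 48, nat_lit 432, nat_lit 384, nat_lit 360, nat_lit 312, nat_lit 168, nat_lit 120, nat_lit 72]) (.node (nat_lit 63) r58 r59))))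
noncomputable def r61 : WT := (.node (nat_lit 38) (.node (nat_lit 32) (.node (nat_lit 30) (.node (nat_lit 29) (.leaf (nat_lit 52225) [nat_lit 288, nat_lit 336, nat_lit 360, nat_lit 384, nat_lit 120, nat_lit 312]) (.leaf (nat_lit 99337) [nat_lit 480, nat_lit 408, nat_lit 336, nat_lit 240, nat_lit 480])) (.node (nat_lit 31) (.leaf (nat_lit 54280) [nat_lit 360, nat_lit 120, nat_lit 432, nat_lit 360]) (.leaf (nat_lit 51201) [nat_lit 240, nat_lit 360, nat_lit 384, nat_lit 432, nat_lit 120, nat_lit 264]))) (.node (nat_lit 35) (.node (nat_lit 33) (.leaf (nat_lit 56328) [nat_lit 408, nat_lit 120, nat_lit 432, nat_lit 408]) r46) (.node (nat_lit 36) (.leaf (nat_lit 102406) [nat_lit 336, nat_lit 408, nat_lit 480, nat_lit 240, nat_lit 480]) r48))) (.node (nat_lit 47) (.node (nat_lit 42) (.node (nat_lit 40) r49 r51) (.node (nat_lit 44) r52 r54)) (.node (nat_lit 53) (.node (nat_lit 50) r55 r56) (.node (nat_lit 57) r57 r60))))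
noncomputable def w3 : WT := (.node (nat_lit 1) (.leaf (nat_lit 2048) [nat_lit 120]) (.node (nat_lit 10) (.node (nat_lit 4) (.node (nat_lit 2) (.leaf (nat_lit 126978) [nat_lit 552, nat_lit 120, nat_lit 552]) r40) (.node (nat_lit 7) r41 r42)) (.node (nat_lit 18) (.node (nat_lit 13) r43 r44) (.node (nat_lit 28) r45 r61))))
noncomputable def r62 : WT := (.node (nat_lit 3) (.leaf (nat_lit 21506) [nat_lit 144, nat_lit 336]) (.leaf (nat_lit 49152) [nat_lit 120, nat_lit 168, nat_lit 120]))
noncomputable def r63 : WT := (.node (nat_lit 5) (.leaf (nat_lit 21508) [nat_lit 336, nat_lit 144]) (.leaf (nat_lit 100354) [nat_lit 480, nat_lit 216, nat_lit 312, nat_lit 360, nat_lit 480]))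
noncomputable def r64 : WT := (.node (nat_lit 7) (.leaf (nat_lit 17415) [nat_lit 456, nat_lit 72, nat_lit 456]) (.leaf (nat_lit 63490) [nat_lit 360, nat_lit 168, nat_lit 360]))
noncomputable def r65 : WT := (.node (nat_lit 9) (.leaf (nat_lit 18438) [nat_lit 48, nat_lit 216, nat_lit 144, nat_lit 72]) (.node (nat_lit 10) (.leaf (nat_lit 64514) [nat_lit 432, nat_lit 384, nat_lit 168, nat_lit 384]) (.leaf (nat_lit 66562) [nat_lit 432, nat_lit 168, nat_lit 432])))
noncomputable def r66 : WT := (.node (nat_lit 12) (.leaf (nat_lit 65538) [nat_lit 408, nat_lit 168, nat_lit 408]) (.node (nat_lit 13) (.leaf (nat_lit 18434) [nat_lit 72, nat_lit 144, nat_lit 48, nat_lit 216]) (.leaf (nat_lit 59394) [nat_lit 432, nat_lit 408, nat_lit 384, nat_lit 360, nat_lit 216, nat_lit 168, nat_lit 192])))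
noncomputable def r67 : WT := (.node (nat_lit 16) (.node (nat_lit 15) (.leaf (nat_lit 128006) [nat_lit 504, nat_lit 504, nat_lit 552, nat_lit 144, nat_lit 552]) (.leaf (nat_lit 19462) [nat_lit 96, nat_lit 264, nat_lit 144, nat_lit 96])) (.node (nat_lit 17) (.leaf (nat_lit 29699) [nat_lit 192, nat_lit 336, nat_lit 432, nat_lit 72, nat_lit 168, nat_lit 48]) (.leaf (nat_lit 59393) [nat_lit 192, nat_lit 360, nat_lit 384, nat_lit 408, nat_lit 432, nat_lit 168, nat_lit 216])))
noncomputable def r68 : WT := (.node (nat_lit 26) (.leaf (nat_lit 124936) [nat_lit 216, nat_lit 216, nat_lit 528, nat_lit 552, nat_lit 48, nat_lit 552, nat_lit 72]) (.leaf (nat_lit 28677) [nat_lit 288, nat_lit 360, nat_lit 384, nat_lit 432, nat_lit 72, nat_lit 120, nat_lit 48, nat_lit 120]))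
noncomputable def r69 : WT := (.leaf (nat_lit 139288) [nat_lit 456, nat_lit 480, nat_lit 72, nat_lit 456, nat_lit 120, nat_lit 528, nat_lit 552, nat_lit 456, nat_lit 480, nat_lit 456, nat_lit 552, nat_lit 120, nat_lit 456, nat_lit 48, nat_lit 480, nat_lit 456, nat_lit 552, nat_lit 120])
noncomputable def r70 : WT := (.node (nat_lit 28) r69 (.node (nat_lit 29) (.leaf (nat_lit 39936) [nat_lit 96, nat_lit 432, nat_lit 336, nat_lit 264, nat_lit 168, nat_lit 96]) (.node (nat_lit 30) (.leaf (nat_lit 39939) [nat_lit 240, nat_lit 336, nat_lit 432, nat_lit 96, nat_lit 168, nat_lit 96]) (.leaf (nat_lit 29696) [nat_lit 48, nat_lit 432, nat_lit 336, nat_lit 216, nat_lit 168, nat_lit 72]))))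
noncomputable def r71 : WT := (.node (nat_lit 21) (.node (nat_lit 19) (.leaf (nat_lit 19458) [nat_lit 96, nat_lit 144, nat_lit 96, nat_lit 264]) (.node (nat_lit 20) (.leaf (nat_lit 61441) [nat_lit 288, nat_lit 360, nat_lit 384, nat_lit 408, nat_lit 168, nat_lit 312]) (.leaf (nat_lit 61442) [nat_lit 408, nat_lit 384, nat_lit 360, nat_lit 312, nat_lit 168, nat_lit 288]))) (.node (nat_lit 23) (.node (nat_lit 22) (.leaf (nat_lit 60418) [nat_lit 384, nat_lit 264, nat_lit 168, nat_lit 240]) (.leaf (nat_lit 20482) [nat_lit 72, nat_lit 120, nat_lit 48, nat_lit 120, nat_lit 312])) (.node (nat_lit 25) (.node (nat_lit 24) (.leaf (nat_lit 64513) [nat_lit 384, nat_lit 432, nat_lit 168, nat_lit 384]) (.leaf (nat_lit 60417) [nat_lit 240, nat_lit 384, nat_lit 168, nat_lit 264])) (.node (nat_lit 27) r68 r70))))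
noncomputable def w4 : WT := (.node (nat_lit 1) (.leaf (nat_lit 3072) [nat_lit 168]) (.node (nat_lit 8) (.node (nat_lit 4) (.node (nat_lit 2) (.leaf (nat_lit 128002) [nat_lit 552, nat_lit 144, nat_lit 504, nat_lit 504, nat_lit 552]) r62) (.node (nat_lit 6) r63 r64)) (.node (nat_lit 14) (.node (nat_lit 11) r65 r66) (.node (nat_lit 18) r67 r71))))
noncomputable def r72 : WT := (.node (nat_lit 3) (.leaf (nat_lit 128009) [nat_lit 552, nat_lit 528, nat_lit 528, nat_lit 168, nat_lit 552]) (.leaf (nat_lit 17408) [nat_lit 456, nat_lit 48, nat_lit 456]))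
noncomputable def r73 : WT := (.node (nat_lit 5) (.leaf (nat_lit 21507) [nat_lit 336, nat_lit 168]) (.leaf (nat_lit 100361) [nat_lit 480, nat_lit 360, nat_lit 288, nat_lit 192, nat_lit 480]))
noncomputable def r74 : WT := (.node (nat_lit 7) (.leaf (nat_lit 66566) [nat_lit 432, nat_lit 144, nat_lit 432]) (.leaf (nat_lit 63494) [nat_lit 360, nat_lit 144, nat_lit 360]))
noncomputable def r75 : WT := (.node (nat_lit 9) (.leaf (nat_lit 60423) [nat_lit 264, nat_lit 144, nat_lit 240, nat_lit 384]) (.leaf (nat_lit 18435) [nat_lit 48, nat_lit 168, nat_lit 192, nat_lit 72]))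
noncomputable def r76 : WT := (.node (nat_lit 11) (.leaf (nat_lit 21505) [nat_lit 168, nat_lit 336]) (.node (nat_lit 12) (.leaf (nat_lit 18439) [nat_lit 192, nat_lit 72, nat_lit 168, nat_lit 48]) (.leaf (nat_lit 65542) [nat_lit 408, nat_lit 144, nat_lit 408])))
noncomputable def r77 : WT := (.node (nat_lit 15) (.node (nat_lit 14) (.leaf (nat_lit 19459) [nat_lit 96, nat_lit 168, nat_lit 240, nat_lit 96]) (.leaf (nat_lit 128005) [nat_lit 552, nat_lit 168, nat_lit 552, nat_lit 528, nat_lit 528])) (.node (nat_lit 16) (.leaf (nat_lit 29706) [nat_lit 72, nat_lit 144, nat_lit 48, nat_lit 432, nat_lit 336, nat_lit 216]) (.leaf (nat_lit 124935) [nat_lit 48, nat_lit 552, nat_lit 72, nat_lit 552, nat_lit 504, nat_lit 192, nat_lit 192])))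
noncomputable def r78 : WT := (.node (nat_lit 25) (.leaf (nat_lit 39946) [nat_lit 96, nat_lit 144, nat_lit 96, nat_lit 432, nat_lit 336, nat_lit 264]) (.leaf (nat_lit 61451) [nat_lit 312, nat_lit 144, nat_lit 288, nat_lit 360, nat_lit 384, nat_lit 408]))
noncomputable def r79 : WT := (.node (nat_lit 27) (.leaf (nat_lit 59405) [nat_lit 216, nat_lit 144, nat_lit 192, nat_lit 360, nat_lit 384, nat_lit 408, nat_lit 432]) (.leaf (nat_lit 64519) [nat_lit 384, nat_lit 144, nat_lit 384, nat_lit 432]))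
noncomputable def r80 : WT := (.leaf (nat_lit 139277) [nat_lit 120, nat_lit 552, nat_lit 456, nat_lit 480, nat_lit 72, nat_lit 456, nat_lit 120, nat_lit 552, nat_lit 456, nat_lit 480, nat_lit 456, nat_lit 552, nat_lit 504, nat_lit 120, nat_lit 456, nat_lit 48, nat_lit 480, nat_lit 456])
noncomputable def r81 : WT := (.node (nat_lit 29) r80 (.node (nat_lit 30) (.leaf (nat_lit 28684) [nat_lit 120, nat_lit 72, nat_lit 120, nat_lit 48, nat_lit 432, nat_lit 384, nat_lit 360, nat_lit 312]) (.leaf (nat_lit 39949) [nat_lit 96, nat_lit 144, nat_lit 240, nat_lit 336, nat_lit 432, nat_lit 96])))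
noncomputable def r82 : WT := (.node (nat_lit 20) (.node (nat_lit 18) (.leaf (nat_lit 64520) [nat_lit 384, nat_lit 144, nat_lit 432, nat_lit 384]) (.node (nat_lit 19) (.leaf (nat_lit 59406) [nat_lit 192, nat_lit 144, nat_lit 432, nat_lit 408, nat_lit 384, nat_lit 360, nat_lit 216]) (.leaf (nat_lit 60424) [nat_lit 240, nat_lit 144, nat_lit 384, nat_lit 264]))) (.node (nat_lit 23) (.node (nat_lit 21) (.leaf (nat_lit 61452) [nat_lit 288, nat_lit 144, nat_lit 408, nat_lit 384, nat_lit 360, nat_lit 312]) (.node (nat_lit 22) (.leaf (nat_lit 19463) [nat_lit 240, nat_lit 96, nat_lit 168, nat_lit 96]) (.leaf (nat_lit 20489) [nat_lit 288, nat_lit 120, nat_lit 72, nat_lit 120, nat_lit 48]))) (.node (nat_lit 26) (.node (nat_lit 24) (.leaf (nat_lit 29709) [nat_lit 48, nat_lit 144, nat_lit 192, nat_lit 336, nat_lit 432, nat_lit 72]) r78) (.node (nat_lit 28) r79 r81))))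
noncomputable def w5 : WT := (.node (nat_lit 1) (.leaf (nat_lit 3074) [nat_lit 144]) (.node (nat_lit 8) (.node (nat_lit 4) (.node (nat_lit 2) (.leaf (nat_lit 49156) [nat_lit 120, nat_lit 144, nat_lit 120]) r72) (.node (nat_lit 6) r73 r74)) (.node (nat_lit 13) (.node (nat_lit 10) r75 r76) (.node (nat_lit 17) r77 r82))))
noncomputable def r83 : WT := (.node (nat_lit 3) (.leaf (nat_lit 72706) [nat_lit 384, nat_lit 216, nat_lit 384]) (.leaf (nat_lit 73730) [nat_lit 408, nat_lit 216, nat_lit 408]))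
noncomputable def r84 : WT := (.node (nat_lit 5) (.leaf (nat_lit 23558) [nat_lit 48, nat_lit 384, nat_lit 72, nat_lit 192]) (.node (nat_lit 6) (.leaf (nat_lit 23556) [nat_lit 192, nat_lit 48, nat_lit 384, nat_lit 72]) (.leaf (nat_lit 74754) [nat_lit 432, nat_lit 216, nat_lit 432])))
noncomputable def r85 : WT := (.node (nat_lit 8) (.leaf (nat_lit 112642) [nat_lit 456, nat_lit 336, nat_lit 96, nat_lit 216, nat_lit 456]) (.node (nat_lit 9) (.leaf (nat_lit 101378) [nat_lit 480, nat_lit 72, nat_lit 120, nat_lit 240, nat_lit 48, nat_lit 480]) (.leaf (nat_lit 38917) [nat_lit 384, nat_lit 96, nat_lit 120, nat_lit 96, nat_lit 120])))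
noncomputable def r86 : WT := (.node (nat_lit 11) (.leaf (nat_lit 50176) [nat_lit 120, nat_lit 408, nat_lit 384, nat_lit 216, nat_lit 120]) (.node (nat_lit 12) (.leaf (nat_lit 71682) [nat_lit 432, nat_lit 360, nat_lit 216, nat_lit 360]) (.leaf (nat_lit 40960) [nat_lit 96, nat_lit 432, nat_lit 408, nat_lit 384, nat_lit 216, nat_lit 96])))
noncomputable def r87 : WT := (.node (nat_lit 15) (.node (nat_lit 14) (.leaf (nat_lit 18441) [nat_lit 72, nat_lit 168, nat_lit 48, nat_lit 168]) (.leaf (nat_lit 69633) [nat_lit 288, nat_lit 384, nat_lit 408, nat_lit 216, nat_lit 312])) (.node (nat_lit 16) (.leaf (nat_lit 70658) [nat_lit 432, nat_lit 336, nat_lit 216, nat_lit 336]) (.node (nat_lit 17) (.leaf (nat_lit 100357) [nat_lit 480, nat_lit 168, nat_lit 480, nat_lit 360, nat_lit 288]) (.leaf (nat_lit 67584) [nat_lit 192, nat_lit 432, nat_lit 408, nat_lit 384]))))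
noncomputable def r88 : WT := (.node (nat_lit 21) (.node (nat_lit 19) (.leaf (nat_lit 67586) [nat_lit 432, nat_lit 408, nat_lit 384, nat_lit 192]) (.node (nat_lit 20) (.leaf (nat_lit 59392) [nat_lit 144, nat_lit 432, nat_lit 408, nat_lit 384, nat_lit 360, nat_lit 216, nat_lit 168]) (.leaf (nat_lit 30723) [nat_lit 240, nat_lit 336, nat_lit 360, nat_lit 384, nat_lit 408, nat_lit 72, nat_lit 216, nat_lit 48]))) (.node (nat_lit 22) (.leaf (nat_lit 68609) [nat_lit 240, nat_lit 408, nat_lit 432, nat_lit 216, nat_lit 264]) (.node (nat_lit 23) (.leaf (nat_lit 29701) [nat_lit 336, nat_lit 432, nat_lit 72, nat_lit 168, nat_lit 48, nat_lit 144]) (.leaf (nat_lit 68610) [nat_lit 432, nat_lit 408, nat_lit 264, nat_lit 216, nat_lit 240]))))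
noncomputable def r89 : WT := (.node (nat_lit 35) (.leaf (nat_lit 129025) [nat_lit 360, nat_lit 552, nat_lit 216, nat_lit 552]) (.leaf (nat_lit 40963) [nat_lit 384, nat_lit 408, nat_lit 432, nat_lit 96, nat_lit 216, nat_lit 96]))
noncomputable def r90 : WT := (.node (nat_lit 37) (.leaf (nat_lit 105475) [nat_lit 192, nat_lit 480, nat_lit 360, nat_lit 480, nat_lit 336]) (.node (nat_lit 38) (.leaf (nat_lit 124933) [nat_lit 168, nat_lit 48, nat_lit 552, nat_lit 72, nat_lit 552, nat_lit 504, nat_lit 192]) (.leaf (nat_lit 124931) [nat_lit 192, nat_lit 168, nat_lit 48, nat_lit 552, nat_lit 72, nat_lit 552, nat_lit 504])))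
noncomputable def r91 : WT := (.node (nat_lit 29) (.node (nat_lit 26) (.node (nat_lit 25) (.leaf (nat_lit 69634) [nat_lit 408, nat_lit 384, nat_lit 312, nat_lit 216, nat_lit 288]) (.leaf (nat_lit 59395) [nat_lit 360, nat_lit 384, nat_lit 408, nat_lit 432, nat_lit 168, nat_lit 216, nat_lit 144])) (.node (nat_lit 27) (.leaf (nat_lit 112641) [nat_lit 96, nat_lit 336, nat_lit 456, nat_lit 216, nat_lit 456]) (.node (nat_lit 28) (.leaf (nat_lit 70657) [nat_lit 336, nat_lit 432, nat_lit 216, nat_lit 336]) (.leaf (nat_lit 30720) [nat_lit 48, nat_lit 408, nat_lit 384, nat_lit 360, nat_lit 336, nat_lit 264, nat_lit 216, nat_lit 72])))) (.node (nat_lit 32) (.node (nat_lit 30) (.leaf (nat_lit 125960) [nat_lit 72, nat_lit 408, nat_lit 504, nat_lit 504, nat_lit 552, nat_lit 96, nat_lit 552, nat_lit 72]) (.node (nat_lit 31) (.leaf (nat_lit 114698) [nat_lit 456, nat_lit 288, nat_lit 456, nat_lit 96, nat_lit 288]) (.leaf (nat_lit 71681) [nat_lit 360, nat_lit 432, nat_lit 216, nat_lit 360])))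 (.node (nat_lit 34) (.node (nat_lit 33) (.leaf (nat_lit 105477) [nat_lit 480, nat_lit 360, nat_lit 480, nat_lit 336, nat_lit 192]) (.leaf (nat_lit 50179) [nat_lit 384, nat_lit 408, nat_lit 120, nat_lit 216, nat_lit 120])) (.node (nat_lit 36) r89 r90))))
noncomputable def w6 : WT := (.node (nat_lit 1) (.leaf (nat_lit 4096) [nat_lit 216]) (.node (nat_lit 10) (.node (nat_lit 4) (.node (nat_lit 2) (.leaf (nat_lit 129026) [nat_lit 552, nat_lit 360, nat_lit 216, nat_lit 552]) r83) (.node (nat_lit 7) r84 r85)) (.node (nat_lit 18) (.node (nat_lit 13) r86 r87) (.node (nat_lit 24) r88 r91))))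
noncomputable def r92 : WT := (.node (nat_lit 3) (.leaf (nat_lit 129031) [nat_lit 552, nat_lit 192, nat_lit 360, nat_lit 552]) (.leaf (nat_lit 23557) [nat_lit 48, nat_lit 384, nat_lit 72, nat_lit 216]))
noncomputable def r93 : WT := (.node (nat_lit 5) (.leaf (nat_lit 73734) [nat_lit 408, nat_lit 192, nat_lit 408]) (.leaf (nat_lit 50187) [nat_lit 120, nat_lit 192, nat_lit 384, nat_lit 408, nat_lit 120]))
noncomputable def r94 : WT := (.node (nat_lit 7) (.leaf (nat_lit 74758) [nat_lit 432, nat_lit 192, nat_lit 432]) (.node (nat_lit 8) (.leaf (nat_lit 18432) [nat_lit 144, nat_lit 72, nat_lit 144, nat_lit 48]) (.leaf (nat_lit 71688) [nat_lit 360, nat_lit 192, nat_lit 432, nat_lit 360])))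
noncomputable def r95 : WT := (.node (nat_lit 10) (.leaf (nat_lit 129032) [nat_lit 552, nat_lit 192, nat_lit 552, nat_lit 360]) (.node (nat_lit 11) (.leaf (nat_lit 23555) [nat_lit 216, nat_lit 48, nat_lit 384, nat_lit 72]) (.leaf (nat_lit 112650) [nat_lit 456, nat_lit 192, nat_lit 456, nat_lit 336, nat_lit 96])))
noncomputable def r96 : WT := (.node (nat_lit 14) (.node (nat_lit 13) (.leaf (nat_lit 112649) [nat_lit 456, nat_lit 192, nat_lit 96, nat_lit 336, nat_lit 456]) (.leaf (nat_lit 101387) [nat_lit 480, nat_lit 72, nat_lit 264, nat_lit 120, nat_lit 48, nat_lit 480])) (.node (nat_lit 15) (.leaf (nat_lit 70664) [nat_lit 336, nat_lit 192, nat_lit 432, nat_lit 336]) (.leaf (nat_lit 67593) [nat_lit 384, nat_lit 408, nat_lit 432, nat_lit 216])))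
noncomputable def r97 : WT := (.node (nat_lit 18) (.node (nat_lit 17) (.leaf (nat_lit 69642) [nat_lit 288, nat_lit 192, nat_lit 408, nat_lit 384, nat_lit 312]) (.leaf (nat_lit 100358) [nat_lit 312, nat_lit 360, nat_lit 480, nat_lit 144, nat_lit 480])) (.node (nat_lit 20) (.node (nat_lit 19) (.leaf (nat_lit 59407) [nat_lit 144, nat_lit 192, nat_lit 360, nat_lit 384, nat_lit 408, nat_lit 432, nat_lit 168]) (.leaf (nat_lit 38918) [nat_lit 120, nat_lit 96, nat_lit 120, nat_lit 96, nat_lit 384])) (.node (nat_lit 21) (.leaf (nat_lit 68618) [nat_lit 240, nat_lit 192, nat_lit 432, nat_lit 408, nat_lit 264]) (.leaf (nat_lit 105478) [nat_lit 216, nat_lit 336, nat_lit 480, nat_lit 360, nat_lit 480]))))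
noncomputable def r98 : WT := (.node (nat_lit 33) (.leaf (nat_lit 69641) [nat_lit 312, nat_lit 192, nat_lit 288, nat_lit 384, nat_lit 408]) (.leaf (nat_lit 68617) [nat_lit 264, nat_lit 192, nat_lit 240, nat_lit 408, nat_lit 432]))
noncomputable def r99 : WT := (.node (nat_lit 35) (.leaf (nat_lit 40970) [nat_lit 96, nat_lit 192, nat_lit 96, nat_lit 432, nat_lit 408, nat_lit 384]) (.leaf (nat_lit 30734) [nat_lit 72, nat_lit 192, nat_lit 48, nat_lit 408, nat_lit 384, nat_lit 360, nat_lit 336, nat_lit 264]))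
noncomputable def r100 : WT := (.node (nat_lit 37) (.leaf (nat_lit 29704) [nat_lit 168, nat_lit 72, nat_lit 144, nat_lit 48, nat_lit 432, nat_lit 336]) (.node (nat_lit 38) (.leaf (nat_lit 71687) [nat_lit 360, nat_lit 192, nat_lit 360, nat_lit 432]) (.leaf (nat_lit 70663) [nat_lit 336, nat_lit 192, nat_lit 336, nat_lit 432])))
noncomputable def r101 : WT := (.node (nat_lit 27) (.node (nat_lit 24) (.node (nat_lit 23) (.leaf (nat_lit 40973) [nat_lit 96, nat_lit 192, nat_lit 384, nat_lit 408, nat_lit 432, nat_lit 96]) (.leaf (nat_lit 125961) [nat_lit 48, nat_lit 552, nat_lit 96, nat_lit 552, nat_lit 528, nat_lit 528, nat_lit 408, nat_lit 48])) (.node (nat_lit 25) (.leaf (nat_lit 67591) [nat_lit 216, nat_lit 384, nat_lit 408, nat_lit 432]) (.node (nat_lit 26) (.leaf (nat_lit 124938) [nat_lit 216, nat_lit 528, nat_lit 552, nat_lit 48, nat_lit 552, nat_lit 72, nat_lit 144]) (.leaf (nat_lit 30737) [nat_lit 48, nat_lit 192, nat_lit 240, nat_lit 336, nat_lit 360, nat_lit 384, nat_lit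 408, nat_lit 72])))) (.node (nat_lit 31) (.node (nat_lit 29) (.node (nat_lit 28) (.leaf (nat_lit 105480) [nat_lit 336, nat_lit 480, nat_lit 360, nat_lit 480, nat_lit 216]) (.leaf (nat_lit 50184) [nat_lit 120, nat_lit 192, nat_lit 120, nat_lit 408, nat_lit 384])) (.node (nat_lit 30) (.leaf (nat_lit 114689) [nat_lit 312, nat_lit 96, nat_lit 456, nat_lit 312, nat_lit 456]) (.leaf (nat_lit 59404) [nat_lit 168, nat_lit 192, nat_lit 144, nat_lit 432, nat_lit 408, nat_lit 384, nat_lit 360]))) (.node (nat_lit 34) (.node (nat_lit 32) (.leaf (nat_lit 124940) [nat_lit 528, nat_lit 552, nat_lit 48, nat_lit 552, nat_lit 72, nat_lit 144, nat_lit 216]) r98) (.node (nat_lit 36) r99 r100))))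
noncomputable def w7 : WT := (.node (nat_lit 1) (.leaf (nat_lit 4098) [nat_lit 192]) (.node (nat_lit 9) (.node (nat_lit 4) (.node (nat_lit 2) (.leaf (nat_lit 72710) [nat_lit 384, nat_lit 192, nat_lit 384]) r92) (.node (nat_lit 6) r93 r94)) (.node (nat_lit 16) (.node (nat_lit 12) r95 r96) (.node (nat_lit 22) r97 r101))))
noncomputable def r102 : WT := (.node (nat_lit 4) (.leaf (nat_lit 79874) [nat_lit 384, nat_lit 264, nat_lit 384]) (.leaf (nat_lit 68608) [nat_lit 192, nat_lit 432, nat_lit 408, nat_lit 264, nat_lit 216]))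
noncomputable def r103 : WT := (.node (nat_lit 6) (.leaf (nat_lit 31744) [nat_lit 48, nat_lit 360, nat_lit 264, nat_lit 72]) (.leaf (nat_lit 22534) [nat_lit 456, nat_lit 360, nat_lit 96, nat_lit 456]))
noncomputable def r104 : WT := (.node (nat_lit 8) (.leaf (nat_lit 80898) [nat_lit 408, nat_lit 264, nat_lit 408]) (.node (nat_lit 9) (.leaf (nat_lit 25604) [nat_lit 432, nat_lit 240]) (.leaf (nat_lit 60416) [nat_lit 144, nat_lit 384, nat_lit 264, nat_lit 168])))
noncomputable def r105 : WT := (.node (nat_lit 11) (.leaf (nat_lit 130056) [nat_lit 120, nat_lit 552, nat_lit 240, nat_lit 552, nat_lit 120]) (.node (nat_lit 12) (.leaf (nat_lit 102402) [nat_lit 480, nat_lit 120, nat_lit 336, nat_lit 408, nat_lit 480]) (.leaf (nat_lit 78850) [nat_lit 360, nat_lit 264, nat_lit 360])))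
noncomputable def r106 : WT := (.node (nat_lit 14) (.leaf (nat_lit 68611) [nat_lit 408, nat_lit 432, nat_lit 216, nat_lit 264, nat_lit 192]) (.node (nat_lit 15) (.leaf (nat_lit 76801) [nat_lit 288, nat_lit 408, nat_lit 432, nat_lit 264, nat_lit 312]) (.leaf (nat_lit 31747) [nat_lit 360, nat_lit 72, nat_lit 264, nat_lit 48])))
noncomputable def r107 : WT := (.node (nat_lit 18) (.node (nat_lit 17) (.leaf (nat_lit 19465) [nat_lit 96, nat_lit 168, nat_lit 96, nat_lit 168]) (.leaf (nat_lit 41984) [nat_lit 96, nat_lit 384, nat_lit 264, nat_lit 96])) (.node (nat_lit 19) (.leaf (nat_lit 51200) [nat_lit 120, nat_lit 432, nat_lit 384, nat_lit 360, nat_lit 264, nat_lit 120]) (.leaf (nat_lit 77826) [nat_lit 432, nat_lit 336, nat_lit 264, nat_lit 336])))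
noncomputable def r108 : WT := (.node (nat_lit 29) (.leaf (nat_lit 51203) [nat_lit 360, nat_lit 384, nat_lit 432, nat_lit 120, nat_lit 264, nat_lit 120]) (.leaf (nat_lit 77825) [nat_lit 336, nat_lit 432, nat_lit 264, nat_lit 336]))
noncomputable def r109 : WT := (.leaf (nat_lit 140334) [nat_lit 504, nat_lit 504, nat_lit 552, nat_lit 456, nat_lit 480, nat_lit 456, nat_lit 480, nat_lit 456, nat_lit 480, nat_lit 552, nat_lit 480, nat_lit 456, nat_lit 480, nat_lit 456, nat_lit 480, nat_lit 456, nat_lit 552, nat_lit 264, nat_lit 120, nat_lit 456, nat_lit 480, nat_lit 456, nat_lit 480, nat_lit 456, nat_lit 120])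
noncomputable def r110 : WT := (.node (nat_lit 31) (.leaf (nat_lit 41987) [nat_lit 384, nat_lit 96, nat_lit 264, nat_lit 96]) (.node (nat_lit 32) (.leaf (nat_lit 101386) [nat_lit 48, nat_lit 480, nat_lit 192, nat_lit 480, nat_lit 72, nat_lit 120]) r109))
noncomputable def r111 : WT := (.node (nat_lit 23) (.node (nat_lit 21) (.leaf (nat_lit 60419) [nat_lit 384, nat_lit 168, nat_lit 264, nat_lit 144]) (.node (nat_lit 22) (.leaf (nat_lit 99333) [nat_lit 480, nat_lit 120, nat_lit 480, nat_lit 408, nat_lit 336]) (.leaf (nat_lit 76802) [nat_lit 432, nat_lit 408, nat_lit 312, nat_lit 264, nat_lit 288]))) (.node (nat_lit 26) (.node (nat_lit 24) (.leaf (nat_lit 103430) [nat_lit 288, nat_lit 120, nat_lit 480, nat_lit 288, nat_lit 480]) (.node (nat_lit 25) (.leaf (nat_lit 116739) [nat_lit 456, nat_lit 360, nat_lit 456, nat_lit 336]) (.leaf (nat_lit 39941) [nat_lit 336, nat_lit 432, nat_lit 96, nat_lit 168, nat_lit 96, nat_lit 144]))) (.node (nat_lit 28) (.node (nat_lit 27) (.leaf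 (nat_lit 137225) [nat_lit 552, nat_lit 480, nat_lit 552, nat_lit 528, nat_lit 528, nat_lit 480, nat_lit 120]) (.leaf (nat_lit 30725) [nat_lit 336, nat_lit 360, nat_lit 384, nat_lit 408, nat_lit 72, nat_lit 216, nat_lit 48, nat_lit 192])) (.node (nat_lit 30) r108 r110))))
noncomputable def w8 : WT := (.node (nat_lit 2) (.node (nat_lit 1) (.leaf (nat_lit 5120) [nat_lit 264]) (.leaf (nat_lit 130050) [nat_lit 552, nat_lit 120, nat_lit 240, nat_lit 120, nat_lit 552])) (.node (nat_lit 10) (.node (nat_lit 5) (.node (nat_lit 3) (.leaf (nat_lit 25602) [nat_lit 240, nat_lit 432]) r102) (.node (nat_lit 7) r103 r104)) (.node (nat_lit 16) (.node (nat_lit 13) r105 r106) (.node (nat_lit 20) r107 r111))))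
noncomputable def r112 : WT := (.node (nat_lit 3) (.leaf (nat_lit 79878) [nat_lit 384, nat_lit 240, nat_lit 384]) (.leaf (nat_lit 25601) [nat_lit 264, nat_lit 432]))
noncomputable def r113 : WT := (.node (nat_lit 5) (.leaf (nat_lit 22531) [nat_lit 456, nat_lit 96, nat_lit 360, nat_lit 456]) (.leaf (nat_lit 78854) [nat_lit 360, nat_lit 240, nat_lit 360]))
noncomputable def r114 : WT := (.node (nat_lit 7) (.leaf (nat_lit 31753) [nat_lit 48, nat_lit 240, nat_lit 360, nat_lit 72]) (.leaf (nat_lit 80902) [nat_lit 408, nat_lit 240, nat_lit 408]))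
noncomputable def r115 : WT := (.node (nat_lit 9) (.leaf (nat_lit 102409) [nat_lit 480, nat_lit 408, nat_lit 336, nat_lit 120, nat_lit 480]) (.leaf (nat_lit 25603) [nat_lit 432, nat_lit 264]))
noncomputable def r116 : WT := (.node (nat_lit 11) (.leaf (nat_lit 68619) [nat_lit 192, nat_lit 240, nat_lit 408, nat_lit 432, nat_lit 216]) (.node (nat_lit 12) (.leaf (nat_lit 130051) [nat_lit 120, nat_lit 552, nat_lit 264, nat_lit 552, nat_lit 120]) (.leaf (nat_lit 60425) [nat_lit 144, nat_lit 240, nat_lit 384, nat_lit 168])))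
noncomputable def r117 : WT := (.node (nat_lit 15) (.node (nat_lit 14) (.leaf (nat_lit 19456) [nat_lit 144, nat_lit 96, nat_lit 144, nat_lit 96]) (.leaf (nat_lit 51213) [nat_lit 120, nat_lit 240, nat_lit 360, nat_lit 384, nat_lit 432, nat_lit 120])) (.node (nat_lit 16) (.leaf (nat_lit 77832) [nat_lit 336, nat_lit 240, nat_lit 432, nat_lit 336]) (.node (nat_lit 17) (.leaf (nat_lit 76810) [nat_lit 288, nat_lit 240, nat_lit 432, nat_lit 408, nat_lit 312]) (.leaf (nat_lit 99334) [nat_lit 336, nat_lit 408, nat_lit 480, nat_lit 120, nat_lit 480]))))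
noncomputable def r118 : WT := (.node (nat_lit 28) (.leaf (nat_lit 116742) [nat_lit 336, nat_lit 456, nat_lit 360, nat_lit 456]) (.leaf (nat_lit 51210) [nat_lit 120, nat_lit 240, nat_lit 120, nat_lit 432, nat_lit 384, nat_lit 360]))
noncomputable def r119 : WT := (.leaf (nat_lit 140318) [nat_lit 120, nat_lit 456, nat_lit 480, nat_lit 456, nat_lit 480, nat_lit 456, nat_lit 120, nat_lit 240, nat_lit 504, nat_lit 504, nat_lit 552, nat_lit 456, nat_lit 480, nat_lit 456, nat_lit 480, nat_lit 456, nat_lit 480, nat_lit 552, nat_lit 480, nat_lit 456, nat_lit 480, nat_lit 456, nat_lit 480, nat_lit 456, nat_lit 552])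
noncomputable def r120 : WT := (.node (nat_lit 30) (.leaf (nat_lit 30732) [nat_lit 216, nat_lit 72, nat_lit 192, nat_lit 48, nat_lit 408, nat_lit 384, nat_lit 360, nat_lit 336]) (.node (nat_lit 31) r119 (.node (nat_lit 32) (.leaf (nat_lit 76809) [nat_lit 312, nat_lit 240, nat_lit 288, nat_lit 408, nat_lit 432]) (.leaf (nat_lit 77831) [nat_lit 336, nat_lit 240, nat_lit 336, nat_lit 432]))))
noncomputable def r121 : WT := (.node (nat_lit 22) (.node (nat_lit 20) (.node (nat_lit 19) (.leaf (nat_lit 41993) [nat_lit 96, nat_lit 240, nat_lit 384, nat_lit 96]) (.leaf (nat_lit 137222) [nat_lit 120, nat_lit 480, nat_lit 504, nat_lit 504, nat_lit 552, nat_lit 480, nat_lit 552])) (.node (nat_lit 21) (.leaf (nat_lit 41990) [nat_lit 96, nat_lit 240, nat_lit 96, nat_lit 384]) (.leaf (nat_lit 103429) [nat_lit 480, nat_lit 312, nat_lit 480, nat_lit 120, nat_lit 312]))) (.node (nat_lit 25) (.node (nat_lit 23) (.leaf (nat_lit 31750) [nat_lit 72, nat_lit 240, nat_lit 48, nat_lit 360]) (.node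 (nat_lit 24) (.leaf (nat_lit 39944) [nat_lit 168, nat_lit 96, nat_lit 144, nat_lit 96, nat_lit 432, nat_lit 336]) (.leaf (nat_lit 68616) [nat_lit 216, nat_lit 240, nat_lit 192, nat_lit 432, nat_lit 408]))) (.node (nat_lit 27) (.node (nat_lit 26) (.leaf (nat_lit 60422) [nat_lit 168, nat_lit 240, nat_lit 144, nat_lit 384]) (.leaf (nat_lit 101379) [nat_lit 120, nat_lit 48, nat_lit 480, nat_lit 216, nat_lit 480, nat_lit 72])) (.node (nat_lit 29) r118 r120))))
noncomputable def w9 : WT := (.node (nat_lit 1) (.leaf (nat_lit 5122) [nat_lit 240]) (.node (nat_lit 8) (.node (nat_lit 4) (.node (nat_lit 2) (.leaf (nat_lit 130057) [nat_lit 552, nat_lit 120, nat_lit 264, nat_lit 120, nat_lit 552]) r112) (.node (nat_lit 6) r113 r114)) (.node (nat_lit 13) (.node (nat_lit 10) r115 r116) (.node (nat_lit 18) r117 r121))))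
noncomputable def r122 : WT := (.node (nat_lit 3) (.leaf (nat_lit 82944) [nat_lit 288, nat_lit 432, nat_lit 408]) (.leaf (nat_lit 84994) [nat_lit 360, nat_lit 312, nat_lit 360]))
noncomputable def r123 : WT := (.node (nat_lit 5) (.leaf (nat_lit 69635) [nat_lit 384, nat_lit 408, nat_lit 216, nat_lit 312, nat_lit 192]) (.leaf (nat_lit 69632) [nat_lit 192, nat_lit 408, nat_lit 384, nat_lit 312, nat_lit 216]))
noncomputable def r124 : WT := (.node (nat_lit 7) (.leaf (nat_lit 135169) [nat_lit 288, nat_lit 552, nat_lit 408, nat_lit 552]) (.node (nat_lit 8) (.leaf (nat_lit 88066) [nat_lit 432, nat_lit 312, nat_lit 432]) (.leaf (nat_lit 32768) [nat_lit 48, nat_lit 360, nat_lit 312, nat_lit 72])))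
noncomputable def r125 : WT := (.node (nat_lit 10) (.leaf (nat_lit 24580) [nat_lit 288, nat_lit 120, nat_lit 408, nat_lit 120]) (.node (nat_lit 11) (.leaf (nat_lit 131074) [nat_lit 552, nat_lit 312, nat_lit 336, nat_lit 504, nat_lit 504, nat_lit 552]) (.leaf (nat_lit 43008) [nat_lit 96, nat_lit 384, nat_lit 312, nat_lit 96])))
noncomputable def r126 : WT := (.node (nat_lit 14) (.node (nat_lit 13) (.leaf (nat_lit 82946) [nat_lit 432, nat_lit 408, nat_lit 288]) (.leaf (nat_lit 103426) [nat_lit 480, nat_lit 240, nat_lit 288, nat_lit 120, nat_lit 480])) (.node (nat_lit 15) (.leaf (nat_lit 32771) [nat_lit 360, nat_lit 72, nat_lit 312, nat_lit 48]) (.leaf (nat_lit 61440) [nat_lit 144, nat_lit 408, nat_lit 384, nat_lit 360, nat_lit 312, nat_lit 168])))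
noncomputable def r127 : WT := (.node (nat_lit 18) (.node (nat_lit 17) (.leaf (nat_lit 135171) [nat_lit 552, nat_lit 408, nat_lit 552, nat_lit 288]) (.leaf (nat_lit 83970) [nat_lit 432, nat_lit 336, nat_lit 312, nat_lit 336])) (.node (nat_lit 19) (.leaf (nat_lit 61443) [nat_lit 360, nat_lit 384, nat_lit 408, nat_lit 168, nat_lit 312, nat_lit 144]) (.leaf (nat_lit 104451) [nat_lit 480, nat_lit 336, nat_lit 480, nat_lit 288])))
noncomputable def r128 : WT := (.node (nat_lit 23) (.node (nat_lit 21) (.leaf (nat_lit 119809) [nat_lit 288, nat_lit 456, nat_lit 432, nat_lit 456]) (.node (nat_lit 22) (.leaf (nat_lit 20491) [nat_lit 120, nat_lit 72, nat_lit 120, nat_lit 48, nat_lit 168]) (.leaf (nat_lit 24582) [nat_lit 120, nat_lit 408, nat_lit 120, nat_lit 288]))) (.node (nat_lit 24) (.leaf (nat_lit 52224) [nat_lit 120, nat_lit 384, nat_lit 360, nat_lit 336, nat_lit 312, nat_lit 120]) (.node (nat_lit 25) (.leaf (nat_lit 76803) [nat_lit 408, nat_lit 432, nat_lit 264, nat_lit 312,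 nat_lit 240]) (.leaf (nat_lit 114690) [nat_lit 456, nat_lit 96, nat_lit 288, nat_lit 192, nat_lit 456]))))
noncomputable def r129 : WT := (.node (nat_lit 35) (.leaf (nat_lit 28679) [nat_lit 360, nat_lit 384, nat_lit 432, nat_lit 72, nat_lit 120, nat_lit 48, nat_lit 120, nat_lit 144]) (.leaf (nat_lit 103432) [nat_lit 120, nat_lit 480, nat_lit 288, nat_lit 480, nat_lit 240]))
noncomputable def r130 : WT := (.node (nat_lit 37) (.leaf (nat_lit 52227) [nat_lit 336, nat_lit 360, nat_lit 384, nat_lit 120, nat_lit 312, nat_lit 120]) (.leaf (nat_lit 43011) [nat_lit 384, nat_lit 96, nat_lit 312, nat_lit 96]))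
noncomputable def r131 : WT := (.node (nat_lit 29) (.node (nat_lit 27) (.leaf (nat_lit 104449) [nat_lit 288, nat_lit 480, nat_lit 336, nat_lit 480]) (.node (nat_lit 28) (.leaf (nat_lit 76800) [nat_lit 240, nat_lit 432, nat_lit 408, nat_lit 312, nat_lit 264]) (.leaf (nat_lit 87042) [nat_lit 408, nat_lit 312, nat_lit 408]))) (.node (nat_lit 32) (.node (nat_lit 30) (.leaf (nat_lit 83969) [nat_lit 336, nat_lit 432, nat_lit 312, nat_lit 336]) (.node (nat_lit 31) (.leaf (nat_lit 114696) [nat_lit 192, nat_lit 456, nat_lit 288, nat_lit 456, nat_lit 96]) (.leaf (nat_lit 119811) [nat_lit 456, nat_lit 432, nat_lit 456, nat_lit 288]))) (.node (nat_lit 34) (.node (nat_lit 33) (.leaf (nat_lit 131079) [nat_lit 552, nat_lit 312, nat_lit 552, nat_lit 528, nat_lit 528, nat_lit 336]) (.leaf (nat_lit 100355) [nat_lit 192, nat_lit 480, nat_lit 168, nat_lit 480, nat_lit 360])) (.node (nat_lit 36) r129 r130))))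
noncomputable def w10 : WT := (.node (nat_lit 2) (.node (nat_lit 1) (.leaf (nat_lit 6144) [nat_lit 312]) (.leaf (nat_lit 86018) [nat_lit 384, nat_lit 312, nat_lit 384])) (.node (nat_lit 12) (.node (nat_lit 6) (.node (nat_lit 4) r122 r123) (.node (nat_lit 9) r124 r125)) (.node (nat_lit 20) (.node (nat_lit 16) r126 r127) (.node (nat_lit 26) r128 r131))))
noncomputable def r132 : WT := (.node (nat_lit 2) (.leaf (nat_lit 86022) [nat_lit 384, nat_lit 288, nat_lit 384]) (.leaf (nat_lit 135174) [nat_lit 312, nat_lit 552, nat_lit 408, nat_lit 552]))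
noncomputable def r133 : WT := (.node (nat_lit 4) (.leaf (nat_lit 84998) [nat_lit 360, nat_lit 288, nat_lit 360]) (.leaf (nat_lit 32777) [nat_lit 48, nat_lit 288, nat_lit 360, nat_lit 72]))
noncomputable def r134 : WT := (.node (nat_lit 6) (.leaf (nat_lit 82949) [nat_lit 312, nat_lit 408, nat_lit 432]) (.leaf (nat_lit 87046) [nat_lit 408, nat_lit 288, nat_lit 408]))
noncomputable def r135 : WT := (.node (nat_lit 8) (.leaf (nat_lit 24579) [nat_lit 312, nat_lit 120, nat_lit 408, nat_lit 120]) (.node (nat_lit 9) (.leaf (nat_lit 69643) [nat_lit 192, nat_lit 288, nat_lit 384, nat_lit 408, nat_lit 216]) (.leaf (nat_lit 82951) [nat_lit 408, nat_lit 432, nat_lit 312])))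
noncomputable def r136 : WT := (.node (nat_lit 12) (.node (nat_lit 11) (.leaf (nat_lit 61453) [nat_lit 144, nat_lit 288, nat_lit 360, nat_lit 384, nat_lit 408, nat_lit 168]) (.leaf (nat_lit 131078) [nat_lit 336, nat_lit 504, nat_lit 504, nat_lit 552, nat_lit 288, nat_lit 552])) (.node (nat_lit 13) (.leaf (nat_lit 119814) [nat_lit 312, nat_lit 456, nat_lit 432, nat_lit 456]) (.leaf (nat_lit 43017) [nat_lit 96, nat_lit 288, nat_lit 384, nat_lit 96])))
noncomputable def r137 : WT := (.node (nat_lit 16) (.node (nat_lit 15) (.leaf (nat_lit 103433) [nat_lit 480, nat_lit 120, nat_lit 312, nat_lit 264, nat_lit 480]) (.leaf (nat_lit 83976) [nat_lit 336, nat_lit 288, nat_lit 432, nat_lit 336])) (.node (nat_lit 17) (.leaf (nat_lit 131083) [nat_lit 552, nat_lit 528, nat_lit 528, nat_lit 336, nat_lit 288, nat_lit 552]) (.leaf (nat_lit 114697) [nat_lit 456, nat_lit 216, nat_lit 312, nat_lit 96, nat_lit 456])))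
noncomputable def r138 : WT := (.node (nat_lit 21) (.node (nat_lit 19) (.leaf (nat_lit 43014) [nat_lit 96, nat_lit 288, nat_lit 96, nat_lit 384]) (.node (nat_lit 20) (.leaf (nat_lit 104454) [nat_lit 312, nat_lit 480, nat_lit 336, nat_lit 480]) (.leaf (nat_lit 104456) [nat_lit 480, nat_lit 336, nat_lit 480, nat_lit 312]))) (.node (nat_lit 22) (.leaf (nat_lit 76811) [nat_lit 240, nat_lit 288, nat_lit 408, nat_lit 432, nat_lit 264]) (.node (nat_lit 23) (.leaf (nat_lit 20480) [nat_lit 144, nat_lit 72, nat_lit 120, nat_lit 48, nat_lit 120]) (.leaf (nat_lit 135176) [nat_lit 552, nat_lit 408, nat_lit 552, nat_lit 312]))))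
noncomputable def r139 : WT := (.node (nat_lit 36) (.leaf (nat_lit 52234) [nat_lit 120, nat_lit 288, nat_lit 120, nat_lit 384, nat_lit 360, nat_lit 336]) (.leaf (nat_lit 83975) [nat_lit 336, nat_lit 288, nat_lit 336, nat_lit 432]))
noncomputable def r140 : WT := (.node (nat_lit 29) (.node (nat_lit 26) (.node (nat_lit 25) (.leaf (nat_lit 100360) [nat_lit 360, nat_lit 480, nat_lit 144, nat_lit 480, nat_lit 216]) (.leaf (nat_lit 119816) [nat_lit 456, nat_lit 432, nat_lit 456, nat_lit 312])) (.node (nat_lit 27) (.leaf (nat_lit 32774) [nat_lit 72, nat_lit 288, nat_lit 48, nat_lit 360]) (.node (nat_lit 28) (.leaf (nat_lit 114691) [nat_lit 96, nat_lit 456, nat_lit 312, nat_lit 456, nat_lit 216]) (.leaf (nat_lit 24581) [nat_lit 120, nat_lit 408, nat_lit 120, nat_lit 312])))) (.node (nat_lit 32) (.node (nat_lit 30) (.leaf (nat_lit 88070) [nat_lit 432, nat_lit 288, nat_lit 432]) (.node (nat_lit 31) (.leaf (nat_lit 103427) [nat_lit 264, nat_lit 480, nat_lit 312, nat_lit 480, nat_lit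 120]) (.leaf (nat_lit 61450) [nat_lit 168, nat_lit 288, nat_lit 144, nat_lit 408, nat_lit 384, nat_lit 360]))) (.node (nat_lit 34) (.node (nat_lit 33) (.leaf (nat_lit 69640) [nat_lit 216, nat_lit 288, nat_lit 192, nat_lit 408, nat_lit 384]) (.leaf (nat_lit 52237) [nat_lit 120, nat_lit 288, nat_lit 336, nat_lit 360, nat_lit 384, nat_lit 120])) (.node (nat_lit 35) (.leaf (nat_lit 76808) [nat_lit 264, nat_lit 288, nat_lit 240, nat_lit 432, nat_lit 408]) r139))))
noncomputable def w11 : WT := (.node (nat_lit 1) (.leaf (nat_lit 6146) [nat_lit 288]) (.node (nat_lit 10) (.node (nat_lit 5) (.node (nat_lit 3) r132 r133) (.node (nat_lit 7) r134 r135)) (.node (nat_lit 18) (.node (nat_lit 14) r136 r137) (.node (nat_lit 24) r138 r140))))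
noncomputable def r141 : WT := (.node (nat_lit 3) (.leaf (nat_lit 90114) [nat_lit 384, nat_lit 336, nat_lit 384]) (.leaf (nat_lit 53248) [nat_lit 120, nat_lit 336, nat_lit 120]))
noncomputable def r142 : WT := (.node (nat_lit 5) (.leaf (nat_lit 104450) [nat_lit 480, nat_lit 312, nat_lit 312, nat_lit 480]) (.leaf (nat_lit 21504) [nat_lit 144, nat_lit 144]))
noncomputable def r143 : WT := (.node (nat_lit 7) (.leaf (nat_lit 70659) [nat_lit 432, nat_lit 216, nat_lit 336, nat_lit 192]) (.node (nat_lit 8) (.leaf (nat_lit 89090) [nat_lit 360, nat_lit 336, nat_lit 360]) (.leaf (nat_lit 92162) [nat_lit 432, nat_lit 336, nat_lit 432])))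
noncomputable def r144 : WT := (.node (nat_lit 10) (.leaf (nat_lit 110598) [nat_lit 456, nat_lit 96, nat_lit 456]) (.node (nat_lit 11) (.leaf (nat_lit 21509) [nat_lit 168, nat_lit 168]) (.leaf (nat_lit 33792) [nat_lit 48, nat_lit 360, nat_lit 336, nat_lit 72])))
noncomputable def r145 : WT := (.node (nat_lit 13) (.leaf (nat_lit 91138) [nat_lit 408, nat_lit 336, nat_lit 408]) (.node (nat_lit 14) (.leaf (nat_lit 70656) [nat_lit 192, nat_lit 432, nat_lit 336, nat_lit 216]) (.leaf (nat_lit 44032) [nat_lit 96, nat_lit 384, nat_lit 336, nat_lit 96])))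
noncomputable def r146 : WT := (.node (nat_lit 18) (.node (nat_lit 16) (.leaf (nat_lit 33795) [nat_lit 360, nat_lit 72, nat_lit 336, nat_lit 48]) (.node (nat_lit 17) (.leaf (nat_lit 83968) [nat_lit 288, nat_lit 432, nat_lit 336, nat_lit 312]) (.leaf (nat_lit 83971) [nat_lit 432, nat_lit 312, nat_lit 336, nat_lit 288]))) (.node (nat_lit 20) (.node (nat_lit 19) (.leaf (nat_lit 77824) [nat_lit 240, nat_lit 432, nat_lit 336, nat_lit 264]) (.leaf (nat_lit 33798) [nat_lit 72, nat_lit 336, nat_lit 48, nat_lit 360])) (.node (nat_lit 21) (.leaf (nat_lit 44038) [nat_lit 96, nat_lit 336, nat_lit 96, nat_lit 384]) (.leaf (nat_lit 77827) [nat_lit 432, nat_lit 264, nat_lit 336, nat_lit 240]))))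
noncomputable def r147 : WT := (.node (nat_lit 27) (.leaf (nat_lit 106504) [nat_lit 72, nat_lit 384, nat_lit 480, nat_lit 384, nat_lit 480, nat_lit 48]) (.leaf (nat_lit 131077) [nat_lit 288, nat_lit 552, nat_lit 312, nat_lit 552, nat_lit 528, nat_lit 528]))
noncomputable def r148 : WT := (.node (nat_lit 30) (.leaf (nat_lit 77830) [nat_lit 264, nat_lit 336, nat_lit 240, nat_lit 432]) (.leaf (nat_lit 39943) [nat_lit 432, nat_lit 96, nat_lit 168, nat_lit 96, nat_lit 144, nat_lit 240]))
noncomputable def r149 : WT := (.node (nat_lit 32) (.leaf (nat_lit 105482) [nat_lit 480, nat_lit 360, nat_lit 480, nat_lit 216, nat_lit 216]) (.leaf (nat_lit 106501) [nat_lit 72, nat_lit 480, nat_lit 384, nat_lit 480, nat_lit 384, nat_lit 48]))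
noncomputable def r150 : WT := (.node (nat_lit 34) (.leaf (nat_lit 52229) [nat_lit 360, nat_lit 384, nat_lit 120, nat_lit 312, nat_lit 120, nat_lit 288]) (.leaf (nat_lit 83974) [nat_lit 312, nat_lit 336, nat_lit 288, nat_lit 432]))
noncomputable def r151 : WT := (.node (nat_lit 36) (.leaf (nat_lit 102403) [nat_lit 120, nat_lit 480, nat_lit 264, nat_lit 480, nat_lit 408]) (.leaf (nat_lit 102408) [nat_lit 408, nat_lit 480, nat_lit 240, nat_lit 480, nat_lit 120]))
noncomputable def r152 : WT := (.node (nat_lit 38) (.leaf (nat_lit 33801) [nat_lit 48, nat_lit 336, nat_lit 360, nat_lit 72]) (.leaf (nat_lit 30727) [nat_lit 360, nat_lit 384, nat_lit 408, nat_lit 72, nat_lit 216, nat_lit 48, nat_lit 192, nat_lit 240]))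
noncomputable def r153 : WT := (.node (nat_lit 40) (.leaf (nat_lit 83977) [nat_lit 288, nat_lit 336, nat_lit 432, nat_lit 312]) (.node (nat_lit 41) (.leaf (nat_lit 104455) [nat_lit 480, nat_lit 288, nat_lit 288, nat_lit 480]) (.leaf (nat_lit 29703) [nat_lit 432, nat_lit 72, nat_lit 168, nat_lit 48, nat_lit 144, nat_lit 192])))
noncomputable def r154 : WT := (.node (nat_lit 43) (.leaf (nat_lit 105473) [nat_lit 192, nat_lit 192, nat_lit 480, nat_lit 360, nat_lit 480]) (.node (nat_lit 44) (.leaf (nat_lit 116744) [nat_lit 456, nat_lit 360, nat_lit 456, nat_lit 264]) (.leaf (nat_lit 52232) [nat_lit 312, nat_lit 120, nat_lit 288, nat_lit 120, nat_lit 384, nat_lit 360])))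
noncomputable def r155 : WT := (.node (nat_lit 47) (.node (nat_lit 46) (.leaf (nat_lit 107526) [nat_lit 432, nat_lit 480, nat_lit 408, nat_lit 480]) (.leaf (nat_lit 77833) [nat_lit 240, nat_lit 336, nat_lit 432, nat_lit 264])) (.node (nat_lit 48) (.leaf (nat_lit 44041) [nat_lit 96, nat_lit 336, nat_lit 384, nat_lit 96]) (.leaf (nat_lit 107523) [nat_lit 480, nat_lit 408, nat_lit 480, nat_lit 432])))
noncomputable def r156 : WT := (.node (nat_lit 51) (.node (nat_lit 50) (.leaf (nat_lit 112646) [nat_lit 96, nat_lit 216, nat_lit 456, nat_lit 192, nat_lit 456]) (.leaf (nat_lit 44035) [nat_lit 384, nat_lit 96, nat_lit 336, nat_lit 96])) (.node (nat_lit 53) (.node (nat_lit 52) (.leaf (nat_lit 112645) [nat_lit 456, nat_lit 216, nat_lit 456, nat_lit 192, nat_lit 96]) (.leaf (nat_lit 30730) [nat_lit 264, nat_lit 216, nat_lit 72, nat_lit 192, nat_lit 48, nat_lit 408, nat_lit 384, nat_lit 360])) (.node (nat_lit 54) (.leaf (nat_lit 29702) [nat_lit 216, nat_lit 168, nat_lit 72, nat_lit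 144, nat_lit 48, nat_lit 432]) (.leaf (nat_lit 99336) [nat_lit 408, nat_lit 480, nat_lit 120, nat_lit 480, nat_lit 264]))))
noncomputable def r157 : WT := (.node (nat_lit 31) (.node (nat_lit 25) (.node (nat_lit 23) (.leaf (nat_lit 131080) [nat_lit 504, nat_lit 504, nat_lit 552, nat_lit 288, nat_lit 552, nat_lit 312]) (.node (nat_lit 24) (.leaf (nat_lit 70662) [nat_lit 216, nat_lit 336, nat_lit 192, nat_lit 432]) (.leaf (nat_lit 70665) [nat_lit 192, nat_lit 336, nat_lit 432, nat_lit 216]))) (.node (nat_lit 28) (.node (nat_lit 26) (.leaf (nat_lit 116737) [nat_lit 240, nat_lit 456, nat_lit 360, nat_lit 456]) r147) (.node (nat_lit 29) (.leaf (nat_lit 99331) [nat_lit 240, nat_lit 480, nat_lit 120, nat_lit 480, nat_lit 408]) r148))) (.node (nat_lit 39) (.node (nat_lit 35) (.node (nat_lit 33) r149 r150) (.node (nat_lit 37) r151 r152)) (.node (nat_lit 45) (.node (nat_lit 42) r153 r154) (.node (nat_lit 49) r155 r156))))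
noncomputable def w12 : WT := (.node (nat_lit 1) (.leaf (nat_lit 7168) [nat_lit 336]) (.node (nat_lit 9) (.node (nat_lit 4) (.node (nat_lit 2) (.leaf (nat_lit 132098) [nat_lit 552, nat_lit 336, nat_lit 552]) r141) (.node (nat_lit 6) r142 r143)) (.node (nat_lit 15) (.node (nat_lit 12) r144 r145) (.node (nat_lit 22) r146 r157))))
noncomputable def r158 : WT := (.node (nat_lit 3) (.leaf (nat_lit 93186) [nat_lit 384, nat_lit 360, nat_lit 384]) (.leaf (nat_lit 54272) [nat_lit 120, nat_lit 432, nat_lit 360, nat_lit 120]))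
noncomputable def r159 : WT := (.node (nat_lit 5) (.leaf (nat_lit 95234) [nat_lit 432, nat_lit 360, nat_lit 432]) (.node (nat_lit 6) (.leaf (nat_lit 71680) [nat_lit 192, nat_lit 432, nat_lit 360, nat_lit 216]) (.leaf (nat_lit 71683) [nat_lit 432, nat_lit 216, nat_lit 360, nat_lit 192])))
noncomputable def r160 : WT := (.node (nat_lit 8) (.leaf (nat_lit 94210) [nat_lit 408, nat_lit 360, nat_lit 408]) (.node (nat_lit 9) (.leaf (nat_lit 34816) [nat_lit 48, nat_lit 384, nat_lit 360, nat_lit 72]) (.leaf (nat_lit 84996) [nat_lit 312, nat_lit 360, nat_lit 288])))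
noncomputable def r161 : WT := (.node (nat_lit 12) (.node (nat_lit 11) (.leaf (nat_lit 63492) [nat_lit 168, nat_lit 360, nat_lit 144]) (.leaf (nat_lit 63488) [nat_lit 144, nat_lit 360, nat_lit 168])) (.node (nat_lit 13) (.leaf (nat_lit 89088) [nat_lit 336, nat_lit 360, nat_lit 336]) (.leaf (nat_lit 78852) [nat_lit 264, nat_lit 360, nat_lit 240])))
noncomputable def r162 : WT := (.node (nat_lit 16) (.node (nat_lit 15) (.leaf (nat_lit 31748) [nat_lit 264, nat_lit 72, nat_lit 240, nat_lit 48]) (.leaf (nat_lit 105474) [nat_lit 480, nat_lit 216, nat_lit 216, nat_lit 336, nat_lit 480])) (.node (nat_lit 17) (.leaf (nat_lit 22537) [nat_lit 456, nat_lit 264, nat_lit 456, nat_lit 96]) (.leaf (nat_lit 84992) [nat_lit 288, nat_lit 360, nat_lit 312])))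
noncomputable def r163 : WT := (.node (nat_lit 21) (.node (nat_lit 19) (.leaf (nat_lit 129027) [nat_lit 552, nat_lit 216, nat_lit 552, nat_lit 192]) (.node (nat_lit 20) (.leaf (nat_lit 22528) [nat_lit 96, nat_lit 456, nat_lit 240, nat_lit 456]) (.leaf (nat_lit 78848) [nat_lit 240, nat_lit 360, nat_lit 264]))) (.node (nat_lit 23) (.node (nat_lit 22) (.leaf (nat_lit 100353) [nat_lit 288, nat_lit 192, nat_lit 480, nat_lit 168, nat_lit 480]) (.leaf (nat_lit 129030) [nat_lit 216, nat_lit 552, nat_lit 192, nat_lit 552])) (.node (nat_lit 24) (.leaf (nat_lit 45056) [nat_lit 96, nat_lit 432, nat_lit 408, nat_lit 360, nat_lit 96]) (.leaf (nat_lit 116738) [nat_lit 456, nat_lit 264, nat_lit 336, nat_lit 456]))))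
noncomputable def r164 : WT := (.node (nat_lit 37) (.leaf (nat_lit 59397) [nat_lit 384, nat_lit 408, nat_lit 432, nat_lit 168, nat_lit 216, nat_lit 144, nat_lit 192]) (.leaf (nat_lit 54278) [nat_lit 120, nat_lit 360, nat_lit 120, nat_lit 432]))
noncomputable def r165 : WT := (.node (nat_lit 39) (.leaf (nat_lit 51208) [nat_lit 264, nat_lit 120, nat_lit 240, nat_lit 120, nat_lit 432, nat_lit 384]) (.leaf (nat_lit 34825) [nat_lit 48, nat_lit 360, nat_lit 384, nat_lit 72]))
noncomputable def r166 : WT := (.node (nat_lit 41) (.leaf (nat_lit 45064) [nat_lit 96, nat_lit 360, nat_lit 96, nat_lit 432, nat_lit 408]) (.leaf (nat_lit 54275) [nat_lit 432, nat_lit 120, nat_lit 360, nat_lit 120]))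
noncomputable def r167 : WT := (.node (nat_lit 44) (.node (nat_lit 43) (.leaf (nat_lit 51205) [nat_lit 384, nat_lit 432, nat_lit 120, nat_lit 264, nat_lit 120, nat_lit 240]) (.leaf (nat_lit 52230) [nat_lit 336, nat_lit 312, nat_lit 120, nat_lit 288, nat_lit 120, nat_lit 384])) (.node (nat_lit 45) (.leaf (nat_lit 61445) [nat_lit 384, nat_lit 408, nat_lit 168, nat_lit 312, nat_lit 144, nat_lit 288]) (.leaf (nat_lit 28681) [nat_lit 384, nat_lit 432, nat_lit 72, nat_lit 120, nat_lit 48, nat_lit 120, nat_lit 144, nat_lit 288])))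
noncomputable def r168 : WT := (.node (nat_lit 49) (.node (nat_lit 47) (.leaf (nat_lit 61448) [nat_lit 312, nat_lit 168, nat_lit 288, nat_lit 144, nat_lit 408, nat_lit 384]) (.node (nat_lit 48) (.leaf (nat_lit 45059) [nat_lit 408, nat_lit 432, nat_lit 96, nat_lit 360, nat_lit 96]) (.leaf (nat_lit 116743) [nat_lit 456, nat_lit 336, nat_lit 240, nat_lit 456]))) (.node (nat_lit 51) (.node (nat_lit 50) (.leaf (nat_lit 52231) [nat_lit 384, nat_lit 120, nat_lit 312, nat_lit 120, nat_lit 288, nat_lit 336]) (.leaf (nat_lit 30728) [nat_lit 336, nat_lit 264, nat_lit 216, nat_lit 72, nat_lit 192, nat_lit 48, nat_lit 408, nat_lit 384])) (.node (nat_lit 52) (.leaf (nat_lit 59402) [nat_lit 216, nat_lit 168, nat_lit 192, nat_lit 144, nat_lit 432, nat_lit 408, nat_lit 384]) (.node (nat_lit 53) (.leaf (nat_lit 105481) [nat_lit 480, nat_lit 336, nat_lit 192, nat_lit 192, nat_lit 480]) (.leaf (nat_lit 45067) [nat_lit 96, nat_lit 360, nat_lit 408, nat_lit 432, nat_lit 96])))))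
noncomputable def r169 : WT := (.node (nat_lit 33) (.node (nat_lit 29) (.node (nat_lit 27) (.node (nat_lit 26) (.leaf (nat_lit 71686) [nat_lit 216, nat_lit 360, nat_lit 192, nat_lit 432]) (.leaf (nat_lit 34822) [nat_lit 72, nat_lit 360, nat_lit 48, nat_lit 384])) (.node (nat_lit 28) (.leaf (nat_lit 33797) [nat_lit 72, nat_lit 336, nat_lit 48, nat_lit 336]) (.leaf (nat_lit 32772) [nat_lit 312, nat_lit 72, nat_lit 288, nat_lit 48]))) (.node (nat_lit 31) (.node (nat_lit 30) (.leaf (nat_lit 100362) [nat_lit 480, nat_lit 144, nat_lit 480, nat_lit 216, nat_lit 312]) (.leaf (nat_lit 71689) [nat_lit 192, nat_lit 360, nat_lit 432, nat_lit 216])) (.node (nat_lit 32) (.leaf (nat_lit 54281) [nat_lit 120, nat_lit 360, nat_lit 432, nat_lit 120]) (.leaf (nat_lit 34819) [nat_lit 384, nat_lit 72, nat_lit 360, nat_lit 48])))) (.node (nat_lit 38) (.node (nat_lit 35) (.node (nat_lit 34) (.leaf (nat_lit 33796) [nat_lit 336, nat_lit 72, nat_lit 336, nat_lit 48]) (.leaf (nat_lit 31749) [nat_lit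 72, nat_lit 264, nat_lit 48, nat_lit 240])) (.node (nat_lit 36) (.leaf (nat_lit 32773) [nat_lit 72, nat_lit 312, nat_lit 48, nat_lit 288]) r164)) (.node (nat_lit 42) (.node (nat_lit 40) r165 r166) (.node (nat_lit 46) r167 r168))))
noncomputable def w13 : WT := (.node (nat_lit 1) (.leaf (nat_lit 8192) [nat_lit 360]) (.node (nat_lit 10) (.node (nat_lit 4) (.node (nat_lit 2) (.leaf (nat_lit 133122) [nat_lit 552, nat_lit 360, nat_lit 552]) r158) (.node (nat_lit 7) r159 r160)) (.node (nat_lit 18) (.node (nat_lit 14) r161 r162) (.node (nat_lit 25) r163 r169))))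
noncomputable def r170 : WT := (.node (nat_lit 3) (.leaf (nat_lit 72708) [nat_lit 216, nat_lit 384, nat_lit 192]) (.leaf (nat_lit 72704) [nat_lit 192, nat_lit 384, nat_lit 216]))
noncomputable def r171 : WT := (.node (nat_lit 5) (.leaf (nat_lit 96258) [nat_lit 408, nat_lit 384, nat_lit 408]) (.leaf (nat_lit 55296) [nat_lit 120, nat_lit 432, nat_lit 384, nat_lit 120]))
noncomputable def r172 : WT := (.node (nat_lit 7) (.leaf (nat_lit 97282) [nat_lit 432, nat_lit 384, nat_lit 432]) (.node (nat_lit 8) (.leaf (nat_lit 93184) [nat_lit 360, nat_lit 384, nat_lit 360]) (.leaf (nat_lit 46080) [nat_lit 96, nat_lit 384, nat_lit 96])))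
noncomputable def r173 : WT := (.node (nat_lit 10) (.leaf (nat_lit 106498) [nat_lit 480, nat_lit 48, nat_lit 336, nat_lit 72, nat_lit 384, nat_lit 480]) (.node (nat_lit 11) (.leaf (nat_lit 117762) [nat_lit 456, nat_lit 384, nat_lit 456]) (.leaf (nat_lit 35840) [nat_lit 48, nat_lit 432, nat_lit 408, nat_lit 384, nat_lit 72])))
noncomputable def r174 : WT := (.node (nat_lit 14) (.node (nat_lit 13) (.leaf (nat_lit 23552) [nat_lit 72, nat_lit 192, nat_lit 192, nat_lit 48]) (.leaf (nat_lit 90112) [nat_lit 336, nat_lit 384, nat_lit 336])) (.node (nat_lit 15) (.leaf (nat_lit 86016) [nat_lit 288, nat_lit 384, nat_lit 312]) (.leaf (nat_lit 86020) [nat_lit 312, nat_lit 384, nat_lit 288])))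
noncomputable def r175 : WT := (.node (nat_lit 18) (.node (nat_lit 17) (.leaf (nat_lit 64512) [nat_lit 144, nat_lit 432, nat_lit 384, nat_lit 168]) (.leaf (nat_lit 79876) [nat_lit 264, nat_lit 384, nat_lit 240])) (.node (nat_lit 20) (.node (nat_lit 19) (.leaf (nat_lit 60420) [nat_lit 264, nat_lit 168, nat_lit 240, nat_lit 144]) (.leaf (nat_lit 79872) [nat_lit 240, nat_lit 384, nat_lit 264])) (.node (nat_lit 21) (.leaf (nat_lit 55302) [nat_lit 120, nat_lit 384, nat_lit 120, nat_lit 432]) (.node (nat_lit 22) (.leaf (nat_lit 34820) [nat_lit 360, nat_lit 72, nat_lit 360, nat_lit 48]) (.leaf (nat_lit 67592) [nat_lit 192, nat_lit 192, nat_lit 432, nat_lit 408])))))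
noncomputable def r176 : WT := (.node (nat_lit 31) (.leaf (nat_lit 51207) [nat_lit 432, nat_lit 120, nat_lit 264, nat_lit 120, nat_lit 240, nat_lit 360]) (.leaf (nat_lit 55299) [nat_lit 432, nat_lit 120, nat_lit 384, nat_lit 120]))
noncomputable def r177 : WT := (.node (nat_lit 33) (.leaf (nat_lit 38919) [nat_lit 96, nat_lit 120, nat_lit 96, nat_lit 120, nat_lit 192]) (.leaf (nat_lit 106507) [nat_lit 480, nat_lit 384, nat_lit 48, nat_lit 336, nat_lit 72, nat_lit 480]))
noncomputable def r178 : WT := (.node (nat_lit 35) (.leaf (nat_lit 60421) [nat_lit 168, nat_lit 264, nat_lit 144, nat_lit 240]) (.leaf (nat_lit 44037) [nat_lit 96, nat_lit 336, nat_lit 96, nat_lit 336]))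
noncomputable def r179 : WT := (.node (nat_lit 37) (.leaf (nat_lit 23561) [nat_lit 72, nat_lit 216, nat_lit 216, nat_lit 48]) (.leaf (nat_lit 44036) [nat_lit 336, nat_lit 96, nat_lit 336, nat_lit 96]))
noncomputable def r180 : WT := (.node (nat_lit 39) (.leaf (nat_lit 35851) [nat_lit 48, nat_lit 384, nat_lit 408, nat_lit 432, nat_lit 72]) (.leaf (nat_lit 35848) [nat_lit 72, nat_lit 384, nat_lit 48, nat_lit 432, nat_lit 408]))
noncomputable def r181 : WT := (.node (nat_lit 41) (.leaf (nat_lit 64521) [nat_lit 144, nat_lit 384, nat_lit 432, nat_lit 168]) (.node (nat_lit 42) (.leaf (nat_lit 41989) [nat_lit 96, nat_lit 264, nat_lit 96, nat_lit 240]) (.leaf (nat_lit 43013) [nat_lit 96, nat_lit 312, nat_lit 96, nat_lit 288])))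
noncomputable def r182 : WT := (.node (nat_lit 44) (.leaf (nat_lit 106497) [nat_lit 48, nat_lit 336, nat_lit 72, nat_lit 480, nat_lit 384, nat_lit 480]) (.node (nat_lit 45) (.leaf (nat_lit 41988) [nat_lit 264, nat_lit 96, nat_lit 240, nat_lit 96]) (.leaf (nat_lit 61447) [nat_lit 408, nat_lit 168, nat_lit 312, nat_lit 144, nat_lit 288, nat_lit 360])))
noncomputable def r183 : WT := (.node (nat_lit 48) (.node (nat_lit 47) (.leaf (nat_lit 52233) [nat_lit 120, nat_lit 312, nat_lit 120, nat_lit 288, nat_lit 336, nat_lit 360]) (.leaf (nat_lit 35843) [nat_lit 408, nat_lit 432, nat_lit 72, nat_lit 384, nat_lit 48])) (.node (nat_lit 49) (.leaf (nat_lit 59399) [nat_lit 408, nat_lit 432, nat_lit 168, nat_lit 216, nat_lit 144, nat_lit 192, nat_lit 360]) (.leaf (nat_lit 40965) [nat_lit 408, nat_lit 432, nat_lit 96, nat_lit 216, nat_lit 96, nat_lit 192])))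
noncomputable def r184 : WT := (.node (nat_lit 53) (.node (nat_lit 51) (.leaf (nat_lit 61446) [nat_lit 360, nat_lit 312, nat_lit 168, nat_lit 288, nat_lit 144, nat_lit 408]) (.node (nat_lit 52) (.leaf (nat_lit 28678) [nat_lit 360, nat_lit 312, nat_lit 168, nat_lit 120, nat_lit 72, nat_lit 120, nat_lit 48, nat_lit 432]) (.leaf (nat_lit 69638) [nat_lit 312, nat_lit 216, nat_lit 288, nat_lit 192, nat_lit 408]))) (.node (nat_lit 56) (.node (nat_lit 54) (.leaf (nat_lit 28683) [nat_lit 432, nat_lit 72, nat_lit 120, nat_lit 48, nat_lit 120, nat_lit 144, nat_lit 288, nat_lit 360]) (.node (nat_lit 55) (.leaf (nat_lit 30731) [nat_lit 408, nat_lit 72, nat_lit 216, nat_lit 48, nat_lit 192, nat_lit 240, nat_lit 336, nat_lit 360]) (.leaf (nat_lit 52228) [nat_lit 360, nat_lit 336, nat_lit 312, nat_lit 120, nat_lit 288, nat_lit 120]))) (.node (nat_lit 57) (.leaf (nat_lit 40968) [nat_lit 216, nat_lit 96, nat_lit 192, nat_lit 96, nat_lit 432, nat_lit 408]) (.node (nat_lit 58) (.leaf (nat_lit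 69637) [nat_lit 408, nat_lit 216, nat_lit 312, nat_lit 192, nat_lit 288]) (.leaf (nat_lit 50181) [nat_lit 408, nat_lit 120, nat_lit 216, nat_lit 120, nat_lit 192])))))
noncomputable def r185 : WT := (.node (nat_lit 32) (.node (nat_lit 27) (.node (nat_lit 25) (.node (nat_lit 24) (.leaf (nat_lit 55305) [nat_lit 120, nat_lit 384, nat_lit 432, nat_lit 120]) (.leaf (nat_lit 34821) [nat_lit 72, nat_lit 360, nat_lit 48, nat_lit 360])) (.node (nat_lit 26) (.leaf (nat_lit 64515) [nat_lit 432, nat_lit 168, nat_lit 384, nat_lit 144]) (.leaf (nat_lit 67585) [nat_lit 408, nat_lit 432, nat_lit 216, nat_lit 216]))) (.node (nat_lit 29) (.node (nat_lit 28) (.leaf (nat_lit 106508) [nat_lit 480, nat_lit 384, nat_lit 480, nat_lit 48, nat_lit 336, nat_lit 72]) (.leaf (nat_lit 64518) [nat_lit 168, nat_lit 384, nat_lit 144, nat_lit 432])) (.node (nat_lit 30) (.leaf (nat_lit 43012) [nat_lit 312, nat_lit 96, nat_lit 288, nat_lit 96]) r176))) (.node (nat_lit 40) (.node (nat_lit 36) (.node (nat_lit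 34) r177 r178) (.node (nat_lit 38) r179 r180)) (.node (nat_lit 46) (.node (nat_lit 43) r181 r182) (.node (nat_lit 50) r183 r184))))
noncomputable def w14 : WT := (.node (nat_lit 1) (.leaf (nat_lit 9216) [nat_lit 384]) (.node (nat_lit 9) (.node (nat_lit 4) (.node (nat_lit 2) (.leaf (nat_lit 134146) [nat_lit 552, nat_lit 384, nat_lit 552]) r170) (.node (nat_lit 6) r171 r172)) (.node (nat_lit 16) (.node (nat_lit 12) r173 r174) (.node (nat_lit 23) r175 r185))))
noncomputable def r186 : WT := (.node (nat_lit 3) (.leaf (nat_lit 135170) [nat_lit 552, nat_lit 312, nat_lit 312, nat_lit 552]) (.leaf (nat_lit 73728) [nat_lit 192, nat_lit 408, nat_lit 216]))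
noncomputable def r187 : WT := (.node (nat_lit 5) (.leaf (nat_lit 73732) [nat_lit 216, nat_lit 408, nat_lit 192]) (.leaf (nat_lit 107522) [nat_lit 480, nat_lit 336, nat_lit 432, nat_lit 480]))
noncomputable def r188 : WT := (.node (nat_lit 7) (.leaf (nat_lit 24576) [nat_lit 120, nat_lit 288, nat_lit 288, nat_lit 120]) (.node (nat_lit 8) (.leaf (nat_lit 36864) [nat_lit 48, nat_lit 408, nat_lit 72]) (.leaf (nat_lit 82950) [nat_lit 288, nat_lit 288, nat_lit 432])))
noncomputable def r189 : WT := (.node (nat_lit 10) (.leaf (nat_lit 94208) [nat_lit 360, nat_lit 408, nat_lit 360]) (.node (nat_lit 11) (.leaf (nat_lit 118786) [nat_lit 456, nat_lit 408, nat_lit 456]) (.leaf (nat_lit 36868) [nat_lit 72, nat_lit 408, nat_lit 48])))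
noncomputable def r190 : WT := (.node (nat_lit 13) (.leaf (nat_lit 47104) [nat_lit 96, nat_lit 408, nat_lit 96]) (.node (nat_lit 14) (.leaf (nat_lit 65536) [nat_lit 144, nat_lit 408, nat_lit 168]) (.leaf (nat_lit 65540) [nat_lit 168, nat_lit 408, nat_lit 144])))
noncomputable def r191 : WT := (.node (nat_lit 17) (.node (nat_lit 16) (.leaf (nat_lit 91136) [nat_lit 336, nat_lit 408, nat_lit 336]) (.leaf (nat_lit 80900) [nat_lit 264, nat_lit 408, nat_lit 240])) (.node (nat_lit 18) (.leaf (nat_lit 87044) [nat_lit 312, nat_lit 408, nat_lit 288]) (.node (nat_lit 19) (.leaf (nat_lit 80896) [nat_lit 240, nat_lit 408, nat_lit 264]) (.leaf (nat_lit 98306) [nat_lit 432, nat_lit 408, nat_lit 432]))))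
noncomputable def r192 : WT := (.node (nat_lit 27) (.leaf (nat_lit 125957) [nat_lit 48, nat_lit 216, nat_lit 48, nat_lit 552, nat_lit 96, nat_lit 552, nat_lit 528, nat_lit 528]) (.leaf (nat_lit 24585) [nat_lit 120, nat_lit 312, nat_lit 312, nat_lit 120]))
noncomputable def r193 : WT := (.node (nat_lit 29) (.leaf (nat_lit 99338) [nat_lit 480, nat_lit 120, nat_lit 480, nat_lit 264, nat_lit 336]) (.leaf (nat_lit 45061) [nat_lit 432, nat_lit 96, nat_lit 360, nat_lit 96, nat_lit 360]))
noncomputable def r194 : WT := (.node (nat_lit 31) (.leaf (nat_lit 107527) [nat_lit 480, nat_lit 432, nat_lit 336, nat_lit 480]) (.leaf (nat_lit 56320) [nat_lit 120, nat_lit 432, nat_lit 408, nat_lit 120]))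
noncomputable def r195 : WT := (.node (nat_lit 33) (.leaf (nat_lit 61444) [nat_lit 384, nat_lit 360, nat_lit 312, nat_lit 168, nat_lit 288, nat_lit 144]) (.node (nat_lit 34) (.leaf (nat_lit 99329) [nat_lit 336, nat_lit 240, nat_lit 480, nat_lit 120, nat_lit 480]) (.leaf (nat_lit 76805) [nat_lit 432, nat_lit 264, nat_lit 312, nat_lit 240, nat_lit 288])))
noncomputable def r196 : WT := (.node (nat_lit 36) (.leaf (nat_lit 56326) [nat_lit 120, nat_lit 408, nat_lit 120, nat_lit 432]) (.node (nat_lit 37) (.leaf (nat_lit 35845) [nat_lit 432, nat_lit 72, nat_lit 384, nat_lit 48, nat_lit 384]) (.leaf (nat_lit 56323) [nat_lit 432, nat_lit 120, nat_lit 408, nat_lit 120])))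
noncomputable def r197 : WT := (.node (nat_lit 39) (.leaf (nat_lit 67590) [nat_lit 384, nat_lit 192, nat_lit 192, nat_lit 432]) (.node (nat_lit 40) (.leaf (nat_lit 68613) [nat_lit 432, nat_lit 216, nat_lit 264, nat_lit 192, nat_lit 240]) (.leaf (nat_lit 50180) [nat_lit 384, nat_lit 216, nat_lit 120, nat_lit 192, nat_lit 120])))
noncomputable def r198 : WT := (.node (nat_lit 43) (.node (nat_lit 42) (.leaf (nat_lit 45062) [nat_lit 360, nat_lit 96, nat_lit 360, nat_lit 96, nat_lit 432]) (.leaf (nat_lit 56329) [nat_lit 120, nat_lit 408, nat_lit 432, nat_lit 120])) (.node (nat_lit 44) (.leaf (nat_lit 50183) [nat_lit 120, nat_lit 216, nat_lit 120, nat_lit 192, nat_lit 384]) (.leaf (nat_lit 69639) [nat_lit 216, nat_lit 312, nat_lit 192, nat_lit 288, nat_lit 384])))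
noncomputable def r199 : WT := (.node (nat_lit 49) (.node (nat_lit 47) (.node (nat_lit 46) (.leaf (nat_lit 102410) [nat_lit 480, nat_lit 240, nat_lit 480, nat_lit 120, nat_lit 336]) (.leaf (nat_lit 102401) [nat_lit 336, nat_lit 120, nat_lit 480, nat_lit 264, nat_lit 480])) (.node (nat_lit 48) (.leaf (nat_lit 30733) [nat_lit 72, nat_lit 216, nat_lit 48, nat_lit 192, nat_lit 240, nat_lit 336, nat_lit 360, nat_lit 384]) (.leaf (nat_lit 30724) [nat_lit 384, nat_lit 360, nat_lit 336, nat_lit 264, nat_lit 216, nat_lit 72, nat_lit 192, nat_lit 48]))) (.node (nat_lit 51) (.node (nat_lit 50) (.leaf (nat_lit 61449) [nat_lit 168, nat_lit 312, nat_lit 144, nat_lit 288, nat_lit 360, nat_lit 384]) (.leaf (nat_lit 35846) [nat_lit 384, nat_lit 72, nat_lit 384, nat_lit 48, nat_lit 432])) (.node (nat_lit 52) (.leaf (nat_lit 68614) [nat_lit 264, nat_lit 216, nat_lit 240, nat_lit 192, nat_lit 432]) (.node (nat_lit 53) (.leaf (nat_lit 59401) [nat_lit 432, nat_lit 168, nat_lit 216, nat_lit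 144, nat_lit 192, nat_lit 360, nat_lit 384]) (.leaf (nat_lit 40967) [nat_lit 432, nat_lit 96, nat_lit 216, nat_lit 96, nat_lit 192, nat_lit 384])))))
noncomputable def r200 : WT := (.node (nat_lit 26) (.node (nat_lit 22) (.node (nat_lit 21) (.leaf (nat_lit 82945) [nat_lit 432, nat_lit 312, nat_lit 312]) (.leaf (nat_lit 87040) [nat_lit 288, nat_lit 408, nat_lit 312])) (.node (nat_lit 24) (.node (nat_lit 23) (.leaf (nat_lit 67587) [nat_lit 432, nat_lit 216, nat_lit 216, nat_lit 384]) (.leaf (nat_lit 135175) [nat_lit 552, nat_lit 288, nat_lit 288, nat_lit 552])) (.node (nat_lit 25) (.leaf (nat_lit 125964) [nat_lit 504, nat_lit 504, nat_lit 552, nat_lit 96, nat_lit 552, nat_lit 72, nat_lit 192, nat_lit 72]) (.leaf (nat_lit 69636) [nat_lit 384, nat_lit 312, nat_lit 216, nat_lit 288, nat_lit 192])))) (.node (nat_lit 35) (.node (nat_lit 30) (.node (nat_lit 28) r192 r193) (.node (nat_lit 32) r194 r195)) (.node (nat_lit 41) (.node (nat_lit 38) r196 r197) (.node (nat_lit 45) r198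 r199))))
noncomputable def w15 : WT := (.node (nat_lit 1) (.leaf (nat_lit 10240) [nat_lit 408]) (.node (nat_lit 9) (.node (nat_lit 4) (.node (nat_lit 2) (.leaf (nat_lit 96256) [nat_lit 384, nat_lit 408, nat_lit 384]) r186) (.node (nat_lit 6) r187 r188)) (.node (nat_lit 15) (.node (nat_lit 12) r189 r190) (.node (nat_lit 20) r191 r200))))
noncomputable def r201 : WT := (.node (nat_lit 3) (.leaf (nat_lit 97280) [nat_lit 384, nat_lit 432, nat_lit 384]) (.leaf (nat_lit 74752) [nat_lit 192, nat_lit 432, nat_lit 216]))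
noncomputable def r202 : WT := (.node (nat_lit 5) (.leaf (nat_lit 57344) [nat_lit 120, nat_lit 432, nat_lit 120]) (.leaf (nat_lit 74756) [nat_lit 216, nat_lit 432, nat_lit 192]))
noncomputable def r203 : WT := (.node (nat_lit 7) (.leaf (nat_lit 37892) [nat_lit 72, nat_lit 432, nat_lit 48]) (.node (nat_lit 8) (.leaf (nat_lit 37888) [nat_lit 48, nat_lit 432, nat_lit 72]) (.leaf (nat_lit 108546) [nat_lit 480, nat_lit 432, nat_lit 480])))
noncomputable def r204 : WT := (.node (nat_lit 10) (.leaf (nat_lit 82947) [nat_lit 312, nat_lit 312, nat_lit 408]) (.node (nat_lit 11) (.leaf (nat_lit 95232) [nat_lit 360, nat_lit 432, nat_lit 360]) (.leaf (nat_lit 48128) [nat_lit 96, nat_lit 432, nat_lit 96])))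
noncomputable def r205 : WT := (.node (nat_lit 13) (.leaf (nat_lit 66564) [nat_lit 168, nat_lit 432, nat_lit 144]) (.node (nat_lit 14) (.leaf (nat_lit 92160) [nat_lit 336, nat_lit 432, nat_lit 336]) (.leaf (nat_lit 119810) [nat_lit 456, nat_lit 312, nat_lit 312, nat_lit 456])))
noncomputable def r206 : WT := (.node (nat_lit 17) (.node (nat_lit 16) (.leaf (nat_lit 66560) [nat_lit 144, nat_lit 432, nat_lit 168]) (.leaf (nat_lit 88064) [nat_lit 288, nat_lit 432, nat_lit 312])) (.node (nat_lit 18) (.leaf (nat_lit 25600) [nat_lit 240, nat_lit 240]) (.node (nat_lit 19) (.leaf (nat_lit 25605) [nat_lit 264, nat_lit 264]) (.leaf (nat_lit 82948) [nat_lit 408, nat_lit 288, nat_lit 288]))))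
noncomputable def r207 : WT := (.node (nat_lit 26) (.leaf (nat_lit 67588) [nat_lit 408, nat_lit 384, nat_lit 192, nat_lit 192]) (.leaf (nat_lit 67589) [nat_lit 216, nat_lit 216, nat_lit 384, nat_lit 408]))
noncomputable def r208 : WT := (.node (nat_lit 29) (.leaf (nat_lit 54277) [nat_lit 120, nat_lit 360, nat_lit 120, nat_lit 360]) (.leaf (nat_lit 70661) [nat_lit 216, nat_lit 336, nat_lit 192, nat_lit 336]))
noncomputable def r209 : WT := (.node (nat_lit 31) (.leaf (nat_lit 77829) [nat_lit 264, nat_lit 336, nat_lit 240, nat_lit 336]) (.leaf (nat_lit 83972) [nat_lit 336, nat_lit 312, nat_lit 336, nat_lit 288]))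
noncomputable def r210 : WT := (.node (nat_lit 33) (.leaf (nat_lit 35844) [nat_lit 408, nat_lit 384, nat_lit 72, nat_lit 384, nat_lit 48]) (.leaf (nat_lit 39940) [nat_lit 336, nat_lit 264, nat_lit 168, nat_lit 96, nat_lit 144, nat_lit 96]))
noncomputable def r211 : WT := (.node (nat_lit 35) (.leaf (nat_lit 45060) [nat_lit 408, nat_lit 360, nat_lit 96, nat_lit 360, nat_lit 96]) (.node (nat_lit 36) (.leaf (nat_lit 64516) [nat_lit 384, nat_lit 168, nat_lit 384, nat_lit 144]) (.leaf (nat_lit 107521) [nat_lit 336, nat_lit 480, nat_lit 408, nat_lit 480])))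
noncomputable def r212 : WT := (.node (nat_lit 38) (.leaf (nat_lit 71685) [nat_lit 216, nat_lit 360, nat_lit 192, nat_lit 360]) (.node (nat_lit 39) (.leaf (nat_lit 71684) [nat_lit 360, nat_lit 216, nat_lit 360, nat_lit 192]) (.leaf (nat_lit 83973) [nat_lit 312, nat_lit 336, nat_lit 288, nat_lit 336])))
noncomputable def r213 : WT := (.node (nat_lit 42) (.node (nat_lit 41) (.leaf (nat_lit 55300) [nat_lit 384, nat_lit 120, nat_lit 384, nat_lit 120]) (.leaf (nat_lit 107528) [nat_lit 480, nat_lit 408, nat_lit 480, nat_lit 336])) (.node (nat_lit 43) (.leaf (nat_lit 119815) [nat_lit 456, nat_lit 288, nat_lit 288, nat_lit 456]) (.node (nat_lit 44) (.leaf (nat_lit 56325) [nat_lit 120, nat_lit 408, nat_lit 120, nat_lit 408]) (.leaf (nat_lit 29700) [nat_lit 336, nat_lit 216, nat_lit 168, nat_lit 72, nat_lit 144, nat_lit 48]))))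
noncomputable def r214 : WT := (.node (nat_lit 48) (.node (nat_lit 46) (.leaf (nat_lit 28676) [nat_lit 384, nat_lit 360, nat_lit 312, nat_lit 168, nat_lit 120, nat_lit 72, nat_lit 120, nat_lit 48]) (.node (nat_lit 47) (.leaf (nat_lit 68612) [nat_lit 408, nat_lit 264, nat_lit 216, nat_lit 240, nat_lit 192]) (.leaf (nat_lit 45063) [nat_lit 96, nat_lit 360, nat_lit 96, nat_lit 360, nat_lit 408]))) (.node (nat_lit 51) (.node (nat_lit 49) (.leaf (nat_lit 35847) [nat_lit 72, nat_lit 384, nat_lit 48, nat_lit 384, nat_lit 408]) (.node (nat_lit 50) (.leaf (nat_lit 56324) [nat_lit 408, nat_lit 120, nat_lit 408, nat_lit 120]) (.leaf (nat_lit 40964) [nat_lit 408, nat_lit 384, nat_lit 216, nat_lit 96, nat_lit 192, nat_lit 96]))) (.node (nat_lit 52) (.leaf (nat_lit 40969) [nat_lit 96, nat_lit 216, nat_lit 96, nat_lit 192, nat_lit 384, nat_lit 408]) (.node (nat_lit 53) (.leaf (nat_lit 51209) [nat_lit 120, nat_lit 264, nat_lit 120, nat_lit 240, nat_lit 360, nat_lit 384]) (.leaf (nat_lit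 59396) [nat_lit 408, nat_lit 384, nat_lit 360, nat_lit 216, nat_lit 168, nat_lit 192, nat_lit 144])))))
noncomputable def r215 : WT := (.node (nat_lit 27) (.node (nat_lit 22) (.node (nat_lit 21) (.leaf (nat_lit 98304) [nat_lit 408, nat_lit 432, nat_lit 408]) (.leaf (nat_lit 55301) [nat_lit 120, nat_lit 384, nat_lit 120, nat_lit 384])) (.node (nat_lit 24) (.node (nat_lit 23) (.leaf (nat_lit 88068) [nat_lit 312, nat_lit 432, nat_lit 288]) (.leaf (nat_lit 54276) [nat_lit 360, nat_lit 120, nat_lit 360, nat_lit 120])) (.node (nat_lit 25) (.leaf (nat_lit 64517) [nat_lit 168, nat_lit 384, nat_lit 144, nat_lit 384]) r207))) (.node (nat_lit 34) (.node (nat_lit 30) (.node (nat_lit 28) (.leaf (nat_lit 70660) [nat_lit 336, nat_lit 216, nat_lit 336, nat_lit 192]) r208) (.node (nat_lit 32) r209 r210)) (.node (nat_lit 40) (.node (nat_lit 37) r211 r212) (.node (nat_lit 45) r213 r214))))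
noncomputable def w16 : WT := (.node (nat_lit 1) (.leaf (nat_lit 11264) [nat_lit 432]) (.node (nat_lit 9) (.node (nat_lit 4) (.node (nat_lit 2) (.leaf (nat_lit 136194) [nat_lit 552, nat_lit 432, nat_lit 552]) r201) (.node (nat_lit 6) r202 r203)) (.node (nat_lit 15) (.node (nat_lit 12) r204 r205) (.node (nat_lit 20) r206 r215))))
noncomputable def r216 : WT := (.node (nat_lit 3) (.leaf (nat_lit 117760) [nat_lit 384, nat_lit 456, nat_lit 384]) (.leaf (nat_lit 112644) [nat_lit 336, nat_lit 96, nat_lit 216, nat_lit 456, nat_lit 192]))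
noncomputable def r217 : WT := (.node (nat_lit 5) (.leaf (nat_lit 120834) [nat_lit 120, nat_lit 456, nat_lit 120, nat_lit 456, nat_lit 120]) (.leaf (nat_lit 118784) [nat_lit 408, nat_lit 456, nat_lit 408]))
noncomputable def r218 : WT := (.node (nat_lit 7) (.leaf (nat_lit 119812) [nat_lit 312, nat_lit 312, nat_lit 456, nat_lit 432]) (.node (nat_lit 8) (.leaf (nat_lit 17410) [nat_lit 48, nat_lit 456, nat_lit 168]) (.leaf (nat_lit 110592) [nat_lit 96, nat_lit 456, nat_lit 336])))
noncomputable def r219 : WT := (.node (nat_lit 10) (.leaf (nat_lit 112640) [nat_lit 192, nat_lit 456, nat_lit 336, nat_lit 96, nat_lit 216]) (.node (nat_lit 11) (.leaf (nat_lit 17413) [nat_lit 144, nat_lit 456, nat_lit 72]) (.leaf (nat_lit 17409) [nat_lit 72, nat_lit 456, nat_lit 144])))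
noncomputable def r220 : WT := (.node (nat_lit 13) (.leaf (nat_lit 17414) [nat_lit 168, nat_lit 456, nat_lit 48]) (.node (nat_lit 14) (.leaf (nat_lit 110596) [nat_lit 336, nat_lit 456, nat_lit 96]) (.leaf (nat_lit 22529) [nat_lit 264, nat_lit 456, nat_lit 96, nat_lit 360])))
noncomputable def r221 : WT := (.leaf (nat_lit 123904) [nat_lit 480, nat_lit 456, nat_lit 480, nat_lit 456, nat_lit 480, nat_lit 456, nat_lit 480, nat_lit 456, nat_lit 480, nat_lit 456, nat_lit 480, nat_lit 456, nat_lit 480, nat_lit 456, nat_lit 480])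
noncomputable def r222 : WT := (.node (nat_lit 18) (.node (nat_lit 16) (.leaf (nat_lit 22536) [nat_lit 360, nat_lit 96, nat_lit 456, nat_lit 240]) (.node (nat_lit 17) (.leaf (nat_lit 114699) [nat_lit 216, nat_lit 312, nat_lit 96, nat_lit 456, nat_lit 312]) (.leaf (nat_lit 119813) [nat_lit 432, nat_lit 456, nat_lit 288, nat_lit 288]))) (.node (nat_lit 19) (.leaf (nat_lit 112651) [nat_lit 192, nat_lit 96, nat_lit 336, nat_lit 456, nat_lit 216]) (.node (nat_lit 20) r221 (.leaf (nat_lit 22533) [nat_lit 96, nat_lit 360, nat_lit 456, nat_lit 264]))))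
noncomputable def r223 : WT := (.leaf (nat_lit 140294) [nat_lit 480, nat_lit 456, nat_lit 480, nat_lit 552, nat_lit 480, nat_lit 456, nat_lit 480, nat_lit 456, nat_lit 480, nat_lit 456, nat_lit 552, nat_lit 264, nat_lit 120, nat_lit 456, nat_lit 480, nat_lit 456, nat_lit 480, nat_lit 456, nat_lit 120, nat_lit 240, nat_lit 504, nat_lit 504, nat_lit 552, nat_lit 456, nat_lit 480])
noncomputable def r224 : WT := (.leaf (nat_lit 139270) [nat_lit 552, nat_lit 120, nat_lit 456, nat_lit 48, nat_lit 480, nat_lit 456, nat_lit 552, nat_lit 120, nat_lit 144, nat_lit 456, nat_lit 480, nat_lit 72, nat_lit 456, nat_lit 120, nat_lit 528, nat_lit 552, nat_lit 456, nat_lit 480])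
noncomputable def r225 : WT := (.leaf (nat_lit 139276) [nat_lit 48, nat_lit 480, nat_lit 456, nat_lit 552, nat_lit 120, nat_lit 144, nat_lit 456, nat_lit 480, nat_lit 72, nat_lit 456, nat_lit 120, nat_lit 528, nat_lit 552, nat_lit 456, nat_lit 480, nat_lit 456, nat_lit 552, nat_lit 120])
noncomputable def r226 : WT := (.node (nat_lit 31) (.leaf (nat_lit 112647) [nat_lit 216, nat_lit 456, nat_lit 192, nat_lit 96, nat_lit 336]) (.leaf (nat_lit 114695) [nat_lit 312, nat_lit 456, nat_lit 216, nat_lit 312, nat_lit 96]))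
noncomputable def r227 : WT := (.node (nat_lit 33) (.leaf (nat_lit 119817) [nat_lit 288, nat_lit 288, nat_lit 456, nat_lit 432]) (.leaf (nat_lit 116741) [nat_lit 360, nat_lit 456, nat_lit 336, nat_lit 240]))
noncomputable def r228 : WT := (.node (nat_lit 35) (.leaf (nat_lit 116736) [nat_lit 360, nat_lit 456, nat_lit 264, nat_lit 336]) (.leaf (nat_lit 22532) [nat_lit 240, nat_lit 456, nat_lit 360, nat_lit 96]))
noncomputable def r229 : WT := (.leaf (nat_lit 139266) [nat_lit 480, nat_lit 456, nat_lit 552, nat_lit 120, nat_lit 456, nat_lit 48, nat_lit 480, nat_lit 456, nat_lit 552, nat_lit 120, nat_lit 144, nat_lit 456, nat_lit 480, nat_lit 72, nat_lit 456, nat_lit 120, nat_lit 528, nat_lit 552])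
noncomputable def r230 : WT := (.leaf (nat_lit 139282) [nat_lit 552, nat_lit 120, nat_lit 144, nat_lit 456, nat_lit 480, nat_lit 72, nat_lit 456, nat_lit 120, nat_lit 528, nat_lit 552, nat_lit 456, nat_lit 480, nat_lit 456, nat_lit 552, nat_lit 120, nat_lit 456, nat_lit 48, nat_lit 480])
noncomputable def r231 : WT := (.leaf (nat_lit 139296) [nat_lit 120, nat_lit 528, nat_lit 552, nat_lit 456, nat_lit 480, nat_lit 456, nat_lit 552, nat_lit 120, nat_lit 456, nat_lit 48, nat_lit 480, nat_lit 456, nat_lit 552, nat_lit 120, nat_lit 144, nat_lit 456, nat_lit 480, nat_lit 72])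
noncomputable def r232 : WT := (.node (nat_lit 38) (.node (nat_lit 37) r229 r230) (.node (nat_lit 39) r231 (.leaf (nat_lit 138245) [nat_lit 552, nat_lit 456, nat_lit 552, nat_lit 456, nat_lit 552, nat_lit 528, nat_lit 528])))
noncomputable def r233 : WT := (.leaf (nat_lit 139290) [nat_lit 480, nat_lit 72, nat_lit 456, nat_lit 120, nat_lit 528, nat_lit 552, nat_lit 456, nat_lit 480, nat_lit 456, nat_lit 552, nat_lit 120, nat_lit 456, nat_lit 48, nat_lit 480, nat_lit 456, nat_lit 552, nat_lit 120, nat_lit 144])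
noncomputable def r234 : WT := (.leaf (nat_lit 139275) [nat_lit 168, nat_lit 120, nat_lit 552, nat_lit 456, nat_lit 480, nat_lit 72, nat_lit 456, nat_lit 120, nat_lit 552, nat_lit 456, nat_lit 480, nat_lit 456, nat_lit 552, nat_lit 504, nat_lit 120, nat_lit 456, nat_lit 48, nat_lit 480])
noncomputable def r235 : WT := (.leaf (nat_lit 139283) [nat_lit 480, nat_lit 72, nat_lit 456, nat_lit 120, nat_lit 552, nat_lit 456, nat_lit 480, nat_lit 456, nat_lit 552, nat_lit 504, nat_lit 120, nat_lit 456, nat_lit 48, nat_lit 480, nat_lit 456, nat_lit 168, nat_lit 120, nat_lit 552])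
noncomputable def r236 : WT := (.leaf (nat_lit 140290) [nat_lit 480, nat_lit 456, nat_lit 480, nat_lit 456, nat_lit 480, nat_lit 552, nat_lit 480, nat_lit 456, nat_lit 480, nat_lit 456, nat_lit 480, nat_lit 456, nat_lit 552, nat_lit 264, nat_lit 120, nat_lit 456, nat_lit 480, nat_lit 456, nat_lit 480, nat_lit 456, nat_lit 120, nat_lit 240, nat_lit 504, nat_lit 504, nat_lit 552])
noncomputable def r237 : WT := (.leaf (nat_lit 140298) [nat_lit 480, nat_lit 552, nat_lit 480, nat_lit 456, nat_lit 480, nat_lit 456, nat_lit 480, nat_lit 456, nat_lit 552, nat_lit 264, nat_lit 120, nat_lit 456, nat_lit 480, nat_lit 456, nat_lit 480, nat_lit 456, nat_lit 120, nat_lit 240, nat_lit 504, nat_lit 504, nat_lit 552, nat_lit 456, nat_lit 480, nat_lit 456, nat_lit 480])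
noncomputable def r238 : WT := (.leaf (nat_lit 140322) [nat_lit 480, nat_lit 456, nat_lit 480, nat_lit 456, nat_lit 120, nat_lit 240, nat_lit 504, nat_lit 504, nat_lit 552, nat_lit 456, nat_lit 480, nat_lit 456, nat_lit 480, nat_lit 456, nat_lit 480, nat_lit 552, nat_lit 480, nat_lit 456, nat_lit 480, nat_lit 456, nat_lit 480, nat_lit 456, nat_lit 552, nat_lit 264, nat_lit 120])
noncomputable def r239 : WT := (.leaf (nat_lit 140314) [nat_lit 552, nat_lit 264, nat_lit 120, nat_lit 456, nat_lit 480, nat_lit 456, nat_lit 480, nat_lit 456, nat_lit 120, nat_lit 240, nat_lit 504, nat_lit 504, nat_lit 552, nat_lit 456, nat_lit 480, nat_lit 456, nat_lit 480, nat_lit 456, nat_lit 480, nat_lit 552, nat_lit 480, nat_lit 456, nat_lit 480, nat_lit 456, nat_lit 480])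
noncomputable def r240 : WT := (.node (nat_lit 43) (.node (nat_lit 41) r233 (.node (nat_lit 42) r234 r235)) (.node (nat_lit 45) (.node (nat_lit 44) r236 r237) (.node (nat_lit 46) r238 r239)))
noncomputable def r241 : WT := (.node (nat_lit 27) (.node (nat_lit 24) (.node (nat_lit 22) (.leaf (nat_lit 119808) [nat_lit 432, nat_lit 456, nat_lit 312, nat_lit 312]) (.node (nat_lit 23) (.leaf (nat_lit 116740) [nat_lit 264, nat_lit 336, nat_lit 456, nat_lit 360]) (.leaf (nat_lit 114688) [nat_lit 288, nat_lit 456, nat_lit 96, nat_lit 288, nat_lit 192]))) (.node (nat_lit 25) (.leaf (nat_lit 114692) [nat_lit 96, nat_lit 288, nat_lit 192, nat_lit 456, nat_lit 288]) (.node (nat_lit 26) (.leaf (nat_lit 138250) [nat_lit 504, nat_lit 504, nat_lit 552, nat_lit 456, nat_lit 552, nat_lit 456, nat_lit 552]) r223))) (.node (nat_lit 32) (.node (nat_lit 29) (.node (nat_lit 28) r224 (.leaf (nat_lit 116745) [nat_lit 336, nat_lit 240, nat_lit 456, nat_lit 360])) (.node (nat_lit 30) r225 r226)) (.node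 (nat_lit 36) (.node (nat_lit 34) r227 r228) (.node (nat_lit 40) r232 r240))))
noncomputable def w17 : WT := (.node (nat_lit 1) (.leaf (nat_lit 12288) [nat_lit 456]) (.node (nat_lit 9) (.node (nat_lit 4) (.node (nat_lit 2) (.leaf (nat_lit 138242) [nat_lit 552, nat_lit 456, nat_lit 552, nat_lit 456, nat_lit 504, nat_lit 504, nat_lit 552]) r216) (.node (nat_lit 6) r217 r218)) (.node (nat_lit 15) (.node (nat_lit 12) r219 r220) (.node (nat_lit 21) r222 r241))))
noncomputable def r242 : WT := (.node (nat_lit 3) (.leaf (nat_lit 99332) [nat_lit 264, nat_lit 336, nat_lit 408, nat_lit 480, nat_lit 120]) (.leaf (nat_lit 106500) [nat_lit 48, nat_lit 336, nat_lit 72, nat_lit 384, nat_lit 480, nat_lit 384]))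
noncomputable def r243 : WT := (.node (nat_lit 5) (.leaf (nat_lit 121856) [nat_lit 48, nat_lit 480, nat_lit 96, nat_lit 480, nat_lit 72]) (.leaf (nat_lit 108544) [nat_lit 432, nat_lit 480, nat_lit 432]))
noncomputable def r244 : WT := (.node (nat_lit 7) (.leaf (nat_lit 121860) [nat_lit 96, nat_lit 480, nat_lit 72, nat_lit 480, nat_lit 48]) (.node (nat_lit 8) (.leaf (nat_lit 107524) [nat_lit 336, nat_lit 432, nat_lit 480, nat_lit 408]) (.leaf (nat_lit 100352) [nat_lit 144, nat_lit 480, nat_lit 216, nat_lit 312, nat_lit 360])))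
noncomputable def r245 : WT := (.node (nat_lit 11) (.node (nat_lit 10) (.leaf (nat_lit 104452) [nat_lit 312, nat_lit 312, nat_lit 480, nat_lit 336]) (.leaf (nat_lit 101389) [nat_lit 72, nat_lit 264, nat_lit 120, nat_lit 48, nat_lit 480, nat_lit 216])) (.node (nat_lit 12) (.leaf (nat_lit 100363) [nat_lit 360, nat_lit 288, nat_lit 192, nat_lit 480, nat_lit 168]) (.leaf (nat_lit 100359) [nat_lit 168, nat_lit 480, nat_lit 360, nat_lit 288, nat_lit 192])))
noncomputable def r246 : WT := (.leaf (nat_lit 123906) [nat_lit 456, nat_lit 480, nat_lit 456, nat_lit 480, nat_lit 456, nat_lit 480, nat_lit 456, nat_lit 480, nat_lit 456, nat_lit 480, nat_lit 456, nat_lit 480, nat_lit 456, nat_lit 480, nat_lit 456])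
noncomputable def r247 : WT := (.node (nat_lit 15) (.node (nat_lit 14) (.leaf (nat_lit 121864) [nat_lit 72, nat_lit 480, nat_lit 48, nat_lit 480, nat_lit 96]) (.leaf (nat_lit 100356) [nat_lit 216, nat_lit 312, nat_lit 360, nat_lit 480, nat_lit 144])) (.node (nat_lit 16) (.leaf (nat_lit 105476) [nat_lit 216, nat_lit 216, nat_lit 336, nat_lit 480, nat_lit 360]) (.node (nat_lit 17) r246 (.leaf (nat_lit 103435) [nat_lit 120, nat_lit 312, nat_lit 264, nat_lit 480, nat_lit 312]))))
noncomputable def r248 : WT := (.leaf (nat_lit 139268) [nat_lit 456, nat_lit 552, nat_lit 120, nat_lit 456, nat_lit 48, nat_lit 480, nat_lit 456, nat_lit 552, nat_lit 120, nat_lit 144, nat_lit 456, nat_lit 480, nat_lit 72, nat_lit 456, nat_lit 120, nat_lit 528, nat_lit 552, nat_lit 456])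
noncomputable def r249 : WT := (.node (nat_lit 22) (.node (nat_lit 20) (.node (nat_lit 19) (.leaf (nat_lit 104453) [nat_lit 336, nat_lit 480, nat_lit 288, nat_lit 288]) (.leaf (nat_lit 105479) [nat_lit 360, nat_lit 480, nat_lit 336, nat_lit 192, nat_lit 192])) (.node (nat_lit 21) (.leaf (nat_lit 137226) [nat_lit 504, nat_lit 504, nat_lit 552, nat_lit 480, nat_lit 552, nat_lit 264, nat_lit 120]) (.leaf (nat_lit 102411) [nat_lit 408, nat_lit 336, nat_lit 120, nat_lit 480, nat_lit 264]))) (.node (nat_lit 24) (.node (nat_lit 23) (.leaf (nat_lit 104448) [nat_lit 336, nat_lit 480, nat_lit 312, nat_lit 312]) r248) (.node (nat_lit 25) (.leaf (nat_lit 103428) [nat_lit 240, nat_lit 288, nat_lit 120, nat_lit 480, nat_lit 288]) (.node (nat_lit 26) (.leaf (nat_lit 101380) [nat_lit 72, nat_lit 120, nat_lit 240, nat_lit 48, nat_lit 480, nat_lit 192]) (.leaf (nat_lit 102404) [nat_lit 120, nat_lit 336, nat_lit 408, nat_lit 480, nat_lit 240])))))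
noncomputable def r250 : WT := (.node (nat_lit 37) (.leaf (nat_lit 107520) [nat_lit 408, nat_lit 480, nat_lit 336, nat_lit 432]) (.leaf (nat_lit 101385) [nat_lit 216, nat_lit 480, nat_lit 72, nat_lit 264, nat_lit 120, nat_lit 48]))
noncomputable def r251 : WT := (.node (nat_lit 39) (.leaf (nat_lit 105483) [nat_lit 336, nat_lit 192, nat_lit 192, nat_lit 480, nat_lit 360]) (.leaf (nat_lit 105472) [nat_lit 360, nat_lit 480, nat_lit 216, nat_lit 216, nat_lit 336]))
noncomputable def r252 : WT := (.node (nat_lit 41) (.leaf (nat_lit 102407) [nat_lit 264, nat_lit 480, nat_lit 408, nat_lit 336, nat_lit 120]) (.node (nat_lit 42) (.leaf (nat_lit 102400) [nat_lit 240, nat_lit 480, nat_lit 120, nat_lit 336, nat_lit 408]) (.leaf (nat_lit 107529) [nat_lit 432, nat_lit 336, nat_lit 480, nat_lit 408])))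
noncomputable def r253 : WT := (.leaf (nat_lit 139292) [nat_lit 72, nat_lit 456, nat_lit 120, nat_lit 528, nat_lit 552, nat_lit 456, nat_lit 480, nat_lit 456, nat_lit 552, nat_lit 120, nat_lit 456, nat_lit 48, nat_lit 480, nat_lit 456, nat_lit 552, nat_lit 120, nat_lit 144, nat_lit 456])
noncomputable def r254 : WT := (.node (nat_lit 45) (.node (nat_lit 44) (.leaf (nat_lit 103431) [nat_lit 312, nat_lit 480, nat_lit 120, nat_lit 312, nat_lit 264]) (.leaf (nat_lit 137221) [nat_lit 120, nat_lit 240, nat_lit 552, nat_lit 480, nat_lit 552, nat_lit 528, nat_lit 528])) (.node (nat_lit 46) r253 (.leaf (nat_lit 107525) [nat_lit 408, nat_lit 480, nat_lit 432, nat_lit 336])))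
noncomputable def r255 : WT := (.leaf (nat_lit 139285) [nat_lit 72, nat_lit 456, nat_lit 120, nat_lit 552, nat_lit 456, nat_lit 480, nat_lit 456, nat_lit 552, nat_lit 504, nat_lit 120, nat_lit 456, nat_lit 48, nat_lit 480, nat_lit 456, nat_lit 168, nat_lit 120, nat_lit 552, nat_lit 456])
noncomputable def r256 : WT := (.leaf (nat_lit 139280) [nat_lit 456, nat_lit 552, nat_lit 120, nat_lit 144, nat_lit 456, nat_lit 480, nat_lit 72, nat_lit 456, nat_lit 120, nat_lit 528, nat_lit 552, nat_lit 456, nat_lit 480, nat_lit 456, nat_lit 552, nat_lit 120, nat_lit 456, nat_lit 48])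
noncomputable def r257 : WT := (.leaf (nat_lit 140292) [nat_lit 456, nat_lit 480, nat_lit 456, nat_lit 480, nat_lit 552, nat_lit 480, nat_lit 456, nat_lit 480, nat_lit 456, nat_lit 480, nat_lit 456, nat_lit 552, nat_lit 264, nat_lit 120, nat_lit 456, nat_lit 480, nat_lit 456, nat_lit 480, nat_lit 456, nat_lit 120, nat_lit 240, nat_lit 504, nat_lit 504, nat_lit 552, nat_lit 456])
noncomputable def r258 : WT := (.leaf (nat_lit 140296) [nat_lit 456, nat_lit 480, nat_lit 552, nat_lit 480, nat_lit 456, nat_lit 480, nat_lit 456, nat_lit 480, nat_lit 456, nat_lit 552, nat_lit 264, nat_lit 120, nat_lit 456, nat_lit 480, nat_lit 456, nat_lit 480, nat_lit 456, nat_lit 120, nat_lit 240, nat_lit 504, nat_lit 504, nat_lit 552, nat_lit 456, nat_lit 480, nat_lit 456])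
noncomputable def r259 : WT := (.leaf (nat_lit 139273) [nat_lit 456, nat_lit 168, nat_lit 120, nat_lit 552, nat_lit 456, nat_lit 480, nat_lit 72, nat_lit 456, nat_lit 120, nat_lit 552, nat_lit 456, nat_lit 480, nat_lit 456, nat_lit 552, nat_lit 504, nat_lit 120, nat_lit 456, nat_lit 48])
noncomputable def r260 : WT := (.leaf (nat_lit 140300) [nat_lit 552, nat_lit 480, nat_lit 456, nat_lit 480, nat_lit 456, nat_lit 480, nat_lit 456, nat_lit 552, nat_lit 264, nat_lit 120, nat_lit 456, nat_lit 480, nat_lit 456, nat_lit 480, nat_lit 456, nat_lit 120, nat_lit 240, nat_lit 504, nat_lit 504, nat_lit 552, nat_lit 456, nat_lit 480, nat_lit 456, nat_lit 480, nat_lit 456])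
noncomputable def r261 : WT := (.node (nat_lit 50) (.node (nat_lit 48) r255 (.node (nat_lit 49) (.leaf (nat_lit 137229) [nat_lit 552, nat_lit 528, nat_lit 528, nat_lit 480, nat_lit 120, nat_lit 240, nat_lit 552]) r256)) (.node (nat_lit 52) (.node (nat_lit 51) r257 r258) (.node (nat_lit 53) r259 r260)))
noncomputable def r262 : WT := (.node (nat_lit 33) (.node (nat_lit 30) (.node (nat_lit 28) (.leaf (nat_lit 99328) [nat_lit 120, nat_lit 480, nat_lit 264, nat_lit 336, nat_lit 408]) (.node (nat_lit 29) (.leaf (nat_lit 99335) [nat_lit 120, nat_lit 480, nat_lit 408, nat_lit 336, nat_lit 240]) (.leaf (nat_lit 101376) [nat_lit 192, nat_lit 480, nat_lit 72, nat_lit 120, nat_lit 240, nat_lit 48]))) (.node (nat_lit 31) (.leaf (nat_lit 99339) [nat_lit 408, nat_lit 336, nat_lit 240, nat_lit 480, nat_lit 120]) (.node (nat_lit 32) (.leaf (nat_lit 106496) [nat_lit 384, nat_lit 480, nat_lit 48, nat_lit 336, nat_lit 72, nat_lit 384]) (.leaf (nat_lit 103424) [nat_lit 288, nat_lit 480, nat_lit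 240, nat_lit 288, nat_lit 120])))) (.node (nat_lit 38) (.node (nat_lit 35) (.node (nat_lit 34) (.leaf (nat_lit 106509) [nat_lit 384, nat_lit 48, nat_lit 336, nat_lit 72, nat_lit 480, nat_lit 384]) (.leaf (nat_lit 104457) [nat_lit 288, nat_lit 288, nat_lit 480, nat_lit 336])) (.node (nat_lit 36) (.leaf (nat_lit 106505) [nat_lit 384, nat_lit 480, nat_lit 384, nat_lit 48, nat_lit 336, nat_lit 72]) r250)) (.node (nat_lit 43) (.node (nat_lit 40) r251 r252) (.node (nat_lit 47) r254 r261))))
noncomputable def w18 : WT := (.node (nat_lit 1) (.leaf (nat_lit 13312) [nat_lit 480]) (.node (nat_lit 9) (.node (nat_lit 4) (.node (nat_lit 2) (.leaf (nat_lit 137218) [nat_lit 552, nat_lit 264, nat_lit 120, nat_lit 480, nat_lit 504, nat_lit 504, nat_lit 552]) r242) (.node (nat_lit 6) r243 r244)) (.node (nat_lit 18) (.node (nat_lit 13) r245 r247) (.node (nat_lit 27) r249 r262))))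
noncomputable def r263 : WT := (.leaf (nat_lit 139265) [nat_lit 120, nat_lit 456, nat_lit 48, nat_lit 480, nat_lit 456, nat_lit 168, nat_lit 120, nat_lit 552, nat_lit 456, nat_lit 480, nat_lit 72, nat_lit 456, nat_lit 120, nat_lit 552, nat_lit 456, nat_lit 480, nat_lit 456, nat_lit 552])
noncomputable def r264 : WT := (.node (nat_lit 6) (.leaf (nat_lit 147456) [nat_lit 240, nat_lit 528, nat_lit 264]) (.node (nat_lit 7) (.leaf (nat_lit 155648) [nat_lit 480, nat_lit 528, nat_lit 480]) (.node (nat_lit 8) (.leaf (nat_lit 154624) [nat_lit 456, nat_lit 528, nat_lit 456]) r263)))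
noncomputable def w19 : WT := (.node (nat_lit 1) (.leaf (nat_lit 14336) [nat_lit 528]) (.node (nat_lit 3) (.node (nat_lit 2) (.leaf (nat_lit 146432) [nat_lit 192, nat_lit 528, nat_lit 216]) (.leaf (nat_lit 142336) [nat_lit 48, nat_lit 528, nat_lit 72])) (.node (nat_lit 4) (.leaf (nat_lit 148480) [nat_lit 288, nat_lit 528, nat_lit 312]) (.node (nat_lit 5) (.leaf (nat_lit 145408) [nat_lit 144, nat_lit 528, nat_lit 168]) r264))))
noncomputable def r265 : WT := (.node (nat_lit 9) (.leaf (nat_lit 142340) [nat_lit 72, nat_lit 504, nat_lit 48]) (.leaf (nat_lit 155652) [nat_lit 480, nat_lit 504, nat_lit 480]))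
noncomputable def r266 : WT := (.node (nat_lit 12) (.leaf (nat_lit 148484) [nat_lit 312, nat_lit 504, nat_lit 288]) (.leaf (nat_lit 143364) [nat_lit 96, nat_lit 504, nat_lit 96]))
noncomputable def r267 : WT := (.node (nat_lit 15) (.leaf (nat_lit 145412) [nat_lit 168, nat_lit 504, nat_lit 144]) (.node (nat_lit 16) (.leaf (nat_lit 147460) [nat_lit 264, nat_lit 504, nat_lit 240]) (.leaf (nat_lit 142343) [nat_lit 48, nat_lit 504, nat_lit 72])))
noncomputable def w20 : WT := (.node (nat_lit 5) (.node (nat_lit 2) (.node (nat_lit 1) (.leaf (nat_lit 14338) [nat_lit 504]) (.leaf (nat_lit 156676) [nat_lit 552, nat_lit 504, nat_lit 552])) (.node (nat_lit 3) (.leaf (nat_lit 151556) [nat_lit 384, nat_lit 504, nat_lit 384]) (.node (nat_lit 4) (.leaf (nat_lit 146436) [nat_lit 216, nat_lit 504, nat_lit 192]) (.leaf (nat_lit 144388) [nat_lit 120, nat_lit 504, nat_lit 120])))) (.node (nat_lit 10) (.node (nat_lit 7) (.node (nat_lit 6) (.leaf (nat_lit 152580) [nat_lit 408, nat_lit 504, nat_lit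 408]) (.leaf (nat_lit 153604) [nat_lit 432, nat_lit 504, nat_lit 432])) (.node (nat_lit 8) (.leaf (nat_lit 150532) [nat_lit 360, nat_lit 504, nat_lit 360]) r265)) (.node (nat_lit 13) (.node (nat_lit 11) (.leaf (nat_lit 154628) [nat_lit 456, nat_lit 504, nat_lit 456]) r266) (.node (nat_lit 14) (.leaf (nat_lit 149508) [nat_lit 336, nat_lit 504, nat_lit 336]) r267))))
noncomputable def r268 : WT := (.node (nat_lit 2) (.leaf (nat_lit 126976) [nat_lit 120, nat_lit 552, nat_lit 120]) (.leaf (nat_lit 134144) [nat_lit 384, nat_lit 552, nat_lit 384]))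
noncomputable def r269 : WT := (.node (nat_lit 4) (.leaf (nat_lit 124932) [nat_lit 72, nat_lit 144, nat_lit 216, nat_lit 216, nat_lit 528, nat_lit 552, nat_lit 48]) (.leaf (nat_lit 129028) [nat_lit 360, nat_lit 216, nat_lit 552, nat_lit 192]))
noncomputable def r270 : WT := (.node (nat_lit 6) (.leaf (nat_lit 138244) [nat_lit 456, nat_lit 552, nat_lit 456, nat_lit 504, nat_lit 504, nat_lit 552, nat_lit 456]) (.leaf (nat_lit 133120) [nat_lit 360, nat_lit 552, nat_lit 360]))
noncomputable def r271 : WT := (.node (nat_lit 8) (.leaf (nat_lit 124943) [nat_lit 504, nat_lit 192, nat_lit 192, nat_lit 168, nat_lit 48, nat_lit 552, nat_lit 72]) (.node (nat_lit 9) (.leaf (nat_lit 136192) [nat_lit 432, nat_lit 552, nat_lit 432]) (.leaf (nat_lit 129024) [nat_lit 192, nat_lit 552, nat_lit 360, nat_lit 216])))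
noncomputable def r272 : WT := (.node (nat_lit 11) (.leaf (nat_lit 132096) [nat_lit 336, nat_lit 552, nat_lit 336]) (.node (nat_lit 12) (.leaf (nat_lit 135172) [nat_lit 312, nat_lit 312, nat_lit 552, nat_lit 408]) (.leaf (nat_lit 137220) [nat_lit 264, nat_lit 120, nat_lit 480, nat_lit 504, nat_lit 504, nat_lit 552, nat_lit 480])))
noncomputable def r273 : WT := (.node (nat_lit 15) (.node (nat_lit 14) (.leaf (nat_lit 131076) [nat_lit 312, nat_lit 336, nat_lit 504, nat_lit 504, nat_lit 552, nat_lit 288]) (.leaf (nat_lit 128007) [nat_lit 168, nat_lit 552, nat_lit 528, nat_lit 528, nat_lit 168])) (.node (nat_lit 16) (.leaf (nat_lit 130052) [nat_lit 120, nat_lit 240, nat_lit 120, nat_lit 552, nat_lit 240]) (.leaf (nat_lit 128004) [nat_lit 144, nat_lit 504, nat_lit 504, nat_lit 552, nat_lit 144])))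
noncomputable def r274 : WT := (.node (nat_lit 19) (.node (nat_lit 18) (.leaf (nat_lit 125956) [nat_lit 72, nat_lit 192, nat_lit 72, nat_lit 408, nat_lit 504, nat_lit 504, nat_lit 552, nat_lit 96]) (.leaf (nat_lit 137216) [nat_lit 480, nat_lit 552, nat_lit 264, nat_lit 120, nat_lit 480, nat_lit 504, nat_lit 504])) (.node (nat_lit 20) (.leaf (nat_lit 135173) [nat_lit 408, nat_lit 552, nat_lit 288, nat_lit 288]) (.node (nat_lit 21) (.leaf (nat_lit 130059) [nat_lit 120, nat_lit 264, nat_lit 120, nat_lit 552, nat_lit 264]) (.leaf (nat_lit 135168) [nat_lit 408, nat_lit 552, nat_lit 312, nat_lit 312]))))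
noncomputable def r275 : WT := (.node (nat_lit 31) (.leaf (nat_lit 135177) [nat_lit 288, nat_lit 288, nat_lit 552, nat_lit 408]) (.leaf (nat_lit 137227) [nat_lit 480, nat_lit 552, nat_lit 528, nat_lit 528, nat_lit 480, nat_lit 120, nat_lit 240]))
noncomputable def r276 : WT := (.node (nat_lit 33) (.leaf (nat_lit 131072) [nat_lit 288, nat_lit 552, nat_lit 312, nat_lit 336, nat_lit 504, nat_lit 504]) (.leaf (nat_lit 128000) [nat_lit 144, nat_lit 552, nat_lit 144, nat_lit 504, nat_lit 504]))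
noncomputable def r277 : WT := (.node (nat_lit 35) (.leaf (nat_lit 130055) [nat_lit 264, nat_lit 552, nat_lit 120, nat_lit 264, nat_lit 120]) (.leaf (nat_lit 124939) [nat_lit 72, nat_lit 552, nat_lit 504, nat_lit 192, nat_lit 192, nat_lit 168, nat_lit 48]))
noncomputable def r278 : WT := (.leaf (nat_lit 139272) [nat_lit 120, nat_lit 456, nat_lit 48, nat_lit 480, nat_lit 456, nat_lit 552, nat_lit 120, nat_lit 144, nat_lit 456, nat_lit 480, nat_lit 72, nat_lit 456, nat_lit 120, nat_lit 528, nat_lit 552, nat_lit 456, nat_lit 480, nat_lit 456])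
noncomputable def r279 : WT := (.node (nat_lit 37) r278 (.node (nat_lit 38) (.leaf (nat_lit 131081) [nat_lit 312, nat_lit 552, nat_lit 528, nat_lit 528, nat_lit 336, nat_lit 288]) (.leaf (nat_lit 125965) [nat_lit 96, nat_lit 552, nat_lit 528, nat_lit 528, nat_lit 408, nat_lit 48, nat_lit 216, nat_lit 48])))
noncomputable def r280 : WT := (.leaf (nat_lit 139264) [nat_lit 456, nat_lit 480, nat_lit 456, nat_lit 552, nat_lit 120, nat_lit 456, nat_lit 48, nat_lit 480, nat_lit 456, nat_lit 552, nat_lit 120, nat_lit 144, nat_lit 456, nat_lit 480, nat_lit 72, nat_lit 456, nat_lit 120, nat_lit 528])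
noncomputable def r281 : WT := (.leaf (nat_lit 139281) [nat_lit 456, nat_lit 480, nat_lit 72, nat_lit 456, nat_lit 120, nat_lit 552, nat_lit 456, nat_lit 480, nat_lit 456, nat_lit 552, nat_lit 504, nat_lit 120, nat_lit 456, nat_lit 48, nat_lit 480, nat_lit 456, nat_lit 168, nat_lit 120])
noncomputable def r282 : WT := (.leaf (nat_lit 139284) [nat_lit 120, nat_lit 144, nat_lit 456, nat_lit 480, nat_lit 72, nat_lit 456, nat_lit 120, nat_lit 528, nat_lit 552, nat_lit 456, nat_lit 480, nat_lit 456, nat_lit 552, nat_lit 120, nat_lit 456, nat_lit 48, nat_lit 480, nat_lit 456])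
noncomputable def r283 : WT := (.leaf (nat_lit 140288) [nat_lit 456, nat_lit 480, nat_lit 456, nat_lit 480, nat_lit 456, nat_lit 480, nat_lit 552, nat_lit 480, nat_lit 456, nat_lit 480, nat_lit 456, nat_lit 480, nat_lit 456, nat_lit 552, nat_lit 264, nat_lit 120, nat_lit 456, nat_lit 480, nat_lit 456, nat_lit 480, nat_lit 456, nat_lit 120, nat_lit 240, nat_lit 504, nat_lit 504])
noncomputable def r284 : WT := (.leaf (nat_lit 140302) [nat_lit 480, nat_lit 456, nat_lit 480, nat_lit 456, nat_lit 480, nat_lit 456, nat_lit 552, nat_lit 264, nat_lit 120, nat_lit 456, nat_lit 480, nat_lit 456, nat_lit 480, nat_lit 456, nat_lit 120, nat_lit 240, nat_lit 504, nat_lit 504, nat_lit 552, nat_lit 456, nat_lit 480, nat_lit 456, nat_lit 480, nat_lit 456, nat_lit 480])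
noncomputable def r285 : WT := (.node (nat_lit 41) (.node (nat_lit 40) (.leaf (nat_lit 138240) [nat_lit 456, nat_lit 552, nat_lit 456, nat_lit 552, nat_lit 456, nat_lit 504, nat_lit 504]) r280) (.node (nat_lit 43) (.node (nat_lit 42) r281 (.leaf (nat_lit 137231) [nat_lit 528, nat_lit 528, nat_lit 480, nat_lit 120, nat_lit 240, nat_lit 552, nat_lit 480])) (.node (nat_lit 44) r282 (.node (nat_lit 45) r283 r284))))
noncomputable def r286 : WT := (.node (nat_lit 27) (.node (nat_lit 24) (.node (nat_lit 23) (.leaf (nat_lit 129033) [nat_lit 192, nat_lit 360, nat_lit 552, nat_lit 216]) (.leaf (nat_lit 131085) [nat_lit 528, nat_lit 528, nat_lit 336, nat_lit 288, nat_lit 552, nat_lit 312])) (.node (nat_lit 25) (.leaf (nat_lit 130048) [nat_lit 240, nat_lit 552, nat_lit 120, nat_lit 240, nat_lit 120]) (.node (nat_lit 26) (.leaf (nat_lit 129029) [nat_lit 216, nat_lit 552, nat_lit 192, nat_lit 360]) (.leaf (nat_lit 125969) [nat_lit 528, nat_lit 528, nat_lit 408, nat_lit 48, nat_lit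 216, nat_lit 48, nat_lit 552, nat_lit 96])))) (.node (nat_lit 32) (.node (nat_lit 29) (.node (nat_lit 28) (.leaf (nat_lit 124928) [nat_lit 48, nat_lit 552, nat_lit 72, nat_lit 144, nat_lit 216, nat_lit 216, nat_lit 528]) (.leaf (nat_lit 125952) [nat_lit 96, nat_lit 552, nat_lit 72, nat_lit 192, nat_lit 72, nat_lit 408, nat_lit 504, nat_lit 504])) (.node (nat_lit 30) (.leaf (nat_lit 128011) [nat_lit 528, nat_lit 528, nat_lit 168, nat_lit 552, nat_lit 168]) r275)) (.node (nat_lit 36) (.node (nat_lit 34) r276 r277) (.node (nat_lit 39) r279 r285))))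
noncomputable def w21 : WT := (.node (nat_lit 1) (.leaf (nat_lit 15360) [nat_lit 552]) (.node (nat_lit 10) (.node (nat_lit 5) (.node (nat_lit 3) r268 r269) (.node (nat_lit 7) r270 r271)) (.node (nat_lit 17) (.node (nat_lit 13) r272 r273) (.node (nat_lit 22) r274 r286))))
noncomputable def wP : WT := (.node (nat_lit 2) (.node (nat_lit 1) (.leaf (nat_lit 112640) [nat_lit 456, nat_lit 192, nat_lit 456, nat_lit 336, nat_lit 96, nat_lit 216]) (.leaf (nat_lit 21506) [nat_lit 144, nat_lit 144, nat_lit 336])) (.node (nat_lit 3) (.leaf (nat_lit 117760) [nat_lit 456, nat_lit 384, nat_lit 456, nat_lit 384]) (.leaf (nat_lit 32777) [nat_lit 312, nat_lit 48, nat_lit 288, nat_lit 360, nat_lit 72])))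
noncomputable def P : Par := ⟨tb, nat_lit 576, nat_lit 0xffffffffffffffffffffffffffffffffffffffffffffffffffffffffffffffffffffffffffffffffffffffffffffffffffffffffffffffffffffffffffffffffffffffffffffffff, nat_lit 4151, nat_lit 16777215, nat_lit 8191, nat_lit 24, nat_lit 13, nat_lit 4060,
  [nat_lit 48, nat_lit 72, nat_lit 96, nat_lit 120, nat_lit 144, nat_lit 168, nat_lit 192, nat_lit 216, nat_lit 240, nat_lit 264, nat_lit 288, nat_lit 312, nat_lit 336, nat_lit 360, nat_lit 384, nat_lit 408, nat_lit 432, nat_lit 456, nat_lit 480, nat_lit 504, nat_lit 528, nat_lit 552], [nat_lit 48, nat_lit 96, nat_lit 120, nat_lit 144, nat_lit 192, nat_lit 240, nat_lit 288, nat_lit 336, nat_lit 360, nat_lit 384, nat_lit 408, nat_lit 432, nat_lit 456, nat_lit 480, nat_lit 504], wP,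
  (.cons (nat_lit 48) w0 (.cons (nat_lit 72) w1 (.cons (nat_lit 96) w2 (.cons (nat_lit 120) w3 (.cons (nat_lit 144) w4 (.cons (nat_lit 168) w5 (.cons (nat_lit 192) w6 (.cons (nat_lit 216) w7 (.cons (nat_lit 240) w8 (.cons (nat_lit 264) w9 (.cons (nat_lit 288) w10 (.cons (nat_lit 312) w11 (.cons (nat_lit 336) w12 (.cons (nat_lit 360) w13 (.cons (nat_lit 384) w14 (.cons (nat_lit 408) w15 (.cons (nat_lit 432) w16 (.cons (nat_lit 456) w17 (.cons (nat_lit 480) w18 (.cons (nat_lit 504) w19 (.cons (nat_lit 528) w20 (.cons (nat_lit 552) w21 .nil)))))))))))))))))))))),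
  .nil⟩

end Cfsg.Agent.Lib.RuTc
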