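import Cfsg.Agent.Lib.Triangle
import Cfsg.Agent.Lib.LinearOrders

/-! Recognition of `SL₂(3)` from generators and relations. -/

set_option autoImplicit false
set_option linter.style.haveILetI false

namespace Cfsg.Agent.Lib.SL23

open Subgroup Matrix
open scoped MatrixGroups commutatorElement

/-- element of order four -/
def I : SL(2, ZMod 3) := ⟨!![0, 2; 1, 0], by decide⟩
/-- element of order three -/
def Y : SL(2, ZMod 3) := ⟨!![1, 1; 0, 1], by decide⟩

theorem I_sq : I ^ 2 = -1 := by decide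
theorem Y_cube : Y ^ 3 = 1 := by decide
theorem IY_cube : (I * Y) ^ 3 = -1 := by decide

theorem word : ∀ g : SL(2, ZMod 3), ∃ a : Fin 4, ∃ b : Fin 2, ∃ c : Fin 3,
    g = I ^ (a : ℕ) * (Y * I * Y ^ 2) ^ (b : ℕ) * Y ^ (c : ℕ) := by decide +kernel

theorem cases : ∀ g : SL(2, ZMod 3), g = 1 ∨ g = -1 ∨ g ^ 2 = -1 ∨ g ^ 3 = -1 ∨
    (g * (I * g ^ 2 * I ^ 3)) ^ 2 = -1 := by decide +kernel

theorem closure_eq : Subgroup.closure ({I, Y} : Set SL(2, ZMod 3)) = ⊤ := by
  rw [eq_top_iff]
  intro g _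
  obtain ⟨a, b, c, rfl⟩ := word g
  have h1 : I ∈ Subgroup.closure ({I, Y} : Set SL(2, ZMod 3)) := subset_closure (by simp)
  have h2 : Y ∈ Subgroup.closure ({I, Y} : Set SL(2, ZMod 3)) := subset_closure (by simp)
  exact mul_mem (mul_mem (pow_mem h1 _) (pow_mem (mul_mem (mul_mem h2 h1) (pow_mem h2 _)) _))
    (pow_mem h2 _)

theorem card_SL23 : Nat.card SL(2, ZMod 3) = 24 :=
  LinearOrders.card_SL2 (F := ZMod 3) (q := 3) (ZMod.card 3)

variable {G : Type*} [Group G]

theorem card_le {i y z : G} (hz : z ∈ center G) (hz2 : z ^ 2 = 1) (hi : i ^ 2 = z)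
    (hy : y ^ 3 = 1) (hiy : (i * y) ^ 3 = z) :
    Finite (closure ({i, y} : Set G)) ∧ Nat.card (closure ({i, y} : Set G)) ≤ 24 := by
  haveI : (zpowers z).Normal := ⟨fun x hx g => by
    rw [mem_center_iff.1 (zpowers_le.2 hz hx) g]; simpa using hx⟩
  let q := QuotientGroup.mk' (zpowers z)
  have hq : q z = 1 := (QuotientGroup.eq_one_iff _).2 (mem_zpowers z)
  obtain ⟨h1, h2⟩ := Triangle.card_le3 (q i) (q y) (by rw [← map_pow, hi, hq])
    (by rw [← map_pow, hy, map_one]) (by rw [← map_mul, ← map_pow, hiy, hq])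
  have hfo : IsOfFinOrder z := isOfFinOrder_iff_pow_eq_one.2 ⟨2, by norm_num, hz2⟩
  haveI : Finite (zpowers z) := finite_zpowers.2 hfo
  have h3 : Nat.card (zpowers z) ≤ 2 := by
    rw [Nat.card_zpowers]; exact orderOf_le_of_pow_eq_one (by norm_num) hz2
  have hle : closure ({i, y} : Set G) ≤ (closure ({q i, q y} : Set _)).comap q := by
    rw [closure_le]
    rintro _ (rfl | rfl)
    · exact subset_closure (by simp)
    · exact subset_closure (by simp)
  have e := QuotientGroup.preimageMkEquivSubgroupProdSet (zpowers z)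
    (closure ({q i, q y} : Set _) : Set (G ⧸ zpowers z))
  haveI : Finite ((closure ({q i, q y} : Set _)).comap q) := Finite.of_equiv _ e.symm
  have h4 : Nat.card ((closure ({q i, q y} : Set _)).comap q) ≤ 24 := by
    refine (Nat.card_congr e).trans_le ?_
    rw [Nat.card_prod]
    exact Nat.mul_le_mul h3 h2
  exact ⟨Finite.of_injective _ (inclusion_injective hle),
    (Nat.card_le_card_of_injective _ (inclusion_injective hle)).trans h4⟩

theorem exists_hom {i y z : G} (hz : z ∈ center G) (hz2 : z ^ 2 = 1) (hz1 : z ≠ 1) (hi : i ^ 2 = z)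
    (hy : y ^ 3 = 1) (hiy : (i * y) ^ 3 = z) :
    ∃ f : SL(2, ZMod 3) →* G, Function.Injective f ∧ f I = i ∧ f Y = y := by
  obtain ⟨f, h1, h2⟩ := Triangle.exists_hom I Y closure_eq i y (by
    rw [card_SL23]
    refine card_le (z := (-1, z)) ?_ (Prod.ext (by simp) hz2) (Prod.ext I_sq hi)
      (Prod.ext Y_cube hy) (Prod.ext IY_cube hiy)
    exact mem_center_iff.2 fun g => Prod.ext (by simp) (mem_center_iff.1 hz g.2))
  refine ⟨f, (injective_iff_map_eq_one f).2 fun g hg => ?_, h1, h2⟩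
  have hm : f (-1) ≠ 1 := by rw [← I_sq, map_pow, h1, hi]; exact hz1
  rcases cases g with h | h | h | h | h
  · exact h
  · exact absurd (h ▸ hg) hm
  · exact absurd (by rw [← h, map_pow, hg, one_pow]) hm
  · exact absurd (by rw [← h, map_pow, hg, one_pow]) hm
  · refine absurd ?_ hm
    rw [← h, map_pow, map_mul, map_mul, map_mul, map_pow, hg, one_pow, one_mul, mul_one,
      ← map_mul, ← pow_succ', show I ^ (3 + 1) = 1 by decide, map_one, one_pow]

end Cfsg.Agent.Lib.SL23
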