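import Cfsg.Agent.Lib.SL2Amb
import Cfsg.Agent.Lib.SL2Nat

/-! Modules for `SL₂(F)` on which the unipotent subgroup acts quadratically. -/

set_option autoImplicit false

namespace Cfsg.Agent.Lib.SL2Quad

open Cfsg Cfsg.Agent.Lib.SL2Nat Subgroup Matrix
open scoped MatrixGroups

section Mat

variable {F : Type*} [Field F]

theorem induction (P : SL(2, F) → Prop) (h₀ : ∀ t, P (xu t)) (h₁ : ∀ t, P (xl t))
    (hmul : ∀ A B, P A → P B → P (A * B)) (A : SL(2, F)) : P A := by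
  refine SL2Mod.sl2_induction P (fun c => ?_) (fun c => ?_) hmul A
  · convert h₀ c
    apply sl_ext <;> simp [SpecialLinearGroup.transvection, Matrix.transvection]
  · convert h₁ c
    apply sl_ext <;> simp [SpecialLinearGroup.transvection, Matrix.transvection]

theorem xu_mul_dg (s t : F) (ht : t ≠ 0) : xu s * dg t ht = dg t ht * xu (s / t ^ 2) := by
  apply sl_ext <;> simp [SL2Nat.mul_apply'] <;> field_simp

theorem xl_mul_dg (s t : F) (ht : t ≠ 0) : xl s * dg t ht = dg t ht * xl (s * t ^ 2) := by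
  apply sl_ext <;> simp [SL2Nat.mul_apply'] <;> field_simp

theorem xl_mul_wy (s : F) : xl s * wy = wy * xu (-s) := by
  apply sl_ext <;> simp [SL2Nat.mul_apply']

theorem xl_mul_wy_inv (s : F) : xl s * wy⁻¹ = wy⁻¹ * xu (-s) := by
  apply sl_ext <;> simp [SL2Nat.mul_apply', inv_val]

theorem xu_mul_wy (s : F) : xu s * wy = wy * xl (-s) := by
  apply sl_ext <;> simp [SL2Nat.mul_apply']

theorem dg_mul_dg (s t : F) (hs : s ≠ 0) (ht : t ≠ 0) :
    dg s hs * dg t ht = dg (s * t) (mul_ne_zero hs ht) := by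
  apply sl_ext <;> simp [SL2Nat.mul_apply', mul_comm]

theorem dg_one : dg (1 : F) one_ne_zero = 1 := by
  apply sl_ext <;> simp

theorem dg_inv (t : F) (ht : t ≠ 0) : (dg t ht)⁻¹ = dg t⁻¹ (inv_ne_zero ht) := by
  apply sl_ext <;> simp [inv_val]

theorem wy_inv_mul_dg (t : F) (ht : t ≠ 0) : wy⁻¹ * dg t ht = dg t⁻¹ (inv_ne_zero ht) * wy⁻¹ := by
  apply sl_ext <;> simp [SL2Nat.mul_apply', inv_val]

theorem wy_mul_dg (t : F) (ht : t ≠ 0) : wy * dg t ht = dg t⁻¹ (inv_ne_zero ht) * wy := by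
  apply sl_ext <;> simp [SL2Nat.mul_apply']

theorem wy_eq : (wy : SL(2, F)) = wy⁻¹ * dg (-1) (neg_ne_zero.mpr one_ne_zero) := by
  apply sl_ext <;> simp [SL2Nat.mul_apply', inv_val]

theorem key_rel (t : F) (ht : t ≠ 0) :
    dg t ht * wy * xu (-t) * wy⁻¹ = xu t * wy⁻¹ * xu t⁻¹ := by
  apply sl_ext <;> simp [SL2Nat.mul_apply', inv_val, ht]

theorem xl_eq (t : F) : xl t = wy * xu (-t) * wy⁻¹ := by rw [wy_xu, neg_neg]

theorem xu_smul (t : F) (c : Fin 2 → F) : xu t • c = ![c 0 + t * c 1, c 1] := by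
  change (xu t).1 *ᵥ c = _
  rw [mulVec_eq]; simp

theorem wy_smul (c : Fin 2 → F) : (wy : SL(2, F)) • c = ![c 1, -c 0] := by
  change (wy : SL(2, F)).1 *ᵥ c = _
  rw [mulVec_eq]; simp

theorem exists_smul_eq {c : Fin 2 → F} (hc : c ≠ 0) : ∃ g : SL(2, F), g • c = ![1, 0] := by
  by_cases h : c 1 = 0
  · have h0 : c 0 ≠ 0 := fun h0 => hc (by ext i; fin_cases i <;> simp [h, h0])
    refine ⟨dg (c 0)⁻¹ (inv_ne_zero h0), ?_⟩
    change (dg _ _).1 *ᵥ c = _
    rw [mulVec_eq]; simp [h, h0]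
  · refine ⟨⟨!![0, (c 1)⁻¹; -c 1, c 0], by simp [det_fin_two, h]⟩, ?_⟩
    change (!![0, (c 1)⁻¹; -c 1, c 0]) *ᵥ c = _
    ext i; fin_cases i <;> simp [mulVec, dotProduct, Fin.sum_univ_two, h, mul_comm]

end Mat

section Theta

variable {F : Type*} [Field F] {k : Type*} [Field k] {V : Type*} [AddCommGroup V] [Module k V]
variable (ρ : Representation k SL(2, F) V)

open FFRep

/-- Fixed by the upper unipotent matrices. -/
def P₀ (v : V) : Prop := ∀ t, ρ (xu t) v = v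

/-- Fixed by the lower unipotent matrices. -/
def P₁ (v : V) : Prop := ∀ t, ρ (xl t) v = v

/-- The action of the scalar `t` on the fixed space of the upper unipotent matrices. -/
def sc (t : F) : V →+ V where
  toFun v := ρ (xu t) (ρ wy⁻¹ v) - ρ wy⁻¹ v
  map_zero' := by simp
  map_add' v w := by simp only [map_add]; abel

theorem sc_apply (t : F) (v : V) : sc ρ t v = ρ (xu t) (ρ wy⁻¹ v) - ρ wy⁻¹ v := rfl

/-- The vectors that generate a natural module. -/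
def Z (v : V) : Prop := P₀ ρ v ∧ ∀ t, P₀ ρ (sc ρ t v)

variable {ρ}

theorem P₀.dg {v : V} (h : P₀ ρ v) (t : F) (ht : t ≠ 0) : P₀ ρ (ρ (dg t ht) v) := fun s => by
  rw [← act_mul, xu_mul_dg, act_mul, h]

theorem P₁.dg {v : V} (h : P₁ ρ v) (t : F) (ht : t ≠ 0) : P₁ ρ (ρ (dg t ht) v) := fun s => by
  rw [← act_mul, xl_mul_dg, act_mul, h]

theorem P₀.wy {v : V} (h : P₀ ρ v) : P₁ ρ (ρ wy v) := fun s => by
  rw [← act_mul, xl_mul_wy, act_mul, h]

theorem P₀.wy_inv {v : V} (h : P₀ ρ v) : P₁ ρ (ρ SL2Nat.wy⁻¹ v) := fun s => by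
  rw [← act_mul, xl_mul_wy_inv, act_mul, h]

theorem P₁.wy {v : V} (h : P₁ ρ v) : P₀ ρ (ρ wy v) := fun s => by
  rw [← act_mul, xu_mul_wy, act_mul, h]

theorem P₀.sub {v w : V} (h : P₀ ρ v) (h' : P₀ ρ w) : P₀ ρ (v - w) := fun s => by
  rw [map_sub, h, h']

theorem P₁.sub {v w : V} (h : P₁ ρ v) (h' : P₁ ρ w) : P₁ ρ (v - w) := fun s => by
  rw [map_sub, h, h']

theorem P₁.neg {v : V} (h : P₁ ρ v) : P₁ ρ (-v) := fun s => by
  rw [map_neg, h]

theorem fixed_of {v : V} (h₀ : P₀ ρ v) (h₁ : P₁ ρ v) (g : SL(2, F)) : ρ g v = v :=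
  induction (fun g => ρ g v = v) h₀ h₁ (fun A B hA hB => by rw [act_mul, hB, hA]) g

theorem sc_zero (v : V) : sc ρ 0 v = 0 := by
  rw [sc_apply, xu_zero, act_one, sub_self]

theorem Z.sc_add {v : V} (h : Z ρ v) (s t : F) : sc ρ (s + t) v = sc ρ s v + sc ρ t v := by
  have := h.2 t s
  rw [sc_apply, map_sub] at this
  rw [sc_apply, sc_apply, sc_apply, xu_add, act_mul]
  linear_combination (norm := abel) this

variable (h0 : ∀ v, (∀ g, ρ g v = v) → v = 0)
include h0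

theorem Z.sc_eq {v : V} (h : Z ρ v) (t : F) (ht : t ≠ 0) : sc ρ t v = ρ (dg t ht) v := by
  have e : ρ (dg t ht) (ρ wy (ρ (xu (-t)) (ρ wy⁻¹ v))) = ρ (xu t) (ρ wy⁻¹ v) := by
    conv_rhs => rw [← h.1 t⁻¹]
    simp only [← act_mul, ← mul_assoc]
    rw [key_rel]
  have e2 : sc ρ t v - ρ (dg t ht) v = ρ (dg t ht) (ρ wy (sc ρ (-t) v)) - ρ wy⁻¹ v := by
    rw [sc_apply, sc_apply, map_sub, map_sub, e, act_act_inv]; abel
  rw [← sub_eq_zero]
  refine h0 _ (fixed_of ((h.2 t).sub (h.1.dg t ht)) ?_)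
  rw [e2]
  exact ((h.2 (-t)).wy.dg t ht).sub h.1.wy_inv

omit h0 in
theorem Z.dg {v : V} (h : Z ρ v) (t : F) (ht : t ≠ 0) : Z ρ (ρ (dg t ht) v) := by
  refine ⟨h.1.dg t ht, fun s => ?_⟩
  have : sc ρ s (ρ (SL2Nat.dg t ht) v) = ρ (SL2Nat.dg t⁻¹ (inv_ne_zero ht)) (sc ρ (s / t⁻¹ ^ 2) v) := by
    rw [sc_apply, sc_apply, map_sub, ← act_mul ρ wy⁻¹, wy_inv_mul_dg, act_mul, ← act_mul ρ (xu s), xu_mul_dg,
      act_mul]
  rw [this]
  exact (h.2 _).dg _ _

theorem Z.sc_mul {v : V} (h : Z ρ v) (s t : F) : sc ρ s (sc ρ t v) = sc ρ (s * t) v := by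
  rcases eq_or_ne t 0 with rfl | ht
  · rw [mul_zero, sc_zero, map_zero]
  rcases eq_or_ne s 0 with rfl | hs
  · rw [zero_mul, sc_zero, sc_zero]
  rw [h.sc_eq h0 t ht, (h.dg t ht).sc_eq h0 s hs, h.sc_eq h0 _ (mul_ne_zero hs ht), ← act_mul, dg_mul_dg]

theorem Z.sc_one {v : V} (h : Z ρ v) : sc ρ 1 v = v := by
  rw [h.sc_eq h0 1 one_ne_zero, dg_one, act_one]

omit h0 in
/-- The natural module generated by `v`. -/
def Z.theta {v : V} (h : Z ρ v) : (Fin 2 → F) →+ V :=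
  AddMonoidHom.mk' (fun c => sc ρ (c 0) v + ρ wy⁻¹ (sc ρ (c 1) v)) fun c d => by
    simp only [Pi.add_apply, h.sc_add, map_add]; abel

omit h0 in
theorem Z.theta_apply {v : V} (h : Z ρ v) (c : Fin 2 → F) :
    h.theta c = sc ρ (c 0) v + ρ wy⁻¹ (sc ρ (c 1) v) := rfl

theorem Z.theta_one {v : V} (h : Z ρ v) : h.theta ![1, 0] = v := by
  simp [h.theta_apply, sc_zero, h.sc_one h0]

theorem Z.theta_smul {v : V} (h : Z ρ v) (g : SL(2, F)) (c : Fin 2 → F) :
    h.theta (g • c) = ρ g (h.theta c) := by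
  have hu : ∀ t c, h.theta (xu t • c) = ρ (xu t) (h.theta c) := fun t c => by
    rw [xu_smul, h.theta_apply, h.theta_apply, map_add, h.2]
    simp only [cons_val_zero, cons_val_one, cons_val_fin_one, h.sc_add, ← h.sc_mul h0]
    rw [sc_apply ρ t]; abel
  have hw : ∀ c, h.theta ((wy : SL(2, F)) • c) = ρ wy (h.theta c) := fun c => by
    rw [wy_smul, h.theta_apply, h.theta_apply, map_add, act_act_inv, add_comm]
    simp only [cons_val_zero, cons_val_one, cons_val_fin_one]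
    congr 1
    rcases eq_or_ne (c 0) 0 with e | e
    · rw [e, neg_zero, sc_zero, map_zero, map_zero]
    · conv_rhs => rw [wy_eq]
      rw [act_mul, h.sc_eq h0 _ e, h.sc_eq h0 _ (neg_ne_zero.mpr e), ← act_mul ρ (SL2Nat.dg _ _), dg_mul_dg]
      simp only [neg_mul, one_mul]
  have hw' : ∀ c, h.theta ((wy : SL(2, F))⁻¹ • c) = ρ wy⁻¹ (h.theta c) := fun c => by
    have := hw ((wy : SL(2, F))⁻¹ • c)
    rw [smul_inv_smul] at this
    rw [this, act_inv_act]
  revert c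
  refine induction (fun g => ∀ c, h.theta (g • c) = ρ g (h.theta c)) hu (fun t c => ?_)
    (fun A B hA hB c => by rw [mul_smul, hA, hB, act_mul]) g
  rw [xl_eq, mul_smul, mul_smul, hw, hu, hw', act_mul, act_mul]

theorem Z.eq_zero_of_mem {v : V} (h : Z ρ v) {W : Submodule k V} (hW : ∀ g, ∀ w ∈ W, ρ g w ∈ W)
    (hv : v ∉ W) {c : Fin 2 → F} (hc : h.theta c ∈ W) : c = 0 := by
  by_contra e
  obtain ⟨g, hg⟩ := exists_smul_eq e
  apply hv
  rw [← h.theta_one h0, ← hg, h.theta_smul h0]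
  exact hW g _ hc

theorem Z.theta_injective {v : V} (h : Z ρ v) (hv : v ≠ 0) : Function.Injective h.theta := by
  rw [injective_iff_map_eq_zero]
  intro c hc
  refine h.eq_zero_of_mem h0 (W := ⊥) (fun g w hw => ?_) (by simpa using hv) (by simpa using hc)
  rw [Submodule.mem_bot] at hw ⊢
  rw [hw, map_zero]

end Theta

section Prime

variable {F : Type*} [Field F] {p : ℕ} [hp : Fact p.Prime] {V : Type*} [AddCommGroup V] [Module (ZMod p) V]
variable {ρ : Representation (ZMod p) SL(2, F) V}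

open FFRep PCoreConj

/-- The natural module generated by `v`, as a submodule. -/
def Z.sub {v : V} (h : Z ρ v) : Submodule (ZMod p) V := AddSubgroup.toZModSubmodule p h.theta.range

theorem Z.mem_sub {v : V} (h : Z ρ v) {w : V} : w ∈ h.sub ↔ ∃ c, h.theta c = w := Iff.rfl

theorem mem_fix_U {v : V} : v ∈ fix ρ (U F) ↔ P₀ ρ v :=
  ⟨fun h t => h _ (xu_mem t), fun h a ha => by obtain ⟨t, rfl⟩ := mem_U.mp ha; exact h t⟩

theorem mem_tr_fix_U {v : V} : v ∈ tr ρ wy (fix ρ (U F)) ↔ P₁ ρ v := by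
  rw [mem_tr, mem_fix_U]
  refine ⟨fun h => by simpa using h.wy, fun h t => ?_⟩
  have := h (-t)
  rw [xl_eq, neg_neg, act_mul, act_mul] at this
  rw [eq_comm, act_inv_eq, this]

variable (h0 : ∀ v, (∀ g, ρ g v = v) → v = 0)
include h0

theorem Z.act_mem_sub {v : V} (h : Z ρ v) (g : SL(2, F)) {w : V} (hw : w ∈ h.sub) : ρ g w ∈ h.sub := by
  obtain ⟨c, rfl⟩ := h.mem_sub.mp hw
  exact h.mem_sub.mpr ⟨g • c, h.theta_smul h0 g c⟩

theorem Z.self_mem_sub {v : V} (h : Z ρ v) : v ∈ h.sub := h.mem_sub.mpr ⟨_, h.theta_one h0⟩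

theorem exists_Z [Finite V] [CharP F p] [Nontrivial V]
    (hyp : com ρ (com ρ ⊤ (U F)) (U F) = ⊥ ∨ Nat.card V ≤ Nat.card (fix ρ (U F)) ^ 2) :
    ∃ v, v ≠ 0 ∧ Z ρ v := by
  rcases hyp with hq | hc
  · obtain ⟨v, -, hv, hv'⟩ := exists_mem_fix (ρ := ρ) (U_isPGroup (F := F) p) (W := ⊤) le_stab_top top_ne_bot
    refine ⟨v, hv, mem_fix_U.mp hv', fun t => mem_fix_U.mp ?_⟩
    exact com_eq_bot_iff.mp hq (sub_mem_com Submodule.mem_top (xu_mem t))
  · have hi : fix ρ (U F) ⊓ tr ρ wy (fix ρ (U F)) = ⊥ := by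
      rw [eq_bot_iff]
      intro v hv
      exact h0 v (fixed_of (mem_fix_U.mp hv.1) (mem_tr_fix_U.mp hv.2))
    have hs : fix ρ (U F) ⊔ tr ρ wy (fix ρ (U F)) = ⊤ := by
      refine eq_of_le_of_card_ge le_top ?_
      have := card_sup_mul_card_inf' (fix ρ (U F)) (tr ρ wy (fix ρ (U F)))
      rw [hi, card_tr, Nat.card_unique (α := (⊥ : Submodule (ZMod p) V)), mul_one] at this
      rw [card_top_submodule, this, ← sq]
      exact hc
    have hn : ¬ ⊤ ≤ fix ρ (U F) := fun e => by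
      rw [top_le_iff.mp e, tr_top, inf_idem] at hi
      exact top_ne_bot hi
    obtain ⟨y, -, hy, hy'⟩ := exists_mem_relFix (ρ := ρ) (U_isPGroup (F := F) p) le_stab_top
      (le_stab_of_le_fix le_rfl) hn
    obtain ⟨a, ha, b, hb, rfl⟩ := Submodule.mem_sup.mp (hs ▸ Submodule.mem_top : y ∈ _ ⊔ _)
    refine ⟨ρ wy b, fun e => hy ?_, (mem_tr_fix_U.mp hb).wy, fun t => mem_fix_U.mp ?_⟩
    · rw [act_eq_zero] at e
      rwa [e, add_zero]
    · have := mem_relFix.mp hy' _ (xu_mem t)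
      rw [map_add, mem_fix_U.mp ha t, add_sub_add_left_eq_sub] at this
      rwa [sc_apply, act_inv_act]

theorem exists_decomp [Finite V] (hq : ∀ v t, P₀ ρ (ρ (xu t) v - v))
    (hs : ∀ v, ∃ a b, P₀ ρ a ∧ P₁ ρ b ∧ v = a + b) :
    ∃ s : Finset (Submodule (ZMod p) V), (∀ W ∈ s, ∃ (v : V) (h : Z ρ v), v ≠ 0 ∧ W = h.sub) ∧
      s.SupIndep id ∧ s.sup id = ⊤ := by
  classical
  have : Finite (Submodule (ZMod p) V) := Finite.of_injective _ SetLike.coe_injective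
  obtain ⟨s, hs'⟩ := Set.Finite.exists_maximal (Set.toFinite {s : Finset (Submodule (ZMod p) V) |
    (∀ W ∈ s, ∃ (v : V) (h : Z ρ v), v ≠ 0 ∧ W = h.sub) ∧ s.SupIndep id}) ⟨∅, by simp⟩
  refine ⟨s, hs'.prop.1, hs'.prop.2, ?_⟩
  have hinv : ∀ g, ∀ w ∈ s.sup id, ρ g w ∈ s.sup id := fun g => by
    have : ⊤ ≤ stab ρ (s.sup id) := by
      rw [Finset.sup_eq_iSup]
      refine le_stab_iSup fun W => le_stab_iSup fun hW => ?_
      obtain ⟨v, h, -, rfl⟩ := hs'.prop.1 W hW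
      exact le_stab_iff.mpr fun g _ w hw => h.act_mem_sub h0 g hw
    exact le_stab_iff.mp this g (mem_top g)
  have h₀ : ∀ v, P₀ ρ v → v ∈ s.sup id := fun v hv => by
    by_contra hn
    have h : Z ρ v := ⟨hv, fun t => hq _ t⟩
    have hd : Disjoint (id h.sub) (s.sup id) := by
      rw [Submodule.disjoint_def]
      intro w hw hw'
      obtain ⟨c, rfl⟩ := h.mem_sub.mp hw
      rw [h.eq_zero_of_mem h0 hinv hn hw', map_zero]
    have h1 := hs'.le_of_ge (y := insert h.sub s) ⟨fun W hW => ?_, hs'.prop.2.insert hd⟩ (Finset.subset_insert _ _)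
    · exact hn (Finset.le_sup (f := id) (h1 (Finset.mem_insert_self _ _)) (h.self_mem_sub h0))
    · rcases Finset.mem_insert.mp hW with rfl | hW
      · exact ⟨v, h, fun e => hn (e ▸ zero_mem _), rfl⟩
      · exact hs'.prop.1 W hW
  rw [eq_top_iff]
  intro v _
  obtain ⟨a, b, ha, hb, rfl⟩ := hs v
  refine add_mem (h₀ a ha) ?_
  have := hinv wy⁻¹ _ (h₀ _ hb.wy)
  rwa [act_inv_act] at this

end Prime

section Amb

variable {G : Type*} [Group G] {p : ℕ} [hp : Fact p.Prime] {V : Subgroup G}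

open EMod

theorem actsAs_of_theta (h : IsElementaryAbelian p V) {E : Subgroup G} {F : Type*} [Field F]
    (θ : (Fin 2 → F) →+ EM h) (hθ : Function.Injective θ) (π : E →* SL(2, F))
    (hπ : ∀ (e : E) c, (θ (π e • c)).val = e * (θ c).val * (e : G)⁻¹) {W : Submodule (ZMod p) (EM h)}
    (hW : ∀ w, w ∈ W ↔ ∃ c, θ c = w) : ActsAsSL2OnSection F π.range E (toSub W) ⊥ := by
  have hex : ∀ u : toSub W, ∃ c, (θ c).val = u := fun u => by
    obtain ⟨v, hv, e⟩ := mem_toSub.mp u.2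
    obtain ⟨c, rfl⟩ := (hW v).mp hv
    exact ⟨c, e⟩
  choose ψ hψ using hex
  have hmem : ∀ c, (θ c).val ∈ toSub W := fun c => val_mem_toSub.mpr ((hW _).mpr ⟨c, rfl⟩)
  have hu : ∀ (u : toSub W) c, (θ c).val = u → ψ u = c := fun u c e =>
    hθ (val_injective ((hψ u).trans e.symm))
  have hconj : ∀ (e : E) (u : G), u ∈ toSub W → e * u * (e : G)⁻¹ ∈ toSub W := fun e u hu' => by
    rw [← show (θ (ψ ⟨u, hu'⟩)).val = u from hψ ⟨u, hu'⟩, ← hπ]
    exact hmem _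
  refine ⟨fun x hx => ?_, bot_le, π, MonoidHom.mk' (fun u => Multiplicative.ofAdd (ψ u)) fun u u' => ?_, rfl,
    fun c => ⟨⟨_, hmem c.toAdd⟩, ?_⟩, fun u => ?_, fun e u => ⟨⟨_, hconj e u u.2⟩, rfl, ?_⟩⟩
  · refine mem_normalizer_iff.mpr fun u => ⟨hconj ⟨x, hx⟩ u, fun hu' => ?_⟩
    have := hconj ⟨x, hx⟩⁻¹ _ hu'
    simpa [mul_assoc] using this
  · rw [← ofAdd_add]
    congr 1
    exact hu _ _ (by rw [map_add, val_add, hψ, hψ]; rfl)
  · exact congrArg Multiplicative.ofAdd (hu _ _ rfl)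
  · change Multiplicative.ofAdd (ψ u) = 1 ↔ _
    rw [ofAdd_eq_one, mem_bot, ← hψ u, val_eq_one]
    exact ⟨fun e => by rw [e, map_zero], fun e => hθ (by rw [e, map_zero])⟩
  · exact hu _ _ ((hπ e (ψ u)).trans (by rw [hψ u]))

end Amb

section Ring

variable {K : Type*} [Field K] {R : Type*} [Ring R] (σ : SL(2, K) →* R)

/-- The trace of a matrix in `SL₂`. -/
def trc (g : SL(2, K)) : K := g.1 0 0 + g.1 1 1

theorem trc_inv (g : SL(2, K)) : trc g⁻¹ = trc g := by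
  rw [trc, trc, inv_val, add_comm]; rfl

theorem sigma_mul_inv (g : SL(2, K)) : σ g * σ g⁻¹ = 1 := by rw [← map_mul, mul_inv_cancel, map_one]

theorem sigma_inv_mul (g : SL(2, K)) : σ g⁻¹ * σ g = 1 := by rw [← map_mul, inv_mul_cancel, map_one]

variable {σ}

theorem commute_inv {g : SL(2, K)} {c : R} (h : σ g * c = c * σ g) : σ g⁻¹ * c = c * σ g⁻¹ := by
  have h₁ := sigma_mul_inv σ g
  have h₂ := sigma_inv_mul σ g
  linear_combination (norm := noncomm_ring) -(σ g⁻¹ * h * σ g⁻¹) - σ g⁻¹ * c * h₁ + h₂ * c * σ g⁻¹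

theorem commute_mul {g g' : SL(2, K)} {c : R} (h : σ g * c = c * σ g) (h' : σ g' * c = c * σ g') :
    σ (g * g') * c = c * σ (g * g') := by
  rw [map_mul, mul_assoc, h', ← mul_assoc, h, mul_assoc]

variable (h3 : ∀ y, trc y = 1 → σ y * σ y + σ y + 1 = 0)
include h3

theorem sigma_inv {y : SL(2, K)} (hy : trc y = 1) : σ y⁻¹ = -1 - σ y := by
  have h₁ := h3 y hy
  have h₂ := sigma_inv_mul σ y
  linear_combination (norm := noncomm_ring) σ y⁻¹ * h₁ - h₂ * σ y - h₂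

theorem commute_tau {x y : SL(2, K)} (hx : trc x = 1) (hy : trc y = 1) :
    σ x * (σ (x * y⁻¹) + σ (y * x⁻¹)) = (σ (x * y⁻¹) + σ (y * x⁻¹)) * σ x := by
  rw [map_mul, map_mul, sigma_inv h3 hx, sigma_inv h3 hy]
  have h₁ := h3 x hx
  linear_combination (norm := noncomm_ring) σ y * h₁ - h₁ * σ y

variable [CharP K 2] [Finite K]

theorem central_tau {l : K} (hl : l ≠ 0) (hl1 : l ≠ 1) (g : SL(2, K)) :
    σ g * (σ (dg l hl) + σ (dg l hl)⁻¹) = (σ (dg l hl) + σ (dg l hl)⁻¹) * σ g := by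
  have h2 : (2 : K) = 0 := CharP.ofNat_eq_zero K 2
  have hl2 : 1 + l ≠ 0 := fun e => hl1 (by linear_combination e - h2 * 1 + (h2 * (1 - l) + h2 * l - h2))
  set c := σ (dg l hl) + σ (dg l hl)⁻¹ with hc
  have hd : ∀ (m : K) (hm : m ≠ 0), σ (dg m hm) * c = c * σ (dg m hm) := fun m hm => by
    rw [hc, dg_inv, mul_add, add_mul]
    simp only [← map_mul, dg_mul_dg, mul_comm]
  have hw : σ wy * c = c * σ wy := by
    rw [hc, dg_inv, mul_add, add_mul, add_comm]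
    simp only [← map_mul, wy_mul_dg, inv_inv]
  obtain ⟨m, hm⟩ := isSquare_of_charTwo' (l / (1 + l) * (1 / (1 + l)))
  have hm0 : m ≠ 0 := by
    rintro rfl
    rw [mul_zero] at hm
    exact mul_ne_zero (div_ne_zero hl hl2) (div_ne_zero one_ne_zero hl2) hm
  obtain ⟨x, x00, x01, x10, x11⟩ : ∃ x : SL(2, K), x.1 0 0 = l / (1 + l) ∧ x.1 0 1 = m * m - 1 ∧ x.1 1 0 = 1 ∧
      x.1 1 1 = 1 / (1 + l) :=
    ⟨⟨!![l / (1 + l), m * m - 1; 1, 1 / (1 + l)], by rw [det_fin_two_of, hm]; ring⟩, rfl, rfl, rfl, rfl⟩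
  have hx : σ x * c = c * σ x := by
    have := commute_tau h3 (x := x) (y := (dg l hl)⁻¹ * x) (by rw [trc, x00, x11]; field_simp; ring)
      (by simp only [trc, SL2Nat.mul_apply', inv_val, x00, x01, x10, x11]; simp; field_simp)
    simpa [mul_assoc, hc] using this
  have hz := commute_mul (commute_mul (commute_mul hx (hd m hm0)) hw) hx
  set z := x * dg m hm0 * wy * x with hzdef
  have hz10 : z.1 1 0 = 0 := by
    simp only [hzdef, SL2Nat.mul_apply', x00, x01, x10, x11]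
    simp
    field_simp
    field_simp at hm
    linear_combination -hm
  have hz01 : z.1 0 1 = m⁻¹ := by
    simp only [hzdef, SL2Nat.mul_apply', x00, x01, x10, x11]
    simp
    field_simp
    field_simp at hm
    linear_combination m ^ 2 * hm + (1 + l) ^ 2 * (m ^ 2 - 1) * h2
  have hz00 : z.1 0 0 ≠ 0 := fun e => by
    have := det_eq z
    rw [e, hz10] at this
    simp at this
  have hz11 : z.1 1 1 = (z.1 0 0)⁻¹ := by
    have := det_eq z
    rw [hz10] at this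
    field_simp
    linear_combination this
  have hzz : xu (m⁻¹ / z.1 0 0) = (dg _ hz00)⁻¹ * z := by
    apply sl_ext <;> simp [SL2Nat.mul_apply', inv_val, hz10, hz01, hz11, hz00, div_eq_inv_mul]
  have hu0 := commute_mul (commute_inv (hd _ hz00)) hz
  rw [← hzz] at hu0
  have hu : ∀ t, σ (xu t) * c = c * σ (xu t) := fun t => by
    have h0 : m⁻¹ / z.1 0 0 ≠ 0 := div_ne_zero (inv_ne_zero hm0) hz00
    rcases eq_or_ne t 0 with rfl | ht
    · rw [xu_zero, map_one, one_mul, mul_one]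
    obtain ⟨s, hs⟩ := isSquare_of_charTwo' (t / (m⁻¹ / z.1 0 0))
    have hs0 : s ≠ 0 := by
      rintro rfl
      exact div_ne_zero ht h0 (by rw [hs, mul_zero])
    have := commute_mul (commute_mul (hd s hs0) hu0) (commute_inv (hd s hs0))
    rwa [dg_xu, sq, ← hs, div_mul_cancel₀ _ h0] at this
  refine induction (fun g => σ g * c = c * σ g) hu (fun t => ?_) (fun A B => commute_mul) g
  rw [xl_eq]
  exact commute_mul (commute_mul hw (hu _)) (commute_inv hw)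

theorem quadratic_of_trace {l : K} (hl : l ≠ 0) (hl1 : l ≠ 1) :
    (∀ s t, (σ (xu s) - 1) * (σ (xu t) - 1) = 0) ∧ (6 : R) = 0 := by
  have h2 : (2 : K) = 0 := CharP.ofNat_eq_zero K 2
  have hl2 : l ^ 2 - 1 ≠ 0 := fun e => hl1 (by
    have : (l - 1) ^ 2 = 0 := by linear_combination e + (1 - l) * h2
    exact sub_eq_zero.mp (pow_eq_zero_iff two_ne_zero |>.mp this))
  have hcen := central_tau h3 hl hl1
  have hH := sigma_mul_inv σ (dg l hl)
  have hH' := sigma_inv_mul σ (dg l hl)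
  have hneg : ∀ t : K, (xu t)⁻¹ = xu t := fun t => by rw [← xu_neg, CharTwo.neg_eq]
  have hB : ∀ t, σ (dg l hl) * (σ (xu t) - 1) + (σ (xu t) - 1) * σ (dg l hl)⁻¹ = 0 := fun t => by
    obtain ⟨s, hs⟩ : ∃ s, s / l ^ 2 + s = t := ⟨t * l ^ 2 / (l ^ 2 - 1), by
      field_simp; linear_combination t * h2⟩
    have e₁ : xu s * dg l hl * (xu s)⁻¹ = dg l hl * xu t := by
      rw [hneg, xu_mul_dg, mul_assoc, ← xu_add, hs]
    have e₂ : xu s * (dg l hl)⁻¹ * (xu s)⁻¹ = xu t * (dg l hl)⁻¹ := by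
      rw [← conj_inv, e₁, _root_.mul_inv_rev, hneg]
    have e₁' := congrArg σ e₁
    have e₂' := congrArg σ e₂
    simp only [map_mul] at e₁' e₂'
    have e₃ := hcen (xu s)
    have e₄ := sigma_mul_inv σ (xu s)
    linear_combination (norm := noncomm_ring) e₃ * σ (xu s)⁻¹ - e₁' - e₂' +
      (σ (dg l hl) + σ (dg l hl)⁻¹) * e₄
  have hC : ∀ t, σ (xu (l ^ 2 * t)) = σ (dg l hl) * σ (xu t) * σ (dg l hl)⁻¹ := fun t => by
    rw [← dg_xu l hl, map_mul, map_mul]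
  have hC' : ∀ t, σ (xu (l ^ 2 * t)) - 1 = -(σ (dg l hl) * σ (dg l hl) * (σ (xu t) - 1)) := fun t => by
    linear_combination (norm := noncomm_ring) hC t + σ (dg l hl) * hB t + hH
  obtain ⟨x, hx⟩ : ∃ x : SL(2, K), trc x = 1 := ⟨xu 1 * xl 1, by
    simp only [trc, SL2Nat.mul_apply']; simp; linear_combination h2⟩
  have hfix : ∀ r : R, (∀ t, σ (xu t) * r = r) → (∀ t, σ (xu t) * (σ wy⁻¹ * r) = σ wy⁻¹ * r) →
      ∀ g, σ g * r = r := fun r h₀ h₁ g => by
    refine induction (fun g => σ g * r = r) h₀ (fun t => ?_)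
      (fun A B hA hB => by rw [map_mul, mul_assoc, hB, hA]) g
    rw [xl_eq, map_mul, map_mul, mul_assoc, mul_assoc, h₁, ← mul_assoc, sigma_mul_inv, one_mul]
  have hinj : ∀ r : R, (σ (dg l hl) + σ (dg l hl)⁻¹) * r = 0 → r = 0 := by
    have key : ∀ r : R, (σ (dg l hl) + σ (dg l hl)⁻¹) * r = 0 → ∀ t, σ (xu t) * r = r := fun r hr t => by
      obtain ⟨s, hs⟩ : ∃ s, l ^ 2 * s = s + t := ⟨t / (l ^ 2 - 1), by field_simp; ring⟩
      have e₁ := hC' s
      have e₂ := hcen (xu s)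
      have e₃ := sigma_inv_mul σ (xu s)
      rw [hs, xu_add, map_mul] at e₁
      have e₄ : σ (xu s) * (σ (xu t) * r) = σ (xu s) * r := by
        linear_combination (norm := noncomm_ring) e₁ * r + σ (dg l hl) * e₂ * r -
          σ (dg l hl) * (σ (xu s) - 1) * hr + hH * (σ (xu s) - 1) * r
      linear_combination (norm := noncomm_ring) σ (xu s)⁻¹ * e₄ - e₃ * (σ (xu t) * r) + e₃ * r
    intro r hr
    have := hfix r (key r hr) (key _ (by rw [← mul_assoc, ← hcen, mul_assoc, hr, mul_zero]))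
    linear_combination (norm := noncomm_ring) h3 x hx * r - hr - σ x * this x - this x - this x +
      this (dg l hl) + this (dg l hl)⁻¹
  have hq : ∀ s t, (σ (xu s) - 1) * (σ (xu t) - 1) = 0 := fun s t => by
    apply hinj
    have e₁ := hC' (s + t)
    rw [mul_add, xu_add, xu_add, map_mul, map_mul] at e₁
    have e₂ := hC' s
    have e₃ := hC' t
    have e₄ : (σ (xu (l ^ 2 * s)) - 1) * (σ (xu (l ^ 2 * t)) - 1) = (σ (xu s) - 1) * (σ (xu t) - 1) := by
      have a₁ : σ (xu (l ^ 2 * s)) - 1 = σ (dg l hl) * (σ (xu s) - 1) * σ (dg l hl)⁻¹ := by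
        linear_combination (norm := noncomm_ring) hC s + hH
      have a₂ : σ (xu (l ^ 2 * t)) - 1 = σ (dg l hl) * (σ (xu t) - 1) * σ (dg l hl)⁻¹ := by
        linear_combination (norm := noncomm_ring) hC t + hH
      rw [a₁, a₂]
      linear_combination (norm := noncomm_ring)
        σ (dg l hl) * (σ (xu s) - 1) * hH' * ((σ (xu t) - 1) * σ (dg l hl)⁻¹) +
        σ (dg l hl) * (σ (xu s) - 1) * hB t - hB s * σ (dg l hl) * (σ (xu t) - 1) +
        (σ (xu s) - 1) * hH' * (σ (xu t) - 1)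
    have e₅ : σ (dg l hl) * σ (dg l hl) * ((σ (xu s) - 1) * (σ (xu t) - 1)) +
        (σ (xu s) - 1) * (σ (xu t) - 1) = 0 := by
      linear_combination (norm := noncomm_ring) e₁ - e₂ - e₃ - e₄
    linear_combination (norm := noncomm_ring) σ (dg l hl)⁻¹ * e₅ -
      hH' * (σ (dg l hl) * ((σ (xu s) - 1) * (σ (xu t) - 1)))
  refine ⟨hq, ?_⟩
  have h₀ : ∀ t, σ (xu t) * (1 + 1) = 1 + 1 := fun t => by
    have e := sigma_mul_inv σ (xu t)
    rw [hneg] at e
    linear_combination (norm := noncomm_ring) e - hq t t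
  have := hfix (1 + 1) h₀ (fun t => by linear_combination (norm := noncomm_ring) h₀ t * σ wy⁻¹) x
  rw [show (6 : R) = 1 + 1 + 1 + 1 + 1 + 1 by norm_num]
  linear_combination (norm := noncomm_ring) h3 x hx * (1 + 1) - σ x * this - this - this

end Ring

end Cfsg.Agent.Lib.SL2Quad
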