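import Cfsg.Agent.Lib.SXDefs
import Cfsg.Agent.Lib.JAmalg

/-! S1852: one noncentral chief factor. -/

set_option autoImplicit false

namespace Cfsg.Agent.Lib.SXC1

open Cfsg Subgroup Cfsg.Agent.Lib.PCoreConj Cfsg.Agent.Lib.PCore Cfsg.Agent.Lib.PushBase Cfsg.Agent.Lib.SX
  Cfsg.Agent.Lib.PCoreResidual Cfsg.Agent.Lib.PCoreMod
open scoped commutatorElement

universe u

variable {G : Type u} [Group G]

theorem card_eq {A : Subgroup G} (f : A →* G) : Nat.card A = Nat.card f.ker * Nat.card f.range := by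
  rw [← index_ker, card_mul_index]

theorem card_sub {A B : Subgroup G} : Nat.card ↥((A ⊓ B).subgroupOf A) = Nat.card ↥(A ⊓ B) :=
  Nat.card_congr (subgroupOfEquivOfLe inf_le_left).toEquiv

theorem cen {A B : Subgroup G} (h : A ≤ C(B)) {a b : G} (ha : a ∈ A) (hb : b ∈ B) : b * a * b⁻¹ = a := by
  rw [mem_centralizer_iff.1 (h ha) b hb, mul_inv_cancel_right]

theorem main [Finite G] [WD.{u}] {T R V M₁ H : Subgroup G} {z : G} (w : Wk T R V z) (m : Mp T M₁ H)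
    (hVQ : V ≤ pCoreOf 2 H) (hel : IsElementaryAbelian 2 (nclIn V H)) (hn : ¬ H ≤ N(V))
    (h1 : ∀ U ≤ nclIn V H, H ≤ N(U) → U ≤ C(pResidualOf 2 H) ∨ ⁅nclIn V H, pResidualOf 2 H⁆ ≤ U) :
    pCoreOf 2 H ≤ C(⁅nclIn V H, pResidualOf 2 H⁆) := by
  have hKT := pResidualOf_sup_of_isSylowIn m.syl
  have hQK := commutator_commutator_pResidualOf (p := 2) (P := pCoreOf 2 H) (K := H) (pCoreOf_isPGroup 2 H)
    ((pResidualOf_le 2 H).trans (le_normalizer_pCoreOf 2 H))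
  have nU := le_normalizer_nclIn V H
  have nQ := le_normalizer_pCoreOf 2 H
  have nK := le_normalizer_pResidualOf 2 H
  have KH := pResidualOf_le 2 H
  have QT : pCoreOf 2 H ≤ T := m.syl.pCoreOf_le
  have pQ := pCoreOf_isPGroup 2 H
  have UQ : nclIn V H ≤ pCoreOf 2 H := nclIn_le hVQ nQ
  have VU := le_nclIn V H
  have ncl : ∀ N : Subgroup G, V ≤ N → H ≤ N(N) → nclIn V H ≤ N := fun N => nclIn_le
  have nclC : ∀ N : Subgroup G, H ≤ N(N) → V ≤ C(N) → nclIn V H ≤ C(N) := fun N => nclIn_le_centralizer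
  have TH : T ≤ H := m.syl.le
  generalize nclIn V H = U at *
  generalize pResidualOf 2 H = K at *
  generalize pCoreOf 2 H = Q at *
  have QH := QT.trans TH
  have UU : U ≤ C(U) := fun a ha => mem_centralizer_iff.2 fun b hb =>
    congrArg Subtype.val (hel.1.is_comm.comm (⟨b, hb⟩ : U) ⟨a, ha⟩)
  have nsub : ∀ Y ≤ U, U ≤ N(Y) := fun Y hY =>
    (UU.trans (centralizer_le (SetLike.coe_subset_coe.2 hY))).trans (centralizer_le_normalizer _)
  have DU : ⁅U, Q⁆ ≤ U := commutator_le_left_of_le_normalizer (QH.trans nU)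
  have EU : ⁅U, K⁆ ≤ U := commutator_le_left_of_le_normalizer (KH.trans nU)
  have nD : H ≤ N(⁅U, Q⁆) := le_normalizer_commutator nU nQ
  -- step 1
  have DK : ⁅U, Q⁆ ≤ C(K) := by
    refine (h1 _ DU nD).resolve_right fun e => hn ?_
    have a1 : H ≤ N(V ⊔ ⁅U, Q⁆) := by
      rw [← hKT]
      exact sup_le (le_normalizer_of_commutator_le (((commutator_mono (sup_le VU DU) le_rfl).trans e).trans
        le_sup_right)) (le_normalizer_sup w.nV (TH.trans nD))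
    have a2 : U ≤ V := le_of_le_sup_commutator pQ (pQ.to_le UQ) (QH.trans nU) (QT.trans w.nV) (nsub V VU)
      (ncl _ le_sup_left a1)
    rwa [le_antisymm VU a2]
  have nC : H ≤ N(U ⊓ C(K)) := le_normalizer_inf nU (le_normalizer_centralizer nK)
  by_cases hV : V ≤ U ⊓ C(K)
  · have : ⁅U, K⁆ = ⊥ := commutator_eq_bot_iff_le_centralizer.2 ((ncl _ hV nC).trans inf_le_right)
    rw [this]
    exact le_centralizer_iff.1 bot_le
  obtain ⟨v, hv, hv', hvT⟩ := JAmalg.exists_commutator_mem (pQ.to_le hVQ) w.pT w.nV (TH.trans nC)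
    (VU.trans (nsub _ inf_le_left)) hV
  have nB : H ≤ N(Q ⊓ K) := le_normalizer_inf nQ nK
  have cD : ∀ x ∈ U, ∀ b ∈ Q, ⁅x, b⁆ ∈ ⁅U, Q⁆ := fun x hx b hb => commutator_mem_commutator hx hb
  have hr : ∀ x ∈ U, ∀ b ∈ Q ⊓ K, ∀ b' ∈ Q, ⁅x, b * b'⁆ = ⁅x, b⁆ * ⁅x, b'⁆ := fun x hx b hb b' hb' => by
    rw [← cen DK (cD x hx b' hb') hb.2]; simp only [commutatorElement_def]; group
  have hl : ∀ x ∈ U, ∀ y ∈ U, ∀ b ∈ Q, ⁅x * y, b⁆ = ⁅y, b⁆ * ⁅x, b⁆ := fun x hx y hy b hb => by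
    rw [← cen UU (DU (cD y hy b hb)) hx]; simp only [commutatorElement_def]; group
  have sq : ∀ b ∈ Q ⊓ K, b * b ∈ R := fun b hb => by
    rw [w.R_eq]
    refine ⟨T.mul_mem (QT hb.1) (QT hb.1), mem_centralizer_iff.2 fun x hx => ?_⟩
    refine commutatorElement_eq_one_iff_mul_comm.1 ?_
    rw [hr x (VU hx) b hb b hb.1, ← pow_two]
    exact hel.2 _ (DU (cD x (VU hx) b hb.1))
  let φ : ↥(Q ⊓ K) →* G := MonoidHom.mk' (fun b => ⁅v, (b : G)⁆) fun b b' => hr v (VU hv) b b.2 b' b'.2.1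
  have c4 : Nat.card φ.range ≤ 4 := by
    have a1 := (WD.four w (Q ⊓ K) (inf_le_left.trans QT) sq).1
    have a2 : Nat.card ↥(Q ⊓ K ⊓ R) ≤ Nat.card φ.ker := by
      rw [← card_sub]
      refine card_le_of_le fun b hb => commutatorElement_eq_one_iff_mul_comm.2 ?_
      have : (b : G) ∈ R := hb.2
      rw [w.R_eq] at this
      exact mem_centralizer_iff.1 this.2 v hv
    rw [card_eq φ] at a1
    have a3 : 0 < Nat.card φ.ker := Nat.card_pos
    nlinarith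
  have mY : ∀ y, y ∈ φ.range ↔ ∃ b ∈ Q ⊓ K, ⁅v, b⁆ = y := fun y =>
    ⟨fun ⟨b, e⟩ => ⟨b, b.2, e⟩, fun ⟨b, hb, e⟩ => ⟨⟨b, hb⟩, e⟩⟩
  generalize φ.range = Y at c4 mY
  have YD : Y ≤ ⁅U, Q⁆ := fun y hy => by
    obtain ⟨b, hb, rfl⟩ := (mY y).1 hy
    exact cD v (VU hv) b hb.1
  have KY : K ≤ N(Y) := (le_centralizer_iff.1 (YD.trans DK)).trans (centralizer_le_normalizer _)
  have nY : H ≤ N(Y) := by
    rw [← hKT]
    refine sup_le KY fun t ht => mem_normalizer_of_conj_le (conj_le_iff.2 fun y hy => ?_)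
    obtain ⟨b, hb, rfl⟩ := (mY y).1 hy
    have b' : t * b * t⁻¹ ∈ Q ⊓ K := (mem_normalizer_iff.1 (nB (TH ht)) b).1 hb
    refine (mY _).2 ⟨_, b', ?_⟩
    have c1 := (U ⊓ C(K)).inv_mem (hvT t ht)
    have e : t * v * t⁻¹ = ⁅v, t⁆⁻¹ * v := by simp only [commutatorElement_def]; group
    rw [conjugate_commutatorElement, e, hl _ c1.1 v (VU hv) _ b'.1,
      commutatorElement_eq_one_iff_mul_comm.2 (mem_centralizer_iff.1 c1.2 _ b'.2).symm, mul_one]
  let S : Subgroup G :=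
    { carrier := {x | x ∈ U ∧ ∀ b ∈ Q ⊓ K, ⁅x, b⁆ ∈ Y}
      one_mem' := ⟨U.one_mem, fun b _ => by simp⟩
      mul_mem' := fun {x y} hx hy => ⟨U.mul_mem hx.1 hy.1, fun b hb => by
        rw [hl x hx.1 y hy.1 b hb.1]; exact Y.mul_mem (hy.2 b hb) (hx.2 b hb)⟩
      inv_mem' := fun {x} hx => by
        have : x⁻¹ = x := inv_eq_of_mul_eq_one_right (by rw [← pow_two]; exact hel.2 x hx.1)
        rwa [this] }
  have nS : H ≤ N(S) := fun g hg => mem_normalizer_of_conj_le (conj_le_iff.2 fun x hx =>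
    ⟨(mem_normalizer_iff.1 (nU hg) x).1 hx.1, fun b hb => by
      have b' : g⁻¹ * b * g⁻¹⁻¹ ∈ Q ⊓ K := (mem_normalizer_iff.1 (nB (H.inv_mem hg)) b).1 hb
      have := (mem_normalizer_iff.1 (nY hg) _).1 (hx.2 _ b')
      rw [conjugate_commutatorElement] at this
      simpa only [inv_inv, mul_assoc, mul_inv_cancel_left, mul_inv_cancel, mul_one] using this⟩)
  have ES : ⁅U, K⁆ ≤ S := (h1 S (fun x hx => hx.1) nS).resolve_left fun e =>
    hv' ⟨VU hv, e ⟨VU hv, fun b hb => (mY _).2 ⟨b, hb, rfl⟩⟩⟩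
  have t3 : ⁅⁅Q ⊓ K, K⁆, U⁆ ≤ Y := by
    refine three_subgroups (inf_le_right.trans KY) KY (nsub Y (YD.trans DU)) ?_ ?_
    · rw [commutator_comm K U]
      exact commutator_le.2 fun x hx b hb => (ES hx).2 b hb
    · rw [commutator_eq_bot_iff_le_centralizer.2 ((commutator_mono le_rfl inf_le_left).trans DK)]
      exact bot_le
  have BB : ⁅Q ⊓ K, K⁆ ≤ Q ⊓ K := commutator_le_left_of_le_normalizer (KH.trans nB)
  have BV : ⁅Q ⊓ K, K⁆ ≤ C(V) := fun b hb => by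
    have bT : b ∈ T := QT (BB hb).1
    by_contra hc
    have a1 := w.w1 b bT (fun e => hc (by rw [w.R_eq] at e; exact e.2)) (sq b (BB hb))
    let ψ : V →* G := MonoidHom.mk' (fun x => ⁅(x : G), b⁆) fun x y => by
      show ⁅(x : G) * y, b⁆ = _
      rw [hl x (VU x.2) y (VU y.2) b (BB hb).1]
      exact mem_centralizer_iff.1 (UU (DU (cD x (VU x.2) b (BB hb).1))) _ (DU (cD y (VU y.2) b (BB hb).1))
    have a2 : Nat.card ψ.range ≤ Nat.card Y := card_le_of_le (by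
      rintro _ ⟨x, rfl⟩
      show ⁅(x : G), b⁆ ∈ Y
      rw [← commutatorElement_inv]
      exact Y.inv_mem (t3 (commutator_mem_commutator hb (VU x.2))))
    have a3 : Nat.card ψ.ker ≤ Nat.card ↥(V ⊓ centralizer {b}) := by
      rw [← card_sub]
      exact card_le_of_le fun x hx => ⟨x.2, mem_centralizer_singleton_iff.2
        (commutatorElement_eq_one_iff_mul_comm.1 hx)⟩
    rw [card_eq ψ] at a1
    have a4 : 0 < Nat.card ψ.ker := Nat.card_pos
    nlinarith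
  have BU : U ≤ C(⁅Q ⊓ K, K⁆) := nclC _ (le_normalizer_commutator nB nK) (le_centralizer_iff.1 BV)
  have QK : ⁅Q, K⁆ ≤ ⁅Q ⊓ K, K⁆ := by
    rw [← hQK]
    exact commutator_mono (le_inf (commutator_le_left_of_le_normalizer (KH.trans nQ))
      (commutator_le_right_of_le_normalizer (QH.trans nK))) le_rfl
  refine le_centralizer_iff.1 (commutator_eq_bot_iff_le_centralizer.1 ?_)
  refine commutator_commutator_eq_bot_of_rotate ?_ ?_
  · rw [commutator_comm K Q]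
    exact commutator_eq_bot_iff_le_centralizer.2 (QK.trans (le_centralizer_iff.1 BU))
  · rw [commutator_comm Q U]
    exact commutator_eq_bot_iff_le_centralizer.2 DK

instance instC1 [WD.{u}] : C1.{u} := ⟨fun w m h1 h2 h3 h4 => main w m h1 h2 h3 h4⟩

end Cfsg.Agent.Lib.SXC1
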