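import Cfsg.Agent.Lib.SXDefs
import Cfsg.Agent.Lib.LocIdx

/-! Two noncentral chief factors in the normal closure of `V`. -/

set_option autoImplicit false

namespace Cfsg.Agent.Lib.SXC2

open Cfsg Subgroup Cfsg.Agent.Lib.PCoreConj Cfsg.Agent.Lib.PCore Cfsg.Agent.Lib.ThompsonJ Cfsg.Agent.Lib.PushBase
open Cfsg.Agent.Lib.PIrred Cfsg.Agent.Lib.PReduced Cfsg.Agent.Lib.Blk Cfsg.Agent.Lib.SX Cfsg.Agent.Lib.LocIdx

universe u

variable {G : Type u} [Group G] [Finite G]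

theorem sec {A Q D W Y Z : Subgroup G} (h₁ : D ≤ W) (h₂ : W ≤ Y) (h₃ : W ⊓ Z ≤ D)
    (h : Nat.card A * Nat.card D ≤ Nat.card ↥(A ⊓ Q) * Nat.card W) : Q.relIndex A ≤ Z.relIndex Y := by
  rw [← card_inf_mul_relIndex Q A, ← card_mul_relIndex h₁, inf_comm Q, mul_assoc, mul_comm (Q.relIndex A)] at h
  have k := Nat.le_of_mul_le_mul_left (Nat.le_of_mul_le_mul_left h Nat.card_pos) Nat.card_pos
  refine k.trans ((relIndex_le_of_le_left h₃ (relIndex_ne_zero_of_finite _ _)).trans ?_)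
  rw [inf_comm, inf_relIndex_right]
  exact relIndex_le_of_le_right h₂ (relIndex_ne_zero_of_finite _ _)

theorem arith {a b n : ℕ} (a0 : a ≠ 0) (n0 : n ≠ 0) (h₁ : n ≤ b * a) (h₂ : a * a ≤ n) (h₃ : b ^ 3 ≤ n) : a = 1 := by
  have k : n ^ 5 * n ≤ n ^ 5 * 1 :=
    calc _ = n ^ 6 := by ring
      _ ≤ (b * a) ^ 6 := Nat.pow_le_pow_left h₁ 6
      _ = (b ^ 3) ^ 2 * (a * a) ^ 3 := by ring
      _ ≤ n ^ 2 * n ^ 3 := Nat.mul_le_mul (Nat.pow_le_pow_left h₃ 2) (Nat.pow_le_pow_left h₂ 3)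
      _ = _ := by ring
  have k := Nat.le_of_mul_le_mul_left k (by positivity)
  nlinarith [Nat.pos_of_ne_zero a0]

variable [WD.{u}] {T R V M₁ H : Subgroup G} {z : G}

theorem cube (w : Wk T R V z) {B : Subgroup G} (hB : B ≤ T) (sq : ∀ b ∈ B, b * b = 1) :
    (C(V)).relIndex B ^ 3 ≤ (C(B)).relIndex V := by
  have h := WD.cube w B hB fun b hb => by rw [sq b hb]; exact one_mem _
  have e : B ⊓ R = C(V) ⊓ B := by rw [w.R_eq, ← inf_assoc, inf_eq_left.mpr hB, inf_comm]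
  rw [e, ← card_inf_mul_relIndex C(V) B, ← card_inf_mul_relIndex C(B) V, inf_comm V, mul_pow, mul_assoc,
    mul_comm (_ ^ 3) (Nat.card ↥(C(B) ⊓ V))] at h
  exact Nat.le_of_mul_le_mul_left (Nat.le_of_mul_le_mul_left h (pow_pos Nat.card_pos 3)) Nat.card_pos

theorem cubes (w : Wk T R V z) (m : Mp T M₁ H) (B : Subgroup G) (hB : B ≤ pCoreOf 2 H) (sq : ∀ b ∈ B, b * b = 1) :
    (C(nclIn V H)).relIndex B ^ 3 ≤ (C(B)).relIndex (nclIn V H) := by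
  induction B using WellFoundedLT.induction with
  | ind B ih =>
  by_cases hc : B ≤ C(nclIn V H)
  · rw [relIndex_eq_one.mpr hc, one_pow]
    exact Nat.pos_of_ne_zero (relIndex_ne_zero_of_finite _ _)
  obtain ⟨h, hh, hn⟩ : ∃ h ∈ H, ¬ B ≤ C(V ^ᶜ h) := by
    by_contra! hn
    exact hc (le_centralizer_iff.mp (nclIn_le_iff.mpr fun h hh => le_centralizer_iff.mp (hn h hh)))
  have k₁ := ih (C(V ^ᶜ h) ⊓ B) (lt_of_le_of_ne inf_le_right fun e => hn (e.ge.trans inf_le_left))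
    (inf_le_right.trans hB) fun b hb => sq b hb.2
  have k₂ := cube w (B := B ^ᶜ h⁻¹) ((conj_le_of_mem_normalizer hB (le_normalizer_pCoreOf 2 H (inv_mem hh))).trans
    m.syl.pCoreOf_le) fun b hb => by
      obtain ⟨c, hc, rfl⟩ := mem_conj_iff'.mp hb
      rw [conj_mul, sq c hc, mul_one, mul_inv_cancel]
  rw [← relIndex_conj _ _ h, ← relIndex_conj (C(B ^ᶜ h⁻¹)) _ h, conj_centralizer, conj_centralizer, conj_inv_conj] at k₂
  have hV := conj_le_nclIn V hh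
  have e₁ := relIndex_mul_relIndex (C(nclIn V H) ⊓ B) (C(V ^ᶜ h) ⊓ B) B (inf_le_inf_right _ (centralizer_anti hV))
    inf_le_right
  have e₂ := relIndex_mul_relIndex (C(B) ⊓ nclIn V H) (C(C(V ^ᶜ h) ⊓ B) ⊓ nclIn V H) (nclIn V H)
    (inf_le_inf_right _ (centralizer_anti inf_le_right)) inf_le_right
  rw [inf_relIndex_right, inf_relIndex_right] at e₁ e₂
  have e₃ : (C(nclIn V H) ⊓ B).relIndex (C(V ^ᶜ h) ⊓ B) = (C(nclIn V H)).relIndex (C(V ^ᶜ h) ⊓ B) := by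
    rw [← inf_relIndex_right, inf_assoc, inf_eq_right.mpr inf_le_right, inf_relIndex_right]
  have e₄ : (C(B)).relIndex (V ^ᶜ h) ≤ (C(B) ⊓ nclIn V H).relIndex (C(C(V ^ᶜ h) ⊓ B) ⊓ nclIn V H) := by
    refine le_trans ?_ (relIndex_le_of_le_right (le_inf (le_centralizer_iff.mp inf_le_left) hV)
      (relIndex_ne_zero_of_finite _ _))
    exact relIndex_le_of_le_left inf_le_left (relIndex_ne_zero_of_finite _ _)
  rw [← e₁, ← e₂, e₃, mul_pow, mul_comm]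
  exact Nat.mul_le_mul (k₂.trans e₄) k₁

instance instC2 [NS.{u}] : C2.{u} := ⟨fun {G} _ _ T R V M₁ H z w m hV el U hU nU cU cU' => by
  have hQ : nclIn V H ≤ pCoreOf 2 H := nclIn_le hV (le_normalizer_pCoreOf 2 H)
  have n₀ := le_normalizer_nclIn V H
  refine J_le_iff.mpr fun A hA => ?_
  have eA : IsElementaryAbelian 2 A := abExp_iff_isElementaryAbelian.mp hA.abExp
  obtain ⟨W₁, W₂, -, a₂, a₃, -, a₄⟩ := NS.ns m ⊥ U bot_le (hU.trans hQ) le_normalizer_of_normal nU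
    (fun e => cU (commutator_eq_bot_iff_le_centralizer.mp (le_bot_iff.mp e))) A hA.le eA
  obtain ⟨Y₁, Y₂, b₁, b₂, b₃, -, b₄⟩ := NS.ns m U _ hU hQ nU n₀ cU' A hA.le eA
  have q₁ : W₁ ⊓ C(A) ⊔ W₂ ≤ W₁ := sup_le inf_le_left a₂
  have q₂ : W₁ ⊓ C(A) ≤ W₁ ⊓ C(A) ⊔ W₂ := le_sup_left
  have q₃ : Y₁ ⊓ C(A) ⊔ Y₂ ≤ Y₁ := sup_le inf_le_left b₂
  have s₁ := sec q₁ a₃ q₂ a₄
  have hn : C(A) ⊓ nclIn V H ≤ N(U) := (inf_le_right.trans (hQ.trans (pCoreOf_le 2 H))).trans nU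
  have s₀ : Y₁ ⊓ (C(A) ⊓ nclIn V H ⊔ U) ≤ Y₁ ⊓ C(A) ⊔ Y₂ := fun x hx => by
    obtain ⟨c, hc, y, hy, e⟩ := (mem_sup_iff_of_le_normalizer hn).mp (mem_inf.mp hx).2
    have k := (mem_inf.mp hx).1
    rw [← e] at k ⊢
    exact mul_mem (mem_sup_left (mem_inf.mpr ⟨(mul_mem_cancel_right (b₂ (b₁ hy))).mp k, (mem_inf.mp hc).1⟩))
      (mem_sup_right (b₁ hy))
  have s₂ := sec q₃ b₃ s₀ b₄
  have q₄ : C(A) ⊓ nclIn V H ⊔ U ≤ nclIn V H := sup_le inf_le_right hU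
  have q₅ : C(A) ⊓ nclIn V H ≤ C(A) ⊓ nclIn V H ⊔ U := le_sup_left
  have e₁ := relIndex_mul_relIndex _ _ _ q₅ q₄
  rw [inf_relIndex_right] at e₁
  have s₃ : (C(A)).relIndex U ≤ (C(A) ⊓ nclIn V H).relIndex (C(A) ⊓ nclIn V H ⊔ U) :=
    (relIndex_le_of_le_left inf_le_left (relIndex_ne_zero_of_finite _ _)).trans
      (relIndex_le_of_le_right le_sup_right (relIndex_ne_zero_of_finite _ _))
  have h₂ := (Nat.mul_le_mul (s₁.trans s₃) s₂).trans e₁.le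
  have h₃ := (cubes w m (pCoreOf 2 H ⊓ A) inf_le_left fun b hb => by rw [← sq]; exact eA.2 b hb.2).trans
    (relIndex_le_of_le_left (centralizer_anti inf_le_right) (relIndex_ne_zero_of_finite _ _))
  have h₁ := (card_le_of_maxAb el (hQ.trans m.syl.pCoreOf_le) hA).1
  rw [← card_inf_mul_relIndex C(A) (nclIn V H), ← card_inf_mul_relIndex C(nclIn V H) A, inf_comm A,
    inf_comm (nclIn V H), mul_assoc, mul_comm (relIndex _ A)] at h₁
  have h₁ := Nat.le_of_mul_le_mul_left (Nat.le_of_mul_le_mul_left h₁ Nat.card_pos) Nat.card_pos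
  have e₂ := relIndex_mul_relIndex (C(nclIn V H) ⊓ (pCoreOf 2 H ⊓ A)) (pCoreOf 2 H ⊓ A) A inf_le_right inf_le_right
  rw [inf_relIndex_right, inf_relIndex_right] at e₂
  have h₁ := h₁.trans ((relIndex_le_of_le_left inf_le_left (relIndex_ne_zero_of_finite _ _)).trans e₂.ge)
  have a0 := relIndex_ne_zero_of_finite (pCoreOf 2 H) A
  have u0 := relIndex_ne_zero_of_finite C(A) (nclIn V H)
  rw [← relIndex_eq_one]
  exact arith a0 u0 h₁ h₂ h₃⟩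

end Cfsg.Agent.Lib.SXC2
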