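import Cfsg.Agent.Lib.SXDefs

/-! The class `CB` for S1852. -/

set_option autoImplicit false

namespace Cfsg.Agent.Lib.SX

open Cfsg Subgroup Cfsg.Agent.Lib.PCoreConj Cfsg.Agent.Lib.PCore Cfsg.Agent.Lib.ThompsonJ Cfsg.Agent.Lib.PushBase
open Cfsg.Agent.Lib.PIrred Cfsg.Agent.Lib.PReduced Cfsg.Agent.Lib.Blk Cfsg.Agent.Lib.PCoreResidual
open scoped commutatorElement

universe u

namespace CBx

variable {G : Type u} [Group G] {T R V M₁ H : Subgroup G} {z : G}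

theorem nR (w : Wk T R V z) : T ≤ N(R) := by
  rw [w.R_eq]
  exact le_normalizer_inf le_normalizer (le_normalizer_centralizer w.nV)

theorem RC (w : Wk T R V z) : R ≤ C(V) := w.R_eq.le.trans inf_le_right

theorem cj (w : Wk T R V z) {t r : G} (ht : t ∈ T) (hr : r ∈ R) : t * r * t⁻¹ ∈ R :=
  (mem_normalizer_iff.1 (nR w ht) r).1 hr

/-- the elements of `T` commuting with `c` modulo `R` -/
def cm (w : Wk T R V z) (c : G) : Subgroup G where
  carrier := {x | x ∈ T ∧ x * c * x⁻¹ * c⁻¹ ∈ R}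
  one_mem' := ⟨one_mem _, by simp⟩
  mul_mem' := fun {x y} hx hy => ⟨mul_mem hx.1 hy.1, by
    have := mul_mem (cj w hx.1 hy.2) hx.2
    convert this using 1
    group⟩
  inv_mem' := fun {x} hx => ⟨inv_mem hx.1, by
    have := cj w (inv_mem hx.1) (inv_mem hx.2)
    convert this using 1
    group⟩

theorem R_cm (w : Wk T R V z) {c r : G} (hc : c ∈ T) (hr : r ∈ R) : r ∈ cm w c :=
  ⟨(w.R_eq.le hr).1, by
    have := mul_mem hr (cj w hc (inv_mem hr))
    convert this using 1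
    group⟩

theorem z_cm (w : Wk T R V z) {c : G} (hc : c ∈ T) : z ∈ cm w c :=
  ⟨w.zT, by
    have := inv_mem (w.zc c hc)
    convert this using 1
    group⟩

/-- commutators of involutions from normal elementary abelian subgroups -/
theorem comm (w : Wk T R V z) {B D : Subgroup G} (hB : IsElementaryAbelian 2 B) (hD : IsElementaryAbelian 2 D)
    (BT : B ≤ T) (DT : D ≤ T) (n1 : B ≤ N(D)) (n2 : D ≤ N(B)) {b c : G} (hb : b ∈ B) (hc : c ∈ D) :
    b * c * b⁻¹ * c⁻¹ ∈ R ∨ b * c * b⁻¹ * c⁻¹ * z ∈ R := by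
  by_contra! hn
  obtain ⟨h1, h2⟩ := hn
  have dB : b * c * b⁻¹ * c⁻¹ ∈ B := by
    have := mul_mem hb ((mem_normalizer_iff.1 (n2 hc) _).1 (inv_mem hb))
    convert this using 1
    group
  have dD : b * c * b⁻¹ * c⁻¹ ∈ D := mul_mem ((mem_normalizer_iff.1 (n1 hb) _).1 hc) (inv_mem hc)
  have nb : b ∉ cm w c := fun h => h1 h.2
  generalize b * c * b⁻¹ * c⁻¹ = d at *
  have dc : d ∈ cm w c := ⟨DT dD, by
    rw [mem_centralizer_iff.1 (le_centralizer_of_isElementaryAbelian hD hc) d dD]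
    simp⟩
  have cT := DT hc
  rcases w.four b (BT hb) d (BT dB) (fun h => nb (R_cm w cT h)) h1
    (by rw [← sq, hB.2 b hb]; exact one_mem R) (by rw [← sq, hB.2 d dB]; exact one_mem R) (by
      rw [mem_centralizer_iff.1 (le_centralizer_of_isElementaryAbelian hB dB) b hb]
      simp) with h | h | h | h
  · exact nb ((mul_mem_cancel_right dc).1 (R_cm w cT h))
  · exact nb ((mul_mem_cancel_right (z_cm w cT)).1 (R_cm w cT h))
  · exact h2 h
  · exact nb ((mul_mem_cancel_right dc).1 ((mul_mem_cancel_right (z_cm w cT)).1 (R_cm w cT h)))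

theorem num1 {a d v c : ℕ} (h1 : a ≤ 4 * d) (h2 : v ≤ 8 * a) (h3 : d ≤ c) (h4 : 64 * c ≤ v) (h5 : 0 < d) : False := by
  omega

variable [Finite G]

theorem card_inf {A X Y : Subgroup G} (hA : A ≤ C(A)) (hX : X ≤ A) (hY : Y ≤ A)
    (h1 : Nat.card A ≤ 2 * Nat.card X) (h2 : Nat.card A ≤ 2 * Nat.card Y) :
    Nat.card A ≤ 4 * Nat.card ↥(X ⊓ Y) := by
  have e := card_sup_mul_card_inf
    (le_normalizer_of_le_centralizer (hX.trans (hA.trans (centralizer_anti hY))) : X ≤ N(Y))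
  have l := Subgroup.card_le_of_le (sup_le hX hY)
  have p : 0 < Nat.card A := Nat.card_pos
  refine Nat.le_of_mul_le_mul_left ?_ p
  calc Nat.card A * Nat.card A ≤ (2 * Nat.card X) * (2 * Nat.card Y) := Nat.mul_le_mul h1 h2
    _ = Nat.card ↥(X ⊔ Y) * (4 * Nat.card ↥(X ⊓ Y)) := by rw [mul_mul_mul_comm, ← e]; ring
    _ ≤ _ := Nat.mul_le_mul_right _ l

omit [Finite G] in
theorem card_cj (A V : Subgroup G) (h : G) :
    Nat.card ↥(A ^ᶜ h⁻¹ ⊓ C(V)) = Nat.card ↥(A ⊓ C(V ^ᶜ h)) := by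
  rw [← card_conj (A ^ᶜ h⁻¹ ⊓ C(V)) h, conj_inf, conj_inv_conj, conj_centralizer]

theorem le [WD.{u}] [NS.{u}] (w : Wk T R V z) (m : Mp T M₁ H) : V ≤ pCoreOf 2 H := by
  by_contra hn
  have TH := m.syl.le
  have VH := w.VT.trans TH
  have QT := m.syl.pCoreOf_le
  have nQ := le_normalizer_pCoreOf 2 H
  have pQ := pCoreOf_isPGroup 2 H
  obtain ⟨Q, hQ⟩ : ∃ Q, Q = pCoreOf 2 H := ⟨_, rfl⟩
  obtain ⟨A, hA⟩ : ∃ A, A = V ⊓ Q := ⟨_, rfl⟩
  rw [← hQ] at QT nQ pQ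
  have AV : A ≤ V := hA.le.trans inf_le_left
  have elA : IsElementaryAbelian 2 A := isElementaryAbelian_of_le w.el AV
  have IQ : nclIn A H ≤ Q := nclIn_le (hA.le.trans inf_le_right) nQ
  have nI := le_normalizer_nclIn A H
  have KJ : pResidualOf 2 H ≤ nclIn V H := by
    refine (PMinimal.MinOver.pResidualOf_le_or m.min w.pT (nclIn_le_of_le VH)
      (TH.trans (le_normalizer_nclIn V H))).resolve_right fun e => hn ?_
    exact (le_inf (le_nclIn V H) w.VT).trans (PMinimal.MinOver.inf_le_pCoreOf m.min w.pT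
      (SubnormalIn.of_normal (nclIn_le_of_le VH) (le_normalizer_nclIn V H)) e)
  have QV : ⁅Q, V⁆ ≤ nclIn A H := (le_inf (commutator_le_right_of_le_normalizer (QT.trans w.nV))
    (commutator_le_left_of_le_normalizer (VH.trans nQ))).trans (hA.ge.trans (le_nclIn A H))
  have QK : ⁅Q, pResidualOf 2 H⁆ ≤ nclIn A H :=
    (commutator_mono le_rfl KJ).trans (commutator_nclIn_le nI (VH.trans nI) nQ QV)
  have nt : ¬ ⁅nclIn A H, pResidualOf 2 H⁆ ≤ ⊥ := fun e => by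
    have e1 : ⁅Q, pResidualOf 2 H⁆ = ⊥ := by
      rw [← PCoreMod.commutator_commutator_pResidualOf pQ ((pResidualOf_le 2 H).trans nQ)]
      exact le_bot_iff.1 ((commutator_mono QK le_rfl).trans e)
    have := m.ch.isPGroup_of_le le_rfl (hQ ▸ commutator_eq_bot_iff_le_centralizer'.1 e1)
    exact m.min.lt.not_ge ((m.syl.eq_of_isPGroup this).ge.trans m.min.le)
  have BQ : ∀ h ∈ H, A ^ᶜ h ≤ Q := fun h hh => (conj_le_nclIn A hh).trans IQ
  have BT : ∀ h ∈ H, A ^ᶜ h ≤ T := fun h hh => (BQ h hh).trans QT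
  have elB : ∀ h, IsElementaryAbelian 2 (A ^ᶜ h) := fun h => isElementaryAbelian_map elA _
  have sqB : ∀ h, ∀ a ∈ A ^ᶜ h, a * a ∈ R := fun h a ha => by rw [← sq, (elB h).2 a ha]; exact one_mem R
  have nB : ∀ h ∈ H, Q ≤ N(A ^ᶜ h) := fun h hh => by
    have : Q ≤ N(A) := hA ▸ le_normalizer_inf (QT.trans w.nV) le_normalizer
    have := le_normalizer_conj this h
    rwa [conj_eq_of_mem_normalizer (nQ hh)] at this
  obtain ⟨W₁, W₂, -, a2, a3, a4, a5⟩ := NS.ns m ⊥ (nclIn A H) bot_le (IQ.trans hQ.le)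
    (le_normalizer_of_le_centralizer (by rw [centralizer_bot']; exact le_top)) nI nt V w.VT w.el
  rw [← hQ, ← hA] at a5
  obtain ⟨B, hB⟩ : ∃ B : Set G, ∀ b, b ∈ B ↔ ∃ h ∈ H, b ∈ A ^ᶜ h := ⟨{b | ∃ h ∈ H, b ∈ A ^ᶜ h}, fun _ => Iff.rfl⟩
  have b1 : ∀ b ∈ B, b ∈ T ∧ b * b ∈ R := fun b hb => by
    obtain ⟨h, hh, hb⟩ := (hB b).1 hb
    exact ⟨BT h hh hb, sqB h b hb⟩
  have b2 : ∀ b ∈ B, ∀ c ∈ B, b * c * b⁻¹ * c⁻¹ ∈ R ∨ b * c * b⁻¹ * c⁻¹ * z ∈ R := fun b hb c hc => by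
    obtain ⟨h, hh, hb⟩ := (hB b).1 hb
    obtain ⟨k, hk, hc⟩ := (hB c).1 hc
    exact comm w (elB h) (elB k) (BT h hh) (BT k hk) ((BQ h hh).trans (nB k hk)) ((BQ k hk).trans (nB h hh)) hb hc
  have b3 : nclIn A H ≤ closure B := by
    rw [nclIn_le_iff]
    intro h hh b hb
    exact subset_closure ((hB b).2 ⟨h, hh, hb⟩)
  have b4 : W₁ ⊓ C(V) ⊔ W₂ ≤ W₁ := sup_le inf_le_left a2
  have b5 : W₁ ⊓ R ≤ W₁ ⊓ C(V) ⊔ W₂ := (inf_le_inf_left W₁ (RC w)).trans le_sup_left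
  have b6 : ∀ x ∈ W₁, x * x ∈ W₁ ⊓ C(V) ⊔ W₂ := fun x hx => (le_sup_right : W₂ ≤ _) (a4 x hx)
  generalize W₁ ⊓ C(V) ⊔ W₂ = W' at a5 b4 b5 b6
  have a6 := WD.eight w B b1 b2 W₁ W' (a3.trans b3) b4 b5 b6
  have a7 : Nat.card V ≤ 8 * Nat.card A := by
    refine Nat.le_of_mul_le_mul_right ?_ (Nat.card_pos (α := W'))
    calc _ ≤ Nat.card A * Nat.card W₁ := a5
      _ ≤ Nat.card A * (8 * Nat.card W') := Nat.mul_le_mul_left _ a6
      _ = _ := by ring
  -- no subgroup of index at most four in `A` centralizes `z`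
  have key : ∀ D ≤ A, Nat.card A ≤ 4 * Nat.card D → ∀ a, D ≤ centralizer {a} → a * z ∉ R := by
    intro D d1 d2 a d3 ha
    have d4 : D ≤ V ⊓ centralizer {z} := fun x hx => by
      refine mem_inf.2 ⟨AV (d1 hx), ?_⟩
      have e1 : a ∈ centralizer ({x} : Set G) := by
        have := d3 hx
        rw [mem_centralizer_singleton_iff] at this ⊢
        exact this.symm
      have e2 : a * z ∈ centralizer ({x} : Set G) :=
        mem_centralizer_singleton_iff.2 (mem_centralizer_iff.1 (RC w ha) x (AV (d1 hx))).symm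
      have := (mul_mem_cancel_left e1).1 e2
      rw [mem_centralizer_singleton_iff] at this ⊢
      exact this.symm
    have d5 := Subgroup.card_le_of_le d4
    have d6 := w.w2
    have : 0 < Nat.card D := Nat.card_pos
    exact num1 d2 a7 d5 d6 this
  have cB : ∀ h, Nat.card ↥(A ^ᶜ h ⊓ R) ≤ Nat.card ↥(A ⊓ C(V ^ᶜ h⁻¹)) := fun h => by
    rw [← card_cj, inv_inv]
    exact Subgroup.card_le_of_le (inf_le_inf_left _ (RC w))
  have cz : ∀ h, ∀ b ∈ A ^ᶜ h, A ⊓ C(V ^ᶜ h) ≤ centralizer {b} := fun h b hb x hx =>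
    mem_centralizer_singleton_iff.2 (mem_centralizer_iff.1 (mem_inf.1 hx).2 b (conj_mono h AV hb)).symm
  have f4 : ∀ h ∈ H, Nat.card A ≤ 4 * Nat.card ↥(A ⊓ C(V ^ᶜ h)) := fun h hh => by
    have := (WD.four w _ (BT _ (inv_mem hh)) (sqB _)).1
    have c := cB h⁻¹
    rw [card_conj] at this
    rw [inv_inv] at c
    exact this.trans (Nat.mul_le_mul_left _ c)
  have nz : ∀ h ∈ H, ∀ b ∈ A ^ᶜ h, b * z ∉ R := fun h hh b hb => key _ inf_le_left (f4 h hh) b (cz h b hb)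
  have f2 : ∀ h ∈ H, Nat.card A ≤ 2 * Nat.card ↥(A ⊓ C(V ^ᶜ h)) := fun h hh => by
    have := (WD.four w _ (BT _ (inv_mem hh)) (sqB _)).2.resolve_right
      fun ⟨a, ha, e⟩ => nz _ (inv_mem hh) a ha e
    have c := cB h⁻¹
    rw [card_conj] at this
    rw [inv_inv] at c
    exact this.trans (Nat.mul_le_mul_left _ c)
  have IR : nclIn A H ≤ C(V) := by
    rw [nclIn_le_iff]
    intro h hh b hb
    apply RC w
    by_contra hb'
    rcases WD.neg w b (BT h hh hb) hb' (sqB h b hb) with e | ⟨s, hs, e⟩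
    · exact nz h hh b hb e
    · have hs' : s * b * s⁻¹ ∈ A ^ᶜ (s * h) := by rw [← conj_conj]; exact conj_mem_conj s hb
      have c4 := card_inf (le_centralizer_of_isElementaryAbelian elA)
        inf_le_left inf_le_left (f2 h hh) (f2 _ (mul_mem (TH hs) hh))
      refine key _ (inf_le_left.trans inf_le_left) c4 (b * (s * b * s⁻¹)) (fun x hx => ?_) e
      have x1 : Commute x b := mem_centralizer_singleton_iff.1 (cz h b hb (mem_inf.1 hx).1)
      have x2 : Commute x (s * b * s⁻¹) := mem_centralizer_singleton_iff.1 (cz _ _ hs' (mem_inf.1 hx).2)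
      exact mem_centralizer_singleton_iff.2 (x1.mul_right x2).eq
  exact nt (commutator_eq_bot_iff_le_centralizer'.2
    (KJ.trans (nclIn_le_centralizer nI (le_centralizer_iff.1 IR)))).le

theorem cen [WD.{u}] (w : Wk T R V z) (hV : ∀ h ∈ H, V ^ᶜ h ≤ T) {h : G} (hh : h ∈ H) : V ^ᶜ h ≤ C(V) := by
  have c : ∀ k ∈ H, Nat.card V ^ 3 * Nat.card ↥(V ⊓ C(V ^ᶜ k)) ≤ Nat.card ↥(V ⊓ C(V ^ᶜ k⁻¹)) ^ 3 * Nat.card V := by
    intro k hk
    have := WD.cube w (V ^ᶜ k) (hV k hk) fun a ha => by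
      rw [← sq, (isElementaryAbelian_map w.el _).2 a ha]; exact one_mem R
    rw [card_conj] at this
    refine this.trans (Nat.mul_le_mul_right _ (Nat.pow_le_pow_left ?_ 3))
    rw [← card_cj, inv_inv]
    exact Subgroup.card_le_of_le (inf_le_inf_left _ (RC w))
  have c1 := c h hh
  have c2 := c h⁻¹ (inv_mem hh)
  rw [inv_inv] at c2
  have p1 : 0 < Nat.card ↥(V ⊓ C(V ^ᶜ h)) := Nat.card_pos
  have p2 : 0 < Nat.card ↥(V ⊓ C(V ^ᶜ h⁻¹)) := Nat.card_pos
  have p3 : 0 < Nat.card V := Nat.card_pos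
  have e : Nat.card V ≤ Nat.card ↥(V ⊓ C(V ^ᶜ h)) := by
    generalize Nat.card ↥(V ⊓ C(V ^ᶜ h)) = a at *
    generalize Nat.card ↥(V ⊓ C(V ^ᶜ h⁻¹)) = b at *
    generalize Nat.card V = n at *
    by_contra! lt
    have d1 : n ^ 2 * a ≤ b ^ 3 := Nat.le_of_mul_le_mul_right (by nlinarith) p3
    have d2 : n ^ 2 * b ≤ a ^ 3 := Nat.le_of_mul_le_mul_right (by nlinarith) p3
    have s : a ^ 2 < n ^ 2 := Nat.pow_lt_pow_left lt two_ne_zero
    rcases le_total a b with l | l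
    · have : a ^ 3 ≤ a ^ 2 * b := by rw [pow_succ]; exact Nat.mul_le_mul_left _ l
      have := (Nat.mul_lt_mul_right p2).2 s
      omega
    · have : b ^ 3 ≤ a ^ 2 * a := by rw [← pow_succ]; exact Nat.pow_le_pow_left l 3
      have := (Nat.mul_lt_mul_right p1).2 s
      omega
  exact le_centralizer_iff.1 ((eq_of_le_of_card_ge inf_le_left e).ge.trans inf_le_right)

end CBx

instance instCB [WD.{u}] [NS.{u}] : CB.{u} where
  le := fun w m => CBx.le w m
  el := fun {G _ _ T R V M₁ H z} w m => by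
    have hV : ∀ h ∈ H, V ^ᶜ h ≤ T := fun h hh =>
      (conj_le_of_mem_normalizer (CBx.le w m) (le_normalizer_pCoreOf 2 H hh)).trans m.syl.pCoreOf_le
    refine isElementaryAbelian_iSup (fun h => isElementaryAbelian_map w.el _) fun h k => ?_
    have := conj_mono (k : G) (CBx.cen w hV (mul_mem (inv_mem k.2) h.2))
    rwa [conj_conj, mul_inv_cancel_left, conj_centralizer] at this

end Cfsg.Agent.Lib.SX
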