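import Cfsg.Agent.Lib.SXDefs

/-! The piece `CI` of S1852. -/

set_option autoImplicit false

namespace Cfsg.Agent.Lib.SXCI

open Cfsg Subgroup Cfsg.Agent.Lib.PCoreConj Cfsg.Agent.Lib.PCore Cfsg.Agent.Lib.PCoreResidual Cfsg.Agent.Lib.PCoreMod
open Cfsg.Agent.Lib.Blk Cfsg.Agent.Lib.PReduced Cfsg.Agent.Lib.PushBase Cfsg.Agent.Lib.ThompsonJ
open scoped Pointwise commutatorElement

universe u

instance instCI : SX.CI.{u} where
  out := by
    intro G _ _ T R M₀ M H hT ec hB hRT hM₀ hRM hTH cH key hz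
    by_contra k
    have sH := hT.of_le hTH le_top
    have eB : Bm 2 R = Bm 2 T := Bm_eq_of_le hB hRT
    have nB : M₀ ≤ N(Bm 2 R) := hRM.trans (normalizer_le_normalizer_Bm 2 R)
    obtain ⟨E, h₁, l₀, h₂, h₃⟩ := exists_lb_in (M₀ := M) cH sH k
      (fun X h₁ h₂ h₃ => inf_le_right.trans (key X (h₁.trans hB) h₂ ((eB ▸ nB).trans h₃))) hz
    have zz : omegaOneCenter 2 T ≤ omegaOneCenter 2 R := fun x hx => by
      have hx' := mem_omegaOneCenter_iff.1 hx
      exact mem_omegaOneCenter_iff.2 ⟨hB (J_le_Bm 2 T (ZJ_le_J 2 T (omegaOneCenter_le_ZJ 2 T hx))),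
        centralizer_anti hRT hx'.2.1, hx'.2.2⟩
    have l : LB R E := ⟨l₀.blk.of_eq eB (fun e => l₀.blk.nz (le_bot_iff.1 ((commutator_mono le_rfl zz).trans e.le))),
      l₀.lin, hT.isPGroup.to_le hRT, eB ▸ l₀.WB, by
        rw [J_eq_of_J_le ((J_le_Bm 2 T).trans hB) hRT]; exact l₀.nc⟩
    have c : nclIn (WE 2 E) M₀ ≤ NC 2 E := le_inf ((nclIn_le l.WB nB).trans l.blk.B_norm) (nclIn_le_iff.2 fun m hm =>
      (conj_WE 2 E m).le.trans (l.match_false hT ec hM₀ hRM hRT (fun t ht => by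
        rw [← conj_WE]
        exact (conj_le_of_mem_normalizer h₃ (le_normalizer_omegaOneCenter
          (hTH.trans (le_normalizer_pCoreOf 2 H)) ht)).trans
            ((le_centralizer_of_isElementaryAbelian (isElementaryAbelian_omegaOneCenter 2 _)).trans
              (centralizer_anti h₃))) hm))
    exact h₂ ((le_normalizer_of_commutator_le (((l.blk.NC_comm' c).trans l.blk.core_two.le).trans
      (le_nclIn _ _))).trans (key _ ((nclIn_le l.WB nB).trans (Bm_le 2 R))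
        (fun e => l.blk.WE_ne_bot (le_bot_iff.1 ((le_nclIn _ _).trans e.le))) (le_normalizer_nclIn _ _)))

end Cfsg.Agent.Lib.SXCI
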