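import Cfsg.Agent.Lib.SXDefs

/-! The core contradiction for S1852. -/

set_option autoImplicit false

namespace Cfsg.Agent.Lib.SXCore

open Cfsg Subgroup Cfsg.Agent.Lib.PCoreConj Cfsg.Agent.Lib.PCore Cfsg.Agent.Lib.PCoreResidual Cfsg.Agent.Lib.PCoreMod
open Cfsg.Agent.Lib.Blk Cfsg.Agent.Lib.PReduced Cfsg.Agent.Lib.PushBase Cfsg.Agent.Lib.ThompsonJ Cfsg.Agent.Lib.PIrred
open Cfsg.Agent.Lib.SX
open scoped Pointwise commutatorElement

universe u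

theorem core [WD.{u}] [NS.{u}] [CB.{u}] [C1.{u}] [C2.{u}] [CI.{u}] {G : Type u} [Group G] [Finite G]
    {T R V M₀ M M' : Subgroup G} {z : G} (hT : IsSylowIn 2 T ⊤)
    (ch : ∀ H : Subgroup G, T ≤ H → pCoreOf 2 H ≠ ⊥ → CharPIn 2 H) (w : Wk T R V z) (hM₀ : T ≤ M₀) (nR : M₀ ≤ N(R))
    (nV : M₀ ≤ N(V)) (key : ∀ Y : Subgroup G, IsPGroup 2 Y → Y ≠ ⊥ → M₀ ≤ N(Y) → (N(Y) : Subgroup G) ≤ M)
    (hM' : T ≤ M') (o' : pCoreOf 2 M' ≠ ⊥) : M' ≤ M := by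
  have RT : R ≤ T := w.R_eq ▸ inf_le_left
  have hB := WD.jle w
  have T0 : T ≠ ⊥ := fun e => w.zR (by
    have := w.zT
    rw [e, mem_bot] at this
    rw [this]; exact one_mem _)
  have V0 : V ≠ ⊥ := fun e => by
    have := w.w2
    rw [e, bot_inf_eq, card_bot] at this
    omega
  have ec : ∀ X : Subgroup G, X ≠ ⊥ → X ≤ T → T ≤ N(X) → CharPIn 2 (N(X) : Subgroup G) := fun X h₁ h₂ h₃ =>
    ch _ h₃ fun e => h₁ (le_bot_iff.1 (e ▸ le_pCoreOf le_normalizer le_rfl (w.pT.to_le h₂)))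
  have NV : (N(V) : Subgroup G) ≤ M := key V (w.pT.to_le w.VT) V0 nV
  have TM : T ≤ M := w.nV.trans NV
  have eJ : J 2 R = J 2 T := J_eq_of_J_le ((J_le_Bm 2 T).trans hB) RT
  have Z0 := omegaOneCenter_ne_bot w.pT T0
  have J0 : J 2 T ≠ ⊥ := fun e => Z0 (le_bot_iff.1 (e ▸ (omegaOneCenter_le_ZJ 2 T).trans (ZJ_le_J 2 T)))
  have NJ : (N(J 2 T) : Subgroup G) ≤ M :=
    key _ (w.pT.to_le (J_le 2 T)) J0 (eJ ▸ nR.trans (normalizer_le_normalizer_J 2 R))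
  suffices hC : (C(omegaOneCenter 2 T) : Subgroup G) ≤ M from
    CI.out hT ec hB RT hM₀ nR hM' (ch _ hM' o') (fun Y h₁ h₂ h₃ => key Y (w.pT.to_le (h₁.trans RT)) h₂ h₃)
      (inf_le_right.trans hC)
  by_contra hC
  have TC : T ≤ C(omegaOneCenter 2 T) := le_centralizer_omegaOneCenter 2 T
  obtain ⟨H, ⟨h₁, h₂, h₃⟩, hmin⟩ := exists_minimal_of_wellFoundedLT
    (fun K : Subgroup G => T ≤ K ∧ K ≤ C(omegaOneCenter 2 T) ∧ ¬ K ≤ M) ⟨_, TC, le_rfl, hC⟩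
  have sH := hT.of_le h₁ le_top
  have oH : pCoreOf 2 H ≠ ⊥ := fun e => Z0 (le_bot_iff.1 (e ▸ le_pCoreOf ((omegaOneCenter_le 2 T).trans h₁)
    (h₂.trans (centralizer_le_normalizer _)) (w.pT.to_le (omegaOneCenter_le 2 T))))
  have mp : Mp T (H ⊓ M) H := ⟨sH, PMinimal.minOver_of_max sH
    (fun e => h₃ (e.trans ((normalizer_le_normalizer_J 2 T).trans NJ)))
    (lt_of_le_of_ne inf_le_left fun e => h₃ (inf_eq_left.1 e)) (le_inf h₁ TM) (fun K k₁ k₂ => le_inf k₂.le (by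
      by_contra k₃
      exact k₂.not_ge (hmin ⟨k₁, k₂.le.trans h₂, k₃⟩ k₂.le))), ch H h₁ oH⟩
  have nJ : ¬ J 2 T ≤ pCoreOf 2 H := fun e => h₃ (((le_normalizer_pCoreOf 2 H).trans
    (J_eq_of_J_le e sH.pCoreOf_le ▸ normalizer_le_normalizer_J 2 (pCoreOf 2 H))).trans NJ)
  have VQ := CB.le w mp
  have el := CB.el w mp
  have nHV : ¬ H ≤ N(V) := fun e => h₃ (e.trans NV)
  by_cases c : ∀ U ≤ nclIn V H, H ≤ N(U) → U ≤ C(pResidualOf 2 H) ∨ ⁅nclIn V H, pResidualOf 2 H⁆ ≤ U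
  · have q := C1.out w mp VQ el nHV c
    have nU : H ≤ N(nclIn V H) := le_normalizer_nclIn V H
    have KH := pResidualOf_le 2 H
    have l : ⁅nclIn V H, pResidualOf 2 H⁆ ≤ nclIn V H := commutator_le_left_of_le_normalizer (KH.trans nU)
    have UQ : nclIn V H ≤ pCoreOf 2 H := nclIn_le VQ (le_normalizer_pCoreOf 2 H)
    have k := NS.nf mp h₂ nJ _ (isElementaryAbelian_of_le el l) (l.trans UQ)
      (le_normalizer_commutator nU (le_normalizer.trans (normalizer_le_normalizer_pResidualOf 2 H))) q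
    have k' := pResidualOf_le_centralizer_of_commutator ((pCoreOf_isPGroup 2 H).to_le UQ) (KH.trans nU) k
    refine nHV ((pResidualOf_sup_of_isSylowIn sH).ge.trans (sup_le ?_ w.nV))
    exact (k'.trans (centralizer_anti (le_nclIn V H))).trans (centralizer_le_normalizer _)
  · push Not at c
    obtain ⟨U, u₁, u₂, u₃, u₄⟩ := c
    exact nJ (C2.out w mp VQ el U u₁ u₂ u₃ u₄)

end Cfsg.Agent.Lib.SXCore
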