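import Cfsg.Agent.Lib.XiE
import Cfsg.Agent.Lib.CgMatch

/-! Interfaces for S1852. -/

set_option autoImplicit false

namespace Cfsg.Agent.Lib.SX

open Cfsg Subgroup Cfsg.Agent.Lib.PCoreConj Cfsg.Agent.Lib.PCore Cfsg.Agent.Lib.ThompsonJ Cfsg.Agent.Lib.PushBase
open Cfsg.Agent.Lib.PIrred Cfsg.Agent.Lib.PReduced Cfsg.Agent.Lib.Blk

universe u

/-- `T / R` looks like an irreducible 2-subgroup of `GL₂(p)`, `z` is `-1` -/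
structure Tb {G : Type u} [Group G] (T R : Subgroup G) (z : G) : Prop where
  zT : z ∈ T
  zR : z ∉ R
  zz : z * z ∈ R
  zc : ∀ t ∈ T, t * z * t⁻¹ * z⁻¹ ∈ R
  cen : ∀ t ∈ T, t ∉ R → t * t ∈ R → (∀ s ∈ T, s * t * s⁻¹ * t⁻¹ ∈ R) → t * z ∈ R
  four : ∀ a ∈ T, ∀ b ∈ T, a ∉ R → b ∉ R → a * a ∈ R → b * b ∈ R → a * b * a⁻¹ * b⁻¹ ∈ R →
    a * b ∈ R ∨ a * z ∈ R ∨ b * z ∈ R ∨ a * b * z ∈ R
  ab : ∀ a ∈ T, a ∉ R → a * a ∈ R → a * z ∉ R → ∀ s ∈ T, ∀ t ∈ T, s * a * s⁻¹ * a⁻¹ ∈ R → t * a * t⁻¹ * a⁻¹ ∈ R →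
    s * t * s⁻¹ * t⁻¹ ∈ R

/-- `T` acts on `V` with kernel `R` and without weak offenders -/
structure Wk {G : Type u} [Group G] (T R V : Subgroup G) (z : G) : Prop extends Tb T R z where
  pT : IsPGroup 2 T
  el : IsElementaryAbelian 2 V
  VT : V ≤ T
  nV : T ≤ N(V)
  R_eq : R = T ⊓ C(V)
  w1 : ∀ t ∈ T, t ∉ R → t * t ∈ R → 8 * Nat.card ↥(V ⊓ centralizer {t}) ≤ Nat.card V
  w2 : 64 * Nat.card ↥(V ⊓ centralizer {z}) ≤ Nat.card V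

/-- a minimal parabolic of characteristic two -/
structure Mp {G : Type u} [Group G] (T M₁ H : Subgroup G) : Prop where
  syl : IsSylowIn 2 T H
  min : MinOver T M₁ H
  ch : CharPIn 2 H

/-- `X`, the module `V` and the kernel `R`; `O₂(X) ⊔ [X,X]` is `O_{2,Φ}(X)` -/
structure Xv {G : Type u} [Group G] (p : ℕ) (X T P M₀ R V : Subgroup G) : Prop extends XiS.E.Xg p X T P where
  pT : IsPGroup 2 T
  XM : X ≤ M₀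
  TM : T ≤ M₀
  nX : M₀ ≤ N(X)
  nV : M₀ ≤ N(V)
  el : IsElementaryAbelian 2 V
  nc : ¬ X ≤ C(V)
  oV : pCoreOf 2 X ≤ C(V)
  R_eq : R = T ⊓ C(V)
  faith : ∀ t ∈ T, t ∈ R ↔ ∀ x ∈ X, t * x * t⁻¹ * x⁻¹ ∈ pCoreOf 2 X ⊔ ⁅X, X⁆

/-- the structure of `T / R` -/
class TF : Prop where
  out : ∀ {G : Type u} [Group G] [Finite G] {p : ℕ} {X T P M₀ R V : Subgroup G}, Xv p X T P M₀ R V →
    ∃ z, Tb T R z ∧ ∀ x ∈ X, z * x * z⁻¹ * x ∈ pCoreOf 2 X ⊔ ⁅X, X⁆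

/-- the bounds for `p ≥ 7` -/
class W7 : Prop where
  w1 : ∀ {G : Type u} [Group G] [Finite G] {p : ℕ} {X T P M₀ R V : Subgroup G}, Xv p X T P M₀ R V → 7 ≤ p →
    ∀ t ∈ T, t ∉ R → t * t ∈ R → 8 * Nat.card ↥(V ⊓ centralizer {t}) ≤ Nat.card V
  w2 : ∀ {G : Type u} [Group G] [Finite G] {p : ℕ} {X T P M₀ R V : Subgroup G}, Xv p X T P M₀ R V → 7 ≤ p →
    ∀ z ∈ T, z * z ∈ R → (∀ x ∈ X, z * x * z⁻¹ * x ∈ pCoreOf 2 X ⊔ ⁅X, X⁆) →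
      64 * Nat.card ↥(V ⊓ centralizer {z}) ≤ Nat.card V

/-- the bound for `p = 5` -/
class W5 : Prop where
  out : ∀ {G : Type u} [Group G] [Finite G] {X T P M₀ R V : Subgroup G}, Xv 5 X T P M₀ R V →
    ∀ r : ℕ, r.Prime → r ≠ 2 → r ≠ 5 → ∀ g ∈ M₀, (∀ x ∈ X, g ^ r * x * (g ^ r)⁻¹ * x⁻¹ ∈ pCoreOf 2 X) →
    (¬ ∀ x ∈ X, g * x * g⁻¹ * x⁻¹ ∈ pCoreOf 2 X) →
    ∀ t ∈ T, t ∉ R → t * t ∈ R → 64 * Nat.card ↥(V ⊓ centralizer {t}) ≤ Nat.card V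

/-- consequences of `Wk` -/
class WD : Prop where
  four : ∀ {G : Type u} [Group G] [Finite G] {T R V : Subgroup G} {z : G}, Wk T R V z → ∀ A ≤ T, (∀ a ∈ A, a * a ∈ R) →
    Nat.card A ≤ 4 * Nat.card ↥(A ⊓ R) ∧ (Nat.card A ≤ 2 * Nat.card ↥(A ⊓ R) ∨ ∃ a ∈ A, a * z ∈ R)
  cube : ∀ {G : Type u} [Group G] [Finite G] {T R V : Subgroup G} {z : G}, Wk T R V z → ∀ A ≤ T, (∀ a ∈ A, a * a ∈ R) →
    Nat.card A ^ 3 * Nat.card ↥(V ⊓ C(A)) ≤ Nat.card ↥(A ⊓ R) ^ 3 * Nat.card V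
  neg : ∀ {G : Type u} [Group G] [Finite G] {T R V : Subgroup G} {z : G}, Wk T R V z → ∀ t ∈ T, t ∉ R → t * t ∈ R →
    t * z ∈ R ∨ ∃ s ∈ T, t * (s * t * s⁻¹) * z ∈ R
  eight : ∀ {G : Type u} [Group G] [Finite G] {T R V : Subgroup G} {z : G}, Wk T R V z → ∀ B : Set G,
    (∀ b ∈ B, b ∈ T ∧ b * b ∈ R) → (∀ b ∈ B, ∀ c ∈ B, b * c * b⁻¹ * c⁻¹ ∈ R ∨ b * c * b⁻¹ * c⁻¹ * z ∈ R) →
    ∀ W W' : Subgroup G, W ≤ closure B → W' ≤ W → W ⊓ R ≤ W' → (∀ w ∈ W, w * w ∈ W') →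
      Nat.card W ≤ 8 * Nat.card W'
  jle : ∀ {G : Type u} [Group G] [Finite G] {T R V : Subgroup G} {z : G}, Wk T R V z → Bm 2 T ≤ R

/-- no over-offenders on sections; offenders need `[Ω₁Z(T), H] ≠ 1` -/
class NS : Prop where
  ns : ∀ {G : Type u} [Group G] [Finite G] {T M₁ H : Subgroup G}, Mp T M₁ H → ∀ U Y : Subgroup G, U ≤ Y →
    Y ≤ pCoreOf 2 H → H ≤ N(U) → H ≤ N(Y) → ¬ ⁅Y, pResidualOf 2 H⁆ ≤ U → ∀ A ≤ T, IsElementaryAbelian 2 A →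
    ∃ W₁ W₂ : Subgroup G, U ≤ W₂ ∧ W₂ ≤ W₁ ∧ W₁ ≤ Y ∧ (∀ w ∈ W₁, w * w ∈ W₂) ∧
      Nat.card A * Nat.card ↥(W₁ ⊓ C(A) ⊔ W₂) ≤ Nat.card ↥(A ⊓ pCoreOf 2 H) * Nat.card W₁
  nf : ∀ {G : Type u} [Group G] [Finite G] {T M₁ H : Subgroup G}, Mp T M₁ H → H ≤ C(omegaOneCenter 2 T) →
    ¬ J 2 T ≤ pCoreOf 2 H → ∀ Y : Subgroup G, IsElementaryAbelian 2 Y → Y ≤ pCoreOf 2 H → H ≤ N(Y) →
    pCoreOf 2 H ≤ C(Y) → pResidualOf 2 H ≤ C(Y)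

/-- `V ≤ O₂(H)` and `⟨V^H⟩` is elementary abelian -/
class CB : Prop where
  le : ∀ {G : Type u} [Group G] [Finite G] {T R V M₁ H : Subgroup G} {z : G}, Wk T R V z → Mp T M₁ H →
    V ≤ pCoreOf 2 H
  el : ∀ {G : Type u} [Group G] [Finite G] {T R V M₁ H : Subgroup G} {z : G}, Wk T R V z → Mp T M₁ H →
    IsElementaryAbelian 2 (nclIn V H)

/-- two noncentral chief factors in `⟨V^H⟩` -/
class C2 : Prop where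
  out : ∀ {G : Type u} [Group G] [Finite G] {T R V M₁ H : Subgroup G} {z : G}, Wk T R V z → Mp T M₁ H →
    V ≤ pCoreOf 2 H → IsElementaryAbelian 2 (nclIn V H) → ∀ U ≤ nclIn V H, H ≤ N(U) →
    ¬ U ≤ C(pResidualOf 2 H) → ¬ ⁅nclIn V H, pResidualOf 2 H⁆ ≤ U → J 2 T ≤ pCoreOf 2 H

/-- one noncentral chief factor in `⟨V^H⟩` -/
class C1 : Prop where
  out : ∀ {G : Type u} [Group G] [Finite G] {T R V M₁ H : Subgroup G} {z : G}, Wk T R V z → Mp T M₁ H →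
    V ≤ pCoreOf 2 H → IsElementaryAbelian 2 (nclIn V H) → ¬ H ≤ N(V) →
    (∀ U ≤ nclIn V H, H ≤ N(U) → U ≤ C(pResidualOf 2 H) ∨ ⁅nclIn V H, pResidualOf 2 H⁆ ≤ U) →
    pCoreOf 2 H ≤ C(⁅nclIn V H, pResidualOf 2 H⁆)

/-- blocks, as in S1823 -/
class CI : Prop where
  out : ∀ {G : Type u} [Group G] [Finite G] {T R M₀ M H : Subgroup G}, IsSylowIn 2 T ⊤ →
    (∀ X : Subgroup G, X ≠ ⊥ → X ≤ T → T ≤ N(X) → CharPIn 2 (N(X) : Subgroup G)) →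
    Bm 2 T ≤ R → R ≤ T → T ≤ M₀ → M₀ ≤ N(R) → T ≤ H → CharPIn 2 H →
    (∀ Y ≤ R, Y ≠ ⊥ → M₀ ≤ N(Y) → (N(Y) : Subgroup G) ≤ M) → H ⊓ C(omegaOneCenter 2 T) ≤ M → H ≤ M

end Cfsg.Agent.Lib.SX
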