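import Cfsg.Agent.Lib.SXDefs

/-! S1852: elementary sections of a subgroup generated by almost commuting involutions. -/

set_option autoImplicit false

namespace Cfsg.Agent.Lib.SXE8

open Cfsg Subgroup Cfsg.Agent.Lib.PCoreConj Cfsg.Agent.Lib.PCore Cfsg.Agent.Lib.PushBase
open Cfsg.Agent.Lib.PCoreResidual Cfsg.Agent.Lib.SX

universe u

section Abs

variable {Γ : Type*} [Group Γ] [Finite Γ] {z : Γ}

theorem idx2 (F C : Subgroup Γ) (h : ∀ x ∈ F, ∀ y ∈ F, x ∉ C → y ∉ C → x⁻¹ * y ∈ C) :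
    Nat.card F ≤ 2 * Nat.card C := by
  by_cases e : F ≤ C
  · have := card_le_of_le e
    omega
  obtain ⟨x, hx, hx'⟩ := SetLike.not_le_iff_exists.1 e
  have k : (F : Set Γ) ⊆ C ∪ (x * ·) '' C := fun y hy =>
    (em (y ∈ C)).imp id fun c => ⟨x⁻¹ * y, h x hx y hy hx' c, by simp⟩
  have k₁ := (Set.ncard_le_ncard k).trans (Set.ncard_union_le _ _)
  have k₂ := Set.ncard_image_le (f := (x * ·)) (s := (C : Set Γ))
  change Nat.card (F : Set Γ) ≤ 2 * Nat.card (C : Set Γ)
  rw [Nat.card_coe_set_eq, Nat.card_coe_set_eq]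
  omega

theorem el4 (zz : z * z = 1)
    (four : ∀ a b : Γ, a ≠ 1 → b ≠ 1 → a * a = 1 → b * b = 1 → a * b = b * a →
      a * b = 1 ∨ a * z = 1 ∨ b * z = 1 ∨ a * b * z = 1)
    (A : Subgroup Γ) (hA : ∀ a ∈ A, a * a = 1) : Nat.card A ≤ 4 := by
  classical
  have iz : z⁻¹ = z := inv_eq_of_mul_eq_one_right zz
  obtain ⟨a, ha⟩ : ∃ a : Γ, ∀ b ∈ A, b = 1 ∨ b = a ∨ b = z ∨ b = a * z := by
    by_cases e : ∃ a ∈ A, a ≠ 1 ∧ a * z ≠ 1
    · obtain ⟨a, h₁, h₂, h₃⟩ := e
      have ia : a⁻¹ = a := inv_eq_of_mul_eq_one_right (hA a h₁)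
      refine ⟨a, fun b hb => (em (b = 1)).imp_right fun b1 => ?_⟩
      have c : a * b = b * a := by
        rw [← inv_eq_of_mul_eq_one_right (hA _ (mul_mem h₁ hb)), mul_inv_rev, ia, inv_eq_of_mul_eq_one_right (hA b hb)]
      rcases four a b h₂ b1 (hA a h₁) (hA b hb) c with k | k | k | k
      · exact Or.inl ((eq_inv_of_mul_eq_one_right k).trans ia)
      · exact absurd k h₃
      · exact Or.inr (Or.inl ((eq_inv_of_mul_eq_one_left k).trans iz))
      · exact Or.inr (Or.inr (by rw [← iz, ← eq_inv_of_mul_eq_one_left k, ← mul_assoc, hA a h₁, one_mul]))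
    · push Not at e
      exact ⟨1, fun b hb => (em (b = 1)).imp_right fun b1 =>
        Or.inr (Or.inl ((eq_inv_of_mul_eq_one_left (e b hb b1)).trans iz))⟩
  have k : (A : Set Γ) ⊆ (({1, a, z, a * z} : Finset Γ) : Set Γ) := fun b hb => by simpa using ha b hb
  have := Set.ncard_le_ncard k
  rw [Set.ncard_coe_finset] at this
  change Nat.card (A : Set Γ) ≤ 4
  rw [Nat.card_coe_set_eq]
  exact this.trans Finset.card_le_four

theorem sixteen (zz : z * z = 1) (zc : ∀ t, t * z = z * t)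
    (four : ∀ a b : Γ, a ≠ 1 → b ≠ 1 → a * a = 1 → b * b = 1 → a * b = b * a →
      a * b = 1 ∨ a * z = 1 ∨ b * z = 1 ∨ a * b * z = 1)
    (ab : ∀ a : Γ, a ≠ 1 → a * a = 1 → a * z ≠ 1 → ∀ s t, s * a = a * s → t * a = a * t → s * t = t * s)
    (B : Set Γ) (h₁ : ∀ b ∈ B, b * b = 1)
    (h₂ : ∀ b ∈ B, ∀ c ∈ B, b * c * b⁻¹ * c⁻¹ = 1 ∨ b * c * b⁻¹ * c⁻¹ * z = 1) : Nat.card (closure B) ≤ 16 := by
  have iz : z⁻¹ = z := inv_eq_of_mul_eq_one_right zz
  let Z : Subgroup Γ :=
    { carrier := {x | x = 1 ∨ x = z}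
      one_mem' := Or.inl rfl
      inv_mem' := by rintro _ (rfl | rfl) <;> simp [iz]
      mul_mem' := by rintro _ _ (rfl | rfl) (rfl | rfl) <;> simp [zz] }
  haveI : Z.Normal := ⟨by
    rintro _ (rfl | rfl) g
    · exact Or.inl (by simp)
    · exact Or.inr (by rw [zc, mul_inv_cancel_right])⟩
  let π := QuotientGroup.mk' Z
  have hπ : ∀ x, π x = 1 ↔ x = 1 ∨ x = z := fun x => QuotientGroup.eq_one_iff x
  have c₀ : ∀ b ∈ B, ∀ c ∈ B, Commute (π b) (π c) := fun b hb c hc => by
    rw [← commutatorElement_eq_one_iff_commute, ← map_commutatorElement, hπ]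
    exact (h₂ b hb c hc).imp id fun e => (eq_inv_of_mul_eq_one_left e).trans iz
  have c₁ : ∀ x ∈ closure B, ∀ y ∈ closure B, Commute (π x) (π y) := fun x hx y hy => by
    induction hx, hy using closure_induction₂ with
    | mem x y hx hy => exact c₀ x hx y hy
    | one_left => simp
    | one_right => simp
    | mul_left x y w _ _ _ a b => simpa using a.mul_left b
    | mul_right x y w _ _ _ a b => simpa using a.mul_right b
    | inv_left x y _ _ a => simpa using a
    | inv_right x y _ _ a => simpa using a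
  have c₂ : ∀ x ∈ closure B, x * x = 1 ∨ x * x = z := fun x hx => by
    rw [← hπ, map_mul]
    induction hx using closure_induction with
    | mem x hx => rw [← map_mul, h₁ x hx, map_one]
    | one => simp
    | mul x y hx hy a b => rw [map_mul, (c₁ y hy x hx).mul_mul_mul_comm, a, b, one_mul]
    | inv x _ a => rw [map_inv, ← mul_inv_rev, a, inv_one]
  by_cases e : ∃ a ∈ B, a ≠ 1 ∧ a * z ≠ 1
  · obtain ⟨a, ha, a1, az⟩ := e
    have cm : ∀ x ∈ closure B ⊓ centralizer {a}, ∀ y ∈ closure B ⊓ centralizer {a}, x * y = y * x :=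
      fun x hx y hy => ab a a1 (h₁ a ha) az x y (mem_centralizer_singleton_iff.1 hx.2)
        (mem_centralizer_singleton_iff.1 hy.2)
    let Ω : Subgroup Γ :=
      { carrier := {x | x ∈ closure B ⊓ centralizer {a} ∧ x * x = 1}
        one_mem' := ⟨one_mem _, by simp⟩
        inv_mem' := fun {x} hx => ⟨inv_mem hx.1, by rw [← mul_inv_rev, hx.2, inv_one]⟩
        mul_mem' := fun {x y} hx hy => ⟨mul_mem hx.1 hy.1, by
          rw [(show Commute y x from cm y hy.1 x hx.1).mul_mul_mul_comm, hx.2, hy.2, one_mul]⟩ }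
    have k₁ := idx2 (closure B) (closure B ⊓ centralizer {a}) fun x hx y hy nx ny => by
      have k : ∀ x ∈ closure B, x ∉ closure B ⊓ centralizer {a} → x * a = z * (a * x) := fun x hx nx => by
        have := c₁ x hx a (subset_closure ha)
        rw [← commutatorElement_eq_one_iff_commute, ← map_commutatorElement, hπ] at this
        rcases this with t | t
        · exact absurd ⟨hx, mem_centralizer_singleton_iff.2 (commutatorElement_eq_one_iff_mul_comm.1 t)⟩ nx
        · rw [← t, commutatorElement_def]; group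
      refine ⟨(closure B).mul_mem ((closure B).inv_mem hx) hy, mem_centralizer_singleton_iff.2 ?_⟩
      calc x⁻¹ * y * a = x⁻¹ * (z * (a * x)) * (x⁻¹ * y) := by rw [mul_assoc, k y hy ny]; group
        _ = _ := by rw [← k x hx nx]; group
    have k₂ := idx2 (closure B ⊓ centralizer {a}) Ω fun x hx y hy nx ny => by
      have kx := (c₂ x hx.1).resolve_left fun t => nx ⟨hx, t⟩
      have ky := (c₂ y hy.1).resolve_left fun t => ny ⟨hy, t⟩
      refine ⟨mul_mem (inv_mem hx) hy, ?_⟩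
      rw [(show Commute y x⁻¹ from cm y hy _ (inv_mem hx)).mul_mul_mul_comm, ← mul_inv_rev, kx, ky, inv_mul_cancel]
    have k₃ := el4 zz four Ω fun a ha => ha.2
    omega
  · push Not at e
    have k : closure B ≤ Z := (closure_le _).2 fun b hb => (em (b = 1)).imp_right fun b1 =>
      (eq_inv_of_mul_eq_one_left (e b hb b1)).trans iz
    have k₁ := card_le_of_le k
    have k₂ := el4 zz four Z (by rintro _ (rfl | rfl) <;> simp [zz])
    omega

end Abs

theorem eight {G : Type u} [Group G] [Finite G] {T R V : Subgroup G} {z : G} (h : Wk T R V z) (B : Set G)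
    (h₁ : ∀ b ∈ B, b ∈ T ∧ b * b ∈ R) (h₂ : ∀ b ∈ B, ∀ c ∈ B, b * c * b⁻¹ * c⁻¹ ∈ R ∨ b * c * b⁻¹ * c⁻¹ * z ∈ R)
    (W W' : Subgroup G) (hW : W ≤ closure B) (hW' : W' ≤ W) (hR : W ⊓ R ≤ W') (sq : ∀ w ∈ W, w * w ∈ W') :
    Nat.card W ≤ 8 * Nat.card W' := by
  haveI : (R.subgroupOf T).Normal := normal_subgroupOf_of_le
    (h.R_eq ▸ le_normalizer_inf le_normalizer (le_normalizer_centralizer h.nV))
  let f := QuotientGroup.mk' (R.subgroupOf T)
  have hf : Function.Surjective f := QuotientGroup.mk'_surjective _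
  have hk : f.ker = R.subgroupOf T := QuotientGroup.ker_mk' _
  have o : ∀ x : T, f x = 1 ↔ (x : G) ∈ R := fun x => QuotientGroup.eq_one_iff x
  have c : ∀ x y : T, f x * f y = f y * f x ↔ (x : G) * y * (x : G)⁻¹ * (y : G)⁻¹ ∈ R := fun x y => by
    rw [← commutatorElement_eq_one_iff_mul_comm, ← map_commutatorElement, o]
    rfl
  have WT : W ≤ T := hW.trans ((closure_le _).2 fun b hb => (h₁ b hb).1)
  have card : ∀ X ≤ T, Nat.card X = Nat.card ((X.subgroupOf T).map f) * Nat.card ↥(X ⊓ R) := fun X hX => by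
    have e := card_eq_card_map_mul f (X.subgroupOf T)
    rwa [hk, show X.subgroupOf T ⊓ R.subgroupOf T = (X ⊓ R).subgroupOf T from rfl,
      Nat.card_congr (subgroupOfEquivOfLe hX).toEquiv,
      Nat.card_congr (subgroupOfEquivOfLe (inf_le_left.trans hX)).toEquiv] at e
  let y : T := ⟨z, h.zT⟩
  have zz : f y * f y = 1 := by rw [← map_mul, o]; exact h.zz
  have four : ∀ a b, a ≠ 1 → b ≠ 1 → a * a = 1 → b * b = 1 → a * b = b * a →
      a * b = 1 ∨ a * f y = 1 ∨ b * f y = 1 ∨ a * b * f y = 1 := fun a b => by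
    obtain ⟨a, rfl⟩ := hf a
    obtain ⟨b, rfl⟩ := hf b
    rw [c]
    simp only [ne_eq, ← map_mul, o]
    exact h.four a a.2 b b.2
  have k : Nat.card ((W.subgroupOf T).map f) ≤ 16 := by
    have k₁ : W.subgroupOf T ≤ closure (T.subtype ⁻¹' B) := by
      rw [← map_le_map_iff_of_injective T.subtype_injective, map_subgroupOf_eq_of_le WT, MonoidHom.map_closure,
        Set.image_preimage_eq_of_subset fun b hb => ⟨⟨b, (h₁ b hb).1⟩, rfl⟩]
      exact hW
    refine (card_le_of_le (map_mono k₁)).trans ?_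
    rw [MonoidHom.map_closure]
    refine sixteen zz (fun t => ?_) four (fun a => ?_) _ ?_ ?_
    · obtain ⟨t, rfl⟩ := hf t
      exact (c t y).2 (h.zc t t.2)
    · obtain ⟨a, rfl⟩ := hf a
      intro a₁ a₂ a₃ s t
      obtain ⟨s, rfl⟩ := hf s
      obtain ⟨t, rfl⟩ := hf t
      rw [c, c, c]
      rw [← map_mul, ne_eq, o] at a₃
      rw [← map_mul, o] at a₂
      exact h.ab a a.2 (fun e => a₁ ((o a).2 e)) a₂ a₃ s s.2 t t.2
    · rintro _ ⟨b, hb, rfl⟩
      rw [← map_mul, o]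
      exact (h₁ _ hb).2
    · rintro _ ⟨b, hb, rfl⟩ _ ⟨d, hd, rfl⟩
      simp only [← map_inv, ← map_mul, o]
      exact h₂ _ hb _ hd
  rw [card W WT, card W' (hW'.trans WT), le_antisymm (le_inf hR inf_le_right) (inf_le_inf_right R hW'), ← mul_assoc]
  refine Nat.mul_le_mul_right _ ?_
  by_cases e : (W'.subgroupOf T).map f = ⊥
  · have := el4 zz four ((W.subgroupOf T).map f) (by
      rintro _ ⟨w, hw, rfl⟩
      rw [← map_mul]
      exact e.le ⟨_, sq _ hw, rfl⟩)
    have : 0 < Nat.card ((W'.subgroupOf T).map f) := Nat.card_pos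
    omega
  · have := (one_lt_card_iff_ne_bot _).2 e
    omega

end Cfsg.Agent.Lib.SXE8
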