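import Cfsg.Agent.Lib.SXSet
import Cfsg.Agent.Lib.SXCore
import Cfsg.Agent.Lib.QZ0
import Cfsg.Agent.S1822

/-! Assembly of S1852 over the interface classes. -/

set_option autoImplicit false

namespace Cfsg.Agent.Lib.SXFin

open Cfsg Subgroup Cfsg.Agent.Lib.PCoreConj Cfsg.Agent.Lib.PCore Cfsg.Agent.Lib.PCoreResidual Cfsg.Agent.Lib.PCoreMod
open Cfsg.Agent.Lib.PReduced Cfsg.Agent.Lib.PushBase Cfsg.Agent.Lib.SX Cfsg.Agent.Lib.XiS.E Cfsg.Agent.Lib.SXSet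
open scoped Pointwise commutatorElement

universe u

theorem exists_max {G : Type u} [Group G] [Finite G] {N : Subgroup G} (h : IsTwoLocal N) :
    ∃ M, IsMaximalTwoLocal M ∧ N ≤ M := by
  obtain ⟨M, hM, hm⟩ := (Set.toFinite {M : Subgroup G | IsTwoLocal M}).exists_le_maximal (a := N) h
  exact ⟨M, ⟨hm.1, fun K hK hle => le_antisymm (hm.2 hK hle) hle⟩, hM⟩

theorem core_ne {G : Type u} [Group G] [Finite G] {M : Subgroup G} (h : IsTwoLocal M) : pCoreOf 2 M ≠ ⊥ := by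
  obtain ⟨Q, hQ, hne, rfl⟩ := h
  intro e
  exact hne (le_bot_iff.1 (e ▸ le_pCoreOf le_normalizer le_rfl hQ))

theorem pow_kr {G : Type u} [Group G] {K : Subgroup G} {c m : G} (hc : c ∈ K) (hm : m ∈ (N(K) : Subgroup G)) (n : ℕ) :
    (c * m) ^ n * (m ^ n)⁻¹ ∈ K := by
  induction n with
  | zero => simp
  | succ n ih =>
    have := mul_mem hc ((mem_normalizer_iff.1 hm _).1 ih)
    convert this using 1
    rw [pow_succ', pow_succ' m]
    group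

theorem fin [TF.{u}] [W7.{u}] [W5.{u}] [WD.{u}] [NS.{u}] [CB.{u}] [C1.{u}] [C2.{u}] [CI.{u}]
    {G : Type u} [Group G] [Finite G] [IsSimpleGroup G]
    (hG : ¬ IsMulCommutative G) (hQ : Cfsg.IsQTKE G) (T : Sylow 2 G) (X : Subgroup G)
    (hT : ∃ M₁ M₂ : Subgroup G, M₁ ∈ Cfsg.maxTwoLocalsContaining (T : Subgroup G) ∧
      M₂ ∈ Cfsg.maxTwoLocalsContaining (T : Subgroup G) ∧ M₁ ≠ M₂)
    (hX : X ∈ Cfsg.XiStar (T : Subgroup G)) (hXf : X ∈ Cfsg.calXf G) :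
    (∀ p : ℕ, p.Prime → p ∣ Nat.card ↥X → p = 2 ∨ p = 3) ∨
    (IsPGroup 5 (↥X ⧸ Cfsg.pCore 2 ↥X) ∧
      ∀ r : ℕ, r.Prime → r ≠ 2 → r ≠ 5 → ∀ g ∈ Subgroup.normalizer (X : Set G),
        (∀ x ∈ X, g ^ r * x * (g ^ r)⁻¹ * x⁻¹ ∈ Cfsg.pCoreTwoOf X) →
          ∀ x ∈ X, g * x * g⁻¹ * x⁻¹ ∈ Cfsg.pCoreTwoOf X) := by
  obtain ⟨p, P, d⟩ := xg hX.1
  have sT := isSylowIn_top T
  have ch : ∀ H : Subgroup G, (T : Subgroup G) ≤ H → pCoreOf 2 H ≠ ⊥ → CharPIn 2 H := QZ.q0_ch2 hQ T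
  have v := setup sT ch hX.1 hXf.2 d
  have hU := S1822.result hG hQ T X hX
  have nk : (N(X) : Subgroup G) ≤ N(kr X (pCoreOf 2 X)) := (le_inf le_rfl NO).trans norm_kr
  have sR : IsSylowIn 2 ((T : Subgroup G) ⊓ kr X (pCoreOf 2 X)) (kr X (pCoreOf 2 X)) :=
    (sT.of_le hX.1.2.1 le_top).inf_normal (fun _ h => h.1) nk
  generalize (T : Subgroup G) ⊓ kr X (pCoreOf 2 X) = R at v sR
  obtain ⟨z, tb, inv⟩ := TF.out v
  have main : (∀ t ∈ (T : Subgroup G), t ∉ R → t * t ∈ R →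
      8 * Nat.card ↥(nclIn (omegaOneCenter 2 (T : Subgroup G)) (N(X) ⊓ N(R)) ⊓ centralizer {t}) ≤
        Nat.card (nclIn (omegaOneCenter 2 (T : Subgroup G)) (N(X) ⊓ N(R)))) →
      64 * Nat.card ↥(nclIn (omegaOneCenter 2 (T : Subgroup G)) (N(X) ⊓ N(R)) ⊓ centralizer {z}) ≤
        Nat.card (nclIn (omegaOneCenter 2 (T : Subgroup G)) (N(X) ⊓ N(R))) → False := fun w1 w2 => by
    have VT : nclIn (omegaOneCenter 2 (T : Subgroup G)) (N(X) ⊓ N(R)) ≤ T :=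
      sT.le_of_le_normalizer' le_top (isPGroup_of_isElementaryAbelian v.el) (v.TM.trans v.nV)
    have w : Wk (T : Subgroup G) R _ z := ⟨tb, v.pT, v.el, VT, v.TM.trans v.nV, v.R_eq, w1, w2⟩
    have uq : ∀ K, IsMaximalTwoLocal K → X ⊔ (T : Subgroup G) ≤ K → K = N(X) := fun K hK hle => by
      have e1 : K ∈ maxTwoLocalsContaining (X ⊔ (T : Subgroup G)) := ⟨hK, hle⟩
      rw [hU] at e1
      exact e1
    have hm : (N(X) : Subgroup G) ∈ maxTwoLocalsContaining (X ⊔ (T : Subgroup G)) := by rw [hU]; rfl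
    have all : ∀ M' ∈ maxTwoLocalsContaining (T : Subgroup G), M' = N(X) := fun M' hM' =>
      (hM'.1.2 _ hm.1.1 (SXCore.core sT ch w v.TM inf_le_right v.nV (fun Y h1 h2 h3 => by
        obtain ⟨K, hK, hle⟩ := exists_max ⟨Y, h1, h2, rfl⟩
        exact uq K hK (((sup_le v.XM v.TM).trans h3).trans hle) ▸ hle) hM'.2 (core_ne hM'.1.1))).symm
    obtain ⟨M₁, M₂, h₁, h₂, hne⟩ := hT
    exact hne ((all M₁ h₁).trans (all M₂ h₂).symm)
  have hq : IsPGroup p (X ⧸ pCore 2 X) := fun y => by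
    obtain ⟨x, rfl⟩ := QuotientGroup.mk'_surjective _ y
    refine ⟨1, ?_⟩
    rw [pow_one]
    refine pow_mem d _ (fun x hx => (QuotientGroup.eq_one_iff x).2 ?_) x
    obtain ⟨y, hy, e⟩ := hx
    exact (Subtype.ext e : y = x) ▸ hy
  have hp := d.hp
  by_cases h3 : p = 3
  · subst h3
    refine Or.inl fun q hq' hd => ?_
    rw [card_eq_card_quotient_mul_card_subgroup (pCore 2 X)] at hd
    haveI : Fact (Nat.Prime 3) := ⟨Nat.prime_three⟩
    rcases (Nat.Prime.dvd_mul hq').1 hd with h | h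
    · obtain ⟨n, hn⟩ := IsPGroup.iff_card.1 hq
      exact Or.inr ((Nat.prime_dvd_prime_iff_eq hq' Nat.prime_three).1 (hq'.dvd_of_dvd_pow (hn ▸ h)))
    · obtain ⟨n, hn⟩ := IsPGroup.iff_card.1 (pCore_isPGroup 2 X)
      exact Or.inl ((Nat.prime_dvd_prime_iff_eq hq' Nat.prime_two).1 (hq'.dvd_of_dvd_pow (hn ▸ h)))
  by_cases h5 : p = 5
  · subst h5
    refine Or.inr ⟨hq, fun r hr r2 r5 g hg hgr => ?_⟩
    by_contra k
    obtain ⟨c, hc, m, hm, rfl⟩ := sR.frattini (nk hg)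
    have mX : m ∈ (N(X) : Subgroup G) := (mul_mem_cancel_left hc.1).1 hg
    have k1 : (c * m) ^ r ∈ kr X (pCoreOf 2 X) := ⟨pow_mem hg r, NO (pow_mem hg r), hgr⟩
    have k2 : m ^ r ∈ kr X (pCoreOf 2 X) := by
      have := mul_mem (inv_mem (pow_kr hc (nk mX) r)) k1
      convert this using 1
      group
    have k3 : ¬ ∀ x ∈ X, m * x * m⁻¹ * x⁻¹ ∈ pCoreOf 2 X := fun e =>
      k (mul_mem hc (show m ∈ kr X (pCoreOf 2 X) from ⟨mX, NO mX, e⟩)).2.2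
    have w := W5.out v r hr r2 r5 m ⟨mX, hm⟩ k2.2.2 k3
    exact main (fun t h₁ h₂ h₃ => le_trans (Nat.mul_le_mul_right _ (by norm_num)) (w t h₁ h₂ h₃))
      (w z tb.zT tb.zR tb.zz)
  have h7 : 7 ≤ p := by
    have := hp.two_le
    have h2 := d.p2
    have h4 : p ≠ 4 := fun e => by rw [e] at hp; exact absurd hp (by decide)
    have h6 : p ≠ 6 := fun e => by rw [e] at hp; exact absurd hp (by decide)
    omega
  exact (main (W7.w1 v h7) (W7.w2 v h7 z tb.zT tb.zz inv)).elim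

end Cfsg.Agent.Lib.SXFin
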