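import Cfsg.Agent.Lib.SXDefs

/-! An involution inverting an element of odd prime order on an elementary abelian 2-group. -/

set_option autoImplicit false
set_option linter.style.haveILetI false

namespace Cfsg.Agent.Lib.SXL

open Cfsg Subgroup Cfsg.Agent.Lib.PCoreConj Cfsg.Agent.Lib.PCore

/-- fixed points -/
def Fix {A : Type*} [Group A] (σ : MulAut A) : Subgroup A := (σ : A →* A).eqLocus (MonoidHom.id A)

theorem mem_Fix {A : Type*} [Group A] {σ : MulAut A} {a : A} : a ∈ Fix σ ↔ σ a = a := Iff.rfl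

theorem core {A : Type*} [CommGroup A] [Finite A] (sq : ∀ a : A, a * a = 1) (τ ξ : MulAut A) {p : ℕ} (hp : p.Prime)
    (p2 : p ≠ 2) (hτ : τ * τ = 1) (hξ : ξ ^ p = 1) (hi : τ * ξ * τ⁻¹ * ξ = 1) (nc : ξ ≠ 1) :
    ∃ e, 1 ≤ e ∧ p ∣ 4 ^ e - 1 ∧ 2 ^ e * Nat.card (Fix τ) ≤ Nat.card A ∧ 4 ^ e * Nat.card (Fix ξ) = Nat.card A := by
  classical
  haveI := Fact.mk hp
  obtain ⟨k, hk⟩ := hp.odd_of_ne_two p2
  have iv : ∀ a : A, a⁻¹ = a := fun a => inv_eq_of_mul_eq_one_right (sq a)
  have tt : ∀ a, τ (τ a) = a := fun a => DFunLike.congr_fun hτ a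
  have hτ' : τ⁻¹ = τ := inv_eq_of_mul_eq_one_right hτ
  have ii : ∀ a, τ (ξ (τ (ξ a))) = a := fun a => by
    have := DFunLike.congr_fun hi a
    rwa [hτ'] at this
  let φ : A →* A := (ξ : A →* A) * MonoidHom.id A
  have hφ : ∀ a, φ a = ξ a * a := fun a => rfl
  have kφ : φ.ker = Fix ξ := by
    ext a
    rw [MonoidHom.mem_ker, hφ, mem_Fix, mul_eq_one_iff_eq_inv, iv]
  have fpf : ∀ w ∈ φ.range, ξ w = w → w = 1 := by
    rintro _ ⟨u, rfl⟩ hw
    have h1 : ∀ n : ℕ, (ξ ^ n) u = φ u ^ n * u := fun n => by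
      induction n with
      | zero => simp
      | succ n ih =>
        rw [pow_succ', MulAut.mul_apply, ih, map_mul, map_pow, hw, pow_succ, mul_assoc, hφ u, mul_assoc, sq, mul_one]
    have h2 := h1 p
    rw [hξ, MulAut.one_apply, hk, pow_succ, pow_mul, pow_two, sq, one_pow, one_mul] at h2
    exact mul_eq_right.1 h2.symm
  have rξ : ∀ w ∈ φ.range, ξ w ∈ φ.range := by
    rintro _ ⟨u, rfl⟩
    exact ⟨ξ u, by rw [hφ, hφ, map_mul]⟩
  have rτ : ∀ w ∈ φ.range, τ w ∈ φ.range := by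
    rintro _ ⟨u, rfl⟩
    refine ⟨τ (ξ u), ?_⟩
    have := congrArg τ (ii u)
    rw [tt] at this
    rw [hφ, hφ, map_mul, this, mul_comm]
  -- the order of the range
  have c1 : Nat.card φ.range * Nat.card (Fix ξ) = Nat.card A := by
    rw [← kφ, ← index_ker, index_mul_card]
  let F : Subgroup A := φ.range ⊓ Fix τ
  have c2 : Nat.card F * Nat.card F ≤ Nat.card φ.range := by
    have hd : F.map (ξ : A →* A) ⊓ F = ⊥ := by
      refine eq_bot_iff.2 ?_
      rintro _ ⟨⟨a, ha, rfl⟩, hb⟩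
      have h1 := ii a
      rw [show τ (ξ a) = ξ a from hb.2] at h1
      have h2 : ξ (ξ a) = a := by
        have := congrArg τ h1
        rwa [tt, show τ a = a from ha.2] at this
      have h3 : ∀ n : ℕ, (ξ ^ (2 * n)) a = a := fun n => by
        induction n with
        | zero => simp
        | succ n ih => rw [mul_add, mul_one, pow_add, MulAut.mul_apply, pow_two, MulAut.mul_apply, h2, ih]
      have h4 := DFunLike.congr_fun hξ a
      rw [hk, pow_succ', MulAut.mul_apply, h3, MulAut.one_apply] at h4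
      rw [mem_bot, fpf a ha.1 h4, map_one]
    have h5 := card_sup_mul_card_inf (H := F.map (ξ : A →* A)) (N := F) le_normalizer_of_normal
    rw [hd, card_bot, mul_one, card_map_of_injective ξ.injective] at h5
    rw [← h5]
    exact card_le_of_le (sup_le (map_le_iff_le_comap.2 fun a ha => rξ a ha.1) inf_le_left)
  have c3 : Nat.card φ.range ≤ Nat.card F * Nat.card F := by
    let ψ : A →* A := (τ : A →* A) * MonoidHom.id A
    have hψ : ∀ a, ψ a = τ a * a := fun a => rfl
    have kψ : ψ.ker = Fix τ := by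
      ext a
      rw [MonoidHom.mem_ker, hψ, mem_Fix, mul_eq_one_iff_eq_inv, iv]
    rw [PCoreResidual.card_eq_card_map_mul ψ φ.range, kψ]
    refine Nat.mul_le_mul_right _ (card_le_of_le ?_)
    rintro _ ⟨a, ha, rfl⟩
    exact ⟨mul_mem (rτ a ha) ha, by
      show τ (τ a * a) = τ a * a
      rw [map_mul, tt, mul_comm]⟩
  have c4 := le_antisymm c3 c2
  obtain ⟨e, he⟩ : ∃ e, Nat.card F = 2 ^ e := IsPGroup.iff_card.1 fun a => ⟨1, Subtype.ext (by
    simpa [pow_two] using sq a)⟩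
  have c5 : Nat.card φ.range = 4 ^ e := by rw [c4, he, ← mul_pow]; rfl
  refine ⟨e, ?_, ?_, ?_, by rw [← c5, c1]⟩
  · by_contra h0
    rw [show e = 0 by omega, pow_zero, card_eq_one] at c5
    refine nc (MulEquiv.ext fun a => ?_)
    exact mem_Fix.1 (kφ.le (mem_bot.1 (c5.le ⟨a, rfl⟩)))
  · letI : Fintype φ.range := Fintype.ofFinite _
    let f : Function.End φ.range := fun w => ⟨ξ w, rξ w w.2⟩
    have hf : ∀ (n : ℕ) (w : φ.range), ((f ^ n) w : A) = (ξ ^ n) w := fun n => by
      induction n with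
      | zero => intro w; rfl
      | succ n ih => intro w; rw [pow_succ, pow_succ, MulAut.mul_apply]; exact ih (f w)
    have h1 := Equiv.Perm.card_fixedPoints_modEq (f := f) (p := p) (n := 1)
      (funext fun w => Subtype.ext (by rw [hf, pow_one, hξ]; rfl))
    have h2 : Fintype.card f.fixedPoints = 1 := Fintype.card_eq_one_iff.2
      ⟨⟨1, Subtype.ext (map_one ξ)⟩, fun w => Subtype.ext (Subtype.ext (fpf _ w.1.2 (congrArg Subtype.val w.2)))⟩
    rw [h2, ← Nat.card_eq_fintype_card, c5] at h1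
    exact (Nat.modEq_iff_dvd' (Nat.one_le_pow _ _ (by norm_num))).1 h1.symm
  · have h5 := card_sup_mul_card_inf (H := φ.range) (N := Fix τ) le_normalizer_of_normal
    rw [show Nat.card ↥(φ.range ⊓ Fix τ) = 2 ^ e from he, c4, he] at h5
    have h6 : Nat.card ↥(φ.range ⊔ Fix τ) ≤ Nat.card A := Nat.card_le_card_of_injective _ Subtype.val_injective
    refine le_trans (le_of_eq (Nat.eq_of_mul_eq_mul_right (m := 2 ^ e) (by positivity) ?_)) h6
    rw [h5]; ring

theorem card_Fix {G : Type*} [Group G] (U : Subgroup G) {t : G} (ht : t ∈ normalizer (U : Set G)) :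
    Nat.card (Fix (U.normalizerMonoidHom ⟨t, ht⟩)) = Nat.card ↥(U ⊓ centralizer {t}) := by
  rw [← card_map_of_injective U.subtype_injective]
  congr 2
  ext u
  constructor
  · rintro ⟨v, hv, rfl⟩
    exact ⟨v.2, mem_centralizer_singleton_iff.2
      (mul_inv_eq_iff_eq_mul.1 (congrArg Subtype.val (mem_Fix.1 hv))).symm⟩
  · intro hu
    exact ⟨⟨u, hu.1⟩, mem_Fix.2 (Subtype.ext
      (mul_inv_eq_iff_eq_mul.2 (mem_centralizer_singleton_iff.1 hu.2).symm)), rfl⟩

/-- the lemma `L(U)` -/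
theorem L {G : Type*} [Group G] {U : Subgroup G} [Finite U] {t x : G} {p : ℕ} (hp : p.Prime) (p2 : p ≠ 2)
    (el : IsElementaryAbelian 2 U) (ht : t ∈ normalizer (U : Set G)) (hx : x ∈ normalizer (U : Set G))
    (tt : t * t ∈ centralizer (U : Set G)) (xp : x ^ p ∈ centralizer (U : Set G))
    (inv : t * x * t⁻¹ * x ∈ centralizer (U : Set G)) (nc : x ∉ centralizer (U : Set G)) :
    ∃ e, 1 ≤ e ∧ p ∣ 4 ^ e - 1 ∧ 2 ^ e * Nat.card ↥(U ⊓ centralizer {t}) ≤ Nat.card U ∧
      4 ^ e * Nat.card ↥(U ⊓ centralizer {x}) = Nat.card U := by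
  haveI := el.1
  have k : ∀ g : normalizer (U : Set G), U.normalizerMonoidHom g = 1 ↔ (g : G) ∈ centralizer (U : Set G) := fun g => by
    rw [← MonoidHom.mem_ker, normalizerMonoidHom_ker, mem_subgroupOf]
  rw [← card_Fix U ht, ← card_Fix U hx]
  letI : CommGroup U := { (inferInstance : Group U) with mul_comm := fun a b => el.1.is_comm.comm a b }
  exact core (fun a => Subtype.ext (by simpa [pow_two] using el.2 a a.2)) _ _ hp p2
    (by rw [← map_mul, k]; exact tt) (by rw [← map_pow, k]; exact xp)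
    (by rw [← map_inv, ← map_mul, ← map_mul, ← map_mul, k]; exact inv) fun e => nc ((k _).1 e)

end Cfsg.Agent.Lib.SXL
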