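import Cfsg.Agent.Lib.SXDefs
import Cfsg.Agent.Lib.QZX2
import Cfsg.Agent.Lib.FTBase5

/-! The setup for S1852. -/

set_option autoImplicit false
set_option linter.unusedSectionVars false

namespace Cfsg.Agent.Lib.SXSet

open Cfsg Subgroup Cfsg.Agent.Lib.PCoreConj Cfsg.Agent.Lib.PCore Cfsg.Agent.Lib.PCoreResidual Cfsg.Agent.Lib.PCoreMod
open Cfsg.Agent.Lib.PReduced Cfsg.Agent.Lib.PushBase Cfsg.Agent.Lib.SX Cfsg.Agent.Lib.XiS.E
open scoped Pointwise commutatorElement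

universe u

variable {G : Type u} [Group G]

/-- the kernel of the action on `X / O` -/
def kr (X O : Subgroup G) : Subgroup G where
  carrier := {g | g ∈ (N(X) : Subgroup G) ∧ g ∈ (N(O) : Subgroup G) ∧ ∀ x ∈ X, g * x * g⁻¹ * x⁻¹ ∈ O}
  one_mem' := ⟨one_mem _, one_mem _, fun x _ => by simp⟩
  mul_mem' := by
    rintro g h ⟨g₁, g₂, g₃⟩ ⟨h₁, h₂, h₃⟩
    refine ⟨mul_mem g₁ h₁, mul_mem g₂ h₂, fun x hx => ?_⟩
    have := mul_mem ((mem_normalizer_iff.1 g₂ _).1 (h₃ x hx)) (g₃ x hx)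
    convert this using 1
    group
  inv_mem' := by
    rintro g ⟨g₁, g₂, g₃⟩
    refine ⟨inv_mem g₁, inv_mem g₂, fun x hx => ?_⟩
    have := (mem_normalizer_iff.1 (inv_mem g₂) _).1 (inv_mem (g₃ x hx))
    convert this using 1
    group

theorem norm_kr [Finite G] {X O : Subgroup G} : (N(X) : Subgroup G) ⊓ N(O) ≤ N(kr X O) := by
  intro h hh
  apply mem_normalizer_fintype
  rintro g ⟨g₁, g₂, g₃⟩
  refine ⟨mul_mem (mul_mem hh.1 g₁) (inv_mem hh.1), mul_mem (mul_mem hh.2 g₂) (inv_mem hh.2), fun x hx => ?_⟩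
  have := (mem_normalizer_iff.1 hh.2 _).1 (g₃ _ ((mem_normalizer_iff.1 (inv_mem hh.1) x).1 hx))
  convert this using 1
  group

variable [Finite G] {p : ℕ} {X T P : Subgroup G}

theorem pow_mem (d : Xg p X T P) {H : Type u} [Group H] (f : X →* H) (hf : ∀ x : X, (x : G) ∈ pCoreOf 2 X → f x = 1)
    (x : X) : f x ^ p = 1 := by
  obtain ⟨o, ho, y, hy, e⟩ := (mem_sup_iff_of_le_normalizer' (d.PX.trans (le_normalizer_pCoreOf 2 X))).1 (d.XO.le x.2)
  have : x = ⟨o, pCoreOf_le 2 X ho⟩ * ⟨y, d.PX hy⟩ := Subtype.ext e.symm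
  rw [this, map_mul, hf _ ho, one_mul, ← map_pow]
  have : (⟨y, d.PX hy⟩ : X) ^ p = 1 := Subtype.ext (d.ex y hy)
  rw [this, map_one]

theorem NO : (N(X) : Subgroup G) ≤ N(pCoreOf 2 X) := normalizer_le_normalizer_pCoreOf 2 X

theorem NF : (N(X) : Subgroup G) ≤ N(pCoreOf 2 X ⊔ ⁅X, X⁆) :=
  le_normalizer_sup NO (le_normalizer_commutator le_rfl le_rfl)

theorem burnside (d : Xg p X T P) (hT : IsPGroup 2 T) : T ⊓ kr X (pCoreOf 2 X ⊔ ⁅X, X⁆) ≤ kr X (pCoreOf 2 X) := by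
  haveI : ((pCoreOf 2 X).subgroupOf (N(X) : Subgroup G)).Normal := normal_subgroupOf_of_le NO
  let φ := QuotientGroup.mk' ((pCoreOf 2 X).subgroupOf (N(X) : Subgroup G))
  have hφ : ∀ g : (N(X) : Subgroup G), φ g = 1 ↔ (g : G) ∈ pCoreOf 2 X := fun g => QuotientGroup.eq_one_iff g
  have hQ : IsPGroup p ((X.subgroupOf (N(X) : Subgroup G)).map φ) := by
    rintro ⟨_, x, hx, rfl⟩
    refine ⟨1, Subtype.ext ?_⟩
    have : φ x ^ p = 1 := pow_mem d (φ.comp (inclusion le_normalizer)) (fun y hy => (hφ _).2 hy) ⟨x, hx⟩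
    simpa using this
  have hA : IsPGroup 2 (((T ⊓ kr X (pCoreOf 2 X ⊔ ⁅X, X⁆)).subgroupOf (N(X) : Subgroup G)).map φ) :=
    (isPGroup_subgroupOf (hT.to_le inf_le_left) _).map φ
  have key := QZX2.burn d.hp d.p2 hQ hA (by
    rw [commutator_le]
    rintro _ ⟨x, hx, rfl⟩ _ ⟨t, ht, rfl⟩
    obtain ⟨o, ho, c, hc, e⟩ := (mem_sup_iff_of_le_normalizer' ((commutator_le_left_of_le_normalizer le_normalizer).trans
      (le_normalizer_pCoreOf 2 X))).1 (inv_mem (ht.2.2.2 x hx))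
    have hcX : c ∈ X := commutator_le_left_of_le_normalizer le_normalizer hc
    have e' : ⁅x, t⁆ = ⟨o, le_normalizer (pCoreOf_le 2 X ho)⟩ * ⟨c, le_normalizer hcX⟩ := Subtype.ext (by
      simp only [commutatorElement_def, coe_mul, coe_inv]
      rw [e, coe_subtype]; group)
    rw [← map_commutatorElement, e', map_mul, (hφ _).2 ho, one_mul, ← map_commutator]
    refine mem_map_of_mem φ ?_
    rw [← sub_comm le_normalizer]
    exact hc)
  intro t ht
  refine ⟨ht.2.1, NO ht.2.1, fun x hx => ?_⟩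
  have := key.le (commutator_mem_commutator (mem_map_of_mem φ (x := ⟨x, le_normalizer hx⟩) hx)
    (mem_map_of_mem φ (x := ⟨t, ht.2.1⟩) ht))
  rw [mem_bot, ← map_commutatorElement, hφ] at this
  have := inv_mem this
  simp only [commutatorElement_def, coe_mul, coe_inv] at this
  convert this using 1
  group

theorem res (hX : X ∈ Xi T) : pResidualOf 2 X = X := by
  have e : oddGenerated X = pResidualOf 2 X := by
    rw [pResidualOf_eq_closure, oddGenerated]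
    simp only [Nat.coprime_two_right]
  rw [← e, hX.1]

theorem setup (hT : IsSylowIn 2 T ⊤) (ch : ∀ H : Subgroup G, T ≤ H → pCoreOf 2 H ≠ ⊥ → CharPIn 2 H)
    (hX : X ∈ Xi T) (hf : moduleV X ≠ ⊥) (d : Xg p X T P) :
    Xv p X T P (N(X) ⊓ N(T ⊓ kr X (pCoreOf 2 X))) (T ⊓ kr X (pCoreOf 2 X))
      (nclIn (omegaOneCenter 2 T) (N(X) ⊓ N(T ⊓ kr X (pCoreOf 2 X)))) := by
  have TN : T ≤ N(X) := hX.2.1
  have nk : (N(X) : Subgroup G) ≤ N(kr X (pCoreOf 2 X)) := (le_inf le_rfl NO).trans norm_kr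
  have OT : pCoreOf 2 X ≤ T := hT.le_of_le_normalizer' le_top (pCoreOf_isPGroup 2 X) (TN.trans NO)
  have OR : pCoreOf 2 X ≤ T ⊓ kr X (pCoreOf 2 X) := le_inf OT fun o ho =>
    ⟨le_normalizer (pCoreOf_le 2 X ho), le_normalizer ho, fun x hx => by
      have := mul_mem ho ((mem_normalizer_iff.1 (le_normalizer_pCoreOf 2 X hx) _).1 (inv_mem ho))
      convert this using 1
      group⟩
  generalize hR : T ⊓ kr X (pCoreOf 2 X) = R at OR ⊢
  have RT : R ≤ T := hR ▸ inf_le_left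
  have Rk : R ≤ kr X (pCoreOf 2 X) := hR ▸ inf_le_right
  have XR : X ≤ N(R) := fun x hx => mem_normalizer_fintype fun r hr => by
    have := mul_mem (OR (inv_mem ((Rk hr).2.2 x hx))) hr
    rwa [show (r * x * r⁻¹ * x⁻¹)⁻¹ * r = x * r * x⁻¹ by group] at this
  have TR : T ≤ N(R) := hR ▸ le_normalizer_inf le_normalizer (TN.trans nk)
  generalize hM : (N(X) : Subgroup G) ⊓ N(R) = M₀
  have XM : X ≤ M₀ := hM ▸ le_inf le_normalizer XR
  have TM : T ≤ M₀ := hM ▸ le_inf TN TR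
  have MX : M₀ ≤ N(X) := hM ▸ inf_le_left
  have MR : M₀ ≤ N(R) := hM ▸ inf_le_right
  have sM := hT.of_le TM le_top
  have eW : moduleV X = ⁅omegaOneCenter 2 (pCoreOf 2 X), X⁆ := rfl
  have O0 : pCoreOf 2 X ≠ ⊥ := fun e => hf (by
    rw [eW, ← le_bot_iff]
    exact (commutator_le_left_of_le_normalizer (le_normalizer_omegaOneCenter (le_normalizer_pCoreOf 2 X))).trans
      ((omegaOneCenter_le 2 _).trans e.le))
  have RO : R ≤ pCoreOf 2 M₀ := le_pCoreOf (RT.trans TM) MR (hT.isPGroup.to_le RT)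
  have OM : pCoreOf 2 M₀ ≤ R := hR ▸ le_inf sM.pCoreOf_le fun o ho =>
    ⟨MX (pCoreOf_le 2 _ ho), NO (MX (pCoreOf_le 2 _ ho)), fun x hx => pCoreOf_inf_le XM (mem_inf.2 ⟨by
      have := mul_mem ho ((mem_normalizer_iff.1 (le_normalizer_pCoreOf 2 M₀ (XM hx)) _).1 (inv_mem ho))
      convert this using 1
      group, mul_mem ((mem_normalizer_iff.1 (MX (pCoreOf_le 2 _ ho)) _).1 hx) (inv_mem hx)⟩)⟩
  have cM := ch M₀ TM fun e => O0 (le_bot_iff.1 (e ▸ OR.trans RO))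
  have ZC : omegaOneCenter 2 T ≤ C(T) := le_centralizer_iff.1 (le_centralizer_omegaOneCenter 2 T)
  have ZR : omegaOneCenter 2 T ≤ omegaOneCenter 2 R := fun x hx => by
    have hx' := mem_omegaOneCenter_iff.1 hx
    exact mem_omegaOneCenter_iff.2 ⟨OM (cM ⟨TM hx'.1, centralizer_anti sM.pCoreOf_le hx'.2.1⟩),
      centralizer_anti RT hx'.2.1, hx'.2.2⟩
  have VR : nclIn (omegaOneCenter 2 T) M₀ ≤ omegaOneCenter 2 R := nclIn_le ZR (le_normalizer_omegaOneCenter MR)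
  have nV : M₀ ≤ N(nclIn (omegaOneCenter 2 T) M₀) := le_normalizer_nclIn _ _
  have ZV : omegaOneCenter 2 T ≤ nclIn (omegaOneCenter 2 T) M₀ := le_nclIn _ _
  generalize nclIn (omegaOneCenter 2 T) M₀ = V at VR nV ZV ⊢
  have RV : R ≤ C(V) := (le_centralizer_omegaOneCenter 2 R).trans (centralizer_anti VR)
  have nc : ¬ X ≤ C(V) := fun e => by
    have nW : (N(X) : Subgroup G) ≤ N(omegaOneCenter 2 (pCoreOf 2 X)) := le_normalizer_omegaOneCenter NO
    have l : moduleV X ≤ omegaOneCenter 2 (pCoreOf 2 X) := commutator_le_left_of_le_normalizer (le_normalizer.trans nW)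
    have h1 := inf_omegaOneCenter_ne_bot hT.isPGroup (l.trans ((omegaOneCenter_le 2 _).trans OT))
      (le_normalizer_commutator (TN.trans nW) TN) hf
    have hP : IsPGroup p P := fun x => ⟨1, Subtype.ext (by simpa using d.ex x x.2)⟩
    haveI := Fact.mk d.hp
    have h2 := FTDefs.cop_comm_inf_cent_of_comm (K := omegaOneCenter 2 (pCoreOf 2 X)) (A := P)
      (isElementaryAbelian_omegaOneCenter 2 _).1 (d.PX.trans (le_normalizer.trans nW))
      (IsPGroup.coprime_card_of_ne 2 p d.p2.symm _ _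
        (isPGroup_of_isElementaryAbelian (isElementaryAbelian_omegaOneCenter 2 _)) hP)
    have h3 : moduleV X ≤ ⁅omegaOneCenter 2 (pCoreOf 2 X), P⁆ := by
      rw [eW, commutator_le]
      intro w hw x hx
      obtain ⟨o, ho, y, hy, rfl⟩ := (mem_sup_iff_of_le_normalizer' (d.PX.trans (le_normalizer_pCoreOf 2 X))).1 (d.XO.le hx)
      have c1 : o * w = w * o := (mem_omegaOneCenter_iff.1 hw).2.1 o ho
      have m := commutator_mem_commutator hw hy
      have c2 : o * ⁅w, y⁆ = ⁅w, y⁆ * o := (mem_omegaOneCenter_iff.1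
        (commutator_le_left_of_le_normalizer (d.PX.trans (le_normalizer.trans nW)) m)).2.1 o ho
      have : ⁅w, o * y⁆ = ⁅w, y⁆ := by
        calc ⁅w, o * y⁆ = (w * o) * y * w⁻¹ * y⁻¹ * o⁻¹ := by rw [commutatorElement_def]; group
          _ = o * ⁅w, y⁆ * o⁻¹ := by rw [← c1, commutatorElement_def]; group
          _ = ⁅w, y⁆ := by rw [c2]; group
      rw [this]
      exact m
    refine h1 (le_bot_iff.1 (h2 ▸ le_inf (inf_le_left.trans h3) ?_))
    exact (inf_le_right.trans ZV).trans ((le_centralizer_iff.1 e).trans (centralizer_anti d.PX))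
  have CF : X ⊓ C(V) ≤ pCoreOf 2 X ⊔ ⁅X, X⁆ := by
    have nY : X ⊔ T ≤ N(X ⊓ C(V)) :=
      le_normalizer_inf ((sup_le XM TM).trans MX) (le_normalizer_centralizer ((sup_le XM TM).trans nV))
    rcases d.irr _ nY with h | h
    · exact absurd ((d.gen _ (le_sup_left.trans nY) h).trans inf_le_right) nc
    · intro x hx
      obtain ⟨o, ho, y, hy, rfl⟩ := (mem_sup_iff_of_le_normalizer' (d.PX.trans (le_normalizer_pCoreOf 2 X))).1
        (d.XO.le hx.1)
      refine mul_mem_sup ho (commutator_mono d.PX d.PX (h ⟨hy, d.PX hy, ?_⟩))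
      exact (mul_mem_cancel_left (RV (OR ho))).1 hx.2
  have fa : ∀ t ∈ T, (∀ x ∈ X, t * x * t⁻¹ * x⁻¹ ∈ pCoreOf 2 X ⊔ ⁅X, X⁆) → t ∈ R := fun t ht h =>
    hR ▸ ⟨ht, burnside d hT.isPGroup ⟨ht, TN ht, NF (TN ht), h⟩⟩
  refine ⟨d, hT.isPGroup, XM, TM, MX, nV,
    isElementaryAbelian_of_le (isElementaryAbelian_omegaOneCenter 2 R) VR, nc, OR.trans RV,
    le_antisymm (le_inf RT RV) fun t ht => fa t ht.1 fun x hx => CF (mem_inf.2 ⟨?_, ?_⟩),
    fun t ht => ⟨fun h x hx => mem_sup_left ((Rk h).2.2 x hx), fa t ht⟩⟩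
  · exact mul_mem ((mem_normalizer_iff.1 (TN ht.1) _).1 hx) (inv_mem hx)
  · have ht2 : t ∈ (C(V) : Subgroup G) := ht.2
    have := mul_mem ht2 ((mem_normalizer_iff.1 (le_normalizer_centralizer nV (XM hx)) _).1 (inv_mem ht2))
    convert this using 1
    group

end Cfsg.Agent.Lib.SXSet
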