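import Cfsg.Agent.Lib.SXDefs

/-! S1852, piece `TF`: the structure of an irreducible 2-group on an elementary abelian group of order `p ^ 2`. -/

set_option autoImplicit false
set_option linter.unusedSectionVars false

namespace Cfsg.Agent.Lib.SXTF

open Cfsg Subgroup Cfsg.Agent.Lib.PCoreConj Cfsg.Agent.Lib.PCore Cfsg.Agent.Lib.PushBase Cfsg.Agent.Lib.SX

universe u

section Abs

variable {E : Type*} [Group E] [Finite E] {p : ℕ}

/-- an elementary abelian group of order `p ^ 2`, `p` odd -/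
structure El (p : ℕ) (E : Type*) [Group E] : Prop where
  hp : p.Prime
  p2 : p ≠ 2
  cm : ∀ a b : E, a * b = b * a
  ex : ∀ a : E, a ^ p = 1
  card : Nat.card E = p ^ 2

/-- the fixed points -/
def Fx (α : MulAut E) : Subgroup E where
  carrier := {e | α e = e}
  mul_mem' := fun {a b} ha hb => by
    simp only [Set.mem_setOf_eq] at ha hb ⊢
    rw [map_mul, ha, hb]
  one_mem' := map_one α
  inv_mem' := fun {a} ha => by
    simp only [Set.mem_setOf_eq] at ha ⊢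
    rw [map_inv, ha]

/-- the inverted elements -/
def Iv (h : El p E) (α : MulAut E) : Subgroup E where
  carrier := {e | α e = e⁻¹}
  mul_mem' := fun {a b} ha hb => by
    simp only [Set.mem_setOf_eq] at ha hb ⊢
    rw [map_mul, ha, hb, mul_inv_rev, h.cm]
  one_mem' := by simp
  inv_mem' := fun {a} ha => by
    simp only [Set.mem_setOf_eq] at ha ⊢
    rw [map_inv, ha]

variable (h : El p E)
include h

theorem El.ord {u : E} (hu : u ≠ 1) : orderOf u = p :=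
  haveI := Fact.mk h.hp
  orderOf_eq_prime (h.ex u) hu

theorem El.zp_ne (u : E) : zpowers u ≠ ⊤ := fun e => by
  have h1 : orderOf u ∣ p := orderOf_dvd_of_pow_eq_one (h.ex u)
  rw [← Nat.card_zpowers, e, card_top, h.card] at h1
  have := Nat.le_of_dvd h.hp.pos h1
  have := h.hp.one_lt
  nlinarith

theorem El.le_zp {A : Subgroup E} (hA : A ≠ ⊤) {u : E} (hu : u ∈ A) (h1 : u ≠ 1) : A ≤ zpowers u := by
  have d : Nat.card A ∣ p ^ 2 := h.card ▸ card_subgroup_dvd_card A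
  obtain ⟨i, hi, e⟩ := (Nat.dvd_prime_pow h.hp).1 d
  have i2 : i ≠ 2 := fun e' => hA (eq_top_of_card_eq A (by rw [e, e', h.card]))
  refine (eq_of_le_of_card_le (zpowers_le.2 hu) ?_).ge
  rw [Nat.card_zpowers, h.ord h1, e]
  calc p ^ i ≤ p ^ 1 := Nat.pow_le_pow_right h.hp.pos (by omega)
    _ = p := pow_one p

theorem El.split {α : MulAut E} (hα : α * α = 1) (e : E) : ∃ a ∈ Fx α, ∃ b ∈ Iv h α, e = a * b := by
  have aa : α (α e) = e := by rw [← MulAut.mul_apply, hα, MulAut.one_apply]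
  obtain ⟨k, hk⟩ := h.hp.odd_of_ne_two h.p2
  have m1 : e * α e ∈ Fx α := by
    show α (e * α e) = e * α e
    rw [map_mul, aa, h.cm]
  have m2 : e * (α e)⁻¹ ∈ Iv h α := by
    show α (e * (α e)⁻¹) = (e * (α e)⁻¹)⁻¹
    rw [map_mul, map_inv, aa, mul_inv_rev, inv_inv]
  refine ⟨_, pow_mem m1 (k + 1), _, pow_mem m2 (k + 1), ?_⟩
  rw [← Commute.mul_pow (h.cm _ _)]
  have : e * α e * (e * (α e)⁻¹) = e ^ 2 := by
    rw [h.cm e (α e)⁻¹, pow_two]; group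
  rw [this, ← pow_mul, show 2 * (k + 1) = p + 1 by omega, pow_succ, h.ex, one_mul]

theorem El.pm {β : MulAut E} (hβ : β * β = 1) {u : E} (h1 : u ≠ 1) (hu : β u ∈ zpowers u) :
    β u = u ∨ β u = u⁻¹ := by
  have bb : β (β u) = u := by rw [← MulAut.mul_apply, hβ, MulAut.one_apply]
  by_cases e : u * β u = 1
  · exact Or.inr (eq_inv_of_mul_eq_one_right e)
  · left
    have m : u * β u ∈ Fx β := by
      show β (u * β u) = u * β u
      rw [map_mul, bb, h.cm]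
    exact zpowers_le.2 m (h.le_zp (h.zp_ne u) (mul_mem (mem_zpowers u) hu) e (mem_zpowers u))

/-- a basis of eigenvectors of a noncentral involution -/
theorem El.basis {α : MulAut E} (hα : α * α = 1) (h1 : α ≠ 1) (h2 : ¬ ∀ e, α e = e⁻¹) :
    ∃ u v : E, u ≠ 1 ∧ v ≠ 1 ∧ α u = u ∧ α v = v⁻¹ ∧
      (∀ β : MulAut E, β * α = α * β → β u ∈ zpowers u ∧ β v ∈ zpowers v) ∧
      ∀ β : MulAut E, β u = u → β v = v → β = 1 := by
  have f1 : Fx α ≠ ⊤ := fun e => h1 (MulEquiv.ext fun x => (e ▸ mem_top x : x ∈ Fx α))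
  have f2 : Iv h α ≠ ⊤ := fun e => h2 fun x => (e ▸ mem_top x : x ∈ Iv h α)
  have g1 : Fx α ≠ ⊥ := fun e => f2 (eq_top_iff.2 fun x _ => by
    obtain ⟨a, ha, b, hb, rfl⟩ := h.split hα x
    rw [e, mem_bot] at ha
    rwa [ha, one_mul])
  have g2 : Iv h α ≠ ⊥ := fun e => f1 (eq_top_iff.2 fun x _ => by
    obtain ⟨a, ha, b, hb, rfl⟩ := h.split hα x
    rw [e, mem_bot] at hb
    rwa [hb, mul_one])
  obtain ⟨⟨u, hu⟩, u1⟩ := ne_bot_iff_exists_ne_one.1 g1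
  obtain ⟨⟨v, hv⟩, v1⟩ := ne_bot_iff_exists_ne_one.1 g2
  have u1' : u ≠ 1 := fun e => u1 (Subtype.ext e)
  have v1' : v ≠ 1 := fun e => v1 (Subtype.ext e)
  refine ⟨u, v, u1', v1', hu, hv, fun β hβ => ⟨h.le_zp f1 hu u1' ?_, h.le_zp f2 hv v1' ?_⟩, fun β b1 b2 => ?_⟩
  · show α (β u) = β u
    rw [← MulAut.mul_apply, ← hβ, MulAut.mul_apply, show α u = u from hu]
  · show α (β v) = (β v)⁻¹
    rw [← MulAut.mul_apply, ← hβ, MulAut.mul_apply, show α v = v⁻¹ from hv, map_inv]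
  · refine MulEquiv.ext fun x => ?_
    obtain ⟨a, ha, b, hb, rfl⟩ := h.split hα x
    exact (Fx β).mul_mem (zpowers_le.2 (show u ∈ Fx β from b1) (h.le_zp f1 hu u1' ha))
      (zpowers_le.2 (show v ∈ Fx β from b2) (h.le_zp f2 hv v1' hb))

omit [Finite E] h in
theorem comm_on {β γ : MulAut E} {u : E} (h1 : β u ∈ zpowers u) (h2 : γ u ∈ zpowers u) :
    β (γ u) = γ (β u) := by
  obtain ⟨i, hi⟩ := h1
  obtain ⟨j, hj⟩ := h2
  simp only at hi hj
  rw [← hj, map_zpow, ← hi, map_zpow, ← hj, ← zpow_mul, ← zpow_mul, mul_comm]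

theorem El.ab {α β γ : MulAut E} (hα : α * α = 1) (h1 : α ≠ 1) (h2 : ¬ ∀ e, α e = e⁻¹)
    (hβ : β * α = α * β) (hγ : γ * α = α * γ) : β * γ = γ * β := by
  obtain ⟨u, v, -, -, -, -, k1, k2⟩ := h.basis hα h1 h2
  have := k2 ((γ * β)⁻¹ * (β * γ)) ?_ ?_
  · rw [inv_mul_eq_one] at this
    exact this.symm
  · show (γ * β)⁻¹ (β (γ u)) = u
    rw [comm_on (k1 β hβ).1 (k1 γ hγ).1]
    exact (γ * β).symm_apply_apply u
  · show (γ * β)⁻¹ (β (γ v)) = v
    rw [comm_on (k1 β hβ).2 (k1 γ hγ).2]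
    exact (γ * β).symm_apply_apply v

theorem El.four {α β ζ : MulAut E} (hζ : ∀ e, ζ e = e⁻¹) (hα : α * α = 1) (h1 : α ≠ 1) (hβ : β * β = 1)
    (h2 : β ≠ 1) (hc : β * α = α * β) : α * β = 1 ∨ α * ζ = 1 ∨ β * ζ = 1 ∨ α * β * ζ = 1 := by
  by_cases hi : ∀ e, α e = e⁻¹
  · exact Or.inr (Or.inl (MulEquiv.ext fun e => by rw [MulAut.mul_apply, hζ, hi, inv_inv, MulAut.one_apply]))
  obtain ⟨u, v, u1, v1, a1, a2, k1, k2⟩ := h.basis hα h1 hi
  rcases h.pm hβ u1 (k1 β hc).1 with b1 | b1 <;> rcases h.pm hβ v1 (k1 β hc).2 with b2 | b2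
  · exact absurd (k2 β b1 b2) h2
  · exact Or.inl (k2 _ (by rw [MulAut.mul_apply, b1, a1]) (by rw [MulAut.mul_apply, b2, map_inv, a2, inv_inv]))
  · refine Or.inr (Or.inr (Or.inr (k2 _ ?_ ?_)))
    · rw [MulAut.mul_apply, MulAut.mul_apply, hζ, map_inv, b1, inv_inv, a1]
    · rw [MulAut.mul_apply, MulAut.mul_apply, hζ, map_inv, b2, map_inv, a2, inv_inv]
  · refine Or.inr (Or.inr (Or.inl (k2 _ ?_ ?_)))
    · rw [MulAut.mul_apply, hζ, map_inv, b1, inv_inv]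
    · rw [MulAut.mul_apply, hζ, map_inv, b2, inv_inv]

variable {S : Type*} [Group S] [Finite S] (ρ : S →* MulAut E)
  (irr : ∀ A : Subgroup E, (∀ s, ∀ a ∈ A, ρ s a ∈ A) → A = ⊥ ∨ A = ⊤)
include irr

theorem El.cen {α : MulAut E} (h1 : α ≠ 1) (hα : α * α = 1) (hc : ∀ s, ρ s * α = α * ρ s) (e : E) :
    α e = e⁻¹ := by
  have f : Fx α = ⊥ := (irr (Fx α) fun s a ha => by
    show α (ρ s a) = ρ s a
    rw [← MulAut.mul_apply, ← hc, MulAut.mul_apply, show α a = a from ha]).resolve_right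
      fun e => h1 (MulEquiv.ext fun x => (e ▸ mem_top x : x ∈ Fx α))
  obtain ⟨a, ha, b, hb, rfl⟩ := h.split hα e
  rw [f, mem_bot] at ha
  rw [ha, one_mul]
  exact hb

theorem El.exists_z (hS : IsPGroup 2 S) : ∃ z : S, ρ z ≠ 1 ∧ ∀ e, ρ z e = e⁻¹ := by
  haveI : Fact (Nat.Prime 2) := ⟨Nat.prime_two⟩
  have hR : IsPGroup 2 ρ.range := hS.of_surjective ρ.rangeRestrict ρ.rangeRestrict_surjective
  haveI : Finite ρ.range := Finite.of_surjective ρ.rangeRestrict ρ.rangeRestrict_surjective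
  have ne : ρ.range ≠ ⊥ := fun e => by
    have : Nontrivial E := Finite.one_lt_card_iff_nontrivial.1 (by
      rw [h.card]; exact Nat.one_lt_pow two_ne_zero h.hp.one_lt)
    obtain ⟨u, hu⟩ := exists_ne (1 : E)
    rcases irr (zpowers u) (fun s a ha => by
      rw [mem_bot.1 (e ▸ MonoidHom.mem_range.2 ⟨s, rfl⟩ : ρ s ∈ (⊥ : Subgroup (MulAut E)))]
      exact ha) with k | k
    · exact hu (zpowers_eq_bot.1 k)
    · exact h.zp_ne u k
  obtain ⟨_, ⟨z, rfl⟩, x2, x3, x4⟩ := exists_mem_centralizer_pow_eq_one hR hR le_normalizer ne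
  exact ⟨z, x3, h.cen ρ irr x3 (by rw [← pow_two, x4]) fun s => mem_centralizer_iff.1 x2 _ ⟨s, rfl⟩⟩

end Abs

variable {G : Type u} [Group G] [Finite G] {p : ℕ} {X T P M₀ R V : Subgroup G}

theorem inf_le (h : XiS.E.Xg p X T P) : P ⊓ (pCoreOf 2 X ⊔ ⁅X, X⁆) ≤ ⁅P, P⁆ := by
  have nO : X ≤ N(pCoreOf 2 X) := le_normalizer_pCoreOf 2 X
  have n1 : pCoreOf 2 X ≤ N(pCoreOf 2 X ⊔ ⁅P, P⁆) := le_normalizer_of_le le_sup_left
  have n2 : P ≤ N(pCoreOf 2 X ⊔ ⁅P, P⁆) :=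
    le_normalizer_sup (h.PX.trans nO) (le_normalizer_commutator le_normalizer le_normalizer)
  have c1 : ⁅P, X⁆ ≤ pCoreOf 2 X ⊔ ⁅P, P⁆ := by
    have := commutator_sup_le (A := P) n1 n2
      ((commutator_le_right_of_le_normalizer (h.PX.trans nO)).trans le_sup_left) le_sup_right
    rwa [← h.XO] at this
  have c2 : ⁅X, X⁆ ≤ pCoreOf 2 X ⊔ ⁅P, P⁆ := by
    have := commutator_sup_le (A := X) n1 n2
      ((commutator_le_right_of_le_normalizer nO).trans le_sup_left) (by rw [Subgroup.commutator_comm]; exact c1)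
    rwa [← h.XO] at this
  have PP : ⁅P, P⁆ ≤ P := commutator_le_left_of_le_normalizer le_normalizer
  intro a ha
  obtain ⟨o, ho, c, hc, e⟩ := (mem_sup_iff_of_le_normalizer' ((PP.trans h.PX).trans nO)).1
    (sup_le le_sup_left c2 ha.2)
  have oP : o ∈ P := by
    have := P.mul_mem ha.1 (P.inv_mem (PP hc))
    rwa [← e, mul_inv_cancel_right] at this
  obtain ⟨k, hk⟩ := isPGroup_iff_forall_mem.1 (pCoreOf_isPGroup 2 X) o ho
  have : o = 1 := eq_one_of_coprime_of_pow_eq_one (Nat.Coprime.coprime_dvd_left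
    (orderOf_dvd_of_pow_eq_one (h.ex o oP)) ((Nat.coprime_primes h.hp Nat.prime_two).2 h.p2)) hk
  rwa [← e, this, one_mul]

theorem rep (h : Xv p X T P M₀ R V) : ∃ (E : Type u) (_ : Group E) (_ : Finite E) (φ : X →* E) (ρ : T →* MulAut E),
    El p E ∧ (∀ A : Subgroup E, (∀ s, ∀ a ∈ A, ρ s a ∈ A) → A = ⊥ ∨ A = ⊤) ∧ Function.Surjective φ ∧
    (∀ x : X, φ x = 1 ↔ (x : G) ∈ pCoreOf 2 X ⊔ ⁅X, X⁆) ∧
    ∀ (t : T) (x y : X), (y : G) = t * x * (t : G)⁻¹ → ρ t (φ x) = φ y := by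
  have il := inf_le h.toXg
  have nF : M₀ ≤ N(pCoreOf 2 X ⊔ ⁅X, X⁆) :=
    le_normalizer_sup (le_normalizer_pCoreOf_of h.nX) (le_normalizer_commutator h.nX h.nX)
  have OF : pCoreOf 2 X ≤ pCoreOf 2 X ⊔ ⁅X, X⁆ := le_sup_left
  have CF : ⁅X, X⁆ ≤ pCoreOf 2 X ⊔ ⁅X, X⁆ := le_sup_right
  have FX : pCoreOf 2 X ⊔ ⁅X, X⁆ ≤ X := sup_le (pCoreOf_le 2 X) (commutator_le_left_of_le_normalizer le_normalizer)
  generalize pCoreOf 2 X ⊔ ⁅X, X⁆ = F at il nF OF CF FX ⊢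
  haveI := normal_subgroupOf_of_le nF
  haveI := normal_subgroupOf_of_le h.nX
  let π := QuotientGroup.mk' (F.subgroupOf M₀)
  haveI : ((X.subgroupOf M₀).map π).Normal := Normal.map inferInstance π (QuotientGroup.mk'_surjective _)
  let φ : X →* (X.subgroupOf M₀).map π := (π.comp (inclusion h.XM)).codRestrict _ fun x => ⟨inclusion h.XM x, x.2, rfl⟩
  let ρ : T →* MulAut ((X.subgroupOf M₀).map π) := MulAut.conjNormal.comp (π.comp (inclusion h.TM))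
  have sj : Function.Surjective φ := by
    rintro ⟨_, x, hx, rfl⟩
    exact ⟨⟨x, hx⟩, rfl⟩
  have kr : ∀ x : X, φ x = 1 ↔ (x : G) ∈ F := fun x => by
    rw [Subtype.ext_iff]
    exact (QuotientGroup.eq_one_iff _).trans mem_subgroupOf
  have act : ∀ (t : T) (x y : X), (y : G) = t * x * (t : G)⁻¹ → ρ t (φ x) = φ y := fun t x y e => by
    apply Subtype.ext
    show π (inclusion h.TM t) * π (inclusion h.XM x) * (π (inclusion h.TM t))⁻¹ = π (inclusion h.XM y)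
    rw [← map_mul, ← map_inv, ← map_mul]
    congr 1
    exact Subtype.ext e.symm
  have sp : ∀ e, ∃ a : X, (a : G) ∈ P ∧ φ a = e := fun e => by
    obtain ⟨x, rfl⟩ := sj e
    obtain ⟨o, ho, a, ha, e⟩ := (mem_sup_iff_of_le_normalizer' (h.PX.trans (le_normalizer_pCoreOf 2 X))).1
      (h.XO.le x.2)
    refine ⟨⟨a, h.PX ha⟩, ha, ?_⟩
    have : x = ⟨o, pCoreOf_le 2 X ho⟩ * ⟨a, h.PX ha⟩ := Subtype.ext e.symm
    rw [this, map_mul, (kr ⟨o, pCoreOf_le 2 X ho⟩).2 (OF ho), one_mul]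
  refine ⟨_, inferInstance, inferInstance, φ, ρ, ⟨h.hp, h.p2, fun a b => ?_, fun a => ?_, ?_⟩, fun A hA => ?_,
    sj, kr, act⟩
  · obtain ⟨x, rfl⟩ := sj a
    obtain ⟨y, rfl⟩ := sj b
    rw [← commutatorElement_eq_one_iff_mul_comm, ← map_commutatorElement, kr]
    exact CF (commutator_mem_commutator x.2 y.2)
  · obtain ⟨x, hx, rfl⟩ := sp a
    rw [← map_pow, show x ^ p = 1 from Subtype.ext (h.ex _ hx), map_one]
  · have e1 : (P.subgroupOf X).map φ = ⊤ := eq_top_iff.2 fun e _ => by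
      obtain ⟨x, hx, rfl⟩ := sp e
      exact ⟨x, hx, rfl⟩
    have e2 : φ.ker = F.subgroupOf X := Subgroup.ext fun x => kr x
    have e3 : F ⊓ P = ⁅P, P⁆ := le_antisymm (inf_comm F P ▸ il)
      (le_inf ((commutator_mono h.PX h.PX).trans CF) (commutator_le_left_of_le_normalizer le_normalizer))
    have e4 := card_inf_mul_relIndex F P
    rw [e3, h.cP, mul_comm (p ^ 2), ← relIndex_subgroupOf h.PX, ← e2, relIndex_ker, e1, card_top] at e4
    exact Nat.eq_of_mul_eq_mul_left Nat.card_pos e4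
  · have FY : F ≤ (A.comap φ).map X.subtype := fun x hx =>
      ⟨⟨x, FX hx⟩, by rw [SetLike.mem_coe, mem_comap, (kr _).2 hx]; exact A.one_mem, rfl⟩
    have n1 : X ≤ N((A.comap φ).map X.subtype) :=
      le_normalizer_of_commutator_le ((commutator_mono (map_subtype_le _) le_rfl).trans (CF.trans FY))
    have n2 : T ≤ N((A.comap φ).map X.subtype) := le_normalizer_iff_conj_le.2 fun t ht => conj_le_iff.2 (by
      rintro _ ⟨x, hx, rfl⟩
      have m : t * x * t⁻¹ ∈ X := (mem_normalizer_iff.1 (h.nX (h.TM ht)) x).1 x.2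
      refine ⟨⟨_, m⟩, ?_, rfl⟩
      rw [SetLike.mem_coe, mem_comap, ← act ⟨t, ht⟩ x ⟨_, m⟩ rfl]
      exact hA _ _ hx)
    have mY : ∀ a : X, (a : G) ∈ (A.comap φ).map X.subtype ↔ φ a ∈ A := fun a =>
      ⟨fun ⟨b, hb, e⟩ => (Subtype.ext e : b = a) ▸ hb, fun ha => ⟨a, ha, rfl⟩⟩
    rcases h.irr _ (sup_le n1 n2) with k | k
    · refine Or.inr (eq_top_iff.2 fun e _ => ?_)
      obtain ⟨a, ha, rfl⟩ := sp e
      exact (mY a).1 (k ha)
    · refine Or.inl (eq_bot_iff.2 fun e he => ?_)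
      obtain ⟨a, ha, rfl⟩ := sp e
      exact (kr a).2 (CF (commutator_mono h.PX h.PX (k ⟨ha, (mY a).2 he⟩)))

instance instTF : TF.{u} where
  out := by
    intro G _ _ p X T P M₀ R V h
    obtain ⟨E, _, _, φ, ρ, el, irr, sj, kr, act⟩ := rep h
    have cj : ∀ (t : T) (x : X), (t : G) * x * (t : G)⁻¹ ∈ X := fun t x =>
      (mem_normalizer_iff.1 (h.nX (h.TM t.2)) x).1 x.2
    have ker : ∀ t : T, (t : G) ∈ R ↔ ρ t = 1 := fun t => by
      rw [h.faith t t.2]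
      constructor
      · intro k
        refine MulEquiv.ext fun e => ?_
        obtain ⟨x, rfl⟩ := sj e
        rw [act t x ⟨_, cj t x⟩ rfl, MulAut.one_apply, ← mul_inv_eq_one, ← map_inv, ← map_mul, kr]
        exact k x x.2
      · intro k x hx
        have := act t ⟨x, hx⟩ ⟨_, cj t ⟨x, hx⟩⟩ rfl
        rw [k, MulAut.one_apply, eq_comm, ← mul_inv_eq_one, ← map_inv, ← map_mul, kr] at this
        exact this
    obtain ⟨z, z1, hz⟩ := el.exists_z ρ irr h.pT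
    have zz : ρ z * ρ z = 1 := MulEquiv.ext fun e => by rw [MulAut.mul_apply, hz, hz, inv_inv, MulAut.one_apply]
    have sq : ∀ t : T, (t : G) * t ∈ R → ρ t * ρ t = 1 := fun t k => by
      rw [← map_mul]; exact (ker (t * t)).1 k
    have cm : ∀ s t : T, (s : G) * t * (s : G)⁻¹ * (t : G)⁻¹ ∈ R ↔ ρ s * ρ t = ρ t * ρ s := fun s t => by
      rw [← commutatorElement_eq_one_iff_mul_comm, ← map_commutatorElement]
      exact ker (s * t * s⁻¹ * t⁻¹)
    have iv : ∀ t : T, (t : G) * z ∈ R ↔ ∀ e, ρ t e = e⁻¹ := fun t => by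
      have := ker (t * z)
      rw [map_mul] at this
      refine this.trans ⟨fun k e => ?_, fun k => MulEquiv.ext fun e => ?_⟩
      · have := MulEquiv.congr_fun k e⁻¹
        rwa [MulAut.mul_apply, hz, inv_inv, MulAut.one_apply] at this
      · rw [MulAut.mul_apply, hz, k, inv_inv, MulAut.one_apply]
    refine ⟨z, ⟨z.2, fun k => z1 ((ker z).1 k), (ker (z * z)).2 (by rw [map_mul, zz]), fun t ht => ?_,
      fun t ht t1 t2 t3 => ?_, fun a ha b hb a1 b1 a2 b2 c => ?_, fun a ha a1 a2 a3 s hs t ht s1 t1 => ?_⟩,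
      fun x hx => ?_⟩
    · refine (cm ⟨t, ht⟩ z).2 (MulEquiv.ext fun e => ?_)
      rw [MulAut.mul_apply, MulAut.mul_apply, hz, hz, map_inv]
    · exact (iv ⟨t, ht⟩).2 (el.cen ρ irr (fun k => t1 ((ker ⟨t, ht⟩).2 k)) (sq ⟨t, ht⟩ t2)
        fun s => (cm s ⟨t, ht⟩).1 (t3 s s.2))
    · rcases el.four hz (sq ⟨a, ha⟩ a2) (fun k => a1 ((ker ⟨a, ha⟩).2 k)) (sq ⟨b, hb⟩ b2)
        (fun k => b1 ((ker ⟨b, hb⟩).2 k)) ((cm ⟨a, ha⟩ ⟨b, hb⟩).1 c).symm with k | k | k | k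
      · exact Or.inl ((ker (⟨a, ha⟩ * ⟨b, hb⟩)).2 (by rw [map_mul, k]))
      · exact Or.inr (Or.inl ((ker (⟨a, ha⟩ * z)).2 (by rw [map_mul, k])))
      · exact Or.inr (Or.inr (Or.inl ((ker (⟨b, hb⟩ * z)).2 (by rw [map_mul, k]))))
      · exact Or.inr (Or.inr (Or.inr ((ker (⟨a, ha⟩ * ⟨b, hb⟩ * z)).2 (by rw [map_mul, map_mul, k]))))
    · exact (cm ⟨s, hs⟩ ⟨t, ht⟩).2 (el.ab (sq ⟨a, ha⟩ a2) (fun k => a1 ((ker ⟨a, ha⟩).2 k))
        (fun k => a3 ((iv ⟨a, ha⟩).2 k)) ((cm ⟨s, hs⟩ ⟨a, ha⟩).1 s1) ((cm ⟨t, ht⟩ ⟨a, ha⟩).1 t1))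
    · have := act z ⟨x, hx⟩ ⟨_, cj z ⟨x, hx⟩⟩ rfl
      rw [hz, eq_comm, ← mul_eq_one_iff_eq_inv, ← map_mul, kr] at this
      exact this

end Cfsg.Agent.Lib.SXTF
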