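import Cfsg.Agent.Lib.SXDefs

/-! S1852: the Burnside count for `p = 5`. -/

set_option autoImplicit false

namespace Cfsg.Agent.Lib.SX

open Cfsg Subgroup Cfsg.Agent.Lib.PCoreConj Cfsg.Agent.Lib.PCore Cfsg.Agent.Lib.PushBase
  Cfsg.Agent.Lib.PCoreResidual
open scoped commutatorElement

universe u

namespace W5c

variable {G : Type u} [Group G] [Finite G]

theorem burn {A D V : Subgroup G} (hN : A ≤ N(V)) (hD : D ≤ A) {c e : ℕ}
    (hc : ∀ p ∈ A, p ∉ D → Nat.card ↥(V ⊓ centralizer {p}) = c)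
    (he : ∀ p ∈ D, p ≠ 1 → Nat.card ↥(V ⊓ centralizer {p}) = e) :
    (Nat.card A : ℤ) ∣ Nat.card D * (e - c) + (Nat.card V - e) := by
  classical
  let _ : MulAction A V := MulAction.compHom V (V.normalizerMonoidHom.comp (inclusion hN))
  have := Fintype.ofFinite A
  have := Fintype.ofFinite (Quotient (MulAction.orbitRel A V))
  have : ∀ g : A, Fintype (MulAction.fixedBy V g) := fun g => Fintype.ofFinite _
  have h1 := MulAction.sum_card_fixedBy_eq_card_orbits_mul_card_group A V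
  have h2 : ∀ g : A, Fintype.card (MulAction.fixedBy V g) = Nat.card ↥(V ⊓ centralizer {(g : G)}) := fun g => by
    rw [← Nat.card_eq_fintype_card]
    refine Nat.card_congr
      ⟨fun x => ⟨x.1.1, x.1.2, mem_centralizer_singleton_iff.2
          (mul_inv_eq_iff_eq_mul.1 (congrArg Subtype.val x.2)).symm⟩,
        fun x => ⟨⟨x.1, x.2.1⟩, Subtype.ext
          (mul_inv_eq_iff_eq_mul.2 (mem_centralizer_singleton_iff.1 x.2.2).symm)⟩,
        fun _ => rfl, fun _ => rfl⟩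
  have h3 : ∀ g : A, (Fintype.card (MulAction.fixedBy V g) : ℤ) =
      c + (if (g : G) ∈ D then (e - c : ℤ) else 0) + (if g = 1 then (Nat.card V - e : ℤ) else 0) := fun g => by
    rw [h2]
    by_cases g1 : g = 1
    · subst g1
      have : V ⊓ centralizer {((1 : A) : G)} = V :=
        inf_eq_left.2 fun x _ => mem_centralizer_singleton_iff.2 (by simp)
      rw [this]
      simp [D.one_mem]
    by_cases g2 : (g : G) ∈ D
    · rw [he g g2 fun e => g1 (Subtype.ext e)]; simp [g1, g2]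
    · rw [hc g g.2 g2]; simp [g1, g2]
  have h4 : (Finset.univ.filter fun g : A => (g : G) ∈ D).card = Nat.card D := by
    rw [← Fintype.card_subtype, ← Nat.card_eq_fintype_card]
    exact Nat.card_congr (subgroupOfEquivOfLe hD).toEquiv
  have h5 := congrArg (Nat.cast : ℕ → ℤ) h1
  rw [Nat.cast_sum, Finset.sum_congr rfl fun g _ => h3 g, Finset.sum_add_distrib, Finset.sum_add_distrib,
    Finset.sum_const, ← Finset.sum_filter, Finset.sum_const, h4, Finset.sum_ite_eq' Finset.univ (1 : A),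
    Finset.card_univ, ← Nat.card_eq_fintype_card (α := A)] at h5
  simp only [Finset.mem_univ, if_true, nsmul_eq_mul, Nat.cast_mul] at h5
  exact ⟨Fintype.card (Quotient (MulAction.orbitRel A V)) - c, by linarith⟩

omit [Finite G] in
theorem pow2 {U V : Subgroup G} [Finite V] (hV : IsPGroup 2 V) (h : U ≤ V) : ∃ b, Nat.card V = 2 ^ b * Nat.card U := by
  obtain ⟨n, hn⟩ := IsPGroup.iff_card.1 hV
  obtain ⟨k, hk⟩ := card_dvd_of_le h
  obtain ⟨b, -, hb⟩ := (Nat.dvd_prime_pow Nat.prime_two).1 (hn ▸ Dvd.intro_left _ hk.symm : k ∣ 2 ^ n)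
  exact ⟨b, by rw [hk, hb, mul_comm]⟩

theorem num1 : ∀ b < 11, 1 ≤ b → ¬ 25 ∣ 2 ^ b + 24 := by decide

theorem num2 : ∀ b < 11, ∀ a < 21, 1 ≤ b → 5 ∣ 2 ^ b + 4 → a ≤ 2 * b →
    ¬ 125 ∣ 2 ^ a * 2 ^ b + 4 * 2 ^ b + 120 * 2 ^ a := by
  intro b hb a ha h1 h2 h3
  interval_cases b <;> first | (exfalso; revert h2; decide) | (interval_cases a <;> first | decide | omega)

end W5c

open W5c in
theorem w5c {G : Type u} [Group G] [Finite G] {X T P M₀ R V : Subgroup G} (h : Xv 5 X T P M₀ R V) {c : ℕ}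
    (hc : ∀ p ∈ P, p ∉ ⁅P, P⁆ → Nat.card ↥(V ⊓ centralizer {p}) = c) : 2048 * c ≤ Nat.card V := by
  have nV : P ≤ N(V) := h.PX.trans (h.XM.trans h.nV)
  have DP : ⁅P, P⁆ ≤ P := commutator_le_left_of_le_normalizer le_normalizer
  have pV : IsPGroup 2 V := isPGroup_of_isElementaryAbelian h.el
  have d0 : 0 < Nat.card ↥⁅P, P⁆ := Nat.card_pos
  have gen : ∀ S : Subgroup G, (∀ p ∈ P, p ∉ ⁅P, P⁆ → p ∈ S) → P ≤ S := fun S hS q hq => by
    obtain ⟨p, hp, hp'⟩ : ∃ p ∈ P, p ∉ ⁅P, P⁆ := by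
      by_contra e
      push Not at e
      have := card_le_of_le (show P ≤ ⁅P, P⁆ from e)
      rw [h.cP] at this
      omega
    by_cases e : q ∈ ⁅P, P⁆
    · have := S.mul_mem (hS (q * p) (P.mul_mem hq hp) fun e' => hp' ((mul_mem_cancel_left e).1 e'))
        (S.inv_mem (hS p hp hp'))
      simpa using this
    · exact hS q hq e
  obtain ⟨p₀, hp₀, hp₀', hp₀V⟩ : ∃ p ∈ P, p ∉ ⁅P, P⁆ ∧ p ∉ C(V) := by
    by_contra e
    push Not at e
    exact h.nc (h.XO ▸ sup_le h.oV (gen _ e))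
  obtain ⟨b, hb⟩ := pow2 pV (inf_le_left : V ⊓ centralizer {p₀} ≤ V)
  have b1 : 1 ≤ b := Nat.pos_of_ne_zero fun e => hp₀V (by
    rw [e, pow_zero, one_mul] at hb
    have := eq_of_le_of_card_ge (inf_le_left : V ⊓ centralizer {p₀} ≤ V) hb.le
    exact mem_centralizer_iff.2 fun v hv => mem_centralizer_singleton_iff.1 (this.ge hv).2)
  rw [hc p₀ hp₀ hp₀'] at hb
  obtain ⟨n, hn⟩ := IsPGroup.iff_card.1 pV
  have cop : ∀ k, Nat.Coprime (5 ^ k) (Nat.card V) := fun k => by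
    rw [hn]; exact Nat.Coprime.pow _ _ (by decide)
  have cop' : ∀ k, Nat.Coprime (5 ^ k) c := fun k => (cop k).coprime_dvd_right (Dvd.intro_left _ hb.symm)
  by_contra hlt
  have b2 : b < 11 := by
    by_contra e
    have : 2 ^ 11 ≤ 2 ^ b := Nat.pow_le_pow_right (by decide) (by omega)
    exact hlt (by rw [hb]; exact Nat.mul_le_mul_right _ this)
  have : Fact (Nat.Prime 5) := ⟨by decide⟩
  rcases (Nat.dvd_prime (by decide : Nat.Prime 5)).1 h.cD with e | e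
  · have k := burn nV DP (e := 0) hc fun p hp p1 => absurd (mem_bot.1 (card_eq_one.1 e ▸ hp)) p1
    rw [h.cP, e, hb] at k
    refine num1 b b2 b1 ((cop' 2).dvd_of_dvd_mul_right (Int.natCast_dvd_natCast.1 ?_))
    obtain ⟨m, hm⟩ := k
    exact ⟨m + c, by push_cast at hm ⊢; linarith⟩
  have zp : ∀ A : Subgroup G, Nat.card A = 5 → ∀ q ∈ A, q ≠ 1 → ∀ x ∈ A, x ∈ zpowers q := fun A hA q hq q1 x hx => by
    obtain ⟨i, hi⟩ := mem_zpowers_of_prime_card hA (g := ⟨q, hq⟩) (g' := ⟨x, hx⟩) fun e => q1 (congrArg Subtype.val e)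
    exact ⟨i, congrArg Subtype.val hi⟩
  have o5 : Nat.card (zpowers p₀) = 5 := by
    rw [Nat.card_zpowers]
    exact orderOf_eq_prime (h.ex p₀ hp₀) fun e => hp₀' (e ▸ one_mem _)
  have k0 := burn (D := ⊥) ((zpowers_le.2 hp₀).trans nV) bot_le (c := c) (e := 0)
    (fun q hq q1 => hc q (zpowers_le.2 hp₀ hq) fun e' =>
      hp₀' (zpowers_le.2 e' (zp _ o5 q hq (fun e => q1 (mem_bot.2 e)) p₀ (mem_zpowers _))))
    fun p hp p1 => absurd (mem_bot.1 hp) p1
  rw [o5, card_bot, hb] at k0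
  have k1 : 5 ∣ 2 ^ b + 4 := by
    refine (cop' 1).dvd_of_dvd_mul_right (Int.natCast_dvd_natCast.1 ?_)
    obtain ⟨m, hm⟩ := k0
    exact ⟨m + c, by push_cast at hm ⊢; linarith⟩
  have he : ∀ q ∈ ⁅P, P⁆, q ≠ 1 → Nat.card ↥(V ⊓ centralizer {q}) = Nat.card ↥(V ⊓ C(⁅P, P⁆)) := fun q hq q1 => by
    have : centralizer {q} = C(⁅P, P⁆) := by
      refine le_antisymm (fun x hx => mem_centralizer_iff.2 fun y hy => ?_)
        (centralizer_le (Set.singleton_subset_iff.2 hq))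
      obtain ⟨i, rfl⟩ := zp _ e q hq q1 y hy
      exact (Commute.zpow_left (mem_centralizer_singleton_iff.1 hx).symm i).eq
    rw [this]
  obtain ⟨a, ha⟩ := pow2 pV (inf_le_left : V ⊓ C(⁅P, P⁆) ≤ V)
  obtain ⟨p, hp, hp', hpc⟩ : ∃ p ∈ P, p ∉ ⁅P, P⁆ ∧ p ∉ C(P) := by
    by_contra e'
    push Not at e'
    rw [commutator_eq_bot_iff_le_centralizer.2 (gen _ e'), card_bot] at e
    omega
  rw [mem_centralizer_iff] at hpc
  push Not at hpc
  obtain ⟨y, hy, hyp⟩ := hpc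
  have c1 : ⁅y, p⁆ ∈ ⁅P, P⁆ := commutator_mem_commutator hy hp
  have c2 : ⁅y, p⁆ ≠ 1 := fun e => hyp (commutatorElement_eq_one_iff_mul_comm.1 e)
  have c3 := hc (⁅y, p⁆ * p) (P.mul_mem (DP c1) hp) fun e' => hp' ((mul_mem_cancel_left c1).1 e')
  have VV : V ≤ C(V) := fun a ha => mem_centralizer_iff.2 fun b hb =>
    congrArg Subtype.val (h.el.1.is_comm.comm (⟨b, hb⟩ : V) ⟨a, ha⟩)
  have c4 := card_sup_mul_card_inf (H := V ⊓ centralizer {p}) (N := V ⊓ centralizer {⁅y, p⁆ * p})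
    ((inf_le_left.trans (VV.trans (centralizer_le (SetLike.coe_subset_coe.2 inf_le_left)))).trans
      (centralizer_le_normalizer _))
  rw [c3, hc p hp hp'] at c4
  have c5 := card_le_of_le (sup_le inf_le_left inf_le_left :
    V ⊓ centralizer {p} ⊔ V ⊓ centralizer {⁅y, p⁆ * p} ≤ V)
  have c6 := card_le_of_le (show V ⊓ centralizer {p} ⊓ (V ⊓ centralizer {⁅y, p⁆ * p}) ≤ V ⊓ centralizer {⁅y, p⁆} from
    fun x hx => ⟨hx.1.1, mem_centralizer_singleton_iff.2 (by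
      have := (Commute.mul_right (mem_centralizer_singleton_iff.1 hx.2.2)
        (Commute.inv_right (mem_centralizer_singleton_iff.1 hx.1.2)))
      rw [mul_inv_cancel_right] at this
      exact this.eq)⟩)
  rw [he _ c1 c2] at c6
  have k := burn nV DP hc he
  rw [h.cP, e] at k
  generalize Nat.card ↥(V ⊓ C(⁅P, P⁆)) = f at ha c6 k
  have c7 : c * c ≤ Nat.card V * f := c4 ▸ Nat.mul_le_mul c5 c6
  have c0 : 0 < c := Nat.pos_of_ne_zero fun e => by
    rw [e, mul_zero] at hb; exact Nat.card_pos.ne' hb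
  have ab : a ≤ 2 * b := by
    refine (Nat.pow_le_pow_iff_right (by decide : 1 < 2)).1 (Nat.le_of_mul_le_mul_right ?_ (Nat.mul_pos c0 c0))
    calc 2 ^ a * (c * c) ≤ 2 ^ a * (Nat.card V * f) := Nat.mul_le_mul_left _ c7
      _ = Nat.card V * Nat.card V := by rw [mul_left_comm, ← ha]
      _ = 2 ^ (2 * b) * (c * c) := by rw [hb]; ring
  refine num2 b b2 a (by omega) b1 k1 ab ((cop 3).dvd_of_dvd_mul_right (Int.natCast_dvd_natCast.1 ?_))
  obtain ⟨m, hm⟩ := k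
  have ha' : (Nat.card V : ℤ) = 2 ^ a * f := by exact_mod_cast ha
  have hb' : (Nat.card V : ℤ) = 2 ^ b * c := by exact_mod_cast hb
  refine ⟨2 ^ a * 2 ^ b * (m + c), ?_⟩
  push_cast at hm ⊢
  linear_combination (2 ^ a * 2 ^ b) * hm + 4 * 2 ^ b * ha' + 120 * 2 ^ a * hb'

end Cfsg.Agent.Lib.SX
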