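import Cfsg.Agent.Lib.SXW5b
import Cfsg.Agent.Lib.SXW5c

/-! The class `W5` for S1852. -/

set_option autoImplicit false

namespace Cfsg.Agent.Lib.SX

universe u

instance instW5 : W5.{u} where
  out := fun h _ hr r2 r5 _ hg g1 g2 _ ht ht' _ => W5a.w5 h (fun hc => w5c h hc) hr r2 r5 hg g1 g2 ht ht'

end Cfsg.Agent.Lib.SX
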