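import Cfsg.Agent.Lib.SXDefs
import Cfsg.Agent.Lib.LocFour

/-! `p = 5`: transitivity on the six lines. -/

set_option autoImplicit false

namespace Cfsg.Agent.Lib.SX

open Cfsg Subgroup Cfsg.Agent.Lib.PCoreConj Cfsg.Agent.Lib.PCore Cfsg.Agent.Lib.PushBase Cfsg.Agent.Lib.LocIdx
  Cfsg.Agent.Lib.LocFour
open scoped commutatorElement

universe u

namespace W5a

variable {G : Type u} [Group G] [Finite G] {X T P M₀ R V : Subgroup G}

theorem dvd_card {q : ℕ} [Fact q.Prime] {A : Subgroup G} (hA : IsPGroup q A) (S : Set (Subgroup G))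
    (hS : ∀ a ∈ A, ∀ Y ∈ S, Y ^ᶜ a ∈ S) (hf : ∀ Y ∈ S, ¬ A ≤ N(Y)) : q ∣ Nat.card S := by
  letI act : MulAction A S :=
    { smul := fun a Y => ⟨Y.1 ^ᶜ a.1, hS a.1 a.2 Y.1 Y.2⟩
      one_smul := fun Y => Subtype.ext (conj_one Y.1)
      mul_smul := fun a b Y => Subtype.ext (conj_conj Y.1 b.1 a.1).symm }
  have h1 := hA.card_modEq_card_fixedPoints S
  have h2 : MulAction.fixedPoints A S = ∅ := Set.eq_empty_of_forall_notMem fun Y hY =>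
    hf Y.1 Y.2 fun a ha => mem_normalizer_iff_conj_eq.2 (congrArg Subtype.val (hY ⟨a, ha⟩))
  rw [h2] at h1
  simpa using (Nat.modEq_zero_iff_dvd).1 (by simpa using h1)

variable (h : Xv 5 X T P M₀ R V)
include h

omit [Finite G] in
theorem nO : M₀ ≤ N(pCoreOf 2 X) := h.nX.trans (normalizer_le_normalizer_pCoreOf 2 X)

omit [Finite G] in
theorem nF : M₀ ≤ N(pCoreOf 2 X ⊔ ⁅X, X⁆) := le_normalizer_sup (nO h) (le_normalizer_commutator h.nX h.nX)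

omit [Finite G] in
theorem dec {x : G} (hx : x ∈ X) : ∃ p ∈ P, ∃ o ∈ pCoreOf 2 X, p * o = x := by
  rw [h.XO, sup_comm] at hx
  exact (mem_sup_iff_of_le_normalizer (h.PX.trans (h.XM.trans (nO h)))).1 hx

omit [Finite G] in
theorem F_eq : pCoreOf 2 X ⊔ ⁅X, X⁆ = pCoreOf 2 X ⊔ ⁅P, P⁆ := by
  refine le_antisymm (sup_le le_sup_left (commutator_le.2 fun x hx y hy => ?_))
    (sup_le_sup_left (commutator_mono h.PX h.PX) _)
  obtain ⟨p, hp, o, ho, rfl⟩ := dec h hx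
  obtain ⟨q, hq, o', ho', rfl⟩ := dec h hy
  have n : ∀ m ∈ X, ∀ a ∈ pCoreOf 2 X, m * a * m⁻¹ ∈ pCoreOf 2 X := fun m hm a ha =>
    (mem_normalizer_iff.1 (nO h (h.XM hm)) a).1 ha
  have h1 := mul_mem (mul_mem (mul_mem (n p (h.PX hp) o ho) (n (p * q) (h.PX (mul_mem hp hq)) _
    (mul_mem ho' (inv_mem ho)))) (n (p * q * p⁻¹) (h.PX (mul_mem (mul_mem hp hq) (inv_mem hp))) _ (inv_mem ho'))) (one_mem _)
  have h2 := mul_mem (mem_sup_left h1 : _ ∈ pCoreOf 2 X ⊔ ⁅P, P⁆) (mem_sup_right (commutator_mem_commutator hp hq))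
  convert h2 using 1
  simp only [commutatorElement_def]; group

theorem pP : IsPGroup 5 P := fun x => ⟨1, Subtype.ext (by simpa using h.ex x.1 x.2)⟩

theorem inf_bot : P ⊓ pCoreOf 2 X = ⊥ :=
  haveI := Fact.mk (by norm_num : Nat.Prime 5)
  disjoint_iff.1 (IsPGroup.disjoint_of_ne 5 2 (by norm_num) _ _ (pP h) (pCoreOf_isPGroup 2 X))

omit [Finite G] in
theorem DP : ⁅P, P⁆ ≤ P := commutator_le_left_of_le_normalizer le_normalizer

theorem cardX : Nat.card X = 25 * (Nat.card ↥⁅P, P⁆ * Nat.card (pCoreOf 2 X)) := by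
  have := card_sup_mul_card_inf (h.PX.trans (h.XM.trans (nO h)))
  rw [inf_bot h, sup_comm, ← h.XO, card_bot, mul_one, h.cP] at this
  rw [this]; ring

theorem cardF : Nat.card ↥(pCoreOf 2 X ⊔ ⁅X, X⁆) = Nat.card ↥⁅P, P⁆ * Nat.card (pCoreOf 2 X) := by
  have := card_sup_mul_card_inf ((DP h).trans (h.PX.trans (h.XM.trans (nO h))))
  rw [le_bot_iff.1 ((inf_le_inf_right _ (DP h)).trans (inf_bot h).le), sup_comm, ← F_eq h, card_bot, mul_one] at this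
  exact this

omit [Finite G] h in
theorem FX : pCoreOf 2 X ⊔ ⁅X, X⁆ ≤ X := sup_le (pCoreOf_le 2 X) (commutator_le_left_of_le_normalizer le_normalizer)

theorem idxF : (pCoreOf 2 X ⊔ ⁅X, X⁆).relIndex X = 25 := by
  have := card_mul_relIndex (FX (X := X))
  rw [cardF h, cardX h, mul_comm] at this
  exact Nat.eq_of_mul_eq_mul_right (Nat.mul_pos Nat.card_pos Nat.card_pos) this

omit [Finite G] in
theorem pow5 {x : G} (hx : x ∈ X) : x ^ 5 ∈ pCoreOf 2 X := by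
  obtain ⟨p, hp, o, ho, rfl⟩ := dec h hx
  have n : ∀ k : ℕ, p ^ k * o * (p ^ k)⁻¹ ∈ pCoreOf 2 X := fun k =>
    (mem_normalizer_iff.1 (nO h (h.XM (h.PX (pow_mem hp k)))) o).1 ho
  have h1 := mul_mem (mul_mem (mul_mem (mul_mem (n 1) (n 2)) (n 3)) (n 4)) (n 5)
  have e : (p * o) ^ 5 = p ^ 1 * o * (p ^ 1)⁻¹ * (p ^ 2 * o * (p ^ 2)⁻¹) * (p ^ 3 * o * (p ^ 3)⁻¹) *
      (p ^ 4 * o * (p ^ 4)⁻¹) * (p ^ 5 * o * (p ^ 5)⁻¹) * p ^ 5 := by
    simp only [pow_succ, pow_zero, one_mul, mul_inv_rev, mul_assoc, inv_mul_cancel_left, inv_mul_cancel, mul_one]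
  rw [e, h.ex p hp, mul_one, ← h.ex p hp]
  exact h1

/-- a line -/
structure Ln (X Y : Subgroup G) : Prop where
  lo : pCoreOf 2 X ⊔ ⁅X, X⁆ ≤ Y
  hi : Y ≤ X
  i1 : (pCoreOf 2 X ⊔ ⁅X, X⁆).relIndex Y = 5
  i2 : Y.relIndex X = 5

theorem ln_of {Y : Subgroup G} (h1 : pCoreOf 2 X ⊔ ⁅X, X⁆ ≤ Y) (h2 : Y ≤ X) (h3 : ¬ Y ≤ pCoreOf 2 X ⊔ ⁅X, X⁆)
    (h4 : ¬ X ≤ Y) : Ln X Y := by
  have e := relIndex_mul_relIndex _ Y X h1 h2
  rw [idxF h] at e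
  have a1 := mt relIndex_eq_one.1 h3
  have a2 := mt relIndex_eq_one.1 h4
  have d : (pCoreOf 2 X ⊔ ⁅X, X⁆).relIndex Y ∣ 5 ^ 2 := Dvd.intro _ e
  obtain ⟨k, hk, e'⟩ := (Nat.dvd_prime_pow (by norm_num : Nat.Prime 5)).1 d
  interval_cases k
  · exact absurd e' a1
  · refine ⟨h1, h2, e', ?_⟩
    rw [e'] at e; omega
  · rw [e'] at e; omega

theorem ln {x : G} (hx : x ∈ X) (hx' : x ∉ pCoreOf 2 X ⊔ ⁅X, X⁆) : Ln X (zpowers x ⊔ (pCoreOf 2 X ⊔ ⁅X, X⁆)) := by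
  refine ln_of h le_sup_right (sup_le (zpowers_le.2 hx) FX) (fun e => hx' (e (mem_sup_left (mem_zpowers x)))) fun e => ?_
  obtain ⟨p, hp, o, ho, rfl⟩ := dec h hx
  have e1 : zpowers (p * o) ⊔ (pCoreOf 2 X ⊔ ⁅X, X⁆) ≤ zpowers p ⊔ (pCoreOf 2 X ⊔ ⁅X, X⁆) :=
    sup_le (zpowers_le.2 (mul_mem (mem_sup_left (mem_zpowers p)) (mem_sup_right (mem_sup_left ho)))) le_sup_right
  have e2 := card_sup_mul_card_inf ((zpowers_le.2 (h.XM (h.PX hp))).trans (nF h))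
  have e3 : Nat.card (zpowers p) ≤ 5 := by
    rw [Nat.card_zpowers]; exact Nat.le_of_dvd (by norm_num) (orderOf_dvd_of_pow_eq_one (h.ex p hp))
  have e4 := card_le_of_le (e.trans e1)
  rw [cardX h, ← cardF h] at e4
  have e5 : 0 < Nat.card ↥(zpowers p ⊓ (pCoreOf 2 X ⊔ ⁅X, X⁆)) := Nat.card_pos
  have e6 : 0 < Nat.card ↥(pCoreOf 2 X ⊔ ⁅X, X⁆) := Nat.card_pos
  nlinarith

omit [Finite G] h in
theorem Ln.eq {Y : Subgroup G} (l : Ln X Y) {x : G} (hx : x ∈ Y) (hx' : x ∉ pCoreOf 2 X ⊔ ⁅X, X⁆) :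
    Y = zpowers x ⊔ (pCoreOf 2 X ⊔ ⁅X, X⁆) :=
  le_antisymm (le_of_relIndex_prime (by norm_num) l.lo l.i1 le_sup_right hx hx' (mem_sup_left (mem_zpowers x)))
    (sup_le (zpowers_le.2 hx) l.lo)

omit [Finite G] h in
theorem Ln.nm {Y : Subgroup G} (l : Ln X Y) : X ≤ N(Y) :=
  le_normalizer_of_commutator_le_of_le (le_sup_right.trans l.lo) l.hi

theorem Ln.notT {Y : Subgroup G} (l : Ln X Y) : ¬ T ≤ N(Y) := fun hT => by
  rcases h.irr Y (sup_le l.nm hT) with e | e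
  · have : X ≤ Y := h.XO.le.trans (sup_le (le_sup_left.trans l.lo) e)
    have := relIndex_eq_one.2 this
    rw [l.i2] at this; omega
  · have : Y ≤ pCoreOf 2 X ⊔ ⁅X, X⁆ := fun y hy => by
      obtain ⟨p, hp, o, ho, rfl⟩ := dec h (l.hi hy)
      rw [F_eq h]
      exact mul_mem (mem_sup_right (e (mem_inf.2 ⟨hp, (mul_mem_cancel_right (l.lo (mem_sup_left ho))).1 hy⟩)))
        (mem_sup_left ho)
    have := relIndex_eq_one.2 this
    rw [l.i1] at this; omega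

theorem Ln.conj {Y : Subgroup G} (l : Ln X Y) {m : G} (hm : m ∈ M₀) : Ln X (Y ^ᶜ m) := by
  have e1 := conj_eq_of_mem_normalizer (nF h hm)
  have e2 := conj_eq_of_mem_normalizer (h.nX hm)
  refine ln_of h (e1 ▸ conj_mono m l.lo) (e2 ▸ conj_mono m l.hi) (fun e => ?_) fun e => ?_
  · rw [← e1, conj_le_conj_iff] at e
    have := relIndex_eq_one.2 e
    rw [l.i1] at this; omega
  · rw [← e2, conj_le_conj_iff] at e
    have := relIndex_eq_one.2 e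
    rw [l.i2] at this; omega

theorem step {r : ℕ} [hr : Fact r.Prime] (r2 : r ≠ 2) (r5 : r ≠ 5) {A B₁ B₂ N : Subgroup G} (hA : IsPGroup r A)
    (h1 : B₁ ≤ B₂) (h2 : B₂ ≤ X) (hi : B₁.relIndex B₂ ∣ 5) (n1 : A ≤ N(B₁)) (n2 : A ≤ N(B₂)) (hN : B₁ ≤ N)
    (hC : X ⊓ C(A) ≤ N) : B₂ ≤ N := by
  rcases (Nat.dvd_prime (by norm_num : Nat.Prime 5)).1 hi with hi | hi
  · exact (relIndex_eq_one.1 hi).trans hN
  by_cases e : B₂ ⊓ C(A) ≤ B₁
  · exfalso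
    have e1 : B₂ ⊓ C(A) = B₁ ⊓ C(A) := le_antisymm (le_inf e inf_le_right) (inf_le_inf_right _ h1)
    have e2 := (card_modEq_inf_centralizer hA n1).trans (e1 ▸ card_modEq_inf_centralizer hA n2).symm
    rw [← card_mul_relIndex h1, hi] at e2
    have e3 := (Nat.modEq_iff_dvd' (by omega)).1 e2
    rw [show Nat.card B₁ * 5 - Nat.card B₁ = 2 ^ 2 * Nat.card B₁ by omega] at e3
    obtain ⟨a, ha⟩ := (pCoreOf_isPGroup 2 X).exists_card_eq
    have e4 : Nat.card B₁ ∣ 5 ^ 3 * 2 ^ a := by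
      refine (card_dvd_of_le (h1.trans h2)).trans ?_
      rw [cardX h, ha, ← mul_assoc]
      exact Nat.mul_dvd_mul_right (Nat.mul_dvd_mul_left 25 h.cD) _
    have p2 : ∀ k, ¬ r ∣ 2 ^ k := fun k e => r2 ((Nat.prime_dvd_prime_iff_eq hr.out Nat.prime_two).1 (hr.out.dvd_of_dvd_pow e))
    rcases (Nat.Prime.dvd_mul hr.out).1 e3 with e | e
    · exact p2 _ e
    rcases (Nat.Prime.dvd_mul hr.out).1 (e.trans e4) with e | e
    · exact r5 ((Nat.prime_dvd_prime_iff_eq hr.out (by norm_num)).1 (hr.out.dvd_of_dvd_pow e))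
    · exact p2 _ e
  · obtain ⟨b, hb, hb'⟩ := SetLike.not_le_iff_exists.1 e
    exact le_of_relIndex_prime (by norm_num) h1 hi hN (mem_inf.1 hb).1 hb' (hC (inf_le_inf_right _ h2 hb))

theorem Ln.triv {r : ℕ} [hr : Fact r.Prime] (r2 : r ≠ 2) (r5 : r ≠ 5) {A Y : Subgroup G} (l : Ln X Y)
    (hA : IsPGroup r A) (hM : A ≤ M₀) (hn : A ≤ N(Y)) : ∀ a ∈ A, ∀ x ∈ X, a * x * a⁻¹ * x⁻¹ ∈ pCoreOf 2 X := by
  have i0 : (pCoreOf 2 X).relIndex (pCoreOf 2 X ⊔ ⁅X, X⁆) ∣ 5 := by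
    have := card_mul_relIndex (le_sup_left : pCoreOf 2 X ≤ pCoreOf 2 X ⊔ ⁅X, X⁆)
    rw [cardF h, mul_comm] at this
    rw [Nat.eq_of_mul_eq_mul_right Nat.card_pos this]
    exact h.cD
  have s1 := step h r2 r5 hA le_sup_left FX i0 (hM.trans (nO h)) (hM.trans (nF h))
    (le_sup_right : _ ≤ (X ⊓ C(A)) ⊔ pCoreOf 2 X) le_sup_left
  have s2 := step h r2 r5 hA l.lo l.hi l.i1.dvd (hM.trans (nF h)) hn s1 le_sup_left
  have s3 := step h r2 r5 hA l.hi le_rfl l.i2.dvd hn (hM.trans h.nX) s2 le_sup_left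
  intro a ha x hx
  obtain ⟨c, hc, o, ho, rfl⟩ :=
    (mem_sup_iff_of_le_normalizer (inf_le_left.trans (h.XM.trans (nO h)))).1 (s3 hx)
  have e := mem_centralizer_iff.1 (mem_inf.1 hc).2 a ha
  have h1 := (mem_normalizer_iff.1 (nO h (h.XM (mem_inf.1 hc).1)) _).1
    (mul_mem ((mem_normalizer_iff.1 (nO h (hM ha)) o).1 ho) (inv_mem ho))
  convert h1 using 1
  calc a * (c * o) * a⁻¹ * (c * o)⁻¹ = (a * c) * o * a⁻¹ * o⁻¹ * c⁻¹ := by group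
    _ = _ := by rw [e]; group

end W5a

end Cfsg.Agent.Lib.SX
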