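import Cfsg.Agent.Lib.SXW5a

/-! `p = 5`: all noncentral elements have the same number of fixed points. -/

set_option autoImplicit false

namespace Cfsg.Agent.Lib.SX

open Cfsg Subgroup Cfsg.Agent.Lib.PCoreConj Cfsg.Agent.Lib.PCore Cfsg.Agent.Lib.PushBase Cfsg.Agent.Lib.LocIdx
  Cfsg.Agent.Lib.LocFour
open scoped commutatorElement

universe u

namespace W5a

variable {G : Type u} [Group G] [Finite G] {X T P M₀ R V : Subgroup G}

omit [Finite G] in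
theorem Ln.ex {Y : Subgroup G} (l : Ln X Y) : ∃ y ∈ Y, y ∉ pCoreOf 2 X ⊔ ⁅X, X⁆ :=
  exists_not_mem_of_relIndex_ne_one (by rw [l.i1]; omega)

omit [Finite G] in
theorem fo {x o : G} (ho : o ∈ C(V)) : V ⊓ centralizer {x * o} = V ⊓ centralizer {x} := by
  ext v
  simp only [mem_inf, mem_centralizer_singleton_iff]
  refine and_congr_right fun hv => ?_
  rw [← mul_assoc, mul_assoc x, ← mem_centralizer_iff.1 ho v hv, ← mul_assoc, mul_left_inj]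

omit [Finite G] in
theorem fc {x m : G} (hm : m ∈ N(V)) :
    Nat.card ↥(V ⊓ centralizer {m * x * m⁻¹}) = Nat.card ↥(V ⊓ centralizer {x}) := by
  rw [← card_conj (V ⊓ centralizer {x}) m, conj_inf, conj_eq_of_mem_normalizer hm, conj_centralizer_singleton]

theorem eq_zpowers {D : Subgroup G} (hD : Nat.card D ∣ 5) {d : G} (hd : d ∈ D) (h1 : d ≠ 1) : zpowers d = D := by
  have h2 := card_dvd_of_le (zpowers_le.2 hd)
  rcases (Nat.dvd_prime (by norm_num : Nat.Prime 5)).1 (h2.trans hD) with e | e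
  · exact absurd (zpowers_eq_bot.1 (card_eq_one.1 e)) h1
  · exact eq_of_le_of_card_ge (zpowers_le.2 hd) (e ▸ Nat.le_of_dvd (by norm_num) hD)

variable (h : Xv 5 X T P M₀ R V)
include h

theorem six : {Y | Ln X Y}.ncard ≤ 6 := by
  obtain ⟨x, hx, hx'⟩ := exists_not_mem_of_relIndex_ne_one (show (pCoreOf 2 X ⊔ ⁅X, X⁆).relIndex X ≠ 1 by
    rw [idxF h]; omega)
  have l := ln h hx hx'
  obtain ⟨y, hy, hy'⟩ := exists_not_mem_of_relIndex_ne_one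
    (show (zpowers x ⊔ (pCoreOf 2 X ⊔ ⁅X, X⁆)).relIndex X ≠ 1 by rw [l.i2]; omega)
  have sub : {Y | Ln X Y} ⊆ insert (zpowers x ⊔ (pCoreOf 2 X ⊔ ⁅X, X⁆))
      ((fun k : Fin 5 => zpowers (x ^ (k : ℕ) * y) ⊔ (pCoreOf 2 X ⊔ ⁅X, X⁆)) '' Set.univ) := by
    intro Y (hY : Ln X Y)
    obtain ⟨w, hw, hw'⟩ := hY.ex
    by_cases e : w ∈ zpowers x ⊔ (pCoreOf 2 X ⊔ ⁅X, X⁆)
    · exact Or.inl ((hY.eq hw hw').trans (l.eq e hw').symm)
    have h1 : X ≤ zpowers x ⊔ Y := le_of_relIndex_prime (by norm_num) l.hi l.i2 (sup_le_sup_left hY.lo _)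
      (hY.hi hw) e (mem_sup_right hw)
    obtain ⟨a, ha, b, hb, e'⟩ := (mem_sup_iff_of_le_normalizer ((zpowers_le.2 hx).trans hY.nm)).1 (h1 hy)
    obtain ⟨n, hn⟩ := (Submonoid.mem_powers_iff _ _).1 (mem_powers_iff_mem_zpowers.2 (inv_mem ha))
    have h2 : x ^ (n % 5) * y ∈ Y := by
      have h3 : (x ^ 5) ^ (n / 5) * (x ^ (n % 5) * y) = b := by
        rw [← mul_assoc, ← pow_mul, ← pow_add, Nat.div_add_mod, hn, ← e', inv_mul_cancel_left]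
      exact (mul_mem_cancel_left (pow_mem (hY.lo (mem_sup_left (pow5 h hx))) _)).1 (h3 ▸ hb)
    refine Or.inr ⟨⟨n % 5, Nat.mod_lt _ (by norm_num)⟩, trivial, (hY.eq h2 fun h3 => hy' ?_).symm⟩
    exact (mul_mem_cancel_left (mem_sup_left (pow_mem (mem_zpowers x) _))).1 (mem_sup_right h3)
  refine (Set.ncard_le_ncard sub).trans ((Set.ncard_insert_le _ _).trans (Nat.succ_le_succ ?_))
  exact (Set.ncard_image_le).trans (by simp)

theorem trans {r : ℕ} [hr : Fact r.Prime] (r2 : r ≠ 2) {A : Subgroup G} (hA : IsPGroup r A) (hM : A ≤ M₀)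
    (hn : ∀ Y, Ln X Y → ¬ A ≤ N(Y)) (f : G → ℕ) (hc : ∀ m ∈ M₀, ∀ x, f (m * x * m⁻¹) = f x)
    (hw : ∀ Y, Ln X Y → ∀ x ∈ Y, x ∉ pCoreOf 2 X ⊔ ⁅X, X⁆ → ∀ y ∈ Y, y ∉ pCoreOf 2 X ⊔ ⁅X, X⁆ → f y = f x)
    {x y : G} (hx : x ∈ X) (hx' : x ∉ pCoreOf 2 X ⊔ ⁅X, X⁆) (hy : y ∈ X) (hy' : y ∉ pCoreOf 2 X ⊔ ⁅X, X⁆) :
    f x = f y := by
  let S : ℕ → Set (Subgroup G) := fun c => {Y | Ln X Y ∧ ∀ y ∈ Y, y ∉ pCoreOf 2 X ⊔ ⁅X, X⁆ → f y = c}
  have inv : ∀ c, ∀ m ∈ M₀, ∀ Y ∈ S c, Y ^ᶜ m ∈ S c := fun c m hm Y hY => ⟨hY.1.conj h hm, fun y hy hy' => by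
    obtain ⟨w, hw1, rfl⟩ := mem_conj_iff'.1 hy
    rw [hc m hm]
    exact hY.2 w hw1 fun e => hy' ((mem_normalizer_iff.1 (nF h hm) w).1 e)⟩
  have big : ∀ x ∈ X, x ∉ pCoreOf 2 X ⊔ ⁅X, X⁆ → 6 ≤ (S (f x)).ncard := fun x hx hx' => by
    have d2 := dvd_card h.pT (S (f x)) (fun a ha => inv _ a (h.TM ha)) fun Y hY => hY.1.notT h
    have dr := dvd_card hA (S (f x)) (fun a ha => inv _ a (hM ha)) fun Y hY => hn Y hY.1
    have d := ((Nat.coprime_primes Nat.prime_two hr.out).2 r2.symm).mul_dvd_of_dvd_of_dvd d2 dr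
    rw [Nat.card_coe_set_eq] at d
    have pos : 0 < (S (f x)).ncard := (Set.ncard_pos).2
      ⟨_, ln h hx hx', hw _ (ln h hx hx') x (mem_sup_left (mem_zpowers x)) hx'⟩
    have := Nat.le_of_dvd pos d
    have := hr.out.two_le
    omega
  by_contra ne
  have dj : Disjoint (S (f x)) (S (f y)) := Set.disjoint_left.2 fun Y h1 h2 => by
    obtain ⟨w, w1, w2⟩ := h1.1.ex
    exact ne ((h1.2 w w1 w2).symm.trans (h2.2 w w1 w2))
  have h1 := Set.ncard_union_eq dj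
  have h2 : (S (f x) ∪ S (f y)).ncard ≤ {Y | Ln X Y}.ncard :=
    Set.ncard_le_ncard (Set.union_subset (fun Y hY => hY.1) fun Y hY => hY.1)
  have := six h
  have := big x hx hx'
  have := big y hy hy'
  omega

theorem fd {q d : G} (hq : q ∈ P) (hq' : q ∉ ⁅P, P⁆) (hd : d ∈ ⁅P, P⁆) : ∃ w ∈ P, w * q * w⁻¹ = q * d := by
  rcases (Nat.dvd_prime (by norm_num : Nat.Prime 5)).1 h.cD with e | e
  · rw [card_eq_one.1 e, mem_bot] at hd
    exact ⟨1, one_mem _, by rw [hd]; group⟩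
  have nc : ¬ IsMulCommutative P := fun hc => by
    have : ⁅P, P⁆ = ⊥ := commutator_eq_bot_iff_le_centralizer.2 (le_centralizer_iff_isMulCommutative.2 hc)
    rw [this, card_bot] at e
    omega
  obtain ⟨-, e1, -⟩ := XiS.E.q3 (Q := P) (p := 5) (by norm_num) (by rw [h.cP, e]; norm_num) nc
  have key : ∀ a : P, (a : G) ∈ ⁅P, P⁆ ↔ ∀ w ∈ P, w * a = a * w := fun a => by
    rw [← map_subtype_commutator, e1]
    constructor
    · rintro ⟨b, hb, e⟩ w hw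
      exact e ▸ congrArg Subtype.val (mem_center_iff.1 hb ⟨w, hw⟩)
    · exact fun h' => ⟨a, mem_center_iff.2 fun w => Subtype.ext (h' w.1 w.2), rfl⟩
  have h1 := mt (key ⟨q, hq⟩).2 hq'
  push Not at h1
  obtain ⟨w, hw, hw'⟩ := h1
  have h2 : q⁻¹ * w * q * w⁻¹ ∈ ⁅P, P⁆ := by
    have := commutator_mem_commutator (inv_mem hq) hw
    rwa [commutatorElement_def, inv_inv] at this
  have h3 : q⁻¹ * w * q * w⁻¹ ≠ 1 := fun e => hw' (by
    calc w * q = q * (q⁻¹ * w * q * w⁻¹) * w := by group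
      _ = q * w := by rw [e, mul_one])
  rw [← eq_zpowers h.cD h2 h3] at hd
  obtain ⟨n, rfl⟩ := (Submonoid.mem_powers_iff _ _).1 (mem_powers_iff_mem_zpowers.2 hd)
  refine ⟨w ^ n, pow_mem hw n, ?_⟩
  induction n with
  | zero => simp
  | succ n ih =>
    have c := (key ⟨_, DP h (pow_mem h2 n)⟩).1 (pow_mem h2 n) w hw
    calc w ^ (n + 1) * q * (w ^ (n + 1))⁻¹ = w * (w ^ n * q * (w ^ n)⁻¹) * w⁻¹ := by group
      _ = w * q * w⁻¹ * (w * (q⁻¹ * w * q * w⁻¹) ^ n) * w⁻¹ := by rw [ih (pow_mem (mem_zpowers _) n)]; group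
      _ = q * (q⁻¹ * w * q * w⁻¹) ^ (n + 1) := by
        rw [show w * (q⁻¹ * w * q * w⁻¹) ^ n = (q⁻¹ * w * q * w⁻¹) ^ n * w from c, pow_succ']
        generalize (q⁻¹ * w * q * w⁻¹) ^ n = δ
        group

theorem wd (Y : Subgroup G) (l : Ln X Y) (x : G) (hx : x ∈ Y) (hx' : x ∉ pCoreOf 2 X ⊔ ⁅X, X⁆) (y : G) (hy : y ∈ Y)
    (hy' : y ∉ pCoreOf 2 X ⊔ ⁅X, X⁆) :
    Nat.card ↥(V ⊓ centralizer {y}) = Nat.card ↥(V ⊓ centralizer {x}) := by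
  obtain ⟨p, hp, o, ho, rfl⟩ := dec h (l.hi hx)
  have h1 : p ∈ Y := (mul_mem_cancel_right (l.lo (mem_sup_left ho))).1 hx
  have h2 : p ∉ pCoreOf 2 X ⊔ ⁅X, X⁆ := fun e => hx' (mul_mem e (mem_sup_left ho))
  rw [l.eq h1 h2] at hy
  obtain ⟨q, hq, φ, hφ, rfl⟩ := (mem_sup_iff_of_le_normalizer ((zpowers_le.2 (h.XM (h.PX hp))).trans (nF h))).1 hy
  have hφ' := hφ
  rw [F_eq h, sup_comm] at hφ'
  obtain ⟨d, hd, o', ho', rfl⟩ := (mem_sup_iff_of_le_normalizer ((DP h).trans (h.PX.trans (h.XM.trans (nO h))))).1 hφ'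
  have h3 : q ∉ pCoreOf 2 X ⊔ ⁅X, X⁆ := fun e => hy' (mul_mem e hφ)
  have hqP := zpowers_le.2 hp hq
  obtain ⟨w, hw, e⟩ := fd h hqP (fun e => h3 (F_eq h ▸ mem_sup_right e)) hd
  rw [← mul_assoc, fo (h.oV ho'), fo (h.oV ho), ← e, fc (h.nV (h.XM (h.PX hw))), ← centralizer_zpowers,
    eq_zpowers (D := zpowers p) (by rw [Nat.card_zpowers]; exact orderOf_dvd_of_pow_eq_one (h.ex p hp)) hq
      (fun e => h3 (e ▸ one_mem _)), centralizer_zpowers]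

/-- the elements of `M₀` acting trivially on `X / O₂(X)` -/
def K : Subgroup G where
  carrier := {m | m ∈ M₀ ∧ ∀ x ∈ X, m * x * m⁻¹ * x⁻¹ ∈ pCoreOf 2 X}
  one_mem' := ⟨one_mem _, fun x _ => by simpa using one_mem _⟩
  mul_mem' := by
    rintro a b ⟨ha, ha'⟩ ⟨hb, hb'⟩
    refine ⟨mul_mem ha hb, fun x hx => ?_⟩
    have := mul_mem ((mem_normalizer_iff.1 (nO h ha) _).1 (hb' x hx)) (ha' x hx)
    convert this using 1
    group
  inv_mem' := by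
    rintro a ⟨ha, ha'⟩
    refine ⟨inv_mem ha, fun x hx => ?_⟩
    have := (mem_normalizer_iff.1 (nO h (inv_mem ha)) _).1 (inv_mem (ha' x hx))
    convert this using 1
    group

theorem same {r : ℕ} (hr : r.Prime) (r2 : r ≠ 2) (r5 : r ≠ 5) {g : G} (hg : g ∈ M₀)
    (g1 : ∀ x ∈ X, g ^ r * x * (g ^ r)⁻¹ * x⁻¹ ∈ pCoreOf 2 X) (g2 : ¬ ∀ x ∈ X, g * x * g⁻¹ * x⁻¹ ∈ pCoreOf 2 X)
    {x y : G} (hx : x ∈ X) (hx' : x ∉ pCoreOf 2 X ⊔ ⁅X, X⁆) (hy : y ∈ X) (hy' : y ∉ pCoreOf 2 X ⊔ ⁅X, X⁆) :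
    Nat.card ↥(V ⊓ centralizer {x}) = Nat.card ↥(V ⊓ centralizer {y}) := by
  haveI := Fact.mk hr
  obtain ⟨e, m, hm, he⟩ := Nat.exists_eq_pow_mul_and_not_dvd (orderOf_pos g).ne' r hr.ne_one
  have hA : IsPGroup r (zpowers (g ^ m)) := isPGroup_iff_forall_mem.2 fun a ha => ⟨e, by
    obtain ⟨k, rfl⟩ := mem_zpowers_iff.1 ha
    rw [← zpow_natCast, ← zpow_mul, mul_comm, zpow_mul, zpow_natCast, ← pow_mul, mul_comm, ← he, pow_orderOf_eq_one,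
      one_zpow]⟩
  have hM : zpowers (g ^ m) ≤ M₀ := zpowers_le.2 (pow_mem hg m)
  refine trans h r2 hA hM (fun Y l hn => g2 ?_) (fun x => Nat.card ↥(V ⊓ centralizer {x}))
    (fun m hm x => fc (h.nV hm)) (wd h) hx hx' hy hy'
  have k1 : g ^ m ∈ K h := ⟨pow_mem hg m, l.triv h r2 r5 hA hM hn _ (mem_zpowers _)⟩
  have k2 : g ^ r ∈ K h := ⟨pow_mem hg r, g1⟩
  have k3 := mul_mem (zpow_mem k2 (Nat.gcdA r m)) (zpow_mem k1 (Nat.gcdB r m))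
  rw [← zpow_natCast, ← zpow_natCast, ← zpow_mul, ← zpow_mul, ← zpow_add, ← Nat.gcd_eq_gcd_ab,
    ((Nat.Prime.coprime_iff_not_dvd hr).2 hm).gcd_eq_one, Nat.cast_one, zpow_one] at k3
  exact k3.2

theorem w5 (wc : ∀ {c : ℕ}, (∀ p ∈ P, p ∉ ⁅P, P⁆ → Nat.card ↥(V ⊓ centralizer {p}) = c) → 2048 * c ≤ Nat.card V)
    {r : ℕ} (hr : r.Prime) (r2 : r ≠ 2) (r5 : r ≠ 5) {g : G} (hg : g ∈ M₀)
    (g1 : ∀ x ∈ X, g ^ r * x * (g ^ r)⁻¹ * x⁻¹ ∈ pCoreOf 2 X) (g2 : ¬ ∀ x ∈ X, g * x * g⁻¹ * x⁻¹ ∈ pCoreOf 2 X)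
    {t : G} (ht : t ∈ T) (ht' : t ∉ R) : 64 * Nat.card ↥(V ⊓ centralizer {t}) ≤ Nat.card V := by
  have h1 := mt (h.faith t ht).2 ht'
  push Not at h1
  obtain ⟨y, hy, hy'⟩ := h1
  have hx : t * y * t⁻¹ * y⁻¹ ∈ X := mul_mem ((mem_normalizer_iff.1 (h.nX (h.TM ht)) y).1 hy) (inv_mem hy)
  have h2 := wc fun p hp hp' => same h hr r2 r5 hg g1 g2 (h.PX hp) (fun e => hp' (by
    rw [F_eq h, sup_comm] at e
    obtain ⟨d, hd, o, ho, rfl⟩ :=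
      (mem_sup_iff_of_le_normalizer ((DP h).trans (h.PX.trans (h.XM.trans (nO h))))).1 e
    have : o = 1 := mem_bot.1 (inf_bot h ▸ mem_inf.2 ⟨(mul_mem_cancel_left (DP h hd)).1 hp, ho⟩)
    rw [this, mul_one]; exact hd)) hx hy'
  have cV : V ≤ C(V) := le_centralizer_iff_isMulCommutative.2 h.el.1
  have h3 := card_sup_mul_card_inf (H := V ⊓ centralizer {t}) (N := V ⊓ centralizer {y * t * y⁻¹})
    (le_normalizer_of_le_centralizer (inf_le_left.trans (cV.trans (centralizer_anti inf_le_left))))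
  rw [fc (h.nV (h.XM hy))] at h3
  have h4 : Nat.card ↥(V ⊓ centralizer {t} ⊔ V ⊓ centralizer {y * t * y⁻¹}) ≤ Nat.card V :=
    card_le_of_le (sup_le inf_le_left inf_le_left)
  have h5 : Nat.card ↥(V ⊓ centralizer {t} ⊓ (V ⊓ centralizer {y * t * y⁻¹})) ≤
      Nat.card ↥(V ⊓ centralizer {t * y * t⁻¹ * y⁻¹}) := card_le_of_le fun v hv => by
    have := mul_mem (mem_centralizer_iff_le.2 (zpowers_le.2 (mem_inf.1 (mem_inf.1 hv).1).2))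
      (inv_mem (mem_centralizer_iff_le.2 (zpowers_le.2 (mem_inf.1 (mem_inf.1 hv).2).2)))
    rw [show t * (y * t * y⁻¹)⁻¹ = t * y * t⁻¹ * y⁻¹ by group] at this
    exact mem_inf.2 ⟨(mem_inf.1 (mem_inf.1 hv).1).1, mem_centralizer_iff_le.1 this (mem_zpowers v)⟩
  have h6 := card_mul_relIndex (inf_le_left : V ⊓ centralizer {t} ≤ V)
  obtain ⟨n, hn⟩ := (PCoreResidual.isPGroup_of_isElementaryAbelian h.el).exists_card_eq
  obtain ⟨k, -, hk⟩ := (Nat.dvd_prime_pow Nat.prime_two).1 (hn ▸ Dvd.intro_left _ h6)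
  rw [hk] at h6
  have h7 : 0 < Nat.card ↥(V ⊓ centralizer {t}) := Nat.card_pos
  generalize Nat.card ↥(V ⊓ centralizer {t}) = a at *
  have h8 : 2048 * (a * a) ≤ Nat.card V * Nat.card V := by
    calc 2048 * (a * a) ≤ 2048 * (Nat.card V * Nat.card ↥(V ⊓ centralizer {t * y * t⁻¹ * y⁻¹})) := by
          rw [← h3]; exact Nat.mul_le_mul_left _ (Nat.mul_le_mul h4 h5)
      _ ≤ _ := by nlinarith
  have h9 : 6 ≤ k := by
    by_contra hk6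
    have : 2 ^ k ≤ 2 ^ 5 := Nat.pow_le_pow_right (by norm_num) (by omega)
    have h10 : Nat.card V ≤ 32 * a := by rw [← h6]; nlinarith
    nlinarith [Nat.mul_le_mul h10 h10]
  have : 2 ^ 6 ≤ 2 ^ k := Nat.pow_le_pow_right (by norm_num) h9
  rw [← h6]; nlinarith

end W5a

end Cfsg.Agent.Lib.SX
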