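import Cfsg.Agent.Lib.SXL
import Cfsg.Agent.Lib.SXTF
import Cfsg.Agent.Lib.SXW5b
import Cfsg.Agent.Lib.SXW5c

/-! The class `W7` for S1852. -/

set_option autoImplicit false
set_option linter.style.haveILetI false
set_option linter.unusedSectionVars false

namespace Cfsg.Agent.Lib.SXW7

open Cfsg Subgroup Cfsg.Agent.Lib.PCoreConj Cfsg.Agent.Lib.PCore Cfsg.Agent.Lib.PushBase Cfsg.Agent.Lib.SX
  Cfsg.Agent.Lib.PCoreResidual
open scoped commutatorElement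

universe u

theorem num0 {p e : ℕ} (hp : p.Prime) (h7 : 7 ≤ p) (e1 : 1 ≤ e) (e5 : e ≤ 5) (h : p ∣ 4 ^ e - 1) :
    (p = 7 ∧ e = 3) ∨ (p = 17 ∧ e = 4) ∨ (p = 11 ∧ e = 5) ∨ (p = 31 ∧ e = 5) := by
  have k : ∀ q, q.Prime → p ∣ q → p = q := fun q hq => (Nat.prime_dvd_prime_iff_eq hp hq).1
  have k3 := k 3 (by norm_num)
  have k5 := k 5 (by norm_num)
  have k7 := k 7 (by norm_num)
  have k11 := k 11 (by norm_num)
  have k17 := k 17 (by norm_num)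
  have k31 := k 31 (by norm_num)
  interval_cases e
  · have := k3 h; omega
  · rw [show 4 ^ 2 - 1 = 3 * 5 by norm_num, hp.dvd_mul] at h
    rcases h with h | h
    · have := k3 h; omega
    · have := k5 h; omega
  · rw [show 4 ^ 3 - 1 = 3 * 3 * 7 by norm_num, hp.dvd_mul, hp.dvd_mul] at h
    rcases h with (h | h) | h
    · have := k3 h; omega
    · have := k3 h; omega
    · have := k7 h; omega
  · rw [show 4 ^ 4 - 1 = 3 * 5 * 17 by norm_num, hp.dvd_mul, hp.dvd_mul] at h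
    rcases h with (h | h) | h
    · have := k3 h; omega
    · have := k5 h; omega
    · have := k17 h; omega
  · rw [show 4 ^ 5 - 1 = 3 * 11 * 31 by norm_num, hp.dvd_mul, hp.dvd_mul] at h
    rcases h with (h | h) | h
    · have := k3 h; omega
    · have := k11 h; omega
    · have := k31 h; omega

theorem num1 {p e : ℕ} (h : (p = 7 ∧ e = 3) ∨ (p = 17 ∧ e = 4) ∨ (p = 11 ∧ e = 5) ∨ (p = 31 ∧ e = 5)) :
    ¬ (p : ℤ) ^ 2 ∣ 2 ^ (2 * e) - 1 ∧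
      ∀ a ≤ 2 * (2 * e), ¬ (p : ℤ) ^ 3 ∣ p * (2 ^ (2 * e) - 2 ^ a) + 2 ^ a * 2 ^ (2 * e) - 2 ^ (2 * e) := by
  rcases h with ⟨rfl, rfl⟩ | ⟨rfl, rfl⟩ | ⟨rfl, rfl⟩ | ⟨rfl, rfl⟩ <;>
    exact ⟨by norm_num, fun a ha => by interval_cases a <;> norm_num⟩

variable {G : Type u} [Group G] [Finite G] {p : ℕ} {X T P M₀ R V : Subgroup G} (h : Xv p X T P M₀ R V)
include h

theorem nO : M₀ ≤ N(pCoreOf 2 X) := h.nX.trans (normalizer_le_normalizer_pCoreOf 2 X)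

theorem nF : M₀ ≤ N(pCoreOf 2 X ⊔ ⁅X, X⁆) := le_normalizer_sup (nO h) (le_normalizer_commutator h.nX h.nX)

theorem nC : M₀ ≤ N((C(V) : Subgroup G)) := le_normalizer_centralizer h.nV

theorem dec {x : G} (hx : x ∈ X) : ∃ q ∈ P, ∃ o ∈ pCoreOf 2 X, q * o = x := by
  rw [h.XO, sup_comm] at hx
  exact (mem_sup_iff_of_le_normalizer (h.PX.trans (h.XM.trans (nO h)))).1 hx

theorem DP : ⁅P, P⁆ ≤ P := commutator_le_left_of_le_normalizer le_normalizer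

theorem cF {x : G} (hx : x ∈ X) (hc : x ∈ C(V)) : x ∈ pCoreOf 2 X ⊔ ⁅X, X⁆ := by
  rcases h.irr (X ⊓ C(V)) ((sup_le h.XM h.TM).trans (le_normalizer_inf h.nX (nC h))) with k | k
  · exact absurd (h.XO.le.trans (sup_le h.oV (k.trans inf_le_right))) h.nc
  obtain ⟨q, hq, o, ho, rfl⟩ := dec h hx
  exact mul_mem (mem_sup_right (commutator_mono h.PX h.PX
    (k ⟨hq, h.PX hq, (mul_mem_cancel_right (h.oV ho)).1 hc⟩))) (mem_sup_left ho)

theorem xp {x : G} (hx : x ∈ X) : x ^ p ∈ C(V) := by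
  obtain ⟨q, hq, o, ho, rfl⟩ := dec h hx
  have : ∀ n : ℕ, (q ^ n)⁻¹ * (q * o) ^ n ∈ C(V) := fun n => by
    induction n with
    | zero => simp
    | succ n ih =>
      have := mul_mem ((mem_normalizer_iff.1 (nC h (h.XM (h.PX (inv_mem hq)))) _).1 ih) (h.oV ho)
      convert this using 1
      rw [pow_succ, pow_succ]; group
  simpa [h.ex q hq] using this p

theorem LL {t y : G} (ht : t ∈ T) (tt : t * t ∈ R) (hy : y ∈ X) (hw : t * y * t⁻¹ * y⁻¹ ∉ pCoreOf 2 X ⊔ ⁅X, X⁆) :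
    ∃ e, 1 ≤ e ∧ p ∣ 4 ^ e - 1 ∧ 2 ^ e * Nat.card ↥(V ⊓ centralizer {t}) ≤ Nat.card V ∧
      4 ^ e * Nat.card ↥(V ⊓ centralizer {t * y * t⁻¹ * y⁻¹}) = Nat.card V := by
  have hx : t * y * t⁻¹ * y⁻¹ ∈ X := mul_mem ((mem_normalizer_iff.1 (h.nX (h.TM ht)) y).1 hy) (inv_mem hy)
  have t2 : t * t ∈ C(V) := (h.R_eq.le tt).2
  refine SXL.L h.hp h.p2 h.el (h.nV (h.TM ht)) (h.nV (h.XM hx)) t2 (xp h hx) ?_ fun e => hw (cF h hx e)
  have := mul_mem t2 ((mem_normalizer_iff.1 (nC h (h.XM hy)) _).1 (inv_mem t2))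
  convert this using 1
  group

theorem w1 (h7 : 7 ≤ p) {t : G} (ht : t ∈ T) (ht' : t ∉ R) (tt : t * t ∈ R) :
    8 * Nat.card ↥(V ⊓ centralizer {t}) ≤ Nat.card V := by
  have h1 := mt (h.faith t ht).2 ht'
  push Not at h1
  obtain ⟨y, hy, hy'⟩ := h1
  obtain ⟨e, e1, e2, e3, -⟩ := LL h ht tt hy hy'
  have : 3 ≤ e := by
    by_contra k
    have := num0 h.hp h7 e1 (by omega) e2
    omega
  exact (Nat.mul_le_mul_right _ (Nat.pow_le_pow_right (n := 2) (by norm_num) this)).trans e3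

theorem fdec {x : G} (hx : x ∈ pCoreOf 2 X ⊔ ⁅X, X⁆) : ∃ d ∈ ⁅P, P⁆, ∃ o ∈ pCoreOf 2 X, d * o = x := by
  obtain ⟨q, hq, o, ho, rfl⟩ := dec h (W5a.FX hx)
  exact ⟨q, SXTF.inf_le h.toXg ⟨hq, (mul_mem_cancel_right (mem_sup_left ho)).1 hx⟩, o, ho, rfl⟩

omit h in
theorem eq_zpowers (hp : p.Prime) {D : Subgroup G} (hD : Nat.card D ∣ p) {d : G} (hd : d ∈ D) (h1 : d ≠ 1) :
    zpowers d = D := by
  have h2 := card_dvd_of_le (zpowers_le.2 hd)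
  rcases (Nat.dvd_prime hp).1 (h2.trans hD) with e | e
  · exact absurd (zpowers_eq_bot.1 (card_eq_one.1 e)) h1
  · exact eq_of_le_of_card_ge (zpowers_le.2 hd) (e ▸ Nat.le_of_dvd hp.pos hD)

theorem fd {q d : G} (hq : q ∈ P) (hq' : q ∉ ⁅P, P⁆) (hd : d ∈ ⁅P, P⁆) : ∃ w ∈ P, w * q * w⁻¹ = q * d := by
  rcases (Nat.dvd_prime h.hp).1 h.cD with e | e
  · rw [card_eq_one.1 e, mem_bot] at hd
    exact ⟨1, one_mem _, by rw [hd]; group⟩
  have nc : ¬ IsMulCommutative P := fun hc => by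
    have : ⁅P, P⁆ = ⊥ := commutator_eq_bot_iff_le_centralizer.2 (le_centralizer_iff_isMulCommutative.2 hc)
    rw [this, card_bot] at e
    exact h.hp.one_lt.ne e
  obtain ⟨-, e1, -⟩ := XiS.E.q3 (Q := P) (p := p) h.hp (by rw [h.cP, e]; ring) nc
  have key : ∀ a : P, (a : G) ∈ ⁅P, P⁆ ↔ ∀ w ∈ P, w * a = a * w := fun a => by
    rw [← map_subtype_commutator, e1]
    constructor
    · rintro ⟨b, hb, e⟩ w hw
      exact e ▸ congrArg Subtype.val (mem_center_iff.1 hb ⟨w, hw⟩)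
    · exact fun h' => ⟨a, mem_center_iff.2 fun w => Subtype.ext (h' w.1 w.2), rfl⟩
  have h1 := mt (key ⟨q, hq⟩).2 hq'
  push Not at h1
  obtain ⟨w, hw, hw'⟩ := h1
  have h2 : q⁻¹ * w * q * w⁻¹ ∈ ⁅P, P⁆ := by
    have := commutator_mem_commutator (inv_mem hq) hw
    rwa [commutatorElement_def, inv_inv] at this
  have h3 : q⁻¹ * w * q * w⁻¹ ≠ 1 := fun e => hw' (by
    calc w * q = q * (q⁻¹ * w * q * w⁻¹) * w := by group
      _ = q * w := by rw [e, mul_one])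
  rw [← eq_zpowers h.hp h.cD h2 h3] at hd
  obtain ⟨n, rfl⟩ := (Submonoid.mem_powers_iff _ _).1 (mem_powers_iff_mem_zpowers.2 hd)
  refine ⟨w ^ n, pow_mem hw n, ?_⟩
  induction n with
  | zero => simp
  | succ n ih =>
    have c := (key ⟨_, DP h (pow_mem h2 n)⟩).1 (pow_mem h2 n) w hw
    calc w ^ (n + 1) * q * (w ^ (n + 1))⁻¹ = w * (w ^ n * q * (w ^ n)⁻¹) * w⁻¹ := by group
      _ = w * q * w⁻¹ * (w * (q⁻¹ * w * q * w⁻¹) ^ n) * w⁻¹ := by rw [ih (pow_mem (mem_zpowers _) n)]; group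
      _ = q * (q⁻¹ * w * q * w⁻¹) ^ (n + 1) := by
        rw [show w * (q⁻¹ * w * q * w⁻¹) ^ n = (q⁻¹ * w * q * w⁻¹) ^ n * w from c, pow_succ']
        generalize (q⁻¹ * w * q * w⁻¹) ^ n = δ
        group

theorem exq : ∃ q ∈ P, q ∉ ⁅P, P⁆ := by
  by_contra e
  push Not at e
  have h1 := card_le_of_le (show P ≤ ⁅P, P⁆ from e)
  have d0 : 0 < Nat.card ↥⁅P, P⁆ := Nat.card_pos
  have := h.hp.two_le
  rw [h.cP] at h1
  nlinarith [Nat.mul_le_mul this this]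

theorem cnt {c b : ℕ} (hc : ∀ q ∈ P, q ∉ ⁅P, P⁆ → Nat.card ↥(V ⊓ centralizer {q}) = c)
    (hb : Nat.card V = 2 ^ b * c) :
    (p : ℤ) ^ 2 ∣ 2 ^ b - 1 ∨ ∃ a ≤ 2 * b, (p : ℤ) ^ 3 ∣ p * (2 ^ b - 2 ^ a) + 2 ^ a * 2 ^ b - 2 ^ b := by
  have nV : P ≤ N(V) := h.PX.trans (h.XM.trans h.nV)
  have pV : IsPGroup 2 V := isPGroup_of_isElementaryAbelian h.el
  obtain ⟨n, hn⟩ := IsPGroup.iff_card.1 pV
  have cop : ∀ k, Nat.Coprime (p ^ k) (Nat.card V) := fun k => by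
    rw [hn]; exact Nat.Coprime.pow _ _ ((Nat.coprime_primes h.hp Nat.prime_two).2 h.p2)
  have cop' : ∀ k, Nat.Coprime (p ^ k) c := fun k => (cop k).coprime_dvd_right (Dvd.intro_left _ hb.symm)
  have hb' : (Nat.card V : ℤ) = 2 ^ b * c := by exact_mod_cast hb
  rcases (Nat.dvd_prime h.hp).1 h.cD with e | e
  · have k := W5c.burn nV (DP h) (e := 0) hc fun q hq p1 => absurd (mem_bot.1 (card_eq_one.1 e ▸ hq)) p1
    rw [h.cP, e, hb'] at k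
    left
    have := (Nat.isCoprime_iff_coprime.2 (cop' 2)).dvd_of_dvd_mul_right (y := 2 ^ b - 1) (by
      obtain ⟨m, hm⟩ := k
      exact ⟨m, by push_cast at hm ⊢; linarith⟩)
    exact_mod_cast this
  right
  have he : ∀ q ∈ ⁅P, P⁆, q ≠ 1 → Nat.card ↥(V ⊓ centralizer {q}) = Nat.card ↥(V ⊓ C(⁅P, P⁆)) := fun q hq q1 => by
    rw [← eq_zpowers h.hp h.cD hq q1, LocFour.centralizer_zpowers]
  obtain ⟨a, ha⟩ := W5c.pow2 pV (inf_le_left : V ⊓ C(⁅P, P⁆) ≤ V)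
  obtain ⟨q, hq, hq'⟩ := exq h
  obtain ⟨⟨d, c1⟩, d1⟩ := ne_bot_iff_exists_ne_one.1 (show ⁅P, P⁆ ≠ ⊥ from fun k => by
    rw [k, card_bot] at e; exact h.hp.one_lt.ne e)
  have c2 : d ≠ 1 := fun k => d1 (Subtype.ext k)
  have c3 := hc (d * q) (P.mul_mem (DP h c1) hq) fun e' => hq' ((mul_mem_cancel_left c1).1 e')
  have VV : V ≤ C(V) := le_centralizer_iff_isMulCommutative.2 h.el.1
  have c4 := card_sup_mul_card_inf (H := V ⊓ centralizer {q}) (N := V ⊓ centralizer {d * q})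
    ((inf_le_left.trans (VV.trans (centralizer_le (SetLike.coe_subset_coe.2 inf_le_left)))).trans
      (centralizer_le_normalizer _))
  rw [c3, hc q hq hq'] at c4
  have c5 := card_le_of_le (sup_le inf_le_left inf_le_left :
    V ⊓ centralizer {q} ⊔ V ⊓ centralizer {d * q} ≤ V)
  have c6 := card_le_of_le (show V ⊓ centralizer {q} ⊓ (V ⊓ centralizer {d * q}) ≤ V ⊓ centralizer {d} from
    fun x hx => ⟨hx.1.1, mem_centralizer_singleton_iff.2 (by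
      have := (Commute.mul_right (mem_centralizer_singleton_iff.1 hx.2.2)
        (Commute.inv_right (mem_centralizer_singleton_iff.1 hx.1.2)))
      rw [mul_inv_cancel_right] at this
      exact this.eq)⟩)
  rw [he _ c1 c2] at c6
  have k := W5c.burn nV (DP h) hc he
  rw [h.cP, e] at k
  generalize Nat.card ↥(V ⊓ C(⁅P, P⁆)) = f at ha c6 k
  have c7 : c * c ≤ Nat.card V * f := c4 ▸ Nat.mul_le_mul c5 c6
  have c0 : 0 < c := Nat.pos_of_ne_zero fun e => by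
    rw [e, mul_zero] at hb; exact Nat.card_pos.ne' hb
  have ab : a ≤ 2 * b := by
    refine (Nat.pow_le_pow_iff_right (by decide : 1 < 2)).1 (Nat.le_of_mul_le_mul_right ?_ (Nat.mul_pos c0 c0))
    calc 2 ^ a * (c * c) ≤ 2 ^ a * (Nat.card V * f) := Nat.mul_le_mul_left _ c7
      _ = Nat.card V * Nat.card V := by rw [mul_left_comm, ← ha]
      _ = 2 ^ (2 * b) * (c * c) := by rw [hb]; ring
  refine ⟨a, ab, ?_⟩
  have ha' : (Nat.card V : ℤ) = 2 ^ a * f := by exact_mod_cast ha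
  have := (Nat.isCoprime_iff_coprime.2 (cop 3) : IsCoprime ((p ^ 3 : ℕ) : ℤ) (Nat.card V : ℤ)).dvd_of_dvd_mul_right
    (y := ((p : ℤ) * (2 ^ b - 2 ^ a) + 2 ^ a * 2 ^ b - 2 ^ b : ℤ)) (by
      obtain ⟨m, hm⟩ := k
      refine ⟨2 ^ a * 2 ^ b * m, ?_⟩
      push_cast at hm ⊢
      linear_combination (2 ^ a * 2 ^ b) * hm + ((p : ℤ) - 1) * 2 ^ b * ha' - (p : ℤ) * 2 ^ a * hb')
  exact_mod_cast this

theorem w2 (h7 : 7 ≤ p) {z : G} (hz : z ∈ T) (zz : z * z ∈ R)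
    (zi : ∀ x ∈ X, z * x * z⁻¹ * x ∈ pCoreOf 2 X ⊔ ⁅X, X⁆) :
    64 * Nat.card ↥(V ⊓ centralizer {z}) ≤ Nat.card V := by
  by_contra lt
  obtain ⟨k, hk⟩ := h.hp.odd_of_ne_two h.p2
  have key : ∀ q ∈ P, q ∉ ⁅P, P⁆ → ∃ e, ((p = 7 ∧ e = 3) ∨ (p = 17 ∧ e = 4) ∨ (p = 11 ∧ e = 5) ∨ (p = 31 ∧ e = 5)) ∧
      4 ^ e * Nat.card ↥(V ⊓ centralizer {q}) = Nat.card V := fun q hq hq' => by
    have hy : q ^ k ∈ X := h.PX (pow_mem hq k)
    have e0 : q ^ k * q ^ k * q = 1 := by rw [← pow_add, ← pow_succ, ← two_mul, ← hk, h.ex q hq]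
    obtain ⟨d, hd, o, ho, e1⟩ := fdec h ((mem_normalizer_iff.1 (nF h (h.XM (h.PX (inv_mem hq)))) _).1 (zi _ hy))
    have e2 : z * q ^ k * z⁻¹ * (q ^ k)⁻¹ = q * d * o := by
      rw [mul_assoc q, e1, inv_eq_of_mul_eq_one_right (show q ^ k * (q ^ k * q) = 1 by rw [← mul_assoc, e0])]
      group
    obtain ⟨e, e3, e4, e5, e6⟩ := LL h hz zz hy (fun m => hq' (SXTF.inf_le h.toXg ⟨hq, by
      rw [e2, mul_mem_cancel_right (mem_sup_left ho),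
        mul_mem_cancel_right (mem_sup_right (commutator_mono h.PX h.PX hd))] at m
      exact m⟩))
    obtain ⟨w, hw, e7⟩ := fd h hq hq' hd
    rw [e2, W5a.fo (h.oV ho), ← e7, W5a.fc (h.nV (h.XM (h.PX hw)))] at e6
    refine ⟨e, num0 h.hp h7 e3 ?_ e4, e6⟩
    by_contra k6
    exact lt ((Nat.mul_le_mul_right _ (Nat.pow_le_pow_right (n := 2) (i := 6) (by norm_num) (by omega))).trans e5)
  obtain ⟨q, hq, hq'⟩ := exq h
  obtain ⟨e, e1, e2⟩ := key q hq hq'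
  obtain ⟨n1, n2⟩ := num1 e1
  rcases cnt h (c := Nat.card ↥(V ⊓ centralizer {q})) (b := 2 * e) (fun r hr hr' => by
    obtain ⟨e', f1, f2⟩ := key r hr hr'
    obtain rfl : e' = e := by omega
    exact Nat.eq_of_mul_eq_mul_left (by positivity) (f2.trans e2.symm)) (by rw [← e2, pow_mul]; rfl) with k | ⟨a, ha, k⟩
  · exact n1 k
  · exact n2 a ha k

omit h in
instance instW7 : W7.{u} where
  w1 := fun h h7 _ ht ht' tt => w1 h h7 ht ht' tt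
  w2 := fun h h7 _ hz zz zi => w2 h h7 hz zz zi

end Cfsg.Agent.Lib.SXW7
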