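import Cfsg.Agent.Lib.SXDefs

/-! S1852: consequences of `Wk`. -/

set_option autoImplicit false

namespace Cfsg.Agent.Lib.SXWD

open Cfsg Subgroup Cfsg.Agent.Lib.PCoreConj Cfsg.Agent.Lib.PCore Cfsg.Agent.Lib.ThompsonJ Cfsg.Agent.Lib.PushBase
open Cfsg.Agent.Lib.PIrred Cfsg.Agent.Lib.PReduced Cfsg.Agent.Lib.Blk Cfsg.Agent.Lib.SX

universe u

theorem two {H : Type*} [Group H] [Finite H] {K L : Subgroup H} (hK : K ≤ L)
    (h : ∀ x ∈ L, ∀ y ∈ L, x ∉ K → y ∉ K → x⁻¹ * y ∈ K) : Nat.card L ≤ 2 * Nat.card K := by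
  classical
  by_cases e : L ≤ K
  · have := Subgroup.card_le_of_le e
    omega
  obtain ⟨x, hx, hx'⟩ := SetLike.not_le_iff_exists.1 e
  let f : Bool × K → L := fun p => if p.1 then ⟨p.2, hK p.2.2⟩ else ⟨x * p.2, mul_mem hx (hK p.2.2)⟩
  have : Function.Surjective f := fun y => by
    by_cases hy : (y : H) ∈ K
    · exact ⟨(true, ⟨y, hy⟩), rfl⟩
    · exact ⟨(false, ⟨x⁻¹ * y, h x hx y y.2 hx' hy⟩), Subtype.ext (by simp [f])⟩
  have := Nat.card_le_card_of_surjective f this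
  rwa [Nat.card_prod, Nat.card_eq_fintype_card (α := Bool), Fintype.card_bool] at this

structure Hq {H : Type*} [Group H] (z : H) : Prop where
  zz : z * z = 1
  zc : ∀ t, t * z = z * t
  cen : ∀ t, t ≠ 1 → t * t = 1 → (∀ s, s * t = t * s) → t = z
  four : ∀ a b, a ≠ 1 → b ≠ 1 → a * a = 1 → b * b = 1 → a * b = b * a → a = b ∨ a = z ∨ b = z ∨ a * b = z
  ab : ∀ a, a ≠ 1 → a * a = 1 → a ≠ z → ∀ s t, s * a = a * s → t * a = a * t → s * t = t * s

section
variable {H : Type*} [Group H] [Finite H] {z : H}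

def Zz (z : H) (zz : z * z = 1) : Subgroup H where
  carrier := {x | x = 1 ∨ x = z}
  one_mem' := Or.inl rfl
  mul_mem' := by rintro _ _ (rfl | rfl) (rfl | rfl) <;> simp [zz]
  inv_mem' := by
    rintro _ (rfl | rfl)
    · simp
    · exact Or.inr (inv_eq_of_mul_eq_one_right zz)

theorem card_Zz (zz : z * z = 1) : Nat.card (Zz z zz) ≤ 2 := by
  have := two (K := ⊥) (L := Zz z zz) bot_le (by
    rintro _ (rfl | rfl) _ (rfl | rfl) h1 h2 <;> simp_all)
  simpa using this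

theorem sq_comm {a b : H} (ha : a * a = 1) (hb : b * b = 1) (h : a * b * (a * b) = 1) : a * b = b * a := by
  rw [← inv_eq_of_mul_eq_one_right h, mul_inv_rev, inv_eq_of_mul_eq_one_right ha, inv_eq_of_mul_eq_one_right hb]

theorem Hq.four' (h : Hq z) (E : Subgroup H) (hE : ∀ a ∈ E, a * a = 1) :
    Nat.card E ≤ 4 ∧ (Nat.card E ≤ 2 ∨ z ∈ E) := by
  have h1 := two (K := E ⊓ Zz z h.zz) (L := E) inf_le_left fun x hx y hy nx ny => by
    refine mem_inf.2 ⟨mul_mem (inv_mem hx) hy, ?_⟩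
    have nx' : ¬ (x = 1 ∨ x = z) := fun e => nx ⟨hx, e⟩
    have ny' : ¬ (y = 1 ∨ y = z) := fun e => ny ⟨hy, e⟩
    rcases h.four x y (fun e => nx' (Or.inl e)) (fun e => ny' (Or.inl e)) (hE x hx) (hE y hy)
      (sq_comm (hE x hx) (hE y hy) (hE _ (mul_mem hx hy))) with e | e | e | e
    · exact Or.inl (by rw [e, inv_mul_cancel])
    · exact (nx' (Or.inr e)).elim
    · exact (ny' (Or.inr e)).elim
    · exact Or.inr (by rw [inv_eq_of_mul_eq_one_right (hE x hx), e])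
  have h2 := (Subgroup.card_le_of_le (inf_le_right : E ⊓ Zz z h.zz ≤ _)).trans (card_Zz h.zz)
  refine ⟨by omega, or_iff_not_imp_right.2 fun hz => ?_⟩
  have : E ⊓ Zz z h.zz = ⊥ := le_bot_iff.1 (by
    rintro x ⟨hx, rfl | rfl⟩
    · exact one_mem _
    · exact (hz hx).elim)
  rw [this] at h1
  simpa using h1

theorem Hq.neg (h : Hq z) (hp : IsPGroup 2 H) {t : H} (h1 : t ≠ 1) (h2 : t * t = 1) :
    t = z ∨ ∃ s, t * (s * t * s⁻¹) = z := by
  refine or_iff_not_imp_left.2 fun hz => ?_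
  haveI := hp.isNilpotent
  have hlt : centralizer ({t} : Set H) < ⊤ := lt_top_iff_ne_top.2 fun e => hz (h.cen t h1 h2 fun s =>
    mem_centralizer_singleton_iff.1 (e ▸ mem_top s))
  obtain ⟨s, hs, hs'⟩ := SetLike.exists_of_lt (normalizerCondition_of_isNilpotent _ hlt)
  have c := mem_centralizer_singleton_iff.1
    ((mem_normalizer_iff.1 hs t).1 (mem_centralizer_singleton_iff.2 rfl))
  rcases h.four t (s * t * s⁻¹) h1 (fun e => h1 (by simpa using e))
    h2 (by calc _ = s * (t * t) * s⁻¹ := by group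
        _ = 1 := by rw [h2]; group) c.symm with e | e | e | e
  · exact (hs' (mem_centralizer_singleton_iff.2 (by rw [eq_mul_inv_iff_mul_eq] at e; exact e.symm))).elim
  · exact (hz e).elim
  · refine (hz ?_).elim
    calc t = s⁻¹ * (s * t * s⁻¹) * s := by group
      _ = s⁻¹ * (z * s) := by rw [e, mul_assoc]
      _ = z := by rw [← h.zc s]; group
  · exact ⟨s, e⟩

theorem Hq.sixteen (h : Hq z) (B : Set H) (h1 : ∀ b ∈ B, b * b = 1)
    (h2 : ∀ b ∈ B, ∀ c ∈ B, b * c * b⁻¹ * c⁻¹ = 1 ∨ b * c * b⁻¹ * c⁻¹ = z) : Nat.card (closure B) ≤ 16 := by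
  by_cases hB : ∀ b ∈ B, b = 1 ∨ b = z
  · have := (Subgroup.card_le_of_le ((closure_le (Zz z h.zz)).2 hB)).trans (card_Zz h.zz)
    omega
  push Not at hB
  obtain ⟨a, ha, a1, az⟩ := hB
  haveI : (Zz z h.zz).Normal := ⟨by
    rintro _ (rfl | rfl) g
    · exact Or.inl (by group)
    · exact Or.inr (by rw [h.zc g]; group)⟩
  let g := QuotientGroup.mk' (Zz z h.zz)
  have gk : ∀ x, g x = 1 ↔ (x = 1 ∨ x = z) := fun x => QuotientGroup.eq_one_iff x
  have c1 : closure (g '' B) ≤ centralizer (closure (g '' B) : Set _) := by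
    rw [centralizer_closure, closure_le]
    rintro _ ⟨b, hb, rfl⟩ _ ⟨c, hc, rfl⟩
    have := (gk _).2 (h2 c hc b hb)
    rw [map_mul, map_mul, map_mul, map_inv, map_inv, mul_inv_eq_one, mul_inv_eq_iff_eq_mul] at this
    exact this
  have m : ∀ x ∈ closure B, g x ∈ closure (g '' B) := fun x hx => by
    rw [← MonoidHom.map_closure]; exact mem_map_of_mem g hx
  have cm : ∀ x ∈ closure B, ∀ y ∈ closure B, g x * g y = g y * g x := fun x hx y hy => c1 (m y hy) _ (m x hx)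
  have sq : ∀ x ∈ closure B, x * x = 1 ∨ x * x = z := fun x hx => by
    rw [← gk, map_mul]
    induction hx using closure_induction with
    | mem b hb => rw [← map_mul, h1 b hb, map_one]
    | one => simp
    | mul x y hx hy ix iy =>
      rw [map_mul]
      calc _ = g x * (g y * g x) * g y := by group
        _ = (g x * g x) * (g y * g y) := by rw [cm y hy x hx]; group
        _ = 1 := by rw [ix, iy, one_mul]
    | inv x hx ix => rw [map_inv, ← mul_inv_rev, ix, inv_one]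
  have aB := subset_closure ha
  have cj : ∀ x ∈ closure B, x * a ≠ a * x → x * a = z * (a * x) := fun x hx n => by
    have : g (x * a * (a * x)⁻¹) = 1 := by rw [map_mul, map_inv, map_mul, map_mul, cm x hx a aB, mul_inv_cancel]
    rcases (gk _).1 this with e | e
    · exact (n (mul_inv_eq_one.1 e)).elim
    · exact mul_inv_eq_iff_eq_mul.1 e
  set C := closure B ⊓ centralizer ({a} : Set H) with hC
  have s1 := two (K := C) (L := closure B) inf_le_left fun x hx y hy nx ny => by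
    refine mem_inf.2 ⟨mul_mem (inv_mem hx) hy, mem_centralizer_singleton_iff.2 ?_⟩
    have e1 := cj x hx fun e => nx ⟨hx, mem_centralizer_singleton_iff.2 e⟩
    have e2 := cj y hy fun e => ny ⟨hy, mem_centralizer_singleton_iff.2 e⟩
    calc x⁻¹ * y * a = x⁻¹ * (y * a) := by group
      _ = x⁻¹ * (z * (a * x)) * (x⁻¹ * y) := by rw [e2]; group
      _ = _ := by rw [← e1]; group
  have ab : ∀ x ∈ C, ∀ y ∈ C, x * y = y * x := fun x hx y hy =>
    h.ab a a1 (h1 a ha) az x y (mem_centralizer_singleton_iff.1 hx.2) (mem_centralizer_singleton_iff.1 hy.2)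
  let E : Subgroup H :=
    { carrier := {x | x ∈ C ∧ x * x = 1}
      one_mem' := ⟨one_mem _, one_mul 1⟩
      mul_mem' := fun {x y} hx hy => ⟨mul_mem hx.1 hy.1, by
        calc _ = x * (y * x) * y := by group
          _ = (x * x) * (y * y) := by rw [ab y hy.1 x hx.1]; group
          _ = 1 := by rw [hx.2, hy.2, one_mul]⟩
      inv_mem' := fun {x} hx => ⟨inv_mem hx.1, by rw [← mul_inv_rev, hx.2, inv_one]⟩ }
  have s2 := two (K := E) (L := C) (fun x hx => hx.1) fun x hx y hy nx ny => by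
    refine ⟨mul_mem (inv_mem hx) hy, ?_⟩
    have e1 := (sq x hx.1).resolve_left fun e => nx ⟨hx, e⟩
    have e2 := (sq y hy.1).resolve_left fun e => ny ⟨hy, e⟩
    calc _ = x⁻¹ * (y * x⁻¹) * y := by group
      _ = (x * x)⁻¹ * (y * y) := by rw [ab y hy _ (inv_mem hx)]; group
      _ = 1 := by rw [e1, e2, inv_mul_cancel]
  have s3 := (h.four' E fun x hx => hx.2).1
  omega

end

variable {G : Type u} [Group G] [Finite G] {T R V : Subgroup G} {z : G}

theorem model (h : Wk T R V z) : ∃ (H : Type u) (_ : Group H) (_ : Finite H) (f : T →* H),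
    IsPGroup 2 H ∧ Hq (f ⟨z, h.zT⟩) ∧ Function.Surjective f ∧ (∀ x : T, f x = 1 ↔ (x : G) ∈ R) ∧
    (∀ x : T, f x = f ⟨z, h.zT⟩ ↔ (x : G) * z ∈ R) ∧
    ∀ A ≤ T, Nat.card A = Nat.card ((A.subgroupOf T).map f) * Nat.card ↥(A ⊓ R) := by
  have nR : T ≤ N(R) := h.R_eq ▸ le_normalizer_inf le_normalizer (le_normalizer_centralizer h.nV)
  haveI : (R.subgroupOf T).Normal := ⟨fun n hn g => (mem_normalizer_iff.1 (nR g.2) _).1 hn⟩
  let f := QuotientGroup.mk' (R.subgroupOf T)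
  have fs : Function.Surjective f := QuotientGroup.mk'_surjective _
  have k : ∀ x : T, f x = 1 ↔ (x : G) ∈ R := fun x => QuotientGroup.eq_one_iff x
  have zz : f ⟨z, h.zT⟩ * f ⟨z, h.zT⟩ = 1 := by rw [← map_mul]; exact (k _).2 h.zz
  have kz : ∀ x : T, f x = f ⟨z, h.zT⟩ ↔ (x : G) * z ∈ R := fun x => by
    refine Iff.trans ?_ (k (x * ⟨z, h.zT⟩))
    rw [map_mul, mul_eq_one_iff_eq_inv, inv_eq_of_mul_eq_one_right zz]
  have kc : ∀ x y : T, f x * f y = f y * f x ↔ (x : G) * y * (x : G)⁻¹ * (y : G)⁻¹ ∈ R := fun x y => by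
    refine Iff.trans ?_ (k (x * y * x⁻¹ * y⁻¹))
    rw [map_mul, map_mul, map_mul, map_inv, map_inv, mul_inv_eq_one, mul_inv_eq_iff_eq_mul]
  have ks : ∀ x : T, f x * f x = 1 ↔ (x : G) * x ∈ R := fun x => by rw [← map_mul]; exact k _
  refine ⟨_, inferInstance, inferInstance, f, h.pT.to_quotient _, ⟨zz, fun t => ?_, fun t => ?_, fun a b => ?_,
    fun a => ?_⟩, fs, k, kz, fun A hA => ?_⟩
  · obtain ⟨t, rfl⟩ := fs t
    exact (kc _ _).2 (h.zc t t.2)
  · obtain ⟨t, rfl⟩ := fs t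
    intro a b c
    exact (kz t).2 (h.cen t t.2 (fun e => a ((k t).2 e)) ((ks t).1 b) fun s hs => (kc ⟨s, hs⟩ t).1 (c _))
  · obtain ⟨a, rfl⟩ := fs a
    obtain ⟨b, rfl⟩ := fs b
    intro a1 b1 a2 b2 c
    rcases h.four a a.2 b b.2 (fun e => a1 ((k a).2 e)) (fun e => b1 ((k b).2 e)) ((ks a).1 a2) ((ks b).1 b2)
      ((kc a b).1 c) with e | e | e | e
    · left
      have := (k (a * b)).2 e
      rw [map_mul, mul_eq_one_iff_eq_inv, inv_eq_of_mul_eq_one_right b2] at this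
      exact this
    · exact Or.inr (Or.inl ((kz a).2 e))
    · exact Or.inr (Or.inr (Or.inl ((kz b).2 e)))
    · exact Or.inr (Or.inr (Or.inr (by rw [← map_mul]; exact (kz (a * b)).2 e)))
  · obtain ⟨a, rfl⟩ := fs a
    intro a1 a2 az s t
    obtain ⟨s, rfl⟩ := fs s
    obtain ⟨t, rfl⟩ := fs t
    intro c d
    exact (kc s t).2 (h.ab a a.2 (fun e => a1 ((k a).2 e)) ((ks a).1 a2) (fun e => az ((kz a).2 e)) s s.2 t t.2
      ((kc s a).1 c) ((kc t a).1 d))
  · have e1 : Nat.card ((A.subgroupOf T).map f) = R.relIndex A := by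
      rw [← relIndex_ker, QuotientGroup.ker_mk', relIndex_subgroupOf hA]
    rw [e1, ← inf_relIndex_right, inf_comm R A, mul_comm]
    have := Subgroup.card_mul_index ((A ⊓ R).subgroupOf A)
    rw [Nat.card_congr (subgroupOfEquivOfLe (inf_le_left : A ⊓ R ≤ A)).toEquiv] at this
    exact this.symm

theorem four (h : Wk T R V z) (A : Subgroup G) (hA : A ≤ T) (sq : ∀ a ∈ A, a * a ∈ R) :
    Nat.card A ≤ 4 * Nat.card ↥(A ⊓ R) ∧ (Nat.card A ≤ 2 * Nat.card ↥(A ⊓ R) ∨ ∃ a ∈ A, a * z ∈ R) := by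
  obtain ⟨H, _, _, f, -, q, -, k, kz, c⟩ := model h
  obtain ⟨h1, h2⟩ := q.four' ((A.subgroupOf T).map f) (by
    rintro _ ⟨a, ha, rfl⟩
    rw [← map_mul]; exact (k _).2 (sq a ha))
  rw [c A hA]
  refine ⟨Nat.mul_le_mul_right _ h1, h2.imp (Nat.mul_le_mul_right _) ?_⟩
  rintro ⟨a, ha, e⟩
  exact ⟨a, ha, (kz a).1 e⟩

theorem cube (h : Wk T R V z) (A : Subgroup G) (hA : A ≤ T) (sq : ∀ a ∈ A, a * a ∈ R) :
    Nat.card A ^ 3 * Nat.card ↥(V ⊓ C(A)) ≤ Nat.card ↥(A ⊓ R) ^ 3 * Nat.card V := by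
  by_cases e : A ≤ R
  · rw [inf_eq_left.2 e]
    exact Nat.mul_le_mul_left _ (Subgroup.card_le_of_le inf_le_left)
  obtain ⟨t, ht, ht'⟩ := SetLike.not_le_iff_exists.1 e
  obtain ⟨h1, h2 | ⟨a, ha, h2⟩⟩ := four h A hA sq
  · have w := h.w1 t (hA ht) ht' (sq t ht)
    have l : Nat.card ↥(V ⊓ C(A)) ≤ Nat.card ↥(V ⊓ centralizer {t}) :=
      Subgroup.card_le_of_le (inf_le_inf_left V (centralizer_le (Set.singleton_subset_iff.2 ht)))
    calc _ ≤ (2 * Nat.card ↥(A ⊓ R)) ^ 3 * Nat.card ↥(V ⊓ centralizer {t}) :=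
          Nat.mul_le_mul (Nat.pow_le_pow_left h2 3) l
      _ = Nat.card ↥(A ⊓ R) ^ 3 * (8 * Nat.card ↥(V ⊓ centralizer {t})) := by ring
      _ ≤ _ := Nat.mul_le_mul_left _ w
  · have l : Nat.card ↥(V ⊓ C(A)) ≤ Nat.card ↥(V ⊓ centralizer {z}) :=
      Subgroup.card_le_of_le fun v hv => ⟨hv.1, mem_centralizer_singleton_iff.2 (by
        have e1 : v * (a * z) = a * z * v := (h.R_eq ▸ h2).2 v hv.1
        have e2 : a * v = v * a := hv.2 a ha
        calc v * z = a⁻¹ * (a * v) * z := by group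
          _ = a⁻¹ * (v * (a * z)) := by rw [e2]; group
          _ = _ := by rw [e1]; group)⟩
    calc _ ≤ (4 * Nat.card ↥(A ⊓ R)) ^ 3 * Nat.card ↥(V ⊓ centralizer {z}) :=
          Nat.mul_le_mul (Nat.pow_le_pow_left h1 3) l
      _ = Nat.card ↥(A ⊓ R) ^ 3 * (64 * Nat.card ↥(V ⊓ centralizer {z})) := by ring
      _ ≤ _ := Nat.mul_le_mul_left _ h.w2

instance instWD : WD.{u} where
  four := four
  cube := cube
  neg := fun h t ht h1 h2 => by
    obtain ⟨H, _, _, f, p, q, fs, k, kz, -⟩ := model h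
    rcases q.neg p (t := f ⟨t, ht⟩) (fun e => h1 ((k _).1 e)) (by rw [← map_mul]; exact (k _).2 h2) with e | ⟨s, e⟩
    · exact Or.inl ((kz _).1 e)
    · obtain ⟨s, rfl⟩ := fs s
      rw [← map_inv, ← map_mul, ← map_mul, ← map_mul] at e
      exact Or.inr ⟨s, s.2, (kz _).1 e⟩
  eight := fun {G} _ _ {T R V z} h B h1 h2 W W' w1 w2 w3 w4 => by
    obtain ⟨H, _, _, f, -, q, -, k, kz, c⟩ := model h
    have BT : closure B ≤ T := (closure_le T).2 fun b hb => (h1 b hb).1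
    have s := q.sixteen (f '' {x : T | (x : G) ∈ B}) (by
      rintro _ ⟨b, hb, rfl⟩
      rw [← map_mul]; exact (k _).2 (h1 b hb).2) (by
      rintro _ ⟨a, ha, rfl⟩ _ ⟨b, hb, rfl⟩
      rw [← map_inv, ← map_inv, ← map_mul, ← map_mul, ← map_mul]
      exact (h2 a ha b hb).imp (k _).2 (kz _).2)
    have l : (W.subgroupOf T).map f ≤ closure (f '' {x : T | (x : G) ∈ B}) := by
      rw [← MonoidHom.map_closure]
      refine map_mono fun x hx => ?_
      have e : (closure {x : T | (x : G) ∈ B}).map T.subtype = closure B := by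
        rw [MonoidHom.map_closure]
        congr 1
        ext y
        exact ⟨by rintro ⟨x, hx, rfl⟩; exact hx, fun hy => ⟨⟨y, (h1 y hy).1⟩, hy, rfl⟩⟩
      obtain ⟨y, hy, e'⟩ := (e ▸ w1 hx : (x : G) ∈ (closure {x : T | (x : G) ∈ B}).map T.subtype)
      exact (Subtype.ext e' : y = x) ▸ hy
    have s' := (Subgroup.card_le_of_le l).trans s
    have e : W' ⊓ R = W ⊓ R := le_antisymm (inf_le_inf_right R w2) (le_inf w3 inf_le_right)
    rw [c W (w1.trans BT), c W' (w2.trans (w1.trans BT)), e, ← mul_assoc]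
    refine Nat.mul_le_mul_right _ ?_
    by_cases b : (W'.subgroupOf T).map f = ⊥
    · have := (q.four' ((W.subgroupOf T).map f) (by
        rintro _ ⟨a, ha, rfl⟩
        rw [← map_mul, ← mem_bot, ← b]
        exact mem_map_of_mem f (w4 a ha))).1
      rw [b, card_bot]
      omega
    · have := (one_lt_card_iff_ne_bot _).2 b
      omega
  jle := fun {G} _ _ {T R V z} h => by
    have hJ : J 2 T ≤ R := J_le_iff.2 fun A hA => by
      have c1 := (card_le_of_maxAb h.el h.VT hA).1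
      have e : A ⊓ C(V) = A ⊓ R := by rw [h.R_eq, ← inf_assoc, inf_eq_left.2 hA.le]
      have c2 := cube h A hA.le fun a ha => by
        rw [← pow_two, hA.abExp.pow ha]; exact one_mem _
      rw [e] at c1
      have p1 : 0 < Nat.card A := Nat.card_pos
      have p2 : 0 < Nat.card ↥(V ⊓ C(A)) := Nat.card_pos
      have c3 : Nat.card A ^ 2 * (Nat.card A * Nat.card ↥(V ⊓ C(A))) ≤
          Nat.card ↥(A ⊓ R) ^ 2 * (Nat.card A * Nat.card ↥(V ⊓ C(A))) :=
        calc _ = Nat.card A ^ 3 * Nat.card ↥(V ⊓ C(A)) := by ring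
          _ ≤ _ := c2
          _ = Nat.card ↥(A ⊓ R) ^ 2 * (Nat.card ↥(A ⊓ R) * Nat.card V) := by ring
          _ ≤ _ := Nat.mul_le_mul_left _ c1
      have c4 := (Nat.pow_le_pow_iff_left two_ne_zero).1 (Nat.le_of_mul_le_mul_right c3 (Nat.mul_pos p1 p2))
      exact (eq_of_le_of_card_ge (inf_le_left : A ⊓ R ≤ A) c4).ge.trans inf_le_right
    have hV : V ≤ ZJ 2 T := fun v hv => mem_ZJ_iff.2 ⟨h.VT hv,
      fun j hj => ((h.R_eq ▸ hJ hj).2 v hv).symm, h.el.2 v hv⟩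
    rw [h.R_eq]
    exact inf_le_inf_left T (centralizer_anti hV)

end Cfsg.Agent.Lib.SXWD
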