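import Cfsg.Agent.Lib.SuzTC
import Cfsg.Agent.Lib.SuzAC0

/-! The presented Suzuki group acting on 1782 points: index, suborbits, order, simplicity. -/

set_option autoImplicit false
set_option maxRecDepth 100000

namespace Cfsg.Agent.Lib.SuzA

open Cfsg.Agent.Lib.PermNet Cfsg.Agent.Lib.Words Cfsg.Agent.Lib.PermGroup Cfsg.Agent.Lib.SuzBase

theorem hrels : ∀ w ∈ relW rels, wval nets.perm w = 1 :=
  relW_one (wval_eq_of_relsOn (K := 11) hv (by norm_num) rels0_0)

/-- The generators followed by the auxiliary elements. -/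
def Y : ℕ → Spor.Suz := ext y 7 defs

theorem hdefs : ∀ w ∈ defRels 7 defs, wval nets.perm w = 1 :=
  derive I hrels _ (by decide +kernel)

theorem exists_phi : ∃ φ : Spor.Suz →* Equiv.Perm ℕ, ∀ i, φ (Y i) = nets.perm i := by
  obtain ⟨φ, h⟩ := exists_hom nets.perm (derive I hrels K (by decide +kernel))
  exact ⟨φ, map_ext φ y 7 defs nets h hdefs (by decide +kernel)⟩

noncomputable def phi : Spor.Suz →* Equiv.Perm ℕ := exists_phi.choose

theorem hphi : ∀ i, phi (Y i) = nets.perm i := exists_phi.choose_spec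

theorem gpY (ws : List (List ℕ))
    (hw : ws.all (fun w => w.all (fun l => decide (l < 2 * 7))) = true) : gp Y ws = gp y ws :=
  gp_ext y 7 defs ws hw

theorem hKY : ∀ w ∈ K, wval Y w = 1 := (rels_ext 7 defs (by decide +kernel)).2 hK

theorem htr : InOrb phi.range 0 (ones 1782) := (InOrb.step hv (wval_mem_range hphi _) [6, 1, 0, 2, 5, 3, 1, 2, 4, 1, 5, 0, 3, 6, 1, 2, 3, 1, 6, 0, 5, 4, 2, 1, 0, 2, 1, 5] (inOrb_pt _ 0) tr_0)

theorem index_hs : (gp Y hs).index = 1782 ∧ ∀ g, g ∈ gp Y hs ↔ phi g 0 = 0 :=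
  index_gp_eq hv hphi (by rw [gpY hs (by decide)]; exact SuzTC.index1) fix0 htr

theorem index_eq : (gp y hs).index = 1782 := by rw [← gpY hs (by decide)]; exact index_hs.1

theorem orb0 : InOrb (gp nets.perm hs) 1 (ivl 1 416) := (InOrb.step hv (fun _ h => mem_gp h) [0, 3, 4, 5, 1, 2, 3, 2, 1, 0, 3, 4, 5, 1, 2, 0, 1] (inOrb_pt _ 1) o0_0)

theorem suborbit0 : ∃ q : Spor.Suz ⧸ gp Y hs,
    toPt index_hs.2 '' MulAction.orbit (gp Y hs) q = Set.Ico 1 (1 + 416) ∧
      (MulAction.orbit (gp Y hs) q).ncard = 416 :=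
  exists_suborbit hv hphi index_hs.2 htr (by norm_num) (by norm_num) orb0 fix1

theorem orb1 : InOrb (gp nets.perm hs) 417 (ivl 417 1365) := (InOrb.step hv (fun _ h => mem_gp h) [1, 0, 2, 5, 3, 1, 2, 4, 1, 5, 0, 3, 1, 2, 3, 1, 0, 5, 1, 2, 4, 5, 1, 3] (inOrb_pt _ 417) o1_0)

theorem suborbit1 : ∃ q : Spor.Suz ⧸ gp Y hs,
    toPt index_hs.2 '' MulAction.orbit (gp Y hs) q = Set.Ico 417 (417 + 1365) ∧
      (MulAction.orbit (gp Y hs) q).ncard = 1365 :=
  exists_suborbit hv hphi index_hs.2 htr (by norm_num) (by norm_num) orb1 fix2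

theorem topY : gp Y allg = ⊤ := by rw [gpY allg (by decide)]; exact gp_top (by decide)

theorem coatom : IsCoatom (gp Y hs) :=
  isCoatom_of_cover hv hphi index_hs.2 [12] (by rw [gpY _ (by decide)]; exact gp_top (by decide)) 417 (by norm_num) (by decide +kernel)
    [(416, [12, 2, 4, 6, 4, 2, 12], [4, 12, 0, 8, 0]), (1365, [12], [0])]
    (by decide +kernel) ⟨orb0, orb1, trivial⟩

instance finiteG : Finite Spor.Suz := by
  have := SuzTC.card_top.1
  rw [SuzTC.top, Subgroup.card_top] at this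
  exact Nat.finite_of_card_ne_zero this

theorem card_range : 448345497600 ≤ Nat.card phi.range := by
  have : Finite phi.range := Finite.of_surjective _ phi.rangeRestrict_surjective
  rw [← fixer_nil phi.range]
  exact (le_card_fixer hv [[0], [2], [4], [6], [8], [10], [12]] (wval_mem_range hphi _) [] 0 [6, 1, 0, 2, 5, 3, 1, 2, 4, 1, 5, 0, 3, 6, 1, 2, 3, 1, 6, 0, 5, 4, 2, 1, 0, 2, 1, 5] 0 1782 1782 ch_0
    (le_card_fixer hv [[0], [2], [4], [6], [8], [10]] (wval_mem_range hphi _) [0] 210 [5, 1, 0, 2, 1, 3, 2, 0, 4, 1, 5, 3, 0, 2, 1, 5, 0, 3, 4, 1, 2, 0, 1] 1 416 416 ch_1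
    (le_card_fixer hv [[0], [2], [4], [6], [8]] (wval_mem_range hphi _) [210, 0] 437 [0, 2, 3, 2, 4, 1, 3, 0, 2, 4, 1, 3, 0, 2, 1, 0, 4, 2, 3, 1, 2, 0, 3] 437 1345 1050 ch_2
    (le_card_fixer hv [[8], [2, 4], [14], [16]] (wval_mem_range hphi _) [437, 210, 0] 5 [0, 2, 3, 0, 2, 3, 2, 0, 3, 0, 2, 0] 5 412 192 ch_3
    (le_card_fixer hv [[2, 4, 14, 2, 4, 14]] (wval_mem_range hphi _) [5, 437, 210, 0] 4 [0, 0] 4 261 3 ch_4
    (one_le_card_fixer _))))))

theorem faithful : Nat.card (⊤ : Subgroup Spor.Suz) = 448345497600 ∧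
    ∀ g ∈ (⊤ : Subgroup Spor.Suz), phi g = 1 → g = 1 :=
  faithful_of_card phi (SuzTC.top ▸ SuzTC.card_top) (by rw [← MonoidHom.range_eq_map]; exact card_range)

theorem card_eq : Nat.card Spor.Suz = 448345497600 := by
  rw [← Subgroup.card_top]; exact faithful.1

theorem phi_eq_one {g : Spor.Suz} (h : phi g = 1) : g = 1 := faithful.2 g trivial h

/-- Every relation checked on the networks holds in the group. -/
theorem hrelsY : ∀ w ∈ relW rels, wval Y w = 1 :=
  rels_of_faithful hphi faithful.2 (fun _ _ => trivial) hrels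

theorem card_hs : Nat.card (gp Y hs) = 251596800 := by
  have := (gp Y hs).index_mul_card
  rw [index_hs.1, card_eq] at this
  omega

theorem simple : IsSimpleGroup Spor.Suz := by
  refine isSimpleGroup_of coatom (fun M hM h => ?_) (p := 11) (by norm_num)
    (by rw [card_hs]; norm_num) (fun M hM h => ?_)
  · exact eq_bot_iff.2 fun g hg =>
      phi_eq_one (core_of_faithful hv hphi topY index_hs.2 htr hM h hg)
  · rw [eq_top_iff, ← topY]
    exact le_of_steps I (all_append hKY hrelsY) 11 [[2, 6, 12, 10, 4, 8], [4, 10, 6, 8, 12, 2, 12, 4, 2, 0, 2]] allg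
      [([2, 6, 12, 10, 4, 8], [0], 11, 2), ([0], [2], 5, 2), ([2], [4], 3, 2), ([2], [10], 3, 2), ([2], [12], 3, 2), ([4, 10, 6, 8, 12, 2, 12, 4, 2, 0, 2], [6], 13, 2), ([6], [8], 3, 2)]
      (by decide +kernel) M hM h

end Cfsg.Agent.Lib.SuzA
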