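import Cfsg.Agent.Lib.SuzHDR
import Cfsg.Agent.Lib.SuzHDT
import Cfsg.Agent.Lib.SuzHDF
import Cfsg.Agent.Lib.SuzHDM

set_option autoImplicit false
set_option maxRecDepth 100000

namespace Cfsg.Agent.Lib.SuzHD
open Cfsg.Agent.Lib.PermNet Cfsg.Agent.Lib.DCE

theorem tab35 : allR (tabB nets (nat_lit 1782) (nat_lit 11) (nat_lit 1728) (nat_lit 11) (nat_lit 11) (nat_lit 2047) tH) (nat_lit 35) (nat_lit 35) = true := by decide +kernel

def lH0 : Lev := ⟨[[0], [2], [4], [6], [8], [10], [12], [14], [16], [18], [20]], 0, [(0, 1), (0, 2), (0, 3), (0, 4), (0, 5), (0, 6), (0, 7), (0, 8), (0, 9), (0, 10), (1, 0), (1, 2), (1, 3), (1, 4), (1, 5), (1, 7), (1, 8), (1, 9), (1, 10), (2, 3), (2, 4), (2, 5), (2, 6), (2, 7), (2, 8), (2, 9), (2, 10), (3, 2), (3, 4), (3, 5), (3, 6), (3, 7), (3, 8), (3, 9), (3, 10), (37, 5), (37, 6), (37, 7), (37, 8), (37, 9), (37, 10), (43, 4), (43, 6), (43, 7), (43, 8), (43, 9),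 (43, 10), (6, 7), (6, 8), (6, 9), (6, 10), (9, 0), (9, 1), (9, 3), (9, 4), (9, 5), (9, 8), (9, 10), (66, 0), (66, 1), (66, 2), (66, 3), (66, 4), (66, 5), (66, 7), (66, 8), (66, 9), (66, 10), (7, 0), (7, 2), (7, 3), (7, 4), (7, 5), (7, 8), (7, 10), (82, 0), (82, 1), (82, 2), (82, 4), (82, 5), (82, 8), (82, 9), (82, 10), (11, 2), (11, 3), (11, 4), (11, 5), (11, 7), (11, 9), (11, 10), (12, 3), (12, 4), (12, 5), (12, 7), (12, 8), (12, 9), (12, 10), (13, 2), (13, 4), (13, 5), (13, 7), (13, 9), (13, 10), (85, 5), (85, 7), (85, 8), (85, 9), (85, 10), (86, 4), (86, 7), (86, 9), (86, 10), (18, 0), (18, 1), (18, 3), (18, 4), (18, 5), (18, 8), (18, 10), (125, 0), (125, 2), (125, 5), (125, 7), (125, 8), (125, 9), (125, 10), (16, 0), (16, 2), (16, 3), (16, 4), (16, 5), (16, 8), (16, 10), (141, 0), (141, 1), (141, 4), (141, 5), (141, 8), (141, 9), (141, 10), (20, 4), (20, 5), (20, 7), (20, 8), (20,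 9), (20, 10), (149, 5), (149, 6), (149, 7), (149, 8), (149, 10), (155, 4), (155, 6), (155, 7), (155, 8), (155, 9), (155, 10), (23, 8), (23, 10), (26, 0), (26, 3), (26, 4), (26, 5), (26, 8), (26, 10), (174, 0), (174, 1), (174, 3), (174, 4), (174, 5), (174, 7), (174, 8), (174, 9), (174, 10), (24, 0), (24, 3), (24, 8), (24, 10), (188, 0), (188, 1), (188, 2), (188, 4), (188, 5), (188, 8), (188, 9), (188, 10), (28, 4), (28, 5), (28, 7), (28, 8), (28, 9), (195, 5), (195, 6), (195, 8), (201, 4), (201, 6), (201, 9), (201, 10), (31, 7), (31, 8), (31, 9), (213, 0), (213, 1), (213, 3), (213, 4), (213, 5), (213, 7), (213, 8), (213, 10), (220, 0), (220, 2), (220, 3), (220, 4), (220, 5), (220, 7), (220, 8), (220, 9), (220, 10), (227, 0), (227, 2), (227, 3), (227, 4), (227, 8), (227, 9), (227, 10), (232, 1), (232, 2), (232, 4), (232, 9), (232, 10), (36, 7), (36, 9), (36, 10), (4, 8), (4, 9), (4, 10),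 (132, 3), (132, 7), (132, 8), (132, 10), (577, 1), (577, 3), (577, 4), (577, 5), (577, 7), (577, 8), (577, 9), (577, 10), (241, 2), (241, 3), (241, 8), (241, 9), (241, 10), (647, 0), (647, 1), (647, 8), (647, 9), (647, 10), (42, 8), (5, 7), (5, 8), (5, 9), (5, 10), (152, 1), (152, 5), (152, 8), (152, 10), (920, 2), (920, 3), (920, 7), (920, 8), (920, 9), (150, 2), (150, 8), (150, 10), (437, 0), (437, 1), (437, 8), (437, 9), (437, 10), (50, 0), (50, 3), (50, 4), (50, 8), (50, 10), (290, 0), (290, 2), (290, 5), (290, 7), (290, 8), (290, 9), (290, 10), (48, 0), (48, 3), (48, 4), (48, 8), (48, 10), (303, 1), (303, 8), (303, 10), (69, 1), (69, 4), (69, 8), (69, 10), (70, 3), (70, 8), (70, 10), (71, 4), (71, 5), (71, 7), (71, 8), (71, 9), (71, 10), (158, 5), (158, 8), (158, 10), (295, 7), (295, 8), (295, 9), (295, 10), (415, 0), (415, 1), (415, 3), (415, 4), (415, 5), (415, 7), (415, 8), (415,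 9), (415, 10), (425, 0), (425, 1), (425, 2), (425, 3), (425, 4), (425, 5), (425, 8), (425, 10), (342, 3), (342, 4), (342, 7), (342, 8), (342, 9), (342, 10), (373, 0), (373, 2), (373, 7), (373, 8), (373, 9), (373, 10), (374, 4), (374, 7), (374, 8), (374, 9), (374, 10), (375, 5), (375, 7), (375, 8), (375, 9), (375, 10), (936, 7), (936, 8), (936, 9), (936, 10), (931, 4), (931, 7), (931, 8), (931, 9), (380, 0), (380, 1), (380, 3), (380, 4), (380, 5), (380, 9), (8, 1), (8, 2), (8, 3), (8, 4), (8, 5), (8, 7), (8, 9), (8, 10), (1172, 0), (1172, 2), (1172, 3), (1172, 4), (1172, 5), (1172, 8), (1172, 9), (1172, 10), (378, 1), (378, 3), (378, 4), (378, 5), (378, 8), (378, 9), (52, 1), (52, 2), (52, 3), (52, 4), (52, 8), (52, 10), (53, 8), (53, 10), (54, 8), (54, 10), (156, 8), (156, 10), (240, 8), (240, 10), (328, 0), (328, 1), (328, 2), (328, 3), (328, 4), (328, 7), (328, 8), (328, 10), (323,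 0), (323, 1), (323, 3), (323, 4), (323, 5), (323, 8), (323, 9), (323, 10), (453, 1), (453, 4), (453, 7), (453, 8), (453, 9), (453, 10), (454, 2), (454, 4), (454, 5), (454, 8), (454, 9), (454, 10), (455, 10), (853, 7), (853, 8), (853, 10), (913, 7), (913, 8), (913, 10), (1341, 1), (1341, 2), (1341, 3), (1341, 8), (1341, 9), (1341, 10), (1087, 0), (1087, 5), (1087, 8), (1087, 9), (10, 1), (10, 2), (10, 4), (10, 5), (10, 8), (10, 9), (83, 4), (83, 5), (83, 10), (84, 4), (84, 5), (84, 7), (84, 9), (14, 9), (15, 10), (89, 4), (89, 8), (89, 10), (87, 0), (87, 8), (87, 10), (483, 1), (483, 4), (483, 8), (483, 9), (483, 10), (91, 4), (91, 5), (91, 10), (460, 7), (460, 10), (461, 4), (96, 3), (96, 4), (96, 10), (495, 5), (495, 7), (495, 8), (495, 9), (94, 0), (94, 8), (505, 4), (505, 8), (505, 10), (98, 4), (98, 5), (98, 7), (464, 4), (464, 9), (515, 4), (515, 5), (515, 7), (515, 8), (515, 10),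 (526, 3), (526, 4), (526, 8), (526, 9), (526, 10), (532, 1), (532, 4), (532, 8), (532, 9), (532, 10), (73, 3), (73, 8), (73, 10), (729, 5), (729, 7), (729, 8), (729, 9), (534, 10), (1010, 1), (1010, 8), (1010, 10), (109, 8), (312, 8), (312, 10), (317, 10), (1347, 0), (1347, 5), (1347, 8), (1347, 10), (128, 8), (128, 10), (129, 3), (129, 8), (129, 10), (130, 5), (130, 8), (130, 10), (252, 8), (252, 10), (242, 8), (242, 10), (617, 0), (617, 1), (617, 2), (617, 4), (617, 5), (617, 7), (617, 8), (617, 9), (617, 10), (624, 0), (624, 1), (624, 2), (624, 4), (624, 8), (624, 10), (590, 7), (590, 8), (590, 9), (591, 7), (591, 8), (591, 9), (1073, 4), (1073, 7), (1073, 8), (1073, 9), (1432, 0), (1432, 1), (1432, 4), (1432, 5), (1432, 7), (1432, 9), (17, 0), (17, 4), (17, 5), (17, 7), (17, 9), (17, 10), (1451, 0), (1451, 2), (1451, 3), (1451, 4), (1451, 8), (1451, 9), (1451, 10), (1164, 1), (1164,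 5), (1164, 8), (114, 8), (114, 10), (115, 10), (44, 8), (44, 10), (407, 8), (407, 10), (260, 8), (260, 10), (563, 0), (563, 2), (563, 5), (563, 7), (563, 8), (555, 0), (555, 1), (555, 3), (555, 4), (555, 9), (630, 7), (630, 10), (428, 4), (428, 8), (1303, 7), (1303, 8), (1303, 10), (1333, 7), (1333, 9), (1333, 10), (1503, 1), (1503, 2), (1503, 8), (1503, 9), (1507, 3), (1507, 4), (1507, 8), (1507, 9), (19, 5), (19, 8), (19, 9), (189, 5), (190, 4), (190, 9), (654, 8), (654, 10), (659, 8), (662, 4), (662, 8), (662, 10), (665, 2), (665, 10), (148, 10), (21, 10), (261, 10), (1159, 1), (1159, 4), (1159, 7), (1159, 8), (1159, 9), (633, 9), (154, 8), (40, 8), (40, 10), (1080, 7), (1080, 8), (1080, 9), (38, 8), (38, 10), (763, 8), (763, 10), (685, 5), (685, 7), (685, 8), (685, 9), (689, 10), (177, 8), (178, 9), (46, 8), (224, 8), (224, 10), (752, 0), (752, 1), (752, 5), (752, 7), (752, 8), (752,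 9), (752, 10), (758, 4), (758, 5), (758, 8), (758, 10), (705, 7), (705, 8), (705, 9), (728, 8), (728, 9), (728, 10), (730, 5), (730, 8), (730, 9), (1072, 7), (1072, 8), (1072, 9), (1414, 8), (1414, 9), (1206, 0), (1206, 1), (1206, 3), (1206, 5), (1206, 9), (1206, 10), (25, 1), (25, 2), (25, 3), (25, 4), (25, 5), (25, 7), (25, 9), (25, 10), (1569, 3), (1569, 8), (1569, 10), (1165, 4), (1165, 8), (1165, 9), (162, 3), (162, 8), (162, 10), (116, 10), (699, 0), (699, 2), (265, 2), (265, 3), (265, 4), (265, 9), (265, 10), (777, 7), (777, 8), (777, 10), (778, 8), (778, 10), (1515, 10), (1286, 10), (937, 8), (937, 9), (937, 10), (1598, 8), (1598, 9), (27, 1), (27, 4), (27, 5), (27, 8), (27, 9), (707, 7), (707, 9), (707, 10), (202, 8), (202, 10), (364, 8), (364, 9), (306, 2), (306, 8), (306, 10), (347, 9), (211, 8), (211, 10), (234, 8), (234, 10), (251, 10), (250, 8), (250, 10), (207, 8), (275,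 8), (32, 8), (1582, 0), (1582, 3), (1582, 4), (1582, 7), (1582, 8), (1582, 9), (1582, 10), (1103, 2), (1103, 5), (1103, 8), (1103, 10), (678, 8), (678, 9), (827, 7), (827, 8), (827, 9), (827, 10), (355, 7), (355, 9), (927, 7), (927, 8), (927, 9), (866, 7), (866, 9), (831, 0), (831, 5), (831, 9), (33, 5), (33, 7), (33, 9), (1626, 3), (1626, 5), (1626, 8), (1626, 10), (829, 3), (829, 8), (829, 9), (117, 8), (117, 10), (210, 8), (210, 10), (401, 8), (206, 8), (206, 10), (518, 1), (518, 4), (34, 8), (34, 10), (696, 0), (696, 1), (696, 3), (696, 5), (696, 10), (862, 10), (649, 10), (440, 7), (440, 10), (1466, 8), (35, 2), (35, 4), (35, 5), (35, 9), (179, 8), (179, 10), (163, 8), (247, 9), (254, 8), (254, 10), (259, 1), (259, 10), (223, 8), (223, 10), (236, 8), (1109, 7), (1109, 8), (1109, 9), (1109, 10), (1375, 1), (1375, 10), (584, 7), (584, 8), (351, 7), (351, 9), (886, 7), (886, 9), (796,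 8), (796, 9), (1115, 5), (1115, 9), (121, 4), (121, 7), (121, 9), (1726, 4), (1726, 5), (1726, 8), (1163, 8), (56, 8), (56, 10), (239, 8), (634, 7), (237, 8), (237, 10), (457, 7), (457, 10), (1285, 10), (1526, 9), (238, 9), (580, 7), (580, 8), (580, 9), (264, 8), (264, 10), (271, 8), (271, 9), (277, 10), (405, 8), (1145, 0), (1145, 3), (1145, 7), (1145, 8), (1145, 9), (1364, 2), (1364, 8), (1364, 10), (719, 8), (376, 9), (1423, 0), (1423, 3), (1423, 9), (262, 3), (262, 7), (262, 9), (262, 10), (1645, 0), (1645, 8), (1645, 10), (702, 2), (691, 0), (691, 4), (1296, 10), (1677, 8), (1342, 8), (78, 2), (78, 8), (78, 9), (294, 8), (72, 8), (72, 10), (993, 1), (993, 7), (993, 8), (993, 9), (993, 10), (830, 8), (830, 10), (975, 8), (975, 9), (711, 9), (377, 8), (983, 9), (49, 4), (49, 7), (49, 9), (49, 10), (1682, 0), (1682, 8), (981, 8), (284, 8), (284, 10), (55, 8), (55, 10), (971, 2), (969,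 4), (1009, 10), (1566, 9), (51, 1), (51, 2), (51, 9), (1219, 7), (1219, 8), (1219, 9), (1219, 10), (982, 2), (982, 8), (982, 10), (854, 5), (854, 7), (854, 8), (854, 9), (1226, 10), (478, 8), (512, 8), (1229, 4), (1229, 7), (1229, 8), (1229, 9), (1229, 10), (509, 2), (1170, 10), (107, 10), (1153, 1), (1153, 3), (1153, 5), (1153, 7), (1153, 8), (1153, 10), (816, 8), (816, 10), (1422, 7), (1422, 8), (1422, 9), (1427, 10), (1085, 7), (1085, 8), (1085, 9), (1085, 10), (1259, 7), (1259, 8), (1259, 9), (1259, 10), (1202, 7), (1202, 8), (1202, 9), (1202, 10), (1442, 7), (1442, 8), (1442, 9), (1442, 10), (1561, 7), (1561, 8), (1561, 9), (362, 0), (362, 4), (362, 5), (362, 7), (74, 0), (74, 1), (74, 2), (74, 3), (74, 4), (74, 5), (74, 7), (74, 9), (74, 10), (1552, 3), (1552, 4), (1552, 9), (1552, 10), (359, 3), (359, 4), (359, 5), (359, 8), (359, 9), (359, 10), (891, 10), (327, 8), (327, 10),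 (1023, 10), (1040, 10), (1042, 7), (1042, 10), (986, 10), (978, 2), (978, 3), (978, 8), (978, 9), (978, 10), (75, 0), (75, 2), (75, 3), (75, 4), (75, 5), (75, 8), (75, 9), (573, 7), (735, 8), (735, 9), (59, 3), (59, 4), (59, 5), (59, 7), (59, 9), (59, 10), (733, 8), (733, 9), (731, 7), (731, 9), (721, 8), (942, 8), (942, 9), (102, 7), (102, 9), (1629, 3), (1629, 10), (1547, 4), (1547, 5), (1547, 8), (1547, 9), (676, 0), (676, 9), (1636, 8), (1637, 8), (1637, 9), (592, 7), (1312, 8), (1312, 9), (88, 9), (88, 10), (1688, 8), (1688, 10), (1619, 8), (1112, 8), (1112, 9), (469, 7), (469, 9), (1407, 8), (1111, 8), (938, 9), (269, 7), (269, 9), (269, 10), (1707, 4), (1707, 8), (1707, 10), (957, 8), (957, 9), (1076, 8), (1076, 9), (1193, 8), (1193, 9), (1573, 8), (1573, 9), (879, 3), (879, 4), (879, 5), (879, 8), (60, 7), (60, 9), (60, 10), (61, 7), (61, 9), (62, 7), (62, 9), (288, 9), (197,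 7), (197, 9), (371, 0), (371, 1), (371, 3), (371, 4), (371, 5), (371, 9), (384, 0), (384, 2), (384, 3), (384, 4), (384, 5), (384, 8), (384, 9), (384, 10), (392, 5), (392, 10), (1698, 8), (1705, 8), (1718, 7), (1704, 5), (1704, 10), (1717, 7), (1717, 8), (1717, 10), (1439, 0), (1439, 1), (1439, 4), (1439, 5), (1367, 0), (1367, 1), (1367, 4), (1367, 9), (1157, 8), (1157, 9), (1444, 9), (887, 8), (887, 9), (1575, 2), (1575, 3), (1575, 10), (1334, 3), (1334, 4), (196, 8), (196, 10), (304, 10), (305, 8), (314, 0), (314, 9), (869, 5), (216, 2), (1021, 4), (554, 9), (119, 2), (119, 9), (807, 10), (701, 9), (877, 4), (535, 9), (266, 9), (487, 0), (487, 1), (487, 7), (57, 1), (810, 4), (1088, 9), (58, 9), (1332, 10), (1621, 10), (208, 2), (208, 9), (766, 10), (954, 10), (1667, 8), (136, 9), (108, 1), (108, 4), (108, 9), (734, 8), (734, 10), (1445, 9), (1508, 10), (1511, 8), (1511, 9), (1162, 9),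 (458, 3), (1195, 2), (1195, 4), (1647, 9), (1129, 9), (1216, 2), (459, 0), (459, 10), (76, 9), (77, 7), (77, 9), (47, 7), (300, 7), (300, 9), (443, 8), (452, 0), (452, 2), (452, 3), (452, 5), (452, 8), (452, 9), (131, 8), (1356, 8), (1356, 9), (1356, 10), (739, 10), (668, 7), (90, 9), (1047, 8), (1047, 10), (1203, 9), (1571, 8), (1571, 10), (491, 8), (97, 9), (934, 8), (934, 9), (1046, 10), (104, 2), (885, 7), (885, 8), (885, 9), (1045, 10), (828, 9), (892, 9), (268, 0), (268, 9), (1316, 10), (468, 5), (1308, 8), (1456, 10), (1152, 7), (1152, 9), (1385, 7), (1385, 8), (1385, 9), (1385, 10), (1392, 8), (1392, 10), (1289, 7), (1289, 8), (1289, 9), (1289, 10), (1026, 10), (956, 8), (956, 9), (956, 10), (1372, 7), (1372, 8), (698, 10), (1097, 7), (1097, 8), (1097, 9), (1198, 7), (1198, 9), (908, 7), (908, 8), (1543, 8), (1543, 9), (1543, 10), (442, 8), (631, 3), (631, 5), (133, 0), (133,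 1), (133, 4), (133, 5), (133, 7), (133, 9), (133, 10), (1313, 5), (1313, 10), (795, 4), (795, 8), (795, 9), (1189, 8), (1189, 10), (1141, 8), (1141, 10), (725, 3), (725, 8), (725, 9), (134, 0), (134, 1), (474, 2), (474, 7), (474, 9), (1716, 10), (1056, 9), (151, 7), (151, 9), (1050, 10), (1092, 9), (345, 9), (1695, 8), (1695, 10), (1365, 9), (1196, 9), (1002, 8), (595, 9), (593, 8), (1037, 4), (1037, 5), (1037, 8), (120, 9), (233, 9), (588, 1), (588, 9), (599, 2), (599, 3), (599, 5), (599, 8), (599, 9), (599, 10), (605, 10), (1723, 7), (1723, 10), (1724, 10), (1651, 7), (1651, 10), (1683, 10), (1665, 2), (1665, 3), (1665, 5), (594, 10), (1482, 3), (1482, 5), (1482, 10), (1544, 8), (692, 9), (973, 5), (137, 7), (855, 9), (1455, 10), (834, 8), (834, 10), (1121, 10), (640, 9), (646, 0), (646, 8), (646, 9), (1192, 8), (1273, 10), (147, 5), (1075, 8), (1523, 9), (493, 7), (493, 9), (1068,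 8), (901, 7), (905, 10), (1358, 9), (344, 7), (344, 9), (1386, 9), (160, 9), (1350, 7), (1350, 8), (949, 7), (949, 8), (1481, 7), (1481, 8), (1155, 8), (1155, 10), (1475, 10), (1151, 8), (575, 4), (181, 4), (181, 5), (181, 7), (181, 9), (181, 10), (1377, 3), (1377, 4), (572, 8), (572, 9), (1430, 10), (1532, 8), (1532, 10), (270, 8), (270, 9), (270, 10), (182, 0), (182, 3), (182, 8), (1131, 9), (167, 9), (1721, 10), (486, 7), (486, 9), (1191, 10), (462, 9), (1158, 8), (1158, 9), (519, 9), (1692, 8), (570, 9), (390, 9), (1517, 3), (1517, 4), (1517, 8), (168, 9), (169, 9), (571, 9), (653, 7), (653, 9), (726, 3), (726, 9), (738, 2), (738, 4), (738, 5), (738, 8), (738, 10), (1616, 7), (1679, 1), (1679, 5), (1460, 9), (1376, 9), (159, 7), (768, 8), (370, 8), (370, 9), (1174, 9), (1260, 8), (1127, 10), (1048, 10), (1612, 8), (1128, 7), (1128, 8), (980, 7), (980, 8), (1001, 8), (1395, 9), (822,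 4), (811, 7), (811, 9), (811, 10), (821, 8), (821, 9), (941, 10), (562, 10), (1067, 8), (1067, 9), (157, 9), (1693, 10), (1100, 8), (1161, 8), (267, 7), (1434, 9), (888, 8), (888, 9), (1654, 4), (1654, 8), (39, 9), (825, 9), (833, 4), (833, 5), (833, 8), (846, 8), (235, 7), (350, 8), (1431, 8), (826, 8), (826, 9), (1018, 10), (612, 7), (612, 10), (354, 8), (354, 9), (1512, 10), (522, 0), (1208, 8), (123, 9), (1311, 9), (1397, 8), (111, 9), (1421, 9), (1233, 8), (1233, 10), (1670, 7), (521, 8), (521, 9), (1306, 9), (1241, 7), (1309, 9), (1154, 8), (412, 1), (412, 5), (412, 7), (412, 10), (883, 8), (883, 9), (171, 9), (1513, 9), (1402, 5), (1402, 8), (358, 9), (1436, 9), (1383, 8), (1383, 10), (1299, 8), (1299, 9), (367, 8), (367, 9), (1139, 8), (977, 0), (296, 5), (296, 7), (296, 10), (976, 8), (976, 9), (369, 8), (369, 9), (1638, 5), (1638, 8), (63, 9), (979, 9), (985, 8), (985, 10),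 (1008, 8), (1008, 9), (395, 1), (395, 2), (395, 7), (1142, 8), (1142, 9), (576, 9), (397, 7), (397, 10), (400, 7), (400, 9), (400, 10), (865, 8), (865, 9), (589, 8), (1495, 8), (965, 9), (219, 9), (843, 7), (899, 7), (346, 8), (346, 9), (945, 7), (945, 9), (1057, 8), (1057, 9), (499, 7), (499, 9), (823, 8), (823, 9), (918, 7), (918, 9), (1420, 8), (1420, 9), (798, 7), (798, 9), (798, 10), (408, 7), (408, 10), (409, 7), (409, 10), (410, 7), (411, 7), (411, 9), (411, 10), (922, 7), (606, 7), (416, 0), (416, 1), (416, 3), (416, 5), (1171, 4), (1171, 10), (414, 1), (414, 3), (1138, 9), (1082, 8), (1082, 9), (930, 8), (930, 9), (246, 9), (1394, 2), (1394, 9), (1394, 10), (868, 0), (868, 2), (868, 3), (1262, 8), (932, 9), (1280, 5), (450, 10), (1034, 8), (337, 9), (338, 9), (494, 9), (666, 9), (172, 9), (1531, 8), (1371, 9), (218, 9), (1279, 8), (1024, 8), (1352, 8), (1352, 10), (564, 8), (1144,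 9), (757, 8), (1148, 9), (1186, 0), (1186, 8), (1186, 10), (1502, 8), (1627, 8), (1055, 8), (1053, 8), (1235, 1), (1235, 2), (1235, 5), (1083, 9), (1090, 8), (1096, 9), (1102, 10), (1108, 9), (1114, 10), (953, 8), (1603, 9), (1225, 8), (1225, 10), (1146, 9), (1140, 9), (1147, 9), (1644, 9), (1184, 8), (1184, 10), (1185, 7), (1185, 10), (1277, 8), (1609, 8), (1609, 10), (1051, 1), (1051, 2), (1051, 3), (1051, 4), (1051, 5), (849, 0), (849, 1), (849, 5), (1429, 9), (1509, 8), (1537, 8), (1149, 9), (1415, 9), (1510, 9), (1562, 9), (1413, 9), (1425, 9), (1038, 8), (658, 9), (579, 8), (669, 9), (1599, 8), (341, 8), (341, 9), (723, 8), (723, 9), (724, 9), (1079, 8), (720, 9), (1275, 5), (81, 3), (479, 10), (1039, 8), (363, 8), (1227, 9), (587, 9), (896, 7), (1331, 9), (661, 7), (614, 7), (253, 7), (749, 7), (991, 7), (1485, 5), (543, 9), (1474, 9), (677, 9), (583, 9), (955, 4), (955, 10), (1700,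 9), (1237, 2), (1518, 9), (1270, 8), (1417, 8), (1126, 9), (1326, 1), (1326, 3), (933, 9), (1643, 9), (1243, 7), (1703, 9), (1649, 8), (1656, 9), (1043, 8), (1577, 8), (1382, 2), (1118, 9)], 1728⟩

def lH1 : Lev := ⟨[[0], [22], [24], [26]], 57, [(57, 0), (57, 1), (57, 2), (57, 3), (321, 1), (321, 2), (321, 3), (1445, 1), (1445, 2), (1445, 3), (458, 1), (458, 2), (458, 3), (620, 1), (620, 2), (620, 3), (1217, 1), (1217, 2), (1217, 3), (1339, 1), (1339, 2), (1339, 3), (755, 1), (755, 2), (755, 3), (1050, 2), (1050, 3), (1126, 1), (1126, 2), (1126, 3), (1422, 1), (1422, 2), (1422, 3), (1364, 2), (1364, 3), (423, 1), (423, 3), (789, 1), (789, 2), (789, 3), (1510, 1), (1510, 2), (1510, 3), (1173, 2), (1173, 3), (811, 1), (811, 2), (811, 3), (1191, 2), (1191, 3), (1118, 1), (1118, 2), (1118, 3), (1475, 1), (1475, 2), (1475, 3), (1455, 2), (1274, 3), (1142, 1), (1142, 2), (1142, 3), (1635, 1),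 (1635, 2), (1635, 3), (595, 2), (595, 3), (410, 1), (410, 2), (410, 3), (619, 1), (619, 2), (619, 3), (81, 1), (81, 3), (504, 1), (504, 2), (1044, 1), (1044, 3), (1343, 1), (1343, 2), (1343, 3), (1241, 1), (1241, 2), (1241, 3), (1308, 1), (1308, 2), (1308, 3), (1573, 2), (1573, 3), (1111, 1), (1111, 2), (1111, 3), (1220, 1), (1220, 2), (1220, 3), (1113, 1), (1113, 2), (1113, 3), (1587, 1), (1587, 2), (1587, 3), (1225, 1), (1225, 2), (1225, 3), (865, 1), (865, 2), (865, 3), (523, 1), (523, 2), (523, 3), (449, 3), (739, 1), (739, 2), (739, 3), (944, 1), (944, 2), (944, 3), (1724, 1), (1724, 3), (216, 1), (216, 3), (791, 1), (791, 2), (791, 3), (634, 1), (634, 2), (634, 3), (623, 1), (623, 2), (421, 1), (421, 2), (421, 3), (446, 1), (446, 3), (868, 1), (868, 2), (327, 1), (327, 3), (1107, 1), (1107, 2), (1107, 3), (1219, 1), (1219, 2), (1219, 3), (589, 1), (589, 2), (589, 3), (741, 2), (741,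 3), (1168, 1), (1168, 2), (1168, 3), (1670, 1), (1670, 2), (1670, 3), (1486, 1), (1486, 2), (1486, 3), (1057, 1), (1057, 2), (1057, 3), (388, 1), (388, 2), (388, 3), (792, 3), (1026, 1), (1026, 2), (1305, 1), (1305, 3), (1569, 1), (1569, 3), (568, 1), (568, 3), (525, 1), (525, 2), (525, 3), (554, 1), (554, 2), (554, 3), (1352, 1), (1352, 2), (1715, 1), (1715, 2), (1715, 3), (1100, 1), (895, 1), (895, 3), (75, 1), (75, 2), (624, 2), (624, 3), (365, 2), (365, 3), (450, 1), (450, 3), (768, 1), (768, 2), (1480, 1), (1480, 2), (1480, 3), (1226, 2), (1232, 1), (1232, 2), (1232, 3), (572, 1), (572, 2), (572, 3), (1481, 1), (1481, 2), (1481, 3), (1306, 1), (1306, 2), (1306, 3), (617, 1), (617, 3), (1437, 1), (1437, 3), (1174, 3), (1716, 2), (567, 2), (1708, 1), (1708, 3), (1700, 1), (1700, 3), (1145, 2), (1145, 3), (1672, 2), (878, 1), (878, 2), (878, 3), (1407, 2), (1407, 3), (1264, 2), (1264,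 3), (243, 1), (243, 2), (1707, 2), (1707, 3), (265, 2), (946, 1), (946, 2), (946, 3), (672, 1), (672, 2), (672, 3), (311, 2), (311, 3), (1090, 1), (1090, 2), (559, 1), (559, 2), (559, 3), (1178, 3), (602, 1), (575, 1), (575, 2), (575, 3), (896, 1), (896, 2), (1549, 2), (1203, 1), (1203, 2), (1129, 3), (1579, 1), (1579, 3), (1045, 3), (1177, 1), (1177, 2), (1177, 3), (714, 3), (1036, 1), (1036, 3), (906, 1), (906, 3), (350, 1), (350, 2), (981, 3), (609, 2), (1012, 1), (1012, 2), (1012, 3), (833, 1), (833, 2), (833, 3), (677, 2), (677, 3), (230, 1), (230, 3), (1567, 1), (1567, 3), (119, 1), (119, 2), (119, 3), (1501, 2), (1439, 1), (1439, 2), (1647, 1), (613, 1), (613, 3), (417, 1), (417, 2), (1189, 3), (361, 2), (361, 3), (632, 3), (1056, 1), (1056, 2), (984, 1), (984, 2), (984, 3), (1247, 2), (1247, 3), (704, 2), (704, 3), (1259, 2), (1259, 3), (855, 1), (1097, 1), (1097, 3), (1431, 1),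 (1431, 3), (835, 3), (1564, 2), (699, 2), (1726, 1), (1726, 3), (1413, 1), (1413, 3), (1309, 2), (1309, 3), (808, 2), (947, 1), (947, 2), (947, 3), (549, 1), (549, 2), (549, 3), (438, 2), (1272, 1), (1272, 2), (118, 1), (118, 2), (118, 3), (273, 1), (349, 1), (349, 2), (349, 3), (612, 1), (612, 2), (1143, 2), (1434, 2), (1160, 3), (219, 3), (667, 1), (667, 3), (852, 1), (852, 3), (669, 2), (1619, 3), (897, 2), (316, 1), (316, 2), (316, 3), (1185, 3), (543, 2), (353, 3), (1426, 1), (565, 1), (565, 2), (439, 2), (439, 3), (1375, 1), (1375, 2), (1575, 2), (1575, 3), (1201, 2), (614, 1), (614, 3), (1268, 3), (390, 2), (390, 3), (1447, 1), (1447, 2), (1471, 2), (1365, 2), (1365, 3), (412, 1), (412, 2), (412, 3), (1022, 1), (1022, 3), (734, 2), (734, 3), (445, 2), (1696, 2), (756, 1), (756, 2), (756, 3), (951, 1), (951, 2), (951, 3), (1713, 2), (1598, 2), (622, 3), (812, 1), (1417, 1), (1417,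 2), (1417, 3), (723, 2), (389, 1), (767, 1), (767, 3), (1379, 3), (1523, 1), (1523, 3), (1592, 1), (1592, 3), (784, 3), (1543, 2), (983, 1), (1245, 3), (1076, 1), (1076, 3), (166, 3), (722, 1), (722, 3), (357, 2), (357, 3), (807, 3), (771, 1), (771, 3), (642, 1), (642, 3), (1214, 2), (1214, 3), (1109, 3), (1312, 1), (1312, 3), (313, 2), (313, 3), (1494, 1), (919, 3), (221, 3), (961, 2), (793, 2), (793, 3), (1682, 1), (1682, 3), (915, 1), (544, 1), (544, 3), (644, 2), (967, 1), (1196, 1), (838, 1), (712, 2), (1532, 1), (222, 1), (876, 1), (876, 3), (1609, 3), (1334, 1), (1334, 3), (175, 3), (788, 3), (1104, 2), (1104, 3), (586, 2), (406, 2), (406, 3), (1415, 2), (1415, 3), (397, 3), (426, 3), (1508, 1), (743, 2), (743, 3), (1202, 1), (1223, 1), (1223, 3), (1457, 1), (1457, 2), (1457, 3), (889, 1), (889, 3), (970, 1), (1683, 1), (1683, 3), (1166, 2), (1166, 3), (841, 1), (841, 2), (600,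 2), (370, 1), (370, 2), (720, 2), (680, 3), (1448, 1), (1187, 1), (1187, 2), (1187, 3), (1035, 2), (706, 1), (706, 3), (530, 1), (530, 3), (578, 1), (578, 3), (1697, 1), (1697, 3), (800, 1), (593, 2), (963, 2), (963, 3), (1042, 2), (1195, 2), (840, 1), (840, 3), (1206, 2), (1206, 3), (1432, 2), (1432, 3), (499, 1), (499, 2), (499, 3), (1121, 3), (1317, 2), (1688, 2), (994, 1), (994, 2), (551, 1), (551, 2), (551, 3), (1693, 2), (560, 1), (363, 2), (637, 1), (1112, 1), (1112, 3), (1249, 2), (1299, 1), (1161, 1), (1161, 3), (419, 1), (419, 3), (257, 2), (187, 3), (140, 1), (140, 3), (1300, 2), (1300, 3), (1460, 1), (1460, 3), (1136, 1), (1131, 1), (991, 1), (539, 1), (656, 1), (656, 3), (1237, 3), (650, 1), (650, 3), (574, 3), (740, 2), (740, 3), (301, 2), (403, 2), (403, 3), (726, 2), (726, 3), (922, 3), (834, 1), (846, 1), (733, 2), (527, 1), (1079, 1), (1079, 2), (368, 2), (477, 3), (322,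 2), (521, 1), (521, 3), (1681, 1), (1681, 3), (362, 1), (258, 3), (1427, 2), (173, 3), (1150, 1), (874, 3), (1723, 2), (1723, 3), (1685, 3), (870, 3), (627, 2), (945, 3), (1593, 2), (753, 1), (825, 1), (1451, 2), (1451, 3), (1444, 2), (1570, 3), (1356, 2), (1356, 3), (1386, 3), (1155, 2), (864, 1), (1376, 2), (1639, 2), (1557, 1), (395, 3), (182, 2), (348, 1), (1018, 3), (1424, 3), (594, 3), (1227, 3), (1318, 3), (1392, 3), (1389, 1), (898, 3), (1458, 2), (988, 3), (1666, 3), (1071, 2), (124, 3), (1101, 2), (1495, 2), (1664, 1), (757, 2), (1694, 1), (335, 2), (995, 1), (1147, 1), (698, 3), (411, 3), (1163, 1), (1162, 1)], 640⟩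

def lH2 : Lev := ⟨[[28]], 1, [(1, 0), (15, 0)], 3⟩

def chH : List Lev := [lH0, lH1, lH2]

theorem cH : chainB (nat_lit 11) (nat_lit 2047) tH (nat_lit 1728) chH [] = true := by decide +kernel

def lK0 : Lev := ⟨[[0], [2], [4], [6], [8], [10]], 0, [(0, 0), (0, 1), (0, 2), (0, 4), (189, 0), (189, 2), (189, 3), (189, 4), (149, 0), (149, 2), (149, 4), (2, 4), (42, 0), (42, 4), (29, 0), (195, 0), (154, 0), (154, 4), (37, 0), (20, 1), (20, 2), (20, 3), (20, 4), (143, 0), (143, 2), (190, 0), (30, 0), (652, 2), (652, 3), (5, 2), (43, 2)], 32⟩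

def lK1 : Lev := ⟨[[10], [12], [14], [16]], 57, [(57, 0), (57, 1), (57, 2), (57, 3), (321, 1), (321, 2), (321, 3), (1569, 1), (1569, 2), (1569, 3), (1549, 1), (1549, 2), (1549, 3), (1439, 1), (1439, 2), (1439, 3), (1724, 1), (1724, 2), (1724, 3), (1143, 1), (1143, 2), (1143, 3), (1715, 1), (1715, 2), (1715, 3), (643, 1), (643, 2), (643, 3), (815, 1), (815, 2), (815, 3), (187, 1), (187, 2), (187, 3), (543, 1), (543, 2), (543, 3), (1455, 1), (1455, 2), (1455, 3), (1114, 1), (1114, 2), (1114, 3), (789, 1), (789, 2), (789, 3), (600, 1), (600, 2), (600, 3), (1090, 1), (1090, 2), (806, 1), (806, 2), (806, 3), (869, 1), (869, 2), (869, 3), (771, 1), (771, 2), (771, 3), (677, 1), (677, 2), (677, 3), (1364, 1), (1364, 2), (1364, 3), (1454, 1), (1454, 2), (1454, 3), (1142, 1), (1142, 2), (1142, 3), (562, 1), (562, 2), (562, 3), (1272, 1), (1272, 2), (844, 1), (844, 2), (844, 3), (753, 1), (753,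 2), (753, 3), (876, 1), (876, 2), (876, 3), (1694, 1), (1557, 1), (1557, 2), (1557, 3), (1563, 1), (1563, 2), (1563, 3), (899, 1), (899, 2), (899, 3), (1480, 1), (1480, 2), (1480, 3), (316, 2), (1448, 1), (1448, 2), (1448, 3), (134, 2), (708, 1), (708, 2), (708, 3), (1343, 1), (1343, 2), (1343, 3), (803, 1), (803, 2), (803, 3), (1101, 1), (1101, 2), (1101, 3), (560, 1), (560, 2), (560, 3), (868, 1), (868, 2), (868, 3), (1598, 3), (278, 3), (182, 1), (1338, 3), (627, 3), (1254, 2), (1033, 1), (1033, 2), (1033, 3), (482, 1), (482, 2), (482, 3), (610, 1), (610, 2), (610, 3), (995, 1), (995, 2), (995, 3), (656, 1), (656, 2), (656, 3), (1150, 1), (1147, 1), (1147, 2), (1147, 3), (1703, 1), (1703, 2), (1703, 3), (395, 1), (395, 2), (395, 3), (984, 1), (984, 2), (984, 3), (1012, 2), (829, 1), (829, 2), (829, 3), (404, 2), (745, 1), (745, 2), (745, 3), (1107, 1), (1107, 2), (1107, 3), (694, 1),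 (694, 2), (694, 3), (737, 1), (737, 2), (737, 3), (812, 1), (812, 2), (812, 3), (504, 1), (504, 2), (504, 3), (1167, 3), (398, 3), (348, 1), (959, 3), (335, 3), (1231, 2), (323, 1), (323, 2), (323, 3), (859, 1), (859, 2), (859, 3), (757, 2), (1161, 1), (1161, 2), (1161, 3), (368, 1), (368, 2), (368, 3), (1249, 1), (80, 1), (80, 2), (80, 3), (589, 3), (1700, 1), (1700, 2), (1700, 3), (1626, 1), (1626, 2), (1626, 3), (1685, 2), (258, 1), (258, 2), (258, 3), (704, 1), (704, 2), (704, 3), (734, 1), (734, 2), (734, 3), (1187, 1), (1187, 2), (1187, 3), (929, 1), (929, 2), (929, 3), (1226, 1), (1226, 2), (1226, 3), (1178, 1), (1178, 2), (1178, 3), (1555, 1), (1555, 2), (1555, 3), (854, 1), (854, 2), (854, 3), (362, 1), (362, 2), (362, 3), (1202, 1), (1202, 2), (1202, 3), (1451, 3), (754, 3), (1164, 1), (1164, 2), (1164, 3), (1162, 3), (916, 1), (916, 2), (916, 3), (492, 1), (492, 2), (492, 3),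 (1317, 1), (1317, 2), (1317, 3), (922, 2), (598, 1), (598, 2), (598, 3), (770, 3), (1126, 1), (1126, 2), (1126, 3), (1172, 3), (1245, 1), (1245, 2), (1245, 3), (628, 1), (628, 2), (628, 3), (1457, 3), (1635, 1), (1635, 2), (1635, 3), (1542, 1), (1542, 2), (1542, 3), (895, 1), (895, 2), (895, 3), (1471, 3), (1445, 1), (1445, 2), (1445, 3), (525, 1), (525, 2), (525, 3), (166, 3), (1505, 1), (1505, 2), (1505, 3), (1719, 1), (1719, 2), (1719, 3), (257, 3), (1407, 1), (1407, 2), (1407, 3), (1436, 1), (1436, 2), (1436, 3), (1144, 2), (411, 1), (411, 2), (411, 3), (416, 1), (416, 2), (416, 3), (334, 1), (1076, 3), (720, 1), (720, 2), (720, 3), (1543, 1), (441, 3), (1308, 3), (1413, 1), (1413, 2), (1413, 3), (1316, 1), (1316, 2), (1316, 3), (1281, 2), (860, 3), (572, 3), (1121, 1), (1121, 2), (1121, 3), (1417, 1), (1417, 2), (1417, 3), (1137, 1), (1137, 2), (1137, 3), (1269, 1), (1269, 2), (1269,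 3), (1324, 1), (1324, 2), (1324, 3), (942, 3), (1612, 3), (800, 1), (800, 2), (800, 3), (846, 1), (352, 3), (378, 3), (1163, 3), (894, 3), (1000, 1), (1000, 2), (1000, 3), (445, 1), (445, 2), (445, 3), (397, 2), (1265, 3), (968, 3), (1118, 3), (1698, 3), (1372, 1), (1372, 2), (1372, 3), (249, 1), (249, 2), (249, 3), (1683, 3), (1510, 3), (1560, 2), (613, 3), (1221, 3), (1217, 1), (1217, 2), (1217, 3), (791, 1), (791, 2), (791, 3), (332, 3), (651, 1), (651, 2), (651, 3), (1624, 1), (1624, 2), (1624, 3), (357, 3), (1707, 1), (1707, 2), (1707, 3), (1371, 1), (1083, 2), (898, 2), (1263, 1), (1263, 2), (1263, 3), (244, 1), (1160, 1), (1160, 2), (1160, 3), (621, 1), (621, 2), (621, 3), (601, 1), (601, 2), (601, 3), (521, 1), (521, 2), (521, 3), (1023, 1), (1023, 2), (1023, 3), (858, 1), (858, 2), (858, 3), (807, 1), (807, 2), (807, 3), (231, 1), (231, 2), (231, 3), (759, 3), (946, 3), (1672,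 3), (325, 1), (325, 2), (325, 3), (446, 1), (446, 2), (446, 3), (1111, 3), (221, 1), (221, 2), (221, 3), (365, 2), (1336, 1), (1336, 2), (1336, 3), (870, 3), (313, 2), (1283, 2), (1508, 2), (865, 2), (1523, 1), (1523, 2), (1523, 3), (1196, 1), (1352, 1), (1169, 2), (713, 1), (1241, 1), (353, 1), (353, 2), (353, 3), (599, 3), (296, 1), (296, 2), (296, 3), (1567, 3), (1334, 3), (1389, 1), (1389, 2), (1389, 3), (1726, 1), (1726, 2), (1726, 3), (1545, 1), (1545, 2), (1545, 3), (403, 1), (403, 2), (403, 3), (1214, 1), (1379, 3), (1312, 3), (1374, 1), (1374, 2), (1374, 3), (1046, 1), (1046, 2), (1046, 3), (503, 2), (1128, 3), (672, 1), (1057, 2), (834, 2), (1486, 1), (1131, 1), (341, 1), (341, 2), (341, 3), (919, 3), (1526, 3), (733, 2), (1488, 3), (983, 3), (1050, 2), (1640, 3), (412, 3), (781, 2), (427, 3), (315, 3), (670, 1), (883, 3), (1018, 1), (1018, 2), (1018, 3), (768, 3), (1096, 1),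 (1096, 2), (1096, 3), (1129, 1), (1129, 2), (1129, 3), (736, 2), (127, 1), (127, 2), (127, 3), (706, 1), (758, 3), (553, 1), (553, 2), (553, 3), (331, 3), (1264, 3), (691, 1), (691, 2), (691, 3), (81, 1), (782, 3), (973, 3), (793, 2), (773, 2), (582, 1), (1219, 1), (230, 1), (536, 1), (536, 2), (536, 3), (650, 3), (825, 1), (825, 2), (825, 3), (1708, 3), (406, 1), (1385, 3), (1460, 3), (1022, 3), (1625, 3), (1596, 3), (1299, 3), (1191, 2), (1373, 3), (499, 3), (1282, 3), (1015, 3), (977, 1), (824, 3), (698, 1), (698, 2), (698, 3), (1056, 3), (1440, 1), (1440, 2), (1440, 3), (527, 1), (527, 2), (527, 3), (1339, 2), (1351, 1), (1351, 2), (1351, 3), (991, 2), (925, 1), (925, 2), (925, 3), (1678, 1), (1678, 2), (1678, 3), (1619, 1), (1619, 2), (1619, 3), (458, 2), (1243, 1), (1243, 2), (1243, 3), (838, 2), (1424, 1), (1424, 2), (1424, 3), (1587, 1), (1587, 2), (1587, 3), (1124, 3), (795,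 1), (795, 2), (795, 3), (675, 1), (675, 2), (675, 3), (586, 3), (1481, 3), (1391, 1), (1391, 2), (1391, 3), (872, 3), (1259, 1), (1259, 2), (1259, 3), (1095, 3), (595, 3), (118, 3), (1532, 1), (1532, 2), (1532, 3), (409, 3), (559, 3), (981, 3), (841, 3), (1658, 1), (243, 1), (370, 2), (877, 2), (1253, 1), (1253, 2), (1253, 3), (1603, 1), (1603, 2), (1603, 3), (1318, 1), (1318, 2), (1318, 3), (1670, 3), (301, 3), (1501, 3), (775, 3), (1173, 3)], 640⟩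

def lK2 : Lev := ⟨[[18]], 1, [(1, 0), (15, 0)], 3⟩

def chK : List Lev := [lK0, lK1, lK2]

theorem cK : chainB (nat_lit 11) (nat_lit 2047) tK (nat_lit 1728) chK [] = true := by decide +kernel

def d0 : List Der := [.base,
  .base,
  .base,
  .base,
  .base,
  .base,
  .base,
  .base,
  .base,
  .base,
  .base,
  .dfn,
  .tm 2 [] [] [⟨11, [], []⟩],
  .tm 1 [] [] [⟨11, [], [0]⟩, ⟨11, [11], []⟩],
  .tm 1 [] [] [⟨11, [], [4]⟩, ⟨11, [13, 1], []⟩],
  .tm 1 [] [] [⟨11, [], [6]⟩, ⟨11, [11, 15, 13, 1, 1, 7], []⟩],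
  .tm 1 [] [] [⟨11, [], [8]⟩, ⟨11, [13, 13, 17, 13, 1, 3, 0], []⟩],
  .tm 1 [] [] [⟨11, [], [10]⟩, ⟨11, [13, 13, 0, 5, 0, 0], []⟩],
  .tm 1 [] [] [⟨11, [], [14, 18]⟩, ⟨11, [17, 13, 13, 17], []⟩],
  .tm 1 [] [] [⟨11, [], [14, 20, 18, 17]⟩, ⟨11, [15, 13, 14, 0, 9], []⟩],
  .tm 3 [] [] [⟨11, [], [2]⟩, ⟨11, [], []⟩],
  .dfn,
  .tm 2 [] [] [⟨21, [], []⟩],
  .tm 1 [] [] [⟨21, [], [26]⟩, ⟨21, [11, 13, 1], []⟩],
  .tm 1 [] [] [⟨21, [], [28]⟩, ⟨21, [13, 14], []⟩],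
  .tm 1 [] [] [⟨21, [], [32]⟩, ⟨21, [19, 16, 12, 12, 16, 12, 3, 9], []⟩],
  .tm 1 [] [] [⟨21, [], [34]⟩, ⟨21, [19, 14, 16, 14, 14, 1, 2], []⟩],
  .tm 1 [] [] [⟨21, [], [36]⟩, ⟨21, [17, 15, 15, 17], []⟩],
  .tm 1 [] [] [⟨21, [], [39, 39, 36, 38, 30]⟩, ⟨21, [12, 14, 17, 15, 17, 13, 15, 9], []⟩],
  .tm 1 [] [] [⟨21, [], [31, 38, 36, 38, 36, 39]⟩, ⟨21, [18, 15, 13, 13, 17, 1, 3, 0], []⟩],
  .tm 3 [] [] [⟨21, [], [38, 37, 38, 30]⟩, ⟨21, [1, 6, 1, 17, 14, 13, 13, 10, 18], []⟩],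
  .tm 4 [] [] [⟨21, [1, 1, 6, 1, 15, 17, 15, 15, 17, 13, 19], []⟩, ⟨11, [1, 6, 0], [20, 15, 16]⟩, ⟨11, [6, 0, 3, 15, 17, 13, 15, 19], [39, 37, 38]⟩, ⟨21, [8, 1, 16, 14, 16, 18], []⟩],
  .dfn,
  .tm 2 [] [] [⟨32, [], []⟩],
  .tm 1 [] [] [⟨32, [], [33, 36]⟩, ⟨32, [16, 14, 14, 16], []⟩],
  .tm 1 [] [] [⟨32, [], [32, 32, 26]⟩, ⟨32, [9], []⟩],
  .tm 1 [] [] [⟨32, [], [38, 30]⟩, ⟨32, [14, 12, 12, 14, 17, 0, 7], []⟩],
  .tm 3 [] [] [⟨32, [], [26]⟩, ⟨32, [4, 1, 1, 4, 1, 12, 12, 10], []⟩],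
  .dfn,
  .tm 2 [] [] [⟨38, [], []⟩],
  .tm 1 [] [] [⟨38, [], [54]⟩, ⟨38, [18, 13, 13, 17, 13, 15, 17, 15, 1, 3], []⟩],
  .tm 1 [] [] [⟨38, [], [50, 56, 46]⟩, ⟨38, [11, 13, 13, 17, 13, 1, 3, 0], []⟩],
  .tm 1 [] [] [⟨38, [], [50, 50, 48]⟩, ⟨38, [13, 1], []⟩],
  .tm 1 [] [] [⟨38, [], [47, 58, 52, 50]⟩, ⟨38, [13, 13, 17, 13, 17, 2, 9], []⟩],
  .tm 3 [] [] [⟨38, [], [48, 46]⟩, ⟨38, [1, 1, 6, 1, 13, 15, 13], []⟩],
  .tm 5 [1, 1, 6, 1, 14, 14, 16, 12, 12, 10, 19] [] [⟨38, [2, 0, 15, 17, 12, 14], [51, 62]⟩, ⟨21, [0], [33, 28]⟩, ⟨32, [3, 13, 17, 12, 12, 10, 18], []⟩],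
  .tm 2 [3, 17, 15, 13, 17, 15, 10] [] [⟨45, [], []⟩],
  .tm 5 [8, 0, 14, 14, 16, 10, 19] [] [⟨46, [2, 0, 15, 13, 17, 13, 18], [73, 68]⟩, ⟨32, [4, 0, 0], [30, 37]⟩, ⟨32, [3, 0, 16, 15, 15, 13, 10], []⟩],
  .tm 2 [4, 0, 0, 15, 17, 13, 15, 17, 13, 19] [] [⟨47, [], []⟩],
  .tm 5 [1, 1, 6, 1, 14, 16, 14, 14, 16, 12] [] [⟨38, [6, 0, 3, 12, 16, 14, 16, 13, 13, 18], [51, 62]⟩, ⟨30, [4, 1], [63, 59, 46]⟩, ⟨38, [8, 0, 17, 15, 15, 17, 15, 13, 10, 19], []⟩],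
  .tm 2 [0, 3, 17, 14, 14, 12, 12, 19] [] [⟨49, [], []⟩],
  .dfn,
  .tm 2 [] [] [⟨51, [], []⟩],
  .tm 1 [] [] [⟨51, [], [68]⟩, ⟨51, [19, 13, 15, 17, 13, 13, 17, 15, 1, 3, 0], []⟩],
  .tm 1 [] [] [⟨51, [], [73, 68, 72]⟩, ⟨51, [11, 12, 16, 14, 14, 16, 12, 0, 7], []⟩],
  .tm 3 [] [] [⟨51, [], [70]⟩, ⟨51, [4, 1, 1, 6, 1, 13, 15, 13], []⟩],
  .dfn,
  .tm 2 [] [] [⟨56, [], []⟩],
  .tm 1 [] [] [⟨56, [], [82]⟩, ⟨56, [19, 13, 16, 12, 3, 9], []⟩],
  .tm 1 [] [] [⟨56, [], [81, 86]⟩, ⟨56, [19, 11, 12, 12, 2, 1, 1], []⟩],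
  .tm 4 [] [] [⟨56, [0, 0, 12, 14, 12, 19], [80, 87]⟩, ⟨38, [1], [62, 50, 46]⟩, ⟨38, [2, 16, 13], [86, 81]⟩, ⟨56, [4, 0, 3, 16, 14, 14, 16, 14, 14, 19], []⟩],
  .dfn,
  .tm 2 [] [] [⟨61, [], []⟩],
  .tm 1 [] [] [⟨61, [], [82]⟩, ⟨61, [19, 11, 13, 13, 16, 12, 1, 3, 0], []⟩],
  .tm 1 [] [] [⟨61, [], [81, 86]⟩, ⟨61, [19, 13, 17, 13, 13, 0, 5], []⟩],
  .tm 3 [] [] [⟨61, [], []⟩, ⟨56, [], []⟩],
  .tm 2 [] [] [⟨65, [], []⟩],
  .tm 4 [] [] [⟨61, [6, 1, 17, 15, 15, 12, 18], [81]⟩, ⟨38, [3, 0], [63, 50]⟩, ⟨38, [2, 12], [87]⟩, ⟨61, [3, 15, 17, 12, 12, 10], []⟩],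
  .dfn,
  .tm 2 [] [] [⟨68, [], []⟩],
  .tm 1 [] [] [⟨68, [], [80, 82]⟩, ⟨68, [19, 13, 15, 17, 13, 13, 17, 15, 1, 3, 0], []⟩],
  .tm 1 [] [] [⟨68, [], [81, 82, 86, 80]⟩, ⟨68, [18, 13, 13, 17, 15, 13, 17, 13, 1, 9], []⟩],
  .tm 3 [] [] [⟨68, [], [82, 81]⟩, ⟨68, [4, 1, 1, 6, 1, 14, 14, 16, 12, 12, 10, 18], []⟩],
  .tm 5 [6, 0, 0, 12, 16, 14, 14, 16, 12, 12, 18] [] [⟨68, [8, 2, 0, 15, 13, 17, 13, 10, 18], [82, 86]⟩, ⟨48, [1, 6, 0], [73]⟩, ⟨51, [4, 0, 0, 16, 14, 12, 16, 14, 10], []⟩],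
  .tm 2 [3, 14, 16, 14, 14, 16, 12, 12, 18] [] [⟨73, [], []⟩],
  .tm 5 [0, 3, 15, 12, 12, 19] [] [⟨74, [2, 0, 16, 13, 13, 19], []⟩, ⟨51, [6, 4, 0], [72, 72, 70]⟩, ⟨51, [0, 13, 17, 13, 10, 19], []⟩],
  .tm 2 [4, 1, 1, 6, 1, 14] [] [⟨75, [], []⟩],
  .dfn,
  .tm 2 [] [] [⟨77, [], []⟩],
  .tm 5 [8, 0, 16, 14, 16, 13, 19] [] [⟨77, [0, 0, 15, 17, 14, 14, 18], [87]⟩, ⟨46, [4, 1], [68, 72, 72, 70]⟩, ⟨51, [15, 13, 19], []⟩],
  .tm 2 [0, 3, 17, 13, 15, 12, 12, 19] [] [⟨79, [], []⟩],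
  .tm 5 [8, 2, 16, 12, 16] [] [⟨80, [0, 13, 15, 17, 13, 13, 18], [108, 107]⟩, ⟨51, [6, 0], [72, 72]⟩, ⟨51, [6, 1, 14, 12, 16, 12, 18], []⟩],
  .tm 5 [8, 16, 12, 16, 13, 13] [] [⟨77, [4, 0, 0, 17, 15, 13, 19], [81, 82]⟩, ⟨49, [6, 4, 0], [81]⟩, ⟨68, [2, 16, 15, 15, 10], []⟩],
  .tm 2 [4, 0, 3, 12, 16, 12, 12] [] [⟨82, [], []⟩],
  .tm 5 [8, 2, 0, 17, 15, 15, 17, 15, 13, 10, 19] [] [⟨68, [6, 1, 17, 14, 14, 16, 14, 14], [81]⟩, ⟨50, [3, 0], [87, 80]⟩, ⟨77, [8, 0, 3, 16, 14, 16, 13, 13, 18], []⟩],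
  .dfn,
  .tm 2 [] [] [⟨85, [], []⟩],
  .tm 1 [] [] [⟨85, [], [108]⟩, ⟨85, [19, 14, 12, 12, 16, 1, 2], []⟩],
  .tm 6 [1, 2, 0, 15, 17, 14, 14, 19] [] [⟨51, [8, 3, 14, 16, 14, 16, 13, 13, 10], [71, 73, 73, 69]⟩, ⟨32, [4, 0, 0, 12, 12, 16, 14, 12, 19], [31, 33]⟩, ⟨11, [1, 1, 6, 1, 16, 12, 16, 14, 12, 10, 18], [14, 16]⟩, ⟨12, [1, 6, 1, 17, 14, 12, 12, 19], []⟩, ⟨33, [4, 0, 3, 16, 13, 13], []⟩, ⟨52, [1, 6, 1, 16, 12, 16, 14, 10, 18], []⟩, ⟨86, [8, 0, 4, 0, 6, 4], []⟩],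
  .dfn,
  .dfn,
  .tm 2 [] [] [⟨90, [], []⟩],
  .tm 5 [1, 1, 6, 1, 16, 12, 14, 16, 12, 10, 19] [] [⟨90, [4, 1, 1, 4, 1, 14, 16, 14, 14, 19], [117, 119]⟩, ⟨56, [6, 4, 0, 0], [86, 83, 80]⟩, ⟨68, [4, 1, 1, 6, 1, 16, 12, 14, 16, 12, 14], []⟩],
  .tm 2 [8, 2, 0, 15, 12, 16, 15, 18] [] [⟨92, [], []⟩],
  .tm 5 [4, 1, 1, 6, 1, 12, 12, 14, 10, 19] [] [⟨77, [4, 0, 3, 15, 13, 17, 15, 10, 19], [83, 86]⟩, ⟨57, [1], [119, 116]⟩, ⟨90, [4, 0, 0, 15, 15, 17, 15], []⟩],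
  .dfn,
  .tm 5 [1, 1, 6, 1, 12, 16, 15, 13, 13] [] [⟨95, [6, 0, 0, 17, 15, 15, 17, 13, 19], [116, 118]⟩, ⟨56, [6, 1], [87, 82]⟩, ⟨77, [0, 0, 14, 16, 13, 15], []⟩],
  .tm 2 [2, 0, 13, 17, 12, 14, 14] [] [⟨96, [], []⟩],
  .tm 5 [1, 1, 4, 1, 14, 13, 19] [] [⟨97, [4, 1, 1, 4, 1, 12, 16, 13, 13, 10], []⟩, ⟨77, [6, 0], [82, 80]⟩, ⟨68, [0, 16, 15, 13, 10, 19], []⟩],
  .tm 2 [1, 4, 1, 16, 15, 13, 15] [] [⟨98, [], []⟩],
  .dfn,
  .tm 5 [1, 6, 1, 16, 14, 12, 16, 12, 18] [] [⟨100, [8, 2, 0, 15, 17, 15, 13, 17, 13], [126, 128]⟩, ⟨61, [4, 1], [87, 80]⟩, ⟨68, [8, 13, 15, 17, 13, 10], []⟩],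
  .tm 2 [1, 6, 1, 15, 12, 16, 18] [] [⟨101, [], []⟩],
  .dfn,
  .tm 2 [] [] [⟨103, [], []⟩],
  .tm 5 [8, 0, 15, 13, 17, 15] [] [⟨103, [8, 0, 15, 12, 12, 10, 18], [126, 128]⟩, ⟨61, [6, 4, 1], [87, 80]⟩, ⟨77, [2, 0, 12, 16, 12, 14, 16, 14, 18], []⟩],
  .tm 2 [1, 1, 4, 1, 12, 16, 14, 12, 16, 12, 12, 10] [] [⟨105, [], []⟩],
  .tm 5 [6, 1, 16, 12, 16, 14, 12, 10] [] [⟨106, [4, 0, 0, 14, 12, 18], []⟩, ⟨77, [4, 1], [82, 81]⟩, ⟨68, [8, 14, 16, 13, 13, 19], []⟩],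
  .tm 2 [1, 1, 4, 1, 14, 14, 12, 18] [] [⟨107, [], []⟩],
  .tm 5 [1, 4, 1, 15, 17, 12] [] [⟨103, [0, 0, 3, 14, 16, 12, 12], [127, 129]⟩, ⟨66, [6, 4, 0, 0], [118, 117]⟩, ⟨90, [1, 1, 4, 1, 14, 12, 16, 12, 12, 18], []⟩],
  .tm 2 [4, 1, 1, 4, 1, 16, 12, 16, 14, 14, 18] [] [⟨109, [], []⟩],
  .tm 5 [4, 0, 3, 17, 14, 12, 16, 12, 12] [] [⟨110, [1, 1, 6, 1, 15, 17, 15, 15, 17, 13, 19], []⟩, ⟨90, [1, 6, 0], [118]⟩, ⟨90, [3, 0, 16, 12, 12, 16, 12], []⟩],
  .dfn,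
  .tm 2 [] [] [⟨112, [], []⟩],
  .tm 6 [8, 0, 0, 15, 12, 16, 12, 14, 18] [] [⟨89, [8, 0, 17, 12, 14, 14], [109, 107]⟩, ⟨51, [8, 0, 3, 14, 16, 14, 14, 18], [73, 73, 69, 72]⟩, ⟨32, [1, 2, 0, 14, 14, 12, 12], [31, 34]⟩, ⟨22, [1, 6, 1, 17, 14, 12, 12, 19], []⟩, ⟨39, [4, 0, 3, 16, 13, 13], []⟩, ⟨69, [1, 6, 1, 16, 12, 16, 14, 10, 18], []⟩, ⟨113, [8, 0, 4, 0, 6, 4], []⟩],
  .tm 5 [6, 0, 3, 17, 13, 15, 12, 18] [] [⟨112, [8, 17, 13, 13, 17, 15, 10], []⟩, ⟨76, [1], []⟩, ⟨88, [8, 3, 15, 15, 17, 15, 10, 18], []⟩],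
  .tm 2 [4, 0, 0, 14, 14, 16, 14, 14, 10, 19] [] [⟨115, [], []⟩],
  .tm 7 [] [] [⟨77, [8, 0, 3, 12, 16, 14, 18], [81, 82]⟩, ⟨48, [8, 0, 16, 14, 16, 14, 12, 10, 19], [68, 72, 72]⟩, ⟨52, [1, 17, 14, 14, 12, 10], []⟩, ⟨86, [0, 3, 16, 14, 16, 13, 15, 10, 18], []⟩, ⟨115, [2, 0, 16, 12, 16, 13, 13, 19], []⟩, ⟨114, [8, 1, 16, 14, 14, 16, 10], []⟩, ⟨89, [10, 8, 6, 0, 4], [109, 107]⟩, ⟨74, [1, 13, 17, 15, 15, 10], []⟩],
  .tm 0 [] [] [⟨77, [], [234]⟩],
  .tm 0 [] [] [⟨84, [], [234]⟩],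
  .tm 0 [] [] [⟨83, [], [234]⟩],
  .tm 0 [] [] [⟨105, [], [234]⟩],
  .tm 0 [4, 0, 0, 14, 14, 13, 10] [235] [⟨78, [], []⟩],
  .tm 1 [] [] [⟨122, [], []⟩, ⟨112, [], []⟩],
  .walk [247],
  .tm 0 [] [] [⟨116, [], [248]⟩],
  .tm 0 [0, 17, 15, 13, 17, 13, 19] [235] [⟨94, [], []⟩],
  .tm 1 [] [] [⟨126, [], [141]⟩, ⟨108, [1, 6, 1, 14, 12, 16, 12, 19], []⟩],
  .walk [255],
  .tm 0 [8, 2, 0, 17, 14, 12] [235] [⟨106, [], [256]⟩],
  .tm 1 [] [] [⟨129, [], [141]⟩, ⟨93, [8, 3, 16, 12, 14, 16, 12, 10, 19], []⟩],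
  .tm 0 [8, 2, 0, 14, 14, 16, 12, 16, 15, 13, 18] [235] [⟨79, [], []⟩],
  .tm 1 [] [] [⟨131, [], []⟩, ⟨75, [], []⟩],
  .tm 0 [4, 1, 1, 6, 1, 14, 14, 16, 12, 16, 15, 13, 19] [235] [⟨82, [], []⟩],
  .tm 0 [8, 17, 14, 12, 16, 14] [235] [⟨81, [], []⟩],
  .tm 2 [14, 16, 14, 14, 16, 12, 12, 18] [] [⟨134, [], []⟩],
  .tm 1 [] [] [⟨135, [], [265]⟩, ⟨88, [4, 1, 1, 4, 1, 14, 16, 15, 13, 10, 18], []⟩],
  .walk [273],
  .walk [275, 174, 274],
  .tm 0 [] [] [⟨88, [], [274]⟩],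
  .tm 0 [4, 1, 1, 6, 1, 15, 13, 13, 15, 19] [257] [⟨104, [], []⟩],
  .tm 0 [1, 1, 6, 1, 15, 13, 13, 15, 19] [257] [⟨111, [], []⟩],
  .tm 1 [] [] [⟨141, [], [261]⟩, ⟨91, [6, 1, 17, 14, 14, 16, 12], []⟩],
  .tm 0 [] [] [⟨90, [], [284]⟩],
  .tm 0 [] [] [⟨93, [], [284]⟩],
  .tm 0 [3, 0, 14, 12, 16, 14, 16, 15, 13, 18] [285, 257] [⟨121, [], []⟩],
  .tm 1 [] [] [⟨145, [], [118]⟩, ⟨95, [8, 0, 12, 16, 14, 12, 19], []⟩],
  .walk [293],
  .tm 0 [] [] [⟨95, [], [294]⟩],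
  .tm 0 [] [] [⟨99, [], [294]⟩],
  .tm 0 [0, 0, 13, 13, 17, 15, 10] [275] [⟨125, [], []⟩],
  .tm 1 [] [] [⟨150, [], [140]⟩, ⟨102, [8, 2, 13, 17, 13, 13, 19], []⟩],
  .walk [303],
  .tm 0 [] [] [⟨102, [], [304]⟩],
  .tm 0 [8, 0, 13, 17, 13, 13, 10, 18] [285] [⟨140, [], []⟩],
  .tm 1 [] [] [⟨154, [], []⟩, ⟨66, [], []⟩]]

theorem fc0 : checkL (nat_lit 11) (nat_lit 2047) tH tK tK' BB FF TM XW d0 (nat_lit 0) = true := by decide +kernel

theorem cv0_1_0 : covB FF nets (nat_lit 1782) (nat_lit 11) (nat_lit 22) (nat_lit 1728) (nat_lit 156) (nat_lit 0) (nat_lit 1) [0, 1, 2, 3, 4, 5, 6, 7, 8, 9, 10] [[0], [2], [4], [6], [8], [10], [12], [14], [16], [18], [20]]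
    [11] [10, 9, 10, 8, 9, 1, 8, 9, 10] k0_1 = true := by decide +kernel

theorem rw0 : rowB (nat_lit 1782) (ivl (nat_lit 1728) ((nat_lit 1782) - (nat_lit 1728))) row0 [0, 54, 0, 0, 0, 0, 0, 0, 0] 0 = true := by decide +kernel

theorem cv1_0_0 : covB FF nets (nat_lit 1782) (nat_lit 11) (nat_lit 22) (nat_lit 1728) (nat_lit 156) (nat_lit 1) (nat_lit 0) [13, 14, 15, 16, 17, 18, 19] [[0], [4, 25, 26, 26, 24], [12, 6, 22, 26, 26, 23], [8, 26, 23, 27, 23], [11, 23, 25, 22, 29], [26, 23, 27], [8, 6, 4, 24, 27, 23, 0, 28]]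
    [12] [] k1_0 = true := by decide +kernel

theorem cv1_1_0 : covB FF nets (nat_lit 1782) (nat_lit 11) (nat_lit 22) (nat_lit 1728) (nat_lit 156) (nat_lit 1) (nat_lit 1) [13, 14, 15, 16, 17, 18, 19] [[0], [4, 25, 26, 26, 24], [12, 6, 22, 26, 26, 23], [8, 26, 23, 27, 23], [11, 23, 25, 22, 29], [26, 23, 27], [8, 6, 4, 24, 27, 23, 0, 28]]
    [20] [] k1_1 = true := by decide +kernel

theorem cv1_2_0 : covB FF nets (nat_lit 1782) (nat_lit 11) (nat_lit 22) (nat_lit 1728) (nat_lit 156) (nat_lit 1) (nat_lit 2) [13, 14, 15, 16, 17, 18, 19] [[0], [4, 25, 26, 26, 24], [12, 6, 22, 26, 26, 23], [8, 26, 23, 27, 23], [11, 23, 25, 22, 29], [26, 23, 27], [8, 6, 4, 24, 27, 23, 0, 28]]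
    [21] [2, 6, 5, 5, 6, 6, 5, 6] k1_2 = true := by decide +kernel

theorem cv1_3_0 : covB FF nets (nat_lit 1782) (nat_lit 11) (nat_lit 22) (nat_lit 1728) (nat_lit 156) (nat_lit 1) (nat_lit 3) [13, 14, 15, 16, 17, 18, 19] [[0], [4, 25, 26, 26, 24], [12, 6, 22, 26, 26, 23], [8, 26, 23, 27, 23], [11, 23, 25, 22, 29], [26, 23, 27], [8, 6, 4, 24, 27, 23, 0, 28]]
    [32] [0, 5, 4, 3, 2] k1_3 = true := by decide +kernel

theorem rw1 : rowB (nat_lit 1782) (ivl (nat_lit 1728) ((nat_lit 1782) - (nat_lit 1728))) row1 [1, 1, 20, 32, 0, 0, 0, 0, 0] 0 = true := by decide +kernel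

theorem cv2_1_0 : covB FF nets (nat_lit 1782) (nat_lit 11) (nat_lit 22) (nat_lit 1728) (nat_lit 156) (nat_lit 2) (nat_lit 1) [23, 24, 25, 26, 27, 28, 29, 31] [[4, 26, 25, 26, 25], [25, 26, 26, 24], [10, 8, 23, 27, 22, 0, 28], [9, 24, 27, 0], [22], [12, 23, 27, 22, 0, 28], [8, 22, 24, 26, 26, 0, 28], [18, 16, 20, 6, 26, 24, 26, 22]]
    [22] [7, 7] k2_1 = true := by decide +kernel

end Cfsg.Agent.Lib.SuzHD
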