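import Cfsg.Agent.Lib.SuzHDR
import Cfsg.Agent.Lib.SuzHDT
import Cfsg.Agent.Lib.SuzHDF
import Cfsg.Agent.Lib.SuzHDM

set_option autoImplicit false
set_option maxRecDepth 100000

namespace Cfsg.Agent.Lib.SuzHD
open Cfsg.Agent.Lib.PermNet Cfsg.Agent.Lib.DCE

theorem cv2_2_0 : covB FF nets (nat_lit 1782) (nat_lit 11) (nat_lit 22) (nat_lit 1728) (nat_lit 156) (nat_lit 2) (nat_lit 2) [23, 24, 25, 26, 27, 28, 29, 31] [[4, 26, 25, 26, 25], [25, 26, 26, 24], [10, 8, 23, 27, 22, 0, 28], [9, 24, 27, 0], [22], [12, 23, 27, 22, 0, 28], [8, 22, 24, 26, 26, 0, 28], [18, 16, 20, 6, 26, 24, 26, 22]]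
    [30] [7, 7] k2_2 = true := by decide +kernel

theorem cv2_4_0 : covB FF nets (nat_lit 1782) (nat_lit 11) (nat_lit 22) (nat_lit 1728) (nat_lit 156) (nat_lit 2) (nat_lit 4) [23, 24, 25, 26, 27, 28, 29, 31] [[4, 26, 25, 26, 25], [25, 26, 26, 24], [10, 8, 23, 27, 22, 0, 28], [9, 24, 27, 0], [22], [12, 23, 27, 22, 0, 28], [8, 22, 24, 26, 26, 0, 28], [18, 16, 20, 6, 26, 24, 26, 22]]
    [38] [3, 4, 4, 1, 0, 7, 7] k2_4 = true := by decide +kernel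

theorem rw2 : rowB (nat_lit 1782) (ivl (nat_lit 1728) ((nat_lit 1782) - (nat_lit 1728))) row2 [0, 3, 3, 0, 48, 0, 0, 0, 0] 0 = true := by decide +kernel

theorem cv3_1_0 : covB FF nets (nat_lit 1782) (nat_lit 11) (nat_lit 22) (nat_lit 1728) (nat_lit 156) (nat_lit 3) (nat_lit 1) [34, 35, 36] [[23], [12, 0], [8, 6, 26, 23, 25, 0, 28]]
    [33] [] k3_1 = true := by decide +kernel

theorem cv3_3_0 : covB FF nets (nat_lit 1782) (nat_lit 11) (nat_lit 22) (nat_lit 1728) (nat_lit 156) (nat_lit 3) (nat_lit 3) [34, 35, 36] [[23], [12, 0], [8, 6, 26, 23, 25, 0, 28]]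
    [37] [] k3_3 = true := by decide +kernel

theorem cv3_4_0 : covB FF nets (nat_lit 1782) (nat_lit 11) (nat_lit 22) (nat_lit 1728) (nat_lit 156) (nat_lit 3) (nat_lit 4) [34, 35, 36] [[23], [12, 0], [8, 6, 26, 23, 25, 0, 28]]
    [48, 46] [0, 0, 2, 0, 0, 2, 0, 2, 0, 2] k3_4 = true := by decide +kernel

theorem cv3_5_0 : covB FF nets (nat_lit 1782) (nat_lit 11) (nat_lit 22) (nat_lit 1728) (nat_lit 156) (nat_lit 3) (nat_lit 5) [34, 35, 36] [[23], [12, 0], [8, 6, 26, 23, 25, 0, 28]]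
    [51] [1, 2, 0, 0, 2, 0, 0, 2, 0, 0] k3_5 = true := by decide +kernel

theorem rw3 : rowB (nat_lit 1782) (ivl (nat_lit 1728) ((nat_lit 1782) - (nat_lit 1728))) row3 [0, 1, 0, 1, 20, 32, 0, 0, 0] 0 = true := by decide +kernel

theorem cv4_2_0 : covB FF nets (nat_lit 1782) (nat_lit 11) (nat_lit 22) (nat_lit 1728) (nat_lit 156) (nat_lit 4) (nat_lit 2) [40, 41, 42, 43] [[11, 8, 4, 26, 22, 27, 0], [8, 22, 26, 22, 27], [4, 25, 26, 26, 24], [8, 4, 23, 25, 26, 22, 29]]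
    [39] [] k4_2 = true := by decide +kernel

theorem cv4_3_0 : covB FF nets (nat_lit 1782) (nat_lit 11) (nat_lit 22) (nat_lit 1728) (nat_lit 156) (nat_lit 4) (nat_lit 3) [40, 41, 42, 43] [[11, 8, 4, 26, 22, 27, 0], [8, 22, 26, 22, 27], [4, 25, 26, 26, 24], [8, 4, 23, 25, 26, 22, 29]]
    [45, 47] [] k4_3 = true := by decide +kernel

theorem cv4_4_0 : covB FF nets (nat_lit 1782) (nat_lit 11) (nat_lit 22) (nat_lit 1728) (nat_lit 156) (nat_lit 4) (nat_lit 4) [40, 41, 42, 43] [[11, 8, 4, 26, 22, 27, 0], [8, 22, 26, 22, 27], [4, 25, 26, 26, 24], [8, 4, 23, 25, 26, 22, 29]]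
    [44, 49, 50] [] k4_4 = true := by decide +kernel

theorem cv4_6_0 : covB FF nets (nat_lit 1782) (nat_lit 11) (nat_lit 22) (nat_lit 1728) (nat_lit 156) (nat_lit 4) (nat_lit 6) [40, 41, 42, 43] [[11, 8, 4, 26, 22, 27, 0], [8, 22, 26, 22, 27], [4, 25, 26, 26, 24], [8, 4, 23, 25, 26, 22, 29]]
    [56] [2, 3, 0, 3] k4_6 = true := by decide +kernel

theorem cv4_7_0 : covB FF nets (nat_lit 1782) (nat_lit 11) (nat_lit 22) (nat_lit 1728) (nat_lit 156) (nat_lit 4) (nat_lit 7) [40, 41, 42, 43] [[11, 8, 4, 26, 22, 27, 0], [8, 22, 26, 22, 27], [4, 25, 26, 26, 24], [8, 4, 23, 25, 26, 22, 29]]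
    [61] [2, 3, 0, 3] k4_7 = true := by decide +kernel

theorem cv4_8_0 : covB FF nets (nat_lit 1782) (nat_lit 11) (nat_lit 22) (nat_lit 1728) (nat_lit 156) (nat_lit 4) (nat_lit 8) [40, 41, 42, 43] [[11, 8, 4, 26, 22, 27, 0], [8, 22, 26, 22, 27], [4, 25, 26, 26, 24], [8, 4, 23, 25, 26, 22, 29]]
    [68, 118] [2, 1, 3, 1, 0, 1] k4_8 = true := by decide +kernel

theorem rw4 : rowB (nat_lit 1782) (ivl (nat_lit 1728) ((nat_lit 1782) - (nat_lit 1728))) row4 [0, 0, 1, 2, 3, 0, 8, 8, 32] 0 = true := by decide +kernel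

theorem cv5_3_0 : covB FF nets (nat_lit 1782) (nat_lit 11) (nat_lit 22) (nat_lit 1728) (nat_lit 156) (nat_lit 5) (nat_lit 3) [53, 54, 132] [[8, 26, 23, 27, 0], [8, 6, 25, 23, 27, 24, 28], [21, 15, 4, 24, 26, 26, 22, 24, 0]]
    [52] [2, 1, 1, 0, 0] k5_3 = true := by decide +kernel

theorem cv5_5_0 : covB FF nets (nat_lit 1782) (nat_lit 11) (nat_lit 22) (nat_lit 1728) (nat_lit 156) (nat_lit 5) (nat_lit 5) [53, 54, 132] [[8, 26, 23, 27, 0], [8, 6, 25, 23, 27, 24, 28], [21, 15, 4, 24, 26, 26, 22, 24, 0]]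
    [55] [2, 1, 1, 0, 0] k5_5 = true := by decide +kernel

theorem cv5_8_0 : covB FF nets (nat_lit 1782) (nat_lit 11) (nat_lit 22) (nat_lit 1728) (nat_lit 156) (nat_lit 5) (nat_lit 8) [53, 54, 132] [[8, 26, 23, 27, 0], [8, 6, 25, 23, 27, 24, 28], [21, 15, 4, 24, 26, 26, 22, 24, 0]]
    [74, 76, 139] [2, 1, 2, 0, 2, 0, 1, 0, 2] k5_8 = true := by decide +kernel

theorem rw5 : rowB (nat_lit 1782) (ivl (nat_lit 1728) ((nat_lit 1782) - (nat_lit 1728))) row5 [0, 0, 0, 6, 0, 6, 0, 0, 42] 0 = true := by decide +kernel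

theorem cv6_4_0 : covB FF nets (nat_lit 1782) (nat_lit 11) (nat_lit 22) (nat_lit 1728) (nat_lit 156) (nat_lit 6) (nat_lit 4) [58, 59, 60] [[10, 8, 25, 0, 28], [11, 6, 26, 22, 0, 28], [20, 9, 2, 23, 27, 24]]
    [57] [2, 2] k6_4 = true := by decide +kernel

theorem cv6_6_0 : covB FF nets (nat_lit 1782) (nat_lit 11) (nat_lit 22) (nat_lit 1728) (nat_lit 156) (nat_lit 6) (nat_lit 6) [58, 59, 60] [[10, 8, 25, 0, 28], [11, 6, 26, 22, 0, 28], [20, 9, 2, 23, 27, 24]]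
    [143] [0, 2, 1, 2, 0, 2] k6_6 = true := by decide +kernel

theorem cv6_7_0 : covB FF nets (nat_lit 1782) (nat_lit 11) (nat_lit 22) (nat_lit 1728) (nat_lit 156) (nat_lit 6) (nat_lit 7) [58, 59, 60] [[10, 8, 25, 0, 28], [11, 6, 26, 22, 0, 28], [20, 9, 2, 23, 27, 24]]
    [66] [2, 2] k6_7 = true := by decide +kernel

theorem cv6_8_0 : covB FF nets (nat_lit 1782) (nat_lit 11) (nat_lit 22) (nat_lit 1728) (nat_lit 156) (nat_lit 6) (nat_lit 8) [58, 59, 60] [[10, 8, 25, 0, 28], [11, 6, 26, 22, 0, 28], [20, 9, 2, 23, 27, 24]]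
    [148] [0, 2, 1, 2, 0, 2] k6_8 = true := by decide +kernel

theorem rw6 : rowB (nat_lit 1782) (ivl (nat_lit 1728) ((nat_lit 1782) - (nat_lit 1728))) row6 [0, 0, 0, 0, 3, 0, 24, 3, 24] 0 = true := by decide +kernel

theorem cv7_4_0 : covB FF nets (nat_lit 1782) (nat_lit 11) (nat_lit 22) (nat_lit 1728) (nat_lit 156) (nat_lit 7) (nat_lit 4) [63, 64, 67, 155] [[8, 24, 23, 27, 25], [9, 6, 24, 26, 22], [21, 10, 25, 23, 27], [21, 19, 17, 6, 24, 23, 25, 28]]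
    [62] [2, 3, 2, 1, 0, 2, 2, 2] k7_4 = true := by decide +kernel

theorem cv7_6_0 : covB FF nets (nat_lit 1782) (nat_lit 11) (nat_lit 22) (nat_lit 1728) (nat_lit 156) (nat_lit 7) (nat_lit 6) [63, 64, 67, 155] [[8, 24, 23, 27, 25], [9, 6, 24, 26, 22], [21, 10, 25, 23, 27], [21, 19, 17, 6, 24, 23, 25, 28]]
    [65] [2, 3, 2, 1, 0, 2, 2, 2] k7_6 = true := by decide +kernel

theorem rw7 : rowB (nat_lit 1782) (ivl (nat_lit 1728) ((nat_lit 1782) - (nat_lit 1728))) row7 [0, 0, 0, 0, 27, 0, 27, 0, 0] 0 = true := by decide +kernel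

theorem cv8_4_0 : covB FF nets (nat_lit 1782) (nat_lit 11) (nat_lit 22) (nat_lit 1728) (nat_lit 156) (nat_lit 8) (nat_lit 4) [70, 71, 138] [[8, 26, 23, 27, 0], [12, 4, 24, 26, 22, 26, 0, 28], [18, 20, 15, 22, 24, 27, 0]]
    [69, 153] [2, 0, 0, 1] k8_4 = true := by decide +kernel

theorem cv8_5_0 : covB FF nets (nat_lit 1782) (nat_lit 11) (nat_lit 22) (nat_lit 1728) (nat_lit 156) (nat_lit 8) (nat_lit 5) [70, 71, 138] [[8, 26, 23, 27, 0], [12, 4, 24, 26, 22, 26, 0, 28], [18, 20, 15, 22, 24, 27, 0]]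
    [73, 75, 134] [2, 0, 1] k8_5 = true := by decide +kernel

theorem cv8_6_0 : covB FF nets (nat_lit 1782) (nat_lit 11) (nat_lit 22) (nat_lit 1728) (nat_lit 156) (nat_lit 8) (nat_lit 6) [70, 71, 138] [[8, 26, 23, 27, 0], [12, 4, 24, 26, 22, 26, 0, 28], [18, 20, 15, 22, 24, 27, 0]]
    [144] [0, 2, 0, 1, 0, 0, 1] k8_6 = true := by decide +kernel

theorem cv8_8_0 : covB FF nets (nat_lit 1782) (nat_lit 11) (nat_lit 22) (nat_lit 1728) (nat_lit 156) (nat_lit 8) (nat_lit 8) [70, 71, 138] [[8, 26, 23, 27, 0], [12, 4, 24, 26, 22, 26, 0, 28], [18, 20, 15, 22, 24, 27, 0]]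
    [72, 149, 119, 120, 133] [2, 0, 0, 1] k8_8 = true := by decide +kernel

theorem rw8 : rowB (nat_lit 1782) (ivl (nat_lit 1728) ((nat_lit 1782) - (nat_lit 1728))) row8 [0, 0, 0, 0, 10, 7, 20, 0, 17] 0 = true := by decide +kernel

end Cfsg.Agent.Lib.SuzHD
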