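import Cfsg.Agent.Lib.DCE7
import Cfsg.Agent.Lib.SuzHDC0
import Cfsg.Agent.Lib.SuzHDE0
import Cfsg.Agent.Lib.SuzHDE1
import Cfsg.Agent.Lib.SuzHDE2

set_option autoImplicit false
set_option maxRecDepth 100000

namespace Cfsg.Agent.Lib.SuzHD
open Cfsg.Agent.Lib.PermNet Cfsg.Agent.Lib.DCE

open Cfsg.Agent.Lib.Words Cfsg.Agent.Lib.PermGroup

/-- Relators of the subgroup. -/
def K1 : List (List ℕ) := [[8, 8, 13], [10, 10, 13], [0, 0], [2, 2], [4, 4], [6, 6], [12, 12], [0, 2, 1, 3, 13], [4, 6, 5, 7, 13], [8, 10, 9, 11, 13], [0, 4, 1, 5], [2, 4, 3, 5], [0, 6, 1, 7], [2, 6, 3, 7], [0, 8, 1, 9], [2, 8, 3, 9], [0, 10, 1, 11], [2, 10, 3, 11], [4, 8, 5, 9], [6, 8, 7, 9], [4, 10, 5, 11], [6, 10, 7, 11], [0, 12, 1, 13], [2, 12, 3, 13], [4, 12, 5, 13], [6, 12, 7, 13], [8, 12, 9, 13], [10, 12, 11, 13], [14, 0, 15, 9, 7, 5], [14, 2, 15, 13, 5, 3], [14, 4, 15, 3], [14, 6, 15, 11, 7, 1, 3], [14, 8,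 15, 9, 11, 5], [14, 10, 15, 13, 9, 3], [14, 12, 15, 13], [16, 0, 17, 11, 7, 5], [16, 2, 17, 7, 3], [16, 4, 17, 9, 5, 3, 1], [16, 6, 17, 13, 3], [16, 8, 17, 11, 3], [16, 10, 17, 11, 9, 7], [16, 12, 17, 13], [18, 0, 19, 9, 7, 5, 1], [18, 2, 19, 5], [18, 4, 19, 13, 5, 3], [18, 6, 19, 11, 9, 3, 1], [18, 8, 19, 9, 11, 5], [18, 10, 19, 9, 5, 3], [18, 12, 19, 13], [20, 0, 21, 13, 7], [20, 2, 21, 11, 7, 5, 3], [20, 4, 21, 9, 1, 3], [20, 6, 21, 13, 7, 1], [20, 8, 21, 9, 11, 1], [20, 10, 21, 9, 7], [20, 12, 21, 13], [14, 14, 14], [16, 16, 16], [18, 18, 18], [20, 20, 20], [14, 16, 14, 17, 15, 17], [16, 18, 16, 19, 17, 19], [18, 20, 18, 21, 19, 21], [14, 18, 15, 19], [14, 20, 15, 21], [16, 20, 17, 0, 2, 8, 10, 21, 11, 9, 3, 1], [14, 4, 18, 21, 16, 18, 14, 16, 21, 14, 4, 18, 21, 16, 18, 14, 16, 21]]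

def I1 : List ℕ := [0, 1, 2, 3, 6]

/-- Further relations in the subgroup. -/
def X : List (List ℕ) := []

/-- Relators that involve the extra generator. -/
def RR : List (List ℕ) := [[15, 0, 21, 18, 17, 10, 18, 21, 15, 22, 14, 20, 19, 11, 16, 19, 20, 1, 14, 23], [18, 16, 19, 21, 18, 15, 17, 14, 10, 22, 11, 15, 16, 14, 19, 20, 18, 17, 19, 23], [4, 22, 1, 17, 18, 16, 15, 16, 19, 15, 16, 23], [17, 14, 18, 17, 14, 17, 19, 16, 0, 22, 5, 23], [12, 22, 1, 13, 23], [0, 22, 1, 23], [22, 22], [22, 2, 22, 2, 22, 2], [22, 16, 0, 19, 17, 22, 16, 0, 19, 17, 22, 16, 0, 19, 17, 22, 16, 0, 19, 17], [22, 2, 20, 17, 18, 17, 14, 17, 19, 14, 22, 15, 18, 16, 15, 16, 19, 16, 21, 3, 0, 2, 22, 2, 20, 17, 18, 17, 14, 17, 19, 14, 22, 15, 18, 16, 15, 16, 19, 16, 21, 3, 0, 2, 22, 2, 20, 17, 18, 17, 14, 17, 19, 14, 22, 15, 18, 16, 15, 16, 19, 16, 21, 3, 0, 2, 22, 2, 20, 17, 18, 17, 14, 17, 19, 14, 22, 15,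 18, 16, 15, 16, 19, 16, 21, 3, 0, 2]]

noncomputable def dat : Dat where
  N := (nat_lit 1782)
  K := (nat_lit 11)
  nS := (nat_lit 1728)
  KS := (nat_lit 11)
  wb := (nat_lit 11)
  mask := (nat_lit 2047)
  n0 := 11
  nl := (nat_lit 70)
  k0 := 15
  nK := (nat_lit 10)
  idT := idT
  T := 3317760
  TK := 61440
  nF := (nat_lit 156)
  n := 9
  s0 := 0
  tot := 135135
  nets := nets
  th := th
  tk := tk
  tk' := tk'
  F := FF
  TM := TM
  XW := XW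
  defs := defs
  R := RR
  cw := []
  rows := [row0, row1, row2, row3, row4, row5, row6, row7, row8]
  cs := [[0, 54, 0, 0, 0, 0, 0, 0, 0], [1, 1, 20, 32, 0, 0, 0, 0, 0], [0, 3, 3, 0, 48, 0, 0, 0, 0], [0, 1, 0, 1, 20, 32, 0, 0, 0], [0, 0, 1, 2, 3, 0, 8, 8, 32], [0, 0, 0, 6, 0, 6, 0, 0, 42], [0, 0, 0, 0, 3, 0, 24, 3, 24], [0, 0, 0, 0, 27, 0, 27, 0, 0], [0, 0, 0, 0, 10, 7, 20, 0, 17]]
  u := []
  v := []
  live := [(nat_lit 0), (nat_lit 1), (nat_lit 2), (nat_lit 3), (nat_lit 4), (nat_lit 5), (nat_lit 6), (nat_lit 7), (nat_lit 8)]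
  cols := [1, 2, 3, 4, 5, 6, 7, 8]
  sz := [1, 54, 360, 1728, 17280, 9216, 46080, 5120, 55296]
  par := [0, 0, 1, 1, 2, 3, 4, 4, 4]
  chH := chH
  chK := chK
  tc := [[([], 12)],
  [([], 12)],
  [([], 12)],
  [([2], 15)],
  [([], 17)],
  [([16, 0, 19, 17], 17)],
  [([15, 18, 16, 15, 16, 19, 16, 21, 3, 0, 2], 19)],
  [([22, 15, 18, 16, 15, 16, 19, 16, 21, 3, 0, 2], 19)]]

theorem hrels : ∀ w ∈ relW rels, wval nets.perm w = 1 :=
  relW_one (wval_eq_of_relsOn (K := 11) hv (by norm_num) rels0_0)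

theorem hK1 : ∀ w ∈ K1, wval nets.perm w = 1 := derive [] hrels _ (by decide +kernel)

theorem hX : ∀ w ∈ X, wval nets.perm w = 1 := derive [] hrels _ (by decide +kernel)

theorem hB : dat.B = BB := by decide +kernel

theorem facts : AllR (fun c => ∃ e, checkF (nat_lit 11) (nat_lit 2047) tH tK tK' BB FF TM XW c e = true) 0 (nat_lit 156) :=
  (allR_of_checkL d0 0 156 (by decide +kernel) fc0)

theorem tab : AllR (fun l => tabB nets (nat_lit 1782) (nat_lit 11) (nat_lit 1728) (nat_lit 11) (nat_lit 11) (nat_lit 2047) tH l = true)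
    0 (nat_lit 70) :=
  ((allR_of 0 35 35 (by decide) tab0).trans
    (allR_of 35 35 70 (by decide) tab35))

theorem cov0 : AllIdx (fun j m => Cov nets FF (nat_lit 1728) (nat_lit 156) (nat_lit 0) (getD 0 dat.live j) m) 0 row0 :=
  ⟨cov_zero,
    (cov_of_covB hv _ (by decide +kernel) _ _ _ _ cv0_1_0),
    cov_zero,
    cov_zero,
    cov_zero,
    cov_zero,
    cov_zero,
    cov_zero,
    cov_zero, trivial⟩

theorem cov1 : AllIdx (fun j m => Cov nets FF (nat_lit 1728) (nat_lit 156) (nat_lit 1) (getD 0 dat.live j) m) 0 row1 :=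
  ⟨(cov_of_covB hv _ (by decide +kernel) _ _ _ _ cv1_0_0),
    (cov_of_covB hv _ (by decide +kernel) _ _ _ _ cv1_1_0),
    (cov_of_covB hv _ (by decide +kernel) _ _ _ _ cv1_2_0),
    (cov_of_covB hv _ (by decide +kernel) _ _ _ _ cv1_3_0),
    cov_zero,
    cov_zero,
    cov_zero,
    cov_zero,
    cov_zero, trivial⟩

theorem cov2 : AllIdx (fun j m => Cov nets FF (nat_lit 1728) (nat_lit 156) (nat_lit 2) (getD 0 dat.live j) m) 0 row2 :=
  ⟨cov_zero,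
    (cov_of_covB hv _ (by decide +kernel) _ _ _ _ cv2_1_0),
    (cov_of_covB hv _ (by decide +kernel) _ _ _ _ cv2_2_0),
    cov_zero,
    (cov_of_covB hv _ (by decide +kernel) _ _ _ _ cv2_4_0),
    cov_zero,
    cov_zero,
    cov_zero,
    cov_zero, trivial⟩

theorem cov3 : AllIdx (fun j m => Cov nets FF (nat_lit 1728) (nat_lit 156) (nat_lit 3) (getD 0 dat.live j) m) 0 row3 :=
  ⟨cov_zero,
    (cov_of_covB hv _ (by decide +kernel) _ _ _ _ cv3_1_0),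
    cov_zero,
    (cov_of_covB hv _ (by decide +kernel) _ _ _ _ cv3_3_0),
    (cov_of_covB hv _ (by decide +kernel) _ _ _ _ cv3_4_0),
    (cov_of_covB hv _ (by decide +kernel) _ _ _ _ cv3_5_0),
    cov_zero,
    cov_zero,
    cov_zero, trivial⟩

theorem cov4 : AllIdx (fun j m => Cov nets FF (nat_lit 1728) (nat_lit 156) (nat_lit 4) (getD 0 dat.live j) m) 0 row4 :=
  ⟨cov_zero,
    cov_zero,
    (cov_of_covB hv _ (by decide +kernel) _ _ _ _ cv4_2_0),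
    (cov_of_covB hv _ (by decide +kernel) _ _ _ _ cv4_3_0),
    (cov_of_covB hv _ (by decide +kernel) _ _ _ _ cv4_4_0),
    cov_zero,
    (cov_of_covB hv _ (by decide +kernel) _ _ _ _ cv4_6_0),
    (cov_of_covB hv _ (by decide +kernel) _ _ _ _ cv4_7_0),
    (cov_of_covB hv _ (by decide +kernel) _ _ _ _ cv4_8_0), trivial⟩

theorem cov5 : AllIdx (fun j m => Cov nets FF (nat_lit 1728) (nat_lit 156) (nat_lit 5) (getD 0 dat.live j) m) 0 row5 :=
  ⟨cov_zero,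
    cov_zero,
    cov_zero,
    (cov_of_covB hv _ (by decide +kernel) _ _ _ _ cv5_3_0),
    cov_zero,
    (cov_of_covB hv _ (by decide +kernel) _ _ _ _ cv5_5_0),
    cov_zero,
    cov_zero,
    (cov_of_covB hv _ (by decide +kernel) _ _ _ _ cv5_8_0), trivial⟩

theorem cov6 : AllIdx (fun j m => Cov nets FF (nat_lit 1728) (nat_lit 156) (nat_lit 6) (getD 0 dat.live j) m) 0 row6 :=
  ⟨cov_zero,
    cov_zero,
    cov_zero,
    cov_zero,
    (cov_of_covB hv _ (by decide +kernel) _ _ _ _ cv6_4_0),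
    cov_zero,
    (cov_of_covB hv _ (by decide +kernel) _ _ _ _ cv6_6_0),
    (cov_of_covB hv _ (by decide +kernel) _ _ _ _ cv6_7_0),
    (cov_of_covB hv _ (by decide +kernel) _ _ _ _ cv6_8_0), trivial⟩

theorem cov7 : AllIdx (fun j m => Cov nets FF (nat_lit 1728) (nat_lit 156) (nat_lit 7) (getD 0 dat.live j) m) 0 row7 :=
  ⟨cov_zero,
    cov_zero,
    cov_zero,
    cov_zero,
    (cov_of_covB hv _ (by decide +kernel) _ _ _ _ cv7_4_0),
    cov_zero,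
    (cov_of_covB hv _ (by decide +kernel) _ _ _ _ cv7_6_0),
    cov_zero,
    cov_zero, trivial⟩

theorem cov8 : AllIdx (fun j m => Cov nets FF (nat_lit 1728) (nat_lit 156) (nat_lit 8) (getD 0 dat.live j) m) 0 row8 :=
  ⟨cov_zero,
    cov_zero,
    cov_zero,
    cov_zero,
    (cov_of_covB hv _ (by decide +kernel) _ _ _ _ cv8_4_0),
    (cov_of_covB hv _ (by decide +kernel) _ _ _ _ cv8_5_0),
    (cov_of_covB hv _ (by decide +kernel) _ _ _ _ cv8_6_0),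
    cov_zero,
    (cov_of_covB hv _ (by decide +kernel) _ _ _ _ cv8_8_0), trivial⟩

theorem ok : dat.OKI :=
  ⟨hv, by decide +kernel, derive [] hrels _ (by decide +kernel), tab, cH, cK, hB ▸ facts,
    ⟨rw0, rw1, rw2, rw3, rw4, rw5, rw6, rw7, rw8, trivial⟩,
    ⟨cov0, cov1, cov2, cov3, cov4, cov5, cov6, cov7, cov8, trivial⟩⟩

end Cfsg.Agent.Lib.SuzHD
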