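import Cfsg.Agent.Lib.DCE2
import Cfsg.Agent.Lib.TCSuzH1
import Cfsg.Agent.Lib.TCSuzH2
import Cfsg.Agent.Lib.TCSuzH3
import Cfsg.Agent.Lib.TCSuzH4
import Cfsg.Agent.Lib.TCSuzH5
import Cfsg.Agent.Lib.TCSuzH6

/-! Order bounds for `2 ^ (1 + 6)` and for the centraliser of a central involution. -/

set_option autoImplicit false
set_option maxRecDepth 100000

namespace Cfsg.Agent.Lib.SuzHTC

open Cfsg.Agent.Lib.PermNet Cfsg.Agent.Lib.Words Cfsg.Agent.Lib.PermGroup Cfsg.Agent.Lib.DCE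

def KP : List (List ℕ) := [[8, 8], [10, 10], [0, 0], [2, 2], [4, 4], [6, 6], [12, 12], [0, 2, 1, 3, 13], [4, 6, 5, 7, 13], [8, 10, 9, 11, 13], [0, 4, 1, 5], [2, 4, 3, 5], [0, 6, 1, 7], [2, 6, 3, 7], [0, 8, 1, 9], [2, 8, 3, 9], [0, 10, 1, 11], [2, 10, 3, 11], [4, 8, 5, 9], [6, 8, 7, 9], [4, 10, 5, 11], [6, 10, 7, 11], [0, 12, 1, 13], [2, 12, 3, 13], [4, 12, 5, 13], [6, 12, 7, 13], [8, 12, 9, 13], [10, 12, 11, 13]]

def KQ : List (List ℕ) := [[8, 8, 13], [10, 10, 13], [0, 0], [2, 2], [4, 4], [6, 6], [12, 12], [0, 2, 1, 3, 13], [4, 6, 5, 7, 13], [8, 10, 9, 11, 13], [0, 4, 1, 5], [2, 4, 3, 5], [0, 6, 1, 7], [2, 6, 3, 7], [0, 8, 1, 9], [2, 8, 3, 9], [0, 10, 1, 11], [2, 10, 3, 11], [4, 8, 5, 9], [6, 8, 7, 9], [4, 10, 5, 11], [6, 10, 7, 11], [0, 12, 1, 13], [2, 12, 3, 13], [4, 12, 5, 13], [6, 12, 7, 13], [8, 12, 9, 13], [10, 12, 11, 13]]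

def K1 : List (List ℕ) := [[8, 8, 13], [10, 10, 13], [0, 0], [2, 2], [4, 4], [6, 6], [12, 12], [0, 2, 1, 3, 13], [4, 6, 5, 7, 13], [8, 10, 9, 11, 13], [0, 4, 1, 5], [2, 4, 3, 5], [0, 6, 1, 7], [2, 6, 3, 7], [0, 8, 1, 9], [2, 8, 3, 9], [0, 10, 1, 11], [2, 10, 3, 11], [4, 8, 5, 9], [6, 8, 7, 9], [4, 10, 5, 11], [6, 10, 7, 11], [0, 12, 1, 13], [2, 12, 3, 13], [4, 12, 5, 13], [6, 12, 7, 13], [8, 12, 9, 13], [10, 12, 11, 13], [14, 0, 15, 9, 7, 5], [14, 2, 15, 13, 5, 3], [14, 4, 15, 3], [14, 6, 15, 11, 7, 1, 3], [14, 8, 15, 9, 11, 5], [14, 10, 15, 13, 9, 3], [14, 12, 15, 13], [16, 0, 17, 11, 7, 5], [16, 2, 17, 7, 3], [16, 4, 17, 9, 5, 3, 1], [16, 6, 17, 13, 3], [16, 8, 17, 11, 3], [16, 10, 17, 11, 9, 7], [16, 12, 17, 13], [18, 0, 19, 9, 7, 5, 1], [18, 2, 19, 5], [18, 4, 19, 13, 5, 3], [18, 6, 19, 11, 9, 3, 1], [18, 8, 19, 9, 11, 5], [18, 10, 19, 9, 5, 3], [18, 12, 19,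 13], [20, 0, 21, 13, 7], [20, 2, 21, 11, 7, 5, 3], [20, 4, 21, 9, 1, 3], [20, 6, 21, 13, 7, 1], [20, 8, 21, 9, 11, 1], [20, 10, 21, 9, 7], [20, 12, 21, 13], [14, 14, 14], [16, 16, 16], [18, 18, 18], [20, 20, 20], [14, 16, 14, 17, 15, 17], [16, 18, 16, 19, 17, 19], [18, 20, 18, 21, 19, 21], [14, 18, 15, 19], [14, 20, 15, 21], [16, 20, 17, 0, 2, 8, 10, 21, 11, 9, 3, 1], [14, 4, 18, 21, 16, 18, 14, 16, 21, 14, 4, 18, 21, 16, 18, 14, 16, 21]]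

theorem b1 {X : Type*} [Group X] (z : ℕ → X) (hz : ∀ w ∈ K1, wval z w = 1) :
    (gp z [[0], [2], [4], [6], [8], [10], [12], [14], [16], [18]]).relIndex (gp z [[0], [2], [4], [6], [8], [10], [12], [14], [16], [18], [20]]) ≠ 0 ∧
    (gp z [[0], [2], [4], [6], [8], [10], [12], [14], [16], [18]]).relIndex (gp z [[0], [2], [4], [6], [8], [10], [12], [14], [16], [18], [20]]) ≤ 40 :=
  tc_wrap [0, 1, 2, 3, 6] hz [[0], [2], [4], [6], [8], [9], [10], [11], [12], [14], [15], [16], [17], [18], [19], [20], [21]] TCSuzH1.bound _ _ (by decide +kernel)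

theorem b2 {X : Type*} [Group X] (z : ℕ → X) (hz : ∀ w ∈ K1, wval z w = 1) :
    (gp z [[0], [2], [4], [6], [8], [10], [12], [14], [16]]).relIndex (gp z [[0], [2], [4], [6], [8], [10], [12], [14], [16], [18]]) ≠ 0 ∧
    (gp z [[0], [2], [4], [6], [8], [10], [12], [14], [16]]).relIndex (gp z [[0], [2], [4], [6], [8], [10], [12], [14], [16], [18]]) ≤ 27 :=
  tc_wrap [0, 1, 2, 3, 6] hz [[0], [2], [4], [6], [8], [9], [10], [11], [12], [14], [15], [16], [17], [18], [19]] TCSuzH2.bound _ _ (by decide +kernel)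

theorem b3 {X : Type*} [Group X] (z : ℕ → X) (hz : ∀ w ∈ K1, wval z w = 1) :
    (gp z [[0], [2], [4], [6], [8], [10], [12], [14]]).relIndex (gp z [[0], [2], [4], [6], [8], [10], [12], [14], [16]]) ≠ 0 ∧
    (gp z [[0], [2], [4], [6], [8], [10], [12], [14]]).relIndex (gp z [[0], [2], [4], [6], [8], [10], [12], [14], [16]]) ≤ 8 :=
  tc_wrap [0, 1, 2, 3, 6] hz [[0], [2], [4], [6], [8], [9], [10], [11], [12], [14], [15], [16], [17]] TCSuzH3.bound _ _ (by decide +kernel)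

theorem b4 {X : Type*} [Group X] (z : ℕ → X) (hz : ∀ w ∈ K1, wval z w = 1) :
    (gp z [[0], [2], [4], [6], [8], [10], [12]]).relIndex (gp z [[0], [2], [4], [6], [8], [10], [12], [14]]) ≠ 0 ∧
    (gp z [[0], [2], [4], [6], [8], [10], [12]]).relIndex (gp z [[0], [2], [4], [6], [8], [10], [12], [14]]) ≤ 3 :=
  tc_wrap [0, 1, 2, 3, 6] hz [[0], [2], [4], [6], [8], [9], [10], [11], [12], [14], [15]] TCSuzH4.bound _ _ (by decide +kernel)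

theorem b5 {X : Type*} [Group X] (z : ℕ → X) (hz : ∀ w ∈ KQ, wval z w = 1) :
    (gp z []).relIndex (gp z [[0], [2], [4], [6], [8], [10], [12]]) ≠ 0 ∧
    (gp z []).relIndex (gp z [[0], [2], [4], [6], [8], [10], [12]]) ≤ 128 :=
  tc_wrap [0, 1, 2, 3, 6] hz [[0], [2], [4], [6], [8], [9], [10], [11], [12]] TCSuzH5.bound _ _ (by decide +kernel)

theorem b6 {X : Type*} [Group X] (z : ℕ → X) (hz : ∀ w ∈ KP, wval z w = 1) :
    (gp z []).relIndex (gp z [[0], [2], [4], [6], [8], [10], [12]]) ≠ 0 ∧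
    (gp z []).relIndex (gp z [[0], [2], [4], [6], [8], [10], [12]]) ≤ 128 :=
  tc_wrap [0, 1, 2, 3, 4, 5, 6] hz [[0], [2], [4], [6], [8], [10], [12]] TCSuzH6.bound _ _ (by decide +kernel)

theorem cardP {X : Type*} [Group X] (z : ℕ → X) (hz : ∀ w ∈ KP, wval z w = 1) :
    Nat.card (gp z (sing 7)) ≠ 0 ∧ Nat.card (gp z (sing 7)) ≤ 128 :=
  (card_le_of_relIndex (gp_mono (by decide)) (b6 z hz)
    (card_gp_nil z))

theorem cardQ {X : Type*} [Group X] (z : ℕ → X) (hz : ∀ w ∈ KQ, wval z w = 1) :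
    Nat.card (gp z (sing 7)) ≠ 0 ∧ Nat.card (gp z (sing 7)) ≤ 128 :=
  (card_le_of_relIndex (gp_mono (by decide)) (b5 z hz)
    (card_gp_nil z))

theorem card_le {X : Type*} [Group X] (z : ℕ → X) (hz : ∀ w ∈ K1, wval z w = 1) :
    Nat.card (gp z (sing 11)) ≠ 0 ∧ Nat.card (gp z (sing 11)) ≤ 3317760 :=
  (card_le_of_relIndex (gp_mono (by decide)) (b1 z hz)
    (card_le_of_relIndex (gp_mono (by decide)) (b2 z hz)
    (card_le_of_relIndex (gp_mono (by decide)) (b3 z hz)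
    (card_le_of_relIndex (gp_mono (by decide)) (b4 z hz)
    (cardQ z (derive [] hz _ (by decide +kernel)))))))

end Cfsg.Agent.Lib.SuzHTC
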