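import Cfsg.Agent.Lib.BT4
import Cfsg.Agent.Lib.SuzHD
import Cfsg.Agent.Lib.SuzHTC

/-! Three double coset enumerations that collapse. -/

set_option autoImplicit false
set_option maxRecDepth 100000

namespace Cfsg.Agent.Lib.SuzHC

open Cfsg.Agent.Lib.PermNet Cfsg.Agent.Lib.Words Cfsg.Agent.Lib.PermGroup Cfsg.Agent.Lib.DCE Cfsg.Agent.Lib.PermModel Cfsg.Agent.Lib.BT

open SuzHD

theorem hub {G : Type*} [Group G] (f : ℕ → G) (hK : ∀ w ∈ K1, wval f w = 1) :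
    Nat.card (WW f nets 11) ≠ 0 ∧ Nat.card (WW f nets 11) ≤ 3317760 :=
  SuzHTC.card_le _ (rels_pair hK hK1)

noncomputable def Fzb : FT := (.node (nat_lit 18) (.node (nat_lit 9) (.node (nat_lit 4) (.node (nat_lit 2) (.node (nat_lit 1) (.leaf ⟨0, 0, false, [0], []⟩)
  (.leaf ⟨0, 0, false, [2], []⟩))
  (.node (nat_lit 3) (.leaf ⟨0, 0, false, [4], []⟩)
  (.leaf ⟨0, 0, false, [6], []⟩)))
  (.node (nat_lit 6) (.node (nat_lit 5) (.leaf ⟨0, 0, false, [8], []⟩)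
  (.leaf ⟨0, 0, false, [10], []⟩))
  (.node (nat_lit 7) (.leaf ⟨0, 0, false, [12], []⟩)
  (.node (nat_lit 8) (.leaf ⟨0, 0, false, [14], []⟩)
  (.leaf ⟨0, 0, false, [16], []⟩)))))
  (.node (nat_lit 13) (.node (nat_lit 11) (.node (nat_lit 10) (.leaf ⟨0, 0, false, [18], []⟩)
  (.leaf ⟨0, 0, false, [20], []⟩))
  (.node (nat_lit 12) (.leaf ⟨0, 1, true, [], []⟩)
  (.leaf ⟨1, 0, true, [], []⟩)))
  (.node (nat_lit 15) (.node (nat_lit 14) (.leaf ⟨1, 1, false, [0], []⟩)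
  (.leaf ⟨1, 1, false, [4, 25, 26, 26, 24], []⟩))
  (.node (nat_lit 16) (.leaf ⟨1, 1, false, [12, 6, 22, 26, 26, 23], []⟩)
  (.node (nat_lit 17) (.leaf ⟨1, 1, false, [8, 26, 23, 27, 23], []⟩)
  (.leaf ⟨1, 1, false, [11, 23, 25, 22, 29], []⟩))))))
  (.node (nat_lit 27) (.node (nat_lit 22) (.node (nat_lit 20) (.node (nat_lit 19) (.leaf ⟨1, 1, false, [26, 23, 27], []⟩)
  (.leaf ⟨1, 1, false, [8, 6, 4, 24, 27, 23, 0, 28], []⟩))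
  (.node (nat_lit 21) (.leaf ⟨1, 1, true, [2], [2]⟩)
  (.leaf ⟨1, 2, true, [20, 16, 2], []⟩)))
  (.node (nat_lit 24) (.node (nat_lit 23) (.leaf ⟨2, 1, true, [], [2, 17, 21]⟩)
  (.leaf ⟨2, 2, false, [23], []⟩))
  (.node (nat_lit 25) (.leaf ⟨2, 2, false, [12, 0], []⟩)
  (.node (nat_lit 26) (.leaf ⟨2, 2, false, [8, 6, 26, 23, 25, 0, 28], []⟩)
  (.leaf ⟨2, 3, true, [20, 16, 2], []⟩)))))
  (.node (nat_lit 32) (.node (nat_lit 29) (.node (nat_lit 28) (.leaf ⟨3, 2, true, [], [2, 17, 21]⟩)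
  (.leaf ⟨3, 3, true, [2], [11, 4, 2, 23, 27, 23, 26]⟩))
  (.node (nat_lit 30) (.leaf ⟨3, 3, true, [18, 16], [21, 15, 16, 2, 27, 22, 24, 0, 28]⟩)
  (.node (nat_lit 31) (.leaf ⟨3, 3, false, [20, 15, 11, 26, 22, 27, 28], []⟩)
  (.leaf ⟨3, 2, false, [18, 11, 16, 4, 22, 25, 0, 28], []⟩))))
  (.node (nat_lit 34) (.node (nat_lit 33) (.leaf ⟨2, 2, true, [], [12, 23, 27, 23, 26]⟩)
  (.leaf ⟨2, 1, false, [20, 16, 10, 4, 23, 27, 23, 26], []⟩))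
  (.node (nat_lit 35) (.leaf ⟨1, 1, true, [], [4, 2, 26, 25, 26, 25]⟩)
  (.node (nat_lit 36) (.leaf ⟨1, 0, false, [0, 2, 25, 26, 26, 24], []⟩)
  (.leaf ⟨0, 0, true, [], [0, 2, 25, 26, 26, 24]⟩)))))))

def TMzb : List Tm := [⟨true, [], [(true, [])]⟩, ⟨false, [], [(false, []), (true, [])]⟩, ⟨true, [], [(false, [])]⟩, ⟨true, [3], [(false, [3]), (true, [3])]⟩, ⟨true, [15, 18, 16, 15, 16, 19, 16, 21, 3], [(false, [2, 20, 17, 18, 17, 14, 17, 19, 14]), (true, [15, 18, 16, 15, 16, 19, 16, 21, 3]), (true, [2, 20, 17, 18, 17, 14, 17, 19, 14]), (true, [15, 18, 16, 15, 16, 19, 16, 21, 3]), (true, [2, 20, 17, 18, 17, 14, 17, 19, 14])]⟩, ⟨false, [15, 18, 16, 15, 16, 19, 16, 21, 3], [(false, [2, 20, 17, 18, 17, 14, 17, 19, 14]), (true, [15, 18, 16, 15, 16, 19, 16, 21, 3]), (true, [2, 20, 17, 18, 17, 14, 17, 19,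 14]), (true, [15, 18, 16, 15, 16, 19, 16, 21, 3]), (true, [2, 20, 17, 18, 17, 14, 17, 19, 14]), (true, [])]⟩]

def XWzb : List (List (List ℕ)) := [[], [[]], [[], [20, 16, 2]], [[], [20, 16, 2], [20, 16, 2]]]

def dzb : List Der := [.base,
  .base,
  .base,
  .base,
  .base,
  .base,
  .base,
  .base,
  .base,
  .base,
  .base,
  .dfn,
  .tm 2 [] [] [⟨11, [], []⟩],
  .tm 1 [] [] [⟨11, [], [0]⟩, ⟨11, [11], []⟩],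
  .tm 1 [] [] [⟨11, [], [4]⟩, ⟨11, [13, 1], []⟩],
  .tm 1 [] [] [⟨11, [], [6]⟩, ⟨11, [11, 15, 13, 1, 1, 7], []⟩],
  .tm 1 [] [] [⟨11, [], [8]⟩, ⟨11, [13, 13, 17, 13, 1, 3, 0], []⟩],
  .tm 1 [] [] [⟨11, [], [10]⟩, ⟨11, [13, 13, 0, 5, 0, 0], []⟩],
  .tm 1 [] [] [⟨11, [], [14, 18]⟩, ⟨11, [17, 13, 13, 17], []⟩],
  .tm 1 [] [] [⟨11, [], [14, 20, 18, 17]⟩, ⟨11, [15, 13, 14, 0, 9], []⟩],
  .tm 3 [] [] [⟨11, [], [2]⟩, ⟨11, [], []⟩],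
  .dfn,
  .tm 2 [] [] [⟨21, [], []⟩],
  .tm 1 [] [] [⟨21, [], [33, 36]⟩, ⟨21, [16, 14, 14, 16], []⟩],
  .tm 1 [] [] [⟨21, [], [32, 32, 26]⟩, ⟨21, [9], []⟩],
  .tm 1 [] [] [⟨21, [], [38, 30]⟩, ⟨21, [14, 12, 12, 14, 17, 0, 7], []⟩],
  .dfn,
  .tm 2 [] [] [⟨26, [], []⟩],
  .tm 3 [] [] [⟨26, [], [48]⟩, ⟨26, [4, 1, 1, 6, 1, 13, 15, 13], []⟩],
  .tm 4 [4, 1, 1, 4, 1, 16, 14, 14, 16, 12, 19] [] [⟨26, [6, 1, 6, 4, 3, 0, 6, 4], []⟩, ⟨22, [4, 1, 1, 6, 1, 14, 14, 19], []⟩, ⟨20, [1, 6, 1, 17, 13, 15], [28]⟩, ⟨21, [4, 1, 1, 4, 1, 12, 14, 19], []⟩, ⟨26, [1, 4, 1, 17, 14, 14, 12, 10], []⟩],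
  .tm 5 [] [] [⟨26, [1, 6, 4, 0, 6, 0, 0, 6, 4], []⟩, ⟨22, [8, 3, 12, 16, 12, 16, 10], []⟩, ⟨12, [4, 0, 0, 10], [17, 15, 2]⟩, ⟨11, [4, 1, 1, 4, 1, 17, 14, 14, 12], [35]⟩, ⟨21, [0, 0, 3, 14, 16, 15, 13, 10], [46, 50, 50, 48]⟩, ⟨26, [3, 0, 17, 14, 14, 16, 12, 12, 10], []⟩],
  .tm 1 [] [] [⟨28, [], [60, 60]⟩, ⟨27, [1, 1, 4, 1, 12, 12], []⟩],
  .tm 0 [8, 0, 3, 15, 17, 12, 14, 16, 14, 12] [63] [⟨29, [], [62]⟩],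
  .tm 1 [] [] [⟨32, [], []⟩, ⟨22, [], []⟩],
  .tm 0 [8, 17, 18] [67, 63] [⟨27, [], [66]⟩],
  .tm 1 [] [] [⟨34, [], []⟩, ⟨12, [], []⟩],
  .tm 0 [] [] [⟨11, [], [70]⟩]]

def Rzb : List (List ℕ) := [[15, 0, 21, 18, 17, 10, 18, 21, 15, 22, 14, 20, 19, 11, 16, 19, 20, 1, 14, 23], [18, 16, 19, 21, 18, 15, 17, 14, 10, 22, 11, 15, 16, 14, 19, 20, 18, 17, 19, 23], [4, 22, 1, 17, 18, 16, 15, 16, 19, 15, 16, 23], [17, 14, 18, 17, 14, 17, 19, 16, 0, 22, 5, 23], [12, 22, 1, 13, 23], [0, 22, 1, 23], [22, 22], [22, 2, 22, 2, 22, 2], [22, 2, 20, 17, 18, 17, 14, 17, 19, 14, 22, 15, 18, 16, 15, 16, 19, 16, 21, 3, 22, 2, 20, 17, 18, 17, 14, 17, 19, 14, 22, 15, 18, 16, 15, 16, 19, 16, 21, 3, 22, 2, 20, 17, 18, 17, 14, 17, 19, 14, 22, 15, 18, 16, 15, 16, 19, 16, 21, 3]]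

theorem czb : checkL (nat_lit 11) (nat_lit 2047) tH tK tK' BB Fzb TMzb XWzb dzb (nat_lit 0) = true := by
  decide +kernel

theorem colzb {G : Type*} [Group G] (f : ℕ → G) (hK : ∀ w ∈ K1, wval f w = 1)
    (hR : ∀ w ∈ Rzb, wval f w = 1) : f 11 ∈ gp f (sing 11) :=
  collapse ok f hR (hub f hK) [[([], 12)],
  [([], 12)],
  [([], 12)],
  [([2], 15)],
  [([15, 18, 16, 15, 16, 19, 16, 21, 3, 23], 16)],
  [([23, 15, 18, 16, 15, 16, 19, 16, 21, 3, 23], 16)]] 36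
    (hB ▸ allR_of_checkL dzb 0 37 (by decide +kernel) czb) (by decide +kernel)

noncomputable def Fzc : FT := (.node (nat_lit 17) (.node (nat_lit 8) (.node (nat_lit 4) (.node (nat_lit 2) (.node (nat_lit 1) (.leaf ⟨0, 0, false, [0], []⟩)
  (.leaf ⟨0, 0, false, [2], []⟩))
  (.node (nat_lit 3) (.leaf ⟨0, 0, false, [4], []⟩)
  (.leaf ⟨0, 0, false, [6], []⟩)))
  (.node (nat_lit 6) (.node (nat_lit 5) (.leaf ⟨0, 0, false, [8], []⟩)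
  (.leaf ⟨0, 0, false, [10], []⟩))
  (.node (nat_lit 7) (.leaf ⟨0, 0, false, [12], []⟩)
  (.leaf ⟨0, 0, false, [14], []⟩))))
  (.node (nat_lit 12) (.node (nat_lit 10) (.node (nat_lit 9) (.leaf ⟨0, 0, false, [16], []⟩)
  (.leaf ⟨0, 0, false, [18], []⟩))
  (.node (nat_lit 11) (.leaf ⟨0, 0, false, [20], []⟩)
  (.leaf ⟨0, 1, true, [], []⟩)))
  (.node (nat_lit 14) (.node (nat_lit 13) (.leaf ⟨1, 0, true, [], []⟩)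
  (.leaf ⟨1, 1, false, [0], []⟩))
  (.node (nat_lit 15) (.leaf ⟨1, 1, false, [12, 6, 22, 26, 26, 23], []⟩)
  (.node (nat_lit 16) (.leaf ⟨1, 1, false, [8, 26, 23, 27, 23], []⟩)
  (.leaf ⟨1, 1, false, [26, 23, 27], []⟩))))))
  (.node (nat_lit 26) (.node (nat_lit 21) (.node (nat_lit 19) (.node (nat_lit 18) (.leaf ⟨1, 1, false, [8, 6, 4, 24, 27, 23, 0, 28], []⟩)
  (.leaf ⟨1, 2, true, [20, 16, 2], []⟩))
  (.node (nat_lit 20) (.leaf ⟨2, 1, true, [], [2, 17, 21]⟩)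
  (.leaf ⟨2, 2, false, [23], []⟩)))
  (.node (nat_lit 23) (.node (nat_lit 22) (.leaf ⟨2, 2, false, [12, 0], []⟩)
  (.leaf ⟨2, 2, false, [8, 6, 26, 23, 25, 0, 28], []⟩))
  (.node (nat_lit 24) (.leaf ⟨2, 2, true, [2], [10, 4, 2, 27, 22, 26, 22]⟩)
  (.node (nat_lit 25) (.leaf ⟨2, 3, true, [20, 16, 2], []⟩)
  (.leaf ⟨3, 2, true, [], [2, 17, 21]⟩)))))
  (.node (nat_lit 30) (.node (nat_lit 28) (.node (nat_lit 27) (.leaf ⟨3, 3, true, [2], [11, 4, 2, 23, 27, 23, 26]⟩)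
  (.leaf ⟨3, 3, false, [20, 10, 15, 4, 26, 22, 27, 28], []⟩))
  (.node (nat_lit 29) (.leaf ⟨3, 2, false, [18, 9, 16, 4, 22, 25, 28], []⟩)
  (.leaf ⟨2, 2, false, [4, 20, 16, 26, 22, 26, 25, 29], []⟩)))
  (.node (nat_lit 32) (.node (nat_lit 31) (.leaf ⟨2, 2, true, [20, 16], [20, 14, 16, 4, 26, 26, 22, 25, 22, 29]⟩)
  (.leaf ⟨2, 1, false, [11, 2, 25, 22, 26, 0], []⟩))
  (.node (nat_lit 33) (.leaf ⟨1, 1, true, [], [25, 26, 26, 24]⟩)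
  (.node (nat_lit 34) (.leaf ⟨1, 0, false, [25, 26, 26, 24], []⟩)
  (.leaf ⟨0, 0, true, [], [25, 26, 26, 24]⟩)))))))

def TMzc : List Tm := [⟨true, [], [(true, [])]⟩, ⟨false, [], [(false, []), (true, [])]⟩, ⟨true, [], [(false, [])]⟩, ⟨true, [3], [(false, [3]), (true, [3])]⟩, ⟨false, [15, 18, 16, 15, 16, 19, 16, 21, 3], [(false, [20, 17, 18, 17, 14, 17, 19, 14]), (true, [15, 18, 16, 15, 16, 19, 16, 21, 3]), (true, [20, 17, 18, 17, 14, 17, 19, 14]), (true, [15, 18, 16, 15, 16, 19, 16, 21, 3]), (true, [20, 17, 18, 17, 14, 17, 19, 14]), (true, [])]⟩]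

def XWzc : List (List (List ℕ)) := [[], [[]], [[], [20, 16, 2]], [[], [20, 16, 2], [20, 16, 2]]]

def dzc : List Der := [.base,
  .base,
  .base,
  .base,
  .base,
  .base,
  .base,
  .base,
  .base,
  .base,
  .base,
  .dfn,
  .tm 2 [] [] [⟨11, [], []⟩],
  .tm 1 [] [] [⟨11, [], [0]⟩, ⟨11, [11], []⟩],
  .tm 1 [] [] [⟨11, [], [6]⟩, ⟨11, [11, 15, 13, 1, 1, 7], []⟩],
  .tm 1 [] [] [⟨11, [], [8]⟩, ⟨11, [13, 13, 17, 13, 1, 3, 0], []⟩],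
  .tm 1 [] [] [⟨11, [], [14, 18]⟩, ⟨11, [17, 13, 13, 17], []⟩],
  .tm 1 [] [] [⟨11, [], [14, 20, 18, 17]⟩, ⟨11, [15, 13, 14, 0, 9], []⟩],
  .dfn,
  .tm 2 [] [] [⟨18, [], []⟩],
  .tm 1 [] [] [⟨18, [], [31, 32]⟩, ⟨18, [16, 14, 14, 16], []⟩],
  .tm 1 [] [] [⟨18, [], [30, 30, 26]⟩, ⟨18, [9], []⟩],
  .tm 1 [] [] [⟨18, [], [34, 28]⟩, ⟨18, [14, 12, 12, 14, 17, 0, 7], []⟩],
  .tm 3 [] [] [⟨18, [], [26]⟩, ⟨18, [4, 1, 1, 4, 1, 12, 12, 10], []⟩],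
  .dfn,
  .tm 2 [] [] [⟨24, [], []⟩],
  .tm 3 [] [] [⟨24, [], [42]⟩, ⟨24, [4, 1, 1, 6, 1, 13, 15, 13], []⟩],
  .tm 4 [] [] [⟨24, [6, 1, 6, 4, 3, 0, 6, 4], []⟩, ⟨19, [4, 1, 1, 6, 1, 14, 14, 10, 19], []⟩, ⟨12, [1, 4, 1, 17, 13, 13, 10], [17, 15]⟩, ⟨11, [4, 1, 1, 6, 1, 17, 12, 14, 16, 14, 12, 19], [31, 28]⟩, ⟨18, [6, 0, 0, 14, 14, 16, 12, 14], [40, 44, 44, 42]⟩, ⟨24, [6, 0, 0, 16, 19], []⟩],
  .tm 1 [] [] [⟨26, [], [54, 54]⟩, ⟨25, [1, 1, 6, 1, 14, 16, 15, 18], []⟩],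
  .walk [57, 54, 56],
  .tm 0 [4, 1, 1, 6, 1, 14, 16, 13, 18] [57] [⟨25, [], []⟩],
  .tm 1 [] [] [⟨30, [], [58]⟩, ⟨19, [1, 6, 1, 14, 12, 16, 14], []⟩],
  .tm 0 [1, 1, 4, 1, 16] [63] [⟨23, [], [62]⟩],
  .tm 1 [] [] [⟨32, [], []⟩, ⟨12, [], []⟩],
  .tm 0 [] [] [⟨11, [], [66]⟩]]

def Rzc : List (List ℕ) := [[15, 0, 21, 18, 17, 10, 18, 21, 15, 22, 14, 20, 19, 11, 16, 19, 20, 1, 14, 23], [18, 16, 19, 21, 18, 15, 17, 14, 10, 22, 11, 15, 16, 14, 19, 20, 18, 17, 19, 23], [4, 22, 1, 17, 18, 16, 15, 16, 19, 15, 16, 23], [17, 14, 18, 17, 14, 17, 19, 16, 0, 22, 5, 23], [12, 22, 1, 13, 23], [0, 22, 1, 23], [22, 22], [22, 2, 22, 2, 22, 2], [22, 2, 20, 17, 18, 17, 14, 17, 19, 14, 22, 15, 18, 16, 15, 16, 19, 16, 21, 3, 2, 22, 2, 20, 17, 18, 17, 14, 17, 19, 14, 22, 15, 18, 16, 15, 16, 19, 16, 21, 3, 2, 22, 2, 20, 17,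 18, 17, 14, 17, 19, 14, 22, 15, 18, 16, 15, 16, 19, 16, 21, 3, 2]]

theorem czc : checkL (nat_lit 11) (nat_lit 2047) tH tK tK' BB Fzc TMzc XWzc dzc (nat_lit 0) = true := by
  decide +kernel

theorem colzc {G : Type*} [Group G] (f : ℕ → G) (hK : ∀ w ∈ K1, wval f w = 1)
    (hR : ∀ w ∈ Rzc, wval f w = 1) : f 11 ∈ gp f (sing 11) :=
  collapse ok f hR (hub f hK) [[([], 12)],
  [([], 12)],
  [([], 12)],
  [([2], 15)],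
  [([22, 15, 18, 16, 15, 16, 19, 16, 21, 3, 2], 17)]] 34
    (hB ▸ allR_of_checkL dzc 0 35 (by decide +kernel) czc) (by decide +kernel)

noncomputable def Fzd : FT := (.node (nat_lit 19) (.node (nat_lit 9) (.node (nat_lit 4) (.node (nat_lit 2) (.node (nat_lit 1) (.leaf ⟨0, 0, false, [0], []⟩)
  (.leaf ⟨0, 0, false, [2], []⟩))
  (.node (nat_lit 3) (.leaf ⟨0, 0, false, [4], []⟩)
  (.leaf ⟨0, 0, false, [6], []⟩)))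
  (.node (nat_lit 6) (.node (nat_lit 5) (.leaf ⟨0, 0, false, [8], []⟩)
  (.leaf ⟨0, 0, false, [10], []⟩))
  (.node (nat_lit 7) (.leaf ⟨0, 0, false, [12], []⟩)
  (.node (nat_lit 8) (.leaf ⟨0, 0, false, [14], []⟩)
  (.leaf ⟨0, 0, false, [16], []⟩)))))
  (.node (nat_lit 14) (.node (nat_lit 11) (.node (nat_lit 10) (.leaf ⟨0, 0, false, [18], []⟩)
  (.leaf ⟨0, 0, false, [20], []⟩))
  (.node (nat_lit 12) (.leaf ⟨0, 1, true, [], []⟩)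
  (.node (nat_lit 13) (.leaf ⟨1, 0, true, [], []⟩)
  (.leaf ⟨1, 1, false, [0], []⟩))))
  (.node (nat_lit 16) (.node (nat_lit 15) (.leaf ⟨1, 1, false, [12, 6, 22, 26, 26, 23], []⟩)
  (.leaf ⟨1, 1, false, [8, 26, 23, 27, 23], []⟩))
  (.node (nat_lit 17) (.leaf ⟨1, 1, false, [26, 23, 27], []⟩)
  (.node (nat_lit 18) (.leaf ⟨1, 1, false, [8, 6, 4, 24, 27, 23, 0, 28], []⟩)
  (.leaf ⟨1, 2, true, [14, 17, 15], []⟩))))))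
  (.node (nat_lit 28) (.node (nat_lit 23) (.node (nat_lit 21) (.node (nat_lit 20) (.leaf ⟨2, 1, true, [], [14, 16, 15]⟩)
  (.leaf ⟨2, 2, false, [10, 8, 23, 27, 22, 0, 28], []⟩))
  (.node (nat_lit 22) (.leaf ⟨2, 2, true, [2], [20, 2, 21, 24, 26, 22, 26, 25]⟩)
  (.leaf ⟨2, 2, false, [20, 15, 16, 9, 26, 24, 27, 24, 28], []⟩)))
  (.node (nat_lit 25) (.node (nat_lit 24) (.leaf ⟨1, 3, true, [20, 16, 2], []⟩)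
  (.leaf ⟨3, 3, false, [23], []⟩))
  (.node (nat_lit 26) (.leaf ⟨3, 3, false, [8, 6, 26, 23, 25, 0, 28], []⟩)
  (.node (nat_lit 27) (.leaf ⟨2, 4, true, [20, 16, 2], []⟩)
  (.leaf ⟨4, 2, true, [], [2, 17, 21]⟩)))))
  (.node (nat_lit 33) (.node (nat_lit 30) (.node (nat_lit 29) (.leaf ⟨4, 3, true, [17, 19, 20], [18, 11, 25, 23, 26, 25, 22]⟩)
  (.leaf ⟨3, 4, true, [14, 16, 15], [19, 17, 15, 2, 22, 26, 25]⟩))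
  (.node (nat_lit 31) (.leaf ⟨4, 3, true, [20, 15, 16], [18, 11, 24, 22, 25, 23, 0, 28]⟩)
  (.node (nat_lit 32) (.leaf ⟨3, 4, true, [16], [10, 16, 25, 23, 27, 0]⟩)
  (.leaf ⟨2, 2, false, [20, 15, 8, 16, 2, 22, 25, 0], []⟩))))
  (.node (nat_lit 35) (.node (nat_lit 34) (.leaf ⟨2, 1, false, [16, 18, 21, 15, 25, 26, 22], []⟩)
  (.leaf ⟨1, 1, false, [14, 16, 15, 2, 0], []⟩))
  (.node (nat_lit 36) (.leaf ⟨1, 1, true, [20, 15, 16], [19, 6, 4, 25, 23, 27, 22, 0, 28]⟩)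
  (.node (nat_lit 37) (.leaf ⟨1, 0, false, [14, 17, 15, 9, 26, 23, 27, 22, 0], []⟩)
  (.leaf ⟨0, 0, true, [], [14, 17, 15, 9, 26, 23, 27, 22, 0]⟩)))))))

def TMzd : List Tm := [⟨true, [], [(true, [])]⟩, ⟨false, [], [(false, []), (true, [])]⟩, ⟨true, [], [(false, [])]⟩, ⟨true, [3], [(false, [3]), (true, [3])]⟩, ⟨false, [16, 18, 1, 17], [(false, [16, 18, 1, 17]), (false, [1, 17, 18, 16, 15, 16, 19, 15, 16, 5, 1, 16, 18, 1, 17]), (true, [16, 18, 1, 17]), (true, [])]⟩, ⟨true, [16, 18, 1, 17], [(false, [16, 18, 1, 17]), (false, [1, 17, 18, 16, 15, 16, 19, 15, 16, 5, 1, 16, 18, 1, 17]), (true, [16, 18, 1, 17])]⟩, ⟨false, [16, 18, 1, 17], [(false, [16, 18, 1, 17]), (false, [16, 18, 1, 17]), (false, [1, 17, 18, 16, 15, 16, 19, 15, 16, 5, 1, 16, 18, 1, 17]), (true, [])]⟩]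

def XWzd : List (List (List ℕ)) := [[], [[]], [[], [14, 17, 15]], [[], [20, 16, 2]], [[], [14, 17, 15], [20, 16, 2]]]

def dzd : List Der := [.base,
  .base,
  .base,
  .base,
  .base,
  .base,
  .base,
  .base,
  .base,
  .base,
  .base,
  .dfn,
  .tm 2 [] [] [⟨11, [], []⟩],
  .tm 1 [] [] [⟨11, [], [0]⟩, ⟨11, [11], []⟩],
  .tm 1 [] [] [⟨11, [], [6]⟩, ⟨11, [11, 15, 13, 1, 1, 7], []⟩],
  .tm 1 [] [] [⟨11, [], [8]⟩, ⟨11, [13, 13, 17, 13, 1, 3, 0], []⟩],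
  .tm 1 [] [] [⟨11, [], [14, 18]⟩, ⟨11, [17, 13, 13, 17], []⟩],
  .tm 1 [] [] [⟨11, [], [14, 20, 18, 17]⟩, ⟨11, [15, 13, 14, 0, 9], []⟩],
  .dfn,
  .tm 2 [] [] [⟨18, [], []⟩],
  .tm 1 [] [] [⟨18, [], [30]⟩, ⟨18, [19, 16, 12, 12, 16, 12, 3, 9], []⟩],
  .tm 3 [] [] [⟨18, [], [34, 33, 34, 28]⟩, ⟨18, [1, 6, 1, 17, 14, 13, 13, 10, 18], []⟩],
  .tm 4 [] [] [⟨18, [1, 2, 0, 12, 14, 16, 14, 14, 19], [35]⟩, ⟨11, [4, 3, 0], [17, 2]⟩, ⟨11, [4, 1, 1, 4, 1, 16, 14, 14, 16, 12, 12], [34]⟩, ⟨18, [1, 17, 12, 14, 16, 12, 12, 10], []⟩],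
  .dfn,
  .tm 1 [] [] [⟨23, [], [31, 32]⟩, ⟨23, [16, 14, 14, 16], []⟩],
  .tm 1 [] [] [⟨23, [], [34, 28]⟩, ⟨23, [14, 12, 12, 14, 17, 0, 7], []⟩],
  .dfn,
  .tm 2 [] [] [⟨26, [], []⟩],
  .tm 5 [8, 0, 14, 13, 17, 14, 12] [] [⟨26, [3, 0, 14, 13, 15, 12, 18], [40, 44]⟩, ⟨18, [6, 4, 0], [31]⟩, ⟨23, [3, 15, 17, 12, 12, 18], []⟩],
  .tm 2 [4, 1, 1, 6, 1, 13, 15, 15, 13, 10] [] [⟨28, [], []⟩],
  .tm 5 [8, 0, 3, 16, 12, 16, 10, 18] [] [⟨29, [8, 16, 14, 14, 16, 14, 14, 19], [51, 49]⟩, ⟨23, [6, 4, 3, 0], [28, 26]⟩, ⟨23, [8, 0, 0, 16, 14, 14, 12, 10, 18], []⟩],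
  .tm 2 [2, 15, 17, 12, 14, 16, 14, 12] [] [⟨30, [], []⟩],
  .tm 6 [] [] [⟨27, [1, 6, 1, 12, 16, 12, 14, 10], []⟩, ⟨31, [2, 17, 14, 14, 16, 10], [49, 51]⟩, ⟨23, [1, 6, 4, 0], [34, 33, 34, 28]⟩, ⟨18, [0, 0, 3, 12, 14, 16, 14, 19], []⟩],
  .tm 1 [] [] [⟨21, [], [64, 45]⟩, ⟨19, [3, 0, 13, 13, 17, 15, 18], []⟩],
  .walk [67, 44, 66],
  .tm 0 [4, 0, 0, 14, 16, 14, 12, 16, 12, 12, 18] [67] [⟨19, [], []⟩],
  .tm 1 [] [] [⟨35, [], [34, 33, 34, 68]⟩, ⟨12, [6, 0, 3, 12, 16, 14, 14, 16], []⟩],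
  .tm 0 [] [] [⟨11, [], [72]⟩]]

def Rzd : List (List ℕ) := [[15, 0, 21, 18, 17, 10, 18, 21, 15, 22, 14, 20, 19, 11, 16, 19, 20, 1, 14, 23], [18, 16, 19, 21, 18, 15, 17, 14, 10, 22, 11, 15, 16, 14, 19, 20, 18, 17, 19, 23], [4, 22, 1, 17, 18, 16, 15, 16, 19, 15, 16, 23], [17, 14, 18, 17, 14, 17, 19, 16, 0, 22, 5, 23], [12, 22, 1, 13, 23], [0, 22, 1, 23], [22, 22], [22, 2, 22, 2, 22, 2], [22, 16, 0, 19, 17, 22, 16, 0, 19, 17, 22, 16, 0, 19, 17, 22, 16, 0, 19, 17, 0, 4, 17, 14, 18, 17, 14, 17, 19, 16, 0]]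

theorem czd : checkL (nat_lit 11) (nat_lit 2047) tH tK tK' BB Fzd TMzd XWzd dzd (nat_lit 0) = true := by
  decide +kernel

theorem colzd {G : Type*} [Group G] (f : ℕ → G) (hK : ∀ w ∈ K1, wval f w = 1)
    (hR : ∀ w ∈ Rzd, wval f w = 1) : f 11 ∈ gp f (sing 11) :=
  collapse ok f hR (hub f hK) [[([], 12)],
  [([], 12)],
  [([], 12)],
  [([2], 15)],
  [([22, 16, 0, 19, 17, 22, 16, 0, 19, 17, 0, 4, 17, 14, 18, 17, 14, 17, 19, 16, 0], 17)],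
  [([16, 0, 19, 17, 22, 16, 0, 19, 17, 0, 4, 17, 14, 18, 17, 14, 17, 19, 16, 0], 17)],
  [([22, 16, 0, 19, 17, 0, 4, 17, 14, 18, 17, 14, 17, 19, 16, 0], 17)]] 37
    (hB ▸ allR_of_checkL dzd 0 38 (by decide +kernel) czd) (by decide +kernel)



end Cfsg.Agent.Lib.SuzHC
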