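import Cfsg.Agent.Lib.DCEDefs

set_option autoImplicit false
set_option maxRecDepth 100000

namespace Cfsg.Agent.Lib.SuzHD
open Cfsg.Agent.Lib.PermNet Cfsg.Agent.Lib.DCE

noncomputable def f0 : FT := (.node (nat_lit 16) (.node (nat_lit 8) (.node (nat_lit 4) (.node (nat_lit 2) (.node (nat_lit 1) (.leaf ⟨0, 0, false, [0], []⟩)
  (.leaf ⟨0, 0, false, [2], []⟩))
  (.node (nat_lit 3) (.leaf ⟨0, 0, false, [4], []⟩)
  (.leaf ⟨0, 0, false, [6], []⟩)))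
  (.node (nat_lit 6) (.node (nat_lit 5) (.leaf ⟨0, 0, false, [8], []⟩)
  (.leaf ⟨0, 0, false, [10], []⟩))
  (.node (nat_lit 7) (.leaf ⟨0, 0, false, [12], []⟩)
  (.leaf ⟨0, 0, false, [14], []⟩))))
  (.node (nat_lit 12) (.node (nat_lit 10) (.node (nat_lit 9) (.leaf ⟨0, 0, false, [16], []⟩)
  (.leaf ⟨0, 0, false, [18], []⟩))
  (.node (nat_lit 11) (.leaf ⟨0, 0, false, [20], []⟩)
  (.leaf ⟨0, 1, true, [], []⟩)))
  (.node (nat_lit 14) (.node (nat_lit 13) (.leaf ⟨1, 0, true, [], []⟩)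
  (.leaf ⟨1, 1, false, [0], []⟩))
  (.node (nat_lit 15) (.leaf ⟨1, 1, false, [4, 25, 26, 26, 24], []⟩)
  (.leaf ⟨1, 1, false, [12, 6, 22, 26, 26, 23], []⟩)))))
  (.node (nat_lit 24) (.node (nat_lit 20) (.node (nat_lit 18) (.node (nat_lit 17) (.leaf ⟨1, 1, false, [8, 26, 23, 27, 23], []⟩)
  (.leaf ⟨1, 1, false, [11, 23, 25, 22, 29], []⟩))
  (.node (nat_lit 19) (.leaf ⟨1, 1, false, [26, 23, 27], []⟩)
  (.leaf ⟨1, 1, false, [8, 6, 4, 24, 27, 23, 0, 28], []⟩)))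
  (.node (nat_lit 22) (.node (nat_lit 21) (.leaf ⟨1, 1, true, [2], [2]⟩)
  (.leaf ⟨1, 2, true, [14, 17, 15], []⟩))
  (.node (nat_lit 23) (.leaf ⟨2, 1, true, [], [14, 16, 15]⟩)
  (.leaf ⟨2, 2, false, [4, 26, 25, 26, 25], []⟩))))
  (.node (nat_lit 28) (.node (nat_lit 26) (.node (nat_lit 25) (.leaf ⟨2, 2, false, [25, 26, 26, 24], []⟩)
  (.leaf ⟨2, 2, false, [10, 8, 23, 27, 22, 0, 28], []⟩))
  (.node (nat_lit 27) (.leaf ⟨2, 2, false, [9, 24, 27, 0], []⟩)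
  (.leaf ⟨2, 2, false, [22], []⟩)))
  (.node (nat_lit 30) (.node (nat_lit 29) (.leaf ⟨2, 2, false, [12, 23, 27, 22, 0, 28], []⟩)
  (.leaf ⟨2, 2, false, [8, 22, 24, 26, 26, 0, 28], []⟩))
  (.node (nat_lit 31) (.leaf ⟨2, 2, true, [2], [20, 2, 21, 24, 26, 22, 26, 25]⟩)
  (.leaf ⟨2, 2, false, [18, 16, 20, 6, 26, 24, 26, 22], []⟩))))))

noncomputable def f32 : FT := (.node (nat_lit 48) (.node (nat_lit 40) (.node (nat_lit 36) (.node (nat_lit 34) (.node (nat_lit 33) (.leaf ⟨1, 3, true, [20, 16, 2], []⟩)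
  (.leaf ⟨3, 1, true, [], [2, 17, 21]⟩))
  (.node (nat_lit 35) (.leaf ⟨3, 3, false, [23], []⟩)
  (.leaf ⟨3, 3, false, [12, 0], []⟩)))
  (.node (nat_lit 38) (.node (nat_lit 37) (.leaf ⟨3, 3, false, [8, 6, 26, 23, 25, 0, 28], []⟩)
  (.leaf ⟨3, 3, true, [2], [10, 4, 2, 27, 22, 26, 22]⟩))
  (.node (nat_lit 39) (.leaf ⟨2, 4, true, [20, 16, 2], []⟩)
  (.leaf ⟨4, 2, true, [], [2, 17, 21]⟩))))
  (.node (nat_lit 44) (.node (nat_lit 42) (.node (nat_lit 41) (.leaf ⟨4, 4, false, [11, 8, 4, 26, 22, 27, 0], []⟩)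
  (.leaf ⟨4, 4, false, [8, 22, 26, 22, 27], []⟩))
  (.node (nat_lit 43) (.leaf ⟨4, 4, false, [4, 25, 26, 26, 24], []⟩)
  (.leaf ⟨4, 4, false, [8, 4, 23, 25, 26, 22, 29], []⟩)))
  (.node (nat_lit 46) (.node (nat_lit 45) (.leaf ⟨4, 4, true, [2], [11, 2, 23, 25, 22, 0, 29]⟩)
  (.leaf ⟨4, 3, true, [17, 19, 20], [15, 10, 22, 27]⟩))
  (.node (nat_lit 47) (.leaf ⟨3, 4, true, [14, 16, 15], [20, 15, 16, 27, 24, 22, 25, 22]⟩)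
  (.leaf ⟨4, 3, true, [20, 15, 16], [15, 6, 23, 24, 23, 0, 29]⟩)))))
  (.node (nat_lit 56) (.node (nat_lit 52) (.node (nat_lit 50) (.node (nat_lit 49) (.leaf ⟨3, 4, true, [20, 2], [21, 11, 6, 27, 25, 22, 26, 29]⟩)
  (.leaf ⟨4, 4, true, [14, 17, 15], [18, 16, 20, 24, 26, 22, 29]⟩))
  (.node (nat_lit 51) (.leaf ⟨4, 4, true, [14, 16, 15], [20, 15, 16, 11, 26, 24, 27]⟩)
  (.leaf ⟨3, 5, true, [20, 16, 2], []⟩)))
  (.node (nat_lit 54) (.node (nat_lit 53) (.leaf ⟨5, 3, true, [], [2, 17, 21]⟩)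
  (.leaf ⟨5, 5, false, [8, 26, 23, 27, 0], []⟩))
  (.node (nat_lit 55) (.leaf ⟨5, 5, false, [8, 6, 25, 23, 27, 24, 28], []⟩)
  (.leaf ⟨5, 5, true, [2], [11, 4, 2, 23, 27, 23, 26]⟩))))
  (.node (nat_lit 60) (.node (nat_lit 58) (.node (nat_lit 57) (.leaf ⟨4, 6, true, [20], []⟩)
  (.leaf ⟨6, 4, true, [], [21]⟩))
  (.node (nat_lit 59) (.leaf ⟨6, 6, false, [10, 8, 25, 0, 28], []⟩)
  (.leaf ⟨6, 6, false, [11, 6, 26, 22, 0, 28], []⟩)))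
  (.node (nat_lit 62) (.node (nat_lit 61) (.leaf ⟨6, 6, false, [20, 9, 2, 23, 27, 24], []⟩)
  (.leaf ⟨4, 7, true, [20, 2], []⟩))
  (.node (nat_lit 63) (.leaf ⟨7, 4, true, [], [2, 21]⟩)
  (.leaf ⟨7, 7, false, [8, 24, 23, 27, 25], []⟩))))))

noncomputable def f64 : FT := (.node (nat_lit 80) (.node (nat_lit 72) (.node (nat_lit 68) (.node (nat_lit 66) (.node (nat_lit 65) (.leaf ⟨7, 7, false, [9, 6, 24, 26, 22], []⟩)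
  (.leaf ⟨7, 6, true, [2], [2]⟩))
  (.node (nat_lit 67) (.leaf ⟨6, 7, true, [2], [2]⟩)
  (.leaf ⟨7, 7, false, [21, 10, 25, 23, 27], []⟩)))
  (.node (nat_lit 70) (.node (nat_lit 69) (.leaf ⟨4, 8, true, [20, 16, 2], []⟩)
  (.leaf ⟨8, 4, true, [], [2, 17, 21]⟩))
  (.node (nat_lit 71) (.leaf ⟨8, 8, false, [8, 26, 23, 27, 0], []⟩)
  (.leaf ⟨8, 8, false, [12, 4, 24, 26, 22, 26, 0, 28], []⟩))))
  (.node (nat_lit 76) (.node (nat_lit 74) (.node (nat_lit 73) (.leaf ⟨8, 8, true, [2], [8, 2, 26, 23, 27, 22]⟩)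
  (.leaf ⟨8, 5, true, [17, 19, 20], [15, 6, 26, 22, 25, 23, 29]⟩))
  (.node (nat_lit 75) (.leaf ⟨5, 8, true, [21, 2], [2, 20, 2, 22, 24, 27, 25]⟩)
  (.leaf ⟨8, 5, true, [20, 15, 16], [15, 9, 4, 26, 22, 26, 25]⟩)))
  (.node (nat_lit 78) (.node (nat_lit 77) (.leaf ⟨5, 8, true, [14, 17, 15], [15, 16, 20, 4, 26, 24, 27]⟩)
  (.leaf ⟨4, 9, true, [15, 17], []⟩))
  (.node (nat_lit 79) (.leaf ⟨9, 4, true, [], [16, 14]⟩)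
  (.leaf ⟨9, 5, true, [18, 20, 14], [10, 20, 2, 22, 24, 27, 25, 29]⟩)))))
  (.node (nat_lit 88) (.node (nat_lit 84) (.node (nat_lit 82) (.node (nat_lit 81) (.leaf ⟨5, 9, true, [15], [15, 9, 25, 26, 25, 0, 28]⟩)
  (.leaf ⟨9, 5, true, [18, 16, 14], [0, 21, 25, 23, 0, 29]⟩))
  (.node (nat_lit 83) (.leaf ⟨9, 8, true, [17, 20, 15], [18, 17, 11, 14, 24, 22, 25, 23, 0, 28]⟩)
  (.leaf ⟨8, 9, true, [14, 16, 15], [20, 15, 16, 11, 27, 23, 26, 26, 28]⟩)))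
  (.node (nat_lit 86) (.node (nat_lit 85) (.leaf ⟨8, 9, true, [14, 17, 15], [15, 4, 20, 16, 26, 24, 26, 0, 28]⟩)
  (.leaf ⟨5, 10, true, [20, 15], []⟩))
  (.node (nat_lit 87) (.leaf ⟨10, 5, true, [], [21, 14]⟩)
  (.leaf ⟨10, 10, false, [9, 26, 22, 27, 0], []⟩))))
  (.node (nat_lit 92) (.node (nat_lit 90) (.node (nat_lit 89) (.leaf ⟨5, 10, true, [18, 16], [19, 17, 9, 25, 22, 26, 24, 0, 28]⟩)
  (.leaf ⟨5, 11, true, [14, 17, 2], []⟩))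
  (.node (nat_lit 91) (.leaf ⟨6, 12, true, [14, 17, 15], []⟩)
  (.leaf ⟨12, 6, true, [], [14, 16, 15]⟩)))
  (.node (nat_lit 94) (.node (nat_lit 93) (.leaf ⟨12, 8, true, [20, 15, 16], [6, 14, 6, 27, 24, 26, 23, 25, 0, 28]⟩)
  (.leaf ⟨8, 12, true, [16, 2], [8, 16, 26, 22, 29]⟩))
  (.node (nat_lit 95) (.leaf ⟨9, 12, true, [21], [8, 21, 6, 2, 22, 24, 26, 23, 25]⟩)
  (.leaf ⟨6, 13, true, [20, 15, 16], []⟩))))))

noncomputable def f96 : FT := (.node (nat_lit 112) (.node (nat_lit 104) (.node (nat_lit 100) (.node (nat_lit 98) (.node (nat_lit 97) (.leaf ⟨13, 9, true, [14, 2], [18, 6, 4, 24, 23, 25, 0, 28]⟩)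
  (.leaf ⟨9, 13, true, [20], [21, 4, 2, 26, 26, 25, 23, 24, 28]⟩))
  (.node (nat_lit 99) (.leaf ⟨13, 8, true, [15], [18, 9, 26, 22, 24, 27, 25]⟩)
  (.leaf ⟨8, 13, true, [17], [17, 4, 17, 27, 24, 23, 24]⟩)))
  (.node (nat_lit 102) (.node (nat_lit 101) (.leaf ⟨7, 14, true, [14, 17, 15], []⟩)
  (.leaf ⟨14, 8, true, [20, 15, 16], [6, 14, 25, 23, 26, 24]⟩))
  (.node (nat_lit 103) (.leaf ⟨8, 14, true, [17, 2], [11, 17, 4, 27, 23, 24, 27, 29]⟩)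
  (.leaf ⟨7, 15, true, [20, 15, 16], []⟩))))
  (.node (nat_lit 108) (.node (nat_lit 106) (.node (nat_lit 105) (.leaf ⟨15, 7, true, [], [0, 14, 10, 25, 0]⟩)
  (.leaf ⟨15, 9, true, [14, 2], [15, 12, 6, 23, 27, 22, 29]⟩))
  (.node (nat_lit 107) (.leaf ⟨9, 15, true, [15], [0, 15, 4, 25, 22, 24, 23, 0]⟩)
  (.leaf ⟨15, 8, true, [15], [0, 18, 10, 24, 22, 27, 29]⟩)))
  (.node (nat_lit 110) (.node (nat_lit 109) (.leaf ⟨8, 15, true, [20, 2], [21, 11, 4, 27, 25, 23, 25, 0]⟩)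
  (.leaf ⟨15, 12, true, [15, 2], [14, 6, 0, 2, 24, 22, 24, 29]⟩))
  (.node (nat_lit 111) (.leaf ⟨12, 15, true, [14, 17, 15], [17, 4, 14, 16, 26, 25, 22, 24]⟩)
  (.leaf ⟨15, 12, true, [14], [6, 15, 10, 23, 25, 22]⟩)))))
  (.node (nat_lit 120) (.node (nat_lit 116) (.node (nat_lit 114) (.node (nat_lit 113) (.leaf ⟨8, 16, true, [20, 15], []⟩)
  (.leaf ⟨16, 8, true, [], [21, 14]⟩))
  (.node (nat_lit 115) (.leaf ⟨11, 16, true, [15, 17], [0, 18, 21, 2, 26, 24, 22, 26, 0, 28]⟩)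
  (.leaf ⟨16, 10, true, [16, 2], [16, 15, 12, 25, 26, 26, 24]⟩)))
  (.node (nat_lit 118) (.node (nat_lit 117) (.leaf ⟨10, 16, true, [20, 15], [10, 20, 4, 2, 26, 22, 25, 27, 23, 28]⟩)
  (.leaf ⟨9, 8, false, [19, 17, 14, 2, 23, 25, 27, 23, 0], []⟩))
  (.node (nat_lit 119) (.leaf ⟨4, 8, true, [15, 17], [19, 17, 14, 2, 23, 25, 27, 23, 0]⟩)
  (.leaf ⟨8, 8, true, [14, 17, 15], [19, 10, 2, 25, 22, 26, 25, 0]⟩))))
  (.node (nat_lit 124) (.node (nat_lit 122) (.node (nat_lit 121) (.leaf ⟨8, 8, true, [14, 16, 15], [17, 20, 6, 25, 22, 26, 29]⟩)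
  (.leaf ⟨15, 8, true, [14, 2], [8, 16, 4, 24, 26, 26, 22, 24, 0, 29]⟩))
  (.node (nat_lit 123) (.leaf ⟨8, 4, true, [20, 15], [19, 10, 17, 26, 26, 23, 24, 23, 28]⟩)
  (.leaf ⟨4, 16, false, [17, 20, 8, 2, 26, 24, 27, 25, 23], []⟩)))
  (.node (nat_lit 126) (.node (nat_lit 125) (.leaf ⟨16, 4, false, [19, 10, 17, 26, 26, 23, 24, 23, 28], []⟩)
  (.leaf ⟨10, 4, true, [20, 15], [19, 9, 16, 27, 24, 22, 25, 23, 29]⟩))
  (.node (nat_lit 127) (.leaf ⟨8, 12, true, [16], [18, 17, 9, 14, 2, 23, 26, 26, 25, 0, 29]⟩)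
  (.leaf ⟨12, 15, false, [18, 16, 15, 4, 26, 23, 27, 22, 0, 28], []⟩))))))

noncomputable def f128 : FT := (.node (nat_lit 142) (.node (nat_lit 135) (.node (nat_lit 131) (.node (nat_lit 129) (.leaf ⟨15, 12, false, [16, 21, 26, 26, 29], []⟩)
  (.node (nat_lit 130) (.leaf ⟨8, 12, true, [17, 20, 15], [19, 9, 16, 4, 26, 26, 25]⟩)
  (.leaf ⟨12, 12, false, [16, 19, 11, 6, 25, 22, 24, 22, 26, 22], []⟩)))
  (.node (nat_lit 133) (.node (nat_lit 132) (.leaf ⟨8, 5, true, [20, 15, 16], [11, 16, 4, 26, 25, 23, 26, 29]⟩)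
  (.leaf ⟨5, 5, false, [21, 15, 4, 24, 26, 26, 22, 24, 0], []⟩))
  (.node (nat_lit 134) (.leaf ⟨8, 8, true, [14, 17], [10, 15, 4, 25, 27, 22, 26, 0]⟩)
  (.leaf ⟨8, 5, true, [14, 17, 2], [19, 10, 26, 22, 27, 22, 28]⟩))))
  (.node (nat_lit 138) (.node (nat_lit 136) (.leaf ⟨5, 8, true, [17, 19, 20], [19, 0, 17, 2, 26, 26, 25, 0, 28]⟩)
  (.node (nat_lit 137) (.leaf ⟨8, 10, false, [21, 0, 16, 15, 26, 24, 27, 24, 23], []⟩)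
  (.leaf ⟨10, 8, false, [4, 20, 8, 25, 22, 25, 23, 28], []⟩)))
  (.node (nat_lit 140) (.node (nat_lit 139) (.leaf ⟨8, 8, false, [18, 20, 15, 22, 24, 27, 0], []⟩)
  (.leaf ⟨5, 8, true, [18, 16], [15, 10, 21, 24, 22, 26, 25, 0]⟩))
  (.node (nat_lit 141) (.leaf ⟨12, 7, true, [15, 16, 15], [9, 21, 6, 2, 27, 23, 24, 0]⟩)
  (.leaf ⟨12, 12, true, [16, 15, 2], [21, 11, 4, 23, 25, 22, 26, 29]⟩)))))
  (.node (nat_lit 149) (.node (nat_lit 145) (.node (nat_lit 143) (.leaf ⟨12, 6, false, [15, 2, 16, 15, 22, 26, 26, 25, 28], []⟩)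
  (.node (nat_lit 144) (.leaf ⟨6, 6, true, [14, 17, 15], [15, 2, 16, 15, 22, 26, 26, 25, 28]⟩)
  (.leaf ⟨8, 6, true, [16, 2], [9, 18, 20, 22, 26, 23, 25, 23]⟩)))
  (.node (nat_lit 147) (.node (nat_lit 146) (.leaf ⟨6, 8, true, [14, 16, 15], [16, 18, 20, 2, 26, 23, 25, 28]⟩)
  (.leaf ⟨8, 13, false, [17, 20, 18, 9, 24, 23, 25, 29], []⟩))
  (.node (nat_lit 148) (.leaf ⟨13, 8, false, [21, 19, 17, 4, 25, 23, 26, 26, 25, 29], []⟩)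
  (.leaf ⟨6, 8, true, [20, 15, 16], [21, 19, 17, 4, 25, 23, 26, 26, 25, 29]⟩))))
  (.node (nat_lit 152) (.node (nat_lit 150) (.leaf ⟨8, 8, true, [17], [16, 20, 8, 25, 22, 26, 24, 28]⟩)
  (.node (nat_lit 151) (.leaf ⟨8, 4, true, [21, 2], [19, 10, 20, 27, 23, 26, 26, 22]⟩)
  (.leaf ⟨4, 14, false, [21, 6, 23, 24, 22, 26, 22, 28], []⟩)))
  (.node (nat_lit 154) (.node (nat_lit 153) (.leaf ⟨14, 4, false, [20, 6, 24, 23, 27, 29], []⟩)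
  (.leaf ⟨8, 4, true, [17, 2], [6, 18, 20, 10, 25, 23, 25, 0, 28]⟩))
  (.node (nat_lit 155) (.leaf ⟨6, 7, true, [2], [14, 17, 15, 6, 24, 26, 22]⟩)
  (.leaf ⟨7, 7, false, [21, 19, 17, 6, 24, 23, 25, 28], []⟩))))))



end Cfsg.Agent.Lib.SuzHD
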