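import Cfsg.Agent.Lib.BT4
import Cfsg.Agent.Lib.SuzHTC

/-! Regular models of the extraspecial groups of order `2 ^ 7`. -/

set_option autoImplicit false
set_option maxRecDepth 100000

namespace Cfsg.Agent.Lib.SuzMQ

open Cfsg.Agent.Lib.PermNet Cfsg.Agent.Lib.Words Cfsg.Agent.Lib.PermGroup Cfsg.Agent.Lib.DCE Cfsg.Agent.Lib.PermModel Cfsg.Agent.Lib.BT

noncomputable def mt0 : ℕ := (nat_lit 0xfbf3ffee3c376cd7ab466cb93dfac7e7178efdb0f5c1d39f2dfb74e7972a4c88f1a2c4870a0c07cf1d3970d9ab4bf7aedcb76acd8af5aad4674d952634684f613a6cc7ef5db73e78e9c3668c982e58a94244480f5eb96ac56a94a84e992a41c8d121404c3860a101821a3058a1220001)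
noncomputable def mt2 : ℕ := (nat_lit 0xf5ef8f0fdfee5eab52b58b76befc972a4c88f1a2c4870a0c054a5325a3e2879e7ca7749bd7bf658bafdd4966ba8dfbb6ecd7ab4e8cf9b2e43e78e9c3668c982e58a94182c5094749153438f14c418704f5eb55a77ef9ebc76e9cb86ed9ab40e18284060443364c580d26488901e00702)
noncomputable def mt4 : ℕ := (nat_lit 0xf3e376cbd73ffec78a9d2a342548d7f757cdfb5fbe7af1d39efd99b2b7eed7abf757ae5ab1529ebd39f2628d1218fc63709724f9e3a70d19d3a33e6719723b2648890c38278eb362bd65156a2b1a3058a9d366088b121c2310601b0e182846ed9ab404c13a64a900a02e58a94003c483)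
noncomputable def mt6 : ℕ := (nat_lit 0xe9d7368ad629d29d37f7fc3821447ef9ebc6cd72fcc9f74e766cb9f25eb96ac4c96afaa9eecd7f3e11a241dfb303e78e9c2c560f081c62c3dfbb6ec264888f69af537c78874cbf7aedc1a30589496ed27a34044f972a4c80e18283291e31776e9c8270c55aa52054213668c803040504)
noncomputable def mt8 : ℕ := (nat_lit 0xefcf5e5b7571d1fd3f0ceff323c1d9bddbaf8e33696edbeb4f0c7a30b97d5aaf4a2b594e9bda4668fca1e5d5076912cd9ae0621452e5b89478fc99273b88646ba07eaa43a84d58bc68c53785544b604daa623160387c38633282402b101c622f816dce885ae0376bb20a7804986f569d)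
noncomputable def mt9 : ℕ := (nat_lit 0xe7df2ebab6e8e3ff32761fd3e0c7dce886ffad34361fa7e38f287aa0bca855ff692c261367d2846cfc31edd1872946824be25221607178187c4813fdbb1deacf99be4a6231605c300afbb715daaf593d4a43a84d3c1801f9320dc68708bc07af09b96ac96ac1aa52a23a703992a44585)
noncomputable def mt10 : ℕ := (nat_lit 0xe5db26aa96a8629ffe6e099fa04676e776d71f5bb5d19da7c63e587556a6f5d51ed3a5b15d27a44c90f8e683a77366654931c4b95890ca702645f3d74436656c3f36b1d4e8ce1a2d72d542ae554c26b5b114b1e10e14f1d34124412c0e1472409e6fd28c601597ecb30c00e4b8afd79f)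
noncomputable def mt11 : ℕ := (nat_lit 0xedcb564b55315099fb04d9ffe34021b763969f07e7ccd5c7d43e10741576e2949e84d7ac9547b64898f9eec3af3092641929c01c38454c7104f5e11deef76bd2df465114b1e102b560bbeaef5bb29ec551d4e8ce0074e05966e5478a5e2417e4df3a6ccd78d5ca93233e1cf1a2c48606)
noncomputable def mt12 : ℕ := (nat_lit 0xfdffe7df5efc79e7cba75efdb87175b1ceecb91b666ba35eaa34274d55714deab513564b62ddaa54f1e2998704f3520cca8300b422b123c624f08be21bf6b41fa73b846890a018b05ae157eea41366ba866c98b00c7029e092e494071619804fdebb6e200af5aad38e007ce9b2e4c687)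
noncomputable def mid : ℕ := (nat_lit 0xfffbefcf7ebcf8efdbaf4e7cb8f0dfbb6ecd7ab4e8cf9b2e4c78b0e0bf7aedcb76acd8af5aad4a74a8d09f3a6cc972a4c88f1a2c4870a0c07ef9ebc76e9cb86ed9ab466c98b05eb96ac56a94a84e992a446890a03e78e9c3668c982e58a9426488901e3868c16284880e182840608080)
noncomputable def mth : TT := (.node (nat_lit 7) (.node (nat_lit 3) (.node (nat_lit 1) (.leaf mt0) (.node (nat_lit 2) (.leaf mt0) (.leaf mt2))) (.node (nat_lit 5) (.node (nat_lit 4) (.leaf mt2) (.leaf mt4)) (.node (nat_lit 6) (.leaf mt4) (.leaf mt6)))) (.node (nat_lit 10) (.node (nat_lit 8) (.leaf mt6) (.node (nat_lit 9) (.leaf mt8) (.leaf mt9))) (.node (nat_lit 12) (.node (nat_lit 11) (.leaf mt10) (.leaf mt11)) (.node (nat_lit 13) (.leaf mt12) (.leaf mt12)))))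
noncomputable abbrev mtt : TT := tabs (nat_lit 7) mth mid
def mdefs : List (List ℕ) := []

def mch_0_0 : List (ℕ × List ℕ) := [(0, []), (1, [0]), (2, [2]), (3, [4]), (4, [6]), (29, [8]), (5, [9]), (31, [10]), (6, [11]), (7, [12]), (14, [0, 2]), (9, [0, 4]), (10, [0, 6]), (45, [0, 8]), (11, [0, 9]), (47, [0, 10]), (12, [0, 11]), (13, [0, 12]), (8, [2, 0]), (15, [2, 4]), (16, [2, 6]), (61, [2, 8]), (17, [2, 9]), (63, [2, 10]), (18, [2, 11]), (19, [2, 12]), (24, [4, 6]), (67, [4, 8]), (21, [4, 9]), (69, [4, 10]), (22, [4, 11]), (23, [4, 12]), (20, [6, 4]), (73, [6, 8]), (25, [6, 9]), (75, [6, 10]), (26, [6, 11]), (27, [6, 12]), (30, [8, 10]), (28, [8, 11]), (48, [0, 2, 4]), (49, [0, 2, 6]), (34, [0, 2, 8]), (50, [0, 2, 9]), (35, [0, 2, 10]), (51, [0, 2, 11]), (40, [0, 4, 6]), (87, [0, 4, 8]), (37, [0, 4, 9]), (89, [0, 4, 10]), (38, [0, 4, 11]),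 (39, [0, 4, 12]), (36, [0, 6, 4]), (93, [0, 6, 8]), (41, [0, 6, 9]), (95, [0, 6, 10]), (42, [0, 6, 11]), (43, [0, 6, 12]), (46, [0, 8, 10]), (44, [0, 8, 11]), (32, [2, 0, 4]), (33, [2, 0, 6]), (56, [2, 4, 6]), (103, [2, 4, 8]), (53, [2, 4, 9]), (105, [2, 4, 10]), (54, [2, 4, 11]), (55, [2, 4, 12]), (52, [2, 6, 4]), (109, [2, 6, 8]), (57, [2, 6, 9]), (111, [2, 6, 10]), (58, [2, 6, 11]), (59, [2, 6, 12]), (62, [2, 8, 10]), (60, [2, 8, 11]), (64, [4, 6, 8]), (70, [4, 6, 9]), (65, [4, 6, 10]), (71, [4, 6, 11]), (68, [4, 8, 10]), (66, [4, 8, 11]), (74, [6, 8, 10]), (72, [6, 8, 11]), (76, [0, 2, 4, 6]), (77, [0, 2, 4, 8]), (96, [0, 2, 4, 9]), (78, [0, 2, 4, 10]), (97, [0, 2, 4, 11]), (79, [0, 2, 6, 4]), (80, [0, 2, 6, 8]), (98, [0, 2, 6, 9]), (81, [0, 2, 6, 10]), (99, [0, 2, 6, 11]), (82, [0, 2, 8, 10]), (83, [0, 2, 8, 11]), (84, [0, 4, 6, 8]),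 (90, [0, 4, 6, 9]), (85, [0, 4, 6, 10]), (91, [0, 4, 6, 11]), (88, [0, 4, 8, 10]), (86, [0, 4, 8, 11]), (94, [0, 6, 8, 10]), (92, [0, 6, 8, 11]), (100, [2, 4, 6, 8]), (106, [2, 4, 6, 9]), (101, [2, 4, 6, 10]), (107, [2, 4, 6, 11]), (104, [2, 4, 8, 10]), (102, [2, 4, 8, 11]), (110, [2, 6, 8, 10]), (108, [2, 6, 8, 11]), (112, [4, 6, 8, 10]), (113, [4, 6, 8, 11]), (118, [0, 2, 4, 6, 8]), (114, [0, 2, 4, 6, 9]), (119, [0, 2, 4, 6, 10]), (115, [0, 2, 4, 6, 11]), (116, [0, 2, 4, 8, 10]), (117, [0, 2, 4, 8, 11]), (120, [0, 2, 6, 8, 10]), (121, [0, 2, 6, 8, 11]), (122, [0, 4, 6, 8, 10]), (123, [0, 4, 6, 8, 11]), (124, [2, 4, 6, 8, 10]), (125, [2, 4, 6, 8, 11]), (127, [0, 2, 4, 6, 8, 10]), (126, [0, 2, 4, 6, 8, 11])]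

def mch : List Lv := [⟨0, mch_0_0⟩]

theorem mok_id : idB (nat_lit 128) (nat_lit 7) (nat_lit 127) mid = true := by decide +kernel

theorem mok_0 : allR (fun i => okT (nat_lit 128) (nat_lit 7) (nat_lit 127) (mtt.get (2 * i)) (mtt.get (2 * i + 1))) (nat_lit 0) (nat_lit 7) = true := by
  decide +kernel

theorem mok : TabsOK (nat_lit 128) (nat_lit 7) (nat_lit 127) (nat_lit 7) mth mid := ⟨mok_id, (allR_of 0 7 7 (by decide) mok_0)⟩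

theorem mTM : TM 7 (nat_lit 128) (nat_lit 7) (nat_lit 127) (nat_lit 7) mid 128 mth [] mch :=
  ⟨mok, fun _ h => (List.not_mem_nil h).elim, by decide +kernel, by decide +kernel⟩

theorem mK : ∀ w ∈ SuzHTC.KQ, wval (tp (nat_lit 128) (nat_lit 7) (nat_lit 127) mtt) w = 1 := mok.relsA _ (by decide +kernel)

noncomputable def mst : List AS := [⟨0, [[14, 14], [14, 12, 15, 13]], [[14], [14, 13]], [[0], [2], [4], [6], [0, 4], [0, 6], [0, 12], [2, 4], [2, 6], [2, 12], [4, 12], [6, 12], [0, 2, 8], [2, 0, 8], [0, 2, 10], [2, 0, 10], [0, 4, 12], [0, 6, 12], [2, 4, 12], [2, 6, 12], [4, 6, 8], [6, 4, 8], [4, 6, 10], [6, 4, 10], [0, 2, 4, 6], [0, 2, 4, 8], [2, 0, 4, 8], [0, 2, 4, 10], [2, 0, 4, 10], [0, 2, 6, 4], [0, 2, 6, 8], [2, 0, 6, 8], [0, 2, 6, 10], [2, 0, 6, 10], [0, 2, 8, 10], [0, 2, 10, 8], [0, 4, 6, 8], [0, 6, 4, 8], [0, 4, 6, 10], [0, 6, 4, 10],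 [2, 4, 6, 8], [2, 6, 4, 8], [2, 4, 6, 10], [2, 6, 4, 10], [4, 6, 8, 10], [4, 6, 10, 8], [0, 2, 4, 8, 10], [0, 2, 4, 10, 8], [0, 2, 6, 8, 10], [0, 2, 6, 10, 8], [0, 4, 6, 8, 10], [0, 4, 6, 10, 8], [2, 4, 6, 8, 10], [2, 4, 6, 10, 8]], (.node 0 [] [] (nat_lit 0x0) (lf [(1, [0]), (2, [2]), (3, [4]), (4, [6]), (9, [0, 4]), (10, [0, 6]), (13, [0, 12]), (15, [2, 4]), (16, [2, 6]), (19, [2, 12]), (23, [4, 12]), (27, [6, 12]), (34, [0, 2, 8]), (50, [2, 0, 8]), (35, [0, 2, 10]), (51, [2, 0, 10]), (39, [0, 4, 12]), (43, [0, 6, 12]), (55, [2, 4, 12]), (59, [2, 6, 12]), (64, [4, 6, 8]), (70, [6, 4, 8]), (65, [4, 6, 10]), (71, [6, 4, 10]), (76, [0, 2, 4, 6]), (77, [0, 2, 4, 8]), (96, [2, 0, 4, 8]), (78, [0, 2, 4, 10]), (97, [2, 0, 4, 10]), (79, [0, 2, 6, 4]), (80, [0, 2, 6, 8]), (98, [2, 0, 6, 8]), (81, [0, 2, 6, 10]), (99, [2, 0, 6, 10]), (82, [0, 2, 8,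 10]), (83, [0, 2, 10, 8]), (84, [0, 4, 6, 8]), (90, [0, 6, 4, 8]), (85, [0, 4, 6, 10]), (91, [0, 6, 4, 10]), (100, [2, 4, 6, 8]), (106, [2, 6, 4, 8]), (101, [2, 4, 6, 10]), (107, [2, 6, 4, 10]), (112, [4, 6, 8, 10]), (113, [4, 6, 10, 8]), (116, [0, 2, 4, 8, 10]), (117, [0, 2, 4, 10, 8]), (120, [0, 2, 6, 8, 10]), (121, [0, 2, 6, 10, 8]), (122, [0, 4, 6, 8, 10]), (123, [0, 4, 6, 10, 8]), (124, [2, 4, 6, 8, 10]), (125, [2, 4, 6, 10, 8])]) .nil)⟩,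
  ⟨1, [[14, 14], [0, 14, 1, 15, 13], [14, 12, 15, 13]], [], [[2], [2, 4], [2, 6], [2, 12], [0, 2, 8], [2, 0, 8], [0, 2, 10], [2, 0, 10], [2, 4, 12], [2, 6, 12], [0, 2, 4, 6], [0, 2, 4, 8], [2, 0, 4, 8], [0, 2, 4, 10], [2, 0, 4, 10], [0, 2, 6, 4], [0, 2, 6, 8], [2, 0, 6, 8], [0, 2, 6, 10], [2, 0, 6, 10], [0, 2, 8, 10], [0, 2, 10, 8], [2, 4, 6, 8], [2, 6, 4, 8], [2, 4, 6, 10], [2, 6, 4, 10], [0, 2, 4, 8, 10], [0, 2, 4, 10, 8], [0, 2, 6, 8, 10], [0, 2, 6, 10, 8], [2, 4, 6, 8, 10], [2, 4, 6, 10, 8]], (.node 0 [] [] (nat_lit 0x0) (lf [(2, [2]), (15, [2, 4]), (16, [2, 6]), (19, [2, 12]), (34, [0, 2, 8]), (50, [2, 0, 8]), (35, [0, 2, 10]), (51, [2, 0, 10]), (55, [2, 4, 12]), (59, [2, 6, 12]), (76, [0, 2, 4, 6]), (77, [0, 2, 4, 8]), (96, [2, 0, 4, 8]), (78, [0, 2, 4, 10]), (97, [2, 0, 4, 10]), (79, [0, 2, 6, 4]), (80, [0, 2, 6, 8]), (98, [2, 0, 6,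 8]), (81, [0, 2, 6, 10]), (99, [2, 0, 6, 10]), (82, [0, 2, 8, 10]), (83, [0, 2, 10, 8]), (100, [2, 4, 6, 8]), (106, [2, 6, 4, 8]), (101, [2, 4, 6, 10]), (107, [2, 6, 4, 10]), (116, [0, 2, 4, 8, 10]), (117, [0, 2, 4, 10, 8]), (120, [0, 2, 6, 8, 10]), (121, [0, 2, 6, 10, 8]), (124, [2, 4, 6, 8, 10]), (125, [2, 4, 6, 10, 8])]) .nil)⟩,
  ⟨2, [[14, 14], [0, 14, 1, 15], [2, 14, 3, 15], [14, 12, 15, 13]], [[14], [14, 13]], [[4], [6], [4, 12], [6, 12], [4, 6, 8], [6, 4, 8], [4, 6, 10], [6, 4, 10], [4, 6, 8, 10], [4, 6, 10, 8]], (.node 0 [] [] (nat_lit 0x0) (lf [(3, [4]), (4, [6]), (23, [4, 12]), (27, [6, 12]), (64, [4, 6, 8]), (70, [6, 4, 8]), (65, [4, 6, 10]), (71, [6, 4, 10]), (112, [4, 6, 8, 10]), (113, [4, 6, 10, 8])]) .nil)⟩,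
  ⟨3, [[14, 14], [4, 14, 5, 15, 13], [0, 14, 1, 15], [2, 14, 3, 15], [14, 12, 15, 13]], [], [[6], [6, 12], [4, 6, 8], [6, 4, 8], [4, 6, 10], [6, 4, 10], [4, 6, 8, 10], [4, 6, 10, 8]], (.node 0 [] [] (nat_lit 0x0) (lf [(4, [6]), (27, [6, 12]), (64, [4, 6, 8]), (70, [6, 4, 8]), (65, [4, 6, 10]), (71, [6, 4, 10]), (112, [4, 6, 8, 10]), (113, [4, 6, 10, 8])]) .nil)⟩,
  ⟨4, [[14, 14, 13], [0, 14, 1, 15], [2, 14, 3, 15], [4, 14, 5, 15], [6, 14, 7, 15], [14, 12, 15, 13]], [], [[8, 12], [8], [10, 12], [10], [10, 8], [8, 10]], (.node 0 [] [] (nat_lit 0x0) (lf [(29, [8, 12]), (5, [8]), (31, [10, 12]), (6, [10]), (30, [10, 8]), (28, [8, 10])]) .nil)⟩,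
  ⟨5, [[14, 14, 13], [8, 14, 9, 15, 13], [0, 14, 1, 15], [2, 14, 3, 15], [4, 14, 5, 15], [6, 14, 7, 15], [14, 12, 15, 13]], [], [[10, 12], [10], [10, 8], [8, 10]], (.node 0 [] [] (nat_lit 0x0) (lf [(31, [10, 12]), (6, [10]), (30, [10, 8]), (28, [8, 10])]) .nil)⟩]

theorem maut : autB (nat_lit 7) (nat_lit 127) mtt (nat_lit 128) 7 (mch.map Lv.b) mch mst [6] = true := by decide +kernel

theorem mprod : (mst.map fun s => s.L.length).prod = 3317760 := by decide +kernel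

noncomputable def pt0 : ℕ := (nat_lit 0xfbf3ffee3c376cd7ab466cb93dfac7e7178efdb0f5c1d39f2dfb74e7972a4c88f1a2c4870a0c07cf1d3970d9ab4bf7aedcb76acd8af5aad4674d952634684f613a6cc7ef5db73e78e9c3668c982e58a94244480f5eb96ac56a94a84e992a41c8d121404c3860a101821a3058a1220001)
noncomputable def pt2 : ℕ := (nat_lit 0xf5ef8f0fdfee5eab52b58b76befc972a4c88f1a2c4870a0c054a5325a3e2879e7ca7749bd7bf658bafdd4966ba8dfbb6ecd7ab4e8cf9b2e43e78e9c3668c982e58a94182c5094749153438f14c418704f5eb55a77ef9ebc76e9cb86ed9ab40e18284060443364c580d26488901e00702)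
noncomputable def pt4 : ℕ := (nat_lit 0xf3e376cbd73ffec78a9d2a342548d7f757cdfb5fbe7af1d39efd99b2b7eed7abf757ae5ab1529ebd39f2628d1218fc63709724f9e3a70d19d3a33e6719723b2648890c38278eb362bd65156a2b1a3058a9d366088b121c2310601b0e182846ed9ab404c13a64a900a02e58a94003c483)
noncomputable def pt6 : ℕ := (nat_lit 0xe9d7368ad629d29d37f7fc3821447ef9ebc6cd72fcc9f74e766cb9f25eb96ac4c96afaa9eecd7f3e11a241dfb303e78e9c2c560f081c62c3dfbb6ec264888f69af537c78874cbf7aedc1a30589496ed27a34044f972a4c80e18283291e31776e9c8270c55aa52054213668c803040504)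
noncomputable def pt8 : ℕ := (nat_lit 0xefcf5e5b7571d1ff3f0cefd323c1ddbddbafae34696edbe34f2c7ab0bd7d5aaf6a2c594e9bd24668fc21edd1072952cd9ae2622452e5b8147cfc992dbb086acf987e4a63b1605cbc68cbb7055aaf584d4a42284d3c7c386932024687081c07af01396ac96ac02a52a23a700192a44585)
noncomputable def pt10 : ℕ := (nat_lit 0xe5db26aa96a8629ffa6e099fe04676e766d71f1bb5cd9da7d63e187456a6e5d51e93a5ad5d27b44c90f9ee83af3366644931c0b95850ca712645e3dde4376bd23f4651d4b1e11a2d62dbe2af5bb226c55114e8ce0e14e1d96125478a0e2417e09f3a6ccd7815ca93233e00f1a2c48606)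
noncomputable def pt12 : ℕ := (nat_lit 0xfdffe7df5efc79e7cba75efdb87175b1ceecb91b666ba35eaa34274d55714deab513564b62ddaa54f1e2998704f3520cca8300b422b123c624f08be21bf6b41fa73b846890a018b05ae157eea41366ba866c98b00c7029e092e494071619804fdebb6e200af5aad38e007ce9b2e4c687)
noncomputable def pid : ℕ := (nat_lit 0xfffbefcf7ebcf8efdbaf4e7cb8f0dfbb6ecd7ab4e8cf9b2e4c78b0e0bf7aedcb76acd8af5aad4a74a8d09f3a6cc972a4c88f1a2c4870a0c07ef9ebc76e9cb86ed9ab466c98b05eb96ac56a94a84e992a446890a03e78e9c3668c982e58a9426488901e3868c16284880e182840608080)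
noncomputable def pth : TT := (.node (nat_lit 7) (.node (nat_lit 3) (.node (nat_lit 1) (.leaf pt0) (.node (nat_lit 2) (.leaf pt0) (.leaf pt2))) (.node (nat_lit 5) (.node (nat_lit 4) (.leaf pt2) (.leaf pt4)) (.node (nat_lit 6) (.leaf pt4) (.leaf pt6)))) (.node (nat_lit 10) (.node (nat_lit 8) (.leaf pt6) (.node (nat_lit 9) (.leaf pt8) (.leaf pt8))) (.node (nat_lit 12) (.node (nat_lit 11) (.leaf pt10) (.leaf pt10)) (.node (nat_lit 13) (.leaf pt12) (.leaf pt12)))))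
noncomputable abbrev ptt : TT := tabs (nat_lit 7) pth pid
def pdefs : List (List ℕ) := []

def pch_0_0 : List (ℕ × List ℕ) := [(0, []), (1, [0]), (2, [2]), (3, [4]), (4, [6]), (5, [8]), (6, [10]), (7, [12]), (14, [0, 2]), (9, [0, 4]), (10, [0, 6]), (11, [0, 8]), (12, [0, 10]), (13, [0, 12]), (8, [2, 0]), (15, [2, 4]), (16, [2, 6]), (17, [2, 8]), (18, [2, 10]), (19, [2, 12]), (24, [4, 6]), (21, [4, 8]), (22, [4, 10]), (23, [4, 12]), (20, [6, 4]), (25, [6, 8]), (26, [6, 10]), (27, [6, 12]), (30, [8, 10]), (29, [8, 12]), (28, [10, 8]), (31, [10, 12]), (48, [0, 2, 4]), (49, [0, 2, 6]), (50, [0, 2, 8]), (51, [0, 2, 10]), (40, [0, 4, 6]), (37, [0, 4, 8]), (38, [0, 4, 10]), (39, [0, 4, 12]), (36, [0, 6, 4]), (41, [0, 6, 8]), (42, [0, 6, 10]), (43, [0, 6, 12]), (46, [0, 8, 10]), (45, [0, 8, 12]), (44, [0, 10, 8]), (47, [0, 10, 12]), (32, [2, 0, 4]),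 (33, [2, 0, 6]), (34, [2, 0, 8]), (35, [2, 0, 10]), (56, [2, 4, 6]), (53, [2, 4, 8]), (54, [2, 4, 10]), (55, [2, 4, 12]), (52, [2, 6, 4]), (57, [2, 6, 8]), (58, [2, 6, 10]), (59, [2, 6, 12]), (62, [2, 8, 10]), (61, [2, 8, 12]), (60, [2, 10, 8]), (63, [2, 10, 12]), (70, [4, 6, 8]), (71, [4, 6, 10]), (68, [4, 8, 10]), (67, [4, 8, 12]), (66, [4, 10, 8]), (69, [4, 10, 12]), (64, [6, 4, 8]), (65, [6, 4, 10]), (74, [6, 8, 10]), (73, [6, 8, 12]), (72, [6, 10, 8]), (75, [6, 10, 12]), (76, [0, 2, 4, 6]), (96, [0, 2, 4, 8]), (97, [0, 2, 4, 10]), (79, [0, 2, 6, 4]), (98, [0, 2, 6, 8]), (99, [0, 2, 6, 10]), (82, [0, 2, 8, 10]), (83, [0, 2, 10, 8]), (90, [0, 4, 6, 8]), (91, [0, 4, 6, 10]), (88, [0, 4, 8, 10]), (87, [0, 4, 8, 12]), (86, [0, 4, 10, 8]), (89, [0, 4, 10, 12]), (84, [0, 6, 4, 8]), (85, [0, 6, 4, 10]), (94, [0, 6, 8, 10]), (93, [0, 6, 8, 12]),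 (92, [0, 6, 10, 8]), (95, [0, 6, 10, 12]), (77, [2, 0, 4, 8]), (78, [2, 0, 4, 10]), (80, [2, 0, 6, 8]), (81, [2, 0, 6, 10]), (106, [2, 4, 6, 8]), (107, [2, 4, 6, 10]), (104, [2, 4, 8, 10]), (103, [2, 4, 8, 12]), (102, [2, 4, 10, 8]), (105, [2, 4, 10, 12]), (100, [2, 6, 4, 8]), (101, [2, 6, 4, 10]), (110, [2, 6, 8, 10]), (109, [2, 6, 8, 12]), (108, [2, 6, 10, 8]), (111, [2, 6, 10, 12]), (112, [4, 6, 8, 10]), (113, [4, 6, 10, 8]), (114, [0, 2, 4, 6, 8]), (115, [0, 2, 4, 6, 10]), (116, [0, 2, 4, 8, 10]), (117, [0, 2, 4, 10, 8]), (118, [0, 2, 6, 4, 8]), (119, [0, 2, 6, 4, 10]), (120, [0, 2, 6, 8, 10]), (121, [0, 2, 6, 10, 8]), (122, [0, 4, 6, 8, 10]), (123, [0, 4, 6, 10, 8]), (124, [2, 4, 6, 8, 10]), (125, [2, 4, 6, 10, 8]), (127, [0, 2, 4, 6, 8, 10]), (126, [0, 2, 4, 6, 10, 8])]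

def pch : List Lv := [⟨0, pch_0_0⟩]

theorem pok_id : idB (nat_lit 128) (nat_lit 7) (nat_lit 127) pid = true := by decide +kernel

theorem pok_0 : allR (fun i => okT (nat_lit 128) (nat_lit 7) (nat_lit 127) (ptt.get (2 * i)) (ptt.get (2 * i + 1))) (nat_lit 0) (nat_lit 7) = true := by
  decide +kernel

theorem pok : TabsOK (nat_lit 128) (nat_lit 7) (nat_lit 127) (nat_lit 7) pth pid := ⟨pok_id, (allR_of 0 7 7 (by decide) pok_0)⟩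

theorem pTM : TM 7 (nat_lit 128) (nat_lit 7) (nat_lit 127) (nat_lit 7) pid 128 pth [] pch :=
  ⟨pok, fun _ h => (List.not_mem_nil h).elim, by decide +kernel, by decide +kernel⟩

theorem pK : ∀ w ∈ SuzHTC.KP, wval (tp (nat_lit 128) (nat_lit 7) (nat_lit 127) ptt) w = 1 := pok.relsA _ (by decide +kernel)

noncomputable def pst : List AS := [⟨0, [[14, 14], [14, 12, 15, 13]], [[14], [14, 13]], [[0], [2], [4], [6], [8], [10], [0, 4], [0, 6], [0, 8], [0, 10], [0, 12], [2, 4], [2, 6], [2, 8], [2, 10], [2, 12], [4, 8], [4, 10], [4, 12], [6, 8], [6, 10], [6, 12], [8, 12], [10, 12], [0, 4, 8], [0, 4, 10], [0, 4, 12], [0, 6, 8], [0, 6, 10], [0, 6, 12], [0, 8, 12], [0, 10, 12], [2, 4, 8], [2, 4, 10], [2, 4, 12], [2, 6, 8], [2, 6, 10], [2, 6, 12], [2, 8, 12], [2, 10, 12], [4, 8, 12], [4, 10, 12], [6, 8, 12], [6, 10, 12], [0, 2, 4, 6], [0, 2, 6, 4], [0,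 2, 8, 10], [0, 2, 10, 8], [0, 4, 8, 12], [0, 4, 10, 12], [0, 6, 8, 12], [0, 6, 10, 12], [2, 4, 8, 12], [2, 4, 10, 12], [2, 6, 8, 12], [2, 6, 10, 12], [4, 6, 8, 10], [4, 6, 10, 8], [0, 2, 4, 6, 8], [0, 2, 4, 6, 10], [0, 2, 4, 8, 10], [0, 2, 4, 10, 8], [0, 2, 6, 4, 8], [0, 2, 6, 4, 10], [0, 2, 6, 8, 10], [0, 2, 6, 10, 8], [0, 4, 6, 8, 10], [0, 4, 6, 10, 8], [2, 4, 6, 8, 10], [2, 4, 6, 10, 8]], (.node 0 [] [] (nat_lit 0x0) (lf [(1, [0]), (2, [2]), (3, [4]), (4, [6]), (5, [8]), (6, [10]), (9, [0, 4]), (10, [0, 6]), (11, [0, 8]), (12, [0, 10]), (13, [0, 12]), (15, [2, 4]), (16, [2, 6]), (17, [2, 8]), (18, [2, 10]), (19, [2, 12]), (21, [4, 8]), (22, [4, 10]), (23, [4, 12]), (25, [6, 8]), (26, [6, 10]), (27, [6, 12]), (29, [8, 12]), (31, [10, 12]), (37, [0, 4, 8]), (38, [0, 4, 10]), (39, [0, 4, 12]), (41, [0, 6, 8]), (42, [0, 6, 10]), (43, [0, 6,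 12]), (45, [0, 8, 12]), (47, [0, 10, 12]), (53, [2, 4, 8]), (54, [2, 4, 10]), (55, [2, 4, 12]), (57, [2, 6, 8]), (58, [2, 6, 10]), (59, [2, 6, 12]), (61, [2, 8, 12]), (63, [2, 10, 12]), (67, [4, 8, 12]), (69, [4, 10, 12]), (73, [6, 8, 12]), (75, [6, 10, 12]), (76, [0, 2, 4, 6]), (79, [0, 2, 6, 4]), (82, [0, 2, 8, 10]), (83, [0, 2, 10, 8]), (87, [0, 4, 8, 12]), (89, [0, 4, 10, 12]), (93, [0, 6, 8, 12]), (95, [0, 6, 10, 12]), (103, [2, 4, 8, 12]), (105, [2, 4, 10, 12]), (109, [2, 6, 8, 12]), (111, [2, 6, 10, 12]), (112, [4, 6, 8, 10]), (113, [4, 6, 10, 8]), (114, [0, 2, 4, 6, 8]), (115, [0, 2, 4, 6, 10]), (116, [0, 2, 4, 8, 10]), (117, [0, 2, 4, 10, 8]), (118, [0, 2, 6, 4, 8]), (119, [0, 2, 6, 4, 10]), (120, [0, 2, 6, 8, 10]), (121, [0, 2, 6, 10, 8]), (122, [0, 4, 6, 8, 10]), (123, [0, 4, 6, 10, 8]), (124, [2, 4, 6, 8, 10]), (125, [2, 4, 6,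 10, 8])]) .nil)⟩,
  ⟨1, [[14, 14], [0, 14, 1, 15, 13], [14, 12, 15, 13]], [], [[2], [2, 4], [2, 6], [2, 8], [2, 10], [2, 12], [2, 4, 8], [2, 4, 10], [2, 4, 12], [2, 6, 8], [2, 6, 10], [2, 6, 12], [2, 8, 12], [2, 10, 12], [0, 2, 4, 6], [0, 2, 6, 4], [0, 2, 8, 10], [0, 2, 10, 8], [2, 4, 8, 12], [2, 4, 10, 12], [2, 6, 8, 12], [2, 6, 10, 12], [0, 2, 4, 6, 8], [0, 2, 4, 6, 10], [0, 2, 4, 8, 10], [0, 2, 4, 10, 8], [0, 2, 6, 4, 8], [0, 2, 6, 4, 10], [0, 2, 6, 8, 10], [0, 2, 6, 10, 8], [2, 4, 6, 8, 10], [2, 4, 6, 10, 8]], (.node 0 [] [] (nat_lit 0x0) (lf [(2, [2]), (15, [2, 4]), (16, [2, 6]), (17, [2, 8]), (18, [2, 10]), (19, [2, 12]), (53, [2, 4, 8]), (54, [2, 4, 10]), (55, [2, 4, 12]), (57, [2, 6, 8]), (58, [2, 6, 10]), (59, [2, 6, 12]), (61, [2, 8, 12]), (63, [2, 10, 12]), (76, [0, 2, 4, 6]), (79, [0, 2, 6, 4]), (82, [0, 2, 8, 10]), (83, [0, 2,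 10, 8]), (103, [2, 4, 8, 12]), (105, [2, 4, 10, 12]), (109, [2, 6, 8, 12]), (111, [2, 6, 10, 12]), (114, [0, 2, 4, 6, 8]), (115, [0, 2, 4, 6, 10]), (116, [0, 2, 4, 8, 10]), (117, [0, 2, 4, 10, 8]), (118, [0, 2, 6, 4, 8]), (119, [0, 2, 6, 4, 10]), (120, [0, 2, 6, 8, 10]), (121, [0, 2, 6, 10, 8]), (124, [2, 4, 6, 8, 10]), (125, [2, 4, 6, 10, 8])]) .nil)⟩,
  ⟨2, [[14, 14], [0, 14, 1, 15], [2, 14, 3, 15], [14, 12, 15, 13]], [[14], [14, 13]], [[4], [6], [8], [10], [4, 8], [4, 10], [4, 12], [6, 8], [6, 10], [6, 12], [8, 12], [10, 12], [4, 8, 12], [4, 10, 12], [6, 8, 12], [6, 10, 12], [4, 6, 8, 10], [4, 6, 10, 8]], (.node 0 [] [] (nat_lit 0x0) (lf [(3, [4]), (4, [6]), (5, [8]), (6, [10]), (21, [4, 8]), (22, [4, 10]), (23, [4, 12]), (25, [6, 8]), (26, [6, 10]), (27, [6, 12]), (29, [8, 12]), (31, [10, 12]), (67, [4, 8, 12]), (69, [4, 10, 12]), (73,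 [6, 8, 12]), (75, [6, 10, 12]), (112, [4, 6, 8, 10]), (113, [4, 6, 10, 8])]) .nil)⟩,
  ⟨3, [[14, 14], [4, 14, 5, 15, 13], [0, 14, 1, 15], [2, 14, 3, 15], [14, 12, 15, 13]], [], [[6], [6, 8], [6, 10], [6, 12], [6, 8, 12], [6, 10, 12], [4, 6, 8, 10], [4, 6, 10, 8]], (.node 0 [] [] (nat_lit 0x0) (lf [(4, [6]), (25, [6, 8]), (26, [6, 10]), (27, [6, 12]), (73, [6, 8, 12]), (75, [6, 10, 12]), (112, [4, 6, 8, 10]), (113, [4, 6, 10, 8])]) .nil)⟩,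
  ⟨4, [[14, 14], [0, 14, 1, 15], [2, 14, 3, 15], [4, 14, 5, 15], [6, 14, 7, 15], [14, 12, 15, 13]], [[14], [14, 13]], [[8], [10], [8, 12], [10, 12]], (.node 0 [] [] (nat_lit 0x0) (lf [(5, [8]), (6, [10]), (29, [8, 12]), (31, [10, 12])]) .nil)⟩,
  ⟨5, [[14, 14], [8, 14, 9, 15, 13], [0, 14, 1, 15], [2, 14, 3, 15], [4, 14, 5, 15], [6, 14, 7, 15], [14, 12, 15, 13]], [], [[10], [10, 12]], (.node 0 [] [] (nat_lit 0x0) (lf [(6, [10]), (31, [10, 12])]) .nil)⟩]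

theorem paut : autB (nat_lit 7) (nat_lit 127) ptt (nat_lit 128) 7 (pch.map Lv.b) pch pst [6] = true := by decide +kernel

theorem pprod : (pst.map fun s => s.L.length).prod = 2580480 := by decide +kernel

def W7 : List (List ℕ) := [[4], [2, 6], [8], [10], [0, 4], [2], [12]]

def CW : List (List (List ℕ)) := [[[4, 6, 8], [2, 4, 12], [2], [2, 0, 6, 10], [4, 10, 8], [2, 8, 12], [12]], [[4, 6, 10], [2, 6], [0, 2, 4, 8], [2, 12], [2, 10], [6, 8, 10], [12]], [[0, 4, 6, 8], [4], [2, 4, 12], [0, 2, 8, 10], [4, 10, 8], [2, 4, 8], [12]], [[6, 12], [2, 4, 6, 10], [2, 0, 8], [0, 6, 12], [0, 10, 8], [6, 8], [12]]]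

theorem l7 : (band (W7.all (lt2 7)) (band
      (allL (fixW (nat_lit 7) (nat_lit 127) ptt (pch.map Lv.b)) (SuzHTC.KP.map (subst W7))) (allR (fun i => fixW (nat_lit 7) (nat_lit 127) ptt (pch.map Lv.b)
        (itS W7 (2 * 3 + 1) [2 * i] ++ invW [2 * i])) 0 7))) = true := by
  decide +kernel

theorem l3 : ∀ j < 4, (band ((CW.getD j []).all (lt2 7)) (band
      (allL (fixW (nat_lit 7) (nat_lit 127) mtt (mch.map Lv.b)) (SuzHTC.KQ.map (subst (CW.getD j [])))) (allR (fun i => fixW (nat_lit 7) (nat_lit 127) mtt (mch.map Lv.b)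
        (itS (CW.getD j []) (2 * 1 + 1) [2 * i] ++ invW [2 * i])) 0 7))) = true := by
  decide +kernel

/-- The non-central involutions. -/
def sw : List (List ℕ) := [[0], [2], [4], [6], [0, 4], [0, 6], [0, 12], [2, 4], [2, 6], [2, 12], [4, 12], [6, 12], [0, 2, 8], [0, 2, 10], [0, 4, 12], [0, 6, 12], [2, 0, 8], [2, 0, 10], [2, 4, 12], [2, 6, 12], [4, 6, 8], [4, 6, 10], [6, 4, 8], [6, 4, 10], [0, 2, 4, 6], [0, 2, 4, 8], [0, 2, 4, 10], [0, 2, 6, 4], [0, 2, 6, 8], [0, 2, 6, 10], [0, 2, 8, 10], [0, 2, 10, 8], [0, 4, 6, 8], [0, 4, 6, 10], [0, 6, 4, 8], [0, 6, 4, 10], [2, 0, 4, 8], [2, 0, 4, 10], [2, 0, 6, 8], [2, 0, 6, 10], [2, 4, 6, 8], [2, 4, 6, 10], [2, 6, 4, 8], [2, 6, 4, 10], [4, 6, 8, 10], [4, 6, 10, 8], [0, 2, 4, 8, 10], [0, 2, 4, 10, 8], [0, 2, 6, 8, 10], [0, 2, 6, 10, 8], [0, 4, 6, 8, 10], [0, 4, 6, 10, 8], [2, 4, 6, 8, 10], [2, 4, 6,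 10, 8]]

theorem inv54 : solveB (nat_lit 7) (nat_lit 127) mtt (nat_lit 128) 7 (mch.map Lv.b) (fun _ => true) mch 0 [] [] [] [[14, 14]] [[14], [14, 13]] [] (memLL sw) id [] (.node 0 [] [] (nat_lit 0x0) (lf [(1, [0]), (2, [2]), (3, [4]), (4, [6]), (9, [0, 4]), (10, [0, 6]), (13, [0, 12]), (15, [2, 4]), (16, [2, 6]), (19, [2, 12]), (23, [4, 12]), (27, [6, 12]), (34, [0, 2, 8]), (50, [2, 0, 8]), (35, [0, 2, 10]), (51, [2, 0, 10]), (39, [0, 4, 12]), (43, [0, 6, 12]), (55, [2, 4, 12]), (59, [2, 6, 12]), (64, [4, 6, 8]), (70, [6, 4, 8]), (65, [4, 6, 10]), (71, [6, 4, 10]), (76, [0, 2, 4, 6]), (77, [0, 2, 4, 8]), (96, [2, 0, 4, 8]), (78, [0, 2, 4, 10]), (97, [2, 0, 4, 10]), (79, [0, 2, 6, 4]), (80, [0, 2, 6, 8]), (98, [2, 0, 6, 8]), (81, [0, 2, 6, 10]), (99, [2, 0, 6, 10]), (82, [0, 2, 8, 10]), (83, [0, 2, 10, 8]), (84, [0, 4, 6, 8]), (90, [0, 6,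 4, 8]), (85, [0, 4, 6, 10]), (91, [0, 6, 4, 10]), (100, [2, 4, 6, 8]), (106, [2, 6, 4, 8]), (101, [2, 4, 6, 10]), (107, [2, 6, 4, 10]), (112, [4, 6, 8, 10]), (113, [4, 6, 10, 8]), (116, [0, 2, 4, 8, 10]), (117, [0, 2, 4, 10, 8]), (120, [0, 2, 6, 8, 10]), (121, [0, 2, 6, 10, 8]), (122, [0, 4, 6, 8, 10]), (123, [0, 4, 6, 10, 8]), (124, [2, 4, 6, 8, 10]), (125, [2, 4, 6, 10, 8])]) .nil) = true := by
  decide +kernel

theorem inj54 : allR (fun p => allR (fun q => bif' (Nat.beq p q) true (bnot (fixW (nat_lit 7) (nat_lit 127) mtt (mch.map Lv.b) (getW sw p ++ invW (getW sw q))))) 0 54) 0 54 = true := by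
  decide +kernel

def gw : List (List ℕ) := [[0], [2], [4], [6], [60, 26], [62, 24], [12, 0]]

theorem gen54 : allR (fun i => fixW (nat_lit 7) (nat_lit 127) mtt (mch.map Lv.b) ([2 * i] ++ invW (subst sw (getW gw i)))) 0 7 = true := by
  decide +kernel


end Cfsg.Agent.Lib.SuzMQ
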