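import Cfsg.Agent.Lib.SuzMHT
import Cfsg.Agent.Lib.SuzMQ

/-! The action on the non-central involutions of the extraspecial group. -/

set_option autoImplicit false
set_option maxRecDepth 100000

namespace Cfsg.Agent.Lib.SuzMH

open Cfsg.Agent.Lib.PermNet Cfsg.Agent.Lib.Words Cfsg.Agent.Lib.PermGroup Cfsg.Agent.Lib.DCE Cfsg.Agent.Lib.PermModel Cfsg.Agent.Lib.BT

theorem aok_id : idB (nat_lit 54) (nat_lit 6) (nat_lit 63) aid = true := by decide +kernel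

theorem aok_0 : allR (fun i => okT (nat_lit 54) (nat_lit 6) (nat_lit 63) (att.get (2 * i)) (att.get (2 * i + 1))) (nat_lit 0) (nat_lit 32) = true := by
  decide +kernel

def adL0 : List (List ℕ) := [[23, 16, 15, 16, 18, 21, 16, 18, 16, 15, 16], [25, 22, 22], [27, 18, 16, 19, 21, 18, 15, 17, 14, 10], [29, 14, 4, 18, 21, 16, 18, 14, 16, 21], [31, 2, 20, 17, 18, 17, 14, 17, 19, 14], [33, 16, 0, 19, 17], [35, 17, 14, 18, 17, 14, 17, 19, 16, 0], [37, 18, 14], [39, 20, 18, 14, 17], [41, 38, 38, 36, 39, 39], [43, 39, 37, 4, 38, 38], [45, 42, 37], [47, 10, 9], [49, 8, 40, 45], [51, 44, 10, 41], [53, 39, 36, 39, 36], [55, 39, 37, 38, 38], [57, 38, 36, 38, 38, 37], [59, 0, 52, 57], [61, 52, 56, 54], [63, 58, 4, 58]]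

theorem ad0 : allL (fixA (nat_lit 6) (nat_lit 63) att (nat_lit 54)) adL0 = true := by decide +kernel

theorem ac : chB (nat_lit 6) (nat_lit 63) att (nat_lit 54) (fun _ => true) ach [] = true := by decide +kernel

def WI : List (List (List ℕ)) := [[[0, 0, 1], [0, 2, 1], [0, 4, 1], [0, 6, 1], [0, 8, 1], [0, 10, 1], [0, 12, 1]], [[2, 0, 3], [2, 2, 3], [2, 4, 3], [2, 6, 3], [2, 8, 3], [2, 10, 3], [2, 12, 3]], [[4, 0, 5], [4, 2, 5], [4, 4, 5], [4, 6, 5], [4, 8, 5], [4, 10, 5], [4, 12, 5]], [[6, 0, 7], [6, 2, 7], [6, 4, 7], [6, 6, 7], [6, 8, 7], [6, 10, 7], [6, 12, 7]], [[8, 0, 9], [8, 2, 9], [8, 4, 9], [8, 6, 9], [8, 8, 9], [8, 10, 9], [8, 12, 9]], [[10, 0, 11], [10, 2, 11], [10, 4, 11], [10, 6, 11], [10, 8, 11], [10, 10, 11], [10, 12, 11]], [[12, 0, 13], [12, 2, 13], [12, 4, 13], [12, 6, 13], [12, 8, 13], [12, 10, 13], [12, 12, 13]], [[4, 6, 8], [2, 4, 12],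 [2], [2, 0, 6, 10], [4, 10, 8], [2, 8, 12], [12]], [[4, 6, 10], [2, 6], [0, 2, 4, 8], [2, 12], [2, 10], [6, 8, 10], [12]], [[0, 4, 6, 8], [4], [2, 4, 12], [0, 2, 8, 10], [4, 10, 8], [2, 4, 8], [12]], [[6, 12], [2, 4, 6, 10], [2, 0, 8], [0, 6, 12], [0, 10, 8], [6, 8], [12]]]

theorem ahc : allR (fun i => allR (fun p => fixW (nat_lit 7) (nat_lit 127) SuzMQ.mtt (SuzMQ.mch.map Lv.b)
    (subst (WI.getD i []) (getW SuzMQ.sw p) ++ invW (getW SuzMQ.sw (lk (nat_lit 6) (nat_lit 63) (att.get (2 * i + 1)) p)))) 0 54) 0 11 = true := by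
  decide +kernel

theorem aok : TabsOK (nat_lit 54) (nat_lit 6) (nat_lit 63) (nat_lit 32) ath aid := ⟨aok_id, (allR_of 0 32 32 (by decide) aok_0)⟩

theorem aTM : TM 11 (nat_lit 54) (nat_lit 6) (nat_lit 63) (nat_lit 32) aid 1658880 ath hdefs ach :=
  ⟨aok, (aok.relsA _ ad0), ac, by decide +kernel⟩

noncomputable def ts_d : List Tst := [⟨[], [⟨0, [0], [24], [24]⟩], []⟩,
  ⟨[], [], [⟨0, [0], [24], [24]⟩, ⟨0, [1], [25], [25]⟩, ⟨0, [0, 0], [24, 24], [24, 24]⟩]⟩,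
  ⟨[⟨0, [1], [25], [25]⟩], [], []⟩,
  ⟨[⟨0, [1], [25], [25]⟩], [], []⟩,
  ⟨[], [⟨0, [0], [24], [24]⟩], []⟩,
  ⟨[], [], [⟨0, [0], [24], [24]⟩, ⟨0, [1], [25], [25]⟩, ⟨0, [0, 0], [24, 24], [24, 24]⟩]⟩]

noncomputable def ct_d : CT := (.node 0 [] [] (nat_lit 0x0) (nd [(0, (nd [(2, (nd [(3, (nd [(44, (nd [(1, (lf [(12, [])])),
  (9, (lf [(16, [0])]))]))]))]))])),
  (6, (nd [(2, (nd [(3, (nd [(44, (nd [(1, (lf [(16, [2])])),
  (9, (lf [(12, [0, 2])]))]))]))]))]))]) .nil)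

theorem s_d : solveB (nat_lit 6) (nat_lit 63) att (nat_lit 54) 500 (ach.map Lv.b) (fun _ => true) ach 0 []
    [[24]] [[24]] (prEq 500 [[24]] [[24]] ++ [[1000, 1000]]) [] [] (memLL [[], [0], [2], [0, 2]]) id ts_d ct_d = true := by
  decide +kernel

noncomputable def ts_m : List Tst := [⟨[], [], [⟨0, [0], [24], [25]⟩, ⟨0, [1], [25], [24]⟩, ⟨0, [0, 0], [24, 24], [25, 25]⟩]⟩,
  ⟨[⟨0, [1], [25], [24]⟩], [], []⟩,
  ⟨[⟨0, [1], [25], [24]⟩], [], []⟩,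
  ⟨[], [⟨0, [0], [24], [25]⟩], []⟩,
  ⟨[], [], [⟨0, [0], [24], [25]⟩, ⟨0, [1], [25], [24]⟩, ⟨0, [0, 0], [24, 24], [25, 25]⟩]⟩]

noncomputable def ct_m : CT := .nil

theorem s_m : solveB (nat_lit 6) (nat_lit 63) att (nat_lit 54) 500 (ach.map Lv.b) (fun _ => true) ach 1 []
    [[24]] [[25]] (prEq 500 [[24]] [[25]] ++ [[1000, 1000, 1]]) [] [] (fun _ => false) id ts_m ct_m = true := by
  decide +kernel



end Cfsg.Agent.Lib.SuzMH
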