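import Cfsg.Agent.Lib.SuzMHT

/-! Certificates. -/

set_option autoImplicit false
set_option maxRecDepth 100000

namespace Cfsg.Agent.Lib.SuzMH

open Cfsg.Agent.Lib.PermNet Cfsg.Agent.Lib.Words Cfsg.Agent.Lib.PermGroup Cfsg.Agent.Lib.DCE Cfsg.Agent.Lib.PermModel Cfsg.Agent.Lib.BT

noncomputable def ts_c : List Tst := [⟨[], [⟨0, [0], [24], [24]⟩, ⟨0, [2], [26], [26]⟩], []⟩,
  ⟨[], [⟨0, [2], [26], [26]⟩], [⟨0, [0], [24], [24]⟩, ⟨0, [1], [25], [25]⟩, ⟨0, [0, 0], [24, 24], [24, 24]⟩]⟩,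
  ⟨[⟨0, [1], [25], [25]⟩], [], []⟩,
  ⟨[⟨0, [1], [25], [25]⟩], [], []⟩,
  ⟨[], [⟨0, [0], [24], [24]⟩, ⟨0, [2], [26], [26]⟩], []⟩,
  ⟨[], [], [⟨0, [0], [24], [24]⟩, ⟨0, [1], [25], [25]⟩, ⟨0, [2], [26], [26]⟩]⟩,
  ⟨[], [⟨0, [0, 0, 2], [24, 24, 26], [24, 24, 26]⟩], [⟨0, [0], [24], [24]⟩, ⟨0, [1], [25], [25]⟩, ⟨0, [2], [26], [26]⟩]⟩]

noncomputable def ct_c : CT := (.node 0 [] [] (nat_lit 0x0) (nd [(0, (nd [(2, (nd [(3, (nd [(44, (nd [(1, (nd [(12, (lf [(216, []), (217, [0, 2, 0, 2])]))])),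
  (9, (nd [(16, (lf [(216, [0]), (217, [2, 0, 2])]))]))]))]))]))])),
  (6, (nd [(2, (nd [(3, (nd [(44, (nd [(1, (nd [(16, (lf [(231, [2]), (246, [0, 2, 0])]))])),
  (9, (nd [(12, (lf [(231, [2, 0]), (246, [0, 2])]))]))]))]))]))]))]) .nil)

theorem s_c : solveB (nat_lit 11) (nat_lit 2047) htt (nat_lit 1944) 500 B2 (fun _ => true) hch 0 []
    [[24], [26]] [[24], [26]] (prEq 500 [[24], [26]] [[24], [26]] ++ ([] : List (List ℕ))) [] [] (allL (okL [0, 1])) id ts_c ct_c = true := by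
  decide +kernel

noncomputable def ts_r : List Tst := [⟨[], [⟨0, [0], [26], [26]⟩, ⟨0, [2], [24, 24, 26, 26, 24, 26], [24, 24, 26, 26, 24, 26]⟩], []⟩,
  ⟨[], [⟨0, [0, 2, 0], [26, 24, 24, 26, 26, 24, 26, 26], [26, 24, 24, 26, 26, 24, 26, 26]⟩], [⟨0, [0], [26], [26]⟩, ⟨0, [1], [27], [27]⟩, ⟨0, [2], [24, 24, 26, 26, 24, 26], [24, 24, 26, 26, 24, 26]⟩]⟩,
  ⟨[⟨0, [2], [24, 24, 26, 26, 24, 26], [24, 24, 26, 26, 24, 26]⟩], [], []⟩,
  ⟨[], [⟨0, [0], [26], [26]⟩, ⟨0, [2], [24, 24, 26, 26, 24, 26], [24, 24, 26, 26, 24, 26]⟩], []⟩,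
  ⟨[], [], [⟨0, [0], [26], [26]⟩, ⟨0, [1], [27], [27]⟩, ⟨0, [2], [24, 24, 26, 26, 24, 26], [24, 24, 26, 26, 24, 26]⟩]⟩,
  ⟨[], [], [⟨0, [0], [26], [26]⟩, ⟨0, [1], [27], [27]⟩, ⟨0, [2], [24, 24, 26, 26, 24, 26], [24, 24, 26, 26, 24, 26]⟩]⟩]

noncomputable def ct_r : CT := (.node 0 [] [] (nat_lit 0x0) (nd [(2, (nd [(5, (nd [(50, (nd [(7, (nd [(25, (lf [(220, [34])]))]))]))]))]))]) .nil)

theorem s_r : solveB (nat_lit 11) (nat_lit 2047) htt (nat_lit 1944) 500 B2 (fun _ => true) hch 1 []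
    [[26], [24, 24, 26, 26, 24, 26]] [[26], [24, 24, 26, 26, 24, 26]] (prEq 500 [[26], [24, 24, 26, 26, 24, 26]] [[26], [24, 24, 26, 26, 24, 26]] ++ [[1000, 24, 1000, 25, 1001, 24, 1001, 25, 0, 13], [1000, 24, 1000, 24, 1000, 24, 1000, 24, 1000, 24]]) [] [] (memLL [[34]]) id ts_r ct_r = true := by
  decide +kernel

def Lf : List (List ℕ × List (List ℕ × List ℕ)) := [([], [([32], [])]),
  ([12], [([32], [10, 8])]),
  ([0], [([32], [6])]),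
  ([12, 0], [([32], [10, 8, 6])]),
  ([4], [([32], [10, 6])]),
  ([12, 4], [([32], [8, 6])]),
  ([0, 4], [([32], [10])]),
  ([12, 0, 4], [([32], [8])]),
  ([0, 34], [([32], [4])]),
  ([12, 0, 34], [([32], [10, 8, 4])]),
  ([34], [([32], [6, 4])]),
  ([12, 34], [([32], [10, 8, 6, 4])]),
  ([0, 4, 34], [([32], [10, 6, 4])]),
  ([12, 0, 4, 34], [([32], [8, 6, 4])]),
  ([4, 34], [([32], [10, 4])]),
  ([12, 4, 34], [([32], [8, 4])])]

noncomputable def ts_w : List Tst := [⟨[], [⟨0, [0], [4], [4]⟩, ⟨0, [2], [34], [34]⟩, ⟨0, [4], [26], [26]⟩, ⟨0, [6], [11, 8, 4], [11, 8, 4]⟩], []⟩,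
  ⟨[], [⟨0, [0, 6], [4, 11, 8, 4], [4, 11, 8, 4]⟩, ⟨0, [4, 6, 5], [26, 11, 8, 4, 27], [26, 11, 8, 4, 27]⟩], [⟨0, [0], [4], [4]⟩, ⟨0, [2], [34], [34]⟩, ⟨0, [4], [26], [26]⟩]⟩,
  ⟨[], [⟨0, [4], [26], [26]⟩, ⟨0, [0, 6], [4, 11, 8, 4], [4, 11, 8, 4]⟩], [⟨0, [0], [4], [4]⟩, ⟨0, [2], [34], [34]⟩, ⟨0, [0, 2], [4, 34], [4, 34]⟩]⟩,
  ⟨[], [⟨0, [0], [4], [4]⟩, ⟨0, [4], [26], [26]⟩, ⟨0, [6], [11, 8, 4], [11, 8, 4]⟩], [⟨0, [2], [34], [34]⟩, ⟨0, [0, 2], [4, 34], [4, 34]⟩, ⟨0, [2, 4], [34, 26], [34, 26]⟩]⟩,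
  ⟨[], [⟨0, [0], [4], [4]⟩, ⟨0, [5, 6, 4], [27, 11, 8, 4, 26], [27, 11, 8, 4, 26]⟩], [⟨0, [2], [34], [34]⟩, ⟨0, [4], [26], [26]⟩, ⟨0, [5], [27], [27]⟩]⟩,
  ⟨[], [⟨0, [0, 2], [4, 34], [4, 34]⟩, ⟨0, [0, 5, 6], [4, 27, 11, 8, 4], [4, 27, 11, 8, 4]⟩], [⟨0, [0], [4], [4]⟩, ⟨0, [2], [34], [34]⟩, ⟨0, [4], [26], [26]⟩]⟩]

noncomputable def ct_w : CT := (.node 0 [] [] (nat_lit 0x0) (nd [(2, (nd [(3, (nd [(44, (nd [(1, (nd [(12, (lf [(216, []), (217, [12])]))])),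
  (9, (nd [(16, (lf [(216, [0]), (217, [12, 0])]))]))]))])),
  (11, (nd [(45, (nd [(1, (nd [(12, (lf [(220, [4]), (224, [12, 4])]))])),
  (9, (nd [(16, (lf [(220, [0, 4]), (224, [12, 0, 4])]))]))]))])),
  (5, (nd [(50, (nd [(18, (nd [(36, (lf [(220, [0, 34]), (224, [12, 0, 34])]))])),
  (7, (nd [(25, (lf [(220, [34]), (224, [12, 34])]))]))]))])),
  (15, (nd [(51, (nd [(18, (nd [(36, (lf [(216, [0, 4, 34]), (217, [12, 0, 4, 34])]))])),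
  (7, (nd [(25, (lf [(216, [4, 34]), (217, [12, 4, 34])]))]))]))]))]))]) .nil)

theorem s_w : solveB (nat_lit 11) (nat_lit 2047) htt (nat_lit 1944) 500 B2 (fun _ => true) hch 1 []
    [[4], [34], [26], [11, 8, 4]] [[4], [34], [26], [11, 8, 4]] (prEq 500 [[4], [34], [26], [11, 8, 4]] [[4], [34], [26], [11, 8, 4]] ++ ([] : List (List ℕ))) [] [] (memLL (Lf.map Prod.fst)) id ts_w ct_w = true := by
  decide +kernel

def us : List (List ℕ) := [[24], [26], [34], [4], [12, 0], [0]]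

def vs : List (List ℕ) := [[24], [26], [4], [34], [12], [0]]

def st0 : List (List ℕ × List ℕ) := [([32], [8]), ([32], [10, 8, 4]), ([32], [10, 8, 6]), ([32], [10, 8])]

theorem tc0 : tchain (nat_lit 11) (nat_lit 2047) htt B2 us vs [12] st0
    (fun k' => fixW (nat_lit 11) (nat_lit 2047) htt B2 (k' ++ invW [12])) = true := by decide +kernel

def st1 : List (List ℕ × List ℕ) := [([32], [10]), ([32], [10, 4]), ([32], [6, 4]), ([32], [6])]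

theorem tc1 : tchain (nat_lit 11) (nat_lit 2047) htt B2 us vs [0] st1
    (fun k' => fixW (nat_lit 11) (nat_lit 2047) htt B2 (k' ++ invW [0])) = true := by decide +kernel

def st2 : List (List ℕ × List ℕ) := [([32], [4]), ([32], [10, 6]), ([32], [4]), ([32], [10, 6])]

theorem tc2 : tchain (nat_lit 11) (nat_lit 2047) htt B2 us vs [4] st2
    (fun k' => fixW (nat_lit 11) (nat_lit 2047) htt B2 (k' ++ invW [4])) = true := by decide +kernel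

def st3 : List (List ℕ × List ℕ) := [([32], [6]), ([32], [10]), ([32], [10, 4]), ([32], [6, 4])]

theorem tc3 : tchain (nat_lit 11) (nat_lit 2047) htt B2 us vs [34] st3
    (fun k' => fixW (nat_lit 11) (nat_lit 2047) htt B2 (k' ++ invW [34])) = true := by decide +kernel

def st4 : List (List ℕ × List ℕ) := [([32], [2]), ([32], [2]), ([32], [2]), ([32], [2])]

theorem tc4 : tchain (nat_lit 11) (nat_lit 2047) htt B2 us vs [26] st4
    (fun k' => fixW (nat_lit 11) (nat_lit 2047) htt B2 (k' ++ invW [26])) = true := by decide +kernel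

def st5 : List (List ℕ × List ℕ) := [([32], [0, 0, 4, 1, 4, 1]), ([32], [4, 2, 1, 4, 1, 6, 2, 1, 6, 4, 2, 1]), ([32], [4, 0, 6, 2, 1, 1, 6, 2, 1, 2]), ([32], [10, 0, 0, 6, 0, 0, 6, 0])]

theorem tc5 : tchain (nat_lit 11) (nat_lit 2047) htt B2 us vs [11, 8, 4] st5
    (fun k' => fixW (nat_lit 11) (nat_lit 2047) htt B2 (k' ++ invW [11, 8, 4])) = true := by decide +kernel

theorem tf : allL (fun e => bif' (memLL [[], [0, 4, 34]] e.1) true (band (eqLL (e.2.map Prod.fst) [[32]])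
      (tchain (nat_lit 11) (nat_lit 2047) htt B2 us vs e.1 e.2 fun k => bnot (fixW (nat_lit 11) (nat_lit 2047) htt B2 (e.1 ++ invW k))))) Lf = true := by
  decide +kernel

def reps : List (List ℕ) := [[], [12], [0], [18, 20, 16, 19, 2, 17, 21, 15, 17, 18], [17, 8, 20, 18, 17, 18, 21]]

noncomputable def ts_i : List Tst := [⟨[], [], []⟩,
  ⟨[], [], []⟩,
  ⟨[], [], []⟩,
  ⟨[], [], []⟩,
  ⟨[], [], []⟩,
  ⟨[], [], []⟩,
  ⟨[], [], []⟩]

noncomputable def ct_i : CT := (.node 0 [] [] (nat_lit 0x0) (nd [(0, (nd [(1, (nd [(3, (nd [(2, (nd [(12, (nd [(13, (lf [(216, [0]), (217, [1])]))]))])),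
  (10, (nd [(12, (nd [(13, (lf [(621, [2, 20, 2]), (637, [2, 20])]))]))]))])),
  (11, (nd [(2, (nd [(12, (nd [(13, (lf [(220, [2, 32]), (224, [2, 32, 2])]))]))])),
  (10, (nd [(12, (nd [(17, (lf [(1309, [2, 14, 2]), (1403, [2, 14])]))])),
  (16, (nd [(13, (lf [(665, [2, 16, 2]), (698, [2, 16])])),
  (17, (lf [(1091, [2, 31, 14]), (1298, [2, 22, 14])]))]))]))])),
  (44, (nd [(2, (nd [(36, (nd [(26, (lf [(220, [3]), (224, [3, 46])]))])),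
  (25, (nd [(37, (lf [(468, [3, 10, 6]), (412, [3, 8, 6])]))]))]))])),
  (45, (nd [(2, (nd [(25, (nd [(37, (lf [(354, [3, 6]), (405, [3, 59])]))])),
  (36, (nd [(26, (lf [(216, [3, 10]), (217, [3, 8])]))]))]))])),
  (22, (nd [(2, (nd [(16, (nd [(37, (lf [(217, [3, 36, 8]), (216, [3, 27, 8])])),
  (26, (lf [(411, [3, 6, 36]), (454, [3, 41, 6])]))]))]))])),
  (20, (nd [(2, (nd [(16, (nd [(37, (lf [(224, [3, 27]), (220, [3, 36])])),
  (26, (lf [(472, [3, 59, 27]), (520, [3, 27, 6])]))]))]))])),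
  (21, (nd [(2, (nd [(36, (nd [(17, (lf [(223, [3, 30, 6]), (219, [3, 26, 6])]))])),
  (25, (nd [(17, (lf [(217, [3, 26]), (216, [3, 37, 10])]))]))]))])),
  (23, (nd [(2, (nd [(36, (nd [(17, (lf [(237, [3, 40, 6]), (228, [3, 31, 6])]))])),
  (25, (nd [(17, (lf [(224, [3, 30, 8]), (220, [3, 37])]))]))]))]))])),
  (9, (nd [(3, (nd [(2, (nd [(16, (nd [(17, (lf [(216, [2]), (217, [2, 2])]))]))])),
  (10, (nd [(16, (nd [(17, (lf [(621, [2, 21]), (637, [2, 21, 2])]))]))]))])),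
  (11, (nd [(2, (nd [(16, (nd [(17, (lf [(220, [2, 33]), (224, [2, 33, 2])]))]))])),
  (10, (nd [(16, (nd [(13, (lf [(1309, [2, 15, 2]), (1403, [2, 15])]))])),
  (12, (nd [(17, (lf [(665, [2, 17, 2]), (698, [2, 17])])),
  (13, (lf [(1091, [2, 43, 14]), (1298, [2, 55, 14])]))]))]))])),
  (44, (nd [(2, (nd [(25, (nd [(37, (lf [(220, [3, 54, 6]), (224, [3, 48])]))])),
  (36, (nd [(26, (lf [(468, [3, 54]), (412, [3, 55, 8])]))]))]))])),
  (45, (nd [(2, (nd [(36, (nd [(26, (lf [(354, [3, 55]), (405, [3, 42, 6])]))])),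
  (25, (nd [(37, (lf [(216, [3, 55, 6]), (217, [3, 42])]))]))]))])),
  (22, (nd [(2, (nd [(12, (nd [(26, (lf [(217, [3, 45]), (216, [3, 27, 42])])),
  (37, (lf [(411, [3, 27, 54]), (454, [3, 59, 45])]))]))]))])),
  (20, (nd [(2, (nd [(12, (nd [(26, (lf [(224, [3, 45, 10]), (220, [3, 45, 8])])),
  (37, (lf [(472, [3, 45, 6]), (520, [3, 27, 55])]))]))]))])),
  (21, (nd [(2, (nd [(25, (nd [(13, (lf [(223, [3, 57, 32, 6]), (219, [3, 40, 54])]))])),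
  (36, (nd [(13, (lf [(217, [3, 37, 42]), (216, [3, 26, 48])]))]))]))])),
  (23, (nd [(2, (nd [(25, (nd [(13, (lf [(237, [3, 26, 54]), (228, [3, 40, 42, 6])]))])),
  (36, (nd [(13, (lf [(224, [3, 57, 32]), (220, [3, 26, 42])]))]))]))]))])),
  (41, (nd [(5, (nd [(4, (nd [(52, (nd [(27, (lf [(665, [4]), (698, [4, 34, 4])]))]))]))])),
  (15, (nd [(14, (nd [(53, (nd [(27, (lf [(217, [4, 2]), (216, [4, 34, 2])]))]))]))]))])),
  (46, (nd [(51, (nd [(2, (nd [(17, (nd [(16, (lf [(224, [3, 42, 52]), (220, [3, 60, 52])]))])),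
  (13, (nd [(12, (lf [(412, [3, 42, 57]), (468, [3, 55, 52])]))]))]))])),
  (50, (nd [(2, (nd [(17, (nd [(16, (lf [(216, [3, 54, 56]), (217, [3, 32, 45, 6])]))])),
  (13, (nd [(12, (lf [(405, [3, 32, 45]), (354, [3, 39, 22, 6])]))]))]))])),
  (15, (nd [(2, (nd [(37, (nd [(36, (lf [(223, [3, 30, 14, 8]), (219, [3, 40, 33, 6])]))])),
  (26, (nd [(25, (lf [(411, [3, 30, 32, 23]), (454, [3, 18, 25, 6])]))]))])),
  (10, (nd [(37, (nd [(25, (lf [(1081, [3, 41, 23, 33]), (942, [3, 27, 21, 24])]))]))]))])),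
  (5, (nd [(2, (nd [(37, (nd [(36, (lf [(228, [3, 18, 25, 10]), (237, [3, 18, 25, 8])]))])),
  (26, (nd [(25, (lf [(520, [3, 33, 44]), (472, [3, 40, 33, 8])]))]))])),
  (10, (nd [(26, (nd [(36, (lf [(663, [3, 18, 45, 23]), (639, [3, 31, 16, 24])]))]))]))]))])),
  (31, (nd [(44, (nd [(2, (nd [(37, (nd [(36, (lf [(468, [3, 57, 46]), (412, [3, 57])]))])),
  (26, (nd [(25, (lf [(224, [3, 52, 42]), (220, [3, 2, 56])]))]))]))])),
  (45, (nd [(2, (nd [(37, (nd [(36, (lf [(354, [3, 56, 8]), (405, [3, 56, 10])]))])),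
  (26, (nd [(25, (lf [(216, [3, 57, 6]), (217, [3, 52])]))]))]))])),
  (11, (nd [(2, (nd [(17, (nd [(16, (lf [(472, [3, 33, 26]), (520, [3, 33, 37, 10])]))])),
  (13, (nd [(12, (lf [(228, [3, 33, 40, 6]), (237, [3, 31, 14])]))]))]))])),
  (3, (nd [(2, (nd [(17, (nd [(16, (lf [(454, [3, 37, 33, 8]), (411, [3, 37, 33, 10])]))])),
  (13, (nd [(12, (lf [(223, [3, 56, 31, 14]), (219, [3, 37, 33, 6])]))]))])),
  (10, (nd [(17, (nd [(16, (lf [(1167, [3, 27, 23, 33]), (1090, [3, 41, 21, 24])]))])),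
  (13, (nd [(12, (lf [(662, [3, 24, 59, 33]), (638, [3, 36, 21, 24])]))]))]))]))])),
  (43, (nd [(5, (nd [(4, (nd [(53, (nd [(24, (lf [(665, [4, 4]), (698, [4, 34])]))]))]))])),
  (15, (nd [(14, (nd [(52, (nd [(24, (lf [(217, [4, 2, 34]), (216, [4, 4, 2])]))]))]))]))])),
  (40, (nd [(5, (nd [(4, (nd [(27, (nd [(53, (lf [(1403, [4, 24]), (1309, [4, 57])]))]))]))])),
  (15, (nd [(14, (nd [(27, (nd [(52, (lf [(216, [4, 24, 2]), (217, [4, 44, 2])]))]))]))]))])),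
  (47, (nd [(51, (nd [(2, (nd [(13, (nd [(12, (lf [(224, [3, 39, 22]), (220, [3, 60, 56, 6])]))])),
  (17, (nd [(16, (lf [(412, [3, 45, 32]), (468, [3, 42, 56])]))]))]))])),
  (50, (nd [(2, (nd [(13, (nd [(12, (lf [(216, [3, 31, 18]), (217, [3, 54, 57])]))])),
  (17, (nd [(16, (lf [(405, [3, 32, 27]), (354, [3, 32, 36])]))]))]))])),
  (15, (nd [(2, (nd [(26, (nd [(25, (lf [(223, [3, 30, 10, 14]), (219, [3, 30, 14])]))])),
  (37, (nd [(36, (lf [(411, [3, 18, 61, 24]), (454, [3, 18, 46, 25])]))]))])),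
  (10, (nd [(26, (nd [(36, (lf [(1081, [3, 31, 16, 24, 6]), (942, [3, 25, 54, 33])]))]))]))])),
  (5, (nd [(2, (nd [(26, (nd [(25, (lf [(228, [3, 18, 25]), (237, [3, 57, 30, 14])]))])),
  (37, (nd [(36, (lf [(520, [3, 40, 33]), (472, [3, 44, 33])]))]))])),
  (10, (nd [(37, (nd [(25, (lf [(663, [3, 18, 39, 23]), (639, [3, 30, 14, 48])]))]))]))]))])),
  (30, (nd [(44, (nd [(2, (nd [(26, (nd [(25, (lf [(468, [3, 56]), (412, [3, 41, 32])]))])),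
  (37, (nd [(36, (lf [(224, [3, 52, 8]), (220, [3, 52, 10])]))]))]))])),
  (45, (nd [(2, (nd [(26, (nd [(25, (lf [(354, [3, 57, 10]), (405, [3, 57, 8])]))])),
  (37, (nd [(36, (lf [(216, [3, 52, 48]), (217, [3, 56, 6])]))]))]))])),
  (11, (nd [(2, (nd [(13, (nd [(12, (lf [(472, [3, 33, 30, 8]), (520, [3, 33, 37])]))])),
  (17, (nd [(16, (lf [(228, [3, 33, 30, 6]), (237, [3, 33, 26, 6])]))]))]))])),
  (3, (nd [(2, (nd [(13, (nd [(12, (lf [(454, [3, 31, 32, 23]), (411, [3, 37, 33])]))])),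
  (17, (nd [(16, (lf [(223, [3, 54, 30, 14]), (219, [3, 42, 30, 14])]))]))])),
  (10, (nd [(13, (nd [(12, (lf [(1167, [3, 30, 16, 24]), (1090, [3, 33, 30, 55])]))])),
  (17, (nd [(16, (lf [(662, [3, 24, 56, 33]), (638, [3, 23, 18, 25])]))]))]))]))])),
  (42, (nd [(5, (nd [(4, (nd [(24, (nd [(52, (lf [(1403, [4, 56]), (1309, [4, 44])]))]))]))])),
  (15, (nd [(14, (nd [(24, (nd [(53, (lf [(216, [4, 57, 2]), (217, [4, 56, 2])]))]))]))]))])),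
  (52, (nd [(15, (nd [(14, (nd [(41, (nd [(42, (lf [(216, [4, 25, 2]), (217, [4, 2, 45])]))]))]))])),
  (5, (nd [(4, (nd [(43, (nd [(40, (lf [(1091, [4, 45]), (1298, [4, 25])]))]))]))]))])),
  (48, (nd [(11, (nd [(14, (nd [(39, (nd [(28, (lf [(468, [3, 30, 14, 44]), (412, [3, 25, 15, 25])]))]))])),
  (4, (nd [(29, (nd [(38, (lf [(663, [3, 27, 17, 22]), (639, [3, 25, 41, 33])]))]))]))])),
  (3, (nd [(14, (nd [(29, (nd [(28, (lf [(454, [3, 19, 38, 24]), (411, [3, 19, 25, 56])]))])),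
  (39, (nd [(38, (lf [(223, [3, 24, 33, 8]), (219, [3, 17, 22, 6])]))]))])),
  (4, (nd [(29, (nd [(28, (lf [(1167, [3, 46, 17, 22]), (1090, [3, 17, 22])]))])),
  (39, (nd [(38, (lf [(662, [3, 28, 24, 33]), (638, [3, 31, 28, 19])]))]))]))]))])),
  (28, (nd [(11, (nd [(14, (nd [(19, (nd [(49, (lf [(520, [3, 39, 56, 33]), (472, [3, 31, 44, 17])]))]))])),
  (4, (nd [(19, (nd [(48, (lf [(639, [3, 59, 25, 33]), (663, [3, 16, 42, 24])]))]))]))])),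
  (3, (nd [(14, (nd [(8, (nd [(49, (lf [(354, [3, 25, 16, 38]), (405, [3, 21, 54, 22])])),
  (48, (lf [(223, [3, 17, 40, 23]), (219, [3, 31, 23, 14])]))]))])),
  (4, (nd [(8, (nd [(49, (lf [(942, [3, 38, 30, 14]), (1081, [3, 21, 59, 23])])),
  (48, (lf [(662, [3, 45, 17, 22]), (638, [3, 33, 16, 20])]))]))]))]))])),
  (7, (nd [(5, (nd [(2, (nd [(25, (nd [(26, (lf [(224, [4, 39]), (220, [4, 23])]))]))]))])),
  (15, (nd [(2, (nd [(25, (nd [(26, (lf [(217, [4, 15, 31]), (216, [4, 23, 2])]))]))]))])),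
  (51, (nd [(2, (nd [(12, (nd [(17, (lf [(468, [3, 45, 26, 6]), (412, [3, 45, 30, 6])]))])),
  (16, (nd [(13, (lf [(224, [3, 26, 42, 27]), (220, [3, 48, 45, 26])]))]))]))])),
  (50, (nd [(2, (nd [(16, (nd [(13, (lf [(217, [3, 23, 14, 16]), (216, [3, 44, 17, 21])]))])),
  (12, (nd [(17, (lf [(354, [3, 45, 40, 6]), (405, [3, 45, 31, 6])]))]))]))])),
  (32, (nd [(2, (nd [(36, (nd [(17, (lf [(216, [3, 44, 26]), (217, [3, 48, 27])])),
  (13, (lf [(454, [3, 54, 45]), (411, [3, 26, 44, 6])]))]))]))])),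
  (34, (nd [(2, (nd [(36, (nd [(17, (lf [(220, [3, 42, 27]), (224, [3, 42, 36])])),
  (13, (lf [(520, [3, 21, 17]), (472, [3, 33, 52])]))]))]))])),
  (33, (nd [(2, (nd [(12, (nd [(37, (lf [(220, [3, 45, 27]), (224, [3, 45, 36])]))])),
  (16, (nd [(37, (lf [(237, [3, 44, 6]), (228, [3, 55, 26])]))]))]))])),
  (35, (nd [(2, (nd [(12, (nd [(37, (lf [(216, [3, 56, 32]), (217, [3, 44, 48])]))])),
  (16, (nd [(37, (lf [(223, [3, 54, 37]), (219, [3, 55, 37])]))]))]))]))])),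
  (38, (nd [(11, (nd [(14, (nd [(8, (nd [(48, (lf [(472, [3, 22, 18, 25]), (520, [3, 38, 18, 25])]))]))])),
  (4, (nd [(8, (nd [(49, (lf [(639, [3, 56, 25, 33]), (663, [3, 57, 25, 33])]))]))]))])),
  (3, (nd [(14, (nd [(19, (nd [(49, (lf [(219, [3, 43, 24, 33]), (223, [3, 42, 24, 33])])),
  (48, (lf [(354, [3, 16, 18, 20]), (405, [3, 33, 20, 16])]))]))])),
  (4, (nd [(19, (nd [(49, (lf [(638, [3, 18, 33, 20]), (662, [3, 44, 25, 33])])),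
  (48, (lf [(942, [3, 30, 25, 14]), (1081, [3, 15, 33, 20])]))]))]))]))])),
  (39, (nd [(11, (nd [(14, (nd [(49, (nd [(8, (lf [(228, [3, 14, 38, 24]), (237, [3, 24, 21, 24])]))]))])),
  (4, (nd [(48, (nd [(8, (lf [(639, [3, 60, 17, 22]), (663, [3, 28, 36, 33])]))]))]))])),
  (3, (nd [(14, (nd [(49, (nd [(19, (lf [(405, [3, 30, 44, 20]), (354, [3, 23, 41, 33])]))])),
  (48, (nd [(19, (lf [(454, [3, 25, 2, 33]), (411, [3, 25, 33, 6])]))]))])),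
  (4, (nd [(49, (nd [(19, (lf [(1081, [3, 25, 33, 8]), (942, [3, 25, 33, 10])]))])),
  (48, (nd [(19, (lf [(1167, [3, 23, 15, 25]), (1090, [3, 36, 17, 22])]))]))]))]))])),
  (53, (nd [(15, (nd [(14, (nd [(43, (nd [(40, (lf [(216, [4, 45, 2]), (217, [4, 37, 2])]))]))]))])),
  (5, (nd [(4, (nd [(41, (nd [(42, (lf [(1091, [4, 45, 4]), (1298, [4, 37])]))]))]))]))])),
  (49, (nd [(11, (nd [(14, (nd [(29, (nd [(38, (lf [(468, [3, 27, 24, 33]), (412, [3, 31, 44, 20])]))]))])),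
  (4, (nd [(39, (nd [(28, (lf [(639, [3, 37, 25, 33]), (663, [3, 17, 34, 38])]))]))]))])),
  (3, (nd [(14, (nd [(29, (nd [(28, (lf [(219, [3, 24, 33]), (223, [3, 17, 6, 22])]))])),
  (39, (nd [(38, (lf [(454, [3, 19, 52, 25]), (411, [3, 30, 22, 19])]))]))])),
  (4, (nd [(29, (nd [(28, (lf [(638, [3, 38, 21, 24]), (662, [3, 58, 16, 38])]))])),
  (39, (nd [(38, (lf [(1167, [3, 17, 22, 8]), (1090, [3, 17, 22, 10])]))]))]))]))])),
  (8, (nd [(3, (nd [(14, (nd [(28, (nd [(29, (lf [(217, [4, 22, 2]), (216, [4, 43, 2])]))]))])),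
  (4, (nd [(28, (nd [(29, (lf [(637, [4, 22]), (621, [4, 55])]))]))]))]))])),
  (27, (nd [(15, (nd [(4, (nd [(42, (nd [(41, (lf [(1090, [3, 16, 38]), (1167, [3, 42, 25, 33])]))])),
  (40, (nd [(43, (lf [(638, [3, 39, 31, 14]), (662, [3, 31, 25, 14])])),
  (41, (lf [(942, [3, 22, 59, 33]), (1081, [3, 31, 20, 22])]))]))]))])),
  (5, (nd [(14, (nd [(42, (nd [(41, (lf [(472, [3, 16, 38, 6]), (520, [3, 22, 42, 33])]))])),
  (40, (nd [(43, (lf [(228, [3, 56, 24, 33]), (237, [3, 23, 33, 26])])),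
  (41, (lf [(412, [3, 17, 38, 32]), (468, [3, 22, 56, 33, 6])]))]))]))]))])),
  (18, (nd [(5, (nd [(2, (nd [(36, (nd [(37, (lf [(224, [4, 39, 4]), (220, [4, 23, 4])]))]))]))])),
  (15, (nd [(2, (nd [(36, (nd [(37, (lf [(217, [4, 23, 4, 2]), (216, [4, 39, 2])]))]))]))])),
  (51, (nd [(2, (nd [(16, (nd [(13, (lf [(468, [3, 54, 45, 26]), (412, [3, 56, 39, 22])]))])),
  (12, (nd [(17, (lf [(224, [3, 45, 26]), (220, [3, 45, 37, 10])]))]))]))])),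
  (50, (nd [(2, (nd [(12, (nd [(17, (lf [(217, [3, 45, 30, 8]), (216, [3, 45, 37])]))])),
  (16, (nd [(13, (lf [(354, [3, 57, 31, 18]), (405, [3, 44, 21, 17])]))]))]))])),
  (32, (nd [(2, (nd [(25, (nd [(13, (lf [(216, [3, 37, 44]), (217, [3, 54, 45, 6])])),
  (17, (lf [(454, [3, 55, 36]), (411, [3, 55, 27])]))]))]))])),
  (34, (nd [(2, (nd [(25, (nd [(13, (lf [(220, [3, 26, 44]), (224, [3, 17, 21])])),
  (17, (lf [(520, [3, 54, 36]), (472, [3, 54, 27])]))]))]))])),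
  (33, (nd [(2, (nd [(16, (nd [(26, (lf [(220, [3, 44, 10]), (224, [3, 44, 8])]))])),
  (12, (nd [(26, (lf [(237, [3, 52, 32]), (228, [3, 45, 27, 6])]))]))]))])),
  (35, (nd [(2, (nd [(16, (nd [(26, (lf [(216, [3, 44]), (217, [3, 48, 37])]))])),
  (12, (nd [(26, (lf [(223, [3, 52, 32, 8]), (219, [3, 44, 54])]))]))]))]))])),
  (29, (nd [(11, (nd [(14, (nd [(48, (nd [(19, (lf [(228, [3, 14, 52, 25]), (237, [3, 19, 25, 32])]))]))])),
  (4, (nd [(49, (nd [(19, (lf [(639, [3, 30, 23, 19]), (663, [3, 23, 33, 27])]))]))]))])),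
  (3, (nd [(14, (nd [(48, (nd [(8, (lf [(405, [3, 21, 48, 24]), (354, [3, 36, 24, 33])]))])),
  (49, (nd [(8, (lf [(454, [3, 38, 17, 22]), (411, [3, 25, 33, 8, 6])]))]))])),
  (4, (nd [(48, (nd [(8, (lf [(1081, [3, 30, 28, 19]), (942, [3, 25, 33])]))])),
  (49, (nd [(8, (lf [(1167, [3, 28, 32, 52]), (1090, [3, 39, 15, 25])]))]))]))]))])),
  (19, (nd [(3, (nd [(14, (nd [(38, (nd [(39, (lf [(217, [4, 55, 2]), (216, [4, 38, 2])]))]))])),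
  (4, (nd [(38, (nd [(39, (lf [(637, [4, 38]), (621, [4, 43])]))]))]))]))])),
  (24, (nd [(15, (nd [(4, (nd [(40, (nd [(43, (lf [(1090, [3, 16, 38, 8]), (1167, [3, 16, 38, 10])]))])),
  (42, (nd [(41, (lf [(638, [3, 56, 17, 22]), (662, [3, 59, 17, 22])])),
  (43, (lf [(942, [3, 26, 25, 33]), (1081, [3, 17, 43, 24])]))]))]))])),
  (5, (nd [(14, (nd [(40, (nd [(43, (lf [(472, [3, 30, 44, 17]), (520, [3, 37, 24, 33])]))])),
  (42, (nd [(41, (lf [(228, [3, 30, 23, 14]), (237, [3, 58, 24, 33])])),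
  (43, (lf [(412, [3, 16, 38, 55, 6]), (468, [3, 17, 55, 24])]))]))]))]))])),
  (16, (nd [(20, (nd [(2, (nd [(9, (nd [(47, (lf [(520, [3, 57, 45]), (472, [3, 32, 26])])),
  (46, (lf [(224, [3, 30, 15]), (220, [3, 52, 36])]))]))]))])),
  (22, (nd [(2, (nd [(9, (nd [(46, (lf [(217, [3, 32, 31, 6]), (216, [3, 52, 45])])),
  (47, (lf [(411, [3, 57, 36]), (454, [3, 57, 27])]))]))]))])),
  (11, (nd [(2, (nd [(9, (nd [(31, (lf [(228, [3, 42, 33]), (237, [3, 54, 33, 10])])),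
  (30, (lf [(412, [3, 42, 33, 6]), (468, [3, 31, 26, 14])]))]))]))])),
  (3, (nd [(2, (nd [(9, (nd [(31, (lf [(223, [3, 59, 33]), (219, [3, 57, 33])])),
  (30, (lf [(405, [3, 57, 33, 6]), (354, [3, 56, 33, 6])]))]))])),
  (10, (nd [(9, (nd [(31, (lf [(662, [3, 25, 33, 26]), (638, [3, 40, 21, 24])])),
  (30, (lf [(1081, [3, 31, 28, 14]), (942, [3, 31, 22, 14])]))]))]))]))])),
  (26, (nd [(35, (nd [(2, (nd [(30, (nd [(7, (lf [(219, [3, 57, 26]), (223, [3, 52, 31, 6])]))])),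
  (31, (nd [(7, (lf [(217, [3, 57, 31, 6]), (216, [3, 52, 37])]))]))]))])),
  (33, (nd [(2, (nd [(31, (nd [(7, (lf [(220, [3, 48, 32, 6]), (224, [3, 59, 32])]))])),
  (30, (nd [(7, (lf [(237, [3, 26, 57]), (228, [3, 48, 32])]))]))]))])),
  (15, (nd [(2, (nd [(47, (nd [(7, (lf [(411, [3, 33, 45, 6]), (454, [3, 41, 33, 6])]))])),
  (46, (nd [(7, (lf [(405, [3, 33, 27]), (354, [3, 33, 36])]))]))])),
  (10, (nd [(46, (nd [(18, (lf [(638, [3, 23, 33]), (662, [3, 14, 57, 22])]))]))]))])),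
  (5, (nd [(2, (nd [(47, (nd [(7, (lf [(472, [3, 28, 33, 10]), (520, [3, 33, 41, 6])]))])),
  (46, (nd [(7, (lf [(468, [3, 33, 45]), (412, [3, 45, 33])]))]))])),
  (10, (nd [(47, (nd [(18, (lf [(663, [3, 39, 33, 6]), (639, [3, 57, 21, 24])]))]))]))]))])),
  (36, (nd [(32, (nd [(2, (nd [(18, (nd [(30, (lf [(217, [3, 56, 27, 6]), (216, [3, 27, 52])])),
  (31, (lf [(411, [3, 36, 56]), (454, [3, 44, 32])]))]))]))])),
  (34, (nd [(2, (nd [(18, (nd [(30, (lf [(224, [3, 36, 52, 8]), (220, [3, 36, 52, 10])])),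
  (31, (lf [(472, [3, 36, 57, 8]), (520, [3, 37, 32])]))]))]))])),
  (15, (nd [(2, (nd [(18, (nd [(47, (lf [(219, [3, 33, 42]), (223, [3, 60, 33])])),
  (46, (lf [(354, [3, 33, 8, 6]), (405, [3, 33, 10, 6])]))]))])),
  (10, (nd [(7, (nd [(46, (lf [(1167, [3, 22, 45, 33]), (1090, [3, 28, 15, 25])]))]))]))])),
  (5, (nd [(2, (nd [(18, (nd [(47, (lf [(228, [3, 8, 33]), (237, [3, 33])])),
  (46, (lf [(412, [3, 30, 19]), (468, [3, 33, 42, 6])]))]))])),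
  (10, (nd [(7, (nd [(47, (lf [(663, [3, 38, 15, 25]), (639, [3, 16, 44, 23])]))]))]))]))])),
  (25, (nd [(34, (nd [(2, (nd [(7, (nd [(30, (lf [(472, [3, 56, 27]), (520, [3, 56, 36])])),
  (31, (lf [(220, [3, 32, 44, 6]), (224, [3, 56, 41, 6])]))]))]))])),
  (32, (nd [(2, (nd [(7, (nd [(31, (lf [(216, [3, 37, 32, 6]), (217, [3, 36, 52])])),
  (30, (lf [(454, [3, 36, 57]), (411, [3, 56, 45])]))]))]))])),
  (15, (nd [(2, (nd [(7, (nd [(46, (lf [(223, [3, 33, 54, 6]), (219, [3, 33, 48])])),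
  (47, (lf [(405, [3, 2, 33]), (354, [3, 33, 6])]))]))])),
  (10, (nd [(18, (nd [(47, (lf [(1167, [3, 40, 23, 33]), (1090, [3, 38, 41, 33])]))]))]))])),
  (5, (nd [(2, (nd [(7, (nd [(46, (lf [(228, [3, 33, 8]), (237, [3, 33, 10])])),
  (47, (lf [(412, [3, 60, 33, 6]), (468, [3, 33, 54])]))]))])),
  (10, (nd [(18, (nd [(46, (lf [(639, [3, 28, 45, 33]), (663, [3, 37, 21, 24])]))]))]))]))])),
  (13, (nd [(21, (nd [(2, (nd [(47, (nd [(1, (lf [(216, [3, 56, 30, 6]), (217, [3, 32, 54])]))])),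
  (46, (nd [(1, (lf [(219, [3, 32]), (223, [3, 10, 32])]))]))]))])),
  (23, (nd [(2, (nd [(46, (nd [(1, (lf [(237, [3, 32, 48]), (228, [3, 56, 26])]))])),
  (47, (nd [(1, (lf [(224, [3, 6, 32]), (220, [3, 32, 8, 6])]))]))]))])),
  (3, (nd [(2, (nd [(30, (nd [(1, (lf [(405, [3, 57, 33, 27]), (354, [3, 32, 57])]))])),
  (31, (nd [(1, (lf [(454, [3, 32, 52, 10]), (411, [3, 32, 52, 8])]))]))])),
  (10, (nd [(30, (nd [(1, (lf [(1081, [3, 21, 24, 8]), (942, [3, 21, 24, 10])]))])),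
  (31, (nd [(1, (lf [(1167, [3, 30, 25, 19]), (1090, [3, 21, 24, 6])]))]))]))])),
  (11, (nd [(2, (nd [(30, (nd [(1, (lf [(468, [3, 36, 33]), (412, [3, 38, 33, 6])]))])),
  (31, (nd [(1, (lf [(520, [3, 22, 33]), (472, [3, 38, 33])]))]))]))]))])),
  (12, (nd [(22, (nd [(2, (nd [(1, (nd [(47, (lf [(217, [3, 52, 27, 8]), (216, [3, 57, 41, 6])])),
  (46, (lf [(411, [3, 45, 56]), (454, [3, 32, 37])]))]))]))])),
  (20, (nd [(2, (nd [(1, (nd [(47, (lf [(224, [3, 31, 15]), (220, [3, 32, 30, 6])])),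
  (46, (lf [(472, [3, 41, 56]), (520, [3, 40, 32])]))]))]))])),
  (11, (nd [(2, (nd [(1, (nd [(30, (lf [(237, [3, 54, 33]), (228, [3, 42, 33, 10])])),
  (31, (lf [(468, [3, 15, 26, 24]), (412, [3, 54, 33, 6])]))]))]))])),
  (3, (nd [(2, (nd [(1, (nd [(30, (lf [(223, [3, 56, 33]), (219, [3, 59, 33, 8])])),
  (31, (lf [(405, [3, 30, 26, 14]), (354, [3, 59, 33, 6])]))]))])),
  (10, (nd [(1, (nd [(30, (lf [(662, [3, 30, 28, 14]), (638, [3, 30, 22, 14])])),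
  (31, (lf [(1081, [3, 19, 42, 23]), (942, [3, 26, 21, 24])]))]))]))]))])),
  (37, (nd [(33, (nd [(2, (nd [(30, (nd [(18, (lf [(220, [3, 52, 26]), (224, [3, 54, 32])]))])),
  (31, (nd [(18, (lf [(237, [3, 57, 37]), (228, [3, 42, 32])]))]))]))])),
  (35, (nd [(2, (nd [(30, (nd [(18, (lf [(217, [3, 58, 32]), (216, [3, 59, 32, 10])]))])),
  (31, (nd [(18, (lf [(219, [3, 59, 32, 6]), (223, [3, 44, 56])]))]))]))])),
  (15, (nd [(2, (nd [(46, (nd [(18, (lf [(454, [3, 15, 25]), (411, [3, 32, 39, 22])]))])),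
  (47, (nd [(18, (lf [(405, [3, 33, 36, 8]), (354, [3, 33, 27, 8])]))]))])),
  (10, (nd [(47, (nd [(7, (lf [(662, [3, 23, 33, 8]), (638, [3, 23, 33, 10])]))]))]))])),
  (5, (nd [(2, (nd [(46, (nd [(18, (lf [(472, [3, 28, 33]), (520, [3, 33, 27, 6])]))])),
  (47, (nd [(18, (lf [(412, [3, 41, 33]), (468, [3, 45, 33, 8])]))]))])),
  (10, (nd [(46, (nd [(7, (lf [(639, [3, 23, 33, 6]), (663, [3, 14, 54, 23])]))]))]))]))])),
  (17, (nd [(23, (nd [(2, (nd [(47, (nd [(9, (lf [(237, [3, 32, 8]), (228, [3, 32, 10])]))])),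
  (46, (nd [(9, (lf [(224, [3, 52, 44]), (220, [3, 32, 55])]))]))]))])),
  (21, (nd [(2, (nd [(47, (nd [(9, (lf [(219, [3, 57, 44]), (223, [3, 56, 37])]))])),
  (46, (nd [(9, (lf [(216, [3, 32, 6]), (217, [3, 2, 32])]))]))]))])),
  (3, (nd [(2, (nd [(31, (nd [(9, (lf [(354, [3, 32, 57, 10]), (405, [3, 32, 57, 8])]))])),
  (30, (nd [(9, (lf [(454, [3, 32, 57, 6]), (411, [3, 32, 52])]))]))])),
  (10, (nd [(31, (nd [(9, (lf [(942, [3, 21, 36, 22]), (1081, [3, 21, 24])]))])),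
  (30, (nd [(9, (lf [(1167, [3, 21, 4, 24]), (1090, [3, 20, 57, 23])]))]))]))])),
  (11, (nd [(2, (nd [(31, (nd [(9, (lf [(468, [3, 36, 33, 10]), (412, [3, 22, 33, 6])]))])),
  (30, (nd [(9, (lf [(472, [3, 32, 56, 6]), (520, [3, 36, 33, 6])]))]))]))]))]))])),
  (6, (nd [(1, (nd [(3, (nd [(2, (nd [(16, (nd [(17, (lf [(231, [2, 30]), (246, [2, 30, 2])]))]))])),
  (10, (nd [(16, (nd [(17, (lf [(681, [2, 33, 15]), (715, [2, 15, 17])]))]))]))])),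
  (11, (nd [(2, (nd [(16, (nd [(17, (lf [(250, [2, 17, 15]), (272, [2, 14, 30])]))]))])),
  (10, (nd [(16, (nd [(13, (lf [(1014, [2, 31, 17]), (907, [2, 33, 17])]))])),
  (12, (nd [(17, (lf [(817, [2, 30, 15]), (893, [2, 21, 16])])),
  (13, (lf [(770, [2, 31, 15]), (838, [2, 21, 15])]))]))]))])),
  (44, (nd [(2, (nd [(25, (nd [(37, (lf [(250, [3, 14, 60, 15]), (272, [3, 17, 58, 17])]))])),
  (36, (nd [(26, (lf [(306, [3, 31, 26, 54]), (276, [3, 21, 60, 17])]))]))]))])),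
  (45, (nd [(2, (nd [(36, (nd [(26, (lf [(249, [3, 17, 30, 17]), (271, [3, 17, 59, 17])]))])),
  (25, (nd [(37, (lf [(231, [3, 17, 61, 21]), (246, [3, 18, 60, 19])]))]))]))])),
  (22, (nd [(2, (nd [(12, (nd [(26, (lf [(246, [3, 15, 41, 14]), (231, [3, 30, 45])])),
  (37, (lf [(330, [3, 30, 45, 6]), (300, [3, 31, 45, 6])]))]))]))])),
  (20, (nd [(2, (nd [(12, (nd [(26, (lf [(272, [3, 30, 45, 10]), (250, [3, 30, 45, 8])])),
  (37, (lf [(384, [3, 20, 39, 17]), (346, [3, 6, 30, 45])]))]))]))])),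
  (21, (nd [(2, (nd [(25, (nd [(13, (lf [(288, [3, 30, 55]), (266, [3, 31, 54])]))])),
  (36, (nd [(13, (lf [(246, [3, 30, 54, 6]), (231, [3, 30, 48])]))]))]))])),
  (23, (nd [(2, (nd [(25, (nd [(13, (lf [(331, [3, 30, 54]), (301, [3, 31, 55])]))])),
  (36, (nd [(13, (lf [(272, [3, 30, 42]), (250, [3, 30, 55, 6])]))]))]))]))])),
  (9, (nd [(3, (nd [(2, (nd [(12, (nd [(17, (lf [(330, [2, 19, 17]), (300, [2, 32, 14])]))])),
  (16, (nd [(13, (lf [(266, [2, 18, 16]), (288, [2, 20, 15])])),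
  (17, (lf [(249, [2, 48, 30]), (271, [2, 32, 17])]))]))])),
  (10, (nd [(12, (nd [(17, (lf [(892, [2, 16, 15]), (816, [2, 16, 15, 2])]))])),
  (16, (nd [(13, (lf [(747, [2, 20, 14]), (805, [2, 17, 14])])),
  (17, (lf [(718, [2, 14, 16]), (764, [2, 19, 20])]))]))]))])),
  (11, (nd [(2, (nd [(12, (nd [(17, (lf [(384, [2, 16, 32]), (346, [2, 32, 15])]))])),
  (16, (nd [(13, (lf [(301, [2, 32, 21]), (331, [2, 14, 17])])),
  (17, (lf [(276, [2, 43, 30]), (306, [2, 16, 14])]))]))])),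
  (10, (nd [(12, (nd [(13, (lf [(719, [2, 19, 16]), (765, [2, 33, 14])]))]))]))]))])),
  (47, (nd [(51, (nd [(10, (nd [(13, (nd [(12, (lf [(838, [3, 33, 23, 33]), (770, [3, 32, 30, 45, 6])]))])),
  (17, (nd [(16, (lf [(765, [3, 18, 38, 15, 6]), (719, [3, 31, 18, 55])]))]))]))]))])),
  (30, (nd [(44, (nd [(10, (nd [(26, (nd [(36, (lf [(907, [3, 30, 18, 54]), (1014, [3, 17, 24, 21, 6])]))]))]))])),
  (45, (nd [(10, (nd [(37, (nd [(25, (lf [(805, [3, 21, 23, 17, 6]), (747, [3, 28, 20, 15])]))]))]))]))])),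
  (46, (nd [(50, (nd [(10, (nd [(17, (nd [(16, (lf [(718, [3, 18, 38, 15]), (764, [3, 22, 20, 15])]))])),
  (13, (nd [(12, (lf [(681, [3, 31, 18, 54]), (715, [3, 32, 30, 45])]))]))]))]))])),
  (31, (nd [(44, (nd [(10, (nd [(26, (nd [(36, (lf [(817, [3, 17, 57, 17]), (893, [3, 17, 24, 21])]))]))]))])),
  (45, (nd [(10, (nd [(37, (nd [(25, (lf [(892, [3, 21, 23, 17]), (816, [3, 30, 18, 55])]))]))]))]))])),
  (7, (nd [(50, (nd [(2, (nd [(12, (nd [(13, (lf [(330, [3, 21, 45, 19]), (300, [3, 45, 30, 55, 6])]))]))]))])),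
  (51, (nd [(2, (nd [(12, (nd [(13, (lf [(346, [3, 20, 15, 22]), (384, [3, 23, 16, 33])]))]))]))])),
  (34, (nd [(2, (nd [(36, (nd [(13, (lf [(331, [3, 21, 31, 16]), (301, [3, 17, 61, 16])]))]))]))])),
  (32, (nd [(2, (nd [(36, (nd [(13, (lf [(288, [3, 17, 60, 16]), (266, [3, 23, 21, 19])]))]))]))])),
  (35, (nd [(2, (nd [(12, (nd [(37, (lf [(271, [3, 49, 30, 42]), (249, [3, 42, 30, 42])]))]))]))])),
  (33, (nd [(2, (nd [(12, (nd [(37, (lf [(306, [3, 43, 30, 42]), (276, [3, 49, 30, 48])]))]))]))]))])),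
  (18, (nd [(50, (nd [(2, (nd [(12, (nd [(13, (lf [(266, [3, 45, 31, 55]), (288, [3, 45, 30, 54])]))]))]))])),
  (51, (nd [(2, (nd [(12, (nd [(13, (lf [(301, [3, 18, 22, 19]), (331, [3, 45, 30, 55])]))]))]))])),
  (34, (nd [(2, (nd [(25, (nd [(13, (lf [(276, [3, 48, 30, 45]), (306, [3, 21, 59, 16])]))]))]))])),
  (32, (nd [(2, (nd [(25, (nd [(13, (lf [(249, [3, 15, 23, 14]), (271, [3, 21, 17, 48])]))]))]))])),
  (35, (nd [(2, (nd [(12, (nd [(26, (lf [(330, [3, 45, 30, 45]), (300, [3, 15, 22, 19])]))]))]))])),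
  (33, (nd [(2, (nd [(12, (nd [(26, (lf [(384, [3, 43, 30, 54]), (346, [3, 18, 23, 14])]))]))]))]))])),
  (12, (nd [(20, (nd [(10, (nd [(1, (nd [(46, (lf [(893, [3, 31, 15, 42, 6]), (817, [3, 17, 24, 16])]))]))]))])),
  (22, (nd [(10, (nd [(1, (nd [(47, (lf [(718, [3, 30, 15, 54]), (764, [3, 57, 30, 45])]))]))]))]))])),
  (37, (nd [(35, (nd [(10, (nd [(30, (nd [(7, (lf [(747, [3, 23, 18, 20]), (805, [3, 30, 18, 45])]))])),
  (31, (nd [(7, (lf [(681, [3, 57, 30, 42]), (715, [3, 52, 31, 54])]))]))]))]))])),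
  (25, (nd [(32, (nd [(10, (nd [(18, (nd [(31, (lf [(892, [3, 23, 18, 17, 6]), (816, [3, 20, 56, 14, 6])])),
  (30, (lf [(681, [3, 56, 30, 45, 8]), (715, [3, 20, 56, 14])]))]))]))]))])),
  (36, (nd [(34, (nd [(10, (nd [(7, (nd [(30, (lf [(907, [3, 23, 17, 33]), (1014, [3, 17, 57, 20])])),
  (31, (lf [(765, [3, 56, 30, 45]), (719, [3, 17, 57, 20, 6])]))]))]))]))])),
  (17, (nd [(21, (nd [(10, (nd [(47, (nd [(9, (lf [(816, [3, 22, 15, 17]), (892, [3, 56, 30, 54])]))]))]))])),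
  (23, (nd [(10, (nd [(46, (nd [(9, (lf [(770, [3, 56, 30, 42]), (838, [3, 21, 15, 56])]))]))]))]))])),
  (16, (nd [(22, (nd [(10, (nd [(9, (nd [(47, (lf [(747, [3, 32, 30, 48]), (805, [3, 21, 23, 20])]))]))]))])),
  (20, (nd [(10, (nd [(9, (nd [(46, (lf [(770, [3, 31, 15, 42]), (838, [3, 32, 30, 54])]))]))]))]))])),
  (26, (nd [(33, (nd [(10, (nd [(31, (nd [(18, (lf [(893, [3, 20, 25, 18]), (817, [3, 52, 30, 42])]))])),
  (30, (nd [(18, (lf [(765, [3, 28, 15, 17]), (719, [3, 16, 23, 15])]))]))]))]))])),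
  (13, (nd [(23, (nd [(10, (nd [(46, (nd [(1, (lf [(907, [3, 56, 30, 55]), (1014, [3, 56, 31, 54])]))]))]))])),
  (21, (nd [(10, (nd [(47, (nd [(1, (lf [(764, [3, 31, 18, 45]), (718, [3, 56, 30, 48])]))]))]))]))]))]))]) .nil)

theorem s_i : solveB (nat_lit 11) (nat_lit 2047) htt (nat_lit 1944) 500 B2 (fun _ => true) hch2 2 []
    ([] : List (List ℕ)) ([] : List (List ℕ)) (prEq 500 ([] : List (List ℕ)) ([] : List (List ℕ)) ++ [[1000, 1000]]) [] [] (fun u => Nat.blt (u.headD 0) 5) (mkC reps) ts_i ct_i = true := by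
  decide +kernel



end Cfsg.Agent.Lib.SuzMH
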