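import Cfsg.Agent.Lib.Rk3Iso
import Cfsg.Agent.Lib.SuzRN0

set_option autoImplicit false
set_option maxRecDepth 100000
set_option Elab.async false

namespace Cfsg.Agent.Lib.SuzR
open Cfsg.Agent.Lib.PermNet Cfsg.Agent.Lib.Words Cfsg.Agent.Lib.PermGroup Cfsg.Agent.Lib.Rk3Aut Cfsg.Agent.Lib.Rk3Emb
  Cfsg.Agent.Lib.Rk3PH Cfsg.Agent.Lib.Rk3Iso

noncomputable def nets : NL := (.cons net0 (.cons net1 (.cons net2 (.cons net3 (.cons net4 (.cons net5 (.cons net6 (.cons net7 (.cons net8 (.cons net9 (.cons net10 (.cons net11 (.cons net12 (.cons net13 (.cons net14 (.cons net15 (.cons net16 (.cons net17 (.cons net18 (.cons net19 (.cons net20 (.cons net21 (.cons net22 (.cons net23 (.cons net24 (.cons net25 (.cons net26 (.cons net27 (.cons net28 (.cons net29 (.cons net30 (.cons net31 (.cons net32 (.cons net33 .nil))))))))))))))))))))))))))))))))))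

theorem hv : nets.Valid 1782 := ⟨valid0, ⟨valid1, ⟨valid2, ⟨valid3, ⟨valid4, ⟨valid5, ⟨valid6, ⟨valid7, ⟨valid8, ⟨valid9, ⟨valid10, ⟨valid11, ⟨valid12, ⟨valid13, ⟨valid14, ⟨valid15, ⟨valid16, ⟨valid17, ⟨valid18, ⟨valid19, ⟨valid20, ⟨valid21, ⟨valid22, ⟨valid23, ⟨valid24, ⟨valid25, ⟨valid26, ⟨valid27, ⟨valid28, ⟨valid29, ⟨valid30, ⟨valid31, ⟨valid32, ⟨valid33, trivial⟩⟩⟩⟩⟩⟩⟩⟩⟩⟩⟩⟩⟩⟩⟩⟩⟩⟩⟩⟩⟩⟩⟩⟩⟩⟩⟩⟩⟩⟩⟩⟩⟩⟩

def rels0 : List (List Nat × List Nat) := [([13, 2, 0, 4, 2, 0, 6, 2, 4, 2, 10, 6, 4, 2], []),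
  ([15, 6, 8, 13, 8, 13, 8, 6], []),
  ([17, 15, 13, 14, 12], []),
  ([19, 13, 8, 12], []),
  ([21, 15, 13, 14, 8, 12, 15, 13, 14, 8, 12], []),
  ([23, 15, 13, 14, 12, 8, 15, 13, 14, 12, 8], []),
  ([25, 15, 13, 14, 8, 12, 15, 13, 14, 12, 8, 15, 13, 14, 8, 12, 15, 13, 14, 12, 8], []),
  ([27, 14, 13, 15, 12, 15, 13, 14, 12], []),
  ([29, 14, 13, 15, 12, 15, 13, 14, 8, 12, 14, 13, 15, 12, 15, 13, 14, 8, 12], []),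
  ([31, 14, 13, 15, 12, 15, 13, 14, 12, 8, 14, 13, 15, 12, 15, 13, 14, 12, 8], []),
  ([33, 13, 8, 12, 8, 13, 8, 12, 8], []),
  ([35, 14, 13, 15, 12, 8, 14, 13, 15, 12, 8, 14, 13, 15, 12, 8, 14, 13, 15, 12, 8], []),
  ([37, 15, 13, 14, 12, 8, 15, 13, 14, 12, 8, 15, 13, 14, 12, 8, 15, 13, 14, 12, 8], []),
  ([39, 6, 4, 6, 10, 4, 6, 10, 2], []),
  ([41, 38, 18, 39], []),
  ([43, 38, 20, 39], []),
  ([45, 38, 8, 39], []),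
  ([47, 38, 22, 39], []),
  ([49, 38, 24, 39], []),
  ([51, 38, 26, 39], []),
  ([53, 38, 28, 39], []),
  ([55, 38, 30, 39], []),
  ([57, 38, 32, 39], []),
  ([59, 38, 34, 39], []),
  ([61, 38, 36, 39], []),
  ([63, 6, 2, 4, 6, 8, 10, 6, 8, 2, 4, 6, 0, 6, 8, 6, 10, 8, 6, 4, 2, 6], []),
  ([65, 6, 2, 4, 6, 8, 10, 6, 8, 0, 4, 2, 4, 6, 8, 0, 4, 8, 6, 4, 8, 4, 6, 2, 6, 4, 6, 4, 8, 4, 6, 2, 6, 4, 8, 4, 0, 8, 6, 4, 2, 4, 0, 8, 6, 10, 8, 6, 4, 2, 6], [])]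
def rels : List (List Nat × List Nat) := rels0

def defs : List (List Nat) := [[2, 0, 4, 2, 0, 6, 2, 4, 2, 10, 6, 4, 2], [6, 8, 13, 8, 13, 8, 6], [15, 13, 14, 12], [13, 8, 12], [15, 13, 14, 8, 12, 15, 13, 14, 8, 12], [15, 13, 14, 12, 8, 15, 13, 14, 12, 8], [15, 13, 14, 8, 12, 15, 13, 14, 12, 8, 15, 13, 14, 8, 12, 15, 13, 14, 12, 8], [14, 13, 15, 12, 15, 13, 14, 12], [14, 13, 15, 12, 15, 13, 14, 8, 12, 14, 13, 15, 12, 15, 13, 14, 8, 12], [14, 13, 15, 12, 15, 13, 14, 12, 8, 14, 13, 15, 12, 15, 13, 14, 12, 8], [13, 8, 12, 8, 13, 8, 12, 8], [14, 13, 15, 12, 8, 14, 13, 15, 12, 8, 14, 13, 15, 12, 8, 14, 13, 15, 12, 8], [15, 13, 14, 12, 8, 15, 13, 14, 12, 8, 15, 13, 14, 12, 8, 15, 13, 14, 12, 8], [6, 4, 6, 10, 4, 6, 10, 2], [38, 18, 39], [38, 20, 39], [38, 8, 39], [38, 22, 39], [38, 24, 39], [38, 26, 39], [38,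 28, 39], [38, 30, 39], [38, 32, 39], [38, 34, 39], [38, 36, 39], [6, 2, 4, 6, 8, 10, 6, 8, 2, 4, 6, 0, 6, 8, 6, 10, 8, 6, 4, 2, 6], [6, 2, 4, 6, 8, 10, 6, 8, 0, 4, 2, 4, 6, 8, 0, 4, 8, 6, 4, 8, 4, 6, 2, 6, 4, 6, 4, 8, 4, 6, 2, 6, 4, 8, 4, 0, 8, 6, 4, 2, 4, 0, 8, 6, 10, 8, 6, 4, 2, 6]]


def LJ : List (List ℕ) := [[4], [2], [8], [6]]

def L1 : List (List ℕ) := [[44], [16], [18], [8]]

def L2 : List (List ℕ) := [[8], [6, 4, 6], [2, 4, 10, 2], [2, 0, 2, 4, 0, 2, 8, 2, 0, 2, 4, 0, 4, 10, 0, 2, 4, 0, 2]]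

def phbP : PC := [(31, 5, [], [[64]]),
  (32, 5, [], [])]

def phbR : PC := [(22, 2, [], [[46, 60], [48], [50, 54], [52, 56], [54, 58, 60], [56], [58], [60]]),
  (23, 2, [60], [[48], [50], [52, 58], [54], [56], [58], [60]]),
  (24, 2, [], [[50, 60], [52], [54], [56], [58], [60]]),
  (25, 2, [], [[52, 58, 60], [54, 58, 60], [56, 58, 60], [58], [60]]),
  (26, 2, [58, 60], [[54, 58, 60], [56], [58], [60]]),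
  (27, 2, [58, 60], [[56], [58], [60]]),
  (28, 2, [], [[58], [60]]),
  (29, 2, [], [[60]]),
  (30, 2, [], [])]

def phbS : List (List ℕ × Cert) := [([50, 58], .good 0 [6, 2, 4, 6, 8, 10, 6, 8] [[4, 3, 3, 0, 2, 0, 3, 0, 5, 2, 2], [2, 0, 3, 3, 0, 2, 0, 3, 0, 2, 0, 2, 0], [2, 2, 0, 4, 0, 3, 3, 0, 2, 0, 5, 0, 5, 5, 0, 2, 0], [0, 4, 0, 2, 2, 0, 2, 0, 4, 4, 2, 0, 3, 3, 0]]),
  ([46, 52, 56], .good 0 [6, 2, 4, 6, 8, 10, 6, 8] [[5, 0, 5, 5, 2, 0, 5, 5, 0, 3, 3, 0, 3], [3, 0, 4, 4, 2, 0, 4, 0, 4, 0, 5, 3, 0], [2, 2, 0, 5, 2, 0, 2, 0, 5, 0, 3, 0], [0, 4, 2, 0, 3, 3, 0, 4, 2, 0, 4, 4, 3, 0]]),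
  ([46, 50, 52, 56, 58], .good 0 [6, 2, 4, 6, 8, 10, 6, 8] [[4, 3, 0, 4, 2, 0, 4, 0, 4, 4, 3, 0], [5, 5, 0, 4, 2, 0, 4, 0, 4, 0, 2, 0, 2, 0], [3, 3, 0, 5, 0, 5, 0, 3, 3, 0, 4, 4, 3, 0], [0, 5, 5, 0, 2, 0, 4, 0, 2, 0, 2, 2, 0, 2, 0]])]

def phbL : List (List (List ℕ)) := [LJ]

noncomputable def phbF : List ℕ → Bool := nwB nets 2 (nat_lit 0x2cad3cdfe95499db4c29fd6a371ae663c56e67d9959dac7af816bdad174b05e81bbb9905f018538f254ec5b1cbc37a0b89e6c804d3119d90f4fa369ca94169aad2b1a89e790c12c05d73fd28bbfc1e0b0a79e47f074d3526ad10edffe64348108f26906022712d2d3b7e6b4a41dbc72136440e7cf4aa5ad7a68d3aab7959e3e041a404a779f6ebbe1c4dcc7fda5f195cc7ee7f970e28101e55a0b6e367be6cfb5200ae8d1752e3c4466251fce211dace8f3062bbc30598be78c1a279e627079062938ff8580222357821f89f0446c01f8efd69f48256abc2e52bb12a2fa82) 1 416 12 (pcG phbP) [0, 1,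 2, 1, 2, 1, 2] phbS

def phcP : PC := [(8, 2, [], [[18, 20, 36], [20, 36], [8, 22, 36], [22, 36], [24, 34, 36], [26], [28, 34, 36], [30], [32, 34], [34], [36]]),
  (9, 2, [], [[20, 36], [8, 32], [22, 24, 32, 34, 36], [24], [26, 28], [28, 34, 36], [30, 32], [32], [34], [36]]),
  (10, 2, [36], [[8, 24, 32], [22, 36], [24], [26, 34, 36], [28], [30, 34], [32], [34], [36]]),
  (4, 2, [], [[22, 36], [24], [26, 30], [28, 32], [30, 34, 36], [32], [34], [36]]),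
  (11, 2, [36], [[24], [26], [28, 34], [30], [32], [34], [36]]),
  (12, 2, [], [[26, 36], [28], [30], [32], [34], [36]]),
  (13, 2, [], [[28, 34, 36], [30, 34, 36], [32, 34, 36], [34], [36]]),
  (14, 2, [34, 36], [[30, 34, 36], [32], [34], [36]]),
  (15, 2, [34, 36], [[32], [34], [36]]),
  (16, 2, [], [[34], [36]]),
  (17, 2, [], [[36]]),
  (18, 2, [], [])]

def phcR : PC := [(20, 2, [], [[42, 60], [44, 56], [46, 48, 56, 58, 60], [48], [50, 52], [52, 58, 60], [54, 56], [56], [58], [60]]),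
  (21, 2, [60], [[44, 48, 56], [46, 60], [48], [50, 58, 60], [52], [54, 58], [56], [58], [60]]),
  (22, 2, [], [[46, 60], [48], [50, 54], [52, 56], [54, 58, 60], [56], [58], [60]]),
  (23, 2, [60], [[48], [50], [52, 58], [54], [56], [58], [60]]),
  (24, 2, [], [[50, 60], [52], [54], [56], [58], [60]]),
  (25, 2, [], [[52, 58, 60], [54, 58, 60], [56, 58, 60], [58], [60]]),
  (26, 2, [58, 60], [[54, 58, 60], [56], [58], [60]]),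
  (27, 2, [58, 60], [[56], [58], [60]]),
  (28, 2, [], [[58], [60]]),
  (29, 2, [], [[60]]),
  (30, 2, [], [])]

def phcS : List (List ℕ × Cert) := [([44], .good 0 [] [[0], [2], [4], [8]]),
  ([40, 52, 58, 60], .good 0 [] [[16, 8, 16, 4, 0, 4, 0, 8, 4], [2], [4], [8]]),
  ([40, 44, 52, 56, 58, 60], .good 0 [] [[4, 0, 18, 8, 0, 4, 0], [2], [4], [8]]),
  ([50, 58], .good 1 [] [[8], [19, 10, 6, 2], [14, 0, 2, 12, 0, 2, 0, 14], [8, 0, 2, 20, 0, 14, 0, 2, 0]])]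

def phcL : List (List (List ℕ)) := [L1, L2]

noncomputable def phcF : List ℕ → Bool := nwB nets 2 (nat_lit 0x2cad3cdfe95499db4c29fd6a371ae663c56e67d9959dac7af816bdad174b05e81bbb9905f018538f254ec5b1cbc37a0b89e6c804d3119d90f4fa369ca94169aad2b1a89e790c12c05d73fd28bbfc1e0b0a79e47f074d3526ad10edffe64348108f26906022712d2d3b7e6b4a41dbc72136440e7cf4aa5ad7a68d3aab7959e3e041a404a779f6ebbe1c4dcc7fda5f195cc7ee7f970e28101e55a0b6e367be6cfb5200ae8d1752e3c4466251fce211dace8f3062bbc30598be78c1a279e627079062938ff8580222357821f89f0446c01f8efd69f48256abc2e52bb12a2fa82) 1 416 8 (pcG phcP) [0, 12, 11, 10, 9, 8, 7, 6, 5, 4, 3, 2, 1] phcS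

def hs : List (List ℕ) := [[0], [2], [4], [6], [8], [10]]

def sb : List ℕ := [0, 3, 4, 5, 1, 2, 3, 2, 1, 0, 3, 4, 5, 1, 2, 0, 1]

def sc : List ℕ := [1, 0, 2, 5, 3, 1, 2, 4, 1, 5, 0, 3, 1, 2, 3, 1, 0, 5, 1, 2, 4, 5, 1, 3]

def ol1 : List (ℕ × List ℕ) := [(1, [2, 3, 0, 2, 1, 3, 2, 0, 1, 3, 2, 0, 3, 0, 1]), (5, [1, 2, 3, 0, 2, 1, 3, 0, 2, 1, 3, 2, 0, 1, 3, 0, 1, 3, 0, 1, 2]), (210, [])]

def ol2 : List (ℕ × List ℕ) := [(417, []), (418, [0, 1, 2, 3, 1, 0, 2, 3, 1, 0, 2, 3, 1, 0, 3]), (432, [0, 1, 0, 2, 3, 1, 2, 0]), (440, [0, 1, 3, 2, 0, 1, 3, 2, 0, 1, 2, 3])]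

def rwA : List (List ℕ × List ℕ × List ℕ) := [([], [67, 2, 4, 6, 4, 2, 67, 10, 2, 4, 6, 4, 2, 10], [67])]

def rwN : List (List ℕ × ℕ × ℕ) := [([2, 4, 0, 2, 10], 115, 437), ([], 210, 417)]

def ws4 : List (List ℕ) := [[8], [6], [12]]

def ol3 : List (ℕ × List ℕ) := [(0, []), (1, [2, 3, 0, 2, 1, 3, 2, 0, 1, 3, 2, 0, 3, 0, 1]), (5, [1, 2, 3, 0, 2, 1, 3, 0, 2, 1, 3, 2, 0, 1, 3, 0, 1, 3, 0, 1, 2]), (210, []), (417, [1, 0, 3, 0, 2, 1, 3, 0, 2, 1, 3, 0, 2, 1, 3, 2, 0, 1, 3, 0, 1, 3, 0, 1, 2]), (437, [0, 3, 0, 2, 1, 3, 0, 2, 1, 3, 2, 0, 3, 1, 2, 0, 3, 1, 0, 2, 3, 1, 0, 2, 1, 3, 0, 1])]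

def ol4 : List (ℕ × List ℕ) := [(0, []), (1, [0, 1, 2, 0, 2, 1, 2, 0, 2, 1, 2, 0, 2, 0]), (14, [0, 1, 2, 0, 2, 0, 2, 1, 2, 0, 2, 1, 2]), (417, []), (418, [2, 0, 1, 2, 0, 2, 1, 0, 2, 1, 2, 0, 2, 1, 2, 0, 1, 2, 0, 2, 0, 2]), (432, [1, 0, 2, 0, 2, 0, 2, 1, 2, 0, 2, 0]), (440, [0, 1, 0, 2, 0, 2, 1, 0, 2, 1, 2, 0, 2, 1, 0, 2, 0])]

def prog : List Ins := [.fix 0 0 1782, .row 0 [], .and 2 0, .fix 0 1 416, .row 0 [67, 2, 4, 6, 4, 2, 67], .and 2 0,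
  .fix 0 4 100, .row 0 [67, 2, 4, 6, 4, 2, 8, 67], .and 2 0, .fix 0 12 36, .row 0 [67, 2, 4, 6, 4, 2, 8, 6, 67], .and 2 0,
  .fix 0 48 14, .row 0 [67, 2, 0, 4, 6, 4, 2, 8, 6, 4, 67], .and 2 0, .fix 0 210 4, .row 0 [67, 2, 4, 6, 4, 2, 67, 10, 2, 4, 6, 4, 2, 10], .dif 2 1,
  .dif 0 1, .fix 0 283 3, .row 0 [67, 2, 0, 4, 2, 6, 4, 2, 6, 8, 6, 4, 6, 67, 10, 2], .dif 2 1, .dif 0 1, .fix 0 375 2,
  .row 0 [67, 2, 0, 4, 2, 6, 4, 2, 8, 6, 4, 10, 2, 67, 2, 0], .dif 2 1, .dif 0 1, .and 27 25, .and 0 20, .and 0 18,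
  .and 0 16, .and 0 14, .and 0 11, .dif 0 8, .row 0 [67, 2, 0, 4, 6, 4, 2, 8, 6, 4, 6, 67], .and 35 33,
  .and 0 25, .and 0 23, .and 0 17, .and 0 4, .dif 0 35, .dif 0 16,
  .row 0 [67, 2, 0, 4, 2, 6, 4, 2, 6, 8, 6, 4, 10, 67, 2], .and 43 41, .and 0 33, .and 0 24, .and 0 11, .and 0 4,
  .dif 0 43, .dif 0 41, .row 0 [67, 2, 4, 6, 4, 2, 8, 6, 4, 2, 10, 67, 2, 10], .and 51 49, .and 0 38, .and 0 18,
  .dif 0 46, .dif 0 44, .dif 0 39, .dif 0 36, .dif 0 15, .row 0 [67, 2, 0, 4, 2, 6, 4, 2, 8, 10, 67],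
  .and 60 52, .and 0 18, .and 0 2, .and 0 12, .dif 0 59, .dif 0 63,
  .row 0 [67, 2, 0, 4, 2, 6, 4, 8, 6, 4, 10, 2, 0, 4, 67], .and 67 56, .and 0 8, .and 0 52, .and 0 19, .dif 0 57,
  .dif 0 5, .row 0 [67, 2, 0, 4, 2, 6, 4, 2, 6, 8], .and 74 69, .and 0 32, .and 0 2, .and 0 26,
  .and 0 11, .and 0 54, .row 0 [67, 2, 4, 6, 4, 2, 0, 8, 6, 4, 2, 6, 10], .and 81 46, .and 0 1, .and 0 40,
  .dif 0 33, .dif 0 80, .dif 0 72, .dif 0 85, .row 0 [67, 2, 0, 4, 6, 4, 2, 8, 6, 4, 6, 10, 2, 67, 2], .and 89 84,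
  .and 0 76, .dif 0 89, .dif 0 84, .dif 0 82, .dif 0 43, .dif 0 74,
  .dif 0 79, .dif 0 72, .dif 0 55, .dif 0 39, .dif 0 19, .row 0 [67, 2, 0, 4, 6, 4, 2, 0, 8, 6, 4, 2, 10, 67],
  .and 102 100, .and 0 29, .and 0 44, .and 0 3, .dif 0 71, .dif 0 26,
  .row 0 [67, 2, 4, 6, 4, 2, 8, 6, 4, 10, 67], .and 109 88, .and 0 36, .and 0 60, .and 0 23, .dif 0 102,
  .row 0 [67, 2, 0, 4, 2, 6, 4, 2, 8, 6, 4, 2, 67, 10, 2], .and 115 80, .and 0 1, .dif 0 115, .dif 0 44, .dif 0 94,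
  .dif 0 31, .dif 0 40, .dif 0 20, .dif 0 115, .dif 0 73, .dif 0 114,
  .dif 0 121, .dif 0 110, .dif 0 68, .row 0 [67, 2, 0, 4, 2, 6, 4, 2, 8, 6, 4, 10, 2, 0], .and 130 128, .and 0 57,
  .and 0 121, .and 0 90, .dif 0 117, .dif 0 114, .dif 0 34, .row 0 [67, 2, 4, 6, 4, 2, 0, 8, 10, 2, 67],
  .and 138 117, .and 0 114, .and 0 73, .and 0 52, .and 0 68, .row 0 [67, 2, 4, 6, 4, 2, 8, 6, 4, 6, 8, 10],
  .and 144 139, .and 0 78, .and 0 44, .and 0 3, .dif 0 134, .dif 0 147,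
  .dif 0 107, .row 0 [67, 2, 0, 4, 6, 4, 2, 10], .and 152 141, .and 0 72, .and 0 111, .and 0 25,
  .dif 0 82, .dif 0 143, .row 0 [67, 2, 4, 6, 4, 2, 0, 8, 6, 4, 6, 8, 10, 2, 0, 2], .and 159 154, .and 0 100, .and 0 46,
  .and 0 88, .and 0 146, .row 0 [67, 2, 4, 6, 4, 8, 6, 4, 2, 0, 2, 4], .and 165 160, .and 0 106, .and 0 2,
  .and 0 38, .and 0 152, .dif 0 162, .row 0 [67, 2, 4, 6, 4, 2, 0, 8, 6, 4, 2, 0], .keep [170, 167, 164, 161, 158, 121, 42, 155, 63, 91, 112, 13, 7, 70, 129, 20, 105, 147, 28, 151, 83, 57, 0, 34, 98, 137]]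


end Cfsg.Agent.Lib.SuzR
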