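import Cfsg.Agent.Lib.Rk3Iso
import Cfsg.Agent.Lib.SuzSN0

set_option autoImplicit false
set_option maxRecDepth 100000
set_option Elab.async false

namespace Cfsg.Agent.Lib.SuzS
open Cfsg.Agent.Lib.PermNet Cfsg.Agent.Lib.Words Cfsg.Agent.Lib.PermGroup Cfsg.Agent.Lib.Rk3Aut Cfsg.Agent.Lib.Rk3Emb
  Cfsg.Agent.Lib.Rk3PH Cfsg.Agent.Lib.Rk3Iso

noncomputable def nets : NL := (.cons net0 (.cons net1 (.cons net2 (.cons net3 (.cons net4 (.cons net5 .nil))))))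

theorem hv : nets.Valid 1782 := ⟨valid0, ⟨valid1, ⟨valid2, ⟨valid3, ⟨valid4, ⟨valid5, trivial⟩⟩⟩⟩⟩⟩

def rels0 : List (List Nat × List Nat) := [([0, 0], []),
  ([2, 2], []),
  ([4, 4], []),
  ([6, 6], []),
  ([8, 8], []),
  ([10, 10], []),
  ([0, 2, 0, 2, 0], [2, 0, 2, 0, 2]),
  ([0, 4], [4, 0]),
  ([0, 6], [6, 0]),
  ([0, 8], [8, 0]),
  ([0, 10], [10, 0]),
  ([2, 4, 2], [4, 2, 4]),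
  ([2, 6], [6, 2]),
  ([2, 8], [8, 2]),
  ([2, 10, 2], [10, 2, 10]),
  ([4, 6, 4, 6, 4, 6, 4, 6], [6, 4, 6, 4, 6, 4, 6, 4]),
  ([4, 8], [8, 4]),
  ([4, 10], [10, 4]),
  ([6, 8, 6], [8, 6, 8]),
  ([6, 10], [10, 6]),
  ([8, 10], [10, 8]),
  ([0, 6, 4, 6, 4], [4, 6, 4, 6]),
  ([0, 2, 4, 10, 0, 2, 4, 10, 0, 2], [10, 4, 2, 0, 10, 4, 2, 0, 10, 4]),
  ([2, 4, 6, 4, 6, 2, 4, 6, 4, 6, 2, 4, 6, 4, 6, 2, 4, 6, 4, 6, 2, 4, 6, 4, 6, 8, 2, 4, 6, 4, 6, 2, 4, 6, 4, 6, 2, 4, 6], [8, 6, 4, 6, 4, 2, 6, 4, 6, 4, 2, 6, 4, 6, 4, 2, 6, 4, 6, 4, 2, 6, 4, 6, 4, 2, 8, 6, 4, 6, 4, 2, 6, 4, 6, 4, 2, 6, 4])]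
def rels : List (List Nat × List Nat) := rels0

def LJ : List (List ℕ) := [[4], [2], [8], [6]]

def L2 : List (List ℕ) := [[8], [6, 4, 6], [2, 4, 10, 2], [2, 0, 2, 4, 0, 2, 8, 2, 0, 2, 4, 0, 4, 10, 0, 2, 4, 0, 2]]

def hs : List (List ℕ) := [[0], [2], [4], [6], [8], [10]]

def sb : List ℕ := [0, 3, 4, 5, 1, 2, 3, 2, 1, 0, 3, 4, 5, 1, 2, 0, 1]

def sc : List ℕ := [1, 3, 0, 2, 4, 5, 3, 1, 4, 2, 5, 0, 1, 3, 0, 5, 2, 4, 1, 3, 2, 0, 5, 1, 2]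

def ol1 : List (ℕ × List ℕ) := [(1, [2, 3, 0, 2, 1, 3, 2, 0, 1, 3, 2, 0, 3, 0, 1]), (5, [1, 2, 3, 0, 2, 1, 3, 0, 2, 1, 3, 2, 0, 1, 3, 0, 1, 3, 0, 1, 2]), (210, [])]

def ol2 : List (ℕ × List ℕ) := [(417, []), (418, [1, 0, 2, 1, 0, 2, 1, 0, 2, 1, 0, 2, 1, 0, 2, 1, 0, 1, 2, 1]), (419, [0, 2, 1, 0, 2, 1, 2]), (422, [0, 1, 0, 2, 1, 0, 2, 1, 0, 2, 1, 0, 2, 1, 0, 2, 3, 1, 0, 1, 0, 2])]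

def rwA : List (List ℕ × List ℕ × List ℕ) := []

def rwN : List (List ℕ × ℕ × ℕ) := [([], 210, 417), ([6, 2, 4, 0, 2, 10], 71, 452)]

def ws3 : List (List ℕ) := [[8], [6, 4, 6], [2, 4, 10, 2], [2, 0, 2, 4, 0, 2]]

def ol3 : List (ℕ × List ℕ) := [(0, []), (1, [2, 3, 0, 2, 1, 3, 2, 0, 1, 3, 2, 0, 3, 0, 1]), (5, [1, 2, 3, 0, 2, 1, 3, 0, 2, 1, 3, 2, 0, 1, 3, 0, 1, 3, 0, 1, 2]), (210, []), (417, [1, 3, 0, 2, 3, 0, 2, 1, 3, 0, 2, 1, 3, 2, 0, 1, 3, 2, 0, 1, 3, 0, 1, 3, 2, 0, 1]), (452, [0, 2, 3, 2, 0, 3, 1, 2, 0, 1, 3, 0, 2, 3, 1, 0, 2, 3, 1, 0, 2, 3, 1, 0, 2, 3, 1, 0, 1])]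

def ol4 : List (ℕ × List ℕ) := [(0, []), (1, [0, 1, 0, 2, 1, 0, 3, 2, 1, 0, 3, 2, 1]), (3, [0, 2, 1, 0, 3, 1, 0, 2, 1, 0, 1, 0, 3, 1, 0, 2]), (417, []), (418, [1, 0, 2, 1, 0, 3, 1, 0, 2, 1, 0, 3, 1, 0, 2, 1, 0, 1]), (419, [0, 2, 1, 0, 2, 1, 2]), (422, [0, 1, 0, 2, 1, 0, 3, 1, 0, 2, 1, 0, 3, 1, 0, 2, 1, 0, 2])]


end Cfsg.Agent.Lib.SuzS
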