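import Cfsg.Agent.Lib.TCC3aD0

set_option autoImplicit false
set_option maxRecDepth 100000

namespace Cfsg.Agent.Lib.TCC3a
open Cfsg.Agent.Lib.TCCore

noncomputable def n0 : T := (.node (nat_lit 276) (.node (nat_lit 92) l0 (.node (nat_lit 184) l1 l2)) (.node (nat_lit 460) (.node (nat_lit 368) l3 l4) (.node (nat_lit 552) l5 l6)))
noncomputable def n1 : T := (.node (nat_lit 1012) (.node (nat_lit 828) (.node (nat_lit 736) l7 l8) (.node (nat_lit 920) l9 l10)) (.node (nat_lit 1196) (.node (nat_lit 1104) l11 l12) (.node (nat_lit 1288) l13 l14)))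
noncomputable def n2 : T := (.node (nat_lit 1656) (.node (nat_lit 1472) l15 (.node (nat_lit 1564) l16 l17)) (.node (nat_lit 1840) (.node (nat_lit 1748) l18 l19) (.node (nat_lit 1932) l20 l21)))
noncomputable def n3 : T := (.node (nat_lit 2392) (.node (nat_lit 2208) (.node (nat_lit 2116) l22 l23) (.node (nat_lit 2300) l24 l25)) (.node (nat_lit 2576) (.node (nat_lit 2484) l26 l27) (.node (nat_lit 2668) l28 l29)))
noncomputable def n4 : T := (.node (nat_lit 3036) (.node (nat_lit 2852) l30 (.node (nat_lit 2944) l31 l32)) (.node (nat_lit 3220) (.node (nat_lit 3128) l33 l34) (.node (nat_lit 3312) l35 l36)))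
noncomputable def n5 : T := (.node (nat_lit 3772) (.node (nat_lit 3588) (.node (nat_lit 3496) l37 l38) (.node (nat_lit 3680) l39 l40)) (.node (nat_lit 3956) (.node (nat_lit 3864) l41 l42) (.node (nat_lit 4048) l43 l44)))
noncomputable def n6 : T := (.node (nat_lit 4508) (.node (nat_lit 4324) (.node (nat_lit 4232) l45 l46) (.node (nat_lit 4416) l47 l48)) (.node (nat_lit 4692) (.node (nat_lit 4600) l49 l50) (.node (nat_lit 4784) l51 l52)))
noncomputable def n7 : T := (.node (nat_lit 5244) (.node (nat_lit 5060) (.node (nat_lit 4968) l53 l54) (.node (nat_lit 5152) l55 l56)) (.node (nat_lit 5428) (.node (nat_lit 5336) l57 l58) (.node (nat_lit 5520) l59 l60)))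
noncomputable def n8 : T := (.node (nat_lit 5888) (.node (nat_lit 5704) l61 (.node (nat_lit 5796) l62 l63)) (.node (nat_lit 6072) (.node (nat_lit 5980) l64 l65) (.node (nat_lit 6164) l66 l67)))
noncomputable def n9 : T := (.node (nat_lit 6624) (.node (nat_lit 6440) (.node (nat_lit 6348) l68 l69) (.node (nat_lit 6532) l70 l71)) (.node (nat_lit 6808) (.node (nat_lit 6716) l72 l73) (.node (nat_lit 6900) l74 l75)))
noncomputable def n10 : T := (.node (nat_lit 7268) (.node (nat_lit 7084) l76 (.node (nat_lit 7176) l77 l78)) (.node (nat_lit 7452) (.node (nat_lit 7360) l79 l80) (.node (nat_lit 7544) l81 l82)))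
noncomputable def n11 : T := (.node (nat_lit 8004) (.node (nat_lit 7820) (.node (nat_lit 7728) l83 l84) (.node (nat_lit 7912) l85 l86)) (.node (nat_lit 8188) (.node (nat_lit 8096) l87 l88) (.node (nat_lit 8280) l89 l90)))
noncomputable def n12 : T := (.node (nat_lit 8648) (.node (nat_lit 8464) l91 (.node (nat_lit 8556) l92 l93)) (.node (nat_lit 8832) (.node (nat_lit 8740) l94 l95) (.node (nat_lit 8924) l96 l97)))
noncomputable def n13 : T := (.node (nat_lit 9384) (.node (nat_lit 9200) (.node (nat_lit 9108) l98 l99) (.node (nat_lit 9292) l100 l101)) (.node (nat_lit 9568) (.node (nat_lit 9476) l102 l103) (.node (nat_lit 9660) l104 l105)))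
noncomputable def n14 : T := (.node (nat_lit 10120) (.node (nat_lit 9936) (.node (nat_lit 9844) l106 l107) (.node (nat_lit 10028) l108 l109)) (.node (nat_lit 10304) (.node (nat_lit 10212) l110 l111) (.node (nat_lit 10396) l112 l113)))
noncomputable def n15 : T := (.node (nat_lit 10856) (.node (nat_lit 10672) (.node (nat_lit 10580) l114 l115) (.node (nat_lit 10764) l116 l117)) (.node (nat_lit 11040) (.node (nat_lit 10948) l118 l119) (.node (nat_lit 11132) l120 l121)))
noncomputable def n16 : T := (.node (nat_lit 11500) (.node (nat_lit 11316) l122 (.node (nat_lit 11408) l123 l124)) (.node (nat_lit 11684) (.node (nat_lit 11592) l125 l126) (.node (nat_lit 11776) l127 l128)))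
noncomputable def n17 : T := (.node (nat_lit 12236) (.node (nat_lit 12052) (.node (nat_lit 11960) l129 l130) (.node (nat_lit 12144) l131 l132)) (.node (nat_lit 12420) (.node (nat_lit 12328) l133 l134) (.node (nat_lit 12512) l135 l136)))
noncomputable def n18 : T := (.node (nat_lit 12880) (.node (nat_lit 12696) l137 (.node (nat_lit 12788) l138 l139)) (.node (nat_lit 13064) (.node (nat_lit 12972) l140 l141) (.node (nat_lit 13156) l142 l143)))
noncomputable def n19 : T := (.node (nat_lit 13616) (.node (nat_lit 13432) (.node (nat_lit 13340) l144 l145) (.node (nat_lit 13524) l146 l147)) (.node (nat_lit 13800) (.node (nat_lit 13708) l148 l149) (.node (nat_lit 13892) l150 l151)))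
noncomputable def n20 : T := (.node (nat_lit 14260) (.node (nat_lit 14076) l152 (.node (nat_lit 14168) l153 l154)) (.node (nat_lit 14444) (.node (nat_lit 14352) l155 l156) (.node (nat_lit 14536) l157 l158)))
noncomputable def n21 : T := (.node (nat_lit 14996) (.node (nat_lit 14812) (.node (nat_lit 14720) l159 l160) (.node (nat_lit 14904) l161 l162)) (.node (nat_lit 15180) (.node (nat_lit 15088) l163 l164) (.node (nat_lit 15272) l165 l166)))
noncomputable def n22 : T := (.node (nat_lit 15732) (.node (nat_lit 15548) (.node (nat_lit 15456) l167 l168) (.node (nat_lit 15640) l169 l170)) (.node (nat_lit 15916) (.node (nat_lit 15824) l171 l172) (.node (nat_lit 16008) l173 l174)))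
noncomputable def n23 : T := (.node (nat_lit 16468) (.node (nat_lit 16284) (.node (nat_lit 16192) l175 l176) (.node (nat_lit 16376) l177 l178)) (.node (nat_lit 16652) (.node (nat_lit 16560) l179 l180) (.node (nat_lit 16744) l181 l182)))
noncomputable def n24 : T := (.node (nat_lit 17112) (.node (nat_lit 16928) l183 (.node (nat_lit 17020) l184 l185)) (.node (nat_lit 17296) (.node (nat_lit 17204) l186 l187) (.node (nat_lit 17388) l188 l189)))
noncomputable def n25 : T := (.node (nat_lit 17848) (.node (nat_lit 17664) (.node (nat_lit 17572) l190 l191) (.node (nat_lit 17756) l192 l193)) (.node (nat_lit 18032) (.node (nat_lit 17940) l194 l195) (.node (nat_lit 18124) l196 l197)))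
noncomputable def n26 : T := (.node (nat_lit 18492) (.node (nat_lit 18308) l198 (.node (nat_lit 18400) l199 l200)) (.node (nat_lit 18676) (.node (nat_lit 18584) l201 l202) (.node (nat_lit 18768) l203 l204)))
noncomputable def n27 : T := (.node (nat_lit 19228) (.node (nat_lit 19044) (.node (nat_lit 18952) l205 l206) (.node (nat_lit 19136) l207 l208)) (.node (nat_lit 19412) (.node (nat_lit 19320) l209 l210) (.node (nat_lit 19504) l211 l212)))
noncomputable def n28 : T := (.node (nat_lit 19872) (.node (nat_lit 19688) l213 (.node (nat_lit 19780) l214 l215)) (.node (nat_lit 20056) (.node (nat_lit 19964) l216 l217) (.node (nat_lit 20148) l218 l219)))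
noncomputable def n29 : T := (.node (nat_lit 20608) (.node (nat_lit 20424) (.node (nat_lit 20332) l220 l221) (.node (nat_lit 20516) l222 l223)) (.node (nat_lit 20792) (.node (nat_lit 20700) l224 l225) (.node (nat_lit 20884) l226 l227)))
noncomputable def n30 : T := (.node (nat_lit 21344) (.node (nat_lit 21160) (.node (nat_lit 21068) l228 l229) (.node (nat_lit 21252) l230 l231)) (.node (nat_lit 21528) (.node (nat_lit 21436) l232 l233) (.node (nat_lit 21620) l234 l235)))
noncomputable def n31 : T := (.node (nat_lit 22080) (.node (nat_lit 21896) (.node (nat_lit 21804) l236 l237) (.node (nat_lit 21988) l238 l239)) (.node (nat_lit 22264) (.node (nat_lit 22172) l240 l241) (.node (nat_lit 22356) l242 l243)))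
noncomputable def tb : T := (.node (nat_lit 11224) (.node (nat_lit 5612) (.node (nat_lit 2760) (.node (nat_lit 1380) (.node (nat_lit 644) n0 n1) (.node (nat_lit 2024) n2 n3)) (.node (nat_lit 4140) (.node (nat_lit 3404) n4 n5) (.node (nat_lit 4876) n6 n7))) (.node (nat_lit 8372) (.node (nat_lit 6992) (.node (nat_lit 6256) n8 n9) (.node (nat_lit 7636) n10 n11)) (.node (nat_lit 9752) (.node (nat_lit 9016) n12 n13) (.node (nat_lit 10488) n14 n15)))) (.node (nat_lit 16836) (.node (nat_lit 13984) (.node (nat_lit 12604) (.node (nat_lit 11868) n16 n17) (.node (nat_lit 13248) n18 n19)) (.node (nat_lit 15364) (.node (nat_lit 14628) n20 n21) (.node (nat_lit 16100) n22 n23))) (.node (nat_lit 19596) (.node (nat_lit 18216) (.node (nat_lit 17480) n24 n25) (.node (nat_lit 18860) n26 n27)) (.node (nat_lit 20976) (.node (nat_lit 20240) n28 n29) (.node (nat_lit 21712) n30 n31)))))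
noncomputable def r0 : WT := (.node (nat_lit 5) (.leaf (nat_lit 14346) [nat_lit 156, nat_lit 182, nat_lit 52, nat_lit 104, nat_lit 182, nat_lit 156, nat_lit 104]) (.leaf (nat_lit 17408) [nat_lit 104, nat_lit 182, nat_lit 104, nat_lit 182, nat_lit 156, nat_lit 52, nat_lit 156]))
noncomputable def r1 : WT := (.node (nat_lit 8) (.node (nat_lit 7) (.leaf (nat_lit 25612) [nat_lit 182, nat_lit 52, nat_lit 130, nat_lit 182, nat_lit 130, nat_lit 182, nat_lit 130]) (.leaf (nat_lit 14351) [nat_lit 182, nat_lit 156, nat_lit 52, nat_lit 104, nat_lit 156, nat_lit 182, nat_lit 104])) (.node (nat_lit 9) (.leaf (nat_lit 46080) [nat_lit 78, nat_lit 130, nat_lit 78, nat_lit 52, nat_lit 130, nat_lit 52, nat_lit 78, nat_lit 130, nat_lit 78, nat_lit 52, nat_lit 130]) (.leaf (nat_lit 41998) [nat_lit 156, nat_lit 52, nat_lit 78, nat_lit 130, nat_lit 182, nat_lit 78, nat_lit 156, nat_lit 130])))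
noncomputable def r2 : WT := (.node (nat_lit 14) (.node (nat_lit 12) (.node (nat_lit 11) (.leaf (nat_lit 17420) [nat_lit 156, nat_lit 52, nat_lit 104, nat_lit 182, nat_lit 104, nat_lit 182, nat_lit 156]) (.leaf (nat_lit 18436) [nat_lit 182, nat_lit 156, nat_lit 104, nat_lit 182, nat_lit 156, nat_lit 52, nat_lit 104])) (.node (nat_lit 13) (.leaf (nat_lit 47108) [nat_lit 130, nat_lit 52, nat_lit 130, nat_lit 52, nat_lit 130, nat_lit 52, nat_lit 156, nat_lit 130, nat_lit 156, nat_lit 52, nat_lit 130]) (.leaf (nat_lit 17411) [nat_lit 156, nat_lit 182, nat_lit 104, nat_lit 182, nat_lit 104, nat_lit 52, nat_lit 156]))) (.node (nat_lit 16) (.node (nat_lit 15) (.leaf (nat_lit 45073) [nat_lit 156, nat_lit 52, nat_lit 156, nat_lit 78, nat_lit 130, nat_lit 182, nat_lit 78, nat_lit 130]) (.leaf (nat_lit 24588) [nat_lit 182, nat_lit 52, nat_lit 78, nat_lit 182, nat_lit 78, nat_lit 182, nat_lit 78])) (.node (nat_lit 17) (.leaf (nat_lit 14336) [nat_lit 104, nat_lit 182, nat_lit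 156, nat_lit 104, nat_lit 52, nat_lit 156, nat_lit 182]) (.node (nat_lit 18) (.leaf (nat_lit 22528) [nat_lit 156, nat_lit 182, nat_lit 156, nat_lit 52, nat_lit 156, nat_lit 182, nat_lit 156]) (.leaf (nat_lit 40977) [nat_lit 156, nat_lit 52, nat_lit 156, nat_lit 130, nat_lit 78, nat_lit 182, nat_lit 130, nat_lit 78])))))
noncomputable def r3 : WT := (.leaf (nat_lit 48128) [nat_lit 78, nat_lit 156, nat_lit 52, nat_lit 182, nat_lit 156, nat_lit 78, nat_lit 52, nat_lit 130, nat_lit 78, nat_lit 130, nat_lit 78, nat_lit 130])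
noncomputable def r4 : WT := (.node (nat_lit 25) (.leaf (nat_lit 40960) [nat_lit 78, nat_lit 130, nat_lit 182, nat_lit 78, nat_lit 130, nat_lit 156, nat_lit 52, nat_lit 156]) (.leaf (nat_lit 47112) [nat_lit 130, nat_lit 52, nat_lit 130, nat_lit 52, nat_lit 156, nat_lit 130, nat_lit 156, nat_lit 52, nat_lit 130, nat_lit 52, nat_lit 130]))
noncomputable def r5 : WT := (.leaf (nat_lit 48147) [nat_lit 156, nat_lit 78, nat_lit 52, nat_lit 130, nat_lit 78, nat_lit 130, nat_lit 78, nat_lit 130, nat_lit 52, nat_lit 78, nat_lit 156, nat_lit 182])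
noncomputable def r6 : WT := (.node (nat_lit 28) (.leaf (nat_lit 18447) [nat_lit 156, nat_lit 182, nat_lit 104, nat_lit 156, nat_lit 182, nat_lit 52, nat_lit 104]) (.leaf (nat_lit 40974) [nat_lit 156, nat_lit 52, nat_lit 78, nat_lit 130, nat_lit 182, nat_lit 78, nat_lit 130, nat_lit 156]))
noncomputable def r7 : WT := (.node (nat_lit 30) (.leaf (nat_lit 36864) [nat_lit 156, nat_lit 52, nat_lit 156, nat_lit 52, nat_lit 156, nat_lit 52, nat_lit 156]) (.leaf (nat_lit 17423) [nat_lit 156, nat_lit 52, nat_lit 156, nat_lit 182, nat_lit 104, nat_lit 182, nat_lit 104]))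
noncomputable def r8 : WT := (.leaf (nat_lit 48142) [nat_lit 130, nat_lit 78, nat_lit 130, nat_lit 78, nat_lit 130, nat_lit 52, nat_lit 78, nat_lit 156, nat_lit 52, nat_lit 182, nat_lit 156, nat_lit 78])
noncomputable def r9 : WT := (.node (nat_lit 32) (.leaf (nat_lit 18443) [nat_lit 104, nat_lit 52, nat_lit 156, nat_lit 182, nat_lit 104, nat_lit 156, nat_lit 182]) r8)
noncomputable def r10 : WT := (.node (nat_lit 34) (.leaf (nat_lit 19468) [nat_lit 156, nat_lit 52, nat_lit 104, nat_lit 156, nat_lit 182, nat_lit 104, nat_lit 182]) (.node (nat_lit 35) (.leaf (nat_lit 40963) [nat_lit 156, nat_lit 130, nat_lit 78, nat_lit 182, nat_lit 130, nat_lit 78, nat_lit 52, nat_lit 156]) (.leaf (nat_lit 19459) [nat_lit 182, nat_lit 104, nat_lit 182, nat_lit 156, nat_lit 104, nat_lit 52, nat_lit 156])))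
noncomputable def r11 : WT := (.node (nat_lit 37) (.leaf (nat_lit 20490) [nat_lit 156, nat_lit 182, nat_lit 52, nat_lit 104, nat_lit 182, nat_lit 104, nat_lit 156]) (.node (nat_lit 38) (.leaf (nat_lit 26639) [nat_lit 104, nat_lit 156, nat_lit 52, nat_lit 182, nat_lit 156, nat_lit 182, nat_lit 104]) (.leaf (nat_lit 26634) [nat_lit 156, nat_lit 104, nat_lit 52, nat_lit 104, nat_lit 182, nat_lit 156, nat_lit 182])))
noncomputable def r12 : WT := (.node (nat_lit 41) (.node (nat_lit 40) (.leaf (nat_lit 42001) [nat_lit 156, nat_lit 52, nat_lit 130, nat_lit 156, nat_lit 78, nat_lit 182, nat_lit 130, nat_lit 78]) (.leaf (nat_lit 47104) [nat_lit 130, nat_lit 52, nat_lit 130, nat_lit 52, nat_lit 130, nat_lit 52, nat_lit 130, nat_lit 52, nat_lit 156, nat_lit 130, nat_lit 156])) (.node (nat_lit 42) (.leaf (nat_lit 26629) [nat_lit 182, nat_lit 156, nat_lit 182, nat_lit 104, nat_lit 52, nat_lit 104, nat_lit 156]) (.leaf (nat_lit 32775) [nat_lit 156, nat_lit 182, nat_lit 104,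 nat_lit 52, nat_lit 156, nat_lit 104, nat_lit 182])))
noncomputable def r13 : WT := (.leaf (nat_lit 48134) [nat_lit 182, nat_lit 156, nat_lit 78, nat_lit 52, nat_lit 130, nat_lit 78, nat_lit 130, nat_lit 78, nat_lit 130, nat_lit 52, nat_lit 78, nat_lit 156])
noncomputable def r14 : WT := (.node (nat_lit 46) (.node (nat_lit 44) (.leaf (nat_lit 41987) [nat_lit 130, nat_lit 156, nat_lit 78, nat_lit 182, nat_lit 130, nat_lit 78, nat_lit 52, nat_lit 156]) (.node (nat_lit 45) (.leaf (nat_lit 20485) [nat_lit 156, nat_lit 104, nat_lit 182, nat_lit 104, nat_lit 52, nat_lit 182, nat_lit 156]) (.leaf (nat_lit 19456) [nat_lit 104, nat_lit 156, nat_lit 182, nat_lit 104, nat_lit 182, nat_lit 52, nat_lit 156]))) (.node (nat_lit 48) (.node (nat_lit 47) (.leaf (nat_lit 45070) [nat_lit 156, nat_lit 52, nat_lit 130, nat_lit 78, nat_lit 182, nat_lit 130, nat_lit 78, nat_lit 156]) (.leaf (nat_lit 24576) [nat_lit 78, nat_lit 182, nat_lit 78, nat_lit 182, nat_lit 78, nat_lit 52, nat_lit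 182])) (.node (nat_lit 49) r13 (.leaf (nat_lit 41984) [nat_lit 78, nat_lit 130, nat_lit 182, nat_lit 78, nat_lit 156, nat_lit 130, nat_lit 52, nat_lit 156]))))
noncomputable def r15 : WT := (.leaf (nat_lit 48153) [nat_lit 130, nat_lit 78, nat_lit 130, nat_lit 78, nat_lit 130, nat_lit 52, nat_lit 78, nat_lit 156, nat_lit 182, nat_lit 52, nat_lit 156, nat_lit 78])
noncomputable def r16 : WT := (.node (nat_lit 54) (.node (nat_lit 52) (.node (nat_lit 51) r15 (.leaf (nat_lit 35840) [nat_lit 104, nat_lit 182, nat_lit 52, nat_lit 104, nat_lit 156, nat_lit 182, nat_lit 156])) (.node (nat_lit 53) (.leaf (nat_lit 35849) [nat_lit 182, nat_lit 104, nat_lit 52, nat_lit 156, nat_lit 182, nat_lit 156, nat_lit 104]) (.leaf (nat_lit 37888) [nat_lit 182, nat_lit 104, nat_lit 182, nat_lit 104, nat_lit 156, nat_lit 52, nat_lit 156]))) (.node (nat_lit 56) (.node (nat_lit 55) (.leaf (nat_lit 25600) [nat_lit 130, nat_lit 182, nat_lit 130, nat_lit 182, nat_lit 130, nat_lit 52, nat_lit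 182]) (.leaf (nat_lit 35846) [nat_lit 104, nat_lit 156, nat_lit 182, nat_lit 156, nat_lit 52, nat_lit 104, nat_lit 182])) (.node (nat_lit 57) (.leaf (nat_lit 34816) [nat_lit 104, nat_lit 52, nat_lit 104, nat_lit 52, nat_lit 104, nat_lit 52, nat_lit 104]) (.node (nat_lit 58) (.leaf (nat_lit 32783) [nat_lit 156, nat_lit 104, nat_lit 182, nat_lit 52, nat_lit 156, nat_lit 182, nat_lit 104]) (.leaf (nat_lit 32776) [nat_lit 182, nat_lit 104, nat_lit 156, nat_lit 52, nat_lit 104, nat_lit 182, nat_lit 156])))))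
noncomputable def r17 : WT := (.node (nat_lit 67) (.leaf (nat_lit 33792) [nat_lit 104, nat_lit 182, nat_lit 156, nat_lit 52, nat_lit 182, nat_lit 156, nat_lit 104]) (.leaf (nat_lit 37903) [nat_lit 156, nat_lit 52, nat_lit 156, nat_lit 104, nat_lit 182, nat_lit 104, nat_lit 182]))
noncomputable def r18 : WT := (.node (nat_lit 70) (.leaf (nat_lit 31744) [nat_lit 104, nat_lit 182, nat_lit 156, nat_lit 182, nat_lit 52, nat_lit 104, nat_lit 156]) (.leaf (nat_lit 45056) [nat_lit 130, nat_lit 78, nat_lit 182, nat_lit 130, nat_lit 78, nat_lit 156, nat_lit 52, nat_lit 156]))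
noncomputable def r19 : WT := (.node (nat_lit 72) (.leaf (nat_lit 30724) [nat_lit 182, nat_lit 104, nat_lit 156, nat_lit 182, nat_lit 156, nat_lit 52, nat_lit 104]) (.leaf (nat_lit 37891) [nat_lit 156, nat_lit 104, nat_lit 182, nat_lit 104, nat_lit 182, nat_lit 52, nat_lit 156]))
noncomputable def r20 : WT := (.node (nat_lit 74) (.leaf (nat_lit 20480) [nat_lit 104, nat_lit 182, nat_lit 104, nat_lit 156, nat_lit 52, nat_lit 156, nat_lit 182]) (.leaf (nat_lit 35855) [nat_lit 156, nat_lit 182, nat_lit 156, nat_lit 104, nat_lit 52, nat_lit 182, nat_lit 104]))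
noncomputable def r21 : WT := (.node (nat_lit 76) (.leaf (nat_lit 31759) [nat_lit 156, nat_lit 104, nat_lit 52, nat_lit 182, nat_lit 156, nat_lit 182, nat_lit 104]) (.node (nat_lit 77) (.leaf (nat_lit 30735) [nat_lit 156, nat_lit 182, nat_lit 156, nat_lit 104, nat_lit 182, nat_lit 52, nat_lit 104]) (.leaf (nat_lit 33800) [nat_lit 182, nat_lit 156, nat_lit 104, nat_lit 52, nat_lit 104, nat_lit 182, nat_lit 156])))
noncomputable def r22 : WT := (.leaf (nat_lit 48139) [nat_lit 78, nat_lit 156, nat_lit 182, nat_lit 52, nat_lit 156, nat_lit 78, nat_lit 52, nat_lit 130, nat_lit 78, nat_lit 130, nat_lit 78, nat_lit 130])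
noncomputable def r23 : WT := (.node (nat_lit 79) (.leaf (nat_lit 47120) [nat_lit 156, nat_lit 130, nat_lit 156, nat_lit 52, nat_lit 130, nat_lit 52, nat_lit 130, nat_lit 52, nat_lit 130, nat_lit 52, nat_lit 130]) (.node (nat_lit 80) (.leaf (nat_lit 20495) [nat_lit 182, nat_lit 156, nat_lit 52, nat_lit 156, nat_lit 104, nat_lit 182, nat_lit 104]) r22))
noncomputable def r24 : WT := (.node (nat_lit 65) (.node (nat_lit 61) (.node (nat_lit 60) (.leaf (nat_lit 32768) [nat_lit 104, nat_lit 182, nat_lit 156, nat_lit 52, nat_lit 182, nat_lit 104, nat_lit 156]) (.leaf (nat_lit 31749) [nat_lit 182, nat_lit 156, nat_lit 182, nat_lit 104, nat_lit 52, nat_lit 156, nat_lit 104])) (.node (nat_lit 63) (.node (nat_lit 62) (.leaf (nat_lit 29696) [nat_lit 104, nat_lit 52, nat_lit 156, nat_lit 52, nat_lit 104, nat_lit 52, nat_lit 156]) (.leaf (nat_lit 29700) [nat_lit 156, nat_lit 52, nat_lit 104, nat_lit 52, nat_lit 156, nat_lit 52, nat_lit 104])) (.node (nat_lit 64) (.leaf (nat_lit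 30731) [nat_lit 104, nat_lit 52, nat_lit 156, nat_lit 182, nat_lit 156, nat_lit 104, nat_lit 182]) (.leaf (nat_lit 19471) [nat_lit 156, nat_lit 52, nat_lit 182, nat_lit 104, nat_lit 182, nat_lit 156, nat_lit 104])))) (.node (nat_lit 71) (.node (nat_lit 68) (.node (nat_lit 66) (.leaf (nat_lit 47116) [nat_lit 130, nat_lit 52, nat_lit 156, nat_lit 130, nat_lit 156, nat_lit 52, nat_lit 130, nat_lit 52, nat_lit 130, nat_lit 52, nat_lit 130]) r17) (.node (nat_lit 69) (.leaf (nat_lit 45059) [nat_lit 156, nat_lit 78, nat_lit 130, nat_lit 182, nat_lit 78, nat_lit 130, nat_lit 52, nat_lit 156]) r18)) (.node (nat_lit 75) (.node (nat_lit 73) r19 r20) (.node (nat_lit 78) r21 r23))))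
noncomputable def r25 : WT := (.node (nat_lit 29) (.node (nat_lit 23) (.node (nat_lit 21) (.node (nat_lit 20) (.leaf (nat_lit 26624) [nat_lit 104, nat_lit 182, nat_lit 156, nat_lit 182, nat_lit 52, nat_lit 156, nat_lit 104]) (.leaf (nat_lit 46088) [nat_lit 130, nat_lit 52, nat_lit 78, nat_lit 130, nat_lit 78, nat_lit 52, nat_lit 130, nat_lit 52, nat_lit 78, nat_lit 130, nat_lit 78])) (.node (nat_lit 22) (.leaf (nat_lit 16384) [nat_lit 104, nat_lit 182, nat_lit 104, nat_lit 52, nat_lit 104, nat_lit 182, nat_lit 104]) (.leaf (nat_lit 18432) [nat_lit 104, nat_lit 52, nat_lit 182, nat_lit 156, nat_lit 104, nat_lit 182, nat_lit 156]))) (.node (nat_lit 26) (.node (nat_lit 24) r3 r4) (.node (nat_lit 27) r5 r6))) (.node (nat_lit 39) (.node (nat_lit 33) (.node (nat_lit 31) r7 r9) (.node (nat_lit 36) r10 r11)) (.node (nat_lit 50) (.node (nat_lit 43) r12 r14) (.node (nat_lit 59) r16 r24))))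
noncomputable def w0 : WT := (.node (nat_lit 1) (.leaf (nat_lit 0) [nat_lit 52]) (.node (nat_lit 4) (.node (nat_lit 2) (.leaf (nat_lit 7168) [nat_lit 182, nat_lit 52, nat_lit 182]) (.node (nat_lit 3) (.leaf (nat_lit 11264) [nat_lit 78, nat_lit 52, nat_lit 78, nat_lit 52, nat_lit 78]) (.leaf (nat_lit 14341) [nat_lit 104, nat_lit 156, nat_lit 182, nat_lit 104, nat_lit 52, nat_lit 182, nat_lit 156]))) (.node (nat_lit 10) (.node (nat_lit 6) r0 r1) (.node (nat_lit 19) r2 r25))))
noncomputable def r26 : WT := (.node (nat_lit 6) (.leaf (nat_lit 15360) [nat_lit 104, nat_lit 78, nat_lit 104, nat_lit 78, nat_lit 156, nat_lit 104, nat_lit 156]) (.leaf (nat_lit 40975) [nat_lit 52, nat_lit 156, nat_lit 52, nat_lit 156, nat_lit 130, nat_lit 78, nat_lit 182, nat_lit 130]))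
noncomputable def r27 : WT := (.node (nat_lit 8) (.leaf (nat_lit 21504) [nat_lit 156, nat_lit 78, nat_lit 156, nat_lit 78, nat_lit 156, nat_lit 78, nat_lit 156]) (.leaf (nat_lit 40968) [nat_lit 130, nat_lit 156, nat_lit 52, nat_lit 156, nat_lit 52, nat_lit 78, nat_lit 130, nat_lit 182]))
noncomputable def r28 : WT := (.leaf (nat_lit 48140) [nat_lit 52, nat_lit 130, nat_lit 78, nat_lit 130, nat_lit 78, nat_lit 130, nat_lit 52, nat_lit 78, nat_lit 156, nat_lit 52, nat_lit 182, nat_lit 156])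
noncomputable def r29 : WT := (.leaf (nat_lit 48150) [nat_lit 130, nat_lit 52, nat_lit 78, nat_lit 156, nat_lit 52, nat_lit 182, nat_lit 156, nat_lit 78, nat_lit 52, nat_lit 130, nat_lit 78, nat_lit 130])
noncomputable def r30 : WT := (.node (nat_lit 12) (.node (nat_lit 10) (.leaf (nat_lit 38920) [nat_lit 104, nat_lit 156, nat_lit 78, nat_lit 156, nat_lit 78, nat_lit 104, nat_lit 78, nat_lit 156]) (.node (nat_lit 11) (.leaf (nat_lit 24578) [nat_lit 182, nat_lit 78, nat_lit 182, nat_lit 78, nat_lit 52, nat_lit 182, nat_lit 52]) (.leaf (nat_lit 43020) [nat_lit 182, nat_lit 130, nat_lit 78, nat_lit 104, nat_lit 182, nat_lit 104, nat_lit 182, nat_lit 130]))) (.node (nat_lit 14) (.node (nat_lit 13) (.leaf (nat_lit 40962) [nat_lit 130, nat_lit 182, nat_lit 78, nat_lit 130, nat_lit 156, nat_lit 52, nat_lit 156, nat_lit 52]) r28) (.node (nat_lit 15) r29 (.leaf (nat_lit 46086) [nat_lit 52, nat_lit 130, nat_lit 52, nat_lit 78, nat_lit 130, nat_lit 78, nat_lit 52, nat_lit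 130, nat_lit 52, nat_lit 78, nat_lit 130]))))
noncomputable def r31 : WT := (.leaf (nat_lit 48146) [nat_lit 130, nat_lit 78, nat_lit 130, nat_lit 52, nat_lit 78, nat_lit 156, nat_lit 52, nat_lit 182, nat_lit 156, nat_lit 78, nat_lit 52, nat_lit 130])
noncomputable def r32 : WT := (.node (nat_lit 26) (.leaf (nat_lit 39942) [nat_lit 104, nat_lit 156, nat_lit 78, nat_lit 156, nat_lit 104, nat_lit 78, nat_lit 104, nat_lit 156]) (.leaf (nat_lit 39936) [nat_lit 104, nat_lit 156, nat_lit 78, nat_lit 104, nat_lit 156, nat_lit 78, nat_lit 156, nat_lit 104]))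
noncomputable def r33 : WT := (.leaf (nat_lit 48130) [nat_lit 156, nat_lit 52, nat_lit 182, nat_lit 156, nat_lit 78, nat_lit 52, nat_lit 130, nat_lit 78, nat_lit 130, nat_lit 78, nat_lit 130, nat_lit 52])
noncomputable def r34 : WT := (.node (nat_lit 29) (.leaf (nat_lit 45060) [nat_lit 182, nat_lit 130, nat_lit 78, nat_lit 156, nat_lit 52, nat_lit 156, nat_lit 52, nat_lit 130]) (.leaf (nat_lit 38912) [nat_lit 104, nat_lit 78, nat_lit 156, nat_lit 78, nat_lit 104, nat_lit 156, nat_lit 78, nat_lit 156]))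
noncomputable def r35 : WT := (.node (nat_lit 31) (.leaf (nat_lit 43025) [nat_lit 130, nat_lit 182, nat_lit 78, nat_lit 130, nat_lit 182, nat_lit 104, nat_lit 182, nat_lit 104]) (.leaf (nat_lit 41999) [nat_lit 52, nat_lit 156, nat_lit 52, nat_lit 130, nat_lit 156, nat_lit 78, nat_lit 182, nat_lit 130]))
noncomputable def r36 : WT := (.leaf (nat_lit 48151) [nat_lit 52, nat_lit 130, nat_lit 78, nat_lit 130, nat_lit 78, nat_lit 130, nat_lit 52, nat_lit 78, nat_lit 156, nat_lit 182, nat_lit 52, nat_lit 156])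
noncomputable def r37 : WT := (.node (nat_lit 33) (.leaf (nat_lit 45066) [nat_lit 156, nat_lit 52, nat_lit 156, nat_lit 52, nat_lit 130, nat_lit 78, nat_lit 182, nat_lit 130]) (.node (nat_lit 34) (.leaf (nat_lit 44044) [nat_lit 130, nat_lit 182, nat_lit 78, nat_lit 130, nat_lit 104, nat_lit 182, nat_lit 104, nat_lit 182]) r36))
noncomputable def r38 : WT := (.node (nat_lit 37) (.node (nat_lit 36) (.leaf (nat_lit 43013) [nat_lit 130, nat_lit 182, nat_lit 104, nat_lit 182, nat_lit 104, nat_lit 78, nat_lit 130, nat_lit 182]) (.leaf (nat_lit 44037) [nat_lit 182, nat_lit 104, nat_lit 182, nat_lit 104, nat_lit 130, nat_lit 78, nat_lit 182, nat_lit 130])) (.node (nat_lit 38) (.leaf (nat_lit 41986) [nat_lit 130, nat_lit 182, nat_lit 78, nat_lit 156, nat_lit 130, nat_lit 52, nat_lit 156, nat_lit 52]) (.node (nat_lit 39) (.leaf (nat_lit 39948) [nat_lit 156, nat_lit 104, nat_lit 78, nat_lit 104, nat_lit 156, nat_lit 78, nat_lit 104, nat_lit 156]) (.leaf (nat_lit 15368)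 [nat_lit 156, nat_lit 104, nat_lit 156, nat_lit 78, nat_lit 104, nat_lit 78, nat_lit 104]))))
noncomputable def r39 : WT := (.leaf (nat_lit 48141) [nat_lit 156, nat_lit 182, nat_lit 52, nat_lit 156, nat_lit 78, nat_lit 52, nat_lit 130, nat_lit 78, nat_lit 130, nat_lit 78, nat_lit 130, nat_lit 52])
noncomputable def r40 : WT := (.node (nat_lit 49) (.leaf (nat_lit 15364) [nat_lit 104, nat_lit 78, nat_lit 156, nat_lit 104, nat_lit 156, nat_lit 78, nat_lit 104]) (.leaf (nat_lit 38929) [nat_lit 156, nat_lit 78, nat_lit 156, nat_lit 104, nat_lit 78, nat_lit 156, nat_lit 78, nat_lit 104]))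
noncomputable def r41 : WT := (.node (nat_lit 51) (.leaf (nat_lit 24582) [nat_lit 182, nat_lit 78, nat_lit 52, nat_lit 182, nat_lit 52, nat_lit 78, nat_lit 182]) (.leaf (nat_lit 39947) [nat_lit 156, nat_lit 104, nat_lit 78, nat_lit 104, nat_lit 156, nat_lit 78, nat_lit 156, nat_lit 104]))
noncomputable def r42 : WT := (.leaf (nat_lit 48131) [nat_lit 130, nat_lit 78, nat_lit 130, nat_lit 52, nat_lit 78, nat_lit 156, nat_lit 182, nat_lit 52, nat_lit 156, nat_lit 78, nat_lit 52, nat_lit 130])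
noncomputable def r43 : WT := (.node (nat_lit 53) (.leaf (nat_lit 39941) [nat_lit 156, nat_lit 104, nat_lit 78, nat_lit 156, nat_lit 104, nat_lit 78, nat_lit 104, nat_lit 156]) r42)
noncomputable def r44 : WT := (.node (nat_lit 44) (.node (nat_lit 42) (.node (nat_lit 41) (.leaf (nat_lit 38915) [nat_lit 156, nat_lit 104, nat_lit 78, nat_lit 156, nat_lit 78, nat_lit 104, nat_lit 78, nat_lit 156]) (.leaf (nat_lit 24586) [nat_lit 52, nat_lit 182, nat_lit 52, nat_lit 78, nat_lit 182, nat_lit 78, nat_lit 182])) (.node (nat_lit 43) r39 (.leaf (nat_lit 41992) [nat_lit 156, nat_lit 130, nat_lit 52, nat_lit 156, nat_lit 52, nat_lit 78, nat_lit 130, nat_lit 182]))) (.node (nat_lit 47) (.node (nat_lit 45) (.leaf (nat_lit 39953) [nat_lit 104, nat_lit 156, nat_lit 78, nat_lit 156, nat_lit 104, nat_lit 78, nat_lit 156, nat_lit 104]) (.node (nat_lit 46) (.leaf (nat_lit 44032) [nat_lit 130, nat_lit 104, nat_lit 182, nat_lit 104, nat_lit 182, nat_lit 78, nat_lit 130, nat_lit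 182]) (.leaf (nat_lit 38925) [nat_lit 104, nat_lit 78, nat_lit 156, nat_lit 78, nat_lit 156, nat_lit 104, nat_lit 78, nat_lit 156]))) (.node (nat_lit 50) (.node (nat_lit 48) (.leaf (nat_lit 45069) [nat_lit 130, nat_lit 52, nat_lit 156, nat_lit 52, nat_lit 156, nat_lit 78, nat_lit 130, nat_lit 182]) r40) (.node (nat_lit 52) r41 r43))))
noncomputable def r45 : WT := (.node (nat_lit 24) (.node (nat_lit 20) (.node (nat_lit 18) (.node (nat_lit 17) (.leaf (nat_lit 43008) [nat_lit 104, nat_lit 182, nat_lit 104, nat_lit 182, nat_lit 130, nat_lit 78, nat_lit 182, nat_lit 130]) (.leaf (nat_lit 41993) [nat_lit 182, nat_lit 130, nat_lit 78, nat_lit 52, nat_lit 156, nat_lit 52, nat_lit 130, nat_lit 156])) (.node (nat_lit 19) r31 (.leaf (nat_lit 45063) [nat_lit 130, nat_lit 182, nat_lit 78, nat_lit 130, nat_lit 52, nat_lit 156, nat_lit 52, nat_lit 156]))) (.node (nat_lit 22) (.node (nat_lit 21) (.leaf (nat_lit 46082) [nat_lit 130, nat_lit 78, nat_lit 52, nat_lit 130, nat_lit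 52, nat_lit 78, nat_lit 130, nat_lit 78, nat_lit 52, nat_lit 130, nat_lit 52]) (.leaf (nat_lit 44049) [nat_lit 182, nat_lit 130, nat_lit 78, nat_lit 182, nat_lit 104, nat_lit 182, nat_lit 104, nat_lit 130])) (.node (nat_lit 23) (.leaf (nat_lit 38916) [nat_lit 156, nat_lit 78, nat_lit 104, nat_lit 156, nat_lit 78, nat_lit 156, nat_lit 78, nat_lit 104]) (.leaf (nat_lit 38926) [nat_lit 156, nat_lit 78, nat_lit 104, nat_lit 78, nat_lit 156, nat_lit 78, nat_lit 104, nat_lit 156])))) (.node (nat_lit 30) (.node (nat_lit 27) (.node (nat_lit 25) (.leaf (nat_lit 38921) [nat_lit 156, nat_lit 78, nat_lit 104, nat_lit 78, nat_lit 156, nat_lit 78, nat_lit 156, nat_lit 104]) r32) (.node (nat_lit 28) r33 r34)) (.node (nat_lit 35) (.node (nat_lit 32) r35 r37) (.node (nat_lit 40) r38 r44))))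
noncomputable def w1 : WT := (.node (nat_lit 1) (.leaf (nat_lit 1024) [nat_lit 78]) (.node (nat_lit 5) (.node (nat_lit 3) (.node (nat_lit 2) (.leaf (nat_lit 9216) [nat_lit 182, nat_lit 78, nat_lit 182, nat_lit 78, nat_lit 182]) (.leaf (nat_lit 11266) [nat_lit 52, nat_lit 78, nat_lit 52, nat_lit 78, nat_lit 52])) (.node (nat_lit 4) (.leaf (nat_lit 12288) [nat_lit 104, nat_lit 78, nat_lit 104, nat_lit 78, nat_lit 104]) (.leaf (nat_lit 40969) [nat_lit 182, nat_lit 130, nat_lit 78, nat_lit 52, nat_lit 156, nat_lit 52, nat_lit 156, nat_lit 130]))) (.node (nat_lit 9) (.node (nat_lit 7) r26 r27) (.node (nat_lit 16) r30 r45))))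
noncomputable def r46 : WT := (.node (nat_lit 6) (.leaf (nat_lit 14338) [nat_lit 182, nat_lit 156, nat_lit 104, nat_lit 52, nat_lit 156, nat_lit 182, nat_lit 52]) (.leaf (nat_lit 14343) [nat_lit 156, nat_lit 182, nat_lit 104, nat_lit 52, nat_lit 182, nat_lit 156, nat_lit 52]))
noncomputable def r47 : WT := (.node (nat_lit 9) (.node (nat_lit 8) (.leaf (nat_lit 17414) [nat_lit 182, nat_lit 156, nat_lit 52, nat_lit 156, nat_lit 52, nat_lit 104, nat_lit 182]) (.leaf (nat_lit 16390) [nat_lit 52, nat_lit 104, nat_lit 182, nat_lit 104, nat_lit 52, nat_lit 104, nat_lit 182])) (.node (nat_lit 11) (.node (nat_lit 10) (.leaf (nat_lit 38914) [nat_lit 78, nat_lit 156, nat_lit 78, nat_lit 104, nat_lit 156, nat_lit 78, nat_lit 156, nat_lit 78]) (.leaf (nat_lit 18434) [nat_lit 52, nat_lit 182, nat_lit 156, nat_lit 104, nat_lit 182, nat_lit 156, nat_lit 52])) (.node (nat_lit 12) (.leaf (nat_lit 44036) [nat_lit 182, nat_lit 104, nat_lit 182, nat_lit 78, nat_lit 130, nat_lit 182,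 nat_lit 78, nat_lit 130]) (.leaf (nat_lit 23552) [nat_lit 182, nat_lit 104, nat_lit 182, nat_lit 104, nat_lit 182, nat_lit 104, nat_lit 182]))))
noncomputable def r48 : WT := (.node (nat_lit 20) (.leaf (nat_lit 16386) [nat_lit 182, nat_lit 104, nat_lit 52, nat_lit 104, nat_lit 182, nat_lit 104, nat_lit 52]) (.leaf (nat_lit 18445) [nat_lit 52, nat_lit 156, nat_lit 182, nat_lit 104, nat_lit 156, nat_lit 182, nat_lit 52]))
noncomputable def r49 : WT := (.node (nat_lit 22) (.leaf (nat_lit 43014) [nat_lit 182, nat_lit 130, nat_lit 78, nat_lit 182, nat_lit 130, nat_lit 78, nat_lit 104, nat_lit 182]) (.leaf (nat_lit 39938) [nat_lit 156, nat_lit 78, nat_lit 104, nat_lit 156, nat_lit 78, nat_lit 156, nat_lit 104, nat_lit 78]))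
noncomputable def r50 : WT := (.node (nat_lit 24) (.leaf (nat_lit 28672) [nat_lit 182, nat_lit 156, nat_lit 182, nat_lit 104, nat_lit 182, nat_lit 156, nat_lit 182]) (.leaf (nat_lit 19463) [nat_lit 182, nat_lit 156, nat_lit 104, nat_lit 52, nat_lit 156, nat_lit 52, nat_lit 182]))
noncomputable def r51 : WT := (.node (nat_lit 26) (.leaf (nat_lit 26625) [nat_lit 156, nat_lit 52, nat_lit 182, nat_lit 156, nat_lit 182, nat_lit 104, nat_lit 52]) (.node (nat_lit 27) (.leaf (nat_lit 18437) [nat_lit 156, nat_lit 182, nat_lit 52, nat_lit 104, nat_lit 52, nat_lit 156, nat_lit 182]) (.leaf (nat_lit 17410) [nat_lit 182, nat_lit 104, nat_lit 182, nat_lit 156, nat_lit 52, nat_lit 156, nat_lit 52])))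
noncomputable def r52 : WT := (.node (nat_lit 29) (.leaf (nat_lit 26638) [nat_lit 52, nat_lit 104, nat_lit 182, nat_lit 156, nat_lit 182, nat_lit 52, nat_lit 156]) (.node (nat_lit 30) (.leaf (nat_lit 43023) [nat_lit 78, nat_lit 130, nat_lit 182, nat_lit 78, nat_lit 130, nat_lit 182, nat_lit 104, nat_lit 182]) (.leaf (nat_lit 20486) [nat_lit 156, nat_lit 52, nat_lit 156, nat_lit 182, nat_lit 52, nat_lit 104, nat_lit 182])))
noncomputable def r53 : WT := (.node (nat_lit 33) (.node (nat_lit 32) (.leaf (nat_lit 38919) [nat_lit 78, nat_lit 156, nat_lit 78, nat_lit 104, nat_lit 78, nat_lit 156, nat_lit 78, nat_lit 156]) (.leaf (nat_lit 20489) [nat_lit 182, nat_lit 104, nat_lit 52, nat_lit 182, nat_lit 156, nat_lit 52, nat_lit 156])) (.node (nat_lit 34) (.leaf (nat_lit 18442) [nat_lit 182, nat_lit 156, nat_lit 52, nat_lit 104, nat_lit 52, nat_lit 182, nat_lit 156]) (.leaf (nat_lit 19458) [nat_lit 156, nat_lit 182, nat_lit 104, nat_lit 182, nat_lit 52, nat_lit 156,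 nat_lit 52])))
noncomputable def r54 : WT := (.node (nat_lit 38) (.node (nat_lit 36) (.leaf (nat_lit 43019) [nat_lit 182, nat_lit 104, nat_lit 78, nat_lit 130, nat_lit 182, nat_lit 78, nat_lit 130, nat_lit 182]) (.node (nat_lit 37) (.leaf (nat_lit 19464) [nat_lit 182, nat_lit 52, nat_lit 156, nat_lit 52, nat_lit 104, nat_lit 156, nat_lit 182]) (.leaf (nat_lit 26637) [nat_lit 52, nat_lit 104, nat_lit 156, nat_lit 52, nat_lit 182, nat_lit 156, nat_lit 182]))) (.node (nat_lit 39) (.leaf (nat_lit 20493) [nat_lit 52, nat_lit 182, nat_lit 156, nat_lit 52, nat_lit 156, nat_lit 104, nat_lit 182]) (.node (nat_lit 40) (.leaf (nat_lit 39944) [nat_lit 156, nat_lit 78, nat_lit 156, nat_lit 104, nat_lit 78, nat_lit 104, nat_lit 156, nat_lit 78]) (.leaf (nat_lit 44045) [nat_lit 130, nat_lit 78, nat_lit 182, nat_lit 130, nat_lit 78, nat_lit 182, nat_lit 104, nat_lit 182]))))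
noncomputable def r55 : WT := (.node (nat_lit 44) (.node (nat_lit 42) (.leaf (nat_lit 30722) [nat_lit 52, nat_lit 182, nat_lit 104, nat_lit 156, nat_lit 182, nat_lit 156, nat_lit 52]) (.node (nat_lit 43) (.leaf (nat_lit 30728) [nat_lit 156, nat_lit 182, nat_lit 156, nat_lit 52, nat_lit 104, nat_lit 52, nat_lit 182]) (.leaf (nat_lit 44041) [nat_lit 182, nat_lit 104, nat_lit 130, nat_lit 78, nat_lit 182, nat_lit 130, nat_lit 78, nat_lit 182]))) (.node (nat_lit 46) (.node (nat_lit 45) (.leaf (nat_lit 39952) [nat_lit 78, nat_lit 104, nat_lit 156, nat_lit 78, nat_lit 104, nat_lit 156, nat_lit 78, nat_lit 156]) (.leaf (nat_lit 44040) [nat_lit 182, nat_lit 78, nat_lit 130, nat_lit 182, nat_lit 78, nat_lit 130, nat_lit 104, nat_lit 182])) (.node (nat_lit 47) (.leaf (nat_lit 29698) [nat_lit 52, nat_lit 156, nat_lit 52, nat_lit 104, nat_lit 52, nat_lit 156, nat_lit 52]) (.node (nat_lit 48) (.leaf (nat_lit 31756) [nat_lit 156, nat_lit 52, nat_lit 104, nat_lit 182, nat_lit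 156, nat_lit 182, nat_lit 52]) (.leaf (nat_lit 31747) [nat_lit 52, nat_lit 182, nat_lit 156, nat_lit 182, nat_lit 104, nat_lit 52, nat_lit 156])))))
noncomputable def r56 : WT := (.node (nat_lit 60) (.leaf (nat_lit 39951) [nat_lit 78, nat_lit 104, nat_lit 156, nat_lit 78, nat_lit 156, nat_lit 104, nat_lit 78, nat_lit 156]) (.leaf (nat_lit 19469) [nat_lit 52, nat_lit 156, nat_lit 52, nat_lit 182, nat_lit 104, nat_lit 182, nat_lit 156]))
noncomputable def r57 : WT := (.node (nat_lit 63) (.leaf (nat_lit 31746) [nat_lit 182, nat_lit 156, nat_lit 182, nat_lit 52, nat_lit 104, nat_lit 156, nat_lit 52]) (.leaf (nat_lit 37899) [nat_lit 182, nat_lit 52, nat_lit 156, nat_lit 52, nat_lit 156, nat_lit 104, nat_lit 182]))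
noncomputable def r58 : WT := (.node (nat_lit 65) (.leaf (nat_lit 35842) [nat_lit 182, nat_lit 52, nat_lit 104, nat_lit 156, nat_lit 182, nat_lit 156, nat_lit 52]) (.node (nat_lit 66) (.leaf (nat_lit 30727) [nat_lit 182, nat_lit 52, nat_lit 104, nat_lit 52, nat_lit 156, nat_lit 182, nat_lit 156]) (.leaf (nat_lit 37892) [nat_lit 182, nat_lit 104, nat_lit 156, nat_lit 52, nat_lit 156, nat_lit 52, nat_lit 182])))
noncomputable def r59 : WT := (.node (nat_lit 69) (.node (nat_lit 68) (.leaf (nat_lit 33805) [nat_lit 52, nat_lit 104, nat_lit 156, nat_lit 182, nat_lit 52, nat_lit 156, nat_lit 182]) (.leaf (nat_lit 15372) [nat_lit 156, nat_lit 78, nat_lit 104, nat_lit 78, nat_lit 104, nat_lit 78, nat_lit 156])) (.node (nat_lit 70) (.leaf (nat_lit 33794) [nat_lit 182, nat_lit 156, nat_lit 52, nat_lit 182, nat_lit 156, nat_lit 104, nat_lit 52]) (.leaf (nat_lit 15362) [nat_lit 78, nat_lit 104, nat_lit 78, nat_lit 156, nat_lit 104, nat_lit 156, nat_lit 78])))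
noncomputable def r60 : WT := (.node (nat_lit 56) (.node (nat_lit 52) (.node (nat_lit 50) (.leaf (nat_lit 32780) [nat_lit 156, nat_lit 52, nat_lit 104, nat_lit 182, nat_lit 156, nat_lit 52, nat_lit 182]) (.node (nat_lit 51) (.leaf (nat_lit 20482) [nat_lit 182, nat_lit 104, nat_lit 156, nat_lit 52, nat_lit 156, nat_lit 182, nat_lit 52]) (.leaf (nat_lit 34818) [nat_lit 52, nat_lit 104, nat_lit 52, nat_lit 104, nat_lit 52, nat_lit 104, nat_lit 52]))) (.node (nat_lit 54) (.node (nat_lit 53) (.leaf (nat_lit 35848) [nat_lit 156, nat_lit 182, nat_lit 156, nat_lit 52, nat_lit 104, nat_lit 182, nat_lit 52]) (.leaf (nat_lit 39945) [nat_lit 78, nat_lit 156, nat_lit 104, nat_lit 78, nat_lit 104, nat_lit 156, nat_lit 78, nat_lit 156])) (.node (nat_lit 55) (.leaf (nat_lit 38927) [nat_lit 78, nat_lit 156, nat_lit 78, nat_lit 156, nat_lit 104, nat_lit 78, nat_lit 156, nat_lit 78]) (.leaf (nat_lit 32770) [nat_lit 182, nat_lit 156, nat_lit 52, nat_lit 182, nat_lit 104, nat_lit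 156, nat_lit 52])))) (.node (nat_lit 61) (.node (nat_lit 58) (.node (nat_lit 57) (.leaf (nat_lit 30733) [nat_lit 52, nat_lit 156, nat_lit 182, nat_lit 156, nat_lit 104, nat_lit 182, nat_lit 52]) (.leaf (nat_lit 35853) [nat_lit 52, nat_lit 156, nat_lit 182, nat_lit 156, nat_lit 104, nat_lit 52, nat_lit 182])) (.node (nat_lit 59) (.leaf (nat_lit 37896) [nat_lit 156, nat_lit 52, nat_lit 156, nat_lit 52, nat_lit 182, nat_lit 104, nat_lit 182]) r56)) (.node (nat_lit 64) (.node (nat_lit 62) (.leaf (nat_lit 33793) [nat_lit 156, nat_lit 182, nat_lit 52, nat_lit 156, nat_lit 182, nat_lit 104, nat_lit 52]) r57) (.node (nat_lit 67) r58 r59))))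
noncomputable def r61 : WT := (.node (nat_lit 21) (.node (nat_lit 16) (.node (nat_lit 14) (.leaf (nat_lit 14344) [nat_lit 52, nat_lit 156, nat_lit 182, nat_lit 52, nat_lit 104, nat_lit 182, nat_lit 156]) (.node (nat_lit 15) (.leaf (nat_lit 17421) [nat_lit 52, nat_lit 156, nat_lit 52, nat_lit 156, nat_lit 182, nat_lit 104, nat_lit 182]) (.leaf (nat_lit 38922) [nat_lit 156, nat_lit 78, nat_lit 156, nat_lit 78, nat_lit 104, nat_lit 78, nat_lit 156, nat_lit 78]))) (.node (nat_lit 18) (.node (nat_lit 17) (.leaf (nat_lit 17417) [nat_lit 182, nat_lit 104, nat_lit 52, nat_lit 156, nat_lit 52, nat_lit 156, nat_lit 182]) (.leaf (nat_lit 43010) [nat_lit 182, nat_lit 104, nat_lit 182, nat_lit 130, nat_lit 78, nat_lit 182, nat_lit 130, nat_lit 78])) (.node (nat_lit 19) (.leaf (nat_lit 26626) [nat_lit 182, nat_lit 156, nat_lit 182, nat_lit 52, nat_lit 156, nat_lit 104, nat_lit 52]) r48))) (.node (nat_lit 31) (.node (nat_lit 25) (.node (nat_lit 23) r49 r50) (.node (nat_lit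 28) r51 r52)) (.node (nat_lit 41) (.node (nat_lit 35) r53 r54) (.node (nat_lit 49) r55 r60))))
noncomputable def w2 : WT := (.node (nat_lit 1) (.leaf (nat_lit 2048) [nat_lit 104]) (.node (nat_lit 4) (.node (nat_lit 2) (.leaf (nat_lit 8192) [nat_lit 156, nat_lit 104, nat_lit 156]) (.node (nat_lit 3) (.leaf (nat_lit 12290) [nat_lit 78, nat_lit 104, nat_lit 78, nat_lit 104, nat_lit 78]) (.leaf (nat_lit 14349) [nat_lit 52, nat_lit 182, nat_lit 156, nat_lit 52, nat_lit 104, nat_lit 156, nat_lit 182]))) (.node (nat_lit 7) (.node (nat_lit 5) (.leaf (nat_lit 10240) [nat_lit 130, nat_lit 104, nat_lit 130, nat_lit 104, nat_lit 130]) r46) (.node (nat_lit 13) r47 r61))))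
noncomputable def r62 : WT := (.node (nat_lit 6) (.leaf (nat_lit 10242) [nat_lit 104, nat_lit 130, nat_lit 104, nat_lit 130, nat_lit 104]) (.leaf (nat_lit 25602) [nat_lit 182, nat_lit 130, nat_lit 182, nat_lit 130, nat_lit 52, nat_lit 182, nat_lit 52]))
noncomputable def r63 : WT := (.leaf (nat_lit 48148) [nat_lit 78, nat_lit 130, nat_lit 52, nat_lit 78, nat_lit 156, nat_lit 52, nat_lit 182, nat_lit 156, nat_lit 78, nat_lit 52, nat_lit 130, nat_lit 78])
noncomputable def r64 : WT := (.node (nat_lit 9) (.node (nat_lit 8) (.leaf (nat_lit 41989) [nat_lit 156, nat_lit 78, nat_lit 182, nat_lit 130, nat_lit 78, nat_lit 52, nat_lit 156, nat_lit 52]) (.leaf (nat_lit 46090) [nat_lit 52, nat_lit 78, nat_lit 130, nat_lit 78, nat_lit 52, nat_lit 130, nat_lit 52, nat_lit 78, nat_lit 130, nat_lit 78, nat_lit 52])) (.node (nat_lit 10) (.leaf (nat_lit 40973) [nat_lit 78, nat_lit 52, nat_lit 156, nat_lit 52, nat_lit 156, nat_lit 130, nat_lit 78, nat_lit 182]) r63))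
noncomputable def r65 : WT := (.leaf (nat_lit 48152) [nat_lit 52, nat_lit 78, nat_lit 156, nat_lit 52, nat_lit 182, nat_lit 156, nat_lit 78, nat_lit 52, nat_lit 130, nat_lit 78, nat_lit 130, nat_lit 78])
noncomputable def r66 : WT := (.leaf (nat_lit 48144) [nat_lit 78, nat_lit 130, nat_lit 78, nat_lit 130, nat_lit 52, nat_lit 78, nat_lit 156, nat_lit 52, nat_lit 182, nat_lit 156, nat_lit 78, nat_lit 52])
noncomputable def r67 : WT := (.node (nat_lit 22) r66 (.leaf (nat_lit 43018) [nat_lit 78, nat_lit 182, nat_lit 130, nat_lit 78, nat_lit 104, nat_lit 182, nat_lit 104, nat_lit 182]))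
noncomputable def r68 : WT := (.node (nat_lit 24) (.leaf (nat_lit 41988) [nat_lit 182, nat_lit 78, nat_lit 156, nat_lit 130, nat_lit 52, nat_lit 156, nat_lit 52, nat_lit 78]) (.node (nat_lit 25) (.leaf (nat_lit 44034) [nat_lit 104, nat_lit 182, nat_lit 104, nat_lit 182, nat_lit 78, nat_lit 130, nat_lit 182, nat_lit 78]) (.leaf (nat_lit 43024) [nat_lit 78, nat_lit 104, nat_lit 182, nat_lit 104, nat_lit 182, nat_lit 130, nat_lit 78, nat_lit 182])))
noncomputable def r69 : WT := (.leaf (nat_lit 48137) [nat_lit 52, nat_lit 78, nat_lit 156, nat_lit 182, nat_lit 52, nat_lit 156, nat_lit 78, nat_lit 52, nat_lit 130, nat_lit 78, nat_lit 130, nat_lit 78])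
noncomputable def r70 : WT := (.node (nat_lit 34) r69 (.leaf (nat_lit 45064) [nat_lit 78, nat_lit 156, nat_lit 52, nat_lit 156, nat_lit 52, nat_lit 130, nat_lit 78, nat_lit 182]))
noncomputable def r71 : WT := (.leaf (nat_lit 48129) [nat_lit 78, nat_lit 130, nat_lit 78, nat_lit 130, nat_lit 52, nat_lit 78, nat_lit 156, nat_lit 182, nat_lit 52, nat_lit 156, nat_lit 78, nat_lit 52])
noncomputable def r72 : WT := (.leaf (nat_lit 48133) [nat_lit 78, nat_lit 130, nat_lit 52, nat_lit 78, nat_lit 156, nat_lit 182, nat_lit 52, nat_lit 156, nat_lit 78, nat_lit 52, nat_lit 130, nat_lit 78])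
noncomputable def r73 : WT := (.node (nat_lit 36) r71 (.node (nat_lit 37) (.leaf (nat_lit 44035) [nat_lit 78, nat_lit 182, nat_lit 104, nat_lit 182, nat_lit 104, nat_lit 130, nat_lit 78, nat_lit 182]) r72))
noncomputable def r74 : WT := (.node (nat_lit 29) (.node (nat_lit 27) (.leaf (nat_lit 41996) [nat_lit 52, nat_lit 156, nat_lit 52, nat_lit 78, nat_lit 130, nat_lit 182, nat_lit 78, nat_lit 156]) (.node (nat_lit 28) (.leaf (nat_lit 44046) [nat_lit 182, nat_lit 78, nat_lit 130, nat_lit 104, nat_lit 182, nat_lit 104, nat_lit 182, nat_lit 78]) (.leaf (nat_lit 45071) [nat_lit 52, nat_lit 156, nat_lit 52, nat_lit 156, nat_lit 78, nat_lit 130, nat_lit 182, nat_lit 78]))) (.node (nat_lit 31) (.node (nat_lit 30) (.leaf (nat_lit 25610) [nat_lit 52, nat_lit 182, nat_lit 52, nat_lit 130, nat_lit 182, nat_lit 130, nat_lit 182]) (.leaf (nat_lit 47114) [nat_lit 52, nat_lit 130, nat_lit 52, nat_lit 156, nat_lit 130, nat_lit 156, nat_lit 52, nat_lit 130, nat_lit 52, nat_lit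 130, nat_lit 52])) (.node (nat_lit 33) (.node (nat_lit 32) (.leaf (nat_lit 41997) [nat_lit 78, nat_lit 52, nat_lit 156, nat_lit 52, nat_lit 130, nat_lit 156, nat_lit 78, nat_lit 182]) (.leaf (nat_lit 47124) [nat_lit 156, nat_lit 52, nat_lit 130, nat_lit 52, nat_lit 130, nat_lit 52, nat_lit 130, nat_lit 52, nat_lit 130, nat_lit 52, nat_lit 156])) (.node (nat_lit 35) r70 r73))))
noncomputable def r75 : WT := (.node (nat_lit 16) (.node (nat_lit 13) (.node (nat_lit 12) (.leaf (nat_lit 43009) [nat_lit 182, nat_lit 78, nat_lit 130, nat_lit 182, nat_lit 104, nat_lit 182, nat_lit 104, nat_lit 78]) (.leaf (nat_lit 44047) [nat_lit 78, nat_lit 182, nat_lit 130, nat_lit 78, nat_lit 182, nat_lit 104, nat_lit 182, nat_lit 104])) (.node (nat_lit 14) (.leaf (nat_lit 43015) [nat_lit 182, nat_lit 104, nat_lit 182, nat_lit 104, nat_lit 78, nat_lit 130, nat_lit 182, nat_lit 78]) (.node (nat_lit 15) (.leaf (nat_lit 46084) [nat_lit 78, nat_lit 52, nat_lit 130, nat_lit 52, nat_lit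 78, nat_lit 130, nat_lit 78, nat_lit 52, nat_lit 130, nat_lit 52, nat_lit 78]) (.leaf (nat_lit 47106) [nat_lit 52, nat_lit 130, nat_lit 52, nat_lit 130, nat_lit 52, nat_lit 130, nat_lit 52, nat_lit 156, nat_lit 130, nat_lit 156, nat_lit 52])))) (.node (nat_lit 20) (.node (nat_lit 18) (.node (nat_lit 17) (.leaf (nat_lit 47110) [nat_lit 52, nat_lit 130, nat_lit 52, nat_lit 130, nat_lit 52, nat_lit 156, nat_lit 130, nat_lit 156, nat_lit 52, nat_lit 130, nat_lit 52]) (.leaf (nat_lit 45058) [nat_lit 78, nat_lit 182, nat_lit 130, nat_lit 78, nat_lit 156, nat_lit 52, nat_lit 156, nat_lit 52])) (.node (nat_lit 19) r65 (.leaf (nat_lit 40967) [nat_lit 78, nat_lit 182, nat_lit 130, nat_lit 78, nat_lit 52, nat_lit 156, nat_lit 52, nat_lit 156]))) (.node (nat_lit 23) (.node (nat_lit 21) (.leaf (nat_lit 45065) [nat_lit 182, nat_lit 78, nat_lit 130, nat_lit 52, nat_lit 156, nat_lit 52, nat_lit 156, nat_lit 78]) r67) (.node (nat_lit 26) r68 r74))))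
noncomputable def w3 : WT := (.node (nat_lit 1) (.leaf (nat_lit 3072) [nat_lit 130]) (.node (nat_lit 4) (.node (nat_lit 2) (.leaf (nat_lit 6144) [nat_lit 156, nat_lit 130, nat_lit 156]) (.node (nat_lit 3) (.leaf (nat_lit 13312) [nat_lit 182, nat_lit 130, nat_lit 182, nat_lit 130, nat_lit 182]) (.leaf (nat_lit 40964) [nat_lit 182, nat_lit 78, nat_lit 130, nat_lit 156, nat_lit 52, nat_lit 156, nat_lit 52, nat_lit 78]))) (.node (nat_lit 7) (.node (nat_lit 5) (.leaf (nat_lit 40970) [nat_lit 156, nat_lit 52, nat_lit 156, nat_lit 52, nat_lit 78, nat_lit 130, nat_lit 182, nat_lit 78]) r62) (.node (nat_lit 11) r64 r75))))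
noncomputable def r76 : WT := (.node (nat_lit 4) (.leaf (nat_lit 14348) [nat_lit 182, nat_lit 52, nat_lit 104, nat_lit 182, nat_lit 156, nat_lit 104, nat_lit 52]) (.leaf (nat_lit 21506) [nat_lit 78, nat_lit 156, nat_lit 78, nat_lit 156, nat_lit 78, nat_lit 156, nat_lit 78]))
noncomputable def r77 : WT := (.node (nat_lit 6) (.leaf (nat_lit 14342) [nat_lit 104, nat_lit 52, nat_lit 156, nat_lit 182, nat_lit 52, nat_lit 104, nat_lit 182]) (.leaf (nat_lit 15370) [nat_lit 104, nat_lit 156, nat_lit 78, nat_lit 104, nat_lit 78, nat_lit 104, nat_lit 78]))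
noncomputable def r78 : WT := (.node (nat_lit 8) (.leaf (nat_lit 17422) [nat_lit 52, nat_lit 104, nat_lit 182, nat_lit 104, nat_lit 182, nat_lit 156, nat_lit 52]) (.node (nat_lit 9) (.leaf (nat_lit 38918) [nat_lit 78, nat_lit 104, nat_lit 156, nat_lit 78, nat_lit 156, nat_lit 78, nat_lit 104, nat_lit 78]) (.leaf (nat_lit 27650) [nat_lit 182, nat_lit 156, nat_lit 182, nat_lit 156, nat_lit 182, nat_lit 156, nat_lit 182])))
noncomputable def r79 : WT := (.node (nat_lit 13) (.node (nat_lit 11) (.leaf (nat_lit 41994) [nat_lit 130, nat_lit 52, nat_lit 156, nat_lit 52, nat_lit 78, nat_lit 130, nat_lit 182, nat_lit 78]) (.node (nat_lit 12) (.leaf (nat_lit 14339) [nat_lit 52, nat_lit 104, nat_lit 156, nat_lit 182, nat_lit 104, nat_lit 52, nat_lit 182]) (.leaf (nat_lit 17413) [nat_lit 182, nat_lit 104, nat_lit 182, nat_lit 104, nat_lit 52, nat_lit 156, nat_lit 52]))) (.node (nat_lit 15) (.node (nat_lit 14) (.leaf (nat_lit 28676) [nat_lit 182, nat_lit 104, nat_lit 182,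 nat_lit 156, nat_lit 182, nat_lit 104, nat_lit 182]) (.leaf (nat_lit 22530) [nat_lit 182, nat_lit 156, nat_lit 52, nat_lit 156, nat_lit 182, nat_lit 156, nat_lit 52])) (.node (nat_lit 16) (.leaf (nat_lit 17409) [nat_lit 52, nat_lit 156, nat_lit 182, nat_lit 104, nat_lit 182, nat_lit 104, nat_lit 52]) (.node (nat_lit 17) (.leaf (nat_lit 22534) [nat_lit 52, nat_lit 156, nat_lit 182, nat_lit 156, nat_lit 52, nat_lit 156, nat_lit 182]) (.leaf (nat_lit 45068) [nat_lit 52, nat_lit 156, nat_lit 52, nat_lit 130, nat_lit 78, nat_lit 182, nat_lit 130, nat_lit 78])))))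
noncomputable def r80 : WT := (.node (nat_lit 22) (.leaf (nat_lit 14345) [nat_lit 182, nat_lit 104, nat_lit 52, nat_lit 182, nat_lit 156, nat_lit 52, nat_lit 104]) (.leaf (nat_lit 38917) [nat_lit 104, nat_lit 78, nat_lit 156, nat_lit 78, nat_lit 104, nat_lit 78, nat_lit 156, nat_lit 78]))
noncomputable def r81 : WT := (.leaf (nat_lit 48138) [nat_lit 78, nat_lit 52, nat_lit 130, nat_lit 78, nat_lit 130, nat_lit 78, nat_lit 130, nat_lit 52, nat_lit 78, nat_lit 156, nat_lit 52, nat_lit 182])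
noncomputable def r82 : WT := (.node (nat_lit 25) (.leaf (nat_lit 40976) [nat_lit 52, nat_lit 78, nat_lit 130, nat_lit 182, nat_lit 78, nat_lit 130, nat_lit 156, nat_lit 52]) r81)
noncomputable def r83 : WT := (.node (nat_lit 27) (.leaf (nat_lit 40961) [nat_lit 52, nat_lit 156, nat_lit 130, nat_lit 78, nat_lit 182, nat_lit 130, nat_lit 78, nat_lit 52]) (.leaf (nat_lit 18440) [nat_lit 104, nat_lit 182, nat_lit 156, nat_lit 52, nat_lit 104, nat_lit 52, nat_lit 182]))
noncomputable def r84 : WT := (.leaf (nat_lit 48132) [nat_lit 52, nat_lit 182, nat_lit 156, nat_lit 78, nat_lit 52, nat_lit 130, nat_lit 78, nat_lit 130, nat_lit 78, nat_lit 130, nat_lit 52, nat_lit 78])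
noncomputable def r85 : WT := (.node (nat_lit 29) r84 (.leaf (nat_lit 18433) [nat_lit 182, nat_lit 104, nat_lit 156, nat_lit 182, nat_lit 52, nat_lit 104, nat_lit 52]))
noncomputable def r86 : WT := (.node (nat_lit 31) (.leaf (nat_lit 18446) [nat_lit 52, nat_lit 104, nat_lit 52, nat_lit 182, nat_lit 156, nat_lit 104, nat_lit 182]) (.leaf (nat_lit 40972) [nat_lit 52, nat_lit 156, nat_lit 52, nat_lit 78, nat_lit 130, nat_lit 182, nat_lit 78, nat_lit 130]))
noncomputable def r87 : WT := (.node (nat_lit 33) (.leaf (nat_lit 38924) [nat_lit 78, nat_lit 156, nat_lit 78, nat_lit 104, nat_lit 78, nat_lit 156, nat_lit 78, nat_lit 104]) (.leaf (nat_lit 41991) [nat_lit 78, nat_lit 182, nat_lit 130, nat_lit 78, nat_lit 52, nat_lit 156, nat_lit 52, nat_lit 130]))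
noncomputable def r88 : WT := (.node (nat_lit 35) (.leaf (nat_lit 20488) [nat_lit 52, nat_lit 156, nat_lit 182, nat_lit 52, nat_lit 104, nat_lit 182, nat_lit 104]) (.node (nat_lit 36) (.leaf (nat_lit 40965) [nat_lit 130, nat_lit 78, nat_lit 182, nat_lit 130, nat_lit 78, nat_lit 52, nat_lit 156, nat_lit 52]) (.leaf (nat_lit 20487) [nat_lit 104, nat_lit 182, nat_lit 104, nat_lit 52, nat_lit 182, nat_lit 156, nat_lit 52])))
noncomputable def r89 : WT := (.node (nat_lit 38) (.leaf (nat_lit 19467) [nat_lit 104, nat_lit 52, nat_lit 156, nat_lit 52, nat_lit 182, nat_lit 104, nat_lit 182]) (.node (nat_lit 39) (.leaf (nat_lit 47122) [nat_lit 130, nat_lit 156, nat_lit 52, nat_lit 130, nat_lit 52, nat_lit 130, nat_lit 52, nat_lit 130, nat_lit 52, nat_lit 130, nat_lit 52]) (.leaf (nat_lit 20492) [nat_lit 182, nat_lit 52, nat_lit 104, nat_lit 182, nat_lit 104, nat_lit 156, nat_lit 52])))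
noncomputable def r90 : WT := (.leaf (nat_lit 48149) [nat_lit 78, nat_lit 52, nat_lit 130, nat_lit 78, nat_lit 130, nat_lit 78, nat_lit 130, nat_lit 52, nat_lit 78, nat_lit 156, nat_lit 182, nat_lit 52])
noncomputable def r91 : WT := (.node (nat_lit 42) (.node (nat_lit 41) (.leaf (nat_lit 39940) [nat_lit 78, nat_lit 104, nat_lit 156, nat_lit 78, nat_lit 156, nat_lit 104, nat_lit 78, nat_lit 104]) (.leaf (nat_lit 26633) [nat_lit 182, nat_lit 104, nat_lit 52, nat_lit 104, nat_lit 156, nat_lit 52, nat_lit 182])) (.node (nat_lit 43) (.leaf (nat_lit 42000) [nat_lit 52, nat_lit 78, nat_lit 130, nat_lit 182, nat_lit 78, nat_lit 156, nat_lit 130, nat_lit 52]) r90))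
noncomputable def r92 : WT := (.node (nat_lit 46) (.node (nat_lit 45) (.leaf (nat_lit 15374) [nat_lit 78, nat_lit 104, nat_lit 78, nat_lit 104, nat_lit 78, nat_lit 156, nat_lit 104]) (.leaf (nat_lit 26636) [nat_lit 104, nat_lit 52, nat_lit 104, nat_lit 182, nat_lit 156, nat_lit 182, nat_lit 52])) (.node (nat_lit 47) (.leaf (nat_lit 18439) [nat_lit 182, nat_lit 52, nat_lit 104, nat_lit 52, nat_lit 156, nat_lit 182, nat_lit 104]) (.node (nat_lit 48) (.leaf (nat_lit 26630) [nat_lit 182, nat_lit 52, nat_lit 156, nat_lit 104, nat_lit 52, nat_lit 104, nat_lit 182]) (.leaf (nat_lit 41985) [nat_lit 52, nat_lit 130, nat_lit 156, nat_lit 78, nat_lit 182, nat_lit 130, nat_lit 78, nat_lit 52]))))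
noncomputable def r93 : WT := (.leaf (nat_lit 48143) [nat_lit 182, nat_lit 52, nat_lit 156, nat_lit 78, nat_lit 52, nat_lit 130, nat_lit 78, nat_lit 130, nat_lit 78, nat_lit 130, nat_lit 52, nat_lit 78])
noncomputable def r94 : WT := (.node (nat_lit 52) (.node (nat_lit 50) (.leaf (nat_lit 39950) [nat_lit 104, nat_lit 78, nat_lit 104, nat_lit 156, nat_lit 78, nat_lit 104, nat_lit 156, nat_lit 78]) (.node (nat_lit 51) (.leaf (nat_lit 38923) [nat_lit 78, nat_lit 104, nat_lit 78, nat_lit 156, nat_lit 78, nat_lit 156, nat_lit 104, nat_lit 78]) (.leaf (nat_lit 45061) [nat_lit 78, nat_lit 130, nat_lit 182, nat_lit 78, nat_lit 130, nat_lit 52, nat_lit 156, nat_lit 52]))) (.node (nat_lit 54) (.node (nat_lit 53) (.leaf (nat_lit 20483) [nat_lit 52, nat_lit 156, nat_lit 104, nat_lit 182, nat_lit 104, nat_lit 52, nat_lit 182]) r93) (.node (nat_lit 55) (.leaf (nat_lit 37889) [nat_lit 52, nat_lit 156, nat_lit 104, nat_lit 182, nat_lit 104, nat_lit 182, nat_lit 52]) (.node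 (nat_lit 56) (.leaf (nat_lit 38913) [nat_lit 78, nat_lit 156, nat_lit 104, nat_lit 78, nat_lit 156, nat_lit 78, nat_lit 104, nat_lit 78]) (.leaf (nat_lit 45057) [nat_lit 52, nat_lit 156, nat_lit 78, nat_lit 130, nat_lit 182, nat_lit 78, nat_lit 130, nat_lit 52])))))
noncomputable def r95 : WT := (.node (nat_lit 68) (.leaf (nat_lit 30734) [nat_lit 52, nat_lit 104, nat_lit 52, nat_lit 182, nat_lit 104, nat_lit 156, nat_lit 182]) (.leaf (nat_lit 26627) [nat_lit 52, nat_lit 182, nat_lit 156, nat_lit 182, nat_lit 104, nat_lit 52, nat_lit 104]))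
noncomputable def r96 : WT := (.node (nat_lit 71) (.leaf (nat_lit 47126) [nat_lit 52, nat_lit 130, nat_lit 52, nat_lit 130, nat_lit 52, nat_lit 130, nat_lit 52, nat_lit 130, nat_lit 52, nat_lit 156, nat_lit 130]) (.leaf (nat_lit 35854) [nat_lit 52, nat_lit 104, nat_lit 182, nat_lit 52, nat_lit 104, nat_lit 156, nat_lit 182]))
noncomputable def r97 : WT := (.node (nat_lit 73) (.leaf (nat_lit 35845) [nat_lit 104, nat_lit 52, nat_lit 182, nat_lit 104, nat_lit 52, nat_lit 156, nat_lit 182]) (.leaf (nat_lit 39939) [nat_lit 78, nat_lit 156, nat_lit 104, nat_lit 78, nat_lit 156, nat_lit 104, nat_lit 78, nat_lit 104]))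
noncomputable def r98 : WT := (.node (nat_lit 75) (.leaf (nat_lit 32774) [nat_lit 52, nat_lit 182, nat_lit 104, nat_lit 156, nat_lit 52, nat_lit 104, nat_lit 182]) (.node (nat_lit 76) (.leaf (nat_lit 33804) [nat_lit 104, nat_lit 52, nat_lit 104, nat_lit 182, nat_lit 156, nat_lit 52, nat_lit 182]) (.leaf (nat_lit 33801) [nat_lit 182, nat_lit 104, nat_lit 52, nat_lit 104, nat_lit 156, nat_lit 182, nat_lit 52])))
noncomputable def r99 : WT := (.node (nat_lit 64) (.node (nat_lit 60) (.node (nat_lit 58) (.leaf (nat_lit 19457) [nat_lit 52, nat_lit 182, nat_lit 104, nat_lit 182, nat_lit 156, nat_lit 104, nat_lit 52]) (.node (nat_lit 59) (.leaf (nat_lit 39949) [nat_lit 104, nat_lit 78, nat_lit 104, nat_lit 156, nat_lit 78, nat_lit 156, nat_lit 104, nat_lit 78]) (.leaf (nat_lit 31745) [nat_lit 104, nat_lit 52, nat_lit 182, nat_lit 156, nat_lit 182, nat_lit 104, nat_lit 52]))) (.node (nat_lit 62) (.node (nat_lit 61) (.leaf (nat_lit 30725) [nat_lit 104, nat_lit 182, nat_lit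 52, nat_lit 104, nat_lit 52, nat_lit 156, nat_lit 182]) (.leaf (nat_lit 29702) [nat_lit 52, nat_lit 104, nat_lit 52, nat_lit 156, nat_lit 52, nat_lit 104, nat_lit 52])) (.node (nat_lit 63) (.leaf (nat_lit 39943) [nat_lit 104, nat_lit 78, nat_lit 156, nat_lit 104, nat_lit 78, nat_lit 104, nat_lit 156, nat_lit 78]) (.leaf (nat_lit 32777) [nat_lit 182, nat_lit 104, nat_lit 52, nat_lit 156, nat_lit 104, nat_lit 182, nat_lit 52])))) (.node (nat_lit 69) (.node (nat_lit 66) (.node (nat_lit 65) (.leaf (nat_lit 37893) [nat_lit 104, nat_lit 182, nat_lit 104, nat_lit 182, nat_lit 52, nat_lit 156, nat_lit 52]) (.leaf (nat_lit 35841) [nat_lit 182, nat_lit 156, nat_lit 104, nat_lit 52, nat_lit 182, nat_lit 104, nat_lit 52])) (.node (nat_lit 67) (.leaf (nat_lit 30730) [nat_lit 182, nat_lit 156, nat_lit 52, nat_lit 104, nat_lit 52, nat_lit 182, nat_lit 104]) r95)) (.node (nat_lit 72) (.node (nat_lit 70) (.leaf (nat_lit 45072) [nat_lit 52, nat_lit 130, nat_lit 78, nat_lit 182,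 nat_lit 130, nat_lit 78, nat_lit 156, nat_lit 52]) r96) (.node (nat_lit 74) r97 r98))))
noncomputable def r100 : WT := (.node (nat_lit 30) (.node (nat_lit 23) (.node (nat_lit 20) (.node (nat_lit 19) (.leaf (nat_lit 17418) [nat_lit 52, nat_lit 156, nat_lit 52, nat_lit 104, nat_lit 182, nat_lit 104, nat_lit 182]) (.leaf (nat_lit 36866) [nat_lit 52, nat_lit 156, nat_lit 52, nat_lit 156, nat_lit 52, nat_lit 156, nat_lit 52])) (.node (nat_lit 21) (.leaf (nat_lit 38928) [nat_lit 78, nat_lit 104, nat_lit 78, nat_lit 156, nat_lit 78, nat_lit 104, nat_lit 156, nat_lit 78]) r80)) (.node (nat_lit 26) (.node (nat_lit 24) (.leaf (nat_lit 19470) [nat_lit 52, nat_lit 104, nat_lit 156, nat_lit 182, nat_lit 104, nat_lit 182, nat_lit 52]) r82) (.node (nat_lit 28) r83 r85))) (.node (nat_lit 40) (.node (nat_lit 34) (.node (nat_lit 32) r86 r87) (.node (nat_lit 37) r88 r89)) (.node (nat_lit 49) (.node (nat_lit 44) r91 r92) (.node (nat_lit 57) r94 r99))))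
noncomputable def w4 : WT := (.node (nat_lit 1) (.leaf (nat_lit 4096) [nat_lit 156]) (.node (nat_lit 5) (.node (nat_lit 2) (.leaf (nat_lit 6146) [nat_lit 130, nat_lit 156, nat_lit 130]) (.node (nat_lit 3) (.leaf (nat_lit 8194) [nat_lit 104, nat_lit 156, nat_lit 104]) r76)) (.node (nat_lit 10) (.node (nat_lit 7) r77 r78) (.node (nat_lit 18) r79 r100))))
noncomputable def r101 : WT := (.node (nat_lit 6) (.leaf (nat_lit 14340) [nat_lit 156, nat_lit 104, nat_lit 52, nat_lit 156, nat_lit 182, nat_lit 52, nat_lit 104]) (.node (nat_lit 7) (.leaf (nat_lit 40971) [nat_lit 130, nat_lit 78, nat_lit 52, nat_lit 156, nat_lit 52, nat_lit 156, nat_lit 130, nat_lit 78]) (.leaf (nat_lit 40966) [nat_lit 78, nat_lit 130, nat_lit 156, nat_lit 52, nat_lit 156, nat_lit 52, nat_lit 78, nat_lit 130])))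
noncomputable def r102 : WT := (.node (nat_lit 10) (.node (nat_lit 9) (.leaf (nat_lit 14347) [nat_lit 104, nat_lit 52, nat_lit 182, nat_lit 156, nat_lit 52, nat_lit 104, nat_lit 156]) (.leaf (nat_lit 22532) [nat_lit 156, nat_lit 52, nat_lit 156, nat_lit 182, nat_lit 156, nat_lit 52, nat_lit 156])) (.node (nat_lit 12) (.node (nat_lit 11) (.leaf (nat_lit 17412) [nat_lit 104, nat_lit 182, nat_lit 156, nat_lit 52, nat_lit 156, nat_lit 52, nat_lit 104]) (.leaf (nat_lit 16388) [nat_lit 104, nat_lit 52, nat_lit 104, nat_lit 182, nat_lit 104, nat_lit 52, nat_lit 104])) (.node (nat_lit 13) (.leaf (nat_lit 17416) [nat_lit 156, nat_lit 52, nat_lit 156, nat_lit 52, nat_lit 104, nat_lit 182, nat_lit 104]) (.node (nat_lit 14) (.leaf (nat_lit 27648) [nat_lit 156, nat_lit 182, nat_lit 156, nat_lit 182, nat_lit 156, nat_lit 182, nat_lit 156]) (.leaf (nat_lit 23554) [nat_lit 104, nat_lit 182, nat_lit 104, nat_lit 182, nat_lit 104, nat_lit 182, nat_lit 104])))))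
noncomputable def r103 : WT := (.leaf (nat_lit 48145) [nat_lit 52, nat_lit 156, nat_lit 78, nat_lit 52, nat_lit 130, nat_lit 78, nat_lit 130, nat_lit 78, nat_lit 130, nat_lit 52, nat_lit 78, nat_lit 156])
noncomputable def r104 : WT := (.node (nat_lit 21) (.leaf (nat_lit 28674) [nat_lit 156, nat_lit 182, nat_lit 104, nat_lit 182, nat_lit 156, nat_lit 182, nat_lit 104]) (.leaf (nat_lit 18435) [nat_lit 104, nat_lit 156, nat_lit 182, nat_lit 52, nat_lit 104, nat_lit 52, nat_lit 156]))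
noncomputable def r105 : WT := (.node (nat_lit 23) (.leaf (nat_lit 19466) [nat_lit 52, nat_lit 156, nat_lit 52, nat_lit 104, nat_lit 156, nat_lit 182, nat_lit 104]) (.leaf (nat_lit 43022) [nat_lit 130, nat_lit 78, nat_lit 104, nat_lit 182, nat_lit 104, nat_lit 182, nat_lit 130, nat_lit 78]))
noncomputable def r106 : WT := (.node (nat_lit 25) (.leaf (nat_lit 28678) [nat_lit 104, nat_lit 182, nat_lit 156, nat_lit 182, nat_lit 104, nat_lit 182, nat_lit 156]) (.leaf (nat_lit 26632) [nat_lit 52, nat_lit 156, nat_lit 104, nat_lit 52, nat_lit 104, nat_lit 182, nat_lit 156]))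
noncomputable def r107 : WT := (.node (nat_lit 27) (.leaf (nat_lit 14337) [nat_lit 156, nat_lit 52, nat_lit 104, nat_lit 156, nat_lit 182, nat_lit 104, nat_lit 52]) (.leaf (nat_lit 43011) [nat_lit 78, nat_lit 130, nat_lit 182, nat_lit 104, nat_lit 182, nat_lit 104, nat_lit 78, nat_lit 130]))
noncomputable def r108 : WT := (.node (nat_lit 29) (.leaf (nat_lit 18438) [nat_lit 156, nat_lit 104, nat_lit 182, nat_lit 156, nat_lit 52, nat_lit 104, nat_lit 52]) (.node (nat_lit 30) (.leaf (nat_lit 43021) [nat_lit 104, nat_lit 78, nat_lit 130, nat_lit 182, nat_lit 78, nat_lit 130, nat_lit 182, nat_lit 104]) (.leaf (nat_lit 44038) [nat_lit 104, nat_lit 182, nat_lit 78, nat_lit 130, nat_lit 182, nat_lit 78, nat_lit 130, nat_lit 104])))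
noncomputable def r109 : WT := (.node (nat_lit 32) (.leaf (nat_lit 26635) [nat_lit 104, nat_lit 52, nat_lit 104, nat_lit 156, nat_lit 52, nat_lit 182, nat_lit 156]) (.node (nat_lit 33) (.leaf (nat_lit 20494) [nat_lit 52, nat_lit 104, nat_lit 182, nat_lit 104, nat_lit 156, nat_lit 52, nat_lit 156]) (.leaf (nat_lit 18444) [nat_lit 156, nat_lit 52, nat_lit 104, nat_lit 52, nat_lit 182, nat_lit 156, nat_lit 104])))
noncomputable def r110 : WT := (.node (nat_lit 35) (.leaf (nat_lit 43017) [nat_lit 104, nat_lit 182, nat_lit 104, nat_lit 78, nat_lit 130, nat_lit 182, nat_lit 78, nat_lit 130]) (.node (nat_lit 36) (.leaf (nat_lit 19465) [nat_lit 156, nat_lit 104, nat_lit 52, nat_lit 156, nat_lit 52, nat_lit 182, nat_lit 104]) (.leaf (nat_lit 19461) [nat_lit 104, nat_lit 182, nat_lit 156, nat_lit 104, nat_lit 52, nat_lit 156, nat_lit 52])))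
noncomputable def r111 : WT := (.leaf (nat_lit 48136) [nat_lit 156, nat_lit 78, nat_lit 52, nat_lit 130, nat_lit 78, nat_lit 130, nat_lit 78, nat_lit 130, nat_lit 52, nat_lit 78, nat_lit 156, nat_lit 52])
noncomputable def r112 : WT := (.node (nat_lit 39) (.node (nat_lit 38) (.leaf (nat_lit 20491) [nat_lit 104, nat_lit 52, nat_lit 182, nat_lit 156, nat_lit 52, nat_lit 156, nat_lit 104]) (.leaf (nat_lit 43016) [nat_lit 130, nat_lit 78, nat_lit 182, nat_lit 130, nat_lit 78, nat_lit 104, nat_lit 182, nat_lit 104])) (.node (nat_lit 40) (.leaf (nat_lit 26628) [nat_lit 156, nat_lit 182, nat_lit 52, nat_lit 156, nat_lit 104, nat_lit 52, nat_lit 104]) (.node (nat_lit 41) r111 (.leaf (nat_lit 44043) [nat_lit 104, nat_lit 130, nat_lit 78, nat_lit 182, nat_lit 130, nat_lit 78, nat_lit 182, nat_lit 104]))))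
noncomputable def r113 : WT := (.node (nat_lit 46) (.node (nat_lit 44) (.node (nat_lit 43) (.leaf (nat_lit 41990) [nat_lit 78, nat_lit 156, nat_lit 130, nat_lit 52, nat_lit 156, nat_lit 52, nat_lit 78, nat_lit 130]) (.leaf (nat_lit 30729) [nat_lit 52, nat_lit 104, nat_lit 52, nat_lit 156, nat_lit 182, nat_lit 156, nat_lit 104])) (.node (nat_lit 45) (.leaf (nat_lit 44039) [nat_lit 104, nat_lit 182, nat_lit 104, nat_lit 130, nat_lit 78, nat_lit 182, nat_lit 130, nat_lit 78]) (.leaf (nat_lit 24590) [nat_lit 52, nat_lit 78, nat_lit 182, nat_lit 78, nat_lit 182, nat_lit 78, nat_lit 52]))) (.node (nat_lit 48) (.node (nat_lit 47) (.leaf (nat_lit 20484) [nat_lit 104, nat_lit 156, nat_lit 52, nat_lit 156, nat_lit 182, nat_lit 52, nat_lit 104]) (.leaf (nat_lit 41995) [nat_lit 130, nat_lit 78, nat_lit 52, nat_lit 156, nat_lit 52, nat_lit 130, nat_lit 156, nat_lit 78])) (.node (nat_lit 49) (.leaf (nat_lit 32778) [nat_lit 104, nat_lit 156, nat_lit 52, nat_lit 104, nat_lit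 182, nat_lit 156, nat_lit 52]) (.node (nat_lit 50) (.leaf (nat_lit 45067) [nat_lit 78, nat_lit 130, nat_lit 52, nat_lit 156, nat_lit 52, nat_lit 156, nat_lit 78, nat_lit 130]) (.leaf (nat_lit 33797) [nat_lit 52, nat_lit 156, nat_lit 182, nat_lit 104, nat_lit 52, nat_lit 104, nat_lit 156])))))
noncomputable def r114 : WT := (.node (nat_lit 58) (.leaf (nat_lit 37901) [nat_lit 52, nat_lit 156, nat_lit 52, nat_lit 156, nat_lit 104, nat_lit 182, nat_lit 104]) (.leaf (nat_lit 35843) [nat_lit 156, nat_lit 104, nat_lit 52, nat_lit 182, nat_lit 104, nat_lit 52, nat_lit 156]))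
noncomputable def r115 : WT := (.node (nat_lit 61) (.leaf (nat_lit 31748) [nat_lit 156, nat_lit 182, nat_lit 52, nat_lit 104, nat_lit 156, nat_lit 52, nat_lit 104]) (.leaf (nat_lit 33803) [nat_lit 104, nat_lit 52, nat_lit 104, nat_lit 156, nat_lit 182, nat_lit 52, nat_lit 156]))
noncomputable def r116 : WT := (.node (nat_lit 64) (.leaf (nat_lit 31752) [nat_lit 52, nat_lit 104, nat_lit 156, nat_lit 52, nat_lit 104, nat_lit 182, nat_lit 156]) (.leaf (nat_lit 45062) [nat_lit 130, nat_lit 78, nat_lit 156, nat_lit 52, nat_lit 156, nat_lit 52, nat_lit 130, nat_lit 78]))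
noncomputable def r117 : WT := (.node (nat_lit 66) (.leaf (nat_lit 31755) [nat_lit 104, nat_lit 52, nat_lit 156, nat_lit 104, nat_lit 52, nat_lit 182, nat_lit 156]) (.leaf (nat_lit 32772) [nat_lit 156, nat_lit 52, nat_lit 182, nat_lit 104, nat_lit 156, nat_lit 52, nat_lit 104]))
noncomputable def r118 : WT := (.node (nat_lit 68) (.leaf (nat_lit 30726) [nat_lit 104, nat_lit 156, nat_lit 182, nat_lit 156, nat_lit 52, nat_lit 104, nat_lit 52]) (.leaf (nat_lit 26631) [nat_lit 156, nat_lit 182, nat_lit 104, nat_lit 52, nat_lit 104, nat_lit 156, nat_lit 52]))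
noncomputable def r119 : WT := (.node (nat_lit 70) (.leaf (nat_lit 44033) [nat_lit 130, nat_lit 78, nat_lit 182, nat_lit 104, nat_lit 182, nat_lit 104, nat_lit 130, nat_lit 78]) (.leaf (nat_lit 20481) [nat_lit 156, nat_lit 52, nat_lit 156, nat_lit 104, nat_lit 182, nat_lit 104, nat_lit 52]))
noncomputable def r120 : WT := (.node (nat_lit 72) (.leaf (nat_lit 33802) [nat_lit 156, nat_lit 104, nat_lit 52, nat_lit 104, nat_lit 182, nat_lit 156, nat_lit 52]) (.node (nat_lit 73) (.leaf (nat_lit 25608) [nat_lit 130, nat_lit 52, nat_lit 182, nat_lit 52, nat_lit 130, nat_lit 182, nat_lit 130]) (.leaf (nat_lit 25614) [nat_lit 52, nat_lit 130, nat_lit 182, nat_lit 130, nat_lit 182, nat_lit 130, nat_lit 52])))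
noncomputable def r121 : WT := (.node (nat_lit 59) (.node (nat_lit 54) (.node (nat_lit 52) (.leaf (nat_lit 32779) [nat_lit 104, nat_lit 52, nat_lit 156, nat_lit 104, nat_lit 182, nat_lit 52, nat_lit 156]) (.node (nat_lit 53) (.leaf (nat_lit 35851) [nat_lit 104, nat_lit 52, nat_lit 156, nat_lit 182, nat_lit 156, nat_lit 104, nat_lit 52]) (.leaf (nat_lit 44042) [nat_lit 78, nat_lit 130, nat_lit 182, nat_lit 78, nat_lit 130, nat_lit 104, nat_lit 182, nat_lit 104]))) (.node (nat_lit 56) (.node (nat_lit 55) (.leaf (nat_lit 30723) [nat_lit 156, nat_lit 104, nat_lit 182, nat_lit 52, nat_lit 104, nat_lit 52, nat_lit 156]) (.leaf (nat_lit 37897) [nat_lit 104, nat_lit 182, nat_lit 52, nat_lit 156, nat_lit 52, nat_lit 156, nat_lit 104])) (.node (nat_lit 57) (.leaf (nat_lit 32773) [nat_lit 52, nat_lit 156, nat_lit 182, nat_lit 104, nat_lit 52, nat_lit 156, nat_lit 104]) r114))) (.node (nat_lit 65) (.node (nat_lit 62) (.node (nat_lit 60) (.leaf (nat_lit 35852) [nat_lit 156,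 nat_lit 52, nat_lit 104, nat_lit 182, nat_lit 52, nat_lit 104, nat_lit 156]) r115) (.node (nat_lit 63) (.leaf (nat_lit 19462) [nat_lit 104, nat_lit 182, nat_lit 52, nat_lit 156, nat_lit 52, nat_lit 104, nat_lit 156]) r116)) (.node (nat_lit 69) (.node (nat_lit 67) r117 r118) (.node (nat_lit 71) r119 r120))))
noncomputable def r122 : WT := (.node (nat_lit 24) (.node (nat_lit 18) (.node (nat_lit 16) (.leaf (nat_lit 17415) [nat_lit 104, nat_lit 182, nat_lit 104, nat_lit 52, nat_lit 156, nat_lit 52, nat_lit 156]) (.node (nat_lit 17) (.leaf (nat_lit 43012) [nat_lit 104, nat_lit 182, nat_lit 130, nat_lit 78, nat_lit 182, nat_lit 130, nat_lit 78, nat_lit 104]) r103)) (.node (nat_lit 20) (.node (nat_lit 19) (.leaf (nat_lit 17419) [nat_lit 104, nat_lit 52, nat_lit 156, nat_lit 52, nat_lit 156, nat_lit 182, nat_lit 104]) (.leaf (nat_lit 18441) [nat_lit 52, nat_lit 104, nat_lit 52, nat_lit 156, nat_lit 182, nat_lit 104, nat_lit 156])) (.node (nat_lit 22) r104 r105))) (.node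 (nat_lit 34) (.node (nat_lit 28) (.node (nat_lit 26) r106 r107) (.node (nat_lit 31) r108 r109)) (.node (nat_lit 42) (.node (nat_lit 37) r110 r112) (.node (nat_lit 51) r113 r121))))
noncomputable def w5 : WT := (.node (nat_lit 1) (.leaf (nat_lit 5120) [nat_lit 182]) (.node (nat_lit 4) (.node (nat_lit 2) (.leaf (nat_lit 7170) [nat_lit 52, nat_lit 182, nat_lit 52]) (.node (nat_lit 3) (.leaf (nat_lit 9218) [nat_lit 78, nat_lit 182, nat_lit 78, nat_lit 182, nat_lit 78]) (.leaf (nat_lit 13314) [nat_lit 130, nat_lit 182, nat_lit 130, nat_lit 182, nat_lit 130]))) (.node (nat_lit 8) (.node (nat_lit 5) (.leaf (nat_lit 14350) [nat_lit 52, nat_lit 104, nat_lit 182, nat_lit 156, nat_lit 104, nat_lit 52, nat_lit 156]) r101) (.node (nat_lit 15) r102 r122))))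
noncomputable def r123 : WT := (.leaf (nat_lit 48139) [nat_lit 52, nat_lit 78, nat_lit 156, nat_lit 182, nat_lit 52, nat_lit 156, nat_lit 78, nat_lit 52, nat_lit 130, nat_lit 78, nat_lit 130, nat_lit 78, nat_lit 130])
noncomputable def r124 : WT := (.node (nat_lit 6) r123 (.leaf (nat_lit 9218) [nat_lit 182, nat_lit 78, nat_lit 182, nat_lit 78, nat_lit 182, nat_lit 78]))
noncomputable def r125 : WT := (.node (nat_lit 8) (.leaf (nat_lit 47112) [nat_lit 52, nat_lit 130, nat_lit 52, nat_lit 130, nat_lit 52, nat_lit 156, nat_lit 130, nat_lit 156, nat_lit 52, nat_lit 130, nat_lit 52, nat_lit 130]) (.leaf (nat_lit 46090) [nat_lit 130, nat_lit 52, nat_lit 78, nat_lit 130, nat_lit 78, nat_lit 52, nat_lit 130, nat_lit 52, nat_lit 78, nat_lit 130, nat_lit 78, nat_lit 52]))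
noncomputable def r126 : WT := (.node (nat_lit 11) (.leaf (nat_lit 41985) [nat_lit 156, nat_lit 52, nat_lit 130, nat_lit 156, nat_lit 78, nat_lit 182, nat_lit 130, nat_lit 78, nat_lit 52]) (.leaf (nat_lit 41990) [nat_lit 182, nat_lit 78, nat_lit 156, nat_lit 130, nat_lit 52, nat_lit 156, nat_lit 52, nat_lit 78, nat_lit 130]))
noncomputable def r127 : WT := (.node (nat_lit 14) (.leaf (nat_lit 40977) [nat_lit 52, nat_lit 156, nat_lit 52, nat_lit 156, nat_lit 130, nat_lit 78, nat_lit 182, nat_lit 130, nat_lit 78]) (.leaf (nat_lit 40966) [nat_lit 182, nat_lit 78, nat_lit 130, nat_lit 156, nat_lit 52, nat_lit 156, nat_lit 52, nat_lit 78, nat_lit 130]))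
noncomputable def r128 : WT := (.node (nat_lit 17) (.leaf (nat_lit 13314) [nat_lit 182, nat_lit 130, nat_lit 182, nat_lit 130, nat_lit 182, nat_lit 130]) (.leaf (nat_lit 11266) [nat_lit 78, nat_lit 52, nat_lit 78, nat_lit 52, nat_lit 78, nat_lit 52]))
noncomputable def wP : WT := (.node (nat_lit 5) (.node (nat_lit 2) (.node (nat_lit 1) (.leaf (nat_lit 10240) [nat_lit 104, nat_lit 130, nat_lit 104, nat_lit 130, nat_lit 104, nat_lit 130]) (.leaf (nat_lit 12290) [nat_lit 104, nat_lit 78, nat_lit 104, nat_lit 78, nat_lit 104, nat_lit 78])) (.node (nat_lit 3) (.leaf (nat_lit 40975) [nat_lit 78, nat_lit 52, nat_lit 156, nat_lit 52, nat_lit 156, nat_lit 130, nat_lit 78, nat_lit 182, nat_lit 130]) (.node (nat_lit 4) (.leaf (nat_lit 11264) [nat_lit 52, nat_lit 78, nat_lit 52, nat_lit 78, nat_lit 52, nat_lit 78]) (.leaf (nat_lit 41999) [nat_lit 78, nat_lit 52, nat_lit 156, nat_lit 52, nat_lit 130, nat_lit 156, nat_lit 78, nat_lit 182, nat_lit 130])))) (.node (nat_lit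 12) (.node (nat_lit 9) (.node (nat_lit 7) r124 r125) (.node (nat_lit 10) (.leaf (nat_lit 46080) [nat_lit 52, nat_lit 78, nat_lit 130, nat_lit 78, nat_lit 52, nat_lit 130, nat_lit 52, nat_lit 78, nat_lit 130, nat_lit 78, nat_lit 52, nat_lit 130]) r126)) (.node (nat_lit 15) (.node (nat_lit 13) (.leaf (nat_lit 41988) [nat_lit 130, nat_lit 182, nat_lit 78, nat_lit 156, nat_lit 130, nat_lit 52, nat_lit 156, nat_lit 52, nat_lit 78]) r127) (.node (nat_lit 16) (.leaf (nat_lit 18440) [nat_lit 156, nat_lit 104, nat_lit 182, nat_lit 156, nat_lit 52, nat_lit 104, nat_lit 52, nat_lit 182]) r128))))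
noncomputable def P : Par := ⟨tb, nat_lit 208, nat_lit 0xffffffffffffffffffffffffffffffffffffffffffffffffffff, nat_lit 22441, nat_lit 67108863, nat_lit 32767, nat_lit 26, nat_lit 15, nat_lit 22275,
  [nat_lit 52, nat_lit 78, nat_lit 104, nat_lit 130, nat_lit 156, nat_lit 182], [nat_lit 52, nat_lit 78, nat_lit 104, nat_lit 156, nat_lit 182], wP,
  (.cons (nat_lit 52) w0 (.cons (nat_lit 78) w1 (.cons (nat_lit 104) w2 (.cons (nat_lit 130) w3 (.cons (nat_lit 156) w4 (.cons (nat_lit 182) w5 .nil)))))),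
  .nil⟩

end Cfsg.Agent.Lib.TCC3a
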