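import Cfsg.Agent.Lib.TCC3bD0

set_option autoImplicit false
set_option maxRecDepth 100000

namespace Cfsg.Agent.Lib.TCC3b
open Cfsg.Agent.Lib.TCCore

noncomputable def tb : T := (.node (nat_lit 472) (.node (nat_lit 236) (.node (nat_lit 118) l0 l1) (.node (nat_lit 354) l2 l3)) (.node (nat_lit 708) (.node (nat_lit 590) l4 l5) (.node (nat_lit 826) l6 l7)))
noncomputable def r0 : WT := (.node (nat_lit 5) (.leaf (nat_lit 25600) [nat_lit 72, nat_lit 126, nat_lit 72, nat_lit 126, nat_lit 108, nat_lit 36, nat_lit 108]) (.leaf (nat_lit 29696) [nat_lit 108, nat_lit 126, nat_lit 108, nat_lit 36, nat_lit 108, nat_lit 126, nat_lit 108]))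
noncomputable def r1 : WT := (.node (nat_lit 7) (.leaf (nat_lit 24576) [nat_lit 72, nat_lit 126, nat_lit 72, nat_lit 36, nat_lit 72, nat_lit 126, nat_lit 72]) (.leaf (nat_lit 32772) [nat_lit 126, nat_lit 72, nat_lit 108, nat_lit 126, nat_lit 108, nat_lit 36, nat_lit 72]))
noncomputable def r2 : WT := (.node (nat_lit 10) (.node (nat_lit 9) (.leaf (nat_lit 23552) [nat_lit 144, nat_lit 36, nat_lit 126, nat_lit 108, nat_lit 144, nat_lit 108]) (.leaf (nat_lit 25612) [nat_lit 108, nat_lit 36, nat_lit 72, nat_lit 126, nat_lit 72, nat_lit 126, nat_lit 108])) (.node (nat_lit 11) (.leaf (nat_lit 13312) [nat_lit 144, nat_lit 36, nat_lit 144, nat_lit 126]) (.node (nat_lit 12) (.leaf (nat_lit 25615) [nat_lit 108, nat_lit 36, nat_lit 108, nat_lit 126, nat_lit 72, nat_lit 126, nat_lit 72]) (.leaf (nat_lit 91136) [nat_lit 54, nat_lit 90, nat_lit 126, nat_lit 54, nat_lit 90, nat_lit 108, nat_lit 36, nat_lit 108]))))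
noncomputable def r3 : WT := (.node (nat_lit 20) (.leaf (nat_lit 94220) [nat_lit 144, nat_lit 126, nat_lit 36, nat_lit 54, nat_lit 144, nat_lit 54, nat_lit 144, nat_lit 54]) (.leaf (nat_lit 90115) [nat_lit 126, nat_lit 72, nat_lit 126, nat_lit 144, nat_lit 72, nat_lit 144, nat_lit 36, nat_lit 108]))
noncomputable def r4 : WT := (.node (nat_lit 22) (.leaf (nat_lit 89088) [nat_lit 72, nat_lit 144, nat_lit 36, nat_lit 72, nat_lit 126, nat_lit 72, nat_lit 144, nat_lit 72]) (.leaf (nat_lit 81937) [nat_lit 144, nat_lit 36, nat_lit 144, nat_lit 90, nat_lit 126, nat_lit 90, nat_lit 126, nat_lit 90]))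
noncomputable def r5 : WT := (.node (nat_lit 24) (.leaf (nat_lit 81920) [nat_lit 90, nat_lit 126, nat_lit 90, nat_lit 126, nat_lit 90, nat_lit 144, nat_lit 36, nat_lit 144]) (.leaf (nat_lit 63488) [nat_lit 144, nat_lit 72, nat_lit 126, nat_lit 72, nat_lit 108, nat_lit 36, nat_lit 144, nat_lit 108]))
noncomputable def r6 : WT := (.node (nat_lit 26) (.leaf (nat_lit 57344) [nat_lit 108, nat_lit 36, nat_lit 108, nat_lit 36, nat_lit 108, nat_lit 36, nat_lit 108]) (.leaf (nat_lit 49164) [nat_lit 126, nat_lit 36, nat_lit 90, nat_lit 126, nat_lit 90, nat_lit 126, nat_lit 90]))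
noncomputable def r7 : WT := (.node (nat_lit 28) (.leaf (nat_lit 39951) [nat_lit 108, nat_lit 144, nat_lit 126, nat_lit 72, nat_lit 36, nat_lit 144, nat_lit 72]) (.leaf (nat_lit 39936) [nat_lit 72, nat_lit 144, nat_lit 36, nat_lit 72, nat_lit 126, nat_lit 144, nat_lit 108]))
noncomputable def r8 : WT := (.node (nat_lit 30) (.leaf (nat_lit 34831) [nat_lit 72, nat_lit 108, nat_lit 126, nat_lit 36, nat_lit 108, nat_lit 126, nat_lit 72]) (.leaf (nat_lit 34824) [nat_lit 126, nat_lit 108, nat_lit 72, nat_lit 36, nat_lit 72, nat_lit 126, nat_lit 108]))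
noncomputable def r9 : WT := (.node (nat_lit 32) (.leaf (nat_lit 33802) [nat_lit 72, nat_lit 108, nat_lit 36, nat_lit 72, nat_lit 126, nat_lit 108, nat_lit 126]) (.leaf (nat_lit 33792) [nat_lit 72, nat_lit 126, nat_lit 108, nat_lit 126, nat_lit 36, nat_lit 72, nat_lit 108]))
noncomputable def r10 : WT := (.node (nat_lit 34) (.leaf (nat_lit 31756) [nat_lit 126, nat_lit 36, nat_lit 54, nat_lit 126, nat_lit 54, nat_lit 126, nat_lit 54]) (.leaf (nat_lit 27658) [nat_lit 108, nat_lit 126, nat_lit 36, nat_lit 72, nat_lit 126, nat_lit 72, nat_lit 108]))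
noncomputable def r11 : WT := (.node (nat_lit 36) (.leaf (nat_lit 27648) [nat_lit 72, nat_lit 126, nat_lit 72, nat_lit 108, nat_lit 36, nat_lit 108, nat_lit 126]) (.leaf (nat_lit 26627) [nat_lit 126, nat_lit 72, nat_lit 126, nat_lit 108, nat_lit 72, nat_lit 36, nat_lit 108]))
noncomputable def r12 : WT := (.node (nat_lit 21) (.node (nat_lit 16) (.node (nat_lit 14) (.leaf (nat_lit 92174) [nat_lit 108, nat_lit 36, nat_lit 54, nat_lit 90, nat_lit 126, nat_lit 54, nat_lit 108, nat_lit 90]) (.node (nat_lit 15) (.leaf (nat_lit 101376) [nat_lit 54, nat_lit 90, nat_lit 54, nat_lit 36, nat_lit 90, nat_lit 36, nat_lit 54, nat_lit 90, nat_lit 54, nat_lit 36, nat_lit 90]) (.leaf (nat_lit 32768) [nat_lit 72, nat_lit 36, nat_lit 126, nat_lit 72, nat_lit 108, nat_lit 126, nat_lit 108]))) (.node (nat_lit 18) (.node (nat_lit 17) (.leaf (nat_lit 34816) [nat_lit 72, nat_lit 126, nat_lit 108, nat_lit 36, nat_lit 126, nat_lit 108, nat_lit 72]) (.leaf (nat_lit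 39942) [nat_lit 72, nat_lit 126, nat_lit 144, nat_lit 108, nat_lit 36, nat_lit 72, nat_lit 144])) (.node (nat_lit 19) (.leaf (nat_lit 101384) [nat_lit 90, nat_lit 36, nat_lit 54, nat_lit 90, nat_lit 54, nat_lit 36, nat_lit 90, nat_lit 36, nat_lit 54, nat_lit 90, nat_lit 54]) r3))) (.node (nat_lit 29) (.node (nat_lit 25) (.node (nat_lit 23) r4 r5) (.node (nat_lit 27) r6 r7)) (.node (nat_lit 33) (.node (nat_lit 31) r8 r9) (.node (nat_lit 35) r10 r11))))
noncomputable def w0 : WT := (.node (nat_lit 1) (.leaf (nat_lit 0) [nat_lit 36]) (.node (nat_lit 4) (.node (nat_lit 2) (.leaf (nat_lit 13316) [nat_lit 144, nat_lit 126, nat_lit 36, nat_lit 144]) (.node (nat_lit 3) (.leaf (nat_lit 10240) [nat_lit 126, nat_lit 36, nat_lit 126]) (.leaf (nat_lit 19456) [nat_lit 54, nat_lit 36, nat_lit 54, nat_lit 36, nat_lit 54]))) (.node (nat_lit 8) (.node (nat_lit 6) r0 r1) (.node (nat_lit 13) r2 r12))))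
noncomputable def r13 : WT := (.node (nat_lit 4) (.leaf (nat_lit 21504) [nat_lit 72, nat_lit 54, nat_lit 72, nat_lit 54, nat_lit 72]) (.leaf (nat_lit 74757) [nat_lit 126, nat_lit 72, nat_lit 126, nat_lit 72, nat_lit 90, nat_lit 54, nat_lit 126, nat_lit 90]))
noncomputable def r14 : WT := (.node (nat_lit 6) (.leaf (nat_lit 20480) [nat_lit 144, nat_lit 54, nat_lit 144, nat_lit 54, nat_lit 144]) (.leaf (nat_lit 28672) [nat_lit 108, nat_lit 54, nat_lit 108, nat_lit 54, nat_lit 108, nat_lit 54, nat_lit 108]))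
noncomputable def r15 : WT := (.node (nat_lit 8) (.leaf (nat_lit 74752) [nat_lit 90, nat_lit 72, nat_lit 126, nat_lit 72, nat_lit 126, nat_lit 54, nat_lit 90, nat_lit 126]) (.node (nat_lit 9) (.leaf (nat_lit 74769) [nat_lit 126, nat_lit 90, nat_lit 54, nat_lit 126, nat_lit 72, nat_lit 126, nat_lit 72, nat_lit 90]) (.node (nat_lit 10) (.leaf (nat_lit 47104) [nat_lit 144, nat_lit 54, nat_lit 144, nat_lit 54, nat_lit 126, nat_lit 144, nat_lit 126]) (.leaf (nat_lit 74764) [nat_lit 90, nat_lit 126, nat_lit 54, nat_lit 90, nat_lit 72, nat_lit 126, nat_lit 72, nat_lit 126]))))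
noncomputable def r16 : WT := (.node (nat_lit 16) (.node (nat_lit 13) (.node (nat_lit 12) (.leaf (nat_lit 72708) [nat_lit 108, nat_lit 54, nat_lit 144, nat_lit 108, nat_lit 54, nat_lit 108, nat_lit 54, nat_lit 144]) (.leaf (nat_lit 96266) [nat_lit 108, nat_lit 36, nat_lit 108, nat_lit 36, nat_lit 90, nat_lit 54, nat_lit 126, nat_lit 90])) (.node (nat_lit 14) (.leaf (nat_lit 99330) [nat_lit 72, nat_lit 54, nat_lit 72, nat_lit 54, nat_lit 108, nat_lit 36, nat_lit 72, nat_lit 126, nat_lit 108, nat_lit 126, nat_lit 36]) (.node (nat_lit 15) (.leaf (nat_lit 68608) [nat_lit 72, nat_lit 54, nat_lit 72, nat_lit 54, nat_lit 144, nat_lit 72, nat_lit 108, nat_lit 144]) (.leaf (nat_lit 38912) [nat_lit 72, nat_lit 54, nat_lit 72, nat_lit 54, nat_lit 108, nat_lit 72, nat_lit 108])))) (.node (nat_lit 19) (.node (nat_lit 17) (.leaf (nat_lit 72712) [nat_lit 144, nat_lit 108, nat_lit 54, nat_lit 108, nat_lit 54, nat_lit 144, nat_lit 54, nat_lit 108]) (.node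 (nat_lit 18) (.leaf (nat_lit 30720) [nat_lit 144, nat_lit 54, nat_lit 144, nat_lit 54, nat_lit 108, nat_lit 144, nat_lit 108]) (.leaf (nat_lit 100370) [nat_lit 126, nat_lit 144, nat_lit 54, nat_lit 90, nat_lit 126, nat_lit 90, nat_lit 108, nat_lit 144, nat_lit 90, nat_lit 126, nat_lit 108]))) (.node (nat_lit 20) (.leaf (nat_lit 92169) [nat_lit 126, nat_lit 90, nat_lit 54, nat_lit 36, nat_lit 108, nat_lit 36, nat_lit 90, nat_lit 108]) (.node (nat_lit 21) (.leaf (nat_lit 91144) [nat_lit 90, nat_lit 108, nat_lit 36, nat_lit 108, nat_lit 36, nat_lit 54, nat_lit 90, nat_lit 126]) (.leaf (nat_lit 101382) [nat_lit 36, nat_lit 90, nat_lit 36, nat_lit 54, nat_lit 90, nat_lit 54, nat_lit 36, nat_lit 90, nat_lit 36, nat_lit 54, nat_lit 90])))))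
noncomputable def r17 : WT := (.node (nat_lit 32) (.leaf (nat_lit 31746) [nat_lit 126, nat_lit 54, nat_lit 126, nat_lit 54, nat_lit 36, nat_lit 126, nat_lit 36]) (.leaf (nat_lit 102423) [nat_lit 90, nat_lit 126, nat_lit 90, nat_lit 126, nat_lit 54, nat_lit 90, nat_lit 54, nat_lit 126, nat_lit 90, nat_lit 54, nat_lit 90]))
noncomputable def r18 : WT := (.node (nat_lit 34) (.leaf (nat_lit 102409) [nat_lit 90, nat_lit 54, nat_lit 126, nat_lit 90, nat_lit 54, nat_lit 90, nat_lit 54, nat_lit 90, nat_lit 126, nat_lit 90, nat_lit 126]) (.leaf (nat_lit 102404) [nat_lit 90, nat_lit 126, nat_lit 54, nat_lit 90, nat_lit 54, nat_lit 126, nat_lit 90, nat_lit 126, nat_lit 90, nat_lit 54, nat_lit 90]))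
noncomputable def r19 : WT := (.node (nat_lit 36) (.leaf (nat_lit 31750) [nat_lit 126, nat_lit 54, nat_lit 36, nat_lit 126, nat_lit 36, nat_lit 54, nat_lit 126]) (.leaf (nat_lit 47112) [nat_lit 126, nat_lit 144, nat_lit 126, nat_lit 54, nat_lit 144, nat_lit 54, nat_lit 144]))
noncomputable def r20 : WT := (.node (nat_lit 38) (.leaf (nat_lit 100375) [nat_lit 144, nat_lit 126, nat_lit 54, nat_lit 108, nat_lit 126, nat_lit 90, nat_lit 144, nat_lit 108, nat_lit 90, nat_lit 126, nat_lit 90]) (.leaf (nat_lit 100357) [nat_lit 108, nat_lit 126, nat_lit 90, nat_lit 144, nat_lit 108, nat_lit 90, nat_lit 126, nat_lit 90, nat_lit 54, nat_lit 144, nat_lit 126]))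
noncomputable def r21 : WT := (.node (nat_lit 40) (.leaf (nat_lit 96263) [nat_lit 90, nat_lit 126, nat_lit 54, nat_lit 90, nat_lit 36, nat_lit 108, nat_lit 36, nat_lit 108]) (.leaf (nat_lit 93189) [nat_lit 90, nat_lit 126, nat_lit 72, nat_lit 126, nat_lit 72, nat_lit 54, nat_lit 90, nat_lit 126]))
noncomputable def r22 : WT := (.node (nat_lit 42) (.leaf (nat_lit 91151) [nat_lit 36, nat_lit 108, nat_lit 36, nat_lit 108, nat_lit 90, nat_lit 54, nat_lit 126, nat_lit 90]) (.leaf (nat_lit 91145) [nat_lit 126, nat_lit 90, nat_lit 54, nat_lit 36, nat_lit 108, nat_lit 36, nat_lit 108, nat_lit 90]))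
noncomputable def r23 : WT := (.node (nat_lit 44) (.leaf (nat_lit 64512) [nat_lit 72, nat_lit 144, nat_lit 72, nat_lit 108, nat_lit 54, nat_lit 144, nat_lit 54, nat_lit 144]) (.leaf (nat_lit 64529) [nat_lit 144, nat_lit 54, nat_lit 144, nat_lit 54, nat_lit 108, nat_lit 72, nat_lit 144, nat_lit 72]))
noncomputable def r24 : WT := (.node (nat_lit 30) (.node (nat_lit 26) (.node (nat_lit 24) (.node (nat_lit 23) (.leaf (nat_lit 102400) [nat_lit 90, nat_lit 54, nat_lit 90, nat_lit 126, nat_lit 54, nat_lit 90, nat_lit 54, nat_lit 126, nat_lit 90, nat_lit 126, nat_lit 90]) (.leaf (nat_lit 103426) [nat_lit 72, nat_lit 54, nat_lit 72, nat_lit 54, nat_lit 36, nat_lit 108, nat_lit 36, nat_lit 72, nat_lit 36, nat_lit 108, nat_lit 36])) (.node (nat_lit 25) (.leaf (nat_lit 72713) [nat_lit 108, nat_lit 54, nat_lit 144, nat_lit 54, nat_lit 108, nat_lit 54, nat_lit 108, nat_lit 144]) (.leaf (nat_lit 59401) [nat_lit 108, nat_lit 54, nat_lit 72, nat_lit 54,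 nat_lit 108, nat_lit 54, nat_lit 108, nat_lit 72]))) (.node (nat_lit 28) (.node (nat_lit 27) (.leaf (nat_lit 59400) [nat_lit 72, nat_lit 108, nat_lit 54, nat_lit 108, nat_lit 54, nat_lit 72, nat_lit 54, nat_lit 108]) (.leaf (nat_lit 59396) [nat_lit 108, nat_lit 54, nat_lit 72, nat_lit 108, nat_lit 54, nat_lit 108, nat_lit 54, nat_lit 72])) (.node (nat_lit 29) (.leaf (nat_lit 69644) [nat_lit 108, nat_lit 72, nat_lit 54, nat_lit 72, nat_lit 108, nat_lit 54, nat_lit 72, nat_lit 108]) (.leaf (nat_lit 53256) [nat_lit 126, nat_lit 54, nat_lit 126, nat_lit 54, nat_lit 144, nat_lit 126, nat_lit 144])))) (.node (nat_lit 37) (.node (nat_lit 33) (.node (nat_lit 31) (.leaf (nat_lit 105478) [nat_lit 126, nat_lit 90, nat_lit 54, nat_lit 126, nat_lit 108, nat_lit 36, nat_lit 144, nat_lit 108, nat_lit 36, nat_lit 144, nat_lit 90]) r17) (.node (nat_lit 35) r18 r19)) (.node (nat_lit 41) (.node (nat_lit 39) r20 r21) (.node (nat_lit 43) r22 r23))))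
noncomputable def w1 : WT := (.node (nat_lit 1) (.leaf (nat_lit 1024) [nat_lit 54]) (.node (nat_lit 5) (.node (nat_lit 2) (.leaf (nat_lit 17408) [nat_lit 126, nat_lit 54, nat_lit 126, nat_lit 54, nat_lit 126]) (.node (nat_lit 3) (.leaf (nat_lit 19458) [nat_lit 36, nat_lit 54, nat_lit 36, nat_lit 54, nat_lit 36]) r13)) (.node (nat_lit 11) (.node (nat_lit 7) r14 r15) (.node (nat_lit 22) r16 r24))))
noncomputable def r25 : WT := (.node (nat_lit 4) (.leaf (nat_lit 21506) [nat_lit 54, nat_lit 72, nat_lit 54, nat_lit 72, nat_lit 54]) (.leaf (nat_lit 18432) [nat_lit 90, nat_lit 72, nat_lit 90, nat_lit 72, nat_lit 90]))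
noncomputable def r26 : WT := (.node (nat_lit 6) (.leaf (nat_lit 24578) [nat_lit 126, nat_lit 72, nat_lit 36, nat_lit 72, nat_lit 126, nat_lit 72, nat_lit 36]) (.leaf (nat_lit 74760) [nat_lit 126, nat_lit 54, nat_lit 90, nat_lit 126, nat_lit 54, nat_lit 90, nat_lit 72, nat_lit 126]))
noncomputable def r27 : WT := (.node (nat_lit 8) (.leaf (nat_lit 22537) [nat_lit 144, nat_lit 72, nat_lit 108, nat_lit 126, nat_lit 144, nat_lit 126]) (.node (nat_lit 9) (.leaf (nat_lit 32770) [nat_lit 36, nat_lit 126, nat_lit 72, nat_lit 108, nat_lit 126, nat_lit 108, nat_lit 36]) (.leaf (nat_lit 25606) [nat_lit 126, nat_lit 108, nat_lit 36, nat_lit 108, nat_lit 36, nat_lit 72, nat_lit 126])))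
noncomputable def r28 : WT := (.node (nat_lit 12) (.node (nat_lit 11) (.leaf (nat_lit 12288) [nat_lit 144, nat_lit 72, nat_lit 144, nat_lit 108]) (.leaf (nat_lit 25602) [nat_lit 126, nat_lit 72, nat_lit 126, nat_lit 108, nat_lit 36, nat_lit 108, nat_lit 36])) (.node (nat_lit 13) (.leaf (nat_lit 24582) [nat_lit 36, nat_lit 72, nat_lit 126, nat_lit 72, nat_lit 36, nat_lit 72, nat_lit 126]) (.node (nat_lit 14) (.leaf (nat_lit 26626) [nat_lit 108, nat_lit 126, nat_lit 72, nat_lit 126, nat_lit 36, nat_lit 108, nat_lit 36]) (.leaf (nat_lit 59394) [nat_lit 54, nat_lit 108, nat_lit 54, nat_lit 72, nat_lit 108, nat_lit 54, nat_lit 108, nat_lit 54]))))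
noncomputable def r29 : WT := (.node (nat_lit 24) (.leaf (nat_lit 74765) [nat_lit 90, nat_lit 54, nat_lit 126, nat_lit 90, nat_lit 54, nat_lit 126, nat_lit 72, nat_lit 126]) (.leaf (nat_lit 77827) [nat_lit 126, nat_lit 144, nat_lit 36, nat_lit 108, nat_lit 126, nat_lit 72, nat_lit 36, nat_lit 144]))
noncomputable def r30 : WT := (.node (nat_lit 26) (.leaf (nat_lit 99332) [nat_lit 54, nat_lit 72, nat_lit 54, nat_lit 108, nat_lit 36, nat_lit 72, nat_lit 126, nat_lit 108, nat_lit 126, nat_lit 36, nat_lit 54]) (.leaf (nat_lit 52226) [nat_lit 36, nat_lit 108, nat_lit 36, nat_lit 72, nat_lit 36, nat_lit 108, nat_lit 36]))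
noncomputable def r31 : WT := (.node (nat_lit 28) (.leaf (nat_lit 34818) [nat_lit 126, nat_lit 108, nat_lit 36, nat_lit 126, nat_lit 108, nat_lit 72, nat_lit 36]) (.leaf (nat_lit 33805) [nat_lit 36, nat_lit 108, nat_lit 72, nat_lit 36, nat_lit 126, nat_lit 108, nat_lit 126]))
noncomputable def r32 : WT := (.node (nat_lit 30) (.leaf (nat_lit 33794) [nat_lit 126, nat_lit 108, nat_lit 126, nat_lit 36, nat_lit 72, nat_lit 108, nat_lit 36]) (.leaf (nat_lit 32781) [nat_lit 36, nat_lit 108, nat_lit 126, nat_lit 108, nat_lit 72, nat_lit 126, nat_lit 36]))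
noncomputable def r33 : WT := (.node (nat_lit 32) (.leaf (nat_lit 32776) [nat_lit 108, nat_lit 126, nat_lit 108, nat_lit 36, nat_lit 72, nat_lit 36, nat_lit 126]) (.leaf (nat_lit 12293) [nat_lit 144, nat_lit 72, nat_lit 108, nat_lit 144]))
noncomputable def r34 : WT := (.node (nat_lit 34) (.leaf (nat_lit 27661) [nat_lit 36, nat_lit 126, nat_lit 108, nat_lit 36, nat_lit 108, nat_lit 72, nat_lit 126]) (.leaf (nat_lit 26631) [nat_lit 126, nat_lit 108, nat_lit 72, nat_lit 36, nat_lit 108, nat_lit 36, nat_lit 126]))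
noncomputable def r35 : WT := (.node (nat_lit 36) (.leaf (nat_lit 26632) [nat_lit 126, nat_lit 36, nat_lit 108, nat_lit 36, nat_lit 72, nat_lit 108, nat_lit 126]) (.leaf (nat_lit 25613) [nat_lit 36, nat_lit 108, nat_lit 36, nat_lit 108, nat_lit 126, nat_lit 72, nat_lit 126]))
noncomputable def r36 : WT := (.node (nat_lit 22) (.node (nat_lit 18) (.node (nat_lit 16) (.leaf (nat_lit 74756) [nat_lit 126, nat_lit 72, nat_lit 126, nat_lit 54, nat_lit 90, nat_lit 126, nat_lit 54, nat_lit 90]) (.node (nat_lit 17) (.leaf (nat_lit 93186) [nat_lit 126, nat_lit 72, nat_lit 126, nat_lit 90, nat_lit 54, nat_lit 126, nat_lit 90, nat_lit 54]) (.leaf (nat_lit 39949) [nat_lit 36, nat_lit 108, nat_lit 144, nat_lit 126, nat_lit 72, nat_lit 36, nat_lit 144]))) (.node (nat_lit 20) (.node (nat_lit 19) (.leaf (nat_lit 39938) [nat_lit 144, nat_lit 36, nat_lit 72, nat_lit 126, nat_lit 144, nat_lit 108, nat_lit 36]) (.leaf (nat_lit 59402) [nat_lit 108, nat_lit 54,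 nat_lit 108, nat_lit 54, nat_lit 72, nat_lit 54, nat_lit 108, nat_lit 54])) (.node (nat_lit 21) (.leaf (nat_lit 59399) [nat_lit 54, nat_lit 108, nat_lit 54, nat_lit 72, nat_lit 54, nat_lit 108, nat_lit 54, nat_lit 108]) (.leaf (nat_lit 25609) [nat_lit 126, nat_lit 72, nat_lit 36, nat_lit 108, nat_lit 36, nat_lit 108, nat_lit 126])))) (.node (nat_lit 29) (.node (nat_lit 25) (.node (nat_lit 23) (.leaf (nat_lit 69648) [nat_lit 54, nat_lit 72, nat_lit 108, nat_lit 54, nat_lit 72, nat_lit 108, nat_lit 54, nat_lit 108]) r29) (.node (nat_lit 27) r30 r31)) (.node (nat_lit 33) (.node (nat_lit 31) r32 r33) (.node (nat_lit 35) r34 r35))))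
noncomputable def w2 : WT := (.node (nat_lit 1) (.leaf (nat_lit 2048) [nat_lit 72]) (.node (nat_lit 5) (.node (nat_lit 2) (.leaf (nat_lit 12292) [nat_lit 144, nat_lit 108, nat_lit 72, nat_lit 144]) (.node (nat_lit 3) (.leaf (nat_lit 8192) [nat_lit 108, nat_lit 72, nat_lit 108]) r25)) (.node (nat_lit 10) (.node (nat_lit 7) r26 r27) (.node (nat_lit 15) r28 r36))))
noncomputable def r37 : WT := (.node (nat_lit 5) (.leaf (nat_lit 74754) [nat_lit 72, nat_lit 126, nat_lit 72, nat_lit 126, nat_lit 54, nat_lit 90, nat_lit 126, nat_lit 54]) (.leaf (nat_lit 14336) [nat_lit 144, nat_lit 90, nat_lit 144, nat_lit 90, nat_lit 144]))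
noncomputable def r38 : WT := (.node (nat_lit 7) (.leaf (nat_lit 74755) [nat_lit 54, nat_lit 126, nat_lit 72, nat_lit 126, nat_lit 72, nat_lit 90, nat_lit 54, nat_lit 126]) (.node (nat_lit 8) (.leaf (nat_lit 101380) [nat_lit 54, nat_lit 36, nat_lit 90, nat_lit 36, nat_lit 54, nat_lit 90, nat_lit 54, nat_lit 36, nat_lit 90, nat_lit 36, nat_lit 54]) (.leaf (nat_lit 101386) [nat_lit 36, nat_lit 54, nat_lit 90, nat_lit 54, nat_lit 36, nat_lit 90, nat_lit 36, nat_lit 54, nat_lit 90, nat_lit 54, nat_lit 36])))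
noncomputable def r39 : WT := (.node (nat_lit 12) (.node (nat_lit 10) (.leaf (nat_lit 74766) [nat_lit 126, nat_lit 54, nat_lit 90, nat_lit 72, nat_lit 126, nat_lit 72, nat_lit 126, nat_lit 54]) (.node (nat_lit 11) (.leaf (nat_lit 100354) [nat_lit 126, nat_lit 90, nat_lit 108, nat_lit 144, nat_lit 90, nat_lit 126, nat_lit 108, nat_lit 54, nat_lit 126, nat_lit 144, nat_lit 54]) (.leaf (nat_lit 91140) [nat_lit 126, nat_lit 54, nat_lit 90, nat_lit 108, nat_lit 36, nat_lit 108, nat_lit 36, nat_lit 54]))) (.node (nat_lit 14) (.node (nat_lit 13) (.leaf (nat_lit 16392) [nat_lit 108, nat_lit 90, nat_lit 144, nat_lit 108, nat_lit 144]) (.leaf (nat_lit 102406) [nat_lit 126, nat_lit 54, nat_lit 90, nat_lit 54, nat_lit 126, nat_lit 90, nat_lit 126, nat_lit 90, nat_lit 54, nat_lit 90, nat_lit 54])) (.node (nat_lit 15) (.leaf (nat_lit 100363) [nat_lit 144, nat_lit 108, nat_lit 90, nat_lit 126, nat_lit 90, nat_lit 54, nat_lit 144, nat_lit 126, nat_lit 54,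 nat_lit 108, nat_lit 126]) (.node (nat_lit 16) (.leaf (nat_lit 93185) [nat_lit 126, nat_lit 54, nat_lit 90, nat_lit 126, nat_lit 72, nat_lit 126, nat_lit 72, nat_lit 54]) (.leaf (nat_lit 92165) [nat_lit 108, nat_lit 54, nat_lit 126, nat_lit 90, nat_lit 54, nat_lit 36, nat_lit 108, nat_lit 36])))))
noncomputable def r40 : WT := (.node (nat_lit 29) (.leaf (nat_lit 93194) [nat_lit 54, nat_lit 126, nat_lit 90, nat_lit 54, nat_lit 72, nat_lit 126, nat_lit 72, nat_lit 126]) (.leaf (nat_lit 96271) [nat_lit 36, nat_lit 108, nat_lit 36, nat_lit 108, nat_lit 54, nat_lit 90, nat_lit 126, nat_lit 54]))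
noncomputable def r41 : WT := (.node (nat_lit 31) (.leaf (nat_lit 100358) [nat_lit 108, nat_lit 144, nat_lit 90, nat_lit 126, nat_lit 108, nat_lit 54, nat_lit 126, nat_lit 144, nat_lit 54, nat_lit 90, nat_lit 126]) (.leaf (nat_lit 81926) [nat_lit 126, nat_lit 90, nat_lit 144, nat_lit 36, nat_lit 144, nat_lit 36, nat_lit 90, nat_lit 126]))
noncomputable def r42 : WT := (.node (nat_lit 33) (.leaf (nat_lit 43008) [nat_lit 144, nat_lit 90, nat_lit 144, nat_lit 90, nat_lit 126, nat_lit 144, nat_lit 126]) (.leaf (nat_lit 40972) [nat_lit 126, nat_lit 90, nat_lit 144, nat_lit 126, nat_lit 144, nat_lit 90, nat_lit 126]))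
noncomputable def r43 : WT := (.node (nat_lit 23) (.node (nat_lit 20) (.node (nat_lit 18) (.leaf (nat_lit 92164) [nat_lit 126, nat_lit 54, nat_lit 108, nat_lit 90, nat_lit 36, nat_lit 108, nat_lit 36, nat_lit 54]) (.node (nat_lit 19) (.leaf (nat_lit 91146) [nat_lit 108, nat_lit 36, nat_lit 108, nat_lit 36, nat_lit 54, nat_lit 90, nat_lit 126, nat_lit 54]) (.leaf (nat_lit 82946) [nat_lit 144, nat_lit 90, nat_lit 144, nat_lit 90, nat_lit 126, nat_lit 36, nat_lit 144, nat_lit 36]))) (.node (nat_lit 21) (.leaf (nat_lit 49154) [nat_lit 126, nat_lit 90, nat_lit 126, nat_lit 90, nat_lit 36, nat_lit 126, nat_lit 36]) (.node (nat_lit 22) (.leaf (nat_lit 91143) [nat_lit 54, nat_lit 126, nat_lit 90, nat_lit 54, nat_lit 36, nat_lit 108, nat_lit 36, nat_lit 108]) (.leaf (nat_lit 96265) [nat_lit 126, nat_lit 54, nat_lit 90, nat_lit 36, nat_lit 108, nat_lit 36, nat_lit 108, nat_lit 54])))) (.node (nat_lit 27) (.node (nat_lit 25) (.node (nat_lit 24) (.leaf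 (nat_lit 100364) [nat_lit 126, nat_lit 108, nat_lit 54, nat_lit 126, nat_lit 144, nat_lit 54, nat_lit 90, nat_lit 126, nat_lit 90, nat_lit 108, nat_lit 144]) (.leaf (nat_lit 100373) [nat_lit 54, nat_lit 144, nat_lit 126, nat_lit 54, nat_lit 108, nat_lit 126, nat_lit 90, nat_lit 144, nat_lit 108, nat_lit 90, nat_lit 126])) (.node (nat_lit 26) (.leaf (nat_lit 102402) [nat_lit 54, nat_lit 90, nat_lit 126, nat_lit 54, nat_lit 90, nat_lit 54, nat_lit 126, nat_lit 90, nat_lit 126, nat_lit 90, nat_lit 54]) (.leaf (nat_lit 102401) [nat_lit 126, nat_lit 90, nat_lit 126, nat_lit 54, nat_lit 90, nat_lit 54, nat_lit 126, nat_lit 90, nat_lit 54, nat_lit 90, nat_lit 54]))) (.node (nat_lit 30) (.node (nat_lit 28) (.leaf (nat_lit 105476) [nat_lit 54, nat_lit 126, nat_lit 90, nat_lit 54, nat_lit 126, nat_lit 108, nat_lit 36, nat_lit 144, nat_lit 108, nat_lit 36, nat_lit 144]) r40) (.node (nat_lit 32) r41 r42))))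
noncomputable def w3 : WT := (.node (nat_lit 1) (.leaf (nat_lit 3072) [nat_lit 90]) (.node (nat_lit 4) (.node (nat_lit 2) (.leaf (nat_lit 9216) [nat_lit 108, nat_lit 90, nat_lit 108]) (.node (nat_lit 3) (.leaf (nat_lit 15360) [nat_lit 126, nat_lit 90, nat_lit 126, nat_lit 90, nat_lit 126]) (.leaf (nat_lit 18434) [nat_lit 72, nat_lit 90, nat_lit 72, nat_lit 90, nat_lit 72]))) (.node (nat_lit 9) (.node (nat_lit 6) r37 r38) (.node (nat_lit 17) r39 r43))))
noncomputable def r44 : WT := (.node (nat_lit 4) (.leaf (nat_lit 8194) [nat_lit 72, nat_lit 108, nat_lit 72]) (.leaf (nat_lit 51202) [nat_lit 126, nat_lit 108, nat_lit 126, nat_lit 108, nat_lit 126, nat_lit 108, nat_lit 126]))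
noncomputable def r45 : WT := (.node (nat_lit 6) (.leaf (nat_lit 28674) [nat_lit 54, nat_lit 108, nat_lit 54, nat_lit 108, nat_lit 54, nat_lit 108, nat_lit 54]) (.leaf (nat_lit 25614) [nat_lit 36, nat_lit 72, nat_lit 126, nat_lit 72, nat_lit 126, nat_lit 108, nat_lit 36]))
noncomputable def r46 : WT := (.node (nat_lit 8) (.leaf (nat_lit 91152) [nat_lit 36, nat_lit 54, nat_lit 90, nat_lit 126, nat_lit 54, nat_lit 90, nat_lit 108, nat_lit 36]) (.node (nat_lit 9) (.leaf (nat_lit 23553) [nat_lit 144, nat_lit 108, nat_lit 126, nat_lit 36, nat_lit 144, nat_lit 36]) (.leaf (nat_lit 22540) [nat_lit 72, nat_lit 144, nat_lit 72, nat_lit 126, nat_lit 144, nat_lit 126])))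
noncomputable def r47 : WT := (.node (nat_lit 14) (.node (nat_lit 12) (.node (nat_lit 11) (.leaf (nat_lit 23560) [nat_lit 144, nat_lit 108, nat_lit 36, nat_lit 144, nat_lit 36, nat_lit 126]) (.leaf (nat_lit 25610) [nat_lit 36, nat_lit 108, nat_lit 36, nat_lit 72, nat_lit 126, nat_lit 72, nat_lit 126])) (.node (nat_lit 13) (.leaf (nat_lit 12289) [nat_lit 144, nat_lit 72, nat_lit 144, nat_lit 72]) (.leaf (nat_lit 38922) [nat_lit 72, nat_lit 108, nat_lit 54, nat_lit 72, nat_lit 54, nat_lit 72, nat_lit 54]))) (.node (nat_lit 16) (.node (nat_lit 15) (.leaf (nat_lit 100368) [nat_lit 54, nat_lit 126, nat_lit 144, nat_lit 54, nat_lit 90, nat_lit 126, nat_lit 90, nat_lit 108, nat_lit 144, nat_lit 90, nat_lit 126]) (.leaf (nat_lit 12296) [nat_lit 72, nat_lit 144, nat_lit 72, nat_lit 144])) (.node (nat_lit 17) (.leaf (nat_lit 29698) [nat_lit 126, nat_lit 108, nat_lit 36, nat_lit 108, nat_lit 126, nat_lit 108, nat_lit 36]) (.leaf (nat_lit 29702) [nat_lit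 36, nat_lit 108, nat_lit 126, nat_lit 108, nat_lit 36, nat_lit 108, nat_lit 126]))))
noncomputable def r48 : WT := (.node (nat_lit 26) (.leaf (nat_lit 100367) [nat_lit 90, nat_lit 126, nat_lit 90, nat_lit 54, nat_lit 144, nat_lit 126, nat_lit 54, nat_lit 108, nat_lit 126, nat_lit 90, nat_lit 144]) (.leaf (nat_lit 32778) [nat_lit 126, nat_lit 108, nat_lit 36, nat_lit 72, nat_lit 36, nat_lit 126, nat_lit 72]))
noncomputable def r49 : WT := (.node (nat_lit 28) (.leaf (nat_lit 16394) [nat_lit 90, nat_lit 144, nat_lit 108, nat_lit 144, nat_lit 90]) (.leaf (nat_lit 23557) [nat_lit 126, nat_lit 36, nat_lit 144, nat_lit 36, nat_lit 108, nat_lit 144]))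
noncomputable def r50 : WT := (.node (nat_lit 30) (.leaf (nat_lit 26628) [nat_lit 126, nat_lit 72, nat_lit 126, nat_lit 36, nat_lit 108, nat_lit 36, nat_lit 72]) (.leaf (nat_lit 100360) [nat_lit 144, nat_lit 90, nat_lit 126, nat_lit 108, nat_lit 54, nat_lit 126, nat_lit 144, nat_lit 54, nat_lit 90, nat_lit 126, nat_lit 90]))
noncomputable def r51 : WT := (.node (nat_lit 32) (.leaf (nat_lit 26635) [nat_lit 72, nat_lit 36, nat_lit 108, nat_lit 36, nat_lit 126, nat_lit 72, nat_lit 126]) (.node (nat_lit 33) (.leaf (nat_lit 96272) [nat_lit 36, nat_lit 90, nat_lit 54, nat_lit 126, nat_lit 90, nat_lit 54, nat_lit 108, nat_lit 36]) (.leaf (nat_lit 92167) [nat_lit 54, nat_lit 126, nat_lit 90, nat_lit 54, nat_lit 36, nat_lit 108, nat_lit 36, nat_lit 90])))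
noncomputable def r52 : WT := (.node (nat_lit 35) (.leaf (nat_lit 30730) [nat_lit 144, nat_lit 108, nat_lit 54, nat_lit 144, nat_lit 54, nat_lit 144, nat_lit 54]) (.leaf (nat_lit 57346) [nat_lit 36, nat_lit 108, nat_lit 36, nat_lit 108, nat_lit 36, nat_lit 108, nat_lit 36]))
noncomputable def r53 : WT := (.node (nat_lit 37) (.leaf (nat_lit 91137) [nat_lit 36, nat_lit 108, nat_lit 90, nat_lit 54, nat_lit 126, nat_lit 90, nat_lit 54, nat_lit 36]) (.leaf (nat_lit 36869) [nat_lit 72, nat_lit 126, nat_lit 72, nat_lit 126, nat_lit 36, nat_lit 108, nat_lit 36]))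
noncomputable def r54 : WT := (.node (nat_lit 39) (.leaf (nat_lit 91148) [nat_lit 36, nat_lit 108, nat_lit 36, nat_lit 54, nat_lit 90, nat_lit 126, nat_lit 54, nat_lit 90]) (.leaf (nat_lit 72720) [nat_lit 54, nat_lit 144, nat_lit 54, nat_lit 108, nat_lit 54, nat_lit 144, nat_lit 108, nat_lit 54]))
noncomputable def r55 : WT := (.node (nat_lit 41) (.leaf (nat_lit 72716) [nat_lit 54, nat_lit 108, nat_lit 54, nat_lit 144, nat_lit 54, nat_lit 108, nat_lit 54, nat_lit 144]) (.node (nat_lit 42) (.leaf (nat_lit 72710) [nat_lit 54, nat_lit 144, nat_lit 108, nat_lit 54, nat_lit 108, nat_lit 54, nat_lit 144, nat_lit 54]) (.leaf (nat_lit 59404) [nat_lit 54, nat_lit 108, nat_lit 54, nat_lit 72, nat_lit 54, nat_lit 108, nat_lit 54, nat_lit 72])))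
noncomputable def r56 : WT := (.node (nat_lit 25) (.node (nat_lit 21) (.node (nat_lit 19) (.leaf (nat_lit 59398) [nat_lit 54, nat_lit 72, nat_lit 108, nat_lit 54, nat_lit 108, nat_lit 54, nat_lit 72, nat_lit 54]) (.node (nat_lit 20) (.leaf (nat_lit 91141) [nat_lit 90, nat_lit 54, nat_lit 126, nat_lit 90, nat_lit 54, nat_lit 36, nat_lit 108, nat_lit 36]) (.leaf (nat_lit 92170) [nat_lit 90, nat_lit 36, nat_lit 108, nat_lit 36, nat_lit 54, nat_lit 90, nat_lit 126, nat_lit 54]))) (.node (nat_lit 23) (.node (nat_lit 22) (.leaf (nat_lit 25605) [nat_lit 126, nat_lit 72, nat_lit 126, nat_lit 72, nat_lit 36, nat_lit 108, nat_lit 36]) (.leaf (nat_lit 25601) [nat_lit 36, nat_lit 108, nat_lit 126, nat_lit 72, nat_lit 126, nat_lit 72, nat_lit 36])) (.node (nat_lit 24) (.leaf (nat_lit 96261) [nat_lit 54, nat_lit 90, nat_lit 126, nat_lit 54, nat_lit 90, nat_lit 36, nat_lit 108, nat_lit 36]) (.leaf (nat_lit 100359) [nat_lit 126, nat_lit 90, nat_lit 144,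 nat_lit 108, nat_lit 90, nat_lit 126, nat_lit 90, nat_lit 54, nat_lit 144, nat_lit 126, nat_lit 54])))) (.node (nat_lit 34) (.node (nat_lit 29) (.node (nat_lit 27) r48 r49) (.node (nat_lit 31) r50 r51)) (.node (nat_lit 38) (.node (nat_lit 36) r52 r53) (.node (nat_lit 40) r54 r55))))
noncomputable def w4 : WT := (.node (nat_lit 1) (.leaf (nat_lit 4096) [nat_lit 108]) (.node (nat_lit 5) (.node (nat_lit 2) (.leaf (nat_lit 9218) [nat_lit 90, nat_lit 108, nat_lit 90]) (.node (nat_lit 3) (.leaf (nat_lit 7170) [nat_lit 144, nat_lit 108, nat_lit 144]) r44)) (.node (nat_lit 10) (.node (nat_lit 7) r45 r46) (.node (nat_lit 18) r47 r56))))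
noncomputable def r57 : WT := (.node (nat_lit 5) (.leaf (nat_lit 17410) [nat_lit 54, nat_lit 126, nat_lit 54, nat_lit 126, nat_lit 54]) (.leaf (nat_lit 25604) [nat_lit 72, nat_lit 126, nat_lit 108, nat_lit 36, nat_lit 108, nat_lit 36, nat_lit 72]))
noncomputable def r58 : WT := (.node (nat_lit 8) (.node (nat_lit 7) (.leaf (nat_lit 74758) [nat_lit 72, nat_lit 126, nat_lit 54, nat_lit 90, nat_lit 126, nat_lit 54, nat_lit 90, nat_lit 72]) (.leaf (nat_lit 22531) [nat_lit 144, nat_lit 126, nat_lit 72, nat_lit 144, nat_lit 72, nat_lit 108])) (.node (nat_lit 9) (.leaf (nat_lit 24580) [nat_lit 72, nat_lit 36, nat_lit 72, nat_lit 126, nat_lit 72, nat_lit 36, nat_lit 72]) (.leaf (nat_lit 26630) [nat_lit 72, nat_lit 126, nat_lit 36, nat_lit 108, nat_lit 36, nat_lit 72, nat_lit 108])))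
noncomputable def r59 : WT := (.node (nat_lit 12) (.node (nat_lit 11) (.leaf (nat_lit 74753) [nat_lit 90, nat_lit 54, nat_lit 126, nat_lit 72, nat_lit 126, nat_lit 72, nat_lit 90, nat_lit 54]) (.leaf (nat_lit 22534) [nat_lit 144, nat_lit 126, nat_lit 108, nat_lit 72, nat_lit 144, nat_lit 72])) (.node (nat_lit 13) (.leaf (nat_lit 13313) [nat_lit 144, nat_lit 36, nat_lit 144, nat_lit 36]) (.node (nat_lit 14) (.leaf (nat_lit 25607) [nat_lit 72, nat_lit 126, nat_lit 72, nat_lit 36, nat_lit 108, nat_lit 36, nat_lit 108]) (.leaf (nat_lit 29700) [nat_lit 108, nat_lit 36, nat_lit 108, nat_lit 126, nat_lit 108, nat_lit 36, nat_lit 108]))))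
noncomputable def r60 : WT := (.node (nat_lit 23) (.leaf (nat_lit 102408) [nat_lit 54, nat_lit 90, nat_lit 54, nat_lit 126, nat_lit 90, nat_lit 126, nat_lit 90, nat_lit 54, nat_lit 90, nat_lit 54, nat_lit 90]) (.leaf (nat_lit 100355) [nat_lit 54, nat_lit 108, nat_lit 126, nat_lit 90, nat_lit 144, nat_lit 108, nat_lit 90, nat_lit 126, nat_lit 90, nat_lit 54, nat_lit 144]))
noncomputable def r61 : WT := (.node (nat_lit 25) (.leaf (nat_lit 100366) [nat_lit 108, nat_lit 54, nat_lit 126, nat_lit 144, nat_lit 54, nat_lit 90, nat_lit 126, nat_lit 90, nat_lit 108, nat_lit 144, nat_lit 90]) (.leaf (nat_lit 95244) [nat_lit 36, nat_lit 144, nat_lit 36, nat_lit 54, nat_lit 144, nat_lit 54, nat_lit 144, nat_lit 54]))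
noncomputable def r62 : WT := (.node (nat_lit 28) (.leaf (nat_lit 74762) [nat_lit 54, nat_lit 90, nat_lit 126, nat_lit 54, nat_lit 90, nat_lit 72, nat_lit 126, nat_lit 72]) (.leaf (nat_lit 40970) [nat_lit 90, nat_lit 126, nat_lit 90, nat_lit 144, nat_lit 126, nat_lit 144, nat_lit 90]))
noncomputable def r63 : WT := (.node (nat_lit 30) (.leaf (nat_lit 33803) [nat_lit 72, nat_lit 36, nat_lit 108, nat_lit 72, nat_lit 36, nat_lit 126, nat_lit 108]) (.leaf (nat_lit 33796) [nat_lit 108, nat_lit 126, nat_lit 36, nat_lit 72, nat_lit 108, nat_lit 36, nat_lit 72]))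
noncomputable def r64 : WT := (.node (nat_lit 32) (.leaf (nat_lit 25611) [nat_lit 72, nat_lit 36, nat_lit 108, nat_lit 36, nat_lit 108, nat_lit 126, nat_lit 72]) (.leaf (nat_lit 23558) [nat_lit 108, nat_lit 144, nat_lit 108, nat_lit 36, nat_lit 144, nat_lit 36]))
noncomputable def r65 : WT := (.node (nat_lit 20) (.node (nat_lit 17) (.node (nat_lit 16) (.leaf (nat_lit 23559) [nat_lit 36, nat_lit 144, nat_lit 36, nat_lit 108, nat_lit 144, nat_lit 108]) (.leaf (nat_lit 74768) [nat_lit 54, nat_lit 90, nat_lit 72, nat_lit 126, nat_lit 72, nat_lit 126, nat_lit 54, nat_lit 90])) (.node (nat_lit 18) (.leaf (nat_lit 13320) [nat_lit 36, nat_lit 144, nat_lit 36, nat_lit 144]) (.node (nat_lit 19) (.leaf (nat_lit 51200) [nat_lit 108, nat_lit 126, nat_lit 108, nat_lit 126, nat_lit 108, nat_lit 126, nat_lit 108]) (.leaf (nat_lit 25608) [nat_lit 108, nat_lit 36, nat_lit 108, nat_lit 36, nat_lit 72, nat_lit 126, nat_lit 72])))) (.node (nat_lit 26) (.node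 (nat_lit 22) (.node (nat_lit 21) (.leaf (nat_lit 100361) [nat_lit 90, nat_lit 144, nat_lit 108, nat_lit 90, nat_lit 126, nat_lit 90, nat_lit 54, nat_lit 144, nat_lit 126, nat_lit 54, nat_lit 108]) (.leaf (nat_lit 27662) [nat_lit 36, nat_lit 72, nat_lit 126, nat_lit 72, nat_lit 108, nat_lit 36, nat_lit 108])) (.node (nat_lit 24) r60 r61)) (.node (nat_lit 29) (.node (nat_lit 27) (.leaf (nat_lit 91147) [nat_lit 90, nat_lit 54, nat_lit 36, nat_lit 108, nat_lit 36, nat_lit 108, nat_lit 90, nat_lit 54]) r62) (.node (nat_lit 31) r63 r64))))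
noncomputable def w5 : WT := (.node (nat_lit 1) (.leaf (nat_lit 5120) [nat_lit 126]) (.node (nat_lit 4) (.node (nat_lit 2) (.leaf (nat_lit 10242) [nat_lit 36, nat_lit 126, nat_lit 36]) (.node (nat_lit 3) (.leaf (nat_lit 11266) [nat_lit 144, nat_lit 126, nat_lit 144]) (.leaf (nat_lit 15362) [nat_lit 90, nat_lit 126, nat_lit 90, nat_lit 126, nat_lit 90]))) (.node (nat_lit 10) (.node (nat_lit 6) r57 r58) (.node (nat_lit 15) r59 r65))))
noncomputable def r66 : WT := (.node (nat_lit 6) (.leaf (nat_lit 20482) [nat_lit 54, nat_lit 144, nat_lit 54, nat_lit 144, nat_lit 54]) (.leaf (nat_lit 14338) [nat_lit 90, nat_lit 144, nat_lit 90, nat_lit 144, nat_lit 90]))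
noncomputable def r67 : WT := (.node (nat_lit 9) (.node (nat_lit 8) (.leaf (nat_lit 13318) [nat_lit 126, nat_lit 36, nat_lit 144, nat_lit 36]) (.leaf (nat_lit 43020) [nat_lit 126, nat_lit 90, nat_lit 144, nat_lit 90, nat_lit 144, nat_lit 90, nat_lit 126])) (.node (nat_lit 10) (.leaf (nat_lit 40962) [nat_lit 126, nat_lit 144, nat_lit 90, nat_lit 126, nat_lit 90, nat_lit 126, nat_lit 90]) (.node (nat_lit 11) (.leaf (nat_lit 13315) [nat_lit 36, nat_lit 144, nat_lit 36, nat_lit 126]) (.leaf (nat_lit 100374) [nat_lit 54, nat_lit 90, nat_lit 126, nat_lit 90, nat_lit 108, nat_lit 144, nat_lit 90, nat_lit 126, nat_lit 108, nat_lit 54, nat_lit 126]))))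
noncomputable def r68 : WT := (.node (nat_lit 20) (.leaf (nat_lit 81936) [nat_lit 36, nat_lit 90, nat_lit 126, nat_lit 90, nat_lit 126, nat_lit 90, nat_lit 144, nat_lit 36]) (.leaf (nat_lit 105474) [nat_lit 90, nat_lit 54, nat_lit 126, nat_lit 90, nat_lit 54, nat_lit 126, nat_lit 108, nat_lit 36, nat_lit 144, nat_lit 108, nat_lit 36]))
noncomputable def r69 : WT := (.node (nat_lit 22) (.leaf (nat_lit 100353) [nat_lit 126, nat_lit 54, nat_lit 108, nat_lit 126, nat_lit 90, nat_lit 144, nat_lit 108, nat_lit 90, nat_lit 126, nat_lit 90, nat_lit 54]) (.leaf (nat_lit 100362) [nat_lit 90, nat_lit 126, nat_lit 108, nat_lit 54, nat_lit 126, nat_lit 144, nat_lit 54, nat_lit 90, nat_lit 126, nat_lit 90, nat_lit 108]))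
noncomputable def r70 : WT := (.node (nat_lit 24) (.leaf (nat_lit 94212) [nat_lit 54, nat_lit 144, nat_lit 54, nat_lit 36, nat_lit 144, nat_lit 126, nat_lit 36, nat_lit 54]) (.leaf (nat_lit 82945) [nat_lit 36, nat_lit 126, nat_lit 90, nat_lit 144, nat_lit 90, nat_lit 144, nat_lit 90, nat_lit 36]))
noncomputable def r71 : WT := (.node (nat_lit 26) (.leaf (nat_lit 82960) [nat_lit 36, nat_lit 90, nat_lit 144, nat_lit 90, nat_lit 144, nat_lit 90, nat_lit 126, nat_lit 36]) (.leaf (nat_lit 81921) [nat_lit 36, nat_lit 144, nat_lit 90, nat_lit 126, nat_lit 90, nat_lit 126, nat_lit 90, nat_lit 36]))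
noncomputable def r72 : WT := (.node (nat_lit 28) (.leaf (nat_lit 35854) [nat_lit 36, nat_lit 72, nat_lit 144, nat_lit 108, nat_lit 72, nat_lit 126, nat_lit 36]) (.leaf (nat_lit 72706) [nat_lit 54, nat_lit 108, nat_lit 54, nat_lit 144, nat_lit 108, nat_lit 54, nat_lit 108, nat_lit 54]))
noncomputable def r73 : WT := (.node (nat_lit 30) (.leaf (nat_lit 13319) [nat_lit 36, nat_lit 126, nat_lit 144, nat_lit 36]) (.leaf (nat_lit 65542) [nat_lit 72, nat_lit 144, nat_lit 36, nat_lit 108, nat_lit 126, nat_lit 36, nat_lit 72, nat_lit 126]))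
noncomputable def r74 : WT := (.node (nat_lit 32) (.leaf (nat_lit 53250) [nat_lit 126, nat_lit 144, nat_lit 54, nat_lit 126, nat_lit 54, nat_lit 126, nat_lit 54]) (.leaf (nat_lit 47110) [nat_lit 54, nat_lit 126, nat_lit 144, nat_lit 126, nat_lit 54, nat_lit 144, nat_lit 54]))
noncomputable def r75 : WT := (.node (nat_lit 34) (.leaf (nat_lit 12295) [nat_lit 72, nat_lit 108, nat_lit 144, nat_lit 72]) (.node (nat_lit 35) (.leaf (nat_lit 43014) [nat_lit 90, nat_lit 126, nat_lit 144, nat_lit 126, nat_lit 90, nat_lit 144, nat_lit 90]) (.leaf (nat_lit 30732) [nat_lit 108, nat_lit 54, nat_lit 144, nat_lit 54, nat_lit 144, nat_lit 54, nat_lit 108])))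
noncomputable def r76 : WT := (.node (nat_lit 19) (.node (nat_lit 15) (.node (nat_lit 13) (.leaf (nat_lit 12294) [nat_lit 108, nat_lit 72, nat_lit 144, nat_lit 72]) (.node (nat_lit 14) (.leaf (nat_lit 68618) [nat_lit 72, nat_lit 108, nat_lit 144, nat_lit 54, nat_lit 72, nat_lit 54, nat_lit 72, nat_lit 54]) (.leaf (nat_lit 12291) [nat_lit 72, nat_lit 144, nat_lit 72, nat_lit 108]))) (.node (nat_lit 17) (.node (nat_lit 16) (.leaf (nat_lit 16386) [nat_lit 108, nat_lit 144, nat_lit 90, nat_lit 108, nat_lit 90]) (.leaf (nat_lit 105492) [nat_lit 108, nat_lit 36, nat_lit 144, nat_lit 90, nat_lit 54, nat_lit 126, nat_lit 90, nat_lit 54, nat_lit 126, nat_lit 108, nat_lit 36])) (.node (nat_lit 18) (.leaf (nat_lit 100365) [nat_lit 108, nat_lit 90, nat_lit 126, nat_lit 90, nat_lit 54, nat_lit 144, nat_lit 126, nat_lit 54, nat_lit 108, nat_lit 126, nat_lit 90]) (.leaf (nat_lit 47116) [nat_lit 126, nat_lit 54, nat_lit 144, nat_lit 54, nat_lit 144, nat_lit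 54, nat_lit 126])))) (.node (nat_lit 27) (.node (nat_lit 23) (.node (nat_lit 21) r68 r69) (.node (nat_lit 25) r70 r71)) (.node (nat_lit 31) (.node (nat_lit 29) r72 r73) (.node (nat_lit 33) r74 r75))))
noncomputable def w6 : WT := (.node (nat_lit 1) (.leaf (nat_lit 6144) [nat_lit 144]) (.node (nat_lit 4) (.node (nat_lit 2) (.leaf (nat_lit 11264) [nat_lit 126, nat_lit 144, nat_lit 126]) (.node (nat_lit 3) (.leaf (nat_lit 7168) [nat_lit 108, nat_lit 144, nat_lit 108]) (.leaf (nat_lit 12290) [nat_lit 72, nat_lit 144, nat_lit 108, nat_lit 72]))) (.node (nat_lit 7) (.node (nat_lit 5) (.leaf (nat_lit 13314) [nat_lit 36, nat_lit 144, nat_lit 126, nat_lit 36]) r66) (.node (nat_lit 12) r67 r76))))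
noncomputable def wP : WT := (.node (nat_lit 2) (.node (nat_lit 1) (.leaf (nat_lit 14336) [nat_lit 90, nat_lit 144, nat_lit 90, nat_lit 144, nat_lit 90, nat_lit 144]) (.leaf (nat_lit 19456) [nat_lit 36, nat_lit 54, nat_lit 36, nat_lit 54, nat_lit 36, nat_lit 54])) (.node (nat_lit 3) (.leaf (nat_lit 91138) [nat_lit 54, nat_lit 90, nat_lit 126, nat_lit 54, nat_lit 90, nat_lit 108, nat_lit 36, nat_lit 108, nat_lit 36]) (.leaf (nat_lit 102404) [nat_lit 54, nat_lit 90, nat_lit 126, nat_lit 54, nat_lit 90, nat_lit 54, nat_lit 126, nat_lit 90, nat_lit 126, nat_lit 90, nat_lit 54, nat_lit 90])))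
noncomputable def P : Par := ⟨tb, nat_lit 162, nat_lit 0x3ffffffffffffffffffffffffffffffffffffffff, nat_lit 827, nat_lit 262143, nat_lit 1023, nat_lit 18, nat_lit 10, nat_lit 552,
  [nat_lit 36, nat_lit 54, nat_lit 72, nat_lit 90, nat_lit 108, nat_lit 126, nat_lit 144], [nat_lit 36, nat_lit 54, nat_lit 72, nat_lit 90, nat_lit 108, nat_lit 126], wP,
  (.cons (nat_lit 36) w0 (.cons (nat_lit 54) w1 (.cons (nat_lit 72) w2 (.cons (nat_lit 90) w3 (.cons (nat_lit 108) w4 (.cons (nat_lit 126) w5 (.cons (nat_lit 144) w6 .nil))))))),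
  .nil⟩

end Cfsg.Agent.Lib.TCC3b
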