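import Cfsg.Agent.Lib.TCCo1aD0

set_option autoImplicit false
set_option maxRecDepth 100000

namespace Cfsg.Agent.Lib.TCCo1a
open Cfsg.Agent.Lib.TCCore

noncomputable def n0 : T := (.node (nat_lit 140) (.node (nat_lit 70) (.node (nat_lit 35) l0 l1) (.node (nat_lit 105) l2 l3)) (.node (nat_lit 210) (.node (nat_lit 175) l4 l5) (.node (nat_lit 245) l6 (.node (nat_lit 280) l7 l8))))
noncomputable def n1 : T := (.node (nat_lit 455) (.node (nat_lit 385) (.node (nat_lit 350) l9 l10) (.node (nat_lit 420) l11 l12)) (.node (nat_lit 525) (.node (nat_lit 490) l13 l14) (.node (nat_lit 560) l15 (.node (nat_lit 595) l16 l17))))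
noncomputable def n2 : T := (.node (nat_lit 770) (.node (nat_lit 700) (.node (nat_lit 665) l18 l19) (.node (nat_lit 735) l20 l21)) (.node (nat_lit 840) (.node (nat_lit 805) l22 l23) (.node (nat_lit 875) l24 (.node (nat_lit 910) l25 l26))))
noncomputable def n3 : T := (.node (nat_lit 1120) (.node (nat_lit 1015) (.node (nat_lit 980) l27 l28) (.node (nat_lit 1050) l29 (.node (nat_lit 1085) l30 l31))) (.node (nat_lit 1190) (.node (nat_lit 1155) l32 l33) (.node (nat_lit 1225) l34 (.node (nat_lit 1260) l35 l36))))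
noncomputable def n4 : T := (.node (nat_lit 1435) (.node (nat_lit 1365) (.node (nat_lit 1330) l37 l38) (.node (nat_lit 1400) l39 l40)) (.node (nat_lit 1505) (.node (nat_lit 1470) l41 l42) (.node (nat_lit 1540) l43 (.node (nat_lit 1575) l44 l45))))
noncomputable def n5 : T := (.node (nat_lit 1750) (.node (nat_lit 1680) (.node (nat_lit 1645) l46 l47) (.node (nat_lit 1715) l48 l49)) (.node (nat_lit 1820) (.node (nat_lit 1785) l50 l51) (.node (nat_lit 1855) l52 (.node (nat_lit 1890) l53 l54))))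
noncomputable def n6 : T := (.node (nat_lit 2065) (.node (nat_lit 1995) (.node (nat_lit 1960) l55 l56) (.node (nat_lit 2030) l57 l58)) (.node (nat_lit 2135) (.node (nat_lit 2100) l59 l60) (.node (nat_lit 2170) l61 (.node (nat_lit 2205) l62 l63))))
noncomputable def n7 : T := (.node (nat_lit 2415) (.node (nat_lit 2310) (.node (nat_lit 2275) l64 l65) (.node (nat_lit 2345) l66 (.node (nat_lit 2380) l67 l68))) (.node (nat_lit 2485) (.node (nat_lit 2450) l69 l70) (.node (nat_lit 2520) l71 (.node (nat_lit 2555) l72 l73))))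
noncomputable def n8 : T := (.node (nat_lit 2730) (.node (nat_lit 2660) (.node (nat_lit 2625) l74 l75) (.node (nat_lit 2695) l76 l77)) (.node (nat_lit 2800) (.node (nat_lit 2765) l78 l79) (.node (nat_lit 2835) l80 (.node (nat_lit 2870) l81 l82))))
noncomputable def n9 : T := (.node (nat_lit 3045) (.node (nat_lit 2975) (.node (nat_lit 2940) l83 l84) (.node (nat_lit 3010) l85 l86)) (.node (nat_lit 3115) (.node (nat_lit 3080) l87 l88) (.node (nat_lit 3150) l89 (.node (nat_lit 3185) l90 l91))))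
noncomputable def n10 : T := (.node (nat_lit 3360) (.node (nat_lit 3290) (.node (nat_lit 3255) l92 l93) (.node (nat_lit 3325) l94 l95)) (.node (nat_lit 3430) (.node (nat_lit 3395) l96 l97) (.node (nat_lit 3465) l98 (.node (nat_lit 3500) l99 l100))))
noncomputable def n11 : T := (.node (nat_lit 3710) (.node (nat_lit 3605) (.node (nat_lit 3570) l101 l102) (.node (nat_lit 3640) l103 (.node (nat_lit 3675) l104 l105))) (.node (nat_lit 3780) (.node (nat_lit 3745) l106 l107) (.node (nat_lit 3815) l108 (.node (nat_lit 3850) l109 l110))))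
noncomputable def n12 : T := (.node (nat_lit 4025) (.node (nat_lit 3955) (.node (nat_lit 3920) l111 l112) (.node (nat_lit 3990) l113 l114)) (.node (nat_lit 4095) (.node (nat_lit 4060) l115 l116) (.node (nat_lit 4130) l117 (.node (nat_lit 4165) l118 l119))))
noncomputable def n13 : T := (.node (nat_lit 4340) (.node (nat_lit 4270) (.node (nat_lit 4235) l120 l121) (.node (nat_lit 4305) l122 l123)) (.node (nat_lit 4410) (.node (nat_lit 4375) l124 l125) (.node (nat_lit 4445) l126 (.node (nat_lit 4480) l127 l128))))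
noncomputable def n14 : T := (.node (nat_lit 4655) (.node (nat_lit 4585) (.node (nat_lit 4550) l129 l130) (.node (nat_lit 4620) l131 l132)) (.node (nat_lit 4725) (.node (nat_lit 4690) l133 l134) (.node (nat_lit 4760) l135 (.node (nat_lit 4795) l136 l137))))
noncomputable def n15 : T := (.node (nat_lit 5005) (.node (nat_lit 4900) (.node (nat_lit 4865) l138 l139) (.node (nat_lit 4935) l140 (.node (nat_lit 4970) l141 l142))) (.node (nat_lit 5075) (.node (nat_lit 5040) l143 l144) (.node (nat_lit 5110) l145 (.node (nat_lit 5145) l146 l147))))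
noncomputable def n16 : T := (.node (nat_lit 5320) (.node (nat_lit 5250) (.node (nat_lit 5215) l148 l149) (.node (nat_lit 5285) l150 l151)) (.node (nat_lit 5390) (.node (nat_lit 5355) l152 l153) (.node (nat_lit 5425) l154 (.node (nat_lit 5460) l155 l156))))
noncomputable def n17 : T := (.node (nat_lit 5635) (.node (nat_lit 5565) (.node (nat_lit 5530) l157 l158) (.node (nat_lit 5600) l159 l160)) (.node (nat_lit 5705) (.node (nat_lit 5670) l161 l162) (.node (nat_lit 5740) l163 (.node (nat_lit 5775) l164 l165))))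
noncomputable def n18 : T := (.node (nat_lit 5950) (.node (nat_lit 5880) (.node (nat_lit 5845) l166 l167) (.node (nat_lit 5915) l168 l169)) (.node (nat_lit 6020) (.node (nat_lit 5985) l170 l171) (.node (nat_lit 6055) l172 (.node (nat_lit 6090) l173 l174))))
noncomputable def n19 : T := (.node (nat_lit 6300) (.node (nat_lit 6195) (.node (nat_lit 6160) l175 l176) (.node (nat_lit 6230) l177 (.node (nat_lit 6265) l178 l179))) (.node (nat_lit 6370) (.node (nat_lit 6335) l180 l181) (.node (nat_lit 6405) l182 (.node (nat_lit 6440) l183 l184))))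
noncomputable def n20 : T := (.node (nat_lit 6615) (.node (nat_lit 6545) (.node (nat_lit 6510) l185 l186) (.node (nat_lit 6580) l187 l188)) (.node (nat_lit 6685) (.node (nat_lit 6650) l189 l190) (.node (nat_lit 6720) l191 (.node (nat_lit 6755) l192 l193))))
noncomputable def n21 : T := (.node (nat_lit 6930) (.node (nat_lit 6860) (.node (nat_lit 6825) l194 l195) (.node (nat_lit 6895) l196 l197)) (.node (nat_lit 7000) (.node (nat_lit 6965) l198 l199) (.node (nat_lit 7035) l200 (.node (nat_lit 7070) l201 l202))))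
noncomputable def n22 : T := (.node (nat_lit 7245) (.node (nat_lit 7175) (.node (nat_lit 7140) l203 l204) (.node (nat_lit 7210) l205 l206)) (.node (nat_lit 7315) (.node (nat_lit 7280) l207 l208) (.node (nat_lit 7350) l209 (.node (nat_lit 7385) l210 l211))))
noncomputable def n23 : T := (.node (nat_lit 7595) (.node (nat_lit 7490) (.node (nat_lit 7455) l212 l213) (.node (nat_lit 7525) l214 (.node (nat_lit 7560) l215 l216))) (.node (nat_lit 7665) (.node (nat_lit 7630) l217 l218) (.node (nat_lit 7700) l219 (.node (nat_lit 7735) l220 l221))))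
noncomputable def n24 : T := (.node (nat_lit 7910) (.node (nat_lit 7840) (.node (nat_lit 7805) l222 l223) (.node (nat_lit 7875) l224 l225)) (.node (nat_lit 7980) (.node (nat_lit 7945) l226 l227) (.node (nat_lit 8015) l228 (.node (nat_lit 8050) l229 l230))))
noncomputable def n25 : T := (.node (nat_lit 8225) (.node (nat_lit 8155) (.node (nat_lit 8120) l231 l232) (.node (nat_lit 8190) l233 l234)) (.node (nat_lit 8295) (.node (nat_lit 8260) l235 l236) (.node (nat_lit 8330) l237 (.node (nat_lit 8365) l238 l239))))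
noncomputable def n26 : T := (.node (nat_lit 8540) (.node (nat_lit 8470) (.node (nat_lit 8435) l240 l241) (.node (nat_lit 8505) l242 l243)) (.node (nat_lit 8610) (.node (nat_lit 8575) l244 l245) (.node (nat_lit 8645) l246 (.node (nat_lit 8680) l247 l248))))
noncomputable def n27 : T := (.node (nat_lit 8890) (.node (nat_lit 8785) (.node (nat_lit 8750) l249 l250) (.node (nat_lit 8820) l251 (.node (nat_lit 8855) l252 l253))) (.node (nat_lit 8960) (.node (nat_lit 8925) l254 l255) (.node (nat_lit 8995) l256 (.node (nat_lit 9030) l257 l258))))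
noncomputable def n28 : T := (.node (nat_lit 9205) (.node (nat_lit 9135) (.node (nat_lit 9100) l259 l260) (.node (nat_lit 9170) l261 l262)) (.node (nat_lit 9275) (.node (nat_lit 9240) l263 l264) (.node (nat_lit 9310) l265 (.node (nat_lit 9345) l266 l267))))
noncomputable def n29 : T := (.node (nat_lit 9555) (.node (nat_lit 9450) (.node (nat_lit 9415) l268 l269) (.node (nat_lit 9485) l270 (.node (nat_lit 9520) l271 l272))) (.node (nat_lit 9625) (.node (nat_lit 9590) l273 l274) (.node (nat_lit 9660) l275 (.node (nat_lit 9695) l276 l277))))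
noncomputable def n30 : T := (.node (nat_lit 9870) (.node (nat_lit 9800) (.node (nat_lit 9765) l278 l279) (.node (nat_lit 9835) l280 l281)) (.node (nat_lit 9940) (.node (nat_lit 9905) l282 l283) (.node (nat_lit 9975) l284 (.node (nat_lit 10010) l285 l286))))
noncomputable def n31 : T := (.node (nat_lit 10220) (.node (nat_lit 10115) (.node (nat_lit 10080) l287 l288) (.node (nat_lit 10150) l289 (.node (nat_lit 10185) l290 l291))) (.node (nat_lit 10290) (.node (nat_lit 10255) l292 l293) (.node (nat_lit 10325) l294 (.node (nat_lit 10360) l295 l296))))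
noncomputable def tb : T := (.node (nat_lit 5180) (.node (nat_lit 2590) (.node (nat_lit 1295) (.node (nat_lit 630) (.node (nat_lit 315) n0 n1) (.node (nat_lit 945) n2 n3)) (.node (nat_lit 1925) (.node (nat_lit 1610) n4 n5) (.node (nat_lit 2240) n6 n7))) (.node (nat_lit 3885) (.node (nat_lit 3220) (.node (nat_lit 2905) n8 n9) (.node (nat_lit 3535) n10 n11)) (.node (nat_lit 4515) (.node (nat_lit 4200) n12 n13) (.node (nat_lit 4830) n14 n15)))) (.node (nat_lit 7770) (.node (nat_lit 6475) (.node (nat_lit 5810) (.node (nat_lit 5495) n16 n17) (.node (nat_lit 6125) n18 n19)) (.node (nat_lit 7105) (.node (nat_lit 6790) n20 n21) (.node (nat_lit 7420) n22 n23))) (.node (nat_lit 9065) (.node (nat_lit 8400) (.node (nat_lit 8085) n24 n25) (.node (nat_lit 8715) n26 n27)) (.node (nat_lit 9730) (.node (nat_lit 9380) n28 n29) (.node (nat_lit 10045) n30 n31)))))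
noncomputable def r0 : WT := (.node (nat_lit 7) (.leaf (nat_lit 108544) [nat_lit 442, nat_lit 52, nat_lit 468]) (.leaf (nat_lit 109572) [nat_lit 130, nat_lit 156, nat_lit 312, nat_lit 156, nat_lit 130, nat_lit 52, nat_lit 390]))
noncomputable def r1 : WT := (.leaf (nat_lit 113668) [nat_lit 312, nat_lit 416, nat_lit 286, nat_lit 286, nat_lit 286, nat_lit 286, nat_lit 286, nat_lit 286, nat_lit 416, nat_lit 312, nat_lit 312, nat_lit 312, nat_lit 416, nat_lit 286, nat_lit 52, nat_lit 208])
noncomputable def r2 : WT := (.node (nat_lit 9) r1 (.leaf (nat_lit 109568) [nat_lit 390, nat_lit 52, nat_lit 130, nat_lit 156, nat_lit 312, nat_lit 156, nat_lit 130]))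
noncomputable def r3 : WT := (.leaf (nat_lit 115716) [nat_lit 286, nat_lit 286, nat_lit 416, nat_lit 312, nat_lit 312, nat_lit 416, nat_lit 286, nat_lit 286, nat_lit 286, nat_lit 416, nat_lit 52, nat_lit 260])
noncomputable def r4 : WT := (.node (nat_lit 11) (.leaf (nat_lit 108548) [nat_lit 468, nat_lit 52, nat_lit 442]) r3)
noncomputable def r5 : WT := (.leaf (nat_lit 111620) [nat_lit 286, nat_lit 286, nat_lit 286, nat_lit 286, nat_lit 416, nat_lit 312, nat_lit 312, nat_lit 416, nat_lit 286, nat_lit 286, nat_lit 286, nat_lit 416, nat_lit 312, nat_lit 312, nat_lit 52, nat_lit 156])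
noncomputable def r6 : WT := (.leaf (nat_lit 112644) [nat_lit 312, nat_lit 416, nat_lit 286, nat_lit 286, nat_lit 416, nat_lit 286, nat_lit 286, nat_lit 286, nat_lit 416, nat_lit 312, nat_lit 52, nat_lit 182])
noncomputable def r7 : WT := (.node (nat_lit 15) r5 r6)
noncomputable def r8 : WT := (.leaf (nat_lit 115712) [nat_lit 260, nat_lit 52, nat_lit 286, nat_lit 286, nat_lit 416, nat_lit 312, nat_lit 312, nat_lit 416, nat_lit 286, nat_lit 286, nat_lit 286, nat_lit 416])
noncomputable def r9 : WT := (.leaf (nat_lit 117765) [nat_lit 520, nat_lit 104, nat_lit 52, nat_lit 520, nat_lit 104, nat_lit 52, nat_lit 520, nat_lit 104, nat_lit 52, nat_lit 520, nat_lit 104, nat_lit 52, nat_lit 520, nat_lit 104])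
noncomputable def r10 : WT := (.leaf (nat_lit 117760) [nat_lit 104, nat_lit 494, nat_lit 52, nat_lit 104, nat_lit 494, nat_lit 52, nat_lit 104, nat_lit 494, nat_lit 52, nat_lit 104, nat_lit 494, nat_lit 52, nat_lit 104, nat_lit 494])
noncomputable def r11 : WT := (.node (nat_lit 17) r8 (.node (nat_lit 18) r9 r10))
noncomputable def r12 : WT := (.leaf (nat_lit 115737) [nat_lit 390, nat_lit 312, nat_lit 312, nat_lit 312, nat_lit 390, nat_lit 286, nat_lit 286, nat_lit 390, nat_lit 312, nat_lit 312, nat_lit 52, nat_lit 260])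
noncomputable def r13 : WT := (.leaf (nat_lit 113697) [nat_lit 312, nat_lit 390, nat_lit 286, nat_lit 286, nat_lit 286, nat_lit 390, nat_lit 312, nat_lit 312, nat_lit 312, nat_lit 312, nat_lit 312, nat_lit 312, nat_lit 390, nat_lit 286, nat_lit 52, nat_lit 208])
noncomputable def r14 : WT := (.leaf (nat_lit 115733) [nat_lit 260, nat_lit 52, nat_lit 390, nat_lit 312, nat_lit 312, nat_lit 312, nat_lit 390, nat_lit 286, nat_lit 286, nat_lit 390, nat_lit 312, nat_lit 312])
noncomputable def r15 : WT := (.leaf (nat_lit 114692) [nat_lit 312, nat_lit 312, nat_lit 416, nat_lit 286, nat_lit 286, nat_lit 286, nat_lit 286, nat_lit 286, nat_lit 286, nat_lit 416, nat_lit 416, nat_lit 312, nat_lit 52, nat_lit 234])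
noncomputable def r16 : WT := (.node (nat_lit 21) (.node (nat_lit 20) r12 r13) (.node (nat_lit 22) (.leaf (nat_lit 116739) [nat_lit 520, nat_lit 52, nat_lit 520, nat_lit 52, nat_lit 520, nat_lit 52, nat_lit 520, nat_lit 52, nat_lit 520]) (.node (nat_lit 23) r14 r15)))
noncomputable def r17 : WT := (.leaf (nat_lit 112640) [nat_lit 182, nat_lit 52, nat_lit 312, nat_lit 416, nat_lit 286, nat_lit 286, nat_lit 416, nat_lit 286, nat_lit 286, nat_lit 286, nat_lit 416, nat_lit 312])
noncomputable def r18 : WT := (.leaf (nat_lit 112665) [nat_lit 286, nat_lit 390, nat_lit 312, nat_lit 312, nat_lit 312, nat_lit 390, nat_lit 312, nat_lit 312, nat_lit 390, nat_lit 286, nat_lit 52, nat_lit 182])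
noncomputable def r19 : WT := (.leaf (nat_lit 112661) [nat_lit 182, nat_lit 52, nat_lit 286, nat_lit 390, nat_lit 312, nat_lit 312, nat_lit 312, nat_lit 390, nat_lit 312, nat_lit 312, nat_lit 390, nat_lit 286])
noncomputable def r20 : WT := (.leaf (nat_lit 111645) [nat_lit 156, nat_lit 52, nat_lit 286, nat_lit 286, nat_lit 390, nat_lit 312, nat_lit 312, nat_lit 312, nat_lit 390, nat_lit 286, nat_lit 286, nat_lit 390, nat_lit 312, nat_lit 312, nat_lit 312, nat_lit 312])
noncomputable def r21 : WT := (.leaf (nat_lit 113693) [nat_lit 208, nat_lit 52, nat_lit 312, nat_lit 390, nat_lit 286, nat_lit 286, nat_lit 286, nat_lit 390, nat_lit 312, nat_lit 312, nat_lit 312, nat_lit 312, nat_lit 312, nat_lit 312, nat_lit 390, nat_lit 286])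
noncomputable def r22 : WT := (.leaf (nat_lit 114688) [nat_lit 234, nat_lit 52, nat_lit 312, nat_lit 312, nat_lit 416, nat_lit 286, nat_lit 286, nat_lit 286, nat_lit 286, nat_lit 286, nat_lit 286, nat_lit 416, nat_lit 416, nat_lit 312])
noncomputable def r23 : WT := (.leaf (nat_lit 114713) [nat_lit 234, nat_lit 52, nat_lit 286, nat_lit 390, nat_lit 390, nat_lit 312, nat_lit 312, nat_lit 312, nat_lit 312, nat_lit 312, nat_lit 312, nat_lit 390, nat_lit 286, nat_lit 286])
noncomputable def r24 : WT := (.leaf (nat_lit 114717) [nat_lit 286, nat_lit 390, nat_lit 390, nat_lit 312, nat_lit 312, nat_lit 312, nat_lit 312, nat_lit 312, nat_lit 312, nat_lit 390, nat_lit 286, nat_lit 286, nat_lit 52, nat_lit 234])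
noncomputable def r25 : WT := (.leaf (nat_lit 111616) [nat_lit 156, nat_lit 52, nat_lit 286, nat_lit 286, nat_lit 286, nat_lit 286, nat_lit 416, nat_lit 312, nat_lit 312, nat_lit 416, nat_lit 286, nat_lit 286, nat_lit 286, nat_lit 416, nat_lit 312, nat_lit 312])
noncomputable def r26 : WT := (.node (nat_lit 28) (.node (nat_lit 26) (.node (nat_lit 25) r17 (.leaf (nat_lit 116736) [nat_lit 494, nat_lit 52, nat_lit 494, nat_lit 52, nat_lit 494, nat_lit 52, nat_lit 494, nat_lit 52, nat_lit 494])) (.node (nat_lit 27) r18 r19)) (.node (nat_lit 30) (.node (nat_lit 29) r20 r21) (.node (nat_lit 32) (.node (nat_lit 31) r22 r23) (.node (nat_lit 33) r24 r25))))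
noncomputable def r27 : WT := (.node (nat_lit 13) (.leaf (nat_lit 109579) [nat_lit 416, nat_lit 52, nat_lit 130, nat_lit 156, nat_lit 286, nat_lit 156, nat_lit 130]) (.node (nat_lit 14) (.leaf (nat_lit 104450) [nat_lit 104, nat_lit 52, nat_lit 104, nat_lit 52, nat_lit 104]) (.node (nat_lit 19) (.node (nat_lit 16) r7 r11) (.node (nat_lit 24) r16 r26))))
noncomputable def w0 : WT := (.node (nat_lit 2) (.node (nat_lit 1) (.leaf (nat_lit 0) [nat_lit 52]) (.leaf (nat_lit 107520) [nat_lit 338, nat_lit 52, nat_lit 364])) (.node (nat_lit 6) (.node (nat_lit 4) (.node (nat_lit 3) (.leaf (nat_lit 106496) [nat_lit 286, nat_lit 52, nat_lit 312]) (.leaf (nat_lit 106500) [nat_lit 312, nat_lit 52, nat_lit 286])) (.node (nat_lit 5) (.leaf (nat_lit 107524) [nat_lit 364, nat_lit 52, nat_lit 338]) (.leaf (nat_lit 109583) [nat_lit 130, nat_lit 156, nat_lit 286, nat_lit 156, nat_lit 130, nat_lit 52, nat_lit 416]))) (.node (nat_lit 10) (.node (nat_lit 8) r0 r2) (.node (nat_lit 12) r4 r27))))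
noncomputable def r28 : WT := (.node (nat_lit 12) (.leaf (nat_lit 19456) [nat_lit 234, nat_lit 78, nat_lit 234]) (.leaf (nat_lit 17408) [nat_lit 182, nat_lit 78, nat_lit 182]))
noncomputable def r29 : WT := (.node (nat_lit 14) (.leaf (nat_lit 73734) [nat_lit 442, nat_lit 78, nat_lit 468]) (.leaf (nat_lit 73730) [nat_lit 468, nat_lit 78, nat_lit 442]))
noncomputable def r30 : WT := (.node (nat_lit 20) (.leaf (nat_lit 92161) [nat_lit 182, nat_lit 234, nat_lit 494, nat_lit 130, nat_lit 520]) (.leaf (nat_lit 90124) [nat_lit 494, nat_lit 78, nat_lit 520, nat_lit 234, nat_lit 182, nat_lit 130]))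
noncomputable def r31 : WT := (.node (nat_lit 23) (.node (nat_lit 22) (.leaf (nat_lit 90123) [nat_lit 520, nat_lit 78, nat_lit 130, nat_lit 182, nat_lit 234, nat_lit 494]) (.leaf (nat_lit 14336) [nat_lit 104, nat_lit 78, nat_lit 104, nat_lit 130, nat_lit 156, nat_lit 130, nat_lit 156])) (.node (nat_lit 25) (.node (nat_lit 24) (.leaf (nat_lit 90113) [nat_lit 130, nat_lit 182, nat_lit 234, nat_lit 494, nat_lit 78, nat_lit 520]) (.leaf (nat_lit 14347) [nat_lit 104, nat_lit 78, nat_lit 156, nat_lit 130, nat_lit 156, nat_lit 130, nat_lit 104])) (.node (nat_lit 26) (.leaf (nat_lit 14351) [nat_lit 156, nat_lit 130, nat_lit 156, nat_lit 130, nat_lit 104, nat_lit 78, nat_lit 104]) (.leaf (nat_lit 105483) [nat_lit 52, nat_lit 156, nat_lit 130, nat_lit 156, nat_lit 130, nat_lit 52]))))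
noncomputable def r32 : WT := (.node (nat_lit 17) (.node (nat_lit 16) (.leaf (nat_lit 14340) [nat_lit 104, nat_lit 130, nat_lit 156, nat_lit 130, nat_lit 156, nat_lit 78, nat_lit 104]) (.leaf (nat_lit 105474) [nat_lit 52, nat_lit 130, nat_lit 156, nat_lit 130, nat_lit 156, nat_lit 52])) (.node (nat_lit 18) (.leaf (nat_lit 92170) [nat_lit 494, nat_lit 130, nat_lit 520, nat_lit 234, nat_lit 182]) (.node (nat_lit 19) (.leaf (nat_lit 90114) [nat_lit 520, nat_lit 234, nat_lit 182, nat_lit 130, nat_lit 78, nat_lit 494]) (.node (nat_lit 21) r30 r31))))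
noncomputable def w1 : WT := (.node (nat_lit 6) (.node (nat_lit 3) (.node (nat_lit 1) (.leaf (nat_lit 1024) [nat_lit 78]) (.node (nat_lit 2) (.leaf (nat_lit 20480) [nat_lit 260, nat_lit 78, nat_lit 260]) (.leaf (nat_lit 18432) [nat_lit 208, nat_lit 78, nat_lit 208]))) (.node (nat_lit 4) (.leaf (nat_lit 51202) [nat_lit 364, nat_lit 78, nat_lit 338]) (.node (nat_lit 5) (.leaf (nat_lit 62466) [nat_lit 416, nat_lit 78, nat_lit 390]) (.leaf (nat_lit 62470) [nat_lit 390, nat_lit 78, nat_lit 416])))) (.node (nat_lit 10) (.node (nat_lit 8) (.node (nat_lit 7) (.leaf (nat_lit 51206) [nat_lit 338, nat_lit 78, nat_lit 364]) (.leaf (nat_lit 16384) [nat_lit 156, nat_lit 78, nat_lit 156])) (.node (nat_lit 9) (.leaf (nat_lit 43014) [nat_lit 286, nat_lit 78, nat_lit 312]) (.leaf (nat_lit 43010) [nat_lit 312, nat_lit 78, nat_lit 286]))) (.node (nat_lit 13) (.node (nat_lit 11) (.leaf (nat_lit 15360) [nat_lit 130, nat_lit 78, nat_lit 130]) r28) (.node (nat_lit 15) r29 r32))))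
noncomputable def r33 : WT := (.node (nat_lit 4) (.leaf (nat_lit 24576) [nat_lit 208, nat_lit 104, nat_lit 208]) (.leaf (nat_lit 22528) [nat_lit 156, nat_lit 104, nat_lit 156]))
noncomputable def r34 : WT := (.node (nat_lit 6) (.leaf (nat_lit 52230) [nat_lit 338, nat_lit 104, nat_lit 364]) (.leaf (nat_lit 44038) [nat_lit 286, nat_lit 104, nat_lit 312]))
noncomputable def r35 : WT := (.node (nat_lit 8) (.leaf (nat_lit 21504) [nat_lit 130, nat_lit 104, nat_lit 130]) (.leaf (nat_lit 44034) [nat_lit 312, nat_lit 104, nat_lit 286]))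
noncomputable def r36 : WT := (.node (nat_lit 10) (.leaf (nat_lit 63490) [nat_lit 416, nat_lit 234, nat_lit 208, nat_lit 104, nat_lit 156, nat_lit 130, nat_lit 156, nat_lit 130, nat_lit 390]) (.node (nat_lit 11) (.leaf (nat_lit 25600) [nat_lit 234, nat_lit 104, nat_lit 234]) (.leaf (nat_lit 74754) [nat_lit 468, nat_lit 104, nat_lit 442])))
noncomputable def r37 : WT := (.node (nat_lit 14) (.node (nat_lit 13) (.leaf (nat_lit 74758) [nat_lit 442, nat_lit 104, nat_lit 468]) (.leaf (nat_lit 23552) [nat_lit 182, nat_lit 104, nat_lit 182])) (.node (nat_lit 15) (.leaf (nat_lit 63505) [nat_lit 416, nat_lit 130, nat_lit 156, nat_lit 130, nat_lit 156, nat_lit 104, nat_lit 208, nat_lit 234, nat_lit 390]) (.leaf (nat_lit 91138) [nat_lit 520, nat_lit 156, nat_lit 494])))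
noncomputable def r38 : WT := (.node (nat_lit 25) (.leaf (nat_lit 97288) [nat_lit 494, nat_lit 260, nat_lit 520, nat_lit 260]) (.leaf (nat_lit 95240) [nat_lit 494, nat_lit 208, nat_lit 520, nat_lit 208]))
noncomputable def r39 : WT := (.leaf (nat_lit 102426) [nat_lit 286, nat_lit 494, nat_lit 312, nat_lit 442, nat_lit 286, nat_lit 520, nat_lit 312, nat_lit 104, nat_lit 468, nat_lit 494, nat_lit 468, nat_lit 520, nat_lit 442])
noncomputable def r40 : WT := (.leaf (nat_lit 117762) [nat_lit 494, nat_lit 52, nat_lit 104, nat_lit 494, nat_lit 52, nat_lit 104, nat_lit 494, nat_lit 52, nat_lit 104, nat_lit 494, nat_lit 52, nat_lit 104, nat_lit 494, nat_lit 52])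
noncomputable def r41 : WT := (.leaf (nat_lit 118826) [nat_lit 520, nat_lit 52, nat_lit 520, nat_lit 338, nat_lit 52, nat_lit 104, nat_lit 520, nat_lit 52, nat_lit 520, nat_lit 52, nat_lit 104, nat_lit 520, nat_lit 52, nat_lit 520, nat_lit 52, nat_lit 104, nat_lit 520, nat_lit 52, nat_lit 520, nat_lit 52, nat_lit 104, nat_lit 520, nat_lit 52, nat_lit 520, nat_lit 52])
noncomputable def r42 : WT := (.node (nat_lit 27) (.leaf (nat_lit 63497) [nat_lit 208, nat_lit 234, nat_lit 390, nat_lit 104, nat_lit 416, nat_lit 130, nat_lit 156, nat_lit 130, nat_lit 156]) (.node (nat_lit 29) (.node (nat_lit 28) (.leaf (nat_lit 14349) [nat_lit 78, nat_lit 156, nat_lit 130, nat_lit 156, nat_lit 130, nat_lit 104, nat_lit 78]) (.leaf (nat_lit 14345) [nat_lit 78, nat_lit 104, nat_lit 78, nat_lit 156, nat_lit 130, nat_lit 156, nat_lit 130])) (.node (nat_lit 30) r39 (.node (nat_lit 31) r40 r41))))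
noncomputable def r43 : WT := (.node (nat_lit 19) (.node (nat_lit 17) (.leaf (nat_lit 93185) [nat_lit 156, nat_lit 494, nat_lit 156, nat_lit 520]) (.node (nat_lit 18) (.leaf (nat_lit 104448) [nat_lit 52, nat_lit 104, nat_lit 52, nat_lit 104, nat_lit 52]) (.leaf (nat_lit 63498) [nat_lit 156, nat_lit 130, nat_lit 156, nat_lit 130, nat_lit 390, nat_lit 104, nat_lit 416, nat_lit 234, nat_lit 208]))) (.node (nat_lit 22) (.node (nat_lit 20) (.leaf (nat_lit 14342) [nat_lit 130, nat_lit 156, nat_lit 130, nat_lit 156, nat_lit 78, nat_lit 104, nat_lit 78]) (.node (nat_lit 21) (.leaf (nat_lit 14338) [nat_lit 78, nat_lit 104, nat_lit 130, nat_lit 156, nat_lit 130, nat_lit 156, nat_lit 78]) (.leaf (nat_lit 95233) [nat_lit 208, nat_lit 494, nat_lit 208, nat_lit 520]))) (.node (nat_lit 24) (.node (nat_lit 23) (.leaf (nat_lit 97281) [nat_lit 260, nat_lit 494, nat_lit 260, nat_lit 520]) (.leaf (nat_lit 93192) [nat_lit 494, nat_lit 156, nat_lit 520, nat_lit 156])) (.node (nat_lit 26) r38 r42))))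
noncomputable def w2 : WT := (.node (nat_lit 1) (.leaf (nat_lit 2048) [nat_lit 104]) (.node (nat_lit 7) (.node (nat_lit 3) (.node (nat_lit 2) (.leaf (nat_lit 52226) [nat_lit 364, nat_lit 104, nat_lit 338]) (.leaf (nat_lit 26624) [nat_lit 260, nat_lit 104, nat_lit 260])) (.node (nat_lit 5) r33 r34)) (.node (nat_lit 12) (.node (nat_lit 9) r35 r36) (.node (nat_lit 16) r37 r43))))
noncomputable def r44 : WT := (.node (nat_lit 7) (.leaf (nat_lit 53250) [nat_lit 364, nat_lit 234, nat_lit 130, nat_lit 156, nat_lit 130, nat_lit 156, nat_lit 130, nat_lit 338]) (.leaf (nat_lit 29696) [nat_lit 234, nat_lit 130, nat_lit 234]))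
noncomputable def r45 : WT := (.node (nat_lit 9) (.leaf (nat_lit 105482) [nat_lit 156, nat_lit 52, nat_lit 78, nat_lit 52, nat_lit 130, nat_lit 156]) (.leaf (nat_lit 27648) [nat_lit 182, nat_lit 130, nat_lit 182]))
noncomputable def r46 : WT := (.node (nat_lit 11) (.leaf (nat_lit 47112) [nat_lit 286, nat_lit 182, nat_lit 312, nat_lit 182]) (.node (nat_lit 12) (.leaf (nat_lit 75778) [nat_lit 468, nat_lit 234, nat_lit 182, nat_lit 130, nat_lit 156, nat_lit 130, nat_lit 156, nat_lit 130, nat_lit 442]) (.leaf (nat_lit 92162) [nat_lit 520, nat_lit 234, nat_lit 182, nat_lit 78, nat_lit 494])))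
noncomputable def r47 : WT := (.leaf (nat_lit 110594) [nat_lit 52, nat_lit 312, nat_lit 312, nat_lit 416, nat_lit 286, nat_lit 286, nat_lit 286, nat_lit 416, nat_lit 286, nat_lit 286, nat_lit 286, nat_lit 286, nat_lit 286, nat_lit 416, nat_lit 312, nat_lit 312, nat_lit 312, nat_lit 52])
noncomputable def r48 : WT := (.node (nat_lit 15) (.node (nat_lit 14) (.leaf (nat_lit 14348) [nat_lit 156, nat_lit 78, nat_lit 104, nat_lit 78, nat_lit 104, nat_lit 130, nat_lit 156]) (.leaf (nat_lit 90122) [nat_lit 78, nat_lit 494, nat_lit 78, nat_lit 520, nat_lit 234, nat_lit 182])) (.node (nat_lit 16) (.leaf (nat_lit 15362) [nat_lit 78, nat_lit 130, nat_lit 78]) r47))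
noncomputable def r49 : WT := (.node (nat_lit 20) (.node (nat_lit 18) (.leaf (nat_lit 47105) [nat_lit 182, nat_lit 286, nat_lit 182, nat_lit 312]) (.node (nat_lit 19) (.leaf (nat_lit 68618) [nat_lit 78, nat_lit 390, nat_lit 234, nat_lit 416, nat_lit 234, nat_lit 182]) (.leaf (nat_lit 35852) [nat_lit 156, nat_lit 182, nat_lit 208, nat_lit 182, nat_lit 208, nat_lit 130, nat_lit 156]))) (.node (nat_lit 23) (.node (nat_lit 21) (.leaf (nat_lit 80908) [nat_lit 442, nat_lit 260, nat_lit 468, nat_lit 260, nat_lit 234, nat_lit 156]) (.node (nat_lit 22) (.leaf (nat_lit 67585) [nat_lit 156, nat_lit 130, nat_lit 156, nat_lit 78, nat_lit 156, nat_lit 260, nat_lit 390, nat_lit 208, nat_lit 416]) (.leaf (nat_lit 90115) [nat_lit 182, nat_lit 234, nat_lit 494, nat_lit 78, nat_lit 520, nat_lit 78]))) (.node (nat_lit 24) (.leaf (nat_lit 105478) [nat_lit 156, nat_lit 130, nat_lit 156, nat_lit 52, nat_lit 78, nat_lit 52]) (.node (nat_lit 25) (.leaf (nat_lit 68611) [nat_lit 182, nat_lit 234, nat_lit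 390, nat_lit 234, nat_lit 416, nat_lit 78]) (.leaf (nat_lit 75793) [nat_lit 468, nat_lit 130, nat_lit 156, nat_lit 130, nat_lit 156, nat_lit 130, nat_lit 182, nat_lit 234, nat_lit 442])))))
noncomputable def r50 : WT := (.node (nat_lit 34) (.leaf (nat_lit 109574) [nat_lit 156, nat_lit 312, nat_lit 156, nat_lit 130, nat_lit 52, nat_lit 390, nat_lit 52]) (.leaf (nat_lit 92169) [nat_lit 520, nat_lit 78, nat_lit 182, nat_lit 234, nat_lit 494]))
noncomputable def r51 : WT := (.node (nat_lit 37) (.leaf (nat_lit 109569) [nat_lit 156, nat_lit 286, nat_lit 156, nat_lit 130, nat_lit 52, nat_lit 416, nat_lit 52]) (.leaf (nat_lit 45071) [nat_lit 312, nat_lit 130, nat_lit 156, nat_lit 130, nat_lit 156, nat_lit 130, nat_lit 234, nat_lit 286]))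
noncomputable def r52 : WT := (.node (nat_lit 39) (.leaf (nat_lit 109577) [nat_lit 52, nat_lit 416, nat_lit 52, nat_lit 130, nat_lit 156, nat_lit 286, nat_lit 156]) (.leaf (nat_lit 14339) [nat_lit 156, nat_lit 130, nat_lit 104, nat_lit 78, nat_lit 104, nat_lit 78, nat_lit 156]))
noncomputable def r53 : WT := (.node (nat_lit 41) (.leaf (nat_lit 80897) [nat_lit 156, nat_lit 234, nat_lit 260, nat_lit 442, nat_lit 260, nat_lit 468]) (.leaf (nat_lit 14343) [nat_lit 104, nat_lit 78, nat_lit 104, nat_lit 78, nat_lit 156, nat_lit 130, nat_lit 156]))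
noncomputable def r54 : WT := (.node (nat_lit 43) (.leaf (nat_lit 63506) [nat_lit 390, nat_lit 104, nat_lit 416, nat_lit 234, nat_lit 208, nat_lit 104, nat_lit 156, nat_lit 130, nat_lit 156]) (.node (nat_lit 44) (.leaf (nat_lit 45068) [nat_lit 156, nat_lit 130, nat_lit 286, nat_lit 130, nat_lit 312, nat_lit 234, nat_lit 130, nat_lit 156]) (.leaf (nat_lit 57360) [nat_lit 338, nat_lit 234, nat_lit 364, nat_lit 234, nat_lit 182, nat_lit 156, nat_lit 130, nat_lit 156])))
noncomputable def r55 : WT := (.node (nat_lit 46) (.leaf (nat_lit 69648) [nat_lit 156, nat_lit 130, nat_lit 390, nat_lit 260, nat_lit 416, nat_lit 260, nat_lit 208, nat_lit 156, nat_lit 78, nat_lit 156]) (.node (nat_lit 47) (.leaf (nat_lit 53260) [nat_lit 156, nat_lit 130, nat_lit 338, nat_lit 130, nat_lit 364, nat_lit 234, nat_lit 130, nat_lit 156]) (.leaf (nat_lit 67602) [nat_lit 390, nat_lit 208, nat_lit 416, nat_lit 260, nat_lit 156, nat_lit 78, nat_lit 156, nat_lit 130, nat_lit 156])))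
noncomputable def r56 : WT := (.leaf (nat_lit 110627) [nat_lit 52, nat_lit 286, nat_lit 286, nat_lit 286, nat_lit 390, nat_lit 312, nat_lit 312, nat_lit 312, nat_lit 312, nat_lit 312, nat_lit 390, nat_lit 312, nat_lit 312, nat_lit 312, nat_lit 390, nat_lit 286, nat_lit 286, nat_lit 52])
noncomputable def r57 : WT := (.node (nat_lit 51) (.node (nat_lit 49) (.leaf (nat_lit 35848) [nat_lit 156, nat_lit 130, nat_lit 156, nat_lit 182, nat_lit 208, nat_lit 182, nat_lit 208]) (.node (nat_lit 50) r56 (.leaf (nat_lit 57349) [nat_lit 156, nat_lit 182, nat_lit 234, nat_lit 338, nat_lit 234, nat_lit 364, nat_lit 130, nat_lit 156]))) (.node (nat_lit 52) (.leaf (nat_lit 40967) [nat_lit 260, nat_lit 234, nat_lit 260, nat_lit 234, nat_lit 156, nat_lit 130, nat_lit 156]) (.node (nat_lit 53) (.leaf (nat_lit 76814) [nat_lit 442, nat_lit 156, nat_lit 468, nat_lit 208, nat_lit 156, nat_lit 130, nat_lit 156]) (.leaf (nat_lit 69633) [nat_lit 156, nat_lit 130, nat_lit 156, nat_lit 78, nat_lit 156,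 nat_lit 208, nat_lit 260, nat_lit 390, nat_lit 260, nat_lit 416]))))
noncomputable def r58 : WT := (.node (nat_lit 64) (.leaf (nat_lit 67589) [nat_lit 156, nat_lit 78, nat_lit 156, nat_lit 260, nat_lit 390, nat_lit 208, nat_lit 416, nat_lit 130, nat_lit 156]) (.leaf (nat_lit 75790) [nat_lit 156, nat_lit 130, nat_lit 442, nat_lit 130, nat_lit 468, nat_lit 234, nat_lit 182, nat_lit 130, nat_lit 156]))
noncomputable def r59 : WT := (.node (nat_lit 69) (.leaf (nat_lit 77836) [nat_lit 156, nat_lit 130, nat_lit 442, nat_lit 182, nat_lit 468, nat_lit 234, nat_lit 130, nat_lit 156]) (.leaf (nat_lit 57345) [nat_lit 156, nat_lit 130, nat_lit 156, nat_lit 182, nat_lit 234, nat_lit 338, nat_lit 234, nat_lit 364]))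
noncomputable def r60 : WT := (.node (nat_lit 60) (.node (nat_lit 57) (.node (nat_lit 55) (.leaf (nat_lit 35843) [nat_lit 156, nat_lit 130, nat_lit 208, nat_lit 182, nat_lit 208, nat_lit 182, nat_lit 156]) (.node (nat_lit 56) (.leaf (nat_lit 64517) [nat_lit 156, nat_lit 130, nat_lit 234, nat_lit 390, nat_lit 130, nat_lit 416, nat_lit 130, nat_lit 156]) (.leaf (nat_lit 78858) [nat_lit 156, nat_lit 130, nat_lit 442, nat_lit 208, nat_lit 468, nat_lit 234, nat_lit 208]))) (.node (nat_lit 58) (.leaf (nat_lit 35847) [nat_lit 208, nat_lit 182, nat_lit 208, nat_lit 182, nat_lit 156, nat_lit 130, nat_lit 156]) (.node (nat_lit 59) (.leaf (nat_lit 67598) [nat_lit 156, nat_lit 130, nat_lit 390, nat_lit 208, nat_lit 416, nat_lit 260, nat_lit 156, nat_lit 78, nat_lit 156]) (.leaf (nat_lit 63489) [nat_lit 156, nat_lit 130, nat_lit 156, nat_lit 104, nat_lit 208, nat_lit 234, nat_lit 390, nat_lit 104, nat_lit 416])))) (.node (nat_lit 65) (.node (nat_lit 62) (.node (nat_lit 61) (.leaf (nat_lit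 57356) [nat_lit 156, nat_lit 130, nat_lit 338, nat_lit 234, nat_lit 364, nat_lit 234, nat_lit 182, nat_lit 156]) (.leaf (nat_lit 66565) [nat_lit 156, nat_lit 78, nat_lit 130, nat_lit 182, nat_lit 390, nat_lit 182, nat_lit 416, nat_lit 130, nat_lit 156])) (.node (nat_lit 63) (.leaf (nat_lit 53253) [nat_lit 156, nat_lit 130, nat_lit 234, nat_lit 338, nat_lit 130, nat_lit 364, nat_lit 130, nat_lit 156]) r58)) (.node (nat_lit 67) (.node (nat_lit 66) (.leaf (nat_lit 45061) [nat_lit 156, nat_lit 130, nat_lit 234, nat_lit 286, nat_lit 130, nat_lit 312, nat_lit 130, nat_lit 156]) (.leaf (nat_lit 69652) [nat_lit 390, nat_lit 260, nat_lit 416, nat_lit 260, nat_lit 208, nat_lit 156, nat_lit 78, nat_lit 156, nat_lit 130, nat_lit 156])) (.node (nat_lit 68) (.leaf (nat_lit 49166) [nat_lit 156, nat_lit 130, nat_lit 286, nat_lit 234, nat_lit 312, nat_lit 234, nat_lit 182, nat_lit 130, nat_lit 156]) r59))))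
noncomputable def r61 : WT := (.node (nat_lit 35) (.node (nat_lit 30) (.node (nat_lit 28) (.node (nat_lit 27) (.leaf (nat_lit 64527) [nat_lit 416, nat_lit 130, nat_lit 156, nat_lit 130, nat_lit 156, nat_lit 130, nat_lit 234, nat_lit 390]) (.leaf (nat_lit 105475) [nat_lit 156, nat_lit 130, nat_lit 52, nat_lit 78, nat_lit 52, nat_lit 156])) (.node (nat_lit 29) (.leaf (nat_lit 105479) [nat_lit 52, nat_lit 78, nat_lit 52, nat_lit 156, nat_lit 130, nat_lit 156]) (.leaf (nat_lit 53263) [nat_lit 364, nat_lit 130, nat_lit 156, nat_lit 130, nat_lit 156, nat_lit 130, nat_lit 234, nat_lit 338]))) (.node (nat_lit 32) (.node (nat_lit 31) (.leaf (nat_lit 109582) [nat_lit 52, nat_lit 390, nat_lit 52, nat_lit 130, nat_lit 156, nat_lit 312, nat_lit 156]) (.leaf (nat_lit 14344) [nat_lit 156, nat_lit 130, nat_lit 156, nat_lit 78, nat_lit 104, nat_lit 78, nat_lit 104])) (.node (nat_lit 33) (.leaf (nat_lit 40968) [nat_lit 156, nat_lit 130, nat_lit 156, nat_lit 234, nat_lit 260, nat_lit 234, nat_lit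 260]) r50))) (.node (nat_lit 42) (.node (nat_lit 38) (.node (nat_lit 36) (.leaf (nat_lit 40972) [nat_lit 156, nat_lit 234, nat_lit 260, nat_lit 234, nat_lit 260, nat_lit 130, nat_lit 156]) r51) (.node (nat_lit 40) r52 r53)) (.node (nat_lit 48) (.node (nat_lit 45) r54 r55) (.node (nat_lit 54) r57 r60))))
noncomputable def w3 : WT := (.node (nat_lit 4) (.node (nat_lit 1) (.leaf (nat_lit 3072) [nat_lit 130]) (.node (nat_lit 2) (.leaf (nat_lit 30720) [nat_lit 260, nat_lit 130, nat_lit 260]) (.node (nat_lit 3) (.leaf (nat_lit 28672) [nat_lit 208, nat_lit 130, nat_lit 208]) (.leaf (nat_lit 21506) [nat_lit 104, nat_lit 130, nat_lit 104])))) (.node (nat_lit 10) (.node (nat_lit 6) (.node (nat_lit 5) (.leaf (nat_lit 64514) [nat_lit 416, nat_lit 234, nat_lit 130, nat_lit 156, nat_lit 130, nat_lit 156, nat_lit 130, nat_lit 390]) (.leaf (nat_lit 45058) [nat_lit 312, nat_lit 234, nat_lit 130, nat_lit 156, nat_lit 130, nat_lit 156, nat_lit 130, nat_lit 286])) (.node (nat_lit 8) r44 r45)) (.node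 (nat_lit 17) (.node (nat_lit 13) r46 r48) (.node (nat_lit 26) r49 r61))))
noncomputable def r62 : WT := (.node (nat_lit 4) (.leaf (nat_lit 54274) [nat_lit 364, nat_lit 156, nat_lit 338]) (.leaf (nat_lit 54278) [nat_lit 338, nat_lit 156, nat_lit 364]))
noncomputable def r63 : WT := (.node (nat_lit 6) (.leaf (nat_lit 65538) [nat_lit 416, nat_lit 208, nat_lit 156, nat_lit 390]) (.leaf (nat_lit 46082) [nat_lit 312, nat_lit 208, nat_lit 156, nat_lit 286]))
noncomputable def r64 : WT := (.node (nat_lit 8) (.leaf (nat_lit 22530) [nat_lit 104, nat_lit 156, nat_lit 104]) (.node (nat_lit 9) (.leaf (nat_lit 33792) [nat_lit 234, nat_lit 156, nat_lit 234]) (.leaf (nat_lit 31744) [nat_lit 182, nat_lit 156, nat_lit 182])))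
noncomputable def r65 : WT := (.node (nat_lit 12) (.node (nat_lit 11) (.leaf (nat_lit 65537) [nat_lit 208, nat_lit 390, nat_lit 156, nat_lit 416]) (.leaf (nat_lit 91142) [nat_lit 494, nat_lit 104, nat_lit 520])) (.node (nat_lit 13) (.leaf (nat_lit 76802) [nat_lit 468, nat_lit 208, nat_lit 156, nat_lit 130, nat_lit 156, nat_lit 130, nat_lit 442]) (.node (nat_lit 14) (.leaf (nat_lit 105480) [nat_lit 130, nat_lit 156, nat_lit 52, nat_lit 78, nat_lit 52, nat_lit 130]) (.leaf (nat_lit 46081) [nat_lit 208, nat_lit 286, nat_lit 156, nat_lit 312]))))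
noncomputable def r66 : WT := (.leaf (nat_lit 111618) [nat_lit 52, nat_lit 286, nat_lit 286, nat_lit 286, nat_lit 286, nat_lit 416, nat_lit 312, nat_lit 312, nat_lit 416, nat_lit 286, nat_lit 286, nat_lit 286, nat_lit 416, nat_lit 312, nat_lit 312, nat_lit 52])
noncomputable def r67 : WT := (.node (nat_lit 19) (.node (nat_lit 17) (.node (nat_lit 16) (.leaf (nat_lit 93186) [nat_lit 520, nat_lit 156, nat_lit 104, nat_lit 494]) (.leaf (nat_lit 14346) [nat_lit 130, nat_lit 156, nat_lit 78, nat_lit 104, nat_lit 78, nat_lit 104, nat_lit 130])) (.node (nat_lit 18) (.leaf (nat_lit 16386) [nat_lit 78, nat_lit 156, nat_lit 78]) (.leaf (nat_lit 46088) [nat_lit 286, nat_lit 156, nat_lit 312, nat_lit 208]))) (.node (nat_lit 21) (.node (nat_lit 20) r66 (.leaf (nat_lit 48136) [nat_lit 286, nat_lit 208, nat_lit 312, nat_lit 260])) (.node (nat_lit 22) (.leaf (nat_lit 35850) [nat_lit 130, nat_lit 156, nat_lit 182, nat_lit 208, nat_lit 182, nat_lit 208, nat_lit 130]) (.node (nat_lit 23) (.leaf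 (nat_lit 48129) [nat_lit 260, nat_lit 286, nat_lit 208, nat_lit 312]) (.leaf (nat_lit 105484) [nat_lit 52, nat_lit 78, nat_lit 52, nat_lit 130, nat_lit 156, nat_lit 130])))))
noncomputable def r68 : WT := (.node (nat_lit 32) (.leaf (nat_lit 14350) [nat_lit 78, nat_lit 104, nat_lit 78, nat_lit 104, nat_lit 130, nat_lit 156, nat_lit 130]) (.leaf (nat_lit 109580) [nat_lit 130, nat_lit 52, nat_lit 390, nat_lit 52, nat_lit 130, nat_lit 156, nat_lit 312]))
noncomputable def r69 : WT := (.node (nat_lit 34) (.leaf (nat_lit 35854) [nat_lit 182, nat_lit 208, nat_lit 182, nat_lit 208, nat_lit 130, nat_lit 156, nat_lit 130]) (.leaf (nat_lit 53262) [nat_lit 130, nat_lit 338, nat_lit 130, nat_lit 364, nat_lit 234, nat_lit 130, nat_lit 156, nat_lit 130]))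
noncomputable def r70 : WT := (.node (nat_lit 36) (.leaf (nat_lit 76813) [nat_lit 468, nat_lit 130, nat_lit 156, nat_lit 130, nat_lit 156, nat_lit 208, nat_lit 442]) (.leaf (nat_lit 109575) [nat_lit 130, nat_lit 52, nat_lit 416, nat_lit 52, nat_lit 130, nat_lit 156, nat_lit 286]))
noncomputable def r71 : WT := (.node (nat_lit 38) (.leaf (nat_lit 93190) [nat_lit 104, nat_lit 494, nat_lit 156, nat_lit 520]) (.leaf (nat_lit 109576) [nat_lit 312, nat_lit 156, nat_lit 130, nat_lit 52, nat_lit 390, nat_lit 52, nat_lit 130]))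
noncomputable def r72 : WT := (.node (nat_lit 40) (.leaf (nat_lit 40970) [nat_lit 130, nat_lit 156, nat_lit 234, nat_lit 260, nat_lit 234, nat_lit 260, nat_lit 130]) (.leaf (nat_lit 46087) [nat_lit 312, nat_lit 156, nat_lit 208, nat_lit 286]))
noncomputable def r73 : WT := (.node (nat_lit 42) (.leaf (nat_lit 93191) [nat_lit 520, nat_lit 104, nat_lit 156, nat_lit 494]) (.node (nat_lit 43) (.leaf (nat_lit 109571) [nat_lit 286, nat_lit 156, nat_lit 130, nat_lit 52, nat_lit 416, nat_lit 52, nat_lit 130]) (.leaf (nat_lit 14341) [nat_lit 130, nat_lit 104, nat_lit 78, nat_lit 104, nat_lit 78, nat_lit 156, nat_lit 130])))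
noncomputable def r74 : WT := (.node (nat_lit 46) (.node (nat_lit 45) (.leaf (nat_lit 64519) [nat_lit 130, nat_lit 234, nat_lit 390, nat_lit 130, nat_lit 416, nat_lit 130, nat_lit 156, nat_lit 130]) (.leaf (nat_lit 45070) [nat_lit 130, nat_lit 286, nat_lit 130, nat_lit 312, nat_lit 234, nat_lit 130, nat_lit 156, nat_lit 130])) (.node (nat_lit 47) (.leaf (nat_lit 50186) [nat_lit 286, nat_lit 260, nat_lit 312, nat_lit 260, nat_lit 208]) (.leaf (nat_lit 78860) [nat_lit 130, nat_lit 442, nat_lit 208, nat_lit 468, nat_lit 234, nat_lit 208, nat_lit 130])))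
noncomputable def r75 : WT := (.node (nat_lit 51) (.node (nat_lit 49) (.leaf (nat_lit 45063) [nat_lit 130, nat_lit 234, nat_lit 286, nat_lit 130, nat_lit 312, nat_lit 130, nat_lit 156, nat_lit 130]) (.node (nat_lit 50) (.leaf (nat_lit 35845) [nat_lit 130, nat_lit 208, nat_lit 182, nat_lit 208, nat_lit 182, nat_lit 156, nat_lit 130]) (.leaf (nat_lit 50177) [nat_lit 208, nat_lit 260, nat_lit 286, nat_lit 260, nat_lit 312]))) (.node (nat_lit 53) (.node (nat_lit 52) (.leaf (nat_lit 40965) [nat_lit 130, nat_lit 260, nat_lit 234, nat_lit 260, nat_lit 234, nat_lit 156, nat_lit 130]) (.leaf (nat_lit 80906) [nat_lit 130, nat_lit 442, nat_lit 260, nat_lit 468, nat_lit 260, nat_lit 234])) (.node (nat_lit 54) (.leaf (nat_lit 53258) [nat_lit 130, nat_lit 156, nat_lit 130, nat_lit 338, nat_lit 130, nat_lit 364, nat_lit 234, nat_lit 130]) (.leaf (nat_lit 40974) [nat_lit 234, nat_lit 260, nat_lit 234, nat_lit 260, nat_lit 130, nat_lit 156, nat_lit 130]))))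
noncomputable def r76 : WT := (.leaf (nat_lit 111647) [nat_lit 52, nat_lit 286, nat_lit 286, nat_lit 390, nat_lit 312, nat_lit 312, nat_lit 312, nat_lit 390, nat_lit 286, nat_lit 286, nat_lit 390, nat_lit 312, nat_lit 312, nat_lit 312, nat_lit 312, nat_lit 52])
noncomputable def r77 : WT := (.node (nat_lit 64) (.leaf (nat_lit 63491) [nat_lit 130, nat_lit 156, nat_lit 104, nat_lit 208, nat_lit 234, nat_lit 390, nat_lit 104, nat_lit 416, nat_lit 130]) (.leaf (nat_lit 67587) [nat_lit 130, nat_lit 156, nat_lit 78, nat_lit 156, nat_lit 260, nat_lit 390, nat_lit 208, nat_lit 416, nat_lit 130]))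
noncomputable def r78 : WT := (.leaf (nat_lit 101402) [nat_lit 364, nat_lit 416, nat_lit 286, nat_lit 494, nat_lit 312, nat_lit 390, nat_lit 338, nat_lit 156, nat_lit 390, nat_lit 312, nat_lit 494, nat_lit 286, nat_lit 416])
noncomputable def r79 : WT := (.leaf (nat_lit 101377) [nat_lit 390, nat_lit 312, nat_lit 520, nat_lit 286, nat_lit 416, nat_lit 156, nat_lit 364, nat_lit 416, nat_lit 286, nat_lit 520, nat_lit 312, nat_lit 390, nat_lit 338])
noncomputable def r80 : WT := (.node (nat_lit 66) r78 r79)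
noncomputable def r81 : WT := (.node (nat_lit 68) (.leaf (nat_lit 49168) [nat_lit 130, nat_lit 286, nat_lit 234, nat_lit 312, nat_lit 234, nat_lit 182, nat_lit 130, nat_lit 156, nat_lit 130]) (.leaf (nat_lit 77831) [nat_lit 130, nat_lit 234, nat_lit 442, nat_lit 182, nat_lit 468, nat_lit 130, nat_lit 156, nat_lit 130]))
noncomputable def r82 : WT := (.node (nat_lit 71) (.leaf (nat_lit 57351) [nat_lit 182, nat_lit 234, nat_lit 338, nat_lit 234, nat_lit 364, nat_lit 130, nat_lit 156, nat_lit 130]) (.leaf (nat_lit 57347) [nat_lit 130, nat_lit 156, nat_lit 182, nat_lit 234, nat_lit 338, nat_lit 234, nat_lit 364, nat_lit 130]))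
noncomputable def r83 : WT := (.node (nat_lit 73) (.leaf (nat_lit 53255) [nat_lit 130, nat_lit 234, nat_lit 338, nat_lit 130, nat_lit 364, nat_lit 130, nat_lit 156, nat_lit 130]) (.leaf (nat_lit 40961) [nat_lit 130, nat_lit 156, nat_lit 130, nat_lit 260, nat_lit 234, nat_lit 260, nat_lit 234]))
noncomputable def r84 : WT := (.node (nat_lit 75) (.leaf (nat_lit 45066) [nat_lit 130, nat_lit 156, nat_lit 130, nat_lit 286, nat_lit 130, nat_lit 312, nat_lit 234, nat_lit 130]) (.leaf (nat_lit 76808) [nat_lit 130, nat_lit 156, nat_lit 130, nat_lit 442, nat_lit 156, nat_lit 468, nat_lit 208]))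
noncomputable def r85 : WT := (.node (nat_lit 62) (.node (nat_lit 58) (.node (nat_lit 56) (.leaf (nat_lit 76807) [nat_lit 208, nat_lit 442, nat_lit 156, nat_lit 468, nat_lit 130, nat_lit 156, nat_lit 130]) (.node (nat_lit 57) r76 (.leaf (nat_lit 53251) [nat_lit 130, nat_lit 156, nat_lit 130, nat_lit 234, nat_lit 338, nat_lit 130, nat_lit 364, nat_lit 130]))) (.node (nat_lit 60) (.node (nat_lit 59) (.leaf (nat_lit 67600) [nat_lit 130, nat_lit 390, nat_lit 208, nat_lit 416, nat_lit 260, nat_lit 156, nat_lit 78, nat_lit 156, nat_lit 130]) (.leaf (nat_lit 64522) [nat_lit 130, nat_lit 156, nat_lit 130, nat_lit 390, nat_lit 130, nat_lit 416, nat_lit 234, nat_lit 130])) (.node (nat_lit 61) (.leaf (nat_lit 66576) [nat_lit 130, nat_lit 390, nat_lit 182, nat_lit 416, nat_lit 182, nat_lit 130, nat_lit 78, nat_lit 156, nat_lit 130]) (.leaf (nat_lit 49155) [nat_lit 130, nat_lit 156, nat_lit 130, nat_lit 182, nat_lit 234, nat_lit 286, nat_lit 234, nat_lit 312, nat_lit 130])))) (.node (nat_lit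 69) (.node (nat_lit 65) (.node (nat_lit 63) (.leaf (nat_lit 64515) [nat_lit 130, nat_lit 156, nat_lit 130, nat_lit 234, nat_lit 390, nat_lit 130, nat_lit 416, nat_lit 130]) r77) (.node (nat_lit 67) r80 r81)) (.node (nat_lit 72) (.node (nat_lit 70) (.leaf (nat_lit 64526) [nat_lit 130, nat_lit 390, nat_lit 130, nat_lit 416, nat_lit 234, nat_lit 130, nat_lit 156, nat_lit 130]) r82) (.node (nat_lit 74) r83 r84))))
noncomputable def r86 : WT := (.node (nat_lit 33) (.node (nat_lit 28) (.node (nat_lit 26) (.node (nat_lit 25) (.leaf (nat_lit 56330) [nat_lit 338, nat_lit 208, nat_lit 364, nat_lit 260, nat_lit 208]) (.leaf (nat_lit 80899) [nat_lit 234, nat_lit 260, nat_lit 442, nat_lit 260, nat_lit 468, nat_lit 130])) (.node (nat_lit 27) (.leaf (nat_lit 105477) [nat_lit 130, nat_lit 52, nat_lit 78, nat_lit 52, nat_lit 156, nat_lit 130]) (.leaf (nat_lit 65543) [nat_lit 416, nat_lit 156, nat_lit 208, nat_lit 390]))) (.node (nat_lit 30) (.node (nat_lit 29) (.leaf (nat_lit 56321) [nat_lit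 208, nat_lit 260, nat_lit 338, nat_lit 208, nat_lit 364]) (.leaf (nat_lit 65544) [nat_lit 390, nat_lit 156, nat_lit 416, nat_lit 208])) (.node (nat_lit 31) (.leaf (nat_lit 93187) [nat_lit 494, nat_lit 156, nat_lit 520, nat_lit 104]) r68))) (.node (nat_lit 41) (.node (nat_lit 37) (.node (nat_lit 35) r69 r70) (.node (nat_lit 39) r71 r72)) (.node (nat_lit 48) (.node (nat_lit 44) r73 r74) (.node (nat_lit 55) r75 r85))))
noncomputable def w4 : WT := (.node (nat_lit 1) (.leaf (nat_lit 4096) [nat_lit 156]) (.node (nat_lit 7) (.node (nat_lit 3) (.node (nat_lit 2) (.leaf (nat_lit 34816) [nat_lit 260, nat_lit 156, nat_lit 260]) (.leaf (nat_lit 32768) [nat_lit 208, nat_lit 156, nat_lit 208])) (.node (nat_lit 5) r62 r63)) (.node (nat_lit 15) (.node (nat_lit 10) r64 r65) (.node (nat_lit 24) r67 r86))))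
noncomputable def r87 : WT := (.node (nat_lit 8) (.leaf (nat_lit 35844) [nat_lit 208, nat_lit 130, nat_lit 156, nat_lit 130, nat_lit 156, nat_lit 182, nat_lit 208]) (.leaf (nat_lit 27650) [nat_lit 130, nat_lit 182, nat_lit 130]))
noncomputable def r88 : WT := (.node (nat_lit 10) (.leaf (nat_lit 94214) [nat_lit 494, nat_lit 182, nat_lit 520]) (.leaf (nat_lit 36864) [nat_lit 234, nat_lit 182, nat_lit 234]))
noncomputable def r89 : WT := (.node (nat_lit 12) (.leaf (nat_lit 47107) [nat_lit 286, nat_lit 182, nat_lit 312, nat_lit 130]) (.leaf (nat_lit 77826) [nat_lit 468, nat_lit 234, nat_lit 130, nat_lit 156, nat_lit 130, nat_lit 156, nat_lit 130, nat_lit 442]))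
noncomputable def r90 : WT := (.leaf (nat_lit 112642) [nat_lit 52, nat_lit 312, nat_lit 416, nat_lit 286, nat_lit 286, nat_lit 416, nat_lit 286, nat_lit 286, nat_lit 286, nat_lit 416, nat_lit 312, nat_lit 52])
noncomputable def r91 : WT := (.node (nat_lit 15) (.node (nat_lit 14) (.leaf (nat_lit 94210) [nat_lit 520, nat_lit 182, nat_lit 494]) (.leaf (nat_lit 47110) [nat_lit 130, nat_lit 286, nat_lit 182, nat_lit 312])) (.node (nat_lit 16) r90 (.node (nat_lit 17) (.leaf (nat_lit 35840) [nat_lit 208, nat_lit 182, nat_lit 208, nat_lit 130, nat_lit 156, nat_lit 130, nat_lit 156]) (.leaf (nat_lit 66566) [nat_lit 130, nat_lit 78, nat_lit 156, nat_lit 130, nat_lit 156, nat_lit 130, nat_lit 390, nat_lit 182, nat_lit 416]))))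
noncomputable def r92 : WT := (.leaf (nat_lit 112663) [nat_lit 52, nat_lit 286, nat_lit 390, nat_lit 312, nat_lit 312, nat_lit 312, nat_lit 390, nat_lit 312, nat_lit 312, nat_lit 390, nat_lit 286, nat_lit 52])
noncomputable def r93 : WT := (.node (nat_lit 28) (.leaf (nat_lit 47111) [nat_lit 312, nat_lit 130, nat_lit 182, nat_lit 286]) (.node (nat_lit 29) r92 (.leaf (nat_lit 35855) [nat_lit 156, nat_lit 130, nat_lit 156, nat_lit 130, nat_lit 208, nat_lit 182, nat_lit 208])))
noncomputable def r94 : WT := (.node (nat_lit 31) (.leaf (nat_lit 77839) [nat_lit 468, nat_lit 130, nat_lit 156, nat_lit 130, nat_lit 156, nat_lit 130, nat_lit 234, nat_lit 442]) (.node (nat_lit 32) (.leaf (nat_lit 92168) [nat_lit 78, nat_lit 494, nat_lit 130, nat_lit 520, nat_lit 234]) (.leaf (nat_lit 75787) [nat_lit 234, nat_lit 442, nat_lit 130, nat_lit 468, nat_lit 130, nat_lit 156, nat_lit 130, nat_lit 156, nat_lit 130])))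
noncomputable def r95 : WT := (.node (nat_lit 35) (.node (nat_lit 34) (.leaf (nat_lit 66573) [nat_lit 390, nat_lit 182, nat_lit 416, nat_lit 130, nat_lit 156, nat_lit 130, nat_lit 156, nat_lit 78, nat_lit 130]) (.leaf (nat_lit 57353) [nat_lit 234, nat_lit 338, nat_lit 234, nat_lit 364, nat_lit 130, nat_lit 156, nat_lit 130, nat_lit 156])) (.node (nat_lit 36) (.leaf (nat_lit 90120) [nat_lit 130, nat_lit 78, nat_lit 494, nat_lit 78, nat_lit 520, nat_lit 234]) (.node (nat_lit 37) (.leaf (nat_lit 35851) [nat_lit 208, nat_lit 182, nat_lit 156, nat_lit 130, nat_lit 156, nat_lit 130, nat_lit 208]) (.leaf (nat_lit 49163) [nat_lit 234, nat_lit 286, nat_lit 234, nat_lit 312, nat_lit 130, nat_lit 156, nat_lit 130, nat_lit 156, nat_lit 130]))))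
noncomputable def r96 : WT := (.node (nat_lit 23) (.node (nat_lit 20) (.node (nat_lit 19) (.leaf (nat_lit 17410) [nat_lit 78, nat_lit 182, nat_lit 78]) (.leaf (nat_lit 90117) [nat_lit 234, nat_lit 494, nat_lit 78, nat_lit 520, nat_lit 78, nat_lit 130])) (.node (nat_lit 21) (.leaf (nat_lit 66577) [nat_lit 416, nat_lit 130, nat_lit 156, nat_lit 130, nat_lit 156, nat_lit 78, nat_lit 130, nat_lit 182, nat_lit 390]) (.node (nat_lit 22) (.leaf (nat_lit 68613) [nat_lit 234, nat_lit 390, nat_lit 234, nat_lit 416, nat_lit 78, nat_lit 130]) (.leaf (nat_lit 68616) [nat_lit 130, nat_lit 78, nat_lit 390, nat_lit 234, nat_lit 416, nat_lit 234])))) (.node (nat_lit 26) (.node (nat_lit 24) (.leaf (nat_lit 92163) [nat_lit 234, nat_lit 494, nat_lit 130, nat_lit 520, nat_lit 78]) (.node (nat_lit 25) (.leaf (nat_lit 75784) [nat_lit 130, nat_lit 156, nat_lit 130, nat_lit 156, nat_lit 130, nat_lit 442, nat_lit 130, nat_lit 468, nat_lit 234]) (.leaf (nat_lit 57352) [nat_lit 156, nat_lit 130, nat_lit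 156, nat_lit 130, nat_lit 338, nat_lit 234, nat_lit 364, nat_lit 234]))) (.node (nat_lit 30) (.node (nat_lit 27) (.leaf (nat_lit 49160) [nat_lit 130, nat_lit 156, nat_lit 130, nat_lit 156, nat_lit 130, nat_lit 286, nat_lit 234, nat_lit 312, nat_lit 234]) r93) (.node (nat_lit 33) r94 r95))))
noncomputable def w5 : WT := (.node (nat_lit 4) (.node (nat_lit 1) (.leaf (nat_lit 5120) [nat_lit 182]) (.node (nat_lit 2) (.leaf (nat_lit 55298) [nat_lit 364, nat_lit 234, nat_lit 338]) (.node (nat_lit 3) (.leaf (nat_lit 47106) [nat_lit 312, nat_lit 182, nat_lit 130, nat_lit 286]) (.leaf (nat_lit 37888) [nat_lit 260, nat_lit 182, nat_lit 260])))) (.node (nat_lit 9) (.node (nat_lit 6) (.node (nat_lit 5) (.leaf (nat_lit 31746) [nat_lit 156, nat_lit 182, nat_lit 156]) (.leaf (nat_lit 66562) [nat_lit 416, nat_lit 182, nat_lit 130, nat_lit 78, nat_lit 156, nat_lit 130, nat_lit 156, nat_lit 130, nat_lit 390])) (.node (nat_lit 7) (.leaf (nat_lit 23554) [nat_lit 104, nat_lit 182, nat_lit 104]) r87))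 (.node (nat_lit 13) (.node (nat_lit 11) r88 r89) (.node (nat_lit 18) r91 r96))))
noncomputable def r97 : WT := (.node (nat_lit 3) (.leaf (nat_lit 58374) [nat_lit 338, nat_lit 260, nat_lit 364]) (.leaf (nat_lit 32770) [nat_lit 156, nat_lit 208, nat_lit 156]))
noncomputable def r98 : WT := (.node (nat_lit 6) (.leaf (nat_lit 24578) [nat_lit 104, nat_lit 208, nat_lit 104]) (.leaf (nat_lit 28674) [nat_lit 130, nat_lit 208, nat_lit 130]))
noncomputable def r99 : WT := (.node (nat_lit 8) (.leaf (nat_lit 67586) [nat_lit 416, nat_lit 260, nat_lit 156, nat_lit 78, nat_lit 156, nat_lit 130, nat_lit 156, nat_lit 130, nat_lit 390]) (.leaf (nat_lit 48130) [nat_lit 312, nat_lit 260, nat_lit 156, nat_lit 286]))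
noncomputable def r100 : WT := (.node (nat_lit 11) (.node (nat_lit 10) (.leaf (nat_lit 38912) [nat_lit 234, nat_lit 208, nat_lit 234]) (.leaf (nat_lit 46083) [nat_lit 286, nat_lit 156, nat_lit 312, nat_lit 156])) (.node (nat_lit 12) (.leaf (nat_lit 78850) [nat_lit 468, nat_lit 234, nat_lit 208, nat_lit 130, nat_lit 156, nat_lit 130, nat_lit 442]) (.leaf (nat_lit 95234) [nat_lit 520, nat_lit 208, nat_lit 104, nat_lit 494])))
noncomputable def r101 : WT := (.node (nat_lit 15) (.node (nat_lit 14) (.leaf (nat_lit 35842) [nat_lit 182, nat_lit 208, nat_lit 130, nat_lit 156, nat_lit 130, nat_lit 156, nat_lit 182]) (.leaf (nat_lit 46086) [nat_lit 156, nat_lit 286, nat_lit 156, nat_lit 312])) (.node (nat_lit 17) (.node (nat_lit 16) (.leaf (nat_lit 65542) [nat_lit 156, nat_lit 390, nat_lit 156, nat_lit 416]) (.leaf (nat_lit 65539) [nat_lit 390, nat_lit 156, nat_lit 416, nat_lit 156])) (.node (nat_lit 18) (.leaf (nat_lit 95238) [nat_lit 104, nat_lit 494, nat_lit 208, nat_lit 520]) (.leaf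 (nat_lit 35846) [nat_lit 130, nat_lit 156, nat_lit 130, nat_lit 156, nat_lit 182, nat_lit 208, nat_lit 182]))))
noncomputable def r102 : WT := (.leaf (nat_lit 113666) [nat_lit 52, nat_lit 312, nat_lit 416, nat_lit 286, nat_lit 286, nat_lit 286, nat_lit 286, nat_lit 286, nat_lit 286, nat_lit 416, nat_lit 312, nat_lit 312, nat_lit 312, nat_lit 416, nat_lit 286, nat_lit 52])
noncomputable def r103 : WT := (.node (nat_lit 29) (.leaf (nat_lit 95235) [nat_lit 494, nat_lit 208, nat_lit 520, nat_lit 104]) (.leaf (nat_lit 78861) [nat_lit 468, nat_lit 130, nat_lit 156, nat_lit 130, nat_lit 208, nat_lit 234, nat_lit 442]))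
noncomputable def r104 : WT := (.node (nat_lit 31) (.leaf (nat_lit 50179) [nat_lit 260, nat_lit 286, nat_lit 260, nat_lit 312, nat_lit 156]) (.leaf (nat_lit 63499) [nat_lit 234, nat_lit 390, nat_lit 104, nat_lit 416, nat_lit 130, nat_lit 156, nat_lit 130, nat_lit 156, nat_lit 104]))
noncomputable def r105 : WT := (.node (nat_lit 33) (.leaf (nat_lit 56323) [nat_lit 260, nat_lit 338, nat_lit 208, nat_lit 364, nat_lit 156]) (.node (nat_lit 34) (.leaf (nat_lit 63496) [nat_lit 104, nat_lit 156, nat_lit 130, nat_lit 156, nat_lit 130, nat_lit 390, nat_lit 104, nat_lit 416, nat_lit 234]) (.leaf (nat_lit 78856) [nat_lit 130, nat_lit 156, nat_lit 130, nat_lit 442, nat_lit 208, nat_lit 468, nat_lit 234])))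
noncomputable def r106 : WT := (.leaf (nat_lit 113695) [nat_lit 52, nat_lit 312, nat_lit 390, nat_lit 286, nat_lit 286, nat_lit 286, nat_lit 390, nat_lit 312, nat_lit 312, nat_lit 312, nat_lit 312, nat_lit 312, nat_lit 312, nat_lit 390, nat_lit 286, nat_lit 52])
noncomputable def r107 : WT := (.node (nat_lit 37) (.node (nat_lit 36) (.leaf (nat_lit 78855) [nat_lit 234, nat_lit 442, nat_lit 208, nat_lit 468, nat_lit 130, nat_lit 156, nat_lit 130]) r106) (.node (nat_lit 39) (.node (nat_lit 38) (.leaf (nat_lit 69640) [nat_lit 156, nat_lit 78, nat_lit 156, nat_lit 130, nat_lit 156, nat_lit 130, nat_lit 390, nat_lit 260, nat_lit 416, nat_lit 260]) (.leaf (nat_lit 69645) [nat_lit 260, nat_lit 390, nat_lit 260, nat_lit 416, nat_lit 130, nat_lit 156, nat_lit 130, nat_lit 156, nat_lit 78, nat_lit 156])) (.node (nat_lit 40) (.leaf (nat_lit 76809) [nat_lit 442, nat_lit 156, nat_lit 468, nat_lit 130, nat_lit 156, nat_lit 130, nat_lit 156]) (.node (nat_lit 41) (.leaf (nat_lit 35853) [nat_lit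 182, nat_lit 156, nat_lit 130, nat_lit 156, nat_lit 130, nat_lit 208, nat_lit 182]) (.leaf (nat_lit 35849) [nat_lit 182, nat_lit 208, nat_lit 182, nat_lit 156, nat_lit 130, nat_lit 156, nat_lit 130])))))
noncomputable def r108 : WT := (.node (nat_lit 24) (.node (nat_lit 21) (.node (nat_lit 20) (.leaf (nat_lit 76806) [nat_lit 156, nat_lit 130, nat_lit 156, nat_lit 130, nat_lit 442, nat_lit 156, nat_lit 468]) (.leaf (nat_lit 56329) [nat_lit 364, nat_lit 156, nat_lit 208, nat_lit 260, nat_lit 338])) (.node (nat_lit 22) (.leaf (nat_lit 67601) [nat_lit 416, nat_lit 130, nat_lit 156, nat_lit 130, nat_lit 156, nat_lit 78, nat_lit 156, nat_lit 260, nat_lit 390]) (.node (nat_lit 23) (.leaf (nat_lit 18434) [nat_lit 78, nat_lit 208, nat_lit 78]) r102))) (.node (nat_lit 28) (.node (nat_lit 26) (.node (nat_lit 25) (.leaf (nat_lit 56328) [nat_lit 156, nat_lit 338, nat_lit 208, nat_lit 364, nat_lit 260]) (.leaf (nat_lit 50184) [nat_lit 156, nat_lit 286, nat_lit 260, nat_lit 312, nat_lit 260]))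 (.node (nat_lit 27) (.leaf (nat_lit 95239) [nat_lit 520, nat_lit 104, nat_lit 208, nat_lit 494]) (.leaf (nat_lit 48135) [nat_lit 312, nat_lit 156, nat_lit 260, nat_lit 286]))) (.node (nat_lit 32) (.node (nat_lit 30) r103 r104) (.node (nat_lit 35) r105 r107))))
noncomputable def w6 : WT := (.node (nat_lit 1) (.leaf (nat_lit 6144) [nat_lit 208]) (.node (nat_lit 7) (.node (nat_lit 4) (.node (nat_lit 2) (.leaf (nat_lit 39936) [nat_lit 260, nat_lit 208, nat_lit 260]) r97) (.node (nat_lit 5) (.leaf (nat_lit 56322) [nat_lit 364, nat_lit 260, nat_lit 208, nat_lit 156, nat_lit 338]) r98)) (.node (nat_lit 13) (.node (nat_lit 9) r99 r100) (.node (nat_lit 19) r101 r108))))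
noncomputable def r109 : WT := (.node (nat_lit 6) (.leaf (nat_lit 25602) [nat_lit 104, nat_lit 234, nat_lit 104]) (.leaf (nat_lit 40964) [nat_lit 260, nat_lit 130, nat_lit 156, nat_lit 130, nat_lit 156, nat_lit 234, nat_lit 260]))
noncomputable def r110 : WT := (.node (nat_lit 9) (.leaf (nat_lit 29698) [nat_lit 130, nat_lit 234, nat_lit 130]) (.leaf (nat_lit 79878) [nat_lit 442, nat_lit 234, nat_lit 468]))
noncomputable def r111 : WT := (.node (nat_lit 11) (.leaf (nat_lit 79874) [nat_lit 468, nat_lit 234, nat_lit 442]) (.leaf (nat_lit 57346) [nat_lit 364, nat_lit 234, nat_lit 182, nat_lit 156, nat_lit 130, nat_lit 156, nat_lit 130, nat_lit 338]))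
noncomputable def r112 : WT := (.node (nat_lit 13) (.leaf (nat_lit 96258) [nat_lit 520, nat_lit 234, nat_lit 494]) (.leaf (nat_lit 96262) [nat_lit 494, nat_lit 234, nat_lit 520]))
noncomputable def r113 : WT := (.leaf (nat_lit 114690) [nat_lit 52, nat_lit 312, nat_lit 312, nat_lit 416, nat_lit 286, nat_lit 286, nat_lit 286, nat_lit 286, nat_lit 286, nat_lit 286, nat_lit 416, nat_lit 416, nat_lit 312, nat_lit 52])
noncomputable def r114 : WT := (.node (nat_lit 16) (.node (nat_lit 15) (.leaf (nat_lit 36866) [nat_lit 182, nat_lit 234, nat_lit 182]) (.leaf (nat_lit 68614) [nat_lit 182, nat_lit 130, nat_lit 78, nat_lit 390, nat_lit 234, nat_lit 416])) (.node (nat_lit 17) (.leaf (nat_lit 68615) [nat_lit 390, nat_lit 234, nat_lit 416, nat_lit 78, nat_lit 130, nat_lit 182]) (.node (nat_lit 18) (.leaf (nat_lit 19458) [nat_lit 78, nat_lit 234, nat_lit 78]) r113)))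
noncomputable def r115 : WT := (.node (nat_lit 27) (.leaf (nat_lit 49169) [nat_lit 312, nat_lit 130, nat_lit 156, nat_lit 130, nat_lit 156, nat_lit 130, nat_lit 182, nat_lit 234, nat_lit 286]) (.leaf (nat_lit 45067) [nat_lit 286, nat_lit 130, nat_lit 312, nat_lit 130, nat_lit 156, nat_lit 130, nat_lit 156, nat_lit 130]))
noncomputable def r116 : WT := (.node (nat_lit 29) (.leaf (nat_lit 63501) [nat_lit 390, nat_lit 104, nat_lit 416, nat_lit 130, nat_lit 156, nat_lit 130, nat_lit 156, nat_lit 104, nat_lit 208]) (.leaf (nat_lit 53254) [nat_lit 130, nat_lit 156, nat_lit 130, nat_lit 156, nat_lit 130, nat_lit 338, nat_lit 130, nat_lit 364]))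
noncomputable def r117 : WT := (.node (nat_lit 31) (.leaf (nat_lit 92166) [nat_lit 182, nat_lit 78, nat_lit 494, nat_lit 130, nat_lit 520]) (.node (nat_lit 32) (.leaf (nat_lit 57355) [nat_lit 338, nat_lit 234, nat_lit 364, nat_lit 130, nat_lit 156, nat_lit 130, nat_lit 156, nat_lit 182]) (.leaf (nat_lit 40971) [nat_lit 260, nat_lit 234, nat_lit 156, nat_lit 130, nat_lit 156, nat_lit 130, nat_lit 260])))
noncomputable def r118 : WT := (.node (nat_lit 34) (.leaf (nat_lit 57359) [nat_lit 364, nat_lit 130, nat_lit 156, nat_lit 130, nat_lit 156, nat_lit 182, nat_lit 234, nat_lit 338]) (.node (nat_lit 35) (.leaf (nat_lit 40975) [nat_lit 156, nat_lit 130, nat_lit 156, nat_lit 130, nat_lit 260, nat_lit 234, nat_lit 260]) (.leaf (nat_lit 90119) [nat_lit 494, nat_lit 78, nat_lit 520, nat_lit 78, nat_lit 130, nat_lit 182])))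
noncomputable def r119 : WT := (.leaf (nat_lit 114715) [nat_lit 52, nat_lit 286, nat_lit 390, nat_lit 390, nat_lit 312, nat_lit 312, nat_lit 312, nat_lit 312, nat_lit 312, nat_lit 312, nat_lit 390, nat_lit 286, nat_lit 286, nat_lit 52])
noncomputable def r120 : WT := (.node (nat_lit 38) (.node (nat_lit 37) (.leaf (nat_lit 80901) [nat_lit 260, nat_lit 442, nat_lit 260, nat_lit 468, nat_lit 130, nat_lit 156]) r119) (.node (nat_lit 39) (.leaf (nat_lit 53259) [nat_lit 338, nat_lit 130, nat_lit 364, nat_lit 130, nat_lit 156, nat_lit 130, nat_lit 156, nat_lit 130]) (.leaf (nat_lit 78857) [nat_lit 442, nat_lit 208, nat_lit 468, nat_lit 130, nat_lit 156, nat_lit 130, nat_lit 208])))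
noncomputable def r121 : WT := (.node (nat_lit 47) (.leaf (nat_lit 64523) [nat_lit 390, nat_lit 130, nat_lit 416, nat_lit 130, nat_lit 156, nat_lit 130, nat_lit 156, nat_lit 130]) (.leaf (nat_lit 77830) [nat_lit 130, nat_lit 156, nat_lit 130, nat_lit 156, nat_lit 130, nat_lit 442, nat_lit 182, nat_lit 468]))
noncomputable def r122 : WT := (.node (nat_lit 43) (.node (nat_lit 41) (.leaf (nat_lit 78854) [nat_lit 208, nat_lit 130, nat_lit 156, nat_lit 130, nat_lit 442, nat_lit 208, nat_lit 468]) (.node (nat_lit 42) (.leaf (nat_lit 49165) [nat_lit 286, nat_lit 234, nat_lit 312, nat_lit 130, nat_lit 156, nat_lit 130, nat_lit 156, nat_lit 130, nat_lit 182]) (.leaf (nat_lit 90118) [nat_lit 182, nat_lit 130, nat_lit 78, nat_lit 494, nat_lit 78, nat_lit 520]))) (.node (nat_lit 44) (.leaf (nat_lit 75789) [nat_lit 442, nat_lit 130, nat_lit 468, nat_lit 130, nat_lit 156, nat_lit 130, nat_lit 156, nat_lit 130, nat_lit 182]) (.node (nat_lit 45) (.leaf (nat_lit 49158) [nat_lit 182, nat_lit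 130, nat_lit 156, nat_lit 130, nat_lit 156, nat_lit 130, nat_lit 286, nat_lit 234, nat_lit 312]) (.node (nat_lit 46) (.leaf (nat_lit 57350) [nat_lit 182, nat_lit 156, nat_lit 130, nat_lit 156, nat_lit 130, nat_lit 338, nat_lit 234, nat_lit 364]) r121))))
noncomputable def r123 : WT := (.node (nat_lit 24) (.node (nat_lit 21) (.node (nat_lit 20) (.leaf (nat_lit 40960) [nat_lit 260, nat_lit 234, nat_lit 260, nat_lit 130, nat_lit 156, nat_lit 130, nat_lit 156]) (.leaf (nat_lit 45062) [nat_lit 130, nat_lit 156, nat_lit 130, nat_lit 156, nat_lit 130, nat_lit 286, nat_lit 130, nat_lit 312])) (.node (nat_lit 22) (.leaf (nat_lit 92165) [nat_lit 494, nat_lit 130, nat_lit 520, nat_lit 78, nat_lit 182]) (.node (nat_lit 23) (.leaf (nat_lit 80904) [nat_lit 156, nat_lit 130, nat_lit 442, nat_lit 260, nat_lit 468, nat_lit 260]) (.leaf (nat_lit 68619) [nat_lit 416, nat_lit 78, nat_lit 130, nat_lit 182, nat_lit 234, nat_lit 390])))) (.node (nat_lit 30) (.node (nat_lit 26) (.node (nat_lit 25)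 (.leaf (nat_lit 63494) [nat_lit 208, nat_lit 104, nat_lit 156, nat_lit 130, nat_lit 156, nat_lit 130, nat_lit 390, nat_lit 104, nat_lit 416]) (.leaf (nat_lit 64518) [nat_lit 130, nat_lit 156, nat_lit 130, nat_lit 156, nat_lit 130, nat_lit 390, nat_lit 130, nat_lit 416])) (.node (nat_lit 28) r115 r116)) (.node (nat_lit 36) (.node (nat_lit 33) r117 r118) (.node (nat_lit 40) r120 r122))))
noncomputable def w7 : WT := (.node (nat_lit 4) (.node (nat_lit 1) (.leaf (nat_lit 7168) [nat_lit 234]) (.node (nat_lit 2) (.leaf (nat_lit 38914) [nat_lit 208, nat_lit 234, nat_lit 208]) (.node (nat_lit 3) (.leaf (nat_lit 68610) [nat_lit 416, nat_lit 234, nat_lit 182, nat_lit 130, nat_lit 78, nat_lit 390]) (.leaf (nat_lit 55302) [nat_lit 338, nat_lit 182, nat_lit 364])))) (.node (nat_lit 10) (.node (nat_lit 7) (.node (nat_lit 5) (.leaf (nat_lit 33794) [nat_lit 156, nat_lit 234, nat_lit 156]) r109) (.node (nat_lit 8) (.leaf (nat_lit 49154) [nat_lit 312, nat_lit 234, nat_lit 182, nat_lit 130, nat_lit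 156, nat_lit 130, nat_lit 156, nat_lit 130, nat_lit 286]) r110)) (.node (nat_lit 14) (.node (nat_lit 12) r111 r112) (.node (nat_lit 19) r114 r123))))
noncomputable def r124 : WT := (.node (nat_lit 4) (.leaf (nat_lit 34818) [nat_lit 156, nat_lit 260, nat_lit 156]) (.leaf (nat_lit 30722) [nat_lit 130, nat_lit 260, nat_lit 130]))
noncomputable def r125 : WT := (.node (nat_lit 6) (.leaf (nat_lit 26626) [nat_lit 104, nat_lit 260, nat_lit 104]) (.leaf (nat_lit 69634) [nat_lit 416, nat_lit 260, nat_lit 208, nat_lit 156, nat_lit 78, nat_lit 156, nat_lit 130, nat_lit 156, nat_lit 130, nat_lit 390]))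
noncomputable def r126 : WT := (.node (nat_lit 8) (.leaf (nat_lit 50178) [nat_lit 312, nat_lit 260, nat_lit 208, nat_lit 156, nat_lit 286]) (.node (nat_lit 9) (.leaf (nat_lit 56326) [nat_lit 208, nat_lit 156, nat_lit 338, nat_lit 208, nat_lit 364]) (.leaf (nat_lit 48134) [nat_lit 156, nat_lit 286, nat_lit 208, nat_lit 312])))
noncomputable def r127 : WT := (.node (nat_lit 12) (.node (nat_lit 11) (.leaf (nat_lit 37890) [nat_lit 182, nat_lit 260, nat_lit 182]) (.leaf (nat_lit 48131) [nat_lit 286, nat_lit 208, nat_lit 312, nat_lit 156])) (.node (nat_lit 13) (.leaf (nat_lit 80898) [nat_lit 468, nat_lit 260, nat_lit 234, nat_lit 156, nat_lit 130, nat_lit 442]) (.leaf (nat_lit 67590) [nat_lit 156, nat_lit 78, nat_lit 156, nat_lit 130, nat_lit 156, nat_lit 130, nat_lit 390, nat_lit 208, nat_lit 416])))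
noncomputable def r128 : WT := (.leaf (nat_lit 115714) [nat_lit 52, nat_lit 286, nat_lit 286, nat_lit 416, nat_lit 312, nat_lit 312, nat_lit 416, nat_lit 286, nat_lit 286, nat_lit 286, nat_lit 416, nat_lit 52])
noncomputable def r129 : WT := (.node (nat_lit 17) (.node (nat_lit 15) (.leaf (nat_lit 50182) [nat_lit 208, nat_lit 156, nat_lit 286, nat_lit 260, nat_lit 312]) (.node (nat_lit 16) (.leaf (nat_lit 97282) [nat_lit 520, nat_lit 260, nat_lit 104, nat_lit 494]) (.leaf (nat_lit 40962) [nat_lit 234, nat_lit 260, nat_lit 130, nat_lit 156, nat_lit 130, nat_lit 156, nat_lit 234]))) (.node (nat_lit 18) (.leaf (nat_lit 40966) [nat_lit 130, nat_lit 156, nat_lit 130, nat_lit 156, nat_lit 234, nat_lit 260, nat_lit 234]) (.node (nat_lit 19) (.leaf (nat_lit 97286) [nat_lit 104, nat_lit 494, nat_lit 260, nat_lit 520]) r128)))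
noncomputable def r130 : WT := (.node (nat_lit 31) (.leaf (nat_lit 80907) [nat_lit 468, nat_lit 130, nat_lit 156, nat_lit 234, nat_lit 260, nat_lit 442]) (.leaf (nat_lit 67597) [nat_lit 390, nat_lit 208, nat_lit 416, nat_lit 130, nat_lit 156, nat_lit 130, nat_lit 156, nat_lit 78, nat_lit 156]))
noncomputable def r131 : WT := (.leaf (nat_lit 115735) [nat_lit 52, nat_lit 390, nat_lit 312, nat_lit 312, nat_lit 312, nat_lit 390, nat_lit 286, nat_lit 286, nat_lit 390, nat_lit 312, nat_lit 312, nat_lit 52])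
noncomputable def r132 : WT := (.node (nat_lit 34) (.node (nat_lit 33) (.leaf (nat_lit 69647) [nat_lit 390, nat_lit 260, nat_lit 416, nat_lit 130, nat_lit 156, nat_lit 130, nat_lit 156, nat_lit 78, nat_lit 156, nat_lit 208]) (.leaf (nat_lit 40969) [nat_lit 234, nat_lit 260, nat_lit 234, nat_lit 156, nat_lit 130, nat_lit 156, nat_lit 130])) (.node (nat_lit 35) (.leaf (nat_lit 40973) [nat_lit 234, nat_lit 156, nat_lit 130, nat_lit 156, nat_lit 130, nat_lit 260, nat_lit 234]) r131))
noncomputable def r133 : WT := (.node (nat_lit 24) (.node (nat_lit 22) (.node (nat_lit 21) (.leaf (nat_lit 20482) [nat_lit 78, nat_lit 260, nat_lit 78]) (.leaf (nat_lit 80902) [nat_lit 234, nat_lit 156, nat_lit 130, nat_lit 442, nat_lit 260, nat_lit 468])) (.node (nat_lit 23) (.leaf (nat_lit 69651) [nat_lit 416, nat_lit 130, nat_lit 156, nat_lit 130, nat_lit 156, nat_lit 78, nat_lit 156, nat_lit 208, nat_lit 260, nat_lit 390]) (.leaf (nat_lit 50181) [nat_lit 286, nat_lit 260, nat_lit 312, nat_lit 156,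 nat_lit 208]))) (.node (nat_lit 28) (.node (nat_lit 26) (.node (nat_lit 25) (.leaf (nat_lit 56325) [nat_lit 338, nat_lit 208, nat_lit 364, nat_lit 156, nat_lit 208]) (.leaf (nat_lit 69638) [nat_lit 208, nat_lit 156, nat_lit 78, nat_lit 156, nat_lit 130, nat_lit 156, nat_lit 130, nat_lit 390, nat_lit 260, nat_lit 416])) (.node (nat_lit 27) (.leaf (nat_lit 97283) [nat_lit 494, nat_lit 260, nat_lit 520, nat_lit 104]) (.leaf (nat_lit 50185) [nat_lit 312, nat_lit 156, nat_lit 208, nat_lit 260, nat_lit 286]))) (.node (nat_lit 30) (.node (nat_lit 29) (.leaf (nat_lit 80903) [nat_lit 442, nat_lit 260, nat_lit 468, nat_lit 130, nat_lit 156, nat_lit 234]) (.leaf (nat_lit 97287) [nat_lit 520, nat_lit 104, nat_lit 260, nat_lit 494])) (.node (nat_lit 32) r130 r132))))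
noncomputable def w8 : WT := (.node (nat_lit 1) (.leaf (nat_lit 8192) [nat_lit 260]) (.node (nat_lit 7) (.node (nat_lit 3) (.node (nat_lit 2) (.leaf (nat_lit 58370) [nat_lit 364, nat_lit 208, nat_lit 338]) (.leaf (nat_lit 39938) [nat_lit 208, nat_lit 260, nat_lit 208])) (.node (nat_lit 5) r124 r125)) (.node (nat_lit 14) (.node (nat_lit 10) r126 r127) (.node (nat_lit 20) r129 r133))))
noncomputable def r134 : WT := (.node (nat_lit 3) (.leaf (nat_lit 61441) [nat_lit 286, nat_lit 338, nat_lit 312, nat_lit 364]) (.leaf (nat_lit 61443) [nat_lit 338, nat_lit 312, nat_lit 364, nat_lit 286]))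
noncomputable def r135 : WT := (.node (nat_lit 6) (.leaf (nat_lit 44032) [nat_lit 104, nat_lit 312, nat_lit 104]) (.leaf (nat_lit 61442) [nat_lit 364, nat_lit 312, nat_lit 312, nat_lit 338]))
noncomputable def r136 : WT := (.node (nat_lit 8) (.leaf (nat_lit 48133) [nat_lit 208, nat_lit 312, nat_lit 156, nat_lit 260]) (.leaf (nat_lit 46085) [nat_lit 156, nat_lit 312, nat_lit 156, nat_lit 208]))
noncomputable def r137 : WT := (.node (nat_lit 10) (.leaf (nat_lit 48128) [nat_lit 208, nat_lit 312, nat_lit 260, nat_lit 156]) (.node (nat_lit 11) (.leaf (nat_lit 72713) [nat_lit 390, nat_lit 364, nat_lit 312, nat_lit 78, nat_lit 416, nat_lit 338, nat_lit 416]) (.leaf (nat_lit 47104) [nat_lit 182, nat_lit 312, nat_lit 182, nat_lit 130])))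
noncomputable def r138 : WT := (.node (nat_lit 14) (.node (nat_lit 13) (.leaf (nat_lit 106498) [nat_lit 52, nat_lit 312, nat_lit 52]) (.leaf (nat_lit 72704) [nat_lit 338, nat_lit 416, nat_lit 312, nat_lit 390, nat_lit 364, nat_lit 390, nat_lit 78])) (.node (nat_lit 15) (.leaf (nat_lit 50176) [nat_lit 260, nat_lit 312, nat_lit 260, nat_lit 208, nat_lit 156]) (.node (nat_lit 16) (.leaf (nat_lit 50183) [nat_lit 260, nat_lit 312, nat_lit 156, nat_lit 208, nat_lit 260]) (.leaf (nat_lit 45069) [nat_lit 130, nat_lit 312, nat_lit 130, nat_lit 156, nat_lit 130, nat_lit 156, nat_lit 130, nat_lit 234]))))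
noncomputable def r139 : WT := (.leaf (nat_lit 112650) [nat_lit 286, nat_lit 416, nat_lit 286, nat_lit 286, nat_lit 286, nat_lit 416, nat_lit 312, nat_lit 52, nat_lit 182, nat_lit 52, nat_lit 312, nat_lit 416])
noncomputable def r140 : WT := (.node (nat_lit 24) r139 (.leaf (nat_lit 49167) [nat_lit 234, nat_lit 312, nat_lit 130, nat_lit 156, nat_lit 130, nat_lit 156, nat_lit 130, nat_lit 182, nat_lit 234]))
noncomputable def r141 : WT := (.node (nat_lit 26) (.leaf (nat_lit 82951) [nat_lit 468, nat_lit 364, nat_lit 312, nat_lit 468, nat_lit 312, nat_lit 364]) (.leaf (nat_lit 49152) [nat_lit 234, nat_lit 312, nat_lit 234, nat_lit 182, nat_lit 130, nat_lit 156, nat_lit 130, nat_lit 156, nat_lit 130]))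
noncomputable def r142 : WT := (.leaf (nat_lit 112659) [nat_lit 52, nat_lit 182, nat_lit 52, nat_lit 286, nat_lit 390, nat_lit 312, nat_lit 312, nat_lit 312, nat_lit 390, nat_lit 312, nat_lit 312, nat_lit 390])
noncomputable def r143 : WT := (.leaf (nat_lit 101395) [nat_lit 520, nat_lit 312, nat_lit 390, nat_lit 338, nat_lit 156, nat_lit 390, nat_lit 312, nat_lit 520, nat_lit 286, nat_lit 416, nat_lit 156, nat_lit 364, nat_lit 416])
noncomputable def r144 : WT := (.node (nat_lit 28) r142 (.node (nat_lit 29) (.leaf (nat_lit 109573) [nat_lit 156, nat_lit 130, nat_lit 52, nat_lit 416, nat_lit 52, nat_lit 130, nat_lit 156]) r143))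
noncomputable def r145 : WT := (.leaf (nat_lit 101380) [nat_lit 494, nat_lit 312, nat_lit 390, nat_lit 338, nat_lit 156, nat_lit 390, nat_lit 312, nat_lit 494, nat_lit 286, nat_lit 416, nat_lit 156, nat_lit 364, nat_lit 416])
noncomputable def r146 : WT := (.leaf (nat_lit 114709) [nat_lit 286, nat_lit 52, nat_lit 234, nat_lit 52, nat_lit 286, nat_lit 390, nat_lit 390, nat_lit 312, nat_lit 312, nat_lit 312, nat_lit 312, nat_lit 312, nat_lit 312, nat_lit 390])
noncomputable def r147 : WT := (.leaf (nat_lit 114708) [nat_lit 286, nat_lit 416, nat_lit 416, nat_lit 312, nat_lit 52, nat_lit 234, nat_lit 52, nat_lit 312, nat_lit 312, nat_lit 416, nat_lit 286, nat_lit 286, nat_lit 286, nat_lit 286])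
noncomputable def r148 : WT := (.node (nat_lit 32) (.node (nat_lit 31) r145 (.leaf (nat_lit 89094) [nat_lit 442, nat_lit 286, nat_lit 286, nat_lit 468, nat_lit 286, nat_lit 442, nat_lit 286, nat_lit 286, nat_lit 468])) (.node (nat_lit 33) r146 r147))
noncomputable def r149 : WT := (.leaf (nat_lit 115723) [nat_lit 286, nat_lit 390, nat_lit 312, nat_lit 312, nat_lit 52, nat_lit 260, nat_lit 52, nat_lit 390, nat_lit 312, nat_lit 312, nat_lit 312, nat_lit 390])
noncomputable def r150 : WT := (.leaf (nat_lit 112641) [nat_lit 390, nat_lit 312, nat_lit 312, nat_lit 312, nat_lit 390, nat_lit 312, nat_lit 312, nat_lit 390, nat_lit 286, nat_lit 52, nat_lit 182, nat_lit 52])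
noncomputable def r151 : WT := (.leaf (nat_lit 112652) [nat_lit 416, nat_lit 286, nat_lit 286, nat_lit 286, nat_lit 416, nat_lit 312, nat_lit 52, nat_lit 182, nat_lit 52, nat_lit 312, nat_lit 416, nat_lit 286])
noncomputable def r152 : WT := (.leaf (nat_lit 101398) [nat_lit 416, nat_lit 156, nat_lit 364, nat_lit 416, nat_lit 286, nat_lit 494, nat_lit 312, nat_lit 390, nat_lit 338, nat_lit 156, nat_lit 390, nat_lit 312, nat_lit 494])
noncomputable def r153 : WT := (.node (nat_lit 36) (.node (nat_lit 35) (.leaf (nat_lit 88070) [nat_lit 416, nat_lit 442, nat_lit 390, nat_lit 312, nat_lit 442, nat_lit 78, nat_lit 286, nat_lit 416, nat_lit 442]) r149) (.node (nat_lit 37) r150 (.node (nat_lit 38) r151 r152)))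
noncomputable def r154 : WT := (.leaf (nat_lit 115730) [nat_lit 286, nat_lit 286, nat_lit 416, nat_lit 52, nat_lit 260, nat_lit 52, nat_lit 286, nat_lit 286, nat_lit 416, nat_lit 312, nat_lit 312, nat_lit 416])
noncomputable def r155 : WT := (.leaf (nat_lit 115732) [nat_lit 286, nat_lit 416, nat_lit 52, nat_lit 260, nat_lit 52, nat_lit 286, nat_lit 286, nat_lit 416, nat_lit 312, nat_lit 312, nat_lit 416, nat_lit 286])
noncomputable def r156 : WT := (.leaf (nat_lit 114700) [nat_lit 286, nat_lit 286, nat_lit 286, nat_lit 286, nat_lit 286, nat_lit 416, nat_lit 416, nat_lit 312, nat_lit 52, nat_lit 234, nat_lit 52, nat_lit 312, nat_lit 312, nat_lit 416])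
noncomputable def r157 : WT := (.leaf (nat_lit 112660) [nat_lit 416, nat_lit 312, nat_lit 52, nat_lit 182, nat_lit 52, nat_lit 312, nat_lit 416, nat_lit 286, nat_lit 286, nat_lit 416, nat_lit 286, nat_lit 286])
noncomputable def r158 : WT := (.node (nat_lit 43) (.node (nat_lit 41) (.node (nat_lit 40) r154 r155) (.node (nat_lit 42) r156 (.leaf (nat_lit 83976) [nat_lit 338, nat_lit 442, nat_lit 364, nat_lit 286, nat_lit 286, nat_lit 364, nat_lit 442]))) (.node (nat_lit 45) (.node (nat_lit 44) (.leaf (nat_lit 100356) [nat_lit 338, nat_lit 312, nat_lit 494, nat_lit 286, nat_lit 494, nat_lit 312, nat_lit 338, nat_lit 286, nat_lit 520, nat_lit 312, nat_lit 520]) (.leaf (nat_lit 89090) [nat_lit 468, nat_lit 286, nat_lit 442, nat_lit 286, nat_lit 286, nat_lit 468, nat_lit 286, nat_lit 442, nat_lit 286])) (.node (nat_lit 46) (.leaf (nat_lit 82954) [nat_lit 442, nat_lit 286, nat_lit 338, nat_lit 442, nat_lit 312, nat_lit 338]) (.node (nat_lit 47) r157 (.leaf (nat_lit 88064) [nat_lit 416,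 nat_lit 442, nat_lit 286, nat_lit 416, nat_lit 442, nat_lit 390, nat_lit 312, nat_lit 442, nat_lit 78])))))
noncomputable def r159 : WT := (.leaf (nat_lit 102408) [nat_lit 520, nat_lit 312, nat_lit 104, nat_lit 468, nat_lit 494, nat_lit 468, nat_lit 520, nat_lit 442, nat_lit 104, nat_lit 286, nat_lit 494, nat_lit 312, nat_lit 442])
noncomputable def r160 : WT := (.leaf (nat_lit 110621) [nat_lit 286, nat_lit 52, nat_lit 130, nat_lit 52, nat_lit 286, nat_lit 286, nat_lit 286, nat_lit 390, nat_lit 312, nat_lit 312, nat_lit 312, nat_lit 312, nat_lit 312, nat_lit 390, nat_lit 312, nat_lit 312, nat_lit 312, nat_lit 390])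
noncomputable def r161 : WT := (.leaf (nat_lit 111631) [nat_lit 286, nat_lit 390, nat_lit 312, nat_lit 312, nat_lit 312, nat_lit 312, nat_lit 52, nat_lit 156, nat_lit 52, nat_lit 286, nat_lit 286, nat_lit 390, nat_lit 312, nat_lit 312, nat_lit 312, nat_lit 390])
noncomputable def r162 : WT := (.leaf (nat_lit 111619) [nat_lit 390, nat_lit 312, nat_lit 312, nat_lit 312, nat_lit 390, nat_lit 286, nat_lit 286, nat_lit 390, nat_lit 312, nat_lit 312, nat_lit 312, nat_lit 312, nat_lit 52, nat_lit 156, nat_lit 52, nat_lit 286])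
noncomputable def r163 : WT := (.leaf (nat_lit 111617) [nat_lit 286, nat_lit 390, nat_lit 312, nat_lit 312, nat_lit 312, nat_lit 390, nat_lit 286, nat_lit 286, nat_lit 390, nat_lit 312, nat_lit 312, nat_lit 312, nat_lit 312, nat_lit 52, nat_lit 156, nat_lit 52])
noncomputable def r164 : WT := (.leaf (nat_lit 111622) [nat_lit 286, nat_lit 286, nat_lit 286, nat_lit 416, nat_lit 312, nat_lit 312, nat_lit 416, nat_lit 286, nat_lit 286, nat_lit 286, nat_lit 416, nat_lit 312, nat_lit 312, nat_lit 52, nat_lit 156, nat_lit 52])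
noncomputable def r165 : WT := (.leaf (nat_lit 114689) [nat_lit 390, nat_lit 390, nat_lit 312, nat_lit 312, nat_lit 312, nat_lit 312, nat_lit 312, nat_lit 312, nat_lit 390, nat_lit 286, nat_lit 286, nat_lit 52, nat_lit 234, nat_lit 52])
noncomputable def r166 : WT := (.leaf (nat_lit 102415) [nat_lit 494, nat_lit 312, nat_lit 468, nat_lit 286, nat_lit 520, nat_lit 312, nat_lit 104, nat_lit 468, nat_lit 494, nat_lit 442, nat_lit 520, nat_lit 442, nat_lit 104])
noncomputable def r167 : WT := (.leaf (nat_lit 102400) [nat_lit 494, nat_lit 312, nat_lit 442, nat_lit 286, nat_lit 520, nat_lit 312, nat_lit 104, nat_lit 468, nat_lit 494, nat_lit 468, nat_lit 520, nat_lit 442, nat_lit 104])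
noncomputable def r168 : WT := (.leaf (nat_lit 115720) [nat_lit 416, nat_lit 312, nat_lit 312, nat_lit 416, nat_lit 286, nat_lit 286, nat_lit 286, nat_lit 416, nat_lit 52, nat_lit 260, nat_lit 52, nat_lit 286])
noncomputable def r169 : WT := (.leaf (nat_lit 112656) [nat_lit 286, nat_lit 286, nat_lit 416, nat_lit 312, nat_lit 52, nat_lit 182, nat_lit 52, nat_lit 312, nat_lit 416, nat_lit 286, nat_lit 286, nat_lit 416])
noncomputable def r170 : WT := (.node (nat_lit 56) (.node (nat_lit 52) (.node (nat_lit 50) (.node (nat_lit 49) r159 r160) (.node (nat_lit 51) r161 r162)) (.node (nat_lit 54) (.node (nat_lit 53) r163 r164) (.node (nat_lit 55) (.leaf (nat_lit 83970) [nat_lit 364, nat_lit 442, nat_lit 286, nat_lit 338, nat_lit 442, nat_lit 364, nat_lit 286]) r165))) (.node (nat_lit 60) (.node (nat_lit 58) (.node (nat_lit 57) (.leaf (nat_lit 83968) [nat_lit 286, nat_lit 364, nat_lit 442, nat_lit 286, nat_lit 338, nat_lit 442, nat_lit 364]) r166) (.node (nat_lit 59) r167 (.leaf (nat_lit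 89088) [nat_lit 286, nat_lit 468, nat_lit 286, nat_lit 442, nat_lit 286, nat_lit 286, nat_lit 468, nat_lit 286, nat_lit 442]))) (.node (nat_lit 62) (.node (nat_lit 61) (.leaf (nat_lit 100364) [nat_lit 494, nat_lit 312, nat_lit 338, nat_lit 286, nat_lit 520, nat_lit 312, nat_lit 520, nat_lit 286, nat_lit 338, nat_lit 312, nat_lit 494]) (.leaf (nat_lit 100375) [nat_lit 494, nat_lit 312, nat_lit 364, nat_lit 286, nat_lit 520, nat_lit 312, nat_lit 520, nat_lit 286, nat_lit 364, nat_lit 312, nat_lit 494])) (.node (nat_lit 63) r168 r169))))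
noncomputable def r171 : WT := (.node (nat_lit 22) (.node (nat_lit 19) (.node (nat_lit 18) (.leaf (nat_lit 47109) [nat_lit 182, nat_lit 312, nat_lit 130, nat_lit 182]) (.leaf (nat_lit 45056) [nat_lit 130, nat_lit 312, nat_lit 234, nat_lit 130, nat_lit 156, nat_lit 130, nat_lit 156, nat_lit 130])) (.node (nat_lit 20) (.leaf (nat_lit 59392) [nat_lit 286, nat_lit 286, nat_lit 286, nat_lit 286, nat_lit 286, nat_lit 286]) (.node (nat_lit 21) (.leaf (nat_lit 88069) [nat_lit 416, nat_lit 468, nat_lit 390, nat_lit 312, nat_lit 468, nat_lit 390, nat_lit 312, nat_lit 78, nat_lit 468]) (.leaf (nat_lit 82944) [nat_lit 338, nat_lit 442, nat_lit 312, nat_lit 338, nat_lit 286, nat_lit 442])))) (.node (nat_lit 30) (.node (nat_lit 25) (.node (nat_lit 23) (.leaf (nat_lit 43008) [nat_lit 78, nat_lit 312, nat_lit 78]) r140) (.node (nat_lit 27) r141 r144)) (.node (nat_lit 39) (.node (nat_lit 34) r148 r153) (.node (nat_lit 48) r158 r170))))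
noncomputable def w9 : WT := (.node (nat_lit 1) (.leaf (nat_lit 9216) [nat_lit 312]) (.node (nat_lit 7) (.node (nat_lit 4) (.node (nat_lit 2) (.leaf (nat_lit 71680) [nat_lit 416, nat_lit 286, nat_lit 416]) r134) (.node (nat_lit 5) (.leaf (nat_lit 46080) [nat_lit 156, nat_lit 312, nat_lit 208, nat_lit 156]) r135)) (.node (nat_lit 12) (.node (nat_lit 9) r136 r137) (.node (nat_lit 17) r138 r171))))
noncomputable def r172 : WT := (.node (nat_lit 3) (.leaf (nat_lit 48132) [nat_lit 260, nat_lit 156, nat_lit 286, nat_lit 208]) (.leaf (nat_lit 50180) [nat_lit 260, nat_lit 208, nat_lit 156, nat_lit 286, nat_lit 260]))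
noncomputable def r173 : WT := (.node (nat_lit 6) (.leaf (nat_lit 61446) [nat_lit 312, nat_lit 338, nat_lit 286, nat_lit 364]) (.leaf (nat_lit 44036) [nat_lit 104, nat_lit 286, nat_lit 104]))
noncomputable def r174 : WT := (.node (nat_lit 8) (.leaf (nat_lit 46084) [nat_lit 208, nat_lit 156, nat_lit 286, nat_lit 156]) (.leaf (nat_lit 61447) [nat_lit 364, nat_lit 286, nat_lit 286, nat_lit 338]))
noncomputable def r175 : WT := (.node (nat_lit 10) (.leaf (nat_lit 106502) [nat_lit 52, nat_lit 286, nat_lit 52]) (.node (nat_lit 11) (.leaf (nat_lit 49156) [nat_lit 234, nat_lit 182, nat_lit 130, nat_lit 156, nat_lit 130, nat_lit 156, nat_lit 130, nat_lit 286, nat_lit 234]) (.leaf (nat_lit 45060) [nat_lit 234, nat_lit 130, nat_lit 156, nat_lit 130, nat_lit 156, nat_lit 130, nat_lit 286, nat_lit 130])))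
noncomputable def r176 : WT := (.node (nat_lit 14) (.node (nat_lit 13) (.leaf (nat_lit 47108) [nat_lit 182, nat_lit 130, nat_lit 286, nat_lit 182]) (.leaf (nat_lit 72710) [nat_lit 390, nat_lit 364, nat_lit 390, nat_lit 78, nat_lit 286, nat_lit 338, nat_lit 416])) (.node (nat_lit 15) (.leaf (nat_lit 72719) [nat_lit 78, nat_lit 416, nat_lit 338, nat_lit 416, nat_lit 286, nat_lit 390, nat_lit 364]) (.node (nat_lit 16) (.leaf (nat_lit 88078) [nat_lit 442, nat_lit 78, nat_lit 286, nat_lit 416, nat_lit 442, nat_lit 286, nat_lit 416, nat_lit 442, nat_lit 390]) (.leaf (nat_lit 59393) [nat_lit 312, nat_lit 312, nat_lit 312, nat_lit 312, nat_lit 312, nat_lit 312]))))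
noncomputable def r177 : WT := (.leaf (nat_lit 112645) [nat_lit 312, nat_lit 312, nat_lit 390, nat_lit 312, nat_lit 312, nat_lit 390, nat_lit 286, nat_lit 52, nat_lit 182, nat_lit 52, nat_lit 286, nat_lit 390])
noncomputable def r178 : WT := (.leaf (nat_lit 112664) [nat_lit 52, nat_lit 182, nat_lit 52, nat_lit 312, nat_lit 416, nat_lit 286, nat_lit 286, nat_lit 416, nat_lit 286, nat_lit 286, nat_lit 286, nat_lit 416])
noncomputable def r179 : WT := (.node (nat_lit 26) (.leaf (nat_lit 88077) [nat_lit 468, nat_lit 390, nat_lit 312, nat_lit 78, nat_lit 468, nat_lit 286, nat_lit 416, nat_lit 468, nat_lit 390]) (.leaf (nat_lit 45073) [nat_lit 130, nat_lit 156, nat_lit 130, nat_lit 156, nat_lit 130, nat_lit 234, nat_lit 286, nat_lit 130]))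
noncomputable def r180 : WT := (.node (nat_lit 28) (.leaf (nat_lit 47113) [nat_lit 130, nat_lit 182, nat_lit 286, nat_lit 182]) (.leaf (nat_lit 88083) [nat_lit 78, nat_lit 468, nat_lit 286, nat_lit 416, nat_lit 468, nat_lit 390, nat_lit 312, nat_lit 468, nat_lit 390]))
noncomputable def r181 : WT := (.leaf (nat_lit 115729) [nat_lit 312, nat_lit 52, nat_lit 260, nat_lit 52, nat_lit 390, nat_lit 312, nat_lit 312, nat_lit 312, nat_lit 390, nat_lit 286, nat_lit 286, nat_lit 390])
noncomputable def r182 : WT := (.node (nat_lit 30) r181 (.leaf (nat_lit 43012) [nat_lit 78, nat_lit 286, nat_lit 78]))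
noncomputable def r183 : WT := (.leaf (nat_lit 114716) [nat_lit 52, nat_lit 234, nat_lit 52, nat_lit 312, nat_lit 312, nat_lit 416, nat_lit 286, nat_lit 286, nat_lit 286, nat_lit 286, nat_lit 286, nat_lit 286, nat_lit 416, nat_lit 416])
noncomputable def r184 : WT := (.leaf (nat_lit 101381) [nat_lit 520, nat_lit 286, nat_lit 416, nat_lit 156, nat_lit 364, nat_lit 416, nat_lit 286, nat_lit 520, nat_lit 312, nat_lit 390, nat_lit 338, nat_lit 156, nat_lit 390])
noncomputable def r185 : WT := (.node (nat_lit 32) (.leaf (nat_lit 49171) [nat_lit 130, nat_lit 156, nat_lit 130, nat_lit 156, nat_lit 130, nat_lit 182, nat_lit 234, nat_lit 286, nat_lit 234]) (.node (nat_lit 33) r183 r184))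
noncomputable def r186 : WT := (.leaf (nat_lit 114695) [nat_lit 312, nat_lit 312, nat_lit 312, nat_lit 312, nat_lit 312, nat_lit 390, nat_lit 286, nat_lit 286, nat_lit 52, nat_lit 234, nat_lit 52, nat_lit 286, nat_lit 390, nat_lit 390])
noncomputable def r187 : WT := (.leaf (nat_lit 101394) [nat_lit 494, nat_lit 286, nat_lit 416, nat_lit 156, nat_lit 364, nat_lit 416, nat_lit 286, nat_lit 494, nat_lit 312, nat_lit 390, nat_lit 338, nat_lit 156, nat_lit 390])
noncomputable def r188 : WT := (.leaf (nat_lit 115719) [nat_lit 390, nat_lit 286, nat_lit 286, nat_lit 390, nat_lit 312, nat_lit 312, nat_lit 52, nat_lit 260, nat_lit 52, nat_lit 390, nat_lit 312, nat_lit 312])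
noncomputable def r189 : WT := (.leaf (nat_lit 112647) [nat_lit 312, nat_lit 390, nat_lit 312, nat_lit 312, nat_lit 390, nat_lit 286, nat_lit 52, nat_lit 182, nat_lit 52, nat_lit 286, nat_lit 390, nat_lit 312])
noncomputable def r190 : WT := (.node (nat_lit 37) (.node (nat_lit 35) (.leaf (nat_lit 82950) [nat_lit 338, nat_lit 286, nat_lit 442, nat_lit 286, nat_lit 338, nat_lit 442]) (.node (nat_lit 36) (.leaf (nat_lit 89091) [nat_lit 442, nat_lit 312, nat_lit 312, nat_lit 468, nat_lit 312, nat_lit 442, nat_lit 312, nat_lit 312, nat_lit 468]) r186)) (.node (nat_lit 38) r187 (.node (nat_lit 39) r188 r189)))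
noncomputable def r191 : WT := (.leaf (nat_lit 112649) [nat_lit 390, nat_lit 312, nat_lit 312, nat_lit 390, nat_lit 286, nat_lit 52, nat_lit 182, nat_lit 52, nat_lit 286, nat_lit 390, nat_lit 312, nat_lit 312])
noncomputable def r192 : WT := (.leaf (nat_lit 112655) [nat_lit 390, nat_lit 286, nat_lit 52, nat_lit 182, nat_lit 52, nat_lit 286, nat_lit 390, nat_lit 312, nat_lit 312, nat_lit 312, nat_lit 390, nat_lit 312])
noncomputable def r193 : WT := (.leaf (nat_lit 115731) [nat_lit 52, nat_lit 260, nat_lit 52, nat_lit 390, nat_lit 312, nat_lit 312, nat_lit 312, nat_lit 390, nat_lit 286, nat_lit 286, nat_lit 390, nat_lit 312])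
noncomputable def r194 : WT := (.leaf (nat_lit 112646) [nat_lit 416, nat_lit 286, nat_lit 286, nat_lit 416, nat_lit 286, nat_lit 286, nat_lit 286, nat_lit 416, nat_lit 312, nat_lit 52, nat_lit 182, nat_lit 52])
noncomputable def r195 : WT := (.node (nat_lit 44) (.node (nat_lit 42) (.node (nat_lit 41) (.leaf (nat_lit 83981) [nat_lit 312, nat_lit 338, nat_lit 468, nat_lit 364, nat_lit 312, nat_lit 468, nat_lit 338]) (.leaf (nat_lit 89095) [nat_lit 312, nat_lit 468, nat_lit 312, nat_lit 442, nat_lit 312, nat_lit 312, nat_lit 468, nat_lit 312, nat_lit 442])) (.node (nat_lit 43) r191 r192)) (.node (nat_lit 46) (.node (nat_lit 45) (.leaf (nat_lit 83983) [nat_lit 338, nat_lit 468, nat_lit 364, nat_lit 312, nat_lit 468, nat_lit 338, nat_lit 312]) r193) (.node (nat_lit 47) r194 (.leaf (nat_lit 100352) [nat_lit 520, nat_lit 286, nat_lit 338, nat_lit 312, nat_lit 494, nat_lit 286, nat_lit 494, nat_lit 312, nat_lit 338, nat_lit 286, nat_lit 520]))))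
noncomputable def r196 : WT := (.leaf (nat_lit 114696) [nat_lit 416, nat_lit 286, nat_lit 286, nat_lit 286, nat_lit 286, nat_lit 286, nat_lit 286, nat_lit 416, nat_lit 416, nat_lit 312, nat_lit 52, nat_lit 234, nat_lit 52, nat_lit 312])
noncomputable def r197 : WT := (.leaf (nat_lit 111637) [nat_lit 312, nat_lit 312, nat_lit 312, nat_lit 52, nat_lit 156, nat_lit 52, nat_lit 286, nat_lit 286, nat_lit 390, nat_lit 312, nat_lit 312, nat_lit 312, nat_lit 390, nat_lit 286, nat_lit 286, nat_lit 390])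
noncomputable def r198 : WT := (.leaf (nat_lit 110601) [nat_lit 312, nat_lit 312, nat_lit 312, nat_lit 312, nat_lit 390, nat_lit 312, nat_lit 312, nat_lit 312, nat_lit 390, nat_lit 286, nat_lit 286, nat_lit 52, nat_lit 130, nat_lit 52, nat_lit 286, nat_lit 286, nat_lit 286, nat_lit 390])
noncomputable def r199 : WT := (.leaf (nat_lit 113687) [nat_lit 390, nat_lit 286, nat_lit 52, nat_lit 208, nat_lit 52, nat_lit 312, nat_lit 390, nat_lit 286, nat_lit 286, nat_lit 286, nat_lit 390, nat_lit 312, nat_lit 312, nat_lit 312, nat_lit 312, nat_lit 312])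
noncomputable def r200 : WT := (.leaf (nat_lit 113688) [nat_lit 312, nat_lit 312, nat_lit 416, nat_lit 286, nat_lit 52, nat_lit 208, nat_lit 52, nat_lit 312, nat_lit 416, nat_lit 286, nat_lit 286, nat_lit 286, nat_lit 286, nat_lit 286, nat_lit 286, nat_lit 416])
noncomputable def r201 : WT := (.leaf (nat_lit 111643) [nat_lit 52, nat_lit 156, nat_lit 52, nat_lit 286, nat_lit 286, nat_lit 390, nat_lit 312, nat_lit 312, nat_lit 312, nat_lit 390, nat_lit 286, nat_lit 286, nat_lit 390, nat_lit 312, nat_lit 312, nat_lit 312])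
noncomputable def r202 : WT := (.leaf (nat_lit 110617) [nat_lit 390, nat_lit 286, nat_lit 286, nat_lit 52, nat_lit 130, nat_lit 52, nat_lit 286, nat_lit 286, nat_lit 286, nat_lit 390, nat_lit 312, nat_lit 312, nat_lit 312, nat_lit 312, nat_lit 312, nat_lit 390, nat_lit 312, nat_lit 312])
noncomputable def r203 : WT := (.leaf (nat_lit 111623) [nat_lit 312, nat_lit 312, nat_lit 390, nat_lit 286, nat_lit 286, nat_lit 390, nat_lit 312, nat_lit 312, nat_lit 312, nat_lit 312, nat_lit 52, nat_lit 156, nat_lit 52, nat_lit 286, nat_lit 286, nat_lit 390])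
noncomputable def r204 : WT := (.leaf (nat_lit 111648) [nat_lit 52, nat_lit 156, nat_lit 52, nat_lit 286, nat_lit 286, nat_lit 286, nat_lit 286, nat_lit 416, nat_lit 312, nat_lit 312, nat_lit 416, nat_lit 286, nat_lit 286, nat_lit 286, nat_lit 416, nat_lit 312])
noncomputable def r205 : WT := (.leaf (nat_lit 114694) [nat_lit 312, nat_lit 416, nat_lit 286, nat_lit 286, nat_lit 286, nat_lit 286, nat_lit 286, nat_lit 286, nat_lit 416, nat_lit 416, nat_lit 312, nat_lit 52, nat_lit 234, nat_lit 52])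
noncomputable def r206 : WT := (.leaf (nat_lit 102412) [nat_lit 104, nat_lit 468, nat_lit 494, nat_lit 468, nat_lit 520, nat_lit 442, nat_lit 104, nat_lit 286, nat_lit 494, nat_lit 312, nat_lit 442, nat_lit 286, nat_lit 520])
noncomputable def r207 : WT := (.leaf (nat_lit 101384) [nat_lit 390, nat_lit 338, nat_lit 156, nat_lit 390, nat_lit 312, nat_lit 494, nat_lit 286, nat_lit 416, nat_lit 156, nat_lit 364, nat_lit 416, nat_lit 286, nat_lit 494])
noncomputable def r208 : WT := (.leaf (nat_lit 115715) [nat_lit 312, nat_lit 312, nat_lit 390, nat_lit 286, nat_lit 286, nat_lit 390, nat_lit 312, nat_lit 312, nat_lit 52, nat_lit 260, nat_lit 52, nat_lit 390])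
noncomputable def r209 : WT := (.leaf (nat_lit 115726) [nat_lit 416, nat_lit 286, nat_lit 286, nat_lit 286, nat_lit 416, nat_lit 52, nat_lit 260, nat_lit 52, nat_lit 286, nat_lit 286, nat_lit 416, nat_lit 312])
noncomputable def r210 : WT := (.node (nat_lit 54) (.node (nat_lit 50) (.node (nat_lit 49) r196 r197) (.node (nat_lit 52) (.node (nat_lit 51) r198 r199) (.node (nat_lit 53) r200 r201))) (.node (nat_lit 58) (.node (nat_lit 56) (.node (nat_lit 55) r202 r203) (.node (nat_lit 57) r204 r205)) (.node (nat_lit 60) (.node (nat_lit 59) r206 r207) (.node (nat_lit 61) r208 r209))))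
noncomputable def r211 : WT := (.node (nat_lit 24) (.node (nat_lit 20) (.node (nat_lit 18) (.leaf (nat_lit 82957) [nat_lit 468, nat_lit 312, nat_lit 364, nat_lit 286, nat_lit 468, nat_lit 364]) (.node (nat_lit 19) (.leaf (nat_lit 50187) [nat_lit 156, nat_lit 208, nat_lit 260, nat_lit 286, nat_lit 260]) r177)) (.node (nat_lit 22) (.node (nat_lit 21) (.leaf (nat_lit 48137) [nat_lit 156, nat_lit 260, nat_lit 286, nat_lit 208]) (.leaf (nat_lit 46089) [nat_lit 156, nat_lit 208, nat_lit 286, nat_lit 156])) (.node (nat_lit 23) (.leaf (nat_lit 109578) [nat_lit 156, nat_lit 130, nat_lit 52, nat_lit 390, nat_lit 52, nat_lit 130, nat_lit 156]) (.leaf (nat_lit 82947) [nat_lit 364, nat_lit 286, nat_lit 468, nat_lit 364, nat_lit 312, nat_lit 468])))) (.node (nat_lit 31) (.node (nat_lit 27) (.node (nat_lit 25) r178 r179) (.node (nat_lit 29) r180 r182)) (.node (nat_lit 40) (.node (nat_lit 34) r185 r190) (.node (nat_lit 48) r195 r210))))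
noncomputable def w10 : WT := (.node (nat_lit 1) (.leaf (nat_lit 9218) [nat_lit 286]) (.node (nat_lit 7) (.node (nat_lit 4) (.node (nat_lit 2) (.leaf (nat_lit 71683) [nat_lit 390, nat_lit 312, nat_lit 390]) r172) (.node (nat_lit 5) (.leaf (nat_lit 61448) [nat_lit 338, nat_lit 286, nat_lit 364, nat_lit 312]) r173)) (.node (nat_lit 12) (.node (nat_lit 9) r174 r175) (.node (nat_lit 17) r176 r211))))
noncomputable def r212 : WT := (.node (nat_lit 5) (.leaf (nat_lit 72709) [nat_lit 416, nat_lit 286, nat_lit 390, nat_lit 364, nat_lit 312, nat_lit 78, nat_lit 416]) (.leaf (nat_lit 61440) [nat_lit 286, nat_lit 364, nat_lit 312, nat_lit 312]))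
noncomputable def r213 : WT := (.node (nat_lit 7) (.leaf (nat_lit 55296) [nat_lit 182, nat_lit 364, nat_lit 234]) (.leaf (nat_lit 107522) [nat_lit 52, nat_lit 364, nat_lit 52]))
noncomputable def r214 : WT := (.node (nat_lit 9) (.leaf (nat_lit 56327) [nat_lit 208, nat_lit 364, nat_lit 156, nat_lit 208, nat_lit 260]) (.node (nat_lit 10) (.leaf (nat_lit 52224) [nat_lit 104, nat_lit 364, nat_lit 104]) (.leaf (nat_lit 99331) [nat_lit 520, nat_lit 364, nat_lit 494])))
noncomputable def r215 : WT := (.node (nat_lit 12) (.leaf (nat_lit 61445) [nat_lit 312, nat_lit 364, nat_lit 286, nat_lit 286]) (.node (nat_lit 13) (.leaf (nat_lit 99328) [nat_lit 494, nat_lit 364, nat_lit 520]) (.leaf (nat_lit 53248) [nat_lit 130, nat_lit 364, nat_lit 234, nat_lit 130, nat_lit 156, nat_lit 130, nat_lit 156, nat_lit 130])))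
noncomputable def r216 : WT := (.node (nat_lit 22) (.leaf (nat_lit 86016) [nat_lit 390, nat_lit 338, nat_lit 468, nat_lit 364, nat_lit 416, nat_lit 468, nat_lit 390]) (.leaf (nat_lit 53261) [nat_lit 130, nat_lit 364, nat_lit 130, nat_lit 156, nat_lit 130, nat_lit 156, nat_lit 130, nat_lit 234]))
noncomputable def r217 : WT := (.node (nat_lit 24) (.leaf (nat_lit 72706) [nat_lit 416, nat_lit 312, nat_lit 390, nat_lit 364, nat_lit 390, nat_lit 78, nat_lit 286]) (.leaf (nat_lit 57357) [nat_lit 234, nat_lit 364, nat_lit 130, nat_lit 156, nat_lit 130, nat_lit 156, nat_lit 182, nat_lit 234]))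
noncomputable def r218 : WT := (.leaf (nat_lit 101403) [nat_lit 156, nat_lit 390, nat_lit 312, nat_lit 520, nat_lit 286, nat_lit 416, nat_lit 156, nat_lit 364, nat_lit 416, nat_lit 286, nat_lit 520, nat_lit 312, nat_lit 390])
noncomputable def r219 : WT := (.leaf (nat_lit 101388) [nat_lit 156, nat_lit 390, nat_lit 312, nat_lit 494, nat_lit 286, nat_lit 416, nat_lit 156, nat_lit 364, nat_lit 416, nat_lit 286, nat_lit 494, nat_lit 312, nat_lit 390])
noncomputable def r220 : WT := (.node (nat_lit 27) (.node (nat_lit 26) r218 (.leaf (nat_lit 87040) [nat_lit 468, nat_lit 338, nat_lit 468, nat_lit 338, nat_lit 468, nat_lit 338, nat_lit 468])) (.node (nat_lit 28) (.leaf (nat_lit 82952) [nat_lit 286, nat_lit 442, nat_lit 286, nat_lit 338, nat_lit 442, nat_lit 312]) (.node (nat_lit 29) (.leaf (nat_lit 83969) [nat_lit 468, nat_lit 364, nat_lit 312, nat_lit 468, nat_lit 338, nat_lit 312, nat_lit 312]) r219)))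
noncomputable def r221 : WT := (.node (nat_lit 17) (.node (nat_lit 15) (.leaf (nat_lit 51200) [nat_lit 78, nat_lit 364, nat_lit 78]) (.node (nat_lit 16) (.leaf (nat_lit 57344) [nat_lit 234, nat_lit 364, nat_lit 234, nat_lit 182, nat_lit 156, nat_lit 130, nat_lit 156, nat_lit 130]) (.leaf (nat_lit 86020) [nat_lit 468, nat_lit 364, nat_lit 416, nat_lit 468, nat_lit 390, nat_lit 338, nat_lit 390]))) (.node (nat_lit 20) (.node (nat_lit 18) (.leaf (nat_lit 56320) [nat_lit 208, nat_lit 364, nat_lit 260, nat_lit 208, nat_lit 156]) (.node (nat_lit 19) (.leaf (nat_lit 82946) [nat_lit 442, nat_lit 312, nat_lit 338, nat_lit 286, nat_lit 442, nat_lit 286]) (.leaf (nat_lit 86023) [nat_lit 442, nat_lit 364, nat_lit 416, nat_lit 364, nat_lit 416, nat_lit 442, nat_lit 390]))) (.node (nat_lit 23) (.node (nat_lit 21) (.leaf (nat_lit 83979) [nat_lit 312, nat_lit 312, nat_lit 338, nat_lit 468, nat_lit 364, nat_lit 312, nat_lit 468]) r216) (.node (nat_lit 25) r217 r220))))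
noncomputable def w11 : WT := (.node (nat_lit 1) (.leaf (nat_lit 10240) [nat_lit 364]) (.node (nat_lit 6) (.node (nat_lit 3) (.node (nat_lit 2) (.leaf (nat_lit 60416) [nat_lit 338, nat_lit 338]) (.leaf (nat_lit 58368) [nat_lit 260, nat_lit 364, nat_lit 208])) (.node (nat_lit 4) (.leaf (nat_lit 54272) [nat_lit 156, nat_lit 364, nat_lit 156]) r212)) (.node (nat_lit 11) (.node (nat_lit 8) r213 r214) (.node (nat_lit 14) r215 r221))))
noncomputable def r222 : WT := (.node (nat_lit 5) (.leaf (nat_lit 54276) [nat_lit 156, nat_lit 338, nat_lit 156]) (.leaf (nat_lit 61449) [nat_lit 286, nat_lit 286, nat_lit 338, nat_lit 312]))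
noncomputable def r223 : WT := (.node (nat_lit 7) (.leaf (nat_lit 99335) [nat_lit 494, nat_lit 338, nat_lit 520]) (.leaf (nat_lit 61444) [nat_lit 312, nat_lit 312, nat_lit 338, nat_lit 286]))
noncomputable def r224 : WT := (.node (nat_lit 9) (.leaf (nat_lit 52228) [nat_lit 104, nat_lit 338, nat_lit 104]) (.node (nat_lit 10) (.leaf (nat_lit 107526) [nat_lit 52, nat_lit 338, nat_lit 52]) (.leaf (nat_lit 53252) [nat_lit 234, nat_lit 130, nat_lit 156, nat_lit 130, nat_lit 156, nat_lit 130, nat_lit 338, nat_lit 130])))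
noncomputable def r225 : WT := (.node (nat_lit 12) (.leaf (nat_lit 55300) [nat_lit 234, nat_lit 338, nat_lit 182]) (.node (nat_lit 13) (.leaf (nat_lit 57348) [nat_lit 234, nat_lit 182, nat_lit 156, nat_lit 130, nat_lit 156, nat_lit 130, nat_lit 338, nat_lit 234]) (.leaf (nat_lit 99332) [nat_lit 520, nat_lit 338, nat_lit 494])))
noncomputable def r226 : WT := (.node (nat_lit 23) (.leaf (nat_lit 83972) [nat_lit 442, nat_lit 286, nat_lit 338, nat_lit 442, nat_lit 364, nat_lit 286, nat_lit 286]) (.leaf (nat_lit 86027) [nat_lit 416, nat_lit 364, nat_lit 416, nat_lit 442, nat_lit 390, nat_lit 338, nat_lit 442]))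
noncomputable def r227 : WT := (.leaf (nat_lit 118785) [nat_lit 494, nat_lit 52, nat_lit 494, nat_lit 104, nat_lit 52, nat_lit 494, nat_lit 52, nat_lit 494, nat_lit 104, nat_lit 52, nat_lit 494, nat_lit 52, nat_lit 494, nat_lit 104, nat_lit 52, nat_lit 494, nat_lit 52, nat_lit 494, nat_lit 104, nat_lit 52, nat_lit 494, nat_lit 52, nat_lit 494, nat_lit 104, nat_lit 52])
noncomputable def r228 : WT := (.leaf (nat_lit 101391) [nat_lit 416, nat_lit 286, nat_lit 520, nat_lit 312, nat_lit 390, nat_lit 338, nat_lit 156, nat_lit 390, nat_lit 312, nat_lit 520, nat_lit 286, nat_lit 416, nat_lit 156])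
noncomputable def r229 : WT := (.leaf (nat_lit 101376) [nat_lit 416, nat_lit 286, nat_lit 494, nat_lit 312, nat_lit 390, nat_lit 338, nat_lit 156, nat_lit 390, nat_lit 312, nat_lit 494, nat_lit 286, nat_lit 416, nat_lit 156])
noncomputable def r230 : WT := (.node (nat_lit 27) (.node (nat_lit 25) (.leaf (nat_lit 83982) [nat_lit 286, nat_lit 286, nat_lit 364, nat_lit 442, nat_lit 286, nat_lit 338, nat_lit 442]) (.node (nat_lit 26) (.leaf (nat_lit 83973) [nat_lit 312, nat_lit 468, nat_lit 338, nat_lit 312, nat_lit 312, nat_lit 338, nat_lit 468]) (.leaf (nat_lit 87043) [nat_lit 442, nat_lit 364, nat_lit 442, nat_lit 364, nat_lit 442, nat_lit 364, nat_lit 442]))) (.node (nat_lit 29) (.node (nat_lit 28) r227 r228) (.node (nat_lit 30) (.leaf (nat_lit 82949) [nat_lit 286, nat_lit 468, nat_lit 364, nat_lit 312, nat_lit 468, nat_lit 312]) (.node (nat_lit 31) (.leaf (nat_lit 57361) [nat_lit 130, nat_lit 156, nat_lit 130, nat_lit 156, nat_lit 182, nat_lit 234, nat_lit 338, nat_lit 234])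 r229))))
noncomputable def r231 : WT := (.node (nat_lit 17) (.node (nat_lit 15) (.leaf (nat_lit 51204) [nat_lit 78, nat_lit 338, nat_lit 78]) (.node (nat_lit 16) (.leaf (nat_lit 72714) [nat_lit 390, nat_lit 78, nat_lit 286, nat_lit 338, nat_lit 416, nat_lit 312, nat_lit 390]) (.leaf (nat_lit 72717) [nat_lit 312, nat_lit 78, nat_lit 416, nat_lit 338, nat_lit 416, nat_lit 286, nat_lit 390]))) (.node (nat_lit 20) (.node (nat_lit 18) (.leaf (nat_lit 82955) [nat_lit 312, nat_lit 468, nat_lit 312, nat_lit 364, nat_lit 286, nat_lit 468]) (.node (nat_lit 19) (.leaf (nat_lit 86024) [nat_lit 416, nat_lit 468, nat_lit 390, nat_lit 338, nat_lit 390, nat_lit 338, nat_lit 468]) (.leaf (nat_lit 86031) [nat_lit 416, nat_lit 442, nat_lit 390, nat_lit 338, nat_lit 442, nat_lit 364, nat_lit 416]))) (.node (nat_lit 22) (.node (nat_lit 21) (.leaf (nat_lit 56331) [nat_lit 156, nat_lit 208, nat_lit 260, nat_lit 338, nat_lit 208]) (.leaf (nat_lit 53265) [nat_lit 130, nat_lit 156, nat_lit 130, nat_lit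 156, nat_lit 130, nat_lit 234, nat_lit 338, nat_lit 130])) (.node (nat_lit 24) r226 r230))))
noncomputable def w12 : WT := (.node (nat_lit 1) (.leaf (nat_lit 10242) [nat_lit 338]) (.node (nat_lit 6) (.node (nat_lit 3) (.node (nat_lit 2) (.leaf (nat_lit 60417) [nat_lit 364, nat_lit 364]) (.leaf (nat_lit 56324) [nat_lit 260, nat_lit 208, nat_lit 156, nat_lit 338, nat_lit 208])) (.node (nat_lit 4) (.leaf (nat_lit 58372) [nat_lit 208, nat_lit 338, nat_lit 260]) r222)) (.node (nat_lit 11) (.node (nat_lit 8) r223 r224) (.node (nat_lit 14) r225 r231))))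
noncomputable def r232 : WT := (.node (nat_lit 3) (.leaf (nat_lit 65536) [nat_lit 156, nat_lit 416, nat_lit 208, nat_lit 156]) (.leaf (nat_lit 67599) [nat_lit 208, nat_lit 416, nat_lit 130, nat_lit 156, nat_lit 130, nat_lit 156, nat_lit 78, nat_lit 156, nat_lit 260]))
noncomputable def r233 : WT := (.node (nat_lit 5) (.leaf (nat_lit 72716) [nat_lit 78, nat_lit 286, nat_lit 338, nat_lit 416, nat_lit 312, nat_lit 390, nat_lit 364]) (.leaf (nat_lit 70656) [nat_lit 390, nat_lit 390, nat_lit 390, nat_lit 390, nat_lit 390, nat_lit 390]))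
noncomputable def r234 : WT := (.node (nat_lit 7) (.leaf (nat_lit 65541) [nat_lit 156, nat_lit 416, nat_lit 156, nat_lit 208]) (.leaf (nat_lit 63488) [nat_lit 104, nat_lit 416, nat_lit 234, nat_lit 208, nat_lit 104, nat_lit 156, nat_lit 130, nat_lit 156, nat_lit 130]))
noncomputable def r235 : WT := (.node (nat_lit 9) (.leaf (nat_lit 68608) [nat_lit 234, nat_lit 416, nat_lit 234, nat_lit 182, nat_lit 130, nat_lit 78]) (.node (nat_lit 10) (.leaf (nat_lit 109570) [nat_lit 52, nat_lit 130, nat_lit 156, nat_lit 312, nat_lit 156, nat_lit 130, nat_lit 52]) (.leaf (nat_lit 67584) [nat_lit 208, nat_lit 416, nat_lit 260, nat_lit 156, nat_lit 78, nat_lit 156, nat_lit 130, nat_lit 156, nat_lit 130])))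
noncomputable def r236 : WT := (.node (nat_lit 12) (.leaf (nat_lit 72712) [nat_lit 364, nat_lit 390, nat_lit 78, nat_lit 286, nat_lit 338, nat_lit 416, nat_lit 312]) (.node (nat_lit 13) (.leaf (nat_lit 72715) [nat_lit 364, nat_lit 312, nat_lit 78, nat_lit 416, nat_lit 338, nat_lit 416, nat_lit 286]) (.leaf (nat_lit 68617) [nat_lit 234, nat_lit 416, nat_lit 78, nat_lit 130, nat_lit 182, nat_lit 234])))
noncomputable def r237 : WT := (.leaf (nat_lit 112643) [nat_lit 312, nat_lit 312, nat_lit 312, nat_lit 390, nat_lit 312, nat_lit 312, nat_lit 390, nat_lit 286, nat_lit 52, nat_lit 182, nat_lit 52, nat_lit 286])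
noncomputable def r238 : WT := (.node (nat_lit 16) (.node (nat_lit 15) (.leaf (nat_lit 63503) [nat_lit 104, nat_lit 416, nat_lit 130, nat_lit 156, nat_lit 130, nat_lit 156, nat_lit 104, nat_lit 208, nat_lit 234]) (.leaf (nat_lit 69649) [nat_lit 260, nat_lit 416, nat_lit 130, nat_lit 156, nat_lit 130, nat_lit 156, nat_lit 78, nat_lit 156, nat_lit 208, nat_lit 260])) (.node (nat_lit 17) (.leaf (nat_lit 69632) [nat_lit 260, nat_lit 416, nat_lit 260, nat_lit 208, nat_lit 156, nat_lit 78, nat_lit 156, nat_lit 130, nat_lit 156, nat_lit 130]) (.node (nat_lit 18) (.leaf (nat_lit 64512) [nat_lit 130, nat_lit 416, nat_lit 234, nat_lit 130, nat_lit 156, nat_lit 130, nat_lit 156, nat_lit 130]) r237)))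
noncomputable def r239 : WT := (.leaf (nat_lit 112657) [nat_lit 286, nat_lit 52, nat_lit 182, nat_lit 52, nat_lit 286, nat_lit 390, nat_lit 312, nat_lit 312, nat_lit 312, nat_lit 390, nat_lit 312, nat_lit 312])
noncomputable def r240 : WT := (.node (nat_lit 26) (.leaf (nat_lit 86018) [nat_lit 338, nat_lit 468, nat_lit 364, nat_lit 416, nat_lit 468, nat_lit 390, nat_lit 338]) (.leaf (nat_lit 64525) [nat_lit 130, nat_lit 416, nat_lit 130, nat_lit 156, nat_lit 130, nat_lit 156, nat_lit 130, nat_lit 234]))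
noncomputable def r241 : WT := (.leaf (nat_lit 115713) [nat_lit 312, nat_lit 312, nat_lit 312, nat_lit 390, nat_lit 286, nat_lit 286, nat_lit 390, nat_lit 312, nat_lit 312, nat_lit 52, nat_lit 260, nat_lit 52])
noncomputable def r242 : WT := (.leaf (nat_lit 101386) [nat_lit 338, nat_lit 156, nat_lit 390, nat_lit 312, nat_lit 494, nat_lit 286, nat_lit 416, nat_lit 156, nat_lit 364, nat_lit 416, nat_lit 286, nat_lit 494, nat_lit 312])
noncomputable def r243 : WT := (.node (nat_lit 29) r242 (.leaf (nat_lit 88076) [nat_lit 312, nat_lit 442, nat_lit 78, nat_lit 286, nat_lit 416, nat_lit 442, nat_lit 286, nat_lit 416, nat_lit 442]))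
noncomputable def r244 : WT := (.leaf (nat_lit 114693) [nat_lit 312, nat_lit 312, nat_lit 312, nat_lit 312, nat_lit 312, nat_lit 312, nat_lit 390, nat_lit 286, nat_lit 286, nat_lit 52, nat_lit 234, nat_lit 52, nat_lit 286, nat_lit 390])
noncomputable def r245 : WT := (.leaf (nat_lit 115721) [nat_lit 286, nat_lit 286, nat_lit 390, nat_lit 312, nat_lit 312, nat_lit 52, nat_lit 260, nat_lit 52, nat_lit 390, nat_lit 312, nat_lit 312, nat_lit 312])
noncomputable def r246 : WT := (.node (nat_lit 31) r244 r245)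
noncomputable def r247 : WT := (.leaf (nat_lit 114707) [nat_lit 286, nat_lit 286, nat_lit 52, nat_lit 234, nat_lit 52, nat_lit 286, nat_lit 390, nat_lit 390, nat_lit 312, nat_lit 312, nat_lit 312, nat_lit 312, nat_lit 312, nat_lit 312])
noncomputable def r248 : WT := (.leaf (nat_lit 114691) [nat_lit 390, nat_lit 312, nat_lit 312, nat_lit 312, nat_lit 312, nat_lit 312, nat_lit 312, nat_lit 390, nat_lit 286, nat_lit 286, nat_lit 52, nat_lit 234, nat_lit 52, nat_lit 286])
noncomputable def r249 : WT := (.leaf (nat_lit 112651) [nat_lit 312, nat_lit 312, nat_lit 390, nat_lit 286, nat_lit 52, nat_lit 182, nat_lit 52, nat_lit 286, nat_lit 390, nat_lit 312, nat_lit 312, nat_lit 312])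
noncomputable def r250 : WT := (.node (nat_lit 34) (.node (nat_lit 33) (.leaf (nat_lit 88081) [nat_lit 312, nat_lit 78, nat_lit 468, nat_lit 286, nat_lit 416, nat_lit 468, nat_lit 390, nat_lit 312, nat_lit 468]) r247) (.node (nat_lit 35) r248 r249))
noncomputable def r251 : WT := (.leaf (nat_lit 101392) [nat_lit 312, nat_lit 494, nat_lit 286, nat_lit 416, nat_lit 156, nat_lit 364, nat_lit 416, nat_lit 286, nat_lit 494, nat_lit 312, nat_lit 390, nat_lit 338, nat_lit 156])
noncomputable def r252 : WT := (.leaf (nat_lit 101401) [nat_lit 338, nat_lit 156, nat_lit 390, nat_lit 312, nat_lit 520, nat_lit 286, nat_lit 416, nat_lit 156, nat_lit 364, nat_lit 416, nat_lit 286, nat_lit 520, nat_lit 312])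
noncomputable def r253 : WT := (.leaf (nat_lit 111621) [nat_lit 312, nat_lit 312, nat_lit 312, nat_lit 390, nat_lit 286, nat_lit 286, nat_lit 390, nat_lit 312, nat_lit 312, nat_lit 312, nat_lit 312, nat_lit 52, nat_lit 156, nat_lit 52, nat_lit 286, nat_lit 286])
noncomputable def r254 : WT := (.leaf (nat_lit 110599) [nat_lit 312, nat_lit 312, nat_lit 312, nat_lit 312, nat_lit 312, nat_lit 390, nat_lit 312, nat_lit 312, nat_lit 312, nat_lit 390, nat_lit 286, nat_lit 286, nat_lit 52, nat_lit 130, nat_lit 52, nat_lit 286, nat_lit 286, nat_lit 286])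
noncomputable def r255 : WT := (.leaf (nat_lit 113689) [nat_lit 286, nat_lit 52, nat_lit 208, nat_lit 52, nat_lit 312, nat_lit 390, nat_lit 286, nat_lit 286, nat_lit 286, nat_lit 390, nat_lit 312, nat_lit 312, nat_lit 312, nat_lit 312, nat_lit 312, nat_lit 312])
noncomputable def r256 : WT := (.leaf (nat_lit 113675) [nat_lit 312, nat_lit 312, nat_lit 312, nat_lit 312, nat_lit 312, nat_lit 312, nat_lit 390, nat_lit 286, nat_lit 52, nat_lit 208, nat_lit 52, nat_lit 312, nat_lit 390, nat_lit 286, nat_lit 286, nat_lit 286])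
noncomputable def r257 : WT := (.node (nat_lit 39) (.node (nat_lit 37) r251 (.node (nat_lit 38) r252 r253)) (.node (nat_lit 40) r254 (.node (nat_lit 41) r255 r256)))
noncomputable def r258 : WT := (.leaf (nat_lit 103451) [nat_lit 182, nat_lit 494, nat_lit 416, nat_lit 468, nat_lit 390, nat_lit 520, nat_lit 182, nat_lit 416, nat_lit 468, nat_lit 390, nat_lit 520, nat_lit 416, nat_lit 442])
noncomputable def r259 : WT := (.leaf (nat_lit 103433) [nat_lit 520, nat_lit 182, nat_lit 416, nat_lit 468, nat_lit 390, nat_lit 520, nat_lit 416, nat_lit 442, nat_lit 390, nat_lit 182, nat_lit 494, nat_lit 416, nat_lit 468])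
noncomputable def r260 : WT := (.leaf (nat_lit 103428) [nat_lit 494, nat_lit 416, nat_lit 442, nat_lit 390, nat_lit 182, nat_lit 494, nat_lit 416, nat_lit 442, nat_lit 390, nat_lit 520, nat_lit 182, nat_lit 416, nat_lit 468])
noncomputable def r261 : WT := (.leaf (nat_lit 101379) [nat_lit 312, nat_lit 520, nat_lit 286, nat_lit 416, nat_lit 156, nat_lit 364, nat_lit 416, nat_lit 286, nat_lit 520, nat_lit 312, nat_lit 390, nat_lit 338, nat_lit 156])
noncomputable def r262 : WT := (.leaf (nat_lit 115727) [nat_lit 312, nat_lit 312, nat_lit 52, nat_lit 260, nat_lit 52, nat_lit 390, nat_lit 312, nat_lit 312, nat_lit 312, nat_lit 390, nat_lit 286, nat_lit 286])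
noncomputable def r263 : WT := (.leaf (nat_lit 103443) [nat_lit 520, nat_lit 416, nat_lit 442, nat_lit 390, nat_lit 182, nat_lit 494, nat_lit 416, nat_lit 468, nat_lit 390, nat_lit 520, nat_lit 182, nat_lit 416, nat_lit 468])
noncomputable def r264 : WT := (.leaf (nat_lit 111629) [nat_lit 286, nat_lit 286, nat_lit 390, nat_lit 312, nat_lit 312, nat_lit 312, nat_lit 312, nat_lit 52, nat_lit 156, nat_lit 52, nat_lit 286, nat_lit 286, nat_lit 390, nat_lit 312, nat_lit 312, nat_lit 312])
noncomputable def r265 : WT := (.node (nat_lit 45) (.node (nat_lit 43) r258 (.node (nat_lit 44) r259 r260)) (.node (nat_lit 47) (.node (nat_lit 46) r261 r262) (.node (nat_lit 48) r263 (.node (nat_lit 49) r264 (.leaf (nat_lit 62464) [nat_lit 78, nat_lit 416, nat_lit 78])))))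
noncomputable def r266 : WT := (.node (nat_lit 24) (.node (nat_lit 21) (.node (nat_lit 20) (.leaf (nat_lit 66575) [nat_lit 182, nat_lit 416, nat_lit 130, nat_lit 156, nat_lit 130, nat_lit 156, nat_lit 78, nat_lit 130, nat_lit 182]) (.leaf (nat_lit 86030) [nat_lit 338, nat_lit 390, nat_lit 338, nat_lit 468, nat_lit 364, nat_lit 416, nat_lit 468])) (.node (nat_lit 22) (.leaf (nat_lit 66560) [nat_lit 182, nat_lit 416, nat_lit 182, nat_lit 130, nat_lit 78, nat_lit 156, nat_lit 130, nat_lit 156, nat_lit 130]) (.node (nat_lit 23) r239 (.leaf (nat_lit 86021) [nat_lit 338, nat_lit 442, nat_lit 364, nat_lit 416, nat_lit 364, nat_lit 416, nat_lit 442])))) (.node (nat_lit 30) (.node (nat_lit 27) (.node (nat_lit 25) (.leaf (nat_lit 88075) [nat_lit 312, nat_lit 468, nat_lit 390, nat_lit 312, nat_lit 78, nat_lit 468, nat_lit 286, nat_lit 416, nat_lit 468]) r240) (.node (nat_lit 28) r241 r243)) (.node (nat_lit 36) (.node (nat_lit 32) r246 r250) (.node (nat_lit 42) r257 r265))))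
noncomputable def w13 : WT := (.node (nat_lit 1) (.leaf (nat_lit 11264) [nat_lit 416]) (.node (nat_lit 8) (.node (nat_lit 4) (.node (nat_lit 2) (.leaf (nat_lit 71681) [nat_lit 312, nat_lit 390, nat_lit 312]) r232) (.node (nat_lit 6) r233 r234)) (.node (nat_lit 14) (.node (nat_lit 11) r235 r236) (.node (nat_lit 19) r238 r266))))
noncomputable def r267 : WT := (.node (nat_lit 4) (.leaf (nat_lit 71682) [nat_lit 286, nat_lit 416, nat_lit 286]) (.leaf (nat_lit 65540) [nat_lit 208, nat_lit 156, nat_lit 390, nat_lit 156]))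
noncomputable def r268 : WT := (.node (nat_lit 6) (.leaf (nat_lit 109581) [nat_lit 52, nat_lit 130, nat_lit 156, nat_lit 286, nat_lit 156, nat_lit 130, nat_lit 52]) (.leaf (nat_lit 68612) [nat_lit 234, nat_lit 182, nat_lit 130, nat_lit 78, nat_lit 390, nat_lit 234]))
noncomputable def r269 : WT := (.node (nat_lit 8) (.leaf (nat_lit 70657) [nat_lit 416, nat_lit 416, nat_lit 416, nat_lit 416, nat_lit 416, nat_lit 416]) (.leaf (nat_lit 63492) [nat_lit 234, nat_lit 208, nat_lit 104, nat_lit 156, nat_lit 130, nat_lit 156, nat_lit 130, nat_lit 390, nat_lit 104]))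
noncomputable def r270 : WT := (.node (nat_lit 10) (.leaf (nat_lit 64516) [nat_lit 234, nat_lit 130, nat_lit 156, nat_lit 130, nat_lit 156, nat_lit 130, nat_lit 390, nat_lit 130]) (.node (nat_lit 11) (.leaf (nat_lit 72707) [nat_lit 338, nat_lit 416, nat_lit 286, nat_lit 390, nat_lit 364, nat_lit 312, nat_lit 78]) (.leaf (nat_lit 66564) [nat_lit 182, nat_lit 130, nat_lit 78, nat_lit 156, nat_lit 130, nat_lit 156, nat_lit 130, nat_lit 390, nat_lit 182])))
noncomputable def r271 : WT := (.node (nat_lit 14) (.node (nat_lit 13) (.leaf (nat_lit 72708) [nat_lit 312, nat_lit 390, nat_lit 364, nat_lit 390, nat_lit 78, nat_lit 286, nat_lit 338]) (.leaf (nat_lit 72711) [nat_lit 286, nat_lit 390, nat_lit 364, nat_lit 312, nat_lit 78, nat_lit 416, nat_lit 338])) (.node (nat_lit 15) (.leaf (nat_lit 69653) [nat_lit 130, nat_lit 156, nat_lit 130, nat_lit 156, nat_lit 78, nat_lit 156, nat_lit 208, nat_lit 260, nat_lit 390, nat_lit 260]) (.node (nat_lit 16) (.leaf (nat_lit 63507) [nat_lit 130,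 nat_lit 156, nat_lit 130, nat_lit 156, nat_lit 104, nat_lit 208, nat_lit 234, nat_lit 390, nat_lit 104]) (.leaf (nat_lit 86026) [nat_lit 468, nat_lit 390, nat_lit 338, nat_lit 390, nat_lit 338, nat_lit 468, nat_lit 364]))))
noncomputable def r272 : WT := (.leaf (nat_lit 112662) [nat_lit 312, nat_lit 52, nat_lit 182, nat_lit 52, nat_lit 312, nat_lit 416, nat_lit 286, nat_lit 286, nat_lit 416, nat_lit 286, nat_lit 286, nat_lit 286])
noncomputable def r273 : WT := (.leaf (nat_lit 114714) [nat_lit 312, nat_lit 52, nat_lit 234, nat_lit 52, nat_lit 312, nat_lit 312, nat_lit 416, nat_lit 286, nat_lit 286, nat_lit 286, nat_lit 286, nat_lit 286, nat_lit 286, nat_lit 416])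
noncomputable def r274 : WT := (.leaf (nat_lit 112648) [nat_lit 286, nat_lit 286, nat_lit 416, nat_lit 286, nat_lit 286, nat_lit 286, nat_lit 416, nat_lit 312, nat_lit 52, nat_lit 182, nat_lit 52, nat_lit 312])
noncomputable def r275 : WT := (.leaf (nat_lit 114698) [nat_lit 286, nat_lit 286, nat_lit 286, nat_lit 286, nat_lit 286, nat_lit 286, nat_lit 416, nat_lit 416, nat_lit 312, nat_lit 52, nat_lit 234, nat_lit 52, nat_lit 312, nat_lit 312])
noncomputable def r276 : WT := (.node (nat_lit 27) (.leaf (nat_lit 86029) [nat_lit 364, nat_lit 416, nat_lit 442, nat_lit 390, nat_lit 338, nat_lit 442, nat_lit 364]) r275)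
noncomputable def r277 : WT := (.leaf (nat_lit 115728) [nat_lit 286, nat_lit 286, nat_lit 286, nat_lit 416, nat_lit 52, nat_lit 260, nat_lit 52, nat_lit 286, nat_lit 286, nat_lit 416, nat_lit 312, nat_lit 312])
noncomputable def r278 : WT := (.node (nat_lit 29) r277 (.leaf (nat_lit 86017) [nat_lit 442, nat_lit 390, nat_lit 338, nat_lit 442, nat_lit 364, nat_lit 416, nat_lit 364]))
noncomputable def r279 : WT := (.leaf (nat_lit 101400) [nat_lit 156, nat_lit 364, nat_lit 416, nat_lit 286, nat_lit 494, nat_lit 312, nat_lit 390, nat_lit 338, nat_lit 156, nat_lit 390, nat_lit 312, nat_lit 494, nat_lit 286])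
noncomputable def r280 : WT := (.leaf (nat_lit 115722) [nat_lit 312, nat_lit 312, nat_lit 416, nat_lit 286, nat_lit 286, nat_lit 286, nat_lit 416, nat_lit 52, nat_lit 260, nat_lit 52, nat_lit 286, nat_lit 286])
noncomputable def r281 : WT := (.node (nat_lit 31) r279 (.node (nat_lit 32) (.leaf (nat_lit 88071) [nat_lit 468, nat_lit 390, nat_lit 312, nat_lit 468, nat_lit 390, nat_lit 312, nat_lit 78, nat_lit 468, nat_lit 286]) r280))
noncomputable def r282 : WT := (.leaf (nat_lit 101393) [nat_lit 286, nat_lit 520, nat_lit 312, nat_lit 390, nat_lit 338, nat_lit 156, nat_lit 390, nat_lit 312, nat_lit 520, nat_lit 286, nat_lit 416, nat_lit 156, nat_lit 364])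
noncomputable def r283 : WT := (.leaf (nat_lit 113686) [nat_lit 312, nat_lit 312, nat_lit 312, nat_lit 416, nat_lit 286, nat_lit 52, nat_lit 208, nat_lit 52, nat_lit 312, nat_lit 416, nat_lit 286, nat_lit 286, nat_lit 286, nat_lit 286, nat_lit 286, nat_lit 286])
noncomputable def r284 : WT := (.leaf (nat_lit 101378) [nat_lit 286, nat_lit 494, nat_lit 312, nat_lit 390, nat_lit 338, nat_lit 156, nat_lit 390, nat_lit 312, nat_lit 494, nat_lit 286, nat_lit 416, nat_lit 156, nat_lit 364])
noncomputable def r285 : WT := (.leaf (nat_lit 111630) [nat_lit 312, nat_lit 312, nat_lit 416, nat_lit 286, nat_lit 286, nat_lit 286, nat_lit 416, nat_lit 312, nat_lit 312, nat_lit 52, nat_lit 156, nat_lit 52, nat_lit 286, nat_lit 286, nat_lit 286, nat_lit 286])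
noncomputable def r286 : WT := (.node (nat_lit 35) (.node (nat_lit 34) r282 r283) (.node (nat_lit 36) r284 r285))
noncomputable def r287 : WT := (.leaf (nat_lit 114712) [nat_lit 416, nat_lit 312, nat_lit 52, nat_lit 234, nat_lit 52, nat_lit 312, nat_lit 312, nat_lit 416, nat_lit 286, nat_lit 286, nat_lit 286, nat_lit 286, nat_lit 286, nat_lit 286])
noncomputable def r288 : WT := (.leaf (nat_lit 103447) [nat_lit 442, nat_lit 390, nat_lit 182, nat_lit 494, nat_lit 416, nat_lit 468, nat_lit 390, nat_lit 520, nat_lit 182, nat_lit 416, nat_lit 468, nat_lit 390, nat_lit 520])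
noncomputable def r289 : WT := (.leaf (nat_lit 110602) [nat_lit 286, nat_lit 286, nat_lit 286, nat_lit 416, nat_lit 286, nat_lit 286, nat_lit 286, nat_lit 286, nat_lit 286, nat_lit 416, nat_lit 312, nat_lit 312, nat_lit 312, nat_lit 52, nat_lit 130, nat_lit 52, nat_lit 312, nat_lit 312])
noncomputable def r290 : WT := (.leaf (nat_lit 110622) [nat_lit 312, nat_lit 312, nat_lit 312, nat_lit 52, nat_lit 130, nat_lit 52, nat_lit 312, nat_lit 312, nat_lit 416, nat_lit 286, nat_lit 286, nat_lit 286, nat_lit 416, nat_lit 286, nat_lit 286, nat_lit 286, nat_lit 286, nat_lit 286])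
noncomputable def r291 : WT := (.leaf (nat_lit 113694) [nat_lit 286, nat_lit 52, nat_lit 208, nat_lit 52, nat_lit 312, nat_lit 416, nat_lit 286, nat_lit 286, nat_lit 286, nat_lit 286, nat_lit 286, nat_lit 286, nat_lit 416, nat_lit 312, nat_lit 312, nat_lit 312])
noncomputable def r292 : WT := (.leaf (nat_lit 103429) [nat_lit 468, nat_lit 390, nat_lit 520, nat_lit 182, nat_lit 416, nat_lit 468, nat_lit 390, nat_lit 520, nat_lit 416, nat_lit 442, nat_lit 390, nat_lit 182, nat_lit 494])
noncomputable def r293 : WT := (.node (nat_lit 40) (.node (nat_lit 38) r287 (.node (nat_lit 39) r288 r289)) (.node (nat_lit 41) r290 (.node (nat_lit 42) r291 r292)))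
noncomputable def r294 : WT := (.leaf (nat_lit 101387) [nat_lit 156, nat_lit 364, nat_lit 416, nat_lit 286, nat_lit 520, nat_lit 312, nat_lit 390, nat_lit 338, nat_lit 156, nat_lit 390, nat_lit 312, nat_lit 520, nat_lit 286])
noncomputable def r295 : WT := (.leaf (nat_lit 112654) [nat_lit 286, nat_lit 286, nat_lit 286, nat_lit 416, nat_lit 312, nat_lit 52, nat_lit 182, nat_lit 52, nat_lit 312, nat_lit 416, nat_lit 286, nat_lit 286])
noncomputable def r296 : WT := (.leaf (nat_lit 103432) [nat_lit 442, nat_lit 390, nat_lit 182, nat_lit 494, nat_lit 416, nat_lit 442, nat_lit 390, nat_lit 520, nat_lit 182, nat_lit 416, nat_lit 468, nat_lit 390, nat_lit 494])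
noncomputable def r297 : WT := (.leaf (nat_lit 111636) [nat_lit 286, nat_lit 286, nat_lit 286, nat_lit 416, nat_lit 312, nat_lit 312, nat_lit 52, nat_lit 156, nat_lit 52, nat_lit 286, nat_lit 286, nat_lit 286, nat_lit 286, nat_lit 416, nat_lit 312, nat_lit 312])
noncomputable def r298 : WT := (.leaf (nat_lit 111644) [nat_lit 312, nat_lit 312, nat_lit 52, nat_lit 156, nat_lit 52, nat_lit 286, nat_lit 286, nat_lit 286, nat_lit 286, nat_lit 416, nat_lit 312, nat_lit 312, nat_lit 416, nat_lit 286, nat_lit 286, nat_lit 286])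
noncomputable def r299 : WT := (.leaf (nat_lit 113672) [nat_lit 286, nat_lit 286, nat_lit 286, nat_lit 286, nat_lit 286, nat_lit 286, nat_lit 416, nat_lit 312, nat_lit 312, nat_lit 312, nat_lit 416, nat_lit 286, nat_lit 52, nat_lit 208, nat_lit 52, nat_lit 312])
noncomputable def r300 : WT := (.leaf (nat_lit 115736) [nat_lit 52, nat_lit 260, nat_lit 52, nat_lit 286, nat_lit 286, nat_lit 416, nat_lit 312, nat_lit 312, nat_lit 416, nat_lit 286, nat_lit 286, nat_lit 286])
noncomputable def r301 : WT := (.node (nat_lit 46) (.node (nat_lit 44) r294 (.node (nat_lit 45) r295 (.leaf (nat_lit 88072) [nat_lit 442, nat_lit 390, nat_lit 312, nat_lit 442, nat_lit 78, nat_lit 286, nat_lit 416, nat_lit 442, nat_lit 286]))) (.node (nat_lit 49) (.node (nat_lit 47) (.leaf (nat_lit 62468) [nat_lit 78, nat_lit 390, nat_lit 78]) (.node (nat_lit 48) r296 r297)) (.node (nat_lit 50) r298 (.node (nat_lit 51) r299 r300))))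
noncomputable def r302 : WT := (.node (nat_lit 24) (.node (nat_lit 20) (.node (nat_lit 18) (.leaf (nat_lit 67603) [nat_lit 130, nat_lit 156, nat_lit 130, nat_lit 156, nat_lit 78, nat_lit 156, nat_lit 260, nat_lit 390, nat_lit 208]) (.node (nat_lit 19) (.leaf (nat_lit 88066) [nat_lit 442, nat_lit 286, nat_lit 416, nat_lit 442, nat_lit 390, nat_lit 312, nat_lit 442, nat_lit 78, nat_lit 286]) r272)) (.node (nat_lit 22) (.node (nat_lit 21) (.leaf (nat_lit 66579) [nat_lit 130, nat_lit 156, nat_lit 130, nat_lit 156, nat_lit 78, nat_lit 130, nat_lit 182, nat_lit 390, nat_lit 182]) (.leaf (nat_lit 68621) [nat_lit 78, nat_lit 130, nat_lit 182, nat_lit 234, nat_lit 390, nat_lit 234])) (.node (nat_lit 23) (.leaf (nat_lit 64529) [nat_lit 130, nat_lit 156, nat_lit 130, nat_lit 156, nat_lit 130, nat_lit 234, nat_lit 390, nat_lit 130]) r273))) (.node (nat_lit 30) (.node (nat_lit 26) (.node (nat_lit 25) r274 (.leaf (nat_lit 65545) [nat_lit 156, nat_lit 208, nat_lit 390, nat_lit 156])) (.node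 (nat_lit 28) r276 r278)) (.node (nat_lit 37) (.node (nat_lit 33) r281 r286) (.node (nat_lit 43) r293 r301))))
noncomputable def w14 : WT := (.node (nat_lit 1) (.leaf (nat_lit 11266) [nat_lit 390]) (.node (nat_lit 7) (.node (nat_lit 3) (.node (nat_lit 2) (.leaf (nat_lit 69636) [nat_lit 260, nat_lit 208, nat_lit 156, nat_lit 78, nat_lit 156, nat_lit 130, nat_lit 156, nat_lit 130, nat_lit 390, nat_lit 260]) (.leaf (nat_lit 67588) [nat_lit 260, nat_lit 156, nat_lit 78, nat_lit 156, nat_lit 130, nat_lit 156, nat_lit 130, nat_lit 390, nat_lit 208])) (.node (nat_lit 5) r267 r268)) (.node (nat_lit 12) (.node (nat_lit 9) r269 r270) (.node (nat_lit 17) r271 r302))))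
noncomputable def r303 : WT := (.node (nat_lit 4) (.leaf (nat_lit 79872) [nat_lit 234, nat_lit 468, nat_lit 234]) (.leaf (nat_lit 108546) [nat_lit 52, nat_lit 468, nat_lit 52]))
noncomputable def r304 : WT := (.node (nat_lit 6) (.leaf (nat_lit 76800) [nat_lit 156, nat_lit 468, nat_lit 208, nat_lit 156, nat_lit 130, nat_lit 156, nat_lit 130]) (.leaf (nat_lit 80896) [nat_lit 260, nat_lit 468, nat_lit 260, nat_lit 234, nat_lit 156, nat_lit 130]))
noncomputable def r305 : WT := (.node (nat_lit 8) (.leaf (nat_lit 80905) [nat_lit 260, nat_lit 468, nat_lit 130, nat_lit 156, nat_lit 234, nat_lit 260]) (.leaf (nat_lit 82948) [nat_lit 312, nat_lit 338, nat_lit 286, nat_lit 442, nat_lit 286, nat_lit 338]))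
noncomputable def r306 : WT := (.node (nat_lit 11) (.node (nat_lit 10) (.leaf (nat_lit 86019) [nat_lit 390, nat_lit 338, nat_lit 442, nat_lit 364, nat_lit 416, nat_lit 364, nat_lit 416]) (.leaf (nat_lit 76811) [nat_lit 156, nat_lit 468, nat_lit 130, nat_lit 156, nat_lit 130, nat_lit 156, nat_lit 208])) (.node (nat_lit 12) (.leaf (nat_lit 82956) [nat_lit 286, nat_lit 338, nat_lit 442, nat_lit 312, nat_lit 338, nat_lit 286]) (.node (nat_lit 13) (.leaf (nat_lit 78848) [nat_lit 208, nat_lit 468, nat_lit 234, nat_lit 208, nat_lit 130, nat_lit 156, nat_lit 130]) (.leaf (nat_lit 88080) [nat_lit 78, nat_lit 286, nat_lit 416, nat_lit 442, nat_lit 286, nat_lit 416, nat_lit 442, nat_lit 390, nat_lit 312]))))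
noncomputable def r307 : WT := (.leaf (nat_lit 102407) [nat_lit 520, nat_lit 442, nat_lit 104, nat_lit 286, nat_lit 494, nat_lit 312, nat_lit 468, nat_lit 286, nat_lit 520, nat_lit 312, nat_lit 104, nat_lit 468, nat_lit 494])
noncomputable def r308 : WT := (.node (nat_lit 25) (.leaf (nat_lit 75791) [nat_lit 130, nat_lit 468, nat_lit 130, nat_lit 156, nat_lit 130, nat_lit 156, nat_lit 130, nat_lit 182, nat_lit 234]) r307)
noncomputable def r309 : WT := (.leaf (nat_lit 102424) [nat_lit 104, nat_lit 286, nat_lit 494, nat_lit 312, nat_lit 442, nat_lit 286, nat_lit 520, nat_lit 312, nat_lit 104, nat_lit 468, nat_lit 494, nat_lit 468, nat_lit 520])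
noncomputable def r310 : WT := (.leaf (nat_lit 103434) [nat_lit 390, nat_lit 182, nat_lit 494, nat_lit 416, nat_lit 442, nat_lit 390, nat_lit 520, nat_lit 182, nat_lit 416, nat_lit 468, nat_lit 390, nat_lit 494, nat_lit 416])
noncomputable def r311 : WT := (.node (nat_lit 27) (.leaf (nat_lit 77837) [nat_lit 182, nat_lit 468, nat_lit 130, nat_lit 156, nat_lit 130, nat_lit 156, nat_lit 130, nat_lit 234]) (.node (nat_lit 28) r309 r310))
noncomputable def r312 : WT := (.leaf (nat_lit 103444) [nat_lit 390, nat_lit 520, nat_lit 182, nat_lit 416, nat_lit 468, nat_lit 390, nat_lit 494, nat_lit 416, nat_lit 442, nat_lit 390, nat_lit 182, nat_lit 494, nat_lit 416])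
noncomputable def r313 : WT := (.leaf (nat_lit 102411) [nat_lit 104, nat_lit 286, nat_lit 494, nat_lit 312, nat_lit 468, nat_lit 286, nat_lit 520, nat_lit 312, nat_lit 104, nat_lit 468, nat_lit 494, nat_lit 442, nat_lit 520])
noncomputable def r314 : WT := (.node (nat_lit 31) (.node (nat_lit 30) r312 (.leaf (nat_lit 88074) [nat_lit 390, nat_lit 312, nat_lit 442, nat_lit 78, nat_lit 286, nat_lit 416, nat_lit 442, nat_lit 286, nat_lit 416])) (.node (nat_lit 32) (.leaf (nat_lit 73728) [nat_lit 78, nat_lit 468, nat_lit 78]) r313))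
noncomputable def r315 : WT := (.node (nat_lit 19) (.node (nat_lit 16) (.node (nat_lit 15) (.leaf (nat_lit 86025) [nat_lit 364, nat_lit 416, nat_lit 364, nat_lit 416, nat_lit 442, nat_lit 390, nat_lit 338]) (.leaf (nat_lit 78859) [nat_lit 208, nat_lit 468, nat_lit 130, nat_lit 156, nat_lit 130, nat_lit 208, nat_lit 234])) (.node (nat_lit 17) (.leaf (nat_lit 89093) [nat_lit 312, nat_lit 312, nat_lit 468, nat_lit 312, nat_lit 442, nat_lit 312, nat_lit 312, nat_lit 468, nat_lit 312]) (.node (nat_lit 18) (.leaf (nat_lit 88068) [nat_lit 286, nat_lit 416, nat_lit 442, nat_lit 390, nat_lit 312, nat_lit 442, nat_lit 78, nat_lit 286, nat_lit 416]) (.leaf (nat_lit 77824) [nat_lit 182, nat_lit 468, nat_lit 234, nat_lit 130, nat_lit 156, nat_lit 130, nat_lit 156, nat_lit 130])))) (.node (nat_lit 23) (.node (nat_lit 21) (.node (nat_lit 20) (.leaf (nat_lit 75776) [nat_lit 130, nat_lit 468, nat_lit 234, nat_lit 182, nat_lit 130, nat_lit 156, nat_lit 130, nat_lit 156, nat_lit 130]) (.leaf (nat_lit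 83974) [nat_lit 286, nat_lit 338, nat_lit 442, nat_lit 364, nat_lit 286, nat_lit 286, nat_lit 364])) (.node (nat_lit 22) (.leaf (nat_lit 83980) [nat_lit 364, nat_lit 286, nat_lit 286, nat_lit 364, nat_lit 442, nat_lit 286, nat_lit 338]) (.leaf (nat_lit 87041) [nat_lit 364, nat_lit 442, nat_lit 364, nat_lit 442, nat_lit 364, nat_lit 442, nat_lit 364]))) (.node (nat_lit 26) (.node (nat_lit 24) (.leaf (nat_lit 89096) [nat_lit 286, nat_lit 286, nat_lit 468, nat_lit 286, nat_lit 442, nat_lit 286, nat_lit 286, nat_lit 468, nat_lit 286]) r308) (.node (nat_lit 29) r311 r314))))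
noncomputable def w15 : WT := (.node (nat_lit 1) (.leaf (nat_lit 12288) [nat_lit 468]) (.node (nat_lit 5) (.node (nat_lit 2) (.leaf (nat_lit 81920) [nat_lit 442, nat_lit 442]) (.node (nat_lit 3) (.leaf (nat_lit 74752) [nat_lit 104, nat_lit 468, nat_lit 104]) r303)) (.node (nat_lit 9) (.node (nat_lit 7) r304 r305) (.node (nat_lit 14) r306 r315))))
noncomputable def r316 : WT := (.node (nat_lit 4) (.leaf (nat_lit 80900) [nat_lit 260, nat_lit 234, nat_lit 156, nat_lit 130, nat_lit 442, nat_lit 260]) (.leaf (nat_lit 78852) [nat_lit 234, nat_lit 208, nat_lit 130, nat_lit 156, nat_lit 130, nat_lit 442, nat_lit 208]))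
noncomputable def r317 : WT := (.node (nat_lit 6) (.leaf (nat_lit 79876) [nat_lit 234, nat_lit 442, nat_lit 234]) (.leaf (nat_lit 74756) [nat_lit 104, nat_lit 442, nat_lit 104]))
noncomputable def r318 : WT := (.node (nat_lit 8) (.leaf (nat_lit 108550) [nat_lit 52, nat_lit 442, nat_lit 52]) (.leaf (nat_lit 75780) [nat_lit 234, nat_lit 182, nat_lit 130, nat_lit 156, nat_lit 130, nat_lit 156, nat_lit 130, nat_lit 442, nat_lit 130]))
noncomputable def r319 : WT := (.node (nat_lit 11) (.node (nat_lit 10) (.leaf (nat_lit 82945) [nat_lit 312, nat_lit 364, nat_lit 286, nat_lit 468, nat_lit 364, nat_lit 312]) (.leaf (nat_lit 77828) [nat_lit 234, nat_lit 130, nat_lit 156, nat_lit 130, nat_lit 156, nat_lit 130, nat_lit 442, nat_lit 182])) (.node (nat_lit 12) (.leaf (nat_lit 86028) [nat_lit 390, nat_lit 338, nat_lit 390, nat_lit 338, nat_lit 468, nat_lit 364, nat_lit 416]) (.leaf (nat_lit 77841) [nat_lit 130, nat_lit 156, nat_lit 130, nat_lit 156, nat_lit 130, nat_lit 234, nat_lit 442,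 nat_lit 182])))
noncomputable def r320 : WT := (.leaf (nat_lit 102403) [nat_lit 494, nat_lit 442, nat_lit 520, nat_lit 442, nat_lit 104, nat_lit 286, nat_lit 494, nat_lit 312, nat_lit 468, nat_lit 286, nat_lit 520, nat_lit 312, nat_lit 104])
noncomputable def r321 : WT := (.node (nat_lit 22) (.leaf (nat_lit 83971) [nat_lit 364, nat_lit 312, nat_lit 468, nat_lit 338, nat_lit 312, nat_lit 312, nat_lit 338]) r320)
noncomputable def r322 : WT := (.node (nat_lit 25) (.leaf (nat_lit 89089) [nat_lit 312, nat_lit 442, nat_lit 312, nat_lit 312, nat_lit 468, nat_lit 312, nat_lit 442, nat_lit 312, nat_lit 312]) (.leaf (nat_lit 88067) [nat_lit 286, nat_lit 416, nat_lit 468, nat_lit 390, nat_lit 312, nat_lit 468, nat_lit 390, nat_lit 312, nat_lit 78]))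
noncomputable def r323 : WT := (.leaf (nat_lit 102420) [nat_lit 520, nat_lit 442, nat_lit 104, nat_lit 286, nat_lit 494, nat_lit 312, nat_lit 442, nat_lit 286, nat_lit 520, nat_lit 312, nat_lit 104, nat_lit 468, nat_lit 494])
noncomputable def r324 : WT := (.node (nat_lit 27) r323 (.leaf (nat_lit 75795) [nat_lit 130, nat_lit 156, nat_lit 130, nat_lit 156, nat_lit 130, nat_lit 182, nat_lit 234, nat_lit 442, nat_lit 130]))
noncomputable def r325 : WT := (.leaf (nat_lit 102416) [nat_lit 494, nat_lit 468, nat_lit 520, nat_lit 442, nat_lit 104, nat_lit 286, nat_lit 494, nat_lit 312, nat_lit 442, nat_lit 286, nat_lit 520, nat_lit 312, nat_lit 104])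
noncomputable def r326 : WT := (.leaf (nat_lit 103426) [nat_lit 390, nat_lit 494, nat_lit 416, nat_lit 442, nat_lit 390, nat_lit 182, nat_lit 494, nat_lit 416, nat_lit 442, nat_lit 390, nat_lit 520, nat_lit 182, nat_lit 416])
noncomputable def r327 : WT := (.leaf (nat_lit 103441) [nat_lit 390, nat_lit 520, nat_lit 416, nat_lit 442, nat_lit 390, nat_lit 182, nat_lit 494, nat_lit 416, nat_lit 468, nat_lit 390, nat_lit 520, nat_lit 182, nat_lit 416])
noncomputable def r328 : WT := (.leaf (nat_lit 103431) [nat_lit 390, nat_lit 520, nat_lit 182, nat_lit 416, nat_lit 468, nat_lit 390, nat_lit 520, nat_lit 416, nat_lit 442, nat_lit 390, nat_lit 182, nat_lit 494, nat_lit 416])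
noncomputable def r329 : WT := (.node (nat_lit 30) (.node (nat_lit 29) r325 r326) (.node (nat_lit 31) r327 (.node (nat_lit 32) (.leaf (nat_lit 73732) [nat_lit 78, nat_lit 442, nat_lit 78]) r328)))
noncomputable def r330 : WT := (.node (nat_lit 18) (.node (nat_lit 15) (.node (nat_lit 14) (.leaf (nat_lit 82953) [nat_lit 364, nat_lit 312, nat_lit 468, nat_lit 312, nat_lit 364, nat_lit 286]) (.leaf (nat_lit 76815) [nat_lit 130, nat_lit 156, nat_lit 130, nat_lit 156, nat_lit 208, nat_lit 442, nat_lit 156])) (.node (nat_lit 16) (.leaf (nat_lit 86022) [nat_lit 364, nat_lit 416, nat_lit 468, nat_lit 390, nat_lit 338, nat_lit 390, nat_lit 338]) (.node (nat_lit 17) (.leaf (nat_lit 88079) [nat_lit 390, nat_lit 312, nat_lit 78, nat_lit 468, nat_lit 286, nat_lit 416, nat_lit 468, nat_lit 390, nat_lit 312]) (.leaf (nat_lit 80909) [nat_lit 130, nat_lit 156, nat_lit 234, nat_lit 260, nat_lit 442, nat_lit 260])))) (.node (nat_lit 23) (.node (nat_lit 20) (.node (nat_lit 19) (.leaf (nat_lit 78863)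 [nat_lit 130, nat_lit 156, nat_lit 130, nat_lit 208, nat_lit 234, nat_lit 442, nat_lit 208]) (.leaf (nat_lit 87042) [nat_lit 338, nat_lit 468, nat_lit 338, nat_lit 468, nat_lit 338, nat_lit 468, nat_lit 338])) (.node (nat_lit 21) (.leaf (nat_lit 88073) [nat_lit 390, nat_lit 312, nat_lit 468, nat_lit 390, nat_lit 312, nat_lit 78, nat_lit 468, nat_lit 286, nat_lit 416]) r321)) (.node (nat_lit 26) (.node (nat_lit 24) (.leaf (nat_lit 89092) [nat_lit 286, nat_lit 442, nat_lit 286, nat_lit 286, nat_lit 468, nat_lit 286, nat_lit 442, nat_lit 286, nat_lit 286]) r322) (.node (nat_lit 28) r324 r329))))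
noncomputable def w16 : WT := (.node (nat_lit 1) (.leaf (nat_lit 12290) [nat_lit 442]) (.node (nat_lit 5) (.node (nat_lit 2) (.leaf (nat_lit 81921) [nat_lit 468, nat_lit 468]) (.node (nat_lit 3) (.leaf (nat_lit 76804) [nat_lit 208, nat_lit 156, nat_lit 130, nat_lit 156, nat_lit 130, nat_lit 442, nat_lit 156]) r316)) (.node (nat_lit 9) (.node (nat_lit 7) r317 r318) (.node (nat_lit 13) r319 r330))))
noncomputable def r331 : WT := (.node (nat_lit 7) (.leaf (nat_lit 99330) [nat_lit 364, nat_lit 520, nat_lit 338]) (.leaf (nat_lit 93184) [nat_lit 156, nat_lit 520, nat_lit 156, nat_lit 104]))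
noncomputable def r332 : WT := (.node (nat_lit 9) (.leaf (nat_lit 94208) [nat_lit 182, nat_lit 520, nat_lit 182]) (.node (nat_lit 10) (.leaf (nat_lit 96256) [nat_lit 234, nat_lit 520, nat_lit 234]) (.leaf (nat_lit 95232) [nat_lit 208, nat_lit 520, nat_lit 208, nat_lit 104])))
noncomputable def r333 : WT := (.leaf (nat_lit 103430) [nat_lit 416, nat_lit 442, nat_lit 390, nat_lit 182, nat_lit 494, nat_lit 416, nat_lit 442, nat_lit 390, nat_lit 520, nat_lit 182, nat_lit 416, nat_lit 468, nat_lit 390])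
noncomputable def r334 : WT := (.node (nat_lit 19) (.leaf (nat_lit 92167) [nat_lit 130, nat_lit 520, nat_lit 78, nat_lit 182, nat_lit 234]) (.leaf (nat_lit 90121) [nat_lit 78, nat_lit 520, nat_lit 78, nat_lit 130, nat_lit 182, nat_lit 234]))
noncomputable def r335 : WT := (.leaf (nat_lit 103427) [nat_lit 416, nat_lit 468, nat_lit 390, nat_lit 520, nat_lit 182, nat_lit 416, nat_lit 468, nat_lit 390, nat_lit 520, nat_lit 416, nat_lit 442, nat_lit 390, nat_lit 182])
noncomputable def r336 : WT := (.leaf (nat_lit 101396) [nat_lit 286, nat_lit 416, nat_lit 156, nat_lit 364, nat_lit 416, nat_lit 286, nat_lit 494, nat_lit 312, nat_lit 390, nat_lit 338, nat_lit 156, nat_lit 390, nat_lit 312])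
noncomputable def r337 : WT := (.node (nat_lit 21) r335 (.node (nat_lit 22) (.leaf (nat_lit 100362) [nat_lit 286, nat_lit 494, nat_lit 312, nat_lit 338, nat_lit 286, nat_lit 520, nat_lit 312, nat_lit 520, nat_lit 286, nat_lit 338, nat_lit 312]) r336))
noncomputable def r338 : WT := (.leaf (nat_lit 103440) [nat_lit 416, nat_lit 442, nat_lit 390, nat_lit 520, nat_lit 182, nat_lit 416, nat_lit 468, nat_lit 390, nat_lit 494, nat_lit 416, nat_lit 442, nat_lit 390, nat_lit 182])
noncomputable def r339 : WT := (.leaf (nat_lit 102418) [nat_lit 468, nat_lit 520, nat_lit 442, nat_lit 104, nat_lit 286, nat_lit 494, nat_lit 312, nat_lit 442, nat_lit 286, nat_lit 520, nat_lit 312, nat_lit 104, nat_lit 468])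
noncomputable def r340 : WT := (.leaf (nat_lit 102405) [nat_lit 442, nat_lit 520, nat_lit 442, nat_lit 104, nat_lit 286, nat_lit 494, nat_lit 312, nat_lit 468, nat_lit 286, nat_lit 520, nat_lit 312, nat_lit 104, nat_lit 468])
noncomputable def r341 : WT := (.node (nat_lit 25) (.node (nat_lit 24) r338 (.leaf (nat_lit 100373) [nat_lit 286, nat_lit 494, nat_lit 312, nat_lit 364, nat_lit 286, nat_lit 520, nat_lit 312, nat_lit 520, nat_lit 286, nat_lit 364, nat_lit 312])) (.node (nat_lit 26) r339 r340))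
noncomputable def r342 : WT := (.node (nat_lit 13) (.node (nat_lit 12) (.leaf (nat_lit 92160) [nat_lit 130, nat_lit 520, nat_lit 234, nat_lit 182, nat_lit 78]) (.leaf (nat_lit 97280) [nat_lit 260, nat_lit 520, nat_lit 260, nat_lit 104])) (.node (nat_lit 17) (.node (nat_lit 15) (.node (nat_lit 14) (.leaf (nat_lit 93189) [nat_lit 156, nat_lit 520, nat_lit 104, nat_lit 156]) (.leaf (nat_lit 90112) [nat_lit 78, nat_lit 520, nat_lit 234, nat_lit 182, nat_lit 130, nat_lit 78])) (.node (nat_lit 16) (.leaf (nat_lit 116738) [nat_lit 52, nat_lit 494, nat_lit 52, nat_lit 494, nat_lit 52, nat_lit 494, nat_lit 52, nat_lit 494, nat_lit 52]) r333)) (.node (nat_lit 20) (.node (nat_lit 18) (.leaf (nat_lit 100366) [nat_lit 312, nat_lit 338, nat_lit 286, nat_lit 520, nat_lit 312, nat_lit 520, nat_lit 286, nat_lit 338, nat_lit 312, nat_lit 494, nat_lit 286]) r334) (.node (nat_lit 23) r337 r341))))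
noncomputable def w17 : WT := (.node (nat_lit 1) (.leaf (nat_lit 13312) [nat_lit 520]) (.node (nat_lit 5) (.node (nat_lit 3) (.node (nat_lit 2) (.leaf (nat_lit 98304) [nat_lit 494, nat_lit 494]) (.leaf (nat_lit 97285) [nat_lit 260, nat_lit 520, nat_lit 104, nat_lit 260])) (.node (nat_lit 4) (.leaf (nat_lit 91136) [nat_lit 104, nat_lit 520, nat_lit 156]) (.leaf (nat_lit 99329) [nat_lit 338, nat_lit 520, nat_lit 364]))) (.node (nat_lit 8) (.node (nat_lit 6) (.leaf (nat_lit 95237) [nat_lit 208, nat_lit 520, nat_lit 104, nat_lit 208]) r331) (.node (nat_lit 11) r332 r342))))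
noncomputable def r343 : WT := (.node (nat_lit 7) (.leaf (nat_lit 93188) [nat_lit 156, nat_lit 104, nat_lit 494, nat_lit 156]) (.leaf (nat_lit 99334) [nat_lit 338, nat_lit 494, nat_lit 364]))
noncomputable def r344 : WT := (.node (nat_lit 9) (.leaf (nat_lit 90116) [nat_lit 234, nat_lit 182, nat_lit 130, nat_lit 78, nat_lit 494, nat_lit 78]) (.node (nat_lit 10) (.leaf (nat_lit 92164) [nat_lit 234, nat_lit 182, nat_lit 78, nat_lit 494, nat_lit 130]) (.leaf (nat_lit 94212) [nat_lit 182, nat_lit 494, nat_lit 182])))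
noncomputable def r345 : WT := (.leaf (nat_lit 103448) [nat_lit 182, nat_lit 416, nat_lit 468, nat_lit 390, nat_lit 494, nat_lit 416, nat_lit 442, nat_lit 390, nat_lit 182, nat_lit 494, nat_lit 416, nat_lit 442, nat_lit 390])
noncomputable def r346 : WT := (.node (nat_lit 19) (.leaf (nat_lit 100354) [nat_lit 286, nat_lit 338, nat_lit 312, nat_lit 494, nat_lit 286, nat_lit 494, nat_lit 312, nat_lit 338, nat_lit 286, nat_lit 520, nat_lit 312]) (.leaf (nat_lit 97289) [nat_lit 104, nat_lit 260, nat_lit 494, nat_lit 260]))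
noncomputable def r347 : WT := (.leaf (nat_lit 102422) [nat_lit 442, nat_lit 104, nat_lit 286, nat_lit 494, nat_lit 312, nat_lit 442, nat_lit 286, nat_lit 520, nat_lit 312, nat_lit 104, nat_lit 468, nat_lit 494, nat_lit 468])
noncomputable def r348 : WT := (.node (nat_lit 21) r347 (.leaf (nat_lit 95241) [nat_lit 104, nat_lit 208, nat_lit 494, nat_lit 208]))
noncomputable def r349 : WT := (.leaf (nat_lit 101397) [nat_lit 312, nat_lit 390, nat_lit 338, nat_lit 156, nat_lit 390, nat_lit 312, nat_lit 520, nat_lit 286, nat_lit 416, nat_lit 156, nat_lit 364, nat_lit 416, nat_lit 286])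
noncomputable def r350 : WT := (.node (nat_lit 23) r349 (.node (nat_lit 24) (.leaf (nat_lit 100365) [nat_lit 286, nat_lit 364, nat_lit 312, nat_lit 494, nat_lit 286, nat_lit 494, nat_lit 312, nat_lit 364, nat_lit 286, nat_lit 520, nat_lit 312]) (.leaf (nat_lit 100361) [nat_lit 312, nat_lit 520, nat_lit 286, nat_lit 364, nat_lit 312, nat_lit 494, nat_lit 286, nat_lit 494, nat_lit 312, nat_lit 364, nat_lit 286])))
noncomputable def r351 : WT := (.leaf (nat_lit 103435) [nat_lit 182, nat_lit 416, nat_lit 468, nat_lit 390, nat_lit 520, nat_lit 416, nat_lit 442, nat_lit 390, nat_lit 182, nat_lit 494, nat_lit 416, nat_lit 468, nat_lit 390])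
noncomputable def r352 : WT := (.leaf (nat_lit 103445) [nat_lit 416, nat_lit 442, nat_lit 390, nat_lit 182, nat_lit 494, nat_lit 416, nat_lit 468, nat_lit 390, nat_lit 520, nat_lit 182, nat_lit 416, nat_lit 468, nat_lit 390])
noncomputable def r353 : WT := (.leaf (nat_lit 101383) [nat_lit 286, nat_lit 416, nat_lit 156, nat_lit 364, nat_lit 416, nat_lit 286, nat_lit 520, nat_lit 312, nat_lit 390, nat_lit 338, nat_lit 156, nat_lit 390, nat_lit 312])
noncomputable def r354 : WT := (.leaf (nat_lit 102425) [nat_lit 312, nat_lit 104, nat_lit 468, nat_lit 494, nat_lit 442, nat_lit 520, nat_lit 442, nat_lit 104, nat_lit 286, nat_lit 494, nat_lit 312, nat_lit 468, nat_lit 286])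
noncomputable def r355 : WT := (.leaf (nat_lit 117761) [nat_lit 104, nat_lit 52, nat_lit 520, nat_lit 104, nat_lit 52, nat_lit 520, nat_lit 104, nat_lit 52, nat_lit 520, nat_lit 104, nat_lit 52, nat_lit 520, nat_lit 104, nat_lit 52])
noncomputable def r356 : WT := (.node (nat_lit 27) (.node (nat_lit 26) r351 r352) (.node (nat_lit 28) r353 (.node (nat_lit 29) r354 r355)))
noncomputable def r357 : WT := (.node (nat_lit 14) (.node (nat_lit 12) (.leaf (nat_lit 96260) [nat_lit 234, nat_lit 494, nat_lit 234]) (.node (nat_lit 13) (.leaf (nat_lit 93193) [nat_lit 104, nat_lit 156, nat_lit 494, nat_lit 156]) (.leaf (nat_lit 90125) [nat_lit 78, nat_lit 130, nat_lit 182, nat_lit 234, nat_lit 494, nat_lit 78]))) (.node (nat_lit 18) (.node (nat_lit 16) (.node (nat_lit 15) (.leaf (nat_lit 92171) [nat_lit 78, nat_lit 182, nat_lit 234, nat_lit 494, nat_lit 130]) (.leaf (nat_lit 116737) [nat_lit 52, nat_lit 520, nat_lit 52, nat_lit 520, nat_lit 52, nat_lit 520, nat_lit 52, nat_lit 520, nat_lit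 52])) (.node (nat_lit 17) (.leaf (nat_lit 100374) [nat_lit 312, nat_lit 520, nat_lit 286, nat_lit 338, nat_lit 312, nat_lit 494, nat_lit 286, nat_lit 494, nat_lit 312, nat_lit 338, nat_lit 286]) r345)) (.node (nat_lit 22) (.node (nat_lit 20) r346 r348) (.node (nat_lit 25) r350 r356))))
noncomputable def w18 : WT := (.node (nat_lit 2) (.node (nat_lit 1) (.leaf (nat_lit 13314) [nat_lit 494]) (.leaf (nat_lit 98305) [nat_lit 520, nat_lit 520])) (.node (nat_lit 5) (.node (nat_lit 3) (.leaf (nat_lit 97284) [nat_lit 260, nat_lit 104, nat_lit 494, nat_lit 260]) (.node (nat_lit 4) (.leaf (nat_lit 99333) [nat_lit 364, nat_lit 494, nat_lit 338]) (.leaf (nat_lit 95236) [nat_lit 208, nat_lit 104, nat_lit 494, nat_lit 208]))) (.node (nat_lit 8) (.node (nat_lit 6) (.leaf (nat_lit 91140) [nat_lit 156, nat_lit 494, nat_lit 104]) r343) (.node (nat_lit 11) r344 r357))))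
noncomputable def r358 : WT := (.node (nat_lit 4) (.leaf (nat_lit 49152) [nat_lit 286, nat_lit 234, nat_lit 312, nat_lit 234, nat_lit 182, nat_lit 130, nat_lit 156, nat_lit 130, nat_lit 156, nat_lit 130]) (.leaf (nat_lit 45068) [nat_lit 130, nat_lit 156, nat_lit 130, nat_lit 286, nat_lit 130, nat_lit 312, nat_lit 234, nat_lit 130, nat_lit 156]))
noncomputable def r359 : WT := (.node (nat_lit 6) (.leaf (nat_lit 63494) [nat_lit 234, nat_lit 208, nat_lit 104, nat_lit 156, nat_lit 130, nat_lit 156, nat_lit 130, nat_lit 390, nat_lit 104, nat_lit 416]) (.leaf (nat_lit 50183) [nat_lit 286, nat_lit 260, nat_lit 312, nat_lit 156, nat_lit 208, nat_lit 260]))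
noncomputable def r360 : WT := (.node (nat_lit 8) (.leaf (nat_lit 109583) [nat_lit 52, nat_lit 130, nat_lit 156, nat_lit 286, nat_lit 156, nat_lit 130, nat_lit 52, nat_lit 416]) (.node (nat_lit 9) (.leaf (nat_lit 65542) [nat_lit 208, nat_lit 156, nat_lit 390, nat_lit 156, nat_lit 416]) (.leaf (nat_lit 50184) [nat_lit 208, nat_lit 156, nat_lit 286, nat_lit 260, nat_lit 312, nat_lit 260])))
noncomputable def r361 : WT := (.node (nat_lit 11) (.leaf (nat_lit 77828) [nat_lit 468, nat_lit 234, nat_lit 130, nat_lit 156, nat_lit 130, nat_lit 156, nat_lit 130, nat_lit 442, nat_lit 182]) (.node (nat_lit 12) (.leaf (nat_lit 47109) [nat_lit 286, nat_lit 182, nat_lit 312, nat_lit 130, nat_lit 182]) (.leaf (nat_lit 16386) [nat_lit 156, nat_lit 78, nat_lit 156, nat_lit 78])))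
noncomputable def r362 : WT := (.leaf (nat_lit 102418) [nat_lit 494, nat_lit 468, nat_lit 520, nat_lit 442, nat_lit 104, nat_lit 286, nat_lit 494, nat_lit 312, nat_lit 442, nat_lit 286, nat_lit 520, nat_lit 312, nat_lit 104, nat_lit 468])
noncomputable def r363 : WT := (.node (nat_lit 15) (.node (nat_lit 14) (.leaf (nat_lit 45066) [nat_lit 156, nat_lit 130, nat_lit 156, nat_lit 130, nat_lit 286, nat_lit 130, nat_lit 312, nat_lit 234, nat_lit 130]) (.leaf (nat_lit 35846) [nat_lit 208, nat_lit 130, nat_lit 156, nat_lit 130, nat_lit 156, nat_lit 182, nat_lit 208, nat_lit 182])) (.node (nat_lit 16) r362 (.node (nat_lit 17) (.leaf (nat_lit 55300) [nat_lit 364, nat_lit 234, nat_lit 338, nat_lit 182]) (.leaf (nat_lit 53248) [nat_lit 338, nat_lit 130, nat_lit 364, nat_lit 234, nat_lit 130, nat_lit 156, nat_lit 130, nat_lit 156, nat_lit 130]))))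
noncomputable def r364 : WT := (.leaf (nat_lit 102411) [nat_lit 442, nat_lit 104, nat_lit 286, nat_lit 494, nat_lit 312, nat_lit 468, nat_lit 286, nat_lit 520, nat_lit 312, nat_lit 104, nat_lit 468, nat_lit 494, nat_lit 442, nat_lit 520])
noncomputable def r365 : WT := (.node (nat_lit 20) (.node (nat_lit 19) (.leaf (nat_lit 105485) [nat_lit 52, nat_lit 156, nat_lit 130, nat_lit 156, nat_lit 130, nat_lit 52, nat_lit 78]) r364) (.node (nat_lit 21) (.leaf (nat_lit 21504) [nat_lit 104, nat_lit 130, nat_lit 104, nat_lit 130]) (.node (nat_lit 22) (.leaf (nat_lit 47108) [nat_lit 312, nat_lit 182, nat_lit 130, nat_lit 286, nat_lit 182]) (.leaf (nat_lit 66575) [nat_lit 390, nat_lit 182, nat_lit 416, nat_lit 130, nat_lit 156, nat_lit 130, nat_lit 156, nat_lit 78, nat_lit 130, nat_lit 182]))))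
noncomputable def r366 : WT := (.node (nat_lit 27) (.node (nat_lit 25) (.node (nat_lit 24) (.leaf (nat_lit 87042) [nat_lit 468, nat_lit 338, nat_lit 468, nat_lit 338, nat_lit 468, nat_lit 338, nat_lit 468, nat_lit 338]) (.leaf (nat_lit 72710) [nat_lit 312, nat_lit 390, nat_lit 364, nat_lit 390, nat_lit 78, nat_lit 286, nat_lit 338, nat_lit 416])) (.node (nat_lit 26) (.leaf (nat_lit 116739) [nat_lit 52, nat_lit 520, nat_lit 52, nat_lit 520, nat_lit 52, nat_lit 520, nat_lit 52, nat_lit 520, nat_lit 52, nat_lit 520]) (.leaf (nat_lit 45061) [nat_lit 130, nat_lit 156, nat_lit 130, nat_lit 234, nat_lit 286, nat_lit 130, nat_lit 312, nat_lit 130, nat_lit 156]))) (.node (nat_lit 29) (.node (nat_lit 28) (.leaf (nat_lit 45067) [nat_lit 234, nat_lit 286, nat_lit 130, nat_lit 312, nat_lit 130, nat_lit 156, nat_lit 130, nat_lit 156, nat_lit 130]) (.leaf (nat_lit 64512) [nat_lit 390, nat_lit 130, nat_lit 416, nat_lit 234, nat_lit 130, nat_lit 156, nat_lit 130, nat_lit 156, nat_lit 130]))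 (.node (nat_lit 30) (.leaf (nat_lit 57350) [nat_lit 234, nat_lit 182, nat_lit 156, nat_lit 130, nat_lit 156, nat_lit 130, nat_lit 338, nat_lit 234, nat_lit 364]) (.node (nat_lit 31) (.leaf (nat_lit 53259) [nat_lit 234, nat_lit 338, nat_lit 130, nat_lit 364, nat_lit 130, nat_lit 156, nat_lit 130, nat_lit 156, nat_lit 130]) (.leaf (nat_lit 45069) [nat_lit 286, nat_lit 130, nat_lit 312, nat_lit 130, nat_lit 156, nat_lit 130, nat_lit 156, nat_lit 130, nat_lit 234])))))
noncomputable def r367 : WT := (.leaf (nat_lit 101383) [nat_lit 520, nat_lit 286, nat_lit 416, nat_lit 156, nat_lit 364, nat_lit 416, nat_lit 286, nat_lit 520, nat_lit 312, nat_lit 390, nat_lit 338, nat_lit 156, nat_lit 390, nat_lit 312])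
noncomputable def r368 : WT := (.leaf (nat_lit 118790) [nat_lit 52, nat_lit 520, nat_lit 52, nat_lit 104, nat_lit 520, nat_lit 52, nat_lit 520, nat_lit 52, nat_lit 104, nat_lit 520, nat_lit 52, nat_lit 520, nat_lit 52, nat_lit 104, nat_lit 520, nat_lit 52, nat_lit 520, nat_lit 52, nat_lit 104, nat_lit 520, nat_lit 52, nat_lit 520, nat_lit 338, nat_lit 52, nat_lit 104, nat_lit 520])
noncomputable def r369 : WT := (.leaf (nat_lit 113668) [nat_lit 52, nat_lit 312, nat_lit 416, nat_lit 286, nat_lit 286, nat_lit 286, nat_lit 286, nat_lit 286, nat_lit 286, nat_lit 416, nat_lit 312, nat_lit 312, nat_lit 312, nat_lit 416, nat_lit 286, nat_lit 52, nat_lit 208])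
noncomputable def r370 : WT := (.leaf (nat_lit 111647) [nat_lit 156, nat_lit 52, nat_lit 286, nat_lit 286, nat_lit 390, nat_lit 312, nat_lit 312, nat_lit 312, nat_lit 390, nat_lit 286, nat_lit 286, nat_lit 390, nat_lit 312, nat_lit 312, nat_lit 312, nat_lit 312, nat_lit 52])
noncomputable def r371 : WT := (.leaf (nat_lit 103449) [nat_lit 442, nat_lit 390, nat_lit 182, nat_lit 494, nat_lit 416, nat_lit 468, nat_lit 390, nat_lit 520, nat_lit 182, nat_lit 416, nat_lit 468, nat_lit 390, nat_lit 520, nat_lit 416])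
noncomputable def r372 : WT := (.leaf (nat_lit 103427) [nat_lit 494, nat_lit 416, nat_lit 468, nat_lit 390, nat_lit 520, nat_lit 182, nat_lit 416, nat_lit 468, nat_lit 390, nat_lit 520, nat_lit 416, nat_lit 442, nat_lit 390, nat_lit 182])
noncomputable def r373 : WT := (.leaf (nat_lit 103438) [nat_lit 182, nat_lit 494, nat_lit 416, nat_lit 442, nat_lit 390, nat_lit 520, nat_lit 182, nat_lit 416, nat_lit 468, nat_lit 390, nat_lit 494, nat_lit 416, nat_lit 442, nat_lit 390])
noncomputable def r374 : WT := (.leaf (nat_lit 103430) [nat_lit 494, nat_lit 416, nat_lit 442, nat_lit 390, nat_lit 182, nat_lit 494, nat_lit 416, nat_lit 442, nat_lit 390, nat_lit 520, nat_lit 182, nat_lit 416, nat_lit 468, nat_lit 390])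
noncomputable def r375 : WT := (.leaf (nat_lit 102424) [nat_lit 442, nat_lit 104, nat_lit 286, nat_lit 494, nat_lit 312, nat_lit 442, nat_lit 286, nat_lit 520, nat_lit 312, nat_lit 104, nat_lit 468, nat_lit 494, nat_lit 468, nat_lit 520])
noncomputable def r376 : WT := (.node (nat_lit 37) (.node (nat_lit 34) (.node (nat_lit 33) r367 (.leaf (nat_lit 60417) [nat_lit 364, nat_lit 364, nat_lit 364])) (.node (nat_lit 35) r368 (.node (nat_lit 36) r369 r370))) (.node (nat_lit 39) (.node (nat_lit 38) r371 r372) (.node (nat_lit 40) r373 (.node (nat_lit 41) r374 r375))))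
noncomputable def r377 : WT := (.leaf (nat_lit 102416) [nat_lit 468, nat_lit 494, nat_lit 468, nat_lit 520, nat_lit 442, nat_lit 104, nat_lit 286, nat_lit 494, nat_lit 312, nat_lit 442, nat_lit 286, nat_lit 520, nat_lit 312, nat_lit 104])
noncomputable def r378 : WT := (.leaf (nat_lit 101398) [nat_lit 286, nat_lit 416, nat_lit 156, nat_lit 364, nat_lit 416, nat_lit 286, nat_lit 494, nat_lit 312, nat_lit 390, nat_lit 338, nat_lit 156, nat_lit 390, nat_lit 312, nat_lit 494])
noncomputable def r379 : WT := (.leaf (nat_lit 101382) [nat_lit 494, nat_lit 312, nat_lit 390, nat_lit 338, nat_lit 156, nat_lit 390, nat_lit 312, nat_lit 494, nat_lit 286, nat_lit 416, nat_lit 156, nat_lit 364, nat_lit 416, nat_lit 286])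
noncomputable def r380 : WT := (.leaf (nat_lit 112652) [nat_lit 286, nat_lit 416, nat_lit 286, nat_lit 286, nat_lit 286, nat_lit 416, nat_lit 312, nat_lit 52, nat_lit 182, nat_lit 52, nat_lit 312, nat_lit 416, nat_lit 286])
noncomputable def r381 : WT := (.leaf (nat_lit 118825) [nat_lit 52, nat_lit 494, nat_lit 52, nat_lit 494, nat_lit 104, nat_lit 52, nat_lit 364, nat_lit 494, nat_lit 52, nat_lit 494, nat_lit 104, nat_lit 52, nat_lit 494, nat_lit 52, nat_lit 494, nat_lit 104, nat_lit 52, nat_lit 494, nat_lit 52, nat_lit 494, nat_lit 104, nat_lit 52, nat_lit 494, nat_lit 52, nat_lit 494, nat_lit 104])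
noncomputable def r382 : WT := (.node (nat_lit 47) (.node (nat_lit 44) (.node (nat_lit 43) r377 (.leaf (nat_lit 66574) [nat_lit 130, nat_lit 156, nat_lit 130, nat_lit 390, nat_lit 182, nat_lit 416, nat_lit 182, nat_lit 130, nat_lit 78, nat_lit 156])) (.node (nat_lit 45) r378 (.node (nat_lit 46) r379 r380))) (.node (nat_lit 49) (.node (nat_lit 48) (.leaf (nat_lit 100375) [nat_lit 286, nat_lit 494, nat_lit 312, nat_lit 364, nat_lit 286, nat_lit 520, nat_lit 312, nat_lit 520, nat_lit 286, nat_lit 364, nat_lit 312, nat_lit 494]) (.leaf (nat_lit 100361) [nat_lit 520, nat_lit 312, nat_lit 520, nat_lit 286, nat_lit 364, nat_lit 312, nat_lit 494, nat_lit 286, nat_lit 494, nat_lit 312, nat_lit 364, nat_lit 286])) (.node (nat_lit 50) (.leaf (nat_lit 100353) [nat_lit 494, nat_lit 312, nat_lit 364, nat_lit 286, nat_lit 520, nat_lit 312, nat_lit 520, nat_lit 286, nat_lit 364, nat_lit 312, nat_lit 494, nat_lit 286]) (.node (nat_lit 51) (.leaf (nat_lit 69639) [nat_lit 156, nat_lit 78, nat_lit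 156, nat_lit 208, nat_lit 260, nat_lit 390, nat_lit 260, nat_lit 416, nat_lit 130, nat_lit 156, nat_lit 130]) r381))))
noncomputable def r383 : WT := (.node (nat_lit 57) (.node (nat_lit 54) (.node (nat_lit 53) (.leaf (nat_lit 67586) [nat_lit 208, nat_lit 416, nat_lit 260, nat_lit 156, nat_lit 78, nat_lit 156, nat_lit 130, nat_lit 156, nat_lit 130, nat_lit 390]) (.leaf (nat_lit 71680) [nat_lit 286, nat_lit 416, nat_lit 286, nat_lit 416])) (.node (nat_lit 55) (.leaf (nat_lit 48128) [nat_lit 286, nat_lit 208, nat_lit 312, nat_lit 260, nat_lit 156]) (.node (nat_lit 56) (.leaf (nat_lit 47112) [nat_lit 130, nat_lit 286, nat_lit 182, nat_lit 312, nat_lit 182]) (.leaf (nat_lit 46082) [nat_lit 156, nat_lit 312, nat_lit 208, nat_lit 156, nat_lit 286])))) (.node (nat_lit 59) (.node (nat_lit 58) (.leaf (nat_lit 108548) [nat_lit 52, nat_lit 468, nat_lit 52, nat_lit 442]) (.leaf (nat_lit 107526) [nat_lit 364, nat_lit 52, nat_lit 338, nat_lit 52])) (.node (nat_lit 60) (.leaf (nat_lit 106502)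 [nat_lit 312, nat_lit 52, nat_lit 286, nat_lit 52]) (.node (nat_lit 61) (.leaf (nat_lit 94208) [nat_lit 494, nat_lit 182, nat_lit 520, nat_lit 182]) (.leaf (nat_lit 91140) [nat_lit 520, nat_lit 156, nat_lit 494, nat_lit 104])))))
noncomputable def r384 : WT := (.node (nat_lit 67) (.node (nat_lit 64) (.node (nat_lit 63) (.leaf (nat_lit 71683) [nat_lit 312, nat_lit 390, nat_lit 312, nat_lit 390]) (.leaf (nat_lit 48130) [nat_lit 208, nat_lit 312, nat_lit 260, nat_lit 156, nat_lit 286])) (.node (nat_lit 65) (.leaf (nat_lit 54272) [nat_lit 338, nat_lit 156, nat_lit 364, nat_lit 156]) (.node (nat_lit 66) (.leaf (nat_lit 44038) [nat_lit 104, nat_lit 286, nat_lit 104, nat_lit 312]) (.leaf (nat_lit 39938) [nat_lit 260, nat_lit 208, nat_lit 260, nat_lit 208])))) (.node (nat_lit 69) (.node (nat_lit 68) (.leaf (nat_lit 33792) [nat_lit 156, nat_lit 234, nat_lit 156, nat_lit 234]) (.leaf (nat_lit 31744) [nat_lit 156, nat_lit 182, nat_lit 156, nat_lit 182])) (.node (nat_lit 70) (.leaf (nat_lit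 30720) [nat_lit 130, nat_lit 260, nat_lit 130, nat_lit 260]) (.node (nat_lit 71) (.leaf (nat_lit 28674) [nat_lit 208, nat_lit 130, nat_lit 208, nat_lit 130]) (.leaf (nat_lit 27650) [nat_lit 182, nat_lit 130, nat_lit 182, nat_lit 130])))))
noncomputable def r385 : WT := (.node (nat_lit 77) (.node (nat_lit 74) (.node (nat_lit 73) (.leaf (nat_lit 15362) [nat_lit 130, nat_lit 78, nat_lit 130, nat_lit 78]) (.leaf (nat_lit 90116) [nat_lit 520, nat_lit 234, nat_lit 182, nat_lit 130, nat_lit 78, nat_lit 494, nat_lit 78])) (.node (nat_lit 75) (.leaf (nat_lit 109572) [nat_lit 52, nat_lit 130, nat_lit 156, nat_lit 312, nat_lit 156, nat_lit 130, nat_lit 52, nat_lit 390]) (.node (nat_lit 76) (.leaf (nat_lit 109568) [nat_lit 52, nat_lit 390, nat_lit 52, nat_lit 130, nat_lit 156, nat_lit 312, nat_lit 156, nat_lit 130]) (.leaf (nat_lit 86029) [nat_lit 416, nat_lit 364, nat_lit 416, nat_lit 442, nat_lit 390, nat_lit 338, nat_lit 442, nat_lit 364])))) (.node (nat_lit 79) (.node (nat_lit 78) (.leaf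 (nat_lit 86021) [nat_lit 390, nat_lit 338, nat_lit 442, nat_lit 364, nat_lit 416, nat_lit 364, nat_lit 416, nat_lit 442]) (.leaf (nat_lit 76811) [nat_lit 442, nat_lit 156, nat_lit 468, nat_lit 130, nat_lit 156, nat_lit 130, nat_lit 156, nat_lit 208])) (.node (nat_lit 80) (.leaf (nat_lit 72704) [nat_lit 286, nat_lit 338, nat_lit 416, nat_lit 312, nat_lit 390, nat_lit 364, nat_lit 390, nat_lit 78]) (.node (nat_lit 81) (.leaf (nat_lit 14347) [nat_lit 78, nat_lit 104, nat_lit 78, nat_lit 156, nat_lit 130, nat_lit 156, nat_lit 130, nat_lit 104]) (.leaf (nat_lit 14342) [nat_lit 104, nat_lit 130, nat_lit 156, nat_lit 130, nat_lit 156, nat_lit 78, nat_lit 104, nat_lit 78])))))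
noncomputable def r386 : WT := (.node (nat_lit 87) (.node (nat_lit 84) (.node (nat_lit 83) (.leaf (nat_lit 90117) [nat_lit 182, nat_lit 234, nat_lit 494, nat_lit 78, nat_lit 520, nat_lit 78, nat_lit 130]) (.leaf (nat_lit 109580) [nat_lit 156, nat_lit 130, nat_lit 52, nat_lit 390, nat_lit 52, nat_lit 130, nat_lit 156, nat_lit 312])) (.node (nat_lit 85) (.leaf (nat_lit 68617) [nat_lit 390, nat_lit 234, nat_lit 416, nat_lit 78, nat_lit 130, nat_lit 182, nat_lit 234]) (.node (nat_lit 86) (.leaf (nat_lit 92164) [nat_lit 520, nat_lit 234, nat_lit 182, nat_lit 78, nat_lit 494, nat_lit 130]) (.leaf (nat_lit 50179) [nat_lit 208, nat_lit 260, nat_lit 286, nat_lit 260, nat_lit 312, nat_lit 156])))) (.node (nat_lit 89) (.node (nat_lit 88) (.leaf (nat_lit 93192) [nat_lit 104, nat_lit 494, nat_lit 156, nat_lit 520, nat_lit 156]) (.leaf (nat_lit 65538) [nat_lit 156, nat_lit 416, nat_lit 208, nat_lit 156, nat_lit 390])) (.node (nat_lit 90) (.leaf (nat_lit 61445) [nat_lit 338, nat_lit 312, nat_lit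 364, nat_lit 286, nat_lit 286]) (.node (nat_lit 91) (.leaf (nat_lit 61444) [nat_lit 364, nat_lit 312, nat_lit 312, nat_lit 338, nat_lit 286]) (.leaf (nat_lit 48135) [nat_lit 208, nat_lit 312, nat_lit 156, nat_lit 260, nat_lit 286])))))
noncomputable def wP : WT := (.node (nat_lit 18) (.node (nat_lit 5) (.node (nat_lit 2) (.node (nat_lit 1) (.leaf (nat_lit 45056) [nat_lit 286, nat_lit 130, nat_lit 312, nat_lit 234, nat_lit 130, nat_lit 156, nat_lit 130, nat_lit 156, nat_lit 130]) (.leaf (nat_lit 50176) [nat_lit 286, nat_lit 260, nat_lit 312, nat_lit 260, nat_lit 208, nat_lit 156])) (.node (nat_lit 3) (.leaf (nat_lit 105476) [nat_lit 52, nat_lit 130, nat_lit 156, nat_lit 130, nat_lit 156, nat_lit 52, nat_lit 78]) r358)) (.node (nat_lit 10) (.node (nat_lit 7) r359 r360) (.node (nat_lit 13) r361 r363))) (.node (nat_lit 52) (.node (nat_lit 32) (.node (nat_lit 23) r365 r366) (.node (nat_lit 42) r376 r382)) (.node (nat_lit 72) (.node (nat_lit 62) r383 r384) (.node (nat_lit 82) r385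 r386))))
noncomputable def P : Par := ⟨tb, nat_lit 546, nat_lit 0x3ffffffffffffffffffffffffffffffffffffffffffffffffffffffffffffffffffffffffffffffffffffffffffffffffffffffffffffffffffffffffffffffffffffffff, nat_lit 10374, nat_lit 67108863, nat_lit 16383, nat_lit 26, nat_lit 14, nat_lit 759,
  [nat_lit 52, nat_lit 78, nat_lit 104, nat_lit 130, nat_lit 156, nat_lit 182, nat_lit 208, nat_lit 234, nat_lit 260, nat_lit 286, nat_lit 312, nat_lit 338, nat_lit 364, nat_lit 390, nat_lit 416, nat_lit 442, nat_lit 468, nat_lit 494, nat_lit 520], [nat_lit 78, nat_lit 104, nat_lit 130, nat_lit 156, nat_lit 182, nat_lit 208, nat_lit 234, nat_lit 260, nat_lit 286, nat_lit 338, nat_lit 390, nat_lit 442, nat_lit 494], wP,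
  (.cons (nat_lit 52) w0 (.cons (nat_lit 78) w1 (.cons (nat_lit 104) w2 (.cons (nat_lit 130) w3 (.cons (nat_lit 156) w4 (.cons (nat_lit 182) w5 (.cons (nat_lit 208) w6 (.cons (nat_lit 234) w7 (.cons (nat_lit 260) w8 (.cons (nat_lit 286) w9 (.cons (nat_lit 312) w10 (.cons (nat_lit 338) w11 (.cons (nat_lit 364) w12 (.cons (nat_lit 390) w13 (.cons (nat_lit 416) w14 (.cons (nat_lit 442) w15 (.cons (nat_lit 468) w16 (.cons (nat_lit 494) w17 (.cons (nat_lit 520) w18 .nil))))))))))))))))))),
  .nil⟩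

end Cfsg.Agent.Lib.TCCo1a
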