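import Cfsg.Agent.Lib.TCCo1bD0

set_option autoImplicit false
set_option maxRecDepth 100000

namespace Cfsg.Agent.Lib.TCCo1b
open Cfsg.Agent.Lib.TCCore

noncomputable def tb : T := (.node (nat_lit 371) (.node (nat_lit 159) (.node (nat_lit 53) l0 (.node (nat_lit 106) l1 l2)) (.node (nat_lit 265) (.node (nat_lit 212) l3 l4) (.node (nat_lit 318) l5 l6))) (.node (nat_lit 583) (.node (nat_lit 477) (.node (nat_lit 424) l7 l8) (.node (nat_lit 530) l9 l10)) (.node (nat_lit 689) (.node (nat_lit 636) l11 l12) (.node (nat_lit 742) l13 l14))))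
noncomputable def r0 : WT := (.node (nat_lit 9) (.leaf (nat_lit 72706) [nat_lit 306, nat_lit 36, nat_lit 288]) (.node (nat_lit 10) (.leaf (nat_lit 72710) [nat_lit 288, nat_lit 36, nat_lit 306]) (.node (nat_lit 11) (.leaf (nat_lit 15360) [nat_lit 90, nat_lit 36, nat_lit 90]) (.leaf (nat_lit 89100) [nat_lit 324, nat_lit 36, nat_lit 342, nat_lit 144, nat_lit 108, nat_lit 72]))))
noncomputable def w0 : WT := (.node (nat_lit 3) (.node (nat_lit 1) (.leaf (nat_lit 50178) [nat_lit 234, nat_lit 36, nat_lit 216]) (.node (nat_lit 2) (.leaf (nat_lit 41990) [nat_lit 180, nat_lit 36, nat_lit 198]) (.leaf (nat_lit 41986) [nat_lit 198, nat_lit 36, nat_lit 180]))) (.node (nat_lit 5) (.node (nat_lit 4) (.leaf (nat_lit 61446) [nat_lit 252, nat_lit 36, nat_lit 270]) (.leaf (nat_lit 50182) [nat_lit 216, nat_lit 36, nat_lit 234])) (.node (nat_lit 7) (.node (nat_lit 6) (.leaf (nat_lit 89090) [nat_lit 342, nat_lit 144, nat_lit 108, nat_lit 72, nat_lit 36, nat_lit 324]) (.leaf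 (nat_lit 61442) [nat_lit 270, nat_lit 36, nat_lit 252])) (.node (nat_lit 8) (.leaf (nat_lit 91146) [nat_lit 324, nat_lit 72, nat_lit 342, nat_lit 144, nat_lit 108]) r0))))
noncomputable def r1 : WT := (.node (nat_lit 10) (.leaf (nat_lit 1024) [nat_lit 54]) (.node (nat_lit 11) (.leaf (nat_lit 20480) [nat_lit 72, nat_lit 54, nat_lit 72]) (.leaf (nat_lit 96264) [nat_lit 324, nat_lit 162, nat_lit 342, nat_lit 162])))
noncomputable def w1 : WT := (.node (nat_lit 3) (.node (nat_lit 1) (.leaf (nat_lit 43010) [nat_lit 198, nat_lit 54, nat_lit 180]) (.node (nat_lit 2) (.leaf (nat_lit 43014) [nat_lit 180, nat_lit 54, nat_lit 198]) (.leaf (nat_lit 51202) [nat_lit 234, nat_lit 54, nat_lit 216]))) (.node (nat_lit 6) (.node (nat_lit 4) (.leaf (nat_lit 90114) [nat_lit 342, nat_lit 90, nat_lit 324]) (.node (nat_lit 5) (.leaf (nat_lit 51206) [nat_lit 216, nat_lit 54, nat_lit 234]) (.leaf (nat_lit 92168) [nat_lit 324, nat_lit 90, nat_lit 342, nat_lit 90]))) (.node (nat_lit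 8) (.node (nat_lit 7) (.leaf (nat_lit 73734) [nat_lit 288, nat_lit 54, nat_lit 306]) (.leaf (nat_lit 62466) [nat_lit 270, nat_lit 144, nat_lit 126, nat_lit 54, nat_lit 90, nat_lit 72, nat_lit 90, nat_lit 72, nat_lit 252])) (.node (nat_lit 9) (.leaf (nat_lit 73730) [nat_lit 306, nat_lit 54, nat_lit 288]) r1))))
noncomputable def w2 : WT := (.node (nat_lit 3) (.node (nat_lit 1) (.leaf (nat_lit 52226) [nat_lit 234, nat_lit 144, nat_lit 72, nat_lit 90, nat_lit 72, nat_lit 90, nat_lit 72, nat_lit 216]) (.node (nat_lit 2) (.leaf (nat_lit 44034) [nat_lit 198, nat_lit 144, nat_lit 72, nat_lit 90, nat_lit 72, nat_lit 90, nat_lit 72, nat_lit 180]) (.leaf (nat_lit 91138) [nat_lit 342, nat_lit 144, nat_lit 108, nat_lit 36, nat_lit 324]))) (.node (nat_lit 5) (.node (nat_lit 4) (.leaf (nat_lit 89098) [nat_lit 36, nat_lit 324, nat_lit 36, nat_lit 342, nat_lit 144, nat_lit 108]) (.leaf (nat_lit 74754) [nat_lit 306, nat_lit 144, nat_lit 108, nat_lit 72, nat_lit 90, nat_lit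 72, nat_lit 90, nat_lit 72, nat_lit 288])) (.node (nat_lit 6) (.leaf (nat_lit 2048) [nat_lit 72]) (.node (nat_lit 7) (.leaf (nat_lit 63490) [nat_lit 270, nat_lit 144, nat_lit 72, nat_lit 90, nat_lit 72, nat_lit 90, nat_lit 72, nat_lit 252]) (.leaf (nat_lit 20482) [nat_lit 54, nat_lit 72, nat_lit 54])))))
noncomputable def r2 : WT := (.node (nat_lit 10) (.leaf (nat_lit 64519) [nat_lit 270, nat_lit 90, nat_lit 126, nat_lit 252]) (.node (nat_lit 11) (.leaf (nat_lit 92166) [nat_lit 54, nat_lit 324, nat_lit 90, nat_lit 342]) (.leaf (nat_lit 92163) [nat_lit 324, nat_lit 90, nat_lit 342, nat_lit 54])))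
noncomputable def w3 : WT := (.node (nat_lit 4) (.node (nat_lit 2) (.node (nat_lit 1) (.leaf (nat_lit 53250) [nat_lit 234, nat_lit 90, nat_lit 216]) (.leaf (nat_lit 45058) [nat_lit 198, nat_lit 126, nat_lit 90, nat_lit 180])) (.node (nat_lit 3) (.leaf (nat_lit 75778) [nat_lit 306, nat_lit 126, nat_lit 90, nat_lit 72, nat_lit 90, nat_lit 72, nat_lit 288]) (.leaf (nat_lit 92162) [nat_lit 342, nat_lit 90, nat_lit 54, nat_lit 324]))) (.node (nat_lit 6) (.node (nat_lit 5) (.leaf (nat_lit 3072) [nat_lit 90]) (.leaf (nat_lit 90118) [nat_lit 324, nat_lit 54, nat_lit 342])) (.node (nat_lit 8) (.node (nat_lit 7) (.leaf (nat_lit 64514) [nat_lit 270, nat_lit 126, nat_lit 90, nat_lit 252]) (.leaf (nat_lit 53254) [nat_lit 216, nat_lit 90, nat_lit 234])) (.node (nat_lit 9) (.leaf (nat_lit 13322) [nat_lit 72, nat_lit 90, nat_lit 36, nat_lit 54, nat_lit 36, nat_lit 54, nat_lit 72]) r2))))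
noncomputable def r3 : WT := (.node (nat_lit 10) (.node (nat_lit 9) (.leaf (nat_lit 91144) [nat_lit 36, nat_lit 324, nat_lit 72, nat_lit 342, nat_lit 144]) (.leaf (nat_lit 22530) [nat_lit 54, nat_lit 108, nat_lit 54])) (.node (nat_lit 11) (.leaf (nat_lit 30722) [nat_lit 90, nat_lit 108, nat_lit 90]) (.leaf (nat_lit 56328) [nat_lit 90, nat_lit 72, nat_lit 90, nat_lit 72, nat_lit 216, nat_lit 144, nat_lit 234, nat_lit 144])))
noncomputable def w4 : WT := (.node (nat_lit 3) (.node (nat_lit 1) (.leaf (nat_lit 46082) [nat_lit 198, nat_lit 108, nat_lit 72, nat_lit 180]) (.node (nat_lit 2) (.leaf (nat_lit 54274) [nat_lit 234, nat_lit 144, nat_lit 216]) (.leaf (nat_lit 93190) [nat_lit 324, nat_lit 108, nat_lit 342]))) (.node (nat_lit 5) (.node (nat_lit 4) (.leaf (nat_lit 93186) [nat_lit 342, nat_lit 108, nat_lit 324]) (.leaf (nat_lit 4096) [nat_lit 108])) (.node (nat_lit 7) (.node (nat_lit 6) (.leaf (nat_lit 46083) [nat_lit 180, nat_lit 108, nat_lit 198, nat_lit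 72]) (.leaf (nat_lit 76802) [nat_lit 306, nat_lit 144, nat_lit 72, nat_lit 90, nat_lit 72, nat_lit 90, nat_lit 72, nat_lit 288])) (.node (nat_lit 8) (.leaf (nat_lit 65538) [nat_lit 270, nat_lit 108, nat_lit 72, nat_lit 36, nat_lit 90, nat_lit 72, nat_lit 90, nat_lit 72, nat_lit 252]) r3))))
noncomputable def r4 : WT := (.node (nat_lit 9) (.leaf (nat_lit 57350) [nat_lit 216, nat_lit 162, nat_lit 234]) (.node (nat_lit 10) (.leaf (nat_lit 45062) [nat_lit 90, nat_lit 180, nat_lit 90, nat_lit 198]) (.leaf (nat_lit 64518) [nat_lit 90, nat_lit 252, nat_lit 90, nat_lit 270])))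
noncomputable def w5 : WT := (.node (nat_lit 4) (.node (nat_lit 2) (.node (nat_lit 1) (.leaf (nat_lit 47106) [nat_lit 198, nat_lit 162, nat_lit 90, nat_lit 180]) (.leaf (nat_lit 55298) [nat_lit 234, nat_lit 162, nat_lit 126, nat_lit 90, nat_lit 216])) (.node (nat_lit 3) (.leaf (nat_lit 77826) [nat_lit 306, nat_lit 144, nat_lit 126, nat_lit 72, nat_lit 90, nat_lit 72, nat_lit 288]) (.leaf (nat_lit 94210) [nat_lit 342, nat_lit 126, nat_lit 54, nat_lit 324]))) (.node (nat_lit 6) (.node (nat_lit 5) (.leaf (nat_lit 94214) [nat_lit 54, nat_lit 324, nat_lit 126, nat_lit 342]) (.leaf (nat_lit 45059) [nat_lit 180, nat_lit 90, nat_lit 198, nat_lit 90])) (.node (nat_lit 7) (.leaf (nat_lit 5120) [nat_lit 126]) (.node (nat_lit 8) (.leaf (nat_lit 66562) [nat_lit 270, nat_lit 162, nat_lit 90, nat_lit 36, nat_lit 90, nat_lit 72, nat_lit 90, nat_lit 72, nat_lit 252]) r4))))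
noncomputable def r5 : WT := (.node (nat_lit 8) (.leaf (nat_lit 78854) [nat_lit 288, nat_lit 144, nat_lit 306]) (.leaf (nat_lit 67591) [nat_lit 252, nat_lit 144, nat_lit 270, nat_lit 36, nat_lit 72, nat_lit 108]))
noncomputable def r6 : WT := (.node (nat_lit 11) (.node (nat_lit 10) (.leaf (nat_lit 44038) [nat_lit 72, nat_lit 90, nat_lit 72, nat_lit 90, nat_lit 72, nat_lit 180, nat_lit 72, nat_lit 198]) (.leaf (nat_lit 24578) [nat_lit 54, nat_lit 144, nat_lit 54])) (.node (nat_lit 12) (.leaf (nat_lit 91142) [nat_lit 108, nat_lit 36, nat_lit 324, nat_lit 72, nat_lit 342]) (.node (nat_lit 13) (.leaf (nat_lit 89095) [nat_lit 324, nat_lit 36, nat_lit 342, nat_lit 36, nat_lit 72, nat_lit 108]) (.leaf (nat_lit 52230) [nat_lit 72, nat_lit 90, nat_lit 72, nat_lit 90, nat_lit 72, nat_lit 216, nat_lit 72, nat_lit 234]))))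
noncomputable def w6 : WT := (.node (nat_lit 3) (.node (nat_lit 1) (.leaf (nat_lit 48130) [nat_lit 198, nat_lit 144, nat_lit 108, nat_lit 72, nat_lit 90, nat_lit 72, nat_lit 90, nat_lit 72, nat_lit 180]) (.node (nat_lit 2) (.leaf (nat_lit 56322) [nat_lit 234, nat_lit 144, nat_lit 108, nat_lit 90, nat_lit 72, nat_lit 90, nat_lit 72, nat_lit 216]) (.leaf (nat_lit 95238) [nat_lit 324, nat_lit 144, nat_lit 342]))) (.node (nat_lit 5) (.node (nat_lit 4) (.leaf (nat_lit 95234) [nat_lit 342, nat_lit 144, nat_lit 324]) (.leaf (nat_lit 54278) [nat_lit 216, nat_lit 108, nat_lit 234])) (.node (nat_lit 7) (.node (nat_lit 6) (.leaf (nat_lit 78850) [nat_lit 306, nat_lit 144, nat_lit 288]) (.leaf (nat_lit 67586) [nat_lit 270, nat_lit 144, nat_lit 108, nat_lit 72, nat_lit 36, nat_lit 252])) (.node (nat_lit 9) r5 r6))))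
noncomputable def r7 : WT := (.node (nat_lit 9) (.leaf (nat_lit 55302) [nat_lit 126, nat_lit 90, nat_lit 216, nat_lit 126, nat_lit 234]) (.node (nat_lit 10) (.leaf (nat_lit 47110) [nat_lit 90, nat_lit 180, nat_lit 126, nat_lit 198]) (.leaf (nat_lit 49158) [nat_lit 126, nat_lit 90, nat_lit 180, nat_lit 162, nat_lit 198])))
noncomputable def w7 : WT := (.node (nat_lit 4) (.node (nat_lit 2) (.node (nat_lit 1) (.leaf (nat_lit 49154) [nat_lit 198, nat_lit 162, nat_lit 126, nat_lit 90, nat_lit 180]) (.leaf (nat_lit 57346) [nat_lit 234, nat_lit 126, nat_lit 216])) (.node (nat_lit 3) (.leaf (nat_lit 7168) [nat_lit 162]) (.leaf (nat_lit 47107) [nat_lit 180, nat_lit 126, nat_lit 198, nat_lit 90]))) (.node (nat_lit 6) (.node (nat_lit 5) (.leaf (nat_lit 96258) [nat_lit 342, nat_lit 162, nat_lit 54, nat_lit 324]) (.leaf (nat_lit 96262) [nat_lit 54, nat_lit 324, nat_lit 162, nat_lit 342])) (.node (nat_lit 7) (.leaf (nat_lit 79874) [nat_lit 306, nat_lit 162, nat_lit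 144, nat_lit 90, nat_lit 72, nat_lit 288]) (.node (nat_lit 8) (.leaf (nat_lit 68610) [nat_lit 270, nat_lit 162, nat_lit 126, nat_lit 90, nat_lit 36, nat_lit 90, nat_lit 72, nat_lit 90, nat_lit 72, nat_lit 252]) r7))))
noncomputable def r8 : WT := (.node (nat_lit 6) (.leaf (nat_lit 71689) [nat_lit 252, nat_lit 234, nat_lit 198, nat_lit 36, nat_lit 270, nat_lit 216, nat_lit 270]) (.leaf (nat_lit 58368) [nat_lit 180, nat_lit 180, nat_lit 180, nat_lit 180, nat_lit 180, nat_lit 180]))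
noncomputable def r9 : WT := (.node (nat_lit 9) (.node (nat_lit 8) (.leaf (nat_lit 99340) [nat_lit 324, nat_lit 198, nat_lit 216, nat_lit 180, nat_lit 342, nat_lit 198, nat_lit 342, nat_lit 180, nat_lit 216, nat_lit 198, nat_lit 324]) (.leaf (nat_lit 99351) [nat_lit 324, nat_lit 198, nat_lit 234, nat_lit 180, nat_lit 342, nat_lit 198, nat_lit 342, nat_lit 180, nat_lit 234, nat_lit 198, nat_lit 324])) (.node (nat_lit 11) (.node (nat_lit 10) (.leaf (nat_lit 87046) [nat_lit 270, nat_lit 288, nat_lit 252, nat_lit 198, nat_lit 288, nat_lit 36, nat_lit 180, nat_lit 270, nat_lit 288]) (.leaf (nat_lit 87045) [nat_lit 270, nat_lit 306, nat_lit 252, nat_lit 198, nat_lit 306, nat_lit 252, nat_lit 198, nat_lit 36, nat_lit 306])) (.node (nat_lit 12) (.leaf (nat_lit 99343) [nat_lit 234, nat_lit 198, nat_lit 324, nat_lit 180, nat_lit 324, nat_lit 198, nat_lit 234, nat_lit 180, nat_lit 342, nat_lit 198, nat_lit 342]) (.leaf (nat_lit 99348) [nat_lit 342, nat_lit 198, nat_lit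 342, nat_lit 180, nat_lit 216, nat_lit 198, nat_lit 324, nat_lit 180, nat_lit 324, nat_lit 198, nat_lit 216]))))
noncomputable def w8 : WT := (.node (nat_lit 1) (.leaf (nat_lit 8192) [nat_lit 198]) (.node (nat_lit 3) (.node (nat_lit 2) (.leaf (nat_lit 60419) [nat_lit 216, nat_lit 198, nat_lit 234, nat_lit 180]) (.leaf (nat_lit 60417) [nat_lit 180, nat_lit 216, nat_lit 198, nat_lit 234])) (.node (nat_lit 5) (.node (nat_lit 4) (.leaf (nat_lit 70656) [nat_lit 270, nat_lit 180, nat_lit 270]) (.leaf (nat_lit 60418) [nat_lit 234, nat_lit 198, nat_lit 198, nat_lit 216])) (.node (nat_lit 7) r8 r9))))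
noncomputable def r10 : WT := (.node (nat_lit 6) (.leaf (nat_lit 81933) [nat_lit 306, nat_lit 198, nat_lit 234, nat_lit 180, nat_lit 306, nat_lit 234]) (.leaf (nat_lit 71686) [nat_lit 252, nat_lit 234, nat_lit 252, nat_lit 36, nat_lit 180, nat_lit 216, nat_lit 270]))
noncomputable def r11 : WT := (.node (nat_lit 9) (.node (nat_lit 8) (.leaf (nat_lit 82951) [nat_lit 306, nat_lit 216, nat_lit 198, nat_lit 198, nat_lit 216, nat_lit 306, nat_lit 234]) (.leaf (nat_lit 99328) [nat_lit 342, nat_lit 180, nat_lit 216, nat_lit 198, nat_lit 324, nat_lit 180, nat_lit 324, nat_lit 198, nat_lit 216, nat_lit 180, nat_lit 342])) (.node (nat_lit 11) (.node (nat_lit 10) (.leaf (nat_lit 58369) [nat_lit 198, nat_lit 198, nat_lit 198, nat_lit 198, nat_lit 198, nat_lit 198]) (.leaf (nat_lit 99344) [nat_lit 216, nat_lit 180, nat_lit 342, nat_lit 198, nat_lit 342, nat_lit 180, nat_lit 216, nat_lit 198, nat_lit 324, nat_lit 180, nat_lit 324])) (.node (nat_lit 12) (.leaf (nat_lit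 99331) [nat_lit 234, nat_lit 180, nat_lit 342, nat_lit 198, nat_lit 342, nat_lit 180, nat_lit 234, nat_lit 198, nat_lit 324, nat_lit 180, nat_lit 324]) (.leaf (nat_lit 99339) [nat_lit 342, nat_lit 180, nat_lit 234, nat_lit 198, nat_lit 324, nat_lit 180, nat_lit 324, nat_lit 198, nat_lit 234, nat_lit 180, nat_lit 342]))))
noncomputable def w9 : WT := (.node (nat_lit 1) (.leaf (nat_lit 8194) [nat_lit 180]) (.node (nat_lit 3) (.node (nat_lit 2) (.leaf (nat_lit 60424) [nat_lit 216, nat_lit 180, nat_lit 234, nat_lit 198]) (.leaf (nat_lit 60423) [nat_lit 234, nat_lit 180, nat_lit 180, nat_lit 216])) (.node (nat_lit 5) (.node (nat_lit 4) (.leaf (nat_lit 70659) [nat_lit 252, nat_lit 198, nat_lit 252]) (.leaf (nat_lit 60422) [nat_lit 198, nat_lit 216, nat_lit 180, nat_lit 234])) (.node (nat_lit 7) r10 r11))))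
noncomputable def r12 : WT := (.node (nat_lit 6) (.leaf (nat_lit 81922) [nat_lit 288, nat_lit 198, nat_lit 216, nat_lit 180, nat_lit 288, nat_lit 180]) (.leaf (nat_lit 71685) [nat_lit 270, nat_lit 180, nat_lit 252, nat_lit 234, nat_lit 198, nat_lit 36, nat_lit 270]))
noncomputable def r13 : WT := (.node (nat_lit 9) (.node (nat_lit 8) (.leaf (nat_lit 98304) [nat_lit 324, nat_lit 234, nat_lit 342]) (.leaf (nat_lit 84996) [nat_lit 306, nat_lit 234, nat_lit 270, nat_lit 306, nat_lit 252, nat_lit 216, nat_lit 252])) (.node (nat_lit 10) (.leaf (nat_lit 84992) [nat_lit 252, nat_lit 216, nat_lit 306, nat_lit 234, nat_lit 270, nat_lit 306, nat_lit 252]) (.node (nat_lit 11) (.leaf (nat_lit 82954) [nat_lit 288, nat_lit 234, nat_lit 180, nat_lit 180, nat_lit 234, nat_lit 288, nat_lit 180]) (.node (nat_lit 12) (.leaf (nat_lit 84999) [nat_lit 288, nat_lit 234, nat_lit 270, nat_lit 234, nat_lit 270, nat_lit 288, nat_lit 252]) (.leaf (nat_lit 99346) [nat_lit 180, nat_lit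 342, nat_lit 198, nat_lit 342, nat_lit 180, nat_lit 216, nat_lit 198, nat_lit 324, nat_lit 180, nat_lit 324, nat_lit 198])))))
noncomputable def w10 : WT := (.node (nat_lit 1) (.leaf (nat_lit 9216) [nat_lit 234]) (.node (nat_lit 3) (.node (nat_lit 2) (.leaf (nat_lit 59392) [nat_lit 216, nat_lit 216]) (.leaf (nat_lit 60416) [nat_lit 180, nat_lit 234, nat_lit 198, nat_lit 198])) (.node (nat_lit 5) (.node (nat_lit 4) (.leaf (nat_lit 60421) [nat_lit 198, nat_lit 234, nat_lit 180, nat_lit 180]) (.leaf (nat_lit 98307) [nat_lit 342, nat_lit 234, nat_lit 324])) (.node (nat_lit 7) r12 r13))))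
noncomputable def r14 : WT := (.node (nat_lit 8) (.node (nat_lit 7) (.leaf (nat_lit 71690) [nat_lit 252, nat_lit 36, nat_lit 180, nat_lit 216, nat_lit 270, nat_lit 198, nat_lit 252]) (.leaf (nat_lit 71693) [nat_lit 198, nat_lit 36, nat_lit 270, nat_lit 216, nat_lit 270, nat_lit 180, nat_lit 252])) (.node (nat_lit 9) (.leaf (nat_lit 85003) [nat_lit 270, nat_lit 234, nat_lit 270, nat_lit 288, nat_lit 252, nat_lit 216, nat_lit 288]) (.node (nat_lit 11) (.node (nat_lit 10) (.leaf (nat_lit 85007) [nat_lit 270, nat_lit 288, nat_lit 252, nat_lit 216, nat_lit 288, nat_lit 234, nat_lit 270]) (.leaf (nat_lit 81931) [nat_lit 198, nat_lit 306, nat_lit 198, nat_lit 234, nat_lit 180, nat_lit 306])) (.node (nat_lit 12) (.leaf (nat_lit 85000) [nat_lit 270, nat_lit 306, nat_lit 252, nat_lit 216, nat_lit 252, nat_lit 216, nat_lit 306]) (.leaf (nat_lit 99333) [nat_lit 180, nat_lit 342, nat_lit 198, nat_lit 342, nat_lit 180, nat_lit 234, nat_lit 198, nat_lit 324, nat_lit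 180, nat_lit 324, nat_lit 198])))))
noncomputable def w11 : WT := (.node (nat_lit 1) (.leaf (nat_lit 9218) [nat_lit 216]) (.node (nat_lit 3) (.node (nat_lit 2) (.leaf (nat_lit 59393) [nat_lit 234, nat_lit 234]) (.leaf (nat_lit 60420) [nat_lit 198, nat_lit 198, nat_lit 216, nat_lit 180])) (.node (nat_lit 5) (.node (nat_lit 4) (.leaf (nat_lit 60425) [nat_lit 180, nat_lit 180, nat_lit 216, nat_lit 198]) (.leaf (nat_lit 98311) [nat_lit 324, nat_lit 216, nat_lit 342])) (.node (nat_lit 6) (.leaf (nat_lit 98308) [nat_lit 342, nat_lit 216, nat_lit 324]) r14))))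
noncomputable def r15 : WT := (.leaf (nat_lit 100368) [nat_lit 198, nat_lit 324, nat_lit 180, nat_lit 270, nat_lit 90, nat_lit 234, nat_lit 270, nat_lit 180, nat_lit 324, nat_lit 198, nat_lit 252, nat_lit 216, nat_lit 90])
noncomputable def r16 : WT := (.leaf (nat_lit 102412) [nat_lit 108, nat_lit 324, nat_lit 270, nat_lit 288, nat_lit 252, nat_lit 342, nat_lit 108, nat_lit 270, nat_lit 306, nat_lit 252, nat_lit 324, nat_lit 270, nat_lit 288])
noncomputable def r17 : WT := (.node (nat_lit 7) (.leaf (nat_lit 71692) [nat_lit 36, nat_lit 180, nat_lit 216, nat_lit 270, nat_lit 198, nat_lit 252, nat_lit 234]) (.node (nat_lit 8) r15 r16))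
noncomputable def w12 : WT := (.node (nat_lit 1) (.leaf (nat_lit 10240) [nat_lit 270]) (.node (nat_lit 3) (.node (nat_lit 2) (.leaf (nat_lit 70657) [nat_lit 198, nat_lit 252, nat_lit 198]) (.leaf (nat_lit 85006) [nat_lit 216, nat_lit 252, nat_lit 216, nat_lit 306, nat_lit 234, nat_lit 270, nat_lit 306])) (.node (nat_lit 5) (.node (nat_lit 4) (.leaf (nat_lit 71691) [nat_lit 234, nat_lit 198, nat_lit 36, nat_lit 270, nat_lit 216, nat_lit 270, nat_lit 180]) (.leaf (nat_lit 84994) [nat_lit 216, nat_lit 306, nat_lit 234, nat_lit 270, nat_lit 306, nat_lit 252, nat_lit 216])) (.node (nat_lit 6) (.leaf (nat_lit 71688) [nat_lit 234, nat_lit 252, nat_lit 36, nat_lit 180, nat_lit 216, nat_lit 270, nat_lit 198]) r17))))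
noncomputable def r18 : WT := (.node (nat_lit 5) (.leaf (nat_lit 71687) [nat_lit 180, nat_lit 252, nat_lit 234, nat_lit 198, nat_lit 36, nat_lit 270, nat_lit 216]) (.node (nat_lit 6) (.leaf (nat_lit 87042) [nat_lit 288, nat_lit 180, nat_lit 270, nat_lit 288, nat_lit 252, nat_lit 198, nat_lit 288, nat_lit 36, nat_lit 180]) (.leaf (nat_lit 69633) [nat_lit 270, nat_lit 270, nat_lit 270, nat_lit 270, nat_lit 270, nat_lit 270])))
noncomputable def r19 : WT := (.leaf (nat_lit 100354) [nat_lit 180, nat_lit 324, nat_lit 198, nat_lit 252, nat_lit 216, nat_lit 90, nat_lit 252, nat_lit 198, nat_lit 324, nat_lit 180, nat_lit 270, nat_lit 90, nat_lit 234])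
noncomputable def r20 : WT := (.leaf (nat_lit 100376) [nat_lit 90, nat_lit 234, nat_lit 270, nat_lit 180, nat_lit 324, nat_lit 198, nat_lit 252, nat_lit 216, nat_lit 90, nat_lit 252, nat_lit 198, nat_lit 324, nat_lit 180])
noncomputable def r21 : WT := (.leaf (nat_lit 102400) [nat_lit 306, nat_lit 252, nat_lit 324, nat_lit 270, nat_lit 288, nat_lit 252, nat_lit 108, nat_lit 324, nat_lit 270, nat_lit 288, nat_lit 252, nat_lit 342, nat_lit 108])
noncomputable def r22 : WT := (.node (nat_lit 9) (.node (nat_lit 8) (.leaf (nat_lit 85002) [nat_lit 306, nat_lit 252, nat_lit 216, nat_lit 252, nat_lit 216, nat_lit 306, nat_lit 234]) (.leaf (nat_lit 84993) [nat_lit 288, nat_lit 252, nat_lit 216, nat_lit 288, nat_lit 234, nat_lit 270, nat_lit 234])) (.node (nat_lit 10) r19 (.node (nat_lit 11) r20 r21)))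
noncomputable def w13 : WT := (.node (nat_lit 1) (.leaf (nat_lit 10242) [nat_lit 252]) (.node (nat_lit 2) (.leaf (nat_lit 70658) [nat_lit 180, nat_lit 270, nat_lit 180]) (.node (nat_lit 4) (.node (nat_lit 3) (.leaf (nat_lit 71684) [nat_lit 198, nat_lit 252, nat_lit 234, nat_lit 252, nat_lit 36, nat_lit 180, nat_lit 216]) (.leaf (nat_lit 71683) [nat_lit 216, nat_lit 270, nat_lit 180, nat_lit 252, nat_lit 234, nat_lit 198, nat_lit 36])) (.node (nat_lit 7) r18 r22))))
noncomputable def r23 : WT := (.leaf (nat_lit 101383) [nat_lit 342, nat_lit 288, nat_lit 54, nat_lit 180, nat_lit 324, nat_lit 198, nat_lit 306, nat_lit 180, nat_lit 342, nat_lit 198, nat_lit 54, nat_lit 306, nat_lit 324])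
noncomputable def r24 : WT := (.node (nat_lit 5) r23 (.leaf (nat_lit 81932) [nat_lit 180, nat_lit 216, nat_lit 288, nat_lit 198, nat_lit 216, nat_lit 180]))
noncomputable def r25 : WT := (.leaf (nat_lit 102410) [nat_lit 252, nat_lit 108, nat_lit 324, nat_lit 270, nat_lit 288, nat_lit 252, nat_lit 342, nat_lit 108, nat_lit 270, nat_lit 306, nat_lit 252, nat_lit 324, nat_lit 270])
noncomputable def r26 : WT := (.leaf (nat_lit 102420) [nat_lit 252, nat_lit 342, nat_lit 108, nat_lit 270, nat_lit 306, nat_lit 252, nat_lit 324, nat_lit 270, nat_lit 288, nat_lit 252, nat_lit 108, nat_lit 324, nat_lit 270])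
noncomputable def r27 : WT := (.node (nat_lit 7) (.leaf (nat_lit 87056) [nat_lit 36, nat_lit 180, nat_lit 270, nat_lit 288, nat_lit 180, nat_lit 270, nat_lit 288, nat_lit 252, nat_lit 198]) (.node (nat_lit 8) r25 r26))
noncomputable def w14 : WT := (.node (nat_lit 1) (.leaf (nat_lit 11264) [nat_lit 306]) (.node (nat_lit 2) (.leaf (nat_lit 80896) [nat_lit 288, nat_lit 288]) (.node (nat_lit 4) (.node (nat_lit 3) (.leaf (nat_lit 81924) [nat_lit 198, nat_lit 216, nat_lit 180, nat_lit 288, nat_lit 180, nat_lit 216]) (.leaf (nat_lit 84995) [nat_lit 252, nat_lit 216, nat_lit 288, nat_lit 234, nat_lit 270, nat_lit 234, nat_lit 270])) (.node (nat_lit 6) r24 r27))))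
noncomputable def r28 : WT := (.leaf (nat_lit 101396) [nat_lit 342, nat_lit 288, nat_lit 54, nat_lit 180, nat_lit 324, nat_lit 198, nat_lit 288, nat_lit 180, nat_lit 342, nat_lit 198, nat_lit 54, nat_lit 306, nat_lit 324])
noncomputable def r29 : WT := (.node (nat_lit 5) (.leaf (nat_lit 85004) [nat_lit 252, nat_lit 216, nat_lit 252, nat_lit 216, nat_lit 306, nat_lit 234, nat_lit 270]) (.node (nat_lit 6) (.leaf (nat_lit 81929) [nat_lit 234, nat_lit 198, nat_lit 306, nat_lit 198, nat_lit 234, nat_lit 180]) r28))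
noncomputable def w15 : WT := (.node (nat_lit 1) (.leaf (nat_lit 11266) [nat_lit 288]) (.node (nat_lit 2) (.leaf (nat_lit 80897) [nat_lit 306, nat_lit 306]) (.node (nat_lit 3) (.leaf (nat_lit 84998) [nat_lit 234, nat_lit 270, nat_lit 306, nat_lit 252, nat_lit 216, nat_lit 252, nat_lit 216]) (.node (nat_lit 4) (.leaf (nat_lit 81921) [nat_lit 198, nat_lit 234, nat_lit 180, nat_lit 306, nat_lit 234, nat_lit 198]) r29))))
noncomputable def r30 : WT := (.leaf (nat_lit 100358) [nat_lit 198, nat_lit 252, nat_lit 216, nat_lit 90, nat_lit 252, nat_lit 198, nat_lit 324, nat_lit 180, nat_lit 270, nat_lit 90, nat_lit 234, nat_lit 270, nat_lit 180])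
noncomputable def r31 : WT := (.node (nat_lit 5) (.leaf (nat_lit 99342) [nat_lit 198, nat_lit 216, nat_lit 180, nat_lit 342, nat_lit 198, nat_lit 342, nat_lit 180, nat_lit 216, nat_lit 198, nat_lit 324, nat_lit 180]) r30)
noncomputable def r32 : WT := (.leaf (nat_lit 101394) [nat_lit 306, nat_lit 342, nat_lit 288, nat_lit 54, nat_lit 180, nat_lit 324, nat_lit 198, nat_lit 288, nat_lit 180, nat_lit 342, nat_lit 198, nat_lit 54, nat_lit 306])
noncomputable def r33 : WT := (.leaf (nat_lit 101381) [nat_lit 288, nat_lit 342, nat_lit 288, nat_lit 54, nat_lit 180, nat_lit 324, nat_lit 198, nat_lit 306, nat_lit 180, nat_lit 342, nat_lit 198, nat_lit 54, nat_lit 306])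
noncomputable def r34 : WT := (.node (nat_lit 8) (.node (nat_lit 7) (.leaf (nat_lit 99329) [nat_lit 198, nat_lit 234, nat_lit 180, nat_lit 342, nat_lit 198, nat_lit 342, nat_lit 180, nat_lit 234, nat_lit 198, nat_lit 324, nat_lit 180]) (.leaf (nat_lit 99349) [nat_lit 180, nat_lit 324, nat_lit 198, nat_lit 234, nat_lit 180, nat_lit 342, nat_lit 198, nat_lit 342, nat_lit 180, nat_lit 234, nat_lit 198])) (.node (nat_lit 9) r32 r33))
noncomputable def w16 : WT := (.node (nat_lit 1) (.leaf (nat_lit 12288) [nat_lit 342]) (.node (nat_lit 3) (.node (nat_lit 2) (.leaf (nat_lit 98306) [nat_lit 234, nat_lit 342, nat_lit 216]) (.leaf (nat_lit 98305) [nat_lit 216, nat_lit 342, nat_lit 234])) (.node (nat_lit 4) (.leaf (nat_lit 97280) [nat_lit 324, nat_lit 324]) (.node (nat_lit 6) r31 r34))))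
noncomputable def r35 : WT := (.leaf (nat_lit 101385) [nat_lit 288, nat_lit 54, nat_lit 180, nat_lit 324, nat_lit 198, nat_lit 306, nat_lit 180, nat_lit 342, nat_lit 198, nat_lit 54, nat_lit 306, nat_lit 324, nat_lit 288])
noncomputable def r36 : WT := (.leaf (nat_lit 100359) [nat_lit 180, nat_lit 270, nat_lit 90, nat_lit 234, nat_lit 270, nat_lit 180, nat_lit 342, nat_lit 198, nat_lit 252, nat_lit 216, nat_lit 90, nat_lit 252, nat_lit 198])
noncomputable def r37 : WT := (.leaf (nat_lit 100373) [nat_lit 198, nat_lit 252, nat_lit 216, nat_lit 90, nat_lit 252, nat_lit 198, nat_lit 342, nat_lit 180, nat_lit 270, nat_lit 90, nat_lit 234, nat_lit 270, nat_lit 180])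
noncomputable def r38 : WT := (.leaf (nat_lit 101398) [nat_lit 288, nat_lit 54, nat_lit 180, nat_lit 324, nat_lit 198, nat_lit 288, nat_lit 180, nat_lit 342, nat_lit 198, nat_lit 54, nat_lit 306, nat_lit 324, nat_lit 306])
noncomputable def r39 : WT := (.leaf (nat_lit 102424) [nat_lit 108, nat_lit 270, nat_lit 306, nat_lit 252, nat_lit 324, nat_lit 270, nat_lit 288, nat_lit 252, nat_lit 108, nat_lit 324, nat_lit 270, nat_lit 288, nat_lit 252])
noncomputable def r40 : WT := (.leaf (nat_lit 102421) [nat_lit 270, nat_lit 288, nat_lit 252, nat_lit 108, nat_lit 324, nat_lit 270, nat_lit 306, nat_lit 252, nat_lit 342, nat_lit 108, nat_lit 270, nat_lit 306, nat_lit 252])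
noncomputable def r41 : WT := (.node (nat_lit 8) (.node (nat_lit 6) r35 (.node (nat_lit 7) (.leaf (nat_lit 99341) [nat_lit 180, nat_lit 234, nat_lit 198, nat_lit 324, nat_lit 180, nat_lit 324, nat_lit 198, nat_lit 234, nat_lit 180, nat_lit 342, nat_lit 198]) r36)) (.node (nat_lit 10) (.node (nat_lit 9) r37 r38) (.node (nat_lit 11) r39 r40)))
noncomputable def w17 : WT := (.node (nat_lit 1) (.leaf (nat_lit 12290) [nat_lit 324]) (.node (nat_lit 3) (.node (nat_lit 2) (.leaf (nat_lit 97281) [nat_lit 342, nat_lit 342]) (.leaf (nat_lit 98310) [nat_lit 216, nat_lit 324, nat_lit 234])) (.node (nat_lit 4) (.leaf (nat_lit 98309) [nat_lit 234, nat_lit 324, nat_lit 216]) (.node (nat_lit 5) (.leaf (nat_lit 99330) [nat_lit 180, nat_lit 216, nat_lit 198, nat_lit 324, nat_lit 180, nat_lit 324, nat_lit 198, nat_lit 216, nat_lit 180, nat_lit 342, nat_lit 198]) r41))))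
noncomputable def r42 : WT := (.node (nat_lit 6) (.leaf (nat_lit 55300) [nat_lit 234, nat_lit 162, nat_lit 126, nat_lit 90, nat_lit 216, nat_lit 126]) (.leaf (nat_lit 81930) [nat_lit 180, nat_lit 288, nat_lit 180, nat_lit 216, nat_lit 288, nat_lit 198, nat_lit 216]))
noncomputable def r43 : WT := (.node (nat_lit 9) (.leaf (nat_lit 48140) [nat_lit 90, nat_lit 72, nat_lit 90, nat_lit 72, nat_lit 180, nat_lit 144, nat_lit 198, nat_lit 144, nat_lit 108, nat_lit 72]) (.leaf (nat_lit 65540) [nat_lit 270, nat_lit 108, nat_lit 72, nat_lit 36, nat_lit 90, nat_lit 72, nat_lit 90, nat_lit 72, nat_lit 252, nat_lit 108]))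
noncomputable def r44 : WT := (.leaf (nat_lit 100376) [nat_lit 270, nat_lit 90, nat_lit 234, nat_lit 270, nat_lit 180, nat_lit 324, nat_lit 198, nat_lit 252, nat_lit 216, nat_lit 90, nat_lit 252, nat_lit 198, nat_lit 324, nat_lit 180])
noncomputable def r45 : WT := (.node (nat_lit 11) (.leaf (nat_lit 99339) [nat_lit 198, nat_lit 342, nat_lit 180, nat_lit 234, nat_lit 198, nat_lit 324, nat_lit 180, nat_lit 324, nat_lit 198, nat_lit 234, nat_lit 180, nat_lit 342]) r44)
noncomputable def r46 : WT := (.leaf (nat_lit 101384) [nat_lit 180, nat_lit 342, nat_lit 198, nat_lit 54, nat_lit 306, nat_lit 324, nat_lit 306, nat_lit 342, nat_lit 288, nat_lit 54, nat_lit 180, nat_lit 324, nat_lit 198, nat_lit 288])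
noncomputable def r47 : WT := (.leaf (nat_lit 102421) [nat_lit 342, nat_lit 270, nat_lit 288, nat_lit 252, nat_lit 108, nat_lit 324, nat_lit 270, nat_lit 306, nat_lit 252, nat_lit 342, nat_lit 108, nat_lit 270, nat_lit 306, nat_lit 252])
noncomputable def r48 : WT := (.node (nat_lit 13) r46 r47)
noncomputable def wP : WT := (.node (nat_lit 2) (.node (nat_lit 1) (.leaf (nat_lit 49152) [nat_lit 180, nat_lit 162, nat_lit 198, nat_lit 162, nat_lit 126, nat_lit 90]) (.leaf (nat_lit 44032) [nat_lit 180, nat_lit 72, nat_lit 198, nat_lit 144, nat_lit 72, nat_lit 90, nat_lit 72, nat_lit 90, nat_lit 72])) (.node (nat_lit 7) (.node (nat_lit 4) (.node (nat_lit 3) (.leaf (nat_lit 60424) [nat_lit 198, nat_lit 216, nat_lit 180, nat_lit 234, nat_lit 198]) (.leaf (nat_lit 88073) [nat_lit 198, nat_lit 306, nat_lit 198, nat_lit 288, nat_lit 198, nat_lit 198, nat_lit 306, nat_lit 198, nat_lit 288, nat_lit 198])) (.node (nat_lit 5) (.leaf (nat_lit 73730) [nat_lit 54, nat_lit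 306, nat_lit 54, nat_lit 288]) r42)) (.node (nat_lit 10) (.node (nat_lit 8) (.leaf (nat_lit 76804) [nat_lit 306, nat_lit 144, nat_lit 72, nat_lit 90, nat_lit 72, nat_lit 90, nat_lit 72, nat_lit 288, nat_lit 108]) r43) (.node (nat_lit 12) r45 r48))))
noncomputable def P : Par := ⟨tb, nat_lit 360, nat_lit 0xffffffffffffffffffffffffffffffffffffffffffffffffffffffffffffffffffffffffffffffffffffffffff, nat_lit 758, nat_lit 262143, nat_lit 1023, nat_lit 18, nat_lit 10, nat_lit 15,
  [nat_lit 36, nat_lit 54, nat_lit 72, nat_lit 90, nat_lit 108, nat_lit 126, nat_lit 144, nat_lit 162, nat_lit 180, nat_lit 198, nat_lit 216, nat_lit 234, nat_lit 252, nat_lit 270, nat_lit 288, nat_lit 306, nat_lit 324, nat_lit 342], [nat_lit 36, nat_lit 54, nat_lit 72, nat_lit 90, nat_lit 108, nat_lit 126, nat_lit 144, nat_lit 162, nat_lit 180, nat_lit 216, nat_lit 252, nat_lit 288], wP,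
  (.cons (nat_lit 36) w0 (.cons (nat_lit 54) w1 (.cons (nat_lit 72) w2 (.cons (nat_lit 90) w3 (.cons (nat_lit 108) w4 (.cons (nat_lit 126) w5 (.cons (nat_lit 144) w6 (.cons (nat_lit 162) w7 (.cons (nat_lit 180) w8 (.cons (nat_lit 198) w9 (.cons (nat_lit 216) w10 (.cons (nat_lit 234) w11 (.cons (nat_lit 252) w12 (.cons (nat_lit 270) w13 (.cons (nat_lit 288) w14 (.cons (nat_lit 306) w15 (.cons (nat_lit 324) w16 (.cons (nat_lit 342) w17 .nil)))))))))))))))))),
  .nil⟩

end Cfsg.Agent.Lib.TCCo1b
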