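import Cfsg.Agent.Lib.TCCo1cD0

set_option autoImplicit false
set_option maxRecDepth 100000

namespace Cfsg.Agent.Lib.TCCo1c
open Cfsg.Agent.Lib.TCCore

noncomputable def tb : T := (.node (nat_lit 472) (.node (nat_lit 236) (.node (nat_lit 118) (.node (nat_lit 59) l0 l1) (.node (nat_lit 177) l2 l3)) (.node (nat_lit 354) (.node (nat_lit 295) l4 l5) (.node (nat_lit 413) l6 l7))) (.node (nat_lit 708) (.node (nat_lit 590) (.node (nat_lit 531) l8 l9) (.node (nat_lit 649) l10 l11)) (.node (nat_lit 826) (.node (nat_lit 767) l12 l13) (.node (nat_lit 885) l14 (.node (nat_lit 944) l15 l16)))))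
noncomputable def r0 : WT := (.node (nat_lit 8) (.leaf (nat_lit 71682) [nat_lit 306, nat_lit 36, nat_lit 288]) (.leaf (nat_lit 86017) [nat_lit 306, nat_lit 180, nat_lit 270, nat_lit 306, nat_lit 252, nat_lit 198, nat_lit 306, nat_lit 252, nat_lit 198]))
noncomputable def w0 : WT := (.node (nat_lit 3) (.node (nat_lit 1) (.leaf (nat_lit 40962) [nat_lit 198, nat_lit 36, nat_lit 180]) (.node (nat_lit 2) (.leaf (nat_lit 49158) [nat_lit 216, nat_lit 36, nat_lit 234]) (.leaf (nat_lit 60422) [nat_lit 252, nat_lit 36, nat_lit 270]))) (.node (nat_lit 5) (.node (nat_lit 4) (.leaf (nat_lit 49154) [nat_lit 234, nat_lit 36, nat_lit 216]) (.leaf (nat_lit 40966) [nat_lit 180, nat_lit 36, nat_lit 198])) (.node (nat_lit 6) (.leaf (nat_lit 71686) [nat_lit 288, nat_lit 36, nat_lit 306]) (.node (nat_lit 7) (.leaf (nat_lit 60418) [nat_lit 270, nat_lit 36, nat_lit 252]) r0))))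
noncomputable def w1 : WT := (.node (nat_lit 3) (.node (nat_lit 1) (.leaf (nat_lit 41986) [nat_lit 198, nat_lit 54, nat_lit 180]) (.node (nat_lit 2) (.leaf (nat_lit 41990) [nat_lit 180, nat_lit 54, nat_lit 198]) (.leaf (nat_lit 50178) [nat_lit 234, nat_lit 54, nat_lit 216]))) (.node (nat_lit 5) (.node (nat_lit 4) (.leaf (nat_lit 50182) [nat_lit 216, nat_lit 54, nat_lit 234]) (.leaf (nat_lit 72710) [nat_lit 288, nat_lit 54, nat_lit 306])) (.node (nat_lit 6) (.leaf (nat_lit 72706) [nat_lit 306, nat_lit 54, nat_lit 288]) (.leaf (nat_lit 61442) [nat_lit 270, nat_lit 144, nat_lit 126, nat_lit 54, nat_lit 90, nat_lit 72, nat_lit 90, nat_lit 72, nat_lit 252]))))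
noncomputable def w2 : WT := (.node (nat_lit 2) (.node (nat_lit 1) (.leaf (nat_lit 43010) [nat_lit 198, nat_lit 144, nat_lit 72, nat_lit 90, nat_lit 72, nat_lit 90, nat_lit 72, nat_lit 180]) (.leaf (nat_lit 73730) [nat_lit 306, nat_lit 144, nat_lit 108, nat_lit 72, nat_lit 90, nat_lit 72, nat_lit 90, nat_lit 72, nat_lit 288])) (.node (nat_lit 3) (.leaf (nat_lit 51202) [nat_lit 234, nat_lit 144, nat_lit 72, nat_lit 90, nat_lit 72, nat_lit 90, nat_lit 72, nat_lit 216]) (.node (nat_lit 4) (.leaf (nat_lit 62466) [nat_lit 270, nat_lit 144, nat_lit 72, nat_lit 90, nat_lit 72, nat_lit 90, nat_lit 72, nat_lit 252]) (.node (nat_lit 5) (.leaf (nat_lit 2048) [nat_lit 72]) (.leaf (nat_lit 78860) [nat_lit 288, nat_lit 162, nat_lit 306, nat_lit 162, nat_lit 144, nat_lit 90])))))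
noncomputable def r1 : WT := (.node (nat_lit 6) (.leaf (nat_lit 12298) [nat_lit 72, nat_lit 90, nat_lit 36, nat_lit 54, nat_lit 36, nat_lit 54, nat_lit 72]) (.node (nat_lit 7) (.leaf (nat_lit 3072) [nat_lit 90]) (.node (nat_lit 8) (.leaf (nat_lit 46088) [nat_lit 180, nat_lit 126, nat_lit 198, nat_lit 162]) (.node (nat_lit 9) (.leaf (nat_lit 54282) [nat_lit 216, nat_lit 126, nat_lit 234, nat_lit 162, nat_lit 126]) (.leaf (nat_lit 76812) [nat_lit 72, nat_lit 288, nat_lit 126, nat_lit 306, nat_lit 144, nat_lit 126, nat_lit 72])))))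
noncomputable def w3 : WT := (.node (nat_lit 2) (.node (nat_lit 1) (.leaf (nat_lit 74754) [nat_lit 306, nat_lit 126, nat_lit 90, nat_lit 72, nat_lit 90, nat_lit 72, nat_lit 288]) (.leaf (nat_lit 44034) [nat_lit 198, nat_lit 126, nat_lit 90, nat_lit 180])) (.node (nat_lit 3) (.leaf (nat_lit 52230) [nat_lit 216, nat_lit 90, nat_lit 234]) (.node (nat_lit 4) (.leaf (nat_lit 52226) [nat_lit 234, nat_lit 90, nat_lit 216]) (.node (nat_lit 5) (.leaf (nat_lit 63490) [nat_lit 270, nat_lit 126, nat_lit 90, nat_lit 252]) r1))))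
noncomputable def r2 : WT := (.node (nat_lit 7) (.leaf (nat_lit 45062) [nat_lit 72, nat_lit 180, nat_lit 108, nat_lit 198]) (.node (nat_lit 8) (.leaf (nat_lit 66565) [nat_lit 144, nat_lit 252, nat_lit 144, nat_lit 270, nat_lit 36, nat_lit 72]) (.leaf (nat_lit 55304) [nat_lit 90, nat_lit 72, nat_lit 90, nat_lit 72, nat_lit 216, nat_lit 144, nat_lit 234, nat_lit 144])))
noncomputable def w4 : WT := (.node (nat_lit 2) (.node (nat_lit 1) (.leaf (nat_lit 45058) [nat_lit 198, nat_lit 108, nat_lit 72, nat_lit 180]) (.leaf (nat_lit 75778) [nat_lit 306, nat_lit 144, nat_lit 72, nat_lit 90, nat_lit 72, nat_lit 90, nat_lit 72, nat_lit 288])) (.node (nat_lit 3) (.leaf (nat_lit 53250) [nat_lit 234, nat_lit 144, nat_lit 216]) (.node (nat_lit 5) (.node (nat_lit 4) (.leaf (nat_lit 64514) [nat_lit 270, nat_lit 108, nat_lit 72, nat_lit 36, nat_lit 90, nat_lit 72, nat_lit 90, nat_lit 72, nat_lit 252]) (.leaf (nat_lit 4096) [nat_lit 108])) (.node (nat_lit 6) (.leaf (nat_lit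 45059) [nat_lit 180, nat_lit 108, nat_lit 198, nat_lit 72]) r2))))
noncomputable def r3 : WT := (.node (nat_lit 7) (.node (nat_lit 6) (.leaf (nat_lit 5120) [nat_lit 126]) (.leaf (nat_lit 44035) [nat_lit 180, nat_lit 90, nat_lit 198, nat_lit 90])) (.node (nat_lit 8) (.leaf (nat_lit 44038) [nat_lit 90, nat_lit 180, nat_lit 90, nat_lit 198]) (.node (nat_lit 9) (.leaf (nat_lit 63491) [nat_lit 252, nat_lit 90, nat_lit 270, nat_lit 90]) (.leaf (nat_lit 48136) [nat_lit 90, nat_lit 180, nat_lit 162, nat_lit 198, nat_lit 162]))))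
noncomputable def w5 : WT := (.node (nat_lit 2) (.node (nat_lit 1) (.leaf (nat_lit 76802) [nat_lit 306, nat_lit 144, nat_lit 126, nat_lit 72, nat_lit 90, nat_lit 72, nat_lit 288]) (.leaf (nat_lit 56326) [nat_lit 216, nat_lit 162, nat_lit 234])) (.node (nat_lit 3) (.leaf (nat_lit 46082) [nat_lit 198, nat_lit 162, nat_lit 90, nat_lit 180]) (.node (nat_lit 4) (.leaf (nat_lit 54274) [nat_lit 234, nat_lit 162, nat_lit 126, nat_lit 90, nat_lit 216]) (.node (nat_lit 5) (.leaf (nat_lit 65538) [nat_lit 270, nat_lit 162, nat_lit 90, nat_lit 36, nat_lit 90, nat_lit 72, nat_lit 90, nat_lit 72, nat_lit 252]) r3))))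
noncomputable def r4 : WT := (.node (nat_lit 7) (.leaf (nat_lit 66567) [nat_lit 252, nat_lit 144, nat_lit 270, nat_lit 36, nat_lit 72, nat_lit 108]) (.leaf (nat_lit 43014) [nat_lit 72, nat_lit 90, nat_lit 72, nat_lit 90, nat_lit 72, nat_lit 180, nat_lit 72, nat_lit 198]))
noncomputable def w6 : WT := (.node (nat_lit 2) (.node (nat_lit 1) (.leaf (nat_lit 47106) [nat_lit 198, nat_lit 144, nat_lit 108, nat_lit 72, nat_lit 90, nat_lit 72, nat_lit 90, nat_lit 72, nat_lit 180]) (.leaf (nat_lit 55298) [nat_lit 234, nat_lit 144, nat_lit 108, nat_lit 90, nat_lit 72, nat_lit 90, nat_lit 72, nat_lit 216])) (.node (nat_lit 4) (.node (nat_lit 3) (.leaf (nat_lit 53254) [nat_lit 216, nat_lit 108, nat_lit 234]) (.leaf (nat_lit 77826) [nat_lit 306, nat_lit 144, nat_lit 288])) (.node (nat_lit 5) (.leaf (nat_lit 77830) [nat_lit 288, nat_lit 144, nat_lit 306]) (.node (nat_lit 6) (.leaf (nat_lit 66562) [nat_lit 270, nat_lit 144, nat_lit 108, nat_lit 72, nat_lit 36, nat_lit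 252]) r4))))
noncomputable def r5 : WT := (.node (nat_lit 7) (.node (nat_lit 6) (.leaf (nat_lit 7168) [nat_lit 162]) (.leaf (nat_lit 46083) [nat_lit 180, nat_lit 126, nat_lit 198, nat_lit 90])) (.node (nat_lit 8) (.leaf (nat_lit 46086) [nat_lit 90, nat_lit 180, nat_lit 126, nat_lit 198]) (.node (nat_lit 9) (.leaf (nat_lit 48134) [nat_lit 126, nat_lit 90, nat_lit 180, nat_lit 162, nat_lit 198]) (.leaf (nat_lit 78854) [nat_lit 144, nat_lit 90, nat_lit 72, nat_lit 288, nat_lit 162, nat_lit 306]))))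
noncomputable def w7 : WT := (.node (nat_lit 2) (.node (nat_lit 1) (.leaf (nat_lit 78850) [nat_lit 306, nat_lit 162, nat_lit 144, nat_lit 90, nat_lit 72, nat_lit 288]) (.leaf (nat_lit 48130) [nat_lit 198, nat_lit 162, nat_lit 126, nat_lit 90, nat_lit 180])) (.node (nat_lit 3) (.leaf (nat_lit 54278) [nat_lit 126, nat_lit 90, nat_lit 216, nat_lit 126, nat_lit 234]) (.node (nat_lit 4) (.leaf (nat_lit 56322) [nat_lit 234, nat_lit 126, nat_lit 216]) (.node (nat_lit 5) (.leaf (nat_lit 67586) [nat_lit 270, nat_lit 162, nat_lit 126, nat_lit 90, nat_lit 36, nat_lit 90, nat_lit 72, nat_lit 90, nat_lit 72, nat_lit 252]) r5))))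
noncomputable def r6 : WT := (.node (nat_lit 5) (.leaf (nat_lit 59394) [nat_lit 234, nat_lit 198, nat_lit 198, nat_lit 216]) (.leaf (nat_lit 80896) [nat_lit 216, nat_lit 288, nat_lit 198, nat_lit 216, nat_lit 180, nat_lit 288]))
noncomputable def r7 : WT := (.node (nat_lit 7) (.leaf (nat_lit 70665) [nat_lit 252, nat_lit 234, nat_lit 198, nat_lit 36, nat_lit 270, nat_lit 216, nat_lit 270]) (.node (nat_lit 8) (.leaf (nat_lit 87046) [nat_lit 288, nat_lit 180, nat_lit 180, nat_lit 306, nat_lit 180, nat_lit 288, nat_lit 180, nat_lit 180, nat_lit 306]) (.leaf (nat_lit 82944) [nat_lit 288, nat_lit 180, nat_lit 288, nat_lit 180, nat_lit 288, nat_lit 180, nat_lit 288])))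
noncomputable def r8 : WT := (.node (nat_lit 11) (.node (nat_lit 10) (.leaf (nat_lit 81928) [nat_lit 216, nat_lit 288, nat_lit 234, nat_lit 180, nat_lit 180, nat_lit 234, nat_lit 288]) (.leaf (nat_lit 80903) [nat_lit 306, nat_lit 234, nat_lit 198, nat_lit 306, nat_lit 198, nat_lit 234])) (.node (nat_lit 13) (.node (nat_lit 12) (.leaf (nat_lit 80906) [nat_lit 288, nat_lit 180, nat_lit 216, nat_lit 288, nat_lit 198, nat_lit 216]) (.leaf (nat_lit 70656) [nat_lit 216, nat_lit 270, nat_lit 198, nat_lit 252, nat_lit 234, nat_lit 252, nat_lit 36])) (.node (nat_lit 15) (.node (nat_lit 14) (.leaf (nat_lit 81922) [nat_lit 234, nat_lit 288, nat_lit 180, nat_lit 216, nat_lit 288, nat_lit 234, nat_lit 180]) (.leaf (nat_lit 86022) [nat_lit 270, nat_lit 288, nat_lit 252, nat_lit 198, nat_lit 288, nat_lit 36, nat_lit 180, nat_lit 270, nat_lit 288])) (.node (nat_lit 16) (.leaf (nat_lit 87042) [nat_lit 306, nat_lit 180, nat_lit 288, nat_lit 180, nat_lit 180, nat_lit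 306, nat_lit 180, nat_lit 288, nat_lit 180]) (.leaf (nat_lit 57344) [nat_lit 180, nat_lit 180, nat_lit 180, nat_lit 180, nat_lit 180, nat_lit 180])))))
noncomputable def w8 : WT := (.node (nat_lit 1) (.leaf (nat_lit 8192) [nat_lit 198]) (.node (nat_lit 3) (.node (nat_lit 2) (.leaf (nat_lit 59395) [nat_lit 216, nat_lit 198, nat_lit 234, nat_lit 180]) (.leaf (nat_lit 59393) [nat_lit 180, nat_lit 216, nat_lit 198, nat_lit 234])) (.node (nat_lit 6) (.node (nat_lit 4) (.leaf (nat_lit 69632) [nat_lit 270, nat_lit 180, nat_lit 270]) r6) (.node (nat_lit 9) r7 r8))))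
noncomputable def r9 : WT := (.node (nat_lit 6) (.leaf (nat_lit 80909) [nat_lit 306, nat_lit 198, nat_lit 234, nat_lit 180, nat_lit 306, nat_lit 234]) (.node (nat_lit 7) (.leaf (nat_lit 86030) [nat_lit 288, nat_lit 36, nat_lit 180, nat_lit 270, nat_lit 288, nat_lit 180, nat_lit 270, nat_lit 288, nat_lit 252]) (.leaf (nat_lit 86029) [nat_lit 306, nat_lit 252, nat_lit 198, nat_lit 36, nat_lit 306, nat_lit 180, nat_lit 270, nat_lit 306, nat_lit 252])))
noncomputable def r10 : WT := (.node (nat_lit 17) (.leaf (nat_lit 87043) [nat_lit 288, nat_lit 198, nat_lit 198, nat_lit 306, nat_lit 198, nat_lit 288, nat_lit 198, nat_lit 198, nat_lit 306]) (.leaf (nat_lit 87049) [nat_lit 306, nat_lit 198, nat_lit 288, nat_lit 198, nat_lit 198, nat_lit 306, nat_lit 198, nat_lit 288, nat_lit 198]))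
noncomputable def r11 : WT := (.node (nat_lit 11) (.node (nat_lit 9) (.leaf (nat_lit 70662) [nat_lit 252, nat_lit 234, nat_lit 252, nat_lit 36, nat_lit 180, nat_lit 216, nat_lit 270]) (.node (nat_lit 10) (.leaf (nat_lit 57345) [nat_lit 198, nat_lit 198, nat_lit 198, nat_lit 198, nat_lit 198, nat_lit 198]) (.leaf (nat_lit 70671) [nat_lit 36, nat_lit 270, nat_lit 216, nat_lit 270, nat_lit 180, nat_lit 252, nat_lit 234]))) (.node (nat_lit 13) (.node (nat_lit 12) (.leaf (nat_lit 80902) [nat_lit 216, nat_lit 180, nat_lit 288, nat_lit 180, nat_lit 216, nat_lit 288]) (.leaf (nat_lit 80899) [nat_lit 234, nat_lit 180, nat_lit 306, nat_lit 234, nat_lit 198, nat_lit 306])) (.node (nat_lit 15) (.node (nat_lit 14) (.leaf (nat_lit 82947) [nat_lit 306, nat_lit 198, nat_lit 306, nat_lit 198, nat_lit 306, nat_lit 198, nat_lit 306]) (.leaf (nat_lit 81933) [nat_lit 198, nat_lit 216, nat_lit 306, nat_lit 234, nat_lit 198, nat_lit 306, nat_lit 216])) (.node (nat_lit 16)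 (.leaf (nat_lit 81935) [nat_lit 216, nat_lit 306, nat_lit 234, nat_lit 198, nat_lit 306, nat_lit 216, nat_lit 198]) r10))))
noncomputable def w9 : WT := (.node (nat_lit 1) (.leaf (nat_lit 8194) [nat_lit 180]) (.node (nat_lit 3) (.node (nat_lit 2) (.leaf (nat_lit 69635) [nat_lit 252, nat_lit 198, nat_lit 252]) (.leaf (nat_lit 59400) [nat_lit 216, nat_lit 180, nat_lit 234, nat_lit 198])) (.node (nat_lit 5) (.node (nat_lit 4) (.leaf (nat_lit 59399) [nat_lit 234, nat_lit 180, nat_lit 180, nat_lit 216]) (.leaf (nat_lit 59398) [nat_lit 198, nat_lit 216, nat_lit 180, nat_lit 234])) (.node (nat_lit 8) r9 r11))))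
noncomputable def r12 : WT := (.node (nat_lit 6) (.leaf (nat_lit 80898) [nat_lit 288, nat_lit 198, nat_lit 216, nat_lit 180, nat_lit 288, nat_lit 180]) (.leaf (nat_lit 83972) [nat_lit 306, nat_lit 234, nat_lit 270, nat_lit 306, nat_lit 252, nat_lit 216, nat_lit 252]))
noncomputable def r13 : WT := (.node (nat_lit 9) (.node (nat_lit 8) (.leaf (nat_lit 83975) [nat_lit 288, nat_lit 234, nat_lit 270, nat_lit 234, nat_lit 270, nat_lit 288, nat_lit 252]) (.leaf (nat_lit 83968) [nat_lit 252, nat_lit 216, nat_lit 306, nat_lit 234, nat_lit 270, nat_lit 306, nat_lit 252])) (.node (nat_lit 11) (.node (nat_lit 10) (.leaf (nat_lit 81930) [nat_lit 288, nat_lit 234, nat_lit 180, nat_lit 180, nat_lit 234, nat_lit 288, nat_lit 180]) (.leaf (nat_lit 84992) [nat_lit 306, nat_lit 216, nat_lit 306, nat_lit 216, nat_lit 306, nat_lit 216, nat_lit 306])) (.node (nat_lit 12) (.leaf (nat_lit 70658) [nat_lit 270, nat_lit 198, nat_lit 252, nat_lit 234, nat_lit 252, nat_lit 36,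 nat_lit 180]) (.node (nat_lit 13) (.leaf (nat_lit 81921) [nat_lit 306, nat_lit 234, nat_lit 198, nat_lit 306, nat_lit 216, nat_lit 198, nat_lit 198]) (.leaf (nat_lit 81931) [nat_lit 198, nat_lit 198, nat_lit 216, nat_lit 306, nat_lit 234, nat_lit 198, nat_lit 306])))))
noncomputable def w10 : WT := (.node (nat_lit 1) (.leaf (nat_lit 9216) [nat_lit 234]) (.node (nat_lit 3) (.node (nat_lit 2) (.leaf (nat_lit 58368) [nat_lit 216, nat_lit 216]) (.leaf (nat_lit 59397) [nat_lit 198, nat_lit 234, nat_lit 180, nat_lit 180])) (.node (nat_lit 5) (.node (nat_lit 4) (.leaf (nat_lit 59392) [nat_lit 180, nat_lit 234, nat_lit 198, nat_lit 198]) (.leaf (nat_lit 70661) [nat_lit 270, nat_lit 180, nat_lit 252, nat_lit 234, nat_lit 198, nat_lit 36, nat_lit 270])) (.node (nat_lit 7) r12 r13))))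
noncomputable def r14 : WT := (.node (nat_lit 5) (.leaf (nat_lit 70666) [nat_lit 252, nat_lit 36, nat_lit 180, nat_lit 216, nat_lit 270, nat_lit 198, nat_lit 252]) (.leaf (nat_lit 80907) [nat_lit 198, nat_lit 306, nat_lit 198, nat_lit 234, nat_lit 180, nat_lit 306]))
noncomputable def r15 : WT := (.node (nat_lit 8) (.node (nat_lit 7) (.leaf (nat_lit 81924) [nat_lit 288, nat_lit 180, nat_lit 216, nat_lit 288, nat_lit 234, nat_lit 180, nat_lit 180]) (.leaf (nat_lit 84995) [nat_lit 288, nat_lit 234, nat_lit 288, nat_lit 234, nat_lit 288, nat_lit 234, nat_lit 288])) (.node (nat_lit 10) (.node (nat_lit 9) (.leaf (nat_lit 70669) [nat_lit 198, nat_lit 36, nat_lit 270, nat_lit 216, nat_lit 270, nat_lit 180, nat_lit 252]) (.leaf (nat_lit 83979) [nat_lit 270, nat_lit 234, nat_lit 270, nat_lit 288, nat_lit 252, nat_lit 216, nat_lit 288])) (.node (nat_lit 11) (.leaf (nat_lit 83976) [nat_lit 270, nat_lit 306, nat_lit 252, nat_lit 216, nat_lit 252, nat_lit 216,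 nat_lit 306]) (.leaf (nat_lit 83983) [nat_lit 270, nat_lit 288, nat_lit 252, nat_lit 216, nat_lit 288, nat_lit 234, nat_lit 270]))))
noncomputable def w11 : WT := (.node (nat_lit 1) (.leaf (nat_lit 9218) [nat_lit 216]) (.node (nat_lit 2) (.leaf (nat_lit 58369) [nat_lit 234, nat_lit 234]) (.node (nat_lit 4) (.node (nat_lit 3) (.leaf (nat_lit 59396) [nat_lit 198, nat_lit 198, nat_lit 216, nat_lit 180]) (.leaf (nat_lit 59401) [nat_lit 180, nat_lit 180, nat_lit 216, nat_lit 198])) (.node (nat_lit 6) r14 r15))))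
noncomputable def r16 : WT := (.node (nat_lit 5) (.leaf (nat_lit 70664) [nat_lit 234, nat_lit 252, nat_lit 36, nat_lit 180, nat_lit 216, nat_lit 270, nat_lit 198]) (.leaf (nat_lit 68608) [nat_lit 252, nat_lit 252, nat_lit 252, nat_lit 252, nat_lit 252, nat_lit 252]))
noncomputable def r17 : WT := (.node (nat_lit 8) (.leaf (nat_lit 83982) [nat_lit 216, nat_lit 252, nat_lit 216, nat_lit 306, nat_lit 234, nat_lit 270, nat_lit 306]) (.node (nat_lit 9) (.leaf (nat_lit 83970) [nat_lit 216, nat_lit 306, nat_lit 234, nat_lit 270, nat_lit 306, nat_lit 252, nat_lit 216]) (.leaf (nat_lit 86027) [nat_lit 198, nat_lit 306, nat_lit 252, nat_lit 198, nat_lit 36, nat_lit 306, nat_lit 180, nat_lit 270, nat_lit 306])))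
noncomputable def w12 : WT := (.node (nat_lit 1) (.leaf (nat_lit 10240) [nat_lit 270]) (.node (nat_lit 3) (.node (nat_lit 2) (.leaf (nat_lit 69633) [nat_lit 198, nat_lit 252, nat_lit 198]) (.leaf (nat_lit 70668) [nat_lit 36, nat_lit 180, nat_lit 216, nat_lit 270, nat_lit 198, nat_lit 252, nat_lit 234])) (.node (nat_lit 6) (.node (nat_lit 4) (.leaf (nat_lit 70667) [nat_lit 234, nat_lit 198, nat_lit 36, nat_lit 270, nat_lit 216, nat_lit 270, nat_lit 180]) r16) (.node (nat_lit 7) (.leaf (nat_lit 83973) [nat_lit 216, nat_lit 288, nat_lit 234, nat_lit 270, nat_lit 234, nat_lit 270, nat_lit 288]) r17))))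
noncomputable def r18 : WT := (.node (nat_lit 6) (.leaf (nat_lit 70663) [nat_lit 180, nat_lit 252, nat_lit 234, nat_lit 198, nat_lit 36, nat_lit 270, nat_lit 216]) (.leaf (nat_lit 83978) [nat_lit 306, nat_lit 252, nat_lit 216, nat_lit 252, nat_lit 216, nat_lit 306, nat_lit 234]))
noncomputable def r19 : WT := (.node (nat_lit 8) (.leaf (nat_lit 83981) [nat_lit 234, nat_lit 270, nat_lit 288, nat_lit 252, nat_lit 216, nat_lit 288, nat_lit 234]) (.node (nat_lit 9) (.leaf (nat_lit 86018) [nat_lit 288, nat_lit 180, nat_lit 270, nat_lit 288, nat_lit 252, nat_lit 198, nat_lit 288, nat_lit 36, nat_lit 180]) (.leaf (nat_lit 83969) [nat_lit 288, nat_lit 252, nat_lit 216, nat_lit 288, nat_lit 234, nat_lit 270, nat_lit 234])))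
noncomputable def w13 : WT := (.node (nat_lit 1) (.leaf (nat_lit 10242) [nat_lit 252]) (.node (nat_lit 3) (.node (nat_lit 2) (.leaf (nat_lit 69634) [nat_lit 180, nat_lit 270, nat_lit 180]) (.leaf (nat_lit 70660) [nat_lit 198, nat_lit 252, nat_lit 234, nat_lit 252, nat_lit 36, nat_lit 180, nat_lit 216])) (.node (nat_lit 5) (.node (nat_lit 4) (.leaf (nat_lit 70659) [nat_lit 216, nat_lit 270, nat_lit 180, nat_lit 252, nat_lit 234, nat_lit 198, nat_lit 36]) (.leaf (nat_lit 68609) [nat_lit 270, nat_lit 270, nat_lit 270, nat_lit 270, nat_lit 270, nat_lit 270])) (.node (nat_lit 7) r18 r19))))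
noncomputable def r20 : WT := (.node (nat_lit 5) (.leaf (nat_lit 83971) [nat_lit 252, nat_lit 216, nat_lit 288, nat_lit 234, nat_lit 270, nat_lit 234, nat_lit 270]) (.node (nat_lit 6) (.leaf (nat_lit 80908) [nat_lit 180, nat_lit 216, nat_lit 288, nat_lit 198, nat_lit 216, nat_lit 180]) (.leaf (nat_lit 82946) [nat_lit 180, nat_lit 288, nat_lit 180, nat_lit 288, nat_lit 180, nat_lit 288, nat_lit 180])))
noncomputable def r21 : WT := (.node (nat_lit 9) (.node (nat_lit 8) (.leaf (nat_lit 87045) [nat_lit 198, nat_lit 198, nat_lit 306, nat_lit 198, nat_lit 288, nat_lit 198, nat_lit 198, nat_lit 306, nat_lit 198]) (.leaf (nat_lit 81926) [nat_lit 180, nat_lit 216, nat_lit 288, nat_lit 234, nat_lit 180, nat_lit 180, nat_lit 234])) (.node (nat_lit 11) (.node (nat_lit 10) (.leaf (nat_lit 83977) [nat_lit 234, nat_lit 270, nat_lit 234, nat_lit 270, nat_lit 288, nat_lit 252, nat_lit 216]) (.leaf (nat_lit 81932) [nat_lit 234, nat_lit 180, nat_lit 180, nat_lit 234,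 nat_lit 288, nat_lit 180, nat_lit 216])) (.node (nat_lit 12) (.leaf (nat_lit 84993) [nat_lit 234, nat_lit 288, nat_lit 234, nat_lit 288, nat_lit 234, nat_lit 288, nat_lit 234]) (.node (nat_lit 13) (.leaf (nat_lit 86032) [nat_lit 36, nat_lit 180, nat_lit 270, nat_lit 288, nat_lit 180, nat_lit 270, nat_lit 288, nat_lit 252, nat_lit 198]) (.leaf (nat_lit 87048) [nat_lit 180, nat_lit 180, nat_lit 306, nat_lit 180, nat_lit 288, nat_lit 180, nat_lit 180, nat_lit 306, nat_lit 180])))))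
noncomputable def w14 : WT := (.node (nat_lit 1) (.leaf (nat_lit 11264) [nat_lit 306]) (.node (nat_lit 2) (.leaf (nat_lit 79872) [nat_lit 288, nat_lit 288]) (.node (nat_lit 4) (.node (nat_lit 3) (.leaf (nat_lit 80900) [nat_lit 198, nat_lit 216, nat_lit 180, nat_lit 288, nat_lit 180, nat_lit 216]) (.leaf (nat_lit 86020) [nat_lit 180, nat_lit 270, nat_lit 288, nat_lit 252, nat_lit 198, nat_lit 288, nat_lit 36, nat_lit 180, nat_lit 270])) (.node (nat_lit 7) r20 r21))))
noncomputable def r22 : WT := (.node (nat_lit 5) (.leaf (nat_lit 84994) [nat_lit 216, nat_lit 306, nat_lit 216, nat_lit 306, nat_lit 216, nat_lit 306, nat_lit 216]) (.leaf (nat_lit 82945) [nat_lit 198, nat_lit 306, nat_lit 198, nat_lit 306, nat_lit 198, nat_lit 306, nat_lit 198]))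
noncomputable def r23 : WT := (.node (nat_lit 8) (.node (nat_lit 7) (.leaf (nat_lit 80905) [nat_lit 234, nat_lit 198, nat_lit 306, nat_lit 198, nat_lit 234, nat_lit 180]) (.leaf (nat_lit 83974) [nat_lit 234, nat_lit 270, nat_lit 306, nat_lit 252, nat_lit 216, nat_lit 252, nat_lit 216])) (.node (nat_lit 10) (.node (nat_lit 9) (.leaf (nat_lit 81929) [nat_lit 216, nat_lit 198, nat_lit 198, nat_lit 216, nat_lit 306, nat_lit 234, nat_lit 198]) (.leaf (nat_lit 87041) [nat_lit 198, nat_lit 288, nat_lit 198, nat_lit 198, nat_lit 306, nat_lit 198, nat_lit 288, nat_lit 198, nat_lit 198])) (.node (nat_lit 11) (.leaf (nat_lit 81923) [nat_lit 234, nat_lit 198, nat_lit 306, nat_lit 216, nat_lit 198, nat_lit 198, nat_lit 216]) (.leaf (nat_lit 87044) [nat_lit 180, nat_lit 288, nat_lit 180, nat_lit 180, nat_lit 306, nat_lit 180, nat_lit 288, nat_lit 180, nat_lit 180]))))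
noncomputable def w15 : WT := (.node (nat_lit 1) (.leaf (nat_lit 11266) [nat_lit 288]) (.node (nat_lit 2) (.leaf (nat_lit 79873) [nat_lit 306, nat_lit 306]) (.node (nat_lit 4) (.node (nat_lit 3) (.leaf (nat_lit 80897) [nat_lit 198, nat_lit 234, nat_lit 180, nat_lit 306, nat_lit 234, nat_lit 198]) (.leaf (nat_lit 83980) [nat_lit 252, nat_lit 216, nat_lit 252, nat_lit 216, nat_lit 306, nat_lit 234, nat_lit 270])) (.node (nat_lit 6) r22 r23))))
noncomputable def r24 : WT := (.node (nat_lit 7) (.leaf (nat_lit 81926) [nat_lit 288, nat_lit 180, nat_lit 216, nat_lit 288, nat_lit 234, nat_lit 180, nat_lit 180, nat_lit 234]) (.leaf (nat_lit 83968) [nat_lit 216, nat_lit 252, nat_lit 216, nat_lit 306, nat_lit 234, nat_lit 270, nat_lit 306, nat_lit 252]))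
noncomputable def wP : WT := (.node (nat_lit 3) (.node (nat_lit 1) (.leaf (nat_lit 43008) [nat_lit 180, nat_lit 72, nat_lit 198, nat_lit 144, nat_lit 72, nat_lit 90, nat_lit 72, nat_lit 90, nat_lit 72]) (.node (nat_lit 2) (.leaf (nat_lit 48128) [nat_lit 180, nat_lit 162, nat_lit 198, nat_lit 162, nat_lit 126, nat_lit 90]) (.leaf (nat_lit 83975) [nat_lit 216, nat_lit 288, nat_lit 234, nat_lit 270, nat_lit 234, nat_lit 270, nat_lit 288, nat_lit 252]))) (.node (nat_lit 8) (.node (nat_lit 5) (.node (nat_lit 4) (.leaf (nat_lit 46080) [nat_lit 180, nat_lit 126, nat_lit 198, nat_lit 162, nat_lit 90]) (.leaf (nat_lit 80902) [nat_lit 198, nat_lit 216, nat_lit 180, nat_lit 288, nat_lit 180, nat_lit 216, nat_lit 288])) (.node (nat_lit 6) (.leaf (nat_lit 70663) [nat_lit 270, nat_lit 180, nat_lit 252, nat_lit 234, nat_lit 198, nat_lit 36, nat_lit 270, nat_lit 216]) r24)) (.node (nat_lit 10) (.node (nat_lit 9) (.leaf (nat_lit 83983) [nat_lit 234, nat_lit 270, nat_lit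 288, nat_lit 252, nat_lit 216, nat_lit 288, nat_lit 234, nat_lit 270]) (.leaf (nat_lit 51200) [nat_lit 216, nat_lit 72, nat_lit 234, nat_lit 144, nat_lit 72, nat_lit 90, nat_lit 72, nat_lit 90, nat_lit 72])) (.node (nat_lit 11) (.leaf (nat_lit 87045) [nat_lit 288, nat_lit 198, nat_lit 198, nat_lit 306, nat_lit 198, nat_lit 288, nat_lit 198, nat_lit 198, nat_lit 306, nat_lit 198]) (.leaf (nat_lit 87047) [nat_lit 198, nat_lit 198, nat_lit 306, nat_lit 198, nat_lit 288, nat_lit 198, nat_lit 198, nat_lit 306, nat_lit 198, nat_lit 288])))))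
noncomputable def P : Par := ⟨tb, nat_lit 324, nat_lit 0xfffffffffffffffffffffffffffffffffffffffffffffffffffffffffffffffffffffffffffffffff, nat_lit 956, nat_lit 262143, nat_lit 1023, nat_lit 18, nat_lit 10, nat_lit 64,
  [nat_lit 36, nat_lit 54, nat_lit 72, nat_lit 90, nat_lit 108, nat_lit 126, nat_lit 144, nat_lit 162, nat_lit 180, nat_lit 198, nat_lit 216, nat_lit 234, nat_lit 252, nat_lit 270, nat_lit 288, nat_lit 306], [nat_lit 36, nat_lit 54, nat_lit 72, nat_lit 90, nat_lit 108, nat_lit 126, nat_lit 144, nat_lit 162, nat_lit 180, nat_lit 216, nat_lit 252], wP,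
  (.cons (nat_lit 36) w0 (.cons (nat_lit 54) w1 (.cons (nat_lit 72) w2 (.cons (nat_lit 90) w3 (.cons (nat_lit 108) w4 (.cons (nat_lit 126) w5 (.cons (nat_lit 144) w6 (.cons (nat_lit 162) w7 (.cons (nat_lit 180) w8 (.cons (nat_lit 198) w9 (.cons (nat_lit 216) w10 (.cons (nat_lit 234) w11 (.cons (nat_lit 252) w12 (.cons (nat_lit 270) w13 (.cons (nat_lit 288) w14 (.cons (nat_lit 306) w15 .nil)))))))))))))))),
  .nil⟩

end Cfsg.Agent.Lib.TCCo1c
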