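import Cfsg.Agent.Lib.TCCo1dP

set_option autoImplicit false
set_option maxRecDepth 100000

namespace Cfsg.Agent.Lib.TCCo1d
open Cfsg.Agent.Lib.TCCore

theorem k0 : P.RowsS 0 64 := P.rowsS_of_chk _ _ [nat_lit 0x404040408000202020203030101020101000100410101008100c0c18040400020101030303030202020201000041404041010100c10080c14040414040400030303030202010101030200004041010100c10080c180804041800010202020203030503000040c080c0808080808080808080404040408000202020203030101000100404040404040404040404100001010101010101010101010404000040404040404040404040410100001010101010101010101010404010000404040c040404041c14041c0001010101010101010101010404010101400050040100401004010040100, nat_lit 0x40201010200014141410141004040404100c000402020202030305030101040300004080808080c0c140c040400020401030303030202020201010100004141010100c10080c18041404040400050205020503010103010104020000404040404040404080400020102030303030202020204010000404080c0c0c0c08080808000101030301010101010101040401030200004041010100c10080c1808000105010104040404040403050000404040c04040404040404101004040002010203030303020202020103010100018080808080c0c140c0404000105010303030302020202, nat_lit 0x40000404040c0c0c0c0c080804140c10041008000101010101010101000040c0404040404040404041010000103010301010101010101040401000080404041c10100c180804140404100c0004020202020303050304010000814040c0c0c0c080808080804040c000402020202030305030101010407000080808080c0c040408040400040104040402040303060101030300004080808080c0c140c0408000201020303030302020202010000404040c040404040404041404040400010504040401040103060102050101000140c14141408040404040c0400010202020203030503,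 nat_lit 0x30201040200004040404040404040818040c00040202020203030503050000408040c0404040404041014040c080006050404040204030306050000414040410101008100c0c14040001060103010101010701010501030200004041010100410040c180818040400010202020203030503000100414040404040404040410101814000201010703030506020202020201010600004040404040404041804000101040303030302020202030201010100004040404040404041400010501070101010101010405030201040200004040404040404041804000201020303030302020202] (by decide +kernel)
theorem k1 : P.RowsT 64 69 := P.rowsT_of_chk _ _ [nat_lit 0x181800001060800000818180000106060000041c2000003] (by decide +kernel)
theorem s0 : P.RowsS 0 64 := k0
theorem t0 : P.RowsT 64 69 := k1

end Cfsg.Agent.Lib.TCCo1d
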