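import Cfsg.Agent.Lib.TCCo1dD0

set_option autoImplicit false
set_option maxRecDepth 100000

namespace Cfsg.Agent.Lib.TCCo1d
open Cfsg.Agent.Lib.TCCore

noncomputable def tb : T := l0
noncomputable def w0 : WT := (.node (nat_lit 3) (.node (nat_lit 1) (.leaf (nat_lit 39942) [nat_lit 140, nat_lit 28, nat_lit 154]) (.node (nat_lit 2) (.leaf (nat_lit 48130) [nat_lit 182, nat_lit 28, nat_lit 168]) (.leaf (nat_lit 39938) [nat_lit 154, nat_lit 28, nat_lit 140]))) (.node (nat_lit 4) (.leaf (nat_lit 59394) [nat_lit 210, nat_lit 28, nat_lit 196]) (.node (nat_lit 5) (.leaf (nat_lit 59398) [nat_lit 196, nat_lit 28, nat_lit 210]) (.node (nat_lit 6) (.leaf (nat_lit 48134) [nat_lit 168, nat_lit 28, nat_lit 182]) (.leaf (nat_lit 65548) [nat_lit 196, nat_lit 112, nat_lit 210, nat_lit 112, nat_lit 84, nat_lit 56])))))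
noncomputable def w1 : WT := (.node (nat_lit 2) (.node (nat_lit 1) (.leaf (nat_lit 40966) [nat_lit 140, nat_lit 42, nat_lit 154]) (.leaf (nat_lit 49154) [nat_lit 182, nat_lit 42, nat_lit 168])) (.node (nat_lit 3) (.leaf (nat_lit 49158) [nat_lit 168, nat_lit 42, nat_lit 182]) (.node (nat_lit 4) (.leaf (nat_lit 60418) [nat_lit 210, nat_lit 112, nat_lit 98, nat_lit 42, nat_lit 70, nat_lit 56, nat_lit 70, nat_lit 56, nat_lit 196]) (.leaf (nat_lit 40962) [nat_lit 154, nat_lit 42, nat_lit 140]))))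
noncomputable def w2 : WT := (.node (nat_lit 1) (.leaf (nat_lit 61442) [nat_lit 210, nat_lit 112, nat_lit 56, nat_lit 70, nat_lit 56, nat_lit 70, nat_lit 56, nat_lit 196]) (.node (nat_lit 2) (.leaf (nat_lit 50178) [nat_lit 182, nat_lit 112, nat_lit 56, nat_lit 70, nat_lit 56, nat_lit 70, nat_lit 56, nat_lit 168]) (.node (nat_lit 3) (.leaf (nat_lit 41986) [nat_lit 154, nat_lit 112, nat_lit 56, nat_lit 70, nat_lit 56, nat_lit 70, nat_lit 56, nat_lit 140]) (.node (nat_lit 4) (.leaf (nat_lit 2048) [nat_lit 56]) (.leaf (nat_lit 44040) [nat_lit 140, nat_lit 84, nat_lit 154, nat_lit 84])))))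
noncomputable def r0 : WT := (.node (nat_lit 5) (.leaf (nat_lit 3072) [nat_lit 70]) (.leaf (nat_lit 43016) [nat_lit 140, nat_lit 70, nat_lit 154, nat_lit 98]))
noncomputable def r1 : WT := (.node (nat_lit 7) (.leaf (nat_lit 45064) [nat_lit 140, nat_lit 98, nat_lit 154, nat_lit 126]) (.leaf (nat_lit 11274) [nat_lit 56, nat_lit 70, nat_lit 28, nat_lit 42, nat_lit 28, nat_lit 42, nat_lit 56]))
noncomputable def w3 : WT := (.node (nat_lit 2) (.node (nat_lit 1) (.leaf (nat_lit 62466) [nat_lit 210, nat_lit 98, nat_lit 70, nat_lit 196]) (.leaf (nat_lit 51202) [nat_lit 182, nat_lit 70, nat_lit 168])) (.node (nat_lit 3) (.leaf (nat_lit 43010) [nat_lit 154, nat_lit 98, nat_lit 70, nat_lit 140]) (.node (nat_lit 4) (.leaf (nat_lit 51206) [nat_lit 168, nat_lit 70, nat_lit 182]) (.node (nat_lit 6) r0 r1))))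
noncomputable def w4 : WT := (.node (nat_lit 2) (.node (nat_lit 1) (.leaf (nat_lit 63490) [nat_lit 210, nat_lit 84, nat_lit 56, nat_lit 28, nat_lit 70, nat_lit 56, nat_lit 70, nat_lit 56, nat_lit 196]) (.leaf (nat_lit 44034) [nat_lit 154, nat_lit 84, nat_lit 56, nat_lit 140])) (.node (nat_lit 3) (.leaf (nat_lit 52226) [nat_lit 182, nat_lit 112, nat_lit 168]) (.node (nat_lit 5) (.node (nat_lit 4) (.leaf (nat_lit 4096) [nat_lit 84]) (.leaf (nat_lit 44038) [nat_lit 56, nat_lit 140, nat_lit 84, nat_lit 154])) (.node (nat_lit 6) (.leaf (nat_lit 44035) [nat_lit 140, nat_lit 84, nat_lit 154, nat_lit 56]) (.leaf (nat_lit 65541) [nat_lit 112, nat_lit 196, nat_lit 112, nat_lit 210, nat_lit 28, nat_lit 56])))))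
noncomputable def w5 : WT := (.node (nat_lit 2) (.node (nat_lit 1) (.leaf (nat_lit 64514) [nat_lit 210, nat_lit 126, nat_lit 70, nat_lit 28, nat_lit 70, nat_lit 56, nat_lit 70, nat_lit 56, nat_lit 196]) (.leaf (nat_lit 45058) [nat_lit 154, nat_lit 126, nat_lit 70, nat_lit 140])) (.node (nat_lit 3) (.leaf (nat_lit 53250) [nat_lit 182, nat_lit 126, nat_lit 98, nat_lit 70, nat_lit 168]) (.node (nat_lit 4) (.leaf (nat_lit 55302) [nat_lit 168, nat_lit 126, nat_lit 182]) (.node (nat_lit 5) (.leaf (nat_lit 5120) [nat_lit 98]) (.leaf (nat_lit 43011) [nat_lit 140, nat_lit 70, nat_lit 154, nat_lit 70])))))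
noncomputable def w6 : WT := (.node (nat_lit 2) (.node (nat_lit 1) (.leaf (nat_lit 65538) [nat_lit 210, nat_lit 112, nat_lit 84, nat_lit 56, nat_lit 28, nat_lit 196]) (.leaf (nat_lit 46082) [nat_lit 154, nat_lit 112, nat_lit 84, nat_lit 56, nat_lit 70, nat_lit 56, nat_lit 70, nat_lit 56, nat_lit 140])) (.node (nat_lit 3) (.leaf (nat_lit 54274) [nat_lit 182, nat_lit 112, nat_lit 84, nat_lit 70, nat_lit 56, nat_lit 70, nat_lit 56, nat_lit 168]) (.node (nat_lit 4) (.leaf (nat_lit 52230) [nat_lit 168, nat_lit 84, nat_lit 182]) (.leaf (nat_lit 65543) [nat_lit 196, nat_lit 112, nat_lit 210, nat_lit 28, nat_lit 56, nat_lit 84]))))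
noncomputable def r2 : WT := (.node (nat_lit 6) (.leaf (nat_lit 45059) [nat_lit 140, nat_lit 98, nat_lit 154, nat_lit 70]) (.leaf (nat_lit 47110) [nat_lit 98, nat_lit 70, nat_lit 140, nat_lit 126, nat_lit 154]))
noncomputable def w7 : WT := (.node (nat_lit 2) (.node (nat_lit 1) (.leaf (nat_lit 66562) [nat_lit 210, nat_lit 126, nat_lit 98, nat_lit 70, nat_lit 28, nat_lit 70, nat_lit 56, nat_lit 70, nat_lit 56, nat_lit 196]) (.leaf (nat_lit 47106) [nat_lit 154, nat_lit 126, nat_lit 98, nat_lit 70, nat_lit 140])) (.node (nat_lit 3) (.leaf (nat_lit 55298) [nat_lit 182, nat_lit 98, nat_lit 168]) (.node (nat_lit 4) (.leaf (nat_lit 53254) [nat_lit 98, nat_lit 70, nat_lit 168, nat_lit 98, nat_lit 182]) (.node (nat_lit 5) (.leaf (nat_lit 7168) [nat_lit 126]) r2))))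
noncomputable def r3 : WT := (.node (nat_lit 6) (.leaf (nat_lit 56320) [nat_lit 140, nat_lit 140, nat_lit 140, nat_lit 140, nat_lit 140, nat_lit 140]) (.leaf (nat_lit 69641) [nat_lit 196, nat_lit 182, nat_lit 154, nat_lit 28, nat_lit 210, nat_lit 168, nat_lit 210]))
noncomputable def w8 : WT := (.node (nat_lit 1) (.leaf (nat_lit 8192) [nat_lit 154]) (.node (nat_lit 3) (.node (nat_lit 2) (.leaf (nat_lit 58370) [nat_lit 182, nat_lit 154, nat_lit 154, nat_lit 168]) (.leaf (nat_lit 68608) [nat_lit 210, nat_lit 140, nat_lit 210])) (.node (nat_lit 4) (.leaf (nat_lit 58371) [nat_lit 168, nat_lit 154, nat_lit 182, nat_lit 140]) (.node (nat_lit 5) (.leaf (nat_lit 58369) [nat_lit 140, nat_lit 168, nat_lit 154, nat_lit 182]) r3))))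
noncomputable def w9 : WT := (.node (nat_lit 1) (.leaf (nat_lit 8194) [nat_lit 140]) (.node (nat_lit 3) (.node (nat_lit 2) (.leaf (nat_lit 58376) [nat_lit 168, nat_lit 140, nat_lit 182, nat_lit 154]) (.leaf (nat_lit 68611) [nat_lit 196, nat_lit 154, nat_lit 196])) (.node (nat_lit 5) (.node (nat_lit 4) (.leaf (nat_lit 58374) [nat_lit 154, nat_lit 168, nat_lit 140, nat_lit 182]) (.leaf (nat_lit 58375) [nat_lit 182, nat_lit 140, nat_lit 140, nat_lit 168])) (.node (nat_lit 6) (.leaf (nat_lit 69647) [nat_lit 28, nat_lit 210, nat_lit 168, nat_lit 210, nat_lit 140, nat_lit 196, nat_lit 182]) (.leaf (nat_lit 56321) [nat_lit 154, nat_lit 154, nat_lit 154, nat_lit 154, nat_lit 154, nat_lit 154])))))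
noncomputable def w10 : WT := (.node (nat_lit 1) (.leaf (nat_lit 9216) [nat_lit 182]) (.node (nat_lit 3) (.node (nat_lit 2) (.leaf (nat_lit 57344) [nat_lit 168, nat_lit 168]) (.leaf (nat_lit 58373) [nat_lit 154, nat_lit 182, nat_lit 140, nat_lit 140])) (.node (nat_lit 4) (.leaf (nat_lit 58368) [nat_lit 140, nat_lit 182, nat_lit 154, nat_lit 154]) (.node (nat_lit 5) (.leaf (nat_lit 69637) [nat_lit 210, nat_lit 140, nat_lit 196, nat_lit 182, nat_lit 154, nat_lit 28, nat_lit 210]) (.leaf (nat_lit 69634) [nat_lit 210, nat_lit 154, nat_lit 196, nat_lit 182, nat_lit 196, nat_lit 28, nat_lit 140])))))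
noncomputable def w11 : WT := (.node (nat_lit 1) (.leaf (nat_lit 9218) [nat_lit 168]) (.node (nat_lit 3) (.node (nat_lit 2) (.leaf (nat_lit 57345) [nat_lit 182, nat_lit 182]) (.leaf (nat_lit 69642) [nat_lit 196, nat_lit 28, nat_lit 140, nat_lit 168, nat_lit 210, nat_lit 154, nat_lit 196])) (.node (nat_lit 4) (.leaf (nat_lit 58372) [nat_lit 154, nat_lit 154, nat_lit 168, nat_lit 140]) (.leaf (nat_lit 58377) [nat_lit 140, nat_lit 140, nat_lit 168, nat_lit 154]))))
noncomputable def w12 : WT := (.node (nat_lit 1) (.leaf (nat_lit 10240) [nat_lit 210]) (.node (nat_lit 3) (.node (nat_lit 2) (.leaf (nat_lit 68609) [nat_lit 154, nat_lit 196, nat_lit 154]) (.leaf (nat_lit 69644) [nat_lit 28, nat_lit 140, nat_lit 168, nat_lit 210, nat_lit 154, nat_lit 196, nat_lit 182])) (.node (nat_lit 4) (.leaf (nat_lit 67584) [nat_lit 196, nat_lit 196, nat_lit 196, nat_lit 196, nat_lit 196, nat_lit 196]) (.node (nat_lit 5) (.leaf (nat_lit 69640) [nat_lit 182,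 nat_lit 196, nat_lit 28, nat_lit 140, nat_lit 168, nat_lit 210, nat_lit 154]) (.leaf (nat_lit 69643) [nat_lit 182, nat_lit 154, nat_lit 28, nat_lit 210, nat_lit 168, nat_lit 210, nat_lit 140])))))
noncomputable def w13 : WT := (.node (nat_lit 1) (.leaf (nat_lit 10242) [nat_lit 196]) (.node (nat_lit 3) (.node (nat_lit 2) (.leaf (nat_lit 68610) [nat_lit 140, nat_lit 210, nat_lit 140]) (.leaf (nat_lit 69635) [nat_lit 168, nat_lit 210, nat_lit 140, nat_lit 196, nat_lit 182, nat_lit 154, nat_lit 28])) (.node (nat_lit 4) (.leaf (nat_lit 69636) [nat_lit 154, nat_lit 196, nat_lit 182, nat_lit 196, nat_lit 28, nat_lit 140, nat_lit 168]) (.node (nat_lit 5) (.leaf (nat_lit 67585) [nat_lit 210, nat_lit 210, nat_lit 210, nat_lit 210, nat_lit 210, nat_lit 210]) (.leaf (nat_lit 69639) [nat_lit 140, nat_lit 196, nat_lit 182, nat_lit 154, nat_lit 28, nat_lit 210, nat_lit 168])))))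
noncomputable def wP : WT := (.node (nat_lit 1) (.leaf (nat_lit 47104) [nat_lit 140, nat_lit 126, nat_lit 154, nat_lit 126, nat_lit 98, nat_lit 70]) (.node (nat_lit 2) (.leaf (nat_lit 41984) [nat_lit 140, nat_lit 56, nat_lit 154, nat_lit 112, nat_lit 56, nat_lit 70, nat_lit 56, nat_lit 70, nat_lit 56]) (.leaf (nat_lit 50176) [nat_lit 168, nat_lit 56, nat_lit 182, nat_lit 112, nat_lit 56, nat_lit 70, nat_lit 56, nat_lit 70, nat_lit 56])))
noncomputable def P : Par := ⟨tb, nat_lit 224, nat_lit 0xffffffffffffffffffffffffffffffffffffffffffffffffffffffff, nat_lit 69, nat_lit 16383, nat_lit 127, nat_lit 14, nat_lit 7, nat_lit 64,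
  [nat_lit 28, nat_lit 42, nat_lit 56, nat_lit 70, nat_lit 84, nat_lit 98, nat_lit 112, nat_lit 126, nat_lit 140, nat_lit 154, nat_lit 168, nat_lit 182, nat_lit 196, nat_lit 210], [nat_lit 28, nat_lit 42, nat_lit 56, nat_lit 70, nat_lit 84, nat_lit 98, nat_lit 112, nat_lit 126, nat_lit 140, nat_lit 168], wP,
  (.cons (nat_lit 28) w0 (.cons (nat_lit 42) w1 (.cons (nat_lit 56) w2 (.cons (nat_lit 70) w3 (.cons (nat_lit 84) w4 (.cons (nat_lit 98) w5 (.cons (nat_lit 112) w6 (.cons (nat_lit 126) w7 (.cons (nat_lit 140) w8 (.cons (nat_lit 154) w9 (.cons (nat_lit 168) w10 (.cons (nat_lit 182) w11 (.cons (nat_lit 196) w12 (.cons (nat_lit 210) w13 .nil)))))))))))))),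
  .nil⟩

end Cfsg.Agent.Lib.TCCo1d
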