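import Cfsg.Agent.Lib.TCDefs

set_option autoImplicit false
set_option maxRecDepth 100000

namespace Cfsg.Agent.Lib.TCCo1e
open Cfsg.Agent.Lib.TCCore

noncomputable def l0 : T := .leaf (nat_lit 0) (nat_lit 0x25024a15434d1f51f51f51f51f51f5195195fff0842053061331751d41d41d41d41d41d4174174fff0841cb2091121541b31b31b31b31b31b3153153fff0840f12c412e133192192192192192192132132fff09c2841120d018c171171171171171171111111fff08424a2750af0f11501501501501301300f00f0fff08420808e0c50d012f0cf10f12f10f10f0cf0cffff0900af1c80631520ee0ee0ee0ae0ee0ee0ae0aefff0840cc1073751a314d14d14d14d10d14d20d20dfff09c0a70ed1b110b12c12c12c12c0ec12c1ec1ecfff09c0e91f312c16216b16b16b16b16b16b1ab1abfff09c2752700e912116a16a16a18a18a16a16a16afff08423310b0c810a149149149149149149189189fff0841ee22f0a70e91281281281281281281a81a8fff08412d0cc0860c81071071071070c71071c71c7fff0843340650a40a70e60e60a60e60a60e61e61e6fff0900862340420ef085085105105085085205205fff0842f22b10210c6064064064064064064064064fff0840420811cd08e0830830830830c3083083083fff09c02106318b065062062062062062062062062fff09c0a304214a044021021021021021021021021fff000)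

end Cfsg.Agent.Lib.TCCo1e
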