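import Cfsg.Agent.Lib.TCCo1eD0

set_option autoImplicit false
set_option maxRecDepth 100000

namespace Cfsg.Agent.Lib.TCCo1e
open Cfsg.Agent.Lib.TCCore

noncomputable def tb : T := l0
noncomputable def w0 : WT := (.node (nat_lit 1) (.leaf (nat_lit 38914) [nat_lit 132, nat_lit 24, nat_lit 120]) (.node (nat_lit 2) (.leaf (nat_lit 47106) [nat_lit 156, nat_lit 24, nat_lit 144]) (.node (nat_lit 3) (.leaf (nat_lit 38918) [nat_lit 120, nat_lit 24, nat_lit 132]) (.leaf (nat_lit 47110) [nat_lit 144, nat_lit 24, nat_lit 156]))))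
noncomputable def w1 : WT := (.node (nat_lit 1) (.leaf (nat_lit 39938) [nat_lit 132, nat_lit 36, nat_lit 120]) (.node (nat_lit 2) (.leaf (nat_lit 48130) [nat_lit 156, nat_lit 36, nat_lit 144]) (.node (nat_lit 3) (.leaf (nat_lit 39942) [nat_lit 120, nat_lit 36, nat_lit 132]) (.leaf (nat_lit 48134) [nat_lit 144, nat_lit 36, nat_lit 156]))))
noncomputable def w2 : WT := (.node (nat_lit 1) (.leaf (nat_lit 40962) [nat_lit 132, nat_lit 96, nat_lit 48, nat_lit 60, nat_lit 48, nat_lit 60, nat_lit 48, nat_lit 120]) (.leaf (nat_lit 49154) [nat_lit 156, nat_lit 96, nat_lit 48, nat_lit 60, nat_lit 48, nat_lit 60, nat_lit 48, nat_lit 144]))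
noncomputable def w3 : WT := (.node (nat_lit 1) (.leaf (nat_lit 41986) [nat_lit 132, nat_lit 84, nat_lit 60, nat_lit 120]) (.node (nat_lit 2) (.leaf (nat_lit 50178) [nat_lit 156, nat_lit 60, nat_lit 144]) (.node (nat_lit 3) (.leaf (nat_lit 50182) [nat_lit 144, nat_lit 60, nat_lit 156]) (.node (nat_lit 4) (.leaf (nat_lit 44040) [nat_lit 120, nat_lit 84, nat_lit 132, nat_lit 108]) (.leaf (nat_lit 52234) [nat_lit 144, nat_lit 84, nat_lit 156, nat_lit 108, nat_lit 84])))))
noncomputable def w4 : WT := (.node (nat_lit 1) (.leaf (nat_lit 43010) [nat_lit 132, nat_lit 72, nat_lit 48, nat_lit 120]) (.node (nat_lit 2) (.leaf (nat_lit 51202) [nat_lit 156, nat_lit 96, nat_lit 144]) (.leaf (nat_lit 43014) [nat_lit 48, nat_lit 120, nat_lit 72, nat_lit 132])))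
noncomputable def w5 : WT := (.node (nat_lit 1) (.leaf (nat_lit 44034) [nat_lit 132, nat_lit 108, nat_lit 60, nat_lit 120]) (.node (nat_lit 2) (.leaf (nat_lit 52226) [nat_lit 156, nat_lit 108, nat_lit 84, nat_lit 60, nat_lit 144]) (.leaf (nat_lit 54278) [nat_lit 144, nat_lit 108, nat_lit 156])))
noncomputable def w6 : WT := (.node (nat_lit 1) (.leaf (nat_lit 45058) [nat_lit 132, nat_lit 96, nat_lit 72, nat_lit 48, nat_lit 60, nat_lit 48, nat_lit 60, nat_lit 48, nat_lit 120]) (.node (nat_lit 2) (.leaf (nat_lit 53250) [nat_lit 156, nat_lit 96, nat_lit 72, nat_lit 60, nat_lit 48, nat_lit 60, nat_lit 48, nat_lit 144]) (.leaf (nat_lit 51206) [nat_lit 144, nat_lit 72, nat_lit 156])))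
noncomputable def w7 : WT := (.node (nat_lit 1) (.leaf (nat_lit 46082) [nat_lit 132, nat_lit 108, nat_lit 84, nat_lit 60, nat_lit 120]) (.node (nat_lit 2) (.leaf (nat_lit 54274) [nat_lit 156, nat_lit 84, nat_lit 144]) (.leaf (nat_lit 52230) [nat_lit 84, nat_lit 60, nat_lit 144, nat_lit 84, nat_lit 156])))
noncomputable def w8 : WT := (.node (nat_lit 1) (.leaf (nat_lit 8192) [nat_lit 132]) (.node (nat_lit 2) (.leaf (nat_lit 57346) [nat_lit 156, nat_lit 132, nat_lit 132, nat_lit 144]) (.node (nat_lit 3) (.leaf (nat_lit 55296) [nat_lit 120, nat_lit 120, nat_lit 120, nat_lit 120, nat_lit 120, nat_lit 120]) (.leaf (nat_lit 57347) [nat_lit 144, nat_lit 132, nat_lit 156, nat_lit 120]))))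
noncomputable def w9 : WT := (.node (nat_lit 1) (.leaf (nat_lit 8194) [nat_lit 120]) (.node (nat_lit 2) (.leaf (nat_lit 57350) [nat_lit 132, nat_lit 144, nat_lit 120, nat_lit 156]) (.leaf (nat_lit 57351) [nat_lit 156, nat_lit 120, nat_lit 120, nat_lit 144])))
noncomputable def w10 : WT := (.node (nat_lit 1) (.leaf (nat_lit 9216) [nat_lit 156]) (.node (nat_lit 2) (.leaf (nat_lit 57349) [nat_lit 132, nat_lit 156, nat_lit 120, nat_lit 120]) (.leaf (nat_lit 56320) [nat_lit 144, nat_lit 144])))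
noncomputable def w11 : WT := (.node (nat_lit 1) (.leaf (nat_lit 9218) [nat_lit 144]) (.node (nat_lit 2) (.leaf (nat_lit 57348) [nat_lit 132, nat_lit 132, nat_lit 144, nat_lit 120]) (.leaf (nat_lit 56321) [nat_lit 156, nat_lit 156])))
noncomputable def wP : WT := (.leaf (nat_lit 0) [nat_lit 24, nat_lit 24])
noncomputable def P : Par := ⟨tb, nat_lit 168, nat_lit 0xffffffffffffffffffffffffffffffffffffffffff, nat_lit 21, nat_lit 4095, nat_lit 31, nat_lit 12, nat_lit 5, nat_lit 21,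
  [nat_lit 24, nat_lit 36, nat_lit 48, nat_lit 60, nat_lit 72, nat_lit 84, nat_lit 96, nat_lit 108, nat_lit 120, nat_lit 132, nat_lit 144, nat_lit 156], [nat_lit 24, nat_lit 36, nat_lit 48, nat_lit 60, nat_lit 72, nat_lit 84, nat_lit 96, nat_lit 108], wP,
  (.cons (nat_lit 24) w0 (.cons (nat_lit 36) w1 (.cons (nat_lit 48) w2 (.cons (nat_lit 60) w3 (.cons (nat_lit 72) w4 (.cons (nat_lit 84) w5 (.cons (nat_lit 96) w6 (.cons (nat_lit 108) w7 (.cons (nat_lit 120) w8 (.cons (nat_lit 132) w9 (.cons (nat_lit 144) w10 (.cons (nat_lit 156) w11 .nil)))))))))))),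
  .nil⟩

end Cfsg.Agent.Lib.TCCo1e
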