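import Cfsg.Agent.Lib.TCCo1fD0

set_option autoImplicit false
set_option maxRecDepth 100000

namespace Cfsg.Agent.Lib.TCCo1f
open Cfsg.Agent.Lib.TCCore

noncomputable def tb : T := (.node (nat_lit 212) (.node (nat_lit 106) l0 l1) (.node (nat_lit 318) l2 (.node (nat_lit 424) l3 l4)))
noncomputable def r0 : WT := (.node (nat_lit 8) (.leaf (nat_lit 8196) [nat_lit 54, nat_lit 72, nat_lit 90, nat_lit 72, nat_lit 90, nat_lit 36, nat_lit 54]) (.node (nat_lit 9) (.leaf (nat_lit 8203) [nat_lit 54, nat_lit 36, nat_lit 90, nat_lit 72, nat_lit 90, nat_lit 72, nat_lit 54]) (.node (nat_lit 10) (.leaf (nat_lit 8207) [nat_lit 90, nat_lit 72, nat_lit 90, nat_lit 72, nat_lit 54, nat_lit 36, nat_lit 54]) (.leaf (nat_lit 8192) [nat_lit 54, nat_lit 36, nat_lit 54, nat_lit 72, nat_lit 90, nat_lit 72, nat_lit 90]))))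
noncomputable def w0 : WT := (.node (nat_lit 1) (.leaf (nat_lit 0) [nat_lit 36]) (.node (nat_lit 4) (.node (nat_lit 2) (.leaf (nat_lit 14336) [nat_lit 162, nat_lit 36, nat_lit 162]) (.node (nat_lit 3) (.leaf (nat_lit 9216) [nat_lit 72, nat_lit 36, nat_lit 72]) (.leaf (nat_lit 13312) [nat_lit 144, nat_lit 36, nat_lit 144]))) (.node (nat_lit 6) (.node (nat_lit 5) (.leaf (nat_lit 10240) [nat_lit 90, nat_lit 36, nat_lit 90]) (.leaf (nat_lit 12288) [nat_lit 126, nat_lit 36, nat_lit 126])) (.node (nat_lit 7) (.leaf (nat_lit 11264) [nat_lit 108, nat_lit 36, nat_lit 108]) r0))))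
noncomputable def r1 : WT := (.node (nat_lit 7) (.leaf (nat_lit 19456) [nat_lit 144, nat_lit 54, nat_lit 144]) (.leaf (nat_lit 17408) [nat_lit 108, nat_lit 54, nat_lit 108]))
noncomputable def r2 : WT := (.node (nat_lit 9) (.leaf (nat_lit 18432) [nat_lit 126, nat_lit 54, nat_lit 126]) (.node (nat_lit 10) (.leaf (nat_lit 8205) [nat_lit 36, nat_lit 90, nat_lit 72, nat_lit 90, nat_lit 72, nat_lit 54, nat_lit 36]) (.leaf (nat_lit 8201) [nat_lit 36, nat_lit 54, nat_lit 36, nat_lit 90, nat_lit 72, nat_lit 90, nat_lit 72])))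
noncomputable def w1 : WT := (.node (nat_lit 1) (.leaf (nat_lit 1024) [nat_lit 54]) (.node (nat_lit 4) (.node (nat_lit 2) (.leaf (nat_lit 20480) [nat_lit 162, nat_lit 54, nat_lit 162]) (.node (nat_lit 3) (.leaf (nat_lit 15360) [nat_lit 72, nat_lit 54, nat_lit 72]) (.leaf (nat_lit 8198) [nat_lit 72, nat_lit 90, nat_lit 72, nat_lit 90, nat_lit 36, nat_lit 54, nat_lit 36]))) (.node (nat_lit 6) (.node (nat_lit 5) (.leaf (nat_lit 8194) [nat_lit 36, nat_lit 54, nat_lit 72, nat_lit 90, nat_lit 72, nat_lit 90, nat_lit 36]) (.leaf (nat_lit 16384) [nat_lit 90, nat_lit 54, nat_lit 90])) (.node (nat_lit 8) r1 r2))))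
noncomputable def r3 : WT := (.node (nat_lit 5) (.leaf (nat_lit 23552) [nat_lit 144, nat_lit 72, nat_lit 144]) (.leaf (nat_lit 15362) [nat_lit 54, nat_lit 72, nat_lit 54]))
noncomputable def r4 : WT := (.node (nat_lit 7) (.leaf (nat_lit 8204) [nat_lit 90, nat_lit 36, nat_lit 54, nat_lit 36, nat_lit 54, nat_lit 72, nat_lit 90]) (.leaf (nat_lit 21504) [nat_lit 108, nat_lit 72, nat_lit 108]))
noncomputable def r5 : WT := (.node (nat_lit 10) (.node (nat_lit 9) (.leaf (nat_lit 29708) [nat_lit 90, nat_lit 108, nat_lit 126, nat_lit 108, nat_lit 126, nat_lit 72, nat_lit 90]) (.leaf (nat_lit 29699) [nat_lit 90, nat_lit 72, nat_lit 126, nat_lit 108, nat_lit 126, nat_lit 108, nat_lit 90])) (.node (nat_lit 13) (.node (nat_lit 11) (.leaf (nat_lit 8200) [nat_lit 90, nat_lit 72, nat_lit 90, nat_lit 36, nat_lit 54, nat_lit 36, nat_lit 54]) (.node (nat_lit 12) (.leaf (nat_lit 8195) [nat_lit 90, nat_lit 72, nat_lit 54, nat_lit 36, nat_lit 54, nat_lit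 36, nat_lit 90]) (.leaf (nat_lit 29704) [nat_lit 90, nat_lit 72, nat_lit 90, nat_lit 108, nat_lit 126, nat_lit 108, nat_lit 126]))) (.node (nat_lit 14) (.leaf (nat_lit 29703) [nat_lit 126, nat_lit 108, nat_lit 126, nat_lit 108, nat_lit 90, nat_lit 72, nat_lit 90]) (.node (nat_lit 15) (.leaf (nat_lit 34828) [nat_lit 90, nat_lit 144, nat_lit 162, nat_lit 144, nat_lit 162, nat_lit 72, nat_lit 90]) (.leaf (nat_lit 34823) [nat_lit 162, nat_lit 144, nat_lit 162, nat_lit 144, nat_lit 90, nat_lit 72, nat_lit 90])))))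
noncomputable def w2 : WT := (.node (nat_lit 1) (.leaf (nat_lit 2048) [nat_lit 72]) (.node (nat_lit 3) (.node (nat_lit 2) (.leaf (nat_lit 9218) [nat_lit 36, nat_lit 72, nat_lit 36]) (.leaf (nat_lit 24576) [nat_lit 162, nat_lit 72, nat_lit 162])) (.node (nat_lit 6) (.node (nat_lit 4) (.leaf (nat_lit 22528) [nat_lit 126, nat_lit 72, nat_lit 126]) r3) (.node (nat_lit 8) r4 r5))))
noncomputable def r6 : WT := (.node (nat_lit 7) (.leaf (nat_lit 26624) [nat_lit 126, nat_lit 90, nat_lit 126]) (.leaf (nat_lit 16386) [nat_lit 54, nat_lit 90, nat_lit 54]))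
noncomputable def r7 : WT := (.node (nat_lit 10) (.node (nat_lit 9) (.leaf (nat_lit 8197) [nat_lit 72, nat_lit 54, nat_lit 36, nat_lit 54, nat_lit 36, nat_lit 90, nat_lit 72]) (.leaf (nat_lit 8206) [nat_lit 36, nat_lit 54, nat_lit 36, nat_lit 54, nat_lit 72, nat_lit 90, nat_lit 72])) (.node (nat_lit 12) (.node (nat_lit 11) (.leaf (nat_lit 29706) [nat_lit 72, nat_lit 90, nat_lit 108, nat_lit 126, nat_lit 108, nat_lit 126, nat_lit 72]) (.leaf (nat_lit 29710) [nat_lit 108, nat_lit 126, nat_lit 108, nat_lit 126, nat_lit 72, nat_lit 90, nat_lit 72])) (.node (nat_lit 14) (.node (nat_lit 13) (.leaf (nat_lit 34817) [nat_lit 72, nat_lit 90, nat_lit 72, nat_lit 162, nat_lit 144, nat_lit 162, nat_lit 144]) (.leaf (nat_lit 29697) [nat_lit 72, nat_lit 90, nat_lit 72, nat_lit 126, nat_lit 108, nat_lit 126, nat_lit 108])) (.node (nat_lit 15) (.leaf (nat_lit 34830) [nat_lit 144, nat_lit 162, nat_lit 144, nat_lit 162, nat_lit 72, nat_lit 90, nat_lit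 72]) (.leaf (nat_lit 35842) [nat_lit 72, nat_lit 90, nat_lit 72, nat_lit 90, nat_lit 72, nat_lit 90, nat_lit 72])))))
noncomputable def w3 : WT := (.node (nat_lit 1) (.leaf (nat_lit 3072) [nat_lit 90]) (.node (nat_lit 4) (.node (nat_lit 2) (.leaf (nat_lit 10242) [nat_lit 36, nat_lit 90, nat_lit 36]) (.node (nat_lit 3) (.leaf (nat_lit 28672) [nat_lit 162, nat_lit 90, nat_lit 162]) (.leaf (nat_lit 25600) [nat_lit 108, nat_lit 90, nat_lit 108]))) (.node (nat_lit 6) (.node (nat_lit 5) (.leaf (nat_lit 8202) [nat_lit 72, nat_lit 90, nat_lit 36, nat_lit 54, nat_lit 36, nat_lit 54, nat_lit 72]) (.leaf (nat_lit 27648) [nat_lit 144, nat_lit 90, nat_lit 144])) (.node (nat_lit 8) r6 r7))))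
noncomputable def r8 : WT := (.node (nat_lit 8) (.leaf (nat_lit 17410) [nat_lit 54, nat_lit 108, nat_lit 54]) (.node (nat_lit 9) (.leaf (nat_lit 29707) [nat_lit 126, nat_lit 108, nat_lit 90, nat_lit 72, nat_lit 90, nat_lit 72, nat_lit 126]) (.leaf (nat_lit 29711) [nat_lit 90, nat_lit 72, nat_lit 90, nat_lit 72, nat_lit 126, nat_lit 108, nat_lit 126])))
noncomputable def w4 : WT := (.node (nat_lit 1) (.leaf (nat_lit 4096) [nat_lit 108]) (.node (nat_lit 4) (.node (nat_lit 2) (.leaf (nat_lit 11266) [nat_lit 36, nat_lit 108, nat_lit 36]) (.node (nat_lit 3) (.leaf (nat_lit 31744) [nat_lit 162, nat_lit 108, nat_lit 162]) (.leaf (nat_lit 21506) [nat_lit 72, nat_lit 108, nat_lit 72]))) (.node (nat_lit 6) (.node (nat_lit 5) (.leaf (nat_lit 25602) [nat_lit 90, nat_lit 108, nat_lit 90]) (.leaf (nat_lit 30720) [nat_lit 144, nat_lit 108, nat_lit 144])) (.node (nat_lit 7) (.leaf (nat_lit 29700) [nat_lit 126, nat_lit 72, nat_lit 90, nat_lit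 72, nat_lit 90, nat_lit 108, nat_lit 126]) r8))))
noncomputable def r9 : WT := (.node (nat_lit 6) (.leaf (nat_lit 32768) [nat_lit 144, nat_lit 126, nat_lit 144]) (.leaf (nat_lit 18434) [nat_lit 54, nat_lit 126, nat_lit 54]))
noncomputable def r10 : WT := (.node (nat_lit 8) (.leaf (nat_lit 29698) [nat_lit 108, nat_lit 126, nat_lit 72, nat_lit 90, nat_lit 72, nat_lit 90, nat_lit 108]) (.node (nat_lit 9) (.leaf (nat_lit 29709) [nat_lit 108, nat_lit 90, nat_lit 72, nat_lit 90, nat_lit 72, nat_lit 126, nat_lit 108]) (.leaf (nat_lit 29702) [nat_lit 72, nat_lit 90, nat_lit 72, nat_lit 90, nat_lit 108, nat_lit 126, nat_lit 108])))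
noncomputable def w5 : WT := (.node (nat_lit 1) (.leaf (nat_lit 5120) [nat_lit 126]) (.node (nat_lit 3) (.node (nat_lit 2) (.leaf (nat_lit 12290) [nat_lit 36, nat_lit 126, nat_lit 36]) (.leaf (nat_lit 22530) [nat_lit 72, nat_lit 126, nat_lit 72])) (.node (nat_lit 5) (.node (nat_lit 4) (.leaf (nat_lit 33792) [nat_lit 162, nat_lit 126, nat_lit 162]) (.leaf (nat_lit 26626) [nat_lit 90, nat_lit 126, nat_lit 90])) (.node (nat_lit 7) r9 r10))))
noncomputable def r11 : WT := (.node (nat_lit 7) (.leaf (nat_lit 30722) [nat_lit 108, nat_lit 144, nat_lit 108]) (.node (nat_lit 8) (.leaf (nat_lit 19458) [nat_lit 54, nat_lit 144, nat_lit 54]) (.node (nat_lit 9) (.leaf (nat_lit 34831) [nat_lit 90, nat_lit 72, nat_lit 90, nat_lit 72, nat_lit 162, nat_lit 144, nat_lit 162]) (.leaf (nat_lit 34827) [nat_lit 162, nat_lit 144, nat_lit 90, nat_lit 72, nat_lit 90, nat_lit 72, nat_lit 162]))))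
noncomputable def w6 : WT := (.node (nat_lit 1) (.leaf (nat_lit 6144) [nat_lit 144]) (.node (nat_lit 3) (.node (nat_lit 2) (.leaf (nat_lit 13314) [nat_lit 36, nat_lit 144, nat_lit 36]) (.leaf (nat_lit 27650) [nat_lit 90, nat_lit 144, nat_lit 90])) (.node (nat_lit 5) (.node (nat_lit 4) (.leaf (nat_lit 23554) [nat_lit 72, nat_lit 144, nat_lit 72]) (.leaf (nat_lit 34820) [nat_lit 162, nat_lit 72, nat_lit 90, nat_lit 72, nat_lit 90, nat_lit 144, nat_lit 162])) (.node (nat_lit 6) (.leaf (nat_lit 32770) [nat_lit 126, nat_lit 144, nat_lit 126]) r11))))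
noncomputable def r12 : WT := (.node (nat_lit 6) (.leaf (nat_lit 31746) [nat_lit 108, nat_lit 162, nat_lit 108]) (.leaf (nat_lit 20482) [nat_lit 54, nat_lit 162, nat_lit 54]))
noncomputable def r13 : WT := (.node (nat_lit 8) (.leaf (nat_lit 34818) [nat_lit 144, nat_lit 162, nat_lit 72, nat_lit 90, nat_lit 72, nat_lit 90, nat_lit 144]) (.node (nat_lit 9) (.leaf (nat_lit 34822) [nat_lit 72, nat_lit 90, nat_lit 72, nat_lit 90, nat_lit 144, nat_lit 162, nat_lit 144]) (.leaf (nat_lit 34829) [nat_lit 144, nat_lit 90, nat_lit 72, nat_lit 90, nat_lit 72, nat_lit 162, nat_lit 144])))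
noncomputable def w7 : WT := (.node (nat_lit 1) (.leaf (nat_lit 7168) [nat_lit 162]) (.node (nat_lit 3) (.node (nat_lit 2) (.leaf (nat_lit 14338) [nat_lit 36, nat_lit 162, nat_lit 36]) (.leaf (nat_lit 24578) [nat_lit 72, nat_lit 162, nat_lit 72])) (.node (nat_lit 5) (.node (nat_lit 4) (.leaf (nat_lit 28674) [nat_lit 90, nat_lit 162, nat_lit 90]) (.leaf (nat_lit 33794) [nat_lit 126, nat_lit 162, nat_lit 126])) (.node (nat_lit 7) r12 r13))))
noncomputable def wP : WT := (.leaf (nat_lit 0) [nat_lit 36, nat_lit 36])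
noncomputable def P : Par := ⟨tb, nat_lit 180, nat_lit 0xfffffffffffffffffffffffffffffffffffffffffffff, nat_lit 512, nat_lit 262143, nat_lit 1023, nat_lit 18, nat_lit 10, nat_lit 512,
  [nat_lit 36, nat_lit 54, nat_lit 72, nat_lit 90, nat_lit 108, nat_lit 126, nat_lit 144, nat_lit 162], [], wP,
  (.cons (nat_lit 36) w0 (.cons (nat_lit 54) w1 (.cons (nat_lit 72) w2 (.cons (nat_lit 90) w3 (.cons (nat_lit 108) w4 (.cons (nat_lit 126) w5 (.cons (nat_lit 144) w6 (.cons (nat_lit 162) w7 .nil)))))))),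
  .nil⟩

end Cfsg.Agent.Lib.TCCo1f
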