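import Cfsg.Agent.Lib.TCCo2HD0

set_option autoImplicit false
set_option maxRecDepth 100000

namespace Cfsg.Agent.Lib.TCCo2H
open Cfsg.Agent.Lib.TCCore

noncomputable def tb : T := (.node (nat_lit 255) (.node (nat_lit 102) (.node (nat_lit 51) l0 l1) (.node (nat_lit 153) l2 (.node (nat_lit 204) l3 l4))) (.node (nat_lit 408) (.node (nat_lit 306) l5 (.node (nat_lit 357) l6 l7)) (.node (nat_lit 459) l8 (.node (nat_lit 510) l9 l10))))
noncomputable def r0 : WT := (.node (nat_lit 3) (.leaf (nat_lit 15360) [nat_lit 34, nat_lit 34]) (.leaf (nat_lit 68608) [nat_lit 340, nat_lit 51, nat_lit 340, nat_lit 306, nat_lit 289, nat_lit 255]))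
noncomputable def r1 : WT := (.node (nat_lit 5) (.leaf (nat_lit 65536) [nat_lit 289, nat_lit 51, nat_lit 255]) (.leaf (nat_lit 66565) [nat_lit 306, nat_lit 51, nat_lit 289, nat_lit 340]))
noncomputable def r2 : WT := (.node (nat_lit 7) (.leaf (nat_lit 68617) [nat_lit 340, nat_lit 51, nat_lit 255, nat_lit 289, nat_lit 306, nat_lit 340]) (.leaf (nat_lit 21507) [nat_lit 85, nat_lit 51, nat_lit 68, nat_lit 51, nat_lit 85]))
noncomputable def r3 : WT := (.node (nat_lit 10) (.node (nat_lit 9) (.leaf (nat_lit 23556) [nat_lit 119, nat_lit 51, nat_lit 85, nat_lit 34, nat_lit 102]) (.leaf (nat_lit 21504) [nat_lit 85, nat_lit 34, nat_lit 68, nat_lit 51, nat_lit 68])) (.node (nat_lit 11) (.leaf (nat_lit 24580) [nat_lit 153, nat_lit 51, nat_lit 153, nat_lit 34, nat_lit 136]) (.leaf (nat_lit 14338) [nat_lit 68, nat_lit 34, nat_lit 68])))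
noncomputable def r4 : WT := (.node (nat_lit 14) (.node (nat_lit 13) (.leaf (nat_lit 66560) [nat_lit 306, nat_lit 51, nat_lit 340, nat_lit 289]) (.leaf (nat_lit 23552) [nat_lit 102, nat_lit 34, nat_lit 119, nat_lit 51, nat_lit 85])) (.node (nat_lit 15) (.leaf (nat_lit 67597) [nat_lit 323, nat_lit 51, nat_lit 238, nat_lit 255, nat_lit 238, nat_lit 255, nat_lit 323, nat_lit 357]) (.leaf (nat_lit 64512) [nat_lit 272, nat_lit 51, nat_lit 357, nat_lit 323, nat_lit 272, nat_lit 238])))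
noncomputable def r5 : WT := (.node (nat_lit 19) (.node (nat_lit 17) (.leaf (nat_lit 24576) [nat_lit 136, nat_lit 34, nat_lit 153, nat_lit 51, nat_lit 153]) (.node (nat_lit 18) (.leaf (nat_lit 25603) [nat_lit 153, nat_lit 119, nat_lit 136, nat_lit 51, nat_lit 102]) (.leaf (nat_lit 28672) [nat_lit 187, nat_lit 34, nat_lit 170, nat_lit 51, nat_lit 170]))) (.node (nat_lit 20) (.leaf (nat_lit 28676) [nat_lit 170, nat_lit 51, nat_lit 170, nat_lit 34, nat_lit 187]) (.node (nat_lit 21) (.leaf (nat_lit 63488) [nat_lit 255, nat_lit 51, nat_lit 289, nat_lit 238, nat_lit 255, nat_lit 238]) (.leaf (nat_lit 63497) [nat_lit 255, nat_lit 51, nat_lit 238, nat_lit 255, nat_lit 238, nat_lit 289]))))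
noncomputable def r6 : WT := (.node (nat_lit 26) (.node (nat_lit 24) (.node (nat_lit 23) (.leaf (nat_lit 21508) [nat_lit 68, nat_lit 51, nat_lit 68, nat_lit 34, nat_lit 85]) (.leaf (nat_lit 25600) [nat_lit 153, nat_lit 102, nat_lit 136, nat_lit 51, nat_lit 119])) (.node (nat_lit 25) (.leaf (nat_lit 22531) [nat_lit 68, nat_lit 119, nat_lit 85, nat_lit 51, nat_lit 119]) (.leaf (nat_lit 62464) [nat_lit 238, nat_lit 51, nat_lit 357, nat_lit 272, nat_lit 255, nat_lit 238, nat_lit 255, nat_lit 238]))) (.node (nat_lit 29) (.node (nat_lit 27) (.leaf (nat_lit 67584) [nat_lit 323, nat_lit 51, nat_lit 357, nat_lit 323, nat_lit 255, nat_lit 238, nat_lit 255, nat_lit 238]) (.node (nat_lit 28) (.leaf (nat_lit 28675) [nat_lit 187, nat_lit 51, nat_lit 170, nat_lit 51, nat_lit 187]) (.leaf (nat_lit 64521) [nat_lit 272, nat_lit 51, nat_lit 238, nat_lit 272, nat_lit 323, nat_lit 357]))) (.node (nat_lit 30) (.leaf (nat_lit 23555) [nat_lit 102, nat_lit 51, nat_lit 119, nat_lit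 51, nat_lit 68]) (.node (nat_lit 31) (.leaf (nat_lit 62477) [nat_lit 238, nat_lit 51, nat_lit 238, nat_lit 255, nat_lit 238, nat_lit 255, nat_lit 272, nat_lit 357]) (.leaf (nat_lit 27651) [nat_lit 153, nat_lit 187, nat_lit 136, nat_lit 51, nat_lit 187])))))
noncomputable def w0 : WT := (.node (nat_lit 1) (.leaf (nat_lit 0) [nat_lit 51]) (.node (nat_lit 8) (.node (nat_lit 4) (.node (nat_lit 2) (.leaf (nat_lit 69632) [nat_lit 357, nat_lit 51, nat_lit 323]) r0) (.node (nat_lit 6) r1 r2)) (.node (nat_lit 16) (.node (nat_lit 12) r3 r4) (.node (nat_lit 22) r5 r6))))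
noncomputable def r7 : WT := (.node (nat_lit 4) (.leaf (nat_lit 69636) [nat_lit 323, nat_lit 34, nat_lit 357]) (.leaf (nat_lit 64516) [nat_lit 357, nat_lit 323, nat_lit 272, nat_lit 238, nat_lit 34, nat_lit 272]))
noncomputable def r8 : WT := (.node (nat_lit 7) (.leaf (nat_lit 14337) [nat_lit 85, nat_lit 51, nat_lit 85]) (.leaf (nat_lit 65540) [nat_lit 255, nat_lit 34, nat_lit 289]))
noncomputable def r9 : WT := (.node (nat_lit 9) (.leaf (nat_lit 24584) [nat_lit 153, nat_lit 34, nat_lit 136, nat_lit 34, nat_lit 153]) (.node (nat_lit 10) (.leaf (nat_lit 22539) [nat_lit 119, nat_lit 34, nat_lit 68, nat_lit 119, nat_lit 85]) (.leaf (nat_lit 21512) [nat_lit 68, nat_lit 34, nat_lit 85, nat_lit 34, nat_lit 68])))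
noncomputable def r10 : WT := (.node (nat_lit 13) (.node (nat_lit 12) (.leaf (nat_lit 25608) [nat_lit 119, nat_lit 34, nat_lit 153, nat_lit 102, nat_lit 136]) (.leaf (nat_lit 67588) [nat_lit 357, nat_lit 323, nat_lit 255, nat_lit 238, nat_lit 255, nat_lit 238, nat_lit 34, nat_lit 323])) (.node (nat_lit 14) (.leaf (nat_lit 62468) [nat_lit 357, nat_lit 272, nat_lit 255, nat_lit 238, nat_lit 255, nat_lit 238, nat_lit 34, nat_lit 238]) (.leaf (nat_lit 27659) [nat_lit 187, nat_lit 34, nat_lit 153, nat_lit 187, nat_lit 136])))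
noncomputable def r11 : WT := (.node (nat_lit 18) (.node (nat_lit 16) (.leaf (nat_lit 22536) [nat_lit 102, nat_lit 34, nat_lit 68, nat_lit 102, nat_lit 85]) (.node (nat_lit 17) (.leaf (nat_lit 66569) [nat_lit 289, nat_lit 340, nat_lit 34, nat_lit 306]) (.leaf (nat_lit 23559) [nat_lit 119, nat_lit 51, nat_lit 68, nat_lit 34, nat_lit 102]))) (.node (nat_lit 19) (.leaf (nat_lit 63501) [nat_lit 238, nat_lit 255, nat_lit 238, nat_lit 289, nat_lit 34, nat_lit 255]) (.node (nat_lit 20) (.leaf (nat_lit 24583) [nat_lit 153, nat_lit 51, nat_lit 136, nat_lit 34, nat_lit 136]) (.leaf (nat_lit 68621) [nat_lit 255, nat_lit 289, nat_lit 306, nat_lit 340, nat_lit 34, nat_lit 340]))))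
noncomputable def r12 : WT := (.node (nat_lit 32) (.leaf (nat_lit 21511) [nat_lit 68, nat_lit 51, nat_lit 85, nat_lit 34, nat_lit 85]) (.leaf (nat_lit 23563) [nat_lit 68, nat_lit 34, nat_lit 102, nat_lit 51, nat_lit 119]))
noncomputable def r13 : WT := (.node (nat_lit 25) (.node (nat_lit 23) (.node (nat_lit 22) (.leaf (nat_lit 27656) [nat_lit 170, nat_lit 34, nat_lit 153, nat_lit 170, nat_lit 136]) (.leaf (nat_lit 24587) [nat_lit 136, nat_lit 34, nat_lit 136, nat_lit 51, nat_lit 153])) (.node (nat_lit 24) (.leaf (nat_lit 63492) [nat_lit 289, nat_lit 238, nat_lit 255, nat_lit 238, nat_lit 34, nat_lit 255]) (.leaf (nat_lit 25611) [nat_lit 102, nat_lit 34, nat_lit 153, nat_lit 119, nat_lit 136]))) (.node (nat_lit 28) (.node (nat_lit 26) (.leaf (nat_lit 23560) [nat_lit 85, nat_lit 34, nat_lit 102, nat_lit 34, nat_lit 119]) (.node (nat_lit 27) (.leaf (nat_lit 64525) [nat_lit 238, nat_lit 272, nat_lit 323, nat_lit 357, nat_lit 34, nat_lit 272]) (.leaf (nat_lit 21515)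 [nat_lit 85, nat_lit 34, nat_lit 85, nat_lit 51, nat_lit 68]))) (.node (nat_lit 30) (.node (nat_lit 29) (.leaf (nat_lit 28680) [nat_lit 170, nat_lit 34, nat_lit 187, nat_lit 34, nat_lit 170]) (.leaf (nat_lit 28679) [nat_lit 170, nat_lit 51, nat_lit 187, nat_lit 34, nat_lit 187])) (.node (nat_lit 31) (.leaf (nat_lit 28683) [nat_lit 187, nat_lit 34, nat_lit 187, nat_lit 51, nat_lit 170]) r12))))
noncomputable def w1 : WT := (.node (nat_lit 2) (.node (nat_lit 1) (.leaf (nat_lit 2) [nat_lit 34]) (.leaf (nat_lit 15361) [nat_lit 51, nat_lit 51])) (.node (nat_lit 8) (.node (nat_lit 5) (.node (nat_lit 3) (.leaf (nat_lit 66564) [nat_lit 340, nat_lit 289, nat_lit 34, nat_lit 306]) r7) (.node (nat_lit 6) (.leaf (nat_lit 68612) [nat_lit 340, nat_lit 306, nat_lit 289, nat_lit 255, nat_lit 34, nat_lit 340]) r8)) (.node (nat_lit 15) (.node (nat_lit 11) r9 r10) (.node (nat_lit 21) r11 r13))))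
noncomputable def r14 : WT := (.leaf (nat_lit 76800) [nat_lit 340, nat_lit 85, nat_lit 340, nat_lit 306, nat_lit 289, nat_lit 272, nat_lit 255, nat_lit 238, nat_lit 255, nat_lit 238, nat_lit 255, nat_lit 238])
noncomputable def r15 : WT := (.leaf (nat_lit 76821) [nat_lit 340, nat_lit 85, nat_lit 238, nat_lit 255, nat_lit 238, nat_lit 255, nat_lit 238, nat_lit 255, nat_lit 272, nat_lit 289, nat_lit 306, nat_lit 340])
noncomputable def r16 : WT := (.node (nat_lit 5) (.leaf (nat_lit 21510) [nat_lit 51, nat_lit 68, nat_lit 34, nat_lit 85, nat_lit 34]) (.node (nat_lit 6) r14 r15))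
noncomputable def r17 : WT := (.node (nat_lit 8) (.leaf (nat_lit 32772) [nat_lit 221, nat_lit 85, nat_lit 119, nat_lit 68, nat_lit 204]) (.node (nat_lit 9) (.leaf (nat_lit 22533) [nat_lit 119, nat_lit 85, nat_lit 51, nat_lit 119, nat_lit 34]) (.leaf (nat_lit 21513) [nat_lit 51, nat_lit 85, nat_lit 34, nat_lit 85, nat_lit 51])))
noncomputable def r18 : WT := (.node (nat_lit 12) (.node (nat_lit 11) (.leaf (nat_lit 31747) [nat_lit 102, nat_lit 221, nat_lit 119, nat_lit 85, nat_lit 221]) (.leaf (nat_lit 32771) [nat_lit 204, nat_lit 85, nat_lit 221, nat_lit 85, nat_lit 102])) (.node (nat_lit 13) (.leaf (nat_lit 31744) [nat_lit 102, nat_lit 204, nat_lit 119, nat_lit 85, nat_lit 204]) (.leaf (nat_lit 71680) [nat_lit 255, nat_lit 85, nat_lit 357, nat_lit 323, nat_lit 255, nat_lit 238, nat_lit 255, nat_lit 238])))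
noncomputable def r19 : WT := (.node (nat_lit 16) (.node (nat_lit 15) (.leaf (nat_lit 75789) [nat_lit 323, nat_lit 85, nat_lit 238, nat_lit 255, nat_lit 238, nat_lit 289, nat_lit 323, nat_lit 357]) (.leaf (nat_lit 22530) [nat_lit 102, nat_lit 85, nat_lit 51, nat_lit 102, nat_lit 34])) (.node (nat_lit 17) (.leaf (nat_lit 75776) [nat_lit 323, nat_lit 85, nat_lit 357, nat_lit 323, nat_lit 289, nat_lit 238, nat_lit 255, nat_lit 238]) (.node (nat_lit 18) (.leaf (nat_lit 21514) [nat_lit 34, nat_lit 85, nat_lit 34, nat_lit 68, nat_lit 51]) (.leaf (nat_lit 70656) [nat_lit 238, nat_lit 85, nat_lit 357, nat_lit 306, nat_lit 238, nat_lit 255, nat_lit 238, nat_lit 255, nat_lit 238]))))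
noncomputable def r20 : WT := (.node (nat_lit 23) (.node (nat_lit 21) (.node (nat_lit 20) (.leaf (nat_lit 74752) [nat_lit 306, nat_lit 85, nat_lit 289, nat_lit 238, nat_lit 255, nat_lit 238, nat_lit 255, nat_lit 238]) (.leaf (nat_lit 71693) [nat_lit 255, nat_lit 85, nat_lit 238, nat_lit 255, nat_lit 238, nat_lit 255, nat_lit 323, nat_lit 357])) (.node (nat_lit 22) (.leaf (nat_lit 74765) [nat_lit 306, nat_lit 85, nat_lit 238, nat_lit 255, nat_lit 238, nat_lit 255, nat_lit 238, nat_lit 289]) (.leaf (nat_lit 73728) [nat_lit 289, nat_lit 85, nat_lit 357, nat_lit 289, nat_lit 255, nat_lit 238, nat_lit 255, nat_lit 238]))) (.node (nat_lit 25) (.node (nat_lit 24) (.leaf (nat_lit 70671) [nat_lit 238, nat_lit 85, nat_lit 238, nat_lit 255, nat_lit 238, nat_lit 255, nat_lit 238, nat_lit 306, nat_lit 357]) (.leaf (nat_lit 23553) [nat_lit 34, nat_lit 102, nat_lit 51, nat_lit 119, nat_lit 51])) (.node (nat_lit 27) (.node (nat_lit 26) (.leaf (nat_lit 73741) [nat_lit 289,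 nat_lit 85, nat_lit 238, nat_lit 255, nat_lit 238, nat_lit 255, nat_lit 289, nat_lit 357]) (.leaf (nat_lit 72721) [nat_lit 272, nat_lit 85, nat_lit 238, nat_lit 255, nat_lit 238, nat_lit 255, nat_lit 306, nat_lit 323, nat_lit 340, nat_lit 357])) (.node (nat_lit 28) (.leaf (nat_lit 32768) [nat_lit 204, nat_lit 68, nat_lit 221, nat_lit 85, nat_lit 119]) (.leaf (nat_lit 72704) [nat_lit 272, nat_lit 85, nat_lit 357, nat_lit 340, nat_lit 323, nat_lit 306, nat_lit 255, nat_lit 238, nat_lit 255, nat_lit 238])))))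
noncomputable def w2 : WT := (.node (nat_lit 1) (.leaf (nat_lit 1024) [nat_lit 85]) (.node (nat_lit 7) (.node (nat_lit 3) (.node (nat_lit 2) (.leaf (nat_lit 16384) [nat_lit 68, nat_lit 68]) (.leaf (nat_lit 77824) [nat_lit 357, nat_lit 85, nat_lit 289])) (.node (nat_lit 4) (.leaf (nat_lit 14336) [nat_lit 34, nat_lit 68, nat_lit 34]) r16)) (.node (nat_lit 14) (.node (nat_lit 10) r17 r18) (.node (nat_lit 19) r19 r20))))
noncomputable def r21 : WT := (.leaf (nat_lit 76804) [nat_lit 340, nat_lit 306, nat_lit 289, nat_lit 272, nat_lit 255, nat_lit 238, nat_lit 255, nat_lit 238, nat_lit 255, nat_lit 238, nat_lit 68, nat_lit 340])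
noncomputable def r22 : WT := (.node (nat_lit 5) (.leaf (nat_lit 71684) [nat_lit 357, nat_lit 323, nat_lit 255, nat_lit 238, nat_lit 255, nat_lit 238, nat_lit 68, nat_lit 255]) (.leaf (nat_lit 77828) [nat_lit 289, nat_lit 68, nat_lit 357]))
noncomputable def r23 : WT := (.node (nat_lit 7) (.leaf (nat_lit 32776) [nat_lit 119, nat_lit 68, nat_lit 204, nat_lit 68, nat_lit 221]) (.leaf (nat_lit 31755) [nat_lit 221, nat_lit 68, nat_lit 102, nat_lit 221, nat_lit 119]))
noncomputable def r24 : WT := (.node (nat_lit 9) (.leaf (nat_lit 72708) [nat_lit 357, nat_lit 340, nat_lit 323, nat_lit 306, nat_lit 255, nat_lit 238, nat_lit 255, nat_lit 238, nat_lit 68, nat_lit 272]) (.node (nat_lit 10) (.leaf (nat_lit 22537) [nat_lit 51, nat_lit 119, nat_lit 34, nat_lit 68, nat_lit 119]) (.leaf (nat_lit 31752) [nat_lit 204, nat_lit 68, nat_lit 102, nat_lit 204, nat_lit 119])))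
noncomputable def r25 : WT := (.leaf (nat_lit 76825) [nat_lit 238, nat_lit 255, nat_lit 238, nat_lit 255, nat_lit 238, nat_lit 255, nat_lit 272, nat_lit 289, nat_lit 306, nat_lit 340, nat_lit 68, nat_lit 340])
noncomputable def r26 : WT := (.node (nat_lit 13) (.node (nat_lit 12) (.leaf (nat_lit 21506) [nat_lit 34, nat_lit 68, nat_lit 51, nat_lit 68, nat_lit 34]) (.leaf (nat_lit 32775) [nat_lit 221, nat_lit 85, nat_lit 102, nat_lit 68, nat_lit 204])) (.node (nat_lit 14) (.leaf (nat_lit 32779) [nat_lit 102, nat_lit 68, nat_lit 204, nat_lit 85, nat_lit 221]) (.node (nat_lit 15) (.leaf (nat_lit 73732) [nat_lit 357, nat_lit 289, nat_lit 255, nat_lit 238, nat_lit 255, nat_lit 238, nat_lit 68, nat_lit 289]) r25)))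
noncomputable def r27 : WT := (.node (nat_lit 25) (.leaf (nat_lit 74769) [nat_lit 238, nat_lit 255, nat_lit 238, nat_lit 255, nat_lit 238, nat_lit 289, nat_lit 68, nat_lit 306]) (.leaf (nat_lit 75793) [nat_lit 238, nat_lit 255, nat_lit 238, nat_lit 289, nat_lit 323, nat_lit 357, nat_lit 68, nat_lit 323]))
noncomputable def r28 : WT := (.node (nat_lit 27) (.leaf (nat_lit 70675) [nat_lit 238, nat_lit 255, nat_lit 238, nat_lit 255, nat_lit 238, nat_lit 306, nat_lit 357, nat_lit 68, nat_lit 238]) (.leaf (nat_lit 72725) [nat_lit 238, nat_lit 255, nat_lit 238, nat_lit 255, nat_lit 306, nat_lit 323, nat_lit 340, nat_lit 357, nat_lit 68, nat_lit 272]))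
noncomputable def r29 : WT := (.node (nat_lit 20) (.node (nat_lit 18) (.node (nat_lit 17) (.leaf (nat_lit 70660) [nat_lit 357, nat_lit 306, nat_lit 238, nat_lit 255, nat_lit 238, nat_lit 255, nat_lit 238, nat_lit 68, nat_lit 238]) (.leaf (nat_lit 75780) [nat_lit 357, nat_lit 323, nat_lit 289, nat_lit 238, nat_lit 255, nat_lit 238, nat_lit 68, nat_lit 323])) (.node (nat_lit 19) (.leaf (nat_lit 73745) [nat_lit 238, nat_lit 255, nat_lit 238, nat_lit 255, nat_lit 289, nat_lit 357, nat_lit 68, nat_lit 289]) (.leaf (nat_lit 23562) [nat_lit 34, nat_lit 102, nat_lit 34, nat_lit 119, nat_lit 51]))) (.node (nat_lit 22) (.node (nat_lit 21) (.leaf (nat_lit 22534) [nat_lit 51, nat_lit 102, nat_lit 34, nat_lit 68, nat_lit 102]) (.leaf (nat_lit 74756) [nat_lit 289, nat_lit 238, nat_lit 255, nat_lit 238, nat_lit 255, nat_lit 238, nat_lit 68, nat_lit 306])) (.node (nat_lit 24) (.node (nat_lit 23) (.leaf (nat_lit 71697) [nat_lit 238, nat_lit 255, nat_lit 238, nat_lit 255, nat_lit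 323, nat_lit 357, nat_lit 68, nat_lit 255]) (.leaf (nat_lit 21505) [nat_lit 34, nat_lit 85, nat_lit 51, nat_lit 68, nat_lit 51])) (.node (nat_lit 26) r27 r28))))
noncomputable def w3 : WT := (.node (nat_lit 1) (.leaf (nat_lit 1026) [nat_lit 68]) (.node (nat_lit 6) (.node (nat_lit 3) (.node (nat_lit 2) (.leaf (nat_lit 16385) [nat_lit 85, nat_lit 85]) (.leaf (nat_lit 14339) [nat_lit 51, nat_lit 85, nat_lit 51])) (.node (nat_lit 4) r21 r22)) (.node (nat_lit 11) (.node (nat_lit 8) r23 r24) (.node (nat_lit 16) r26 r29))))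
noncomputable def r30 : WT := (.node (nat_lit 5) (.leaf (nat_lit 23557) [nat_lit 51, nat_lit 119, nat_lit 51, nat_lit 68, nat_lit 34]) (.leaf (nat_lit 22532) [nat_lit 85, nat_lit 51, nat_lit 102, nat_lit 34, nat_lit 68]))
noncomputable def r31 : WT := (.node (nat_lit 7) (.leaf (nat_lit 26627) [nat_lit 187, nat_lit 119, nat_lit 170]) (.node (nat_lit 8) (.leaf (nat_lit 81920) [nat_lit 289, nat_lit 119, nat_lit 306, nat_lit 238]) (.leaf (nat_lit 31749) [nat_lit 221, nat_lit 119, nat_lit 85, nat_lit 221, nat_lit 68])))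
noncomputable def r32 : WT := (.node (nat_lit 11) (.node (nat_lit 10) (.leaf (nat_lit 23554) [nat_lit 34, nat_lit 119, nat_lit 51, nat_lit 85, nat_lit 34]) (.leaf (nat_lit 32769) [nat_lit 68, nat_lit 204, nat_lit 85, nat_lit 221, nat_lit 85])) (.node (nat_lit 12) (.leaf (nat_lit 82944) [nat_lit 306, nat_lit 119, nat_lit 357, nat_lit 289, nat_lit 238]) (.leaf (nat_lit 26624) [nat_lit 170, nat_lit 119, nat_lit 187])))
noncomputable def r33 : WT := (.node (nat_lit 15) (.node (nat_lit 14) (.leaf (nat_lit 22538) [nat_lit 34, nat_lit 68, nat_lit 102, nat_lit 85, nat_lit 51]) (.leaf (nat_lit 86021) [nat_lit 357, nat_lit 119, nat_lit 289, nat_lit 306])) (.node (nat_lit 16) (.leaf (nat_lit 82951) [nat_lit 306, nat_lit 119, nat_lit 238, nat_lit 289, nat_lit 357]) (.node (nat_lit 17) (.leaf (nat_lit 85005) [nat_lit 340, nat_lit 119, nat_lit 238, nat_lit 255, nat_lit 289, nat_lit 306, nat_lit 323, nat_lit 340]) (.leaf (nat_lit 81925) [nat_lit 289, nat_lit 119, nat_lit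 238, nat_lit 306]))))
noncomputable def r34 : WT := (.node (nat_lit 22) (.node (nat_lit 20) (.node (nat_lit 19) (.leaf (nat_lit 78861) [nat_lit 238, nat_lit 119, nat_lit 238, nat_lit 255, nat_lit 238, nat_lit 255, nat_lit 306, nat_lit 357]) (.leaf (nat_lit 31746) [nat_lit 204, nat_lit 119, nat_lit 85, nat_lit 204, nat_lit 68])) (.node (nat_lit 21) (.leaf (nat_lit 83985) [nat_lit 323, nat_lit 119, nat_lit 238, nat_lit 255, nat_lit 238, nat_lit 272, nat_lit 289, nat_lit 323, nat_lit 340, nat_lit 357]) (.leaf (nat_lit 79872) [nat_lit 255, nat_lit 119, nat_lit 357, nat_lit 323, nat_lit 272, nat_lit 238, nat_lit 255, nat_lit 238]))) (.node (nat_lit 25) (.node (nat_lit 23) (.leaf (nat_lit 79885) [nat_lit 255, nat_lit 119, nat_lit 238, nat_lit 255, nat_lit 238, nat_lit 272, nat_lit 323, nat_lit 357]) (.node (nat_lit 24) (.leaf (nat_lit 78848) [nat_lit 238, nat_lit 119, nat_lit 357, nat_lit 306, nat_lit 255, nat_lit 238, nat_lit 255, nat_lit 238]) (.leaf (nat_lit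 83968) [nat_lit 323, nat_lit 119, nat_lit 357, nat_lit 340, nat_lit 323, nat_lit 289, nat_lit 272, nat_lit 238, nat_lit 255, nat_lit 238]))) (.node (nat_lit 26) (.leaf (nat_lit 25604) [nat_lit 136, nat_lit 51, nat_lit 119, nat_lit 34, nat_lit 153]) (.node (nat_lit 27) (.leaf (nat_lit 25601) [nat_lit 34, nat_lit 153, nat_lit 119, nat_lit 136, nat_lit 51]) (.leaf (nat_lit 80915) [nat_lit 272, nat_lit 119, nat_lit 238, nat_lit 255, nat_lit 238, nat_lit 255, nat_lit 272, nat_lit 306, nat_lit 323, nat_lit 340, nat_lit 357])))))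
noncomputable def w4 : WT := (.node (nat_lit 1) (.leaf (nat_lit 2048) [nat_lit 119]) (.node (nat_lit 6) (.node (nat_lit 3) (.node (nat_lit 2) (.leaf (nat_lit 17408) [nat_lit 102, nat_lit 102]) (.leaf (nat_lit 86016) [nat_lit 357, nat_lit 119, nat_lit 306, nat_lit 289])) (.node (nat_lit 4) (.leaf (nat_lit 84992) [nat_lit 340, nat_lit 119, nat_lit 340, nat_lit 323, nat_lit 306, nat_lit 289, nat_lit 255, nat_lit 238]) r30)) (.node (nat_lit 13) (.node (nat_lit 9) r31 r32) (.node (nat_lit 18) r33 r34))))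
noncomputable def r35 : WT := (.node (nat_lit 5) (.leaf (nat_lit 23558) [nat_lit 51, nat_lit 85, nat_lit 34, nat_lit 102, nat_lit 34]) (.leaf (nat_lit 81924) [nat_lit 306, nat_lit 238, nat_lit 102, nat_lit 289]))
noncomputable def r36 : WT := (.node (nat_lit 7) (.leaf (nat_lit 22535) [nat_lit 85, nat_lit 51, nat_lit 119, nat_lit 34, nat_lit 68]) (.leaf (nat_lit 82948) [nat_lit 357, nat_lit 289, nat_lit 238, nat_lit 102, nat_lit 306]))
noncomputable def r37 : WT := (.node (nat_lit 9) (.leaf (nat_lit 79876) [nat_lit 357, nat_lit 323, nat_lit 272, nat_lit 238, nat_lit 255, nat_lit 238, nat_lit 102, nat_lit 255]) (.node (nat_lit 10) (.leaf (nat_lit 86020) [nat_lit 306, nat_lit 289, nat_lit 102, nat_lit 357]) (.leaf (nat_lit 78852) [nat_lit 357, nat_lit 306, nat_lit 255, nat_lit 238, nat_lit 255, nat_lit 238, nat_lit 102, nat_lit 238])))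
noncomputable def r38 : WT := (.node (nat_lit 12) (.leaf (nat_lit 23561) [nat_lit 51, nat_lit 68, nat_lit 34, nat_lit 102, nat_lit 51]) (.node (nat_lit 13) (.leaf (nat_lit 26631) [nat_lit 170, nat_lit 102, nat_lit 187]) (.leaf (nat_lit 25607) [nat_lit 136, nat_lit 51, nat_lit 102, nat_lit 34, nat_lit 153])))
noncomputable def r39 : WT := (.node (nat_lit 16) (.node (nat_lit 15) (.leaf (nat_lit 32778) [nat_lit 68, nat_lit 204, nat_lit 68, nat_lit 221, nat_lit 85]) (.leaf (nat_lit 31750) [nat_lit 85, nat_lit 204, nat_lit 68, nat_lit 102, nat_lit 204])) (.node (nat_lit 17) (.leaf (nat_lit 81929) [nat_lit 238, nat_lit 306, nat_lit 102, nat_lit 289]) (.node (nat_lit 18) (.leaf (nat_lit 31753) [nat_lit 85, nat_lit 221, nat_lit 68, nat_lit 102, nat_lit 221]) (.leaf (nat_lit 25610) [nat_lit 34, nat_lit 153, nat_lit 102, nat_lit 136, nat_lit 51]))))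
noncomputable def r40 : WT := (.node (nat_lit 22) (.node (nat_lit 20) (.leaf (nat_lit 22529) [nat_lit 34, nat_lit 68, nat_lit 119, nat_lit 85, nat_lit 51]) (.node (nat_lit 21) (.leaf (nat_lit 86025) [nat_lit 289, nat_lit 306, nat_lit 102, nat_lit 357]) (.leaf (nat_lit 79889) [nat_lit 238, nat_lit 255, nat_lit 238, nat_lit 272, nat_lit 323, nat_lit 357, nat_lit 102, nat_lit 255]))) (.node (nat_lit 25) (.node (nat_lit 23) (.leaf (nat_lit 85009) [nat_lit 238, nat_lit 255, nat_lit 289, nat_lit 306, nat_lit 323, nat_lit 340, nat_lit 102, nat_lit 340]) (.node (nat_lit 24) (.leaf (nat_lit 78865) [nat_lit 238, nat_lit 255, nat_lit 238, nat_lit 255, nat_lit 306, nat_lit 357, nat_lit 102, nat_lit 238]) (.leaf (nat_lit 83972) [nat_lit 357, nat_lit 340, nat_lit 323, nat_lit 289, nat_lit 272, nat_lit 238, nat_lit 255, nat_lit 238, nat_lit 102, nat_lit 323]))) (.node (nat_lit 27) (.node (nat_lit 26) (.leaf (nat_lit 80900) [nat_lit 357, nat_lit 340, nat_lit 323, nat_lit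 306, nat_lit 272, nat_lit 255, nat_lit 238, nat_lit 255, nat_lit 238, nat_lit 102, nat_lit 272]) (.leaf (nat_lit 80919) [nat_lit 238, nat_lit 255, nat_lit 238, nat_lit 255, nat_lit 272, nat_lit 306, nat_lit 323, nat_lit 340, nat_lit 357, nat_lit 102, nat_lit 272])) (.node (nat_lit 28) (.leaf (nat_lit 82955) [nat_lit 238, nat_lit 289, nat_lit 357, nat_lit 102, nat_lit 306]) (.leaf (nat_lit 83989) [nat_lit 238, nat_lit 255, nat_lit 238, nat_lit 272, nat_lit 289, nat_lit 323, nat_lit 340, nat_lit 357, nat_lit 102, nat_lit 323])))))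
noncomputable def w5 : WT := (.node (nat_lit 2) (.node (nat_lit 1) (.leaf (nat_lit 2050) [nat_lit 102]) (.leaf (nat_lit 17409) [nat_lit 119, nat_lit 119])) (.node (nat_lit 8) (.node (nat_lit 4) (.node (nat_lit 3) (.leaf (nat_lit 84996) [nat_lit 340, nat_lit 323, nat_lit 306, nat_lit 289, nat_lit 255, nat_lit 238, nat_lit 102, nat_lit 340]) (.leaf (nat_lit 26628) [nat_lit 187, nat_lit 102, nat_lit 170])) (.node (nat_lit 6) r35 r36)) (.node (nat_lit 14) (.node (nat_lit 11) r37 r38) (.node (nat_lit 19) r39 r40))))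
noncomputable def r41 : WT := (.node (nat_lit 4) (.leaf (nat_lit 91136) [nat_lit 306, nat_lit 153, nat_lit 289]) (.leaf (nat_lit 93184) [nat_lit 340, nat_lit 153, nat_lit 340, nat_lit 306, nat_lit 289, nat_lit 255]))
noncomputable def r42 : WT := (.node (nat_lit 6) (.leaf (nat_lit 18432) [nat_lit 136, nat_lit 136]) (.leaf (nat_lit 87045) [nat_lit 238, nat_lit 153, nat_lit 238, nat_lit 357]))
noncomputable def r43 : WT := (.node (nat_lit 8) (.leaf (nat_lit 24581) [nat_lit 51, nat_lit 153, nat_lit 51, nat_lit 136, nat_lit 34]) (.node (nat_lit 9) (.leaf (nat_lit 92160) [nat_lit 323, nat_lit 153, nat_lit 357, nat_lit 323, nat_lit 272, nat_lit 238]) (.leaf (nat_lit 29696) [nat_lit 204, nat_lit 153, nat_lit 221])))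
noncomputable def r44 : WT := (.node (nat_lit 11) (.leaf (nat_lit 25606) [nat_lit 51, nat_lit 119, nat_lit 34, nat_lit 153, nat_lit 102]) (.node (nat_lit 12) (.leaf (nat_lit 87040) [nat_lit 238, nat_lit 153, nat_lit 357, nat_lit 238]) (.leaf (nat_lit 90117) [nat_lit 289, nat_lit 153, nat_lit 289, nat_lit 306])))
noncomputable def r45 : WT := (.node (nat_lit 15) (.node (nat_lit 14) (.leaf (nat_lit 92169) [nat_lit 323, nat_lit 153, nat_lit 238, nat_lit 272, nat_lit 323, nat_lit 357]) (.leaf (nat_lit 88077) [nat_lit 255, nat_lit 153, nat_lit 238, nat_lit 255, nat_lit 238, nat_lit 255, nat_lit 306, nat_lit 340])) (.node (nat_lit 16) (.leaf (nat_lit 24578) [nat_lit 34, nat_lit 153, nat_lit 51, nat_lit 153, nat_lit 34]) (.leaf (nat_lit 93193) [nat_lit 340, nat_lit 153, nat_lit 255, nat_lit 289, nat_lit 306, nat_lit 340])))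
noncomputable def r46 : WT := (.node (nat_lit 20) (.node (nat_lit 18) (.leaf (nat_lit 90112) [nat_lit 289, nat_lit 153, nat_lit 306, nat_lit 289]) (.node (nat_lit 19) (.leaf (nat_lit 27654) [nat_lit 51, nat_lit 170, nat_lit 34, nat_lit 153, nat_lit 170]) (.leaf (nat_lit 24577) [nat_lit 34, nat_lit 136, nat_lit 51, nat_lit 153, nat_lit 51]))) (.node (nat_lit 22) (.node (nat_lit 21) (.leaf (nat_lit 25609) [nat_lit 51, nat_lit 102, nat_lit 34, nat_lit 153, nat_lit 119]) (.leaf (nat_lit 89101) [nat_lit 272, nat_lit 153, nat_lit 238, nat_lit 255, nat_lit 238, nat_lit 255, nat_lit 323, nat_lit 357])) (.node (nat_lit 23) (.leaf (nat_lit 27657) [nat_lit 51, nat_lit 187, nat_lit 34, nat_lit 153, nat_lit 187]) (.node (nat_lit 24) (.leaf (nat_lit 88064) [nat_lit 255, nat_lit 153, nat_lit 340, nat_lit 306, nat_lit 255, nat_lit 238, nat_lit 255, nat_lit 238]) (.leaf (nat_lit 89088) [nat_lit 272, nat_lit 153, nat_lit 357, nat_lit 323, nat_lit 255, nat_lit 238, nat_lit 255,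 nat_lit 238])))))
noncomputable def w6 : WT := (.node (nat_lit 1) (.leaf (nat_lit 3072) [nat_lit 153]) (.node (nat_lit 7) (.node (nat_lit 3) (.node (nat_lit 2) (.leaf (nat_lit 94208) [nat_lit 357, nat_lit 153, nat_lit 238]) (.leaf (nat_lit 29699) [nat_lit 221, nat_lit 153, nat_lit 204])) (.node (nat_lit 5) r41 r42)) (.node (nat_lit 13) (.node (nat_lit 10) r43 r44) (.node (nat_lit 17) r45 r46))))
noncomputable def r47 : WT := (.node (nat_lit 5) (.leaf (nat_lit 29700) [nat_lit 221, nat_lit 136, nat_lit 204]) (.leaf (nat_lit 91140) [nat_lit 289, nat_lit 136, nat_lit 306]))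
noncomputable def r48 : WT := (.node (nat_lit 7) (.leaf (nat_lit 94212) [nat_lit 238, nat_lit 136, nat_lit 357]) (.leaf (nat_lit 25605) [nat_lit 119, nat_lit 136, nat_lit 51, nat_lit 102, nat_lit 34]))
noncomputable def r49 : WT := (.node (nat_lit 9) (.leaf (nat_lit 93197) [nat_lit 255, nat_lit 289, nat_lit 306, nat_lit 340, nat_lit 136, nat_lit 340]) (.leaf (nat_lit 29703) [nat_lit 204, nat_lit 136, nat_lit 221]))
noncomputable def r50 : WT := (.node (nat_lit 11) (.leaf (nat_lit 90116) [nat_lit 306, nat_lit 289, nat_lit 136, nat_lit 289]) (.node (nat_lit 12) (.leaf (nat_lit 89092) [nat_lit 357, nat_lit 323, nat_lit 255, nat_lit 238, nat_lit 255, nat_lit 238, nat_lit 136, nat_lit 272]) (.leaf (nat_lit 24582) [nat_lit 51, nat_lit 153, nat_lit 34, nat_lit 136, nat_lit 34])))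
noncomputable def r51 : WT := (.node (nat_lit 15) (.node (nat_lit 14) (.leaf (nat_lit 92164) [nat_lit 357, nat_lit 323, nat_lit 272, nat_lit 238, nat_lit 136, nat_lit 323]) (.leaf (nat_lit 24586) [nat_lit 34, nat_lit 136, nat_lit 34, nat_lit 153, nat_lit 51])) (.node (nat_lit 16) (.leaf (nat_lit 88068) [nat_lit 340, nat_lit 306, nat_lit 255, nat_lit 238, nat_lit 255, nat_lit 238, nat_lit 136, nat_lit 255]) (.leaf (nat_lit 25602) [nat_lit 102, nat_lit 136, nat_lit 51, nat_lit 119, nat_lit 34])))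
noncomputable def r52 : WT := (.node (nat_lit 20) (.node (nat_lit 18) (.leaf (nat_lit 27653) [nat_lit 187, nat_lit 136, nat_lit 51, nat_lit 187, nat_lit 34]) (.node (nat_lit 19) (.leaf (nat_lit 87049) [nat_lit 238, nat_lit 357, nat_lit 136, nat_lit 238]) (.leaf (nat_lit 24585) [nat_lit 51, nat_lit 136, nat_lit 34, nat_lit 136, nat_lit 51]))) (.node (nat_lit 22) (.node (nat_lit 21) (.leaf (nat_lit 92173) [nat_lit 238, nat_lit 272, nat_lit 323, nat_lit 357, nat_lit 136, nat_lit 323]) (.leaf (nat_lit 27650) [nat_lit 170, nat_lit 136, nat_lit 51, nat_lit 170, nat_lit 34])) (.node (nat_lit 23) (.leaf (nat_lit 88081) [nat_lit 238, nat_lit 255, nat_lit 238, nat_lit 255, nat_lit 306, nat_lit 340, nat_lit 136, nat_lit 255]) (.node (nat_lit 24) (.leaf (nat_lit 90121) [nat_lit 289, nat_lit 306, nat_lit 136, nat_lit 289]) (.leaf (nat_lit 89105) [nat_lit 238, nat_lit 255, nat_lit 238, nat_lit 255, nat_lit 323, nat_lit 357, nat_lit 136, nat_lit 272])))))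
noncomputable def w7 : WT := (.node (nat_lit 2) (.node (nat_lit 1) (.leaf (nat_lit 3074) [nat_lit 136]) (.leaf (nat_lit 87044) [nat_lit 357, nat_lit 238, nat_lit 136, nat_lit 238])) (.node (nat_lit 8) (.node (nat_lit 4) (.node (nat_lit 3) (.leaf (nat_lit 93188) [nat_lit 340, nat_lit 306, nat_lit 289, nat_lit 255, nat_lit 136, nat_lit 340]) (.leaf (nat_lit 18433) [nat_lit 153, nat_lit 153])) (.node (nat_lit 6) r47 r48)) (.node (nat_lit 13) (.node (nat_lit 10) r49 r50) (.node (nat_lit 17) r51 r52))))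
noncomputable def r53 : WT := (.node (nat_lit 3) (.leaf (nat_lit 26626) [nat_lit 119, nat_lit 187, nat_lit 102]) (.leaf (nat_lit 30723) [nat_lit 221, nat_lit 187, nat_lit 204]))
noncomputable def r54 : WT := (.node (nat_lit 5) (.leaf (nat_lit 100352) [nat_lit 323, nat_lit 187, nat_lit 357, nat_lit 238]) (.leaf (nat_lit 28678) [nat_lit 51, nat_lit 170, nat_lit 34, nat_lit 187, nat_lit 34]))
noncomputable def r55 : WT := (.node (nat_lit 7) (.leaf (nat_lit 26625) [nat_lit 102, nat_lit 187, nat_lit 119]) (.leaf (nat_lit 30720) [nat_lit 204, nat_lit 187, nat_lit 221]))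
noncomputable def r56 : WT := (.node (nat_lit 9) (.leaf (nat_lit 19456) [nat_lit 170, nat_lit 170]) (.node (nat_lit 10) (.leaf (nat_lit 98309) [nat_lit 289, nat_lit 187, nat_lit 255, nat_lit 340]) (.leaf (nat_lit 100357) [nat_lit 323, nat_lit 187, nat_lit 238, nat_lit 357])))
noncomputable def r57 : WT := (.node (nat_lit 13) (.node (nat_lit 12) (.leaf (nat_lit 102400) [nat_lit 357, nat_lit 187, nat_lit 323, nat_lit 272, nat_lit 255, nat_lit 238, nat_lit 255, nat_lit 238]) (.leaf (nat_lit 27652) [nat_lit 136, nat_lit 51, nat_lit 170, nat_lit 34, nat_lit 153])) (.node (nat_lit 14) (.leaf (nat_lit 28682) [nat_lit 34, nat_lit 187, nat_lit 34, nat_lit 170, nat_lit 51]) (.leaf (nat_lit 99328) [nat_lit 306, nat_lit 187, nat_lit 340, nat_lit 306, nat_lit 289])))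
noncomputable def r58 : WT := (.node (nat_lit 17) (.node (nat_lit 16) (.leaf (nat_lit 27658) [nat_lit 34, nat_lit 153, nat_lit 170, nat_lit 136, nat_lit 51]) (.leaf (nat_lit 99335) [nat_lit 306, nat_lit 187, nat_lit 289, nat_lit 306, nat_lit 340])) (.node (nat_lit 18) (.leaf (nat_lit 97280) [nat_lit 272, nat_lit 187, nat_lit 323, nat_lit 272, nat_lit 238]) (.leaf (nat_lit 96261) [nat_lit 255, nat_lit 187, nat_lit 289, nat_lit 306])))
noncomputable def r59 : WT := (.node (nat_lit 22) (.node (nat_lit 20) (.leaf (nat_lit 96256) [nat_lit 255, nat_lit 187, nat_lit 306, nat_lit 289]) (.node (nat_lit 21) (.leaf (nat_lit 101383) [nat_lit 340, nat_lit 187, nat_lit 255, nat_lit 306, nat_lit 340]) (.leaf (nat_lit 97287) [nat_lit 272, nat_lit 187, nat_lit 238, nat_lit 272, nat_lit 323]))) (.node (nat_lit 24) (.node (nat_lit 23) (.leaf (nat_lit 98304) [nat_lit 289, nat_lit 187, nat_lit 340, nat_lit 255]) (.leaf (nat_lit 102413) [nat_lit 357, nat_lit 187, nat_lit 238, nat_lit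 255, nat_lit 238, nat_lit 255, nat_lit 272, nat_lit 323])) (.node (nat_lit 25) (.leaf (nat_lit 28681) [nat_lit 51, nat_lit 187, nat_lit 34, nat_lit 187, nat_lit 51]) (.node (nat_lit 26) (.leaf (nat_lit 95247) [nat_lit 238, nat_lit 187, nat_lit 238, nat_lit 255, nat_lit 238, nat_lit 255, nat_lit 238, nat_lit 272, nat_lit 357]) (.leaf (nat_lit 95232) [nat_lit 238, nat_lit 187, nat_lit 357, nat_lit 272, nat_lit 238, nat_lit 255, nat_lit 238, nat_lit 255, nat_lit 238])))))
noncomputable def w8 : WT := (.node (nat_lit 1) (.leaf (nat_lit 4096) [nat_lit 187]) (.node (nat_lit 8) (.node (nat_lit 4) (.node (nat_lit 2) (.leaf (nat_lit 101376) [nat_lit 340, nat_lit 187, nat_lit 340, nat_lit 306, nat_lit 255]) r53) (.node (nat_lit 6) r54 r55)) (.node (nat_lit 15) (.node (nat_lit 11) r56 r57) (.node (nat_lit 19) r58 r59))))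
noncomputable def r60 : WT := (.node (nat_lit 6) (.leaf (nat_lit 30724) [nat_lit 221, nat_lit 170, nat_lit 204]) (.leaf (nat_lit 19457) [nat_lit 187, nat_lit 187]))
noncomputable def r61 : WT := (.node (nat_lit 8) (.leaf (nat_lit 26630) [nat_lit 102, nat_lit 170, nat_lit 119]) (.leaf (nat_lit 28677) [nat_lit 51, nat_lit 170, nat_lit 51, nat_lit 187, nat_lit 34]))
noncomputable def r62 : WT := (.node (nat_lit 10) (.leaf (nat_lit 30727) [nat_lit 204, nat_lit 170, nat_lit 221]) (.node (nat_lit 11) (.leaf (nat_lit 96260) [nat_lit 306, nat_lit 289, nat_lit 170, nat_lit 255]) (.leaf (nat_lit 99332) [nat_lit 340, nat_lit 306, nat_lit 289, nat_lit 170, nat_lit 306])))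
noncomputable def r63 : WT := (.node (nat_lit 14) (.node (nat_lit 13) (.leaf (nat_lit 101387) [nat_lit 255, nat_lit 306, nat_lit 340, nat_lit 170, nat_lit 340]) (.leaf (nat_lit 102404) [nat_lit 323, nat_lit 272, nat_lit 255, nat_lit 238, nat_lit 255, nat_lit 238, nat_lit 170, nat_lit 357])) (.node (nat_lit 15) (.leaf (nat_lit 101380) [nat_lit 340, nat_lit 306, nat_lit 255, nat_lit 170, nat_lit 340]) (.node (nat_lit 16) (.leaf (nat_lit 99339) [nat_lit 289, nat_lit 306, nat_lit 340, nat_lit 170, nat_lit 306]) (.leaf (nat_lit 98313) [nat_lit 255, nat_lit 340, nat_lit 170, nat_lit 289]))))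
noncomputable def r64 : WT := (.node (nat_lit 26) (.leaf (nat_lit 96265) [nat_lit 289, nat_lit 306, nat_lit 170, nat_lit 255]) (.leaf (nat_lit 28673) [nat_lit 34, nat_lit 187, nat_lit 51, nat_lit 170, nat_lit 51]))
noncomputable def r65 : WT := (.node (nat_lit 20) (.node (nat_lit 18) (.leaf (nat_lit 95236) [nat_lit 357, nat_lit 272, nat_lit 238, nat_lit 255, nat_lit 238, nat_lit 255, nat_lit 238, nat_lit 170, nat_lit 238]) (.node (nat_lit 19) (.leaf (nat_lit 27655) [nat_lit 136, nat_lit 51, nat_lit 187, nat_lit 34, nat_lit 153]) (.leaf (nat_lit 27649) [nat_lit 34, nat_lit 153, nat_lit 187, nat_lit 136, nat_lit 51]))) (.node (nat_lit 22) (.node (nat_lit 21) (.leaf (nat_lit 28674) [nat_lit 34, nat_lit 170, nat_lit 51, nat_lit 170, nat_lit 34]) (.leaf (nat_lit 100361) [nat_lit 238, nat_lit 357, nat_lit 170, nat_lit 323])) (.node (nat_lit 24) (.node (nat_lit 23) (.leaf (nat_lit 95251) [nat_lit 238, nat_lit 255, nat_lit 238, nat_lit 255, nat_lit 238, nat_lit 272,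 nat_lit 357, nat_lit 170, nat_lit 238]) (.leaf (nat_lit 97291) [nat_lit 238, nat_lit 272, nat_lit 323, nat_lit 170, nat_lit 272])) (.node (nat_lit 25) (.leaf (nat_lit 102417) [nat_lit 238, nat_lit 255, nat_lit 238, nat_lit 255, nat_lit 272, nat_lit 323, nat_lit 170, nat_lit 357]) r64))))
noncomputable def w9 : WT := (.node (nat_lit 2) (.node (nat_lit 1) (.leaf (nat_lit 4098) [nat_lit 170]) (.leaf (nat_lit 97284) [nat_lit 323, nat_lit 272, nat_lit 238, nat_lit 170, nat_lit 272])) (.node (nat_lit 7) (.node (nat_lit 4) (.node (nat_lit 3) (.leaf (nat_lit 98308) [nat_lit 340, nat_lit 255, nat_lit 170, nat_lit 289]) (.leaf (nat_lit 26629) [nat_lit 119, nat_lit 170, nat_lit 102])) (.node (nat_lit 5) (.leaf (nat_lit 100356) [nat_lit 357, nat_lit 238, nat_lit 170, nat_lit 323]) r60)) (.node (nat_lit 12) (.node (nat_lit 9) r61 r62) (.node (nat_lit 17) r63 r65))))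
noncomputable def r66 : WT := (.node (nat_lit 3) (.leaf (nat_lit 29698) [nat_lit 153, nat_lit 221, nat_lit 136]) (.leaf (nat_lit 109568) [nat_lit 340, nat_lit 221, nat_lit 272, nat_lit 238, nat_lit 255, nat_lit 238, nat_lit 255, nat_lit 238]))
noncomputable def r67 : WT := (.node (nat_lit 6) (.leaf (nat_lit 110592) [nat_lit 357, nat_lit 221, nat_lit 357, nat_lit 306, nat_lit 289]) (.leaf (nat_lit 30722) [nat_lit 187, nat_lit 221, nat_lit 170]))
noncomputable def r68 : WT := (.node (nat_lit 8) (.leaf (nat_lit 108544) [nat_lit 323, nat_lit 221, nat_lit 340, nat_lit 323, nat_lit 289, nat_lit 255]) (.leaf (nat_lit 30721) [nat_lit 170, nat_lit 221, nat_lit 187]))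
noncomputable def r69 : WT := (.node (nat_lit 10) (.leaf (nat_lit 32773) [nat_lit 85, nat_lit 221, nat_lit 85, nat_lit 102, nat_lit 68]) (.node (nat_lit 11) (.leaf (nat_lit 103429) [nat_lit 238, nat_lit 221, nat_lit 238, nat_lit 306]) (.leaf (nat_lit 29697) [nat_lit 136, nat_lit 221, nat_lit 153])))
noncomputable def r70 : WT := (.node (nat_lit 14) (.node (nat_lit 13) (.leaf (nat_lit 106496) [nat_lit 289, nat_lit 221, nat_lit 357, nat_lit 238]) (.leaf (nat_lit 106501) [nat_lit 289, nat_lit 221, nat_lit 238, nat_lit 357])) (.node (nat_lit 15) (.leaf (nat_lit 109581) [nat_lit 340, nat_lit 221, nat_lit 238, nat_lit 255, nat_lit 238, nat_lit 255, nat_lit 238, nat_lit 272]) (.leaf (nat_lit 105487) [nat_lit 272, nat_lit 221, nat_lit 238, nat_lit 255, nat_lit 238, nat_lit 255, nat_lit 272, nat_lit 306, nat_lit 340])))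
noncomputable def r71 : WT := (.node (nat_lit 19) (.node (nat_lit 17) (.leaf (nat_lit 110599) [nat_lit 357, nat_lit 221, nat_lit 289, nat_lit 306, nat_lit 357]) (.node (nat_lit 18) (.leaf (nat_lit 31748) [nat_lit 119, nat_lit 85, nat_lit 204, nat_lit 68, nat_lit 102]) (.leaf (nat_lit 108553) [nat_lit 323, nat_lit 221, nat_lit 255, nat_lit 289, nat_lit 323, nat_lit 340]))) (.node (nat_lit 21) (.node (nat_lit 20) (.leaf (nat_lit 31754) [nat_lit 68, nat_lit 102, nat_lit 204, nat_lit 119, nat_lit 85]) (.leaf (nat_lit 104448) [nat_lit 255, nat_lit 221, nat_lit 357, nat_lit 323, nat_lit 272, nat_lit 255, nat_lit 238, nat_lit 255, nat_lit 238])) (.node (nat_lit 22) (.leaf (nat_lit 103424) [nat_lit 238, nat_lit 221, nat_lit 306, nat_lit 238]) (.node (nat_lit 23) (.leaf (nat_lit 32770) [nat_lit 68, nat_lit 221, nat_lit 85, nat_lit 119, nat_lit 68]) (.leaf (nat_lit 104463) [nat_lit 255, nat_lit 221, nat_lit 238, nat_lit 255, nat_lit 238, nat_lit 255, nat_lit 272, nat_lit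 323, nat_lit 357])))))
noncomputable def w10 : WT := (.node (nat_lit 1) (.leaf (nat_lit 5120) [nat_lit 221]) (.node (nat_lit 7) (.node (nat_lit 4) (.node (nat_lit 2) (.leaf (nat_lit 107520) [nat_lit 306, nat_lit 221, nat_lit 238]) r66) (.node (nat_lit 5) (.leaf (nat_lit 20480) [nat_lit 204, nat_lit 204]) r67)) (.node (nat_lit 12) (.node (nat_lit 9) r68 r69) (.node (nat_lit 16) r70 r71))))
noncomputable def r72 : WT := (.node (nat_lit 6) (.leaf (nat_lit 30725) [nat_lit 187, nat_lit 204, nat_lit 170]) (.leaf (nat_lit 107524) [nat_lit 238, nat_lit 204, nat_lit 306]))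
noncomputable def r73 : WT := (.node (nat_lit 8) (.leaf (nat_lit 105476) [nat_lit 340, nat_lit 306, nat_lit 272, nat_lit 255, nat_lit 238, nat_lit 255, nat_lit 238, nat_lit 204, nat_lit 272]) (.leaf (nat_lit 32774) [nat_lit 85, nat_lit 119, nat_lit 68, nat_lit 204, nat_lit 68]))
noncomputable def r74 : WT := (.node (nat_lit 10) (.leaf (nat_lit 31751) [nat_lit 119, nat_lit 85, nat_lit 221, nat_lit 68, nat_lit 102]) (.node (nat_lit 11) (.leaf (nat_lit 29701) [nat_lit 153, nat_lit 204, nat_lit 136]) (.leaf (nat_lit 104452) [nat_lit 357, nat_lit 323, nat_lit 272, nat_lit 255, nat_lit 238, nat_lit 255, nat_lit 238, nat_lit 204, nat_lit 255])))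
noncomputable def r75 : WT := (.node (nat_lit 14) (.node (nat_lit 13) (.leaf (nat_lit 109572) [nat_lit 272, nat_lit 238, nat_lit 255, nat_lit 238, nat_lit 255, nat_lit 238, nat_lit 204, nat_lit 340]) (.leaf (nat_lit 29702) [nat_lit 136, nat_lit 204, nat_lit 153])) (.node (nat_lit 15) (.leaf (nat_lit 30726) [nat_lit 170, nat_lit 204, nat_lit 187]) (.leaf (nat_lit 31745) [nat_lit 68, nat_lit 102, nat_lit 221, nat_lit 119, nat_lit 85])))
noncomputable def r76 : WT := (.node (nat_lit 19) (.node (nat_lit 17) (.leaf (nat_lit 32777) [nat_lit 85, nat_lit 102, nat_lit 68, nat_lit 204, nat_lit 85]) (.node (nat_lit 18) (.leaf (nat_lit 110596) [nat_lit 357, nat_lit 306, nat_lit 289, nat_lit 204, nat_lit 357]) (.leaf (nat_lit 108557) [nat_lit 255, nat_lit 289, nat_lit 323, nat_lit 340, nat_lit 204, nat_lit 323]))) (.node (nat_lit 21) (.node (nat_lit 20) (.leaf (nat_lit 103433) [nat_lit 238, nat_lit 306, nat_lit 204, nat_lit 238]) (.leaf (nat_lit 110603) [nat_lit 289, nat_lit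 306, nat_lit 357, nat_lit 204, nat_lit 357])) (.node (nat_lit 22) (.leaf (nat_lit 106505) [nat_lit 238, nat_lit 357, nat_lit 204, nat_lit 289]) (.node (nat_lit 23) (.leaf (nat_lit 109585) [nat_lit 238, nat_lit 255, nat_lit 238, nat_lit 255, nat_lit 238, nat_lit 272, nat_lit 204, nat_lit 340]) (.leaf (nat_lit 105491) [nat_lit 238, nat_lit 255, nat_lit 238, nat_lit 255, nat_lit 272, nat_lit 306, nat_lit 340, nat_lit 204, nat_lit 272])))))
noncomputable def w11 : WT := (.node (nat_lit 2) (.node (nat_lit 1) (.leaf (nat_lit 5122) [nat_lit 204]) (.leaf (nat_lit 20481) [nat_lit 221, nat_lit 221])) (.node (nat_lit 7) (.node (nat_lit 4) (.node (nat_lit 3) (.leaf (nat_lit 108548) [nat_lit 340, nat_lit 323, nat_lit 289, nat_lit 255, nat_lit 204, nat_lit 323]) (.leaf (nat_lit 106500) [nat_lit 357, nat_lit 238, nat_lit 204, nat_lit 289])) (.node (nat_lit 5) (.leaf (nat_lit 103428) [nat_lit 306, nat_lit 238, nat_lit 204, nat_lit 238]) r72)) (.node (nat_lit 12) (.node (nat_lit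 9) r73 r74) (.node (nat_lit 16) r75 r76))))
noncomputable def r77 : WT := (.node (nat_lit 6) (.leaf (nat_lit 36864) [nat_lit 306, nat_lit 238, nat_lit 306]) (.leaf (nat_lit 35840) [nat_lit 289, nat_lit 238, nat_lit 289]))
noncomputable def r78 : WT := (.node (nat_lit 9) (.node (nat_lit 8) (.leaf (nat_lit 87042) [nat_lit 153, nat_lit 357, nat_lit 238, nat_lit 136]) (.leaf (nat_lit 62466) [nat_lit 51, nat_lit 357, nat_lit 272, nat_lit 255, nat_lit 238, nat_lit 255, nat_lit 238, nat_lit 34])) (.node (nat_lit 10) (.leaf (nat_lit 63496) [nat_lit 255, nat_lit 238, nat_lit 34, nat_lit 255, nat_lit 51, nat_lit 289]) (.leaf (nat_lit 103426) [nat_lit 221, nat_lit 306, nat_lit 238, nat_lit 204])))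
noncomputable def r79 : WT := (.node (nat_lit 14) (.node (nat_lit 12) (.leaf (nat_lit 70658) [nat_lit 85, nat_lit 357, nat_lit 306, nat_lit 238, nat_lit 255, nat_lit 238, nat_lit 255, nat_lit 238, nat_lit 68]) (.node (nat_lit 13) (.leaf (nat_lit 107526) [nat_lit 204, nat_lit 306, nat_lit 221]) (.leaf (nat_lit 78850) [nat_lit 119, nat_lit 357, nat_lit 306, nat_lit 255, nat_lit 238, nat_lit 255, nat_lit 238, nat_lit 102]))) (.node (nat_lit 15) (.leaf (nat_lit 63500) [nat_lit 34, nat_lit 255, nat_lit 51, nat_lit 289, nat_lit 238, nat_lit 255]) (.node (nat_lit 16) (.leaf (nat_lit 33792) [nat_lit 255, nat_lit 238, nat_lit 255, nat_lit 238, nat_lit 255, nat_lit 238, nat_lit 255]) (.leaf (nat_lit 95234) [nat_lit 187, nat_lit 357, nat_lit 272, nat_lit 238, nat_lit 255, nat_lit 238, nat_lit 255, nat_lit 238, nat_lit 170]))))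
noncomputable def r80 : WT := (.node (nat_lit 23) (.leaf (nat_lit 70673) [nat_lit 85, nat_lit 238, nat_lit 255, nat_lit 238, nat_lit 255, nat_lit 238, nat_lit 306, nat_lit 357, nat_lit 68]) (.leaf (nat_lit 79873) [nat_lit 255, nat_lit 238, nat_lit 272, nat_lit 323, nat_lit 357, nat_lit 102, nat_lit 255, nat_lit 119]))
noncomputable def r81 : WT := (.node (nat_lit 26) (.leaf (nat_lit 73744) [nat_lit 68, nat_lit 289, nat_lit 85, nat_lit 357, nat_lit 289, nat_lit 255, nat_lit 238, nat_lit 255]) (.leaf (nat_lit 95249) [nat_lit 187, nat_lit 238, nat_lit 255, nat_lit 238, nat_lit 255, nat_lit 238, nat_lit 272, nat_lit 357, nat_lit 170]))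
noncomputable def r82 : WT := (.node (nat_lit 28) (.leaf (nat_lit 62476) [nat_lit 255, nat_lit 238, nat_lit 34, nat_lit 238, nat_lit 51, nat_lit 357, nat_lit 272, nat_lit 255]) (.leaf (nat_lit 56328) [nat_lit 255, nat_lit 238, nat_lit 255, nat_lit 306, nat_lit 323, nat_lit 306, nat_lit 323]))
noncomputable def r83 : WT := (.node (nat_lit 30) (.leaf (nat_lit 47116) [nat_lit 255, nat_lit 272, nat_lit 289, nat_lit 272, nat_lit 289, nat_lit 238, nat_lit 255]) (.leaf (nat_lit 63493) [nat_lit 289, nat_lit 34, nat_lit 255, nat_lit 51, nat_lit 238, nat_lit 255]))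
noncomputable def r84 : WT := (.node (nat_lit 33) (.leaf (nat_lit 106497) [nat_lit 357, nat_lit 204, nat_lit 289, nat_lit 221]) (.leaf (nat_lit 103425) [nat_lit 306, nat_lit 204, nat_lit 238, nat_lit 221]))
noncomputable def r85 : WT := (.node (nat_lit 35) (.leaf (nat_lit 100353) [nat_lit 357, nat_lit 170, nat_lit 323, nat_lit 187]) (.leaf (nat_lit 87047) [nat_lit 153, nat_lit 238, nat_lit 357, nat_lit 136]))
noncomputable def r86 : WT := (.node (nat_lit 37) (.leaf (nat_lit 81921) [nat_lit 306, nat_lit 102, nat_lit 289, nat_lit 119]) (.leaf (nat_lit 81928) [nat_lit 102, nat_lit 289, nat_lit 119, nat_lit 306]))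
noncomputable def r87 : WT := (.node (nat_lit 24) (.node (nat_lit 19) (.node (nat_lit 18) (.leaf (nat_lit 94214) [nat_lit 136, nat_lit 357, nat_lit 153]) (.leaf (nat_lit 56332) [nat_lit 255, nat_lit 306, nat_lit 323, nat_lit 306, nat_lit 323, nat_lit 238, nat_lit 255])) (.node (nat_lit 21) (.node (nat_lit 20) (.leaf (nat_lit 78863) [nat_lit 119, nat_lit 238, nat_lit 255, nat_lit 238, nat_lit 255, nat_lit 306, nat_lit 357, nat_lit 102]) (.leaf (nat_lit 47107) [nat_lit 255, nat_lit 238, nat_lit 289, nat_lit 272, nat_lit 289, nat_lit 272, nat_lit 255])) (.node (nat_lit 22) (.leaf (nat_lit 62479) [nat_lit 51, nat_lit 238, nat_lit 255, nat_lit 238, nat_lit 255, nat_lit 272, nat_lit 357, nat_lit 34]) r80))) (.node (nat_lit 31) (.node (nat_lit 27) (.node (nat_lit 25) (.leaf (nat_lit 74768) [nat_lit 68, nat_lit 306, nat_lit 85, nat_lit 289, nat_lit 238, nat_lit 255, nat_lit 238, nat_lit 255]) r81) (.node (nat_lit 29) r82 r83)) (.node (nat_lit 34) (.node (nat_lit 32)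 (.leaf (nat_lit 63489) [nat_lit 255, nat_lit 238, nat_lit 289, nat_lit 34, nat_lit 255, nat_lit 51]) r84) (.node (nat_lit 36) r85 r86))))
noncomputable def w12 : WT := (.node (nat_lit 1) (.leaf (nat_lit 6144) [nat_lit 238]) (.node (nat_lit 5) (.node (nat_lit 3) (.node (nat_lit 2) (.leaf (nat_lit 38912) [nat_lit 340, nat_lit 238, nat_lit 340]) (.leaf (nat_lit 39936) [nat_lit 357, nat_lit 238, nat_lit 357])) (.node (nat_lit 4) (.leaf (nat_lit 37888) [nat_lit 323, nat_lit 238, nat_lit 323]) (.leaf (nat_lit 34816) [nat_lit 272, nat_lit 238, nat_lit 272]))) (.node (nat_lit 11) (.node (nat_lit 7) r77 r78) (.node (nat_lit 17) r79 r87))))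
noncomputable def r88 : WT := (.node (nat_lit 4) (.leaf (nat_lit 44032) [nat_lit 323, nat_lit 255, nat_lit 323]) (.leaf (nat_lit 40960) [nat_lit 272, nat_lit 255, nat_lit 272]))
noncomputable def r89 : WT := (.node (nat_lit 6) (.leaf (nat_lit 43008) [nat_lit 306, nat_lit 255, nat_lit 306]) (.leaf (nat_lit 41984) [nat_lit 289, nat_lit 255, nat_lit 289]))
noncomputable def r90 : WT := (.node (nat_lit 8) (.leaf (nat_lit 63490) [nat_lit 51, nat_lit 289, nat_lit 238, nat_lit 255, nat_lit 238, nat_lit 34]) (.node (nat_lit 9) (.leaf (nat_lit 65542) [nat_lit 34, nat_lit 289, nat_lit 51]) (.leaf (nat_lit 96258) [nat_lit 187, nat_lit 306, nat_lit 289, nat_lit 170])))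
noncomputable def r91 : WT := (.node (nat_lit 12) (.node (nat_lit 11) (.leaf (nat_lit 71682) [nat_lit 85, nat_lit 357, nat_lit 323, nat_lit 255, nat_lit 238, nat_lit 255, nat_lit 238, nat_lit 68]) (.leaf (nat_lit 63498) [nat_lit 238, nat_lit 34, nat_lit 255, nat_lit 51, nat_lit 289, nat_lit 238])) (.node (nat_lit 13) (.leaf (nat_lit 98312) [nat_lit 170, nat_lit 289, nat_lit 187, nat_lit 340]) (.node (nat_lit 14) (.leaf (nat_lit 104450) [nat_lit 221, nat_lit 357, nat_lit 323, nat_lit 272, nat_lit 255, nat_lit 238, nat_lit 255, nat_lit 238, nat_lit 204]) (.leaf (nat_lit 88066) [nat_lit 153, nat_lit 340, nat_lit 306, nat_lit 255, nat_lit 238, nat_lit 255, nat_lit 238, nat_lit 136]))))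
noncomputable def r92 : WT := (.node (nat_lit 26) (.leaf (nat_lit 56321) [nat_lit 238, nat_lit 255, nat_lit 238, nat_lit 323, nat_lit 306, nat_lit 323, nat_lit 306]) (.leaf (nat_lit 56325) [nat_lit 238, nat_lit 323, nat_lit 306, nat_lit 323, nat_lit 306, nat_lit 255, nat_lit 238]))
noncomputable def r93 : WT := (.node (nat_lit 28) (.leaf (nat_lit 63499) [nat_lit 51, nat_lit 238, nat_lit 255, nat_lit 238, nat_lit 289, nat_lit 34]) (.leaf (nat_lit 79887) [nat_lit 119, nat_lit 238, nat_lit 255, nat_lit 238, nat_lit 272, nat_lit 323, nat_lit 357, nat_lit 102]))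
noncomputable def r94 : WT := (.node (nat_lit 30) (.leaf (nat_lit 63491) [nat_lit 238, nat_lit 289, nat_lit 34, nat_lit 255, nat_lit 51, nat_lit 238]) (.leaf (nat_lit 101386) [nat_lit 170, nat_lit 340, nat_lit 187, nat_lit 340, nat_lit 306]))
noncomputable def r95 : WT := (.node (nat_lit 20) (.node (nat_lit 17) (.node (nat_lit 16) (.leaf (nat_lit 98305) [nat_lit 340, nat_lit 170, nat_lit 289, nat_lit 187]) (.leaf (nat_lit 104465) [nat_lit 221, nat_lit 238, nat_lit 255, nat_lit 238, nat_lit 255, nat_lit 272, nat_lit 323, nat_lit 357, nat_lit 204])) (.node (nat_lit 18) (.leaf (nat_lit 79874) [nat_lit 119, nat_lit 357, nat_lit 323, nat_lit 272, nat_lit 238, nat_lit 255, nat_lit 238, nat_lit 102]) (.node (nat_lit 19) (.leaf (nat_lit 96263) [nat_lit 187, nat_lit 289, nat_lit 306, nat_lit 170]) (.leaf (nat_lit 93196) [nat_lit 136, nat_lit 340, nat_lit 153, nat_lit 340, nat_lit 306, nat_lit 289])))) (.node (nat_lit 24) (.node (nat_lit 22) (.node (nat_lit 21) (.leaf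 (nat_lit 93185) [nat_lit 289, nat_lit 306, nat_lit 340, nat_lit 136, nat_lit 340, nat_lit 153]) (.leaf (nat_lit 108545) [nat_lit 289, nat_lit 323, nat_lit 340, nat_lit 204, nat_lit 323, nat_lit 221])) (.node (nat_lit 23) (.leaf (nat_lit 68609) [nat_lit 289, nat_lit 306, nat_lit 340, nat_lit 34, nat_lit 340, nat_lit 51]) (.leaf (nat_lit 71695) [nat_lit 85, nat_lit 238, nat_lit 255, nat_lit 238, nat_lit 255, nat_lit 323, nat_lit 357, nat_lit 68]))) (.node (nat_lit 27) (.node (nat_lit 25) (.leaf (nat_lit 88079) [nat_lit 153, nat_lit 238, nat_lit 255, nat_lit 238, nat_lit 255, nat_lit 306, nat_lit 340, nat_lit 136]) r92) (.node (nat_lit 29) r93 r94))))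
noncomputable def w13 : WT := (.node (nat_lit 1) (.leaf (nat_lit 7168) [nat_lit 255]) (.node (nat_lit 5) (.node (nat_lit 2) (.leaf (nat_lit 45056) [nat_lit 340, nat_lit 255, nat_lit 340]) (.node (nat_lit 3) (.leaf (nat_lit 46080) [nat_lit 357, nat_lit 255, nat_lit 357]) r88)) (.node (nat_lit 10) (.node (nat_lit 7) r89 r90) (.node (nat_lit 15) r91 r95))))
noncomputable def r96 : WT := (.node (nat_lit 6) (.leaf (nat_lit 40962) [nat_lit 255, nat_lit 272, nat_lit 255]) (.leaf (nat_lit 34818) [nat_lit 238, nat_lit 272, nat_lit 238]))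
noncomputable def r97 : WT := (.node (nat_lit 9) (.node (nat_lit 8) (.leaf (nat_lit 64514) [nat_lit 51, nat_lit 357, nat_lit 323, nat_lit 272, nat_lit 238, nat_lit 34]) (.leaf (nat_lit 97282) [nat_lit 187, nat_lit 323, nat_lit 272, nat_lit 238, nat_lit 170])) (.node (nat_lit 11) (.node (nat_lit 10) (.leaf (nat_lit 72723) [nat_lit 85, nat_lit 238, nat_lit 255, nat_lit 238, nat_lit 255, nat_lit 306, nat_lit 323, nat_lit 340, nat_lit 357, nat_lit 68]) (.leaf (nat_lit 64523) [nat_lit 51, nat_lit 238, nat_lit 272, nat_lit 323, nat_lit 357, nat_lit 34])) (.node (nat_lit 12) (.leaf (nat_lit 80898) [nat_lit 119, nat_lit 357, nat_lit 340, nat_lit 323, nat_lit 306, nat_lit 272, nat_lit 255, nat_lit 238, nat_lit 255, nat_lit 238, nat_lit 102]) (.leaf (nat_lit 105489) [nat_lit 221, nat_lit 238, nat_lit 255, nat_lit 238, nat_lit 255, nat_lit 272, nat_lit 306, nat_lit 340, nat_lit 204]))))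
noncomputable def r98 : WT := (.leaf (nat_lit 76812) [nat_lit 255, nat_lit 238, nat_lit 255, nat_lit 238, nat_lit 255, nat_lit 238, nat_lit 68, nat_lit 340, nat_lit 85, nat_lit 340, nat_lit 306, nat_lit 289])
noncomputable def r99 : WT := (.node (nat_lit 24) (.leaf (nat_lit 105482) [nat_lit 255, nat_lit 238, nat_lit 255, nat_lit 238, nat_lit 204, nat_lit 272, nat_lit 221, nat_lit 340, nat_lit 306]) (.leaf (nat_lit 109574) [nat_lit 238, nat_lit 255, nat_lit 238, nat_lit 255, nat_lit 238, nat_lit 204, nat_lit 340, nat_lit 221]))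
noncomputable def r100 : WT := (.node (nat_lit 26) (.leaf (nat_lit 89103) [nat_lit 153, nat_lit 238, nat_lit 255, nat_lit 238, nat_lit 255, nat_lit 323, nat_lit 357, nat_lit 136]) (.leaf (nat_lit 83975) [nat_lit 289, nat_lit 323, nat_lit 340, nat_lit 357, nat_lit 102, nat_lit 323, nat_lit 119, nat_lit 238, nat_lit 255, nat_lit 238]))
noncomputable def r101 : WT := (.node (nat_lit 28) (.leaf (nat_lit 47115) [nat_lit 289, nat_lit 272, nat_lit 255, nat_lit 238, nat_lit 255, nat_lit 238, nat_lit 289]) (.leaf (nat_lit 97288) [nat_lit 238, nat_lit 170, nat_lit 272, nat_lit 187, nat_lit 323]))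
noncomputable def r102 : WT := (.node (nat_lit 18) (.node (nat_lit 15) (.node (nat_lit 14) (.leaf (nat_lit 105474) [nat_lit 221, nat_lit 340, nat_lit 306, nat_lit 272, nat_lit 255, nat_lit 238, nat_lit 255, nat_lit 238, nat_lit 204]) (.leaf (nat_lit 80917) [nat_lit 119, nat_lit 238, nat_lit 255, nat_lit 238, nat_lit 255, nat_lit 272, nat_lit 306, nat_lit 323, nat_lit 340, nat_lit 357, nat_lit 102])) (.node (nat_lit 16) (.leaf (nat_lit 47104) [nat_lit 289, nat_lit 272, nat_lit 289, nat_lit 238, nat_lit 255, nat_lit 238, nat_lit 255]) (.node (nat_lit 17) (.leaf (nat_lit 47108) [nat_lit 289, nat_lit 238, nat_lit 255, nat_lit 238, nat_lit 255, nat_lit 272, nat_lit 289]) (.leaf (nat_lit 79882) [nat_lit 238, nat_lit 255, nat_lit 238, nat_lit 102, nat_lit 255, nat_lit 119, nat_lit 357, nat_lit 323])))) (.node (nat_lit 22) (.node (nat_lit 20) (.node (nat_lit 19) (.leaf (nat_lit 89090) [nat_lit 153, nat_lit 357, nat_lit 323, nat_lit 255, nat_lit 238, nat_lit 255, nat_lit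 238, nat_lit 136]) r98) (.node (nat_lit 21) (.leaf (nat_lit 72706) [nat_lit 85, nat_lit 357, nat_lit 340, nat_lit 323, nat_lit 306, nat_lit 255, nat_lit 238, nat_lit 255, nat_lit 238, nat_lit 68]) (.leaf (nat_lit 62472) [nat_lit 255, nat_lit 238, nat_lit 255, nat_lit 238, nat_lit 34, nat_lit 238, nat_lit 51, nat_lit 357]))) (.node (nat_lit 25) (.node (nat_lit 23) (.leaf (nat_lit 97289) [nat_lit 187, nat_lit 238, nat_lit 272, nat_lit 323, nat_lit 170]) r99) (.node (nat_lit 27) r100 r101))))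
noncomputable def w14 : WT := (.node (nat_lit 1) (.leaf (nat_lit 8192) [nat_lit 272]) (.node (nat_lit 4) (.node (nat_lit 2) (.leaf (nat_lit 50176) [nat_lit 340, nat_lit 272, nat_lit 340]) (.node (nat_lit 3) (.leaf (nat_lit 51200) [nat_lit 357, nat_lit 272, nat_lit 357]) (.leaf (nat_lit 49152) [nat_lit 323, nat_lit 272, nat_lit 323]))) (.node (nat_lit 7) (.node (nat_lit 5) (.leaf (nat_lit 48128) [nat_lit 306, nat_lit 272, nat_lit 306]) r96) (.node (nat_lit 13) r97 r102))))
noncomputable def r103 : WT := (.node (nat_lit 5) (.leaf (nat_lit 65538) [nat_lit 51, nat_lit 255, nat_lit 34]) (.leaf (nat_lit 52224) [nat_lit 306, nat_lit 289, nat_lit 306]))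
noncomputable def r104 : WT := (.node (nat_lit 7) (.leaf (nat_lit 73730) [nat_lit 85, nat_lit 357, nat_lit 289, nat_lit 255, nat_lit 238, nat_lit 255, nat_lit 238, nat_lit 68]) (.node (nat_lit 8) (.leaf (nat_lit 81922) [nat_lit 119, nat_lit 306, nat_lit 238, nat_lit 102]) (.leaf (nat_lit 41986) [nat_lit 255, nat_lit 289, nat_lit 255])))
noncomputable def r105 : WT := (.node (nat_lit 11) (.node (nat_lit 10) (.leaf (nat_lit 47106) [nat_lit 272, nat_lit 289, nat_lit 238, nat_lit 255, nat_lit 238, nat_lit 255, nat_lit 272]) (.leaf (nat_lit 77830) [nat_lit 68, nat_lit 357, nat_lit 85])) (.node (nat_lit 12) (.leaf (nat_lit 98306) [nat_lit 187, nat_lit 340, nat_lit 255, nat_lit 170]) (.leaf (nat_lit 90114) [nat_lit 153, nat_lit 306, nat_lit 289, nat_lit 136])))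
noncomputable def r106 : WT := (.node (nat_lit 16) (.node (nat_lit 14) (.leaf (nat_lit 35842) [nat_lit 238, nat_lit 289, nat_lit 238]) (.node (nat_lit 15) (.leaf (nat_lit 106498) [nat_lit 221, nat_lit 357, nat_lit 238, nat_lit 204]) (.leaf (nat_lit 66568) [nat_lit 34, nat_lit 306, nat_lit 51, nat_lit 340]))) (.node (nat_lit 18) (.node (nat_lit 17) (.leaf (nat_lit 86024) [nat_lit 102, nat_lit 357, nat_lit 119, nat_lit 306]) (.leaf (nat_lit 90119) [nat_lit 153, nat_lit 289, nat_lit 306, nat_lit 136])) (.node (nat_lit 19) (.leaf (nat_lit 47110) [nat_lit 238, nat_lit 255, nat_lit 238, nat_lit 255, nat_lit 272, nat_lit 289, nat_lit 272]) (.leaf (nat_lit 91142) [nat_lit 136, nat_lit 306, nat_lit 153]))))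
noncomputable def r107 : WT := (.node (nat_lit 30) (.leaf (nat_lit 63494) [nat_lit 238, nat_lit 255, nat_lit 238, nat_lit 34, nat_lit 255, nat_lit 51]) (.leaf (nat_lit 63495) [nat_lit 34, nat_lit 255, nat_lit 51, nat_lit 238, nat_lit 255, nat_lit 238]))
noncomputable def r108 : WT := (.node (nat_lit 33) (.leaf (nat_lit 82947) [nat_lit 357, nat_lit 102, nat_lit 306, nat_lit 119, nat_lit 238]) (.leaf (nat_lit 106503) [nat_lit 221, nat_lit 238, nat_lit 357, nat_lit 204]))
noncomputable def r109 : WT := (.node (nat_lit 36) (.leaf (nat_lit 73743) [nat_lit 85, nat_lit 238, nat_lit 255, nat_lit 238, nat_lit 255, nat_lit 289, nat_lit 357, nat_lit 68]) (.leaf (nat_lit 86017) [nat_lit 306, nat_lit 102, nat_lit 357, nat_lit 119]))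
noncomputable def r110 : WT := (.node (nat_lit 26) (.node (nat_lit 23) (.node (nat_lit 21) (.leaf (nat_lit 82952) [nat_lit 238, nat_lit 102, nat_lit 306, nat_lit 119, nat_lit 357]) (.node (nat_lit 22) (.leaf (nat_lit 74758) [nat_lit 238, nat_lit 255, nat_lit 238, nat_lit 255, nat_lit 238, nat_lit 68, nat_lit 306, nat_lit 85]) (.leaf (nat_lit 85004) [nat_lit 255, nat_lit 238, nat_lit 102, nat_lit 340, nat_lit 119, nat_lit 340, nat_lit 323, nat_lit 306]))) (.node (nat_lit 24) (.leaf (nat_lit 83980) [nat_lit 272, nat_lit 238, nat_lit 255, nat_lit 238, nat_lit 102, nat_lit 323, nat_lit 119, nat_lit 357, nat_lit 340, nat_lit 323]) (.node (nat_lit 25) (.leaf (nat_lit 108547) [nat_lit 323, nat_lit 340, nat_lit 204, nat_lit 323, nat_lit 221, nat_lit 255]) (.leaf (nat_lit 98311) [nat_lit 187, nat_lit 255, nat_lit 340, nat_lit 170])))) (.node (nat_lit 31) (.node (nat_lit 28) (.node (nat_lit 27) (.leaf (nat_lit 81927) [nat_lit 119, nat_lit 238, nat_lit 306, nat_lit 102])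 (.leaf (nat_lit 66561) [nat_lit 340, nat_lit 34, nat_lit 306, nat_lit 51])) (.node (nat_lit 29) (.leaf (nat_lit 99329) [nat_lit 306, nat_lit 340, nat_lit 170, nat_lit 306, nat_lit 187]) r107)) (.node (nat_lit 34) (.node (nat_lit 32) (.leaf (nat_lit 108554) [nat_lit 255, nat_lit 204, nat_lit 323, nat_lit 221, nat_lit 340, nat_lit 323]) r108) (.node (nat_lit 35) (.leaf (nat_lit 96264) [nat_lit 170, nat_lit 255, nat_lit 187, nat_lit 306]) r109))))
noncomputable def w15 : WT := (.node (nat_lit 1) (.leaf (nat_lit 9216) [nat_lit 289]) (.node (nat_lit 6) (.node (nat_lit 3) (.node (nat_lit 2) (.leaf (nat_lit 54272) [nat_lit 340, nat_lit 289, nat_lit 340]) (.leaf (nat_lit 55296) [nat_lit 357, nat_lit 289, nat_lit 357])) (.node (nat_lit 4) (.leaf (nat_lit 53248) [nat_lit 323, nat_lit 289, nat_lit 323]) r103)) (.node (nat_lit 13) (.node (nat_lit 9) r104 r105) (.node (nat_lit 20) r106 r110))))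
noncomputable def r111 : WT := (.node (nat_lit 4) (.leaf (nat_lit 66562) [nat_lit 51, nat_lit 340, nat_lit 289, nat_lit 34]) (.node (nat_lit 5) (.leaf (nat_lit 82946) [nat_lit 119, nat_lit 357, nat_lit 289, nat_lit 238, nat_lit 102]) (.leaf (nat_lit 91138) [nat_lit 153, nat_lit 289, nat_lit 136])))
noncomputable def r112 : WT := (.node (nat_lit 7) (.leaf (nat_lit 56320) [nat_lit 323, nat_lit 306, nat_lit 323, nat_lit 238, nat_lit 255, nat_lit 238, nat_lit 255]) (.node (nat_lit 8) (.leaf (nat_lit 107522) [nat_lit 221, nat_lit 238, nat_lit 204]) (.leaf (nat_lit 36866) [nat_lit 238, nat_lit 306, nat_lit 238])))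
noncomputable def r113 : WT := (.node (nat_lit 11) (.node (nat_lit 10) (.leaf (nat_lit 74754) [nat_lit 85, nat_lit 289, nat_lit 238, nat_lit 255, nat_lit 238, nat_lit 255, nat_lit 238, nat_lit 68]) (.leaf (nat_lit 56324) [nat_lit 323, nat_lit 238, nat_lit 255, nat_lit 238, nat_lit 255, nat_lit 306, nat_lit 323])) (.node (nat_lit 12) (.leaf (nat_lit 56331) [nat_lit 323, nat_lit 306, nat_lit 255, nat_lit 238, nat_lit 255, nat_lit 238, nat_lit 323]) (.leaf (nat_lit 48130) [nat_lit 272, nat_lit 306, nat_lit 272])))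
noncomputable def r114 : WT := (.leaf (nat_lit 76808) [nat_lit 289, nat_lit 272, nat_lit 255, nat_lit 238, nat_lit 255, nat_lit 238, nat_lit 255, nat_lit 238, nat_lit 68, nat_lit 340, nat_lit 85, nat_lit 340])
noncomputable def r115 : WT := (.node (nat_lit 16) (.node (nat_lit 14) (.leaf (nat_lit 99330) [nat_lit 187, nat_lit 340, nat_lit 306, nat_lit 289, nat_lit 170]) (.node (nat_lit 15) (.leaf (nat_lit 52226) [nat_lit 289, nat_lit 306, nat_lit 289]) (.leaf (nat_lit 66567) [nat_lit 51, nat_lit 289, nat_lit 340, nat_lit 34]))) (.node (nat_lit 18) (.node (nat_lit 17) (.leaf (nat_lit 81926) [nat_lit 238, nat_lit 102, nat_lit 289, nat_lit 119]) r114) (.node (nat_lit 19) (.leaf (nat_lit 43010) [nat_lit 255, nat_lit 306, nat_lit 255]) (.leaf (nat_lit 99337) [nat_lit 187, nat_lit 289, nat_lit 306, nat_lit 340, nat_lit 170]))))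
noncomputable def r116 : WT := (.node (nat_lit 28) (.leaf (nat_lit 99336) [nat_lit 289, nat_lit 170, nat_lit 306, nat_lit 187, nat_lit 340]) (.leaf (nat_lit 110600) [nat_lit 289, nat_lit 204, nat_lit 357, nat_lit 221, nat_lit 357]))
noncomputable def r117 : WT := (.node (nat_lit 31) (.leaf (nat_lit 96259) [nat_lit 170, nat_lit 255, nat_lit 187, nat_lit 289]) (.leaf (nat_lit 86019) [nat_lit 102, nat_lit 357, nat_lit 119, nat_lit 289]))
noncomputable def r118 : WT := (.node (nat_lit 34) (.leaf (nat_lit 74767) [nat_lit 85, nat_lit 238, nat_lit 255, nat_lit 238, nat_lit 255, nat_lit 238, nat_lit 289, nat_lit 68]) (.leaf (nat_lit 85002) [nat_lit 289, nat_lit 255, nat_lit 238, nat_lit 102, nat_lit 340, nat_lit 119, nat_lit 340, nat_lit 323]))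
noncomputable def r119 : WT := (.node (nat_lit 37) (.leaf (nat_lit 80908) [nat_lit 272, nat_lit 255, nat_lit 238, nat_lit 255, nat_lit 238, nat_lit 102, nat_lit 272, nat_lit 119, nat_lit 357, nat_lit 340, nat_lit 323]) (.leaf (nat_lit 82953) [nat_lit 119, nat_lit 238, nat_lit 289, nat_lit 357, nat_lit 102]))
noncomputable def r120 : WT := (.node (nat_lit 26) (.node (nat_lit 23) (.node (nat_lit 21) (.leaf (nat_lit 103427) [nat_lit 204, nat_lit 238, nat_lit 221, nat_lit 238]) (.node (nat_lit 22) (.leaf (nat_lit 81923) [nat_lit 102, nat_lit 289, nat_lit 119, nat_lit 238]) (.leaf (nat_lit 103430) [nat_lit 238, nat_lit 204, nat_lit 238, nat_lit 221]))) (.node (nat_lit 24) (.leaf (nat_lit 68616) [nat_lit 289, nat_lit 255, nat_lit 34, nat_lit 340, nat_lit 51, nat_lit 340]) (.node (nat_lit 25) (.leaf (nat_lit 90115) [nat_lit 136, nat_lit 289, nat_lit 153, nat_lit 289]) (.leaf (nat_lit 78856) [nat_lit 255, nat_lit 238, nat_lit 255, nat_lit 238, nat_lit 102, nat_lit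 238, nat_lit 119, nat_lit 357])))) (.node (nat_lit 32) (.node (nat_lit 29) (.node (nat_lit 27) (.leaf (nat_lit 105480) [nat_lit 272, nat_lit 255, nat_lit 238, nat_lit 255, nat_lit 238, nat_lit 204, nat_lit 272, nat_lit 221, nat_lit 340]) r116) (.node (nat_lit 30) (.leaf (nat_lit 110595) [nat_lit 357, nat_lit 204, nat_lit 357, nat_lit 221, nat_lit 289]) r117)) (.node (nat_lit 35) (.node (nat_lit 33) (.leaf (nat_lit 86022) [nat_lit 289, nat_lit 102, nat_lit 357, nat_lit 119]) r118) (.node (nat_lit 36) (.leaf (nat_lit 70664) [nat_lit 238, nat_lit 255, nat_lit 238, nat_lit 255, nat_lit 238, nat_lit 68, nat_lit 238, nat_lit 85, nat_lit 357]) r119))))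
noncomputable def w16 : WT := (.node (nat_lit 1) (.leaf (nat_lit 10240) [nat_lit 306]) (.node (nat_lit 6) (.node (nat_lit 2) (.leaf (nat_lit 57344) [nat_lit 340, nat_lit 306, nat_lit 340]) (.node (nat_lit 3) (.leaf (nat_lit 58368) [nat_lit 357, nat_lit 306, nat_lit 357]) r111)) (.node (nat_lit 13) (.node (nat_lit 9) r112 r113) (.node (nat_lit 20) r115 r120))))
noncomputable def r121 : WT := (.node (nat_lit 4) (.leaf (nat_lit 37890) [nat_lit 238, nat_lit 323, nat_lit 238]) (.leaf (nat_lit 67586) [nat_lit 51, nat_lit 357, nat_lit 323, nat_lit 255, nat_lit 238, nat_lit 255, nat_lit 238, nat_lit 34]))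
noncomputable def r122 : WT := (.node (nat_lit 6) (.leaf (nat_lit 44034) [nat_lit 255, nat_lit 323, nat_lit 255]) (.node (nat_lit 7) (.leaf (nat_lit 75778) [nat_lit 85, nat_lit 357, nat_lit 323, nat_lit 289, nat_lit 238, nat_lit 255, nat_lit 238, nat_lit 68]) (.leaf (nat_lit 53250) [nat_lit 289, nat_lit 323, nat_lit 289])))
noncomputable def r123 : WT := (.node (nat_lit 10) (.node (nat_lit 9) (.leaf (nat_lit 100354) [nat_lit 187, nat_lit 357, nat_lit 238, nat_lit 170]) (.leaf (nat_lit 49154) [nat_lit 272, nat_lit 323, nat_lit 272])) (.node (nat_lit 11) (.leaf (nat_lit 69638) [nat_lit 34, nat_lit 357, nat_lit 51]) (.node (nat_lit 12) (.leaf (nat_lit 83987) [nat_lit 119, nat_lit 238, nat_lit 255, nat_lit 238, nat_lit 272, nat_lit 289, nat_lit 323, nat_lit 340, nat_lit 357, nat_lit 102]) (.leaf (nat_lit 92162) [nat_lit 153, nat_lit 357, nat_lit 323, nat_lit 272, nat_lit 238, nat_lit 136]))))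
noncomputable def r124 : WT := (.node (nat_lit 17) (.node (nat_lit 15) (.node (nat_lit 14) (.leaf (nat_lit 80906) [nat_lit 306, nat_lit 272, nat_lit 255, nat_lit 238, nat_lit 255, nat_lit 238, nat_lit 102, nat_lit 272, nat_lit 119, nat_lit 357, nat_lit 340]) (.leaf (nat_lit 72714) [nat_lit 306, nat_lit 255, nat_lit 238, nat_lit 255, nat_lit 238, nat_lit 68, nat_lit 272, nat_lit 85, nat_lit 357, nat_lit 340])) (.node (nat_lit 16) (.leaf (nat_lit 79880) [nat_lit 272, nat_lit 238, nat_lit 255, nat_lit 238, nat_lit 102, nat_lit 255, nat_lit 119, nat_lit 357]) (.leaf (nat_lit 108552) [nat_lit 289, nat_lit 255, nat_lit 204, nat_lit 323, nat_lit 221, nat_lit 340]))) (.node (nat_lit 19) (.node (nat_lit 18) (.leaf (nat_lit 108546) [nat_lit 221, nat_lit 340, nat_lit 323, nat_lit 289, nat_lit 255, nat_lit 204]) (.leaf (nat_lit 56322) [nat_lit 306, nat_lit 323, nat_lit 238, nat_lit 255, nat_lit 238, nat_lit 255, nat_lit 306])) (.node (nat_lit 20) (.leaf (nat_lit 100359)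 [nat_lit 187, nat_lit 238, nat_lit 357, nat_lit 170]) (.leaf (nat_lit 83978) [nat_lit 289, nat_lit 272, nat_lit 238, nat_lit 255, nat_lit 238, nat_lit 102, nat_lit 323, nat_lit 119, nat_lit 357, nat_lit 340]))))
noncomputable def r125 : WT := (.node (nat_lit 31) (.leaf (nat_lit 71688) [nat_lit 255, nat_lit 238, nat_lit 255, nat_lit 238, nat_lit 68, nat_lit 255, nat_lit 85, nat_lit 357]) (.leaf (nat_lit 75791) [nat_lit 85, nat_lit 238, nat_lit 255, nat_lit 238, nat_lit 289, nat_lit 323, nat_lit 357, nat_lit 68]))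
noncomputable def r126 : WT := (.node (nat_lit 34) (.leaf (nat_lit 102411) [nat_lit 170, nat_lit 357, nat_lit 187, nat_lit 238, nat_lit 255, nat_lit 238, nat_lit 255, nat_lit 272]) (.leaf (nat_lit 108549) [nat_lit 340, nat_lit 204, nat_lit 323, nat_lit 221, nat_lit 255, nat_lit 289]))
noncomputable def r127 : WT := (.node (nat_lit 26) (.node (nat_lit 23) (.node (nat_lit 22) (.leaf (nat_lit 85000) [nat_lit 306, nat_lit 289, nat_lit 255, nat_lit 238, nat_lit 102, nat_lit 340, nat_lit 119, nat_lit 340]) (.leaf (nat_lit 75784) [nat_lit 289, nat_lit 238, nat_lit 255, nat_lit 238, nat_lit 68, nat_lit 323, nat_lit 85, nat_lit 357])) (.node (nat_lit 24) (.leaf (nat_lit 67599) [nat_lit 51, nat_lit 238, nat_lit 255, nat_lit 238, nat_lit 255, nat_lit 323, nat_lit 357, nat_lit 34]) (.node (nat_lit 25) (.leaf (nat_lit 92171) [nat_lit 153, nat_lit 238, nat_lit 272, nat_lit 323, nat_lit 357, nat_lit 136]) (.leaf (nat_lit 102406) [nat_lit 272, nat_lit 255, nat_lit 238, nat_lit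 255, nat_lit 238, nat_lit 170, nat_lit 357, nat_lit 187])))) (.node (nat_lit 29) (.node (nat_lit 27) (.leaf (nat_lit 97285) [nat_lit 170, nat_lit 272, nat_lit 187, nat_lit 238, nat_lit 272]) (.node (nat_lit 28) (.leaf (nat_lit 83970) [nat_lit 119, nat_lit 357, nat_lit 340, nat_lit 323, nat_lit 289, nat_lit 272, nat_lit 238, nat_lit 255, nat_lit 238, nat_lit 102]) (.leaf (nat_lit 56326) [nat_lit 238, nat_lit 255, nat_lit 238, nat_lit 255, nat_lit 306, nat_lit 323, nat_lit 306]))) (.node (nat_lit 32) (.node (nat_lit 30) (.leaf (nat_lit 97286) [nat_lit 272, nat_lit 238, nat_lit 170, nat_lit 272, nat_lit 187]) r125) (.node (nat_lit 33) (.leaf (nat_lit 56329) [nat_lit 306, nat_lit 323, nat_lit 306, nat_lit 255, nat_lit 238, nat_lit 255, nat_lit 238]) r126))))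
noncomputable def w17 : WT := (.node (nat_lit 1) (.leaf (nat_lit 11264) [nat_lit 323]) (.node (nat_lit 5) (.node (nat_lit 2) (.leaf (nat_lit 59392) [nat_lit 340, nat_lit 323, nat_lit 340]) (.node (nat_lit 3) (.leaf (nat_lit 60416) [nat_lit 357, nat_lit 323, nat_lit 357]) r121)) (.node (nat_lit 13) (.node (nat_lit 8) r122 r123) (.node (nat_lit 21) r124 r127))))
noncomputable def r128 : WT := (.node (nat_lit 2) (.leaf (nat_lit 61444) [nat_lit 357, nat_lit 238, nat_lit 255, nat_lit 238, nat_lit 255, nat_lit 340, nat_lit 357]) (.leaf (nat_lit 68610) [nat_lit 51, nat_lit 340, nat_lit 306, nat_lit 289, nat_lit 255, nat_lit 34]))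
noncomputable def r129 : WT := (.node (nat_lit 4) (.leaf (nat_lit 38914) [nat_lit 238, nat_lit 340, nat_lit 238]) (.leaf (nat_lit 57346) [nat_lit 306, nat_lit 340, nat_lit 306]))
noncomputable def r130 : WT := (.node (nat_lit 6) (.leaf (nat_lit 61440) [nat_lit 357, nat_lit 340, nat_lit 357, nat_lit 238, nat_lit 255, nat_lit 238, nat_lit 255]) (.node (nat_lit 7) (.leaf (nat_lit 101378) [nat_lit 187, nat_lit 340, nat_lit 306, nat_lit 255, nat_lit 170]) (.leaf (nat_lit 45058) [nat_lit 255, nat_lit 340, nat_lit 255])))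
noncomputable def r131 : WT := (.node (nat_lit 10) (.node (nat_lit 9) (.leaf (nat_lit 101382) [nat_lit 306, nat_lit 255, nat_lit 170, nat_lit 340, nat_lit 187]) (.leaf (nat_lit 93186) [nat_lit 153, nat_lit 340, nat_lit 306, nat_lit 289, nat_lit 255, nat_lit 136])) (.node (nat_lit 11) (.leaf (nat_lit 109570) [nat_lit 221, nat_lit 272, nat_lit 238, nat_lit 255, nat_lit 238, nat_lit 255, nat_lit 238, nat_lit 204]) (.leaf (nat_lit 83976) [nat_lit 323, nat_lit 289, nat_lit 272, nat_lit 238, nat_lit 255, nat_lit 238, nat_lit 102, nat_lit 323, nat_lit 119, nat_lit 357])))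
noncomputable def r132 : WT := (.leaf (nat_lit 76802) [nat_lit 85, nat_lit 340, nat_lit 306, nat_lit 289, nat_lit 272, nat_lit 255, nat_lit 238, nat_lit 255, nat_lit 238, nat_lit 255, nat_lit 238, nat_lit 68])
noncomputable def r133 : WT := (.node (nat_lit 14) (.node (nat_lit 13) (.leaf (nat_lit 84998) [nat_lit 323, nat_lit 306, nat_lit 289, nat_lit 255, nat_lit 238, nat_lit 102, nat_lit 340, nat_lit 119]) (.leaf (nat_lit 99334) [nat_lit 306, nat_lit 289, nat_lit 170, nat_lit 306, nat_lit 187])) (.node (nat_lit 15) (.leaf (nat_lit 54274) [nat_lit 289, nat_lit 340, nat_lit 289]) (.node (nat_lit 16) r132 (.leaf (nat_lit 85007) [nat_lit 119, nat_lit 238, nat_lit 255, nat_lit 289, nat_lit 306, nat_lit 323, nat_lit 340, nat_lit 102]))))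
noncomputable def r134 : WT := (.node (nat_lit 19) (.node (nat_lit 18) (.leaf (nat_lit 88070) [nat_lit 306, nat_lit 255, nat_lit 238, nat_lit 255, nat_lit 238, nat_lit 136, nat_lit 255, nat_lit 153]) (.leaf (nat_lit 108550) [nat_lit 323, nat_lit 289, nat_lit 255, nat_lit 204, nat_lit 323, nat_lit 221])) (.node (nat_lit 20) (.leaf (nat_lit 93191) [nat_lit 136, nat_lit 340, nat_lit 153, nat_lit 255, nat_lit 289, nat_lit 306]) (.node (nat_lit 21) (.leaf (nat_lit 59394) [nat_lit 323, nat_lit 340, nat_lit 323]) (.leaf (nat_lit 68614) [nat_lit 306, nat_lit 289, nat_lit 255, nat_lit 34, nat_lit 340, nat_lit 51]))))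
noncomputable def r135 : WT := (.node (nat_lit 25) (.node (nat_lit 23) (.leaf (nat_lit 50178) [nat_lit 272, nat_lit 340, nat_lit 272]) (.node (nat_lit 24) (.leaf (nat_lit 66563) [nat_lit 34, nat_lit 306, nat_lit 51, nat_lit 289]) (.leaf (nat_lit 61451) [nat_lit 357, nat_lit 340, nat_lit 255, nat_lit 238, nat_lit 255, nat_lit 238, nat_lit 357]))) (.node (nat_lit 27) (.node (nat_lit 26) (.leaf (nat_lit 85003) [nat_lit 102, nat_lit 340, nat_lit 119, nat_lit 238, nat_lit 255, nat_lit 289, nat_lit 306, nat_lit 323]) (.leaf (nat_lit 84994) [nat_lit 119, nat_lit 340, nat_lit 323, nat_lit 306, nat_lit 289, nat_lit 255, nat_lit 238, nat_lit 102])) (.node (nat_lit 28) (.leaf (nat_lit 72712) [nat_lit 323, nat_lit 306, nat_lit 255, nat_lit 238, nat_lit 255, nat_lit 238, nat_lit 68, nat_lit 272, nat_lit 85, nat_lit 357]) (.node (nat_lit 29) (.leaf (nat_lit 105478) [nat_lit 306, nat_lit 272, nat_lit 255, nat_lit 238, nat_lit 255, nat_lit 238, nat_lit 204, nat_lit 272, nat_lit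 221]) (.leaf (nat_lit 109583) [nat_lit 221, nat_lit 238, nat_lit 255, nat_lit 238, nat_lit 255, nat_lit 238, nat_lit 272, nat_lit 204])))))
noncomputable def r136 : WT := (.leaf (nat_lit 76806) [nat_lit 306, nat_lit 289, nat_lit 272, nat_lit 255, nat_lit 238, nat_lit 255, nat_lit 238, nat_lit 255, nat_lit 238, nat_lit 68, nat_lit 340, nat_lit 85])
noncomputable def r137 : WT := (.leaf (nat_lit 76823) [nat_lit 85, nat_lit 238, nat_lit 255, nat_lit 238, nat_lit 255, nat_lit 238, nat_lit 255, nat_lit 272, nat_lit 289, nat_lit 306, nat_lit 340, nat_lit 68])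
noncomputable def r138 : WT := (.leaf (nat_lit 76819) [nat_lit 68, nat_lit 340, nat_lit 85, nat_lit 238, nat_lit 255, nat_lit 238, nat_lit 255, nat_lit 238, nat_lit 255, nat_lit 272, nat_lit 289, nat_lit 306])
noncomputable def r139 : WT := (.node (nat_lit 43) (.leaf (nat_lit 68615) [nat_lit 34, nat_lit 340, nat_lit 51, nat_lit 255, nat_lit 289, nat_lit 306]) (.leaf (nat_lit 93190) [nat_lit 306, nat_lit 289, nat_lit 255, nat_lit 136, nat_lit 340, nat_lit 153]))
noncomputable def r140 : WT := (.node (nat_lit 35) (.node (nat_lit 32) (.node (nat_lit 31) (.leaf (nat_lit 66566) [nat_lit 289, nat_lit 34, nat_lit 306, nat_lit 51]) (.leaf (nat_lit 98310) [nat_lit 255, nat_lit 170, nat_lit 289, nat_lit 187])) (.node (nat_lit 33) (.leaf (nat_lit 98307) [nat_lit 170, nat_lit 289, nat_lit 187, nat_lit 255]) (.node (nat_lit 34) (.leaf (nat_lit 80904) [nat_lit 323, nat_lit 306, nat_lit 272, nat_lit 255, nat_lit 238, nat_lit 255, nat_lit 238, nat_lit 102, nat_lit 272, nat_lit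 119, nat_lit 357]) r136))) (.node (nat_lit 39) (.node (nat_lit 37) (.node (nat_lit 36) (.leaf (nat_lit 93195) [nat_lit 153, nat_lit 255, nat_lit 289, nat_lit 306, nat_lit 340, nat_lit 136]) r137) (.node (nat_lit 38) r138 (.leaf (nat_lit 68619) [nat_lit 51, nat_lit 255, nat_lit 289, nat_lit 306, nat_lit 340, nat_lit 34]))) (.node (nat_lit 41) (.node (nat_lit 40) (.leaf (nat_lit 101381) [nat_lit 170, nat_lit 340, nat_lit 187, nat_lit 255, nat_lit 306]) (.leaf (nat_lit 101385) [nat_lit 187, nat_lit 255, nat_lit 306, nat_lit 340, nat_lit 170])) (.node (nat_lit 42) (.leaf (nat_lit 108551) [nat_lit 204, nat_lit 323, nat_lit 221, nat_lit 255, nat_lit 289, nat_lit 323]) r139))))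
noncomputable def w18 : WT := (.node (nat_lit 1) (.leaf (nat_lit 12288) [nat_lit 340]) (.node (nat_lit 12) (.node (nat_lit 5) (.node (nat_lit 3) r128 r129) (.node (nat_lit 8) r130 r131)) (.node (nat_lit 22) (.node (nat_lit 17) r133 r134) (.node (nat_lit 30) r135 r140))))
noncomputable def r141 : WT := (.node (nat_lit 3) (.leaf (nat_lit 94210) [nat_lit 153, nat_lit 238, nat_lit 136]) (.leaf (nat_lit 77826) [nat_lit 85, nat_lit 289, nat_lit 68]))
noncomputable def r142 : WT := (.node (nat_lit 5) (.leaf (nat_lit 86018) [nat_lit 119, nat_lit 306, nat_lit 289, nat_lit 102]) (.leaf (nat_lit 61442) [nat_lit 340, nat_lit 357, nat_lit 238, nat_lit 255, nat_lit 238, nat_lit 255, nat_lit 340]))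
noncomputable def r143 : WT := (.node (nat_lit 8) (.node (nat_lit 7) (.leaf (nat_lit 39938) [nat_lit 238, nat_lit 357, nat_lit 238]) (.leaf (nat_lit 64518) [nat_lit 323, nat_lit 272, nat_lit 238, nat_lit 34, nat_lit 272, nat_lit 51])) (.node (nat_lit 9) (.leaf (nat_lit 87043) [nat_lit 136, nat_lit 238, nat_lit 153, nat_lit 238]) (.leaf (nat_lit 60418) [nat_lit 323, nat_lit 357, nat_lit 323])))
noncomputable def r144 : WT := (.node (nat_lit 12) (.node (nat_lit 11) (.leaf (nat_lit 58370) [nat_lit 306, nat_lit 357, nat_lit 306]) (.leaf (nat_lit 51202) [nat_lit 272, nat_lit 357, nat_lit 272])) (.node (nat_lit 13) (.leaf (nat_lit 106502) [nat_lit 238, nat_lit 204, nat_lit 289, nat_lit 221]) (.leaf (nat_lit 110598) [nat_lit 306, nat_lit 289, nat_lit 204, nat_lit 357, nat_lit 221])))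
noncomputable def r145 : WT := (.node (nat_lit 17) (.node (nat_lit 15) (.leaf (nat_lit 61453) [nat_lit 340, nat_lit 255, nat_lit 238, nat_lit 255, nat_lit 238, nat_lit 357, nat_lit 340]) (.node (nat_lit 16) (.leaf (nat_lit 55298) [nat_lit 289, nat_lit 357, nat_lit 289]) (.leaf (nat_lit 102402) [nat_lit 187, nat_lit 323, nat_lit 272, nat_lit 255, nat_lit 238, nat_lit 255, nat_lit 238, nat_lit 170]))) (.node (nat_lit 18) (.leaf (nat_lit 110594) [nat_lit 221, nat_lit 357, nat_lit 306, nat_lit 289, nat_lit 204]) (.node (nat_lit 19) (.leaf (nat_lit 46082) [nat_lit 255, nat_lit 357, nat_lit 255]) (.leaf (nat_lit 67590) [nat_lit 323, nat_lit 255, nat_lit 238, nat_lit 255, nat_lit 238, nat_lit 34, nat_lit 323, nat_lit 51]))))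
noncomputable def r146 : WT := (.node (nat_lit 23) (.node (nat_lit 21) (.leaf (nat_lit 62470) [nat_lit 272, nat_lit 255, nat_lit 238, nat_lit 255, nat_lit 238, nat_lit 34, nat_lit 238, nat_lit 51]) (.node (nat_lit 22) (.leaf (nat_lit 104454) [nat_lit 323, nat_lit 272, nat_lit 255, nat_lit 238, nat_lit 255, nat_lit 238, nat_lit 204, nat_lit 255, nat_lit 221]) (.leaf (nat_lit 75782) [nat_lit 323, nat_lit 289, nat_lit 238, nat_lit 255, nat_lit 238, nat_lit 68, nat_lit 323, nat_lit 85]))) (.node (nat_lit 25) (.node (nat_lit 24) (.leaf (nat_lit 110601) [nat_lit 221, nat_lit 289, nat_lit 306, nat_lit 357, nat_lit 204]) (.leaf (nat_lit 64519) [nat_lit 34, nat_lit 272, nat_lit 51, nat_lit 238, nat_lit 272, nat_lit 323])) (.node (nat_lit 26) (.leaf (nat_lit 82949) [nat_lit 102, nat_lit 306, nat_lit 119, nat_lit 238, nat_lit 289]) (.leaf (nat_lit 82950) [nat_lit 289, nat_lit 238, nat_lit 102, nat_lit 306, nat_lit 119]))))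
noncomputable def r147 : WT := (.node (nat_lit 41) (.leaf (nat_lit 92167) [nat_lit 136, nat_lit 323, nat_lit 153, nat_lit 238, nat_lit 272, nat_lit 323]) (.leaf (nat_lit 87046) [nat_lit 238, nat_lit 136, nat_lit 238, nat_lit 153]))
noncomputable def r148 : WT := (.node (nat_lit 33) (.node (nat_lit 30) (.node (nat_lit 28) (.leaf (nat_lit 61446) [nat_lit 238, nat_lit 255, nat_lit 238, nat_lit 255, nat_lit 340, nat_lit 357, nat_lit 340]) (.node (nat_lit 29) (.leaf (nat_lit 83974) [nat_lit 340, nat_lit 323, nat_lit 289, nat_lit 272, nat_lit 238, nat_lit 255, nat_lit 238, nat_lit 102, nat_lit 323, nat_lit 119]) (.leaf (nat_lit 62475) [nat_lit 34, nat_lit 238, nat_lit 51, nat_lit 238, nat_lit 255, nat_lit 238, nat_lit 255, nat_lit 272]))) (.node (nat_lit 31) (.leaf (nat_lit 72710) [nat_lit 340, nat_lit 323, nat_lit 306, nat_lit 255, nat_lit 238, nat_lit 255, nat_lit 238, nat_lit 68, nat_lit 272, nat_lit 85]) (.node (nat_lit 32) (.leaf (nat_lit 73734) [nat_lit 289,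 nat_lit 255, nat_lit 238, nat_lit 255, nat_lit 238, nat_lit 68, nat_lit 289, nat_lit 85]) (.leaf (nat_lit 95238) [nat_lit 272, nat_lit 238, nat_lit 255, nat_lit 238, nat_lit 255, nat_lit 238, nat_lit 170, nat_lit 238, nat_lit 187])))) (.node (nat_lit 37) (.node (nat_lit 35) (.node (nat_lit 34) (.leaf (nat_lit 79878) [nat_lit 323, nat_lit 272, nat_lit 238, nat_lit 255, nat_lit 238, nat_lit 102, nat_lit 255, nat_lit 119]) (.leaf (nat_lit 80902) [nat_lit 340, nat_lit 323, nat_lit 306, nat_lit 272, nat_lit 255, nat_lit 238, nat_lit 255, nat_lit 238, nat_lit 102, nat_lit 272, nat_lit 119])) (.node (nat_lit 36) (.leaf (nat_lit 70662) [nat_lit 306, nat_lit 238, nat_lit 255, nat_lit 238, nat_lit 255, nat_lit 238, nat_lit 68, nat_lit 238, nat_lit 85]) (.leaf (nat_lit 102415) [nat_lit 187, nat_lit 238, nat_lit 255, nat_lit 238, nat_lit 255, nat_lit 272, nat_lit 323, nat_lit 170]))) (.node (nat_lit 39) (.node (nat_lit 38) (.leaf (nat_lit 78859) [nat_lit 102, nat_lit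 238, nat_lit 119, nat_lit 238, nat_lit 255, nat_lit 238, nat_lit 255, nat_lit 306]) (.leaf (nat_lit 78854) [nat_lit 306, nat_lit 255, nat_lit 238, nat_lit 255, nat_lit 238, nat_lit 102, nat_lit 238, nat_lit 119])) (.node (nat_lit 40) (.leaf (nat_lit 71691) [nat_lit 68, nat_lit 255, nat_lit 85, nat_lit 238, nat_lit 255, nat_lit 238, nat_lit 255, nat_lit 323]) r147))))
noncomputable def w19 : WT := (.node (nat_lit 1) (.leaf (nat_lit 13312) [nat_lit 357]) (.node (nat_lit 10) (.node (nat_lit 4) (.node (nat_lit 2) (.leaf (nat_lit 69634) [nat_lit 51, nat_lit 323, nat_lit 34]) r141) (.node (nat_lit 6) r142 r143)) (.node (nat_lit 20) (.node (nat_lit 14) r144 r145) (.node (nat_lit 27) r146 r148))))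
noncomputable def wP : WT := (.node (nat_lit 5) (.node (nat_lit 3) (.node (nat_lit 1) (.leaf (nat_lit 35840) [nat_lit 238, nat_lit 289, nat_lit 238, nat_lit 289]) (.node (nat_lit 2) (.leaf (nat_lit 59392) [nat_lit 323, nat_lit 340, nat_lit 323, nat_lit 340]) (.leaf (nat_lit 77826) [nat_lit 357, nat_lit 85, nat_lit 289, nat_lit 68]))) (.node (nat_lit 4) (.leaf (nat_lit 107522) [nat_lit 306, nat_lit 221, nat_lit 238, nat_lit 204]) (.leaf (nat_lit 66562) [nat_lit 306, nat_lit 51, nat_lit 340, nat_lit 289, nat_lit 34]))) (.node (nat_lit 7) (.node (nat_lit 6) (.leaf (nat_lit 66569) [nat_lit 51, nat_lit 289, nat_lit 340, nat_lit 34, nat_lit 306]) (.leaf (nat_lit 21509) [nat_lit 85, nat_lit 51, nat_lit 68, nat_lit 51, nat_lit 85, nat_lit 34])) (.node (nat_lit 8) (.leaf (nat_lit 22534) [nat_lit 85, nat_lit 51, nat_lit 102, nat_lit 34, nat_lit 68, nat_lit 102]) (.node (nat_lit 9) (.leaf (nat_lit 32773) [nat_lit 204, nat_lit 85, nat_lit 221, nat_lit 85, nat_lit 102,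 nat_lit 68]) (.leaf (nat_lit 97287) [nat_lit 170, nat_lit 272, nat_lit 187, nat_lit 238, nat_lit 272, nat_lit 323])))))
noncomputable def P : Par := ⟨tb, nat_lit 374, nat_lit 0x3fffffffffffffffffffffffffffffffffffffffffffffffffffffffffffffffffffffffffffffffffffffffffffff, nat_lit 529, nat_lit 131071, nat_lit 1023, nat_lit 17, nat_lit 10, nat_lit 512,
  [nat_lit 34, nat_lit 51, nat_lit 68, nat_lit 85, nat_lit 102, nat_lit 119, nat_lit 136, nat_lit 153, nat_lit 170, nat_lit 187, nat_lit 204, nat_lit 221, nat_lit 238, nat_lit 255, nat_lit 272, nat_lit 289, nat_lit 306, nat_lit 323, nat_lit 340, nat_lit 357], [nat_lit 34, nat_lit 68, nat_lit 102, nat_lit 136, nat_lit 170, nat_lit 204], wP,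
  (.cons (nat_lit 34) w0 (.cons (nat_lit 51) w1 (.cons (nat_lit 68) w2 (.cons (nat_lit 85) w3 (.cons (nat_lit 102) w4 (.cons (nat_lit 119) w5 (.cons (nat_lit 136) w6 (.cons (nat_lit 153) w7 (.cons (nat_lit 170) w8 (.cons (nat_lit 187) w9 (.cons (nat_lit 204) w10 (.cons (nat_lit 221) w11 (.cons (nat_lit 238) w12 (.cons (nat_lit 255) w13 (.cons (nat_lit 272) w14 (.cons (nat_lit 289) w15 (.cons (nat_lit 306) w16 (.cons (nat_lit 323) w17 (.cons (nat_lit 340) w18 (.cons (nat_lit 357) w19 .nil)))))))))))))))))))),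
  .nil⟩

end Cfsg.Agent.Lib.TCCo2H
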