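import Cfsg.Agent.Lib.TCCo3H1P

set_option autoImplicit false
set_option maxRecDepth 100000

namespace Cfsg.Agent.Lib.TCCo3H1
open Cfsg.Agent.Lib.TCCore

theorem k0 : P.RowsS 0 56 := P.rowsS_of_chk _ _ [nat_lit 0x1050806050103010101020000002060103010801010201010301070207000040808040420080404000101010107060f010201050000804041004040404040404040408080006010103050101010401010b0000c2404041006040010140204040200010081bf802140010020202020200008180808101000020402080202040202020202020e0802000100843c80004040424040003040105010301010601000280404040002010801050103010105010000410040c0404300408040404040500014000500014000500, nat_lit 0x60201010101010103000100404040404041010040414000101000040c0404080430100404040408040c0414000b010101030401030200014340408041c10000103010701080101010401000040c181c1804040404125c012e0097004b80008000701020101010400234011a0001018d00468000420040c040404100404181810062c00000080002060c0202020202020202030e0087000080c38021c000c020400448022400020c0202020a0a000083820000c0a02020202100202020200030180808180808080cf80004040c140404000902010201, nat_lit 0x10082800020202080208020204020213da00ed000082728039400007280004140005eb0075803ac0003ce00e7007380004080400050101030102010e010201df0001010000204040206020208037a00010104010000c2814040c04040408041c0001010505b500008380810000602020e155200010101010901010401000080404040414040428041c08000000810040c14042004080430000104010305010108020105010102010406020001c1818040420040404180003010a010100008100418040404200c0404041c04040404000101010501,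 nat_lit 0x20000206020e0a0202040202021204020204040003008081808081008200808281800020c10020610020400018380808182f48000404040404140c0001060103010100010040808040404040c040828040404040400f300018082810080002040803e20001] (by decide +kernel)
theorem k1 : P.RowsT 56 123 := P.rowsT_of_chk _ _ [nat_lit 0x103052b2430c0000400042b242d00000c100404040001042b0c2d0000040c00010c865430c00004040424100400332c21c00008040408040001020129100b40000400020f04078000000801004010100010043c102d00003010a010004c008700002000060090a5000010200004000101090f0421c00004140001010113001e000010080004e40780000001001, nat_lit 0x701020100004040405773096000020000c040001060d0106040101010101030010d906900007020000c040408040804054da06900007020700020008280800010002c04269ad096000000042004056d30a50000800001800253c294000009c3c07800004100002966407800004040410240c04000050103002599078000000080c14049ca01e000, nat_lit 0x20000404180001010101000182c040001050304e3bc1e00000404080001010000404137f0078000010000808000101010601010100004041c072dd01e0000101050904010000c040410041004140001536812c00004140c040404000301090101e6b8294000081004040c000101c1600f00002c04140002010709080101010500005a740a50000702000140407a34096000, nat_lit 0xb01e6b821c000100400001070900177501e00003010200006ee3096000010001024200407a7707800006070a010101010602003a3405a0000601010401010100177301e00005030200000c0c0400dfc40780000400040101557421c000040c1800bb8c1a4000140c040000004040002000200404041800,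 nat_lit 0x10080071e8078000000100106000098f801e000] (by decide +kernel)
theorem s0 : P.RowsS 0 56 := k0
theorem t0 : P.RowsT 56 123 := k1

end Cfsg.Agent.Lib.TCCo3H1
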