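import Cfsg.Agent.Lib.TCCo3H1D0

set_option autoImplicit false
set_option maxRecDepth 100000

namespace Cfsg.Agent.Lib.TCCo3H1
open Cfsg.Agent.Lib.TCCore

noncomputable def tb : T := (.node (nat_lit 91) l0 l1)
noncomputable def r0 : WT := (.node (nat_lit 6) (.leaf (nat_lit 12292) [nat_lit 60, nat_lit 45, nat_lit 60, nat_lit 30, nat_lit 75]) (.leaf (nat_lit 14336) [nat_lit 90, nat_lit 30, nat_lit 105, nat_lit 45, nat_lit 75]))
noncomputable def r1 : WT := (.node (nat_lit 8) (.leaf (nat_lit 19456) [nat_lit 165, nat_lit 30, nat_lit 150, nat_lit 45, nat_lit 150]) (.leaf (nat_lit 19459) [nat_lit 165, nat_lit 45, nat_lit 150, nat_lit 45, nat_lit 165]))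
noncomputable def r2 : WT := (.node (nat_lit 10) (.leaf (nat_lit 13312) [nat_lit 60, nat_lit 90, nat_lit 75, nat_lit 45, nat_lit 90]) (.node (nat_lit 11) (.leaf (nat_lit 13315) [nat_lit 60, nat_lit 105, nat_lit 75, nat_lit 45, nat_lit 105]) (.leaf (nat_lit 15363) [nat_lit 120, nat_lit 45, nat_lit 135, nat_lit 45, nat_lit 120])))
noncomputable def w0 : WT := (.node (nat_lit 1) (.leaf (nat_lit 0) [nat_lit 45]) (.node (nat_lit 4) (.node (nat_lit 2) (.leaf (nat_lit 6144) [nat_lit 30, nat_lit 30]) (.node (nat_lit 3) (.leaf (nat_lit 14340) [nat_lit 105, nat_lit 45, nat_lit 75, nat_lit 30, nat_lit 90]) (.leaf (nat_lit 15360) [nat_lit 120, nat_lit 30, nat_lit 135, nat_lit 45, nat_lit 135]))) (.node (nat_lit 7) (.node (nat_lit 5) (.leaf (nat_lit 12288) [nat_lit 75, nat_lit 30, nat_lit 60, nat_lit 45, nat_lit 60]) r0) (.node (nat_lit 9) r1 r2))))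
noncomputable def r3 : WT := (.node (nat_lit 5) (.leaf (nat_lit 13323) [nat_lit 105, nat_lit 30, nat_lit 60, nat_lit 105, nat_lit 75]) (.leaf (nat_lit 14344) [nat_lit 75, nat_lit 30, nat_lit 90, nat_lit 30, nat_lit 105]))
noncomputable def r4 : WT := (.node (nat_lit 7) (.leaf (nat_lit 14343) [nat_lit 105, nat_lit 45, nat_lit 60, nat_lit 30, nat_lit 90]) (.leaf (nat_lit 15367) [nat_lit 135, nat_lit 45, nat_lit 120, nat_lit 30, nat_lit 120]))
noncomputable def r5 : WT := (.node (nat_lit 9) (.leaf (nat_lit 12296) [nat_lit 60, nat_lit 30, nat_lit 75, nat_lit 30, nat_lit 60]) (.node (nat_lit 10) (.leaf (nat_lit 12299) [nat_lit 75, nat_lit 30, nat_lit 75, nat_lit 45, nat_lit 60]) (.leaf (nat_lit 15371) [nat_lit 120, nat_lit 30, nat_lit 120, nat_lit 45, nat_lit 135])))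
noncomputable def r6 : WT := (.node (nat_lit 13) (.node (nat_lit 12) (.leaf (nat_lit 16392) [nat_lit 105, nat_lit 30, nat_lit 135, nat_lit 90, nat_lit 120]) (.leaf (nat_lit 18443) [nat_lit 165, nat_lit 30, nat_lit 135, nat_lit 165, nat_lit 120])) (.node (nat_lit 14) (.leaf (nat_lit 19464) [nat_lit 150, nat_lit 30, nat_lit 165, nat_lit 30, nat_lit 150]) (.leaf (nat_lit 19463) [nat_lit 150, nat_lit 45, nat_lit 165, nat_lit 30, nat_lit 165])))
noncomputable def w1 : WT := (.node (nat_lit 1) (.leaf (nat_lit 2) [nat_lit 30]) (.node (nat_lit 4) (.node (nat_lit 2) (.leaf (nat_lit 6145) [nat_lit 45, nat_lit 45]) (.node (nat_lit 3) (.leaf (nat_lit 15368) [nat_lit 135, nat_lit 30, nat_lit 120, nat_lit 30, nat_lit 135]) (.leaf (nat_lit 13320) [nat_lit 90, nat_lit 30, nat_lit 60, nat_lit 90, nat_lit 75]))) (.node (nat_lit 8) (.node (nat_lit 6) r3 r4) (.node (nat_lit 11) r5 r6))))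
noncomputable def r7 : WT := (.node (nat_lit 7) (.leaf (nat_lit 12298) [nat_lit 30, nat_lit 75, nat_lit 30, nat_lit 60, nat_lit 45]) (.leaf (nat_lit 22528) [nat_lit 90, nat_lit 180, nat_lit 105, nat_lit 75, nat_lit 180]))
noncomputable def r8 : WT := (.node (nat_lit 9) (.leaf (nat_lit 23552) [nat_lit 180, nat_lit 60, nat_lit 195, nat_lit 75, nat_lit 105]) (.leaf (nat_lit 23555) [nat_lit 180, nat_lit 75, nat_lit 195, nat_lit 75, nat_lit 90]))
noncomputable def w2 : WT := (.node (nat_lit 1) (.leaf (nat_lit 1024) [nat_lit 75]) (.node (nat_lit 4) (.node (nat_lit 2) (.leaf (nat_lit 23556) [nat_lit 195, nat_lit 75, nat_lit 105, nat_lit 60, nat_lit 180]) (.node (nat_lit 3) (.leaf (nat_lit 7168) [nat_lit 60, nat_lit 60]) (.leaf (nat_lit 12297) [nat_lit 45, nat_lit 75, nat_lit 30, nat_lit 75, nat_lit 45]))) (.node (nat_lit 6) (.node (nat_lit 5) (.leaf (nat_lit 13314) [nat_lit 90, nat_lit 75, nat_lit 45, nat_lit 90, nat_lit 30]) (.leaf (nat_lit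 14337) [nat_lit 30, nat_lit 90, nat_lit 45, nat_lit 105, nat_lit 45])) (.node (nat_lit 8) r7 r8))))
noncomputable def r9 : WT := (.node (nat_lit 6) (.leaf (nat_lit 13318) [nat_lit 45, nat_lit 90, nat_lit 30, nat_lit 60, nat_lit 90]) (.leaf (nat_lit 13321) [nat_lit 45, nat_lit 105, nat_lit 30, nat_lit 60, nat_lit 105]))
noncomputable def r10 : WT := (.node (nat_lit 8) (.leaf (nat_lit 23559) [nat_lit 195, nat_lit 75, nat_lit 90, nat_lit 60, nat_lit 180]) (.leaf (nat_lit 12289) [nat_lit 30, nat_lit 75, nat_lit 45, nat_lit 60, nat_lit 45]))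
noncomputable def r11 : WT := (.node (nat_lit 10) (.leaf (nat_lit 22536) [nat_lit 180, nat_lit 60, nat_lit 90, nat_lit 180, nat_lit 105]) (.node (nat_lit 11) (.leaf (nat_lit 22539) [nat_lit 195, nat_lit 60, nat_lit 90, nat_lit 195, nat_lit 105]) (.leaf (nat_lit 23560) [nat_lit 105, nat_lit 60, nat_lit 180, nat_lit 60, nat_lit 195])))
noncomputable def w3 : WT := (.node (nat_lit 1) (.leaf (nat_lit 1026) [nat_lit 60]) (.node (nat_lit 4) (.node (nat_lit 2) (.leaf (nat_lit 14346) [nat_lit 30, nat_lit 90, nat_lit 30, nat_lit 105, nat_lit 45]) (.node (nat_lit 3) (.leaf (nat_lit 7169) [nat_lit 75, nat_lit 75]) (.leaf (nat_lit 12290) [nat_lit 30, nat_lit 60, nat_lit 45, nat_lit 60, nat_lit 30]))) (.node (nat_lit 7) (.node (nat_lit 5) (.leaf (nat_lit 12293) [nat_lit 45, nat_lit 60, nat_lit 45, nat_lit 75, nat_lit 30]) r9) (.node (nat_lit 9) r10 r11))))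
noncomputable def r12 : WT := (.node (nat_lit 6) (.leaf (nat_lit 16385) [nat_lit 30, nat_lit 135, nat_lit 105, nat_lit 120, nat_lit 45]) (.leaf (nat_lit 13316) [nat_lit 75, nat_lit 45, nat_lit 90, nat_lit 30, nat_lit 60]))
noncomputable def r13 : WT := (.node (nat_lit 8) (.leaf (nat_lit 22533) [nat_lit 195, nat_lit 105, nat_lit 75, nat_lit 195, nat_lit 60]) (.node (nat_lit 9) (.leaf (nat_lit 17411) [nat_lit 165, nat_lit 105, nat_lit 150]) (.leaf (nat_lit 13322) [nat_lit 30, nat_lit 60, nat_lit 90, nat_lit 75, nat_lit 45])))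
noncomputable def r14 : WT := (.node (nat_lit 11) (.leaf (nat_lit 14341) [nat_lit 45, nat_lit 105, nat_lit 45, nat_lit 60, nat_lit 30]) (.node (nat_lit 12) (.leaf (nat_lit 22530) [nat_lit 180, nat_lit 105, nat_lit 75, nat_lit 180, nat_lit 60]) (.leaf (nat_lit 23553) [nat_lit 60, nat_lit 180, nat_lit 75, nat_lit 195, nat_lit 75])))
noncomputable def w4 : WT := (.node (nat_lit 1) (.leaf (nat_lit 2048) [nat_lit 105]) (.node (nat_lit 4) (.node (nat_lit 2) (.leaf (nat_lit 16388) [nat_lit 120, nat_lit 45, nat_lit 105, nat_lit 30, nat_lit 135]) (.node (nat_lit 3) (.leaf (nat_lit 8192) [nat_lit 90, nat_lit 90]) (.leaf (nat_lit 17408) [nat_lit 150, nat_lit 105, nat_lit 165]))) (.node (nat_lit 7) (.node (nat_lit 5) (.leaf (nat_lit 14338) [nat_lit 30, nat_lit 105, nat_lit 45, nat_lit 75, nat_lit 30]) r12) (.node (nat_lit 10) r13 r14))))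
noncomputable def r15 : WT := (.node (nat_lit 8) (.leaf (nat_lit 22537) [nat_lit 75, nat_lit 195, nat_lit 60, nat_lit 90, nat_lit 195]) (.leaf (nat_lit 23562) [nat_lit 60, nat_lit 180, nat_lit 60, nat_lit 195, nat_lit 75]))
noncomputable def w5 : WT := (.node (nat_lit 1) (.leaf (nat_lit 2050) [nat_lit 90]) (.node (nat_lit 4) (.node (nat_lit 2) (.leaf (nat_lit 8193) [nat_lit 105, nat_lit 105]) (.node (nat_lit 3) (.leaf (nat_lit 17412) [nat_lit 165, nat_lit 90, nat_lit 150]) (.leaf (nat_lit 14342) [nat_lit 45, nat_lit 75, nat_lit 30, nat_lit 90, nat_lit 30]))) (.node (nat_lit 6) (.node (nat_lit 5) (.leaf (nat_lit 22534) [nat_lit 75, nat_lit 180, nat_lit 60, nat_lit 90, nat_lit 180]) (.leaf (nat_lit 16394) [nat_lit 30, nat_lit 135, nat_lit 90, nat_lit 120, nat_lit 45])) (.node (nat_lit 7) (.leaf (nat_lit 13319) [nat_lit 75, nat_lit 45, nat_lit 105, nat_lit 30, nat_lit 60]) r15))))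
noncomputable def r16 : WT := (.node (nat_lit 7) (.leaf (nat_lit 20480) [nat_lit 180, nat_lit 135, nat_lit 195]) (.leaf (nat_lit 18438) [nat_lit 45, nat_lit 150, nat_lit 30, nat_lit 135, nat_lit 150]))
noncomputable def r17 : WT := (.node (nat_lit 9) (.leaf (nat_lit 15362) [nat_lit 30, nat_lit 135, nat_lit 45, nat_lit 135, nat_lit 30]) (.node (nat_lit 10) (.leaf (nat_lit 15365) [nat_lit 45, nat_lit 135, nat_lit 45, nat_lit 120, nat_lit 30]) (.leaf (nat_lit 18441) [nat_lit 45, nat_lit 165, nat_lit 30, nat_lit 135, nat_lit 165])))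
noncomputable def w6 : WT := (.node (nat_lit 1) (.leaf (nat_lit 3072) [nat_lit 135]) (.node (nat_lit 4) (.node (nat_lit 2) (.leaf (nat_lit 16390) [nat_lit 45, nat_lit 105, nat_lit 30, nat_lit 135, nat_lit 90]) (.node (nat_lit 3) (.leaf (nat_lit 15361) [nat_lit 30, nat_lit 120, nat_lit 45, nat_lit 135, nat_lit 45]) (.leaf (nat_lit 9216) [nat_lit 120, nat_lit 120]))) (.node (nat_lit 6) (.node (nat_lit 5) (.leaf (nat_lit 20483) [nat_lit 195, nat_lit 135, nat_lit 180]) (.leaf (nat_lit 16393) [nat_lit 45, nat_lit 90, nat_lit 30, nat_lit 135, nat_lit 105])) (.node (nat_lit 8) r16 r17))))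
noncomputable def r18 : WT := (.node (nat_lit 6) (.leaf (nat_lit 20487) [nat_lit 180, nat_lit 120, nat_lit 195]) (.leaf (nat_lit 18434) [nat_lit 150, nat_lit 120, nat_lit 45, nat_lit 150, nat_lit 30]))
noncomputable def r19 : WT := (.node (nat_lit 8) (.leaf (nat_lit 15366) [nat_lit 45, nat_lit 135, nat_lit 30, nat_lit 120, nat_lit 30]) (.leaf (nat_lit 15369) [nat_lit 45, nat_lit 120, nat_lit 30, nat_lit 120, nat_lit 45]))
noncomputable def r20 : WT := (.node (nat_lit 10) (.leaf (nat_lit 18437) [nat_lit 165, nat_lit 120, nat_lit 45, nat_lit 165, nat_lit 30]) (.leaf (nat_lit 16389) [nat_lit 105, nat_lit 120, nat_lit 45, nat_lit 90, nat_lit 30]))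
noncomputable def w7 : WT := (.node (nat_lit 1) (.leaf (nat_lit 3074) [nat_lit 120]) (.node (nat_lit 4) (.node (nat_lit 2) (.leaf (nat_lit 9217) [nat_lit 135, nat_lit 135]) (.node (nat_lit 3) (.leaf (nat_lit 20484) [nat_lit 195, nat_lit 120, nat_lit 180]) (.leaf (nat_lit 16386) [nat_lit 90, nat_lit 120, nat_lit 45, nat_lit 105, nat_lit 30]))) (.node (nat_lit 7) (.node (nat_lit 5) (.leaf (nat_lit 15370) [nat_lit 30, nat_lit 120, nat_lit 30, nat_lit 135, nat_lit 45]) r18) (.node (nat_lit 9) r19 r20))))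
noncomputable def r21 : WT := (.node (nat_lit 7) (.leaf (nat_lit 17409) [nat_lit 90, nat_lit 165, nat_lit 105]) (.leaf (nat_lit 17410) [nat_lit 105, nat_lit 165, nat_lit 90]))
noncomputable def r22 : WT := (.node (nat_lit 9) (.leaf (nat_lit 19462) [nat_lit 45, nat_lit 150, nat_lit 30, nat_lit 165, nat_lit 30]) (.leaf (nat_lit 19465) [nat_lit 45, nat_lit 165, nat_lit 30, nat_lit 165, nat_lit 45]))
noncomputable def w8 : WT := (.node (nat_lit 2) (.node (nat_lit 1) (.leaf (nat_lit 4096) [nat_lit 165]) (.leaf (nat_lit 18436) [nat_lit 120, nat_lit 45, nat_lit 150, nat_lit 30, nat_lit 135])) (.node (nat_lit 4) (.node (nat_lit 3) (.leaf (nat_lit 21504) [nat_lit 180, nat_lit 165, nat_lit 195]) (.leaf (nat_lit 18442) [nat_lit 30, nat_lit 135, nat_lit 150, nat_lit 120, nat_lit 45])) (.node (nat_lit 6) (.node (nat_lit 5) (.leaf (nat_lit 10240) [nat_lit 150, nat_lit 150]) (.leaf (nat_lit 19466) [nat_lit 30, nat_lit 165, nat_lit 30, nat_lit 150, nat_lit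 45])) (.node (nat_lit 8) r21 r22))))
noncomputable def r23 : WT := (.node (nat_lit 8) (.leaf (nat_lit 18433) [nat_lit 30, nat_lit 135, nat_lit 165, nat_lit 120, nat_lit 45]) (.leaf (nat_lit 19461) [nat_lit 45, nat_lit 150, nat_lit 45, nat_lit 165, nat_lit 30]))
noncomputable def w9 : WT := (.node (nat_lit 1) (.leaf (nat_lit 4098) [nat_lit 150]) (.node (nat_lit 4) (.node (nat_lit 2) (.leaf (nat_lit 17414) [nat_lit 90, nat_lit 150, nat_lit 105]) (.node (nat_lit 3) (.leaf (nat_lit 17413) [nat_lit 105, nat_lit 150, nat_lit 90]) (.leaf (nat_lit 21508) [nat_lit 195, nat_lit 150, nat_lit 180]))) (.node (nat_lit 6) (.node (nat_lit 5) (.leaf (nat_lit 10241) [nat_lit 165, nat_lit 165]) (.leaf (nat_lit 21511) [nat_lit 180, nat_lit 150, nat_lit 195])) (.node (nat_lit 7) (.leaf (nat_lit 18439) [nat_lit 120, nat_lit 45, nat_lit 165, nat_lit 30, nat_lit 135]) r23))))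
noncomputable def r24 : WT := (.node (nat_lit 6) (.leaf (nat_lit 21505) [nat_lit 150, nat_lit 195, nat_lit 165]) (.leaf (nat_lit 22532) [nat_lit 105, nat_lit 75, nat_lit 180, nat_lit 60, nat_lit 90]))
noncomputable def r25 : WT := (.node (nat_lit 8) (.leaf (nat_lit 23554) [nat_lit 60, nat_lit 195, nat_lit 75, nat_lit 105, nat_lit 60]) (.leaf (nat_lit 23557) [nat_lit 75, nat_lit 195, nat_lit 75, nat_lit 90, nat_lit 60]))
noncomputable def w10 : WT := (.node (nat_lit 1) (.leaf (nat_lit 5120) [nat_lit 195]) (.node (nat_lit 3) (.node (nat_lit 2) (.leaf (nat_lit 11264) [nat_lit 180, nat_lit 180]) (.leaf (nat_lit 20482) [nat_lit 135, nat_lit 195, nat_lit 120])) (.node (nat_lit 5) (.node (nat_lit 4) (.leaf (nat_lit 20481) [nat_lit 120, nat_lit 195, nat_lit 135]) (.leaf (nat_lit 21506) [nat_lit 165, nat_lit 195, nat_lit 150])) (.node (nat_lit 7) r24 r25))))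
noncomputable def r26 : WT := (.node (nat_lit 7) (.leaf (nat_lit 21509) [nat_lit 165, nat_lit 180, nat_lit 150]) (.leaf (nat_lit 22535) [nat_lit 105, nat_lit 75, nat_lit 195, nat_lit 60, nat_lit 90]))
noncomputable def w11 : WT := (.node (nat_lit 1) (.leaf (nat_lit 5122) [nat_lit 180]) (.node (nat_lit 3) (.node (nat_lit 2) (.leaf (nat_lit 21510) [nat_lit 150, nat_lit 180, nat_lit 165]) (.leaf (nat_lit 20486) [nat_lit 120, nat_lit 180, nat_lit 135])) (.node (nat_lit 5) (.node (nat_lit 4) (.leaf (nat_lit 11265) [nat_lit 195, nat_lit 195]) (.leaf (nat_lit 23558) [nat_lit 75, nat_lit 105, nat_lit 60, nat_lit 180, nat_lit 60])) (.node (nat_lit 6) (.leaf (nat_lit 23561) [nat_lit 75, nat_lit 90, nat_lit 60, nat_lit 180, nat_lit 75]) r26))))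
noncomputable def wP : WT := (.node (nat_lit 2) (.node (nat_lit 1) (.leaf (nat_lit 19462) [nat_lit 150, nat_lit 45, nat_lit 150, nat_lit 30, nat_lit 165, nat_lit 30]) (.leaf (nat_lit 9216) [nat_lit 120, nat_lit 120, nat_lit 120])) (.node (nat_lit 4) (.node (nat_lit 3) (.leaf (nat_lit 19458) [nat_lit 165, nat_lit 30, nat_lit 150, nat_lit 45, nat_lit 150, nat_lit 30]) (.leaf (nat_lit 19461) [nat_lit 165, nat_lit 45, nat_lit 150, nat_lit 45, nat_lit 165, nat_lit 30])) (.node (nat_lit 5) (.leaf (nat_lit 19463) [nat_lit 45, nat_lit 150, nat_lit 45, nat_lit 165, nat_lit 30, nat_lit 165]) (.leaf (nat_lit 19465) [nat_lit 150, nat_lit 45, nat_lit 165, nat_lit 30, nat_lit 165, nat_lit 45]))))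
noncomputable def P : Par := ⟨tb, nat_lit 210, nat_lit 0x3ffffffffffffffffffffffffffffffffffffffffffffffffffff, nat_lit 123, nat_lit 32767, nat_lit 127, nat_lit 15, nat_lit 7, nat_lit 56,
  [nat_lit 30, nat_lit 45, nat_lit 60, nat_lit 75, nat_lit 90, nat_lit 105, nat_lit 120, nat_lit 135, nat_lit 150, nat_lit 165, nat_lit 180, nat_lit 195], [nat_lit 30, nat_lit 60, nat_lit 90, nat_lit 120, nat_lit 150], wP,
  (.cons (nat_lit 30) w0 (.cons (nat_lit 45) w1 (.cons (nat_lit 60) w2 (.cons (nat_lit 75) w3 (.cons (nat_lit 90) w4 (.cons (nat_lit 105) w5 (.cons (nat_lit 120) w6 (.cons (nat_lit 135) w7 (.cons (nat_lit 150) w8 (.cons (nat_lit 165) w9 (.cons (nat_lit 180) w10 (.cons (nat_lit 195) w11 .nil)))))))))))),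
  .nil⟩

end Cfsg.Agent.Lib.TCCo3H1
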