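import Cfsg.Agent.Lib.TCCo3H2D0

set_option autoImplicit false
set_option maxRecDepth 100000

namespace Cfsg.Agent.Lib.TCCo3H2
open Cfsg.Agent.Lib.TCCore

noncomputable def n0 : T := (.node (nat_lit 144) l1 l2)
noncomputable def n1 : T := (.node (nat_lit 360) l4 l5)
noncomputable def n2 : T := (.node (nat_lit 576) l7 l8)
noncomputable def n3 : T := (.node (nat_lit 792) l10 l11)
noncomputable def n4 : T := (.node (nat_lit 1008) l13 l14)
noncomputable def n5 : T := (.node (nat_lit 1224) l16 l17)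
noncomputable def n6 : T := (.node (nat_lit 1440) l19 l20)
noncomputable def n7 : T := (.node (nat_lit 1656) l22 l23)
noncomputable def n8 : T := (.node (nat_lit 1872) l25 l26)
noncomputable def n9 : T := (.node (nat_lit 2088) l28 l29)
noncomputable def n10 : T := (.node (nat_lit 2304) l31 l32)
noncomputable def n11 : T := (.node (nat_lit 2520) l34 l35)
noncomputable def n12 : T := (.node (nat_lit 2736) l37 l38)
noncomputable def n13 : T := (.node (nat_lit 2952) l40 l41)
noncomputable def n14 : T := (.node (nat_lit 3168) l43 l44)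
noncomputable def n15 : T := (.node (nat_lit 3312) l45 l46)
noncomputable def n16 : T := (.node (nat_lit 3456) l47 l48)
noncomputable def tb : T := (.node (nat_lit 1728) (.node (nat_lit 864) (.node (nat_lit 432) (.node (nat_lit 216) (.node (nat_lit 72) l0 n0) (.node (nat_lit 288) l3 n1)) (.node (nat_lit 648) (.node (nat_lit 504) l6 n2) (.node (nat_lit 720) l9 n3))) (.node (nat_lit 1296) (.node (nat_lit 1080) (.node (nat_lit 936) l12 n4) (.node (nat_lit 1152) l15 n5)) (.node (nat_lit 1512) (.node (nat_lit 1368) l18 n6) (.node (nat_lit 1584) l21 n7)))) (.node (nat_lit 2592) (.node (nat_lit 2160) (.node (nat_lit 1944) (.node (nat_lit 1800) l24 n8) (.node (nat_lit 2016) l27 n9)) (.node (nat_lit 2376) (.node (nat_lit 2232) l30 n10) (.node (nat_lit 2448) l33 n11))) (.node (nat_lit 3024) (.node (nat_lit 2808) (.node (nat_lit 2664) l36 n12) (.node (nat_lit 2880) l39 n13)) (.node (nat_lit 3240) (.node (nat_lit 3096) l42 n14) (.node (nat_lit 3384) n15 n16)))))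
noncomputable def r0 : WT := (.node (nat_lit 4) (.leaf (nat_lit 13312) [nat_lit 176, nat_lit 44, nat_lit 198, nat_lit 66, nat_lit 198]) (.leaf (nat_lit 13315) [nat_lit 176, nat_lit 66, nat_lit 198, nat_lit 66, nat_lit 176]))
noncomputable def r1 : WT := (.node (nat_lit 6) (.leaf (nat_lit 17412) [nat_lit 220, nat_lit 66, nat_lit 220, nat_lit 44, nat_lit 242]) (.node (nat_lit 7) (.leaf (nat_lit 12292) [nat_lit 154, nat_lit 66, nat_lit 110, nat_lit 44, nat_lit 132]) (.leaf (nat_lit 10244) [nat_lit 88, nat_lit 66, nat_lit 88, nat_lit 44, nat_lit 110])))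
noncomputable def r2 : WT := (.node (nat_lit 10) (.node (nat_lit 9) (.leaf (nat_lit 12291) [nat_lit 132, nat_lit 66, nat_lit 154, nat_lit 66, nat_lit 88]) (.leaf (nat_lit 11267) [nat_lit 88, nat_lit 154, nat_lit 110, nat_lit 66, nat_lit 154])) (.node (nat_lit 11) (.leaf (nat_lit 10240) [nat_lit 110, nat_lit 44, nat_lit 88, nat_lit 66, nat_lit 88]) (.leaf (nat_lit 16387) [nat_lit 198, nat_lit 242, nat_lit 176, nat_lit 66, nat_lit 242])))
noncomputable def r3 : WT := (.node (nat_lit 15) (.node (nat_lit 13) (.leaf (nat_lit 10243) [nat_lit 110, nat_lit 66, nat_lit 88, nat_lit 66, nat_lit 110]) (.node (nat_lit 14) (.leaf (nat_lit 17408) [nat_lit 242, nat_lit 44, nat_lit 220, nat_lit 66, nat_lit 220]) (.leaf (nat_lit 11264) [nat_lit 88, nat_lit 132, nat_lit 110, nat_lit 66, nat_lit 132]))) (.node (nat_lit 17) (.node (nat_lit 16) (.leaf (nat_lit 14339) [nat_lit 198, nat_lit 154, nat_lit 176, nat_lit 66, nat_lit 132]) (.leaf (nat_lit 16384) [nat_lit 198,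 nat_lit 220, nat_lit 176, nat_lit 66, nat_lit 220])) (.node (nat_lit 18) (.leaf (nat_lit 12288) [nat_lit 132, nat_lit 44, nat_lit 154, nat_lit 66, nat_lit 110]) (.node (nat_lit 19) (.leaf (nat_lit 17411) [nat_lit 242, nat_lit 66, nat_lit 220, nat_lit 66, nat_lit 242]) (.leaf (nat_lit 14336) [nat_lit 198, nat_lit 132, nat_lit 176, nat_lit 66, nat_lit 154])))))
noncomputable def w0 : WT := (.node (nat_lit 1) (.leaf (nat_lit 0) [nat_lit 66]) (.node (nat_lit 3) (.node (nat_lit 2) (.leaf (nat_lit 5120) [nat_lit 44, nat_lit 44]) (.leaf (nat_lit 13316) [nat_lit 198, nat_lit 66, nat_lit 198, nat_lit 44, nat_lit 176])) (.node (nat_lit 8) (.node (nat_lit 5) r0 r1) (.node (nat_lit 12) r2 r3))))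
noncomputable def r4 : WT := (.node (nat_lit 4) (.leaf (nat_lit 14344) [nat_lit 154, nat_lit 44, nat_lit 198, nat_lit 132, nat_lit 176]) (.leaf (nat_lit 13320) [nat_lit 198, nat_lit 44, nat_lit 176, nat_lit 44, nat_lit 198]))
noncomputable def r5 : WT := (.node (nat_lit 6) (.leaf (nat_lit 17415) [nat_lit 220, nat_lit 66, nat_lit 242, nat_lit 44, nat_lit 242]) (.node (nat_lit 7) (.leaf (nat_lit 14347) [nat_lit 132, nat_lit 44, nat_lit 198, nat_lit 154, nat_lit 176]) (.leaf (nat_lit 12296) [nat_lit 110, nat_lit 44, nat_lit 132, nat_lit 44, nat_lit 154])))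
noncomputable def r6 : WT := (.node (nat_lit 10) (.node (nat_lit 9) (.leaf (nat_lit 12295) [nat_lit 154, nat_lit 66, nat_lit 88, nat_lit 44, nat_lit 132]) (.leaf (nat_lit 17416) [nat_lit 220, nat_lit 44, nat_lit 242, nat_lit 44, nat_lit 220])) (.node (nat_lit 11) (.leaf (nat_lit 10247) [nat_lit 88, nat_lit 66, nat_lit 110, nat_lit 44, nat_lit 110]) (.leaf (nat_lit 16392) [nat_lit 220, nat_lit 44, nat_lit 198, nat_lit 220, nat_lit 176])))
noncomputable def r7 : WT := (.node (nat_lit 19) (.leaf (nat_lit 11275) [nat_lit 154, nat_lit 44, nat_lit 88, nat_lit 154, nat_lit 110]) (.leaf (nat_lit 17419) [nat_lit 242, nat_lit 44, nat_lit 242, nat_lit 66, nat_lit 220]))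
noncomputable def r8 : WT := (.node (nat_lit 14) (.node (nat_lit 13) (.leaf (nat_lit 13323) [nat_lit 176, nat_lit 44, nat_lit 176, nat_lit 66, nat_lit 198]) (.leaf (nat_lit 10248) [nat_lit 88, nat_lit 44, nat_lit 110, nat_lit 44, nat_lit 88])) (.node (nat_lit 16) (.node (nat_lit 15) (.leaf (nat_lit 10251) [nat_lit 110, nat_lit 44, nat_lit 110, nat_lit 66, nat_lit 88]) (.leaf (nat_lit 12299) [nat_lit 88, nat_lit 44, nat_lit 132, nat_lit 66, nat_lit 154])) (.node (nat_lit 17) (.leaf (nat_lit 11272) [nat_lit 132, nat_lit 44, nat_lit 88, nat_lit 132, nat_lit 110]) (.node (nat_lit 18) (.leaf (nat_lit 16395) [nat_lit 242, nat_lit 44, nat_lit 198, nat_lit 242, nat_lit 176]) r7))))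
noncomputable def w1 : WT := (.node (nat_lit 1) (.leaf (nat_lit 2) [nat_lit 44]) (.node (nat_lit 3) (.node (nat_lit 2) (.leaf (nat_lit 5121) [nat_lit 66, nat_lit 66]) (.leaf (nat_lit 13319) [nat_lit 198, nat_lit 66, nat_lit 176, nat_lit 44, nat_lit 176])) (.node (nat_lit 8) (.node (nat_lit 5) r4 r5) (.node (nat_lit 12) r6 r8))))
noncomputable def w2 : WT := (.node (nat_lit 1) (.leaf (nat_lit 1024) [nat_lit 110]) (.node (nat_lit 4) (.node (nat_lit 2) (.leaf (nat_lit 6144) [nat_lit 88, nat_lit 88]) (.node (nat_lit 3) (.leaf (nat_lit 12289) [nat_lit 44, nat_lit 132, nat_lit 66, nat_lit 154, nat_lit 66]) (.leaf (nat_lit 10246) [nat_lit 66, nat_lit 88, nat_lit 44, nat_lit 110, nat_lit 44]))) (.node (nat_lit 6) (.node (nat_lit 5) (.leaf (nat_lit 11266) [nat_lit 132, nat_lit 110, nat_lit 66, nat_lit 132, nat_lit 44]) (.leaf (nat_lit 10250) [nat_lit 44, nat_lit 110, nat_lit 44, nat_lit 88, nat_lit 66])) (.node (nat_lit 7) (.leaf (nat_lit 10249) [nat_lit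 66, nat_lit 110, nat_lit 44, nat_lit 110, nat_lit 66]) (.leaf (nat_lit 11269) [nat_lit 154, nat_lit 110, nat_lit 66, nat_lit 154, nat_lit 44])))))
noncomputable def w3 : WT := (.node (nat_lit 1) (.leaf (nat_lit 1026) [nat_lit 88]) (.node (nat_lit 4) (.node (nat_lit 2) (.leaf (nat_lit 6145) [nat_lit 110, nat_lit 110]) (.node (nat_lit 3) (.leaf (nat_lit 12298) [nat_lit 44, nat_lit 132, nat_lit 44, nat_lit 154, nat_lit 66]) (.leaf (nat_lit 10242) [nat_lit 44, nat_lit 88, nat_lit 66, nat_lit 88, nat_lit 44]))) (.node (nat_lit 6) (.node (nat_lit 5) (.leaf (nat_lit 11273) [nat_lit 66, nat_lit 154, nat_lit 44, nat_lit 88, nat_lit 154]) (.leaf (nat_lit 10241) [nat_lit 44, nat_lit 110, nat_lit 66, nat_lit 88, nat_lit 66])) (.node (nat_lit 7) (.leaf (nat_lit 11270) [nat_lit 66, nat_lit 132, nat_lit 44, nat_lit 88, nat_lit 132]) (.leaf (nat_lit 10245) [nat_lit 66, nat_lit 88, nat_lit 66, nat_lit 110, nat_lit 44])))))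
noncomputable def r9 : WT := (.node (nat_lit 7) (.leaf (nat_lit 15360) [nat_lit 220, nat_lit 154, nat_lit 242]) (.leaf (nat_lit 12293) [nat_lit 66, nat_lit 154, nat_lit 66, nat_lit 88, nat_lit 44]))
noncomputable def r10 : WT := (.node (nat_lit 9) (.leaf (nat_lit 14337) [nat_lit 44, nat_lit 198, nat_lit 154, nat_lit 176, nat_lit 66]) (.leaf (nat_lit 11274) [nat_lit 44, nat_lit 88, nat_lit 132, nat_lit 110, nat_lit 66]))
noncomputable def w4 : WT := (.node (nat_lit 1) (.leaf (nat_lit 2048) [nat_lit 154]) (.node (nat_lit 4) (.node (nat_lit 2) (.leaf (nat_lit 7168) [nat_lit 132, nat_lit 132]) (.node (nat_lit 3) (.leaf (nat_lit 12290) [nat_lit 44, nat_lit 154, nat_lit 66, nat_lit 110, nat_lit 44]) (.leaf (nat_lit 14340) [nat_lit 176, nat_lit 66, nat_lit 154, nat_lit 44, nat_lit 198]))) (.node (nat_lit 6) (.node (nat_lit 5) (.leaf (nat_lit 11268) [nat_lit 110, nat_lit 66, nat_lit 132, nat_lit 44, nat_lit 88]) (.leaf (nat_lit 15363) [nat_lit 242, nat_lit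 154, nat_lit 220])) (.node (nat_lit 8) r9 r10))))
noncomputable def r11 : WT := (.node (nat_lit 7) (.leaf (nat_lit 11271) [nat_lit 110, nat_lit 66, nat_lit 154, nat_lit 44, nat_lit 88]) (.leaf (nat_lit 15364) [nat_lit 242, nat_lit 132, nat_lit 220]))
noncomputable def r12 : WT := (.node (nat_lit 9) (.leaf (nat_lit 11265) [nat_lit 44, nat_lit 88, nat_lit 154, nat_lit 110, nat_lit 66]) (.leaf (nat_lit 14346) [nat_lit 44, nat_lit 198, nat_lit 132, nat_lit 176, nat_lit 66]))
noncomputable def w5 : WT := (.node (nat_lit 1) (.leaf (nat_lit 2050) [nat_lit 132]) (.node (nat_lit 4) (.node (nat_lit 2) (.leaf (nat_lit 7169) [nat_lit 154, nat_lit 154]) (.node (nat_lit 3) (.leaf (nat_lit 14343) [nat_lit 176, nat_lit 66, nat_lit 132, nat_lit 44, nat_lit 198]) (.leaf (nat_lit 12294) [nat_lit 66, nat_lit 110, nat_lit 44, nat_lit 132, nat_lit 44]))) (.node (nat_lit 6) (.node (nat_lit 5) (.leaf (nat_lit 12297) [nat_lit 66, nat_lit 88, nat_lit 44, nat_lit 132, nat_lit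 66]) (.leaf (nat_lit 15367) [nat_lit 220, nat_lit 132, nat_lit 242])) (.node (nat_lit 8) r11 r12))))
noncomputable def r13 : WT := (.node (nat_lit 7) (.leaf (nat_lit 16393) [nat_lit 66, nat_lit 242, nat_lit 44, nat_lit 198, nat_lit 242]) (.node (nat_lit 8) (.leaf (nat_lit 16390) [nat_lit 66, nat_lit 220, nat_lit 44, nat_lit 198, nat_lit 220]) (.leaf (nat_lit 13317) [nat_lit 66, nat_lit 198, nat_lit 66, nat_lit 176, nat_lit 44])))
noncomputable def w6 : WT := (.node (nat_lit 1) (.leaf (nat_lit 3072) [nat_lit 198]) (.node (nat_lit 3) (.node (nat_lit 2) (.leaf (nat_lit 8192) [nat_lit 176, nat_lit 176]) (.leaf (nat_lit 13314) [nat_lit 44, nat_lit 198, nat_lit 66, nat_lit 198, nat_lit 44])) (.node (nat_lit 5) (.node (nat_lit 4) (.leaf (nat_lit 14345) [nat_lit 66, nat_lit 132, nat_lit 44, nat_lit 198, nat_lit 154]) (.leaf (nat_lit 13313) [nat_lit 44, nat_lit 176, nat_lit 66, nat_lit 198, nat_lit 66])) (.node (nat_lit 6) (.leaf (nat_lit 14342) [nat_lit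 66, nat_lit 154, nat_lit 44, nat_lit 198, nat_lit 132]) r13))))
noncomputable def r14 : WT := (.node (nat_lit 7) (.node (nat_lit 6) (.leaf (nat_lit 14341) [nat_lit 154, nat_lit 176, nat_lit 66, nat_lit 132, nat_lit 44]) (.leaf (nat_lit 16386) [nat_lit 220, nat_lit 176, nat_lit 66, nat_lit 220, nat_lit 44])) (.node (nat_lit 8) (.leaf (nat_lit 13321) [nat_lit 66, nat_lit 176, nat_lit 44, nat_lit 176, nat_lit 66]) (.leaf (nat_lit 16389) [nat_lit 242, nat_lit 176, nat_lit 66, nat_lit 242, nat_lit 44])))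
noncomputable def w7 : WT := (.node (nat_lit 1) (.leaf (nat_lit 3074) [nat_lit 176]) (.node (nat_lit 3) (.node (nat_lit 2) (.leaf (nat_lit 8193) [nat_lit 198, nat_lit 198]) (.leaf (nat_lit 14338) [nat_lit 132, nat_lit 176, nat_lit 66, nat_lit 154, nat_lit 44])) (.node (nat_lit 4) (.leaf (nat_lit 13318) [nat_lit 66, nat_lit 198, nat_lit 44, nat_lit 176, nat_lit 44]) (.node (nat_lit 5) (.leaf (nat_lit 13322) [nat_lit 44, nat_lit 176, nat_lit 44, nat_lit 198, nat_lit 66]) r14))))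
noncomputable def r15 : WT := (.node (nat_lit 8) (.leaf (nat_lit 17414) [nat_lit 66, nat_lit 220, nat_lit 44, nat_lit 242, nat_lit 44]) (.leaf (nat_lit 17417) [nat_lit 66, nat_lit 242, nat_lit 44, nat_lit 242, nat_lit 66]))
noncomputable def w8 : WT := (.node (nat_lit 1) (.leaf (nat_lit 4096) [nat_lit 242]) (.node (nat_lit 4) (.node (nat_lit 2) (.leaf (nat_lit 9216) [nat_lit 220, nat_lit 220]) (.node (nat_lit 3) (.leaf (nat_lit 15361) [nat_lit 132, nat_lit 242, nat_lit 154]) (.leaf (nat_lit 16388) [nat_lit 176, nat_lit 66, nat_lit 220, nat_lit 44, nat_lit 198]))) (.node (nat_lit 6) (.node (nat_lit 5) (.leaf (nat_lit 15362) [nat_lit 154, nat_lit 242, nat_lit 132]) (.leaf (nat_lit 16394) [nat_lit 44, nat_lit 198, nat_lit 220, nat_lit 176, nat_lit 66])) (.node (nat_lit 7) (.leaf (nat_lit 17418) [nat_lit 44, nat_lit 242, nat_lit 44, nat_lit 220, nat_lit 66]) r15))))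
noncomputable def r16 : WT := (.node (nat_lit 6) (.leaf (nat_lit 16385) [nat_lit 44, nat_lit 198, nat_lit 242, nat_lit 176, nat_lit 66]) (.leaf (nat_lit 17410) [nat_lit 44, nat_lit 220, nat_lit 66, nat_lit 220, nat_lit 44]))
noncomputable def r17 : WT := (.node (nat_lit 8) (.leaf (nat_lit 17409) [nat_lit 44, nat_lit 242, nat_lit 66, nat_lit 220, nat_lit 66]) (.leaf (nat_lit 17413) [nat_lit 66, nat_lit 220, nat_lit 66, nat_lit 242, nat_lit 44]))
noncomputable def w9 : WT := (.node (nat_lit 1) (.leaf (nat_lit 4098) [nat_lit 220]) (.node (nat_lit 3) (.node (nat_lit 2) (.leaf (nat_lit 9217) [nat_lit 242, nat_lit 242]) (.leaf (nat_lit 15365) [nat_lit 154, nat_lit 220, nat_lit 132])) (.node (nat_lit 5) (.node (nat_lit 4) (.leaf (nat_lit 16391) [nat_lit 176, nat_lit 66, nat_lit 242, nat_lit 44, nat_lit 198]) (.leaf (nat_lit 15366) [nat_lit 132, nat_lit 220, nat_lit 154])) (.node (nat_lit 7) r16 r17))))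
noncomputable def r18 : WT := (.node (nat_lit 5) (.leaf (nat_lit 8192) [nat_lit 176, nat_lit 176, nat_lit 176]) (.leaf (nat_lit 17409) [nat_lit 242, nat_lit 44, nat_lit 242, nat_lit 66, nat_lit 220, nat_lit 66]))
noncomputable def r19 : WT := (.node (nat_lit 7) (.leaf (nat_lit 17416) [nat_lit 66, nat_lit 220, nat_lit 44, nat_lit 242, nat_lit 44, nat_lit 220]) (.leaf (nat_lit 16393) [nat_lit 176, nat_lit 66, nat_lit 242, nat_lit 44, nat_lit 198, nat_lit 242]))
noncomputable def r20 : WT := (.node (nat_lit 10) (.leaf (nat_lit 16390) [nat_lit 176, nat_lit 66, nat_lit 220, nat_lit 44, nat_lit 198, nat_lit 220]) (.leaf (nat_lit 12293) [nat_lit 132, nat_lit 66, nat_lit 154, nat_lit 66, nat_lit 88, nat_lit 44]))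
noncomputable def r21 : WT := (.node (nat_lit 12) (.leaf (nat_lit 11273) [nat_lit 110, nat_lit 66, nat_lit 154, nat_lit 44, nat_lit 88, nat_lit 154]) (.node (nat_lit 13) (.leaf (nat_lit 13317) [nat_lit 176, nat_lit 66, nat_lit 198, nat_lit 66, nat_lit 176, nat_lit 44]) (.leaf (nat_lit 9217) [nat_lit 242, nat_lit 242, nat_lit 242])))
noncomputable def r22 : WT := (.node (nat_lit 15) (.leaf (nat_lit 15361) [nat_lit 220, nat_lit 132, nat_lit 242, nat_lit 154]) (.node (nat_lit 16) (.leaf (nat_lit 10242) [nat_lit 110, nat_lit 44, nat_lit 88, nat_lit 66, nat_lit 88, nat_lit 44]) (.leaf (nat_lit 10244) [nat_lit 44, nat_lit 88, nat_lit 66, nat_lit 88, nat_lit 44, nat_lit 110])))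
noncomputable def r23 : WT := (.node (nat_lit 18) (.leaf (nat_lit 10246) [nat_lit 88, nat_lit 66, nat_lit 88, nat_lit 44, nat_lit 110, nat_lit 44]) (.node (nat_lit 19) (.leaf (nat_lit 10245) [nat_lit 110, nat_lit 66, nat_lit 88, nat_lit 66, nat_lit 110, nat_lit 44]) (.leaf (nat_lit 16384) [nat_lit 44, nat_lit 198, nat_lit 220, nat_lit 176, nat_lit 66, nat_lit 220])))
noncomputable def r24 : WT := (.node (nat_lit 21) (.leaf (nat_lit 14347) [nat_lit 66, nat_lit 132, nat_lit 44, nat_lit 198, nat_lit 154, nat_lit 176]) (.node (nat_lit 22) (.leaf (nat_lit 10251) [nat_lit 66, nat_lit 110, nat_lit 44, nat_lit 110, nat_lit 66, nat_lit 88]) (.leaf (nat_lit 14339) [nat_lit 44, nat_lit 198, nat_lit 154, nat_lit 176, nat_lit 66, nat_lit 132])))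
noncomputable def r25 : WT := (.node (nat_lit 24) (.leaf (nat_lit 14338) [nat_lit 198, nat_lit 132, nat_lit 176, nat_lit 66, nat_lit 154, nat_lit 44]) (.node (nat_lit 25) (.leaf (nat_lit 11271) [nat_lit 154, nat_lit 110, nat_lit 66, nat_lit 154, nat_lit 44, nat_lit 88]) (.leaf (nat_lit 13318) [nat_lit 198, nat_lit 66, nat_lit 198, nat_lit 44, nat_lit 176, nat_lit 44])))
noncomputable def r26 : WT := (.node (nat_lit 27) (.leaf (nat_lit 13312) [nat_lit 44, nat_lit 176, nat_lit 44, nat_lit 198, nat_lit 66, nat_lit 198]) (.node (nat_lit 28) (.leaf (nat_lit 12295) [nat_lit 66, nat_lit 154, nat_lit 66, nat_lit 88, nat_lit 44, nat_lit 132]) (.leaf (nat_lit 11268) [nat_lit 132, nat_lit 110, nat_lit 66, nat_lit 132, nat_lit 44, nat_lit 88])))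
noncomputable def r27 : WT := (.node (nat_lit 30) (.leaf (nat_lit 12291) [nat_lit 44, nat_lit 132, nat_lit 66, nat_lit 154, nat_lit 66, nat_lit 88]) (.node (nat_lit 31) (.leaf (nat_lit 12289) [nat_lit 88, nat_lit 44, nat_lit 132, nat_lit 66, nat_lit 154, nat_lit 66]) (.leaf (nat_lit 12294) [nat_lit 154, nat_lit 66, nat_lit 110, nat_lit 44, nat_lit 132, nat_lit 44])))
noncomputable def r28 : WT := (.node (nat_lit 34) (.node (nat_lit 33) (.leaf (nat_lit 12290) [nat_lit 132, nat_lit 44, nat_lit 154, nat_lit 66, nat_lit 110, nat_lit 44]) (.leaf (nat_lit 12288) [nat_lit 44, nat_lit 132, nat_lit 44, nat_lit 154, nat_lit 66, nat_lit 110])) (.node (nat_lit 35) (.leaf (nat_lit 11275) [nat_lit 66, nat_lit 154, nat_lit 44, nat_lit 88, nat_lit 154, nat_lit 110]) (.leaf (nat_lit 11267) [nat_lit 44, nat_lit 88, nat_lit 154, nat_lit 110, nat_lit 66, nat_lit 154])))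
noncomputable def wP : WT := (.node (nat_lit 11) (.node (nat_lit 4) (.node (nat_lit 2) (.node (nat_lit 1) (.leaf (nat_lit 6145) [nat_lit 110, nat_lit 110, nat_lit 110]) (.leaf (nat_lit 16387) [nat_lit 44, nat_lit 198, nat_lit 242, nat_lit 176, nat_lit 66, nat_lit 242])) (.node (nat_lit 3) (.leaf (nat_lit 10248) [nat_lit 66, nat_lit 88, nat_lit 44, nat_lit 110, nat_lit 44, nat_lit 88]) (.leaf (nat_lit 14343) [nat_lit 154, nat_lit 176, nat_lit 66, nat_lit 132, nat_lit 44, nat_lit 198]))) (.node (nat_lit 8) (.node (nat_lit 6) r18 r19) (.node (nat_lit 9) (.leaf (nat_lit 16385) [nat_lit 242, nat_lit 44, nat_lit 198, nat_lit 242, nat_lit 176, nat_lit 66]) r20))) (.node (nat_lit 23) (.node (nat_lit 17) (.node (nat_lit 14) r21 r22) (.node (nat_lit 20) r23 r24)) (.node (nat_lit 29) (.node (nat_lit 26) r25 r26) (.node (nat_lit 32) r27 r28))))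
noncomputable def P : Par := ⟨tb, nat_lit 264, nat_lit 0xffffffffffffffffffffffffffffffffffffffffffffffffffffffffffffffffff, nat_lit 3511, nat_lit 4194303, nat_lit 4095, nat_lit 22, nat_lit 12, nat_lit 432,
  [nat_lit 44, nat_lit 66, nat_lit 88, nat_lit 110, nat_lit 132, nat_lit 154, nat_lit 176, nat_lit 198, nat_lit 220, nat_lit 242], [nat_lit 44, nat_lit 88, nat_lit 132], wP,
  (.cons (nat_lit 44) w0 (.cons (nat_lit 66) w1 (.cons (nat_lit 88) w2 (.cons (nat_lit 110) w3 (.cons (nat_lit 132) w4 (.cons (nat_lit 154) w5 (.cons (nat_lit 176) w6 (.cons (nat_lit 198) w7 (.cons (nat_lit 220) w8 (.cons (nat_lit 242) w9 .nil)))))))))),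
  .nil⟩

end Cfsg.Agent.Lib.TCCo3H2
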