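import Cfsg.Agent.Lib.TCDefs

set_option autoImplicit false
set_option maxRecDepth 100000

namespace Cfsg.Agent.Lib.TCCo3H3
open Cfsg.Agent.Lib.TCCore

noncomputable def l0 : T := .leaf (nat_lit 0) (nat_lit 0x5c9e3d62c642112514cfffe027c25cb318bd2d527b17d7ffe027c06dd9563f18e23a95dfffe027cbc344c7d84ee33b93dbffe041a33636ad998cd139e3cbffe0270dfbeb6b518b5bf90bd3ffe05bba8c8aa2446f1cba61cfffe034a2a40dcee50223381dbfffe0279b63c5d978f3d2f79bc7ffe02792cbabca52e5f3f899c3ffe0418d2475caea3ec86dc16bffe0346234d91ac2fd32758fb3ffe01a58bcfc08dc4752368dafffe01a1f48ba9486b5c1f615b7ffe04e1b589a5231637ab34f97ffe04e17511ad0721aa513142fffe034ae25b0dc24e51adf139fffe01aad4d6c8aac4662b452fbffe034b6d53d09ce3d69f2d7abffe034bfb0a36481352a35519bffe04e976cb1a31918d2f1138fffe01a46ec2f61431f82b2118bffe01a1e11305f650cb2719993ffe05b518906dda6ced3ac3d67ffe04e2af117de9cf4170dbc4bffe04e2700f79ddeda9662aa73ffe04e22f97812aacf71ae9173ffe0275dea58d2b058f16e0f7bffe027191082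55d684326f0d77ffe04e49c20e5222a541ed45bbffe027cba5d99084359877116fffe034557cbbc7b47427f08b63ffe01a4dd167441e8dd1ac9f87ffe0418b738909765ba48b28c3ffe0415580d548cc5e76a7b86bffe04e1eb26c26ee9de16a0f4fffe02761bd3c53b68911298d57ffe02716906220daf6122a8b53ffe04e0c40d4e5caf405a81f47ffe05b2555bc9dd07124290d43ffe01a563a0b859e3b61e8af4bffe0417e4b71446c35024d375bffe041126bb21c82ee071bb4dbffe05b6e40b3b2e8ecc5de86b3ffe01a9bb8d2de9b7746a2388fffe04e1e663de0c42b2264a2efffe0345d3aea05921872198be3ffe0346a2c13c30e34a4dd952fffe0417a7393465e3301c6861fffe01a5172d4144c92724a0f1bffe01a93233b503c4342238c53ffe01a727b324a5832554e357fffe034221d9a13389b8451b733ffe05bb3413111b8aeb3cf8f0bffe01a1a09188fb28da2219a7fffe05b2b10f09dc0dce21f8b03ffe01a59988d1da52e51a08cffffe04e7d689cc47c1061e01307ffe0343d29a9820c2bfab3d9a3ffe0418b1b175fe053c5963137ffe03450a12ecb7ad7061c30d7ffe04e29e24508745574a5a927ffe0411cea960cae4bb415a433ffe05b46d8ee0f548e934f1e77ffe04e21ca36d28831c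29aaef3ffe034878b352bd431821b373bffe03415a86148a02cf6e712dfffe04e0c28cdb0e6a2865e16e3ffe05b1602ccc98c59e1c50617ffe01a55a2f005621962fc132bffe034ab3b2a469706211894bbffe0274cdab8432c3332170acbffe04152aad587902af56b865bffe01a7b7ad646603c81968887ffe01a4682b1cc562ad2d912c7ffe034839bcfc65c52b1108ebfffe027115841094a5c5126aef7ffe04e0820ab0b5a6ae2c622ebffe05b8f915444d27391c80413ffe01a619559dabe5ef41212a3ffe01a625109d56b6732949c93ffe04e2542d2938e3a630a985fffe03439f0c9484e9c7285aba7ffe04e1d31cf878a52c2100a8bffe01a76bc5b86466203d422a7ffe0411c78a40a403a46e62513ffe04e1048f721e31f21928c83ffe05b150060c9f11631578ab7ffe04e0c18c84d485a31d11297ffe05b2cc9078c1cbf63a1210fffe04e24f9264c688c61ce9ce7ffe02732c10e8a0631739c907bffe0341cc0a54770a445afad17ffe04e270a4c49343993093b83ffe0343861c2c73251b6eb153fffe04128f187c83641a3030c63ffe01a14a907076e9ea1cc941bffe05b7f82fb073a4033538a57ffe01a1070408466231118275fffe04e18e0c6061420918b9a9fffe0344ddaaf05203931e3151f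ffe0416fab1e08282902049023ffe0341c88a28fa2ee87701a6fffe04e14510492a89db207903bffe05b191883c62631418210abffe04e148108ccba2d80c71247ffe0270810a5a4ec69f248883fffe05b1b2dfda4c820c1839123ffe0340c59e6851b26445d18afffe05b3cd08302042082f4969bffe0411890c4441239518290d3ffe04116e0a8852a28a0c4124fffe02712989485161022498827ffe03408308044942491240e37ffe05b040861c37e1be2cc1a67ffe05b11b08d420820111a0e2bffe0410d606ac1021850d50e43ffe041110888092e59d0810807ffe0270cb063831018b040860fffe027143841850a104141840bffe000)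

end Cfsg.Agent.Lib.TCCo3H3
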