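import Cfsg.Agent.Lib.TCCo3H3D0

set_option autoImplicit false
set_option maxRecDepth 100000

namespace Cfsg.Agent.Lib.TCCo3H3
open Cfsg.Agent.Lib.TCCore

noncomputable def tb : T := l0
noncomputable def r0 : WT := (.node (nat_lit 6) (.leaf (nat_lit 6147) [nat_lit 65, nat_lit 39, nat_lit 52, nat_lit 39, nat_lit 65]) (.node (nat_lit 7) (.leaf (nat_lit 6144) [nat_lit 65, nat_lit 26, nat_lit 52, nat_lit 39, nat_lit 52]) (.leaf (nat_lit 7168) [nat_lit 52, nat_lit 78, nat_lit 65, nat_lit 39, nat_lit 78])))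
noncomputable def w0 : WT := (.node (nat_lit 1) (.leaf (nat_lit 0) [nat_lit 39]) (.node (nat_lit 3) (.node (nat_lit 2) (.leaf (nat_lit 3072) [nat_lit 26, nat_lit 26]) (.leaf (nat_lit 6148) [nat_lit 52, nat_lit 39, nat_lit 52, nat_lit 26, nat_lit 65])) (.node (nat_lit 4) (.leaf (nat_lit 7171) [nat_lit 52, nat_lit 91, nat_lit 65, nat_lit 39, nat_lit 91]) (.node (nat_lit 5) (.leaf (nat_lit 8196) [nat_lit 91, nat_lit 39, nat_lit 65, nat_lit 26, nat_lit 78]) r0))))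
noncomputable def r1 : WT := (.node (nat_lit 7) (.leaf (nat_lit 6152) [nat_lit 52, nat_lit 26, nat_lit 65, nat_lit 26, nat_lit 52]) (.leaf (nat_lit 6155) [nat_lit 65, nat_lit 26, nat_lit 65, nat_lit 39, nat_lit 52]))
noncomputable def w1 : WT := (.node (nat_lit 1) (.leaf (nat_lit 2) [nat_lit 26]) (.node (nat_lit 3) (.node (nat_lit 2) (.leaf (nat_lit 3073) [nat_lit 39, nat_lit 39]) (.leaf (nat_lit 8200) [nat_lit 65, nat_lit 26, nat_lit 78, nat_lit 26, nat_lit 91])) (.node (nat_lit 5) (.node (nat_lit 4) (.leaf (nat_lit 6151) [nat_lit 52, nat_lit 39, nat_lit 65, nat_lit 26, nat_lit 65]) (.leaf (nat_lit 7176) [nat_lit 78, nat_lit 26, nat_lit 52, nat_lit 78, nat_lit 65])) (.node (nat_lit 6) (.leaf (nat_lit 8199) [nat_lit 91, nat_lit 39, nat_lit 52, nat_lit 26, nat_lit 78]) r1))))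
noncomputable def r2 : WT := (.node (nat_lit 5) (.leaf (nat_lit 6153) [nat_lit 39, nat_lit 65, nat_lit 26, nat_lit 65, nat_lit 39]) (.leaf (nat_lit 7170) [nat_lit 78, nat_lit 65, nat_lit 39, nat_lit 78, nat_lit 26]))
noncomputable def r3 : WT := (.node (nat_lit 7) (.leaf (nat_lit 8193) [nat_lit 26, nat_lit 78, nat_lit 39, nat_lit 91, nat_lit 39]) (.leaf (nat_lit 7173) [nat_lit 91, nat_lit 65, nat_lit 39, nat_lit 91, nat_lit 26]))
noncomputable def w2 : WT := (.node (nat_lit 1) (.leaf (nat_lit 1024) [nat_lit 65]) (.node (nat_lit 3) (.node (nat_lit 2) (.leaf (nat_lit 4096) [nat_lit 52, nat_lit 52]) (.leaf (nat_lit 6154) [nat_lit 26, nat_lit 65, nat_lit 26, nat_lit 52, nat_lit 39])) (.node (nat_lit 4) (.leaf (nat_lit 6150) [nat_lit 39, nat_lit 52, nat_lit 26, nat_lit 65, nat_lit 26]) (.node (nat_lit 6) r2 r3))))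
noncomputable def r4 : WT := (.node (nat_lit 7) (.leaf (nat_lit 7174) [nat_lit 39, nat_lit 78, nat_lit 26, nat_lit 52, nat_lit 78]) (.leaf (nat_lit 8202) [nat_lit 26, nat_lit 78, nat_lit 26, nat_lit 91, nat_lit 39]))
noncomputable def w3 : WT := (.node (nat_lit 1) (.leaf (nat_lit 1026) [nat_lit 52]) (.node (nat_lit 3) (.node (nat_lit 2) (.leaf (nat_lit 4097) [nat_lit 65, nat_lit 65]) (.leaf (nat_lit 7177) [nat_lit 39, nat_lit 91, nat_lit 26, nat_lit 52, nat_lit 91])) (.node (nat_lit 5) (.node (nat_lit 4) (.leaf (nat_lit 6146) [nat_lit 26, nat_lit 52, nat_lit 39, nat_lit 52, nat_lit 26]) (.leaf (nat_lit 6149) [nat_lit 39, nat_lit 52, nat_lit 39, nat_lit 65, nat_lit 26])) (.node (nat_lit 6) (.leaf (nat_lit 6145) [nat_lit 26, nat_lit 65, nat_lit 39, nat_lit 52, nat_lit 39]) r4))))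
noncomputable def w4 : WT := (.node (nat_lit 1) (.leaf (nat_lit 2048) [nat_lit 91]) (.node (nat_lit 3) (.node (nat_lit 2) (.leaf (nat_lit 7172) [nat_lit 65, nat_lit 39, nat_lit 78, nat_lit 26, nat_lit 52]) (.leaf (nat_lit 8194) [nat_lit 26, nat_lit 91, nat_lit 39, nat_lit 65, nat_lit 26])) (.node (nat_lit 4) (.leaf (nat_lit 5120) [nat_lit 78, nat_lit 78]) (.node (nat_lit 5) (.leaf (nat_lit 8197) [nat_lit 39, nat_lit 91, nat_lit 39, nat_lit 52, nat_lit 26]) (.leaf (nat_lit 7178) [nat_lit 26, nat_lit 52, nat_lit 78, nat_lit 65, nat_lit 39])))))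
noncomputable def r5 : WT := (.node (nat_lit 5) (.leaf (nat_lit 8201) [nat_lit 39, nat_lit 52, nat_lit 26, nat_lit 78, nat_lit 39]) (.leaf (nat_lit 7169) [nat_lit 26, nat_lit 52, nat_lit 91, nat_lit 65, nat_lit 39]))
noncomputable def w5 : WT := (.node (nat_lit 1) (.leaf (nat_lit 2050) [nat_lit 78]) (.node (nat_lit 2) (.leaf (nat_lit 5121) [nat_lit 91, nat_lit 91]) (.node (nat_lit 3) (.leaf (nat_lit 7175) [nat_lit 65, nat_lit 39, nat_lit 91, nat_lit 26, nat_lit 52]) (.node (nat_lit 4) (.leaf (nat_lit 8198) [nat_lit 39, nat_lit 65, nat_lit 26, nat_lit 78, nat_lit 26]) r5))))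
noncomputable def wP : WT := (.leaf (nat_lit 0) [nat_lit 26, nat_lit 39])
noncomputable def P : Par := ⟨tb, nat_lit 104, nat_lit 0xffffffffffffffffffffffffff, nat_lit 120, nat_lit 8191, nat_lit 127, nat_lit 13, nat_lit 7, nat_lit 120,
  [nat_lit 26, nat_lit 39, nat_lit 52, nat_lit 65, nat_lit 78, nat_lit 91], [], wP,
  (.cons (nat_lit 26) w0 (.cons (nat_lit 39) w1 (.cons (nat_lit 52) w2 (.cons (nat_lit 65) w3 (.cons (nat_lit 78) w4 (.cons (nat_lit 91) w5 .nil)))))),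
  .nil⟩

end Cfsg.Agent.Lib.TCCo3H3
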