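import Cfsg.Agent.Lib.TCDefs

set_option autoImplicit false
set_option maxRecDepth 100000

namespace Cfsg.Agent.Lib.TCCo3H4
open Cfsg.Agent.Lib.TCCore

noncomputable def l0 : T := .leaf (nat_lit 0) (nat_lit 0xfff25d616ffffff2de70e048e63ef0e73e462fb37afff024dcdf4cdf63382ba33cfff024d59eda279ef43bc2fbfff03cedbe6fe742ba2382b7fff024e5dcce37bdf61f7279fff024dd1dcb1a82352f9238fff03c189112e38e3bd06da8fff048ceecd32771a83f3c74fff030932c1ef3aeb9cb5133fff01822a0c5386ebc174435fff048b9e9749ef96d8980e9fff018ba8b27b2bb2e26f1f0fff018f3cba39a9aaa2311affff018eb9a9b16da321f02b1fff03ca13cb5b71a2b1ec16dfff01899c9a29b21af1ae12cfff0181900c82e099816d22efff04824a994a6eb7116a1e0fff0241c5273af09291201abfff0242e408496a9f0132898fff048167b711f51f7d76306fff054b711a818b10a2881c4fff0302252df2d05554dc91dfff0542df2662572a11e488dfff0242843291a37c780d225fff03cb70ebc7471e4221162fff0189ed45c1196de1a31a1fff03c1600c32e52571e2263fff0480c31a191832c22b16afff0543262a50c318824a149fff03cbf4bf27226992bd707fff0242bdeb859248f96621cfff0184a29ed1db5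1a25d526fff03caeff3949a21c215194fff018f3a11955c4db4534d2fff04815adba6de1621570d6fff01811745596c8e08698f2fff0543d51582212a50d6199fff02410f08278d67d119117fff04849841752641019425bfff0249eb54a3911531db1d5fff030d35a6e19431111249afff0241760c928f5dd49a153fff04814be373533d421020ffff0541481ec4553260cf251fff0240821564dd2d2251110fff054d3875d75610d18775efff0300cce3b14e7d68e5864fff054fbb10d08210924b145fff03ce3719110a1e718520cfff03c5142ab16714b0c929ffff0241121f614c08219f10afff03012c1901df1430842e7fff0240861018247a36de1cefff0540410c7ebc3f3368d76fff05413322a08410118c1cbfff03c0e92e40410c52270c8fff03c12112018811f082101fff0240d60cf0c90cc0410c3fff024147086145084143082fff000)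

end Cfsg.Agent.Lib.TCCo3H4
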