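import Cfsg.Agent.Lib.TCCo3H4D0

set_option autoImplicit false
set_option maxRecDepth 100000

namespace Cfsg.Agent.Lib.TCCo3H4
open Cfsg.Agent.Lib.TCCore

noncomputable def tb : T := l0
noncomputable def r0 : WT := (.node (nat_lit 7) (.leaf (nat_lit 9216) [nat_lit 72, nat_lit 24, nat_lit 84, nat_lit 36, nat_lit 60]) (.leaf (nat_lit 9219) [nat_lit 72, nat_lit 36, nat_lit 84, nat_lit 36, nat_lit 48]))
noncomputable def w0 : WT := (.node (nat_lit 1) (.leaf (nat_lit 0) [nat_lit 36]) (.node (nat_lit 3) (.node (nat_lit 2) (.leaf (nat_lit 4096) [nat_lit 24, nat_lit 24]) (.leaf (nat_lit 3074) [nat_lit 48, nat_lit 24, nat_lit 48])) (.node (nat_lit 5) (.node (nat_lit 4) (.leaf (nat_lit 9220) [nat_lit 84, nat_lit 36, nat_lit 60, nat_lit 24, nat_lit 72]) (.leaf (nat_lit 7172) [nat_lit 48, nat_lit 36, nat_lit 48, nat_lit 24, nat_lit 60])) (.node (nat_lit 6) (.leaf (nat_lit 8192) [nat_lit 48, nat_lit 72, nat_lit 60, nat_lit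 36, nat_lit 72]) r0))))
noncomputable def r1 : WT := (.node (nat_lit 7) (.leaf (nat_lit 8200) [nat_lit 72, nat_lit 24, nat_lit 48, nat_lit 72, nat_lit 60]) (.leaf (nat_lit 9224) [nat_lit 60, nat_lit 24, nat_lit 72, nat_lit 24, nat_lit 84]))
noncomputable def w1 : WT := (.node (nat_lit 1) (.leaf (nat_lit 2) [nat_lit 24]) (.node (nat_lit 3) (.node (nat_lit 2) (.leaf (nat_lit 4097) [nat_lit 36, nat_lit 36]) (.leaf (nat_lit 7176) [nat_lit 48, nat_lit 24, nat_lit 60, nat_lit 24, nat_lit 48])) (.node (nat_lit 5) (.node (nat_lit 4) (.leaf (nat_lit 9223) [nat_lit 84, nat_lit 36, nat_lit 48, nat_lit 24, nat_lit 72]) (.leaf (nat_lit 3073) [nat_lit 60, nat_lit 36, nat_lit 60])) (.node (nat_lit 6) (.leaf (nat_lit 9227) [nat_lit 48, nat_lit 24, nat_lit 72, nat_lit 36, nat_lit 84]) r1))))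
noncomputable def r2 : WT := (.node (nat_lit 5) (.leaf (nat_lit 7177) [nat_lit 36, nat_lit 60, nat_lit 24, nat_lit 60, nat_lit 36]) (.node (nat_lit 6) (.leaf (nat_lit 8194) [nat_lit 72, nat_lit 60, nat_lit 36, nat_lit 72, nat_lit 24]) (.leaf (nat_lit 9217) [nat_lit 24, nat_lit 72, nat_lit 36, nat_lit 84, nat_lit 36])))
noncomputable def w2 : WT := (.node (nat_lit 1) (.leaf (nat_lit 1024) [nat_lit 60]) (.node (nat_lit 2) (.leaf (nat_lit 3072) [nat_lit 24, nat_lit 48, nat_lit 24]) (.node (nat_lit 3) (.leaf (nat_lit 5120) [nat_lit 48, nat_lit 48]) (.node (nat_lit 4) (.leaf (nat_lit 7178) [nat_lit 24, nat_lit 60, nat_lit 24, nat_lit 48, nat_lit 36]) r2))))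
noncomputable def r3 : WT := (.node (nat_lit 6) (.leaf (nat_lit 7169) [nat_lit 24, nat_lit 60, nat_lit 36, nat_lit 48, nat_lit 36]) (.node (nat_lit 7) (.leaf (nat_lit 7173) [nat_lit 36, nat_lit 48, nat_lit 36, nat_lit 60, nat_lit 24]) (.leaf (nat_lit 8198) [nat_lit 36, nat_lit 72, nat_lit 24, nat_lit 48, nat_lit 72])))
noncomputable def w3 : WT := (.node (nat_lit 1) (.leaf (nat_lit 1026) [nat_lit 48]) (.node (nat_lit 3) (.node (nat_lit 2) (.leaf (nat_lit 3075) [nat_lit 36, nat_lit 60, nat_lit 36]) (.leaf (nat_lit 5121) [nat_lit 60, nat_lit 60])) (.node (nat_lit 4) (.leaf (nat_lit 8201) [nat_lit 36, nat_lit 84, nat_lit 24, nat_lit 48, nat_lit 84]) (.node (nat_lit 5) (.leaf (nat_lit 7170) [nat_lit 24, nat_lit 48, nat_lit 36, nat_lit 48, nat_lit 24]) r3))))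
noncomputable def w4 : WT := (.node (nat_lit 1) (.leaf (nat_lit 2048) [nat_lit 84]) (.node (nat_lit 3) (.node (nat_lit 2) (.leaf (nat_lit 9218) [nat_lit 24, nat_lit 84, nat_lit 36, nat_lit 60, nat_lit 24]) (.leaf (nat_lit 6144) [nat_lit 72, nat_lit 72])) (.node (nat_lit 4) (.leaf (nat_lit 8196) [nat_lit 60, nat_lit 36, nat_lit 72, nat_lit 24, nat_lit 48]) (.leaf (nat_lit 8202) [nat_lit 24, nat_lit 48, nat_lit 72, nat_lit 60, nat_lit 36]))))
noncomputable def r4 : WT := (.node (nat_lit 5) (.leaf (nat_lit 8193) [nat_lit 24, nat_lit 48, nat_lit 84, nat_lit 60, nat_lit 36]) (.leaf (nat_lit 9225) [nat_lit 36, nat_lit 48, nat_lit 24, nat_lit 72, nat_lit 36]))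
noncomputable def w5 : WT := (.node (nat_lit 1) (.leaf (nat_lit 2050) [nat_lit 72]) (.node (nat_lit 2) (.leaf (nat_lit 9222) [nat_lit 36, nat_lit 60, nat_lit 24, nat_lit 72, nat_lit 24]) (.node (nat_lit 3) (.leaf (nat_lit 6145) [nat_lit 84, nat_lit 84]) (.node (nat_lit 4) (.leaf (nat_lit 8199) [nat_lit 60, nat_lit 36, nat_lit 84, nat_lit 24, nat_lit 48]) r4))))
noncomputable def wP : WT := (.leaf (nat_lit 4097) [nat_lit 36, nat_lit 36, nat_lit 36])
noncomputable def P : Par := ⟨tb, nat_lit 96, nat_lit 0xffffffffffffffffffffffff, nat_lit 61, nat_lit 4095, nat_lit 63, nat_lit 12, nat_lit 6, nat_lit 60,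
  [nat_lit 24, nat_lit 36, nat_lit 48, nat_lit 60, nat_lit 72, nat_lit 84], [], wP,
  (.cons (nat_lit 24) w0 (.cons (nat_lit 36) w1 (.cons (nat_lit 48) w2 (.cons (nat_lit 60) w3 (.cons (nat_lit 72) w4 (.cons (nat_lit 84) w5 .nil)))))),
  .nil⟩

end Cfsg.Agent.Lib.TCCo3H4
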