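import Cfsg.Agent.Lib.TCFi22CD0

set_option autoImplicit false
set_option maxRecDepth 100000

namespace Cfsg.Agent.Lib.TCFi22C
open Cfsg.Agent.Lib.TCCore

noncomputable def n0 : T := (.node (nat_lit 128) l1 l2)
noncomputable def n1 : T := (.node (nat_lit 320) l4 l5)
noncomputable def n2 : T := (.node (nat_lit 512) l7 l8)
noncomputable def n3 : T := (.node (nat_lit 640) l9 l10)
noncomputable def n4 : T := (.node (nat_lit 768) l11 l12)
noncomputable def n5 : T := (.node (nat_lit 960) l14 l15)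
noncomputable def n6 : T := (.node (nat_lit 1088) l16 l17)
noncomputable def n7 : T := (.node (nat_lit 1216) l18 l19)
noncomputable def n8 : T := (.node (nat_lit 1408) l21 l22)
noncomputable def n9 : T := (.node (nat_lit 1536) l23 l24)
noncomputable def n10 : T := (.node (nat_lit 1664) l25 l26)
noncomputable def n11 : T := (.node (nat_lit 1856) l28 l29)
noncomputable def n12 : T := (.node (nat_lit 1984) l30 l31)
noncomputable def n13 : T := (.node (nat_lit 2112) l32 l33)
noncomputable def n14 : T := (.node (nat_lit 2304) l35 l36)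
noncomputable def n15 : T := (.node (nat_lit 2432) l37 l38)
noncomputable def n16 : T := (.node (nat_lit 2560) l39 l40)
noncomputable def n17 : T := (.node (nat_lit 2752) l42 l43)
noncomputable def n18 : T := (.node (nat_lit 2880) l44 l45)
noncomputable def n19 : T := (.node (nat_lit 3008) l46 l47)
noncomputable def n20 : T := (.node (nat_lit 3200) l49 l50)
noncomputable def n21 : T := (.node (nat_lit 3328) l51 l52)
noncomputable def n22 : T := (.node (nat_lit 3456) l53 l54)
noncomputable def tb : T := (.node (nat_lit 1728) (.node (nat_lit 832) (.node (nat_lit 384) (.node (nat_lit 192) (.node (nat_lit 64) l0 n0) (.node (nat_lit 256) l3 n1)) (.node (nat_lit 576) (.node (nat_lit 448) l6 n2) (.node (nat_lit 704) n3 n4))) (.node (nat_lit 1280) (.node (nat_lit 1024) (.node (nat_lit 896) l13 n5) (.node (nat_lit 1152) n6 n7)) (.node (nat_lit 1472) (.node (nat_lit 1344) l20 n8) (.node (nat_lit 1600) n9 n10)))) (.node (nat_lit 2624) (.node (nat_lit 2176) (.node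 (nat_lit 1920) (.node (nat_lit 1792) l27 n11) (.node (nat_lit 2048) n12 n13)) (.node (nat_lit 2368) (.node (nat_lit 2240) l34 n14) (.node (nat_lit 2496) n15 n16))) (.node (nat_lit 3072) (.node (nat_lit 2816) (.node (nat_lit 2688) l41 n17) (.node (nat_lit 2944) n18 n19)) (.node (nat_lit 3264) (.node (nat_lit 3136) l48 n20) (.node (nat_lit 3392) n21 n22)))))
noncomputable def r0 : WT := (.leaf (nat_lit 47117) [nat_lit 207, nat_lit 161, nat_lit 138, nat_lit 115, nat_lit 92, nat_lit 69, nat_lit 46, nat_lit 207, nat_lit 161, nat_lit 138, nat_lit 115, nat_lit 92, nat_lit 69, nat_lit 46, nat_lit 207, nat_lit 161, nat_lit 138, nat_lit 115, nat_lit 92, nat_lit 69, nat_lit 46, nat_lit 207, nat_lit 161, nat_lit 138, nat_lit 115, nat_lit 92, nat_lit 69, nat_lit 46, nat_lit 207, nat_lit 161, nat_lit 138, nat_lit 115, nat_lit 92, nat_lit 69, nat_lit 46, nat_lit 207, nat_lit 161, nat_lit 138, nat_lit 115, nat_lit 92, nat_lit 69, nat_lit 46, nat_lit 207, nat_lit 161,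 nat_lit 138, nat_lit 115, nat_lit 92, nat_lit 69, nat_lit 46, nat_lit 207, nat_lit 161, nat_lit 138, nat_lit 115, nat_lit 92, nat_lit 69, nat_lit 46, nat_lit 207, nat_lit 161, nat_lit 138, nat_lit 115, nat_lit 92, nat_lit 69])
noncomputable def r1 : WT := (.leaf (nat_lit 50226) [nat_lit 69, nat_lit 92, nat_lit 115, nat_lit 138, nat_lit 207, nat_lit 276, nat_lit 46, nat_lit 69, nat_lit 92, nat_lit 115, nat_lit 138, nat_lit 207, nat_lit 46, nat_lit 69, nat_lit 92, nat_lit 115, nat_lit 138, nat_lit 207, nat_lit 46, nat_lit 69, nat_lit 92, nat_lit 115, nat_lit 138, nat_lit 207, nat_lit 46, nat_lit 69, nat_lit 92, nat_lit 115, nat_lit 138, nat_lit 207])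
noncomputable def r2 : WT := (.leaf (nat_lit 47104) [nat_lit 69, nat_lit 92, nat_lit 115, nat_lit 138, nat_lit 161, nat_lit 207, nat_lit 46, nat_lit 69, nat_lit 92, nat_lit 115, nat_lit 138, nat_lit 161, nat_lit 207, nat_lit 46, nat_lit 69, nat_lit 92, nat_lit 115, nat_lit 138, nat_lit 161, nat_lit 207, nat_lit 46, nat_lit 69, nat_lit 92, nat_lit 115, nat_lit 138, nat_lit 161, nat_lit 207, nat_lit 46, nat_lit 69, nat_lit 92, nat_lit 115, nat_lit 138, nat_lit 161, nat_lit 207, nat_lit 46, nat_lit 69, nat_lit 92, nat_lit 115, nat_lit 138, nat_lit 161, nat_lit 207, nat_lit 46, nat_lit 69, nat_lit 92, nat_lit 115, nat_lit 138, nat_lit 161, nat_lit 207, nat_lit 46, nat_lit 69, nat_lit 92, nat_lit 115, nat_lit 138, nat_lit 161, nat_lit 207, nat_lit 46, nat_lit 69, nat_lit 92, nat_lit 115, nat_lit 138, nat_lit 161, nat_lit 207])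
noncomputable def r3 : WT := (.node (nat_lit 9) (.leaf (nat_lit 9216) [nat_lit 69, nat_lit 46, nat_lit 69, nat_lit 46, nat_lit 69]) (.node (nat_lit 10) r0 (.node (nat_lit 11) r1 r2)))
noncomputable def w0 : WT := (.node (nat_lit 2) (.node (nat_lit 1) (.leaf (nat_lit 0) [nat_lit 46]) (.leaf (nat_lit 16384) [nat_lit 230, nat_lit 46, nat_lit 230])) (.node (nat_lit 5) (.node (nat_lit 3) (.leaf (nat_lit 14336) [nat_lit 184, nat_lit 46, nat_lit 184]) (.node (nat_lit 4) (.leaf (nat_lit 13312) [nat_lit 161, nat_lit 46, nat_lit 161]) (.leaf (nat_lit 15360) [nat_lit 207, nat_lit 46, nat_lit 207]))) (.node (nat_lit 7) (.node (nat_lit 6) (.leaf (nat_lit 11264) [nat_lit 115, nat_lit 46, nat_lit 115]) (.leaf (nat_lit 10240) [nat_lit 92, nat_lit 46, nat_lit 92])) (.node (nat_lit 8) (.leaf (nat_lit 12288) [nat_lit 138, nat_lit 46, nat_lit 138]) r3))))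
noncomputable def r4 : WT := (.leaf (nat_lit 47115) [nat_lit 46, nat_lit 207, nat_lit 161, nat_lit 138, nat_lit 115, nat_lit 92, nat_lit 69, nat_lit 46, nat_lit 207, nat_lit 161, nat_lit 138, nat_lit 115, nat_lit 92, nat_lit 69, nat_lit 46, nat_lit 207, nat_lit 161, nat_lit 138, nat_lit 115, nat_lit 92, nat_lit 69, nat_lit 46, nat_lit 207, nat_lit 161, nat_lit 138, nat_lit 115, nat_lit 92, nat_lit 69, nat_lit 46, nat_lit 207, nat_lit 161, nat_lit 138, nat_lit 115, nat_lit 92, nat_lit 69, nat_lit 46, nat_lit 207, nat_lit 161, nat_lit 138, nat_lit 115, nat_lit 92, nat_lit 69, nat_lit 46, nat_lit 207, nat_lit 161, nat_lit 138, nat_lit 115, nat_lit 92, nat_lit 69, nat_lit 46, nat_lit 207, nat_lit 161, nat_lit 138, nat_lit 115, nat_lit 92, nat_lit 69, nat_lit 46, nat_lit 207, nat_lit 161, nat_lit 138, nat_lit 115, nat_lit 92])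
noncomputable def r5 : WT := (.leaf (nat_lit 48141) [nat_lit 207, nat_lit 184, nat_lit 161, nat_lit 138, nat_lit 115, nat_lit 92, nat_lit 69, nat_lit 207, nat_lit 184, nat_lit 161, nat_lit 138, nat_lit 115, nat_lit 92, nat_lit 69, nat_lit 207, nat_lit 184, nat_lit 161, nat_lit 138, nat_lit 115, nat_lit 92, nat_lit 69, nat_lit 207, nat_lit 184, nat_lit 161, nat_lit 138, nat_lit 115, nat_lit 92, nat_lit 69, nat_lit 207, nat_lit 184, nat_lit 161, nat_lit 138, nat_lit 115, nat_lit 92, nat_lit 69, nat_lit 207, nat_lit 184, nat_lit 161, nat_lit 138, nat_lit 115, nat_lit 92, nat_lit 69, nat_lit 207, nat_lit 184, nat_lit 161, nat_lit 138, nat_lit 115, nat_lit 92, nat_lit 69, nat_lit 207, nat_lit 184, nat_lit 161, nat_lit 138, nat_lit 115, nat_lit 92, nat_lit 69, nat_lit 207, nat_lit 184, nat_lit 161, nat_lit 138, nat_lit 115, nat_lit 92])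
noncomputable def r6 : WT := (.leaf (nat_lit 47106) [nat_lit 92, nat_lit 115, nat_lit 138, nat_lit 161, nat_lit 207, nat_lit 46, nat_lit 69, nat_lit 92, nat_lit 115, nat_lit 138, nat_lit 161, nat_lit 207, nat_lit 46, nat_lit 69, nat_lit 92, nat_lit 115, nat_lit 138, nat_lit 161, nat_lit 207, nat_lit 46, nat_lit 69, nat_lit 92, nat_lit 115, nat_lit 138, nat_lit 161, nat_lit 207, nat_lit 46, nat_lit 69, nat_lit 92, nat_lit 115, nat_lit 138, nat_lit 161, nat_lit 207, nat_lit 46, nat_lit 69, nat_lit 92, nat_lit 115, nat_lit 138, nat_lit 161, nat_lit 207, nat_lit 46, nat_lit 69, nat_lit 92, nat_lit 115, nat_lit 138, nat_lit 161, nat_lit 207, nat_lit 46, nat_lit 69, nat_lit 92, nat_lit 115, nat_lit 138, nat_lit 161, nat_lit 207, nat_lit 46, nat_lit 69, nat_lit 92, nat_lit 115, nat_lit 138, nat_lit 161, nat_lit 207, nat_lit 46])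
noncomputable def r7 : WT := (.leaf (nat_lit 48128) [nat_lit 92, nat_lit 115, nat_lit 138, nat_lit 161, nat_lit 184, nat_lit 207, nat_lit 69, nat_lit 92, nat_lit 115, nat_lit 138, nat_lit 161, nat_lit 184, nat_lit 207, nat_lit 69, nat_lit 92, nat_lit 115, nat_lit 138, nat_lit 161, nat_lit 184, nat_lit 207, nat_lit 69, nat_lit 92, nat_lit 115, nat_lit 138, nat_lit 161, nat_lit 184, nat_lit 207, nat_lit 69, nat_lit 92, nat_lit 115, nat_lit 138, nat_lit 161, nat_lit 184, nat_lit 207, nat_lit 69, nat_lit 92, nat_lit 115, nat_lit 138, nat_lit 161, nat_lit 184, nat_lit 207, nat_lit 69, nat_lit 92, nat_lit 115, nat_lit 138, nat_lit 161, nat_lit 184, nat_lit 207, nat_lit 69, nat_lit 92, nat_lit 115, nat_lit 138, nat_lit 161, nat_lit 184, nat_lit 207, nat_lit 69, nat_lit 92, nat_lit 115, nat_lit 138, nat_lit 161, nat_lit 184, nat_lit 207])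
noncomputable def r8 : WT := (.node (nat_lit 9) (.leaf (nat_lit 19456) [nat_lit 138, nat_lit 69, nat_lit 138]) (.node (nat_lit 10) r4 (.node (nat_lit 11) r5 (.node (nat_lit 12) r6 r7))))
noncomputable def w1 : WT := (.node (nat_lit 2) (.node (nat_lit 1) (.leaf (nat_lit 1024) [nat_lit 69]) (.leaf (nat_lit 23552) [nat_lit 230, nat_lit 69, nat_lit 230])) (.node (nat_lit 5) (.node (nat_lit 3) (.leaf (nat_lit 21504) [nat_lit 184, nat_lit 69, nat_lit 184]) (.node (nat_lit 4) (.leaf (nat_lit 22528) [nat_lit 207, nat_lit 69, nat_lit 207]) (.leaf (nat_lit 20480) [nat_lit 161, nat_lit 69, nat_lit 161]))) (.node (nat_lit 7) (.node (nat_lit 6) (.leaf (nat_lit 18432) [nat_lit 115, nat_lit 69, nat_lit 115]) (.leaf (nat_lit 9218) [nat_lit 46, nat_lit 69, nat_lit 46, nat_lit 69, nat_lit 46])) (.node (nat_lit 8) (.leaf (nat_lit 17408) [nat_lit 92, nat_lit 69, nat_lit 92, nat_lit 69, nat_lit 92]) r8))))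
noncomputable def r9 : WT := (.leaf (nat_lit 48130) [nat_lit 115, nat_lit 138, nat_lit 161, nat_lit 184, nat_lit 207, nat_lit 69, nat_lit 92, nat_lit 115, nat_lit 138, nat_lit 161, nat_lit 184, nat_lit 207, nat_lit 69, nat_lit 92, nat_lit 115, nat_lit 138, nat_lit 161, nat_lit 184, nat_lit 207, nat_lit 69, nat_lit 92, nat_lit 115, nat_lit 138, nat_lit 161, nat_lit 184, nat_lit 207, nat_lit 69, nat_lit 92, nat_lit 115, nat_lit 138, nat_lit 161, nat_lit 184, nat_lit 207, nat_lit 69, nat_lit 92, nat_lit 115, nat_lit 138, nat_lit 161, nat_lit 184, nat_lit 207, nat_lit 69, nat_lit 92, nat_lit 115, nat_lit 138, nat_lit 161, nat_lit 184, nat_lit 207, nat_lit 69, nat_lit 92, nat_lit 115, nat_lit 138, nat_lit 161, nat_lit 184, nat_lit 207, nat_lit 69, nat_lit 92, nat_lit 115, nat_lit 138, nat_lit 161, nat_lit 184, nat_lit 207, nat_lit 69])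
noncomputable def r10 : WT := (.leaf (nat_lit 47108) [nat_lit 115, nat_lit 138, nat_lit 161, nat_lit 207, nat_lit 46, nat_lit 69, nat_lit 92, nat_lit 115, nat_lit 138, nat_lit 161, nat_lit 207, nat_lit 46, nat_lit 69, nat_lit 92, nat_lit 115, nat_lit 138, nat_lit 161, nat_lit 207, nat_lit 46, nat_lit 69, nat_lit 92, nat_lit 115, nat_lit 138, nat_lit 161, nat_lit 207, nat_lit 46, nat_lit 69, nat_lit 92, nat_lit 115, nat_lit 138, nat_lit 161, nat_lit 207, nat_lit 46, nat_lit 69, nat_lit 92, nat_lit 115, nat_lit 138, nat_lit 161, nat_lit 207, nat_lit 46, nat_lit 69, nat_lit 92, nat_lit 115, nat_lit 138, nat_lit 161, nat_lit 207, nat_lit 46, nat_lit 69, nat_lit 92, nat_lit 115, nat_lit 138, nat_lit 161, nat_lit 207, nat_lit 46, nat_lit 69, nat_lit 92, nat_lit 115, nat_lit 138, nat_lit 161, nat_lit 207, nat_lit 46, nat_lit 69])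
noncomputable def r11 : WT := (.leaf (nat_lit 47113) [nat_lit 69, nat_lit 46, nat_lit 207, nat_lit 161, nat_lit 138, nat_lit 115, nat_lit 92, nat_lit 69, nat_lit 46, nat_lit 207, nat_lit 161, nat_lit 138, nat_lit 115, nat_lit 92, nat_lit 69, nat_lit 46, nat_lit 207, nat_lit 161, nat_lit 138, nat_lit 115, nat_lit 92, nat_lit 69, nat_lit 46, nat_lit 207, nat_lit 161, nat_lit 138, nat_lit 115, nat_lit 92, nat_lit 69, nat_lit 46, nat_lit 207, nat_lit 161, nat_lit 138, nat_lit 115, nat_lit 92, nat_lit 69, nat_lit 46, nat_lit 207, nat_lit 161, nat_lit 138, nat_lit 115, nat_lit 92, nat_lit 69, nat_lit 46, nat_lit 207, nat_lit 161, nat_lit 138, nat_lit 115, nat_lit 92, nat_lit 69, nat_lit 46, nat_lit 207, nat_lit 161, nat_lit 138, nat_lit 115, nat_lit 92, nat_lit 69, nat_lit 46, nat_lit 207, nat_lit 161, nat_lit 138, nat_lit 115])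
noncomputable def r12 : WT := (.leaf (nat_lit 48139) [nat_lit 69, nat_lit 207, nat_lit 184, nat_lit 161, nat_lit 138, nat_lit 115, nat_lit 92, nat_lit 69, nat_lit 207, nat_lit 184, nat_lit 161, nat_lit 138, nat_lit 115, nat_lit 92, nat_lit 69, nat_lit 207, nat_lit 184, nat_lit 161, nat_lit 138, nat_lit 115, nat_lit 92, nat_lit 69, nat_lit 207, nat_lit 184, nat_lit 161, nat_lit 138, nat_lit 115, nat_lit 92, nat_lit 69, nat_lit 207, nat_lit 184, nat_lit 161, nat_lit 138, nat_lit 115, nat_lit 92, nat_lit 69, nat_lit 207, nat_lit 184, nat_lit 161, nat_lit 138, nat_lit 115, nat_lit 92, nat_lit 69, nat_lit 207, nat_lit 184, nat_lit 161, nat_lit 138, nat_lit 115, nat_lit 92, nat_lit 69, nat_lit 207, nat_lit 184, nat_lit 161, nat_lit 138, nat_lit 115, nat_lit 92, nat_lit 69, nat_lit 207, nat_lit 184, nat_lit 161, nat_lit 138, nat_lit 115])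
noncomputable def r13 : WT := (.node (nat_lit 9) (.leaf (nat_lit 17410) [nat_lit 69, nat_lit 92, nat_lit 69, nat_lit 92, nat_lit 69]) (.node (nat_lit 10) r9 (.node (nat_lit 11) r10 (.node (nat_lit 12) r11 r12))))
noncomputable def w2 : WT := (.node (nat_lit 2) (.node (nat_lit 1) (.leaf (nat_lit 2048) [nat_lit 92]) (.leaf (nat_lit 29696) [nat_lit 230, nat_lit 92, nat_lit 230])) (.node (nat_lit 5) (.node (nat_lit 3) (.leaf (nat_lit 27648) [nat_lit 184, nat_lit 92, nat_lit 184]) (.node (nat_lit 4) (.leaf (nat_lit 28672) [nat_lit 207, nat_lit 92, nat_lit 207]) (.leaf (nat_lit 26624) [nat_lit 161, nat_lit 92, nat_lit 161]))) (.node (nat_lit 7) (.node (nat_lit 6) (.leaf (nat_lit 10242) [nat_lit 46, nat_lit 92, nat_lit 46]) (.leaf (nat_lit 25600) [nat_lit 138, nat_lit 92, nat_lit 138])) (.node (nat_lit 8) (.leaf (nat_lit 24576) [nat_lit 115, nat_lit 92, nat_lit 115, nat_lit 92, nat_lit 115]) r13))))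
noncomputable def r14 : WT := (.node (nat_lit 6) (.leaf (nat_lit 11266) [nat_lit 46, nat_lit 115, nat_lit 46]) (.leaf (nat_lit 30720) [nat_lit 138, nat_lit 115, nat_lit 138, nat_lit 115, nat_lit 138]))
noncomputable def r15 : WT := (.leaf (nat_lit 47110) [nat_lit 138, nat_lit 161, nat_lit 207, nat_lit 46, nat_lit 69, nat_lit 92, nat_lit 115, nat_lit 138, nat_lit 161, nat_lit 207, nat_lit 46, nat_lit 69, nat_lit 92, nat_lit 115, nat_lit 138, nat_lit 161, nat_lit 207, nat_lit 46, nat_lit 69, nat_lit 92, nat_lit 115, nat_lit 138, nat_lit 161, nat_lit 207, nat_lit 46, nat_lit 69, nat_lit 92, nat_lit 115, nat_lit 138, nat_lit 161, nat_lit 207, nat_lit 46, nat_lit 69, nat_lit 92, nat_lit 115, nat_lit 138, nat_lit 161, nat_lit 207, nat_lit 46, nat_lit 69, nat_lit 92, nat_lit 115, nat_lit 138, nat_lit 161, nat_lit 207, nat_lit 46, nat_lit 69, nat_lit 92, nat_lit 115, nat_lit 138, nat_lit 161, nat_lit 207, nat_lit 46, nat_lit 69, nat_lit 92, nat_lit 115, nat_lit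 138, nat_lit 161, nat_lit 207, nat_lit 46, nat_lit 69, nat_lit 92])
noncomputable def r16 : WT := (.leaf (nat_lit 47111) [nat_lit 92, nat_lit 69, nat_lit 46, nat_lit 207, nat_lit 161, nat_lit 138, nat_lit 115, nat_lit 92, nat_lit 69, nat_lit 46, nat_lit 207, nat_lit 161, nat_lit 138, nat_lit 115, nat_lit 92, nat_lit 69, nat_lit 46, nat_lit 207, nat_lit 161, nat_lit 138, nat_lit 115, nat_lit 92, nat_lit 69, nat_lit 46, nat_lit 207, nat_lit 161, nat_lit 138, nat_lit 115, nat_lit 92, nat_lit 69, nat_lit 46, nat_lit 207, nat_lit 161, nat_lit 138, nat_lit 115, nat_lit 92, nat_lit 69, nat_lit 46, nat_lit 207, nat_lit 161, nat_lit 138, nat_lit 115, nat_lit 92, nat_lit 69, nat_lit 46, nat_lit 207, nat_lit 161, nat_lit 138, nat_lit 115, nat_lit 92, nat_lit 69, nat_lit 46, nat_lit 207, nat_lit 161, nat_lit 138, nat_lit 115, nat_lit 92, nat_lit 69, nat_lit 46, nat_lit 207, nat_lit 161, nat_lit 138])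
noncomputable def r17 : WT := (.leaf (nat_lit 48132) [nat_lit 138, nat_lit 161, nat_lit 184, nat_lit 207, nat_lit 69, nat_lit 92, nat_lit 115, nat_lit 138, nat_lit 161, nat_lit 184, nat_lit 207, nat_lit 69, nat_lit 92, nat_lit 115, nat_lit 138, nat_lit 161, nat_lit 184, nat_lit 207, nat_lit 69, nat_lit 92, nat_lit 115, nat_lit 138, nat_lit 161, nat_lit 184, nat_lit 207, nat_lit 69, nat_lit 92, nat_lit 115, nat_lit 138, nat_lit 161, nat_lit 184, nat_lit 207, nat_lit 69, nat_lit 92, nat_lit 115, nat_lit 138, nat_lit 161, nat_lit 184, nat_lit 207, nat_lit 69, nat_lit 92, nat_lit 115, nat_lit 138, nat_lit 161, nat_lit 184, nat_lit 207, nat_lit 69, nat_lit 92, nat_lit 115, nat_lit 138, nat_lit 161, nat_lit 184, nat_lit 207, nat_lit 69, nat_lit 92, nat_lit 115, nat_lit 138, nat_lit 161, nat_lit 184, nat_lit 207, nat_lit 69, nat_lit 92])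
noncomputable def r18 : WT := (.leaf (nat_lit 48137) [nat_lit 92, nat_lit 69, nat_lit 207, nat_lit 184, nat_lit 161, nat_lit 138, nat_lit 115, nat_lit 92, nat_lit 69, nat_lit 207, nat_lit 184, nat_lit 161, nat_lit 138, nat_lit 115, nat_lit 92, nat_lit 69, nat_lit 207, nat_lit 184, nat_lit 161, nat_lit 138, nat_lit 115, nat_lit 92, nat_lit 69, nat_lit 207, nat_lit 184, nat_lit 161, nat_lit 138, nat_lit 115, nat_lit 92, nat_lit 69, nat_lit 207, nat_lit 184, nat_lit 161, nat_lit 138, nat_lit 115, nat_lit 92, nat_lit 69, nat_lit 207, nat_lit 184, nat_lit 161, nat_lit 138, nat_lit 115, nat_lit 92, nat_lit 69, nat_lit 207, nat_lit 184, nat_lit 161, nat_lit 138, nat_lit 115, nat_lit 92, nat_lit 69, nat_lit 207, nat_lit 184, nat_lit 161, nat_lit 138, nat_lit 115, nat_lit 92, nat_lit 69, nat_lit 207, nat_lit 184, nat_lit 161, nat_lit 138])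
noncomputable def r19 : WT := (.node (nat_lit 8) (.leaf (nat_lit 24578) [nat_lit 92, nat_lit 115, nat_lit 92, nat_lit 115, nat_lit 92]) (.node (nat_lit 9) (.leaf (nat_lit 33792) [nat_lit 207, nat_lit 115, nat_lit 207, nat_lit 115, nat_lit 207]) (.node (nat_lit 11) (.node (nat_lit 10) r15 r16) (.node (nat_lit 12) r17 r18))))
noncomputable def w3 : WT := (.node (nat_lit 1) (.leaf (nat_lit 3072) [nat_lit 115]) (.node (nat_lit 3) (.node (nat_lit 2) (.leaf (nat_lit 34816) [nat_lit 230, nat_lit 115, nat_lit 230]) (.leaf (nat_lit 32768) [nat_lit 184, nat_lit 115, nat_lit 184])) (.node (nat_lit 5) (.node (nat_lit 4) (.leaf (nat_lit 31744) [nat_lit 161, nat_lit 115, nat_lit 161]) (.leaf (nat_lit 18434) [nat_lit 69, nat_lit 115, nat_lit 69])) (.node (nat_lit 7) r14 r19))))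
noncomputable def r20 : WT := (.leaf (nat_lit 47109) [nat_lit 115, nat_lit 92, nat_lit 69, nat_lit 46, nat_lit 207, nat_lit 161, nat_lit 138, nat_lit 115, nat_lit 92, nat_lit 69, nat_lit 46, nat_lit 207, nat_lit 161, nat_lit 138, nat_lit 115, nat_lit 92, nat_lit 69, nat_lit 46, nat_lit 207, nat_lit 161, nat_lit 138, nat_lit 115, nat_lit 92, nat_lit 69, nat_lit 46, nat_lit 207, nat_lit 161, nat_lit 138, nat_lit 115, nat_lit 92, nat_lit 69, nat_lit 46, nat_lit 207, nat_lit 161, nat_lit 138, nat_lit 115, nat_lit 92, nat_lit 69, nat_lit 46, nat_lit 207, nat_lit 161, nat_lit 138, nat_lit 115, nat_lit 92, nat_lit 69, nat_lit 46, nat_lit 207, nat_lit 161, nat_lit 138, nat_lit 115, nat_lit 92, nat_lit 69, nat_lit 46, nat_lit 207, nat_lit 161, nat_lit 138, nat_lit 115, nat_lit 92, nat_lit 69, nat_lit 46, nat_lit 207, nat_lit 161])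
noncomputable def r21 : WT := (.leaf (nat_lit 47112) [nat_lit 161, nat_lit 207, nat_lit 46, nat_lit 69, nat_lit 92, nat_lit 115, nat_lit 138, nat_lit 161, nat_lit 207, nat_lit 46, nat_lit 69, nat_lit 92, nat_lit 115, nat_lit 138, nat_lit 161, nat_lit 207, nat_lit 46, nat_lit 69, nat_lit 92, nat_lit 115, nat_lit 138, nat_lit 161, nat_lit 207, nat_lit 46, nat_lit 69, nat_lit 92, nat_lit 115, nat_lit 138, nat_lit 161, nat_lit 207, nat_lit 46, nat_lit 69, nat_lit 92, nat_lit 115, nat_lit 138, nat_lit 161, nat_lit 207, nat_lit 46, nat_lit 69, nat_lit 92, nat_lit 115, nat_lit 138, nat_lit 161, nat_lit 207, nat_lit 46, nat_lit 69, nat_lit 92, nat_lit 115, nat_lit 138, nat_lit 161, nat_lit 207, nat_lit 46, nat_lit 69, nat_lit 92, nat_lit 115, nat_lit 138, nat_lit 161, nat_lit 207, nat_lit 46, nat_lit 69, nat_lit 92, nat_lit 115])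
noncomputable def r22 : WT := (.leaf (nat_lit 48134) [nat_lit 161, nat_lit 184, nat_lit 207, nat_lit 69, nat_lit 92, nat_lit 115, nat_lit 138, nat_lit 161, nat_lit 184, nat_lit 207, nat_lit 69, nat_lit 92, nat_lit 115, nat_lit 138, nat_lit 161, nat_lit 184, nat_lit 207, nat_lit 69, nat_lit 92, nat_lit 115, nat_lit 138, nat_lit 161, nat_lit 184, nat_lit 207, nat_lit 69, nat_lit 92, nat_lit 115, nat_lit 138, nat_lit 161, nat_lit 184, nat_lit 207, nat_lit 69, nat_lit 92, nat_lit 115, nat_lit 138, nat_lit 161, nat_lit 184, nat_lit 207, nat_lit 69, nat_lit 92, nat_lit 115, nat_lit 138, nat_lit 161, nat_lit 184, nat_lit 207, nat_lit 69, nat_lit 92, nat_lit 115, nat_lit 138, nat_lit 161, nat_lit 184, nat_lit 207, nat_lit 69, nat_lit 92, nat_lit 115, nat_lit 138, nat_lit 161, nat_lit 184, nat_lit 207, nat_lit 69, nat_lit 92, nat_lit 115])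
noncomputable def r23 : WT := (.leaf (nat_lit 48135) [nat_lit 115, nat_lit 92, nat_lit 69, nat_lit 207, nat_lit 184, nat_lit 161, nat_lit 138, nat_lit 115, nat_lit 92, nat_lit 69, nat_lit 207, nat_lit 184, nat_lit 161, nat_lit 138, nat_lit 115, nat_lit 92, nat_lit 69, nat_lit 207, nat_lit 184, nat_lit 161, nat_lit 138, nat_lit 115, nat_lit 92, nat_lit 69, nat_lit 207, nat_lit 184, nat_lit 161, nat_lit 138, nat_lit 115, nat_lit 92, nat_lit 69, nat_lit 207, nat_lit 184, nat_lit 161, nat_lit 138, nat_lit 115, nat_lit 92, nat_lit 69, nat_lit 207, nat_lit 184, nat_lit 161, nat_lit 138, nat_lit 115, nat_lit 92, nat_lit 69, nat_lit 207, nat_lit 184, nat_lit 161, nat_lit 138, nat_lit 115, nat_lit 92, nat_lit 69, nat_lit 207, nat_lit 184, nat_lit 161, nat_lit 138, nat_lit 115, nat_lit 92, nat_lit 69, nat_lit 207, nat_lit 184, nat_lit 161])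
noncomputable def r24 : WT := (.node (nat_lit 9) (.leaf (nat_lit 30722) [nat_lit 115, nat_lit 138, nat_lit 115, nat_lit 138, nat_lit 115]) (.node (nat_lit 10) r20 (.node (nat_lit 11) r21 (.node (nat_lit 12) r22 r23))))
noncomputable def w4 : WT := (.node (nat_lit 2) (.node (nat_lit 1) (.leaf (nat_lit 4096) [nat_lit 138]) (.leaf (nat_lit 38912) [nat_lit 230, nat_lit 138, nat_lit 230])) (.node (nat_lit 5) (.node (nat_lit 3) (.leaf (nat_lit 36864) [nat_lit 184, nat_lit 138, nat_lit 184]) (.node (nat_lit 4) (.leaf (nat_lit 37888) [nat_lit 207, nat_lit 138, nat_lit 207]) (.leaf (nat_lit 19458) [nat_lit 69, nat_lit 138, nat_lit 69]))) (.node (nat_lit 7) (.node (nat_lit 6) (.leaf (nat_lit 25602) [nat_lit 92, nat_lit 138, nat_lit 92]) (.leaf (nat_lit 35840) [nat_lit 161, nat_lit 138, nat_lit 161, nat_lit 138, nat_lit 161])) (.node (nat_lit 8) (.leaf (nat_lit 12290) [nat_lit 46, nat_lit 138, nat_lit 46]) r24))))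
noncomputable def r25 : WT := (.leaf (nat_lit 48133) [nat_lit 138, nat_lit 115, nat_lit 92, nat_lit 69, nat_lit 207, nat_lit 184, nat_lit 161, nat_lit 138, nat_lit 115, nat_lit 92, nat_lit 69, nat_lit 207, nat_lit 184, nat_lit 161, nat_lit 138, nat_lit 115, nat_lit 92, nat_lit 69, nat_lit 207, nat_lit 184, nat_lit 161, nat_lit 138, nat_lit 115, nat_lit 92, nat_lit 69, nat_lit 207, nat_lit 184, nat_lit 161, nat_lit 138, nat_lit 115, nat_lit 92, nat_lit 69, nat_lit 207, nat_lit 184, nat_lit 161, nat_lit 138, nat_lit 115, nat_lit 92, nat_lit 69, nat_lit 207, nat_lit 184, nat_lit 161, nat_lit 138, nat_lit 115, nat_lit 92, nat_lit 69, nat_lit 207, nat_lit 184, nat_lit 161, nat_lit 138, nat_lit 115, nat_lit 92, nat_lit 69, nat_lit 207, nat_lit 184, nat_lit 161, nat_lit 138, nat_lit 115, nat_lit 92, nat_lit 69, nat_lit 207, nat_lit 184])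
noncomputable def r26 : WT := (.leaf (nat_lit 47114) [nat_lit 207, nat_lit 46, nat_lit 69, nat_lit 92, nat_lit 115, nat_lit 138, nat_lit 161, nat_lit 207, nat_lit 46, nat_lit 69, nat_lit 92, nat_lit 115, nat_lit 138, nat_lit 161, nat_lit 207, nat_lit 46, nat_lit 69, nat_lit 92, nat_lit 115, nat_lit 138, nat_lit 161, nat_lit 207, nat_lit 46, nat_lit 69, nat_lit 92, nat_lit 115, nat_lit 138, nat_lit 161, nat_lit 207, nat_lit 46, nat_lit 69, nat_lit 92, nat_lit 115, nat_lit 138, nat_lit 161, nat_lit 207, nat_lit 46, nat_lit 69, nat_lit 92, nat_lit 115, nat_lit 138, nat_lit 161, nat_lit 207, nat_lit 46, nat_lit 69, nat_lit 92, nat_lit 115, nat_lit 138, nat_lit 161, nat_lit 207, nat_lit 46, nat_lit 69, nat_lit 92, nat_lit 115, nat_lit 138, nat_lit 161, nat_lit 207, nat_lit 46, nat_lit 69, nat_lit 92, nat_lit 115, nat_lit 138])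
noncomputable def r27 : WT := (.leaf (nat_lit 47107) [nat_lit 138, nat_lit 115, nat_lit 92, nat_lit 69, nat_lit 46, nat_lit 207, nat_lit 161, nat_lit 138, nat_lit 115, nat_lit 92, nat_lit 69, nat_lit 46, nat_lit 207, nat_lit 161, nat_lit 138, nat_lit 115, nat_lit 92, nat_lit 69, nat_lit 46, nat_lit 207, nat_lit 161, nat_lit 138, nat_lit 115, nat_lit 92, nat_lit 69, nat_lit 46, nat_lit 207, nat_lit 161, nat_lit 138, nat_lit 115, nat_lit 92, nat_lit 69, nat_lit 46, nat_lit 207, nat_lit 161, nat_lit 138, nat_lit 115, nat_lit 92, nat_lit 69, nat_lit 46, nat_lit 207, nat_lit 161, nat_lit 138, nat_lit 115, nat_lit 92, nat_lit 69, nat_lit 46, nat_lit 207, nat_lit 161, nat_lit 138, nat_lit 115, nat_lit 92, nat_lit 69, nat_lit 46, nat_lit 207, nat_lit 161, nat_lit 138, nat_lit 115, nat_lit 92, nat_lit 69, nat_lit 46, nat_lit 207])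
noncomputable def r28 : WT := (.leaf (nat_lit 48136) [nat_lit 184, nat_lit 207, nat_lit 69, nat_lit 92, nat_lit 115, nat_lit 138, nat_lit 161, nat_lit 184, nat_lit 207, nat_lit 69, nat_lit 92, nat_lit 115, nat_lit 138, nat_lit 161, nat_lit 184, nat_lit 207, nat_lit 69, nat_lit 92, nat_lit 115, nat_lit 138, nat_lit 161, nat_lit 184, nat_lit 207, nat_lit 69, nat_lit 92, nat_lit 115, nat_lit 138, nat_lit 161, nat_lit 184, nat_lit 207, nat_lit 69, nat_lit 92, nat_lit 115, nat_lit 138, nat_lit 161, nat_lit 184, nat_lit 207, nat_lit 69, nat_lit 92, nat_lit 115, nat_lit 138, nat_lit 161, nat_lit 184, nat_lit 207, nat_lit 69, nat_lit 92, nat_lit 115, nat_lit 138, nat_lit 161, nat_lit 184, nat_lit 207, nat_lit 69, nat_lit 92, nat_lit 115, nat_lit 138, nat_lit 161, nat_lit 184, nat_lit 207, nat_lit 69, nat_lit 92, nat_lit 115, nat_lit 138])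
noncomputable def r29 : WT := (.node (nat_lit 12) r27 r28)
noncomputable def r30 : WT := (.leaf (nat_lit 46090) [nat_lit 115, nat_lit 207, nat_lit 230, nat_lit 115, nat_lit 92, nat_lit 69, nat_lit 115, nat_lit 138, nat_lit 161, nat_lit 115, nat_lit 207, nat_lit 230, nat_lit 115, nat_lit 92, nat_lit 69, nat_lit 115, nat_lit 138, nat_lit 161, nat_lit 115, nat_lit 207, nat_lit 230, nat_lit 115, nat_lit 92, nat_lit 69, nat_lit 115, nat_lit 138, nat_lit 161, nat_lit 115, nat_lit 207, nat_lit 230, nat_lit 115, nat_lit 92, nat_lit 69, nat_lit 115, nat_lit 138, nat_lit 161, nat_lit 115, nat_lit 207, nat_lit 230, nat_lit 115, nat_lit 92, nat_lit 69, nat_lit 115, nat_lit 138, nat_lit 161, nat_lit 115, nat_lit 207, nat_lit 230, nat_lit 115, nat_lit 92, nat_lit 69, nat_lit 115, nat_lit 138, nat_lit 161, nat_lit 115, nat_lit 207, nat_lit 230, nat_lit 115, nat_lit 92, nat_lit 69, nat_lit 115, nat_lit 138, nat_lit 161, nat_lit 115, nat_lit 207, nat_lit 230, nat_lit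 115, nat_lit 92, nat_lit 69, nat_lit 115, nat_lit 138, nat_lit 161, nat_lit 115, nat_lit 207, nat_lit 230, nat_lit 115, nat_lit 92, nat_lit 69, nat_lit 115, nat_lit 138, nat_lit 161, nat_lit 115, nat_lit 207, nat_lit 230, nat_lit 115, nat_lit 92, nat_lit 69, nat_lit 115, nat_lit 138])
noncomputable def r31 : WT := (.leaf (nat_lit 46087) [nat_lit 138, nat_lit 115, nat_lit 69, nat_lit 92, nat_lit 115, nat_lit 230, nat_lit 207, nat_lit 115, nat_lit 161, nat_lit 138, nat_lit 115, nat_lit 69, nat_lit 92, nat_lit 115, nat_lit 230, nat_lit 207, nat_lit 115, nat_lit 161, nat_lit 138, nat_lit 115, nat_lit 69, nat_lit 92, nat_lit 115, nat_lit 230, nat_lit 207, nat_lit 115, nat_lit 161, nat_lit 138, nat_lit 115, nat_lit 69, nat_lit 92, nat_lit 115, nat_lit 230, nat_lit 207, nat_lit 115, nat_lit 161, nat_lit 138, nat_lit 115, nat_lit 69, nat_lit 92, nat_lit 115, nat_lit 230, nat_lit 207, nat_lit 115, nat_lit 161, nat_lit 138, nat_lit 115, nat_lit 69, nat_lit 92,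 nat_lit 115, nat_lit 230, nat_lit 207, nat_lit 115, nat_lit 161, nat_lit 138, nat_lit 115, nat_lit 69, nat_lit 92, nat_lit 115, nat_lit 230, nat_lit 207, nat_lit 115, nat_lit 161, nat_lit 138, nat_lit 115, nat_lit 69, nat_lit 92, nat_lit 115, nat_lit 230, nat_lit 207, nat_lit 115, nat_lit 161, nat_lit 138, nat_lit 115, nat_lit 69, nat_lit 92, nat_lit 115, nat_lit 230, nat_lit 207, nat_lit 115, nat_lit 161, nat_lit 138, nat_lit 115, nat_lit 69, nat_lit 92, nat_lit 115, nat_lit 230, nat_lit 207, nat_lit 115])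
noncomputable def r32 : WT := (.node (nat_lit 14) r30 r31)
noncomputable def r33 : WT := (.node (nat_lit 8) (.leaf (nat_lit 13314) [nat_lit 46, nat_lit 161, nat_lit 46]) (.node (nat_lit 9) (.leaf (nat_lit 35842) [nat_lit 138, nat_lit 161, nat_lit 138, nat_lit 161, nat_lit 138]) (.node (nat_lit 11) (.node (nat_lit 10) r25 r26) (.node (nat_lit 13) r29 r32))))
noncomputable def w5 : WT := (.node (nat_lit 1) (.leaf (nat_lit 5120) [nat_lit 161]) (.node (nat_lit 4) (.node (nat_lit 2) (.leaf (nat_lit 41984) [nat_lit 230, nat_lit 161, nat_lit 230]) (.node (nat_lit 3) (.leaf (nat_lit 40960) [nat_lit 207, nat_lit 161, nat_lit 207]) (.leaf (nat_lit 39936) [nat_lit 184, nat_lit 161, nat_lit 184, nat_lit 161, nat_lit 184]))) (.node (nat_lit 6) (.node (nat_lit 5) (.leaf (nat_lit 31746) [nat_lit 115, nat_lit 161, nat_lit 115]) (.leaf (nat_lit 20482) [nat_lit 69, nat_lit 161, nat_lit 69])) (.node (nat_lit 7) (.leaf (nat_lit 26626) [nat_lit 92, nat_lit 161, nat_lit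 92]) r33))))
noncomputable def r34 : WT := (.leaf (nat_lit 48138) [nat_lit 207, nat_lit 69, nat_lit 92, nat_lit 115, nat_lit 138, nat_lit 161, nat_lit 184, nat_lit 207, nat_lit 69, nat_lit 92, nat_lit 115, nat_lit 138, nat_lit 161, nat_lit 184, nat_lit 207, nat_lit 69, nat_lit 92, nat_lit 115, nat_lit 138, nat_lit 161, nat_lit 184, nat_lit 207, nat_lit 69, nat_lit 92, nat_lit 115, nat_lit 138, nat_lit 161, nat_lit 184, nat_lit 207, nat_lit 69, nat_lit 92, nat_lit 115, nat_lit 138, nat_lit 161, nat_lit 184, nat_lit 207, nat_lit 69, nat_lit 92, nat_lit 115, nat_lit 138, nat_lit 161, nat_lit 184, nat_lit 207, nat_lit 69, nat_lit 92, nat_lit 115, nat_lit 138, nat_lit 161, nat_lit 184, nat_lit 207, nat_lit 69, nat_lit 92, nat_lit 115, nat_lit 138, nat_lit 161, nat_lit 184, nat_lit 207, nat_lit 69, nat_lit 92, nat_lit 115, nat_lit 138, nat_lit 161])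
noncomputable def r35 : WT := (.leaf (nat_lit 48131) [nat_lit 161, nat_lit 138, nat_lit 115, nat_lit 92, nat_lit 69, nat_lit 207, nat_lit 184, nat_lit 161, nat_lit 138, nat_lit 115, nat_lit 92, nat_lit 69, nat_lit 207, nat_lit 184, nat_lit 161, nat_lit 138, nat_lit 115, nat_lit 92, nat_lit 69, nat_lit 207, nat_lit 184, nat_lit 161, nat_lit 138, nat_lit 115, nat_lit 92, nat_lit 69, nat_lit 207, nat_lit 184, nat_lit 161, nat_lit 138, nat_lit 115, nat_lit 92, nat_lit 69, nat_lit 207, nat_lit 184, nat_lit 161, nat_lit 138, nat_lit 115, nat_lit 92, nat_lit 69, nat_lit 207, nat_lit 184, nat_lit 161, nat_lit 138, nat_lit 115, nat_lit 92, nat_lit 69, nat_lit 207, nat_lit 184, nat_lit 161, nat_lit 138, nat_lit 115, nat_lit 92, nat_lit 69, nat_lit 207, nat_lit 184, nat_lit 161, nat_lit 138, nat_lit 115, nat_lit 92, nat_lit 69, nat_lit 207])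
noncomputable def r36 : WT := (.node (nat_lit 8) (.leaf (nat_lit 14338) [nat_lit 46, nat_lit 184, nat_lit 46]) (.node (nat_lit 9) (.leaf (nat_lit 39938) [nat_lit 161, nat_lit 184, nat_lit 161, nat_lit 184, nat_lit 161]) (.node (nat_lit 10) r34 r35)))
noncomputable def w6 : WT := (.node (nat_lit 1) (.leaf (nat_lit 6144) [nat_lit 184]) (.node (nat_lit 4) (.node (nat_lit 2) (.leaf (nat_lit 44032) [nat_lit 230, nat_lit 184, nat_lit 230]) (.node (nat_lit 3) (.leaf (nat_lit 43008) [nat_lit 207, nat_lit 184, nat_lit 207]) (.leaf (nat_lit 21506) [nat_lit 69, nat_lit 184, nat_lit 69]))) (.node (nat_lit 6) (.node (nat_lit 5) (.leaf (nat_lit 32770) [nat_lit 115, nat_lit 184, nat_lit 115]) (.leaf (nat_lit 27650) [nat_lit 92, nat_lit 184, nat_lit 92])) (.node (nat_lit 7) (.leaf (nat_lit 36866) [nat_lit 138, nat_lit 184, nat_lit 138]) r36))))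
noncomputable def r37 : WT := (.leaf (nat_lit 46083) [nat_lit 115, nat_lit 161, nat_lit 138, nat_lit 115, nat_lit 69, nat_lit 92, nat_lit 115, nat_lit 230, nat_lit 207, nat_lit 115, nat_lit 161, nat_lit 138, nat_lit 115, nat_lit 69, nat_lit 92, nat_lit 115, nat_lit 230, nat_lit 207, nat_lit 115, nat_lit 161, nat_lit 138, nat_lit 115, nat_lit 69, nat_lit 92, nat_lit 115, nat_lit 230, nat_lit 207, nat_lit 115, nat_lit 161, nat_lit 138, nat_lit 115, nat_lit 69, nat_lit 92, nat_lit 115, nat_lit 230, nat_lit 207, nat_lit 115, nat_lit 161, nat_lit 138, nat_lit 115, nat_lit 69, nat_lit 92, nat_lit 115, nat_lit 230, nat_lit 207, nat_lit 115, nat_lit 161, nat_lit 138, nat_lit 115, nat_lit 69, nat_lit 92, nat_lit 115, nat_lit 230, nat_lit 207, nat_lit 115, nat_lit 161, nat_lit 138, nat_lit 115, nat_lit 69, nat_lit 92, nat_lit 115, nat_lit 230, nat_lit 207, nat_lit 115, nat_lit 161, nat_lit 138, nat_lit 115, nat_lit 69, nat_lit 92, nat_lit 115, nat_lit 230, nat_lit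 207, nat_lit 115, nat_lit 161, nat_lit 138, nat_lit 115, nat_lit 69, nat_lit 92, nat_lit 115, nat_lit 230, nat_lit 207, nat_lit 115, nat_lit 161, nat_lit 138, nat_lit 115, nat_lit 69, nat_lit 92, nat_lit 115, nat_lit 230])
noncomputable def r38 : WT := (.leaf (nat_lit 48140) [nat_lit 69, nat_lit 92, nat_lit 115, nat_lit 138, nat_lit 161, nat_lit 184, nat_lit 207, nat_lit 69, nat_lit 92, nat_lit 115, nat_lit 138, nat_lit 161, nat_lit 184, nat_lit 207, nat_lit 69, nat_lit 92, nat_lit 115, nat_lit 138, nat_lit 161, nat_lit 184, nat_lit 207, nat_lit 69, nat_lit 92, nat_lit 115, nat_lit 138, nat_lit 161, nat_lit 184, nat_lit 207, nat_lit 69, nat_lit 92, nat_lit 115, nat_lit 138, nat_lit 161, nat_lit 184, nat_lit 207, nat_lit 69, nat_lit 92, nat_lit 115, nat_lit 138, nat_lit 161, nat_lit 184, nat_lit 207, nat_lit 69, nat_lit 92, nat_lit 115, nat_lit 138, nat_lit 161, nat_lit 184, nat_lit 207, nat_lit 69, nat_lit 92, nat_lit 115, nat_lit 138, nat_lit 161,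 nat_lit 184, nat_lit 207, nat_lit 69, nat_lit 92, nat_lit 115, nat_lit 138, nat_lit 161, nat_lit 184])
noncomputable def r39 : WT := (.leaf (nat_lit 47105) [nat_lit 161, nat_lit 138, nat_lit 115, nat_lit 92, nat_lit 69, nat_lit 46, nat_lit 207, nat_lit 161, nat_lit 138, nat_lit 115, nat_lit 92, nat_lit 69, nat_lit 46, nat_lit 207, nat_lit 161, nat_lit 138, nat_lit 115, nat_lit 92, nat_lit 69, nat_lit 46, nat_lit 207, nat_lit 161, nat_lit 138, nat_lit 115, nat_lit 92, nat_lit 69, nat_lit 46, nat_lit 207, nat_lit 161, nat_lit 138, nat_lit 115, nat_lit 92, nat_lit 69, nat_lit 46, nat_lit 207, nat_lit 161, nat_lit 138, nat_lit 115, nat_lit 92, nat_lit 69, nat_lit 46, nat_lit 207, nat_lit 161, nat_lit 138, nat_lit 115, nat_lit 92, nat_lit 69, nat_lit 46, nat_lit 207, nat_lit 161, nat_lit 138, nat_lit 115, nat_lit 92, nat_lit 69, nat_lit 46, nat_lit 207, nat_lit 161, nat_lit 138, nat_lit 115, nat_lit 92, nat_lit 69, nat_lit 46])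
noncomputable def r40 : WT := (.leaf (nat_lit 48129) [nat_lit 184, nat_lit 161, nat_lit 138, nat_lit 115, nat_lit 92, nat_lit 69, nat_lit 207, nat_lit 184, nat_lit 161, nat_lit 138, nat_lit 115, nat_lit 92, nat_lit 69, nat_lit 207, nat_lit 184, nat_lit 161, nat_lit 138, nat_lit 115, nat_lit 92, nat_lit 69, nat_lit 207, nat_lit 184, nat_lit 161, nat_lit 138, nat_lit 115, nat_lit 92, nat_lit 69, nat_lit 207, nat_lit 184, nat_lit 161, nat_lit 138, nat_lit 115, nat_lit 92, nat_lit 69, nat_lit 207, nat_lit 184, nat_lit 161, nat_lit 138, nat_lit 115, nat_lit 92, nat_lit 69, nat_lit 207, nat_lit 184, nat_lit 161, nat_lit 138, nat_lit 115, nat_lit 92, nat_lit 69, nat_lit 207, nat_lit 184, nat_lit 161, nat_lit 138, nat_lit 115, nat_lit 92, nat_lit 69, nat_lit 207, nat_lit 184, nat_lit 161, nat_lit 138, nat_lit 115, nat_lit 92, nat_lit 69])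
noncomputable def r41 : WT := (.node (nat_lit 12) r39 r40)
noncomputable def r42 : WT := (.node (nat_lit 8) (.leaf (nat_lit 15362) [nat_lit 46, nat_lit 207, nat_lit 46]) (.node (nat_lit 9) (.leaf (nat_lit 45056) [nat_lit 230, nat_lit 207, nat_lit 230, nat_lit 207, nat_lit 230]) (.node (nat_lit 10) r37 (.node (nat_lit 11) r38 r41))))
noncomputable def w7 : WT := (.node (nat_lit 1) (.leaf (nat_lit 7168) [nat_lit 207]) (.node (nat_lit 4) (.node (nat_lit 2) (.leaf (nat_lit 43010) [nat_lit 184, nat_lit 207, nat_lit 184]) (.node (nat_lit 3) (.leaf (nat_lit 40962) [nat_lit 161, nat_lit 207, nat_lit 161]) (.leaf (nat_lit 22530) [nat_lit 69, nat_lit 207, nat_lit 69]))) (.node (nat_lit 6) (.node (nat_lit 5) (.leaf (nat_lit 28674) [nat_lit 92, nat_lit 207, nat_lit 92]) (.leaf (nat_lit 37890) [nat_lit 138, nat_lit 207, nat_lit 138])) (.node (nat_lit 7) (.leaf (nat_lit 33794) [nat_lit 115, nat_lit 207, nat_lit 115, nat_lit 207, nat_lit 115]) r42))))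
noncomputable def r43 : WT := (.leaf (nat_lit 46096) [nat_lit 115, nat_lit 92, nat_lit 69, nat_lit 115, nat_lit 138, nat_lit 161, nat_lit 115, nat_lit 207, nat_lit 230, nat_lit 115, nat_lit 92, nat_lit 69, nat_lit 115, nat_lit 138, nat_lit 161, nat_lit 115, nat_lit 207, nat_lit 230, nat_lit 115, nat_lit 92, nat_lit 69, nat_lit 115, nat_lit 138, nat_lit 161, nat_lit 115, nat_lit 207, nat_lit 230, nat_lit 115, nat_lit 92, nat_lit 69, nat_lit 115, nat_lit 138, nat_lit 161, nat_lit 115, nat_lit 207, nat_lit 230, nat_lit 115, nat_lit 92, nat_lit 69, nat_lit 115, nat_lit 138, nat_lit 161, nat_lit 115, nat_lit 207, nat_lit 230, nat_lit 115, nat_lit 92, nat_lit 69, nat_lit 115, nat_lit 138, nat_lit 161, nat_lit 115, nat_lit 207, nat_lit 230, nat_lit 115, nat_lit 92, nat_lit 69, nat_lit 115, nat_lit 138, nat_lit 161, nat_lit 115, nat_lit 207, nat_lit 230, nat_lit 115, nat_lit 92, nat_lit 69, nat_lit 115, nat_lit 138, nat_lit 161, nat_lit 115, nat_lit 207, nat_lit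 230, nat_lit 115, nat_lit 92, nat_lit 69, nat_lit 115, nat_lit 138, nat_lit 161, nat_lit 115, nat_lit 207, nat_lit 230, nat_lit 115, nat_lit 92, nat_lit 69, nat_lit 115, nat_lit 138, nat_lit 161, nat_lit 115, nat_lit 207])
noncomputable def r44 : WT := (.node (nat_lit 8) (.leaf (nat_lit 23554) [nat_lit 69, nat_lit 230, nat_lit 69]) (.node (nat_lit 9) (.leaf (nat_lit 16386) [nat_lit 46, nat_lit 230, nat_lit 46]) r43))
noncomputable def w8 : WT := (.node (nat_lit 1) (.leaf (nat_lit 8192) [nat_lit 230]) (.node (nat_lit 4) (.node (nat_lit 2) (.leaf (nat_lit 44034) [nat_lit 184, nat_lit 230, nat_lit 184]) (.node (nat_lit 3) (.leaf (nat_lit 45058) [nat_lit 207, nat_lit 230, nat_lit 207, nat_lit 230, nat_lit 207]) (.leaf (nat_lit 41986) [nat_lit 161, nat_lit 230, nat_lit 161]))) (.node (nat_lit 6) (.node (nat_lit 5) (.leaf (nat_lit 38914) [nat_lit 138, nat_lit 230, nat_lit 138]) (.leaf (nat_lit 34818) [nat_lit 115, nat_lit 230, nat_lit 115])) (.node (nat_lit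 7) (.leaf (nat_lit 29698) [nat_lit 92, nat_lit 230, nat_lit 92]) r44))))
noncomputable def w9 : WT := (.leaf (nat_lit 49152) [nat_lit 276])
noncomputable def w10 : WT := (.leaf (nat_lit 49154) [nat_lit 253])
noncomputable def wP : WT := (.node (nat_lit 3) (.node (nat_lit 1) (.leaf (nat_lit 15362) [nat_lit 207, nat_lit 46, nat_lit 207, nat_lit 46]) (.node (nat_lit 2) (.leaf (nat_lit 12290) [nat_lit 138, nat_lit 46, nat_lit 138, nat_lit 46]) (.leaf (nat_lit 19458) [nat_lit 138, nat_lit 69, nat_lit 138, nat_lit 69]))) (.node (nat_lit 5) (.node (nat_lit 4) (.leaf (nat_lit 22530) [nat_lit 207, nat_lit 69, nat_lit 207, nat_lit 69]) (.leaf (nat_lit 25600) [nat_lit 92, nat_lit 138, nat_lit 92, nat_lit 138])) (.node (nat_lit 6) (.leaf (nat_lit 9216) [nat_lit 46, nat_lit 69, nat_lit 46, nat_lit 69, nat_lit 46, nat_lit 69]) (.leaf (nat_lit 9218) [nat_lit 69, nat_lit 46, nat_lit 69, nat_lit 46, nat_lit 69, nat_lit 46]))))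
noncomputable def P : Par := ⟨tb, nat_lit 299, nat_lit 0x7ffffffffffffffffffffffffffffffffffffffffffffffffffffffffffffffffffffffffff, nat_lit 3519, nat_lit 8388607, nat_lit 4095, nat_lit 23, nat_lit 12, nat_lit 3510,
  [nat_lit 46, nat_lit 69, nat_lit 92, nat_lit 115, nat_lit 138, nat_lit 161, nat_lit 184, nat_lit 207, nat_lit 230, nat_lit 253, nat_lit 276], [nat_lit 46, nat_lit 92, nat_lit 115, nat_lit 138, nat_lit 161, nat_lit 184, nat_lit 207, nat_lit 230, nat_lit 253], wP,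
  (.cons (nat_lit 46) w0 (.cons (nat_lit 69) w1 (.cons (nat_lit 92) w2 (.cons (nat_lit 115) w3 (.cons (nat_lit 138) w4 (.cons (nat_lit 161) w5 (.cons (nat_lit 184) w6 (.cons (nat_lit 207) w7 (.cons (nat_lit 230) w8 .nil))))))))),
  (.cons (nat_lit 253) w9 (.cons (nat_lit 276) w10 .nil))⟩

end Cfsg.Agent.Lib.TCFi22C
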