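import Cfsg.Agent.Lib.TCDefs

set_option autoImplicit false
set_option maxRecDepth 100000

namespace Cfsg.Agent.Lib.TCFi22S
open Cfsg.Agent.Lib.TCCore

noncomputable def l0 : T := .leaf (nat_lit 0) (nat_lit 0x1a6cd3669b320d86ad3669b3410069fff6bab5d7ffec765ebb5d5d0a0275cb2ccdc69ffffffffffffee3302dfffd6e8af2fffffffffffff7390139d2ce72599aa57ffeef2fffc5540834b1798ffffffef7152a27c295c01a4d7bdc3ffffff7d87ffd46342e03427c12ddffffffffffffffff7d7016dfe09af489fffe7dd4d4a38d44c09dfffaf6fffe6da8d243657b6c22027ffffffffffffffffa2b50232d100d2044f21fff955fffffff2abb28016cc17fff8b545abfff16a346572c0d1ffffffffffffffff2839219f8c01a243109ffffffffffffffffef4502dfffc8d03e6fffffffffffff782813bffffff2138e17fffffffffbb14083ffffffffffffe3851927ffdc88027ffffffffffffffff8d945c6e0400d0a8bfffffffffffffffe3246e201a05c6261ffffffffffffffffb6100b7fff1510813ffffffffffffda8804efffffffffe2040cfffffffe2c301a7ffffffffffff87802bdfff121809ffffffffffffffffe19f08e870c0340c3ffffffffffffffff8578286068ace4470c3125486e564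8b13fff00d623af1f81b34d466e33719bfff810711f70ec489b6ccb315a8ad7ffc069619b46d64a2b269a30c4467ffe027aec5830cb911888c1964b95fff00d421db2ed9786bb55d86ab96fff80696e8dd66eb4459b2cd965ebfffc0d119674ac6555e4a5478ac81fffe034a6a3b5252929c54aa8c6411fff013d54eaa696e4694e4eaa9553fff8106b25592aeca44d15b55cac97ffc0687ebb08e36a5a3652996a1b3ffe068b489face9f2509285c424a1fff027616afb6790387483ed9f20ffff81071b775a9071d3cd9b68e8e77ffc06968db6cc73639a70e3464637ffe027b26596231918cb261b34cd5fff00d19a8b9510b885c42e21760cfff816eb1460b2c4c32a1950ca30c7ffc09d5498649728a910898449773ffe041a844222110589283c1224a9fff01a415e08f04782395209d31d5fff809c8d0fc67e33f19f8d007274fffc0d0f86762bb147cc36576bbb17ffe0346a235104c21e06bab511a89fff020847420608267b0a8043e19efff813818404106183081840c20617ffc0b604104101040820410208107ffe000)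

end Cfsg.Agent.Lib.TCFi22S
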