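import Cfsg.Agent.Lib.TCFi23D0
import Cfsg.Agent.Lib.TCFi23D1

set_option autoImplicit false
set_option maxRecDepth 100000

namespace Cfsg.Agent.Lib.TCFi23
open Cfsg.Agent.Lib.TCCore

noncomputable def n0 : T := (.node (nat_lit 106) l1 l2)
noncomputable def n1 : T := (.node (nat_lit 265) l4 l5)
noncomputable def n2 : T := (.node (nat_lit 424) l7 l8)
noncomputable def n3 : T := (.node (nat_lit 583) l10 l11)
noncomputable def n4 : T := (.node (nat_lit 742) l13 l14)
noncomputable def n5 : T := (.node (nat_lit 901) l16 l17)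
noncomputable def n6 : T := (.node (nat_lit 1060) l19 l20)
noncomputable def n7 : T := (.node (nat_lit 1219) l22 l23)
noncomputable def n8 : T := (.node (nat_lit 1378) l25 l26)
noncomputable def n9 : T := (.node (nat_lit 1537) l28 l29)
noncomputable def n10 : T := (.node (nat_lit 1696) l31 l32)
noncomputable def n11 : T := (.node (nat_lit 1855) l34 l35)
noncomputable def n12 : T := (.node (nat_lit 2014) l37 l38)
noncomputable def n13 : T := (.node (nat_lit 2173) l40 l41)
noncomputable def n14 : T := (.node (nat_lit 2332) l43 l44)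
noncomputable def n15 : T := (.node (nat_lit 2491) l46 l47)
noncomputable def n16 : T := (.node (nat_lit 1272) (.node (nat_lit 636) (.node (nat_lit 318) (.node (nat_lit 159) (.node (nat_lit 53) l0 n0) (.node (nat_lit 212) l3 n1)) (.node (nat_lit 477) (.node (nat_lit 371) l6 n2) (.node (nat_lit 530) l9 n3))) (.node (nat_lit 954) (.node (nat_lit 795) (.node (nat_lit 689) l12 n4) (.node (nat_lit 848) l15 n5)) (.node (nat_lit 1113) (.node (nat_lit 1007) l18 n6) (.node (nat_lit 1166) l21 n7)))) (.node (nat_lit 1908) (.node (nat_lit 1590) (.node (nat_lit 1431) (.node (nat_lit 1325) l24 n8) (.node (nat_lit 1484) l27 n9)) (.node (nat_lit 1749) (.node (nat_lit 1643) l30 n10) (.node (nat_lit 1802) l33 n11))) (.node (nat_lit 2226) (.node (nat_lit 2067) (.node (nat_lit 1961) l36 n12) (.node (nat_lit 2120) l39 n13)) (.node (nat_lit 2385) (.node (nat_lit 2279) l42 n14) (.node (nat_lit 2438) l45 n15)))))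
noncomputable def n17 : T := (.node (nat_lit 2650) l49 l50)
noncomputable def n18 : T := (.node (nat_lit 2809) l52 l53)
noncomputable def n19 : T := (.node (nat_lit 2968) l55 l56)
noncomputable def n20 : T := (.node (nat_lit 3127) l58 l59)
noncomputable def n21 : T := (.node (nat_lit 3286) l61 l62)
noncomputable def n22 : T := (.node (nat_lit 3445) l64 l65)
noncomputable def n23 : T := (.node (nat_lit 3604) l67 l68)
noncomputable def n24 : T := (.node (nat_lit 3763) l70 l71)
noncomputable def n25 : T := (.node (nat_lit 3922) l73 l74)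
noncomputable def n26 : T := (.node (nat_lit 4081) l76 l77)
noncomputable def n27 : T := (.node (nat_lit 4240) l79 l80)
noncomputable def n28 : T := (.node (nat_lit 4399) l82 l83)
noncomputable def n29 : T := (.node (nat_lit 4558) l85 l86)
noncomputable def n30 : T := (.node (nat_lit 4717) l88 l89)
noncomputable def n31 : T := (.node (nat_lit 4876) l91 l92)
noncomputable def n32 : T := (.node (nat_lit 5035) l94 l95)
noncomputable def n33 : T := (.node (nat_lit 3816) (.node (nat_lit 3180) (.node (nat_lit 2862) (.node (nat_lit 2703) (.node (nat_lit 2597) l48 n17) (.node (nat_lit 2756) l51 n18)) (.node (nat_lit 3021) (.node (nat_lit 2915) l54 n19) (.node (nat_lit 3074) l57 n20))) (.node (nat_lit 3498) (.node (nat_lit 3339) (.node (nat_lit 3233) l60 n21) (.node (nat_lit 3392) l63 n22)) (.node (nat_lit 3657) (.node (nat_lit 3551) l66 n23) (.node (nat_lit 3710) l69 n24)))) (.node (nat_lit 4452) (.node (nat_lit 4134) (.node (nat_lit 3975) (.node (nat_lit 3869) l72 n25) (.node (nat_lit 4028) l75 n26)) (.node (nat_lit 4293) (.node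 (nat_lit 4187) l78 n27) (.node (nat_lit 4346) l81 n28))) (.node (nat_lit 4770) (.node (nat_lit 4611) (.node (nat_lit 4505) l84 n29) (.node (nat_lit 4664) l87 n30)) (.node (nat_lit 4929) (.node (nat_lit 4823) l90 n31) (.node (nat_lit 4982) l93 n32)))))
noncomputable def n34 : T := (.node (nat_lit 5194) l97 l98)
noncomputable def n35 : T := (.node (nat_lit 5353) l100 l101)
noncomputable def n36 : T := (.node (nat_lit 5512) l103 l104)
noncomputable def n37 : T := (.node (nat_lit 5671) l106 l107)
noncomputable def n38 : T := (.node (nat_lit 5830) l109 l110)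
noncomputable def n39 : T := (.node (nat_lit 5989) l112 l113)
noncomputable def n40 : T := (.node (nat_lit 6148) l115 l116)
noncomputable def n41 : T := (.node (nat_lit 6307) l118 l119)
noncomputable def n42 : T := (.node (nat_lit 6466) l121 l122)
noncomputable def n43 : T := (.node (nat_lit 6625) l124 l125)
noncomputable def n44 : T := (.node (nat_lit 6784) l127 l128)
noncomputable def n45 : T := (.node (nat_lit 6943) l130 l131)
noncomputable def n46 : T := (.node (nat_lit 7102) l133 l134)
noncomputable def n47 : T := (.node (nat_lit 7261) l136 l137)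
noncomputable def n48 : T := (.node (nat_lit 7420) l139 l140)
noncomputable def n49 : T := (.node (nat_lit 7579) l142 l143)
noncomputable def n50 : T := (.node (nat_lit 6360) (.node (nat_lit 5724) (.node (nat_lit 5406) (.node (nat_lit 5247) (.node (nat_lit 5141) l96 n34) (.node (nat_lit 5300) l99 n35)) (.node (nat_lit 5565) (.node (nat_lit 5459) l102 n36) (.node (nat_lit 5618) l105 n37))) (.node (nat_lit 6042) (.node (nat_lit 5883) (.node (nat_lit 5777) l108 n38) (.node (nat_lit 5936) l111 n39)) (.node (nat_lit 6201) (.node (nat_lit 6095) l114 n40) (.node (nat_lit 6254) l117 n41)))) (.node (nat_lit 6996) (.node (nat_lit 6678) (.node (nat_lit 6519) (.node (nat_lit 6413) l120 n42) (.node (nat_lit 6572) l123 n43)) (.node (nat_lit 6837) (.node (nat_lit 6731) l126 n44) (.node (nat_lit 6890) l129 n45))) (.node (nat_lit 7314) (.node (nat_lit 7155) (.node (nat_lit 7049) l132 n46) (.node (nat_lit 7208) l135 n47)) (.node (nat_lit 7473) (.node (nat_lit 7367) l138 n48) (.node (nat_lit 7526) l141 n49)))))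
noncomputable def n51 : T := (.node (nat_lit 7738) l145 l146)
noncomputable def n52 : T := (.node (nat_lit 7897) l148 l149)
noncomputable def n53 : T := (.node (nat_lit 8056) l151 l152)
noncomputable def n54 : T := (.node (nat_lit 8215) l154 l155)
noncomputable def n55 : T := (.node (nat_lit 8374) l157 l158)
noncomputable def n56 : T := (.node (nat_lit 8533) l160 l161)
noncomputable def n57 : T := (.node (nat_lit 8692) l163 l164)
noncomputable def n58 : T := (.node (nat_lit 8851) l166 l167)
noncomputable def n59 : T := (.node (nat_lit 9010) l169 l170)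
noncomputable def n60 : T := (.node (nat_lit 9169) l172 l173)
noncomputable def n61 : T := (.node (nat_lit 9328) l175 l176)
noncomputable def n62 : T := (.node (nat_lit 9487) l178 l179)
noncomputable def n63 : T := (.node (nat_lit 9646) l181 l182)
noncomputable def n64 : T := (.node (nat_lit 9805) l184 l185)
noncomputable def n65 : T := (.node (nat_lit 9964) l187 l188)
noncomputable def n66 : T := (.node (nat_lit 10123) l190 l191)
noncomputable def n67 : T := (.node (nat_lit 8904) (.node (nat_lit 8268) (.node (nat_lit 7950) (.node (nat_lit 7791) (.node (nat_lit 7685) l144 n51) (.node (nat_lit 7844) l147 n52)) (.node (nat_lit 8109) (.node (nat_lit 8003) l150 n53) (.node (nat_lit 8162) l153 n54))) (.node (nat_lit 8586) (.node (nat_lit 8427) (.node (nat_lit 8321) l156 n55) (.node (nat_lit 8480) l159 n56)) (.node (nat_lit 8745) (.node (nat_lit 8639) l162 n57) (.node (nat_lit 8798) l165 n58)))) (.node (nat_lit 9540) (.node (nat_lit 9222) (.node (nat_lit 9063) (.node (nat_lit 8957) l168 n59) (.node (nat_lit 9116) l171 n60)) (.node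 (nat_lit 9381) (.node (nat_lit 9275) l174 n61) (.node (nat_lit 9434) l177 n62))) (.node (nat_lit 9858) (.node (nat_lit 9699) (.node (nat_lit 9593) l180 n63) (.node (nat_lit 9752) l183 n64)) (.node (nat_lit 10017) (.node (nat_lit 9911) l186 n65) (.node (nat_lit 10070) l189 n66)))))
noncomputable def n68 : T := (.node (nat_lit 10282) l193 l194)
noncomputable def n69 : T := (.node (nat_lit 10441) l196 l197)
noncomputable def n70 : T := (.node (nat_lit 10600) l199 l200)
noncomputable def n71 : T := (.node (nat_lit 10759) l202 l203)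
noncomputable def n72 : T := (.node (nat_lit 10918) l205 l206)
noncomputable def n73 : T := (.node (nat_lit 11077) l208 l209)
noncomputable def n74 : T := (.node (nat_lit 11236) l211 l212)
noncomputable def n75 : T := (.node (nat_lit 11395) l214 l215)
noncomputable def n76 : T := (.node (nat_lit 11554) l217 l218)
noncomputable def n77 : T := (.node (nat_lit 11713) l220 l221)
noncomputable def n78 : T := (.node (nat_lit 11872) l223 l224)
noncomputable def n79 : T := (.node (nat_lit 12031) l226 l227)
noncomputable def n80 : T := (.node (nat_lit 12190) l229 l230)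
noncomputable def n81 : T := (.node (nat_lit 12349) l232 l233)
noncomputable def n82 : T := (.node (nat_lit 12508) l235 l236)
noncomputable def n83 : T := (.node (nat_lit 12667) l238 l239)
noncomputable def n84 : T := (.node (nat_lit 11448) (.node (nat_lit 10812) (.node (nat_lit 10494) (.node (nat_lit 10335) (.node (nat_lit 10229) l192 n68) (.node (nat_lit 10388) l195 n69)) (.node (nat_lit 10653) (.node (nat_lit 10547) l198 n70) (.node (nat_lit 10706) l201 n71))) (.node (nat_lit 11130) (.node (nat_lit 10971) (.node (nat_lit 10865) l204 n72) (.node (nat_lit 11024) l207 n73)) (.node (nat_lit 11289) (.node (nat_lit 11183) l210 n74) (.node (nat_lit 11342) l213 n75)))) (.node (nat_lit 12084) (.node (nat_lit 11766) (.node (nat_lit 11607) (.node (nat_lit 11501) l216 n76) (.node (nat_lit 11660) l219 n77)) (.node (nat_lit 11925) (.node (nat_lit 11819) l222 n78) (.node (nat_lit 11978) l225 n79))) (.node (nat_lit 12402) (.node (nat_lit 12243) (.node (nat_lit 12137) l228 n80) (.node (nat_lit 12296) l231 n81)) (.node (nat_lit 12561) (.node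 (nat_lit 12455) l234 n82) (.node (nat_lit 12614) l237 n83)))))
noncomputable def n85 : T := (.node (nat_lit 12826) l241 l242)
noncomputable def n86 : T := (.node (nat_lit 12985) l244 l245)
noncomputable def n87 : T := (.node (nat_lit 13144) l247 l248)
noncomputable def n88 : T := (.node (nat_lit 13303) l250 l251)
noncomputable def n89 : T := (.node (nat_lit 13462) l253 l254)
noncomputable def n90 : T := (.node (nat_lit 13621) l256 l257)
noncomputable def n91 : T := (.node (nat_lit 13780) l259 l260)
noncomputable def n92 : T := (.node (nat_lit 13939) l262 l263)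
noncomputable def n93 : T := (.node (nat_lit 14098) l265 l266)
noncomputable def n94 : T := (.node (nat_lit 14257) l268 l269)
noncomputable def n95 : T := (.node (nat_lit 14416) l271 l272)
noncomputable def n96 : T := (.node (nat_lit 14575) l274 l275)
noncomputable def n97 : T := (.node (nat_lit 14734) l277 l278)
noncomputable def n98 : T := (.node (nat_lit 14893) l280 l281)
noncomputable def n99 : T := (.node (nat_lit 15052) l283 l284)
noncomputable def n100 : T := (.node (nat_lit 15211) l286 l287)
noncomputable def n101 : T := (.node (nat_lit 13992) (.node (nat_lit 13356) (.node (nat_lit 13038) (.node (nat_lit 12879) (.node (nat_lit 12773) l240 n85) (.node (nat_lit 12932) l243 n86)) (.node (nat_lit 13197) (.node (nat_lit 13091) l246 n87) (.node (nat_lit 13250) l249 n88))) (.node (nat_lit 13674) (.node (nat_lit 13515) (.node (nat_lit 13409) l252 n89) (.node (nat_lit 13568) l255 n90)) (.node (nat_lit 13833) (.node (nat_lit 13727) l258 n91) (.node (nat_lit 13886) l261 n92)))) (.node (nat_lit 14628) (.node (nat_lit 14310) (.node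 (nat_lit 14151) (.node (nat_lit 14045) l264 n93) (.node (nat_lit 14204) l267 n94)) (.node (nat_lit 14469) (.node (nat_lit 14363) l270 n95) (.node (nat_lit 14522) l273 n96))) (.node (nat_lit 14946) (.node (nat_lit 14787) (.node (nat_lit 14681) l276 n97) (.node (nat_lit 14840) l279 n98)) (.node (nat_lit 15105) (.node (nat_lit 14999) l282 n99) (.node (nat_lit 15158) l285 n100)))))
noncomputable def n102 : T := (.node (nat_lit 15370) l289 l290)
noncomputable def n103 : T := (.node (nat_lit 15529) l292 l293)
noncomputable def n104 : T := (.node (nat_lit 15688) l295 l296)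
noncomputable def n105 : T := (.node (nat_lit 15847) l298 l299)
noncomputable def n106 : T := (.node (nat_lit 16006) l301 l302)
noncomputable def n107 : T := (.node (nat_lit 16165) l304 l305)
noncomputable def n108 : T := (.node (nat_lit 16324) l307 l308)
noncomputable def n109 : T := (.node (nat_lit 16483) l310 l311)
noncomputable def n110 : T := (.node (nat_lit 16642) l313 l314)
noncomputable def n111 : T := (.node (nat_lit 16801) l316 l317)
noncomputable def n112 : T := (.node (nat_lit 16960) l319 l320)
noncomputable def n113 : T := (.node (nat_lit 17119) l322 l323)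
noncomputable def n114 : T := (.node (nat_lit 17278) l325 l326)
noncomputable def n115 : T := (.node (nat_lit 17437) l328 l329)
noncomputable def n116 : T := (.node (nat_lit 17596) l331 l332)
noncomputable def n117 : T := (.node (nat_lit 17755) l334 l335)
noncomputable def n118 : T := (.node (nat_lit 16536) (.node (nat_lit 15900) (.node (nat_lit 15582) (.node (nat_lit 15423) (.node (nat_lit 15317) l288 n102) (.node (nat_lit 15476) l291 n103)) (.node (nat_lit 15741) (.node (nat_lit 15635) l294 n104) (.node (nat_lit 15794) l297 n105))) (.node (nat_lit 16218) (.node (nat_lit 16059) (.node (nat_lit 15953) l300 n106) (.node (nat_lit 16112) l303 n107)) (.node (nat_lit 16377) (.node (nat_lit 16271) l306 n108) (.node (nat_lit 16430) l309 n109)))) (.node (nat_lit 17172) (.node (nat_lit 16854) (.node (nat_lit 16695) (.node (nat_lit 16589) l312 n110) (.node (nat_lit 16748) l315 n111)) (.node (nat_lit 17013) (.node (nat_lit 16907) l318 n112) (.node (nat_lit 17066) l321 n113))) (.node (nat_lit 17490) (.node (nat_lit 17331) (.node (nat_lit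 17225) l324 n114) (.node (nat_lit 17384) l327 n115)) (.node (nat_lit 17649) (.node (nat_lit 17543) l330 n116) (.node (nat_lit 17702) l333 n117)))))
noncomputable def n119 : T := (.node (nat_lit 17914) l337 l338)
noncomputable def n120 : T := (.node (nat_lit 18073) l340 l341)
noncomputable def n121 : T := (.node (nat_lit 18232) l343 l344)
noncomputable def n122 : T := (.node (nat_lit 18391) l346 l347)
noncomputable def n123 : T := (.node (nat_lit 18550) l349 l350)
noncomputable def n124 : T := (.node (nat_lit 18709) l352 l353)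
noncomputable def n125 : T := (.node (nat_lit 18868) l355 l356)
noncomputable def n126 : T := (.node (nat_lit 19027) l358 l359)
noncomputable def n127 : T := (.node (nat_lit 19186) l361 l362)
noncomputable def n128 : T := (.node (nat_lit 19345) l364 l365)
noncomputable def n129 : T := (.node (nat_lit 19504) l367 l368)
noncomputable def n130 : T := (.node (nat_lit 19663) l370 l371)
noncomputable def n131 : T := (.node (nat_lit 19822) l373 l374)
noncomputable def n132 : T := (.node (nat_lit 19981) l376 l377)
noncomputable def n133 : T := (.node (nat_lit 20140) l379 l380)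
noncomputable def n134 : T := (.node (nat_lit 20246) l381 l382)
noncomputable def n135 : T := (.node (nat_lit 20352) l383 l384)
noncomputable def n136 : T := (.node (nat_lit 19080) (.node (nat_lit 18444) (.node (nat_lit 18126) (.node (nat_lit 17967) (.node (nat_lit 17861) l336 n119) (.node (nat_lit 18020) l339 n120)) (.node (nat_lit 18285) (.node (nat_lit 18179) l342 n121) (.node (nat_lit 18338) l345 n122))) (.node (nat_lit 18762) (.node (nat_lit 18603) (.node (nat_lit 18497) l348 n123) (.node (nat_lit 18656) l351 n124)) (.node (nat_lit 18921) (.node (nat_lit 18815) l354 n125) (.node (nat_lit 18974) l357 n126)))) (.node (nat_lit 19716) (.node (nat_lit 19398) (.node (nat_lit 19239) (.node (nat_lit 19133) l360 n127) (.node (nat_lit 19292) l363 n128)) (.node (nat_lit 19557) (.node (nat_lit 19451) l366 n129) (.node (nat_lit 19610) l369 n130))) (.node (nat_lit 20034) (.node (nat_lit 19875) (.node (nat_lit 19769) l372 n131) (.node (nat_lit 19928) l375 n132)) (.node (nat_lit 20193) (.node (nat_lit 20087) l378 n133) (.node (nat_lit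 20299) n134 n135)))))
noncomputable def n137 : T := (.node (nat_lit 20511) l386 l387)
noncomputable def n138 : T := (.node (nat_lit 20670) l389 l390)
noncomputable def n139 : T := (.node (nat_lit 20829) l392 l393)
noncomputable def n140 : T := (.node (nat_lit 20988) l395 l396)
noncomputable def n141 : T := (.node (nat_lit 21147) l398 l399)
noncomputable def n142 : T := (.node (nat_lit 21306) l401 l402)
noncomputable def n143 : T := (.node (nat_lit 21465) l404 l405)
noncomputable def n144 : T := (.node (nat_lit 21624) l407 l408)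
noncomputable def n145 : T := (.node (nat_lit 21783) l410 l411)
noncomputable def n146 : T := (.node (nat_lit 21942) l413 l414)
noncomputable def n147 : T := (.node (nat_lit 22101) l416 l417)
noncomputable def n148 : T := (.node (nat_lit 22260) l419 l420)
noncomputable def n149 : T := (.node (nat_lit 22419) l422 l423)
noncomputable def n150 : T := (.node (nat_lit 22578) l425 l426)
noncomputable def n151 : T := (.node (nat_lit 22737) l428 l429)
noncomputable def n152 : T := (.node (nat_lit 22896) l431 l432)
noncomputable def n153 : T := (.node (nat_lit 21677) (.node (nat_lit 21041) (.node (nat_lit 20723) (.node (nat_lit 20564) (.node (nat_lit 20458) l385 n137) (.node (nat_lit 20617) l388 n138)) (.node (nat_lit 20882) (.node (nat_lit 20776) l391 n139) (.node (nat_lit 20935) l394 n140))) (.node (nat_lit 21359) (.node (nat_lit 21200) (.node (nat_lit 21094) l397 n141) (.node (nat_lit 21253) l400 n142)) (.node (nat_lit 21518) (.node (nat_lit 21412) l403 n143) (.node (nat_lit 21571) l406 n144)))) (.node (nat_lit 22313) (.node (nat_lit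 21995) (.node (nat_lit 21836) (.node (nat_lit 21730) l409 n145) (.node (nat_lit 21889) l412 n146)) (.node (nat_lit 22154) (.node (nat_lit 22048) l415 n147) (.node (nat_lit 22207) l418 n148))) (.node (nat_lit 22631) (.node (nat_lit 22472) (.node (nat_lit 22366) l421 n149) (.node (nat_lit 22525) l424 n150)) (.node (nat_lit 22790) (.node (nat_lit 22684) l427 n151) (.node (nat_lit 22843) l430 n152)))))
noncomputable def n154 : T := (.node (nat_lit 23055) l434 l435)
noncomputable def n155 : T := (.node (nat_lit 23214) l437 l438)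
noncomputable def n156 : T := (.node (nat_lit 23373) l440 l441)
noncomputable def n157 : T := (.node (nat_lit 23532) l443 l444)
noncomputable def n158 : T := (.node (nat_lit 23691) l446 l447)
noncomputable def n159 : T := (.node (nat_lit 23850) l449 l450)
noncomputable def n160 : T := (.node (nat_lit 24009) l452 l453)
noncomputable def n161 : T := (.node (nat_lit 24168) l455 l456)
noncomputable def n162 : T := (.node (nat_lit 24327) l458 l459)
noncomputable def n163 : T := (.node (nat_lit 24486) l461 l462)
noncomputable def n164 : T := (.node (nat_lit 24645) l464 l465)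
noncomputable def n165 : T := (.node (nat_lit 24804) l467 l468)
noncomputable def n166 : T := (.node (nat_lit 24963) l470 l471)
noncomputable def n167 : T := (.node (nat_lit 25122) l473 l474)
noncomputable def n168 : T := (.node (nat_lit 25281) l476 l477)
noncomputable def n169 : T := (.node (nat_lit 25440) l479 l480)
noncomputable def n170 : T := (.node (nat_lit 24221) (.node (nat_lit 23585) (.node (nat_lit 23267) (.node (nat_lit 23108) (.node (nat_lit 23002) l433 n154) (.node (nat_lit 23161) l436 n155)) (.node (nat_lit 23426) (.node (nat_lit 23320) l439 n156) (.node (nat_lit 23479) l442 n157))) (.node (nat_lit 23903) (.node (nat_lit 23744) (.node (nat_lit 23638) l445 n158) (.node (nat_lit 23797) l448 n159)) (.node (nat_lit 24062) (.node (nat_lit 23956) l451 n160) (.node (nat_lit 24115) l454 n161)))) (.node (nat_lit 24857) (.node (nat_lit 24539) (.node (nat_lit 24380) (.node (nat_lit 24274) l457 n162) (.node (nat_lit 24433) l460 n163)) (.node (nat_lit 24698) (.node (nat_lit 24592) l463 n164) (.node (nat_lit 24751) l466 n165)))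 (.node (nat_lit 25175) (.node (nat_lit 25016) (.node (nat_lit 24910) l469 n166) (.node (nat_lit 25069) l472 n167)) (.node (nat_lit 25334) (.node (nat_lit 25228) l475 n168) (.node (nat_lit 25387) l478 n169)))))
noncomputable def n171 : T := (.node (nat_lit 25599) l482 l483)
noncomputable def n172 : T := (.node (nat_lit 25758) l485 l486)
noncomputable def n173 : T := (.node (nat_lit 25917) l488 l489)
noncomputable def n174 : T := (.node (nat_lit 26076) l491 l492)
noncomputable def n175 : T := (.node (nat_lit 26235) l494 l495)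
noncomputable def n176 : T := (.node (nat_lit 26394) l497 l498)
noncomputable def n177 : T := (.node (nat_lit 26553) l500 l501)
noncomputable def n178 : T := (.node (nat_lit 26712) l503 l504)
noncomputable def n179 : T := (.node (nat_lit 26871) l506 l507)
noncomputable def n180 : T := (.node (nat_lit 27030) l509 l510)
noncomputable def n181 : T := (.node (nat_lit 27189) l512 l513)
noncomputable def n182 : T := (.node (nat_lit 27348) l515 l516)
noncomputable def n183 : T := (.node (nat_lit 27507) l518 l519)
noncomputable def n184 : T := (.node (nat_lit 27666) l521 l522)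
noncomputable def n185 : T := (.node (nat_lit 27825) l524 l525)
noncomputable def n186 : T := (.node (nat_lit 27984) l527 l528)
noncomputable def n187 : T := (.node (nat_lit 26765) (.node (nat_lit 26129) (.node (nat_lit 25811) (.node (nat_lit 25652) (.node (nat_lit 25546) l481 n171) (.node (nat_lit 25705) l484 n172)) (.node (nat_lit 25970) (.node (nat_lit 25864) l487 n173) (.node (nat_lit 26023) l490 n174))) (.node (nat_lit 26447) (.node (nat_lit 26288) (.node (nat_lit 26182) l493 n175) (.node (nat_lit 26341) l496 n176)) (.node (nat_lit 26606) (.node (nat_lit 26500) l499 n177) (.node (nat_lit 26659) l502 n178)))) (.node (nat_lit 27401) (.node (nat_lit 27083) (.node (nat_lit 26924) (.node (nat_lit 26818) l505 n179) (.node (nat_lit 26977) l508 n180)) (.node (nat_lit 27242) (.node (nat_lit 27136) l511 n181) (.node (nat_lit 27295) l514 n182))) (.node (nat_lit 27719) (.node (nat_lit 27560) (.node (nat_lit 27454) l517 n183) (.node (nat_lit 27613) l520 n184)) (.node (nat_lit 27878) (.node (nat_lit 27772) l523 n185) (.node (nat_lit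 27931) l526 n186)))))
noncomputable def n188 : T := (.node (nat_lit 28143) l530 l531)
noncomputable def n189 : T := (.node (nat_lit 28302) l533 l534)
noncomputable def n190 : T := (.node (nat_lit 28461) l536 l537)
noncomputable def n191 : T := (.node (nat_lit 28620) l539 l540)
noncomputable def n192 : T := (.node (nat_lit 28779) l542 l543)
noncomputable def n193 : T := (.node (nat_lit 28938) l545 l546)
noncomputable def n194 : T := (.node (nat_lit 29097) l548 l549)
noncomputable def n195 : T := (.node (nat_lit 29256) l551 l552)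
noncomputable def n196 : T := (.node (nat_lit 29415) l554 l555)
noncomputable def n197 : T := (.node (nat_lit 29574) l557 l558)
noncomputable def n198 : T := (.node (nat_lit 29733) l560 l561)
noncomputable def n199 : T := (.node (nat_lit 29892) l563 l564)
noncomputable def n200 : T := (.node (nat_lit 30051) l566 l567)
noncomputable def n201 : T := (.node (nat_lit 30210) l569 l570)
noncomputable def n202 : T := (.node (nat_lit 30369) l572 l573)
noncomputable def n203 : T := (.node (nat_lit 30528) l575 l576)
noncomputable def n204 : T := (.node (nat_lit 29309) (.node (nat_lit 28673) (.node (nat_lit 28355) (.node (nat_lit 28196) (.node (nat_lit 28090) l529 n188) (.node (nat_lit 28249) l532 n189)) (.node (nat_lit 28514) (.node (nat_lit 28408) l535 n190) (.node (nat_lit 28567) l538 n191))) (.node (nat_lit 28991) (.node (nat_lit 28832) (.node (nat_lit 28726) l541 n192) (.node (nat_lit 28885) l544 n193)) (.node (nat_lit 29150) (.node (nat_lit 29044) l547 n194) (.node (nat_lit 29203) l550 n195)))) (.node (nat_lit 29945) (.node (nat_lit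 29627) (.node (nat_lit 29468) (.node (nat_lit 29362) l553 n196) (.node (nat_lit 29521) l556 n197)) (.node (nat_lit 29786) (.node (nat_lit 29680) l559 n198) (.node (nat_lit 29839) l562 n199))) (.node (nat_lit 30263) (.node (nat_lit 30104) (.node (nat_lit 29998) l565 n200) (.node (nat_lit 30157) l568 n201)) (.node (nat_lit 30422) (.node (nat_lit 30316) l571 n202) (.node (nat_lit 30475) l574 n203)))))
noncomputable def n205 : T := (.node (nat_lit 30687) l578 l579)
noncomputable def n206 : T := (.node (nat_lit 30846) l581 l582)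
noncomputable def n207 : T := (.node (nat_lit 31005) l584 l585)
noncomputable def n208 : T := (.node (nat_lit 31164) l587 l588)
noncomputable def n209 : T := (.node (nat_lit 31323) l590 l591)
noncomputable def n210 : T := (.node (nat_lit 31482) l593 l594)
noncomputable def n211 : T := (.node (nat_lit 31641) l596 l597)
noncomputable def n212 : T := (.node (nat_lit 31800) l599 l600)
noncomputable def n213 : T := (.node (nat_lit 31959) l602 l603)
noncomputable def n214 : T := (.node (nat_lit 32118) l605 l606)
noncomputable def n215 : T := (.node (nat_lit 32277) l608 l609)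
noncomputable def n216 : T := (.node (nat_lit 32436) l611 l612)
noncomputable def n217 : T := (.node (nat_lit 32595) l614 l615)
noncomputable def n218 : T := (.node (nat_lit 32754) l617 l618)
noncomputable def n219 : T := (.node (nat_lit 32913) l620 l621)
noncomputable def n220 : T := (.node (nat_lit 33072) l623 l624)
noncomputable def n221 : T := (.node (nat_lit 31853) (.node (nat_lit 31217) (.node (nat_lit 30899) (.node (nat_lit 30740) (.node (nat_lit 30634) l577 n205) (.node (nat_lit 30793) l580 n206)) (.node (nat_lit 31058) (.node (nat_lit 30952) l583 n207) (.node (nat_lit 31111) l586 n208))) (.node (nat_lit 31535) (.node (nat_lit 31376) (.node (nat_lit 31270) l589 n209) (.node (nat_lit 31429) l592 n210)) (.node (nat_lit 31694) (.node (nat_lit 31588) l595 n211) (.node (nat_lit 31747) l598 n212)))) (.node (nat_lit 32489) (.node (nat_lit 32171) (.node (nat_lit 32012) (.node (nat_lit 31906) l601 n213) (.node (nat_lit 32065) l604 n214)) (.node (nat_lit 32330) (.node (nat_lit 32224) l607 n215) (.node (nat_lit 32383) l610 n216)))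 (.node (nat_lit 32807) (.node (nat_lit 32648) (.node (nat_lit 32542) l613 n217) (.node (nat_lit 32701) l616 n218)) (.node (nat_lit 32966) (.node (nat_lit 32860) l619 n219) (.node (nat_lit 33019) l622 n220)))))
noncomputable def n222 : T := (.node (nat_lit 33231) l626 l627)
noncomputable def n223 : T := (.node (nat_lit 33390) l629 l630)
noncomputable def n224 : T := (.node (nat_lit 33549) l632 l633)
noncomputable def n225 : T := (.node (nat_lit 33708) l635 l636)
noncomputable def n226 : T := (.node (nat_lit 33867) l638 l639)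
noncomputable def n227 : T := (.node (nat_lit 34026) l641 l642)
noncomputable def n228 : T := (.node (nat_lit 34185) l644 l645)
noncomputable def n229 : T := (.node (nat_lit 34344) l647 l648)
noncomputable def n230 : T := (.node (nat_lit 34503) l650 l651)
noncomputable def n231 : T := (.node (nat_lit 34662) l653 l654)
noncomputable def n232 : T := (.node (nat_lit 34821) l656 l657)
noncomputable def n233 : T := (.node (nat_lit 34980) l659 l660)
noncomputable def n234 : T := (.node (nat_lit 35139) l662 l663)
noncomputable def n235 : T := (.node (nat_lit 35298) l665 l666)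
noncomputable def n236 : T := (.node (nat_lit 35457) l668 l669)
noncomputable def n237 : T := (.node (nat_lit 35616) l671 l672)
noncomputable def n238 : T := (.node (nat_lit 34397) (.node (nat_lit 33761) (.node (nat_lit 33443) (.node (nat_lit 33284) (.node (nat_lit 33178) l625 n222) (.node (nat_lit 33337) l628 n223)) (.node (nat_lit 33602) (.node (nat_lit 33496) l631 n224) (.node (nat_lit 33655) l634 n225))) (.node (nat_lit 34079) (.node (nat_lit 33920) (.node (nat_lit 33814) l637 n226) (.node (nat_lit 33973) l640 n227)) (.node (nat_lit 34238) (.node (nat_lit 34132) l643 n228) (.node (nat_lit 34291) l646 n229)))) (.node (nat_lit 35033) (.node (nat_lit 34715) (.node (nat_lit 34556) (.node (nat_lit 34450) l649 n230) (.node (nat_lit 34609) l652 n231)) (.node (nat_lit 34874) (.node (nat_lit 34768) l655 n232) (.node (nat_lit 34927) l658 n233))) (.node (nat_lit 35351) (.node (nat_lit 35192) (.node (nat_lit 35086) l661 n234) (.node (nat_lit 35245) l664 n235)) (.node (nat_lit 35510) (.node (nat_lit 35404) l667 n236) (.node (nat_lit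 35563) l670 n237)))))
noncomputable def n239 : T := (.node (nat_lit 35775) l674 l675)
noncomputable def n240 : T := (.node (nat_lit 35934) l677 l678)
noncomputable def n241 : T := (.node (nat_lit 36093) l680 l681)
noncomputable def n242 : T := (.node (nat_lit 36252) l683 l684)
noncomputable def n243 : T := (.node (nat_lit 36411) l686 l687)
noncomputable def n244 : T := (.node (nat_lit 36570) l689 l690)
noncomputable def n245 : T := (.node (nat_lit 36729) l692 l693)
noncomputable def n246 : T := (.node (nat_lit 36888) l695 l696)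
noncomputable def n247 : T := (.node (nat_lit 37047) l698 l699)
noncomputable def n248 : T := (.node (nat_lit 37206) l701 l702)
noncomputable def n249 : T := (.node (nat_lit 37365) l704 l705)
noncomputable def n250 : T := (.node (nat_lit 37524) l707 l708)
noncomputable def n251 : T := (.node (nat_lit 37683) l710 l711)
noncomputable def n252 : T := (.node (nat_lit 37842) l713 l714)
noncomputable def n253 : T := (.node (nat_lit 38001) l716 l717)
noncomputable def n254 : T := (.node (nat_lit 38160) l719 l720)
noncomputable def n255 : T := (.node (nat_lit 36941) (.node (nat_lit 36305) (.node (nat_lit 35987) (.node (nat_lit 35828) (.node (nat_lit 35722) l673 n239) (.node (nat_lit 35881) l676 n240)) (.node (nat_lit 36146) (.node (nat_lit 36040) l679 n241) (.node (nat_lit 36199) l682 n242))) (.node (nat_lit 36623) (.node (nat_lit 36464) (.node (nat_lit 36358) l685 n243) (.node (nat_lit 36517) l688 n244)) (.node (nat_lit 36782) (.node (nat_lit 36676) l691 n245) (.node (nat_lit 36835) l694 n246)))) (.node (nat_lit 37577) (.node (nat_lit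 37259) (.node (nat_lit 37100) (.node (nat_lit 36994) l697 n247) (.node (nat_lit 37153) l700 n248)) (.node (nat_lit 37418) (.node (nat_lit 37312) l703 n249) (.node (nat_lit 37471) l706 n250))) (.node (nat_lit 37895) (.node (nat_lit 37736) (.node (nat_lit 37630) l709 n251) (.node (nat_lit 37789) l712 n252)) (.node (nat_lit 38054) (.node (nat_lit 37948) l715 n253) (.node (nat_lit 38107) l718 n254)))))
noncomputable def n256 : T := (.node (nat_lit 38319) l722 l723)
noncomputable def n257 : T := (.node (nat_lit 38478) l725 l726)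
noncomputable def n258 : T := (.node (nat_lit 38637) l728 l729)
noncomputable def n259 : T := (.node (nat_lit 38796) l731 l732)
noncomputable def n260 : T := (.node (nat_lit 38955) l734 l735)
noncomputable def n261 : T := (.node (nat_lit 39114) l737 l738)
noncomputable def n262 : T := (.node (nat_lit 39273) l740 l741)
noncomputable def n263 : T := (.node (nat_lit 39432) l743 l744)
noncomputable def n264 : T := (.node (nat_lit 39591) l746 l747)
noncomputable def n265 : T := (.node (nat_lit 39750) l749 l750)
noncomputable def n266 : T := (.node (nat_lit 39909) l752 l753)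
noncomputable def n267 : T := (.node (nat_lit 40068) l755 l756)
noncomputable def n268 : T := (.node (nat_lit 40227) l758 l759)
noncomputable def n269 : T := (.node (nat_lit 40386) l761 l762)
noncomputable def n270 : T := (.node (nat_lit 40545) l764 l765)
noncomputable def n271 : T := (.node (nat_lit 40651) l766 l767)
noncomputable def n272 : T := (.node (nat_lit 40757) l768 l769)
noncomputable def n273 : T := (.node (nat_lit 39485) (.node (nat_lit 38849) (.node (nat_lit 38531) (.node (nat_lit 38372) (.node (nat_lit 38266) l721 n256) (.node (nat_lit 38425) l724 n257)) (.node (nat_lit 38690) (.node (nat_lit 38584) l727 n258) (.node (nat_lit 38743) l730 n259))) (.node (nat_lit 39167) (.node (nat_lit 39008) (.node (nat_lit 38902) l733 n260) (.node (nat_lit 39061) l736 n261)) (.node (nat_lit 39326) (.node (nat_lit 39220) l739 n262) (.node (nat_lit 39379) l742 n263)))) (.node (nat_lit 40121) (.node (nat_lit 39803) (.node (nat_lit 39644) (.node (nat_lit 39538) l745 n264) (.node (nat_lit 39697) l748 n265)) (.node (nat_lit 39962)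 (.node (nat_lit 39856) l751 n266) (.node (nat_lit 40015) l754 n267))) (.node (nat_lit 40439) (.node (nat_lit 40280) (.node (nat_lit 40174) l757 n268) (.node (nat_lit 40333) l760 n269)) (.node (nat_lit 40598) (.node (nat_lit 40492) l763 n270) (.node (nat_lit 40704) n271 n272)))))
noncomputable def n274 : T := (.node (nat_lit 40916) l771 l772)
noncomputable def n275 : T := (.node (nat_lit 41075) l774 l775)
noncomputable def n276 : T := (.node (nat_lit 41234) l777 l778)
noncomputable def n277 : T := (.node (nat_lit 41393) l780 l781)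
noncomputable def n278 : T := (.node (nat_lit 41552) l783 l784)
noncomputable def n279 : T := (.node (nat_lit 41711) l786 l787)
noncomputable def n280 : T := (.node (nat_lit 41870) l789 l790)
noncomputable def n281 : T := (.node (nat_lit 42029) l792 l793)
noncomputable def n282 : T := (.node (nat_lit 42188) l795 l796)
noncomputable def n283 : T := (.node (nat_lit 42347) l798 l799)
noncomputable def n284 : T := (.node (nat_lit 42506) l801 l802)
noncomputable def n285 : T := (.node (nat_lit 42665) l804 l805)
noncomputable def n286 : T := (.node (nat_lit 42824) l807 l808)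
noncomputable def n287 : T := (.node (nat_lit 42983) l810 l811)
noncomputable def n288 : T := (.node (nat_lit 43142) l813 l814)
noncomputable def n289 : T := (.node (nat_lit 43301) l816 l817)
noncomputable def n290 : T := (.node (nat_lit 42082) (.node (nat_lit 41446) (.node (nat_lit 41128) (.node (nat_lit 40969) (.node (nat_lit 40863) l770 n274) (.node (nat_lit 41022) l773 n275)) (.node (nat_lit 41287) (.node (nat_lit 41181) l776 n276) (.node (nat_lit 41340) l779 n277))) (.node (nat_lit 41764) (.node (nat_lit 41605) (.node (nat_lit 41499) l782 n278) (.node (nat_lit 41658) l785 n279)) (.node (nat_lit 41923) (.node (nat_lit 41817) l788 n280) (.node (nat_lit 41976) l791 n281)))) (.node (nat_lit 42718) (.node (nat_lit 42400) (.node (nat_lit 42241) (.node (nat_lit 42135) l794 n282) (.node (nat_lit 42294) l797 n283)) (.node (nat_lit 42559) (.node (nat_lit 42453) l800 n284) (.node (nat_lit 42612) l803 n285))) (.node (nat_lit 43036) (.node (nat_lit 42877) (.node (nat_lit 42771) l806 n286) (.node (nat_lit 42930) l809 n287)) (.node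 (nat_lit 43195) (.node (nat_lit 43089) l812 n288) (.node (nat_lit 43248) l815 n289)))))
noncomputable def n291 : T := (.node (nat_lit 43460) l819 l820)
noncomputable def n292 : T := (.node (nat_lit 43619) l822 l823)
noncomputable def n293 : T := (.node (nat_lit 43778) l825 l826)
noncomputable def n294 : T := (.node (nat_lit 43937) l828 l829)
noncomputable def n295 : T := (.node (nat_lit 44096) l831 l832)
noncomputable def n296 : T := (.node (nat_lit 44255) l834 l835)
noncomputable def n297 : T := (.node (nat_lit 44414) l837 l838)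
noncomputable def n298 : T := (.node (nat_lit 44573) l840 l841)
noncomputable def n299 : T := (.node (nat_lit 44732) l843 l844)
noncomputable def n300 : T := (.node (nat_lit 44891) l846 l847)
noncomputable def n301 : T := (.node (nat_lit 45050) l849 l850)
noncomputable def n302 : T := (.node (nat_lit 45209) l852 l853)
noncomputable def n303 : T := (.node (nat_lit 45368) l855 l856)
noncomputable def n304 : T := (.node (nat_lit 45527) l858 l859)
noncomputable def n305 : T := (.node (nat_lit 45686) l861 l862)
noncomputable def n306 : T := (.node (nat_lit 45845) l864 l865)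
noncomputable def n307 : T := (.node (nat_lit 44626) (.node (nat_lit 43990) (.node (nat_lit 43672) (.node (nat_lit 43513) (.node (nat_lit 43407) l818 n291) (.node (nat_lit 43566) l821 n292)) (.node (nat_lit 43831) (.node (nat_lit 43725) l824 n293) (.node (nat_lit 43884) l827 n294))) (.node (nat_lit 44308) (.node (nat_lit 44149) (.node (nat_lit 44043) l830 n295) (.node (nat_lit 44202) l833 n296)) (.node (nat_lit 44467) (.node (nat_lit 44361) l836 n297) (.node (nat_lit 44520) l839 n298)))) (.node (nat_lit 45262) (.node (nat_lit 44944) (.node (nat_lit 44785) (.node (nat_lit 44679) l842 n299) (.node (nat_lit 44838) l845 n300)) (.node (nat_lit 45103) (.node (nat_lit 44997) l848 n301) (.node (nat_lit 45156) l851 n302))) (.node (nat_lit 45580) (.node (nat_lit 45421) (.node (nat_lit 45315) l854 n303) (.node (nat_lit 45474) l857 n304)) (.node (nat_lit 45739) (.node (nat_lit 45633) l860 n305) (.node (nat_lit 45792) l863 n306)))))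
noncomputable def n308 : T := (.node (nat_lit 46004) l867 l868)
noncomputable def n309 : T := (.node (nat_lit 46163) l870 l871)
noncomputable def n310 : T := (.node (nat_lit 46322) l873 l874)
noncomputable def n311 : T := (.node (nat_lit 46481) l876 l877)
noncomputable def n312 : T := (.node (nat_lit 46640) l879 l880)
noncomputable def n313 : T := (.node (nat_lit 46799) l882 l883)
noncomputable def n314 : T := (.node (nat_lit 46958) l885 l886)
noncomputable def n315 : T := (.node (nat_lit 47117) l888 l889)
noncomputable def n316 : T := (.node (nat_lit 47276) l891 l892)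
noncomputable def n317 : T := (.node (nat_lit 47435) l894 l895)
noncomputable def n318 : T := (.node (nat_lit 47594) l897 l898)
noncomputable def n319 : T := (.node (nat_lit 47753) l900 l901)
noncomputable def n320 : T := (.node (nat_lit 47912) l903 l904)
noncomputable def n321 : T := (.node (nat_lit 48071) l906 l907)
noncomputable def n322 : T := (.node (nat_lit 48230) l909 l910)
noncomputable def n323 : T := (.node (nat_lit 48389) l912 l913)
noncomputable def n324 : T := (.node (nat_lit 47170) (.node (nat_lit 46534) (.node (nat_lit 46216) (.node (nat_lit 46057) (.node (nat_lit 45951) l866 n308) (.node (nat_lit 46110) l869 n309)) (.node (nat_lit 46375) (.node (nat_lit 46269) l872 n310) (.node (nat_lit 46428) l875 n311))) (.node (nat_lit 46852) (.node (nat_lit 46693) (.node (nat_lit 46587) l878 n312) (.node (nat_lit 46746) l881 n313)) (.node (nat_lit 47011) (.node (nat_lit 46905) l884 n314) (.node (nat_lit 47064) l887 n315)))) (.node (nat_lit 47806) (.node (nat_lit 47488) (.node (nat_lit 47329) (.node (nat_lit 47223) l890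 n316) (.node (nat_lit 47382) l893 n317)) (.node (nat_lit 47647) (.node (nat_lit 47541) l896 n318) (.node (nat_lit 47700) l899 n319))) (.node (nat_lit 48124) (.node (nat_lit 47965) (.node (nat_lit 47859) l902 n320) (.node (nat_lit 48018) l905 n321)) (.node (nat_lit 48283) (.node (nat_lit 48177) l908 n322) (.node (nat_lit 48336) l911 n323)))))
noncomputable def n325 : T := (.node (nat_lit 48548) l915 l916)
noncomputable def n326 : T := (.node (nat_lit 48707) l918 l919)
noncomputable def n327 : T := (.node (nat_lit 48866) l921 l922)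
noncomputable def n328 : T := (.node (nat_lit 49025) l924 l925)
noncomputable def n329 : T := (.node (nat_lit 49184) l927 l928)
noncomputable def n330 : T := (.node (nat_lit 49343) l930 l931)
noncomputable def n331 : T := (.node (nat_lit 49502) l933 l934)
noncomputable def n332 : T := (.node (nat_lit 49661) l936 l937)
noncomputable def n333 : T := (.node (nat_lit 49820) l939 l940)
noncomputable def n334 : T := (.node (nat_lit 49979) l942 l943)
noncomputable def n335 : T := (.node (nat_lit 50138) l945 l946)
noncomputable def n336 : T := (.node (nat_lit 50297) l948 l949)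
noncomputable def n337 : T := (.node (nat_lit 50456) l951 l952)
noncomputable def n338 : T := (.node (nat_lit 50615) l954 l955)
noncomputable def n339 : T := (.node (nat_lit 50774) l957 l958)
noncomputable def n340 : T := (.node (nat_lit 50933) l960 l961)
noncomputable def n341 : T := (.node (nat_lit 49714) (.node (nat_lit 49078) (.node (nat_lit 48760) (.node (nat_lit 48601) (.node (nat_lit 48495) l914 n325) (.node (nat_lit 48654) l917 n326)) (.node (nat_lit 48919) (.node (nat_lit 48813) l920 n327) (.node (nat_lit 48972) l923 n328))) (.node (nat_lit 49396) (.node (nat_lit 49237) (.node (nat_lit 49131) l926 n329) (.node (nat_lit 49290) l929 n330)) (.node (nat_lit 49555) (.node (nat_lit 49449) l932 n331) (.node (nat_lit 49608) l935 n332)))) (.node (nat_lit 50350) (.node (nat_lit 50032) (.node (nat_lit 49873) (.node (nat_lit 49767) l938 n333) (.node (nat_lit 49926) l941 n334)) (.node (nat_lit 50191) (.node (nat_lit 50085) l944 n335) (.node (nat_lit 50244) l947 n336))) (.node (nat_lit 50668) (.node (nat_lit 50509) (.node (nat_lit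 50403) l950 n337) (.node (nat_lit 50562) l953 n338)) (.node (nat_lit 50827) (.node (nat_lit 50721) l956 n339) (.node (nat_lit 50880) l959 n340)))))
noncomputable def n342 : T := (.node (nat_lit 51092) l963 l964)
noncomputable def n343 : T := (.node (nat_lit 51251) l966 l967)
noncomputable def n344 : T := (.node (nat_lit 51410) l969 l970)
noncomputable def n345 : T := (.node (nat_lit 51569) l972 l973)
noncomputable def n346 : T := (.node (nat_lit 51728) l975 l976)
noncomputable def n347 : T := (.node (nat_lit 51887) l978 l979)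
noncomputable def n348 : T := (.node (nat_lit 52046) l981 l982)
noncomputable def n349 : T := (.node (nat_lit 52205) l984 l985)
noncomputable def n350 : T := (.node (nat_lit 52364) l987 l988)
noncomputable def n351 : T := (.node (nat_lit 52523) l990 l991)
noncomputable def n352 : T := (.node (nat_lit 52682) l993 l994)
noncomputable def n353 : T := (.node (nat_lit 52841) l996 l997)
noncomputable def n354 : T := (.node (nat_lit 53000) l999 l1000)
noncomputable def n355 : T := (.node (nat_lit 53159) l1002 l1003)
noncomputable def n356 : T := (.node (nat_lit 53318) l1005 l1006)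
noncomputable def n357 : T := (.node (nat_lit 53477) l1008 l1009)
noncomputable def n358 : T := (.node (nat_lit 52258) (.node (nat_lit 51622) (.node (nat_lit 51304) (.node (nat_lit 51145) (.node (nat_lit 51039) l962 n342) (.node (nat_lit 51198) l965 n343)) (.node (nat_lit 51463) (.node (nat_lit 51357) l968 n344) (.node (nat_lit 51516) l971 n345))) (.node (nat_lit 51940) (.node (nat_lit 51781) (.node (nat_lit 51675) l974 n346) (.node (nat_lit 51834) l977 n347)) (.node (nat_lit 52099) (.node (nat_lit 51993) l980 n348) (.node (nat_lit 52152) l983 n349)))) (.node (nat_lit 52894) (.node (nat_lit 52576) (.node (nat_lit 52417) (.node (nat_lit 52311) l986 n350) (.node (nat_lit 52470) l989 n351)) (.node (nat_lit 52735) (.node (nat_lit 52629) l992 n352) (.node (nat_lit 52788) l995 n353))) (.node (nat_lit 53212) (.node (nat_lit 53053) (.node (nat_lit 52947) l998 n354) (.node (nat_lit 53106) l1001 n355)) (.node (nat_lit 53371) (.node (nat_lit 53265) l1004 n356) (.node (nat_lit 53424) l1007 n357)))))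
noncomputable def n359 : T := (.node (nat_lit 53636) l1011 l1012)
noncomputable def n360 : T := (.node (nat_lit 53795) l1014 l1015)
noncomputable def n361 : T := (.node (nat_lit 53954) l1017 l1018)
noncomputable def n362 : T := (.node (nat_lit 54113) l1020 l1021)
noncomputable def n363 : T := (.node (nat_lit 54272) l1023 l1024)
noncomputable def n364 : T := (.node (nat_lit 54431) l1026 l1027)
noncomputable def n365 : T := (.node (nat_lit 54590) l1029 l1030)
noncomputable def n366 : T := (.node (nat_lit 54749) l1032 l1033)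
noncomputable def n367 : T := (.node (nat_lit 54908) l1035 l1036)
noncomputable def n368 : T := (.node (nat_lit 55067) l1038 l1039)
noncomputable def n369 : T := (.node (nat_lit 55226) l1041 l1042)
noncomputable def n370 : T := (.node (nat_lit 55385) l1044 l1045)
noncomputable def n371 : T := (.node (nat_lit 55544) l1047 l1048)
noncomputable def n372 : T := (.node (nat_lit 55703) l1050 l1051)
noncomputable def n373 : T := (.node (nat_lit 55862) l1053 l1054)
noncomputable def n374 : T := (.node (nat_lit 56021) l1056 l1057)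
noncomputable def n375 : T := (.node (nat_lit 54802) (.node (nat_lit 54166) (.node (nat_lit 53848) (.node (nat_lit 53689) (.node (nat_lit 53583) l1010 n359) (.node (nat_lit 53742) l1013 n360)) (.node (nat_lit 54007) (.node (nat_lit 53901) l1016 n361) (.node (nat_lit 54060) l1019 n362))) (.node (nat_lit 54484) (.node (nat_lit 54325) (.node (nat_lit 54219) l1022 n363) (.node (nat_lit 54378) l1025 n364)) (.node (nat_lit 54643) (.node (nat_lit 54537) l1028 n365) (.node (nat_lit 54696) l1031 n366)))) (.node (nat_lit 55438) (.node (nat_lit 55120) (.node (nat_lit 54961) (.node (nat_lit 54855) l1034 n367) (.node (nat_lit 55014) l1037 n368)) (.node (nat_lit 55279) (.node (nat_lit 55173) l1040 n369) (.node (nat_lit 55332) l1043 n370))) (.node (nat_lit 55756) (.node (nat_lit 55597) (.node (nat_lit 55491) l1046 n371) (.node (nat_lit 55650) l1049 n372)) (.node (nat_lit 55915) (.node (nat_lit 55809) l1052 n373) (.node (nat_lit 55968) l1055 n374)))))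
noncomputable def n376 : T := (.node (nat_lit 56180) l1059 l1060)
noncomputable def n377 : T := (.node (nat_lit 56339) l1062 l1063)
noncomputable def n378 : T := (.node (nat_lit 56498) l1065 l1066)
noncomputable def n379 : T := (.node (nat_lit 56657) l1068 l1069)
noncomputable def n380 : T := (.node (nat_lit 56816) l1071 l1072)
noncomputable def n381 : T := (.node (nat_lit 56975) l1074 l1075)
noncomputable def n382 : T := (.node (nat_lit 57134) l1077 l1078)
noncomputable def n383 : T := (.node (nat_lit 57293) l1080 l1081)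
noncomputable def n384 : T := (.node (nat_lit 57452) l1083 l1084)
noncomputable def n385 : T := (.node (nat_lit 57611) l1086 l1087)
noncomputable def n386 : T := (.node (nat_lit 57770) l1089 l1090)
noncomputable def n387 : T := (.node (nat_lit 57929) l1092 l1093)
noncomputable def n388 : T := (.node (nat_lit 58088) l1095 l1096)
noncomputable def n389 : T := (.node (nat_lit 58247) l1098 l1099)
noncomputable def n390 : T := (.node (nat_lit 58406) l1101 l1102)
noncomputable def n391 : T := (.node (nat_lit 58565) l1104 l1105)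
noncomputable def n392 : T := (.node (nat_lit 57346) (.node (nat_lit 56710) (.node (nat_lit 56392) (.node (nat_lit 56233) (.node (nat_lit 56127) l1058 n376) (.node (nat_lit 56286) l1061 n377)) (.node (nat_lit 56551) (.node (nat_lit 56445) l1064 n378) (.node (nat_lit 56604) l1067 n379))) (.node (nat_lit 57028) (.node (nat_lit 56869) (.node (nat_lit 56763) l1070 n380) (.node (nat_lit 56922) l1073 n381)) (.node (nat_lit 57187) (.node (nat_lit 57081) l1076 n382) (.node (nat_lit 57240) l1079 n383)))) (.node (nat_lit 57982) (.node (nat_lit 57664) (.node (nat_lit 57505) (.node (nat_lit 57399) l1082 n384) (.node (nat_lit 57558) l1085 n385)) (.node (nat_lit 57823) (.node (nat_lit 57717) l1088 n386) (.node (nat_lit 57876) l1091 n387))) (.node (nat_lit 58300) (.node (nat_lit 58141) (.node (nat_lit 58035) l1094 n388) (.node (nat_lit 58194) l1097 n389)) (.node (nat_lit 58459) (.node (nat_lit 58353) l1100 n390) (.node (nat_lit 58512) l1103 n391)))))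
noncomputable def n393 : T := (.node (nat_lit 58724) l1107 l1108)
noncomputable def n394 : T := (.node (nat_lit 58883) l1110 l1111)
noncomputable def n395 : T := (.node (nat_lit 59042) l1113 l1114)
noncomputable def n396 : T := (.node (nat_lit 59201) l1116 l1117)
noncomputable def n397 : T := (.node (nat_lit 59360) l1119 l1120)
noncomputable def n398 : T := (.node (nat_lit 59519) l1122 l1123)
noncomputable def n399 : T := (.node (nat_lit 59678) l1125 l1126)
noncomputable def n400 : T := (.node (nat_lit 59837) l1128 l1129)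
noncomputable def n401 : T := (.node (nat_lit 59996) l1131 l1132)
noncomputable def n402 : T := (.node (nat_lit 60155) l1134 l1135)
noncomputable def n403 : T := (.node (nat_lit 60314) l1137 l1138)
noncomputable def n404 : T := (.node (nat_lit 60473) l1140 l1141)
noncomputable def n405 : T := (.node (nat_lit 60632) l1143 l1144)
noncomputable def n406 : T := (.node (nat_lit 60791) l1146 l1147)
noncomputable def n407 : T := (.node (nat_lit 60950) l1149 l1150)
noncomputable def n408 : T := (.node (nat_lit 61056) l1151 l1152)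
noncomputable def n409 : T := (.node (nat_lit 61162) l1153 l1154)
noncomputable def n410 : T := (.node (nat_lit 59890) (.node (nat_lit 59254) (.node (nat_lit 58936) (.node (nat_lit 58777) (.node (nat_lit 58671) l1106 n393) (.node (nat_lit 58830) l1109 n394)) (.node (nat_lit 59095) (.node (nat_lit 58989) l1112 n395) (.node (nat_lit 59148) l1115 n396))) (.node (nat_lit 59572) (.node (nat_lit 59413) (.node (nat_lit 59307) l1118 n397) (.node (nat_lit 59466) l1121 n398)) (.node (nat_lit 59731) (.node (nat_lit 59625) l1124 n399) (.node (nat_lit 59784) l1127 n400)))) (.node (nat_lit 60526) (.node (nat_lit 60208) (.node (nat_lit 60049) (.node (nat_lit 59943) l1130 n401) (.node (nat_lit 60102) l1133 n402)) (.node (nat_lit 60367) (.node (nat_lit 60261) l1136 n403) (.node (nat_lit 60420) l1139 n404))) (.node (nat_lit 60844) (.node (nat_lit 60685) (.node (nat_lit 60579) l1142 n405) (.node (nat_lit 60738) l1145 n406)) (.node (nat_lit 61003) (.node (nat_lit 60897) l1148 n407) (.node (nat_lit 61109) n408 n409)))))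
noncomputable def n411 : T := (.node (nat_lit 61321) l1156 l1157)
noncomputable def n412 : T := (.node (nat_lit 61480) l1159 l1160)
noncomputable def n413 : T := (.node (nat_lit 61639) l1162 l1163)
noncomputable def n414 : T := (.node (nat_lit 61798) l1165 l1166)
noncomputable def n415 : T := (.node (nat_lit 61957) l1168 l1169)
noncomputable def n416 : T := (.node (nat_lit 62116) l1171 l1172)
noncomputable def n417 : T := (.node (nat_lit 62275) l1174 l1175)
noncomputable def n418 : T := (.node (nat_lit 62434) l1177 l1178)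
noncomputable def n419 : T := (.node (nat_lit 62593) l1180 l1181)
noncomputable def n420 : T := (.node (nat_lit 62752) l1183 l1184)
noncomputable def n421 : T := (.node (nat_lit 62911) l1186 l1187)
noncomputable def n422 : T := (.node (nat_lit 63070) l1189 l1190)
noncomputable def n423 : T := (.node (nat_lit 63229) l1192 l1193)
noncomputable def n424 : T := (.node (nat_lit 63388) l1195 l1196)
noncomputable def n425 : T := (.node (nat_lit 63547) l1198 l1199)
noncomputable def n426 : T := (.node (nat_lit 63706) l1201 l1202)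
noncomputable def n427 : T := (.node (nat_lit 62487) (.node (nat_lit 61851) (.node (nat_lit 61533) (.node (nat_lit 61374) (.node (nat_lit 61268) l1155 n411) (.node (nat_lit 61427) l1158 n412)) (.node (nat_lit 61692) (.node (nat_lit 61586) l1161 n413) (.node (nat_lit 61745) l1164 n414))) (.node (nat_lit 62169) (.node (nat_lit 62010) (.node (nat_lit 61904) l1167 n415) (.node (nat_lit 62063) l1170 n416)) (.node (nat_lit 62328) (.node (nat_lit 62222) l1173 n417) (.node (nat_lit 62381) l1176 n418)))) (.node (nat_lit 63123) (.node (nat_lit 62805) (.node (nat_lit 62646) (.node (nat_lit 62540) l1179 n419) (.node (nat_lit 62699) l1182 n420)) (.node (nat_lit 62964) (.node (nat_lit 62858) l1185 n421) (.node (nat_lit 63017) l1188 n422))) (.node (nat_lit 63441) (.node (nat_lit 63282) (.node (nat_lit 63176) l1191 n423) (.node (nat_lit 63335) l1194 n424)) (.node (nat_lit 63600) (.node (nat_lit 63494) l1197 n425) (.node (nat_lit 63653) l1200 n426)))))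
noncomputable def n428 : T := (.node (nat_lit 63865) l1204 l1205)
noncomputable def n429 : T := (.node (nat_lit 64024) l1207 l1208)
noncomputable def n430 : T := (.node (nat_lit 64183) l1210 l1211)
noncomputable def n431 : T := (.node (nat_lit 64342) l1213 l1214)
noncomputable def n432 : T := (.node (nat_lit 64501) l1216 l1217)
noncomputable def n433 : T := (.node (nat_lit 64660) l1219 l1220)
noncomputable def n434 : T := (.node (nat_lit 64819) l1222 l1223)
noncomputable def n435 : T := (.node (nat_lit 64978) l1225 l1226)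
noncomputable def n436 : T := (.node (nat_lit 65137) l1228 l1229)
noncomputable def n437 : T := (.node (nat_lit 65296) l1231 l1232)
noncomputable def n438 : T := (.node (nat_lit 65455) l1234 l1235)
noncomputable def n439 : T := (.node (nat_lit 65614) l1237 l1238)
noncomputable def n440 : T := (.node (nat_lit 65773) l1240 l1241)
noncomputable def n441 : T := (.node (nat_lit 65932) l1243 l1244)
noncomputable def n442 : T := (.node (nat_lit 66091) l1246 l1247)
noncomputable def n443 : T := (.node (nat_lit 66250) l1249 l1250)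
noncomputable def n444 : T := (.node (nat_lit 65031) (.node (nat_lit 64395) (.node (nat_lit 64077) (.node (nat_lit 63918) (.node (nat_lit 63812) l1203 n428) (.node (nat_lit 63971) l1206 n429)) (.node (nat_lit 64236) (.node (nat_lit 64130) l1209 n430) (.node (nat_lit 64289) l1212 n431))) (.node (nat_lit 64713) (.node (nat_lit 64554) (.node (nat_lit 64448) l1215 n432) (.node (nat_lit 64607) l1218 n433)) (.node (nat_lit 64872) (.node (nat_lit 64766) l1221 n434) (.node (nat_lit 64925) l1224 n435)))) (.node (nat_lit 65667) (.node (nat_lit 65349) (.node (nat_lit 65190) (.node (nat_lit 65084) l1227 n436) (.node (nat_lit 65243) l1230 n437)) (.node (nat_lit 65508) (.node (nat_lit 65402) l1233 n438) (.node (nat_lit 65561) l1236 n439))) (.node (nat_lit 65985) (.node (nat_lit 65826) (.node (nat_lit 65720) l1239 n440) (.node (nat_lit 65879) l1242 n441)) (.node (nat_lit 66144) (.node (nat_lit 66038) l1245 n442) (.node (nat_lit 66197) l1248 n443)))))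
noncomputable def n445 : T := (.node (nat_lit 66409) l1252 l1253)
noncomputable def n446 : T := (.node (nat_lit 66568) l1255 l1256)
noncomputable def n447 : T := (.node (nat_lit 66727) l1258 l1259)
noncomputable def n448 : T := (.node (nat_lit 66886) l1261 l1262)
noncomputable def n449 : T := (.node (nat_lit 67045) l1264 l1265)
noncomputable def n450 : T := (.node (nat_lit 67204) l1267 l1268)
noncomputable def n451 : T := (.node (nat_lit 67363) l1270 l1271)
noncomputable def n452 : T := (.node (nat_lit 67522) l1273 l1274)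
noncomputable def n453 : T := (.node (nat_lit 67681) l1276 l1277)
noncomputable def n454 : T := (.node (nat_lit 67840) l1279 l1280)
noncomputable def n455 : T := (.node (nat_lit 67999) l1282 l1283)
noncomputable def n456 : T := (.node (nat_lit 68158) l1285 l1286)
noncomputable def n457 : T := (.node (nat_lit 68317) l1288 l1289)
noncomputable def n458 : T := (.node (nat_lit 68476) l1291 l1292)
noncomputable def n459 : T := (.node (nat_lit 68635) l1294 l1295)
noncomputable def n460 : T := (.node (nat_lit 68794) l1297 l1298)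
noncomputable def n461 : T := (.node (nat_lit 67575) (.node (nat_lit 66939) (.node (nat_lit 66621) (.node (nat_lit 66462) (.node (nat_lit 66356) l1251 n445) (.node (nat_lit 66515) l1254 n446)) (.node (nat_lit 66780) (.node (nat_lit 66674) l1257 n447) (.node (nat_lit 66833) l1260 n448))) (.node (nat_lit 67257) (.node (nat_lit 67098) (.node (nat_lit 66992) l1263 n449) (.node (nat_lit 67151) l1266 n450)) (.node (nat_lit 67416) (.node (nat_lit 67310) l1269 n451) (.node (nat_lit 67469) l1272 n452)))) (.node (nat_lit 68211) (.node (nat_lit 67893) (.node (nat_lit 67734) (.node (nat_lit 67628) l1275 n453) (.node (nat_lit 67787) l1278 n454)) (.node (nat_lit 68052) (.node (nat_lit 67946) l1281 n455) (.node (nat_lit 68105) l1284 n456))) (.node (nat_lit 68529) (.node (nat_lit 68370) (.node (nat_lit 68264) l1287 n457) (.node (nat_lit 68423) l1290 n458)) (.node (nat_lit 68688) (.node (nat_lit 68582) l1293 n459) (.node (nat_lit 68741) l1296 n460)))))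
noncomputable def n462 : T := (.node (nat_lit 68953) l1300 l1301)
noncomputable def n463 : T := (.node (nat_lit 69112) l1303 l1304)
noncomputable def n464 : T := (.node (nat_lit 69271) l1306 l1307)
noncomputable def n465 : T := (.node (nat_lit 69430) l1309 l1310)
noncomputable def n466 : T := (.node (nat_lit 69589) l1312 l1313)
noncomputable def n467 : T := (.node (nat_lit 69748) l1315 l1316)
noncomputable def n468 : T := (.node (nat_lit 69907) l1318 l1319)
noncomputable def n469 : T := (.node (nat_lit 70066) l1321 l1322)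
noncomputable def n470 : T := (.node (nat_lit 70225) l1324 l1325)
noncomputable def n471 : T := (.node (nat_lit 70384) l1327 l1328)
noncomputable def n472 : T := (.node (nat_lit 70543) l1330 l1331)
noncomputable def n473 : T := (.node (nat_lit 70702) l1333 l1334)
noncomputable def n474 : T := (.node (nat_lit 70861) l1336 l1337)
noncomputable def n475 : T := (.node (nat_lit 71020) l1339 l1340)
noncomputable def n476 : T := (.node (nat_lit 71179) l1342 l1343)
noncomputable def n477 : T := (.node (nat_lit 71338) l1345 l1346)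
noncomputable def n478 : T := (.node (nat_lit 70119) (.node (nat_lit 69483) (.node (nat_lit 69165) (.node (nat_lit 69006) (.node (nat_lit 68900) l1299 n462) (.node (nat_lit 69059) l1302 n463)) (.node (nat_lit 69324) (.node (nat_lit 69218) l1305 n464) (.node (nat_lit 69377) l1308 n465))) (.node (nat_lit 69801) (.node (nat_lit 69642) (.node (nat_lit 69536) l1311 n466) (.node (nat_lit 69695) l1314 n467)) (.node (nat_lit 69960) (.node (nat_lit 69854) l1317 n468) (.node (nat_lit 70013) l1320 n469)))) (.node (nat_lit 70755) (.node (nat_lit 70437) (.node (nat_lit 70278) (.node (nat_lit 70172) l1323 n470) (.node (nat_lit 70331) l1326 n471)) (.node (nat_lit 70596) (.node (nat_lit 70490) l1329 n472) (.node (nat_lit 70649) l1332 n473))) (.node (nat_lit 71073) (.node (nat_lit 70914) (.node (nat_lit 70808) l1335 n474) (.node (nat_lit 70967) l1338 n475)) (.node (nat_lit 71232) (.node (nat_lit 71126) l1341 n476) (.node (nat_lit 71285) l1344 n477)))))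
noncomputable def n479 : T := (.node (nat_lit 71497) l1348 l1349)
noncomputable def n480 : T := (.node (nat_lit 71656) l1351 l1352)
noncomputable def n481 : T := (.node (nat_lit 71815) l1354 l1355)
noncomputable def n482 : T := (.node (nat_lit 71974) l1357 l1358)
noncomputable def n483 : T := (.node (nat_lit 72133) l1360 l1361)
noncomputable def n484 : T := (.node (nat_lit 72292) l1363 l1364)
noncomputable def n485 : T := (.node (nat_lit 72451) l1366 l1367)
noncomputable def n486 : T := (.node (nat_lit 72610) l1369 l1370)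
noncomputable def n487 : T := (.node (nat_lit 72769) l1372 l1373)
noncomputable def n488 : T := (.node (nat_lit 72928) l1375 l1376)
noncomputable def n489 : T := (.node (nat_lit 73087) l1378 l1379)
noncomputable def n490 : T := (.node (nat_lit 73246) l1381 l1382)
noncomputable def n491 : T := (.node (nat_lit 73405) l1384 l1385)
noncomputable def n492 : T := (.node (nat_lit 73564) l1387 l1388)
noncomputable def n493 : T := (.node (nat_lit 73723) l1390 l1391)
noncomputable def n494 : T := (.node (nat_lit 73882) l1393 l1394)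
noncomputable def n495 : T := (.node (nat_lit 72663) (.node (nat_lit 72027) (.node (nat_lit 71709) (.node (nat_lit 71550) (.node (nat_lit 71444) l1347 n479) (.node (nat_lit 71603) l1350 n480)) (.node (nat_lit 71868) (.node (nat_lit 71762) l1353 n481) (.node (nat_lit 71921) l1356 n482))) (.node (nat_lit 72345) (.node (nat_lit 72186) (.node (nat_lit 72080) l1359 n483) (.node (nat_lit 72239) l1362 n484)) (.node (nat_lit 72504) (.node (nat_lit 72398) l1365 n485) (.node (nat_lit 72557) l1368 n486)))) (.node (nat_lit 73299) (.node (nat_lit 72981) (.node (nat_lit 72822) (.node (nat_lit 72716) l1371 n487) (.node (nat_lit 72875) l1374 n488)) (.node (nat_lit 73140) (.node (nat_lit 73034) l1377 n489) (.node (nat_lit 73193) l1380 n490))) (.node (nat_lit 73617) (.node (nat_lit 73458) (.node (nat_lit 73352) l1383 n491) (.node (nat_lit 73511) l1386 n492)) (.node (nat_lit 73776) (.node (nat_lit 73670) l1389 n493) (.node (nat_lit 73829) l1392 n494)))))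
noncomputable def n496 : T := (.node (nat_lit 74041) l1396 l1397)
noncomputable def n497 : T := (.node (nat_lit 74200) l1399 l1400)
noncomputable def n498 : T := (.node (nat_lit 74359) l1402 l1403)
noncomputable def n499 : T := (.node (nat_lit 74518) l1405 l1406)
noncomputable def n500 : T := (.node (nat_lit 74677) l1408 l1409)
noncomputable def n501 : T := (.node (nat_lit 74836) l1411 l1412)
noncomputable def n502 : T := (.node (nat_lit 74995) l1414 l1415)
noncomputable def n503 : T := (.node (nat_lit 75154) l1417 l1418)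
noncomputable def n504 : T := (.node (nat_lit 75313) l1420 l1421)
noncomputable def n505 : T := (.node (nat_lit 75472) l1423 l1424)
noncomputable def n506 : T := (.node (nat_lit 75631) l1426 l1427)
noncomputable def n507 : T := (.node (nat_lit 75790) l1429 l1430)
noncomputable def n508 : T := (.node (nat_lit 75949) l1432 l1433)
noncomputable def n509 : T := (.node (nat_lit 76108) l1435 l1436)
noncomputable def n510 : T := (.node (nat_lit 76267) l1438 l1439)
noncomputable def n511 : T := (.node (nat_lit 76426) l1441 l1442)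
noncomputable def n512 : T := (.node (nat_lit 75207) (.node (nat_lit 74571) (.node (nat_lit 74253) (.node (nat_lit 74094) (.node (nat_lit 73988) l1395 n496) (.node (nat_lit 74147) l1398 n497)) (.node (nat_lit 74412) (.node (nat_lit 74306) l1401 n498) (.node (nat_lit 74465) l1404 n499))) (.node (nat_lit 74889) (.node (nat_lit 74730) (.node (nat_lit 74624) l1407 n500) (.node (nat_lit 74783) l1410 n501)) (.node (nat_lit 75048) (.node (nat_lit 74942) l1413 n502) (.node (nat_lit 75101) l1416 n503)))) (.node (nat_lit 75843) (.node (nat_lit 75525) (.node (nat_lit 75366) (.node (nat_lit 75260) l1419 n504) (.node (nat_lit 75419) l1422 n505)) (.node (nat_lit 75684) (.node (nat_lit 75578) l1425 n506) (.node (nat_lit 75737) l1428 n507))) (.node (nat_lit 76161) (.node (nat_lit 76002) (.node (nat_lit 75896) l1431 n508) (.node (nat_lit 76055) l1434 n509)) (.node (nat_lit 76320) (.node (nat_lit 76214) l1437 n510) (.node (nat_lit 76373) l1440 n511)))))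
noncomputable def n513 : T := (.node (nat_lit 76585) l1444 l1445)
noncomputable def n514 : T := (.node (nat_lit 76744) l1447 l1448)
noncomputable def n515 : T := (.node (nat_lit 76903) l1450 l1451)
noncomputable def n516 : T := (.node (nat_lit 77062) l1453 l1454)
noncomputable def n517 : T := (.node (nat_lit 77221) l1456 l1457)
noncomputable def n518 : T := (.node (nat_lit 77380) l1459 l1460)
noncomputable def n519 : T := (.node (nat_lit 77539) l1462 l1463)
noncomputable def n520 : T := (.node (nat_lit 77698) l1465 l1466)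
noncomputable def n521 : T := (.node (nat_lit 77857) l1468 l1469)
noncomputable def n522 : T := (.node (nat_lit 78016) l1471 l1472)
noncomputable def n523 : T := (.node (nat_lit 78175) l1474 l1475)
noncomputable def n524 : T := (.node (nat_lit 78334) l1477 l1478)
noncomputable def n525 : T := (.node (nat_lit 78493) l1480 l1481)
noncomputable def n526 : T := (.node (nat_lit 78652) l1483 l1484)
noncomputable def n527 : T := (.node (nat_lit 78811) l1486 l1487)
noncomputable def n528 : T := (.node (nat_lit 78970) l1489 l1490)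
noncomputable def n529 : T := (.node (nat_lit 77751) (.node (nat_lit 77115) (.node (nat_lit 76797) (.node (nat_lit 76638) (.node (nat_lit 76532) l1443 n513) (.node (nat_lit 76691) l1446 n514)) (.node (nat_lit 76956) (.node (nat_lit 76850) l1449 n515) (.node (nat_lit 77009) l1452 n516))) (.node (nat_lit 77433) (.node (nat_lit 77274) (.node (nat_lit 77168) l1455 n517) (.node (nat_lit 77327) l1458 n518)) (.node (nat_lit 77592) (.node (nat_lit 77486) l1461 n519) (.node (nat_lit 77645) l1464 n520)))) (.node (nat_lit 78387) (.node (nat_lit 78069) (.node (nat_lit 77910) (.node (nat_lit 77804) l1467 n521) (.node (nat_lit 77963) l1470 n522)) (.node (nat_lit 78228) (.node (nat_lit 78122) l1473 n523) (.node (nat_lit 78281) l1476 n524))) (.node (nat_lit 78705) (.node (nat_lit 78546) (.node (nat_lit 78440) l1479 n525) (.node (nat_lit 78599) l1482 n526)) (.node (nat_lit 78864) (.node (nat_lit 78758) l1485 n527) (.node (nat_lit 78917) l1488 n528)))))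
noncomputable def n530 : T := (.node (nat_lit 79129) l1492 l1493)
noncomputable def n531 : T := (.node (nat_lit 79288) l1495 l1496)
noncomputable def n532 : T := (.node (nat_lit 79447) l1498 l1499)
noncomputable def n533 : T := (.node (nat_lit 79606) l1501 l1502)
noncomputable def n534 : T := (.node (nat_lit 79765) l1504 l1505)
noncomputable def n535 : T := (.node (nat_lit 79924) l1507 l1508)
noncomputable def n536 : T := (.node (nat_lit 80083) l1510 l1511)
noncomputable def n537 : T := (.node (nat_lit 80242) l1513 l1514)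
noncomputable def n538 : T := (.node (nat_lit 80401) l1516 l1517)
noncomputable def n539 : T := (.node (nat_lit 80560) l1519 l1520)
noncomputable def n540 : T := (.node (nat_lit 80719) l1522 l1523)
noncomputable def n541 : T := (.node (nat_lit 80878) l1525 l1526)
noncomputable def n542 : T := (.node (nat_lit 81037) l1528 l1529)
noncomputable def n543 : T := (.node (nat_lit 81196) l1531 l1532)
noncomputable def n544 : T := (.node (nat_lit 81355) l1534 l1535)
noncomputable def n545 : T := (.node (nat_lit 81461) l1536 l1537)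
noncomputable def n546 : T := (.node (nat_lit 81567) l1538 l1539)
noncomputable def n547 : T := (.node (nat_lit 80295) (.node (nat_lit 79659) (.node (nat_lit 79341) (.node (nat_lit 79182) (.node (nat_lit 79076) l1491 n530) (.node (nat_lit 79235) l1494 n531)) (.node (nat_lit 79500) (.node (nat_lit 79394) l1497 n532) (.node (nat_lit 79553) l1500 n533))) (.node (nat_lit 79977) (.node (nat_lit 79818) (.node (nat_lit 79712) l1503 n534) (.node (nat_lit 79871) l1506 n535)) (.node (nat_lit 80136) (.node (nat_lit 80030) l1509 n536) (.node (nat_lit 80189) l1512 n537)))) (.node (nat_lit 80931) (.node (nat_lit 80613) (.node (nat_lit 80454) (.node (nat_lit 80348) l1515 n538) (.node (nat_lit 80507) l1518 n539)) (.node (nat_lit 80772) (.node (nat_lit 80666) l1521 n540) (.node (nat_lit 80825) l1524 n541))) (.node (nat_lit 81249) (.node (nat_lit 81090) (.node (nat_lit 80984) l1527 n542) (.node (nat_lit 81143) l1530 n543)) (.node (nat_lit 81408) (.node (nat_lit 81302) l1533 n544) (.node (nat_lit 81514) n545 n546)))))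
noncomputable def tb : T := (.node (nat_lit 40810) (.node (nat_lit 20405) (.node (nat_lit 10176) (.node (nat_lit 5088) (.node (nat_lit 2544) n16 n33) (.node (nat_lit 7632) n50 n67)) (.node (nat_lit 15264) (.node (nat_lit 12720) n84 n101) (.node (nat_lit 17808) n118 n136))) (.node (nat_lit 30581) (.node (nat_lit 25493) (.node (nat_lit 22949) n153 n170) (.node (nat_lit 28037) n187 n204)) (.node (nat_lit 35669) (.node (nat_lit 33125) n221 n238) (.node (nat_lit 38213) n255 n273)))) (.node (nat_lit 61215) (.node (nat_lit 50986) (.node (nat_lit 45898) (.node (nat_lit 43354) n290 n307) (.node (nat_lit 48442) n324 n341)) (.node (nat_lit 56074) (.node (nat_lit 53530) n358 n375) (.node (nat_lit 58618) n392 n410))) (.node (nat_lit 71391) (.node (nat_lit 66303) (.node (nat_lit 63759) n427 n444) (.node (nat_lit 68847) n461 n478)) (.node (nat_lit 76479) (.node (nat_lit 73935) n495 n512) (.node (nat_lit 79023) n529 n547)))))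
noncomputable def r0 : WT := (.leaf (nat_lit 57344) [nat_lit 90, nat_lit 120, nat_lit 150, nat_lit 180, nat_lit 210, nat_lit 270, nat_lit 60, nat_lit 90, nat_lit 120, nat_lit 150, nat_lit 180, nat_lit 210, nat_lit 270, nat_lit 60, nat_lit 90, nat_lit 120, nat_lit 150, nat_lit 180, nat_lit 210, nat_lit 270, nat_lit 60, nat_lit 90, nat_lit 120, nat_lit 150, nat_lit 180, nat_lit 210, nat_lit 270, nat_lit 60, nat_lit 90, nat_lit 120, nat_lit 150, nat_lit 180, nat_lit 210, nat_lit 270, nat_lit 60, nat_lit 90, nat_lit 120, nat_lit 150, nat_lit 180, nat_lit 210, nat_lit 270, nat_lit 60, nat_lit 90, nat_lit 120, nat_lit 150, nat_lit 180, nat_lit 210, nat_lit 270, nat_lit 60, nat_lit 90, nat_lit 120, nat_lit 150, nat_lit 180, nat_lit 210, nat_lit 270, nat_lit 60, nat_lit 90, nat_lit 120, nat_lit 150, nat_lit 180, nat_lit 210, nat_lit 270])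
noncomputable def r1 : WT := (.leaf (nat_lit 57357) [nat_lit 270, nat_lit 210, nat_lit 180, nat_lit 150, nat_lit 120, nat_lit 90, nat_lit 60, nat_lit 270, nat_lit 210, nat_lit 180, nat_lit 150, nat_lit 120, nat_lit 90, nat_lit 60, nat_lit 270, nat_lit 210, nat_lit 180, nat_lit 150, nat_lit 120, nat_lit 90, nat_lit 60, nat_lit 270, nat_lit 210, nat_lit 180, nat_lit 150, nat_lit 120, nat_lit 90, nat_lit 60, nat_lit 270, nat_lit 210, nat_lit 180, nat_lit 150, nat_lit 120, nat_lit 90, nat_lit 60, nat_lit 270, nat_lit 210, nat_lit 180, nat_lit 150, nat_lit 120, nat_lit 90, nat_lit 60, nat_lit 270, nat_lit 210, nat_lit 180, nat_lit 150, nat_lit 120, nat_lit 90, nat_lit 60, nat_lit 270, nat_lit 210, nat_lit 180, nat_lit 150, nat_lit 120, nat_lit 90, nat_lit 60, nat_lit 270, nat_lit 210, nat_lit 180, nat_lit 150, nat_lit 120, nat_lit 90])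
noncomputable def r2 : WT := (.node (nat_lit 9) (.leaf (nat_lit 18432) [nat_lit 300, nat_lit 60, nat_lit 300]) (.node (nat_lit 10) (.leaf (nat_lit 10240) [nat_lit 90, nat_lit 60, nat_lit 90, nat_lit 60, nat_lit 90]) (.node (nat_lit 11) r0 r1)))
noncomputable def w0 : WT := (.node (nat_lit 1) (.leaf (nat_lit 0) [nat_lit 60]) (.node (nat_lit 5) (.node (nat_lit 3) (.node (nat_lit 2) (.leaf (nat_lit 14336) [nat_lit 210, nat_lit 60, nat_lit 210]) (.leaf (nat_lit 12288) [nat_lit 150, nat_lit 60, nat_lit 150])) (.node (nat_lit 4) (.leaf (nat_lit 16384) [nat_lit 330, nat_lit 60, nat_lit 330]) (.leaf (nat_lit 15360) [nat_lit 240, nat_lit 60, nat_lit 240]))) (.node (nat_lit 7) (.node (nat_lit 6) (.leaf (nat_lit 13312) [nat_lit 180, nat_lit 60, nat_lit 180]) (.leaf (nat_lit 17408) [nat_lit 270, nat_lit 60, nat_lit 270])) (.node (nat_lit 8) (.leaf (nat_lit 11264) [nat_lit 120, nat_lit 60, nat_lit 120]) r2))))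
noncomputable def r3 : WT := (.leaf (nat_lit 57346) [nat_lit 120, nat_lit 150, nat_lit 180, nat_lit 210, nat_lit 270, nat_lit 60, nat_lit 90, nat_lit 120, nat_lit 150, nat_lit 180, nat_lit 210, nat_lit 270, nat_lit 60, nat_lit 90, nat_lit 120, nat_lit 150, nat_lit 180, nat_lit 210, nat_lit 270, nat_lit 60, nat_lit 90, nat_lit 120, nat_lit 150, nat_lit 180, nat_lit 210, nat_lit 270, nat_lit 60, nat_lit 90, nat_lit 120, nat_lit 150, nat_lit 180, nat_lit 210, nat_lit 270, nat_lit 60, nat_lit 90, nat_lit 120, nat_lit 150, nat_lit 180, nat_lit 210, nat_lit 270, nat_lit 60, nat_lit 90, nat_lit 120, nat_lit 150, nat_lit 180, nat_lit 210, nat_lit 270, nat_lit 60, nat_lit 90, nat_lit 120, nat_lit 150, nat_lit 180, nat_lit 210, nat_lit 270, nat_lit 60, nat_lit 90, nat_lit 120, nat_lit 150, nat_lit 180, nat_lit 210, nat_lit 270, nat_lit 60])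
noncomputable def r4 : WT := (.leaf (nat_lit 56324) [nat_lit 150, nat_lit 180, nat_lit 210, nat_lit 150, nat_lit 270, nat_lit 300, nat_lit 150, nat_lit 120, nat_lit 90, nat_lit 150, nat_lit 180, nat_lit 210, nat_lit 150, nat_lit 270, nat_lit 300, nat_lit 150, nat_lit 120, nat_lit 90, nat_lit 150, nat_lit 180, nat_lit 210, nat_lit 150, nat_lit 270, nat_lit 300, nat_lit 150, nat_lit 120, nat_lit 90, nat_lit 150, nat_lit 180, nat_lit 210, nat_lit 150, nat_lit 270, nat_lit 300, nat_lit 150, nat_lit 120, nat_lit 90, nat_lit 150, nat_lit 180, nat_lit 210, nat_lit 150, nat_lit 270, nat_lit 300, nat_lit 150, nat_lit 120, nat_lit 90, nat_lit 150, nat_lit 180, nat_lit 210, nat_lit 150, nat_lit 270, nat_lit 300, nat_lit 150, nat_lit 120, nat_lit 90, nat_lit 150, nat_lit 180, nat_lit 210, nat_lit 150, nat_lit 270, nat_lit 300, nat_lit 150, nat_lit 120, nat_lit 90, nat_lit 150, nat_lit 180, nat_lit 210, nat_lit 150, nat_lit 270, nat_lit 300, nat_lit 150, nat_lit 120, nat_lit 90, nat_lit 150, nat_lit 180, nat_lit 210, nat_lit 150, nat_lit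 270, nat_lit 300, nat_lit 150, nat_lit 120, nat_lit 90, nat_lit 150, nat_lit 180, nat_lit 210, nat_lit 150, nat_lit 270, nat_lit 300, nat_lit 150, nat_lit 120])
noncomputable def r5 : WT := (.leaf (nat_lit 56333) [nat_lit 120, nat_lit 150, nat_lit 300, nat_lit 270, nat_lit 150, nat_lit 210, nat_lit 180, nat_lit 150, nat_lit 90, nat_lit 120, nat_lit 150, nat_lit 300, nat_lit 270, nat_lit 150, nat_lit 210, nat_lit 180, nat_lit 150, nat_lit 90, nat_lit 120, nat_lit 150, nat_lit 300, nat_lit 270, nat_lit 150, nat_lit 210, nat_lit 180, nat_lit 150, nat_lit 90, nat_lit 120, nat_lit 150, nat_lit 300, nat_lit 270, nat_lit 150, nat_lit 210, nat_lit 180, nat_lit 150, nat_lit 90, nat_lit 120, nat_lit 150, nat_lit 300, nat_lit 270, nat_lit 150, nat_lit 210, nat_lit 180, nat_lit 150, nat_lit 90, nat_lit 120, nat_lit 150, nat_lit 300, nat_lit 270, nat_lit 150, nat_lit 210, nat_lit 180, nat_lit 150, nat_lit 90, nat_lit 120, nat_lit 150, nat_lit 300, nat_lit 270, nat_lit 150, nat_lit 210, nat_lit 180, nat_lit 150, nat_lit 90, nat_lit 120,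 nat_lit 150, nat_lit 300, nat_lit 270, nat_lit 150, nat_lit 210, nat_lit 180, nat_lit 150, nat_lit 90, nat_lit 120, nat_lit 150, nat_lit 300, nat_lit 270, nat_lit 150, nat_lit 210, nat_lit 180, nat_lit 150, nat_lit 90, nat_lit 120, nat_lit 150, nat_lit 300, nat_lit 270, nat_lit 150, nat_lit 210, nat_lit 180, nat_lit 150])
noncomputable def r6 : WT := (.leaf (nat_lit 57355) [nat_lit 60, nat_lit 270, nat_lit 210, nat_lit 180, nat_lit 150, nat_lit 120, nat_lit 90, nat_lit 60, nat_lit 270, nat_lit 210, nat_lit 180, nat_lit 150, nat_lit 120, nat_lit 90, nat_lit 60, nat_lit 270, nat_lit 210, nat_lit 180, nat_lit 150, nat_lit 120, nat_lit 90, nat_lit 60, nat_lit 270, nat_lit 210, nat_lit 180, nat_lit 150, nat_lit 120, nat_lit 90, nat_lit 60, nat_lit 270, nat_lit 210, nat_lit 180, nat_lit 150, nat_lit 120, nat_lit 90, nat_lit 60, nat_lit 270, nat_lit 210, nat_lit 180, nat_lit 150, nat_lit 120, nat_lit 90, nat_lit 60, nat_lit 270, nat_lit 210, nat_lit 180, nat_lit 150, nat_lit 120, nat_lit 90, nat_lit 60, nat_lit 270, nat_lit 210,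 nat_lit 180, nat_lit 150, nat_lit 120, nat_lit 90, nat_lit 60, nat_lit 270, nat_lit 210, nat_lit 180, nat_lit 150, nat_lit 120])
noncomputable def r7 : WT := (.node (nat_lit 13) r5 r6)
noncomputable def r8 : WT := (.node (nat_lit 9) (.leaf (nat_lit 19456) [nat_lit 120, nat_lit 90, nat_lit 120, nat_lit 90, nat_lit 120]) (.node (nat_lit 10) (.leaf (nat_lit 10242) [nat_lit 60, nat_lit 90, nat_lit 60, nat_lit 90, nat_lit 60]) (.node (nat_lit 11) r3 (.node (nat_lit 12) r4 r7))))
noncomputable def w1 : WT := (.node (nat_lit 1) (.leaf (nat_lit 1024) [nat_lit 90]) (.node (nat_lit 5) (.node (nat_lit 3) (.node (nat_lit 2) (.leaf (nat_lit 20480) [nat_lit 150, nat_lit 90, nat_lit 150]) (.leaf (nat_lit 22528) [nat_lit 210, nat_lit 90, nat_lit 210])) (.node (nat_lit 4) (.leaf (nat_lit 24576) [nat_lit 330, nat_lit 90, nat_lit 330]) (.leaf (nat_lit 21504) [nat_lit 180, nat_lit 90, nat_lit 180]))) (.node (nat_lit 7) (.node (nat_lit 6) (.leaf (nat_lit 25600) [nat_lit 270, nat_lit 90, nat_lit 270]) (.leaf (nat_lit 23552) [nat_lit 240, nat_lit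 90, nat_lit 240])) (.node (nat_lit 8) (.leaf (nat_lit 26624) [nat_lit 300, nat_lit 90, nat_lit 300]) r8))))
noncomputable def r9 : WT := (.node (nat_lit 8) (.leaf (nat_lit 33792) [nat_lit 300, nat_lit 120, nat_lit 300]) (.leaf (nat_lit 27648) [nat_lit 150, nat_lit 120, nat_lit 150, nat_lit 120, nat_lit 150]))
noncomputable def r10 : WT := (.leaf (nat_lit 57348) [nat_lit 150, nat_lit 180, nat_lit 210, nat_lit 270, nat_lit 60, nat_lit 90, nat_lit 120, nat_lit 150, nat_lit 180, nat_lit 210, nat_lit 270, nat_lit 60, nat_lit 90, nat_lit 120, nat_lit 150, nat_lit 180, nat_lit 210, nat_lit 270, nat_lit 60, nat_lit 90, nat_lit 120, nat_lit 150, nat_lit 180, nat_lit 210, nat_lit 270, nat_lit 60, nat_lit 90, nat_lit 120, nat_lit 150, nat_lit 180, nat_lit 210, nat_lit 270, nat_lit 60, nat_lit 90, nat_lit 120, nat_lit 150, nat_lit 180, nat_lit 210, nat_lit 270, nat_lit 60, nat_lit 90, nat_lit 120, nat_lit 150, nat_lit 180, nat_lit 210, nat_lit 270, nat_lit 60, nat_lit 90, nat_lit 120, nat_lit 150, nat_lit 180, nat_lit 210, nat_lit 270,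 nat_lit 60, nat_lit 90, nat_lit 120, nat_lit 150, nat_lit 180, nat_lit 210, nat_lit 270, nat_lit 60, nat_lit 90])
noncomputable def r11 : WT := (.leaf (nat_lit 56322) [nat_lit 90, nat_lit 150, nat_lit 180, nat_lit 210, nat_lit 150, nat_lit 270, nat_lit 300, nat_lit 150, nat_lit 120, nat_lit 90, nat_lit 150, nat_lit 180, nat_lit 210, nat_lit 150, nat_lit 270, nat_lit 300, nat_lit 150, nat_lit 120, nat_lit 90, nat_lit 150, nat_lit 180, nat_lit 210, nat_lit 150, nat_lit 270, nat_lit 300, nat_lit 150, nat_lit 120, nat_lit 90, nat_lit 150, nat_lit 180, nat_lit 210, nat_lit 150, nat_lit 270, nat_lit 300, nat_lit 150, nat_lit 120, nat_lit 90, nat_lit 150, nat_lit 180, nat_lit 210, nat_lit 150, nat_lit 270, nat_lit 300, nat_lit 150, nat_lit 120, nat_lit 90, nat_lit 150, nat_lit 180, nat_lit 210, nat_lit 150, nat_lit 270, nat_lit 300, nat_lit 150, nat_lit 120, nat_lit 90, nat_lit 150, nat_lit 180, nat_lit 210, nat_lit 150, nat_lit 270, nat_lit 300, nat_lit 150, nat_lit 120, nat_lit 90, nat_lit 150, nat_lit 180, nat_lit 210, nat_lit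 150, nat_lit 270, nat_lit 300, nat_lit 150, nat_lit 120, nat_lit 90, nat_lit 150, nat_lit 180, nat_lit 210, nat_lit 150, nat_lit 270, nat_lit 300, nat_lit 150, nat_lit 120, nat_lit 90, nat_lit 150, nat_lit 180, nat_lit 210, nat_lit 150, nat_lit 270, nat_lit 300, nat_lit 150])
noncomputable def r12 : WT := (.leaf (nat_lit 56335) [nat_lit 150, nat_lit 300, nat_lit 270, nat_lit 150, nat_lit 210, nat_lit 180, nat_lit 150, nat_lit 90, nat_lit 120, nat_lit 150, nat_lit 300, nat_lit 270, nat_lit 150, nat_lit 210, nat_lit 180, nat_lit 150, nat_lit 90, nat_lit 120, nat_lit 150, nat_lit 300, nat_lit 270, nat_lit 150, nat_lit 210, nat_lit 180, nat_lit 150, nat_lit 90, nat_lit 120, nat_lit 150, nat_lit 300, nat_lit 270, nat_lit 150, nat_lit 210, nat_lit 180, nat_lit 150, nat_lit 90, nat_lit 120, nat_lit 150, nat_lit 300, nat_lit 270, nat_lit 150, nat_lit 210, nat_lit 180, nat_lit 150, nat_lit 90, nat_lit 120, nat_lit 150, nat_lit 300, nat_lit 270, nat_lit 150, nat_lit 210, nat_lit 180, nat_lit 150, nat_lit 90, nat_lit 120, nat_lit 150,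 nat_lit 300, nat_lit 270, nat_lit 150, nat_lit 210, nat_lit 180, nat_lit 150, nat_lit 90, nat_lit 120, nat_lit 150, nat_lit 300, nat_lit 270, nat_lit 150, nat_lit 210, nat_lit 180, nat_lit 150, nat_lit 90, nat_lit 120, nat_lit 150, nat_lit 300, nat_lit 270, nat_lit 150, nat_lit 210, nat_lit 180, nat_lit 150, nat_lit 90, nat_lit 120, nat_lit 150, nat_lit 300, nat_lit 270, nat_lit 150, nat_lit 210, nat_lit 180, nat_lit 150, nat_lit 90])
noncomputable def r13 : WT := (.leaf (nat_lit 57353) [nat_lit 90, nat_lit 60, nat_lit 270, nat_lit 210, nat_lit 180, nat_lit 150, nat_lit 120, nat_lit 90, nat_lit 60, nat_lit 270, nat_lit 210, nat_lit 180, nat_lit 150, nat_lit 120, nat_lit 90, nat_lit 60, nat_lit 270, nat_lit 210, nat_lit 180, nat_lit 150, nat_lit 120, nat_lit 90, nat_lit 60, nat_lit 270, nat_lit 210, nat_lit 180, nat_lit 150, nat_lit 120, nat_lit 90, nat_lit 60, nat_lit 270, nat_lit 210, nat_lit 180, nat_lit 150, nat_lit 120, nat_lit 90, nat_lit 60, nat_lit 270, nat_lit 210, nat_lit 180, nat_lit 150, nat_lit 120, nat_lit 90,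 nat_lit 60, nat_lit 270, nat_lit 210, nat_lit 180, nat_lit 150, nat_lit 120, nat_lit 90, nat_lit 60, nat_lit 270, nat_lit 210, nat_lit 180, nat_lit 150, nat_lit 120, nat_lit 90, nat_lit 60, nat_lit 270, nat_lit 210, nat_lit 180, nat_lit 150])
noncomputable def r14 : WT := (.node (nat_lit 10) (.leaf (nat_lit 19458) [nat_lit 90, nat_lit 120, nat_lit 90, nat_lit 120, nat_lit 90]) (.node (nat_lit 11) r10 (.node (nat_lit 12) r11 (.node (nat_lit 13) r12 r13))))
noncomputable def w2 : WT := (.node (nat_lit 1) (.leaf (nat_lit 2048) [nat_lit 120]) (.node (nat_lit 5) (.node (nat_lit 3) (.node (nat_lit 2) (.leaf (nat_lit 29696) [nat_lit 210, nat_lit 120, nat_lit 210]) (.leaf (nat_lit 31744) [nat_lit 330, nat_lit 120, nat_lit 330])) (.node (nat_lit 4) (.leaf (nat_lit 28672) [nat_lit 180, nat_lit 120, nat_lit 180]) (.leaf (nat_lit 30720) [nat_lit 240, nat_lit 120, nat_lit 240]))) (.node (nat_lit 7) (.node (nat_lit 6) (.leaf (nat_lit 32768) [nat_lit 270, nat_lit 120, nat_lit 270]) (.leaf (nat_lit 11266) [nat_lit 60, nat_lit 120, nat_lit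 60])) (.node (nat_lit 9) r9 r14))))
noncomputable def r15 : WT := (.node (nat_lit 7) (.leaf (nat_lit 27650) [nat_lit 120, nat_lit 150, nat_lit 120, nat_lit 150, nat_lit 120]) (.leaf (nat_lit 39936) [nat_lit 300, nat_lit 150, nat_lit 300]))
noncomputable def r16 : WT := (.leaf (nat_lit 57350) [nat_lit 180, nat_lit 210, nat_lit 270, nat_lit 60, nat_lit 90, nat_lit 120, nat_lit 150, nat_lit 180, nat_lit 210, nat_lit 270, nat_lit 60, nat_lit 90, nat_lit 120, nat_lit 150, nat_lit 180, nat_lit 210, nat_lit 270, nat_lit 60, nat_lit 90, nat_lit 120, nat_lit 150, nat_lit 180, nat_lit 210, nat_lit 270, nat_lit 60, nat_lit 90, nat_lit 120, nat_lit 150, nat_lit 180, nat_lit 210, nat_lit 270, nat_lit 60, nat_lit 90, nat_lit 120, nat_lit 150, nat_lit 180, nat_lit 210, nat_lit 270, nat_lit 60, nat_lit 90, nat_lit 120, nat_lit 150, nat_lit 180, nat_lit 210, nat_lit 270, nat_lit 60, nat_lit 90, nat_lit 120, nat_lit 150, nat_lit 180, nat_lit 210, nat_lit 270, nat_lit 60, nat_lit 90, nat_lit 120, nat_lit 150, nat_lit 180, nat_lit 210, nat_lit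 270, nat_lit 60, nat_lit 90, nat_lit 120])
noncomputable def r17 : WT := (.leaf (nat_lit 56320) [nat_lit 120, nat_lit 90, nat_lit 150, nat_lit 180, nat_lit 210, nat_lit 150, nat_lit 270, nat_lit 300, nat_lit 150, nat_lit 120, nat_lit 90, nat_lit 150, nat_lit 180, nat_lit 210, nat_lit 150, nat_lit 270, nat_lit 300, nat_lit 150, nat_lit 120, nat_lit 90, nat_lit 150, nat_lit 180, nat_lit 210, nat_lit 150, nat_lit 270, nat_lit 300, nat_lit 150, nat_lit 120, nat_lit 90, nat_lit 150, nat_lit 180, nat_lit 210, nat_lit 150, nat_lit 270, nat_lit 300, nat_lit 150, nat_lit 120, nat_lit 90, nat_lit 150, nat_lit 180, nat_lit 210, nat_lit 150, nat_lit 270, nat_lit 300, nat_lit 150, nat_lit 120, nat_lit 90, nat_lit 150, nat_lit 180, nat_lit 210, nat_lit 150, nat_lit 270, nat_lit 300, nat_lit 150, nat_lit 120, nat_lit 90, nat_lit 150, nat_lit 180, nat_lit 210, nat_lit 150, nat_lit 270, nat_lit 300, nat_lit 150, nat_lit 120, nat_lit 90, nat_lit 150, nat_lit 180, nat_lit 210, nat_lit 150, nat_lit 270, nat_lit 300, nat_lit 150, nat_lit 120,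 nat_lit 90, nat_lit 150, nat_lit 180, nat_lit 210, nat_lit 150, nat_lit 270, nat_lit 300, nat_lit 150, nat_lit 120, nat_lit 90, nat_lit 150, nat_lit 180, nat_lit 210, nat_lit 150, nat_lit 270, nat_lit 300])
noncomputable def r18 : WT := (.leaf (nat_lit 56332) [nat_lit 270, nat_lit 300, nat_lit 150, nat_lit 120, nat_lit 90, nat_lit 150, nat_lit 180, nat_lit 210, nat_lit 150, nat_lit 270, nat_lit 300, nat_lit 150, nat_lit 120, nat_lit 90, nat_lit 150, nat_lit 180, nat_lit 210, nat_lit 150, nat_lit 270, nat_lit 300, nat_lit 150, nat_lit 120, nat_lit 90, nat_lit 150, nat_lit 180, nat_lit 210, nat_lit 150, nat_lit 270, nat_lit 300, nat_lit 150, nat_lit 120, nat_lit 90, nat_lit 150, nat_lit 180, nat_lit 210, nat_lit 150, nat_lit 270, nat_lit 300, nat_lit 150, nat_lit 120, nat_lit 90, nat_lit 150, nat_lit 180, nat_lit 210, nat_lit 150, nat_lit 270, nat_lit 300, nat_lit 150, nat_lit 120, nat_lit 90, nat_lit 150, nat_lit 180, nat_lit 210, nat_lit 150, nat_lit 270, nat_lit 300, nat_lit 150, nat_lit 120, nat_lit 90, nat_lit 150, nat_lit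 180, nat_lit 210, nat_lit 150, nat_lit 270, nat_lit 300, nat_lit 150, nat_lit 120, nat_lit 90, nat_lit 150, nat_lit 180, nat_lit 210, nat_lit 150, nat_lit 270, nat_lit 300, nat_lit 150, nat_lit 120, nat_lit 90, nat_lit 150, nat_lit 180, nat_lit 210, nat_lit 150, nat_lit 270, nat_lit 300, nat_lit 150, nat_lit 120, nat_lit 90, nat_lit 150, nat_lit 180, nat_lit 210])
noncomputable def r19 : WT := (.leaf (nat_lit 56326) [nat_lit 180, nat_lit 210, nat_lit 150, nat_lit 270, nat_lit 300, nat_lit 150, nat_lit 120, nat_lit 90, nat_lit 150, nat_lit 180, nat_lit 210, nat_lit 150, nat_lit 270, nat_lit 300, nat_lit 150, nat_lit 120, nat_lit 90, nat_lit 150, nat_lit 180, nat_lit 210, nat_lit 150, nat_lit 270, nat_lit 300, nat_lit 150, nat_lit 120, nat_lit 90, nat_lit 150, nat_lit 180, nat_lit 210, nat_lit 150, nat_lit 270, nat_lit 300, nat_lit 150, nat_lit 120, nat_lit 90, nat_lit 150, nat_lit 180, nat_lit 210, nat_lit 150, nat_lit 270, nat_lit 300, nat_lit 150, nat_lit 120, nat_lit 90, nat_lit 150, nat_lit 180, nat_lit 210, nat_lit 150,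 nat_lit 270, nat_lit 300, nat_lit 150, nat_lit 120, nat_lit 90, nat_lit 150, nat_lit 180, nat_lit 210, nat_lit 150, nat_lit 270, nat_lit 300, nat_lit 150, nat_lit 120, nat_lit 90, nat_lit 150, nat_lit 180, nat_lit 210, nat_lit 150, nat_lit 270, nat_lit 300, nat_lit 150, nat_lit 120, nat_lit 90, nat_lit 150, nat_lit 180, nat_lit 210, nat_lit 150, nat_lit 270, nat_lit 300, nat_lit 150, nat_lit 120, nat_lit 90, nat_lit 150, nat_lit 180, nat_lit 210, nat_lit 150, nat_lit 270, nat_lit 300, nat_lit 150, nat_lit 120, nat_lit 90])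
noncomputable def r20 : WT := (.leaf (nat_lit 57351) [nat_lit 120, nat_lit 90, nat_lit 60, nat_lit 270, nat_lit 210, nat_lit 180, nat_lit 150, nat_lit 120, nat_lit 90, nat_lit 60, nat_lit 270, nat_lit 210, nat_lit 180, nat_lit 150, nat_lit 120, nat_lit 90, nat_lit 60, nat_lit 270, nat_lit 210, nat_lit 180, nat_lit 150, nat_lit 120, nat_lit 90, nat_lit 60, nat_lit 270, nat_lit 210, nat_lit 180, nat_lit 150, nat_lit 120, nat_lit 90, nat_lit 60, nat_lit 270, nat_lit 210, nat_lit 180, nat_lit 150, nat_lit 120, nat_lit 90, nat_lit 60, nat_lit 270, nat_lit 210, nat_lit 180, nat_lit 150, nat_lit 120, nat_lit 90, nat_lit 60, nat_lit 270, nat_lit 210, nat_lit 180, nat_lit 150, nat_lit 120, nat_lit 90, nat_lit 60, nat_lit 270, nat_lit 210, nat_lit 180, nat_lit 150, nat_lit 120, nat_lit 90, nat_lit 60, nat_lit 270, nat_lit 210, nat_lit 180])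
noncomputable def r21 : WT := (.leaf (nat_lit 56325) [nat_lit 210, nat_lit 180, nat_lit 150, nat_lit 90, nat_lit 120, nat_lit 150, nat_lit 300, nat_lit 270, nat_lit 150, nat_lit 210, nat_lit 180, nat_lit 150, nat_lit 90, nat_lit 120, nat_lit 150, nat_lit 300, nat_lit 270, nat_lit 150, nat_lit 210, nat_lit 180, nat_lit 150, nat_lit 90, nat_lit 120, nat_lit 150, nat_lit 300, nat_lit 270, nat_lit 150, nat_lit 210, nat_lit 180, nat_lit 150, nat_lit 90, nat_lit 120, nat_lit 150, nat_lit 300, nat_lit 270, nat_lit 150, nat_lit 210, nat_lit 180, nat_lit 150, nat_lit 90, nat_lit 120, nat_lit 150, nat_lit 300, nat_lit 270, nat_lit 150, nat_lit 210, nat_lit 180, nat_lit 150, nat_lit 90, nat_lit 120, nat_lit 150, nat_lit 300, nat_lit 270, nat_lit 150, nat_lit 210, nat_lit 180, nat_lit 150, nat_lit 90, nat_lit 120, nat_lit 150, nat_lit 300, nat_lit 270, nat_lit 150, nat_lit 210, nat_lit 180, nat_lit 150, nat_lit 90, nat_lit 120, nat_lit 150, nat_lit 300, nat_lit 270, nat_lit 150, nat_lit 210, nat_lit 180, nat_lit 150, nat_lit 90, nat_lit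 120, nat_lit 150, nat_lit 300, nat_lit 270, nat_lit 150, nat_lit 210, nat_lit 180, nat_lit 150, nat_lit 90, nat_lit 120, nat_lit 150, nat_lit 300, nat_lit 270])
noncomputable def r22 : WT := (.node (nat_lit 13) r18 (.node (nat_lit 14) r19 (.node (nat_lit 15) r20 r21)))
noncomputable def r23 : WT := (.node (nat_lit 9) (.leaf (nat_lit 38912) [nat_lit 270, nat_lit 150, nat_lit 270, nat_lit 150, nat_lit 270]) (.node (nat_lit 10) (.leaf (nat_lit 34816) [nat_lit 180, nat_lit 150, nat_lit 180, nat_lit 150, nat_lit 180]) (.node (nat_lit 11) r16 (.node (nat_lit 12) r17 r22))))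
noncomputable def w3 : WT := (.node (nat_lit 1) (.leaf (nat_lit 3072) [nat_lit 150]) (.node (nat_lit 4) (.node (nat_lit 2) (.leaf (nat_lit 35840) [nat_lit 210, nat_lit 150, nat_lit 210]) (.node (nat_lit 3) (.leaf (nat_lit 37888) [nat_lit 330, nat_lit 150, nat_lit 330]) (.leaf (nat_lit 36864) [nat_lit 240, nat_lit 150, nat_lit 240]))) (.node (nat_lit 6) (.node (nat_lit 5) (.leaf (nat_lit 20482) [nat_lit 90, nat_lit 150, nat_lit 90]) (.leaf (nat_lit 12290) [nat_lit 60, nat_lit 150, nat_lit 60])) (.node (nat_lit 8) r15 r23))))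
noncomputable def r24 : WT := (.leaf (nat_lit 57352) [nat_lit 210, nat_lit 270, nat_lit 60, nat_lit 90, nat_lit 120, nat_lit 150, nat_lit 180, nat_lit 210, nat_lit 270, nat_lit 60, nat_lit 90, nat_lit 120, nat_lit 150, nat_lit 180, nat_lit 210, nat_lit 270, nat_lit 60, nat_lit 90, nat_lit 120, nat_lit 150, nat_lit 180, nat_lit 210, nat_lit 270, nat_lit 60, nat_lit 90, nat_lit 120, nat_lit 150, nat_lit 180, nat_lit 210, nat_lit 270, nat_lit 60, nat_lit 90, nat_lit 120, nat_lit 150, nat_lit 180, nat_lit 210, nat_lit 270, nat_lit 60, nat_lit 90, nat_lit 120, nat_lit 150, nat_lit 180, nat_lit 210, nat_lit 270, nat_lit 60, nat_lit 90, nat_lit 120, nat_lit 150, nat_lit 180, nat_lit 210, nat_lit 270, nat_lit 60, nat_lit 90, nat_lit 120, nat_lit 150, nat_lit 180, nat_lit 210, nat_lit 270, nat_lit 60, nat_lit 90, nat_lit 120, nat_lit 150])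
noncomputable def r25 : WT := (.leaf (nat_lit 56328) [nat_lit 210, nat_lit 150, nat_lit 270, nat_lit 300, nat_lit 150, nat_lit 120, nat_lit 90, nat_lit 150, nat_lit 180, nat_lit 210, nat_lit 150, nat_lit 270, nat_lit 300, nat_lit 150, nat_lit 120, nat_lit 90, nat_lit 150, nat_lit 180, nat_lit 210, nat_lit 150, nat_lit 270, nat_lit 300, nat_lit 150, nat_lit 120, nat_lit 90, nat_lit 150, nat_lit 180, nat_lit 210, nat_lit 150, nat_lit 270, nat_lit 300, nat_lit 150, nat_lit 120, nat_lit 90, nat_lit 150, nat_lit 180, nat_lit 210, nat_lit 150, nat_lit 270, nat_lit 300, nat_lit 150, nat_lit 120, nat_lit 90, nat_lit 150, nat_lit 180, nat_lit 210, nat_lit 150, nat_lit 270, nat_lit 300, nat_lit 150, nat_lit 120, nat_lit 90, nat_lit 150, nat_lit 180, nat_lit 210, nat_lit 150, nat_lit 270, nat_lit 300, nat_lit 150, nat_lit 120, nat_lit 90, nat_lit 150, nat_lit 180, nat_lit 210, nat_lit 150, nat_lit 270, nat_lit 300, nat_lit 150, nat_lit 120, nat_lit 90, nat_lit 150, nat_lit 180, nat_lit 210, nat_lit 150, nat_lit 270, nat_lit 300, nat_lit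 150, nat_lit 120, nat_lit 90, nat_lit 150, nat_lit 180, nat_lit 210, nat_lit 150, nat_lit 270, nat_lit 300, nat_lit 150, nat_lit 120, nat_lit 90, nat_lit 150])
noncomputable def r26 : WT := (.leaf (nat_lit 57349) [nat_lit 150, nat_lit 120, nat_lit 90, nat_lit 60, nat_lit 270, nat_lit 210, nat_lit 180, nat_lit 150, nat_lit 120, nat_lit 90, nat_lit 60, nat_lit 270, nat_lit 210, nat_lit 180, nat_lit 150, nat_lit 120, nat_lit 90, nat_lit 60, nat_lit 270, nat_lit 210, nat_lit 180, nat_lit 150, nat_lit 120, nat_lit 90, nat_lit 60, nat_lit 270, nat_lit 210, nat_lit 180, nat_lit 150, nat_lit 120, nat_lit 90, nat_lit 60, nat_lit 270, nat_lit 210, nat_lit 180, nat_lit 150, nat_lit 120, nat_lit 90, nat_lit 60, nat_lit 270, nat_lit 210, nat_lit 180, nat_lit 150, nat_lit 120, nat_lit 90, nat_lit 60, nat_lit 270, nat_lit 210, nat_lit 180, nat_lit 150, nat_lit 120, nat_lit 90, nat_lit 60, nat_lit 270, nat_lit 210, nat_lit 180, nat_lit 150, nat_lit 120, nat_lit 90, nat_lit 60, nat_lit 270, nat_lit 210])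
noncomputable def r27 : WT := (.leaf (nat_lit 56329) [nat_lit 150, nat_lit 90, nat_lit 120, nat_lit 150, nat_lit 300, nat_lit 270, nat_lit 150, nat_lit 210, nat_lit 180, nat_lit 150, nat_lit 90, nat_lit 120, nat_lit 150, nat_lit 300, nat_lit 270, nat_lit 150, nat_lit 210, nat_lit 180, nat_lit 150, nat_lit 90, nat_lit 120, nat_lit 150, nat_lit 300, nat_lit 270, nat_lit 150, nat_lit 210, nat_lit 180, nat_lit 150, nat_lit 90, nat_lit 120, nat_lit 150, nat_lit 300, nat_lit 270, nat_lit 150, nat_lit 210, nat_lit 180, nat_lit 150, nat_lit 90, nat_lit 120, nat_lit 150, nat_lit 300, nat_lit 270, nat_lit 150, nat_lit 210, nat_lit 180, nat_lit 150, nat_lit 90, nat_lit 120, nat_lit 150, nat_lit 300, nat_lit 270, nat_lit 150, nat_lit 210, nat_lit 180, nat_lit 150, nat_lit 90, nat_lit 120, nat_lit 150, nat_lit 300, nat_lit 270, nat_lit 150, nat_lit 210, nat_lit 180, nat_lit 150, nat_lit 90, nat_lit 120, nat_lit 150, nat_lit 300, nat_lit 270, nat_lit 150, nat_lit 210, nat_lit 180, nat_lit 150, nat_lit 90, nat_lit 120, nat_lit 150, nat_lit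 300, nat_lit 270, nat_lit 150, nat_lit 210, nat_lit 180, nat_lit 150, nat_lit 90, nat_lit 120, nat_lit 150, nat_lit 300, nat_lit 270, nat_lit 150, nat_lit 210])
noncomputable def r28 : WT := (.node (nat_lit 13) r26 r27)
noncomputable def r29 : WT := (.node (nat_lit 9) (.leaf (nat_lit 45056) [nat_lit 300, nat_lit 180, nat_lit 300]) (.node (nat_lit 10) (.leaf (nat_lit 40960) [nat_lit 210, nat_lit 180, nat_lit 210, nat_lit 180, nat_lit 210]) (.node (nat_lit 11) r24 (.node (nat_lit 12) r25 r28))))
noncomputable def w4 : WT := (.node (nat_lit 1) (.leaf (nat_lit 4096) [nat_lit 180]) (.node (nat_lit 5) (.node (nat_lit 3) (.node (nat_lit 2) (.leaf (nat_lit 28674) [nat_lit 120, nat_lit 180, nat_lit 120]) (.leaf (nat_lit 43008) [nat_lit 330, nat_lit 180, nat_lit 330])) (.node (nat_lit 4) (.leaf (nat_lit 44032) [nat_lit 270, nat_lit 180, nat_lit 270]) (.leaf (nat_lit 21506) [nat_lit 90, nat_lit 180, nat_lit 90]))) (.node (nat_lit 7) (.node (nat_lit 6) (.leaf (nat_lit 41984) [nat_lit 240, nat_lit 180, nat_lit 240]) (.leaf (nat_lit 34818)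 [nat_lit 150, nat_lit 180, nat_lit 150, nat_lit 180, nat_lit 150])) (.node (nat_lit 8) (.leaf (nat_lit 13314) [nat_lit 60, nat_lit 180, nat_lit 60]) r29))))
noncomputable def r30 : WT := (.node (nat_lit 6) (.leaf (nat_lit 40962) [nat_lit 180, nat_lit 210, nat_lit 180, nat_lit 210, nat_lit 180]) (.leaf (nat_lit 14338) [nat_lit 60, nat_lit 210, nat_lit 60]))
noncomputable def r31 : WT := (.node (nat_lit 8) (.leaf (nat_lit 47104) [nat_lit 330, nat_lit 210, nat_lit 330]) (.leaf (nat_lit 48128) [nat_lit 270, nat_lit 210, nat_lit 270]))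
noncomputable def r32 : WT := (.leaf (nat_lit 57354) [nat_lit 270, nat_lit 60, nat_lit 90, nat_lit 120, nat_lit 150, nat_lit 180, nat_lit 210, nat_lit 270, nat_lit 60, nat_lit 90, nat_lit 120, nat_lit 150, nat_lit 180, nat_lit 210, nat_lit 270, nat_lit 60, nat_lit 90, nat_lit 120, nat_lit 150, nat_lit 180, nat_lit 210, nat_lit 270, nat_lit 60, nat_lit 90, nat_lit 120, nat_lit 150, nat_lit 180, nat_lit 210, nat_lit 270, nat_lit 60, nat_lit 90, nat_lit 120, nat_lit 150, nat_lit 180, nat_lit 210, nat_lit 270, nat_lit 60, nat_lit 90, nat_lit 120, nat_lit 150, nat_lit 180, nat_lit 210, nat_lit 270, nat_lit 60, nat_lit 90, nat_lit 120, nat_lit 150, nat_lit 180, nat_lit 210, nat_lit 270, nat_lit 60, nat_lit 90, nat_lit 120, nat_lit 150, nat_lit 180, nat_lit 210, nat_lit 270, nat_lit 60, nat_lit 90, nat_lit 120, nat_lit 150, nat_lit 180])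
noncomputable def r33 : WT := (.leaf (nat_lit 56330) [nat_lit 150, nat_lit 270, nat_lit 300, nat_lit 150, nat_lit 120, nat_lit 90, nat_lit 150, nat_lit 180, nat_lit 210, nat_lit 150, nat_lit 270, nat_lit 300, nat_lit 150, nat_lit 120, nat_lit 90, nat_lit 150, nat_lit 180, nat_lit 210, nat_lit 150, nat_lit 270, nat_lit 300, nat_lit 150, nat_lit 120, nat_lit 90, nat_lit 150, nat_lit 180, nat_lit 210, nat_lit 150, nat_lit 270, nat_lit 300, nat_lit 150, nat_lit 120, nat_lit 90, nat_lit 150, nat_lit 180, nat_lit 210, nat_lit 150, nat_lit 270, nat_lit 300, nat_lit 150, nat_lit 120, nat_lit 90, nat_lit 150, nat_lit 180, nat_lit 210, nat_lit 150, nat_lit 270, nat_lit 300, nat_lit 150, nat_lit 120, nat_lit 90, nat_lit 150, nat_lit 180, nat_lit 210, nat_lit 150, nat_lit 270, nat_lit 300, nat_lit 150, nat_lit 120, nat_lit 90, nat_lit 150, nat_lit 180, nat_lit 210, nat_lit 150, nat_lit 270, nat_lit 300, nat_lit 150, nat_lit 120, nat_lit 90, nat_lit 150, nat_lit 180, nat_lit 210, nat_lit 150, nat_lit 270, nat_lit 300, nat_lit 150, nat_lit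 120, nat_lit 90, nat_lit 150, nat_lit 180, nat_lit 210, nat_lit 150, nat_lit 270, nat_lit 300, nat_lit 150, nat_lit 120, nat_lit 90, nat_lit 150, nat_lit 180])
noncomputable def r34 : WT := (.leaf (nat_lit 57347) [nat_lit 180, nat_lit 150, nat_lit 120, nat_lit 90, nat_lit 60, nat_lit 270, nat_lit 210, nat_lit 180, nat_lit 150, nat_lit 120, nat_lit 90, nat_lit 60, nat_lit 270, nat_lit 210, nat_lit 180, nat_lit 150, nat_lit 120, nat_lit 90, nat_lit 60, nat_lit 270, nat_lit 210, nat_lit 180, nat_lit 150, nat_lit 120, nat_lit 90, nat_lit 60, nat_lit 270, nat_lit 210, nat_lit 180, nat_lit 150, nat_lit 120, nat_lit 90, nat_lit 60, nat_lit 270, nat_lit 210, nat_lit 180, nat_lit 150, nat_lit 120, nat_lit 90, nat_lit 60, nat_lit 270, nat_lit 210, nat_lit 180, nat_lit 150, nat_lit 120, nat_lit 90, nat_lit 60, nat_lit 270, nat_lit 210, nat_lit 180, nat_lit 150, nat_lit 120, nat_lit 90, nat_lit 60, nat_lit 270, nat_lit 210, nat_lit 180, nat_lit 150, nat_lit 120, nat_lit 90, nat_lit 60, nat_lit 270])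
noncomputable def r35 : WT := (.leaf (nat_lit 56327) [nat_lit 180, nat_lit 150, nat_lit 90, nat_lit 120, nat_lit 150, nat_lit 300, nat_lit 270, nat_lit 150, nat_lit 210, nat_lit 180, nat_lit 150, nat_lit 90, nat_lit 120, nat_lit 150, nat_lit 300, nat_lit 270, nat_lit 150, nat_lit 210, nat_lit 180, nat_lit 150, nat_lit 90, nat_lit 120, nat_lit 150, nat_lit 300, nat_lit 270, nat_lit 150, nat_lit 210, nat_lit 180, nat_lit 150, nat_lit 90, nat_lit 120, nat_lit 150, nat_lit 300, nat_lit 270, nat_lit 150, nat_lit 210, nat_lit 180, nat_lit 150, nat_lit 90, nat_lit 120, nat_lit 150, nat_lit 300, nat_lit 270, nat_lit 150, nat_lit 210, nat_lit 180, nat_lit 150, nat_lit 90, nat_lit 120, nat_lit 150, nat_lit 300, nat_lit 270, nat_lit 150, nat_lit 210, nat_lit 180, nat_lit 150, nat_lit 90, nat_lit 120, nat_lit 150, nat_lit 300, nat_lit 270, nat_lit 150, nat_lit 210, nat_lit 180, nat_lit 150, nat_lit 90, nat_lit 120, nat_lit 150, nat_lit 300, nat_lit 270, nat_lit 150, nat_lit 210, nat_lit 180, nat_lit 150, nat_lit 90, nat_lit 120, nat_lit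 150, nat_lit 300, nat_lit 270, nat_lit 150, nat_lit 210, nat_lit 180, nat_lit 150, nat_lit 90, nat_lit 120, nat_lit 150, nat_lit 300, nat_lit 270, nat_lit 150])
noncomputable def r36 : WT := (.node (nat_lit 10) (.leaf (nat_lit 49152) [nat_lit 300, nat_lit 210, nat_lit 300]) (.node (nat_lit 11) r32 (.node (nat_lit 12) r33 (.node (nat_lit 13) r34 r35))))
noncomputable def w5 : WT := (.node (nat_lit 1) (.leaf (nat_lit 5120) [nat_lit 210]) (.node (nat_lit 4) (.node (nat_lit 2) (.leaf (nat_lit 35842) [nat_lit 150, nat_lit 210, nat_lit 150]) (.node (nat_lit 3) (.leaf (nat_lit 29698) [nat_lit 120, nat_lit 210, nat_lit 120]) (.leaf (nat_lit 22530) [nat_lit 90, nat_lit 210, nat_lit 90]))) (.node (nat_lit 7) (.node (nat_lit 5) (.leaf (nat_lit 46080) [nat_lit 240, nat_lit 210, nat_lit 240, nat_lit 210, nat_lit 240]) r30) (.node (nat_lit 9) r31 r36))))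
noncomputable def r37 : WT := (.node (nat_lit 7) (.leaf (nat_lit 30722) [nat_lit 120, nat_lit 240, nat_lit 120]) (.leaf (nat_lit 23554) [nat_lit 90, nat_lit 240, nat_lit 90]))
noncomputable def r38 : WT := (.node (nat_lit 9) (.leaf (nat_lit 46082) [nat_lit 210, nat_lit 240, nat_lit 210, nat_lit 240, nat_lit 210]) (.leaf (nat_lit 15362) [nat_lit 60, nat_lit 240, nat_lit 60]))
noncomputable def w6 : WT := (.node (nat_lit 1) (.leaf (nat_lit 6144) [nat_lit 240]) (.node (nat_lit 4) (.node (nat_lit 2) (.leaf (nat_lit 50176) [nat_lit 330, nat_lit 240, nat_lit 330, nat_lit 240, nat_lit 330]) (.node (nat_lit 3) (.leaf (nat_lit 36866) [nat_lit 150, nat_lit 240, nat_lit 150]) (.leaf (nat_lit 51200) [nat_lit 270, nat_lit 240, nat_lit 270]))) (.node (nat_lit 6) (.node (nat_lit 5) (.leaf (nat_lit 41986) [nat_lit 180, nat_lit 240, nat_lit 180]) (.leaf (nat_lit 52224) [nat_lit 300, nat_lit 240, nat_lit 300])) (.node (nat_lit 8) r37 r38))))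
noncomputable def r39 : WT := (.node (nat_lit 7) (.leaf (nat_lit 38914) [nat_lit 150, nat_lit 270, nat_lit 150, nat_lit 270, nat_lit 150]) (.leaf (nat_lit 51202) [nat_lit 240, nat_lit 270, nat_lit 240]))
noncomputable def r40 : WT := (.leaf (nat_lit 57356) [nat_lit 60, nat_lit 90, nat_lit 120, nat_lit 150, nat_lit 180, nat_lit 210, nat_lit 270, nat_lit 60, nat_lit 90, nat_lit 120, nat_lit 150, nat_lit 180, nat_lit 210, nat_lit 270, nat_lit 60, nat_lit 90, nat_lit 120, nat_lit 150, nat_lit 180, nat_lit 210, nat_lit 270, nat_lit 60, nat_lit 90, nat_lit 120, nat_lit 150, nat_lit 180, nat_lit 210, nat_lit 270, nat_lit 60, nat_lit 90, nat_lit 120, nat_lit 150, nat_lit 180, nat_lit 210, nat_lit 270, nat_lit 60, nat_lit 90, nat_lit 120, nat_lit 150, nat_lit 180, nat_lit 210, nat_lit 270, nat_lit 60, nat_lit 90, nat_lit 120, nat_lit 150, nat_lit 180, nat_lit 210, nat_lit 270, nat_lit 60, nat_lit 90, nat_lit 120, nat_lit 150, nat_lit 180, nat_lit 210, nat_lit 270, nat_lit 60, nat_lit 90, nat_lit 120, nat_lit 150, nat_lit 180, nat_lit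 210])
noncomputable def r41 : WT := (.leaf (nat_lit 56334) [nat_lit 300, nat_lit 150, nat_lit 120, nat_lit 90, nat_lit 150, nat_lit 180, nat_lit 210, nat_lit 150, nat_lit 270, nat_lit 300, nat_lit 150, nat_lit 120, nat_lit 90, nat_lit 150, nat_lit 180, nat_lit 210, nat_lit 150, nat_lit 270, nat_lit 300, nat_lit 150, nat_lit 120, nat_lit 90, nat_lit 150, nat_lit 180, nat_lit 210, nat_lit 150, nat_lit 270, nat_lit 300, nat_lit 150, nat_lit 120, nat_lit 90, nat_lit 150, nat_lit 180, nat_lit 210, nat_lit 150, nat_lit 270, nat_lit 300, nat_lit 150, nat_lit 120, nat_lit 90, nat_lit 150, nat_lit 180, nat_lit 210, nat_lit 150, nat_lit 270, nat_lit 300, nat_lit 150, nat_lit 120, nat_lit 90, nat_lit 150, nat_lit 180, nat_lit 210, nat_lit 150, nat_lit 270, nat_lit 300, nat_lit 150, nat_lit 120, nat_lit 90, nat_lit 150, nat_lit 180, nat_lit 210, nat_lit 150, nat_lit 270, nat_lit 300, nat_lit 150, nat_lit 120, nat_lit 90, nat_lit 150, nat_lit 180, nat_lit 210, nat_lit 150, nat_lit 270, nat_lit 300, nat_lit 150, nat_lit 120, nat_lit 90,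 nat_lit 150, nat_lit 180, nat_lit 210, nat_lit 150, nat_lit 270, nat_lit 300, nat_lit 150, nat_lit 120, nat_lit 90, nat_lit 150, nat_lit 180, nat_lit 210, nat_lit 150])
noncomputable def r42 : WT := (.leaf (nat_lit 56323) [nat_lit 150, nat_lit 210, nat_lit 180, nat_lit 150, nat_lit 90, nat_lit 120, nat_lit 150, nat_lit 300, nat_lit 270, nat_lit 150, nat_lit 210, nat_lit 180, nat_lit 150, nat_lit 90, nat_lit 120, nat_lit 150, nat_lit 300, nat_lit 270, nat_lit 150, nat_lit 210, nat_lit 180, nat_lit 150, nat_lit 90, nat_lit 120, nat_lit 150, nat_lit 300, nat_lit 270, nat_lit 150, nat_lit 210, nat_lit 180, nat_lit 150, nat_lit 90, nat_lit 120, nat_lit 150, nat_lit 300, nat_lit 270, nat_lit 150, nat_lit 210, nat_lit 180, nat_lit 150, nat_lit 90, nat_lit 120, nat_lit 150, nat_lit 300, nat_lit 270, nat_lit 150, nat_lit 210, nat_lit 180, nat_lit 150, nat_lit 90, nat_lit 120, nat_lit 150, nat_lit 300, nat_lit 270, nat_lit 150, nat_lit 210, nat_lit 180, nat_lit 150, nat_lit 90, nat_lit 120, nat_lit 150, nat_lit 300, nat_lit 270, nat_lit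 150, nat_lit 210, nat_lit 180, nat_lit 150, nat_lit 90, nat_lit 120, nat_lit 150, nat_lit 300, nat_lit 270, nat_lit 150, nat_lit 210, nat_lit 180, nat_lit 150, nat_lit 90, nat_lit 120, nat_lit 150, nat_lit 300, nat_lit 270, nat_lit 150, nat_lit 210, nat_lit 180, nat_lit 150, nat_lit 90, nat_lit 120, nat_lit 150, nat_lit 300])
noncomputable def r43 : WT := (.leaf (nat_lit 57345) [nat_lit 210, nat_lit 180, nat_lit 150, nat_lit 120, nat_lit 90, nat_lit 60, nat_lit 270, nat_lit 210, nat_lit 180, nat_lit 150, nat_lit 120, nat_lit 90, nat_lit 60, nat_lit 270, nat_lit 210, nat_lit 180, nat_lit 150, nat_lit 120, nat_lit 90, nat_lit 60, nat_lit 270, nat_lit 210, nat_lit 180, nat_lit 150, nat_lit 120, nat_lit 90, nat_lit 60, nat_lit 270, nat_lit 210, nat_lit 180, nat_lit 150, nat_lit 120, nat_lit 90, nat_lit 60, nat_lit 270, nat_lit 210, nat_lit 180, nat_lit 150, nat_lit 120, nat_lit 90, nat_lit 60, nat_lit 270, nat_lit 210, nat_lit 180, nat_lit 150, nat_lit 120, nat_lit 90, nat_lit 60, nat_lit 270, nat_lit 210, nat_lit 180, nat_lit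 150, nat_lit 120, nat_lit 90, nat_lit 60, nat_lit 270, nat_lit 210, nat_lit 180, nat_lit 150, nat_lit 120, nat_lit 90, nat_lit 60])
noncomputable def r44 : WT := (.node (nat_lit 13) r42 r43)
noncomputable def r45 : WT := (.node (nat_lit 9) (.leaf (nat_lit 17410) [nat_lit 60, nat_lit 270, nat_lit 60]) (.node (nat_lit 10) (.leaf (nat_lit 55296) [nat_lit 300, nat_lit 270, nat_lit 300, nat_lit 270, nat_lit 300]) (.node (nat_lit 11) r40 (.node (nat_lit 12) r41 r44))))
noncomputable def w7 : WT := (.node (nat_lit 1) (.leaf (nat_lit 7168) [nat_lit 270]) (.node (nat_lit 4) (.node (nat_lit 2) (.leaf (nat_lit 48130) [nat_lit 210, nat_lit 270, nat_lit 210]) (.node (nat_lit 3) (.leaf (nat_lit 32770) [nat_lit 120, nat_lit 270, nat_lit 120]) (.leaf (nat_lit 44034) [nat_lit 180, nat_lit 270, nat_lit 180]))) (.node (nat_lit 6) (.node (nat_lit 5) (.leaf (nat_lit 25602) [nat_lit 90, nat_lit 270, nat_lit 90]) (.leaf (nat_lit 53250) [nat_lit 330, nat_lit 270, nat_lit 330])) (.node (nat_lit 8) r39 r45))))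
noncomputable def r46 : WT := (.node (nat_lit 7) (.leaf (nat_lit 26626) [nat_lit 90, nat_lit 300, nat_lit 90]) (.leaf (nat_lit 52226) [nat_lit 240, nat_lit 300, nat_lit 240]))
noncomputable def r47 : WT := (.leaf (nat_lit 56336) [nat_lit 150, nat_lit 120, nat_lit 90, nat_lit 150, nat_lit 180, nat_lit 210, nat_lit 150, nat_lit 270, nat_lit 300, nat_lit 150, nat_lit 120, nat_lit 90, nat_lit 150, nat_lit 180, nat_lit 210, nat_lit 150, nat_lit 270, nat_lit 300, nat_lit 150, nat_lit 120, nat_lit 90, nat_lit 150, nat_lit 180, nat_lit 210, nat_lit 150, nat_lit 270, nat_lit 300, nat_lit 150, nat_lit 120, nat_lit 90, nat_lit 150, nat_lit 180, nat_lit 210, nat_lit 150, nat_lit 270, nat_lit 300, nat_lit 150, nat_lit 120, nat_lit 90, nat_lit 150, nat_lit 180, nat_lit 210, nat_lit 150, nat_lit 270, nat_lit 300, nat_lit 150, nat_lit 120, nat_lit 90, nat_lit 150, nat_lit 180, nat_lit 210, nat_lit 150, nat_lit 270, nat_lit 300, nat_lit 150, nat_lit 120, nat_lit 90, nat_lit 150, nat_lit 180, nat_lit 210, nat_lit 150, nat_lit 270, nat_lit 300,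 nat_lit 150, nat_lit 120, nat_lit 90, nat_lit 150, nat_lit 180, nat_lit 210, nat_lit 150, nat_lit 270, nat_lit 300, nat_lit 150, nat_lit 120, nat_lit 90, nat_lit 150, nat_lit 180, nat_lit 210, nat_lit 150, nat_lit 270, nat_lit 300, nat_lit 150, nat_lit 120, nat_lit 90, nat_lit 150, nat_lit 180, nat_lit 210, nat_lit 150, nat_lit 270])
noncomputable def r48 : WT := (.leaf (nat_lit 56321) [nat_lit 270, nat_lit 150, nat_lit 210, nat_lit 180, nat_lit 150, nat_lit 90, nat_lit 120, nat_lit 150, nat_lit 300, nat_lit 270, nat_lit 150, nat_lit 210, nat_lit 180, nat_lit 150, nat_lit 90, nat_lit 120, nat_lit 150, nat_lit 300, nat_lit 270, nat_lit 150, nat_lit 210, nat_lit 180, nat_lit 150, nat_lit 90, nat_lit 120, nat_lit 150, nat_lit 300, nat_lit 270, nat_lit 150, nat_lit 210, nat_lit 180, nat_lit 150, nat_lit 90, nat_lit 120, nat_lit 150, nat_lit 300, nat_lit 270, nat_lit 150, nat_lit 210, nat_lit 180, nat_lit 150, nat_lit 90, nat_lit 120, nat_lit 150, nat_lit 300, nat_lit 270, nat_lit 150, nat_lit 210, nat_lit 180, nat_lit 150, nat_lit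 90, nat_lit 120, nat_lit 150, nat_lit 300, nat_lit 270, nat_lit 150, nat_lit 210, nat_lit 180, nat_lit 150, nat_lit 90, nat_lit 120, nat_lit 150, nat_lit 300, nat_lit 270, nat_lit 150, nat_lit 210, nat_lit 180, nat_lit 150, nat_lit 90, nat_lit 120, nat_lit 150, nat_lit 300, nat_lit 270, nat_lit 150, nat_lit 210, nat_lit 180, nat_lit 150, nat_lit 90, nat_lit 120, nat_lit 150, nat_lit 300, nat_lit 270, nat_lit 150, nat_lit 210, nat_lit 180, nat_lit 150, nat_lit 90, nat_lit 120, nat_lit 150])
noncomputable def r49 : WT := (.node (nat_lit 9) (.leaf (nat_lit 18434) [nat_lit 60, nat_lit 300, nat_lit 60]) (.node (nat_lit 10) (.leaf (nat_lit 55298) [nat_lit 270, nat_lit 300, nat_lit 270, nat_lit 300, nat_lit 270]) (.node (nat_lit 11) r47 r48)))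
noncomputable def w8 : WT := (.node (nat_lit 1) (.leaf (nat_lit 8192) [nat_lit 300]) (.node (nat_lit 4) (.node (nat_lit 2) (.leaf (nat_lit 39938) [nat_lit 150, nat_lit 300, nat_lit 150]) (.node (nat_lit 3) (.leaf (nat_lit 49154) [nat_lit 210, nat_lit 300, nat_lit 210]) (.leaf (nat_lit 45058) [nat_lit 180, nat_lit 300, nat_lit 180]))) (.node (nat_lit 6) (.node (nat_lit 5) (.leaf (nat_lit 33794) [nat_lit 120, nat_lit 300, nat_lit 120]) (.leaf (nat_lit 54274) [nat_lit 330, nat_lit 300, nat_lit 330])) (.node (nat_lit 8) r46 r49))))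
noncomputable def r50 : WT := (.node (nat_lit 9) (.leaf (nat_lit 16386) [nat_lit 60, nat_lit 330, nat_lit 60]) (.leaf (nat_lit 50178) [nat_lit 240, nat_lit 330, nat_lit 240, nat_lit 330, nat_lit 240]))
noncomputable def w9 : WT := (.node (nat_lit 2) (.node (nat_lit 1) (.leaf (nat_lit 9216) [nat_lit 330]) (.leaf (nat_lit 37890) [nat_lit 150, nat_lit 330, nat_lit 150])) (.node (nat_lit 5) (.node (nat_lit 3) (.leaf (nat_lit 53248) [nat_lit 270, nat_lit 330, nat_lit 270]) (.node (nat_lit 4) (.leaf (nat_lit 47106) [nat_lit 210, nat_lit 330, nat_lit 210]) (.leaf (nat_lit 31746) [nat_lit 120, nat_lit 330, nat_lit 120]))) (.node (nat_lit 7) (.node (nat_lit 6) (.leaf (nat_lit 43010) [nat_lit 180, nat_lit 330, nat_lit 180]) (.leaf (nat_lit 24578) [nat_lit 90, nat_lit 330, nat_lit 90])) (.node (nat_lit 8) (.leaf (nat_lit 54272) [nat_lit 300, nat_lit 330, nat_lit 300]) r50))))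
noncomputable def r51 : WT := (.node (nat_lit 3) (.leaf (nat_lit 17410) [nat_lit 270, nat_lit 60, nat_lit 270, nat_lit 60]) (.leaf (nat_lit 35842) [nat_lit 210, nat_lit 150, nat_lit 210, nat_lit 150]))
noncomputable def r52 : WT := (.node (nat_lit 5) (.leaf (nat_lit 17408) [nat_lit 60, nat_lit 270, nat_lit 60, nat_lit 270]) (.leaf (nat_lit 39936) [nat_lit 150, nat_lit 300, nat_lit 150, nat_lit 300]))
noncomputable def r53 : WT := (.node (nat_lit 7) (.leaf (nat_lit 20480) [nat_lit 90, nat_lit 150, nat_lit 90, nat_lit 150]) (.leaf (nat_lit 48130) [nat_lit 270, nat_lit 210, nat_lit 270, nat_lit 210]))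
noncomputable def r54 : WT := (.node (nat_lit 9) (.leaf (nat_lit 35840) [nat_lit 150, nat_lit 210, nat_lit 150, nat_lit 210]) (.node (nat_lit 10) (.leaf (nat_lit 20482) [nat_lit 150, nat_lit 90, nat_lit 150, nat_lit 90]) (.leaf (nat_lit 34818) [nat_lit 180, nat_lit 150, nat_lit 180, nat_lit 150, nat_lit 180, nat_lit 150])))
noncomputable def r55 : WT := (.node (nat_lit 12) (.leaf (nat_lit 34816) [nat_lit 150, nat_lit 180, nat_lit 150, nat_lit 180, nat_lit 150, nat_lit 180]) (.node (nat_lit 13) (.leaf (nat_lit 40962) [nat_lit 210, nat_lit 180, nat_lit 210, nat_lit 180, nat_lit 210, nat_lit 180]) (.leaf (nat_lit 40960) [nat_lit 180, nat_lit 210, nat_lit 180, nat_lit 210, nat_lit 180, nat_lit 210])))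
noncomputable def r56 : WT := (.node (nat_lit 15) (.leaf (nat_lit 19458) [nat_lit 120, nat_lit 90, nat_lit 120, nat_lit 90, nat_lit 120, nat_lit 90]) (.node (nat_lit 16) (.leaf (nat_lit 27650) [nat_lit 150, nat_lit 120, nat_lit 150, nat_lit 120, nat_lit 150, nat_lit 120]) (.leaf (nat_lit 27648) [nat_lit 120, nat_lit 150, nat_lit 120, nat_lit 150, nat_lit 120, nat_lit 150])))
noncomputable def r57 : WT := (.node (nat_lit 19) (.node (nat_lit 18) (.leaf (nat_lit 38914) [nat_lit 270, nat_lit 150, nat_lit 270, nat_lit 150, nat_lit 270, nat_lit 150]) (.leaf (nat_lit 44032) [nat_lit 180, nat_lit 270, nat_lit 180, nat_lit 270])) (.node (nat_lit 20) (.leaf (nat_lit 33794) [nat_lit 300, nat_lit 120, nat_lit 300, nat_lit 120]) (.leaf (nat_lit 38912) [nat_lit 150, nat_lit 270, nat_lit 150, nat_lit 270, nat_lit 150, nat_lit 270])))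
noncomputable def r58 : WT := (.node (nat_lit 23) (.node (nat_lit 22) (.leaf (nat_lit 19456) [nat_lit 90, nat_lit 120, nat_lit 90, nat_lit 120, nat_lit 90, nat_lit 120]) (.leaf (nat_lit 25602) [nat_lit 270, nat_lit 90, nat_lit 270, nat_lit 90])) (.node (nat_lit 24) (.leaf (nat_lit 32770) [nat_lit 270, nat_lit 120, nat_lit 270, nat_lit 120]) (.leaf (nat_lit 21506) [nat_lit 180, nat_lit 90, nat_lit 180, nat_lit 90])))
noncomputable def r59 : WT := (.node (nat_lit 28) (.node (nat_lit 26) (.leaf (nat_lit 55298) [nat_lit 300, nat_lit 270, nat_lit 300, nat_lit 270, nat_lit 300, nat_lit 270]) (.node (nat_lit 27) (.leaf (nat_lit 45058) [nat_lit 300, nat_lit 180, nat_lit 300, nat_lit 180]) (.leaf (nat_lit 29698) [nat_lit 210, nat_lit 120, nat_lit 210, nat_lit 120]))) (.node (nat_lit 29) (.leaf (nat_lit 44034) [nat_lit 270, nat_lit 180, nat_lit 270, nat_lit 180]) (.node (nat_lit 30) (.leaf (nat_lit 31746) [nat_lit 330, nat_lit 120, nat_lit 330, nat_lit 120]) (.leaf (nat_lit 10242) [nat_lit 90, nat_lit 60, nat_lit 90, nat_lit 60, nat_lit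 90, nat_lit 60]))))
noncomputable def r60 : WT := (.node (nat_lit 34) (.node (nat_lit 32) (.leaf (nat_lit 10240) [nat_lit 60, nat_lit 90, nat_lit 60, nat_lit 90, nat_lit 60, nat_lit 90]) (.node (nat_lit 33) (.leaf (nat_lit 55296) [nat_lit 270, nat_lit 300, nat_lit 270, nat_lit 300, nat_lit 270, nat_lit 300]) (.leaf (nat_lit 28674) [nat_lit 180, nat_lit 120, nat_lit 180, nat_lit 120]))) (.node (nat_lit 35) (.leaf (nat_lit 37890) [nat_lit 330, nat_lit 150, nat_lit 330, nat_lit 150]) (.node (nat_lit 36) (.leaf (nat_lit 26626) [nat_lit 300, nat_lit 90, nat_lit 300, nat_lit 90]) (.leaf (nat_lit 53248) [nat_lit 330, nat_lit 270, nat_lit 330, nat_lit 270]))))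
noncomputable def r61 : WT := (.node (nat_lit 40) (.node (nat_lit 38) (.leaf (nat_lit 28672) [nat_lit 120, nat_lit 180, nat_lit 120, nat_lit 180]) (.node (nat_lit 39) (.leaf (nat_lit 22530) [nat_lit 210, nat_lit 90, nat_lit 210, nat_lit 90]) (.leaf (nat_lit 43010) [nat_lit 330, nat_lit 180, nat_lit 330, nat_lit 180]))) (.node (nat_lit 42) (.node (nat_lit 41) (.leaf (nat_lit 49154) [nat_lit 300, nat_lit 210, nat_lit 300, nat_lit 210]) (.leaf (nat_lit 47106) [nat_lit 330, nat_lit 210, nat_lit 330, nat_lit 210])) (.node (nat_lit 43) (.leaf (nat_lit 21504) [nat_lit 90, nat_lit 180, nat_lit 90, nat_lit 180]) (.leaf (nat_lit 29696) [nat_lit 120, nat_lit 210, nat_lit 120, nat_lit 210]))))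
noncomputable def r62 : WT := (.node (nat_lit 48) (.node (nat_lit 46) (.node (nat_lit 45) (.leaf (nat_lit 33792) [nat_lit 120, nat_lit 300, nat_lit 120, nat_lit 300]) (.leaf (nat_lit 24578) [nat_lit 330, nat_lit 90, nat_lit 330, nat_lit 90])) (.node (nat_lit 47) (.leaf (nat_lit 11264) [nat_lit 60, nat_lit 120, nat_lit 60, nat_lit 120]) (.leaf (nat_lit 25600) [nat_lit 90, nat_lit 270, nat_lit 90, nat_lit 270]))) (.node (nat_lit 50) (.node (nat_lit 49) (.leaf (nat_lit 32768) [nat_lit 120, nat_lit 270, nat_lit 120, nat_lit 270]) (.leaf (nat_lit 14336) [nat_lit 60, nat_lit 210, nat_lit 60, nat_lit 210])) (.node (nat_lit 51) (.leaf (nat_lit 22528) [nat_lit 90, nat_lit 210, nat_lit 90, nat_lit 210]) (.leaf (nat_lit 11266) [nat_lit 120, nat_lit 60, nat_lit 120, nat_lit 60]))))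
noncomputable def r63 : WT := (.node (nat_lit 57) (.node (nat_lit 54) (.node (nat_lit 53) (.leaf (nat_lit 12288) [nat_lit 60, nat_lit 150, nat_lit 60, nat_lit 150]) (.leaf (nat_lit 14338) [nat_lit 210, nat_lit 60, nat_lit 210, nat_lit 60])) (.node (nat_lit 55) (.leaf (nat_lit 36866) [nat_lit 240, nat_lit 150, nat_lit 240, nat_lit 150]) (.node (nat_lit 56) (.leaf (nat_lit 45056) [nat_lit 180, nat_lit 300, nat_lit 180, nat_lit 300]) (.leaf (nat_lit 26624) [nat_lit 90, nat_lit 300, nat_lit 90, nat_lit 300])))) (.node (nat_lit 60) (.node (nat_lit 58) (.leaf (nat_lit 13312) [nat_lit 60, nat_lit 180, nat_lit 60, nat_lit 180]) (.node (nat_lit 59) (.leaf (nat_lit 13314) [nat_lit 180, nat_lit 60, nat_lit 180, nat_lit 60]) (.leaf (nat_lit 37888) [nat_lit 150, nat_lit 330, nat_lit 150, nat_lit 330]))) (.node (nat_lit 61) (.leaf (nat_lit 49152) [nat_lit 210, nat_lit 300, nat_lit 210, nat_lit 300]) (.node (nat_lit 62) (.leaf (nat_lit 24576) [nat_lit 90, nat_lit 330, nat_lit 90, nat_lit 330]) (.leaf (nat_lit 18434) [nat_lit 300, nat_lit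 60, nat_lit 300, nat_lit 60])))))
noncomputable def r64 : WT := (.node (nat_lit 72) (.leaf (nat_lit 12290) [nat_lit 150, nat_lit 60, nat_lit 150, nat_lit 60]) (.leaf (nat_lit 54272) [nat_lit 330, nat_lit 300, nat_lit 330, nat_lit 300]))
noncomputable def r65 : WT := (.node (nat_lit 75) (.leaf (nat_lit 47104) [nat_lit 210, nat_lit 330, nat_lit 210, nat_lit 330]) (.leaf (nat_lit 36864) [nat_lit 150, nat_lit 240, nat_lit 150, nat_lit 240]))
noncomputable def r66 : WT := (.node (nat_lit 77) (.leaf (nat_lit 51202) [nat_lit 270, nat_lit 240, nat_lit 270, nat_lit 240]) (.leaf (nat_lit 18432) [nat_lit 60, nat_lit 300, nat_lit 60, nat_lit 300]))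
noncomputable def r67 : WT := (.node (nat_lit 79) (.leaf (nat_lit 23552) [nat_lit 90, nat_lit 240, nat_lit 90, nat_lit 240]) (.node (nat_lit 80) (.leaf (nat_lit 30720) [nat_lit 120, nat_lit 240, nat_lit 120, nat_lit 240]) (.leaf (nat_lit 46082) [nat_lit 240, nat_lit 210, nat_lit 240, nat_lit 210, nat_lit 240, nat_lit 210])))
noncomputable def r68 : WT := (.node (nat_lit 83) (.node (nat_lit 82) (.leaf (nat_lit 54274) [nat_lit 300, nat_lit 330, nat_lit 300, nat_lit 330]) (.leaf (nat_lit 52224) [nat_lit 240, nat_lit 300, nat_lit 240, nat_lit 300])) (.node (nat_lit 84) (.leaf (nat_lit 15362) [nat_lit 240, nat_lit 60, nat_lit 240, nat_lit 60]) (.leaf (nat_lit 52226) [nat_lit 300, nat_lit 240, nat_lit 300, nat_lit 240])))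
noncomputable def r69 : WT := (.leaf (nat_lit 57352) [nat_lit 180, nat_lit 210, nat_lit 270, nat_lit 60, nat_lit 90, nat_lit 120, nat_lit 150, nat_lit 180, nat_lit 210, nat_lit 270, nat_lit 60, nat_lit 90, nat_lit 120, nat_lit 150, nat_lit 180, nat_lit 210, nat_lit 270, nat_lit 60, nat_lit 90, nat_lit 120, nat_lit 150, nat_lit 180, nat_lit 210, nat_lit 270, nat_lit 60, nat_lit 90, nat_lit 120, nat_lit 150, nat_lit 180, nat_lit 210, nat_lit 270, nat_lit 60, nat_lit 90, nat_lit 120, nat_lit 150, nat_lit 180, nat_lit 210, nat_lit 270, nat_lit 60, nat_lit 90, nat_lit 120, nat_lit 150, nat_lit 180, nat_lit 210, nat_lit 270, nat_lit 60, nat_lit 90, nat_lit 120, nat_lit 150, nat_lit 180, nat_lit 210, nat_lit 270, nat_lit 60, nat_lit 90, nat_lit 120, nat_lit 150, nat_lit 180, nat_lit 210, nat_lit 270, nat_lit 60, nat_lit 90, nat_lit 120, nat_lit 150])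
noncomputable def r70 : WT := (.leaf (nat_lit 57353) [nat_lit 120, nat_lit 90, nat_lit 60, nat_lit 270, nat_lit 210, nat_lit 180, nat_lit 150, nat_lit 120, nat_lit 90, nat_lit 60, nat_lit 270, nat_lit 210, nat_lit 180, nat_lit 150, nat_lit 120, nat_lit 90, nat_lit 60, nat_lit 270, nat_lit 210, nat_lit 180, nat_lit 150, nat_lit 120, nat_lit 90, nat_lit 60, nat_lit 270, nat_lit 210, nat_lit 180, nat_lit 150, nat_lit 120, nat_lit 90, nat_lit 60, nat_lit 270, nat_lit 210, nat_lit 180, nat_lit 150, nat_lit 120, nat_lit 90, nat_lit 60, nat_lit 270, nat_lit 210, nat_lit 180, nat_lit 150, nat_lit 120, nat_lit 90, nat_lit 60, nat_lit 270, nat_lit 210, nat_lit 180, nat_lit 150, nat_lit 120, nat_lit 90, nat_lit 60, nat_lit 270, nat_lit 210, nat_lit 180, nat_lit 150, nat_lit 120, nat_lit 90, nat_lit 60, nat_lit 270, nat_lit 210, nat_lit 180, nat_lit 150])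
noncomputable def r71 : WT := (.leaf (nat_lit 56326) [nat_lit 150, nat_lit 180, nat_lit 210, nat_lit 150, nat_lit 270, nat_lit 300, nat_lit 150, nat_lit 120, nat_lit 90, nat_lit 150, nat_lit 180, nat_lit 210, nat_lit 150, nat_lit 270, nat_lit 300, nat_lit 150, nat_lit 120, nat_lit 90, nat_lit 150, nat_lit 180, nat_lit 210, nat_lit 150, nat_lit 270, nat_lit 300, nat_lit 150, nat_lit 120, nat_lit 90, nat_lit 150, nat_lit 180, nat_lit 210, nat_lit 150, nat_lit 270, nat_lit 300, nat_lit 150, nat_lit 120, nat_lit 90, nat_lit 150, nat_lit 180, nat_lit 210, nat_lit 150, nat_lit 270, nat_lit 300, nat_lit 150, nat_lit 120, nat_lit 90, nat_lit 150, nat_lit 180, nat_lit 210, nat_lit 150, nat_lit 270, nat_lit 300, nat_lit 150, nat_lit 120, nat_lit 90, nat_lit 150, nat_lit 180, nat_lit 210, nat_lit 150, nat_lit 270, nat_lit 300, nat_lit 150, nat_lit 120, nat_lit 90, nat_lit 150, nat_lit 180, nat_lit 210, nat_lit 150, nat_lit 270, nat_lit 300, nat_lit 150, nat_lit 120, nat_lit 90, nat_lit 150, nat_lit 180, nat_lit 210, nat_lit 150, nat_lit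 270, nat_lit 300, nat_lit 150, nat_lit 120, nat_lit 90, nat_lit 150, nat_lit 180, nat_lit 210, nat_lit 150, nat_lit 270, nat_lit 300, nat_lit 150, nat_lit 120, nat_lit 90])
noncomputable def r72 : WT := (.leaf (nat_lit 56321) [nat_lit 300, nat_lit 270, nat_lit 150, nat_lit 210, nat_lit 180, nat_lit 150, nat_lit 90, nat_lit 120, nat_lit 150, nat_lit 300, nat_lit 270, nat_lit 150, nat_lit 210, nat_lit 180, nat_lit 150, nat_lit 90, nat_lit 120, nat_lit 150, nat_lit 300, nat_lit 270, nat_lit 150, nat_lit 210, nat_lit 180, nat_lit 150, nat_lit 90, nat_lit 120, nat_lit 150, nat_lit 300, nat_lit 270, nat_lit 150, nat_lit 210, nat_lit 180, nat_lit 150, nat_lit 90, nat_lit 120, nat_lit 150, nat_lit 300, nat_lit 270, nat_lit 150, nat_lit 210, nat_lit 180, nat_lit 150, nat_lit 90, nat_lit 120, nat_lit 150, nat_lit 300, nat_lit 270, nat_lit 150, nat_lit 210, nat_lit 180, nat_lit 150, nat_lit 90, nat_lit 120, nat_lit 150, nat_lit 300, nat_lit 270, nat_lit 150, nat_lit 210, nat_lit 180, nat_lit 150, nat_lit 90, nat_lit 120, nat_lit 150,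 nat_lit 300, nat_lit 270, nat_lit 150, nat_lit 210, nat_lit 180, nat_lit 150, nat_lit 90, nat_lit 120, nat_lit 150, nat_lit 300, nat_lit 270, nat_lit 150, nat_lit 210, nat_lit 180, nat_lit 150, nat_lit 90, nat_lit 120, nat_lit 150, nat_lit 300, nat_lit 270, nat_lit 150, nat_lit 210, nat_lit 180, nat_lit 150, nat_lit 90, nat_lit 120, nat_lit 150])
noncomputable def r73 : WT := (.node (nat_lit 91) r71 r72)
noncomputable def r74 : WT := (.leaf (nat_lit 57350) [nat_lit 150, nat_lit 180, nat_lit 210, nat_lit 270, nat_lit 60, nat_lit 90, nat_lit 120, nat_lit 150, nat_lit 180, nat_lit 210, nat_lit 270, nat_lit 60, nat_lit 90, nat_lit 120, nat_lit 150, nat_lit 180, nat_lit 210, nat_lit 270, nat_lit 60, nat_lit 90, nat_lit 120, nat_lit 150, nat_lit 180, nat_lit 210, nat_lit 270, nat_lit 60, nat_lit 90, nat_lit 120, nat_lit 150, nat_lit 180, nat_lit 210, nat_lit 270, nat_lit 60, nat_lit 90, nat_lit 120, nat_lit 150, nat_lit 180, nat_lit 210, nat_lit 270, nat_lit 60, nat_lit 90, nat_lit 120, nat_lit 150, nat_lit 180, nat_lit 210, nat_lit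 270, nat_lit 60, nat_lit 90, nat_lit 120, nat_lit 150, nat_lit 180, nat_lit 210, nat_lit 270, nat_lit 60, nat_lit 90, nat_lit 120, nat_lit 150, nat_lit 180, nat_lit 210, nat_lit 270, nat_lit 60, nat_lit 90, nat_lit 120])
noncomputable def r75 : WT := (.node (nat_lit 93) (.leaf (nat_lit 50178) [nat_lit 330, nat_lit 240, nat_lit 330, nat_lit 240, nat_lit 330, nat_lit 240]) r74)
noncomputable def r76 : WT := (.leaf (nat_lit 57354) [nat_lit 210, nat_lit 270, nat_lit 60, nat_lit 90, nat_lit 120, nat_lit 150, nat_lit 180, nat_lit 210, nat_lit 270, nat_lit 60, nat_lit 90, nat_lit 120, nat_lit 150, nat_lit 180, nat_lit 210, nat_lit 270, nat_lit 60, nat_lit 90, nat_lit 120, nat_lit 150, nat_lit 180, nat_lit 210, nat_lit 270, nat_lit 60, nat_lit 90, nat_lit 120, nat_lit 150, nat_lit 180, nat_lit 210, nat_lit 270, nat_lit 60, nat_lit 90, nat_lit 120, nat_lit 150, nat_lit 180, nat_lit 210, nat_lit 270, nat_lit 60, nat_lit 90, nat_lit 120, nat_lit 150, nat_lit 180, nat_lit 210, nat_lit 270, nat_lit 60, nat_lit 90, nat_lit 120, nat_lit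 150, nat_lit 180, nat_lit 210, nat_lit 270, nat_lit 60, nat_lit 90, nat_lit 120, nat_lit 150, nat_lit 180, nat_lit 210, nat_lit 270, nat_lit 60, nat_lit 90, nat_lit 120, nat_lit 150, nat_lit 180])
noncomputable def r77 : WT := (.leaf (nat_lit 57349) [nat_lit 180, nat_lit 150, nat_lit 120, nat_lit 90, nat_lit 60, nat_lit 270, nat_lit 210, nat_lit 180, nat_lit 150, nat_lit 120, nat_lit 90, nat_lit 60, nat_lit 270, nat_lit 210, nat_lit 180, nat_lit 150, nat_lit 120, nat_lit 90, nat_lit 60, nat_lit 270, nat_lit 210, nat_lit 180, nat_lit 150, nat_lit 120, nat_lit 90, nat_lit 60, nat_lit 270, nat_lit 210, nat_lit 180, nat_lit 150, nat_lit 120, nat_lit 90, nat_lit 60, nat_lit 270, nat_lit 210, nat_lit 180, nat_lit 150, nat_lit 120, nat_lit 90, nat_lit 60, nat_lit 270, nat_lit 210, nat_lit 180, nat_lit 150, nat_lit 120, nat_lit 90, nat_lit 60, nat_lit 270, nat_lit 210, nat_lit 180, nat_lit 150, nat_lit 120, nat_lit 90, nat_lit 60, nat_lit 270, nat_lit 210, nat_lit 180, nat_lit 150, nat_lit 120, nat_lit 90, nat_lit 60, nat_lit 270,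 nat_lit 210])
noncomputable def r78 : WT := (.leaf (nat_lit 57357) [nat_lit 60, nat_lit 270, nat_lit 210, nat_lit 180, nat_lit 150, nat_lit 120, nat_lit 90, nat_lit 60, nat_lit 270, nat_lit 210, nat_lit 180, nat_lit 150, nat_lit 120, nat_lit 90, nat_lit 60, nat_lit 270, nat_lit 210, nat_lit 180, nat_lit 150, nat_lit 120, nat_lit 90, nat_lit 60, nat_lit 270, nat_lit 210, nat_lit 180, nat_lit 150, nat_lit 120, nat_lit 90, nat_lit 60, nat_lit 270, nat_lit 210, nat_lit 180, nat_lit 150, nat_lit 120, nat_lit 90, nat_lit 60, nat_lit 270, nat_lit 210, nat_lit 180, nat_lit 150, nat_lit 120, nat_lit 90, nat_lit 60, nat_lit 270, nat_lit 210, nat_lit 180, nat_lit 150, nat_lit 120, nat_lit 90, nat_lit 60, nat_lit 270, nat_lit 210, nat_lit 180, nat_lit 150, nat_lit 120, nat_lit 90, nat_lit 60, nat_lit 270, nat_lit 210, nat_lit 180, nat_lit 150, nat_lit 120, nat_lit 90])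
noncomputable def r79 : WT := (.node (nat_lit 95) r76 (.node (nat_lit 96) r77 r78))
noncomputable def r80 : WT := (.leaf (nat_lit 56330) [nat_lit 210, nat_lit 150, nat_lit 270, nat_lit 300, nat_lit 150, nat_lit 120, nat_lit 90, nat_lit 150, nat_lit 180, nat_lit 210, nat_lit 150, nat_lit 270, nat_lit 300, nat_lit 150, nat_lit 120, nat_lit 90, nat_lit 150, nat_lit 180, nat_lit 210, nat_lit 150, nat_lit 270, nat_lit 300, nat_lit 150, nat_lit 120, nat_lit 90, nat_lit 150, nat_lit 180, nat_lit 210, nat_lit 150, nat_lit 270, nat_lit 300, nat_lit 150, nat_lit 120, nat_lit 90, nat_lit 150, nat_lit 180, nat_lit 210, nat_lit 150, nat_lit 270, nat_lit 300, nat_lit 150, nat_lit 120, nat_lit 90, nat_lit 150, nat_lit 180, nat_lit 210, nat_lit 150, nat_lit 270, nat_lit 300, nat_lit 150, nat_lit 120, nat_lit 90, nat_lit 150, nat_lit 180, nat_lit 210, nat_lit 150, nat_lit 270, nat_lit 300, nat_lit 150, nat_lit 120, nat_lit 90, nat_lit 150, nat_lit 180, nat_lit 210, nat_lit 150, nat_lit 270, nat_lit 300, nat_lit 150, nat_lit 120, nat_lit 90,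 nat_lit 150, nat_lit 180, nat_lit 210, nat_lit 150, nat_lit 270, nat_lit 300, nat_lit 150, nat_lit 120, nat_lit 90, nat_lit 150, nat_lit 180, nat_lit 210, nat_lit 150, nat_lit 270, nat_lit 300, nat_lit 150, nat_lit 120, nat_lit 90, nat_lit 150, nat_lit 180])
noncomputable def r81 : WT := (.leaf (nat_lit 56323) [nat_lit 270, nat_lit 150, nat_lit 210, nat_lit 180, nat_lit 150, nat_lit 90, nat_lit 120, nat_lit 150, nat_lit 300, nat_lit 270, nat_lit 150, nat_lit 210, nat_lit 180, nat_lit 150, nat_lit 90, nat_lit 120, nat_lit 150, nat_lit 300, nat_lit 270, nat_lit 150, nat_lit 210, nat_lit 180, nat_lit 150, nat_lit 90, nat_lit 120, nat_lit 150, nat_lit 300, nat_lit 270, nat_lit 150, nat_lit 210, nat_lit 180, nat_lit 150, nat_lit 90, nat_lit 120, nat_lit 150, nat_lit 300, nat_lit 270, nat_lit 150, nat_lit 210, nat_lit 180, nat_lit 150, nat_lit 90, nat_lit 120, nat_lit 150, nat_lit 300, nat_lit 270, nat_lit 150, nat_lit 210, nat_lit 180, nat_lit 150, nat_lit 90, nat_lit 120, nat_lit 150, nat_lit 300, nat_lit 270, nat_lit 150, nat_lit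 210, nat_lit 180, nat_lit 150, nat_lit 90, nat_lit 120, nat_lit 150, nat_lit 300, nat_lit 270, nat_lit 150, nat_lit 210, nat_lit 180, nat_lit 150, nat_lit 90, nat_lit 120, nat_lit 150, nat_lit 300, nat_lit 270, nat_lit 150, nat_lit 210, nat_lit 180, nat_lit 150, nat_lit 90, nat_lit 120, nat_lit 150, nat_lit 300, nat_lit 270, nat_lit 150, nat_lit 210, nat_lit 180, nat_lit 150, nat_lit 90, nat_lit 120, nat_lit 150, nat_lit 300])
noncomputable def r82 : WT := (.leaf (nat_lit 56333) [nat_lit 90, nat_lit 120, nat_lit 150, nat_lit 300, nat_lit 270, nat_lit 150, nat_lit 210, nat_lit 180, nat_lit 150, nat_lit 90, nat_lit 120, nat_lit 150, nat_lit 300, nat_lit 270, nat_lit 150, nat_lit 210, nat_lit 180, nat_lit 150, nat_lit 90, nat_lit 120, nat_lit 150, nat_lit 300, nat_lit 270, nat_lit 150, nat_lit 210, nat_lit 180, nat_lit 150, nat_lit 90, nat_lit 120, nat_lit 150, nat_lit 300, nat_lit 270, nat_lit 150, nat_lit 210, nat_lit 180, nat_lit 150, nat_lit 90, nat_lit 120, nat_lit 150, nat_lit 300, nat_lit 270, nat_lit 150, nat_lit 210,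 nat_lit 180, nat_lit 150, nat_lit 90, nat_lit 120, nat_lit 150, nat_lit 300, nat_lit 270, nat_lit 150, nat_lit 210, nat_lit 180, nat_lit 150, nat_lit 90, nat_lit 120, nat_lit 150, nat_lit 300, nat_lit 270, nat_lit 150, nat_lit 210, nat_lit 180, nat_lit 150, nat_lit 90, nat_lit 120, nat_lit 150, nat_lit 300, nat_lit 270, nat_lit 150, nat_lit 210, nat_lit 180, nat_lit 150, nat_lit 90, nat_lit 120, nat_lit 150, nat_lit 300, nat_lit 270, nat_lit 150, nat_lit 210, nat_lit 180, nat_lit 150, nat_lit 90, nat_lit 120, nat_lit 150, nat_lit 300, nat_lit 270, nat_lit 150, nat_lit 210, nat_lit 180, nat_lit 150])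
noncomputable def r83 : WT := (.node (nat_lit 98) r80 (.node (nat_lit 99) r81 r82))
noncomputable def r84 : WT := (.node (nat_lit 87) (.node (nat_lit 86) (.leaf (nat_lit 46080) [nat_lit 210, nat_lit 240, nat_lit 210, nat_lit 240, nat_lit 210, nat_lit 240]) (.leaf (nat_lit 41984) [nat_lit 180, nat_lit 240, nat_lit 180, nat_lit 240])) (.node (nat_lit 90) (.node (nat_lit 88) (.leaf (nat_lit 15360) [nat_lit 60, nat_lit 240, nat_lit 60, nat_lit 240]) (.node (nat_lit 89) r69 r70)) (.node (nat_lit 94) (.node (nat_lit 92) r73 r75) (.node (nat_lit 97) r79 r83))))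
noncomputable def r85 : WT := (.node (nat_lit 70) (.node (nat_lit 66) (.node (nat_lit 64) (.leaf (nat_lit 30722) [nat_lit 240, nat_lit 120, nat_lit 240, nat_lit 120]) (.node (nat_lit 65) (.leaf (nat_lit 41986) [nat_lit 240, nat_lit 180, nat_lit 240, nat_lit 180]) (.leaf (nat_lit 43008) [nat_lit 180, nat_lit 330, nat_lit 180, nat_lit 330]))) (.node (nat_lit 68) (.node (nat_lit 67) (.leaf (nat_lit 23554) [nat_lit 240, nat_lit 90, nat_lit 240, nat_lit 90]) (.leaf (nat_lit 51200) [nat_lit 240, nat_lit 270, nat_lit 240, nat_lit 270])) (.node (nat_lit 69) (.leaf (nat_lit 31744) [nat_lit 120, nat_lit 330, nat_lit 120, nat_lit 330]) (.leaf (nat_lit 16384) [nat_lit 60, nat_lit 330, nat_lit 60, nat_lit 330])))) (.node (nat_lit 76) (.node (nat_lit 73) (.node (nat_lit 71) (.leaf (nat_lit 16386) [nat_lit 330, nat_lit 60, nat_lit 330, nat_lit 60]) r64) (.node (nat_lit 74) (.leaf (nat_lit 53250) [nat_lit 270, nat_lit 330, nat_lit 270, nat_lit 330]) r65)) (.node (nat_lit 81) (.node (nat_lit 78) r66 r67) (.node (nat_lit 85) r68 r84))))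
noncomputable def wP : WT := (.node (nat_lit 17) (.node (nat_lit 6) (.node (nat_lit 2) (.node (nat_lit 1) (.leaf (nat_lit 48128) [nat_lit 210, nat_lit 270, nat_lit 210, nat_lit 270]) (.leaf (nat_lit 39938) [nat_lit 300, nat_lit 150, nat_lit 300, nat_lit 150])) (.node (nat_lit 4) r51 r52)) (.node (nat_lit 11) (.node (nat_lit 8) r53 r54) (.node (nat_lit 14) r55 r56))) (.node (nat_lit 37) (.node (nat_lit 25) (.node (nat_lit 21) r57 r58) (.node (nat_lit 31) r59 r60)) (.node (nat_lit 52) (.node (nat_lit 44) r61 r62) (.node (nat_lit 63) r63 r85))))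
noncomputable def P : Par := ⟨tb, nat_lit 360, nat_lit 0xffffffffffffffffffffffffffffffffffffffffffffffffffffffffffffffffffffffffffffffffffffffffff, nat_lit 81613, nat_lit 1073741823, nat_lit 131071, nat_lit 30, nat_lit 17, nat_lit 31671,
  [nat_lit 60, nat_lit 90, nat_lit 120, nat_lit 150, nat_lit 180, nat_lit 210, nat_lit 240, nat_lit 270, nat_lit 300, nat_lit 330], [nat_lit 60, nat_lit 90, nat_lit 120, nat_lit 150, nat_lit 180, nat_lit 210, nat_lit 240, nat_lit 270, nat_lit 300], wP,
  (.cons (nat_lit 60) w0 (.cons (nat_lit 90) w1 (.cons (nat_lit 120) w2 (.cons (nat_lit 150) w3 (.cons (nat_lit 180) w4 (.cons (nat_lit 210) w5 (.cons (nat_lit 240) w6 (.cons (nat_lit 270) w7 (.cons (nat_lit 300) w8 (.cons (nat_lit 330) w9 .nil)))))))))),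
  .nil⟩

end Cfsg.Agent.Lib.TCFi23
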