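import Cfsg.Agent.Lib.TCFi24AD0
import Cfsg.Agent.Lib.TCFi24AD1
import Cfsg.Agent.Lib.TCFi24AD2
import Cfsg.Agent.Lib.TCFi24AD3
import Cfsg.Agent.Lib.TCFi24AD4
import Cfsg.Agent.Lib.TCFi24AD5
import Cfsg.Agent.Lib.TCFi24AD6

set_option autoImplicit false
set_option maxRecDepth 100000

namespace Cfsg.Agent.Lib.TCFi24A
open Cfsg.Agent.Lib.TCCore

noncomputable def n0 : T := (.node (nat_lit 114) (.node (nat_lit 38) l0 (.node (nat_lit 76) l1 l2)) (.node (nat_lit 190) (.node (nat_lit 152) l3 l4) (.node (nat_lit 228) l5 l6)))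
noncomputable def n1 : T := (.node (nat_lit 418) (.node (nat_lit 342) (.node (nat_lit 304) l7 l8) (.node (nat_lit 380) l9 l10)) (.node (nat_lit 494) (.node (nat_lit 456) l11 l12) (.node (nat_lit 532) l13 l14)))
noncomputable def n2 : T := (.node (nat_lit 722) (.node (nat_lit 646) (.node (nat_lit 608) l15 l16) (.node (nat_lit 684) l17 l18)) (.node (nat_lit 798) (.node (nat_lit 760) l19 l20) (.node (nat_lit 836) l21 l22)))
noncomputable def n3 : T := (.node (nat_lit 1026) (.node (nat_lit 950) (.node (nat_lit 912) l23 l24) (.node (nat_lit 988) l25 l26)) (.node (nat_lit 1102) (.node (nat_lit 1064) l27 l28) (.node (nat_lit 1140) l29 l30)))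
noncomputable def n4 : T := (.node (nat_lit 1330) (.node (nat_lit 1254) (.node (nat_lit 1216) l31 l32) (.node (nat_lit 1292) l33 l34)) (.node (nat_lit 1406) (.node (nat_lit 1368) l35 l36) (.node (nat_lit 1444) l37 l38)))
noncomputable def n5 : T := (.node (nat_lit 1634) (.node (nat_lit 1558) (.node (nat_lit 1520) l39 l40) (.node (nat_lit 1596) l41 l42)) (.node (nat_lit 1710) (.node (nat_lit 1672) l43 l44) (.node (nat_lit 1748) l45 l46)))
noncomputable def n6 : T := (.node (nat_lit 1938) (.node (nat_lit 1862) (.node (nat_lit 1824) l47 l48) (.node (nat_lit 1900) l49 l50)) (.node (nat_lit 2014) (.node (nat_lit 1976) l51 l52) (.node (nat_lit 2052) l53 l54)))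
noncomputable def n7 : T := (.node (nat_lit 2242) (.node (nat_lit 2166) (.node (nat_lit 2128) l55 l56) (.node (nat_lit 2204) l57 l58)) (.node (nat_lit 2318) (.node (nat_lit 2280) l59 l60) (.node (nat_lit 2356) l61 l62)))
noncomputable def n8 : T := (.node (nat_lit 2508) (.node (nat_lit 2432) l63 (.node (nat_lit 2470) l64 l65)) (.node (nat_lit 2584) (.node (nat_lit 2546) l66 l67) (.node (nat_lit 2622) l68 l69)))
noncomputable def n9 : T := (.node (nat_lit 2812) (.node (nat_lit 2736) (.node (nat_lit 2698) l70 l71) (.node (nat_lit 2774) l72 l73)) (.node (nat_lit 2888) (.node (nat_lit 2850) l74 l75) (.node (nat_lit 2926) l76 l77)))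
noncomputable def n10 : T := (.node (nat_lit 3116) (.node (nat_lit 3040) (.node (nat_lit 3002) l78 l79) (.node (nat_lit 3078) l80 l81)) (.node (nat_lit 3192) (.node (nat_lit 3154) l82 l83) (.node (nat_lit 3230) l84 l85)))
noncomputable def n11 : T := (.node (nat_lit 3420) (.node (nat_lit 3344) (.node (nat_lit 3306) l86 l87) (.node (nat_lit 3382) l88 l89)) (.node (nat_lit 3496) (.node (nat_lit 3458) l90 l91) (.node (nat_lit 3534) l92 l93)))
noncomputable def n12 : T := (.node (nat_lit 3724) (.node (nat_lit 3648) (.node (nat_lit 3610) l94 l95) (.node (nat_lit 3686) l96 l97)) (.node (nat_lit 3800) (.node (nat_lit 3762) l98 l99) (.node (nat_lit 3838) l100 l101)))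
noncomputable def n13 : T := (.node (nat_lit 4028) (.node (nat_lit 3952) (.node (nat_lit 3914) l102 l103) (.node (nat_lit 3990) l104 l105)) (.node (nat_lit 4104) (.node (nat_lit 4066) l106 l107) (.node (nat_lit 4142) l108 l109)))
noncomputable def n14 : T := (.node (nat_lit 4332) (.node (nat_lit 4256) (.node (nat_lit 4218) l110 l111) (.node (nat_lit 4294) l112 l113)) (.node (nat_lit 4408) (.node (nat_lit 4370) l114 l115) (.node (nat_lit 4446) l116 l117)))
noncomputable def n15 : T := (.node (nat_lit 4636) (.node (nat_lit 4560) (.node (nat_lit 4522) l118 l119) (.node (nat_lit 4598) l120 l121)) (.node (nat_lit 4712) (.node (nat_lit 4674) l122 l123) (.node (nat_lit 4750) l124 l125)))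
noncomputable def n16 : T := (.node (nat_lit 4902) (.node (nat_lit 4826) l126 (.node (nat_lit 4864) l127 l128)) (.node (nat_lit 4978) (.node (nat_lit 4940) l129 l130) (.node (nat_lit 5016) l131 l132)))
noncomputable def n17 : T := (.node (nat_lit 5206) (.node (nat_lit 5130) (.node (nat_lit 5092) l133 l134) (.node (nat_lit 5168) l135 l136)) (.node (nat_lit 5282) (.node (nat_lit 5244) l137 l138) (.node (nat_lit 5320) l139 l140)))
noncomputable def n18 : T := (.node (nat_lit 5510) (.node (nat_lit 5434) (.node (nat_lit 5396) l141 l142) (.node (nat_lit 5472) l143 l144)) (.node (nat_lit 5586) (.node (nat_lit 5548) l145 l146) (.node (nat_lit 5624) l147 l148)))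
noncomputable def n19 : T := (.node (nat_lit 5814) (.node (nat_lit 5738) (.node (nat_lit 5700) l149 l150) (.node (nat_lit 5776) l151 l152)) (.node (nat_lit 5890) (.node (nat_lit 5852) l153 l154) (.node (nat_lit 5928) l155 l156)))
noncomputable def n20 : T := (.node (nat_lit 6118) (.node (nat_lit 6042) (.node (nat_lit 6004) l157 l158) (.node (nat_lit 6080) l159 l160)) (.node (nat_lit 6194) (.node (nat_lit 6156) l161 l162) (.node (nat_lit 6232) l163 l164)))
noncomputable def n21 : T := (.node (nat_lit 6422) (.node (nat_lit 6346) (.node (nat_lit 6308) l165 l166) (.node (nat_lit 6384) l167 l168)) (.node (nat_lit 6498) (.node (nat_lit 6460) l169 l170) (.node (nat_lit 6536) l171 l172)))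
noncomputable def n22 : T := (.node (nat_lit 6726) (.node (nat_lit 6650) (.node (nat_lit 6612) l173 l174) (.node (nat_lit 6688) l175 l176)) (.node (nat_lit 6802) (.node (nat_lit 6764) l177 l178) (.node (nat_lit 6840) l179 l180)))
noncomputable def n23 : T := (.node (nat_lit 7030) (.node (nat_lit 6954) (.node (nat_lit 6916) l181 l182) (.node (nat_lit 6992) l183 l184)) (.node (nat_lit 7106) (.node (nat_lit 7068) l185 l186) (.node (nat_lit 7144) l187 l188)))
noncomputable def n24 : T := (.node (nat_lit 7296) (.node (nat_lit 7220) l189 (.node (nat_lit 7258) l190 l191)) (.node (nat_lit 7372) (.node (nat_lit 7334) l192 l193) (.node (nat_lit 7410) l194 l195)))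
noncomputable def n25 : T := (.node (nat_lit 7600) (.node (nat_lit 7524) (.node (nat_lit 7486) l196 l197) (.node (nat_lit 7562) l198 l199)) (.node (nat_lit 7676) (.node (nat_lit 7638) l200 l201) (.node (nat_lit 7714) l202 l203)))
noncomputable def n26 : T := (.node (nat_lit 7904) (.node (nat_lit 7828) (.node (nat_lit 7790) l204 l205) (.node (nat_lit 7866) l206 l207)) (.node (nat_lit 7980) (.node (nat_lit 7942) l208 l209) (.node (nat_lit 8018) l210 l211)))
noncomputable def n27 : T := (.node (nat_lit 8208) (.node (nat_lit 8132) (.node (nat_lit 8094) l212 l213) (.node (nat_lit 8170) l214 l215)) (.node (nat_lit 8284) (.node (nat_lit 8246) l216 l217) (.node (nat_lit 8322) l218 l219)))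
noncomputable def n28 : T := (.node (nat_lit 8512) (.node (nat_lit 8436) (.node (nat_lit 8398) l220 l221) (.node (nat_lit 8474) l222 l223)) (.node (nat_lit 8588) (.node (nat_lit 8550) l224 l225) (.node (nat_lit 8626) l226 l227)))
noncomputable def n29 : T := (.node (nat_lit 8816) (.node (nat_lit 8740) (.node (nat_lit 8702) l228 l229) (.node (nat_lit 8778) l230 l231)) (.node (nat_lit 8892) (.node (nat_lit 8854) l232 l233) (.node (nat_lit 8930) l234 l235)))
noncomputable def n30 : T := (.node (nat_lit 9120) (.node (nat_lit 9044) (.node (nat_lit 9006) l236 l237) (.node (nat_lit 9082) l238 l239)) (.node (nat_lit 9196) (.node (nat_lit 9158) l240 l241) (.node (nat_lit 9234) l242 l243)))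
noncomputable def n31 : T := (.node (nat_lit 9424) (.node (nat_lit 9348) (.node (nat_lit 9310) l244 l245) (.node (nat_lit 9386) l246 l247)) (.node (nat_lit 9500) (.node (nat_lit 9462) l248 l249) (.node (nat_lit 9538) l250 l251)))
noncomputable def n32 : T := (.node (nat_lit 4788) (.node (nat_lit 2394) (.node (nat_lit 1178) (.node (nat_lit 570) (.node (nat_lit 266) n0 n1) (.node (nat_lit 874) n2 n3)) (.node (nat_lit 1786) (.node (nat_lit 1482) n4 n5) (.node (nat_lit 2090) n6 n7))) (.node (nat_lit 3572) (.node (nat_lit 2964) (.node (nat_lit 2660) n8 n9) (.node (nat_lit 3268) n10 n11)) (.node (nat_lit 4180) (.node (nat_lit 3876) n12 n13) (.node (nat_lit 4484) n14 n15)))) (.node (nat_lit 7182) (.node (nat_lit 5966) (.node (nat_lit 5358) (.node (nat_lit 5054) n16 n17) (.node (nat_lit 5662) n18 n19)) (.node (nat_lit 6574) (.node (nat_lit 6270) n20 n21) (.node (nat_lit 6878) n22 n23))) (.node (nat_lit 8360) (.node (nat_lit 7752) (.node (nat_lit 7448) n24 n25) (.node (nat_lit 8056) n26 n27)) (.node (nat_lit 8968)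 (.node (nat_lit 8664) n28 n29) (.node (nat_lit 9272) n30 n31)))))
noncomputable def n33 : T := (.node (nat_lit 9690) (.node (nat_lit 9614) l252 (.node (nat_lit 9652) l253 l254)) (.node (nat_lit 9766) (.node (nat_lit 9728) l255 l256) (.node (nat_lit 9804) l257 l258)))
noncomputable def n34 : T := (.node (nat_lit 9994) (.node (nat_lit 9918) (.node (nat_lit 9880) l259 l260) (.node (nat_lit 9956) l261 l262)) (.node (nat_lit 10070) (.node (nat_lit 10032) l263 l264) (.node (nat_lit 10108) l265 l266)))
noncomputable def n35 : T := (.node (nat_lit 10298) (.node (nat_lit 10222) (.node (nat_lit 10184) l267 l268) (.node (nat_lit 10260) l269 l270)) (.node (nat_lit 10374) (.node (nat_lit 10336) l271 l272) (.node (nat_lit 10412) l273 l274)))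
noncomputable def n36 : T := (.node (nat_lit 10602) (.node (nat_lit 10526) (.node (nat_lit 10488) l275 l276) (.node (nat_lit 10564) l277 l278)) (.node (nat_lit 10678) (.node (nat_lit 10640) l279 l280) (.node (nat_lit 10716) l281 l282)))
noncomputable def n37 : T := (.node (nat_lit 10906) (.node (nat_lit 10830) (.node (nat_lit 10792) l283 l284) (.node (nat_lit 10868) l285 l286)) (.node (nat_lit 10982) (.node (nat_lit 10944) l287 l288) (.node (nat_lit 11020) l289 l290)))
noncomputable def n38 : T := (.node (nat_lit 11210) (.node (nat_lit 11134) (.node (nat_lit 11096) l291 l292) (.node (nat_lit 11172) l293 l294)) (.node (nat_lit 11286) (.node (nat_lit 11248) l295 l296) (.node (nat_lit 11324) l297 l298)))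
noncomputable def n39 : T := (.node (nat_lit 11514) (.node (nat_lit 11438) (.node (nat_lit 11400) l299 l300) (.node (nat_lit 11476) l301 l302)) (.node (nat_lit 11590) (.node (nat_lit 11552) l303 l304) (.node (nat_lit 11628) l305 l306)))
noncomputable def n40 : T := (.node (nat_lit 11818) (.node (nat_lit 11742) (.node (nat_lit 11704) l307 l308) (.node (nat_lit 11780) l309 l310)) (.node (nat_lit 11894) (.node (nat_lit 11856) l311 l312) (.node (nat_lit 11932) l313 l314)))
noncomputable def n41 : T := (.node (nat_lit 12084) (.node (nat_lit 12008) l315 (.node (nat_lit 12046) l316 l317)) (.node (nat_lit 12160) (.node (nat_lit 12122) l318 l319) (.node (nat_lit 12198) l320 l321)))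
noncomputable def n42 : T := (.node (nat_lit 12388) (.node (nat_lit 12312) (.node (nat_lit 12274) l322 l323) (.node (nat_lit 12350) l324 l325)) (.node (nat_lit 12464) (.node (nat_lit 12426) l326 l327) (.node (nat_lit 12502) l328 l329)))
noncomputable def n43 : T := (.node (nat_lit 12692) (.node (nat_lit 12616) (.node (nat_lit 12578) l330 l331) (.node (nat_lit 12654) l332 l333)) (.node (nat_lit 12768) (.node (nat_lit 12730) l334 l335) (.node (nat_lit 12806) l336 l337)))
noncomputable def n44 : T := (.node (nat_lit 12996) (.node (nat_lit 12920) (.node (nat_lit 12882) l338 l339) (.node (nat_lit 12958) l340 l341)) (.node (nat_lit 13072) (.node (nat_lit 13034) l342 l343) (.node (nat_lit 13110) l344 l345)))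
noncomputable def n45 : T := (.node (nat_lit 13300) (.node (nat_lit 13224) (.node (nat_lit 13186) l346 l347) (.node (nat_lit 13262) l348 l349)) (.node (nat_lit 13376) (.node (nat_lit 13338) l350 l351) (.node (nat_lit 13414) l352 l353)))
noncomputable def n46 : T := (.node (nat_lit 13604) (.node (nat_lit 13528) (.node (nat_lit 13490) l354 l355) (.node (nat_lit 13566) l356 l357)) (.node (nat_lit 13680) (.node (nat_lit 13642) l358 l359) (.node (nat_lit 13718) l360 l361)))
noncomputable def n47 : T := (.node (nat_lit 13908) (.node (nat_lit 13832) (.node (nat_lit 13794) l362 l363) (.node (nat_lit 13870) l364 l365)) (.node (nat_lit 13984) (.node (nat_lit 13946) l366 l367) (.node (nat_lit 14022) l368 l369)))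
noncomputable def n48 : T := (.node (nat_lit 14212) (.node (nat_lit 14136) (.node (nat_lit 14098) l370 l371) (.node (nat_lit 14174) l372 l373)) (.node (nat_lit 14288) (.node (nat_lit 14250) l374 l375) (.node (nat_lit 14326) l376 l377)))
noncomputable def n49 : T := (.node (nat_lit 14478) (.node (nat_lit 14402) l378 (.node (nat_lit 14440) l379 l380)) (.node (nat_lit 14554) (.node (nat_lit 14516) l381 l382) (.node (nat_lit 14592) l383 l384)))
noncomputable def n50 : T := (.node (nat_lit 14782) (.node (nat_lit 14706) (.node (nat_lit 14668) l385 l386) (.node (nat_lit 14744) l387 l388)) (.node (nat_lit 14858) (.node (nat_lit 14820) l389 l390) (.node (nat_lit 14896) l391 l392)))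
noncomputable def n51 : T := (.node (nat_lit 15086) (.node (nat_lit 15010) (.node (nat_lit 14972) l393 l394) (.node (nat_lit 15048) l395 l396)) (.node (nat_lit 15162) (.node (nat_lit 15124) l397 l398) (.node (nat_lit 15200) l399 l400)))
noncomputable def n52 : T := (.node (nat_lit 15390) (.node (nat_lit 15314) (.node (nat_lit 15276) l401 l402) (.node (nat_lit 15352) l403 l404)) (.node (nat_lit 15466) (.node (nat_lit 15428) l405 l406) (.node (nat_lit 15504) l407 l408)))
noncomputable def n53 : T := (.node (nat_lit 15694) (.node (nat_lit 15618) (.node (nat_lit 15580) l409 l410) (.node (nat_lit 15656) l411 l412)) (.node (nat_lit 15770) (.node (nat_lit 15732) l413 l414) (.node (nat_lit 15808) l415 l416)))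
noncomputable def n54 : T := (.node (nat_lit 15998) (.node (nat_lit 15922) (.node (nat_lit 15884) l417 l418) (.node (nat_lit 15960) l419 l420)) (.node (nat_lit 16074) (.node (nat_lit 16036) l421 l422) (.node (nat_lit 16112) l423 l424)))
noncomputable def n55 : T := (.node (nat_lit 16302) (.node (nat_lit 16226) (.node (nat_lit 16188) l425 l426) (.node (nat_lit 16264) l427 l428)) (.node (nat_lit 16378) (.node (nat_lit 16340) l429 l430) (.node (nat_lit 16416) l431 l432)))
noncomputable def n56 : T := (.node (nat_lit 16606) (.node (nat_lit 16530) (.node (nat_lit 16492) l433 l434) (.node (nat_lit 16568) l435 l436)) (.node (nat_lit 16682) (.node (nat_lit 16644) l437 l438) (.node (nat_lit 16720) l439 l440)))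
noncomputable def n57 : T := (.node (nat_lit 16910) (.node (nat_lit 16834) (.node (nat_lit 16796) l441 l442) (.node (nat_lit 16872) l443 l444)) (.node (nat_lit 16986) (.node (nat_lit 16948) l445 l446) (.node (nat_lit 17024) l447 l448)))
noncomputable def n58 : T := (.node (nat_lit 17214) (.node (nat_lit 17138) (.node (nat_lit 17100) l449 l450) (.node (nat_lit 17176) l451 l452)) (.node (nat_lit 17290) (.node (nat_lit 17252) l453 l454) (.node (nat_lit 17328) l455 l456)))
noncomputable def n59 : T := (.node (nat_lit 17518) (.node (nat_lit 17442) (.node (nat_lit 17404) l457 l458) (.node (nat_lit 17480) l459 l460)) (.node (nat_lit 17594) (.node (nat_lit 17556) l461 l462) (.node (nat_lit 17632) l463 l464)))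
noncomputable def n60 : T := (.node (nat_lit 17822) (.node (nat_lit 17746) (.node (nat_lit 17708) l465 l466) (.node (nat_lit 17784) l467 l468)) (.node (nat_lit 17898) (.node (nat_lit 17860) l469 l470) (.node (nat_lit 17936) l471 l472)))
noncomputable def n61 : T := (.node (nat_lit 18126) (.node (nat_lit 18050) (.node (nat_lit 18012) l473 l474) (.node (nat_lit 18088) l475 l476)) (.node (nat_lit 18202) (.node (nat_lit 18164) l477 l478) (.node (nat_lit 18240) l479 l480)))
noncomputable def n62 : T := (.node (nat_lit 18430) (.node (nat_lit 18354) (.node (nat_lit 18316) l481 l482) (.node (nat_lit 18392) l483 l484)) (.node (nat_lit 18506) (.node (nat_lit 18468) l485 l486) (.node (nat_lit 18544) l487 l488)))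
noncomputable def n63 : T := (.node (nat_lit 18734) (.node (nat_lit 18658) (.node (nat_lit 18620) l489 l490) (.node (nat_lit 18696) l491 l492)) (.node (nat_lit 18810) (.node (nat_lit 18772) l493 l494) (.node (nat_lit 18848) l495 l496)))
noncomputable def n64 : T := (.node (nat_lit 19038) (.node (nat_lit 18962) (.node (nat_lit 18924) l497 l498) (.node (nat_lit 19000) l499 l500)) (.node (nat_lit 19114) (.node (nat_lit 19076) l501 l502) (.node (nat_lit 19152) l503 l504)))
noncomputable def n65 : T := (.node (nat_lit 14364) (.node (nat_lit 11970) (.node (nat_lit 10754) (.node (nat_lit 10146) (.node (nat_lit 9842) n33 n34) (.node (nat_lit 10450) n35 n36)) (.node (nat_lit 11362) (.node (nat_lit 11058) n37 n38) (.node (nat_lit 11666) n39 n40))) (.node (nat_lit 13148) (.node (nat_lit 12540) (.node (nat_lit 12236) n41 n42) (.node (nat_lit 12844) n43 n44)) (.node (nat_lit 13756) (.node (nat_lit 13452) n45 n46) (.node (nat_lit 14060) n47 n48)))) (.node (nat_lit 16758) (.node (nat_lit 15542) (.node (nat_lit 14934) (.node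 (nat_lit 14630) n49 n50) (.node (nat_lit 15238) n51 n52)) (.node (nat_lit 16150) (.node (nat_lit 15846) n53 n54) (.node (nat_lit 16454) n55 n56))) (.node (nat_lit 17974) (.node (nat_lit 17366) (.node (nat_lit 17062) n57 n58) (.node (nat_lit 17670) n59 n60)) (.node (nat_lit 18582) (.node (nat_lit 18278) n61 n62) (.node (nat_lit 18886) n63 n64)))))
noncomputable def n66 : T := (.node (nat_lit 19304) (.node (nat_lit 19228) l505 (.node (nat_lit 19266) l506 l507)) (.node (nat_lit 19380) (.node (nat_lit 19342) l508 l509) (.node (nat_lit 19418) l510 l511)))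
noncomputable def n67 : T := (.node (nat_lit 19608) (.node (nat_lit 19532) (.node (nat_lit 19494) l512 l513) (.node (nat_lit 19570) l514 l515)) (.node (nat_lit 19684) (.node (nat_lit 19646) l516 l517) (.node (nat_lit 19722) l518 l519)))
noncomputable def n68 : T := (.node (nat_lit 19912) (.node (nat_lit 19836) (.node (nat_lit 19798) l520 l521) (.node (nat_lit 19874) l522 l523)) (.node (nat_lit 19988) (.node (nat_lit 19950) l524 l525) (.node (nat_lit 20026) l526 l527)))
noncomputable def n69 : T := (.node (nat_lit 20216) (.node (nat_lit 20140) (.node (nat_lit 20102) l528 l529) (.node (nat_lit 20178) l530 l531)) (.node (nat_lit 20292) (.node (nat_lit 20254) l532 l533) (.node (nat_lit 20330) l534 l535)))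
noncomputable def n70 : T := (.node (nat_lit 20520) (.node (nat_lit 20444) (.node (nat_lit 20406) l536 l537) (.node (nat_lit 20482) l538 l539)) (.node (nat_lit 20596) (.node (nat_lit 20558) l540 l541) (.node (nat_lit 20634) l542 l543)))
noncomputable def n71 : T := (.node (nat_lit 20824) (.node (nat_lit 20748) (.node (nat_lit 20710) l544 l545) (.node (nat_lit 20786) l546 l547)) (.node (nat_lit 20900) (.node (nat_lit 20862) l548 l549) (.node (nat_lit 20938) l550 l551)))
noncomputable def n72 : T := (.node (nat_lit 21128) (.node (nat_lit 21052) (.node (nat_lit 21014) l552 l553) (.node (nat_lit 21090) l554 l555)) (.node (nat_lit 21204) (.node (nat_lit 21166) l556 l557) (.node (nat_lit 21242) l558 l559)))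
noncomputable def n73 : T := (.node (nat_lit 21432) (.node (nat_lit 21356) (.node (nat_lit 21318) l560 l561) (.node (nat_lit 21394) l562 l563)) (.node (nat_lit 21508) (.node (nat_lit 21470) l564 l565) (.node (nat_lit 21546) l566 l567)))
noncomputable def n74 : T := (.node (nat_lit 21698) (.node (nat_lit 21622) l568 (.node (nat_lit 21660) l569 l570)) (.node (nat_lit 21774) (.node (nat_lit 21736) l571 l572) (.node (nat_lit 21812) l573 l574)))
noncomputable def n75 : T := (.node (nat_lit 22002) (.node (nat_lit 21926) (.node (nat_lit 21888) l575 l576) (.node (nat_lit 21964) l577 l578)) (.node (nat_lit 22078) (.node (nat_lit 22040) l579 l580) (.node (nat_lit 22116) l581 l582)))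
noncomputable def n76 : T := (.node (nat_lit 22306) (.node (nat_lit 22230) (.node (nat_lit 22192) l583 l584) (.node (nat_lit 22268) l585 l586)) (.node (nat_lit 22382) (.node (nat_lit 22344) l587 l588) (.node (nat_lit 22420) l589 l590)))
noncomputable def n77 : T := (.node (nat_lit 22610) (.node (nat_lit 22534) (.node (nat_lit 22496) l591 l592) (.node (nat_lit 22572) l593 l594)) (.node (nat_lit 22686) (.node (nat_lit 22648) l595 l596) (.node (nat_lit 22724) l597 l598)))
noncomputable def n78 : T := (.node (nat_lit 22914) (.node (nat_lit 22838) (.node (nat_lit 22800) l599 l600) (.node (nat_lit 22876) l601 l602)) (.node (nat_lit 22990) (.node (nat_lit 22952) l603 l604) (.node (nat_lit 23028) l605 l606)))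
noncomputable def n79 : T := (.node (nat_lit 23218) (.node (nat_lit 23142) (.node (nat_lit 23104) l607 l608) (.node (nat_lit 23180) l609 l610)) (.node (nat_lit 23294) (.node (nat_lit 23256) l611 l612) (.node (nat_lit 23332) l613 l614)))
noncomputable def n80 : T := (.node (nat_lit 23522) (.node (nat_lit 23446) (.node (nat_lit 23408) l615 l616) (.node (nat_lit 23484) l617 l618)) (.node (nat_lit 23598) (.node (nat_lit 23560) l619 l620) (.node (nat_lit 23636) l621 l622)))
noncomputable def n81 : T := (.node (nat_lit 23826) (.node (nat_lit 23750) (.node (nat_lit 23712) l623 l624) (.node (nat_lit 23788) l625 l626)) (.node (nat_lit 23902) (.node (nat_lit 23864) l627 l628) (.node (nat_lit 23940) l629 l630)))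
noncomputable def n82 : T := (.node (nat_lit 24092) (.node (nat_lit 24016) l631 (.node (nat_lit 24054) l632 l633)) (.node (nat_lit 24168) (.node (nat_lit 24130) l634 l635) (.node (nat_lit 24206) l636 l637)))
noncomputable def n83 : T := (.node (nat_lit 24396) (.node (nat_lit 24320) (.node (nat_lit 24282) l638 l639) (.node (nat_lit 24358) l640 l641)) (.node (nat_lit 24472) (.node (nat_lit 24434) l642 l643) (.node (nat_lit 24510) l644 l645)))
noncomputable def n84 : T := (.node (nat_lit 24700) (.node (nat_lit 24624) (.node (nat_lit 24586) l646 l647) (.node (nat_lit 24662) l648 l649)) (.node (nat_lit 24776) (.node (nat_lit 24738) l650 l651) (.node (nat_lit 24814) l652 l653)))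
noncomputable def n85 : T := (.node (nat_lit 25004) (.node (nat_lit 24928) (.node (nat_lit 24890) l654 l655) (.node (nat_lit 24966) l656 l657)) (.node (nat_lit 25080) (.node (nat_lit 25042) l658 l659) (.node (nat_lit 25118) l660 l661)))
noncomputable def n86 : T := (.node (nat_lit 25308) (.node (nat_lit 25232) (.node (nat_lit 25194) l662 l663) (.node (nat_lit 25270) l664 l665)) (.node (nat_lit 25384) (.node (nat_lit 25346) l666 l667) (.node (nat_lit 25422) l668 l669)))
noncomputable def n87 : T := (.node (nat_lit 25612) (.node (nat_lit 25536) (.node (nat_lit 25498) l670 l671) (.node (nat_lit 25574) l672 l673)) (.node (nat_lit 25688) (.node (nat_lit 25650) l674 l675) (.node (nat_lit 25726) l676 l677)))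
noncomputable def n88 : T := (.node (nat_lit 25916) (.node (nat_lit 25840) (.node (nat_lit 25802) l678 l679) (.node (nat_lit 25878) l680 l681)) (.node (nat_lit 25992) (.node (nat_lit 25954) l682 l683) (.node (nat_lit 26030) l684 l685)))
noncomputable def n89 : T := (.node (nat_lit 26220) (.node (nat_lit 26144) (.node (nat_lit 26106) l686 l687) (.node (nat_lit 26182) l688 l689)) (.node (nat_lit 26296) (.node (nat_lit 26258) l690 l691) (.node (nat_lit 26334) l692 l693)))
noncomputable def n90 : T := (.node (nat_lit 26486) (.node (nat_lit 26410) l694 (.node (nat_lit 26448) l695 l696)) (.node (nat_lit 26562) (.node (nat_lit 26524) l697 l698) (.node (nat_lit 26600) l699 l700)))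
noncomputable def n91 : T := (.node (nat_lit 26790) (.node (nat_lit 26714) (.node (nat_lit 26676) l701 l702) (.node (nat_lit 26752) l703 l704)) (.node (nat_lit 26866) (.node (nat_lit 26828) l705 l706) (.node (nat_lit 26904) l707 l708)))
noncomputable def n92 : T := (.node (nat_lit 27094) (.node (nat_lit 27018) (.node (nat_lit 26980) l709 l710) (.node (nat_lit 27056) l711 l712)) (.node (nat_lit 27170) (.node (nat_lit 27132) l713 l714) (.node (nat_lit 27208) l715 l716)))
noncomputable def n93 : T := (.node (nat_lit 27398) (.node (nat_lit 27322) (.node (nat_lit 27284) l717 l718) (.node (nat_lit 27360) l719 l720)) (.node (nat_lit 27474) (.node (nat_lit 27436) l721 l722) (.node (nat_lit 27512) l723 l724)))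
noncomputable def n94 : T := (.node (nat_lit 27702) (.node (nat_lit 27626) (.node (nat_lit 27588) l725 l726) (.node (nat_lit 27664) l727 l728)) (.node (nat_lit 27778) (.node (nat_lit 27740) l729 l730) (.node (nat_lit 27816) l731 l732)))
noncomputable def n95 : T := (.node (nat_lit 28006) (.node (nat_lit 27930) (.node (nat_lit 27892) l733 l734) (.node (nat_lit 27968) l735 l736)) (.node (nat_lit 28082) (.node (nat_lit 28044) l737 l738) (.node (nat_lit 28120) l739 l740)))
noncomputable def n96 : T := (.node (nat_lit 28310) (.node (nat_lit 28234) (.node (nat_lit 28196) l741 l742) (.node (nat_lit 28272) l743 l744)) (.node (nat_lit 28386) (.node (nat_lit 28348) l745 l746) (.node (nat_lit 28424) l747 l748)))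
noncomputable def n97 : T := (.node (nat_lit 28614) (.node (nat_lit 28538) (.node (nat_lit 28500) l749 l750) (.node (nat_lit 28576) l751 l752)) (.node (nat_lit 28690) (.node (nat_lit 28652) l753 l754) (.node (nat_lit 28728) l755 l756)))
noncomputable def n98 : T := (.node (nat_lit 23978) (.node (nat_lit 21584) (.node (nat_lit 20368) (.node (nat_lit 19760) (.node (nat_lit 19456) n66 n67) (.node (nat_lit 20064) n68 n69)) (.node (nat_lit 20976) (.node (nat_lit 20672) n70 n71) (.node (nat_lit 21280) n72 n73))) (.node (nat_lit 22762) (.node (nat_lit 22154) (.node (nat_lit 21850) n74 n75) (.node (nat_lit 22458) n76 n77)) (.node (nat_lit 23370) (.node (nat_lit 23066) n78 n79) (.node (nat_lit 23674) n80 n81)))) (.node (nat_lit 26372) (.node (nat_lit 25156) (.node (nat_lit 24548) (.node (nat_lit 24244) n82 n83) (.node (nat_lit 24852) n84 n85)) (.node (nat_lit 25764) (.node (nat_lit 25460) n86 n87) (.node (nat_lit 26068) n88 n89))) (.node (nat_lit 27550) (.node (nat_lit 26942) (.node (nat_lit 26638) n90 n91) (.node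 (nat_lit 27246) n92 n93)) (.node (nat_lit 28158) (.node (nat_lit 27854) n94 n95) (.node (nat_lit 28462) n96 n97)))))
noncomputable def n99 : T := (.node (nat_lit 28880) (.node (nat_lit 28804) l757 (.node (nat_lit 28842) l758 l759)) (.node (nat_lit 28956) (.node (nat_lit 28918) l760 l761) (.node (nat_lit 28994) l762 l763)))
noncomputable def n100 : T := (.node (nat_lit 29184) (.node (nat_lit 29108) (.node (nat_lit 29070) l764 l765) (.node (nat_lit 29146) l766 l767)) (.node (nat_lit 29260) (.node (nat_lit 29222) l768 l769) (.node (nat_lit 29298) l770 l771)))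
noncomputable def n101 : T := (.node (nat_lit 29488) (.node (nat_lit 29412) (.node (nat_lit 29374) l772 l773) (.node (nat_lit 29450) l774 l775)) (.node (nat_lit 29564) (.node (nat_lit 29526) l776 l777) (.node (nat_lit 29602) l778 l779)))
noncomputable def n102 : T := (.node (nat_lit 29792) (.node (nat_lit 29716) (.node (nat_lit 29678) l780 l781) (.node (nat_lit 29754) l782 l783)) (.node (nat_lit 29868) (.node (nat_lit 29830) l784 l785) (.node (nat_lit 29906) l786 l787)))
noncomputable def n103 : T := (.node (nat_lit 30096) (.node (nat_lit 30020) (.node (nat_lit 29982) l788 l789) (.node (nat_lit 30058) l790 l791)) (.node (nat_lit 30172) (.node (nat_lit 30134) l792 l793) (.node (nat_lit 30210) l794 l795)))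
noncomputable def n104 : T := (.node (nat_lit 30400) (.node (nat_lit 30324) (.node (nat_lit 30286) l796 l797) (.node (nat_lit 30362) l798 l799)) (.node (nat_lit 30476) (.node (nat_lit 30438) l800 l801) (.node (nat_lit 30514) l802 l803)))
noncomputable def n105 : T := (.node (nat_lit 30704) (.node (nat_lit 30628) (.node (nat_lit 30590) l804 l805) (.node (nat_lit 30666) l806 l807)) (.node (nat_lit 30780) (.node (nat_lit 30742) l808 l809) (.node (nat_lit 30818) l810 l811)))
noncomputable def n106 : T := (.node (nat_lit 31008) (.node (nat_lit 30932) (.node (nat_lit 30894) l812 l813) (.node (nat_lit 30970) l814 l815)) (.node (nat_lit 31084) (.node (nat_lit 31046) l816 l817) (.node (nat_lit 31122) l818 l819)))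
noncomputable def n107 : T := (.node (nat_lit 31274) (.node (nat_lit 31198) l820 (.node (nat_lit 31236) l821 l822)) (.node (nat_lit 31350) (.node (nat_lit 31312) l823 l824) (.node (nat_lit 31388) l825 l826)))
noncomputable def n108 : T := (.node (nat_lit 31578) (.node (nat_lit 31502) (.node (nat_lit 31464) l827 l828) (.node (nat_lit 31540) l829 l830)) (.node (nat_lit 31654) (.node (nat_lit 31616) l831 l832) (.node (nat_lit 31692) l833 l834)))
noncomputable def n109 : T := (.node (nat_lit 31882) (.node (nat_lit 31806) (.node (nat_lit 31768) l835 l836) (.node (nat_lit 31844) l837 l838)) (.node (nat_lit 31958) (.node (nat_lit 31920) l839 l840) (.node (nat_lit 31996) l841 l842)))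
noncomputable def n110 : T := (.node (nat_lit 32186) (.node (nat_lit 32110) (.node (nat_lit 32072) l843 l844) (.node (nat_lit 32148) l845 l846)) (.node (nat_lit 32262) (.node (nat_lit 32224) l847 l848) (.node (nat_lit 32300) l849 l850)))
noncomputable def n111 : T := (.node (nat_lit 32490) (.node (nat_lit 32414) (.node (nat_lit 32376) l851 l852) (.node (nat_lit 32452) l853 l854)) (.node (nat_lit 32566) (.node (nat_lit 32528) l855 l856) (.node (nat_lit 32604) l857 l858)))
noncomputable def n112 : T := (.node (nat_lit 32794) (.node (nat_lit 32718) (.node (nat_lit 32680) l859 l860) (.node (nat_lit 32756) l861 l862)) (.node (nat_lit 32870) (.node (nat_lit 32832) l863 l864) (.node (nat_lit 32908) l865 l866)))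
noncomputable def n113 : T := (.node (nat_lit 33098) (.node (nat_lit 33022) (.node (nat_lit 32984) l867 l868) (.node (nat_lit 33060) l869 l870)) (.node (nat_lit 33174) (.node (nat_lit 33136) l871 l872) (.node (nat_lit 33212) l873 l874)))
noncomputable def n114 : T := (.node (nat_lit 33402) (.node (nat_lit 33326) (.node (nat_lit 33288) l875 l876) (.node (nat_lit 33364) l877 l878)) (.node (nat_lit 33478) (.node (nat_lit 33440) l879 l880) (.node (nat_lit 33516) l881 l882)))
noncomputable def n115 : T := (.node (nat_lit 33668) (.node (nat_lit 33592) l883 (.node (nat_lit 33630) l884 l885)) (.node (nat_lit 33744) (.node (nat_lit 33706) l886 l887) (.node (nat_lit 33782) l888 l889)))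
noncomputable def n116 : T := (.node (nat_lit 33972) (.node (nat_lit 33896) (.node (nat_lit 33858) l890 l891) (.node (nat_lit 33934) l892 l893)) (.node (nat_lit 34048) (.node (nat_lit 34010) l894 l895) (.node (nat_lit 34086) l896 l897)))
noncomputable def n117 : T := (.node (nat_lit 34276) (.node (nat_lit 34200) (.node (nat_lit 34162) l898 l899) (.node (nat_lit 34238) l900 l901)) (.node (nat_lit 34352) (.node (nat_lit 34314) l902 l903) (.node (nat_lit 34390) l904 l905)))
noncomputable def n118 : T := (.node (nat_lit 34580) (.node (nat_lit 34504) (.node (nat_lit 34466) l906 l907) (.node (nat_lit 34542) l908 l909)) (.node (nat_lit 34656) (.node (nat_lit 34618) l910 l911) (.node (nat_lit 34694) l912 l913)))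
noncomputable def n119 : T := (.node (nat_lit 34884) (.node (nat_lit 34808) (.node (nat_lit 34770) l914 l915) (.node (nat_lit 34846) l916 l917)) (.node (nat_lit 34960) (.node (nat_lit 34922) l918 l919) (.node (nat_lit 34998) l920 l921)))
noncomputable def n120 : T := (.node (nat_lit 35188) (.node (nat_lit 35112) (.node (nat_lit 35074) l922 l923) (.node (nat_lit 35150) l924 l925)) (.node (nat_lit 35264) (.node (nat_lit 35226) l926 l927) (.node (nat_lit 35302) l928 l929)))
noncomputable def n121 : T := (.node (nat_lit 35492) (.node (nat_lit 35416) (.node (nat_lit 35378) l930 l931) (.node (nat_lit 35454) l932 l933)) (.node (nat_lit 35568) (.node (nat_lit 35530) l934 l935) (.node (nat_lit 35606) l936 l937)))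
noncomputable def n122 : T := (.node (nat_lit 35796) (.node (nat_lit 35720) (.node (nat_lit 35682) l938 l939) (.node (nat_lit 35758) l940 l941)) (.node (nat_lit 35872) (.node (nat_lit 35834) l942 l943) (.node (nat_lit 35910) l944 l945)))
noncomputable def n123 : T := (.node (nat_lit 36100) (.node (nat_lit 36024) (.node (nat_lit 35986) l946 l947) (.node (nat_lit 36062) l948 l949)) (.node (nat_lit 36176) (.node (nat_lit 36138) l950 l951) (.node (nat_lit 36214) l952 l953)))
noncomputable def n124 : T := (.node (nat_lit 36404) (.node (nat_lit 36328) (.node (nat_lit 36290) l954 l955) (.node (nat_lit 36366) l956 l957)) (.node (nat_lit 36480) (.node (nat_lit 36442) l958 l959) (.node (nat_lit 36518) l960 l961)))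
noncomputable def n125 : T := (.node (nat_lit 36708) (.node (nat_lit 36632) (.node (nat_lit 36594) l962 l963) (.node (nat_lit 36670) l964 l965)) (.node (nat_lit 36784) (.node (nat_lit 36746) l966 l967) (.node (nat_lit 36822) l968 l969)))
noncomputable def n126 : T := (.node (nat_lit 37012) (.node (nat_lit 36936) (.node (nat_lit 36898) l970 l971) (.node (nat_lit 36974) l972 l973)) (.node (nat_lit 37088) (.node (nat_lit 37050) l974 l975) (.node (nat_lit 37126) l976 l977)))
noncomputable def n127 : T := (.node (nat_lit 37316) (.node (nat_lit 37240) (.node (nat_lit 37202) l978 l979) (.node (nat_lit 37278) l980 l981)) (.node (nat_lit 37392) (.node (nat_lit 37354) l982 l983) (.node (nat_lit 37430) l984 l985)))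
noncomputable def n128 : T := (.node (nat_lit 37620) (.node (nat_lit 37544) (.node (nat_lit 37506) l986 l987) (.node (nat_lit 37582) l988 l989)) (.node (nat_lit 37696) (.node (nat_lit 37658) l990 l991) (.node (nat_lit 37734) l992 l993)))
noncomputable def n129 : T := (.node (nat_lit 37924) (.node (nat_lit 37848) (.node (nat_lit 37810) l994 l995) (.node (nat_lit 37886) l996 l997)) (.node (nat_lit 38000) (.node (nat_lit 37962) l998 l999) (.node (nat_lit 38038) l1000 l1001)))
noncomputable def n130 : T := (.node (nat_lit 38228) (.node (nat_lit 38152) (.node (nat_lit 38114) l1002 l1003) (.node (nat_lit 38190) l1004 l1005)) (.node (nat_lit 38304) (.node (nat_lit 38266) l1006 l1007) (.node (nat_lit 38342) l1008 l1009)))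
noncomputable def n131 : T := (.node (nat_lit 33554) (.node (nat_lit 31160) (.node (nat_lit 29944) (.node (nat_lit 29336) (.node (nat_lit 29032) n99 n100) (.node (nat_lit 29640) n101 n102)) (.node (nat_lit 30552) (.node (nat_lit 30248) n103 n104) (.node (nat_lit 30856) n105 n106))) (.node (nat_lit 32338) (.node (nat_lit 31730) (.node (nat_lit 31426) n107 n108) (.node (nat_lit 32034) n109 n110)) (.node (nat_lit 32946) (.node (nat_lit 32642) n111 n112) (.node (nat_lit 33250) n113 n114)))) (.node (nat_lit 35948) (.node (nat_lit 34732) (.node (nat_lit 34124) (.node (nat_lit 33820) n115 n116) (.node (nat_lit 34428) n117 n118)) (.node (nat_lit 35340) (.node (nat_lit 35036) n119 n120) (.node (nat_lit 35644) n121 n122))) (.node (nat_lit 37164) (.node (nat_lit 36556) (.node (nat_lit 36252) n123 n124) (.node (nat_lit 36860) n125 n126)) (.node (nat_lit 37772) (.node (nat_lit 37468) n127 n128) (.node (nat_lit 38076) n129 n130)))))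
noncomputable def n132 : T := (.node (nat_lit 38494) (.node (nat_lit 38418) l1010 (.node (nat_lit 38456) l1011 l1012)) (.node (nat_lit 38570) (.node (nat_lit 38532) l1013 l1014) (.node (nat_lit 38608) l1015 l1016)))
noncomputable def n133 : T := (.node (nat_lit 38798) (.node (nat_lit 38722) (.node (nat_lit 38684) l1017 l1018) (.node (nat_lit 38760) l1019 l1020)) (.node (nat_lit 38874) (.node (nat_lit 38836) l1021 l1022) (.node (nat_lit 38912) l1023 l1024)))
noncomputable def n134 : T := (.node (nat_lit 39102) (.node (nat_lit 39026) (.node (nat_lit 38988) l1025 l1026) (.node (nat_lit 39064) l1027 l1028)) (.node (nat_lit 39178) (.node (nat_lit 39140) l1029 l1030) (.node (nat_lit 39216) l1031 l1032)))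
noncomputable def n135 : T := (.node (nat_lit 39406) (.node (nat_lit 39330) (.node (nat_lit 39292) l1033 l1034) (.node (nat_lit 39368) l1035 l1036)) (.node (nat_lit 39482) (.node (nat_lit 39444) l1037 l1038) (.node (nat_lit 39520) l1039 l1040)))
noncomputable def n136 : T := (.node (nat_lit 39710) (.node (nat_lit 39634) (.node (nat_lit 39596) l1041 l1042) (.node (nat_lit 39672) l1043 l1044)) (.node (nat_lit 39786) (.node (nat_lit 39748) l1045 l1046) (.node (nat_lit 39824) l1047 l1048)))
noncomputable def n137 : T := (.node (nat_lit 40014) (.node (nat_lit 39938) (.node (nat_lit 39900) l1049 l1050) (.node (nat_lit 39976) l1051 l1052)) (.node (nat_lit 40090) (.node (nat_lit 40052) l1053 l1054) (.node (nat_lit 40128) l1055 l1056)))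
noncomputable def n138 : T := (.node (nat_lit 40318) (.node (nat_lit 40242) (.node (nat_lit 40204) l1057 l1058) (.node (nat_lit 40280) l1059 l1060)) (.node (nat_lit 40394) (.node (nat_lit 40356) l1061 l1062) (.node (nat_lit 40432) l1063 l1064)))
noncomputable def n139 : T := (.node (nat_lit 40622) (.node (nat_lit 40546) (.node (nat_lit 40508) l1065 l1066) (.node (nat_lit 40584) l1067 l1068)) (.node (nat_lit 40698) (.node (nat_lit 40660) l1069 l1070) (.node (nat_lit 40736) l1071 l1072)))
noncomputable def n140 : T := (.node (nat_lit 40888) (.node (nat_lit 40812) l1073 (.node (nat_lit 40850) l1074 l1075)) (.node (nat_lit 40964) (.node (nat_lit 40926) l1076 l1077) (.node (nat_lit 41002) l1078 l1079)))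
noncomputable def n141 : T := (.node (nat_lit 41192) (.node (nat_lit 41116) (.node (nat_lit 41078) l1080 l1081) (.node (nat_lit 41154) l1082 l1083)) (.node (nat_lit 41268) (.node (nat_lit 41230) l1084 l1085) (.node (nat_lit 41306) l1086 l1087)))
noncomputable def n142 : T := (.node (nat_lit 41496) (.node (nat_lit 41420) (.node (nat_lit 41382) l1088 l1089) (.node (nat_lit 41458) l1090 l1091)) (.node (nat_lit 41572) (.node (nat_lit 41534) l1092 l1093) (.node (nat_lit 41610) l1094 l1095)))
noncomputable def n143 : T := (.node (nat_lit 41800) (.node (nat_lit 41724) (.node (nat_lit 41686) l1096 l1097) (.node (nat_lit 41762) l1098 l1099)) (.node (nat_lit 41876) (.node (nat_lit 41838) l1100 l1101) (.node (nat_lit 41914) l1102 l1103)))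
noncomputable def n144 : T := (.node (nat_lit 42104) (.node (nat_lit 42028) (.node (nat_lit 41990) l1104 l1105) (.node (nat_lit 42066) l1106 l1107)) (.node (nat_lit 42180) (.node (nat_lit 42142) l1108 l1109) (.node (nat_lit 42218) l1110 l1111)))
noncomputable def n145 : T := (.node (nat_lit 42408) (.node (nat_lit 42332) (.node (nat_lit 42294) l1112 l1113) (.node (nat_lit 42370) l1114 l1115)) (.node (nat_lit 42484) (.node (nat_lit 42446) l1116 l1117) (.node (nat_lit 42522) l1118 l1119)))
noncomputable def n146 : T := (.node (nat_lit 42712) (.node (nat_lit 42636) (.node (nat_lit 42598) l1120 l1121) (.node (nat_lit 42674) l1122 l1123)) (.node (nat_lit 42788) (.node (nat_lit 42750) l1124 l1125) (.node (nat_lit 42826) l1126 l1127)))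
noncomputable def n147 : T := (.node (nat_lit 43016) (.node (nat_lit 42940) (.node (nat_lit 42902) l1128 l1129) (.node (nat_lit 42978) l1130 l1131)) (.node (nat_lit 43092) (.node (nat_lit 43054) l1132 l1133) (.node (nat_lit 43130) l1134 l1135)))
noncomputable def n148 : T := (.node (nat_lit 43282) (.node (nat_lit 43206) l1136 (.node (nat_lit 43244) l1137 l1138)) (.node (nat_lit 43358) (.node (nat_lit 43320) l1139 l1140) (.node (nat_lit 43396) l1141 l1142)))
noncomputable def n149 : T := (.node (nat_lit 43586) (.node (nat_lit 43510) (.node (nat_lit 43472) l1143 l1144) (.node (nat_lit 43548) l1145 l1146)) (.node (nat_lit 43662) (.node (nat_lit 43624) l1147 l1148) (.node (nat_lit 43700) l1149 l1150)))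
noncomputable def n150 : T := (.node (nat_lit 43890) (.node (nat_lit 43814) (.node (nat_lit 43776) l1151 l1152) (.node (nat_lit 43852) l1153 l1154)) (.node (nat_lit 43966) (.node (nat_lit 43928) l1155 l1156) (.node (nat_lit 44004) l1157 l1158)))
noncomputable def n151 : T := (.node (nat_lit 44194) (.node (nat_lit 44118) (.node (nat_lit 44080) l1159 l1160) (.node (nat_lit 44156) l1161 l1162)) (.node (nat_lit 44270) (.node (nat_lit 44232) l1163 l1164) (.node (nat_lit 44308) l1165 l1166)))
noncomputable def n152 : T := (.node (nat_lit 44498) (.node (nat_lit 44422) (.node (nat_lit 44384) l1167 l1168) (.node (nat_lit 44460) l1169 l1170)) (.node (nat_lit 44574) (.node (nat_lit 44536) l1171 l1172) (.node (nat_lit 44612) l1173 l1174)))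
noncomputable def n153 : T := (.node (nat_lit 44802) (.node (nat_lit 44726) (.node (nat_lit 44688) l1175 l1176) (.node (nat_lit 44764) l1177 l1178)) (.node (nat_lit 44878) (.node (nat_lit 44840) l1179 l1180) (.node (nat_lit 44916) l1181 l1182)))
noncomputable def n154 : T := (.node (nat_lit 45106) (.node (nat_lit 45030) (.node (nat_lit 44992) l1183 l1184) (.node (nat_lit 45068) l1185 l1186)) (.node (nat_lit 45182) (.node (nat_lit 45144) l1187 l1188) (.node (nat_lit 45220) l1189 l1190)))
noncomputable def n155 : T := (.node (nat_lit 45410) (.node (nat_lit 45334) (.node (nat_lit 45296) l1191 l1192) (.node (nat_lit 45372) l1193 l1194)) (.node (nat_lit 45486) (.node (nat_lit 45448) l1195 l1196) (.node (nat_lit 45524) l1197 l1198)))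
noncomputable def n156 : T := (.node (nat_lit 45676) (.node (nat_lit 45600) l1199 (.node (nat_lit 45638) l1200 l1201)) (.node (nat_lit 45752) (.node (nat_lit 45714) l1202 l1203) (.node (nat_lit 45790) l1204 l1205)))
noncomputable def n157 : T := (.node (nat_lit 45980) (.node (nat_lit 45904) (.node (nat_lit 45866) l1206 l1207) (.node (nat_lit 45942) l1208 l1209)) (.node (nat_lit 46056) (.node (nat_lit 46018) l1210 l1211) (.node (nat_lit 46094) l1212 l1213)))
noncomputable def n158 : T := (.node (nat_lit 46284) (.node (nat_lit 46208) (.node (nat_lit 46170) l1214 l1215) (.node (nat_lit 46246) l1216 l1217)) (.node (nat_lit 46360) (.node (nat_lit 46322) l1218 l1219) (.node (nat_lit 46398) l1220 l1221)))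
noncomputable def n159 : T := (.node (nat_lit 46588) (.node (nat_lit 46512) (.node (nat_lit 46474) l1222 l1223) (.node (nat_lit 46550) l1224 l1225)) (.node (nat_lit 46664) (.node (nat_lit 46626) l1226 l1227) (.node (nat_lit 46702) l1228 l1229)))
noncomputable def n160 : T := (.node (nat_lit 46892) (.node (nat_lit 46816) (.node (nat_lit 46778) l1230 l1231) (.node (nat_lit 46854) l1232 l1233)) (.node (nat_lit 46968) (.node (nat_lit 46930) l1234 l1235) (.node (nat_lit 47006) l1236 l1237)))
noncomputable def n161 : T := (.node (nat_lit 47196) (.node (nat_lit 47120) (.node (nat_lit 47082) l1238 l1239) (.node (nat_lit 47158) l1240 l1241)) (.node (nat_lit 47272) (.node (nat_lit 47234) l1242 l1243) (.node (nat_lit 47310) l1244 l1245)))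
noncomputable def n162 : T := (.node (nat_lit 47500) (.node (nat_lit 47424) (.node (nat_lit 47386) l1246 l1247) (.node (nat_lit 47462) l1248 l1249)) (.node (nat_lit 47576) (.node (nat_lit 47538) l1250 l1251) (.node (nat_lit 47614) l1252 l1253)))
noncomputable def n163 : T := (.node (nat_lit 47804) (.node (nat_lit 47728) (.node (nat_lit 47690) l1254 l1255) (.node (nat_lit 47766) l1256 l1257)) (.node (nat_lit 47880) (.node (nat_lit 47842) l1258 l1259) (.node (nat_lit 47918) l1260 l1261)))
noncomputable def n164 : T := (.node (nat_lit 43168) (.node (nat_lit 40774) (.node (nat_lit 39558) (.node (nat_lit 38950) (.node (nat_lit 38646) n132 n133) (.node (nat_lit 39254) n134 n135)) (.node (nat_lit 40166) (.node (nat_lit 39862) n136 n137) (.node (nat_lit 40470) n138 n139))) (.node (nat_lit 41952) (.node (nat_lit 41344) (.node (nat_lit 41040) n140 n141) (.node (nat_lit 41648) n142 n143)) (.node (nat_lit 42560) (.node (nat_lit 42256) n144 n145) (.node (nat_lit 42864) n146 n147)))) (.node (nat_lit 45562) (.node (nat_lit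 44346) (.node (nat_lit 43738) (.node (nat_lit 43434) n148 n149) (.node (nat_lit 44042) n150 n151)) (.node (nat_lit 44954) (.node (nat_lit 44650) n152 n153) (.node (nat_lit 45258) n154 n155))) (.node (nat_lit 46740) (.node (nat_lit 46132) (.node (nat_lit 45828) n156 n157) (.node (nat_lit 46436) n158 n159)) (.node (nat_lit 47348) (.node (nat_lit 47044) n160 n161) (.node (nat_lit 47652) n162 n163)))))
noncomputable def n165 : T := (.node (nat_lit 48070) (.node (nat_lit 47994) l1262 (.node (nat_lit 48032) l1263 l1264)) (.node (nat_lit 48146) (.node (nat_lit 48108) l1265 l1266) (.node (nat_lit 48184) l1267 l1268)))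
noncomputable def n166 : T := (.node (nat_lit 48374) (.node (nat_lit 48298) (.node (nat_lit 48260) l1269 l1270) (.node (nat_lit 48336) l1271 l1272)) (.node (nat_lit 48450) (.node (nat_lit 48412) l1273 l1274) (.node (nat_lit 48488) l1275 l1276)))
noncomputable def n167 : T := (.node (nat_lit 48678) (.node (nat_lit 48602) (.node (nat_lit 48564) l1277 l1278) (.node (nat_lit 48640) l1279 l1280)) (.node (nat_lit 48754) (.node (nat_lit 48716) l1281 l1282) (.node (nat_lit 48792) l1283 l1284)))
noncomputable def n168 : T := (.node (nat_lit 48982) (.node (nat_lit 48906) (.node (nat_lit 48868) l1285 l1286) (.node (nat_lit 48944) l1287 l1288)) (.node (nat_lit 49058) (.node (nat_lit 49020) l1289 l1290) (.node (nat_lit 49096) l1291 l1292)))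
noncomputable def n169 : T := (.node (nat_lit 49286) (.node (nat_lit 49210) (.node (nat_lit 49172) l1293 l1294) (.node (nat_lit 49248) l1295 l1296)) (.node (nat_lit 49362) (.node (nat_lit 49324) l1297 l1298) (.node (nat_lit 49400) l1299 l1300)))
noncomputable def n170 : T := (.node (nat_lit 49590) (.node (nat_lit 49514) (.node (nat_lit 49476) l1301 l1302) (.node (nat_lit 49552) l1303 l1304)) (.node (nat_lit 49666) (.node (nat_lit 49628) l1305 l1306) (.node (nat_lit 49704) l1307 l1308)))
noncomputable def n171 : T := (.node (nat_lit 49894) (.node (nat_lit 49818) (.node (nat_lit 49780) l1309 l1310) (.node (nat_lit 49856) l1311 l1312)) (.node (nat_lit 49970) (.node (nat_lit 49932) l1313 l1314) (.node (nat_lit 50008) l1315 l1316)))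
noncomputable def n172 : T := (.node (nat_lit 50198) (.node (nat_lit 50122) (.node (nat_lit 50084) l1317 l1318) (.node (nat_lit 50160) l1319 l1320)) (.node (nat_lit 50274) (.node (nat_lit 50236) l1321 l1322) (.node (nat_lit 50312) l1323 l1324)))
noncomputable def n173 : T := (.node (nat_lit 50464) (.node (nat_lit 50388) l1325 (.node (nat_lit 50426) l1326 l1327)) (.node (nat_lit 50540) (.node (nat_lit 50502) l1328 l1329) (.node (nat_lit 50578) l1330 l1331)))
noncomputable def n174 : T := (.node (nat_lit 50768) (.node (nat_lit 50692) (.node (nat_lit 50654) l1332 l1333) (.node (nat_lit 50730) l1334 l1335)) (.node (nat_lit 50844) (.node (nat_lit 50806) l1336 l1337) (.node (nat_lit 50882) l1338 l1339)))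
noncomputable def n175 : T := (.node (nat_lit 51072) (.node (nat_lit 50996) (.node (nat_lit 50958) l1340 l1341) (.node (nat_lit 51034) l1342 l1343)) (.node (nat_lit 51148) (.node (nat_lit 51110) l1344 l1345) (.node (nat_lit 51186) l1346 l1347)))
noncomputable def n176 : T := (.node (nat_lit 51376) (.node (nat_lit 51300) (.node (nat_lit 51262) l1348 l1349) (.node (nat_lit 51338) l1350 l1351)) (.node (nat_lit 51452) (.node (nat_lit 51414) l1352 l1353) (.node (nat_lit 51490) l1354 l1355)))
noncomputable def n177 : T := (.node (nat_lit 51680) (.node (nat_lit 51604) (.node (nat_lit 51566) l1356 l1357) (.node (nat_lit 51642) l1358 l1359)) (.node (nat_lit 51756) (.node (nat_lit 51718) l1360 l1361) (.node (nat_lit 51794) l1362 l1363)))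
noncomputable def n178 : T := (.node (nat_lit 51984) (.node (nat_lit 51908) (.node (nat_lit 51870) l1364 l1365) (.node (nat_lit 51946) l1366 l1367)) (.node (nat_lit 52060) (.node (nat_lit 52022) l1368 l1369) (.node (nat_lit 52098) l1370 l1371)))
noncomputable def n179 : T := (.node (nat_lit 52288) (.node (nat_lit 52212) (.node (nat_lit 52174) l1372 l1373) (.node (nat_lit 52250) l1374 l1375)) (.node (nat_lit 52364) (.node (nat_lit 52326) l1376 l1377) (.node (nat_lit 52402) l1378 l1379)))
noncomputable def n180 : T := (.node (nat_lit 52592) (.node (nat_lit 52516) (.node (nat_lit 52478) l1380 l1381) (.node (nat_lit 52554) l1382 l1383)) (.node (nat_lit 52668) (.node (nat_lit 52630) l1384 l1385) (.node (nat_lit 52706) l1386 l1387)))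
noncomputable def n181 : T := (.node (nat_lit 52858) (.node (nat_lit 52782) l1388 (.node (nat_lit 52820) l1389 l1390)) (.node (nat_lit 52934) (.node (nat_lit 52896) l1391 l1392) (.node (nat_lit 52972) l1393 l1394)))
noncomputable def n182 : T := (.node (nat_lit 53162) (.node (nat_lit 53086) (.node (nat_lit 53048) l1395 l1396) (.node (nat_lit 53124) l1397 l1398)) (.node (nat_lit 53238) (.node (nat_lit 53200) l1399 l1400) (.node (nat_lit 53276) l1401 l1402)))
noncomputable def n183 : T := (.node (nat_lit 53466) (.node (nat_lit 53390) (.node (nat_lit 53352) l1403 l1404) (.node (nat_lit 53428) l1405 l1406)) (.node (nat_lit 53542) (.node (nat_lit 53504) l1407 l1408) (.node (nat_lit 53580) l1409 l1410)))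
noncomputable def n184 : T := (.node (nat_lit 53770) (.node (nat_lit 53694) (.node (nat_lit 53656) l1411 l1412) (.node (nat_lit 53732) l1413 l1414)) (.node (nat_lit 53846) (.node (nat_lit 53808) l1415 l1416) (.node (nat_lit 53884) l1417 l1418)))
noncomputable def n185 : T := (.node (nat_lit 54074) (.node (nat_lit 53998) (.node (nat_lit 53960) l1419 l1420) (.node (nat_lit 54036) l1421 l1422)) (.node (nat_lit 54150) (.node (nat_lit 54112) l1423 l1424) (.node (nat_lit 54188) l1425 l1426)))
noncomputable def n186 : T := (.node (nat_lit 54378) (.node (nat_lit 54302) (.node (nat_lit 54264) l1427 l1428) (.node (nat_lit 54340) l1429 l1430)) (.node (nat_lit 54454) (.node (nat_lit 54416) l1431 l1432) (.node (nat_lit 54492) l1433 l1434)))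
noncomputable def n187 : T := (.node (nat_lit 54682) (.node (nat_lit 54606) (.node (nat_lit 54568) l1435 l1436) (.node (nat_lit 54644) l1437 l1438)) (.node (nat_lit 54758) (.node (nat_lit 54720) l1439 l1440) (.node (nat_lit 54796) l1441 l1442)))
noncomputable def n188 : T := (.node (nat_lit 54986) (.node (nat_lit 54910) (.node (nat_lit 54872) l1443 l1444) (.node (nat_lit 54948) l1445 l1446)) (.node (nat_lit 55062) (.node (nat_lit 55024) l1447 l1448) (.node (nat_lit 55100) l1449 l1450)))
noncomputable def n189 : T := (.node (nat_lit 55290) (.node (nat_lit 55214) (.node (nat_lit 55176) l1451 l1452) (.node (nat_lit 55252) l1453 l1454)) (.node (nat_lit 55366) (.node (nat_lit 55328) l1455 l1456) (.node (nat_lit 55404) l1457 l1458)))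
noncomputable def n190 : T := (.node (nat_lit 55594) (.node (nat_lit 55518) (.node (nat_lit 55480) l1459 l1460) (.node (nat_lit 55556) l1461 l1462)) (.node (nat_lit 55670) (.node (nat_lit 55632) l1463 l1464) (.node (nat_lit 55708) l1465 l1466)))
noncomputable def n191 : T := (.node (nat_lit 55898) (.node (nat_lit 55822) (.node (nat_lit 55784) l1467 l1468) (.node (nat_lit 55860) l1469 l1470)) (.node (nat_lit 55974) (.node (nat_lit 55936) l1471 l1472) (.node (nat_lit 56012) l1473 l1474)))
noncomputable def n192 : T := (.node (nat_lit 56202) (.node (nat_lit 56126) (.node (nat_lit 56088) l1475 l1476) (.node (nat_lit 56164) l1477 l1478)) (.node (nat_lit 56278) (.node (nat_lit 56240) l1479 l1480) (.node (nat_lit 56316) l1481 l1482)))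
noncomputable def n193 : T := (.node (nat_lit 56506) (.node (nat_lit 56430) (.node (nat_lit 56392) l1483 l1484) (.node (nat_lit 56468) l1485 l1486)) (.node (nat_lit 56582) (.node (nat_lit 56544) l1487 l1488) (.node (nat_lit 56620) l1489 l1490)))
noncomputable def n194 : T := (.node (nat_lit 56810) (.node (nat_lit 56734) (.node (nat_lit 56696) l1491 l1492) (.node (nat_lit 56772) l1493 l1494)) (.node (nat_lit 56886) (.node (nat_lit 56848) l1495 l1496) (.node (nat_lit 56924) l1497 l1498)))
noncomputable def n195 : T := (.node (nat_lit 57114) (.node (nat_lit 57038) (.node (nat_lit 57000) l1499 l1500) (.node (nat_lit 57076) l1501 l1502)) (.node (nat_lit 57190) (.node (nat_lit 57152) l1503 l1504) (.node (nat_lit 57228) l1505 l1506)))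
noncomputable def n196 : T := (.node (nat_lit 57418) (.node (nat_lit 57342) (.node (nat_lit 57304) l1507 l1508) (.node (nat_lit 57380) l1509 l1510)) (.node (nat_lit 57494) (.node (nat_lit 57456) l1511 l1512) (.node (nat_lit 57532) l1513 l1514)))
noncomputable def n197 : T := (.node (nat_lit 52744) (.node (nat_lit 50350) (.node (nat_lit 49134) (.node (nat_lit 48526) (.node (nat_lit 48222) n165 n166) (.node (nat_lit 48830) n167 n168)) (.node (nat_lit 49742) (.node (nat_lit 49438) n169 n170) (.node (nat_lit 50046) n171 n172))) (.node (nat_lit 51528) (.node (nat_lit 50920) (.node (nat_lit 50616) n173 n174) (.node (nat_lit 51224) n175 n176)) (.node (nat_lit 52136) (.node (nat_lit 51832) n177 n178) (.node (nat_lit 52440) n179 n180)))) (.node (nat_lit 55138) (.node (nat_lit 53922) (.node (nat_lit 53314) (.node (nat_lit 53010) n181 n182) (.node (nat_lit 53618) n183 n184)) (.node (nat_lit 54530) (.node (nat_lit 54226) n185 n186) (.node (nat_lit 54834) n187 n188))) (.node (nat_lit 56354) (.node (nat_lit 55746) (.node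 (nat_lit 55442) n189 n190) (.node (nat_lit 56050) n191 n192)) (.node (nat_lit 56962) (.node (nat_lit 56658) n193 n194) (.node (nat_lit 57266) n195 n196)))))
noncomputable def n198 : T := (.node (nat_lit 57684) (.node (nat_lit 57608) l1515 (.node (nat_lit 57646) l1516 l1517)) (.node (nat_lit 57760) (.node (nat_lit 57722) l1518 l1519) (.node (nat_lit 57798) l1520 l1521)))
noncomputable def n199 : T := (.node (nat_lit 57988) (.node (nat_lit 57912) (.node (nat_lit 57874) l1522 l1523) (.node (nat_lit 57950) l1524 l1525)) (.node (nat_lit 58064) (.node (nat_lit 58026) l1526 l1527) (.node (nat_lit 58102) l1528 l1529)))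
noncomputable def n200 : T := (.node (nat_lit 58292) (.node (nat_lit 58216) (.node (nat_lit 58178) l1530 l1531) (.node (nat_lit 58254) l1532 l1533)) (.node (nat_lit 58368) (.node (nat_lit 58330) l1534 l1535) (.node (nat_lit 58406) l1536 l1537)))
noncomputable def n201 : T := (.node (nat_lit 58596) (.node (nat_lit 58520) (.node (nat_lit 58482) l1538 l1539) (.node (nat_lit 58558) l1540 l1541)) (.node (nat_lit 58672) (.node (nat_lit 58634) l1542 l1543) (.node (nat_lit 58710) l1544 l1545)))
noncomputable def n202 : T := (.node (nat_lit 58900) (.node (nat_lit 58824) (.node (nat_lit 58786) l1546 l1547) (.node (nat_lit 58862) l1548 l1549)) (.node (nat_lit 58976) (.node (nat_lit 58938) l1550 l1551) (.node (nat_lit 59014) l1552 l1553)))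
noncomputable def n203 : T := (.node (nat_lit 59204) (.node (nat_lit 59128) (.node (nat_lit 59090) l1554 l1555) (.node (nat_lit 59166) l1556 l1557)) (.node (nat_lit 59280) (.node (nat_lit 59242) l1558 l1559) (.node (nat_lit 59318) l1560 l1561)))
noncomputable def n204 : T := (.node (nat_lit 59508) (.node (nat_lit 59432) (.node (nat_lit 59394) l1562 l1563) (.node (nat_lit 59470) l1564 l1565)) (.node (nat_lit 59584) (.node (nat_lit 59546) l1566 l1567) (.node (nat_lit 59622) l1568 l1569)))
noncomputable def n205 : T := (.node (nat_lit 59812) (.node (nat_lit 59736) (.node (nat_lit 59698) l1570 l1571) (.node (nat_lit 59774) l1572 l1573)) (.node (nat_lit 59888) (.node (nat_lit 59850) l1574 l1575) (.node (nat_lit 59926) l1576 l1577)))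
noncomputable def n206 : T := (.node (nat_lit 60078) (.node (nat_lit 60002) l1578 (.node (nat_lit 60040) l1579 l1580)) (.node (nat_lit 60154) (.node (nat_lit 60116) l1581 l1582) (.node (nat_lit 60192) l1583 l1584)))
noncomputable def n207 : T := (.node (nat_lit 60382) (.node (nat_lit 60306) (.node (nat_lit 60268) l1585 l1586) (.node (nat_lit 60344) l1587 l1588)) (.node (nat_lit 60458) (.node (nat_lit 60420) l1589 l1590) (.node (nat_lit 60496) l1591 l1592)))
noncomputable def n208 : T := (.node (nat_lit 60686) (.node (nat_lit 60610) (.node (nat_lit 60572) l1593 l1594) (.node (nat_lit 60648) l1595 l1596)) (.node (nat_lit 60762) (.node (nat_lit 60724) l1597 l1598) (.node (nat_lit 60800) l1599 l1600)))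
noncomputable def n209 : T := (.node (nat_lit 60990) (.node (nat_lit 60914) (.node (nat_lit 60876) l1601 l1602) (.node (nat_lit 60952) l1603 l1604)) (.node (nat_lit 61066) (.node (nat_lit 61028) l1605 l1606) (.node (nat_lit 61104) l1607 l1608)))
noncomputable def n210 : T := (.node (nat_lit 61294) (.node (nat_lit 61218) (.node (nat_lit 61180) l1609 l1610) (.node (nat_lit 61256) l1611 l1612)) (.node (nat_lit 61370) (.node (nat_lit 61332) l1613 l1614) (.node (nat_lit 61408) l1615 l1616)))
noncomputable def n211 : T := (.node (nat_lit 61598) (.node (nat_lit 61522) (.node (nat_lit 61484) l1617 l1618) (.node (nat_lit 61560) l1619 l1620)) (.node (nat_lit 61674) (.node (nat_lit 61636) l1621 l1622) (.node (nat_lit 61712) l1623 l1624)))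
noncomputable def n212 : T := (.node (nat_lit 61902) (.node (nat_lit 61826) (.node (nat_lit 61788) l1625 l1626) (.node (nat_lit 61864) l1627 l1628)) (.node (nat_lit 61978) (.node (nat_lit 61940) l1629 l1630) (.node (nat_lit 62016) l1631 l1632)))
noncomputable def n213 : T := (.node (nat_lit 62206) (.node (nat_lit 62130) (.node (nat_lit 62092) l1633 l1634) (.node (nat_lit 62168) l1635 l1636)) (.node (nat_lit 62282) (.node (nat_lit 62244) l1637 l1638) (.node (nat_lit 62320) l1639 l1640)))
noncomputable def n214 : T := (.node (nat_lit 62472) (.node (nat_lit 62396) l1641 (.node (nat_lit 62434) l1642 l1643)) (.node (nat_lit 62548) (.node (nat_lit 62510) l1644 l1645) (.node (nat_lit 62586) l1646 l1647)))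
noncomputable def n215 : T := (.node (nat_lit 62776) (.node (nat_lit 62700) (.node (nat_lit 62662) l1648 l1649) (.node (nat_lit 62738) l1650 l1651)) (.node (nat_lit 62852) (.node (nat_lit 62814) l1652 l1653) (.node (nat_lit 62890) l1654 l1655)))
noncomputable def n216 : T := (.node (nat_lit 63080) (.node (nat_lit 63004) (.node (nat_lit 62966) l1656 l1657) (.node (nat_lit 63042) l1658 l1659)) (.node (nat_lit 63156) (.node (nat_lit 63118) l1660 l1661) (.node (nat_lit 63194) l1662 l1663)))
noncomputable def n217 : T := (.node (nat_lit 63384) (.node (nat_lit 63308) (.node (nat_lit 63270) l1664 l1665) (.node (nat_lit 63346) l1666 l1667)) (.node (nat_lit 63460) (.node (nat_lit 63422) l1668 l1669) (.node (nat_lit 63498) l1670 l1671)))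
noncomputable def n218 : T := (.node (nat_lit 63688) (.node (nat_lit 63612) (.node (nat_lit 63574) l1672 l1673) (.node (nat_lit 63650) l1674 l1675)) (.node (nat_lit 63764) (.node (nat_lit 63726) l1676 l1677) (.node (nat_lit 63802) l1678 l1679)))
noncomputable def n219 : T := (.node (nat_lit 63992) (.node (nat_lit 63916) (.node (nat_lit 63878) l1680 l1681) (.node (nat_lit 63954) l1682 l1683)) (.node (nat_lit 64068) (.node (nat_lit 64030) l1684 l1685) (.node (nat_lit 64106) l1686 l1687)))
noncomputable def n220 : T := (.node (nat_lit 64296) (.node (nat_lit 64220) (.node (nat_lit 64182) l1688 l1689) (.node (nat_lit 64258) l1690 l1691)) (.node (nat_lit 64372) (.node (nat_lit 64334) l1692 l1693) (.node (nat_lit 64410) l1694 l1695)))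
noncomputable def n221 : T := (.node (nat_lit 64600) (.node (nat_lit 64524) (.node (nat_lit 64486) l1696 l1697) (.node (nat_lit 64562) l1698 l1699)) (.node (nat_lit 64676) (.node (nat_lit 64638) l1700 l1701) (.node (nat_lit 64714) l1702 l1703)))
noncomputable def n222 : T := (.node (nat_lit 64866) (.node (nat_lit 64790) l1704 (.node (nat_lit 64828) l1705 l1706)) (.node (nat_lit 64942) (.node (nat_lit 64904) l1707 l1708) (.node (nat_lit 64980) l1709 l1710)))
noncomputable def n223 : T := (.node (nat_lit 65170) (.node (nat_lit 65094) (.node (nat_lit 65056) l1711 l1712) (.node (nat_lit 65132) l1713 l1714)) (.node (nat_lit 65246) (.node (nat_lit 65208) l1715 l1716) (.node (nat_lit 65284) l1717 l1718)))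
noncomputable def n224 : T := (.node (nat_lit 65474) (.node (nat_lit 65398) (.node (nat_lit 65360) l1719 l1720) (.node (nat_lit 65436) l1721 l1722)) (.node (nat_lit 65550) (.node (nat_lit 65512) l1723 l1724) (.node (nat_lit 65588) l1725 l1726)))
noncomputable def n225 : T := (.node (nat_lit 65778) (.node (nat_lit 65702) (.node (nat_lit 65664) l1727 l1728) (.node (nat_lit 65740) l1729 l1730)) (.node (nat_lit 65854) (.node (nat_lit 65816) l1731 l1732) (.node (nat_lit 65892) l1733 l1734)))
noncomputable def n226 : T := (.node (nat_lit 66082) (.node (nat_lit 66006) (.node (nat_lit 65968) l1735 l1736) (.node (nat_lit 66044) l1737 l1738)) (.node (nat_lit 66158) (.node (nat_lit 66120) l1739 l1740) (.node (nat_lit 66196) l1741 l1742)))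
noncomputable def n227 : T := (.node (nat_lit 66386) (.node (nat_lit 66310) (.node (nat_lit 66272) l1743 l1744) (.node (nat_lit 66348) l1745 l1746)) (.node (nat_lit 66462) (.node (nat_lit 66424) l1747 l1748) (.node (nat_lit 66500) l1749 l1750)))
noncomputable def n228 : T := (.node (nat_lit 66690) (.node (nat_lit 66614) (.node (nat_lit 66576) l1751 l1752) (.node (nat_lit 66652) l1753 l1754)) (.node (nat_lit 66766) (.node (nat_lit 66728) l1755 l1756) (.node (nat_lit 66804) l1757 l1758)))
noncomputable def n229 : T := (.node (nat_lit 66994) (.node (nat_lit 66918) (.node (nat_lit 66880) l1759 l1760) (.node (nat_lit 66956) l1761 l1762)) (.node (nat_lit 67070) (.node (nat_lit 67032) l1763 l1764) (.node (nat_lit 67108) l1765 l1766)))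
noncomputable def n230 : T := (.node (nat_lit 62358) (.node (nat_lit 59964) (.node (nat_lit 58748) (.node (nat_lit 58140) (.node (nat_lit 57836) n198 n199) (.node (nat_lit 58444) n200 n201)) (.node (nat_lit 59356) (.node (nat_lit 59052) n202 n203) (.node (nat_lit 59660) n204 n205))) (.node (nat_lit 61142) (.node (nat_lit 60534) (.node (nat_lit 60230) n206 n207) (.node (nat_lit 60838) n208 n209)) (.node (nat_lit 61750) (.node (nat_lit 61446) n210 n211) (.node (nat_lit 62054) n212 n213)))) (.node (nat_lit 64752) (.node (nat_lit 63536) (.node (nat_lit 62928) (.node (nat_lit 62624) n214 n215) (.node (nat_lit 63232) n216 n217)) (.node (nat_lit 64144) (.node (nat_lit 63840) n218 n219) (.node (nat_lit 64448) n220 n221))) (.node (nat_lit 65930) (.node (nat_lit 65322) (.node (nat_lit 65018) n222 n223) (.node (nat_lit 65626) n224 n225)) (.node (nat_lit 66538) (.node (nat_lit 66234) n226 n227) (.node (nat_lit 66842) n228 n229)))))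
noncomputable def n231 : T := (.node (nat_lit 67260) (.node (nat_lit 67184) l1767 (.node (nat_lit 67222) l1768 l1769)) (.node (nat_lit 67336) (.node (nat_lit 67298) l1770 l1771) (.node (nat_lit 67374) l1772 l1773)))
noncomputable def n232 : T := (.node (nat_lit 67564) (.node (nat_lit 67488) (.node (nat_lit 67450) l1774 l1775) (.node (nat_lit 67526) l1776 l1777)) (.node (nat_lit 67640) (.node (nat_lit 67602) l1778 l1779) (.node (nat_lit 67678) l1780 l1781)))
noncomputable def n233 : T := (.node (nat_lit 67868) (.node (nat_lit 67792) (.node (nat_lit 67754) l1782 l1783) (.node (nat_lit 67830) l1784 l1785)) (.node (nat_lit 67944) (.node (nat_lit 67906) l1786 l1787) (.node (nat_lit 67982) l1788 l1789)))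
noncomputable def n234 : T := (.node (nat_lit 68172) (.node (nat_lit 68096) (.node (nat_lit 68058) l1790 l1791) (.node (nat_lit 68134) l1792 l1793)) (.node (nat_lit 68248) (.node (nat_lit 68210) l1794 l1795) (.node (nat_lit 68286) l1796 l1797)))
noncomputable def n235 : T := (.node (nat_lit 68476) (.node (nat_lit 68400) (.node (nat_lit 68362) l1798 l1799) (.node (nat_lit 68438) l1800 l1801)) (.node (nat_lit 68552) (.node (nat_lit 68514) l1802 l1803) (.node (nat_lit 68590) l1804 l1805)))
noncomputable def n236 : T := (.node (nat_lit 68780) (.node (nat_lit 68704) (.node (nat_lit 68666) l1806 l1807) (.node (nat_lit 68742) l1808 l1809)) (.node (nat_lit 68856) (.node (nat_lit 68818) l1810 l1811) (.node (nat_lit 68894) l1812 l1813)))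
noncomputable def n237 : T := (.node (nat_lit 69084) (.node (nat_lit 69008) (.node (nat_lit 68970) l1814 l1815) (.node (nat_lit 69046) l1816 l1817)) (.node (nat_lit 69160) (.node (nat_lit 69122) l1818 l1819) (.node (nat_lit 69198) l1820 l1821)))
noncomputable def n238 : T := (.node (nat_lit 69388) (.node (nat_lit 69312) (.node (nat_lit 69274) l1822 l1823) (.node (nat_lit 69350) l1824 l1825)) (.node (nat_lit 69464) (.node (nat_lit 69426) l1826 l1827) (.node (nat_lit 69502) l1828 l1829)))
noncomputable def n239 : T := (.node (nat_lit 69654) (.node (nat_lit 69578) l1830 (.node (nat_lit 69616) l1831 l1832)) (.node (nat_lit 69730) (.node (nat_lit 69692) l1833 l1834) (.node (nat_lit 69768) l1835 l1836)))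
noncomputable def n240 : T := (.node (nat_lit 69958) (.node (nat_lit 69882) (.node (nat_lit 69844) l1837 l1838) (.node (nat_lit 69920) l1839 l1840)) (.node (nat_lit 70034) (.node (nat_lit 69996) l1841 l1842) (.node (nat_lit 70072) l1843 l1844)))
noncomputable def n241 : T := (.node (nat_lit 70262) (.node (nat_lit 70186) (.node (nat_lit 70148) l1845 l1846) (.node (nat_lit 70224) l1847 l1848)) (.node (nat_lit 70338) (.node (nat_lit 70300) l1849 l1850) (.node (nat_lit 70376) l1851 l1852)))
noncomputable def n242 : T := (.node (nat_lit 70566) (.node (nat_lit 70490) (.node (nat_lit 70452) l1853 l1854) (.node (nat_lit 70528) l1855 l1856)) (.node (nat_lit 70642) (.node (nat_lit 70604) l1857 l1858) (.node (nat_lit 70680) l1859 l1860)))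
noncomputable def n243 : T := (.node (nat_lit 70870) (.node (nat_lit 70794) (.node (nat_lit 70756) l1861 l1862) (.node (nat_lit 70832) l1863 l1864)) (.node (nat_lit 70946) (.node (nat_lit 70908) l1865 l1866) (.node (nat_lit 70984) l1867 l1868)))
noncomputable def n244 : T := (.node (nat_lit 71174) (.node (nat_lit 71098) (.node (nat_lit 71060) l1869 l1870) (.node (nat_lit 71136) l1871 l1872)) (.node (nat_lit 71250) (.node (nat_lit 71212) l1873 l1874) (.node (nat_lit 71288) l1875 l1876)))
noncomputable def n245 : T := (.node (nat_lit 71478) (.node (nat_lit 71402) (.node (nat_lit 71364) l1877 l1878) (.node (nat_lit 71440) l1879 l1880)) (.node (nat_lit 71554) (.node (nat_lit 71516) l1881 l1882) (.node (nat_lit 71592) l1883 l1884)))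
noncomputable def n246 : T := (.node (nat_lit 71782) (.node (nat_lit 71706) (.node (nat_lit 71668) l1885 l1886) (.node (nat_lit 71744) l1887 l1888)) (.node (nat_lit 71858) (.node (nat_lit 71820) l1889 l1890) (.node (nat_lit 71896) l1891 l1892)))
noncomputable def n247 : T := (.node (nat_lit 72048) (.node (nat_lit 71972) l1893 (.node (nat_lit 72010) l1894 l1895)) (.node (nat_lit 72124) (.node (nat_lit 72086) l1896 l1897) (.node (nat_lit 72162) l1898 l1899)))
noncomputable def n248 : T := (.node (nat_lit 72352) (.node (nat_lit 72276) (.node (nat_lit 72238) l1900 l1901) (.node (nat_lit 72314) l1902 l1903)) (.node (nat_lit 72428) (.node (nat_lit 72390) l1904 l1905) (.node (nat_lit 72466) l1906 l1907)))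
noncomputable def n249 : T := (.node (nat_lit 72656) (.node (nat_lit 72580) (.node (nat_lit 72542) l1908 l1909) (.node (nat_lit 72618) l1910 l1911)) (.node (nat_lit 72732) (.node (nat_lit 72694) l1912 l1913) (.node (nat_lit 72770) l1914 l1915)))
noncomputable def n250 : T := (.node (nat_lit 72960) (.node (nat_lit 72884) (.node (nat_lit 72846) l1916 l1917) (.node (nat_lit 72922) l1918 l1919)) (.node (nat_lit 73036) (.node (nat_lit 72998) l1920 l1921) (.node (nat_lit 73074) l1922 l1923)))
noncomputable def n251 : T := (.node (nat_lit 73264) (.node (nat_lit 73188) (.node (nat_lit 73150) l1924 l1925) (.node (nat_lit 73226) l1926 l1927)) (.node (nat_lit 73340) (.node (nat_lit 73302) l1928 l1929) (.node (nat_lit 73378) l1930 l1931)))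
noncomputable def n252 : T := (.node (nat_lit 73568) (.node (nat_lit 73492) (.node (nat_lit 73454) l1932 l1933) (.node (nat_lit 73530) l1934 l1935)) (.node (nat_lit 73644) (.node (nat_lit 73606) l1936 l1937) (.node (nat_lit 73682) l1938 l1939)))
noncomputable def n253 : T := (.node (nat_lit 73872) (.node (nat_lit 73796) (.node (nat_lit 73758) l1940 l1941) (.node (nat_lit 73834) l1942 l1943)) (.node (nat_lit 73948) (.node (nat_lit 73910) l1944 l1945) (.node (nat_lit 73986) l1946 l1947)))
noncomputable def n254 : T := (.node (nat_lit 74176) (.node (nat_lit 74100) (.node (nat_lit 74062) l1948 l1949) (.node (nat_lit 74138) l1950 l1951)) (.node (nat_lit 74252) (.node (nat_lit 74214) l1952 l1953) (.node (nat_lit 74290) l1954 l1955)))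
noncomputable def n255 : T := (.node (nat_lit 74480) (.node (nat_lit 74404) (.node (nat_lit 74366) l1956 l1957) (.node (nat_lit 74442) l1958 l1959)) (.node (nat_lit 74556) (.node (nat_lit 74518) l1960 l1961) (.node (nat_lit 74594) l1962 l1963)))
noncomputable def n256 : T := (.node (nat_lit 74784) (.node (nat_lit 74708) (.node (nat_lit 74670) l1964 l1965) (.node (nat_lit 74746) l1966 l1967)) (.node (nat_lit 74860) (.node (nat_lit 74822) l1968 l1969) (.node (nat_lit 74898) l1970 l1971)))
noncomputable def n257 : T := (.node (nat_lit 75088) (.node (nat_lit 75012) (.node (nat_lit 74974) l1972 l1973) (.node (nat_lit 75050) l1974 l1975)) (.node (nat_lit 75164) (.node (nat_lit 75126) l1976 l1977) (.node (nat_lit 75202) l1978 l1979)))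
noncomputable def n258 : T := (.node (nat_lit 75392) (.node (nat_lit 75316) (.node (nat_lit 75278) l1980 l1981) (.node (nat_lit 75354) l1982 l1983)) (.node (nat_lit 75468) (.node (nat_lit 75430) l1984 l1985) (.node (nat_lit 75506) l1986 l1987)))
noncomputable def n259 : T := (.node (nat_lit 75696) (.node (nat_lit 75620) (.node (nat_lit 75582) l1988 l1989) (.node (nat_lit 75658) l1990 l1991)) (.node (nat_lit 75772) (.node (nat_lit 75734) l1992 l1993) (.node (nat_lit 75810) l1994 l1995)))
noncomputable def n260 : T := (.node (nat_lit 76000) (.node (nat_lit 75924) (.node (nat_lit 75886) l1996 l1997) (.node (nat_lit 75962) l1998 l1999)) (.node (nat_lit 76076) (.node (nat_lit 76038) l2000 l2001) (.node (nat_lit 76114) l2002 l2003)))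
noncomputable def n261 : T := (.node (nat_lit 76304) (.node (nat_lit 76228) (.node (nat_lit 76190) l2004 l2005) (.node (nat_lit 76266) l2006 l2007)) (.node (nat_lit 76380) (.node (nat_lit 76342) l2008 l2009) (.node (nat_lit 76418) l2010 l2011)))
noncomputable def n262 : T := (.node (nat_lit 76608) (.node (nat_lit 76532) (.node (nat_lit 76494) l2012 l2013) (.node (nat_lit 76570) l2014 l2015)) (.node (nat_lit 76684) (.node (nat_lit 76646) l2016 l2017) (.node (nat_lit 76722) l2018 l2019)))
noncomputable def n263 : T := (.node (nat_lit 71934) (.node (nat_lit 69540) (.node (nat_lit 68324) (.node (nat_lit 67716) (.node (nat_lit 67412) n231 n232) (.node (nat_lit 68020) n233 n234)) (.node (nat_lit 68932) (.node (nat_lit 68628) n235 n236) (.node (nat_lit 69236) n237 n238))) (.node (nat_lit 70718) (.node (nat_lit 70110) (.node (nat_lit 69806) n239 n240) (.node (nat_lit 70414) n241 n242)) (.node (nat_lit 71326) (.node (nat_lit 71022) n243 n244) (.node (nat_lit 71630) n245 n246)))) (.node (nat_lit 74328) (.node (nat_lit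 73112) (.node (nat_lit 72504) (.node (nat_lit 72200) n247 n248) (.node (nat_lit 72808) n249 n250)) (.node (nat_lit 73720) (.node (nat_lit 73416) n251 n252) (.node (nat_lit 74024) n253 n254))) (.node (nat_lit 75544) (.node (nat_lit 74936) (.node (nat_lit 74632) n255 n256) (.node (nat_lit 75240) n257 n258)) (.node (nat_lit 76152) (.node (nat_lit 75848) n259 n260) (.node (nat_lit 76456) n261 n262)))))
noncomputable def n264 : T := (.node (nat_lit 76874) (.node (nat_lit 76798) l2020 (.node (nat_lit 76836) l2021 l2022)) (.node (nat_lit 76950) (.node (nat_lit 76912) l2023 l2024) (.node (nat_lit 76988) l2025 l2026)))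
noncomputable def n265 : T := (.node (nat_lit 77178) (.node (nat_lit 77102) (.node (nat_lit 77064) l2027 l2028) (.node (nat_lit 77140) l2029 l2030)) (.node (nat_lit 77254) (.node (nat_lit 77216) l2031 l2032) (.node (nat_lit 77292) l2033 l2034)))
noncomputable def n266 : T := (.node (nat_lit 77482) (.node (nat_lit 77406) (.node (nat_lit 77368) l2035 l2036) (.node (nat_lit 77444) l2037 l2038)) (.node (nat_lit 77558) (.node (nat_lit 77520) l2039 l2040) (.node (nat_lit 77596) l2041 l2042)))
noncomputable def n267 : T := (.node (nat_lit 77786) (.node (nat_lit 77710) (.node (nat_lit 77672) l2043 l2044) (.node (nat_lit 77748) l2045 l2046)) (.node (nat_lit 77862) (.node (nat_lit 77824) l2047 l2048) (.node (nat_lit 77900) l2049 l2050)))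
noncomputable def n268 : T := (.node (nat_lit 78090) (.node (nat_lit 78014) (.node (nat_lit 77976) l2051 l2052) (.node (nat_lit 78052) l2053 l2054)) (.node (nat_lit 78166) (.node (nat_lit 78128) l2055 l2056) (.node (nat_lit 78204) l2057 l2058)))
noncomputable def n269 : T := (.node (nat_lit 78394) (.node (nat_lit 78318) (.node (nat_lit 78280) l2059 l2060) (.node (nat_lit 78356) l2061 l2062)) (.node (nat_lit 78470) (.node (nat_lit 78432) l2063 l2064) (.node (nat_lit 78508) l2065 l2066)))
noncomputable def n270 : T := (.node (nat_lit 78698) (.node (nat_lit 78622) (.node (nat_lit 78584) l2067 l2068) (.node (nat_lit 78660) l2069 l2070)) (.node (nat_lit 78774) (.node (nat_lit 78736) l2071 l2072) (.node (nat_lit 78812) l2073 l2074)))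
noncomputable def n271 : T := (.node (nat_lit 79002) (.node (nat_lit 78926) (.node (nat_lit 78888) l2075 l2076) (.node (nat_lit 78964) l2077 l2078)) (.node (nat_lit 79078) (.node (nat_lit 79040) l2079 l2080) (.node (nat_lit 79116) l2081 l2082)))
noncomputable def n272 : T := (.node (nat_lit 79268) (.node (nat_lit 79192) l2083 (.node (nat_lit 79230) l2084 l2085)) (.node (nat_lit 79344) (.node (nat_lit 79306) l2086 l2087) (.node (nat_lit 79382) l2088 l2089)))
noncomputable def n273 : T := (.node (nat_lit 79572) (.node (nat_lit 79496) (.node (nat_lit 79458) l2090 l2091) (.node (nat_lit 79534) l2092 l2093)) (.node (nat_lit 79648) (.node (nat_lit 79610) l2094 l2095) (.node (nat_lit 79686) l2096 l2097)))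
noncomputable def n274 : T := (.node (nat_lit 79876) (.node (nat_lit 79800) (.node (nat_lit 79762) l2098 l2099) (.node (nat_lit 79838) l2100 l2101)) (.node (nat_lit 79952) (.node (nat_lit 79914) l2102 l2103) (.node (nat_lit 79990) l2104 l2105)))
noncomputable def n275 : T := (.node (nat_lit 80180) (.node (nat_lit 80104) (.node (nat_lit 80066) l2106 l2107) (.node (nat_lit 80142) l2108 l2109)) (.node (nat_lit 80256) (.node (nat_lit 80218) l2110 l2111) (.node (nat_lit 80294) l2112 l2113)))
noncomputable def n276 : T := (.node (nat_lit 80484) (.node (nat_lit 80408) (.node (nat_lit 80370) l2114 l2115) (.node (nat_lit 80446) l2116 l2117)) (.node (nat_lit 80560) (.node (nat_lit 80522) l2118 l2119) (.node (nat_lit 80598) l2120 l2121)))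
noncomputable def n277 : T := (.node (nat_lit 80788) (.node (nat_lit 80712) (.node (nat_lit 80674) l2122 l2123) (.node (nat_lit 80750) l2124 l2125)) (.node (nat_lit 80864) (.node (nat_lit 80826) l2126 l2127) (.node (nat_lit 80902) l2128 l2129)))
noncomputable def n278 : T := (.node (nat_lit 81092) (.node (nat_lit 81016) (.node (nat_lit 80978) l2130 l2131) (.node (nat_lit 81054) l2132 l2133)) (.node (nat_lit 81168) (.node (nat_lit 81130) l2134 l2135) (.node (nat_lit 81206) l2136 l2137)))
noncomputable def n279 : T := (.node (nat_lit 81396) (.node (nat_lit 81320) (.node (nat_lit 81282) l2138 l2139) (.node (nat_lit 81358) l2140 l2141)) (.node (nat_lit 81472) (.node (nat_lit 81434) l2142 l2143) (.node (nat_lit 81510) l2144 l2145)))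
noncomputable def n280 : T := (.node (nat_lit 81662) (.node (nat_lit 81586) l2146 (.node (nat_lit 81624) l2147 l2148)) (.node (nat_lit 81738) (.node (nat_lit 81700) l2149 l2150) (.node (nat_lit 81776) l2151 l2152)))
noncomputable def n281 : T := (.node (nat_lit 81966) (.node (nat_lit 81890) (.node (nat_lit 81852) l2153 l2154) (.node (nat_lit 81928) l2155 l2156)) (.node (nat_lit 82042) (.node (nat_lit 82004) l2157 l2158) (.node (nat_lit 82080) l2159 l2160)))
noncomputable def n282 : T := (.node (nat_lit 82270) (.node (nat_lit 82194) (.node (nat_lit 82156) l2161 l2162) (.node (nat_lit 82232) l2163 l2164)) (.node (nat_lit 82346) (.node (nat_lit 82308) l2165 l2166) (.node (nat_lit 82384) l2167 l2168)))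
noncomputable def n283 : T := (.node (nat_lit 82574) (.node (nat_lit 82498) (.node (nat_lit 82460) l2169 l2170) (.node (nat_lit 82536) l2171 l2172)) (.node (nat_lit 82650) (.node (nat_lit 82612) l2173 l2174) (.node (nat_lit 82688) l2175 l2176)))
noncomputable def n284 : T := (.node (nat_lit 82878) (.node (nat_lit 82802) (.node (nat_lit 82764) l2177 l2178) (.node (nat_lit 82840) l2179 l2180)) (.node (nat_lit 82954) (.node (nat_lit 82916) l2181 l2182) (.node (nat_lit 82992) l2183 l2184)))
noncomputable def n285 : T := (.node (nat_lit 83182) (.node (nat_lit 83106) (.node (nat_lit 83068) l2185 l2186) (.node (nat_lit 83144) l2187 l2188)) (.node (nat_lit 83258) (.node (nat_lit 83220) l2189 l2190) (.node (nat_lit 83296) l2191 l2192)))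
noncomputable def n286 : T := (.node (nat_lit 83486) (.node (nat_lit 83410) (.node (nat_lit 83372) l2193 l2194) (.node (nat_lit 83448) l2195 l2196)) (.node (nat_lit 83562) (.node (nat_lit 83524) l2197 l2198) (.node (nat_lit 83600) l2199 l2200)))
noncomputable def n287 : T := (.node (nat_lit 83790) (.node (nat_lit 83714) (.node (nat_lit 83676) l2201 l2202) (.node (nat_lit 83752) l2203 l2204)) (.node (nat_lit 83866) (.node (nat_lit 83828) l2205 l2206) (.node (nat_lit 83904) l2207 l2208)))
noncomputable def n288 : T := (.node (nat_lit 84056) (.node (nat_lit 83980) l2209 (.node (nat_lit 84018) l2210 l2211)) (.node (nat_lit 84132) (.node (nat_lit 84094) l2212 l2213) (.node (nat_lit 84170) l2214 l2215)))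
noncomputable def n289 : T := (.node (nat_lit 84360) (.node (nat_lit 84284) (.node (nat_lit 84246) l2216 l2217) (.node (nat_lit 84322) l2218 l2219)) (.node (nat_lit 84436) (.node (nat_lit 84398) l2220 l2221) (.node (nat_lit 84474) l2222 l2223)))
noncomputable def n290 : T := (.node (nat_lit 84664) (.node (nat_lit 84588) (.node (nat_lit 84550) l2224 l2225) (.node (nat_lit 84626) l2226 l2227)) (.node (nat_lit 84740) (.node (nat_lit 84702) l2228 l2229) (.node (nat_lit 84778) l2230 l2231)))
noncomputable def n291 : T := (.node (nat_lit 84968) (.node (nat_lit 84892) (.node (nat_lit 84854) l2232 l2233) (.node (nat_lit 84930) l2234 l2235)) (.node (nat_lit 85044) (.node (nat_lit 85006) l2236 l2237) (.node (nat_lit 85082) l2238 l2239)))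
noncomputable def n292 : T := (.node (nat_lit 85272) (.node (nat_lit 85196) (.node (nat_lit 85158) l2240 l2241) (.node (nat_lit 85234) l2242 l2243)) (.node (nat_lit 85348) (.node (nat_lit 85310) l2244 l2245) (.node (nat_lit 85386) l2246 l2247)))
noncomputable def n293 : T := (.node (nat_lit 85576) (.node (nat_lit 85500) (.node (nat_lit 85462) l2248 l2249) (.node (nat_lit 85538) l2250 l2251)) (.node (nat_lit 85652) (.node (nat_lit 85614) l2252 l2253) (.node (nat_lit 85690) l2254 l2255)))
noncomputable def n294 : T := (.node (nat_lit 85880) (.node (nat_lit 85804) (.node (nat_lit 85766) l2256 l2257) (.node (nat_lit 85842) l2258 l2259)) (.node (nat_lit 85956) (.node (nat_lit 85918) l2260 l2261) (.node (nat_lit 85994) l2262 l2263)))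
noncomputable def n295 : T := (.node (nat_lit 86184) (.node (nat_lit 86108) (.node (nat_lit 86070) l2264 l2265) (.node (nat_lit 86146) l2266 l2267)) (.node (nat_lit 86260) (.node (nat_lit 86222) l2268 l2269) (.node (nat_lit 86298) l2270 l2271)))
noncomputable def n296 : T := (.node (nat_lit 81548) (.node (nat_lit 79154) (.node (nat_lit 77938) (.node (nat_lit 77330) (.node (nat_lit 77026) n264 n265) (.node (nat_lit 77634) n266 n267)) (.node (nat_lit 78546) (.node (nat_lit 78242) n268 n269) (.node (nat_lit 78850) n270 n271))) (.node (nat_lit 80332) (.node (nat_lit 79724) (.node (nat_lit 79420) n272 n273) (.node (nat_lit 80028) n274 n275)) (.node (nat_lit 80940) (.node (nat_lit 80636) n276 n277) (.node (nat_lit 81244) n278 n279)))) (.node (nat_lit 83942) (.node (nat_lit 82726) (.node (nat_lit 82118) (.node (nat_lit 81814) n280 n281) (.node (nat_lit 82422) n282 n283)) (.node (nat_lit 83334) (.node (nat_lit 83030) n284 n285) (.node (nat_lit 83638) n286 n287))) (.node (nat_lit 85120) (.node (nat_lit 84512) (.node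 (nat_lit 84208) n288 n289) (.node (nat_lit 84816) n290 n291)) (.node (nat_lit 85728) (.node (nat_lit 85424) n292 n293) (.node (nat_lit 86032) n294 n295)))))
noncomputable def n297 : T := (.node (nat_lit 86450) (.node (nat_lit 86374) l2272 (.node (nat_lit 86412) l2273 l2274)) (.node (nat_lit 86526) (.node (nat_lit 86488) l2275 l2276) (.node (nat_lit 86564) l2277 l2278)))
noncomputable def n298 : T := (.node (nat_lit 86754) (.node (nat_lit 86678) (.node (nat_lit 86640) l2279 l2280) (.node (nat_lit 86716) l2281 l2282)) (.node (nat_lit 86830) (.node (nat_lit 86792) l2283 l2284) (.node (nat_lit 86868) l2285 l2286)))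
noncomputable def n299 : T := (.node (nat_lit 87058) (.node (nat_lit 86982) (.node (nat_lit 86944) l2287 l2288) (.node (nat_lit 87020) l2289 l2290)) (.node (nat_lit 87134) (.node (nat_lit 87096) l2291 l2292) (.node (nat_lit 87172) l2293 l2294)))
noncomputable def n300 : T := (.node (nat_lit 87362) (.node (nat_lit 87286) (.node (nat_lit 87248) l2295 l2296) (.node (nat_lit 87324) l2297 l2298)) (.node (nat_lit 87438) (.node (nat_lit 87400) l2299 l2300) (.node (nat_lit 87476) l2301 l2302)))
noncomputable def n301 : T := (.node (nat_lit 87666) (.node (nat_lit 87590) (.node (nat_lit 87552) l2303 l2304) (.node (nat_lit 87628) l2305 l2306)) (.node (nat_lit 87742) (.node (nat_lit 87704) l2307 l2308) (.node (nat_lit 87780) l2309 l2310)))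
noncomputable def n302 : T := (.node (nat_lit 87970) (.node (nat_lit 87894) (.node (nat_lit 87856) l2311 l2312) (.node (nat_lit 87932) l2313 l2314)) (.node (nat_lit 88046) (.node (nat_lit 88008) l2315 l2316) (.node (nat_lit 88084) l2317 l2318)))
noncomputable def n303 : T := (.node (nat_lit 88274) (.node (nat_lit 88198) (.node (nat_lit 88160) l2319 l2320) (.node (nat_lit 88236) l2321 l2322)) (.node (nat_lit 88350) (.node (nat_lit 88312) l2323 l2324) (.node (nat_lit 88388) l2325 l2326)))
noncomputable def n304 : T := (.node (nat_lit 88578) (.node (nat_lit 88502) (.node (nat_lit 88464) l2327 l2328) (.node (nat_lit 88540) l2329 l2330)) (.node (nat_lit 88654) (.node (nat_lit 88616) l2331 l2332) (.node (nat_lit 88692) l2333 l2334)))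
noncomputable def n305 : T := (.node (nat_lit 88844) (.node (nat_lit 88768) l2335 (.node (nat_lit 88806) l2336 l2337)) (.node (nat_lit 88920) (.node (nat_lit 88882) l2338 l2339) (.node (nat_lit 88958) l2340 l2341)))
noncomputable def n306 : T := (.node (nat_lit 89148) (.node (nat_lit 89072) (.node (nat_lit 89034) l2342 l2343) (.node (nat_lit 89110) l2344 l2345)) (.node (nat_lit 89224) (.node (nat_lit 89186) l2346 l2347) (.node (nat_lit 89262) l2348 l2349)))
noncomputable def n307 : T := (.node (nat_lit 89452) (.node (nat_lit 89376) (.node (nat_lit 89338) l2350 l2351) (.node (nat_lit 89414) l2352 l2353)) (.node (nat_lit 89528) (.node (nat_lit 89490) l2354 l2355) (.node (nat_lit 89566) l2356 l2357)))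
noncomputable def n308 : T := (.node (nat_lit 89756) (.node (nat_lit 89680) (.node (nat_lit 89642) l2358 l2359) (.node (nat_lit 89718) l2360 l2361)) (.node (nat_lit 89832) (.node (nat_lit 89794) l2362 l2363) (.node (nat_lit 89870) l2364 l2365)))
noncomputable def n309 : T := (.node (nat_lit 90060) (.node (nat_lit 89984) (.node (nat_lit 89946) l2366 l2367) (.node (nat_lit 90022) l2368 l2369)) (.node (nat_lit 90136) (.node (nat_lit 90098) l2370 l2371) (.node (nat_lit 90174) l2372 l2373)))
noncomputable def n310 : T := (.node (nat_lit 90364) (.node (nat_lit 90288) (.node (nat_lit 90250) l2374 l2375) (.node (nat_lit 90326) l2376 l2377)) (.node (nat_lit 90440) (.node (nat_lit 90402) l2378 l2379) (.node (nat_lit 90478) l2380 l2381)))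
noncomputable def n311 : T := (.node (nat_lit 90668) (.node (nat_lit 90592) (.node (nat_lit 90554) l2382 l2383) (.node (nat_lit 90630) l2384 l2385)) (.node (nat_lit 90744) (.node (nat_lit 90706) l2386 l2387) (.node (nat_lit 90782) l2388 l2389)))
noncomputable def n312 : T := (.node (nat_lit 90972) (.node (nat_lit 90896) (.node (nat_lit 90858) l2390 l2391) (.node (nat_lit 90934) l2392 l2393)) (.node (nat_lit 91048) (.node (nat_lit 91010) l2394 l2395) (.node (nat_lit 91086) l2396 l2397)))
noncomputable def n313 : T := (.node (nat_lit 91238) (.node (nat_lit 91162) l2398 (.node (nat_lit 91200) l2399 l2400)) (.node (nat_lit 91314) (.node (nat_lit 91276) l2401 l2402) (.node (nat_lit 91352) l2403 l2404)))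
noncomputable def n314 : T := (.node (nat_lit 91542) (.node (nat_lit 91466) (.node (nat_lit 91428) l2405 l2406) (.node (nat_lit 91504) l2407 l2408)) (.node (nat_lit 91618) (.node (nat_lit 91580) l2409 l2410) (.node (nat_lit 91656) l2411 l2412)))
noncomputable def n315 : T := (.node (nat_lit 91846) (.node (nat_lit 91770) (.node (nat_lit 91732) l2413 l2414) (.node (nat_lit 91808) l2415 l2416)) (.node (nat_lit 91922) (.node (nat_lit 91884) l2417 l2418) (.node (nat_lit 91960) l2419 l2420)))
noncomputable def n316 : T := (.node (nat_lit 92150) (.node (nat_lit 92074) (.node (nat_lit 92036) l2421 l2422) (.node (nat_lit 92112) l2423 l2424)) (.node (nat_lit 92226) (.node (nat_lit 92188) l2425 l2426) (.node (nat_lit 92264) l2427 l2428)))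
noncomputable def n317 : T := (.node (nat_lit 92454) (.node (nat_lit 92378) (.node (nat_lit 92340) l2429 l2430) (.node (nat_lit 92416) l2431 l2432)) (.node (nat_lit 92530) (.node (nat_lit 92492) l2433 l2434) (.node (nat_lit 92568) l2435 l2436)))
noncomputable def n318 : T := (.node (nat_lit 92758) (.node (nat_lit 92682) (.node (nat_lit 92644) l2437 l2438) (.node (nat_lit 92720) l2439 l2440)) (.node (nat_lit 92834) (.node (nat_lit 92796) l2441 l2442) (.node (nat_lit 92872) l2443 l2444)))
noncomputable def n319 : T := (.node (nat_lit 93062) (.node (nat_lit 92986) (.node (nat_lit 92948) l2445 l2446) (.node (nat_lit 93024) l2447 l2448)) (.node (nat_lit 93138) (.node (nat_lit 93100) l2449 l2450) (.node (nat_lit 93176) l2451 l2452)))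
noncomputable def n320 : T := (.node (nat_lit 93366) (.node (nat_lit 93290) (.node (nat_lit 93252) l2453 l2454) (.node (nat_lit 93328) l2455 l2456)) (.node (nat_lit 93442) (.node (nat_lit 93404) l2457 l2458) (.node (nat_lit 93480) l2459 l2460)))
noncomputable def n321 : T := (.node (nat_lit 93670) (.node (nat_lit 93594) (.node (nat_lit 93556) l2461 l2462) (.node (nat_lit 93632) l2463 l2464)) (.node (nat_lit 93746) (.node (nat_lit 93708) l2465 l2466) (.node (nat_lit 93784) l2467 l2468)))
noncomputable def n322 : T := (.node (nat_lit 93974) (.node (nat_lit 93898) (.node (nat_lit 93860) l2469 l2470) (.node (nat_lit 93936) l2471 l2472)) (.node (nat_lit 94050) (.node (nat_lit 94012) l2473 l2474) (.node (nat_lit 94088) l2475 l2476)))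
noncomputable def n323 : T := (.node (nat_lit 94278) (.node (nat_lit 94202) (.node (nat_lit 94164) l2477 l2478) (.node (nat_lit 94240) l2479 l2480)) (.node (nat_lit 94354) (.node (nat_lit 94316) l2481 l2482) (.node (nat_lit 94392) l2483 l2484)))
noncomputable def n324 : T := (.node (nat_lit 94582) (.node (nat_lit 94506) (.node (nat_lit 94468) l2485 l2486) (.node (nat_lit 94544) l2487 l2488)) (.node (nat_lit 94658) (.node (nat_lit 94620) l2489 l2490) (.node (nat_lit 94696) l2491 l2492)))
noncomputable def n325 : T := (.node (nat_lit 94886) (.node (nat_lit 94810) (.node (nat_lit 94772) l2493 l2494) (.node (nat_lit 94848) l2495 l2496)) (.node (nat_lit 94962) (.node (nat_lit 94924) l2497 l2498) (.node (nat_lit 95000) l2499 l2500)))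
noncomputable def n326 : T := (.node (nat_lit 95190) (.node (nat_lit 95114) (.node (nat_lit 95076) l2501 l2502) (.node (nat_lit 95152) l2503 l2504)) (.node (nat_lit 95266) (.node (nat_lit 95228) l2505 l2506) (.node (nat_lit 95304) l2507 l2508)))
noncomputable def n327 : T := (.node (nat_lit 95494) (.node (nat_lit 95418) (.node (nat_lit 95380) l2509 l2510) (.node (nat_lit 95456) l2511 l2512)) (.node (nat_lit 95570) (.node (nat_lit 95532) l2513 l2514) (.node (nat_lit 95608) l2515 l2516)))
noncomputable def n328 : T := (.node (nat_lit 95798) (.node (nat_lit 95722) (.node (nat_lit 95684) l2517 l2518) (.node (nat_lit 95760) l2519 l2520)) (.node (nat_lit 95874) (.node (nat_lit 95836) l2521 l2522) (.node (nat_lit 95912) l2523 l2524)))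
noncomputable def n329 : T := (.node (nat_lit 91124) (.node (nat_lit 88730) (.node (nat_lit 87514) (.node (nat_lit 86906) (.node (nat_lit 86602) n297 n298) (.node (nat_lit 87210) n299 n300)) (.node (nat_lit 88122) (.node (nat_lit 87818) n301 n302) (.node (nat_lit 88426) n303 n304))) (.node (nat_lit 89908) (.node (nat_lit 89300) (.node (nat_lit 88996) n305 n306) (.node (nat_lit 89604) n307 n308)) (.node (nat_lit 90516) (.node (nat_lit 90212) n309 n310) (.node (nat_lit 90820) n311 n312)))) (.node (nat_lit 93518) (.node (nat_lit 92302) (.node (nat_lit 91694) (.node (nat_lit 91390) n313 n314) (.node (nat_lit 91998) n315 n316)) (.node (nat_lit 92910) (.node (nat_lit 92606) n317 n318) (.node (nat_lit 93214) n319 n320))) (.node (nat_lit 94734) (.node (nat_lit 94126) (.node (nat_lit 93822) n321 n322) (.node (nat_lit 94430) n323 n324)) (.node (nat_lit 95342) (.node (nat_lit 95038) n325 n326) (.node (nat_lit 95646) n327 n328)))))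
noncomputable def n330 : T := (.node (nat_lit 96064) (.node (nat_lit 95988) l2525 (.node (nat_lit 96026) l2526 l2527)) (.node (nat_lit 96140) (.node (nat_lit 96102) l2528 l2529) (.node (nat_lit 96178) l2530 l2531)))
noncomputable def n331 : T := (.node (nat_lit 96368) (.node (nat_lit 96292) (.node (nat_lit 96254) l2532 l2533) (.node (nat_lit 96330) l2534 l2535)) (.node (nat_lit 96444) (.node (nat_lit 96406) l2536 l2537) (.node (nat_lit 96482) l2538 l2539)))
noncomputable def n332 : T := (.node (nat_lit 96672) (.node (nat_lit 96596) (.node (nat_lit 96558) l2540 l2541) (.node (nat_lit 96634) l2542 l2543)) (.node (nat_lit 96748) (.node (nat_lit 96710) l2544 l2545) (.node (nat_lit 96786) l2546 l2547)))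
noncomputable def n333 : T := (.node (nat_lit 96976) (.node (nat_lit 96900) (.node (nat_lit 96862) l2548 l2549) (.node (nat_lit 96938) l2550 l2551)) (.node (nat_lit 97052) (.node (nat_lit 97014) l2552 l2553) (.node (nat_lit 97090) l2554 l2555)))
noncomputable def n334 : T := (.node (nat_lit 97280) (.node (nat_lit 97204) (.node (nat_lit 97166) l2556 l2557) (.node (nat_lit 97242) l2558 l2559)) (.node (nat_lit 97356) (.node (nat_lit 97318) l2560 l2561) (.node (nat_lit 97394) l2562 l2563)))
noncomputable def n335 : T := (.node (nat_lit 97584) (.node (nat_lit 97508) (.node (nat_lit 97470) l2564 l2565) (.node (nat_lit 97546) l2566 l2567)) (.node (nat_lit 97660) (.node (nat_lit 97622) l2568 l2569) (.node (nat_lit 97698) l2570 l2571)))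
noncomputable def n336 : T := (.node (nat_lit 97888) (.node (nat_lit 97812) (.node (nat_lit 97774) l2572 l2573) (.node (nat_lit 97850) l2574 l2575)) (.node (nat_lit 97964) (.node (nat_lit 97926) l2576 l2577) (.node (nat_lit 98002) l2578 l2579)))
noncomputable def n337 : T := (.node (nat_lit 98192) (.node (nat_lit 98116) (.node (nat_lit 98078) l2580 l2581) (.node (nat_lit 98154) l2582 l2583)) (.node (nat_lit 98268) (.node (nat_lit 98230) l2584 l2585) (.node (nat_lit 98306) l2586 l2587)))
noncomputable def n338 : T := (.node (nat_lit 98458) (.node (nat_lit 98382) l2588 (.node (nat_lit 98420) l2589 l2590)) (.node (nat_lit 98534) (.node (nat_lit 98496) l2591 l2592) (.node (nat_lit 98572) l2593 l2594)))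
noncomputable def n339 : T := (.node (nat_lit 98762) (.node (nat_lit 98686) (.node (nat_lit 98648) l2595 l2596) (.node (nat_lit 98724) l2597 l2598)) (.node (nat_lit 98838) (.node (nat_lit 98800) l2599 l2600) (.node (nat_lit 98876) l2601 l2602)))
noncomputable def n340 : T := (.node (nat_lit 99066) (.node (nat_lit 98990) (.node (nat_lit 98952) l2603 l2604) (.node (nat_lit 99028) l2605 l2606)) (.node (nat_lit 99142) (.node (nat_lit 99104) l2607 l2608) (.node (nat_lit 99180) l2609 l2610)))
noncomputable def n341 : T := (.node (nat_lit 99370) (.node (nat_lit 99294) (.node (nat_lit 99256) l2611 l2612) (.node (nat_lit 99332) l2613 l2614)) (.node (nat_lit 99446) (.node (nat_lit 99408) l2615 l2616) (.node (nat_lit 99484) l2617 l2618)))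
noncomputable def n342 : T := (.node (nat_lit 99674) (.node (nat_lit 99598) (.node (nat_lit 99560) l2619 l2620) (.node (nat_lit 99636) l2621 l2622)) (.node (nat_lit 99750) (.node (nat_lit 99712) l2623 l2624) (.node (nat_lit 99788) l2625 l2626)))
noncomputable def n343 : T := (.node (nat_lit 99978) (.node (nat_lit 99902) (.node (nat_lit 99864) l2627 l2628) (.node (nat_lit 99940) l2629 l2630)) (.node (nat_lit 100054) (.node (nat_lit 100016) l2631 l2632) (.node (nat_lit 100092) l2633 l2634)))
noncomputable def n344 : T := (.node (nat_lit 100282) (.node (nat_lit 100206) (.node (nat_lit 100168) l2635 l2636) (.node (nat_lit 100244) l2637 l2638)) (.node (nat_lit 100358) (.node (nat_lit 100320) l2639 l2640) (.node (nat_lit 100396) l2641 l2642)))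
noncomputable def n345 : T := (.node (nat_lit 100586) (.node (nat_lit 100510) (.node (nat_lit 100472) l2643 l2644) (.node (nat_lit 100548) l2645 l2646)) (.node (nat_lit 100662) (.node (nat_lit 100624) l2647 l2648) (.node (nat_lit 100700) l2649 l2650)))
noncomputable def n346 : T := (.node (nat_lit 100852) (.node (nat_lit 100776) l2651 (.node (nat_lit 100814) l2652 l2653)) (.node (nat_lit 100928) (.node (nat_lit 100890) l2654 l2655) (.node (nat_lit 100966) l2656 l2657)))
noncomputable def n347 : T := (.node (nat_lit 101156) (.node (nat_lit 101080) (.node (nat_lit 101042) l2658 l2659) (.node (nat_lit 101118) l2660 l2661)) (.node (nat_lit 101232) (.node (nat_lit 101194) l2662 l2663) (.node (nat_lit 101270) l2664 l2665)))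
noncomputable def n348 : T := (.node (nat_lit 101460) (.node (nat_lit 101384) (.node (nat_lit 101346) l2666 l2667) (.node (nat_lit 101422) l2668 l2669)) (.node (nat_lit 101536) (.node (nat_lit 101498) l2670 l2671) (.node (nat_lit 101574) l2672 l2673)))
noncomputable def n349 : T := (.node (nat_lit 101764) (.node (nat_lit 101688) (.node (nat_lit 101650) l2674 l2675) (.node (nat_lit 101726) l2676 l2677)) (.node (nat_lit 101840) (.node (nat_lit 101802) l2678 l2679) (.node (nat_lit 101878) l2680 l2681)))
noncomputable def n350 : T := (.node (nat_lit 102068) (.node (nat_lit 101992) (.node (nat_lit 101954) l2682 l2683) (.node (nat_lit 102030) l2684 l2685)) (.node (nat_lit 102144) (.node (nat_lit 102106) l2686 l2687) (.node (nat_lit 102182) l2688 l2689)))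
noncomputable def n351 : T := (.node (nat_lit 102372) (.node (nat_lit 102296) (.node (nat_lit 102258) l2690 l2691) (.node (nat_lit 102334) l2692 l2693)) (.node (nat_lit 102448) (.node (nat_lit 102410) l2694 l2695) (.node (nat_lit 102486) l2696 l2697)))
noncomputable def n352 : T := (.node (nat_lit 102676) (.node (nat_lit 102600) (.node (nat_lit 102562) l2698 l2699) (.node (nat_lit 102638) l2700 l2701)) (.node (nat_lit 102752) (.node (nat_lit 102714) l2702 l2703) (.node (nat_lit 102790) l2704 l2705)))
noncomputable def n353 : T := (.node (nat_lit 102980) (.node (nat_lit 102904) (.node (nat_lit 102866) l2706 l2707) (.node (nat_lit 102942) l2708 l2709)) (.node (nat_lit 103056) (.node (nat_lit 103018) l2710 l2711) (.node (nat_lit 103094) l2712 l2713)))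
noncomputable def n354 : T := (.node (nat_lit 103246) (.node (nat_lit 103170) l2714 (.node (nat_lit 103208) l2715 l2716)) (.node (nat_lit 103322) (.node (nat_lit 103284) l2717 l2718) (.node (nat_lit 103360) l2719 l2720)))
noncomputable def n355 : T := (.node (nat_lit 103550) (.node (nat_lit 103474) (.node (nat_lit 103436) l2721 l2722) (.node (nat_lit 103512) l2723 l2724)) (.node (nat_lit 103626) (.node (nat_lit 103588) l2725 l2726) (.node (nat_lit 103664) l2727 l2728)))
noncomputable def n356 : T := (.node (nat_lit 103854) (.node (nat_lit 103778) (.node (nat_lit 103740) l2729 l2730) (.node (nat_lit 103816) l2731 l2732)) (.node (nat_lit 103930) (.node (nat_lit 103892) l2733 l2734) (.node (nat_lit 103968) l2735 l2736)))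
noncomputable def n357 : T := (.node (nat_lit 104158) (.node (nat_lit 104082) (.node (nat_lit 104044) l2737 l2738) (.node (nat_lit 104120) l2739 l2740)) (.node (nat_lit 104234) (.node (nat_lit 104196) l2741 l2742) (.node (nat_lit 104272) l2743 l2744)))
noncomputable def n358 : T := (.node (nat_lit 104462) (.node (nat_lit 104386) (.node (nat_lit 104348) l2745 l2746) (.node (nat_lit 104424) l2747 l2748)) (.node (nat_lit 104538) (.node (nat_lit 104500) l2749 l2750) (.node (nat_lit 104576) l2751 l2752)))
noncomputable def n359 : T := (.node (nat_lit 104766) (.node (nat_lit 104690) (.node (nat_lit 104652) l2753 l2754) (.node (nat_lit 104728) l2755 l2756)) (.node (nat_lit 104842) (.node (nat_lit 104804) l2757 l2758) (.node (nat_lit 104880) l2759 l2760)))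
noncomputable def n360 : T := (.node (nat_lit 105070) (.node (nat_lit 104994) (.node (nat_lit 104956) l2761 l2762) (.node (nat_lit 105032) l2763 l2764)) (.node (nat_lit 105146) (.node (nat_lit 105108) l2765 l2766) (.node (nat_lit 105184) l2767 l2768)))
noncomputable def n361 : T := (.node (nat_lit 105374) (.node (nat_lit 105298) (.node (nat_lit 105260) l2769 l2770) (.node (nat_lit 105336) l2771 l2772)) (.node (nat_lit 105450) (.node (nat_lit 105412) l2773 l2774) (.node (nat_lit 105488) l2775 l2776)))
noncomputable def n362 : T := (.node (nat_lit 100738) (.node (nat_lit 98344) (.node (nat_lit 97128) (.node (nat_lit 96520) (.node (nat_lit 96216) n330 n331) (.node (nat_lit 96824) n332 n333)) (.node (nat_lit 97736) (.node (nat_lit 97432) n334 n335) (.node (nat_lit 98040) n336 n337))) (.node (nat_lit 99522) (.node (nat_lit 98914) (.node (nat_lit 98610) n338 n339) (.node (nat_lit 99218) n340 n341)) (.node (nat_lit 100130) (.node (nat_lit 99826) n342 n343) (.node (nat_lit 100434) n344 n345)))) (.node (nat_lit 103132)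 (.node (nat_lit 101916) (.node (nat_lit 101308) (.node (nat_lit 101004) n346 n347) (.node (nat_lit 101612) n348 n349)) (.node (nat_lit 102524) (.node (nat_lit 102220) n350 n351) (.node (nat_lit 102828) n352 n353))) (.node (nat_lit 104310) (.node (nat_lit 103702) (.node (nat_lit 103398) n354 n355) (.node (nat_lit 104006) n356 n357)) (.node (nat_lit 104918) (.node (nat_lit 104614) n358 n359) (.node (nat_lit 105222) n360 n361)))))
noncomputable def n363 : T := (.node (nat_lit 105640) (.node (nat_lit 105564) l2777 (.node (nat_lit 105602) l2778 l2779)) (.node (nat_lit 105716) (.node (nat_lit 105678) l2780 l2781) (.node (nat_lit 105754) l2782 l2783)))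
noncomputable def n364 : T := (.node (nat_lit 105944) (.node (nat_lit 105868) (.node (nat_lit 105830) l2784 l2785) (.node (nat_lit 105906) l2786 l2787)) (.node (nat_lit 106020) (.node (nat_lit 105982) l2788 l2789) (.node (nat_lit 106058) l2790 l2791)))
noncomputable def n365 : T := (.node (nat_lit 106248) (.node (nat_lit 106172) (.node (nat_lit 106134) l2792 l2793) (.node (nat_lit 106210) l2794 l2795)) (.node (nat_lit 106324) (.node (nat_lit 106286) l2796 l2797) (.node (nat_lit 106362) l2798 l2799)))
noncomputable def n366 : T := (.node (nat_lit 106552) (.node (nat_lit 106476) (.node (nat_lit 106438) l2800 l2801) (.node (nat_lit 106514) l2802 l2803)) (.node (nat_lit 106628) (.node (nat_lit 106590) l2804 l2805) (.node (nat_lit 106666) l2806 l2807)))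
noncomputable def n367 : T := (.node (nat_lit 106856) (.node (nat_lit 106780) (.node (nat_lit 106742) l2808 l2809) (.node (nat_lit 106818) l2810 l2811)) (.node (nat_lit 106932) (.node (nat_lit 106894) l2812 l2813) (.node (nat_lit 106970) l2814 l2815)))
noncomputable def n368 : T := (.node (nat_lit 107160) (.node (nat_lit 107084) (.node (nat_lit 107046) l2816 l2817) (.node (nat_lit 107122) l2818 l2819)) (.node (nat_lit 107236) (.node (nat_lit 107198) l2820 l2821) (.node (nat_lit 107274) l2822 l2823)))
noncomputable def n369 : T := (.node (nat_lit 107464) (.node (nat_lit 107388) (.node (nat_lit 107350) l2824 l2825) (.node (nat_lit 107426) l2826 l2827)) (.node (nat_lit 107540) (.node (nat_lit 107502) l2828 l2829) (.node (nat_lit 107578) l2830 l2831)))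
noncomputable def n370 : T := (.node (nat_lit 107768) (.node (nat_lit 107692) (.node (nat_lit 107654) l2832 l2833) (.node (nat_lit 107730) l2834 l2835)) (.node (nat_lit 107844) (.node (nat_lit 107806) l2836 l2837) (.node (nat_lit 107882) l2838 l2839)))
noncomputable def n371 : T := (.node (nat_lit 108034) (.node (nat_lit 107958) l2840 (.node (nat_lit 107996) l2841 l2842)) (.node (nat_lit 108110) (.node (nat_lit 108072) l2843 l2844) (.node (nat_lit 108148) l2845 l2846)))
noncomputable def n372 : T := (.node (nat_lit 108338) (.node (nat_lit 108262) (.node (nat_lit 108224) l2847 l2848) (.node (nat_lit 108300) l2849 l2850)) (.node (nat_lit 108414) (.node (nat_lit 108376) l2851 l2852) (.node (nat_lit 108452) l2853 l2854)))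
noncomputable def n373 : T := (.node (nat_lit 108642) (.node (nat_lit 108566) (.node (nat_lit 108528) l2855 l2856) (.node (nat_lit 108604) l2857 l2858)) (.node (nat_lit 108718) (.node (nat_lit 108680) l2859 l2860) (.node (nat_lit 108756) l2861 l2862)))
noncomputable def n374 : T := (.node (nat_lit 108946) (.node (nat_lit 108870) (.node (nat_lit 108832) l2863 l2864) (.node (nat_lit 108908) l2865 l2866)) (.node (nat_lit 109022) (.node (nat_lit 108984) l2867 l2868) (.node (nat_lit 109060) l2869 l2870)))
noncomputable def n375 : T := (.node (nat_lit 109250) (.node (nat_lit 109174) (.node (nat_lit 109136) l2871 l2872) (.node (nat_lit 109212) l2873 l2874)) (.node (nat_lit 109326) (.node (nat_lit 109288) l2875 l2876) (.node (nat_lit 109364) l2877 l2878)))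
noncomputable def n376 : T := (.node (nat_lit 109554) (.node (nat_lit 109478) (.node (nat_lit 109440) l2879 l2880) (.node (nat_lit 109516) l2881 l2882)) (.node (nat_lit 109630) (.node (nat_lit 109592) l2883 l2884) (.node (nat_lit 109668) l2885 l2886)))
noncomputable def n377 : T := (.node (nat_lit 109858) (.node (nat_lit 109782) (.node (nat_lit 109744) l2887 l2888) (.node (nat_lit 109820) l2889 l2890)) (.node (nat_lit 109934) (.node (nat_lit 109896) l2891 l2892) (.node (nat_lit 109972) l2893 l2894)))
noncomputable def n378 : T := (.node (nat_lit 110162) (.node (nat_lit 110086) (.node (nat_lit 110048) l2895 l2896) (.node (nat_lit 110124) l2897 l2898)) (.node (nat_lit 110238) (.node (nat_lit 110200) l2899 l2900) (.node (nat_lit 110276) l2901 l2902)))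
noncomputable def n379 : T := (.node (nat_lit 110428) (.node (nat_lit 110352) l2903 (.node (nat_lit 110390) l2904 l2905)) (.node (nat_lit 110504) (.node (nat_lit 110466) l2906 l2907) (.node (nat_lit 110542) l2908 l2909)))
noncomputable def n380 : T := (.node (nat_lit 110732) (.node (nat_lit 110656) (.node (nat_lit 110618) l2910 l2911) (.node (nat_lit 110694) l2912 l2913)) (.node (nat_lit 110808) (.node (nat_lit 110770) l2914 l2915) (.node (nat_lit 110846) l2916 l2917)))
noncomputable def n381 : T := (.node (nat_lit 111036) (.node (nat_lit 110960) (.node (nat_lit 110922) l2918 l2919) (.node (nat_lit 110998) l2920 l2921)) (.node (nat_lit 111112) (.node (nat_lit 111074) l2922 l2923) (.node (nat_lit 111150) l2924 l2925)))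
noncomputable def n382 : T := (.node (nat_lit 111340) (.node (nat_lit 111264) (.node (nat_lit 111226) l2926 l2927) (.node (nat_lit 111302) l2928 l2929)) (.node (nat_lit 111416) (.node (nat_lit 111378) l2930 l2931) (.node (nat_lit 111454) l2932 l2933)))
noncomputable def n383 : T := (.node (nat_lit 111644) (.node (nat_lit 111568) (.node (nat_lit 111530) l2934 l2935) (.node (nat_lit 111606) l2936 l2937)) (.node (nat_lit 111720) (.node (nat_lit 111682) l2938 l2939) (.node (nat_lit 111758) l2940 l2941)))
noncomputable def n384 : T := (.node (nat_lit 111948) (.node (nat_lit 111872) (.node (nat_lit 111834) l2942 l2943) (.node (nat_lit 111910) l2944 l2945)) (.node (nat_lit 112024) (.node (nat_lit 111986) l2946 l2947) (.node (nat_lit 112062) l2948 l2949)))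
noncomputable def n385 : T := (.node (nat_lit 112252) (.node (nat_lit 112176) (.node (nat_lit 112138) l2950 l2951) (.node (nat_lit 112214) l2952 l2953)) (.node (nat_lit 112328) (.node (nat_lit 112290) l2954 l2955) (.node (nat_lit 112366) l2956 l2957)))
noncomputable def n386 : T := (.node (nat_lit 112556) (.node (nat_lit 112480) (.node (nat_lit 112442) l2958 l2959) (.node (nat_lit 112518) l2960 l2961)) (.node (nat_lit 112632) (.node (nat_lit 112594) l2962 l2963) (.node (nat_lit 112670) l2964 l2965)))
noncomputable def n387 : T := (.node (nat_lit 112860) (.node (nat_lit 112784) (.node (nat_lit 112746) l2966 l2967) (.node (nat_lit 112822) l2968 l2969)) (.node (nat_lit 112936) (.node (nat_lit 112898) l2970 l2971) (.node (nat_lit 112974) l2972 l2973)))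
noncomputable def n388 : T := (.node (nat_lit 113164) (.node (nat_lit 113088) (.node (nat_lit 113050) l2974 l2975) (.node (nat_lit 113126) l2976 l2977)) (.node (nat_lit 113240) (.node (nat_lit 113202) l2978 l2979) (.node (nat_lit 113278) l2980 l2981)))
noncomputable def n389 : T := (.node (nat_lit 113468) (.node (nat_lit 113392) (.node (nat_lit 113354) l2982 l2983) (.node (nat_lit 113430) l2984 l2985)) (.node (nat_lit 113544) (.node (nat_lit 113506) l2986 l2987) (.node (nat_lit 113582) l2988 l2989)))
noncomputable def n390 : T := (.node (nat_lit 113772) (.node (nat_lit 113696) (.node (nat_lit 113658) l2990 l2991) (.node (nat_lit 113734) l2992 l2993)) (.node (nat_lit 113848) (.node (nat_lit 113810) l2994 l2995) (.node (nat_lit 113886) l2996 l2997)))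
noncomputable def n391 : T := (.node (nat_lit 114076) (.node (nat_lit 114000) (.node (nat_lit 113962) l2998 l2999) (.node (nat_lit 114038) l3000 l3001)) (.node (nat_lit 114152) (.node (nat_lit 114114) l3002 l3003) (.node (nat_lit 114190) l3004 l3005)))
noncomputable def n392 : T := (.node (nat_lit 114380) (.node (nat_lit 114304) (.node (nat_lit 114266) l3006 l3007) (.node (nat_lit 114342) l3008 l3009)) (.node (nat_lit 114456) (.node (nat_lit 114418) l3010 l3011) (.node (nat_lit 114494) l3012 l3013)))
noncomputable def n393 : T := (.node (nat_lit 114684) (.node (nat_lit 114608) (.node (nat_lit 114570) l3014 l3015) (.node (nat_lit 114646) l3016 l3017)) (.node (nat_lit 114760) (.node (nat_lit 114722) l3018 l3019) (.node (nat_lit 114798) l3020 l3021)))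
noncomputable def n394 : T := (.node (nat_lit 114988) (.node (nat_lit 114912) (.node (nat_lit 114874) l3022 l3023) (.node (nat_lit 114950) l3024 l3025)) (.node (nat_lit 115064) (.node (nat_lit 115026) l3026 l3027) (.node (nat_lit 115102) l3028 l3029)))
noncomputable def n395 : T := (.node (nat_lit 110314) (.node (nat_lit 107920) (.node (nat_lit 106704) (.node (nat_lit 106096) (.node (nat_lit 105792) n363 n364) (.node (nat_lit 106400) n365 n366)) (.node (nat_lit 107312) (.node (nat_lit 107008) n367 n368) (.node (nat_lit 107616) n369 n370))) (.node (nat_lit 109098) (.node (nat_lit 108490) (.node (nat_lit 108186) n371 n372) (.node (nat_lit 108794) n373 n374)) (.node (nat_lit 109706) (.node (nat_lit 109402) n375 n376) (.node (nat_lit 110010) n377 n378)))) (.node (nat_lit 112708) (.node (nat_lit 111492) (.node (nat_lit 110884) (.node (nat_lit 110580) n379 n380) (.node (nat_lit 111188) n381 n382)) (.node (nat_lit 112100) (.node (nat_lit 111796) n383 n384) (.node (nat_lit 112404) n385 n386))) (.node (nat_lit 113924)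 (.node (nat_lit 113316) (.node (nat_lit 113012) n387 n388) (.node (nat_lit 113620) n389 n390)) (.node (nat_lit 114532) (.node (nat_lit 114228) n391 n392) (.node (nat_lit 114836) n393 n394)))))
noncomputable def n396 : T := (.node (nat_lit 115254) (.node (nat_lit 115178) l3030 (.node (nat_lit 115216) l3031 l3032)) (.node (nat_lit 115330) (.node (nat_lit 115292) l3033 l3034) (.node (nat_lit 115368) l3035 l3036)))
noncomputable def n397 : T := (.node (nat_lit 115558) (.node (nat_lit 115482) (.node (nat_lit 115444) l3037 l3038) (.node (nat_lit 115520) l3039 l3040)) (.node (nat_lit 115634) (.node (nat_lit 115596) l3041 l3042) (.node (nat_lit 115672) l3043 l3044)))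
noncomputable def n398 : T := (.node (nat_lit 115862) (.node (nat_lit 115786) (.node (nat_lit 115748) l3045 l3046) (.node (nat_lit 115824) l3047 l3048)) (.node (nat_lit 115938) (.node (nat_lit 115900) l3049 l3050) (.node (nat_lit 115976) l3051 l3052)))
noncomputable def n399 : T := (.node (nat_lit 116166) (.node (nat_lit 116090) (.node (nat_lit 116052) l3053 l3054) (.node (nat_lit 116128) l3055 l3056)) (.node (nat_lit 116242) (.node (nat_lit 116204) l3057 l3058) (.node (nat_lit 116280) l3059 l3060)))
noncomputable def n400 : T := (.node (nat_lit 116470) (.node (nat_lit 116394) (.node (nat_lit 116356) l3061 l3062) (.node (nat_lit 116432) l3063 l3064)) (.node (nat_lit 116546) (.node (nat_lit 116508) l3065 l3066) (.node (nat_lit 116584) l3067 l3068)))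
noncomputable def n401 : T := (.node (nat_lit 116774) (.node (nat_lit 116698) (.node (nat_lit 116660) l3069 l3070) (.node (nat_lit 116736) l3071 l3072)) (.node (nat_lit 116850) (.node (nat_lit 116812) l3073 l3074) (.node (nat_lit 116888) l3075 l3076)))
noncomputable def n402 : T := (.node (nat_lit 117078) (.node (nat_lit 117002) (.node (nat_lit 116964) l3077 l3078) (.node (nat_lit 117040) l3079 l3080)) (.node (nat_lit 117154) (.node (nat_lit 117116) l3081 l3082) (.node (nat_lit 117192) l3083 l3084)))
noncomputable def n403 : T := (.node (nat_lit 117382) (.node (nat_lit 117306) (.node (nat_lit 117268) l3085 l3086) (.node (nat_lit 117344) l3087 l3088)) (.node (nat_lit 117458) (.node (nat_lit 117420) l3089 l3090) (.node (nat_lit 117496) l3091 l3092)))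
noncomputable def n404 : T := (.node (nat_lit 117648) (.node (nat_lit 117572) l3093 (.node (nat_lit 117610) l3094 l3095)) (.node (nat_lit 117724) (.node (nat_lit 117686) l3096 l3097) (.node (nat_lit 117762) l3098 l3099)))
noncomputable def n405 : T := (.node (nat_lit 117952) (.node (nat_lit 117876) (.node (nat_lit 117838) l3100 l3101) (.node (nat_lit 117914) l3102 l3103)) (.node (nat_lit 118028) (.node (nat_lit 117990) l3104 l3105) (.node (nat_lit 118066) l3106 l3107)))
noncomputable def n406 : T := (.node (nat_lit 118256) (.node (nat_lit 118180) (.node (nat_lit 118142) l3108 l3109) (.node (nat_lit 118218) l3110 l3111)) (.node (nat_lit 118332) (.node (nat_lit 118294) l3112 l3113) (.node (nat_lit 118370) l3114 l3115)))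
noncomputable def n407 : T := (.node (nat_lit 118560) (.node (nat_lit 118484) (.node (nat_lit 118446) l3116 l3117) (.node (nat_lit 118522) l3118 l3119)) (.node (nat_lit 118636) (.node (nat_lit 118598) l3120 l3121) (.node (nat_lit 118674) l3122 l3123)))
noncomputable def n408 : T := (.node (nat_lit 118864) (.node (nat_lit 118788) (.node (nat_lit 118750) l3124 l3125) (.node (nat_lit 118826) l3126 l3127)) (.node (nat_lit 118940) (.node (nat_lit 118902) l3128 l3129) (.node (nat_lit 118978) l3130 l3131)))
noncomputable def n409 : T := (.node (nat_lit 119168) (.node (nat_lit 119092) (.node (nat_lit 119054) l3132 l3133) (.node (nat_lit 119130) l3134 l3135)) (.node (nat_lit 119244) (.node (nat_lit 119206) l3136 l3137) (.node (nat_lit 119282) l3138 l3139)))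
noncomputable def n410 : T := (.node (nat_lit 119472) (.node (nat_lit 119396) (.node (nat_lit 119358) l3140 l3141) (.node (nat_lit 119434) l3142 l3143)) (.node (nat_lit 119548) (.node (nat_lit 119510) l3144 l3145) (.node (nat_lit 119586) l3146 l3147)))
noncomputable def n411 : T := (.node (nat_lit 119776) (.node (nat_lit 119700) (.node (nat_lit 119662) l3148 l3149) (.node (nat_lit 119738) l3150 l3151)) (.node (nat_lit 119852) (.node (nat_lit 119814) l3152 l3153) (.node (nat_lit 119890) l3154 l3155)))
noncomputable def n412 : T := (.node (nat_lit 120042) (.node (nat_lit 119966) l3156 (.node (nat_lit 120004) l3157 l3158)) (.node (nat_lit 120118) (.node (nat_lit 120080) l3159 l3160) (.node (nat_lit 120156) l3161 l3162)))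
noncomputable def n413 : T := (.node (nat_lit 120346) (.node (nat_lit 120270) (.node (nat_lit 120232) l3163 l3164) (.node (nat_lit 120308) l3165 l3166)) (.node (nat_lit 120422) (.node (nat_lit 120384) l3167 l3168) (.node (nat_lit 120460) l3169 l3170)))
noncomputable def n414 : T := (.node (nat_lit 120650) (.node (nat_lit 120574) (.node (nat_lit 120536) l3171 l3172) (.node (nat_lit 120612) l3173 l3174)) (.node (nat_lit 120726) (.node (nat_lit 120688) l3175 l3176) (.node (nat_lit 120764) l3177 l3178)))
noncomputable def n415 : T := (.node (nat_lit 120954) (.node (nat_lit 120878) (.node (nat_lit 120840) l3179 l3180) (.node (nat_lit 120916) l3181 l3182)) (.node (nat_lit 121030) (.node (nat_lit 120992) l3183 l3184) (.node (nat_lit 121068) l3185 l3186)))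
noncomputable def n416 : T := (.node (nat_lit 121258) (.node (nat_lit 121182) (.node (nat_lit 121144) l3187 l3188) (.node (nat_lit 121220) l3189 l3190)) (.node (nat_lit 121334) (.node (nat_lit 121296) l3191 l3192) (.node (nat_lit 121372) l3193 l3194)))
noncomputable def n417 : T := (.node (nat_lit 121562) (.node (nat_lit 121486) (.node (nat_lit 121448) l3195 l3196) (.node (nat_lit 121524) l3197 l3198)) (.node (nat_lit 121638) (.node (nat_lit 121600) l3199 l3200) (.node (nat_lit 121676) l3201 l3202)))
noncomputable def n418 : T := (.node (nat_lit 121866) (.node (nat_lit 121790) (.node (nat_lit 121752) l3203 l3204) (.node (nat_lit 121828) l3205 l3206)) (.node (nat_lit 121942) (.node (nat_lit 121904) l3207 l3208) (.node (nat_lit 121980) l3209 l3210)))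
noncomputable def n419 : T := (.node (nat_lit 122170) (.node (nat_lit 122094) (.node (nat_lit 122056) l3211 l3212) (.node (nat_lit 122132) l3213 l3214)) (.node (nat_lit 122246) (.node (nat_lit 122208) l3215 l3216) (.node (nat_lit 122284) l3217 l3218)))
noncomputable def n420 : T := (.node (nat_lit 122436) (.node (nat_lit 122360) l3219 (.node (nat_lit 122398) l3220 l3221)) (.node (nat_lit 122512) (.node (nat_lit 122474) l3222 l3223) (.node (nat_lit 122550) l3224 l3225)))
noncomputable def n421 : T := (.node (nat_lit 122740) (.node (nat_lit 122664) (.node (nat_lit 122626) l3226 l3227) (.node (nat_lit 122702) l3228 l3229)) (.node (nat_lit 122816) (.node (nat_lit 122778) l3230 l3231) (.node (nat_lit 122854) l3232 l3233)))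
noncomputable def n422 : T := (.node (nat_lit 123044) (.node (nat_lit 122968) (.node (nat_lit 122930) l3234 l3235) (.node (nat_lit 123006) l3236 l3237)) (.node (nat_lit 123120) (.node (nat_lit 123082) l3238 l3239) (.node (nat_lit 123158) l3240 l3241)))
noncomputable def n423 : T := (.node (nat_lit 123348) (.node (nat_lit 123272) (.node (nat_lit 123234) l3242 l3243) (.node (nat_lit 123310) l3244 l3245)) (.node (nat_lit 123424) (.node (nat_lit 123386) l3246 l3247) (.node (nat_lit 123462) l3248 l3249)))
noncomputable def n424 : T := (.node (nat_lit 123652) (.node (nat_lit 123576) (.node (nat_lit 123538) l3250 l3251) (.node (nat_lit 123614) l3252 l3253)) (.node (nat_lit 123728) (.node (nat_lit 123690) l3254 l3255) (.node (nat_lit 123766) l3256 l3257)))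
noncomputable def n425 : T := (.node (nat_lit 123956) (.node (nat_lit 123880) (.node (nat_lit 123842) l3258 l3259) (.node (nat_lit 123918) l3260 l3261)) (.node (nat_lit 124032) (.node (nat_lit 123994) l3262 l3263) (.node (nat_lit 124070) l3264 l3265)))
noncomputable def n426 : T := (.node (nat_lit 124260) (.node (nat_lit 124184) (.node (nat_lit 124146) l3266 l3267) (.node (nat_lit 124222) l3268 l3269)) (.node (nat_lit 124336) (.node (nat_lit 124298) l3270 l3271) (.node (nat_lit 124374) l3272 l3273)))
noncomputable def n427 : T := (.node (nat_lit 124564) (.node (nat_lit 124488) (.node (nat_lit 124450) l3274 l3275) (.node (nat_lit 124526) l3276 l3277)) (.node (nat_lit 124640) (.node (nat_lit 124602) l3278 l3279) (.node (nat_lit 124678) l3280 l3281)))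
noncomputable def n428 : T := (.node (nat_lit 119928) (.node (nat_lit 117534) (.node (nat_lit 116318) (.node (nat_lit 115710) (.node (nat_lit 115406) n396 n397) (.node (nat_lit 116014) n398 n399)) (.node (nat_lit 116926) (.node (nat_lit 116622) n400 n401) (.node (nat_lit 117230) n402 n403))) (.node (nat_lit 118712) (.node (nat_lit 118104) (.node (nat_lit 117800) n404 n405) (.node (nat_lit 118408) n406 n407)) (.node (nat_lit 119320) (.node (nat_lit 119016) n408 n409) (.node (nat_lit 119624) n410 n411)))) (.node (nat_lit 122322) (.node (nat_lit 121106) (.node (nat_lit 120498) (.node (nat_lit 120194) n412 n413) (.node (nat_lit 120802) n414 n415)) (.node (nat_lit 121714) (.node (nat_lit 121410) n416 n417) (.node (nat_lit 122018) n418 n419))) (.node (nat_lit 123500) (.node (nat_lit 122892) (.node (nat_lit 122588) n420 n421) (.node (nat_lit 123196) n422 n423)) (.node (nat_lit 124108) (.node (nat_lit 123804) n424 n425) (.node (nat_lit 124412) n426 n427)))))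
noncomputable def n429 : T := (.node (nat_lit 124830) (.node (nat_lit 124754) l3282 (.node (nat_lit 124792) l3283 l3284)) (.node (nat_lit 124906) (.node (nat_lit 124868) l3285 l3286) (.node (nat_lit 124944) l3287 l3288)))
noncomputable def n430 : T := (.node (nat_lit 125134) (.node (nat_lit 125058) (.node (nat_lit 125020) l3289 l3290) (.node (nat_lit 125096) l3291 l3292)) (.node (nat_lit 125210) (.node (nat_lit 125172) l3293 l3294) (.node (nat_lit 125248) l3295 l3296)))
noncomputable def n431 : T := (.node (nat_lit 125438) (.node (nat_lit 125362) (.node (nat_lit 125324) l3297 l3298) (.node (nat_lit 125400) l3299 l3300)) (.node (nat_lit 125514) (.node (nat_lit 125476) l3301 l3302) (.node (nat_lit 125552) l3303 l3304)))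
noncomputable def n432 : T := (.node (nat_lit 125742) (.node (nat_lit 125666) (.node (nat_lit 125628) l3305 l3306) (.node (nat_lit 125704) l3307 l3308)) (.node (nat_lit 125818) (.node (nat_lit 125780) l3309 l3310) (.node (nat_lit 125856) l3311 l3312)))
noncomputable def n433 : T := (.node (nat_lit 126046) (.node (nat_lit 125970) (.node (nat_lit 125932) l3313 l3314) (.node (nat_lit 126008) l3315 l3316)) (.node (nat_lit 126122) (.node (nat_lit 126084) l3317 l3318) (.node (nat_lit 126160) l3319 l3320)))
noncomputable def n434 : T := (.node (nat_lit 126350) (.node (nat_lit 126274) (.node (nat_lit 126236) l3321 l3322) (.node (nat_lit 126312) l3323 l3324)) (.node (nat_lit 126426) (.node (nat_lit 126388) l3325 l3326) (.node (nat_lit 126464) l3327 l3328)))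
noncomputable def n435 : T := (.node (nat_lit 126654) (.node (nat_lit 126578) (.node (nat_lit 126540) l3329 l3330) (.node (nat_lit 126616) l3331 l3332)) (.node (nat_lit 126730) (.node (nat_lit 126692) l3333 l3334) (.node (nat_lit 126768) l3335 l3336)))
noncomputable def n436 : T := (.node (nat_lit 126958) (.node (nat_lit 126882) (.node (nat_lit 126844) l3337 l3338) (.node (nat_lit 126920) l3339 l3340)) (.node (nat_lit 127034) (.node (nat_lit 126996) l3341 l3342) (.node (nat_lit 127072) l3343 l3344)))
noncomputable def n437 : T := (.node (nat_lit 127224) (.node (nat_lit 127148) l3345 (.node (nat_lit 127186) l3346 l3347)) (.node (nat_lit 127300) (.node (nat_lit 127262) l3348 l3349) (.node (nat_lit 127338) l3350 l3351)))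
noncomputable def n438 : T := (.node (nat_lit 127528) (.node (nat_lit 127452) (.node (nat_lit 127414) l3352 l3353) (.node (nat_lit 127490) l3354 l3355)) (.node (nat_lit 127604) (.node (nat_lit 127566) l3356 l3357) (.node (nat_lit 127642) l3358 l3359)))
noncomputable def n439 : T := (.node (nat_lit 127832) (.node (nat_lit 127756) (.node (nat_lit 127718) l3360 l3361) (.node (nat_lit 127794) l3362 l3363)) (.node (nat_lit 127908) (.node (nat_lit 127870) l3364 l3365) (.node (nat_lit 127946) l3366 l3367)))
noncomputable def n440 : T := (.node (nat_lit 128136) (.node (nat_lit 128060) (.node (nat_lit 128022) l3368 l3369) (.node (nat_lit 128098) l3370 l3371)) (.node (nat_lit 128212) (.node (nat_lit 128174) l3372 l3373) (.node (nat_lit 128250) l3374 l3375)))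
noncomputable def n441 : T := (.node (nat_lit 128440) (.node (nat_lit 128364) (.node (nat_lit 128326) l3376 l3377) (.node (nat_lit 128402) l3378 l3379)) (.node (nat_lit 128516) (.node (nat_lit 128478) l3380 l3381) (.node (nat_lit 128554) l3382 l3383)))
noncomputable def n442 : T := (.node (nat_lit 128744) (.node (nat_lit 128668) (.node (nat_lit 128630) l3384 l3385) (.node (nat_lit 128706) l3386 l3387)) (.node (nat_lit 128820) (.node (nat_lit 128782) l3388 l3389) (.node (nat_lit 128858) l3390 l3391)))
noncomputable def n443 : T := (.node (nat_lit 129048) (.node (nat_lit 128972) (.node (nat_lit 128934) l3392 l3393) (.node (nat_lit 129010) l3394 l3395)) (.node (nat_lit 129124) (.node (nat_lit 129086) l3396 l3397) (.node (nat_lit 129162) l3398 l3399)))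
noncomputable def n444 : T := (.node (nat_lit 129352) (.node (nat_lit 129276) (.node (nat_lit 129238) l3400 l3401) (.node (nat_lit 129314) l3402 l3403)) (.node (nat_lit 129428) (.node (nat_lit 129390) l3404 l3405) (.node (nat_lit 129466) l3406 l3407)))
noncomputable def n445 : T := (.node (nat_lit 129618) (.node (nat_lit 129542) l3408 (.node (nat_lit 129580) l3409 l3410)) (.node (nat_lit 129694) (.node (nat_lit 129656) l3411 l3412) (.node (nat_lit 129732) l3413 l3414)))
noncomputable def n446 : T := (.node (nat_lit 129922) (.node (nat_lit 129846) (.node (nat_lit 129808) l3415 l3416) (.node (nat_lit 129884) l3417 l3418)) (.node (nat_lit 129998) (.node (nat_lit 129960) l3419 l3420) (.node (nat_lit 130036) l3421 l3422)))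
noncomputable def n447 : T := (.node (nat_lit 130226) (.node (nat_lit 130150) (.node (nat_lit 130112) l3423 l3424) (.node (nat_lit 130188) l3425 l3426)) (.node (nat_lit 130302) (.node (nat_lit 130264) l3427 l3428) (.node (nat_lit 130340) l3429 l3430)))
noncomputable def n448 : T := (.node (nat_lit 130530) (.node (nat_lit 130454) (.node (nat_lit 130416) l3431 l3432) (.node (nat_lit 130492) l3433 l3434)) (.node (nat_lit 130606) (.node (nat_lit 130568) l3435 l3436) (.node (nat_lit 130644) l3437 l3438)))
noncomputable def n449 : T := (.node (nat_lit 130834) (.node (nat_lit 130758) (.node (nat_lit 130720) l3439 l3440) (.node (nat_lit 130796) l3441 l3442)) (.node (nat_lit 130910) (.node (nat_lit 130872) l3443 l3444) (.node (nat_lit 130948) l3445 l3446)))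
noncomputable def n450 : T := (.node (nat_lit 131138) (.node (nat_lit 131062) (.node (nat_lit 131024) l3447 l3448) (.node (nat_lit 131100) l3449 l3450)) (.node (nat_lit 131214) (.node (nat_lit 131176) l3451 l3452) (.node (nat_lit 131252) l3453 l3454)))
noncomputable def n451 : T := (.node (nat_lit 131442) (.node (nat_lit 131366) (.node (nat_lit 131328) l3455 l3456) (.node (nat_lit 131404) l3457 l3458)) (.node (nat_lit 131518) (.node (nat_lit 131480) l3459 l3460) (.node (nat_lit 131556) l3461 l3462)))
noncomputable def n452 : T := (.node (nat_lit 131746) (.node (nat_lit 131670) (.node (nat_lit 131632) l3463 l3464) (.node (nat_lit 131708) l3465 l3466)) (.node (nat_lit 131822) (.node (nat_lit 131784) l3467 l3468) (.node (nat_lit 131860) l3469 l3470)))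
noncomputable def n453 : T := (.node (nat_lit 132050) (.node (nat_lit 131974) (.node (nat_lit 131936) l3471 l3472) (.node (nat_lit 132012) l3473 l3474)) (.node (nat_lit 132126) (.node (nat_lit 132088) l3475 l3476) (.node (nat_lit 132164) l3477 l3478)))
noncomputable def n454 : T := (.node (nat_lit 132354) (.node (nat_lit 132278) (.node (nat_lit 132240) l3479 l3480) (.node (nat_lit 132316) l3481 l3482)) (.node (nat_lit 132430) (.node (nat_lit 132392) l3483 l3484) (.node (nat_lit 132468) l3485 l3486)))
noncomputable def n455 : T := (.node (nat_lit 132658) (.node (nat_lit 132582) (.node (nat_lit 132544) l3487 l3488) (.node (nat_lit 132620) l3489 l3490)) (.node (nat_lit 132734) (.node (nat_lit 132696) l3491 l3492) (.node (nat_lit 132772) l3493 l3494)))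
noncomputable def n456 : T := (.node (nat_lit 132962) (.node (nat_lit 132886) (.node (nat_lit 132848) l3495 l3496) (.node (nat_lit 132924) l3497 l3498)) (.node (nat_lit 133038) (.node (nat_lit 133000) l3499 l3500) (.node (nat_lit 133076) l3501 l3502)))
noncomputable def n457 : T := (.node (nat_lit 133266) (.node (nat_lit 133190) (.node (nat_lit 133152) l3503 l3504) (.node (nat_lit 133228) l3505 l3506)) (.node (nat_lit 133342) (.node (nat_lit 133304) l3507 l3508) (.node (nat_lit 133380) l3509 l3510)))
noncomputable def n458 : T := (.node (nat_lit 133570) (.node (nat_lit 133494) (.node (nat_lit 133456) l3511 l3512) (.node (nat_lit 133532) l3513 l3514)) (.node (nat_lit 133646) (.node (nat_lit 133608) l3515 l3516) (.node (nat_lit 133684) l3517 l3518)))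
noncomputable def n459 : T := (.node (nat_lit 133874) (.node (nat_lit 133798) (.node (nat_lit 133760) l3519 l3520) (.node (nat_lit 133836) l3521 l3522)) (.node (nat_lit 133950) (.node (nat_lit 133912) l3523 l3524) (.node (nat_lit 133988) l3525 l3526)))
noncomputable def n460 : T := (.node (nat_lit 134178) (.node (nat_lit 134102) (.node (nat_lit 134064) l3527 l3528) (.node (nat_lit 134140) l3529 l3530)) (.node (nat_lit 134254) (.node (nat_lit 134216) l3531 l3532) (.node (nat_lit 134292) l3533 l3534)))
noncomputable def n461 : T := (.node (nat_lit 129504) (.node (nat_lit 127110) (.node (nat_lit 125894) (.node (nat_lit 125286) (.node (nat_lit 124982) n429 n430) (.node (nat_lit 125590) n431 n432)) (.node (nat_lit 126502) (.node (nat_lit 126198) n433 n434) (.node (nat_lit 126806) n435 n436))) (.node (nat_lit 128288) (.node (nat_lit 127680) (.node (nat_lit 127376) n437 n438) (.node (nat_lit 127984) n439 n440)) (.node (nat_lit 128896) (.node (nat_lit 128592) n441 n442) (.node (nat_lit 129200) n443 n444)))) (.node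 (nat_lit 131898) (.node (nat_lit 130682) (.node (nat_lit 130074) (.node (nat_lit 129770) n445 n446) (.node (nat_lit 130378) n447 n448)) (.node (nat_lit 131290) (.node (nat_lit 130986) n449 n450) (.node (nat_lit 131594) n451 n452))) (.node (nat_lit 133114) (.node (nat_lit 132506) (.node (nat_lit 132202) n453 n454) (.node (nat_lit 132810) n455 n456)) (.node (nat_lit 133722) (.node (nat_lit 133418) n457 n458) (.node (nat_lit 134026) n459 n460)))))
noncomputable def n462 : T := (.node (nat_lit 134444) (.node (nat_lit 134368) l3535 (.node (nat_lit 134406) l3536 l3537)) (.node (nat_lit 134520) (.node (nat_lit 134482) l3538 l3539) (.node (nat_lit 134558) l3540 l3541)))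
noncomputable def n463 : T := (.node (nat_lit 134748) (.node (nat_lit 134672) (.node (nat_lit 134634) l3542 l3543) (.node (nat_lit 134710) l3544 l3545)) (.node (nat_lit 134824) (.node (nat_lit 134786) l3546 l3547) (.node (nat_lit 134862) l3548 l3549)))
noncomputable def n464 : T := (.node (nat_lit 135052) (.node (nat_lit 134976) (.node (nat_lit 134938) l3550 l3551) (.node (nat_lit 135014) l3552 l3553)) (.node (nat_lit 135128) (.node (nat_lit 135090) l3554 l3555) (.node (nat_lit 135166) l3556 l3557)))
noncomputable def n465 : T := (.node (nat_lit 135356) (.node (nat_lit 135280) (.node (nat_lit 135242) l3558 l3559) (.node (nat_lit 135318) l3560 l3561)) (.node (nat_lit 135432) (.node (nat_lit 135394) l3562 l3563) (.node (nat_lit 135470) l3564 l3565)))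
noncomputable def n466 : T := (.node (nat_lit 135660) (.node (nat_lit 135584) (.node (nat_lit 135546) l3566 l3567) (.node (nat_lit 135622) l3568 l3569)) (.node (nat_lit 135736) (.node (nat_lit 135698) l3570 l3571) (.node (nat_lit 135774) l3572 l3573)))
noncomputable def n467 : T := (.node (nat_lit 135964) (.node (nat_lit 135888) (.node (nat_lit 135850) l3574 l3575) (.node (nat_lit 135926) l3576 l3577)) (.node (nat_lit 136040) (.node (nat_lit 136002) l3578 l3579) (.node (nat_lit 136078) l3580 l3581)))
noncomputable def n468 : T := (.node (nat_lit 136268) (.node (nat_lit 136192) (.node (nat_lit 136154) l3582 l3583) (.node (nat_lit 136230) l3584 l3585)) (.node (nat_lit 136344) (.node (nat_lit 136306) l3586 l3587) (.node (nat_lit 136382) l3588 l3589)))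
noncomputable def n469 : T := (.node (nat_lit 136572) (.node (nat_lit 136496) (.node (nat_lit 136458) l3590 l3591) (.node (nat_lit 136534) l3592 l3593)) (.node (nat_lit 136648) (.node (nat_lit 136610) l3594 l3595) (.node (nat_lit 136686) l3596 l3597)))
noncomputable def n470 : T := (.node (nat_lit 136838) (.node (nat_lit 136762) l3598 (.node (nat_lit 136800) l3599 l3600)) (.node (nat_lit 136914) (.node (nat_lit 136876) l3601 l3602) (.node (nat_lit 136952) l3603 l3604)))
noncomputable def n471 : T := (.node (nat_lit 137142) (.node (nat_lit 137066) (.node (nat_lit 137028) l3605 l3606) (.node (nat_lit 137104) l3607 l3608)) (.node (nat_lit 137218) (.node (nat_lit 137180) l3609 l3610) (.node (nat_lit 137256) l3611 l3612)))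
noncomputable def n472 : T := (.node (nat_lit 137446) (.node (nat_lit 137370) (.node (nat_lit 137332) l3613 l3614) (.node (nat_lit 137408) l3615 l3616)) (.node (nat_lit 137522) (.node (nat_lit 137484) l3617 l3618) (.node (nat_lit 137560) l3619 l3620)))
noncomputable def n473 : T := (.node (nat_lit 137750) (.node (nat_lit 137674) (.node (nat_lit 137636) l3621 l3622) (.node (nat_lit 137712) l3623 l3624)) (.node (nat_lit 137826) (.node (nat_lit 137788) l3625 l3626) (.node (nat_lit 137864) l3627 l3628)))
noncomputable def n474 : T := (.node (nat_lit 138054) (.node (nat_lit 137978) (.node (nat_lit 137940) l3629 l3630) (.node (nat_lit 138016) l3631 l3632)) (.node (nat_lit 138130) (.node (nat_lit 138092) l3633 l3634) (.node (nat_lit 138168) l3635 l3636)))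
noncomputable def n475 : T := (.node (nat_lit 138358) (.node (nat_lit 138282) (.node (nat_lit 138244) l3637 l3638) (.node (nat_lit 138320) l3639 l3640)) (.node (nat_lit 138434) (.node (nat_lit 138396) l3641 l3642) (.node (nat_lit 138472) l3643 l3644)))
noncomputable def n476 : T := (.node (nat_lit 138662) (.node (nat_lit 138586) (.node (nat_lit 138548) l3645 l3646) (.node (nat_lit 138624) l3647 l3648)) (.node (nat_lit 138738) (.node (nat_lit 138700) l3649 l3650) (.node (nat_lit 138776) l3651 l3652)))
noncomputable def n477 : T := (.node (nat_lit 138966) (.node (nat_lit 138890) (.node (nat_lit 138852) l3653 l3654) (.node (nat_lit 138928) l3655 l3656)) (.node (nat_lit 139042) (.node (nat_lit 139004) l3657 l3658) (.node (nat_lit 139080) l3659 l3660)))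
noncomputable def n478 : T := (.node (nat_lit 139232) (.node (nat_lit 139156) l3661 (.node (nat_lit 139194) l3662 l3663)) (.node (nat_lit 139308) (.node (nat_lit 139270) l3664 l3665) (.node (nat_lit 139346) l3666 l3667)))
noncomputable def n479 : T := (.node (nat_lit 139536) (.node (nat_lit 139460) (.node (nat_lit 139422) l3668 l3669) (.node (nat_lit 139498) l3670 l3671)) (.node (nat_lit 139612) (.node (nat_lit 139574) l3672 l3673) (.node (nat_lit 139650) l3674 l3675)))
noncomputable def n480 : T := (.node (nat_lit 139840) (.node (nat_lit 139764) (.node (nat_lit 139726) l3676 l3677) (.node (nat_lit 139802) l3678 l3679)) (.node (nat_lit 139916) (.node (nat_lit 139878) l3680 l3681) (.node (nat_lit 139954) l3682 l3683)))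
noncomputable def n481 : T := (.node (nat_lit 140144) (.node (nat_lit 140068) (.node (nat_lit 140030) l3684 l3685) (.node (nat_lit 140106) l3686 l3687)) (.node (nat_lit 140220) (.node (nat_lit 140182) l3688 l3689) (.node (nat_lit 140258) l3690 l3691)))
noncomputable def n482 : T := (.node (nat_lit 140448) (.node (nat_lit 140372) (.node (nat_lit 140334) l3692 l3693) (.node (nat_lit 140410) l3694 l3695)) (.node (nat_lit 140524) (.node (nat_lit 140486) l3696 l3697) (.node (nat_lit 140562) l3698 l3699)))
noncomputable def n483 : T := (.node (nat_lit 140752) (.node (nat_lit 140676) (.node (nat_lit 140638) l3700 l3701) (.node (nat_lit 140714) l3702 l3703)) (.node (nat_lit 140828) (.node (nat_lit 140790) l3704 l3705) (.node (nat_lit 140866) l3706 l3707)))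
noncomputable def n484 : T := (.node (nat_lit 141056) (.node (nat_lit 140980) (.node (nat_lit 140942) l3708 l3709) (.node (nat_lit 141018) l3710 l3711)) (.node (nat_lit 141132) (.node (nat_lit 141094) l3712 l3713) (.node (nat_lit 141170) l3714 l3715)))
noncomputable def n485 : T := (.node (nat_lit 141360) (.node (nat_lit 141284) (.node (nat_lit 141246) l3716 l3717) (.node (nat_lit 141322) l3718 l3719)) (.node (nat_lit 141436) (.node (nat_lit 141398) l3720 l3721) (.node (nat_lit 141474) l3722 l3723)))
noncomputable def n486 : T := (.node (nat_lit 141664) (.node (nat_lit 141588) (.node (nat_lit 141550) l3724 l3725) (.node (nat_lit 141626) l3726 l3727)) (.node (nat_lit 141740) (.node (nat_lit 141702) l3728 l3729) (.node (nat_lit 141778) l3730 l3731)))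
noncomputable def n487 : T := (.node (nat_lit 141968) (.node (nat_lit 141892) (.node (nat_lit 141854) l3732 l3733) (.node (nat_lit 141930) l3734 l3735)) (.node (nat_lit 142044) (.node (nat_lit 142006) l3736 l3737) (.node (nat_lit 142082) l3738 l3739)))
noncomputable def n488 : T := (.node (nat_lit 142272) (.node (nat_lit 142196) (.node (nat_lit 142158) l3740 l3741) (.node (nat_lit 142234) l3742 l3743)) (.node (nat_lit 142348) (.node (nat_lit 142310) l3744 l3745) (.node (nat_lit 142386) l3746 l3747)))
noncomputable def n489 : T := (.node (nat_lit 142576) (.node (nat_lit 142500) (.node (nat_lit 142462) l3748 l3749) (.node (nat_lit 142538) l3750 l3751)) (.node (nat_lit 142652) (.node (nat_lit 142614) l3752 l3753) (.node (nat_lit 142690) l3754 l3755)))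
noncomputable def n490 : T := (.node (nat_lit 142880) (.node (nat_lit 142804) (.node (nat_lit 142766) l3756 l3757) (.node (nat_lit 142842) l3758 l3759)) (.node (nat_lit 142956) (.node (nat_lit 142918) l3760 l3761) (.node (nat_lit 142994) l3762 l3763)))
noncomputable def n491 : T := (.node (nat_lit 143184) (.node (nat_lit 143108) (.node (nat_lit 143070) l3764 l3765) (.node (nat_lit 143146) l3766 l3767)) (.node (nat_lit 143260) (.node (nat_lit 143222) l3768 l3769) (.node (nat_lit 143298) l3770 l3771)))
noncomputable def n492 : T := (.node (nat_lit 143488) (.node (nat_lit 143412) (.node (nat_lit 143374) l3772 l3773) (.node (nat_lit 143450) l3774 l3775)) (.node (nat_lit 143564) (.node (nat_lit 143526) l3776 l3777) (.node (nat_lit 143602) l3778 l3779)))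
noncomputable def n493 : T := (.node (nat_lit 143792) (.node (nat_lit 143716) (.node (nat_lit 143678) l3780 l3781) (.node (nat_lit 143754) l3782 l3783)) (.node (nat_lit 143868) (.node (nat_lit 143830) l3784 l3785) (.node (nat_lit 143906) l3786 l3787)))
noncomputable def n494 : T := (.node (nat_lit 139118) (.node (nat_lit 136724) (.node (nat_lit 135508) (.node (nat_lit 134900) (.node (nat_lit 134596) n462 n463) (.node (nat_lit 135204) n464 n465)) (.node (nat_lit 136116) (.node (nat_lit 135812) n466 n467) (.node (nat_lit 136420) n468 n469))) (.node (nat_lit 137902) (.node (nat_lit 137294) (.node (nat_lit 136990) n470 n471) (.node (nat_lit 137598) n472 n473)) (.node (nat_lit 138510) (.node (nat_lit 138206) n474 n475) (.node (nat_lit 138814) n476 n477)))) (.node (nat_lit 141512) (.node (nat_lit 140296) (.node (nat_lit 139688) (.node (nat_lit 139384) n478 n479) (.node (nat_lit 139992) n480 n481)) (.node (nat_lit 140904) (.node (nat_lit 140600) n482 n483) (.node (nat_lit 141208) n484 n485))) (.node (nat_lit 142728)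 (.node (nat_lit 142120) (.node (nat_lit 141816) n486 n487) (.node (nat_lit 142424) n488 n489)) (.node (nat_lit 143336) (.node (nat_lit 143032) n490 n491) (.node (nat_lit 143640) n492 n493)))))
noncomputable def n495 : T := (.node (nat_lit 144058) (.node (nat_lit 143982) l3788 (.node (nat_lit 144020) l3789 l3790)) (.node (nat_lit 144134) (.node (nat_lit 144096) l3791 l3792) (.node (nat_lit 144172) l3793 l3794)))
noncomputable def n496 : T := (.node (nat_lit 144362) (.node (nat_lit 144286) (.node (nat_lit 144248) l3795 l3796) (.node (nat_lit 144324) l3797 l3798)) (.node (nat_lit 144438) (.node (nat_lit 144400) l3799 l3800) (.node (nat_lit 144476) l3801 l3802)))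
noncomputable def n497 : T := (.node (nat_lit 144666) (.node (nat_lit 144590) (.node (nat_lit 144552) l3803 l3804) (.node (nat_lit 144628) l3805 l3806)) (.node (nat_lit 144742) (.node (nat_lit 144704) l3807 l3808) (.node (nat_lit 144780) l3809 l3810)))
noncomputable def n498 : T := (.node (nat_lit 144970) (.node (nat_lit 144894) (.node (nat_lit 144856) l3811 l3812) (.node (nat_lit 144932) l3813 l3814)) (.node (nat_lit 145046) (.node (nat_lit 145008) l3815 l3816) (.node (nat_lit 145084) l3817 l3818)))
noncomputable def n499 : T := (.node (nat_lit 145274) (.node (nat_lit 145198) (.node (nat_lit 145160) l3819 l3820) (.node (nat_lit 145236) l3821 l3822)) (.node (nat_lit 145350) (.node (nat_lit 145312) l3823 l3824) (.node (nat_lit 145388) l3825 l3826)))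
noncomputable def n500 : T := (.node (nat_lit 145578) (.node (nat_lit 145502) (.node (nat_lit 145464) l3827 l3828) (.node (nat_lit 145540) l3829 l3830)) (.node (nat_lit 145654) (.node (nat_lit 145616) l3831 l3832) (.node (nat_lit 145692) l3833 l3834)))
noncomputable def n501 : T := (.node (nat_lit 145882) (.node (nat_lit 145806) (.node (nat_lit 145768) l3835 l3836) (.node (nat_lit 145844) l3837 l3838)) (.node (nat_lit 145958) (.node (nat_lit 145920) l3839 l3840) (.node (nat_lit 145996) l3841 l3842)))
noncomputable def n502 : T := (.node (nat_lit 146186) (.node (nat_lit 146110) (.node (nat_lit 146072) l3843 l3844) (.node (nat_lit 146148) l3845 l3846)) (.node (nat_lit 146262) (.node (nat_lit 146224) l3847 l3848) (.node (nat_lit 146300) l3849 l3850)))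
noncomputable def n503 : T := (.node (nat_lit 146452) (.node (nat_lit 146376) l3851 (.node (nat_lit 146414) l3852 l3853)) (.node (nat_lit 146528) (.node (nat_lit 146490) l3854 l3855) (.node (nat_lit 146566) l3856 l3857)))
noncomputable def n504 : T := (.node (nat_lit 146756) (.node (nat_lit 146680) (.node (nat_lit 146642) l3858 l3859) (.node (nat_lit 146718) l3860 l3861)) (.node (nat_lit 146832) (.node (nat_lit 146794) l3862 l3863) (.node (nat_lit 146870) l3864 l3865)))
noncomputable def n505 : T := (.node (nat_lit 147060) (.node (nat_lit 146984) (.node (nat_lit 146946) l3866 l3867) (.node (nat_lit 147022) l3868 l3869)) (.node (nat_lit 147136) (.node (nat_lit 147098) l3870 l3871) (.node (nat_lit 147174) l3872 l3873)))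
noncomputable def n506 : T := (.node (nat_lit 147364) (.node (nat_lit 147288) (.node (nat_lit 147250) l3874 l3875) (.node (nat_lit 147326) l3876 l3877)) (.node (nat_lit 147440) (.node (nat_lit 147402) l3878 l3879) (.node (nat_lit 147478) l3880 l3881)))
noncomputable def n507 : T := (.node (nat_lit 147668) (.node (nat_lit 147592) (.node (nat_lit 147554) l3882 l3883) (.node (nat_lit 147630) l3884 l3885)) (.node (nat_lit 147744) (.node (nat_lit 147706) l3886 l3887) (.node (nat_lit 147782) l3888 l3889)))
noncomputable def n508 : T := (.node (nat_lit 147972) (.node (nat_lit 147896) (.node (nat_lit 147858) l3890 l3891) (.node (nat_lit 147934) l3892 l3893)) (.node (nat_lit 148048) (.node (nat_lit 148010) l3894 l3895) (.node (nat_lit 148086) l3896 l3897)))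
noncomputable def n509 : T := (.node (nat_lit 148276) (.node (nat_lit 148200) (.node (nat_lit 148162) l3898 l3899) (.node (nat_lit 148238) l3900 l3901)) (.node (nat_lit 148352) (.node (nat_lit 148314) l3902 l3903) (.node (nat_lit 148390) l3904 l3905)))
noncomputable def n510 : T := (.node (nat_lit 148580) (.node (nat_lit 148504) (.node (nat_lit 148466) l3906 l3907) (.node (nat_lit 148542) l3908 l3909)) (.node (nat_lit 148656) (.node (nat_lit 148618) l3910 l3911) (.node (nat_lit 148694) l3912 l3913)))
noncomputable def n511 : T := (.node (nat_lit 148846) (.node (nat_lit 148770) l3914 (.node (nat_lit 148808) l3915 l3916)) (.node (nat_lit 148922) (.node (nat_lit 148884) l3917 l3918) (.node (nat_lit 148960) l3919 l3920)))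
noncomputable def n512 : T := (.node (nat_lit 149150) (.node (nat_lit 149074) (.node (nat_lit 149036) l3921 l3922) (.node (nat_lit 149112) l3923 l3924)) (.node (nat_lit 149226) (.node (nat_lit 149188) l3925 l3926) (.node (nat_lit 149264) l3927 l3928)))
noncomputable def n513 : T := (.node (nat_lit 149454) (.node (nat_lit 149378) (.node (nat_lit 149340) l3929 l3930) (.node (nat_lit 149416) l3931 l3932)) (.node (nat_lit 149530) (.node (nat_lit 149492) l3933 l3934) (.node (nat_lit 149568) l3935 l3936)))
noncomputable def n514 : T := (.node (nat_lit 149758) (.node (nat_lit 149682) (.node (nat_lit 149644) l3937 l3938) (.node (nat_lit 149720) l3939 l3940)) (.node (nat_lit 149834) (.node (nat_lit 149796) l3941 l3942) (.node (nat_lit 149872) l3943 l3944)))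
noncomputable def n515 : T := (.node (nat_lit 150062) (.node (nat_lit 149986) (.node (nat_lit 149948) l3945 l3946) (.node (nat_lit 150024) l3947 l3948)) (.node (nat_lit 150138) (.node (nat_lit 150100) l3949 l3950) (.node (nat_lit 150176) l3951 l3952)))
noncomputable def n516 : T := (.node (nat_lit 150366) (.node (nat_lit 150290) (.node (nat_lit 150252) l3953 l3954) (.node (nat_lit 150328) l3955 l3956)) (.node (nat_lit 150442) (.node (nat_lit 150404) l3957 l3958) (.node (nat_lit 150480) l3959 l3960)))
noncomputable def n517 : T := (.node (nat_lit 150670) (.node (nat_lit 150594) (.node (nat_lit 150556) l3961 l3962) (.node (nat_lit 150632) l3963 l3964)) (.node (nat_lit 150746) (.node (nat_lit 150708) l3965 l3966) (.node (nat_lit 150784) l3967 l3968)))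
noncomputable def n518 : T := (.node (nat_lit 150974) (.node (nat_lit 150898) (.node (nat_lit 150860) l3969 l3970) (.node (nat_lit 150936) l3971 l3972)) (.node (nat_lit 151050) (.node (nat_lit 151012) l3973 l3974) (.node (nat_lit 151088) l3975 l3976)))
noncomputable def n519 : T := (.node (nat_lit 151278) (.node (nat_lit 151202) (.node (nat_lit 151164) l3977 l3978) (.node (nat_lit 151240) l3979 l3980)) (.node (nat_lit 151354) (.node (nat_lit 151316) l3981 l3982) (.node (nat_lit 151392) l3983 l3984)))
noncomputable def n520 : T := (.node (nat_lit 151582) (.node (nat_lit 151506) (.node (nat_lit 151468) l3985 l3986) (.node (nat_lit 151544) l3987 l3988)) (.node (nat_lit 151658) (.node (nat_lit 151620) l3989 l3990) (.node (nat_lit 151696) l3991 l3992)))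
noncomputable def n521 : T := (.node (nat_lit 151886) (.node (nat_lit 151810) (.node (nat_lit 151772) l3993 l3994) (.node (nat_lit 151848) l3995 l3996)) (.node (nat_lit 151962) (.node (nat_lit 151924) l3997 l3998) (.node (nat_lit 152000) l3999 l4000)))
noncomputable def n522 : T := (.node (nat_lit 152190) (.node (nat_lit 152114) (.node (nat_lit 152076) l4001 l4002) (.node (nat_lit 152152) l4003 l4004)) (.node (nat_lit 152266) (.node (nat_lit 152228) l4005 l4006) (.node (nat_lit 152304) l4007 l4008)))
noncomputable def n523 : T := (.node (nat_lit 152494) (.node (nat_lit 152418) (.node (nat_lit 152380) l4009 l4010) (.node (nat_lit 152456) l4011 l4012)) (.node (nat_lit 152570) (.node (nat_lit 152532) l4013 l4014) (.node (nat_lit 152608) l4015 l4016)))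
noncomputable def n524 : T := (.node (nat_lit 152798) (.node (nat_lit 152722) (.node (nat_lit 152684) l4017 l4018) (.node (nat_lit 152760) l4019 l4020)) (.node (nat_lit 152874) (.node (nat_lit 152836) l4021 l4022) (.node (nat_lit 152912) l4023 l4024)))
noncomputable def n525 : T := (.node (nat_lit 153102) (.node (nat_lit 153026) (.node (nat_lit 152988) l4025 l4026) (.node (nat_lit 153064) l4027 l4028)) (.node (nat_lit 153178) (.node (nat_lit 153140) l4029 l4030) (.node (nat_lit 153216) l4031 l4032)))
noncomputable def n526 : T := (.node (nat_lit 153406) (.node (nat_lit 153330) (.node (nat_lit 153292) l4033 l4034) (.node (nat_lit 153368) l4035 l4036)) (.node (nat_lit 153482) (.node (nat_lit 153444) l4037 l4038) (.node (nat_lit 153520) l4039 l4040)))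
noncomputable def n527 : T := (.node (nat_lit 148732) (.node (nat_lit 146338) (.node (nat_lit 145122) (.node (nat_lit 144514) (.node (nat_lit 144210) n495 n496) (.node (nat_lit 144818) n497 n498)) (.node (nat_lit 145730) (.node (nat_lit 145426) n499 n500) (.node (nat_lit 146034) n501 n502))) (.node (nat_lit 147516) (.node (nat_lit 146908) (.node (nat_lit 146604) n503 n504) (.node (nat_lit 147212) n505 n506)) (.node (nat_lit 148124) (.node (nat_lit 147820) n507 n508) (.node (nat_lit 148428) n509 n510)))) (.node (nat_lit 151126) (.node (nat_lit 149910) (.node (nat_lit 149302) (.node (nat_lit 148998) n511 n512) (.node (nat_lit 149606) n513 n514)) (.node (nat_lit 150518) (.node (nat_lit 150214) n515 n516) (.node (nat_lit 150822) n517 n518))) (.node (nat_lit 152342) (.node (nat_lit 151734) (.node (nat_lit 151430) n519 n520) (.node (nat_lit 152038) n521 n522)) (.node (nat_lit 152950) (.node (nat_lit 152646) n523 n524) (.node (nat_lit 153254) n525 n526)))))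
noncomputable def n528 : T := (.node (nat_lit 153672) (.node (nat_lit 153596) l4041 (.node (nat_lit 153634) l4042 l4043)) (.node (nat_lit 153748) (.node (nat_lit 153710) l4044 l4045) (.node (nat_lit 153786) l4046 l4047)))
noncomputable def n529 : T := (.node (nat_lit 153976) (.node (nat_lit 153900) (.node (nat_lit 153862) l4048 l4049) (.node (nat_lit 153938) l4050 l4051)) (.node (nat_lit 154052) (.node (nat_lit 154014) l4052 l4053) (.node (nat_lit 154090) l4054 l4055)))
noncomputable def n530 : T := (.node (nat_lit 154280) (.node (nat_lit 154204) (.node (nat_lit 154166) l4056 l4057) (.node (nat_lit 154242) l4058 l4059)) (.node (nat_lit 154356) (.node (nat_lit 154318) l4060 l4061) (.node (nat_lit 154394) l4062 l4063)))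
noncomputable def n531 : T := (.node (nat_lit 154584) (.node (nat_lit 154508) (.node (nat_lit 154470) l4064 l4065) (.node (nat_lit 154546) l4066 l4067)) (.node (nat_lit 154660) (.node (nat_lit 154622) l4068 l4069) (.node (nat_lit 154698) l4070 l4071)))
noncomputable def n532 : T := (.node (nat_lit 154888) (.node (nat_lit 154812) (.node (nat_lit 154774) l4072 l4073) (.node (nat_lit 154850) l4074 l4075)) (.node (nat_lit 154964) (.node (nat_lit 154926) l4076 l4077) (.node (nat_lit 155002) l4078 l4079)))
noncomputable def n533 : T := (.node (nat_lit 155192) (.node (nat_lit 155116) (.node (nat_lit 155078) l4080 l4081) (.node (nat_lit 155154) l4082 l4083)) (.node (nat_lit 155268) (.node (nat_lit 155230) l4084 l4085) (.node (nat_lit 155306) l4086 l4087)))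
noncomputable def n534 : T := (.node (nat_lit 155496) (.node (nat_lit 155420) (.node (nat_lit 155382) l4088 l4089) (.node (nat_lit 155458) l4090 l4091)) (.node (nat_lit 155572) (.node (nat_lit 155534) l4092 l4093) (.node (nat_lit 155610) l4094 l4095)))
noncomputable def n535 : T := (.node (nat_lit 155800) (.node (nat_lit 155724) (.node (nat_lit 155686) l4096 l4097) (.node (nat_lit 155762) l4098 l4099)) (.node (nat_lit 155876) (.node (nat_lit 155838) l4100 l4101) (.node (nat_lit 155914) l4102 l4103)))
noncomputable def n536 : T := (.node (nat_lit 156066) (.node (nat_lit 155990) l4104 (.node (nat_lit 156028) l4105 l4106)) (.node (nat_lit 156142) (.node (nat_lit 156104) l4107 l4108) (.node (nat_lit 156180) l4109 l4110)))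
noncomputable def n537 : T := (.node (nat_lit 156370) (.node (nat_lit 156294) (.node (nat_lit 156256) l4111 l4112) (.node (nat_lit 156332) l4113 l4114)) (.node (nat_lit 156446) (.node (nat_lit 156408) l4115 l4116) (.node (nat_lit 156484) l4117 l4118)))
noncomputable def n538 : T := (.node (nat_lit 156674) (.node (nat_lit 156598) (.node (nat_lit 156560) l4119 l4120) (.node (nat_lit 156636) l4121 l4122)) (.node (nat_lit 156750) (.node (nat_lit 156712) l4123 l4124) (.node (nat_lit 156788) l4125 l4126)))
noncomputable def n539 : T := (.node (nat_lit 156978) (.node (nat_lit 156902) (.node (nat_lit 156864) l4127 l4128) (.node (nat_lit 156940) l4129 l4130)) (.node (nat_lit 157054) (.node (nat_lit 157016) l4131 l4132) (.node (nat_lit 157092) l4133 l4134)))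
noncomputable def n540 : T := (.node (nat_lit 157282) (.node (nat_lit 157206) (.node (nat_lit 157168) l4135 l4136) (.node (nat_lit 157244) l4137 l4138)) (.node (nat_lit 157358) (.node (nat_lit 157320) l4139 l4140) (.node (nat_lit 157396) l4141 l4142)))
noncomputable def n541 : T := (.node (nat_lit 157586) (.node (nat_lit 157510) (.node (nat_lit 157472) l4143 l4144) (.node (nat_lit 157548) l4145 l4146)) (.node (nat_lit 157662) (.node (nat_lit 157624) l4147 l4148) (.node (nat_lit 157700) l4149 l4150)))
noncomputable def n542 : T := (.node (nat_lit 157890) (.node (nat_lit 157814) (.node (nat_lit 157776) l4151 l4152) (.node (nat_lit 157852) l4153 l4154)) (.node (nat_lit 157966) (.node (nat_lit 157928) l4155 l4156) (.node (nat_lit 158004) l4157 l4158)))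
noncomputable def n543 : T := (.node (nat_lit 158194) (.node (nat_lit 158118) (.node (nat_lit 158080) l4159 l4160) (.node (nat_lit 158156) l4161 l4162)) (.node (nat_lit 158270) (.node (nat_lit 158232) l4163 l4164) (.node (nat_lit 158308) l4165 l4166)))
noncomputable def n544 : T := (.node (nat_lit 158460) (.node (nat_lit 158384) l4167 (.node (nat_lit 158422) l4168 l4169)) (.node (nat_lit 158536) (.node (nat_lit 158498) l4170 l4171) (.node (nat_lit 158574) l4172 l4173)))
noncomputable def n545 : T := (.node (nat_lit 158764) (.node (nat_lit 158688) (.node (nat_lit 158650) l4174 l4175) (.node (nat_lit 158726) l4176 l4177)) (.node (nat_lit 158840) (.node (nat_lit 158802) l4178 l4179) (.node (nat_lit 158878) l4180 l4181)))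
noncomputable def n546 : T := (.node (nat_lit 159068) (.node (nat_lit 158992) (.node (nat_lit 158954) l4182 l4183) (.node (nat_lit 159030) l4184 l4185)) (.node (nat_lit 159144) (.node (nat_lit 159106) l4186 l4187) (.node (nat_lit 159182) l4188 l4189)))
noncomputable def n547 : T := (.node (nat_lit 159372) (.node (nat_lit 159296) (.node (nat_lit 159258) l4190 l4191) (.node (nat_lit 159334) l4192 l4193)) (.node (nat_lit 159448) (.node (nat_lit 159410) l4194 l4195) (.node (nat_lit 159486) l4196 l4197)))
noncomputable def n548 : T := (.node (nat_lit 159676) (.node (nat_lit 159600) (.node (nat_lit 159562) l4198 l4199) (.node (nat_lit 159638) l4200 l4201)) (.node (nat_lit 159752) (.node (nat_lit 159714) l4202 l4203) (.node (nat_lit 159790) l4204 l4205)))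
noncomputable def n549 : T := (.node (nat_lit 159980) (.node (nat_lit 159904) (.node (nat_lit 159866) l4206 l4207) (.node (nat_lit 159942) l4208 l4209)) (.node (nat_lit 160056) (.node (nat_lit 160018) l4210 l4211) (.node (nat_lit 160094) l4212 l4213)))
noncomputable def n550 : T := (.node (nat_lit 160284) (.node (nat_lit 160208) (.node (nat_lit 160170) l4214 l4215) (.node (nat_lit 160246) l4216 l4217)) (.node (nat_lit 160360) (.node (nat_lit 160322) l4218 l4219) (.node (nat_lit 160398) l4220 l4221)))
noncomputable def n551 : T := (.node (nat_lit 160588) (.node (nat_lit 160512) (.node (nat_lit 160474) l4222 l4223) (.node (nat_lit 160550) l4224 l4225)) (.node (nat_lit 160664) (.node (nat_lit 160626) l4226 l4227) (.node (nat_lit 160702) l4228 l4229)))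
noncomputable def n552 : T := (.node (nat_lit 160854) (.node (nat_lit 160778) l4230 (.node (nat_lit 160816) l4231 l4232)) (.node (nat_lit 160930) (.node (nat_lit 160892) l4233 l4234) (.node (nat_lit 160968) l4235 l4236)))
noncomputable def n553 : T := (.node (nat_lit 161158) (.node (nat_lit 161082) (.node (nat_lit 161044) l4237 l4238) (.node (nat_lit 161120) l4239 l4240)) (.node (nat_lit 161234) (.node (nat_lit 161196) l4241 l4242) (.node (nat_lit 161272) l4243 l4244)))
noncomputable def n554 : T := (.node (nat_lit 161462) (.node (nat_lit 161386) (.node (nat_lit 161348) l4245 l4246) (.node (nat_lit 161424) l4247 l4248)) (.node (nat_lit 161538) (.node (nat_lit 161500) l4249 l4250) (.node (nat_lit 161576) l4251 l4252)))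
noncomputable def n555 : T := (.node (nat_lit 161766) (.node (nat_lit 161690) (.node (nat_lit 161652) l4253 l4254) (.node (nat_lit 161728) l4255 l4256)) (.node (nat_lit 161842) (.node (nat_lit 161804) l4257 l4258) (.node (nat_lit 161880) l4259 l4260)))
noncomputable def n556 : T := (.node (nat_lit 162070) (.node (nat_lit 161994) (.node (nat_lit 161956) l4261 l4262) (.node (nat_lit 162032) l4263 l4264)) (.node (nat_lit 162146) (.node (nat_lit 162108) l4265 l4266) (.node (nat_lit 162184) l4267 l4268)))
noncomputable def n557 : T := (.node (nat_lit 162374) (.node (nat_lit 162298) (.node (nat_lit 162260) l4269 l4270) (.node (nat_lit 162336) l4271 l4272)) (.node (nat_lit 162450) (.node (nat_lit 162412) l4273 l4274) (.node (nat_lit 162488) l4275 l4276)))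
noncomputable def n558 : T := (.node (nat_lit 162678) (.node (nat_lit 162602) (.node (nat_lit 162564) l4277 l4278) (.node (nat_lit 162640) l4279 l4280)) (.node (nat_lit 162754) (.node (nat_lit 162716) l4281 l4282) (.node (nat_lit 162792) l4283 l4284)))
noncomputable def n559 : T := (.node (nat_lit 162982) (.node (nat_lit 162906) (.node (nat_lit 162868) l4285 l4286) (.node (nat_lit 162944) l4287 l4288)) (.node (nat_lit 163058) (.node (nat_lit 163020) l4289 l4290) (.node (nat_lit 163096) l4291 l4292)))
noncomputable def n560 : T := (.node (nat_lit 158346) (.node (nat_lit 155952) (.node (nat_lit 154736) (.node (nat_lit 154128) (.node (nat_lit 153824) n528 n529) (.node (nat_lit 154432) n530 n531)) (.node (nat_lit 155344) (.node (nat_lit 155040) n532 n533) (.node (nat_lit 155648) n534 n535))) (.node (nat_lit 157130) (.node (nat_lit 156522) (.node (nat_lit 156218) n536 n537) (.node (nat_lit 156826) n538 n539)) (.node (nat_lit 157738) (.node (nat_lit 157434) n540 n541) (.node (nat_lit 158042) n542 n543)))) (.node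 (nat_lit 160740) (.node (nat_lit 159524) (.node (nat_lit 158916) (.node (nat_lit 158612) n544 n545) (.node (nat_lit 159220) n546 n547)) (.node (nat_lit 160132) (.node (nat_lit 159828) n548 n549) (.node (nat_lit 160436) n550 n551))) (.node (nat_lit 161918) (.node (nat_lit 161310) (.node (nat_lit 161006) n552 n553) (.node (nat_lit 161614) n554 n555)) (.node (nat_lit 162526) (.node (nat_lit 162222) n556 n557) (.node (nat_lit 162830) n558 n559)))))
noncomputable def n561 : T := (.node (nat_lit 163248) (.node (nat_lit 163172) l4293 (.node (nat_lit 163210) l4294 l4295)) (.node (nat_lit 163324) (.node (nat_lit 163286) l4296 l4297) (.node (nat_lit 163362) l4298 l4299)))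
noncomputable def n562 : T := (.node (nat_lit 163552) (.node (nat_lit 163476) (.node (nat_lit 163438) l4300 l4301) (.node (nat_lit 163514) l4302 l4303)) (.node (nat_lit 163628) (.node (nat_lit 163590) l4304 l4305) (.node (nat_lit 163666) l4306 l4307)))
noncomputable def n563 : T := (.node (nat_lit 163856) (.node (nat_lit 163780) (.node (nat_lit 163742) l4308 l4309) (.node (nat_lit 163818) l4310 l4311)) (.node (nat_lit 163932) (.node (nat_lit 163894) l4312 l4313) (.node (nat_lit 163970) l4314 l4315)))
noncomputable def n564 : T := (.node (nat_lit 164160) (.node (nat_lit 164084) (.node (nat_lit 164046) l4316 l4317) (.node (nat_lit 164122) l4318 l4319)) (.node (nat_lit 164236) (.node (nat_lit 164198) l4320 l4321) (.node (nat_lit 164274) l4322 l4323)))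
noncomputable def n565 : T := (.node (nat_lit 164464) (.node (nat_lit 164388) (.node (nat_lit 164350) l4324 l4325) (.node (nat_lit 164426) l4326 l4327)) (.node (nat_lit 164540) (.node (nat_lit 164502) l4328 l4329) (.node (nat_lit 164578) l4330 l4331)))
noncomputable def n566 : T := (.node (nat_lit 164768) (.node (nat_lit 164692) (.node (nat_lit 164654) l4332 l4333) (.node (nat_lit 164730) l4334 l4335)) (.node (nat_lit 164844) (.node (nat_lit 164806) l4336 l4337) (.node (nat_lit 164882) l4338 l4339)))
noncomputable def n567 : T := (.node (nat_lit 165072) (.node (nat_lit 164996) (.node (nat_lit 164958) l4340 l4341) (.node (nat_lit 165034) l4342 l4343)) (.node (nat_lit 165148) (.node (nat_lit 165110) l4344 l4345) (.node (nat_lit 165186) l4346 l4347)))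
noncomputable def n568 : T := (.node (nat_lit 165376) (.node (nat_lit 165300) (.node (nat_lit 165262) l4348 l4349) (.node (nat_lit 165338) l4350 l4351)) (.node (nat_lit 165452) (.node (nat_lit 165414) l4352 l4353) (.node (nat_lit 165490) l4354 l4355)))
noncomputable def n569 : T := (.node (nat_lit 165642) (.node (nat_lit 165566) l4356 (.node (nat_lit 165604) l4357 l4358)) (.node (nat_lit 165718) (.node (nat_lit 165680) l4359 l4360) (.node (nat_lit 165756) l4361 l4362)))
noncomputable def n570 : T := (.node (nat_lit 165946) (.node (nat_lit 165870) (.node (nat_lit 165832) l4363 l4364) (.node (nat_lit 165908) l4365 l4366)) (.node (nat_lit 166022) (.node (nat_lit 165984) l4367 l4368) (.node (nat_lit 166060) l4369 l4370)))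
noncomputable def n571 : T := (.node (nat_lit 166250) (.node (nat_lit 166174) (.node (nat_lit 166136) l4371 l4372) (.node (nat_lit 166212) l4373 l4374)) (.node (nat_lit 166326) (.node (nat_lit 166288) l4375 l4376) (.node (nat_lit 166364) l4377 l4378)))
noncomputable def n572 : T := (.node (nat_lit 166554) (.node (nat_lit 166478) (.node (nat_lit 166440) l4379 l4380) (.node (nat_lit 166516) l4381 l4382)) (.node (nat_lit 166630) (.node (nat_lit 166592) l4383 l4384) (.node (nat_lit 166668) l4385 l4386)))
noncomputable def n573 : T := (.node (nat_lit 166858) (.node (nat_lit 166782) (.node (nat_lit 166744) l4387 l4388) (.node (nat_lit 166820) l4389 l4390)) (.node (nat_lit 166934) (.node (nat_lit 166896) l4391 l4392) (.node (nat_lit 166972) l4393 l4394)))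
noncomputable def n574 : T := (.node (nat_lit 167162) (.node (nat_lit 167086) (.node (nat_lit 167048) l4395 l4396) (.node (nat_lit 167124) l4397 l4398)) (.node (nat_lit 167238) (.node (nat_lit 167200) l4399 l4400) (.node (nat_lit 167276) l4401 l4402)))
noncomputable def n575 : T := (.node (nat_lit 167466) (.node (nat_lit 167390) (.node (nat_lit 167352) l4403 l4404) (.node (nat_lit 167428) l4405 l4406)) (.node (nat_lit 167542) (.node (nat_lit 167504) l4407 l4408) (.node (nat_lit 167580) l4409 l4410)))
noncomputable def n576 : T := (.node (nat_lit 167770) (.node (nat_lit 167694) (.node (nat_lit 167656) l4411 l4412) (.node (nat_lit 167732) l4413 l4414)) (.node (nat_lit 167846) (.node (nat_lit 167808) l4415 l4416) (.node (nat_lit 167884) l4417 l4418)))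
noncomputable def n577 : T := (.node (nat_lit 168036) (.node (nat_lit 167960) l4419 (.node (nat_lit 167998) l4420 l4421)) (.node (nat_lit 168112) (.node (nat_lit 168074) l4422 l4423) (.node (nat_lit 168150) l4424 l4425)))
noncomputable def n578 : T := (.node (nat_lit 168340) (.node (nat_lit 168264) (.node (nat_lit 168226) l4426 l4427) (.node (nat_lit 168302) l4428 l4429)) (.node (nat_lit 168416) (.node (nat_lit 168378) l4430 l4431) (.node (nat_lit 168454) l4432 l4433)))
noncomputable def n579 : T := (.node (nat_lit 168644) (.node (nat_lit 168568) (.node (nat_lit 168530) l4434 l4435) (.node (nat_lit 168606) l4436 l4437)) (.node (nat_lit 168720) (.node (nat_lit 168682) l4438 l4439) (.node (nat_lit 168758) l4440 l4441)))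
noncomputable def n580 : T := (.node (nat_lit 168948) (.node (nat_lit 168872) (.node (nat_lit 168834) l4442 l4443) (.node (nat_lit 168910) l4444 l4445)) (.node (nat_lit 169024) (.node (nat_lit 168986) l4446 l4447) (.node (nat_lit 169062) l4448 l4449)))
noncomputable def n581 : T := (.node (nat_lit 169252) (.node (nat_lit 169176) (.node (nat_lit 169138) l4450 l4451) (.node (nat_lit 169214) l4452 l4453)) (.node (nat_lit 169328) (.node (nat_lit 169290) l4454 l4455) (.node (nat_lit 169366) l4456 l4457)))
noncomputable def n582 : T := (.node (nat_lit 169556) (.node (nat_lit 169480) (.node (nat_lit 169442) l4458 l4459) (.node (nat_lit 169518) l4460 l4461)) (.node (nat_lit 169632) (.node (nat_lit 169594) l4462 l4463) (.node (nat_lit 169670) l4464 l4465)))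
noncomputable def n583 : T := (.node (nat_lit 169860) (.node (nat_lit 169784) (.node (nat_lit 169746) l4466 l4467) (.node (nat_lit 169822) l4468 l4469)) (.node (nat_lit 169936) (.node (nat_lit 169898) l4470 l4471) (.node (nat_lit 169974) l4472 l4473)))
noncomputable def n584 : T := (.node (nat_lit 170164) (.node (nat_lit 170088) (.node (nat_lit 170050) l4474 l4475) (.node (nat_lit 170126) l4476 l4477)) (.node (nat_lit 170240) (.node (nat_lit 170202) l4478 l4479) (.node (nat_lit 170278) l4480 l4481)))
noncomputable def n585 : T := (.node (nat_lit 170468) (.node (nat_lit 170392) (.node (nat_lit 170354) l4482 l4483) (.node (nat_lit 170430) l4484 l4485)) (.node (nat_lit 170544) (.node (nat_lit 170506) l4486 l4487) (.node (nat_lit 170582) l4488 l4489)))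
noncomputable def n586 : T := (.node (nat_lit 170772) (.node (nat_lit 170696) (.node (nat_lit 170658) l4490 l4491) (.node (nat_lit 170734) l4492 l4493)) (.node (nat_lit 170848) (.node (nat_lit 170810) l4494 l4495) (.node (nat_lit 170886) l4496 l4497)))
noncomputable def n587 : T := (.node (nat_lit 171076) (.node (nat_lit 171000) (.node (nat_lit 170962) l4498 l4499) (.node (nat_lit 171038) l4500 l4501)) (.node (nat_lit 171152) (.node (nat_lit 171114) l4502 l4503) (.node (nat_lit 171190) l4504 l4505)))
noncomputable def n588 : T := (.node (nat_lit 171380) (.node (nat_lit 171304) (.node (nat_lit 171266) l4506 l4507) (.node (nat_lit 171342) l4508 l4509)) (.node (nat_lit 171456) (.node (nat_lit 171418) l4510 l4511) (.node (nat_lit 171494) l4512 l4513)))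
noncomputable def n589 : T := (.node (nat_lit 171684) (.node (nat_lit 171608) (.node (nat_lit 171570) l4514 l4515) (.node (nat_lit 171646) l4516 l4517)) (.node (nat_lit 171760) (.node (nat_lit 171722) l4518 l4519) (.node (nat_lit 171798) l4520 l4521)))
noncomputable def n590 : T := (.node (nat_lit 171988) (.node (nat_lit 171912) (.node (nat_lit 171874) l4522 l4523) (.node (nat_lit 171950) l4524 l4525)) (.node (nat_lit 172064) (.node (nat_lit 172026) l4526 l4527) (.node (nat_lit 172102) l4528 l4529)))
noncomputable def n591 : T := (.node (nat_lit 172292) (.node (nat_lit 172216) (.node (nat_lit 172178) l4530 l4531) (.node (nat_lit 172254) l4532 l4533)) (.node (nat_lit 172368) (.node (nat_lit 172330) l4534 l4535) (.node (nat_lit 172406) l4536 l4537)))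
noncomputable def n592 : T := (.node (nat_lit 172596) (.node (nat_lit 172520) (.node (nat_lit 172482) l4538 l4539) (.node (nat_lit 172558) l4540 l4541)) (.node (nat_lit 172672) (.node (nat_lit 172634) l4542 l4543) (.node (nat_lit 172710) l4544 l4545)))
noncomputable def n593 : T := (.node (nat_lit 167922) (.node (nat_lit 165528) (.node (nat_lit 164312) (.node (nat_lit 163704) (.node (nat_lit 163400) n561 n562) (.node (nat_lit 164008) n563 n564)) (.node (nat_lit 164920) (.node (nat_lit 164616) n565 n566) (.node (nat_lit 165224) n567 n568))) (.node (nat_lit 166706) (.node (nat_lit 166098) (.node (nat_lit 165794) n569 n570) (.node (nat_lit 166402) n571 n572)) (.node (nat_lit 167314) (.node (nat_lit 167010) n573 n574) (.node (nat_lit 167618) n575 n576)))) (.node (nat_lit 170316) (.node (nat_lit 169100) (.node (nat_lit 168492) (.node (nat_lit 168188) n577 n578) (.node (nat_lit 168796) n579 n580)) (.node (nat_lit 169708) (.node (nat_lit 169404) n581 n582) (.node (nat_lit 170012) n583 n584))) (.node (nat_lit 171532)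 (.node (nat_lit 170924) (.node (nat_lit 170620) n585 n586) (.node (nat_lit 171228) n587 n588)) (.node (nat_lit 172140) (.node (nat_lit 171836) n589 n590) (.node (nat_lit 172444) n591 n592)))))
noncomputable def n594 : T := (.node (nat_lit 172862) (.node (nat_lit 172786) l4546 (.node (nat_lit 172824) l4547 l4548)) (.node (nat_lit 172938) (.node (nat_lit 172900) l4549 l4550) (.node (nat_lit 172976) l4551 l4552)))
noncomputable def n595 : T := (.node (nat_lit 173166) (.node (nat_lit 173090) (.node (nat_lit 173052) l4553 l4554) (.node (nat_lit 173128) l4555 l4556)) (.node (nat_lit 173242) (.node (nat_lit 173204) l4557 l4558) (.node (nat_lit 173280) l4559 l4560)))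
noncomputable def n596 : T := (.node (nat_lit 173470) (.node (nat_lit 173394) (.node (nat_lit 173356) l4561 l4562) (.node (nat_lit 173432) l4563 l4564)) (.node (nat_lit 173546) (.node (nat_lit 173508) l4565 l4566) (.node (nat_lit 173584) l4567 l4568)))
noncomputable def n597 : T := (.node (nat_lit 173774) (.node (nat_lit 173698) (.node (nat_lit 173660) l4569 l4570) (.node (nat_lit 173736) l4571 l4572)) (.node (nat_lit 173850) (.node (nat_lit 173812) l4573 l4574) (.node (nat_lit 173888) l4575 l4576)))
noncomputable def n598 : T := (.node (nat_lit 174078) (.node (nat_lit 174002) (.node (nat_lit 173964) l4577 l4578) (.node (nat_lit 174040) l4579 l4580)) (.node (nat_lit 174154) (.node (nat_lit 174116) l4581 l4582) (.node (nat_lit 174192) l4583 l4584)))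
noncomputable def n599 : T := (.node (nat_lit 174382) (.node (nat_lit 174306) (.node (nat_lit 174268) l4585 l4586) (.node (nat_lit 174344) l4587 l4588)) (.node (nat_lit 174458) (.node (nat_lit 174420) l4589 l4590) (.node (nat_lit 174496) l4591 l4592)))
noncomputable def n600 : T := (.node (nat_lit 174686) (.node (nat_lit 174610) (.node (nat_lit 174572) l4593 l4594) (.node (nat_lit 174648) l4595 l4596)) (.node (nat_lit 174762) (.node (nat_lit 174724) l4597 l4598) (.node (nat_lit 174800) l4599 l4600)))
noncomputable def n601 : T := (.node (nat_lit 174990) (.node (nat_lit 174914) (.node (nat_lit 174876) l4601 l4602) (.node (nat_lit 174952) l4603 l4604)) (.node (nat_lit 175066) (.node (nat_lit 175028) l4605 l4606) (.node (nat_lit 175104) l4607 l4608)))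
noncomputable def n602 : T := (.node (nat_lit 175256) (.node (nat_lit 175180) l4609 (.node (nat_lit 175218) l4610 l4611)) (.node (nat_lit 175332) (.node (nat_lit 175294) l4612 l4613) (.node (nat_lit 175370) l4614 l4615)))
noncomputable def n603 : T := (.node (nat_lit 175560) (.node (nat_lit 175484) (.node (nat_lit 175446) l4616 l4617) (.node (nat_lit 175522) l4618 l4619)) (.node (nat_lit 175636) (.node (nat_lit 175598) l4620 l4621) (.node (nat_lit 175674) l4622 l4623)))
noncomputable def n604 : T := (.node (nat_lit 175864) (.node (nat_lit 175788) (.node (nat_lit 175750) l4624 l4625) (.node (nat_lit 175826) l4626 l4627)) (.node (nat_lit 175940) (.node (nat_lit 175902) l4628 l4629) (.node (nat_lit 175978) l4630 l4631)))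
noncomputable def n605 : T := (.node (nat_lit 176168) (.node (nat_lit 176092) (.node (nat_lit 176054) l4632 l4633) (.node (nat_lit 176130) l4634 l4635)) (.node (nat_lit 176244) (.node (nat_lit 176206) l4636 l4637) (.node (nat_lit 176282) l4638 l4639)))
noncomputable def n606 : T := (.node (nat_lit 176472) (.node (nat_lit 176396) (.node (nat_lit 176358) l4640 l4641) (.node (nat_lit 176434) l4642 l4643)) (.node (nat_lit 176548) (.node (nat_lit 176510) l4644 l4645) (.node (nat_lit 176586) l4646 l4647)))
noncomputable def n607 : T := (.node (nat_lit 176776) (.node (nat_lit 176700) (.node (nat_lit 176662) l4648 l4649) (.node (nat_lit 176738) l4650 l4651)) (.node (nat_lit 176852) (.node (nat_lit 176814) l4652 l4653) (.node (nat_lit 176890) l4654 l4655)))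
noncomputable def n608 : T := (.node (nat_lit 177080) (.node (nat_lit 177004) (.node (nat_lit 176966) l4656 l4657) (.node (nat_lit 177042) l4658 l4659)) (.node (nat_lit 177156) (.node (nat_lit 177118) l4660 l4661) (.node (nat_lit 177194) l4662 l4663)))
noncomputable def n609 : T := (.node (nat_lit 177384) (.node (nat_lit 177308) (.node (nat_lit 177270) l4664 l4665) (.node (nat_lit 177346) l4666 l4667)) (.node (nat_lit 177460) (.node (nat_lit 177422) l4668 l4669) (.node (nat_lit 177498) l4670 l4671)))
noncomputable def n610 : T := (.node (nat_lit 177650) (.node (nat_lit 177574) l4672 (.node (nat_lit 177612) l4673 l4674)) (.node (nat_lit 177726) (.node (nat_lit 177688) l4675 l4676) (.node (nat_lit 177764) l4677 l4678)))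
noncomputable def n611 : T := (.node (nat_lit 177954) (.node (nat_lit 177878) (.node (nat_lit 177840) l4679 l4680) (.node (nat_lit 177916) l4681 l4682)) (.node (nat_lit 178030) (.node (nat_lit 177992) l4683 l4684) (.node (nat_lit 178068) l4685 l4686)))
noncomputable def n612 : T := (.node (nat_lit 178258) (.node (nat_lit 178182) (.node (nat_lit 178144) l4687 l4688) (.node (nat_lit 178220) l4689 l4690)) (.node (nat_lit 178334) (.node (nat_lit 178296) l4691 l4692) (.node (nat_lit 178372) l4693 l4694)))
noncomputable def n613 : T := (.node (nat_lit 178562) (.node (nat_lit 178486) (.node (nat_lit 178448) l4695 l4696) (.node (nat_lit 178524) l4697 l4698)) (.node (nat_lit 178638) (.node (nat_lit 178600) l4699 l4700) (.node (nat_lit 178676) l4701 l4702)))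
noncomputable def n614 : T := (.node (nat_lit 178866) (.node (nat_lit 178790) (.node (nat_lit 178752) l4703 l4704) (.node (nat_lit 178828) l4705 l4706)) (.node (nat_lit 178942) (.node (nat_lit 178904) l4707 l4708) (.node (nat_lit 178980) l4709 l4710)))
noncomputable def n615 : T := (.node (nat_lit 179170) (.node (nat_lit 179094) (.node (nat_lit 179056) l4711 l4712) (.node (nat_lit 179132) l4713 l4714)) (.node (nat_lit 179246) (.node (nat_lit 179208) l4715 l4716) (.node (nat_lit 179284) l4717 l4718)))
noncomputable def n616 : T := (.node (nat_lit 179474) (.node (nat_lit 179398) (.node (nat_lit 179360) l4719 l4720) (.node (nat_lit 179436) l4721 l4722)) (.node (nat_lit 179550) (.node (nat_lit 179512) l4723 l4724) (.node (nat_lit 179588) l4725 l4726)))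
noncomputable def n617 : T := (.node (nat_lit 179778) (.node (nat_lit 179702) (.node (nat_lit 179664) l4727 l4728) (.node (nat_lit 179740) l4729 l4730)) (.node (nat_lit 179854) (.node (nat_lit 179816) l4731 l4732) (.node (nat_lit 179892) l4733 l4734)))
noncomputable def n618 : T := (.node (nat_lit 180044) (.node (nat_lit 179968) l4735 (.node (nat_lit 180006) l4736 l4737)) (.node (nat_lit 180120) (.node (nat_lit 180082) l4738 l4739) (.node (nat_lit 180158) l4740 l4741)))
noncomputable def n619 : T := (.node (nat_lit 180348) (.node (nat_lit 180272) (.node (nat_lit 180234) l4742 l4743) (.node (nat_lit 180310) l4744 l4745)) (.node (nat_lit 180424) (.node (nat_lit 180386) l4746 l4747) (.node (nat_lit 180462) l4748 l4749)))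
noncomputable def n620 : T := (.node (nat_lit 180652) (.node (nat_lit 180576) (.node (nat_lit 180538) l4750 l4751) (.node (nat_lit 180614) l4752 l4753)) (.node (nat_lit 180728) (.node (nat_lit 180690) l4754 l4755) (.node (nat_lit 180766) l4756 l4757)))
noncomputable def n621 : T := (.node (nat_lit 180956) (.node (nat_lit 180880) (.node (nat_lit 180842) l4758 l4759) (.node (nat_lit 180918) l4760 l4761)) (.node (nat_lit 181032) (.node (nat_lit 180994) l4762 l4763) (.node (nat_lit 181070) l4764 l4765)))
noncomputable def n622 : T := (.node (nat_lit 181260) (.node (nat_lit 181184) (.node (nat_lit 181146) l4766 l4767) (.node (nat_lit 181222) l4768 l4769)) (.node (nat_lit 181336) (.node (nat_lit 181298) l4770 l4771) (.node (nat_lit 181374) l4772 l4773)))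
noncomputable def n623 : T := (.node (nat_lit 181564) (.node (nat_lit 181488) (.node (nat_lit 181450) l4774 l4775) (.node (nat_lit 181526) l4776 l4777)) (.node (nat_lit 181640) (.node (nat_lit 181602) l4778 l4779) (.node (nat_lit 181678) l4780 l4781)))
noncomputable def n624 : T := (.node (nat_lit 181868) (.node (nat_lit 181792) (.node (nat_lit 181754) l4782 l4783) (.node (nat_lit 181830) l4784 l4785)) (.node (nat_lit 181944) (.node (nat_lit 181906) l4786 l4787) (.node (nat_lit 181982) l4788 l4789)))
noncomputable def n625 : T := (.node (nat_lit 182172) (.node (nat_lit 182096) (.node (nat_lit 182058) l4790 l4791) (.node (nat_lit 182134) l4792 l4793)) (.node (nat_lit 182248) (.node (nat_lit 182210) l4794 l4795) (.node (nat_lit 182286) l4796 l4797)))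
noncomputable def n626 : T := (.node (nat_lit 177536) (.node (nat_lit 175142) (.node (nat_lit 173926) (.node (nat_lit 173318) (.node (nat_lit 173014) n594 n595) (.node (nat_lit 173622) n596 n597)) (.node (nat_lit 174534) (.node (nat_lit 174230) n598 n599) (.node (nat_lit 174838) n600 n601))) (.node (nat_lit 176320) (.node (nat_lit 175712) (.node (nat_lit 175408) n602 n603) (.node (nat_lit 176016) n604 n605)) (.node (nat_lit 176928) (.node (nat_lit 176624) n606 n607) (.node (nat_lit 177232) n608 n609)))) (.node (nat_lit 179930) (.node (nat_lit 178714) (.node (nat_lit 178106) (.node (nat_lit 177802) n610 n611) (.node (nat_lit 178410) n612 n613)) (.node (nat_lit 179322) (.node (nat_lit 179018) n614 n615) (.node (nat_lit 179626) n616 n617))) (.node (nat_lit 181108) (.node (nat_lit 180500) (.node (nat_lit 180196) n618 n619) (.node (nat_lit 180804) n620 n621)) (.node (nat_lit 181716) (.node (nat_lit 181412) n622 n623) (.node (nat_lit 182020) n624 n625)))))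
noncomputable def n627 : T := (.node (nat_lit 182438) (.node (nat_lit 182362) l4798 (.node (nat_lit 182400) l4799 l4800)) (.node (nat_lit 182514) (.node (nat_lit 182476) l4801 l4802) (.node (nat_lit 182552) l4803 l4804)))
noncomputable def n628 : T := (.node (nat_lit 182742) (.node (nat_lit 182666) (.node (nat_lit 182628) l4805 l4806) (.node (nat_lit 182704) l4807 l4808)) (.node (nat_lit 182818) (.node (nat_lit 182780) l4809 l4810) (.node (nat_lit 182856) l4811 l4812)))
noncomputable def n629 : T := (.node (nat_lit 183046) (.node (nat_lit 182970) (.node (nat_lit 182932) l4813 l4814) (.node (nat_lit 183008) l4815 l4816)) (.node (nat_lit 183122) (.node (nat_lit 183084) l4817 l4818) (.node (nat_lit 183160) l4819 l4820)))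
noncomputable def n630 : T := (.node (nat_lit 183350) (.node (nat_lit 183274) (.node (nat_lit 183236) l4821 l4822) (.node (nat_lit 183312) l4823 l4824)) (.node (nat_lit 183426) (.node (nat_lit 183388) l4825 l4826) (.node (nat_lit 183464) l4827 l4828)))
noncomputable def n631 : T := (.node (nat_lit 183654) (.node (nat_lit 183578) (.node (nat_lit 183540) l4829 l4830) (.node (nat_lit 183616) l4831 l4832)) (.node (nat_lit 183730) (.node (nat_lit 183692) l4833 l4834) (.node (nat_lit 183768) l4835 l4836)))
noncomputable def n632 : T := (.node (nat_lit 183958) (.node (nat_lit 183882) (.node (nat_lit 183844) l4837 l4838) (.node (nat_lit 183920) l4839 l4840)) (.node (nat_lit 184034) (.node (nat_lit 183996) l4841 l4842) (.node (nat_lit 184072) l4843 l4844)))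
noncomputable def n633 : T := (.node (nat_lit 184262) (.node (nat_lit 184186) (.node (nat_lit 184148) l4845 l4846) (.node (nat_lit 184224) l4847 l4848)) (.node (nat_lit 184338) (.node (nat_lit 184300) l4849 l4850) (.node (nat_lit 184376) l4851 l4852)))
noncomputable def n634 : T := (.node (nat_lit 184566) (.node (nat_lit 184490) (.node (nat_lit 184452) l4853 l4854) (.node (nat_lit 184528) l4855 l4856)) (.node (nat_lit 184642) (.node (nat_lit 184604) l4857 l4858) (.node (nat_lit 184680) l4859 l4860)))
noncomputable def n635 : T := (.node (nat_lit 184832) (.node (nat_lit 184756) l4861 (.node (nat_lit 184794) l4862 l4863)) (.node (nat_lit 184908) (.node (nat_lit 184870) l4864 l4865) (.node (nat_lit 184946) l4866 l4867)))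
noncomputable def n636 : T := (.node (nat_lit 185136) (.node (nat_lit 185060) (.node (nat_lit 185022) l4868 l4869) (.node (nat_lit 185098) l4870 l4871)) (.node (nat_lit 185212) (.node (nat_lit 185174) l4872 l4873) (.node (nat_lit 185250) l4874 l4875)))
noncomputable def n637 : T := (.node (nat_lit 185440) (.node (nat_lit 185364) (.node (nat_lit 185326) l4876 l4877) (.node (nat_lit 185402) l4878 l4879)) (.node (nat_lit 185516) (.node (nat_lit 185478) l4880 l4881) (.node (nat_lit 185554) l4882 l4883)))
noncomputable def n638 : T := (.node (nat_lit 185744) (.node (nat_lit 185668) (.node (nat_lit 185630) l4884 l4885) (.node (nat_lit 185706) l4886 l4887)) (.node (nat_lit 185820) (.node (nat_lit 185782) l4888 l4889) (.node (nat_lit 185858) l4890 l4891)))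
noncomputable def n639 : T := (.node (nat_lit 186048) (.node (nat_lit 185972) (.node (nat_lit 185934) l4892 l4893) (.node (nat_lit 186010) l4894 l4895)) (.node (nat_lit 186124) (.node (nat_lit 186086) l4896 l4897) (.node (nat_lit 186162) l4898 l4899)))
noncomputable def n640 : T := (.node (nat_lit 186352) (.node (nat_lit 186276) (.node (nat_lit 186238) l4900 l4901) (.node (nat_lit 186314) l4902 l4903)) (.node (nat_lit 186428) (.node (nat_lit 186390) l4904 l4905) (.node (nat_lit 186466) l4906 l4907)))
noncomputable def n641 : T := (.node (nat_lit 186656) (.node (nat_lit 186580) (.node (nat_lit 186542) l4908 l4909) (.node (nat_lit 186618) l4910 l4911)) (.node (nat_lit 186732) (.node (nat_lit 186694) l4912 l4913) (.node (nat_lit 186770) l4914 l4915)))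
noncomputable def n642 : T := (.node (nat_lit 186960) (.node (nat_lit 186884) (.node (nat_lit 186846) l4916 l4917) (.node (nat_lit 186922) l4918 l4919)) (.node (nat_lit 187036) (.node (nat_lit 186998) l4920 l4921) (.node (nat_lit 187074) l4922 l4923)))
noncomputable def n643 : T := (.node (nat_lit 187226) (.node (nat_lit 187150) l4924 (.node (nat_lit 187188) l4925 l4926)) (.node (nat_lit 187302) (.node (nat_lit 187264) l4927 l4928) (.node (nat_lit 187340) l4929 l4930)))
noncomputable def n644 : T := (.node (nat_lit 187530) (.node (nat_lit 187454) (.node (nat_lit 187416) l4931 l4932) (.node (nat_lit 187492) l4933 l4934)) (.node (nat_lit 187606) (.node (nat_lit 187568) l4935 l4936) (.node (nat_lit 187644) l4937 l4938)))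
noncomputable def n645 : T := (.node (nat_lit 187834) (.node (nat_lit 187758) (.node (nat_lit 187720) l4939 l4940) (.node (nat_lit 187796) l4941 l4942)) (.node (nat_lit 187910) (.node (nat_lit 187872) l4943 l4944) (.node (nat_lit 187948) l4945 l4946)))
noncomputable def n646 : T := (.node (nat_lit 188138) (.node (nat_lit 188062) (.node (nat_lit 188024) l4947 l4948) (.node (nat_lit 188100) l4949 l4950)) (.node (nat_lit 188214) (.node (nat_lit 188176) l4951 l4952) (.node (nat_lit 188252) l4953 l4954)))
noncomputable def n647 : T := (.node (nat_lit 188442) (.node (nat_lit 188366) (.node (nat_lit 188328) l4955 l4956) (.node (nat_lit 188404) l4957 l4958)) (.node (nat_lit 188518) (.node (nat_lit 188480) l4959 l4960) (.node (nat_lit 188556) l4961 l4962)))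
noncomputable def n648 : T := (.node (nat_lit 188746) (.node (nat_lit 188670) (.node (nat_lit 188632) l4963 l4964) (.node (nat_lit 188708) l4965 l4966)) (.node (nat_lit 188822) (.node (nat_lit 188784) l4967 l4968) (.node (nat_lit 188860) l4969 l4970)))
noncomputable def n649 : T := (.node (nat_lit 189050) (.node (nat_lit 188974) (.node (nat_lit 188936) l4971 l4972) (.node (nat_lit 189012) l4973 l4974)) (.node (nat_lit 189126) (.node (nat_lit 189088) l4975 l4976) (.node (nat_lit 189164) l4977 l4978)))
noncomputable def n650 : T := (.node (nat_lit 189354) (.node (nat_lit 189278) (.node (nat_lit 189240) l4979 l4980) (.node (nat_lit 189316) l4981 l4982)) (.node (nat_lit 189430) (.node (nat_lit 189392) l4983 l4984) (.node (nat_lit 189468) l4985 l4986)))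
noncomputable def n651 : T := (.node (nat_lit 189658) (.node (nat_lit 189582) (.node (nat_lit 189544) l4987 l4988) (.node (nat_lit 189620) l4989 l4990)) (.node (nat_lit 189734) (.node (nat_lit 189696) l4991 l4992) (.node (nat_lit 189772) l4993 l4994)))
noncomputable def n652 : T := (.node (nat_lit 189962) (.node (nat_lit 189886) (.node (nat_lit 189848) l4995 l4996) (.node (nat_lit 189924) l4997 l4998)) (.node (nat_lit 190038) (.node (nat_lit 190000) l4999 l5000) (.node (nat_lit 190076) l5001 l5002)))
noncomputable def n653 : T := (.node (nat_lit 190266) (.node (nat_lit 190190) (.node (nat_lit 190152) l5003 l5004) (.node (nat_lit 190228) l5005 l5006)) (.node (nat_lit 190342) (.node (nat_lit 190304) l5007 l5008) (.node (nat_lit 190380) l5009 l5010)))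
noncomputable def n654 : T := (.node (nat_lit 190570) (.node (nat_lit 190494) (.node (nat_lit 190456) l5011 l5012) (.node (nat_lit 190532) l5013 l5014)) (.node (nat_lit 190646) (.node (nat_lit 190608) l5015 l5016) (.node (nat_lit 190684) l5017 l5018)))
noncomputable def n655 : T := (.node (nat_lit 190874) (.node (nat_lit 190798) (.node (nat_lit 190760) l5019 l5020) (.node (nat_lit 190836) l5021 l5022)) (.node (nat_lit 190950) (.node (nat_lit 190912) l5023 l5024) (.node (nat_lit 190988) l5025 l5026)))
noncomputable def n656 : T := (.node (nat_lit 191178) (.node (nat_lit 191102) (.node (nat_lit 191064) l5027 l5028) (.node (nat_lit 191140) l5029 l5030)) (.node (nat_lit 191254) (.node (nat_lit 191216) l5031 l5032) (.node (nat_lit 191292) l5033 l5034)))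
noncomputable def n657 : T := (.node (nat_lit 191482) (.node (nat_lit 191406) (.node (nat_lit 191368) l5035 l5036) (.node (nat_lit 191444) l5037 l5038)) (.node (nat_lit 191558) (.node (nat_lit 191520) l5039 l5040) (.node (nat_lit 191596) l5041 l5042)))
noncomputable def n658 : T := (.node (nat_lit 191786) (.node (nat_lit 191710) (.node (nat_lit 191672) l5043 l5044) (.node (nat_lit 191748) l5045 l5046)) (.node (nat_lit 191862) (.node (nat_lit 191824) l5047 l5048) (.node (nat_lit 191900) l5049 l5050)))
noncomputable def n659 : T := (.node (nat_lit 187112) (.node (nat_lit 184718) (.node (nat_lit 183502) (.node (nat_lit 182894) (.node (nat_lit 182590) n627 n628) (.node (nat_lit 183198) n629 n630)) (.node (nat_lit 184110) (.node (nat_lit 183806) n631 n632) (.node (nat_lit 184414) n633 n634))) (.node (nat_lit 185896) (.node (nat_lit 185288) (.node (nat_lit 184984) n635 n636) (.node (nat_lit 185592) n637 n638)) (.node (nat_lit 186504) (.node (nat_lit 186200) n639 n640) (.node (nat_lit 186808) n641 n642)))) (.node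 (nat_lit 189506) (.node (nat_lit 188290) (.node (nat_lit 187682) (.node (nat_lit 187378) n643 n644) (.node (nat_lit 187986) n645 n646)) (.node (nat_lit 188898) (.node (nat_lit 188594) n647 n648) (.node (nat_lit 189202) n649 n650))) (.node (nat_lit 190722) (.node (nat_lit 190114) (.node (nat_lit 189810) n651 n652) (.node (nat_lit 190418) n653 n654)) (.node (nat_lit 191330) (.node (nat_lit 191026) n655 n656) (.node (nat_lit 191634) n657 n658)))))
noncomputable def n660 : T := (.node (nat_lit 192052) (.node (nat_lit 191976) l5051 (.node (nat_lit 192014) l5052 l5053)) (.node (nat_lit 192128) (.node (nat_lit 192090) l5054 l5055) (.node (nat_lit 192166) l5056 l5057)))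
noncomputable def n661 : T := (.node (nat_lit 192356) (.node (nat_lit 192280) (.node (nat_lit 192242) l5058 l5059) (.node (nat_lit 192318) l5060 l5061)) (.node (nat_lit 192432) (.node (nat_lit 192394) l5062 l5063) (.node (nat_lit 192470) l5064 l5065)))
noncomputable def n662 : T := (.node (nat_lit 192660) (.node (nat_lit 192584) (.node (nat_lit 192546) l5066 l5067) (.node (nat_lit 192622) l5068 l5069)) (.node (nat_lit 192736) (.node (nat_lit 192698) l5070 l5071) (.node (nat_lit 192774) l5072 l5073)))
noncomputable def n663 : T := (.node (nat_lit 192964) (.node (nat_lit 192888) (.node (nat_lit 192850) l5074 l5075) (.node (nat_lit 192926) l5076 l5077)) (.node (nat_lit 193040) (.node (nat_lit 193002) l5078 l5079) (.node (nat_lit 193078) l5080 l5081)))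
noncomputable def n664 : T := (.node (nat_lit 193268) (.node (nat_lit 193192) (.node (nat_lit 193154) l5082 l5083) (.node (nat_lit 193230) l5084 l5085)) (.node (nat_lit 193344) (.node (nat_lit 193306) l5086 l5087) (.node (nat_lit 193382) l5088 l5089)))
noncomputable def n665 : T := (.node (nat_lit 193572) (.node (nat_lit 193496) (.node (nat_lit 193458) l5090 l5091) (.node (nat_lit 193534) l5092 l5093)) (.node (nat_lit 193648) (.node (nat_lit 193610) l5094 l5095) (.node (nat_lit 193686) l5096 l5097)))
noncomputable def n666 : T := (.node (nat_lit 193876) (.node (nat_lit 193800) (.node (nat_lit 193762) l5098 l5099) (.node (nat_lit 193838) l5100 l5101)) (.node (nat_lit 193952) (.node (nat_lit 193914) l5102 l5103) (.node (nat_lit 193990) l5104 l5105)))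
noncomputable def n667 : T := (.node (nat_lit 194180) (.node (nat_lit 194104) (.node (nat_lit 194066) l5106 l5107) (.node (nat_lit 194142) l5108 l5109)) (.node (nat_lit 194256) (.node (nat_lit 194218) l5110 l5111) (.node (nat_lit 194294) l5112 l5113)))
noncomputable def n668 : T := (.node (nat_lit 194446) (.node (nat_lit 194370) l5114 (.node (nat_lit 194408) l5115 l5116)) (.node (nat_lit 194522) (.node (nat_lit 194484) l5117 l5118) (.node (nat_lit 194560) l5119 l5120)))
noncomputable def n669 : T := (.node (nat_lit 194750) (.node (nat_lit 194674) (.node (nat_lit 194636) l5121 l5122) (.node (nat_lit 194712) l5123 l5124)) (.node (nat_lit 194826) (.node (nat_lit 194788) l5125 l5126) (.node (nat_lit 194864) l5127 l5128)))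
noncomputable def n670 : T := (.node (nat_lit 195054) (.node (nat_lit 194978) (.node (nat_lit 194940) l5129 l5130) (.node (nat_lit 195016) l5131 l5132)) (.node (nat_lit 195130) (.node (nat_lit 195092) l5133 l5134) (.node (nat_lit 195168) l5135 l5136)))
noncomputable def n671 : T := (.node (nat_lit 195358) (.node (nat_lit 195282) (.node (nat_lit 195244) l5137 l5138) (.node (nat_lit 195320) l5139 l5140)) (.node (nat_lit 195434) (.node (nat_lit 195396) l5141 l5142) (.node (nat_lit 195472) l5143 l5144)))
noncomputable def n672 : T := (.node (nat_lit 195662) (.node (nat_lit 195586) (.node (nat_lit 195548) l5145 l5146) (.node (nat_lit 195624) l5147 l5148)) (.node (nat_lit 195738) (.node (nat_lit 195700) l5149 l5150) (.node (nat_lit 195776) l5151 l5152)))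
noncomputable def n673 : T := (.node (nat_lit 195966) (.node (nat_lit 195890) (.node (nat_lit 195852) l5153 l5154) (.node (nat_lit 195928) l5155 l5156)) (.node (nat_lit 196042) (.node (nat_lit 196004) l5157 l5158) (.node (nat_lit 196080) l5159 l5160)))
noncomputable def n674 : T := (.node (nat_lit 196270) (.node (nat_lit 196194) (.node (nat_lit 196156) l5161 l5162) (.node (nat_lit 196232) l5163 l5164)) (.node (nat_lit 196346) (.node (nat_lit 196308) l5165 l5166) (.node (nat_lit 196384) l5167 l5168)))
noncomputable def n675 : T := (.node (nat_lit 196574) (.node (nat_lit 196498) (.node (nat_lit 196460) l5169 l5170) (.node (nat_lit 196536) l5171 l5172)) (.node (nat_lit 196650) (.node (nat_lit 196612) l5173 l5174) (.node (nat_lit 196688) l5175 l5176)))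
noncomputable def n676 : T := (.node (nat_lit 196840) (.node (nat_lit 196764) l5177 (.node (nat_lit 196802) l5178 l5179)) (.node (nat_lit 196916) (.node (nat_lit 196878) l5180 l5181) (.node (nat_lit 196954) l5182 l5183)))
noncomputable def n677 : T := (.node (nat_lit 197144) (.node (nat_lit 197068) (.node (nat_lit 197030) l5184 l5185) (.node (nat_lit 197106) l5186 l5187)) (.node (nat_lit 197220) (.node (nat_lit 197182) l5188 l5189) (.node (nat_lit 197258) l5190 l5191)))
noncomputable def n678 : T := (.node (nat_lit 197448) (.node (nat_lit 197372) (.node (nat_lit 197334) l5192 l5193) (.node (nat_lit 197410) l5194 l5195)) (.node (nat_lit 197524) (.node (nat_lit 197486) l5196 l5197) (.node (nat_lit 197562) l5198 l5199)))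
noncomputable def n679 : T := (.node (nat_lit 197752) (.node (nat_lit 197676) (.node (nat_lit 197638) l5200 l5201) (.node (nat_lit 197714) l5202 l5203)) (.node (nat_lit 197828) (.node (nat_lit 197790) l5204 l5205) (.node (nat_lit 197866) l5206 l5207)))
noncomputable def n680 : T := (.node (nat_lit 198056) (.node (nat_lit 197980) (.node (nat_lit 197942) l5208 l5209) (.node (nat_lit 198018) l5210 l5211)) (.node (nat_lit 198132) (.node (nat_lit 198094) l5212 l5213) (.node (nat_lit 198170) l5214 l5215)))
noncomputable def n681 : T := (.node (nat_lit 198360) (.node (nat_lit 198284) (.node (nat_lit 198246) l5216 l5217) (.node (nat_lit 198322) l5218 l5219)) (.node (nat_lit 198436) (.node (nat_lit 198398) l5220 l5221) (.node (nat_lit 198474) l5222 l5223)))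
noncomputable def n682 : T := (.node (nat_lit 198664) (.node (nat_lit 198588) (.node (nat_lit 198550) l5224 l5225) (.node (nat_lit 198626) l5226 l5227)) (.node (nat_lit 198740) (.node (nat_lit 198702) l5228 l5229) (.node (nat_lit 198778) l5230 l5231)))
noncomputable def n683 : T := (.node (nat_lit 198968) (.node (nat_lit 198892) (.node (nat_lit 198854) l5232 l5233) (.node (nat_lit 198930) l5234 l5235)) (.node (nat_lit 199044) (.node (nat_lit 199006) l5236 l5237) (.node (nat_lit 199082) l5238 l5239)))
noncomputable def n684 : T := (.node (nat_lit 199234) (.node (nat_lit 199158) l5240 (.node (nat_lit 199196) l5241 l5242)) (.node (nat_lit 199310) (.node (nat_lit 199272) l5243 l5244) (.node (nat_lit 199348) l5245 l5246)))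
noncomputable def n685 : T := (.node (nat_lit 199538) (.node (nat_lit 199462) (.node (nat_lit 199424) l5247 l5248) (.node (nat_lit 199500) l5249 l5250)) (.node (nat_lit 199614) (.node (nat_lit 199576) l5251 l5252) (.node (nat_lit 199652) l5253 l5254)))
noncomputable def n686 : T := (.node (nat_lit 199842) (.node (nat_lit 199766) (.node (nat_lit 199728) l5255 l5256) (.node (nat_lit 199804) l5257 l5258)) (.node (nat_lit 199918) (.node (nat_lit 199880) l5259 l5260) (.node (nat_lit 199956) l5261 l5262)))
noncomputable def n687 : T := (.node (nat_lit 200146) (.node (nat_lit 200070) (.node (nat_lit 200032) l5263 l5264) (.node (nat_lit 200108) l5265 l5266)) (.node (nat_lit 200222) (.node (nat_lit 200184) l5267 l5268) (.node (nat_lit 200260) l5269 l5270)))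
noncomputable def n688 : T := (.node (nat_lit 200450) (.node (nat_lit 200374) (.node (nat_lit 200336) l5271 l5272) (.node (nat_lit 200412) l5273 l5274)) (.node (nat_lit 200526) (.node (nat_lit 200488) l5275 l5276) (.node (nat_lit 200564) l5277 l5278)))
noncomputable def n689 : T := (.node (nat_lit 200754) (.node (nat_lit 200678) (.node (nat_lit 200640) l5279 l5280) (.node (nat_lit 200716) l5281 l5282)) (.node (nat_lit 200830) (.node (nat_lit 200792) l5283 l5284) (.node (nat_lit 200868) l5285 l5286)))
noncomputable def n690 : T := (.node (nat_lit 201058) (.node (nat_lit 200982) (.node (nat_lit 200944) l5287 l5288) (.node (nat_lit 201020) l5289 l5290)) (.node (nat_lit 201134) (.node (nat_lit 201096) l5291 l5292) (.node (nat_lit 201172) l5293 l5294)))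
noncomputable def n691 : T := (.node (nat_lit 201362) (.node (nat_lit 201286) (.node (nat_lit 201248) l5295 l5296) (.node (nat_lit 201324) l5297 l5298)) (.node (nat_lit 201438) (.node (nat_lit 201400) l5299 l5300) (.node (nat_lit 201476) l5301 l5302)))
noncomputable def n692 : T := (.node (nat_lit 196726) (.node (nat_lit 194332) (.node (nat_lit 193116) (.node (nat_lit 192508) (.node (nat_lit 192204) n660 n661) (.node (nat_lit 192812) n662 n663)) (.node (nat_lit 193724) (.node (nat_lit 193420) n664 n665) (.node (nat_lit 194028) n666 n667))) (.node (nat_lit 195510) (.node (nat_lit 194902) (.node (nat_lit 194598) n668 n669) (.node (nat_lit 195206) n670 n671)) (.node (nat_lit 196118) (.node (nat_lit 195814) n672 n673) (.node (nat_lit 196422) n674 n675)))) (.node (nat_lit 199120) (.node (nat_lit 197904) (.node (nat_lit 197296) (.node (nat_lit 196992) n676 n677) (.node (nat_lit 197600) n678 n679)) (.node (nat_lit 198512) (.node (nat_lit 198208) n680 n681) (.node (nat_lit 198816) n682 n683))) (.node (nat_lit 200298)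 (.node (nat_lit 199690) (.node (nat_lit 199386) n684 n685) (.node (nat_lit 199994) n686 n687)) (.node (nat_lit 200906) (.node (nat_lit 200602) n688 n689) (.node (nat_lit 201210) n690 n691)))))
noncomputable def n693 : T := (.node (nat_lit 201628) (.node (nat_lit 201552) l5303 (.node (nat_lit 201590) l5304 l5305)) (.node (nat_lit 201704) (.node (nat_lit 201666) l5306 l5307) (.node (nat_lit 201742) l5308 l5309)))
noncomputable def n694 : T := (.node (nat_lit 201932) (.node (nat_lit 201856) (.node (nat_lit 201818) l5310 l5311) (.node (nat_lit 201894) l5312 l5313)) (.node (nat_lit 202008) (.node (nat_lit 201970) l5314 l5315) (.node (nat_lit 202046) l5316 l5317)))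
noncomputable def n695 : T := (.node (nat_lit 202236) (.node (nat_lit 202160) (.node (nat_lit 202122) l5318 l5319) (.node (nat_lit 202198) l5320 l5321)) (.node (nat_lit 202312) (.node (nat_lit 202274) l5322 l5323) (.node (nat_lit 202350) l5324 l5325)))
noncomputable def n696 : T := (.node (nat_lit 202540) (.node (nat_lit 202464) (.node (nat_lit 202426) l5326 l5327) (.node (nat_lit 202502) l5328 l5329)) (.node (nat_lit 202616) (.node (nat_lit 202578) l5330 l5331) (.node (nat_lit 202654) l5332 l5333)))
noncomputable def n697 : T := (.node (nat_lit 202844) (.node (nat_lit 202768) (.node (nat_lit 202730) l5334 l5335) (.node (nat_lit 202806) l5336 l5337)) (.node (nat_lit 202920) (.node (nat_lit 202882) l5338 l5339) (.node (nat_lit 202958) l5340 l5341)))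
noncomputable def n698 : T := (.node (nat_lit 203148) (.node (nat_lit 203072) (.node (nat_lit 203034) l5342 l5343) (.node (nat_lit 203110) l5344 l5345)) (.node (nat_lit 203224) (.node (nat_lit 203186) l5346 l5347) (.node (nat_lit 203262) l5348 l5349)))
noncomputable def n699 : T := (.node (nat_lit 203452) (.node (nat_lit 203376) (.node (nat_lit 203338) l5350 l5351) (.node (nat_lit 203414) l5352 l5353)) (.node (nat_lit 203528) (.node (nat_lit 203490) l5354 l5355) (.node (nat_lit 203566) l5356 l5357)))
noncomputable def n700 : T := (.node (nat_lit 203756) (.node (nat_lit 203680) (.node (nat_lit 203642) l5358 l5359) (.node (nat_lit 203718) l5360 l5361)) (.node (nat_lit 203832) (.node (nat_lit 203794) l5362 l5363) (.node (nat_lit 203870) l5364 l5365)))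
noncomputable def n701 : T := (.node (nat_lit 204022) (.node (nat_lit 203946) l5366 (.node (nat_lit 203984) l5367 l5368)) (.node (nat_lit 204098) (.node (nat_lit 204060) l5369 l5370) (.node (nat_lit 204136) l5371 l5372)))
noncomputable def n702 : T := (.node (nat_lit 204326) (.node (nat_lit 204250) (.node (nat_lit 204212) l5373 l5374) (.node (nat_lit 204288) l5375 l5376)) (.node (nat_lit 204402) (.node (nat_lit 204364) l5377 l5378) (.node (nat_lit 204440) l5379 l5380)))
noncomputable def n703 : T := (.node (nat_lit 204630) (.node (nat_lit 204554) (.node (nat_lit 204516) l5381 l5382) (.node (nat_lit 204592) l5383 l5384)) (.node (nat_lit 204706) (.node (nat_lit 204668) l5385 l5386) (.node (nat_lit 204744) l5387 l5388)))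
noncomputable def n704 : T := (.node (nat_lit 204934) (.node (nat_lit 204858) (.node (nat_lit 204820) l5389 l5390) (.node (nat_lit 204896) l5391 l5392)) (.node (nat_lit 205010) (.node (nat_lit 204972) l5393 l5394) (.node (nat_lit 205048) l5395 l5396)))
noncomputable def n705 : T := (.node (nat_lit 205238) (.node (nat_lit 205162) (.node (nat_lit 205124) l5397 l5398) (.node (nat_lit 205200) l5399 l5400)) (.node (nat_lit 205314) (.node (nat_lit 205276) l5401 l5402) (.node (nat_lit 205352) l5403 l5404)))
noncomputable def n706 : T := (.node (nat_lit 205542) (.node (nat_lit 205466) (.node (nat_lit 205428) l5405 l5406) (.node (nat_lit 205504) l5407 l5408)) (.node (nat_lit 205618) (.node (nat_lit 205580) l5409 l5410) (.node (nat_lit 205656) l5411 l5412)))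
noncomputable def n707 : T := (.node (nat_lit 205846) (.node (nat_lit 205770) (.node (nat_lit 205732) l5413 l5414) (.node (nat_lit 205808) l5415 l5416)) (.node (nat_lit 205922) (.node (nat_lit 205884) l5417 l5418) (.node (nat_lit 205960) l5419 l5420)))
noncomputable def n708 : T := (.node (nat_lit 206150) (.node (nat_lit 206074) (.node (nat_lit 206036) l5421 l5422) (.node (nat_lit 206112) l5423 l5424)) (.node (nat_lit 206226) (.node (nat_lit 206188) l5425 l5426) (.node (nat_lit 206264) l5427 l5428)))
noncomputable def n709 : T := (.node (nat_lit 206416) (.node (nat_lit 206340) l5429 (.node (nat_lit 206378) l5430 l5431)) (.node (nat_lit 206492) (.node (nat_lit 206454) l5432 l5433) (.node (nat_lit 206530) l5434 l5435)))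
noncomputable def n710 : T := (.node (nat_lit 206720) (.node (nat_lit 206644) (.node (nat_lit 206606) l5436 l5437) (.node (nat_lit 206682) l5438 l5439)) (.node (nat_lit 206796) (.node (nat_lit 206758) l5440 l5441) (.node (nat_lit 206834) l5442 l5443)))
noncomputable def n711 : T := (.node (nat_lit 207024) (.node (nat_lit 206948) (.node (nat_lit 206910) l5444 l5445) (.node (nat_lit 206986) l5446 l5447)) (.node (nat_lit 207100) (.node (nat_lit 207062) l5448 l5449) (.node (nat_lit 207138) l5450 l5451)))
noncomputable def n712 : T := (.node (nat_lit 207328) (.node (nat_lit 207252) (.node (nat_lit 207214) l5452 l5453) (.node (nat_lit 207290) l5454 l5455)) (.node (nat_lit 207404) (.node (nat_lit 207366) l5456 l5457) (.node (nat_lit 207442) l5458 l5459)))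
noncomputable def n713 : T := (.node (nat_lit 207632) (.node (nat_lit 207556) (.node (nat_lit 207518) l5460 l5461) (.node (nat_lit 207594) l5462 l5463)) (.node (nat_lit 207708) (.node (nat_lit 207670) l5464 l5465) (.node (nat_lit 207746) l5466 l5467)))
noncomputable def n714 : T := (.node (nat_lit 207936) (.node (nat_lit 207860) (.node (nat_lit 207822) l5468 l5469) (.node (nat_lit 207898) l5470 l5471)) (.node (nat_lit 208012) (.node (nat_lit 207974) l5472 l5473) (.node (nat_lit 208050) l5474 l5475)))
noncomputable def n715 : T := (.node (nat_lit 208240) (.node (nat_lit 208164) (.node (nat_lit 208126) l5476 l5477) (.node (nat_lit 208202) l5478 l5479)) (.node (nat_lit 208316) (.node (nat_lit 208278) l5480 l5481) (.node (nat_lit 208354) l5482 l5483)))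
noncomputable def n716 : T := (.node (nat_lit 208544) (.node (nat_lit 208468) (.node (nat_lit 208430) l5484 l5485) (.node (nat_lit 208506) l5486 l5487)) (.node (nat_lit 208620) (.node (nat_lit 208582) l5488 l5489) (.node (nat_lit 208658) l5490 l5491)))
noncomputable def n717 : T := (.node (nat_lit 208848) (.node (nat_lit 208772) (.node (nat_lit 208734) l5492 l5493) (.node (nat_lit 208810) l5494 l5495)) (.node (nat_lit 208924) (.node (nat_lit 208886) l5496 l5497) (.node (nat_lit 208962) l5498 l5499)))
noncomputable def n718 : T := (.node (nat_lit 209152) (.node (nat_lit 209076) (.node (nat_lit 209038) l5500 l5501) (.node (nat_lit 209114) l5502 l5503)) (.node (nat_lit 209228) (.node (nat_lit 209190) l5504 l5505) (.node (nat_lit 209266) l5506 l5507)))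
noncomputable def n719 : T := (.node (nat_lit 209456) (.node (nat_lit 209380) (.node (nat_lit 209342) l5508 l5509) (.node (nat_lit 209418) l5510 l5511)) (.node (nat_lit 209532) (.node (nat_lit 209494) l5512 l5513) (.node (nat_lit 209570) l5514 l5515)))
noncomputable def n720 : T := (.node (nat_lit 209760) (.node (nat_lit 209684) (.node (nat_lit 209646) l5516 l5517) (.node (nat_lit 209722) l5518 l5519)) (.node (nat_lit 209836) (.node (nat_lit 209798) l5520 l5521) (.node (nat_lit 209874) l5522 l5523)))
noncomputable def n721 : T := (.node (nat_lit 210064) (.node (nat_lit 209988) (.node (nat_lit 209950) l5524 l5525) (.node (nat_lit 210026) l5526 l5527)) (.node (nat_lit 210140) (.node (nat_lit 210102) l5528 l5529) (.node (nat_lit 210178) l5530 l5531)))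
noncomputable def n722 : T := (.node (nat_lit 210368) (.node (nat_lit 210292) (.node (nat_lit 210254) l5532 l5533) (.node (nat_lit 210330) l5534 l5535)) (.node (nat_lit 210444) (.node (nat_lit 210406) l5536 l5537) (.node (nat_lit 210482) l5538 l5539)))
noncomputable def n723 : T := (.node (nat_lit 210672) (.node (nat_lit 210596) (.node (nat_lit 210558) l5540 l5541) (.node (nat_lit 210634) l5542 l5543)) (.node (nat_lit 210748) (.node (nat_lit 210710) l5544 l5545) (.node (nat_lit 210786) l5546 l5547)))
noncomputable def n724 : T := (.node (nat_lit 210976) (.node (nat_lit 210900) (.node (nat_lit 210862) l5548 l5549) (.node (nat_lit 210938) l5550 l5551)) (.node (nat_lit 211052) (.node (nat_lit 211014) l5552 l5553) (.node (nat_lit 211090) l5554 l5555)))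
noncomputable def n725 : T := (.node (nat_lit 206302) (.node (nat_lit 203908) (.node (nat_lit 202692) (.node (nat_lit 202084) (.node (nat_lit 201780) n693 n694) (.node (nat_lit 202388) n695 n696)) (.node (nat_lit 203300) (.node (nat_lit 202996) n697 n698) (.node (nat_lit 203604) n699 n700))) (.node (nat_lit 205086) (.node (nat_lit 204478) (.node (nat_lit 204174) n701 n702) (.node (nat_lit 204782) n703 n704)) (.node (nat_lit 205694) (.node (nat_lit 205390) n705 n706) (.node (nat_lit 205998) n707 n708)))) (.node (nat_lit 208696) (.node (nat_lit 207480) (.node (nat_lit 206872) (.node (nat_lit 206568) n709 n710) (.node (nat_lit 207176) n711 n712)) (.node (nat_lit 208088) (.node (nat_lit 207784) n713 n714) (.node (nat_lit 208392) n715 n716))) (.node (nat_lit 209912) (.node (nat_lit 209304) (.node (nat_lit 209000) n717 n718) (.node (nat_lit 209608) n719 n720)) (.node (nat_lit 210520) (.node (nat_lit 210216) n721 n722) (.node (nat_lit 210824) n723 n724)))))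
noncomputable def n726 : T := (.node (nat_lit 211242) (.node (nat_lit 211166) l5556 (.node (nat_lit 211204) l5557 l5558)) (.node (nat_lit 211318) (.node (nat_lit 211280) l5559 l5560) (.node (nat_lit 211356) l5561 l5562)))
noncomputable def n727 : T := (.node (nat_lit 211546) (.node (nat_lit 211470) (.node (nat_lit 211432) l5563 l5564) (.node (nat_lit 211508) l5565 l5566)) (.node (nat_lit 211622) (.node (nat_lit 211584) l5567 l5568) (.node (nat_lit 211660) l5569 l5570)))
noncomputable def n728 : T := (.node (nat_lit 211850) (.node (nat_lit 211774) (.node (nat_lit 211736) l5571 l5572) (.node (nat_lit 211812) l5573 l5574)) (.node (nat_lit 211926) (.node (nat_lit 211888) l5575 l5576) (.node (nat_lit 211964) l5577 l5578)))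
noncomputable def n729 : T := (.node (nat_lit 212154) (.node (nat_lit 212078) (.node (nat_lit 212040) l5579 l5580) (.node (nat_lit 212116) l5581 l5582)) (.node (nat_lit 212230) (.node (nat_lit 212192) l5583 l5584) (.node (nat_lit 212268) l5585 l5586)))
noncomputable def n730 : T := (.node (nat_lit 212458) (.node (nat_lit 212382) (.node (nat_lit 212344) l5587 l5588) (.node (nat_lit 212420) l5589 l5590)) (.node (nat_lit 212534) (.node (nat_lit 212496) l5591 l5592) (.node (nat_lit 212572) l5593 l5594)))
noncomputable def n731 : T := (.node (nat_lit 212762) (.node (nat_lit 212686) (.node (nat_lit 212648) l5595 l5596) (.node (nat_lit 212724) l5597 l5598)) (.node (nat_lit 212838) (.node (nat_lit 212800) l5599 l5600) (.node (nat_lit 212876) l5601 l5602)))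
noncomputable def n732 : T := (.node (nat_lit 213066) (.node (nat_lit 212990) (.node (nat_lit 212952) l5603 l5604) (.node (nat_lit 213028) l5605 l5606)) (.node (nat_lit 213142) (.node (nat_lit 213104) l5607 l5608) (.node (nat_lit 213180) l5609 l5610)))
noncomputable def n733 : T := (.node (nat_lit 213370) (.node (nat_lit 213294) (.node (nat_lit 213256) l5611 l5612) (.node (nat_lit 213332) l5613 l5614)) (.node (nat_lit 213446) (.node (nat_lit 213408) l5615 l5616) (.node (nat_lit 213484) l5617 l5618)))
noncomputable def n734 : T := (.node (nat_lit 213636) (.node (nat_lit 213560) l5619 (.node (nat_lit 213598) l5620 l5621)) (.node (nat_lit 213712) (.node (nat_lit 213674) l5622 l5623) (.node (nat_lit 213750) l5624 l5625)))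
noncomputable def n735 : T := (.node (nat_lit 213940) (.node (nat_lit 213864) (.node (nat_lit 213826) l5626 l5627) (.node (nat_lit 213902) l5628 l5629)) (.node (nat_lit 214016) (.node (nat_lit 213978) l5630 l5631) (.node (nat_lit 214054) l5632 l5633)))
noncomputable def n736 : T := (.node (nat_lit 214244) (.node (nat_lit 214168) (.node (nat_lit 214130) l5634 l5635) (.node (nat_lit 214206) l5636 l5637)) (.node (nat_lit 214320) (.node (nat_lit 214282) l5638 l5639) (.node (nat_lit 214358) l5640 l5641)))
noncomputable def n737 : T := (.node (nat_lit 214548) (.node (nat_lit 214472) (.node (nat_lit 214434) l5642 l5643) (.node (nat_lit 214510) l5644 l5645)) (.node (nat_lit 214624) (.node (nat_lit 214586) l5646 l5647) (.node (nat_lit 214662) l5648 l5649)))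
noncomputable def n738 : T := (.node (nat_lit 214852) (.node (nat_lit 214776) (.node (nat_lit 214738) l5650 l5651) (.node (nat_lit 214814) l5652 l5653)) (.node (nat_lit 214928) (.node (nat_lit 214890) l5654 l5655) (.node (nat_lit 214966) l5656 l5657)))
noncomputable def n739 : T := (.node (nat_lit 215156) (.node (nat_lit 215080) (.node (nat_lit 215042) l5658 l5659) (.node (nat_lit 215118) l5660 l5661)) (.node (nat_lit 215232) (.node (nat_lit 215194) l5662 l5663) (.node (nat_lit 215270) l5664 l5665)))
noncomputable def n740 : T := (.node (nat_lit 215460) (.node (nat_lit 215384) (.node (nat_lit 215346) l5666 l5667) (.node (nat_lit 215422) l5668 l5669)) (.node (nat_lit 215536) (.node (nat_lit 215498) l5670 l5671) (.node (nat_lit 215574) l5672 l5673)))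
noncomputable def n741 : T := (.node (nat_lit 215764) (.node (nat_lit 215688) (.node (nat_lit 215650) l5674 l5675) (.node (nat_lit 215726) l5676 l5677)) (.node (nat_lit 215840) (.node (nat_lit 215802) l5678 l5679) (.node (nat_lit 215878) l5680 l5681)))
noncomputable def n742 : T := (.node (nat_lit 216030) (.node (nat_lit 215954) l5682 (.node (nat_lit 215992) l5683 l5684)) (.node (nat_lit 216106) (.node (nat_lit 216068) l5685 l5686) (.node (nat_lit 216144) l5687 l5688)))
noncomputable def n743 : T := (.node (nat_lit 216334) (.node (nat_lit 216258) (.node (nat_lit 216220) l5689 l5690) (.node (nat_lit 216296) l5691 l5692)) (.node (nat_lit 216410) (.node (nat_lit 216372) l5693 l5694) (.node (nat_lit 216448) l5695 l5696)))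
noncomputable def n744 : T := (.node (nat_lit 216638) (.node (nat_lit 216562) (.node (nat_lit 216524) l5697 l5698) (.node (nat_lit 216600) l5699 l5700)) (.node (nat_lit 216714) (.node (nat_lit 216676) l5701 l5702) (.node (nat_lit 216752) l5703 l5704)))
noncomputable def n745 : T := (.node (nat_lit 216942) (.node (nat_lit 216866) (.node (nat_lit 216828) l5705 l5706) (.node (nat_lit 216904) l5707 l5708)) (.node (nat_lit 217018) (.node (nat_lit 216980) l5709 l5710) (.node (nat_lit 217056) l5711 l5712)))
noncomputable def n746 : T := (.node (nat_lit 217246) (.node (nat_lit 217170) (.node (nat_lit 217132) l5713 l5714) (.node (nat_lit 217208) l5715 l5716)) (.node (nat_lit 217322) (.node (nat_lit 217284) l5717 l5718) (.node (nat_lit 217360) l5719 l5720)))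
noncomputable def n747 : T := (.node (nat_lit 217550) (.node (nat_lit 217474) (.node (nat_lit 217436) l5721 l5722) (.node (nat_lit 217512) l5723 l5724)) (.node (nat_lit 217626) (.node (nat_lit 217588) l5725 l5726) (.node (nat_lit 217664) l5727 l5728)))
noncomputable def n748 : T := (.node (nat_lit 217854) (.node (nat_lit 217778) (.node (nat_lit 217740) l5729 l5730) (.node (nat_lit 217816) l5731 l5732)) (.node (nat_lit 217930) (.node (nat_lit 217892) l5733 l5734) (.node (nat_lit 217968) l5735 l5736)))
noncomputable def n749 : T := (.node (nat_lit 218158) (.node (nat_lit 218082) (.node (nat_lit 218044) l5737 l5738) (.node (nat_lit 218120) l5739 l5740)) (.node (nat_lit 218234) (.node (nat_lit 218196) l5741 l5742) (.node (nat_lit 218272) l5743 l5744)))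
noncomputable def n750 : T := (.node (nat_lit 218462) (.node (nat_lit 218386) (.node (nat_lit 218348) l5745 l5746) (.node (nat_lit 218424) l5747 l5748)) (.node (nat_lit 218538) (.node (nat_lit 218500) l5749 l5750) (.node (nat_lit 218576) l5751 l5752)))
noncomputable def n751 : T := (.node (nat_lit 218766) (.node (nat_lit 218690) (.node (nat_lit 218652) l5753 l5754) (.node (nat_lit 218728) l5755 l5756)) (.node (nat_lit 218842) (.node (nat_lit 218804) l5757 l5758) (.node (nat_lit 218880) l5759 l5760)))
noncomputable def n752 : T := (.node (nat_lit 219070) (.node (nat_lit 218994) (.node (nat_lit 218956) l5761 l5762) (.node (nat_lit 219032) l5763 l5764)) (.node (nat_lit 219146) (.node (nat_lit 219108) l5765 l5766) (.node (nat_lit 219184) l5767 l5768)))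
noncomputable def n753 : T := (.node (nat_lit 219374) (.node (nat_lit 219298) (.node (nat_lit 219260) l5769 l5770) (.node (nat_lit 219336) l5771 l5772)) (.node (nat_lit 219450) (.node (nat_lit 219412) l5773 l5774) (.node (nat_lit 219488) l5775 l5776)))
noncomputable def n754 : T := (.node (nat_lit 219678) (.node (nat_lit 219602) (.node (nat_lit 219564) l5777 l5778) (.node (nat_lit 219640) l5779 l5780)) (.node (nat_lit 219754) (.node (nat_lit 219716) l5781 l5782) (.node (nat_lit 219792) l5783 l5784)))
noncomputable def n755 : T := (.node (nat_lit 219982) (.node (nat_lit 219906) (.node (nat_lit 219868) l5785 l5786) (.node (nat_lit 219944) l5787 l5788)) (.node (nat_lit 220058) (.node (nat_lit 220020) l5789 l5790) (.node (nat_lit 220096) l5791 l5792)))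
noncomputable def n756 : T := (.node (nat_lit 220286) (.node (nat_lit 220210) (.node (nat_lit 220172) l5793 l5794) (.node (nat_lit 220248) l5795 l5796)) (.node (nat_lit 220362) (.node (nat_lit 220324) l5797 l5798) (.node (nat_lit 220400) l5799 l5800)))
noncomputable def n757 : T := (.node (nat_lit 220590) (.node (nat_lit 220514) (.node (nat_lit 220476) l5801 l5802) (.node (nat_lit 220552) l5803 l5804)) (.node (nat_lit 220666) (.node (nat_lit 220628) l5805 l5806) (.node (nat_lit 220704) l5807 l5808)))
noncomputable def n758 : T := (.node (nat_lit 215916) (.node (nat_lit 213522) (.node (nat_lit 212306) (.node (nat_lit 211698) (.node (nat_lit 211394) n726 n727) (.node (nat_lit 212002) n728 n729)) (.node (nat_lit 212914) (.node (nat_lit 212610) n730 n731) (.node (nat_lit 213218) n732 n733))) (.node (nat_lit 214700) (.node (nat_lit 214092) (.node (nat_lit 213788) n734 n735) (.node (nat_lit 214396) n736 n737)) (.node (nat_lit 215308) (.node (nat_lit 215004) n738 n739) (.node (nat_lit 215612) n740 n741)))) (.node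 (nat_lit 218310) (.node (nat_lit 217094) (.node (nat_lit 216486) (.node (nat_lit 216182) n742 n743) (.node (nat_lit 216790) n744 n745)) (.node (nat_lit 217702) (.node (nat_lit 217398) n746 n747) (.node (nat_lit 218006) n748 n749))) (.node (nat_lit 219526) (.node (nat_lit 218918) (.node (nat_lit 218614) n750 n751) (.node (nat_lit 219222) n752 n753)) (.node (nat_lit 220134) (.node (nat_lit 219830) n754 n755) (.node (nat_lit 220438) n756 n757)))))
noncomputable def n759 : T := (.node (nat_lit 220856) (.node (nat_lit 220780) l5809 (.node (nat_lit 220818) l5810 l5811)) (.node (nat_lit 220932) (.node (nat_lit 220894) l5812 l5813) (.node (nat_lit 220970) l5814 l5815)))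
noncomputable def n760 : T := (.node (nat_lit 221160) (.node (nat_lit 221084) (.node (nat_lit 221046) l5816 l5817) (.node (nat_lit 221122) l5818 l5819)) (.node (nat_lit 221236) (.node (nat_lit 221198) l5820 l5821) (.node (nat_lit 221274) l5822 l5823)))
noncomputable def n761 : T := (.node (nat_lit 221464) (.node (nat_lit 221388) (.node (nat_lit 221350) l5824 l5825) (.node (nat_lit 221426) l5826 l5827)) (.node (nat_lit 221540) (.node (nat_lit 221502) l5828 l5829) (.node (nat_lit 221578) l5830 l5831)))
noncomputable def n762 : T := (.node (nat_lit 221768) (.node (nat_lit 221692) (.node (nat_lit 221654) l5832 l5833) (.node (nat_lit 221730) l5834 l5835)) (.node (nat_lit 221844) (.node (nat_lit 221806) l5836 l5837) (.node (nat_lit 221882) l5838 l5839)))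
noncomputable def n763 : T := (.node (nat_lit 222072) (.node (nat_lit 221996) (.node (nat_lit 221958) l5840 l5841) (.node (nat_lit 222034) l5842 l5843)) (.node (nat_lit 222148) (.node (nat_lit 222110) l5844 l5845) (.node (nat_lit 222186) l5846 l5847)))
noncomputable def n764 : T := (.node (nat_lit 222376) (.node (nat_lit 222300) (.node (nat_lit 222262) l5848 l5849) (.node (nat_lit 222338) l5850 l5851)) (.node (nat_lit 222452) (.node (nat_lit 222414) l5852 l5853) (.node (nat_lit 222490) l5854 l5855)))
noncomputable def n765 : T := (.node (nat_lit 222680) (.node (nat_lit 222604) (.node (nat_lit 222566) l5856 l5857) (.node (nat_lit 222642) l5858 l5859)) (.node (nat_lit 222756) (.node (nat_lit 222718) l5860 l5861) (.node (nat_lit 222794) l5862 l5863)))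
noncomputable def n766 : T := (.node (nat_lit 222984) (.node (nat_lit 222908) (.node (nat_lit 222870) l5864 l5865) (.node (nat_lit 222946) l5866 l5867)) (.node (nat_lit 223060) (.node (nat_lit 223022) l5868 l5869) (.node (nat_lit 223098) l5870 l5871)))
noncomputable def n767 : T := (.node (nat_lit 223250) (.node (nat_lit 223174) l5872 (.node (nat_lit 223212) l5873 l5874)) (.node (nat_lit 223326) (.node (nat_lit 223288) l5875 l5876) (.node (nat_lit 223364) l5877 l5878)))
noncomputable def n768 : T := (.node (nat_lit 223554) (.node (nat_lit 223478) (.node (nat_lit 223440) l5879 l5880) (.node (nat_lit 223516) l5881 l5882)) (.node (nat_lit 223630) (.node (nat_lit 223592) l5883 l5884) (.node (nat_lit 223668) l5885 l5886)))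
noncomputable def n769 : T := (.node (nat_lit 223858) (.node (nat_lit 223782) (.node (nat_lit 223744) l5887 l5888) (.node (nat_lit 223820) l5889 l5890)) (.node (nat_lit 223934) (.node (nat_lit 223896) l5891 l5892) (.node (nat_lit 223972) l5893 l5894)))
noncomputable def n770 : T := (.node (nat_lit 224162) (.node (nat_lit 224086) (.node (nat_lit 224048) l5895 l5896) (.node (nat_lit 224124) l5897 l5898)) (.node (nat_lit 224238) (.node (nat_lit 224200) l5899 l5900) (.node (nat_lit 224276) l5901 l5902)))
noncomputable def n771 : T := (.node (nat_lit 224466) (.node (nat_lit 224390) (.node (nat_lit 224352) l5903 l5904) (.node (nat_lit 224428) l5905 l5906)) (.node (nat_lit 224542) (.node (nat_lit 224504) l5907 l5908) (.node (nat_lit 224580) l5909 l5910)))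
noncomputable def n772 : T := (.node (nat_lit 224770) (.node (nat_lit 224694) (.node (nat_lit 224656) l5911 l5912) (.node (nat_lit 224732) l5913 l5914)) (.node (nat_lit 224846) (.node (nat_lit 224808) l5915 l5916) (.node (nat_lit 224884) l5917 l5918)))
noncomputable def n773 : T := (.node (nat_lit 225074) (.node (nat_lit 224998) (.node (nat_lit 224960) l5919 l5920) (.node (nat_lit 225036) l5921 l5922)) (.node (nat_lit 225150) (.node (nat_lit 225112) l5923 l5924) (.node (nat_lit 225188) l5925 l5926)))
noncomputable def n774 : T := (.node (nat_lit 225378) (.node (nat_lit 225302) (.node (nat_lit 225264) l5927 l5928) (.node (nat_lit 225340) l5929 l5930)) (.node (nat_lit 225454) (.node (nat_lit 225416) l5931 l5932) (.node (nat_lit 225492) l5933 l5934)))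
noncomputable def n775 : T := (.node (nat_lit 225644) (.node (nat_lit 225568) l5935 (.node (nat_lit 225606) l5936 l5937)) (.node (nat_lit 225720) (.node (nat_lit 225682) l5938 l5939) (.node (nat_lit 225758) l5940 l5941)))
noncomputable def n776 : T := (.node (nat_lit 225948) (.node (nat_lit 225872) (.node (nat_lit 225834) l5942 l5943) (.node (nat_lit 225910) l5944 l5945)) (.node (nat_lit 226024) (.node (nat_lit 225986) l5946 l5947) (.node (nat_lit 226062) l5948 l5949)))
noncomputable def n777 : T := (.node (nat_lit 226252) (.node (nat_lit 226176) (.node (nat_lit 226138) l5950 l5951) (.node (nat_lit 226214) l5952 l5953)) (.node (nat_lit 226328) (.node (nat_lit 226290) l5954 l5955) (.node (nat_lit 226366) l5956 l5957)))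
noncomputable def n778 : T := (.node (nat_lit 226556) (.node (nat_lit 226480) (.node (nat_lit 226442) l5958 l5959) (.node (nat_lit 226518) l5960 l5961)) (.node (nat_lit 226632) (.node (nat_lit 226594) l5962 l5963) (.node (nat_lit 226670) l5964 l5965)))
noncomputable def n779 : T := (.node (nat_lit 226860) (.node (nat_lit 226784) (.node (nat_lit 226746) l5966 l5967) (.node (nat_lit 226822) l5968 l5969)) (.node (nat_lit 226936) (.node (nat_lit 226898) l5970 l5971) (.node (nat_lit 226974) l5972 l5973)))
noncomputable def n780 : T := (.node (nat_lit 227164) (.node (nat_lit 227088) (.node (nat_lit 227050) l5974 l5975) (.node (nat_lit 227126) l5976 l5977)) (.node (nat_lit 227240) (.node (nat_lit 227202) l5978 l5979) (.node (nat_lit 227278) l5980 l5981)))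
noncomputable def n781 : T := (.node (nat_lit 227468) (.node (nat_lit 227392) (.node (nat_lit 227354) l5982 l5983) (.node (nat_lit 227430) l5984 l5985)) (.node (nat_lit 227544) (.node (nat_lit 227506) l5986 l5987) (.node (nat_lit 227582) l5988 l5989)))
noncomputable def n782 : T := (.node (nat_lit 227772) (.node (nat_lit 227696) (.node (nat_lit 227658) l5990 l5991) (.node (nat_lit 227734) l5992 l5993)) (.node (nat_lit 227848) (.node (nat_lit 227810) l5994 l5995) (.node (nat_lit 227886) l5996 l5997)))
noncomputable def n783 : T := (.node (nat_lit 228076) (.node (nat_lit 228000) (.node (nat_lit 227962) l5998 l5999) (.node (nat_lit 228038) l6000 l6001)) (.node (nat_lit 228152) (.node (nat_lit 228114) l6002 l6003) (.node (nat_lit 228190) l6004 l6005)))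
noncomputable def n784 : T := (.node (nat_lit 228380) (.node (nat_lit 228304) (.node (nat_lit 228266) l6006 l6007) (.node (nat_lit 228342) l6008 l6009)) (.node (nat_lit 228456) (.node (nat_lit 228418) l6010 l6011) (.node (nat_lit 228494) l6012 l6013)))
noncomputable def n785 : T := (.node (nat_lit 228684) (.node (nat_lit 228608) (.node (nat_lit 228570) l6014 l6015) (.node (nat_lit 228646) l6016 l6017)) (.node (nat_lit 228760) (.node (nat_lit 228722) l6018 l6019) (.node (nat_lit 228798) l6020 l6021)))
noncomputable def n786 : T := (.node (nat_lit 228988) (.node (nat_lit 228912) (.node (nat_lit 228874) l6022 l6023) (.node (nat_lit 228950) l6024 l6025)) (.node (nat_lit 229064) (.node (nat_lit 229026) l6026 l6027) (.node (nat_lit 229102) l6028 l6029)))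
noncomputable def n787 : T := (.node (nat_lit 229292) (.node (nat_lit 229216) (.node (nat_lit 229178) l6030 l6031) (.node (nat_lit 229254) l6032 l6033)) (.node (nat_lit 229368) (.node (nat_lit 229330) l6034 l6035) (.node (nat_lit 229406) l6036 l6037)))
noncomputable def n788 : T := (.node (nat_lit 229596) (.node (nat_lit 229520) (.node (nat_lit 229482) l6038 l6039) (.node (nat_lit 229558) l6040 l6041)) (.node (nat_lit 229672) (.node (nat_lit 229634) l6042 l6043) (.node (nat_lit 229710) l6044 l6045)))
noncomputable def n789 : T := (.node (nat_lit 229900) (.node (nat_lit 229824) (.node (nat_lit 229786) l6046 l6047) (.node (nat_lit 229862) l6048 l6049)) (.node (nat_lit 229976) (.node (nat_lit 229938) l6050 l6051) (.node (nat_lit 230014) l6052 l6053)))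
noncomputable def n790 : T := (.node (nat_lit 230204) (.node (nat_lit 230128) (.node (nat_lit 230090) l6054 l6055) (.node (nat_lit 230166) l6056 l6057)) (.node (nat_lit 230280) (.node (nat_lit 230242) l6058 l6059) (.node (nat_lit 230318) l6060 l6061)))
noncomputable def n791 : T := (.node (nat_lit 225530) (.node (nat_lit 223136) (.node (nat_lit 221920) (.node (nat_lit 221312) (.node (nat_lit 221008) n759 n760) (.node (nat_lit 221616) n761 n762)) (.node (nat_lit 222528) (.node (nat_lit 222224) n763 n764) (.node (nat_lit 222832) n765 n766))) (.node (nat_lit 224314) (.node (nat_lit 223706) (.node (nat_lit 223402) n767 n768) (.node (nat_lit 224010) n769 n770)) (.node (nat_lit 224922) (.node (nat_lit 224618) n771 n772) (.node (nat_lit 225226) n773 n774)))) (.node (nat_lit 227924) (.node (nat_lit 226708) (.node (nat_lit 226100) (.node (nat_lit 225796) n775 n776) (.node (nat_lit 226404) n777 n778)) (.node (nat_lit 227316) (.node (nat_lit 227012) n779 n780) (.node (nat_lit 227620) n781 n782))) (.node (nat_lit 229140)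 (.node (nat_lit 228532) (.node (nat_lit 228228) n783 n784) (.node (nat_lit 228836) n785 n786)) (.node (nat_lit 229748) (.node (nat_lit 229444) n787 n788) (.node (nat_lit 230052) n789 n790)))))
noncomputable def n792 : T := (.node (nat_lit 230470) (.node (nat_lit 230394) l6062 (.node (nat_lit 230432) l6063 l6064)) (.node (nat_lit 230546) (.node (nat_lit 230508) l6065 l6066) (.node (nat_lit 230584) l6067 l6068)))
noncomputable def n793 : T := (.node (nat_lit 230774) (.node (nat_lit 230698) (.node (nat_lit 230660) l6069 l6070) (.node (nat_lit 230736) l6071 l6072)) (.node (nat_lit 230850) (.node (nat_lit 230812) l6073 l6074) (.node (nat_lit 230888) l6075 l6076)))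
noncomputable def n794 : T := (.node (nat_lit 231078) (.node (nat_lit 231002) (.node (nat_lit 230964) l6077 l6078) (.node (nat_lit 231040) l6079 l6080)) (.node (nat_lit 231154) (.node (nat_lit 231116) l6081 l6082) (.node (nat_lit 231192) l6083 l6084)))
noncomputable def n795 : T := (.node (nat_lit 231382) (.node (nat_lit 231306) (.node (nat_lit 231268) l6085 l6086) (.node (nat_lit 231344) l6087 l6088)) (.node (nat_lit 231458) (.node (nat_lit 231420) l6089 l6090) (.node (nat_lit 231496) l6091 l6092)))
noncomputable def n796 : T := (.node (nat_lit 231686) (.node (nat_lit 231610) (.node (nat_lit 231572) l6093 l6094) (.node (nat_lit 231648) l6095 l6096)) (.node (nat_lit 231762) (.node (nat_lit 231724) l6097 l6098) (.node (nat_lit 231800) l6099 l6100)))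
noncomputable def n797 : T := (.node (nat_lit 231990) (.node (nat_lit 231914) (.node (nat_lit 231876) l6101 l6102) (.node (nat_lit 231952) l6103 l6104)) (.node (nat_lit 232066) (.node (nat_lit 232028) l6105 l6106) (.node (nat_lit 232104) l6107 l6108)))
noncomputable def n798 : T := (.node (nat_lit 232294) (.node (nat_lit 232218) (.node (nat_lit 232180) l6109 l6110) (.node (nat_lit 232256) l6111 l6112)) (.node (nat_lit 232370) (.node (nat_lit 232332) l6113 l6114) (.node (nat_lit 232408) l6115 l6116)))
noncomputable def n799 : T := (.node (nat_lit 232598) (.node (nat_lit 232522) (.node (nat_lit 232484) l6117 l6118) (.node (nat_lit 232560) l6119 l6120)) (.node (nat_lit 232674) (.node (nat_lit 232636) l6121 l6122) (.node (nat_lit 232712) l6123 l6124)))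
noncomputable def n800 : T := (.node (nat_lit 232864) (.node (nat_lit 232788) l6125 (.node (nat_lit 232826) l6126 l6127)) (.node (nat_lit 232940) (.node (nat_lit 232902) l6128 l6129) (.node (nat_lit 232978) l6130 l6131)))
noncomputable def n801 : T := (.node (nat_lit 233168) (.node (nat_lit 233092) (.node (nat_lit 233054) l6132 l6133) (.node (nat_lit 233130) l6134 l6135)) (.node (nat_lit 233244) (.node (nat_lit 233206) l6136 l6137) (.node (nat_lit 233282) l6138 l6139)))
noncomputable def n802 : T := (.node (nat_lit 233472) (.node (nat_lit 233396) (.node (nat_lit 233358) l6140 l6141) (.node (nat_lit 233434) l6142 l6143)) (.node (nat_lit 233548) (.node (nat_lit 233510) l6144 l6145) (.node (nat_lit 233586) l6146 l6147)))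
noncomputable def n803 : T := (.node (nat_lit 233776) (.node (nat_lit 233700) (.node (nat_lit 233662) l6148 l6149) (.node (nat_lit 233738) l6150 l6151)) (.node (nat_lit 233852) (.node (nat_lit 233814) l6152 l6153) (.node (nat_lit 233890) l6154 l6155)))
noncomputable def n804 : T := (.node (nat_lit 234080) (.node (nat_lit 234004) (.node (nat_lit 233966) l6156 l6157) (.node (nat_lit 234042) l6158 l6159)) (.node (nat_lit 234156) (.node (nat_lit 234118) l6160 l6161) (.node (nat_lit 234194) l6162 l6163)))
noncomputable def n805 : T := (.node (nat_lit 234384) (.node (nat_lit 234308) (.node (nat_lit 234270) l6164 l6165) (.node (nat_lit 234346) l6166 l6167)) (.node (nat_lit 234460) (.node (nat_lit 234422) l6168 l6169) (.node (nat_lit 234498) l6170 l6171)))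
noncomputable def n806 : T := (.node (nat_lit 234688) (.node (nat_lit 234612) (.node (nat_lit 234574) l6172 l6173) (.node (nat_lit 234650) l6174 l6175)) (.node (nat_lit 234764) (.node (nat_lit 234726) l6176 l6177) (.node (nat_lit 234802) l6178 l6179)))
noncomputable def n807 : T := (.node (nat_lit 234992) (.node (nat_lit 234916) (.node (nat_lit 234878) l6180 l6181) (.node (nat_lit 234954) l6182 l6183)) (.node (nat_lit 235068) (.node (nat_lit 235030) l6184 l6185) (.node (nat_lit 235106) l6186 l6187)))
noncomputable def n808 : T := (.node (nat_lit 235258) (.node (nat_lit 235182) l6188 (.node (nat_lit 235220) l6189 l6190)) (.node (nat_lit 235334) (.node (nat_lit 235296) l6191 l6192) (.node (nat_lit 235372) l6193 l6194)))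
noncomputable def n809 : T := (.node (nat_lit 235562) (.node (nat_lit 235486) (.node (nat_lit 235448) l6195 l6196) (.node (nat_lit 235524) l6197 l6198)) (.node (nat_lit 235638) (.node (nat_lit 235600) l6199 l6200) (.node (nat_lit 235676) l6201 l6202)))
noncomputable def n810 : T := (.node (nat_lit 235866) (.node (nat_lit 235790) (.node (nat_lit 235752) l6203 l6204) (.node (nat_lit 235828) l6205 l6206)) (.node (nat_lit 235942) (.node (nat_lit 235904) l6207 l6208) (.node (nat_lit 235980) l6209 l6210)))
noncomputable def n811 : T := (.node (nat_lit 236170) (.node (nat_lit 236094) (.node (nat_lit 236056) l6211 l6212) (.node (nat_lit 236132) l6213 l6214)) (.node (nat_lit 236246) (.node (nat_lit 236208) l6215 l6216) (.node (nat_lit 236284) l6217 l6218)))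
noncomputable def n812 : T := (.node (nat_lit 236474) (.node (nat_lit 236398) (.node (nat_lit 236360) l6219 l6220) (.node (nat_lit 236436) l6221 l6222)) (.node (nat_lit 236550) (.node (nat_lit 236512) l6223 l6224) (.node (nat_lit 236588) l6225 l6226)))
noncomputable def n813 : T := (.node (nat_lit 236778) (.node (nat_lit 236702) (.node (nat_lit 236664) l6227 l6228) (.node (nat_lit 236740) l6229 l6230)) (.node (nat_lit 236854) (.node (nat_lit 236816) l6231 l6232) (.node (nat_lit 236892) l6233 l6234)))
noncomputable def n814 : T := (.node (nat_lit 237082) (.node (nat_lit 237006) (.node (nat_lit 236968) l6235 l6236) (.node (nat_lit 237044) l6237 l6238)) (.node (nat_lit 237158) (.node (nat_lit 237120) l6239 l6240) (.node (nat_lit 237196) l6241 l6242)))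
noncomputable def n815 : T := (.node (nat_lit 237386) (.node (nat_lit 237310) (.node (nat_lit 237272) l6243 l6244) (.node (nat_lit 237348) l6245 l6246)) (.node (nat_lit 237462) (.node (nat_lit 237424) l6247 l6248) (.node (nat_lit 237500) l6249 l6250)))
noncomputable def n816 : T := (.node (nat_lit 237652) (.node (nat_lit 237576) l6251 (.node (nat_lit 237614) l6252 l6253)) (.node (nat_lit 237728) (.node (nat_lit 237690) l6254 l6255) (.node (nat_lit 237766) l6256 l6257)))
noncomputable def n817 : T := (.node (nat_lit 237956) (.node (nat_lit 237880) (.node (nat_lit 237842) l6258 l6259) (.node (nat_lit 237918) l6260 l6261)) (.node (nat_lit 238032) (.node (nat_lit 237994) l6262 l6263) (.node (nat_lit 238070) l6264 l6265)))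
noncomputable def n818 : T := (.node (nat_lit 238260) (.node (nat_lit 238184) (.node (nat_lit 238146) l6266 l6267) (.node (nat_lit 238222) l6268 l6269)) (.node (nat_lit 238336) (.node (nat_lit 238298) l6270 l6271) (.node (nat_lit 238374) l6272 l6273)))
noncomputable def n819 : T := (.node (nat_lit 238564) (.node (nat_lit 238488) (.node (nat_lit 238450) l6274 l6275) (.node (nat_lit 238526) l6276 l6277)) (.node (nat_lit 238640) (.node (nat_lit 238602) l6278 l6279) (.node (nat_lit 238678) l6280 l6281)))
noncomputable def n820 : T := (.node (nat_lit 238868) (.node (nat_lit 238792) (.node (nat_lit 238754) l6282 l6283) (.node (nat_lit 238830) l6284 l6285)) (.node (nat_lit 238944) (.node (nat_lit 238906) l6286 l6287) (.node (nat_lit 238982) l6288 l6289)))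
noncomputable def n821 : T := (.node (nat_lit 239172) (.node (nat_lit 239096) (.node (nat_lit 239058) l6290 l6291) (.node (nat_lit 239134) l6292 l6293)) (.node (nat_lit 239248) (.node (nat_lit 239210) l6294 l6295) (.node (nat_lit 239286) l6296 l6297)))
noncomputable def n822 : T := (.node (nat_lit 239476) (.node (nat_lit 239400) (.node (nat_lit 239362) l6298 l6299) (.node (nat_lit 239438) l6300 l6301)) (.node (nat_lit 239552) (.node (nat_lit 239514) l6302 l6303) (.node (nat_lit 239590) l6304 l6305)))
noncomputable def n823 : T := (.node (nat_lit 239780) (.node (nat_lit 239704) (.node (nat_lit 239666) l6306 l6307) (.node (nat_lit 239742) l6308 l6309)) (.node (nat_lit 239856) (.node (nat_lit 239818) l6310 l6311) (.node (nat_lit 239894) l6312 l6313)))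
noncomputable def n824 : T := (.node (nat_lit 235144) (.node (nat_lit 232750) (.node (nat_lit 231534) (.node (nat_lit 230926) (.node (nat_lit 230622) n792 n793) (.node (nat_lit 231230) n794 n795)) (.node (nat_lit 232142) (.node (nat_lit 231838) n796 n797) (.node (nat_lit 232446) n798 n799))) (.node (nat_lit 233928) (.node (nat_lit 233320) (.node (nat_lit 233016) n800 n801) (.node (nat_lit 233624) n802 n803)) (.node (nat_lit 234536) (.node (nat_lit 234232) n804 n805) (.node (nat_lit 234840) n806 n807)))) (.node (nat_lit 237538) (.node (nat_lit 236322) (.node (nat_lit 235714) (.node (nat_lit 235410) n808 n809) (.node (nat_lit 236018) n810 n811)) (.node (nat_lit 236930) (.node (nat_lit 236626) n812 n813) (.node (nat_lit 237234) n814 n815))) (.node (nat_lit 238716) (.node (nat_lit 238108) (.node (nat_lit 237804) n816 n817) (.node (nat_lit 238412) n818 n819)) (.node (nat_lit 239324) (.node (nat_lit 239020) n820 n821) (.node (nat_lit 239628) n822 n823)))))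
noncomputable def n825 : T := (.node (nat_lit 240046) (.node (nat_lit 239970) l6314 (.node (nat_lit 240008) l6315 l6316)) (.node (nat_lit 240122) (.node (nat_lit 240084) l6317 l6318) (.node (nat_lit 240160) l6319 l6320)))
noncomputable def n826 : T := (.node (nat_lit 240350) (.node (nat_lit 240274) (.node (nat_lit 240236) l6321 l6322) (.node (nat_lit 240312) l6323 l6324)) (.node (nat_lit 240426) (.node (nat_lit 240388) l6325 l6326) (.node (nat_lit 240464) l6327 l6328)))
noncomputable def n827 : T := (.node (nat_lit 240654) (.node (nat_lit 240578) (.node (nat_lit 240540) l6329 l6330) (.node (nat_lit 240616) l6331 l6332)) (.node (nat_lit 240730) (.node (nat_lit 240692) l6333 l6334) (.node (nat_lit 240768) l6335 l6336)))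
noncomputable def n828 : T := (.node (nat_lit 240958) (.node (nat_lit 240882) (.node (nat_lit 240844) l6337 l6338) (.node (nat_lit 240920) l6339 l6340)) (.node (nat_lit 241034) (.node (nat_lit 240996) l6341 l6342) (.node (nat_lit 241072) l6343 l6344)))
noncomputable def n829 : T := (.node (nat_lit 241262) (.node (nat_lit 241186) (.node (nat_lit 241148) l6345 l6346) (.node (nat_lit 241224) l6347 l6348)) (.node (nat_lit 241338) (.node (nat_lit 241300) l6349 l6350) (.node (nat_lit 241376) l6351 l6352)))
noncomputable def n830 : T := (.node (nat_lit 241566) (.node (nat_lit 241490) (.node (nat_lit 241452) l6353 l6354) (.node (nat_lit 241528) l6355 l6356)) (.node (nat_lit 241642) (.node (nat_lit 241604) l6357 l6358) (.node (nat_lit 241680) l6359 l6360)))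
noncomputable def n831 : T := (.node (nat_lit 241870) (.node (nat_lit 241794) (.node (nat_lit 241756) l6361 l6362) (.node (nat_lit 241832) l6363 l6364)) (.node (nat_lit 241946) (.node (nat_lit 241908) l6365 l6366) (.node (nat_lit 241984) l6367 l6368)))
noncomputable def n832 : T := (.node (nat_lit 242174) (.node (nat_lit 242098) (.node (nat_lit 242060) l6369 l6370) (.node (nat_lit 242136) l6371 l6372)) (.node (nat_lit 242250) (.node (nat_lit 242212) l6373 l6374) (.node (nat_lit 242288) l6375 l6376)))
noncomputable def n833 : T := (.node (nat_lit 242440) (.node (nat_lit 242364) l6377 (.node (nat_lit 242402) l6378 l6379)) (.node (nat_lit 242516) (.node (nat_lit 242478) l6380 l6381) (.node (nat_lit 242554) l6382 l6383)))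
noncomputable def n834 : T := (.node (nat_lit 242744) (.node (nat_lit 242668) (.node (nat_lit 242630) l6384 l6385) (.node (nat_lit 242706) l6386 l6387)) (.node (nat_lit 242820) (.node (nat_lit 242782) l6388 l6389) (.node (nat_lit 242858) l6390 l6391)))
noncomputable def n835 : T := (.node (nat_lit 243048) (.node (nat_lit 242972) (.node (nat_lit 242934) l6392 l6393) (.node (nat_lit 243010) l6394 l6395)) (.node (nat_lit 243124) (.node (nat_lit 243086) l6396 l6397) (.node (nat_lit 243162) l6398 l6399)))
noncomputable def n836 : T := (.node (nat_lit 243352) (.node (nat_lit 243276) (.node (nat_lit 243238) l6400 l6401) (.node (nat_lit 243314) l6402 l6403)) (.node (nat_lit 243428) (.node (nat_lit 243390) l6404 l6405) (.node (nat_lit 243466) l6406 l6407)))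
noncomputable def n837 : T := (.node (nat_lit 243656) (.node (nat_lit 243580) (.node (nat_lit 243542) l6408 l6409) (.node (nat_lit 243618) l6410 l6411)) (.node (nat_lit 243732) (.node (nat_lit 243694) l6412 l6413) (.node (nat_lit 243770) l6414 l6415)))
noncomputable def n838 : T := (.node (nat_lit 243960) (.node (nat_lit 243884) (.node (nat_lit 243846) l6416 l6417) (.node (nat_lit 243922) l6418 l6419)) (.node (nat_lit 244036) (.node (nat_lit 243998) l6420 l6421) (.node (nat_lit 244074) l6422 l6423)))
noncomputable def n839 : T := (.node (nat_lit 244264) (.node (nat_lit 244188) (.node (nat_lit 244150) l6424 l6425) (.node (nat_lit 244226) l6426 l6427)) (.node (nat_lit 244340) (.node (nat_lit 244302) l6428 l6429) (.node (nat_lit 244378) l6430 l6431)))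
noncomputable def n840 : T := (.node (nat_lit 244568) (.node (nat_lit 244492) (.node (nat_lit 244454) l6432 l6433) (.node (nat_lit 244530) l6434 l6435)) (.node (nat_lit 244644) (.node (nat_lit 244606) l6436 l6437) (.node (nat_lit 244682) l6438 l6439)))
noncomputable def n841 : T := (.node (nat_lit 244834) (.node (nat_lit 244758) l6440 (.node (nat_lit 244796) l6441 l6442)) (.node (nat_lit 244910) (.node (nat_lit 244872) l6443 l6444) (.node (nat_lit 244948) l6445 l6446)))
noncomputable def n842 : T := (.node (nat_lit 245138) (.node (nat_lit 245062) (.node (nat_lit 245024) l6447 l6448) (.node (nat_lit 245100) l6449 l6450)) (.node (nat_lit 245214) (.node (nat_lit 245176) l6451 l6452) (.node (nat_lit 245252) l6453 l6454)))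
noncomputable def n843 : T := (.node (nat_lit 245442) (.node (nat_lit 245366) (.node (nat_lit 245328) l6455 l6456) (.node (nat_lit 245404) l6457 l6458)) (.node (nat_lit 245518) (.node (nat_lit 245480) l6459 l6460) (.node (nat_lit 245556) l6461 l6462)))
noncomputable def n844 : T := (.node (nat_lit 245746) (.node (nat_lit 245670) (.node (nat_lit 245632) l6463 l6464) (.node (nat_lit 245708) l6465 l6466)) (.node (nat_lit 245822) (.node (nat_lit 245784) l6467 l6468) (.node (nat_lit 245860) l6469 l6470)))
noncomputable def n845 : T := (.node (nat_lit 246050) (.node (nat_lit 245974) (.node (nat_lit 245936) l6471 l6472) (.node (nat_lit 246012) l6473 l6474)) (.node (nat_lit 246126) (.node (nat_lit 246088) l6475 l6476) (.node (nat_lit 246164) l6477 l6478)))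
noncomputable def n846 : T := (.node (nat_lit 246354) (.node (nat_lit 246278) (.node (nat_lit 246240) l6479 l6480) (.node (nat_lit 246316) l6481 l6482)) (.node (nat_lit 246430) (.node (nat_lit 246392) l6483 l6484) (.node (nat_lit 246468) l6485 l6486)))
noncomputable def n847 : T := (.node (nat_lit 246658) (.node (nat_lit 246582) (.node (nat_lit 246544) l6487 l6488) (.node (nat_lit 246620) l6489 l6490)) (.node (nat_lit 246734) (.node (nat_lit 246696) l6491 l6492) (.node (nat_lit 246772) l6493 l6494)))
noncomputable def n848 : T := (.node (nat_lit 246962) (.node (nat_lit 246886) (.node (nat_lit 246848) l6495 l6496) (.node (nat_lit 246924) l6497 l6498)) (.node (nat_lit 247038) (.node (nat_lit 247000) l6499 l6500) (.node (nat_lit 247076) l6501 l6502)))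
noncomputable def n849 : T := (.node (nat_lit 247266) (.node (nat_lit 247190) (.node (nat_lit 247152) l6503 l6504) (.node (nat_lit 247228) l6505 l6506)) (.node (nat_lit 247342) (.node (nat_lit 247304) l6507 l6508) (.node (nat_lit 247380) l6509 l6510)))
noncomputable def n850 : T := (.node (nat_lit 247570) (.node (nat_lit 247494) (.node (nat_lit 247456) l6511 l6512) (.node (nat_lit 247532) l6513 l6514)) (.node (nat_lit 247646) (.node (nat_lit 247608) l6515 l6516) (.node (nat_lit 247684) l6517 l6518)))
noncomputable def n851 : T := (.node (nat_lit 247874) (.node (nat_lit 247798) (.node (nat_lit 247760) l6519 l6520) (.node (nat_lit 247836) l6521 l6522)) (.node (nat_lit 247950) (.node (nat_lit 247912) l6523 l6524) (.node (nat_lit 247988) l6525 l6526)))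
noncomputable def n852 : T := (.node (nat_lit 248178) (.node (nat_lit 248102) (.node (nat_lit 248064) l6527 l6528) (.node (nat_lit 248140) l6529 l6530)) (.node (nat_lit 248254) (.node (nat_lit 248216) l6531 l6532) (.node (nat_lit 248292) l6533 l6534)))
noncomputable def n853 : T := (.node (nat_lit 248482) (.node (nat_lit 248406) (.node (nat_lit 248368) l6535 l6536) (.node (nat_lit 248444) l6537 l6538)) (.node (nat_lit 248558) (.node (nat_lit 248520) l6539 l6540) (.node (nat_lit 248596) l6541 l6542)))
noncomputable def n854 : T := (.node (nat_lit 248786) (.node (nat_lit 248710) (.node (nat_lit 248672) l6543 l6544) (.node (nat_lit 248748) l6545 l6546)) (.node (nat_lit 248862) (.node (nat_lit 248824) l6547 l6548) (.node (nat_lit 248900) l6549 l6550)))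
noncomputable def n855 : T := (.node (nat_lit 249090) (.node (nat_lit 249014) (.node (nat_lit 248976) l6551 l6552) (.node (nat_lit 249052) l6553 l6554)) (.node (nat_lit 249166) (.node (nat_lit 249128) l6555 l6556) (.node (nat_lit 249204) l6557 l6558)))
noncomputable def n856 : T := (.node (nat_lit 249394) (.node (nat_lit 249318) (.node (nat_lit 249280) l6559 l6560) (.node (nat_lit 249356) l6561 l6562)) (.node (nat_lit 249470) (.node (nat_lit 249432) l6563 l6564) (.node (nat_lit 249508) l6565 l6566)))
noncomputable def n857 : T := (.node (nat_lit 244720) (.node (nat_lit 242326) (.node (nat_lit 241110) (.node (nat_lit 240502) (.node (nat_lit 240198) n825 n826) (.node (nat_lit 240806) n827 n828)) (.node (nat_lit 241718) (.node (nat_lit 241414) n829 n830) (.node (nat_lit 242022) n831 n832))) (.node (nat_lit 243504) (.node (nat_lit 242896) (.node (nat_lit 242592) n833 n834) (.node (nat_lit 243200) n835 n836)) (.node (nat_lit 244112) (.node (nat_lit 243808) n837 n838) (.node (nat_lit 244416) n839 n840)))) (.node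 (nat_lit 247114) (.node (nat_lit 245898) (.node (nat_lit 245290) (.node (nat_lit 244986) n841 n842) (.node (nat_lit 245594) n843 n844)) (.node (nat_lit 246506) (.node (nat_lit 246202) n845 n846) (.node (nat_lit 246810) n847 n848))) (.node (nat_lit 248330) (.node (nat_lit 247722) (.node (nat_lit 247418) n849 n850) (.node (nat_lit 248026) n851 n852)) (.node (nat_lit 248938) (.node (nat_lit 248634) n853 n854) (.node (nat_lit 249242) n855 n856)))))
noncomputable def n858 : T := (.node (nat_lit 249660) (.node (nat_lit 249584) l6567 (.node (nat_lit 249622) l6568 l6569)) (.node (nat_lit 249736) (.node (nat_lit 249698) l6570 l6571) (.node (nat_lit 249774) l6572 l6573)))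
noncomputable def n859 : T := (.node (nat_lit 249964) (.node (nat_lit 249888) (.node (nat_lit 249850) l6574 l6575) (.node (nat_lit 249926) l6576 l6577)) (.node (nat_lit 250040) (.node (nat_lit 250002) l6578 l6579) (.node (nat_lit 250078) l6580 l6581)))
noncomputable def n860 : T := (.node (nat_lit 250268) (.node (nat_lit 250192) (.node (nat_lit 250154) l6582 l6583) (.node (nat_lit 250230) l6584 l6585)) (.node (nat_lit 250344) (.node (nat_lit 250306) l6586 l6587) (.node (nat_lit 250382) l6588 l6589)))
noncomputable def n861 : T := (.node (nat_lit 250572) (.node (nat_lit 250496) (.node (nat_lit 250458) l6590 l6591) (.node (nat_lit 250534) l6592 l6593)) (.node (nat_lit 250648) (.node (nat_lit 250610) l6594 l6595) (.node (nat_lit 250686) l6596 l6597)))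
noncomputable def n862 : T := (.node (nat_lit 250876) (.node (nat_lit 250800) (.node (nat_lit 250762) l6598 l6599) (.node (nat_lit 250838) l6600 l6601)) (.node (nat_lit 250952) (.node (nat_lit 250914) l6602 l6603) (.node (nat_lit 250990) l6604 l6605)))
noncomputable def n863 : T := (.node (nat_lit 251180) (.node (nat_lit 251104) (.node (nat_lit 251066) l6606 l6607) (.node (nat_lit 251142) l6608 l6609)) (.node (nat_lit 251256) (.node (nat_lit 251218) l6610 l6611) (.node (nat_lit 251294) l6612 l6613)))
noncomputable def n864 : T := (.node (nat_lit 251484) (.node (nat_lit 251408) (.node (nat_lit 251370) l6614 l6615) (.node (nat_lit 251446) l6616 l6617)) (.node (nat_lit 251560) (.node (nat_lit 251522) l6618 l6619) (.node (nat_lit 251598) l6620 l6621)))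
noncomputable def n865 : T := (.node (nat_lit 251788) (.node (nat_lit 251712) (.node (nat_lit 251674) l6622 l6623) (.node (nat_lit 251750) l6624 l6625)) (.node (nat_lit 251864) (.node (nat_lit 251826) l6626 l6627) (.node (nat_lit 251902) l6628 l6629)))
noncomputable def n866 : T := (.node (nat_lit 252054) (.node (nat_lit 251978) l6630 (.node (nat_lit 252016) l6631 l6632)) (.node (nat_lit 252130) (.node (nat_lit 252092) l6633 l6634) (.node (nat_lit 252168) l6635 l6636)))
noncomputable def n867 : T := (.node (nat_lit 252358) (.node (nat_lit 252282) (.node (nat_lit 252244) l6637 l6638) (.node (nat_lit 252320) l6639 l6640)) (.node (nat_lit 252434) (.node (nat_lit 252396) l6641 l6642) (.node (nat_lit 252472) l6643 l6644)))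
noncomputable def n868 : T := (.node (nat_lit 252662) (.node (nat_lit 252586) (.node (nat_lit 252548) l6645 l6646) (.node (nat_lit 252624) l6647 l6648)) (.node (nat_lit 252738) (.node (nat_lit 252700) l6649 l6650) (.node (nat_lit 252776) l6651 l6652)))
noncomputable def n869 : T := (.node (nat_lit 252966) (.node (nat_lit 252890) (.node (nat_lit 252852) l6653 l6654) (.node (nat_lit 252928) l6655 l6656)) (.node (nat_lit 253042) (.node (nat_lit 253004) l6657 l6658) (.node (nat_lit 253080) l6659 l6660)))
noncomputable def n870 : T := (.node (nat_lit 253270) (.node (nat_lit 253194) (.node (nat_lit 253156) l6661 l6662) (.node (nat_lit 253232) l6663 l6664)) (.node (nat_lit 253346) (.node (nat_lit 253308) l6665 l6666) (.node (nat_lit 253384) l6667 l6668)))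
noncomputable def n871 : T := (.node (nat_lit 253574) (.node (nat_lit 253498) (.node (nat_lit 253460) l6669 l6670) (.node (nat_lit 253536) l6671 l6672)) (.node (nat_lit 253650) (.node (nat_lit 253612) l6673 l6674) (.node (nat_lit 253688) l6675 l6676)))
noncomputable def n872 : T := (.node (nat_lit 253878) (.node (nat_lit 253802) (.node (nat_lit 253764) l6677 l6678) (.node (nat_lit 253840) l6679 l6680)) (.node (nat_lit 253954) (.node (nat_lit 253916) l6681 l6682) (.node (nat_lit 253992) l6683 l6684)))
noncomputable def n873 : T := (.node (nat_lit 254182) (.node (nat_lit 254106) (.node (nat_lit 254068) l6685 l6686) (.node (nat_lit 254144) l6687 l6688)) (.node (nat_lit 254258) (.node (nat_lit 254220) l6689 l6690) (.node (nat_lit 254296) l6691 l6692)))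
noncomputable def n874 : T := (.node (nat_lit 254448) (.node (nat_lit 254372) l6693 (.node (nat_lit 254410) l6694 l6695)) (.node (nat_lit 254524) (.node (nat_lit 254486) l6696 l6697) (.node (nat_lit 254562) l6698 l6699)))
noncomputable def n875 : T := (.node (nat_lit 254752) (.node (nat_lit 254676) (.node (nat_lit 254638) l6700 l6701) (.node (nat_lit 254714) l6702 l6703)) (.node (nat_lit 254828) (.node (nat_lit 254790) l6704 l6705) (.node (nat_lit 254866) l6706 l6707)))
noncomputable def n876 : T := (.node (nat_lit 255056) (.node (nat_lit 254980) (.node (nat_lit 254942) l6708 l6709) (.node (nat_lit 255018) l6710 l6711)) (.node (nat_lit 255132) (.node (nat_lit 255094) l6712 l6713) (.node (nat_lit 255170) l6714 l6715)))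
noncomputable def n877 : T := (.node (nat_lit 255360) (.node (nat_lit 255284) (.node (nat_lit 255246) l6716 l6717) (.node (nat_lit 255322) l6718 l6719)) (.node (nat_lit 255436) (.node (nat_lit 255398) l6720 l6721) (.node (nat_lit 255474) l6722 l6723)))
noncomputable def n878 : T := (.node (nat_lit 255664) (.node (nat_lit 255588) (.node (nat_lit 255550) l6724 l6725) (.node (nat_lit 255626) l6726 l6727)) (.node (nat_lit 255740) (.node (nat_lit 255702) l6728 l6729) (.node (nat_lit 255778) l6730 l6731)))
noncomputable def n879 : T := (.node (nat_lit 255968) (.node (nat_lit 255892) (.node (nat_lit 255854) l6732 l6733) (.node (nat_lit 255930) l6734 l6735)) (.node (nat_lit 256044) (.node (nat_lit 256006) l6736 l6737) (.node (nat_lit 256082) l6738 l6739)))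
noncomputable def n880 : T := (.node (nat_lit 256272) (.node (nat_lit 256196) (.node (nat_lit 256158) l6740 l6741) (.node (nat_lit 256234) l6742 l6743)) (.node (nat_lit 256348) (.node (nat_lit 256310) l6744 l6745) (.node (nat_lit 256386) l6746 l6747)))
noncomputable def n881 : T := (.node (nat_lit 256576) (.node (nat_lit 256500) (.node (nat_lit 256462) l6748 l6749) (.node (nat_lit 256538) l6750 l6751)) (.node (nat_lit 256652) (.node (nat_lit 256614) l6752 l6753) (.node (nat_lit 256690) l6754 l6755)))
noncomputable def n882 : T := (.node (nat_lit 256842) (.node (nat_lit 256766) l6756 (.node (nat_lit 256804) l6757 l6758)) (.node (nat_lit 256918) (.node (nat_lit 256880) l6759 l6760) (.node (nat_lit 256956) l6761 l6762)))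
noncomputable def n883 : T := (.node (nat_lit 257146) (.node (nat_lit 257070) (.node (nat_lit 257032) l6763 l6764) (.node (nat_lit 257108) l6765 l6766)) (.node (nat_lit 257222) (.node (nat_lit 257184) l6767 l6768) (.node (nat_lit 257260) l6769 l6770)))
noncomputable def n884 : T := (.node (nat_lit 257450) (.node (nat_lit 257374) (.node (nat_lit 257336) l6771 l6772) (.node (nat_lit 257412) l6773 l6774)) (.node (nat_lit 257526) (.node (nat_lit 257488) l6775 l6776) (.node (nat_lit 257564) l6777 l6778)))
noncomputable def n885 : T := (.node (nat_lit 257754) (.node (nat_lit 257678) (.node (nat_lit 257640) l6779 l6780) (.node (nat_lit 257716) l6781 l6782)) (.node (nat_lit 257830) (.node (nat_lit 257792) l6783 l6784) (.node (nat_lit 257868) l6785 l6786)))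
noncomputable def n886 : T := (.node (nat_lit 258058) (.node (nat_lit 257982) (.node (nat_lit 257944) l6787 l6788) (.node (nat_lit 258020) l6789 l6790)) (.node (nat_lit 258134) (.node (nat_lit 258096) l6791 l6792) (.node (nat_lit 258172) l6793 l6794)))
noncomputable def n887 : T := (.node (nat_lit 258362) (.node (nat_lit 258286) (.node (nat_lit 258248) l6795 l6796) (.node (nat_lit 258324) l6797 l6798)) (.node (nat_lit 258438) (.node (nat_lit 258400) l6799 l6800) (.node (nat_lit 258476) l6801 l6802)))
noncomputable def n888 : T := (.node (nat_lit 258666) (.node (nat_lit 258590) (.node (nat_lit 258552) l6803 l6804) (.node (nat_lit 258628) l6805 l6806)) (.node (nat_lit 258742) (.node (nat_lit 258704) l6807 l6808) (.node (nat_lit 258780) l6809 l6810)))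
noncomputable def n889 : T := (.node (nat_lit 258970) (.node (nat_lit 258894) (.node (nat_lit 258856) l6811 l6812) (.node (nat_lit 258932) l6813 l6814)) (.node (nat_lit 259046) (.node (nat_lit 259008) l6815 l6816) (.node (nat_lit 259084) l6817 l6818)))
noncomputable def n890 : T := (.node (nat_lit 254334) (.node (nat_lit 251940) (.node (nat_lit 250724) (.node (nat_lit 250116) (.node (nat_lit 249812) n858 n859) (.node (nat_lit 250420) n860 n861)) (.node (nat_lit 251332) (.node (nat_lit 251028) n862 n863) (.node (nat_lit 251636) n864 n865))) (.node (nat_lit 253118) (.node (nat_lit 252510) (.node (nat_lit 252206) n866 n867) (.node (nat_lit 252814) n868 n869)) (.node (nat_lit 253726) (.node (nat_lit 253422) n870 n871) (.node (nat_lit 254030) n872 n873)))) (.node (nat_lit 256728) (.node (nat_lit 255512) (.node (nat_lit 254904) (.node (nat_lit 254600) n874 n875) (.node (nat_lit 255208) n876 n877)) (.node (nat_lit 256120) (.node (nat_lit 255816) n878 n879) (.node (nat_lit 256424) n880 n881))) (.node (nat_lit 257906)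 (.node (nat_lit 257298) (.node (nat_lit 256994) n882 n883) (.node (nat_lit 257602) n884 n885)) (.node (nat_lit 258514) (.node (nat_lit 258210) n886 n887) (.node (nat_lit 258818) n888 n889)))))
noncomputable def n891 : T := (.node (nat_lit 259236) (.node (nat_lit 259160) l6819 (.node (nat_lit 259198) l6820 l6821)) (.node (nat_lit 259312) (.node (nat_lit 259274) l6822 l6823) (.node (nat_lit 259350) l6824 l6825)))
noncomputable def n892 : T := (.node (nat_lit 259540) (.node (nat_lit 259464) (.node (nat_lit 259426) l6826 l6827) (.node (nat_lit 259502) l6828 l6829)) (.node (nat_lit 259616) (.node (nat_lit 259578) l6830 l6831) (.node (nat_lit 259654) l6832 l6833)))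
noncomputable def n893 : T := (.node (nat_lit 259844) (.node (nat_lit 259768) (.node (nat_lit 259730) l6834 l6835) (.node (nat_lit 259806) l6836 l6837)) (.node (nat_lit 259920) (.node (nat_lit 259882) l6838 l6839) (.node (nat_lit 259958) l6840 l6841)))
noncomputable def n894 : T := (.node (nat_lit 260148) (.node (nat_lit 260072) (.node (nat_lit 260034) l6842 l6843) (.node (nat_lit 260110) l6844 l6845)) (.node (nat_lit 260224) (.node (nat_lit 260186) l6846 l6847) (.node (nat_lit 260262) l6848 l6849)))
noncomputable def n895 : T := (.node (nat_lit 260452) (.node (nat_lit 260376) (.node (nat_lit 260338) l6850 l6851) (.node (nat_lit 260414) l6852 l6853)) (.node (nat_lit 260528) (.node (nat_lit 260490) l6854 l6855) (.node (nat_lit 260566) l6856 l6857)))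
noncomputable def n896 : T := (.node (nat_lit 260756) (.node (nat_lit 260680) (.node (nat_lit 260642) l6858 l6859) (.node (nat_lit 260718) l6860 l6861)) (.node (nat_lit 260832) (.node (nat_lit 260794) l6862 l6863) (.node (nat_lit 260870) l6864 l6865)))
noncomputable def n897 : T := (.node (nat_lit 261060) (.node (nat_lit 260984) (.node (nat_lit 260946) l6866 l6867) (.node (nat_lit 261022) l6868 l6869)) (.node (nat_lit 261136) (.node (nat_lit 261098) l6870 l6871) (.node (nat_lit 261174) l6872 l6873)))
noncomputable def n898 : T := (.node (nat_lit 261364) (.node (nat_lit 261288) (.node (nat_lit 261250) l6874 l6875) (.node (nat_lit 261326) l6876 l6877)) (.node (nat_lit 261440) (.node (nat_lit 261402) l6878 l6879) (.node (nat_lit 261478) l6880 l6881)))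
noncomputable def n899 : T := (.node (nat_lit 261630) (.node (nat_lit 261554) l6882 (.node (nat_lit 261592) l6883 l6884)) (.node (nat_lit 261706) (.node (nat_lit 261668) l6885 l6886) (.node (nat_lit 261744) l6887 l6888)))
noncomputable def n900 : T := (.node (nat_lit 261934) (.node (nat_lit 261858) (.node (nat_lit 261820) l6889 l6890) (.node (nat_lit 261896) l6891 l6892)) (.node (nat_lit 262010) (.node (nat_lit 261972) l6893 l6894) (.node (nat_lit 262048) l6895 l6896)))
noncomputable def n901 : T := (.node (nat_lit 262238) (.node (nat_lit 262162) (.node (nat_lit 262124) l6897 l6898) (.node (nat_lit 262200) l6899 l6900)) (.node (nat_lit 262314) (.node (nat_lit 262276) l6901 l6902) (.node (nat_lit 262352) l6903 l6904)))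
noncomputable def n902 : T := (.node (nat_lit 262542) (.node (nat_lit 262466) (.node (nat_lit 262428) l6905 l6906) (.node (nat_lit 262504) l6907 l6908)) (.node (nat_lit 262618) (.node (nat_lit 262580) l6909 l6910) (.node (nat_lit 262656) l6911 l6912)))
noncomputable def n903 : T := (.node (nat_lit 262846) (.node (nat_lit 262770) (.node (nat_lit 262732) l6913 l6914) (.node (nat_lit 262808) l6915 l6916)) (.node (nat_lit 262922) (.node (nat_lit 262884) l6917 l6918) (.node (nat_lit 262960) l6919 l6920)))
noncomputable def n904 : T := (.node (nat_lit 263150) (.node (nat_lit 263074) (.node (nat_lit 263036) l6921 l6922) (.node (nat_lit 263112) l6923 l6924)) (.node (nat_lit 263226) (.node (nat_lit 263188) l6925 l6926) (.node (nat_lit 263264) l6927 l6928)))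
noncomputable def n905 : T := (.node (nat_lit 263454) (.node (nat_lit 263378) (.node (nat_lit 263340) l6929 l6930) (.node (nat_lit 263416) l6931 l6932)) (.node (nat_lit 263530) (.node (nat_lit 263492) l6933 l6934) (.node (nat_lit 263568) l6935 l6936)))
noncomputable def n906 : T := (.node (nat_lit 263758) (.node (nat_lit 263682) (.node (nat_lit 263644) l6937 l6938) (.node (nat_lit 263720) l6939 l6940)) (.node (nat_lit 263834) (.node (nat_lit 263796) l6941 l6942) (.node (nat_lit 263872) l6943 l6944)))
noncomputable def n907 : T := (.node (nat_lit 264024) (.node (nat_lit 263948) l6945 (.node (nat_lit 263986) l6946 l6947)) (.node (nat_lit 264100) (.node (nat_lit 264062) l6948 l6949) (.node (nat_lit 264138) l6950 l6951)))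
noncomputable def n908 : T := (.node (nat_lit 264328) (.node (nat_lit 264252) (.node (nat_lit 264214) l6952 l6953) (.node (nat_lit 264290) l6954 l6955)) (.node (nat_lit 264404) (.node (nat_lit 264366) l6956 l6957) (.node (nat_lit 264442) l6958 l6959)))
noncomputable def n909 : T := (.node (nat_lit 264632) (.node (nat_lit 264556) (.node (nat_lit 264518) l6960 l6961) (.node (nat_lit 264594) l6962 l6963)) (.node (nat_lit 264708) (.node (nat_lit 264670) l6964 l6965) (.node (nat_lit 264746) l6966 l6967)))
noncomputable def n910 : T := (.node (nat_lit 264936) (.node (nat_lit 264860) (.node (nat_lit 264822) l6968 l6969) (.node (nat_lit 264898) l6970 l6971)) (.node (nat_lit 265012) (.node (nat_lit 264974) l6972 l6973) (.node (nat_lit 265050) l6974 l6975)))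
noncomputable def n911 : T := (.node (nat_lit 265240) (.node (nat_lit 265164) (.node (nat_lit 265126) l6976 l6977) (.node (nat_lit 265202) l6978 l6979)) (.node (nat_lit 265316) (.node (nat_lit 265278) l6980 l6981) (.node (nat_lit 265354) l6982 l6983)))
noncomputable def n912 : T := (.node (nat_lit 265544) (.node (nat_lit 265468) (.node (nat_lit 265430) l6984 l6985) (.node (nat_lit 265506) l6986 l6987)) (.node (nat_lit 265620) (.node (nat_lit 265582) l6988 l6989) (.node (nat_lit 265658) l6990 l6991)))
noncomputable def n913 : T := (.node (nat_lit 265848) (.node (nat_lit 265772) (.node (nat_lit 265734) l6992 l6993) (.node (nat_lit 265810) l6994 l6995)) (.node (nat_lit 265924) (.node (nat_lit 265886) l6996 l6997) (.node (nat_lit 265962) l6998 l6999)))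
noncomputable def n914 : T := (.node (nat_lit 266152) (.node (nat_lit 266076) (.node (nat_lit 266038) l7000 l7001) (.node (nat_lit 266114) l7002 l7003)) (.node (nat_lit 266228) (.node (nat_lit 266190) l7004 l7005) (.node (nat_lit 266266) l7006 l7007)))
noncomputable def n915 : T := (.node (nat_lit 266456) (.node (nat_lit 266380) (.node (nat_lit 266342) l7008 l7009) (.node (nat_lit 266418) l7010 l7011)) (.node (nat_lit 266532) (.node (nat_lit 266494) l7012 l7013) (.node (nat_lit 266570) l7014 l7015)))
noncomputable def n916 : T := (.node (nat_lit 266760) (.node (nat_lit 266684) (.node (nat_lit 266646) l7016 l7017) (.node (nat_lit 266722) l7018 l7019)) (.node (nat_lit 266836) (.node (nat_lit 266798) l7020 l7021) (.node (nat_lit 266874) l7022 l7023)))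
noncomputable def n917 : T := (.node (nat_lit 267064) (.node (nat_lit 266988) (.node (nat_lit 266950) l7024 l7025) (.node (nat_lit 267026) l7026 l7027)) (.node (nat_lit 267140) (.node (nat_lit 267102) l7028 l7029) (.node (nat_lit 267178) l7030 l7031)))
noncomputable def n918 : T := (.node (nat_lit 267368) (.node (nat_lit 267292) (.node (nat_lit 267254) l7032 l7033) (.node (nat_lit 267330) l7034 l7035)) (.node (nat_lit 267444) (.node (nat_lit 267406) l7036 l7037) (.node (nat_lit 267482) l7038 l7039)))
noncomputable def n919 : T := (.node (nat_lit 267672) (.node (nat_lit 267596) (.node (nat_lit 267558) l7040 l7041) (.node (nat_lit 267634) l7042 l7043)) (.node (nat_lit 267748) (.node (nat_lit 267710) l7044 l7045) (.node (nat_lit 267786) l7046 l7047)))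
noncomputable def n920 : T := (.node (nat_lit 267976) (.node (nat_lit 267900) (.node (nat_lit 267862) l7048 l7049) (.node (nat_lit 267938) l7050 l7051)) (.node (nat_lit 268052) (.node (nat_lit 268014) l7052 l7053) (.node (nat_lit 268090) l7054 l7055)))
noncomputable def n921 : T := (.node (nat_lit 268280) (.node (nat_lit 268204) (.node (nat_lit 268166) l7056 l7057) (.node (nat_lit 268242) l7058 l7059)) (.node (nat_lit 268356) (.node (nat_lit 268318) l7060 l7061) (.node (nat_lit 268394) l7062 l7063)))
noncomputable def n922 : T := (.node (nat_lit 268584) (.node (nat_lit 268508) (.node (nat_lit 268470) l7064 l7065) (.node (nat_lit 268546) l7066 l7067)) (.node (nat_lit 268660) (.node (nat_lit 268622) l7068 l7069) (.node (nat_lit 268698) l7070 l7071)))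
noncomputable def n923 : T := (.node (nat_lit 263910) (.node (nat_lit 261516) (.node (nat_lit 260300) (.node (nat_lit 259692) (.node (nat_lit 259388) n891 n892) (.node (nat_lit 259996) n893 n894)) (.node (nat_lit 260908) (.node (nat_lit 260604) n895 n896) (.node (nat_lit 261212) n897 n898))) (.node (nat_lit 262694) (.node (nat_lit 262086) (.node (nat_lit 261782) n899 n900) (.node (nat_lit 262390) n901 n902)) (.node (nat_lit 263302) (.node (nat_lit 262998) n903 n904) (.node (nat_lit 263606) n905 n906)))) (.node (nat_lit 266304) (.node (nat_lit 265088) (.node (nat_lit 264480) (.node (nat_lit 264176) n907 n908) (.node (nat_lit 264784) n909 n910)) (.node (nat_lit 265696) (.node (nat_lit 265392) n911 n912) (.node (nat_lit 266000) n913 n914))) (.node (nat_lit 267520) (.node (nat_lit 266912) (.node (nat_lit 266608) n915 n916) (.node (nat_lit 267216) n917 n918)) (.node (nat_lit 268128) (.node (nat_lit 267824) n919 n920) (.node (nat_lit 268432) n921 n922)))))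
noncomputable def n924 : T := (.node (nat_lit 268850) (.node (nat_lit 268774) l7072 (.node (nat_lit 268812) l7073 l7074)) (.node (nat_lit 268926) (.node (nat_lit 268888) l7075 l7076) (.node (nat_lit 268964) l7077 l7078)))
noncomputable def n925 : T := (.node (nat_lit 269154) (.node (nat_lit 269078) (.node (nat_lit 269040) l7079 l7080) (.node (nat_lit 269116) l7081 l7082)) (.node (nat_lit 269230) (.node (nat_lit 269192) l7083 l7084) (.node (nat_lit 269268) l7085 l7086)))
noncomputable def n926 : T := (.node (nat_lit 269458) (.node (nat_lit 269382) (.node (nat_lit 269344) l7087 l7088) (.node (nat_lit 269420) l7089 l7090)) (.node (nat_lit 269534) (.node (nat_lit 269496) l7091 l7092) (.node (nat_lit 269572) l7093 l7094)))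
noncomputable def n927 : T := (.node (nat_lit 269762) (.node (nat_lit 269686) (.node (nat_lit 269648) l7095 l7096) (.node (nat_lit 269724) l7097 l7098)) (.node (nat_lit 269838) (.node (nat_lit 269800) l7099 l7100) (.node (nat_lit 269876) l7101 l7102)))
noncomputable def n928 : T := (.node (nat_lit 270066) (.node (nat_lit 269990) (.node (nat_lit 269952) l7103 l7104) (.node (nat_lit 270028) l7105 l7106)) (.node (nat_lit 270142) (.node (nat_lit 270104) l7107 l7108) (.node (nat_lit 270180) l7109 l7110)))
noncomputable def n929 : T := (.node (nat_lit 270370) (.node (nat_lit 270294) (.node (nat_lit 270256) l7111 l7112) (.node (nat_lit 270332) l7113 l7114)) (.node (nat_lit 270446) (.node (nat_lit 270408) l7115 l7116) (.node (nat_lit 270484) l7117 l7118)))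
noncomputable def n930 : T := (.node (nat_lit 270674) (.node (nat_lit 270598) (.node (nat_lit 270560) l7119 l7120) (.node (nat_lit 270636) l7121 l7122)) (.node (nat_lit 270750) (.node (nat_lit 270712) l7123 l7124) (.node (nat_lit 270788) l7125 l7126)))
noncomputable def n931 : T := (.node (nat_lit 270978) (.node (nat_lit 270902) (.node (nat_lit 270864) l7127 l7128) (.node (nat_lit 270940) l7129 l7130)) (.node (nat_lit 271054) (.node (nat_lit 271016) l7131 l7132) (.node (nat_lit 271092) l7133 l7134)))
noncomputable def n932 : T := (.node (nat_lit 271244) (.node (nat_lit 271168) l7135 (.node (nat_lit 271206) l7136 l7137)) (.node (nat_lit 271320) (.node (nat_lit 271282) l7138 l7139) (.node (nat_lit 271358) l7140 l7141)))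
noncomputable def n933 : T := (.node (nat_lit 271548) (.node (nat_lit 271472) (.node (nat_lit 271434) l7142 l7143) (.node (nat_lit 271510) l7144 l7145)) (.node (nat_lit 271624) (.node (nat_lit 271586) l7146 l7147) (.node (nat_lit 271662) l7148 l7149)))
noncomputable def n934 : T := (.node (nat_lit 271852) (.node (nat_lit 271776) (.node (nat_lit 271738) l7150 l7151) (.node (nat_lit 271814) l7152 l7153)) (.node (nat_lit 271928) (.node (nat_lit 271890) l7154 l7155) (.node (nat_lit 271966) l7156 l7157)))
noncomputable def n935 : T := (.node (nat_lit 272156) (.node (nat_lit 272080) (.node (nat_lit 272042) l7158 l7159) (.node (nat_lit 272118) l7160 l7161)) (.node (nat_lit 272232) (.node (nat_lit 272194) l7162 l7163) (.node (nat_lit 272270) l7164 l7165)))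
noncomputable def n936 : T := (.node (nat_lit 272460) (.node (nat_lit 272384) (.node (nat_lit 272346) l7166 l7167) (.node (nat_lit 272422) l7168 l7169)) (.node (nat_lit 272536) (.node (nat_lit 272498) l7170 l7171) (.node (nat_lit 272574) l7172 l7173)))
noncomputable def n937 : T := (.node (nat_lit 272764) (.node (nat_lit 272688) (.node (nat_lit 272650) l7174 l7175) (.node (nat_lit 272726) l7176 l7177)) (.node (nat_lit 272840) (.node (nat_lit 272802) l7178 l7179) (.node (nat_lit 272878) l7180 l7181)))
noncomputable def n938 : T := (.node (nat_lit 273068) (.node (nat_lit 272992) (.node (nat_lit 272954) l7182 l7183) (.node (nat_lit 273030) l7184 l7185)) (.node (nat_lit 273144) (.node (nat_lit 273106) l7186 l7187) (.node (nat_lit 273182) l7188 l7189)))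
noncomputable def n939 : T := (.node (nat_lit 273372) (.node (nat_lit 273296) (.node (nat_lit 273258) l7190 l7191) (.node (nat_lit 273334) l7192 l7193)) (.node (nat_lit 273448) (.node (nat_lit 273410) l7194 l7195) (.node (nat_lit 273486) l7196 l7197)))
noncomputable def n940 : T := (.node (nat_lit 273638) (.node (nat_lit 273562) l7198 (.node (nat_lit 273600) l7199 l7200)) (.node (nat_lit 273714) (.node (nat_lit 273676) l7201 l7202) (.node (nat_lit 273752) l7203 l7204)))
noncomputable def n941 : T := (.node (nat_lit 273942) (.node (nat_lit 273866) (.node (nat_lit 273828) l7205 l7206) (.node (nat_lit 273904) l7207 l7208)) (.node (nat_lit 274018) (.node (nat_lit 273980) l7209 l7210) (.node (nat_lit 274056) l7211 l7212)))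
noncomputable def n942 : T := (.node (nat_lit 274246) (.node (nat_lit 274170) (.node (nat_lit 274132) l7213 l7214) (.node (nat_lit 274208) l7215 l7216)) (.node (nat_lit 274322) (.node (nat_lit 274284) l7217 l7218) (.node (nat_lit 274360) l7219 l7220)))
noncomputable def n943 : T := (.node (nat_lit 274550) (.node (nat_lit 274474) (.node (nat_lit 274436) l7221 l7222) (.node (nat_lit 274512) l7223 l7224)) (.node (nat_lit 274626) (.node (nat_lit 274588) l7225 l7226) (.node (nat_lit 274664) l7227 l7228)))
noncomputable def n944 : T := (.node (nat_lit 274854) (.node (nat_lit 274778) (.node (nat_lit 274740) l7229 l7230) (.node (nat_lit 274816) l7231 l7232)) (.node (nat_lit 274930) (.node (nat_lit 274892) l7233 l7234) (.node (nat_lit 274968) l7235 l7236)))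
noncomputable def n945 : T := (.node (nat_lit 275158) (.node (nat_lit 275082) (.node (nat_lit 275044) l7237 l7238) (.node (nat_lit 275120) l7239 l7240)) (.node (nat_lit 275234) (.node (nat_lit 275196) l7241 l7242) (.node (nat_lit 275272) l7243 l7244)))
noncomputable def n946 : T := (.node (nat_lit 275462) (.node (nat_lit 275386) (.node (nat_lit 275348) l7245 l7246) (.node (nat_lit 275424) l7247 l7248)) (.node (nat_lit 275538) (.node (nat_lit 275500) l7249 l7250) (.node (nat_lit 275576) l7251 l7252)))
noncomputable def n947 : T := (.node (nat_lit 275766) (.node (nat_lit 275690) (.node (nat_lit 275652) l7253 l7254) (.node (nat_lit 275728) l7255 l7256)) (.node (nat_lit 275842) (.node (nat_lit 275804) l7257 l7258) (.node (nat_lit 275880) l7259 l7260)))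
noncomputable def n948 : T := (.node (nat_lit 276032) (.node (nat_lit 275956) l7261 (.node (nat_lit 275994) l7262 l7263)) (.node (nat_lit 276108) (.node (nat_lit 276070) l7264 l7265) (.node (nat_lit 276146) l7266 l7267)))
noncomputable def n949 : T := (.node (nat_lit 276336) (.node (nat_lit 276260) (.node (nat_lit 276222) l7268 l7269) (.node (nat_lit 276298) l7270 l7271)) (.node (nat_lit 276412) (.node (nat_lit 276374) l7272 l7273) (.node (nat_lit 276450) l7274 l7275)))
noncomputable def n950 : T := (.node (nat_lit 276640) (.node (nat_lit 276564) (.node (nat_lit 276526) l7276 l7277) (.node (nat_lit 276602) l7278 l7279)) (.node (nat_lit 276716) (.node (nat_lit 276678) l7280 l7281) (.node (nat_lit 276754) l7282 l7283)))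
noncomputable def n951 : T := (.node (nat_lit 276944) (.node (nat_lit 276868) (.node (nat_lit 276830) l7284 l7285) (.node (nat_lit 276906) l7286 l7287)) (.node (nat_lit 277020) (.node (nat_lit 276982) l7288 l7289) (.node (nat_lit 277058) l7290 l7291)))
noncomputable def n952 : T := (.node (nat_lit 277248) (.node (nat_lit 277172) (.node (nat_lit 277134) l7292 l7293) (.node (nat_lit 277210) l7294 l7295)) (.node (nat_lit 277324) (.node (nat_lit 277286) l7296 l7297) (.node (nat_lit 277362) l7298 l7299)))
noncomputable def n953 : T := (.node (nat_lit 277552) (.node (nat_lit 277476) (.node (nat_lit 277438) l7300 l7301) (.node (nat_lit 277514) l7302 l7303)) (.node (nat_lit 277628) (.node (nat_lit 277590) l7304 l7305) (.node (nat_lit 277666) l7306 l7307)))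
noncomputable def n954 : T := (.node (nat_lit 277856) (.node (nat_lit 277780) (.node (nat_lit 277742) l7308 l7309) (.node (nat_lit 277818) l7310 l7311)) (.node (nat_lit 277932) (.node (nat_lit 277894) l7312 l7313) (.node (nat_lit 277970) l7314 l7315)))
noncomputable def n955 : T := (.node (nat_lit 278160) (.node (nat_lit 278084) (.node (nat_lit 278046) l7316 l7317) (.node (nat_lit 278122) l7318 l7319)) (.node (nat_lit 278236) (.node (nat_lit 278198) l7320 l7321) (.node (nat_lit 278274) l7322 l7323)))
noncomputable def n956 : T := (.node (nat_lit 273524) (.node (nat_lit 271130) (.node (nat_lit 269914) (.node (nat_lit 269306) (.node (nat_lit 269002) n924 n925) (.node (nat_lit 269610) n926 n927)) (.node (nat_lit 270522) (.node (nat_lit 270218) n928 n929) (.node (nat_lit 270826) n930 n931))) (.node (nat_lit 272308) (.node (nat_lit 271700) (.node (nat_lit 271396) n932 n933) (.node (nat_lit 272004) n934 n935)) (.node (nat_lit 272916) (.node (nat_lit 272612) n936 n937) (.node (nat_lit 273220) n938 n939)))) (.node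 (nat_lit 275918) (.node (nat_lit 274702) (.node (nat_lit 274094) (.node (nat_lit 273790) n940 n941) (.node (nat_lit 274398) n942 n943)) (.node (nat_lit 275310) (.node (nat_lit 275006) n944 n945) (.node (nat_lit 275614) n946 n947))) (.node (nat_lit 277096) (.node (nat_lit 276488) (.node (nat_lit 276184) n948 n949) (.node (nat_lit 276792) n950 n951)) (.node (nat_lit 277704) (.node (nat_lit 277400) n952 n953) (.node (nat_lit 278008) n954 n955)))))
noncomputable def n957 : T := (.node (nat_lit 278426) (.node (nat_lit 278350) l7324 (.node (nat_lit 278388) l7325 l7326)) (.node (nat_lit 278502) (.node (nat_lit 278464) l7327 l7328) (.node (nat_lit 278540) l7329 l7330)))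
noncomputable def n958 : T := (.node (nat_lit 278730) (.node (nat_lit 278654) (.node (nat_lit 278616) l7331 l7332) (.node (nat_lit 278692) l7333 l7334)) (.node (nat_lit 278806) (.node (nat_lit 278768) l7335 l7336) (.node (nat_lit 278844) l7337 l7338)))
noncomputable def n959 : T := (.node (nat_lit 279034) (.node (nat_lit 278958) (.node (nat_lit 278920) l7339 l7340) (.node (nat_lit 278996) l7341 l7342)) (.node (nat_lit 279110) (.node (nat_lit 279072) l7343 l7344) (.node (nat_lit 279148) l7345 l7346)))
noncomputable def n960 : T := (.node (nat_lit 279338) (.node (nat_lit 279262) (.node (nat_lit 279224) l7347 l7348) (.node (nat_lit 279300) l7349 l7350)) (.node (nat_lit 279414) (.node (nat_lit 279376) l7351 l7352) (.node (nat_lit 279452) l7353 l7354)))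
noncomputable def n961 : T := (.node (nat_lit 279642) (.node (nat_lit 279566) (.node (nat_lit 279528) l7355 l7356) (.node (nat_lit 279604) l7357 l7358)) (.node (nat_lit 279718) (.node (nat_lit 279680) l7359 l7360) (.node (nat_lit 279756) l7361 l7362)))
noncomputable def n962 : T := (.node (nat_lit 279946) (.node (nat_lit 279870) (.node (nat_lit 279832) l7363 l7364) (.node (nat_lit 279908) l7365 l7366)) (.node (nat_lit 280022) (.node (nat_lit 279984) l7367 l7368) (.node (nat_lit 280060) l7369 l7370)))
noncomputable def n963 : T := (.node (nat_lit 280250) (.node (nat_lit 280174) (.node (nat_lit 280136) l7371 l7372) (.node (nat_lit 280212) l7373 l7374)) (.node (nat_lit 280326) (.node (nat_lit 280288) l7375 l7376) (.node (nat_lit 280364) l7377 l7378)))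
noncomputable def n964 : T := (.node (nat_lit 280554) (.node (nat_lit 280478) (.node (nat_lit 280440) l7379 l7380) (.node (nat_lit 280516) l7381 l7382)) (.node (nat_lit 280630) (.node (nat_lit 280592) l7383 l7384) (.node (nat_lit 280668) l7385 l7386)))
noncomputable def n965 : T := (.node (nat_lit 280820) (.node (nat_lit 280744) l7387 (.node (nat_lit 280782) l7388 l7389)) (.node (nat_lit 280896) (.node (nat_lit 280858) l7390 l7391) (.node (nat_lit 280934) l7392 l7393)))
noncomputable def n966 : T := (.node (nat_lit 281124) (.node (nat_lit 281048) (.node (nat_lit 281010) l7394 l7395) (.node (nat_lit 281086) l7396 l7397)) (.node (nat_lit 281200) (.node (nat_lit 281162) l7398 l7399) (.node (nat_lit 281238) l7400 l7401)))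
noncomputable def n967 : T := (.node (nat_lit 281428) (.node (nat_lit 281352) (.node (nat_lit 281314) l7402 l7403) (.node (nat_lit 281390) l7404 l7405)) (.node (nat_lit 281504) (.node (nat_lit 281466) l7406 l7407) (.node (nat_lit 281542) l7408 l7409)))
noncomputable def n968 : T := (.node (nat_lit 281732) (.node (nat_lit 281656) (.node (nat_lit 281618) l7410 l7411) (.node (nat_lit 281694) l7412 l7413)) (.node (nat_lit 281808) (.node (nat_lit 281770) l7414 l7415) (.node (nat_lit 281846) l7416 l7417)))
noncomputable def n969 : T := (.node (nat_lit 282036) (.node (nat_lit 281960) (.node (nat_lit 281922) l7418 l7419) (.node (nat_lit 281998) l7420 l7421)) (.node (nat_lit 282112) (.node (nat_lit 282074) l7422 l7423) (.node (nat_lit 282150) l7424 l7425)))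
noncomputable def n970 : T := (.node (nat_lit 282340) (.node (nat_lit 282264) (.node (nat_lit 282226) l7426 l7427) (.node (nat_lit 282302) l7428 l7429)) (.node (nat_lit 282416) (.node (nat_lit 282378) l7430 l7431) (.node (nat_lit 282454) l7432 l7433)))
noncomputable def n971 : T := (.node (nat_lit 282644) (.node (nat_lit 282568) (.node (nat_lit 282530) l7434 l7435) (.node (nat_lit 282606) l7436 l7437)) (.node (nat_lit 282720) (.node (nat_lit 282682) l7438 l7439) (.node (nat_lit 282758) l7440 l7441)))
noncomputable def n972 : T := (.node (nat_lit 282948) (.node (nat_lit 282872) (.node (nat_lit 282834) l7442 l7443) (.node (nat_lit 282910) l7444 l7445)) (.node (nat_lit 283024) (.node (nat_lit 282986) l7446 l7447) (.node (nat_lit 283062) l7448 l7449)))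
noncomputable def n973 : T := (.node (nat_lit 283214) (.node (nat_lit 283138) l7450 (.node (nat_lit 283176) l7451 l7452)) (.node (nat_lit 283290) (.node (nat_lit 283252) l7453 l7454) (.node (nat_lit 283328) l7455 l7456)))
noncomputable def n974 : T := (.node (nat_lit 283518) (.node (nat_lit 283442) (.node (nat_lit 283404) l7457 l7458) (.node (nat_lit 283480) l7459 l7460)) (.node (nat_lit 283594) (.node (nat_lit 283556) l7461 l7462) (.node (nat_lit 283632) l7463 l7464)))
noncomputable def n975 : T := (.node (nat_lit 283822) (.node (nat_lit 283746) (.node (nat_lit 283708) l7465 l7466) (.node (nat_lit 283784) l7467 l7468)) (.node (nat_lit 283898) (.node (nat_lit 283860) l7469 l7470) (.node (nat_lit 283936) l7471 l7472)))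
noncomputable def n976 : T := (.node (nat_lit 284126) (.node (nat_lit 284050) (.node (nat_lit 284012) l7473 l7474) (.node (nat_lit 284088) l7475 l7476)) (.node (nat_lit 284202) (.node (nat_lit 284164) l7477 l7478) (.node (nat_lit 284240) l7479 l7480)))
noncomputable def n977 : T := (.node (nat_lit 284430) (.node (nat_lit 284354) (.node (nat_lit 284316) l7481 l7482) (.node (nat_lit 284392) l7483 l7484)) (.node (nat_lit 284506) (.node (nat_lit 284468) l7485 l7486) (.node (nat_lit 284544) l7487 l7488)))
noncomputable def n978 : T := (.node (nat_lit 284734) (.node (nat_lit 284658) (.node (nat_lit 284620) l7489 l7490) (.node (nat_lit 284696) l7491 l7492)) (.node (nat_lit 284810) (.node (nat_lit 284772) l7493 l7494) (.node (nat_lit 284848) l7495 l7496)))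
noncomputable def n979 : T := (.node (nat_lit 285038) (.node (nat_lit 284962) (.node (nat_lit 284924) l7497 l7498) (.node (nat_lit 285000) l7499 l7500)) (.node (nat_lit 285114) (.node (nat_lit 285076) l7501 l7502) (.node (nat_lit 285152) l7503 l7504)))
noncomputable def n980 : T := (.node (nat_lit 285342) (.node (nat_lit 285266) (.node (nat_lit 285228) l7505 l7506) (.node (nat_lit 285304) l7507 l7508)) (.node (nat_lit 285418) (.node (nat_lit 285380) l7509 l7510) (.node (nat_lit 285456) l7511 l7512)))
noncomputable def n981 : T := (.node (nat_lit 285646) (.node (nat_lit 285570) (.node (nat_lit 285532) l7513 l7514) (.node (nat_lit 285608) l7515 l7516)) (.node (nat_lit 285722) (.node (nat_lit 285684) l7517 l7518) (.node (nat_lit 285760) l7519 l7520)))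
noncomputable def n982 : T := (.node (nat_lit 285950) (.node (nat_lit 285874) (.node (nat_lit 285836) l7521 l7522) (.node (nat_lit 285912) l7523 l7524)) (.node (nat_lit 286026) (.node (nat_lit 285988) l7525 l7526) (.node (nat_lit 286064) l7527 l7528)))
noncomputable def n983 : T := (.node (nat_lit 286254) (.node (nat_lit 286178) (.node (nat_lit 286140) l7529 l7530) (.node (nat_lit 286216) l7531 l7532)) (.node (nat_lit 286330) (.node (nat_lit 286292) l7533 l7534) (.node (nat_lit 286368) l7535 l7536)))
noncomputable def n984 : T := (.node (nat_lit 286558) (.node (nat_lit 286482) (.node (nat_lit 286444) l7537 l7538) (.node (nat_lit 286520) l7539 l7540)) (.node (nat_lit 286634) (.node (nat_lit 286596) l7541 l7542) (.node (nat_lit 286672) l7543 l7544)))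
noncomputable def n985 : T := (.node (nat_lit 286862) (.node (nat_lit 286786) (.node (nat_lit 286748) l7545 l7546) (.node (nat_lit 286824) l7547 l7548)) (.node (nat_lit 286938) (.node (nat_lit 286900) l7549 l7550) (.node (nat_lit 286976) l7551 l7552)))
noncomputable def n986 : T := (.node (nat_lit 287166) (.node (nat_lit 287090) (.node (nat_lit 287052) l7553 l7554) (.node (nat_lit 287128) l7555 l7556)) (.node (nat_lit 287242) (.node (nat_lit 287204) l7557 l7558) (.node (nat_lit 287280) l7559 l7560)))
noncomputable def n987 : T := (.node (nat_lit 287470) (.node (nat_lit 287394) (.node (nat_lit 287356) l7561 l7562) (.node (nat_lit 287432) l7563 l7564)) (.node (nat_lit 287546) (.node (nat_lit 287508) l7565 l7566) (.node (nat_lit 287584) l7567 l7568)))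
noncomputable def n988 : T := (.node (nat_lit 287774) (.node (nat_lit 287698) (.node (nat_lit 287660) l7569 l7570) (.node (nat_lit 287736) l7571 l7572)) (.node (nat_lit 287850) (.node (nat_lit 287812) l7573 l7574) (.node (nat_lit 287888) l7575 l7576)))
noncomputable def n989 : T := (.node (nat_lit 283100) (.node (nat_lit 280706) (.node (nat_lit 279490) (.node (nat_lit 278882) (.node (nat_lit 278578) n957 n958) (.node (nat_lit 279186) n959 n960)) (.node (nat_lit 280098) (.node (nat_lit 279794) n961 n962) (.node (nat_lit 280402) n963 n964))) (.node (nat_lit 281884) (.node (nat_lit 281276) (.node (nat_lit 280972) n965 n966) (.node (nat_lit 281580) n967 n968)) (.node (nat_lit 282492) (.node (nat_lit 282188) n969 n970) (.node (nat_lit 282796) n971 n972)))) (.node (nat_lit 285494) (.node (nat_lit 284278) (.node (nat_lit 283670) (.node (nat_lit 283366) n973 n974) (.node (nat_lit 283974) n975 n976)) (.node (nat_lit 284886) (.node (nat_lit 284582) n977 n978) (.node (nat_lit 285190) n979 n980))) (.node (nat_lit 286710)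 (.node (nat_lit 286102) (.node (nat_lit 285798) n981 n982) (.node (nat_lit 286406) n983 n984)) (.node (nat_lit 287318) (.node (nat_lit 287014) n985 n986) (.node (nat_lit 287622) n987 n988)))))
noncomputable def n990 : T := (.node (nat_lit 288040) (.node (nat_lit 287964) l7577 (.node (nat_lit 288002) l7578 l7579)) (.node (nat_lit 288116) (.node (nat_lit 288078) l7580 l7581) (.node (nat_lit 288154) l7582 l7583)))
noncomputable def n991 : T := (.node (nat_lit 288344) (.node (nat_lit 288268) (.node (nat_lit 288230) l7584 l7585) (.node (nat_lit 288306) l7586 l7587)) (.node (nat_lit 288420) (.node (nat_lit 288382) l7588 l7589) (.node (nat_lit 288458) l7590 l7591)))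
noncomputable def n992 : T := (.node (nat_lit 288648) (.node (nat_lit 288572) (.node (nat_lit 288534) l7592 l7593) (.node (nat_lit 288610) l7594 l7595)) (.node (nat_lit 288724) (.node (nat_lit 288686) l7596 l7597) (.node (nat_lit 288762) l7598 l7599)))
noncomputable def n993 : T := (.node (nat_lit 288952) (.node (nat_lit 288876) (.node (nat_lit 288838) l7600 l7601) (.node (nat_lit 288914) l7602 l7603)) (.node (nat_lit 289028) (.node (nat_lit 288990) l7604 l7605) (.node (nat_lit 289066) l7606 l7607)))
noncomputable def n994 : T := (.node (nat_lit 289256) (.node (nat_lit 289180) (.node (nat_lit 289142) l7608 l7609) (.node (nat_lit 289218) l7610 l7611)) (.node (nat_lit 289332) (.node (nat_lit 289294) l7612 l7613) (.node (nat_lit 289370) l7614 l7615)))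
noncomputable def n995 : T := (.node (nat_lit 289560) (.node (nat_lit 289484) (.node (nat_lit 289446) l7616 l7617) (.node (nat_lit 289522) l7618 l7619)) (.node (nat_lit 289636) (.node (nat_lit 289598) l7620 l7621) (.node (nat_lit 289674) l7622 l7623)))
noncomputable def n996 : T := (.node (nat_lit 289864) (.node (nat_lit 289788) (.node (nat_lit 289750) l7624 l7625) (.node (nat_lit 289826) l7626 l7627)) (.node (nat_lit 289940) (.node (nat_lit 289902) l7628 l7629) (.node (nat_lit 289978) l7630 l7631)))
noncomputable def n997 : T := (.node (nat_lit 290168) (.node (nat_lit 290092) (.node (nat_lit 290054) l7632 l7633) (.node (nat_lit 290130) l7634 l7635)) (.node (nat_lit 290244) (.node (nat_lit 290206) l7636 l7637) (.node (nat_lit 290282) l7638 l7639)))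
noncomputable def n998 : T := (.node (nat_lit 290434) (.node (nat_lit 290358) l7640 (.node (nat_lit 290396) l7641 l7642)) (.node (nat_lit 290510) (.node (nat_lit 290472) l7643 l7644) (.node (nat_lit 290548) l7645 l7646)))
noncomputable def n999 : T := (.node (nat_lit 290738) (.node (nat_lit 290662) (.node (nat_lit 290624) l7647 l7648) (.node (nat_lit 290700) l7649 l7650)) (.node (nat_lit 290814) (.node (nat_lit 290776) l7651 l7652) (.node (nat_lit 290852) l7653 l7654)))
noncomputable def n1000 : T := (.node (nat_lit 291042) (.node (nat_lit 290966) (.node (nat_lit 290928) l7655 l7656) (.node (nat_lit 291004) l7657 l7658)) (.node (nat_lit 291118) (.node (nat_lit 291080) l7659 l7660) (.node (nat_lit 291156) l7661 l7662)))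
noncomputable def n1001 : T := (.node (nat_lit 291346) (.node (nat_lit 291270) (.node (nat_lit 291232) l7663 l7664) (.node (nat_lit 291308) l7665 l7666)) (.node (nat_lit 291422) (.node (nat_lit 291384) l7667 l7668) (.node (nat_lit 291460) l7669 l7670)))
noncomputable def n1002 : T := (.node (nat_lit 291650) (.node (nat_lit 291574) (.node (nat_lit 291536) l7671 l7672) (.node (nat_lit 291612) l7673 l7674)) (.node (nat_lit 291726) (.node (nat_lit 291688) l7675 l7676) (.node (nat_lit 291764) l7677 l7678)))
noncomputable def n1003 : T := (.node (nat_lit 291954) (.node (nat_lit 291878) (.node (nat_lit 291840) l7679 l7680) (.node (nat_lit 291916) l7681 l7682)) (.node (nat_lit 292030) (.node (nat_lit 291992) l7683 l7684) (.node (nat_lit 292068) l7685 l7686)))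
noncomputable def n1004 : T := (.node (nat_lit 292258) (.node (nat_lit 292182) (.node (nat_lit 292144) l7687 l7688) (.node (nat_lit 292220) l7689 l7690)) (.node (nat_lit 292334) (.node (nat_lit 292296) l7691 l7692) (.node (nat_lit 292372) l7693 l7694)))
noncomputable def n1005 : T := (.node (nat_lit 292562) (.node (nat_lit 292486) (.node (nat_lit 292448) l7695 l7696) (.node (nat_lit 292524) l7697 l7698)) (.node (nat_lit 292638) (.node (nat_lit 292600) l7699 l7700) (.node (nat_lit 292676) l7701 l7702)))
noncomputable def n1006 : T := (.node (nat_lit 292828) (.node (nat_lit 292752) l7703 (.node (nat_lit 292790) l7704 l7705)) (.node (nat_lit 292904) (.node (nat_lit 292866) l7706 l7707) (.node (nat_lit 292942) l7708 l7709)))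
noncomputable def n1007 : T := (.node (nat_lit 293132) (.node (nat_lit 293056) (.node (nat_lit 293018) l7710 l7711) (.node (nat_lit 293094) l7712 l7713)) (.node (nat_lit 293208) (.node (nat_lit 293170) l7714 l7715) (.node (nat_lit 293246) l7716 l7717)))
noncomputable def n1008 : T := (.node (nat_lit 293436) (.node (nat_lit 293360) (.node (nat_lit 293322) l7718 l7719) (.node (nat_lit 293398) l7720 l7721)) (.node (nat_lit 293512) (.node (nat_lit 293474) l7722 l7723) (.node (nat_lit 293550) l7724 l7725)))
noncomputable def n1009 : T := (.node (nat_lit 293740) (.node (nat_lit 293664) (.node (nat_lit 293626) l7726 l7727) (.node (nat_lit 293702) l7728 l7729)) (.node (nat_lit 293816) (.node (nat_lit 293778) l7730 l7731) (.node (nat_lit 293854) l7732 l7733)))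
noncomputable def n1010 : T := (.node (nat_lit 294044) (.node (nat_lit 293968) (.node (nat_lit 293930) l7734 l7735) (.node (nat_lit 294006) l7736 l7737)) (.node (nat_lit 294120) (.node (nat_lit 294082) l7738 l7739) (.node (nat_lit 294158) l7740 l7741)))
noncomputable def n1011 : T := (.node (nat_lit 294348) (.node (nat_lit 294272) (.node (nat_lit 294234) l7742 l7743) (.node (nat_lit 294310) l7744 l7745)) (.node (nat_lit 294424) (.node (nat_lit 294386) l7746 l7747) (.node (nat_lit 294462) l7748 l7749)))
noncomputable def n1012 : T := (.node (nat_lit 294652) (.node (nat_lit 294576) (.node (nat_lit 294538) l7750 l7751) (.node (nat_lit 294614) l7752 l7753)) (.node (nat_lit 294728) (.node (nat_lit 294690) l7754 l7755) (.node (nat_lit 294766) l7756 l7757)))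
noncomputable def n1013 : T := (.node (nat_lit 294956) (.node (nat_lit 294880) (.node (nat_lit 294842) l7758 l7759) (.node (nat_lit 294918) l7760 l7761)) (.node (nat_lit 295032) (.node (nat_lit 294994) l7762 l7763) (.node (nat_lit 295070) l7764 l7765)))
noncomputable def n1014 : T := (.node (nat_lit 295260) (.node (nat_lit 295184) (.node (nat_lit 295146) l7766 l7767) (.node (nat_lit 295222) l7768 l7769)) (.node (nat_lit 295336) (.node (nat_lit 295298) l7770 l7771) (.node (nat_lit 295374) l7772 l7773)))
noncomputable def n1015 : T := (.node (nat_lit 295564) (.node (nat_lit 295488) (.node (nat_lit 295450) l7774 l7775) (.node (nat_lit 295526) l7776 l7777)) (.node (nat_lit 295640) (.node (nat_lit 295602) l7778 l7779) (.node (nat_lit 295678) l7780 l7781)))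
noncomputable def n1016 : T := (.node (nat_lit 295868) (.node (nat_lit 295792) (.node (nat_lit 295754) l7782 l7783) (.node (nat_lit 295830) l7784 l7785)) (.node (nat_lit 295944) (.node (nat_lit 295906) l7786 l7787) (.node (nat_lit 295982) l7788 l7789)))
noncomputable def n1017 : T := (.node (nat_lit 296172) (.node (nat_lit 296096) (.node (nat_lit 296058) l7790 l7791) (.node (nat_lit 296134) l7792 l7793)) (.node (nat_lit 296248) (.node (nat_lit 296210) l7794 l7795) (.node (nat_lit 296286) l7796 l7797)))
noncomputable def n1018 : T := (.node (nat_lit 296476) (.node (nat_lit 296400) (.node (nat_lit 296362) l7798 l7799) (.node (nat_lit 296438) l7800 l7801)) (.node (nat_lit 296552) (.node (nat_lit 296514) l7802 l7803) (.node (nat_lit 296590) l7804 l7805)))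
noncomputable def n1019 : T := (.node (nat_lit 296780) (.node (nat_lit 296704) (.node (nat_lit 296666) l7806 l7807) (.node (nat_lit 296742) l7808 l7809)) (.node (nat_lit 296856) (.node (nat_lit 296818) l7810 l7811) (.node (nat_lit 296894) l7812 l7813)))
noncomputable def n1020 : T := (.node (nat_lit 297084) (.node (nat_lit 297008) (.node (nat_lit 296970) l7814 l7815) (.node (nat_lit 297046) l7816 l7817)) (.node (nat_lit 297160) (.node (nat_lit 297122) l7818 l7819) (.node (nat_lit 297198) l7820 l7821)))
noncomputable def n1021 : T := (.node (nat_lit 297388) (.node (nat_lit 297312) (.node (nat_lit 297274) l7822 l7823) (.node (nat_lit 297350) l7824 l7825)) (.node (nat_lit 297464) (.node (nat_lit 297426) l7826 l7827) (.node (nat_lit 297502) l7828 l7829)))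
noncomputable def n1022 : T := (.node (nat_lit 292714) (.node (nat_lit 290320) (.node (nat_lit 289104) (.node (nat_lit 288496) (.node (nat_lit 288192) n990 n991) (.node (nat_lit 288800) n992 n993)) (.node (nat_lit 289712) (.node (nat_lit 289408) n994 n995) (.node (nat_lit 290016) n996 n997))) (.node (nat_lit 291498) (.node (nat_lit 290890) (.node (nat_lit 290586) n998 n999) (.node (nat_lit 291194) n1000 n1001)) (.node (nat_lit 292106) (.node (nat_lit 291802) n1002 n1003) (.node (nat_lit 292410) n1004 n1005)))) (.node (nat_lit 295108) (.node (nat_lit 293892) (.node (nat_lit 293284) (.node (nat_lit 292980) n1006 n1007) (.node (nat_lit 293588) n1008 n1009)) (.node (nat_lit 294500) (.node (nat_lit 294196) n1010 n1011) (.node (nat_lit 294804) n1012 n1013))) (.node (nat_lit 296324) (.node (nat_lit 295716) (.node (nat_lit 295412) n1014 n1015) (.node (nat_lit 296020) n1016 n1017)) (.node (nat_lit 296932) (.node (nat_lit 296628) n1018 n1019) (.node (nat_lit 297236) n1020 n1021)))))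
noncomputable def n1023 : T := (.node (nat_lit 297654) (.node (nat_lit 297578) l7830 (.node (nat_lit 297616) l7831 l7832)) (.node (nat_lit 297730) (.node (nat_lit 297692) l7833 l7834) (.node (nat_lit 297768) l7835 l7836)))
noncomputable def n1024 : T := (.node (nat_lit 297958) (.node (nat_lit 297882) (.node (nat_lit 297844) l7837 l7838) (.node (nat_lit 297920) l7839 l7840)) (.node (nat_lit 298034) (.node (nat_lit 297996) l7841 l7842) (.node (nat_lit 298072) l7843 l7844)))
noncomputable def n1025 : T := (.node (nat_lit 298262) (.node (nat_lit 298186) (.node (nat_lit 298148) l7845 l7846) (.node (nat_lit 298224) l7847 l7848)) (.node (nat_lit 298338) (.node (nat_lit 298300) l7849 l7850) (.node (nat_lit 298376) l7851 l7852)))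
noncomputable def n1026 : T := (.node (nat_lit 298566) (.node (nat_lit 298490) (.node (nat_lit 298452) l7853 l7854) (.node (nat_lit 298528) l7855 l7856)) (.node (nat_lit 298642) (.node (nat_lit 298604) l7857 l7858) (.node (nat_lit 298680) l7859 l7860)))
noncomputable def n1027 : T := (.node (nat_lit 298870) (.node (nat_lit 298794) (.node (nat_lit 298756) l7861 l7862) (.node (nat_lit 298832) l7863 l7864)) (.node (nat_lit 298946) (.node (nat_lit 298908) l7865 l7866) (.node (nat_lit 298984) l7867 l7868)))
noncomputable def n1028 : T := (.node (nat_lit 299174) (.node (nat_lit 299098) (.node (nat_lit 299060) l7869 l7870) (.node (nat_lit 299136) l7871 l7872)) (.node (nat_lit 299250) (.node (nat_lit 299212) l7873 l7874) (.node (nat_lit 299288) l7875 l7876)))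
noncomputable def n1029 : T := (.node (nat_lit 299478) (.node (nat_lit 299402) (.node (nat_lit 299364) l7877 l7878) (.node (nat_lit 299440) l7879 l7880)) (.node (nat_lit 299554) (.node (nat_lit 299516) l7881 l7882) (.node (nat_lit 299592) l7883 l7884)))
noncomputable def n1030 : T := (.node (nat_lit 299782) (.node (nat_lit 299706) (.node (nat_lit 299668) l7885 l7886) (.node (nat_lit 299744) l7887 l7888)) (.node (nat_lit 299858) (.node (nat_lit 299820) l7889 l7890) (.node (nat_lit 299896) l7891 l7892)))
noncomputable def n1031 : T := (.node (nat_lit 300048) (.node (nat_lit 299972) l7893 (.node (nat_lit 300010) l7894 l7895)) (.node (nat_lit 300124) (.node (nat_lit 300086) l7896 l7897) (.node (nat_lit 300162) l7898 l7899)))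
noncomputable def n1032 : T := (.node (nat_lit 300352) (.node (nat_lit 300276) (.node (nat_lit 300238) l7900 l7901) (.node (nat_lit 300314) l7902 l7903)) (.node (nat_lit 300428) (.node (nat_lit 300390) l7904 l7905) (.node (nat_lit 300466) l7906 l7907)))
noncomputable def n1033 : T := (.node (nat_lit 300656) (.node (nat_lit 300580) (.node (nat_lit 300542) l7908 l7909) (.node (nat_lit 300618) l7910 l7911)) (.node (nat_lit 300732) (.node (nat_lit 300694) l7912 l7913) (.node (nat_lit 300770) l7914 l7915)))
noncomputable def n1034 : T := (.node (nat_lit 300960) (.node (nat_lit 300884) (.node (nat_lit 300846) l7916 l7917) (.node (nat_lit 300922) l7918 l7919)) (.node (nat_lit 301036) (.node (nat_lit 300998) l7920 l7921) (.node (nat_lit 301074) l7922 l7923)))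
noncomputable def n1035 : T := (.node (nat_lit 301264) (.node (nat_lit 301188) (.node (nat_lit 301150) l7924 l7925) (.node (nat_lit 301226) l7926 l7927)) (.node (nat_lit 301340) (.node (nat_lit 301302) l7928 l7929) (.node (nat_lit 301378) l7930 l7931)))
noncomputable def n1036 : T := (.node (nat_lit 301568) (.node (nat_lit 301492) (.node (nat_lit 301454) l7932 l7933) (.node (nat_lit 301530) l7934 l7935)) (.node (nat_lit 301644) (.node (nat_lit 301606) l7936 l7937) (.node (nat_lit 301682) l7938 l7939)))
noncomputable def n1037 : T := (.node (nat_lit 301872) (.node (nat_lit 301796) (.node (nat_lit 301758) l7940 l7941) (.node (nat_lit 301834) l7942 l7943)) (.node (nat_lit 301948) (.node (nat_lit 301910) l7944 l7945) (.node (nat_lit 301986) l7946 l7947)))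
noncomputable def n1038 : T := (.node (nat_lit 302176) (.node (nat_lit 302100) (.node (nat_lit 302062) l7948 l7949) (.node (nat_lit 302138) l7950 l7951)) (.node (nat_lit 302252) (.node (nat_lit 302214) l7952 l7953) (.node (nat_lit 302290) l7954 l7955)))
noncomputable def n1039 : T := (.node (nat_lit 302442) (.node (nat_lit 302366) l7956 (.node (nat_lit 302404) l7957 l7958)) (.node (nat_lit 302518) (.node (nat_lit 302480) l7959 l7960) (.node (nat_lit 302556) l7961 l7962)))
noncomputable def n1040 : T := (.node (nat_lit 302746) (.node (nat_lit 302670) (.node (nat_lit 302632) l7963 l7964) (.node (nat_lit 302708) l7965 l7966)) (.node (nat_lit 302822) (.node (nat_lit 302784) l7967 l7968) (.node (nat_lit 302860) l7969 l7970)))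
noncomputable def n1041 : T := (.node (nat_lit 303050) (.node (nat_lit 302974) (.node (nat_lit 302936) l7971 l7972) (.node (nat_lit 303012) l7973 l7974)) (.node (nat_lit 303126) (.node (nat_lit 303088) l7975 l7976) (.node (nat_lit 303164) l7977 l7978)))
noncomputable def n1042 : T := (.node (nat_lit 303354) (.node (nat_lit 303278) (.node (nat_lit 303240) l7979 l7980) (.node (nat_lit 303316) l7981 l7982)) (.node (nat_lit 303430) (.node (nat_lit 303392) l7983 l7984) (.node (nat_lit 303468) l7985 l7986)))
noncomputable def n1043 : T := (.node (nat_lit 303658) (.node (nat_lit 303582) (.node (nat_lit 303544) l7987 l7988) (.node (nat_lit 303620) l7989 l7990)) (.node (nat_lit 303734) (.node (nat_lit 303696) l7991 l7992) (.node (nat_lit 303772) l7993 l7994)))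
noncomputable def n1044 : T := (.node (nat_lit 303962) (.node (nat_lit 303886) (.node (nat_lit 303848) l7995 l7996) (.node (nat_lit 303924) l7997 l7998)) (.node (nat_lit 304038) (.node (nat_lit 304000) l7999 l8000) (.node (nat_lit 304076) l8001 l8002)))
noncomputable def n1045 : T := (.node (nat_lit 304266) (.node (nat_lit 304190) (.node (nat_lit 304152) l8003 l8004) (.node (nat_lit 304228) l8005 l8006)) (.node (nat_lit 304342) (.node (nat_lit 304304) l8007 l8008) (.node (nat_lit 304380) l8009 l8010)))
noncomputable def n1046 : T := (.node (nat_lit 304570) (.node (nat_lit 304494) (.node (nat_lit 304456) l8011 l8012) (.node (nat_lit 304532) l8013 l8014)) (.node (nat_lit 304646) (.node (nat_lit 304608) l8015 l8016) (.node (nat_lit 304684) l8017 l8018)))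
noncomputable def n1047 : T := (.node (nat_lit 304874) (.node (nat_lit 304798) (.node (nat_lit 304760) l8019 l8020) (.node (nat_lit 304836) l8021 l8022)) (.node (nat_lit 304950) (.node (nat_lit 304912) l8023 l8024) (.node (nat_lit 304988) l8025 l8026)))
noncomputable def n1048 : T := (.node (nat_lit 305178) (.node (nat_lit 305102) (.node (nat_lit 305064) l8027 l8028) (.node (nat_lit 305140) l8029 l8030)) (.node (nat_lit 305254) (.node (nat_lit 305216) l8031 l8032) (.node (nat_lit 305292) l8033 l8034)))
noncomputable def n1049 : T := (.node (nat_lit 305482) (.node (nat_lit 305406) (.node (nat_lit 305368) l8035 l8036) (.node (nat_lit 305444) l8037 l8038)) (.node (nat_lit 305558) (.node (nat_lit 305520) l8039 l8040) (.node (nat_lit 305596) l8041 l8042)))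
noncomputable def n1050 : T := (.node (nat_lit 305786) (.node (nat_lit 305710) (.node (nat_lit 305672) l8043 l8044) (.node (nat_lit 305748) l8045 l8046)) (.node (nat_lit 305862) (.node (nat_lit 305824) l8047 l8048) (.node (nat_lit 305900) l8049 l8050)))
noncomputable def n1051 : T := (.node (nat_lit 306090) (.node (nat_lit 306014) (.node (nat_lit 305976) l8051 l8052) (.node (nat_lit 306052) l8053 l8054)) (.node (nat_lit 306166) (.node (nat_lit 306128) l8055 l8056) (.node (nat_lit 306204) l8057 l8058)))
noncomputable def n1052 : T := (.node (nat_lit 306394) (.node (nat_lit 306318) (.node (nat_lit 306280) l8059 l8060) (.node (nat_lit 306356) l8061 l8062)) (.node (nat_lit 306470) (.node (nat_lit 306432) l8063 l8064) (.node (nat_lit 306508) l8065 l8066)))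
noncomputable def n1053 : T := (.node (nat_lit 306698) (.node (nat_lit 306622) (.node (nat_lit 306584) l8067 l8068) (.node (nat_lit 306660) l8069 l8070)) (.node (nat_lit 306774) (.node (nat_lit 306736) l8071 l8072) (.node (nat_lit 306812) l8073 l8074)))
noncomputable def n1054 : T := (.node (nat_lit 307002) (.node (nat_lit 306926) (.node (nat_lit 306888) l8075 l8076) (.node (nat_lit 306964) l8077 l8078)) (.node (nat_lit 307078) (.node (nat_lit 307040) l8079 l8080) (.node (nat_lit 307116) l8081 l8082)))
noncomputable def n1055 : T := (.node (nat_lit 302328) (.node (nat_lit 299934) (.node (nat_lit 298718) (.node (nat_lit 298110) (.node (nat_lit 297806) n1023 n1024) (.node (nat_lit 298414) n1025 n1026)) (.node (nat_lit 299326) (.node (nat_lit 299022) n1027 n1028) (.node (nat_lit 299630) n1029 n1030))) (.node (nat_lit 301112) (.node (nat_lit 300504) (.node (nat_lit 300200) n1031 n1032) (.node (nat_lit 300808) n1033 n1034)) (.node (nat_lit 301720) (.node (nat_lit 301416) n1035 n1036) (.node (nat_lit 302024) n1037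 n1038)))) (.node (nat_lit 304722) (.node (nat_lit 303506) (.node (nat_lit 302898) (.node (nat_lit 302594) n1039 n1040) (.node (nat_lit 303202) n1041 n1042)) (.node (nat_lit 304114) (.node (nat_lit 303810) n1043 n1044) (.node (nat_lit 304418) n1045 n1046))) (.node (nat_lit 305938) (.node (nat_lit 305330) (.node (nat_lit 305026) n1047 n1048) (.node (nat_lit 305634) n1049 n1050)) (.node (nat_lit 306546) (.node (nat_lit 306242) n1051 n1052) (.node (nat_lit 306850) n1053 n1054)))))
noncomputable def tb : T := (.node (nat_lit 153558) (.node (nat_lit 76760) (.node (nat_lit 38380) (.node (nat_lit 19190) (.node (nat_lit 9576) n32 n65) (.node (nat_lit 28766) n98 n131)) (.node (nat_lit 57570) (.node (nat_lit 47956) n164 n197) (.node (nat_lit 67146) n230 n263))) (.node (nat_lit 115140) (.node (nat_lit 95950) (.node (nat_lit 86336) n296 n329) (.node (nat_lit 105526) n362 n395)) (.node (nat_lit 134330) (.node (nat_lit 124716) n428 n461) (.node (nat_lit 143944) n494 n527)))) (.node (nat_lit 230356) (.node (nat_lit 191938)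 (.node (nat_lit 172748) (.node (nat_lit 163134) n560 n593) (.node (nat_lit 182324) n626 n659)) (.node (nat_lit 211128) (.node (nat_lit 201514) n692 n725) (.node (nat_lit 220742) n758 n791))) (.node (nat_lit 268736) (.node (nat_lit 249546) (.node (nat_lit 239932) n824 n857) (.node (nat_lit 259122) n890 n923)) (.node (nat_lit 287926) (.node (nat_lit 278312) n956 n989) (.node (nat_lit 297540) n1022 n1055)))))
noncomputable def r0 : WT := (.node (nat_lit 6) (.leaf (nat_lit 38912) [nat_lit 288, nat_lit 72, nat_lit 288]) (.leaf (nat_lit 23554) [nat_lit 432, nat_lit 72, nat_lit 432, nat_lit 72, nat_lit 432]))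
noncomputable def r1 : WT := (.node (nat_lit 8) (.leaf (nat_lit 37888) [nat_lit 252, nat_lit 72, nat_lit 252]) (.leaf (nat_lit 33792) [nat_lit 108, nat_lit 72, nat_lit 108, nat_lit 72, nat_lit 108]))
noncomputable def r2 : WT := (.leaf (nat_lit 79886) [nat_lit 324, nat_lit 252, nat_lit 216, nat_lit 180, nat_lit 144, nat_lit 108, nat_lit 72, nat_lit 324, nat_lit 252, nat_lit 216, nat_lit 180, nat_lit 144, nat_lit 108, nat_lit 72, nat_lit 324, nat_lit 252, nat_lit 216, nat_lit 180, nat_lit 144, nat_lit 108, nat_lit 72, nat_lit 324, nat_lit 252, nat_lit 216, nat_lit 180, nat_lit 144, nat_lit 108, nat_lit 72, nat_lit 324, nat_lit 252, nat_lit 216, nat_lit 180, nat_lit 144, nat_lit 108, nat_lit 72, nat_lit 324, nat_lit 252, nat_lit 216, nat_lit 180, nat_lit 144, nat_lit 108, nat_lit 72, nat_lit 324, nat_lit 252, nat_lit 216, nat_lit 180, nat_lit 144, nat_lit 108, nat_lit 72, nat_lit 324, nat_lit 252, nat_lit 216, nat_lit 180, nat_lit 144, nat_lit 108, nat_lit 72, nat_lit 468, nat_lit 324, nat_lit 252, nat_lit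 216, nat_lit 180, nat_lit 144, nat_lit 108])
noncomputable def r3 : WT := (.leaf (nat_lit 83981) [nat_lit 360, nat_lit 324, nat_lit 216, nat_lit 180, nat_lit 144, nat_lit 108, nat_lit 72, nat_lit 360, nat_lit 324, nat_lit 216, nat_lit 180, nat_lit 144, nat_lit 108, nat_lit 72, nat_lit 360, nat_lit 324, nat_lit 216, nat_lit 180, nat_lit 144, nat_lit 108, nat_lit 72, nat_lit 360, nat_lit 324, nat_lit 216, nat_lit 180, nat_lit 144, nat_lit 108, nat_lit 72, nat_lit 360, nat_lit 324, nat_lit 216, nat_lit 180, nat_lit 144, nat_lit 108, nat_lit 72, nat_lit 360, nat_lit 324, nat_lit 216, nat_lit 180, nat_lit 144, nat_lit 108, nat_lit 72, nat_lit 360, nat_lit 324, nat_lit 216, nat_lit 180, nat_lit 144, nat_lit 108, nat_lit 72, nat_lit 360, nat_lit 324, nat_lit 216, nat_lit 180, nat_lit 144, nat_lit 108, nat_lit 72, nat_lit 468, nat_lit 360, nat_lit 324, nat_lit 216, nat_lit 180, nat_lit 144, nat_lit 108])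
noncomputable def r4 : WT := (.leaf (nat_lit 79873) [nat_lit 108, nat_lit 144, nat_lit 180, nat_lit 216, nat_lit 252, nat_lit 324, nat_lit 72, nat_lit 108, nat_lit 144, nat_lit 180, nat_lit 216, nat_lit 252, nat_lit 324, nat_lit 72, nat_lit 108, nat_lit 144, nat_lit 180, nat_lit 216, nat_lit 252, nat_lit 324, nat_lit 72, nat_lit 108, nat_lit 144, nat_lit 180, nat_lit 216, nat_lit 252, nat_lit 324, nat_lit 72, nat_lit 108, nat_lit 144, nat_lit 180, nat_lit 216, nat_lit 252, nat_lit 324, nat_lit 72, nat_lit 108, nat_lit 144, nat_lit 180, nat_lit 216, nat_lit 252, nat_lit 324, nat_lit 72, nat_lit 108, nat_lit 144, nat_lit 180, nat_lit 216, nat_lit 252, nat_lit 324, nat_lit 72, nat_lit 108, nat_lit 144, nat_lit 180, nat_lit 216, nat_lit 252, nat_lit 324, nat_lit 72, nat_lit 108, nat_lit 144, nat_lit 180, nat_lit 216, nat_lit 252, nat_lit 324, nat_lit 468])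
noncomputable def r5 : WT := (.node (nat_lit 14) r3 r4)
noncomputable def r6 : WT := (.leaf (nat_lit 81922) [nat_lit 108, nat_lit 144, nat_lit 180, nat_lit 216, nat_lit 252, nat_lit 324, nat_lit 432, nat_lit 72, nat_lit 108, nat_lit 144, nat_lit 180, nat_lit 216, nat_lit 252, nat_lit 324, nat_lit 432, nat_lit 72, nat_lit 108, nat_lit 144, nat_lit 180, nat_lit 216, nat_lit 252, nat_lit 324, nat_lit 432, nat_lit 72, nat_lit 108, nat_lit 144, nat_lit 180, nat_lit 216, nat_lit 252, nat_lit 324, nat_lit 432, nat_lit 72, nat_lit 108, nat_lit 144, nat_lit 180, nat_lit 216, nat_lit 252, nat_lit 324, nat_lit 432, nat_lit 72, nat_lit 108, nat_lit 144, nat_lit 180, nat_lit 216, nat_lit 252, nat_lit 324, nat_lit 432, nat_lit 72, nat_lit 108, nat_lit 144, nat_lit 180, nat_lit 216, nat_lit 252, nat_lit 324, nat_lit 432, nat_lit 72, nat_lit 108, nat_lit 144, nat_lit 180, nat_lit 216, nat_lit 252, nat_lit 324, nat_lit 432, nat_lit 72, nat_lit 108, nat_lit 144, nat_lit 180, nat_lit 216, nat_lit 252, nat_lit 324, nat_lit 432,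 nat_lit 72, nat_lit 108, nat_lit 144, nat_lit 180, nat_lit 216, nat_lit 252, nat_lit 324, nat_lit 432, nat_lit 72, nat_lit 108, nat_lit 144, nat_lit 180, nat_lit 216, nat_lit 252, nat_lit 324, nat_lit 432, nat_lit 72, nat_lit 108, nat_lit 144, nat_lit 180, nat_lit 216, nat_lit 252, nat_lit 324, nat_lit 432, nat_lit 72, nat_lit 108, nat_lit 144, nat_lit 180, nat_lit 216, nat_lit 252, nat_lit 324, nat_lit 432, nat_lit 72, nat_lit 108, nat_lit 144, nat_lit 180, nat_lit 216, nat_lit 252, nat_lit 324, nat_lit 432, nat_lit 72, nat_lit 108, nat_lit 144, nat_lit 180, nat_lit 216, nat_lit 252, nat_lit 324, nat_lit 432])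
noncomputable def r7 : WT := (.leaf (nat_lit 82946) [nat_lit 108, nat_lit 144, nat_lit 180, nat_lit 216, nat_lit 324, nat_lit 360, nat_lit 432, nat_lit 72, nat_lit 108, nat_lit 144, nat_lit 180, nat_lit 216, nat_lit 324, nat_lit 360, nat_lit 432, nat_lit 72, nat_lit 108, nat_lit 144, nat_lit 180, nat_lit 216, nat_lit 324, nat_lit 360, nat_lit 432, nat_lit 72, nat_lit 108, nat_lit 144, nat_lit 180, nat_lit 216, nat_lit 324, nat_lit 360, nat_lit 432, nat_lit 72, nat_lit 108, nat_lit 144, nat_lit 180, nat_lit 216, nat_lit 324, nat_lit 360, nat_lit 432, nat_lit 72, nat_lit 108, nat_lit 144, nat_lit 180, nat_lit 216, nat_lit 324, nat_lit 360, nat_lit 432, nat_lit 72, nat_lit 108, nat_lit 144, nat_lit 180, nat_lit 216, nat_lit 324, nat_lit 360, nat_lit 432, nat_lit 72, nat_lit 108, nat_lit 144, nat_lit 180, nat_lit 216, nat_lit 324, nat_lit 360, nat_lit 432, nat_lit 72, nat_lit 108, nat_lit 144, nat_lit 180, nat_lit 216, nat_lit 324, nat_lit 360, nat_lit 432, nat_lit 72, nat_lit 108, nat_lit 144, nat_lit 180, nat_lit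 216, nat_lit 324, nat_lit 360, nat_lit 432, nat_lit 72, nat_lit 108, nat_lit 144, nat_lit 180, nat_lit 216, nat_lit 324, nat_lit 360, nat_lit 432, nat_lit 72, nat_lit 108, nat_lit 144, nat_lit 180, nat_lit 216, nat_lit 324, nat_lit 360, nat_lit 432, nat_lit 72, nat_lit 108, nat_lit 144, nat_lit 180, nat_lit 216, nat_lit 324, nat_lit 360, nat_lit 432, nat_lit 72, nat_lit 108, nat_lit 144, nat_lit 180, nat_lit 216, nat_lit 324, nat_lit 360, nat_lit 432, nat_lit 72, nat_lit 108, nat_lit 144, nat_lit 180, nat_lit 216, nat_lit 324, nat_lit 360, nat_lit 432])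
noncomputable def r8 : WT := (.leaf (nat_lit 83970) [nat_lit 108, nat_lit 144, nat_lit 180, nat_lit 216, nat_lit 324, nat_lit 360, nat_lit 72, nat_lit 108, nat_lit 144, nat_lit 180, nat_lit 216, nat_lit 324, nat_lit 360, nat_lit 72, nat_lit 108, nat_lit 144, nat_lit 180, nat_lit 216, nat_lit 324, nat_lit 360, nat_lit 72, nat_lit 108, nat_lit 144, nat_lit 180, nat_lit 216, nat_lit 324, nat_lit 360, nat_lit 72, nat_lit 108, nat_lit 144, nat_lit 180, nat_lit 216, nat_lit 324, nat_lit 360, nat_lit 72, nat_lit 108, nat_lit 144, nat_lit 180, nat_lit 216, nat_lit 324, nat_lit 360, nat_lit 72, nat_lit 108, nat_lit 144, nat_lit 180, nat_lit 216, nat_lit 324, nat_lit 360, nat_lit 72, nat_lit 108, nat_lit 144, nat_lit 180, nat_lit 216, nat_lit 324, nat_lit 360, nat_lit 72, nat_lit 108, nat_lit 144, nat_lit 180, nat_lit 216, nat_lit 324, nat_lit 360, nat_lit 468])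
noncomputable def r9 : WT := (.leaf (nat_lit 79887) [nat_lit 108, nat_lit 144, nat_lit 180, nat_lit 216, nat_lit 252, nat_lit 324, nat_lit 72, nat_lit 108, nat_lit 144, nat_lit 180, nat_lit 216, nat_lit 252, nat_lit 324, nat_lit 72, nat_lit 108, nat_lit 144, nat_lit 180, nat_lit 216, nat_lit 252, nat_lit 324, nat_lit 72, nat_lit 108, nat_lit 144, nat_lit 180, nat_lit 216, nat_lit 252, nat_lit 324, nat_lit 72, nat_lit 108, nat_lit 144, nat_lit 180, nat_lit 216, nat_lit 252, nat_lit 324, nat_lit 72, nat_lit 108, nat_lit 144, nat_lit 180, nat_lit 216, nat_lit 252, nat_lit 324, nat_lit 72, nat_lit 108, nat_lit 144, nat_lit 180, nat_lit 216, nat_lit 252, nat_lit 324, nat_lit 72, nat_lit 108, nat_lit 144, nat_lit 180, nat_lit 216, nat_lit 252, nat_lit 324, nat_lit 468, nat_lit 72, nat_lit 108, nat_lit 144, nat_lit 180, nat_lit 216, nat_lit 252, nat_lit 324])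
noncomputable def r10 : WT := (.leaf (nat_lit 80917) [nat_lit 108, nat_lit 144, nat_lit 180, nat_lit 360, nat_lit 324, nat_lit 180, nat_lit 396, nat_lit 288, nat_lit 252, nat_lit 216, nat_lit 180, nat_lit 468, nat_lit 432, nat_lit 72, nat_lit 108, nat_lit 144, nat_lit 180, nat_lit 360, nat_lit 324, nat_lit 180, nat_lit 396, nat_lit 288, nat_lit 252, nat_lit 216, nat_lit 180, nat_lit 468, nat_lit 432, nat_lit 72, nat_lit 108, nat_lit 144, nat_lit 180, nat_lit 360, nat_lit 324, nat_lit 180, nat_lit 396, nat_lit 288, nat_lit 252, nat_lit 216, nat_lit 180, nat_lit 468, nat_lit 432, nat_lit 72, nat_lit 108, nat_lit 144, nat_lit 180, nat_lit 360, nat_lit 324, nat_lit 180, nat_lit 396, nat_lit 288, nat_lit 252, nat_lit 216, nat_lit 180, nat_lit 468, nat_lit 432, nat_lit 72, nat_lit 108, nat_lit 144, nat_lit 180, nat_lit 360, nat_lit 324, nat_lit 180, nat_lit 396, nat_lit 288, nat_lit 252, nat_lit 216, nat_lit 180, nat_lit 468, nat_lit 432, nat_lit 72, nat_lit 108, nat_lit 144, nat_lit 180, nat_lit 360, nat_lit 324,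 nat_lit 180, nat_lit 396, nat_lit 288, nat_lit 252, nat_lit 216, nat_lit 180, nat_lit 468, nat_lit 432, nat_lit 72, nat_lit 108, nat_lit 144, nat_lit 180, nat_lit 360, nat_lit 324, nat_lit 180, nat_lit 396, nat_lit 288, nat_lit 252, nat_lit 216, nat_lit 180, nat_lit 468, nat_lit 432, nat_lit 72, nat_lit 108, nat_lit 144, nat_lit 180, nat_lit 360, nat_lit 324, nat_lit 180, nat_lit 396, nat_lit 288, nat_lit 252, nat_lit 216, nat_lit 180, nat_lit 468, nat_lit 432, nat_lit 72, nat_lit 108, nat_lit 144, nat_lit 180, nat_lit 360, nat_lit 324, nat_lit 180, nat_lit 396, nat_lit 288, nat_lit 252, nat_lit 216, nat_lit 180, nat_lit 468, nat_lit 432, nat_lit 72, nat_lit 108, nat_lit 144, nat_lit 180, nat_lit 360, nat_lit 324, nat_lit 180, nat_lit 396, nat_lit 288, nat_lit 252, nat_lit 216, nat_lit 180, nat_lit 468, nat_lit 432, nat_lit 72, nat_lit 108, nat_lit 144, nat_lit 180, nat_lit 360, nat_lit 324, nat_lit 180, nat_lit 396, nat_lit 288, nat_lit 252, nat_lit 216, nat_lit 180, nat_lit 468, nat_lit 432, nat_lit 72,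 nat_lit 108, nat_lit 144, nat_lit 180, nat_lit 360, nat_lit 324, nat_lit 180, nat_lit 396, nat_lit 288, nat_lit 252, nat_lit 216, nat_lit 180, nat_lit 468, nat_lit 432, nat_lit 72, nat_lit 108, nat_lit 144, nat_lit 180, nat_lit 360, nat_lit 324, nat_lit 180, nat_lit 396, nat_lit 288, nat_lit 252, nat_lit 216, nat_lit 180, nat_lit 468, nat_lit 432, nat_lit 72, nat_lit 108, nat_lit 144, nat_lit 180, nat_lit 360, nat_lit 324, nat_lit 180, nat_lit 396, nat_lit 288, nat_lit 252, nat_lit 216, nat_lit 180, nat_lit 468, nat_lit 432, nat_lit 72, nat_lit 108, nat_lit 144, nat_lit 180, nat_lit 360, nat_lit 324, nat_lit 180, nat_lit 396, nat_lit 288, nat_lit 252, nat_lit 216, nat_lit 180, nat_lit 468, nat_lit 432, nat_lit 72, nat_lit 108, nat_lit 144, nat_lit 180, nat_lit 360, nat_lit 324, nat_lit 180, nat_lit 396, nat_lit 288, nat_lit 252, nat_lit 216, nat_lit 180, nat_lit 468, nat_lit 432, nat_lit 72, nat_lit 108, nat_lit 144, nat_lit 180, nat_lit 360, nat_lit 324, nat_lit 180, nat_lit 396, nat_lit 288, nat_lit 252,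 nat_lit 216, nat_lit 180, nat_lit 468, nat_lit 432])
noncomputable def r11 : WT := (.node (nat_lit 17) (.node (nat_lit 16) r6 r7) (.node (nat_lit 18) r8 (.node (nat_lit 19) r9 r10)))
noncomputable def r12 : WT := (.leaf (nat_lit 83984) [nat_lit 108, nat_lit 144, nat_lit 180, nat_lit 216, nat_lit 324, nat_lit 360, nat_lit 72, nat_lit 108, nat_lit 144, nat_lit 180, nat_lit 216, nat_lit 324, nat_lit 360, nat_lit 72, nat_lit 108, nat_lit 144, nat_lit 180, nat_lit 216, nat_lit 324, nat_lit 360, nat_lit 72, nat_lit 108, nat_lit 144, nat_lit 180, nat_lit 216, nat_lit 324, nat_lit 360, nat_lit 72, nat_lit 108, nat_lit 144, nat_lit 180, nat_lit 216, nat_lit 324, nat_lit 360, nat_lit 72, nat_lit 108, nat_lit 144, nat_lit 180, nat_lit 216, nat_lit 324, nat_lit 360, nat_lit 72, nat_lit 108, nat_lit 144, nat_lit 180, nat_lit 216, nat_lit 324, nat_lit 360, nat_lit 72, nat_lit 108, nat_lit 144, nat_lit 180, nat_lit 216, nat_lit 324, nat_lit 360, nat_lit 468, nat_lit 72, nat_lit 108, nat_lit 144, nat_lit 180, nat_lit 216,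 nat_lit 324, nat_lit 360])
noncomputable def r13 : WT := (.leaf (nat_lit 81933) [nat_lit 432, nat_lit 324, nat_lit 252, nat_lit 216, nat_lit 180, nat_lit 144, nat_lit 108, nat_lit 72, nat_lit 432, nat_lit 324, nat_lit 252, nat_lit 216, nat_lit 180, nat_lit 144, nat_lit 108, nat_lit 72, nat_lit 432, nat_lit 324, nat_lit 252, nat_lit 216, nat_lit 180, nat_lit 144, nat_lit 108, nat_lit 72, nat_lit 432, nat_lit 324, nat_lit 252, nat_lit 216, nat_lit 180, nat_lit 144, nat_lit 108, nat_lit 72, nat_lit 432, nat_lit 324, nat_lit 252, nat_lit 216, nat_lit 180, nat_lit 144, nat_lit 108, nat_lit 72, nat_lit 432, nat_lit 324, nat_lit 252, nat_lit 216, nat_lit 180, nat_lit 144, nat_lit 108, nat_lit 72, nat_lit 432, nat_lit 324, nat_lit 252, nat_lit 216, nat_lit 180, nat_lit 144, nat_lit 108, nat_lit 72, nat_lit 432, nat_lit 324, nat_lit 252, nat_lit 216, nat_lit 180, nat_lit 144, nat_lit 108, nat_lit 72, nat_lit 432, nat_lit 324, nat_lit 252, nat_lit 216, nat_lit 180, nat_lit 144, nat_lit 108, nat_lit 72, nat_lit 432,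 nat_lit 324, nat_lit 252, nat_lit 216, nat_lit 180, nat_lit 144, nat_lit 108, nat_lit 72, nat_lit 432, nat_lit 324, nat_lit 252, nat_lit 216, nat_lit 180, nat_lit 144, nat_lit 108, nat_lit 72, nat_lit 432, nat_lit 324, nat_lit 252, nat_lit 216, nat_lit 180, nat_lit 144, nat_lit 108, nat_lit 72, nat_lit 432, nat_lit 324, nat_lit 252, nat_lit 216, nat_lit 180, nat_lit 144, nat_lit 108, nat_lit 72, nat_lit 432, nat_lit 324, nat_lit 252, nat_lit 216, nat_lit 180, nat_lit 144, nat_lit 108, nat_lit 72, nat_lit 432, nat_lit 324, nat_lit 252, nat_lit 216, nat_lit 180, nat_lit 144, nat_lit 108])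
noncomputable def r14 : WT := (.leaf (nat_lit 79998) [nat_lit 468, nat_lit 324, nat_lit 252, nat_lit 216, nat_lit 180, nat_lit 144, nat_lit 108, nat_lit 72, nat_lit 324, nat_lit 252, nat_lit 216, nat_lit 180, nat_lit 144, nat_lit 108, nat_lit 72, nat_lit 324, nat_lit 252, nat_lit 216, nat_lit 180, nat_lit 144, nat_lit 108, nat_lit 72, nat_lit 324, nat_lit 252, nat_lit 216, nat_lit 180, nat_lit 144, nat_lit 108, nat_lit 72, nat_lit 324, nat_lit 252, nat_lit 216, nat_lit 180, nat_lit 144, nat_lit 108, nat_lit 72, nat_lit 324, nat_lit 252, nat_lit 216, nat_lit 180, nat_lit 144, nat_lit 108, nat_lit 72, nat_lit 324, nat_lit 252, nat_lit 216, nat_lit 180, nat_lit 144, nat_lit 108, nat_lit 72, nat_lit 324, nat_lit 252, nat_lit 216, nat_lit 180, nat_lit 144, nat_lit 108, nat_lit 72, nat_lit 324, nat_lit 252, nat_lit 216, nat_lit 180, nat_lit 144, nat_lit 108])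
noncomputable def r15 : WT := (.leaf (nat_lit 82957) [nat_lit 432, nat_lit 360, nat_lit 324, nat_lit 216, nat_lit 180, nat_lit 144, nat_lit 108, nat_lit 72, nat_lit 432, nat_lit 360, nat_lit 324, nat_lit 216, nat_lit 180, nat_lit 144, nat_lit 108, nat_lit 72, nat_lit 432, nat_lit 360, nat_lit 324, nat_lit 216, nat_lit 180, nat_lit 144, nat_lit 108, nat_lit 72, nat_lit 432, nat_lit 360, nat_lit 324, nat_lit 216, nat_lit 180, nat_lit 144, nat_lit 108, nat_lit 72, nat_lit 432, nat_lit 360, nat_lit 324, nat_lit 216, nat_lit 180, nat_lit 144, nat_lit 108, nat_lit 72, nat_lit 432, nat_lit 360, nat_lit 324, nat_lit 216, nat_lit 180, nat_lit 144, nat_lit 108, nat_lit 72, nat_lit 432, nat_lit 360, nat_lit 324, nat_lit 216, nat_lit 180, nat_lit 144, nat_lit 108, nat_lit 72, nat_lit 432, nat_lit 360, nat_lit 324, nat_lit 216, nat_lit 180, nat_lit 144, nat_lit 108, nat_lit 72, nat_lit 432, nat_lit 360, nat_lit 324, nat_lit 216, nat_lit 180, nat_lit 144, nat_lit 108, nat_lit 72, nat_lit 432, nat_lit 360, nat_lit 324,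 nat_lit 216, nat_lit 180, nat_lit 144, nat_lit 108, nat_lit 72, nat_lit 432, nat_lit 360, nat_lit 324, nat_lit 216, nat_lit 180, nat_lit 144, nat_lit 108, nat_lit 72, nat_lit 432, nat_lit 360, nat_lit 324, nat_lit 216, nat_lit 180, nat_lit 144, nat_lit 108, nat_lit 72, nat_lit 432, nat_lit 360, nat_lit 324, nat_lit 216, nat_lit 180, nat_lit 144, nat_lit 108, nat_lit 72, nat_lit 432, nat_lit 360, nat_lit 324, nat_lit 216, nat_lit 180, nat_lit 144, nat_lit 108, nat_lit 72, nat_lit 432, nat_lit 360, nat_lit 324, nat_lit 216, nat_lit 180, nat_lit 144, nat_lit 108])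
noncomputable def r16 : WT := (.leaf (nat_lit 80902) [nat_lit 432, nat_lit 468, nat_lit 180, nat_lit 216, nat_lit 252, nat_lit 288, nat_lit 396, nat_lit 180, nat_lit 324, nat_lit 360, nat_lit 180, nat_lit 144, nat_lit 108, nat_lit 72, nat_lit 432, nat_lit 468, nat_lit 180, nat_lit 216, nat_lit 252, nat_lit 288, nat_lit 396, nat_lit 180, nat_lit 324, nat_lit 360, nat_lit 180, nat_lit 144, nat_lit 108, nat_lit 72, nat_lit 432, nat_lit 468, nat_lit 180, nat_lit 216, nat_lit 252, nat_lit 288, nat_lit 396, nat_lit 180, nat_lit 324, nat_lit 360, nat_lit 180, nat_lit 144, nat_lit 108, nat_lit 72, nat_lit 432, nat_lit 468, nat_lit 180, nat_lit 216, nat_lit 252, nat_lit 288, nat_lit 396, nat_lit 180, nat_lit 324, nat_lit 360, nat_lit 180, nat_lit 144, nat_lit 108, nat_lit 72, nat_lit 432, nat_lit 468, nat_lit 180, nat_lit 216, nat_lit 252, nat_lit 288, nat_lit 396, nat_lit 180, nat_lit 324, nat_lit 360, nat_lit 180, nat_lit 144, nat_lit 108, nat_lit 72, nat_lit 432, nat_lit 468, nat_lit 180, nat_lit 216, nat_lit 252,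 nat_lit 288, nat_lit 396, nat_lit 180, nat_lit 324, nat_lit 360, nat_lit 180, nat_lit 144, nat_lit 108, nat_lit 72, nat_lit 432, nat_lit 468, nat_lit 180, nat_lit 216, nat_lit 252, nat_lit 288, nat_lit 396, nat_lit 180, nat_lit 324, nat_lit 360, nat_lit 180, nat_lit 144, nat_lit 108, nat_lit 72, nat_lit 432, nat_lit 468, nat_lit 180, nat_lit 216, nat_lit 252, nat_lit 288, nat_lit 396, nat_lit 180, nat_lit 324, nat_lit 360, nat_lit 180, nat_lit 144, nat_lit 108, nat_lit 72, nat_lit 432, nat_lit 468, nat_lit 180, nat_lit 216, nat_lit 252, nat_lit 288, nat_lit 396, nat_lit 180, nat_lit 324, nat_lit 360, nat_lit 180, nat_lit 144, nat_lit 108, nat_lit 72, nat_lit 432, nat_lit 468, nat_lit 180, nat_lit 216, nat_lit 252, nat_lit 288, nat_lit 396, nat_lit 180, nat_lit 324, nat_lit 360, nat_lit 180, nat_lit 144, nat_lit 108, nat_lit 72, nat_lit 432, nat_lit 468, nat_lit 180, nat_lit 216, nat_lit 252, nat_lit 288, nat_lit 396, nat_lit 180, nat_lit 324, nat_lit 360, nat_lit 180, nat_lit 144, nat_lit 108, nat_lit 72,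 nat_lit 432, nat_lit 468, nat_lit 180, nat_lit 216, nat_lit 252, nat_lit 288, nat_lit 396, nat_lit 180, nat_lit 324, nat_lit 360, nat_lit 180, nat_lit 144, nat_lit 108, nat_lit 72, nat_lit 432, nat_lit 468, nat_lit 180, nat_lit 216, nat_lit 252, nat_lit 288, nat_lit 396, nat_lit 180, nat_lit 324, nat_lit 360, nat_lit 180, nat_lit 144, nat_lit 108, nat_lit 72, nat_lit 432, nat_lit 468, nat_lit 180, nat_lit 216, nat_lit 252, nat_lit 288, nat_lit 396, nat_lit 180, nat_lit 324, nat_lit 360, nat_lit 180, nat_lit 144, nat_lit 108, nat_lit 72, nat_lit 432, nat_lit 468, nat_lit 180, nat_lit 216, nat_lit 252, nat_lit 288, nat_lit 396, nat_lit 180, nat_lit 324, nat_lit 360, nat_lit 180, nat_lit 144, nat_lit 108, nat_lit 72, nat_lit 432, nat_lit 468, nat_lit 180, nat_lit 216, nat_lit 252, nat_lit 288, nat_lit 396, nat_lit 180, nat_lit 324, nat_lit 360, nat_lit 180, nat_lit 144, nat_lit 108, nat_lit 72, nat_lit 432, nat_lit 468, nat_lit 180, nat_lit 216, nat_lit 252, nat_lit 288, nat_lit 396, nat_lit 180, nat_lit 324,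 nat_lit 360, nat_lit 180, nat_lit 144, nat_lit 108])
noncomputable def r17 : WT := (.leaf (nat_lit 84093) [nat_lit 468, nat_lit 360, nat_lit 324, nat_lit 216, nat_lit 180, nat_lit 144, nat_lit 108, nat_lit 72, nat_lit 360, nat_lit 324, nat_lit 216, nat_lit 180, nat_lit 144, nat_lit 108, nat_lit 72, nat_lit 360, nat_lit 324, nat_lit 216, nat_lit 180, nat_lit 144, nat_lit 108, nat_lit 72, nat_lit 360, nat_lit 324, nat_lit 216, nat_lit 180, nat_lit 144, nat_lit 108, nat_lit 72, nat_lit 360, nat_lit 324, nat_lit 216, nat_lit 180, nat_lit 144, nat_lit 108, nat_lit 72, nat_lit 360, nat_lit 324, nat_lit 216, nat_lit 180, nat_lit 144, nat_lit 108, nat_lit 72, nat_lit 360, nat_lit 324, nat_lit 216, nat_lit 180, nat_lit 144, nat_lit 108, nat_lit 72, nat_lit 360, nat_lit 324, nat_lit 216, nat_lit 180, nat_lit 144, nat_lit 108, nat_lit 72, nat_lit 360, nat_lit 324, nat_lit 216, nat_lit 180, nat_lit 144, nat_lit 108])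
noncomputable def r18 : WT := (.leaf (nat_lit 79985) [nat_lit 108, nat_lit 144, nat_lit 180, nat_lit 216, nat_lit 252, nat_lit 324, nat_lit 468, nat_lit 72, nat_lit 108, nat_lit 144, nat_lit 180, nat_lit 216, nat_lit 252, nat_lit 324, nat_lit 72, nat_lit 108, nat_lit 144, nat_lit 180, nat_lit 216, nat_lit 252, nat_lit 324, nat_lit 72, nat_lit 108, nat_lit 144, nat_lit 180, nat_lit 216, nat_lit 252, nat_lit 324, nat_lit 72, nat_lit 108, nat_lit 144, nat_lit 180, nat_lit 216, nat_lit 252, nat_lit 324, nat_lit 72, nat_lit 108, nat_lit 144, nat_lit 180, nat_lit 216, nat_lit 252, nat_lit 324, nat_lit 72, nat_lit 108, nat_lit 144, nat_lit 180, nat_lit 216, nat_lit 252, nat_lit 324, nat_lit 72, nat_lit 108, nat_lit 144, nat_lit 180, nat_lit 216, nat_lit 252, nat_lit 324, nat_lit 72, nat_lit 108, nat_lit 144, nat_lit 180, nat_lit 216, nat_lit 252, nat_lit 324])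
noncomputable def r19 : WT := (.leaf (nat_lit 84082) [nat_lit 108, nat_lit 144, nat_lit 180, nat_lit 216, nat_lit 324, nat_lit 360, nat_lit 468, nat_lit 72, nat_lit 108, nat_lit 144, nat_lit 180, nat_lit 216, nat_lit 324, nat_lit 360, nat_lit 72, nat_lit 108, nat_lit 144, nat_lit 180, nat_lit 216, nat_lit 324, nat_lit 360, nat_lit 72, nat_lit 108, nat_lit 144, nat_lit 180, nat_lit 216, nat_lit 324, nat_lit 360, nat_lit 72, nat_lit 108, nat_lit 144, nat_lit 180, nat_lit 216, nat_lit 324, nat_lit 360, nat_lit 72, nat_lit 108, nat_lit 144, nat_lit 180, nat_lit 216, nat_lit 324, nat_lit 360, nat_lit 72, nat_lit 108, nat_lit 144, nat_lit 180, nat_lit 216, nat_lit 324, nat_lit 360, nat_lit 72, nat_lit 108, nat_lit 144, nat_lit 180, nat_lit 216, nat_lit 324, nat_lit 360, nat_lit 72, nat_lit 108, nat_lit 144, nat_lit 180, nat_lit 216, nat_lit 324, nat_lit 360])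
noncomputable def r20 : WT := (.node (nat_lit 27) r18 r19)
noncomputable def r21 : WT := (.leaf (nat_lit 79970) [nat_lit 324, nat_lit 252, nat_lit 216, nat_lit 180, nat_lit 144, nat_lit 108, nat_lit 72, nat_lit 324, nat_lit 252, nat_lit 216, nat_lit 180, nat_lit 144, nat_lit 108, nat_lit 72, nat_lit 468, nat_lit 324, nat_lit 252, nat_lit 216, nat_lit 180, nat_lit 144, nat_lit 108, nat_lit 72, nat_lit 324, nat_lit 252, nat_lit 216, nat_lit 180, nat_lit 144, nat_lit 108, nat_lit 72, nat_lit 324, nat_lit 252, nat_lit 216, nat_lit 180, nat_lit 144, nat_lit 108, nat_lit 72, nat_lit 324, nat_lit 252, nat_lit 216, nat_lit 180, nat_lit 144, nat_lit 108, nat_lit 72, nat_lit 324, nat_lit 252, nat_lit 216, nat_lit 180, nat_lit 144, nat_lit 108, nat_lit 72, nat_lit 324, nat_lit 252, nat_lit 216, nat_lit 180, nat_lit 144, nat_lit 108, nat_lit 72, nat_lit 324, nat_lit 252, nat_lit 216, nat_lit 180, nat_lit 144, nat_lit 108])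
noncomputable def r22 : WT := (.leaf (nat_lit 79928) [nat_lit 324, nat_lit 252, nat_lit 216, nat_lit 180, nat_lit 144, nat_lit 108, nat_lit 72, nat_lit 324, nat_lit 252, nat_lit 216, nat_lit 180, nat_lit 144, nat_lit 108, nat_lit 72, nat_lit 324, nat_lit 252, nat_lit 216, nat_lit 180, nat_lit 144, nat_lit 108, nat_lit 72, nat_lit 324, nat_lit 252, nat_lit 216, nat_lit 180, nat_lit 144, nat_lit 108, nat_lit 72, nat_lit 324, nat_lit 252, nat_lit 216, nat_lit 180, nat_lit 144, nat_lit 108, nat_lit 72, nat_lit 468, nat_lit 324, nat_lit 252, nat_lit 216, nat_lit 180, nat_lit 144, nat_lit 108, nat_lit 72, nat_lit 324, nat_lit 252, nat_lit 216, nat_lit 180, nat_lit 144, nat_lit 108, nat_lit 72, nat_lit 324, nat_lit 252, nat_lit 216, nat_lit 180, nat_lit 144, nat_lit 108, nat_lit 72, nat_lit 324, nat_lit 252, nat_lit 216, nat_lit 180, nat_lit 144, nat_lit 108])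
noncomputable def r23 : WT := (.node (nat_lit 29) r21 r22)
noncomputable def r24 : WT := (.leaf (nat_lit 84079) [nat_lit 360, nat_lit 324, nat_lit 216, nat_lit 180, nat_lit 144, nat_lit 108, nat_lit 72, nat_lit 468, nat_lit 360, nat_lit 324, nat_lit 216, nat_lit 180, nat_lit 144, nat_lit 108, nat_lit 72, nat_lit 360, nat_lit 324, nat_lit 216, nat_lit 180, nat_lit 144, nat_lit 108, nat_lit 72, nat_lit 360, nat_lit 324, nat_lit 216, nat_lit 180, nat_lit 144, nat_lit 108, nat_lit 72, nat_lit 360, nat_lit 324, nat_lit 216, nat_lit 180, nat_lit 144, nat_lit 108, nat_lit 72, nat_lit 360, nat_lit 324, nat_lit 216, nat_lit 180, nat_lit 144, nat_lit 108, nat_lit 72, nat_lit 360, nat_lit 324, nat_lit 216, nat_lit 180, nat_lit 144, nat_lit 108, nat_lit 72, nat_lit 360, nat_lit 324, nat_lit 216, nat_lit 180, nat_lit 144, nat_lit 108, nat_lit 72, nat_lit 360, nat_lit 324, nat_lit 216, nat_lit 180, nat_lit 144, nat_lit 108])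
noncomputable def r25 : WT := (.leaf (nat_lit 79942) [nat_lit 324, nat_lit 252, nat_lit 216, nat_lit 180, nat_lit 144, nat_lit 108, nat_lit 72, nat_lit 324, nat_lit 252, nat_lit 216, nat_lit 180, nat_lit 144, nat_lit 108, nat_lit 72, nat_lit 324, nat_lit 252, nat_lit 216, nat_lit 180, nat_lit 144, nat_lit 108, nat_lit 72, nat_lit 324, nat_lit 252, nat_lit 216, nat_lit 180, nat_lit 144, nat_lit 108, nat_lit 72, nat_lit 468, nat_lit 324, nat_lit 252, nat_lit 216, nat_lit 180, nat_lit 144, nat_lit 108, nat_lit 72, nat_lit 324, nat_lit 252, nat_lit 216, nat_lit 180, nat_lit 144, nat_lit 108, nat_lit 72, nat_lit 324, nat_lit 252, nat_lit 216, nat_lit 180, nat_lit 144, nat_lit 108, nat_lit 72, nat_lit 324, nat_lit 252, nat_lit 216, nat_lit 180, nat_lit 144, nat_lit 108, nat_lit 72, nat_lit 324, nat_lit 252, nat_lit 216, nat_lit 180, nat_lit 144, nat_lit 108])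
noncomputable def r26 : WT := (.leaf (nat_lit 84065) [nat_lit 360, nat_lit 324, nat_lit 216, nat_lit 180, nat_lit 144, nat_lit 108, nat_lit 72, nat_lit 360, nat_lit 324, nat_lit 216, nat_lit 180, nat_lit 144, nat_lit 108, nat_lit 72, nat_lit 468, nat_lit 360, nat_lit 324, nat_lit 216, nat_lit 180, nat_lit 144, nat_lit 108, nat_lit 72, nat_lit 360, nat_lit 324, nat_lit 216, nat_lit 180, nat_lit 144, nat_lit 108, nat_lit 72, nat_lit 360, nat_lit 324, nat_lit 216, nat_lit 180, nat_lit 144, nat_lit 108, nat_lit 72, nat_lit 360, nat_lit 324, nat_lit 216, nat_lit 180, nat_lit 144, nat_lit 108, nat_lit 72, nat_lit 360, nat_lit 324, nat_lit 216, nat_lit 180, nat_lit 144, nat_lit 108, nat_lit 72, nat_lit 360, nat_lit 324, nat_lit 216, nat_lit 180, nat_lit 144, nat_lit 108, nat_lit 72, nat_lit 360, nat_lit 324, nat_lit 216, nat_lit 180, nat_lit 144, nat_lit 108])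
noncomputable def r27 : WT := (.node (nat_lit 31) r24 (.node (nat_lit 32) r25 r26))
noncomputable def r28 : WT := (.leaf (nat_lit 84051) [nat_lit 360, nat_lit 324, nat_lit 216, nat_lit 180, nat_lit 144, nat_lit 108, nat_lit 72, nat_lit 360, nat_lit 324, nat_lit 216, nat_lit 180, nat_lit 144, nat_lit 108, nat_lit 72, nat_lit 360, nat_lit 324, nat_lit 216, nat_lit 180, nat_lit 144, nat_lit 108, nat_lit 72, nat_lit 468, nat_lit 360, nat_lit 324, nat_lit 216, nat_lit 180, nat_lit 144, nat_lit 108, nat_lit 72, nat_lit 360, nat_lit 324, nat_lit 216, nat_lit 180, nat_lit 144, nat_lit 108, nat_lit 72, nat_lit 360, nat_lit 324, nat_lit 216, nat_lit 180, nat_lit 144, nat_lit 108, nat_lit 72, nat_lit 360, nat_lit 324, nat_lit 216, nat_lit 180, nat_lit 144, nat_lit 108, nat_lit 72, nat_lit 360, nat_lit 324, nat_lit 216, nat_lit 180, nat_lit 144, nat_lit 108, nat_lit 72, nat_lit 360, nat_lit 324, nat_lit 216, nat_lit 180, nat_lit 144, nat_lit 108])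
noncomputable def r29 : WT := (.leaf (nat_lit 84054) [nat_lit 108, nat_lit 144, nat_lit 180, nat_lit 216, nat_lit 324, nat_lit 360, nat_lit 72, nat_lit 108, nat_lit 144, nat_lit 180, nat_lit 216, nat_lit 324, nat_lit 360, nat_lit 72, nat_lit 108, nat_lit 144, nat_lit 180, nat_lit 216, nat_lit 324, nat_lit 360, nat_lit 468, nat_lit 72, nat_lit 108, nat_lit 144, nat_lit 180, nat_lit 216, nat_lit 324, nat_lit 360, nat_lit 72, nat_lit 108, nat_lit 144, nat_lit 180, nat_lit 216, nat_lit 324, nat_lit 360, nat_lit 72, nat_lit 108, nat_lit 144, nat_lit 180, nat_lit 216, nat_lit 324, nat_lit 360, nat_lit 72, nat_lit 108, nat_lit 144, nat_lit 180, nat_lit 216, nat_lit 324, nat_lit 360, nat_lit 72, nat_lit 108, nat_lit 144, nat_lit 180, nat_lit 216, nat_lit 324, nat_lit 360, nat_lit 72, nat_lit 108, nat_lit 144, nat_lit 180, nat_lit 216, nat_lit 324, nat_lit 360])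
noncomputable def r30 : WT := (.leaf (nat_lit 79900) [nat_lit 324, nat_lit 252, nat_lit 216, nat_lit 180, nat_lit 144, nat_lit 108, nat_lit 72, nat_lit 324, nat_lit 252, nat_lit 216, nat_lit 180, nat_lit 144, nat_lit 108, nat_lit 72, nat_lit 324, nat_lit 252, nat_lit 216, nat_lit 180, nat_lit 144, nat_lit 108, nat_lit 72, nat_lit 324, nat_lit 252, nat_lit 216, nat_lit 180, nat_lit 144, nat_lit 108, nat_lit 72, nat_lit 324, nat_lit 252, nat_lit 216, nat_lit 180, nat_lit 144, nat_lit 108, nat_lit 72, nat_lit 324, nat_lit 252, nat_lit 216, nat_lit 180, nat_lit 144, nat_lit 108, nat_lit 72, nat_lit 324, nat_lit 252, nat_lit 216, nat_lit 180, nat_lit 144, nat_lit 108, nat_lit 72, nat_lit 468, nat_lit 324, nat_lit 252, nat_lit 216, nat_lit 180, nat_lit 144, nat_lit 108, nat_lit 72, nat_lit 324, nat_lit 252, nat_lit 216, nat_lit 180, nat_lit 144, nat_lit 108])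
noncomputable def r31 : WT := (.node (nat_lit 34) r28 (.node (nat_lit 35) r29 r30))
noncomputable def r32 : WT := (.leaf (nat_lit 83995) [nat_lit 360, nat_lit 324, nat_lit 216, nat_lit 180, nat_lit 144, nat_lit 108, nat_lit 72, nat_lit 360, nat_lit 324, nat_lit 216, nat_lit 180, nat_lit 144, nat_lit 108, nat_lit 72, nat_lit 360, nat_lit 324, nat_lit 216, nat_lit 180, nat_lit 144, nat_lit 108, nat_lit 72, nat_lit 360, nat_lit 324, nat_lit 216, nat_lit 180, nat_lit 144, nat_lit 108, nat_lit 72, nat_lit 360, nat_lit 324, nat_lit 216, nat_lit 180, nat_lit 144, nat_lit 108, nat_lit 72, nat_lit 360, nat_lit 324, nat_lit 216, nat_lit 180, nat_lit 144, nat_lit 108, nat_lit 72, nat_lit 360, nat_lit 324, nat_lit 216, nat_lit 180, nat_lit 144, nat_lit 108, nat_lit 72, nat_lit 468, nat_lit 360, nat_lit 324, nat_lit 216, nat_lit 180, nat_lit 144, nat_lit 108, nat_lit 72, nat_lit 360, nat_lit 324, nat_lit 216, nat_lit 180, nat_lit 144, nat_lit 108])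
noncomputable def r33 : WT := (.leaf (nat_lit 84068) [nat_lit 108, nat_lit 144, nat_lit 180, nat_lit 216, nat_lit 324, nat_lit 360, nat_lit 72, nat_lit 108, nat_lit 144, nat_lit 180, nat_lit 216, nat_lit 324, nat_lit 360, nat_lit 468, nat_lit 72, nat_lit 108, nat_lit 144, nat_lit 180, nat_lit 216, nat_lit 324, nat_lit 360, nat_lit 72, nat_lit 108, nat_lit 144, nat_lit 180, nat_lit 216, nat_lit 324, nat_lit 360, nat_lit 72, nat_lit 108, nat_lit 144, nat_lit 180, nat_lit 216, nat_lit 324, nat_lit 360, nat_lit 72, nat_lit 108, nat_lit 144, nat_lit 180, nat_lit 216, nat_lit 324, nat_lit 360, nat_lit 72, nat_lit 108, nat_lit 144, nat_lit 180, nat_lit 216, nat_lit 324, nat_lit 360, nat_lit 72, nat_lit 108, nat_lit 144, nat_lit 180, nat_lit 216, nat_lit 324, nat_lit 360, nat_lit 72, nat_lit 108, nat_lit 144, nat_lit 180, nat_lit 216, nat_lit 324, nat_lit 360])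
noncomputable def r34 : WT := (.leaf (nat_lit 79914) [nat_lit 324, nat_lit 252, nat_lit 216, nat_lit 180, nat_lit 144, nat_lit 108, nat_lit 72, nat_lit 324, nat_lit 252, nat_lit 216, nat_lit 180, nat_lit 144, nat_lit 108, nat_lit 72, nat_lit 324, nat_lit 252, nat_lit 216, nat_lit 180, nat_lit 144, nat_lit 108, nat_lit 72, nat_lit 324, nat_lit 252, nat_lit 216, nat_lit 180, nat_lit 144, nat_lit 108, nat_lit 72, nat_lit 324, nat_lit 252, nat_lit 216, nat_lit 180, nat_lit 144, nat_lit 108, nat_lit 72, nat_lit 324, nat_lit 252, nat_lit 216, nat_lit 180, nat_lit 144, nat_lit 108, nat_lit 72, nat_lit 468, nat_lit 324, nat_lit 252, nat_lit 216, nat_lit 180, nat_lit 144, nat_lit 108, nat_lit 72, nat_lit 324, nat_lit 252, nat_lit 216, nat_lit 180, nat_lit 144, nat_lit 108, nat_lit 72, nat_lit 324, nat_lit 252, nat_lit 216, nat_lit 180, nat_lit 144, nat_lit 108])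
noncomputable def r35 : WT := (.node (nat_lit 37) r32 (.node (nat_lit 38) r33 r34))
noncomputable def r36 : WT := (.leaf (nat_lit 79957) [nat_lit 108, nat_lit 144, nat_lit 180, nat_lit 216, nat_lit 252, nat_lit 324, nat_lit 72, nat_lit 108, nat_lit 144, nat_lit 180, nat_lit 216, nat_lit 252, nat_lit 324, nat_lit 72, nat_lit 108, nat_lit 144, nat_lit 180, nat_lit 216, nat_lit 252, nat_lit 324, nat_lit 468, nat_lit 72, nat_lit 108, nat_lit 144, nat_lit 180, nat_lit 216, nat_lit 252, nat_lit 324, nat_lit 72, nat_lit 108, nat_lit 144, nat_lit 180, nat_lit 216, nat_lit 252, nat_lit 324, nat_lit 72, nat_lit 108, nat_lit 144, nat_lit 180, nat_lit 216, nat_lit 252, nat_lit 324, nat_lit 72, nat_lit 108, nat_lit 144, nat_lit 180, nat_lit 216, nat_lit 252, nat_lit 324, nat_lit 72, nat_lit 108, nat_lit 144, nat_lit 180, nat_lit 216, nat_lit 252, nat_lit 324, nat_lit 72, nat_lit 108, nat_lit 144, nat_lit 180, nat_lit 216, nat_lit 252, nat_lit 324])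
noncomputable def r37 : WT := (.leaf (nat_lit 79929) [nat_lit 108, nat_lit 144, nat_lit 180, nat_lit 216, nat_lit 252, nat_lit 324, nat_lit 72, nat_lit 108, nat_lit 144, nat_lit 180, nat_lit 216, nat_lit 252, nat_lit 324, nat_lit 72, nat_lit 108, nat_lit 144, nat_lit 180, nat_lit 216, nat_lit 252, nat_lit 324, nat_lit 72, nat_lit 108, nat_lit 144, nat_lit 180, nat_lit 216, nat_lit 252, nat_lit 324, nat_lit 72, nat_lit 108, nat_lit 144, nat_lit 180, nat_lit 216, nat_lit 252, nat_lit 324, nat_lit 468, nat_lit 72, nat_lit 108, nat_lit 144, nat_lit 180, nat_lit 216, nat_lit 252, nat_lit 324, nat_lit 72, nat_lit 108, nat_lit 144, nat_lit 180, nat_lit 216, nat_lit 252, nat_lit 324, nat_lit 72, nat_lit 108, nat_lit 144, nat_lit 180, nat_lit 216, nat_lit 252, nat_lit 324, nat_lit 72, nat_lit 108, nat_lit 144, nat_lit 180, nat_lit 216, nat_lit 252, nat_lit 324])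
noncomputable def r38 : WT := (.leaf (nat_lit 79984) [nat_lit 324, nat_lit 252, nat_lit 216, nat_lit 180, nat_lit 144, nat_lit 108, nat_lit 72, nat_lit 468, nat_lit 324, nat_lit 252, nat_lit 216, nat_lit 180, nat_lit 144, nat_lit 108, nat_lit 72, nat_lit 324, nat_lit 252, nat_lit 216, nat_lit 180, nat_lit 144, nat_lit 108, nat_lit 72, nat_lit 324, nat_lit 252, nat_lit 216, nat_lit 180, nat_lit 144, nat_lit 108, nat_lit 72, nat_lit 324, nat_lit 252, nat_lit 216, nat_lit 180, nat_lit 144, nat_lit 108, nat_lit 72, nat_lit 324, nat_lit 252, nat_lit 216, nat_lit 180, nat_lit 144, nat_lit 108, nat_lit 72, nat_lit 324, nat_lit 252, nat_lit 216, nat_lit 180, nat_lit 144, nat_lit 108, nat_lit 72, nat_lit 324, nat_lit 252, nat_lit 216, nat_lit 180, nat_lit 144, nat_lit 108, nat_lit 72, nat_lit 324, nat_lit 252, nat_lit 216, nat_lit 180, nat_lit 144, nat_lit 108])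
noncomputable def r39 : WT := (.leaf (nat_lit 84009) [nat_lit 360, nat_lit 324, nat_lit 216, nat_lit 180, nat_lit 144, nat_lit 108, nat_lit 72, nat_lit 360, nat_lit 324, nat_lit 216, nat_lit 180, nat_lit 144, nat_lit 108, nat_lit 72, nat_lit 360, nat_lit 324, nat_lit 216, nat_lit 180, nat_lit 144, nat_lit 108, nat_lit 72, nat_lit 360, nat_lit 324, nat_lit 216, nat_lit 180, nat_lit 144, nat_lit 108, nat_lit 72, nat_lit 360, nat_lit 324, nat_lit 216, nat_lit 180, nat_lit 144, nat_lit 108, nat_lit 72, nat_lit 360, nat_lit 324, nat_lit 216, nat_lit 180, nat_lit 144, nat_lit 108, nat_lit 72, nat_lit 468, nat_lit 360, nat_lit 324, nat_lit 216, nat_lit 180, nat_lit 144, nat_lit 108, nat_lit 72, nat_lit 360, nat_lit 324, nat_lit 216, nat_lit 180, nat_lit 144, nat_lit 108, nat_lit 72, nat_lit 360, nat_lit 324, nat_lit 216, nat_lit 180, nat_lit 144, nat_lit 108])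
noncomputable def r40 : WT := (.node (nat_lit 41) (.node (nat_lit 40) r36 r37) (.node (nat_lit 42) r38 r39))
noncomputable def r41 : WT := (.leaf (nat_lit 84023) [nat_lit 360, nat_lit 324, nat_lit 216, nat_lit 180, nat_lit 144, nat_lit 108, nat_lit 72, nat_lit 360, nat_lit 324, nat_lit 216, nat_lit 180, nat_lit 144, nat_lit 108, nat_lit 72, nat_lit 360, nat_lit 324, nat_lit 216, nat_lit 180, nat_lit 144, nat_lit 108, nat_lit 72, nat_lit 360, nat_lit 324, nat_lit 216, nat_lit 180, nat_lit 144, nat_lit 108, nat_lit 72, nat_lit 360, nat_lit 324, nat_lit 216, nat_lit 180, nat_lit 144, nat_lit 108, nat_lit 72, nat_lit 468, nat_lit 360, nat_lit 324, nat_lit 216, nat_lit 180, nat_lit 144, nat_lit 108, nat_lit 72, nat_lit 360, nat_lit 324, nat_lit 216, nat_lit 180, nat_lit 144, nat_lit 108, nat_lit 72, nat_lit 360, nat_lit 324, nat_lit 216, nat_lit 180, nat_lit 144, nat_lit 108, nat_lit 72, nat_lit 360, nat_lit 324, nat_lit 216, nat_lit 180, nat_lit 144, nat_lit 108])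
noncomputable def r42 : WT := (.leaf (nat_lit 84037) [nat_lit 360, nat_lit 324, nat_lit 216, nat_lit 180, nat_lit 144, nat_lit 108, nat_lit 72, nat_lit 360, nat_lit 324, nat_lit 216, nat_lit 180, nat_lit 144, nat_lit 108, nat_lit 72, nat_lit 360, nat_lit 324, nat_lit 216, nat_lit 180, nat_lit 144, nat_lit 108, nat_lit 72, nat_lit 360, nat_lit 324, nat_lit 216, nat_lit 180, nat_lit 144, nat_lit 108, nat_lit 72, nat_lit 468, nat_lit 360, nat_lit 324, nat_lit 216, nat_lit 180, nat_lit 144, nat_lit 108, nat_lit 72, nat_lit 360, nat_lit 324, nat_lit 216, nat_lit 180, nat_lit 144, nat_lit 108, nat_lit 72, nat_lit 360, nat_lit 324, nat_lit 216, nat_lit 180, nat_lit 144, nat_lit 108, nat_lit 72, nat_lit 360, nat_lit 324, nat_lit 216, nat_lit 180, nat_lit 144, nat_lit 108, nat_lit 72, nat_lit 360, nat_lit 324, nat_lit 216, nat_lit 180, nat_lit 144, nat_lit 108])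
noncomputable def r43 : WT := (.leaf (nat_lit 79915) [nat_lit 108, nat_lit 144, nat_lit 180, nat_lit 216, nat_lit 252, nat_lit 324, nat_lit 72, nat_lit 108, nat_lit 144, nat_lit 180, nat_lit 216, nat_lit 252, nat_lit 324, nat_lit 72, nat_lit 108, nat_lit 144, nat_lit 180, nat_lit 216, nat_lit 252, nat_lit 324, nat_lit 72, nat_lit 108, nat_lit 144, nat_lit 180, nat_lit 216, nat_lit 252, nat_lit 324, nat_lit 72, nat_lit 108, nat_lit 144, nat_lit 180, nat_lit 216, nat_lit 252, nat_lit 324, nat_lit 72, nat_lit 108, nat_lit 144, nat_lit 180, nat_lit 216, nat_lit 252, nat_lit 324, nat_lit 468, nat_lit 72, nat_lit 108, nat_lit 144, nat_lit 180, nat_lit 216, nat_lit 252, nat_lit 324, nat_lit 72, nat_lit 108, nat_lit 144, nat_lit 180, nat_lit 216, nat_lit 252, nat_lit 324, nat_lit 72, nat_lit 108, nat_lit 144, nat_lit 180, nat_lit 216, nat_lit 252, nat_lit 324])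
noncomputable def r44 : WT := (.leaf (nat_lit 79901) [nat_lit 108, nat_lit 144, nat_lit 180, nat_lit 216, nat_lit 252, nat_lit 324, nat_lit 72, nat_lit 108, nat_lit 144, nat_lit 180, nat_lit 216, nat_lit 252, nat_lit 324, nat_lit 72, nat_lit 108, nat_lit 144, nat_lit 180, nat_lit 216, nat_lit 252, nat_lit 324, nat_lit 72, nat_lit 108, nat_lit 144, nat_lit 180, nat_lit 216, nat_lit 252, nat_lit 324, nat_lit 72, nat_lit 108, nat_lit 144, nat_lit 180, nat_lit 216, nat_lit 252, nat_lit 324, nat_lit 72, nat_lit 108, nat_lit 144, nat_lit 180, nat_lit 216, nat_lit 252, nat_lit 324, nat_lit 72, nat_lit 108, nat_lit 144, nat_lit 180, nat_lit 216, nat_lit 252, nat_lit 324, nat_lit 468, nat_lit 72, nat_lit 108, nat_lit 144, nat_lit 180, nat_lit 216, nat_lit 252, nat_lit 324, nat_lit 72, nat_lit 108, nat_lit 144, nat_lit 180, nat_lit 216, nat_lit 252, nat_lit 324])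
noncomputable def r45 : WT := (.leaf (nat_lit 84026) [nat_lit 108, nat_lit 144, nat_lit 180, nat_lit 216, nat_lit 324, nat_lit 360, nat_lit 72, nat_lit 108, nat_lit 144, nat_lit 180, nat_lit 216, nat_lit 324, nat_lit 360, nat_lit 72, nat_lit 108, nat_lit 144, nat_lit 180, nat_lit 216, nat_lit 324, nat_lit 360, nat_lit 72, nat_lit 108, nat_lit 144, nat_lit 180, nat_lit 216, nat_lit 324, nat_lit 360, nat_lit 72, nat_lit 108, nat_lit 144, nat_lit 180, nat_lit 216, nat_lit 324, nat_lit 360, nat_lit 468, nat_lit 72, nat_lit 108, nat_lit 144, nat_lit 180, nat_lit 216, nat_lit 324, nat_lit 360, nat_lit 72, nat_lit 108, nat_lit 144, nat_lit 180, nat_lit 216, nat_lit 324, nat_lit 360, nat_lit 72, nat_lit 108, nat_lit 144, nat_lit 180, nat_lit 216, nat_lit 324, nat_lit 360, nat_lit 72, nat_lit 108, nat_lit 144, nat_lit 180, nat_lit 216, nat_lit 324, nat_lit 360])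
noncomputable def r46 : WT := (.node (nat_lit 45) (.node (nat_lit 44) r41 r42) (.node (nat_lit 46) r43 (.node (nat_lit 47) r44 r45)))
noncomputable def r47 : WT := (.leaf (nat_lit 79956) [nat_lit 324, nat_lit 252, nat_lit 216, nat_lit 180, nat_lit 144, nat_lit 108, nat_lit 72, nat_lit 324, nat_lit 252, nat_lit 216, nat_lit 180, nat_lit 144, nat_lit 108, nat_lit 72, nat_lit 324, nat_lit 252, nat_lit 216, nat_lit 180, nat_lit 144, nat_lit 108, nat_lit 72, nat_lit 468, nat_lit 324, nat_lit 252, nat_lit 216, nat_lit 180, nat_lit 144, nat_lit 108, nat_lit 72, nat_lit 324, nat_lit 252, nat_lit 216, nat_lit 180, nat_lit 144, nat_lit 108, nat_lit 72, nat_lit 324, nat_lit 252, nat_lit 216, nat_lit 180, nat_lit 144, nat_lit 108, nat_lit 72, nat_lit 324, nat_lit 252, nat_lit 216, nat_lit 180, nat_lit 144, nat_lit 108, nat_lit 72, nat_lit 324, nat_lit 252, nat_lit 216, nat_lit 180, nat_lit 144, nat_lit 108, nat_lit 72, nat_lit 324, nat_lit 252, nat_lit 216, nat_lit 180, nat_lit 144, nat_lit 108])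
noncomputable def r48 : WT := (.leaf (nat_lit 79971) [nat_lit 108, nat_lit 144, nat_lit 180, nat_lit 216, nat_lit 252, nat_lit 324, nat_lit 72, nat_lit 108, nat_lit 144, nat_lit 180, nat_lit 216, nat_lit 252, nat_lit 324, nat_lit 468, nat_lit 72, nat_lit 108, nat_lit 144, nat_lit 180, nat_lit 216, nat_lit 252, nat_lit 324, nat_lit 72, nat_lit 108, nat_lit 144, nat_lit 180, nat_lit 216, nat_lit 252, nat_lit 324, nat_lit 72, nat_lit 108, nat_lit 144, nat_lit 180, nat_lit 216, nat_lit 252, nat_lit 324, nat_lit 72, nat_lit 108, nat_lit 144, nat_lit 180, nat_lit 216, nat_lit 252, nat_lit 324, nat_lit 72, nat_lit 108, nat_lit 144, nat_lit 180, nat_lit 216, nat_lit 252, nat_lit 324, nat_lit 72, nat_lit 108, nat_lit 144, nat_lit 180, nat_lit 216, nat_lit 252, nat_lit 324, nat_lit 72, nat_lit 108, nat_lit 144, nat_lit 180, nat_lit 216, nat_lit 252, nat_lit 324])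
noncomputable def r49 : WT := (.leaf (nat_lit 79943) [nat_lit 108, nat_lit 144, nat_lit 180, nat_lit 216, nat_lit 252, nat_lit 324, nat_lit 72, nat_lit 108, nat_lit 144, nat_lit 180, nat_lit 216, nat_lit 252, nat_lit 324, nat_lit 72, nat_lit 108, nat_lit 144, nat_lit 180, nat_lit 216, nat_lit 252, nat_lit 324, nat_lit 72, nat_lit 108, nat_lit 144, nat_lit 180, nat_lit 216, nat_lit 252, nat_lit 324, nat_lit 468, nat_lit 72, nat_lit 108, nat_lit 144, nat_lit 180, nat_lit 216, nat_lit 252, nat_lit 324, nat_lit 72, nat_lit 108, nat_lit 144, nat_lit 180, nat_lit 216, nat_lit 252, nat_lit 324, nat_lit 72, nat_lit 108, nat_lit 144, nat_lit 180, nat_lit 216, nat_lit 252, nat_lit 324, nat_lit 72, nat_lit 108, nat_lit 144, nat_lit 180, nat_lit 216, nat_lit 252, nat_lit 324, nat_lit 72, nat_lit 108, nat_lit 144, nat_lit 180, nat_lit 216, nat_lit 252, nat_lit 324])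
noncomputable def r50 : WT := (.leaf (nat_lit 84040) [nat_lit 108, nat_lit 144, nat_lit 180, nat_lit 216, nat_lit 324, nat_lit 360, nat_lit 72, nat_lit 108, nat_lit 144, nat_lit 180, nat_lit 216, nat_lit 324, nat_lit 360, nat_lit 72, nat_lit 108, nat_lit 144, nat_lit 180, nat_lit 216, nat_lit 324, nat_lit 360, nat_lit 72, nat_lit 108, nat_lit 144, nat_lit 180, nat_lit 216, nat_lit 324, nat_lit 360, nat_lit 468, nat_lit 72, nat_lit 108, nat_lit 144, nat_lit 180, nat_lit 216, nat_lit 324, nat_lit 360, nat_lit 72, nat_lit 108, nat_lit 144, nat_lit 180, nat_lit 216, nat_lit 324, nat_lit 360, nat_lit 72, nat_lit 108, nat_lit 144, nat_lit 180, nat_lit 216, nat_lit 324, nat_lit 360, nat_lit 72, nat_lit 108, nat_lit 144, nat_lit 180, nat_lit 216, nat_lit 324, nat_lit 360, nat_lit 72, nat_lit 108, nat_lit 144, nat_lit 180, nat_lit 216, nat_lit 324, nat_lit 360])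
noncomputable def r51 : WT := (.leaf (nat_lit 84012) [nat_lit 108, nat_lit 144, nat_lit 180, nat_lit 216, nat_lit 324, nat_lit 360, nat_lit 72, nat_lit 108, nat_lit 144, nat_lit 180, nat_lit 216, nat_lit 324, nat_lit 360, nat_lit 72, nat_lit 108, nat_lit 144, nat_lit 180, nat_lit 216, nat_lit 324, nat_lit 360, nat_lit 72, nat_lit 108, nat_lit 144, nat_lit 180, nat_lit 216, nat_lit 324, nat_lit 360, nat_lit 72, nat_lit 108, nat_lit 144, nat_lit 180, nat_lit 216, nat_lit 324, nat_lit 360, nat_lit 72, nat_lit 108, nat_lit 144, nat_lit 180, nat_lit 216, nat_lit 324, nat_lit 360, nat_lit 468, nat_lit 72, nat_lit 108, nat_lit 144, nat_lit 180, nat_lit 216, nat_lit 324, nat_lit 360, nat_lit 72, nat_lit 108, nat_lit 144, nat_lit 180, nat_lit 216, nat_lit 324, nat_lit 360, nat_lit 72, nat_lit 108, nat_lit 144, nat_lit 180, nat_lit 216, nat_lit 324, nat_lit 360])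
noncomputable def r52 : WT := (.leaf (nat_lit 83998) [nat_lit 108, nat_lit 144, nat_lit 180, nat_lit 216, nat_lit 324, nat_lit 360, nat_lit 72, nat_lit 108, nat_lit 144, nat_lit 180, nat_lit 216, nat_lit 324, nat_lit 360, nat_lit 72, nat_lit 108, nat_lit 144, nat_lit 180, nat_lit 216, nat_lit 324, nat_lit 360, nat_lit 72, nat_lit 108, nat_lit 144, nat_lit 180, nat_lit 216, nat_lit 324, nat_lit 360, nat_lit 72, nat_lit 108, nat_lit 144, nat_lit 180, nat_lit 216, nat_lit 324, nat_lit 360, nat_lit 72, nat_lit 108, nat_lit 144, nat_lit 180, nat_lit 216, nat_lit 324, nat_lit 360, nat_lit 72, nat_lit 108, nat_lit 144, nat_lit 180, nat_lit 216, nat_lit 324, nat_lit 360, nat_lit 468, nat_lit 72, nat_lit 108, nat_lit 144, nat_lit 180, nat_lit 216, nat_lit 324, nat_lit 360, nat_lit 72, nat_lit 108, nat_lit 144, nat_lit 180, nat_lit 216, nat_lit 324, nat_lit 360])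
noncomputable def r53 : WT := (.node (nat_lit 51) (.node (nat_lit 49) r47 (.node (nat_lit 50) r48 r49)) (.node (nat_lit 52) r50 (.node (nat_lit 53) r51 r52)))
noncomputable def r54 : WT := (.node (nat_lit 26) (.node (nat_lit 22) (.node (nat_lit 21) r12 r13) (.node (nat_lit 24) (.node (nat_lit 23) r14 r15) (.node (nat_lit 25) r16 r17))) (.node (nat_lit 36) (.node (nat_lit 30) (.node (nat_lit 28) r20 r23) (.node (nat_lit 33) r27 r31)) (.node (nat_lit 43) (.node (nat_lit 39) r35 r40) (.node (nat_lit 48) r46 r53))))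
noncomputable def r55 : WT := (.node (nat_lit 11) (.node (nat_lit 10) (.leaf (nat_lit 36864) [nat_lit 216, nat_lit 72, nat_lit 216]) (.leaf (nat_lit 35840) [nat_lit 180, nat_lit 72, nat_lit 180])) (.node (nat_lit 12) (.leaf (nat_lit 34816) [nat_lit 144, nat_lit 72, nat_lit 144]) (.node (nat_lit 15) (.node (nat_lit 13) r2 r5) (.node (nat_lit 20) r11 r54))))
noncomputable def w0 : WT := (.node (nat_lit 1) (.leaf (nat_lit 0) [nat_lit 72]) (.node (nat_lit 4) (.node (nat_lit 2) (.leaf (nat_lit 41984) [nat_lit 360, nat_lit 72, nat_lit 360]) (.node (nat_lit 3) (.leaf (nat_lit 40960) [nat_lit 324, nat_lit 72, nat_lit 324]) (.leaf (nat_lit 39936) [nat_lit 396, nat_lit 72, nat_lit 396]))) (.node (nat_lit 7) (.node (nat_lit 5) (.leaf (nat_lit 13314) [nat_lit 468, nat_lit 72, nat_lit 468]) r0) (.node (nat_lit 9) r1 r55))))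
noncomputable def r56 : WT := (.node (nat_lit 6) (.leaf (nat_lit 14338) [nat_lit 468, nat_lit 108, nat_lit 468]) (.leaf (nat_lit 47104) [nat_lit 288, nat_lit 108, nat_lit 288]))
noncomputable def r57 : WT := (.node (nat_lit 8) (.leaf (nat_lit 46080) [nat_lit 252, nat_lit 108, nat_lit 252]) (.leaf (nat_lit 44032) [nat_lit 180, nat_lit 108, nat_lit 180]))
noncomputable def r58 : WT := (.leaf (nat_lit 79875) [nat_lit 144, nat_lit 180, nat_lit 216, nat_lit 252, nat_lit 324, nat_lit 72, nat_lit 108, nat_lit 144, nat_lit 180, nat_lit 216, nat_lit 252, nat_lit 324, nat_lit 72, nat_lit 108, nat_lit 144, nat_lit 180, nat_lit 216, nat_lit 252, nat_lit 324, nat_lit 72, nat_lit 108, nat_lit 144, nat_lit 180, nat_lit 216, nat_lit 252, nat_lit 324, nat_lit 72, nat_lit 108, nat_lit 144, nat_lit 180, nat_lit 216, nat_lit 252, nat_lit 324, nat_lit 72, nat_lit 108, nat_lit 144, nat_lit 180, nat_lit 216, nat_lit 252, nat_lit 324, nat_lit 72, nat_lit 108, nat_lit 144, nat_lit 180, nat_lit 216, nat_lit 252, nat_lit 324, nat_lit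 72, nat_lit 108, nat_lit 144, nat_lit 180, nat_lit 216, nat_lit 252, nat_lit 324, nat_lit 72, nat_lit 108, nat_lit 144, nat_lit 180, nat_lit 216, nat_lit 252, nat_lit 324, nat_lit 468, nat_lit 72])
noncomputable def r59 : WT := (.leaf (nat_lit 79884) [nat_lit 72, nat_lit 324, nat_lit 252, nat_lit 216, nat_lit 180, nat_lit 144, nat_lit 108, nat_lit 72, nat_lit 324, nat_lit 252, nat_lit 216, nat_lit 180, nat_lit 144, nat_lit 108, nat_lit 72, nat_lit 324, nat_lit 252, nat_lit 216, nat_lit 180, nat_lit 144, nat_lit 108, nat_lit 72, nat_lit 324, nat_lit 252, nat_lit 216, nat_lit 180, nat_lit 144, nat_lit 108, nat_lit 72, nat_lit 324, nat_lit 252, nat_lit 216, nat_lit 180, nat_lit 144, nat_lit 108, nat_lit 72, nat_lit 324, nat_lit 252, nat_lit 216, nat_lit 180, nat_lit 144, nat_lit 108, nat_lit 72, nat_lit 324, nat_lit 252, nat_lit 216, nat_lit 180, nat_lit 144, nat_lit 108, nat_lit 72, nat_lit 324, nat_lit 252, nat_lit 216, nat_lit 180, nat_lit 144, nat_lit 108, nat_lit 72, nat_lit 468, nat_lit 324, nat_lit 252,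 nat_lit 216, nat_lit 180, nat_lit 144])
noncomputable def r60 : WT := (.leaf (nat_lit 83979) [nat_lit 72, nat_lit 360, nat_lit 324, nat_lit 216, nat_lit 180, nat_lit 144, nat_lit 108, nat_lit 72, nat_lit 360, nat_lit 324, nat_lit 216, nat_lit 180, nat_lit 144, nat_lit 108, nat_lit 72, nat_lit 360, nat_lit 324, nat_lit 216, nat_lit 180, nat_lit 144, nat_lit 108, nat_lit 72, nat_lit 360, nat_lit 324, nat_lit 216, nat_lit 180, nat_lit 144, nat_lit 108, nat_lit 72, nat_lit 360, nat_lit 324, nat_lit 216, nat_lit 180, nat_lit 144, nat_lit 108, nat_lit 72, nat_lit 360, nat_lit 324, nat_lit 216, nat_lit 180, nat_lit 144, nat_lit 108, nat_lit 72, nat_lit 360, nat_lit 324, nat_lit 216, nat_lit 180, nat_lit 144, nat_lit 108, nat_lit 72, nat_lit 360, nat_lit 324, nat_lit 216, nat_lit 180, nat_lit 144, nat_lit 108, nat_lit 72, nat_lit 468, nat_lit 360, nat_lit 324, nat_lit 216, nat_lit 180, nat_lit 144])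
noncomputable def r61 : WT := (.node (nat_lit 14) r59 r60)
noncomputable def r62 : WT := (.leaf (nat_lit 83972) [nat_lit 144, nat_lit 180, nat_lit 216, nat_lit 324, nat_lit 360, nat_lit 72, nat_lit 108, nat_lit 144, nat_lit 180, nat_lit 216, nat_lit 324, nat_lit 360, nat_lit 72, nat_lit 108, nat_lit 144, nat_lit 180, nat_lit 216, nat_lit 324, nat_lit 360, nat_lit 72, nat_lit 108, nat_lit 144, nat_lit 180, nat_lit 216, nat_lit 324, nat_lit 360, nat_lit 72, nat_lit 108, nat_lit 144, nat_lit 180, nat_lit 216, nat_lit 324, nat_lit 360, nat_lit 72, nat_lit 108, nat_lit 144, nat_lit 180, nat_lit 216, nat_lit 324, nat_lit 360, nat_lit 72, nat_lit 108, nat_lit 144, nat_lit 180, nat_lit 216, nat_lit 324, nat_lit 360, nat_lit 72, nat_lit 108, nat_lit 144, nat_lit 180, nat_lit 216, nat_lit 324, nat_lit 360, nat_lit 72, nat_lit 108, nat_lit 144, nat_lit 180, nat_lit 216, nat_lit 324, nat_lit 360, nat_lit 468, nat_lit 72])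
noncomputable def r63 : WT := (.leaf (nat_lit 79889) [nat_lit 144, nat_lit 180, nat_lit 216, nat_lit 252, nat_lit 324, nat_lit 72, nat_lit 108, nat_lit 144, nat_lit 180, nat_lit 216, nat_lit 252, nat_lit 324, nat_lit 72, nat_lit 108, nat_lit 144, nat_lit 180, nat_lit 216, nat_lit 252, nat_lit 324, nat_lit 72, nat_lit 108, nat_lit 144, nat_lit 180, nat_lit 216, nat_lit 252, nat_lit 324, nat_lit 72, nat_lit 108, nat_lit 144, nat_lit 180, nat_lit 216, nat_lit 252, nat_lit 324, nat_lit 72, nat_lit 108, nat_lit 144, nat_lit 180, nat_lit 216, nat_lit 252, nat_lit 324, nat_lit 72, nat_lit 108, nat_lit 144, nat_lit 180, nat_lit 216, nat_lit 252, nat_lit 324, nat_lit 72, nat_lit 108, nat_lit 144, nat_lit 180, nat_lit 216, nat_lit 252, nat_lit 324, nat_lit 468, nat_lit 72, nat_lit 108, nat_lit 144, nat_lit 180, nat_lit 216, nat_lit 252, nat_lit 324, nat_lit 72])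
noncomputable def r64 : WT := (.leaf (nat_lit 84996) [nat_lit 180, nat_lit 216, nat_lit 252, nat_lit 180, nat_lit 324, nat_lit 360, nat_lit 180, nat_lit 144, nat_lit 108, nat_lit 180, nat_lit 216, nat_lit 252, nat_lit 180, nat_lit 324, nat_lit 360, nat_lit 180, nat_lit 144, nat_lit 108, nat_lit 180, nat_lit 216, nat_lit 252, nat_lit 180, nat_lit 324, nat_lit 360, nat_lit 180, nat_lit 144, nat_lit 108, nat_lit 180, nat_lit 216, nat_lit 252, nat_lit 180, nat_lit 324, nat_lit 360, nat_lit 180, nat_lit 144, nat_lit 108, nat_lit 180, nat_lit 216, nat_lit 252, nat_lit 180, nat_lit 324, nat_lit 360, nat_lit 180, nat_lit 144, nat_lit 108, nat_lit 180, nat_lit 216, nat_lit 252, nat_lit 180, nat_lit 324, nat_lit 360, nat_lit 180, nat_lit 144, nat_lit 108, nat_lit 180, nat_lit 216, nat_lit 252, nat_lit 180, nat_lit 324, nat_lit 360, nat_lit 180, nat_lit 144, nat_lit 108, nat_lit 180, nat_lit 216, nat_lit 252, nat_lit 180, nat_lit 324, nat_lit 360, nat_lit 180, nat_lit 144, nat_lit 108, nat_lit 180, nat_lit 216, nat_lit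 252, nat_lit 180, nat_lit 324, nat_lit 360, nat_lit 180, nat_lit 144, nat_lit 108, nat_lit 180, nat_lit 216, nat_lit 252, nat_lit 180, nat_lit 324, nat_lit 360, nat_lit 180, nat_lit 144])
noncomputable def r65 : WT := (.leaf (nat_lit 83986) [nat_lit 144, nat_lit 180, nat_lit 216, nat_lit 324, nat_lit 360, nat_lit 72, nat_lit 108, nat_lit 144, nat_lit 180, nat_lit 216, nat_lit 324, nat_lit 360, nat_lit 72, nat_lit 108, nat_lit 144, nat_lit 180, nat_lit 216, nat_lit 324, nat_lit 360, nat_lit 72, nat_lit 108, nat_lit 144, nat_lit 180, nat_lit 216, nat_lit 324, nat_lit 360, nat_lit 72, nat_lit 108, nat_lit 144, nat_lit 180, nat_lit 216, nat_lit 324, nat_lit 360, nat_lit 72, nat_lit 108, nat_lit 144, nat_lit 180, nat_lit 216, nat_lit 324, nat_lit 360, nat_lit 72, nat_lit 108, nat_lit 144, nat_lit 180, nat_lit 216, nat_lit 324, nat_lit 360, nat_lit 72, nat_lit 108, nat_lit 144, nat_lit 180, nat_lit 216, nat_lit 324, nat_lit 360, nat_lit 468, nat_lit 72, nat_lit 108, nat_lit 144, nat_lit 180, nat_lit 216, nat_lit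 324, nat_lit 360, nat_lit 72])
noncomputable def r66 : WT := (.node (nat_lit 16) r62 (.node (nat_lit 17) r63 (.node (nat_lit 18) r64 r65)))
noncomputable def r67 : WT := (.leaf (nat_lit 82948) [nat_lit 144, nat_lit 180, nat_lit 216, nat_lit 324, nat_lit 360, nat_lit 432, nat_lit 72, nat_lit 108, nat_lit 144, nat_lit 180, nat_lit 216, nat_lit 324, nat_lit 360, nat_lit 432, nat_lit 72, nat_lit 108, nat_lit 144, nat_lit 180, nat_lit 216, nat_lit 324, nat_lit 360, nat_lit 432, nat_lit 72, nat_lit 108, nat_lit 144, nat_lit 180, nat_lit 216, nat_lit 324, nat_lit 360, nat_lit 432, nat_lit 72, nat_lit 108, nat_lit 144, nat_lit 180, nat_lit 216, nat_lit 324, nat_lit 360, nat_lit 432, nat_lit 72, nat_lit 108, nat_lit 144, nat_lit 180, nat_lit 216, nat_lit 324, nat_lit 360, nat_lit 432, nat_lit 72, nat_lit 108, nat_lit 144, nat_lit 180, nat_lit 216, nat_lit 324, nat_lit 360, nat_lit 432, nat_lit 72, nat_lit 108, nat_lit 144, nat_lit 180, nat_lit 216, nat_lit 324, nat_lit 360, nat_lit 432, nat_lit 72, nat_lit 108, nat_lit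 144, nat_lit 180, nat_lit 216, nat_lit 324, nat_lit 360, nat_lit 432, nat_lit 72, nat_lit 108, nat_lit 144, nat_lit 180, nat_lit 216, nat_lit 324, nat_lit 360, nat_lit 432, nat_lit 72, nat_lit 108, nat_lit 144, nat_lit 180, nat_lit 216, nat_lit 324, nat_lit 360, nat_lit 432, nat_lit 72, nat_lit 108, nat_lit 144, nat_lit 180, nat_lit 216, nat_lit 324, nat_lit 360, nat_lit 432, nat_lit 72, nat_lit 108, nat_lit 144, nat_lit 180, nat_lit 216, nat_lit 324, nat_lit 360, nat_lit 432, nat_lit 72, nat_lit 108, nat_lit 144, nat_lit 180, nat_lit 216, nat_lit 324, nat_lit 360, nat_lit 432, nat_lit 72, nat_lit 108, nat_lit 144, nat_lit 180, nat_lit 216, nat_lit 324, nat_lit 360, nat_lit 432, nat_lit 72])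
noncomputable def r68 : WT := (.leaf (nat_lit 81924) [nat_lit 144, nat_lit 180, nat_lit 216, nat_lit 252, nat_lit 324, nat_lit 432, nat_lit 72, nat_lit 108, nat_lit 144, nat_lit 180, nat_lit 216, nat_lit 252, nat_lit 324, nat_lit 432, nat_lit 72, nat_lit 108, nat_lit 144, nat_lit 180, nat_lit 216, nat_lit 252, nat_lit 324, nat_lit 432, nat_lit 72, nat_lit 108, nat_lit 144, nat_lit 180, nat_lit 216, nat_lit 252, nat_lit 324, nat_lit 432, nat_lit 72, nat_lit 108, nat_lit 144, nat_lit 180, nat_lit 216, nat_lit 252, nat_lit 324, nat_lit 432, nat_lit 72, nat_lit 108, nat_lit 144, nat_lit 180, nat_lit 216, nat_lit 252, nat_lit 324, nat_lit 432, nat_lit 72, nat_lit 108, nat_lit 144, nat_lit 180, nat_lit 216, nat_lit 252, nat_lit 324, nat_lit 432, nat_lit 72, nat_lit 108, nat_lit 144, nat_lit 180, nat_lit 216, nat_lit 252, nat_lit 324, nat_lit 432, nat_lit 72, nat_lit 108, nat_lit 144, nat_lit 180, nat_lit 216, nat_lit 252, nat_lit 324, nat_lit 432, nat_lit 72, nat_lit 108, nat_lit 144, nat_lit 180, nat_lit 216,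 nat_lit 252, nat_lit 324, nat_lit 432, nat_lit 72, nat_lit 108, nat_lit 144, nat_lit 180, nat_lit 216, nat_lit 252, nat_lit 324, nat_lit 432, nat_lit 72, nat_lit 108, nat_lit 144, nat_lit 180, nat_lit 216, nat_lit 252, nat_lit 324, nat_lit 432, nat_lit 72, nat_lit 108, nat_lit 144, nat_lit 180, nat_lit 216, nat_lit 252, nat_lit 324, nat_lit 432, nat_lit 72, nat_lit 108, nat_lit 144, nat_lit 180, nat_lit 216, nat_lit 252, nat_lit 324, nat_lit 432, nat_lit 72, nat_lit 108, nat_lit 144, nat_lit 180, nat_lit 216, nat_lit 252, nat_lit 324, nat_lit 432, nat_lit 72])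
noncomputable def r69 : WT := (.leaf (nat_lit 85005) [nat_lit 144, nat_lit 180, nat_lit 360, nat_lit 324, nat_lit 180, nat_lit 252, nat_lit 216, nat_lit 180, nat_lit 108, nat_lit 144, nat_lit 180, nat_lit 360, nat_lit 324, nat_lit 180, nat_lit 252, nat_lit 216, nat_lit 180, nat_lit 108, nat_lit 144, nat_lit 180, nat_lit 360, nat_lit 324, nat_lit 180, nat_lit 252, nat_lit 216, nat_lit 180, nat_lit 108, nat_lit 144, nat_lit 180, nat_lit 360, nat_lit 324, nat_lit 180, nat_lit 252, nat_lit 216, nat_lit 180, nat_lit 108, nat_lit 144, nat_lit 180, nat_lit 360, nat_lit 324, nat_lit 180, nat_lit 252, nat_lit 216, nat_lit 180, nat_lit 108, nat_lit 144, nat_lit 180, nat_lit 360, nat_lit 324, nat_lit 180, nat_lit 252, nat_lit 216, nat_lit 180, nat_lit 108, nat_lit 144, nat_lit 180, nat_lit 360, nat_lit 324, nat_lit 180, nat_lit 252, nat_lit 216, nat_lit 180, nat_lit 108, nat_lit 144, nat_lit 180, nat_lit 360, nat_lit 324, nat_lit 180, nat_lit 252, nat_lit 216, nat_lit 180, nat_lit 108, nat_lit 144, nat_lit 180, nat_lit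 360, nat_lit 324, nat_lit 180, nat_lit 252, nat_lit 216, nat_lit 180, nat_lit 108, nat_lit 144, nat_lit 180, nat_lit 360, nat_lit 324, nat_lit 180, nat_lit 252, nat_lit 216, nat_lit 180])
noncomputable def r70 : WT := (.leaf (nat_lit 80919) [nat_lit 144, nat_lit 180, nat_lit 360, nat_lit 324, nat_lit 180, nat_lit 396, nat_lit 288, nat_lit 252, nat_lit 216, nat_lit 180, nat_lit 468, nat_lit 432, nat_lit 72, nat_lit 108, nat_lit 144, nat_lit 180, nat_lit 360, nat_lit 324, nat_lit 180, nat_lit 396, nat_lit 288, nat_lit 252, nat_lit 216, nat_lit 180, nat_lit 468, nat_lit 432, nat_lit 72, nat_lit 108, nat_lit 144, nat_lit 180, nat_lit 360, nat_lit 324, nat_lit 180, nat_lit 396, nat_lit 288, nat_lit 252, nat_lit 216, nat_lit 180, nat_lit 468, nat_lit 432, nat_lit 72, nat_lit 108, nat_lit 144, nat_lit 180, nat_lit 360, nat_lit 324, nat_lit 180, nat_lit 396, nat_lit 288, nat_lit 252, nat_lit 216, nat_lit 180, nat_lit 468, nat_lit 432, nat_lit 72, nat_lit 108, nat_lit 144, nat_lit 180, nat_lit 360, nat_lit 324, nat_lit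 180, nat_lit 396, nat_lit 288, nat_lit 252, nat_lit 216, nat_lit 180, nat_lit 468, nat_lit 432, nat_lit 72, nat_lit 108, nat_lit 144, nat_lit 180, nat_lit 360, nat_lit 324, nat_lit 180, nat_lit 396, nat_lit 288, nat_lit 252, nat_lit 216, nat_lit 180, nat_lit 468, nat_lit 432, nat_lit 72, nat_lit 108, nat_lit 144, nat_lit 180, nat_lit 360, nat_lit 324, nat_lit 180, nat_lit 396, nat_lit 288, nat_lit 252, nat_lit 216, nat_lit 180, nat_lit 468, nat_lit 432, nat_lit 72, nat_lit 108, nat_lit 144, nat_lit 180, nat_lit 360, nat_lit 324, nat_lit 180, nat_lit 396, nat_lit 288, nat_lit 252, nat_lit 216, nat_lit 180, nat_lit 468, nat_lit 432, nat_lit 72, nat_lit 108, nat_lit 144, nat_lit 180, nat_lit 360, nat_lit 324, nat_lit 180, nat_lit 396, nat_lit 288, nat_lit 252, nat_lit 216, nat_lit 180, nat_lit 468, nat_lit 432, nat_lit 72, nat_lit 108, nat_lit 144, nat_lit 180, nat_lit 360, nat_lit 324, nat_lit 180, nat_lit 396, nat_lit 288, nat_lit 252, nat_lit 216, nat_lit 180, nat_lit 468, nat_lit 432, nat_lit 72, nat_lit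 108, nat_lit 144, nat_lit 180, nat_lit 360, nat_lit 324, nat_lit 180, nat_lit 396, nat_lit 288, nat_lit 252, nat_lit 216, nat_lit 180, nat_lit 468, nat_lit 432, nat_lit 72, nat_lit 108, nat_lit 144, nat_lit 180, nat_lit 360, nat_lit 324, nat_lit 180, nat_lit 396, nat_lit 288, nat_lit 252, nat_lit 216, nat_lit 180, nat_lit 468, nat_lit 432, nat_lit 72, nat_lit 108, nat_lit 144, nat_lit 180, nat_lit 360, nat_lit 324, nat_lit 180, nat_lit 396, nat_lit 288, nat_lit 252, nat_lit 216, nat_lit 180, nat_lit 468, nat_lit 432, nat_lit 72, nat_lit 108, nat_lit 144, nat_lit 180, nat_lit 360, nat_lit 324, nat_lit 180, nat_lit 396, nat_lit 288, nat_lit 252, nat_lit 216, nat_lit 180, nat_lit 468, nat_lit 432, nat_lit 72, nat_lit 108, nat_lit 144, nat_lit 180, nat_lit 360, nat_lit 324, nat_lit 180, nat_lit 396, nat_lit 288, nat_lit 252, nat_lit 216, nat_lit 180, nat_lit 468, nat_lit 432, nat_lit 72, nat_lit 108, nat_lit 144, nat_lit 180, nat_lit 360, nat_lit 324, nat_lit 180, nat_lit 396, nat_lit 288, nat_lit 252, nat_lit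 216, nat_lit 180, nat_lit 468, nat_lit 432, nat_lit 72, nat_lit 108, nat_lit 144, nat_lit 180, nat_lit 360, nat_lit 324, nat_lit 180, nat_lit 396, nat_lit 288, nat_lit 252, nat_lit 216, nat_lit 180, nat_lit 468, nat_lit 432, nat_lit 72])
noncomputable def r71 : WT := (.leaf (nat_lit 81931) [nat_lit 72, nat_lit 432, nat_lit 324, nat_lit 252, nat_lit 216, nat_lit 180, nat_lit 144, nat_lit 108, nat_lit 72, nat_lit 432, nat_lit 324, nat_lit 252, nat_lit 216, nat_lit 180, nat_lit 144, nat_lit 108, nat_lit 72, nat_lit 432, nat_lit 324, nat_lit 252, nat_lit 216, nat_lit 180, nat_lit 144, nat_lit 108, nat_lit 72, nat_lit 432, nat_lit 324, nat_lit 252, nat_lit 216, nat_lit 180, nat_lit 144, nat_lit 108, nat_lit 72, nat_lit 432, nat_lit 324, nat_lit 252, nat_lit 216, nat_lit 180, nat_lit 144, nat_lit 108, nat_lit 72, nat_lit 432, nat_lit 324, nat_lit 252, nat_lit 216, nat_lit 180, nat_lit 144, nat_lit 108, nat_lit 72, nat_lit 432, nat_lit 324, nat_lit 252, nat_lit 216, nat_lit 180, nat_lit 144, nat_lit 108, nat_lit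 72, nat_lit 432, nat_lit 324, nat_lit 252, nat_lit 216, nat_lit 180, nat_lit 144, nat_lit 108, nat_lit 72, nat_lit 432, nat_lit 324, nat_lit 252, nat_lit 216, nat_lit 180, nat_lit 144, nat_lit 108, nat_lit 72, nat_lit 432, nat_lit 324, nat_lit 252, nat_lit 216, nat_lit 180, nat_lit 144, nat_lit 108, nat_lit 72, nat_lit 432, nat_lit 324, nat_lit 252, nat_lit 216, nat_lit 180, nat_lit 144, nat_lit 108, nat_lit 72, nat_lit 432, nat_lit 324, nat_lit 252, nat_lit 216, nat_lit 180, nat_lit 144, nat_lit 108, nat_lit 72, nat_lit 432, nat_lit 324, nat_lit 252, nat_lit 216, nat_lit 180, nat_lit 144, nat_lit 108, nat_lit 72, nat_lit 432, nat_lit 324, nat_lit 252, nat_lit 216, nat_lit 180, nat_lit 144, nat_lit 108, nat_lit 72, nat_lit 432, nat_lit 324, nat_lit 252, nat_lit 216, nat_lit 180, nat_lit 144])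
noncomputable def r72 : WT := (.leaf (nat_lit 84091) [nat_lit 72, nat_lit 468, nat_lit 360, nat_lit 324, nat_lit 216, nat_lit 180, nat_lit 144, nat_lit 108, nat_lit 72, nat_lit 360, nat_lit 324, nat_lit 216, nat_lit 180, nat_lit 144, nat_lit 108, nat_lit 72, nat_lit 360, nat_lit 324, nat_lit 216, nat_lit 180, nat_lit 144, nat_lit 108, nat_lit 72, nat_lit 360, nat_lit 324, nat_lit 216, nat_lit 180, nat_lit 144, nat_lit 108, nat_lit 72, nat_lit 360, nat_lit 324, nat_lit 216, nat_lit 180, nat_lit 144, nat_lit 108, nat_lit 72, nat_lit 360, nat_lit 324, nat_lit 216, nat_lit 180, nat_lit 144, nat_lit 108, nat_lit 72, nat_lit 360, nat_lit 324, nat_lit 216, nat_lit 180, nat_lit 144, nat_lit 108, nat_lit 72, nat_lit 360, nat_lit 324, nat_lit 216, nat_lit 180, nat_lit 144, nat_lit 108, nat_lit 72, nat_lit 360, nat_lit 324, nat_lit 216, nat_lit 180, nat_lit 144])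
noncomputable def r73 : WT := (.leaf (nat_lit 79996) [nat_lit 72, nat_lit 468, nat_lit 324, nat_lit 252, nat_lit 216, nat_lit 180, nat_lit 144, nat_lit 108, nat_lit 72, nat_lit 324, nat_lit 252, nat_lit 216, nat_lit 180, nat_lit 144, nat_lit 108, nat_lit 72, nat_lit 324, nat_lit 252, nat_lit 216, nat_lit 180, nat_lit 144, nat_lit 108, nat_lit 72, nat_lit 324, nat_lit 252, nat_lit 216, nat_lit 180, nat_lit 144, nat_lit 108, nat_lit 72, nat_lit 324, nat_lit 252, nat_lit 216, nat_lit 180, nat_lit 144, nat_lit 108, nat_lit 72, nat_lit 324, nat_lit 252, nat_lit 216, nat_lit 180, nat_lit 144, nat_lit 108, nat_lit 72, nat_lit 324, nat_lit 252, nat_lit 216, nat_lit 180, nat_lit 144, nat_lit 108, nat_lit 72, nat_lit 324, nat_lit 252, nat_lit 216, nat_lit 180, nat_lit 144, nat_lit 108, nat_lit 72, nat_lit 324, nat_lit 252, nat_lit 216, nat_lit 180, nat_lit 144])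
noncomputable def r74 : WT := (.leaf (nat_lit 82955) [nat_lit 72, nat_lit 432, nat_lit 360, nat_lit 324, nat_lit 216, nat_lit 180, nat_lit 144, nat_lit 108, nat_lit 72, nat_lit 432, nat_lit 360, nat_lit 324, nat_lit 216, nat_lit 180, nat_lit 144, nat_lit 108, nat_lit 72, nat_lit 432, nat_lit 360, nat_lit 324, nat_lit 216, nat_lit 180, nat_lit 144, nat_lit 108, nat_lit 72, nat_lit 432, nat_lit 360, nat_lit 324, nat_lit 216, nat_lit 180, nat_lit 144, nat_lit 108, nat_lit 72, nat_lit 432, nat_lit 360, nat_lit 324, nat_lit 216, nat_lit 180, nat_lit 144, nat_lit 108, nat_lit 72, nat_lit 432, nat_lit 360, nat_lit 324, nat_lit 216, nat_lit 180, nat_lit 144, nat_lit 108, nat_lit 72, nat_lit 432, nat_lit 360, nat_lit 324, nat_lit 216, nat_lit 180, nat_lit 144, nat_lit 108, nat_lit 72, nat_lit 432, nat_lit 360, nat_lit 324, nat_lit 216, nat_lit 180, nat_lit 144, nat_lit 108, nat_lit 72, nat_lit 432, nat_lit 360, nat_lit 324, nat_lit 216, nat_lit 180, nat_lit 144, nat_lit 108, nat_lit 72, nat_lit 432, nat_lit 360, nat_lit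 324, nat_lit 216, nat_lit 180, nat_lit 144, nat_lit 108, nat_lit 72, nat_lit 432, nat_lit 360, nat_lit 324, nat_lit 216, nat_lit 180, nat_lit 144, nat_lit 108, nat_lit 72, nat_lit 432, nat_lit 360, nat_lit 324, nat_lit 216, nat_lit 180, nat_lit 144, nat_lit 108, nat_lit 72, nat_lit 432, nat_lit 360, nat_lit 324, nat_lit 216, nat_lit 180, nat_lit 144, nat_lit 108, nat_lit 72, nat_lit 432, nat_lit 360, nat_lit 324, nat_lit 216, nat_lit 180, nat_lit 144, nat_lit 108, nat_lit 72, nat_lit 432, nat_lit 360, nat_lit 324, nat_lit 216, nat_lit 180, nat_lit 144])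
noncomputable def r75 : WT := (.leaf (nat_lit 83993) [nat_lit 72, nat_lit 360, nat_lit 324, nat_lit 216, nat_lit 180, nat_lit 144, nat_lit 108, nat_lit 72, nat_lit 360, nat_lit 324, nat_lit 216, nat_lit 180, nat_lit 144, nat_lit 108, nat_lit 72, nat_lit 360, nat_lit 324, nat_lit 216, nat_lit 180, nat_lit 144, nat_lit 108, nat_lit 72, nat_lit 360, nat_lit 324, nat_lit 216, nat_lit 180, nat_lit 144, nat_lit 108, nat_lit 72, nat_lit 360, nat_lit 324, nat_lit 216, nat_lit 180, nat_lit 144, nat_lit 108, nat_lit 72, nat_lit 360, nat_lit 324, nat_lit 216, nat_lit 180, nat_lit 144, nat_lit 108, nat_lit 72, nat_lit 360, nat_lit 324, nat_lit 216, nat_lit 180, nat_lit 144, nat_lit 108, nat_lit 72, nat_lit 468, nat_lit 360, nat_lit 324, nat_lit 216, nat_lit 180, nat_lit 144, nat_lit 108, nat_lit 72, nat_lit 360, nat_lit 324, nat_lit 216, nat_lit 180, nat_lit 144])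
noncomputable def r76 : WT := (.node (nat_lit 26) r73 (.node (nat_lit 27) r74 r75))
noncomputable def r77 : WT := (.leaf (nat_lit 79973) [nat_lit 144, nat_lit 180, nat_lit 216, nat_lit 252, nat_lit 324, nat_lit 72, nat_lit 108, nat_lit 144, nat_lit 180, nat_lit 216, nat_lit 252, nat_lit 324, nat_lit 468, nat_lit 72, nat_lit 108, nat_lit 144, nat_lit 180, nat_lit 216, nat_lit 252, nat_lit 324, nat_lit 72, nat_lit 108, nat_lit 144, nat_lit 180, nat_lit 216, nat_lit 252, nat_lit 324, nat_lit 72, nat_lit 108, nat_lit 144, nat_lit 180, nat_lit 216, nat_lit 252, nat_lit 324, nat_lit 72, nat_lit 108, nat_lit 144, nat_lit 180, nat_lit 216, nat_lit 252, nat_lit 324, nat_lit 72, nat_lit 108, nat_lit 144, nat_lit 180, nat_lit 216, nat_lit 252, nat_lit 324, nat_lit 72, nat_lit 108, nat_lit 144, nat_lit 180, nat_lit 216, nat_lit 252, nat_lit 324, nat_lit 72, nat_lit 108, nat_lit 144, nat_lit 180, nat_lit 216, nat_lit 252, nat_lit 324, nat_lit 72])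
noncomputable def r78 : WT := (.leaf (nat_lit 79968) [nat_lit 72, nat_lit 324, nat_lit 252, nat_lit 216, nat_lit 180, nat_lit 144, nat_lit 108, nat_lit 72, nat_lit 324, nat_lit 252, nat_lit 216, nat_lit 180, nat_lit 144, nat_lit 108, nat_lit 72, nat_lit 468, nat_lit 324, nat_lit 252, nat_lit 216, nat_lit 180, nat_lit 144, nat_lit 108, nat_lit 72, nat_lit 324, nat_lit 252, nat_lit 216, nat_lit 180, nat_lit 144, nat_lit 108, nat_lit 72, nat_lit 324, nat_lit 252, nat_lit 216, nat_lit 180, nat_lit 144, nat_lit 108, nat_lit 72, nat_lit 324, nat_lit 252, nat_lit 216, nat_lit 180, nat_lit 144, nat_lit 108, nat_lit 72, nat_lit 324, nat_lit 252, nat_lit 216, nat_lit 180, nat_lit 144, nat_lit 108, nat_lit 72, nat_lit 324, nat_lit 252, nat_lit 216, nat_lit 180, nat_lit 144, nat_lit 108, nat_lit 72, nat_lit 324, nat_lit 252, nat_lit 216, nat_lit 180, nat_lit 144])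
noncomputable def r79 : WT := (.leaf (nat_lit 84014) [nat_lit 144, nat_lit 180, nat_lit 216, nat_lit 324, nat_lit 360, nat_lit 72, nat_lit 108, nat_lit 144, nat_lit 180, nat_lit 216, nat_lit 324, nat_lit 360, nat_lit 72, nat_lit 108, nat_lit 144, nat_lit 180, nat_lit 216, nat_lit 324, nat_lit 360, nat_lit 72, nat_lit 108, nat_lit 144, nat_lit 180, nat_lit 216, nat_lit 324, nat_lit 360, nat_lit 72, nat_lit 108, nat_lit 144, nat_lit 180, nat_lit 216, nat_lit 324, nat_lit 360, nat_lit 72, nat_lit 108, nat_lit 144, nat_lit 180, nat_lit 216, nat_lit 324, nat_lit 360, nat_lit 468, nat_lit 72, nat_lit 108, nat_lit 144, nat_lit 180, nat_lit 216, nat_lit 324, nat_lit 360, nat_lit 72, nat_lit 108, nat_lit 144, nat_lit 180, nat_lit 216, nat_lit 324, nat_lit 360, nat_lit 72, nat_lit 108, nat_lit 144, nat_lit 180, nat_lit 216, nat_lit 324, nat_lit 360, nat_lit 72])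
noncomputable def r80 : WT := (.node (nat_lit 29) r77 (.node (nat_lit 30) r78 r79))
noncomputable def r81 : WT := (.leaf (nat_lit 79917) [nat_lit 144, nat_lit 180, nat_lit 216, nat_lit 252, nat_lit 324, nat_lit 72, nat_lit 108, nat_lit 144, nat_lit 180, nat_lit 216, nat_lit 252, nat_lit 324, nat_lit 72, nat_lit 108, nat_lit 144, nat_lit 180, nat_lit 216, nat_lit 252, nat_lit 324, nat_lit 72, nat_lit 108, nat_lit 144, nat_lit 180, nat_lit 216, nat_lit 252, nat_lit 324, nat_lit 72, nat_lit 108, nat_lit 144, nat_lit 180, nat_lit 216, nat_lit 252, nat_lit 324, nat_lit 72, nat_lit 108, nat_lit 144, nat_lit 180, nat_lit 216, nat_lit 252, nat_lit 324, nat_lit 468, nat_lit 72, nat_lit 108, nat_lit 144, nat_lit 180, nat_lit 216, nat_lit 252, nat_lit 324, nat_lit 72, nat_lit 108, nat_lit 144, nat_lit 180, nat_lit 216, nat_lit 252, nat_lit 324, nat_lit 72, nat_lit 108, nat_lit 144, nat_lit 180, nat_lit 216, nat_lit 252, nat_lit 324, nat_lit 72])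
noncomputable def r82 : WT := (.leaf (nat_lit 79940) [nat_lit 72, nat_lit 324, nat_lit 252, nat_lit 216, nat_lit 180, nat_lit 144, nat_lit 108, nat_lit 72, nat_lit 324, nat_lit 252, nat_lit 216, nat_lit 180, nat_lit 144, nat_lit 108, nat_lit 72, nat_lit 324, nat_lit 252, nat_lit 216, nat_lit 180, nat_lit 144, nat_lit 108, nat_lit 72, nat_lit 324, nat_lit 252, nat_lit 216, nat_lit 180, nat_lit 144, nat_lit 108, nat_lit 72, nat_lit 468, nat_lit 324, nat_lit 252, nat_lit 216, nat_lit 180, nat_lit 144, nat_lit 108, nat_lit 72, nat_lit 324, nat_lit 252, nat_lit 216, nat_lit 180, nat_lit 144, nat_lit 108, nat_lit 72, nat_lit 324, nat_lit 252, nat_lit 216, nat_lit 180, nat_lit 144, nat_lit 108, nat_lit 72, nat_lit 324, nat_lit 252, nat_lit 216, nat_lit 180, nat_lit 144, nat_lit 108, nat_lit 72, nat_lit 324, nat_lit 252, nat_lit 216, nat_lit 180, nat_lit 144])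
noncomputable def r83 : WT := (.leaf (nat_lit 84070) [nat_lit 144, nat_lit 180, nat_lit 216, nat_lit 324, nat_lit 360, nat_lit 72, nat_lit 108, nat_lit 144, nat_lit 180, nat_lit 216, nat_lit 324, nat_lit 360, nat_lit 468, nat_lit 72, nat_lit 108, nat_lit 144, nat_lit 180, nat_lit 216, nat_lit 324, nat_lit 360, nat_lit 72, nat_lit 108, nat_lit 144, nat_lit 180, nat_lit 216, nat_lit 324, nat_lit 360, nat_lit 72, nat_lit 108, nat_lit 144, nat_lit 180, nat_lit 216, nat_lit 324, nat_lit 360, nat_lit 72, nat_lit 108, nat_lit 144, nat_lit 180, nat_lit 216, nat_lit 324, nat_lit 360, nat_lit 72, nat_lit 108, nat_lit 144, nat_lit 180, nat_lit 216, nat_lit 324, nat_lit 360, nat_lit 72, nat_lit 108, nat_lit 144, nat_lit 180, nat_lit 216, nat_lit 324, nat_lit 360, nat_lit 72, nat_lit 108, nat_lit 144, nat_lit 180, nat_lit 216, nat_lit 324, nat_lit 360, nat_lit 72])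
noncomputable def r84 : WT := (.leaf (nat_lit 79987) [nat_lit 144, nat_lit 180, nat_lit 216, nat_lit 252, nat_lit 324, nat_lit 468, nat_lit 72, nat_lit 108, nat_lit 144, nat_lit 180, nat_lit 216, nat_lit 252, nat_lit 324, nat_lit 72, nat_lit 108, nat_lit 144, nat_lit 180, nat_lit 216, nat_lit 252, nat_lit 324, nat_lit 72, nat_lit 108, nat_lit 144, nat_lit 180, nat_lit 216, nat_lit 252, nat_lit 324, nat_lit 72, nat_lit 108, nat_lit 144, nat_lit 180, nat_lit 216, nat_lit 252, nat_lit 324, nat_lit 72, nat_lit 108, nat_lit 144, nat_lit 180, nat_lit 216, nat_lit 252, nat_lit 324, nat_lit 72, nat_lit 108, nat_lit 144, nat_lit 180, nat_lit 216, nat_lit 252, nat_lit 324, nat_lit 72, nat_lit 108, nat_lit 144, nat_lit 180, nat_lit 216, nat_lit 252, nat_lit 324, nat_lit 72, nat_lit 108, nat_lit 144, nat_lit 180, nat_lit 216, nat_lit 252, nat_lit 324, nat_lit 72])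
noncomputable def r85 : WT := (.node (nat_lit 33) (.node (nat_lit 32) r81 r82) (.node (nat_lit 34) r83 r84))
noncomputable def r86 : WT := (.leaf (nat_lit 79903) [nat_lit 144, nat_lit 180, nat_lit 216, nat_lit 252, nat_lit 324, nat_lit 72, nat_lit 108, nat_lit 144, nat_lit 180, nat_lit 216, nat_lit 252, nat_lit 324, nat_lit 72, nat_lit 108, nat_lit 144, nat_lit 180, nat_lit 216, nat_lit 252, nat_lit 324, nat_lit 72, nat_lit 108, nat_lit 144, nat_lit 180, nat_lit 216, nat_lit 252, nat_lit 324, nat_lit 72, nat_lit 108, nat_lit 144, nat_lit 180, nat_lit 216, nat_lit 252, nat_lit 324, nat_lit 72, nat_lit 108, nat_lit 144, nat_lit 180, nat_lit 216, nat_lit 252, nat_lit 324, nat_lit 72, nat_lit 108, nat_lit 144, nat_lit 180, nat_lit 216, nat_lit 252, nat_lit 324, nat_lit 468, nat_lit 72, nat_lit 108, nat_lit 144, nat_lit 180, nat_lit 216, nat_lit 252, nat_lit 324, nat_lit 72, nat_lit 108, nat_lit 144, nat_lit 180, nat_lit 216, nat_lit 252, nat_lit 324, nat_lit 72])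
noncomputable def r87 : WT := (.leaf (nat_lit 84028) [nat_lit 144, nat_lit 180, nat_lit 216, nat_lit 324, nat_lit 360, nat_lit 72, nat_lit 108, nat_lit 144, nat_lit 180, nat_lit 216, nat_lit 324, nat_lit 360, nat_lit 72, nat_lit 108, nat_lit 144, nat_lit 180, nat_lit 216, nat_lit 324, nat_lit 360, nat_lit 72, nat_lit 108, nat_lit 144, nat_lit 180, nat_lit 216, nat_lit 324, nat_lit 360, nat_lit 72, nat_lit 108, nat_lit 144, nat_lit 180, nat_lit 216, nat_lit 324, nat_lit 360, nat_lit 468, nat_lit 72, nat_lit 108, nat_lit 144, nat_lit 180, nat_lit 216, nat_lit 324, nat_lit 360, nat_lit 72, nat_lit 108, nat_lit 144, nat_lit 180, nat_lit 216, nat_lit 324, nat_lit 360, nat_lit 72, nat_lit 108, nat_lit 144, nat_lit 180, nat_lit 216, nat_lit 324, nat_lit 360, nat_lit 72, nat_lit 108, nat_lit 144, nat_lit 180, nat_lit 216, nat_lit 324, nat_lit 360, nat_lit 72])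
noncomputable def r88 : WT := (.leaf (nat_lit 79959) [nat_lit 144, nat_lit 180, nat_lit 216, nat_lit 252, nat_lit 324, nat_lit 72, nat_lit 108, nat_lit 144, nat_lit 180, nat_lit 216, nat_lit 252, nat_lit 324, nat_lit 72, nat_lit 108, nat_lit 144, nat_lit 180, nat_lit 216, nat_lit 252, nat_lit 324, nat_lit 468, nat_lit 72, nat_lit 108, nat_lit 144, nat_lit 180, nat_lit 216, nat_lit 252, nat_lit 324, nat_lit 72, nat_lit 108, nat_lit 144, nat_lit 180, nat_lit 216, nat_lit 252, nat_lit 324, nat_lit 72, nat_lit 108, nat_lit 144, nat_lit 180, nat_lit 216, nat_lit 252, nat_lit 324, nat_lit 72, nat_lit 108, nat_lit 144, nat_lit 180, nat_lit 216, nat_lit 252, nat_lit 324, nat_lit 72, nat_lit 108, nat_lit 144, nat_lit 180, nat_lit 216, nat_lit 252, nat_lit 324, nat_lit 72, nat_lit 108, nat_lit 144, nat_lit 180, nat_lit 216, nat_lit 252, nat_lit 324, nat_lit 72])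
noncomputable def r89 : WT := (.leaf (nat_lit 79898) [nat_lit 72, nat_lit 324, nat_lit 252, nat_lit 216, nat_lit 180, nat_lit 144, nat_lit 108, nat_lit 72, nat_lit 324, nat_lit 252, nat_lit 216, nat_lit 180, nat_lit 144, nat_lit 108, nat_lit 72, nat_lit 324, nat_lit 252, nat_lit 216, nat_lit 180, nat_lit 144, nat_lit 108, nat_lit 72, nat_lit 324, nat_lit 252, nat_lit 216, nat_lit 180, nat_lit 144, nat_lit 108, nat_lit 72, nat_lit 324, nat_lit 252, nat_lit 216, nat_lit 180, nat_lit 144, nat_lit 108, nat_lit 72, nat_lit 324, nat_lit 252, nat_lit 216, nat_lit 180, nat_lit 144, nat_lit 108, nat_lit 72, nat_lit 324, nat_lit 252, nat_lit 216, nat_lit 180, nat_lit 144, nat_lit 108, nat_lit 72, nat_lit 468, nat_lit 324, nat_lit 252, nat_lit 216, nat_lit 180, nat_lit 144, nat_lit 108, nat_lit 72, nat_lit 324, nat_lit 252, nat_lit 216, nat_lit 180, nat_lit 144])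
noncomputable def r90 : WT := (.node (nat_lit 37) (.node (nat_lit 36) r86 r87) (.node (nat_lit 38) r88 r89))
noncomputable def r91 : WT := (.leaf (nat_lit 84056) [nat_lit 144, nat_lit 180, nat_lit 216, nat_lit 324, nat_lit 360, nat_lit 72, nat_lit 108, nat_lit 144, nat_lit 180, nat_lit 216, nat_lit 324, nat_lit 360, nat_lit 72, nat_lit 108, nat_lit 144, nat_lit 180, nat_lit 216, nat_lit 324, nat_lit 360, nat_lit 468, nat_lit 72, nat_lit 108, nat_lit 144, nat_lit 180, nat_lit 216, nat_lit 324, nat_lit 360, nat_lit 72, nat_lit 108, nat_lit 144, nat_lit 180, nat_lit 216, nat_lit 324, nat_lit 360, nat_lit 72, nat_lit 108, nat_lit 144, nat_lit 180, nat_lit 216, nat_lit 324, nat_lit 360, nat_lit 72, nat_lit 108, nat_lit 144, nat_lit 180, nat_lit 216, nat_lit 324, nat_lit 360, nat_lit 72, nat_lit 108, nat_lit 144, nat_lit 180, nat_lit 216, nat_lit 324, nat_lit 360, nat_lit 72, nat_lit 108, nat_lit 144, nat_lit 180, nat_lit 216, nat_lit 324, nat_lit 360, nat_lit 72])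
noncomputable def r92 : WT := (.leaf (nat_lit 80900) [nat_lit 72, nat_lit 432, nat_lit 468, nat_lit 180, nat_lit 216, nat_lit 252, nat_lit 288, nat_lit 396, nat_lit 180, nat_lit 324, nat_lit 360, nat_lit 180, nat_lit 144, nat_lit 108, nat_lit 72, nat_lit 432, nat_lit 468, nat_lit 180, nat_lit 216, nat_lit 252, nat_lit 288, nat_lit 396, nat_lit 180, nat_lit 324, nat_lit 360, nat_lit 180, nat_lit 144, nat_lit 108, nat_lit 72, nat_lit 432, nat_lit 468, nat_lit 180, nat_lit 216, nat_lit 252, nat_lit 288, nat_lit 396, nat_lit 180, nat_lit 324, nat_lit 360, nat_lit 180, nat_lit 144, nat_lit 108, nat_lit 72, nat_lit 432, nat_lit 468, nat_lit 180, nat_lit 216, nat_lit 252, nat_lit 288, nat_lit 396, nat_lit 180, nat_lit 324, nat_lit 360, nat_lit 180, nat_lit 144, nat_lit 108, nat_lit 72, nat_lit 432, nat_lit 468, nat_lit 180, nat_lit 216, nat_lit 252, nat_lit 288, nat_lit 396, nat_lit 180, nat_lit 324, nat_lit 360, nat_lit 180, nat_lit 144, nat_lit 108, nat_lit 72, nat_lit 432, nat_lit 468, nat_lit 180, nat_lit 216,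 nat_lit 252, nat_lit 288, nat_lit 396, nat_lit 180, nat_lit 324, nat_lit 360, nat_lit 180, nat_lit 144, nat_lit 108, nat_lit 72, nat_lit 432, nat_lit 468, nat_lit 180, nat_lit 216, nat_lit 252, nat_lit 288, nat_lit 396, nat_lit 180, nat_lit 324, nat_lit 360, nat_lit 180, nat_lit 144, nat_lit 108, nat_lit 72, nat_lit 432, nat_lit 468, nat_lit 180, nat_lit 216, nat_lit 252, nat_lit 288, nat_lit 396, nat_lit 180, nat_lit 324, nat_lit 360, nat_lit 180, nat_lit 144, nat_lit 108, nat_lit 72, nat_lit 432, nat_lit 468, nat_lit 180, nat_lit 216, nat_lit 252, nat_lit 288, nat_lit 396, nat_lit 180, nat_lit 324, nat_lit 360, nat_lit 180, nat_lit 144, nat_lit 108, nat_lit 72, nat_lit 432, nat_lit 468, nat_lit 180, nat_lit 216, nat_lit 252, nat_lit 288, nat_lit 396, nat_lit 180, nat_lit 324, nat_lit 360, nat_lit 180, nat_lit 144, nat_lit 108, nat_lit 72, nat_lit 432, nat_lit 468, nat_lit 180, nat_lit 216, nat_lit 252, nat_lit 288, nat_lit 396, nat_lit 180, nat_lit 324, nat_lit 360, nat_lit 180, nat_lit 144, nat_lit 108,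 nat_lit 72, nat_lit 432, nat_lit 468, nat_lit 180, nat_lit 216, nat_lit 252, nat_lit 288, nat_lit 396, nat_lit 180, nat_lit 324, nat_lit 360, nat_lit 180, nat_lit 144, nat_lit 108, nat_lit 72, nat_lit 432, nat_lit 468, nat_lit 180, nat_lit 216, nat_lit 252, nat_lit 288, nat_lit 396, nat_lit 180, nat_lit 324, nat_lit 360, nat_lit 180, nat_lit 144, nat_lit 108, nat_lit 72, nat_lit 432, nat_lit 468, nat_lit 180, nat_lit 216, nat_lit 252, nat_lit 288, nat_lit 396, nat_lit 180, nat_lit 324, nat_lit 360, nat_lit 180, nat_lit 144, nat_lit 108, nat_lit 72, nat_lit 432, nat_lit 468, nat_lit 180, nat_lit 216, nat_lit 252, nat_lit 288, nat_lit 396, nat_lit 180, nat_lit 324, nat_lit 360, nat_lit 180, nat_lit 144, nat_lit 108, nat_lit 72, nat_lit 432, nat_lit 468, nat_lit 180, nat_lit 216, nat_lit 252, nat_lit 288, nat_lit 396, nat_lit 180, nat_lit 324, nat_lit 360, nat_lit 180, nat_lit 144, nat_lit 108, nat_lit 72, nat_lit 432, nat_lit 468, nat_lit 180, nat_lit 216, nat_lit 252, nat_lit 288, nat_lit 396, nat_lit 180,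 nat_lit 324, nat_lit 360, nat_lit 180, nat_lit 144])
noncomputable def r93 : WT := (.leaf (nat_lit 84084) [nat_lit 144, nat_lit 180, nat_lit 216, nat_lit 324, nat_lit 360, nat_lit 468, nat_lit 72, nat_lit 108, nat_lit 144, nat_lit 180, nat_lit 216, nat_lit 324, nat_lit 360, nat_lit 72, nat_lit 108, nat_lit 144, nat_lit 180, nat_lit 216, nat_lit 324, nat_lit 360, nat_lit 72, nat_lit 108, nat_lit 144, nat_lit 180, nat_lit 216, nat_lit 324, nat_lit 360, nat_lit 72, nat_lit 108, nat_lit 144, nat_lit 180, nat_lit 216, nat_lit 324, nat_lit 360, nat_lit 72, nat_lit 108, nat_lit 144, nat_lit 180, nat_lit 216, nat_lit 324, nat_lit 360, nat_lit 72, nat_lit 108, nat_lit 144, nat_lit 180, nat_lit 216, nat_lit 324, nat_lit 360, nat_lit 72, nat_lit 108, nat_lit 144, nat_lit 180, nat_lit 216, nat_lit 324, nat_lit 360, nat_lit 72, nat_lit 108, nat_lit 144, nat_lit 180, nat_lit 216, nat_lit 324, nat_lit 360, nat_lit 72])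
noncomputable def r94 : WT := (.leaf (nat_lit 79982) [nat_lit 72, nat_lit 324, nat_lit 252, nat_lit 216, nat_lit 180, nat_lit 144, nat_lit 108, nat_lit 72, nat_lit 468, nat_lit 324, nat_lit 252, nat_lit 216, nat_lit 180, nat_lit 144, nat_lit 108, nat_lit 72, nat_lit 324, nat_lit 252, nat_lit 216, nat_lit 180, nat_lit 144, nat_lit 108, nat_lit 72, nat_lit 324, nat_lit 252, nat_lit 216, nat_lit 180, nat_lit 144, nat_lit 108, nat_lit 72, nat_lit 324, nat_lit 252, nat_lit 216, nat_lit 180, nat_lit 144, nat_lit 108, nat_lit 72, nat_lit 324, nat_lit 252, nat_lit 216, nat_lit 180, nat_lit 144, nat_lit 108, nat_lit 72, nat_lit 324, nat_lit 252, nat_lit 216, nat_lit 180, nat_lit 144, nat_lit 108, nat_lit 72, nat_lit 324, nat_lit 252, nat_lit 216, nat_lit 180, nat_lit 144, nat_lit 108, nat_lit 72, nat_lit 324, nat_lit 252, nat_lit 216, nat_lit 180, nat_lit 144])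
noncomputable def r95 : WT := (.leaf (nat_lit 84035) [nat_lit 72, nat_lit 360, nat_lit 324, nat_lit 216, nat_lit 180, nat_lit 144, nat_lit 108, nat_lit 72, nat_lit 360, nat_lit 324, nat_lit 216, nat_lit 180, nat_lit 144, nat_lit 108, nat_lit 72, nat_lit 360, nat_lit 324, nat_lit 216, nat_lit 180, nat_lit 144, nat_lit 108, nat_lit 72, nat_lit 360, nat_lit 324, nat_lit 216, nat_lit 180, nat_lit 144, nat_lit 108, nat_lit 72, nat_lit 468, nat_lit 360, nat_lit 324, nat_lit 216, nat_lit 180, nat_lit 144, nat_lit 108, nat_lit 72, nat_lit 360, nat_lit 324, nat_lit 216, nat_lit 180, nat_lit 144, nat_lit 108, nat_lit 72, nat_lit 360, nat_lit 324, nat_lit 216, nat_lit 180, nat_lit 144, nat_lit 108, nat_lit 72, nat_lit 360, nat_lit 324, nat_lit 216, nat_lit 180, nat_lit 144, nat_lit 108, nat_lit 72, nat_lit 360, nat_lit 324, nat_lit 216, nat_lit 180, nat_lit 144])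
noncomputable def r96 : WT := (.node (nat_lit 41) (.node (nat_lit 40) r91 r92) (.node (nat_lit 42) r93 (.node (nat_lit 43) r94 r95)))
noncomputable def r97 : WT := (.leaf (nat_lit 84049) [nat_lit 72, nat_lit 360, nat_lit 324, nat_lit 216, nat_lit 180, nat_lit 144, nat_lit 108, nat_lit 72, nat_lit 360, nat_lit 324, nat_lit 216, nat_lit 180, nat_lit 144, nat_lit 108, nat_lit 72, nat_lit 360, nat_lit 324, nat_lit 216, nat_lit 180, nat_lit 144, nat_lit 108, nat_lit 72, nat_lit 468, nat_lit 360, nat_lit 324, nat_lit 216, nat_lit 180, nat_lit 144, nat_lit 108, nat_lit 72, nat_lit 360, nat_lit 324, nat_lit 216, nat_lit 180, nat_lit 144, nat_lit 108, nat_lit 72, nat_lit 360, nat_lit 324, nat_lit 216, nat_lit 180, nat_lit 144, nat_lit 108, nat_lit 72, nat_lit 360, nat_lit 324, nat_lit 216, nat_lit 180, nat_lit 144, nat_lit 108, nat_lit 72, nat_lit 360, nat_lit 324, nat_lit 216, nat_lit 180, nat_lit 144, nat_lit 108, nat_lit 72, nat_lit 360, nat_lit 324, nat_lit 216, nat_lit 180, nat_lit 144])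
noncomputable def r98 : WT := (.leaf (nat_lit 79931) [nat_lit 144, nat_lit 180, nat_lit 216, nat_lit 252, nat_lit 324, nat_lit 72, nat_lit 108, nat_lit 144, nat_lit 180, nat_lit 216, nat_lit 252, nat_lit 324, nat_lit 72, nat_lit 108, nat_lit 144, nat_lit 180, nat_lit 216, nat_lit 252, nat_lit 324, nat_lit 72, nat_lit 108, nat_lit 144, nat_lit 180, nat_lit 216, nat_lit 252, nat_lit 324, nat_lit 72, nat_lit 108, nat_lit 144, nat_lit 180, nat_lit 216, nat_lit 252, nat_lit 324, nat_lit 468, nat_lit 72, nat_lit 108, nat_lit 144, nat_lit 180, nat_lit 216, nat_lit 252, nat_lit 324, nat_lit 72, nat_lit 108, nat_lit 144, nat_lit 180, nat_lit 216, nat_lit 252, nat_lit 324, nat_lit 72, nat_lit 108, nat_lit 144, nat_lit 180, nat_lit 216, nat_lit 252, nat_lit 324, nat_lit 72, nat_lit 108, nat_lit 144, nat_lit 180, nat_lit 216, nat_lit 252, nat_lit 324, nat_lit 72])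
noncomputable def r99 : WT := (.leaf (nat_lit 79926) [nat_lit 72, nat_lit 324, nat_lit 252, nat_lit 216, nat_lit 180, nat_lit 144, nat_lit 108, nat_lit 72, nat_lit 324, nat_lit 252, nat_lit 216, nat_lit 180, nat_lit 144, nat_lit 108, nat_lit 72, nat_lit 324, nat_lit 252, nat_lit 216, nat_lit 180, nat_lit 144, nat_lit 108, nat_lit 72, nat_lit 324, nat_lit 252, nat_lit 216, nat_lit 180, nat_lit 144, nat_lit 108, nat_lit 72, nat_lit 324, nat_lit 252, nat_lit 216, nat_lit 180, nat_lit 144, nat_lit 108, nat_lit 72, nat_lit 468, nat_lit 324, nat_lit 252, nat_lit 216, nat_lit 180, nat_lit 144, nat_lit 108, nat_lit 72, nat_lit 324, nat_lit 252, nat_lit 216, nat_lit 180, nat_lit 144, nat_lit 108, nat_lit 72, nat_lit 324, nat_lit 252, nat_lit 216, nat_lit 180, nat_lit 144, nat_lit 108, nat_lit 72, nat_lit 324, nat_lit 252, nat_lit 216, nat_lit 180, nat_lit 144])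
noncomputable def r100 : WT := (.leaf (nat_lit 84063) [nat_lit 72, nat_lit 360, nat_lit 324, nat_lit 216, nat_lit 180, nat_lit 144, nat_lit 108, nat_lit 72, nat_lit 360, nat_lit 324, nat_lit 216, nat_lit 180, nat_lit 144, nat_lit 108, nat_lit 72, nat_lit 468, nat_lit 360, nat_lit 324, nat_lit 216, nat_lit 180, nat_lit 144, nat_lit 108, nat_lit 72, nat_lit 360, nat_lit 324, nat_lit 216, nat_lit 180, nat_lit 144, nat_lit 108, nat_lit 72, nat_lit 360, nat_lit 324, nat_lit 216, nat_lit 180, nat_lit 144, nat_lit 108, nat_lit 72, nat_lit 360, nat_lit 324, nat_lit 216, nat_lit 180, nat_lit 144, nat_lit 108, nat_lit 72, nat_lit 360, nat_lit 324, nat_lit 216, nat_lit 180, nat_lit 144, nat_lit 108, nat_lit 72, nat_lit 360, nat_lit 324, nat_lit 216, nat_lit 180, nat_lit 144, nat_lit 108, nat_lit 72, nat_lit 360, nat_lit 324, nat_lit 216, nat_lit 180, nat_lit 144])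
noncomputable def r101 : WT := (.leaf (nat_lit 79912) [nat_lit 72, nat_lit 324, nat_lit 252, nat_lit 216, nat_lit 180, nat_lit 144, nat_lit 108, nat_lit 72, nat_lit 324, nat_lit 252, nat_lit 216, nat_lit 180, nat_lit 144, nat_lit 108, nat_lit 72, nat_lit 324, nat_lit 252, nat_lit 216, nat_lit 180, nat_lit 144, nat_lit 108, nat_lit 72, nat_lit 324, nat_lit 252, nat_lit 216, nat_lit 180, nat_lit 144, nat_lit 108, nat_lit 72, nat_lit 324, nat_lit 252, nat_lit 216, nat_lit 180, nat_lit 144, nat_lit 108, nat_lit 72, nat_lit 324, nat_lit 252, nat_lit 216, nat_lit 180, nat_lit 144, nat_lit 108, nat_lit 72, nat_lit 468, nat_lit 324, nat_lit 252, nat_lit 216, nat_lit 180, nat_lit 144, nat_lit 108, nat_lit 72, nat_lit 324, nat_lit 252, nat_lit 216, nat_lit 180, nat_lit 144, nat_lit 108, nat_lit 72, nat_lit 324, nat_lit 252, nat_lit 216, nat_lit 180, nat_lit 144])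
noncomputable def r102 : WT := (.node (nat_lit 46) (.node (nat_lit 45) r97 r98) (.node (nat_lit 47) r99 (.node (nat_lit 48) r100 r101)))
noncomputable def r103 : WT := (.leaf (nat_lit 79945) [nat_lit 144, nat_lit 180, nat_lit 216, nat_lit 252, nat_lit 324, nat_lit 72, nat_lit 108, nat_lit 144, nat_lit 180, nat_lit 216, nat_lit 252, nat_lit 324, nat_lit 72, nat_lit 108, nat_lit 144, nat_lit 180, nat_lit 216, nat_lit 252, nat_lit 324, nat_lit 72, nat_lit 108, nat_lit 144, nat_lit 180, nat_lit 216, nat_lit 252, nat_lit 324, nat_lit 468, nat_lit 72, nat_lit 108, nat_lit 144, nat_lit 180, nat_lit 216, nat_lit 252, nat_lit 324, nat_lit 72, nat_lit 108, nat_lit 144, nat_lit 180, nat_lit 216, nat_lit 252, nat_lit 324, nat_lit 72, nat_lit 108, nat_lit 144, nat_lit 180, nat_lit 216, nat_lit 252, nat_lit 324, nat_lit 72, nat_lit 108, nat_lit 144, nat_lit 180, nat_lit 216, nat_lit 252, nat_lit 324, nat_lit 72, nat_lit 108, nat_lit 144, nat_lit 180, nat_lit 216, nat_lit 252, nat_lit 324, nat_lit 72])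
noncomputable def r104 : WT := (.leaf (nat_lit 84021) [nat_lit 72, nat_lit 360, nat_lit 324, nat_lit 216, nat_lit 180, nat_lit 144, nat_lit 108, nat_lit 72, nat_lit 360, nat_lit 324, nat_lit 216, nat_lit 180, nat_lit 144, nat_lit 108, nat_lit 72, nat_lit 360, nat_lit 324, nat_lit 216, nat_lit 180, nat_lit 144, nat_lit 108, nat_lit 72, nat_lit 360, nat_lit 324, nat_lit 216, nat_lit 180, nat_lit 144, nat_lit 108, nat_lit 72, nat_lit 360, nat_lit 324, nat_lit 216, nat_lit 180, nat_lit 144, nat_lit 108, nat_lit 72, nat_lit 468, nat_lit 360, nat_lit 324, nat_lit 216, nat_lit 180, nat_lit 144, nat_lit 108, nat_lit 72, nat_lit 360, nat_lit 324, nat_lit 216, nat_lit 180, nat_lit 144, nat_lit 108, nat_lit 72, nat_lit 360, nat_lit 324, nat_lit 216, nat_lit 180, nat_lit 144, nat_lit 108, nat_lit 72, nat_lit 360, nat_lit 324, nat_lit 216, nat_lit 180, nat_lit 144])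
noncomputable def r105 : WT := (.leaf (nat_lit 79954) [nat_lit 72, nat_lit 324, nat_lit 252, nat_lit 216, nat_lit 180, nat_lit 144, nat_lit 108, nat_lit 72, nat_lit 324, nat_lit 252, nat_lit 216, nat_lit 180, nat_lit 144, nat_lit 108, nat_lit 72, nat_lit 324, nat_lit 252, nat_lit 216, nat_lit 180, nat_lit 144, nat_lit 108, nat_lit 72, nat_lit 468, nat_lit 324, nat_lit 252, nat_lit 216, nat_lit 180, nat_lit 144, nat_lit 108, nat_lit 72, nat_lit 324, nat_lit 252, nat_lit 216, nat_lit 180, nat_lit 144, nat_lit 108, nat_lit 72, nat_lit 324, nat_lit 252, nat_lit 216, nat_lit 180, nat_lit 144, nat_lit 108, nat_lit 72, nat_lit 324, nat_lit 252, nat_lit 216, nat_lit 180, nat_lit 144, nat_lit 108, nat_lit 72, nat_lit 324, nat_lit 252, nat_lit 216, nat_lit 180, nat_lit 144, nat_lit 108, nat_lit 72, nat_lit 324, nat_lit 252, nat_lit 216, nat_lit 180, nat_lit 144])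
noncomputable def r106 : WT := (.leaf (nat_lit 84077) [nat_lit 72, nat_lit 360, nat_lit 324, nat_lit 216, nat_lit 180, nat_lit 144, nat_lit 108, nat_lit 72, nat_lit 468, nat_lit 360, nat_lit 324, nat_lit 216, nat_lit 180, nat_lit 144, nat_lit 108, nat_lit 72, nat_lit 360, nat_lit 324, nat_lit 216, nat_lit 180, nat_lit 144, nat_lit 108, nat_lit 72, nat_lit 360, nat_lit 324, nat_lit 216, nat_lit 180, nat_lit 144, nat_lit 108, nat_lit 72, nat_lit 360, nat_lit 324, nat_lit 216, nat_lit 180, nat_lit 144, nat_lit 108, nat_lit 72, nat_lit 360, nat_lit 324, nat_lit 216, nat_lit 180, nat_lit 144, nat_lit 108, nat_lit 72, nat_lit 360, nat_lit 324, nat_lit 216, nat_lit 180, nat_lit 144, nat_lit 108, nat_lit 72, nat_lit 360, nat_lit 324, nat_lit 216, nat_lit 180, nat_lit 144, nat_lit 108, nat_lit 72, nat_lit 360, nat_lit 324, nat_lit 216, nat_lit 180, nat_lit 144])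
noncomputable def r107 : WT := (.leaf (nat_lit 84007) [nat_lit 72, nat_lit 360, nat_lit 324, nat_lit 216, nat_lit 180, nat_lit 144, nat_lit 108, nat_lit 72, nat_lit 360, nat_lit 324, nat_lit 216, nat_lit 180, nat_lit 144, nat_lit 108, nat_lit 72, nat_lit 360, nat_lit 324, nat_lit 216, nat_lit 180, nat_lit 144, nat_lit 108, nat_lit 72, nat_lit 360, nat_lit 324, nat_lit 216, nat_lit 180, nat_lit 144, nat_lit 108, nat_lit 72, nat_lit 360, nat_lit 324, nat_lit 216, nat_lit 180, nat_lit 144, nat_lit 108, nat_lit 72, nat_lit 360, nat_lit 324, nat_lit 216, nat_lit 180, nat_lit 144, nat_lit 108, nat_lit 72, nat_lit 468, nat_lit 360, nat_lit 324, nat_lit 216, nat_lit 180, nat_lit 144, nat_lit 108, nat_lit 72, nat_lit 360, nat_lit 324, nat_lit 216, nat_lit 180, nat_lit 144, nat_lit 108, nat_lit 72, nat_lit 360, nat_lit 324, nat_lit 216, nat_lit 180, nat_lit 144])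
noncomputable def r108 : WT := (.leaf (nat_lit 84000) [nat_lit 144, nat_lit 180, nat_lit 216, nat_lit 324, nat_lit 360, nat_lit 72, nat_lit 108, nat_lit 144, nat_lit 180, nat_lit 216, nat_lit 324, nat_lit 360, nat_lit 72, nat_lit 108, nat_lit 144, nat_lit 180, nat_lit 216, nat_lit 324, nat_lit 360, nat_lit 72, nat_lit 108, nat_lit 144, nat_lit 180, nat_lit 216, nat_lit 324, nat_lit 360, nat_lit 72, nat_lit 108, nat_lit 144, nat_lit 180, nat_lit 216, nat_lit 324, nat_lit 360, nat_lit 72, nat_lit 108, nat_lit 144, nat_lit 180, nat_lit 216, nat_lit 324, nat_lit 360, nat_lit 72, nat_lit 108, nat_lit 144, nat_lit 180, nat_lit 216, nat_lit 324, nat_lit 360, nat_lit 468, nat_lit 72, nat_lit 108, nat_lit 144, nat_lit 180, nat_lit 216, nat_lit 324, nat_lit 360, nat_lit 72, nat_lit 108, nat_lit 144, nat_lit 180, nat_lit 216, nat_lit 324, nat_lit 360, nat_lit 72])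
noncomputable def r109 : WT := (.leaf (nat_lit 84042) [nat_lit 144, nat_lit 180, nat_lit 216, nat_lit 324, nat_lit 360, nat_lit 72, nat_lit 108, nat_lit 144, nat_lit 180, nat_lit 216, nat_lit 324, nat_lit 360, nat_lit 72, nat_lit 108, nat_lit 144, nat_lit 180, nat_lit 216, nat_lit 324, nat_lit 360, nat_lit 72, nat_lit 108, nat_lit 144, nat_lit 180, nat_lit 216, nat_lit 324, nat_lit 360, nat_lit 468, nat_lit 72, nat_lit 108, nat_lit 144, nat_lit 180, nat_lit 216, nat_lit 324, nat_lit 360, nat_lit 72, nat_lit 108, nat_lit 144, nat_lit 180, nat_lit 216, nat_lit 324, nat_lit 360, nat_lit 72, nat_lit 108, nat_lit 144, nat_lit 180, nat_lit 216, nat_lit 324, nat_lit 360, nat_lit 72, nat_lit 108, nat_lit 144, nat_lit 180, nat_lit 216, nat_lit 324, nat_lit 360, nat_lit 72, nat_lit 108, nat_lit 144, nat_lit 180, nat_lit 216, nat_lit 324, nat_lit 360, nat_lit 72])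
noncomputable def r110 : WT := (.node (nat_lit 52) (.node (nat_lit 50) r103 (.node (nat_lit 51) r104 r105)) (.node (nat_lit 54) (.node (nat_lit 53) r106 r107) (.node (nat_lit 55) r108 r109)))
noncomputable def r111 : WT := (.node (nat_lit 24) (.node (nat_lit 21) (.node (nat_lit 20) r67 r68) (.node (nat_lit 22) r69 (.node (nat_lit 23) r70 r71))) (.node (nat_lit 35) (.node (nat_lit 28) (.node (nat_lit 25) r72 r76) (.node (nat_lit 31) r80 r85)) (.node (nat_lit 44) (.node (nat_lit 39) r90 r96) (.node (nat_lit 49) r102 r110))))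
noncomputable def r112 : WT := (.node (nat_lit 11) (.node (nat_lit 10) (.leaf (nat_lit 33794) [nat_lit 72, nat_lit 108, nat_lit 72, nat_lit 108, nat_lit 72]) (.leaf (nat_lit 45056) [nat_lit 216, nat_lit 108, nat_lit 216])) (.node (nat_lit 12) (.leaf (nat_lit 43008) [nat_lit 144, nat_lit 108, nat_lit 144, nat_lit 108, nat_lit 144]) (.node (nat_lit 15) (.node (nat_lit 13) r58 r61) (.node (nat_lit 19) r66 r111))))
noncomputable def w1 : WT := (.node (nat_lit 1) (.leaf (nat_lit 1024) [nat_lit 108]) (.node (nat_lit 4) (.node (nat_lit 2) (.leaf (nat_lit 50176) [nat_lit 360, nat_lit 108, nat_lit 360]) (.node (nat_lit 3) (.leaf (nat_lit 49152) [nat_lit 324, nat_lit 108, nat_lit 324]) (.leaf (nat_lit 48128) [nat_lit 396, nat_lit 108, nat_lit 396]))) (.node (nat_lit 7) (.node (nat_lit 5) (.leaf (nat_lit 24578) [nat_lit 432, nat_lit 108, nat_lit 432]) r56) (.node (nat_lit 9) r57 r112))))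
noncomputable def r113 : WT := (.node (nat_lit 6) (.leaf (nat_lit 15362) [nat_lit 468, nat_lit 144, nat_lit 468]) (.leaf (nat_lit 54272) [nat_lit 288, nat_lit 144, nat_lit 288]))
noncomputable def r114 : WT := (.node (nat_lit 8) (.leaf (nat_lit 34818) [nat_lit 72, nat_lit 144, nat_lit 72]) (.leaf (nat_lit 53248) [nat_lit 252, nat_lit 144, nat_lit 252]))
noncomputable def r115 : WT := (.leaf (nat_lit 79877) [nat_lit 180, nat_lit 216, nat_lit 252, nat_lit 324, nat_lit 72, nat_lit 108, nat_lit 144, nat_lit 180, nat_lit 216, nat_lit 252, nat_lit 324, nat_lit 72, nat_lit 108, nat_lit 144, nat_lit 180, nat_lit 216, nat_lit 252, nat_lit 324, nat_lit 72, nat_lit 108, nat_lit 144, nat_lit 180, nat_lit 216, nat_lit 252, nat_lit 324, nat_lit 72, nat_lit 108, nat_lit 144, nat_lit 180, nat_lit 216, nat_lit 252, nat_lit 324, nat_lit 72, nat_lit 108, nat_lit 144, nat_lit 180, nat_lit 216, nat_lit 252, nat_lit 324, nat_lit 72, nat_lit 108, nat_lit 144, nat_lit 180, nat_lit 216, nat_lit 252, nat_lit 324, nat_lit 72, nat_lit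 108, nat_lit 144, nat_lit 180, nat_lit 216, nat_lit 252, nat_lit 324, nat_lit 72, nat_lit 108, nat_lit 144, nat_lit 180, nat_lit 216, nat_lit 252, nat_lit 324, nat_lit 468, nat_lit 72, nat_lit 108])
noncomputable def r116 : WT := (.leaf (nat_lit 79882) [nat_lit 108, nat_lit 72, nat_lit 324, nat_lit 252, nat_lit 216, nat_lit 180, nat_lit 144, nat_lit 108, nat_lit 72, nat_lit 324, nat_lit 252, nat_lit 216, nat_lit 180, nat_lit 144, nat_lit 108, nat_lit 72, nat_lit 324, nat_lit 252, nat_lit 216, nat_lit 180, nat_lit 144, nat_lit 108, nat_lit 72, nat_lit 324, nat_lit 252, nat_lit 216, nat_lit 180, nat_lit 144, nat_lit 108, nat_lit 72, nat_lit 324, nat_lit 252, nat_lit 216, nat_lit 180, nat_lit 144, nat_lit 108, nat_lit 72, nat_lit 324, nat_lit 252, nat_lit 216, nat_lit 180, nat_lit 144, nat_lit 108, nat_lit 72, nat_lit 324, nat_lit 252, nat_lit 216, nat_lit 180, nat_lit 144, nat_lit 108, nat_lit 72, nat_lit 324, nat_lit 252, nat_lit 216, nat_lit 180, nat_lit 144, nat_lit 108, nat_lit 72, nat_lit 468, nat_lit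 324, nat_lit 252, nat_lit 216, nat_lit 180])
noncomputable def r117 : WT := (.leaf (nat_lit 83977) [nat_lit 108, nat_lit 72, nat_lit 360, nat_lit 324, nat_lit 216, nat_lit 180, nat_lit 144, nat_lit 108, nat_lit 72, nat_lit 360, nat_lit 324, nat_lit 216, nat_lit 180, nat_lit 144, nat_lit 108, nat_lit 72, nat_lit 360, nat_lit 324, nat_lit 216, nat_lit 180, nat_lit 144, nat_lit 108, nat_lit 72, nat_lit 360, nat_lit 324, nat_lit 216, nat_lit 180, nat_lit 144, nat_lit 108, nat_lit 72, nat_lit 360, nat_lit 324, nat_lit 216, nat_lit 180, nat_lit 144, nat_lit 108, nat_lit 72, nat_lit 360, nat_lit 324, nat_lit 216, nat_lit 180, nat_lit 144, nat_lit 108, nat_lit 72, nat_lit 360, nat_lit 324, nat_lit 216, nat_lit 180, nat_lit 144, nat_lit 108, nat_lit 72, nat_lit 360, nat_lit 324, nat_lit 216, nat_lit 180, nat_lit 144, nat_lit 108, nat_lit 72, nat_lit 468, nat_lit 360, nat_lit 324, nat_lit 216, nat_lit 180])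
noncomputable def r118 : WT := (.node (nat_lit 14) r116 r117)
noncomputable def r119 : WT := (.leaf (nat_lit 83974) [nat_lit 180, nat_lit 216, nat_lit 324, nat_lit 360, nat_lit 72, nat_lit 108, nat_lit 144, nat_lit 180, nat_lit 216, nat_lit 324, nat_lit 360, nat_lit 72, nat_lit 108, nat_lit 144, nat_lit 180, nat_lit 216, nat_lit 324, nat_lit 360, nat_lit 72, nat_lit 108, nat_lit 144, nat_lit 180, nat_lit 216, nat_lit 324, nat_lit 360, nat_lit 72, nat_lit 108, nat_lit 144, nat_lit 180, nat_lit 216, nat_lit 324, nat_lit 360, nat_lit 72, nat_lit 108, nat_lit 144, nat_lit 180, nat_lit 216, nat_lit 324, nat_lit 360, nat_lit 72, nat_lit 108, nat_lit 144, nat_lit 180, nat_lit 216, nat_lit 324, nat_lit 360, nat_lit 72, nat_lit 108, nat_lit 144, nat_lit 180, nat_lit 216, nat_lit 324, nat_lit 360, nat_lit 72, nat_lit 108, nat_lit 144, nat_lit 180, nat_lit 216, nat_lit 324, nat_lit 360, nat_lit 468, nat_lit 72, nat_lit 108])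
noncomputable def r120 : WT := (.leaf (nat_lit 85007) [nat_lit 180, nat_lit 360, nat_lit 324, nat_lit 180, nat_lit 252, nat_lit 216, nat_lit 180, nat_lit 108, nat_lit 144, nat_lit 180, nat_lit 360, nat_lit 324, nat_lit 180, nat_lit 252, nat_lit 216, nat_lit 180, nat_lit 108, nat_lit 144, nat_lit 180, nat_lit 360, nat_lit 324, nat_lit 180, nat_lit 252, nat_lit 216, nat_lit 180, nat_lit 108, nat_lit 144, nat_lit 180, nat_lit 360, nat_lit 324, nat_lit 180, nat_lit 252, nat_lit 216, nat_lit 180, nat_lit 108, nat_lit 144, nat_lit 180, nat_lit 360, nat_lit 324, nat_lit 180, nat_lit 252, nat_lit 216, nat_lit 180, nat_lit 108, nat_lit 144, nat_lit 180, nat_lit 360, nat_lit 324, nat_lit 180, nat_lit 252, nat_lit 216, nat_lit 180, nat_lit 108, nat_lit 144, nat_lit 180, nat_lit 360, nat_lit 324, nat_lit 180, nat_lit 252, nat_lit 216, nat_lit 180, nat_lit 108, nat_lit 144, nat_lit 180, nat_lit 360, nat_lit 324, nat_lit 180, nat_lit 252, nat_lit 216, nat_lit 180, nat_lit 108, nat_lit 144, nat_lit 180, nat_lit 360, nat_lit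 324, nat_lit 180, nat_lit 252, nat_lit 216, nat_lit 180, nat_lit 108, nat_lit 144, nat_lit 180, nat_lit 360, nat_lit 324, nat_lit 180, nat_lit 252, nat_lit 216, nat_lit 180, nat_lit 108])
noncomputable def r121 : WT := (.leaf (nat_lit 82953) [nat_lit 108, nat_lit 72, nat_lit 432, nat_lit 360, nat_lit 324, nat_lit 216, nat_lit 180, nat_lit 144, nat_lit 108, nat_lit 72, nat_lit 432, nat_lit 360, nat_lit 324, nat_lit 216, nat_lit 180, nat_lit 144, nat_lit 108, nat_lit 72, nat_lit 432, nat_lit 360, nat_lit 324, nat_lit 216, nat_lit 180, nat_lit 144, nat_lit 108, nat_lit 72, nat_lit 432, nat_lit 360, nat_lit 324, nat_lit 216, nat_lit 180, nat_lit 144, nat_lit 108, nat_lit 72, nat_lit 432, nat_lit 360, nat_lit 324, nat_lit 216, nat_lit 180, nat_lit 144, nat_lit 108, nat_lit 72, nat_lit 432, nat_lit 360, nat_lit 324, nat_lit 216, nat_lit 180, nat_lit 144, nat_lit 108, nat_lit 72, nat_lit 432, nat_lit 360, nat_lit 324, nat_lit 216, nat_lit 180, nat_lit 144, nat_lit 108, nat_lit 72, nat_lit 432, nat_lit 360, nat_lit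 324, nat_lit 216, nat_lit 180, nat_lit 144, nat_lit 108, nat_lit 72, nat_lit 432, nat_lit 360, nat_lit 324, nat_lit 216, nat_lit 180, nat_lit 144, nat_lit 108, nat_lit 72, nat_lit 432, nat_lit 360, nat_lit 324, nat_lit 216, nat_lit 180, nat_lit 144, nat_lit 108, nat_lit 72, nat_lit 432, nat_lit 360, nat_lit 324, nat_lit 216, nat_lit 180, nat_lit 144, nat_lit 108, nat_lit 72, nat_lit 432, nat_lit 360, nat_lit 324, nat_lit 216, nat_lit 180, nat_lit 144, nat_lit 108, nat_lit 72, nat_lit 432, nat_lit 360, nat_lit 324, nat_lit 216, nat_lit 180, nat_lit 144, nat_lit 108, nat_lit 72, nat_lit 432, nat_lit 360, nat_lit 324, nat_lit 216, nat_lit 180, nat_lit 144, nat_lit 108, nat_lit 72, nat_lit 432, nat_lit 360, nat_lit 324, nat_lit 216, nat_lit 180])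
noncomputable def r122 : WT := (.node (nat_lit 16) r119 (.node (nat_lit 17) r120 r121))
noncomputable def r123 : WT := (.leaf (nat_lit 79891) [nat_lit 180, nat_lit 216, nat_lit 252, nat_lit 324, nat_lit 72, nat_lit 108, nat_lit 144, nat_lit 180, nat_lit 216, nat_lit 252, nat_lit 324, nat_lit 72, nat_lit 108, nat_lit 144, nat_lit 180, nat_lit 216, nat_lit 252, nat_lit 324, nat_lit 72, nat_lit 108, nat_lit 144, nat_lit 180, nat_lit 216, nat_lit 252, nat_lit 324, nat_lit 72, nat_lit 108, nat_lit 144, nat_lit 180, nat_lit 216, nat_lit 252, nat_lit 324, nat_lit 72, nat_lit 108, nat_lit 144, nat_lit 180, nat_lit 216, nat_lit 252, nat_lit 324, nat_lit 72, nat_lit 108, nat_lit 144, nat_lit 180, nat_lit 216, nat_lit 252, nat_lit 324, nat_lit 72, nat_lit 108, nat_lit 144, nat_lit 180, nat_lit 216, nat_lit 252, nat_lit 324, nat_lit 468, nat_lit 72, nat_lit 108, nat_lit 144, nat_lit 180, nat_lit 216, nat_lit 252, nat_lit 324, nat_lit 72, nat_lit 108])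
noncomputable def r124 : WT := (.leaf (nat_lit 84994) [nat_lit 108, nat_lit 180, nat_lit 216, nat_lit 252, nat_lit 180, nat_lit 324, nat_lit 360, nat_lit 180, nat_lit 144, nat_lit 108, nat_lit 180, nat_lit 216, nat_lit 252, nat_lit 180, nat_lit 324, nat_lit 360, nat_lit 180, nat_lit 144, nat_lit 108, nat_lit 180, nat_lit 216, nat_lit 252, nat_lit 180, nat_lit 324, nat_lit 360, nat_lit 180, nat_lit 144, nat_lit 108, nat_lit 180, nat_lit 216, nat_lit 252, nat_lit 180, nat_lit 324, nat_lit 360, nat_lit 180, nat_lit 144, nat_lit 108, nat_lit 180, nat_lit 216, nat_lit 252, nat_lit 180, nat_lit 324, nat_lit 360, nat_lit 180, nat_lit 144, nat_lit 108, nat_lit 180, nat_lit 216, nat_lit 252, nat_lit 180, nat_lit 324, nat_lit 360, nat_lit 180, nat_lit 144, nat_lit 108, nat_lit 180, nat_lit 216, nat_lit 252, nat_lit 180, nat_lit 324, nat_lit 360, nat_lit 180, nat_lit 144, nat_lit 108, nat_lit 180, nat_lit 216, nat_lit 252, nat_lit 180, nat_lit 324, nat_lit 360, nat_lit 180, nat_lit 144, nat_lit 108, nat_lit 180, nat_lit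 216, nat_lit 252, nat_lit 180, nat_lit 324, nat_lit 360, nat_lit 180, nat_lit 144, nat_lit 108, nat_lit 180, nat_lit 216, nat_lit 252, nat_lit 180, nat_lit 324, nat_lit 360, nat_lit 180])
noncomputable def r125 : WT := (.leaf (nat_lit 83988) [nat_lit 180, nat_lit 216, nat_lit 324, nat_lit 360, nat_lit 72, nat_lit 108, nat_lit 144, nat_lit 180, nat_lit 216, nat_lit 324, nat_lit 360, nat_lit 72, nat_lit 108, nat_lit 144, nat_lit 180, nat_lit 216, nat_lit 324, nat_lit 360, nat_lit 72, nat_lit 108, nat_lit 144, nat_lit 180, nat_lit 216, nat_lit 324, nat_lit 360, nat_lit 72, nat_lit 108, nat_lit 144, nat_lit 180, nat_lit 216, nat_lit 324, nat_lit 360, nat_lit 72, nat_lit 108, nat_lit 144, nat_lit 180, nat_lit 216, nat_lit 324, nat_lit 360, nat_lit 72, nat_lit 108, nat_lit 144, nat_lit 180, nat_lit 216, nat_lit 324, nat_lit 360, nat_lit 72, nat_lit 108, nat_lit 144, nat_lit 180, nat_lit 216, nat_lit 324, nat_lit 360, nat_lit 468, nat_lit 72, nat_lit 108, nat_lit 144, nat_lit 180, nat_lit 216, nat_lit 324, nat_lit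 360, nat_lit 72, nat_lit 108])
noncomputable def r126 : WT := (.leaf (nat_lit 82950) [nat_lit 180, nat_lit 216, nat_lit 324, nat_lit 360, nat_lit 432, nat_lit 72, nat_lit 108, nat_lit 144, nat_lit 180, nat_lit 216, nat_lit 324, nat_lit 360, nat_lit 432, nat_lit 72, nat_lit 108, nat_lit 144, nat_lit 180, nat_lit 216, nat_lit 324, nat_lit 360, nat_lit 432, nat_lit 72, nat_lit 108, nat_lit 144, nat_lit 180, nat_lit 216, nat_lit 324, nat_lit 360, nat_lit 432, nat_lit 72, nat_lit 108, nat_lit 144, nat_lit 180, nat_lit 216, nat_lit 324, nat_lit 360, nat_lit 432, nat_lit 72, nat_lit 108, nat_lit 144, nat_lit 180, nat_lit 216, nat_lit 324, nat_lit 360, nat_lit 432, nat_lit 72, nat_lit 108, nat_lit 144, nat_lit 180, nat_lit 216, nat_lit 324, nat_lit 360, nat_lit 432, nat_lit 72, nat_lit 108, nat_lit 144, nat_lit 180, nat_lit 216, nat_lit 324, nat_lit 360, nat_lit 432, nat_lit 72, nat_lit 108, nat_lit 144, nat_lit 180, nat_lit 216, nat_lit 324, nat_lit 360, nat_lit 432, nat_lit 72, nat_lit 108, nat_lit 144, nat_lit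 180, nat_lit 216, nat_lit 324, nat_lit 360, nat_lit 432, nat_lit 72, nat_lit 108, nat_lit 144, nat_lit 180, nat_lit 216, nat_lit 324, nat_lit 360, nat_lit 432, nat_lit 72, nat_lit 108, nat_lit 144, nat_lit 180, nat_lit 216, nat_lit 324, nat_lit 360, nat_lit 432, nat_lit 72, nat_lit 108, nat_lit 144, nat_lit 180, nat_lit 216, nat_lit 324, nat_lit 360, nat_lit 432, nat_lit 72, nat_lit 108, nat_lit 144, nat_lit 180, nat_lit 216, nat_lit 324, nat_lit 360, nat_lit 432, nat_lit 72, nat_lit 108, nat_lit 144, nat_lit 180, nat_lit 216, nat_lit 324, nat_lit 360, nat_lit 432, nat_lit 72, nat_lit 108])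
noncomputable def r127 : WT := (.leaf (nat_lit 81929) [nat_lit 108, nat_lit 72, nat_lit 432, nat_lit 324, nat_lit 252, nat_lit 216, nat_lit 180, nat_lit 144, nat_lit 108, nat_lit 72, nat_lit 432, nat_lit 324, nat_lit 252, nat_lit 216, nat_lit 180, nat_lit 144, nat_lit 108, nat_lit 72, nat_lit 432, nat_lit 324, nat_lit 252, nat_lit 216, nat_lit 180, nat_lit 144, nat_lit 108, nat_lit 72, nat_lit 432, nat_lit 324, nat_lit 252, nat_lit 216, nat_lit 180, nat_lit 144, nat_lit 108, nat_lit 72, nat_lit 432, nat_lit 324, nat_lit 252, nat_lit 216, nat_lit 180, nat_lit 144, nat_lit 108, nat_lit 72, nat_lit 432, nat_lit 324, nat_lit 252, nat_lit 216, nat_lit 180, nat_lit 144, nat_lit 108, nat_lit 72, nat_lit 432, nat_lit 324, nat_lit 252, nat_lit 216, nat_lit 180, nat_lit 144, nat_lit 108, nat_lit 72, nat_lit 432, nat_lit 324, nat_lit 252, nat_lit 216, nat_lit 180, nat_lit 144, nat_lit 108, nat_lit 72, nat_lit 432, nat_lit 324, nat_lit 252, nat_lit 216, nat_lit 180, nat_lit 144, nat_lit 108, nat_lit 72, nat_lit 432,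 nat_lit 324, nat_lit 252, nat_lit 216, nat_lit 180, nat_lit 144, nat_lit 108, nat_lit 72, nat_lit 432, nat_lit 324, nat_lit 252, nat_lit 216, nat_lit 180, nat_lit 144, nat_lit 108, nat_lit 72, nat_lit 432, nat_lit 324, nat_lit 252, nat_lit 216, nat_lit 180, nat_lit 144, nat_lit 108, nat_lit 72, nat_lit 432, nat_lit 324, nat_lit 252, nat_lit 216, nat_lit 180, nat_lit 144, nat_lit 108, nat_lit 72, nat_lit 432, nat_lit 324, nat_lit 252, nat_lit 216, nat_lit 180, nat_lit 144, nat_lit 108, nat_lit 72, nat_lit 432, nat_lit 324, nat_lit 252, nat_lit 216, nat_lit 180])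
noncomputable def r128 : WT := (.leaf (nat_lit 81926) [nat_lit 180, nat_lit 216, nat_lit 252, nat_lit 324, nat_lit 432, nat_lit 72, nat_lit 108, nat_lit 144, nat_lit 180, nat_lit 216, nat_lit 252, nat_lit 324, nat_lit 432, nat_lit 72, nat_lit 108, nat_lit 144, nat_lit 180, nat_lit 216, nat_lit 252, nat_lit 324, nat_lit 432, nat_lit 72, nat_lit 108, nat_lit 144, nat_lit 180, nat_lit 216, nat_lit 252, nat_lit 324, nat_lit 432, nat_lit 72, nat_lit 108, nat_lit 144, nat_lit 180, nat_lit 216, nat_lit 252, nat_lit 324, nat_lit 432, nat_lit 72, nat_lit 108, nat_lit 144, nat_lit 180, nat_lit 216, nat_lit 252, nat_lit 324, nat_lit 432, nat_lit 72, nat_lit 108, nat_lit 144, nat_lit 180, nat_lit 216, nat_lit 252, nat_lit 324, nat_lit 432, nat_lit 72, nat_lit 108, nat_lit 144, nat_lit 180, nat_lit 216, nat_lit 252, nat_lit 324, nat_lit 432, nat_lit 72, nat_lit 108, nat_lit 144, nat_lit 180, nat_lit 216, nat_lit 252, nat_lit 324, nat_lit 432, nat_lit 72, nat_lit 108, nat_lit 144, nat_lit 180, nat_lit 216, nat_lit 252,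 nat_lit 324, nat_lit 432, nat_lit 72, nat_lit 108, nat_lit 144, nat_lit 180, nat_lit 216, nat_lit 252, nat_lit 324, nat_lit 432, nat_lit 72, nat_lit 108, nat_lit 144, nat_lit 180, nat_lit 216, nat_lit 252, nat_lit 324, nat_lit 432, nat_lit 72, nat_lit 108, nat_lit 144, nat_lit 180, nat_lit 216, nat_lit 252, nat_lit 324, nat_lit 432, nat_lit 72, nat_lit 108, nat_lit 144, nat_lit 180, nat_lit 216, nat_lit 252, nat_lit 324, nat_lit 432, nat_lit 72, nat_lit 108, nat_lit 144, nat_lit 180, nat_lit 216, nat_lit 252, nat_lit 324, nat_lit 432, nat_lit 72, nat_lit 108])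
noncomputable def r129 : WT := (.leaf (nat_lit 80921) [nat_lit 180, nat_lit 360, nat_lit 324, nat_lit 180, nat_lit 396, nat_lit 288, nat_lit 252, nat_lit 216, nat_lit 180, nat_lit 468, nat_lit 432, nat_lit 72, nat_lit 108, nat_lit 144, nat_lit 180, nat_lit 360, nat_lit 324, nat_lit 180, nat_lit 396, nat_lit 288, nat_lit 252, nat_lit 216, nat_lit 180, nat_lit 468, nat_lit 432, nat_lit 72, nat_lit 108, nat_lit 144, nat_lit 180, nat_lit 360, nat_lit 324, nat_lit 180, nat_lit 396, nat_lit 288, nat_lit 252, nat_lit 216, nat_lit 180, nat_lit 468, nat_lit 432, nat_lit 72, nat_lit 108, nat_lit 144, nat_lit 180, nat_lit 360, nat_lit 324, nat_lit 180, nat_lit 396, nat_lit 288, nat_lit 252, nat_lit 216, nat_lit 180, nat_lit 468, nat_lit 432, nat_lit 72, nat_lit 108, nat_lit 144, nat_lit 180, nat_lit 360, nat_lit 324, nat_lit 180, nat_lit 396, nat_lit 288, nat_lit 252, nat_lit 216, nat_lit 180, nat_lit 468, nat_lit 432, nat_lit 72, nat_lit 108, nat_lit 144, nat_lit 180, nat_lit 360, nat_lit 324, nat_lit 180, nat_lit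 396, nat_lit 288, nat_lit 252, nat_lit 216, nat_lit 180, nat_lit 468, nat_lit 432, nat_lit 72, nat_lit 108, nat_lit 144, nat_lit 180, nat_lit 360, nat_lit 324, nat_lit 180, nat_lit 396, nat_lit 288, nat_lit 252, nat_lit 216, nat_lit 180, nat_lit 468, nat_lit 432, nat_lit 72, nat_lit 108, nat_lit 144, nat_lit 180, nat_lit 360, nat_lit 324, nat_lit 180, nat_lit 396, nat_lit 288, nat_lit 252, nat_lit 216, nat_lit 180, nat_lit 468, nat_lit 432, nat_lit 72, nat_lit 108, nat_lit 144, nat_lit 180, nat_lit 360, nat_lit 324, nat_lit 180, nat_lit 396, nat_lit 288, nat_lit 252, nat_lit 216, nat_lit 180, nat_lit 468, nat_lit 432, nat_lit 72, nat_lit 108, nat_lit 144, nat_lit 180, nat_lit 360, nat_lit 324, nat_lit 180, nat_lit 396, nat_lit 288, nat_lit 252, nat_lit 216, nat_lit 180, nat_lit 468, nat_lit 432, nat_lit 72, nat_lit 108, nat_lit 144, nat_lit 180, nat_lit 360, nat_lit 324, nat_lit 180, nat_lit 396, nat_lit 288, nat_lit 252, nat_lit 216, nat_lit 180, nat_lit 468, nat_lit 432, nat_lit 72, nat_lit 108, nat_lit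 144, nat_lit 180, nat_lit 360, nat_lit 324, nat_lit 180, nat_lit 396, nat_lit 288, nat_lit 252, nat_lit 216, nat_lit 180, nat_lit 468, nat_lit 432, nat_lit 72, nat_lit 108, nat_lit 144, nat_lit 180, nat_lit 360, nat_lit 324, nat_lit 180, nat_lit 396, nat_lit 288, nat_lit 252, nat_lit 216, nat_lit 180, nat_lit 468, nat_lit 432, nat_lit 72, nat_lit 108, nat_lit 144, nat_lit 180, nat_lit 360, nat_lit 324, nat_lit 180, nat_lit 396, nat_lit 288, nat_lit 252, nat_lit 216, nat_lit 180, nat_lit 468, nat_lit 432, nat_lit 72, nat_lit 108, nat_lit 144, nat_lit 180, nat_lit 360, nat_lit 324, nat_lit 180, nat_lit 396, nat_lit 288, nat_lit 252, nat_lit 216, nat_lit 180, nat_lit 468, nat_lit 432, nat_lit 72, nat_lit 108, nat_lit 144, nat_lit 180, nat_lit 360, nat_lit 324, nat_lit 180, nat_lit 396, nat_lit 288, nat_lit 252, nat_lit 216, nat_lit 180, nat_lit 468, nat_lit 432, nat_lit 72, nat_lit 108, nat_lit 144, nat_lit 180, nat_lit 360, nat_lit 324, nat_lit 180, nat_lit 396, nat_lit 288, nat_lit 252, nat_lit 216, nat_lit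 180, nat_lit 468, nat_lit 432, nat_lit 72, nat_lit 108])
noncomputable def r130 : WT := (.leaf (nat_lit 79896) [nat_lit 108, nat_lit 72, nat_lit 324, nat_lit 252, nat_lit 216, nat_lit 180, nat_lit 144, nat_lit 108, nat_lit 72, nat_lit 324, nat_lit 252, nat_lit 216, nat_lit 180, nat_lit 144, nat_lit 108, nat_lit 72, nat_lit 324, nat_lit 252, nat_lit 216, nat_lit 180, nat_lit 144, nat_lit 108, nat_lit 72, nat_lit 324, nat_lit 252, nat_lit 216, nat_lit 180, nat_lit 144, nat_lit 108, nat_lit 72, nat_lit 324, nat_lit 252, nat_lit 216, nat_lit 180, nat_lit 144, nat_lit 108, nat_lit 72, nat_lit 324, nat_lit 252, nat_lit 216, nat_lit 180, nat_lit 144, nat_lit 108, nat_lit 72, nat_lit 324, nat_lit 252, nat_lit 216, nat_lit 180, nat_lit 144, nat_lit 108, nat_lit 72, nat_lit 468, nat_lit 324, nat_lit 252, nat_lit 216, nat_lit 180, nat_lit 144, nat_lit 108, nat_lit 72, nat_lit 324, nat_lit 252, nat_lit 216, nat_lit 180])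
noncomputable def r131 : WT := (.node (nat_lit 25) r129 r130)
noncomputable def r132 : WT := (.leaf (nat_lit 79989) [nat_lit 180, nat_lit 216, nat_lit 252, nat_lit 324, nat_lit 468, nat_lit 72, nat_lit 108, nat_lit 144, nat_lit 180, nat_lit 216, nat_lit 252, nat_lit 324, nat_lit 72, nat_lit 108, nat_lit 144, nat_lit 180, nat_lit 216, nat_lit 252, nat_lit 324, nat_lit 72, nat_lit 108, nat_lit 144, nat_lit 180, nat_lit 216, nat_lit 252, nat_lit 324, nat_lit 72, nat_lit 108, nat_lit 144, nat_lit 180, nat_lit 216, nat_lit 252, nat_lit 324, nat_lit 72, nat_lit 108, nat_lit 144, nat_lit 180, nat_lit 216, nat_lit 252, nat_lit 324, nat_lit 72, nat_lit 108, nat_lit 144, nat_lit 180, nat_lit 216, nat_lit 252, nat_lit 324, nat_lit 72, nat_lit 108, nat_lit 144, nat_lit 180, nat_lit 216, nat_lit 252, nat_lit 324, nat_lit 72, nat_lit 108, nat_lit 144, nat_lit 180, nat_lit 216, nat_lit 252, nat_lit 324, nat_lit 72, nat_lit 108])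
noncomputable def r133 : WT := (.leaf (nat_lit 79905) [nat_lit 180, nat_lit 216, nat_lit 252, nat_lit 324, nat_lit 72, nat_lit 108, nat_lit 144, nat_lit 180, nat_lit 216, nat_lit 252, nat_lit 324, nat_lit 72, nat_lit 108, nat_lit 144, nat_lit 180, nat_lit 216, nat_lit 252, nat_lit 324, nat_lit 72, nat_lit 108, nat_lit 144, nat_lit 180, nat_lit 216, nat_lit 252, nat_lit 324, nat_lit 72, nat_lit 108, nat_lit 144, nat_lit 180, nat_lit 216, nat_lit 252, nat_lit 324, nat_lit 72, nat_lit 108, nat_lit 144, nat_lit 180, nat_lit 216, nat_lit 252, nat_lit 324, nat_lit 72, nat_lit 108, nat_lit 144, nat_lit 180, nat_lit 216, nat_lit 252, nat_lit 324, nat_lit 468, nat_lit 72, nat_lit 108, nat_lit 144, nat_lit 180, nat_lit 216, nat_lit 252, nat_lit 324, nat_lit 72, nat_lit 108, nat_lit 144, nat_lit 180, nat_lit 216, nat_lit 252, nat_lit 324, nat_lit 72, nat_lit 108])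
noncomputable def r134 : WT := (.node (nat_lit 27) r132 r133)
noncomputable def r135 : WT := (.leaf (nat_lit 79947) [nat_lit 180, nat_lit 216, nat_lit 252, nat_lit 324, nat_lit 72, nat_lit 108, nat_lit 144, nat_lit 180, nat_lit 216, nat_lit 252, nat_lit 324, nat_lit 72, nat_lit 108, nat_lit 144, nat_lit 180, nat_lit 216, nat_lit 252, nat_lit 324, nat_lit 72, nat_lit 108, nat_lit 144, nat_lit 180, nat_lit 216, nat_lit 252, nat_lit 324, nat_lit 468, nat_lit 72, nat_lit 108, nat_lit 144, nat_lit 180, nat_lit 216, nat_lit 252, nat_lit 324, nat_lit 72, nat_lit 108, nat_lit 144, nat_lit 180, nat_lit 216, nat_lit 252, nat_lit 324, nat_lit 72, nat_lit 108, nat_lit 144, nat_lit 180, nat_lit 216, nat_lit 252, nat_lit 324, nat_lit 72, nat_lit 108, nat_lit 144, nat_lit 180, nat_lit 216, nat_lit 252, nat_lit 324, nat_lit 72, nat_lit 108, nat_lit 144, nat_lit 180, nat_lit 216, nat_lit 252, nat_lit 324, nat_lit 72, nat_lit 108])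
noncomputable def r136 : WT := (.leaf (nat_lit 84086) [nat_lit 180, nat_lit 216, nat_lit 324, nat_lit 360, nat_lit 468, nat_lit 72, nat_lit 108, nat_lit 144, nat_lit 180, nat_lit 216, nat_lit 324, nat_lit 360, nat_lit 72, nat_lit 108, nat_lit 144, nat_lit 180, nat_lit 216, nat_lit 324, nat_lit 360, nat_lit 72, nat_lit 108, nat_lit 144, nat_lit 180, nat_lit 216, nat_lit 324, nat_lit 360, nat_lit 72, nat_lit 108, nat_lit 144, nat_lit 180, nat_lit 216, nat_lit 324, nat_lit 360, nat_lit 72, nat_lit 108, nat_lit 144, nat_lit 180, nat_lit 216, nat_lit 324, nat_lit 360, nat_lit 72, nat_lit 108, nat_lit 144, nat_lit 180, nat_lit 216, nat_lit 324, nat_lit 360, nat_lit 72, nat_lit 108, nat_lit 144, nat_lit 180, nat_lit 216, nat_lit 324, nat_lit 360, nat_lit 72, nat_lit 108, nat_lit 144, nat_lit 180, nat_lit 216, nat_lit 324, nat_lit 360, nat_lit 72, nat_lit 108])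
noncomputable def r137 : WT := (.leaf (nat_lit 79938) [nat_lit 108, nat_lit 72, nat_lit 324, nat_lit 252, nat_lit 216, nat_lit 180, nat_lit 144, nat_lit 108, nat_lit 72, nat_lit 324, nat_lit 252, nat_lit 216, nat_lit 180, nat_lit 144, nat_lit 108, nat_lit 72, nat_lit 324, nat_lit 252, nat_lit 216, nat_lit 180, nat_lit 144, nat_lit 108, nat_lit 72, nat_lit 324, nat_lit 252, nat_lit 216, nat_lit 180, nat_lit 144, nat_lit 108, nat_lit 72, nat_lit 468, nat_lit 324, nat_lit 252, nat_lit 216, nat_lit 180, nat_lit 144, nat_lit 108, nat_lit 72, nat_lit 324, nat_lit 252, nat_lit 216, nat_lit 180, nat_lit 144, nat_lit 108, nat_lit 72, nat_lit 324, nat_lit 252, nat_lit 216, nat_lit 180, nat_lit 144, nat_lit 108, nat_lit 72, nat_lit 324, nat_lit 252, nat_lit 216, nat_lit 180, nat_lit 144, nat_lit 108, nat_lit 72, nat_lit 324, nat_lit 252, nat_lit 216, nat_lit 180])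
noncomputable def r138 : WT := (.node (nat_lit 29) r135 (.node (nat_lit 30) r136 r137))
noncomputable def r139 : WT := (.leaf (nat_lit 79952) [nat_lit 108, nat_lit 72, nat_lit 324, nat_lit 252, nat_lit 216, nat_lit 180, nat_lit 144, nat_lit 108, nat_lit 72, nat_lit 324, nat_lit 252, nat_lit 216, nat_lit 180, nat_lit 144, nat_lit 108, nat_lit 72, nat_lit 324, nat_lit 252, nat_lit 216, nat_lit 180, nat_lit 144, nat_lit 108, nat_lit 72, nat_lit 468, nat_lit 324, nat_lit 252, nat_lit 216, nat_lit 180, nat_lit 144, nat_lit 108, nat_lit 72, nat_lit 324, nat_lit 252, nat_lit 216, nat_lit 180, nat_lit 144, nat_lit 108, nat_lit 72, nat_lit 324, nat_lit 252, nat_lit 216, nat_lit 180, nat_lit 144, nat_lit 108, nat_lit 72, nat_lit 324, nat_lit 252, nat_lit 216, nat_lit 180, nat_lit 144, nat_lit 108, nat_lit 72, nat_lit 324, nat_lit 252, nat_lit 216, nat_lit 180, nat_lit 144, nat_lit 108, nat_lit 72, nat_lit 324, nat_lit 252, nat_lit 216, nat_lit 180])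
noncomputable def r140 : WT := (.leaf (nat_lit 83991) [nat_lit 108, nat_lit 72, nat_lit 360, nat_lit 324, nat_lit 216, nat_lit 180, nat_lit 144, nat_lit 108, nat_lit 72, nat_lit 360, nat_lit 324, nat_lit 216, nat_lit 180, nat_lit 144, nat_lit 108, nat_lit 72, nat_lit 360, nat_lit 324, nat_lit 216, nat_lit 180, nat_lit 144, nat_lit 108, nat_lit 72, nat_lit 360, nat_lit 324, nat_lit 216, nat_lit 180, nat_lit 144, nat_lit 108, nat_lit 72, nat_lit 360, nat_lit 324, nat_lit 216, nat_lit 180, nat_lit 144, nat_lit 108, nat_lit 72, nat_lit 360, nat_lit 324, nat_lit 216, nat_lit 180, nat_lit 144, nat_lit 108, nat_lit 72, nat_lit 360, nat_lit 324, nat_lit 216, nat_lit 180, nat_lit 144, nat_lit 108, nat_lit 72, nat_lit 468, nat_lit 360, nat_lit 324, nat_lit 216, nat_lit 180, nat_lit 144, nat_lit 108, nat_lit 72, nat_lit 360, nat_lit 324, nat_lit 216, nat_lit 180])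
noncomputable def r141 : WT := (.leaf (nat_lit 79966) [nat_lit 108, nat_lit 72, nat_lit 324, nat_lit 252, nat_lit 216, nat_lit 180, nat_lit 144, nat_lit 108, nat_lit 72, nat_lit 324, nat_lit 252, nat_lit 216, nat_lit 180, nat_lit 144, nat_lit 108, nat_lit 72, nat_lit 468, nat_lit 324, nat_lit 252, nat_lit 216, nat_lit 180, nat_lit 144, nat_lit 108, nat_lit 72, nat_lit 324, nat_lit 252, nat_lit 216, nat_lit 180, nat_lit 144, nat_lit 108, nat_lit 72, nat_lit 324, nat_lit 252, nat_lit 216, nat_lit 180, nat_lit 144, nat_lit 108, nat_lit 72, nat_lit 324, nat_lit 252, nat_lit 216, nat_lit 180, nat_lit 144, nat_lit 108, nat_lit 72, nat_lit 324, nat_lit 252, nat_lit 216, nat_lit 180, nat_lit 144, nat_lit 108, nat_lit 72, nat_lit 324, nat_lit 252, nat_lit 216, nat_lit 180, nat_lit 144, nat_lit 108, nat_lit 72, nat_lit 324, nat_lit 252, nat_lit 216, nat_lit 180])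
noncomputable def r142 : WT := (.node (nat_lit 32) r139 (.node (nat_lit 33) r140 r141))
noncomputable def r143 : WT := (.leaf (nat_lit 79980) [nat_lit 108, nat_lit 72, nat_lit 324, nat_lit 252, nat_lit 216, nat_lit 180, nat_lit 144, nat_lit 108, nat_lit 72, nat_lit 468, nat_lit 324, nat_lit 252, nat_lit 216, nat_lit 180, nat_lit 144, nat_lit 108, nat_lit 72, nat_lit 324, nat_lit 252, nat_lit 216, nat_lit 180, nat_lit 144, nat_lit 108, nat_lit 72, nat_lit 324, nat_lit 252, nat_lit 216, nat_lit 180, nat_lit 144, nat_lit 108, nat_lit 72, nat_lit 324, nat_lit 252, nat_lit 216, nat_lit 180, nat_lit 144, nat_lit 108, nat_lit 72, nat_lit 324, nat_lit 252, nat_lit 216, nat_lit 180, nat_lit 144, nat_lit 108, nat_lit 72, nat_lit 324, nat_lit 252, nat_lit 216, nat_lit 180, nat_lit 144, nat_lit 108, nat_lit 72, nat_lit 324, nat_lit 252, nat_lit 216, nat_lit 180, nat_lit 144, nat_lit 108, nat_lit 72, nat_lit 324, nat_lit 252, nat_lit 216, nat_lit 180])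
noncomputable def r144 : WT := (.leaf (nat_lit 80898) [nat_lit 108, nat_lit 72, nat_lit 432, nat_lit 468, nat_lit 180, nat_lit 216, nat_lit 252, nat_lit 288, nat_lit 396, nat_lit 180, nat_lit 324, nat_lit 360, nat_lit 180, nat_lit 144, nat_lit 108, nat_lit 72, nat_lit 432, nat_lit 468, nat_lit 180, nat_lit 216, nat_lit 252, nat_lit 288, nat_lit 396, nat_lit 180, nat_lit 324, nat_lit 360, nat_lit 180, nat_lit 144, nat_lit 108, nat_lit 72, nat_lit 432, nat_lit 468, nat_lit 180, nat_lit 216, nat_lit 252, nat_lit 288, nat_lit 396, nat_lit 180, nat_lit 324, nat_lit 360, nat_lit 180, nat_lit 144, nat_lit 108, nat_lit 72, nat_lit 432, nat_lit 468, nat_lit 180, nat_lit 216, nat_lit 252, nat_lit 288, nat_lit 396, nat_lit 180, nat_lit 324, nat_lit 360, nat_lit 180, nat_lit 144, nat_lit 108, nat_lit 72, nat_lit 432, nat_lit 468, nat_lit 180, nat_lit 216, nat_lit 252, nat_lit 288, nat_lit 396, nat_lit 180, nat_lit 324, nat_lit 360, nat_lit 180, nat_lit 144, nat_lit 108, nat_lit 72, nat_lit 432, nat_lit 468, nat_lit 180,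 nat_lit 216, nat_lit 252, nat_lit 288, nat_lit 396, nat_lit 180, nat_lit 324, nat_lit 360, nat_lit 180, nat_lit 144, nat_lit 108, nat_lit 72, nat_lit 432, nat_lit 468, nat_lit 180, nat_lit 216, nat_lit 252, nat_lit 288, nat_lit 396, nat_lit 180, nat_lit 324, nat_lit 360, nat_lit 180, nat_lit 144, nat_lit 108, nat_lit 72, nat_lit 432, nat_lit 468, nat_lit 180, nat_lit 216, nat_lit 252, nat_lit 288, nat_lit 396, nat_lit 180, nat_lit 324, nat_lit 360, nat_lit 180, nat_lit 144, nat_lit 108, nat_lit 72, nat_lit 432, nat_lit 468, nat_lit 180, nat_lit 216, nat_lit 252, nat_lit 288, nat_lit 396, nat_lit 180, nat_lit 324, nat_lit 360, nat_lit 180, nat_lit 144, nat_lit 108, nat_lit 72, nat_lit 432, nat_lit 468, nat_lit 180, nat_lit 216, nat_lit 252, nat_lit 288, nat_lit 396, nat_lit 180, nat_lit 324, nat_lit 360, nat_lit 180, nat_lit 144, nat_lit 108, nat_lit 72, nat_lit 432, nat_lit 468, nat_lit 180, nat_lit 216, nat_lit 252, nat_lit 288, nat_lit 396, nat_lit 180, nat_lit 324, nat_lit 360, nat_lit 180, nat_lit 144,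 nat_lit 108, nat_lit 72, nat_lit 432, nat_lit 468, nat_lit 180, nat_lit 216, nat_lit 252, nat_lit 288, nat_lit 396, nat_lit 180, nat_lit 324, nat_lit 360, nat_lit 180, nat_lit 144, nat_lit 108, nat_lit 72, nat_lit 432, nat_lit 468, nat_lit 180, nat_lit 216, nat_lit 252, nat_lit 288, nat_lit 396, nat_lit 180, nat_lit 324, nat_lit 360, nat_lit 180, nat_lit 144, nat_lit 108, nat_lit 72, nat_lit 432, nat_lit 468, nat_lit 180, nat_lit 216, nat_lit 252, nat_lit 288, nat_lit 396, nat_lit 180, nat_lit 324, nat_lit 360, nat_lit 180, nat_lit 144, nat_lit 108, nat_lit 72, nat_lit 432, nat_lit 468, nat_lit 180, nat_lit 216, nat_lit 252, nat_lit 288, nat_lit 396, nat_lit 180, nat_lit 324, nat_lit 360, nat_lit 180, nat_lit 144, nat_lit 108, nat_lit 72, nat_lit 432, nat_lit 468, nat_lit 180, nat_lit 216, nat_lit 252, nat_lit 288, nat_lit 396, nat_lit 180, nat_lit 324, nat_lit 360, nat_lit 180, nat_lit 144, nat_lit 108, nat_lit 72, nat_lit 432, nat_lit 468, nat_lit 180, nat_lit 216, nat_lit 252, nat_lit 288, nat_lit 396,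 nat_lit 180, nat_lit 324, nat_lit 360, nat_lit 180])
noncomputable def r145 : WT := (.leaf (nat_lit 84016) [nat_lit 180, nat_lit 216, nat_lit 324, nat_lit 360, nat_lit 72, nat_lit 108, nat_lit 144, nat_lit 180, nat_lit 216, nat_lit 324, nat_lit 360, nat_lit 72, nat_lit 108, nat_lit 144, nat_lit 180, nat_lit 216, nat_lit 324, nat_lit 360, nat_lit 72, nat_lit 108, nat_lit 144, nat_lit 180, nat_lit 216, nat_lit 324, nat_lit 360, nat_lit 72, nat_lit 108, nat_lit 144, nat_lit 180, nat_lit 216, nat_lit 324, nat_lit 360, nat_lit 72, nat_lit 108, nat_lit 144, nat_lit 180, nat_lit 216, nat_lit 324, nat_lit 360, nat_lit 468, nat_lit 72, nat_lit 108, nat_lit 144, nat_lit 180, nat_lit 216, nat_lit 324, nat_lit 360, nat_lit 72, nat_lit 108, nat_lit 144, nat_lit 180, nat_lit 216, nat_lit 324, nat_lit 360, nat_lit 72, nat_lit 108, nat_lit 144, nat_lit 180, nat_lit 216, nat_lit 324, nat_lit 360, nat_lit 72, nat_lit 108])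
noncomputable def r146 : WT := (.leaf (nat_lit 79994) [nat_lit 108, nat_lit 72, nat_lit 468, nat_lit 324, nat_lit 252, nat_lit 216, nat_lit 180, nat_lit 144, nat_lit 108, nat_lit 72, nat_lit 324, nat_lit 252, nat_lit 216, nat_lit 180, nat_lit 144, nat_lit 108, nat_lit 72, nat_lit 324, nat_lit 252, nat_lit 216, nat_lit 180, nat_lit 144, nat_lit 108, nat_lit 72, nat_lit 324, nat_lit 252, nat_lit 216, nat_lit 180, nat_lit 144, nat_lit 108, nat_lit 72, nat_lit 324, nat_lit 252, nat_lit 216, nat_lit 180, nat_lit 144, nat_lit 108, nat_lit 72, nat_lit 324, nat_lit 252, nat_lit 216, nat_lit 180, nat_lit 144, nat_lit 108, nat_lit 72, nat_lit 324, nat_lit 252, nat_lit 216, nat_lit 180, nat_lit 144, nat_lit 108, nat_lit 72, nat_lit 324, nat_lit 252, nat_lit 216, nat_lit 180, nat_lit 144, nat_lit 108, nat_lit 72, nat_lit 324, nat_lit 252, nat_lit 216, nat_lit 180])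
noncomputable def r147 : WT := (.node (nat_lit 36) (.node (nat_lit 35) r143 r144) (.node (nat_lit 37) r145 r146))
noncomputable def r148 : WT := (.leaf (nat_lit 84089) [nat_lit 108, nat_lit 72, nat_lit 468, nat_lit 360, nat_lit 324, nat_lit 216, nat_lit 180, nat_lit 144, nat_lit 108, nat_lit 72, nat_lit 360, nat_lit 324, nat_lit 216, nat_lit 180, nat_lit 144, nat_lit 108, nat_lit 72, nat_lit 360, nat_lit 324, nat_lit 216, nat_lit 180, nat_lit 144, nat_lit 108, nat_lit 72, nat_lit 360, nat_lit 324, nat_lit 216, nat_lit 180, nat_lit 144, nat_lit 108, nat_lit 72, nat_lit 360, nat_lit 324, nat_lit 216, nat_lit 180, nat_lit 144, nat_lit 108, nat_lit 72, nat_lit 360, nat_lit 324, nat_lit 216, nat_lit 180, nat_lit 144, nat_lit 108, nat_lit 72, nat_lit 360, nat_lit 324, nat_lit 216, nat_lit 180, nat_lit 144, nat_lit 108, nat_lit 72, nat_lit 360, nat_lit 324, nat_lit 216, nat_lit 180, nat_lit 144, nat_lit 108, nat_lit 72, nat_lit 360, nat_lit 324, nat_lit 216, nat_lit 180])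
noncomputable def r149 : WT := (.leaf (nat_lit 84002) [nat_lit 180, nat_lit 216, nat_lit 324, nat_lit 360, nat_lit 72, nat_lit 108, nat_lit 144, nat_lit 180, nat_lit 216, nat_lit 324, nat_lit 360, nat_lit 72, nat_lit 108, nat_lit 144, nat_lit 180, nat_lit 216, nat_lit 324, nat_lit 360, nat_lit 72, nat_lit 108, nat_lit 144, nat_lit 180, nat_lit 216, nat_lit 324, nat_lit 360, nat_lit 72, nat_lit 108, nat_lit 144, nat_lit 180, nat_lit 216, nat_lit 324, nat_lit 360, nat_lit 72, nat_lit 108, nat_lit 144, nat_lit 180, nat_lit 216, nat_lit 324, nat_lit 360, nat_lit 72, nat_lit 108, nat_lit 144, nat_lit 180, nat_lit 216, nat_lit 324, nat_lit 360, nat_lit 468, nat_lit 72, nat_lit 108, nat_lit 144, nat_lit 180, nat_lit 216, nat_lit 324, nat_lit 360, nat_lit 72, nat_lit 108, nat_lit 144, nat_lit 180, nat_lit 216, nat_lit 324, nat_lit 360, nat_lit 72, nat_lit 108])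
noncomputable def r150 : WT := (.leaf (nat_lit 84030) [nat_lit 180, nat_lit 216, nat_lit 324, nat_lit 360, nat_lit 72, nat_lit 108, nat_lit 144, nat_lit 180, nat_lit 216, nat_lit 324, nat_lit 360, nat_lit 72, nat_lit 108, nat_lit 144, nat_lit 180, nat_lit 216, nat_lit 324, nat_lit 360, nat_lit 72, nat_lit 108, nat_lit 144, nat_lit 180, nat_lit 216, nat_lit 324, nat_lit 360, nat_lit 72, nat_lit 108, nat_lit 144, nat_lit 180, nat_lit 216, nat_lit 324, nat_lit 360, nat_lit 468, nat_lit 72, nat_lit 108, nat_lit 144, nat_lit 180, nat_lit 216, nat_lit 324, nat_lit 360, nat_lit 72, nat_lit 108, nat_lit 144, nat_lit 180, nat_lit 216, nat_lit 324, nat_lit 360, nat_lit 72, nat_lit 108, nat_lit 144, nat_lit 180, nat_lit 216, nat_lit 324, nat_lit 360, nat_lit 72, nat_lit 108, nat_lit 144, nat_lit 180, nat_lit 216, nat_lit 324, nat_lit 360, nat_lit 72, nat_lit 108])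
noncomputable def r151 : WT := (.leaf (nat_lit 79924) [nat_lit 108, nat_lit 72, nat_lit 324, nat_lit 252, nat_lit 216, nat_lit 180, nat_lit 144, nat_lit 108, nat_lit 72, nat_lit 324, nat_lit 252, nat_lit 216, nat_lit 180, nat_lit 144, nat_lit 108, nat_lit 72, nat_lit 324, nat_lit 252, nat_lit 216, nat_lit 180, nat_lit 144, nat_lit 108, nat_lit 72, nat_lit 324, nat_lit 252, nat_lit 216, nat_lit 180, nat_lit 144, nat_lit 108, nat_lit 72, nat_lit 324, nat_lit 252, nat_lit 216, nat_lit 180, nat_lit 144, nat_lit 108, nat_lit 72, nat_lit 468, nat_lit 324, nat_lit 252, nat_lit 216, nat_lit 180, nat_lit 144, nat_lit 108, nat_lit 72, nat_lit 324, nat_lit 252, nat_lit 216, nat_lit 180, nat_lit 144, nat_lit 108, nat_lit 72, nat_lit 324, nat_lit 252, nat_lit 216, nat_lit 180, nat_lit 144, nat_lit 108, nat_lit 72, nat_lit 324, nat_lit 252, nat_lit 216, nat_lit 180])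
noncomputable def r152 : WT := (.node (nat_lit 40) (.node (nat_lit 39) r148 r149) (.node (nat_lit 41) r150 r151))
noncomputable def r153 : WT := (.leaf (nat_lit 79961) [nat_lit 180, nat_lit 216, nat_lit 252, nat_lit 324, nat_lit 72, nat_lit 108, nat_lit 144, nat_lit 180, nat_lit 216, nat_lit 252, nat_lit 324, nat_lit 72, nat_lit 108, nat_lit 144, nat_lit 180, nat_lit 216, nat_lit 252, nat_lit 324, nat_lit 468, nat_lit 72, nat_lit 108, nat_lit 144, nat_lit 180, nat_lit 216, nat_lit 252, nat_lit 324, nat_lit 72, nat_lit 108, nat_lit 144, nat_lit 180, nat_lit 216, nat_lit 252, nat_lit 324, nat_lit 72, nat_lit 108, nat_lit 144, nat_lit 180, nat_lit 216, nat_lit 252, nat_lit 324, nat_lit 72, nat_lit 108, nat_lit 144, nat_lit 180, nat_lit 216, nat_lit 252, nat_lit 324, nat_lit 72, nat_lit 108, nat_lit 144, nat_lit 180, nat_lit 216, nat_lit 252, nat_lit 324, nat_lit 72, nat_lit 108, nat_lit 144, nat_lit 180, nat_lit 216, nat_lit 252, nat_lit 324, nat_lit 72, nat_lit 108])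
noncomputable def r154 : WT := (.leaf (nat_lit 84033) [nat_lit 108, nat_lit 72, nat_lit 360, nat_lit 324, nat_lit 216, nat_lit 180, nat_lit 144, nat_lit 108, nat_lit 72, nat_lit 360, nat_lit 324, nat_lit 216, nat_lit 180, nat_lit 144, nat_lit 108, nat_lit 72, nat_lit 360, nat_lit 324, nat_lit 216, nat_lit 180, nat_lit 144, nat_lit 108, nat_lit 72, nat_lit 360, nat_lit 324, nat_lit 216, nat_lit 180, nat_lit 144, nat_lit 108, nat_lit 72, nat_lit 468, nat_lit 360, nat_lit 324, nat_lit 216, nat_lit 180, nat_lit 144, nat_lit 108, nat_lit 72, nat_lit 360, nat_lit 324, nat_lit 216, nat_lit 180, nat_lit 144, nat_lit 108, nat_lit 72, nat_lit 360, nat_lit 324, nat_lit 216, nat_lit 180, nat_lit 144, nat_lit 108, nat_lit 72, nat_lit 360, nat_lit 324, nat_lit 216, nat_lit 180, nat_lit 144, nat_lit 108, nat_lit 72, nat_lit 360, nat_lit 324, nat_lit 216, nat_lit 180])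
noncomputable def r155 : WT := (.leaf (nat_lit 79975) [nat_lit 180, nat_lit 216, nat_lit 252, nat_lit 324, nat_lit 72, nat_lit 108, nat_lit 144, nat_lit 180, nat_lit 216, nat_lit 252, nat_lit 324, nat_lit 468, nat_lit 72, nat_lit 108, nat_lit 144, nat_lit 180, nat_lit 216, nat_lit 252, nat_lit 324, nat_lit 72, nat_lit 108, nat_lit 144, nat_lit 180, nat_lit 216, nat_lit 252, nat_lit 324, nat_lit 72, nat_lit 108, nat_lit 144, nat_lit 180, nat_lit 216, nat_lit 252, nat_lit 324, nat_lit 72, nat_lit 108, nat_lit 144, nat_lit 180, nat_lit 216, nat_lit 252, nat_lit 324, nat_lit 72, nat_lit 108, nat_lit 144, nat_lit 180, nat_lit 216, nat_lit 252, nat_lit 324, nat_lit 72, nat_lit 108, nat_lit 144, nat_lit 180, nat_lit 216, nat_lit 252, nat_lit 324, nat_lit 72, nat_lit 108, nat_lit 144, nat_lit 180, nat_lit 216, nat_lit 252, nat_lit 324, nat_lit 72, nat_lit 108])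
noncomputable def r156 : WT := (.leaf (nat_lit 84075) [nat_lit 108, nat_lit 72, nat_lit 360, nat_lit 324, nat_lit 216, nat_lit 180, nat_lit 144, nat_lit 108, nat_lit 72, nat_lit 468, nat_lit 360, nat_lit 324, nat_lit 216, nat_lit 180, nat_lit 144, nat_lit 108, nat_lit 72, nat_lit 360, nat_lit 324, nat_lit 216, nat_lit 180, nat_lit 144, nat_lit 108, nat_lit 72, nat_lit 360, nat_lit 324, nat_lit 216, nat_lit 180, nat_lit 144, nat_lit 108, nat_lit 72, nat_lit 360, nat_lit 324, nat_lit 216, nat_lit 180, nat_lit 144, nat_lit 108, nat_lit 72, nat_lit 360, nat_lit 324, nat_lit 216, nat_lit 180, nat_lit 144, nat_lit 108, nat_lit 72, nat_lit 360, nat_lit 324, nat_lit 216, nat_lit 180, nat_lit 144, nat_lit 108, nat_lit 72, nat_lit 360, nat_lit 324, nat_lit 216, nat_lit 180, nat_lit 144, nat_lit 108, nat_lit 72, nat_lit 360, nat_lit 324, nat_lit 216, nat_lit 180])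
noncomputable def r157 : WT := (.leaf (nat_lit 84019) [nat_lit 108, nat_lit 72, nat_lit 360, nat_lit 324, nat_lit 216, nat_lit 180, nat_lit 144, nat_lit 108, nat_lit 72, nat_lit 360, nat_lit 324, nat_lit 216, nat_lit 180, nat_lit 144, nat_lit 108, nat_lit 72, nat_lit 360, nat_lit 324, nat_lit 216, nat_lit 180, nat_lit 144, nat_lit 108, nat_lit 72, nat_lit 360, nat_lit 324, nat_lit 216, nat_lit 180, nat_lit 144, nat_lit 108, nat_lit 72, nat_lit 360, nat_lit 324, nat_lit 216, nat_lit 180, nat_lit 144, nat_lit 108, nat_lit 72, nat_lit 468, nat_lit 360, nat_lit 324, nat_lit 216, nat_lit 180, nat_lit 144, nat_lit 108, nat_lit 72, nat_lit 360, nat_lit 324, nat_lit 216, nat_lit 180, nat_lit 144, nat_lit 108, nat_lit 72, nat_lit 360, nat_lit 324, nat_lit 216, nat_lit 180, nat_lit 144, nat_lit 108, nat_lit 72, nat_lit 360, nat_lit 324, nat_lit 216, nat_lit 180])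
noncomputable def r158 : WT := (.node (nat_lit 44) (.node (nat_lit 43) r153 r154) (.node (nat_lit 45) r155 (.node (nat_lit 46) r156 r157)))
noncomputable def r159 : WT := (.leaf (nat_lit 79919) [nat_lit 180, nat_lit 216, nat_lit 252, nat_lit 324, nat_lit 72, nat_lit 108, nat_lit 144, nat_lit 180, nat_lit 216, nat_lit 252, nat_lit 324, nat_lit 72, nat_lit 108, nat_lit 144, nat_lit 180, nat_lit 216, nat_lit 252, nat_lit 324, nat_lit 72, nat_lit 108, nat_lit 144, nat_lit 180, nat_lit 216, nat_lit 252, nat_lit 324, nat_lit 72, nat_lit 108, nat_lit 144, nat_lit 180, nat_lit 216, nat_lit 252, nat_lit 324, nat_lit 72, nat_lit 108, nat_lit 144, nat_lit 180, nat_lit 216, nat_lit 252, nat_lit 324, nat_lit 468, nat_lit 72, nat_lit 108, nat_lit 144, nat_lit 180, nat_lit 216, nat_lit 252, nat_lit 324, nat_lit 72, nat_lit 108, nat_lit 144, nat_lit 180, nat_lit 216, nat_lit 252, nat_lit 324, nat_lit 72, nat_lit 108, nat_lit 144, nat_lit 180, nat_lit 216, nat_lit 252, nat_lit 324, nat_lit 72, nat_lit 108])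
noncomputable def r160 : WT := (.leaf (nat_lit 79933) [nat_lit 180, nat_lit 216, nat_lit 252, nat_lit 324, nat_lit 72, nat_lit 108, nat_lit 144, nat_lit 180, nat_lit 216, nat_lit 252, nat_lit 324, nat_lit 72, nat_lit 108, nat_lit 144, nat_lit 180, nat_lit 216, nat_lit 252, nat_lit 324, nat_lit 72, nat_lit 108, nat_lit 144, nat_lit 180, nat_lit 216, nat_lit 252, nat_lit 324, nat_lit 72, nat_lit 108, nat_lit 144, nat_lit 180, nat_lit 216, nat_lit 252, nat_lit 324, nat_lit 468, nat_lit 72, nat_lit 108, nat_lit 144, nat_lit 180, nat_lit 216, nat_lit 252, nat_lit 324, nat_lit 72, nat_lit 108, nat_lit 144, nat_lit 180, nat_lit 216, nat_lit 252, nat_lit 324, nat_lit 72, nat_lit 108, nat_lit 144, nat_lit 180, nat_lit 216, nat_lit 252, nat_lit 324, nat_lit 72, nat_lit 108, nat_lit 144, nat_lit 180, nat_lit 216, nat_lit 252, nat_lit 324, nat_lit 72, nat_lit 108])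
noncomputable def r161 : WT := (.leaf (nat_lit 84005) [nat_lit 108, nat_lit 72, nat_lit 360, nat_lit 324, nat_lit 216, nat_lit 180, nat_lit 144, nat_lit 108, nat_lit 72, nat_lit 360, nat_lit 324, nat_lit 216, nat_lit 180, nat_lit 144, nat_lit 108, nat_lit 72, nat_lit 360, nat_lit 324, nat_lit 216, nat_lit 180, nat_lit 144, nat_lit 108, nat_lit 72, nat_lit 360, nat_lit 324, nat_lit 216, nat_lit 180, nat_lit 144, nat_lit 108, nat_lit 72, nat_lit 360, nat_lit 324, nat_lit 216, nat_lit 180, nat_lit 144, nat_lit 108, nat_lit 72, nat_lit 360, nat_lit 324, nat_lit 216, nat_lit 180, nat_lit 144, nat_lit 108, nat_lit 72, nat_lit 468, nat_lit 360, nat_lit 324, nat_lit 216, nat_lit 180, nat_lit 144, nat_lit 108, nat_lit 72, nat_lit 360, nat_lit 324, nat_lit 216, nat_lit 180, nat_lit 144, nat_lit 108, nat_lit 72, nat_lit 360, nat_lit 324, nat_lit 216, nat_lit 180])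
noncomputable def r162 : WT := (.leaf (nat_lit 84072) [nat_lit 180, nat_lit 216, nat_lit 324, nat_lit 360, nat_lit 72, nat_lit 108, nat_lit 144, nat_lit 180, nat_lit 216, nat_lit 324, nat_lit 360, nat_lit 468, nat_lit 72, nat_lit 108, nat_lit 144, nat_lit 180, nat_lit 216, nat_lit 324, nat_lit 360, nat_lit 72, nat_lit 108, nat_lit 144, nat_lit 180, nat_lit 216, nat_lit 324, nat_lit 360, nat_lit 72, nat_lit 108, nat_lit 144, nat_lit 180, nat_lit 216, nat_lit 324, nat_lit 360, nat_lit 72, nat_lit 108, nat_lit 144, nat_lit 180, nat_lit 216, nat_lit 324, nat_lit 360, nat_lit 72, nat_lit 108, nat_lit 144, nat_lit 180, nat_lit 216, nat_lit 324, nat_lit 360, nat_lit 72, nat_lit 108, nat_lit 144, nat_lit 180, nat_lit 216, nat_lit 324, nat_lit 360, nat_lit 72, nat_lit 108, nat_lit 144, nat_lit 180, nat_lit 216, nat_lit 324, nat_lit 360, nat_lit 72, nat_lit 108])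
noncomputable def r163 : WT := (.leaf (nat_lit 84058) [nat_lit 180, nat_lit 216, nat_lit 324, nat_lit 360, nat_lit 72, nat_lit 108, nat_lit 144, nat_lit 180, nat_lit 216, nat_lit 324, nat_lit 360, nat_lit 72, nat_lit 108, nat_lit 144, nat_lit 180, nat_lit 216, nat_lit 324, nat_lit 360, nat_lit 468, nat_lit 72, nat_lit 108, nat_lit 144, nat_lit 180, nat_lit 216, nat_lit 324, nat_lit 360, nat_lit 72, nat_lit 108, nat_lit 144, nat_lit 180, nat_lit 216, nat_lit 324, nat_lit 360, nat_lit 72, nat_lit 108, nat_lit 144, nat_lit 180, nat_lit 216, nat_lit 324, nat_lit 360, nat_lit 72, nat_lit 108, nat_lit 144, nat_lit 180, nat_lit 216, nat_lit 324, nat_lit 360, nat_lit 72, nat_lit 108, nat_lit 144, nat_lit 180, nat_lit 216, nat_lit 324, nat_lit 360, nat_lit 72, nat_lit 108, nat_lit 144, nat_lit 180, nat_lit 216, nat_lit 324, nat_lit 360, nat_lit 72, nat_lit 108])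
noncomputable def r164 : WT := (.leaf (nat_lit 84044) [nat_lit 180, nat_lit 216, nat_lit 324, nat_lit 360, nat_lit 72, nat_lit 108, nat_lit 144, nat_lit 180, nat_lit 216, nat_lit 324, nat_lit 360, nat_lit 72, nat_lit 108, nat_lit 144, nat_lit 180, nat_lit 216, nat_lit 324, nat_lit 360, nat_lit 72, nat_lit 108, nat_lit 144, nat_lit 180, nat_lit 216, nat_lit 324, nat_lit 360, nat_lit 468, nat_lit 72, nat_lit 108, nat_lit 144, nat_lit 180, nat_lit 216, nat_lit 324, nat_lit 360, nat_lit 72, nat_lit 108, nat_lit 144, nat_lit 180, nat_lit 216, nat_lit 324, nat_lit 360, nat_lit 72, nat_lit 108, nat_lit 144, nat_lit 180, nat_lit 216, nat_lit 324, nat_lit 360, nat_lit 72, nat_lit 108, nat_lit 144, nat_lit 180, nat_lit 216, nat_lit 324, nat_lit 360, nat_lit 72, nat_lit 108, nat_lit 144, nat_lit 180, nat_lit 216, nat_lit 324, nat_lit 360, nat_lit 72, nat_lit 108])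
noncomputable def r165 : WT := (.leaf (nat_lit 84047) [nat_lit 108, nat_lit 72, nat_lit 360, nat_lit 324, nat_lit 216, nat_lit 180, nat_lit 144, nat_lit 108, nat_lit 72, nat_lit 360, nat_lit 324, nat_lit 216, nat_lit 180, nat_lit 144, nat_lit 108, nat_lit 72, nat_lit 360, nat_lit 324, nat_lit 216, nat_lit 180, nat_lit 144, nat_lit 108, nat_lit 72, nat_lit 468, nat_lit 360, nat_lit 324, nat_lit 216, nat_lit 180, nat_lit 144, nat_lit 108, nat_lit 72, nat_lit 360, nat_lit 324, nat_lit 216, nat_lit 180, nat_lit 144, nat_lit 108, nat_lit 72, nat_lit 360, nat_lit 324, nat_lit 216, nat_lit 180, nat_lit 144, nat_lit 108, nat_lit 72, nat_lit 360, nat_lit 324, nat_lit 216, nat_lit 180, nat_lit 144, nat_lit 108, nat_lit 72, nat_lit 360, nat_lit 324, nat_lit 216, nat_lit 180, nat_lit 144, nat_lit 108, nat_lit 72, nat_lit 360, nat_lit 324, nat_lit 216, nat_lit 180])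
noncomputable def r166 : WT := (.leaf (nat_lit 79910) [nat_lit 108, nat_lit 72, nat_lit 324, nat_lit 252, nat_lit 216, nat_lit 180, nat_lit 144, nat_lit 108, nat_lit 72, nat_lit 324, nat_lit 252, nat_lit 216, nat_lit 180, nat_lit 144, nat_lit 108, nat_lit 72, nat_lit 324, nat_lit 252, nat_lit 216, nat_lit 180, nat_lit 144, nat_lit 108, nat_lit 72, nat_lit 324, nat_lit 252, nat_lit 216, nat_lit 180, nat_lit 144, nat_lit 108, nat_lit 72, nat_lit 324, nat_lit 252, nat_lit 216, nat_lit 180, nat_lit 144, nat_lit 108, nat_lit 72, nat_lit 324, nat_lit 252, nat_lit 216, nat_lit 180, nat_lit 144, nat_lit 108, nat_lit 72, nat_lit 468, nat_lit 324, nat_lit 252, nat_lit 216, nat_lit 180, nat_lit 144, nat_lit 108, nat_lit 72, nat_lit 324, nat_lit 252, nat_lit 216, nat_lit 180, nat_lit 144, nat_lit 108, nat_lit 72, nat_lit 324, nat_lit 252, nat_lit 216, nat_lit 180])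
noncomputable def r167 : WT := (.leaf (nat_lit 84061) [nat_lit 108, nat_lit 72, nat_lit 360, nat_lit 324, nat_lit 216, nat_lit 180, nat_lit 144, nat_lit 108, nat_lit 72, nat_lit 360, nat_lit 324, nat_lit 216, nat_lit 180, nat_lit 144, nat_lit 108, nat_lit 72, nat_lit 468, nat_lit 360, nat_lit 324, nat_lit 216, nat_lit 180, nat_lit 144, nat_lit 108, nat_lit 72, nat_lit 360, nat_lit 324, nat_lit 216, nat_lit 180, nat_lit 144, nat_lit 108, nat_lit 72, nat_lit 360, nat_lit 324, nat_lit 216, nat_lit 180, nat_lit 144, nat_lit 108, nat_lit 72, nat_lit 360, nat_lit 324, nat_lit 216, nat_lit 180, nat_lit 144, nat_lit 108, nat_lit 72, nat_lit 360, nat_lit 324, nat_lit 216, nat_lit 180, nat_lit 144, nat_lit 108, nat_lit 72, nat_lit 360, nat_lit 324, nat_lit 216, nat_lit 180, nat_lit 144, nat_lit 108, nat_lit 72, nat_lit 360, nat_lit 324, nat_lit 216, nat_lit 180])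
noncomputable def r168 : WT := (.node (nat_lit 51) (.node (nat_lit 49) (.node (nat_lit 48) r159 r160) (.node (nat_lit 50) r161 r162)) (.node (nat_lit 53) (.node (nat_lit 52) r163 r164) (.node (nat_lit 54) r165 (.node (nat_lit 55) r166 r167))))
noncomputable def r169 : WT := (.node (nat_lit 24) (.node (nat_lit 21) (.node (nat_lit 19) r123 (.node (nat_lit 20) r124 r125)) (.node (nat_lit 22) r126 (.node (nat_lit 23) r127 r128))) (.node (nat_lit 34) (.node (nat_lit 28) (.node (nat_lit 26) r131 r134) (.node (nat_lit 31) r138 r142)) (.node (nat_lit 42) (.node (nat_lit 38) r147 r152) (.node (nat_lit 47) r158 r168))))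
noncomputable def r170 : WT := (.node (nat_lit 11) (.node (nat_lit 10) (.leaf (nat_lit 52224) [nat_lit 216, nat_lit 144, nat_lit 216]) (.leaf (nat_lit 43010) [nat_lit 108, nat_lit 144, nat_lit 108, nat_lit 144, nat_lit 108])) (.node (nat_lit 12) (.leaf (nat_lit 51200) [nat_lit 180, nat_lit 144, nat_lit 180, nat_lit 144, nat_lit 180]) (.node (nat_lit 15) (.node (nat_lit 13) r115 r118) (.node (nat_lit 18) r122 r169))))
noncomputable def w2 : WT := (.node (nat_lit 1) (.leaf (nat_lit 2048) [nat_lit 144]) (.node (nat_lit 4) (.node (nat_lit 2) (.leaf (nat_lit 57344) [nat_lit 360, nat_lit 144, nat_lit 360]) (.node (nat_lit 3) (.leaf (nat_lit 56320) [nat_lit 324, nat_lit 144, nat_lit 324]) (.leaf (nat_lit 55296) [nat_lit 396, nat_lit 144, nat_lit 396]))) (.node (nat_lit 7) (.node (nat_lit 5) (.leaf (nat_lit 25602) [nat_lit 432, nat_lit 144, nat_lit 432]) r113) (.node (nat_lit 9) r114 r170))))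
noncomputable def r171 : WT := (.node (nat_lit 6) (.leaf (nat_lit 26626) [nat_lit 432, nat_lit 180, nat_lit 432]) (.leaf (nat_lit 35842) [nat_lit 72, nat_lit 180, nat_lit 72]))
noncomputable def r172 : WT := (.node (nat_lit 8) (.leaf (nat_lit 44034) [nat_lit 108, nat_lit 180, nat_lit 108]) (.leaf (nat_lit 62464) [nat_lit 324, nat_lit 180, nat_lit 324, nat_lit 180, nat_lit 324]))
noncomputable def r173 : WT := (.leaf (nat_lit 79879) [nat_lit 216, nat_lit 252, nat_lit 324, nat_lit 72, nat_lit 108, nat_lit 144, nat_lit 180, nat_lit 216, nat_lit 252, nat_lit 324, nat_lit 72, nat_lit 108, nat_lit 144, nat_lit 180, nat_lit 216, nat_lit 252, nat_lit 324, nat_lit 72, nat_lit 108, nat_lit 144, nat_lit 180, nat_lit 216, nat_lit 252, nat_lit 324, nat_lit 72, nat_lit 108, nat_lit 144, nat_lit 180, nat_lit 216, nat_lit 252, nat_lit 324, nat_lit 72, nat_lit 108, nat_lit 144, nat_lit 180, nat_lit 216, nat_lit 252, nat_lit 324, nat_lit 72, nat_lit 108, nat_lit 144, nat_lit 180, nat_lit 216, nat_lit 252, nat_lit 324, nat_lit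 72, nat_lit 108, nat_lit 144, nat_lit 180, nat_lit 216, nat_lit 252, nat_lit 324, nat_lit 72, nat_lit 108, nat_lit 144, nat_lit 180, nat_lit 216, nat_lit 252, nat_lit 324, nat_lit 468, nat_lit 72, nat_lit 108, nat_lit 144])
noncomputable def r174 : WT := (.leaf (nat_lit 79880) [nat_lit 144, nat_lit 108, nat_lit 72, nat_lit 324, nat_lit 252, nat_lit 216, nat_lit 180, nat_lit 144, nat_lit 108, nat_lit 72, nat_lit 324, nat_lit 252, nat_lit 216, nat_lit 180, nat_lit 144, nat_lit 108, nat_lit 72, nat_lit 324, nat_lit 252, nat_lit 216, nat_lit 180, nat_lit 144, nat_lit 108, nat_lit 72, nat_lit 324, nat_lit 252, nat_lit 216, nat_lit 180, nat_lit 144, nat_lit 108, nat_lit 72, nat_lit 324, nat_lit 252, nat_lit 216, nat_lit 180, nat_lit 144, nat_lit 108, nat_lit 72, nat_lit 324, nat_lit 252, nat_lit 216, nat_lit 180, nat_lit 144, nat_lit 108, nat_lit 72, nat_lit 324, nat_lit 252, nat_lit 216, nat_lit 180, nat_lit 144, nat_lit 108, nat_lit 72, nat_lit 324, nat_lit 252, nat_lit 216, nat_lit 180, nat_lit 144, nat_lit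 108, nat_lit 72, nat_lit 468, nat_lit 324, nat_lit 252, nat_lit 216])
noncomputable def r175 : WT := (.leaf (nat_lit 83975) [nat_lit 144, nat_lit 108, nat_lit 72, nat_lit 360, nat_lit 324, nat_lit 216, nat_lit 180, nat_lit 144, nat_lit 108, nat_lit 72, nat_lit 360, nat_lit 324, nat_lit 216, nat_lit 180, nat_lit 144, nat_lit 108, nat_lit 72, nat_lit 360, nat_lit 324, nat_lit 216, nat_lit 180, nat_lit 144, nat_lit 108, nat_lit 72, nat_lit 360, nat_lit 324, nat_lit 216, nat_lit 180, nat_lit 144, nat_lit 108, nat_lit 72, nat_lit 360, nat_lit 324, nat_lit 216, nat_lit 180, nat_lit 144, nat_lit 108, nat_lit 72, nat_lit 360, nat_lit 324, nat_lit 216, nat_lit 180, nat_lit 144, nat_lit 108, nat_lit 72, nat_lit 360, nat_lit 324, nat_lit 216, nat_lit 180, nat_lit 144, nat_lit 108, nat_lit 72, nat_lit 360, nat_lit 324, nat_lit 216, nat_lit 180, nat_lit 144, nat_lit 108, nat_lit 72, nat_lit 468, nat_lit 360, nat_lit 324, nat_lit 216])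
noncomputable def r176 : WT := (.leaf (nat_lit 83976) [nat_lit 216, nat_lit 324, nat_lit 360, nat_lit 72, nat_lit 108, nat_lit 144, nat_lit 180, nat_lit 216, nat_lit 324, nat_lit 360, nat_lit 72, nat_lit 108, nat_lit 144, nat_lit 180, nat_lit 216, nat_lit 324, nat_lit 360, nat_lit 72, nat_lit 108, nat_lit 144, nat_lit 180, nat_lit 216, nat_lit 324, nat_lit 360, nat_lit 72, nat_lit 108, nat_lit 144, nat_lit 180, nat_lit 216, nat_lit 324, nat_lit 360, nat_lit 72, nat_lit 108, nat_lit 144, nat_lit 180, nat_lit 216, nat_lit 324, nat_lit 360, nat_lit 72, nat_lit 108, nat_lit 144, nat_lit 180, nat_lit 216, nat_lit 324, nat_lit 360, nat_lit 72, nat_lit 108, nat_lit 144, nat_lit 180, nat_lit 216, nat_lit 324, nat_lit 360, nat_lit 72, nat_lit 108, nat_lit 144, nat_lit 180, nat_lit 216, nat_lit 324, nat_lit 360, nat_lit 468, nat_lit 72, nat_lit 108, nat_lit 144])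
noncomputable def r177 : WT := (.node (nat_lit 14) (.node (nat_lit 13) r173 r174) (.node (nat_lit 15) r175 r176))
noncomputable def r178 : WT := (.leaf (nat_lit 84997) [nat_lit 252, nat_lit 216, nat_lit 180, nat_lit 108, nat_lit 144, nat_lit 180, nat_lit 360, nat_lit 324, nat_lit 180, nat_lit 252, nat_lit 216, nat_lit 180, nat_lit 108, nat_lit 144, nat_lit 180, nat_lit 360, nat_lit 324, nat_lit 180, nat_lit 252, nat_lit 216, nat_lit 180, nat_lit 108, nat_lit 144, nat_lit 180, nat_lit 360, nat_lit 324, nat_lit 180, nat_lit 252, nat_lit 216, nat_lit 180, nat_lit 108, nat_lit 144, nat_lit 180, nat_lit 360, nat_lit 324, nat_lit 180, nat_lit 252, nat_lit 216, nat_lit 180, nat_lit 108, nat_lit 144, nat_lit 180, nat_lit 360, nat_lit 324, nat_lit 180, nat_lit 252, nat_lit 216, nat_lit 180, nat_lit 108, nat_lit 144, nat_lit 180, nat_lit 360, nat_lit 324, nat_lit 180, nat_lit 252, nat_lit 216, nat_lit 180, nat_lit 108, nat_lit 144, nat_lit 180, nat_lit 360, nat_lit 324, nat_lit 180, nat_lit 252, nat_lit 216, nat_lit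 180, nat_lit 108, nat_lit 144, nat_lit 180, nat_lit 360, nat_lit 324, nat_lit 180, nat_lit 252, nat_lit 216, nat_lit 180, nat_lit 108, nat_lit 144, nat_lit 180, nat_lit 360, nat_lit 324, nat_lit 180, nat_lit 252, nat_lit 216, nat_lit 180, nat_lit 108, nat_lit 144, nat_lit 180, nat_lit 360, nat_lit 324])
noncomputable def r179 : WT := (.leaf (nat_lit 79894) [nat_lit 144, nat_lit 108, nat_lit 72, nat_lit 324, nat_lit 252, nat_lit 216, nat_lit 180, nat_lit 144, nat_lit 108, nat_lit 72, nat_lit 324, nat_lit 252, nat_lit 216, nat_lit 180, nat_lit 144, nat_lit 108, nat_lit 72, nat_lit 324, nat_lit 252, nat_lit 216, nat_lit 180, nat_lit 144, nat_lit 108, nat_lit 72, nat_lit 324, nat_lit 252, nat_lit 216, nat_lit 180, nat_lit 144, nat_lit 108, nat_lit 72, nat_lit 324, nat_lit 252, nat_lit 216, nat_lit 180, nat_lit 144, nat_lit 108, nat_lit 72, nat_lit 324, nat_lit 252, nat_lit 216, nat_lit 180, nat_lit 144, nat_lit 108, nat_lit 72, nat_lit 324, nat_lit 252, nat_lit 216, nat_lit 180, nat_lit 144, nat_lit 108, nat_lit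 72, nat_lit 468, nat_lit 324, nat_lit 252, nat_lit 216, nat_lit 180, nat_lit 144, nat_lit 108, nat_lit 72, nat_lit 324, nat_lit 252, nat_lit 216])
noncomputable def r180 : WT := (.leaf (nat_lit 83989) [nat_lit 144, nat_lit 108, nat_lit 72, nat_lit 360, nat_lit 324, nat_lit 216, nat_lit 180, nat_lit 144, nat_lit 108, nat_lit 72, nat_lit 360, nat_lit 324, nat_lit 216, nat_lit 180, nat_lit 144, nat_lit 108, nat_lit 72, nat_lit 360, nat_lit 324, nat_lit 216, nat_lit 180, nat_lit 144, nat_lit 108, nat_lit 72, nat_lit 360, nat_lit 324, nat_lit 216, nat_lit 180, nat_lit 144, nat_lit 108, nat_lit 72, nat_lit 360, nat_lit 324, nat_lit 216, nat_lit 180, nat_lit 144, nat_lit 108, nat_lit 72, nat_lit 360, nat_lit 324, nat_lit 216, nat_lit 180, nat_lit 144, nat_lit 108, nat_lit 72, nat_lit 360, nat_lit 324, nat_lit 216, nat_lit 180, nat_lit 144, nat_lit 108, nat_lit 72, nat_lit 468, nat_lit 360, nat_lit 324, nat_lit 216, nat_lit 180, nat_lit 144, nat_lit 108, nat_lit 72, nat_lit 360, nat_lit 324, nat_lit 216])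
noncomputable def r181 : WT := (.leaf (nat_lit 81927) [nat_lit 144, nat_lit 108, nat_lit 72, nat_lit 432, nat_lit 324, nat_lit 252, nat_lit 216, nat_lit 180, nat_lit 144, nat_lit 108, nat_lit 72, nat_lit 432, nat_lit 324, nat_lit 252, nat_lit 216, nat_lit 180, nat_lit 144, nat_lit 108, nat_lit 72, nat_lit 432, nat_lit 324, nat_lit 252, nat_lit 216, nat_lit 180, nat_lit 144, nat_lit 108, nat_lit 72, nat_lit 432, nat_lit 324, nat_lit 252, nat_lit 216, nat_lit 180, nat_lit 144, nat_lit 108, nat_lit 72, nat_lit 432, nat_lit 324, nat_lit 252, nat_lit 216, nat_lit 180, nat_lit 144, nat_lit 108, nat_lit 72, nat_lit 432, nat_lit 324, nat_lit 252, nat_lit 216, nat_lit 180, nat_lit 144, nat_lit 108, nat_lit 72, nat_lit 432, nat_lit 324, nat_lit 252, nat_lit 216, nat_lit 180, nat_lit 144, nat_lit 108, nat_lit 72, nat_lit 432, nat_lit 324, nat_lit 252, nat_lit 216, nat_lit 180, nat_lit 144, nat_lit 108, nat_lit 72, nat_lit 432, nat_lit 324, nat_lit 252, nat_lit 216, nat_lit 180, nat_lit 144, nat_lit 108, nat_lit 72,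 nat_lit 432, nat_lit 324, nat_lit 252, nat_lit 216, nat_lit 180, nat_lit 144, nat_lit 108, nat_lit 72, nat_lit 432, nat_lit 324, nat_lit 252, nat_lit 216, nat_lit 180, nat_lit 144, nat_lit 108, nat_lit 72, nat_lit 432, nat_lit 324, nat_lit 252, nat_lit 216, nat_lit 180, nat_lit 144, nat_lit 108, nat_lit 72, nat_lit 432, nat_lit 324, nat_lit 252, nat_lit 216, nat_lit 180, nat_lit 144, nat_lit 108, nat_lit 72, nat_lit 432, nat_lit 324, nat_lit 252, nat_lit 216, nat_lit 180, nat_lit 144, nat_lit 108, nat_lit 72, nat_lit 432, nat_lit 324, nat_lit 252, nat_lit 216])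
noncomputable def r182 : WT := (.leaf (nat_lit 82951) [nat_lit 144, nat_lit 108, nat_lit 72, nat_lit 432, nat_lit 360, nat_lit 324, nat_lit 216, nat_lit 180, nat_lit 144, nat_lit 108, nat_lit 72, nat_lit 432, nat_lit 360, nat_lit 324, nat_lit 216, nat_lit 180, nat_lit 144, nat_lit 108, nat_lit 72, nat_lit 432, nat_lit 360, nat_lit 324, nat_lit 216, nat_lit 180, nat_lit 144, nat_lit 108, nat_lit 72, nat_lit 432, nat_lit 360, nat_lit 324, nat_lit 216, nat_lit 180, nat_lit 144, nat_lit 108, nat_lit 72, nat_lit 432, nat_lit 360, nat_lit 324, nat_lit 216, nat_lit 180, nat_lit 144, nat_lit 108, nat_lit 72, nat_lit 432, nat_lit 360, nat_lit 324, nat_lit 216, nat_lit 180, nat_lit 144, nat_lit 108, nat_lit 72, nat_lit 432, nat_lit 360, nat_lit 324, nat_lit 216, nat_lit 180, nat_lit 144, nat_lit 108, nat_lit 72, nat_lit 432, nat_lit 360, nat_lit 324, nat_lit 216, nat_lit 180, nat_lit 144, nat_lit 108, nat_lit 72, nat_lit 432, nat_lit 360, nat_lit 324, nat_lit 216, nat_lit 180, nat_lit 144, nat_lit 108, nat_lit 72,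 nat_lit 432, nat_lit 360, nat_lit 324, nat_lit 216, nat_lit 180, nat_lit 144, nat_lit 108, nat_lit 72, nat_lit 432, nat_lit 360, nat_lit 324, nat_lit 216, nat_lit 180, nat_lit 144, nat_lit 108, nat_lit 72, nat_lit 432, nat_lit 360, nat_lit 324, nat_lit 216, nat_lit 180, nat_lit 144, nat_lit 108, nat_lit 72, nat_lit 432, nat_lit 360, nat_lit 324, nat_lit 216, nat_lit 180, nat_lit 144, nat_lit 108, nat_lit 72, nat_lit 432, nat_lit 360, nat_lit 324, nat_lit 216, nat_lit 180, nat_lit 144, nat_lit 108, nat_lit 72, nat_lit 432, nat_lit 360, nat_lit 324, nat_lit 216])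
noncomputable def r183 : WT := (.leaf (nat_lit 81928) [nat_lit 216, nat_lit 252, nat_lit 324, nat_lit 432, nat_lit 72, nat_lit 108, nat_lit 144, nat_lit 180, nat_lit 216, nat_lit 252, nat_lit 324, nat_lit 432, nat_lit 72, nat_lit 108, nat_lit 144, nat_lit 180, nat_lit 216, nat_lit 252, nat_lit 324, nat_lit 432, nat_lit 72, nat_lit 108, nat_lit 144, nat_lit 180, nat_lit 216, nat_lit 252, nat_lit 324, nat_lit 432, nat_lit 72, nat_lit 108, nat_lit 144, nat_lit 180, nat_lit 216, nat_lit 252, nat_lit 324, nat_lit 432, nat_lit 72, nat_lit 108, nat_lit 144, nat_lit 180, nat_lit 216, nat_lit 252, nat_lit 324, nat_lit 432, nat_lit 72, nat_lit 108, nat_lit 144, nat_lit 180, nat_lit 216, nat_lit 252, nat_lit 324, nat_lit 432, nat_lit 72, nat_lit 108, nat_lit 144, nat_lit 180, nat_lit 216, nat_lit 252, nat_lit 324, nat_lit 432, nat_lit 72, nat_lit 108, nat_lit 144, nat_lit 180, nat_lit 216, nat_lit 252, nat_lit 324, nat_lit 432, nat_lit 72, nat_lit 108, nat_lit 144, nat_lit 180, nat_lit 216, nat_lit 252, nat_lit 324,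 nat_lit 432, nat_lit 72, nat_lit 108, nat_lit 144, nat_lit 180, nat_lit 216, nat_lit 252, nat_lit 324, nat_lit 432, nat_lit 72, nat_lit 108, nat_lit 144, nat_lit 180, nat_lit 216, nat_lit 252, nat_lit 324, nat_lit 432, nat_lit 72, nat_lit 108, nat_lit 144, nat_lit 180, nat_lit 216, nat_lit 252, nat_lit 324, nat_lit 432, nat_lit 72, nat_lit 108, nat_lit 144, nat_lit 180, nat_lit 216, nat_lit 252, nat_lit 324, nat_lit 432, nat_lit 72, nat_lit 108, nat_lit 144, nat_lit 180, nat_lit 216, nat_lit 252, nat_lit 324, nat_lit 432, nat_lit 72, nat_lit 108, nat_lit 144])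
noncomputable def r184 : WT := (.leaf (nat_lit 85009) [nat_lit 360, nat_lit 324, nat_lit 180, nat_lit 252, nat_lit 216, nat_lit 180, nat_lit 108, nat_lit 144, nat_lit 180, nat_lit 360, nat_lit 324, nat_lit 180, nat_lit 252, nat_lit 216, nat_lit 180, nat_lit 108, nat_lit 144, nat_lit 180, nat_lit 360, nat_lit 324, nat_lit 180, nat_lit 252, nat_lit 216, nat_lit 180, nat_lit 108, nat_lit 144, nat_lit 180, nat_lit 360, nat_lit 324, nat_lit 180, nat_lit 252, nat_lit 216, nat_lit 180, nat_lit 108, nat_lit 144, nat_lit 180, nat_lit 360, nat_lit 324, nat_lit 180, nat_lit 252, nat_lit 216, nat_lit 180, nat_lit 108, nat_lit 144, nat_lit 180, nat_lit 360, nat_lit 324, nat_lit 180, nat_lit 252, nat_lit 216, nat_lit 180, nat_lit 108, nat_lit 144, nat_lit 180, nat_lit 360, nat_lit 324, nat_lit 180, nat_lit 252, nat_lit 216, nat_lit 180, nat_lit 108, nat_lit 144, nat_lit 180, nat_lit 360, nat_lit 324, nat_lit 180, nat_lit 252, nat_lit 216, nat_lit 180, nat_lit 108, nat_lit 144, nat_lit 180, nat_lit 360, nat_lit 324, nat_lit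 180, nat_lit 252, nat_lit 216, nat_lit 180, nat_lit 108, nat_lit 144, nat_lit 180, nat_lit 360, nat_lit 324, nat_lit 180, nat_lit 252, nat_lit 216, nat_lit 180, nat_lit 108, nat_lit 144])
noncomputable def r185 : WT := (.leaf (nat_lit 85003) [nat_lit 108, nat_lit 144, nat_lit 180, nat_lit 360, nat_lit 324, nat_lit 180, nat_lit 252, nat_lit 216, nat_lit 180, nat_lit 108, nat_lit 144, nat_lit 180, nat_lit 360, nat_lit 324, nat_lit 180, nat_lit 252, nat_lit 216, nat_lit 180, nat_lit 108, nat_lit 144, nat_lit 180, nat_lit 360, nat_lit 324, nat_lit 180, nat_lit 252, nat_lit 216, nat_lit 180, nat_lit 108, nat_lit 144, nat_lit 180, nat_lit 360, nat_lit 324, nat_lit 180, nat_lit 252, nat_lit 216, nat_lit 180, nat_lit 108, nat_lit 144, nat_lit 180, nat_lit 360, nat_lit 324, nat_lit 180, nat_lit 252, nat_lit 216, nat_lit 180, nat_lit 108, nat_lit 144, nat_lit 180, nat_lit 360, nat_lit 324, nat_lit 180, nat_lit 252, nat_lit 216, nat_lit 180, nat_lit 108, nat_lit 144, nat_lit 180, nat_lit 360, nat_lit 324, nat_lit 180,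 nat_lit 252, nat_lit 216, nat_lit 180, nat_lit 108, nat_lit 144, nat_lit 180, nat_lit 360, nat_lit 324, nat_lit 180, nat_lit 252, nat_lit 216, nat_lit 180, nat_lit 108, nat_lit 144, nat_lit 180, nat_lit 360, nat_lit 324, nat_lit 180, nat_lit 252, nat_lit 216, nat_lit 180, nat_lit 108, nat_lit 144, nat_lit 180, nat_lit 360, nat_lit 324, nat_lit 180, nat_lit 252, nat_lit 216])
noncomputable def r186 : WT := (.node (nat_lit 23) r184 r185)
noncomputable def r187 : WT := (.leaf (nat_lit 84998) [nat_lit 216, nat_lit 252, nat_lit 180, nat_lit 324, nat_lit 360, nat_lit 180, nat_lit 144, nat_lit 108, nat_lit 180, nat_lit 216, nat_lit 252, nat_lit 180, nat_lit 324, nat_lit 360, nat_lit 180, nat_lit 144, nat_lit 108, nat_lit 180, nat_lit 216, nat_lit 252, nat_lit 180, nat_lit 324, nat_lit 360, nat_lit 180, nat_lit 144, nat_lit 108, nat_lit 180, nat_lit 216, nat_lit 252, nat_lit 180, nat_lit 324, nat_lit 360, nat_lit 180, nat_lit 144, nat_lit 108, nat_lit 180, nat_lit 216, nat_lit 252, nat_lit 180, nat_lit 324, nat_lit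 360, nat_lit 180, nat_lit 144, nat_lit 108, nat_lit 180, nat_lit 216, nat_lit 252, nat_lit 180, nat_lit 324, nat_lit 360, nat_lit 180, nat_lit 144, nat_lit 108, nat_lit 180, nat_lit 216, nat_lit 252, nat_lit 180, nat_lit 324, nat_lit 360, nat_lit 180, nat_lit 144, nat_lit 108, nat_lit 180, nat_lit 216, nat_lit 252, nat_lit 180, nat_lit 324, nat_lit 360, nat_lit 180, nat_lit 144, nat_lit 108, nat_lit 180, nat_lit 216, nat_lit 252, nat_lit 180, nat_lit 324, nat_lit 360, nat_lit 180, nat_lit 144, nat_lit 108, nat_lit 180, nat_lit 216, nat_lit 252, nat_lit 180, nat_lit 324, nat_lit 360, nat_lit 180, nat_lit 144, nat_lit 108])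
noncomputable def r188 : WT := (.leaf (nat_lit 80911) [nat_lit 468, nat_lit 432, nat_lit 72, nat_lit 108, nat_lit 144, nat_lit 180, nat_lit 360, nat_lit 324, nat_lit 180, nat_lit 396, nat_lit 288, nat_lit 252, nat_lit 216, nat_lit 180, nat_lit 468, nat_lit 432, nat_lit 72, nat_lit 108, nat_lit 144, nat_lit 180, nat_lit 360, nat_lit 324, nat_lit 180, nat_lit 396, nat_lit 288, nat_lit 252, nat_lit 216, nat_lit 180, nat_lit 468, nat_lit 432, nat_lit 72, nat_lit 108, nat_lit 144, nat_lit 180, nat_lit 360, nat_lit 324, nat_lit 180, nat_lit 396, nat_lit 288, nat_lit 252, nat_lit 216, nat_lit 180, nat_lit 468, nat_lit 432, nat_lit 72, nat_lit 108, nat_lit 144, nat_lit 180, nat_lit 360, nat_lit 324, nat_lit 180, nat_lit 396, nat_lit 288, nat_lit 252, nat_lit 216, nat_lit 180, nat_lit 468, nat_lit 432, nat_lit 72, nat_lit 108, nat_lit 144, nat_lit 180, nat_lit 360, nat_lit 324, nat_lit 180, nat_lit 396, nat_lit 288, nat_lit 252, nat_lit 216, nat_lit 180, nat_lit 468, nat_lit 432, nat_lit 72, nat_lit 108, nat_lit 144,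 nat_lit 180, nat_lit 360, nat_lit 324, nat_lit 180, nat_lit 396, nat_lit 288, nat_lit 252, nat_lit 216, nat_lit 180, nat_lit 468, nat_lit 432, nat_lit 72, nat_lit 108, nat_lit 144, nat_lit 180, nat_lit 360, nat_lit 324, nat_lit 180, nat_lit 396, nat_lit 288, nat_lit 252, nat_lit 216, nat_lit 180, nat_lit 468, nat_lit 432, nat_lit 72, nat_lit 108, nat_lit 144, nat_lit 180, nat_lit 360, nat_lit 324, nat_lit 180, nat_lit 396, nat_lit 288, nat_lit 252, nat_lit 216, nat_lit 180, nat_lit 468, nat_lit 432, nat_lit 72, nat_lit 108, nat_lit 144, nat_lit 180, nat_lit 360, nat_lit 324, nat_lit 180, nat_lit 396, nat_lit 288, nat_lit 252, nat_lit 216, nat_lit 180, nat_lit 468, nat_lit 432, nat_lit 72, nat_lit 108, nat_lit 144, nat_lit 180, nat_lit 360, nat_lit 324, nat_lit 180, nat_lit 396, nat_lit 288, nat_lit 252, nat_lit 216, nat_lit 180, nat_lit 468, nat_lit 432, nat_lit 72, nat_lit 108, nat_lit 144, nat_lit 180, nat_lit 360, nat_lit 324, nat_lit 180, nat_lit 396, nat_lit 288, nat_lit 252, nat_lit 216, nat_lit 180,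 nat_lit 468, nat_lit 432, nat_lit 72, nat_lit 108, nat_lit 144, nat_lit 180, nat_lit 360, nat_lit 324, nat_lit 180, nat_lit 396, nat_lit 288, nat_lit 252, nat_lit 216, nat_lit 180, nat_lit 468, nat_lit 432, nat_lit 72, nat_lit 108, nat_lit 144, nat_lit 180, nat_lit 360, nat_lit 324, nat_lit 180, nat_lit 396, nat_lit 288, nat_lit 252, nat_lit 216, nat_lit 180, nat_lit 468, nat_lit 432, nat_lit 72, nat_lit 108, nat_lit 144, nat_lit 180, nat_lit 360, nat_lit 324, nat_lit 180, nat_lit 396, nat_lit 288, nat_lit 252, nat_lit 216, nat_lit 180, nat_lit 468, nat_lit 432, nat_lit 72, nat_lit 108, nat_lit 144, nat_lit 180, nat_lit 360, nat_lit 324, nat_lit 180, nat_lit 396, nat_lit 288, nat_lit 252, nat_lit 216, nat_lit 180, nat_lit 468, nat_lit 432, nat_lit 72, nat_lit 108, nat_lit 144, nat_lit 180, nat_lit 360, nat_lit 324, nat_lit 180, nat_lit 396, nat_lit 288, nat_lit 252, nat_lit 216, nat_lit 180, nat_lit 468, nat_lit 432, nat_lit 72, nat_lit 108, nat_lit 144, nat_lit 180, nat_lit 360, nat_lit 324, nat_lit 180,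 nat_lit 396, nat_lit 288, nat_lit 252, nat_lit 216])
noncomputable def r189 : WT := (.node (nat_lit 25) r187 r188)
noncomputable def r190 : WT := (.leaf (nat_lit 85004) [nat_lit 324, nat_lit 360, nat_lit 180, nat_lit 144, nat_lit 108, nat_lit 180, nat_lit 216, nat_lit 252, nat_lit 180, nat_lit 324, nat_lit 360, nat_lit 180, nat_lit 144, nat_lit 108, nat_lit 180, nat_lit 216, nat_lit 252, nat_lit 180, nat_lit 324, nat_lit 360, nat_lit 180, nat_lit 144, nat_lit 108, nat_lit 180, nat_lit 216, nat_lit 252, nat_lit 180, nat_lit 324, nat_lit 360, nat_lit 180, nat_lit 144, nat_lit 108, nat_lit 180, nat_lit 216, nat_lit 252, nat_lit 180, nat_lit 324, nat_lit 360, nat_lit 180, nat_lit 144, nat_lit 108, nat_lit 180, nat_lit 216, nat_lit 252, nat_lit 180, nat_lit 324, nat_lit 360, nat_lit 180, nat_lit 144, nat_lit 108, nat_lit 180, nat_lit 216, nat_lit 252, nat_lit 180, nat_lit 324, nat_lit 360, nat_lit 180, nat_lit 144, nat_lit 108, nat_lit 180, nat_lit 216, nat_lit 252, nat_lit 180, nat_lit 324, nat_lit 360, nat_lit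 180, nat_lit 144, nat_lit 108, nat_lit 180, nat_lit 216, nat_lit 252, nat_lit 180, nat_lit 324, nat_lit 360, nat_lit 180, nat_lit 144, nat_lit 108, nat_lit 180, nat_lit 216, nat_lit 252, nat_lit 180, nat_lit 324, nat_lit 360, nat_lit 180, nat_lit 144, nat_lit 108, nat_lit 180, nat_lit 216, nat_lit 252])
noncomputable def r191 : WT := (.leaf (nat_lit 82952) [nat_lit 216, nat_lit 324, nat_lit 360, nat_lit 432, nat_lit 72, nat_lit 108, nat_lit 144, nat_lit 180, nat_lit 216, nat_lit 324, nat_lit 360, nat_lit 432, nat_lit 72, nat_lit 108, nat_lit 144, nat_lit 180, nat_lit 216, nat_lit 324, nat_lit 360, nat_lit 432, nat_lit 72, nat_lit 108, nat_lit 144, nat_lit 180, nat_lit 216, nat_lit 324, nat_lit 360, nat_lit 432, nat_lit 72, nat_lit 108, nat_lit 144, nat_lit 180, nat_lit 216, nat_lit 324, nat_lit 360, nat_lit 432, nat_lit 72, nat_lit 108, nat_lit 144, nat_lit 180, nat_lit 216, nat_lit 324, nat_lit 360, nat_lit 432, nat_lit 72, nat_lit 108, nat_lit 144, nat_lit 180, nat_lit 216, nat_lit 324, nat_lit 360, nat_lit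 432, nat_lit 72, nat_lit 108, nat_lit 144, nat_lit 180, nat_lit 216, nat_lit 324, nat_lit 360, nat_lit 432, nat_lit 72, nat_lit 108, nat_lit 144, nat_lit 180, nat_lit 216, nat_lit 324, nat_lit 360, nat_lit 432, nat_lit 72, nat_lit 108, nat_lit 144, nat_lit 180, nat_lit 216, nat_lit 324, nat_lit 360, nat_lit 432, nat_lit 72, nat_lit 108, nat_lit 144, nat_lit 180, nat_lit 216, nat_lit 324, nat_lit 360, nat_lit 432, nat_lit 72, nat_lit 108, nat_lit 144, nat_lit 180, nat_lit 216, nat_lit 324, nat_lit 360, nat_lit 432, nat_lit 72, nat_lit 108, nat_lit 144, nat_lit 180, nat_lit 216, nat_lit 324, nat_lit 360, nat_lit 432, nat_lit 72, nat_lit 108, nat_lit 144, nat_lit 180, nat_lit 216, nat_lit 324, nat_lit 360, nat_lit 432, nat_lit 72, nat_lit 108, nat_lit 144, nat_lit 180, nat_lit 216, nat_lit 324, nat_lit 360, nat_lit 432, nat_lit 72, nat_lit 108, nat_lit 144])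
noncomputable def r192 : WT := (.node (nat_lit 27) r190 r191)
noncomputable def r193 : WT := (.leaf (nat_lit 79893) [nat_lit 216, nat_lit 252, nat_lit 324, nat_lit 72, nat_lit 108, nat_lit 144, nat_lit 180, nat_lit 216, nat_lit 252, nat_lit 324, nat_lit 72, nat_lit 108, nat_lit 144, nat_lit 180, nat_lit 216, nat_lit 252, nat_lit 324, nat_lit 72, nat_lit 108, nat_lit 144, nat_lit 180, nat_lit 216, nat_lit 252, nat_lit 324, nat_lit 72, nat_lit 108, nat_lit 144, nat_lit 180, nat_lit 216, nat_lit 252, nat_lit 324, nat_lit 72, nat_lit 108, nat_lit 144, nat_lit 180, nat_lit 216, nat_lit 252, nat_lit 324, nat_lit 72, nat_lit 108, nat_lit 144, nat_lit 180, nat_lit 216, nat_lit 252, nat_lit 324, nat_lit 72, nat_lit 108, nat_lit 144, nat_lit 180, nat_lit 216, nat_lit 252, nat_lit 324, nat_lit 468, nat_lit 72, nat_lit 108, nat_lit 144, nat_lit 180, nat_lit 216, nat_lit 252, nat_lit 324, nat_lit 72, nat_lit 108, nat_lit 144])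
noncomputable def r194 : WT := (.leaf (nat_lit 84992) [nat_lit 144, nat_lit 108, nat_lit 180, nat_lit 216, nat_lit 252, nat_lit 180, nat_lit 324, nat_lit 360, nat_lit 180, nat_lit 144, nat_lit 108, nat_lit 180, nat_lit 216, nat_lit 252, nat_lit 180, nat_lit 324, nat_lit 360, nat_lit 180, nat_lit 144, nat_lit 108, nat_lit 180, nat_lit 216, nat_lit 252, nat_lit 180, nat_lit 324, nat_lit 360, nat_lit 180, nat_lit 144, nat_lit 108, nat_lit 180, nat_lit 216, nat_lit 252, nat_lit 180, nat_lit 324, nat_lit 360, nat_lit 180, nat_lit 144, nat_lit 108, nat_lit 180, nat_lit 216, nat_lit 252, nat_lit 180, nat_lit 324, nat_lit 360, nat_lit 180, nat_lit 144, nat_lit 108, nat_lit 180, nat_lit 216, nat_lit 252, nat_lit 180, nat_lit 324, nat_lit 360, nat_lit 180, nat_lit 144, nat_lit 108, nat_lit 180, nat_lit 216, nat_lit 252, nat_lit 180, nat_lit 324, nat_lit 360, nat_lit 180, nat_lit 144, nat_lit 108, nat_lit 180, nat_lit 216, nat_lit 252, nat_lit 180, nat_lit 324, nat_lit 360, nat_lit 180, nat_lit 144, nat_lit 108, nat_lit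 180, nat_lit 216, nat_lit 252, nat_lit 180, nat_lit 324, nat_lit 360, nat_lit 180, nat_lit 144, nat_lit 108, nat_lit 180, nat_lit 216, nat_lit 252, nat_lit 180, nat_lit 324, nat_lit 360])
noncomputable def r195 : WT := (.node (nat_lit 29) r193 r194)
noncomputable def r196 : WT := (.leaf (nat_lit 83990) [nat_lit 216, nat_lit 324, nat_lit 360, nat_lit 72, nat_lit 108, nat_lit 144, nat_lit 180, nat_lit 216, nat_lit 324, nat_lit 360, nat_lit 72, nat_lit 108, nat_lit 144, nat_lit 180, nat_lit 216, nat_lit 324, nat_lit 360, nat_lit 72, nat_lit 108, nat_lit 144, nat_lit 180, nat_lit 216, nat_lit 324, nat_lit 360, nat_lit 72, nat_lit 108, nat_lit 144, nat_lit 180, nat_lit 216, nat_lit 324, nat_lit 360, nat_lit 72, nat_lit 108, nat_lit 144, nat_lit 180, nat_lit 216, nat_lit 324, nat_lit 360, nat_lit 72, nat_lit 108, nat_lit 144, nat_lit 180, nat_lit 216, nat_lit 324, nat_lit 360, nat_lit 72, nat_lit 108, nat_lit 144, nat_lit 180, nat_lit 216, nat_lit 324, nat_lit 360, nat_lit 468, nat_lit 72, nat_lit 108, nat_lit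 144, nat_lit 180, nat_lit 216, nat_lit 324, nat_lit 360, nat_lit 72, nat_lit 108, nat_lit 144])
noncomputable def r197 : WT := (.leaf (nat_lit 79950) [nat_lit 144, nat_lit 108, nat_lit 72, nat_lit 324, nat_lit 252, nat_lit 216, nat_lit 180, nat_lit 144, nat_lit 108, nat_lit 72, nat_lit 324, nat_lit 252, nat_lit 216, nat_lit 180, nat_lit 144, nat_lit 108, nat_lit 72, nat_lit 324, nat_lit 252, nat_lit 216, nat_lit 180, nat_lit 144, nat_lit 108, nat_lit 72, nat_lit 468, nat_lit 324, nat_lit 252, nat_lit 216, nat_lit 180, nat_lit 144, nat_lit 108, nat_lit 72, nat_lit 324, nat_lit 252, nat_lit 216, nat_lit 180, nat_lit 144, nat_lit 108, nat_lit 72, nat_lit 324, nat_lit 252, nat_lit 216, nat_lit 180, nat_lit 144, nat_lit 108, nat_lit 72, nat_lit 324, nat_lit 252, nat_lit 216, nat_lit 180, nat_lit 144, nat_lit 108, nat_lit 72, nat_lit 324, nat_lit 252, nat_lit 216, nat_lit 180, nat_lit 144, nat_lit 108, nat_lit 72, nat_lit 324, nat_lit 252, nat_lit 216])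
noncomputable def r198 : WT := (.leaf (nat_lit 80901) [nat_lit 396, nat_lit 288, nat_lit 252, nat_lit 216, nat_lit 180, nat_lit 468, nat_lit 432, nat_lit 72, nat_lit 108, nat_lit 144, nat_lit 180, nat_lit 360, nat_lit 324, nat_lit 180, nat_lit 396, nat_lit 288, nat_lit 252, nat_lit 216, nat_lit 180, nat_lit 468, nat_lit 432, nat_lit 72, nat_lit 108, nat_lit 144, nat_lit 180, nat_lit 360, nat_lit 324, nat_lit 180, nat_lit 396, nat_lit 288, nat_lit 252, nat_lit 216, nat_lit 180, nat_lit 468, nat_lit 432, nat_lit 72, nat_lit 108, nat_lit 144, nat_lit 180, nat_lit 360, nat_lit 324, nat_lit 180, nat_lit 396, nat_lit 288, nat_lit 252, nat_lit 216, nat_lit 180, nat_lit 468, nat_lit 432, nat_lit 72, nat_lit 108, nat_lit 144, nat_lit 180, nat_lit 360, nat_lit 324, nat_lit 180, nat_lit 396, nat_lit 288, nat_lit 252, nat_lit 216, nat_lit 180, nat_lit 468, nat_lit 432, nat_lit 72, nat_lit 108, nat_lit 144, nat_lit 180, nat_lit 360, nat_lit 324, nat_lit 180, nat_lit 396, nat_lit 288, nat_lit 252, nat_lit 216, nat_lit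 180, nat_lit 468, nat_lit 432, nat_lit 72, nat_lit 108, nat_lit 144, nat_lit 180, nat_lit 360, nat_lit 324, nat_lit 180, nat_lit 396, nat_lit 288, nat_lit 252, nat_lit 216, nat_lit 180, nat_lit 468, nat_lit 432, nat_lit 72, nat_lit 108, nat_lit 144, nat_lit 180, nat_lit 360, nat_lit 324, nat_lit 180, nat_lit 396, nat_lit 288, nat_lit 252, nat_lit 216, nat_lit 180, nat_lit 468, nat_lit 432, nat_lit 72, nat_lit 108, nat_lit 144, nat_lit 180, nat_lit 360, nat_lit 324, nat_lit 180, nat_lit 396, nat_lit 288, nat_lit 252, nat_lit 216, nat_lit 180, nat_lit 468, nat_lit 432, nat_lit 72, nat_lit 108, nat_lit 144, nat_lit 180, nat_lit 360, nat_lit 324, nat_lit 180, nat_lit 396, nat_lit 288, nat_lit 252, nat_lit 216, nat_lit 180, nat_lit 468, nat_lit 432, nat_lit 72, nat_lit 108, nat_lit 144, nat_lit 180, nat_lit 360, nat_lit 324, nat_lit 180, nat_lit 396, nat_lit 288, nat_lit 252, nat_lit 216, nat_lit 180, nat_lit 468, nat_lit 432, nat_lit 72, nat_lit 108, nat_lit 144, nat_lit 180, nat_lit 360, nat_lit 324, nat_lit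 180, nat_lit 396, nat_lit 288, nat_lit 252, nat_lit 216, nat_lit 180, nat_lit 468, nat_lit 432, nat_lit 72, nat_lit 108, nat_lit 144, nat_lit 180, nat_lit 360, nat_lit 324, nat_lit 180, nat_lit 396, nat_lit 288, nat_lit 252, nat_lit 216, nat_lit 180, nat_lit 468, nat_lit 432, nat_lit 72, nat_lit 108, nat_lit 144, nat_lit 180, nat_lit 360, nat_lit 324, nat_lit 180, nat_lit 396, nat_lit 288, nat_lit 252, nat_lit 216, nat_lit 180, nat_lit 468, nat_lit 432, nat_lit 72, nat_lit 108, nat_lit 144, nat_lit 180, nat_lit 360, nat_lit 324, nat_lit 180, nat_lit 396, nat_lit 288, nat_lit 252, nat_lit 216, nat_lit 180, nat_lit 468, nat_lit 432, nat_lit 72, nat_lit 108, nat_lit 144, nat_lit 180, nat_lit 360, nat_lit 324, nat_lit 180, nat_lit 396, nat_lit 288, nat_lit 252, nat_lit 216, nat_lit 180, nat_lit 468, nat_lit 432, nat_lit 72, nat_lit 108, nat_lit 144, nat_lit 180, nat_lit 360, nat_lit 324, nat_lit 180, nat_lit 396, nat_lit 288, nat_lit 252, nat_lit 216, nat_lit 180, nat_lit 468, nat_lit 432, nat_lit 72, nat_lit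 108, nat_lit 144, nat_lit 180, nat_lit 360, nat_lit 324])
noncomputable def r199 : WT := (.leaf (nat_lit 84018) [nat_lit 216, nat_lit 324, nat_lit 360, nat_lit 72, nat_lit 108, nat_lit 144, nat_lit 180, nat_lit 216, nat_lit 324, nat_lit 360, nat_lit 72, nat_lit 108, nat_lit 144, nat_lit 180, nat_lit 216, nat_lit 324, nat_lit 360, nat_lit 72, nat_lit 108, nat_lit 144, nat_lit 180, nat_lit 216, nat_lit 324, nat_lit 360, nat_lit 72, nat_lit 108, nat_lit 144, nat_lit 180, nat_lit 216, nat_lit 324, nat_lit 360, nat_lit 72, nat_lit 108, nat_lit 144, nat_lit 180, nat_lit 216, nat_lit 324, nat_lit 360, nat_lit 468, nat_lit 72, nat_lit 108, nat_lit 144, nat_lit 180, nat_lit 216, nat_lit 324, nat_lit 360, nat_lit 72, nat_lit 108, nat_lit 144, nat_lit 180, nat_lit 216, nat_lit 324, nat_lit 360, nat_lit 72, nat_lit 108, nat_lit 144, nat_lit 180, nat_lit 216, nat_lit 324, nat_lit 360, nat_lit 72, nat_lit 108, nat_lit 144])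
noncomputable def r200 : WT := (.node (nat_lit 32) (.node (nat_lit 31) r196 r197) (.node (nat_lit 33) r198 r199))
noncomputable def r201 : WT := (.leaf (nat_lit 84032) [nat_lit 216, nat_lit 324, nat_lit 360, nat_lit 72, nat_lit 108, nat_lit 144, nat_lit 180, nat_lit 216, nat_lit 324, nat_lit 360, nat_lit 72, nat_lit 108, nat_lit 144, nat_lit 180, nat_lit 216, nat_lit 324, nat_lit 360, nat_lit 72, nat_lit 108, nat_lit 144, nat_lit 180, nat_lit 216, nat_lit 324, nat_lit 360, nat_lit 72, nat_lit 108, nat_lit 144, nat_lit 180, nat_lit 216, nat_lit 324, nat_lit 360, nat_lit 468, nat_lit 72, nat_lit 108, nat_lit 144, nat_lit 180, nat_lit 216, nat_lit 324, nat_lit 360, nat_lit 72, nat_lit 108, nat_lit 144, nat_lit 180, nat_lit 216, nat_lit 324, nat_lit 360, nat_lit 72, nat_lit 108, nat_lit 144, nat_lit 180, nat_lit 216, nat_lit 324, nat_lit 360, nat_lit 72, nat_lit 108, nat_lit 144, nat_lit 180, nat_lit 216, nat_lit 324, nat_lit 360, nat_lit 72, nat_lit 108, nat_lit 144])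
noncomputable def r202 : WT := (.leaf (nat_lit 84088) [nat_lit 216, nat_lit 324, nat_lit 360, nat_lit 468, nat_lit 72, nat_lit 108, nat_lit 144, nat_lit 180, nat_lit 216, nat_lit 324, nat_lit 360, nat_lit 72, nat_lit 108, nat_lit 144, nat_lit 180, nat_lit 216, nat_lit 324, nat_lit 360, nat_lit 72, nat_lit 108, nat_lit 144, nat_lit 180, nat_lit 216, nat_lit 324, nat_lit 360, nat_lit 72, nat_lit 108, nat_lit 144, nat_lit 180, nat_lit 216, nat_lit 324, nat_lit 360, nat_lit 72, nat_lit 108, nat_lit 144, nat_lit 180, nat_lit 216, nat_lit 324, nat_lit 360, nat_lit 72, nat_lit 108, nat_lit 144, nat_lit 180, nat_lit 216, nat_lit 324, nat_lit 360, nat_lit 72, nat_lit 108, nat_lit 144, nat_lit 180, nat_lit 216, nat_lit 324, nat_lit 360, nat_lit 72, nat_lit 108, nat_lit 144, nat_lit 180, nat_lit 216, nat_lit 324, nat_lit 360, nat_lit 72, nat_lit 108, nat_lit 144])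
noncomputable def r203 : WT := (.leaf (nat_lit 79992) [nat_lit 144, nat_lit 108, nat_lit 72, nat_lit 468, nat_lit 324, nat_lit 252, nat_lit 216, nat_lit 180, nat_lit 144, nat_lit 108, nat_lit 72, nat_lit 324, nat_lit 252, nat_lit 216, nat_lit 180, nat_lit 144, nat_lit 108, nat_lit 72, nat_lit 324, nat_lit 252, nat_lit 216, nat_lit 180, nat_lit 144, nat_lit 108, nat_lit 72, nat_lit 324, nat_lit 252, nat_lit 216, nat_lit 180, nat_lit 144, nat_lit 108, nat_lit 72, nat_lit 324, nat_lit 252, nat_lit 216, nat_lit 180, nat_lit 144, nat_lit 108, nat_lit 72, nat_lit 324, nat_lit 252, nat_lit 216, nat_lit 180, nat_lit 144, nat_lit 108, nat_lit 72, nat_lit 324, nat_lit 252, nat_lit 216, nat_lit 180, nat_lit 144, nat_lit 108, nat_lit 72, nat_lit 324, nat_lit 252, nat_lit 216, nat_lit 180, nat_lit 144, nat_lit 108, nat_lit 72, nat_lit 324, nat_lit 252, nat_lit 216])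
noncomputable def r204 : WT := (.leaf (nat_lit 79908) [nat_lit 144, nat_lit 108, nat_lit 72, nat_lit 324, nat_lit 252, nat_lit 216, nat_lit 180, nat_lit 144, nat_lit 108, nat_lit 72, nat_lit 324, nat_lit 252, nat_lit 216, nat_lit 180, nat_lit 144, nat_lit 108, nat_lit 72, nat_lit 324, nat_lit 252, nat_lit 216, nat_lit 180, nat_lit 144, nat_lit 108, nat_lit 72, nat_lit 324, nat_lit 252, nat_lit 216, nat_lit 180, nat_lit 144, nat_lit 108, nat_lit 72, nat_lit 324, nat_lit 252, nat_lit 216, nat_lit 180, nat_lit 144, nat_lit 108, nat_lit 72, nat_lit 324, nat_lit 252, nat_lit 216, nat_lit 180, nat_lit 144, nat_lit 108, nat_lit 72, nat_lit 468, nat_lit 324, nat_lit 252, nat_lit 216, nat_lit 180, nat_lit 144, nat_lit 108, nat_lit 72, nat_lit 324, nat_lit 252, nat_lit 216, nat_lit 180, nat_lit 144, nat_lit 108, nat_lit 72, nat_lit 324, nat_lit 252, nat_lit 216])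
noncomputable def r205 : WT := (.leaf (nat_lit 79977) [nat_lit 216, nat_lit 252, nat_lit 324, nat_lit 72, nat_lit 108, nat_lit 144, nat_lit 180, nat_lit 216, nat_lit 252, nat_lit 324, nat_lit 468, nat_lit 72, nat_lit 108, nat_lit 144, nat_lit 180, nat_lit 216, nat_lit 252, nat_lit 324, nat_lit 72, nat_lit 108, nat_lit 144, nat_lit 180, nat_lit 216, nat_lit 252, nat_lit 324, nat_lit 72, nat_lit 108, nat_lit 144, nat_lit 180, nat_lit 216, nat_lit 252, nat_lit 324, nat_lit 72, nat_lit 108, nat_lit 144, nat_lit 180, nat_lit 216, nat_lit 252, nat_lit 324, nat_lit 72, nat_lit 108, nat_lit 144, nat_lit 180, nat_lit 216, nat_lit 252, nat_lit 324, nat_lit 72, nat_lit 108, nat_lit 144, nat_lit 180, nat_lit 216, nat_lit 252, nat_lit 324, nat_lit 72, nat_lit 108, nat_lit 144, nat_lit 180, nat_lit 216, nat_lit 252, nat_lit 324, nat_lit 72, nat_lit 108, nat_lit 144])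
noncomputable def r206 : WT := (.node (nat_lit 36) (.node (nat_lit 35) r201 r202) (.node (nat_lit 37) r203 (.node (nat_lit 38) r204 r205)))
noncomputable def r207 : WT := (.leaf (nat_lit 79991) [nat_lit 216, nat_lit 252, nat_lit 324, nat_lit 468, nat_lit 72, nat_lit 108, nat_lit 144, nat_lit 180, nat_lit 216, nat_lit 252, nat_lit 324, nat_lit 72, nat_lit 108, nat_lit 144, nat_lit 180, nat_lit 216, nat_lit 252, nat_lit 324, nat_lit 72, nat_lit 108, nat_lit 144, nat_lit 180, nat_lit 216, nat_lit 252, nat_lit 324, nat_lit 72, nat_lit 108, nat_lit 144, nat_lit 180, nat_lit 216, nat_lit 252, nat_lit 324, nat_lit 72, nat_lit 108, nat_lit 144, nat_lit 180, nat_lit 216, nat_lit 252, nat_lit 324, nat_lit 72, nat_lit 108, nat_lit 144, nat_lit 180, nat_lit 216, nat_lit 252, nat_lit 324, nat_lit 72, nat_lit 108, nat_lit 144, nat_lit 180, nat_lit 216, nat_lit 252, nat_lit 324, nat_lit 72, nat_lit 108, nat_lit 144, nat_lit 180, nat_lit 216, nat_lit 252, nat_lit 324, nat_lit 72, nat_lit 108, nat_lit 144])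
noncomputable def r208 : WT := (.leaf (nat_lit 79964) [nat_lit 144, nat_lit 108, nat_lit 72, nat_lit 324, nat_lit 252, nat_lit 216, nat_lit 180, nat_lit 144, nat_lit 108, nat_lit 72, nat_lit 324, nat_lit 252, nat_lit 216, nat_lit 180, nat_lit 144, nat_lit 108, nat_lit 72, nat_lit 468, nat_lit 324, nat_lit 252, nat_lit 216, nat_lit 180, nat_lit 144, nat_lit 108, nat_lit 72, nat_lit 324, nat_lit 252, nat_lit 216, nat_lit 180, nat_lit 144, nat_lit 108, nat_lit 72, nat_lit 324, nat_lit 252, nat_lit 216, nat_lit 180, nat_lit 144, nat_lit 108, nat_lit 72, nat_lit 324, nat_lit 252, nat_lit 216, nat_lit 180, nat_lit 144, nat_lit 108, nat_lit 72, nat_lit 324, nat_lit 252, nat_lit 216, nat_lit 180, nat_lit 144, nat_lit 108, nat_lit 72, nat_lit 324, nat_lit 252, nat_lit 216, nat_lit 180, nat_lit 144, nat_lit 108, nat_lit 72, nat_lit 324, nat_lit 252, nat_lit 216])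
noncomputable def r209 : WT := (.leaf (nat_lit 84004) [nat_lit 216, nat_lit 324, nat_lit 360, nat_lit 72, nat_lit 108, nat_lit 144, nat_lit 180, nat_lit 216, nat_lit 324, nat_lit 360, nat_lit 72, nat_lit 108, nat_lit 144, nat_lit 180, nat_lit 216, nat_lit 324, nat_lit 360, nat_lit 72, nat_lit 108, nat_lit 144, nat_lit 180, nat_lit 216, nat_lit 324, nat_lit 360, nat_lit 72, nat_lit 108, nat_lit 144, nat_lit 180, nat_lit 216, nat_lit 324, nat_lit 360, nat_lit 72, nat_lit 108, nat_lit 144, nat_lit 180, nat_lit 216, nat_lit 324, nat_lit 360, nat_lit 72, nat_lit 108, nat_lit 144, nat_lit 180, nat_lit 216, nat_lit 324, nat_lit 360, nat_lit 468, nat_lit 72, nat_lit 108, nat_lit 144, nat_lit 180, nat_lit 216, nat_lit 324, nat_lit 360, nat_lit 72, nat_lit 108, nat_lit 144, nat_lit 180, nat_lit 216, nat_lit 324, nat_lit 360, nat_lit 72, nat_lit 108, nat_lit 144])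
noncomputable def r210 : WT := (.leaf (nat_lit 84059) [nat_lit 144, nat_lit 108, nat_lit 72, nat_lit 360, nat_lit 324, nat_lit 216, nat_lit 180, nat_lit 144, nat_lit 108, nat_lit 72, nat_lit 360, nat_lit 324, nat_lit 216, nat_lit 180, nat_lit 144, nat_lit 108, nat_lit 72, nat_lit 468, nat_lit 360, nat_lit 324, nat_lit 216, nat_lit 180, nat_lit 144, nat_lit 108, nat_lit 72, nat_lit 360, nat_lit 324, nat_lit 216, nat_lit 180, nat_lit 144, nat_lit 108, nat_lit 72, nat_lit 360, nat_lit 324, nat_lit 216, nat_lit 180, nat_lit 144, nat_lit 108, nat_lit 72, nat_lit 360, nat_lit 324, nat_lit 216, nat_lit 180, nat_lit 144, nat_lit 108, nat_lit 72, nat_lit 360, nat_lit 324, nat_lit 216, nat_lit 180, nat_lit 144, nat_lit 108, nat_lit 72, nat_lit 360, nat_lit 324, nat_lit 216, nat_lit 180, nat_lit 144, nat_lit 108, nat_lit 72, nat_lit 360, nat_lit 324, nat_lit 216])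
noncomputable def r211 : WT := (.leaf (nat_lit 79936) [nat_lit 144, nat_lit 108, nat_lit 72, nat_lit 324, nat_lit 252, nat_lit 216, nat_lit 180, nat_lit 144, nat_lit 108, nat_lit 72, nat_lit 324, nat_lit 252, nat_lit 216, nat_lit 180, nat_lit 144, nat_lit 108, nat_lit 72, nat_lit 324, nat_lit 252, nat_lit 216, nat_lit 180, nat_lit 144, nat_lit 108, nat_lit 72, nat_lit 324, nat_lit 252, nat_lit 216, nat_lit 180, nat_lit 144, nat_lit 108, nat_lit 72, nat_lit 468, nat_lit 324, nat_lit 252, nat_lit 216, nat_lit 180, nat_lit 144, nat_lit 108, nat_lit 72, nat_lit 324, nat_lit 252, nat_lit 216, nat_lit 180, nat_lit 144, nat_lit 108, nat_lit 72, nat_lit 324, nat_lit 252, nat_lit 216, nat_lit 180, nat_lit 144, nat_lit 108, nat_lit 72, nat_lit 324, nat_lit 252, nat_lit 216, nat_lit 180, nat_lit 144, nat_lit 108, nat_lit 72, nat_lit 324, nat_lit 252, nat_lit 216])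
noncomputable def r212 : WT := (.leaf (nat_lit 84046) [nat_lit 216, nat_lit 324, nat_lit 360, nat_lit 72, nat_lit 108, nat_lit 144, nat_lit 180, nat_lit 216, nat_lit 324, nat_lit 360, nat_lit 72, nat_lit 108, nat_lit 144, nat_lit 180, nat_lit 216, nat_lit 324, nat_lit 360, nat_lit 72, nat_lit 108, nat_lit 144, nat_lit 180, nat_lit 216, nat_lit 324, nat_lit 360, nat_lit 468, nat_lit 72, nat_lit 108, nat_lit 144, nat_lit 180, nat_lit 216, nat_lit 324, nat_lit 360, nat_lit 72, nat_lit 108, nat_lit 144, nat_lit 180, nat_lit 216, nat_lit 324, nat_lit 360, nat_lit 72, nat_lit 108, nat_lit 144, nat_lit 180, nat_lit 216, nat_lit 324, nat_lit 360, nat_lit 72, nat_lit 108, nat_lit 144, nat_lit 180, nat_lit 216, nat_lit 324, nat_lit 360, nat_lit 72, nat_lit 108, nat_lit 144, nat_lit 180, nat_lit 216, nat_lit 324, nat_lit 360, nat_lit 72, nat_lit 108, nat_lit 144])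
noncomputable def r213 : WT := (.node (nat_lit 42) (.node (nat_lit 40) r207 (.node (nat_lit 41) r208 r209)) (.node (nat_lit 43) r210 (.node (nat_lit 44) r211 r212)))
noncomputable def r214 : WT := (.leaf (nat_lit 84003) [nat_lit 144, nat_lit 108, nat_lit 72, nat_lit 360, nat_lit 324, nat_lit 216, nat_lit 180, nat_lit 144, nat_lit 108, nat_lit 72, nat_lit 360, nat_lit 324, nat_lit 216, nat_lit 180, nat_lit 144, nat_lit 108, nat_lit 72, nat_lit 360, nat_lit 324, nat_lit 216, nat_lit 180, nat_lit 144, nat_lit 108, nat_lit 72, nat_lit 360, nat_lit 324, nat_lit 216, nat_lit 180, nat_lit 144, nat_lit 108, nat_lit 72, nat_lit 360, nat_lit 324, nat_lit 216, nat_lit 180, nat_lit 144, nat_lit 108, nat_lit 72, nat_lit 360, nat_lit 324, nat_lit 216, nat_lit 180, nat_lit 144, nat_lit 108, nat_lit 72, nat_lit 468, nat_lit 360, nat_lit 324, nat_lit 216, nat_lit 180, nat_lit 144, nat_lit 108, nat_lit 72, nat_lit 360, nat_lit 324, nat_lit 216, nat_lit 180, nat_lit 144, nat_lit 108, nat_lit 72, nat_lit 360, nat_lit 324, nat_lit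 216])
noncomputable def r215 : WT := (.leaf (nat_lit 80896) [nat_lit 144, nat_lit 108, nat_lit 72, nat_lit 432, nat_lit 468, nat_lit 180, nat_lit 216, nat_lit 252, nat_lit 288, nat_lit 396, nat_lit 180, nat_lit 324, nat_lit 360, nat_lit 180, nat_lit 144, nat_lit 108, nat_lit 72, nat_lit 432, nat_lit 468, nat_lit 180, nat_lit 216, nat_lit 252, nat_lit 288, nat_lit 396, nat_lit 180, nat_lit 324, nat_lit 360, nat_lit 180, nat_lit 144, nat_lit 108, nat_lit 72, nat_lit 432, nat_lit 468, nat_lit 180, nat_lit 216, nat_lit 252, nat_lit 288, nat_lit 396, nat_lit 180, nat_lit 324, nat_lit 360, nat_lit 180, nat_lit 144, nat_lit 108, nat_lit 72, nat_lit 432, nat_lit 468, nat_lit 180, nat_lit 216, nat_lit 252, nat_lit 288, nat_lit 396, nat_lit 180, nat_lit 324, nat_lit 360, nat_lit 180, nat_lit 144, nat_lit 108, nat_lit 72, nat_lit 432, nat_lit 468, nat_lit 180, nat_lit 216, nat_lit 252, nat_lit 288, nat_lit 396, nat_lit 180, nat_lit 324, nat_lit 360, nat_lit 180, nat_lit 144, nat_lit 108, nat_lit 72, nat_lit 432, nat_lit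 468, nat_lit 180, nat_lit 216, nat_lit 252, nat_lit 288, nat_lit 396, nat_lit 180, nat_lit 324, nat_lit 360, nat_lit 180, nat_lit 144, nat_lit 108, nat_lit 72, nat_lit 432, nat_lit 468, nat_lit 180, nat_lit 216, nat_lit 252, nat_lit 288, nat_lit 396, nat_lit 180, nat_lit 324, nat_lit 360, nat_lit 180, nat_lit 144, nat_lit 108, nat_lit 72, nat_lit 432, nat_lit 468, nat_lit 180, nat_lit 216, nat_lit 252, nat_lit 288, nat_lit 396, nat_lit 180, nat_lit 324, nat_lit 360, nat_lit 180, nat_lit 144, nat_lit 108, nat_lit 72, nat_lit 432, nat_lit 468, nat_lit 180, nat_lit 216, nat_lit 252, nat_lit 288, nat_lit 396, nat_lit 180, nat_lit 324, nat_lit 360, nat_lit 180, nat_lit 144, nat_lit 108, nat_lit 72, nat_lit 432, nat_lit 468, nat_lit 180, nat_lit 216, nat_lit 252, nat_lit 288, nat_lit 396, nat_lit 180, nat_lit 324, nat_lit 360, nat_lit 180, nat_lit 144, nat_lit 108, nat_lit 72, nat_lit 432, nat_lit 468, nat_lit 180, nat_lit 216, nat_lit 252, nat_lit 288, nat_lit 396, nat_lit 180, nat_lit 324, nat_lit 360, nat_lit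 180, nat_lit 144, nat_lit 108, nat_lit 72, nat_lit 432, nat_lit 468, nat_lit 180, nat_lit 216, nat_lit 252, nat_lit 288, nat_lit 396, nat_lit 180, nat_lit 324, nat_lit 360, nat_lit 180, nat_lit 144, nat_lit 108, nat_lit 72, nat_lit 432, nat_lit 468, nat_lit 180, nat_lit 216, nat_lit 252, nat_lit 288, nat_lit 396, nat_lit 180, nat_lit 324, nat_lit 360, nat_lit 180, nat_lit 144, nat_lit 108, nat_lit 72, nat_lit 432, nat_lit 468, nat_lit 180, nat_lit 216, nat_lit 252, nat_lit 288, nat_lit 396, nat_lit 180, nat_lit 324, nat_lit 360, nat_lit 180, nat_lit 144, nat_lit 108, nat_lit 72, nat_lit 432, nat_lit 468, nat_lit 180, nat_lit 216, nat_lit 252, nat_lit 288, nat_lit 396, nat_lit 180, nat_lit 324, nat_lit 360, nat_lit 180, nat_lit 144, nat_lit 108, nat_lit 72, nat_lit 432, nat_lit 468, nat_lit 180, nat_lit 216, nat_lit 252, nat_lit 288, nat_lit 396, nat_lit 180, nat_lit 324, nat_lit 360, nat_lit 180, nat_lit 144, nat_lit 108, nat_lit 72, nat_lit 432, nat_lit 468, nat_lit 180, nat_lit 216, nat_lit 252, nat_lit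 288, nat_lit 396, nat_lit 180, nat_lit 324, nat_lit 360])
noncomputable def r216 : WT := (.leaf (nat_lit 84031) [nat_lit 144, nat_lit 108, nat_lit 72, nat_lit 360, nat_lit 324, nat_lit 216, nat_lit 180, nat_lit 144, nat_lit 108, nat_lit 72, nat_lit 360, nat_lit 324, nat_lit 216, nat_lit 180, nat_lit 144, nat_lit 108, nat_lit 72, nat_lit 360, nat_lit 324, nat_lit 216, nat_lit 180, nat_lit 144, nat_lit 108, nat_lit 72, nat_lit 360, nat_lit 324, nat_lit 216, nat_lit 180, nat_lit 144, nat_lit 108, nat_lit 72, nat_lit 468, nat_lit 360, nat_lit 324, nat_lit 216, nat_lit 180, nat_lit 144, nat_lit 108, nat_lit 72, nat_lit 360, nat_lit 324, nat_lit 216, nat_lit 180, nat_lit 144, nat_lit 108, nat_lit 72, nat_lit 360, nat_lit 324, nat_lit 216, nat_lit 180, nat_lit 144, nat_lit 108, nat_lit 72, nat_lit 360, nat_lit 324, nat_lit 216, nat_lit 180, nat_lit 144, nat_lit 108, nat_lit 72, nat_lit 360, nat_lit 324, nat_lit 216])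
noncomputable def r217 : WT := (.leaf (nat_lit 84017) [nat_lit 144, nat_lit 108, nat_lit 72, nat_lit 360, nat_lit 324, nat_lit 216, nat_lit 180, nat_lit 144, nat_lit 108, nat_lit 72, nat_lit 360, nat_lit 324, nat_lit 216, nat_lit 180, nat_lit 144, nat_lit 108, nat_lit 72, nat_lit 360, nat_lit 324, nat_lit 216, nat_lit 180, nat_lit 144, nat_lit 108, nat_lit 72, nat_lit 360, nat_lit 324, nat_lit 216, nat_lit 180, nat_lit 144, nat_lit 108, nat_lit 72, nat_lit 360, nat_lit 324, nat_lit 216, nat_lit 180, nat_lit 144, nat_lit 108, nat_lit 72, nat_lit 468, nat_lit 360, nat_lit 324, nat_lit 216, nat_lit 180, nat_lit 144, nat_lit 108, nat_lit 72, nat_lit 360, nat_lit 324, nat_lit 216, nat_lit 180, nat_lit 144, nat_lit 108, nat_lit 72, nat_lit 360, nat_lit 324, nat_lit 216, nat_lit 180, nat_lit 144, nat_lit 108, nat_lit 72, nat_lit 360, nat_lit 324, nat_lit 216])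
noncomputable def r218 : WT := (.leaf (nat_lit 84087) [nat_lit 144, nat_lit 108, nat_lit 72, nat_lit 468, nat_lit 360, nat_lit 324, nat_lit 216, nat_lit 180, nat_lit 144, nat_lit 108, nat_lit 72, nat_lit 360, nat_lit 324, nat_lit 216, nat_lit 180, nat_lit 144, nat_lit 108, nat_lit 72, nat_lit 360, nat_lit 324, nat_lit 216, nat_lit 180, nat_lit 144, nat_lit 108, nat_lit 72, nat_lit 360, nat_lit 324, nat_lit 216, nat_lit 180, nat_lit 144, nat_lit 108, nat_lit 72, nat_lit 360, nat_lit 324, nat_lit 216, nat_lit 180, nat_lit 144, nat_lit 108, nat_lit 72, nat_lit 360, nat_lit 324, nat_lit 216, nat_lit 180, nat_lit 144, nat_lit 108, nat_lit 72, nat_lit 360, nat_lit 324, nat_lit 216, nat_lit 180, nat_lit 144, nat_lit 108, nat_lit 72, nat_lit 360, nat_lit 324, nat_lit 216, nat_lit 180, nat_lit 144, nat_lit 108, nat_lit 72, nat_lit 360, nat_lit 324, nat_lit 216])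
noncomputable def r219 : WT := (.leaf (nat_lit 79963) [nat_lit 216, nat_lit 252, nat_lit 324, nat_lit 72, nat_lit 108, nat_lit 144, nat_lit 180, nat_lit 216, nat_lit 252, nat_lit 324, nat_lit 72, nat_lit 108, nat_lit 144, nat_lit 180, nat_lit 216, nat_lit 252, nat_lit 324, nat_lit 468, nat_lit 72, nat_lit 108, nat_lit 144, nat_lit 180, nat_lit 216, nat_lit 252, nat_lit 324, nat_lit 72, nat_lit 108, nat_lit 144, nat_lit 180, nat_lit 216, nat_lit 252, nat_lit 324, nat_lit 72, nat_lit 108, nat_lit 144, nat_lit 180, nat_lit 216, nat_lit 252, nat_lit 324, nat_lit 72, nat_lit 108, nat_lit 144, nat_lit 180, nat_lit 216, nat_lit 252, nat_lit 324, nat_lit 72, nat_lit 108, nat_lit 144, nat_lit 180, nat_lit 216, nat_lit 252, nat_lit 324, nat_lit 72, nat_lit 108, nat_lit 144, nat_lit 180, nat_lit 216, nat_lit 252, nat_lit 324, nat_lit 72, nat_lit 108, nat_lit 144])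
noncomputable def r220 : WT := (.leaf (nat_lit 79921) [nat_lit 216, nat_lit 252, nat_lit 324, nat_lit 72, nat_lit 108, nat_lit 144, nat_lit 180, nat_lit 216, nat_lit 252, nat_lit 324, nat_lit 72, nat_lit 108, nat_lit 144, nat_lit 180, nat_lit 216, nat_lit 252, nat_lit 324, nat_lit 72, nat_lit 108, nat_lit 144, nat_lit 180, nat_lit 216, nat_lit 252, nat_lit 324, nat_lit 72, nat_lit 108, nat_lit 144, nat_lit 180, nat_lit 216, nat_lit 252, nat_lit 324, nat_lit 72, nat_lit 108, nat_lit 144, nat_lit 180, nat_lit 216, nat_lit 252, nat_lit 324, nat_lit 468, nat_lit 72, nat_lit 108, nat_lit 144, nat_lit 180, nat_lit 216, nat_lit 252, nat_lit 324, nat_lit 72, nat_lit 108, nat_lit 144, nat_lit 180, nat_lit 216, nat_lit 252, nat_lit 324, nat_lit 72, nat_lit 108, nat_lit 144, nat_lit 180, nat_lit 216, nat_lit 252, nat_lit 324, nat_lit 72, nat_lit 108, nat_lit 144])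
noncomputable def r221 : WT := (.leaf (nat_lit 79907) [nat_lit 216, nat_lit 252, nat_lit 324, nat_lit 72, nat_lit 108, nat_lit 144, nat_lit 180, nat_lit 216, nat_lit 252, nat_lit 324, nat_lit 72, nat_lit 108, nat_lit 144, nat_lit 180, nat_lit 216, nat_lit 252, nat_lit 324, nat_lit 72, nat_lit 108, nat_lit 144, nat_lit 180, nat_lit 216, nat_lit 252, nat_lit 324, nat_lit 72, nat_lit 108, nat_lit 144, nat_lit 180, nat_lit 216, nat_lit 252, nat_lit 324, nat_lit 72, nat_lit 108, nat_lit 144, nat_lit 180, nat_lit 216, nat_lit 252, nat_lit 324, nat_lit 72, nat_lit 108, nat_lit 144, nat_lit 180, nat_lit 216, nat_lit 252, nat_lit 324, nat_lit 468, nat_lit 72, nat_lit 108, nat_lit 144, nat_lit 180, nat_lit 216, nat_lit 252, nat_lit 324, nat_lit 72, nat_lit 108, nat_lit 144, nat_lit 180, nat_lit 216, nat_lit 252, nat_lit 324, nat_lit 72, nat_lit 108, nat_lit 144])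
noncomputable def r222 : WT := (.node (nat_lit 49) (.node (nat_lit 47) (.node (nat_lit 46) r214 r215) (.node (nat_lit 48) r216 r217)) (.node (nat_lit 51) (.node (nat_lit 50) r218 r219) (.node (nat_lit 52) r220 r221)))
noncomputable def r223 : WT := (.leaf (nat_lit 79978) [nat_lit 144, nat_lit 108, nat_lit 72, nat_lit 324, nat_lit 252, nat_lit 216, nat_lit 180, nat_lit 144, nat_lit 108, nat_lit 72, nat_lit 468, nat_lit 324, nat_lit 252, nat_lit 216, nat_lit 180, nat_lit 144, nat_lit 108, nat_lit 72, nat_lit 324, nat_lit 252, nat_lit 216, nat_lit 180, nat_lit 144, nat_lit 108, nat_lit 72, nat_lit 324, nat_lit 252, nat_lit 216, nat_lit 180, nat_lit 144, nat_lit 108, nat_lit 72, nat_lit 324, nat_lit 252, nat_lit 216, nat_lit 180, nat_lit 144, nat_lit 108, nat_lit 72, nat_lit 324, nat_lit 252, nat_lit 216, nat_lit 180, nat_lit 144, nat_lit 108, nat_lit 72, nat_lit 324, nat_lit 252, nat_lit 216, nat_lit 180, nat_lit 144, nat_lit 108, nat_lit 72, nat_lit 324, nat_lit 252, nat_lit 216, nat_lit 180, nat_lit 144, nat_lit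 108, nat_lit 72, nat_lit 324, nat_lit 252, nat_lit 216])
noncomputable def r224 : WT := (.leaf (nat_lit 79922) [nat_lit 144, nat_lit 108, nat_lit 72, nat_lit 324, nat_lit 252, nat_lit 216, nat_lit 180, nat_lit 144, nat_lit 108, nat_lit 72, nat_lit 324, nat_lit 252, nat_lit 216, nat_lit 180, nat_lit 144, nat_lit 108, nat_lit 72, nat_lit 324, nat_lit 252, nat_lit 216, nat_lit 180, nat_lit 144, nat_lit 108, nat_lit 72, nat_lit 324, nat_lit 252, nat_lit 216, nat_lit 180, nat_lit 144, nat_lit 108, nat_lit 72, nat_lit 324, nat_lit 252, nat_lit 216, nat_lit 180, nat_lit 144, nat_lit 108, nat_lit 72, nat_lit 468, nat_lit 324, nat_lit 252, nat_lit 216, nat_lit 180, nat_lit 144, nat_lit 108, nat_lit 72, nat_lit 324, nat_lit 252, nat_lit 216, nat_lit 180, nat_lit 144, nat_lit 108, nat_lit 72, nat_lit 324, nat_lit 252, nat_lit 216, nat_lit 180, nat_lit 144, nat_lit 108, nat_lit 72, nat_lit 324, nat_lit 252, nat_lit 216])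
noncomputable def r225 : WT := (.leaf (nat_lit 84060) [nat_lit 216, nat_lit 324, nat_lit 360, nat_lit 72, nat_lit 108, nat_lit 144, nat_lit 180, nat_lit 216, nat_lit 324, nat_lit 360, nat_lit 72, nat_lit 108, nat_lit 144, nat_lit 180, nat_lit 216, nat_lit 324, nat_lit 360, nat_lit 468, nat_lit 72, nat_lit 108, nat_lit 144, nat_lit 180, nat_lit 216, nat_lit 324, nat_lit 360, nat_lit 72, nat_lit 108, nat_lit 144, nat_lit 180, nat_lit 216, nat_lit 324, nat_lit 360, nat_lit 72, nat_lit 108, nat_lit 144, nat_lit 180, nat_lit 216, nat_lit 324, nat_lit 360, nat_lit 72, nat_lit 108, nat_lit 144, nat_lit 180, nat_lit 216, nat_lit 324, nat_lit 360, nat_lit 72, nat_lit 108, nat_lit 144, nat_lit 180, nat_lit 216, nat_lit 324, nat_lit 360, nat_lit 72, nat_lit 108, nat_lit 144, nat_lit 180, nat_lit 216, nat_lit 324, nat_lit 360, nat_lit 72, nat_lit 108, nat_lit 144])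
noncomputable def r226 : WT := (.leaf (nat_lit 79949) [nat_lit 216, nat_lit 252, nat_lit 324, nat_lit 72, nat_lit 108, nat_lit 144, nat_lit 180, nat_lit 216, nat_lit 252, nat_lit 324, nat_lit 72, nat_lit 108, nat_lit 144, nat_lit 180, nat_lit 216, nat_lit 252, nat_lit 324, nat_lit 72, nat_lit 108, nat_lit 144, nat_lit 180, nat_lit 216, nat_lit 252, nat_lit 324, nat_lit 468, nat_lit 72, nat_lit 108, nat_lit 144, nat_lit 180, nat_lit 216, nat_lit 252, nat_lit 324, nat_lit 72, nat_lit 108, nat_lit 144, nat_lit 180, nat_lit 216, nat_lit 252, nat_lit 324, nat_lit 72, nat_lit 108, nat_lit 144, nat_lit 180, nat_lit 216, nat_lit 252, nat_lit 324, nat_lit 72, nat_lit 108, nat_lit 144, nat_lit 180, nat_lit 216, nat_lit 252, nat_lit 324, nat_lit 72, nat_lit 108, nat_lit 144, nat_lit 180, nat_lit 216, nat_lit 252, nat_lit 324, nat_lit 72, nat_lit 108, nat_lit 144])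
noncomputable def r227 : WT := (.leaf (nat_lit 80918) [nat_lit 324, nat_lit 360, nat_lit 180, nat_lit 144, nat_lit 108, nat_lit 72, nat_lit 432, nat_lit 468, nat_lit 180, nat_lit 216, nat_lit 252, nat_lit 288, nat_lit 396, nat_lit 180, nat_lit 324, nat_lit 360, nat_lit 180, nat_lit 144, nat_lit 108, nat_lit 72, nat_lit 432, nat_lit 468, nat_lit 180, nat_lit 216, nat_lit 252, nat_lit 288, nat_lit 396, nat_lit 180, nat_lit 324, nat_lit 360, nat_lit 180, nat_lit 144, nat_lit 108, nat_lit 72, nat_lit 432, nat_lit 468, nat_lit 180, nat_lit 216, nat_lit 252, nat_lit 288, nat_lit 396, nat_lit 180, nat_lit 324, nat_lit 360, nat_lit 180, nat_lit 144, nat_lit 108, nat_lit 72, nat_lit 432, nat_lit 468, nat_lit 180, nat_lit 216, nat_lit 252, nat_lit 288, nat_lit 396, nat_lit 180, nat_lit 324, nat_lit 360, nat_lit 180, nat_lit 144, nat_lit 108, nat_lit 72, nat_lit 432, nat_lit 468, nat_lit 180, nat_lit 216, nat_lit 252, nat_lit 288, nat_lit 396, nat_lit 180, nat_lit 324, nat_lit 360, nat_lit 180, nat_lit 144, nat_lit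 108, nat_lit 72, nat_lit 432, nat_lit 468, nat_lit 180, nat_lit 216, nat_lit 252, nat_lit 288, nat_lit 396, nat_lit 180, nat_lit 324, nat_lit 360, nat_lit 180, nat_lit 144, nat_lit 108, nat_lit 72, nat_lit 432, nat_lit 468, nat_lit 180, nat_lit 216, nat_lit 252, nat_lit 288, nat_lit 396, nat_lit 180, nat_lit 324, nat_lit 360, nat_lit 180, nat_lit 144, nat_lit 108, nat_lit 72, nat_lit 432, nat_lit 468, nat_lit 180, nat_lit 216, nat_lit 252, nat_lit 288, nat_lit 396, nat_lit 180, nat_lit 324, nat_lit 360, nat_lit 180, nat_lit 144, nat_lit 108, nat_lit 72, nat_lit 432, nat_lit 468, nat_lit 180, nat_lit 216, nat_lit 252, nat_lit 288, nat_lit 396, nat_lit 180, nat_lit 324, nat_lit 360, nat_lit 180, nat_lit 144, nat_lit 108, nat_lit 72, nat_lit 432, nat_lit 468, nat_lit 180, nat_lit 216, nat_lit 252, nat_lit 288, nat_lit 396, nat_lit 180, nat_lit 324, nat_lit 360, nat_lit 180, nat_lit 144, nat_lit 108, nat_lit 72, nat_lit 432, nat_lit 468, nat_lit 180, nat_lit 216, nat_lit 252, nat_lit 288, nat_lit 396, nat_lit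 180, nat_lit 324, nat_lit 360, nat_lit 180, nat_lit 144, nat_lit 108, nat_lit 72, nat_lit 432, nat_lit 468, nat_lit 180, nat_lit 216, nat_lit 252, nat_lit 288, nat_lit 396, nat_lit 180, nat_lit 324, nat_lit 360, nat_lit 180, nat_lit 144, nat_lit 108, nat_lit 72, nat_lit 432, nat_lit 468, nat_lit 180, nat_lit 216, nat_lit 252, nat_lit 288, nat_lit 396, nat_lit 180, nat_lit 324, nat_lit 360, nat_lit 180, nat_lit 144, nat_lit 108, nat_lit 72, nat_lit 432, nat_lit 468, nat_lit 180, nat_lit 216, nat_lit 252, nat_lit 288, nat_lit 396, nat_lit 180, nat_lit 324, nat_lit 360, nat_lit 180, nat_lit 144, nat_lit 108, nat_lit 72, nat_lit 432, nat_lit 468, nat_lit 180, nat_lit 216, nat_lit 252, nat_lit 288, nat_lit 396, nat_lit 180, nat_lit 324, nat_lit 360, nat_lit 180, nat_lit 144, nat_lit 108, nat_lit 72, nat_lit 432, nat_lit 468, nat_lit 180, nat_lit 216, nat_lit 252, nat_lit 288, nat_lit 396, nat_lit 180, nat_lit 324, nat_lit 360, nat_lit 180, nat_lit 144, nat_lit 108, nat_lit 72, nat_lit 432, nat_lit 468, nat_lit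 180, nat_lit 216, nat_lit 252, nat_lit 288, nat_lit 396])
noncomputable def r228 : WT := (.leaf (nat_lit 80923) [nat_lit 360, nat_lit 324, nat_lit 180, nat_lit 396, nat_lit 288, nat_lit 252, nat_lit 216, nat_lit 180, nat_lit 468, nat_lit 432, nat_lit 72, nat_lit 108, nat_lit 144, nat_lit 180, nat_lit 360, nat_lit 324, nat_lit 180, nat_lit 396, nat_lit 288, nat_lit 252, nat_lit 216, nat_lit 180, nat_lit 468, nat_lit 432, nat_lit 72, nat_lit 108, nat_lit 144, nat_lit 180, nat_lit 360, nat_lit 324, nat_lit 180, nat_lit 396, nat_lit 288, nat_lit 252, nat_lit 216, nat_lit 180, nat_lit 468, nat_lit 432, nat_lit 72, nat_lit 108, nat_lit 144, nat_lit 180, nat_lit 360, nat_lit 324, nat_lit 180, nat_lit 396, nat_lit 288, nat_lit 252, nat_lit 216, nat_lit 180, nat_lit 468, nat_lit 432, nat_lit 72, nat_lit 108, nat_lit 144, nat_lit 180, nat_lit 360, nat_lit 324, nat_lit 180, nat_lit 396, nat_lit 288, nat_lit 252, nat_lit 216, nat_lit 180, nat_lit 468, nat_lit 432, nat_lit 72, nat_lit 108, nat_lit 144, nat_lit 180, nat_lit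 360, nat_lit 324, nat_lit 180, nat_lit 396, nat_lit 288, nat_lit 252, nat_lit 216, nat_lit 180, nat_lit 468, nat_lit 432, nat_lit 72, nat_lit 108, nat_lit 144, nat_lit 180, nat_lit 360, nat_lit 324, nat_lit 180, nat_lit 396, nat_lit 288, nat_lit 252, nat_lit 216, nat_lit 180, nat_lit 468, nat_lit 432, nat_lit 72, nat_lit 108, nat_lit 144, nat_lit 180, nat_lit 360, nat_lit 324, nat_lit 180, nat_lit 396, nat_lit 288, nat_lit 252, nat_lit 216, nat_lit 180, nat_lit 468, nat_lit 432, nat_lit 72, nat_lit 108, nat_lit 144, nat_lit 180, nat_lit 360, nat_lit 324, nat_lit 180, nat_lit 396, nat_lit 288, nat_lit 252, nat_lit 216, nat_lit 180, nat_lit 468, nat_lit 432, nat_lit 72, nat_lit 108, nat_lit 144, nat_lit 180, nat_lit 360, nat_lit 324, nat_lit 180, nat_lit 396, nat_lit 288, nat_lit 252, nat_lit 216, nat_lit 180, nat_lit 468, nat_lit 432, nat_lit 72, nat_lit 108, nat_lit 144, nat_lit 180, nat_lit 360, nat_lit 324, nat_lit 180, nat_lit 396, nat_lit 288, nat_lit 252, nat_lit 216, nat_lit 180, nat_lit 468, nat_lit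 432, nat_lit 72, nat_lit 108, nat_lit 144, nat_lit 180, nat_lit 360, nat_lit 324, nat_lit 180, nat_lit 396, nat_lit 288, nat_lit 252, nat_lit 216, nat_lit 180, nat_lit 468, nat_lit 432, nat_lit 72, nat_lit 108, nat_lit 144, nat_lit 180, nat_lit 360, nat_lit 324, nat_lit 180, nat_lit 396, nat_lit 288, nat_lit 252, nat_lit 216, nat_lit 180, nat_lit 468, nat_lit 432, nat_lit 72, nat_lit 108, nat_lit 144, nat_lit 180, nat_lit 360, nat_lit 324, nat_lit 180, nat_lit 396, nat_lit 288, nat_lit 252, nat_lit 216, nat_lit 180, nat_lit 468, nat_lit 432, nat_lit 72, nat_lit 108, nat_lit 144, nat_lit 180, nat_lit 360, nat_lit 324, nat_lit 180, nat_lit 396, nat_lit 288, nat_lit 252, nat_lit 216, nat_lit 180, nat_lit 468, nat_lit 432, nat_lit 72, nat_lit 108, nat_lit 144, nat_lit 180, nat_lit 360, nat_lit 324, nat_lit 180, nat_lit 396, nat_lit 288, nat_lit 252, nat_lit 216, nat_lit 180, nat_lit 468, nat_lit 432, nat_lit 72, nat_lit 108, nat_lit 144, nat_lit 180, nat_lit 360, nat_lit 324, nat_lit 180, nat_lit 396, nat_lit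 288, nat_lit 252, nat_lit 216, nat_lit 180, nat_lit 468, nat_lit 432, nat_lit 72, nat_lit 108, nat_lit 144])
noncomputable def r229 : WT := (.leaf (nat_lit 80908) [nat_lit 216, nat_lit 252, nat_lit 288, nat_lit 396, nat_lit 180, nat_lit 324, nat_lit 360, nat_lit 180, nat_lit 144, nat_lit 108, nat_lit 72, nat_lit 432, nat_lit 468, nat_lit 180, nat_lit 216, nat_lit 252, nat_lit 288, nat_lit 396, nat_lit 180, nat_lit 324, nat_lit 360, nat_lit 180, nat_lit 144, nat_lit 108, nat_lit 72, nat_lit 432, nat_lit 468, nat_lit 180, nat_lit 216, nat_lit 252, nat_lit 288, nat_lit 396, nat_lit 180, nat_lit 324, nat_lit 360, nat_lit 180, nat_lit 144, nat_lit 108, nat_lit 72, nat_lit 432, nat_lit 468, nat_lit 180, nat_lit 216, nat_lit 252, nat_lit 288, nat_lit 396, nat_lit 180, nat_lit 324, nat_lit 360, nat_lit 180, nat_lit 144, nat_lit 108, nat_lit 72, nat_lit 432, nat_lit 468, nat_lit 180, nat_lit 216, nat_lit 252, nat_lit 288, nat_lit 396, nat_lit 180, nat_lit 324, nat_lit 360, nat_lit 180, nat_lit 144, nat_lit 108, nat_lit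 72, nat_lit 432, nat_lit 468, nat_lit 180, nat_lit 216, nat_lit 252, nat_lit 288, nat_lit 396, nat_lit 180, nat_lit 324, nat_lit 360, nat_lit 180, nat_lit 144, nat_lit 108, nat_lit 72, nat_lit 432, nat_lit 468, nat_lit 180, nat_lit 216, nat_lit 252, nat_lit 288, nat_lit 396, nat_lit 180, nat_lit 324, nat_lit 360, nat_lit 180, nat_lit 144, nat_lit 108, nat_lit 72, nat_lit 432, nat_lit 468, nat_lit 180, nat_lit 216, nat_lit 252, nat_lit 288, nat_lit 396, nat_lit 180, nat_lit 324, nat_lit 360, nat_lit 180, nat_lit 144, nat_lit 108, nat_lit 72, nat_lit 432, nat_lit 468, nat_lit 180, nat_lit 216, nat_lit 252, nat_lit 288, nat_lit 396, nat_lit 180, nat_lit 324, nat_lit 360, nat_lit 180, nat_lit 144, nat_lit 108, nat_lit 72, nat_lit 432, nat_lit 468, nat_lit 180, nat_lit 216, nat_lit 252, nat_lit 288, nat_lit 396, nat_lit 180, nat_lit 324, nat_lit 360, nat_lit 180, nat_lit 144, nat_lit 108, nat_lit 72, nat_lit 432, nat_lit 468, nat_lit 180, nat_lit 216, nat_lit 252, nat_lit 288, nat_lit 396, nat_lit 180, nat_lit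 324, nat_lit 360, nat_lit 180, nat_lit 144, nat_lit 108, nat_lit 72, nat_lit 432, nat_lit 468, nat_lit 180, nat_lit 216, nat_lit 252, nat_lit 288, nat_lit 396, nat_lit 180, nat_lit 324, nat_lit 360, nat_lit 180, nat_lit 144, nat_lit 108, nat_lit 72, nat_lit 432, nat_lit 468, nat_lit 180, nat_lit 216, nat_lit 252, nat_lit 288, nat_lit 396, nat_lit 180, nat_lit 324, nat_lit 360, nat_lit 180, nat_lit 144, nat_lit 108, nat_lit 72, nat_lit 432, nat_lit 468, nat_lit 180, nat_lit 216, nat_lit 252, nat_lit 288, nat_lit 396, nat_lit 180, nat_lit 324, nat_lit 360, nat_lit 180, nat_lit 144, nat_lit 108, nat_lit 72, nat_lit 432, nat_lit 468, nat_lit 180, nat_lit 216, nat_lit 252, nat_lit 288, nat_lit 396, nat_lit 180, nat_lit 324, nat_lit 360, nat_lit 180, nat_lit 144, nat_lit 108, nat_lit 72, nat_lit 432, nat_lit 468, nat_lit 180, nat_lit 216, nat_lit 252, nat_lit 288, nat_lit 396, nat_lit 180, nat_lit 324, nat_lit 360, nat_lit 180, nat_lit 144, nat_lit 108, nat_lit 72, nat_lit 432, nat_lit 468, nat_lit 180, nat_lit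 216, nat_lit 252, nat_lit 288, nat_lit 396, nat_lit 180, nat_lit 324, nat_lit 360, nat_lit 180, nat_lit 144, nat_lit 108, nat_lit 72, nat_lit 432, nat_lit 468])
noncomputable def r230 : WT := (.leaf (nat_lit 79935) [nat_lit 216, nat_lit 252, nat_lit 324, nat_lit 72, nat_lit 108, nat_lit 144, nat_lit 180, nat_lit 216, nat_lit 252, nat_lit 324, nat_lit 72, nat_lit 108, nat_lit 144, nat_lit 180, nat_lit 216, nat_lit 252, nat_lit 324, nat_lit 72, nat_lit 108, nat_lit 144, nat_lit 180, nat_lit 216, nat_lit 252, nat_lit 324, nat_lit 72, nat_lit 108, nat_lit 144, nat_lit 180, nat_lit 216, nat_lit 252, nat_lit 324, nat_lit 468, nat_lit 72, nat_lit 108, nat_lit 144, nat_lit 180, nat_lit 216, nat_lit 252, nat_lit 324, nat_lit 72, nat_lit 108, nat_lit 144, nat_lit 180, nat_lit 216, nat_lit 252, nat_lit 324, nat_lit 72, nat_lit 108, nat_lit 144, nat_lit 180, nat_lit 216, nat_lit 252, nat_lit 324, nat_lit 72, nat_lit 108, nat_lit 144, nat_lit 180, nat_lit 216, nat_lit 252, nat_lit 324, nat_lit 72, nat_lit 108, nat_lit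 144])
noncomputable def r231 : WT := (.leaf (nat_lit 84073) [nat_lit 144, nat_lit 108, nat_lit 72, nat_lit 360, nat_lit 324, nat_lit 216, nat_lit 180, nat_lit 144, nat_lit 108, nat_lit 72, nat_lit 468, nat_lit 360, nat_lit 324, nat_lit 216, nat_lit 180, nat_lit 144, nat_lit 108, nat_lit 72, nat_lit 360, nat_lit 324, nat_lit 216, nat_lit 180, nat_lit 144, nat_lit 108, nat_lit 72, nat_lit 360, nat_lit 324, nat_lit 216, nat_lit 180, nat_lit 144, nat_lit 108, nat_lit 72, nat_lit 360, nat_lit 324, nat_lit 216, nat_lit 180, nat_lit 144, nat_lit 108, nat_lit 72, nat_lit 360, nat_lit 324, nat_lit 216, nat_lit 180, nat_lit 144, nat_lit 108, nat_lit 72, nat_lit 360, nat_lit 324, nat_lit 216, nat_lit 180, nat_lit 144, nat_lit 108, nat_lit 72, nat_lit 360, nat_lit 324, nat_lit 216, nat_lit 180, nat_lit 144, nat_lit 108, nat_lit 72, nat_lit 360, nat_lit 324, nat_lit 216])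
noncomputable def r232 : WT := (.leaf (nat_lit 84045) [nat_lit 144, nat_lit 108, nat_lit 72, nat_lit 360, nat_lit 324, nat_lit 216, nat_lit 180, nat_lit 144, nat_lit 108, nat_lit 72, nat_lit 360, nat_lit 324, nat_lit 216, nat_lit 180, nat_lit 144, nat_lit 108, nat_lit 72, nat_lit 360, nat_lit 324, nat_lit 216, nat_lit 180, nat_lit 144, nat_lit 108, nat_lit 72, nat_lit 468, nat_lit 360, nat_lit 324, nat_lit 216, nat_lit 180, nat_lit 144, nat_lit 108, nat_lit 72, nat_lit 360, nat_lit 324, nat_lit 216, nat_lit 180, nat_lit 144, nat_lit 108, nat_lit 72, nat_lit 360, nat_lit 324, nat_lit 216, nat_lit 180, nat_lit 144, nat_lit 108, nat_lit 72, nat_lit 360, nat_lit 324, nat_lit 216, nat_lit 180, nat_lit 144, nat_lit 108, nat_lit 72, nat_lit 360, nat_lit 324, nat_lit 216, nat_lit 180, nat_lit 144, nat_lit 108, nat_lit 72, nat_lit 360, nat_lit 324, nat_lit 216])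
noncomputable def r233 : WT := (.leaf (nat_lit 84074) [nat_lit 216, nat_lit 324, nat_lit 360, nat_lit 72, nat_lit 108, nat_lit 144, nat_lit 180, nat_lit 216, nat_lit 324, nat_lit 360, nat_lit 468, nat_lit 72, nat_lit 108, nat_lit 144, nat_lit 180, nat_lit 216, nat_lit 324, nat_lit 360, nat_lit 72, nat_lit 108, nat_lit 144, nat_lit 180, nat_lit 216, nat_lit 324, nat_lit 360, nat_lit 72, nat_lit 108, nat_lit 144, nat_lit 180, nat_lit 216, nat_lit 324, nat_lit 360, nat_lit 72, nat_lit 108, nat_lit 144, nat_lit 180, nat_lit 216, nat_lit 324, nat_lit 360, nat_lit 72, nat_lit 108, nat_lit 144, nat_lit 180, nat_lit 216, nat_lit 324, nat_lit 360, nat_lit 72, nat_lit 108, nat_lit 144, nat_lit 180, nat_lit 216, nat_lit 324, nat_lit 360, nat_lit 72, nat_lit 108, nat_lit 144, nat_lit 180, nat_lit 216, nat_lit 324, nat_lit 360, nat_lit 72, nat_lit 108, nat_lit 144])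
noncomputable def r234 : WT := (.node (nat_lit 58) (.node (nat_lit 55) (.node (nat_lit 54) r223 r224) (.node (nat_lit 56) r225 (.node (nat_lit 57) r226 r227))) (.node (nat_lit 61) (.node (nat_lit 59) r228 (.node (nat_lit 60) r229 r230)) (.node (nat_lit 62) r231 (.node (nat_lit 63) r232 r233))))
noncomputable def r235 : WT := (.node (nat_lit 24) (.node (nat_lit 19) (.node (nat_lit 17) r178 (.node (nat_lit 18) r179 r180)) (.node (nat_lit 21) (.node (nat_lit 20) r181 r182) (.node (nat_lit 22) r183 r186))) (.node (nat_lit 34) (.node (nat_lit 28) (.node (nat_lit 26) r189 r192) (.node (nat_lit 30) r195 r200)) (.node (nat_lit 45) (.node (nat_lit 39) r206 r213) (.node (nat_lit 53) r222 r234))))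
noncomputable def r236 : WT := (.node (nat_lit 10) (.leaf (nat_lit 59392) [nat_lit 252, nat_lit 180, nat_lit 252]) (.node (nat_lit 11) (.leaf (nat_lit 58368) [nat_lit 216, nat_lit 180, nat_lit 216, nat_lit 180, nat_lit 216]) (.node (nat_lit 12) (.leaf (nat_lit 51202) [nat_lit 144, nat_lit 180, nat_lit 144, nat_lit 180, nat_lit 144]) (.node (nat_lit 16) r177 r235))))
noncomputable def w3 : WT := (.node (nat_lit 1) (.leaf (nat_lit 3072) [nat_lit 180]) (.node (nat_lit 4) (.node (nat_lit 2) (.leaf (nat_lit 63488) [nat_lit 360, nat_lit 180, nat_lit 360]) (.node (nat_lit 3) (.leaf (nat_lit 61440) [nat_lit 396, nat_lit 180, nat_lit 396]) (.leaf (nat_lit 60416) [nat_lit 288, nat_lit 180, nat_lit 288]))) (.node (nat_lit 7) (.node (nat_lit 5) (.leaf (nat_lit 16386) [nat_lit 468, nat_lit 180, nat_lit 468]) r171) (.node (nat_lit 9) r172 r236))))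
noncomputable def r237 : WT := (.node (nat_lit 6) (.leaf (nat_lit 27650) [nat_lit 432, nat_lit 216, nat_lit 432]) (.leaf (nat_lit 65536) [nat_lit 288, nat_lit 216, nat_lit 288]))
noncomputable def r238 : WT := (.node (nat_lit 8) (.leaf (nat_lit 36866) [nat_lit 72, nat_lit 216, nat_lit 72]) (.leaf (nat_lit 45058) [nat_lit 108, nat_lit 216, nat_lit 108]))
noncomputable def r239 : WT := (.leaf (nat_lit 79881) [nat_lit 252, nat_lit 324, nat_lit 72, nat_lit 108, nat_lit 144, nat_lit 180, nat_lit 216, nat_lit 252, nat_lit 324, nat_lit 72, nat_lit 108, nat_lit 144, nat_lit 180, nat_lit 216, nat_lit 252, nat_lit 324, nat_lit 72, nat_lit 108, nat_lit 144, nat_lit 180, nat_lit 216, nat_lit 252, nat_lit 324, nat_lit 72, nat_lit 108, nat_lit 144, nat_lit 180, nat_lit 216, nat_lit 252, nat_lit 324, nat_lit 72, nat_lit 108, nat_lit 144, nat_lit 180, nat_lit 216, nat_lit 252, nat_lit 324, nat_lit 72, nat_lit 108, nat_lit 144, nat_lit 180, nat_lit 216, nat_lit 252, nat_lit 324, nat_lit 72, nat_lit 108, nat_lit 144, nat_lit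 180, nat_lit 216, nat_lit 252, nat_lit 324, nat_lit 72, nat_lit 108, nat_lit 144, nat_lit 180, nat_lit 216, nat_lit 252, nat_lit 324, nat_lit 468, nat_lit 72, nat_lit 108, nat_lit 144, nat_lit 180])
noncomputable def r240 : WT := (.leaf (nat_lit 79878) [nat_lit 180, nat_lit 144, nat_lit 108, nat_lit 72, nat_lit 324, nat_lit 252, nat_lit 216, nat_lit 180, nat_lit 144, nat_lit 108, nat_lit 72, nat_lit 324, nat_lit 252, nat_lit 216, nat_lit 180, nat_lit 144, nat_lit 108, nat_lit 72, nat_lit 324, nat_lit 252, nat_lit 216, nat_lit 180, nat_lit 144, nat_lit 108, nat_lit 72, nat_lit 324, nat_lit 252, nat_lit 216, nat_lit 180, nat_lit 144, nat_lit 108, nat_lit 72, nat_lit 324, nat_lit 252, nat_lit 216, nat_lit 180, nat_lit 144, nat_lit 108, nat_lit 72, nat_lit 324, nat_lit 252, nat_lit 216, nat_lit 180, nat_lit 144, nat_lit 108, nat_lit 72, nat_lit 324, nat_lit 252, nat_lit 216, nat_lit 180, nat_lit 144, nat_lit 108, nat_lit 72, nat_lit 324, nat_lit 252, nat_lit 216, nat_lit 180, nat_lit 144, nat_lit 108, nat_lit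 72, nat_lit 468, nat_lit 324, nat_lit 252])
noncomputable def r241 : WT := (.leaf (nat_lit 83978) [nat_lit 324, nat_lit 360, nat_lit 72, nat_lit 108, nat_lit 144, nat_lit 180, nat_lit 216, nat_lit 324, nat_lit 360, nat_lit 72, nat_lit 108, nat_lit 144, nat_lit 180, nat_lit 216, nat_lit 324, nat_lit 360, nat_lit 72, nat_lit 108, nat_lit 144, nat_lit 180, nat_lit 216, nat_lit 324, nat_lit 360, nat_lit 72, nat_lit 108, nat_lit 144, nat_lit 180, nat_lit 216, nat_lit 324, nat_lit 360, nat_lit 72, nat_lit 108, nat_lit 144, nat_lit 180, nat_lit 216, nat_lit 324, nat_lit 360, nat_lit 72, nat_lit 108, nat_lit 144, nat_lit 180, nat_lit 216, nat_lit 324, nat_lit 360, nat_lit 72, nat_lit 108, nat_lit 144, nat_lit 180, nat_lit 216, nat_lit 324, nat_lit 360, nat_lit 72, nat_lit 108, nat_lit 144, nat_lit 180, nat_lit 216, nat_lit 324, nat_lit 360, nat_lit 468, nat_lit 72, nat_lit 108, nat_lit 144, nat_lit 180])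
noncomputable def r242 : WT := (.node (nat_lit 14) r240 r241)
noncomputable def r243 : WT := (.leaf (nat_lit 83973) [nat_lit 180, nat_lit 144, nat_lit 108, nat_lit 72, nat_lit 360, nat_lit 324, nat_lit 216, nat_lit 180, nat_lit 144, nat_lit 108, nat_lit 72, nat_lit 360, nat_lit 324, nat_lit 216, nat_lit 180, nat_lit 144, nat_lit 108, nat_lit 72, nat_lit 360, nat_lit 324, nat_lit 216, nat_lit 180, nat_lit 144, nat_lit 108, nat_lit 72, nat_lit 360, nat_lit 324, nat_lit 216, nat_lit 180, nat_lit 144, nat_lit 108, nat_lit 72, nat_lit 360, nat_lit 324, nat_lit 216, nat_lit 180, nat_lit 144, nat_lit 108, nat_lit 72, nat_lit 360, nat_lit 324, nat_lit 216, nat_lit 180, nat_lit 144, nat_lit 108, nat_lit 72, nat_lit 360, nat_lit 324, nat_lit 216, nat_lit 180, nat_lit 144, nat_lit 108, nat_lit 72, nat_lit 360, nat_lit 324, nat_lit 216, nat_lit 180, nat_lit 144, nat_lit 108, nat_lit 72, nat_lit 468, nat_lit 360, nat_lit 324])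
noncomputable def r244 : WT := (.leaf (nat_lit 85001) [nat_lit 180, nat_lit 108, nat_lit 144, nat_lit 180, nat_lit 360, nat_lit 324, nat_lit 180, nat_lit 252, nat_lit 216, nat_lit 180, nat_lit 108, nat_lit 144, nat_lit 180, nat_lit 360, nat_lit 324, nat_lit 180, nat_lit 252, nat_lit 216, nat_lit 180, nat_lit 108, nat_lit 144, nat_lit 180, nat_lit 360, nat_lit 324, nat_lit 180, nat_lit 252, nat_lit 216, nat_lit 180, nat_lit 108, nat_lit 144, nat_lit 180, nat_lit 360, nat_lit 324, nat_lit 180, nat_lit 252, nat_lit 216, nat_lit 180, nat_lit 108, nat_lit 144, nat_lit 180, nat_lit 360, nat_lit 324, nat_lit 180, nat_lit 252, nat_lit 216, nat_lit 180, nat_lit 108, nat_lit 144, nat_lit 180, nat_lit 360, nat_lit 324, nat_lit 180, nat_lit 252, nat_lit 216, nat_lit 180, nat_lit 108, nat_lit 144, nat_lit 180, nat_lit 360, nat_lit 324, nat_lit 180, nat_lit 252, nat_lit 216, nat_lit 180, nat_lit 108, nat_lit 144, nat_lit 180, nat_lit 360, nat_lit 324, nat_lit 180, nat_lit 252, nat_lit 216, nat_lit 180, nat_lit 108, nat_lit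 144, nat_lit 180, nat_lit 360, nat_lit 324, nat_lit 180, nat_lit 252, nat_lit 216, nat_lit 180, nat_lit 108, nat_lit 144, nat_lit 180, nat_lit 360, nat_lit 324, nat_lit 180, nat_lit 252])
noncomputable def r245 : WT := (.leaf (nat_lit 79892) [nat_lit 180, nat_lit 144, nat_lit 108, nat_lit 72, nat_lit 324, nat_lit 252, nat_lit 216, nat_lit 180, nat_lit 144, nat_lit 108, nat_lit 72, nat_lit 324, nat_lit 252, nat_lit 216, nat_lit 180, nat_lit 144, nat_lit 108, nat_lit 72, nat_lit 324, nat_lit 252, nat_lit 216, nat_lit 180, nat_lit 144, nat_lit 108, nat_lit 72, nat_lit 324, nat_lit 252, nat_lit 216, nat_lit 180, nat_lit 144, nat_lit 108, nat_lit 72, nat_lit 324, nat_lit 252, nat_lit 216, nat_lit 180, nat_lit 144, nat_lit 108, nat_lit 72, nat_lit 324, nat_lit 252, nat_lit 216, nat_lit 180, nat_lit 144, nat_lit 108, nat_lit 72, nat_lit 324, nat_lit 252, nat_lit 216, nat_lit 180, nat_lit 144, nat_lit 108, nat_lit 72, nat_lit 468, nat_lit 324, nat_lit 252, nat_lit 216, nat_lit 180, nat_lit 144, nat_lit 108, nat_lit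 72, nat_lit 324, nat_lit 252])
noncomputable def r246 : WT := (.leaf (nat_lit 85000) [nat_lit 252, nat_lit 180, nat_lit 324, nat_lit 360, nat_lit 180, nat_lit 144, nat_lit 108, nat_lit 180, nat_lit 216, nat_lit 252, nat_lit 180, nat_lit 324, nat_lit 360, nat_lit 180, nat_lit 144, nat_lit 108, nat_lit 180, nat_lit 216, nat_lit 252, nat_lit 180, nat_lit 324, nat_lit 360, nat_lit 180, nat_lit 144, nat_lit 108, nat_lit 180, nat_lit 216, nat_lit 252, nat_lit 180, nat_lit 324, nat_lit 360, nat_lit 180, nat_lit 144, nat_lit 108, nat_lit 180, nat_lit 216, nat_lit 252, nat_lit 180, nat_lit 324, nat_lit 360, nat_lit 180, nat_lit 144, nat_lit 108, nat_lit 180, nat_lit 216, nat_lit 252, nat_lit 180, nat_lit 324, nat_lit 360, nat_lit 180, nat_lit 144, nat_lit 108, nat_lit 180, nat_lit 216, nat_lit 252, nat_lit 180, nat_lit 324, nat_lit 360, nat_lit 180, nat_lit 144, nat_lit 108, nat_lit 180, nat_lit 216, nat_lit 252, nat_lit 180, nat_lit 324, nat_lit 360, nat_lit 180, nat_lit 144, nat_lit 108, nat_lit 180, nat_lit 216,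 nat_lit 252, nat_lit 180, nat_lit 324, nat_lit 360, nat_lit 180, nat_lit 144, nat_lit 108, nat_lit 180, nat_lit 216, nat_lit 252, nat_lit 180, nat_lit 324, nat_lit 360, nat_lit 180, nat_lit 144, nat_lit 108, nat_lit 180])
noncomputable def r247 : WT := (.leaf (nat_lit 81925) [nat_lit 180, nat_lit 144, nat_lit 108, nat_lit 72, nat_lit 432, nat_lit 324, nat_lit 252, nat_lit 216, nat_lit 180, nat_lit 144, nat_lit 108, nat_lit 72, nat_lit 432, nat_lit 324, nat_lit 252, nat_lit 216, nat_lit 180, nat_lit 144, nat_lit 108, nat_lit 72, nat_lit 432, nat_lit 324, nat_lit 252, nat_lit 216, nat_lit 180, nat_lit 144, nat_lit 108, nat_lit 72, nat_lit 432, nat_lit 324, nat_lit 252, nat_lit 216, nat_lit 180, nat_lit 144, nat_lit 108, nat_lit 72, nat_lit 432, nat_lit 324, nat_lit 252, nat_lit 216, nat_lit 180, nat_lit 144, nat_lit 108, nat_lit 72, nat_lit 432, nat_lit 324, nat_lit 252, nat_lit 216, nat_lit 180, nat_lit 144, nat_lit 108, nat_lit 72, nat_lit 432, nat_lit 324, nat_lit 252, nat_lit 216, nat_lit 180, nat_lit 144,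 nat_lit 108, nat_lit 72, nat_lit 432, nat_lit 324, nat_lit 252, nat_lit 216, nat_lit 180, nat_lit 144, nat_lit 108, nat_lit 72, nat_lit 432, nat_lit 324, nat_lit 252, nat_lit 216, nat_lit 180, nat_lit 144, nat_lit 108, nat_lit 72, nat_lit 432, nat_lit 324, nat_lit 252, nat_lit 216, nat_lit 180, nat_lit 144, nat_lit 108, nat_lit 72, nat_lit 432, nat_lit 324, nat_lit 252, nat_lit 216, nat_lit 180, nat_lit 144, nat_lit 108, nat_lit 72, nat_lit 432, nat_lit 324, nat_lit 252, nat_lit 216, nat_lit 180, nat_lit 144, nat_lit 108, nat_lit 72, nat_lit 432, nat_lit 324, nat_lit 252, nat_lit 216, nat_lit 180, nat_lit 144, nat_lit 108, nat_lit 72, nat_lit 432, nat_lit 324, nat_lit 252, nat_lit 216, nat_lit 180, nat_lit 144, nat_lit 108, nat_lit 72, nat_lit 432, nat_lit 324, nat_lit 252])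
noncomputable def r248 : WT := (.node (nat_lit 17) (.node (nat_lit 16) r243 r244) (.node (nat_lit 18) r245 (.node (nat_lit 19) r246 r247)))
noncomputable def r249 : WT := (.leaf (nat_lit 83987) [nat_lit 180, nat_lit 144, nat_lit 108, nat_lit 72, nat_lit 360, nat_lit 324, nat_lit 216, nat_lit 180, nat_lit 144, nat_lit 108, nat_lit 72, nat_lit 360, nat_lit 324, nat_lit 216, nat_lit 180, nat_lit 144, nat_lit 108, nat_lit 72, nat_lit 360, nat_lit 324, nat_lit 216, nat_lit 180, nat_lit 144, nat_lit 108, nat_lit 72, nat_lit 360, nat_lit 324, nat_lit 216, nat_lit 180, nat_lit 144, nat_lit 108, nat_lit 72, nat_lit 360, nat_lit 324, nat_lit 216, nat_lit 180, nat_lit 144, nat_lit 108, nat_lit 72, nat_lit 360, nat_lit 324, nat_lit 216, nat_lit 180, nat_lit 144, nat_lit 108, nat_lit 72, nat_lit 360, nat_lit 324, nat_lit 216, nat_lit 180, nat_lit 144, nat_lit 108, nat_lit 72, nat_lit 468, nat_lit 360, nat_lit 324, nat_lit 216, nat_lit 180, nat_lit 144, nat_lit 108, nat_lit 72, nat_lit 360, nat_lit 324])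
noncomputable def r250 : WT := (.leaf (nat_lit 81930) [nat_lit 252, nat_lit 324, nat_lit 432, nat_lit 72, nat_lit 108, nat_lit 144, nat_lit 180, nat_lit 216, nat_lit 252, nat_lit 324, nat_lit 432, nat_lit 72, nat_lit 108, nat_lit 144, nat_lit 180, nat_lit 216, nat_lit 252, nat_lit 324, nat_lit 432, nat_lit 72, nat_lit 108, nat_lit 144, nat_lit 180, nat_lit 216, nat_lit 252, nat_lit 324, nat_lit 432, nat_lit 72, nat_lit 108, nat_lit 144, nat_lit 180, nat_lit 216, nat_lit 252, nat_lit 324, nat_lit 432, nat_lit 72, nat_lit 108, nat_lit 144, nat_lit 180, nat_lit 216, nat_lit 252, nat_lit 324, nat_lit 432, nat_lit 72, nat_lit 108, nat_lit 144, nat_lit 180, nat_lit 216, nat_lit 252, nat_lit 324, nat_lit 432, nat_lit 72, nat_lit 108, nat_lit 144, nat_lit 180, nat_lit 216, nat_lit 252, nat_lit 324, nat_lit 432, nat_lit 72, nat_lit 108, nat_lit 144, nat_lit 180, nat_lit 216, nat_lit 252, nat_lit 324, nat_lit 432, nat_lit 72, nat_lit 108, nat_lit 144, nat_lit 180, nat_lit 216, nat_lit 252, nat_lit 324, nat_lit 432,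 nat_lit 72, nat_lit 108, nat_lit 144, nat_lit 180, nat_lit 216, nat_lit 252, nat_lit 324, nat_lit 432, nat_lit 72, nat_lit 108, nat_lit 144, nat_lit 180, nat_lit 216, nat_lit 252, nat_lit 324, nat_lit 432, nat_lit 72, nat_lit 108, nat_lit 144, nat_lit 180, nat_lit 216, nat_lit 252, nat_lit 324, nat_lit 432, nat_lit 72, nat_lit 108, nat_lit 144, nat_lit 180, nat_lit 216, nat_lit 252, nat_lit 324, nat_lit 432, nat_lit 72, nat_lit 108, nat_lit 144, nat_lit 180, nat_lit 216, nat_lit 252, nat_lit 324, nat_lit 432, nat_lit 72, nat_lit 108, nat_lit 144, nat_lit 180])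
noncomputable def r251 : WT := (.leaf (nat_lit 82949) [nat_lit 180, nat_lit 144, nat_lit 108, nat_lit 72, nat_lit 432, nat_lit 360, nat_lit 324, nat_lit 216, nat_lit 180, nat_lit 144, nat_lit 108, nat_lit 72, nat_lit 432, nat_lit 360, nat_lit 324, nat_lit 216, nat_lit 180, nat_lit 144, nat_lit 108, nat_lit 72, nat_lit 432, nat_lit 360, nat_lit 324, nat_lit 216, nat_lit 180, nat_lit 144, nat_lit 108, nat_lit 72, nat_lit 432, nat_lit 360, nat_lit 324, nat_lit 216, nat_lit 180, nat_lit 144, nat_lit 108, nat_lit 72, nat_lit 432, nat_lit 360, nat_lit 324, nat_lit 216, nat_lit 180, nat_lit 144, nat_lit 108, nat_lit 72, nat_lit 432, nat_lit 360, nat_lit 324, nat_lit 216, nat_lit 180, nat_lit 144, nat_lit 108, nat_lit 72, nat_lit 432, nat_lit 360, nat_lit 324, nat_lit 216, nat_lit 180, nat_lit 144, nat_lit 108, nat_lit 72, nat_lit 432, nat_lit 360, nat_lit 324, nat_lit 216, nat_lit 180, nat_lit 144, nat_lit 108, nat_lit 72, nat_lit 432, nat_lit 360, nat_lit 324, nat_lit 216, nat_lit 180, nat_lit 144, nat_lit 108,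 nat_lit 72, nat_lit 432, nat_lit 360, nat_lit 324, nat_lit 216, nat_lit 180, nat_lit 144, nat_lit 108, nat_lit 72, nat_lit 432, nat_lit 360, nat_lit 324, nat_lit 216, nat_lit 180, nat_lit 144, nat_lit 108, nat_lit 72, nat_lit 432, nat_lit 360, nat_lit 324, nat_lit 216, nat_lit 180, nat_lit 144, nat_lit 108, nat_lit 72, nat_lit 432, nat_lit 360, nat_lit 324, nat_lit 216, nat_lit 180, nat_lit 144, nat_lit 108, nat_lit 72, nat_lit 432, nat_lit 360, nat_lit 324, nat_lit 216, nat_lit 180, nat_lit 144, nat_lit 108, nat_lit 72, nat_lit 432, nat_lit 360, nat_lit 324])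
noncomputable def r252 : WT := (.leaf (nat_lit 80910) [nat_lit 252, nat_lit 288, nat_lit 396, nat_lit 180, nat_lit 324, nat_lit 360, nat_lit 180, nat_lit 144, nat_lit 108, nat_lit 72, nat_lit 432, nat_lit 468, nat_lit 180, nat_lit 216, nat_lit 252, nat_lit 288, nat_lit 396, nat_lit 180, nat_lit 324, nat_lit 360, nat_lit 180, nat_lit 144, nat_lit 108, nat_lit 72, nat_lit 432, nat_lit 468, nat_lit 180, nat_lit 216, nat_lit 252, nat_lit 288, nat_lit 396, nat_lit 180, nat_lit 324, nat_lit 360, nat_lit 180, nat_lit 144, nat_lit 108, nat_lit 72, nat_lit 432, nat_lit 468, nat_lit 180, nat_lit 216, nat_lit 252, nat_lit 288, nat_lit 396, nat_lit 180, nat_lit 324, nat_lit 360, nat_lit 180, nat_lit 144, nat_lit 108, nat_lit 72, nat_lit 432, nat_lit 468, nat_lit 180, nat_lit 216, nat_lit 252, nat_lit 288, nat_lit 396, nat_lit 180, nat_lit 324, nat_lit 360, nat_lit 180, nat_lit 144, nat_lit 108, nat_lit 72, nat_lit 432, nat_lit 468, nat_lit 180, nat_lit 216, nat_lit 252, nat_lit 288, nat_lit 396, nat_lit 180, nat_lit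 324, nat_lit 360, nat_lit 180, nat_lit 144, nat_lit 108, nat_lit 72, nat_lit 432, nat_lit 468, nat_lit 180, nat_lit 216, nat_lit 252, nat_lit 288, nat_lit 396, nat_lit 180, nat_lit 324, nat_lit 360, nat_lit 180, nat_lit 144, nat_lit 108, nat_lit 72, nat_lit 432, nat_lit 468, nat_lit 180, nat_lit 216, nat_lit 252, nat_lit 288, nat_lit 396, nat_lit 180, nat_lit 324, nat_lit 360, nat_lit 180, nat_lit 144, nat_lit 108, nat_lit 72, nat_lit 432, nat_lit 468, nat_lit 180, nat_lit 216, nat_lit 252, nat_lit 288, nat_lit 396, nat_lit 180, nat_lit 324, nat_lit 360, nat_lit 180, nat_lit 144, nat_lit 108, nat_lit 72, nat_lit 432, nat_lit 468, nat_lit 180, nat_lit 216, nat_lit 252, nat_lit 288, nat_lit 396, nat_lit 180, nat_lit 324, nat_lit 360, nat_lit 180, nat_lit 144, nat_lit 108, nat_lit 72, nat_lit 432, nat_lit 468, nat_lit 180, nat_lit 216, nat_lit 252, nat_lit 288, nat_lit 396, nat_lit 180, nat_lit 324, nat_lit 360, nat_lit 180, nat_lit 144, nat_lit 108, nat_lit 72, nat_lit 432, nat_lit 468, nat_lit 180, nat_lit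 216, nat_lit 252, nat_lit 288, nat_lit 396, nat_lit 180, nat_lit 324, nat_lit 360, nat_lit 180, nat_lit 144, nat_lit 108, nat_lit 72, nat_lit 432, nat_lit 468, nat_lit 180, nat_lit 216, nat_lit 252, nat_lit 288, nat_lit 396, nat_lit 180, nat_lit 324, nat_lit 360, nat_lit 180, nat_lit 144, nat_lit 108, nat_lit 72, nat_lit 432, nat_lit 468, nat_lit 180, nat_lit 216, nat_lit 252, nat_lit 288, nat_lit 396, nat_lit 180, nat_lit 324, nat_lit 360, nat_lit 180, nat_lit 144, nat_lit 108, nat_lit 72, nat_lit 432, nat_lit 468, nat_lit 180, nat_lit 216, nat_lit 252, nat_lit 288, nat_lit 396, nat_lit 180, nat_lit 324, nat_lit 360, nat_lit 180, nat_lit 144, nat_lit 108, nat_lit 72, nat_lit 432, nat_lit 468, nat_lit 180, nat_lit 216, nat_lit 252, nat_lit 288, nat_lit 396, nat_lit 180, nat_lit 324, nat_lit 360, nat_lit 180, nat_lit 144, nat_lit 108, nat_lit 72, nat_lit 432, nat_lit 468, nat_lit 180, nat_lit 216, nat_lit 252, nat_lit 288, nat_lit 396, nat_lit 180, nat_lit 324, nat_lit 360, nat_lit 180, nat_lit 144, nat_lit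 108, nat_lit 72, nat_lit 432, nat_lit 468, nat_lit 180])
noncomputable def r253 : WT := (.leaf (nat_lit 82954) [nat_lit 324, nat_lit 360, nat_lit 432, nat_lit 72, nat_lit 108, nat_lit 144, nat_lit 180, nat_lit 216, nat_lit 324, nat_lit 360, nat_lit 432, nat_lit 72, nat_lit 108, nat_lit 144, nat_lit 180, nat_lit 216, nat_lit 324, nat_lit 360, nat_lit 432, nat_lit 72, nat_lit 108, nat_lit 144, nat_lit 180, nat_lit 216, nat_lit 324, nat_lit 360, nat_lit 432, nat_lit 72, nat_lit 108, nat_lit 144, nat_lit 180, nat_lit 216, nat_lit 324, nat_lit 360, nat_lit 432, nat_lit 72, nat_lit 108, nat_lit 144, nat_lit 180, nat_lit 216, nat_lit 324, nat_lit 360, nat_lit 432, nat_lit 72, nat_lit 108, nat_lit 144, nat_lit 180, nat_lit 216, nat_lit 324, nat_lit 360, nat_lit 432, nat_lit 72, nat_lit 108, nat_lit 144, nat_lit 180, nat_lit 216, nat_lit 324, nat_lit 360, nat_lit 432, nat_lit 72, nat_lit 108, nat_lit 144, nat_lit 180, nat_lit 216, nat_lit 324, nat_lit 360, nat_lit 432, nat_lit 72, nat_lit 108, nat_lit 144, nat_lit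 180, nat_lit 216, nat_lit 324, nat_lit 360, nat_lit 432, nat_lit 72, nat_lit 108, nat_lit 144, nat_lit 180, nat_lit 216, nat_lit 324, nat_lit 360, nat_lit 432, nat_lit 72, nat_lit 108, nat_lit 144, nat_lit 180, nat_lit 216, nat_lit 324, nat_lit 360, nat_lit 432, nat_lit 72, nat_lit 108, nat_lit 144, nat_lit 180, nat_lit 216, nat_lit 324, nat_lit 360, nat_lit 432, nat_lit 72, nat_lit 108, nat_lit 144, nat_lit 180, nat_lit 216, nat_lit 324, nat_lit 360, nat_lit 432, nat_lit 72, nat_lit 108, nat_lit 144, nat_lit 180, nat_lit 216, nat_lit 324, nat_lit 360, nat_lit 432, nat_lit 72, nat_lit 108, nat_lit 144, nat_lit 180])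
noncomputable def r254 : WT := (.leaf (nat_lit 79993) [nat_lit 252, nat_lit 324, nat_lit 468, nat_lit 72, nat_lit 108, nat_lit 144, nat_lit 180, nat_lit 216, nat_lit 252, nat_lit 324, nat_lit 72, nat_lit 108, nat_lit 144, nat_lit 180, nat_lit 216, nat_lit 252, nat_lit 324, nat_lit 72, nat_lit 108, nat_lit 144, nat_lit 180, nat_lit 216, nat_lit 252, nat_lit 324, nat_lit 72, nat_lit 108, nat_lit 144, nat_lit 180, nat_lit 216, nat_lit 252, nat_lit 324, nat_lit 72, nat_lit 108, nat_lit 144, nat_lit 180, nat_lit 216, nat_lit 252, nat_lit 324, nat_lit 72, nat_lit 108, nat_lit 144, nat_lit 180, nat_lit 216, nat_lit 252, nat_lit 324, nat_lit 72, nat_lit 108, nat_lit 144, nat_lit 180, nat_lit 216, nat_lit 252, nat_lit 324, nat_lit 72, nat_lit 108, nat_lit 144, nat_lit 180, nat_lit 216, nat_lit 252, nat_lit 324, nat_lit 72, nat_lit 108, nat_lit 144, nat_lit 180])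
noncomputable def r255 : WT := (.leaf (nat_lit 80909) [nat_lit 180, nat_lit 468, nat_lit 432, nat_lit 72, nat_lit 108, nat_lit 144, nat_lit 180, nat_lit 360, nat_lit 324, nat_lit 180, nat_lit 396, nat_lit 288, nat_lit 252, nat_lit 216, nat_lit 180, nat_lit 468, nat_lit 432, nat_lit 72, nat_lit 108, nat_lit 144, nat_lit 180, nat_lit 360, nat_lit 324, nat_lit 180, nat_lit 396, nat_lit 288, nat_lit 252, nat_lit 216, nat_lit 180, nat_lit 468, nat_lit 432, nat_lit 72, nat_lit 108, nat_lit 144, nat_lit 180, nat_lit 360, nat_lit 324, nat_lit 180, nat_lit 396, nat_lit 288, nat_lit 252, nat_lit 216, nat_lit 180, nat_lit 468, nat_lit 432, nat_lit 72, nat_lit 108, nat_lit 144, nat_lit 180, nat_lit 360, nat_lit 324, nat_lit 180, nat_lit 396, nat_lit 288, nat_lit 252, nat_lit 216, nat_lit 180, nat_lit 468, nat_lit 432, nat_lit 72, nat_lit 108, nat_lit 144, nat_lit 180, nat_lit 360, nat_lit 324, nat_lit 180, nat_lit 396, nat_lit 288, nat_lit 252, nat_lit 216, nat_lit 180, nat_lit 468, nat_lit 432, nat_lit 72, nat_lit 108,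 nat_lit 144, nat_lit 180, nat_lit 360, nat_lit 324, nat_lit 180, nat_lit 396, nat_lit 288, nat_lit 252, nat_lit 216, nat_lit 180, nat_lit 468, nat_lit 432, nat_lit 72, nat_lit 108, nat_lit 144, nat_lit 180, nat_lit 360, nat_lit 324, nat_lit 180, nat_lit 396, nat_lit 288, nat_lit 252, nat_lit 216, nat_lit 180, nat_lit 468, nat_lit 432, nat_lit 72, nat_lit 108, nat_lit 144, nat_lit 180, nat_lit 360, nat_lit 324, nat_lit 180, nat_lit 396, nat_lit 288, nat_lit 252, nat_lit 216, nat_lit 180, nat_lit 468, nat_lit 432, nat_lit 72, nat_lit 108, nat_lit 144, nat_lit 180, nat_lit 360, nat_lit 324, nat_lit 180, nat_lit 396, nat_lit 288, nat_lit 252, nat_lit 216, nat_lit 180, nat_lit 468, nat_lit 432, nat_lit 72, nat_lit 108, nat_lit 144, nat_lit 180, nat_lit 360, nat_lit 324, nat_lit 180, nat_lit 396, nat_lit 288, nat_lit 252, nat_lit 216, nat_lit 180, nat_lit 468, nat_lit 432, nat_lit 72, nat_lit 108, nat_lit 144, nat_lit 180, nat_lit 360, nat_lit 324, nat_lit 180, nat_lit 396, nat_lit 288, nat_lit 252, nat_lit 216,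 nat_lit 180, nat_lit 468, nat_lit 432, nat_lit 72, nat_lit 108, nat_lit 144, nat_lit 180, nat_lit 360, nat_lit 324, nat_lit 180, nat_lit 396, nat_lit 288, nat_lit 252, nat_lit 216, nat_lit 180, nat_lit 468, nat_lit 432, nat_lit 72, nat_lit 108, nat_lit 144, nat_lit 180, nat_lit 360, nat_lit 324, nat_lit 180, nat_lit 396, nat_lit 288, nat_lit 252, nat_lit 216, nat_lit 180, nat_lit 468, nat_lit 432, nat_lit 72, nat_lit 108, nat_lit 144, nat_lit 180, nat_lit 360, nat_lit 324, nat_lit 180, nat_lit 396, nat_lit 288, nat_lit 252, nat_lit 216, nat_lit 180, nat_lit 468, nat_lit 432, nat_lit 72, nat_lit 108, nat_lit 144, nat_lit 180, nat_lit 360, nat_lit 324, nat_lit 180, nat_lit 396, nat_lit 288, nat_lit 252, nat_lit 216, nat_lit 180, nat_lit 468, nat_lit 432, nat_lit 72, nat_lit 108, nat_lit 144, nat_lit 180, nat_lit 360, nat_lit 324, nat_lit 180, nat_lit 396, nat_lit 288, nat_lit 252, nat_lit 216, nat_lit 180, nat_lit 468, nat_lit 432, nat_lit 72, nat_lit 108, nat_lit 144, nat_lit 180, nat_lit 360, nat_lit 324,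 nat_lit 180, nat_lit 396, nat_lit 288, nat_lit 252])
noncomputable def r256 : WT := (.leaf (nat_lit 84090) [nat_lit 324, nat_lit 360, nat_lit 468, nat_lit 72, nat_lit 108, nat_lit 144, nat_lit 180, nat_lit 216, nat_lit 324, nat_lit 360, nat_lit 72, nat_lit 108, nat_lit 144, nat_lit 180, nat_lit 216, nat_lit 324, nat_lit 360, nat_lit 72, nat_lit 108, nat_lit 144, nat_lit 180, nat_lit 216, nat_lit 324, nat_lit 360, nat_lit 72, nat_lit 108, nat_lit 144, nat_lit 180, nat_lit 216, nat_lit 324, nat_lit 360, nat_lit 72, nat_lit 108, nat_lit 144, nat_lit 180, nat_lit 216, nat_lit 324, nat_lit 360, nat_lit 72, nat_lit 108, nat_lit 144, nat_lit 180, nat_lit 216, nat_lit 324, nat_lit 360, nat_lit 72, nat_lit 108, nat_lit 144, nat_lit 180, nat_lit 216, nat_lit 324, nat_lit 360, nat_lit 72, nat_lit 108, nat_lit 144, nat_lit 180, nat_lit 216, nat_lit 324, nat_lit 360, nat_lit 72, nat_lit 108, nat_lit 144, nat_lit 180])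
noncomputable def r257 : WT := (.node (nat_lit 27) r255 r256)
noncomputable def r258 : WT := (.leaf (nat_lit 83992) [nat_lit 324, nat_lit 360, nat_lit 72, nat_lit 108, nat_lit 144, nat_lit 180, nat_lit 216, nat_lit 324, nat_lit 360, nat_lit 72, nat_lit 108, nat_lit 144, nat_lit 180, nat_lit 216, nat_lit 324, nat_lit 360, nat_lit 72, nat_lit 108, nat_lit 144, nat_lit 180, nat_lit 216, nat_lit 324, nat_lit 360, nat_lit 72, nat_lit 108, nat_lit 144, nat_lit 180, nat_lit 216, nat_lit 324, nat_lit 360, nat_lit 72, nat_lit 108, nat_lit 144, nat_lit 180, nat_lit 216, nat_lit 324, nat_lit 360, nat_lit 72, nat_lit 108, nat_lit 144, nat_lit 180, nat_lit 216, nat_lit 324, nat_lit 360, nat_lit 72, nat_lit 108, nat_lit 144, nat_lit 180, nat_lit 216, nat_lit 324, nat_lit 360, nat_lit 468, nat_lit 72, nat_lit 108, nat_lit 144, nat_lit 180, nat_lit 216, nat_lit 324, nat_lit 360, nat_lit 72, nat_lit 108, nat_lit 144, nat_lit 180])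
noncomputable def r259 : WT := (.leaf (nat_lit 84076) [nat_lit 324, nat_lit 360, nat_lit 72, nat_lit 108, nat_lit 144, nat_lit 180, nat_lit 216, nat_lit 324, nat_lit 360, nat_lit 468, nat_lit 72, nat_lit 108, nat_lit 144, nat_lit 180, nat_lit 216, nat_lit 324, nat_lit 360, nat_lit 72, nat_lit 108, nat_lit 144, nat_lit 180, nat_lit 216, nat_lit 324, nat_lit 360, nat_lit 72, nat_lit 108, nat_lit 144, nat_lit 180, nat_lit 216, nat_lit 324, nat_lit 360, nat_lit 72, nat_lit 108, nat_lit 144, nat_lit 180, nat_lit 216, nat_lit 324, nat_lit 360, nat_lit 72, nat_lit 108, nat_lit 144, nat_lit 180, nat_lit 216, nat_lit 324, nat_lit 360, nat_lit 72, nat_lit 108, nat_lit 144, nat_lit 180, nat_lit 216, nat_lit 324, nat_lit 360, nat_lit 72, nat_lit 108, nat_lit 144, nat_lit 180, nat_lit 216, nat_lit 324, nat_lit 360, nat_lit 72, nat_lit 108, nat_lit 144, nat_lit 180])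
noncomputable def r260 : WT := (.node (nat_lit 29) r258 r259)
noncomputable def r261 : WT := (.leaf (nat_lit 84006) [nat_lit 324, nat_lit 360, nat_lit 72, nat_lit 108, nat_lit 144, nat_lit 180, nat_lit 216, nat_lit 324, nat_lit 360, nat_lit 72, nat_lit 108, nat_lit 144, nat_lit 180, nat_lit 216, nat_lit 324, nat_lit 360, nat_lit 72, nat_lit 108, nat_lit 144, nat_lit 180, nat_lit 216, nat_lit 324, nat_lit 360, nat_lit 72, nat_lit 108, nat_lit 144, nat_lit 180, nat_lit 216, nat_lit 324, nat_lit 360, nat_lit 72, nat_lit 108, nat_lit 144, nat_lit 180, nat_lit 216, nat_lit 324, nat_lit 360, nat_lit 72, nat_lit 108, nat_lit 144, nat_lit 180, nat_lit 216, nat_lit 324, nat_lit 360, nat_lit 468, nat_lit 72, nat_lit 108, nat_lit 144, nat_lit 180, nat_lit 216, nat_lit 324, nat_lit 360, nat_lit 72, nat_lit 108, nat_lit 144, nat_lit 180, nat_lit 216, nat_lit 324, nat_lit 360, nat_lit 72, nat_lit 108, nat_lit 144, nat_lit 180])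
noncomputable def r262 : WT := (.leaf (nat_lit 79895) [nat_lit 252, nat_lit 324, nat_lit 72, nat_lit 108, nat_lit 144, nat_lit 180, nat_lit 216, nat_lit 252, nat_lit 324, nat_lit 72, nat_lit 108, nat_lit 144, nat_lit 180, nat_lit 216, nat_lit 252, nat_lit 324, nat_lit 72, nat_lit 108, nat_lit 144, nat_lit 180, nat_lit 216, nat_lit 252, nat_lit 324, nat_lit 72, nat_lit 108, nat_lit 144, nat_lit 180, nat_lit 216, nat_lit 252, nat_lit 324, nat_lit 72, nat_lit 108, nat_lit 144, nat_lit 180, nat_lit 216, nat_lit 252, nat_lit 324, nat_lit 72, nat_lit 108, nat_lit 144, nat_lit 180, nat_lit 216, nat_lit 252, nat_lit 324, nat_lit 72, nat_lit 108, nat_lit 144, nat_lit 180, nat_lit 216, nat_lit 252, nat_lit 324, nat_lit 468, nat_lit 72, nat_lit 108, nat_lit 144, nat_lit 180, nat_lit 216, nat_lit 252, nat_lit 324, nat_lit 72, nat_lit 108, nat_lit 144, nat_lit 180])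
noncomputable def r263 : WT := (.node (nat_lit 31) r261 r262)
noncomputable def r264 : WT := (.leaf (nat_lit 79990) [nat_lit 180, nat_lit 144, nat_lit 108, nat_lit 72, nat_lit 468, nat_lit 324, nat_lit 252, nat_lit 216, nat_lit 180, nat_lit 144, nat_lit 108, nat_lit 72, nat_lit 324, nat_lit 252, nat_lit 216, nat_lit 180, nat_lit 144, nat_lit 108, nat_lit 72, nat_lit 324, nat_lit 252, nat_lit 216, nat_lit 180, nat_lit 144, nat_lit 108, nat_lit 72, nat_lit 324, nat_lit 252, nat_lit 216, nat_lit 180, nat_lit 144, nat_lit 108, nat_lit 72, nat_lit 324, nat_lit 252, nat_lit 216, nat_lit 180, nat_lit 144, nat_lit 108, nat_lit 72, nat_lit 324, nat_lit 252, nat_lit 216, nat_lit 180, nat_lit 144, nat_lit 108, nat_lit 72, nat_lit 324, nat_lit 252, nat_lit 216, nat_lit 180, nat_lit 144, nat_lit 108, nat_lit 72, nat_lit 324, nat_lit 252, nat_lit 216, nat_lit 180, nat_lit 144, nat_lit 108, nat_lit 72, nat_lit 324, nat_lit 252])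
noncomputable def r265 : WT := (.leaf (nat_lit 79951) [nat_lit 252, nat_lit 324, nat_lit 72, nat_lit 108, nat_lit 144, nat_lit 180, nat_lit 216, nat_lit 252, nat_lit 324, nat_lit 72, nat_lit 108, nat_lit 144, nat_lit 180, nat_lit 216, nat_lit 252, nat_lit 324, nat_lit 72, nat_lit 108, nat_lit 144, nat_lit 180, nat_lit 216, nat_lit 252, nat_lit 324, nat_lit 468, nat_lit 72, nat_lit 108, nat_lit 144, nat_lit 180, nat_lit 216, nat_lit 252, nat_lit 324, nat_lit 72, nat_lit 108, nat_lit 144, nat_lit 180, nat_lit 216, nat_lit 252, nat_lit 324, nat_lit 72, nat_lit 108, nat_lit 144, nat_lit 180, nat_lit 216, nat_lit 252, nat_lit 324, nat_lit 72, nat_lit 108, nat_lit 144, nat_lit 180, nat_lit 216, nat_lit 252, nat_lit 324, nat_lit 72, nat_lit 108, nat_lit 144, nat_lit 180, nat_lit 216, nat_lit 252, nat_lit 324, nat_lit 72, nat_lit 108, nat_lit 144, nat_lit 180])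
noncomputable def r266 : WT := (.leaf (nat_lit 79976) [nat_lit 180, nat_lit 144, nat_lit 108, nat_lit 72, nat_lit 324, nat_lit 252, nat_lit 216, nat_lit 180, nat_lit 144, nat_lit 108, nat_lit 72, nat_lit 468, nat_lit 324, nat_lit 252, nat_lit 216, nat_lit 180, nat_lit 144, nat_lit 108, nat_lit 72, nat_lit 324, nat_lit 252, nat_lit 216, nat_lit 180, nat_lit 144, nat_lit 108, nat_lit 72, nat_lit 324, nat_lit 252, nat_lit 216, nat_lit 180, nat_lit 144, nat_lit 108, nat_lit 72, nat_lit 324, nat_lit 252, nat_lit 216, nat_lit 180, nat_lit 144, nat_lit 108, nat_lit 72, nat_lit 324, nat_lit 252, nat_lit 216, nat_lit 180, nat_lit 144, nat_lit 108, nat_lit 72, nat_lit 324, nat_lit 252, nat_lit 216, nat_lit 180, nat_lit 144, nat_lit 108, nat_lit 72, nat_lit 324, nat_lit 252, nat_lit 216, nat_lit 180, nat_lit 144, nat_lit 108, nat_lit 72, nat_lit 324, nat_lit 252])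
noncomputable def r267 : WT := (.node (nat_lit 33) r264 (.node (nat_lit 34) r265 r266))
noncomputable def r268 : WT := (.leaf (nat_lit 84062) [nat_lit 324, nat_lit 360, nat_lit 72, nat_lit 108, nat_lit 144, nat_lit 180, nat_lit 216, nat_lit 324, nat_lit 360, nat_lit 72, nat_lit 108, nat_lit 144, nat_lit 180, nat_lit 216, nat_lit 324, nat_lit 360, nat_lit 468, nat_lit 72, nat_lit 108, nat_lit 144, nat_lit 180, nat_lit 216, nat_lit 324, nat_lit 360, nat_lit 72, nat_lit 108, nat_lit 144, nat_lit 180, nat_lit 216, nat_lit 324, nat_lit 360, nat_lit 72, nat_lit 108, nat_lit 144, nat_lit 180, nat_lit 216, nat_lit 324, nat_lit 360, nat_lit 72, nat_lit 108, nat_lit 144, nat_lit 180, nat_lit 216, nat_lit 324, nat_lit 360, nat_lit 72, nat_lit 108, nat_lit 144, nat_lit 180, nat_lit 216, nat_lit 324, nat_lit 360, nat_lit 72, nat_lit 108, nat_lit 144, nat_lit 180, nat_lit 216, nat_lit 324, nat_lit 360, nat_lit 72, nat_lit 108, nat_lit 144, nat_lit 180])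
noncomputable def r269 : WT := (.leaf (nat_lit 84015) [nat_lit 180, nat_lit 144, nat_lit 108, nat_lit 72, nat_lit 360, nat_lit 324, nat_lit 216, nat_lit 180, nat_lit 144, nat_lit 108, nat_lit 72, nat_lit 360, nat_lit 324, nat_lit 216, nat_lit 180, nat_lit 144, nat_lit 108, nat_lit 72, nat_lit 360, nat_lit 324, nat_lit 216, nat_lit 180, nat_lit 144, nat_lit 108, nat_lit 72, nat_lit 360, nat_lit 324, nat_lit 216, nat_lit 180, nat_lit 144, nat_lit 108, nat_lit 72, nat_lit 360, nat_lit 324, nat_lit 216, nat_lit 180, nat_lit 144, nat_lit 108, nat_lit 72, nat_lit 468, nat_lit 360, nat_lit 324, nat_lit 216, nat_lit 180, nat_lit 144, nat_lit 108, nat_lit 72, nat_lit 360, nat_lit 324, nat_lit 216, nat_lit 180, nat_lit 144, nat_lit 108, nat_lit 72, nat_lit 360, nat_lit 324, nat_lit 216, nat_lit 180, nat_lit 144, nat_lit 108, nat_lit 72, nat_lit 360, nat_lit 324])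
noncomputable def r270 : WT := (.leaf (nat_lit 79962) [nat_lit 180, nat_lit 144, nat_lit 108, nat_lit 72, nat_lit 324, nat_lit 252, nat_lit 216, nat_lit 180, nat_lit 144, nat_lit 108, nat_lit 72, nat_lit 324, nat_lit 252, nat_lit 216, nat_lit 180, nat_lit 144, nat_lit 108, nat_lit 72, nat_lit 468, nat_lit 324, nat_lit 252, nat_lit 216, nat_lit 180, nat_lit 144, nat_lit 108, nat_lit 72, nat_lit 324, nat_lit 252, nat_lit 216, nat_lit 180, nat_lit 144, nat_lit 108, nat_lit 72, nat_lit 324, nat_lit 252, nat_lit 216, nat_lit 180, nat_lit 144, nat_lit 108, nat_lit 72, nat_lit 324, nat_lit 252, nat_lit 216, nat_lit 180, nat_lit 144, nat_lit 108, nat_lit 72, nat_lit 324, nat_lit 252, nat_lit 216, nat_lit 180, nat_lit 144, nat_lit 108, nat_lit 72, nat_lit 324, nat_lit 252, nat_lit 216, nat_lit 180, nat_lit 144, nat_lit 108, nat_lit 72, nat_lit 324, nat_lit 252])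
noncomputable def r271 : WT := (.node (nat_lit 36) r268 (.node (nat_lit 37) r269 r270))
noncomputable def r272 : WT := (.leaf (nat_lit 79923) [nat_lit 252, nat_lit 324, nat_lit 72, nat_lit 108, nat_lit 144, nat_lit 180, nat_lit 216, nat_lit 252, nat_lit 324, nat_lit 72, nat_lit 108, nat_lit 144, nat_lit 180, nat_lit 216, nat_lit 252, nat_lit 324, nat_lit 72, nat_lit 108, nat_lit 144, nat_lit 180, nat_lit 216, nat_lit 252, nat_lit 324, nat_lit 72, nat_lit 108, nat_lit 144, nat_lit 180, nat_lit 216, nat_lit 252, nat_lit 324, nat_lit 72, nat_lit 108, nat_lit 144, nat_lit 180, nat_lit 216, nat_lit 252, nat_lit 324, nat_lit 468, nat_lit 72, nat_lit 108, nat_lit 144, nat_lit 180, nat_lit 216, nat_lit 252, nat_lit 324, nat_lit 72, nat_lit 108, nat_lit 144, nat_lit 180, nat_lit 216, nat_lit 252, nat_lit 324, nat_lit 72, nat_lit 108, nat_lit 144, nat_lit 180, nat_lit 216, nat_lit 252, nat_lit 324, nat_lit 72, nat_lit 108, nat_lit 144, nat_lit 180])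
noncomputable def r273 : WT := (.leaf (nat_lit 84057) [nat_lit 180, nat_lit 144, nat_lit 108, nat_lit 72, nat_lit 360, nat_lit 324, nat_lit 216, nat_lit 180, nat_lit 144, nat_lit 108, nat_lit 72, nat_lit 360, nat_lit 324, nat_lit 216, nat_lit 180, nat_lit 144, nat_lit 108, nat_lit 72, nat_lit 468, nat_lit 360, nat_lit 324, nat_lit 216, nat_lit 180, nat_lit 144, nat_lit 108, nat_lit 72, nat_lit 360, nat_lit 324, nat_lit 216, nat_lit 180, nat_lit 144, nat_lit 108, nat_lit 72, nat_lit 360, nat_lit 324, nat_lit 216, nat_lit 180, nat_lit 144, nat_lit 108, nat_lit 72, nat_lit 360, nat_lit 324, nat_lit 216, nat_lit 180, nat_lit 144, nat_lit 108, nat_lit 72, nat_lit 360, nat_lit 324, nat_lit 216, nat_lit 180, nat_lit 144, nat_lit 108, nat_lit 72, nat_lit 360, nat_lit 324, nat_lit 216, nat_lit 180, nat_lit 144, nat_lit 108, nat_lit 72, nat_lit 360, nat_lit 324])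
noncomputable def r274 : WT := (.leaf (nat_lit 84001) [nat_lit 180, nat_lit 144, nat_lit 108, nat_lit 72, nat_lit 360, nat_lit 324, nat_lit 216, nat_lit 180, nat_lit 144, nat_lit 108, nat_lit 72, nat_lit 360, nat_lit 324, nat_lit 216, nat_lit 180, nat_lit 144, nat_lit 108, nat_lit 72, nat_lit 360, nat_lit 324, nat_lit 216, nat_lit 180, nat_lit 144, nat_lit 108, nat_lit 72, nat_lit 360, nat_lit 324, nat_lit 216, nat_lit 180, nat_lit 144, nat_lit 108, nat_lit 72, nat_lit 360, nat_lit 324, nat_lit 216, nat_lit 180, nat_lit 144, nat_lit 108, nat_lit 72, nat_lit 360, nat_lit 324, nat_lit 216, nat_lit 180, nat_lit 144, nat_lit 108, nat_lit 72, nat_lit 468, nat_lit 360, nat_lit 324, nat_lit 216, nat_lit 180, nat_lit 144, nat_lit 108, nat_lit 72, nat_lit 360, nat_lit 324, nat_lit 216, nat_lit 180, nat_lit 144, nat_lit 108, nat_lit 72, nat_lit 360, nat_lit 324])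
noncomputable def r275 : WT := (.leaf (nat_lit 79948) [nat_lit 180, nat_lit 144, nat_lit 108, nat_lit 72, nat_lit 324, nat_lit 252, nat_lit 216, nat_lit 180, nat_lit 144, nat_lit 108, nat_lit 72, nat_lit 324, nat_lit 252, nat_lit 216, nat_lit 180, nat_lit 144, nat_lit 108, nat_lit 72, nat_lit 324, nat_lit 252, nat_lit 216, nat_lit 180, nat_lit 144, nat_lit 108, nat_lit 72, nat_lit 468, nat_lit 324, nat_lit 252, nat_lit 216, nat_lit 180, nat_lit 144, nat_lit 108, nat_lit 72, nat_lit 324, nat_lit 252, nat_lit 216, nat_lit 180, nat_lit 144, nat_lit 108, nat_lit 72, nat_lit 324, nat_lit 252, nat_lit 216, nat_lit 180, nat_lit 144, nat_lit 108, nat_lit 72, nat_lit 324, nat_lit 252, nat_lit 216, nat_lit 180, nat_lit 144, nat_lit 108, nat_lit 72, nat_lit 324, nat_lit 252, nat_lit 216, nat_lit 180, nat_lit 144, nat_lit 108, nat_lit 72, nat_lit 324, nat_lit 252])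
noncomputable def r276 : WT := (.node (nat_lit 40) (.node (nat_lit 39) r272 r273) (.node (nat_lit 41) r274 r275))
noncomputable def r277 : WT := (.leaf (nat_lit 79934) [nat_lit 180, nat_lit 144, nat_lit 108, nat_lit 72, nat_lit 324, nat_lit 252, nat_lit 216, nat_lit 180, nat_lit 144, nat_lit 108, nat_lit 72, nat_lit 324, nat_lit 252, nat_lit 216, nat_lit 180, nat_lit 144, nat_lit 108, nat_lit 72, nat_lit 324, nat_lit 252, nat_lit 216, nat_lit 180, nat_lit 144, nat_lit 108, nat_lit 72, nat_lit 324, nat_lit 252, nat_lit 216, nat_lit 180, nat_lit 144, nat_lit 108, nat_lit 72, nat_lit 468, nat_lit 324, nat_lit 252, nat_lit 216, nat_lit 180, nat_lit 144, nat_lit 108, nat_lit 72, nat_lit 324, nat_lit 252, nat_lit 216, nat_lit 180, nat_lit 144, nat_lit 108, nat_lit 72, nat_lit 324, nat_lit 252, nat_lit 216, nat_lit 180, nat_lit 144, nat_lit 108, nat_lit 72, nat_lit 324, nat_lit 252, nat_lit 216, nat_lit 180, nat_lit 144, nat_lit 108, nat_lit 72, nat_lit 324, nat_lit 252])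
noncomputable def r278 : WT := (.leaf (nat_lit 79906) [nat_lit 180, nat_lit 144, nat_lit 108, nat_lit 72, nat_lit 324, nat_lit 252, nat_lit 216, nat_lit 180, nat_lit 144, nat_lit 108, nat_lit 72, nat_lit 324, nat_lit 252, nat_lit 216, nat_lit 180, nat_lit 144, nat_lit 108, nat_lit 72, nat_lit 324, nat_lit 252, nat_lit 216, nat_lit 180, nat_lit 144, nat_lit 108, nat_lit 72, nat_lit 324, nat_lit 252, nat_lit 216, nat_lit 180, nat_lit 144, nat_lit 108, nat_lit 72, nat_lit 324, nat_lit 252, nat_lit 216, nat_lit 180, nat_lit 144, nat_lit 108, nat_lit 72, nat_lit 324, nat_lit 252, nat_lit 216, nat_lit 180, nat_lit 144, nat_lit 108, nat_lit 72, nat_lit 468, nat_lit 324, nat_lit 252, nat_lit 216, nat_lit 180, nat_lit 144, nat_lit 108, nat_lit 72, nat_lit 324, nat_lit 252, nat_lit 216, nat_lit 180, nat_lit 144, nat_lit 108, nat_lit 72, nat_lit 324, nat_lit 252])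
noncomputable def r279 : WT := (.leaf (nat_lit 84043) [nat_lit 180, nat_lit 144, nat_lit 108, nat_lit 72, nat_lit 360, nat_lit 324, nat_lit 216, nat_lit 180, nat_lit 144, nat_lit 108, nat_lit 72, nat_lit 360, nat_lit 324, nat_lit 216, nat_lit 180, nat_lit 144, nat_lit 108, nat_lit 72, nat_lit 360, nat_lit 324, nat_lit 216, nat_lit 180, nat_lit 144, nat_lit 108, nat_lit 72, nat_lit 468, nat_lit 360, nat_lit 324, nat_lit 216, nat_lit 180, nat_lit 144, nat_lit 108, nat_lit 72, nat_lit 360, nat_lit 324, nat_lit 216, nat_lit 180, nat_lit 144, nat_lit 108, nat_lit 72, nat_lit 360, nat_lit 324, nat_lit 216, nat_lit 180, nat_lit 144, nat_lit 108, nat_lit 72, nat_lit 360, nat_lit 324, nat_lit 216, nat_lit 180, nat_lit 144, nat_lit 108, nat_lit 72, nat_lit 360, nat_lit 324, nat_lit 216, nat_lit 180, nat_lit 144, nat_lit 108, nat_lit 72, nat_lit 360, nat_lit 324])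
noncomputable def r280 : WT := (.leaf (nat_lit 79965) [nat_lit 252, nat_lit 324, nat_lit 72, nat_lit 108, nat_lit 144, nat_lit 180, nat_lit 216, nat_lit 252, nat_lit 324, nat_lit 72, nat_lit 108, nat_lit 144, nat_lit 180, nat_lit 216, nat_lit 252, nat_lit 324, nat_lit 468, nat_lit 72, nat_lit 108, nat_lit 144, nat_lit 180, nat_lit 216, nat_lit 252, nat_lit 324, nat_lit 72, nat_lit 108, nat_lit 144, nat_lit 180, nat_lit 216, nat_lit 252, nat_lit 324, nat_lit 72, nat_lit 108, nat_lit 144, nat_lit 180, nat_lit 216, nat_lit 252, nat_lit 324, nat_lit 72, nat_lit 108, nat_lit 144, nat_lit 180, nat_lit 216, nat_lit 252, nat_lit 324, nat_lit 72, nat_lit 108, nat_lit 144, nat_lit 180, nat_lit 216, nat_lit 252, nat_lit 324, nat_lit 72, nat_lit 108, nat_lit 144, nat_lit 180, nat_lit 216, nat_lit 252, nat_lit 324, nat_lit 72, nat_lit 108, nat_lit 144, nat_lit 180])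
noncomputable def r281 : WT := (.node (nat_lit 44) (.node (nat_lit 43) r277 r278) (.node (nat_lit 45) r279 r280))
noncomputable def r282 : WT := (.leaf (nat_lit 79909) [nat_lit 252, nat_lit 324, nat_lit 72, nat_lit 108, nat_lit 144, nat_lit 180, nat_lit 216, nat_lit 252, nat_lit 324, nat_lit 72, nat_lit 108, nat_lit 144, nat_lit 180, nat_lit 216, nat_lit 252, nat_lit 324, nat_lit 72, nat_lit 108, nat_lit 144, nat_lit 180, nat_lit 216, nat_lit 252, nat_lit 324, nat_lit 72, nat_lit 108, nat_lit 144, nat_lit 180, nat_lit 216, nat_lit 252, nat_lit 324, nat_lit 72, nat_lit 108, nat_lit 144, nat_lit 180, nat_lit 216, nat_lit 252, nat_lit 324, nat_lit 72, nat_lit 108, nat_lit 144, nat_lit 180, nat_lit 216, nat_lit 252, nat_lit 324, nat_lit 468, nat_lit 72, nat_lit 108, nat_lit 144, nat_lit 180, nat_lit 216, nat_lit 252, nat_lit 324, nat_lit 72, nat_lit 108, nat_lit 144, nat_lit 180, nat_lit 216, nat_lit 252, nat_lit 324, nat_lit 72, nat_lit 108, nat_lit 144, nat_lit 180])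
noncomputable def r283 : WT := (.leaf (nat_lit 84048) [nat_lit 324, nat_lit 360, nat_lit 72, nat_lit 108, nat_lit 144, nat_lit 180, nat_lit 216, nat_lit 324, nat_lit 360, nat_lit 72, nat_lit 108, nat_lit 144, nat_lit 180, nat_lit 216, nat_lit 324, nat_lit 360, nat_lit 72, nat_lit 108, nat_lit 144, nat_lit 180, nat_lit 216, nat_lit 324, nat_lit 360, nat_lit 468, nat_lit 72, nat_lit 108, nat_lit 144, nat_lit 180, nat_lit 216, nat_lit 324, nat_lit 360, nat_lit 72, nat_lit 108, nat_lit 144, nat_lit 180, nat_lit 216, nat_lit 324, nat_lit 360, nat_lit 72, nat_lit 108, nat_lit 144, nat_lit 180, nat_lit 216, nat_lit 324, nat_lit 360, nat_lit 72, nat_lit 108, nat_lit 144, nat_lit 180, nat_lit 216, nat_lit 324, nat_lit 360, nat_lit 72, nat_lit 108, nat_lit 144, nat_lit 180, nat_lit 216, nat_lit 324, nat_lit 360, nat_lit 72, nat_lit 108, nat_lit 144, nat_lit 180])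
noncomputable def r284 : WT := (.leaf (nat_lit 84020) [nat_lit 324, nat_lit 360, nat_lit 72, nat_lit 108, nat_lit 144, nat_lit 180, nat_lit 216, nat_lit 324, nat_lit 360, nat_lit 72, nat_lit 108, nat_lit 144, nat_lit 180, nat_lit 216, nat_lit 324, nat_lit 360, nat_lit 72, nat_lit 108, nat_lit 144, nat_lit 180, nat_lit 216, nat_lit 324, nat_lit 360, nat_lit 72, nat_lit 108, nat_lit 144, nat_lit 180, nat_lit 216, nat_lit 324, nat_lit 360, nat_lit 72, nat_lit 108, nat_lit 144, nat_lit 180, nat_lit 216, nat_lit 324, nat_lit 360, nat_lit 468, nat_lit 72, nat_lit 108, nat_lit 144, nat_lit 180, nat_lit 216, nat_lit 324, nat_lit 360, nat_lit 72, nat_lit 108, nat_lit 144, nat_lit 180, nat_lit 216, nat_lit 324, nat_lit 360, nat_lit 72, nat_lit 108, nat_lit 144, nat_lit 180, nat_lit 216, nat_lit 324, nat_lit 360, nat_lit 72, nat_lit 108, nat_lit 144, nat_lit 180])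
noncomputable def r285 : WT := (.leaf (nat_lit 79979) [nat_lit 252, nat_lit 324, nat_lit 72, nat_lit 108, nat_lit 144, nat_lit 180, nat_lit 216, nat_lit 252, nat_lit 324, nat_lit 468, nat_lit 72, nat_lit 108, nat_lit 144, nat_lit 180, nat_lit 216, nat_lit 252, nat_lit 324, nat_lit 72, nat_lit 108, nat_lit 144, nat_lit 180, nat_lit 216, nat_lit 252, nat_lit 324, nat_lit 72, nat_lit 108, nat_lit 144, nat_lit 180, nat_lit 216, nat_lit 252, nat_lit 324, nat_lit 72, nat_lit 108, nat_lit 144, nat_lit 180, nat_lit 216, nat_lit 252, nat_lit 324, nat_lit 72, nat_lit 108, nat_lit 144, nat_lit 180, nat_lit 216, nat_lit 252, nat_lit 324, nat_lit 72, nat_lit 108, nat_lit 144, nat_lit 180, nat_lit 216, nat_lit 252, nat_lit 324, nat_lit 72, nat_lit 108, nat_lit 144, nat_lit 180, nat_lit 216, nat_lit 252, nat_lit 324, nat_lit 72, nat_lit 108, nat_lit 144, nat_lit 180])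
noncomputable def r286 : WT := (.node (nat_lit 48) (.node (nat_lit 47) r282 r283) (.node (nat_lit 49) r284 r285))
noncomputable def r287 : WT := (.leaf (nat_lit 84071) [nat_lit 180, nat_lit 144, nat_lit 108, nat_lit 72, nat_lit 360, nat_lit 324, nat_lit 216, nat_lit 180, nat_lit 144, nat_lit 108, nat_lit 72, nat_lit 468, nat_lit 360, nat_lit 324, nat_lit 216, nat_lit 180, nat_lit 144, nat_lit 108, nat_lit 72, nat_lit 360, nat_lit 324, nat_lit 216, nat_lit 180, nat_lit 144, nat_lit 108, nat_lit 72, nat_lit 360, nat_lit 324, nat_lit 216, nat_lit 180, nat_lit 144, nat_lit 108, nat_lit 72, nat_lit 360, nat_lit 324, nat_lit 216, nat_lit 180, nat_lit 144, nat_lit 108, nat_lit 72, nat_lit 360, nat_lit 324, nat_lit 216, nat_lit 180, nat_lit 144, nat_lit 108, nat_lit 72, nat_lit 360, nat_lit 324, nat_lit 216, nat_lit 180, nat_lit 144, nat_lit 108, nat_lit 72, nat_lit 360, nat_lit 324, nat_lit 216, nat_lit 180, nat_lit 144, nat_lit 108, nat_lit 72, nat_lit 360, nat_lit 324])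
noncomputable def r288 : WT := (.leaf (nat_lit 84085) [nat_lit 180, nat_lit 144, nat_lit 108, nat_lit 72, nat_lit 468, nat_lit 360, nat_lit 324, nat_lit 216, nat_lit 180, nat_lit 144, nat_lit 108, nat_lit 72, nat_lit 360, nat_lit 324, nat_lit 216, nat_lit 180, nat_lit 144, nat_lit 108, nat_lit 72, nat_lit 360, nat_lit 324, nat_lit 216, nat_lit 180, nat_lit 144, nat_lit 108, nat_lit 72, nat_lit 360, nat_lit 324, nat_lit 216, nat_lit 180, nat_lit 144, nat_lit 108, nat_lit 72, nat_lit 360, nat_lit 324, nat_lit 216, nat_lit 180, nat_lit 144, nat_lit 108, nat_lit 72, nat_lit 360, nat_lit 324, nat_lit 216, nat_lit 180, nat_lit 144, nat_lit 108, nat_lit 72, nat_lit 360, nat_lit 324, nat_lit 216, nat_lit 180, nat_lit 144, nat_lit 108, nat_lit 72, nat_lit 360, nat_lit 324, nat_lit 216, nat_lit 180, nat_lit 144, nat_lit 108, nat_lit 72, nat_lit 360, nat_lit 324])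
noncomputable def r289 : WT := (.leaf (nat_lit 84029) [nat_lit 180, nat_lit 144, nat_lit 108, nat_lit 72, nat_lit 360, nat_lit 324, nat_lit 216, nat_lit 180, nat_lit 144, nat_lit 108, nat_lit 72, nat_lit 360, nat_lit 324, nat_lit 216, nat_lit 180, nat_lit 144, nat_lit 108, nat_lit 72, nat_lit 360, nat_lit 324, nat_lit 216, nat_lit 180, nat_lit 144, nat_lit 108, nat_lit 72, nat_lit 360, nat_lit 324, nat_lit 216, nat_lit 180, nat_lit 144, nat_lit 108, nat_lit 72, nat_lit 468, nat_lit 360, nat_lit 324, nat_lit 216, nat_lit 180, nat_lit 144, nat_lit 108, nat_lit 72, nat_lit 360, nat_lit 324, nat_lit 216, nat_lit 180, nat_lit 144, nat_lit 108, nat_lit 72, nat_lit 360, nat_lit 324, nat_lit 216, nat_lit 180, nat_lit 144, nat_lit 108, nat_lit 72, nat_lit 360, nat_lit 324, nat_lit 216, nat_lit 180, nat_lit 144, nat_lit 108, nat_lit 72, nat_lit 360, nat_lit 324])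
noncomputable def r290 : WT := (.leaf (nat_lit 84034) [nat_lit 324, nat_lit 360, nat_lit 72, nat_lit 108, nat_lit 144, nat_lit 180, nat_lit 216, nat_lit 324, nat_lit 360, nat_lit 72, nat_lit 108, nat_lit 144, nat_lit 180, nat_lit 216, nat_lit 324, nat_lit 360, nat_lit 72, nat_lit 108, nat_lit 144, nat_lit 180, nat_lit 216, nat_lit 324, nat_lit 360, nat_lit 72, nat_lit 108, nat_lit 144, nat_lit 180, nat_lit 216, nat_lit 324, nat_lit 360, nat_lit 468, nat_lit 72, nat_lit 108, nat_lit 144, nat_lit 180, nat_lit 216, nat_lit 324, nat_lit 360, nat_lit 72, nat_lit 108, nat_lit 144, nat_lit 180, nat_lit 216, nat_lit 324, nat_lit 360, nat_lit 72, nat_lit 108, nat_lit 144, nat_lit 180, nat_lit 216, nat_lit 324, nat_lit 360, nat_lit 72, nat_lit 108, nat_lit 144, nat_lit 180, nat_lit 216, nat_lit 324, nat_lit 360, nat_lit 72, nat_lit 108, nat_lit 144, nat_lit 180])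
noncomputable def r291 : WT := (.leaf (nat_lit 79920) [nat_lit 180, nat_lit 144, nat_lit 108, nat_lit 72, nat_lit 324, nat_lit 252, nat_lit 216, nat_lit 180, nat_lit 144, nat_lit 108, nat_lit 72, nat_lit 324, nat_lit 252, nat_lit 216, nat_lit 180, nat_lit 144, nat_lit 108, nat_lit 72, nat_lit 324, nat_lit 252, nat_lit 216, nat_lit 180, nat_lit 144, nat_lit 108, nat_lit 72, nat_lit 324, nat_lit 252, nat_lit 216, nat_lit 180, nat_lit 144, nat_lit 108, nat_lit 72, nat_lit 324, nat_lit 252, nat_lit 216, nat_lit 180, nat_lit 144, nat_lit 108, nat_lit 72, nat_lit 468, nat_lit 324, nat_lit 252, nat_lit 216, nat_lit 180, nat_lit 144, nat_lit 108, nat_lit 72, nat_lit 324, nat_lit 252, nat_lit 216, nat_lit 180, nat_lit 144, nat_lit 108, nat_lit 72, nat_lit 324, nat_lit 252, nat_lit 216, nat_lit 180, nat_lit 144, nat_lit 108, nat_lit 72, nat_lit 324, nat_lit 252])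
noncomputable def r292 : WT := (.leaf (nat_lit 79937) [nat_lit 252, nat_lit 324, nat_lit 72, nat_lit 108, nat_lit 144, nat_lit 180, nat_lit 216, nat_lit 252, nat_lit 324, nat_lit 72, nat_lit 108, nat_lit 144, nat_lit 180, nat_lit 216, nat_lit 252, nat_lit 324, nat_lit 72, nat_lit 108, nat_lit 144, nat_lit 180, nat_lit 216, nat_lit 252, nat_lit 324, nat_lit 72, nat_lit 108, nat_lit 144, nat_lit 180, nat_lit 216, nat_lit 252, nat_lit 324, nat_lit 468, nat_lit 72, nat_lit 108, nat_lit 144, nat_lit 180, nat_lit 216, nat_lit 252, nat_lit 324, nat_lit 72, nat_lit 108, nat_lit 144, nat_lit 180, nat_lit 216, nat_lit 252, nat_lit 324, nat_lit 72, nat_lit 108, nat_lit 144, nat_lit 180, nat_lit 216, nat_lit 252, nat_lit 324, nat_lit 72, nat_lit 108, nat_lit 144, nat_lit 180, nat_lit 216, nat_lit 252, nat_lit 324, nat_lit 72, nat_lit 108, nat_lit 144, nat_lit 180])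
noncomputable def r293 : WT := (.node (nat_lit 52) (.node (nat_lit 51) r287 r288) (.node (nat_lit 54) (.node (nat_lit 53) r289 r290) (.node (nat_lit 55) r291 r292)))
noncomputable def r294 : WT := (.node (nat_lit 28) (.node (nat_lit 23) (.node (nat_lit 21) r249 (.node (nat_lit 22) r250 r251)) (.node (nat_lit 25) (.node (nat_lit 24) r252 r253) (.node (nat_lit 26) r254 r257))) (.node (nat_lit 38) (.node (nat_lit 32) (.node (nat_lit 30) r260 r263) (.node (nat_lit 35) r267 r271)) (.node (nat_lit 46) (.node (nat_lit 42) r276 r281) (.node (nat_lit 50) r286 r293))))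
noncomputable def r295 : WT := (.node (nat_lit 11) (.node (nat_lit 10) (.leaf (nat_lit 52226) [nat_lit 144, nat_lit 216, nat_lit 144]) (.leaf (nat_lit 58370) [nat_lit 180, nat_lit 216, nat_lit 180, nat_lit 216, nat_lit 180])) (.node (nat_lit 12) (.leaf (nat_lit 64512) [nat_lit 252, nat_lit 216, nat_lit 252, nat_lit 216, nat_lit 252]) (.node (nat_lit 15) (.node (nat_lit 13) r239 r242) (.node (nat_lit 20) r248 r294))))
noncomputable def w4 : WT := (.node (nat_lit 1) (.leaf (nat_lit 4096) [nat_lit 216]) (.node (nat_lit 4) (.node (nat_lit 2) (.leaf (nat_lit 68608) [nat_lit 360, nat_lit 216, nat_lit 360]) (.node (nat_lit 3) (.leaf (nat_lit 67584) [nat_lit 324, nat_lit 216, nat_lit 324]) (.leaf (nat_lit 66560) [nat_lit 396, nat_lit 216, nat_lit 396]))) (.node (nat_lit 7) (.node (nat_lit 5) (.leaf (nat_lit 17410) [nat_lit 468, nat_lit 216, nat_lit 468]) r237) (.node (nat_lit 9) r238 r295))))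
noncomputable def r296 : WT := (.node (nat_lit 6) (.leaf (nat_lit 28674) [nat_lit 432, nat_lit 252, nat_lit 432]) (.leaf (nat_lit 37890) [nat_lit 72, nat_lit 252, nat_lit 72]))
noncomputable def r297 : WT := (.node (nat_lit 8) (.leaf (nat_lit 46082) [nat_lit 108, nat_lit 252, nat_lit 108]) (.leaf (nat_lit 59394) [nat_lit 180, nat_lit 252, nat_lit 180]))
noncomputable def r298 : WT := (.leaf (nat_lit 79883) [nat_lit 324, nat_lit 72, nat_lit 108, nat_lit 144, nat_lit 180, nat_lit 216, nat_lit 252, nat_lit 324, nat_lit 72, nat_lit 108, nat_lit 144, nat_lit 180, nat_lit 216, nat_lit 252, nat_lit 324, nat_lit 72, nat_lit 108, nat_lit 144, nat_lit 180, nat_lit 216, nat_lit 252, nat_lit 324, nat_lit 72, nat_lit 108, nat_lit 144, nat_lit 180, nat_lit 216, nat_lit 252, nat_lit 324, nat_lit 72, nat_lit 108, nat_lit 144, nat_lit 180, nat_lit 216, nat_lit 252, nat_lit 324, nat_lit 72, nat_lit 108, nat_lit 144, nat_lit 180, nat_lit 216, nat_lit 252, nat_lit 324, nat_lit 72, nat_lit 108, nat_lit 144, nat_lit 180, nat_lit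 216, nat_lit 252, nat_lit 324, nat_lit 72, nat_lit 108, nat_lit 144, nat_lit 180, nat_lit 216, nat_lit 252, nat_lit 324, nat_lit 468, nat_lit 72, nat_lit 108, nat_lit 144, nat_lit 180, nat_lit 216])
noncomputable def r299 : WT := (.leaf (nat_lit 79876) [nat_lit 216, nat_lit 180, nat_lit 144, nat_lit 108, nat_lit 72, nat_lit 324, nat_lit 252, nat_lit 216, nat_lit 180, nat_lit 144, nat_lit 108, nat_lit 72, nat_lit 324, nat_lit 252, nat_lit 216, nat_lit 180, nat_lit 144, nat_lit 108, nat_lit 72, nat_lit 324, nat_lit 252, nat_lit 216, nat_lit 180, nat_lit 144, nat_lit 108, nat_lit 72, nat_lit 324, nat_lit 252, nat_lit 216, nat_lit 180, nat_lit 144, nat_lit 108, nat_lit 72, nat_lit 324, nat_lit 252, nat_lit 216, nat_lit 180, nat_lit 144, nat_lit 108, nat_lit 72, nat_lit 324, nat_lit 252, nat_lit 216, nat_lit 180, nat_lit 144, nat_lit 108, nat_lit 72, nat_lit 324, nat_lit 252, nat_lit 216, nat_lit 180, nat_lit 144, nat_lit 108, nat_lit 72, nat_lit 324, nat_lit 252, nat_lit 216, nat_lit 180, nat_lit 144, nat_lit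 108, nat_lit 72, nat_lit 468, nat_lit 324])
noncomputable def r300 : WT := (.node (nat_lit 13) r298 r299)
noncomputable def r301 : WT := (.leaf (nat_lit 85002) [nat_lit 180, nat_lit 324, nat_lit 360, nat_lit 180, nat_lit 144, nat_lit 108, nat_lit 180, nat_lit 216, nat_lit 252, nat_lit 180, nat_lit 324, nat_lit 360, nat_lit 180, nat_lit 144, nat_lit 108, nat_lit 180, nat_lit 216, nat_lit 252, nat_lit 180, nat_lit 324, nat_lit 360, nat_lit 180, nat_lit 144, nat_lit 108, nat_lit 180, nat_lit 216, nat_lit 252, nat_lit 180, nat_lit 324, nat_lit 360, nat_lit 180, nat_lit 144, nat_lit 108, nat_lit 180, nat_lit 216, nat_lit 252, nat_lit 180, nat_lit 324, nat_lit 360, nat_lit 180, nat_lit 144, nat_lit 108, nat_lit 180, nat_lit 216, nat_lit 252, nat_lit 180, nat_lit 324, nat_lit 360, nat_lit 180, nat_lit 144, nat_lit 108, nat_lit 180, nat_lit 216, nat_lit 252, nat_lit 180, nat_lit 324, nat_lit 360, nat_lit 180, nat_lit 144, nat_lit 108, nat_lit 180, nat_lit 216, nat_lit 252, nat_lit 180, nat_lit 324, nat_lit 360, nat_lit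 180, nat_lit 144, nat_lit 108, nat_lit 180, nat_lit 216, nat_lit 252, nat_lit 180, nat_lit 324, nat_lit 360, nat_lit 180, nat_lit 144, nat_lit 108, nat_lit 180, nat_lit 216, nat_lit 252, nat_lit 180, nat_lit 324, nat_lit 360, nat_lit 180, nat_lit 144, nat_lit 108, nat_lit 180, nat_lit 216])
noncomputable def r302 : WT := (.leaf (nat_lit 79890) [nat_lit 216, nat_lit 180, nat_lit 144, nat_lit 108, nat_lit 72, nat_lit 324, nat_lit 252, nat_lit 216, nat_lit 180, nat_lit 144, nat_lit 108, nat_lit 72, nat_lit 324, nat_lit 252, nat_lit 216, nat_lit 180, nat_lit 144, nat_lit 108, nat_lit 72, nat_lit 324, nat_lit 252, nat_lit 216, nat_lit 180, nat_lit 144, nat_lit 108, nat_lit 72, nat_lit 324, nat_lit 252, nat_lit 216, nat_lit 180, nat_lit 144, nat_lit 108, nat_lit 72, nat_lit 324, nat_lit 252, nat_lit 216, nat_lit 180, nat_lit 144, nat_lit 108, nat_lit 72, nat_lit 324, nat_lit 252, nat_lit 216, nat_lit 180, nat_lit 144, nat_lit 108, nat_lit 72, nat_lit 324, nat_lit 252, nat_lit 216, nat_lit 180, nat_lit 144, nat_lit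 108, nat_lit 72, nat_lit 468, nat_lit 324, nat_lit 252, nat_lit 216, nat_lit 180, nat_lit 144, nat_lit 108, nat_lit 72, nat_lit 324])
noncomputable def r303 : WT := (.leaf (nat_lit 81932) [nat_lit 324, nat_lit 432, nat_lit 72, nat_lit 108, nat_lit 144, nat_lit 180, nat_lit 216, nat_lit 252, nat_lit 324, nat_lit 432, nat_lit 72, nat_lit 108, nat_lit 144, nat_lit 180, nat_lit 216, nat_lit 252, nat_lit 324, nat_lit 432, nat_lit 72, nat_lit 108, nat_lit 144, nat_lit 180, nat_lit 216, nat_lit 252, nat_lit 324, nat_lit 432, nat_lit 72, nat_lit 108, nat_lit 144, nat_lit 180, nat_lit 216, nat_lit 252, nat_lit 324, nat_lit 432, nat_lit 72, nat_lit 108, nat_lit 144, nat_lit 180, nat_lit 216, nat_lit 252, nat_lit 324, nat_lit 432, nat_lit 72, nat_lit 108, nat_lit 144, nat_lit 180, nat_lit 216, nat_lit 252, nat_lit 324, nat_lit 432, nat_lit 72, nat_lit 108, nat_lit 144, nat_lit 180, nat_lit 216, nat_lit 252, nat_lit 324, nat_lit 432, nat_lit 72, nat_lit 108, nat_lit 144, nat_lit 180, nat_lit 216, nat_lit 252, nat_lit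 324, nat_lit 432, nat_lit 72, nat_lit 108, nat_lit 144, nat_lit 180, nat_lit 216, nat_lit 252, nat_lit 324, nat_lit 432, nat_lit 72, nat_lit 108, nat_lit 144, nat_lit 180, nat_lit 216, nat_lit 252, nat_lit 324, nat_lit 432, nat_lit 72, nat_lit 108, nat_lit 144, nat_lit 180, nat_lit 216, nat_lit 252, nat_lit 324, nat_lit 432, nat_lit 72, nat_lit 108, nat_lit 144, nat_lit 180, nat_lit 216, nat_lit 252, nat_lit 324, nat_lit 432, nat_lit 72, nat_lit 108, nat_lit 144, nat_lit 180, nat_lit 216, nat_lit 252, nat_lit 324, nat_lit 432, nat_lit 72, nat_lit 108, nat_lit 144, nat_lit 180, nat_lit 216, nat_lit 252, nat_lit 324, nat_lit 432, nat_lit 72, nat_lit 108, nat_lit 144, nat_lit 180, nat_lit 216])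
noncomputable def r304 : WT := (.leaf (nat_lit 81923) [nat_lit 216, nat_lit 180, nat_lit 144, nat_lit 108, nat_lit 72, nat_lit 432, nat_lit 324, nat_lit 252, nat_lit 216, nat_lit 180, nat_lit 144, nat_lit 108, nat_lit 72, nat_lit 432, nat_lit 324, nat_lit 252, nat_lit 216, nat_lit 180, nat_lit 144, nat_lit 108, nat_lit 72, nat_lit 432, nat_lit 324, nat_lit 252, nat_lit 216, nat_lit 180, nat_lit 144, nat_lit 108, nat_lit 72, nat_lit 432, nat_lit 324, nat_lit 252, nat_lit 216, nat_lit 180, nat_lit 144, nat_lit 108, nat_lit 72, nat_lit 432, nat_lit 324, nat_lit 252, nat_lit 216, nat_lit 180, nat_lit 144, nat_lit 108, nat_lit 72, nat_lit 432, nat_lit 324, nat_lit 252, nat_lit 216, nat_lit 180, nat_lit 144, nat_lit 108, nat_lit 72, nat_lit 432, nat_lit 324, nat_lit 252, nat_lit 216, nat_lit 180, nat_lit 144, nat_lit 108, nat_lit 72, nat_lit 432, nat_lit 324, nat_lit 252, nat_lit 216, nat_lit 180, nat_lit 144, nat_lit 108, nat_lit 72, nat_lit 432, nat_lit 324, nat_lit 252, nat_lit 216, nat_lit 180, nat_lit 144,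 nat_lit 108, nat_lit 72, nat_lit 432, nat_lit 324, nat_lit 252, nat_lit 216, nat_lit 180, nat_lit 144, nat_lit 108, nat_lit 72, nat_lit 432, nat_lit 324, nat_lit 252, nat_lit 216, nat_lit 180, nat_lit 144, nat_lit 108, nat_lit 72, nat_lit 432, nat_lit 324, nat_lit 252, nat_lit 216, nat_lit 180, nat_lit 144, nat_lit 108, nat_lit 72, nat_lit 432, nat_lit 324, nat_lit 252, nat_lit 216, nat_lit 180, nat_lit 144, nat_lit 108, nat_lit 72, nat_lit 432, nat_lit 324, nat_lit 252, nat_lit 216, nat_lit 180, nat_lit 144, nat_lit 108, nat_lit 72, nat_lit 432, nat_lit 324])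
noncomputable def r305 : WT := (.leaf (nat_lit 80907) [nat_lit 216, nat_lit 180, nat_lit 468, nat_lit 432, nat_lit 72, nat_lit 108, nat_lit 144, nat_lit 180, nat_lit 360, nat_lit 324, nat_lit 180, nat_lit 396, nat_lit 288, nat_lit 252, nat_lit 216, nat_lit 180, nat_lit 468, nat_lit 432, nat_lit 72, nat_lit 108, nat_lit 144, nat_lit 180, nat_lit 360, nat_lit 324, nat_lit 180, nat_lit 396, nat_lit 288, nat_lit 252, nat_lit 216, nat_lit 180, nat_lit 468, nat_lit 432, nat_lit 72, nat_lit 108, nat_lit 144, nat_lit 180, nat_lit 360, nat_lit 324, nat_lit 180, nat_lit 396, nat_lit 288, nat_lit 252, nat_lit 216, nat_lit 180, nat_lit 468, nat_lit 432, nat_lit 72, nat_lit 108, nat_lit 144, nat_lit 180, nat_lit 360, nat_lit 324, nat_lit 180, nat_lit 396, nat_lit 288, nat_lit 252, nat_lit 216, nat_lit 180, nat_lit 468, nat_lit 432, nat_lit 72, nat_lit 108, nat_lit 144, nat_lit 180, nat_lit 360, nat_lit 324, nat_lit 180, nat_lit 396, nat_lit 288, nat_lit 252, nat_lit 216, nat_lit 180, nat_lit 468, nat_lit 432, nat_lit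 72, nat_lit 108, nat_lit 144, nat_lit 180, nat_lit 360, nat_lit 324, nat_lit 180, nat_lit 396, nat_lit 288, nat_lit 252, nat_lit 216, nat_lit 180, nat_lit 468, nat_lit 432, nat_lit 72, nat_lit 108, nat_lit 144, nat_lit 180, nat_lit 360, nat_lit 324, nat_lit 180, nat_lit 396, nat_lit 288, nat_lit 252, nat_lit 216, nat_lit 180, nat_lit 468, nat_lit 432, nat_lit 72, nat_lit 108, nat_lit 144, nat_lit 180, nat_lit 360, nat_lit 324, nat_lit 180, nat_lit 396, nat_lit 288, nat_lit 252, nat_lit 216, nat_lit 180, nat_lit 468, nat_lit 432, nat_lit 72, nat_lit 108, nat_lit 144, nat_lit 180, nat_lit 360, nat_lit 324, nat_lit 180, nat_lit 396, nat_lit 288, nat_lit 252, nat_lit 216, nat_lit 180, nat_lit 468, nat_lit 432, nat_lit 72, nat_lit 108, nat_lit 144, nat_lit 180, nat_lit 360, nat_lit 324, nat_lit 180, nat_lit 396, nat_lit 288, nat_lit 252, nat_lit 216, nat_lit 180, nat_lit 468, nat_lit 432, nat_lit 72, nat_lit 108, nat_lit 144, nat_lit 180, nat_lit 360, nat_lit 324, nat_lit 180, nat_lit 396, nat_lit 288, nat_lit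 252, nat_lit 216, nat_lit 180, nat_lit 468, nat_lit 432, nat_lit 72, nat_lit 108, nat_lit 144, nat_lit 180, nat_lit 360, nat_lit 324, nat_lit 180, nat_lit 396, nat_lit 288, nat_lit 252, nat_lit 216, nat_lit 180, nat_lit 468, nat_lit 432, nat_lit 72, nat_lit 108, nat_lit 144, nat_lit 180, nat_lit 360, nat_lit 324, nat_lit 180, nat_lit 396, nat_lit 288, nat_lit 252, nat_lit 216, nat_lit 180, nat_lit 468, nat_lit 432, nat_lit 72, nat_lit 108, nat_lit 144, nat_lit 180, nat_lit 360, nat_lit 324, nat_lit 180, nat_lit 396, nat_lit 288, nat_lit 252, nat_lit 216, nat_lit 180, nat_lit 468, nat_lit 432, nat_lit 72, nat_lit 108, nat_lit 144, nat_lit 180, nat_lit 360, nat_lit 324, nat_lit 180, nat_lit 396, nat_lit 288, nat_lit 252, nat_lit 216, nat_lit 180, nat_lit 468, nat_lit 432, nat_lit 72, nat_lit 108, nat_lit 144, nat_lit 180, nat_lit 360, nat_lit 324, nat_lit 180, nat_lit 396, nat_lit 288, nat_lit 252, nat_lit 216, nat_lit 180, nat_lit 468, nat_lit 432, nat_lit 72, nat_lit 108, nat_lit 144, nat_lit 180, nat_lit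 360, nat_lit 324, nat_lit 180, nat_lit 396, nat_lit 288])
noncomputable def r306 : WT := (.leaf (nat_lit 80912) [nat_lit 288, nat_lit 396, nat_lit 180, nat_lit 324, nat_lit 360, nat_lit 180, nat_lit 144, nat_lit 108, nat_lit 72, nat_lit 432, nat_lit 468, nat_lit 180, nat_lit 216, nat_lit 252, nat_lit 288, nat_lit 396, nat_lit 180, nat_lit 324, nat_lit 360, nat_lit 180, nat_lit 144, nat_lit 108, nat_lit 72, nat_lit 432, nat_lit 468, nat_lit 180, nat_lit 216, nat_lit 252, nat_lit 288, nat_lit 396, nat_lit 180, nat_lit 324, nat_lit 360, nat_lit 180, nat_lit 144, nat_lit 108, nat_lit 72, nat_lit 432, nat_lit 468, nat_lit 180, nat_lit 216, nat_lit 252, nat_lit 288, nat_lit 396, nat_lit 180, nat_lit 324, nat_lit 360, nat_lit 180, nat_lit 144, nat_lit 108, nat_lit 72, nat_lit 432, nat_lit 468, nat_lit 180, nat_lit 216, nat_lit 252, nat_lit 288, nat_lit 396, nat_lit 180, nat_lit 324, nat_lit 360, nat_lit 180, nat_lit 144, nat_lit 108, nat_lit 72, nat_lit 432, nat_lit 468, nat_lit 180, nat_lit 216, nat_lit 252, nat_lit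 288, nat_lit 396, nat_lit 180, nat_lit 324, nat_lit 360, nat_lit 180, nat_lit 144, nat_lit 108, nat_lit 72, nat_lit 432, nat_lit 468, nat_lit 180, nat_lit 216, nat_lit 252, nat_lit 288, nat_lit 396, nat_lit 180, nat_lit 324, nat_lit 360, nat_lit 180, nat_lit 144, nat_lit 108, nat_lit 72, nat_lit 432, nat_lit 468, nat_lit 180, nat_lit 216, nat_lit 252, nat_lit 288, nat_lit 396, nat_lit 180, nat_lit 324, nat_lit 360, nat_lit 180, nat_lit 144, nat_lit 108, nat_lit 72, nat_lit 432, nat_lit 468, nat_lit 180, nat_lit 216, nat_lit 252, nat_lit 288, nat_lit 396, nat_lit 180, nat_lit 324, nat_lit 360, nat_lit 180, nat_lit 144, nat_lit 108, nat_lit 72, nat_lit 432, nat_lit 468, nat_lit 180, nat_lit 216, nat_lit 252, nat_lit 288, nat_lit 396, nat_lit 180, nat_lit 324, nat_lit 360, nat_lit 180, nat_lit 144, nat_lit 108, nat_lit 72, nat_lit 432, nat_lit 468, nat_lit 180, nat_lit 216, nat_lit 252, nat_lit 288, nat_lit 396, nat_lit 180, nat_lit 324, nat_lit 360, nat_lit 180, nat_lit 144, nat_lit 108, nat_lit 72, nat_lit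 432, nat_lit 468, nat_lit 180, nat_lit 216, nat_lit 252, nat_lit 288, nat_lit 396, nat_lit 180, nat_lit 324, nat_lit 360, nat_lit 180, nat_lit 144, nat_lit 108, nat_lit 72, nat_lit 432, nat_lit 468, nat_lit 180, nat_lit 216, nat_lit 252, nat_lit 288, nat_lit 396, nat_lit 180, nat_lit 324, nat_lit 360, nat_lit 180, nat_lit 144, nat_lit 108, nat_lit 72, nat_lit 432, nat_lit 468, nat_lit 180, nat_lit 216, nat_lit 252, nat_lit 288, nat_lit 396, nat_lit 180, nat_lit 324, nat_lit 360, nat_lit 180, nat_lit 144, nat_lit 108, nat_lit 72, nat_lit 432, nat_lit 468, nat_lit 180, nat_lit 216, nat_lit 252, nat_lit 288, nat_lit 396, nat_lit 180, nat_lit 324, nat_lit 360, nat_lit 180, nat_lit 144, nat_lit 108, nat_lit 72, nat_lit 432, nat_lit 468, nat_lit 180, nat_lit 216, nat_lit 252, nat_lit 288, nat_lit 396, nat_lit 180, nat_lit 324, nat_lit 360, nat_lit 180, nat_lit 144, nat_lit 108, nat_lit 72, nat_lit 432, nat_lit 468, nat_lit 180, nat_lit 216, nat_lit 252, nat_lit 288, nat_lit 396, nat_lit 180, nat_lit 324, nat_lit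 360, nat_lit 180, nat_lit 144, nat_lit 108, nat_lit 72, nat_lit 432, nat_lit 468, nat_lit 180, nat_lit 216])
noncomputable def r307 : WT := (.leaf (nat_lit 84999) [nat_lit 216, nat_lit 180, nat_lit 108, nat_lit 144, nat_lit 180, nat_lit 360, nat_lit 324, nat_lit 180, nat_lit 252, nat_lit 216, nat_lit 180, nat_lit 108, nat_lit 144, nat_lit 180, nat_lit 360, nat_lit 324, nat_lit 180, nat_lit 252, nat_lit 216, nat_lit 180, nat_lit 108, nat_lit 144, nat_lit 180, nat_lit 360, nat_lit 324, nat_lit 180, nat_lit 252, nat_lit 216, nat_lit 180, nat_lit 108, nat_lit 144, nat_lit 180, nat_lit 360, nat_lit 324, nat_lit 180, nat_lit 252, nat_lit 216, nat_lit 180, nat_lit 108, nat_lit 144, nat_lit 180, nat_lit 360, nat_lit 324, nat_lit 180, nat_lit 252, nat_lit 216, nat_lit 180, nat_lit 108, nat_lit 144, nat_lit 180, nat_lit 360, nat_lit 324, nat_lit 180, nat_lit 252, nat_lit 216, nat_lit 180, nat_lit 108, nat_lit 144, nat_lit 180, nat_lit 360, nat_lit 324, nat_lit 180, nat_lit 252, nat_lit 216, nat_lit 180, nat_lit 108,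 nat_lit 144, nat_lit 180, nat_lit 360, nat_lit 324, nat_lit 180, nat_lit 252, nat_lit 216, nat_lit 180, nat_lit 108, nat_lit 144, nat_lit 180, nat_lit 360, nat_lit 324, nat_lit 180, nat_lit 252, nat_lit 216, nat_lit 180, nat_lit 108, nat_lit 144, nat_lit 180, nat_lit 360, nat_lit 324, nat_lit 180])
noncomputable def r308 : WT := (.leaf (nat_lit 79995) [nat_lit 324, nat_lit 468, nat_lit 72, nat_lit 108, nat_lit 144, nat_lit 180, nat_lit 216, nat_lit 252, nat_lit 324, nat_lit 72, nat_lit 108, nat_lit 144, nat_lit 180, nat_lit 216, nat_lit 252, nat_lit 324, nat_lit 72, nat_lit 108, nat_lit 144, nat_lit 180, nat_lit 216, nat_lit 252, nat_lit 324, nat_lit 72, nat_lit 108, nat_lit 144, nat_lit 180, nat_lit 216, nat_lit 252, nat_lit 324, nat_lit 72, nat_lit 108, nat_lit 144, nat_lit 180, nat_lit 216, nat_lit 252, nat_lit 324, nat_lit 72, nat_lit 108, nat_lit 144, nat_lit 180, nat_lit 216, nat_lit 252, nat_lit 324, nat_lit 72, nat_lit 108, nat_lit 144, nat_lit 180, nat_lit 216, nat_lit 252, nat_lit 324, nat_lit 72,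 nat_lit 108, nat_lit 144, nat_lit 180, nat_lit 216, nat_lit 252, nat_lit 324, nat_lit 72, nat_lit 108, nat_lit 144, nat_lit 180, nat_lit 216])
noncomputable def r309 : WT := (.leaf (nat_lit 79897) [nat_lit 324, nat_lit 72, nat_lit 108, nat_lit 144, nat_lit 180, nat_lit 216, nat_lit 252, nat_lit 324, nat_lit 72, nat_lit 108, nat_lit 144, nat_lit 180, nat_lit 216, nat_lit 252, nat_lit 324, nat_lit 72, nat_lit 108, nat_lit 144, nat_lit 180, nat_lit 216, nat_lit 252, nat_lit 324, nat_lit 72, nat_lit 108, nat_lit 144, nat_lit 180, nat_lit 216, nat_lit 252, nat_lit 324, nat_lit 72, nat_lit 108, nat_lit 144, nat_lit 180, nat_lit 216, nat_lit 252, nat_lit 324, nat_lit 72, nat_lit 108, nat_lit 144, nat_lit 180, nat_lit 216, nat_lit 252, nat_lit 324, nat_lit 72, nat_lit 108, nat_lit 144, nat_lit 180, nat_lit 216, nat_lit 252, nat_lit 324, nat_lit 468, nat_lit 72, nat_lit 108, nat_lit 144, nat_lit 180, nat_lit 216, nat_lit 252, nat_lit 324, nat_lit 72, nat_lit 108, nat_lit 144, nat_lit 180, nat_lit 216])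
noncomputable def r310 : WT := (.node (nat_lit 22) r308 r309)
noncomputable def r311 : WT := (.leaf (nat_lit 79981) [nat_lit 324, nat_lit 72, nat_lit 108, nat_lit 144, nat_lit 180, nat_lit 216, nat_lit 252, nat_lit 324, nat_lit 468, nat_lit 72, nat_lit 108, nat_lit 144, nat_lit 180, nat_lit 216, nat_lit 252, nat_lit 324, nat_lit 72, nat_lit 108, nat_lit 144, nat_lit 180, nat_lit 216, nat_lit 252, nat_lit 324, nat_lit 72, nat_lit 108, nat_lit 144, nat_lit 180, nat_lit 216, nat_lit 252, nat_lit 324, nat_lit 72, nat_lit 108, nat_lit 144, nat_lit 180, nat_lit 216, nat_lit 252, nat_lit 324, nat_lit 72, nat_lit 108, nat_lit 144, nat_lit 180, nat_lit 216, nat_lit 252, nat_lit 324, nat_lit 72, nat_lit 108, nat_lit 144, nat_lit 180, nat_lit 216, nat_lit 252, nat_lit 324, nat_lit 72, nat_lit 108, nat_lit 144, nat_lit 180, nat_lit 216, nat_lit 252, nat_lit 324, nat_lit 72, nat_lit 108, nat_lit 144, nat_lit 180, nat_lit 216])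
noncomputable def r312 : WT := (.leaf (nat_lit 79932) [nat_lit 216, nat_lit 180, nat_lit 144, nat_lit 108, nat_lit 72, nat_lit 324, nat_lit 252, nat_lit 216, nat_lit 180, nat_lit 144, nat_lit 108, nat_lit 72, nat_lit 324, nat_lit 252, nat_lit 216, nat_lit 180, nat_lit 144, nat_lit 108, nat_lit 72, nat_lit 324, nat_lit 252, nat_lit 216, nat_lit 180, nat_lit 144, nat_lit 108, nat_lit 72, nat_lit 324, nat_lit 252, nat_lit 216, nat_lit 180, nat_lit 144, nat_lit 108, nat_lit 72, nat_lit 468, nat_lit 324, nat_lit 252, nat_lit 216, nat_lit 180, nat_lit 144, nat_lit 108, nat_lit 72, nat_lit 324, nat_lit 252, nat_lit 216, nat_lit 180, nat_lit 144, nat_lit 108, nat_lit 72, nat_lit 324, nat_lit 252, nat_lit 216, nat_lit 180, nat_lit 144, nat_lit 108, nat_lit 72, nat_lit 324, nat_lit 252, nat_lit 216, nat_lit 180, nat_lit 144, nat_lit 108, nat_lit 72, nat_lit 324])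
noncomputable def r313 : WT := (.leaf (nat_lit 79939) [nat_lit 324, nat_lit 72, nat_lit 108, nat_lit 144, nat_lit 180, nat_lit 216, nat_lit 252, nat_lit 324, nat_lit 72, nat_lit 108, nat_lit 144, nat_lit 180, nat_lit 216, nat_lit 252, nat_lit 324, nat_lit 72, nat_lit 108, nat_lit 144, nat_lit 180, nat_lit 216, nat_lit 252, nat_lit 324, nat_lit 72, nat_lit 108, nat_lit 144, nat_lit 180, nat_lit 216, nat_lit 252, nat_lit 324, nat_lit 468, nat_lit 72, nat_lit 108, nat_lit 144, nat_lit 180, nat_lit 216, nat_lit 252, nat_lit 324, nat_lit 72, nat_lit 108, nat_lit 144, nat_lit 180, nat_lit 216, nat_lit 252, nat_lit 324, nat_lit 72, nat_lit 108, nat_lit 144, nat_lit 180, nat_lit 216, nat_lit 252, nat_lit 324, nat_lit 72, nat_lit 108, nat_lit 144, nat_lit 180, nat_lit 216, nat_lit 252, nat_lit 324, nat_lit 72, nat_lit 108, nat_lit 144, nat_lit 180, nat_lit 216])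
noncomputable def r314 : WT := (.leaf (nat_lit 79918) [nat_lit 216, nat_lit 180, nat_lit 144, nat_lit 108, nat_lit 72, nat_lit 324, nat_lit 252, nat_lit 216, nat_lit 180, nat_lit 144, nat_lit 108, nat_lit 72, nat_lit 324, nat_lit 252, nat_lit 216, nat_lit 180, nat_lit 144, nat_lit 108, nat_lit 72, nat_lit 324, nat_lit 252, nat_lit 216, nat_lit 180, nat_lit 144, nat_lit 108, nat_lit 72, nat_lit 324, nat_lit 252, nat_lit 216, nat_lit 180, nat_lit 144, nat_lit 108, nat_lit 72, nat_lit 324, nat_lit 252, nat_lit 216, nat_lit 180, nat_lit 144, nat_lit 108, nat_lit 72, nat_lit 468, nat_lit 324, nat_lit 252, nat_lit 216, nat_lit 180, nat_lit 144, nat_lit 108, nat_lit 72, nat_lit 324, nat_lit 252, nat_lit 216, nat_lit 180, nat_lit 144, nat_lit 108, nat_lit 72, nat_lit 324, nat_lit 252, nat_lit 216, nat_lit 180, nat_lit 144, nat_lit 108, nat_lit 72, nat_lit 324])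
noncomputable def r315 : WT := (.node (nat_lit 25) (.node (nat_lit 24) r311 r312) (.node (nat_lit 26) r313 r314))
noncomputable def r316 : WT := (.leaf (nat_lit 79988) [nat_lit 216, nat_lit 180, nat_lit 144, nat_lit 108, nat_lit 72, nat_lit 468, nat_lit 324, nat_lit 252, nat_lit 216, nat_lit 180, nat_lit 144, nat_lit 108, nat_lit 72, nat_lit 324, nat_lit 252, nat_lit 216, nat_lit 180, nat_lit 144, nat_lit 108, nat_lit 72, nat_lit 324, nat_lit 252, nat_lit 216, nat_lit 180, nat_lit 144, nat_lit 108, nat_lit 72, nat_lit 324, nat_lit 252, nat_lit 216, nat_lit 180, nat_lit 144, nat_lit 108, nat_lit 72, nat_lit 324, nat_lit 252, nat_lit 216, nat_lit 180, nat_lit 144, nat_lit 108, nat_lit 72, nat_lit 324, nat_lit 252, nat_lit 216, nat_lit 180, nat_lit 144, nat_lit 108, nat_lit 72, nat_lit 324, nat_lit 252, nat_lit 216, nat_lit 180, nat_lit 144, nat_lit 108, nat_lit 72, nat_lit 324, nat_lit 252, nat_lit 216, nat_lit 180, nat_lit 144, nat_lit 108, nat_lit 72, nat_lit 324])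
noncomputable def r317 : WT := (.leaf (nat_lit 79925) [nat_lit 324, nat_lit 72, nat_lit 108, nat_lit 144, nat_lit 180, nat_lit 216, nat_lit 252, nat_lit 324, nat_lit 72, nat_lit 108, nat_lit 144, nat_lit 180, nat_lit 216, nat_lit 252, nat_lit 324, nat_lit 72, nat_lit 108, nat_lit 144, nat_lit 180, nat_lit 216, nat_lit 252, nat_lit 324, nat_lit 72, nat_lit 108, nat_lit 144, nat_lit 180, nat_lit 216, nat_lit 252, nat_lit 324, nat_lit 72, nat_lit 108, nat_lit 144, nat_lit 180, nat_lit 216, nat_lit 252, nat_lit 324, nat_lit 468, nat_lit 72, nat_lit 108, nat_lit 144, nat_lit 180, nat_lit 216, nat_lit 252, nat_lit 324, nat_lit 72, nat_lit 108, nat_lit 144, nat_lit 180, nat_lit 216, nat_lit 252, nat_lit 324, nat_lit 72, nat_lit 108, nat_lit 144, nat_lit 180, nat_lit 216, nat_lit 252, nat_lit 324, nat_lit 72, nat_lit 108, nat_lit 144, nat_lit 180, nat_lit 216])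
noncomputable def r318 : WT := (.leaf (nat_lit 79960) [nat_lit 216, nat_lit 180, nat_lit 144, nat_lit 108, nat_lit 72, nat_lit 324, nat_lit 252, nat_lit 216, nat_lit 180, nat_lit 144, nat_lit 108, nat_lit 72, nat_lit 324, nat_lit 252, nat_lit 216, nat_lit 180, nat_lit 144, nat_lit 108, nat_lit 72, nat_lit 468, nat_lit 324, nat_lit 252, nat_lit 216, nat_lit 180, nat_lit 144, nat_lit 108, nat_lit 72, nat_lit 324, nat_lit 252, nat_lit 216, nat_lit 180, nat_lit 144, nat_lit 108, nat_lit 72, nat_lit 324, nat_lit 252, nat_lit 216, nat_lit 180, nat_lit 144, nat_lit 108, nat_lit 72, nat_lit 324, nat_lit 252, nat_lit 216, nat_lit 180, nat_lit 144, nat_lit 108, nat_lit 72, nat_lit 324, nat_lit 252, nat_lit 216, nat_lit 180, nat_lit 144, nat_lit 108, nat_lit 72, nat_lit 324, nat_lit 252, nat_lit 216, nat_lit 180, nat_lit 144, nat_lit 108, nat_lit 72, nat_lit 324])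
noncomputable def r319 : WT := (.leaf (nat_lit 79967) [nat_lit 324, nat_lit 72, nat_lit 108, nat_lit 144, nat_lit 180, nat_lit 216, nat_lit 252, nat_lit 324, nat_lit 72, nat_lit 108, nat_lit 144, nat_lit 180, nat_lit 216, nat_lit 252, nat_lit 324, nat_lit 468, nat_lit 72, nat_lit 108, nat_lit 144, nat_lit 180, nat_lit 216, nat_lit 252, nat_lit 324, nat_lit 72, nat_lit 108, nat_lit 144, nat_lit 180, nat_lit 216, nat_lit 252, nat_lit 324, nat_lit 72, nat_lit 108, nat_lit 144, nat_lit 180, nat_lit 216, nat_lit 252, nat_lit 324, nat_lit 72, nat_lit 108, nat_lit 144, nat_lit 180, nat_lit 216, nat_lit 252, nat_lit 324, nat_lit 72, nat_lit 108, nat_lit 144, nat_lit 180, nat_lit 216, nat_lit 252, nat_lit 324, nat_lit 72, nat_lit 108, nat_lit 144, nat_lit 180, nat_lit 216, nat_lit 252, nat_lit 324, nat_lit 72, nat_lit 108, nat_lit 144, nat_lit 180, nat_lit 216])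
noncomputable def r320 : WT := (.leaf (nat_lit 79904) [nat_lit 216, nat_lit 180, nat_lit 144, nat_lit 108, nat_lit 72, nat_lit 324, nat_lit 252, nat_lit 216, nat_lit 180, nat_lit 144, nat_lit 108, nat_lit 72, nat_lit 324, nat_lit 252, nat_lit 216, nat_lit 180, nat_lit 144, nat_lit 108, nat_lit 72, nat_lit 324, nat_lit 252, nat_lit 216, nat_lit 180, nat_lit 144, nat_lit 108, nat_lit 72, nat_lit 324, nat_lit 252, nat_lit 216, nat_lit 180, nat_lit 144, nat_lit 108, nat_lit 72, nat_lit 324, nat_lit 252, nat_lit 216, nat_lit 180, nat_lit 144, nat_lit 108, nat_lit 72, nat_lit 324, nat_lit 252, nat_lit 216, nat_lit 180, nat_lit 144, nat_lit 108, nat_lit 72, nat_lit 468, nat_lit 324, nat_lit 252, nat_lit 216, nat_lit 180, nat_lit 144, nat_lit 108, nat_lit 72, nat_lit 324, nat_lit 252, nat_lit 216, nat_lit 180, nat_lit 144, nat_lit 108, nat_lit 72, nat_lit 324])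
noncomputable def r321 : WT := (.leaf (nat_lit 79974) [nat_lit 216, nat_lit 180, nat_lit 144, nat_lit 108, nat_lit 72, nat_lit 324, nat_lit 252, nat_lit 216, nat_lit 180, nat_lit 144, nat_lit 108, nat_lit 72, nat_lit 468, nat_lit 324, nat_lit 252, nat_lit 216, nat_lit 180, nat_lit 144, nat_lit 108, nat_lit 72, nat_lit 324, nat_lit 252, nat_lit 216, nat_lit 180, nat_lit 144, nat_lit 108, nat_lit 72, nat_lit 324, nat_lit 252, nat_lit 216, nat_lit 180, nat_lit 144, nat_lit 108, nat_lit 72, nat_lit 324, nat_lit 252, nat_lit 216, nat_lit 180, nat_lit 144, nat_lit 108, nat_lit 72, nat_lit 324, nat_lit 252, nat_lit 216, nat_lit 180, nat_lit 144, nat_lit 108, nat_lit 72, nat_lit 324, nat_lit 252, nat_lit 216, nat_lit 180, nat_lit 144, nat_lit 108, nat_lit 72, nat_lit 324, nat_lit 252, nat_lit 216, nat_lit 180, nat_lit 144, nat_lit 108, nat_lit 72, nat_lit 324])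
noncomputable def r322 : WT := (.leaf (nat_lit 79911) [nat_lit 324, nat_lit 72, nat_lit 108, nat_lit 144, nat_lit 180, nat_lit 216, nat_lit 252, nat_lit 324, nat_lit 72, nat_lit 108, nat_lit 144, nat_lit 180, nat_lit 216, nat_lit 252, nat_lit 324, nat_lit 72, nat_lit 108, nat_lit 144, nat_lit 180, nat_lit 216, nat_lit 252, nat_lit 324, nat_lit 72, nat_lit 108, nat_lit 144, nat_lit 180, nat_lit 216, nat_lit 252, nat_lit 324, nat_lit 72, nat_lit 108, nat_lit 144, nat_lit 180, nat_lit 216, nat_lit 252, nat_lit 324, nat_lit 72, nat_lit 108, nat_lit 144, nat_lit 180, nat_lit 216, nat_lit 252, nat_lit 324, nat_lit 468, nat_lit 72, nat_lit 108, nat_lit 144, nat_lit 180, nat_lit 216, nat_lit 252, nat_lit 324, nat_lit 72, nat_lit 108, nat_lit 144, nat_lit 180, nat_lit 216, nat_lit 252, nat_lit 324, nat_lit 72, nat_lit 108, nat_lit 144, nat_lit 180, nat_lit 216])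
noncomputable def r323 : WT := (.leaf (nat_lit 79953) [nat_lit 324, nat_lit 72, nat_lit 108, nat_lit 144, nat_lit 180, nat_lit 216, nat_lit 252, nat_lit 324, nat_lit 72, nat_lit 108, nat_lit 144, nat_lit 180, nat_lit 216, nat_lit 252, nat_lit 324, nat_lit 72, nat_lit 108, nat_lit 144, nat_lit 180, nat_lit 216, nat_lit 252, nat_lit 324, nat_lit 468, nat_lit 72, nat_lit 108, nat_lit 144, nat_lit 180, nat_lit 216, nat_lit 252, nat_lit 324, nat_lit 72, nat_lit 108, nat_lit 144, nat_lit 180, nat_lit 216, nat_lit 252, nat_lit 324, nat_lit 72, nat_lit 108, nat_lit 144, nat_lit 180, nat_lit 216, nat_lit 252, nat_lit 324, nat_lit 72, nat_lit 108, nat_lit 144, nat_lit 180, nat_lit 216, nat_lit 252, nat_lit 324, nat_lit 72, nat_lit 108, nat_lit 144, nat_lit 180, nat_lit 216, nat_lit 252, nat_lit 324, nat_lit 72, nat_lit 108, nat_lit 144, nat_lit 180, nat_lit 216])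
noncomputable def r324 : WT := (.node (nat_lit 30) (.node (nat_lit 28) r316 (.node (nat_lit 29) r317 r318)) (.node (nat_lit 32) (.node (nat_lit 31) r319 r320) (.node (nat_lit 33) r321 (.node (nat_lit 34) r322 r323))))
noncomputable def r325 : WT := (.node (nat_lit 17) (.node (nat_lit 15) r301 (.node (nat_lit 16) r302 r303)) (.node (nat_lit 20) (.node (nat_lit 18) r304 (.node (nat_lit 19) r305 r306)) (.node (nat_lit 23) (.node (nat_lit 21) r307 r310) (.node (nat_lit 27) r315 r324))))
noncomputable def r326 : WT := (.node (nat_lit 10) (.leaf (nat_lit 53250) [nat_lit 144, nat_lit 252, nat_lit 144]) (.node (nat_lit 11) (.leaf (nat_lit 69632) [nat_lit 288, nat_lit 252, nat_lit 288, nat_lit 252, nat_lit 288]) (.node (nat_lit 12) (.leaf (nat_lit 64514) [nat_lit 216, nat_lit 252, nat_lit 216, nat_lit 252, nat_lit 216]) (.node (nat_lit 14) r300 r325))))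
noncomputable def w5 : WT := (.node (nat_lit 1) (.leaf (nat_lit 5120) [nat_lit 252]) (.node (nat_lit 4) (.node (nat_lit 2) (.leaf (nat_lit 72704) [nat_lit 360, nat_lit 252, nat_lit 360]) (.node (nat_lit 3) (.leaf (nat_lit 71680) [nat_lit 324, nat_lit 252, nat_lit 324]) (.leaf (nat_lit 70656) [nat_lit 396, nat_lit 252, nat_lit 396]))) (.node (nat_lit 7) (.node (nat_lit 5) (.leaf (nat_lit 18434) [nat_lit 468, nat_lit 252, nat_lit 468]) r296) (.node (nat_lit 9) r297 r326))))
noncomputable def r327 : WT := (.node (nat_lit 6) (.leaf (nat_lit 29698) [nat_lit 432, nat_lit 288, nat_lit 432]) (.leaf (nat_lit 38914) [nat_lit 72, nat_lit 288, nat_lit 72]))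
noncomputable def r328 : WT := (.node (nat_lit 8) (.leaf (nat_lit 47106) [nat_lit 108, nat_lit 288, nat_lit 108]) (.leaf (nat_lit 65538) [nat_lit 216, nat_lit 288, nat_lit 216]))
noncomputable def r329 : WT := (.leaf (nat_lit 80914) [nat_lit 396, nat_lit 180, nat_lit 324, nat_lit 360, nat_lit 180, nat_lit 144, nat_lit 108, nat_lit 72, nat_lit 432, nat_lit 468, nat_lit 180, nat_lit 216, nat_lit 252, nat_lit 288, nat_lit 396, nat_lit 180, nat_lit 324, nat_lit 360, nat_lit 180, nat_lit 144, nat_lit 108, nat_lit 72, nat_lit 432, nat_lit 468, nat_lit 180, nat_lit 216, nat_lit 252, nat_lit 288, nat_lit 396, nat_lit 180, nat_lit 324, nat_lit 360, nat_lit 180, nat_lit 144, nat_lit 108, nat_lit 72, nat_lit 432, nat_lit 468, nat_lit 180, nat_lit 216, nat_lit 252, nat_lit 288, nat_lit 396, nat_lit 180, nat_lit 324, nat_lit 360, nat_lit 180, nat_lit 144, nat_lit 108, nat_lit 72, nat_lit 432, nat_lit 468, nat_lit 180, nat_lit 216, nat_lit 252, nat_lit 288, nat_lit 396, nat_lit 180, nat_lit 324, nat_lit 360, nat_lit 180,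 nat_lit 144, nat_lit 108, nat_lit 72, nat_lit 432, nat_lit 468, nat_lit 180, nat_lit 216, nat_lit 252, nat_lit 288, nat_lit 396, nat_lit 180, nat_lit 324, nat_lit 360, nat_lit 180, nat_lit 144, nat_lit 108, nat_lit 72, nat_lit 432, nat_lit 468, nat_lit 180, nat_lit 216, nat_lit 252, nat_lit 288, nat_lit 396, nat_lit 180, nat_lit 324, nat_lit 360, nat_lit 180, nat_lit 144, nat_lit 108, nat_lit 72, nat_lit 432, nat_lit 468, nat_lit 180, nat_lit 216, nat_lit 252, nat_lit 288, nat_lit 396, nat_lit 180, nat_lit 324, nat_lit 360, nat_lit 180, nat_lit 144, nat_lit 108, nat_lit 72, nat_lit 432, nat_lit 468, nat_lit 180, nat_lit 216, nat_lit 252, nat_lit 288, nat_lit 396, nat_lit 180, nat_lit 324, nat_lit 360, nat_lit 180, nat_lit 144, nat_lit 108, nat_lit 72, nat_lit 432, nat_lit 468, nat_lit 180, nat_lit 216, nat_lit 252, nat_lit 288, nat_lit 396, nat_lit 180, nat_lit 324, nat_lit 360, nat_lit 180, nat_lit 144, nat_lit 108, nat_lit 72, nat_lit 432, nat_lit 468, nat_lit 180, nat_lit 216, nat_lit 252, nat_lit 288,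 nat_lit 396, nat_lit 180, nat_lit 324, nat_lit 360, nat_lit 180, nat_lit 144, nat_lit 108, nat_lit 72, nat_lit 432, nat_lit 468, nat_lit 180, nat_lit 216, nat_lit 252, nat_lit 288, nat_lit 396, nat_lit 180, nat_lit 324, nat_lit 360, nat_lit 180, nat_lit 144, nat_lit 108, nat_lit 72, nat_lit 432, nat_lit 468, nat_lit 180, nat_lit 216, nat_lit 252, nat_lit 288, nat_lit 396, nat_lit 180, nat_lit 324, nat_lit 360, nat_lit 180, nat_lit 144, nat_lit 108, nat_lit 72, nat_lit 432, nat_lit 468, nat_lit 180, nat_lit 216, nat_lit 252, nat_lit 288, nat_lit 396, nat_lit 180, nat_lit 324, nat_lit 360, nat_lit 180, nat_lit 144, nat_lit 108, nat_lit 72, nat_lit 432, nat_lit 468, nat_lit 180, nat_lit 216, nat_lit 252, nat_lit 288, nat_lit 396, nat_lit 180, nat_lit 324, nat_lit 360, nat_lit 180, nat_lit 144, nat_lit 108, nat_lit 72, nat_lit 432, nat_lit 468, nat_lit 180, nat_lit 216, nat_lit 252, nat_lit 288, nat_lit 396, nat_lit 180, nat_lit 324, nat_lit 360, nat_lit 180, nat_lit 144, nat_lit 108, nat_lit 72, nat_lit 432,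 nat_lit 468, nat_lit 180, nat_lit 216, nat_lit 252, nat_lit 288, nat_lit 396, nat_lit 180, nat_lit 324, nat_lit 360, nat_lit 180, nat_lit 144, nat_lit 108, nat_lit 72, nat_lit 432, nat_lit 468, nat_lit 180, nat_lit 216, nat_lit 252])
noncomputable def r330 : WT := (.leaf (nat_lit 80905) [nat_lit 252, nat_lit 216, nat_lit 180, nat_lit 468, nat_lit 432, nat_lit 72, nat_lit 108, nat_lit 144, nat_lit 180, nat_lit 360, nat_lit 324, nat_lit 180, nat_lit 396, nat_lit 288, nat_lit 252, nat_lit 216, nat_lit 180, nat_lit 468, nat_lit 432, nat_lit 72, nat_lit 108, nat_lit 144, nat_lit 180, nat_lit 360, nat_lit 324, nat_lit 180, nat_lit 396, nat_lit 288, nat_lit 252, nat_lit 216, nat_lit 180, nat_lit 468, nat_lit 432, nat_lit 72, nat_lit 108, nat_lit 144, nat_lit 180, nat_lit 360, nat_lit 324, nat_lit 180, nat_lit 396, nat_lit 288, nat_lit 252, nat_lit 216, nat_lit 180, nat_lit 468, nat_lit 432, nat_lit 72, nat_lit 108, nat_lit 144, nat_lit 180, nat_lit 360, nat_lit 324, nat_lit 180, nat_lit 396, nat_lit 288, nat_lit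 252, nat_lit 216, nat_lit 180, nat_lit 468, nat_lit 432, nat_lit 72, nat_lit 108, nat_lit 144, nat_lit 180, nat_lit 360, nat_lit 324, nat_lit 180, nat_lit 396, nat_lit 288, nat_lit 252, nat_lit 216, nat_lit 180, nat_lit 468, nat_lit 432, nat_lit 72, nat_lit 108, nat_lit 144, nat_lit 180, nat_lit 360, nat_lit 324, nat_lit 180, nat_lit 396, nat_lit 288, nat_lit 252, nat_lit 216, nat_lit 180, nat_lit 468, nat_lit 432, nat_lit 72, nat_lit 108, nat_lit 144, nat_lit 180, nat_lit 360, nat_lit 324, nat_lit 180, nat_lit 396, nat_lit 288, nat_lit 252, nat_lit 216, nat_lit 180, nat_lit 468, nat_lit 432, nat_lit 72, nat_lit 108, nat_lit 144, nat_lit 180, nat_lit 360, nat_lit 324, nat_lit 180, nat_lit 396, nat_lit 288, nat_lit 252, nat_lit 216, nat_lit 180, nat_lit 468, nat_lit 432, nat_lit 72, nat_lit 108, nat_lit 144, nat_lit 180, nat_lit 360, nat_lit 324, nat_lit 180, nat_lit 396, nat_lit 288, nat_lit 252, nat_lit 216, nat_lit 180, nat_lit 468, nat_lit 432, nat_lit 72, nat_lit 108, nat_lit 144, nat_lit 180, nat_lit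 360, nat_lit 324, nat_lit 180, nat_lit 396, nat_lit 288, nat_lit 252, nat_lit 216, nat_lit 180, nat_lit 468, nat_lit 432, nat_lit 72, nat_lit 108, nat_lit 144, nat_lit 180, nat_lit 360, nat_lit 324, nat_lit 180, nat_lit 396, nat_lit 288, nat_lit 252, nat_lit 216, nat_lit 180, nat_lit 468, nat_lit 432, nat_lit 72, nat_lit 108, nat_lit 144, nat_lit 180, nat_lit 360, nat_lit 324, nat_lit 180, nat_lit 396, nat_lit 288, nat_lit 252, nat_lit 216, nat_lit 180, nat_lit 468, nat_lit 432, nat_lit 72, nat_lit 108, nat_lit 144, nat_lit 180, nat_lit 360, nat_lit 324, nat_lit 180, nat_lit 396, nat_lit 288, nat_lit 252, nat_lit 216, nat_lit 180, nat_lit 468, nat_lit 432, nat_lit 72, nat_lit 108, nat_lit 144, nat_lit 180, nat_lit 360, nat_lit 324, nat_lit 180, nat_lit 396, nat_lit 288, nat_lit 252, nat_lit 216, nat_lit 180, nat_lit 468, nat_lit 432, nat_lit 72, nat_lit 108, nat_lit 144, nat_lit 180, nat_lit 360, nat_lit 324, nat_lit 180, nat_lit 396, nat_lit 288, nat_lit 252, nat_lit 216, nat_lit 180, nat_lit 468, nat_lit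 432, nat_lit 72, nat_lit 108, nat_lit 144, nat_lit 180, nat_lit 360, nat_lit 324, nat_lit 180, nat_lit 396, nat_lit 288, nat_lit 252, nat_lit 216, nat_lit 180, nat_lit 468, nat_lit 432, nat_lit 72, nat_lit 108, nat_lit 144, nat_lit 180, nat_lit 360, nat_lit 324, nat_lit 180, nat_lit 396])
noncomputable def r331 : WT := (.node (nat_lit 10) (.leaf (nat_lit 60418) [nat_lit 180, nat_lit 288, nat_lit 180]) (.node (nat_lit 11) (.leaf (nat_lit 54274) [nat_lit 144, nat_lit 288, nat_lit 144]) (.node (nat_lit 12) (.leaf (nat_lit 69634) [nat_lit 252, nat_lit 288, nat_lit 252, nat_lit 288, nat_lit 252]) (.node (nat_lit 13) r329 r330))))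
noncomputable def w6 : WT := (.node (nat_lit 1) (.leaf (nat_lit 6144) [nat_lit 288]) (.node (nat_lit 4) (.node (nat_lit 2) (.leaf (nat_lit 75776) [nat_lit 360, nat_lit 288, nat_lit 360]) (.node (nat_lit 3) (.leaf (nat_lit 74752) [nat_lit 324, nat_lit 288, nat_lit 324]) (.leaf (nat_lit 19458) [nat_lit 468, nat_lit 288, nat_lit 468]))) (.node (nat_lit 7) (.node (nat_lit 5) (.leaf (nat_lit 73728) [nat_lit 396, nat_lit 288, nat_lit 396, nat_lit 288, nat_lit 396]) r327) (.node (nat_lit 9) r328 r331))))
noncomputable def r332 : WT := (.node (nat_lit 7) (.leaf (nat_lit 40962) [nat_lit 72, nat_lit 324, nat_lit 72]) (.leaf (nat_lit 71682) [nat_lit 252, nat_lit 324, nat_lit 252]))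
noncomputable def r333 : WT := (.node (nat_lit 9) (.leaf (nat_lit 49154) [nat_lit 108, nat_lit 324, nat_lit 108]) (.leaf (nat_lit 67586) [nat_lit 216, nat_lit 324, nat_lit 216]))
noncomputable def r334 : WT := (.leaf (nat_lit 83971) [nat_lit 216, nat_lit 180, nat_lit 144, nat_lit 108, nat_lit 72, nat_lit 360, nat_lit 324, nat_lit 216, nat_lit 180, nat_lit 144, nat_lit 108, nat_lit 72, nat_lit 360, nat_lit 324, nat_lit 216, nat_lit 180, nat_lit 144, nat_lit 108, nat_lit 72, nat_lit 360, nat_lit 324, nat_lit 216, nat_lit 180, nat_lit 144, nat_lit 108, nat_lit 72, nat_lit 360, nat_lit 324, nat_lit 216, nat_lit 180, nat_lit 144, nat_lit 108, nat_lit 72, nat_lit 360, nat_lit 324, nat_lit 216, nat_lit 180, nat_lit 144, nat_lit 108, nat_lit 72, nat_lit 360, nat_lit 324, nat_lit 216, nat_lit 180, nat_lit 144, nat_lit 108, nat_lit 72, nat_lit 360, nat_lit 324, nat_lit 216, nat_lit 180, nat_lit 144, nat_lit 108, nat_lit 72, nat_lit 360, nat_lit 324, nat_lit 216, nat_lit 180, nat_lit 144, nat_lit 108, nat_lit 72, nat_lit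 468, nat_lit 360])
noncomputable def r335 : WT := (.leaf (nat_lit 84995) [nat_lit 180, nat_lit 252, nat_lit 216, nat_lit 180, nat_lit 108, nat_lit 144, nat_lit 180, nat_lit 360, nat_lit 324, nat_lit 180, nat_lit 252, nat_lit 216, nat_lit 180, nat_lit 108, nat_lit 144, nat_lit 180, nat_lit 360, nat_lit 324, nat_lit 180, nat_lit 252, nat_lit 216, nat_lit 180, nat_lit 108, nat_lit 144, nat_lit 180, nat_lit 360, nat_lit 324, nat_lit 180, nat_lit 252, nat_lit 216, nat_lit 180, nat_lit 108, nat_lit 144, nat_lit 180, nat_lit 360, nat_lit 324, nat_lit 180, nat_lit 252, nat_lit 216, nat_lit 180, nat_lit 108, nat_lit 144, nat_lit 180, nat_lit 360, nat_lit 324, nat_lit 180, nat_lit 252, nat_lit 216, nat_lit 180, nat_lit 108, nat_lit 144, nat_lit 180, nat_lit 360, nat_lit 324, nat_lit 180, nat_lit 252, nat_lit 216, nat_lit 180, nat_lit 108, nat_lit 144, nat_lit 180, nat_lit 360, nat_lit 324, nat_lit 180, nat_lit 252, nat_lit 216, nat_lit 180, nat_lit 108, nat_lit 144, nat_lit 180, nat_lit 360, nat_lit 324, nat_lit 180,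 nat_lit 252, nat_lit 216, nat_lit 180, nat_lit 108, nat_lit 144, nat_lit 180, nat_lit 360, nat_lit 324, nat_lit 180, nat_lit 252, nat_lit 216, nat_lit 180, nat_lit 108, nat_lit 144, nat_lit 180, nat_lit 360])
noncomputable def r336 : WT := (.leaf (nat_lit 83985) [nat_lit 216, nat_lit 180, nat_lit 144, nat_lit 108, nat_lit 72, nat_lit 360, nat_lit 324, nat_lit 216, nat_lit 180, nat_lit 144, nat_lit 108, nat_lit 72, nat_lit 360, nat_lit 324, nat_lit 216, nat_lit 180, nat_lit 144, nat_lit 108, nat_lit 72, nat_lit 360, nat_lit 324, nat_lit 216, nat_lit 180, nat_lit 144, nat_lit 108, nat_lit 72, nat_lit 360, nat_lit 324, nat_lit 216, nat_lit 180, nat_lit 144, nat_lit 108, nat_lit 72, nat_lit 360, nat_lit 324, nat_lit 216, nat_lit 180, nat_lit 144, nat_lit 108, nat_lit 72, nat_lit 360, nat_lit 324, nat_lit 216, nat_lit 180, nat_lit 144, nat_lit 108, nat_lit 72, nat_lit 360, nat_lit 324, nat_lit 216, nat_lit 180, nat_lit 144, nat_lit 108, nat_lit 72, nat_lit 468, nat_lit 360, nat_lit 324, nat_lit 216, nat_lit 180,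 nat_lit 144, nat_lit 108, nat_lit 72, nat_lit 360])
noncomputable def r337 : WT := (.node (nat_lit 14) r335 r336)
noncomputable def r338 : WT := (.leaf (nat_lit 82947) [nat_lit 216, nat_lit 180, nat_lit 144, nat_lit 108, nat_lit 72, nat_lit 432, nat_lit 360, nat_lit 324, nat_lit 216, nat_lit 180, nat_lit 144, nat_lit 108, nat_lit 72, nat_lit 432, nat_lit 360, nat_lit 324, nat_lit 216, nat_lit 180, nat_lit 144, nat_lit 108, nat_lit 72, nat_lit 432, nat_lit 360, nat_lit 324, nat_lit 216, nat_lit 180, nat_lit 144, nat_lit 108, nat_lit 72, nat_lit 432, nat_lit 360, nat_lit 324, nat_lit 216, nat_lit 180, nat_lit 144, nat_lit 108, nat_lit 72, nat_lit 432, nat_lit 360, nat_lit 324, nat_lit 216, nat_lit 180, nat_lit 144, nat_lit 108, nat_lit 72, nat_lit 432, nat_lit 360, nat_lit 324, nat_lit 216, nat_lit 180, nat_lit 144, nat_lit 108, nat_lit 72, nat_lit 432, nat_lit 360, nat_lit 324, nat_lit 216, nat_lit 180, nat_lit 144, nat_lit 108, nat_lit 72, nat_lit 432, nat_lit 360, nat_lit 324, nat_lit 216, nat_lit 180, nat_lit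 144, nat_lit 108, nat_lit 72, nat_lit 432, nat_lit 360, nat_lit 324, nat_lit 216, nat_lit 180, nat_lit 144, nat_lit 108, nat_lit 72, nat_lit 432, nat_lit 360, nat_lit 324, nat_lit 216, nat_lit 180, nat_lit 144, nat_lit 108, nat_lit 72, nat_lit 432, nat_lit 360, nat_lit 324, nat_lit 216, nat_lit 180, nat_lit 144, nat_lit 108, nat_lit 72, nat_lit 432, nat_lit 360, nat_lit 324, nat_lit 216, nat_lit 180, nat_lit 144, nat_lit 108, nat_lit 72, nat_lit 432, nat_lit 360, nat_lit 324, nat_lit 216, nat_lit 180, nat_lit 144, nat_lit 108, nat_lit 72, nat_lit 432, nat_lit 360, nat_lit 324, nat_lit 216, nat_lit 180, nat_lit 144, nat_lit 108, nat_lit 72, nat_lit 432, nat_lit 360])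
noncomputable def r339 : WT := (.leaf (nat_lit 85006) [nat_lit 360, nat_lit 180, nat_lit 144, nat_lit 108, nat_lit 180, nat_lit 216, nat_lit 252, nat_lit 180, nat_lit 324, nat_lit 360, nat_lit 180, nat_lit 144, nat_lit 108, nat_lit 180, nat_lit 216, nat_lit 252, nat_lit 180, nat_lit 324, nat_lit 360, nat_lit 180, nat_lit 144, nat_lit 108, nat_lit 180, nat_lit 216, nat_lit 252, nat_lit 180, nat_lit 324, nat_lit 360, nat_lit 180, nat_lit 144, nat_lit 108, nat_lit 180, nat_lit 216, nat_lit 252, nat_lit 180, nat_lit 324, nat_lit 360, nat_lit 180, nat_lit 144, nat_lit 108, nat_lit 180, nat_lit 216, nat_lit 252, nat_lit 180, nat_lit 324, nat_lit 360, nat_lit 180, nat_lit 144, nat_lit 108, nat_lit 180, nat_lit 216, nat_lit 252, nat_lit 180, nat_lit 324, nat_lit 360, nat_lit 180, nat_lit 144, nat_lit 108, nat_lit 180, nat_lit 216, nat_lit 252, nat_lit 180, nat_lit 324, nat_lit 360, nat_lit 180, nat_lit 144, nat_lit 108, nat_lit 180, nat_lit 216, nat_lit 252, nat_lit 180, nat_lit 324, nat_lit 360, nat_lit 180, nat_lit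 144, nat_lit 108, nat_lit 180, nat_lit 216, nat_lit 252, nat_lit 180, nat_lit 324, nat_lit 360, nat_lit 180, nat_lit 144, nat_lit 108, nat_lit 180, nat_lit 216, nat_lit 252, nat_lit 180])
noncomputable def r340 : WT := (.leaf (nat_lit 79874) [nat_lit 252, nat_lit 216, nat_lit 180, nat_lit 144, nat_lit 108, nat_lit 72, nat_lit 324, nat_lit 252, nat_lit 216, nat_lit 180, nat_lit 144, nat_lit 108, nat_lit 72, nat_lit 324, nat_lit 252, nat_lit 216, nat_lit 180, nat_lit 144, nat_lit 108, nat_lit 72, nat_lit 324, nat_lit 252, nat_lit 216, nat_lit 180, nat_lit 144, nat_lit 108, nat_lit 72, nat_lit 324, nat_lit 252, nat_lit 216, nat_lit 180, nat_lit 144, nat_lit 108, nat_lit 72, nat_lit 324, nat_lit 252, nat_lit 216, nat_lit 180, nat_lit 144, nat_lit 108, nat_lit 72, nat_lit 324, nat_lit 252, nat_lit 216, nat_lit 180, nat_lit 144, nat_lit 108, nat_lit 72, nat_lit 324, nat_lit 252, nat_lit 216, nat_lit 180, nat_lit 144, nat_lit 108, nat_lit 72, nat_lit 324, nat_lit 252, nat_lit 216, nat_lit 180, nat_lit 144, nat_lit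 108, nat_lit 72, nat_lit 468])
noncomputable def r341 : WT := (.leaf (nat_lit 79885) [nat_lit 72, nat_lit 108, nat_lit 144, nat_lit 180, nat_lit 216, nat_lit 252, nat_lit 324, nat_lit 72, nat_lit 108, nat_lit 144, nat_lit 180, nat_lit 216, nat_lit 252, nat_lit 324, nat_lit 72, nat_lit 108, nat_lit 144, nat_lit 180, nat_lit 216, nat_lit 252, nat_lit 324, nat_lit 72, nat_lit 108, nat_lit 144, nat_lit 180, nat_lit 216, nat_lit 252, nat_lit 324, nat_lit 72, nat_lit 108, nat_lit 144, nat_lit 180, nat_lit 216, nat_lit 252, nat_lit 324, nat_lit 72, nat_lit 108, nat_lit 144, nat_lit 180, nat_lit 216, nat_lit 252, nat_lit 324, nat_lit 72, nat_lit 108, nat_lit 144, nat_lit 180, nat_lit 216, nat_lit 252, nat_lit 324, nat_lit 72, nat_lit 108, nat_lit 144, nat_lit 180, nat_lit 216, nat_lit 252, nat_lit 324, nat_lit 468, nat_lit 72, nat_lit 108, nat_lit 144, nat_lit 180, nat_lit 216, nat_lit 252])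
noncomputable def r342 : WT := (.node (nat_lit 17) (.node (nat_lit 16) r338 r339) (.node (nat_lit 18) r340 r341))
noncomputable def r343 : WT := (.leaf (nat_lit 83980) [nat_lit 360, nat_lit 72, nat_lit 108, nat_lit 144, nat_lit 180, nat_lit 216, nat_lit 324, nat_lit 360, nat_lit 72, nat_lit 108, nat_lit 144, nat_lit 180, nat_lit 216, nat_lit 324, nat_lit 360, nat_lit 72, nat_lit 108, nat_lit 144, nat_lit 180, nat_lit 216, nat_lit 324, nat_lit 360, nat_lit 72, nat_lit 108, nat_lit 144, nat_lit 180, nat_lit 216, nat_lit 324, nat_lit 360, nat_lit 72, nat_lit 108, nat_lit 144, nat_lit 180, nat_lit 216, nat_lit 324, nat_lit 360, nat_lit 72, nat_lit 108, nat_lit 144, nat_lit 180, nat_lit 216, nat_lit 324, nat_lit 360, nat_lit 72, nat_lit 108, nat_lit 144, nat_lit 180, nat_lit 216, nat_lit 324, nat_lit 360, nat_lit 72, nat_lit 108, nat_lit 144, nat_lit 180, nat_lit 216, nat_lit 324, nat_lit 360, nat_lit 468, nat_lit 72, nat_lit 108, nat_lit 144, nat_lit 180, nat_lit 216])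
noncomputable def r344 : WT := (.leaf (nat_lit 79888) [nat_lit 252, nat_lit 216, nat_lit 180, nat_lit 144, nat_lit 108, nat_lit 72, nat_lit 324, nat_lit 252, nat_lit 216, nat_lit 180, nat_lit 144, nat_lit 108, nat_lit 72, nat_lit 324, nat_lit 252, nat_lit 216, nat_lit 180, nat_lit 144, nat_lit 108, nat_lit 72, nat_lit 324, nat_lit 252, nat_lit 216, nat_lit 180, nat_lit 144, nat_lit 108, nat_lit 72, nat_lit 324, nat_lit 252, nat_lit 216, nat_lit 180, nat_lit 144, nat_lit 108, nat_lit 72, nat_lit 324, nat_lit 252, nat_lit 216, nat_lit 180, nat_lit 144, nat_lit 108, nat_lit 72, nat_lit 324, nat_lit 252, nat_lit 216, nat_lit 180, nat_lit 144, nat_lit 108, nat_lit 72, nat_lit 324, nat_lit 252, nat_lit 216, nat_lit 180, nat_lit 144, nat_lit 108, nat_lit 72, nat_lit 468, nat_lit 324, nat_lit 252, nat_lit 216, nat_lit 180, nat_lit 144, nat_lit 108, nat_lit 72])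
noncomputable def r345 : WT := (.leaf (nat_lit 80899) [nat_lit 180, nat_lit 396, nat_lit 288, nat_lit 252, nat_lit 216, nat_lit 180, nat_lit 468, nat_lit 432, nat_lit 72, nat_lit 108, nat_lit 144, nat_lit 180, nat_lit 360, nat_lit 324, nat_lit 180, nat_lit 396, nat_lit 288, nat_lit 252, nat_lit 216, nat_lit 180, nat_lit 468, nat_lit 432, nat_lit 72, nat_lit 108, nat_lit 144, nat_lit 180, nat_lit 360, nat_lit 324, nat_lit 180, nat_lit 396, nat_lit 288, nat_lit 252, nat_lit 216, nat_lit 180, nat_lit 468, nat_lit 432, nat_lit 72, nat_lit 108, nat_lit 144, nat_lit 180, nat_lit 360, nat_lit 324, nat_lit 180, nat_lit 396, nat_lit 288, nat_lit 252, nat_lit 216, nat_lit 180, nat_lit 468, nat_lit 432, nat_lit 72, nat_lit 108, nat_lit 144, nat_lit 180, nat_lit 360, nat_lit 324, nat_lit 180, nat_lit 396, nat_lit 288, nat_lit 252, nat_lit 216, nat_lit 180, nat_lit 468, nat_lit 432, nat_lit 72, nat_lit 108, nat_lit 144, nat_lit 180, nat_lit 360, nat_lit 324, nat_lit 180, nat_lit 396, nat_lit 288, nat_lit 252, nat_lit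 216, nat_lit 180, nat_lit 468, nat_lit 432, nat_lit 72, nat_lit 108, nat_lit 144, nat_lit 180, nat_lit 360, nat_lit 324, nat_lit 180, nat_lit 396, nat_lit 288, nat_lit 252, nat_lit 216, nat_lit 180, nat_lit 468, nat_lit 432, nat_lit 72, nat_lit 108, nat_lit 144, nat_lit 180, nat_lit 360, nat_lit 324, nat_lit 180, nat_lit 396, nat_lit 288, nat_lit 252, nat_lit 216, nat_lit 180, nat_lit 468, nat_lit 432, nat_lit 72, nat_lit 108, nat_lit 144, nat_lit 180, nat_lit 360, nat_lit 324, nat_lit 180, nat_lit 396, nat_lit 288, nat_lit 252, nat_lit 216, nat_lit 180, nat_lit 468, nat_lit 432, nat_lit 72, nat_lit 108, nat_lit 144, nat_lit 180, nat_lit 360, nat_lit 324, nat_lit 180, nat_lit 396, nat_lit 288, nat_lit 252, nat_lit 216, nat_lit 180, nat_lit 468, nat_lit 432, nat_lit 72, nat_lit 108, nat_lit 144, nat_lit 180, nat_lit 360, nat_lit 324, nat_lit 180, nat_lit 396, nat_lit 288, nat_lit 252, nat_lit 216, nat_lit 180, nat_lit 468, nat_lit 432, nat_lit 72, nat_lit 108, nat_lit 144, nat_lit 180, nat_lit 360, nat_lit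 324, nat_lit 180, nat_lit 396, nat_lit 288, nat_lit 252, nat_lit 216, nat_lit 180, nat_lit 468, nat_lit 432, nat_lit 72, nat_lit 108, nat_lit 144, nat_lit 180, nat_lit 360, nat_lit 324, nat_lit 180, nat_lit 396, nat_lit 288, nat_lit 252, nat_lit 216, nat_lit 180, nat_lit 468, nat_lit 432, nat_lit 72, nat_lit 108, nat_lit 144, nat_lit 180, nat_lit 360, nat_lit 324, nat_lit 180, nat_lit 396, nat_lit 288, nat_lit 252, nat_lit 216, nat_lit 180, nat_lit 468, nat_lit 432, nat_lit 72, nat_lit 108, nat_lit 144, nat_lit 180, nat_lit 360, nat_lit 324, nat_lit 180, nat_lit 396, nat_lit 288, nat_lit 252, nat_lit 216, nat_lit 180, nat_lit 468, nat_lit 432, nat_lit 72, nat_lit 108, nat_lit 144, nat_lit 180, nat_lit 360, nat_lit 324, nat_lit 180, nat_lit 396, nat_lit 288, nat_lit 252, nat_lit 216, nat_lit 180, nat_lit 468, nat_lit 432, nat_lit 72, nat_lit 108, nat_lit 144, nat_lit 180, nat_lit 360, nat_lit 324, nat_lit 180, nat_lit 396, nat_lit 288, nat_lit 252, nat_lit 216, nat_lit 180, nat_lit 468, nat_lit 432, nat_lit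 72, nat_lit 108, nat_lit 144, nat_lit 180, nat_lit 360])
noncomputable def r346 : WT := (.leaf (nat_lit 81921) [nat_lit 252, nat_lit 216, nat_lit 180, nat_lit 144, nat_lit 108, nat_lit 72, nat_lit 432, nat_lit 324, nat_lit 252, nat_lit 216, nat_lit 180, nat_lit 144, nat_lit 108, nat_lit 72, nat_lit 432, nat_lit 324, nat_lit 252, nat_lit 216, nat_lit 180, nat_lit 144, nat_lit 108, nat_lit 72, nat_lit 432, nat_lit 324, nat_lit 252, nat_lit 216, nat_lit 180, nat_lit 144, nat_lit 108, nat_lit 72, nat_lit 432, nat_lit 324, nat_lit 252, nat_lit 216, nat_lit 180, nat_lit 144, nat_lit 108, nat_lit 72, nat_lit 432, nat_lit 324, nat_lit 252, nat_lit 216, nat_lit 180, nat_lit 144, nat_lit 108, nat_lit 72, nat_lit 432, nat_lit 324, nat_lit 252, nat_lit 216, nat_lit 180, nat_lit 144, nat_lit 108, nat_lit 72, nat_lit 432, nat_lit 324, nat_lit 252, nat_lit 216, nat_lit 180, nat_lit 144, nat_lit 108, nat_lit 72, nat_lit 432, nat_lit 324, nat_lit 252, nat_lit 216, nat_lit 180, nat_lit 144, nat_lit 108, nat_lit 72, nat_lit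 432, nat_lit 324, nat_lit 252, nat_lit 216, nat_lit 180, nat_lit 144, nat_lit 108, nat_lit 72, nat_lit 432, nat_lit 324, nat_lit 252, nat_lit 216, nat_lit 180, nat_lit 144, nat_lit 108, nat_lit 72, nat_lit 432, nat_lit 324, nat_lit 252, nat_lit 216, nat_lit 180, nat_lit 144, nat_lit 108, nat_lit 72, nat_lit 432, nat_lit 324, nat_lit 252, nat_lit 216, nat_lit 180, nat_lit 144, nat_lit 108, nat_lit 72, nat_lit 432, nat_lit 324, nat_lit 252, nat_lit 216, nat_lit 180, nat_lit 144, nat_lit 108, nat_lit 72, nat_lit 432, nat_lit 324, nat_lit 252, nat_lit 216, nat_lit 180, nat_lit 144, nat_lit 108, nat_lit 72, nat_lit 432])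
noncomputable def r347 : WT := (.leaf (nat_lit 82956) [nat_lit 360, nat_lit 432, nat_lit 72, nat_lit 108, nat_lit 144, nat_lit 180, nat_lit 216, nat_lit 324, nat_lit 360, nat_lit 432, nat_lit 72, nat_lit 108, nat_lit 144, nat_lit 180, nat_lit 216, nat_lit 324, nat_lit 360, nat_lit 432, nat_lit 72, nat_lit 108, nat_lit 144, nat_lit 180, nat_lit 216, nat_lit 324, nat_lit 360, nat_lit 432, nat_lit 72, nat_lit 108, nat_lit 144, nat_lit 180, nat_lit 216, nat_lit 324, nat_lit 360, nat_lit 432, nat_lit 72, nat_lit 108, nat_lit 144, nat_lit 180, nat_lit 216, nat_lit 324, nat_lit 360, nat_lit 432, nat_lit 72, nat_lit 108, nat_lit 144, nat_lit 180, nat_lit 216, nat_lit 324, nat_lit 360, nat_lit 432, nat_lit 72, nat_lit 108, nat_lit 144, nat_lit 180, nat_lit 216, nat_lit 324, nat_lit 360, nat_lit 432, nat_lit 72, nat_lit 108, nat_lit 144, nat_lit 180, nat_lit 216, nat_lit 324, nat_lit 360, nat_lit 432, nat_lit 72, nat_lit 108, nat_lit 144, nat_lit 180, nat_lit 216, nat_lit 324, nat_lit 360, nat_lit 432, nat_lit 72,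 nat_lit 108, nat_lit 144, nat_lit 180, nat_lit 216, nat_lit 324, nat_lit 360, nat_lit 432, nat_lit 72, nat_lit 108, nat_lit 144, nat_lit 180, nat_lit 216, nat_lit 324, nat_lit 360, nat_lit 432, nat_lit 72, nat_lit 108, nat_lit 144, nat_lit 180, nat_lit 216, nat_lit 324, nat_lit 360, nat_lit 432, nat_lit 72, nat_lit 108, nat_lit 144, nat_lit 180, nat_lit 216, nat_lit 324, nat_lit 360, nat_lit 432, nat_lit 72, nat_lit 108, nat_lit 144, nat_lit 180, nat_lit 216, nat_lit 324, nat_lit 360, nat_lit 432, nat_lit 72, nat_lit 108, nat_lit 144, nat_lit 180, nat_lit 216])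
noncomputable def r348 : WT := (.leaf (nat_lit 81934) [nat_lit 432, nat_lit 72, nat_lit 108, nat_lit 144, nat_lit 180, nat_lit 216, nat_lit 252, nat_lit 324, nat_lit 432, nat_lit 72, nat_lit 108, nat_lit 144, nat_lit 180, nat_lit 216, nat_lit 252, nat_lit 324, nat_lit 432, nat_lit 72, nat_lit 108, nat_lit 144, nat_lit 180, nat_lit 216, nat_lit 252, nat_lit 324, nat_lit 432, nat_lit 72, nat_lit 108, nat_lit 144, nat_lit 180, nat_lit 216, nat_lit 252, nat_lit 324, nat_lit 432, nat_lit 72, nat_lit 108, nat_lit 144, nat_lit 180, nat_lit 216, nat_lit 252, nat_lit 324, nat_lit 432, nat_lit 72, nat_lit 108, nat_lit 144, nat_lit 180, nat_lit 216, nat_lit 252, nat_lit 324, nat_lit 432, nat_lit 72, nat_lit 108, nat_lit 144, nat_lit 180, nat_lit 216, nat_lit 252, nat_lit 324, nat_lit 432, nat_lit 72, nat_lit 108, nat_lit 144, nat_lit 180, nat_lit 216, nat_lit 252, nat_lit 324, nat_lit 432, nat_lit 72, nat_lit 108, nat_lit 144, nat_lit 180, nat_lit 216, nat_lit 252, nat_lit 324, nat_lit 432, nat_lit 72, nat_lit 108,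 nat_lit 144, nat_lit 180, nat_lit 216, nat_lit 252, nat_lit 324, nat_lit 432, nat_lit 72, nat_lit 108, nat_lit 144, nat_lit 180, nat_lit 216, nat_lit 252, nat_lit 324, nat_lit 432, nat_lit 72, nat_lit 108, nat_lit 144, nat_lit 180, nat_lit 216, nat_lit 252, nat_lit 324, nat_lit 432, nat_lit 72, nat_lit 108, nat_lit 144, nat_lit 180, nat_lit 216, nat_lit 252, nat_lit 324, nat_lit 432, nat_lit 72, nat_lit 108, nat_lit 144, nat_lit 180, nat_lit 216, nat_lit 252, nat_lit 324, nat_lit 432, nat_lit 72, nat_lit 108, nat_lit 144, nat_lit 180, nat_lit 216, nat_lit 252])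
noncomputable def r349 : WT := (.leaf (nat_lit 79997) [nat_lit 468, nat_lit 72, nat_lit 108, nat_lit 144, nat_lit 180, nat_lit 216, nat_lit 252, nat_lit 324, nat_lit 72, nat_lit 108, nat_lit 144, nat_lit 180, nat_lit 216, nat_lit 252, nat_lit 324, nat_lit 72, nat_lit 108, nat_lit 144, nat_lit 180, nat_lit 216, nat_lit 252, nat_lit 324, nat_lit 72, nat_lit 108, nat_lit 144, nat_lit 180, nat_lit 216, nat_lit 252, nat_lit 324, nat_lit 72, nat_lit 108, nat_lit 144, nat_lit 180, nat_lit 216, nat_lit 252, nat_lit 324, nat_lit 72, nat_lit 108, nat_lit 144, nat_lit 180, nat_lit 216, nat_lit 252, nat_lit 324, nat_lit 72, nat_lit 108, nat_lit 144, nat_lit 180, nat_lit 216, nat_lit 252, nat_lit 324, nat_lit 72, nat_lit 108, nat_lit 144, nat_lit 180, nat_lit 216, nat_lit 252, nat_lit 324, nat_lit 72, nat_lit 108, nat_lit 144, nat_lit 180, nat_lit 216, nat_lit 252])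
noncomputable def r350 : WT := (.node (nat_lit 25) r348 r349)
noncomputable def r351 : WT := (.leaf (nat_lit 80920) [nat_lit 360, nat_lit 180, nat_lit 144, nat_lit 108, nat_lit 72, nat_lit 432, nat_lit 468, nat_lit 180, nat_lit 216, nat_lit 252, nat_lit 288, nat_lit 396, nat_lit 180, nat_lit 324, nat_lit 360, nat_lit 180, nat_lit 144, nat_lit 108, nat_lit 72, nat_lit 432, nat_lit 468, nat_lit 180, nat_lit 216, nat_lit 252, nat_lit 288, nat_lit 396, nat_lit 180, nat_lit 324, nat_lit 360, nat_lit 180, nat_lit 144, nat_lit 108, nat_lit 72, nat_lit 432, nat_lit 468, nat_lit 180, nat_lit 216, nat_lit 252, nat_lit 288, nat_lit 396, nat_lit 180, nat_lit 324, nat_lit 360, nat_lit 180, nat_lit 144, nat_lit 108, nat_lit 72, nat_lit 432, nat_lit 468, nat_lit 180, nat_lit 216, nat_lit 252, nat_lit 288, nat_lit 396, nat_lit 180, nat_lit 324, nat_lit 360, nat_lit 180, nat_lit 144, nat_lit 108, nat_lit 72, nat_lit 432, nat_lit 468, nat_lit 180, nat_lit 216, nat_lit 252, nat_lit 288, nat_lit 396, nat_lit 180, nat_lit 324,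 nat_lit 360, nat_lit 180, nat_lit 144, nat_lit 108, nat_lit 72, nat_lit 432, nat_lit 468, nat_lit 180, nat_lit 216, nat_lit 252, nat_lit 288, nat_lit 396, nat_lit 180, nat_lit 324, nat_lit 360, nat_lit 180, nat_lit 144, nat_lit 108, nat_lit 72, nat_lit 432, nat_lit 468, nat_lit 180, nat_lit 216, nat_lit 252, nat_lit 288, nat_lit 396, nat_lit 180, nat_lit 324, nat_lit 360, nat_lit 180, nat_lit 144, nat_lit 108, nat_lit 72, nat_lit 432, nat_lit 468, nat_lit 180, nat_lit 216, nat_lit 252, nat_lit 288, nat_lit 396, nat_lit 180, nat_lit 324, nat_lit 360, nat_lit 180, nat_lit 144, nat_lit 108, nat_lit 72, nat_lit 432, nat_lit 468, nat_lit 180, nat_lit 216, nat_lit 252, nat_lit 288, nat_lit 396, nat_lit 180, nat_lit 324, nat_lit 360, nat_lit 180, nat_lit 144, nat_lit 108, nat_lit 72, nat_lit 432, nat_lit 468, nat_lit 180, nat_lit 216, nat_lit 252, nat_lit 288, nat_lit 396, nat_lit 180, nat_lit 324, nat_lit 360, nat_lit 180, nat_lit 144, nat_lit 108, nat_lit 72, nat_lit 432, nat_lit 468, nat_lit 180, nat_lit 216,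 nat_lit 252, nat_lit 288, nat_lit 396, nat_lit 180, nat_lit 324, nat_lit 360, nat_lit 180, nat_lit 144, nat_lit 108, nat_lit 72, nat_lit 432, nat_lit 468, nat_lit 180, nat_lit 216, nat_lit 252, nat_lit 288, nat_lit 396, nat_lit 180, nat_lit 324, nat_lit 360, nat_lit 180, nat_lit 144, nat_lit 108, nat_lit 72, nat_lit 432, nat_lit 468, nat_lit 180, nat_lit 216, nat_lit 252, nat_lit 288, nat_lit 396, nat_lit 180, nat_lit 324, nat_lit 360, nat_lit 180, nat_lit 144, nat_lit 108, nat_lit 72, nat_lit 432, nat_lit 468, nat_lit 180, nat_lit 216, nat_lit 252, nat_lit 288, nat_lit 396, nat_lit 180, nat_lit 324, nat_lit 360, nat_lit 180, nat_lit 144, nat_lit 108, nat_lit 72, nat_lit 432, nat_lit 468, nat_lit 180, nat_lit 216, nat_lit 252, nat_lit 288, nat_lit 396, nat_lit 180, nat_lit 324, nat_lit 360, nat_lit 180, nat_lit 144, nat_lit 108, nat_lit 72, nat_lit 432, nat_lit 468, nat_lit 180, nat_lit 216, nat_lit 252, nat_lit 288, nat_lit 396, nat_lit 180, nat_lit 324, nat_lit 360, nat_lit 180, nat_lit 144, nat_lit 108,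 nat_lit 72, nat_lit 432, nat_lit 468, nat_lit 180, nat_lit 216, nat_lit 252, nat_lit 288, nat_lit 396, nat_lit 180])
noncomputable def r352 : WT := (.leaf (nat_lit 83999) [nat_lit 216, nat_lit 180, nat_lit 144, nat_lit 108, nat_lit 72, nat_lit 360, nat_lit 324, nat_lit 216, nat_lit 180, nat_lit 144, nat_lit 108, nat_lit 72, nat_lit 360, nat_lit 324, nat_lit 216, nat_lit 180, nat_lit 144, nat_lit 108, nat_lit 72, nat_lit 360, nat_lit 324, nat_lit 216, nat_lit 180, nat_lit 144, nat_lit 108, nat_lit 72, nat_lit 360, nat_lit 324, nat_lit 216, nat_lit 180, nat_lit 144, nat_lit 108, nat_lit 72, nat_lit 360, nat_lit 324, nat_lit 216, nat_lit 180, nat_lit 144, nat_lit 108, nat_lit 72, nat_lit 360, nat_lit 324, nat_lit 216, nat_lit 180, nat_lit 144, nat_lit 108, nat_lit 72, nat_lit 468, nat_lit 360, nat_lit 324, nat_lit 216, nat_lit 180, nat_lit 144, nat_lit 108, nat_lit 72, nat_lit 360, nat_lit 324, nat_lit 216, nat_lit 180, nat_lit 144, nat_lit 108, nat_lit 72, nat_lit 360])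
noncomputable def r353 : WT := (.node (nat_lit 27) r351 r352)
noncomputable def r354 : WT := (.leaf (nat_lit 84069) [nat_lit 216, nat_lit 180, nat_lit 144, nat_lit 108, nat_lit 72, nat_lit 360, nat_lit 324, nat_lit 216, nat_lit 180, nat_lit 144, nat_lit 108, nat_lit 72, nat_lit 468, nat_lit 360, nat_lit 324, nat_lit 216, nat_lit 180, nat_lit 144, nat_lit 108, nat_lit 72, nat_lit 360, nat_lit 324, nat_lit 216, nat_lit 180, nat_lit 144, nat_lit 108, nat_lit 72, nat_lit 360, nat_lit 324, nat_lit 216, nat_lit 180, nat_lit 144, nat_lit 108, nat_lit 72, nat_lit 360, nat_lit 324, nat_lit 216, nat_lit 180, nat_lit 144, nat_lit 108, nat_lit 72, nat_lit 360, nat_lit 324, nat_lit 216, nat_lit 180, nat_lit 144, nat_lit 108, nat_lit 72, nat_lit 360, nat_lit 324, nat_lit 216, nat_lit 180, nat_lit 144, nat_lit 108, nat_lit 72, nat_lit 360, nat_lit 324, nat_lit 216, nat_lit 180, nat_lit 144, nat_lit 108, nat_lit 72, nat_lit 360])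
noncomputable def r355 : WT := (.leaf (nat_lit 84008) [nat_lit 360, nat_lit 72, nat_lit 108, nat_lit 144, nat_lit 180, nat_lit 216, nat_lit 324, nat_lit 360, nat_lit 72, nat_lit 108, nat_lit 144, nat_lit 180, nat_lit 216, nat_lit 324, nat_lit 360, nat_lit 72, nat_lit 108, nat_lit 144, nat_lit 180, nat_lit 216, nat_lit 324, nat_lit 360, nat_lit 72, nat_lit 108, nat_lit 144, nat_lit 180, nat_lit 216, nat_lit 324, nat_lit 360, nat_lit 72, nat_lit 108, nat_lit 144, nat_lit 180, nat_lit 216, nat_lit 324, nat_lit 360, nat_lit 72, nat_lit 108, nat_lit 144, nat_lit 180, nat_lit 216, nat_lit 324, nat_lit 360, nat_lit 468, nat_lit 72, nat_lit 108, nat_lit 144, nat_lit 180, nat_lit 216, nat_lit 324, nat_lit 360, nat_lit 72, nat_lit 108, nat_lit 144, nat_lit 180, nat_lit 216, nat_lit 324, nat_lit 360, nat_lit 72, nat_lit 108, nat_lit 144, nat_lit 180, nat_lit 216])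
noncomputable def r356 : WT := (.leaf (nat_lit 84022) [nat_lit 360, nat_lit 72, nat_lit 108, nat_lit 144, nat_lit 180, nat_lit 216, nat_lit 324, nat_lit 360, nat_lit 72, nat_lit 108, nat_lit 144, nat_lit 180, nat_lit 216, nat_lit 324, nat_lit 360, nat_lit 72, nat_lit 108, nat_lit 144, nat_lit 180, nat_lit 216, nat_lit 324, nat_lit 360, nat_lit 72, nat_lit 108, nat_lit 144, nat_lit 180, nat_lit 216, nat_lit 324, nat_lit 360, nat_lit 72, nat_lit 108, nat_lit 144, nat_lit 180, nat_lit 216, nat_lit 324, nat_lit 360, nat_lit 468, nat_lit 72, nat_lit 108, nat_lit 144, nat_lit 180, nat_lit 216, nat_lit 324, nat_lit 360, nat_lit 72, nat_lit 108, nat_lit 144, nat_lit 180, nat_lit 216, nat_lit 324, nat_lit 360, nat_lit 72, nat_lit 108, nat_lit 144, nat_lit 180, nat_lit 216, nat_lit 324, nat_lit 360, nat_lit 72, nat_lit 108, nat_lit 144, nat_lit 180, nat_lit 216])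
noncomputable def r357 : WT := (.leaf (nat_lit 84041) [nat_lit 216, nat_lit 180, nat_lit 144, nat_lit 108, nat_lit 72, nat_lit 360, nat_lit 324, nat_lit 216, nat_lit 180, nat_lit 144, nat_lit 108, nat_lit 72, nat_lit 360, nat_lit 324, nat_lit 216, nat_lit 180, nat_lit 144, nat_lit 108, nat_lit 72, nat_lit 360, nat_lit 324, nat_lit 216, nat_lit 180, nat_lit 144, nat_lit 108, nat_lit 72, nat_lit 468, nat_lit 360, nat_lit 324, nat_lit 216, nat_lit 180, nat_lit 144, nat_lit 108, nat_lit 72, nat_lit 360, nat_lit 324, nat_lit 216, nat_lit 180, nat_lit 144, nat_lit 108, nat_lit 72, nat_lit 360, nat_lit 324, nat_lit 216, nat_lit 180, nat_lit 144, nat_lit 108, nat_lit 72, nat_lit 360, nat_lit 324, nat_lit 216, nat_lit 180, nat_lit 144, nat_lit 108, nat_lit 72, nat_lit 360, nat_lit 324, nat_lit 216, nat_lit 180, nat_lit 144, nat_lit 108, nat_lit 72, nat_lit 360])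
noncomputable def r358 : WT := (.node (nat_lit 30) (.node (nat_lit 29) r354 r355) (.node (nat_lit 31) r356 r357))
noncomputable def r359 : WT := (.leaf (nat_lit 84027) [nat_lit 216, nat_lit 180, nat_lit 144, nat_lit 108, nat_lit 72, nat_lit 360, nat_lit 324, nat_lit 216, nat_lit 180, nat_lit 144, nat_lit 108, nat_lit 72, nat_lit 360, nat_lit 324, nat_lit 216, nat_lit 180, nat_lit 144, nat_lit 108, nat_lit 72, nat_lit 360, nat_lit 324, nat_lit 216, nat_lit 180, nat_lit 144, nat_lit 108, nat_lit 72, nat_lit 360, nat_lit 324, nat_lit 216, nat_lit 180, nat_lit 144, nat_lit 108, nat_lit 72, nat_lit 468, nat_lit 360, nat_lit 324, nat_lit 216, nat_lit 180, nat_lit 144, nat_lit 108, nat_lit 72, nat_lit 360, nat_lit 324, nat_lit 216, nat_lit 180, nat_lit 144, nat_lit 108, nat_lit 72, nat_lit 360, nat_lit 324, nat_lit 216, nat_lit 180, nat_lit 144, nat_lit 108, nat_lit 72, nat_lit 360, nat_lit 324, nat_lit 216, nat_lit 180, nat_lit 144, nat_lit 108, nat_lit 72, nat_lit 360])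
noncomputable def r360 : WT := (.leaf (nat_lit 84064) [nat_lit 360, nat_lit 72, nat_lit 108, nat_lit 144, nat_lit 180, nat_lit 216, nat_lit 324, nat_lit 360, nat_lit 72, nat_lit 108, nat_lit 144, nat_lit 180, nat_lit 216, nat_lit 324, nat_lit 360, nat_lit 468, nat_lit 72, nat_lit 108, nat_lit 144, nat_lit 180, nat_lit 216, nat_lit 324, nat_lit 360, nat_lit 72, nat_lit 108, nat_lit 144, nat_lit 180, nat_lit 216, nat_lit 324, nat_lit 360, nat_lit 72, nat_lit 108, nat_lit 144, nat_lit 180, nat_lit 216, nat_lit 324, nat_lit 360, nat_lit 72, nat_lit 108, nat_lit 144, nat_lit 180, nat_lit 216, nat_lit 324, nat_lit 360, nat_lit 72, nat_lit 108, nat_lit 144, nat_lit 180, nat_lit 216, nat_lit 324, nat_lit 360, nat_lit 72, nat_lit 108, nat_lit 144, nat_lit 180, nat_lit 216, nat_lit 324, nat_lit 360, nat_lit 72, nat_lit 108, nat_lit 144, nat_lit 180, nat_lit 216])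
noncomputable def r361 : WT := (.leaf (nat_lit 84013) [nat_lit 216, nat_lit 180, nat_lit 144, nat_lit 108, nat_lit 72, nat_lit 360, nat_lit 324, nat_lit 216, nat_lit 180, nat_lit 144, nat_lit 108, nat_lit 72, nat_lit 360, nat_lit 324, nat_lit 216, nat_lit 180, nat_lit 144, nat_lit 108, nat_lit 72, nat_lit 360, nat_lit 324, nat_lit 216, nat_lit 180, nat_lit 144, nat_lit 108, nat_lit 72, nat_lit 360, nat_lit 324, nat_lit 216, nat_lit 180, nat_lit 144, nat_lit 108, nat_lit 72, nat_lit 360, nat_lit 324, nat_lit 216, nat_lit 180, nat_lit 144, nat_lit 108, nat_lit 72, nat_lit 468, nat_lit 360, nat_lit 324, nat_lit 216, nat_lit 180, nat_lit 144, nat_lit 108, nat_lit 72, nat_lit 360, nat_lit 324, nat_lit 216, nat_lit 180, nat_lit 144, nat_lit 108, nat_lit 72, nat_lit 360, nat_lit 324, nat_lit 216, nat_lit 180, nat_lit 144, nat_lit 108, nat_lit 72, nat_lit 360])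
noncomputable def r362 : WT := (.leaf (nat_lit 79955) [nat_lit 72, nat_lit 108, nat_lit 144, nat_lit 180, nat_lit 216, nat_lit 252, nat_lit 324, nat_lit 72, nat_lit 108, nat_lit 144, nat_lit 180, nat_lit 216, nat_lit 252, nat_lit 324, nat_lit 72, nat_lit 108, nat_lit 144, nat_lit 180, nat_lit 216, nat_lit 252, nat_lit 324, nat_lit 468, nat_lit 72, nat_lit 108, nat_lit 144, nat_lit 180, nat_lit 216, nat_lit 252, nat_lit 324, nat_lit 72, nat_lit 108, nat_lit 144, nat_lit 180, nat_lit 216, nat_lit 252, nat_lit 324, nat_lit 72, nat_lit 108, nat_lit 144, nat_lit 180, nat_lit 216, nat_lit 252, nat_lit 324, nat_lit 72, nat_lit 108, nat_lit 144, nat_lit 180, nat_lit 216, nat_lit 252, nat_lit 324, nat_lit 72, nat_lit 108, nat_lit 144, nat_lit 180, nat_lit 216, nat_lit 252, nat_lit 324, nat_lit 72, nat_lit 108, nat_lit 144, nat_lit 180, nat_lit 216, nat_lit 252])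
noncomputable def r363 : WT := (.node (nat_lit 34) (.node (nat_lit 33) r359 r360) (.node (nat_lit 35) r361 r362))
noncomputable def r364 : WT := (.leaf (nat_lit 79972) [nat_lit 252, nat_lit 216, nat_lit 180, nat_lit 144, nat_lit 108, nat_lit 72, nat_lit 324, nat_lit 252, nat_lit 216, nat_lit 180, nat_lit 144, nat_lit 108, nat_lit 72, nat_lit 468, nat_lit 324, nat_lit 252, nat_lit 216, nat_lit 180, nat_lit 144, nat_lit 108, nat_lit 72, nat_lit 324, nat_lit 252, nat_lit 216, nat_lit 180, nat_lit 144, nat_lit 108, nat_lit 72, nat_lit 324, nat_lit 252, nat_lit 216, nat_lit 180, nat_lit 144, nat_lit 108, nat_lit 72, nat_lit 324, nat_lit 252, nat_lit 216, nat_lit 180, nat_lit 144, nat_lit 108, nat_lit 72, nat_lit 324, nat_lit 252, nat_lit 216, nat_lit 180, nat_lit 144, nat_lit 108, nat_lit 72, nat_lit 324, nat_lit 252, nat_lit 216, nat_lit 180, nat_lit 144, nat_lit 108, nat_lit 72, nat_lit 324, nat_lit 252, nat_lit 216, nat_lit 180, nat_lit 144, nat_lit 108, nat_lit 72])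
noncomputable def r365 : WT := (.leaf (nat_lit 79983) [nat_lit 72, nat_lit 108, nat_lit 144, nat_lit 180, nat_lit 216, nat_lit 252, nat_lit 324, nat_lit 468, nat_lit 72, nat_lit 108, nat_lit 144, nat_lit 180, nat_lit 216, nat_lit 252, nat_lit 324, nat_lit 72, nat_lit 108, nat_lit 144, nat_lit 180, nat_lit 216, nat_lit 252, nat_lit 324, nat_lit 72, nat_lit 108, nat_lit 144, nat_lit 180, nat_lit 216, nat_lit 252, nat_lit 324, nat_lit 72, nat_lit 108, nat_lit 144, nat_lit 180, nat_lit 216, nat_lit 252, nat_lit 324, nat_lit 72, nat_lit 108, nat_lit 144, nat_lit 180, nat_lit 216, nat_lit 252, nat_lit 324, nat_lit 72, nat_lit 108, nat_lit 144, nat_lit 180, nat_lit 216, nat_lit 252, nat_lit 324, nat_lit 72, nat_lit 108, nat_lit 144, nat_lit 180, nat_lit 216, nat_lit 252, nat_lit 324, nat_lit 72, nat_lit 108, nat_lit 144, nat_lit 180, nat_lit 216, nat_lit 252])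
noncomputable def r366 : WT := (.leaf (nat_lit 79969) [nat_lit 72, nat_lit 108, nat_lit 144, nat_lit 180, nat_lit 216, nat_lit 252, nat_lit 324, nat_lit 72, nat_lit 108, nat_lit 144, nat_lit 180, nat_lit 216, nat_lit 252, nat_lit 324, nat_lit 468, nat_lit 72, nat_lit 108, nat_lit 144, nat_lit 180, nat_lit 216, nat_lit 252, nat_lit 324, nat_lit 72, nat_lit 108, nat_lit 144, nat_lit 180, nat_lit 216, nat_lit 252, nat_lit 324, nat_lit 72, nat_lit 108, nat_lit 144, nat_lit 180, nat_lit 216, nat_lit 252, nat_lit 324, nat_lit 72, nat_lit 108, nat_lit 144, nat_lit 180, nat_lit 216, nat_lit 252, nat_lit 324, nat_lit 72, nat_lit 108, nat_lit 144, nat_lit 180, nat_lit 216, nat_lit 252, nat_lit 324, nat_lit 72, nat_lit 108, nat_lit 144, nat_lit 180, nat_lit 216, nat_lit 252, nat_lit 324, nat_lit 72, nat_lit 108, nat_lit 144, nat_lit 180, nat_lit 216, nat_lit 252])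
noncomputable def r367 : WT := (.leaf (nat_lit 79913) [nat_lit 72, nat_lit 108, nat_lit 144, nat_lit 180, nat_lit 216, nat_lit 252, nat_lit 324, nat_lit 72, nat_lit 108, nat_lit 144, nat_lit 180, nat_lit 216, nat_lit 252, nat_lit 324, nat_lit 72, nat_lit 108, nat_lit 144, nat_lit 180, nat_lit 216, nat_lit 252, nat_lit 324, nat_lit 72, nat_lit 108, nat_lit 144, nat_lit 180, nat_lit 216, nat_lit 252, nat_lit 324, nat_lit 72, nat_lit 108, nat_lit 144, nat_lit 180, nat_lit 216, nat_lit 252, nat_lit 324, nat_lit 72, nat_lit 108, nat_lit 144, nat_lit 180, nat_lit 216, nat_lit 252, nat_lit 324, nat_lit 468, nat_lit 72, nat_lit 108, nat_lit 144, nat_lit 180, nat_lit 216, nat_lit 252, nat_lit 324, nat_lit 72, nat_lit 108, nat_lit 144, nat_lit 180, nat_lit 216, nat_lit 252, nat_lit 324, nat_lit 72, nat_lit 108, nat_lit 144, nat_lit 180, nat_lit 216, nat_lit 252])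
noncomputable def r368 : WT := (.leaf (nat_lit 84050) [nat_lit 360, nat_lit 72, nat_lit 108, nat_lit 144, nat_lit 180, nat_lit 216, nat_lit 324, nat_lit 360, nat_lit 72, nat_lit 108, nat_lit 144, nat_lit 180, nat_lit 216, nat_lit 324, nat_lit 360, nat_lit 72, nat_lit 108, nat_lit 144, nat_lit 180, nat_lit 216, nat_lit 324, nat_lit 360, nat_lit 468, nat_lit 72, nat_lit 108, nat_lit 144, nat_lit 180, nat_lit 216, nat_lit 324, nat_lit 360, nat_lit 72, nat_lit 108, nat_lit 144, nat_lit 180, nat_lit 216, nat_lit 324, nat_lit 360, nat_lit 72, nat_lit 108, nat_lit 144, nat_lit 180, nat_lit 216, nat_lit 324, nat_lit 360, nat_lit 72, nat_lit 108, nat_lit 144, nat_lit 180, nat_lit 216, nat_lit 324, nat_lit 360, nat_lit 72, nat_lit 108, nat_lit 144, nat_lit 180, nat_lit 216, nat_lit 324, nat_lit 360, nat_lit 72, nat_lit 108, nat_lit 144, nat_lit 180, nat_lit 216])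
noncomputable def r369 : WT := (.node (nat_lit 38) (.node (nat_lit 37) r364 r365) (.node (nat_lit 39) r366 (.node (nat_lit 40) r367 r368)))
noncomputable def r370 : WT := (.leaf (nat_lit 83994) [nat_lit 360, nat_lit 72, nat_lit 108, nat_lit 144, nat_lit 180, nat_lit 216, nat_lit 324, nat_lit 360, nat_lit 72, nat_lit 108, nat_lit 144, nat_lit 180, nat_lit 216, nat_lit 324, nat_lit 360, nat_lit 72, nat_lit 108, nat_lit 144, nat_lit 180, nat_lit 216, nat_lit 324, nat_lit 360, nat_lit 72, nat_lit 108, nat_lit 144, nat_lit 180, nat_lit 216, nat_lit 324, nat_lit 360, nat_lit 72, nat_lit 108, nat_lit 144, nat_lit 180, nat_lit 216, nat_lit 324, nat_lit 360, nat_lit 72, nat_lit 108, nat_lit 144, nat_lit 180, nat_lit 216, nat_lit 324, nat_lit 360, nat_lit 72, nat_lit 108, nat_lit 144, nat_lit 180, nat_lit 216, nat_lit 324, nat_lit 360, nat_lit 468, nat_lit 72, nat_lit 108, nat_lit 144, nat_lit 180, nat_lit 216, nat_lit 324, nat_lit 360, nat_lit 72, nat_lit 108, nat_lit 144, nat_lit 180, nat_lit 216])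
noncomputable def r371 : WT := (.leaf (nat_lit 79916) [nat_lit 252, nat_lit 216, nat_lit 180, nat_lit 144, nat_lit 108, nat_lit 72, nat_lit 324, nat_lit 252, nat_lit 216, nat_lit 180, nat_lit 144, nat_lit 108, nat_lit 72, nat_lit 324, nat_lit 252, nat_lit 216, nat_lit 180, nat_lit 144, nat_lit 108, nat_lit 72, nat_lit 324, nat_lit 252, nat_lit 216, nat_lit 180, nat_lit 144, nat_lit 108, nat_lit 72, nat_lit 324, nat_lit 252, nat_lit 216, nat_lit 180, nat_lit 144, nat_lit 108, nat_lit 72, nat_lit 324, nat_lit 252, nat_lit 216, nat_lit 180, nat_lit 144, nat_lit 108, nat_lit 72, nat_lit 468, nat_lit 324, nat_lit 252, nat_lit 216, nat_lit 180, nat_lit 144, nat_lit 108, nat_lit 72, nat_lit 324, nat_lit 252, nat_lit 216, nat_lit 180, nat_lit 144, nat_lit 108, nat_lit 72, nat_lit 324, nat_lit 252, nat_lit 216, nat_lit 180, nat_lit 144, nat_lit 108, nat_lit 72])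
noncomputable def r372 : WT := (.leaf (nat_lit 79986) [nat_lit 252, nat_lit 216, nat_lit 180, nat_lit 144, nat_lit 108, nat_lit 72, nat_lit 468, nat_lit 324, nat_lit 252, nat_lit 216, nat_lit 180, nat_lit 144, nat_lit 108, nat_lit 72, nat_lit 324, nat_lit 252, nat_lit 216, nat_lit 180, nat_lit 144, nat_lit 108, nat_lit 72, nat_lit 324, nat_lit 252, nat_lit 216, nat_lit 180, nat_lit 144, nat_lit 108, nat_lit 72, nat_lit 324, nat_lit 252, nat_lit 216, nat_lit 180, nat_lit 144, nat_lit 108, nat_lit 72, nat_lit 324, nat_lit 252, nat_lit 216, nat_lit 180, nat_lit 144, nat_lit 108, nat_lit 72, nat_lit 324, nat_lit 252, nat_lit 216, nat_lit 180, nat_lit 144, nat_lit 108, nat_lit 72, nat_lit 324, nat_lit 252, nat_lit 216, nat_lit 180, nat_lit 144, nat_lit 108, nat_lit 72, nat_lit 324, nat_lit 252, nat_lit 216, nat_lit 180, nat_lit 144, nat_lit 108, nat_lit 72])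
noncomputable def r373 : WT := (.leaf (nat_lit 84092) [nat_lit 360, nat_lit 468, nat_lit 72, nat_lit 108, nat_lit 144, nat_lit 180, nat_lit 216, nat_lit 324, nat_lit 360, nat_lit 72, nat_lit 108, nat_lit 144, nat_lit 180, nat_lit 216, nat_lit 324, nat_lit 360, nat_lit 72, nat_lit 108, nat_lit 144, nat_lit 180, nat_lit 216, nat_lit 324, nat_lit 360, nat_lit 72, nat_lit 108, nat_lit 144, nat_lit 180, nat_lit 216, nat_lit 324, nat_lit 360, nat_lit 72, nat_lit 108, nat_lit 144, nat_lit 180, nat_lit 216, nat_lit 324, nat_lit 360, nat_lit 72, nat_lit 108, nat_lit 144, nat_lit 180, nat_lit 216, nat_lit 324, nat_lit 360, nat_lit 72, nat_lit 108, nat_lit 144, nat_lit 180, nat_lit 216, nat_lit 324, nat_lit 360, nat_lit 72, nat_lit 108, nat_lit 144, nat_lit 180, nat_lit 216, nat_lit 324, nat_lit 360, nat_lit 72, nat_lit 108, nat_lit 144, nat_lit 180, nat_lit 216])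
noncomputable def r374 : WT := (.leaf (nat_lit 84078) [nat_lit 360, nat_lit 72, nat_lit 108, nat_lit 144, nat_lit 180, nat_lit 216, nat_lit 324, nat_lit 360, nat_lit 468, nat_lit 72, nat_lit 108, nat_lit 144, nat_lit 180, nat_lit 216, nat_lit 324, nat_lit 360, nat_lit 72, nat_lit 108, nat_lit 144, nat_lit 180, nat_lit 216, nat_lit 324, nat_lit 360, nat_lit 72, nat_lit 108, nat_lit 144, nat_lit 180, nat_lit 216, nat_lit 324, nat_lit 360, nat_lit 72, nat_lit 108, nat_lit 144, nat_lit 180, nat_lit 216, nat_lit 324, nat_lit 360, nat_lit 72, nat_lit 108, nat_lit 144, nat_lit 180, nat_lit 216, nat_lit 324, nat_lit 360, nat_lit 72, nat_lit 108, nat_lit 144, nat_lit 180, nat_lit 216, nat_lit 324, nat_lit 360, nat_lit 72, nat_lit 108, nat_lit 144, nat_lit 180, nat_lit 216, nat_lit 324, nat_lit 360, nat_lit 72, nat_lit 108, nat_lit 144, nat_lit 180, nat_lit 216])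
noncomputable def r375 : WT := (.leaf (nat_lit 84036) [nat_lit 360, nat_lit 72, nat_lit 108, nat_lit 144, nat_lit 180, nat_lit 216, nat_lit 324, nat_lit 360, nat_lit 72, nat_lit 108, nat_lit 144, nat_lit 180, nat_lit 216, nat_lit 324, nat_lit 360, nat_lit 72, nat_lit 108, nat_lit 144, nat_lit 180, nat_lit 216, nat_lit 324, nat_lit 360, nat_lit 72, nat_lit 108, nat_lit 144, nat_lit 180, nat_lit 216, nat_lit 324, nat_lit 360, nat_lit 468, nat_lit 72, nat_lit 108, nat_lit 144, nat_lit 180, nat_lit 216, nat_lit 324, nat_lit 360, nat_lit 72, nat_lit 108, nat_lit 144, nat_lit 180, nat_lit 216, nat_lit 324, nat_lit 360, nat_lit 72, nat_lit 108, nat_lit 144, nat_lit 180, nat_lit 216, nat_lit 324, nat_lit 360, nat_lit 72, nat_lit 108, nat_lit 144, nat_lit 180, nat_lit 216, nat_lit 324, nat_lit 360, nat_lit 72, nat_lit 108, nat_lit 144, nat_lit 180, nat_lit 216])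
noncomputable def r376 : WT := (.leaf (nat_lit 84055) [nat_lit 216, nat_lit 180, nat_lit 144, nat_lit 108, nat_lit 72, nat_lit 360, nat_lit 324, nat_lit 216, nat_lit 180, nat_lit 144, nat_lit 108, nat_lit 72, nat_lit 360, nat_lit 324, nat_lit 216, nat_lit 180, nat_lit 144, nat_lit 108, nat_lit 72, nat_lit 468, nat_lit 360, nat_lit 324, nat_lit 216, nat_lit 180, nat_lit 144, nat_lit 108, nat_lit 72, nat_lit 360, nat_lit 324, nat_lit 216, nat_lit 180, nat_lit 144, nat_lit 108, nat_lit 72, nat_lit 360, nat_lit 324, nat_lit 216, nat_lit 180, nat_lit 144, nat_lit 108, nat_lit 72, nat_lit 360, nat_lit 324, nat_lit 216, nat_lit 180, nat_lit 144, nat_lit 108, nat_lit 72, nat_lit 360, nat_lit 324, nat_lit 216, nat_lit 180, nat_lit 144, nat_lit 108, nat_lit 72, nat_lit 360, nat_lit 324, nat_lit 216, nat_lit 180, nat_lit 144, nat_lit 108, nat_lit 72, nat_lit 360])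
noncomputable def r377 : WT := (.leaf (nat_lit 84083) [nat_lit 216, nat_lit 180, nat_lit 144, nat_lit 108, nat_lit 72, nat_lit 468, nat_lit 360, nat_lit 324, nat_lit 216, nat_lit 180, nat_lit 144, nat_lit 108, nat_lit 72, nat_lit 360, nat_lit 324, nat_lit 216, nat_lit 180, nat_lit 144, nat_lit 108, nat_lit 72, nat_lit 360, nat_lit 324, nat_lit 216, nat_lit 180, nat_lit 144, nat_lit 108, nat_lit 72, nat_lit 360, nat_lit 324, nat_lit 216, nat_lit 180, nat_lit 144, nat_lit 108, nat_lit 72, nat_lit 360, nat_lit 324, nat_lit 216, nat_lit 180, nat_lit 144, nat_lit 108, nat_lit 72, nat_lit 360, nat_lit 324, nat_lit 216, nat_lit 180, nat_lit 144, nat_lit 108, nat_lit 72, nat_lit 360, nat_lit 324, nat_lit 216, nat_lit 180, nat_lit 144, nat_lit 108, nat_lit 72, nat_lit 360, nat_lit 324, nat_lit 216, nat_lit 180, nat_lit 144, nat_lit 108, nat_lit 72, nat_lit 360])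
noncomputable def r378 : WT := (.leaf (nat_lit 79958) [nat_lit 252, nat_lit 216, nat_lit 180, nat_lit 144, nat_lit 108, nat_lit 72, nat_lit 324, nat_lit 252, nat_lit 216, nat_lit 180, nat_lit 144, nat_lit 108, nat_lit 72, nat_lit 324, nat_lit 252, nat_lit 216, nat_lit 180, nat_lit 144, nat_lit 108, nat_lit 72, nat_lit 468, nat_lit 324, nat_lit 252, nat_lit 216, nat_lit 180, nat_lit 144, nat_lit 108, nat_lit 72, nat_lit 324, nat_lit 252, nat_lit 216, nat_lit 180, nat_lit 144, nat_lit 108, nat_lit 72, nat_lit 324, nat_lit 252, nat_lit 216, nat_lit 180, nat_lit 144, nat_lit 108, nat_lit 72, nat_lit 324, nat_lit 252, nat_lit 216, nat_lit 180, nat_lit 144, nat_lit 108, nat_lit 72, nat_lit 324, nat_lit 252, nat_lit 216, nat_lit 180, nat_lit 144, nat_lit 108, nat_lit 72, nat_lit 324, nat_lit 252, nat_lit 216, nat_lit 180, nat_lit 144, nat_lit 108, nat_lit 72])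
noncomputable def r379 : WT := (.leaf (nat_lit 79944) [nat_lit 252, nat_lit 216, nat_lit 180, nat_lit 144, nat_lit 108, nat_lit 72, nat_lit 324, nat_lit 252, nat_lit 216, nat_lit 180, nat_lit 144, nat_lit 108, nat_lit 72, nat_lit 324, nat_lit 252, nat_lit 216, nat_lit 180, nat_lit 144, nat_lit 108, nat_lit 72, nat_lit 324, nat_lit 252, nat_lit 216, nat_lit 180, nat_lit 144, nat_lit 108, nat_lit 72, nat_lit 468, nat_lit 324, nat_lit 252, nat_lit 216, nat_lit 180, nat_lit 144, nat_lit 108, nat_lit 72, nat_lit 324, nat_lit 252, nat_lit 216, nat_lit 180, nat_lit 144, nat_lit 108, nat_lit 72, nat_lit 324, nat_lit 252, nat_lit 216, nat_lit 180, nat_lit 144, nat_lit 108, nat_lit 72, nat_lit 324, nat_lit 252, nat_lit 216, nat_lit 180, nat_lit 144, nat_lit 108, nat_lit 72, nat_lit 324, nat_lit 252, nat_lit 216, nat_lit 180, nat_lit 144, nat_lit 108, nat_lit 72])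
noncomputable def r380 : WT := (.leaf (nat_lit 79899) [nat_lit 72, nat_lit 108, nat_lit 144, nat_lit 180, nat_lit 216, nat_lit 252, nat_lit 324, nat_lit 72, nat_lit 108, nat_lit 144, nat_lit 180, nat_lit 216, nat_lit 252, nat_lit 324, nat_lit 72, nat_lit 108, nat_lit 144, nat_lit 180, nat_lit 216, nat_lit 252, nat_lit 324, nat_lit 72, nat_lit 108, nat_lit 144, nat_lit 180, nat_lit 216, nat_lit 252, nat_lit 324, nat_lit 72, nat_lit 108, nat_lit 144, nat_lit 180, nat_lit 216, nat_lit 252, nat_lit 324, nat_lit 72, nat_lit 108, nat_lit 144, nat_lit 180, nat_lit 216, nat_lit 252, nat_lit 324, nat_lit 72, nat_lit 108, nat_lit 144, nat_lit 180, nat_lit 216, nat_lit 252, nat_lit 324, nat_lit 468, nat_lit 72, nat_lit 108, nat_lit 144, nat_lit 180, nat_lit 216, nat_lit 252, nat_lit 324, nat_lit 72, nat_lit 108, nat_lit 144, nat_lit 180, nat_lit 216, nat_lit 252])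
noncomputable def r381 : WT := (.leaf (nat_lit 79930) [nat_lit 252, nat_lit 216, nat_lit 180, nat_lit 144, nat_lit 108, nat_lit 72, nat_lit 324, nat_lit 252, nat_lit 216, nat_lit 180, nat_lit 144, nat_lit 108, nat_lit 72, nat_lit 324, nat_lit 252, nat_lit 216, nat_lit 180, nat_lit 144, nat_lit 108, nat_lit 72, nat_lit 324, nat_lit 252, nat_lit 216, nat_lit 180, nat_lit 144, nat_lit 108, nat_lit 72, nat_lit 324, nat_lit 252, nat_lit 216, nat_lit 180, nat_lit 144, nat_lit 108, nat_lit 72, nat_lit 468, nat_lit 324, nat_lit 252, nat_lit 216, nat_lit 180, nat_lit 144, nat_lit 108, nat_lit 72, nat_lit 324, nat_lit 252, nat_lit 216, nat_lit 180, nat_lit 144, nat_lit 108, nat_lit 72, nat_lit 324, nat_lit 252, nat_lit 216, nat_lit 180, nat_lit 144, nat_lit 108, nat_lit 72, nat_lit 324, nat_lit 252, nat_lit 216, nat_lit 180, nat_lit 144, nat_lit 108, nat_lit 72])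
noncomputable def r382 : WT := (.node (nat_lit 46) (.node (nat_lit 43) (.node (nat_lit 42) r370 r371) (.node (nat_lit 44) r372 (.node (nat_lit 45) r373 r374))) (.node (nat_lit 49) (.node (nat_lit 47) r375 (.node (nat_lit 48) r376 r377)) (.node (nat_lit 51) (.node (nat_lit 50) r378 r379) (.node (nat_lit 52) r380 r381))))
noncomputable def r383 : WT := (.node (nat_lit 22) (.node (nat_lit 20) r343 (.node (nat_lit 21) r344 r345)) (.node (nat_lit 28) (.node (nat_lit 24) (.node (nat_lit 23) r346 r347) (.node (nat_lit 26) r350 r353)) (.node (nat_lit 36) (.node (nat_lit 32) r358 r363) (.node (nat_lit 41) r369 r382))))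
noncomputable def r384 : WT := (.node (nat_lit 11) (.leaf (nat_lit 56322) [nat_lit 144, nat_lit 324, nat_lit 144]) (.node (nat_lit 12) (.leaf (nat_lit 62466) [nat_lit 180, nat_lit 324, nat_lit 180, nat_lit 324, nat_lit 180]) (.node (nat_lit 15) (.node (nat_lit 13) r334 r337) (.node (nat_lit 19) r342 r383))))
noncomputable def w7 : WT := (.node (nat_lit 1) (.leaf (nat_lit 7168) [nat_lit 324]) (.node (nat_lit 5) (.node (nat_lit 3) (.node (nat_lit 2) (.leaf (nat_lit 76802) [nat_lit 396, nat_lit 324, nat_lit 396]) (.leaf (nat_lit 78848) [nat_lit 360, nat_lit 324, nat_lit 360, nat_lit 324, nat_lit 360])) (.node (nat_lit 4) (.leaf (nat_lit 21506) [nat_lit 468, nat_lit 324, nat_lit 468]) (.leaf (nat_lit 31746) [nat_lit 432, nat_lit 324, nat_lit 432]))) (.node (nat_lit 8) (.node (nat_lit 6) (.leaf (nat_lit 74754) [nat_lit 288, nat_lit 324, nat_lit 288]) r332) (.node (nat_lit 10) r333 r384))))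
noncomputable def r385 : WT := (.node (nat_lit 7) (.leaf (nat_lit 50178) [nat_lit 108, nat_lit 360, nat_lit 108]) (.leaf (nat_lit 75778) [nat_lit 288, nat_lit 360, nat_lit 288]))
noncomputable def r386 : WT := (.node (nat_lit 9) (.leaf (nat_lit 72706) [nat_lit 252, nat_lit 360, nat_lit 252]) (.leaf (nat_lit 63490) [nat_lit 180, nat_lit 360, nat_lit 180]))
noncomputable def r387 : WT := (.leaf (nat_lit 83982) [nat_lit 72, nat_lit 108, nat_lit 144, nat_lit 180, nat_lit 216, nat_lit 324, nat_lit 360, nat_lit 72, nat_lit 108, nat_lit 144, nat_lit 180, nat_lit 216, nat_lit 324, nat_lit 360, nat_lit 72, nat_lit 108, nat_lit 144, nat_lit 180, nat_lit 216, nat_lit 324, nat_lit 360, nat_lit 72, nat_lit 108, nat_lit 144, nat_lit 180, nat_lit 216, nat_lit 324, nat_lit 360, nat_lit 72, nat_lit 108, nat_lit 144, nat_lit 180, nat_lit 216, nat_lit 324, nat_lit 360, nat_lit 72, nat_lit 108, nat_lit 144, nat_lit 180, nat_lit 216, nat_lit 324, nat_lit 360, nat_lit 72, nat_lit 108, nat_lit 144, nat_lit 180, nat_lit 216, nat_lit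 324, nat_lit 360, nat_lit 72, nat_lit 108, nat_lit 144, nat_lit 180, nat_lit 216, nat_lit 324, nat_lit 360, nat_lit 468, nat_lit 72, nat_lit 108, nat_lit 144, nat_lit 180, nat_lit 216, nat_lit 324])
noncomputable def r388 : WT := (.leaf (nat_lit 85008) [nat_lit 180, nat_lit 144, nat_lit 108, nat_lit 180, nat_lit 216, nat_lit 252, nat_lit 180, nat_lit 324, nat_lit 360, nat_lit 180, nat_lit 144, nat_lit 108, nat_lit 180, nat_lit 216, nat_lit 252, nat_lit 180, nat_lit 324, nat_lit 360, nat_lit 180, nat_lit 144, nat_lit 108, nat_lit 180, nat_lit 216, nat_lit 252, nat_lit 180, nat_lit 324, nat_lit 360, nat_lit 180, nat_lit 144, nat_lit 108, nat_lit 180, nat_lit 216, nat_lit 252, nat_lit 180, nat_lit 324, nat_lit 360, nat_lit 180, nat_lit 144, nat_lit 108, nat_lit 180, nat_lit 216, nat_lit 252, nat_lit 180, nat_lit 324, nat_lit 360, nat_lit 180, nat_lit 144, nat_lit 108, nat_lit 180, nat_lit 216, nat_lit 252, nat_lit 180, nat_lit 324, nat_lit 360, nat_lit 180, nat_lit 144, nat_lit 108, nat_lit 180, nat_lit 216,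 nat_lit 252, nat_lit 180, nat_lit 324, nat_lit 360, nat_lit 180, nat_lit 144, nat_lit 108, nat_lit 180, nat_lit 216, nat_lit 252, nat_lit 180, nat_lit 324, nat_lit 360, nat_lit 180, nat_lit 144, nat_lit 108, nat_lit 180, nat_lit 216, nat_lit 252, nat_lit 180, nat_lit 324, nat_lit 360, nat_lit 180, nat_lit 144, nat_lit 108, nat_lit 180, nat_lit 216, nat_lit 252, nat_lit 180, nat_lit 324])
noncomputable def r389 : WT := (.leaf (nat_lit 82958) [nat_lit 432, nat_lit 72, nat_lit 108, nat_lit 144, nat_lit 180, nat_lit 216, nat_lit 324, nat_lit 360, nat_lit 432, nat_lit 72, nat_lit 108, nat_lit 144, nat_lit 180, nat_lit 216, nat_lit 324, nat_lit 360, nat_lit 432, nat_lit 72, nat_lit 108, nat_lit 144, nat_lit 180, nat_lit 216, nat_lit 324, nat_lit 360, nat_lit 432, nat_lit 72, nat_lit 108, nat_lit 144, nat_lit 180, nat_lit 216, nat_lit 324, nat_lit 360, nat_lit 432, nat_lit 72, nat_lit 108, nat_lit 144, nat_lit 180, nat_lit 216, nat_lit 324, nat_lit 360, nat_lit 432, nat_lit 72, nat_lit 108, nat_lit 144, nat_lit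 180, nat_lit 216, nat_lit 324, nat_lit 360, nat_lit 432, nat_lit 72, nat_lit 108, nat_lit 144, nat_lit 180, nat_lit 216, nat_lit 324, nat_lit 360, nat_lit 432, nat_lit 72, nat_lit 108, nat_lit 144, nat_lit 180, nat_lit 216, nat_lit 324, nat_lit 360, nat_lit 432, nat_lit 72, nat_lit 108, nat_lit 144, nat_lit 180, nat_lit 216, nat_lit 324, nat_lit 360, nat_lit 432, nat_lit 72, nat_lit 108, nat_lit 144, nat_lit 180, nat_lit 216, nat_lit 324, nat_lit 360, nat_lit 432, nat_lit 72, nat_lit 108, nat_lit 144, nat_lit 180, nat_lit 216, nat_lit 324, nat_lit 360, nat_lit 432, nat_lit 72, nat_lit 108, nat_lit 144, nat_lit 180, nat_lit 216, nat_lit 324, nat_lit 360, nat_lit 432, nat_lit 72, nat_lit 108, nat_lit 144, nat_lit 180, nat_lit 216, nat_lit 324, nat_lit 360, nat_lit 432, nat_lit 72, nat_lit 108, nat_lit 144, nat_lit 180, nat_lit 216, nat_lit 324, nat_lit 360, nat_lit 432, nat_lit 72, nat_lit 108, nat_lit 144, nat_lit 180, nat_lit 216, nat_lit 324])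
noncomputable def r390 : WT := (.leaf (nat_lit 83969) [nat_lit 324, nat_lit 216, nat_lit 180, nat_lit 144, nat_lit 108, nat_lit 72, nat_lit 360, nat_lit 324, nat_lit 216, nat_lit 180, nat_lit 144, nat_lit 108, nat_lit 72, nat_lit 360, nat_lit 324, nat_lit 216, nat_lit 180, nat_lit 144, nat_lit 108, nat_lit 72, nat_lit 360, nat_lit 324, nat_lit 216, nat_lit 180, nat_lit 144, nat_lit 108, nat_lit 72, nat_lit 360, nat_lit 324, nat_lit 216, nat_lit 180, nat_lit 144, nat_lit 108, nat_lit 72, nat_lit 360, nat_lit 324, nat_lit 216, nat_lit 180, nat_lit 144, nat_lit 108, nat_lit 72, nat_lit 360, nat_lit 324, nat_lit 216, nat_lit 180, nat_lit 144, nat_lit 108, nat_lit 72, nat_lit 360, nat_lit 324, nat_lit 216, nat_lit 180, nat_lit 144, nat_lit 108, nat_lit 72, nat_lit 360, nat_lit 324, nat_lit 216, nat_lit 180, nat_lit 144, nat_lit 108, nat_lit 72, nat_lit 468])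
noncomputable def r391 : WT := (.node (nat_lit 15) r389 r390)
noncomputable def r392 : WT := (.leaf (nat_lit 80922) [nat_lit 180, nat_lit 144, nat_lit 108, nat_lit 72, nat_lit 432, nat_lit 468, nat_lit 180, nat_lit 216, nat_lit 252, nat_lit 288, nat_lit 396, nat_lit 180, nat_lit 324, nat_lit 360, nat_lit 180, nat_lit 144, nat_lit 108, nat_lit 72, nat_lit 432, nat_lit 468, nat_lit 180, nat_lit 216, nat_lit 252, nat_lit 288, nat_lit 396, nat_lit 180, nat_lit 324, nat_lit 360, nat_lit 180, nat_lit 144, nat_lit 108, nat_lit 72, nat_lit 432, nat_lit 468, nat_lit 180, nat_lit 216, nat_lit 252, nat_lit 288, nat_lit 396, nat_lit 180, nat_lit 324, nat_lit 360, nat_lit 180, nat_lit 144, nat_lit 108, nat_lit 72, nat_lit 432, nat_lit 468, nat_lit 180, nat_lit 216, nat_lit 252, nat_lit 288, nat_lit 396, nat_lit 180, nat_lit 324, nat_lit 360, nat_lit 180, nat_lit 144, nat_lit 108, nat_lit 72, nat_lit 432, nat_lit 468, nat_lit 180, nat_lit 216, nat_lit 252, nat_lit 288, nat_lit 396, nat_lit 180, nat_lit 324, nat_lit 360,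 nat_lit 180, nat_lit 144, nat_lit 108, nat_lit 72, nat_lit 432, nat_lit 468, nat_lit 180, nat_lit 216, nat_lit 252, nat_lit 288, nat_lit 396, nat_lit 180, nat_lit 324, nat_lit 360, nat_lit 180, nat_lit 144, nat_lit 108, nat_lit 72, nat_lit 432, nat_lit 468, nat_lit 180, nat_lit 216, nat_lit 252, nat_lit 288, nat_lit 396, nat_lit 180, nat_lit 324, nat_lit 360, nat_lit 180, nat_lit 144, nat_lit 108, nat_lit 72, nat_lit 432, nat_lit 468, nat_lit 180, nat_lit 216, nat_lit 252, nat_lit 288, nat_lit 396, nat_lit 180, nat_lit 324, nat_lit 360, nat_lit 180, nat_lit 144, nat_lit 108, nat_lit 72, nat_lit 432, nat_lit 468, nat_lit 180, nat_lit 216, nat_lit 252, nat_lit 288, nat_lit 396, nat_lit 180, nat_lit 324, nat_lit 360, nat_lit 180, nat_lit 144, nat_lit 108, nat_lit 72, nat_lit 432, nat_lit 468, nat_lit 180, nat_lit 216, nat_lit 252, nat_lit 288, nat_lit 396, nat_lit 180, nat_lit 324, nat_lit 360, nat_lit 180, nat_lit 144, nat_lit 108, nat_lit 72, nat_lit 432, nat_lit 468, nat_lit 180, nat_lit 216, nat_lit 252,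 nat_lit 288, nat_lit 396, nat_lit 180, nat_lit 324, nat_lit 360, nat_lit 180, nat_lit 144, nat_lit 108, nat_lit 72, nat_lit 432, nat_lit 468, nat_lit 180, nat_lit 216, nat_lit 252, nat_lit 288, nat_lit 396, nat_lit 180, nat_lit 324, nat_lit 360, nat_lit 180, nat_lit 144, nat_lit 108, nat_lit 72, nat_lit 432, nat_lit 468, nat_lit 180, nat_lit 216, nat_lit 252, nat_lit 288, nat_lit 396, nat_lit 180, nat_lit 324, nat_lit 360, nat_lit 180, nat_lit 144, nat_lit 108, nat_lit 72, nat_lit 432, nat_lit 468, nat_lit 180, nat_lit 216, nat_lit 252, nat_lit 288, nat_lit 396, nat_lit 180, nat_lit 324, nat_lit 360, nat_lit 180, nat_lit 144, nat_lit 108, nat_lit 72, nat_lit 432, nat_lit 468, nat_lit 180, nat_lit 216, nat_lit 252, nat_lit 288, nat_lit 396, nat_lit 180, nat_lit 324, nat_lit 360, nat_lit 180, nat_lit 144, nat_lit 108, nat_lit 72, nat_lit 432, nat_lit 468, nat_lit 180, nat_lit 216, nat_lit 252, nat_lit 288, nat_lit 396, nat_lit 180, nat_lit 324, nat_lit 360, nat_lit 180, nat_lit 144, nat_lit 108, nat_lit 72,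 nat_lit 432, nat_lit 468, nat_lit 180, nat_lit 216, nat_lit 252, nat_lit 288, nat_lit 396, nat_lit 180, nat_lit 324])
noncomputable def r393 : WT := (.leaf (nat_lit 82945) [nat_lit 324, nat_lit 216, nat_lit 180, nat_lit 144, nat_lit 108, nat_lit 72, nat_lit 432, nat_lit 360, nat_lit 324, nat_lit 216, nat_lit 180, nat_lit 144, nat_lit 108, nat_lit 72, nat_lit 432, nat_lit 360, nat_lit 324, nat_lit 216, nat_lit 180, nat_lit 144, nat_lit 108, nat_lit 72, nat_lit 432, nat_lit 360, nat_lit 324, nat_lit 216, nat_lit 180, nat_lit 144, nat_lit 108, nat_lit 72, nat_lit 432, nat_lit 360, nat_lit 324, nat_lit 216, nat_lit 180, nat_lit 144, nat_lit 108, nat_lit 72, nat_lit 432, nat_lit 360, nat_lit 324, nat_lit 216, nat_lit 180, nat_lit 144, nat_lit 108, nat_lit 72, nat_lit 432, nat_lit 360, nat_lit 324, nat_lit 216, nat_lit 180, nat_lit 144, nat_lit 108, nat_lit 72, nat_lit 432, nat_lit 360, nat_lit 324, nat_lit 216, nat_lit 180, nat_lit 144, nat_lit 108, nat_lit 72, nat_lit 432, nat_lit 360, nat_lit 324, nat_lit 216,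 nat_lit 180, nat_lit 144, nat_lit 108, nat_lit 72, nat_lit 432, nat_lit 360, nat_lit 324, nat_lit 216, nat_lit 180, nat_lit 144, nat_lit 108, nat_lit 72, nat_lit 432, nat_lit 360, nat_lit 324, nat_lit 216, nat_lit 180, nat_lit 144, nat_lit 108, nat_lit 72, nat_lit 432, nat_lit 360, nat_lit 324, nat_lit 216, nat_lit 180, nat_lit 144, nat_lit 108, nat_lit 72, nat_lit 432, nat_lit 360, nat_lit 324, nat_lit 216, nat_lit 180, nat_lit 144, nat_lit 108, nat_lit 72, nat_lit 432, nat_lit 360, nat_lit 324, nat_lit 216, nat_lit 180, nat_lit 144, nat_lit 108, nat_lit 72, nat_lit 432, nat_lit 360, nat_lit 324, nat_lit 216, nat_lit 180, nat_lit 144, nat_lit 108, nat_lit 72, nat_lit 432])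
noncomputable def r394 : WT := (.leaf (nat_lit 83983) [nat_lit 324, nat_lit 216, nat_lit 180, nat_lit 144, nat_lit 108, nat_lit 72, nat_lit 360, nat_lit 324, nat_lit 216, nat_lit 180, nat_lit 144, nat_lit 108, nat_lit 72, nat_lit 360, nat_lit 324, nat_lit 216, nat_lit 180, nat_lit 144, nat_lit 108, nat_lit 72, nat_lit 360, nat_lit 324, nat_lit 216, nat_lit 180, nat_lit 144, nat_lit 108, nat_lit 72, nat_lit 360, nat_lit 324, nat_lit 216, nat_lit 180, nat_lit 144, nat_lit 108, nat_lit 72, nat_lit 360, nat_lit 324, nat_lit 216, nat_lit 180, nat_lit 144, nat_lit 108, nat_lit 72, nat_lit 360, nat_lit 324, nat_lit 216, nat_lit 180, nat_lit 144, nat_lit 108, nat_lit 72, nat_lit 360, nat_lit 324, nat_lit 216, nat_lit 180, nat_lit 144, nat_lit 108, nat_lit 72, nat_lit 468, nat_lit 360, nat_lit 324, nat_lit 216, nat_lit 180, nat_lit 144, nat_lit 108, nat_lit 72])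
noncomputable def r395 : WT := (.leaf (nat_lit 84993) [nat_lit 324, nat_lit 180, nat_lit 252, nat_lit 216, nat_lit 180, nat_lit 108, nat_lit 144, nat_lit 180, nat_lit 360, nat_lit 324, nat_lit 180, nat_lit 252, nat_lit 216, nat_lit 180, nat_lit 108, nat_lit 144, nat_lit 180, nat_lit 360, nat_lit 324, nat_lit 180, nat_lit 252, nat_lit 216, nat_lit 180, nat_lit 108, nat_lit 144, nat_lit 180, nat_lit 360, nat_lit 324, nat_lit 180, nat_lit 252, nat_lit 216, nat_lit 180, nat_lit 108, nat_lit 144, nat_lit 180, nat_lit 360, nat_lit 324, nat_lit 180, nat_lit 252, nat_lit 216, nat_lit 180, nat_lit 108, nat_lit 144, nat_lit 180, nat_lit 360, nat_lit 324, nat_lit 180, nat_lit 252, nat_lit 216, nat_lit 180, nat_lit 108, nat_lit 144, nat_lit 180, nat_lit 360, nat_lit 324, nat_lit 180, nat_lit 252, nat_lit 216, nat_lit 180, nat_lit 108, nat_lit 144, nat_lit 180, nat_lit 360, nat_lit 324, nat_lit 180, nat_lit 252, nat_lit 216, nat_lit 180, nat_lit 108, nat_lit 144, nat_lit 180, nat_lit 360, nat_lit 324, nat_lit 180, nat_lit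 252, nat_lit 216, nat_lit 180, nat_lit 108, nat_lit 144, nat_lit 180, nat_lit 360, nat_lit 324, nat_lit 180, nat_lit 252, nat_lit 216, nat_lit 180, nat_lit 108, nat_lit 144, nat_lit 180])
noncomputable def r396 : WT := (.leaf (nat_lit 84094) [nat_lit 468, nat_lit 72, nat_lit 108, nat_lit 144, nat_lit 180, nat_lit 216, nat_lit 324, nat_lit 360, nat_lit 72, nat_lit 108, nat_lit 144, nat_lit 180, nat_lit 216, nat_lit 324, nat_lit 360, nat_lit 72, nat_lit 108, nat_lit 144, nat_lit 180, nat_lit 216, nat_lit 324, nat_lit 360, nat_lit 72, nat_lit 108, nat_lit 144, nat_lit 180, nat_lit 216, nat_lit 324, nat_lit 360, nat_lit 72, nat_lit 108, nat_lit 144, nat_lit 180, nat_lit 216, nat_lit 324, nat_lit 360, nat_lit 72, nat_lit 108, nat_lit 144, nat_lit 180, nat_lit 216, nat_lit 324, nat_lit 360, nat_lit 72, nat_lit 108, nat_lit 144, nat_lit 180, nat_lit 216, nat_lit 324, nat_lit 360, nat_lit 72, nat_lit 108, nat_lit 144, nat_lit 180, nat_lit 216, nat_lit 324, nat_lit 360, nat_lit 72, nat_lit 108, nat_lit 144, nat_lit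 180, nat_lit 216, nat_lit 324])
noncomputable def r397 : WT := (.leaf (nat_lit 84024) [nat_lit 72, nat_lit 108, nat_lit 144, nat_lit 180, nat_lit 216, nat_lit 324, nat_lit 360, nat_lit 72, nat_lit 108, nat_lit 144, nat_lit 180, nat_lit 216, nat_lit 324, nat_lit 360, nat_lit 72, nat_lit 108, nat_lit 144, nat_lit 180, nat_lit 216, nat_lit 324, nat_lit 360, nat_lit 72, nat_lit 108, nat_lit 144, nat_lit 180, nat_lit 216, nat_lit 324, nat_lit 360, nat_lit 72, nat_lit 108, nat_lit 144, nat_lit 180, nat_lit 216, nat_lit 324, nat_lit 360, nat_lit 468, nat_lit 72, nat_lit 108, nat_lit 144, nat_lit 180, nat_lit 216, nat_lit 324, nat_lit 360, nat_lit 72, nat_lit 108, nat_lit 144, nat_lit 180, nat_lit 216, nat_lit 324, nat_lit 360, nat_lit 72, nat_lit 108, nat_lit 144, nat_lit 180, nat_lit 216, nat_lit 324, nat_lit 360, nat_lit 72, nat_lit 108, nat_lit 144, nat_lit 180, nat_lit 216, nat_lit 324])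
noncomputable def r398 : WT := (.leaf (nat_lit 84052) [nat_lit 72, nat_lit 108, nat_lit 144, nat_lit 180, nat_lit 216, nat_lit 324, nat_lit 360, nat_lit 72, nat_lit 108, nat_lit 144, nat_lit 180, nat_lit 216, nat_lit 324, nat_lit 360, nat_lit 72, nat_lit 108, nat_lit 144, nat_lit 180, nat_lit 216, nat_lit 324, nat_lit 360, nat_lit 468, nat_lit 72, nat_lit 108, nat_lit 144, nat_lit 180, nat_lit 216, nat_lit 324, nat_lit 360, nat_lit 72, nat_lit 108, nat_lit 144, nat_lit 180, nat_lit 216, nat_lit 324, nat_lit 360, nat_lit 72, nat_lit 108, nat_lit 144, nat_lit 180, nat_lit 216, nat_lit 324, nat_lit 360, nat_lit 72, nat_lit 108, nat_lit 144, nat_lit 180, nat_lit 216, nat_lit 324, nat_lit 360, nat_lit 72, nat_lit 108, nat_lit 144, nat_lit 180, nat_lit 216, nat_lit 324, nat_lit 360, nat_lit 72, nat_lit 108, nat_lit 144, nat_lit 180, nat_lit 216, nat_lit 324])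
noncomputable def r399 : WT := (.leaf (nat_lit 84010) [nat_lit 72, nat_lit 108, nat_lit 144, nat_lit 180, nat_lit 216, nat_lit 324, nat_lit 360, nat_lit 72, nat_lit 108, nat_lit 144, nat_lit 180, nat_lit 216, nat_lit 324, nat_lit 360, nat_lit 72, nat_lit 108, nat_lit 144, nat_lit 180, nat_lit 216, nat_lit 324, nat_lit 360, nat_lit 72, nat_lit 108, nat_lit 144, nat_lit 180, nat_lit 216, nat_lit 324, nat_lit 360, nat_lit 72, nat_lit 108, nat_lit 144, nat_lit 180, nat_lit 216, nat_lit 324, nat_lit 360, nat_lit 72, nat_lit 108, nat_lit 144, nat_lit 180, nat_lit 216, nat_lit 324, nat_lit 360, nat_lit 468, nat_lit 72, nat_lit 108, nat_lit 144, nat_lit 180, nat_lit 216, nat_lit 324, nat_lit 360, nat_lit 72, nat_lit 108, nat_lit 144, nat_lit 180, nat_lit 216, nat_lit 324, nat_lit 360, nat_lit 72, nat_lit 108, nat_lit 144, nat_lit 180, nat_lit 216, nat_lit 324])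
noncomputable def r400 : WT := (.node (nat_lit 23) r398 r399)
noncomputable def r401 : WT := (.leaf (nat_lit 80897) [nat_lit 324, nat_lit 180, nat_lit 396, nat_lit 288, nat_lit 252, nat_lit 216, nat_lit 180, nat_lit 468, nat_lit 432, nat_lit 72, nat_lit 108, nat_lit 144, nat_lit 180, nat_lit 360, nat_lit 324, nat_lit 180, nat_lit 396, nat_lit 288, nat_lit 252, nat_lit 216, nat_lit 180, nat_lit 468, nat_lit 432, nat_lit 72, nat_lit 108, nat_lit 144, nat_lit 180, nat_lit 360, nat_lit 324, nat_lit 180, nat_lit 396, nat_lit 288, nat_lit 252, nat_lit 216, nat_lit 180, nat_lit 468, nat_lit 432, nat_lit 72, nat_lit 108, nat_lit 144, nat_lit 180, nat_lit 360, nat_lit 324, nat_lit 180, nat_lit 396, nat_lit 288, nat_lit 252, nat_lit 216, nat_lit 180, nat_lit 468, nat_lit 432, nat_lit 72, nat_lit 108, nat_lit 144, nat_lit 180, nat_lit 360, nat_lit 324, nat_lit 180, nat_lit 396, nat_lit 288, nat_lit 252, nat_lit 216, nat_lit 180, nat_lit 468, nat_lit 432, nat_lit 72, nat_lit 108, nat_lit 144, nat_lit 180, nat_lit 360,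 nat_lit 324, nat_lit 180, nat_lit 396, nat_lit 288, nat_lit 252, nat_lit 216, nat_lit 180, nat_lit 468, nat_lit 432, nat_lit 72, nat_lit 108, nat_lit 144, nat_lit 180, nat_lit 360, nat_lit 324, nat_lit 180, nat_lit 396, nat_lit 288, nat_lit 252, nat_lit 216, nat_lit 180, nat_lit 468, nat_lit 432, nat_lit 72, nat_lit 108, nat_lit 144, nat_lit 180, nat_lit 360, nat_lit 324, nat_lit 180, nat_lit 396, nat_lit 288, nat_lit 252, nat_lit 216, nat_lit 180, nat_lit 468, nat_lit 432, nat_lit 72, nat_lit 108, nat_lit 144, nat_lit 180, nat_lit 360, nat_lit 324, nat_lit 180, nat_lit 396, nat_lit 288, nat_lit 252, nat_lit 216, nat_lit 180, nat_lit 468, nat_lit 432, nat_lit 72, nat_lit 108, nat_lit 144, nat_lit 180, nat_lit 360, nat_lit 324, nat_lit 180, nat_lit 396, nat_lit 288, nat_lit 252, nat_lit 216, nat_lit 180, nat_lit 468, nat_lit 432, nat_lit 72, nat_lit 108, nat_lit 144, nat_lit 180, nat_lit 360, nat_lit 324, nat_lit 180, nat_lit 396, nat_lit 288, nat_lit 252, nat_lit 216, nat_lit 180, nat_lit 468, nat_lit 432,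 nat_lit 72, nat_lit 108, nat_lit 144, nat_lit 180, nat_lit 360, nat_lit 324, nat_lit 180, nat_lit 396, nat_lit 288, nat_lit 252, nat_lit 216, nat_lit 180, nat_lit 468, nat_lit 432, nat_lit 72, nat_lit 108, nat_lit 144, nat_lit 180, nat_lit 360, nat_lit 324, nat_lit 180, nat_lit 396, nat_lit 288, nat_lit 252, nat_lit 216, nat_lit 180, nat_lit 468, nat_lit 432, nat_lit 72, nat_lit 108, nat_lit 144, nat_lit 180, nat_lit 360, nat_lit 324, nat_lit 180, nat_lit 396, nat_lit 288, nat_lit 252, nat_lit 216, nat_lit 180, nat_lit 468, nat_lit 432, nat_lit 72, nat_lit 108, nat_lit 144, nat_lit 180, nat_lit 360, nat_lit 324, nat_lit 180, nat_lit 396, nat_lit 288, nat_lit 252, nat_lit 216, nat_lit 180, nat_lit 468, nat_lit 432, nat_lit 72, nat_lit 108, nat_lit 144, nat_lit 180, nat_lit 360, nat_lit 324, nat_lit 180, nat_lit 396, nat_lit 288, nat_lit 252, nat_lit 216, nat_lit 180, nat_lit 468, nat_lit 432, nat_lit 72, nat_lit 108, nat_lit 144, nat_lit 180, nat_lit 360, nat_lit 324, nat_lit 180, nat_lit 396, nat_lit 288,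 nat_lit 252, nat_lit 216, nat_lit 180, nat_lit 468, nat_lit 432, nat_lit 72, nat_lit 108, nat_lit 144, nat_lit 180])
noncomputable def r402 : WT := (.leaf (nat_lit 84038) [nat_lit 72, nat_lit 108, nat_lit 144, nat_lit 180, nat_lit 216, nat_lit 324, nat_lit 360, nat_lit 72, nat_lit 108, nat_lit 144, nat_lit 180, nat_lit 216, nat_lit 324, nat_lit 360, nat_lit 72, nat_lit 108, nat_lit 144, nat_lit 180, nat_lit 216, nat_lit 324, nat_lit 360, nat_lit 72, nat_lit 108, nat_lit 144, nat_lit 180, nat_lit 216, nat_lit 324, nat_lit 360, nat_lit 468, nat_lit 72, nat_lit 108, nat_lit 144, nat_lit 180, nat_lit 216, nat_lit 324, nat_lit 360, nat_lit 72, nat_lit 108, nat_lit 144, nat_lit 180, nat_lit 216, nat_lit 324, nat_lit 360, nat_lit 72, nat_lit 108, nat_lit 144, nat_lit 180, nat_lit 216, nat_lit 324, nat_lit 360, nat_lit 72, nat_lit 108, nat_lit 144, nat_lit 180, nat_lit 216, nat_lit 324, nat_lit 360, nat_lit 72, nat_lit 108, nat_lit 144, nat_lit 180, nat_lit 216, nat_lit 324])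
noncomputable def r403 : WT := (.leaf (nat_lit 84067) [nat_lit 324, nat_lit 216, nat_lit 180, nat_lit 144, nat_lit 108, nat_lit 72, nat_lit 360, nat_lit 324, nat_lit 216, nat_lit 180, nat_lit 144, nat_lit 108, nat_lit 72, nat_lit 468, nat_lit 360, nat_lit 324, nat_lit 216, nat_lit 180, nat_lit 144, nat_lit 108, nat_lit 72, nat_lit 360, nat_lit 324, nat_lit 216, nat_lit 180, nat_lit 144, nat_lit 108, nat_lit 72, nat_lit 360, nat_lit 324, nat_lit 216, nat_lit 180, nat_lit 144, nat_lit 108, nat_lit 72, nat_lit 360, nat_lit 324, nat_lit 216, nat_lit 180, nat_lit 144, nat_lit 108, nat_lit 72, nat_lit 360, nat_lit 324, nat_lit 216, nat_lit 180, nat_lit 144, nat_lit 108, nat_lit 72, nat_lit 360, nat_lit 324, nat_lit 216, nat_lit 180, nat_lit 144, nat_lit 108, nat_lit 72, nat_lit 360, nat_lit 324, nat_lit 216, nat_lit 180, nat_lit 144, nat_lit 108, nat_lit 72])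
noncomputable def r404 : WT := (.node (nat_lit 25) r401 (.node (nat_lit 26) r402 r403))
noncomputable def r405 : WT := (.leaf (nat_lit 84039) [nat_lit 324, nat_lit 216, nat_lit 180, nat_lit 144, nat_lit 108, nat_lit 72, nat_lit 360, nat_lit 324, nat_lit 216, nat_lit 180, nat_lit 144, nat_lit 108, nat_lit 72, nat_lit 360, nat_lit 324, nat_lit 216, nat_lit 180, nat_lit 144, nat_lit 108, nat_lit 72, nat_lit 360, nat_lit 324, nat_lit 216, nat_lit 180, nat_lit 144, nat_lit 108, nat_lit 72, nat_lit 468, nat_lit 360, nat_lit 324, nat_lit 216, nat_lit 180, nat_lit 144, nat_lit 108, nat_lit 72, nat_lit 360, nat_lit 324, nat_lit 216, nat_lit 180, nat_lit 144, nat_lit 108, nat_lit 72, nat_lit 360, nat_lit 324, nat_lit 216, nat_lit 180, nat_lit 144, nat_lit 108, nat_lit 72, nat_lit 360, nat_lit 324, nat_lit 216, nat_lit 180, nat_lit 144, nat_lit 108, nat_lit 72, nat_lit 360, nat_lit 324, nat_lit 216, nat_lit 180, nat_lit 144, nat_lit 108, nat_lit 72])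
noncomputable def r406 : WT := (.leaf (nat_lit 84011) [nat_lit 324, nat_lit 216, nat_lit 180, nat_lit 144, nat_lit 108, nat_lit 72, nat_lit 360, nat_lit 324, nat_lit 216, nat_lit 180, nat_lit 144, nat_lit 108, nat_lit 72, nat_lit 360, nat_lit 324, nat_lit 216, nat_lit 180, nat_lit 144, nat_lit 108, nat_lit 72, nat_lit 360, nat_lit 324, nat_lit 216, nat_lit 180, nat_lit 144, nat_lit 108, nat_lit 72, nat_lit 360, nat_lit 324, nat_lit 216, nat_lit 180, nat_lit 144, nat_lit 108, nat_lit 72, nat_lit 360, nat_lit 324, nat_lit 216, nat_lit 180, nat_lit 144, nat_lit 108, nat_lit 72, nat_lit 468, nat_lit 360, nat_lit 324, nat_lit 216, nat_lit 180, nat_lit 144, nat_lit 108, nat_lit 72, nat_lit 360, nat_lit 324, nat_lit 216, nat_lit 180, nat_lit 144, nat_lit 108, nat_lit 72, nat_lit 360, nat_lit 324, nat_lit 216, nat_lit 180, nat_lit 144, nat_lit 108, nat_lit 72])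
noncomputable def r407 : WT := (.leaf (nat_lit 84080) [nat_lit 72, nat_lit 108, nat_lit 144, nat_lit 180, nat_lit 216, nat_lit 324, nat_lit 360, nat_lit 468, nat_lit 72, nat_lit 108, nat_lit 144, nat_lit 180, nat_lit 216, nat_lit 324, nat_lit 360, nat_lit 72, nat_lit 108, nat_lit 144, nat_lit 180, nat_lit 216, nat_lit 324, nat_lit 360, nat_lit 72, nat_lit 108, nat_lit 144, nat_lit 180, nat_lit 216, nat_lit 324, nat_lit 360, nat_lit 72, nat_lit 108, nat_lit 144, nat_lit 180, nat_lit 216, nat_lit 324, nat_lit 360, nat_lit 72, nat_lit 108, nat_lit 144, nat_lit 180, nat_lit 216, nat_lit 324, nat_lit 360, nat_lit 72, nat_lit 108, nat_lit 144, nat_lit 180, nat_lit 216, nat_lit 324, nat_lit 360, nat_lit 72, nat_lit 108, nat_lit 144, nat_lit 180, nat_lit 216, nat_lit 324, nat_lit 360, nat_lit 72, nat_lit 108, nat_lit 144, nat_lit 180, nat_lit 216, nat_lit 324])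
noncomputable def r408 : WT := (.leaf (nat_lit 84066) [nat_lit 72, nat_lit 108, nat_lit 144, nat_lit 180, nat_lit 216, nat_lit 324, nat_lit 360, nat_lit 72, nat_lit 108, nat_lit 144, nat_lit 180, nat_lit 216, nat_lit 324, nat_lit 360, nat_lit 468, nat_lit 72, nat_lit 108, nat_lit 144, nat_lit 180, nat_lit 216, nat_lit 324, nat_lit 360, nat_lit 72, nat_lit 108, nat_lit 144, nat_lit 180, nat_lit 216, nat_lit 324, nat_lit 360, nat_lit 72, nat_lit 108, nat_lit 144, nat_lit 180, nat_lit 216, nat_lit 324, nat_lit 360, nat_lit 72, nat_lit 108, nat_lit 144, nat_lit 180, nat_lit 216, nat_lit 324, nat_lit 360, nat_lit 72, nat_lit 108, nat_lit 144, nat_lit 180, nat_lit 216, nat_lit 324, nat_lit 360, nat_lit 72, nat_lit 108, nat_lit 144, nat_lit 180, nat_lit 216, nat_lit 324, nat_lit 360, nat_lit 72, nat_lit 108, nat_lit 144, nat_lit 180, nat_lit 216, nat_lit 324])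
noncomputable def r409 : WT := (.leaf (nat_lit 83996) [nat_lit 72, nat_lit 108, nat_lit 144, nat_lit 180, nat_lit 216, nat_lit 324, nat_lit 360, nat_lit 72, nat_lit 108, nat_lit 144, nat_lit 180, nat_lit 216, nat_lit 324, nat_lit 360, nat_lit 72, nat_lit 108, nat_lit 144, nat_lit 180, nat_lit 216, nat_lit 324, nat_lit 360, nat_lit 72, nat_lit 108, nat_lit 144, nat_lit 180, nat_lit 216, nat_lit 324, nat_lit 360, nat_lit 72, nat_lit 108, nat_lit 144, nat_lit 180, nat_lit 216, nat_lit 324, nat_lit 360, nat_lit 72, nat_lit 108, nat_lit 144, nat_lit 180, nat_lit 216, nat_lit 324, nat_lit 360, nat_lit 72, nat_lit 108, nat_lit 144, nat_lit 180, nat_lit 216, nat_lit 324, nat_lit 360, nat_lit 468, nat_lit 72, nat_lit 108, nat_lit 144, nat_lit 180, nat_lit 216, nat_lit 324, nat_lit 360, nat_lit 72, nat_lit 108, nat_lit 144, nat_lit 180, nat_lit 216, nat_lit 324])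
noncomputable def r410 : WT := (.node (nat_lit 29) (.node (nat_lit 28) r405 r406) (.node (nat_lit 30) r407 (.node (nat_lit 31) r408 r409)))
noncomputable def r411 : WT := (.node (nat_lit 19) (.node (nat_lit 17) r392 (.node (nat_lit 18) r393 r394)) (.node (nat_lit 21) (.node (nat_lit 20) r395 r396) (.node (nat_lit 24) (.node (nat_lit 22) r397 r400) (.node (nat_lit 27) r404 r410))))
noncomputable def r412 : WT := (.node (nat_lit 11) (.leaf (nat_lit 57346) [nat_lit 144, nat_lit 360, nat_lit 144]) (.node (nat_lit 12) (.leaf (nat_lit 68610) [nat_lit 216, nat_lit 360, nat_lit 216]) (.node (nat_lit 14) (.node (nat_lit 13) r387 r388) (.node (nat_lit 16) r391 r411))))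
noncomputable def w8 : WT := (.node (nat_lit 1) (.leaf (nat_lit 8192) [nat_lit 360]) (.node (nat_lit 5) (.node (nat_lit 3) (.node (nat_lit 2) (.leaf (nat_lit 77826) [nat_lit 396, nat_lit 360, nat_lit 396]) (.leaf (nat_lit 22530) [nat_lit 468, nat_lit 360, nat_lit 468])) (.node (nat_lit 4) (.leaf (nat_lit 32770) [nat_lit 432, nat_lit 360, nat_lit 432]) (.leaf (nat_lit 78850) [nat_lit 324, nat_lit 360, nat_lit 324, nat_lit 360, nat_lit 324]))) (.node (nat_lit 8) (.node (nat_lit 6) (.leaf (nat_lit 41986) [nat_lit 72, nat_lit 360, nat_lit 72]) r385) (.node (nat_lit 10) r386 r412))))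
noncomputable def r413 : WT := (.node (nat_lit 5) (.leaf (nat_lit 20482) [nat_lit 468, nat_lit 396, nat_lit 468]) (.leaf (nat_lit 39938) [nat_lit 72, nat_lit 396, nat_lit 72]))
noncomputable def r414 : WT := (.node (nat_lit 7) (.leaf (nat_lit 48130) [nat_lit 108, nat_lit 396, nat_lit 108]) (.node (nat_lit 8) (.leaf (nat_lit 70658) [nat_lit 252, nat_lit 396, nat_lit 252]) (.leaf (nat_lit 61442) [nat_lit 180, nat_lit 396, nat_lit 180])))
noncomputable def r415 : WT := (.leaf (nat_lit 80916) [nat_lit 180, nat_lit 324, nat_lit 360, nat_lit 180, nat_lit 144, nat_lit 108, nat_lit 72, nat_lit 432, nat_lit 468, nat_lit 180, nat_lit 216, nat_lit 252, nat_lit 288, nat_lit 396, nat_lit 180, nat_lit 324, nat_lit 360, nat_lit 180, nat_lit 144, nat_lit 108, nat_lit 72, nat_lit 432, nat_lit 468, nat_lit 180, nat_lit 216, nat_lit 252, nat_lit 288, nat_lit 396, nat_lit 180, nat_lit 324, nat_lit 360, nat_lit 180, nat_lit 144, nat_lit 108, nat_lit 72, nat_lit 432, nat_lit 468, nat_lit 180, nat_lit 216, nat_lit 252, nat_lit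 288, nat_lit 396, nat_lit 180, nat_lit 324, nat_lit 360, nat_lit 180, nat_lit 144, nat_lit 108, nat_lit 72, nat_lit 432, nat_lit 468, nat_lit 180, nat_lit 216, nat_lit 252, nat_lit 288, nat_lit 396, nat_lit 180, nat_lit 324, nat_lit 360, nat_lit 180, nat_lit 144, nat_lit 108, nat_lit 72, nat_lit 432, nat_lit 468, nat_lit 180, nat_lit 216, nat_lit 252, nat_lit 288, nat_lit 396, nat_lit 180, nat_lit 324, nat_lit 360, nat_lit 180, nat_lit 144, nat_lit 108, nat_lit 72, nat_lit 432, nat_lit 468, nat_lit 180, nat_lit 216, nat_lit 252, nat_lit 288, nat_lit 396, nat_lit 180, nat_lit 324, nat_lit 360, nat_lit 180, nat_lit 144, nat_lit 108, nat_lit 72, nat_lit 432, nat_lit 468, nat_lit 180, nat_lit 216, nat_lit 252, nat_lit 288, nat_lit 396, nat_lit 180, nat_lit 324, nat_lit 360, nat_lit 180, nat_lit 144, nat_lit 108, nat_lit 72, nat_lit 432, nat_lit 468, nat_lit 180, nat_lit 216, nat_lit 252, nat_lit 288, nat_lit 396, nat_lit 180, nat_lit 324, nat_lit 360, nat_lit 180, nat_lit 144, nat_lit 108, nat_lit 72, nat_lit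 432, nat_lit 468, nat_lit 180, nat_lit 216, nat_lit 252, nat_lit 288, nat_lit 396, nat_lit 180, nat_lit 324, nat_lit 360, nat_lit 180, nat_lit 144, nat_lit 108, nat_lit 72, nat_lit 432, nat_lit 468, nat_lit 180, nat_lit 216, nat_lit 252, nat_lit 288, nat_lit 396, nat_lit 180, nat_lit 324, nat_lit 360, nat_lit 180, nat_lit 144, nat_lit 108, nat_lit 72, nat_lit 432, nat_lit 468, nat_lit 180, nat_lit 216, nat_lit 252, nat_lit 288, nat_lit 396, nat_lit 180, nat_lit 324, nat_lit 360, nat_lit 180, nat_lit 144, nat_lit 108, nat_lit 72, nat_lit 432, nat_lit 468, nat_lit 180, nat_lit 216, nat_lit 252, nat_lit 288, nat_lit 396, nat_lit 180, nat_lit 324, nat_lit 360, nat_lit 180, nat_lit 144, nat_lit 108, nat_lit 72, nat_lit 432, nat_lit 468, nat_lit 180, nat_lit 216, nat_lit 252, nat_lit 288, nat_lit 396, nat_lit 180, nat_lit 324, nat_lit 360, nat_lit 180, nat_lit 144, nat_lit 108, nat_lit 72, nat_lit 432, nat_lit 468, nat_lit 180, nat_lit 216, nat_lit 252, nat_lit 288, nat_lit 396, nat_lit 180, nat_lit 324, nat_lit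 360, nat_lit 180, nat_lit 144, nat_lit 108, nat_lit 72, nat_lit 432, nat_lit 468, nat_lit 180, nat_lit 216, nat_lit 252, nat_lit 288, nat_lit 396, nat_lit 180, nat_lit 324, nat_lit 360, nat_lit 180, nat_lit 144, nat_lit 108, nat_lit 72, nat_lit 432, nat_lit 468, nat_lit 180, nat_lit 216, nat_lit 252, nat_lit 288, nat_lit 396, nat_lit 180, nat_lit 324, nat_lit 360, nat_lit 180, nat_lit 144, nat_lit 108, nat_lit 72, nat_lit 432, nat_lit 468, nat_lit 180, nat_lit 216, nat_lit 252, nat_lit 288])
noncomputable def r416 : WT := (.leaf (nat_lit 80903) [nat_lit 288, nat_lit 252, nat_lit 216, nat_lit 180, nat_lit 468, nat_lit 432, nat_lit 72, nat_lit 108, nat_lit 144, nat_lit 180, nat_lit 360, nat_lit 324, nat_lit 180, nat_lit 396, nat_lit 288, nat_lit 252, nat_lit 216, nat_lit 180, nat_lit 468, nat_lit 432, nat_lit 72, nat_lit 108, nat_lit 144, nat_lit 180, nat_lit 360, nat_lit 324, nat_lit 180, nat_lit 396, nat_lit 288, nat_lit 252, nat_lit 216, nat_lit 180, nat_lit 468, nat_lit 432, nat_lit 72, nat_lit 108, nat_lit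 144, nat_lit 180, nat_lit 360, nat_lit 324, nat_lit 180, nat_lit 396, nat_lit 288, nat_lit 252, nat_lit 216, nat_lit 180, nat_lit 468, nat_lit 432, nat_lit 72, nat_lit 108, nat_lit 144, nat_lit 180, nat_lit 360, nat_lit 324, nat_lit 180, nat_lit 396, nat_lit 288, nat_lit 252, nat_lit 216, nat_lit 180, nat_lit 468, nat_lit 432, nat_lit 72, nat_lit 108, nat_lit 144, nat_lit 180, nat_lit 360, nat_lit 324, nat_lit 180, nat_lit 396, nat_lit 288, nat_lit 252, nat_lit 216, nat_lit 180, nat_lit 468, nat_lit 432, nat_lit 72, nat_lit 108, nat_lit 144, nat_lit 180, nat_lit 360, nat_lit 324, nat_lit 180, nat_lit 396, nat_lit 288, nat_lit 252, nat_lit 216, nat_lit 180, nat_lit 468, nat_lit 432, nat_lit 72, nat_lit 108, nat_lit 144, nat_lit 180, nat_lit 360, nat_lit 324, nat_lit 180, nat_lit 396, nat_lit 288, nat_lit 252, nat_lit 216, nat_lit 180, nat_lit 468, nat_lit 432, nat_lit 72, nat_lit 108, nat_lit 144, nat_lit 180, nat_lit 360, nat_lit 324, nat_lit 180, nat_lit 396, nat_lit 288, nat_lit 252, nat_lit 216, nat_lit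 180, nat_lit 468, nat_lit 432, nat_lit 72, nat_lit 108, nat_lit 144, nat_lit 180, nat_lit 360, nat_lit 324, nat_lit 180, nat_lit 396, nat_lit 288, nat_lit 252, nat_lit 216, nat_lit 180, nat_lit 468, nat_lit 432, nat_lit 72, nat_lit 108, nat_lit 144, nat_lit 180, nat_lit 360, nat_lit 324, nat_lit 180, nat_lit 396, nat_lit 288, nat_lit 252, nat_lit 216, nat_lit 180, nat_lit 468, nat_lit 432, nat_lit 72, nat_lit 108, nat_lit 144, nat_lit 180, nat_lit 360, nat_lit 324, nat_lit 180, nat_lit 396, nat_lit 288, nat_lit 252, nat_lit 216, nat_lit 180, nat_lit 468, nat_lit 432, nat_lit 72, nat_lit 108, nat_lit 144, nat_lit 180, nat_lit 360, nat_lit 324, nat_lit 180, nat_lit 396, nat_lit 288, nat_lit 252, nat_lit 216, nat_lit 180, nat_lit 468, nat_lit 432, nat_lit 72, nat_lit 108, nat_lit 144, nat_lit 180, nat_lit 360, nat_lit 324, nat_lit 180, nat_lit 396, nat_lit 288, nat_lit 252, nat_lit 216, nat_lit 180, nat_lit 468, nat_lit 432, nat_lit 72, nat_lit 108, nat_lit 144, nat_lit 180, nat_lit 360, nat_lit 324, nat_lit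 180, nat_lit 396, nat_lit 288, nat_lit 252, nat_lit 216, nat_lit 180, nat_lit 468, nat_lit 432, nat_lit 72, nat_lit 108, nat_lit 144, nat_lit 180, nat_lit 360, nat_lit 324, nat_lit 180, nat_lit 396, nat_lit 288, nat_lit 252, nat_lit 216, nat_lit 180, nat_lit 468, nat_lit 432, nat_lit 72, nat_lit 108, nat_lit 144, nat_lit 180, nat_lit 360, nat_lit 324, nat_lit 180, nat_lit 396, nat_lit 288, nat_lit 252, nat_lit 216, nat_lit 180, nat_lit 468, nat_lit 432, nat_lit 72, nat_lit 108, nat_lit 144, nat_lit 180, nat_lit 360, nat_lit 324, nat_lit 180])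
noncomputable def r417 : WT := (.node (nat_lit 10) (.leaf (nat_lit 66562) [nat_lit 216, nat_lit 396, nat_lit 216]) (.node (nat_lit 11) (.leaf (nat_lit 55298) [nat_lit 144, nat_lit 396, nat_lit 144]) (.node (nat_lit 12) (.leaf (nat_lit 73730) [nat_lit 288, nat_lit 396, nat_lit 288, nat_lit 396, nat_lit 288]) (.node (nat_lit 13) r415 r416))))
noncomputable def w9 : WT := (.node (nat_lit 1) (.leaf (nat_lit 9216) [nat_lit 396]) (.node (nat_lit 3) (.node (nat_lit 2) (.leaf (nat_lit 77824) [nat_lit 360, nat_lit 396, nat_lit 360]) (.leaf (nat_lit 76800) [nat_lit 324, nat_lit 396, nat_lit 324])) (.node (nat_lit 6) (.node (nat_lit 4) (.leaf (nat_lit 30722) [nat_lit 432, nat_lit 396, nat_lit 432]) r413) (.node (nat_lit 9) r414 r417))))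
noncomputable def r418 : WT := (.node (nat_lit 6) (.leaf (nat_lit 29696) [nat_lit 288, nat_lit 432, nat_lit 288]) (.leaf (nat_lit 23552) [nat_lit 72, nat_lit 432, nat_lit 72, nat_lit 432, nat_lit 72]))
noncomputable def r419 : WT := (.node (nat_lit 8) (.leaf (nat_lit 24576) [nat_lit 108, nat_lit 432, nat_lit 108]) (.leaf (nat_lit 28672) [nat_lit 252, nat_lit 432, nat_lit 252]))
noncomputable def r420 : WT := (.leaf (nat_lit 81935) [nat_lit 324, nat_lit 252, nat_lit 216, nat_lit 180, nat_lit 144, nat_lit 108, nat_lit 72, nat_lit 432, nat_lit 324, nat_lit 252, nat_lit 216, nat_lit 180, nat_lit 144, nat_lit 108, nat_lit 72, nat_lit 432, nat_lit 324, nat_lit 252, nat_lit 216, nat_lit 180, nat_lit 144, nat_lit 108, nat_lit 72, nat_lit 432, nat_lit 324, nat_lit 252, nat_lit 216, nat_lit 180, nat_lit 144, nat_lit 108, nat_lit 72, nat_lit 432, nat_lit 324, nat_lit 252, nat_lit 216, nat_lit 180, nat_lit 144, nat_lit 108, nat_lit 72, nat_lit 432, nat_lit 324, nat_lit 252, nat_lit 216, nat_lit 180, nat_lit 144, nat_lit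 108, nat_lit 72, nat_lit 432, nat_lit 324, nat_lit 252, nat_lit 216, nat_lit 180, nat_lit 144, nat_lit 108, nat_lit 72, nat_lit 432, nat_lit 324, nat_lit 252, nat_lit 216, nat_lit 180, nat_lit 144, nat_lit 108, nat_lit 72, nat_lit 432, nat_lit 324, nat_lit 252, nat_lit 216, nat_lit 180, nat_lit 144, nat_lit 108, nat_lit 72, nat_lit 432, nat_lit 324, nat_lit 252, nat_lit 216, nat_lit 180, nat_lit 144, nat_lit 108, nat_lit 72, nat_lit 432, nat_lit 324, nat_lit 252, nat_lit 216, nat_lit 180, nat_lit 144, nat_lit 108, nat_lit 72, nat_lit 432, nat_lit 324, nat_lit 252, nat_lit 216, nat_lit 180, nat_lit 144, nat_lit 108, nat_lit 72, nat_lit 432, nat_lit 324, nat_lit 252, nat_lit 216, nat_lit 180, nat_lit 144, nat_lit 108, nat_lit 72, nat_lit 432, nat_lit 324, nat_lit 252, nat_lit 216, nat_lit 180, nat_lit 144, nat_lit 108, nat_lit 72, nat_lit 432, nat_lit 324, nat_lit 252, nat_lit 216, nat_lit 180, nat_lit 144, nat_lit 108, nat_lit 72])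
noncomputable def r421 : WT := (.leaf (nat_lit 82959) [nat_lit 360, nat_lit 324, nat_lit 216, nat_lit 180, nat_lit 144, nat_lit 108, nat_lit 72, nat_lit 432, nat_lit 360, nat_lit 324, nat_lit 216, nat_lit 180, nat_lit 144, nat_lit 108, nat_lit 72, nat_lit 432, nat_lit 360, nat_lit 324, nat_lit 216, nat_lit 180, nat_lit 144, nat_lit 108, nat_lit 72, nat_lit 432, nat_lit 360, nat_lit 324, nat_lit 216, nat_lit 180, nat_lit 144, nat_lit 108, nat_lit 72, nat_lit 432, nat_lit 360, nat_lit 324, nat_lit 216, nat_lit 180, nat_lit 144, nat_lit 108, nat_lit 72, nat_lit 432, nat_lit 360, nat_lit 324, nat_lit 216, nat_lit 180, nat_lit 144, nat_lit 108, nat_lit 72, nat_lit 432, nat_lit 360, nat_lit 324, nat_lit 216, nat_lit 180, nat_lit 144, nat_lit 108, nat_lit 72, nat_lit 432, nat_lit 360, nat_lit 324, nat_lit 216, nat_lit 180, nat_lit 144, nat_lit 108, nat_lit 72, nat_lit 432, nat_lit 360, nat_lit 324, nat_lit 216, nat_lit 180, nat_lit 144, nat_lit 108, nat_lit 72, nat_lit 432, nat_lit 360, nat_lit 324, nat_lit 216,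 nat_lit 180, nat_lit 144, nat_lit 108, nat_lit 72, nat_lit 432, nat_lit 360, nat_lit 324, nat_lit 216, nat_lit 180, nat_lit 144, nat_lit 108, nat_lit 72, nat_lit 432, nat_lit 360, nat_lit 324, nat_lit 216, nat_lit 180, nat_lit 144, nat_lit 108, nat_lit 72, nat_lit 432, nat_lit 360, nat_lit 324, nat_lit 216, nat_lit 180, nat_lit 144, nat_lit 108, nat_lit 72, nat_lit 432, nat_lit 360, nat_lit 324, nat_lit 216, nat_lit 180, nat_lit 144, nat_lit 108, nat_lit 72, nat_lit 432, nat_lit 360, nat_lit 324, nat_lit 216, nat_lit 180, nat_lit 144, nat_lit 108, nat_lit 72])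
noncomputable def r422 : WT := (.node (nat_lit 13) r420 r421)
noncomputable def r423 : WT := (.leaf (nat_lit 80915) [nat_lit 72, nat_lit 108, nat_lit 144, nat_lit 180, nat_lit 360, nat_lit 324, nat_lit 180, nat_lit 396, nat_lit 288, nat_lit 252, nat_lit 216, nat_lit 180, nat_lit 468, nat_lit 432, nat_lit 72, nat_lit 108, nat_lit 144, nat_lit 180, nat_lit 360, nat_lit 324, nat_lit 180, nat_lit 396, nat_lit 288, nat_lit 252, nat_lit 216, nat_lit 180, nat_lit 468, nat_lit 432, nat_lit 72, nat_lit 108, nat_lit 144, nat_lit 180, nat_lit 360, nat_lit 324, nat_lit 180, nat_lit 396, nat_lit 288, nat_lit 252, nat_lit 216, nat_lit 180, nat_lit 468, nat_lit 432, nat_lit 72, nat_lit 108, nat_lit 144, nat_lit 180, nat_lit 360, nat_lit 324, nat_lit 180, nat_lit 396, nat_lit 288, nat_lit 252, nat_lit 216, nat_lit 180, nat_lit 468, nat_lit 432, nat_lit 72, nat_lit 108, nat_lit 144, nat_lit 180, nat_lit 360, nat_lit 324, nat_lit 180, nat_lit 396, nat_lit 288, nat_lit 252, nat_lit 216, nat_lit 180, nat_lit 468, nat_lit 432,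 nat_lit 72, nat_lit 108, nat_lit 144, nat_lit 180, nat_lit 360, nat_lit 324, nat_lit 180, nat_lit 396, nat_lit 288, nat_lit 252, nat_lit 216, nat_lit 180, nat_lit 468, nat_lit 432, nat_lit 72, nat_lit 108, nat_lit 144, nat_lit 180, nat_lit 360, nat_lit 324, nat_lit 180, nat_lit 396, nat_lit 288, nat_lit 252, nat_lit 216, nat_lit 180, nat_lit 468, nat_lit 432, nat_lit 72, nat_lit 108, nat_lit 144, nat_lit 180, nat_lit 360, nat_lit 324, nat_lit 180, nat_lit 396, nat_lit 288, nat_lit 252, nat_lit 216, nat_lit 180, nat_lit 468, nat_lit 432, nat_lit 72, nat_lit 108, nat_lit 144, nat_lit 180, nat_lit 360, nat_lit 324, nat_lit 180, nat_lit 396, nat_lit 288, nat_lit 252, nat_lit 216, nat_lit 180, nat_lit 468, nat_lit 432, nat_lit 72, nat_lit 108, nat_lit 144, nat_lit 180, nat_lit 360, nat_lit 324, nat_lit 180, nat_lit 396, nat_lit 288, nat_lit 252, nat_lit 216, nat_lit 180, nat_lit 468, nat_lit 432, nat_lit 72, nat_lit 108, nat_lit 144, nat_lit 180, nat_lit 360, nat_lit 324, nat_lit 180, nat_lit 396, nat_lit 288,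 nat_lit 252, nat_lit 216, nat_lit 180, nat_lit 468, nat_lit 432, nat_lit 72, nat_lit 108, nat_lit 144, nat_lit 180, nat_lit 360, nat_lit 324, nat_lit 180, nat_lit 396, nat_lit 288, nat_lit 252, nat_lit 216, nat_lit 180, nat_lit 468, nat_lit 432, nat_lit 72, nat_lit 108, nat_lit 144, nat_lit 180, nat_lit 360, nat_lit 324, nat_lit 180, nat_lit 396, nat_lit 288, nat_lit 252, nat_lit 216, nat_lit 180, nat_lit 468, nat_lit 432, nat_lit 72, nat_lit 108, nat_lit 144, nat_lit 180, nat_lit 360, nat_lit 324, nat_lit 180, nat_lit 396, nat_lit 288, nat_lit 252, nat_lit 216, nat_lit 180, nat_lit 468, nat_lit 432, nat_lit 72, nat_lit 108, nat_lit 144, nat_lit 180, nat_lit 360, nat_lit 324, nat_lit 180, nat_lit 396, nat_lit 288, nat_lit 252, nat_lit 216, nat_lit 180, nat_lit 468, nat_lit 432, nat_lit 72, nat_lit 108, nat_lit 144, nat_lit 180, nat_lit 360, nat_lit 324, nat_lit 180, nat_lit 396, nat_lit 288, nat_lit 252, nat_lit 216, nat_lit 180, nat_lit 468, nat_lit 432, nat_lit 72, nat_lit 108, nat_lit 144, nat_lit 180,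 nat_lit 360, nat_lit 324, nat_lit 180, nat_lit 396, nat_lit 288, nat_lit 252, nat_lit 216, nat_lit 180, nat_lit 468])
noncomputable def r424 : WT := (.leaf (nat_lit 81920) [nat_lit 72, nat_lit 108, nat_lit 144, nat_lit 180, nat_lit 216, nat_lit 252, nat_lit 324, nat_lit 432, nat_lit 72, nat_lit 108, nat_lit 144, nat_lit 180, nat_lit 216, nat_lit 252, nat_lit 324, nat_lit 432, nat_lit 72, nat_lit 108, nat_lit 144, nat_lit 180, nat_lit 216, nat_lit 252, nat_lit 324, nat_lit 432, nat_lit 72, nat_lit 108, nat_lit 144, nat_lit 180, nat_lit 216, nat_lit 252, nat_lit 324, nat_lit 432, nat_lit 72, nat_lit 108, nat_lit 144, nat_lit 180, nat_lit 216, nat_lit 252, nat_lit 324, nat_lit 432, nat_lit 72, nat_lit 108, nat_lit 144, nat_lit 180, nat_lit 216, nat_lit 252, nat_lit 324, nat_lit 432, nat_lit 72, nat_lit 108, nat_lit 144, nat_lit 180, nat_lit 216, nat_lit 252, nat_lit 324, nat_lit 432, nat_lit 72, nat_lit 108, nat_lit 144, nat_lit 180, nat_lit 216, nat_lit 252, nat_lit 324, nat_lit 432, nat_lit 72, nat_lit 108,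 nat_lit 144, nat_lit 180, nat_lit 216, nat_lit 252, nat_lit 324, nat_lit 432, nat_lit 72, nat_lit 108, nat_lit 144, nat_lit 180, nat_lit 216, nat_lit 252, nat_lit 324, nat_lit 432, nat_lit 72, nat_lit 108, nat_lit 144, nat_lit 180, nat_lit 216, nat_lit 252, nat_lit 324, nat_lit 432, nat_lit 72, nat_lit 108, nat_lit 144, nat_lit 180, nat_lit 216, nat_lit 252, nat_lit 324, nat_lit 432, nat_lit 72, nat_lit 108, nat_lit 144, nat_lit 180, nat_lit 216, nat_lit 252, nat_lit 324, nat_lit 432, nat_lit 72, nat_lit 108, nat_lit 144, nat_lit 180, nat_lit 216, nat_lit 252, nat_lit 324, nat_lit 432, nat_lit 72, nat_lit 108, nat_lit 144, nat_lit 180, nat_lit 216, nat_lit 252, nat_lit 324])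
noncomputable def r425 : WT := (.leaf (nat_lit 82944) [nat_lit 72, nat_lit 108, nat_lit 144, nat_lit 180, nat_lit 216, nat_lit 324, nat_lit 360, nat_lit 432, nat_lit 72, nat_lit 108, nat_lit 144, nat_lit 180, nat_lit 216, nat_lit 324, nat_lit 360, nat_lit 432, nat_lit 72, nat_lit 108, nat_lit 144, nat_lit 180, nat_lit 216, nat_lit 324, nat_lit 360, nat_lit 432, nat_lit 72, nat_lit 108, nat_lit 144, nat_lit 180, nat_lit 216, nat_lit 324, nat_lit 360, nat_lit 432, nat_lit 72, nat_lit 108, nat_lit 144, nat_lit 180, nat_lit 216, nat_lit 324, nat_lit 360, nat_lit 432, nat_lit 72, nat_lit 108, nat_lit 144, nat_lit 180, nat_lit 216, nat_lit 324, nat_lit 360, nat_lit 432, nat_lit 72, nat_lit 108, nat_lit 144, nat_lit 180, nat_lit 216, nat_lit 324, nat_lit 360, nat_lit 432, nat_lit 72, nat_lit 108, nat_lit 144, nat_lit 180, nat_lit 216, nat_lit 324, nat_lit 360, nat_lit 432, nat_lit 72, nat_lit 108, nat_lit 144, nat_lit 180, nat_lit 216, nat_lit 324, nat_lit 360, nat_lit 432, nat_lit 72, nat_lit 108, nat_lit 144,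 nat_lit 180, nat_lit 216, nat_lit 324, nat_lit 360, nat_lit 432, nat_lit 72, nat_lit 108, nat_lit 144, nat_lit 180, nat_lit 216, nat_lit 324, nat_lit 360, nat_lit 432, nat_lit 72, nat_lit 108, nat_lit 144, nat_lit 180, nat_lit 216, nat_lit 324, nat_lit 360, nat_lit 432, nat_lit 72, nat_lit 108, nat_lit 144, nat_lit 180, nat_lit 216, nat_lit 324, nat_lit 360, nat_lit 432, nat_lit 72, nat_lit 108, nat_lit 144, nat_lit 180, nat_lit 216, nat_lit 324, nat_lit 360, nat_lit 432, nat_lit 72, nat_lit 108, nat_lit 144, nat_lit 180, nat_lit 216, nat_lit 324, nat_lit 360])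
noncomputable def r426 : WT := (.leaf (nat_lit 80904) [nat_lit 468, nat_lit 180, nat_lit 216, nat_lit 252, nat_lit 288, nat_lit 396, nat_lit 180, nat_lit 324, nat_lit 360, nat_lit 180, nat_lit 144, nat_lit 108, nat_lit 72, nat_lit 432, nat_lit 468, nat_lit 180, nat_lit 216, nat_lit 252, nat_lit 288, nat_lit 396, nat_lit 180, nat_lit 324, nat_lit 360, nat_lit 180, nat_lit 144, nat_lit 108, nat_lit 72, nat_lit 432, nat_lit 468, nat_lit 180, nat_lit 216, nat_lit 252, nat_lit 288, nat_lit 396, nat_lit 180, nat_lit 324, nat_lit 360, nat_lit 180, nat_lit 144, nat_lit 108, nat_lit 72, nat_lit 432, nat_lit 468, nat_lit 180, nat_lit 216, nat_lit 252, nat_lit 288, nat_lit 396, nat_lit 180, nat_lit 324, nat_lit 360, nat_lit 180, nat_lit 144, nat_lit 108, nat_lit 72, nat_lit 432, nat_lit 468, nat_lit 180, nat_lit 216, nat_lit 252, nat_lit 288, nat_lit 396, nat_lit 180, nat_lit 324, nat_lit 360, nat_lit 180, nat_lit 144, nat_lit 108, nat_lit 72, nat_lit 432, nat_lit 468, nat_lit 180, nat_lit 216, nat_lit 252, nat_lit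 288, nat_lit 396, nat_lit 180, nat_lit 324, nat_lit 360, nat_lit 180, nat_lit 144, nat_lit 108, nat_lit 72, nat_lit 432, nat_lit 468, nat_lit 180, nat_lit 216, nat_lit 252, nat_lit 288, nat_lit 396, nat_lit 180, nat_lit 324, nat_lit 360, nat_lit 180, nat_lit 144, nat_lit 108, nat_lit 72, nat_lit 432, nat_lit 468, nat_lit 180, nat_lit 216, nat_lit 252, nat_lit 288, nat_lit 396, nat_lit 180, nat_lit 324, nat_lit 360, nat_lit 180, nat_lit 144, nat_lit 108, nat_lit 72, nat_lit 432, nat_lit 468, nat_lit 180, nat_lit 216, nat_lit 252, nat_lit 288, nat_lit 396, nat_lit 180, nat_lit 324, nat_lit 360, nat_lit 180, nat_lit 144, nat_lit 108, nat_lit 72, nat_lit 432, nat_lit 468, nat_lit 180, nat_lit 216, nat_lit 252, nat_lit 288, nat_lit 396, nat_lit 180, nat_lit 324, nat_lit 360, nat_lit 180, nat_lit 144, nat_lit 108, nat_lit 72, nat_lit 432, nat_lit 468, nat_lit 180, nat_lit 216, nat_lit 252, nat_lit 288, nat_lit 396, nat_lit 180, nat_lit 324, nat_lit 360, nat_lit 180, nat_lit 144, nat_lit 108, nat_lit 72, nat_lit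 432, nat_lit 468, nat_lit 180, nat_lit 216, nat_lit 252, nat_lit 288, nat_lit 396, nat_lit 180, nat_lit 324, nat_lit 360, nat_lit 180, nat_lit 144, nat_lit 108, nat_lit 72, nat_lit 432, nat_lit 468, nat_lit 180, nat_lit 216, nat_lit 252, nat_lit 288, nat_lit 396, nat_lit 180, nat_lit 324, nat_lit 360, nat_lit 180, nat_lit 144, nat_lit 108, nat_lit 72, nat_lit 432, nat_lit 468, nat_lit 180, nat_lit 216, nat_lit 252, nat_lit 288, nat_lit 396, nat_lit 180, nat_lit 324, nat_lit 360, nat_lit 180, nat_lit 144, nat_lit 108, nat_lit 72, nat_lit 432, nat_lit 468, nat_lit 180, nat_lit 216, nat_lit 252, nat_lit 288, nat_lit 396, nat_lit 180, nat_lit 324, nat_lit 360, nat_lit 180, nat_lit 144, nat_lit 108, nat_lit 72, nat_lit 432, nat_lit 468, nat_lit 180, nat_lit 216, nat_lit 252, nat_lit 288, nat_lit 396, nat_lit 180, nat_lit 324, nat_lit 360, nat_lit 180, nat_lit 144, nat_lit 108, nat_lit 72, nat_lit 432, nat_lit 468, nat_lit 180, nat_lit 216, nat_lit 252, nat_lit 288, nat_lit 396, nat_lit 180, nat_lit 324, nat_lit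 360, nat_lit 180, nat_lit 144, nat_lit 108, nat_lit 72])
noncomputable def r427 : WT := (.node (nat_lit 15) r423 (.node (nat_lit 16) r424 (.node (nat_lit 17) r425 r426)))
noncomputable def r428 : WT := (.node (nat_lit 10) (.leaf (nat_lit 26624) [nat_lit 180, nat_lit 432, nat_lit 180]) (.node (nat_lit 11) (.leaf (nat_lit 27648) [nat_lit 216, nat_lit 432, nat_lit 216]) (.node (nat_lit 12) (.leaf (nat_lit 25600) [nat_lit 144, nat_lit 432, nat_lit 144]) (.node (nat_lit 14) r422 r427))))
noncomputable def w10 : WT := (.node (nat_lit 1) (.leaf (nat_lit 10240) [nat_lit 432]) (.node (nat_lit 4) (.node (nat_lit 2) (.leaf (nat_lit 32768) [nat_lit 360, nat_lit 432, nat_lit 360]) (.node (nat_lit 3) (.leaf (nat_lit 31744) [nat_lit 324, nat_lit 432, nat_lit 324]) (.leaf (nat_lit 30720) [nat_lit 396, nat_lit 432, nat_lit 396]))) (.node (nat_lit 7) (.node (nat_lit 5) (.leaf (nat_lit 12290) [nat_lit 468, nat_lit 432, nat_lit 468, nat_lit 432, nat_lit 468]) r418) (.node (nat_lit 9) r419 r428))))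
noncomputable def r429 : WT := (.node (nat_lit 5) (.leaf (nat_lit 19456) [nat_lit 288, nat_lit 468, nat_lit 288]) (.leaf (nat_lit 12288) [nat_lit 432, nat_lit 468, nat_lit 432, nat_lit 468, nat_lit 432]))
noncomputable def r430 : WT := (.node (nat_lit 7) (.leaf (nat_lit 13312) [nat_lit 72, nat_lit 468, nat_lit 72]) (.node (nat_lit 8) (.leaf (nat_lit 18432) [nat_lit 252, nat_lit 468, nat_lit 252]) (.leaf (nat_lit 14336) [nat_lit 108, nat_lit 468, nat_lit 108])))
noncomputable def r431 : WT := (.leaf (nat_lit 79872) [nat_lit 324, nat_lit 252, nat_lit 216, nat_lit 180, nat_lit 144, nat_lit 108, nat_lit 72, nat_lit 324, nat_lit 252, nat_lit 216, nat_lit 180, nat_lit 144, nat_lit 108, nat_lit 72, nat_lit 324, nat_lit 252, nat_lit 216, nat_lit 180, nat_lit 144, nat_lit 108, nat_lit 72, nat_lit 324, nat_lit 252, nat_lit 216, nat_lit 180, nat_lit 144, nat_lit 108, nat_lit 72, nat_lit 324, nat_lit 252, nat_lit 216, nat_lit 180, nat_lit 144, nat_lit 108, nat_lit 72, nat_lit 324, nat_lit 252, nat_lit 216, nat_lit 180,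 nat_lit 144, nat_lit 108, nat_lit 72, nat_lit 324, nat_lit 252, nat_lit 216, nat_lit 180, nat_lit 144, nat_lit 108, nat_lit 72, nat_lit 324, nat_lit 252, nat_lit 216, nat_lit 180, nat_lit 144, nat_lit 108, nat_lit 72, nat_lit 324, nat_lit 252, nat_lit 216, nat_lit 180, nat_lit 144, nat_lit 108, nat_lit 72])
noncomputable def r432 : WT := (.leaf (nat_lit 79999) [nat_lit 72, nat_lit 108, nat_lit 144, nat_lit 180, nat_lit 216, nat_lit 252, nat_lit 324, nat_lit 72, nat_lit 108, nat_lit 144, nat_lit 180, nat_lit 216, nat_lit 252, nat_lit 324, nat_lit 72, nat_lit 108, nat_lit 144, nat_lit 180, nat_lit 216, nat_lit 252, nat_lit 324, nat_lit 72, nat_lit 108, nat_lit 144, nat_lit 180, nat_lit 216, nat_lit 252, nat_lit 324, nat_lit 72, nat_lit 108, nat_lit 144, nat_lit 180, nat_lit 216, nat_lit 252, nat_lit 324, nat_lit 72, nat_lit 108, nat_lit 144, nat_lit 180, nat_lit 216, nat_lit 252, nat_lit 324, nat_lit 72, nat_lit 108, nat_lit 144, nat_lit 180, nat_lit 216, nat_lit 252, nat_lit 324, nat_lit 72, nat_lit 108, nat_lit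 144, nat_lit 180, nat_lit 216, nat_lit 252, nat_lit 324, nat_lit 72, nat_lit 108, nat_lit 144, nat_lit 180, nat_lit 216, nat_lit 252, nat_lit 324])
noncomputable def r433 : WT := (.node (nat_lit 13) r431 r432)
noncomputable def r434 : WT := (.leaf (nat_lit 80906) [nat_lit 180, nat_lit 216, nat_lit 252, nat_lit 288, nat_lit 396, nat_lit 180, nat_lit 324, nat_lit 360, nat_lit 180, nat_lit 144, nat_lit 108, nat_lit 72, nat_lit 432, nat_lit 468, nat_lit 180, nat_lit 216, nat_lit 252, nat_lit 288, nat_lit 396, nat_lit 180, nat_lit 324, nat_lit 360, nat_lit 180, nat_lit 144, nat_lit 108, nat_lit 72, nat_lit 432, nat_lit 468, nat_lit 180, nat_lit 216, nat_lit 252, nat_lit 288, nat_lit 396, nat_lit 180, nat_lit 324, nat_lit 360, nat_lit 180, nat_lit 144, nat_lit 108, nat_lit 72, nat_lit 432, nat_lit 468, nat_lit 180, nat_lit 216, nat_lit 252, nat_lit 288, nat_lit 396, nat_lit 180, nat_lit 324, nat_lit 360, nat_lit 180, nat_lit 144, nat_lit 108, nat_lit 72, nat_lit 432, nat_lit 468, nat_lit 180, nat_lit 216, nat_lit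 252, nat_lit 288, nat_lit 396, nat_lit 180, nat_lit 324, nat_lit 360, nat_lit 180, nat_lit 144, nat_lit 108, nat_lit 72, nat_lit 432, nat_lit 468, nat_lit 180, nat_lit 216, nat_lit 252, nat_lit 288, nat_lit 396, nat_lit 180, nat_lit 324, nat_lit 360, nat_lit 180, nat_lit 144, nat_lit 108, nat_lit 72, nat_lit 432, nat_lit 468, nat_lit 180, nat_lit 216, nat_lit 252, nat_lit 288, nat_lit 396, nat_lit 180, nat_lit 324, nat_lit 360, nat_lit 180, nat_lit 144, nat_lit 108, nat_lit 72, nat_lit 432, nat_lit 468, nat_lit 180, nat_lit 216, nat_lit 252, nat_lit 288, nat_lit 396, nat_lit 180, nat_lit 324, nat_lit 360, nat_lit 180, nat_lit 144, nat_lit 108, nat_lit 72, nat_lit 432, nat_lit 468, nat_lit 180, nat_lit 216, nat_lit 252, nat_lit 288, nat_lit 396, nat_lit 180, nat_lit 324, nat_lit 360, nat_lit 180, nat_lit 144, nat_lit 108, nat_lit 72, nat_lit 432, nat_lit 468, nat_lit 180, nat_lit 216, nat_lit 252, nat_lit 288, nat_lit 396, nat_lit 180, nat_lit 324, nat_lit 360, nat_lit 180, nat_lit 144, nat_lit 108, nat_lit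 72, nat_lit 432, nat_lit 468, nat_lit 180, nat_lit 216, nat_lit 252, nat_lit 288, nat_lit 396, nat_lit 180, nat_lit 324, nat_lit 360, nat_lit 180, nat_lit 144, nat_lit 108, nat_lit 72, nat_lit 432, nat_lit 468, nat_lit 180, nat_lit 216, nat_lit 252, nat_lit 288, nat_lit 396, nat_lit 180, nat_lit 324, nat_lit 360, nat_lit 180, nat_lit 144, nat_lit 108, nat_lit 72, nat_lit 432, nat_lit 468, nat_lit 180, nat_lit 216, nat_lit 252, nat_lit 288, nat_lit 396, nat_lit 180, nat_lit 324, nat_lit 360, nat_lit 180, nat_lit 144, nat_lit 108, nat_lit 72, nat_lit 432, nat_lit 468, nat_lit 180, nat_lit 216, nat_lit 252, nat_lit 288, nat_lit 396, nat_lit 180, nat_lit 324, nat_lit 360, nat_lit 180, nat_lit 144, nat_lit 108, nat_lit 72, nat_lit 432, nat_lit 468, nat_lit 180, nat_lit 216, nat_lit 252, nat_lit 288, nat_lit 396, nat_lit 180, nat_lit 324, nat_lit 360, nat_lit 180, nat_lit 144, nat_lit 108, nat_lit 72, nat_lit 432, nat_lit 468, nat_lit 180, nat_lit 216, nat_lit 252, nat_lit 288, nat_lit 396, nat_lit 180, nat_lit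 324, nat_lit 360, nat_lit 180, nat_lit 144, nat_lit 108, nat_lit 72, nat_lit 432, nat_lit 468, nat_lit 180, nat_lit 216, nat_lit 252, nat_lit 288, nat_lit 396, nat_lit 180, nat_lit 324, nat_lit 360, nat_lit 180, nat_lit 144, nat_lit 108, nat_lit 72, nat_lit 432])
noncomputable def r435 : WT := (.leaf (nat_lit 83968) [nat_lit 72, nat_lit 108, nat_lit 144, nat_lit 180, nat_lit 216, nat_lit 324, nat_lit 360, nat_lit 72, nat_lit 108, nat_lit 144, nat_lit 180, nat_lit 216, nat_lit 324, nat_lit 360, nat_lit 72, nat_lit 108, nat_lit 144, nat_lit 180, nat_lit 216, nat_lit 324, nat_lit 360, nat_lit 72, nat_lit 108, nat_lit 144, nat_lit 180, nat_lit 216, nat_lit 324, nat_lit 360, nat_lit 72, nat_lit 108, nat_lit 144, nat_lit 180, nat_lit 216, nat_lit 324, nat_lit 360, nat_lit 72, nat_lit 108, nat_lit 144, nat_lit 180, nat_lit 216, nat_lit 324, nat_lit 360, nat_lit 72, nat_lit 108, nat_lit 144, nat_lit 180, nat_lit 216, nat_lit 324, nat_lit 360, nat_lit 72, nat_lit 108, nat_lit 144, nat_lit 180, nat_lit 216, nat_lit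 324, nat_lit 360, nat_lit 72, nat_lit 108, nat_lit 144, nat_lit 180, nat_lit 216, nat_lit 324, nat_lit 360])
noncomputable def r436 : WT := (.leaf (nat_lit 84095) [nat_lit 360, nat_lit 324, nat_lit 216, nat_lit 180, nat_lit 144, nat_lit 108, nat_lit 72, nat_lit 360, nat_lit 324, nat_lit 216, nat_lit 180, nat_lit 144, nat_lit 108, nat_lit 72, nat_lit 360, nat_lit 324, nat_lit 216, nat_lit 180, nat_lit 144, nat_lit 108, nat_lit 72, nat_lit 360, nat_lit 324, nat_lit 216, nat_lit 180, nat_lit 144, nat_lit 108, nat_lit 72, nat_lit 360, nat_lit 324, nat_lit 216, nat_lit 180, nat_lit 144, nat_lit 108, nat_lit 72, nat_lit 360, nat_lit 324, nat_lit 216, nat_lit 180, nat_lit 144, nat_lit 108, nat_lit 72, nat_lit 360, nat_lit 324, nat_lit 216, nat_lit 180, nat_lit 144, nat_lit 108, nat_lit 72, nat_lit 360, nat_lit 324, nat_lit 216, nat_lit 180, nat_lit 144, nat_lit 108, nat_lit 72, nat_lit 360, nat_lit 324, nat_lit 216, nat_lit 180, nat_lit 144, nat_lit 108, nat_lit 72])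
noncomputable def r437 : WT := (.leaf (nat_lit 80913) [nat_lit 432, nat_lit 72, nat_lit 108, nat_lit 144, nat_lit 180, nat_lit 360, nat_lit 324, nat_lit 180, nat_lit 396, nat_lit 288, nat_lit 252, nat_lit 216, nat_lit 180, nat_lit 468, nat_lit 432, nat_lit 72, nat_lit 108, nat_lit 144, nat_lit 180, nat_lit 360, nat_lit 324, nat_lit 180, nat_lit 396, nat_lit 288, nat_lit 252, nat_lit 216, nat_lit 180, nat_lit 468, nat_lit 432, nat_lit 72, nat_lit 108, nat_lit 144, nat_lit 180, nat_lit 360, nat_lit 324, nat_lit 180, nat_lit 396, nat_lit 288, nat_lit 252, nat_lit 216, nat_lit 180, nat_lit 468, nat_lit 432, nat_lit 72, nat_lit 108, nat_lit 144, nat_lit 180, nat_lit 360, nat_lit 324, nat_lit 180, nat_lit 396, nat_lit 288, nat_lit 252, nat_lit 216, nat_lit 180, nat_lit 468, nat_lit 432, nat_lit 72, nat_lit 108, nat_lit 144, nat_lit 180, nat_lit 360, nat_lit 324, nat_lit 180, nat_lit 396, nat_lit 288, nat_lit 252, nat_lit 216, nat_lit 180, nat_lit 468, nat_lit 432, nat_lit 72, nat_lit 108, nat_lit 144, nat_lit 180,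 nat_lit 360, nat_lit 324, nat_lit 180, nat_lit 396, nat_lit 288, nat_lit 252, nat_lit 216, nat_lit 180, nat_lit 468, nat_lit 432, nat_lit 72, nat_lit 108, nat_lit 144, nat_lit 180, nat_lit 360, nat_lit 324, nat_lit 180, nat_lit 396, nat_lit 288, nat_lit 252, nat_lit 216, nat_lit 180, nat_lit 468, nat_lit 432, nat_lit 72, nat_lit 108, nat_lit 144, nat_lit 180, nat_lit 360, nat_lit 324, nat_lit 180, nat_lit 396, nat_lit 288, nat_lit 252, nat_lit 216, nat_lit 180, nat_lit 468, nat_lit 432, nat_lit 72, nat_lit 108, nat_lit 144, nat_lit 180, nat_lit 360, nat_lit 324, nat_lit 180, nat_lit 396, nat_lit 288, nat_lit 252, nat_lit 216, nat_lit 180, nat_lit 468, nat_lit 432, nat_lit 72, nat_lit 108, nat_lit 144, nat_lit 180, nat_lit 360, nat_lit 324, nat_lit 180, nat_lit 396, nat_lit 288, nat_lit 252, nat_lit 216, nat_lit 180, nat_lit 468, nat_lit 432, nat_lit 72, nat_lit 108, nat_lit 144, nat_lit 180, nat_lit 360, nat_lit 324, nat_lit 180, nat_lit 396, nat_lit 288, nat_lit 252, nat_lit 216, nat_lit 180, nat_lit 468,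 nat_lit 432, nat_lit 72, nat_lit 108, nat_lit 144, nat_lit 180, nat_lit 360, nat_lit 324, nat_lit 180, nat_lit 396, nat_lit 288, nat_lit 252, nat_lit 216, nat_lit 180, nat_lit 468, nat_lit 432, nat_lit 72, nat_lit 108, nat_lit 144, nat_lit 180, nat_lit 360, nat_lit 324, nat_lit 180, nat_lit 396, nat_lit 288, nat_lit 252, nat_lit 216, nat_lit 180, nat_lit 468, nat_lit 432, nat_lit 72, nat_lit 108, nat_lit 144, nat_lit 180, nat_lit 360, nat_lit 324, nat_lit 180, nat_lit 396, nat_lit 288, nat_lit 252, nat_lit 216, nat_lit 180, nat_lit 468, nat_lit 432, nat_lit 72, nat_lit 108, nat_lit 144, nat_lit 180, nat_lit 360, nat_lit 324, nat_lit 180, nat_lit 396, nat_lit 288, nat_lit 252, nat_lit 216, nat_lit 180, nat_lit 468, nat_lit 432, nat_lit 72, nat_lit 108, nat_lit 144, nat_lit 180, nat_lit 360, nat_lit 324, nat_lit 180, nat_lit 396, nat_lit 288, nat_lit 252, nat_lit 216, nat_lit 180, nat_lit 468, nat_lit 432, nat_lit 72, nat_lit 108, nat_lit 144, nat_lit 180, nat_lit 360, nat_lit 324, nat_lit 180, nat_lit 396,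 nat_lit 288, nat_lit 252, nat_lit 216, nat_lit 180])
noncomputable def r438 : WT := (.node (nat_lit 15) r434 (.node (nat_lit 16) r435 (.node (nat_lit 17) r436 r437)))
noncomputable def r439 : WT := (.node (nat_lit 10) (.leaf (nat_lit 16384) [nat_lit 180, nat_lit 468, nat_lit 180]) (.node (nat_lit 11) (.leaf (nat_lit 17408) [nat_lit 216, nat_lit 468, nat_lit 216]) (.node (nat_lit 12) (.leaf (nat_lit 15360) [nat_lit 144, nat_lit 468, nat_lit 144]) (.node (nat_lit 14) r433 r438))))
noncomputable def w11 : WT := (.node (nat_lit 1) (.leaf (nat_lit 11264) [nat_lit 468]) (.node (nat_lit 3) (.node (nat_lit 2) (.leaf (nat_lit 22528) [nat_lit 360, nat_lit 468, nat_lit 360]) (.leaf (nat_lit 21504) [nat_lit 324, nat_lit 468, nat_lit 324])) (.node (nat_lit 6) (.node (nat_lit 4) (.leaf (nat_lit 20480) [nat_lit 396, nat_lit 468, nat_lit 396]) r429) (.node (nat_lit 9) r430 r439))))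
noncomputable def r440 : WT := (.node (nat_lit 7) (.leaf (nat_lit 15360) [nat_lit 468, nat_lit 144, nat_lit 468, nat_lit 144]) (.leaf (nat_lit 63488) [nat_lit 180, nat_lit 360, nat_lit 180, nat_lit 360]))
noncomputable def r441 : WT := (.node (nat_lit 9) (.leaf (nat_lit 63490) [nat_lit 360, nat_lit 180, nat_lit 360, nat_lit 180]) (.leaf (nat_lit 33794) [nat_lit 108, nat_lit 72, nat_lit 108, nat_lit 72, nat_lit 108, nat_lit 72]))
noncomputable def r442 : WT := (.node (nat_lit 11) (.leaf (nat_lit 17408) [nat_lit 468, nat_lit 216, nat_lit 468, nat_lit 216]) (.node (nat_lit 12) (.leaf (nat_lit 12290) [nat_lit 432, nat_lit 468, nat_lit 432, nat_lit 468, nat_lit 432, nat_lit 468]) (.leaf (nat_lit 23554) [nat_lit 72, nat_lit 432, nat_lit 72, nat_lit 432, nat_lit 72, nat_lit 432])))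
noncomputable def r443 : WT := (.leaf (nat_lit 83968) [nat_lit 468, nat_lit 72, nat_lit 108, nat_lit 144, nat_lit 180, nat_lit 216, nat_lit 324, nat_lit 360, nat_lit 72, nat_lit 108, nat_lit 144, nat_lit 180, nat_lit 216, nat_lit 324, nat_lit 360, nat_lit 72, nat_lit 108, nat_lit 144, nat_lit 180, nat_lit 216, nat_lit 324, nat_lit 360, nat_lit 72, nat_lit 108, nat_lit 144, nat_lit 180, nat_lit 216, nat_lit 324, nat_lit 360, nat_lit 72, nat_lit 108, nat_lit 144, nat_lit 180, nat_lit 216, nat_lit 324, nat_lit 360, nat_lit 72, nat_lit 108, nat_lit 144, nat_lit 180, nat_lit 216, nat_lit 324, nat_lit 360, nat_lit 72, nat_lit 108, nat_lit 144, nat_lit 180, nat_lit 216, nat_lit 324, nat_lit 360, nat_lit 72, nat_lit 108, nat_lit 144, nat_lit 180, nat_lit 216, nat_lit 324, nat_lit 360, nat_lit 72, nat_lit 108, nat_lit 144, nat_lit 180, nat_lit 216, nat_lit 324, nat_lit 360])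
noncomputable def r444 : WT := (.node (nat_lit 14) (.leaf (nat_lit 78848) [nat_lit 324, nat_lit 360, nat_lit 324, nat_lit 360, nat_lit 324, nat_lit 360]) (.node (nat_lit 15) r443 (.leaf (nat_lit 53248) [nat_lit 144, nat_lit 252, nat_lit 144, nat_lit 252])))
noncomputable def r445 : WT := (.node (nat_lit 18) (.node (nat_lit 17) (.leaf (nat_lit 50178) [nat_lit 360, nat_lit 108, nat_lit 360, nat_lit 108]) (.leaf (nat_lit 18432) [nat_lit 468, nat_lit 252, nat_lit 468, nat_lit 252])) (.node (nat_lit 19) (.leaf (nat_lit 40962) [nat_lit 324, nat_lit 72, nat_lit 324, nat_lit 72]) (.leaf (nat_lit 22528) [nat_lit 468, nat_lit 360, nat_lit 468, nat_lit 360])))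
noncomputable def r446 : WT := (.node (nat_lit 23) (.node (nat_lit 21) (.leaf (nat_lit 21504) [nat_lit 468, nat_lit 324, nat_lit 468, nat_lit 324]) (.node (nat_lit 22) (.leaf (nat_lit 72704) [nat_lit 252, nat_lit 360, nat_lit 252, nat_lit 360]) (.leaf (nat_lit 14336) [nat_lit 468, nat_lit 108, nat_lit 468, nat_lit 108]))) (.node (nat_lit 24) (.leaf (nat_lit 64514) [nat_lit 252, nat_lit 216, nat_lit 252, nat_lit 216, nat_lit 252, nat_lit 216]) (.node (nat_lit 25) (.leaf (nat_lit 64512) [nat_lit 216, nat_lit 252, nat_lit 216, nat_lit 252, nat_lit 216, nat_lit 252]) (.leaf (nat_lit 62464) [nat_lit 180, nat_lit 324, nat_lit 180, nat_lit 324, nat_lit 180, nat_lit 324]))))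
noncomputable def r447 : WT := (.node (nat_lit 29) (.node (nat_lit 27) (.leaf (nat_lit 58368) [nat_lit 180, nat_lit 216, nat_lit 180, nat_lit 216, nat_lit 180, nat_lit 216]) (.node (nat_lit 28) (.leaf (nat_lit 51200) [nat_lit 144, nat_lit 180, nat_lit 144, nat_lit 180, nat_lit 144, nat_lit 180]) (.leaf (nat_lit 43010) [nat_lit 144, nat_lit 108, nat_lit 144, nat_lit 108, nat_lit 144, nat_lit 108]))) (.node (nat_lit 30) (.leaf (nat_lit 19456) [nat_lit 468, nat_lit 288, nat_lit 468, nat_lit 288]) (.node (nat_lit 31) (.leaf (nat_lit 20480) [nat_lit 468, nat_lit 396, nat_lit 468, nat_lit 396]) (.leaf (nat_lit 20482) [nat_lit 396, nat_lit 468, nat_lit 396, nat_lit 468]))))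
noncomputable def r448 : WT := (.node (nat_lit 35) (.node (nat_lit 33) (.leaf (nat_lit 77824) [nat_lit 396, nat_lit 360, nat_lit 396, nat_lit 360]) (.node (nat_lit 34) (.leaf (nat_lit 76802) [nat_lit 324, nat_lit 396, nat_lit 324, nat_lit 396]) (.leaf (nat_lit 44032) [nat_lit 108, nat_lit 180, nat_lit 108, nat_lit 180]))) (.node (nat_lit 36) (.leaf (nat_lit 68610) [nat_lit 360, nat_lit 216, nat_lit 360, nat_lit 216]) (.node (nat_lit 37) (.leaf (nat_lit 21506) [nat_lit 324, nat_lit 468, nat_lit 324, nat_lit 468]) (.leaf (nat_lit 24578) [nat_lit 108, nat_lit 432, nat_lit 108, nat_lit 432]))))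
noncomputable def r449 : WT := (.node (nat_lit 41) (.node (nat_lit 39) (.leaf (nat_lit 28674) [nat_lit 252, nat_lit 432, nat_lit 252, nat_lit 432]) (.node (nat_lit 40) (.leaf (nat_lit 60418) [nat_lit 288, nat_lit 180, nat_lit 288, nat_lit 180]) (.leaf (nat_lit 56320) [nat_lit 144, nat_lit 324, nat_lit 144, nat_lit 324]))) (.node (nat_lit 42) (.leaf (nat_lit 55298) [nat_lit 396, nat_lit 144, nat_lit 396, nat_lit 144]) (.node (nat_lit 43) (.leaf (nat_lit 41986) [nat_lit 360, nat_lit 72, nat_lit 360, nat_lit 72]) (.leaf (nat_lit 49152) [nat_lit 108, nat_lit 324, nat_lit 108, nat_lit 324]))))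
noncomputable def wP : WT := (.node (nat_lit 8) (.node (nat_lit 3) (.node (nat_lit 1) (.leaf (nat_lit 32770) [nat_lit 360, nat_lit 432, nat_lit 360, nat_lit 432]) (.node (nat_lit 2) (.leaf (nat_lit 31746) [nat_lit 324, nat_lit 432, nat_lit 324, nat_lit 432]) (.leaf (nat_lit 16384) [nat_lit 468, nat_lit 180, nat_lit 468, nat_lit 180]))) (.node (nat_lit 5) (.node (nat_lit 4) (.leaf (nat_lit 61442) [nat_lit 396, nat_lit 180, nat_lit 396, nat_lit 180]) (.leaf (nat_lit 67584) [nat_lit 216, nat_lit 324, nat_lit 216, nat_lit 324])) (.node (nat_lit 6) (.leaf (nat_lit 71680) [nat_lit 252, nat_lit 324, nat_lit 252, nat_lit 324]) r440))) (.node (nat_lit 20) (.node (nat_lit 13) (.node (nat_lit 10) r441 r442) (.node (nat_lit 16) r444 r445)) (.node (nat_lit 32) (.node (nat_lit 26) r446 r447) (.node (nat_lit 38) r448 r449))))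
noncomputable def P : Par := ⟨tb, nat_lit 504, nat_lit 0xffffffffffffffffffffffffffffffffffffffffffffffffffffffffffffffffffffffffffffffffffffffffffffffffffffffffffffffffffffffffffffff, nat_lit 307146, nat_lit 68719476735, nat_lit 524287, nat_lit 36, nat_lit 19, nat_lit 306936,
  [nat_lit 72, nat_lit 108, nat_lit 144, nat_lit 180, nat_lit 216, nat_lit 252, nat_lit 288, nat_lit 324, nat_lit 360, nat_lit 396, nat_lit 432, nat_lit 468], [nat_lit 72, nat_lit 108, nat_lit 144, nat_lit 180, nat_lit 216, nat_lit 252, nat_lit 288, nat_lit 324, nat_lit 360, nat_lit 396, nat_lit 468], wP,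
  (.cons (nat_lit 72) w0 (.cons (nat_lit 108) w1 (.cons (nat_lit 144) w2 (.cons (nat_lit 180) w3 (.cons (nat_lit 216) w4 (.cons (nat_lit 252) w5 (.cons (nat_lit 288) w6 (.cons (nat_lit 324) w7 (.cons (nat_lit 360) w8 (.cons (nat_lit 396) w9 (.cons (nat_lit 432) w10 (.cons (nat_lit 468) w11 .nil)))))))))))),
  .nil⟩

end Cfsg.Agent.Lib.TCFi24A
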