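import Cfsg.Agent.Lib.TCFi24BD0

set_option autoImplicit false
set_option maxRecDepth 100000

namespace Cfsg.Agent.Lib.TCFi24B
open Cfsg.Agent.Lib.TCCore

noncomputable def n0 : T := (.node (nat_lit 440) (.node (nat_lit 220) (.node (nat_lit 110) (.node (nat_lit 55) l0 l1) (.node (nat_lit 165) l2 l3)) (.node (nat_lit 330) (.node (nat_lit 275) l4 l5) (.node (nat_lit 385) l6 l7))) (.node (nat_lit 660) (.node (nat_lit 550) (.node (nat_lit 495) l8 l9) (.node (nat_lit 605) l10 l11)) (.node (nat_lit 770) (.node (nat_lit 715) l12 l13) (.node (nat_lit 825) l14 l15))))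
noncomputable def n1 : T := (.node (nat_lit 1320) (.node (nat_lit 1100) (.node (nat_lit 990) (.node (nat_lit 935) l16 l17) (.node (nat_lit 1045) l18 l19)) (.node (nat_lit 1210) (.node (nat_lit 1155) l20 l21) (.node (nat_lit 1265) l22 l23))) (.node (nat_lit 1540) (.node (nat_lit 1430) (.node (nat_lit 1375) l24 l25) (.node (nat_lit 1485) l26 l27)) (.node (nat_lit 1650) (.node (nat_lit 1595) l28 l29) (.node (nat_lit 1705) l30 l31))))
noncomputable def n2 : T := (.node (nat_lit 2200) (.node (nat_lit 1980) (.node (nat_lit 1870) (.node (nat_lit 1815) l32 l33) (.node (nat_lit 1925) l34 l35)) (.node (nat_lit 2090) (.node (nat_lit 2035) l36 l37) (.node (nat_lit 2145) l38 l39))) (.node (nat_lit 2420) (.node (nat_lit 2310) (.node (nat_lit 2255) l40 l41) (.node (nat_lit 2365) l42 l43)) (.node (nat_lit 2530) (.node (nat_lit 2475) l44 l45) (.node (nat_lit 2585) l46 l47))))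
noncomputable def n3 : T := (.node (nat_lit 3080) (.node (nat_lit 2860) (.node (nat_lit 2750) (.node (nat_lit 2695) l48 l49) (.node (nat_lit 2805) l50 l51)) (.node (nat_lit 2970) (.node (nat_lit 2915) l52 l53) (.node (nat_lit 3025) l54 l55))) (.node (nat_lit 3300) (.node (nat_lit 3190) (.node (nat_lit 3135) l56 l57) (.node (nat_lit 3245) l58 l59)) (.node (nat_lit 3410) (.node (nat_lit 3355) l60 l61) (.node (nat_lit 3465) l62 l63))))
noncomputable def n4 : T := (.node (nat_lit 3960) (.node (nat_lit 3740) (.node (nat_lit 3630) (.node (nat_lit 3575) l64 l65) (.node (nat_lit 3685) l66 l67)) (.node (nat_lit 3850) (.node (nat_lit 3795) l68 l69) (.node (nat_lit 3905) l70 l71))) (.node (nat_lit 4180) (.node (nat_lit 4070) (.node (nat_lit 4015) l72 l73) (.node (nat_lit 4125) l74 l75)) (.node (nat_lit 4290) (.node (nat_lit 4235) l76 l77) (.node (nat_lit 4345) l78 l79))))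
noncomputable def n5 : T := (.node (nat_lit 4840) (.node (nat_lit 4620) (.node (nat_lit 4510) (.node (nat_lit 4455) l80 l81) (.node (nat_lit 4565) l82 l83)) (.node (nat_lit 4730) (.node (nat_lit 4675) l84 l85) (.node (nat_lit 4785) l86 l87))) (.node (nat_lit 5060) (.node (nat_lit 4950) (.node (nat_lit 4895) l88 l89) (.node (nat_lit 5005) l90 l91)) (.node (nat_lit 5170) (.node (nat_lit 5115) l92 l93) (.node (nat_lit 5225) l94 l95))))
noncomputable def n6 : T := (.node (nat_lit 5720) (.node (nat_lit 5500) (.node (nat_lit 5390) (.node (nat_lit 5335) l96 l97) (.node (nat_lit 5445) l98 l99)) (.node (nat_lit 5610) (.node (nat_lit 5555) l100 l101) (.node (nat_lit 5665) l102 l103))) (.node (nat_lit 5940) (.node (nat_lit 5830) (.node (nat_lit 5775) l104 l105) (.node (nat_lit 5885) l106 l107)) (.node (nat_lit 6050) (.node (nat_lit 5995) l108 l109) (.node (nat_lit 6105) l110 l111))))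
noncomputable def n7 : T := (.node (nat_lit 6600) (.node (nat_lit 6380) (.node (nat_lit 6270) (.node (nat_lit 6215) l112 l113) (.node (nat_lit 6325) l114 l115)) (.node (nat_lit 6490) (.node (nat_lit 6435) l116 l117) (.node (nat_lit 6545) l118 l119))) (.node (nat_lit 6820) (.node (nat_lit 6710) (.node (nat_lit 6655) l120 l121) (.node (nat_lit 6765) l122 l123)) (.node (nat_lit 6930) (.node (nat_lit 6875) l124 l125) (.node (nat_lit 6985) l126 (.node (nat_lit 7040) l127 l128)))))
noncomputable def n8 : T := (.node (nat_lit 7535) (.node (nat_lit 7315) (.node (nat_lit 7205) (.node (nat_lit 7150) l129 l130) (.node (nat_lit 7260) l131 l132)) (.node (nat_lit 7425) (.node (nat_lit 7370) l133 l134) (.node (nat_lit 7480) l135 l136))) (.node (nat_lit 7755) (.node (nat_lit 7645) (.node (nat_lit 7590) l137 l138) (.node (nat_lit 7700) l139 l140)) (.node (nat_lit 7865) (.node (nat_lit 7810) l141 l142) (.node (nat_lit 7920) l143 l144))))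
noncomputable def n9 : T := (.node (nat_lit 8415) (.node (nat_lit 8195) (.node (nat_lit 8085) (.node (nat_lit 8030) l145 l146) (.node (nat_lit 8140) l147 l148)) (.node (nat_lit 8305) (.node (nat_lit 8250) l149 l150) (.node (nat_lit 8360) l151 l152))) (.node (nat_lit 8635) (.node (nat_lit 8525) (.node (nat_lit 8470) l153 l154) (.node (nat_lit 8580) l155 l156)) (.node (nat_lit 8745) (.node (nat_lit 8690) l157 l158) (.node (nat_lit 8800) l159 l160))))
noncomputable def n10 : T := (.node (nat_lit 9295) (.node (nat_lit 9075) (.node (nat_lit 8965) (.node (nat_lit 8910) l161 l162) (.node (nat_lit 9020) l163 l164)) (.node (nat_lit 9185) (.node (nat_lit 9130) l165 l166) (.node (nat_lit 9240) l167 l168))) (.node (nat_lit 9515) (.node (nat_lit 9405) (.node (nat_lit 9350) l169 l170) (.node (nat_lit 9460) l171 l172)) (.node (nat_lit 9625) (.node (nat_lit 9570) l173 l174) (.node (nat_lit 9680) l175 l176))))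
noncomputable def n11 : T := (.node (nat_lit 10175) (.node (nat_lit 9955) (.node (nat_lit 9845) (.node (nat_lit 9790) l177 l178) (.node (nat_lit 9900) l179 l180)) (.node (nat_lit 10065) (.node (nat_lit 10010) l181 l182) (.node (nat_lit 10120) l183 l184))) (.node (nat_lit 10395) (.node (nat_lit 10285) (.node (nat_lit 10230) l185 l186) (.node (nat_lit 10340) l187 l188)) (.node (nat_lit 10505) (.node (nat_lit 10450) l189 l190) (.node (nat_lit 10560) l191 l192))))
noncomputable def n12 : T := (.node (nat_lit 11055) (.node (nat_lit 10835) (.node (nat_lit 10725) (.node (nat_lit 10670) l193 l194) (.node (nat_lit 10780) l195 l196)) (.node (nat_lit 10945) (.node (nat_lit 10890) l197 l198) (.node (nat_lit 11000) l199 l200))) (.node (nat_lit 11275) (.node (nat_lit 11165) (.node (nat_lit 11110) l201 l202) (.node (nat_lit 11220) l203 l204)) (.node (nat_lit 11385) (.node (nat_lit 11330) l205 l206) (.node (nat_lit 11440) l207 l208))))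
noncomputable def n13 : T := (.node (nat_lit 11935) (.node (nat_lit 11715) (.node (nat_lit 11605) (.node (nat_lit 11550) l209 l210) (.node (nat_lit 11660) l211 l212)) (.node (nat_lit 11825) (.node (nat_lit 11770) l213 l214) (.node (nat_lit 11880) l215 l216))) (.node (nat_lit 12155) (.node (nat_lit 12045) (.node (nat_lit 11990) l217 l218) (.node (nat_lit 12100) l219 l220)) (.node (nat_lit 12265) (.node (nat_lit 12210) l221 l222) (.node (nat_lit 12320) l223 l224))))
noncomputable def n14 : T := (.node (nat_lit 12815) (.node (nat_lit 12595) (.node (nat_lit 12485) (.node (nat_lit 12430) l225 l226) (.node (nat_lit 12540) l227 l228)) (.node (nat_lit 12705) (.node (nat_lit 12650) l229 l230) (.node (nat_lit 12760) l231 l232))) (.node (nat_lit 13035) (.node (nat_lit 12925) (.node (nat_lit 12870) l233 l234) (.node (nat_lit 12980) l235 l236)) (.node (nat_lit 13145) (.node (nat_lit 13090) l237 l238) (.node (nat_lit 13200) l239 l240))))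
noncomputable def n15 : T := (.node (nat_lit 13695) (.node (nat_lit 13475) (.node (nat_lit 13365) (.node (nat_lit 13310) l241 l242) (.node (nat_lit 13420) l243 l244)) (.node (nat_lit 13585) (.node (nat_lit 13530) l245 l246) (.node (nat_lit 13640) l247 l248))) (.node (nat_lit 13915) (.node (nat_lit 13805) (.node (nat_lit 13750) l249 l250) (.node (nat_lit 13860) l251 l252)) (.node (nat_lit 14025) (.node (nat_lit 13970) l253 l254) (.node (nat_lit 14080) l255 (.node (nat_lit 14135) l256 l257)))))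
noncomputable def n16 : T := (.node (nat_lit 14630) (.node (nat_lit 14410) (.node (nat_lit 14300) (.node (nat_lit 14245) l258 l259) (.node (nat_lit 14355) l260 l261)) (.node (nat_lit 14520) (.node (nat_lit 14465) l262 l263) (.node (nat_lit 14575) l264 l265))) (.node (nat_lit 14850) (.node (nat_lit 14740) (.node (nat_lit 14685) l266 l267) (.node (nat_lit 14795) l268 l269)) (.node (nat_lit 14960) (.node (nat_lit 14905) l270 l271) (.node (nat_lit 15015) l272 l273))))
noncomputable def n17 : T := (.node (nat_lit 15510) (.node (nat_lit 15290) (.node (nat_lit 15180) (.node (nat_lit 15125) l274 l275) (.node (nat_lit 15235) l276 l277)) (.node (nat_lit 15400) (.node (nat_lit 15345) l278 l279) (.node (nat_lit 15455) l280 l281))) (.node (nat_lit 15730) (.node (nat_lit 15620) (.node (nat_lit 15565) l282 l283) (.node (nat_lit 15675) l284 l285)) (.node (nat_lit 15840) (.node (nat_lit 15785) l286 l287) (.node (nat_lit 15895) l288 l289))))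
noncomputable def n18 : T := (.node (nat_lit 16390) (.node (nat_lit 16170) (.node (nat_lit 16060) (.node (nat_lit 16005) l290 l291) (.node (nat_lit 16115) l292 l293)) (.node (nat_lit 16280) (.node (nat_lit 16225) l294 l295) (.node (nat_lit 16335) l296 l297))) (.node (nat_lit 16610) (.node (nat_lit 16500) (.node (nat_lit 16445) l298 l299) (.node (nat_lit 16555) l300 l301)) (.node (nat_lit 16720) (.node (nat_lit 16665) l302 l303) (.node (nat_lit 16775) l304 l305))))
noncomputable def n19 : T := (.node (nat_lit 17270) (.node (nat_lit 17050) (.node (nat_lit 16940) (.node (nat_lit 16885) l306 l307) (.node (nat_lit 16995) l308 l309)) (.node (nat_lit 17160) (.node (nat_lit 17105) l310 l311) (.node (nat_lit 17215) l312 l313))) (.node (nat_lit 17490) (.node (nat_lit 17380) (.node (nat_lit 17325) l314 l315) (.node (nat_lit 17435) l316 l317)) (.node (nat_lit 17600) (.node (nat_lit 17545) l318 l319) (.node (nat_lit 17655) l320 l321))))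
noncomputable def n20 : T := (.node (nat_lit 18150) (.node (nat_lit 17930) (.node (nat_lit 17820) (.node (nat_lit 17765) l322 l323) (.node (nat_lit 17875) l324 l325)) (.node (nat_lit 18040) (.node (nat_lit 17985) l326 l327) (.node (nat_lit 18095) l328 l329))) (.node (nat_lit 18370) (.node (nat_lit 18260) (.node (nat_lit 18205) l330 l331) (.node (nat_lit 18315) l332 l333)) (.node (nat_lit 18480) (.node (nat_lit 18425) l334 l335) (.node (nat_lit 18535) l336 l337))))
noncomputable def n21 : T := (.node (nat_lit 19030) (.node (nat_lit 18810) (.node (nat_lit 18700) (.node (nat_lit 18645) l338 l339) (.node (nat_lit 18755) l340 l341)) (.node (nat_lit 18920) (.node (nat_lit 18865) l342 l343) (.node (nat_lit 18975) l344 l345))) (.node (nat_lit 19250) (.node (nat_lit 19140) (.node (nat_lit 19085) l346 l347) (.node (nat_lit 19195) l348 l349)) (.node (nat_lit 19360) (.node (nat_lit 19305) l350 l351) (.node (nat_lit 19415) l352 l353))))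
noncomputable def n22 : T := (.node (nat_lit 19910) (.node (nat_lit 19690) (.node (nat_lit 19580) (.node (nat_lit 19525) l354 l355) (.node (nat_lit 19635) l356 l357)) (.node (nat_lit 19800) (.node (nat_lit 19745) l358 l359) (.node (nat_lit 19855) l360 l361))) (.node (nat_lit 20130) (.node (nat_lit 20020) (.node (nat_lit 19965) l362 l363) (.node (nat_lit 20075) l364 l365)) (.node (nat_lit 20240) (.node (nat_lit 20185) l366 l367) (.node (nat_lit 20295) l368 l369))))
noncomputable def n23 : T := (.node (nat_lit 20790) (.node (nat_lit 20570) (.node (nat_lit 20460) (.node (nat_lit 20405) l370 l371) (.node (nat_lit 20515) l372 l373)) (.node (nat_lit 20680) (.node (nat_lit 20625) l374 l375) (.node (nat_lit 20735) l376 l377))) (.node (nat_lit 21010) (.node (nat_lit 20900) (.node (nat_lit 20845) l378 l379) (.node (nat_lit 20955) l380 l381)) (.node (nat_lit 21120) (.node (nat_lit 21065) l382 l383) (.node (nat_lit 21175) l384 (.node (nat_lit 21230) l385 l386)))))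
noncomputable def n24 : T := (.node (nat_lit 21725) (.node (nat_lit 21505) (.node (nat_lit 21395) (.node (nat_lit 21340) l387 l388) (.node (nat_lit 21450) l389 l390)) (.node (nat_lit 21615) (.node (nat_lit 21560) l391 l392) (.node (nat_lit 21670) l393 l394))) (.node (nat_lit 21945) (.node (nat_lit 21835) (.node (nat_lit 21780) l395 l396) (.node (nat_lit 21890) l397 l398)) (.node (nat_lit 22055) (.node (nat_lit 22000) l399 l400) (.node (nat_lit 22110) l401 l402))))
noncomputable def n25 : T := (.node (nat_lit 22605) (.node (nat_lit 22385) (.node (nat_lit 22275) (.node (nat_lit 22220) l403 l404) (.node (nat_lit 22330) l405 l406)) (.node (nat_lit 22495) (.node (nat_lit 22440) l407 l408) (.node (nat_lit 22550) l409 l410))) (.node (nat_lit 22825) (.node (nat_lit 22715) (.node (nat_lit 22660) l411 l412) (.node (nat_lit 22770) l413 l414)) (.node (nat_lit 22935) (.node (nat_lit 22880) l415 l416) (.node (nat_lit 22990) l417 l418))))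
noncomputable def n26 : T := (.node (nat_lit 23485) (.node (nat_lit 23265) (.node (nat_lit 23155) (.node (nat_lit 23100) l419 l420) (.node (nat_lit 23210) l421 l422)) (.node (nat_lit 23375) (.node (nat_lit 23320) l423 l424) (.node (nat_lit 23430) l425 l426))) (.node (nat_lit 23705) (.node (nat_lit 23595) (.node (nat_lit 23540) l427 l428) (.node (nat_lit 23650) l429 l430)) (.node (nat_lit 23815) (.node (nat_lit 23760) l431 l432) (.node (nat_lit 23870) l433 l434))))
noncomputable def n27 : T := (.node (nat_lit 24365) (.node (nat_lit 24145) (.node (nat_lit 24035) (.node (nat_lit 23980) l435 l436) (.node (nat_lit 24090) l437 l438)) (.node (nat_lit 24255) (.node (nat_lit 24200) l439 l440) (.node (nat_lit 24310) l441 l442))) (.node (nat_lit 24585) (.node (nat_lit 24475) (.node (nat_lit 24420) l443 l444) (.node (nat_lit 24530) l445 l446)) (.node (nat_lit 24695) (.node (nat_lit 24640) l447 l448) (.node (nat_lit 24750) l449 (.node (nat_lit 24805) l450 l451)))))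
noncomputable def n28 : T := (.node (nat_lit 25300) (.node (nat_lit 25080) (.node (nat_lit 24970) (.node (nat_lit 24915) l452 l453) (.node (nat_lit 25025) l454 l455)) (.node (nat_lit 25190) (.node (nat_lit 25135) l456 l457) (.node (nat_lit 25245) l458 l459))) (.node (nat_lit 25520) (.node (nat_lit 25410) (.node (nat_lit 25355) l460 l461) (.node (nat_lit 25465) l462 l463)) (.node (nat_lit 25630) (.node (nat_lit 25575) l464 l465) (.node (nat_lit 25685) l466 l467))))
noncomputable def n29 : T := (.node (nat_lit 26180) (.node (nat_lit 25960) (.node (nat_lit 25850) (.node (nat_lit 25795) l468 l469) (.node (nat_lit 25905) l470 l471)) (.node (nat_lit 26070) (.node (nat_lit 26015) l472 l473) (.node (nat_lit 26125) l474 l475))) (.node (nat_lit 26400) (.node (nat_lit 26290) (.node (nat_lit 26235) l476 l477) (.node (nat_lit 26345) l478 l479)) (.node (nat_lit 26510) (.node (nat_lit 26455) l480 l481) (.node (nat_lit 26565) l482 l483))))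
noncomputable def n30 : T := (.node (nat_lit 27060) (.node (nat_lit 26840) (.node (nat_lit 26730) (.node (nat_lit 26675) l484 l485) (.node (nat_lit 26785) l486 l487)) (.node (nat_lit 26950) (.node (nat_lit 26895) l488 l489) (.node (nat_lit 27005) l490 l491))) (.node (nat_lit 27280) (.node (nat_lit 27170) (.node (nat_lit 27115) l492 l493) (.node (nat_lit 27225) l494 l495)) (.node (nat_lit 27390) (.node (nat_lit 27335) l496 l497) (.node (nat_lit 27445) l498 l499))))
noncomputable def n31 : T := (.node (nat_lit 27940) (.node (nat_lit 27720) (.node (nat_lit 27610) (.node (nat_lit 27555) l500 l501) (.node (nat_lit 27665) l502 l503)) (.node (nat_lit 27830) (.node (nat_lit 27775) l504 l505) (.node (nat_lit 27885) l506 l507))) (.node (nat_lit 28160) (.node (nat_lit 28050) (.node (nat_lit 27995) l508 l509) (.node (nat_lit 28105) l510 l511)) (.node (nat_lit 28270) (.node (nat_lit 28215) l512 l513) (.node (nat_lit 28325) l514 (.node (nat_lit 28380) l515 l516)))))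
noncomputable def tb : T := (.node (nat_lit 14190) (.node (nat_lit 7095) (.node (nat_lit 3520) (.node (nat_lit 1760) (.node (nat_lit 880) n0 n1) (.node (nat_lit 2640) n2 n3)) (.node (nat_lit 5280) (.node (nat_lit 4400) n4 n5) (.node (nat_lit 6160) n6 n7))) (.node (nat_lit 10615) (.node (nat_lit 8855) (.node (nat_lit 7975) n8 n9) (.node (nat_lit 9735) n10 n11)) (.node (nat_lit 12375) (.node (nat_lit 11495) n12 n13) (.node (nat_lit 13255) n14 n15)))) (.node (nat_lit 21285) (.node (nat_lit 17710) (.node (nat_lit 15950) (.node (nat_lit 15070) n16 n17) (.node (nat_lit 16830) n18 n19)) (.node (nat_lit 19470) (.node (nat_lit 18590) n20 n21) (.node (nat_lit 20350) n22 n23))) (.node (nat_lit 24860) (.node (nat_lit 23045) (.node (nat_lit 22165) n24 n25) (.node (nat_lit 23925) n26 n27)) (.node (nat_lit 26620) (.node (nat_lit 25740) n28 n29) (.node (nat_lit 27500) n30 n31)))))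
noncomputable def r0 : WT := (.node (nat_lit 6) (.leaf (nat_lit 11266) [nat_lit 319, nat_lit 58, nat_lit 319]) (.leaf (nat_lit 29696) [nat_lit 145, nat_lit 58, nat_lit 145]))
noncomputable def r1 : WT := (.leaf (nat_lit 56321) [nat_lit 87, nat_lit 116, nat_lit 145, nat_lit 174, nat_lit 203, nat_lit 232, nat_lit 58, nat_lit 87, nat_lit 116, nat_lit 145, nat_lit 174, nat_lit 203, nat_lit 232, nat_lit 58, nat_lit 87, nat_lit 116, nat_lit 145, nat_lit 174, nat_lit 203, nat_lit 232, nat_lit 58, nat_lit 87, nat_lit 116, nat_lit 145, nat_lit 174, nat_lit 203, nat_lit 232, nat_lit 58, nat_lit 87, nat_lit 116, nat_lit 145, nat_lit 174, nat_lit 203, nat_lit 232, nat_lit 58, nat_lit 87, nat_lit 116, nat_lit 145, nat_lit 174, nat_lit 203, nat_lit 232, nat_lit 58, nat_lit 87, nat_lit 116, nat_lit 145, nat_lit 174, nat_lit 203, nat_lit 232, nat_lit 58, nat_lit 87, nat_lit 116, nat_lit 145, nat_lit 174, nat_lit 203, nat_lit 232, nat_lit 58, nat_lit 87, nat_lit 116, nat_lit 145,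 nat_lit 174, nat_lit 203, nat_lit 232, nat_lit 319])
noncomputable def r2 : WT := (.leaf (nat_lit 56334) [nat_lit 232, nat_lit 203, nat_lit 174, nat_lit 145, nat_lit 116, nat_lit 87, nat_lit 58, nat_lit 232, nat_lit 203, nat_lit 174, nat_lit 145, nat_lit 116, nat_lit 87, nat_lit 58, nat_lit 232, nat_lit 203, nat_lit 174, nat_lit 145, nat_lit 116, nat_lit 87, nat_lit 58, nat_lit 232, nat_lit 203, nat_lit 174, nat_lit 145, nat_lit 116, nat_lit 87, nat_lit 58, nat_lit 232, nat_lit 203, nat_lit 174, nat_lit 145, nat_lit 116, nat_lit 87, nat_lit 58, nat_lit 232, nat_lit 203, nat_lit 174, nat_lit 145, nat_lit 116, nat_lit 87, nat_lit 58, nat_lit 232, nat_lit 203, nat_lit 174, nat_lit 145, nat_lit 116, nat_lit 87, nat_lit 58, nat_lit 232, nat_lit 203, nat_lit 174, nat_lit 145, nat_lit 116, nat_lit 87, nat_lit 58, nat_lit 319, nat_lit 232, nat_lit 203, nat_lit 174, nat_lit 145, nat_lit 116, nat_lit 87])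
noncomputable def r3 : WT := (.node (nat_lit 11) r1 r2)
noncomputable def r4 : WT := (.leaf (nat_lit 56446) [nat_lit 319, nat_lit 232, nat_lit 203, nat_lit 174, nat_lit 145, nat_lit 116, nat_lit 87, nat_lit 58, nat_lit 232, nat_lit 203, nat_lit 174, nat_lit 145, nat_lit 116, nat_lit 87, nat_lit 58, nat_lit 232, nat_lit 203, nat_lit 174, nat_lit 145, nat_lit 116, nat_lit 87, nat_lit 58, nat_lit 232, nat_lit 203, nat_lit 174, nat_lit 145, nat_lit 116, nat_lit 87, nat_lit 58, nat_lit 232, nat_lit 203, nat_lit 174, nat_lit 145, nat_lit 116, nat_lit 87, nat_lit 58, nat_lit 232, nat_lit 203, nat_lit 174, nat_lit 145, nat_lit 116, nat_lit 87, nat_lit 58, nat_lit 232, nat_lit 203, nat_lit 174, nat_lit 145, nat_lit 116, nat_lit 87, nat_lit 58, nat_lit 232, nat_lit 203, nat_lit 174, nat_lit 145, nat_lit 116, nat_lit 87, nat_lit 58, nat_lit 232, nat_lit 203, nat_lit 174, nat_lit 145, nat_lit 116, nat_lit 87])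
noncomputable def r5 : WT := (.leaf (nat_lit 56335) [nat_lit 87, nat_lit 116, nat_lit 145, nat_lit 174, nat_lit 203, nat_lit 232, nat_lit 58, nat_lit 87, nat_lit 116, nat_lit 145, nat_lit 174, nat_lit 203, nat_lit 232, nat_lit 58, nat_lit 87, nat_lit 116, nat_lit 145, nat_lit 174, nat_lit 203, nat_lit 232, nat_lit 58, nat_lit 87, nat_lit 116, nat_lit 145, nat_lit 174, nat_lit 203, nat_lit 232, nat_lit 58, nat_lit 87, nat_lit 116, nat_lit 145, nat_lit 174, nat_lit 203, nat_lit 232, nat_lit 58, nat_lit 87, nat_lit 116, nat_lit 145, nat_lit 174, nat_lit 203, nat_lit 232, nat_lit 58, nat_lit 87, nat_lit 116, nat_lit 145, nat_lit 174, nat_lit 203, nat_lit 232, nat_lit 58, nat_lit 87, nat_lit 116, nat_lit 145, nat_lit 174, nat_lit 203, nat_lit 232, nat_lit 319, nat_lit 58, nat_lit 87, nat_lit 116, nat_lit 145, nat_lit 174, nat_lit 203, nat_lit 232])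
noncomputable def r6 : WT := (.leaf (nat_lit 56404) [nat_lit 232, nat_lit 203, nat_lit 174, nat_lit 145, nat_lit 116, nat_lit 87, nat_lit 58, nat_lit 232, nat_lit 203, nat_lit 174, nat_lit 145, nat_lit 116, nat_lit 87, nat_lit 58, nat_lit 232, nat_lit 203, nat_lit 174, nat_lit 145, nat_lit 116, nat_lit 87, nat_lit 58, nat_lit 319, nat_lit 232, nat_lit 203, nat_lit 174, nat_lit 145, nat_lit 116, nat_lit 87, nat_lit 58, nat_lit 232, nat_lit 203, nat_lit 174, nat_lit 145, nat_lit 116, nat_lit 87, nat_lit 58, nat_lit 232, nat_lit 203, nat_lit 174, nat_lit 145, nat_lit 116, nat_lit 87, nat_lit 58, nat_lit 232, nat_lit 203, nat_lit 174, nat_lit 145, nat_lit 116, nat_lit 87, nat_lit 58, nat_lit 232, nat_lit 203, nat_lit 174, nat_lit 145, nat_lit 116, nat_lit 87, nat_lit 58, nat_lit 232, nat_lit 203, nat_lit 174, nat_lit 145, nat_lit 116, nat_lit 87])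
noncomputable def r7 : WT := (.leaf (nat_lit 56390) [nat_lit 232, nat_lit 203, nat_lit 174, nat_lit 145, nat_lit 116, nat_lit 87, nat_lit 58, nat_lit 232, nat_lit 203, nat_lit 174, nat_lit 145, nat_lit 116, nat_lit 87, nat_lit 58, nat_lit 232, nat_lit 203, nat_lit 174, nat_lit 145, nat_lit 116, nat_lit 87, nat_lit 58, nat_lit 232, nat_lit 203, nat_lit 174, nat_lit 145, nat_lit 116, nat_lit 87, nat_lit 58, nat_lit 319, nat_lit 232, nat_lit 203, nat_lit 174, nat_lit 145, nat_lit 116, nat_lit 87, nat_lit 58, nat_lit 232, nat_lit 203, nat_lit 174, nat_lit 145, nat_lit 116, nat_lit 87, nat_lit 58, nat_lit 232, nat_lit 203, nat_lit 174, nat_lit 145, nat_lit 116, nat_lit 87, nat_lit 58, nat_lit 232, nat_lit 203, nat_lit 174, nat_lit 145, nat_lit 116, nat_lit 87, nat_lit 58, nat_lit 232, nat_lit 203, nat_lit 174, nat_lit 145, nat_lit 116, nat_lit 87])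
noncomputable def r8 : WT := (.leaf (nat_lit 56348) [nat_lit 232, nat_lit 203, nat_lit 174, nat_lit 145, nat_lit 116, nat_lit 87, nat_lit 58, nat_lit 232, nat_lit 203, nat_lit 174, nat_lit 145, nat_lit 116, nat_lit 87, nat_lit 58, nat_lit 232, nat_lit 203, nat_lit 174, nat_lit 145, nat_lit 116, nat_lit 87, nat_lit 58, nat_lit 232, nat_lit 203, nat_lit 174, nat_lit 145, nat_lit 116, nat_lit 87, nat_lit 58, nat_lit 232, nat_lit 203, nat_lit 174, nat_lit 145, nat_lit 116, nat_lit 87, nat_lit 58, nat_lit 232, nat_lit 203, nat_lit 174, nat_lit 145, nat_lit 116, nat_lit 87, nat_lit 58, nat_lit 232, nat_lit 203, nat_lit 174, nat_lit 145, nat_lit 116, nat_lit 87, nat_lit 58, nat_lit 319, nat_lit 232, nat_lit 203, nat_lit 174, nat_lit 145, nat_lit 116, nat_lit 87, nat_lit 58, nat_lit 232, nat_lit 203, nat_lit 174, nat_lit 145, nat_lit 116, nat_lit 87])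
noncomputable def r9 : WT := (.leaf (nat_lit 56432) [nat_lit 232, nat_lit 203, nat_lit 174, nat_lit 145, nat_lit 116, nat_lit 87, nat_lit 58, nat_lit 319, nat_lit 232, nat_lit 203, nat_lit 174, nat_lit 145, nat_lit 116, nat_lit 87, nat_lit 58, nat_lit 232, nat_lit 203, nat_lit 174, nat_lit 145, nat_lit 116, nat_lit 87, nat_lit 58, nat_lit 232, nat_lit 203, nat_lit 174, nat_lit 145, nat_lit 116, nat_lit 87, nat_lit 58, nat_lit 232, nat_lit 203, nat_lit 174, nat_lit 145, nat_lit 116, nat_lit 87, nat_lit 58, nat_lit 232, nat_lit 203, nat_lit 174, nat_lit 145, nat_lit 116, nat_lit 87, nat_lit 58, nat_lit 232, nat_lit 203, nat_lit 174, nat_lit 145, nat_lit 116, nat_lit 87, nat_lit 58, nat_lit 232, nat_lit 203, nat_lit 174, nat_lit 145, nat_lit 116, nat_lit 87, nat_lit 58, nat_lit 232, nat_lit 203, nat_lit 174, nat_lit 145, nat_lit 116, nat_lit 87])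
noncomputable def r10 : WT := (.leaf (nat_lit 56362) [nat_lit 232, nat_lit 203, nat_lit 174, nat_lit 145, nat_lit 116, nat_lit 87, nat_lit 58, nat_lit 232, nat_lit 203, nat_lit 174, nat_lit 145, nat_lit 116, nat_lit 87, nat_lit 58, nat_lit 232, nat_lit 203, nat_lit 174, nat_lit 145, nat_lit 116, nat_lit 87, nat_lit 58, nat_lit 232, nat_lit 203, nat_lit 174, nat_lit 145, nat_lit 116, nat_lit 87, nat_lit 58, nat_lit 232, nat_lit 203, nat_lit 174, nat_lit 145, nat_lit 116, nat_lit 87, nat_lit 58, nat_lit 232, nat_lit 203, nat_lit 174, nat_lit 145, nat_lit 116, nat_lit 87, nat_lit 58, nat_lit 319, nat_lit 232, nat_lit 203, nat_lit 174, nat_lit 145, nat_lit 116, nat_lit 87, nat_lit 58, nat_lit 232, nat_lit 203, nat_lit 174, nat_lit 145, nat_lit 116, nat_lit 87, nat_lit 58, nat_lit 232, nat_lit 203, nat_lit 174, nat_lit 145, nat_lit 116, nat_lit 87])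
noncomputable def r11 : WT := (.leaf (nat_lit 56349) [nat_lit 87, nat_lit 116, nat_lit 145, nat_lit 174, nat_lit 203, nat_lit 232, nat_lit 58, nat_lit 87, nat_lit 116, nat_lit 145, nat_lit 174, nat_lit 203, nat_lit 232, nat_lit 58, nat_lit 87, nat_lit 116, nat_lit 145, nat_lit 174, nat_lit 203, nat_lit 232, nat_lit 58, nat_lit 87, nat_lit 116, nat_lit 145, nat_lit 174, nat_lit 203, nat_lit 232, nat_lit 58, nat_lit 87, nat_lit 116, nat_lit 145, nat_lit 174, nat_lit 203, nat_lit 232, nat_lit 58, nat_lit 87, nat_lit 116, nat_lit 145, nat_lit 174, nat_lit 203, nat_lit 232, nat_lit 58, nat_lit 87, nat_lit 116, nat_lit 145, nat_lit 174, nat_lit 203, nat_lit 232, nat_lit 319, nat_lit 58, nat_lit 87, nat_lit 116, nat_lit 145, nat_lit 174, nat_lit 203, nat_lit 232, nat_lit 58, nat_lit 87, nat_lit 116, nat_lit 145, nat_lit 174, nat_lit 203, nat_lit 232])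
noncomputable def r12 : WT := (.leaf (nat_lit 56363) [nat_lit 87, nat_lit 116, nat_lit 145, nat_lit 174, nat_lit 203, nat_lit 232, nat_lit 58, nat_lit 87, nat_lit 116, nat_lit 145, nat_lit 174, nat_lit 203, nat_lit 232, nat_lit 58, nat_lit 87, nat_lit 116, nat_lit 145, nat_lit 174, nat_lit 203, nat_lit 232, nat_lit 58, nat_lit 87, nat_lit 116, nat_lit 145, nat_lit 174, nat_lit 203, nat_lit 232, nat_lit 58, nat_lit 87, nat_lit 116, nat_lit 145, nat_lit 174, nat_lit 203, nat_lit 232, nat_lit 58, nat_lit 87, nat_lit 116, nat_lit 145, nat_lit 174, nat_lit 203, nat_lit 232, nat_lit 319, nat_lit 58, nat_lit 87, nat_lit 116, nat_lit 145, nat_lit 174, nat_lit 203, nat_lit 232, nat_lit 58, nat_lit 87, nat_lit 116, nat_lit 145, nat_lit 174, nat_lit 203, nat_lit 232, nat_lit 58, nat_lit 87, nat_lit 116, nat_lit 145, nat_lit 174, nat_lit 203, nat_lit 232])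
noncomputable def r13 : WT := (.leaf (nat_lit 56376) [nat_lit 232, nat_lit 203, nat_lit 174, nat_lit 145, nat_lit 116, nat_lit 87, nat_lit 58, nat_lit 232, nat_lit 203, nat_lit 174, nat_lit 145, nat_lit 116, nat_lit 87, nat_lit 58, nat_lit 232, nat_lit 203, nat_lit 174, nat_lit 145, nat_lit 116, nat_lit 87, nat_lit 58, nat_lit 232, nat_lit 203, nat_lit 174, nat_lit 145, nat_lit 116, nat_lit 87, nat_lit 58, nat_lit 232, nat_lit 203, nat_lit 174, nat_lit 145, nat_lit 116, nat_lit 87, nat_lit 58, nat_lit 319, nat_lit 232, nat_lit 203, nat_lit 174, nat_lit 145, nat_lit 116, nat_lit 87, nat_lit 58, nat_lit 232, nat_lit 203, nat_lit 174, nat_lit 145, nat_lit 116, nat_lit 87, nat_lit 58, nat_lit 232, nat_lit 203, nat_lit 174, nat_lit 145, nat_lit 116, nat_lit 87, nat_lit 58, nat_lit 232, nat_lit 203, nat_lit 174, nat_lit 145, nat_lit 116, nat_lit 87])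
noncomputable def r14 : WT := (.node (nat_lit 21) r12 r13)
noncomputable def r15 : WT := (.leaf (nat_lit 56391) [nat_lit 87, nat_lit 116, nat_lit 145, nat_lit 174, nat_lit 203, nat_lit 232, nat_lit 58, nat_lit 87, nat_lit 116, nat_lit 145, nat_lit 174, nat_lit 203, nat_lit 232, nat_lit 58, nat_lit 87, nat_lit 116, nat_lit 145, nat_lit 174, nat_lit 203, nat_lit 232, nat_lit 58, nat_lit 87, nat_lit 116, nat_lit 145, nat_lit 174, nat_lit 203, nat_lit 232, nat_lit 319, nat_lit 58, nat_lit 87, nat_lit 116, nat_lit 145, nat_lit 174, nat_lit 203, nat_lit 232, nat_lit 58, nat_lit 87, nat_lit 116, nat_lit 145, nat_lit 174, nat_lit 203, nat_lit 232, nat_lit 58, nat_lit 87, nat_lit 116, nat_lit 145, nat_lit 174, nat_lit 203, nat_lit 232, nat_lit 58, nat_lit 87, nat_lit 116, nat_lit 145, nat_lit 174, nat_lit 203, nat_lit 232, nat_lit 58, nat_lit 87, nat_lit 116, nat_lit 145, nat_lit 174, nat_lit 203, nat_lit 232])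
noncomputable def r16 : WT := (.leaf (nat_lit 56419) [nat_lit 87, nat_lit 116, nat_lit 145, nat_lit 174, nat_lit 203, nat_lit 232, nat_lit 58, nat_lit 87, nat_lit 116, nat_lit 145, nat_lit 174, nat_lit 203, nat_lit 232, nat_lit 319, nat_lit 58, nat_lit 87, nat_lit 116, nat_lit 145, nat_lit 174, nat_lit 203, nat_lit 232, nat_lit 58, nat_lit 87, nat_lit 116, nat_lit 145, nat_lit 174, nat_lit 203, nat_lit 232, nat_lit 58, nat_lit 87, nat_lit 116, nat_lit 145, nat_lit 174, nat_lit 203, nat_lit 232, nat_lit 58, nat_lit 87, nat_lit 116, nat_lit 145, nat_lit 174, nat_lit 203, nat_lit 232, nat_lit 58, nat_lit 87, nat_lit 116, nat_lit 145, nat_lit 174, nat_lit 203, nat_lit 232, nat_lit 58, nat_lit 87, nat_lit 116, nat_lit 145, nat_lit 174, nat_lit 203, nat_lit 232, nat_lit 58, nat_lit 87, nat_lit 116, nat_lit 145, nat_lit 174, nat_lit 203, nat_lit 232])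
noncomputable def r17 : WT := (.leaf (nat_lit 56418) [nat_lit 232, nat_lit 203, nat_lit 174, nat_lit 145, nat_lit 116, nat_lit 87, nat_lit 58, nat_lit 232, nat_lit 203, nat_lit 174, nat_lit 145, nat_lit 116, nat_lit 87, nat_lit 58, nat_lit 319, nat_lit 232, nat_lit 203, nat_lit 174, nat_lit 145, nat_lit 116, nat_lit 87, nat_lit 58, nat_lit 232, nat_lit 203, nat_lit 174, nat_lit 145, nat_lit 116, nat_lit 87, nat_lit 58, nat_lit 232, nat_lit 203, nat_lit 174, nat_lit 145, nat_lit 116, nat_lit 87, nat_lit 58, nat_lit 232, nat_lit 203, nat_lit 174, nat_lit 145, nat_lit 116, nat_lit 87, nat_lit 58, nat_lit 232, nat_lit 203, nat_lit 174, nat_lit 145, nat_lit 116, nat_lit 87, nat_lit 58, nat_lit 232, nat_lit 203, nat_lit 174, nat_lit 145, nat_lit 116, nat_lit 87, nat_lit 58, nat_lit 232, nat_lit 203, nat_lit 174, nat_lit 145, nat_lit 116, nat_lit 87])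
noncomputable def r18 : WT := (.node (nat_lit 24) r16 r17)
noncomputable def r19 : WT := (.leaf (nat_lit 56377) [nat_lit 87, nat_lit 116, nat_lit 145, nat_lit 174, nat_lit 203, nat_lit 232, nat_lit 58, nat_lit 87, nat_lit 116, nat_lit 145, nat_lit 174, nat_lit 203, nat_lit 232, nat_lit 58, nat_lit 87, nat_lit 116, nat_lit 145, nat_lit 174, nat_lit 203, nat_lit 232, nat_lit 58, nat_lit 87, nat_lit 116, nat_lit 145, nat_lit 174, nat_lit 203, nat_lit 232, nat_lit 58, nat_lit 87, nat_lit 116, nat_lit 145, nat_lit 174, nat_lit 203, nat_lit 232, nat_lit 319, nat_lit 58, nat_lit 87, nat_lit 116, nat_lit 145, nat_lit 174, nat_lit 203, nat_lit 232, nat_lit 58, nat_lit 87, nat_lit 116, nat_lit 145, nat_lit 174, nat_lit 203, nat_lit 232, nat_lit 58, nat_lit 87, nat_lit 116, nat_lit 145, nat_lit 174, nat_lit 203, nat_lit 232, nat_lit 58, nat_lit 87, nat_lit 116, nat_lit 145, nat_lit 174, nat_lit 203, nat_lit 232])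
noncomputable def r20 : WT := (.leaf (nat_lit 56405) [nat_lit 87, nat_lit 116, nat_lit 145, nat_lit 174, nat_lit 203, nat_lit 232, nat_lit 58, nat_lit 87, nat_lit 116, nat_lit 145, nat_lit 174, nat_lit 203, nat_lit 232, nat_lit 58, nat_lit 87, nat_lit 116, nat_lit 145, nat_lit 174, nat_lit 203, nat_lit 232, nat_lit 319, nat_lit 58, nat_lit 87, nat_lit 116, nat_lit 145, nat_lit 174, nat_lit 203, nat_lit 232, nat_lit 58, nat_lit 87, nat_lit 116, nat_lit 145, nat_lit 174, nat_lit 203, nat_lit 232, nat_lit 58, nat_lit 87, nat_lit 116, nat_lit 145, nat_lit 174, nat_lit 203, nat_lit 232, nat_lit 58, nat_lit 87, nat_lit 116, nat_lit 145, nat_lit 174, nat_lit 203, nat_lit 232, nat_lit 58, nat_lit 87, nat_lit 116, nat_lit 145, nat_lit 174, nat_lit 203, nat_lit 232, nat_lit 58, nat_lit 87, nat_lit 116, nat_lit 145, nat_lit 174, nat_lit 203, nat_lit 232])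
noncomputable def r21 : WT := (.leaf (nat_lit 56433) [nat_lit 87, nat_lit 116, nat_lit 145, nat_lit 174, nat_lit 203, nat_lit 232, nat_lit 319, nat_lit 58, nat_lit 87, nat_lit 116, nat_lit 145, nat_lit 174, nat_lit 203, nat_lit 232, nat_lit 58, nat_lit 87, nat_lit 116, nat_lit 145, nat_lit 174, nat_lit 203, nat_lit 232, nat_lit 58, nat_lit 87, nat_lit 116, nat_lit 145, nat_lit 174, nat_lit 203, nat_lit 232, nat_lit 58, nat_lit 87, nat_lit 116, nat_lit 145, nat_lit 174, nat_lit 203, nat_lit 232, nat_lit 58, nat_lit 87, nat_lit 116, nat_lit 145, nat_lit 174, nat_lit 203, nat_lit 232, nat_lit 58, nat_lit 87, nat_lit 116, nat_lit 145, nat_lit 174, nat_lit 203, nat_lit 232, nat_lit 58, nat_lit 87, nat_lit 116, nat_lit 145, nat_lit 174, nat_lit 203, nat_lit 232, nat_lit 58, nat_lit 87, nat_lit 116, nat_lit 145, nat_lit 174, nat_lit 203, nat_lit 232])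
noncomputable def r22 : WT := (.node (nat_lit 27) r20 r21)
noncomputable def r23 : WT := (.node (nat_lit 17) (.node (nat_lit 14) (.node (nat_lit 13) r4 r5) (.node (nat_lit 15) r6 (.node (nat_lit 16) r7 r8))) (.node (nat_lit 22) (.node (nat_lit 19) (.node (nat_lit 18) r9 r10) (.node (nat_lit 20) r11 r14)) (.node (nat_lit 25) (.node (nat_lit 23) r15 r18) (.node (nat_lit 26) r19 r22))))
noncomputable def r24 : WT := (.node (nat_lit 8) (.leaf (nat_lit 28672) [nat_lit 116, nat_lit 58, nat_lit 116]) (.node (nat_lit 9) (.leaf (nat_lit 27648) [nat_lit 87, nat_lit 58, nat_lit 87, nat_lit 58, nat_lit 87]) (.node (nat_lit 10) (.leaf (nat_lit 19458) [nat_lit 290, nat_lit 58, nat_lit 290, nat_lit 58, nat_lit 290]) (.node (nat_lit 12) r3 r23))))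
noncomputable def w0 : WT := (.node (nat_lit 1) (.leaf (nat_lit 0) [nat_lit 58]) (.node (nat_lit 3) (.node (nat_lit 2) (.leaf (nat_lit 33792) [nat_lit 261, nat_lit 58, nat_lit 261]) (.leaf (nat_lit 32768) [nat_lit 232, nat_lit 58, nat_lit 232])) (.node (nat_lit 5) (.node (nat_lit 4) (.leaf (nat_lit 31744) [nat_lit 203, nat_lit 58, nat_lit 203]) (.leaf (nat_lit 30720) [nat_lit 174, nat_lit 58, nat_lit 174])) (.node (nat_lit 7) r0 r24))))
noncomputable def r25 : WT := (.node (nat_lit 6) (.leaf (nat_lit 20482) [nat_lit 290, nat_lit 87, nat_lit 290]) (.leaf (nat_lit 35840) [nat_lit 145, nat_lit 87, nat_lit 145]))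
noncomputable def r26 : WT := (.node (nat_lit 8) (.leaf (nat_lit 12290) [nat_lit 319, nat_lit 87, nat_lit 319]) (.leaf (nat_lit 27650) [nat_lit 58, nat_lit 87, nat_lit 58, nat_lit 87, nat_lit 58]))
noncomputable def r27 : WT := (.leaf (nat_lit 56323) [nat_lit 116, nat_lit 145, nat_lit 174, nat_lit 203, nat_lit 232, nat_lit 58, nat_lit 87, nat_lit 116, nat_lit 145, nat_lit 174, nat_lit 203, nat_lit 232, nat_lit 58, nat_lit 87, nat_lit 116, nat_lit 145, nat_lit 174, nat_lit 203, nat_lit 232, nat_lit 58, nat_lit 87, nat_lit 116, nat_lit 145, nat_lit 174, nat_lit 203, nat_lit 232, nat_lit 58, nat_lit 87, nat_lit 116, nat_lit 145, nat_lit 174, nat_lit 203, nat_lit 232, nat_lit 58, nat_lit 87, nat_lit 116, nat_lit 145, nat_lit 174, nat_lit 203, nat_lit 232, nat_lit 58, nat_lit 87, nat_lit 116, nat_lit 145, nat_lit 174, nat_lit 203, nat_lit 232, nat_lit 58, nat_lit 87, nat_lit 116, nat_lit 145, nat_lit 174, nat_lit 203, nat_lit 232, nat_lit 58, nat_lit 87, nat_lit 116,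 nat_lit 145, nat_lit 174, nat_lit 203, nat_lit 232, nat_lit 319, nat_lit 58])
noncomputable def r28 : WT := (.leaf (nat_lit 56332) [nat_lit 58, nat_lit 232, nat_lit 203, nat_lit 174, nat_lit 145, nat_lit 116, nat_lit 87, nat_lit 58, nat_lit 232, nat_lit 203, nat_lit 174, nat_lit 145, nat_lit 116, nat_lit 87, nat_lit 58, nat_lit 232, nat_lit 203, nat_lit 174, nat_lit 145, nat_lit 116, nat_lit 87, nat_lit 58, nat_lit 232, nat_lit 203, nat_lit 174, nat_lit 145, nat_lit 116, nat_lit 87, nat_lit 58, nat_lit 232, nat_lit 203, nat_lit 174, nat_lit 145, nat_lit 116, nat_lit 87, nat_lit 58, nat_lit 232, nat_lit 203, nat_lit 174, nat_lit 145, nat_lit 116, nat_lit 87, nat_lit 58, nat_lit 232, nat_lit 203, nat_lit 174, nat_lit 145, nat_lit 116, nat_lit 87, nat_lit 58, nat_lit 232, nat_lit 203, nat_lit 174, nat_lit 145, nat_lit 116, nat_lit 87, nat_lit 58, nat_lit 319, nat_lit 232, nat_lit 203, nat_lit 174, nat_lit 145, nat_lit 116])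
noncomputable def r29 : WT := (.leaf (nat_lit 56337) [nat_lit 116, nat_lit 145, nat_lit 174, nat_lit 203, nat_lit 232, nat_lit 58, nat_lit 87, nat_lit 116, nat_lit 145, nat_lit 174, nat_lit 203, nat_lit 232, nat_lit 58, nat_lit 87, nat_lit 116, nat_lit 145, nat_lit 174, nat_lit 203, nat_lit 232, nat_lit 58, nat_lit 87, nat_lit 116, nat_lit 145, nat_lit 174, nat_lit 203, nat_lit 232, nat_lit 58, nat_lit 87, nat_lit 116, nat_lit 145, nat_lit 174, nat_lit 203, nat_lit 232, nat_lit 58, nat_lit 87, nat_lit 116, nat_lit 145, nat_lit 174, nat_lit 203, nat_lit 232, nat_lit 58, nat_lit 87, nat_lit 116, nat_lit 145, nat_lit 174, nat_lit 203, nat_lit 232, nat_lit 58, nat_lit 87, nat_lit 116, nat_lit 145, nat_lit 174, nat_lit 203, nat_lit 232, nat_lit 319, nat_lit 58, nat_lit 87, nat_lit 116, nat_lit 145, nat_lit 174, nat_lit 203, nat_lit 232, nat_lit 58])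
noncomputable def r30 : WT := (.leaf (nat_lit 56379) [nat_lit 116, nat_lit 145, nat_lit 174, nat_lit 203, nat_lit 232, nat_lit 58, nat_lit 87, nat_lit 116, nat_lit 145, nat_lit 174, nat_lit 203, nat_lit 232, nat_lit 58, nat_lit 87, nat_lit 116, nat_lit 145, nat_lit 174, nat_lit 203, nat_lit 232, nat_lit 58, nat_lit 87, nat_lit 116, nat_lit 145, nat_lit 174, nat_lit 203, nat_lit 232, nat_lit 58, nat_lit 87, nat_lit 116, nat_lit 145, nat_lit 174, nat_lit 203, nat_lit 232, nat_lit 319, nat_lit 58, nat_lit 87, nat_lit 116, nat_lit 145, nat_lit 174, nat_lit 203, nat_lit 232, nat_lit 58, nat_lit 87, nat_lit 116, nat_lit 145, nat_lit 174, nat_lit 203, nat_lit 232, nat_lit 58, nat_lit 87, nat_lit 116, nat_lit 145, nat_lit 174, nat_lit 203, nat_lit 232, nat_lit 58, nat_lit 87, nat_lit 116, nat_lit 145, nat_lit 174, nat_lit 203, nat_lit 232, nat_lit 58])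
noncomputable def r31 : WT := (.node (nat_lit 13) r29 r30)
noncomputable def r32 : WT := (.leaf (nat_lit 56388) [nat_lit 58, nat_lit 232, nat_lit 203, nat_lit 174, nat_lit 145, nat_lit 116, nat_lit 87, nat_lit 58, nat_lit 232, nat_lit 203, nat_lit 174, nat_lit 145, nat_lit 116, nat_lit 87, nat_lit 58, nat_lit 232, nat_lit 203, nat_lit 174, nat_lit 145, nat_lit 116, nat_lit 87, nat_lit 58, nat_lit 232, nat_lit 203, nat_lit 174, nat_lit 145, nat_lit 116, nat_lit 87, nat_lit 58, nat_lit 319, nat_lit 232, nat_lit 203, nat_lit 174, nat_lit 145, nat_lit 116, nat_lit 87, nat_lit 58, nat_lit 232, nat_lit 203, nat_lit 174, nat_lit 145, nat_lit 116, nat_lit 87, nat_lit 58, nat_lit 232, nat_lit 203, nat_lit 174, nat_lit 145, nat_lit 116, nat_lit 87, nat_lit 58, nat_lit 232, nat_lit 203, nat_lit 174, nat_lit 145, nat_lit 116, nat_lit 87, nat_lit 58, nat_lit 232, nat_lit 203, nat_lit 174, nat_lit 145, nat_lit 116])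
noncomputable def r33 : WT := (.leaf (nat_lit 56444) [nat_lit 58, nat_lit 319, nat_lit 232, nat_lit 203, nat_lit 174, nat_lit 145, nat_lit 116, nat_lit 87, nat_lit 58, nat_lit 232, nat_lit 203, nat_lit 174, nat_lit 145, nat_lit 116, nat_lit 87, nat_lit 58, nat_lit 232, nat_lit 203, nat_lit 174, nat_lit 145, nat_lit 116, nat_lit 87, nat_lit 58, nat_lit 232, nat_lit 203, nat_lit 174, nat_lit 145, nat_lit 116, nat_lit 87, nat_lit 58, nat_lit 232, nat_lit 203, nat_lit 174, nat_lit 145, nat_lit 116, nat_lit 87, nat_lit 58, nat_lit 232, nat_lit 203, nat_lit 174, nat_lit 145, nat_lit 116, nat_lit 87, nat_lit 58, nat_lit 232, nat_lit 203, nat_lit 174, nat_lit 145, nat_lit 116, nat_lit 87, nat_lit 58, nat_lit 232, nat_lit 203, nat_lit 174, nat_lit 145, nat_lit 116, nat_lit 87, nat_lit 58, nat_lit 232, nat_lit 203, nat_lit 174, nat_lit 145, nat_lit 116])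
noncomputable def r34 : WT := (.leaf (nat_lit 56374) [nat_lit 58, nat_lit 232, nat_lit 203, nat_lit 174, nat_lit 145, nat_lit 116, nat_lit 87, nat_lit 58, nat_lit 232, nat_lit 203, nat_lit 174, nat_lit 145, nat_lit 116, nat_lit 87, nat_lit 58, nat_lit 232, nat_lit 203, nat_lit 174, nat_lit 145, nat_lit 116, nat_lit 87, nat_lit 58, nat_lit 232, nat_lit 203, nat_lit 174, nat_lit 145, nat_lit 116, nat_lit 87, nat_lit 58, nat_lit 232, nat_lit 203, nat_lit 174, nat_lit 145, nat_lit 116, nat_lit 87, nat_lit 58, nat_lit 319, nat_lit 232, nat_lit 203, nat_lit 174, nat_lit 145, nat_lit 116, nat_lit 87, nat_lit 58, nat_lit 232, nat_lit 203, nat_lit 174, nat_lit 145, nat_lit 116, nat_lit 87, nat_lit 58, nat_lit 232, nat_lit 203, nat_lit 174, nat_lit 145, nat_lit 116, nat_lit 87, nat_lit 58, nat_lit 232, nat_lit 203, nat_lit 174, nat_lit 145, nat_lit 116])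
noncomputable def r35 : WT := (.node (nat_lit 15) r32 (.node (nat_lit 16) r33 r34))
noncomputable def r36 : WT := (.leaf (nat_lit 56365) [nat_lit 116, nat_lit 145, nat_lit 174, nat_lit 203, nat_lit 232, nat_lit 58, nat_lit 87, nat_lit 116, nat_lit 145, nat_lit 174, nat_lit 203, nat_lit 232, nat_lit 58, nat_lit 87, nat_lit 116, nat_lit 145, nat_lit 174, nat_lit 203, nat_lit 232, nat_lit 58, nat_lit 87, nat_lit 116, nat_lit 145, nat_lit 174, nat_lit 203, nat_lit 232, nat_lit 58, nat_lit 87, nat_lit 116, nat_lit 145, nat_lit 174, nat_lit 203, nat_lit 232, nat_lit 58, nat_lit 87, nat_lit 116, nat_lit 145, nat_lit 174, nat_lit 203, nat_lit 232, nat_lit 319, nat_lit 58, nat_lit 87, nat_lit 116, nat_lit 145, nat_lit 174, nat_lit 203, nat_lit 232, nat_lit 58, nat_lit 87, nat_lit 116, nat_lit 145, nat_lit 174, nat_lit 203, nat_lit 232, nat_lit 58, nat_lit 87, nat_lit 116, nat_lit 145, nat_lit 174, nat_lit 203, nat_lit 232, nat_lit 58])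
noncomputable def r37 : WT := (.leaf (nat_lit 56402) [nat_lit 58, nat_lit 232, nat_lit 203, nat_lit 174, nat_lit 145, nat_lit 116, nat_lit 87, nat_lit 58, nat_lit 232, nat_lit 203, nat_lit 174, nat_lit 145, nat_lit 116, nat_lit 87, nat_lit 58, nat_lit 232, nat_lit 203, nat_lit 174, nat_lit 145, nat_lit 116, nat_lit 87, nat_lit 58, nat_lit 319, nat_lit 232, nat_lit 203, nat_lit 174, nat_lit 145, nat_lit 116, nat_lit 87, nat_lit 58, nat_lit 232, nat_lit 203, nat_lit 174, nat_lit 145, nat_lit 116, nat_lit 87, nat_lit 58, nat_lit 232, nat_lit 203, nat_lit 174, nat_lit 145, nat_lit 116, nat_lit 87, nat_lit 58, nat_lit 232, nat_lit 203, nat_lit 174, nat_lit 145, nat_lit 116, nat_lit 87, nat_lit 58, nat_lit 232, nat_lit 203, nat_lit 174, nat_lit 145, nat_lit 116, nat_lit 87, nat_lit 58, nat_lit 232, nat_lit 203, nat_lit 174, nat_lit 145, nat_lit 116])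
noncomputable def r38 : WT := (.leaf (nat_lit 56407) [nat_lit 116, nat_lit 145, nat_lit 174, nat_lit 203, nat_lit 232, nat_lit 58, nat_lit 87, nat_lit 116, nat_lit 145, nat_lit 174, nat_lit 203, nat_lit 232, nat_lit 58, nat_lit 87, nat_lit 116, nat_lit 145, nat_lit 174, nat_lit 203, nat_lit 232, nat_lit 319, nat_lit 58, nat_lit 87, nat_lit 116, nat_lit 145, nat_lit 174, nat_lit 203, nat_lit 232, nat_lit 58, nat_lit 87, nat_lit 116, nat_lit 145, nat_lit 174, nat_lit 203, nat_lit 232, nat_lit 58, nat_lit 87, nat_lit 116, nat_lit 145, nat_lit 174, nat_lit 203, nat_lit 232, nat_lit 58, nat_lit 87, nat_lit 116, nat_lit 145, nat_lit 174, nat_lit 203, nat_lit 232, nat_lit 58, nat_lit 87, nat_lit 116, nat_lit 145, nat_lit 174, nat_lit 203, nat_lit 232, nat_lit 58, nat_lit 87, nat_lit 116, nat_lit 145, nat_lit 174, nat_lit 203, nat_lit 232, nat_lit 58])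
noncomputable def r39 : WT := (.leaf (nat_lit 56416) [nat_lit 58, nat_lit 232, nat_lit 203, nat_lit 174, nat_lit 145, nat_lit 116, nat_lit 87, nat_lit 58, nat_lit 232, nat_lit 203, nat_lit 174, nat_lit 145, nat_lit 116, nat_lit 87, nat_lit 58, nat_lit 319, nat_lit 232, nat_lit 203, nat_lit 174, nat_lit 145, nat_lit 116, nat_lit 87, nat_lit 58, nat_lit 232, nat_lit 203, nat_lit 174, nat_lit 145, nat_lit 116, nat_lit 87, nat_lit 58, nat_lit 232, nat_lit 203, nat_lit 174, nat_lit 145, nat_lit 116, nat_lit 87, nat_lit 58, nat_lit 232, nat_lit 203, nat_lit 174, nat_lit 145, nat_lit 116, nat_lit 87, nat_lit 58, nat_lit 232, nat_lit 203, nat_lit 174, nat_lit 145, nat_lit 116, nat_lit 87, nat_lit 58, nat_lit 232, nat_lit 203, nat_lit 174, nat_lit 145, nat_lit 116, nat_lit 87, nat_lit 58, nat_lit 232, nat_lit 203, nat_lit 174, nat_lit 145, nat_lit 116])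
noncomputable def r40 : WT := (.node (nat_lit 19) (.node (nat_lit 18) r36 r37) (.node (nat_lit 20) r38 r39))
noncomputable def r41 : WT := (.leaf (nat_lit 56430) [nat_lit 58, nat_lit 232, nat_lit 203, nat_lit 174, nat_lit 145, nat_lit 116, nat_lit 87, nat_lit 58, nat_lit 319, nat_lit 232, nat_lit 203, nat_lit 174, nat_lit 145, nat_lit 116, nat_lit 87, nat_lit 58, nat_lit 232, nat_lit 203, nat_lit 174, nat_lit 145, nat_lit 116, nat_lit 87, nat_lit 58, nat_lit 232, nat_lit 203, nat_lit 174, nat_lit 145, nat_lit 116, nat_lit 87, nat_lit 58, nat_lit 232, nat_lit 203, nat_lit 174, nat_lit 145, nat_lit 116, nat_lit 87, nat_lit 58, nat_lit 232, nat_lit 203, nat_lit 174, nat_lit 145, nat_lit 116, nat_lit 87, nat_lit 58, nat_lit 232, nat_lit 203, nat_lit 174, nat_lit 145, nat_lit 116, nat_lit 87, nat_lit 58, nat_lit 232, nat_lit 203, nat_lit 174, nat_lit 145, nat_lit 116, nat_lit 87, nat_lit 58, nat_lit 232, nat_lit 203, nat_lit 174, nat_lit 145, nat_lit 116])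
noncomputable def r42 : WT := (.leaf (nat_lit 56393) [nat_lit 116, nat_lit 145, nat_lit 174, nat_lit 203, nat_lit 232, nat_lit 58, nat_lit 87, nat_lit 116, nat_lit 145, nat_lit 174, nat_lit 203, nat_lit 232, nat_lit 58, nat_lit 87, nat_lit 116, nat_lit 145, nat_lit 174, nat_lit 203, nat_lit 232, nat_lit 58, nat_lit 87, nat_lit 116, nat_lit 145, nat_lit 174, nat_lit 203, nat_lit 232, nat_lit 319, nat_lit 58, nat_lit 87, nat_lit 116, nat_lit 145, nat_lit 174, nat_lit 203, nat_lit 232, nat_lit 58, nat_lit 87, nat_lit 116, nat_lit 145, nat_lit 174, nat_lit 203, nat_lit 232, nat_lit 58, nat_lit 87, nat_lit 116, nat_lit 145, nat_lit 174, nat_lit 203, nat_lit 232, nat_lit 58, nat_lit 87, nat_lit 116, nat_lit 145, nat_lit 174, nat_lit 203, nat_lit 232, nat_lit 58, nat_lit 87, nat_lit 116, nat_lit 145, nat_lit 174, nat_lit 203, nat_lit 232, nat_lit 58])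
noncomputable def r43 : WT := (.leaf (nat_lit 56435) [nat_lit 116, nat_lit 145, nat_lit 174, nat_lit 203, nat_lit 232, nat_lit 319, nat_lit 58, nat_lit 87, nat_lit 116, nat_lit 145, nat_lit 174, nat_lit 203, nat_lit 232, nat_lit 58, nat_lit 87, nat_lit 116, nat_lit 145, nat_lit 174, nat_lit 203, nat_lit 232, nat_lit 58, nat_lit 87, nat_lit 116, nat_lit 145, nat_lit 174, nat_lit 203, nat_lit 232, nat_lit 58, nat_lit 87, nat_lit 116, nat_lit 145, nat_lit 174, nat_lit 203, nat_lit 232, nat_lit 58, nat_lit 87, nat_lit 116, nat_lit 145, nat_lit 174, nat_lit 203, nat_lit 232, nat_lit 58, nat_lit 87, nat_lit 116, nat_lit 145, nat_lit 174, nat_lit 203, nat_lit 232, nat_lit 58, nat_lit 87, nat_lit 116, nat_lit 145, nat_lit 174, nat_lit 203, nat_lit 232, nat_lit 58, nat_lit 87, nat_lit 116, nat_lit 145, nat_lit 174, nat_lit 203, nat_lit 232, nat_lit 58])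
noncomputable def r44 : WT := (.leaf (nat_lit 56351) [nat_lit 116, nat_lit 145, nat_lit 174, nat_lit 203, nat_lit 232, nat_lit 58, nat_lit 87, nat_lit 116, nat_lit 145, nat_lit 174, nat_lit 203, nat_lit 232, nat_lit 58, nat_lit 87, nat_lit 116, nat_lit 145, nat_lit 174, nat_lit 203, nat_lit 232, nat_lit 58, nat_lit 87, nat_lit 116, nat_lit 145, nat_lit 174, nat_lit 203, nat_lit 232, nat_lit 58, nat_lit 87, nat_lit 116, nat_lit 145, nat_lit 174, nat_lit 203, nat_lit 232, nat_lit 58, nat_lit 87, nat_lit 116, nat_lit 145, nat_lit 174, nat_lit 203, nat_lit 232, nat_lit 58, nat_lit 87, nat_lit 116, nat_lit 145, nat_lit 174, nat_lit 203, nat_lit 232, nat_lit 319, nat_lit 58, nat_lit 87, nat_lit 116, nat_lit 145, nat_lit 174, nat_lit 203, nat_lit 232, nat_lit 58, nat_lit 87, nat_lit 116, nat_lit 145, nat_lit 174, nat_lit 203, nat_lit 232, nat_lit 58])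
noncomputable def r45 : WT := (.leaf (nat_lit 56421) [nat_lit 116, nat_lit 145, nat_lit 174, nat_lit 203, nat_lit 232, nat_lit 58, nat_lit 87, nat_lit 116, nat_lit 145, nat_lit 174, nat_lit 203, nat_lit 232, nat_lit 319, nat_lit 58, nat_lit 87, nat_lit 116, nat_lit 145, nat_lit 174, nat_lit 203, nat_lit 232, nat_lit 58, nat_lit 87, nat_lit 116, nat_lit 145, nat_lit 174, nat_lit 203, nat_lit 232, nat_lit 58, nat_lit 87, nat_lit 116, nat_lit 145, nat_lit 174, nat_lit 203, nat_lit 232, nat_lit 58, nat_lit 87, nat_lit 116, nat_lit 145, nat_lit 174, nat_lit 203, nat_lit 232, nat_lit 58, nat_lit 87, nat_lit 116, nat_lit 145, nat_lit 174, nat_lit 203, nat_lit 232, nat_lit 58, nat_lit 87, nat_lit 116, nat_lit 145, nat_lit 174, nat_lit 203, nat_lit 232, nat_lit 58, nat_lit 87, nat_lit 116, nat_lit 145, nat_lit 174, nat_lit 203, nat_lit 232, nat_lit 58])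
noncomputable def r46 : WT := (.leaf (nat_lit 56360) [nat_lit 58, nat_lit 232, nat_lit 203, nat_lit 174, nat_lit 145, nat_lit 116, nat_lit 87, nat_lit 58, nat_lit 232, nat_lit 203, nat_lit 174, nat_lit 145, nat_lit 116, nat_lit 87, nat_lit 58, nat_lit 232, nat_lit 203, nat_lit 174, nat_lit 145, nat_lit 116, nat_lit 87, nat_lit 58, nat_lit 232, nat_lit 203, nat_lit 174, nat_lit 145, nat_lit 116, nat_lit 87, nat_lit 58, nat_lit 232, nat_lit 203, nat_lit 174, nat_lit 145, nat_lit 116, nat_lit 87, nat_lit 58, nat_lit 232, nat_lit 203, nat_lit 174, nat_lit 145, nat_lit 116, nat_lit 87, nat_lit 58, nat_lit 319, nat_lit 232, nat_lit 203, nat_lit 174, nat_lit 145, nat_lit 116, nat_lit 87, nat_lit 58, nat_lit 232, nat_lit 203, nat_lit 174, nat_lit 145, nat_lit 116, nat_lit 87, nat_lit 58, nat_lit 232, nat_lit 203, nat_lit 174, nat_lit 145, nat_lit 116])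
noncomputable def r47 : WT := (.leaf (nat_lit 56346) [nat_lit 58, nat_lit 232, nat_lit 203, nat_lit 174, nat_lit 145, nat_lit 116, nat_lit 87, nat_lit 58, nat_lit 232, nat_lit 203, nat_lit 174, nat_lit 145, nat_lit 116, nat_lit 87, nat_lit 58, nat_lit 232, nat_lit 203, nat_lit 174, nat_lit 145, nat_lit 116, nat_lit 87, nat_lit 58, nat_lit 232, nat_lit 203, nat_lit 174, nat_lit 145, nat_lit 116, nat_lit 87, nat_lit 58, nat_lit 232, nat_lit 203, nat_lit 174, nat_lit 145, nat_lit 116, nat_lit 87, nat_lit 58, nat_lit 232, nat_lit 203, nat_lit 174, nat_lit 145, nat_lit 116, nat_lit 87, nat_lit 58, nat_lit 232, nat_lit 203, nat_lit 174, nat_lit 145, nat_lit 116, nat_lit 87, nat_lit 58, nat_lit 319, nat_lit 232, nat_lit 203, nat_lit 174, nat_lit 145, nat_lit 116, nat_lit 87, nat_lit 58, nat_lit 232, nat_lit 203, nat_lit 174, nat_lit 145, nat_lit 116])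
noncomputable def r48 : WT := (.node (nat_lit 23) (.node (nat_lit 22) r41 r42) (.node (nat_lit 25) (.node (nat_lit 24) r43 r44) (.node (nat_lit 26) r45 (.node (nat_lit 27) r46 r47))))
noncomputable def r49 : WT := (.node (nat_lit 10) (.leaf (nat_lit 34816) [nat_lit 116, nat_lit 87, nat_lit 116, nat_lit 87, nat_lit 116]) (.node (nat_lit 12) (.node (nat_lit 11) r27 r28) (.node (nat_lit 17) (.node (nat_lit 14) r31 r35) (.node (nat_lit 21) r40 r48))))
noncomputable def w1 : WT := (.node (nat_lit 1) (.leaf (nat_lit 1024) [nat_lit 87]) (.node (nat_lit 4) (.node (nat_lit 2) (.leaf (nat_lit 39936) [nat_lit 261, nat_lit 87, nat_lit 261]) (.node (nat_lit 3) (.leaf (nat_lit 38912) [nat_lit 232, nat_lit 87, nat_lit 232]) (.leaf (nat_lit 37888) [nat_lit 203, nat_lit 87, nat_lit 203]))) (.node (nat_lit 7) (.node (nat_lit 5) (.leaf (nat_lit 36864) [nat_lit 174, nat_lit 87, nat_lit 174]) r25) (.node (nat_lit 9) r26 r49))))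
noncomputable def r50 : WT := (.node (nat_lit 6) (.leaf (nat_lit 28674) [nat_lit 58, nat_lit 116, nat_lit 58]) (.leaf (nat_lit 21506) [nat_lit 290, nat_lit 116, nat_lit 290]))
noncomputable def r51 : WT := (.leaf (nat_lit 56325) [nat_lit 145, nat_lit 174, nat_lit 203, nat_lit 232, nat_lit 58, nat_lit 87, nat_lit 116, nat_lit 145, nat_lit 174, nat_lit 203, nat_lit 232, nat_lit 58, nat_lit 87, nat_lit 116, nat_lit 145, nat_lit 174, nat_lit 203, nat_lit 232, nat_lit 58, nat_lit 87, nat_lit 116, nat_lit 145, nat_lit 174, nat_lit 203, nat_lit 232, nat_lit 58, nat_lit 87, nat_lit 116, nat_lit 145, nat_lit 174, nat_lit 203, nat_lit 232, nat_lit 58, nat_lit 87, nat_lit 116, nat_lit 145, nat_lit 174, nat_lit 203, nat_lit 232, nat_lit 58, nat_lit 87, nat_lit 116, nat_lit 145, nat_lit 174, nat_lit 203, nat_lit 232, nat_lit 58, nat_lit 87, nat_lit 116, nat_lit 145, nat_lit 174, nat_lit 203, nat_lit 232, nat_lit 58, nat_lit 87, nat_lit 116, nat_lit 145, nat_lit 174, nat_lit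 203, nat_lit 232, nat_lit 319, nat_lit 58, nat_lit 87])
noncomputable def r52 : WT := (.leaf (nat_lit 56330) [nat_lit 87, nat_lit 58, nat_lit 232, nat_lit 203, nat_lit 174, nat_lit 145, nat_lit 116, nat_lit 87, nat_lit 58, nat_lit 232, nat_lit 203, nat_lit 174, nat_lit 145, nat_lit 116, nat_lit 87, nat_lit 58, nat_lit 232, nat_lit 203, nat_lit 174, nat_lit 145, nat_lit 116, nat_lit 87, nat_lit 58, nat_lit 232, nat_lit 203, nat_lit 174, nat_lit 145, nat_lit 116, nat_lit 87, nat_lit 58, nat_lit 232, nat_lit 203, nat_lit 174, nat_lit 145, nat_lit 116, nat_lit 87, nat_lit 58, nat_lit 232, nat_lit 203, nat_lit 174, nat_lit 145, nat_lit 116, nat_lit 87, nat_lit 58, nat_lit 232, nat_lit 203, nat_lit 174, nat_lit 145, nat_lit 116, nat_lit 87, nat_lit 58, nat_lit 232, nat_lit 203, nat_lit 174, nat_lit 145, nat_lit 116, nat_lit 87, nat_lit 58, nat_lit 319, nat_lit 232, nat_lit 203, nat_lit 174, nat_lit 145])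
noncomputable def r53 : WT := (.leaf (nat_lit 56386) [nat_lit 87, nat_lit 58, nat_lit 232, nat_lit 203, nat_lit 174, nat_lit 145, nat_lit 116, nat_lit 87, nat_lit 58, nat_lit 232, nat_lit 203, nat_lit 174, nat_lit 145, nat_lit 116, nat_lit 87, nat_lit 58, nat_lit 232, nat_lit 203, nat_lit 174, nat_lit 145, nat_lit 116, nat_lit 87, nat_lit 58, nat_lit 232, nat_lit 203, nat_lit 174, nat_lit 145, nat_lit 116, nat_lit 87, nat_lit 58, nat_lit 319, nat_lit 232, nat_lit 203, nat_lit 174, nat_lit 145, nat_lit 116, nat_lit 87, nat_lit 58, nat_lit 232, nat_lit 203, nat_lit 174, nat_lit 145, nat_lit 116, nat_lit 87, nat_lit 58, nat_lit 232, nat_lit 203, nat_lit 174, nat_lit 145, nat_lit 116, nat_lit 87, nat_lit 58, nat_lit 232, nat_lit 203, nat_lit 174, nat_lit 145, nat_lit 116, nat_lit 87, nat_lit 58, nat_lit 232, nat_lit 203, nat_lit 174, nat_lit 145])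
noncomputable def r54 : WT := (.leaf (nat_lit 56344) [nat_lit 87, nat_lit 58, nat_lit 232, nat_lit 203, nat_lit 174, nat_lit 145, nat_lit 116, nat_lit 87, nat_lit 58, nat_lit 232, nat_lit 203, nat_lit 174, nat_lit 145, nat_lit 116, nat_lit 87, nat_lit 58, nat_lit 232, nat_lit 203, nat_lit 174, nat_lit 145, nat_lit 116, nat_lit 87, nat_lit 58, nat_lit 232, nat_lit 203, nat_lit 174, nat_lit 145, nat_lit 116, nat_lit 87, nat_lit 58, nat_lit 232, nat_lit 203, nat_lit 174, nat_lit 145, nat_lit 116, nat_lit 87, nat_lit 58, nat_lit 232, nat_lit 203, nat_lit 174, nat_lit 145, nat_lit 116, nat_lit 87, nat_lit 58, nat_lit 232, nat_lit 203, nat_lit 174, nat_lit 145, nat_lit 116, nat_lit 87, nat_lit 58, nat_lit 319, nat_lit 232, nat_lit 203, nat_lit 174, nat_lit 145, nat_lit 116, nat_lit 87, nat_lit 58, nat_lit 232, nat_lit 203, nat_lit 174, nat_lit 145])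
noncomputable def r55 : WT := (.leaf (nat_lit 56400) [nat_lit 87, nat_lit 58, nat_lit 232, nat_lit 203, nat_lit 174, nat_lit 145, nat_lit 116, nat_lit 87, nat_lit 58, nat_lit 232, nat_lit 203, nat_lit 174, nat_lit 145, nat_lit 116, nat_lit 87, nat_lit 58, nat_lit 232, nat_lit 203, nat_lit 174, nat_lit 145, nat_lit 116, nat_lit 87, nat_lit 58, nat_lit 319, nat_lit 232, nat_lit 203, nat_lit 174, nat_lit 145, nat_lit 116, nat_lit 87, nat_lit 58, nat_lit 232, nat_lit 203, nat_lit 174, nat_lit 145, nat_lit 116, nat_lit 87, nat_lit 58, nat_lit 232, nat_lit 203, nat_lit 174, nat_lit 145, nat_lit 116, nat_lit 87, nat_lit 58, nat_lit 232, nat_lit 203, nat_lit 174, nat_lit 145, nat_lit 116, nat_lit 87, nat_lit 58, nat_lit 232, nat_lit 203, nat_lit 174, nat_lit 145, nat_lit 116, nat_lit 87, nat_lit 58, nat_lit 232, nat_lit 203, nat_lit 174, nat_lit 145])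
noncomputable def r56 : WT := (.leaf (nat_lit 56428) [nat_lit 87, nat_lit 58, nat_lit 232, nat_lit 203, nat_lit 174, nat_lit 145, nat_lit 116, nat_lit 87, nat_lit 58, nat_lit 319, nat_lit 232, nat_lit 203, nat_lit 174, nat_lit 145, nat_lit 116, nat_lit 87, nat_lit 58, nat_lit 232, nat_lit 203, nat_lit 174, nat_lit 145, nat_lit 116, nat_lit 87, nat_lit 58, nat_lit 232, nat_lit 203, nat_lit 174, nat_lit 145, nat_lit 116, nat_lit 87, nat_lit 58, nat_lit 232, nat_lit 203, nat_lit 174, nat_lit 145, nat_lit 116, nat_lit 87, nat_lit 58, nat_lit 232, nat_lit 203, nat_lit 174, nat_lit 145, nat_lit 116, nat_lit 87, nat_lit 58, nat_lit 232, nat_lit 203, nat_lit 174, nat_lit 145, nat_lit 116, nat_lit 87, nat_lit 58, nat_lit 232, nat_lit 203, nat_lit 174, nat_lit 145, nat_lit 116, nat_lit 87, nat_lit 58, nat_lit 232, nat_lit 203, nat_lit 174, nat_lit 145])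
noncomputable def r57 : WT := (.leaf (nat_lit 56353) [nat_lit 145, nat_lit 174, nat_lit 203, nat_lit 232, nat_lit 58, nat_lit 87, nat_lit 116, nat_lit 145, nat_lit 174, nat_lit 203, nat_lit 232, nat_lit 58, nat_lit 87, nat_lit 116, nat_lit 145, nat_lit 174, nat_lit 203, nat_lit 232, nat_lit 58, nat_lit 87, nat_lit 116, nat_lit 145, nat_lit 174, nat_lit 203, nat_lit 232, nat_lit 58, nat_lit 87, nat_lit 116, nat_lit 145, nat_lit 174, nat_lit 203, nat_lit 232, nat_lit 58, nat_lit 87, nat_lit 116, nat_lit 145, nat_lit 174, nat_lit 203, nat_lit 232, nat_lit 58, nat_lit 87, nat_lit 116, nat_lit 145, nat_lit 174, nat_lit 203, nat_lit 232, nat_lit 319, nat_lit 58, nat_lit 87, nat_lit 116, nat_lit 145, nat_lit 174, nat_lit 203, nat_lit 232, nat_lit 58, nat_lit 87, nat_lit 116, nat_lit 145, nat_lit 174, nat_lit 203, nat_lit 232, nat_lit 58, nat_lit 87])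
noncomputable def r58 : WT := (.node (nat_lit 14) (.node (nat_lit 13) r53 r54) (.node (nat_lit 15) r55 (.node (nat_lit 16) r56 r57)))
noncomputable def r59 : WT := (.leaf (nat_lit 56437) [nat_lit 145, nat_lit 174, nat_lit 203, nat_lit 232, nat_lit 319, nat_lit 58, nat_lit 87, nat_lit 116, nat_lit 145, nat_lit 174, nat_lit 203, nat_lit 232, nat_lit 58, nat_lit 87, nat_lit 116, nat_lit 145, nat_lit 174, nat_lit 203, nat_lit 232, nat_lit 58, nat_lit 87, nat_lit 116, nat_lit 145, nat_lit 174, nat_lit 203, nat_lit 232, nat_lit 58, nat_lit 87, nat_lit 116, nat_lit 145, nat_lit 174, nat_lit 203, nat_lit 232, nat_lit 58, nat_lit 87, nat_lit 116, nat_lit 145, nat_lit 174, nat_lit 203, nat_lit 232, nat_lit 58, nat_lit 87, nat_lit 116, nat_lit 145, nat_lit 174, nat_lit 203, nat_lit 232, nat_lit 58, nat_lit 87, nat_lit 116, nat_lit 145, nat_lit 174, nat_lit 203, nat_lit 232, nat_lit 58, nat_lit 87, nat_lit 116, nat_lit 145, nat_lit 174, nat_lit 203, nat_lit 232, nat_lit 58,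 nat_lit 87])
noncomputable def r60 : WT := (.leaf (nat_lit 56414) [nat_lit 87, nat_lit 58, nat_lit 232, nat_lit 203, nat_lit 174, nat_lit 145, nat_lit 116, nat_lit 87, nat_lit 58, nat_lit 232, nat_lit 203, nat_lit 174, nat_lit 145, nat_lit 116, nat_lit 87, nat_lit 58, nat_lit 319, nat_lit 232, nat_lit 203, nat_lit 174, nat_lit 145, nat_lit 116, nat_lit 87, nat_lit 58, nat_lit 232, nat_lit 203, nat_lit 174, nat_lit 145, nat_lit 116, nat_lit 87, nat_lit 58, nat_lit 232, nat_lit 203, nat_lit 174, nat_lit 145, nat_lit 116, nat_lit 87, nat_lit 58, nat_lit 232, nat_lit 203, nat_lit 174, nat_lit 145, nat_lit 116, nat_lit 87, nat_lit 58, nat_lit 232, nat_lit 203, nat_lit 174, nat_lit 145, nat_lit 116, nat_lit 87, nat_lit 58, nat_lit 232, nat_lit 203, nat_lit 174, nat_lit 145, nat_lit 116, nat_lit 87, nat_lit 58, nat_lit 232, nat_lit 203, nat_lit 174, nat_lit 145])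
noncomputable def r61 : WT := (.leaf (nat_lit 56409) [nat_lit 145, nat_lit 174, nat_lit 203, nat_lit 232, nat_lit 58, nat_lit 87, nat_lit 116, nat_lit 145, nat_lit 174, nat_lit 203, nat_lit 232, nat_lit 58, nat_lit 87, nat_lit 116, nat_lit 145, nat_lit 174, nat_lit 203, nat_lit 232, nat_lit 319, nat_lit 58, nat_lit 87, nat_lit 116, nat_lit 145, nat_lit 174, nat_lit 203, nat_lit 232, nat_lit 58, nat_lit 87, nat_lit 116, nat_lit 145, nat_lit 174, nat_lit 203, nat_lit 232, nat_lit 58, nat_lit 87, nat_lit 116, nat_lit 145, nat_lit 174, nat_lit 203, nat_lit 232, nat_lit 58, nat_lit 87, nat_lit 116, nat_lit 145, nat_lit 174, nat_lit 203, nat_lit 232, nat_lit 58, nat_lit 87, nat_lit 116, nat_lit 145, nat_lit 174, nat_lit 203, nat_lit 232, nat_lit 58, nat_lit 87, nat_lit 116, nat_lit 145, nat_lit 174, nat_lit 203, nat_lit 232, nat_lit 58, nat_lit 87])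
noncomputable def r62 : WT := (.leaf (nat_lit 56442) [nat_lit 87, nat_lit 58, nat_lit 319, nat_lit 232, nat_lit 203, nat_lit 174, nat_lit 145, nat_lit 116, nat_lit 87, nat_lit 58, nat_lit 232, nat_lit 203, nat_lit 174, nat_lit 145, nat_lit 116, nat_lit 87, nat_lit 58, nat_lit 232, nat_lit 203, nat_lit 174, nat_lit 145, nat_lit 116, nat_lit 87, nat_lit 58, nat_lit 232, nat_lit 203, nat_lit 174, nat_lit 145, nat_lit 116, nat_lit 87, nat_lit 58, nat_lit 232, nat_lit 203, nat_lit 174, nat_lit 145, nat_lit 116, nat_lit 87, nat_lit 58, nat_lit 232, nat_lit 203, nat_lit 174, nat_lit 145, nat_lit 116, nat_lit 87, nat_lit 58, nat_lit 232, nat_lit 203, nat_lit 174, nat_lit 145, nat_lit 116, nat_lit 87, nat_lit 58, nat_lit 232, nat_lit 203, nat_lit 174, nat_lit 145, nat_lit 116, nat_lit 87, nat_lit 58, nat_lit 232, nat_lit 203, nat_lit 174, nat_lit 145])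
noncomputable def r63 : WT := (.leaf (nat_lit 56339) [nat_lit 145, nat_lit 174, nat_lit 203, nat_lit 232, nat_lit 58, nat_lit 87, nat_lit 116, nat_lit 145, nat_lit 174, nat_lit 203, nat_lit 232, nat_lit 58, nat_lit 87, nat_lit 116, nat_lit 145, nat_lit 174, nat_lit 203, nat_lit 232, nat_lit 58, nat_lit 87, nat_lit 116, nat_lit 145, nat_lit 174, nat_lit 203, nat_lit 232, nat_lit 58, nat_lit 87, nat_lit 116, nat_lit 145, nat_lit 174, nat_lit 203, nat_lit 232, nat_lit 58, nat_lit 87, nat_lit 116, nat_lit 145, nat_lit 174, nat_lit 203, nat_lit 232, nat_lit 58, nat_lit 87, nat_lit 116, nat_lit 145, nat_lit 174, nat_lit 203, nat_lit 232, nat_lit 58, nat_lit 87, nat_lit 116, nat_lit 145, nat_lit 174, nat_lit 203, nat_lit 232, nat_lit 319, nat_lit 58, nat_lit 87, nat_lit 116, nat_lit 145, nat_lit 174, nat_lit 203, nat_lit 232, nat_lit 58, nat_lit 87])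
noncomputable def r64 : WT := (.leaf (nat_lit 56372) [nat_lit 87, nat_lit 58, nat_lit 232, nat_lit 203, nat_lit 174, nat_lit 145, nat_lit 116, nat_lit 87, nat_lit 58, nat_lit 232, nat_lit 203, nat_lit 174, nat_lit 145, nat_lit 116, nat_lit 87, nat_lit 58, nat_lit 232, nat_lit 203, nat_lit 174, nat_lit 145, nat_lit 116, nat_lit 87, nat_lit 58, nat_lit 232, nat_lit 203, nat_lit 174, nat_lit 145, nat_lit 116, nat_lit 87, nat_lit 58, nat_lit 232, nat_lit 203, nat_lit 174, nat_lit 145, nat_lit 116, nat_lit 87, nat_lit 58, nat_lit 319, nat_lit 232, nat_lit 203, nat_lit 174, nat_lit 145, nat_lit 116, nat_lit 87, nat_lit 58, nat_lit 232, nat_lit 203, nat_lit 174, nat_lit 145, nat_lit 116, nat_lit 87, nat_lit 58, nat_lit 232, nat_lit 203, nat_lit 174, nat_lit 145, nat_lit 116, nat_lit 87, nat_lit 58, nat_lit 232, nat_lit 203, nat_lit 174, nat_lit 145])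
noncomputable def r65 : WT := (.leaf (nat_lit 56367) [nat_lit 145, nat_lit 174, nat_lit 203, nat_lit 232, nat_lit 58, nat_lit 87, nat_lit 116, nat_lit 145, nat_lit 174, nat_lit 203, nat_lit 232, nat_lit 58, nat_lit 87, nat_lit 116, nat_lit 145, nat_lit 174, nat_lit 203, nat_lit 232, nat_lit 58, nat_lit 87, nat_lit 116, nat_lit 145, nat_lit 174, nat_lit 203, nat_lit 232, nat_lit 58, nat_lit 87, nat_lit 116, nat_lit 145, nat_lit 174, nat_lit 203, nat_lit 232, nat_lit 58, nat_lit 87, nat_lit 116, nat_lit 145, nat_lit 174, nat_lit 203, nat_lit 232, nat_lit 319, nat_lit 58, nat_lit 87, nat_lit 116, nat_lit 145, nat_lit 174, nat_lit 203, nat_lit 232, nat_lit 58, nat_lit 87, nat_lit 116, nat_lit 145, nat_lit 174, nat_lit 203, nat_lit 232, nat_lit 58, nat_lit 87, nat_lit 116, nat_lit 145, nat_lit 174, nat_lit 203, nat_lit 232, nat_lit 58, nat_lit 87])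
noncomputable def r66 : WT := (.leaf (nat_lit 56381) [nat_lit 145, nat_lit 174, nat_lit 203, nat_lit 232, nat_lit 58, nat_lit 87, nat_lit 116, nat_lit 145, nat_lit 174, nat_lit 203, nat_lit 232, nat_lit 58, nat_lit 87, nat_lit 116, nat_lit 145, nat_lit 174, nat_lit 203, nat_lit 232, nat_lit 58, nat_lit 87, nat_lit 116, nat_lit 145, nat_lit 174, nat_lit 203, nat_lit 232, nat_lit 58, nat_lit 87, nat_lit 116, nat_lit 145, nat_lit 174, nat_lit 203, nat_lit 232, nat_lit 319, nat_lit 58, nat_lit 87, nat_lit 116, nat_lit 145, nat_lit 174, nat_lit 203, nat_lit 232, nat_lit 58, nat_lit 87, nat_lit 116, nat_lit 145, nat_lit 174, nat_lit 203, nat_lit 232, nat_lit 58, nat_lit 87, nat_lit 116, nat_lit 145, nat_lit 174, nat_lit 203, nat_lit 232, nat_lit 58, nat_lit 87, nat_lit 116, nat_lit 145, nat_lit 174, nat_lit 203, nat_lit 232, nat_lit 58, nat_lit 87])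
noncomputable def r67 : WT := (.leaf (nat_lit 56395) [nat_lit 145, nat_lit 174, nat_lit 203, nat_lit 232, nat_lit 58, nat_lit 87, nat_lit 116, nat_lit 145, nat_lit 174, nat_lit 203, nat_lit 232, nat_lit 58, nat_lit 87, nat_lit 116, nat_lit 145, nat_lit 174, nat_lit 203, nat_lit 232, nat_lit 58, nat_lit 87, nat_lit 116, nat_lit 145, nat_lit 174, nat_lit 203, nat_lit 232, nat_lit 319, nat_lit 58, nat_lit 87, nat_lit 116, nat_lit 145, nat_lit 174, nat_lit 203, nat_lit 232, nat_lit 58, nat_lit 87, nat_lit 116, nat_lit 145, nat_lit 174, nat_lit 203, nat_lit 232, nat_lit 58, nat_lit 87, nat_lit 116, nat_lit 145, nat_lit 174, nat_lit 203, nat_lit 232, nat_lit 58, nat_lit 87, nat_lit 116, nat_lit 145, nat_lit 174, nat_lit 203, nat_lit 232, nat_lit 58, nat_lit 87, nat_lit 116, nat_lit 145, nat_lit 174, nat_lit 203, nat_lit 232, nat_lit 58, nat_lit 87])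
noncomputable def r68 : WT := (.leaf (nat_lit 56423) [nat_lit 145, nat_lit 174, nat_lit 203, nat_lit 232, nat_lit 58, nat_lit 87, nat_lit 116, nat_lit 145, nat_lit 174, nat_lit 203, nat_lit 232, nat_lit 319, nat_lit 58, nat_lit 87, nat_lit 116, nat_lit 145, nat_lit 174, nat_lit 203, nat_lit 232, nat_lit 58, nat_lit 87, nat_lit 116, nat_lit 145, nat_lit 174, nat_lit 203, nat_lit 232, nat_lit 58, nat_lit 87, nat_lit 116, nat_lit 145, nat_lit 174, nat_lit 203, nat_lit 232, nat_lit 58, nat_lit 87, nat_lit 116, nat_lit 145, nat_lit 174, nat_lit 203, nat_lit 232, nat_lit 58, nat_lit 87, nat_lit 116, nat_lit 145, nat_lit 174, nat_lit 203, nat_lit 232, nat_lit 58, nat_lit 87, nat_lit 116, nat_lit 145, nat_lit 174, nat_lit 203, nat_lit 232, nat_lit 58, nat_lit 87, nat_lit 116, nat_lit 145, nat_lit 174, nat_lit 203, nat_lit 232, nat_lit 58, nat_lit 87])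
noncomputable def r69 : WT := (.leaf (nat_lit 56358) [nat_lit 87, nat_lit 58, nat_lit 232, nat_lit 203, nat_lit 174, nat_lit 145, nat_lit 116, nat_lit 87, nat_lit 58, nat_lit 232, nat_lit 203, nat_lit 174, nat_lit 145, nat_lit 116, nat_lit 87, nat_lit 58, nat_lit 232, nat_lit 203, nat_lit 174, nat_lit 145, nat_lit 116, nat_lit 87, nat_lit 58, nat_lit 232, nat_lit 203, nat_lit 174, nat_lit 145, nat_lit 116, nat_lit 87, nat_lit 58, nat_lit 232, nat_lit 203, nat_lit 174, nat_lit 145, nat_lit 116, nat_lit 87, nat_lit 58, nat_lit 232, nat_lit 203, nat_lit 174, nat_lit 145, nat_lit 116, nat_lit 87, nat_lit 58, nat_lit 319, nat_lit 232, nat_lit 203, nat_lit 174, nat_lit 145, nat_lit 116, nat_lit 87, nat_lit 58, nat_lit 232, nat_lit 203, nat_lit 174, nat_lit 145, nat_lit 116, nat_lit 87, nat_lit 58, nat_lit 232, nat_lit 203, nat_lit 174, nat_lit 145])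
noncomputable def r70 : WT := (.node (nat_lit 27) r68 r69)
noncomputable def r71 : WT := (.node (nat_lit 21) (.node (nat_lit 19) (.node (nat_lit 18) r59 r60) (.node (nat_lit 20) r61 r62)) (.node (nat_lit 24) (.node (nat_lit 22) r63 (.node (nat_lit 23) r64 r65)) (.node (nat_lit 25) r66 (.node (nat_lit 26) r67 r70))))
noncomputable def r72 : WT := (.node (nat_lit 9) (.node (nat_lit 8) (.leaf (nat_lit 13314) [nat_lit 319, nat_lit 116, nat_lit 319]) (.leaf (nat_lit 34818) [nat_lit 87, nat_lit 116, nat_lit 87, nat_lit 116, nat_lit 87])) (.node (nat_lit 10) (.leaf (nat_lit 40960) [nat_lit 145, nat_lit 116, nat_lit 145, nat_lit 116, nat_lit 145]) (.node (nat_lit 12) (.node (nat_lit 11) r51 r52) (.node (nat_lit 17) r58 r71))))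
noncomputable def w2 : WT := (.node (nat_lit 1) (.leaf (nat_lit 2048) [nat_lit 116]) (.node (nat_lit 3) (.node (nat_lit 2) (.leaf (nat_lit 45056) [nat_lit 261, nat_lit 116, nat_lit 261]) (.leaf (nat_lit 44032) [nat_lit 232, nat_lit 116, nat_lit 232])) (.node (nat_lit 5) (.node (nat_lit 4) (.leaf (nat_lit 43008) [nat_lit 203, nat_lit 116, nat_lit 203]) (.leaf (nat_lit 41984) [nat_lit 174, nat_lit 116, nat_lit 174])) (.node (nat_lit 7) r50 r72))))
noncomputable def r73 : WT := (.node (nat_lit 6) (.leaf (nat_lit 48128) [nat_lit 232, nat_lit 145, nat_lit 232, nat_lit 145, nat_lit 232]) (.leaf (nat_lit 14338) [nat_lit 319, nat_lit 145, nat_lit 319]))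
noncomputable def r74 : WT := (.node (nat_lit 8) (.leaf (nat_lit 46080) [nat_lit 174, nat_lit 145, nat_lit 174, nat_lit 145, nat_lit 174]) (.leaf (nat_lit 22530) [nat_lit 290, nat_lit 145, nat_lit 290]))
noncomputable def r75 : WT := (.leaf (nat_lit 56328) [nat_lit 116, nat_lit 87, nat_lit 58, nat_lit 232, nat_lit 203, nat_lit 174, nat_lit 145, nat_lit 116, nat_lit 87, nat_lit 58, nat_lit 232, nat_lit 203, nat_lit 174, nat_lit 145, nat_lit 116, nat_lit 87, nat_lit 58, nat_lit 232, nat_lit 203, nat_lit 174, nat_lit 145, nat_lit 116, nat_lit 87, nat_lit 58, nat_lit 232, nat_lit 203, nat_lit 174, nat_lit 145, nat_lit 116, nat_lit 87, nat_lit 58, nat_lit 232, nat_lit 203, nat_lit 174, nat_lit 145, nat_lit 116, nat_lit 87, nat_lit 58, nat_lit 232, nat_lit 203, nat_lit 174, nat_lit 145, nat_lit 116, nat_lit 87, nat_lit 58, nat_lit 232, nat_lit 203, nat_lit 174, nat_lit 145, nat_lit 116, nat_lit 87, nat_lit 58, nat_lit 232, nat_lit 203, nat_lit 174, nat_lit 145, nat_lit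 116, nat_lit 87, nat_lit 58, nat_lit 319, nat_lit 232, nat_lit 203, nat_lit 174])
noncomputable def r76 : WT := (.leaf (nat_lit 56327) [nat_lit 174, nat_lit 203, nat_lit 232, nat_lit 58, nat_lit 87, nat_lit 116, nat_lit 145, nat_lit 174, nat_lit 203, nat_lit 232, nat_lit 58, nat_lit 87, nat_lit 116, nat_lit 145, nat_lit 174, nat_lit 203, nat_lit 232, nat_lit 58, nat_lit 87, nat_lit 116, nat_lit 145, nat_lit 174, nat_lit 203, nat_lit 232, nat_lit 58, nat_lit 87, nat_lit 116, nat_lit 145, nat_lit 174, nat_lit 203, nat_lit 232, nat_lit 58, nat_lit 87, nat_lit 116, nat_lit 145, nat_lit 174, nat_lit 203, nat_lit 232, nat_lit 58, nat_lit 87, nat_lit 116, nat_lit 145, nat_lit 174, nat_lit 203, nat_lit 232, nat_lit 58, nat_lit 87, nat_lit 116, nat_lit 145, nat_lit 174, nat_lit 203, nat_lit 232, nat_lit 58, nat_lit 87, nat_lit 116, nat_lit 145, nat_lit 174, nat_lit 203, nat_lit 232, nat_lit 319, nat_lit 58, nat_lit 87, nat_lit 116])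
noncomputable def r77 : WT := (.leaf (nat_lit 56439) [nat_lit 174, nat_lit 203, nat_lit 232, nat_lit 319, nat_lit 58, nat_lit 87, nat_lit 116, nat_lit 145, nat_lit 174, nat_lit 203, nat_lit 232, nat_lit 58, nat_lit 87, nat_lit 116, nat_lit 145, nat_lit 174, nat_lit 203, nat_lit 232, nat_lit 58, nat_lit 87, nat_lit 116, nat_lit 145, nat_lit 174, nat_lit 203, nat_lit 232, nat_lit 58, nat_lit 87, nat_lit 116, nat_lit 145, nat_lit 174, nat_lit 203, nat_lit 232, nat_lit 58, nat_lit 87, nat_lit 116, nat_lit 145, nat_lit 174, nat_lit 203, nat_lit 232, nat_lit 58, nat_lit 87, nat_lit 116, nat_lit 145, nat_lit 174, nat_lit 203, nat_lit 232, nat_lit 58, nat_lit 87, nat_lit 116, nat_lit 145, nat_lit 174, nat_lit 203, nat_lit 232, nat_lit 58, nat_lit 87, nat_lit 116, nat_lit 145, nat_lit 174, nat_lit 203, nat_lit 232, nat_lit 58, nat_lit 87, nat_lit 116])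
noncomputable def r78 : WT := (.leaf (nat_lit 56425) [nat_lit 174, nat_lit 203, nat_lit 232, nat_lit 58, nat_lit 87, nat_lit 116, nat_lit 145, nat_lit 174, nat_lit 203, nat_lit 232, nat_lit 319, nat_lit 58, nat_lit 87, nat_lit 116, nat_lit 145, nat_lit 174, nat_lit 203, nat_lit 232, nat_lit 58, nat_lit 87, nat_lit 116, nat_lit 145, nat_lit 174, nat_lit 203, nat_lit 232, nat_lit 58, nat_lit 87, nat_lit 116, nat_lit 145, nat_lit 174, nat_lit 203, nat_lit 232, nat_lit 58, nat_lit 87, nat_lit 116, nat_lit 145, nat_lit 174, nat_lit 203, nat_lit 232, nat_lit 58, nat_lit 87, nat_lit 116, nat_lit 145, nat_lit 174, nat_lit 203, nat_lit 232, nat_lit 58, nat_lit 87, nat_lit 116, nat_lit 145, nat_lit 174, nat_lit 203, nat_lit 232, nat_lit 58, nat_lit 87, nat_lit 116, nat_lit 145, nat_lit 174, nat_lit 203, nat_lit 232, nat_lit 58, nat_lit 87, nat_lit 116])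
noncomputable def r79 : WT := (.leaf (nat_lit 56440) [nat_lit 116, nat_lit 87, nat_lit 58, nat_lit 319, nat_lit 232, nat_lit 203, nat_lit 174, nat_lit 145, nat_lit 116, nat_lit 87, nat_lit 58, nat_lit 232, nat_lit 203, nat_lit 174, nat_lit 145, nat_lit 116, nat_lit 87, nat_lit 58, nat_lit 232, nat_lit 203, nat_lit 174, nat_lit 145, nat_lit 116, nat_lit 87, nat_lit 58, nat_lit 232, nat_lit 203, nat_lit 174, nat_lit 145, nat_lit 116, nat_lit 87, nat_lit 58, nat_lit 232, nat_lit 203, nat_lit 174, nat_lit 145, nat_lit 116, nat_lit 87, nat_lit 58, nat_lit 232, nat_lit 203, nat_lit 174, nat_lit 145, nat_lit 116, nat_lit 87, nat_lit 58, nat_lit 232, nat_lit 203, nat_lit 174, nat_lit 145, nat_lit 116, nat_lit 87, nat_lit 58, nat_lit 232, nat_lit 203, nat_lit 174, nat_lit 145, nat_lit 116, nat_lit 87, nat_lit 58, nat_lit 232, nat_lit 203, nat_lit 174])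
noncomputable def r80 : WT := (.leaf (nat_lit 56411) [nat_lit 174, nat_lit 203, nat_lit 232, nat_lit 58, nat_lit 87, nat_lit 116, nat_lit 145, nat_lit 174, nat_lit 203, nat_lit 232, nat_lit 58, nat_lit 87, nat_lit 116, nat_lit 145, nat_lit 174, nat_lit 203, nat_lit 232, nat_lit 319, nat_lit 58, nat_lit 87, nat_lit 116, nat_lit 145, nat_lit 174, nat_lit 203, nat_lit 232, nat_lit 58, nat_lit 87, nat_lit 116, nat_lit 145, nat_lit 174, nat_lit 203, nat_lit 232, nat_lit 58, nat_lit 87, nat_lit 116, nat_lit 145, nat_lit 174, nat_lit 203, nat_lit 232, nat_lit 58, nat_lit 87, nat_lit 116, nat_lit 145, nat_lit 174, nat_lit 203, nat_lit 232, nat_lit 58, nat_lit 87, nat_lit 116, nat_lit 145, nat_lit 174, nat_lit 203, nat_lit 232, nat_lit 58, nat_lit 87, nat_lit 116, nat_lit 145, nat_lit 174, nat_lit 203, nat_lit 232, nat_lit 58, nat_lit 87, nat_lit 116])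
noncomputable def r81 : WT := (.leaf (nat_lit 56384) [nat_lit 116, nat_lit 87, nat_lit 58, nat_lit 232, nat_lit 203, nat_lit 174, nat_lit 145, nat_lit 116, nat_lit 87, nat_lit 58, nat_lit 232, nat_lit 203, nat_lit 174, nat_lit 145, nat_lit 116, nat_lit 87, nat_lit 58, nat_lit 232, nat_lit 203, nat_lit 174, nat_lit 145, nat_lit 116, nat_lit 87, nat_lit 58, nat_lit 232, nat_lit 203, nat_lit 174, nat_lit 145, nat_lit 116, nat_lit 87, nat_lit 58, nat_lit 319, nat_lit 232, nat_lit 203, nat_lit 174, nat_lit 145, nat_lit 116, nat_lit 87, nat_lit 58, nat_lit 232, nat_lit 203, nat_lit 174, nat_lit 145, nat_lit 116, nat_lit 87, nat_lit 58, nat_lit 232, nat_lit 203, nat_lit 174, nat_lit 145, nat_lit 116, nat_lit 87, nat_lit 58, nat_lit 232, nat_lit 203, nat_lit 174, nat_lit 145, nat_lit 116, nat_lit 87, nat_lit 58, nat_lit 232, nat_lit 203, nat_lit 174])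
noncomputable def r82 : WT := (.leaf (nat_lit 56397) [nat_lit 174, nat_lit 203, nat_lit 232, nat_lit 58, nat_lit 87, nat_lit 116, nat_lit 145, nat_lit 174, nat_lit 203, nat_lit 232, nat_lit 58, nat_lit 87, nat_lit 116, nat_lit 145, nat_lit 174, nat_lit 203, nat_lit 232, nat_lit 58, nat_lit 87, nat_lit 116, nat_lit 145, nat_lit 174, nat_lit 203, nat_lit 232, nat_lit 319, nat_lit 58, nat_lit 87, nat_lit 116, nat_lit 145, nat_lit 174, nat_lit 203, nat_lit 232, nat_lit 58, nat_lit 87, nat_lit 116, nat_lit 145, nat_lit 174, nat_lit 203, nat_lit 232, nat_lit 58, nat_lit 87, nat_lit 116, nat_lit 145, nat_lit 174, nat_lit 203, nat_lit 232, nat_lit 58, nat_lit 87, nat_lit 116, nat_lit 145, nat_lit 174, nat_lit 203, nat_lit 232, nat_lit 58, nat_lit 87, nat_lit 116, nat_lit 145, nat_lit 174, nat_lit 203, nat_lit 232, nat_lit 58, nat_lit 87, nat_lit 116])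
noncomputable def r83 : WT := (.node (nat_lit 15) (.node (nat_lit 14) r78 r79) (.node (nat_lit 16) r80 (.node (nat_lit 17) r81 r82)))
noncomputable def r84 : WT := (.leaf (nat_lit 56341) [nat_lit 174, nat_lit 203, nat_lit 232, nat_lit 58, nat_lit 87, nat_lit 116, nat_lit 145, nat_lit 174, nat_lit 203, nat_lit 232, nat_lit 58, nat_lit 87, nat_lit 116, nat_lit 145, nat_lit 174, nat_lit 203, nat_lit 232, nat_lit 58, nat_lit 87, nat_lit 116, nat_lit 145, nat_lit 174, nat_lit 203, nat_lit 232, nat_lit 58, nat_lit 87, nat_lit 116, nat_lit 145, nat_lit 174, nat_lit 203, nat_lit 232, nat_lit 58, nat_lit 87, nat_lit 116, nat_lit 145, nat_lit 174, nat_lit 203, nat_lit 232, nat_lit 58, nat_lit 87, nat_lit 116, nat_lit 145, nat_lit 174, nat_lit 203, nat_lit 232, nat_lit 58, nat_lit 87, nat_lit 116, nat_lit 145, nat_lit 174, nat_lit 203, nat_lit 232, nat_lit 319, nat_lit 58, nat_lit 87, nat_lit 116, nat_lit 145, nat_lit 174, nat_lit 203, nat_lit 232, nat_lit 58, nat_lit 87,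 nat_lit 116])
noncomputable def r85 : WT := (.leaf (nat_lit 56370) [nat_lit 116, nat_lit 87, nat_lit 58, nat_lit 232, nat_lit 203, nat_lit 174, nat_lit 145, nat_lit 116, nat_lit 87, nat_lit 58, nat_lit 232, nat_lit 203, nat_lit 174, nat_lit 145, nat_lit 116, nat_lit 87, nat_lit 58, nat_lit 232, nat_lit 203, nat_lit 174, nat_lit 145, nat_lit 116, nat_lit 87, nat_lit 58, nat_lit 232, nat_lit 203, nat_lit 174, nat_lit 145, nat_lit 116, nat_lit 87, nat_lit 58, nat_lit 232, nat_lit 203, nat_lit 174, nat_lit 145, nat_lit 116, nat_lit 87, nat_lit 58, nat_lit 319, nat_lit 232, nat_lit 203, nat_lit 174, nat_lit 145, nat_lit 116, nat_lit 87, nat_lit 58, nat_lit 232, nat_lit 203, nat_lit 174, nat_lit 145, nat_lit 116, nat_lit 87, nat_lit 58, nat_lit 232, nat_lit 203, nat_lit 174, nat_lit 145, nat_lit 116, nat_lit 87, nat_lit 58, nat_lit 232, nat_lit 203, nat_lit 174])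
noncomputable def r86 : WT := (.leaf (nat_lit 56398) [nat_lit 116, nat_lit 87, nat_lit 58, nat_lit 232, nat_lit 203, nat_lit 174, nat_lit 145, nat_lit 116, nat_lit 87, nat_lit 58, nat_lit 232, nat_lit 203, nat_lit 174, nat_lit 145, nat_lit 116, nat_lit 87, nat_lit 58, nat_lit 232, nat_lit 203, nat_lit 174, nat_lit 145, nat_lit 116, nat_lit 87, nat_lit 58, nat_lit 319, nat_lit 232, nat_lit 203, nat_lit 174, nat_lit 145, nat_lit 116, nat_lit 87, nat_lit 58, nat_lit 232, nat_lit 203, nat_lit 174, nat_lit 145, nat_lit 116, nat_lit 87, nat_lit 58, nat_lit 232, nat_lit 203, nat_lit 174, nat_lit 145, nat_lit 116, nat_lit 87, nat_lit 58, nat_lit 232, nat_lit 203, nat_lit 174, nat_lit 145, nat_lit 116, nat_lit 87, nat_lit 58, nat_lit 232, nat_lit 203, nat_lit 174, nat_lit 145, nat_lit 116, nat_lit 87, nat_lit 58, nat_lit 232, nat_lit 203, nat_lit 174])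
noncomputable def r87 : WT := (.leaf (nat_lit 56412) [nat_lit 116, nat_lit 87, nat_lit 58, nat_lit 232, nat_lit 203, nat_lit 174, nat_lit 145, nat_lit 116, nat_lit 87, nat_lit 58, nat_lit 232, nat_lit 203, nat_lit 174, nat_lit 145, nat_lit 116, nat_lit 87, nat_lit 58, nat_lit 319, nat_lit 232, nat_lit 203, nat_lit 174, nat_lit 145, nat_lit 116, nat_lit 87, nat_lit 58, nat_lit 232, nat_lit 203, nat_lit 174, nat_lit 145, nat_lit 116, nat_lit 87, nat_lit 58, nat_lit 232, nat_lit 203, nat_lit 174, nat_lit 145, nat_lit 116, nat_lit 87, nat_lit 58, nat_lit 232, nat_lit 203, nat_lit 174, nat_lit 145, nat_lit 116, nat_lit 87, nat_lit 58, nat_lit 232, nat_lit 203, nat_lit 174, nat_lit 145, nat_lit 116, nat_lit 87, nat_lit 58, nat_lit 232, nat_lit 203, nat_lit 174, nat_lit 145, nat_lit 116, nat_lit 87, nat_lit 58, nat_lit 232, nat_lit 203, nat_lit 174])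
noncomputable def r88 : WT := (.leaf (nat_lit 56383) [nat_lit 174, nat_lit 203, nat_lit 232, nat_lit 58, nat_lit 87, nat_lit 116, nat_lit 145, nat_lit 174, nat_lit 203, nat_lit 232, nat_lit 58, nat_lit 87, nat_lit 116, nat_lit 145, nat_lit 174, nat_lit 203, nat_lit 232, nat_lit 58, nat_lit 87, nat_lit 116, nat_lit 145, nat_lit 174, nat_lit 203, nat_lit 232, nat_lit 58, nat_lit 87, nat_lit 116, nat_lit 145, nat_lit 174, nat_lit 203, nat_lit 232, nat_lit 319, nat_lit 58, nat_lit 87, nat_lit 116, nat_lit 145, nat_lit 174, nat_lit 203, nat_lit 232, nat_lit 58, nat_lit 87, nat_lit 116, nat_lit 145, nat_lit 174, nat_lit 203, nat_lit 232, nat_lit 58, nat_lit 87, nat_lit 116, nat_lit 145, nat_lit 174, nat_lit 203, nat_lit 232, nat_lit 58, nat_lit 87, nat_lit 116, nat_lit 145, nat_lit 174, nat_lit 203, nat_lit 232, nat_lit 58, nat_lit 87, nat_lit 116])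
noncomputable def r89 : WT := (.leaf (nat_lit 56342) [nat_lit 116, nat_lit 87, nat_lit 58, nat_lit 232, nat_lit 203, nat_lit 174, nat_lit 145, nat_lit 116, nat_lit 87, nat_lit 58, nat_lit 232, nat_lit 203, nat_lit 174, nat_lit 145, nat_lit 116, nat_lit 87, nat_lit 58, nat_lit 232, nat_lit 203, nat_lit 174, nat_lit 145, nat_lit 116, nat_lit 87, nat_lit 58, nat_lit 232, nat_lit 203, nat_lit 174, nat_lit 145, nat_lit 116, nat_lit 87, nat_lit 58, nat_lit 232, nat_lit 203, nat_lit 174, nat_lit 145, nat_lit 116, nat_lit 87, nat_lit 58, nat_lit 232, nat_lit 203, nat_lit 174, nat_lit 145, nat_lit 116, nat_lit 87, nat_lit 58, nat_lit 232, nat_lit 203, nat_lit 174, nat_lit 145, nat_lit 116, nat_lit 87, nat_lit 58, nat_lit 319, nat_lit 232, nat_lit 203, nat_lit 174, nat_lit 145, nat_lit 116, nat_lit 87, nat_lit 58, nat_lit 232, nat_lit 203, nat_lit 174])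
noncomputable def r90 : WT := (.leaf (nat_lit 56426) [nat_lit 116, nat_lit 87, nat_lit 58, nat_lit 232, nat_lit 203, nat_lit 174, nat_lit 145, nat_lit 116, nat_lit 87, nat_lit 58, nat_lit 319, nat_lit 232, nat_lit 203, nat_lit 174, nat_lit 145, nat_lit 116, nat_lit 87, nat_lit 58, nat_lit 232, nat_lit 203, nat_lit 174, nat_lit 145, nat_lit 116, nat_lit 87, nat_lit 58, nat_lit 232, nat_lit 203, nat_lit 174, nat_lit 145, nat_lit 116, nat_lit 87, nat_lit 58, nat_lit 232, nat_lit 203, nat_lit 174, nat_lit 145, nat_lit 116, nat_lit 87, nat_lit 58, nat_lit 232, nat_lit 203, nat_lit 174, nat_lit 145, nat_lit 116, nat_lit 87, nat_lit 58, nat_lit 232, nat_lit 203, nat_lit 174, nat_lit 145, nat_lit 116, nat_lit 87, nat_lit 58, nat_lit 232, nat_lit 203, nat_lit 174, nat_lit 145, nat_lit 116, nat_lit 87, nat_lit 58, nat_lit 232, nat_lit 203, nat_lit 174])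
noncomputable def r91 : WT := (.leaf (nat_lit 56369) [nat_lit 174, nat_lit 203, nat_lit 232, nat_lit 58, nat_lit 87, nat_lit 116, nat_lit 145, nat_lit 174, nat_lit 203, nat_lit 232, nat_lit 58, nat_lit 87, nat_lit 116, nat_lit 145, nat_lit 174, nat_lit 203, nat_lit 232, nat_lit 58, nat_lit 87, nat_lit 116, nat_lit 145, nat_lit 174, nat_lit 203, nat_lit 232, nat_lit 58, nat_lit 87, nat_lit 116, nat_lit 145, nat_lit 174, nat_lit 203, nat_lit 232, nat_lit 58, nat_lit 87, nat_lit 116, nat_lit 145, nat_lit 174, nat_lit 203, nat_lit 232, nat_lit 319, nat_lit 58, nat_lit 87, nat_lit 116, nat_lit 145, nat_lit 174, nat_lit 203, nat_lit 232, nat_lit 58, nat_lit 87, nat_lit 116, nat_lit 145, nat_lit 174, nat_lit 203, nat_lit 232, nat_lit 58, nat_lit 87, nat_lit 116, nat_lit 145, nat_lit 174, nat_lit 203, nat_lit 232, nat_lit 58, nat_lit 87, nat_lit 116])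
noncomputable def r92 : WT := (.leaf (nat_lit 56355) [nat_lit 174, nat_lit 203, nat_lit 232, nat_lit 58, nat_lit 87, nat_lit 116, nat_lit 145, nat_lit 174, nat_lit 203, nat_lit 232, nat_lit 58, nat_lit 87, nat_lit 116, nat_lit 145, nat_lit 174, nat_lit 203, nat_lit 232, nat_lit 58, nat_lit 87, nat_lit 116, nat_lit 145, nat_lit 174, nat_lit 203, nat_lit 232, nat_lit 58, nat_lit 87, nat_lit 116, nat_lit 145, nat_lit 174, nat_lit 203, nat_lit 232, nat_lit 58, nat_lit 87, nat_lit 116, nat_lit 145, nat_lit 174, nat_lit 203, nat_lit 232, nat_lit 58, nat_lit 87, nat_lit 116, nat_lit 145, nat_lit 174, nat_lit 203, nat_lit 232, nat_lit 319, nat_lit 58, nat_lit 87, nat_lit 116, nat_lit 145, nat_lit 174, nat_lit 203, nat_lit 232, nat_lit 58, nat_lit 87, nat_lit 116, nat_lit 145, nat_lit 174, nat_lit 203, nat_lit 232, nat_lit 58, nat_lit 87, nat_lit 116])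
noncomputable def r93 : WT := (.leaf (nat_lit 56356) [nat_lit 116, nat_lit 87, nat_lit 58, nat_lit 232, nat_lit 203, nat_lit 174, nat_lit 145, nat_lit 116, nat_lit 87, nat_lit 58, nat_lit 232, nat_lit 203, nat_lit 174, nat_lit 145, nat_lit 116, nat_lit 87, nat_lit 58, nat_lit 232, nat_lit 203, nat_lit 174, nat_lit 145, nat_lit 116, nat_lit 87, nat_lit 58, nat_lit 232, nat_lit 203, nat_lit 174, nat_lit 145, nat_lit 116, nat_lit 87, nat_lit 58, nat_lit 232, nat_lit 203, nat_lit 174, nat_lit 145, nat_lit 116, nat_lit 87, nat_lit 58, nat_lit 232, nat_lit 203, nat_lit 174, nat_lit 145, nat_lit 116, nat_lit 87, nat_lit 58, nat_lit 319, nat_lit 232, nat_lit 203, nat_lit 174, nat_lit 145, nat_lit 116, nat_lit 87, nat_lit 58, nat_lit 232, nat_lit 203, nat_lit 174, nat_lit 145, nat_lit 116, nat_lit 87, nat_lit 58, nat_lit 232, nat_lit 203, nat_lit 174])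
noncomputable def r94 : WT := (.node (nat_lit 27) r92 r93)
noncomputable def r95 : WT := (.node (nat_lit 22) (.node (nat_lit 20) (.node (nat_lit 19) r84 r85) (.node (nat_lit 21) r86 r87)) (.node (nat_lit 24) (.node (nat_lit 23) r88 r89) (.node (nat_lit 25) r90 (.node (nat_lit 26) r91 r94))))
noncomputable def r96 : WT := (.node (nat_lit 10) (.leaf (nat_lit 40962) [nat_lit 116, nat_lit 145, nat_lit 116, nat_lit 145, nat_lit 116]) (.node (nat_lit 11) r75 (.node (nat_lit 13) (.node (nat_lit 12) r76 r77) (.node (nat_lit 18) r83 r95))))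
noncomputable def w3 : WT := (.node (nat_lit 1) (.leaf (nat_lit 3072) [nat_lit 145]) (.node (nat_lit 4) (.node (nat_lit 2) (.leaf (nat_lit 49152) [nat_lit 261, nat_lit 145, nat_lit 261]) (.node (nat_lit 3) (.leaf (nat_lit 47104) [nat_lit 203, nat_lit 145, nat_lit 203]) (.leaf (nat_lit 29698) [nat_lit 58, nat_lit 145, nat_lit 58]))) (.node (nat_lit 7) (.node (nat_lit 5) (.leaf (nat_lit 35842) [nat_lit 87, nat_lit 145, nat_lit 87]) r73) (.node (nat_lit 9) r74 r96))))
noncomputable def r97 : WT := (.node (nat_lit 5) (.leaf (nat_lit 30722) [nat_lit 58, nat_lit 174, nat_lit 58]) (.leaf (nat_lit 36866) [nat_lit 87, nat_lit 174, nat_lit 87]))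
noncomputable def r98 : WT := (.node (nat_lit 7) (.leaf (nat_lit 41986) [nat_lit 116, nat_lit 174, nat_lit 116]) (.leaf (nat_lit 15362) [nat_lit 319, nat_lit 174, nat_lit 319]))
noncomputable def r99 : WT := (.leaf (nat_lit 56329) [nat_lit 203, nat_lit 232, nat_lit 58, nat_lit 87, nat_lit 116, nat_lit 145, nat_lit 174, nat_lit 203, nat_lit 232, nat_lit 58, nat_lit 87, nat_lit 116, nat_lit 145, nat_lit 174, nat_lit 203, nat_lit 232, nat_lit 58, nat_lit 87, nat_lit 116, nat_lit 145, nat_lit 174, nat_lit 203, nat_lit 232, nat_lit 58, nat_lit 87, nat_lit 116, nat_lit 145, nat_lit 174, nat_lit 203, nat_lit 232, nat_lit 58, nat_lit 87, nat_lit 116, nat_lit 145, nat_lit 174, nat_lit 203, nat_lit 232, nat_lit 58, nat_lit 87, nat_lit 116, nat_lit 145, nat_lit 174, nat_lit 203, nat_lit 232, nat_lit 58, nat_lit 87, nat_lit 116, nat_lit 145, nat_lit 174, nat_lit 203, nat_lit 232, nat_lit 58, nat_lit 87, nat_lit 116, nat_lit 145, nat_lit 174, nat_lit 203, nat_lit 232, nat_lit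 319, nat_lit 58, nat_lit 87, nat_lit 116, nat_lit 145])
noncomputable def r100 : WT := (.leaf (nat_lit 56326) [nat_lit 145, nat_lit 116, nat_lit 87, nat_lit 58, nat_lit 232, nat_lit 203, nat_lit 174, nat_lit 145, nat_lit 116, nat_lit 87, nat_lit 58, nat_lit 232, nat_lit 203, nat_lit 174, nat_lit 145, nat_lit 116, nat_lit 87, nat_lit 58, nat_lit 232, nat_lit 203, nat_lit 174, nat_lit 145, nat_lit 116, nat_lit 87, nat_lit 58, nat_lit 232, nat_lit 203, nat_lit 174, nat_lit 145, nat_lit 116, nat_lit 87, nat_lit 58, nat_lit 232, nat_lit 203, nat_lit 174, nat_lit 145, nat_lit 116, nat_lit 87, nat_lit 58, nat_lit 232, nat_lit 203, nat_lit 174, nat_lit 145, nat_lit 116, nat_lit 87, nat_lit 58, nat_lit 232, nat_lit 203, nat_lit 174, nat_lit 145, nat_lit 116, nat_lit 87, nat_lit 58, nat_lit 232, nat_lit 203, nat_lit 174, nat_lit 145, nat_lit 116, nat_lit 87, nat_lit 58, nat_lit 319, nat_lit 232, nat_lit 203])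
noncomputable def r101 : WT := (.leaf (nat_lit 56340) [nat_lit 145, nat_lit 116, nat_lit 87, nat_lit 58, nat_lit 232, nat_lit 203, nat_lit 174, nat_lit 145, nat_lit 116, nat_lit 87, nat_lit 58, nat_lit 232, nat_lit 203, nat_lit 174, nat_lit 145, nat_lit 116, nat_lit 87, nat_lit 58, nat_lit 232, nat_lit 203, nat_lit 174, nat_lit 145, nat_lit 116, nat_lit 87, nat_lit 58, nat_lit 232, nat_lit 203, nat_lit 174, nat_lit 145, nat_lit 116, nat_lit 87, nat_lit 58, nat_lit 232, nat_lit 203, nat_lit 174, nat_lit 145, nat_lit 116, nat_lit 87, nat_lit 58, nat_lit 232, nat_lit 203, nat_lit 174, nat_lit 145, nat_lit 116, nat_lit 87, nat_lit 58, nat_lit 232, nat_lit 203, nat_lit 174, nat_lit 145, nat_lit 116, nat_lit 87, nat_lit 58, nat_lit 319, nat_lit 232, nat_lit 203, nat_lit 174, nat_lit 145, nat_lit 116, nat_lit 87, nat_lit 58, nat_lit 232, nat_lit 203])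
noncomputable def r102 : WT := (.node (nat_lit 12) r100 r101)
noncomputable def r103 : WT := (.leaf (nat_lit 56354) [nat_lit 145, nat_lit 116, nat_lit 87, nat_lit 58, nat_lit 232, nat_lit 203, nat_lit 174, nat_lit 145, nat_lit 116, nat_lit 87, nat_lit 58, nat_lit 232, nat_lit 203, nat_lit 174, nat_lit 145, nat_lit 116, nat_lit 87, nat_lit 58, nat_lit 232, nat_lit 203, nat_lit 174, nat_lit 145, nat_lit 116, nat_lit 87, nat_lit 58, nat_lit 232, nat_lit 203, nat_lit 174, nat_lit 145, nat_lit 116, nat_lit 87, nat_lit 58, nat_lit 232, nat_lit 203, nat_lit 174, nat_lit 145, nat_lit 116, nat_lit 87, nat_lit 58, nat_lit 232, nat_lit 203, nat_lit 174, nat_lit 145, nat_lit 116, nat_lit 87, nat_lit 58, nat_lit 319, nat_lit 232, nat_lit 203, nat_lit 174, nat_lit 145, nat_lit 116, nat_lit 87, nat_lit 58, nat_lit 232, nat_lit 203, nat_lit 174, nat_lit 145, nat_lit 116, nat_lit 87, nat_lit 58, nat_lit 232, nat_lit 203])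
noncomputable def r104 : WT := (.leaf (nat_lit 56424) [nat_lit 145, nat_lit 116, nat_lit 87, nat_lit 58, nat_lit 232, nat_lit 203, nat_lit 174, nat_lit 145, nat_lit 116, nat_lit 87, nat_lit 58, nat_lit 319, nat_lit 232, nat_lit 203, nat_lit 174, nat_lit 145, nat_lit 116, nat_lit 87, nat_lit 58, nat_lit 232, nat_lit 203, nat_lit 174, nat_lit 145, nat_lit 116, nat_lit 87, nat_lit 58, nat_lit 232, nat_lit 203, nat_lit 174, nat_lit 145, nat_lit 116, nat_lit 87, nat_lit 58, nat_lit 232, nat_lit 203, nat_lit 174, nat_lit 145, nat_lit 116, nat_lit 87, nat_lit 58, nat_lit 232, nat_lit 203, nat_lit 174, nat_lit 145, nat_lit 116, nat_lit 87, nat_lit 58, nat_lit 232, nat_lit 203, nat_lit 174, nat_lit 145, nat_lit 116, nat_lit 87, nat_lit 58, nat_lit 232, nat_lit 203, nat_lit 174, nat_lit 145, nat_lit 116, nat_lit 87, nat_lit 58, nat_lit 232, nat_lit 203])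
noncomputable def r105 : WT := (.leaf (nat_lit 56441) [nat_lit 203, nat_lit 232, nat_lit 319, nat_lit 58, nat_lit 87, nat_lit 116, nat_lit 145, nat_lit 174, nat_lit 203, nat_lit 232, nat_lit 58, nat_lit 87, nat_lit 116, nat_lit 145, nat_lit 174, nat_lit 203, nat_lit 232, nat_lit 58, nat_lit 87, nat_lit 116, nat_lit 145, nat_lit 174, nat_lit 203, nat_lit 232, nat_lit 58, nat_lit 87, nat_lit 116, nat_lit 145, nat_lit 174, nat_lit 203, nat_lit 232, nat_lit 58, nat_lit 87, nat_lit 116, nat_lit 145, nat_lit 174, nat_lit 203, nat_lit 232, nat_lit 58, nat_lit 87, nat_lit 116, nat_lit 145, nat_lit 174, nat_lit 203, nat_lit 232, nat_lit 58, nat_lit 87, nat_lit 116, nat_lit 145, nat_lit 174, nat_lit 203, nat_lit 232, nat_lit 58, nat_lit 87, nat_lit 116, nat_lit 145, nat_lit 174, nat_lit 203, nat_lit 232, nat_lit 58, nat_lit 87, nat_lit 116, nat_lit 145])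
noncomputable def r106 : WT := (.leaf (nat_lit 56410) [nat_lit 145, nat_lit 116, nat_lit 87, nat_lit 58, nat_lit 232, nat_lit 203, nat_lit 174, nat_lit 145, nat_lit 116, nat_lit 87, nat_lit 58, nat_lit 232, nat_lit 203, nat_lit 174, nat_lit 145, nat_lit 116, nat_lit 87, nat_lit 58, nat_lit 319, nat_lit 232, nat_lit 203, nat_lit 174, nat_lit 145, nat_lit 116, nat_lit 87, nat_lit 58, nat_lit 232, nat_lit 203, nat_lit 174, nat_lit 145, nat_lit 116, nat_lit 87, nat_lit 58, nat_lit 232, nat_lit 203, nat_lit 174, nat_lit 145, nat_lit 116, nat_lit 87, nat_lit 58, nat_lit 232, nat_lit 203, nat_lit 174, nat_lit 145, nat_lit 116, nat_lit 87, nat_lit 58, nat_lit 232, nat_lit 203, nat_lit 174, nat_lit 145, nat_lit 116, nat_lit 87, nat_lit 58, nat_lit 232, nat_lit 203, nat_lit 174, nat_lit 145, nat_lit 116, nat_lit 87, nat_lit 58, nat_lit 232, nat_lit 203])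
noncomputable def r107 : WT := (.leaf (nat_lit 56396) [nat_lit 145, nat_lit 116, nat_lit 87, nat_lit 58, nat_lit 232, nat_lit 203, nat_lit 174, nat_lit 145, nat_lit 116, nat_lit 87, nat_lit 58, nat_lit 232, nat_lit 203, nat_lit 174, nat_lit 145, nat_lit 116, nat_lit 87, nat_lit 58, nat_lit 232, nat_lit 203, nat_lit 174, nat_lit 145, nat_lit 116, nat_lit 87, nat_lit 58, nat_lit 319, nat_lit 232, nat_lit 203, nat_lit 174, nat_lit 145, nat_lit 116, nat_lit 87, nat_lit 58, nat_lit 232, nat_lit 203, nat_lit 174, nat_lit 145, nat_lit 116, nat_lit 87, nat_lit 58, nat_lit 232, nat_lit 203, nat_lit 174, nat_lit 145, nat_lit 116, nat_lit 87, nat_lit 58, nat_lit 232, nat_lit 203, nat_lit 174, nat_lit 145, nat_lit 116, nat_lit 87, nat_lit 58, nat_lit 232, nat_lit 203, nat_lit 174, nat_lit 145, nat_lit 116, nat_lit 87, nat_lit 58, nat_lit 232, nat_lit 203])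
noncomputable def r108 : WT := (.leaf (nat_lit 56343) [nat_lit 203, nat_lit 232, nat_lit 58, nat_lit 87, nat_lit 116, nat_lit 145, nat_lit 174, nat_lit 203, nat_lit 232, nat_lit 58, nat_lit 87, nat_lit 116, nat_lit 145, nat_lit 174, nat_lit 203, nat_lit 232, nat_lit 58, nat_lit 87, nat_lit 116, nat_lit 145, nat_lit 174, nat_lit 203, nat_lit 232, nat_lit 58, nat_lit 87, nat_lit 116, nat_lit 145, nat_lit 174, nat_lit 203, nat_lit 232, nat_lit 58, nat_lit 87, nat_lit 116, nat_lit 145, nat_lit 174, nat_lit 203, nat_lit 232, nat_lit 58, nat_lit 87, nat_lit 116, nat_lit 145, nat_lit 174, nat_lit 203, nat_lit 232, nat_lit 58, nat_lit 87, nat_lit 116, nat_lit 145, nat_lit 174, nat_lit 203, nat_lit 232, nat_lit 319, nat_lit 58, nat_lit 87, nat_lit 116, nat_lit 145, nat_lit 174, nat_lit 203, nat_lit 232, nat_lit 58, nat_lit 87, nat_lit 116, nat_lit 145])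
noncomputable def r109 : WT := (.leaf (nat_lit 56371) [nat_lit 203, nat_lit 232, nat_lit 58, nat_lit 87, nat_lit 116, nat_lit 145, nat_lit 174, nat_lit 203, nat_lit 232, nat_lit 58, nat_lit 87, nat_lit 116, nat_lit 145, nat_lit 174, nat_lit 203, nat_lit 232, nat_lit 58, nat_lit 87, nat_lit 116, nat_lit 145, nat_lit 174, nat_lit 203, nat_lit 232, nat_lit 58, nat_lit 87, nat_lit 116, nat_lit 145, nat_lit 174, nat_lit 203, nat_lit 232, nat_lit 58, nat_lit 87, nat_lit 116, nat_lit 145, nat_lit 174, nat_lit 203, nat_lit 232, nat_lit 319, nat_lit 58, nat_lit 87, nat_lit 116, nat_lit 145, nat_lit 174, nat_lit 203, nat_lit 232, nat_lit 58, nat_lit 87, nat_lit 116, nat_lit 145, nat_lit 174, nat_lit 203, nat_lit 232, nat_lit 58, nat_lit 87, nat_lit 116, nat_lit 145, nat_lit 174, nat_lit 203, nat_lit 232, nat_lit 58, nat_lit 87, nat_lit 116, nat_lit 145])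
noncomputable def r110 : WT := (.leaf (nat_lit 56399) [nat_lit 203, nat_lit 232, nat_lit 58, nat_lit 87, nat_lit 116, nat_lit 145, nat_lit 174, nat_lit 203, nat_lit 232, nat_lit 58, nat_lit 87, nat_lit 116, nat_lit 145, nat_lit 174, nat_lit 203, nat_lit 232, nat_lit 58, nat_lit 87, nat_lit 116, nat_lit 145, nat_lit 174, nat_lit 203, nat_lit 232, nat_lit 319, nat_lit 58, nat_lit 87, nat_lit 116, nat_lit 145, nat_lit 174, nat_lit 203, nat_lit 232, nat_lit 58, nat_lit 87, nat_lit 116, nat_lit 145, nat_lit 174, nat_lit 203, nat_lit 232, nat_lit 58, nat_lit 87, nat_lit 116, nat_lit 145, nat_lit 174, nat_lit 203, nat_lit 232, nat_lit 58, nat_lit 87, nat_lit 116, nat_lit 145, nat_lit 174, nat_lit 203, nat_lit 232, nat_lit 58, nat_lit 87, nat_lit 116, nat_lit 145, nat_lit 174, nat_lit 203, nat_lit 232, nat_lit 58, nat_lit 87, nat_lit 116, nat_lit 145])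
noncomputable def r111 : WT := (.leaf (nat_lit 56427) [nat_lit 203, nat_lit 232, nat_lit 58, nat_lit 87, nat_lit 116, nat_lit 145, nat_lit 174, nat_lit 203, nat_lit 232, nat_lit 319, nat_lit 58, nat_lit 87, nat_lit 116, nat_lit 145, nat_lit 174, nat_lit 203, nat_lit 232, nat_lit 58, nat_lit 87, nat_lit 116, nat_lit 145, nat_lit 174, nat_lit 203, nat_lit 232, nat_lit 58, nat_lit 87, nat_lit 116, nat_lit 145, nat_lit 174, nat_lit 203, nat_lit 232, nat_lit 58, nat_lit 87, nat_lit 116, nat_lit 145, nat_lit 174, nat_lit 203, nat_lit 232, nat_lit 58, nat_lit 87, nat_lit 116, nat_lit 145, nat_lit 174, nat_lit 203, nat_lit 232, nat_lit 58, nat_lit 87, nat_lit 116, nat_lit 145, nat_lit 174, nat_lit 203, nat_lit 232, nat_lit 58, nat_lit 87, nat_lit 116, nat_lit 145, nat_lit 174, nat_lit 203, nat_lit 232, nat_lit 58, nat_lit 87, nat_lit 116, nat_lit 145])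
noncomputable def r112 : WT := (.leaf (nat_lit 56382) [nat_lit 145, nat_lit 116, nat_lit 87, nat_lit 58, nat_lit 232, nat_lit 203, nat_lit 174, nat_lit 145, nat_lit 116, nat_lit 87, nat_lit 58, nat_lit 232, nat_lit 203, nat_lit 174, nat_lit 145, nat_lit 116, nat_lit 87, nat_lit 58, nat_lit 232, nat_lit 203, nat_lit 174, nat_lit 145, nat_lit 116, nat_lit 87, nat_lit 58, nat_lit 232, nat_lit 203, nat_lit 174, nat_lit 145, nat_lit 116, nat_lit 87, nat_lit 58, nat_lit 319, nat_lit 232, nat_lit 203, nat_lit 174, nat_lit 145, nat_lit 116, nat_lit 87, nat_lit 58, nat_lit 232, nat_lit 203, nat_lit 174, nat_lit 145, nat_lit 116, nat_lit 87, nat_lit 58, nat_lit 232, nat_lit 203, nat_lit 174, nat_lit 145, nat_lit 116, nat_lit 87, nat_lit 58, nat_lit 232, nat_lit 203, nat_lit 174, nat_lit 145, nat_lit 116, nat_lit 87, nat_lit 58, nat_lit 232, nat_lit 203])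
noncomputable def r113 : WT := (.leaf (nat_lit 56413) [nat_lit 203, nat_lit 232, nat_lit 58, nat_lit 87, nat_lit 116, nat_lit 145, nat_lit 174, nat_lit 203, nat_lit 232, nat_lit 58, nat_lit 87, nat_lit 116, nat_lit 145, nat_lit 174, nat_lit 203, nat_lit 232, nat_lit 319, nat_lit 58, nat_lit 87, nat_lit 116, nat_lit 145, nat_lit 174, nat_lit 203, nat_lit 232, nat_lit 58, nat_lit 87, nat_lit 116, nat_lit 145, nat_lit 174, nat_lit 203, nat_lit 232, nat_lit 58, nat_lit 87, nat_lit 116, nat_lit 145, nat_lit 174, nat_lit 203, nat_lit 232, nat_lit 58, nat_lit 87, nat_lit 116, nat_lit 145, nat_lit 174, nat_lit 203, nat_lit 232, nat_lit 58, nat_lit 87, nat_lit 116, nat_lit 145, nat_lit 174, nat_lit 203, nat_lit 232, nat_lit 58, nat_lit 87, nat_lit 116, nat_lit 145, nat_lit 174, nat_lit 203, nat_lit 232, nat_lit 58, nat_lit 87, nat_lit 116, nat_lit 145])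
noncomputable def r114 : WT := (.leaf (nat_lit 56357) [nat_lit 203, nat_lit 232, nat_lit 58, nat_lit 87, nat_lit 116, nat_lit 145, nat_lit 174, nat_lit 203, nat_lit 232, nat_lit 58, nat_lit 87, nat_lit 116, nat_lit 145, nat_lit 174, nat_lit 203, nat_lit 232, nat_lit 58, nat_lit 87, nat_lit 116, nat_lit 145, nat_lit 174, nat_lit 203, nat_lit 232, nat_lit 58, nat_lit 87, nat_lit 116, nat_lit 145, nat_lit 174, nat_lit 203, nat_lit 232, nat_lit 58, nat_lit 87, nat_lit 116, nat_lit 145, nat_lit 174, nat_lit 203, nat_lit 232, nat_lit 58, nat_lit 87, nat_lit 116, nat_lit 145, nat_lit 174, nat_lit 203, nat_lit 232, nat_lit 319, nat_lit 58, nat_lit 87, nat_lit 116, nat_lit 145, nat_lit 174, nat_lit 203, nat_lit 232, nat_lit 58, nat_lit 87, nat_lit 116, nat_lit 145, nat_lit 174, nat_lit 203, nat_lit 232, nat_lit 58, nat_lit 87, nat_lit 116, nat_lit 145])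
noncomputable def r115 : WT := (.node (nat_lit 18) (.node (nat_lit 15) (.node (nat_lit 14) r103 r104) (.node (nat_lit 16) r105 (.node (nat_lit 17) r106 r107))) (.node (nat_lit 21) (.node (nat_lit 19) r108 (.node (nat_lit 20) r109 r110)) (.node (nat_lit 23) (.node (nat_lit 22) r111 r112) (.node (nat_lit 24) r113 r114))))
noncomputable def r116 : WT := (.node (nat_lit 9) (.leaf (nat_lit 23554) [nat_lit 290, nat_lit 174, nat_lit 290]) (.node (nat_lit 10) (.leaf (nat_lit 46082) [nat_lit 145, nat_lit 174, nat_lit 145, nat_lit 174, nat_lit 145]) (.node (nat_lit 11) r99 (.node (nat_lit 13) r102 r115))))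
noncomputable def w4 : WT := (.node (nat_lit 1) (.leaf (nat_lit 4096) [nat_lit 174]) (.node (nat_lit 3) (.node (nat_lit 2) (.leaf (nat_lit 52224) [nat_lit 261, nat_lit 174, nat_lit 261]) (.leaf (nat_lit 51200) [nat_lit 232, nat_lit 174, nat_lit 232])) (.node (nat_lit 6) (.node (nat_lit 4) (.leaf (nat_lit 50176) [nat_lit 203, nat_lit 174, nat_lit 203, nat_lit 174, nat_lit 203]) r97) (.node (nat_lit 8) r98 r116))))
noncomputable def r117 : WT := (.node (nat_lit 5) (.leaf (nat_lit 37890) [nat_lit 87, nat_lit 203, nat_lit 87]) (.leaf (nat_lit 24578) [nat_lit 290, nat_lit 203, nat_lit 290]))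
noncomputable def r118 : WT := (.node (nat_lit 7) (.leaf (nat_lit 47106) [nat_lit 145, nat_lit 203, nat_lit 145]) (.leaf (nat_lit 43010) [nat_lit 116, nat_lit 203, nat_lit 116]))
noncomputable def r119 : WT := (.leaf (nat_lit 56331) [nat_lit 232, nat_lit 58, nat_lit 87, nat_lit 116, nat_lit 145, nat_lit 174, nat_lit 203, nat_lit 232, nat_lit 58, nat_lit 87, nat_lit 116, nat_lit 145, nat_lit 174, nat_lit 203, nat_lit 232, nat_lit 58, nat_lit 87, nat_lit 116, nat_lit 145, nat_lit 174, nat_lit 203, nat_lit 232, nat_lit 58, nat_lit 87, nat_lit 116, nat_lit 145, nat_lit 174, nat_lit 203, nat_lit 232, nat_lit 58, nat_lit 87, nat_lit 116, nat_lit 145, nat_lit 174, nat_lit 203, nat_lit 232, nat_lit 58, nat_lit 87, nat_lit 116, nat_lit 145, nat_lit 174, nat_lit 203, nat_lit 232, nat_lit 58, nat_lit 87, nat_lit 116, nat_lit 145, nat_lit 174, nat_lit 203, nat_lit 232, nat_lit 58, nat_lit 87, nat_lit 116, nat_lit 145, nat_lit 174, nat_lit 203, nat_lit 232, nat_lit 319, nat_lit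 58, nat_lit 87, nat_lit 116, nat_lit 145, nat_lit 174])
noncomputable def r120 : WT := (.leaf (nat_lit 56324) [nat_lit 174, nat_lit 145, nat_lit 116, nat_lit 87, nat_lit 58, nat_lit 232, nat_lit 203, nat_lit 174, nat_lit 145, nat_lit 116, nat_lit 87, nat_lit 58, nat_lit 232, nat_lit 203, nat_lit 174, nat_lit 145, nat_lit 116, nat_lit 87, nat_lit 58, nat_lit 232, nat_lit 203, nat_lit 174, nat_lit 145, nat_lit 116, nat_lit 87, nat_lit 58, nat_lit 232, nat_lit 203, nat_lit 174, nat_lit 145, nat_lit 116, nat_lit 87, nat_lit 58, nat_lit 232, nat_lit 203, nat_lit 174, nat_lit 145, nat_lit 116, nat_lit 87, nat_lit 58, nat_lit 232, nat_lit 203, nat_lit 174, nat_lit 145, nat_lit 116, nat_lit 87, nat_lit 58, nat_lit 232, nat_lit 203, nat_lit 174, nat_lit 145, nat_lit 116, nat_lit 87, nat_lit 58, nat_lit 232, nat_lit 203, nat_lit 174, nat_lit 145, nat_lit 116, nat_lit 87, nat_lit 58, nat_lit 319, nat_lit 232])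
noncomputable def r121 : WT := (.leaf (nat_lit 56345) [nat_lit 232, nat_lit 58, nat_lit 87, nat_lit 116, nat_lit 145, nat_lit 174, nat_lit 203, nat_lit 232, nat_lit 58, nat_lit 87, nat_lit 116, nat_lit 145, nat_lit 174, nat_lit 203, nat_lit 232, nat_lit 58, nat_lit 87, nat_lit 116, nat_lit 145, nat_lit 174, nat_lit 203, nat_lit 232, nat_lit 58, nat_lit 87, nat_lit 116, nat_lit 145, nat_lit 174, nat_lit 203, nat_lit 232, nat_lit 58, nat_lit 87, nat_lit 116, nat_lit 145, nat_lit 174, nat_lit 203, nat_lit 232, nat_lit 58, nat_lit 87, nat_lit 116, nat_lit 145, nat_lit 174, nat_lit 203, nat_lit 232, nat_lit 58, nat_lit 87, nat_lit 116, nat_lit 145, nat_lit 174, nat_lit 203, nat_lit 232, nat_lit 319, nat_lit 58, nat_lit 87, nat_lit 116, nat_lit 145, nat_lit 174, nat_lit 203, nat_lit 232, nat_lit 58, nat_lit 87, nat_lit 116, nat_lit 145, nat_lit 174])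
noncomputable def r122 : WT := (.leaf (nat_lit 56401) [nat_lit 232, nat_lit 58, nat_lit 87, nat_lit 116, nat_lit 145, nat_lit 174, nat_lit 203, nat_lit 232, nat_lit 58, nat_lit 87, nat_lit 116, nat_lit 145, nat_lit 174, nat_lit 203, nat_lit 232, nat_lit 58, nat_lit 87, nat_lit 116, nat_lit 145, nat_lit 174, nat_lit 203, nat_lit 232, nat_lit 319, nat_lit 58, nat_lit 87, nat_lit 116, nat_lit 145, nat_lit 174, nat_lit 203, nat_lit 232, nat_lit 58, nat_lit 87, nat_lit 116, nat_lit 145, nat_lit 174, nat_lit 203, nat_lit 232, nat_lit 58, nat_lit 87, nat_lit 116, nat_lit 145, nat_lit 174, nat_lit 203, nat_lit 232, nat_lit 58, nat_lit 87, nat_lit 116, nat_lit 145, nat_lit 174, nat_lit 203, nat_lit 232, nat_lit 58, nat_lit 87, nat_lit 116, nat_lit 145, nat_lit 174, nat_lit 203, nat_lit 232, nat_lit 58, nat_lit 87, nat_lit 116, nat_lit 145, nat_lit 174])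
noncomputable def r123 : WT := (.leaf (nat_lit 56352) [nat_lit 174, nat_lit 145, nat_lit 116, nat_lit 87, nat_lit 58, nat_lit 232, nat_lit 203, nat_lit 174, nat_lit 145, nat_lit 116, nat_lit 87, nat_lit 58, nat_lit 232, nat_lit 203, nat_lit 174, nat_lit 145, nat_lit 116, nat_lit 87, nat_lit 58, nat_lit 232, nat_lit 203, nat_lit 174, nat_lit 145, nat_lit 116, nat_lit 87, nat_lit 58, nat_lit 232, nat_lit 203, nat_lit 174, nat_lit 145, nat_lit 116, nat_lit 87, nat_lit 58, nat_lit 232, nat_lit 203, nat_lit 174, nat_lit 145, nat_lit 116, nat_lit 87, nat_lit 58, nat_lit 232, nat_lit 203, nat_lit 174, nat_lit 145, nat_lit 116, nat_lit 87, nat_lit 58, nat_lit 319, nat_lit 232, nat_lit 203, nat_lit 174, nat_lit 145, nat_lit 116, nat_lit 87, nat_lit 58, nat_lit 232, nat_lit 203, nat_lit 174, nat_lit 145, nat_lit 116, nat_lit 87, nat_lit 58, nat_lit 232])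
noncomputable def r124 : WT := (.node (nat_lit 13) r121 (.node (nat_lit 14) r122 r123))
noncomputable def r125 : WT := (.leaf (nat_lit 56366) [nat_lit 174, nat_lit 145, nat_lit 116, nat_lit 87, nat_lit 58, nat_lit 232, nat_lit 203, nat_lit 174, nat_lit 145, nat_lit 116, nat_lit 87, nat_lit 58, nat_lit 232, nat_lit 203, nat_lit 174, nat_lit 145, nat_lit 116, nat_lit 87, nat_lit 58, nat_lit 232, nat_lit 203, nat_lit 174, nat_lit 145, nat_lit 116, nat_lit 87, nat_lit 58, nat_lit 232, nat_lit 203, nat_lit 174, nat_lit 145, nat_lit 116, nat_lit 87, nat_lit 58, nat_lit 232, nat_lit 203, nat_lit 174, nat_lit 145, nat_lit 116, nat_lit 87, nat_lit 58, nat_lit 319, nat_lit 232, nat_lit 203, nat_lit 174, nat_lit 145, nat_lit 116, nat_lit 87, nat_lit 58, nat_lit 232, nat_lit 203, nat_lit 174, nat_lit 145, nat_lit 116, nat_lit 87, nat_lit 58, nat_lit 232, nat_lit 203, nat_lit 174, nat_lit 145, nat_lit 116, nat_lit 87, nat_lit 58, nat_lit 232])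
noncomputable def r126 : WT := (.leaf (nat_lit 56380) [nat_lit 174, nat_lit 145, nat_lit 116, nat_lit 87, nat_lit 58, nat_lit 232, nat_lit 203, nat_lit 174, nat_lit 145, nat_lit 116, nat_lit 87, nat_lit 58, nat_lit 232, nat_lit 203, nat_lit 174, nat_lit 145, nat_lit 116, nat_lit 87, nat_lit 58, nat_lit 232, nat_lit 203, nat_lit 174, nat_lit 145, nat_lit 116, nat_lit 87, nat_lit 58, nat_lit 232, nat_lit 203, nat_lit 174, nat_lit 145, nat_lit 116, nat_lit 87, nat_lit 58, nat_lit 319, nat_lit 232, nat_lit 203, nat_lit 174, nat_lit 145, nat_lit 116, nat_lit 87, nat_lit 58, nat_lit 232, nat_lit 203, nat_lit 174, nat_lit 145, nat_lit 116, nat_lit 87, nat_lit 58, nat_lit 232, nat_lit 203, nat_lit 174, nat_lit 145, nat_lit 116, nat_lit 87, nat_lit 58, nat_lit 232, nat_lit 203, nat_lit 174, nat_lit 145, nat_lit 116, nat_lit 87, nat_lit 58, nat_lit 232])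
noncomputable def r127 : WT := (.leaf (nat_lit 56338) [nat_lit 174, nat_lit 145, nat_lit 116, nat_lit 87, nat_lit 58, nat_lit 232, nat_lit 203, nat_lit 174, nat_lit 145, nat_lit 116, nat_lit 87, nat_lit 58, nat_lit 232, nat_lit 203, nat_lit 174, nat_lit 145, nat_lit 116, nat_lit 87, nat_lit 58, nat_lit 232, nat_lit 203, nat_lit 174, nat_lit 145, nat_lit 116, nat_lit 87, nat_lit 58, nat_lit 232, nat_lit 203, nat_lit 174, nat_lit 145, nat_lit 116, nat_lit 87, nat_lit 58, nat_lit 232, nat_lit 203, nat_lit 174, nat_lit 145, nat_lit 116, nat_lit 87, nat_lit 58, nat_lit 232, nat_lit 203, nat_lit 174, nat_lit 145, nat_lit 116, nat_lit 87, nat_lit 58, nat_lit 232, nat_lit 203, nat_lit 174, nat_lit 145, nat_lit 116, nat_lit 87, nat_lit 58, nat_lit 319, nat_lit 232, nat_lit 203, nat_lit 174, nat_lit 145, nat_lit 116, nat_lit 87, nat_lit 58, nat_lit 232])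
noncomputable def r128 : WT := (.leaf (nat_lit 56415) [nat_lit 232, nat_lit 58, nat_lit 87, nat_lit 116, nat_lit 145, nat_lit 174, nat_lit 203, nat_lit 232, nat_lit 58, nat_lit 87, nat_lit 116, nat_lit 145, nat_lit 174, nat_lit 203, nat_lit 232, nat_lit 319, nat_lit 58, nat_lit 87, nat_lit 116, nat_lit 145, nat_lit 174, nat_lit 203, nat_lit 232, nat_lit 58, nat_lit 87, nat_lit 116, nat_lit 145, nat_lit 174, nat_lit 203, nat_lit 232, nat_lit 58, nat_lit 87, nat_lit 116, nat_lit 145, nat_lit 174, nat_lit 203, nat_lit 232, nat_lit 58, nat_lit 87, nat_lit 116, nat_lit 145, nat_lit 174, nat_lit 203, nat_lit 232, nat_lit 58, nat_lit 87, nat_lit 116, nat_lit 145, nat_lit 174, nat_lit 203, nat_lit 232, nat_lit 58, nat_lit 87, nat_lit 116, nat_lit 145, nat_lit 174, nat_lit 203, nat_lit 232, nat_lit 58, nat_lit 87, nat_lit 116, nat_lit 145, nat_lit 174])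
noncomputable def r129 : WT := (.leaf (nat_lit 56429) [nat_lit 232, nat_lit 58, nat_lit 87, nat_lit 116, nat_lit 145, nat_lit 174, nat_lit 203, nat_lit 232, nat_lit 319, nat_lit 58, nat_lit 87, nat_lit 116, nat_lit 145, nat_lit 174, nat_lit 203, nat_lit 232, nat_lit 58, nat_lit 87, nat_lit 116, nat_lit 145, nat_lit 174, nat_lit 203, nat_lit 232, nat_lit 58, nat_lit 87, nat_lit 116, nat_lit 145, nat_lit 174, nat_lit 203, nat_lit 232, nat_lit 58, nat_lit 87, nat_lit 116, nat_lit 145, nat_lit 174, nat_lit 203, nat_lit 232, nat_lit 58, nat_lit 87, nat_lit 116, nat_lit 145, nat_lit 174, nat_lit 203, nat_lit 232, nat_lit 58, nat_lit 87, nat_lit 116, nat_lit 145, nat_lit 174, nat_lit 203, nat_lit 232, nat_lit 58, nat_lit 87, nat_lit 116, nat_lit 145, nat_lit 174, nat_lit 203, nat_lit 232, nat_lit 58, nat_lit 87, nat_lit 116, nat_lit 145, nat_lit 174])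
noncomputable def r130 : WT := (.leaf (nat_lit 56443) [nat_lit 232, nat_lit 319, nat_lit 58, nat_lit 87, nat_lit 116, nat_lit 145, nat_lit 174, nat_lit 203, nat_lit 232, nat_lit 58, nat_lit 87, nat_lit 116, nat_lit 145, nat_lit 174, nat_lit 203, nat_lit 232, nat_lit 58, nat_lit 87, nat_lit 116, nat_lit 145, nat_lit 174, nat_lit 203, nat_lit 232, nat_lit 58, nat_lit 87, nat_lit 116, nat_lit 145, nat_lit 174, nat_lit 203, nat_lit 232, nat_lit 58, nat_lit 87, nat_lit 116, nat_lit 145, nat_lit 174, nat_lit 203, nat_lit 232, nat_lit 58, nat_lit 87, nat_lit 116, nat_lit 145, nat_lit 174, nat_lit 203, nat_lit 232, nat_lit 58, nat_lit 87, nat_lit 116, nat_lit 145, nat_lit 174, nat_lit 203, nat_lit 232, nat_lit 58, nat_lit 87, nat_lit 116, nat_lit 145, nat_lit 174, nat_lit 203, nat_lit 232, nat_lit 58, nat_lit 87, nat_lit 116, nat_lit 145, nat_lit 174])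
noncomputable def r131 : WT := (.node (nat_lit 18) (.node (nat_lit 16) r125 (.node (nat_lit 17) r126 r127)) (.node (nat_lit 19) r128 (.node (nat_lit 20) r129 r130)))
noncomputable def r132 : WT := (.node (nat_lit 9) (.leaf (nat_lit 16386) [nat_lit 319, nat_lit 203, nat_lit 319]) (.node (nat_lit 10) (.leaf (nat_lit 50178) [nat_lit 174, nat_lit 203, nat_lit 174, nat_lit 203, nat_lit 174]) (.node (nat_lit 12) (.node (nat_lit 11) r119 r120) (.node (nat_lit 15) r124 r131))))
noncomputable def w5 : WT := (.node (nat_lit 1) (.leaf (nat_lit 5120) [nat_lit 203]) (.node (nat_lit 3) (.node (nat_lit 2) (.leaf (nat_lit 54272) [nat_lit 261, nat_lit 203, nat_lit 261]) (.leaf (nat_lit 53248) [nat_lit 232, nat_lit 203, nat_lit 232])) (.node (nat_lit 6) (.node (nat_lit 4) (.leaf (nat_lit 31746) [nat_lit 58, nat_lit 203, nat_lit 58]) r117) (.node (nat_lit 8) r118 r132))))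
noncomputable def r133 : WT := (.node (nat_lit 6) (.leaf (nat_lit 38914) [nat_lit 87, nat_lit 232, nat_lit 87]) (.leaf (nat_lit 44034) [nat_lit 116, nat_lit 232, nat_lit 116]))
noncomputable def r134 : WT := (.node (nat_lit 8) (.leaf (nat_lit 17410) [nat_lit 319, nat_lit 232, nat_lit 319]) (.leaf (nat_lit 25602) [nat_lit 290, nat_lit 232, nat_lit 290]))
noncomputable def r135 : WT := (.leaf (nat_lit 56322) [nat_lit 203, nat_lit 174, nat_lit 145, nat_lit 116, nat_lit 87, nat_lit 58, nat_lit 232, nat_lit 203, nat_lit 174, nat_lit 145, nat_lit 116, nat_lit 87, nat_lit 58, nat_lit 232, nat_lit 203, nat_lit 174, nat_lit 145, nat_lit 116, nat_lit 87, nat_lit 58, nat_lit 232, nat_lit 203, nat_lit 174, nat_lit 145, nat_lit 116, nat_lit 87, nat_lit 58, nat_lit 232, nat_lit 203, nat_lit 174, nat_lit 145, nat_lit 116, nat_lit 87, nat_lit 58, nat_lit 232, nat_lit 203, nat_lit 174, nat_lit 145, nat_lit 116, nat_lit 87, nat_lit 58, nat_lit 232, nat_lit 203, nat_lit 174, nat_lit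 145, nat_lit 116, nat_lit 87, nat_lit 58, nat_lit 232, nat_lit 203, nat_lit 174, nat_lit 145, nat_lit 116, nat_lit 87, nat_lit 58, nat_lit 232, nat_lit 203, nat_lit 174, nat_lit 145, nat_lit 116, nat_lit 87, nat_lit 58, nat_lit 319])
noncomputable def r136 : WT := (.leaf (nat_lit 56333) [nat_lit 58, nat_lit 87, nat_lit 116, nat_lit 145, nat_lit 174, nat_lit 203, nat_lit 232, nat_lit 58, nat_lit 87, nat_lit 116, nat_lit 145, nat_lit 174, nat_lit 203, nat_lit 232, nat_lit 58, nat_lit 87, nat_lit 116, nat_lit 145, nat_lit 174, nat_lit 203, nat_lit 232, nat_lit 58, nat_lit 87, nat_lit 116, nat_lit 145, nat_lit 174, nat_lit 203, nat_lit 232, nat_lit 58, nat_lit 87, nat_lit 116, nat_lit 145, nat_lit 174, nat_lit 203, nat_lit 232, nat_lit 58, nat_lit 87, nat_lit 116, nat_lit 145, nat_lit 174, nat_lit 203, nat_lit 232, nat_lit 58, nat_lit 87, nat_lit 116, nat_lit 145, nat_lit 174, nat_lit 203, nat_lit 232, nat_lit 58, nat_lit 87, nat_lit 116, nat_lit 145, nat_lit 174, nat_lit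 203, nat_lit 232, nat_lit 319, nat_lit 58, nat_lit 87, nat_lit 116, nat_lit 145, nat_lit 174, nat_lit 203])
noncomputable def r137 : WT := (.leaf (nat_lit 56336) [nat_lit 203, nat_lit 174, nat_lit 145, nat_lit 116, nat_lit 87, nat_lit 58, nat_lit 232, nat_lit 203, nat_lit 174, nat_lit 145, nat_lit 116, nat_lit 87, nat_lit 58, nat_lit 232, nat_lit 203, nat_lit 174, nat_lit 145, nat_lit 116, nat_lit 87, nat_lit 58, nat_lit 232, nat_lit 203, nat_lit 174, nat_lit 145, nat_lit 116, nat_lit 87, nat_lit 58, nat_lit 232, nat_lit 203, nat_lit 174, nat_lit 145, nat_lit 116, nat_lit 87, nat_lit 58, nat_lit 232, nat_lit 203, nat_lit 174, nat_lit 145, nat_lit 116, nat_lit 87, nat_lit 58, nat_lit 232, nat_lit 203, nat_lit 174, nat_lit 145, nat_lit 116, nat_lit 87, nat_lit 58, nat_lit 232, nat_lit 203, nat_lit 174, nat_lit 145, nat_lit 116, nat_lit 87, nat_lit 58, nat_lit 319, nat_lit 232, nat_lit 203, nat_lit 174, nat_lit 145, nat_lit 116, nat_lit 87, nat_lit 58])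
noncomputable def r138 : WT := (.leaf (nat_lit 56417) [nat_lit 58, nat_lit 87, nat_lit 116, nat_lit 145, nat_lit 174, nat_lit 203, nat_lit 232, nat_lit 58, nat_lit 87, nat_lit 116, nat_lit 145, nat_lit 174, nat_lit 203, nat_lit 232, nat_lit 319, nat_lit 58, nat_lit 87, nat_lit 116, nat_lit 145, nat_lit 174, nat_lit 203, nat_lit 232, nat_lit 58, nat_lit 87, nat_lit 116, nat_lit 145, nat_lit 174, nat_lit 203, nat_lit 232, nat_lit 58, nat_lit 87, nat_lit 116, nat_lit 145, nat_lit 174, nat_lit 203, nat_lit 232, nat_lit 58, nat_lit 87, nat_lit 116, nat_lit 145, nat_lit 174, nat_lit 203, nat_lit 232, nat_lit 58, nat_lit 87, nat_lit 116, nat_lit 145, nat_lit 174, nat_lit 203, nat_lit 232, nat_lit 58, nat_lit 87, nat_lit 116, nat_lit 145, nat_lit 174, nat_lit 203, nat_lit 232, nat_lit 58, nat_lit 87, nat_lit 116, nat_lit 145, nat_lit 174, nat_lit 203])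
noncomputable def r139 : WT := (.node (nat_lit 13) r137 r138)
noncomputable def r140 : WT := (.leaf (nat_lit 56445) [nat_lit 319, nat_lit 58, nat_lit 87, nat_lit 116, nat_lit 145, nat_lit 174, nat_lit 203, nat_lit 232, nat_lit 58, nat_lit 87, nat_lit 116, nat_lit 145, nat_lit 174, nat_lit 203, nat_lit 232, nat_lit 58, nat_lit 87, nat_lit 116, nat_lit 145, nat_lit 174, nat_lit 203, nat_lit 232, nat_lit 58, nat_lit 87, nat_lit 116, nat_lit 145, nat_lit 174, nat_lit 203, nat_lit 232, nat_lit 58, nat_lit 87, nat_lit 116, nat_lit 145, nat_lit 174, nat_lit 203, nat_lit 232, nat_lit 58, nat_lit 87, nat_lit 116, nat_lit 145, nat_lit 174, nat_lit 203, nat_lit 232, nat_lit 58, nat_lit 87, nat_lit 116, nat_lit 145, nat_lit 174, nat_lit 203, nat_lit 232, nat_lit 58, nat_lit 87, nat_lit 116, nat_lit 145, nat_lit 174, nat_lit 203, nat_lit 232, nat_lit 58, nat_lit 87, nat_lit 116, nat_lit 145, nat_lit 174, nat_lit 203])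
noncomputable def r141 : WT := (.leaf (nat_lit 56392) [nat_lit 203, nat_lit 174, nat_lit 145, nat_lit 116, nat_lit 87, nat_lit 58, nat_lit 232, nat_lit 203, nat_lit 174, nat_lit 145, nat_lit 116, nat_lit 87, nat_lit 58, nat_lit 232, nat_lit 203, nat_lit 174, nat_lit 145, nat_lit 116, nat_lit 87, nat_lit 58, nat_lit 232, nat_lit 203, nat_lit 174, nat_lit 145, nat_lit 116, nat_lit 87, nat_lit 58, nat_lit 319, nat_lit 232, nat_lit 203, nat_lit 174, nat_lit 145, nat_lit 116, nat_lit 87, nat_lit 58, nat_lit 232, nat_lit 203, nat_lit 174, nat_lit 145, nat_lit 116, nat_lit 87, nat_lit 58, nat_lit 232, nat_lit 203, nat_lit 174, nat_lit 145, nat_lit 116, nat_lit 87, nat_lit 58, nat_lit 232, nat_lit 203, nat_lit 174, nat_lit 145, nat_lit 116, nat_lit 87, nat_lit 58, nat_lit 232, nat_lit 203, nat_lit 174, nat_lit 145, nat_lit 116, nat_lit 87, nat_lit 58])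
noncomputable def r142 : WT := (.node (nat_lit 15) r140 r141)
noncomputable def r143 : WT := (.leaf (nat_lit 56347) [nat_lit 58, nat_lit 87, nat_lit 116, nat_lit 145, nat_lit 174, nat_lit 203, nat_lit 232, nat_lit 58, nat_lit 87, nat_lit 116, nat_lit 145, nat_lit 174, nat_lit 203, nat_lit 232, nat_lit 58, nat_lit 87, nat_lit 116, nat_lit 145, nat_lit 174, nat_lit 203, nat_lit 232, nat_lit 58, nat_lit 87, nat_lit 116, nat_lit 145, nat_lit 174, nat_lit 203, nat_lit 232, nat_lit 58, nat_lit 87, nat_lit 116, nat_lit 145, nat_lit 174, nat_lit 203, nat_lit 232, nat_lit 58, nat_lit 87, nat_lit 116, nat_lit 145, nat_lit 174, nat_lit 203, nat_lit 232, nat_lit 58, nat_lit 87, nat_lit 116, nat_lit 145, nat_lit 174, nat_lit 203, nat_lit 232, nat_lit 319, nat_lit 58, nat_lit 87, nat_lit 116, nat_lit 145, nat_lit 174, nat_lit 203, nat_lit 232, nat_lit 58, nat_lit 87, nat_lit 116, nat_lit 145, nat_lit 174, nat_lit 203])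
noncomputable def r144 : WT := (.leaf (nat_lit 56434) [nat_lit 203, nat_lit 174, nat_lit 145, nat_lit 116, nat_lit 87, nat_lit 58, nat_lit 319, nat_lit 232, nat_lit 203, nat_lit 174, nat_lit 145, nat_lit 116, nat_lit 87, nat_lit 58, nat_lit 232, nat_lit 203, nat_lit 174, nat_lit 145, nat_lit 116, nat_lit 87, nat_lit 58, nat_lit 232, nat_lit 203, nat_lit 174, nat_lit 145, nat_lit 116, nat_lit 87, nat_lit 58, nat_lit 232, nat_lit 203, nat_lit 174, nat_lit 145, nat_lit 116, nat_lit 87, nat_lit 58, nat_lit 232, nat_lit 203, nat_lit 174, nat_lit 145, nat_lit 116, nat_lit 87, nat_lit 58, nat_lit 232, nat_lit 203, nat_lit 174, nat_lit 145, nat_lit 116, nat_lit 87, nat_lit 58, nat_lit 232, nat_lit 203, nat_lit 174, nat_lit 145, nat_lit 116, nat_lit 87, nat_lit 58, nat_lit 232, nat_lit 203, nat_lit 174, nat_lit 145, nat_lit 116, nat_lit 87, nat_lit 58])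
noncomputable def r145 : WT := (.leaf (nat_lit 56350) [nat_lit 203, nat_lit 174, nat_lit 145, nat_lit 116, nat_lit 87, nat_lit 58, nat_lit 232, nat_lit 203, nat_lit 174, nat_lit 145, nat_lit 116, nat_lit 87, nat_lit 58, nat_lit 232, nat_lit 203, nat_lit 174, nat_lit 145, nat_lit 116, nat_lit 87, nat_lit 58, nat_lit 232, nat_lit 203, nat_lit 174, nat_lit 145, nat_lit 116, nat_lit 87, nat_lit 58, nat_lit 232, nat_lit 203, nat_lit 174, nat_lit 145, nat_lit 116, nat_lit 87, nat_lit 58, nat_lit 232, nat_lit 203, nat_lit 174, nat_lit 145, nat_lit 116, nat_lit 87, nat_lit 58, nat_lit 232, nat_lit 203, nat_lit 174, nat_lit 145, nat_lit 116, nat_lit 87, nat_lit 58, nat_lit 319, nat_lit 232, nat_lit 203, nat_lit 174, nat_lit 145, nat_lit 116, nat_lit 87, nat_lit 58, nat_lit 232, nat_lit 203, nat_lit 174, nat_lit 145, nat_lit 116, nat_lit 87, nat_lit 58])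
noncomputable def r146 : WT := (.leaf (nat_lit 56406) [nat_lit 203, nat_lit 174, nat_lit 145, nat_lit 116, nat_lit 87, nat_lit 58, nat_lit 232, nat_lit 203, nat_lit 174, nat_lit 145, nat_lit 116, nat_lit 87, nat_lit 58, nat_lit 232, nat_lit 203, nat_lit 174, nat_lit 145, nat_lit 116, nat_lit 87, nat_lit 58, nat_lit 319, nat_lit 232, nat_lit 203, nat_lit 174, nat_lit 145, nat_lit 116, nat_lit 87, nat_lit 58, nat_lit 232, nat_lit 203, nat_lit 174, nat_lit 145, nat_lit 116, nat_lit 87, nat_lit 58, nat_lit 232, nat_lit 203, nat_lit 174, nat_lit 145, nat_lit 116, nat_lit 87, nat_lit 58, nat_lit 232, nat_lit 203, nat_lit 174, nat_lit 145, nat_lit 116, nat_lit 87, nat_lit 58, nat_lit 232, nat_lit 203, nat_lit 174, nat_lit 145, nat_lit 116, nat_lit 87, nat_lit 58, nat_lit 232, nat_lit 203, nat_lit 174, nat_lit 145, nat_lit 116, nat_lit 87, nat_lit 58])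
noncomputable def r147 : WT := (.node (nat_lit 18) (.node (nat_lit 17) r143 r144) (.node (nat_lit 19) r145 r146))
noncomputable def r148 : WT := (.leaf (nat_lit 56420) [nat_lit 203, nat_lit 174, nat_lit 145, nat_lit 116, nat_lit 87, nat_lit 58, nat_lit 232, nat_lit 203, nat_lit 174, nat_lit 145, nat_lit 116, nat_lit 87, nat_lit 58, nat_lit 319, nat_lit 232, nat_lit 203, nat_lit 174, nat_lit 145, nat_lit 116, nat_lit 87, nat_lit 58, nat_lit 232, nat_lit 203, nat_lit 174, nat_lit 145, nat_lit 116, nat_lit 87, nat_lit 58, nat_lit 232, nat_lit 203, nat_lit 174, nat_lit 145, nat_lit 116, nat_lit 87, nat_lit 58, nat_lit 232, nat_lit 203, nat_lit 174, nat_lit 145, nat_lit 116, nat_lit 87, nat_lit 58, nat_lit 232, nat_lit 203, nat_lit 174, nat_lit 145, nat_lit 116, nat_lit 87, nat_lit 58, nat_lit 232, nat_lit 203, nat_lit 174, nat_lit 145, nat_lit 116, nat_lit 87, nat_lit 58, nat_lit 232, nat_lit 203, nat_lit 174, nat_lit 145, nat_lit 116, nat_lit 87, nat_lit 58])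
noncomputable def r149 : WT := (.leaf (nat_lit 56364) [nat_lit 203, nat_lit 174, nat_lit 145, nat_lit 116, nat_lit 87, nat_lit 58, nat_lit 232, nat_lit 203, nat_lit 174, nat_lit 145, nat_lit 116, nat_lit 87, nat_lit 58, nat_lit 232, nat_lit 203, nat_lit 174, nat_lit 145, nat_lit 116, nat_lit 87, nat_lit 58, nat_lit 232, nat_lit 203, nat_lit 174, nat_lit 145, nat_lit 116, nat_lit 87, nat_lit 58, nat_lit 232, nat_lit 203, nat_lit 174, nat_lit 145, nat_lit 116, nat_lit 87, nat_lit 58, nat_lit 232, nat_lit 203, nat_lit 174, nat_lit 145, nat_lit 116, nat_lit 87, nat_lit 58, nat_lit 319, nat_lit 232, nat_lit 203, nat_lit 174, nat_lit 145, nat_lit 116, nat_lit 87, nat_lit 58, nat_lit 232, nat_lit 203, nat_lit 174, nat_lit 145, nat_lit 116, nat_lit 87, nat_lit 58, nat_lit 232, nat_lit 203, nat_lit 174, nat_lit 145, nat_lit 116, nat_lit 87, nat_lit 58])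
noncomputable def r150 : WT := (.leaf (nat_lit 56431) [nat_lit 58, nat_lit 87, nat_lit 116, nat_lit 145, nat_lit 174, nat_lit 203, nat_lit 232, nat_lit 319, nat_lit 58, nat_lit 87, nat_lit 116, nat_lit 145, nat_lit 174, nat_lit 203, nat_lit 232, nat_lit 58, nat_lit 87, nat_lit 116, nat_lit 145, nat_lit 174, nat_lit 203, nat_lit 232, nat_lit 58, nat_lit 87, nat_lit 116, nat_lit 145, nat_lit 174, nat_lit 203, nat_lit 232, nat_lit 58, nat_lit 87, nat_lit 116, nat_lit 145, nat_lit 174, nat_lit 203, nat_lit 232, nat_lit 58, nat_lit 87, nat_lit 116, nat_lit 145, nat_lit 174, nat_lit 203, nat_lit 232, nat_lit 58, nat_lit 87, nat_lit 116, nat_lit 145, nat_lit 174, nat_lit 203, nat_lit 232, nat_lit 58, nat_lit 87, nat_lit 116, nat_lit 145, nat_lit 174, nat_lit 203, nat_lit 232, nat_lit 58, nat_lit 87, nat_lit 116, nat_lit 145, nat_lit 174, nat_lit 203])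
noncomputable def r151 : WT := (.leaf (nat_lit 56378) [nat_lit 203, nat_lit 174, nat_lit 145, nat_lit 116, nat_lit 87, nat_lit 58, nat_lit 232, nat_lit 203, nat_lit 174, nat_lit 145, nat_lit 116, nat_lit 87, nat_lit 58, nat_lit 232, nat_lit 203, nat_lit 174, nat_lit 145, nat_lit 116, nat_lit 87, nat_lit 58, nat_lit 232, nat_lit 203, nat_lit 174, nat_lit 145, nat_lit 116, nat_lit 87, nat_lit 58, nat_lit 232, nat_lit 203, nat_lit 174, nat_lit 145, nat_lit 116, nat_lit 87, nat_lit 58, nat_lit 319, nat_lit 232, nat_lit 203, nat_lit 174, nat_lit 145, nat_lit 116, nat_lit 87, nat_lit 58, nat_lit 232, nat_lit 203, nat_lit 174, nat_lit 145, nat_lit 116, nat_lit 87, nat_lit 58, nat_lit 232, nat_lit 203, nat_lit 174, nat_lit 145, nat_lit 116, nat_lit 87, nat_lit 58, nat_lit 232, nat_lit 203, nat_lit 174, nat_lit 145, nat_lit 116, nat_lit 87, nat_lit 58])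
noncomputable def r152 : WT := (.leaf (nat_lit 56375) [nat_lit 58, nat_lit 87, nat_lit 116, nat_lit 145, nat_lit 174, nat_lit 203, nat_lit 232, nat_lit 58, nat_lit 87, nat_lit 116, nat_lit 145, nat_lit 174, nat_lit 203, nat_lit 232, nat_lit 58, nat_lit 87, nat_lit 116, nat_lit 145, nat_lit 174, nat_lit 203, nat_lit 232, nat_lit 58, nat_lit 87, nat_lit 116, nat_lit 145, nat_lit 174, nat_lit 203, nat_lit 232, nat_lit 58, nat_lit 87, nat_lit 116, nat_lit 145, nat_lit 174, nat_lit 203, nat_lit 232, nat_lit 319, nat_lit 58, nat_lit 87, nat_lit 116, nat_lit 145, nat_lit 174, nat_lit 203, nat_lit 232, nat_lit 58, nat_lit 87, nat_lit 116, nat_lit 145, nat_lit 174, nat_lit 203, nat_lit 232, nat_lit 58, nat_lit 87, nat_lit 116, nat_lit 145, nat_lit 174, nat_lit 203, nat_lit 232, nat_lit 58, nat_lit 87, nat_lit 116, nat_lit 145, nat_lit 174, nat_lit 203])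
noncomputable def r153 : WT := (.leaf (nat_lit 56389) [nat_lit 58, nat_lit 87, nat_lit 116, nat_lit 145, nat_lit 174, nat_lit 203, nat_lit 232, nat_lit 58, nat_lit 87, nat_lit 116, nat_lit 145, nat_lit 174, nat_lit 203, nat_lit 232, nat_lit 58, nat_lit 87, nat_lit 116, nat_lit 145, nat_lit 174, nat_lit 203, nat_lit 232, nat_lit 58, nat_lit 87, nat_lit 116, nat_lit 145, nat_lit 174, nat_lit 203, nat_lit 232, nat_lit 319, nat_lit 58, nat_lit 87, nat_lit 116, nat_lit 145, nat_lit 174, nat_lit 203, nat_lit 232, nat_lit 58, nat_lit 87, nat_lit 116, nat_lit 145, nat_lit 174, nat_lit 203, nat_lit 232, nat_lit 58, nat_lit 87, nat_lit 116, nat_lit 145, nat_lit 174, nat_lit 203, nat_lit 232, nat_lit 58, nat_lit 87, nat_lit 116, nat_lit 145, nat_lit 174, nat_lit 203, nat_lit 232, nat_lit 58, nat_lit 87, nat_lit 116, nat_lit 145, nat_lit 174, nat_lit 203])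
noncomputable def r154 : WT := (.leaf (nat_lit 56403) [nat_lit 58, nat_lit 87, nat_lit 116, nat_lit 145, nat_lit 174, nat_lit 203, nat_lit 232, nat_lit 58, nat_lit 87, nat_lit 116, nat_lit 145, nat_lit 174, nat_lit 203, nat_lit 232, nat_lit 58, nat_lit 87, nat_lit 116, nat_lit 145, nat_lit 174, nat_lit 203, nat_lit 232, nat_lit 319, nat_lit 58, nat_lit 87, nat_lit 116, nat_lit 145, nat_lit 174, nat_lit 203, nat_lit 232, nat_lit 58, nat_lit 87, nat_lit 116, nat_lit 145, nat_lit 174, nat_lit 203, nat_lit 232, nat_lit 58, nat_lit 87, nat_lit 116, nat_lit 145, nat_lit 174, nat_lit 203, nat_lit 232, nat_lit 58, nat_lit 87, nat_lit 116, nat_lit 145, nat_lit 174, nat_lit 203, nat_lit 232, nat_lit 58, nat_lit 87, nat_lit 116, nat_lit 145, nat_lit 174, nat_lit 203, nat_lit 232, nat_lit 58, nat_lit 87, nat_lit 116, nat_lit 145, nat_lit 174, nat_lit 203])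
noncomputable def r155 : WT := (.node (nat_lit 23) (.node (nat_lit 21) r148 (.node (nat_lit 22) r149 r150)) (.node (nat_lit 25) (.node (nat_lit 24) r151 r152) (.node (nat_lit 26) r153 r154)))
noncomputable def r156 : WT := (.node (nat_lit 10) (.leaf (nat_lit 48130) [nat_lit 145, nat_lit 232, nat_lit 145, nat_lit 232, nat_lit 145]) (.node (nat_lit 12) (.node (nat_lit 11) r135 r136) (.node (nat_lit 16) (.node (nat_lit 14) r139 r142) (.node (nat_lit 20) r147 r155))))
noncomputable def w6 : WT := (.node (nat_lit 1) (.leaf (nat_lit 6144) [nat_lit 232]) (.node (nat_lit 4) (.node (nat_lit 2) (.leaf (nat_lit 53250) [nat_lit 203, nat_lit 232, nat_lit 203]) (.node (nat_lit 3) (.leaf (nat_lit 51202) [nat_lit 174, nat_lit 232, nat_lit 174]) (.leaf (nat_lit 55296) [nat_lit 261, nat_lit 232, nat_lit 261, nat_lit 232, nat_lit 261]))) (.node (nat_lit 7) (.node (nat_lit 5) (.leaf (nat_lit 32770) [nat_lit 58, nat_lit 232, nat_lit 58]) r133) (.node (nat_lit 9) r134 r156))))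
noncomputable def r157 : WT := (.node (nat_lit 6) (.leaf (nat_lit 18434) [nat_lit 319, nat_lit 261, nat_lit 319]) (.leaf (nat_lit 39938) [nat_lit 87, nat_lit 261, nat_lit 87]))
noncomputable def r158 : WT := (.node (nat_lit 9) (.leaf (nat_lit 26626) [nat_lit 290, nat_lit 261, nat_lit 290]) (.leaf (nat_lit 45058) [nat_lit 116, nat_lit 261, nat_lit 116]))
noncomputable def w7 : WT := (.node (nat_lit 1) (.leaf (nat_lit 7168) [nat_lit 261]) (.node (nat_lit 4) (.node (nat_lit 2) (.leaf (nat_lit 55298) [nat_lit 232, nat_lit 261, nat_lit 232, nat_lit 261, nat_lit 232]) (.node (nat_lit 3) (.leaf (nat_lit 54274) [nat_lit 203, nat_lit 261, nat_lit 203]) (.leaf (nat_lit 52226) [nat_lit 174, nat_lit 261, nat_lit 174]))) (.node (nat_lit 7) (.node (nat_lit 5) (.leaf (nat_lit 33794) [nat_lit 58, nat_lit 261, nat_lit 58]) r157) (.node (nat_lit 8) (.leaf (nat_lit 49154) [nat_lit 145, nat_lit 261, nat_lit 145]) r158))))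
noncomputable def r159 : WT := (.node (nat_lit 6) (.leaf (nat_lit 19456) [nat_lit 58, nat_lit 290, nat_lit 58, nat_lit 290, nat_lit 58]) (.leaf (nat_lit 10242) [nat_lit 319, nat_lit 290, nat_lit 319, nat_lit 290, nat_lit 319]))
noncomputable def r160 : WT := (.node (nat_lit 9) (.leaf (nat_lit 22528) [nat_lit 145, nat_lit 290, nat_lit 145]) (.leaf (nat_lit 20480) [nat_lit 87, nat_lit 290, nat_lit 87]))
noncomputable def w8 : WT := (.node (nat_lit 1) (.leaf (nat_lit 8192) [nat_lit 290]) (.node (nat_lit 4) (.node (nat_lit 2) (.leaf (nat_lit 26624) [nat_lit 261, nat_lit 290, nat_lit 261]) (.node (nat_lit 3) (.leaf (nat_lit 25600) [nat_lit 232, nat_lit 290, nat_lit 232]) (.leaf (nat_lit 24576) [nat_lit 203, nat_lit 290, nat_lit 203]))) (.node (nat_lit 7) (.node (nat_lit 5) (.leaf (nat_lit 23552) [nat_lit 174, nat_lit 290, nat_lit 174]) r159) (.node (nat_lit 8) (.leaf (nat_lit 21504) [nat_lit 116, nat_lit 290, nat_lit 116]) r160))))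
noncomputable def r161 : WT := (.node (nat_lit 6) (.leaf (nat_lit 14336) [nat_lit 145, nat_lit 319, nat_lit 145]) (.leaf (nat_lit 12288) [nat_lit 87, nat_lit 319, nat_lit 87]))
noncomputable def r162 : WT := (.leaf (nat_lit 56320) [nat_lit 232, nat_lit 203, nat_lit 174, nat_lit 145, nat_lit 116, nat_lit 87, nat_lit 58, nat_lit 232, nat_lit 203, nat_lit 174, nat_lit 145, nat_lit 116, nat_lit 87, nat_lit 58, nat_lit 232, nat_lit 203, nat_lit 174, nat_lit 145, nat_lit 116, nat_lit 87, nat_lit 58, nat_lit 232, nat_lit 203, nat_lit 174, nat_lit 145, nat_lit 116, nat_lit 87, nat_lit 58, nat_lit 232, nat_lit 203, nat_lit 174, nat_lit 145, nat_lit 116, nat_lit 87, nat_lit 58, nat_lit 232, nat_lit 203, nat_lit 174, nat_lit 145, nat_lit 116, nat_lit 87, nat_lit 58, nat_lit 232, nat_lit 203, nat_lit 174, nat_lit 145, nat_lit 116, nat_lit 87, nat_lit 58, nat_lit 232, nat_lit 203, nat_lit 174, nat_lit 145, nat_lit 116, nat_lit 87, nat_lit 58, nat_lit 232, nat_lit 203, nat_lit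 174, nat_lit 145, nat_lit 116, nat_lit 87, nat_lit 58])
noncomputable def r163 : WT := (.leaf (nat_lit 56447) [nat_lit 58, nat_lit 87, nat_lit 116, nat_lit 145, nat_lit 174, nat_lit 203, nat_lit 232, nat_lit 58, nat_lit 87, nat_lit 116, nat_lit 145, nat_lit 174, nat_lit 203, nat_lit 232, nat_lit 58, nat_lit 87, nat_lit 116, nat_lit 145, nat_lit 174, nat_lit 203, nat_lit 232, nat_lit 58, nat_lit 87, nat_lit 116, nat_lit 145, nat_lit 174, nat_lit 203, nat_lit 232, nat_lit 58, nat_lit 87, nat_lit 116, nat_lit 145, nat_lit 174, nat_lit 203, nat_lit 232, nat_lit 58, nat_lit 87, nat_lit 116, nat_lit 145, nat_lit 174, nat_lit 203, nat_lit 232, nat_lit 58, nat_lit 87, nat_lit 116, nat_lit 145, nat_lit 174, nat_lit 203, nat_lit 232, nat_lit 58, nat_lit 87, nat_lit 116, nat_lit 145, nat_lit 174, nat_lit 203, nat_lit 232, nat_lit 58, nat_lit 87, nat_lit 116, nat_lit 145, nat_lit 174, nat_lit 203, nat_lit 232])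
noncomputable def r164 : WT := (.node (nat_lit 8) (.leaf (nat_lit 10240) [nat_lit 290, nat_lit 319, nat_lit 290, nat_lit 319, nat_lit 290]) (.node (nat_lit 9) (.leaf (nat_lit 11264) [nat_lit 58, nat_lit 319, nat_lit 58]) (.node (nat_lit 10) (.leaf (nat_lit 13312) [nat_lit 116, nat_lit 319, nat_lit 116]) (.node (nat_lit 11) r162 r163))))
noncomputable def w9 : WT := (.node (nat_lit 1) (.leaf (nat_lit 9216) [nat_lit 319]) (.node (nat_lit 3) (.node (nat_lit 2) (.leaf (nat_lit 18432) [nat_lit 261, nat_lit 319, nat_lit 261]) (.leaf (nat_lit 17408) [nat_lit 232, nat_lit 319, nat_lit 232])) (.node (nat_lit 5) (.node (nat_lit 4) (.leaf (nat_lit 16384) [nat_lit 203, nat_lit 319, nat_lit 203]) (.leaf (nat_lit 15360) [nat_lit 174, nat_lit 319, nat_lit 174])) (.node (nat_lit 7) r161 r164))))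
noncomputable def r165 : WT := (.leaf (nat_lit 56320) [nat_lit 319, nat_lit 232, nat_lit 203, nat_lit 174, nat_lit 145, nat_lit 116, nat_lit 87, nat_lit 58, nat_lit 232, nat_lit 203, nat_lit 174, nat_lit 145, nat_lit 116, nat_lit 87, nat_lit 58, nat_lit 232, nat_lit 203, nat_lit 174, nat_lit 145, nat_lit 116, nat_lit 87, nat_lit 58, nat_lit 232, nat_lit 203, nat_lit 174, nat_lit 145, nat_lit 116, nat_lit 87, nat_lit 58, nat_lit 232, nat_lit 203, nat_lit 174, nat_lit 145, nat_lit 116, nat_lit 87, nat_lit 58, nat_lit 232, nat_lit 203, nat_lit 174, nat_lit 145, nat_lit 116, nat_lit 87, nat_lit 58, nat_lit 232, nat_lit 203, nat_lit 174, nat_lit 145, nat_lit 116, nat_lit 87, nat_lit 58, nat_lit 232, nat_lit 203, nat_lit 174, nat_lit 145, nat_lit 116, nat_lit 87, nat_lit 58, nat_lit 232, nat_lit 203, nat_lit 174, nat_lit 145, nat_lit 116, nat_lit 87, nat_lit 58])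
noncomputable def wP : WT := r165
noncomputable def P : Par := ⟨tb, nat_lit 348, nat_lit 0xfffffffffffffffffffffffffffffffffffffffffffffffffffffffffffffffffffffffffffffffffffffff, nat_lit 28433, nat_lit 536870911, nat_lit 32767, nat_lit 29, nat_lit 15, nat_lit 28431,
  [nat_lit 58, nat_lit 87, nat_lit 116, nat_lit 145, nat_lit 174, nat_lit 203, nat_lit 232, nat_lit 261, nat_lit 290, nat_lit 319], [nat_lit 58, nat_lit 87, nat_lit 116, nat_lit 145, nat_lit 174, nat_lit 203, nat_lit 232, nat_lit 290], wP,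
  (.cons (nat_lit 58) w0 (.cons (nat_lit 87) w1 (.cons (nat_lit 116) w2 (.cons (nat_lit 145) w3 (.cons (nat_lit 174) w4 (.cons (nat_lit 203) w5 (.cons (nat_lit 232) w6 (.cons (nat_lit 261) w7 (.cons (nat_lit 290) w8 (.cons (nat_lit 319) w9 .nil)))))))))),
  .nil⟩

end Cfsg.Agent.Lib.TCFi24B
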