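import Cfsg.Agent.Lib.TCFi24CD0

set_option autoImplicit false
set_option maxRecDepth 100000

namespace Cfsg.Agent.Lib.TCFi24C
open Cfsg.Agent.Lib.TCCore

noncomputable def tb : T := (.node (nat_lit 124) l0 l1)
noncomputable def r0 : WT := (.leaf (nat_lit 46094) [nat_lit 112, nat_lit 98, nat_lit 84, nat_lit 70, nat_lit 56, nat_lit 42, nat_lit 28, nat_lit 112, nat_lit 98, nat_lit 84, nat_lit 70, nat_lit 56, nat_lit 42, nat_lit 28, nat_lit 112, nat_lit 98, nat_lit 84, nat_lit 70, nat_lit 56, nat_lit 42, nat_lit 28, nat_lit 112, nat_lit 98, nat_lit 84, nat_lit 70, nat_lit 56, nat_lit 42, nat_lit 28, nat_lit 112, nat_lit 98, nat_lit 84, nat_lit 70, nat_lit 56, nat_lit 42, nat_lit 28, nat_lit 112, nat_lit 98, nat_lit 84, nat_lit 70, nat_lit 56, nat_lit 42, nat_lit 28, nat_lit 112, nat_lit 98, nat_lit 84, nat_lit 70, nat_lit 56, nat_lit 42, nat_lit 28, nat_lit 112, nat_lit 98, nat_lit 84, nat_lit 70, nat_lit 56, nat_lit 42, nat_lit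 28, nat_lit 140, nat_lit 112, nat_lit 98, nat_lit 84, nat_lit 70, nat_lit 56, nat_lit 42])
noncomputable def r1 : WT := (.node (nat_lit 8) (.leaf (nat_lit 10242) [nat_lit 140, nat_lit 28, nat_lit 140]) (.node (nat_lit 9) (.leaf (nat_lit 17410) [nat_lit 126, nat_lit 28, nat_lit 126, nat_lit 28, nat_lit 126]) r0))
noncomputable def w0 : WT := (.node (nat_lit 3) (.node (nat_lit 1) (.leaf (nat_lit 0) [nat_lit 28]) (.node (nat_lit 2) (.leaf (nat_lit 26624) [nat_lit 70, nat_lit 28, nat_lit 70]) (.leaf (nat_lit 27648) [nat_lit 84, nat_lit 28, nat_lit 84]))) (.node (nat_lit 5) (.node (nat_lit 4) (.leaf (nat_lit 25600) [nat_lit 56, nat_lit 28, nat_lit 56]) (.leaf (nat_lit 29696) [nat_lit 112, nat_lit 28, nat_lit 112])) (.node (nat_lit 6) (.leaf (nat_lit 24576) [nat_lit 42, nat_lit 28, nat_lit 42, nat_lit 28, nat_lit 42]) (.node (nat_lit 7) (.leaf (nat_lit 28672) [nat_lit 98, nat_lit 28, nat_lit 98]) r1))))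
noncomputable def r2 : WT := (.node (nat_lit 8) (.leaf (nat_lit 24578) [nat_lit 28, nat_lit 42, nat_lit 28, nat_lit 42, nat_lit 28]) (.leaf (nat_lit 11266) [nat_lit 140, nat_lit 42, nat_lit 140]))
noncomputable def w1 : WT := (.node (nat_lit 2) (.node (nat_lit 1) (.leaf (nat_lit 1024) [nat_lit 42]) (.leaf (nat_lit 32768) [nat_lit 84, nat_lit 42, nat_lit 84])) (.node (nat_lit 5) (.node (nat_lit 3) (.leaf (nat_lit 31744) [nat_lit 70, nat_lit 42, nat_lit 70]) (.node (nat_lit 4) (.leaf (nat_lit 30720) [nat_lit 56, nat_lit 42, nat_lit 56, nat_lit 42, nat_lit 56]) (.leaf (nat_lit 33792) [nat_lit 98, nat_lit 42, nat_lit 98]))) (.node (nat_lit 6) (.leaf (nat_lit 34816) [nat_lit 112, nat_lit 42, nat_lit 112]) (.node (nat_lit 7) (.leaf (nat_lit 18434) [nat_lit 126, nat_lit 42, nat_lit 126]) r2))))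
noncomputable def r3 : WT := (.leaf (nat_lit 46099) [nat_lit 70, nat_lit 84, nat_lit 98, nat_lit 112, nat_lit 28, nat_lit 42, nat_lit 56, nat_lit 70, nat_lit 84, nat_lit 98, nat_lit 112, nat_lit 28, nat_lit 42, nat_lit 56, nat_lit 70, nat_lit 84, nat_lit 98, nat_lit 112, nat_lit 28, nat_lit 42, nat_lit 56, nat_lit 70, nat_lit 84, nat_lit 98, nat_lit 112, nat_lit 28, nat_lit 42, nat_lit 56, nat_lit 70, nat_lit 84, nat_lit 98, nat_lit 112, nat_lit 28, nat_lit 42, nat_lit 56, nat_lit 70, nat_lit 84, nat_lit 98, nat_lit 112, nat_lit 28, nat_lit 42, nat_lit 56, nat_lit 70, nat_lit 84, nat_lit 98, nat_lit 112, nat_lit 28, nat_lit 42, nat_lit 56, nat_lit 70, nat_lit 84, nat_lit 98, nat_lit 112, nat_lit 140, nat_lit 28, nat_lit 42, nat_lit 56, nat_lit 70, nat_lit 84, nat_lit 98, nat_lit 112, nat_lit 28, nat_lit 42])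
noncomputable def r4 : WT := (.node (nat_lit 9) (.leaf (nat_lit 12290) [nat_lit 140, nat_lit 56, nat_lit 140]) r3)
noncomputable def w2 : WT := (.node (nat_lit 3) (.node (nat_lit 1) (.leaf (nat_lit 2048) [nat_lit 56]) (.node (nat_lit 2) (.leaf (nat_lit 36864) [nat_lit 84, nat_lit 56, nat_lit 84]) (.leaf (nat_lit 25602) [nat_lit 28, nat_lit 56, nat_lit 28]))) (.node (nat_lit 5) (.node (nat_lit 4) (.leaf (nat_lit 38912) [nat_lit 112, nat_lit 56, nat_lit 112]) (.leaf (nat_lit 35840) [nat_lit 70, nat_lit 56, nat_lit 70, nat_lit 56, nat_lit 70])) (.node (nat_lit 7) (.node (nat_lit 6) (.leaf (nat_lit 37888) [nat_lit 98, nat_lit 56, nat_lit 98]) (.leaf (nat_lit 19458) [nat_lit 126, nat_lit 56, nat_lit 126])) (.node (nat_lit 8) (.leaf (nat_lit 30722) [nat_lit 42, nat_lit 56, nat_lit 42, nat_lit 56, nat_lit 42]) r4))))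
noncomputable def r5 : WT := (.node (nat_lit 8) (.leaf (nat_lit 35842) [nat_lit 56, nat_lit 70, nat_lit 56, nat_lit 70, nat_lit 56]) (.leaf (nat_lit 13314) [nat_lit 140, nat_lit 70, nat_lit 140]))
noncomputable def w3 : WT := (.node (nat_lit 2) (.node (nat_lit 1) (.leaf (nat_lit 3072) [nat_lit 70]) (.leaf (nat_lit 31746) [nat_lit 42, nat_lit 70, nat_lit 42])) (.node (nat_lit 4) (.node (nat_lit 3) (.leaf (nat_lit 40960) [nat_lit 98, nat_lit 70, nat_lit 98]) (.leaf (nat_lit 20482) [nat_lit 126, nat_lit 70, nat_lit 126])) (.node (nat_lit 6) (.node (nat_lit 5) (.leaf (nat_lit 39936) [nat_lit 84, nat_lit 70, nat_lit 84, nat_lit 70, nat_lit 84]) (.leaf (nat_lit 26626) [nat_lit 28, nat_lit 70, nat_lit 28])) (.node (nat_lit 7) (.leaf (nat_lit 41984) [nat_lit 112, nat_lit 70, nat_lit 112, nat_lit 70, nat_lit 112]) r5))))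
noncomputable def r6 : WT := (.node (nat_lit 8) (.leaf (nat_lit 43008) [nat_lit 98, nat_lit 84, nat_lit 98, nat_lit 84, nat_lit 98]) (.leaf (nat_lit 14338) [nat_lit 140, nat_lit 84, nat_lit 140]))
noncomputable def w4 : WT := (.node (nat_lit 3) (.node (nat_lit 1) (.leaf (nat_lit 4096) [nat_lit 84]) (.node (nat_lit 2) (.leaf (nat_lit 32770) [nat_lit 42, nat_lit 84, nat_lit 42]) (.leaf (nat_lit 36866) [nat_lit 56, nat_lit 84, nat_lit 56]))) (.node (nat_lit 5) (.node (nat_lit 4) (.leaf (nat_lit 21506) [nat_lit 126, nat_lit 84, nat_lit 126]) (.leaf (nat_lit 27650) [nat_lit 28, nat_lit 84, nat_lit 28])) (.node (nat_lit 6) (.leaf (nat_lit 44032) [nat_lit 112, nat_lit 84, nat_lit 112]) (.node (nat_lit 7) (.leaf (nat_lit 39938) [nat_lit 70, nat_lit 84, nat_lit 70, nat_lit 84, nat_lit 70]) r6))))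
noncomputable def r7 : WT := (.node (nat_lit 8) (.leaf (nat_lit 43010) [nat_lit 84, nat_lit 98, nat_lit 84, nat_lit 98, nat_lit 84]) (.leaf (nat_lit 15362) [nat_lit 140, nat_lit 98, nat_lit 140]))
noncomputable def w5 : WT := (.node (nat_lit 3) (.node (nat_lit 1) (.leaf (nat_lit 5120) [nat_lit 98]) (.node (nat_lit 2) (.leaf (nat_lit 33794) [nat_lit 42, nat_lit 98, nat_lit 42]) (.leaf (nat_lit 37890) [nat_lit 56, nat_lit 98, nat_lit 56]))) (.node (nat_lit 5) (.node (nat_lit 4) (.leaf (nat_lit 40962) [nat_lit 70, nat_lit 98, nat_lit 70]) (.leaf (nat_lit 28674) [nat_lit 28, nat_lit 98, nat_lit 28])) (.node (nat_lit 6) (.leaf (nat_lit 45056) [nat_lit 112, nat_lit 98, nat_lit 112]) (.node (nat_lit 7) (.leaf (nat_lit 22530) [nat_lit 126, nat_lit 98, nat_lit 126]) r7))))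
noncomputable def r8 : WT := (.node (nat_lit 8) (.leaf (nat_lit 41986) [nat_lit 70, nat_lit 112, nat_lit 70, nat_lit 112, nat_lit 70]) (.leaf (nat_lit 16386) [nat_lit 140, nat_lit 112, nat_lit 140]))
noncomputable def w6 : WT := (.node (nat_lit 3) (.node (nat_lit 1) (.leaf (nat_lit 6144) [nat_lit 112]) (.node (nat_lit 2) (.leaf (nat_lit 34818) [nat_lit 42, nat_lit 112, nat_lit 42]) (.leaf (nat_lit 29698) [nat_lit 28, nat_lit 112, nat_lit 28]))) (.node (nat_lit 5) (.node (nat_lit 4) (.leaf (nat_lit 44034) [nat_lit 84, nat_lit 112, nat_lit 84]) (.leaf (nat_lit 45058) [nat_lit 98, nat_lit 112, nat_lit 98])) (.node (nat_lit 6) (.leaf (nat_lit 23554) [nat_lit 126, nat_lit 112, nat_lit 126]) (.node (nat_lit 7) (.leaf (nat_lit 38914) [nat_lit 56, nat_lit 112, nat_lit 56]) r8))))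
noncomputable def w7 : WT := (.node (nat_lit 3) (.node (nat_lit 1) (.leaf (nat_lit 7168) [nat_lit 126]) (.node (nat_lit 2) (.leaf (nat_lit 18432) [nat_lit 42, nat_lit 126, nat_lit 42]) (.leaf (nat_lit 21504) [nat_lit 84, nat_lit 126, nat_lit 84]))) (.node (nat_lit 5) (.node (nat_lit 4) (.leaf (nat_lit 19456) [nat_lit 56, nat_lit 126, nat_lit 56]) (.leaf (nat_lit 20480) [nat_lit 70, nat_lit 126, nat_lit 70])) (.node (nat_lit 6) (.leaf (nat_lit 22528) [nat_lit 98, nat_lit 126, nat_lit 98]) (.node (nat_lit 7) (.leaf (nat_lit 23552) [nat_lit 112, nat_lit 126, nat_lit 112]) (.leaf (nat_lit 17408) [nat_lit 28, nat_lit 126, nat_lit 28, nat_lit 126, nat_lit 28])))))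
noncomputable def w8 : WT := (.node (nat_lit 3) (.node (nat_lit 1) (.leaf (nat_lit 8192) [nat_lit 140]) (.node (nat_lit 2) (.leaf (nat_lit 14336) [nat_lit 84, nat_lit 140, nat_lit 84]) (.leaf (nat_lit 11264) [nat_lit 42, nat_lit 140, nat_lit 42]))) (.node (nat_lit 6) (.node (nat_lit 4) (.leaf (nat_lit 12288) [nat_lit 56, nat_lit 140, nat_lit 56]) (.node (nat_lit 5) (.leaf (nat_lit 15360) [nat_lit 98, nat_lit 140, nat_lit 98]) (.leaf (nat_lit 9216) [nat_lit 126, nat_lit 140, nat_lit 126, nat_lit 140, nat_lit 126]))) (.node (nat_lit 7) (.leaf (nat_lit 10240) [nat_lit 28, nat_lit 140, nat_lit 28]) (.node (nat_lit 8) (.leaf (nat_lit 13312) [nat_lit 70, nat_lit 140, nat_lit 70]) (.leaf (nat_lit 16384) [nat_lit 112, nat_lit 140, nat_lit 112])))))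
noncomputable def r9 : WT := (.leaf (nat_lit 46080) [nat_lit 140, nat_lit 112, nat_lit 98, nat_lit 84, nat_lit 70, nat_lit 56, nat_lit 42, nat_lit 28, nat_lit 112, nat_lit 98, nat_lit 84, nat_lit 70, nat_lit 56, nat_lit 42, nat_lit 28, nat_lit 112, nat_lit 98, nat_lit 84, nat_lit 70, nat_lit 56, nat_lit 42, nat_lit 28, nat_lit 112, nat_lit 98, nat_lit 84, nat_lit 70, nat_lit 56, nat_lit 42, nat_lit 28, nat_lit 112, nat_lit 98, nat_lit 84, nat_lit 70, nat_lit 56, nat_lit 42, nat_lit 28, nat_lit 112, nat_lit 98, nat_lit 84, nat_lit 70, nat_lit 56, nat_lit 42, nat_lit 28, nat_lit 112, nat_lit 98, nat_lit 84, nat_lit 70, nat_lit 56, nat_lit 42, nat_lit 28, nat_lit 112, nat_lit 98, nat_lit 84, nat_lit 70, nat_lit 56, nat_lit 42, nat_lit 28, nat_lit 112, nat_lit 98, nat_lit 84, nat_lit 70, nat_lit 56, nat_lit 42, nat_lit 28])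
noncomputable def wP : WT := (.node (nat_lit 1) (.leaf (nat_lit 17408) [nat_lit 126, nat_lit 28, nat_lit 126, nat_lit 28, nat_lit 126, nat_lit 28]) r9)
noncomputable def P : Par := ⟨tb, nat_lit 154, nat_lit 0x3ffffffffffffffffffffffffffffffffffffff, nat_lit 152, nat_lit 16383, nat_lit 255, nat_lit 14, nat_lit 8, nat_lit 120,
  [nat_lit 28, nat_lit 42, nat_lit 56, nat_lit 70, nat_lit 84, nat_lit 98, nat_lit 112, nat_lit 126, nat_lit 140], [nat_lit 28, nat_lit 42, nat_lit 56, nat_lit 70, nat_lit 84, nat_lit 98, nat_lit 112], wP,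
  (.cons (nat_lit 28) w0 (.cons (nat_lit 42) w1 (.cons (nat_lit 56) w2 (.cons (nat_lit 70) w3 (.cons (nat_lit 84) w4 (.cons (nat_lit 98) w5 (.cons (nat_lit 112) w6 (.cons (nat_lit 126) w7 (.cons (nat_lit 140) w8 .nil))))))))),
  .nil⟩

end Cfsg.Agent.Lib.TCFi24C
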