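import Cfsg.Agent.Lib.TCDefs

set_option autoImplicit false
set_option maxRecDepth 100000

namespace Cfsg.Agent.Lib.TCFiA4
open Cfsg.Agent.Lib.TCCore

noncomputable def l0 : T := .leaf (nat_lit 0) (nat_lit 0x73bdef9eeb06dfff8105df16d16fb3dbbffe0276bad751ceee73fff8105bed4c77fc33d3ffe01a639cf6dae2d75fff81059e92e25f93bdbffe0275b8c7a58e6c6ffff81057e50eb6fa2bc3ffe01a537bfb1ddab71fff81055e09ea6f733cbffe0343f69541cdeff7fff80d10dc4bd7b843e3ffe0346f341c17867ebfff80690cf1713aea1b3ffe027772a9bd99e969fff80691d1272531a7abffe0414b4a19d2c8de5fff80d11d68e83ef339bffe0277361b94888d67fff809ded47661dc39a3ffe0273f1a3593d0cb7fff81050c8761574af2fffe03442fcdccec2bd4fff809cdc07e33f12b2bffe0413b09d5ccbe9b4fff809d1c45da370231bffe0343aea1550cebc2fff8104fbc6dc3f5ab07ffe0343ac9d74cb69b0fff809cbb547436e231fffe04132d997cab27c5fff809cfb84d82ed1abfffe03432a95648ae5aefff809caac7e026c0ecbffe01a2eba5909aa331fff8068db08de2ab0eb7ffe01a56359d8da6c62fff809d36a6523aa2327ffe0344501b4cba27c8fff809cf757773291543ffe01a35d97b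899c5d1fff809cd704ce6b51733ffe0342d6153caa044dfff806893e3cc364133bffe03419b113499664ffff810476e4ca2a6318fffe04121a152cb92b61fff81045663c8325254fffe04110f1124e9a852fff8104a8b575211a56fffe0275aa111466a95ffff809cb8e4c61cea16bffe0271e196ac9cc53ffff81048883276361103ffe0341e096b4a7ec5efff81048843302202d77ffe0341df8a949824c3fff80d088031b2e11713ffe03431ce1e0f484bdfff806887856d2d394fbffe04125e8eec94c539fff80d0ea043c19610ebffe0274288ee45404bbfff809cd7c43a18d16f3ffe0273a78ca88ca436fff80d089633121b3593ffe0341e60a6496e4b8fff80d14a62961e310cfffe0342650ec8966a60fff80d069221529a12d7ffe03421890d0628457fff809c9643b71498f5bffe0271d78f04544a5cfff809c8604ae10e1d67ffe02725694bc722658fff809ca5c6421881157ffe0273270ea477629ffff8068a50644195126fffe0272148ee0756299fff806895442c1d40863ffe01a2d58e9885228efff806874c3c331e8a97ffe01a21390a0a7820dfff806841a3401908c9fffe04128d108d07c721fff80d073a4a4263988bffe04110e0c846606a3fff81043183a21d29e93ffe0414a9082867431efff80d0a9a21818f0cb3ffe034164062473e3a0fff80d084631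72229473ffe034151062055e59dfff80d051c3bf20794afffe0412d20a2c77240cfff80d06303361090cabffe0271cc8a7c3062a9fff809c71639d14b1023ffe0271050cd462e315fff81043122b31428e5bffe0411498e14764491fff81046282121988e43ffe0340c18a4c53228ffff81046204062171453ffe0411c88a3c75a413fff80d040831024d8c4bffe04118d8834608328fff80d054a28e0c60a9bffe027110841c41a49afff80d082e31a1050c1fffe02714b0a80516189fff806842a21e081082bffe027083887060c497fff810431018c0408e2fffe0271409244710185fff806820441418a881bffe0411478a0471c183fff806842410210c0813ffe0340c2860c312081fff806860c304083840bffe000)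

end Cfsg.Agent.Lib.TCFiA4
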