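import Cfsg.Agent.Lib.TCFiAD0

set_option autoImplicit false
set_option maxRecDepth 100000

namespace Cfsg.Agent.Lib.TCFiA
open Cfsg.Agent.Lib.TCCore

noncomputable def n0 : T := (.node (nat_lit 248) (.node (nat_lit 124) (.node (nat_lit 62) l0 l1) (.node (nat_lit 186) l2 l3)) (.node (nat_lit 372) (.node (nat_lit 310) l4 l5) (.node (nat_lit 434) l6 (.node (nat_lit 496) l7 l8))))
noncomputable def n1 : T := (.node (nat_lit 806) (.node (nat_lit 682) (.node (nat_lit 620) l9 l10) (.node (nat_lit 744) l11 l12)) (.node (nat_lit 930) (.node (nat_lit 868) l13 l14) (.node (nat_lit 992) l15 (.node (nat_lit 1054) l16 l17))))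
noncomputable def n2 : T := (.node (nat_lit 1364) (.node (nat_lit 1240) (.node (nat_lit 1178) l18 l19) (.node (nat_lit 1302) l20 l21)) (.node (nat_lit 1488) (.node (nat_lit 1426) l22 l23) (.node (nat_lit 1550) l24 (.node (nat_lit 1612) l25 l26))))
noncomputable def n3 : T := (.node (nat_lit 1922) (.node (nat_lit 1798) (.node (nat_lit 1736) l27 l28) (.node (nat_lit 1860) l29 l30)) (.node (nat_lit 2046) (.node (nat_lit 1984) l31 l32) (.node (nat_lit 2108) l33 (.node (nat_lit 2170) l34 l35))))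
noncomputable def n4 : T := (.node (nat_lit 2480) (.node (nat_lit 2356) (.node (nat_lit 2294) l36 l37) (.node (nat_lit 2418) l38 l39)) (.node (nat_lit 2604) (.node (nat_lit 2542) l40 l41) (.node (nat_lit 2666) l42 (.node (nat_lit 2728) l43 l44))))
noncomputable def n5 : T := (.node (nat_lit 3038) (.node (nat_lit 2914) (.node (nat_lit 2852) l45 l46) (.node (nat_lit 2976) l47 l48)) (.node (nat_lit 3162) (.node (nat_lit 3100) l49 l50) (.node (nat_lit 3224) l51 (.node (nat_lit 3286) l52 l53))))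
noncomputable def n6 : T := (.node (nat_lit 3596) (.node (nat_lit 3472) (.node (nat_lit 3410) l54 l55) (.node (nat_lit 3534) l56 l57)) (.node (nat_lit 3720) (.node (nat_lit 3658) l58 l59) (.node (nat_lit 3782) l60 (.node (nat_lit 3844) l61 l62))))
noncomputable def n7 : T := (.node (nat_lit 4216) (.node (nat_lit 4030) (.node (nat_lit 3968) l63 l64) (.node (nat_lit 4092) l65 (.node (nat_lit 4154) l66 l67))) (.node (nat_lit 4340) (.node (nat_lit 4278) l68 l69) (.node (nat_lit 4402) l70 (.node (nat_lit 4464) l71 l72))))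
noncomputable def n8 : T := (.node (nat_lit 4774) (.node (nat_lit 4650) (.node (nat_lit 4588) l73 l74) (.node (nat_lit 4712) l75 l76)) (.node (nat_lit 4898) (.node (nat_lit 4836) l77 l78) (.node (nat_lit 4960) l79 (.node (nat_lit 5022) l80 l81))))
noncomputable def n9 : T := (.node (nat_lit 5332) (.node (nat_lit 5208) (.node (nat_lit 5146) l82 l83) (.node (nat_lit 5270) l84 l85)) (.node (nat_lit 5456) (.node (nat_lit 5394) l86 l87) (.node (nat_lit 5518) l88 (.node (nat_lit 5580) l89 l90))))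
noncomputable def n10 : T := (.node (nat_lit 5890) (.node (nat_lit 5766) (.node (nat_lit 5704) l91 l92) (.node (nat_lit 5828) l93 l94)) (.node (nat_lit 6014) (.node (nat_lit 5952) l95 l96) (.node (nat_lit 6076) l97 (.node (nat_lit 6138) l98 l99))))
noncomputable def n11 : T := (.node (nat_lit 6448) (.node (nat_lit 6324) (.node (nat_lit 6262) l100 l101) (.node (nat_lit 6386) l102 l103)) (.node (nat_lit 6572) (.node (nat_lit 6510) l104 l105) (.node (nat_lit 6634) l106 (.node (nat_lit 6696) l107 l108))))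
noncomputable def n12 : T := (.node (nat_lit 7006) (.node (nat_lit 6882) (.node (nat_lit 6820) l109 l110) (.node (nat_lit 6944) l111 l112)) (.node (nat_lit 7130) (.node (nat_lit 7068) l113 l114) (.node (nat_lit 7192) l115 (.node (nat_lit 7254) l116 l117))))
noncomputable def n13 : T := (.node (nat_lit 7564) (.node (nat_lit 7440) (.node (nat_lit 7378) l118 l119) (.node (nat_lit 7502) l120 l121)) (.node (nat_lit 7688) (.node (nat_lit 7626) l122 l123) (.node (nat_lit 7750) l124 (.node (nat_lit 7812) l125 l126))))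
noncomputable def n14 : T := (.node (nat_lit 8122) (.node (nat_lit 7998) (.node (nat_lit 7936) l127 l128) (.node (nat_lit 8060) l129 l130)) (.node (nat_lit 8246) (.node (nat_lit 8184) l131 l132) (.node (nat_lit 8308) l133 (.node (nat_lit 8370) l134 l135))))
noncomputable def n15 : T := (.node (nat_lit 8742) (.node (nat_lit 8556) (.node (nat_lit 8494) l136 l137) (.node (nat_lit 8618) l138 (.node (nat_lit 8680) l139 l140))) (.node (nat_lit 8866) (.node (nat_lit 8804) l141 l142) (.node (nat_lit 8928) l143 (.node (nat_lit 8990) l144 l145))))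
noncomputable def n16 : T := (.node (nat_lit 9300) (.node (nat_lit 9176) (.node (nat_lit 9114) l146 l147) (.node (nat_lit 9238) l148 l149)) (.node (nat_lit 9424) (.node (nat_lit 9362) l150 l151) (.node (nat_lit 9486) l152 (.node (nat_lit 9548) l153 l154))))
noncomputable def n17 : T := (.node (nat_lit 9858) (.node (nat_lit 9734) (.node (nat_lit 9672) l155 l156) (.node (nat_lit 9796) l157 l158)) (.node (nat_lit 9982) (.node (nat_lit 9920) l159 l160) (.node (nat_lit 10044) l161 (.node (nat_lit 10106) l162 l163))))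
noncomputable def n18 : T := (.node (nat_lit 10416) (.node (nat_lit 10292) (.node (nat_lit 10230) l164 l165) (.node (nat_lit 10354) l166 l167)) (.node (nat_lit 10540) (.node (nat_lit 10478) l168 l169) (.node (nat_lit 10602) l170 (.node (nat_lit 10664) l171 l172))))
noncomputable def n19 : T := (.node (nat_lit 10974) (.node (nat_lit 10850) (.node (nat_lit 10788) l173 l174) (.node (nat_lit 10912) l175 l176)) (.node (nat_lit 11098) (.node (nat_lit 11036) l177 l178) (.node (nat_lit 11160) l179 (.node (nat_lit 11222) l180 l181))))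
noncomputable def n20 : T := (.node (nat_lit 11532) (.node (nat_lit 11408) (.node (nat_lit 11346) l182 l183) (.node (nat_lit 11470) l184 l185)) (.node (nat_lit 11656) (.node (nat_lit 11594) l186 l187) (.node (nat_lit 11718) l188 (.node (nat_lit 11780) l189 l190))))
noncomputable def n21 : T := (.node (nat_lit 12090) (.node (nat_lit 11966) (.node (nat_lit 11904) l191 l192) (.node (nat_lit 12028) l193 l194)) (.node (nat_lit 12214) (.node (nat_lit 12152) l195 l196) (.node (nat_lit 12276) l197 (.node (nat_lit 12338) l198 l199))))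
noncomputable def n22 : T := (.node (nat_lit 12648) (.node (nat_lit 12524) (.node (nat_lit 12462) l200 l201) (.node (nat_lit 12586) l202 l203)) (.node (nat_lit 12772) (.node (nat_lit 12710) l204 l205) (.node (nat_lit 12834) l206 (.node (nat_lit 12896) l207 l208))))
noncomputable def n23 : T := (.node (nat_lit 13268) (.node (nat_lit 13082) (.node (nat_lit 13020) l209 l210) (.node (nat_lit 13144) l211 (.node (nat_lit 13206) l212 l213))) (.node (nat_lit 13392) (.node (nat_lit 13330) l214 l215) (.node (nat_lit 13454) l216 (.node (nat_lit 13516) l217 l218))))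
noncomputable def n24 : T := (.node (nat_lit 13826) (.node (nat_lit 13702) (.node (nat_lit 13640) l219 l220) (.node (nat_lit 13764) l221 l222)) (.node (nat_lit 13950) (.node (nat_lit 13888) l223 l224) (.node (nat_lit 14012) l225 (.node (nat_lit 14074) l226 l227))))
noncomputable def n25 : T := (.node (nat_lit 14384) (.node (nat_lit 14260) (.node (nat_lit 14198) l228 l229) (.node (nat_lit 14322) l230 l231)) (.node (nat_lit 14508) (.node (nat_lit 14446) l232 l233) (.node (nat_lit 14570) l234 (.node (nat_lit 14632) l235 l236))))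
noncomputable def n26 : T := (.node (nat_lit 14942) (.node (nat_lit 14818) (.node (nat_lit 14756) l237 l238) (.node (nat_lit 14880) l239 l240)) (.node (nat_lit 15066) (.node (nat_lit 15004) l241 l242) (.node (nat_lit 15128) l243 (.node (nat_lit 15190) l244 l245))))
noncomputable def n27 : T := (.node (nat_lit 15500) (.node (nat_lit 15376) (.node (nat_lit 15314) l246 l247) (.node (nat_lit 15438) l248 l249)) (.node (nat_lit 15624) (.node (nat_lit 15562) l250 l251) (.node (nat_lit 15686) l252 (.node (nat_lit 15748) l253 l254))))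
noncomputable def n28 : T := (.node (nat_lit 16058) (.node (nat_lit 15934) (.node (nat_lit 15872) l255 l256) (.node (nat_lit 15996) l257 l258)) (.node (nat_lit 16182) (.node (nat_lit 16120) l259 l260) (.node (nat_lit 16244) l261 (.node (nat_lit 16306) l262 l263))))
noncomputable def n29 : T := (.node (nat_lit 16616) (.node (nat_lit 16492) (.node (nat_lit 16430) l264 l265) (.node (nat_lit 16554) l266 l267)) (.node (nat_lit 16740) (.node (nat_lit 16678) l268 l269) (.node (nat_lit 16802) l270 (.node (nat_lit 16864) l271 l272))))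
noncomputable def n30 : T := (.node (nat_lit 17174) (.node (nat_lit 17050) (.node (nat_lit 16988) l273 l274) (.node (nat_lit 17112) l275 l276)) (.node (nat_lit 17298) (.node (nat_lit 17236) l277 l278) (.node (nat_lit 17360) l279 (.node (nat_lit 17422) l280 l281))))
noncomputable def n31 : T := (.node (nat_lit 17794) (.node (nat_lit 17608) (.node (nat_lit 17546) l282 l283) (.node (nat_lit 17670) l284 (.node (nat_lit 17732) l285 l286))) (.node (nat_lit 17918) (.node (nat_lit 17856) l287 l288) (.node (nat_lit 17980) l289 (.node (nat_lit 18042) l290 l291))))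
noncomputable def tb : T := (.node (nat_lit 9052) (.node (nat_lit 4526) (.node (nat_lit 2232) (.node (nat_lit 1116) (.node (nat_lit 558) n0 n1) (.node (nat_lit 1674) n2 n3)) (.node (nat_lit 3348) (.node (nat_lit 2790) n4 n5) (.node (nat_lit 3906) n6 n7))) (.node (nat_lit 6758) (.node (nat_lit 5642) (.node (nat_lit 5084) n8 n9) (.node (nat_lit 6200) n10 n11)) (.node (nat_lit 7874) (.node (nat_lit 7316) n12 n13) (.node (nat_lit 8432) n14 n15)))) (.node (nat_lit 13578) (.node (nat_lit 11284) (.node (nat_lit 10168) (.node (nat_lit 9610) n16 n17) (.node (nat_lit 10726) n18 n19)) (.node (nat_lit 12400) (.node (nat_lit 11842) n20 n21) (.node (nat_lit 12958) n22 n23))) (.node (nat_lit 15810) (.node (nat_lit 14694) (.node (nat_lit 14136) n24 n25) (.node (nat_lit 15252) n26 n27)) (.node (nat_lit 16926) (.node (nat_lit 16368) n28 n29) (.node (nat_lit 17484) n30 n31)))))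
noncomputable def r0 : WT := (.leaf (nat_lit 47117) [nat_lit 252, nat_lit 196, nat_lit 168, nat_lit 140, nat_lit 112, nat_lit 84, nat_lit 56, nat_lit 252, nat_lit 196, nat_lit 168, nat_lit 140, nat_lit 112, nat_lit 84, nat_lit 56, nat_lit 252, nat_lit 196, nat_lit 168, nat_lit 140, nat_lit 112, nat_lit 84, nat_lit 56, nat_lit 252, nat_lit 196, nat_lit 168, nat_lit 140, nat_lit 112, nat_lit 84, nat_lit 56, nat_lit 252, nat_lit 196, nat_lit 168, nat_lit 140, nat_lit 112, nat_lit 84, nat_lit 56, nat_lit 252, nat_lit 196, nat_lit 168, nat_lit 140, nat_lit 112, nat_lit 84, nat_lit 56, nat_lit 252, nat_lit 196, nat_lit 168, nat_lit 140, nat_lit 112, nat_lit 84, nat_lit 56, nat_lit 252, nat_lit 196, nat_lit 168, nat_lit 140, nat_lit 112, nat_lit 84, nat_lit 56, nat_lit 252, nat_lit 196, nat_lit 168, nat_lit 140, nat_lit 112, nat_lit 84])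
noncomputable def r1 : WT := (.leaf (nat_lit 47104) [nat_lit 84, nat_lit 112, nat_lit 140, nat_lit 168, nat_lit 196, nat_lit 252, nat_lit 56, nat_lit 84, nat_lit 112, nat_lit 140, nat_lit 168, nat_lit 196, nat_lit 252, nat_lit 56, nat_lit 84, nat_lit 112, nat_lit 140, nat_lit 168, nat_lit 196, nat_lit 252, nat_lit 56, nat_lit 84, nat_lit 112, nat_lit 140, nat_lit 168, nat_lit 196, nat_lit 252, nat_lit 56, nat_lit 84, nat_lit 112, nat_lit 140, nat_lit 168, nat_lit 196, nat_lit 252, nat_lit 56, nat_lit 84, nat_lit 112, nat_lit 140, nat_lit 168, nat_lit 196, nat_lit 252, nat_lit 56, nat_lit 84, nat_lit 112, nat_lit 140, nat_lit 168, nat_lit 196, nat_lit 252, nat_lit 56, nat_lit 84, nat_lit 112, nat_lit 140, nat_lit 168, nat_lit 196, nat_lit 252, nat_lit 56, nat_lit 84, nat_lit 112, nat_lit 140, nat_lit 168, nat_lit 196, nat_lit 252])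
noncomputable def r2 : WT := (.node (nat_lit 8) (.leaf (nat_lit 11264) [nat_lit 140, nat_lit 56, nat_lit 140]) (.node (nat_lit 9) (.leaf (nat_lit 12288) [nat_lit 168, nat_lit 56, nat_lit 168]) (.node (nat_lit 10) r0 r1)))
noncomputable def w0 : WT := (.node (nat_lit 1) (.leaf (nat_lit 0) [nat_lit 56]) (.node (nat_lit 4) (.node (nat_lit 2) (.leaf (nat_lit 16384) [nat_lit 280, nat_lit 56, nat_lit 280]) (.node (nat_lit 3) (.leaf (nat_lit 15360) [nat_lit 252, nat_lit 56, nat_lit 252]) (.leaf (nat_lit 14336) [nat_lit 224, nat_lit 56, nat_lit 224]))) (.node (nat_lit 6) (.node (nat_lit 5) (.leaf (nat_lit 9216) [nat_lit 84, nat_lit 56, nat_lit 84, nat_lit 56, nat_lit 84]) (.leaf (nat_lit 13312) [nat_lit 196, nat_lit 56, nat_lit 196])) (.node (nat_lit 7) (.leaf (nat_lit 10240) [nat_lit 112, nat_lit 56, nat_lit 112]) r2))))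
noncomputable def r3 : WT := (.leaf (nat_lit 46084) [nat_lit 140, nat_lit 168, nat_lit 196, nat_lit 140, nat_lit 252, nat_lit 280, nat_lit 140, nat_lit 112, nat_lit 84, nat_lit 140, nat_lit 168, nat_lit 196, nat_lit 140, nat_lit 252, nat_lit 280, nat_lit 140, nat_lit 112, nat_lit 84, nat_lit 140, nat_lit 168, nat_lit 196, nat_lit 140, nat_lit 252, nat_lit 280, nat_lit 140, nat_lit 112, nat_lit 84, nat_lit 140, nat_lit 168, nat_lit 196, nat_lit 140, nat_lit 252, nat_lit 280, nat_lit 140, nat_lit 112, nat_lit 84, nat_lit 140, nat_lit 168, nat_lit 196, nat_lit 140, nat_lit 252, nat_lit 280, nat_lit 140, nat_lit 112, nat_lit 84, nat_lit 140, nat_lit 168, nat_lit 196, nat_lit 140, nat_lit 252, nat_lit 280, nat_lit 140, nat_lit 112, nat_lit 84, nat_lit 140, nat_lit 168, nat_lit 196, nat_lit 140, nat_lit 252, nat_lit 280, nat_lit 140, nat_lit 112, nat_lit 84, nat_lit 140, nat_lit 168, nat_lit 196, nat_lit 140, nat_lit 252, nat_lit 280, nat_lit 140, nat_lit 112, nat_lit 84,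 nat_lit 140, nat_lit 168, nat_lit 196, nat_lit 140, nat_lit 252, nat_lit 280, nat_lit 140, nat_lit 112, nat_lit 84, nat_lit 140, nat_lit 168, nat_lit 196, nat_lit 140, nat_lit 252, nat_lit 280, nat_lit 140, nat_lit 112])
noncomputable def r4 : WT := (.leaf (nat_lit 47106) [nat_lit 112, nat_lit 140, nat_lit 168, nat_lit 196, nat_lit 252, nat_lit 56, nat_lit 84, nat_lit 112, nat_lit 140, nat_lit 168, nat_lit 196, nat_lit 252, nat_lit 56, nat_lit 84, nat_lit 112, nat_lit 140, nat_lit 168, nat_lit 196, nat_lit 252, nat_lit 56, nat_lit 84, nat_lit 112, nat_lit 140, nat_lit 168, nat_lit 196, nat_lit 252, nat_lit 56, nat_lit 84, nat_lit 112, nat_lit 140, nat_lit 168, nat_lit 196, nat_lit 252, nat_lit 56, nat_lit 84, nat_lit 112, nat_lit 140, nat_lit 168, nat_lit 196, nat_lit 252, nat_lit 56, nat_lit 84, nat_lit 112, nat_lit 140, nat_lit 168, nat_lit 196, nat_lit 252, nat_lit 56, nat_lit 84, nat_lit 112, nat_lit 140, nat_lit 168, nat_lit 196, nat_lit 252, nat_lit 56, nat_lit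 84, nat_lit 112, nat_lit 140, nat_lit 168, nat_lit 196, nat_lit 252, nat_lit 56])
noncomputable def r5 : WT := (.leaf (nat_lit 47115) [nat_lit 56, nat_lit 252, nat_lit 196, nat_lit 168, nat_lit 140, nat_lit 112, nat_lit 84, nat_lit 56, nat_lit 252, nat_lit 196, nat_lit 168, nat_lit 140, nat_lit 112, nat_lit 84, nat_lit 56, nat_lit 252, nat_lit 196, nat_lit 168, nat_lit 140, nat_lit 112, nat_lit 84, nat_lit 56, nat_lit 252, nat_lit 196, nat_lit 168, nat_lit 140, nat_lit 112, nat_lit 84, nat_lit 56, nat_lit 252, nat_lit 196, nat_lit 168, nat_lit 140, nat_lit 112, nat_lit 84, nat_lit 56, nat_lit 252, nat_lit 196, nat_lit 168, nat_lit 140, nat_lit 112, nat_lit 84, nat_lit 56, nat_lit 252, nat_lit 196, nat_lit 168, nat_lit 140, nat_lit 112, nat_lit 84, nat_lit 56, nat_lit 252, nat_lit 196, nat_lit 168, nat_lit 140, nat_lit 112, nat_lit 84, nat_lit 56, nat_lit 252, nat_lit 196, nat_lit 168, nat_lit 140, nat_lit 112])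
noncomputable def r6 : WT := (.node (nat_lit 8) (.leaf (nat_lit 17408) [nat_lit 112, nat_lit 84, nat_lit 112, nat_lit 84, nat_lit 112]) (.node (nat_lit 9) (.leaf (nat_lit 19456) [nat_lit 168, nat_lit 84, nat_lit 168]) (.node (nat_lit 10) r3 (.node (nat_lit 11) r4 r5))))
noncomputable def w1 : WT := (.node (nat_lit 1) (.leaf (nat_lit 1024) [nat_lit 84]) (.node (nat_lit 4) (.node (nat_lit 2) (.leaf (nat_lit 23552) [nat_lit 280, nat_lit 84, nat_lit 280]) (.node (nat_lit 3) (.leaf (nat_lit 22528) [nat_lit 252, nat_lit 84, nat_lit 252]) (.leaf (nat_lit 21504) [nat_lit 224, nat_lit 84, nat_lit 224]))) (.node (nat_lit 6) (.node (nat_lit 5) (.leaf (nat_lit 9218) [nat_lit 56, nat_lit 84, nat_lit 56, nat_lit 84, nat_lit 56]) (.leaf (nat_lit 20480) [nat_lit 196, nat_lit 84, nat_lit 196])) (.node (nat_lit 7) (.leaf (nat_lit 18432) [nat_lit 140, nat_lit 84, nat_lit 140]) r6))))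
noncomputable def r7 : WT := (.leaf (nat_lit 47108) [nat_lit 140, nat_lit 168, nat_lit 196, nat_lit 252, nat_lit 56, nat_lit 84, nat_lit 112, nat_lit 140, nat_lit 168, nat_lit 196, nat_lit 252, nat_lit 56, nat_lit 84, nat_lit 112, nat_lit 140, nat_lit 168, nat_lit 196, nat_lit 252, nat_lit 56, nat_lit 84, nat_lit 112, nat_lit 140, nat_lit 168, nat_lit 196, nat_lit 252, nat_lit 56, nat_lit 84, nat_lit 112, nat_lit 140, nat_lit 168, nat_lit 196, nat_lit 252, nat_lit 56, nat_lit 84, nat_lit 112, nat_lit 140, nat_lit 168, nat_lit 196, nat_lit 252, nat_lit 56, nat_lit 84, nat_lit 112, nat_lit 140, nat_lit 168, nat_lit 196, nat_lit 252, nat_lit 56, nat_lit 84, nat_lit 112, nat_lit 140, nat_lit 168, nat_lit 196, nat_lit 252, nat_lit 56, nat_lit 84, nat_lit 112, nat_lit 140, nat_lit 168, nat_lit 196, nat_lit 252, nat_lit 56, nat_lit 84])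
noncomputable def r8 : WT := (.leaf (nat_lit 46095) [nat_lit 140, nat_lit 280, nat_lit 252, nat_lit 140, nat_lit 196, nat_lit 168, nat_lit 140, nat_lit 84, nat_lit 112, nat_lit 140, nat_lit 280, nat_lit 252, nat_lit 140, nat_lit 196, nat_lit 168, nat_lit 140, nat_lit 84, nat_lit 112, nat_lit 140, nat_lit 280, nat_lit 252, nat_lit 140, nat_lit 196, nat_lit 168, nat_lit 140, nat_lit 84, nat_lit 112, nat_lit 140, nat_lit 280, nat_lit 252, nat_lit 140, nat_lit 196, nat_lit 168, nat_lit 140, nat_lit 84, nat_lit 112, nat_lit 140, nat_lit 280, nat_lit 252, nat_lit 140, nat_lit 196, nat_lit 168, nat_lit 140, nat_lit 84, nat_lit 112, nat_lit 140, nat_lit 280, nat_lit 252, nat_lit 140, nat_lit 196, nat_lit 168, nat_lit 140, nat_lit 84, nat_lit 112, nat_lit 140, nat_lit 280, nat_lit 252, nat_lit 140, nat_lit 196, nat_lit 168, nat_lit 140, nat_lit 84, nat_lit 112, nat_lit 140, nat_lit 280, nat_lit 252, nat_lit 140, nat_lit 196, nat_lit 168, nat_lit 140, nat_lit 84, nat_lit 112,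 nat_lit 140, nat_lit 280, nat_lit 252, nat_lit 140, nat_lit 196, nat_lit 168, nat_lit 140, nat_lit 84, nat_lit 112, nat_lit 140, nat_lit 280, nat_lit 252, nat_lit 140, nat_lit 196, nat_lit 168, nat_lit 140, nat_lit 84])
noncomputable def r9 : WT := (.leaf (nat_lit 47113) [nat_lit 84, nat_lit 56, nat_lit 252, nat_lit 196, nat_lit 168, nat_lit 140, nat_lit 112, nat_lit 84, nat_lit 56, nat_lit 252, nat_lit 196, nat_lit 168, nat_lit 140, nat_lit 112, nat_lit 84, nat_lit 56, nat_lit 252, nat_lit 196, nat_lit 168, nat_lit 140, nat_lit 112, nat_lit 84, nat_lit 56, nat_lit 252, nat_lit 196, nat_lit 168, nat_lit 140, nat_lit 112, nat_lit 84, nat_lit 56, nat_lit 252, nat_lit 196, nat_lit 168, nat_lit 140, nat_lit 112, nat_lit 84, nat_lit 56, nat_lit 252, nat_lit 196, nat_lit 168, nat_lit 140, nat_lit 112, nat_lit 84, nat_lit 56, nat_lit 252, nat_lit 196, nat_lit 168, nat_lit 140, nat_lit 112, nat_lit 84, nat_lit 56, nat_lit 252, nat_lit 196, nat_lit 168, nat_lit 140, nat_lit 112,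 nat_lit 84, nat_lit 56, nat_lit 252, nat_lit 196, nat_lit 168, nat_lit 140])
noncomputable def r10 : WT := (.leaf (nat_lit 46082) [nat_lit 84, nat_lit 140, nat_lit 168, nat_lit 196, nat_lit 140, nat_lit 252, nat_lit 280, nat_lit 140, nat_lit 112, nat_lit 84, nat_lit 140, nat_lit 168, nat_lit 196, nat_lit 140, nat_lit 252, nat_lit 280, nat_lit 140, nat_lit 112, nat_lit 84, nat_lit 140, nat_lit 168, nat_lit 196, nat_lit 140, nat_lit 252, nat_lit 280, nat_lit 140, nat_lit 112, nat_lit 84, nat_lit 140, nat_lit 168, nat_lit 196, nat_lit 140, nat_lit 252, nat_lit 280, nat_lit 140, nat_lit 112, nat_lit 84, nat_lit 140, nat_lit 168, nat_lit 196, nat_lit 140, nat_lit 252, nat_lit 280, nat_lit 140, nat_lit 112, nat_lit 84, nat_lit 140, nat_lit 168, nat_lit 196, nat_lit 140, nat_lit 252, nat_lit 280, nat_lit 140, nat_lit 112, nat_lit 84, nat_lit 140, nat_lit 168, nat_lit 196, nat_lit 140, nat_lit 252, nat_lit 280, nat_lit 140, nat_lit 112, nat_lit 84, nat_lit 140, nat_lit 168,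 nat_lit 196, nat_lit 140, nat_lit 252, nat_lit 280, nat_lit 140, nat_lit 112, nat_lit 84, nat_lit 140, nat_lit 168, nat_lit 196, nat_lit 140, nat_lit 252, nat_lit 280, nat_lit 140, nat_lit 112, nat_lit 84, nat_lit 140, nat_lit 168, nat_lit 196, nat_lit 140, nat_lit 252, nat_lit 280, nat_lit 140])
noncomputable def r11 : WT := (.node (nat_lit 12) r9 r10)
noncomputable def r12 : WT := (.node (nat_lit 8) (.leaf (nat_lit 10242) [nat_lit 56, nat_lit 112, nat_lit 56]) (.node (nat_lit 9) (.leaf (nat_lit 25600) [nat_lit 168, nat_lit 112, nat_lit 168]) (.node (nat_lit 10) r7 (.node (nat_lit 11) r8 r11))))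
noncomputable def w2 : WT := (.node (nat_lit 1) (.leaf (nat_lit 2048) [nat_lit 112]) (.node (nat_lit 4) (.node (nat_lit 2) (.leaf (nat_lit 29696) [nat_lit 280, nat_lit 112, nat_lit 280]) (.node (nat_lit 3) (.leaf (nat_lit 28672) [nat_lit 252, nat_lit 112, nat_lit 252]) (.leaf (nat_lit 27648) [nat_lit 224, nat_lit 112, nat_lit 224]))) (.node (nat_lit 6) (.node (nat_lit 5) (.leaf (nat_lit 26624) [nat_lit 196, nat_lit 112, nat_lit 196]) (.leaf (nat_lit 17410) [nat_lit 84, nat_lit 112, nat_lit 84, nat_lit 112, nat_lit 84])) (.node (nat_lit 7) (.leaf (nat_lit 24576) [nat_lit 140, nat_lit 112, nat_lit 140, nat_lit 112, nat_lit 140]) r12))))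
noncomputable def r13 : WT := (.leaf (nat_lit 47111) [nat_lit 112, nat_lit 84, nat_lit 56, nat_lit 252, nat_lit 196, nat_lit 168, nat_lit 140, nat_lit 112, nat_lit 84, nat_lit 56, nat_lit 252, nat_lit 196, nat_lit 168, nat_lit 140, nat_lit 112, nat_lit 84, nat_lit 56, nat_lit 252, nat_lit 196, nat_lit 168, nat_lit 140, nat_lit 112, nat_lit 84, nat_lit 56, nat_lit 252, nat_lit 196, nat_lit 168, nat_lit 140, nat_lit 112, nat_lit 84, nat_lit 56, nat_lit 252, nat_lit 196, nat_lit 168, nat_lit 140, nat_lit 112, nat_lit 84, nat_lit 56, nat_lit 252, nat_lit 196, nat_lit 168, nat_lit 140, nat_lit 112, nat_lit 84, nat_lit 56, nat_lit 252, nat_lit 196, nat_lit 168, nat_lit 140, nat_lit 112, nat_lit 84, nat_lit 56, nat_lit 252, nat_lit 196, nat_lit 168, nat_lit 140, nat_lit 112, nat_lit 84, nat_lit 56, nat_lit 252, nat_lit 196, nat_lit 168])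
noncomputable def r14 : WT := (.leaf (nat_lit 47110) [nat_lit 168, nat_lit 196, nat_lit 252, nat_lit 56, nat_lit 84, nat_lit 112, nat_lit 140, nat_lit 168, nat_lit 196, nat_lit 252, nat_lit 56, nat_lit 84, nat_lit 112, nat_lit 140, nat_lit 168, nat_lit 196, nat_lit 252, nat_lit 56, nat_lit 84, nat_lit 112, nat_lit 140, nat_lit 168, nat_lit 196, nat_lit 252, nat_lit 56, nat_lit 84, nat_lit 112, nat_lit 140, nat_lit 168, nat_lit 196, nat_lit 252, nat_lit 56, nat_lit 84, nat_lit 112, nat_lit 140, nat_lit 168, nat_lit 196, nat_lit 252, nat_lit 56, nat_lit 84, nat_lit 112, nat_lit 140, nat_lit 168, nat_lit 196, nat_lit 252, nat_lit 56, nat_lit 84, nat_lit 112, nat_lit 140, nat_lit 168, nat_lit 196, nat_lit 252, nat_lit 56, nat_lit 84, nat_lit 112, nat_lit 140, nat_lit 168, nat_lit 196, nat_lit 252, nat_lit 56, nat_lit 84, nat_lit 112])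
noncomputable def r15 : WT := (.leaf (nat_lit 46091) [nat_lit 84, nat_lit 112, nat_lit 140, nat_lit 280, nat_lit 252, nat_lit 140, nat_lit 196, nat_lit 168, nat_lit 140, nat_lit 84, nat_lit 112, nat_lit 140, nat_lit 280, nat_lit 252, nat_lit 140, nat_lit 196, nat_lit 168, nat_lit 140, nat_lit 84, nat_lit 112, nat_lit 140, nat_lit 280, nat_lit 252, nat_lit 140, nat_lit 196, nat_lit 168, nat_lit 140, nat_lit 84, nat_lit 112, nat_lit 140, nat_lit 280, nat_lit 252, nat_lit 140, nat_lit 196, nat_lit 168, nat_lit 140, nat_lit 84, nat_lit 112, nat_lit 140, nat_lit 280, nat_lit 252, nat_lit 140, nat_lit 196, nat_lit 168, nat_lit 140, nat_lit 84, nat_lit 112, nat_lit 140, nat_lit 280, nat_lit 252, nat_lit 140, nat_lit 196, nat_lit 168, nat_lit 140, nat_lit 84, nat_lit 112, nat_lit 140, nat_lit 280, nat_lit 252, nat_lit 140, nat_lit 196, nat_lit 168, nat_lit 140, nat_lit 84, nat_lit 112, nat_lit 140, nat_lit 280, nat_lit 252, nat_lit 140, nat_lit 196, nat_lit 168, nat_lit 140,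 nat_lit 84, nat_lit 112, nat_lit 140, nat_lit 280, nat_lit 252, nat_lit 140, nat_lit 196, nat_lit 168, nat_lit 140, nat_lit 84, nat_lit 112, nat_lit 140, nat_lit 280, nat_lit 252, nat_lit 140, nat_lit 196, nat_lit 168])
noncomputable def r16 : WT := (.leaf (nat_lit 46085) [nat_lit 196, nat_lit 168, nat_lit 140, nat_lit 84, nat_lit 112, nat_lit 140, nat_lit 280, nat_lit 252, nat_lit 140, nat_lit 196, nat_lit 168, nat_lit 140, nat_lit 84, nat_lit 112, nat_lit 140, nat_lit 280, nat_lit 252, nat_lit 140, nat_lit 196, nat_lit 168, nat_lit 140, nat_lit 84, nat_lit 112, nat_lit 140, nat_lit 280, nat_lit 252, nat_lit 140, nat_lit 196, nat_lit 168, nat_lit 140, nat_lit 84, nat_lit 112, nat_lit 140, nat_lit 280, nat_lit 252, nat_lit 140, nat_lit 196, nat_lit 168, nat_lit 140, nat_lit 84, nat_lit 112, nat_lit 140, nat_lit 280, nat_lit 252, nat_lit 140, nat_lit 196, nat_lit 168, nat_lit 140, nat_lit 84, nat_lit 112, nat_lit 140, nat_lit 280, nat_lit 252, nat_lit 140, nat_lit 196,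 nat_lit 168, nat_lit 140, nat_lit 84, nat_lit 112, nat_lit 140, nat_lit 280, nat_lit 252, nat_lit 140, nat_lit 196, nat_lit 168, nat_lit 140, nat_lit 84, nat_lit 112, nat_lit 140, nat_lit 280, nat_lit 252, nat_lit 140, nat_lit 196, nat_lit 168, nat_lit 140, nat_lit 84, nat_lit 112, nat_lit 140, nat_lit 280, nat_lit 252, nat_lit 140, nat_lit 196, nat_lit 168, nat_lit 140, nat_lit 84, nat_lit 112, nat_lit 140, nat_lit 280, nat_lit 252])
noncomputable def r17 : WT := (.leaf (nat_lit 46097) [nat_lit 280, nat_lit 252, nat_lit 140, nat_lit 196, nat_lit 168, nat_lit 140, nat_lit 84, nat_lit 112, nat_lit 140, nat_lit 280, nat_lit 252, nat_lit 140, nat_lit 196, nat_lit 168, nat_lit 140, nat_lit 84, nat_lit 112, nat_lit 140, nat_lit 280, nat_lit 252, nat_lit 140, nat_lit 196, nat_lit 168, nat_lit 140, nat_lit 84, nat_lit 112, nat_lit 140, nat_lit 280, nat_lit 252, nat_lit 140, nat_lit 196, nat_lit 168, nat_lit 140, nat_lit 84, nat_lit 112, nat_lit 140, nat_lit 280, nat_lit 252,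 nat_lit 140, nat_lit 196, nat_lit 168, nat_lit 140, nat_lit 84, nat_lit 112, nat_lit 140, nat_lit 280, nat_lit 252, nat_lit 140, nat_lit 196, nat_lit 168, nat_lit 140, nat_lit 84, nat_lit 112, nat_lit 140, nat_lit 280, nat_lit 252, nat_lit 140, nat_lit 196, nat_lit 168, nat_lit 140, nat_lit 84, nat_lit 112, nat_lit 140, nat_lit 280, nat_lit 252, nat_lit 140, nat_lit 196, nat_lit 168, nat_lit 140, nat_lit 84, nat_lit 112, nat_lit 140, nat_lit 280, nat_lit 252, nat_lit 140, nat_lit 196, nat_lit 168, nat_lit 140, nat_lit 84, nat_lit 112, nat_lit 140, nat_lit 280, nat_lit 252, nat_lit 140, nat_lit 196, nat_lit 168, nat_lit 140, nat_lit 84, nat_lit 112])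
noncomputable def r18 : WT := (.leaf (nat_lit 46086) [nat_lit 168, nat_lit 196, nat_lit 140, nat_lit 252, nat_lit 280, nat_lit 140, nat_lit 112, nat_lit 84, nat_lit 140, nat_lit 168, nat_lit 196, nat_lit 140, nat_lit 252, nat_lit 280, nat_lit 140, nat_lit 112, nat_lit 84, nat_lit 140, nat_lit 168, nat_lit 196, nat_lit 140, nat_lit 252, nat_lit 280, nat_lit 140, nat_lit 112, nat_lit 84, nat_lit 140, nat_lit 168, nat_lit 196, nat_lit 140, nat_lit 252, nat_lit 280, nat_lit 140, nat_lit 112, nat_lit 84, nat_lit 140, nat_lit 168, nat_lit 196, nat_lit 140, nat_lit 252, nat_lit 280, nat_lit 140, nat_lit 112, nat_lit 84, nat_lit 140, nat_lit 168, nat_lit 196, nat_lit 140, nat_lit 252, nat_lit 280, nat_lit 140, nat_lit 112, nat_lit 84, nat_lit 140, nat_lit 168, nat_lit 196, nat_lit 140, nat_lit 252, nat_lit 280, nat_lit 140, nat_lit 112, nat_lit 84, nat_lit 140, nat_lit 168, nat_lit 196, nat_lit 140, nat_lit 252, nat_lit 280, nat_lit 140, nat_lit 112, nat_lit 84, nat_lit 140,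 nat_lit 168, nat_lit 196, nat_lit 140, nat_lit 252, nat_lit 280, nat_lit 140, nat_lit 112, nat_lit 84, nat_lit 140, nat_lit 168, nat_lit 196, nat_lit 140, nat_lit 252, nat_lit 280, nat_lit 140, nat_lit 112, nat_lit 84])
noncomputable def r19 : WT := (.leaf (nat_lit 46080) [nat_lit 112, nat_lit 84, nat_lit 140, nat_lit 168, nat_lit 196, nat_lit 140, nat_lit 252, nat_lit 280, nat_lit 140, nat_lit 112, nat_lit 84, nat_lit 140, nat_lit 168, nat_lit 196, nat_lit 140, nat_lit 252, nat_lit 280, nat_lit 140, nat_lit 112, nat_lit 84, nat_lit 140, nat_lit 168, nat_lit 196, nat_lit 140, nat_lit 252, nat_lit 280, nat_lit 140, nat_lit 112, nat_lit 84, nat_lit 140, nat_lit 168, nat_lit 196, nat_lit 140, nat_lit 252, nat_lit 280, nat_lit 140, nat_lit 112, nat_lit 84, nat_lit 140, nat_lit 168, nat_lit 196, nat_lit 140, nat_lit 252, nat_lit 280, nat_lit 140, nat_lit 112, nat_lit 84, nat_lit 140, nat_lit 168, nat_lit 196, nat_lit 140, nat_lit 252, nat_lit 280, nat_lit 140, nat_lit 112,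 nat_lit 84, nat_lit 140, nat_lit 168, nat_lit 196, nat_lit 140, nat_lit 252, nat_lit 280, nat_lit 140, nat_lit 112, nat_lit 84, nat_lit 140, nat_lit 168, nat_lit 196, nat_lit 140, nat_lit 252, nat_lit 280, nat_lit 140, nat_lit 112, nat_lit 84, nat_lit 140, nat_lit 168, nat_lit 196, nat_lit 140, nat_lit 252, nat_lit 280, nat_lit 140, nat_lit 112, nat_lit 84, nat_lit 140, nat_lit 168, nat_lit 196, nat_lit 140, nat_lit 252, nat_lit 280])
noncomputable def r20 : WT := (.node (nat_lit 13) (.node (nat_lit 12) r15 r16) (.node (nat_lit 14) r17 (.node (nat_lit 15) r18 r19)))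
noncomputable def r21 : WT := (.node (nat_lit 8) (.leaf (nat_lit 24578) [nat_lit 112, nat_lit 140, nat_lit 112, nat_lit 140, nat_lit 112]) (.node (nat_lit 9) (.leaf (nat_lit 30720) [nat_lit 168, nat_lit 140, nat_lit 168, nat_lit 140, nat_lit 168]) (.node (nat_lit 10) r13 (.node (nat_lit 11) r14 r20))))
noncomputable def w3 : WT := (.node (nat_lit 1) (.leaf (nat_lit 3072) [nat_lit 140]) (.node (nat_lit 4) (.node (nat_lit 2) (.leaf (nat_lit 34816) [nat_lit 280, nat_lit 140, nat_lit 280]) (.node (nat_lit 3) (.leaf (nat_lit 32768) [nat_lit 224, nat_lit 140, nat_lit 224]) (.leaf (nat_lit 31744) [nat_lit 196, nat_lit 140, nat_lit 196]))) (.node (nat_lit 6) (.node (nat_lit 5) (.leaf (nat_lit 18434) [nat_lit 84, nat_lit 140, nat_lit 84]) (.leaf (nat_lit 33792) [nat_lit 252, nat_lit 140, nat_lit 252, nat_lit 140, nat_lit 252])) (.node (nat_lit 7) (.leaf (nat_lit 11266) [nat_lit 56, nat_lit 140, nat_lit 56]) r21))))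
noncomputable def r22 : WT := (.leaf (nat_lit 47109) [nat_lit 140, nat_lit 112, nat_lit 84, nat_lit 56, nat_lit 252, nat_lit 196, nat_lit 168, nat_lit 140, nat_lit 112, nat_lit 84, nat_lit 56, nat_lit 252, nat_lit 196, nat_lit 168, nat_lit 140, nat_lit 112, nat_lit 84, nat_lit 56, nat_lit 252, nat_lit 196, nat_lit 168, nat_lit 140, nat_lit 112, nat_lit 84, nat_lit 56, nat_lit 252, nat_lit 196, nat_lit 168, nat_lit 140, nat_lit 112, nat_lit 84, nat_lit 56, nat_lit 252, nat_lit 196, nat_lit 168, nat_lit 140, nat_lit 112, nat_lit 84, nat_lit 56, nat_lit 252, nat_lit 196, nat_lit 168, nat_lit 140, nat_lit 112, nat_lit 84, nat_lit 56, nat_lit 252, nat_lit 196, nat_lit 168, nat_lit 140, nat_lit 112, nat_lit 84, nat_lit 56, nat_lit 252, nat_lit 196, nat_lit 168, nat_lit 140, nat_lit 112, nat_lit 84, nat_lit 56, nat_lit 252, nat_lit 196])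
noncomputable def r23 : WT := (.leaf (nat_lit 46089) [nat_lit 140, nat_lit 84, nat_lit 112, nat_lit 140, nat_lit 280, nat_lit 252, nat_lit 140, nat_lit 196, nat_lit 168, nat_lit 140, nat_lit 84, nat_lit 112, nat_lit 140, nat_lit 280, nat_lit 252, nat_lit 140, nat_lit 196, nat_lit 168, nat_lit 140, nat_lit 84, nat_lit 112, nat_lit 140, nat_lit 280, nat_lit 252, nat_lit 140, nat_lit 196, nat_lit 168, nat_lit 140, nat_lit 84, nat_lit 112, nat_lit 140, nat_lit 280, nat_lit 252, nat_lit 140, nat_lit 196, nat_lit 168, nat_lit 140, nat_lit 84, nat_lit 112, nat_lit 140, nat_lit 280, nat_lit 252, nat_lit 140, nat_lit 196, nat_lit 168, nat_lit 140, nat_lit 84, nat_lit 112, nat_lit 140, nat_lit 280, nat_lit 252, nat_lit 140, nat_lit 196, nat_lit 168, nat_lit 140, nat_lit 84, nat_lit 112, nat_lit 140, nat_lit 280, nat_lit 252, nat_lit 140, nat_lit 196, nat_lit 168, nat_lit 140, nat_lit 84, nat_lit 112, nat_lit 140, nat_lit 280, nat_lit 252, nat_lit 140, nat_lit 196, nat_lit 168,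 nat_lit 140, nat_lit 84, nat_lit 112, nat_lit 140, nat_lit 280, nat_lit 252, nat_lit 140, nat_lit 196, nat_lit 168, nat_lit 140, nat_lit 84, nat_lit 112, nat_lit 140, nat_lit 280, nat_lit 252, nat_lit 140, nat_lit 196])
noncomputable def r24 : WT := (.leaf (nat_lit 47112) [nat_lit 196, nat_lit 252, nat_lit 56, nat_lit 84, nat_lit 112, nat_lit 140, nat_lit 168, nat_lit 196, nat_lit 252, nat_lit 56, nat_lit 84, nat_lit 112, nat_lit 140, nat_lit 168, nat_lit 196, nat_lit 252, nat_lit 56, nat_lit 84, nat_lit 112, nat_lit 140, nat_lit 168, nat_lit 196, nat_lit 252, nat_lit 56, nat_lit 84, nat_lit 112, nat_lit 140, nat_lit 168, nat_lit 196, nat_lit 252, nat_lit 56, nat_lit 84, nat_lit 112, nat_lit 140, nat_lit 168, nat_lit 196, nat_lit 252, nat_lit 56, nat_lit 84, nat_lit 112, nat_lit 140, nat_lit 168, nat_lit 196, nat_lit 252, nat_lit 56, nat_lit 84, nat_lit 112, nat_lit 140, nat_lit 168, nat_lit 196, nat_lit 252, nat_lit 56, nat_lit 84, nat_lit 112, nat_lit 140, nat_lit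 168, nat_lit 196, nat_lit 252, nat_lit 56, nat_lit 84, nat_lit 112, nat_lit 140])
noncomputable def r25 : WT := (.leaf (nat_lit 46088) [nat_lit 196, nat_lit 140, nat_lit 252, nat_lit 280, nat_lit 140, nat_lit 112, nat_lit 84, nat_lit 140, nat_lit 168, nat_lit 196, nat_lit 140, nat_lit 252, nat_lit 280, nat_lit 140, nat_lit 112, nat_lit 84, nat_lit 140, nat_lit 168, nat_lit 196, nat_lit 140, nat_lit 252, nat_lit 280, nat_lit 140, nat_lit 112, nat_lit 84, nat_lit 140, nat_lit 168, nat_lit 196, nat_lit 140, nat_lit 252, nat_lit 280, nat_lit 140, nat_lit 112, nat_lit 84, nat_lit 140, nat_lit 168, nat_lit 196, nat_lit 140, nat_lit 252, nat_lit 280, nat_lit 140, nat_lit 112, nat_lit 84, nat_lit 140, nat_lit 168, nat_lit 196, nat_lit 140, nat_lit 252, nat_lit 280, nat_lit 140, nat_lit 112, nat_lit 84, nat_lit 140, nat_lit 168, nat_lit 196, nat_lit 140, nat_lit 252, nat_lit 280, nat_lit 140, nat_lit 112, nat_lit 84, nat_lit 140, nat_lit 168, nat_lit 196, nat_lit 140, nat_lit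 252, nat_lit 280, nat_lit 140, nat_lit 112, nat_lit 84, nat_lit 140, nat_lit 168, nat_lit 196, nat_lit 140, nat_lit 252, nat_lit 280, nat_lit 140, nat_lit 112, nat_lit 84, nat_lit 140, nat_lit 168, nat_lit 196, nat_lit 140, nat_lit 252, nat_lit 280, nat_lit 140, nat_lit 112, nat_lit 84, nat_lit 140])
noncomputable def r26 : WT := (.node (nat_lit 12) r24 r25)
noncomputable def r27 : WT := (.node (nat_lit 8) (.leaf (nat_lit 12290) [nat_lit 56, nat_lit 168, nat_lit 56]) (.node (nat_lit 9) (.leaf (nat_lit 35840) [nat_lit 196, nat_lit 168, nat_lit 196, nat_lit 168, nat_lit 196]) (.node (nat_lit 10) r22 (.node (nat_lit 11) r23 r26))))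
noncomputable def w4 : WT := (.node (nat_lit 1) (.leaf (nat_lit 4096) [nat_lit 168]) (.node (nat_lit 4) (.node (nat_lit 2) (.leaf (nat_lit 38912) [nat_lit 280, nat_lit 168, nat_lit 280]) (.node (nat_lit 3) (.leaf (nat_lit 37888) [nat_lit 252, nat_lit 168, nat_lit 252]) (.leaf (nat_lit 36864) [nat_lit 224, nat_lit 168, nat_lit 224]))) (.node (nat_lit 6) (.node (nat_lit 5) (.leaf (nat_lit 19458) [nat_lit 84, nat_lit 168, nat_lit 84]) (.leaf (nat_lit 25602) [nat_lit 112, nat_lit 168, nat_lit 112])) (.node (nat_lit 7) (.leaf (nat_lit 30722) [nat_lit 140, nat_lit 168, nat_lit 140, nat_lit 168, nat_lit 140]) r27))))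
noncomputable def r28 : WT := (.leaf (nat_lit 47114) [nat_lit 252, nat_lit 56, nat_lit 84, nat_lit 112, nat_lit 140, nat_lit 168, nat_lit 196, nat_lit 252, nat_lit 56, nat_lit 84, nat_lit 112, nat_lit 140, nat_lit 168, nat_lit 196, nat_lit 252, nat_lit 56, nat_lit 84, nat_lit 112, nat_lit 140, nat_lit 168, nat_lit 196, nat_lit 252, nat_lit 56, nat_lit 84, nat_lit 112, nat_lit 140, nat_lit 168, nat_lit 196, nat_lit 252, nat_lit 56, nat_lit 84, nat_lit 112, nat_lit 140, nat_lit 168, nat_lit 196, nat_lit 252, nat_lit 56, nat_lit 84, nat_lit 112, nat_lit 140, nat_lit 168, nat_lit 196, nat_lit 252, nat_lit 56, nat_lit 84, nat_lit 112, nat_lit 140, nat_lit 168, nat_lit 196, nat_lit 252, nat_lit 56, nat_lit 84, nat_lit 112, nat_lit 140, nat_lit 168, nat_lit 196, nat_lit 252, nat_lit 56, nat_lit 84, nat_lit 112, nat_lit 140, nat_lit 168])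
noncomputable def r29 : WT := (.leaf (nat_lit 47107) [nat_lit 168, nat_lit 140, nat_lit 112, nat_lit 84, nat_lit 56, nat_lit 252, nat_lit 196, nat_lit 168, nat_lit 140, nat_lit 112, nat_lit 84, nat_lit 56, nat_lit 252, nat_lit 196, nat_lit 168, nat_lit 140, nat_lit 112, nat_lit 84, nat_lit 56, nat_lit 252, nat_lit 196, nat_lit 168, nat_lit 140, nat_lit 112, nat_lit 84, nat_lit 56, nat_lit 252, nat_lit 196, nat_lit 168, nat_lit 140, nat_lit 112, nat_lit 84, nat_lit 56, nat_lit 252, nat_lit 196, nat_lit 168, nat_lit 140, nat_lit 112, nat_lit 84, nat_lit 56, nat_lit 252, nat_lit 196, nat_lit 168, nat_lit 140, nat_lit 112, nat_lit 84, nat_lit 56, nat_lit 252, nat_lit 196, nat_lit 168, nat_lit 140, nat_lit 112, nat_lit 84, nat_lit 56, nat_lit 252, nat_lit 196, nat_lit 168, nat_lit 140, nat_lit 112, nat_lit 84, nat_lit 56, nat_lit 252])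
noncomputable def r30 : WT := (.leaf (nat_lit 46090) [nat_lit 140, nat_lit 252, nat_lit 280, nat_lit 140, nat_lit 112, nat_lit 84, nat_lit 140, nat_lit 168, nat_lit 196, nat_lit 140, nat_lit 252, nat_lit 280, nat_lit 140, nat_lit 112, nat_lit 84, nat_lit 140, nat_lit 168, nat_lit 196, nat_lit 140, nat_lit 252, nat_lit 280, nat_lit 140, nat_lit 112, nat_lit 84, nat_lit 140, nat_lit 168, nat_lit 196, nat_lit 140, nat_lit 252, nat_lit 280, nat_lit 140, nat_lit 112, nat_lit 84, nat_lit 140, nat_lit 168, nat_lit 196, nat_lit 140, nat_lit 252, nat_lit 280, nat_lit 140, nat_lit 112, nat_lit 84, nat_lit 140, nat_lit 168, nat_lit 196, nat_lit 140, nat_lit 252, nat_lit 280, nat_lit 140, nat_lit 112, nat_lit 84, nat_lit 140, nat_lit 168, nat_lit 196, nat_lit 140, nat_lit 252, nat_lit 280, nat_lit 140, nat_lit 112, nat_lit 84, nat_lit 140, nat_lit 168, nat_lit 196, nat_lit 140, nat_lit 252, nat_lit 280, nat_lit 140, nat_lit 112, nat_lit 84, nat_lit 140, nat_lit 168, nat_lit 196,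 nat_lit 140, nat_lit 252, nat_lit 280, nat_lit 140, nat_lit 112, nat_lit 84, nat_lit 140, nat_lit 168, nat_lit 196, nat_lit 140, nat_lit 252, nat_lit 280, nat_lit 140, nat_lit 112, nat_lit 84, nat_lit 140, nat_lit 168])
noncomputable def r31 : WT := (.node (nat_lit 8) (.leaf (nat_lit 13314) [nat_lit 56, nat_lit 196, nat_lit 56]) (.node (nat_lit 9) (.leaf (nat_lit 35842) [nat_lit 168, nat_lit 196, nat_lit 168, nat_lit 196, nat_lit 168]) (.node (nat_lit 10) r28 (.node (nat_lit 11) r29 r30))))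
noncomputable def w5 : WT := (.node (nat_lit 1) (.leaf (nat_lit 5120) [nat_lit 196]) (.node (nat_lit 4) (.node (nat_lit 2) (.leaf (nat_lit 41984) [nat_lit 280, nat_lit 196, nat_lit 280]) (.node (nat_lit 3) (.leaf (nat_lit 40960) [nat_lit 252, nat_lit 196, nat_lit 252]) (.leaf (nat_lit 20482) [nat_lit 84, nat_lit 196, nat_lit 84]))) (.node (nat_lit 6) (.node (nat_lit 5) (.leaf (nat_lit 31746) [nat_lit 140, nat_lit 196, nat_lit 140]) (.leaf (nat_lit 39936) [nat_lit 224, nat_lit 196, nat_lit 224, nat_lit 196, nat_lit 224])) (.node (nat_lit 7) (.leaf (nat_lit 26626) [nat_lit 112, nat_lit 196, nat_lit 112]) r31))))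
noncomputable def r32 : WT := (.node (nat_lit 6) (.leaf (nat_lit 14338) [nat_lit 56, nat_lit 224, nat_lit 56]) (.leaf (nat_lit 27650) [nat_lit 112, nat_lit 224, nat_lit 112]))
noncomputable def r33 : WT := (.node (nat_lit 8) (.leaf (nat_lit 39938) [nat_lit 196, nat_lit 224, nat_lit 196, nat_lit 224, nat_lit 196]) (.leaf (nat_lit 36866) [nat_lit 168, nat_lit 224, nat_lit 168]))
noncomputable def w6 : WT := (.node (nat_lit 1) (.leaf (nat_lit 6144) [nat_lit 224]) (.node (nat_lit 3) (.node (nat_lit 2) (.leaf (nat_lit 44032) [nat_lit 280, nat_lit 224, nat_lit 280]) (.leaf (nat_lit 43008) [nat_lit 252, nat_lit 224, nat_lit 252])) (.node (nat_lit 5) (.node (nat_lit 4) (.leaf (nat_lit 21506) [nat_lit 84, nat_lit 224, nat_lit 84]) (.leaf (nat_lit 32770) [nat_lit 140, nat_lit 224, nat_lit 140])) (.node (nat_lit 7) r32 r33))))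
noncomputable def r34 : WT := (.leaf (nat_lit 46083) [nat_lit 140, nat_lit 196, nat_lit 168, nat_lit 140, nat_lit 84, nat_lit 112, nat_lit 140, nat_lit 280, nat_lit 252, nat_lit 140, nat_lit 196, nat_lit 168, nat_lit 140, nat_lit 84, nat_lit 112, nat_lit 140, nat_lit 280, nat_lit 252, nat_lit 140, nat_lit 196, nat_lit 168, nat_lit 140, nat_lit 84, nat_lit 112, nat_lit 140, nat_lit 280, nat_lit 252, nat_lit 140, nat_lit 196, nat_lit 168, nat_lit 140, nat_lit 84, nat_lit 112, nat_lit 140, nat_lit 280, nat_lit 252, nat_lit 140, nat_lit 196, nat_lit 168, nat_lit 140, nat_lit 84, nat_lit 112, nat_lit 140, nat_lit 280, nat_lit 252, nat_lit 140, nat_lit 196, nat_lit 168, nat_lit 140, nat_lit 84, nat_lit 112, nat_lit 140, nat_lit 280, nat_lit 252, nat_lit 140, nat_lit 196, nat_lit 168, nat_lit 140, nat_lit 84, nat_lit 112, nat_lit 140, nat_lit 280, nat_lit 252, nat_lit 140, nat_lit 196, nat_lit 168, nat_lit 140, nat_lit 84, nat_lit 112, nat_lit 140, nat_lit 280, nat_lit 252,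 nat_lit 140, nat_lit 196, nat_lit 168, nat_lit 140, nat_lit 84, nat_lit 112, nat_lit 140, nat_lit 280, nat_lit 252, nat_lit 140, nat_lit 196, nat_lit 168, nat_lit 140, nat_lit 84, nat_lit 112, nat_lit 140, nat_lit 280])
noncomputable def r35 : WT := (.leaf (nat_lit 46094) [nat_lit 280, nat_lit 140, nat_lit 112, nat_lit 84, nat_lit 140, nat_lit 168, nat_lit 196, nat_lit 140, nat_lit 252, nat_lit 280, nat_lit 140, nat_lit 112, nat_lit 84, nat_lit 140, nat_lit 168, nat_lit 196, nat_lit 140, nat_lit 252, nat_lit 280, nat_lit 140, nat_lit 112, nat_lit 84, nat_lit 140, nat_lit 168, nat_lit 196, nat_lit 140, nat_lit 252, nat_lit 280, nat_lit 140, nat_lit 112, nat_lit 84, nat_lit 140, nat_lit 168, nat_lit 196, nat_lit 140, nat_lit 252, nat_lit 280, nat_lit 140, nat_lit 112, nat_lit 84, nat_lit 140, nat_lit 168, nat_lit 196, nat_lit 140, nat_lit 252, nat_lit 280, nat_lit 140, nat_lit 112, nat_lit 84, nat_lit 140, nat_lit 168, nat_lit 196, nat_lit 140, nat_lit 252, nat_lit 280,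 nat_lit 140, nat_lit 112, nat_lit 84, nat_lit 140, nat_lit 168, nat_lit 196, nat_lit 140, nat_lit 252, nat_lit 280, nat_lit 140, nat_lit 112, nat_lit 84, nat_lit 140, nat_lit 168, nat_lit 196, nat_lit 140, nat_lit 252, nat_lit 280, nat_lit 140, nat_lit 112, nat_lit 84, nat_lit 140, nat_lit 168, nat_lit 196, nat_lit 140, nat_lit 252, nat_lit 280, nat_lit 140, nat_lit 112, nat_lit 84, nat_lit 140, nat_lit 168, nat_lit 196, nat_lit 140])
noncomputable def r36 : WT := (.leaf (nat_lit 47105) [nat_lit 196, nat_lit 168, nat_lit 140, nat_lit 112, nat_lit 84, nat_lit 56, nat_lit 252, nat_lit 196, nat_lit 168, nat_lit 140, nat_lit 112, nat_lit 84, nat_lit 56, nat_lit 252, nat_lit 196, nat_lit 168, nat_lit 140, nat_lit 112, nat_lit 84, nat_lit 56, nat_lit 252, nat_lit 196, nat_lit 168, nat_lit 140, nat_lit 112, nat_lit 84, nat_lit 56, nat_lit 252, nat_lit 196, nat_lit 168, nat_lit 140, nat_lit 112, nat_lit 84, nat_lit 56, nat_lit 252, nat_lit 196, nat_lit 168, nat_lit 140, nat_lit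 112, nat_lit 84, nat_lit 56, nat_lit 252, nat_lit 196, nat_lit 168, nat_lit 140, nat_lit 112, nat_lit 84, nat_lit 56, nat_lit 252, nat_lit 196, nat_lit 168, nat_lit 140, nat_lit 112, nat_lit 84, nat_lit 56, nat_lit 252, nat_lit 196, nat_lit 168, nat_lit 140, nat_lit 112, nat_lit 84, nat_lit 56])
noncomputable def r37 : WT := (.leaf (nat_lit 47116) [nat_lit 56, nat_lit 84, nat_lit 112, nat_lit 140, nat_lit 168, nat_lit 196, nat_lit 252, nat_lit 56, nat_lit 84, nat_lit 112, nat_lit 140, nat_lit 168, nat_lit 196, nat_lit 252, nat_lit 56, nat_lit 84, nat_lit 112, nat_lit 140, nat_lit 168, nat_lit 196, nat_lit 252, nat_lit 56, nat_lit 84, nat_lit 112, nat_lit 140, nat_lit 168, nat_lit 196, nat_lit 252, nat_lit 56, nat_lit 84, nat_lit 112, nat_lit 140, nat_lit 168, nat_lit 196, nat_lit 252, nat_lit 56, nat_lit 84, nat_lit 112, nat_lit 140, nat_lit 168, nat_lit 196, nat_lit 252, nat_lit 56, nat_lit 84, nat_lit 112, nat_lit 140, nat_lit 168, nat_lit 196, nat_lit 252, nat_lit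 56, nat_lit 84, nat_lit 112, nat_lit 140, nat_lit 168, nat_lit 196, nat_lit 252, nat_lit 56, nat_lit 84, nat_lit 112, nat_lit 140, nat_lit 168, nat_lit 196])
noncomputable def r38 : WT := (.node (nat_lit 12) r36 r37)
noncomputable def r39 : WT := (.node (nat_lit 8) (.leaf (nat_lit 28674) [nat_lit 112, nat_lit 252, nat_lit 112]) (.node (nat_lit 9) (.leaf (nat_lit 33794) [nat_lit 140, nat_lit 252, nat_lit 140, nat_lit 252, nat_lit 140]) (.node (nat_lit 10) r34 (.node (nat_lit 11) r35 r38))))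
noncomputable def w7 : WT := (.node (nat_lit 1) (.leaf (nat_lit 7168) [nat_lit 252]) (.node (nat_lit 4) (.node (nat_lit 2) (.leaf (nat_lit 43010) [nat_lit 224, nat_lit 252, nat_lit 224]) (.node (nat_lit 3) (.leaf (nat_lit 45056) [nat_lit 280, nat_lit 252, nat_lit 280, nat_lit 252, nat_lit 280]) (.leaf (nat_lit 40962) [nat_lit 196, nat_lit 252, nat_lit 196]))) (.node (nat_lit 6) (.node (nat_lit 5) (.leaf (nat_lit 22530) [nat_lit 84, nat_lit 252, nat_lit 84]) (.leaf (nat_lit 15362) [nat_lit 56, nat_lit 252, nat_lit 56])) (.node (nat_lit 7) (.leaf (nat_lit 37890) [nat_lit 168, nat_lit 252, nat_lit 168]) r39))))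
noncomputable def r40 : WT := (.leaf (nat_lit 46096) [nat_lit 140, nat_lit 112, nat_lit 84, nat_lit 140, nat_lit 168, nat_lit 196, nat_lit 140, nat_lit 252, nat_lit 280, nat_lit 140, nat_lit 112, nat_lit 84, nat_lit 140, nat_lit 168, nat_lit 196, nat_lit 140, nat_lit 252, nat_lit 280, nat_lit 140, nat_lit 112, nat_lit 84, nat_lit 140, nat_lit 168, nat_lit 196, nat_lit 140, nat_lit 252, nat_lit 280, nat_lit 140, nat_lit 112, nat_lit 84, nat_lit 140, nat_lit 168, nat_lit 196, nat_lit 140, nat_lit 252, nat_lit 280, nat_lit 140, nat_lit 112, nat_lit 84, nat_lit 140, nat_lit 168, nat_lit 196, nat_lit 140, nat_lit 252, nat_lit 280, nat_lit 140, nat_lit 112, nat_lit 84, nat_lit 140, nat_lit 168, nat_lit 196, nat_lit 140, nat_lit 252, nat_lit 280, nat_lit 140, nat_lit 112, nat_lit 84, nat_lit 140, nat_lit 168, nat_lit 196, nat_lit 140, nat_lit 252, nat_lit 280, nat_lit 140, nat_lit 112, nat_lit 84, nat_lit 140, nat_lit 168, nat_lit 196, nat_lit 140, nat_lit 252, nat_lit 280,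 nat_lit 140, nat_lit 112, nat_lit 84, nat_lit 140, nat_lit 168, nat_lit 196, nat_lit 140, nat_lit 252, nat_lit 280, nat_lit 140, nat_lit 112, nat_lit 84, nat_lit 140, nat_lit 168, nat_lit 196, nat_lit 140, nat_lit 252])
noncomputable def r41 : WT := (.node (nat_lit 8) (.leaf (nat_lit 16386) [nat_lit 56, nat_lit 280, nat_lit 56]) (.node (nat_lit 9) (.leaf (nat_lit 38914) [nat_lit 168, nat_lit 280, nat_lit 168]) r40))
noncomputable def w8 : WT := (.node (nat_lit 1) (.leaf (nat_lit 8192) [nat_lit 280]) (.node (nat_lit 4) (.node (nat_lit 2) (.leaf (nat_lit 23554) [nat_lit 84, nat_lit 280, nat_lit 84]) (.node (nat_lit 3) (.leaf (nat_lit 44034) [nat_lit 224, nat_lit 280, nat_lit 224]) (.leaf (nat_lit 45058) [nat_lit 252, nat_lit 280, nat_lit 252, nat_lit 280, nat_lit 252]))) (.node (nat_lit 6) (.node (nat_lit 5) (.leaf (nat_lit 41986) [nat_lit 196, nat_lit 280, nat_lit 196]) (.leaf (nat_lit 34818) [nat_lit 140, nat_lit 280, nat_lit 140])) (.node (nat_lit 7) (.leaf (nat_lit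 29698) [nat_lit 112, nat_lit 280, nat_lit 112]) r41))))
noncomputable def r42 : WT := (.node (nat_lit 8) (.leaf (nat_lit 28672) [nat_lit 112, nat_lit 252, nat_lit 112, nat_lit 252]) (.leaf (nat_lit 17410) [nat_lit 112, nat_lit 84, nat_lit 112, nat_lit 84, nat_lit 112, nat_lit 84]))
noncomputable def r43 : WT := (.leaf (nat_lit 46088) [nat_lit 168, nat_lit 196, nat_lit 140, nat_lit 252, nat_lit 280, nat_lit 140, nat_lit 112, nat_lit 84, nat_lit 140, nat_lit 168, nat_lit 196, nat_lit 140, nat_lit 252, nat_lit 280, nat_lit 140, nat_lit 112, nat_lit 84, nat_lit 140, nat_lit 168, nat_lit 196, nat_lit 140, nat_lit 252, nat_lit 280, nat_lit 140, nat_lit 112, nat_lit 84, nat_lit 140, nat_lit 168, nat_lit 196, nat_lit 140, nat_lit 252, nat_lit 280, nat_lit 140, nat_lit 112, nat_lit 84, nat_lit 140, nat_lit 168, nat_lit 196, nat_lit 140, nat_lit 252, nat_lit 280, nat_lit 140, nat_lit 112, nat_lit 84, nat_lit 140, nat_lit 168, nat_lit 196, nat_lit 140, nat_lit 252, nat_lit 280,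 nat_lit 140, nat_lit 112, nat_lit 84, nat_lit 140, nat_lit 168, nat_lit 196, nat_lit 140, nat_lit 252, nat_lit 280, nat_lit 140, nat_lit 112, nat_lit 84, nat_lit 140, nat_lit 168, nat_lit 196, nat_lit 140, nat_lit 252, nat_lit 280, nat_lit 140, nat_lit 112, nat_lit 84, nat_lit 140, nat_lit 168, nat_lit 196, nat_lit 140, nat_lit 252, nat_lit 280, nat_lit 140, nat_lit 112, nat_lit 84, nat_lit 140, nat_lit 168, nat_lit 196, nat_lit 140, nat_lit 252, nat_lit 280, nat_lit 140, nat_lit 112, nat_lit 84, nat_lit 140])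
noncomputable def wP : WT := (.node (nat_lit 4) (.node (nat_lit 1) (.leaf (nat_lit 15362) [nat_lit 252, nat_lit 56, nat_lit 252, nat_lit 56]) (.node (nat_lit 2) (.leaf (nat_lit 40960) [nat_lit 196, nat_lit 252, nat_lit 196, nat_lit 252]) (.node (nat_lit 3) (.leaf (nat_lit 10242) [nat_lit 112, nat_lit 56, nat_lit 112, nat_lit 56]) (.leaf (nat_lit 18432) [nat_lit 84, nat_lit 140, nat_lit 84, nat_lit 140])))) (.node (nat_lit 9) (.node (nat_lit 6) (.node (nat_lit 5) (.leaf (nat_lit 19456) [nat_lit 84, nat_lit 168, nat_lit 84, nat_lit 168]) (.leaf (nat_lit 20480) [nat_lit 84, nat_lit 196, nat_lit 84, nat_lit 196])) (.node (nat_lit 7) (.leaf (nat_lit 22528) [nat_lit 84, nat_lit 252, nat_lit 84, nat_lit 252]) r42)) (.node (nat_lit 11) (.node (nat_lit 10) (.leaf (nat_lit 33794) [nat_lit 252, nat_lit 140, nat_lit 252, nat_lit 140, nat_lit 252, nat_lit 140]) (.leaf (nat_lit 35840) [nat_lit 168, nat_lit 196, nat_lit 168, nat_lit 196, nat_lit 168, nat_lit 196])) (.node (nat_lit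 12) (.leaf (nat_lit 35842) [nat_lit 196, nat_lit 168, nat_lit 196, nat_lit 168, nat_lit 196, nat_lit 168]) r43))))
noncomputable def P : Par := ⟨tb, nat_lit 308, nat_lit 0xfffffffffffffffffffffffffffffffffffffffffffffffffffffffffffffffffffffffffffff, nat_lit 18073, nat_lit 268435455, nat_lit 32767, nat_lit 28, nat_lit 15, nat_lit 14080,
  [nat_lit 56, nat_lit 84, nat_lit 112, nat_lit 140, nat_lit 168, nat_lit 196, nat_lit 224, nat_lit 252, nat_lit 280], [nat_lit 84, nat_lit 112, nat_lit 140, nat_lit 168, nat_lit 196, nat_lit 224, nat_lit 252, nat_lit 280], wP,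
  (.cons (nat_lit 56) w0 (.cons (nat_lit 84) w1 (.cons (nat_lit 112) w2 (.cons (nat_lit 140) w3 (.cons (nat_lit 168) w4 (.cons (nat_lit 196) w5 (.cons (nat_lit 224) w6 (.cons (nat_lit 252) w7 (.cons (nat_lit 280) w8 .nil))))))))),
  .nil⟩

end Cfsg.Agent.Lib.TCFiA
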