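import Cfsg.Agent.Lib.TCFiBD0

set_option autoImplicit false
set_option maxRecDepth 100000

namespace Cfsg.Agent.Lib.TCFiB
open Cfsg.Agent.Lib.TCCore

noncomputable def n0 : T := (.node (nat_lit 160) l1 l2)
noncomputable def n1 : T := (.node (nat_lit 320) l3 l4)
noncomputable def n2 : T := (.node (nat_lit 480) l5 l6)
noncomputable def n3 : T := (.node (nat_lit 640) l7 l8)
noncomputable def n4 : T := (.node (nat_lit 800) l9 l10)
noncomputable def n5 : T := (.node (nat_lit 960) l11 l12)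
noncomputable def n6 : T := (.node (nat_lit 1120) l13 l14)
noncomputable def n7 : T := (.node (nat_lit 1280) l15 l16)
noncomputable def n8 : T := (.node (nat_lit 1440) l17 l18)
noncomputable def n9 : T := (.node (nat_lit 1600) l19 l20)
noncomputable def n10 : T := (.node (nat_lit 1760) l21 l22)
noncomputable def n11 : T := (.node (nat_lit 1920) l23 l24)
noncomputable def n12 : T := (.node (nat_lit 2080) l25 l26)
noncomputable def n13 : T := (.node (nat_lit 2240) l27 l28)
noncomputable def n14 : T := (.node (nat_lit 2400) l29 l30)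
noncomputable def n15 : T := (.node (nat_lit 2560) l31 l32)
noncomputable def n16 : T := (.node (nat_lit 2720) l33 l34)
noncomputable def n17 : T := (.node (nat_lit 2880) l35 l36)
noncomputable def n18 : T := (.node (nat_lit 3040) l37 l38)
noncomputable def n19 : T := (.node (nat_lit 3200) l39 l40)
noncomputable def n20 : T := (.node (nat_lit 3360) l41 l42)
noncomputable def n21 : T := (.node (nat_lit 3520) l43 l44)
noncomputable def n22 : T := (.node (nat_lit 3680) l45 l46)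
noncomputable def n23 : T := (.node (nat_lit 3840) l47 l48)
noncomputable def n24 : T := (.node (nat_lit 4000) l49 l50)
noncomputable def n25 : T := (.node (nat_lit 4160) l51 l52)
noncomputable def n26 : T := (.node (nat_lit 4320) l53 l54)
noncomputable def n27 : T := (.node (nat_lit 4480) l55 l56)
noncomputable def n28 : T := (.node (nat_lit 4640) l57 l58)
noncomputable def n29 : T := (.node (nat_lit 4800) l59 l60)
noncomputable def n30 : T := (.node (nat_lit 4960) l61 l62)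
noncomputable def tb : T := (.node (nat_lit 2480) (.node (nat_lit 1200) (.node (nat_lit 560) (.node (nat_lit 240) (.node (nat_lit 80) l0 n0) (.node (nat_lit 400) n1 n2)) (.node (nat_lit 880) (.node (nat_lit 720) n3 n4) (.node (nat_lit 1040) n5 n6))) (.node (nat_lit 1840) (.node (nat_lit 1520) (.node (nat_lit 1360) n7 n8) (.node (nat_lit 1680) n9 n10)) (.node (nat_lit 2160) (.node (nat_lit 2000) n11 n12) (.node (nat_lit 2320) n13 n14)))) (.node (nat_lit 3760) (.node (nat_lit 3120) (.node (nat_lit 2800) (.node (nat_lit 2640) n15 n16) (.node (nat_lit 2960) n17 n18)) (.node (nat_lit 3440) (.node (nat_lit 3280) n19 n20) (.node (nat_lit 3600) n21 n22))) (.node (nat_lit 4400) (.node (nat_lit 4080) (.node (nat_lit 3920) n23 n24) (.node (nat_lit 4240) n25 n26)) (.node (nat_lit 4720) (.node (nat_lit 4560) n27 n28) (.node (nat_lit 4880) n29 n30)))))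
noncomputable def r0 : WT := (.node (nat_lit 7) (.leaf (nat_lit 11264) [nat_lit 144, nat_lit 48, nat_lit 144]) (.leaf (nat_lit 10240) [nat_lit 120, nat_lit 48, nat_lit 120]))
noncomputable def w0 : WT := (.node (nat_lit 1) (.leaf (nat_lit 0) [nat_lit 48]) (.node (nat_lit 3) (.node (nat_lit 2) (.leaf (nat_lit 14336) [nat_lit 216, nat_lit 48, nat_lit 216]) (.leaf (nat_lit 13312) [nat_lit 192, nat_lit 48, nat_lit 192])) (.node (nat_lit 5) (.node (nat_lit 4) (.leaf (nat_lit 12288) [nat_lit 168, nat_lit 48, nat_lit 168]) (.leaf (nat_lit 9216) [nat_lit 96, nat_lit 48, nat_lit 96])) (.node (nat_lit 6) (.leaf (nat_lit 8192) [nat_lit 72, nat_lit 48, nat_lit 72, nat_lit 48, nat_lit 72]) r0))))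
noncomputable def r1 : WT := (.leaf (nat_lit 36879) [nat_lit 96, nat_lit 216, nat_lit 192, nat_lit 96, nat_lit 144, nat_lit 120, nat_lit 96, nat_lit 48, nat_lit 72, nat_lit 96, nat_lit 216, nat_lit 192, nat_lit 96, nat_lit 144, nat_lit 120, nat_lit 96, nat_lit 48, nat_lit 72, nat_lit 96, nat_lit 216, nat_lit 192, nat_lit 96, nat_lit 144, nat_lit 120, nat_lit 96, nat_lit 48, nat_lit 72, nat_lit 96, nat_lit 216, nat_lit 192, nat_lit 96, nat_lit 144, nat_lit 120, nat_lit 96, nat_lit 48, nat_lit 72, nat_lit 96, nat_lit 216, nat_lit 192, nat_lit 96, nat_lit 144, nat_lit 120, nat_lit 96, nat_lit 48, nat_lit 72, nat_lit 96, nat_lit 216, nat_lit 192, nat_lit 96, nat_lit 144, nat_lit 120, nat_lit 96, nat_lit 48, nat_lit 72, nat_lit 96, nat_lit 216, nat_lit 192, nat_lit 96, nat_lit 144, nat_lit 120, nat_lit 96, nat_lit 48, nat_lit 72, nat_lit 96, nat_lit 216, nat_lit 192, nat_lit 96, nat_lit 144, nat_lit 120, nat_lit 96, nat_lit 48, nat_lit 72, nat_lit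 96, nat_lit 216, nat_lit 192, nat_lit 96, nat_lit 144, nat_lit 120, nat_lit 96, nat_lit 48, nat_lit 72, nat_lit 96, nat_lit 216, nat_lit 192, nat_lit 96, nat_lit 144, nat_lit 120, nat_lit 96, nat_lit 48])
noncomputable def r2 : WT := (.node (nat_lit 7) (.leaf (nat_lit 8194) [nat_lit 48, nat_lit 72, nat_lit 48, nat_lit 72, nat_lit 48]) (.node (nat_lit 8) (.leaf (nat_lit 16384) [nat_lit 120, nat_lit 72, nat_lit 120]) r1))
noncomputable def w1 : WT := (.node (nat_lit 1) (.leaf (nat_lit 1024) [nat_lit 72]) (.node (nat_lit 3) (.node (nat_lit 2) (.leaf (nat_lit 20480) [nat_lit 216, nat_lit 72, nat_lit 216]) (.leaf (nat_lit 19456) [nat_lit 192, nat_lit 72, nat_lit 192])) (.node (nat_lit 5) (.node (nat_lit 4) (.leaf (nat_lit 18432) [nat_lit 168, nat_lit 72, nat_lit 168]) (.leaf (nat_lit 15360) [nat_lit 96, nat_lit 72, nat_lit 96, nat_lit 72, nat_lit 96])) (.node (nat_lit 6) (.leaf (nat_lit 17408) [nat_lit 144, nat_lit 72, nat_lit 144]) r2))))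
noncomputable def r3 : WT := (.leaf (nat_lit 36864) [nat_lit 72, nat_lit 48, nat_lit 96, nat_lit 120, nat_lit 144, nat_lit 96, nat_lit 192, nat_lit 216, nat_lit 96, nat_lit 72, nat_lit 48, nat_lit 96, nat_lit 120, nat_lit 144, nat_lit 96, nat_lit 192, nat_lit 216, nat_lit 96, nat_lit 72, nat_lit 48, nat_lit 96, nat_lit 120, nat_lit 144, nat_lit 96, nat_lit 192, nat_lit 216, nat_lit 96, nat_lit 72, nat_lit 48, nat_lit 96, nat_lit 120, nat_lit 144, nat_lit 96, nat_lit 192, nat_lit 216, nat_lit 96, nat_lit 72, nat_lit 48, nat_lit 96, nat_lit 120, nat_lit 144, nat_lit 96, nat_lit 192, nat_lit 216, nat_lit 96, nat_lit 72, nat_lit 48, nat_lit 96, nat_lit 120, nat_lit 144, nat_lit 96, nat_lit 192, nat_lit 216, nat_lit 96, nat_lit 72, nat_lit 48, nat_lit 96, nat_lit 120, nat_lit 144, nat_lit 96, nat_lit 192, nat_lit 216, nat_lit 96, nat_lit 72, nat_lit 48, nat_lit 96, nat_lit 120, nat_lit 144, nat_lit 96, nat_lit 192, nat_lit 216, nat_lit 96, nat_lit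 72, nat_lit 48, nat_lit 96, nat_lit 120, nat_lit 144, nat_lit 96, nat_lit 192, nat_lit 216, nat_lit 96, nat_lit 72, nat_lit 48, nat_lit 96, nat_lit 120, nat_lit 144, nat_lit 96, nat_lit 192, nat_lit 216])
noncomputable def r4 : WT := (.leaf (nat_lit 36870) [nat_lit 120, nat_lit 144, nat_lit 96, nat_lit 192, nat_lit 216, nat_lit 96, nat_lit 72, nat_lit 48, nat_lit 96, nat_lit 120, nat_lit 144, nat_lit 96, nat_lit 192, nat_lit 216, nat_lit 96, nat_lit 72, nat_lit 48, nat_lit 96, nat_lit 120, nat_lit 144, nat_lit 96, nat_lit 192, nat_lit 216, nat_lit 96, nat_lit 72, nat_lit 48, nat_lit 96, nat_lit 120, nat_lit 144, nat_lit 96, nat_lit 192, nat_lit 216, nat_lit 96, nat_lit 72, nat_lit 48, nat_lit 96, nat_lit 120, nat_lit 144, nat_lit 96, nat_lit 192, nat_lit 216, nat_lit 96, nat_lit 72, nat_lit 48, nat_lit 96, nat_lit 120, nat_lit 144, nat_lit 96, nat_lit 192, nat_lit 216, nat_lit 96, nat_lit 72, nat_lit 48, nat_lit 96, nat_lit 120, nat_lit 144,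 nat_lit 96, nat_lit 192, nat_lit 216, nat_lit 96, nat_lit 72, nat_lit 48, nat_lit 96, nat_lit 120, nat_lit 144, nat_lit 96, nat_lit 192, nat_lit 216, nat_lit 96, nat_lit 72, nat_lit 48, nat_lit 96, nat_lit 120, nat_lit 144, nat_lit 96, nat_lit 192, nat_lit 216, nat_lit 96, nat_lit 72, nat_lit 48, nat_lit 96, nat_lit 120, nat_lit 144, nat_lit 96, nat_lit 192, nat_lit 216, nat_lit 96, nat_lit 72, nat_lit 48])
noncomputable def r5 : WT := (.leaf (nat_lit 36869) [nat_lit 144, nat_lit 120, nat_lit 96, nat_lit 48, nat_lit 72, nat_lit 96, nat_lit 216, nat_lit 192, nat_lit 96, nat_lit 144, nat_lit 120, nat_lit 96, nat_lit 48, nat_lit 72, nat_lit 96, nat_lit 216, nat_lit 192, nat_lit 96, nat_lit 144, nat_lit 120, nat_lit 96, nat_lit 48, nat_lit 72, nat_lit 96, nat_lit 216, nat_lit 192, nat_lit 96, nat_lit 144, nat_lit 120, nat_lit 96, nat_lit 48, nat_lit 72, nat_lit 96, nat_lit 216, nat_lit 192, nat_lit 96, nat_lit 144, nat_lit 120, nat_lit 96, nat_lit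 48, nat_lit 72, nat_lit 96, nat_lit 216, nat_lit 192, nat_lit 96, nat_lit 144, nat_lit 120, nat_lit 96, nat_lit 48, nat_lit 72, nat_lit 96, nat_lit 216, nat_lit 192, nat_lit 96, nat_lit 144, nat_lit 120, nat_lit 96, nat_lit 48, nat_lit 72, nat_lit 96, nat_lit 216, nat_lit 192, nat_lit 96, nat_lit 144, nat_lit 120, nat_lit 96, nat_lit 48, nat_lit 72, nat_lit 96, nat_lit 216, nat_lit 192, nat_lit 96, nat_lit 144, nat_lit 120, nat_lit 96, nat_lit 48, nat_lit 72, nat_lit 96, nat_lit 216, nat_lit 192, nat_lit 96, nat_lit 144, nat_lit 120, nat_lit 96, nat_lit 48, nat_lit 72, nat_lit 96, nat_lit 216, nat_lit 192])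
noncomputable def r6 : WT := (.node (nat_lit 7) (.leaf (nat_lit 15362) [nat_lit 72, nat_lit 96, nat_lit 72, nat_lit 96, nat_lit 72]) (.node (nat_lit 8) (.leaf (nat_lit 9218) [nat_lit 48, nat_lit 96, nat_lit 48]) (.node (nat_lit 9) r3 (.node (nat_lit 10) r4 r5))))
noncomputable def w2 : WT := (.node (nat_lit 1) (.leaf (nat_lit 2048) [nat_lit 96]) (.node (nat_lit 3) (.node (nat_lit 2) (.leaf (nat_lit 25600) [nat_lit 216, nat_lit 96, nat_lit 216]) (.leaf (nat_lit 23552) [nat_lit 168, nat_lit 96, nat_lit 168])) (.node (nat_lit 5) (.node (nat_lit 4) (.leaf (nat_lit 24576) [nat_lit 192, nat_lit 96, nat_lit 192, nat_lit 96, nat_lit 192]) (.leaf (nat_lit 22528) [nat_lit 144, nat_lit 96, nat_lit 144])) (.node (nat_lit 6) (.leaf (nat_lit 21504) [nat_lit 120, nat_lit 96, nat_lit 120, nat_lit 96, nat_lit 120]) r6))))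
noncomputable def r7 : WT := (.leaf (nat_lit 36873) [nat_lit 96, nat_lit 48, nat_lit 72, nat_lit 96, nat_lit 216, nat_lit 192, nat_lit 96, nat_lit 144, nat_lit 120, nat_lit 96, nat_lit 48, nat_lit 72, nat_lit 96, nat_lit 216, nat_lit 192, nat_lit 96, nat_lit 144, nat_lit 120, nat_lit 96, nat_lit 48, nat_lit 72, nat_lit 96, nat_lit 216, nat_lit 192, nat_lit 96, nat_lit 144, nat_lit 120, nat_lit 96, nat_lit 48, nat_lit 72, nat_lit 96, nat_lit 216, nat_lit 192, nat_lit 96, nat_lit 144, nat_lit 120, nat_lit 96, nat_lit 48, nat_lit 72, nat_lit 96, nat_lit 216, nat_lit 192, nat_lit 96, nat_lit 144, nat_lit 120, nat_lit 96, nat_lit 48, nat_lit 72, nat_lit 96, nat_lit 216, nat_lit 192, nat_lit 96, nat_lit 144, nat_lit 120, nat_lit 96, nat_lit 48, nat_lit 72, nat_lit 96, nat_lit 216, nat_lit 192, nat_lit 96, nat_lit 144, nat_lit 120, nat_lit 96, nat_lit 48, nat_lit 72, nat_lit 96, nat_lit 216, nat_lit 192, nat_lit 96, nat_lit 144, nat_lit 120, nat_lit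 96, nat_lit 48, nat_lit 72, nat_lit 96, nat_lit 216, nat_lit 192, nat_lit 96, nat_lit 144, nat_lit 120, nat_lit 96, nat_lit 48, nat_lit 72, nat_lit 96, nat_lit 216, nat_lit 192, nat_lit 96, nat_lit 144])
noncomputable def r8 : WT := (.node (nat_lit 7) (.leaf (nat_lit 21506) [nat_lit 96, nat_lit 120, nat_lit 96, nat_lit 120, nat_lit 96]) (.node (nat_lit 8) (.leaf (nat_lit 26624) [nat_lit 144, nat_lit 120, nat_lit 144, nat_lit 120, nat_lit 144]) r7))
noncomputable def w3 : WT := (.node (nat_lit 1) (.leaf (nat_lit 3072) [nat_lit 120]) (.node (nat_lit 3) (.node (nat_lit 2) (.leaf (nat_lit 29696) [nat_lit 216, nat_lit 120, nat_lit 216]) (.leaf (nat_lit 28672) [nat_lit 192, nat_lit 120, nat_lit 192])) (.node (nat_lit 5) (.node (nat_lit 4) (.leaf (nat_lit 27648) [nat_lit 168, nat_lit 120, nat_lit 168]) (.leaf (nat_lit 16386) [nat_lit 72, nat_lit 120, nat_lit 72])) (.node (nat_lit 6) (.leaf (nat_lit 10242) [nat_lit 48, nat_lit 120, nat_lit 48]) r8))))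
noncomputable def r9 : WT := (.leaf (nat_lit 36874) [nat_lit 96, nat_lit 192, nat_lit 216, nat_lit 96, nat_lit 72, nat_lit 48, nat_lit 96, nat_lit 120, nat_lit 144, nat_lit 96, nat_lit 192, nat_lit 216, nat_lit 96, nat_lit 72, nat_lit 48, nat_lit 96, nat_lit 120, nat_lit 144, nat_lit 96, nat_lit 192, nat_lit 216, nat_lit 96, nat_lit 72, nat_lit 48, nat_lit 96, nat_lit 120, nat_lit 144, nat_lit 96, nat_lit 192, nat_lit 216, nat_lit 96, nat_lit 72, nat_lit 48, nat_lit 96, nat_lit 120, nat_lit 144, nat_lit 96, nat_lit 192, nat_lit 216, nat_lit 96, nat_lit 72, nat_lit 48, nat_lit 96, nat_lit 120, nat_lit 144, nat_lit 96, nat_lit 192, nat_lit 216, nat_lit 96, nat_lit 72, nat_lit 48, nat_lit 96, nat_lit 120, nat_lit 144, nat_lit 96, nat_lit 192, nat_lit 216, nat_lit 96, nat_lit 72, nat_lit 48, nat_lit 96, nat_lit 120, nat_lit 144, nat_lit 96, nat_lit 192, nat_lit 216, nat_lit 96, nat_lit 72, nat_lit 48, nat_lit 96, nat_lit 120, nat_lit 144, nat_lit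 96, nat_lit 192, nat_lit 216, nat_lit 96, nat_lit 72, nat_lit 48, nat_lit 96, nat_lit 120, nat_lit 144, nat_lit 96, nat_lit 192, nat_lit 216, nat_lit 96, nat_lit 72, nat_lit 48, nat_lit 96, nat_lit 120])
noncomputable def r10 : WT := (.leaf (nat_lit 36871) [nat_lit 120, nat_lit 96, nat_lit 48, nat_lit 72, nat_lit 96, nat_lit 216, nat_lit 192, nat_lit 96, nat_lit 144, nat_lit 120, nat_lit 96, nat_lit 48, nat_lit 72, nat_lit 96, nat_lit 216, nat_lit 192, nat_lit 96, nat_lit 144, nat_lit 120, nat_lit 96, nat_lit 48, nat_lit 72, nat_lit 96, nat_lit 216, nat_lit 192, nat_lit 96, nat_lit 144, nat_lit 120, nat_lit 96, nat_lit 48, nat_lit 72, nat_lit 96, nat_lit 216, nat_lit 192, nat_lit 96, nat_lit 144, nat_lit 120, nat_lit 96, nat_lit 48, nat_lit 72, nat_lit 96, nat_lit 216, nat_lit 192, nat_lit 96, nat_lit 144, nat_lit 120, nat_lit 96, nat_lit 48, nat_lit 72, nat_lit 96, nat_lit 216, nat_lit 192, nat_lit 96, nat_lit 144, nat_lit 120, nat_lit 96, nat_lit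 48, nat_lit 72, nat_lit 96, nat_lit 216, nat_lit 192, nat_lit 96, nat_lit 144, nat_lit 120, nat_lit 96, nat_lit 48, nat_lit 72, nat_lit 96, nat_lit 216, nat_lit 192, nat_lit 96, nat_lit 144, nat_lit 120, nat_lit 96, nat_lit 48, nat_lit 72, nat_lit 96, nat_lit 216, nat_lit 192, nat_lit 96, nat_lit 144, nat_lit 120, nat_lit 96, nat_lit 48, nat_lit 72, nat_lit 96, nat_lit 216, nat_lit 192, nat_lit 96])
noncomputable def r11 : WT := (.node (nat_lit 7) (.leaf (nat_lit 11266) [nat_lit 48, nat_lit 144, nat_lit 48]) (.node (nat_lit 8) (.leaf (nat_lit 26626) [nat_lit 120, nat_lit 144, nat_lit 120, nat_lit 144, nat_lit 120]) (.node (nat_lit 9) r9 r10)))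
noncomputable def w4 : WT := (.node (nat_lit 1) (.leaf (nat_lit 4096) [nat_lit 144]) (.node (nat_lit 3) (.node (nat_lit 2) (.leaf (nat_lit 32768) [nat_lit 216, nat_lit 144, nat_lit 216]) (.leaf (nat_lit 31744) [nat_lit 192, nat_lit 144, nat_lit 192])) (.node (nat_lit 5) (.node (nat_lit 4) (.leaf (nat_lit 30720) [nat_lit 168, nat_lit 144, nat_lit 168, nat_lit 144, nat_lit 168]) (.leaf (nat_lit 22530) [nat_lit 96, nat_lit 144, nat_lit 96])) (.node (nat_lit 6) (.leaf (nat_lit 17410) [nat_lit 72, nat_lit 144, nat_lit 72]) r11))))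
noncomputable def r12 : WT := (.node (nat_lit 7) (.leaf (nat_lit 12290) [nat_lit 48, nat_lit 168, nat_lit 48]) (.leaf (nat_lit 30722) [nat_lit 144, nat_lit 168, nat_lit 144, nat_lit 168, nat_lit 144]))
noncomputable def w5 : WT := (.node (nat_lit 1) (.leaf (nat_lit 5120) [nat_lit 168]) (.node (nat_lit 3) (.node (nat_lit 2) (.leaf (nat_lit 34816) [nat_lit 216, nat_lit 168, nat_lit 216]) (.leaf (nat_lit 33792) [nat_lit 192, nat_lit 168, nat_lit 192])) (.node (nat_lit 5) (.node (nat_lit 4) (.leaf (nat_lit 23554) [nat_lit 96, nat_lit 168, nat_lit 96]) (.leaf (nat_lit 18434) [nat_lit 72, nat_lit 168, nat_lit 72])) (.node (nat_lit 6) (.leaf (nat_lit 27650) [nat_lit 120, nat_lit 168, nat_lit 120]) r12))))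
noncomputable def r13 : WT := (.leaf (nat_lit 36867) [nat_lit 96, nat_lit 144, nat_lit 120, nat_lit 96, nat_lit 48, nat_lit 72, nat_lit 96, nat_lit 216, nat_lit 192, nat_lit 96, nat_lit 144, nat_lit 120, nat_lit 96, nat_lit 48, nat_lit 72, nat_lit 96, nat_lit 216, nat_lit 192, nat_lit 96, nat_lit 144, nat_lit 120, nat_lit 96, nat_lit 48, nat_lit 72, nat_lit 96, nat_lit 216, nat_lit 192, nat_lit 96, nat_lit 144, nat_lit 120, nat_lit 96, nat_lit 48, nat_lit 72, nat_lit 96, nat_lit 216, nat_lit 192, nat_lit 96, nat_lit 144, nat_lit 120, nat_lit 96, nat_lit 48, nat_lit 72, nat_lit 96, nat_lit 216, nat_lit 192, nat_lit 96, nat_lit 144, nat_lit 120, nat_lit 96, nat_lit 48, nat_lit 72, nat_lit 96, nat_lit 216, nat_lit 192, nat_lit 96, nat_lit 144, nat_lit 120, nat_lit 96, nat_lit 48, nat_lit 72, nat_lit 96, nat_lit 216, nat_lit 192, nat_lit 96, nat_lit 144, nat_lit 120, nat_lit 96, nat_lit 48, nat_lit 72, nat_lit 96, nat_lit 216, nat_lit 192, nat_lit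 96, nat_lit 144, nat_lit 120, nat_lit 96, nat_lit 48, nat_lit 72, nat_lit 96, nat_lit 216, nat_lit 192, nat_lit 96, nat_lit 144, nat_lit 120, nat_lit 96, nat_lit 48, nat_lit 72, nat_lit 96, nat_lit 216])
noncomputable def r14 : WT := (.node (nat_lit 8) (.leaf (nat_lit 13314) [nat_lit 48, nat_lit 192, nat_lit 48]) r13)
noncomputable def w6 : WT := (.node (nat_lit 1) (.leaf (nat_lit 6144) [nat_lit 192]) (.node (nat_lit 4) (.node (nat_lit 2) (.leaf (nat_lit 33794) [nat_lit 168, nat_lit 192, nat_lit 168]) (.node (nat_lit 3) (.leaf (nat_lit 35840) [nat_lit 216, nat_lit 192, nat_lit 216, nat_lit 192, nat_lit 216]) (.leaf (nat_lit 31746) [nat_lit 144, nat_lit 192, nat_lit 144]))) (.node (nat_lit 6) (.node (nat_lit 5) (.leaf (nat_lit 19458) [nat_lit 72, nat_lit 192, nat_lit 72]) (.leaf (nat_lit 28674) [nat_lit 120, nat_lit 192, nat_lit 120])) (.node (nat_lit 7) (.leaf (nat_lit 24578) [nat_lit 96, nat_lit 192, nat_lit 96, nat_lit 192, nat_lit 96]) r14))))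
noncomputable def r15 : WT := (.leaf (nat_lit 36880) [nat_lit 96, nat_lit 72, nat_lit 48, nat_lit 96, nat_lit 120, nat_lit 144, nat_lit 96, nat_lit 192, nat_lit 216, nat_lit 96, nat_lit 72, nat_lit 48, nat_lit 96, nat_lit 120, nat_lit 144, nat_lit 96, nat_lit 192, nat_lit 216, nat_lit 96, nat_lit 72, nat_lit 48, nat_lit 96, nat_lit 120, nat_lit 144, nat_lit 96, nat_lit 192, nat_lit 216, nat_lit 96, nat_lit 72, nat_lit 48, nat_lit 96, nat_lit 120, nat_lit 144, nat_lit 96, nat_lit 192, nat_lit 216, nat_lit 96, nat_lit 72, nat_lit 48, nat_lit 96, nat_lit 120, nat_lit 144, nat_lit 96, nat_lit 192, nat_lit 216, nat_lit 96, nat_lit 72, nat_lit 48, nat_lit 96, nat_lit 120, nat_lit 144, nat_lit 96, nat_lit 192, nat_lit 216, nat_lit 96, nat_lit 72, nat_lit 48, nat_lit 96, nat_lit 120, nat_lit 144, nat_lit 96, nat_lit 192, nat_lit 216, nat_lit 96, nat_lit 72, nat_lit 48, nat_lit 96, nat_lit 120, nat_lit 144, nat_lit 96, nat_lit 192, nat_lit 216, nat_lit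 96, nat_lit 72, nat_lit 48, nat_lit 96, nat_lit 120, nat_lit 144, nat_lit 96, nat_lit 192, nat_lit 216, nat_lit 96, nat_lit 72, nat_lit 48, nat_lit 96, nat_lit 120, nat_lit 144, nat_lit 96, nat_lit 192])
noncomputable def r16 : WT := (.node (nat_lit 8) (.leaf (nat_lit 14338) [nat_lit 48, nat_lit 216, nat_lit 48]) r15)
noncomputable def w7 : WT := (.node (nat_lit 1) (.leaf (nat_lit 7168) [nat_lit 216]) (.node (nat_lit 4) (.node (nat_lit 2) (.leaf (nat_lit 34818) [nat_lit 168, nat_lit 216, nat_lit 168]) (.node (nat_lit 3) (.leaf (nat_lit 25602) [nat_lit 96, nat_lit 216, nat_lit 96]) (.leaf (nat_lit 35842) [nat_lit 192, nat_lit 216, nat_lit 192, nat_lit 216, nat_lit 192]))) (.node (nat_lit 6) (.node (nat_lit 5) (.leaf (nat_lit 20482) [nat_lit 72, nat_lit 216, nat_lit 72]) (.leaf (nat_lit 32770) [nat_lit 144, nat_lit 216, nat_lit 144])) (.node (nat_lit 7) (.leaf (nat_lit 29698) [nat_lit 120, nat_lit 216, nat_lit 120]) r16))))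
noncomputable def r17 : WT := (.leaf (nat_lit 36880) [nat_lit 216, nat_lit 96, nat_lit 72, nat_lit 48, nat_lit 96, nat_lit 120, nat_lit 144, nat_lit 96, nat_lit 192, nat_lit 216, nat_lit 96, nat_lit 72, nat_lit 48, nat_lit 96, nat_lit 120, nat_lit 144, nat_lit 96, nat_lit 192, nat_lit 216, nat_lit 96, nat_lit 72, nat_lit 48, nat_lit 96, nat_lit 120, nat_lit 144, nat_lit 96, nat_lit 192, nat_lit 216, nat_lit 96, nat_lit 72, nat_lit 48, nat_lit 96, nat_lit 120, nat_lit 144, nat_lit 96, nat_lit 192, nat_lit 216, nat_lit 96, nat_lit 72, nat_lit 48, nat_lit 96, nat_lit 120, nat_lit 144, nat_lit 96, nat_lit 192, nat_lit 216, nat_lit 96, nat_lit 72, nat_lit 48, nat_lit 96, nat_lit 120, nat_lit 144, nat_lit 96, nat_lit 192, nat_lit 216, nat_lit 96, nat_lit 72, nat_lit 48, nat_lit 96, nat_lit 120, nat_lit 144, nat_lit 96, nat_lit 192, nat_lit 216, nat_lit 96, nat_lit 72, nat_lit 48, nat_lit 96, nat_lit 120, nat_lit 144, nat_lit 96, nat_lit 192, nat_lit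 216, nat_lit 96, nat_lit 72, nat_lit 48, nat_lit 96, nat_lit 120, nat_lit 144, nat_lit 96, nat_lit 192, nat_lit 216, nat_lit 96, nat_lit 72, nat_lit 48, nat_lit 96, nat_lit 120, nat_lit 144, nat_lit 96, nat_lit 192])
noncomputable def r18 : WT := (.leaf (nat_lit 36879) [nat_lit 72, nat_lit 96, nat_lit 216, nat_lit 192, nat_lit 96, nat_lit 144, nat_lit 120, nat_lit 96, nat_lit 48, nat_lit 72, nat_lit 96, nat_lit 216, nat_lit 192, nat_lit 96, nat_lit 144, nat_lit 120, nat_lit 96, nat_lit 48, nat_lit 72, nat_lit 96, nat_lit 216, nat_lit 192, nat_lit 96, nat_lit 144, nat_lit 120, nat_lit 96, nat_lit 48, nat_lit 72, nat_lit 96, nat_lit 216, nat_lit 192, nat_lit 96, nat_lit 144, nat_lit 120, nat_lit 96, nat_lit 48, nat_lit 72, nat_lit 96, nat_lit 216, nat_lit 192, nat_lit 96, nat_lit 144, nat_lit 120, nat_lit 96, nat_lit 48, nat_lit 72, nat_lit 96, nat_lit 216, nat_lit 192, nat_lit 96, nat_lit 144, nat_lit 120, nat_lit 96, nat_lit 48, nat_lit 72, nat_lit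 96, nat_lit 216, nat_lit 192, nat_lit 96, nat_lit 144, nat_lit 120, nat_lit 96, nat_lit 48, nat_lit 72, nat_lit 96, nat_lit 216, nat_lit 192, nat_lit 96, nat_lit 144, nat_lit 120, nat_lit 96, nat_lit 48, nat_lit 72, nat_lit 96, nat_lit 216, nat_lit 192, nat_lit 96, nat_lit 144, nat_lit 120, nat_lit 96, nat_lit 48, nat_lit 72, nat_lit 96, nat_lit 216, nat_lit 192, nat_lit 96, nat_lit 144, nat_lit 120, nat_lit 96, nat_lit 48])
noncomputable def wP : WT := (.node (nat_lit 6) (.node (nat_lit 2) (.node (nat_lit 1) (.leaf (nat_lit 25602) [nat_lit 216, nat_lit 96, nat_lit 216, nat_lit 96]) (.leaf (nat_lit 21504) [nat_lit 96, nat_lit 120, nat_lit 96, nat_lit 120, nat_lit 96, nat_lit 120])) (.node (nat_lit 4) (.node (nat_lit 3) (.leaf (nat_lit 9216) [nat_lit 48, nat_lit 96, nat_lit 48, nat_lit 96]) (.leaf (nat_lit 10240) [nat_lit 48, nat_lit 120, nat_lit 48, nat_lit 120])) (.node (nat_lit 5) (.leaf (nat_lit 12290) [nat_lit 168, nat_lit 48, nat_lit 168,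 nat_lit 48]) (.leaf (nat_lit 17408) [nat_lit 72, nat_lit 144, nat_lit 72, nat_lit 144])))) (.node (nat_lit 10) (.node (nat_lit 8) (.node (nat_lit 7) (.leaf (nat_lit 17410) [nat_lit 144, nat_lit 72, nat_lit 144, nat_lit 72]) (.leaf (nat_lit 18434) [nat_lit 168, nat_lit 72, nat_lit 168, nat_lit 72])) (.node (nat_lit 9) (.leaf (nat_lit 22528) [nat_lit 96, nat_lit 144, nat_lit 96, nat_lit 144]) (.leaf (nat_lit 22530) [nat_lit 144, nat_lit 96, nat_lit 144, nat_lit 96]))) (.node (nat_lit 12) (.node (nat_lit 11) (.leaf (nat_lit 28672) [nat_lit 120, nat_lit 192, nat_lit 120, nat_lit 192]) (.leaf (nat_lit 24576) [nat_lit 96, nat_lit 192, nat_lit 96, nat_lit 192, nat_lit 96, nat_lit 192])) (.node (nat_lit 13) r17 r18))))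
noncomputable def P : Par := ⟨tb, nat_lit 240, nat_lit 0xffffffffffffffffffffffffffffffffffffffffffffffffffffffffffff, nat_lit 5023, nat_lit 16777215, nat_lit 8191, nat_lit 24, nat_lit 13, nat_lit 3159,
  [nat_lit 48, nat_lit 72, nat_lit 96, nat_lit 120, nat_lit 144, nat_lit 168, nat_lit 192, nat_lit 216], [nat_lit 48, nat_lit 72, nat_lit 96, nat_lit 120, nat_lit 144, nat_lit 168, nat_lit 192], wP,
  (.cons (nat_lit 48) w0 (.cons (nat_lit 72) w1 (.cons (nat_lit 96) w2 (.cons (nat_lit 120) w3 (.cons (nat_lit 144) w4 (.cons (nat_lit 168) w5 (.cons (nat_lit 192) w6 (.cons (nat_lit 216) w7 .nil)))))))),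
  .nil⟩

end Cfsg.Agent.Lib.TCFiB
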