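import Cfsg.Agent.Lib.TCDefs

set_option autoImplicit false
set_option maxRecDepth 100000

namespace Cfsg.Agent.Lib.TCFiE6
open Cfsg.Agent.Lib.TCCore

noncomputable def l0 : T := .leaf (nat_lit 0) (nat_lit 0x27b21a27b25b25b29bfff04825a23b1f923a23a27afff03c23925921a1d8219259fff0301f72382181f91b6238fff0242182171f71d71941f7fff0241942161f61d61d81f5fff0541731f51b51b51d5216fff0541b61f41d41721b71b3fff0301951d319314f1b31d4fff0301b21d21911941b214ffff0181911b01b217117112dfff0181501d117015015010cfff01818f1af12d17316e172fff03c16e16e10b14e18f14efff03c16d16c14f14d10b151fff02412c18d14c12c0ea130fff02414b12a12e0e912d12bfff03010a14b12a0c710c10afff0301080c712910b109109fff0481290a50e80e80e80e8fff0480a50e90e60ea0e70e7fff0540840c61070c60c60c6fff0540c70c80840c50c50c5fff03c0a60a40a50630a40a4fff030083083083084042083fff024062062062062063021fff018021021021021021042fff000)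

end Cfsg.Agent.Lib.TCFiE6
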