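import Cfsg.Agent.Lib.TCFiE6D0

set_option autoImplicit false
set_option maxRecDepth 100000

namespace Cfsg.Agent.Lib.TCFiE6
open Cfsg.Agent.Lib.TCCore

noncomputable def tb : T := l0
noncomputable def w0 : WT := (.node (nat_lit 2) (.node (nat_lit 1) (.leaf (nat_lit 0) [nat_lit 24]) (.leaf (nat_lit 7168) [nat_lit 48, nat_lit 24, nat_lit 48])) (.node (nat_lit 4) (.node (nat_lit 3) (.leaf (nat_lit 8192) [nat_lit 60, nat_lit 24, nat_lit 60]) (.leaf (nat_lit 9216) [nat_lit 72, nat_lit 24, nat_lit 72])) (.node (nat_lit 5) (.leaf (nat_lit 10240) [nat_lit 84, nat_lit 24, nat_lit 84]) (.leaf (nat_lit 6144) [nat_lit 36, nat_lit 24, nat_lit 36, nat_lit 24, nat_lit 36]))))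
noncomputable def w1 : WT := (.node (nat_lit 3) (.node (nat_lit 1) (.leaf (nat_lit 1024) [nat_lit 36]) (.node (nat_lit 2) (.leaf (nat_lit 12288) [nat_lit 60, nat_lit 36, nat_lit 60]) (.leaf (nat_lit 13312) [nat_lit 72, nat_lit 36, nat_lit 72]))) (.node (nat_lit 5) (.node (nat_lit 4) (.leaf (nat_lit 14336) [nat_lit 84, nat_lit 36, nat_lit 84]) (.leaf (nat_lit 6146) [nat_lit 24, nat_lit 36, nat_lit 24, nat_lit 36, nat_lit 24])) (.leaf (nat_lit 11264) [nat_lit 48, nat_lit 36, nat_lit 48, nat_lit 36, nat_lit 48])))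
noncomputable def w2 : WT := (.node (nat_lit 2) (.node (nat_lit 1) (.leaf (nat_lit 2048) [nat_lit 48]) (.leaf (nat_lit 7170) [nat_lit 24, nat_lit 48, nat_lit 24])) (.node (nat_lit 4) (.node (nat_lit 3) (.leaf (nat_lit 11266) [nat_lit 36, nat_lit 48, nat_lit 36, nat_lit 48, nat_lit 36]) (.leaf (nat_lit 15360) [nat_lit 60, nat_lit 48, nat_lit 60, nat_lit 48, nat_lit 60])) (.node (nat_lit 5) (.leaf (nat_lit 17408) [nat_lit 84, nat_lit 48, nat_lit 84, nat_lit 48, nat_lit 84]) (.leaf (nat_lit 16384) [nat_lit 72, nat_lit 48, nat_lit 72]))))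
noncomputable def w3 : WT := (.node (nat_lit 2) (.node (nat_lit 1) (.leaf (nat_lit 3072) [nat_lit 60]) (.leaf (nat_lit 12290) [nat_lit 36, nat_lit 60, nat_lit 36])) (.node (nat_lit 4) (.node (nat_lit 3) (.leaf (nat_lit 8194) [nat_lit 24, nat_lit 60, nat_lit 24]) (.leaf (nat_lit 19456) [nat_lit 84, nat_lit 60, nat_lit 84])) (.node (nat_lit 5) (.leaf (nat_lit 15362) [nat_lit 48, nat_lit 60, nat_lit 48, nat_lit 60, nat_lit 48]) (.leaf (nat_lit 18432) [nat_lit 72, nat_lit 60, nat_lit 72, nat_lit 60, nat_lit 72]))))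
noncomputable def w4 : WT := (.node (nat_lit 2) (.node (nat_lit 1) (.leaf (nat_lit 4096) [nat_lit 72]) (.leaf (nat_lit 16386) [nat_lit 48, nat_lit 72, nat_lit 48])) (.node (nat_lit 4) (.node (nat_lit 3) (.leaf (nat_lit 13314) [nat_lit 36, nat_lit 72, nat_lit 36]) (.leaf (nat_lit 9218) [nat_lit 24, nat_lit 72, nat_lit 24])) (.node (nat_lit 5) (.leaf (nat_lit 20480) [nat_lit 84, nat_lit 72, nat_lit 84]) (.leaf (nat_lit 18434) [nat_lit 60, nat_lit 72, nat_lit 60, nat_lit 72, nat_lit 60]))))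
noncomputable def w5 : WT := (.node (nat_lit 2) (.node (nat_lit 1) (.leaf (nat_lit 5120) [nat_lit 84]) (.leaf (nat_lit 10242) [nat_lit 24, nat_lit 84, nat_lit 24])) (.node (nat_lit 4) (.node (nat_lit 3) (.leaf (nat_lit 14338) [nat_lit 36, nat_lit 84, nat_lit 36]) (.leaf (nat_lit 19458) [nat_lit 60, nat_lit 84, nat_lit 60])) (.node (nat_lit 5) (.leaf (nat_lit 17410) [nat_lit 48, nat_lit 84, nat_lit 48, nat_lit 84, nat_lit 48]) (.leaf (nat_lit 20482) [nat_lit 72, nat_lit 84, nat_lit 72]))))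
noncomputable def wP : WT := (.leaf (nat_lit 0) [nat_lit 24, nat_lit 24])
noncomputable def P : Par := ⟨tb, nat_lit 96, nat_lit 0xffffffffffffffffffffffff, nat_lit 27, nat_lit 4095, nat_lit 31, nat_lit 12, nat_lit 5, nat_lit 27,
  [nat_lit 24, nat_lit 36, nat_lit 48, nat_lit 60, nat_lit 72, nat_lit 84], [nat_lit 36, nat_lit 48, nat_lit 60, nat_lit 72, nat_lit 84], wP,
  (.cons (nat_lit 24) w0 (.cons (nat_lit 36) w1 (.cons (nat_lit 48) w2 (.cons (nat_lit 60) w3 (.cons (nat_lit 72) w4 (.cons (nat_lit 84) w5 .nil)))))),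
  .nil⟩

end Cfsg.Agent.Lib.TCFiE6
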