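import Cfsg.Agent.Lib.TCDefs

set_option autoImplicit false
set_option maxRecDepth 100000

namespace Cfsg.Agent.Lib.TCFiE7
open Cfsg.Agent.Lib.TCCore

noncomputable def l0 : T := .leaf (nat_lit 0) (nat_lit 0x7b86f77f87787788387f8fff0547777386b67377377f77b7fff0487367b66f76756f67b6776fff03c6f57756f56b6634775735fff0306737346b46b46755f26f4fff0246b46f36736736335b0673fff0245b06f2672672732634671fff06056f6b16315f16f16316b2fff0605f26b063063056e5f35effff0305b166f5ef5af52a5ef630fff0306ee66e5ee5ad5b05ee52afff0186ad62d5ac5ee5ad5ad4e8fff01866c62b5ed52c52c56c4a7fff01852b66c56b4eb4eb52b466fff0186aa62a5aa4e856f56956efff03c6695e95294a55695aa5a9fff03c6685e852752a5684a552dfff0246275a65684e74e74624ecfff0244e65e75264a64a64214abfff0246255a54624e94e34e8565fff0484e35a44605245e4524564fff04852452341f4a35254e3523fff0485e25214a54a241f4a7522fff0304a15624e14613de4664e1fff03041f51d4a44995a04e0520fff06046049e4633dc46249f4dffff03c41d4df49e39b42145e49efff03c45e56041d3553dd41d45dfff03c39941b45c41f45c45c49cfff06035545c41a3de3db41b45bfff06031439a45b3da39a39a41afff0603dc355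4194e03d8419459fff0543d83133983d84193d7418fff0543972d2357357357418416fff054316291316316316356457fff05439b39939439d3133d5415fff03035a3543d53942d03543d4fff0303933582d03933553523d3fff04835231728e312312393391fff0482d12d624d2d12d13113d2fff04835031031330f31428e390fff02430f2cf2cf3502cf24c30ffff02430e2ce2d224c2ce2d030dfff03c28d28d29120b28d2cd34efff03c2cc28c28c28e20a28f28bfff03024b24b24b24d1c828b2ccfff03024924a24a24a24c28a1c8fff01828a209209209209209186fff01818620820820820b20720afff0601451c71c71c71c72481c7fff0601c81c61c61c61c61451c9fff024187185185185104186185fff0301441441440c3145144144fff03c103103082104103103103fff0480c20410c30c20c20c20c2fff054041082041041041041041fff000)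

end Cfsg.Agent.Lib.TCFiE7
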