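import Cfsg.Agent.Lib.TCG3D0

set_option autoImplicit false
set_option maxRecDepth 100000

namespace Cfsg.Agent.Lib.TCG3
open Cfsg.Agent.Lib.TCCore

noncomputable def n0 : T := (.node (nat_lit 102) (.node (nat_lit 34) l0 (.node (nat_lit 68) l1 l2)) (.node (nat_lit 170) (.node (nat_lit 136) l3 l4) (.node (nat_lit 204) l5 l6)))
noncomputable def n1 : T := (.node (nat_lit 374) (.node (nat_lit 306) (.node (nat_lit 272) l7 l8) (.node (nat_lit 340) l9 l10)) (.node (nat_lit 442) (.node (nat_lit 408) l11 l12) (.node (nat_lit 476) l13 l14)))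
noncomputable def n2 : T := (.node (nat_lit 612) (.node (nat_lit 544) l15 (.node (nat_lit 578) l16 l17)) (.node (nat_lit 680) (.node (nat_lit 646) l18 l19) (.node (nat_lit 714) l20 l21)))
noncomputable def n3 : T := (.node (nat_lit 884) (.node (nat_lit 816) (.node (nat_lit 782) l22 l23) (.node (nat_lit 850) l24 l25)) (.node (nat_lit 952) (.node (nat_lit 918) l26 l27) (.node (nat_lit 986) l28 l29)))
noncomputable def n4 : T := (.node (nat_lit 1122) (.node (nat_lit 1054) l30 (.node (nat_lit 1088) l31 l32)) (.node (nat_lit 1190) (.node (nat_lit 1156) l33 l34) (.node (nat_lit 1224) l35 l36)))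
noncomputable def n5 : T := (.node (nat_lit 1394) (.node (nat_lit 1326) (.node (nat_lit 1292) l37 l38) (.node (nat_lit 1360) l39 l40)) (.node (nat_lit 1462) (.node (nat_lit 1428) l41 l42) (.node (nat_lit 1496) l43 l44)))
noncomputable def n6 : T := (.node (nat_lit 1632) (.node (nat_lit 1564) l45 (.node (nat_lit 1598) l46 l47)) (.node (nat_lit 1700) (.node (nat_lit 1666) l48 l49) (.node (nat_lit 1734) l50 l51)))
noncomputable def n7 : T := (.node (nat_lit 1904) (.node (nat_lit 1836) (.node (nat_lit 1802) l52 l53) (.node (nat_lit 1870) l54 l55)) (.node (nat_lit 1972) (.node (nat_lit 1938) l56 l57) (.node (nat_lit 2006) l58 l59)))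
noncomputable def n8 : T := (.node (nat_lit 2142) (.node (nat_lit 2074) l60 (.node (nat_lit 2108) l61 l62)) (.node (nat_lit 2210) (.node (nat_lit 2176) l63 l64) (.node (nat_lit 2244) l65 l66)))
noncomputable def n9 : T := (.node (nat_lit 2414) (.node (nat_lit 2346) (.node (nat_lit 2312) l67 l68) (.node (nat_lit 2380) l69 l70)) (.node (nat_lit 2482) (.node (nat_lit 2448) l71 l72) (.node (nat_lit 2516) l73 l74)))
noncomputable def n10 : T := (.node (nat_lit 2652) (.node (nat_lit 2584) l75 (.node (nat_lit 2618) l76 l77)) (.node (nat_lit 2720) (.node (nat_lit 2686) l78 l79) (.node (nat_lit 2754) l80 l81)))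
noncomputable def n11 : T := (.node (nat_lit 2924) (.node (nat_lit 2856) (.node (nat_lit 2822) l82 l83) (.node (nat_lit 2890) l84 l85)) (.node (nat_lit 2992) (.node (nat_lit 2958) l86 l87) (.node (nat_lit 3026) l88 l89)))
noncomputable def n12 : T := (.node (nat_lit 3162) (.node (nat_lit 3094) l90 (.node (nat_lit 3128) l91 l92)) (.node (nat_lit 3230) (.node (nat_lit 3196) l93 l94) (.node (nat_lit 3264) l95 l96)))
noncomputable def n13 : T := (.node (nat_lit 3434) (.node (nat_lit 3366) (.node (nat_lit 3332) l97 l98) (.node (nat_lit 3400) l99 l100)) (.node (nat_lit 3502) (.node (nat_lit 3468) l101 l102) (.node (nat_lit 3536) l103 l104)))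
noncomputable def n14 : T := (.node (nat_lit 3706) (.node (nat_lit 3638) (.node (nat_lit 3604) l105 l106) (.node (nat_lit 3672) l107 l108)) (.node (nat_lit 3774) (.node (nat_lit 3740) l109 l110) (.node (nat_lit 3808) l111 l112)))
noncomputable def n15 : T := (.node (nat_lit 3978) (.node (nat_lit 3910) (.node (nat_lit 3876) l113 l114) (.node (nat_lit 3944) l115 l116)) (.node (nat_lit 4046) (.node (nat_lit 4012) l117 l118) (.node (nat_lit 4080) l119 l120)))
noncomputable def n16 : T := (.node (nat_lit 4216) (.node (nat_lit 4148) l121 (.node (nat_lit 4182) l122 l123)) (.node (nat_lit 4284) (.node (nat_lit 4250) l124 l125) (.node (nat_lit 4318) l126 l127)))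
noncomputable def n17 : T := (.node (nat_lit 4488) (.node (nat_lit 4420) (.node (nat_lit 4386) l128 l129) (.node (nat_lit 4454) l130 l131)) (.node (nat_lit 4556) (.node (nat_lit 4522) l132 l133) (.node (nat_lit 4590) l134 l135)))
noncomputable def n18 : T := (.node (nat_lit 4726) (.node (nat_lit 4658) l136 (.node (nat_lit 4692) l137 l138)) (.node (nat_lit 4794) (.node (nat_lit 4760) l139 l140) (.node (nat_lit 4828) l141 l142)))
noncomputable def n19 : T := (.node (nat_lit 4998) (.node (nat_lit 4930) (.node (nat_lit 4896) l143 l144) (.node (nat_lit 4964) l145 l146)) (.node (nat_lit 5066) (.node (nat_lit 5032) l147 l148) (.node (nat_lit 5100) l149 l150)))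
noncomputable def n20 : T := (.node (nat_lit 5236) (.node (nat_lit 5168) l151 (.node (nat_lit 5202) l152 l153)) (.node (nat_lit 5304) (.node (nat_lit 5270) l154 l155) (.node (nat_lit 5338) l156 l157)))
noncomputable def n21 : T := (.node (nat_lit 5508) (.node (nat_lit 5440) (.node (nat_lit 5406) l158 l159) (.node (nat_lit 5474) l160 l161)) (.node (nat_lit 5576) (.node (nat_lit 5542) l162 l163) (.node (nat_lit 5610) l164 l165)))
noncomputable def n22 : T := (.node (nat_lit 5780) (.node (nat_lit 5712) (.node (nat_lit 5678) l166 l167) (.node (nat_lit 5746) l168 l169)) (.node (nat_lit 5848) (.node (nat_lit 5814) l170 l171) (.node (nat_lit 5882) l172 l173)))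
noncomputable def n23 : T := (.node (nat_lit 6052) (.node (nat_lit 5984) (.node (nat_lit 5950) l174 l175) (.node (nat_lit 6018) l176 l177)) (.node (nat_lit 6120) (.node (nat_lit 6086) l178 l179) (.node (nat_lit 6154) l180 l181)))
noncomputable def n24 : T := (.node (nat_lit 6290) (.node (nat_lit 6222) l182 (.node (nat_lit 6256) l183 l184)) (.node (nat_lit 6358) (.node (nat_lit 6324) l185 l186) (.node (nat_lit 6392) l187 l188)))
noncomputable def n25 : T := (.node (nat_lit 6562) (.node (nat_lit 6494) (.node (nat_lit 6460) l189 l190) (.node (nat_lit 6528) l191 l192)) (.node (nat_lit 6630) (.node (nat_lit 6596) l193 l194) (.node (nat_lit 6664) l195 l196)))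
noncomputable def n26 : T := (.node (nat_lit 6800) (.node (nat_lit 6732) l197 (.node (nat_lit 6766) l198 l199)) (.node (nat_lit 6868) (.node (nat_lit 6834) l200 l201) (.node (nat_lit 6902) l202 l203)))
noncomputable def n27 : T := (.node (nat_lit 7072) (.node (nat_lit 7004) (.node (nat_lit 6970) l204 l205) (.node (nat_lit 7038) l206 l207)) (.node (nat_lit 7140) (.node (nat_lit 7106) l208 l209) (.node (nat_lit 7174) l210 l211)))
noncomputable def n28 : T := (.node (nat_lit 7310) (.node (nat_lit 7242) l212 (.node (nat_lit 7276) l213 l214)) (.node (nat_lit 7378) (.node (nat_lit 7344) l215 l216) (.node (nat_lit 7412) l217 l218)))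
noncomputable def n29 : T := (.node (nat_lit 7582) (.node (nat_lit 7514) (.node (nat_lit 7480) l219 l220) (.node (nat_lit 7548) l221 l222)) (.node (nat_lit 7650) (.node (nat_lit 7616) l223 l224) (.node (nat_lit 7684) l225 l226)))
noncomputable def n30 : T := (.node (nat_lit 7854) (.node (nat_lit 7786) (.node (nat_lit 7752) l227 l228) (.node (nat_lit 7820) l229 l230)) (.node (nat_lit 7922) (.node (nat_lit 7888) l231 l232) (.node (nat_lit 7956) l233 l234)))
noncomputable def n31 : T := (.node (nat_lit 8126) (.node (nat_lit 8058) (.node (nat_lit 8024) l235 l236) (.node (nat_lit 8092) l237 l238)) (.node (nat_lit 8194) (.node (nat_lit 8160) l239 l240) (.node (nat_lit 8228) l241 l242)))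
noncomputable def tb : T := (.node (nat_lit 4114) (.node (nat_lit 2040) (.node (nat_lit 1020) (.node (nat_lit 510) (.node (nat_lit 238) n0 n1) (.node (nat_lit 748) n2 n3)) (.node (nat_lit 1530) (.node (nat_lit 1258) n4 n5) (.node (nat_lit 1768) n6 n7))) (.node (nat_lit 3060) (.node (nat_lit 2550) (.node (nat_lit 2278) n8 n9) (.node (nat_lit 2788) n10 n11)) (.node (nat_lit 3570) (.node (nat_lit 3298) n12 n13) (.node (nat_lit 3842) n14 n15)))) (.node (nat_lit 6188) (.node (nat_lit 5134) (.node (nat_lit 4624) (.node (nat_lit 4352) n16 n17) (.node (nat_lit 4862) n18 n19)) (.node (nat_lit 5644) (.node (nat_lit 5372) n20 n21) (.node (nat_lit 5916) n22 n23))) (.node (nat_lit 7208) (.node (nat_lit 6698) (.node (nat_lit 6426) n24 n25) (.node (nat_lit 6936) n26 n27)) (.node (nat_lit 7718) (.node (nat_lit 7446) n28 n29) (.node (nat_lit 7990) n30 n31)))))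
noncomputable def r0 : WT := (.node (nat_lit 8) (.leaf (nat_lit 94208) [nat_lit 375, nat_lit 75, nat_lit 525]) (.leaf (nat_lit 94211) [nat_lit 400, nat_lit 75, nat_lit 500]))
noncomputable def w0 : WT := (.node (nat_lit 1) (.leaf (nat_lit 0) [nat_lit 75]) (.node (nat_lit 4) (.node (nat_lit 2) (.leaf (nat_lit 91136) [nat_lit 475, nat_lit 75, nat_lit 350]) (.node (nat_lit 3) (.leaf (nat_lit 88064) [nat_lit 50, nat_lit 50]) (.leaf (nat_lit 89088) [nat_lit 350, nat_lit 75, nat_lit 200]))) (.node (nat_lit 6) (.node (nat_lit 5) (.leaf (nat_lit 92160) [nat_lit 225, nat_lit 75, nat_lit 225]) (.leaf (nat_lit 90112) [nat_lit 200, nat_lit 75, nat_lit 475])) (.node (nat_lit 7) (.leaf (nat_lit 93186) [nat_lit 250, nat_lit 50, nat_lit 250]) r0))))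
noncomputable def r1 : WT := (.node (nat_lit 8) (.leaf (nat_lit 94215) [nat_lit 500, nat_lit 50, nat_lit 400]) (.leaf (nat_lit 94212) [nat_lit 525, nat_lit 50, nat_lit 375]))
noncomputable def w1 : WT := (.node (nat_lit 1) (.leaf (nat_lit 2) [nat_lit 50]) (.node (nat_lit 4) (.node (nat_lit 2) (.leaf (nat_lit 89092) [nat_lit 200, nat_lit 50, nat_lit 350]) (.node (nat_lit 3) (.leaf (nat_lit 90116) [nat_lit 475, nat_lit 50, nat_lit 200]) (.leaf (nat_lit 92164) [nat_lit 225, nat_lit 50, nat_lit 225]))) (.node (nat_lit 6) (.node (nat_lit 5) (.leaf (nat_lit 88065) [nat_lit 75, nat_lit 75]) (.leaf (nat_lit 91140) [nat_lit 350, nat_lit 50, nat_lit 475])) (.node (nat_lit 7) (.leaf (nat_lit 93185) [nat_lit 275, nat_lit 75, nat_lit 275]) r1))))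
noncomputable def r2 : WT := (.node (nat_lit 5) (.leaf (nat_lit 23556) [nat_lit 300, nat_lit 125, nat_lit 325]) (.leaf (nat_lit 95235) [nat_lit 525, nat_lit 125, nat_lit 500]))
noncomputable def r3 : WT := (.node (nat_lit 7) (.leaf (nat_lit 95232) [nat_lit 500, nat_lit 125, nat_lit 525]) (.node (nat_lit 8) (.leaf (nat_lit 29699) [nat_lit 475, nat_lit 100, nat_lit 475]) (.leaf (nat_lit 23559) [nat_lit 325, nat_lit 125, nat_lit 300])))
noncomputable def r4 : WT := (.node (nat_lit 12) (.node (nat_lit 10) (.leaf (nat_lit 24579) [nat_lit 375, nat_lit 100, nat_lit 275]) (.node (nat_lit 11) (.leaf (nat_lit 22535) [nat_lit 275, nat_lit 400, nat_lit 250]) (.leaf (nat_lit 12289) [nat_lit 100, nat_lit 100]))) (.node (nat_lit 15) (.node (nat_lit 13) (.leaf (nat_lit 27655) [nat_lit 250, nat_lit 400, nat_lit 275]) (.node (nat_lit 14) (.leaf (nat_lit 26628) [nat_lit 425, nat_lit 125, nat_lit 450]) (.leaf (nat_lit 21508) [nat_lit 150, nat_lit 125, nat_lit 175]))) (.node (nat_lit 17)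 (.node (nat_lit 16) (.leaf (nat_lit 24583) [nat_lit 275, nat_lit 100, nat_lit 375]) (.leaf (nat_lit 21511) [nat_lit 175, nat_lit 125, nat_lit 150])) (.node (nat_lit 18) (.leaf (nat_lit 26631) [nat_lit 450, nat_lit 125, nat_lit 425]) (.leaf (nat_lit 25607) [nat_lit 375, nat_lit 275, nat_lit 375])))))
noncomputable def w2 : WT := (.node (nat_lit 1) (.leaf (nat_lit 1024) [nat_lit 125]) (.node (nat_lit 3) (.node (nat_lit 2) (.leaf (nat_lit 31748) [nat_lit 350, nat_lit 125, nat_lit 350]) (.leaf (nat_lit 30727) [nat_lit 225, nat_lit 400, nat_lit 225])) (.node (nat_lit 6) (.node (nat_lit 4) (.leaf (nat_lit 28675) [nat_lit 200, nat_lit 100, nat_lit 200]) r2) (.node (nat_lit 9) r3 r4))))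
noncomputable def r5 : WT := (.node (nat_lit 4) (.leaf (nat_lit 23555) [nat_lit 300, nat_lit 100, nat_lit 325]) (.leaf (nat_lit 28672) [nat_lit 200, nat_lit 125, nat_lit 200]))
noncomputable def r6 : WT := (.node (nat_lit 6) (.leaf (nat_lit 95239) [nat_lit 500, nat_lit 100, nat_lit 525]) (.leaf (nat_lit 95236) [nat_lit 525, nat_lit 100, nat_lit 500]))
noncomputable def r7 : WT := (.node (nat_lit 9) (.node (nat_lit 8) (.leaf (nat_lit 29696) [nat_lit 475, nat_lit 125, nat_lit 475]) (.leaf (nat_lit 24580) [nat_lit 250, nat_lit 125, nat_lit 400])) (.node (nat_lit 10) (.leaf (nat_lit 22528) [nat_lit 275, nat_lit 375, nat_lit 250]) (.leaf (nat_lit 23552) [nat_lit 325, nat_lit 100, nat_lit 300])))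
noncomputable def r8 : WT := (.node (nat_lit 13) (.node (nat_lit 12) (.leaf (nat_lit 27648) [nat_lit 250, nat_lit 375, nat_lit 275]) (.leaf (nat_lit 12288) [nat_lit 125, nat_lit 125])) (.node (nat_lit 15) (.node (nat_lit 14) (.leaf (nat_lit 24576) [nat_lit 400, nat_lit 125, nat_lit 250]) (.leaf (nat_lit 26627) [nat_lit 425, nat_lit 100, nat_lit 450])) (.node (nat_lit 17) (.node (nat_lit 16) (.leaf (nat_lit 21507) [nat_lit 150, nat_lit 100, nat_lit 175]) (.leaf (nat_lit 21504) [nat_lit 175, nat_lit 100, nat_lit 150])) (.node (nat_lit 18) (.leaf (nat_lit 26624) [nat_lit 450, nat_lit 100, nat_lit 425]) (.leaf (nat_lit 25600) [nat_lit 400, nat_lit 250, nat_lit 400])))))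
noncomputable def w3 : WT := (.node (nat_lit 1) (.leaf (nat_lit 1026) [nat_lit 100]) (.node (nat_lit 3) (.node (nat_lit 2) (.leaf (nat_lit 31744) [nat_lit 350, nat_lit 100, nat_lit 350]) (.leaf (nat_lit 30720) [nat_lit 225, nat_lit 375, nat_lit 225])) (.node (nat_lit 7) (.node (nat_lit 5) r5 r6) (.node (nat_lit 11) r7 r8))))
noncomputable def r9 : WT := (.node (nat_lit 4) (.leaf (nat_lit 38915) [nat_lit 200, nat_lit 150, nat_lit 200]) (.leaf (nat_lit 96256) [nat_lit 500, nat_lit 175, nat_lit 525]))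
noncomputable def r10 : WT := (.node (nat_lit 6) (.leaf (nat_lit 35843) [nat_lit 425, nat_lit 150, nat_lit 325]) (.leaf (nat_lit 96259) [nat_lit 525, nat_lit 175, nat_lit 500]))
noncomputable def r11 : WT := (.node (nat_lit 9) (.node (nat_lit 8) (.leaf (nat_lit 39939) [nat_lit 475, nat_lit 150, nat_lit 475]) (.leaf (nat_lit 33799) [nat_lit 325, nat_lit 450, nat_lit 300])) (.node (nat_lit 10) (.leaf (nat_lit 34820) [nat_lit 375, nat_lit 175, nat_lit 400]) (.leaf (nat_lit 32772) [nat_lit 250, nat_lit 175, nat_lit 275])))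
noncomputable def r12 : WT := (.node (nat_lit 14) (.node (nat_lit 12) (.leaf (nat_lit 32775) [nat_lit 275, nat_lit 175, nat_lit 250]) (.node (nat_lit 13) (.leaf (nat_lit 34823) [nat_lit 400, nat_lit 175, nat_lit 375]) (.leaf (nat_lit 37895) [nat_lit 300, nat_lit 450, nat_lit 325]))) (.node (nat_lit 16) (.node (nat_lit 15) (.leaf (nat_lit 13313) [nat_lit 150, nat_lit 150]) (.leaf (nat_lit 21509) [nat_lit 100, nat_lit 175, nat_lit 125])) (.node (nat_lit 17) (.leaf (nat_lit 21510) [nat_lit 125, nat_lit 175, nat_lit 100]) (.node (nat_lit 18) (.leaf (nat_lit 35847) [nat_lit 325, nat_lit 150, nat_lit 425]) (.leaf (nat_lit 36871) [nat_lit 425, nat_lit 325, nat_lit 425])))))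
noncomputable def w4 : WT := (.node (nat_lit 1) (.leaf (nat_lit 2048) [nat_lit 175]) (.node (nat_lit 3) (.node (nat_lit 2) (.leaf (nat_lit 41988) [nat_lit 350, nat_lit 175, nat_lit 350]) (.leaf (nat_lit 40967) [nat_lit 225, nat_lit 450, nat_lit 225])) (.node (nat_lit 7) (.node (nat_lit 5) r9 r10) (.node (nat_lit 11) r11 r12))))
noncomputable def r13 : WT := (.node (nat_lit 4) (.leaf (nat_lit 37888) [nat_lit 300, nat_lit 425, nat_lit 325]) (.leaf (nat_lit 38912) [nat_lit 200, nat_lit 175, nat_lit 200]))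
noncomputable def r14 : WT := (.node (nat_lit 6) (.leaf (nat_lit 96263) [nat_lit 500, nat_lit 150, nat_lit 525]) (.leaf (nat_lit 96260) [nat_lit 525, nat_lit 150, nat_lit 500]))
noncomputable def r15 : WT := (.node (nat_lit 9) (.node (nat_lit 8) (.leaf (nat_lit 39936) [nat_lit 475, nat_lit 175, nat_lit 475]) (.leaf (nat_lit 33792) [nat_lit 325, nat_lit 425, nat_lit 300])) (.node (nat_lit 10) (.leaf (nat_lit 13312) [nat_lit 175, nat_lit 175]) (.leaf (nat_lit 32771) [nat_lit 250, nat_lit 150, nat_lit 275])))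
noncomputable def r16 : WT := (.node (nat_lit 14) (.node (nat_lit 12) (.leaf (nat_lit 34819) [nat_lit 375, nat_lit 150, nat_lit 400]) (.node (nat_lit 13) (.leaf (nat_lit 32768) [nat_lit 275, nat_lit 150, nat_lit 250]) (.leaf (nat_lit 34816) [nat_lit 400, nat_lit 150, nat_lit 375]))) (.node (nat_lit 16) (.node (nat_lit 15) (.leaf (nat_lit 21506) [nat_lit 100, nat_lit 150, nat_lit 125]) (.leaf (nat_lit 35844) [nat_lit 300, nat_lit 175, nat_lit 450])) (.node (nat_lit 17) (.leaf (nat_lit 21505) [nat_lit 125, nat_lit 150, nat_lit 100]) (.node (nat_lit 18) (.leaf (nat_lit 35840) [nat_lit 450, nat_lit 175, nat_lit 300]) (.leaf (nat_lit 36864) [nat_lit 450, nat_lit 300, nat_lit 450])))))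
noncomputable def w5 : WT := (.node (nat_lit 1) (.leaf (nat_lit 2050) [nat_lit 150]) (.node (nat_lit 3) (.node (nat_lit 2) (.leaf (nat_lit 41984) [nat_lit 350, nat_lit 150, nat_lit 350]) (.leaf (nat_lit 40960) [nat_lit 225, nat_lit 425, nat_lit 225])) (.node (nat_lit 7) (.node (nat_lit 5) r13 r14) (.node (nat_lit 11) r15 r16))))
noncomputable def r17 : WT := (.node (nat_lit 4) (.leaf (nat_lit 20485) [nat_lit 350, nat_lit 475]) (.leaf (nat_lit 68610) [nat_lit 325, nat_lit 200, nat_lit 325]))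
noncomputable def r18 : WT := (.node (nat_lit 7) (.node (nat_lit 6) (.leaf (nat_lit 98304) [nat_lit 500, nat_lit 200, nat_lit 525]) (.leaf (nat_lit 98308) [nat_lit 525, nat_lit 200, nat_lit 500])) (.node (nat_lit 8) (.leaf (nat_lit 90114) [nat_lit 75, nat_lit 475, nat_lit 50]) (.leaf (nat_lit 89094) [nat_lit 50, nat_lit 350, nat_lit 75])))
noncomputable def r19 : WT := (.node (nat_lit 21) (.leaf (nat_lit 66561) [nat_lit 475, nat_lit 300, nat_lit 300]) (.leaf (nat_lit 78850) [nat_lit 450, nat_lit 200, nat_lit 450]))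
noncomputable def r20 : WT := (.node (nat_lit 23) (.leaf (nat_lit 28673) [nat_lit 100, nat_lit 200, nat_lit 100]) (.leaf (nat_lit 68609) [nat_lit 300, nat_lit 200, nat_lit 300]))
noncomputable def r21 : WT := (.node (nat_lit 30) (.leaf (nat_lit 47110) [nat_lit 275, nat_lit 275, nat_lit 475]) (.leaf (nat_lit 46083) [nat_lit 250, nat_lit 250, nat_lit 475]))
noncomputable def r22 : WT := (.node (nat_lit 26) (.node (nat_lit 25) (.leaf (nat_lit 69634) [nat_lit 300, nat_lit 475, nat_lit 325]) (.leaf (nat_lit 78849) [nat_lit 425, nat_lit 200, nat_lit 425])) (.node (nat_lit 27) (.leaf (nat_lit 71686) [nat_lit 325, nat_lit 475, nat_lit 300]) (.node (nat_lit 28) (.leaf (nat_lit 57350) [nat_lit 275, nat_lit 475, nat_lit 250]) (.node (nat_lit 29) (.leaf (nat_lit 55298) [nat_lit 250, nat_lit 475, nat_lit 275]) r21))))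
noncomputable def r23 : WT := (.node (nat_lit 15) (.node (nat_lit 11) (.node (nat_lit 10) (.leaf (nat_lit 65540) [nat_lit 475, nat_lit 325, nat_lit 325]) (.leaf (nat_lit 75778) [nat_lit 400, nat_lit 200, nat_lit 400])) (.node (nat_lit 13) (.node (nat_lit 12) (.leaf (nat_lit 75777) [nat_lit 375, nat_lit 200, nat_lit 375]) (.leaf (nat_lit 47105) [nat_lit 475, nat_lit 250, nat_lit 250])) (.node (nat_lit 14) (.leaf (nat_lit 83968) [nat_lit 350, nat_lit 200, nat_lit 350]) (.leaf (nat_lit 28674) [nat_lit 125, nat_lit 200, nat_lit 125])))) (.node (nat_lit 19) (.node (nat_lit 17) (.node (nat_lit 16) (.leaf (nat_lit 54273) [nat_lit 250, nat_lit 200, nat_lit 250]) (.leaf (nat_lit 54274) [nat_lit 275, nat_lit 200, nat_lit 275])) (.node (nat_lit 18) (.leaf (nat_lit 46084) [nat_lit 475, nat_lit 275, nat_lit 275]) (.leaf (nat_lit 38913) [nat_lit 150, nat_lit 200, nat_lit 150]))) (.node (nat_lit 22) (.node (nat_lit 20) (.leaf (nat_lit 38914) [nat_lit 175, nat_lit 200, nat_lit 175])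 r19) (.node (nat_lit 24) r20 r22))))
noncomputable def w6 : WT := (.node (nat_lit 1) (.leaf (nat_lit 3072) [nat_lit 200]) (.node (nat_lit 2) (.leaf (nat_lit 20480) [nat_lit 475, nat_lit 350]) (.node (nat_lit 5) (.node (nat_lit 3) (.leaf (nat_lit 82944) [nat_lit 225, nat_lit 200, nat_lit 225]) r17) (.node (nat_lit 9) r18 r23))))
noncomputable def r24 : WT := (.node (nat_lit 5) (.leaf (nat_lit 82946) [nat_lit 200, nat_lit 225, nat_lit 200]) (.leaf (nat_lit 92162) [nat_lit 75, nat_lit 225, nat_lit 50]))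
noncomputable def r25 : WT := (.node (nat_lit 8) (.node (nat_lit 7) (.leaf (nat_lit 92166) [nat_lit 50, nat_lit 225, nat_lit 75]) (.leaf (nat_lit 53254) [nat_lit 275, nat_lit 300, nat_lit 350])) (.node (nat_lit 9) (.leaf (nat_lit 84994) [nat_lit 475, nat_lit 225, nat_lit 475]) (.leaf (nat_lit 16387) [nat_lit 250, nat_lit 300])))
noncomputable def r26 : WT := (.node (nat_lit 20) (.leaf (nat_lit 40966) [nat_lit 175, nat_lit 225, nat_lit 425]) (.leaf (nat_lit 40961) [nat_lit 450, nat_lit 225, nat_lit 150]))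
noncomputable def r27 : WT := (.node (nat_lit 22) (.leaf (nat_lit 40962) [nat_lit 425, nat_lit 225, nat_lit 175]) (.leaf (nat_lit 60418) [nat_lit 350, nat_lit 300, nat_lit 275]))
noncomputable def r28 : WT := (.node (nat_lit 25) (.node (nat_lit 24) (.leaf (nat_lit 58374) [nat_lit 275, nat_lit 225, nat_lit 250]) (.leaf (nat_lit 53249) [nat_lit 350, nat_lit 325, nat_lit 250])) (.node (nat_lit 26) (.leaf (nat_lit 63492) [nat_lit 300, nat_lit 275, nat_lit 350]) (.node (nat_lit 27) (.leaf (nat_lit 63491) [nat_lit 350, nat_lit 250, nat_lit 325]) (.leaf (nat_lit 59397) [nat_lit 250, nat_lit 350, nat_lit 325]))))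
noncomputable def r29 : WT := (.node (nat_lit 14) (.node (nat_lit 11) (.leaf (nat_lit 15361) [nat_lit 300, nat_lit 250]) (.node (nat_lit 12) (.leaf (nat_lit 16386) [nat_lit 325, nat_lit 275]) (.node (nat_lit 13) (.leaf (nat_lit 30725) [nat_lit 100, nat_lit 225, nat_lit 400]) (.leaf (nat_lit 30722) [nat_lit 375, nat_lit 225, nat_lit 125])))) (.node (nat_lit 18) (.node (nat_lit 16) (.node (nat_lit 15) (.leaf (nat_lit 60421) [nat_lit 250, nat_lit 325, nat_lit 350]) (.leaf (nat_lit 52228) [nat_lit 350, nat_lit 275, nat_lit 300])) (.node (nat_lit 17) (.leaf (nat_lit 30721) [nat_lit 400, nat_lit 225, nat_lit 100]) (.leaf (nat_lit 40965) [nat_lit 150, nat_lit 225, nat_lit 450]))) (.node (nat_lit 21) (.node (nat_lit 19) (.leaf (nat_lit 30726) [nat_lit 125, nat_lit 225, nat_lit 375]) r26) (.node (nat_lit 23) r27 r28))))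
noncomputable def w7 : WT := (.node (nat_lit 1) (.leaf (nat_lit 4096) [nat_lit 225]) (.node (nat_lit 3) (.node (nat_lit 2) (.leaf (nat_lit 52227) [nat_lit 325, nat_lit 250, nat_lit 350]) (.leaf (nat_lit 15364) [nat_lit 275, nat_lit 325])) (.node (nat_lit 6) (.node (nat_lit 4) (.leaf (nat_lit 87040) [nat_lit 350, nat_lit 225, nat_lit 350]) r24) (.node (nat_lit 10) r25 r29))))
noncomputable def r30 : WT := (.node (nat_lit 5) (.leaf (nat_lit 54275) [nat_lit 200, nat_lit 250, nat_lit 200]) (.leaf (nat_lit 15365) [nat_lit 225, nat_lit 300]))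
noncomputable def r31 : WT := (.node (nat_lit 7) (.leaf (nat_lit 93184) [nat_lit 50, nat_lit 250, nat_lit 50]) (.node (nat_lit 8) (.leaf (nat_lit 14341) [nat_lit 350, nat_lit 250]) (.node (nat_lit 9) (.leaf (nat_lit 45061) [nat_lit 250, nat_lit 325, nat_lit 325]) (.leaf (nat_lit 25604) [nat_lit 400, nat_lit 125, nat_lit 400]))))
noncomputable def r32 : WT := (.node (nat_lit 22) (.leaf (nat_lit 22534) [nat_lit 125, nat_lit 275, nat_lit 375]) (.leaf (nat_lit 56323) [nat_lit 475, nat_lit 250, nat_lit 475]))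
noncomputable def r33 : WT := (.node (nat_lit 24) (.leaf (nat_lit 44039) [nat_lit 300, nat_lit 300, nat_lit 250]) (.node (nat_lit 25) (.leaf (nat_lit 55300) [nat_lit 475, nat_lit 275, nat_lit 200]) (.leaf (nat_lit 57348) [nat_lit 200, nat_lit 275, nat_lit 475])))
noncomputable def r34 : WT := (.node (nat_lit 27) (.leaf (nat_lit 44037) [nat_lit 250, nat_lit 300, nat_lit 300]) (.node (nat_lit 28) (.leaf (nat_lit 47111) [nat_lit 200, nat_lit 475, nat_lit 250]) (.node (nat_lit 29) (.leaf (nat_lit 49159) [nat_lit 325, nat_lit 275, nat_lit 300]) (.node (nat_lit 30) (.leaf (nat_lit 53255) [nat_lit 225, nat_lit 350, nat_lit 325]) (.leaf (nat_lit 63495) [nat_lit 325, nat_lit 225, nat_lit 350])))))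
noncomputable def r35 : WT := (.node (nat_lit 16) (.node (nat_lit 13) (.node (nat_lit 11) (.leaf (nat_lit 32774) [nat_lit 175, nat_lit 275, nat_lit 150]) (.node (nat_lit 12) (.leaf (nat_lit 27649) [nat_lit 400, nat_lit 275, nat_lit 100]) (.leaf (nat_lit 50180) [nat_lit 425, nat_lit 275, nat_lit 450]))) (.node (nat_lit 14) (.leaf (nat_lit 52231) [nat_lit 350, nat_lit 225, nat_lit 325]) (.node (nat_lit 15) (.leaf (nat_lit 27650) [nat_lit 375, nat_lit 275, nat_lit 125]) (.leaf (nat_lit 22533) [nat_lit 100, nat_lit 275, nat_lit 400])))) (.node (nat_lit 20) (.node (nat_lit 18) (.node (nat_lit 17) (.leaf (nat_lit 32773) [nat_lit 150, nat_lit 275, nat_lit 175]) (.leaf (nat_lit 47109) [nat_lit 250, nat_lit 200, nat_lit 475])) (.node (nat_lit 19) (.leaf (nat_lit 50183) [nat_lit 450, nat_lit 275, nat_lit 425]) (.leaf (nat_lit 46085) [nat_lit 250, nat_lit 475, nat_lit 200]))) (.node (nat_lit 23) (.node (nat_lit 21) (.leaf (nat_lit 24582) [nat_lit 125, nat_lit 400, nat_lit 125])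 r32) (.node (nat_lit 26) r33 r34))))
noncomputable def w8 : WT := (.node (nat_lit 1) (.leaf (nat_lit 5120) [nat_lit 275]) (.node (nat_lit 3) (.node (nat_lit 2) (.leaf (nat_lit 14339) [nat_lit 250, nat_lit 350]) (.leaf (nat_lit 16389) [nat_lit 300, nat_lit 225])) (.node (nat_lit 6) (.node (nat_lit 4) (.leaf (nat_lit 49156) [nat_lit 300, nat_lit 275, nat_lit 325]) r30) (.node (nat_lit 10) r31 r35))))
noncomputable def r36 : WT := (.node (nat_lit 6) (.leaf (nat_lit 14338) [nat_lit 350, nat_lit 275]) (.node (nat_lit 7) (.leaf (nat_lit 93187) [nat_lit 75, nat_lit 275, nat_lit 75]) (.leaf (nat_lit 60416) [nat_lit 225, nat_lit 350, nat_lit 300])))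
noncomputable def r37 : WT := (.node (nat_lit 20) (.leaf (nat_lit 49152) [nat_lit 325, nat_lit 250, nat_lit 300]) (.leaf (nat_lit 45056) [nat_lit 275, nat_lit 300, nat_lit 300]))
noncomputable def r38 : WT := (.node (nat_lit 22) (.leaf (nat_lit 56320) [nat_lit 475, nat_lit 275, nat_lit 475]) (.leaf (nat_lit 27654) [nat_lit 125, nat_lit 250, nat_lit 375]))
noncomputable def r39 : WT := (.node (nat_lit 25) (.node (nat_lit 24) (.leaf (nat_lit 24577) [nat_lit 100, nat_lit 375, nat_lit 100]) (.leaf (nat_lit 46082) [nat_lit 200, nat_lit 475, nat_lit 275])) (.node (nat_lit 27) (.node (nat_lit 26) (.leaf (nat_lit 44034) [nat_lit 325, nat_lit 325, nat_lit 275]) (.leaf (nat_lit 52224) [nat_lit 300, nat_lit 225, nat_lit 350])) (.node (nat_lit 29) (.node (nat_lit 28) (.leaf (nat_lit 43008) [nat_lit 275, nat_lit 275, nat_lit 275]) (.leaf (nat_lit 45058) [nat_lit 300, nat_lit 300, nat_lit 275])) (.node (nat_lit 30) (.leaf (nat_lit 47106) [nat_lit 475, nat_lit 200, nat_lit 275]) (.leaf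 (nat_lit 44032) [nat_lit 275, nat_lit 325, nat_lit 325])))))
noncomputable def r40 : WT := (.node (nat_lit 14) (.node (nat_lit 11) (.node (nat_lit 9) (.leaf (nat_lit 50179) [nat_lit 425, nat_lit 250, nat_lit 450]) (.node (nat_lit 10) (.leaf (nat_lit 32769) [nat_lit 175, nat_lit 250, nat_lit 150]) (.leaf (nat_lit 22530) [nat_lit 375, nat_lit 250, nat_lit 125]))) (.node (nat_lit 12) (.leaf (nat_lit 27653) [nat_lit 100, nat_lit 250, nat_lit 400]) (.node (nat_lit 13) (.leaf (nat_lit 32770) [nat_lit 150, nat_lit 250, nat_lit 175]) (.leaf (nat_lit 50176) [nat_lit 450, nat_lit 250, nat_lit 425])))) (.node (nat_lit 18) (.node (nat_lit 16) (.node (nat_lit 15) (.leaf (nat_lit 55296) [nat_lit 200, nat_lit 250, nat_lit 475]) (.leaf (nat_lit 46080) [nat_lit 275, nat_lit 200, nat_lit 475])) (.node (nat_lit 17) (.leaf (nat_lit 22529) [nat_lit 400, nat_lit 250, nat_lit 100]) (.leaf (nat_lit 25603) [nat_lit 375, nat_lit 100, nat_lit 375]))) (.node (nat_lit 21) (.node (nat_lit 19) (.leaf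 (nat_lit 47104) [nat_lit 275, nat_lit 475, nat_lit 200]) r37) (.node (nat_lit 23) r38 r39))))
noncomputable def w9 : WT := (.node (nat_lit 1) (.leaf (nat_lit 5122) [nat_lit 250]) (.node (nat_lit 3) (.node (nat_lit 2) (.leaf (nat_lit 14336) [nat_lit 275, nat_lit 350]) (.leaf (nat_lit 15360) [nat_lit 325, nat_lit 225])) (.node (nat_lit 5) (.node (nat_lit 4) (.leaf (nat_lit 16384) [nat_lit 225, nat_lit 325]) (.leaf (nat_lit 54272) [nat_lit 200, nat_lit 275, nat_lit 200])) (.node (nat_lit 8) r36 r40))))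
noncomputable def r41 : WT := (.node (nat_lit 5) (.leaf (nat_lit 17413) [nat_lit 350, nat_lit 300]) (.leaf (nat_lit 16385) [nat_lit 225, nat_lit 250]))
noncomputable def r42 : WT := (.node (nat_lit 16) (.leaf (nat_lit 23558) [nat_lit 125, nat_lit 325, nat_lit 100]) (.leaf (nat_lit 37890) [nat_lit 425, nat_lit 325, nat_lit 175]))
noncomputable def r43 : WT := (.node (nat_lit 18) (.leaf (nat_lit 45060) [nat_lit 300, nat_lit 275, nat_lit 275]) (.leaf (nat_lit 60422) [nat_lit 275, nat_lit 225, nat_lit 350]))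
noncomputable def r44 : WT := (.node (nat_lit 20) (.leaf (nat_lit 49158) [nat_lit 275, nat_lit 325, nat_lit 250]) (.node (nat_lit 21) (.leaf (nat_lit 45062) [nat_lit 275, nat_lit 275, nat_lit 300]) (.leaf (nat_lit 37889) [nat_lit 450, nat_lit 325, nat_lit 150])))
noncomputable def r45 : WT := (.node (nat_lit 24) (.node (nat_lit 23) (.leaf (nat_lit 49157) [nat_lit 250, nat_lit 325, nat_lit 275]) (.leaf (nat_lit 69636) [nat_lit 475, nat_lit 325, nat_lit 200])) (.node (nat_lit 25) (.leaf (nat_lit 35846) [nat_lit 175, nat_lit 450, nat_lit 175]) (.leaf (nat_lit 53250) [nat_lit 350, nat_lit 225, nat_lit 275])))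
noncomputable def r46 : WT := (.node (nat_lit 29) (.node (nat_lit 27) (.leaf (nat_lit 51202) [nat_lit 275, nat_lit 300, nat_lit 275]) (.node (nat_lit 28) (.leaf (nat_lit 66567) [nat_lit 200, nat_lit 475, nat_lit 300]) (.leaf (nat_lit 44035) [nat_lit 250, nat_lit 250, nat_lit 300]))) (.node (nat_lit 31) (.node (nat_lit 30) (.leaf (nat_lit 36868) [nat_lit 450, nat_lit 175, nat_lit 450]) (.leaf (nat_lit 71684) [nat_lit 200, nat_lit 325, nat_lit 475])) (.node (nat_lit 32) (.leaf (nat_lit 63494) [nat_lit 275, nat_lit 350, nat_lit 225]) (.node (nat_lit 33) (.leaf (nat_lit 65543) [nat_lit 475, nat_lit 200, nat_lit 300]) (.leaf (nat_lit 44033) [nat_lit 300, nat_lit 250, nat_lit 250])))))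
noncomputable def r47 : WT := (.node (nat_lit 12) (.node (nat_lit 8) (.node (nat_lit 7) (.leaf (nat_lit 67591) [nat_lit 400, nat_lit 325, nat_lit 375]) (.leaf (nat_lit 67588) [nat_lit 375, nat_lit 325, nat_lit 400])) (.node (nat_lit 10) (.node (nat_lit 9) (.leaf (nat_lit 23557) [nat_lit 100, nat_lit 325, nat_lit 125]) (.leaf (nat_lit 33797) [nat_lit 150, nat_lit 325, nat_lit 450])) (.node (nat_lit 11) (.leaf (nat_lit 52226) [nat_lit 225, nat_lit 350, nat_lit 275]) (.leaf (nat_lit 33798) [nat_lit 175, nat_lit 325, nat_lit 425])))) (.node (nat_lit 17) (.node (nat_lit 14) (.node (nat_lit 13) (.leaf (nat_lit 65541) [nat_lit 300, nat_lit 475, nat_lit 200]) (.leaf (nat_lit 70659) [nat_lit 475, nat_lit 300, nat_lit 475])) (.node (nat_lit 15) (.leaf (nat_lit 66565) [nat_lit 300, nat_lit 200, nat_lit 475]) r42)) (.node (nat_lit 22) (.node (nat_lit 19) r43 r44) (.node (nat_lit 26) r45 r46))))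
noncomputable def w10 : WT := (.node (nat_lit 1) (.leaf (nat_lit 6144) [nat_lit 325]) (.node (nat_lit 2) (.leaf (nat_lit 17411) [nat_lit 300, nat_lit 350]) (.node (nat_lit 4) (.node (nat_lit 3) (.leaf (nat_lit 15363) [nat_lit 250, nat_lit 225]) (.leaf (nat_lit 68611) [nat_lit 200, nat_lit 300, nat_lit 200])) (.node (nat_lit 6) r41 r47))))
noncomputable def r48 : WT := (.node (nat_lit 5) (.leaf (nat_lit 68608) [nat_lit 200, nat_lit 325, nat_lit 200]) (.leaf (nat_lit 15362) [nat_lit 225, nat_lit 275]))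
noncomputable def r49 : WT := (.node (nat_lit 14) (.leaf (nat_lit 69632) [nat_lit 200, nat_lit 300, nat_lit 475]) (.leaf (nat_lit 37894) [nat_lit 175, nat_lit 300, nat_lit 425]))
noncomputable def r50 : WT := (.node (nat_lit 17) (.leaf (nat_lit 65536) [nat_lit 325, nat_lit 200, nat_lit 475]) (.leaf (nat_lit 23553) [nat_lit 125, nat_lit 300, nat_lit 100]))
noncomputable def r51 : WT := (.node (nat_lit 19) (.leaf (nat_lit 45059) [nat_lit 250, nat_lit 250, nat_lit 325]) (.leaf (nat_lit 36867) [nat_lit 425, nat_lit 150, nat_lit 425]))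
noncomputable def r52 : WT := (.node (nat_lit 21) (.leaf (nat_lit 33793) [nat_lit 450, nat_lit 300, nat_lit 150]) (.leaf (nat_lit 66560) [nat_lit 325, nat_lit 475, nat_lit 200]))
noncomputable def r53 : WT := (.node (nat_lit 23) (.leaf (nat_lit 49153) [nat_lit 275, nat_lit 300, nat_lit 250]) (.node (nat_lit 24) (.leaf (nat_lit 35841) [nat_lit 150, nat_lit 425, nat_lit 150]) (.leaf (nat_lit 70656) [nat_lit 475, nat_lit 325, nat_lit 475])))
noncomputable def r54 : WT := (.node (nat_lit 27) (.node (nat_lit 26) (.leaf (nat_lit 52229) [nat_lit 250, nat_lit 350, nat_lit 225]) (.leaf (nat_lit 65538) [nat_lit 200, nat_lit 475, nat_lit 325])) (.node (nat_lit 30) (.node (nat_lit 28) (.leaf (nat_lit 53253) [nat_lit 250, nat_lit 225, nat_lit 350]) (.node (nat_lit 29) (.leaf (nat_lit 51201) [nat_lit 250, nat_lit 325, nat_lit 250]) (.leaf (nat_lit 44036) [nat_lit 325, nat_lit 275, nat_lit 275]))) (.node (nat_lit 32) (.node (nat_lit 31) (.leaf (nat_lit 64512) [nat_lit 325, nat_lit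 325, nat_lit 325]) (.leaf (nat_lit 63489) [nat_lit 225, nat_lit 350, nat_lit 250])) (.node (nat_lit 33) (.leaf (nat_lit 66562) [nat_lit 475, nat_lit 200, nat_lit 325]) (.leaf (nat_lit 71680) [nat_lit 475, nat_lit 300, nat_lit 200])))))
noncomputable def r55 : WT := (.node (nat_lit 12) (.node (nat_lit 8) (.node (nat_lit 7) (.leaf (nat_lit 67587) [nat_lit 375, nat_lit 300, nat_lit 400]) (.leaf (nat_lit 67584) [nat_lit 400, nat_lit 300, nat_lit 375])) (.node (nat_lit 10) (.node (nat_lit 9) (.leaf (nat_lit 23554) [nat_lit 100, nat_lit 300, nat_lit 125]) (.leaf (nat_lit 45057) [nat_lit 325, nat_lit 250, nat_lit 250])) (.node (nat_lit 11) (.leaf (nat_lit 33794) [nat_lit 425, nat_lit 300, nat_lit 175]) (.leaf (nat_lit 37893) [nat_lit 150, nat_lit 300, nat_lit 450])))) (.node (nat_lit 18) (.node (nat_lit 15) (.node (nat_lit 13) (.leaf (nat_lit 60417) [nat_lit 350, nat_lit 225, nat_lit 250]) r49) (.node (nat_lit 16) (.leaf (nat_lit 49154) [nat_lit 250, nat_lit 300, nat_lit 275])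 r50)) (.node (nat_lit 22) (.node (nat_lit 20) r51 r52) (.node (nat_lit 25) r53 r54))))
noncomputable def w11 : WT := (.node (nat_lit 1) (.leaf (nat_lit 6146) [nat_lit 300]) (.node (nat_lit 2) (.leaf (nat_lit 17408) [nat_lit 325, nat_lit 350]) (.node (nat_lit 4) (.node (nat_lit 3) (.leaf (nat_lit 16388) [nat_lit 275, nat_lit 225]) (.leaf (nat_lit 17410) [nat_lit 350, nat_lit 325])) (.node (nat_lit 6) r48 r55))))
noncomputable def r56 : WT := (.node (nat_lit 5) (.leaf (nat_lit 17412) [nat_lit 325, nat_lit 325]) (.leaf (nat_lit 20484) [nat_lit 200, nat_lit 475]))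
noncomputable def r57 : WT := (.node (nat_lit 7) (.leaf (nat_lit 14337) [nat_lit 250, nat_lit 250]) (.leaf (nat_lit 89090) [nat_lit 75, nat_lit 200, nat_lit 50]))
noncomputable def r58 : WT := (.node (nat_lit 9) (.leaf (nat_lit 20481) [nat_lit 475, nat_lit 200]) (.leaf (nat_lit 91142) [nat_lit 50, nat_lit 475, nat_lit 75]))
noncomputable def r59 : WT := (.node (nat_lit 11) (.leaf (nat_lit 14340) [nat_lit 275, nat_lit 275]) (.node (nat_lit 12) (.leaf (nat_lit 17409) [nat_lit 300, nat_lit 300]) (.leaf (nat_lit 77826) [nat_lit 375, nat_lit 350, nat_lit 400])))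
noncomputable def r60 : WT := (.node (nat_lit 17) (.node (nat_lit 15) (.node (nat_lit 14) (.leaf (nat_lit 77830) [nat_lit 400, nat_lit 350, nat_lit 375]) (.leaf (nat_lit 31750) [nat_lit 125, nat_lit 350, nat_lit 100])) (.node (nat_lit 16) (.leaf (nat_lit 80898) [nat_lit 425, nat_lit 350, nat_lit 450]) (.leaf (nat_lit 86018) [nat_lit 475, nat_lit 350, nat_lit 475]))) (.node (nat_lit 20) (.node (nat_lit 18) (.leaf (nat_lit 41990) [nat_lit 175, nat_lit 350, nat_lit 150]) (.node (nat_lit 19) (.leaf (nat_lit 87042) [nat_lit 225, nat_lit 350, nat_lit 225]) (.leaf (nat_lit 41986) [nat_lit 150, nat_lit 350, nat_lit 175]))) (.node (nat_lit 22) (.node (nat_lit 21) (.leaf (nat_lit 53251) [nat_lit 325, nat_lit 250, nat_lit 225]) (.leaf (nat_lit 80902) [nat_lit 450, nat_lit 350, nat_lit 425])) (.node (nat_lit 23) (.leaf (nat_lit 31746) [nat_lit 100, nat_lit 350, nat_lit 125]) (.leaf (nat_lit 53252) [nat_lit 225, nat_lit 275, nat_lit 300])))))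
noncomputable def w12 : WT := (.node (nat_lit 1) (.leaf (nat_lit 7168) [nat_lit 350]) (.node (nat_lit 6) (.node (nat_lit 3) (.node (nat_lit 2) (.leaf (nat_lit 52230) [nat_lit 275, nat_lit 300, nat_lit 225]) (.leaf (nat_lit 99331) [nat_lit 525, nat_lit 350, nat_lit 525])) (.node (nat_lit 4) (.leaf (nat_lit 99328) [nat_lit 500, nat_lit 350, nat_lit 500]) r56)) (.node (nat_lit 10) (.node (nat_lit 8) r57 r58) (.node (nat_lit 13) r59 r60))))
noncomputable def r61 : WT := (.node (nat_lit 5) (.leaf (nat_lit 67589) [nat_lit 300, nat_lit 400, nat_lit 325]) (.leaf (nat_lit 94210) [nat_lit 75, nat_lit 525, nat_lit 50]))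
noncomputable def r62 : WT := (.node (nat_lit 8) (.node (nat_lit 7) (.leaf (nat_lit 76803) [nat_lit 475, nat_lit 375, nat_lit 475]) (.leaf (nat_lit 67590) [nat_lit 325, nat_lit 400, nat_lit 300])) (.node (nat_lit 9) (.leaf (nat_lit 22532) [nat_lit 250, nat_lit 125, nat_lit 275]) (.leaf (nat_lit 18433) [nat_lit 375, nat_lit 375])))
noncomputable def r63 : WT := (.node (nat_lit 13) (.node (nat_lit 11) (.leaf (nat_lit 34821) [nat_lit 150, nat_lit 400, nat_lit 175]) (.node (nat_lit 12) (.leaf (nat_lit 24581) [nat_lit 100, nat_lit 275, nat_lit 100]) (.leaf (nat_lit 34822) [nat_lit 175, nat_lit 400, nat_lit 150]))) (.node (nat_lit 15) (.node (nat_lit 14) (.leaf (nat_lit 27652) [nat_lit 275, nat_lit 125, nat_lit 250]) (.leaf (nat_lit 74756) [nat_lit 425, nat_lit 400, nat_lit 450])) (.node (nat_lit 16) (.leaf (nat_lit 74759) [nat_lit 450, nat_lit 400, nat_lit 425]) (.node (nat_lit 17) (.leaf (nat_lit 25601) [nat_lit 275, nat_lit 375, nat_lit 100]) (.leaf (nat_lit 25605) [nat_lit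 100, nat_lit 375, nat_lit 275])))))
noncomputable def w13 : WT := (.node (nat_lit 1) (.leaf (nat_lit 8192) [nat_lit 400]) (.node (nat_lit 3) (.node (nat_lit 2) (.leaf (nat_lit 77828) [nat_lit 350, nat_lit 400, nat_lit 350]) (.leaf (nat_lit 30724) [nat_lit 225, nat_lit 125, nat_lit 225])) (.node (nat_lit 6) (.node (nat_lit 4) (.leaf (nat_lit 75779) [nat_lit 200, nat_lit 375, nat_lit 200]) r61) (.node (nat_lit 10) r62 r63))))
noncomputable def r64 : WT := (.node (nat_lit 4) (.leaf (nat_lit 75776) [nat_lit 200, nat_lit 400, nat_lit 200]) (.leaf (nat_lit 67586) [nat_lit 300, nat_lit 375, nat_lit 325]))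
noncomputable def r65 : WT := (.node (nat_lit 6) (.leaf (nat_lit 76800) [nat_lit 475, nat_lit 400, nat_lit 475]) (.leaf (nat_lit 94213) [nat_lit 75, nat_lit 500, nat_lit 50]))
noncomputable def r66 : WT := (.node (nat_lit 8) (.leaf (nat_lit 18432) [nat_lit 400, nat_lit 400]) (.node (nat_lit 9) (.leaf (nat_lit 24578) [nat_lit 125, nat_lit 250, nat_lit 125]) (.leaf (nat_lit 67585) [nat_lit 325, nat_lit 375, nat_lit 300])))
noncomputable def r67 : WT := (.node (nat_lit 13) (.node (nat_lit 11) (.leaf (nat_lit 34818) [nat_lit 150, nat_lit 375, nat_lit 175]) (.node (nat_lit 12) (.leaf (nat_lit 22531) [nat_lit 250, nat_lit 100, nat_lit 275]) (.leaf (nat_lit 34817) [nat_lit 175, nat_lit 375, nat_lit 150]))) (.node (nat_lit 15) (.node (nat_lit 14) (.leaf (nat_lit 74755) [nat_lit 425, nat_lit 375, nat_lit 450]) (.leaf (nat_lit 27651) [nat_lit 275, nat_lit 100, nat_lit 250])) (.node (nat_lit 16) (.leaf (nat_lit 25606) [nat_lit 125, nat_lit 400, nat_lit 250]) (.node (nat_lit 17)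 (.leaf (nat_lit 74752) [nat_lit 450, nat_lit 375, nat_lit 425]) (.leaf (nat_lit 25602) [nat_lit 250, nat_lit 400, nat_lit 125])))))
noncomputable def w14 : WT := (.node (nat_lit 1) (.leaf (nat_lit 8194) [nat_lit 375]) (.node (nat_lit 3) (.node (nat_lit 2) (.leaf (nat_lit 77824) [nat_lit 350, nat_lit 375, nat_lit 350]) (.leaf (nat_lit 30723) [nat_lit 225, nat_lit 100, nat_lit 225])) (.node (nat_lit 7) (.node (nat_lit 5) r64 r65) (.node (nat_lit 10) r66 r67))))
noncomputable def r68 : WT := (.node (nat_lit 5) (.leaf (nat_lit 33796) [nat_lit 300, nat_lit 175, nat_lit 325]) (.leaf (nat_lit 79875) [nat_lit 475, nat_lit 425, nat_lit 475]))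
noncomputable def r69 : WT := (.node (nat_lit 7) (.leaf (nat_lit 37892) [nat_lit 325, nat_lit 175, nat_lit 300]) (.node (nat_lit 8) (.leaf (nat_lit 19457) [nat_lit 425, nat_lit 425]) (.leaf (nat_lit 35845) [nat_lit 150, nat_lit 325, nat_lit 150])))
noncomputable def r70 : WT := (.node (nat_lit 16) (.leaf (nat_lit 36869) [nat_lit 150, nat_lit 425, nat_lit 325]) (.leaf (nat_lit 36865) [nat_lit 325, nat_lit 425, nat_lit 150]))
noncomputable def r71 : WT := (.node (nat_lit 11) (.node (nat_lit 10) (.leaf (nat_lit 74757) [nat_lit 375, nat_lit 450, nat_lit 400]) (.leaf (nat_lit 50181) [nat_lit 250, nat_lit 450, nat_lit 275])) (.node (nat_lit 13) (.node (nat_lit 12) (.leaf (nat_lit 26629) [nat_lit 100, nat_lit 450, nat_lit 125]) (.leaf (nat_lit 26630) [nat_lit 125, nat_lit 450, nat_lit 100])) (.node (nat_lit 14) (.leaf (nat_lit 50182) [nat_lit 275, nat_lit 450, nat_lit 250]) (.node (nat_lit 15) (.leaf (nat_lit 74758) [nat_lit 400, nat_lit 450, nat_lit 375]) r70))))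
noncomputable def w15 : WT := (.node (nat_lit 1) (.leaf (nat_lit 9216) [nat_lit 450]) (.node (nat_lit 3) (.node (nat_lit 2) (.leaf (nat_lit 80900) [nat_lit 350, nat_lit 450, nat_lit 350]) (.leaf (nat_lit 40964) [nat_lit 225, nat_lit 175, nat_lit 225])) (.node (nat_lit 6) (.node (nat_lit 4) (.leaf (nat_lit 78851) [nat_lit 200, nat_lit 425, nat_lit 200]) r68) (.node (nat_lit 9) r69 r71))))
noncomputable def r72 : WT := (.node (nat_lit 5) (.leaf (nat_lit 33795) [nat_lit 300, nat_lit 150, nat_lit 325]) (.leaf (nat_lit 79872) [nat_lit 475, nat_lit 450, nat_lit 475]))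
noncomputable def r73 : WT := (.node (nat_lit 8) (.node (nat_lit 7) (.leaf (nat_lit 35842) [nat_lit 175, nat_lit 300, nat_lit 175]) (.leaf (nat_lit 19456) [nat_lit 450, nat_lit 450])) (.node (nat_lit 9) (.leaf (nat_lit 74753) [nat_lit 400, nat_lit 425, nat_lit 375]) (.leaf (nat_lit 26626) [nat_lit 100, nat_lit 425, nat_lit 125])))
noncomputable def r74 : WT := (.node (nat_lit 13) (.node (nat_lit 11) (.leaf (nat_lit 36870) [nat_lit 175, nat_lit 450, nat_lit 300]) (.node (nat_lit 12) (.leaf (nat_lit 50178) [nat_lit 250, nat_lit 425, nat_lit 275]) (.leaf (nat_lit 74754) [nat_lit 375, nat_lit 425, nat_lit 400]))) (.node (nat_lit 15) (.node (nat_lit 14) (.leaf (nat_lit 26625) [nat_lit 125, nat_lit 425, nat_lit 100]) (.leaf (nat_lit 50177) [nat_lit 275, nat_lit 425, nat_lit 250])) (.node (nat_lit 16) (.leaf (nat_lit 37891) [nat_lit 325, nat_lit 150, nat_lit 300]) (.leaf (nat_lit 36866) [nat_lit 300, nat_lit 450, nat_lit 175]))))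
noncomputable def w16 : WT := (.node (nat_lit 1) (.leaf (nat_lit 9218) [nat_lit 425]) (.node (nat_lit 3) (.node (nat_lit 2) (.leaf (nat_lit 80896) [nat_lit 350, nat_lit 425, nat_lit 350]) (.leaf (nat_lit 40963) [nat_lit 225, nat_lit 150, nat_lit 225])) (.node (nat_lit 6) (.node (nat_lit 4) (.leaf (nat_lit 78848) [nat_lit 200, nat_lit 450, nat_lit 200]) r72) (.node (nat_lit 10) r73 r74))))
noncomputable def r75 : WT := (.node (nat_lit 5) (.leaf (nat_lit 70658) [nat_lit 325, nat_lit 475, nat_lit 325]) (.node (nat_lit 6) (.leaf (nat_lit 91138) [nat_lit 75, nat_lit 350, nat_lit 50]) (.leaf (nat_lit 90118) [nat_lit 50, nat_lit 200, nat_lit 75])))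
noncomputable def r76 : WT := (.node (nat_lit 19) (.leaf (nat_lit 65537) [nat_lit 200, nat_lit 300, nat_lit 300]) (.leaf (nat_lit 29697) [nat_lit 100, nat_lit 475, nat_lit 100]))
noncomputable def r77 : WT := (.node (nat_lit 21) (.leaf (nat_lit 79874) [nat_lit 450, nat_lit 475, nat_lit 450]) (.leaf (nat_lit 79873) [nat_lit 425, nat_lit 475, nat_lit 425]))
noncomputable def r78 : WT := (.node (nat_lit 23) (.leaf (nat_lit 56321) [nat_lit 250, nat_lit 475, nat_lit 250]) (.node (nat_lit 24) (.leaf (nat_lit 57346) [nat_lit 250, nat_lit 200, nat_lit 275]) (.node (nat_lit 25) (.leaf (nat_lit 66563) [nat_lit 300, nat_lit 300, nat_lit 200]) (.leaf (nat_lit 47107) [nat_lit 250, nat_lit 250, nat_lit 200]))))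
noncomputable def r79 : WT := (.node (nat_lit 13) (.node (nat_lit 10) (.node (nat_lit 8) (.leaf (nat_lit 66564) [nat_lit 200, nat_lit 325, nat_lit 325]) (.node (nat_lit 9) (.leaf (nat_lit 76801) [nat_lit 375, nat_lit 475, nat_lit 375]) (.leaf (nat_lit 56322) [nat_lit 275, nat_lit 475, nat_lit 275]))) (.node (nat_lit 11) (.leaf (nat_lit 76802) [nat_lit 400, nat_lit 475, nat_lit 400]) (.node (nat_lit 12) (.leaf (nat_lit 39937) [nat_lit 150, nat_lit 475, nat_lit 150]) (.leaf (nat_lit 69638) [nat_lit 325, nat_lit 200, nat_lit 300])))) (.node (nat_lit 17) (.node (nat_lit 15) (.node (nat_lit 14) (.leaf (nat_lit 55302) [nat_lit 275, nat_lit 200, nat_lit 250]) (.leaf (nat_lit 29698) [nat_lit 125, nat_lit 475, nat_lit 125])) (.node (nat_lit 16) (.leaf (nat_lit 39938) [nat_lit 175, nat_lit 475, nat_lit 175]) (.leaf (nat_lit 47108) [nat_lit 200, nat_lit 275, nat_lit 275]))) (.node (nat_lit 20) (.node (nat_lit 18) (.leaf (nat_lit 46081) [nat_lit 200, nat_lit 250, nat_lit 250])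 r76) (.node (nat_lit 22) r77 r78))))
noncomputable def w17 : WT := (.node (nat_lit 1) (.leaf (nat_lit 10240) [nat_lit 475]) (.node (nat_lit 2) (.leaf (nat_lit 20483) [nat_lit 200, nat_lit 350]) (.node (nat_lit 4) (.node (nat_lit 3) (.leaf (nat_lit 20482) [nat_lit 350, nat_lit 200]) (.leaf (nat_lit 84992) [nat_lit 225, nat_lit 475, nat_lit 225])) (.node (nat_lit 7) r75 r79))))
noncomputable def r80 : WT := (.node (nat_lit 6) (.leaf (nat_lit 96257) [nat_lit 150, nat_lit 525, nat_lit 175]) (.leaf (nat_lit 95233) [nat_lit 100, nat_lit 525, nat_lit 125]))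
noncomputable def r81 : WT := (.node (nat_lit 8) (.leaf (nat_lit 96258) [nat_lit 175, nat_lit 525, nat_lit 150]) (.leaf (nat_lit 95234) [nat_lit 125, nat_lit 525, nat_lit 100]))
noncomputable def w18 : WT := (.node (nat_lit 1) (.leaf (nat_lit 11264) [nat_lit 525]) (.node (nat_lit 3) (.node (nat_lit 2) (.leaf (nat_lit 99330) [nat_lit 350, nat_lit 500, nat_lit 350]) (.leaf (nat_lit 98306) [nat_lit 200, nat_lit 525, nat_lit 200])) (.node (nat_lit 5) (.node (nat_lit 4) (.leaf (nat_lit 94209) [nat_lit 50, nat_lit 400, nat_lit 75]) (.leaf (nat_lit 97280) [nat_lit 500, nat_lit 500])) (.node (nat_lit 7) r80 r81))))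
noncomputable def r82 : WT := (.node (nat_lit 6) (.leaf (nat_lit 96262) [nat_lit 150, nat_lit 500, nat_lit 175]) (.leaf (nat_lit 96261) [nat_lit 175, nat_lit 500, nat_lit 150]))
noncomputable def r83 : WT := (.node (nat_lit 8) (.leaf (nat_lit 95237) [nat_lit 125, nat_lit 500, nat_lit 100]) (.leaf (nat_lit 95238) [nat_lit 100, nat_lit 500, nat_lit 125]))
noncomputable def w19 : WT := (.node (nat_lit 1) (.leaf (nat_lit 11266) [nat_lit 500]) (.node (nat_lit 3) (.node (nat_lit 2) (.leaf (nat_lit 99329) [nat_lit 350, nat_lit 525, nat_lit 350]) (.leaf (nat_lit 98310) [nat_lit 200, nat_lit 500, nat_lit 200])) (.node (nat_lit 5) (.node (nat_lit 4) (.leaf (nat_lit 97281) [nat_lit 525, nat_lit 525]) (.leaf (nat_lit 94214) [nat_lit 50, nat_lit 375, nat_lit 75])) (.node (nat_lit 7) r82 r83))))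
noncomputable def r84 : WT := (.node (nat_lit 8) (.leaf (nat_lit 24582) [nat_lit 250, nat_lit 125, nat_lit 400, nat_lit 125]) (.leaf (nat_lit 13312) [nat_lit 175, nat_lit 175, nat_lit 175]))
noncomputable def r85 : WT := (.node (nat_lit 10) (.leaf (nat_lit 94215) [nat_lit 75, nat_lit 500, nat_lit 50, nat_lit 400]) (.leaf (nat_lit 94213) [nat_lit 400, nat_lit 75, nat_lit 500, nat_lit 50]))
noncomputable def r86 : WT := (.node (nat_lit 12) (.leaf (nat_lit 94209) [nat_lit 500, nat_lit 50, nat_lit 400, nat_lit 75]) (.leaf (nat_lit 94214) [nat_lit 525, nat_lit 50, nat_lit 375, nat_lit 75]))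
noncomputable def r87 : WT := (.node (nat_lit 14) (.leaf (nat_lit 94208) [nat_lit 50, nat_lit 375, nat_lit 75, nat_lit 525]) (.leaf (nat_lit 92164) [nat_lit 75, nat_lit 225, nat_lit 50, nat_lit 225]))
noncomputable def r88 : WT := (.node (nat_lit 16) (.leaf (nat_lit 23552) [nat_lit 125, nat_lit 325, nat_lit 100, nat_lit 300]) (.leaf (nat_lit 26628) [nat_lit 100, nat_lit 425, nat_lit 125, nat_lit 450]))
noncomputable def r89 : WT := (.node (nat_lit 18) (.leaf (nat_lit 24583) [nat_lit 100, nat_lit 275, nat_lit 100, nat_lit 375]) (.leaf (nat_lit 89088) [nat_lit 50, nat_lit 350, nat_lit 75, nat_lit 200]))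
noncomputable def r90 : WT := (.node (nat_lit 20) (.leaf (nat_lit 77828) [nat_lit 375, nat_lit 350, nat_lit 400, nat_lit 350]) (.leaf (nat_lit 75776) [nat_lit 400, nat_lit 200, nat_lit 400, nat_lit 200]))
noncomputable def r91 : WT := (.node (nat_lit 22) (.leaf (nat_lit 40966) [nat_lit 225, nat_lit 175, nat_lit 225, nat_lit 425]) (.leaf (nat_lit 40960) [nat_lit 175, nat_lit 225, nat_lit 425, nat_lit 225]))
noncomputable def r92 : WT := (.node (nat_lit 24) (.leaf (nat_lit 35847) [nat_lit 150, nat_lit 325, nat_lit 150, nat_lit 425]) (.leaf (nat_lit 27648) [nat_lit 125, nat_lit 250, nat_lit 375, nat_lit 275]))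
noncomputable def wP : WT := (.node (nat_lit 9) (.node (nat_lit 4) (.node (nat_lit 2) (.node (nat_lit 1) (.leaf (nat_lit 88064) [nat_lit 50, nat_lit 50, nat_lit 50]) (.leaf (nat_lit 96260) [nat_lit 175, nat_lit 525, nat_lit 150, nat_lit 500])) (.node (nat_lit 3) (.leaf (nat_lit 92166) [nat_lit 225, nat_lit 50, nat_lit 225, nat_lit 75]) (.leaf (nat_lit 92162) [nat_lit 225, nat_lit 75, nat_lit 225, nat_lit 50]))) (.node (nat_lit 6) (.node (nat_lit 5) (.leaf (nat_lit 92160) [nat_lit 50, nat_lit 225, nat_lit 75, nat_lit 225]) (.leaf (nat_lit 89090) [nat_lit 350, nat_lit 75, nat_lit 200, nat_lit 50])) (.node (nat_lit 7) (.leaf (nat_lit 88065) [nat_lit 75, nat_lit 75, nat_lit 75]) r84))) (.node (nat_lit 17) (.node (nat_lit 13) (.node (nat_lit 11) r85 r86) (.node (nat_lit 15) r87 r88)) (.node (nat_lit 21) (.node (nat_lit 19) r89 r90) (.node (nat_lit 23) r91 r92))))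
noncomputable def P : Par := ⟨tb, nat_lit 550, nat_lit 0x3fffffffffffffffffffffffffffffffffffffffffffffffffffffffffffffffffffffffffffffffffffffffffffffffffffffffffffffffffffffffffffffffffffffffff, nat_lit 8245, nat_lit 33554431, nat_lit 16383, nat_lit 25, nat_lit 14, nat_lit 7371,
  [nat_lit 50, nat_lit 75, nat_lit 100, nat_lit 125, nat_lit 150, nat_lit 175, nat_lit 200, nat_lit 225, nat_lit 250, nat_lit 275, nat_lit 300, nat_lit 325, nat_lit 350, nat_lit 375, nat_lit 400, nat_lit 425, nat_lit 450, nat_lit 475, nat_lit 500, nat_lit 525], [nat_lit 100, nat_lit 125, nat_lit 150, nat_lit 175, nat_lit 200, nat_lit 225, nat_lit 250, nat_lit 275, nat_lit 300, nat_lit 325, nat_lit 350, nat_lit 375, nat_lit 400, nat_lit 425, nat_lit 450, nat_lit 475], wP,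
  (.cons (nat_lit 50) w0 (.cons (nat_lit 75) w1 (.cons (nat_lit 100) w2 (.cons (nat_lit 125) w3 (.cons (nat_lit 150) w4 (.cons (nat_lit 175) w5 (.cons (nat_lit 200) w6 (.cons (nat_lit 225) w7 .nil)))))))),
  (.cons (nat_lit 250) w8 (.cons (nat_lit 275) w9 (.cons (nat_lit 300) w10 (.cons (nat_lit 325) w11 (.cons (nat_lit 350) w12 (.cons (nat_lit 375) w13 (.cons (nat_lit 400) w14 (.cons (nat_lit 425) w15 (.cons (nat_lit 450) w16 (.cons (nat_lit 475) w17 (.cons (nat_lit 500) w18 (.cons (nat_lit 525) w19 .nil))))))))))))⟩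

end Cfsg.Agent.Lib.TCG3
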