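import Cfsg.Agent.Lib.TCHE1D0

set_option autoImplicit false
set_option maxRecDepth 100000

namespace Cfsg.Agent.Lib.TCHE1
open Cfsg.Agent.Lib.TCCore

noncomputable def tb : T := (.node (nat_lit 112) l0 (.node (nat_lit 224) l1 l2))
noncomputable def r0 : WT := (.node (nat_lit 7) (.leaf (nat_lit 28672) [nat_lit 119, nat_lit 34, nat_lit 119]) (.leaf (nat_lit 9216) [nat_lit 68, nat_lit 34, nat_lit 68]))
noncomputable def w0 : WT := (.node (nat_lit 1) (.leaf (nat_lit 0) [nat_lit 34]) (.node (nat_lit 3) (.node (nat_lit 2) (.leaf (nat_lit 20480) [nat_lit 153, nat_lit 34, nat_lit 153]) (.leaf (nat_lit 26624) [nat_lit 102, nat_lit 34, nat_lit 102])) (.node (nat_lit 5) (.node (nat_lit 4) (.leaf (nat_lit 8192) [nat_lit 51, nat_lit 34, nat_lit 51]) (.leaf (nat_lit 16384) [nat_lit 136, nat_lit 34, nat_lit 136])) (.node (nat_lit 6) (.leaf (nat_lit 10240) [nat_lit 85, nat_lit 34, nat_lit 85]) r0))))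
noncomputable def w1 : WT := (.node (nat_lit 1) (.leaf (nat_lit 1024) [nat_lit 51]) (.node (nat_lit 4) (.node (nat_lit 2) (.leaf (nat_lit 21504) [nat_lit 153, nat_lit 51, nat_lit 153]) (.node (nat_lit 3) (.leaf (nat_lit 12288) [nat_lit 102, nat_lit 51, nat_lit 102]) (.leaf (nat_lit 8194) [nat_lit 34, nat_lit 51, nat_lit 34]))) (.node (nat_lit 6) (.node (nat_lit 5) (.leaf (nat_lit 17408) [nat_lit 136, nat_lit 51, nat_lit 136]) (.leaf (nat_lit 25600) [nat_lit 85, nat_lit 51, nat_lit 85])) (.node (nat_lit 7) (.leaf (nat_lit 24576) [nat_lit 68, nat_lit 51, nat_lit 68]) (.leaf (nat_lit 29696) [nat_lit 119, nat_lit 51, nat_lit 119])))))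
noncomputable def r1 : WT := (.node (nat_lit 7) (.leaf (nat_lit 11264) [nat_lit 85, nat_lit 68, nat_lit 85]) (.leaf (nat_lit 14336) [nat_lit 119, nat_lit 68, nat_lit 119]))
noncomputable def w2 : WT := (.node (nat_lit 1) (.leaf (nat_lit 2048) [nat_lit 68]) (.node (nat_lit 3) (.node (nat_lit 2) (.leaf (nat_lit 24578) [nat_lit 51, nat_lit 68, nat_lit 51]) (.leaf (nat_lit 22528) [nat_lit 153, nat_lit 68, nat_lit 153])) (.node (nat_lit 5) (.node (nat_lit 4) (.leaf (nat_lit 13312) [nat_lit 102, nat_lit 68, nat_lit 102]) (.leaf (nat_lit 31744) [nat_lit 136, nat_lit 68, nat_lit 136])) (.node (nat_lit 6) (.leaf (nat_lit 9218) [nat_lit 34, nat_lit 68, nat_lit 34]) r1))))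
noncomputable def r2 : WT := (.node (nat_lit 7) (.leaf (nat_lit 11266) [nat_lit 68, nat_lit 85, nat_lit 68]) (.leaf (nat_lit 30720) [nat_lit 119, nat_lit 85, nat_lit 119]))
noncomputable def w3 : WT := (.node (nat_lit 1) (.leaf (nat_lit 3072) [nat_lit 85]) (.node (nat_lit 3) (.node (nat_lit 2) (.leaf (nat_lit 33792) [nat_lit 153, nat_lit 85, nat_lit 153]) (.leaf (nat_lit 27648) [nat_lit 102, nat_lit 85, nat_lit 102])) (.node (nat_lit 5) (.node (nat_lit 4) (.leaf (nat_lit 25602) [nat_lit 51, nat_lit 85, nat_lit 51]) (.leaf (nat_lit 10242) [nat_lit 34, nat_lit 85, nat_lit 34])) (.node (nat_lit 6) (.leaf (nat_lit 18432) [nat_lit 136, nat_lit 85, nat_lit 136]) r2))))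
noncomputable def r3 : WT := (.node (nat_lit 7) (.leaf (nat_lit 15360) [nat_lit 119, nat_lit 102, nat_lit 119]) (.leaf (nat_lit 13314) [nat_lit 68, nat_lit 102, nat_lit 68]))
noncomputable def w4 : WT := (.node (nat_lit 1) (.leaf (nat_lit 4096) [nat_lit 102]) (.node (nat_lit 3) (.node (nat_lit 2) (.leaf (nat_lit 12290) [nat_lit 51, nat_lit 102, nat_lit 51]) (.leaf (nat_lit 34816) [nat_lit 153, nat_lit 102, nat_lit 153])) (.node (nat_lit 5) (.node (nat_lit 4) (.leaf (nat_lit 26626) [nat_lit 34, nat_lit 102, nat_lit 34]) (.leaf (nat_lit 32768) [nat_lit 136, nat_lit 102, nat_lit 136])) (.node (nat_lit 6) (.leaf (nat_lit 27650) [nat_lit 85, nat_lit 102, nat_lit 85]) r3))))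
noncomputable def r4 : WT := (.node (nat_lit 7) (.leaf (nat_lit 14338) [nat_lit 68, nat_lit 119, nat_lit 68]) (.leaf (nat_lit 19456) [nat_lit 136, nat_lit 119, nat_lit 136]))
noncomputable def w5 : WT := (.node (nat_lit 1) (.leaf (nat_lit 5120) [nat_lit 119]) (.node (nat_lit 3) (.node (nat_lit 2) (.leaf (nat_lit 30722) [nat_lit 85, nat_lit 119, nat_lit 85]) (.leaf (nat_lit 29698) [nat_lit 51, nat_lit 119, nat_lit 51])) (.node (nat_lit 5) (.node (nat_lit 4) (.leaf (nat_lit 15362) [nat_lit 102, nat_lit 119, nat_lit 102]) (.leaf (nat_lit 23552) [nat_lit 153, nat_lit 119, nat_lit 153])) (.node (nat_lit 6) (.leaf (nat_lit 28674) [nat_lit 34, nat_lit 119, nat_lit 34]) r4))))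
noncomputable def r5 : WT := (.node (nat_lit 7) (.leaf (nat_lit 31746) [nat_lit 68, nat_lit 136, nat_lit 68]) (.leaf (nat_lit 19458) [nat_lit 119, nat_lit 136, nat_lit 119]))
noncomputable def w6 : WT := (.node (nat_lit 1) (.leaf (nat_lit 6144) [nat_lit 136]) (.node (nat_lit 3) (.node (nat_lit 2) (.leaf (nat_lit 35840) [nat_lit 153, nat_lit 136, nat_lit 153]) (.leaf (nat_lit 17410) [nat_lit 51, nat_lit 136, nat_lit 51])) (.node (nat_lit 5) (.node (nat_lit 4) (.leaf (nat_lit 32770) [nat_lit 102, nat_lit 136, nat_lit 102]) (.leaf (nat_lit 18434) [nat_lit 85, nat_lit 136, nat_lit 85])) (.node (nat_lit 6) (.leaf (nat_lit 16386) [nat_lit 34, nat_lit 136, nat_lit 34]) r5))))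
noncomputable def w7 : WT := (.node (nat_lit 1) (.leaf (nat_lit 7168) [nat_lit 153]) (.node (nat_lit 3) (.node (nat_lit 2) (.leaf (nat_lit 21506) [nat_lit 51, nat_lit 153, nat_lit 51]) (.leaf (nat_lit 34818) [nat_lit 102, nat_lit 153, nat_lit 102])) (.node (nat_lit 5) (.node (nat_lit 4) (.leaf (nat_lit 33794) [nat_lit 85, nat_lit 153, nat_lit 85]) (.leaf (nat_lit 20482) [nat_lit 34, nat_lit 153, nat_lit 34])) (.node (nat_lit 6) (.leaf (nat_lit 35842) [nat_lit 136, nat_lit 153, nat_lit 136]) (.leaf (nat_lit 22530) [nat_lit 68, nat_lit 153, nat_lit 68])))))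
noncomputable def wP : WT := (.leaf (nat_lit 0) [nat_lit 34, nat_lit 34])
noncomputable def P : Par := ⟨tb, nat_lit 170, nat_lit 0x3ffffffffffffffffffffffffffffffffffffffffff, nat_lit 256, nat_lit 131071, nat_lit 511, nat_lit 17, nat_lit 9, nat_lit 256,
  [nat_lit 34, nat_lit 51, nat_lit 68, nat_lit 85, nat_lit 102, nat_lit 119, nat_lit 136, nat_lit 153], [], wP,
  (.cons (nat_lit 34) w0 (.cons (nat_lit 51) w1 (.cons (nat_lit 68) w2 (.cons (nat_lit 85) w3 (.cons (nat_lit 102) w4 (.cons (nat_lit 119) w5 (.cons (nat_lit 136) w6 (.cons (nat_lit 153) w7 .nil)))))))),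
  .nil⟩

end Cfsg.Agent.Lib.TCHE1
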