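import Cfsg.Agent.Lib.TCHE2D0

set_option autoImplicit false
set_option maxRecDepth 100000

namespace Cfsg.Agent.Lib.TCHE2
open Cfsg.Agent.Lib.TCCore

noncomputable def tb : T := (.node (nat_lit 98) l0 l1)
noncomputable def r0 : WT := (.node (nat_lit 5) (.leaf (nat_lit 37894) [nat_lit 45, nat_lit 45, nat_lit 30, nat_lit 45, nat_lit 45, nat_lit 75, nat_lit 135, nat_lit 150, nat_lit 30, nat_lit 45, nat_lit 45]) (.leaf (nat_lit 37900) [nat_lit 45, nat_lit 45, nat_lit 75, nat_lit 135, nat_lit 150, nat_lit 30, nat_lit 45, nat_lit 45, nat_lit 30, nat_lit 45, nat_lit 45]))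
noncomputable def w0 : WT := (.node (nat_lit 1) (.leaf (nat_lit 0) [nat_lit 30]) (.node (nat_lit 2) (.leaf (nat_lit 37899) [nat_lit 60, nat_lit 60, nat_lit 30, nat_lit 60, nat_lit 60, nat_lit 30, nat_lit 150, nat_lit 135, nat_lit 75, nat_lit 60, nat_lit 60]) (.node (nat_lit 3) (.leaf (nat_lit 38912) [nat_lit 45, nat_lit 30, nat_lit 45, nat_lit 30, nat_lit 45, nat_lit 30, nat_lit 45, nat_lit 30, nat_lit 45, nat_lit 30, nat_lit 45]) (.node (nat_lit 4) (.leaf (nat_lit 38915) [nat_lit 60, nat_lit 30, nat_lit 60, nat_lit 30, nat_lit 60, nat_lit 30, nat_lit 60, nat_lit 30, nat_lit 60, nat_lit 30, nat_lit 60]) r0))))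
noncomputable def w1 : WT := (.node (nat_lit 1) (.leaf (nat_lit 1024) [nat_lit 60]) (.node (nat_lit 2) (.leaf (nat_lit 38914) [nat_lit 30, nat_lit 45, nat_lit 30, nat_lit 45, nat_lit 30, nat_lit 45, nat_lit 30, nat_lit 45, nat_lit 30, nat_lit 45, nat_lit 30]) (.node (nat_lit 3) (.leaf (nat_lit 57346) [nat_lit 45, nat_lit 45, nat_lit 75, nat_lit 105, nat_lit 135, nat_lit 150, nat_lit 45]) (.leaf (nat_lit 57350) [nat_lit 75, nat_lit 105, nat_lit 135, nat_lit 150, nat_lit 45, nat_lit 45, nat_lit 45]))))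
noncomputable def w2 : WT := (.node (nat_lit 1) (.leaf (nat_lit 1026) [nat_lit 45]) (.node (nat_lit 2) (.leaf (nat_lit 57355) [nat_lit 60, nat_lit 60, nat_lit 150, nat_lit 135, nat_lit 105, nat_lit 75, nat_lit 60]) (.node (nat_lit 3) (.leaf (nat_lit 37901) [nat_lit 60, nat_lit 30, nat_lit 60, nat_lit 60, nat_lit 30, nat_lit 150, nat_lit 135, nat_lit 75, nat_lit 60, nat_lit 60, nat_lit 30]) (.node (nat_lit 4) (.leaf (nat_lit 37897) [nat_lit 30, nat_lit 60, nat_lit 60, nat_lit 30, nat_lit 60, nat_lit 60, nat_lit 30, nat_lit 150, nat_lit 135, nat_lit 75, nat_lit 60]) (.leaf (nat_lit 38913) [nat_lit 30, nat_lit 60, nat_lit 30, nat_lit 60, nat_lit 30, nat_lit 60, nat_lit 30, nat_lit 60, nat_lit 30, nat_lit 60, nat_lit 30])))))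
noncomputable def w3 : WT := (.node (nat_lit 1) (.leaf (nat_lit 32774) [nat_lit 45, nat_lit 75, nat_lit 60]) (.node (nat_lit 2) (.leaf (nat_lit 26626) [nat_lit 30, nat_lit 75, nat_lit 30]) (.node (nat_lit 3) (.leaf (nat_lit 32770) [nat_lit 60, nat_lit 75, nat_lit 45]) (.leaf (nat_lit 37906) [nat_lit 135, nat_lit 150, nat_lit 30, nat_lit 45, nat_lit 45, nat_lit 30, nat_lit 45, nat_lit 45, nat_lit 30, nat_lit 45, nat_lit 45]))))
noncomputable def w4 : WT := (.node (nat_lit 1) (.leaf (nat_lit 54280) [nat_lit 45, nat_lit 105, nat_lit 60, nat_lit 75]) (.node (nat_lit 2) (.leaf (nat_lit 27650) [nat_lit 30, nat_lit 75, nat_lit 90, nat_lit 30]) (.node (nat_lit 3) (.leaf (nat_lit 33794) [nat_lit 60, nat_lit 105, nat_lit 45]) (.leaf (nat_lit 27656) [nat_lit 30, nat_lit 90, nat_lit 30, nat_lit 75]))))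
noncomputable def w5 : WT := (.node (nat_lit 1) (.leaf (nat_lit 33798) [nat_lit 45, nat_lit 90, nat_lit 60]) (.node (nat_lit 2) (.leaf (nat_lit 28674) [nat_lit 30, nat_lit 120, nat_lit 30]) (.node (nat_lit 3) (.leaf (nat_lit 54274) [nat_lit 60, nat_lit 75, nat_lit 90, nat_lit 45]) (.leaf (nat_lit 52232) [nat_lit 120, nat_lit 150, nat_lit 30, nat_lit 135, nat_lit 30, nat_lit 90]))))
noncomputable def w6 : WT := (.node (nat_lit 1) (.leaf (nat_lit 28678) [nat_lit 30, nat_lit 105, nat_lit 30]) (.node (nat_lit 2) (.leaf (nat_lit 34818) [nat_lit 60, nat_lit 165, nat_lit 45]) (.node (nat_lit 3) (.leaf (nat_lit 5120) [nat_lit 120]) (.leaf (nat_lit 35845) [nat_lit 90, nat_lit 75, nat_lit 45, nat_lit 135, nat_lit 60, nat_lit 165, nat_lit 135]))))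
noncomputable def r1 : WT := (.node (nat_lit 5) (.leaf (nat_lit 56332) [nat_lit 150, nat_lit 45, nat_lit 165, nat_lit 60, nat_lit 75, nat_lit 105, nat_lit 120]) (.leaf (nat_lit 37908) [nat_lit 150, nat_lit 30, nat_lit 45, nat_lit 45, nat_lit 30, nat_lit 45, nat_lit 45, nat_lit 30, nat_lit 45, nat_lit 45, nat_lit 75]))
noncomputable def w7 : WT := (.node (nat_lit 1) (.leaf (nat_lit 52226) [nat_lit 30, nat_lit 90, nat_lit 105, nat_lit 120, nat_lit 150, nat_lit 30]) (.node (nat_lit 2) (.leaf (nat_lit 35842) [nat_lit 60, nat_lit 75, nat_lit 90, nat_lit 120, nat_lit 135, nat_lit 165, nat_lit 45]) (.node (nat_lit 3) (.leaf (nat_lit 6144) [nat_lit 135]) (.node (nat_lit 4) (.leaf (nat_lit 35852) [nat_lit 165, nat_lit 45, nat_lit 135, nat_lit 60, nat_lit 75, nat_lit 90, nat_lit 120]) r1))))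
noncomputable def r2 : WT := (.node (nat_lit 5) (.leaf (nat_lit 53250) [nat_lit 30, nat_lit 75, nat_lit 90, nat_lit 105, nat_lit 120, nat_lit 135, nat_lit 30]) (.node (nat_lit 6) (.leaf (nat_lit 55306) [nat_lit 165, nat_lit 45, nat_lit 150, nat_lit 60, nat_lit 105, nat_lit 120]) (.leaf (nat_lit 56334) [nat_lit 45, nat_lit 165, nat_lit 60, nat_lit 75, nat_lit 105, nat_lit 120, nat_lit 135])))
noncomputable def w8 : WT := (.node (nat_lit 1) (.leaf (nat_lit 52236) [nat_lit 30, nat_lit 135, nat_lit 30, nat_lit 90, nat_lit 105, nat_lit 120]) (.node (nat_lit 2) (.leaf (nat_lit 55298) [nat_lit 60, nat_lit 105, nat_lit 120, nat_lit 150, nat_lit 165, nat_lit 45]) (.node (nat_lit 3) (.leaf (nat_lit 17410) [nat_lit 135, nat_lit 150, nat_lit 135]) (.node (nat_lit 4) (.leaf (nat_lit 56321) [nat_lit 135, nat_lit 120, nat_lit 105, nat_lit 75, nat_lit 45, nat_lit 165, nat_lit 60]) r2))))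
noncomputable def w9 : WT := (.node (nat_lit 1) (.leaf (nat_lit 34822) [nat_lit 45, nat_lit 120, nat_lit 60]) (.node (nat_lit 2) (.leaf (nat_lit 30722) [nat_lit 30, nat_lit 180, nat_lit 30]) (.node (nat_lit 3) (.leaf (nat_lit 56322) [nat_lit 60, nat_lit 75, nat_lit 105, nat_lit 120, nat_lit 135, nat_lit 150, nat_lit 45]) (.node (nat_lit 4) (.leaf (nat_lit 48130) [nat_lit 135, nat_lit 165, nat_lit 135]) (.leaf (nat_lit 55308) [nat_lit 45, nat_lit 150, nat_lit 60, nat_lit 105, nat_lit 120, nat_lit 150])))))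
noncomputable def w10 : WT := (.node (nat_lit 1) (.leaf (nat_lit 30726) [nat_lit 30, nat_lit 165, nat_lit 30]) (.node (nat_lit 2) (.leaf (nat_lit 36866) [nat_lit 60, nat_lit 90, nat_lit 105, nat_lit 135, nat_lit 150, nat_lit 165, nat_lit 180, nat_lit 45]) (.node (nat_lit 3) (.leaf (nat_lit 36865) [nat_lit 165, nat_lit 150, nat_lit 135, nat_lit 105, nat_lit 90, nat_lit 45, nat_lit 180, nat_lit 60]) (.leaf (nat_lit 36880) [nat_lit 45, nat_lit 180, nat_lit 60, nat_lit 90, nat_lit 105, nat_lit 135, nat_lit 150, nat_lit 165]))))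
noncomputable def wP : WT := (.leaf (nat_lit 55296) [nat_lit 45, nat_lit 150, nat_lit 60, nat_lit 105, nat_lit 120, nat_lit 150, nat_lit 165])
noncomputable def P : Par := ⟨tb, nat_lit 195, nat_lit 0x7ffffffffffffffffffffffffffffffffffffffffffffffff, nat_lit 129, nat_lit 32767, nat_lit 255, nat_lit 15, nat_lit 8, nat_lit 120,
  [nat_lit 30, nat_lit 45, nat_lit 60, nat_lit 75, nat_lit 90, nat_lit 105, nat_lit 120, nat_lit 135, nat_lit 150, nat_lit 165, nat_lit 180], [nat_lit 75, nat_lit 90, nat_lit 105, nat_lit 120, nat_lit 135, nat_lit 150, nat_lit 165, nat_lit 180], wP,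
  (.cons (nat_lit 30) w0 (.cons (nat_lit 45) w1 (.cons (nat_lit 60) w2 (.cons (nat_lit 75) w3 (.cons (nat_lit 90) w4 (.cons (nat_lit 105) w5 (.cons (nat_lit 120) w6 (.cons (nat_lit 135) w7 (.cons (nat_lit 150) w8 (.cons (nat_lit 165) w9 (.cons (nat_lit 180) w10 .nil))))))))))),
  .nil⟩

end Cfsg.Agent.Lib.TCHE2
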