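import Cfsg.Agent.Lib.TCHE3P

set_option autoImplicit false
set_option maxRecDepth 100000

namespace Cfsg.Agent.Lib.TCHE3
open Cfsg.Agent.Lib.TCCore

theorem k0 : P.RowsS 0 60 := P.rowsS_of_chk _ _ [nat_lit 0x81410100c0c20180001010181000081040180810183808080808000602020208020202020a0200008101810101828202800020e0202080a0602040a040a02020000808101808201028201808100002020406040806020802000100808082808104828081010000202020e06040202040a0e0a0202000080810101050300810100800020202020e08020202060e02f600017b0000002fa000502027d003e801f4000202003e8000404102c0c041c0c100404000501030505080a01060600008040404080c08100c0c100800010101044010040100401004010001010140100, nat_lit 0x5010505060101010201010000810040c080804040418040c00010302010104040203040001004040404100c0404040404041400020401030202010101070103000041804281c1c040404040804000104010302020101010106020000410140c0808141414040400030104010302020101010101030000410040c08080404042c040800010104040301020304050301010000c0804041010080c0c0001010303020101040402030100004040c0410100c04080c10040c04040001040801080206060107010100004041c0c1c1804040404040001, nat_lit 0x2030204030304020000404100404041c180404040404040c000201010403010101010101010000810040c080804040410040c00010104040301020304010106010000c0804041010080c0c00080201010404030102030404010107000080c08100c0c1008000201010101010706010101010801020002410040c08080404040804080001010404030102030405030101000080c08100c0c1008000201010103020101040402030300004200c0c0804041010080c040001010304050302020505050101000042014041814140404040804080002,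 nat_lit 0x104040301020304010301060001404181414040404081008000205010505060101010201010000810140c080814141424200001050203020403030402000080404100c0404041004040404100c0001030201010404020301000100404080408100c040404280404000602030204030304020000404041014041814140404040804080002050105050601010102040100008140418141404040408040c0001] (by decide +kernel)
theorem k1 : P.RowsT 60 65 := P.rowsT_of_chk _ _ [nat_lit 0x18240009002000040040404040021000e000004040404240000300004042be01c000] (by decide +kernel)
theorem s0 : P.RowsS 0 60 := k0
theorem t0 : P.RowsT 60 65 := k1

end Cfsg.Agent.Lib.TCHE3
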