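import Cfsg.Agent.Lib.TCDefs

set_option autoImplicit false
set_option maxRecDepth 100000

namespace Cfsg.Agent.Lib.TCHE3
open Cfsg.Agent.Lib.TCCore

noncomputable def l0 : T := .leaf (nat_lit 0) (nat_lit 0x3fff27050410c6cf1bffffffffffffffffffffffffffff586c09afffffffffffffffffffffffffffffffffff1afffff1e48f9000e3fffffffffffffc9912447fffffffffffffffff1d00611404401cfffc7beffffffffffc7be20f87beffffffffffc68216f47850073fffffffffffffffffffffffffffffff142ffff183063e201804674f20bc82f20bc50f203c72f14bc9af263c7ef1f3c209ffff00728bb94ee83b82ee8bb78eddbb74ee03596b27b91cea01afffc02a96e9dba94ea43a92e9cba76e9cba8ed25aa1eec6b88263fff00a9db976e5db976e5cb972e5db972e672f8adc6b8a0edfb7fffc03872e1c3842e1cb874e1d3870e1c3818447361ce873970dbfff01523377ede3378cde3b76edd9b764de33988bdfb614d6039fffc02a72d9c3674d90b674d9cb652d9c361ee06117ad203772e3fff0119f356cd5f357cd5f3562d5b3562d5e2c82ec5b712d1b19fffc02a62d1ab46ad1b346ad1ab460d183410aa43a14d5f365e5ffff015263394ce4b390ce5b370cd2b348ce3b19ab60a318ca3b0fffc02a96c9c3294ca43292c91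326ec91b28ec1fae1acc5a48ec7fff00aa4b184c64318ec64b16ec61316ec632d90ce32214c2432fffc02a82c1b3062c213082c20b06cc1b3012ba43216c620f90cffff015222f82be2af8abe22f6cbd92f62be2b79ee612512ba1affffc02a80b9aae82ba02e80b982e6ab982e80c853014bc42a7cb7fff00a9e2d42b5e2d78b5e2d70b552d52b66338ec5d2c1845faefffc02a36b1a2c6ab1a2c62b1a2c66b19ac98edeb57241dad18affff00719ab34ad82b3aad9ab60accab64adb991669da97aa46acfffc04660a9a2a6aa9a2a68a9a2a5ea97aa94e84b412b9d250ea7fff00719a95ea49a966a59a966a57295ca43177261f2b78ac42afffc05480a1fa880a202878a1ca87ea1ca892a252874486a676a3fff00aa027729e0277e9dfa74e9dc27509e527969dd261e488bcfffc02a7099f267e99f267c99f267099c267235c0c1ca1da71897fff0071ea56e951257a95ea57a95ba56e945a21a8ddaa86bc6a6fffc0544891e246c91b246e91b244291124184050f18c9c23666ffff0119ea36e8dea3448df237a8d1236e8c7251689ca484cdb8dfffc0467889b227889e2278890a26c890a2188c625143e3b16a33fff00e1c216a85ba15e85c213684c212e8571c6e7db080e8199efffc02a6c819a06a818a06880aa03480b206075b1e1084307687ffff00a9b9f607db9f6e7db9f367cc1f2e7db216a71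99e1229aa0fffc02a6479b1e647901e687999e3878e9e6a8051d642da1f6887fff011989d6a7591d627589d3e74e1d367459e628178d123979cfffc02a5e7169c5e7179c5e70f1c2c70a9c687d7a15a3031b6077fff00a90c1246cf9b0f04fc1266ce9b286d90e644839c0a19a24fffc02a5c68b9a5e6979a4a68e1a6268c1a18ada99465451382effff00a99196465919646591938658993065b1a70ac5136655bb5fffc0386660c1866619986660d184260c1874a5c17625041684ebfff00a99175c5d917645d917245d697265db980ea55960a51834fffc02a445989642598162e590163258b963010c9312616170e23fff007101528549155a55715585499528543850a51a194868a07fffc0463e5091456508945a5161422509140c542050c5d918222ffff0119113624d893604cb13604cd932e4cd16361059a166448afffc01c76492926e48c927049b924c49392666c80e209dda81d03fff0071c116e45c117244a3f26fdb9150446b61ae06ad16406bffffc02a4841d106e41b106c41b102301390143c6a41845d2c404bfff015118f763da8f6a3cc8f6a3cf8f403c5a416422b0168848efffc01c663910e663998e6838c0e3c38d0e224989b1474409143ffff00a968d5a34a8d5e34f8d3434e0d343460c74987896075c23fffc054583160c5830d8c3c30a0c3630a0c729868d16f571c6c8bfff00e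0a0b3c2d90b582d10b362ca0b2a2c5bd241c48a6678914fffc038602908a3c28c0a5e28a8a3428b0a1024508147c50b144ffff01517894024b895c250893a24b893224388122848e2034484fffc05460210885e20f083e20b083020b0816284090c1dba1105bfff00e0b073c1ce07621d907321ca072a1c98b0a183a00e20a95fffc0462218e865618e062218e0624189860c1c88b0c6c88c0817fff0070f05201558554153052014885201429410541832008286fffc038421180448111043c111843410d04384cc9604082831427fff00e14034a0d503500d483240d3034e0c10208043040814302fffc054060818206081820608182060818202041831cf81840a0ffff0150081020408102040810204081020428304081010204081fffc000)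

end Cfsg.Agent.Lib.TCHE3
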