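import Cfsg.Agent.Lib.TCHE3D0

set_option autoImplicit false
set_option maxRecDepth 100000

namespace Cfsg.Agent.Lib.TCHE3
open Cfsg.Agent.Lib.TCCore

noncomputable def tb : T := l0
noncomputable def r0 : WT := (.node (nat_lit 5) (.leaf (nat_lit 48128) [nat_lit 42, nat_lit 28, nat_lit 42, nat_lit 28, nat_lit 42, nat_lit 28, nat_lit 42, nat_lit 28, nat_lit 42, nat_lit 28, nat_lit 42]) (.leaf (nat_lit 48131) [nat_lit 56, nat_lit 28, nat_lit 56, nat_lit 28, nat_lit 56, nat_lit 28, nat_lit 56, nat_lit 28, nat_lit 56, nat_lit 28, nat_lit 56]))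
noncomputable def r1 : WT := (.leaf (nat_lit 53266) [nat_lit 42, nat_lit 70, nat_lit 112, nat_lit 168, nat_lit 28, nat_lit 42, nat_lit 28, nat_lit 84, nat_lit 42, nat_lit 28, nat_lit 84, nat_lit 42, nat_lit 70])
noncomputable def r2 : WT := (.leaf (nat_lit 52228) [nat_lit 70, nat_lit 42, nat_lit 28, nat_lit 70, nat_lit 42, nat_lit 84, nat_lit 28, nat_lit 42, nat_lit 84, nat_lit 98, nat_lit 112, nat_lit 140, nat_lit 28, nat_lit 42])
noncomputable def r3 : WT := (.leaf (nat_lit 72712) [nat_lit 42, nat_lit 70, nat_lit 56, nat_lit 28, nat_lit 42, nat_lit 70, nat_lit 56, nat_lit 112, nat_lit 154, nat_lit 168, nat_lit 182, nat_lit 196, nat_lit 28, nat_lit 42, nat_lit 70, nat_lit 56])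
noncomputable def r4 : WT := (.node (nat_lit 7) r1 (.node (nat_lit 8) r2 r3))
noncomputable def w0 : WT := (.node (nat_lit 1) (.leaf (nat_lit 0) [nat_lit 28]) (.node (nat_lit 2) (.leaf (nat_lit 47115) [nat_lit 56, nat_lit 56, nat_lit 28, nat_lit 56, nat_lit 56, nat_lit 28, nat_lit 168, nat_lit 154, nat_lit 98, nat_lit 56, nat_lit 56]) (.node (nat_lit 4) (.node (nat_lit 3) (.leaf (nat_lit 50181) [nat_lit 84, nat_lit 28, nat_lit 112, nat_lit 84]) (.leaf (nat_lit 50180) [nat_lit 70, nat_lit 112, nat_lit 28, nat_lit 70])) (.node (nat_lit 6) r0 r4))))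
noncomputable def r5 : WT := (.leaf (nat_lit 53250) [nat_lit 28, nat_lit 84, nat_lit 42, nat_lit 28, nat_lit 84, nat_lit 42, nat_lit 70, nat_lit 28, nat_lit 42, nat_lit 70, nat_lit 112, nat_lit 168, nat_lit 28])
noncomputable def r6 : WT := (.leaf (nat_lit 53256) [nat_lit 28, nat_lit 84, nat_lit 42, nat_lit 70, nat_lit 28, nat_lit 42, nat_lit 70, nat_lit 112, nat_lit 168, nat_lit 28, nat_lit 42, nat_lit 28, nat_lit 84])
noncomputable def r7 : WT := (.leaf (nat_lit 52244) [nat_lit 84, nat_lit 98, nat_lit 112, nat_lit 140, nat_lit 28, nat_lit 42, nat_lit 28, nat_lit 70, nat_lit 42, nat_lit 28, nat_lit 70, nat_lit 42, nat_lit 84, nat_lit 28])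
noncomputable def w1 : WT := (.node (nat_lit 1) (.leaf (nat_lit 1024) [nat_lit 56]) (.node (nat_lit 5) (.node (nat_lit 3) (.node (nat_lit 2) (.leaf (nat_lit 51200) [nat_lit 42, nat_lit 70, nat_lit 42, nat_lit 42, nat_lit 70, nat_lit 98, nat_lit 154]) (.leaf (nat_lit 51202) [nat_lit 70, nat_lit 42, nat_lit 42, nat_lit 70, nat_lit 98, nat_lit 154, nat_lit 42])) (.node (nat_lit 4) (.leaf (nat_lit 51206) [nat_lit 42, nat_lit 70, nat_lit 98, nat_lit 154, nat_lit 42, nat_lit 42, nat_lit 70]) (.leaf (nat_lit 51208) [nat_lit 70, nat_lit 98, nat_lit 154, nat_lit 42, nat_lit 42, nat_lit 70, nat_lit 42]))) (.node (nat_lit 7) (.node (nat_lit 6) (.leaf (nat_lit 48130) [nat_lit 28, nat_lit 42, nat_lit 28, nat_lit 42, nat_lit 28, nat_lit 42, nat_lit 28, nat_lit 42, nat_lit 28, nat_lit 42, nat_lit 28]) r5) (.node (nat_lit 8) r6 r7))))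
noncomputable def r8 : WT := (.node (nat_lit 4) (.leaf (nat_lit 51207) [nat_lit 56, nat_lit 84, nat_lit 56, nat_lit 56, nat_lit 154, nat_lit 98, nat_lit 84]) (.leaf (nat_lit 71693) [nat_lit 56, nat_lit 168, nat_lit 154, nat_lit 126, nat_lit 98, nat_lit 56, nat_lit 56]))
noncomputable def r9 : WT := (.leaf (nat_lit 53267) [nat_lit 70, nat_lit 28, nat_lit 56, nat_lit 28, nat_lit 168, nat_lit 112, nat_lit 84, nat_lit 56, nat_lit 28, nat_lit 84, nat_lit 56, nat_lit 70, nat_lit 28])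
noncomputable def r10 : WT := (.leaf (nat_lit 72718) [nat_lit 28, nat_lit 42, nat_lit 70, nat_lit 56, nat_lit 112, nat_lit 154, nat_lit 168, nat_lit 182, nat_lit 196, nat_lit 28, nat_lit 42, nat_lit 70, nat_lit 56, nat_lit 28, nat_lit 42, nat_lit 70])
noncomputable def r11 : WT := (.leaf (nat_lit 72719) [nat_lit 28, nat_lit 42, nat_lit 84, nat_lit 56, nat_lit 28, nat_lit 42, nat_lit 84, nat_lit 56, nat_lit 28, nat_lit 196, nat_lit 182, nat_lit 168, nat_lit 154, nat_lit 112, nat_lit 42, nat_lit 84])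
noncomputable def r12 : WT := (.node (nat_lit 6) r9 (.node (nat_lit 7) r10 r11))
noncomputable def w2 : WT := (.node (nat_lit 1) (.leaf (nat_lit 1026) [nat_lit 42]) (.node (nat_lit 2) (.leaf (nat_lit 51209) [nat_lit 84, nat_lit 56, nat_lit 56, nat_lit 154, nat_lit 98, nat_lit 84, nat_lit 56]) (.node (nat_lit 3) (.leaf (nat_lit 71691) [nat_lit 56, nat_lit 56, nat_lit 168, nat_lit 154, nat_lit 126, nat_lit 98, nat_lit 56]) (.node (nat_lit 5) r8 r12))))
noncomputable def r13 : WT := (.leaf (nat_lit 53269) [nat_lit 28, nat_lit 56, nat_lit 28, nat_lit 168, nat_lit 112, nat_lit 84, nat_lit 56, nat_lit 28, nat_lit 84, nat_lit 56, nat_lit 70, nat_lit 28, nat_lit 56])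
noncomputable def r14 : WT := (.leaf (nat_lit 72724) [nat_lit 56, nat_lit 112, nat_lit 154, nat_lit 168, nat_lit 182, nat_lit 196, nat_lit 28, nat_lit 42, nat_lit 70, nat_lit 56, nat_lit 28, nat_lit 42, nat_lit 70, nat_lit 56, nat_lit 28, nat_lit 42])
noncomputable def r15 : WT := (.leaf (nat_lit 73734) [nat_lit 42, nat_lit 28, nat_lit 56, nat_lit 28, nat_lit 70, nat_lit 56, nat_lit 28, nat_lit 42, nat_lit 28, nat_lit 70, nat_lit 42, nat_lit 28, nat_lit 56, nat_lit 28, nat_lit 70, nat_lit 56, nat_lit 28, nat_lit 42, nat_lit 28])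
noncomputable def r16 : WT := (.leaf (nat_lit 73744) [nat_lit 56, nat_lit 28, nat_lit 42, nat_lit 28, nat_lit 70, nat_lit 42, nat_lit 28, nat_lit 56, nat_lit 28, nat_lit 70, nat_lit 56, nat_lit 28, nat_lit 42, nat_lit 28, nat_lit 70, nat_lit 42, nat_lit 28, nat_lit 56, nat_lit 28])
noncomputable def r17 : WT := (.node (nat_lit 7) r15 r16)
noncomputable def w3 : WT := (.node (nat_lit 1) (.leaf (nat_lit 2048) [nat_lit 84]) (.node (nat_lit 3) (.node (nat_lit 2) (.leaf (nat_lit 49152) [nat_lit 70, nat_lit 70]) (.leaf (nat_lit 50178) [nat_lit 28, nat_lit 70, nat_lit 112, nat_lit 28])) (.node (nat_lit 5) (.node (nat_lit 4) r13 (.leaf (nat_lit 51204) [nat_lit 42, nat_lit 42, nat_lit 70, nat_lit 98, nat_lit 154, nat_lit 42, nat_lit 42])) (.node (nat_lit 6) r14 r17))))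
noncomputable def r18 : WT := (.leaf (nat_lit 52246) [nat_lit 98, nat_lit 112, nat_lit 140, nat_lit 28, nat_lit 42, nat_lit 28, nat_lit 70, nat_lit 42, nat_lit 28, nat_lit 70, nat_lit 42, nat_lit 84, nat_lit 28, nat_lit 42])
noncomputable def r19 : WT := (.node (nat_lit 5) (.leaf (nat_lit 50183) [nat_lit 28, nat_lit 112, nat_lit 84, nat_lit 28]) (.leaf (nat_lit 50179) [nat_lit 28, nat_lit 84, nat_lit 28, nat_lit 112]))
noncomputable def r20 : WT := (.leaf (nat_lit 53253) [nat_lit 56, nat_lit 28, nat_lit 84, nat_lit 56, nat_lit 70, nat_lit 28, nat_lit 56, nat_lit 70, nat_lit 28, nat_lit 56, nat_lit 28, nat_lit 168, nat_lit 112])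
noncomputable def r21 : WT := (.node (nat_lit 7) (.leaf (nat_lit 51205) [nat_lit 56, nat_lit 56, nat_lit 84, nat_lit 56, nat_lit 56, nat_lit 154, nat_lit 98]) r20)
noncomputable def r22 : WT := (.leaf (nat_lit 52240) [nat_lit 28, nat_lit 42, nat_lit 84, nat_lit 98, nat_lit 112, nat_lit 140, nat_lit 28, nat_lit 42, nat_lit 28, nat_lit 70, nat_lit 42, nat_lit 28, nat_lit 70, nat_lit 42])
noncomputable def r23 : WT := (.leaf (nat_lit 52247) [nat_lit 28, nat_lit 56, nat_lit 28, nat_lit 140, nat_lit 112, nat_lit 98, nat_lit 70, nat_lit 56, nat_lit 28, nat_lit 70, nat_lit 56, nat_lit 84, nat_lit 28, nat_lit 56])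
noncomputable def r24 : WT := (.leaf (nat_lit 72733) [nat_lit 56, nat_lit 28, nat_lit 196, nat_lit 182, nat_lit 168, nat_lit 154, nat_lit 112, nat_lit 42, nat_lit 84, nat_lit 56, nat_lit 28, nat_lit 42, nat_lit 84, nat_lit 56, nat_lit 28, nat_lit 42])
noncomputable def r25 : WT := (.node (nat_lit 9) r22 (.node (nat_lit 10) r23 r24))
noncomputable def w4 : WT := (.node (nat_lit 1) (.leaf (nat_lit 2050) [nat_lit 70]) (.node (nat_lit 3) (.node (nat_lit 2) (.leaf (nat_lit 51211) [nat_lit 56, nat_lit 56, nat_lit 154, nat_lit 98, nat_lit 84, nat_lit 56, nat_lit 56]) (.leaf (nat_lit 49153) [nat_lit 84, nat_lit 84])) (.node (nat_lit 6) (.node (nat_lit 4) r18 r19) (.node (nat_lit 8) r21 r25))))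
noncomputable def w5 : WT := (.node (nat_lit 2) (.node (nat_lit 1) (.leaf (nat_lit 33798) [nat_lit 42, nat_lit 98, nat_lit 56]) (.leaf (nat_lit 38914) [nat_lit 84, nat_lit 112, nat_lit 70])) (.node (nat_lit 4) (.node (nat_lit 3) (.leaf (nat_lit 39942) [nat_lit 112, nat_lit 70, nat_lit 112, nat_lit 84]) (.leaf (nat_lit 27650) [nat_lit 28, nat_lit 98, nat_lit 28])) (.node (nat_lit 5) (.leaf (nat_lit 33794) [nat_lit 56, nat_lit 98, nat_lit 42]) (.node (nat_lit 6) (.leaf (nat_lit 28678) [nat_lit 112, nat_lit 28, nat_lit 112, nat_lit 28]) (.leaf (nat_lit 28675) [nat_lit 28, nat_lit 112, nat_lit 28, nat_lit 112])))))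
noncomputable def r26 : WT := (.node (nat_lit 6) (.leaf (nat_lit 45062) [nat_lit 182, nat_lit 70, nat_lit 182, nat_lit 84]) (.node (nat_lit 7) (.leaf (nat_lit 39944) [nat_lit 70, nat_lit 112, nat_lit 84, nat_lit 98]) (.leaf (nat_lit 50184) [nat_lit 28, nat_lit 70, nat_lit 28, nat_lit 70])))
noncomputable def w6 : WT := (.node (nat_lit 2) (.node (nat_lit 1) (.leaf (nat_lit 68616) [nat_lit 42, nat_lit 126, nat_lit 56, nat_lit 98]) (.leaf (nat_lit 38918) [nat_lit 70, nat_lit 98, nat_lit 84])) (.node (nat_lit 3) (.leaf (nat_lit 28674) [nat_lit 28, nat_lit 98, nat_lit 112, nat_lit 28]) (.node (nat_lit 4) (.leaf (nat_lit 39938) [nat_lit 84, nat_lit 98, nat_lit 112, nat_lit 70]) (.node (nat_lit 5) (.leaf (nat_lit 34818) [nat_lit 56, nat_lit 126, nat_lit 42]) r26))))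
noncomputable def r27 : WT := (.node (nat_lit 6) (.leaf (nat_lit 5120) [nat_lit 126]) (.leaf (nat_lit 67594) [nat_lit 140, nat_lit 154, nat_lit 28, nat_lit 168, nat_lit 28, nat_lit 98, nat_lit 112]))
noncomputable def w7 : WT := (.node (nat_lit 1) (.leaf (nat_lit 34822) [nat_lit 42, nat_lit 112, nat_lit 56]) (.node (nat_lit 3) (.node (nat_lit 2) (.leaf (nat_lit 29698) [nat_lit 28, nat_lit 140, nat_lit 28]) (.leaf (nat_lit 40962) [nat_lit 84, nat_lit 154, nat_lit 70])) (.node (nat_lit 4) (.leaf (nat_lit 44038) [nat_lit 70, nat_lit 168, nat_lit 84]) (.node (nat_lit 5) (.leaf (nat_lit 68610) [nat_lit 56, nat_lit 98, nat_lit 112, nat_lit 42]) r27))))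
noncomputable def r28 : WT := (.node (nat_lit 7) (.leaf (nat_lit 6144) [nat_lit 140]) (.leaf (nat_lit 66570) [nat_lit 168, nat_lit 28, nat_lit 154, nat_lit 28, nat_lit 112, nat_lit 126]))
noncomputable def r29 : WT := (.node (nat_lit 9) (.leaf (nat_lit 36869) [nat_lit 112, nat_lit 98, nat_lit 42, nat_lit 154, nat_lit 56, nat_lit 182, nat_lit 154]) (.leaf (nat_lit 67596) [nat_lit 154, nat_lit 28, nat_lit 168, nat_lit 28, nat_lit 98, nat_lit 112, nat_lit 126]))
noncomputable def w8 : WT := (.node (nat_lit 2) (.node (nat_lit 1) (.leaf (nat_lit 29702) [nat_lit 28, nat_lit 126, nat_lit 28]) (.leaf (nat_lit 35842) [nat_lit 56, nat_lit 182, nat_lit 42])) (.node (nat_lit 4) (.node (nat_lit 3) (.leaf (nat_lit 41986) [nat_lit 84, nat_lit 98, nat_lit 112, nat_lit 126, nat_lit 140, nat_lit 154, nat_lit 70]) (.leaf (nat_lit 41996) [nat_lit 154, nat_lit 70, nat_lit 140, nat_lit 84, nat_lit 98, nat_lit 112, nat_lit 126])) (.node (nat_lit 6) (.node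 (nat_lit 5) (.leaf (nat_lit 69640) [nat_lit 168, nat_lit 182, nat_lit 42, nat_lit 168, nat_lit 56, nat_lit 126]) (.leaf (nat_lit 36874) [nat_lit 154, nat_lit 182, nat_lit 42, nat_lit 154, nat_lit 56, nat_lit 98, nat_lit 112])) (.node (nat_lit 8) r28 r29))))
noncomputable def r30 : WT := (.node (nat_lit 6) (.leaf (nat_lit 36876) [nat_lit 182, nat_lit 42, nat_lit 154, nat_lit 56, nat_lit 98, nat_lit 112, nat_lit 140]) (.leaf (nat_lit 7168) [nat_lit 154]))
noncomputable def r31 : WT := (.node (nat_lit 8) (.leaf (nat_lit 51214) [nat_lit 42, nat_lit 42, nat_lit 70, nat_lit 42, nat_lit 42, nat_lit 70, nat_lit 98]) (.node (nat_lit 9) (.leaf (nat_lit 70668) [nat_lit 168, nat_lit 42, nat_lit 182, nat_lit 56, nat_lit 98, nat_lit 126, nat_lit 140]) (.leaf (nat_lit 37898) [nat_lit 168, nat_lit 182, nat_lit 196, nat_lit 42, nat_lit 196, nat_lit 56, nat_lit 112, nat_lit 126])))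
noncomputable def w9 : WT := (.node (nat_lit 2) (.node (nat_lit 1) (.leaf (nat_lit 40966) [nat_lit 70, nat_lit 126, nat_lit 84]) (.leaf (nat_lit 36866) [nat_lit 56, nat_lit 98, nat_lit 112, nat_lit 140, nat_lit 154, nat_lit 182, nat_lit 42])) (.node (nat_lit 4) (.node (nat_lit 3) (.leaf (nat_lit 66562) [nat_lit 28, nat_lit 112, nat_lit 126, nat_lit 140, nat_lit 168, nat_lit 28]) (.leaf (nat_lit 43010) [nat_lit 84, nat_lit 168, nat_lit 70])) (.node (nat_lit 5) (.leaf (nat_lit 51201) [nat_lit 98, nat_lit 84, nat_lit 56, nat_lit 56, nat_lit 84, nat_lit 56, nat_lit 56]) (.node (nat_lit 7) r30 r31))))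
noncomputable def r32 : WT := (.node (nat_lit 8) (.leaf (nat_lit 67586) [nat_lit 28, nat_lit 98, nat_lit 112, nat_lit 126, nat_lit 140, nat_lit 154, nat_lit 28]) (.leaf (nat_lit 18434) [nat_lit 154, nat_lit 168, nat_lit 154]))
noncomputable def r33 : WT := (.node (nat_lit 10) (.leaf (nat_lit 70657) [nat_lit 154, nat_lit 140, nat_lit 126, nat_lit 98, nat_lit 42, nat_lit 182, nat_lit 56]) (.leaf (nat_lit 71694) [nat_lit 42, nat_lit 42, nat_lit 42, nat_lit 42, nat_lit 98, nat_lit 126, nat_lit 154]))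
noncomputable def w10 : WT := (.node (nat_lit 3) (.node (nat_lit 1) (.leaf (nat_lit 43014) [nat_lit 70, nat_lit 154, nat_lit 84]) (.node (nat_lit 2) (.leaf (nat_lit 44034) [nat_lit 84, nat_lit 126, nat_lit 70]) (.leaf (nat_lit 69634) [nat_lit 56, nat_lit 126, nat_lit 140, nat_lit 168, nat_lit 182, nat_lit 42]))) (.node (nat_lit 5) (.node (nat_lit 4) (.leaf (nat_lit 66572) [nat_lit 28, nat_lit 154, nat_lit 28, nat_lit 112, nat_lit 126, nat_lit 140]) (.leaf (nat_lit 70670) [nat_lit 42, nat_lit 182, nat_lit 56, nat_lit 98, nat_lit 126, nat_lit 140, nat_lit 154])) (.node (nat_lit 7) (.node (nat_lit 6) (.leaf (nat_lit 71681) [nat_lit 154, nat_lit 126, nat_lit 98, nat_lit 56, nat_lit 56, nat_lit 56, nat_lit 56]) (.leaf (nat_lit 69642) [nat_lit 182, nat_lit 42, nat_lit 168, nat_lit 56, nat_lit 126, nat_lit 140])) (.node (nat_lit 9) r32 r33))))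
noncomputable def r34 : WT := (.node (nat_lit 6) (.leaf (nat_lit 62466) [nat_lit 154, nat_lit 182, nat_lit 154]) (.leaf (nat_lit 36878) [nat_lit 42, nat_lit 154, nat_lit 56, nat_lit 98, nat_lit 112, nat_lit 140, nat_lit 154]))
noncomputable def w11 : WT := (.node (nat_lit 2) (.node (nat_lit 1) (.leaf (nat_lit 35846) [nat_lit 42, nat_lit 140, nat_lit 56]) (.leaf (nat_lit 45064) [nat_lit 70, nat_lit 182, nat_lit 84, nat_lit 112])) (.node (nat_lit 3) (.leaf (nat_lit 45058) [nat_lit 84, nat_lit 112, nat_lit 182, nat_lit 70]) (.node (nat_lit 4) (.leaf (nat_lit 31746) [nat_lit 28, nat_lit 196, nat_lit 28]) (.node (nat_lit 5) (.leaf (nat_lit 70658) [nat_lit 56, nat_lit 98, nat_lit 126, nat_lit 140, nat_lit 154, nat_lit 168, nat_lit 42]) r34))))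
noncomputable def w12 : WT := (.node (nat_lit 2) (.node (nat_lit 1) (.leaf (nat_lit 31750) [nat_lit 28, nat_lit 182, nat_lit 28]) (.leaf (nat_lit 46082) [nat_lit 84, nat_lit 98, nat_lit 196, nat_lit 70])) (.node (nat_lit 3) (.leaf (nat_lit 46088) [nat_lit 70, nat_lit 196, nat_lit 84, nat_lit 98]) (.node (nat_lit 4) (.leaf (nat_lit 37890) [nat_lit 56, nat_lit 112, nat_lit 126, nat_lit 154, nat_lit 168, nat_lit 182, nat_lit 196, nat_lit 42]) (.node (nat_lit 5) (.leaf (nat_lit 37904) [nat_lit 42, nat_lit 196, nat_lit 56, nat_lit 112, nat_lit 126, nat_lit 154, nat_lit 168, nat_lit 182]) (.leaf (nat_lit 37889) [nat_lit 182, nat_lit 168, nat_lit 154, nat_lit 126, nat_lit 112, nat_lit 42, nat_lit 196, nat_lit 56])))))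
noncomputable def wP : WT := (.node (nat_lit 1) (.leaf (nat_lit 50183) [nat_lit 84, nat_lit 28, nat_lit 112, nat_lit 84, nat_lit 28]) (.node (nat_lit 2) (.leaf (nat_lit 69632) [nat_lit 42, nat_lit 168, nat_lit 56, nat_lit 126, nat_lit 140, nat_lit 168, nat_lit 182]) (.leaf (nat_lit 71691) [nat_lit 56, nat_lit 56, nat_lit 56, nat_lit 168, nat_lit 154, nat_lit 126, nat_lit 98, nat_lit 56])))
noncomputable def P : Par := ⟨tb, nat_lit 210, nat_lit 0x3ffffffffffffffffffffffffffffffffffffffffffffffffffff, nat_lit 65, nat_lit 16383, nat_lit 127, nat_lit 14, nat_lit 7, nat_lit 60,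
  [nat_lit 28, nat_lit 42, nat_lit 56, nat_lit 70, nat_lit 84, nat_lit 98, nat_lit 112, nat_lit 126, nat_lit 140, nat_lit 154, nat_lit 168, nat_lit 182, nat_lit 196], [nat_lit 28, nat_lit 42, nat_lit 98, nat_lit 112, nat_lit 126, nat_lit 140, nat_lit 154, nat_lit 168, nat_lit 182, nat_lit 196], wP,
  (.cons (nat_lit 28) w0 (.cons (nat_lit 42) w1 (.cons (nat_lit 56) w2 (.cons (nat_lit 70) w3 (.cons (nat_lit 84) w4 (.cons (nat_lit 98) w5 (.cons (nat_lit 112) w6 (.cons (nat_lit 126) w7 (.cons (nat_lit 140) w8 (.cons (nat_lit 154) w9 (.cons (nat_lit 168) w10 (.cons (nat_lit 182) w11 (.cons (nat_lit 196) w12 .nil))))))))))))),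
  .nil⟩

end Cfsg.Agent.Lib.TCHE3
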