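import Cfsg.Agent.Lib.TCHN1D0

set_option autoImplicit false
set_option maxRecDepth 100000

namespace Cfsg.Agent.Lib.TCHN1
open Cfsg.Agent.Lib.TCCore

noncomputable def n0 : T := (.node (nat_lit 456) (.node (nat_lit 228) (.node (nat_lit 114) l0 l1) (.node (nat_lit 342) l2 l3)) (.node (nat_lit 684) (.node (nat_lit 570) l4 l5) (.node (nat_lit 798) l6 l7)))
noncomputable def n1 : T := (.node (nat_lit 1368) (.node (nat_lit 1140) (.node (nat_lit 1026) l8 l9) (.node (nat_lit 1254) l10 l11)) (.node (nat_lit 1596) (.node (nat_lit 1482) l12 l13) (.node (nat_lit 1710) l14 (.node (nat_lit 1824) l15 l16))))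
noncomputable def n2 : T := (.node (nat_lit 2394) (.node (nat_lit 2166) (.node (nat_lit 2052) l17 l18) (.node (nat_lit 2280) l19 l20)) (.node (nat_lit 2622) (.node (nat_lit 2508) l21 l22) (.node (nat_lit 2736) l23 l24)))
noncomputable def n3 : T := (.node (nat_lit 3306) (.node (nat_lit 3078) (.node (nat_lit 2964) l25 l26) (.node (nat_lit 3192) l27 l28)) (.node (nat_lit 3534) (.node (nat_lit 3420) l29 l30) (.node (nat_lit 3648) l31 (.node (nat_lit 3762) l32 l33))))
noncomputable def n4 : T := (.node (nat_lit 4332) (.node (nat_lit 4104) (.node (nat_lit 3990) l34 l35) (.node (nat_lit 4218) l36 l37)) (.node (nat_lit 4560) (.node (nat_lit 4446) l38 l39) (.node (nat_lit 4674) l40 l41)))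
noncomputable def n5 : T := (.node (nat_lit 5244) (.node (nat_lit 5016) (.node (nat_lit 4902) l42 l43) (.node (nat_lit 5130) l44 l45)) (.node (nat_lit 5472) (.node (nat_lit 5358) l46 l47) (.node (nat_lit 5586) l48 (.node (nat_lit 5700) l49 l50))))
noncomputable def n6 : T := (.node (nat_lit 6270) (.node (nat_lit 6042) (.node (nat_lit 5928) l51 l52) (.node (nat_lit 6156) l53 l54)) (.node (nat_lit 6498) (.node (nat_lit 6384) l55 l56) (.node (nat_lit 6612) l57 l58)))
noncomputable def n7 : T := (.node (nat_lit 7182) (.node (nat_lit 6954) (.node (nat_lit 6840) l59 l60) (.node (nat_lit 7068) l61 l62)) (.node (nat_lit 7410) (.node (nat_lit 7296) l63 l64) (.node (nat_lit 7524) l65 (.node (nat_lit 7638) l66 l67))))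
noncomputable def n8 : T := (.node (nat_lit 8208) (.node (nat_lit 7980) (.node (nat_lit 7866) l68 l69) (.node (nat_lit 8094) l70 l71)) (.node (nat_lit 8436) (.node (nat_lit 8322) l72 l73) (.node (nat_lit 8550) l74 l75)))
noncomputable def n9 : T := (.node (nat_lit 9120) (.node (nat_lit 8892) (.node (nat_lit 8778) l76 l77) (.node (nat_lit 9006) l78 l79)) (.node (nat_lit 9348) (.node (nat_lit 9234) l80 l81) (.node (nat_lit 9462) l82 (.node (nat_lit 9576) l83 l84))))
noncomputable def n10 : T := (.node (nat_lit 10146) (.node (nat_lit 9918) (.node (nat_lit 9804) l85 l86) (.node (nat_lit 10032) l87 l88)) (.node (nat_lit 10374) (.node (nat_lit 10260) l89 l90) (.node (nat_lit 10488) l91 l92)))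
noncomputable def n11 : T := (.node (nat_lit 11058) (.node (nat_lit 10830) (.node (nat_lit 10716) l93 l94) (.node (nat_lit 10944) l95 l96)) (.node (nat_lit 11286) (.node (nat_lit 11172) l97 l98) (.node (nat_lit 11400) l99 (.node (nat_lit 11514) l100 l101))))
noncomputable def n12 : T := (.node (nat_lit 12084) (.node (nat_lit 11856) (.node (nat_lit 11742) l102 l103) (.node (nat_lit 11970) l104 l105)) (.node (nat_lit 12312) (.node (nat_lit 12198) l106 l107) (.node (nat_lit 12426) l108 l109)))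
noncomputable def n13 : T := (.node (nat_lit 12996) (.node (nat_lit 12768) (.node (nat_lit 12654) l110 l111) (.node (nat_lit 12882) l112 l113)) (.node (nat_lit 13224) (.node (nat_lit 13110) l114 l115) (.node (nat_lit 13338) l116 (.node (nat_lit 13452) l117 l118))))
noncomputable def n14 : T := (.node (nat_lit 14022) (.node (nat_lit 13794) (.node (nat_lit 13680) l119 l120) (.node (nat_lit 13908) l121 l122)) (.node (nat_lit 14250) (.node (nat_lit 14136) l123 l124) (.node (nat_lit 14364) l125 (.node (nat_lit 14478) l126 l127))))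
noncomputable def n15 : T := (.node (nat_lit 15048) (.node (nat_lit 14820) (.node (nat_lit 14706) l128 l129) (.node (nat_lit 14934) l130 l131)) (.node (nat_lit 15276) (.node (nat_lit 15162) l132 l133) (.node (nat_lit 15390) l134 (.node (nat_lit 15504) l135 l136))))
noncomputable def n16 : T := (.node (nat_lit 16074) (.node (nat_lit 15846) (.node (nat_lit 15732) l137 l138) (.node (nat_lit 15960) l139 l140)) (.node (nat_lit 16302) (.node (nat_lit 16188) l141 l142) (.node (nat_lit 16416) l143 l144)))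
noncomputable def n17 : T := (.node (nat_lit 16986) (.node (nat_lit 16758) (.node (nat_lit 16644) l145 l146) (.node (nat_lit 16872) l147 l148)) (.node (nat_lit 17214) (.node (nat_lit 17100) l149 l150) (.node (nat_lit 17328) l151 (.node (nat_lit 17442) l152 l153))))
noncomputable def n18 : T := (.node (nat_lit 18012) (.node (nat_lit 17784) (.node (nat_lit 17670) l154 l155) (.node (nat_lit 17898) l156 l157)) (.node (nat_lit 18240) (.node (nat_lit 18126) l158 l159) (.node (nat_lit 18354) l160 l161)))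
noncomputable def n19 : T := (.node (nat_lit 18924) (.node (nat_lit 18696) (.node (nat_lit 18582) l162 l163) (.node (nat_lit 18810) l164 l165)) (.node (nat_lit 19152) (.node (nat_lit 19038) l166 l167) (.node (nat_lit 19266) l168 (.node (nat_lit 19380) l169 l170))))
noncomputable def n20 : T := (.node (nat_lit 19950) (.node (nat_lit 19722) (.node (nat_lit 19608) l171 l172) (.node (nat_lit 19836) l173 l174)) (.node (nat_lit 20178) (.node (nat_lit 20064) l175 l176) (.node (nat_lit 20292) l177 l178)))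
noncomputable def n21 : T := (.node (nat_lit 20862) (.node (nat_lit 20634) (.node (nat_lit 20520) l179 l180) (.node (nat_lit 20748) l181 l182)) (.node (nat_lit 21090) (.node (nat_lit 20976) l183 l184) (.node (nat_lit 21204) l185 (.node (nat_lit 21318) l186 l187))))
noncomputable def n22 : T := (.node (nat_lit 21888) (.node (nat_lit 21660) (.node (nat_lit 21546) l188 l189) (.node (nat_lit 21774) l190 l191)) (.node (nat_lit 22116) (.node (nat_lit 22002) l192 l193) (.node (nat_lit 22230) l194 (.node (nat_lit 22344) l195 l196))))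
noncomputable def n23 : T := (.node (nat_lit 22914) (.node (nat_lit 22686) (.node (nat_lit 22572) l197 l198) (.node (nat_lit 22800) l199 l200)) (.node (nat_lit 23142) (.node (nat_lit 23028) l201 l202) (.node (nat_lit 23256) l203 (.node (nat_lit 23370) l204 l205))))
noncomputable def n24 : T := (.node (nat_lit 23940) (.node (nat_lit 23712) (.node (nat_lit 23598) l206 l207) (.node (nat_lit 23826) l208 l209)) (.node (nat_lit 24168) (.node (nat_lit 24054) l210 l211) (.node (nat_lit 24282) l212 l213)))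
noncomputable def n25 : T := (.node (nat_lit 24852) (.node (nat_lit 24624) (.node (nat_lit 24510) l214 l215) (.node (nat_lit 24738) l216 l217)) (.node (nat_lit 25080) (.node (nat_lit 24966) l218 l219) (.node (nat_lit 25194) l220 (.node (nat_lit 25308) l221 l222))))
noncomputable def n26 : T := (.node (nat_lit 25878) (.node (nat_lit 25650) (.node (nat_lit 25536) l223 l224) (.node (nat_lit 25764) l225 l226)) (.node (nat_lit 26106) (.node (nat_lit 25992) l227 l228) (.node (nat_lit 26220) l229 l230)))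
noncomputable def n27 : T := (.node (nat_lit 26790) (.node (nat_lit 26562) (.node (nat_lit 26448) l231 l232) (.node (nat_lit 26676) l233 l234)) (.node (nat_lit 27018) (.node (nat_lit 26904) l235 l236) (.node (nat_lit 27132) l237 (.node (nat_lit 27246) l238 l239))))
noncomputable def n28 : T := (.node (nat_lit 27816) (.node (nat_lit 27588) (.node (nat_lit 27474) l240 l241) (.node (nat_lit 27702) l242 l243)) (.node (nat_lit 28044) (.node (nat_lit 27930) l244 l245) (.node (nat_lit 28158) l246 l247)))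
noncomputable def n29 : T := (.node (nat_lit 28728) (.node (nat_lit 28500) (.node (nat_lit 28386) l248 l249) (.node (nat_lit 28614) l250 l251)) (.node (nat_lit 28956) (.node (nat_lit 28842) l252 l253) (.node (nat_lit 29070) l254 (.node (nat_lit 29184) l255 l256))))
noncomputable def n30 : T := (.node (nat_lit 29754) (.node (nat_lit 29526) (.node (nat_lit 29412) l257 l258) (.node (nat_lit 29640) l259 l260)) (.node (nat_lit 29982) (.node (nat_lit 29868) l261 l262) (.node (nat_lit 30096) l263 (.node (nat_lit 30210) l264 l265))))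
noncomputable def n31 : T := (.node (nat_lit 30780) (.node (nat_lit 30552) (.node (nat_lit 30438) l266 l267) (.node (nat_lit 30666) l268 l269)) (.node (nat_lit 31008) (.node (nat_lit 30894) l270 l271) (.node (nat_lit 31122) l272 (.node (nat_lit 31236) l273 l274))))
noncomputable def tb : T := (.node (nat_lit 15618) (.node (nat_lit 7752) (.node (nat_lit 3876) (.node (nat_lit 1938) (.node (nat_lit 912) n0 n1) (.node (nat_lit 2850) n2 n3)) (.node (nat_lit 5814) (.node (nat_lit 4788) n4 n5) (.node (nat_lit 6726) n6 n7))) (.node (nat_lit 11628) (.node (nat_lit 9690) (.node (nat_lit 8664) n8 n9) (.node (nat_lit 10602) n10 n11)) (.node (nat_lit 13566) (.node (nat_lit 12540) n12 n13) (.node (nat_lit 14592) n14 n15)))) (.node (nat_lit 23484) (.node (nat_lit 19494) (.node (nat_lit 17556) (.node (nat_lit 16530) n16 n17) (.node (nat_lit 18468) n18 n19)) (.node (nat_lit 21432) (.node (nat_lit 20406) n20 n21) (.node (nat_lit 22458) n22 n23))) (.node (nat_lit 27360)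 (.node (nat_lit 25422) (.node (nat_lit 24396) n24 n25) (.node (nat_lit 26334) n26 n27)) (.node (nat_lit 29298) (.node (nat_lit 28272) n28 n29) (.node (nat_lit 30324) n30 n31)))))
noncomputable def r0 : WT := (.leaf (nat_lit 7168) [nat_lit 96, nat_lit 48, nat_lit 96, nat_lit 48, nat_lit 96, nat_lit 48, nat_lit 96, nat_lit 48, nat_lit 96, nat_lit 48, nat_lit 96, nat_lit 48, nat_lit 96, nat_lit 48, nat_lit 96])
noncomputable def r1 : WT := (.node (nat_lit 4) (.leaf (nat_lit 4098) [nat_lit 96, nat_lit 48, nat_lit 48, nat_lit 120, nat_lit 48]) r0)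
noncomputable def r2 : WT := (.leaf (nat_lit 8192) [nat_lit 96, nat_lit 48, nat_lit 96, nat_lit 96, nat_lit 96, nat_lit 48, nat_lit 96, nat_lit 48, nat_lit 96, nat_lit 96, nat_lit 96, nat_lit 48, nat_lit 96, nat_lit 48, nat_lit 96, nat_lit 96, nat_lit 96, nat_lit 48, nat_lit 96, nat_lit 48, nat_lit 96, nat_lit 96, nat_lit 96])
noncomputable def r3 : WT := (.node (nat_lit 6) r2 (.node (nat_lit 7) (.leaf (nat_lit 5124) [nat_lit 96, nat_lit 72, nat_lit 120, nat_lit 48, nat_lit 96, nat_lit 72, nat_lit 120, nat_lit 48, nat_lit 96, nat_lit 72, nat_lit 120]) (.leaf (nat_lit 4102) [nat_lit 48, nat_lit 120, nat_lit 48, nat_lit 48, nat_lit 96])))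
noncomputable def r4 : WT := (.leaf (nat_lit 6150) [nat_lit 96, nat_lit 96, nat_lit 96, nat_lit 72, nat_lit 96, nat_lit 96, nat_lit 48, nat_lit 96, nat_lit 96, nat_lit 96, nat_lit 72, nat_lit 96, nat_lit 96, nat_lit 48, nat_lit 96, nat_lit 96, nat_lit 96, nat_lit 72, nat_lit 96, nat_lit 96])
noncomputable def r5 : WT := (.leaf (nat_lit 10266) [nat_lit 96, nat_lit 96, nat_lit 48, nat_lit 120, nat_lit 72, nat_lit 72, nat_lit 144, nat_lit 96, nat_lit 72, nat_lit 120, nat_lit 120, nat_lit 72, nat_lit 120, nat_lit 72, nat_lit 120, nat_lit 144, nat_lit 96, nat_lit 48, nat_lit 96])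
noncomputable def r6 : WT := (.leaf (nat_lit 11360) [nat_lit 144, nat_lit 120, nat_lit 72, nat_lit 120, nat_lit 72, nat_lit 120, nat_lit 120, nat_lit 120, nat_lit 144, nat_lit 96, nat_lit 96, nat_lit 96, nat_lit 48, nat_lit 96, nat_lit 48, nat_lit 96, nat_lit 48, nat_lit 120, nat_lit 72, nat_lit 120, nat_lit 72, nat_lit 120, nat_lit 120, nat_lit 120, nat_lit 144, nat_lit 96, nat_lit 96, nat_lit 96, nat_lit 48, nat_lit 96, nat_lit 48, nat_lit 96, nat_lit 48, nat_lit 120, nat_lit 72, nat_lit 120, nat_lit 72, nat_lit 120, nat_lit 120, nat_lit 120, nat_lit 144, nat_lit 96, nat_lit 96, nat_lit 96, nat_lit 48, nat_lit 96, nat_lit 48, nat_lit 96])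
noncomputable def r7 : WT := (.leaf (nat_lit 10262) [nat_lit 96, nat_lit 48, nat_lit 96, nat_lit 96, nat_lit 48, nat_lit 120, nat_lit 72, nat_lit 72, nat_lit 144, nat_lit 96, nat_lit 72, nat_lit 120, nat_lit 120, nat_lit 72, nat_lit 120, nat_lit 72, nat_lit 120, nat_lit 144, nat_lit 96])
noncomputable def r8 : WT := (.leaf (nat_lit 8196) [nat_lit 96, nat_lit 96, nat_lit 96, nat_lit 48, nat_lit 96, nat_lit 48, nat_lit 96, nat_lit 96, nat_lit 96, nat_lit 48, nat_lit 96, nat_lit 48, nat_lit 96, nat_lit 96, nat_lit 96, nat_lit 48, nat_lit 96, nat_lit 48, nat_lit 96, nat_lit 96, nat_lit 96, nat_lit 48, nat_lit 96])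
noncomputable def r9 : WT := (.leaf (nat_lit 11352) [nat_lit 96, nat_lit 48, nat_lit 96, nat_lit 48, nat_lit 144, nat_lit 120, nat_lit 72, nat_lit 120, nat_lit 72, nat_lit 120, nat_lit 120, nat_lit 120, nat_lit 144, nat_lit 96, nat_lit 96, nat_lit 96, nat_lit 48, nat_lit 96, nat_lit 48, nat_lit 96, nat_lit 48, nat_lit 120, nat_lit 72, nat_lit 120, nat_lit 72, nat_lit 120, nat_lit 120, nat_lit 120, nat_lit 144, nat_lit 96, nat_lit 96, nat_lit 96, nat_lit 48, nat_lit 96, nat_lit 48, nat_lit 96, nat_lit 48, nat_lit 120, nat_lit 72, nat_lit 120, nat_lit 72, nat_lit 120, nat_lit 120, nat_lit 120, nat_lit 144, nat_lit 96, nat_lit 96, nat_lit 96])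
noncomputable def r10 : WT := (.leaf (nat_lit 10272) [nat_lit 120, nat_lit 72, nat_lit 72, nat_lit 144, nat_lit 96, nat_lit 72, nat_lit 120, nat_lit 120, nat_lit 72, nat_lit 120, nat_lit 72, nat_lit 120, nat_lit 144, nat_lit 96, nat_lit 48, nat_lit 96, nat_lit 48, nat_lit 96, nat_lit 96])
noncomputable def r11 : WT := (.leaf (nat_lit 11328) [nat_lit 120, nat_lit 72, nat_lit 120, nat_lit 72, nat_lit 120, nat_lit 120, nat_lit 120, nat_lit 144, nat_lit 96, nat_lit 96, nat_lit 96, nat_lit 48, nat_lit 96, nat_lit 48, nat_lit 96, nat_lit 48, nat_lit 144, nat_lit 120, nat_lit 72, nat_lit 120, nat_lit 72, nat_lit 120, nat_lit 120, nat_lit 120, nat_lit 144, nat_lit 96, nat_lit 96, nat_lit 96, nat_lit 48, nat_lit 96, nat_lit 48, nat_lit 96, nat_lit 48, nat_lit 120, nat_lit 72, nat_lit 120, nat_lit 72, nat_lit 120, nat_lit 120, nat_lit 120, nat_lit 144, nat_lit 96, nat_lit 96, nat_lit 96, nat_lit 48, nat_lit 96, nat_lit 48, nat_lit 96])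
noncomputable def r12 : WT := (.leaf (nat_lit 6157) [nat_lit 120, nat_lit 120, nat_lit 120, nat_lit 72, nat_lit 120, nat_lit 120, nat_lit 48, nat_lit 120, nat_lit 120, nat_lit 120, nat_lit 72, nat_lit 120, nat_lit 120, nat_lit 48, nat_lit 120, nat_lit 120, nat_lit 120, nat_lit 72, nat_lit 120, nat_lit 120])
noncomputable def r13 : WT := (.node (nat_lit 16) r9 (.node (nat_lit 17) r10 (.node (nat_lit 18) r11 r12)))
noncomputable def r14 : WT := (.node (nat_lit 11) (.node (nat_lit 9) r4 (.node (nat_lit 10) (.leaf (nat_lit 5127) [nat_lit 120, nat_lit 72, nat_lit 96, nat_lit 48, nat_lit 120, nat_lit 72, nat_lit 96, nat_lit 48, nat_lit 120, nat_lit 72, nat_lit 96]) r5)) (.node (nat_lit 13) (.node (nat_lit 12) r6 r7) (.node (nat_lit 14) r8 (.node (nat_lit 15) (.leaf (nat_lit 9218) [nat_lit 144, nat_lit 48, nat_lit 144]) r13))))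
noncomputable def w0 : WT := (.node (nat_lit 1) (.leaf (nat_lit 0) [nat_lit 72]) (.node (nat_lit 2) (.leaf (nat_lit 4096) [nat_lit 48, nat_lit 96, nat_lit 48, nat_lit 48, nat_lit 120]) (.node (nat_lit 5) (.node (nat_lit 3) (.leaf (nat_lit 4104) [nat_lit 120, nat_lit 48, nat_lit 48, nat_lit 96, nat_lit 48]) r1) (.node (nat_lit 8) r3 r14))))
noncomputable def r15 : WT := (.leaf (nat_lit 6144) [nat_lit 96, nat_lit 96, nat_lit 48, nat_lit 96, nat_lit 96, nat_lit 96, nat_lit 72, nat_lit 96, nat_lit 96, nat_lit 48, nat_lit 96, nat_lit 96, nat_lit 96, nat_lit 72, nat_lit 96, nat_lit 96, nat_lit 48, nat_lit 96, nat_lit 96, nat_lit 96])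
noncomputable def r16 : WT := (.leaf (nat_lit 11297) [nat_lit 120, nat_lit 72, nat_lit 120, nat_lit 72, nat_lit 120, nat_lit 120, nat_lit 120, nat_lit 144, nat_lit 96, nat_lit 96, nat_lit 96, nat_lit 48, nat_lit 96, nat_lit 48, nat_lit 96, nat_lit 72, nat_lit 120, nat_lit 72, nat_lit 120, nat_lit 72, nat_lit 120, nat_lit 120, nat_lit 120, nat_lit 144, nat_lit 96, nat_lit 96, nat_lit 96, nat_lit 48, nat_lit 96, nat_lit 48, nat_lit 96, nat_lit 144, nat_lit 72, nat_lit 120, nat_lit 72, nat_lit 120, nat_lit 72, nat_lit 120, nat_lit 120, nat_lit 120, nat_lit 144, nat_lit 96, nat_lit 96, nat_lit 96, nat_lit 48, nat_lit 96, nat_lit 48, nat_lit 96])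
noncomputable def r17 : WT := (.node (nat_lit 6) (.leaf (nat_lit 5120) [nat_lit 120, nat_lit 48, nat_lit 96, nat_lit 72, nat_lit 120, nat_lit 48, nat_lit 96, nat_lit 72, nat_lit 120, nat_lit 48, nat_lit 96]) (.node (nat_lit 7) r15 r16))
noncomputable def r18 : WT := (.leaf (nat_lit 11329) [nat_lit 120, nat_lit 72, nat_lit 120, nat_lit 72, nat_lit 120, nat_lit 120, nat_lit 120, nat_lit 144, nat_lit 96, nat_lit 96, nat_lit 96, nat_lit 48, nat_lit 96, nat_lit 48, nat_lit 96, nat_lit 144, nat_lit 72, nat_lit 120, nat_lit 72, nat_lit 120, nat_lit 72, nat_lit 120, nat_lit 120, nat_lit 120, nat_lit 144, nat_lit 96, nat_lit 96, nat_lit 96, nat_lit 48, nat_lit 96, nat_lit 48, nat_lit 96, nat_lit 72, nat_lit 120, nat_lit 72, nat_lit 120, nat_lit 72, nat_lit 120, nat_lit 120, nat_lit 120, nat_lit 144, nat_lit 96, nat_lit 96, nat_lit 96, nat_lit 48, nat_lit 96, nat_lit 48, nat_lit 96])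
noncomputable def r19 : WT := (.leaf (nat_lit 10254) [nat_lit 120, nat_lit 144, nat_lit 96, nat_lit 48, nat_lit 96, nat_lit 48, nat_lit 96, nat_lit 96, nat_lit 48, nat_lit 120, nat_lit 72, nat_lit 72, nat_lit 144, nat_lit 96, nat_lit 72, nat_lit 120, nat_lit 120, nat_lit 72, nat_lit 120])
noncomputable def r20 : WT := (.leaf (nat_lit 10244) [nat_lit 120, nat_lit 120, nat_lit 72, nat_lit 120, nat_lit 72, nat_lit 120, nat_lit 144, nat_lit 96, nat_lit 48, nat_lit 96, nat_lit 48, nat_lit 96, nat_lit 96, nat_lit 48, nat_lit 120, nat_lit 72, nat_lit 72, nat_lit 144, nat_lit 96])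
noncomputable def r21 : WT := (.leaf (nat_lit 7171) [nat_lit 120, nat_lit 72, nat_lit 120, nat_lit 72, nat_lit 120, nat_lit 72, nat_lit 120, nat_lit 72, nat_lit 120, nat_lit 72, nat_lit 120, nat_lit 72, nat_lit 120, nat_lit 72, nat_lit 120])
noncomputable def r22 : WT := (.node (nat_lit 13) r20 r21)
noncomputable def r23 : WT := (.leaf (nat_lit 11265) [nat_lit 120, nat_lit 72, nat_lit 120, nat_lit 72, nat_lit 120, nat_lit 120, nat_lit 120, nat_lit 144, nat_lit 96, nat_lit 96, nat_lit 96, nat_lit 48, nat_lit 96, nat_lit 48, nat_lit 96, nat_lit 72, nat_lit 120, nat_lit 72, nat_lit 120, nat_lit 72, nat_lit 120, nat_lit 120, nat_lit 120, nat_lit 144, nat_lit 96, nat_lit 96, nat_lit 96, nat_lit 48, nat_lit 96, nat_lit 48, nat_lit 96, nat_lit 72, nat_lit 120, nat_lit 72, nat_lit 120, nat_lit 72, nat_lit 120, nat_lit 120, nat_lit 120, nat_lit 144, nat_lit 96, nat_lit 96, nat_lit 96, nat_lit 48, nat_lit 96, nat_lit 48, nat_lit 96, nat_lit 144])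
noncomputable def r24 : WT := (.leaf (nat_lit 6151) [nat_lit 120, nat_lit 120, nat_lit 48, nat_lit 120, nat_lit 120, nat_lit 120, nat_lit 72, nat_lit 120, nat_lit 120, nat_lit 48, nat_lit 120, nat_lit 120, nat_lit 120, nat_lit 72, nat_lit 120, nat_lit 120, nat_lit 48, nat_lit 120, nat_lit 120, nat_lit 120])
noncomputable def r25 : WT := (.leaf (nat_lit 11268) [nat_lit 120, nat_lit 72, nat_lit 120, nat_lit 120, nat_lit 120, nat_lit 144, nat_lit 96, nat_lit 96, nat_lit 96, nat_lit 48, nat_lit 96, nat_lit 48, nat_lit 96, nat_lit 48, nat_lit 120, nat_lit 72, nat_lit 120, nat_lit 72, nat_lit 120, nat_lit 120, nat_lit 120, nat_lit 144, nat_lit 96, nat_lit 96, nat_lit 96, nat_lit 48, nat_lit 96, nat_lit 48, nat_lit 96, nat_lit 48, nat_lit 120, nat_lit 72, nat_lit 120, nat_lit 72, nat_lit 120, nat_lit 120, nat_lit 120, nat_lit 144, nat_lit 96, nat_lit 96, nat_lit 96, nat_lit 48, nat_lit 96, nat_lit 48, nat_lit 96, nat_lit 48, nat_lit 144, nat_lit 120])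
noncomputable def r26 : WT := (.node (nat_lit 16) (.node (nat_lit 15) r23 r24) (.node (nat_lit 17) r25 (.leaf (nat_lit 12289) [nat_lit 72, nat_lit 72, nat_lit 72])))
noncomputable def r27 : WT := (.node (nat_lit 10) (.node (nat_lit 9) r18 (.leaf (nat_lit 4105) [nat_lit 72, nat_lit 96, nat_lit 72, nat_lit 72, nat_lit 120])) (.node (nat_lit 11) (.leaf (nat_lit 5123) [nat_lit 96, nat_lit 48, nat_lit 120, nat_lit 72, nat_lit 96, nat_lit 48, nat_lit 120, nat_lit 72, nat_lit 96, nat_lit 48, nat_lit 120]) (.node (nat_lit 12) r19 (.node (nat_lit 14) r22 r26))))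
noncomputable def w1 : WT := (.node (nat_lit 1) (.leaf (nat_lit 2) [nat_lit 48]) (.node (nat_lit 3) (.node (nat_lit 2) (.leaf (nat_lit 4107) [nat_lit 96, nat_lit 72, nat_lit 72, nat_lit 120, nat_lit 72]) (.leaf (nat_lit 4099) [nat_lit 72, nat_lit 120, nat_lit 72, nat_lit 72, nat_lit 96])) (.node (nat_lit 5) (.node (nat_lit 4) (.leaf (nat_lit 9217) [nat_lit 144, nat_lit 72, nat_lit 144]) (.leaf (nat_lit 4101) [nat_lit 120, nat_lit 72, nat_lit 72, nat_lit 96, nat_lit 72])) (.node (nat_lit 8) r17 r27))))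
noncomputable def r28 : WT := (.leaf (nat_lit 11348) [nat_lit 96, nat_lit 48, nat_lit 96, nat_lit 48, nat_lit 96, nat_lit 48, nat_lit 144, nat_lit 120, nat_lit 72, nat_lit 120, nat_lit 72, nat_lit 120, nat_lit 120, nat_lit 120, nat_lit 144, nat_lit 96, nat_lit 96, nat_lit 96, nat_lit 48, nat_lit 96, nat_lit 48, nat_lit 96, nat_lit 48, nat_lit 120, nat_lit 72, nat_lit 120, nat_lit 72, nat_lit 120, nat_lit 120, nat_lit 120, nat_lit 144, nat_lit 96, nat_lit 96, nat_lit 96, nat_lit 48, nat_lit 96, nat_lit 48, nat_lit 96, nat_lit 48, nat_lit 120, nat_lit 72, nat_lit 120, nat_lit 72, nat_lit 120, nat_lit 120, nat_lit 120, nat_lit 144, nat_lit 96])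
noncomputable def r29 : WT := (.leaf (nat_lit 6148) [nat_lit 48, nat_lit 96, nat_lit 96, nat_lit 96, nat_lit 72, nat_lit 96, nat_lit 96, nat_lit 48, nat_lit 96, nat_lit 96, nat_lit 96, nat_lit 72, nat_lit 96, nat_lit 96, nat_lit 48, nat_lit 96, nat_lit 96, nat_lit 96, nat_lit 72, nat_lit 96])
noncomputable def r30 : WT := (.leaf (nat_lit 10270) [nat_lit 48, nat_lit 120, nat_lit 72, nat_lit 72, nat_lit 144, nat_lit 96, nat_lit 72, nat_lit 120, nat_lit 120, nat_lit 72, nat_lit 120, nat_lit 72, nat_lit 120, nat_lit 144, nat_lit 96, nat_lit 48, nat_lit 96, nat_lit 48, nat_lit 96])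
noncomputable def r31 : WT := (.leaf (nat_lit 10268) [nat_lit 96, nat_lit 48, nat_lit 120, nat_lit 72, nat_lit 72, nat_lit 144, nat_lit 96, nat_lit 72, nat_lit 120, nat_lit 120, nat_lit 72, nat_lit 120, nat_lit 72, nat_lit 120, nat_lit 144, nat_lit 96, nat_lit 48, nat_lit 96, nat_lit 48])
noncomputable def r32 : WT := (.leaf (nat_lit 11354) [nat_lit 48, nat_lit 96, nat_lit 48, nat_lit 144, nat_lit 120, nat_lit 72, nat_lit 120, nat_lit 72, nat_lit 120, nat_lit 120, nat_lit 120, nat_lit 144, nat_lit 96, nat_lit 96, nat_lit 96, nat_lit 48, nat_lit 96, nat_lit 48, nat_lit 96, nat_lit 48, nat_lit 120, nat_lit 72, nat_lit 120, nat_lit 72, nat_lit 120, nat_lit 120, nat_lit 120, nat_lit 144, nat_lit 96, nat_lit 96, nat_lit 96, nat_lit 48, nat_lit 96, nat_lit 48, nat_lit 96, nat_lit 48, nat_lit 120, nat_lit 72, nat_lit 120, nat_lit 72, nat_lit 120, nat_lit 120, nat_lit 120, nat_lit 144, nat_lit 96, nat_lit 96, nat_lit 96, nat_lit 48])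
noncomputable def r33 : WT := (.node (nat_lit 6) r31 r32)
noncomputable def r34 : WT := (.leaf (nat_lit 8200) [nat_lit 96, nat_lit 48, nat_lit 96, nat_lit 48, nat_lit 96, nat_lit 96, nat_lit 96, nat_lit 48, nat_lit 96, nat_lit 48, nat_lit 96, nat_lit 96, nat_lit 96, nat_lit 48, nat_lit 96, nat_lit 48, nat_lit 96, nat_lit 96, nat_lit 96, nat_lit 48, nat_lit 96, nat_lit 48, nat_lit 96])
noncomputable def r35 : WT := (.leaf (nat_lit 6146) [nat_lit 96, nat_lit 48, nat_lit 96, nat_lit 96, nat_lit 96, nat_lit 72, nat_lit 96, nat_lit 96, nat_lit 48, nat_lit 96, nat_lit 96, nat_lit 96, nat_lit 72, nat_lit 96, nat_lit 96, nat_lit 48, nat_lit 96, nat_lit 96, nat_lit 96, nat_lit 72])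
noncomputable def r36 : WT := (.node (nat_lit 8) (.leaf (nat_lit 5126) [nat_lit 72, nat_lit 120, nat_lit 48, nat_lit 96, nat_lit 72, nat_lit 120, nat_lit 48, nat_lit 96, nat_lit 72, nat_lit 120, nat_lit 48]) (.node (nat_lit 9) r34 r35))
noncomputable def r37 : WT := (.leaf (nat_lit 7170) [nat_lit 48, nat_lit 96, nat_lit 48, nat_lit 96, nat_lit 48, nat_lit 96, nat_lit 48, nat_lit 96, nat_lit 48, nat_lit 96, nat_lit 48, nat_lit 96, nat_lit 48, nat_lit 96, nat_lit 48])
noncomputable def r38 : WT := (.leaf (nat_lit 6154) [nat_lit 96, nat_lit 72, nat_lit 96, nat_lit 96, nat_lit 48, nat_lit 96, nat_lit 96, nat_lit 96, nat_lit 72, nat_lit 96, nat_lit 96, nat_lit 48, nat_lit 96, nat_lit 96, nat_lit 96, nat_lit 72, nat_lit 96, nat_lit 96, nat_lit 48, nat_lit 96])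
noncomputable def r39 : WT := (.leaf (nat_lit 8202) [nat_lit 48, nat_lit 96, nat_lit 48, nat_lit 96, nat_lit 96, nat_lit 96, nat_lit 48, nat_lit 96, nat_lit 48, nat_lit 96, nat_lit 96, nat_lit 96, nat_lit 48, nat_lit 96, nat_lit 48, nat_lit 96, nat_lit 96, nat_lit 96, nat_lit 48, nat_lit 96, nat_lit 48, nat_lit 96, nat_lit 96])
noncomputable def r40 : WT := (.leaf (nat_lit 6156) [nat_lit 72, nat_lit 96, nat_lit 96, nat_lit 48, nat_lit 96, nat_lit 96, nat_lit 96, nat_lit 72, nat_lit 96, nat_lit 96, nat_lit 48, nat_lit 96, nat_lit 96, nat_lit 96, nat_lit 72, nat_lit 96, nat_lit 96, nat_lit 48, nat_lit 96, nat_lit 96])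
noncomputable def r41 : WT := (.leaf (nat_lit 6152) [nat_lit 96, nat_lit 96, nat_lit 72, nat_lit 96, nat_lit 96, nat_lit 48, nat_lit 96, nat_lit 96, nat_lit 96, nat_lit 72, nat_lit 96, nat_lit 96, nat_lit 48, nat_lit 96, nat_lit 96, nat_lit 96, nat_lit 72, nat_lit 96, nat_lit 96, nat_lit 48])
noncomputable def r42 : WT := (.leaf (nat_lit 11346) [nat_lit 96, nat_lit 96, nat_lit 48, nat_lit 96, nat_lit 48, nat_lit 96, nat_lit 48, nat_lit 144, nat_lit 120, nat_lit 72, nat_lit 120, nat_lit 72, nat_lit 120, nat_lit 120, nat_lit 120, nat_lit 144, nat_lit 96, nat_lit 96, nat_lit 96, nat_lit 48, nat_lit 96, nat_lit 48, nat_lit 96, nat_lit 48, nat_lit 120, nat_lit 72, nat_lit 120, nat_lit 72, nat_lit 120, nat_lit 120, nat_lit 120, nat_lit 144, nat_lit 96, nat_lit 96, nat_lit 96, nat_lit 48, nat_lit 96, nat_lit 48, nat_lit 96, nat_lit 48, nat_lit 120, nat_lit 72, nat_lit 120, nat_lit 72, nat_lit 120, nat_lit 120, nat_lit 120, nat_lit 144])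
noncomputable def r43 : WT := (.leaf (nat_lit 10264) [nat_lit 48, nat_lit 96, nat_lit 96, nat_lit 48, nat_lit 120, nat_lit 72, nat_lit 72, nat_lit 144, nat_lit 96, nat_lit 72, nat_lit 120, nat_lit 120, nat_lit 72, nat_lit 120, nat_lit 72, nat_lit 120, nat_lit 144, nat_lit 96, nat_lit 48])
noncomputable def r44 : WT := (.leaf (nat_lit 8198) [nat_lit 96, nat_lit 96, nat_lit 48, nat_lit 96, nat_lit 48, nat_lit 96, nat_lit 96, nat_lit 96, nat_lit 48, nat_lit 96, nat_lit 48, nat_lit 96, nat_lit 96, nat_lit 96, nat_lit 48, nat_lit 96, nat_lit 48, nat_lit 96, nat_lit 96, nat_lit 96, nat_lit 48, nat_lit 96, nat_lit 48])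
noncomputable def r45 : WT := (.leaf (nat_lit 10260) [nat_lit 48, nat_lit 96, nat_lit 48, nat_lit 96, nat_lit 96, nat_lit 48, nat_lit 120, nat_lit 72, nat_lit 72, nat_lit 144, nat_lit 96, nat_lit 72, nat_lit 120, nat_lit 120, nat_lit 72, nat_lit 120, nat_lit 72, nat_lit 120, nat_lit 144])
noncomputable def r46 : WT := (.leaf (nat_lit 8194) [nat_lit 48, nat_lit 96, nat_lit 96, nat_lit 96, nat_lit 48, nat_lit 96, nat_lit 48, nat_lit 96, nat_lit 96, nat_lit 96, nat_lit 48, nat_lit 96, nat_lit 48, nat_lit 96, nat_lit 96, nat_lit 96, nat_lit 48, nat_lit 96, nat_lit 48, nat_lit 96, nat_lit 96, nat_lit 96, nat_lit 48])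
noncomputable def r47 : WT := (.node (nat_lit 19) r45 r46)
noncomputable def r48 : WT := (.leaf (nat_lit 11350) [nat_lit 48, nat_lit 96, nat_lit 48, nat_lit 96, nat_lit 48, nat_lit 144, nat_lit 120, nat_lit 72, nat_lit 120, nat_lit 72, nat_lit 120, nat_lit 120, nat_lit 120, nat_lit 144, nat_lit 96, nat_lit 96, nat_lit 96, nat_lit 48, nat_lit 96, nat_lit 48, nat_lit 96, nat_lit 48, nat_lit 120, nat_lit 72, nat_lit 120, nat_lit 72, nat_lit 120, nat_lit 120, nat_lit 120, nat_lit 144, nat_lit 96, nat_lit 96, nat_lit 96, nat_lit 48, nat_lit 96, nat_lit 48, nat_lit 96, nat_lit 48, nat_lit 120, nat_lit 72, nat_lit 120, nat_lit 72, nat_lit 120, nat_lit 120, nat_lit 120, nat_lit 144, nat_lit 96, nat_lit 96])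
noncomputable def r49 : WT := (.node (nat_lit 21) (.leaf (nat_lit 5125) [nat_lit 48, nat_lit 120, nat_lit 72, nat_lit 96, nat_lit 48, nat_lit 120, nat_lit 72, nat_lit 96, nat_lit 48, nat_lit 120, nat_lit 72]) r48)
noncomputable def r50 : WT := (.node (nat_lit 13) (.node (nat_lit 11) r37 (.node (nat_lit 12) r38 r39)) (.node (nat_lit 16) (.node (nat_lit 14) r40 (.node (nat_lit 15) r41 r42)) (.node (nat_lit 18) (.node (nat_lit 17) r43 r44) (.node (nat_lit 20) r47 r49))))
noncomputable def w2 : WT := (.node (nat_lit 1) (.leaf (nat_lit 1024) [nat_lit 120]) (.node (nat_lit 4) (.node (nat_lit 2) (.leaf (nat_lit 3072) [nat_lit 96, nat_lit 96, nat_lit 96, nat_lit 96, nat_lit 96]) (.node (nat_lit 3) r28 r29)) (.node (nat_lit 7) (.node (nat_lit 5) r30 r33) (.node (nat_lit 10) r36 r50))))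
noncomputable def r51 : WT := (.leaf (nat_lit 11340) [nat_lit 120, nat_lit 144, nat_lit 96, nat_lit 96, nat_lit 96, nat_lit 48, nat_lit 96, nat_lit 48, nat_lit 96, nat_lit 48, nat_lit 144, nat_lit 120, nat_lit 72, nat_lit 120, nat_lit 72, nat_lit 120, nat_lit 120, nat_lit 120, nat_lit 144, nat_lit 96, nat_lit 96, nat_lit 96, nat_lit 48, nat_lit 96, nat_lit 48, nat_lit 96, nat_lit 48, nat_lit 120, nat_lit 72, nat_lit 120, nat_lit 72, nat_lit 120, nat_lit 120, nat_lit 120, nat_lit 144, nat_lit 96, nat_lit 96, nat_lit 96, nat_lit 48, nat_lit 96, nat_lit 48, nat_lit 96, nat_lit 48, nat_lit 120, nat_lit 72, nat_lit 120, nat_lit 72, nat_lit 120])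
noncomputable def r52 : WT := (.leaf (nat_lit 10252) [nat_lit 72, nat_lit 120, nat_lit 144, nat_lit 96, nat_lit 48, nat_lit 96, nat_lit 48, nat_lit 96, nat_lit 96, nat_lit 48, nat_lit 120, nat_lit 72, nat_lit 72, nat_lit 144, nat_lit 96, nat_lit 72, nat_lit 120, nat_lit 120, nat_lit 72])
noncomputable def r53 : WT := (.leaf (nat_lit 10246) [nat_lit 120, nat_lit 72, nat_lit 120, nat_lit 72, nat_lit 120, nat_lit 144, nat_lit 96, nat_lit 48, nat_lit 96, nat_lit 48, nat_lit 96, nat_lit 96, nat_lit 48, nat_lit 120, nat_lit 72, nat_lit 72, nat_lit 144, nat_lit 96, nat_lit 72])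
noncomputable def r54 : WT := (.node (nat_lit 5) r52 r53)
noncomputable def r55 : WT := (.leaf (nat_lit 10256) [nat_lit 144, nat_lit 96, nat_lit 48, nat_lit 96, nat_lit 48, nat_lit 96, nat_lit 96, nat_lit 48, nat_lit 120, nat_lit 72, nat_lit 72, nat_lit 144, nat_lit 96, nat_lit 72, nat_lit 120, nat_lit 120, nat_lit 72, nat_lit 120, nat_lit 72])
noncomputable def r56 : WT := (.leaf (nat_lit 6153) [nat_lit 120, nat_lit 48, nat_lit 120, nat_lit 120, nat_lit 120, nat_lit 72, nat_lit 120, nat_lit 120, nat_lit 48, nat_lit 120, nat_lit 120, nat_lit 120, nat_lit 72, nat_lit 120, nat_lit 120, nat_lit 48, nat_lit 120, nat_lit 120, nat_lit 120, nat_lit 72])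
noncomputable def r57 : WT := (.leaf (nat_lit 10248) [nat_lit 72, nat_lit 120, nat_lit 72, nat_lit 120, nat_lit 144, nat_lit 96, nat_lit 48, nat_lit 96, nat_lit 48, nat_lit 96, nat_lit 96, nat_lit 48, nat_lit 120, nat_lit 72, nat_lit 72, nat_lit 144, nat_lit 96, nat_lit 72, nat_lit 120])
noncomputable def r58 : WT := (.leaf (nat_lit 11342) [nat_lit 144, nat_lit 96, nat_lit 96, nat_lit 96, nat_lit 48, nat_lit 96, nat_lit 48, nat_lit 96, nat_lit 48, nat_lit 144, nat_lit 120, nat_lit 72, nat_lit 120, nat_lit 72, nat_lit 120, nat_lit 120, nat_lit 120, nat_lit 144, nat_lit 96, nat_lit 96, nat_lit 96, nat_lit 48, nat_lit 96, nat_lit 48, nat_lit 96, nat_lit 48, nat_lit 120, nat_lit 72, nat_lit 120, nat_lit 72, nat_lit 120, nat_lit 120, nat_lit 120, nat_lit 144, nat_lit 96, nat_lit 96, nat_lit 96, nat_lit 48, nat_lit 96, nat_lit 48, nat_lit 96, nat_lit 48, nat_lit 120, nat_lit 72, nat_lit 120, nat_lit 72, nat_lit 120, nat_lit 120])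
noncomputable def r59 : WT := (.leaf (nat_lit 10274) [nat_lit 72, nat_lit 72, nat_lit 144, nat_lit 96, nat_lit 72, nat_lit 120, nat_lit 120, nat_lit 72, nat_lit 120, nat_lit 72, nat_lit 120, nat_lit 144, nat_lit 96, nat_lit 48, nat_lit 96, nat_lit 48, nat_lit 96, nat_lit 96, nat_lit 48])
noncomputable def r60 : WT := (.leaf (nat_lit 6147) [nat_lit 120, nat_lit 72, nat_lit 120, nat_lit 120, nat_lit 48, nat_lit 120, nat_lit 120, nat_lit 120, nat_lit 72, nat_lit 120, nat_lit 120, nat_lit 48, nat_lit 120, nat_lit 120, nat_lit 120, nat_lit 72, nat_lit 120, nat_lit 120, nat_lit 48, nat_lit 120])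
noncomputable def r61 : WT := (.leaf (nat_lit 6155) [nat_lit 48, nat_lit 120, nat_lit 120, nat_lit 120, nat_lit 72, nat_lit 120, nat_lit 120, nat_lit 48, nat_lit 120, nat_lit 120, nat_lit 120, nat_lit 72, nat_lit 120, nat_lit 120, nat_lit 48, nat_lit 120, nat_lit 120, nat_lit 120, nat_lit 72, nat_lit 120])
noncomputable def r62 : WT := (.leaf (nat_lit 11338) [nat_lit 120, nat_lit 120, nat_lit 144, nat_lit 96, nat_lit 96, nat_lit 96, nat_lit 48, nat_lit 96, nat_lit 48, nat_lit 96, nat_lit 48, nat_lit 144, nat_lit 120, nat_lit 72, nat_lit 120, nat_lit 72, nat_lit 120, nat_lit 120, nat_lit 120, nat_lit 144, nat_lit 96, nat_lit 96, nat_lit 96, nat_lit 48, nat_lit 96, nat_lit 48, nat_lit 96, nat_lit 48, nat_lit 120, nat_lit 72, nat_lit 120, nat_lit 72, nat_lit 120, nat_lit 120, nat_lit 120, nat_lit 144, nat_lit 96, nat_lit 96, nat_lit 96, nat_lit 48, nat_lit 96, nat_lit 48, nat_lit 96, nat_lit 48, nat_lit 120, nat_lit 72, nat_lit 120, nat_lit 72])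
noncomputable def r63 : WT := (.node (nat_lit 9) (.node (nat_lit 7) (.leaf (nat_lit 5121) [nat_lit 72, nat_lit 96, nat_lit 48, nat_lit 120, nat_lit 72, nat_lit 96, nat_lit 48, nat_lit 120, nat_lit 72, nat_lit 96, nat_lit 48]) (.node (nat_lit 8) r55 r56)) (.node (nat_lit 12) (.node (nat_lit 10) (.leaf (nat_lit 4106) [nat_lit 48, nat_lit 48, nat_lit 96, nat_lit 48, nat_lit 48]) (.node (nat_lit 11) r57 r58)) (.node (nat_lit 14) (.node (nat_lit 13) r59 r60) (.node (nat_lit 15) r61 r62))))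
noncomputable def w3 : WT := (.node (nat_lit 1) (.leaf (nat_lit 1026) [nat_lit 96]) (.node (nat_lit 2) (.leaf (nat_lit 5122) [nat_lit 48, nat_lit 96, nat_lit 72, nat_lit 120, nat_lit 48, nat_lit 96, nat_lit 72, nat_lit 120, nat_lit 48, nat_lit 96, nat_lit 72]) (.node (nat_lit 4) (.node (nat_lit 3) (.leaf (nat_lit 3073) [nat_lit 120, nat_lit 120, nat_lit 120, nat_lit 120, nat_lit 120]) r51) (.node (nat_lit 6) r54 r63))))
noncomputable def r64 : WT := (.leaf (nat_lit 10258) [nat_lit 96, nat_lit 48, nat_lit 96, nat_lit 48, nat_lit 96, nat_lit 96, nat_lit 48, nat_lit 120, nat_lit 72, nat_lit 72, nat_lit 144, nat_lit 96, nat_lit 72, nat_lit 120, nat_lit 120, nat_lit 72, nat_lit 120, nat_lit 72, nat_lit 120])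
noncomputable def r65 : WT := (.leaf (nat_lit 11264) [nat_lit 120, nat_lit 72, nat_lit 120, nat_lit 72, nat_lit 120, nat_lit 120, nat_lit 120, nat_lit 144, nat_lit 96, nat_lit 96, nat_lit 96, nat_lit 48, nat_lit 96, nat_lit 48, nat_lit 96, nat_lit 48, nat_lit 120, nat_lit 72, nat_lit 120, nat_lit 72, nat_lit 120, nat_lit 120, nat_lit 120, nat_lit 144, nat_lit 96, nat_lit 96, nat_lit 96, nat_lit 48, nat_lit 96, nat_lit 48, nat_lit 96, nat_lit 48, nat_lit 120, nat_lit 72, nat_lit 120, nat_lit 72, nat_lit 120, nat_lit 120, nat_lit 120, nat_lit 144, nat_lit 96, nat_lit 96, nat_lit 96, nat_lit 48, nat_lit 96, nat_lit 48, nat_lit 96, nat_lit 48])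
noncomputable def r66 : WT := (.leaf (nat_lit 11344) [nat_lit 96, nat_lit 96, nat_lit 96, nat_lit 48, nat_lit 96, nat_lit 48, nat_lit 96, nat_lit 48, nat_lit 144, nat_lit 120, nat_lit 72, nat_lit 120, nat_lit 72, nat_lit 120, nat_lit 120, nat_lit 120, nat_lit 144, nat_lit 96, nat_lit 96, nat_lit 96, nat_lit 48, nat_lit 96, nat_lit 48, nat_lit 96, nat_lit 48, nat_lit 120, nat_lit 72, nat_lit 120, nat_lit 72, nat_lit 120, nat_lit 120, nat_lit 120, nat_lit 144, nat_lit 96, nat_lit 96, nat_lit 96, nat_lit 48, nat_lit 96, nat_lit 48, nat_lit 96, nat_lit 48, nat_lit 120, nat_lit 72, nat_lit 120, nat_lit 72, nat_lit 120, nat_lit 120, nat_lit 120])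
noncomputable def r67 : WT := (.leaf (nat_lit 11361) [nat_lit 72, nat_lit 120, nat_lit 72, nat_lit 120, nat_lit 72, nat_lit 120, nat_lit 120, nat_lit 120, nat_lit 144, nat_lit 96, nat_lit 96, nat_lit 96, nat_lit 48, nat_lit 96, nat_lit 48, nat_lit 96, nat_lit 72, nat_lit 120, nat_lit 72, nat_lit 120, nat_lit 72, nat_lit 120, nat_lit 120, nat_lit 120, nat_lit 144, nat_lit 96, nat_lit 96, nat_lit 96, nat_lit 48, nat_lit 96, nat_lit 48, nat_lit 96, nat_lit 72, nat_lit 120, nat_lit 72, nat_lit 120, nat_lit 72, nat_lit 120, nat_lit 120, nat_lit 120, nat_lit 144, nat_lit 96, nat_lit 96, nat_lit 96, nat_lit 48, nat_lit 96, nat_lit 48, nat_lit 96])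
noncomputable def r68 : WT := (.node (nat_lit 6) r66 r67)
noncomputable def w4 : WT := (.node (nat_lit 1) (.leaf (nat_lit 2048) [nat_lit 144]) (.node (nat_lit 2) (.leaf (nat_lit 9216) [nat_lit 48, nat_lit 144, nat_lit 48]) (.node (nat_lit 4) (.node (nat_lit 3) r64 r65) (.node (nat_lit 5) (.leaf (nat_lit 9219) [nat_lit 72, nat_lit 144, nat_lit 72]) r68))))
noncomputable def r69 : WT := (.leaf (nat_lit 7171) [nat_lit 72, nat_lit 120, nat_lit 72, nat_lit 120, nat_lit 72, nat_lit 120, nat_lit 72, nat_lit 120, nat_lit 72, nat_lit 120, nat_lit 72, nat_lit 120, nat_lit 72, nat_lit 120, nat_lit 72, nat_lit 120])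
noncomputable def r70 : WT := (.node (nat_lit 5) (.leaf (nat_lit 4107) [nat_lit 72, nat_lit 96, nat_lit 72, nat_lit 72, nat_lit 120, nat_lit 72]) (.leaf (nat_lit 4104) [nat_lit 48, nat_lit 120, nat_lit 48, nat_lit 48, nat_lit 96, nat_lit 48]))
noncomputable def r71 : WT := (.leaf (nat_lit 6155) [nat_lit 120, nat_lit 48, nat_lit 120, nat_lit 120, nat_lit 120, nat_lit 72, nat_lit 120, nat_lit 120, nat_lit 48, nat_lit 120, nat_lit 120, nat_lit 120, nat_lit 72, nat_lit 120, nat_lit 120, nat_lit 48, nat_lit 120, nat_lit 120, nat_lit 120, nat_lit 72, nat_lit 120])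
noncomputable def r72 : WT := (.node (nat_lit 7) (.leaf (nat_lit 5126) [nat_lit 96, nat_lit 72, nat_lit 120, nat_lit 48, nat_lit 96, nat_lit 72, nat_lit 120, nat_lit 48, nat_lit 96, nat_lit 72, nat_lit 120, nat_lit 48]) r71)
noncomputable def r73 : WT := (.leaf (nat_lit 7168) [nat_lit 48, nat_lit 96, nat_lit 48, nat_lit 96, nat_lit 48, nat_lit 96, nat_lit 48, nat_lit 96, nat_lit 48, nat_lit 96, nat_lit 48, nat_lit 96, nat_lit 48, nat_lit 96, nat_lit 48, nat_lit 96])
noncomputable def r74 : WT := (.leaf (nat_lit 10274) [nat_lit 120, nat_lit 72, nat_lit 72, nat_lit 144, nat_lit 96, nat_lit 72, nat_lit 120, nat_lit 120, nat_lit 72, nat_lit 120, nat_lit 72, nat_lit 120, nat_lit 144, nat_lit 96, nat_lit 48, nat_lit 96, nat_lit 48, nat_lit 96, nat_lit 96, nat_lit 48])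
noncomputable def r75 : WT := (.node (nat_lit 10) (.node (nat_lit 9) r73 r74) (.node (nat_lit 11) (.leaf (nat_lit 5124) [nat_lit 48, nat_lit 96, nat_lit 72, nat_lit 120, nat_lit 48, nat_lit 96, nat_lit 72, nat_lit 120, nat_lit 48, nat_lit 96, nat_lit 72, nat_lit 120]) (.leaf (nat_lit 5122) [nat_lit 120, nat_lit 48, nat_lit 96, nat_lit 72, nat_lit 120, nat_lit 48, nat_lit 96, nat_lit 72, nat_lit 120, nat_lit 48, nat_lit 96, nat_lit 72])))
noncomputable def r76 : WT := (.leaf (nat_lit 6150) [nat_lit 48, nat_lit 96, nat_lit 96, nat_lit 96, nat_lit 72, nat_lit 96, nat_lit 96, nat_lit 48, nat_lit 96, nat_lit 96, nat_lit 96, nat_lit 72, nat_lit 96, nat_lit 96, nat_lit 48, nat_lit 96, nat_lit 96, nat_lit 96, nat_lit 72, nat_lit 96, nat_lit 96])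
noncomputable def r77 : WT := (.leaf (nat_lit 7170) [nat_lit 96, nat_lit 48, nat_lit 96, nat_lit 48, nat_lit 96, nat_lit 48, nat_lit 96, nat_lit 48, nat_lit 96, nat_lit 48, nat_lit 96, nat_lit 48, nat_lit 96, nat_lit 48, nat_lit 96, nat_lit 48])
noncomputable def r78 : WT := (.node (nat_lit 14) (.node (nat_lit 13) (.leaf (nat_lit 9219) [nat_lit 144, nat_lit 72, nat_lit 144, nat_lit 72]) r76) (.node (nat_lit 15) r77 (.node (nat_lit 16) (.leaf (nat_lit 5125) [nat_lit 96, nat_lit 48, nat_lit 120, nat_lit 72, nat_lit 96, nat_lit 48, nat_lit 120, nat_lit 72, nat_lit 96, nat_lit 48, nat_lit 120, nat_lit 72]) (.leaf (nat_lit 4101) [nat_lit 72, nat_lit 120, nat_lit 72, nat_lit 72, nat_lit 96, nat_lit 72]))))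
noncomputable def r79 : WT := (.leaf (nat_lit 11266) [nat_lit 120, nat_lit 72, nat_lit 120, nat_lit 72, nat_lit 120, nat_lit 120, nat_lit 120, nat_lit 144, nat_lit 96, nat_lit 96, nat_lit 96, nat_lit 48, nat_lit 96, nat_lit 48, nat_lit 96, nat_lit 48, nat_lit 120, nat_lit 72, nat_lit 120, nat_lit 72, nat_lit 120, nat_lit 120, nat_lit 120, nat_lit 144, nat_lit 96, nat_lit 96, nat_lit 96, nat_lit 48, nat_lit 96, nat_lit 48, nat_lit 96, nat_lit 48, nat_lit 120, nat_lit 72, nat_lit 120, nat_lit 72, nat_lit 120, nat_lit 120, nat_lit 120, nat_lit 144, nat_lit 96, nat_lit 96, nat_lit 96, nat_lit 48, nat_lit 96, nat_lit 48, nat_lit 96, nat_lit 48, nat_lit 144])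
noncomputable def r80 : WT := (.leaf (nat_lit 8200) [nat_lit 96, nat_lit 96, nat_lit 48, nat_lit 96, nat_lit 48, nat_lit 96, nat_lit 96, nat_lit 96, nat_lit 48, nat_lit 96, nat_lit 48, nat_lit 96, nat_lit 96, nat_lit 96, nat_lit 48, nat_lit 96, nat_lit 48, nat_lit 96, nat_lit 96, nat_lit 96, nat_lit 48, nat_lit 96, nat_lit 48, nat_lit 96])
noncomputable def r81 : WT := (.leaf (nat_lit 10273) [nat_lit 96, nat_lit 48, nat_lit 120, nat_lit 144, nat_lit 48, nat_lit 48, nat_lit 96, nat_lit 72, nat_lit 120, nat_lit 120, nat_lit 72, nat_lit 120, nat_lit 72, nat_lit 120, nat_lit 144, nat_lit 96, nat_lit 48, nat_lit 96, nat_lit 48, nat_lit 96])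
noncomputable def r82 : WT := (.leaf (nat_lit 11265) [nat_lit 72, nat_lit 120, nat_lit 72, nat_lit 120, nat_lit 72, nat_lit 120, nat_lit 120, nat_lit 120, nat_lit 144, nat_lit 96, nat_lit 96, nat_lit 96, nat_lit 48, nat_lit 96, nat_lit 48, nat_lit 96, nat_lit 72, nat_lit 120, nat_lit 72, nat_lit 120, nat_lit 72, nat_lit 120, nat_lit 120, nat_lit 120, nat_lit 144, nat_lit 96, nat_lit 96, nat_lit 96, nat_lit 48, nat_lit 96, nat_lit 48, nat_lit 96, nat_lit 72, nat_lit 120, nat_lit 72, nat_lit 120, nat_lit 72, nat_lit 120, nat_lit 120, nat_lit 120, nat_lit 144, nat_lit 96, nat_lit 96, nat_lit 96, nat_lit 48, nat_lit 96, nat_lit 48, nat_lit 96, nat_lit 144])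
noncomputable def r83 : WT := (.leaf (nat_lit 11264) [nat_lit 144, nat_lit 120, nat_lit 72, nat_lit 120, nat_lit 72, nat_lit 120, nat_lit 120, nat_lit 120, nat_lit 144, nat_lit 96, nat_lit 96, nat_lit 96, nat_lit 48, nat_lit 96, nat_lit 48, nat_lit 96, nat_lit 48, nat_lit 120, nat_lit 72, nat_lit 120, nat_lit 72, nat_lit 120, nat_lit 120, nat_lit 120, nat_lit 144, nat_lit 96, nat_lit 96, nat_lit 96, nat_lit 48, nat_lit 96, nat_lit 48, nat_lit 96, nat_lit 48, nat_lit 120, nat_lit 72, nat_lit 120, nat_lit 72, nat_lit 120, nat_lit 120, nat_lit 120, nat_lit 144, nat_lit 96, nat_lit 96, nat_lit 96, nat_lit 48, nat_lit 96, nat_lit 48, nat_lit 96, nat_lit 48])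
noncomputable def r84 : WT := (.leaf (nat_lit 8199) [nat_lit 72, nat_lit 120, nat_lit 72, nat_lit 120, nat_lit 120, nat_lit 120, nat_lit 72, nat_lit 120, nat_lit 72, nat_lit 120, nat_lit 120, nat_lit 120, nat_lit 72, nat_lit 120, nat_lit 72, nat_lit 120, nat_lit 120, nat_lit 120, nat_lit 72, nat_lit 120, nat_lit 72, nat_lit 120, nat_lit 120, nat_lit 120])
noncomputable def r85 : WT := (.leaf (nat_lit 8197) [nat_lit 120, nat_lit 72, nat_lit 120, nat_lit 72, nat_lit 120, nat_lit 120, nat_lit 120, nat_lit 72, nat_lit 120, nat_lit 72, nat_lit 120, nat_lit 120, nat_lit 120, nat_lit 72, nat_lit 120, nat_lit 72, nat_lit 120, nat_lit 120, nat_lit 120, nat_lit 72, nat_lit 120, nat_lit 72, nat_lit 120, nat_lit 120])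
noncomputable def r86 : WT := (.leaf (nat_lit 8192) [nat_lit 48, nat_lit 96, nat_lit 48, nat_lit 96, nat_lit 96, nat_lit 96, nat_lit 48, nat_lit 96, nat_lit 48, nat_lit 96, nat_lit 96, nat_lit 96, nat_lit 48, nat_lit 96, nat_lit 48, nat_lit 96, nat_lit 96, nat_lit 96, nat_lit 48, nat_lit 96, nat_lit 48, nat_lit 96, nat_lit 96, nat_lit 96])
noncomputable def r87 : WT := (.leaf (nat_lit 6157) [nat_lit 48, nat_lit 120, nat_lit 120, nat_lit 120, nat_lit 72, nat_lit 120, nat_lit 120, nat_lit 48, nat_lit 120, nat_lit 120, nat_lit 120, nat_lit 72, nat_lit 120, nat_lit 120, nat_lit 48, nat_lit 120, nat_lit 120, nat_lit 120, nat_lit 72, nat_lit 120, nat_lit 120])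
noncomputable def r88 : WT := (.node (nat_lit 21) (.node (nat_lit 19) (.node (nat_lit 18) (.leaf (nat_lit 5121) [nat_lit 120, nat_lit 72, nat_lit 96, nat_lit 48, nat_lit 120, nat_lit 72, nat_lit 96, nat_lit 48, nat_lit 120, nat_lit 72, nat_lit 96, nat_lit 48]) r79) (.node (nat_lit 20) r80 (.leaf (nat_lit 5120) [nat_lit 72, nat_lit 120, nat_lit 48, nat_lit 96, nat_lit 72, nat_lit 120, nat_lit 48, nat_lit 96, nat_lit 72, nat_lit 120, nat_lit 48, nat_lit 96]))) (.node (nat_lit 25) (.node (nat_lit 23) (.node (nat_lit 22) r81 r82) (.node (nat_lit 24) r83 r84)) (.node (nat_lit 27) (.node (nat_lit 26) r85 r86) (.node (nat_lit 28) r87 (.leaf (nat_lit 9216) [nat_lit 144, nat_lit 48, nat_lit 144, nat_lit 48])))))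
noncomputable def r89 : WT := (.leaf (nat_lit 6151) [nat_lit 72, nat_lit 120, nat_lit 120, nat_lit 48, nat_lit 120, nat_lit 120, nat_lit 120, nat_lit 72, nat_lit 120, nat_lit 120, nat_lit 48, nat_lit 120, nat_lit 120, nat_lit 120, nat_lit 72, nat_lit 120, nat_lit 120, nat_lit 48, nat_lit 120, nat_lit 120, nat_lit 120])
noncomputable def r90 : WT := (.leaf (nat_lit 6145) [nat_lit 120, nat_lit 120, nat_lit 120, nat_lit 72, nat_lit 120, nat_lit 120, nat_lit 48, nat_lit 120, nat_lit 120, nat_lit 120, nat_lit 72, nat_lit 120, nat_lit 120, nat_lit 48, nat_lit 120, nat_lit 120, nat_lit 120, nat_lit 72, nat_lit 120, nat_lit 120, nat_lit 48])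
noncomputable def r91 : WT := (.leaf (nat_lit 6154) [nat_lit 96, nat_lit 96, nat_lit 72, nat_lit 96, nat_lit 96, nat_lit 48, nat_lit 96, nat_lit 96, nat_lit 96, nat_lit 72, nat_lit 96, nat_lit 96, nat_lit 48, nat_lit 96, nat_lit 96, nat_lit 96, nat_lit 72, nat_lit 96, nat_lit 96, nat_lit 48, nat_lit 96])
noncomputable def r92 : WT := (.leaf (nat_lit 10259) [nat_lit 120, nat_lit 144, nat_lit 96, nat_lit 48, nat_lit 96, nat_lit 48, nat_lit 96, nat_lit 96, nat_lit 48, nat_lit 120, nat_lit 144, nat_lit 48, nat_lit 48, nat_lit 96, nat_lit 72, nat_lit 120, nat_lit 120, nat_lit 72, nat_lit 120, nat_lit 72])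
noncomputable def r93 : WT := (.leaf (nat_lit 10270) [nat_lit 96, nat_lit 48, nat_lit 120, nat_lit 72, nat_lit 72, nat_lit 144, nat_lit 96, nat_lit 72, nat_lit 120, nat_lit 120, nat_lit 72, nat_lit 120, nat_lit 72, nat_lit 120, nat_lit 144, nat_lit 96, nat_lit 48, nat_lit 96, nat_lit 48, nat_lit 96])
noncomputable def r94 : WT := (.leaf (nat_lit 10252) [nat_lit 120, nat_lit 72, nat_lit 120, nat_lit 144, nat_lit 96, nat_lit 48, nat_lit 96, nat_lit 48, nat_lit 96, nat_lit 96, nat_lit 48, nat_lit 120, nat_lit 72, nat_lit 72, nat_lit 144, nat_lit 96, nat_lit 72, nat_lit 120, nat_lit 120, nat_lit 72])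
noncomputable def r95 : WT := (.leaf (nat_lit 10244) [nat_lit 72, nat_lit 120, nat_lit 120, nat_lit 72, nat_lit 120, nat_lit 72, nat_lit 120, nat_lit 144, nat_lit 96, nat_lit 48, nat_lit 96, nat_lit 48, nat_lit 96, nat_lit 96, nat_lit 48, nat_lit 120, nat_lit 72, nat_lit 72, nat_lit 144, nat_lit 96])
noncomputable def r96 : WT := (.leaf (nat_lit 7169) [nat_lit 120, nat_lit 72, nat_lit 120, nat_lit 72, nat_lit 120, nat_lit 72, nat_lit 120, nat_lit 72, nat_lit 120, nat_lit 72, nat_lit 120, nat_lit 72, nat_lit 120, nat_lit 72, nat_lit 120, nat_lit 72])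
noncomputable def r97 : WT := (.node (nat_lit 36) (.node (nat_lit 32) (.node (nat_lit 30) r89 (.node (nat_lit 31) r90 r91)) (.node (nat_lit 34) (.node (nat_lit 33) (.leaf (nat_lit 4096) [nat_lit 48, nat_lit 48, nat_lit 96, nat_lit 48, nat_lit 48, nat_lit 120]) r92) (.node (nat_lit 35) (.leaf (nat_lit 4106) [nat_lit 120, nat_lit 48, nat_lit 48, nat_lit 96, nat_lit 48, nat_lit 48]) r93))) (.node (nat_lit 40) (.node (nat_lit 38) (.node (nat_lit 37) r94 r95) (.node (nat_lit 39) (.leaf (nat_lit 4097) [nat_lit 96, nat_lit 72, nat_lit 72, nat_lit 120, nat_lit 72, nat_lit 72]) r96)) (.node (nat_lit 42) (.node (nat_lit 41) (.leaf (nat_lit 4099) [nat_lit 72, nat_lit 72, nat_lit 120, nat_lit 72, nat_lit 72, nat_lit 96]) (.leaf (nat_lit 4103) [nat_lit 120, nat_lit 72, nat_lit 72, nat_lit 96, nat_lit 72, nat_lit 72])) (.node (nat_lit 43) (.leaf (nat_lit 5123) [nat_lit 72, nat_lit 96, nat_lit 48, nat_lit 120, nat_lit 72, nat_lit 96, nat_lit 48, nat_lit 120, nat_lit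 72, nat_lit 96, nat_lit 48, nat_lit 120]) (.leaf (nat_lit 4105) [nat_lit 72, nat_lit 72, nat_lit 96, nat_lit 72, nat_lit 72, nat_lit 120])))))
noncomputable def wP : WT := (.node (nat_lit 2) (.node (nat_lit 1) (.leaf (nat_lit 3072) [nat_lit 96, nat_lit 96, nat_lit 96, nat_lit 96, nat_lit 96, nat_lit 96]) (.leaf (nat_lit 3073) [nat_lit 120, nat_lit 120, nat_lit 120, nat_lit 120, nat_lit 120, nat_lit 120])) (.node (nat_lit 8) (.node (nat_lit 4) (.node (nat_lit 3) (.leaf (nat_lit 4098) [nat_lit 48, nat_lit 96, nat_lit 48, nat_lit 48, nat_lit 120, nat_lit 48]) r69) (.node (nat_lit 6) r70 r72)) (.node (nat_lit 17) (.node (nat_lit 12) r75 r78) (.node (nat_lit 29) r88 r97))))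
noncomputable def P : Par := ⟨tb, nat_lit 168, nat_lit 0xffffffffffffffffffffffffffffffffffffffffff, nat_lit 31248, nat_lit 16777215, nat_lit 32767, nat_lit 24, nat_lit 15, nat_lit 352,
  [nat_lit 48, nat_lit 72, nat_lit 96, nat_lit 120, nat_lit 144], [nat_lit 48, nat_lit 96], wP,
  (.cons (nat_lit 48) w0 (.cons (nat_lit 72) w1 (.cons (nat_lit 96) w2 (.cons (nat_lit 120) w3 (.cons (nat_lit 144) w4 .nil))))),
  .nil⟩

end Cfsg.Agent.Lib.TCHN1
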