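import Cfsg.Agent.Lib.TCHN2D0
import Cfsg.Agent.Lib.TCHN2D1

set_option autoImplicit false
set_option maxRecDepth 100000

namespace Cfsg.Agent.Lib.TCHN2
open Cfsg.Agent.Lib.TCCore

noncomputable def n0 : T := (.node (nat_lit 80) l0 l1)
noncomputable def n1 : T := (.node (nat_lit 240) l2 l3)
noncomputable def n2 : T := (.node (nat_lit 400) l4 l5)
noncomputable def n3 : T := (.node (nat_lit 560) l6 (.node (nat_lit 640) l7 l8))
noncomputable def n4 : T := (.node (nat_lit 800) l9 l10)
noncomputable def n5 : T := (.node (nat_lit 960) l11 (.node (nat_lit 1040) l12 l13))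
noncomputable def n6 : T := (.node (nat_lit 1200) l14 l15)
noncomputable def n7 : T := (.node (nat_lit 1360) l16 (.node (nat_lit 1440) l17 l18))
noncomputable def n8 : T := (.node (nat_lit 1600) l19 l20)
noncomputable def n9 : T := (.node (nat_lit 1760) l21 l22)
noncomputable def n10 : T := (.node (nat_lit 1920) l23 l24)
noncomputable def n11 : T := (.node (nat_lit 2080) l25 (.node (nat_lit 2160) l26 l27))
noncomputable def n12 : T := (.node (nat_lit 2320) l28 l29)
noncomputable def n13 : T := (.node (nat_lit 2480) l30 (.node (nat_lit 2560) l31 l32))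
noncomputable def n14 : T := (.node (nat_lit 2720) l33 l34)
noncomputable def n15 : T := (.node (nat_lit 2880) l35 (.node (nat_lit 2960) l36 l37))
noncomputable def n16 : T := (.node (nat_lit 3120) l38 l39)
noncomputable def n17 : T := (.node (nat_lit 3280) l40 l41)
noncomputable def n18 : T := (.node (nat_lit 3440) l42 l43)
noncomputable def n19 : T := (.node (nat_lit 3600) l44 (.node (nat_lit 3680) l45 l46))
noncomputable def n20 : T := (.node (nat_lit 3840) l47 l48)
noncomputable def n21 : T := (.node (nat_lit 4000) l49 (.node (nat_lit 4080) l50 l51))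
noncomputable def n22 : T := (.node (nat_lit 4240) l52 l53)
noncomputable def n23 : T := (.node (nat_lit 4400) l54 (.node (nat_lit 4480) l55 l56))
noncomputable def n24 : T := (.node (nat_lit 4640) l57 l58)
noncomputable def n25 : T := (.node (nat_lit 4800) l59 (.node (nat_lit 4880) l60 l61))
noncomputable def n26 : T := (.node (nat_lit 5040) l62 l63)
noncomputable def n27 : T := (.node (nat_lit 5200) l64 (.node (nat_lit 5280) l65 l66))
noncomputable def n28 : T := (.node (nat_lit 5440) l67 l68)
noncomputable def n29 : T := (.node (nat_lit 5600) l69 (.node (nat_lit 5680) l70 l71))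
noncomputable def n30 : T := (.node (nat_lit 5840) l72 l73)
noncomputable def n31 : T := (.node (nat_lit 6000) l74 (.node (nat_lit 6080) l75 l76))
noncomputable def n32 : T := (.node (nat_lit 3040) (.node (nat_lit 1520) (.node (nat_lit 720) (.node (nat_lit 320) (.node (nat_lit 160) n0 n1) (.node (nat_lit 480) n2 n3)) (.node (nat_lit 1120) (.node (nat_lit 880) n4 n5) (.node (nat_lit 1280) n6 n7))) (.node (nat_lit 2240) (.node (nat_lit 1840) (.node (nat_lit 1680) n8 n9) (.node (nat_lit 2000) n10 n11)) (.node (nat_lit 2640) (.node (nat_lit 2400) n12 n13) (.node (nat_lit 2800) n14 n15)))) (.node (nat_lit 4560) (.node (nat_lit 3760) (.node (nat_lit 3360) (.node (nat_lit 3200) n16 n17) (.node (nat_lit 3520) n18 n19)) (.node (nat_lit 4160) (.node (nat_lit 3920) n20 n21) (.node (nat_lit 4320) n22 n23))) (.node (nat_lit 5360) (.node (nat_lit 4960) (.node (nat_lit 4720) n24 n25) (.node (nat_lit 5120) n26 n27)) (.node (nat_lit 5760) (.node (nat_lit 5520) n28 n29) (.node (nat_lit 5920) n30 n31)))))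
noncomputable def n33 : T := (.node (nat_lit 6240) l77 l78)
noncomputable def n34 : T := (.node (nat_lit 6400) l79 l80)
noncomputable def n35 : T := (.node (nat_lit 6560) l81 l82)
noncomputable def n36 : T := (.node (nat_lit 6720) l83 (.node (nat_lit 6800) l84 l85))
noncomputable def n37 : T := (.node (nat_lit 6960) l86 l87)
noncomputable def n38 : T := (.node (nat_lit 7120) l88 (.node (nat_lit 7200) l89 l90))
noncomputable def n39 : T := (.node (nat_lit 7360) l91 l92)
noncomputable def n40 : T := (.node (nat_lit 7520) l93 (.node (nat_lit 7600) l94 l95))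
noncomputable def n41 : T := (.node (nat_lit 7760) l96 l97)
noncomputable def n42 : T := (.node (nat_lit 7920) l98 l99)
noncomputable def n43 : T := (.node (nat_lit 8080) l100 l101)
noncomputable def n44 : T := (.node (nat_lit 8240) l102 (.node (nat_lit 8320) l103 l104))
noncomputable def n45 : T := (.node (nat_lit 8480) l105 l106)
noncomputable def n46 : T := (.node (nat_lit 8640) l107 (.node (nat_lit 8720) l108 l109))
noncomputable def n47 : T := (.node (nat_lit 8880) l110 l111)
noncomputable def n48 : T := (.node (nat_lit 9040) l112 (.node (nat_lit 9120) l113 l114))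
noncomputable def n49 : T := (.node (nat_lit 9280) l115 l116)
noncomputable def n50 : T := (.node (nat_lit 9440) l117 l118)
noncomputable def n51 : T := (.node (nat_lit 9600) l119 l120)
noncomputable def n52 : T := (.node (nat_lit 9760) l121 (.node (nat_lit 9840) l122 l123))
noncomputable def n53 : T := (.node (nat_lit 10000) l124 l125)
noncomputable def n54 : T := (.node (nat_lit 10160) l126 (.node (nat_lit 10240) l127 l128))
noncomputable def n55 : T := (.node (nat_lit 10400) l129 l130)
noncomputable def n56 : T := (.node (nat_lit 10560) l131 (.node (nat_lit 10640) l132 l133))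
noncomputable def n57 : T := (.node (nat_lit 10800) l134 l135)
noncomputable def n58 : T := (.node (nat_lit 10960) l136 (.node (nat_lit 11040) l137 l138))
noncomputable def n59 : T := (.node (nat_lit 11200) l139 l140)
noncomputable def n60 : T := (.node (nat_lit 11360) l141 (.node (nat_lit 11440) l142 l143))
noncomputable def n61 : T := (.node (nat_lit 11600) l144 l145)
noncomputable def n62 : T := (.node (nat_lit 11760) l146 (.node (nat_lit 11840) l147 l148))
noncomputable def n63 : T := (.node (nat_lit 12000) l149 l150)
noncomputable def n64 : T := (.node (nat_lit 12160) l151 (.node (nat_lit 12240) l152 l153))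
noncomputable def n65 : T := (.node (nat_lit 9200) (.node (nat_lit 7680) (.node (nat_lit 6880) (.node (nat_lit 6480) (.node (nat_lit 6320) n33 n34) (.node (nat_lit 6640) n35 n36)) (.node (nat_lit 7280) (.node (nat_lit 7040) n37 n38) (.node (nat_lit 7440) n39 n40))) (.node (nat_lit 8400) (.node (nat_lit 8000) (.node (nat_lit 7840) n41 n42) (.node (nat_lit 8160) n43 n44)) (.node (nat_lit 8800) (.node (nat_lit 8560) n45 n46) (.node (nat_lit 8960) n47 n48)))) (.node (nat_lit 10720) (.node (nat_lit 9920) (.node (nat_lit 9520) (.node (nat_lit 9360) n49 n50) (.node (nat_lit 9680) n51 n52)) (.node (nat_lit 10320) (.node (nat_lit 10080) n53 n54) (.node (nat_lit 10480) n55 n56))) (.node (nat_lit 11520) (.node (nat_lit 11120) (.node (nat_lit 10880) n57 n58) (.node (nat_lit 11280) n59 n60)) (.node (nat_lit 11920) (.node (nat_lit 11680) n61 n62) (.node (nat_lit 12080) n63 n64)))))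
noncomputable def n66 : T := (.node (nat_lit 12400) l154 l155)
noncomputable def n67 : T := (.node (nat_lit 12560) l156 l157)
noncomputable def n68 : T := (.node (nat_lit 12720) l158 l159)
noncomputable def n69 : T := (.node (nat_lit 12880) l160 (.node (nat_lit 12960) l161 l162))
noncomputable def n70 : T := (.node (nat_lit 13120) l163 l164)
noncomputable def n71 : T := (.node (nat_lit 13280) l165 (.node (nat_lit 13360) l166 l167))
noncomputable def n72 : T := (.node (nat_lit 13520) l168 l169)
noncomputable def n73 : T := (.node (nat_lit 13680) l170 (.node (nat_lit 13760) l171 l172))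
noncomputable def n74 : T := (.node (nat_lit 13920) l173 l174)
noncomputable def n75 : T := (.node (nat_lit 14080) l175 l176)
noncomputable def n76 : T := (.node (nat_lit 14240) l177 l178)
noncomputable def n77 : T := (.node (nat_lit 14400) l179 (.node (nat_lit 14480) l180 l181))
noncomputable def n78 : T := (.node (nat_lit 14640) l182 l183)
noncomputable def n79 : T := (.node (nat_lit 14800) l184 (.node (nat_lit 14880) l185 l186))
noncomputable def n80 : T := (.node (nat_lit 15040) l187 l188)
noncomputable def n81 : T := (.node (nat_lit 15200) l189 (.node (nat_lit 15280) l190 l191))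
noncomputable def n82 : T := (.node (nat_lit 15440) l192 l193)
noncomputable def n83 : T := (.node (nat_lit 15600) l194 l195)
noncomputable def n84 : T := (.node (nat_lit 15760) l196 l197)
noncomputable def n85 : T := (.node (nat_lit 15920) l198 (.node (nat_lit 16000) l199 l200))
noncomputable def n86 : T := (.node (nat_lit 16160) l201 l202)
noncomputable def n87 : T := (.node (nat_lit 16320) l203 (.node (nat_lit 16400) l204 l205))
noncomputable def n88 : T := (.node (nat_lit 16560) l206 l207)
noncomputable def n89 : T := (.node (nat_lit 16720) l208 (.node (nat_lit 16800) l209 l210))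
noncomputable def n90 : T := (.node (nat_lit 16960) l211 l212)
noncomputable def n91 : T := (.node (nat_lit 17120) l213 (.node (nat_lit 17200) l214 l215))
noncomputable def n92 : T := (.node (nat_lit 17360) l216 l217)
noncomputable def n93 : T := (.node (nat_lit 17520) l218 (.node (nat_lit 17600) l219 l220))
noncomputable def n94 : T := (.node (nat_lit 17760) l221 l222)
noncomputable def n95 : T := (.node (nat_lit 17920) l223 (.node (nat_lit 18000) l224 l225))
noncomputable def n96 : T := (.node (nat_lit 18160) l226 l227)
noncomputable def n97 : T := (.node (nat_lit 18320) l228 (.node (nat_lit 18400) l229 l230))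
noncomputable def n98 : T := (.node (nat_lit 15360) (.node (nat_lit 13840) (.node (nat_lit 13040) (.node (nat_lit 12640) (.node (nat_lit 12480) n66 n67) (.node (nat_lit 12800) n68 n69)) (.node (nat_lit 13440) (.node (nat_lit 13200) n70 n71) (.node (nat_lit 13600) n72 n73))) (.node (nat_lit 14560) (.node (nat_lit 14160) (.node (nat_lit 14000) n74 n75) (.node (nat_lit 14320) n76 n77)) (.node (nat_lit 14960) (.node (nat_lit 14720) n78 n79) (.node (nat_lit 15120) n80 n81)))) (.node (nat_lit 16880) (.node (nat_lit 16080) (.node (nat_lit 15680) (.node (nat_lit 15520) n82 n83) (.node (nat_lit 15840) n84 n85)) (.node (nat_lit 16480) (.node (nat_lit 16240) n86 n87) (.node (nat_lit 16640) n88 n89))) (.node (nat_lit 17680) (.node (nat_lit 17280) (.node (nat_lit 17040) n90 n91) (.node (nat_lit 17440) n92 n93)) (.node (nat_lit 18080) (.node (nat_lit 17840) n94 n95) (.node (nat_lit 18240) n96 n97)))))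
noncomputable def n99 : T := (.node (nat_lit 18560) l231 l232)
noncomputable def n100 : T := (.node (nat_lit 18720) l233 l234)
noncomputable def n101 : T := (.node (nat_lit 18880) l235 l236)
noncomputable def n102 : T := (.node (nat_lit 19040) l237 (.node (nat_lit 19120) l238 l239))
noncomputable def n103 : T := (.node (nat_lit 19280) l240 l241)
noncomputable def n104 : T := (.node (nat_lit 19440) l242 (.node (nat_lit 19520) l243 l244))
noncomputable def n105 : T := (.node (nat_lit 19680) l245 l246)
noncomputable def n106 : T := (.node (nat_lit 19840) l247 (.node (nat_lit 19920) l248 l249))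
noncomputable def n107 : T := (.node (nat_lit 20080) l250 l251)
noncomputable def n108 : T := (.node (nat_lit 20240) l252 l253)
noncomputable def n109 : T := (.node (nat_lit 20400) l254 l255)
noncomputable def n110 : T := (.node (nat_lit 20560) l256 (.node (nat_lit 20640) l257 l258))
noncomputable def n111 : T := (.node (nat_lit 20800) l259 l260)
noncomputable def n112 : T := (.node (nat_lit 20960) l261 (.node (nat_lit 21040) l262 l263))
noncomputable def n113 : T := (.node (nat_lit 21200) l264 l265)
noncomputable def n114 : T := (.node (nat_lit 21360) l266 (.node (nat_lit 21440) l267 l268))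
noncomputable def n115 : T := (.node (nat_lit 21600) l269 l270)
noncomputable def n116 : T := (.node (nat_lit 21760) l271 l272)
noncomputable def n117 : T := (.node (nat_lit 21920) l273 l274)
noncomputable def n118 : T := (.node (nat_lit 22080) l275 (.node (nat_lit 22160) l276 l277))
noncomputable def n119 : T := (.node (nat_lit 22320) l278 l279)
noncomputable def n120 : T := (.node (nat_lit 22480) l280 (.node (nat_lit 22560) l281 l282))
noncomputable def n121 : T := (.node (nat_lit 22720) l283 l284)
noncomputable def n122 : T := (.node (nat_lit 22880) l285 (.node (nat_lit 22960) l286 l287))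
noncomputable def n123 : T := (.node (nat_lit 23120) l288 l289)
noncomputable def n124 : T := (.node (nat_lit 23280) l290 (.node (nat_lit 23360) l291 l292))
noncomputable def n125 : T := (.node (nat_lit 23520) l293 l294)
noncomputable def n126 : T := (.node (nat_lit 23680) l295 (.node (nat_lit 23760) l296 l297))
noncomputable def n127 : T := (.node (nat_lit 23920) l298 l299)
noncomputable def n128 : T := (.node (nat_lit 24080) l300 (.node (nat_lit 24160) l301 l302))
noncomputable def n129 : T := (.node (nat_lit 24320) l303 l304)
noncomputable def n130 : T := (.node (nat_lit 24480) l305 (.node (nat_lit 24560) l306 l307))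
noncomputable def n131 : T := (.node (nat_lit 21520) (.node (nat_lit 20000) (.node (nat_lit 19200) (.node (nat_lit 18800) (.node (nat_lit 18640) n99 n100) (.node (nat_lit 18960) n101 n102)) (.node (nat_lit 19600) (.node (nat_lit 19360) n103 n104) (.node (nat_lit 19760) n105 n106))) (.node (nat_lit 20720) (.node (nat_lit 20320) (.node (nat_lit 20160) n107 n108) (.node (nat_lit 20480) n109 n110)) (.node (nat_lit 21120) (.node (nat_lit 20880) n111 n112) (.node (nat_lit 21280) n113 n114)))) (.node (nat_lit 23040) (.node (nat_lit 22240) (.node (nat_lit 21840) (.node (nat_lit 21680) n115 n116) (.node (nat_lit 22000) n117 n118)) (.node (nat_lit 22640) (.node (nat_lit 22400) n119 n120) (.node (nat_lit 22800) n121 n122))) (.node (nat_lit 23840) (.node (nat_lit 23440) (.node (nat_lit 23200) n123 n124) (.node (nat_lit 23600) n125 n126)) (.node (nat_lit 24240) (.node (nat_lit 24000) n127 n128) (.node (nat_lit 24400) n129 n130)))))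
noncomputable def n132 : T := (.node (nat_lit 24720) l308 l309)
noncomputable def n133 : T := (.node (nat_lit 24880) l310 l311)
noncomputable def n134 : T := (.node (nat_lit 25040) l312 l313)
noncomputable def n135 : T := (.node (nat_lit 25200) l314 (.node (nat_lit 25280) l315 l316))
noncomputable def n136 : T := (.node (nat_lit 25440) l317 l318)
noncomputable def n137 : T := (.node (nat_lit 25600) l319 (.node (nat_lit 25680) l320 l321))
noncomputable def n138 : T := (.node (nat_lit 25840) l322 l323)
noncomputable def n139 : T := (.node (nat_lit 26000) l324 (.node (nat_lit 26080) l325 l326))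
noncomputable def n140 : T := (.node (nat_lit 26240) l327 l328)
noncomputable def n141 : T := (.node (nat_lit 26400) l329 l330)
noncomputable def n142 : T := (.node (nat_lit 26560) l331 l332)
noncomputable def n143 : T := (.node (nat_lit 26720) l333 (.node (nat_lit 26800) l334 l335))
noncomputable def n144 : T := (.node (nat_lit 26960) l336 l337)
noncomputable def n145 : T := (.node (nat_lit 27120) l338 (.node (nat_lit 27200) l339 l340))
noncomputable def n146 : T := (.node (nat_lit 27360) l341 l342)
noncomputable def n147 : T := (.node (nat_lit 27520) l343 (.node (nat_lit 27600) l344 l345))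
noncomputable def n148 : T := (.node (nat_lit 27760) l346 l347)
noncomputable def n149 : T := (.node (nat_lit 27920) l348 l349)
noncomputable def n150 : T := (.node (nat_lit 28080) l350 l351)
noncomputable def n151 : T := (.node (nat_lit 28240) l352 (.node (nat_lit 28320) l353 l354))
noncomputable def n152 : T := (.node (nat_lit 28480) l355 l356)
noncomputable def n153 : T := (.node (nat_lit 28640) l357 (.node (nat_lit 28720) l358 l359))
noncomputable def n154 : T := (.node (nat_lit 28880) l360 l361)
noncomputable def n155 : T := (.node (nat_lit 29040) l362 (.node (nat_lit 29120) l363 l364))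
noncomputable def n156 : T := (.node (nat_lit 29280) l365 l366)
noncomputable def n157 : T := (.node (nat_lit 29440) l367 (.node (nat_lit 29520) l368 l369))
noncomputable def n158 : T := (.node (nat_lit 29680) l370 l371)
noncomputable def n159 : T := (.node (nat_lit 29840) l372 (.node (nat_lit 29920) l373 l374))
noncomputable def n160 : T := (.node (nat_lit 30080) l375 l376)
noncomputable def n161 : T := (.node (nat_lit 30240) l377 (.node (nat_lit 30320) l378 l379))
noncomputable def n162 : T := (.node (nat_lit 30480) l380 l381)
noncomputable def n163 : T := (.node (nat_lit 30640) l382 (.node (nat_lit 30720) l383 l384))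
noncomputable def n164 : T := (.node (nat_lit 27680) (.node (nat_lit 26160) (.node (nat_lit 25360) (.node (nat_lit 24960) (.node (nat_lit 24800) n132 n133) (.node (nat_lit 25120) n134 n135)) (.node (nat_lit 25760) (.node (nat_lit 25520) n136 n137) (.node (nat_lit 25920) n138 n139))) (.node (nat_lit 26880) (.node (nat_lit 26480) (.node (nat_lit 26320) n140 n141) (.node (nat_lit 26640) n142 n143)) (.node (nat_lit 27280) (.node (nat_lit 27040) n144 n145) (.node (nat_lit 27440) n146 n147)))) (.node (nat_lit 29200) (.node (nat_lit 28400) (.node (nat_lit 28000) (.node (nat_lit 27840) n148 n149) (.node (nat_lit 28160) n150 n151)) (.node (nat_lit 28800) (.node (nat_lit 28560) n152 n153) (.node (nat_lit 28960) n154 n155))) (.node (nat_lit 30000) (.node (nat_lit 29600) (.node (nat_lit 29360) n156 n157) (.node (nat_lit 29760) n158 n159)) (.node (nat_lit 30400) (.node (nat_lit 30160) n160 n161) (.node (nat_lit 30560) n162 n163)))))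
noncomputable def n165 : T := (.node (nat_lit 30880) l385 l386)
noncomputable def n166 : T := (.node (nat_lit 31040) l387 l388)
noncomputable def n167 : T := (.node (nat_lit 31200) l389 l390)
noncomputable def n168 : T := (.node (nat_lit 31360) l391 (.node (nat_lit 31440) l392 l393))
noncomputable def n169 : T := (.node (nat_lit 31600) l394 l395)
noncomputable def n170 : T := (.node (nat_lit 31760) l396 (.node (nat_lit 31840) l397 l398))
noncomputable def n171 : T := (.node (nat_lit 32000) l399 l400)
noncomputable def n172 : T := (.node (nat_lit 32160) l401 (.node (nat_lit 32240) l402 l403))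
noncomputable def n173 : T := (.node (nat_lit 32400) l404 l405)
noncomputable def n174 : T := (.node (nat_lit 32560) l406 l407)
noncomputable def n175 : T := (.node (nat_lit 32720) l408 l409)
noncomputable def n176 : T := (.node (nat_lit 32880) l410 (.node (nat_lit 32960) l411 l412))
noncomputable def n177 : T := (.node (nat_lit 33120) l413 l414)
noncomputable def n178 : T := (.node (nat_lit 33280) l415 (.node (nat_lit 33360) l416 l417))
noncomputable def n179 : T := (.node (nat_lit 33520) l418 l419)
noncomputable def n180 : T := (.node (nat_lit 33680) l420 (.node (nat_lit 33760) l421 l422))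
noncomputable def n181 : T := (.node (nat_lit 33920) l423 l424)
noncomputable def n182 : T := (.node (nat_lit 34080) l425 l426)
noncomputable def n183 : T := (.node (nat_lit 34240) l427 l428)
noncomputable def n184 : T := (.node (nat_lit 34400) l429 (.node (nat_lit 34480) l430 l431))
noncomputable def n185 : T := (.node (nat_lit 34640) l432 l433)
noncomputable def n186 : T := (.node (nat_lit 34800) l434 (.node (nat_lit 34880) l435 l436))
noncomputable def n187 : T := (.node (nat_lit 35040) l437 l438)
noncomputable def n188 : T := (.node (nat_lit 35200) l439 (.node (nat_lit 35280) l440 l441))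
noncomputable def n189 : T := (.node (nat_lit 35440) l442 l443)
noncomputable def n190 : T := (.node (nat_lit 35600) l444 (.node (nat_lit 35680) l445 l446))
noncomputable def n191 : T := (.node (nat_lit 35840) l447 l448)
noncomputable def n192 : T := (.node (nat_lit 36000) l449 (.node (nat_lit 36080) l450 l451))
noncomputable def n193 : T := (.node (nat_lit 36240) l452 l453)
noncomputable def n194 : T := (.node (nat_lit 36400) l454 (.node (nat_lit 36480) l455 l456))
noncomputable def n195 : T := (.node (nat_lit 36640) l457 l458)
noncomputable def n196 : T := (.node (nat_lit 36800) l459 (.node (nat_lit 36880) l460 l461))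
noncomputable def n197 : T := (.node (nat_lit 33840) (.node (nat_lit 32320) (.node (nat_lit 31520) (.node (nat_lit 31120) (.node (nat_lit 30960) n165 n166) (.node (nat_lit 31280) n167 n168)) (.node (nat_lit 31920) (.node (nat_lit 31680) n169 n170) (.node (nat_lit 32080) n171 n172))) (.node (nat_lit 33040) (.node (nat_lit 32640) (.node (nat_lit 32480) n173 n174) (.node (nat_lit 32800) n175 n176)) (.node (nat_lit 33440) (.node (nat_lit 33200) n177 n178) (.node (nat_lit 33600) n179 n180)))) (.node (nat_lit 35360) (.node (nat_lit 34560) (.node (nat_lit 34160) (.node (nat_lit 34000) n181 n182) (.node (nat_lit 34320) n183 n184)) (.node (nat_lit 34960) (.node (nat_lit 34720) n185 n186) (.node (nat_lit 35120) n187 n188))) (.node (nat_lit 36160) (.node (nat_lit 35760) (.node (nat_lit 35520) n189 n190) (.node (nat_lit 35920) n191 n192)) (.node (nat_lit 36560) (.node (nat_lit 36320) n193 n194) (.node (nat_lit 36720) n195 n196)))))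
noncomputable def n198 : T := (.node (nat_lit 37040) l462 l463)
noncomputable def n199 : T := (.node (nat_lit 37200) l464 l465)
noncomputable def n200 : T := (.node (nat_lit 37360) l466 l467)
noncomputable def n201 : T := (.node (nat_lit 37520) l468 (.node (nat_lit 37600) l469 l470))
noncomputable def n202 : T := (.node (nat_lit 37760) l471 l472)
noncomputable def n203 : T := (.node (nat_lit 37920) l473 (.node (nat_lit 38000) l474 l475))
noncomputable def n204 : T := (.node (nat_lit 38160) l476 l477)
noncomputable def n205 : T := (.node (nat_lit 38320) l478 (.node (nat_lit 38400) l479 l480))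
noncomputable def n206 : T := (.node (nat_lit 38560) l481 l482)
noncomputable def n207 : T := (.node (nat_lit 38720) l483 l484)
noncomputable def n208 : T := (.node (nat_lit 38880) l485 l486)
noncomputable def n209 : T := (.node (nat_lit 39040) l487 (.node (nat_lit 39120) l488 l489))
noncomputable def n210 : T := (.node (nat_lit 39280) l490 l491)
noncomputable def n211 : T := (.node (nat_lit 39440) l492 (.node (nat_lit 39520) l493 l494))
noncomputable def n212 : T := (.node (nat_lit 39680) l495 l496)
noncomputable def n213 : T := (.node (nat_lit 39840) l497 (.node (nat_lit 39920) l498 l499))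
noncomputable def n214 : T := (.node (nat_lit 40080) l500 l501)
noncomputable def n215 : T := (.node (nat_lit 40240) l502 l503)
noncomputable def n216 : T := (.node (nat_lit 40400) l504 l505)
noncomputable def n217 : T := (.node (nat_lit 40560) l506 (.node (nat_lit 40640) l507 l508))
noncomputable def n218 : T := (.node (nat_lit 40800) l509 l510)
noncomputable def n219 : T := (.node (nat_lit 40960) l511 (.node (nat_lit 41040) l512 l513))
noncomputable def n220 : T := (.node (nat_lit 41200) l514 l515)
noncomputable def n221 : T := (.node (nat_lit 41360) l516 (.node (nat_lit 41440) l517 l518))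
noncomputable def n222 : T := (.node (nat_lit 41600) l519 l520)
noncomputable def n223 : T := (.node (nat_lit 41760) l521 (.node (nat_lit 41840) l522 l523))
noncomputable def n224 : T := (.node (nat_lit 42000) l524 l525)
noncomputable def n225 : T := (.node (nat_lit 42160) l526 (.node (nat_lit 42240) l527 l528))
noncomputable def n226 : T := (.node (nat_lit 42400) l529 l530)
noncomputable def n227 : T := (.node (nat_lit 42560) l531 (.node (nat_lit 42640) l532 l533))
noncomputable def n228 : T := (.node (nat_lit 42800) l534 l535)
noncomputable def n229 : T := (.node (nat_lit 42960) l536 (.node (nat_lit 43040) l537 l538))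
noncomputable def n230 : T := (.node (nat_lit 40000) (.node (nat_lit 38480) (.node (nat_lit 37680) (.node (nat_lit 37280) (.node (nat_lit 37120) n198 n199) (.node (nat_lit 37440) n200 n201)) (.node (nat_lit 38080) (.node (nat_lit 37840) n202 n203) (.node (nat_lit 38240) n204 n205))) (.node (nat_lit 39200) (.node (nat_lit 38800) (.node (nat_lit 38640) n206 n207) (.node (nat_lit 38960) n208 n209)) (.node (nat_lit 39600) (.node (nat_lit 39360) n210 n211) (.node (nat_lit 39760) n212 n213)))) (.node (nat_lit 41520) (.node (nat_lit 40720) (.node (nat_lit 40320) (.node (nat_lit 40160) n214 n215) (.node (nat_lit 40480) n216 n217)) (.node (nat_lit 41120) (.node (nat_lit 40880) n218 n219) (.node (nat_lit 41280) n220 n221))) (.node (nat_lit 42320) (.node (nat_lit 41920) (.node (nat_lit 41680) n222 n223) (.node (nat_lit 42080) n224 n225)) (.node (nat_lit 42720) (.node (nat_lit 42480) n226 n227) (.node (nat_lit 42880) n228 n229)))))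
noncomputable def n231 : T := (.node (nat_lit 43200) l539 l540)
noncomputable def n232 : T := (.node (nat_lit 43360) l541 l542)
noncomputable def n233 : T := (.node (nat_lit 43520) l543 l544)
noncomputable def n234 : T := (.node (nat_lit 43680) l545 (.node (nat_lit 43760) l546 l547))
noncomputable def n235 : T := (.node (nat_lit 43920) l548 l549)
noncomputable def n236 : T := (.node (nat_lit 44080) l550 (.node (nat_lit 44160) l551 l552))
noncomputable def n237 : T := (.node (nat_lit 44320) l553 l554)
noncomputable def n238 : T := (.node (nat_lit 44480) l555 (.node (nat_lit 44560) l556 l557))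
noncomputable def n239 : T := (.node (nat_lit 44720) l558 l559)
noncomputable def n240 : T := (.node (nat_lit 44880) l560 (.node (nat_lit 44960) l561 l562))
noncomputable def n241 : T := (.node (nat_lit 45120) l563 l564)
noncomputable def n242 : T := (.node (nat_lit 45280) l565 (.node (nat_lit 45360) l566 l567))
noncomputable def n243 : T := (.node (nat_lit 45520) l568 l569)
noncomputable def n244 : T := (.node (nat_lit 45680) l570 (.node (nat_lit 45760) l571 l572))
noncomputable def n245 : T := (.node (nat_lit 45920) l573 l574)
noncomputable def n246 : T := (.node (nat_lit 46080) l575 (.node (nat_lit 46160) l576 l577))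
noncomputable def n247 : T := (.node (nat_lit 46320) l578 l579)
noncomputable def n248 : T := (.node (nat_lit 46480) l580 l581)
noncomputable def n249 : T := (.node (nat_lit 46640) l582 l583)
noncomputable def n250 : T := (.node (nat_lit 46800) l584 (.node (nat_lit 46880) l585 l586))
noncomputable def n251 : T := (.node (nat_lit 47040) l587 l588)
noncomputable def n252 : T := (.node (nat_lit 47200) l589 (.node (nat_lit 47280) l590 l591))
noncomputable def n253 : T := (.node (nat_lit 47440) l592 l593)
noncomputable def n254 : T := (.node (nat_lit 47600) l594 (.node (nat_lit 47680) l595 l596))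
noncomputable def n255 : T := (.node (nat_lit 47840) l597 l598)
noncomputable def n256 : T := (.node (nat_lit 48000) l599 (.node (nat_lit 48080) l600 l601))
noncomputable def n257 : T := (.node (nat_lit 48240) l602 l603)
noncomputable def n258 : T := (.node (nat_lit 48400) l604 (.node (nat_lit 48480) l605 l606))
noncomputable def n259 : T := (.node (nat_lit 48640) l607 l608)
noncomputable def n260 : T := (.node (nat_lit 48800) l609 (.node (nat_lit 48880) l610 l611))
noncomputable def n261 : T := (.node (nat_lit 49040) l612 l613)
noncomputable def n262 : T := (.node (nat_lit 49200) l614 (.node (nat_lit 49280) l615 l616))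
noncomputable def n263 : T := (.node (nat_lit 46240) (.node (nat_lit 44640) (.node (nat_lit 43840) (.node (nat_lit 43440) (.node (nat_lit 43280) n231 n232) (.node (nat_lit 43600) n233 n234)) (.node (nat_lit 44240) (.node (nat_lit 44000) n235 n236) (.node (nat_lit 44400) n237 n238))) (.node (nat_lit 45440) (.node (nat_lit 45040) (.node (nat_lit 44800) n239 n240) (.node (nat_lit 45200) n241 n242)) (.node (nat_lit 45840) (.node (nat_lit 45600) n243 n244) (.node (nat_lit 46000) n245 n246)))) (.node (nat_lit 47760) (.node (nat_lit 46960) (.node (nat_lit 46560) (.node (nat_lit 46400) n247 n248) (.node (nat_lit 46720) n249 n250)) (.node (nat_lit 47360) (.node (nat_lit 47120) n251 n252) (.node (nat_lit 47520) n253 n254))) (.node (nat_lit 48560) (.node (nat_lit 48160) (.node (nat_lit 47920) n255 n256) (.node (nat_lit 48320) n257 n258)) (.node (nat_lit 48960) (.node (nat_lit 48720) n259 n260) (.node (nat_lit 49120) n261 n262)))))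
noncomputable def n264 : T := (.node (nat_lit 49440) l617 l618)
noncomputable def n265 : T := (.node (nat_lit 49600) l619 l620)
noncomputable def n266 : T := (.node (nat_lit 49760) l621 l622)
noncomputable def n267 : T := (.node (nat_lit 49920) l623 (.node (nat_lit 50000) l624 l625))
noncomputable def n268 : T := (.node (nat_lit 50160) l626 l627)
noncomputable def n269 : T := (.node (nat_lit 50320) l628 (.node (nat_lit 50400) l629 l630))
noncomputable def n270 : T := (.node (nat_lit 50560) l631 l632)
noncomputable def n271 : T := (.node (nat_lit 50720) l633 (.node (nat_lit 50800) l634 l635))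
noncomputable def n272 : T := (.node (nat_lit 50960) l636 l637)
noncomputable def n273 : T := (.node (nat_lit 51120) l638 l639)
noncomputable def n274 : T := (.node (nat_lit 51280) l640 l641)
noncomputable def n275 : T := (.node (nat_lit 51440) l642 (.node (nat_lit 51520) l643 l644))
noncomputable def n276 : T := (.node (nat_lit 51680) l645 l646)
noncomputable def n277 : T := (.node (nat_lit 51840) l647 (.node (nat_lit 51920) l648 l649))
noncomputable def n278 : T := (.node (nat_lit 52080) l650 l651)
noncomputable def n279 : T := (.node (nat_lit 52240) l652 (.node (nat_lit 52320) l653 l654))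
noncomputable def n280 : T := (.node (nat_lit 52480) l655 l656)
noncomputable def n281 : T := (.node (nat_lit 52640) l657 l658)
noncomputable def n282 : T := (.node (nat_lit 52800) l659 l660)
noncomputable def n283 : T := (.node (nat_lit 52960) l661 (.node (nat_lit 53040) l662 l663))
noncomputable def n284 : T := (.node (nat_lit 53200) l664 l665)
noncomputable def n285 : T := (.node (nat_lit 53360) l666 (.node (nat_lit 53440) l667 l668))
noncomputable def n286 : T := (.node (nat_lit 53600) l669 l670)
noncomputable def n287 : T := (.node (nat_lit 53760) l671 (.node (nat_lit 53840) l672 l673))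
noncomputable def n288 : T := (.node (nat_lit 54000) l674 l675)
noncomputable def n289 : T := (.node (nat_lit 54160) l676 (.node (nat_lit 54240) l677 l678))
noncomputable def n290 : T := (.node (nat_lit 54400) l679 l680)
noncomputable def n291 : T := (.node (nat_lit 54560) l681 (.node (nat_lit 54640) l682 l683))
noncomputable def n292 : T := (.node (nat_lit 54800) l684 l685)
noncomputable def n293 : T := (.node (nat_lit 54960) l686 (.node (nat_lit 55040) l687 l688))
noncomputable def n294 : T := (.node (nat_lit 55200) l689 l690)
noncomputable def n295 : T := (.node (nat_lit 55360) l691 (.node (nat_lit 55440) l692 l693))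
noncomputable def n296 : T := (.node (nat_lit 52400) (.node (nat_lit 50880) (.node (nat_lit 50080) (.node (nat_lit 49680) (.node (nat_lit 49520) n264 n265) (.node (nat_lit 49840) n266 n267)) (.node (nat_lit 50480) (.node (nat_lit 50240) n268 n269) (.node (nat_lit 50640) n270 n271))) (.node (nat_lit 51600) (.node (nat_lit 51200) (.node (nat_lit 51040) n272 n273) (.node (nat_lit 51360) n274 n275)) (.node (nat_lit 52000) (.node (nat_lit 51760) n276 n277) (.node (nat_lit 52160) n278 n279)))) (.node (nat_lit 53920) (.node (nat_lit 53120) (.node (nat_lit 52720) (.node (nat_lit 52560) n280 n281) (.node (nat_lit 52880) n282 n283)) (.node (nat_lit 53520) (.node (nat_lit 53280) n284 n285) (.node (nat_lit 53680) n286 n287))) (.node (nat_lit 54720) (.node (nat_lit 54320) (.node (nat_lit 54080) n288 n289) (.node (nat_lit 54480) n290 n291)) (.node (nat_lit 55120) (.node (nat_lit 54880) n292 n293) (.node (nat_lit 55280) n294 n295)))))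
noncomputable def n297 : T := (.node (nat_lit 55600) l694 l695)
noncomputable def n298 : T := (.node (nat_lit 55760) l696 l697)
noncomputable def n299 : T := (.node (nat_lit 55920) l698 l699)
noncomputable def n300 : T := (.node (nat_lit 56080) l700 (.node (nat_lit 56160) l701 l702))
noncomputable def n301 : T := (.node (nat_lit 56320) l703 l704)
noncomputable def n302 : T := (.node (nat_lit 56480) l705 (.node (nat_lit 56560) l706 l707))
noncomputable def n303 : T := (.node (nat_lit 56720) l708 l709)
noncomputable def n304 : T := (.node (nat_lit 56880) l710 (.node (nat_lit 56960) l711 l712))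
noncomputable def n305 : T := (.node (nat_lit 57120) l713 l714)
noncomputable def n306 : T := (.node (nat_lit 57280) l715 l716)
noncomputable def n307 : T := (.node (nat_lit 57440) l717 l718)
noncomputable def n308 : T := (.node (nat_lit 57600) l719 (.node (nat_lit 57680) l720 l721))
noncomputable def n309 : T := (.node (nat_lit 57840) l722 l723)
noncomputable def n310 : T := (.node (nat_lit 58000) l724 (.node (nat_lit 58080) l725 l726))
noncomputable def n311 : T := (.node (nat_lit 58240) l727 l728)
noncomputable def n312 : T := (.node (nat_lit 58400) l729 (.node (nat_lit 58480) l730 l731))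
noncomputable def n313 : T := (.node (nat_lit 58640) l732 l733)
noncomputable def n314 : T := (.node (nat_lit 58800) l734 l735)
noncomputable def n315 : T := (.node (nat_lit 58960) l736 l737)
noncomputable def n316 : T := (.node (nat_lit 59120) l738 (.node (nat_lit 59200) l739 l740))
noncomputable def n317 : T := (.node (nat_lit 59360) l741 l742)
noncomputable def n318 : T := (.node (nat_lit 59520) l743 (.node (nat_lit 59600) l744 l745))
noncomputable def n319 : T := (.node (nat_lit 59760) l746 l747)
noncomputable def n320 : T := (.node (nat_lit 59920) l748 (.node (nat_lit 60000) l749 l750))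
noncomputable def n321 : T := (.node (nat_lit 60160) l751 l752)
noncomputable def n322 : T := (.node (nat_lit 60320) l753 (.node (nat_lit 60400) l754 l755))
noncomputable def n323 : T := (.node (nat_lit 60560) l756 l757)
noncomputable def n324 : T := (.node (nat_lit 60720) l758 (.node (nat_lit 60800) l759 l760))
noncomputable def n325 : T := (.node (nat_lit 60960) l761 l762)
noncomputable def n326 : T := (.node (nat_lit 61120) l763 (.node (nat_lit 61200) l764 l765))
noncomputable def n327 : T := (.node (nat_lit 61360) l766 l767)
noncomputable def n328 : T := (.node (nat_lit 61520) l768 (.node (nat_lit 61600) l769 l770))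
noncomputable def n329 : T := (.node (nat_lit 58560) (.node (nat_lit 57040) (.node (nat_lit 56240) (.node (nat_lit 55840) (.node (nat_lit 55680) n297 n298) (.node (nat_lit 56000) n299 n300)) (.node (nat_lit 56640) (.node (nat_lit 56400) n301 n302) (.node (nat_lit 56800) n303 n304))) (.node (nat_lit 57760) (.node (nat_lit 57360) (.node (nat_lit 57200) n305 n306) (.node (nat_lit 57520) n307 n308)) (.node (nat_lit 58160) (.node (nat_lit 57920) n309 n310) (.node (nat_lit 58320) n311 n312)))) (.node (nat_lit 60080) (.node (nat_lit 59280) (.node (nat_lit 58880) (.node (nat_lit 58720) n313 n314) (.node (nat_lit 59040) n315 n316)) (.node (nat_lit 59680) (.node (nat_lit 59440) n317 n318) (.node (nat_lit 59840) n319 n320))) (.node (nat_lit 60880) (.node (nat_lit 60480) (.node (nat_lit 60240) n321 n322) (.node (nat_lit 60640) n323 n324)) (.node (nat_lit 61280) (.node (nat_lit 61040) n325 n326) (.node (nat_lit 61440) n327 n328)))))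
noncomputable def n330 : T := (.node (nat_lit 61760) l771 l772)
noncomputable def n331 : T := (.node (nat_lit 61920) l773 l774)
noncomputable def n332 : T := (.node (nat_lit 62080) l775 l776)
noncomputable def n333 : T := (.node (nat_lit 62240) l777 (.node (nat_lit 62320) l778 l779))
noncomputable def n334 : T := (.node (nat_lit 62480) l780 l781)
noncomputable def n335 : T := (.node (nat_lit 62640) l782 (.node (nat_lit 62720) l783 l784))
noncomputable def n336 : T := (.node (nat_lit 62880) l785 l786)
noncomputable def n337 : T := (.node (nat_lit 63040) l787 (.node (nat_lit 63120) l788 l789))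
noncomputable def n338 : T := (.node (nat_lit 63280) l790 l791)
noncomputable def n339 : T := (.node (nat_lit 63440) l792 l793)
noncomputable def n340 : T := (.node (nat_lit 63600) l794 l795)
noncomputable def n341 : T := (.node (nat_lit 63760) l796 (.node (nat_lit 63840) l797 l798))
noncomputable def n342 : T := (.node (nat_lit 64000) l799 l800)
noncomputable def n343 : T := (.node (nat_lit 64160) l801 (.node (nat_lit 64240) l802 l803))
noncomputable def n344 : T := (.node (nat_lit 64400) l804 l805)
noncomputable def n345 : T := (.node (nat_lit 64560) l806 (.node (nat_lit 64640) l807 l808))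
noncomputable def n346 : T := (.node (nat_lit 64800) l809 l810)
noncomputable def n347 : T := (.node (nat_lit 64960) l811 l812)
noncomputable def n348 : T := (.node (nat_lit 65120) l813 l814)
noncomputable def n349 : T := (.node (nat_lit 65280) l815 (.node (nat_lit 65360) l816 l817))
noncomputable def n350 : T := (.node (nat_lit 65520) l818 l819)
noncomputable def n351 : T := (.node (nat_lit 65680) l820 (.node (nat_lit 65760) l821 l822))
noncomputable def n352 : T := (.node (nat_lit 65920) l823 l824)
noncomputable def n353 : T := (.node (nat_lit 66080) l825 (.node (nat_lit 66160) l826 l827))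
noncomputable def n354 : T := (.node (nat_lit 66320) l828 l829)
noncomputable def n355 : T := (.node (nat_lit 66480) l830 (.node (nat_lit 66560) l831 l832))
noncomputable def n356 : T := (.node (nat_lit 66720) l833 l834)
noncomputable def n357 : T := (.node (nat_lit 66880) l835 (.node (nat_lit 66960) l836 l837))
noncomputable def n358 : T := (.node (nat_lit 67120) l838 l839)
noncomputable def n359 : T := (.node (nat_lit 67280) l840 (.node (nat_lit 67360) l841 l842))
noncomputable def n360 : T := (.node (nat_lit 67520) l843 l844)
noncomputable def n361 : T := (.node (nat_lit 67680) l845 (.node (nat_lit 67760) l846 l847))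
noncomputable def n362 : T := (.node (nat_lit 64720) (.node (nat_lit 63200) (.node (nat_lit 62400) (.node (nat_lit 62000) (.node (nat_lit 61840) n330 n331) (.node (nat_lit 62160) n332 n333)) (.node (nat_lit 62800) (.node (nat_lit 62560) n334 n335) (.node (nat_lit 62960) n336 n337))) (.node (nat_lit 63920) (.node (nat_lit 63520) (.node (nat_lit 63360) n338 n339) (.node (nat_lit 63680) n340 n341)) (.node (nat_lit 64320) (.node (nat_lit 64080) n342 n343) (.node (nat_lit 64480) n344 n345)))) (.node (nat_lit 66240) (.node (nat_lit 65440) (.node (nat_lit 65040) (.node (nat_lit 64880) n346 n347) (.node (nat_lit 65200) n348 n349)) (.node (nat_lit 65840) (.node (nat_lit 65600) n350 n351) (.node (nat_lit 66000) n352 n353))) (.node (nat_lit 67040) (.node (nat_lit 66640) (.node (nat_lit 66400) n354 n355) (.node (nat_lit 66800) n356 n357)) (.node (nat_lit 67440) (.node (nat_lit 67200) n358 n359) (.node (nat_lit 67600) n360 n361)))))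
noncomputable def n363 : T := (.node (nat_lit 67920) l848 l849)
noncomputable def n364 : T := (.node (nat_lit 68080) l850 l851)
noncomputable def n365 : T := (.node (nat_lit 68240) l852 l853)
noncomputable def n366 : T := (.node (nat_lit 68400) l854 (.node (nat_lit 68480) l855 l856))
noncomputable def n367 : T := (.node (nat_lit 68640) l857 l858)
noncomputable def n368 : T := (.node (nat_lit 68800) l859 (.node (nat_lit 68880) l860 l861))
noncomputable def n369 : T := (.node (nat_lit 69040) l862 l863)
noncomputable def n370 : T := (.node (nat_lit 69200) l864 (.node (nat_lit 69280) l865 l866))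
noncomputable def n371 : T := (.node (nat_lit 69440) l867 l868)
noncomputable def n372 : T := (.node (nat_lit 69600) l869 (.node (nat_lit 69680) l870 l871))
noncomputable def n373 : T := (.node (nat_lit 69840) l872 l873)
noncomputable def n374 : T := (.node (nat_lit 70000) l874 (.node (nat_lit 70080) l875 l876))
noncomputable def n375 : T := (.node (nat_lit 70240) l877 l878)
noncomputable def n376 : T := (.node (nat_lit 70400) l879 (.node (nat_lit 70480) l880 l881))
noncomputable def n377 : T := (.node (nat_lit 70640) l882 l883)
noncomputable def n378 : T := (.node (nat_lit 70800) l884 (.node (nat_lit 70880) l885 l886))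
noncomputable def n379 : T := (.node (nat_lit 71040) l887 l888)
noncomputable def n380 : T := (.node (nat_lit 71200) l889 l890)
noncomputable def n381 : T := (.node (nat_lit 71360) l891 l892)
noncomputable def n382 : T := (.node (nat_lit 71520) l893 (.node (nat_lit 71600) l894 l895))
noncomputable def n383 : T := (.node (nat_lit 71760) l896 l897)
noncomputable def n384 : T := (.node (nat_lit 71920) l898 (.node (nat_lit 72000) l899 l900))
noncomputable def n385 : T := (.node (nat_lit 72160) l901 l902)
noncomputable def n386 : T := (.node (nat_lit 72320) l903 (.node (nat_lit 72400) l904 l905))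
noncomputable def n387 : T := (.node (nat_lit 72560) l906 l907)
noncomputable def n388 : T := (.node (nat_lit 72720) l908 (.node (nat_lit 72800) l909 l910))
noncomputable def n389 : T := (.node (nat_lit 72960) l911 l912)
noncomputable def n390 : T := (.node (nat_lit 73120) l913 (.node (nat_lit 73200) l914 l915))
noncomputable def n391 : T := (.node (nat_lit 73360) l916 l917)
noncomputable def n392 : T := (.node (nat_lit 73520) l918 (.node (nat_lit 73600) l919 l920))
noncomputable def n393 : T := (.node (nat_lit 73760) l921 l922)
noncomputable def n394 : T := (.node (nat_lit 73920) l923 (.node (nat_lit 74000) l924 l925))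
noncomputable def n395 : T := (.node (nat_lit 70960) (.node (nat_lit 69360) (.node (nat_lit 68560) (.node (nat_lit 68160) (.node (nat_lit 68000) n363 n364) (.node (nat_lit 68320) n365 n366)) (.node (nat_lit 68960) (.node (nat_lit 68720) n367 n368) (.node (nat_lit 69120) n369 n370))) (.node (nat_lit 70160) (.node (nat_lit 69760) (.node (nat_lit 69520) n371 n372) (.node (nat_lit 69920) n373 n374)) (.node (nat_lit 70560) (.node (nat_lit 70320) n375 n376) (.node (nat_lit 70720) n377 n378)))) (.node (nat_lit 72480) (.node (nat_lit 71680) (.node (nat_lit 71280) (.node (nat_lit 71120) n379 n380) (.node (nat_lit 71440) n381 n382)) (.node (nat_lit 72080) (.node (nat_lit 71840) n383 n384) (.node (nat_lit 72240) n385 n386))) (.node (nat_lit 73280) (.node (nat_lit 72880) (.node (nat_lit 72640) n387 n388) (.node (nat_lit 73040) n389 n390)) (.node (nat_lit 73680) (.node (nat_lit 73440) n391 n392) (.node (nat_lit 73840) n393 n394)))))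
noncomputable def n396 : T := (.node (nat_lit 74160) l926 l927)
noncomputable def n397 : T := (.node (nat_lit 74320) l928 l929)
noncomputable def n398 : T := (.node (nat_lit 74480) l930 l931)
noncomputable def n399 : T := (.node (nat_lit 74640) l932 (.node (nat_lit 74720) l933 l934))
noncomputable def n400 : T := (.node (nat_lit 74880) l935 l936)
noncomputable def n401 : T := (.node (nat_lit 75040) l937 (.node (nat_lit 75120) l938 l939))
noncomputable def n402 : T := (.node (nat_lit 75280) l940 l941)
noncomputable def n403 : T := (.node (nat_lit 75440) l942 (.node (nat_lit 75520) l943 l944))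
noncomputable def n404 : T := (.node (nat_lit 75680) l945 l946)
noncomputable def n405 : T := (.node (nat_lit 75840) l947 l948)
noncomputable def n406 : T := (.node (nat_lit 76000) l949 l950)
noncomputable def n407 : T := (.node (nat_lit 76160) l951 (.node (nat_lit 76240) l952 l953))
noncomputable def n408 : T := (.node (nat_lit 76400) l954 l955)
noncomputable def n409 : T := (.node (nat_lit 76560) l956 (.node (nat_lit 76640) l957 l958))
noncomputable def n410 : T := (.node (nat_lit 76800) l959 l960)
noncomputable def n411 : T := (.node (nat_lit 76960) l961 (.node (nat_lit 77040) l962 l963))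
noncomputable def n412 : T := (.node (nat_lit 77200) l964 l965)
noncomputable def n413 : T := (.node (nat_lit 77360) l966 l967)
noncomputable def n414 : T := (.node (nat_lit 77520) l968 l969)
noncomputable def n415 : T := (.node (nat_lit 77680) l970 (.node (nat_lit 77760) l971 l972))
noncomputable def n416 : T := (.node (nat_lit 77920) l973 l974)
noncomputable def n417 : T := (.node (nat_lit 78080) l975 (.node (nat_lit 78160) l976 l977))
noncomputable def n418 : T := (.node (nat_lit 78320) l978 l979)
noncomputable def n419 : T := (.node (nat_lit 78480) l980 (.node (nat_lit 78560) l981 l982))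
noncomputable def n420 : T := (.node (nat_lit 78720) l983 l984)
noncomputable def n421 : T := (.node (nat_lit 78880) l985 (.node (nat_lit 78960) l986 l987))
noncomputable def n422 : T := (.node (nat_lit 79120) l988 l989)
noncomputable def n423 : T := (.node (nat_lit 79280) l990 (.node (nat_lit 79360) l991 l992))
noncomputable def n424 : T := (.node (nat_lit 79520) l993 l994)
noncomputable def n425 : T := (.node (nat_lit 79680) l995 (.node (nat_lit 79760) l996 l997))
noncomputable def n426 : T := (.node (nat_lit 79920) l998 l999)
noncomputable def n427 : T := (.node (nat_lit 80080) l1000 (.node (nat_lit 80160) l1001 l1002))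
noncomputable def n428 : T := (.node (nat_lit 77120) (.node (nat_lit 75600) (.node (nat_lit 74800) (.node (nat_lit 74400) (.node (nat_lit 74240) n396 n397) (.node (nat_lit 74560) n398 n399)) (.node (nat_lit 75200) (.node (nat_lit 74960) n400 n401) (.node (nat_lit 75360) n402 n403))) (.node (nat_lit 76320) (.node (nat_lit 75920) (.node (nat_lit 75760) n404 n405) (.node (nat_lit 76080) n406 n407)) (.node (nat_lit 76720) (.node (nat_lit 76480) n408 n409) (.node (nat_lit 76880) n410 n411)))) (.node (nat_lit 78640) (.node (nat_lit 77840) (.node (nat_lit 77440) (.node (nat_lit 77280) n412 n413) (.node (nat_lit 77600) n414 n415)) (.node (nat_lit 78240) (.node (nat_lit 78000) n416 n417) (.node (nat_lit 78400) n418 n419))) (.node (nat_lit 79440) (.node (nat_lit 79040) (.node (nat_lit 78800) n420 n421) (.node (nat_lit 79200) n422 n423)) (.node (nat_lit 79840) (.node (nat_lit 79600) n424 n425) (.node (nat_lit 80000) n426 n427)))))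
noncomputable def n429 : T := (.node (nat_lit 80320) l1003 l1004)
noncomputable def n430 : T := (.node (nat_lit 80480) l1005 l1006)
noncomputable def n431 : T := (.node (nat_lit 80640) l1007 l1008)
noncomputable def n432 : T := (.node (nat_lit 80800) l1009 (.node (nat_lit 80880) l1010 l1011))
noncomputable def n433 : T := (.node (nat_lit 81040) l1012 l1013)
noncomputable def n434 : T := (.node (nat_lit 81200) l1014 (.node (nat_lit 81280) l1015 l1016))
noncomputable def n435 : T := (.node (nat_lit 81440) l1017 l1018)
noncomputable def n436 : T := (.node (nat_lit 81600) l1019 (.node (nat_lit 81680) l1020 l1021))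
noncomputable def n437 : T := (.node (nat_lit 81840) l1022 l1023)
noncomputable def n438 : T := (.node (nat_lit 82000) l1024 l1025)
noncomputable def n439 : T := (.node (nat_lit 82160) l1026 l1027)
noncomputable def n440 : T := (.node (nat_lit 82320) l1028 (.node (nat_lit 82400) l1029 l1030))
noncomputable def n441 : T := (.node (nat_lit 82560) l1031 l1032)
noncomputable def n442 : T := (.node (nat_lit 82720) l1033 (.node (nat_lit 82800) l1034 l1035))
noncomputable def n443 : T := (.node (nat_lit 82960) l1036 l1037)
noncomputable def n444 : T := (.node (nat_lit 83120) l1038 (.node (nat_lit 83200) l1039 l1040))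
noncomputable def n445 : T := (.node (nat_lit 83360) l1041 l1042)
noncomputable def n446 : T := (.node (nat_lit 83520) l1043 l1044)
noncomputable def n447 : T := (.node (nat_lit 83680) l1045 l1046)
noncomputable def n448 : T := (.node (nat_lit 83840) l1047 (.node (nat_lit 83920) l1048 l1049))
noncomputable def n449 : T := (.node (nat_lit 84080) l1050 l1051)
noncomputable def n450 : T := (.node (nat_lit 84240) l1052 (.node (nat_lit 84320) l1053 l1054))
noncomputable def n451 : T := (.node (nat_lit 84480) l1055 l1056)
noncomputable def n452 : T := (.node (nat_lit 84640) l1057 (.node (nat_lit 84720) l1058 l1059))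
noncomputable def n453 : T := (.node (nat_lit 84880) l1060 l1061)
noncomputable def n454 : T := (.node (nat_lit 85040) l1062 (.node (nat_lit 85120) l1063 l1064))
noncomputable def n455 : T := (.node (nat_lit 85280) l1065 l1066)
noncomputable def n456 : T := (.node (nat_lit 85440) l1067 (.node (nat_lit 85520) l1068 l1069))
noncomputable def n457 : T := (.node (nat_lit 85680) l1070 l1071)
noncomputable def n458 : T := (.node (nat_lit 85840) l1072 (.node (nat_lit 85920) l1073 l1074))
noncomputable def n459 : T := (.node (nat_lit 86080) l1075 l1076)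
noncomputable def n460 : T := (.node (nat_lit 86240) l1077 (.node (nat_lit 86320) l1078 l1079))
noncomputable def n461 : T := (.node (nat_lit 83280) (.node (nat_lit 81760) (.node (nat_lit 80960) (.node (nat_lit 80560) (.node (nat_lit 80400) n429 n430) (.node (nat_lit 80720) n431 n432)) (.node (nat_lit 81360) (.node (nat_lit 81120) n433 n434) (.node (nat_lit 81520) n435 n436))) (.node (nat_lit 82480) (.node (nat_lit 82080) (.node (nat_lit 81920) n437 n438) (.node (nat_lit 82240) n439 n440)) (.node (nat_lit 82880) (.node (nat_lit 82640) n441 n442) (.node (nat_lit 83040) n443 n444)))) (.node (nat_lit 84800) (.node (nat_lit 84000) (.node (nat_lit 83600) (.node (nat_lit 83440) n445 n446) (.node (nat_lit 83760) n447 n448)) (.node (nat_lit 84400) (.node (nat_lit 84160) n449 n450) (.node (nat_lit 84560) n451 n452))) (.node (nat_lit 85600) (.node (nat_lit 85200) (.node (nat_lit 84960) n453 n454) (.node (nat_lit 85360) n455 n456)) (.node (nat_lit 86000) (.node (nat_lit 85760) n457 n458) (.node (nat_lit 86160) n459 n460)))))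
noncomputable def n462 : T := (.node (nat_lit 86480) l1080 l1081)
noncomputable def n463 : T := (.node (nat_lit 86640) l1082 l1083)
noncomputable def n464 : T := (.node (nat_lit 86800) l1084 l1085)
noncomputable def n465 : T := (.node (nat_lit 86960) l1086 (.node (nat_lit 87040) l1087 l1088))
noncomputable def n466 : T := (.node (nat_lit 87200) l1089 l1090)
noncomputable def n467 : T := (.node (nat_lit 87360) l1091 (.node (nat_lit 87440) l1092 l1093))
noncomputable def n468 : T := (.node (nat_lit 87600) l1094 l1095)
noncomputable def n469 : T := (.node (nat_lit 87760) l1096 (.node (nat_lit 87840) l1097 l1098))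
noncomputable def n470 : T := (.node (nat_lit 88000) l1099 l1100)
noncomputable def n471 : T := (.node (nat_lit 88160) l1101 l1102)
noncomputable def n472 : T := (.node (nat_lit 88320) l1103 l1104)
noncomputable def n473 : T := (.node (nat_lit 88480) l1105 (.node (nat_lit 88560) l1106 l1107))
noncomputable def n474 : T := (.node (nat_lit 88720) l1108 l1109)
noncomputable def n475 : T := (.node (nat_lit 88880) l1110 (.node (nat_lit 88960) l1111 l1112))
noncomputable def n476 : T := (.node (nat_lit 89120) l1113 l1114)
noncomputable def n477 : T := (.node (nat_lit 89280) l1115 (.node (nat_lit 89360) l1116 l1117))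
noncomputable def n478 : T := (.node (nat_lit 89520) l1118 l1119)
noncomputable def n479 : T := (.node (nat_lit 89680) l1120 l1121)
noncomputable def n480 : T := (.node (nat_lit 89840) l1122 l1123)
noncomputable def n481 : T := (.node (nat_lit 90000) l1124 (.node (nat_lit 90080) l1125 l1126))
noncomputable def n482 : T := (.node (nat_lit 90240) l1127 l1128)
noncomputable def n483 : T := (.node (nat_lit 90400) l1129 (.node (nat_lit 90480) l1130 l1131))
noncomputable def n484 : T := (.node (nat_lit 90640) l1132 l1133)
noncomputable def n485 : T := (.node (nat_lit 90800) l1134 (.node (nat_lit 90880) l1135 l1136))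
noncomputable def n486 : T := (.node (nat_lit 91040) l1137 l1138)
noncomputable def n487 : T := (.node (nat_lit 91200) l1139 (.node (nat_lit 91280) l1140 l1141))
noncomputable def n488 : T := (.node (nat_lit 91440) l1142 l1143)
noncomputable def n489 : T := (.node (nat_lit 91600) l1144 (.node (nat_lit 91680) l1145 l1146))
noncomputable def n490 : T := (.node (nat_lit 91840) l1147 l1148)
noncomputable def n491 : T := (.node (nat_lit 92000) l1149 (.node (nat_lit 92080) l1150 l1151))
noncomputable def n492 : T := (.node (nat_lit 92240) l1152 l1153)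
noncomputable def n493 : T := (.node (nat_lit 92400) l1154 (.node (nat_lit 92480) l1155 l1156))
noncomputable def n494 : T := (.node (nat_lit 89440) (.node (nat_lit 87920) (.node (nat_lit 87120) (.node (nat_lit 86720) (.node (nat_lit 86560) n462 n463) (.node (nat_lit 86880) n464 n465)) (.node (nat_lit 87520) (.node (nat_lit 87280) n466 n467) (.node (nat_lit 87680) n468 n469))) (.node (nat_lit 88640) (.node (nat_lit 88240) (.node (nat_lit 88080) n470 n471) (.node (nat_lit 88400) n472 n473)) (.node (nat_lit 89040) (.node (nat_lit 88800) n474 n475) (.node (nat_lit 89200) n476 n477)))) (.node (nat_lit 90960) (.node (nat_lit 90160) (.node (nat_lit 89760) (.node (nat_lit 89600) n478 n479) (.node (nat_lit 89920) n480 n481)) (.node (nat_lit 90560) (.node (nat_lit 90320) n482 n483) (.node (nat_lit 90720) n484 n485))) (.node (nat_lit 91760) (.node (nat_lit 91360) (.node (nat_lit 91120) n486 n487) (.node (nat_lit 91520) n488 n489)) (.node (nat_lit 92160) (.node (nat_lit 91920) n490 n491) (.node (nat_lit 92320) n492 n493)))))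
noncomputable def n495 : T := (.node (nat_lit 92640) l1157 l1158)
noncomputable def n496 : T := (.node (nat_lit 92800) l1159 l1160)
noncomputable def n497 : T := (.node (nat_lit 92960) l1161 l1162)
noncomputable def n498 : T := (.node (nat_lit 93120) l1163 (.node (nat_lit 93200) l1164 l1165))
noncomputable def n499 : T := (.node (nat_lit 93360) l1166 l1167)
noncomputable def n500 : T := (.node (nat_lit 93520) l1168 (.node (nat_lit 93600) l1169 l1170))
noncomputable def n501 : T := (.node (nat_lit 93760) l1171 l1172)
noncomputable def n502 : T := (.node (nat_lit 93920) l1173 (.node (nat_lit 94000) l1174 l1175))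
noncomputable def n503 : T := (.node (nat_lit 94160) l1176 l1177)
noncomputable def n504 : T := (.node (nat_lit 94320) l1178 (.node (nat_lit 94400) l1179 l1180))
noncomputable def n505 : T := (.node (nat_lit 94560) l1181 l1182)
noncomputable def n506 : T := (.node (nat_lit 94720) l1183 (.node (nat_lit 94800) l1184 l1185))
noncomputable def n507 : T := (.node (nat_lit 94960) l1186 l1187)
noncomputable def n508 : T := (.node (nat_lit 95120) l1188 (.node (nat_lit 95200) l1189 l1190))
noncomputable def n509 : T := (.node (nat_lit 95360) l1191 l1192)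
noncomputable def n510 : T := (.node (nat_lit 95520) l1193 (.node (nat_lit 95600) l1194 l1195))
noncomputable def n511 : T := (.node (nat_lit 95760) l1196 l1197)
noncomputable def n512 : T := (.node (nat_lit 95920) l1198 l1199)
noncomputable def n513 : T := (.node (nat_lit 96080) l1200 l1201)
noncomputable def n514 : T := (.node (nat_lit 96240) l1202 (.node (nat_lit 96320) l1203 l1204))
noncomputable def n515 : T := (.node (nat_lit 96480) l1205 l1206)
noncomputable def n516 : T := (.node (nat_lit 96640) l1207 (.node (nat_lit 96720) l1208 l1209))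
noncomputable def n517 : T := (.node (nat_lit 96880) l1210 l1211)
noncomputable def n518 : T := (.node (nat_lit 97040) l1212 (.node (nat_lit 97120) l1213 l1214))
noncomputable def n519 : T := (.node (nat_lit 97280) l1215 l1216)
noncomputable def n520 : T := (.node (nat_lit 97440) l1217 (.node (nat_lit 97520) l1218 l1219))
noncomputable def n521 : T := (.node (nat_lit 97680) l1220 l1221)
noncomputable def n522 : T := (.node (nat_lit 97840) l1222 (.node (nat_lit 97920) l1223 l1224))
noncomputable def n523 : T := (.node (nat_lit 98080) l1225 l1226)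
noncomputable def n524 : T := (.node (nat_lit 98240) l1227 (.node (nat_lit 98320) l1228 l1229))
noncomputable def n525 : T := (.node (nat_lit 98480) l1230 l1231)
noncomputable def n526 : T := (.node (nat_lit 98640) l1232 (.node (nat_lit 98720) l1233 l1234))
noncomputable def n527 : T := (.node (nat_lit 95680) (.node (nat_lit 94080) (.node (nat_lit 93280) (.node (nat_lit 92880) (.node (nat_lit 92720) n495 n496) (.node (nat_lit 93040) n497 n498)) (.node (nat_lit 93680) (.node (nat_lit 93440) n499 n500) (.node (nat_lit 93840) n501 n502))) (.node (nat_lit 94880) (.node (nat_lit 94480) (.node (nat_lit 94240) n503 n504) (.node (nat_lit 94640) n505 n506)) (.node (nat_lit 95280) (.node (nat_lit 95040) n507 n508) (.node (nat_lit 95440) n509 n510)))) (.node (nat_lit 97200) (.node (nat_lit 96400) (.node (nat_lit 96000) (.node (nat_lit 95840) n511 n512) (.node (nat_lit 96160) n513 n514)) (.node (nat_lit 96800) (.node (nat_lit 96560) n515 n516) (.node (nat_lit 96960) n517 n518))) (.node (nat_lit 98000) (.node (nat_lit 97600) (.node (nat_lit 97360) n519 n520) (.node (nat_lit 97760) n521 n522)) (.node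 (nat_lit 98400) (.node (nat_lit 98160) n523 n524) (.node (nat_lit 98560) n525 n526)))))
noncomputable def n528 : T := (.node (nat_lit 98880) l1235 l1236)
noncomputable def n529 : T := (.node (nat_lit 99040) l1237 l1238)
noncomputable def n530 : T := (.node (nat_lit 99200) l1239 l1240)
noncomputable def n531 : T := (.node (nat_lit 99360) l1241 (.node (nat_lit 99440) l1242 l1243))
noncomputable def n532 : T := (.node (nat_lit 99600) l1244 l1245)
noncomputable def n533 : T := (.node (nat_lit 99760) l1246 (.node (nat_lit 99840) l1247 l1248))
noncomputable def n534 : T := (.node (nat_lit 100000) l1249 l1250)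
noncomputable def n535 : T := (.node (nat_lit 100160) l1251 (.node (nat_lit 100240) l1252 l1253))
noncomputable def n536 : T := (.node (nat_lit 100400) l1254 l1255)
noncomputable def n537 : T := (.node (nat_lit 100560) l1256 l1257)
noncomputable def n538 : T := (.node (nat_lit 100720) l1258 l1259)
noncomputable def n539 : T := (.node (nat_lit 100880) l1260 (.node (nat_lit 100960) l1261 l1262))
noncomputable def n540 : T := (.node (nat_lit 101120) l1263 l1264)
noncomputable def n541 : T := (.node (nat_lit 101280) l1265 (.node (nat_lit 101360) l1266 l1267))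
noncomputable def n542 : T := (.node (nat_lit 101520) l1268 l1269)
noncomputable def n543 : T := (.node (nat_lit 101680) l1270 (.node (nat_lit 101760) l1271 l1272))
noncomputable def n544 : T := (.node (nat_lit 101920) l1273 l1274)
noncomputable def n545 : T := (.node (nat_lit 102080) l1275 l1276)
noncomputable def n546 : T := (.node (nat_lit 102240) l1277 l1278)
noncomputable def n547 : T := (.node (nat_lit 102400) l1279 (.node (nat_lit 102480) l1280 l1281))
noncomputable def n548 : T := (.node (nat_lit 102640) l1282 l1283)
noncomputable def n549 : T := (.node (nat_lit 102800) l1284 (.node (nat_lit 102880) l1285 l1286))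
noncomputable def n550 : T := (.node (nat_lit 103040) l1287 l1288)
noncomputable def n551 : T := (.node (nat_lit 103200) l1289 (.node (nat_lit 103280) l1290 l1291))
noncomputable def n552 : T := (.node (nat_lit 103440) l1292 l1293)
noncomputable def n553 : T := (.node (nat_lit 103600) l1294 (.node (nat_lit 103680) l1295 l1296))
noncomputable def n554 : T := (.node (nat_lit 103840) l1297 l1298)
noncomputable def n555 : T := (.node (nat_lit 104000) l1299 (.node (nat_lit 104080) l1300 l1301))
noncomputable def n556 : T := (.node (nat_lit 104240) l1302 l1303)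
noncomputable def n557 : T := (.node (nat_lit 104400) l1304 (.node (nat_lit 104480) l1305 l1306))
noncomputable def n558 : T := (.node (nat_lit 104640) l1307 l1308)
noncomputable def n559 : T := (.node (nat_lit 104800) l1309 (.node (nat_lit 104880) l1310 l1311))
noncomputable def n560 : T := (.node (nat_lit 101840) (.node (nat_lit 100320) (.node (nat_lit 99520) (.node (nat_lit 99120) (.node (nat_lit 98960) n528 n529) (.node (nat_lit 99280) n530 n531)) (.node (nat_lit 99920) (.node (nat_lit 99680) n532 n533) (.node (nat_lit 100080) n534 n535))) (.node (nat_lit 101040) (.node (nat_lit 100640) (.node (nat_lit 100480) n536 n537) (.node (nat_lit 100800) n538 n539)) (.node (nat_lit 101440) (.node (nat_lit 101200) n540 n541) (.node (nat_lit 101600) n542 n543)))) (.node (nat_lit 103360) (.node (nat_lit 102560) (.node (nat_lit 102160) (.node (nat_lit 102000) n544 n545) (.node (nat_lit 102320) n546 n547)) (.node (nat_lit 102960) (.node (nat_lit 102720) n548 n549) (.node (nat_lit 103120) n550 n551))) (.node (nat_lit 104160) (.node (nat_lit 103760) (.node (nat_lit 103520) n552 n553) (.node (nat_lit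 103920) n554 n555)) (.node (nat_lit 104560) (.node (nat_lit 104320) n556 n557) (.node (nat_lit 104720) n558 n559)))))
noncomputable def n561 : T := (.node (nat_lit 105040) l1312 l1313)
noncomputable def n562 : T := (.node (nat_lit 105200) l1314 l1315)
noncomputable def n563 : T := (.node (nat_lit 105360) l1316 l1317)
noncomputable def n564 : T := (.node (nat_lit 105520) l1318 (.node (nat_lit 105600) l1319 l1320))
noncomputable def n565 : T := (.node (nat_lit 105760) l1321 l1322)
noncomputable def n566 : T := (.node (nat_lit 105920) l1323 (.node (nat_lit 106000) l1324 l1325))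
noncomputable def n567 : T := (.node (nat_lit 106160) l1326 l1327)
noncomputable def n568 : T := (.node (nat_lit 106320) l1328 (.node (nat_lit 106400) l1329 l1330))
noncomputable def n569 : T := (.node (nat_lit 106560) l1331 l1332)
noncomputable def n570 : T := (.node (nat_lit 106720) l1333 l1334)
noncomputable def n571 : T := (.node (nat_lit 106880) l1335 l1336)
noncomputable def n572 : T := (.node (nat_lit 107040) l1337 (.node (nat_lit 107120) l1338 l1339))
noncomputable def n573 : T := (.node (nat_lit 107280) l1340 l1341)
noncomputable def n574 : T := (.node (nat_lit 107440) l1342 (.node (nat_lit 107520) l1343 l1344))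
noncomputable def n575 : T := (.node (nat_lit 107680) l1345 l1346)
noncomputable def n576 : T := (.node (nat_lit 107840) l1347 (.node (nat_lit 107920) l1348 l1349))
noncomputable def n577 : T := (.node (nat_lit 108080) l1350 l1351)
noncomputable def n578 : T := (.node (nat_lit 108240) l1352 l1353)
noncomputable def n579 : T := (.node (nat_lit 108400) l1354 l1355)
noncomputable def n580 : T := (.node (nat_lit 108560) l1356 (.node (nat_lit 108640) l1357 l1358))
noncomputable def n581 : T := (.node (nat_lit 108800) l1359 l1360)
noncomputable def n582 : T := (.node (nat_lit 108960) l1361 (.node (nat_lit 109040) l1362 l1363))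
noncomputable def n583 : T := (.node (nat_lit 109200) l1364 l1365)
noncomputable def n584 : T := (.node (nat_lit 109360) l1366 (.node (nat_lit 109440) l1367 l1368))
noncomputable def n585 : T := (.node (nat_lit 109600) l1369 l1370)
noncomputable def n586 : T := (.node (nat_lit 109760) l1371 (.node (nat_lit 109840) l1372 l1373))
noncomputable def n587 : T := (.node (nat_lit 110000) l1374 l1375)
noncomputable def n588 : T := (.node (nat_lit 110160) l1376 (.node (nat_lit 110240) l1377 l1378))
noncomputable def n589 : T := (.node (nat_lit 110400) l1379 l1380)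
noncomputable def n590 : T := (.node (nat_lit 110560) l1381 (.node (nat_lit 110640) l1382 l1383))
noncomputable def n591 : T := (.node (nat_lit 110800) l1384 l1385)
noncomputable def n592 : T := (.node (nat_lit 110960) l1386 (.node (nat_lit 111040) l1387 l1388))
noncomputable def n593 : T := (.node (nat_lit 108000) (.node (nat_lit 106480) (.node (nat_lit 105680) (.node (nat_lit 105280) (.node (nat_lit 105120) n561 n562) (.node (nat_lit 105440) n563 n564)) (.node (nat_lit 106080) (.node (nat_lit 105840) n565 n566) (.node (nat_lit 106240) n567 n568))) (.node (nat_lit 107200) (.node (nat_lit 106800) (.node (nat_lit 106640) n569 n570) (.node (nat_lit 106960) n571 n572)) (.node (nat_lit 107600) (.node (nat_lit 107360) n573 n574) (.node (nat_lit 107760) n575 n576)))) (.node (nat_lit 109520) (.node (nat_lit 108720) (.node (nat_lit 108320) (.node (nat_lit 108160) n577 n578) (.node (nat_lit 108480) n579 n580)) (.node (nat_lit 109120) (.node (nat_lit 108880) n581 n582) (.node (nat_lit 109280) n583 n584))) (.node (nat_lit 110320) (.node (nat_lit 109920) (.node (nat_lit 109680) n585 n586) (.node (nat_lit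 110080) n587 n588)) (.node (nat_lit 110720) (.node (nat_lit 110480) n589 n590) (.node (nat_lit 110880) n591 n592)))))
noncomputable def n594 : T := (.node (nat_lit 111200) l1389 l1390)
noncomputable def n595 : T := (.node (nat_lit 111360) l1391 l1392)
noncomputable def n596 : T := (.node (nat_lit 111520) l1393 l1394)
noncomputable def n597 : T := (.node (nat_lit 111680) l1395 (.node (nat_lit 111760) l1396 l1397))
noncomputable def n598 : T := (.node (nat_lit 111920) l1398 l1399)
noncomputable def n599 : T := (.node (nat_lit 112080) l1400 (.node (nat_lit 112160) l1401 l1402))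
noncomputable def n600 : T := (.node (nat_lit 112320) l1403 l1404)
noncomputable def n601 : T := (.node (nat_lit 112480) l1405 (.node (nat_lit 112560) l1406 l1407))
noncomputable def n602 : T := (.node (nat_lit 112720) l1408 l1409)
noncomputable def n603 : T := (.node (nat_lit 112880) l1410 l1411)
noncomputable def n604 : T := (.node (nat_lit 113040) l1412 l1413)
noncomputable def n605 : T := (.node (nat_lit 113200) l1414 (.node (nat_lit 113280) l1415 l1416))
noncomputable def n606 : T := (.node (nat_lit 113440) l1417 l1418)
noncomputable def n607 : T := (.node (nat_lit 113600) l1419 (.node (nat_lit 113680) l1420 l1421))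
noncomputable def n608 : T := (.node (nat_lit 113840) l1422 l1423)
noncomputable def n609 : T := (.node (nat_lit 114000) l1424 (.node (nat_lit 114080) l1425 l1426))
noncomputable def n610 : T := (.node (nat_lit 114240) l1427 l1428)
noncomputable def n611 : T := (.node (nat_lit 114400) l1429 l1430)
noncomputable def n612 : T := (.node (nat_lit 114560) l1431 l1432)
noncomputable def n613 : T := (.node (nat_lit 114720) l1433 (.node (nat_lit 114800) l1434 l1435))
noncomputable def n614 : T := (.node (nat_lit 114960) l1436 l1437)
noncomputable def n615 : T := (.node (nat_lit 115120) l1438 (.node (nat_lit 115200) l1439 l1440))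
noncomputable def n616 : T := (.node (nat_lit 115360) l1441 l1442)
noncomputable def n617 : T := (.node (nat_lit 115520) l1443 (.node (nat_lit 115600) l1444 l1445))
noncomputable def n618 : T := (.node (nat_lit 115760) l1446 l1447)
noncomputable def n619 : T := (.node (nat_lit 115920) l1448 (.node (nat_lit 116000) l1449 l1450))
noncomputable def n620 : T := (.node (nat_lit 116160) l1451 l1452)
noncomputable def n621 : T := (.node (nat_lit 116320) l1453 (.node (nat_lit 116400) l1454 l1455))
noncomputable def n622 : T := (.node (nat_lit 116560) l1456 l1457)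
noncomputable def n623 : T := (.node (nat_lit 116720) l1458 (.node (nat_lit 116800) l1459 l1460))
noncomputable def n624 : T := (.node (nat_lit 116960) l1461 l1462)
noncomputable def n625 : T := (.node (nat_lit 117120) l1463 (.node (nat_lit 117200) l1464 l1465))
noncomputable def n626 : T := (.node (nat_lit 114160) (.node (nat_lit 112640) (.node (nat_lit 111840) (.node (nat_lit 111440) (.node (nat_lit 111280) n594 n595) (.node (nat_lit 111600) n596 n597)) (.node (nat_lit 112240) (.node (nat_lit 112000) n598 n599) (.node (nat_lit 112400) n600 n601))) (.node (nat_lit 113360) (.node (nat_lit 112960) (.node (nat_lit 112800) n602 n603) (.node (nat_lit 113120) n604 n605)) (.node (nat_lit 113760) (.node (nat_lit 113520) n606 n607) (.node (nat_lit 113920) n608 n609)))) (.node (nat_lit 115680) (.node (nat_lit 114880) (.node (nat_lit 114480) (.node (nat_lit 114320) n610 n611) (.node (nat_lit 114640) n612 n613)) (.node (nat_lit 115280) (.node (nat_lit 115040) n614 n615) (.node (nat_lit 115440) n616 n617))) (.node (nat_lit 116480) (.node (nat_lit 116080) (.node (nat_lit 115840) n618 n619) (.node (nat_lit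 116240) n620 n621)) (.node (nat_lit 116880) (.node (nat_lit 116640) n622 n623) (.node (nat_lit 117040) n624 n625)))))
noncomputable def n627 : T := (.node (nat_lit 117360) l1466 l1467)
noncomputable def n628 : T := (.node (nat_lit 117520) l1468 l1469)
noncomputable def n629 : T := (.node (nat_lit 117680) l1470 l1471)
noncomputable def n630 : T := (.node (nat_lit 117840) l1472 (.node (nat_lit 117920) l1473 l1474))
noncomputable def n631 : T := (.node (nat_lit 118080) l1475 l1476)
noncomputable def n632 : T := (.node (nat_lit 118240) l1477 (.node (nat_lit 118320) l1478 l1479))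
noncomputable def n633 : T := (.node (nat_lit 118480) l1480 l1481)
noncomputable def n634 : T := (.node (nat_lit 118640) l1482 (.node (nat_lit 118720) l1483 l1484))
noncomputable def n635 : T := (.node (nat_lit 118880) l1485 l1486)
noncomputable def n636 : T := (.node (nat_lit 119040) l1487 (.node (nat_lit 119120) l1488 l1489))
noncomputable def n637 : T := (.node (nat_lit 119280) l1490 l1491)
noncomputable def n638 : T := (.node (nat_lit 119440) l1492 (.node (nat_lit 119520) l1493 l1494))
noncomputable def n639 : T := (.node (nat_lit 119680) l1495 l1496)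
noncomputable def n640 : T := (.node (nat_lit 119840) l1497 (.node (nat_lit 119920) l1498 l1499))
noncomputable def n641 : T := (.node (nat_lit 120080) l1500 l1501)
noncomputable def n642 : T := (.node (nat_lit 120240) l1502 (.node (nat_lit 120320) l1503 l1504))
noncomputable def n643 : T := (.node (nat_lit 120480) l1505 l1506)
noncomputable def n644 : T := (.node (nat_lit 120640) l1507 l1508)
noncomputable def n645 : T := (.node (nat_lit 120800) l1509 l1510)
noncomputable def n646 : T := (.node (nat_lit 120960) l1511 (.node (nat_lit 121040) l1512 l1513))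
noncomputable def n647 : T := (.node (nat_lit 121200) l1514 l1515)
noncomputable def n648 : T := (.node (nat_lit 121360) l1516 (.node (nat_lit 121440) l1517 l1518))
noncomputable def n649 : T := (.node (nat_lit 121600) l1519 l1520)
noncomputable def n650 : T := (.node (nat_lit 121760) l1521 (.node (nat_lit 121840) l1522 l1523))
noncomputable def n651 : T := (.node (nat_lit 122000) l1524 l1525)
noncomputable def n652 : T := (.node (nat_lit 122160) l1526 (.node (nat_lit 122240) l1527 l1528))
noncomputable def n653 : T := (.node (nat_lit 122400) l1529 l1530)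
noncomputable def n654 : T := (.node (nat_lit 122560) l1531 (.node (nat_lit 122640) l1532 l1533))
noncomputable def n655 : T := (.node (nat_lit 122800) l1534 l1535)
noncomputable def n656 : T := (.node (nat_lit 122960) l1536 (.node (nat_lit 123040) l1537 l1538))
noncomputable def n657 : T := (.node (nat_lit 123200) l1539 l1540)
noncomputable def n658 : T := (.node (nat_lit 123360) l1541 (.node (nat_lit 123440) l1542 l1543))
noncomputable def n659 : T := (.node (nat_lit 120400) (.node (nat_lit 118800) (.node (nat_lit 118000) (.node (nat_lit 117600) (.node (nat_lit 117440) n627 n628) (.node (nat_lit 117760) n629 n630)) (.node (nat_lit 118400) (.node (nat_lit 118160) n631 n632) (.node (nat_lit 118560) n633 n634))) (.node (nat_lit 119600) (.node (nat_lit 119200) (.node (nat_lit 118960) n635 n636) (.node (nat_lit 119360) n637 n638)) (.node (nat_lit 120000) (.node (nat_lit 119760) n639 n640) (.node (nat_lit 120160) n641 n642)))) (.node (nat_lit 121920) (.node (nat_lit 121120) (.node (nat_lit 120720) (.node (nat_lit 120560) n643 n644) (.node (nat_lit 120880) n645 n646)) (.node (nat_lit 121520)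 (.node (nat_lit 121280) n647 n648) (.node (nat_lit 121680) n649 n650))) (.node (nat_lit 122720) (.node (nat_lit 122320) (.node (nat_lit 122080) n651 n652) (.node (nat_lit 122480) n653 n654)) (.node (nat_lit 123120) (.node (nat_lit 122880) n655 n656) (.node (nat_lit 123280) n657 n658)))))
noncomputable def n660 : T := (.node (nat_lit 123600) l1544 l1545)
noncomputable def n661 : T := (.node (nat_lit 123760) l1546 l1547)
noncomputable def n662 : T := (.node (nat_lit 123920) l1548 l1549)
noncomputable def n663 : T := (.node (nat_lit 124080) l1550 (.node (nat_lit 124160) l1551 l1552))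
noncomputable def n664 : T := (.node (nat_lit 124320) l1553 l1554)
noncomputable def n665 : T := (.node (nat_lit 124480) l1555 (.node (nat_lit 124560) l1556 l1557))
noncomputable def n666 : T := (.node (nat_lit 124720) l1558 l1559)
noncomputable def n667 : T := (.node (nat_lit 124880) l1560 (.node (nat_lit 124960) l1561 l1562))
noncomputable def n668 : T := (.node (nat_lit 125120) l1563 l1564)
noncomputable def n669 : T := (.node (nat_lit 125280) l1565 l1566)
noncomputable def n670 : T := (.node (nat_lit 125440) l1567 l1568)
noncomputable def n671 : T := (.node (nat_lit 125600) l1569 (.node (nat_lit 125680) l1570 l1571))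
noncomputable def n672 : T := (.node (nat_lit 125840) l1572 l1573)
noncomputable def n673 : T := (.node (nat_lit 126000) l1574 (.node (nat_lit 126080) l1575 l1576))
noncomputable def n674 : T := (.node (nat_lit 126240) l1577 l1578)
noncomputable def n675 : T := (.node (nat_lit 126400) l1579 (.node (nat_lit 126480) l1580 l1581))
noncomputable def n676 : T := (.node (nat_lit 126640) l1582 l1583)
noncomputable def n677 : T := (.node (nat_lit 126800) l1584 l1585)
noncomputable def n678 : T := (.node (nat_lit 126960) l1586 l1587)
noncomputable def n679 : T := (.node (nat_lit 127120) l1588 (.node (nat_lit 127200) l1589 l1590))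
noncomputable def n680 : T := (.node (nat_lit 127360) l1591 l1592)
noncomputable def n681 : T := (.node (nat_lit 127520) l1593 (.node (nat_lit 127600) l1594 l1595))
noncomputable def n682 : T := (.node (nat_lit 127760) l1596 l1597)
noncomputable def n683 : T := (.node (nat_lit 127920) l1598 (.node (nat_lit 128000) l1599 l1600))
noncomputable def n684 : T := (.node (nat_lit 128160) l1601 l1602)
noncomputable def n685 : T := (.node (nat_lit 128320) l1603 (.node (nat_lit 128400) l1604 l1605))
noncomputable def n686 : T := (.node (nat_lit 128560) l1606 l1607)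
noncomputable def n687 : T := (.node (nat_lit 128720) l1608 (.node (nat_lit 128800) l1609 l1610))
noncomputable def n688 : T := (.node (nat_lit 128960) l1611 l1612)
noncomputable def n689 : T := (.node (nat_lit 129120) l1613 (.node (nat_lit 129200) l1614 l1615))
noncomputable def n690 : T := (.node (nat_lit 129360) l1616 l1617)
noncomputable def n691 : T := (.node (nat_lit 129520) l1618 (.node (nat_lit 129600) l1619 l1620))
noncomputable def n692 : T := (.node (nat_lit 126560) (.node (nat_lit 125040) (.node (nat_lit 124240) (.node (nat_lit 123840) (.node (nat_lit 123680) n660 n661) (.node (nat_lit 124000) n662 n663)) (.node (nat_lit 124640) (.node (nat_lit 124400) n664 n665) (.node (nat_lit 124800) n666 n667))) (.node (nat_lit 125760) (.node (nat_lit 125360) (.node (nat_lit 125200) n668 n669) (.node (nat_lit 125520) n670 n671)) (.node (nat_lit 126160) (.node (nat_lit 125920) n672 n673) (.node (nat_lit 126320) n674 n675)))) (.node (nat_lit 128080) (.node (nat_lit 127280) (.node (nat_lit 126880) (.node (nat_lit 126720) n676 n677) (.node (nat_lit 127040) n678 n679)) (.node (nat_lit 127680)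 (.node (nat_lit 127440) n680 n681) (.node (nat_lit 127840) n682 n683))) (.node (nat_lit 128880) (.node (nat_lit 128480) (.node (nat_lit 128240) n684 n685) (.node (nat_lit 128640) n686 n687)) (.node (nat_lit 129280) (.node (nat_lit 129040) n688 n689) (.node (nat_lit 129440) n690 n691)))))
noncomputable def n693 : T := (.node (nat_lit 129760) l1621 l1622)
noncomputable def n694 : T := (.node (nat_lit 129920) l1623 l1624)
noncomputable def n695 : T := (.node (nat_lit 130080) l1625 l1626)
noncomputable def n696 : T := (.node (nat_lit 130240) l1627 (.node (nat_lit 130320) l1628 l1629))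
noncomputable def n697 : T := (.node (nat_lit 130480) l1630 l1631)
noncomputable def n698 : T := (.node (nat_lit 130640) l1632 (.node (nat_lit 130720) l1633 l1634))
noncomputable def n699 : T := (.node (nat_lit 130880) l1635 l1636)
noncomputable def n700 : T := (.node (nat_lit 131040) l1637 (.node (nat_lit 131120) l1638 l1639))
noncomputable def n701 : T := (.node (nat_lit 131280) l1640 l1641)
noncomputable def n702 : T := (.node (nat_lit 131440) l1642 l1643)
noncomputable def n703 : T := (.node (nat_lit 131600) l1644 l1645)
noncomputable def n704 : T := (.node (nat_lit 131760) l1646 (.node (nat_lit 131840) l1647 l1648))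
noncomputable def n705 : T := (.node (nat_lit 132000) l1649 l1650)
noncomputable def n706 : T := (.node (nat_lit 132160) l1651 (.node (nat_lit 132240) l1652 l1653))
noncomputable def n707 : T := (.node (nat_lit 132400) l1654 l1655)
noncomputable def n708 : T := (.node (nat_lit 132560) l1656 (.node (nat_lit 132640) l1657 l1658))
noncomputable def n709 : T := (.node (nat_lit 132800) l1659 l1660)
noncomputable def n710 : T := (.node (nat_lit 132960) l1661 l1662)
noncomputable def n711 : T := (.node (nat_lit 133120) l1663 l1664)
noncomputable def n712 : T := (.node (nat_lit 133280) l1665 (.node (nat_lit 133360) l1666 l1667))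
noncomputable def n713 : T := (.node (nat_lit 133520) l1668 l1669)
noncomputable def n714 : T := (.node (nat_lit 133680) l1670 (.node (nat_lit 133760) l1671 l1672))
noncomputable def n715 : T := (.node (nat_lit 133920) l1673 l1674)
noncomputable def n716 : T := (.node (nat_lit 134080) l1675 (.node (nat_lit 134160) l1676 l1677))
noncomputable def n717 : T := (.node (nat_lit 134320) l1678 l1679)
noncomputable def n718 : T := (.node (nat_lit 134480) l1680 (.node (nat_lit 134560) l1681 l1682))
noncomputable def n719 : T := (.node (nat_lit 134720) l1683 l1684)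
noncomputable def n720 : T := (.node (nat_lit 134880) l1685 (.node (nat_lit 134960) l1686 l1687))
noncomputable def n721 : T := (.node (nat_lit 135120) l1688 l1689)
noncomputable def n722 : T := (.node (nat_lit 135280) l1690 (.node (nat_lit 135360) l1691 l1692))
noncomputable def n723 : T := (.node (nat_lit 135520) l1693 l1694)
noncomputable def n724 : T := (.node (nat_lit 135680) l1695 (.node (nat_lit 135760) l1696 l1697))
noncomputable def n725 : T := (.node (nat_lit 132720) (.node (nat_lit 131200) (.node (nat_lit 130400) (.node (nat_lit 130000) (.node (nat_lit 129840) n693 n694) (.node (nat_lit 130160) n695 n696)) (.node (nat_lit 130800) (.node (nat_lit 130560) n697 n698) (.node (nat_lit 130960) n699 n700))) (.node (nat_lit 131920) (.node (nat_lit 131520) (.node (nat_lit 131360) n701 n702) (.node (nat_lit 131680) n703 n704)) (.node (nat_lit 132320) (.node (nat_lit 132080) n705 n706) (.node (nat_lit 132480) n707 n708)))) (.node (nat_lit 134240) (.node (nat_lit 133440) (.node (nat_lit 133040) (.node (nat_lit 132880) n709 n710) (.node (nat_lit 133200) n711 n712)) (.node (nat_lit 133840)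 (.node (nat_lit 133600) n713 n714) (.node (nat_lit 134000) n715 n716))) (.node (nat_lit 135040) (.node (nat_lit 134640) (.node (nat_lit 134400) n717 n718) (.node (nat_lit 134800) n719 n720)) (.node (nat_lit 135440) (.node (nat_lit 135200) n721 n722) (.node (nat_lit 135600) n723 n724)))))
noncomputable def n726 : T := (.node (nat_lit 135920) l1698 l1699)
noncomputable def n727 : T := (.node (nat_lit 136080) l1700 l1701)
noncomputable def n728 : T := (.node (nat_lit 136240) l1702 l1703)
noncomputable def n729 : T := (.node (nat_lit 136400) l1704 (.node (nat_lit 136480) l1705 l1706))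
noncomputable def n730 : T := (.node (nat_lit 136640) l1707 l1708)
noncomputable def n731 : T := (.node (nat_lit 136800) l1709 (.node (nat_lit 136880) l1710 l1711))
noncomputable def n732 : T := (.node (nat_lit 137040) l1712 l1713)
noncomputable def n733 : T := (.node (nat_lit 137200) l1714 (.node (nat_lit 137280) l1715 l1716))
noncomputable def n734 : T := (.node (nat_lit 137440) l1717 l1718)
noncomputable def n735 : T := (.node (nat_lit 137600) l1719 l1720)
noncomputable def n736 : T := (.node (nat_lit 137760) l1721 l1722)
noncomputable def n737 : T := (.node (nat_lit 137920) l1723 (.node (nat_lit 138000) l1724 l1725))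
noncomputable def n738 : T := (.node (nat_lit 138160) l1726 l1727)
noncomputable def n739 : T := (.node (nat_lit 138320) l1728 (.node (nat_lit 138400) l1729 l1730))
noncomputable def n740 : T := (.node (nat_lit 138560) l1731 l1732)
noncomputable def n741 : T := (.node (nat_lit 138720) l1733 (.node (nat_lit 138800) l1734 l1735))
noncomputable def n742 : T := (.node (nat_lit 138960) l1736 l1737)
noncomputable def n743 : T := (.node (nat_lit 139120) l1738 l1739)
noncomputable def n744 : T := (.node (nat_lit 139280) l1740 l1741)
noncomputable def n745 : T := (.node (nat_lit 139440) l1742 (.node (nat_lit 139520) l1743 l1744))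
noncomputable def n746 : T := (.node (nat_lit 139680) l1745 l1746)
noncomputable def n747 : T := (.node (nat_lit 139840) l1747 (.node (nat_lit 139920) l1748 l1749))
noncomputable def n748 : T := (.node (nat_lit 140080) l1750 l1751)
noncomputable def n749 : T := (.node (nat_lit 140240) l1752 (.node (nat_lit 140320) l1753 l1754))
noncomputable def n750 : T := (.node (nat_lit 140480) l1755 l1756)
noncomputable def n751 : T := (.node (nat_lit 140640) l1757 (.node (nat_lit 140720) l1758 l1759))
noncomputable def n752 : T := (.node (nat_lit 140880) l1760 l1761)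
noncomputable def n753 : T := (.node (nat_lit 141040) l1762 (.node (nat_lit 141120) l1763 l1764))
noncomputable def n754 : T := (.node (nat_lit 141280) l1765 l1766)
noncomputable def n755 : T := (.node (nat_lit 141440) l1767 (.node (nat_lit 141520) l1768 l1769))
noncomputable def n756 : T := (.node (nat_lit 141680) l1770 l1771)
noncomputable def n757 : T := (.node (nat_lit 141840) l1772 (.node (nat_lit 141920) l1773 l1774))
noncomputable def n758 : T := (.node (nat_lit 138880) (.node (nat_lit 137360) (.node (nat_lit 136560) (.node (nat_lit 136160) (.node (nat_lit 136000) n726 n727) (.node (nat_lit 136320) n728 n729)) (.node (nat_lit 136960) (.node (nat_lit 136720) n730 n731) (.node (nat_lit 137120) n732 n733))) (.node (nat_lit 138080) (.node (nat_lit 137680) (.node (nat_lit 137520) n734 n735) (.node (nat_lit 137840) n736 n737)) (.node (nat_lit 138480) (.node (nat_lit 138240) n738 n739) (.node (nat_lit 138640) n740 n741)))) (.node (nat_lit 140400) (.node (nat_lit 139600) (.node (nat_lit 139200) (.node (nat_lit 139040) n742 n743) (.node (nat_lit 139360) n744 n745)) (.node (nat_lit 140000)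 (.node (nat_lit 139760) n746 n747) (.node (nat_lit 140160) n748 n749))) (.node (nat_lit 141200) (.node (nat_lit 140800) (.node (nat_lit 140560) n750 n751) (.node (nat_lit 140960) n752 n753)) (.node (nat_lit 141600) (.node (nat_lit 141360) n754 n755) (.node (nat_lit 141760) n756 n757)))))
noncomputable def n759 : T := (.node (nat_lit 142080) l1775 l1776)
noncomputable def n760 : T := (.node (nat_lit 142240) l1777 l1778)
noncomputable def n761 : T := (.node (nat_lit 142400) l1779 l1780)
noncomputable def n762 : T := (.node (nat_lit 142560) l1781 (.node (nat_lit 142640) l1782 l1783))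
noncomputable def n763 : T := (.node (nat_lit 142800) l1784 l1785)
noncomputable def n764 : T := (.node (nat_lit 142960) l1786 (.node (nat_lit 143040) l1787 l1788))
noncomputable def n765 : T := (.node (nat_lit 143200) l1789 l1790)
noncomputable def n766 : T := (.node (nat_lit 143360) l1791 (.node (nat_lit 143440) l1792 l1793))
noncomputable def n767 : T := (.node (nat_lit 143600) l1794 l1795)
noncomputable def n768 : T := (.node (nat_lit 143760) l1796 (.node (nat_lit 143840) l1797 l1798))
noncomputable def n769 : T := (.node (nat_lit 144000) l1799 l1800)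
noncomputable def n770 : T := (.node (nat_lit 144160) l1801 (.node (nat_lit 144240) l1802 l1803))
noncomputable def n771 : T := (.node (nat_lit 144400) l1804 l1805)
noncomputable def n772 : T := (.node (nat_lit 144560) l1806 (.node (nat_lit 144640) l1807 l1808))
noncomputable def n773 : T := (.node (nat_lit 144800) l1809 l1810)
noncomputable def n774 : T := (.node (nat_lit 144960) l1811 (.node (nat_lit 145040) l1812 l1813))
noncomputable def n775 : T := (.node (nat_lit 145200) l1814 l1815)
noncomputable def n776 : T := (.node (nat_lit 145360) l1816 l1817)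
noncomputable def n777 : T := (.node (nat_lit 145520) l1818 l1819)
noncomputable def n778 : T := (.node (nat_lit 145680) l1820 (.node (nat_lit 145760) l1821 l1822))
noncomputable def n779 : T := (.node (nat_lit 145920) l1823 l1824)
noncomputable def n780 : T := (.node (nat_lit 146080) l1825 (.node (nat_lit 146160) l1826 l1827))
noncomputable def n781 : T := (.node (nat_lit 146320) l1828 l1829)
noncomputable def n782 : T := (.node (nat_lit 146480) l1830 (.node (nat_lit 146560) l1831 l1832))
noncomputable def n783 : T := (.node (nat_lit 146720) l1833 l1834)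
noncomputable def n784 : T := (.node (nat_lit 146880) l1835 (.node (nat_lit 146960) l1836 l1837))
noncomputable def n785 : T := (.node (nat_lit 147120) l1838 l1839)
noncomputable def n786 : T := (.node (nat_lit 147280) l1840 (.node (nat_lit 147360) l1841 l1842))
noncomputable def n787 : T := (.node (nat_lit 147520) l1843 l1844)
noncomputable def n788 : T := (.node (nat_lit 147680) l1845 (.node (nat_lit 147760) l1846 l1847))
noncomputable def n789 : T := (.node (nat_lit 147920) l1848 l1849)
noncomputable def n790 : T := (.node (nat_lit 148080) l1850 (.node (nat_lit 148160) l1851 l1852))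
noncomputable def n791 : T := (.node (nat_lit 145120) (.node (nat_lit 143520) (.node (nat_lit 142720) (.node (nat_lit 142320) (.node (nat_lit 142160) n759 n760) (.node (nat_lit 142480) n761 n762)) (.node (nat_lit 143120) (.node (nat_lit 142880) n763 n764) (.node (nat_lit 143280) n765 n766))) (.node (nat_lit 144320) (.node (nat_lit 143920) (.node (nat_lit 143680) n767 n768) (.node (nat_lit 144080) n769 n770)) (.node (nat_lit 144720) (.node (nat_lit 144480) n771 n772) (.node (nat_lit 144880) n773 n774)))) (.node (nat_lit 146640) (.node (nat_lit 145840) (.node (nat_lit 145440) (.node (nat_lit 145280) n775 n776) (.node (nat_lit 145600) n777 n778)) (.node (nat_lit 146240) (.node (nat_lit 146000) n779 n780) (.node (nat_lit 146400) n781 n782))) (.node (nat_lit 147440) (.node (nat_lit 147040) (.node (nat_lit 146800) n783 n784) (.node (nat_lit 147200) n785 n786)) (.node (nat_lit 147840) (.node (nat_lit 147600) n787 n788) (.node (nat_lit 148000) n789 n790)))))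
noncomputable def n792 : T := (.node (nat_lit 148320) l1853 l1854)
noncomputable def n793 : T := (.node (nat_lit 148480) l1855 l1856)
noncomputable def n794 : T := (.node (nat_lit 148640) l1857 l1858)
noncomputable def n795 : T := (.node (nat_lit 148800) l1859 (.node (nat_lit 148880) l1860 l1861))
noncomputable def n796 : T := (.node (nat_lit 149040) l1862 l1863)
noncomputable def n797 : T := (.node (nat_lit 149200) l1864 (.node (nat_lit 149280) l1865 l1866))
noncomputable def n798 : T := (.node (nat_lit 149440) l1867 l1868)
noncomputable def n799 : T := (.node (nat_lit 149600) l1869 (.node (nat_lit 149680) l1870 l1871))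
noncomputable def n800 : T := (.node (nat_lit 149840) l1872 l1873)
noncomputable def n801 : T := (.node (nat_lit 150000) l1874 l1875)
noncomputable def n802 : T := (.node (nat_lit 150160) l1876 l1877)
noncomputable def n803 : T := (.node (nat_lit 150320) l1878 (.node (nat_lit 150400) l1879 l1880))
noncomputable def n804 : T := (.node (nat_lit 150560) l1881 l1882)
noncomputable def n805 : T := (.node (nat_lit 150720) l1883 (.node (nat_lit 150800) l1884 l1885))
noncomputable def n806 : T := (.node (nat_lit 150960) l1886 l1887)
noncomputable def n807 : T := (.node (nat_lit 151120) l1888 (.node (nat_lit 151200) l1889 l1890))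
noncomputable def n808 : T := (.node (nat_lit 151360) l1891 l1892)
noncomputable def n809 : T := (.node (nat_lit 151520) l1893 l1894)
noncomputable def n810 : T := (.node (nat_lit 151680) l1895 l1896)
noncomputable def n811 : T := (.node (nat_lit 151840) l1897 (.node (nat_lit 151920) l1898 l1899))
noncomputable def n812 : T := (.node (nat_lit 152080) l1900 l1901)
noncomputable def n813 : T := (.node (nat_lit 152240) l1902 (.node (nat_lit 152320) l1903 l1904))
noncomputable def n814 : T := (.node (nat_lit 152480) l1905 l1906)
noncomputable def n815 : T := (.node (nat_lit 152640) l1907 (.node (nat_lit 152720) l1908 l1909))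
noncomputable def n816 : T := (.node (nat_lit 152880) l1910 l1911)
noncomputable def n817 : T := (.node (nat_lit 153040) l1912 (.node (nat_lit 153120) l1913 l1914))
noncomputable def n818 : T := (.node (nat_lit 153280) l1915 l1916)
noncomputable def n819 : T := (.node (nat_lit 153440) l1917 (.node (nat_lit 153520) l1918 l1919))
noncomputable def n820 : T := (.node (nat_lit 153680) l1920 l1921)
noncomputable def n821 : T := (.node (nat_lit 153840) l1922 (.node (nat_lit 153920) l1923 l1924))
noncomputable def n822 : T := (.node (nat_lit 154080) l1925 l1926)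
noncomputable def n823 : T := (.node (nat_lit 154240) l1927 (.node (nat_lit 154320) l1928 l1929))
noncomputable def n824 : T := (.node (nat_lit 151280) (.node (nat_lit 149760) (.node (nat_lit 148960) (.node (nat_lit 148560) (.node (nat_lit 148400) n792 n793) (.node (nat_lit 148720) n794 n795)) (.node (nat_lit 149360) (.node (nat_lit 149120) n796 n797) (.node (nat_lit 149520) n798 n799))) (.node (nat_lit 150480) (.node (nat_lit 150080) (.node (nat_lit 149920) n800 n801) (.node (nat_lit 150240) n802 n803)) (.node (nat_lit 150880) (.node (nat_lit 150640) n804 n805) (.node (nat_lit 151040) n806 n807)))) (.node (nat_lit 152800) (.node (nat_lit 152000) (.node (nat_lit 151600) (.node (nat_lit 151440) n808 n809) (.node (nat_lit 151760) n810 n811)) (.node (nat_lit 152400) (.node (nat_lit 152160) n812 n813) (.node (nat_lit 152560) n814 n815))) (.node (nat_lit 153600) (.node (nat_lit 153200) (.node (nat_lit 152960) n816 n817) (.node (nat_lit 153360) n818 n819)) (.node (nat_lit 154000) (.node (nat_lit 153760) n820 n821) (.node (nat_lit 154160) n822 n823)))))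
noncomputable def n825 : T := (.node (nat_lit 154480) l1930 l1931)
noncomputable def n826 : T := (.node (nat_lit 154640) l1932 l1933)
noncomputable def n827 : T := (.node (nat_lit 154800) l1934 l1935)
noncomputable def n828 : T := (.node (nat_lit 154960) l1936 (.node (nat_lit 155040) l1937 l1938))
noncomputable def n829 : T := (.node (nat_lit 155200) l1939 l1940)
noncomputable def n830 : T := (.node (nat_lit 155360) l1941 (.node (nat_lit 155440) l1942 l1943))
noncomputable def n831 : T := (.node (nat_lit 155600) l1944 l1945)
noncomputable def n832 : T := (.node (nat_lit 155760) l1946 (.node (nat_lit 155840) l1947 l1948))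
noncomputable def n833 : T := (.node (nat_lit 156000) l1949 l1950)
noncomputable def n834 : T := (.node (nat_lit 156160) l1951 l1952)
noncomputable def n835 : T := (.node (nat_lit 156320) l1953 l1954)
noncomputable def n836 : T := (.node (nat_lit 156480) l1955 (.node (nat_lit 156560) l1956 l1957))
noncomputable def n837 : T := (.node (nat_lit 156720) l1958 l1959)
noncomputable def n838 : T := (.node (nat_lit 156880) l1960 (.node (nat_lit 156960) l1961 l1962))
noncomputable def n839 : T := (.node (nat_lit 157120) l1963 l1964)
noncomputable def n840 : T := (.node (nat_lit 157280) l1965 (.node (nat_lit 157360) l1966 l1967))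
noncomputable def n841 : T := (.node (nat_lit 157520) l1968 l1969)
noncomputable def n842 : T := (.node (nat_lit 157680) l1970 l1971)
noncomputable def n843 : T := (.node (nat_lit 157840) l1972 l1973)
noncomputable def n844 : T := (.node (nat_lit 158000) l1974 (.node (nat_lit 158080) l1975 l1976))
noncomputable def n845 : T := (.node (nat_lit 158240) l1977 l1978)
noncomputable def n846 : T := (.node (nat_lit 158400) l1979 (.node (nat_lit 158480) l1980 l1981))
noncomputable def n847 : T := (.node (nat_lit 158640) l1982 l1983)
noncomputable def n848 : T := (.node (nat_lit 158800) l1984 (.node (nat_lit 158880) l1985 l1986))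
noncomputable def n849 : T := (.node (nat_lit 159040) l1987 l1988)
noncomputable def n850 : T := (.node (nat_lit 159200) l1989 (.node (nat_lit 159280) l1990 l1991))
noncomputable def n851 : T := (.node (nat_lit 159440) l1992 l1993)
noncomputable def n852 : T := (.node (nat_lit 159600) l1994 (.node (nat_lit 159680) l1995 l1996))
noncomputable def n853 : T := (.node (nat_lit 159840) l1997 l1998)
noncomputable def n854 : T := (.node (nat_lit 160000) l1999 (.node (nat_lit 160080) l2000 l2001))
noncomputable def n855 : T := (.node (nat_lit 160240) l2002 l2003)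
noncomputable def n856 : T := (.node (nat_lit 160400) l2004 (.node (nat_lit 160480) l2005 l2006))
noncomputable def n857 : T := (.node (nat_lit 157440) (.node (nat_lit 155920) (.node (nat_lit 155120) (.node (nat_lit 154720) (.node (nat_lit 154560) n825 n826) (.node (nat_lit 154880) n827 n828)) (.node (nat_lit 155520) (.node (nat_lit 155280) n829 n830) (.node (nat_lit 155680) n831 n832))) (.node (nat_lit 156640) (.node (nat_lit 156240) (.node (nat_lit 156080) n833 n834) (.node (nat_lit 156400) n835 n836)) (.node (nat_lit 157040) (.node (nat_lit 156800) n837 n838) (.node (nat_lit 157200) n839 n840)))) (.node (nat_lit 158960) (.node (nat_lit 158160) (.node (nat_lit 157760) (.node (nat_lit 157600) n841 n842) (.node (nat_lit 157920) n843 n844)) (.node (nat_lit 158560) (.node (nat_lit 158320) n845 n846) (.node (nat_lit 158720) n847 n848))) (.node (nat_lit 159760) (.node (nat_lit 159360) (.node (nat_lit 159120) n849 n850) (.node (nat_lit 159520) n851 n852)) (.node (nat_lit 160160) (.node (nat_lit 159920) n853 n854) (.node (nat_lit 160320) n855 n856)))))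
noncomputable def n858 : T := (.node (nat_lit 160640) l2007 l2008)
noncomputable def n859 : T := (.node (nat_lit 160800) l2009 l2010)
noncomputable def n860 : T := (.node (nat_lit 160960) l2011 l2012)
noncomputable def n861 : T := (.node (nat_lit 161120) l2013 (.node (nat_lit 161200) l2014 l2015))
noncomputable def n862 : T := (.node (nat_lit 161360) l2016 l2017)
noncomputable def n863 : T := (.node (nat_lit 161520) l2018 (.node (nat_lit 161600) l2019 l2020))
noncomputable def n864 : T := (.node (nat_lit 161760) l2021 l2022)
noncomputable def n865 : T := (.node (nat_lit 161920) l2023 (.node (nat_lit 162000) l2024 l2025))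
noncomputable def n866 : T := (.node (nat_lit 162160) l2026 l2027)
noncomputable def n867 : T := (.node (nat_lit 162320) l2028 l2029)
noncomputable def n868 : T := (.node (nat_lit 162480) l2030 l2031)
noncomputable def n869 : T := (.node (nat_lit 162640) l2032 (.node (nat_lit 162720) l2033 l2034))
noncomputable def n870 : T := (.node (nat_lit 162880) l2035 l2036)
noncomputable def n871 : T := (.node (nat_lit 163040) l2037 (.node (nat_lit 163120) l2038 l2039))
noncomputable def n872 : T := (.node (nat_lit 163280) l2040 l2041)
noncomputable def n873 : T := (.node (nat_lit 163440) l2042 (.node (nat_lit 163520) l2043 l2044))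
noncomputable def n874 : T := (.node (nat_lit 163680) l2045 l2046)
noncomputable def n875 : T := (.node (nat_lit 163840) l2047 l2048)
noncomputable def n876 : T := (.node (nat_lit 164000) l2049 l2050)
noncomputable def n877 : T := (.node (nat_lit 164160) l2051 (.node (nat_lit 164240) l2052 l2053))
noncomputable def n878 : T := (.node (nat_lit 164400) l2054 l2055)
noncomputable def n879 : T := (.node (nat_lit 164560) l2056 (.node (nat_lit 164640) l2057 l2058))
noncomputable def n880 : T := (.node (nat_lit 164800) l2059 l2060)
noncomputable def n881 : T := (.node (nat_lit 164960) l2061 (.node (nat_lit 165040) l2062 l2063))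
noncomputable def n882 : T := (.node (nat_lit 165200) l2064 l2065)
noncomputable def n883 : T := (.node (nat_lit 165360) l2066 (.node (nat_lit 165440) l2067 l2068))
noncomputable def n884 : T := (.node (nat_lit 165600) l2069 l2070)
noncomputable def n885 : T := (.node (nat_lit 165760) l2071 (.node (nat_lit 165840) l2072 l2073))
noncomputable def n886 : T := (.node (nat_lit 166000) l2074 l2075)
noncomputable def n887 : T := (.node (nat_lit 166160) l2076 (.node (nat_lit 166240) l2077 l2078))
noncomputable def n888 : T := (.node (nat_lit 166400) l2079 l2080)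
noncomputable def n889 : T := (.node (nat_lit 166560) l2081 (.node (nat_lit 166640) l2082 l2083))
noncomputable def n890 : T := (.node (nat_lit 163600) (.node (nat_lit 162080) (.node (nat_lit 161280) (.node (nat_lit 160880) (.node (nat_lit 160720) n858 n859) (.node (nat_lit 161040) n860 n861)) (.node (nat_lit 161680) (.node (nat_lit 161440) n862 n863) (.node (nat_lit 161840) n864 n865))) (.node (nat_lit 162800) (.node (nat_lit 162400) (.node (nat_lit 162240) n866 n867) (.node (nat_lit 162560) n868 n869)) (.node (nat_lit 163200) (.node (nat_lit 162960) n870 n871) (.node (nat_lit 163360) n872 n873)))) (.node (nat_lit 165120) (.node (nat_lit 164320) (.node (nat_lit 163920) (.node (nat_lit 163760) n874 n875) (.node (nat_lit 164080) n876 n877)) (.node (nat_lit 164720) (.node (nat_lit 164480) n878 n879) (.node (nat_lit 164880) n880 n881))) (.node (nat_lit 165920) (.node (nat_lit 165520) (.node (nat_lit 165280) n882 n883) (.node (nat_lit 165680) n884 n885)) (.node (nat_lit 166320) (.node (nat_lit 166080) n886 n887) (.node (nat_lit 166480) n888 n889)))))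
noncomputable def n891 : T := (.node (nat_lit 166800) l2084 l2085)
noncomputable def n892 : T := (.node (nat_lit 166960) l2086 l2087)
noncomputable def n893 : T := (.node (nat_lit 167120) l2088 l2089)
noncomputable def n894 : T := (.node (nat_lit 167280) l2090 (.node (nat_lit 167360) l2091 l2092))
noncomputable def n895 : T := (.node (nat_lit 167520) l2093 l2094)
noncomputable def n896 : T := (.node (nat_lit 167680) l2095 (.node (nat_lit 167760) l2096 l2097))
noncomputable def n897 : T := (.node (nat_lit 167920) l2098 l2099)
noncomputable def n898 : T := (.node (nat_lit 168080) l2100 (.node (nat_lit 168160) l2101 l2102))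
noncomputable def n899 : T := (.node (nat_lit 168320) l2103 l2104)
noncomputable def n900 : T := (.node (nat_lit 168480) l2105 (.node (nat_lit 168560) l2106 l2107))
noncomputable def n901 : T := (.node (nat_lit 168720) l2108 l2109)
noncomputable def n902 : T := (.node (nat_lit 168880) l2110 (.node (nat_lit 168960) l2111 l2112))
noncomputable def n903 : T := (.node (nat_lit 169120) l2113 l2114)
noncomputable def n904 : T := (.node (nat_lit 169280) l2115 (.node (nat_lit 169360) l2116 l2117))
noncomputable def n905 : T := (.node (nat_lit 169520) l2118 l2119)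
noncomputable def n906 : T := (.node (nat_lit 169680) l2120 (.node (nat_lit 169760) l2121 l2122))
noncomputable def n907 : T := (.node (nat_lit 169920) l2123 l2124)
noncomputable def n908 : T := (.node (nat_lit 170080) l2125 l2126)
noncomputable def n909 : T := (.node (nat_lit 170240) l2127 l2128)
noncomputable def n910 : T := (.node (nat_lit 170400) l2129 (.node (nat_lit 170480) l2130 l2131))
noncomputable def n911 : T := (.node (nat_lit 170640) l2132 l2133)
noncomputable def n912 : T := (.node (nat_lit 170800) l2134 (.node (nat_lit 170880) l2135 l2136))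
noncomputable def n913 : T := (.node (nat_lit 171040) l2137 l2138)
noncomputable def n914 : T := (.node (nat_lit 171200) l2139 (.node (nat_lit 171280) l2140 l2141))
noncomputable def n915 : T := (.node (nat_lit 171440) l2142 l2143)
noncomputable def n916 : T := (.node (nat_lit 171600) l2144 (.node (nat_lit 171680) l2145 l2146))
noncomputable def n917 : T := (.node (nat_lit 171840) l2147 l2148)
noncomputable def n918 : T := (.node (nat_lit 172000) l2149 (.node (nat_lit 172080) l2150 l2151))
noncomputable def n919 : T := (.node (nat_lit 172240) l2152 l2153)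
noncomputable def n920 : T := (.node (nat_lit 172400) l2154 (.node (nat_lit 172480) l2155 l2156))
noncomputable def n921 : T := (.node (nat_lit 172640) l2157 l2158)
noncomputable def n922 : T := (.node (nat_lit 172800) l2159 (.node (nat_lit 172880) l2160 l2161))
noncomputable def n923 : T := (.node (nat_lit 169840) (.node (nat_lit 168240) (.node (nat_lit 167440) (.node (nat_lit 167040) (.node (nat_lit 166880) n891 n892) (.node (nat_lit 167200) n893 n894)) (.node (nat_lit 167840) (.node (nat_lit 167600) n895 n896) (.node (nat_lit 168000) n897 n898))) (.node (nat_lit 169040) (.node (nat_lit 168640) (.node (nat_lit 168400) n899 n900) (.node (nat_lit 168800) n901 n902)) (.node (nat_lit 169440) (.node (nat_lit 169200) n903 n904) (.node (nat_lit 169600) n905 n906)))) (.node (nat_lit 171360) (.node (nat_lit 170560) (.node (nat_lit 170160) (.node (nat_lit 170000) n907 n908) (.node (nat_lit 170320) n909 n910)) (.node (nat_lit 170960) (.node (nat_lit 170720) n911 n912) (.node (nat_lit 171120) n913 n914))) (.node (nat_lit 172160) (.node (nat_lit 171760) (.node (nat_lit 171520) n915 n916) (.node (nat_lit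 171920) n917 n918)) (.node (nat_lit 172560) (.node (nat_lit 172320) n919 n920) (.node (nat_lit 172720) n921 n922)))))
noncomputable def n924 : T := (.node (nat_lit 173040) l2162 l2163)
noncomputable def n925 : T := (.node (nat_lit 173200) l2164 l2165)
noncomputable def n926 : T := (.node (nat_lit 173360) l2166 l2167)
noncomputable def n927 : T := (.node (nat_lit 173520) l2168 (.node (nat_lit 173600) l2169 l2170))
noncomputable def n928 : T := (.node (nat_lit 173760) l2171 l2172)
noncomputable def n929 : T := (.node (nat_lit 173920) l2173 (.node (nat_lit 174000) l2174 l2175))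
noncomputable def n930 : T := (.node (nat_lit 174160) l2176 l2177)
noncomputable def n931 : T := (.node (nat_lit 174320) l2178 (.node (nat_lit 174400) l2179 l2180))
noncomputable def n932 : T := (.node (nat_lit 174560) l2181 l2182)
noncomputable def n933 : T := (.node (nat_lit 174720) l2183 l2184)
noncomputable def n934 : T := (.node (nat_lit 174880) l2185 l2186)
noncomputable def n935 : T := (.node (nat_lit 175040) l2187 (.node (nat_lit 175120) l2188 l2189))
noncomputable def n936 : T := (.node (nat_lit 175280) l2190 l2191)
noncomputable def n937 : T := (.node (nat_lit 175440) l2192 (.node (nat_lit 175520) l2193 l2194))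
noncomputable def n938 : T := (.node (nat_lit 175680) l2195 l2196)
noncomputable def n939 : T := (.node (nat_lit 175840) l2197 (.node (nat_lit 175920) l2198 l2199))
noncomputable def n940 : T := (.node (nat_lit 176080) l2200 l2201)
noncomputable def n941 : T := (.node (nat_lit 176240) l2202 l2203)
noncomputable def n942 : T := (.node (nat_lit 176400) l2204 l2205)
noncomputable def n943 : T := (.node (nat_lit 176560) l2206 (.node (nat_lit 176640) l2207 l2208))
noncomputable def n944 : T := (.node (nat_lit 176800) l2209 l2210)
noncomputable def n945 : T := (.node (nat_lit 176960) l2211 (.node (nat_lit 177040) l2212 l2213))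
noncomputable def n946 : T := (.node (nat_lit 177200) l2214 l2215)
noncomputable def n947 : T := (.node (nat_lit 177360) l2216 (.node (nat_lit 177440) l2217 l2218))
noncomputable def n948 : T := (.node (nat_lit 177600) l2219 l2220)
noncomputable def n949 : T := (.node (nat_lit 177760) l2221 (.node (nat_lit 177840) l2222 l2223))
noncomputable def n950 : T := (.node (nat_lit 178000) l2224 l2225)
noncomputable def n951 : T := (.node (nat_lit 178160) l2226 (.node (nat_lit 178240) l2227 l2228))
noncomputable def n952 : T := (.node (nat_lit 178400) l2229 l2230)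
noncomputable def n953 : T := (.node (nat_lit 178560) l2231 (.node (nat_lit 178640) l2232 l2233))
noncomputable def n954 : T := (.node (nat_lit 178800) l2234 l2235)
noncomputable def n955 : T := (.node (nat_lit 178960) l2236 (.node (nat_lit 179040) l2237 l2238))
noncomputable def n956 : T := (.node (nat_lit 176000) (.node (nat_lit 174480) (.node (nat_lit 173680) (.node (nat_lit 173280) (.node (nat_lit 173120) n924 n925) (.node (nat_lit 173440) n926 n927)) (.node (nat_lit 174080) (.node (nat_lit 173840) n928 n929) (.node (nat_lit 174240) n930 n931))) (.node (nat_lit 175200) (.node (nat_lit 174800) (.node (nat_lit 174640) n932 n933) (.node (nat_lit 174960) n934 n935)) (.node (nat_lit 175600) (.node (nat_lit 175360) n936 n937) (.node (nat_lit 175760) n938 n939)))) (.node (nat_lit 177520) (.node (nat_lit 176720) (.node (nat_lit 176320) (.node (nat_lit 176160) n940 n941) (.node (nat_lit 176480) n942 n943)) (.node (nat_lit 177120) (.node (nat_lit 176880) n944 n945) (.node (nat_lit 177280) n946 n947))) (.node (nat_lit 178320) (.node (nat_lit 177920) (.node (nat_lit 177680) n948 n949) (.node (nat_lit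 178080) n950 n951)) (.node (nat_lit 178720) (.node (nat_lit 178480) n952 n953) (.node (nat_lit 178880) n954 n955)))))
noncomputable def n957 : T := (.node (nat_lit 179200) l2239 l2240)
noncomputable def n958 : T := (.node (nat_lit 179360) l2241 l2242)
noncomputable def n959 : T := (.node (nat_lit 179520) l2243 l2244)
noncomputable def n960 : T := (.node (nat_lit 179680) l2245 (.node (nat_lit 179760) l2246 l2247))
noncomputable def n961 : T := (.node (nat_lit 179920) l2248 l2249)
noncomputable def n962 : T := (.node (nat_lit 180080) l2250 (.node (nat_lit 180160) l2251 l2252))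
noncomputable def n963 : T := (.node (nat_lit 180320) l2253 l2254)
noncomputable def n964 : T := (.node (nat_lit 180480) l2255 (.node (nat_lit 180560) l2256 l2257))
noncomputable def n965 : T := (.node (nat_lit 180720) l2258 l2259)
noncomputable def n966 : T := (.node (nat_lit 180880) l2260 l2261)
noncomputable def n967 : T := (.node (nat_lit 181040) l2262 l2263)
noncomputable def n968 : T := (.node (nat_lit 181200) l2264 (.node (nat_lit 181280) l2265 l2266))
noncomputable def n969 : T := (.node (nat_lit 181440) l2267 l2268)
noncomputable def n970 : T := (.node (nat_lit 181600) l2269 (.node (nat_lit 181680) l2270 l2271))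
noncomputable def n971 : T := (.node (nat_lit 181840) l2272 l2273)
noncomputable def n972 : T := (.node (nat_lit 182000) l2274 (.node (nat_lit 182080) l2275 l2276))
noncomputable def n973 : T := (.node (nat_lit 182240) l2277 l2278)
noncomputable def n974 : T := (.node (nat_lit 182400) l2279 l2280)
noncomputable def n975 : T := (.node (nat_lit 182560) l2281 l2282)
noncomputable def n976 : T := (.node (nat_lit 182720) l2283 (.node (nat_lit 182800) l2284 l2285))
noncomputable def n977 : T := (.node (nat_lit 182960) l2286 l2287)
noncomputable def n978 : T := (.node (nat_lit 183120) l2288 (.node (nat_lit 183200) l2289 l2290))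
noncomputable def n979 : T := (.node (nat_lit 183360) l2291 l2292)
noncomputable def n980 : T := (.node (nat_lit 183520) l2293 (.node (nat_lit 183600) l2294 l2295))
noncomputable def n981 : T := (.node (nat_lit 183760) l2296 l2297)
noncomputable def n982 : T := (.node (nat_lit 183920) l2298 (.node (nat_lit 184000) l2299 l2300))
noncomputable def n983 : T := (.node (nat_lit 184160) l2301 l2302)
noncomputable def n984 : T := (.node (nat_lit 184320) l2303 (.node (nat_lit 184400) l2304 l2305))
noncomputable def n985 : T := (.node (nat_lit 184560) l2306 l2307)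
noncomputable def n986 : T := (.node (nat_lit 184720) l2308 (.node (nat_lit 184800) l2309 l2310))
noncomputable def n987 : T := (.node (nat_lit 184960) l2311 l2312)
noncomputable def n988 : T := (.node (nat_lit 185120) l2313 (.node (nat_lit 185200) l2314 l2315))
noncomputable def n989 : T := (.node (nat_lit 182160) (.node (nat_lit 180640) (.node (nat_lit 179840) (.node (nat_lit 179440) (.node (nat_lit 179280) n957 n958) (.node (nat_lit 179600) n959 n960)) (.node (nat_lit 180240) (.node (nat_lit 180000) n961 n962) (.node (nat_lit 180400) n963 n964))) (.node (nat_lit 181360) (.node (nat_lit 180960) (.node (nat_lit 180800) n965 n966) (.node (nat_lit 181120) n967 n968)) (.node (nat_lit 181760) (.node (nat_lit 181520) n969 n970) (.node (nat_lit 181920) n971 n972)))) (.node (nat_lit 183680) (.node (nat_lit 182880) (.node (nat_lit 182480) (.node (nat_lit 182320) n973 n974) (.node (nat_lit 182640) n975 n976)) (.node (nat_lit 183280) (.node (nat_lit 183040) n977 n978) (.node (nat_lit 183440) n979 n980))) (.node (nat_lit 184480) (.node (nat_lit 184080) (.node (nat_lit 183840) n981 n982) (.node (nat_lit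 184240) n983 n984)) (.node (nat_lit 184880) (.node (nat_lit 184640) n985 n986) (.node (nat_lit 185040) n987 n988)))))
noncomputable def n990 : T := (.node (nat_lit 185360) l2316 l2317)
noncomputable def n991 : T := (.node (nat_lit 185520) l2318 l2319)
noncomputable def n992 : T := (.node (nat_lit 185680) l2320 l2321)
noncomputable def n993 : T := (.node (nat_lit 185840) l2322 (.node (nat_lit 185920) l2323 l2324))
noncomputable def n994 : T := (.node (nat_lit 186080) l2325 l2326)
noncomputable def n995 : T := (.node (nat_lit 186240) l2327 (.node (nat_lit 186320) l2328 l2329))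
noncomputable def n996 : T := (.node (nat_lit 186480) l2330 l2331)
noncomputable def n997 : T := (.node (nat_lit 186640) l2332 (.node (nat_lit 186720) l2333 l2334))
noncomputable def n998 : T := (.node (nat_lit 186880) l2335 l2336)
noncomputable def n999 : T := (.node (nat_lit 187040) l2337 l2338)
noncomputable def n1000 : T := (.node (nat_lit 187200) l2339 l2340)
noncomputable def n1001 : T := (.node (nat_lit 187360) l2341 (.node (nat_lit 187440) l2342 l2343))
noncomputable def n1002 : T := (.node (nat_lit 187600) l2344 l2345)
noncomputable def n1003 : T := (.node (nat_lit 187760) l2346 (.node (nat_lit 187840) l2347 l2348))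
noncomputable def n1004 : T := (.node (nat_lit 188000) l2349 l2350)
noncomputable def n1005 : T := (.node (nat_lit 188160) l2351 (.node (nat_lit 188240) l2352 l2353))
noncomputable def n1006 : T := (.node (nat_lit 188400) l2354 l2355)
noncomputable def n1007 : T := (.node (nat_lit 188560) l2356 l2357)
noncomputable def n1008 : T := (.node (nat_lit 188720) l2358 l2359)
noncomputable def n1009 : T := (.node (nat_lit 188880) l2360 (.node (nat_lit 188960) l2361 l2362))
noncomputable def n1010 : T := (.node (nat_lit 189120) l2363 l2364)
noncomputable def n1011 : T := (.node (nat_lit 189280) l2365 (.node (nat_lit 189360) l2366 l2367))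
noncomputable def n1012 : T := (.node (nat_lit 189520) l2368 l2369)
noncomputable def n1013 : T := (.node (nat_lit 189680) l2370 (.node (nat_lit 189760) l2371 l2372))
noncomputable def n1014 : T := (.node (nat_lit 189920) l2373 l2374)
noncomputable def n1015 : T := (.node (nat_lit 190080) l2375 (.node (nat_lit 190160) l2376 l2377))
noncomputable def n1016 : T := (.node (nat_lit 190320) l2378 l2379)
noncomputable def n1017 : T := (.node (nat_lit 190480) l2380 (.node (nat_lit 190560) l2381 l2382))
noncomputable def n1018 : T := (.node (nat_lit 190720) l2383 l2384)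
noncomputable def n1019 : T := (.node (nat_lit 190880) l2385 (.node (nat_lit 190960) l2386 l2387))
noncomputable def n1020 : T := (.node (nat_lit 191120) l2388 l2389)
noncomputable def n1021 : T := (.node (nat_lit 191280) l2390 (.node (nat_lit 191360) l2391 l2392))
noncomputable def n1022 : T := (.node (nat_lit 188320) (.node (nat_lit 186800) (.node (nat_lit 186000) (.node (nat_lit 185600) (.node (nat_lit 185440) n990 n991) (.node (nat_lit 185760) n992 n993)) (.node (nat_lit 186400) (.node (nat_lit 186160) n994 n995) (.node (nat_lit 186560) n996 n997))) (.node (nat_lit 187520) (.node (nat_lit 187120) (.node (nat_lit 186960) n998 n999) (.node (nat_lit 187280) n1000 n1001)) (.node (nat_lit 187920) (.node (nat_lit 187680) n1002 n1003) (.node (nat_lit 188080) n1004 n1005)))) (.node (nat_lit 189840) (.node (nat_lit 189040) (.node (nat_lit 188640) (.node (nat_lit 188480) n1006 n1007) (.node (nat_lit 188800) n1008 n1009)) (.node (nat_lit 189440) (.node (nat_lit 189200) n1010 n1011) (.node (nat_lit 189600) n1012 n1013))) (.node (nat_lit 190640) (.node (nat_lit 190240) (.node (nat_lit 190000) n1014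 n1015) (.node (nat_lit 190400) n1016 n1017)) (.node (nat_lit 191040) (.node (nat_lit 190800) n1018 n1019) (.node (nat_lit 191200) n1020 n1021)))))
noncomputable def n1023 : T := (.node (nat_lit 191520) l2393 l2394)
noncomputable def n1024 : T := (.node (nat_lit 191680) l2395 l2396)
noncomputable def n1025 : T := (.node (nat_lit 191840) l2397 l2398)
noncomputable def n1026 : T := (.node (nat_lit 192000) l2399 (.node (nat_lit 192080) l2400 l2401))
noncomputable def n1027 : T := (.node (nat_lit 192240) l2402 l2403)
noncomputable def n1028 : T := (.node (nat_lit 192400) l2404 (.node (nat_lit 192480) l2405 l2406))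
noncomputable def n1029 : T := (.node (nat_lit 192640) l2407 l2408)
noncomputable def n1030 : T := (.node (nat_lit 192800) l2409 (.node (nat_lit 192880) l2410 l2411))
noncomputable def n1031 : T := (.node (nat_lit 193040) l2412 l2413)
noncomputable def n1032 : T := (.node (nat_lit 193200) l2414 (.node (nat_lit 193280) l2415 l2416))
noncomputable def n1033 : T := (.node (nat_lit 193440) l2417 l2418)
noncomputable def n1034 : T := (.node (nat_lit 193600) l2419 (.node (nat_lit 193680) l2420 l2421))
noncomputable def n1035 : T := (.node (nat_lit 193840) l2422 l2423)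
noncomputable def n1036 : T := (.node (nat_lit 194000) l2424 (.node (nat_lit 194080) l2425 l2426))
noncomputable def n1037 : T := (.node (nat_lit 194240) l2427 l2428)
noncomputable def n1038 : T := (.node (nat_lit 194400) l2429 (.node (nat_lit 194480) l2430 l2431))
noncomputable def n1039 : T := (.node (nat_lit 194640) l2432 l2433)
noncomputable def n1040 : T := (.node (nat_lit 194800) l2434 l2435)
noncomputable def n1041 : T := (.node (nat_lit 194960) l2436 l2437)
noncomputable def n1042 : T := (.node (nat_lit 195120) l2438 (.node (nat_lit 195200) l2439 l2440))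
noncomputable def n1043 : T := (.node (nat_lit 195360) l2441 l2442)
noncomputable def n1044 : T := (.node (nat_lit 195520) l2443 (.node (nat_lit 195600) l2444 l2445))
noncomputable def n1045 : T := (.node (nat_lit 195760) l2446 l2447)
noncomputable def n1046 : T := (.node (nat_lit 195920) l2448 (.node (nat_lit 196000) l2449 l2450))
noncomputable def n1047 : T := (.node (nat_lit 196160) l2451 l2452)
noncomputable def n1048 : T := (.node (nat_lit 196320) l2453 (.node (nat_lit 196400) l2454 l2455))
noncomputable def n1049 : T := (.node (nat_lit 196560) l2456 l2457)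
noncomputable def n1050 : T := (.node (nat_lit 196720) l2458 (.node (nat_lit 196800) l2459 l2460))
noncomputable def n1051 : T := (.node (nat_lit 196960) l2461 l2462)
noncomputable def n1052 : T := (.node (nat_lit 197120) l2463 (.node (nat_lit 197200) l2464 l2465))
noncomputable def n1053 : T := (.node (nat_lit 197360) l2466 l2467)
noncomputable def n1054 : T := (.node (nat_lit 197520) l2468 (.node (nat_lit 197600) l2469 l2470))
noncomputable def n1055 : T := (.node (nat_lit 194560) (.node (nat_lit 192960) (.node (nat_lit 192160) (.node (nat_lit 191760) (.node (nat_lit 191600) n1023 n1024) (.node (nat_lit 191920) n1025 n1026)) (.node (nat_lit 192560) (.node (nat_lit 192320) n1027 n1028) (.node (nat_lit 192720) n1029 n1030))) (.node (nat_lit 193760) (.node (nat_lit 193360) (.node (nat_lit 193120) n1031 n1032) (.node (nat_lit 193520) n1033 n1034)) (.node (nat_lit 194160) (.node (nat_lit 193920) n1035 n1036) (.node (nat_lit 194320) n1037 n1038)))) (.node (nat_lit 196080) (.node (nat_lit 195280) (.node (nat_lit 194880) (.node (nat_lit 194720) n1039 n1040) (.node (nat_lit 195040) n1041 n1042))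 (.node (nat_lit 195680) (.node (nat_lit 195440) n1043 n1044) (.node (nat_lit 195840) n1045 n1046))) (.node (nat_lit 196880) (.node (nat_lit 196480) (.node (nat_lit 196240) n1047 n1048) (.node (nat_lit 196640) n1049 n1050)) (.node (nat_lit 197280) (.node (nat_lit 197040) n1051 n1052) (.node (nat_lit 197440) n1053 n1054)))))
noncomputable def tb : T := (.node (nat_lit 98800) (.node (nat_lit 49360) (.node (nat_lit 24640) (.node (nat_lit 12320) (.node (nat_lit 6160) n32 n65) (.node (nat_lit 18480) n98 n131)) (.node (nat_lit 36960) (.node (nat_lit 30800) n164 n197) (.node (nat_lit 43120) n230 n263))) (.node (nat_lit 74080) (.node (nat_lit 61680) (.node (nat_lit 55520) n296 n329) (.node (nat_lit 67840) n362 n395)) (.node (nat_lit 86400) (.node (nat_lit 80240) n428 n461) (.node (nat_lit 92560) n494 n527)))) (.node (nat_lit 148240) (.node (nat_lit 123520) (.node (nat_lit 111120) (.node (nat_lit 104960) n560 n593) (.node (nat_lit 117280) n626 n659)) (.node (nat_lit 135840) (.node (nat_lit 129680) n692 n725) (.node (nat_lit 142000) n758 n791))) (.node (nat_lit 172960) (.node (nat_lit 160560) (.node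 (nat_lit 154400) n824 n857) (.node (nat_lit 166720) n890 n923)) (.node (nat_lit 185280) (.node (nat_lit 179120) n956 n989) (.node (nat_lit 191440) n1022 n1055)))))
noncomputable def r0 : WT := (.leaf (nat_lit 6144) [nat_lit 120, nat_lit 60, nat_lit 120, nat_lit 60, nat_lit 120, nat_lit 60, nat_lit 120, nat_lit 60, nat_lit 120, nat_lit 60, nat_lit 120, nat_lit 60, nat_lit 120, nat_lit 60, nat_lit 120])
noncomputable def r1 : WT := (.leaf (nat_lit 5133) [nat_lit 150, nat_lit 150, nat_lit 150, nat_lit 90, nat_lit 150, nat_lit 150, nat_lit 60, nat_lit 150, nat_lit 150, nat_lit 150, nat_lit 90, nat_lit 150, nat_lit 150, nat_lit 60, nat_lit 150, nat_lit 150, nat_lit 150, nat_lit 90, nat_lit 150, nat_lit 150])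
noncomputable def r2 : WT := (.leaf (nat_lit 5126) [nat_lit 120, nat_lit 120, nat_lit 120, nat_lit 90, nat_lit 120, nat_lit 120, nat_lit 60, nat_lit 120, nat_lit 120, nat_lit 120, nat_lit 90, nat_lit 120, nat_lit 120, nat_lit 60, nat_lit 120, nat_lit 120, nat_lit 120, nat_lit 90, nat_lit 120, nat_lit 120])
noncomputable def r3 : WT := (.leaf (nat_lit 7168) [nat_lit 120, nat_lit 60, nat_lit 120, nat_lit 120, nat_lit 120, nat_lit 60, nat_lit 120, nat_lit 60, nat_lit 120, nat_lit 120, nat_lit 120, nat_lit 60, nat_lit 120, nat_lit 60, nat_lit 120, nat_lit 120, nat_lit 120, nat_lit 60, nat_lit 120, nat_lit 60, nat_lit 120, nat_lit 120, nat_lit 120])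
noncomputable def r4 : WT := (.leaf (nat_lit 7172) [nat_lit 120, nat_lit 120, nat_lit 120, nat_lit 60, nat_lit 120, nat_lit 60, nat_lit 120, nat_lit 120, nat_lit 120, nat_lit 60, nat_lit 120, nat_lit 60, nat_lit 120, nat_lit 120, nat_lit 120, nat_lit 60, nat_lit 120, nat_lit 60, nat_lit 120, nat_lit 120, nat_lit 120, nat_lit 60, nat_lit 120])
noncomputable def r5 : WT := (.node (nat_lit 11) r4 (.node (nat_lit 12) (.leaf (nat_lit 3078) [nat_lit 60, nat_lit 150, nat_lit 60, nat_lit 60, nat_lit 120]) (.leaf (nat_lit 10244) [nat_lit 210, nat_lit 60])))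
noncomputable def r6 : WT := (.node (nat_lit 7) (.leaf (nat_lit 3072) [nat_lit 60, nat_lit 120, nat_lit 60, nat_lit 60, nat_lit 150]) (.node (nat_lit 8) r1 (.node (nat_lit 9) r2 (.node (nat_lit 10) r3 r5))))
noncomputable def w0 : WT := (.node (nat_lit 1) (.leaf (nat_lit 0) [nat_lit 90]) (.node (nat_lit 3) (.node (nat_lit 2) (.leaf (nat_lit 3074) [nat_lit 120, nat_lit 60, nat_lit 60, nat_lit 150, nat_lit 60]) (.leaf (nat_lit 4103) [nat_lit 150, nat_lit 90, nat_lit 120, nat_lit 60, nat_lit 150, nat_lit 90, nat_lit 120, nat_lit 60, nat_lit 150, nat_lit 90, nat_lit 120])) (.node (nat_lit 5) (.node (nat_lit 4) (.leaf (nat_lit 4100) [nat_lit 120, nat_lit 90, nat_lit 150, nat_lit 60, nat_lit 120, nat_lit 90, nat_lit 150, nat_lit 60, nat_lit 120, nat_lit 90, nat_lit 150]) r0) (.node (nat_lit 6) (.leaf (nat_lit 3080) [nat_lit 150, nat_lit 60, nat_lit 60, nat_lit 120, nat_lit 60]) r6))))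
noncomputable def r7 : WT := (.leaf (nat_lit 6147) [nat_lit 150, nat_lit 90, nat_lit 150, nat_lit 90, nat_lit 150, nat_lit 90, nat_lit 150, nat_lit 90, nat_lit 150, nat_lit 90, nat_lit 150, nat_lit 90, nat_lit 150, nat_lit 90, nat_lit 150])
noncomputable def r8 : WT := (.leaf (nat_lit 5120) [nat_lit 120, nat_lit 120, nat_lit 60, nat_lit 120, nat_lit 120, nat_lit 120, nat_lit 90, nat_lit 120, nat_lit 120, nat_lit 60, nat_lit 120, nat_lit 120, nat_lit 120, nat_lit 90, nat_lit 120, nat_lit 120, nat_lit 60, nat_lit 120, nat_lit 120, nat_lit 120])
noncomputable def r9 : WT := (.leaf (nat_lit 5127) [nat_lit 150, nat_lit 150, nat_lit 60, nat_lit 150, nat_lit 150, nat_lit 150, nat_lit 90, nat_lit 150, nat_lit 150, nat_lit 60, nat_lit 150, nat_lit 150, nat_lit 150, nat_lit 90, nat_lit 150, nat_lit 150, nat_lit 60, nat_lit 150, nat_lit 150, nat_lit 150])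
noncomputable def r10 : WT := (.leaf (nat_lit 7175) [nat_lit 150, nat_lit 90, nat_lit 150, nat_lit 150, nat_lit 150, nat_lit 90, nat_lit 150, nat_lit 90, nat_lit 150, nat_lit 150, nat_lit 150, nat_lit 90, nat_lit 150, nat_lit 90, nat_lit 150, nat_lit 150, nat_lit 150, nat_lit 90, nat_lit 150, nat_lit 90, nat_lit 150, nat_lit 150, nat_lit 150])
noncomputable def r11 : WT := (.leaf (nat_lit 7179) [nat_lit 150, nat_lit 150, nat_lit 150, nat_lit 90, nat_lit 150, nat_lit 90, nat_lit 150, nat_lit 150, nat_lit 150, nat_lit 90, nat_lit 150, nat_lit 90, nat_lit 150, nat_lit 150, nat_lit 150, nat_lit 90, nat_lit 150, nat_lit 90, nat_lit 150, nat_lit 150, nat_lit 150, nat_lit 90, nat_lit 150])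
noncomputable def r12 : WT := (.node (nat_lit 9) r10 r11)
noncomputable def r13 : WT := (.node (nat_lit 5) (.leaf (nat_lit 4099) [nat_lit 120, nat_lit 60, nat_lit 150, nat_lit 90, nat_lit 120, nat_lit 60, nat_lit 150, nat_lit 90, nat_lit 120, nat_lit 60, nat_lit 150]) (.node (nat_lit 6) r7 (.node (nat_lit 7) r8 (.node (nat_lit 8) r9 r12))))
noncomputable def w1 : WT := (.node (nat_lit 1) (.leaf (nat_lit 2) [nat_lit 60]) (.node (nat_lit 2) (.leaf (nat_lit 3077) [nat_lit 150, nat_lit 90, nat_lit 90, nat_lit 120, nat_lit 90]) (.node (nat_lit 3) (.leaf (nat_lit 3083) [nat_lit 120, nat_lit 90, nat_lit 90, nat_lit 150, nat_lit 90]) (.node (nat_lit 4) (.leaf (nat_lit 4096) [nat_lit 150, nat_lit 60, nat_lit 120, nat_lit 90, nat_lit 150, nat_lit 60, nat_lit 120, nat_lit 90, nat_lit 150, nat_lit 60, nat_lit 120]) r13))))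
noncomputable def r14 : WT := (.leaf (nat_lit 5124) [nat_lit 60, nat_lit 120, nat_lit 120, nat_lit 120, nat_lit 90, nat_lit 120, nat_lit 120, nat_lit 60, nat_lit 120, nat_lit 120, nat_lit 120, nat_lit 90, nat_lit 120, nat_lit 120, nat_lit 60, nat_lit 120, nat_lit 120, nat_lit 120, nat_lit 90, nat_lit 120])
noncomputable def r15 : WT := (.node (nat_lit 4) (.leaf (nat_lit 4101) [nat_lit 60, nat_lit 150, nat_lit 90, nat_lit 120, nat_lit 60, nat_lit 150, nat_lit 90, nat_lit 120, nat_lit 60, nat_lit 150, nat_lit 90]) r14)
noncomputable def r16 : WT := (.leaf (nat_lit 5130) [nat_lit 120, nat_lit 90, nat_lit 120, nat_lit 120, nat_lit 60, nat_lit 120, nat_lit 120, nat_lit 120, nat_lit 90, nat_lit 120, nat_lit 120, nat_lit 60, nat_lit 120, nat_lit 120, nat_lit 120, nat_lit 90, nat_lit 120, nat_lit 120, nat_lit 60, nat_lit 120])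
noncomputable def r17 : WT := (.leaf (nat_lit 6146) [nat_lit 60, nat_lit 120, nat_lit 60, nat_lit 120, nat_lit 60, nat_lit 120, nat_lit 60, nat_lit 120, nat_lit 60, nat_lit 120, nat_lit 60, nat_lit 120, nat_lit 60, nat_lit 120, nat_lit 60])
noncomputable def r18 : WT := (.leaf (nat_lit 7176) [nat_lit 120, nat_lit 60, nat_lit 120, nat_lit 60, nat_lit 120, nat_lit 120, nat_lit 120, nat_lit 60, nat_lit 120, nat_lit 60, nat_lit 120, nat_lit 120, nat_lit 120, nat_lit 60, nat_lit 120, nat_lit 60, nat_lit 120, nat_lit 120, nat_lit 120, nat_lit 60, nat_lit 120, nat_lit 60, nat_lit 120])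
noncomputable def r19 : WT := (.node (nat_lit 6) r16 (.node (nat_lit 7) r17 r18))
noncomputable def r20 : WT := (.leaf (nat_lit 5122) [nat_lit 120, nat_lit 60, nat_lit 120, nat_lit 120, nat_lit 120, nat_lit 90, nat_lit 120, nat_lit 120, nat_lit 60, nat_lit 120, nat_lit 120, nat_lit 120, nat_lit 90, nat_lit 120, nat_lit 120, nat_lit 60, nat_lit 120, nat_lit 120, nat_lit 120, nat_lit 90])
noncomputable def r21 : WT := (.leaf (nat_lit 7178) [nat_lit 60, nat_lit 120, nat_lit 60, nat_lit 120, nat_lit 120, nat_lit 120, nat_lit 60, nat_lit 120, nat_lit 60, nat_lit 120, nat_lit 120, nat_lit 120, nat_lit 60, nat_lit 120, nat_lit 60, nat_lit 120, nat_lit 120, nat_lit 120, nat_lit 60, nat_lit 120, nat_lit 60, nat_lit 120, nat_lit 120])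
noncomputable def r22 : WT := (.leaf (nat_lit 5132) [nat_lit 90, nat_lit 120, nat_lit 120, nat_lit 60, nat_lit 120, nat_lit 120, nat_lit 120, nat_lit 90, nat_lit 120, nat_lit 120, nat_lit 60, nat_lit 120, nat_lit 120, nat_lit 120, nat_lit 90, nat_lit 120, nat_lit 120, nat_lit 60, nat_lit 120, nat_lit 120])
noncomputable def r23 : WT := (.leaf (nat_lit 7170) [nat_lit 60, nat_lit 120, nat_lit 120, nat_lit 120, nat_lit 60, nat_lit 120, nat_lit 60, nat_lit 120, nat_lit 120, nat_lit 120, nat_lit 60, nat_lit 120, nat_lit 60, nat_lit 120, nat_lit 120, nat_lit 120, nat_lit 60, nat_lit 120, nat_lit 60, nat_lit 120, nat_lit 120, nat_lit 120, nat_lit 60])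
noncomputable def r24 : WT := (.leaf (nat_lit 5128) [nat_lit 120, nat_lit 120, nat_lit 90, nat_lit 120, nat_lit 120, nat_lit 60, nat_lit 120, nat_lit 120, nat_lit 120, nat_lit 90, nat_lit 120, nat_lit 120, nat_lit 60, nat_lit 120, nat_lit 120, nat_lit 120, nat_lit 90, nat_lit 120, nat_lit 120, nat_lit 60])
noncomputable def r25 : WT := (.leaf (nat_lit 7174) [nat_lit 120, nat_lit 120, nat_lit 60, nat_lit 120, nat_lit 60, nat_lit 120, nat_lit 120, nat_lit 120, nat_lit 60, nat_lit 120, nat_lit 60, nat_lit 120, nat_lit 120, nat_lit 120, nat_lit 60, nat_lit 120, nat_lit 60, nat_lit 120, nat_lit 120, nat_lit 120, nat_lit 60, nat_lit 120, nat_lit 60])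
noncomputable def r26 : WT := (.node (nat_lit 10) (.node (nat_lit 9) r20 r21) (.node (nat_lit 11) r22 (.node (nat_lit 12) r23 (.node (nat_lit 13) r24 r25))))
noncomputable def w2 : WT := (.node (nat_lit 1) (.leaf (nat_lit 1024) [nat_lit 150]) (.node (nat_lit 2) (.leaf (nat_lit 2048) [nat_lit 120, nat_lit 120, nat_lit 120, nat_lit 120, nat_lit 120]) (.node (nat_lit 5) (.node (nat_lit 3) (.leaf (nat_lit 4102) [nat_lit 90, nat_lit 150, nat_lit 60, nat_lit 120, nat_lit 90, nat_lit 150, nat_lit 60, nat_lit 120, nat_lit 90, nat_lit 150, nat_lit 60]) r15) (.node (nat_lit 8) r19 r26))))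
noncomputable def r27 : WT := (.leaf (nat_lit 5123) [nat_lit 150, nat_lit 90, nat_lit 150, nat_lit 150, nat_lit 60, nat_lit 150, nat_lit 150, nat_lit 150, nat_lit 90, nat_lit 150, nat_lit 150, nat_lit 60, nat_lit 150, nat_lit 150, nat_lit 150, nat_lit 90, nat_lit 150, nat_lit 150, nat_lit 60, nat_lit 150])
noncomputable def r28 : WT := (.leaf (nat_lit 5131) [nat_lit 60, nat_lit 150, nat_lit 150, nat_lit 150, nat_lit 90, nat_lit 150, nat_lit 150, nat_lit 60, nat_lit 150, nat_lit 150, nat_lit 150, nat_lit 90, nat_lit 150, nat_lit 150, nat_lit 60, nat_lit 150, nat_lit 150, nat_lit 150, nat_lit 90, nat_lit 150])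
noncomputable def r29 : WT := (.node (nat_lit 5) r27 r28)
noncomputable def r30 : WT := (.leaf (nat_lit 6145) [nat_lit 90, nat_lit 150, nat_lit 90, nat_lit 150, nat_lit 90, nat_lit 150, nat_lit 90, nat_lit 150, nat_lit 90, nat_lit 150, nat_lit 90, nat_lit 150, nat_lit 90, nat_lit 150, nat_lit 90])
noncomputable def r31 : WT := (.leaf (nat_lit 7177) [nat_lit 90, nat_lit 150, nat_lit 150, nat_lit 150, nat_lit 90, nat_lit 150, nat_lit 90, nat_lit 150, nat_lit 150, nat_lit 150, nat_lit 90, nat_lit 150, nat_lit 90, nat_lit 150, nat_lit 150, nat_lit 150, nat_lit 90, nat_lit 150, nat_lit 90, nat_lit 150, nat_lit 150, nat_lit 150, nat_lit 90])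
noncomputable def r32 : WT := (.node (nat_lit 7) r30 r31)
noncomputable def r33 : WT := (.leaf (nat_lit 5125) [nat_lit 90, nat_lit 150, nat_lit 150, nat_lit 60, nat_lit 150, nat_lit 150, nat_lit 150, nat_lit 90, nat_lit 150, nat_lit 150, nat_lit 60, nat_lit 150, nat_lit 150, nat_lit 150, nat_lit 90, nat_lit 150, nat_lit 150, nat_lit 60, nat_lit 150, nat_lit 150])
noncomputable def r34 : WT := (.leaf (nat_lit 5129) [nat_lit 150, nat_lit 60, nat_lit 150, nat_lit 150, nat_lit 150, nat_lit 90, nat_lit 150, nat_lit 150, nat_lit 60, nat_lit 150, nat_lit 150, nat_lit 150, nat_lit 90, nat_lit 150, nat_lit 150, nat_lit 60, nat_lit 150, nat_lit 150, nat_lit 150, nat_lit 90])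
noncomputable def r35 : WT := (.leaf (nat_lit 7171) [nat_lit 150, nat_lit 90, nat_lit 150, nat_lit 90, nat_lit 150, nat_lit 150, nat_lit 150, nat_lit 90, nat_lit 150, nat_lit 90, nat_lit 150, nat_lit 150, nat_lit 150, nat_lit 90, nat_lit 150, nat_lit 90, nat_lit 150, nat_lit 150, nat_lit 150, nat_lit 90, nat_lit 150, nat_lit 90, nat_lit 150])
noncomputable def r36 : WT := (.leaf (nat_lit 7173) [nat_lit 90, nat_lit 150, nat_lit 90, nat_lit 150, nat_lit 150, nat_lit 150, nat_lit 90, nat_lit 150, nat_lit 90, nat_lit 150, nat_lit 150, nat_lit 150, nat_lit 90, nat_lit 150, nat_lit 90, nat_lit 150, nat_lit 150, nat_lit 150, nat_lit 90, nat_lit 150, nat_lit 90, nat_lit 150, nat_lit 150])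
noncomputable def r37 : WT := (.leaf (nat_lit 5121) [nat_lit 150, nat_lit 150, nat_lit 90, nat_lit 150, nat_lit 150, nat_lit 60, nat_lit 150, nat_lit 150, nat_lit 150, nat_lit 90, nat_lit 150, nat_lit 150, nat_lit 60, nat_lit 150, nat_lit 150, nat_lit 150, nat_lit 90, nat_lit 150, nat_lit 150, nat_lit 60])
noncomputable def r38 : WT := (.leaf (nat_lit 7169) [nat_lit 150, nat_lit 150, nat_lit 90, nat_lit 150, nat_lit 90, nat_lit 150, nat_lit 150, nat_lit 150, nat_lit 90, nat_lit 150, nat_lit 90, nat_lit 150, nat_lit 150, nat_lit 150, nat_lit 90, nat_lit 150, nat_lit 90, nat_lit 150, nat_lit 150, nat_lit 150, nat_lit 90, nat_lit 150, nat_lit 90])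
noncomputable def r39 : WT := (.node (nat_lit 10) (.node (nat_lit 9) r33 r34) (.node (nat_lit 11) r35 (.node (nat_lit 12) r36 (.node (nat_lit 13) r37 r38))))
noncomputable def w3 : WT := (.node (nat_lit 1) (.leaf (nat_lit 1026) [nat_lit 120]) (.node (nat_lit 3) (.node (nat_lit 2) (.leaf (nat_lit 2049) [nat_lit 150, nat_lit 150, nat_lit 150, nat_lit 150, nat_lit 150]) (.leaf (nat_lit 4098) [nat_lit 60, nat_lit 120, nat_lit 90, nat_lit 150, nat_lit 60, nat_lit 120, nat_lit 90, nat_lit 150, nat_lit 60, nat_lit 120, nat_lit 90])) (.node (nat_lit 6) (.node (nat_lit 4) (.leaf (nat_lit 4097) [nat_lit 90, nat_lit 120, nat_lit 60, nat_lit 150, nat_lit 90, nat_lit 120, nat_lit 60, nat_lit 150, nat_lit 90, nat_lit 120, nat_lit 60]) r29) (.node (nat_lit 8) r32 r39))))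
noncomputable def w4 : WT := (.leaf (nat_lit 9216) [nat_lit 210])
noncomputable def w5 : WT := (.leaf (nat_lit 9218) [nat_lit 180])
noncomputable def r40 : WT := (.leaf (nat_lit 6145) [nat_lit 150, nat_lit 90, nat_lit 150, nat_lit 90, nat_lit 150, nat_lit 90, nat_lit 150, nat_lit 90, nat_lit 150, nat_lit 90, nat_lit 150, nat_lit 90, nat_lit 150, nat_lit 90, nat_lit 150, nat_lit 90])
noncomputable def r41 : WT := (.leaf (nat_lit 6146) [nat_lit 120, nat_lit 60, nat_lit 120, nat_lit 60, nat_lit 120, nat_lit 60, nat_lit 120, nat_lit 60, nat_lit 120, nat_lit 60, nat_lit 120, nat_lit 60, nat_lit 120, nat_lit 60, nat_lit 120, nat_lit 60])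
noncomputable def r42 : WT := (.leaf (nat_lit 5129) [nat_lit 150, nat_lit 150, nat_lit 60, nat_lit 150, nat_lit 150, nat_lit 150, nat_lit 90, nat_lit 150, nat_lit 150, nat_lit 60, nat_lit 150, nat_lit 150, nat_lit 150, nat_lit 90, nat_lit 150, nat_lit 150, nat_lit 60, nat_lit 150, nat_lit 150, nat_lit 150, nat_lit 90])
noncomputable def r43 : WT := (.node (nat_lit 4) (.leaf (nat_lit 4098) [nat_lit 150, nat_lit 60, nat_lit 120, nat_lit 90, nat_lit 150, nat_lit 60, nat_lit 120, nat_lit 90, nat_lit 150, nat_lit 60, nat_lit 120, nat_lit 90]) r42)
noncomputable def r44 : WT := (.leaf (nat_lit 5131) [nat_lit 150, nat_lit 60, nat_lit 150, nat_lit 150, nat_lit 150, nat_lit 90, nat_lit 150, nat_lit 150, nat_lit 60, nat_lit 150, nat_lit 150, nat_lit 150, nat_lit 90, nat_lit 150, nat_lit 150, nat_lit 60, nat_lit 150, nat_lit 150, nat_lit 150, nat_lit 90, nat_lit 150])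
noncomputable def r45 : WT := (.leaf (nat_lit 6144) [nat_lit 60, nat_lit 120, nat_lit 60, nat_lit 120, nat_lit 60, nat_lit 120, nat_lit 60, nat_lit 120, nat_lit 60, nat_lit 120, nat_lit 60, nat_lit 120, nat_lit 60, nat_lit 120, nat_lit 60, nat_lit 120])
noncomputable def r46 : WT := (.leaf (nat_lit 5121) [nat_lit 150, nat_lit 150, nat_lit 150, nat_lit 90, nat_lit 150, nat_lit 150, nat_lit 60, nat_lit 150, nat_lit 150, nat_lit 150, nat_lit 90, nat_lit 150, nat_lit 150, nat_lit 60, nat_lit 150, nat_lit 150, nat_lit 150, nat_lit 90, nat_lit 150, nat_lit 150, nat_lit 60])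
noncomputable def r47 : WT := (.node (nat_lit 7) r45 r46)
noncomputable def r48 : WT := (.leaf (nat_lit 7177) [nat_lit 150, nat_lit 90, nat_lit 150, nat_lit 150, nat_lit 150, nat_lit 90, nat_lit 150, nat_lit 90, nat_lit 150, nat_lit 150, nat_lit 150, nat_lit 90, nat_lit 150, nat_lit 90, nat_lit 150, nat_lit 150, nat_lit 150, nat_lit 90, nat_lit 150, nat_lit 90, nat_lit 150, nat_lit 150, nat_lit 150, nat_lit 90])
noncomputable def r49 : WT := (.leaf (nat_lit 5122) [nat_lit 120, nat_lit 120, nat_lit 60, nat_lit 120, nat_lit 120, nat_lit 120, nat_lit 90, nat_lit 120, nat_lit 120, nat_lit 60, nat_lit 120, nat_lit 120, nat_lit 120, nat_lit 90, nat_lit 120, nat_lit 120, nat_lit 60, nat_lit 120, nat_lit 120, nat_lit 120, nat_lit 90])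
noncomputable def r50 : WT := (.node (nat_lit 9) r48 r49)
noncomputable def r51 : WT := (.leaf (nat_lit 5124) [nat_lit 120, nat_lit 60, nat_lit 120, nat_lit 120, nat_lit 120, nat_lit 90, nat_lit 120, nat_lit 120, nat_lit 60, nat_lit 120, nat_lit 120, nat_lit 120, nat_lit 90, nat_lit 120, nat_lit 120, nat_lit 60, nat_lit 120, nat_lit 120, nat_lit 120, nat_lit 90, nat_lit 120])
noncomputable def r52 : WT := (.node (nat_lit 11) (.leaf (nat_lit 2048) [nat_lit 120, nat_lit 120, nat_lit 120, nat_lit 120, nat_lit 120, nat_lit 120]) r51)
noncomputable def r53 : WT := (.leaf (nat_lit 7169) [nat_lit 150, nat_lit 150, nat_lit 150, nat_lit 90, nat_lit 150, nat_lit 90, nat_lit 150, nat_lit 150, nat_lit 150, nat_lit 90, nat_lit 150, nat_lit 90, nat_lit 150, nat_lit 150, nat_lit 150, nat_lit 90, nat_lit 150, nat_lit 90, nat_lit 150, nat_lit 150, nat_lit 150, nat_lit 90, nat_lit 150, nat_lit 90])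
noncomputable def r54 : WT := (.leaf (nat_lit 5123) [nat_lit 150, nat_lit 150, nat_lit 90, nat_lit 150, nat_lit 150, nat_lit 60, nat_lit 150, nat_lit 150, nat_lit 150, nat_lit 90, nat_lit 150, nat_lit 150, nat_lit 60, nat_lit 150, nat_lit 150, nat_lit 150, nat_lit 90, nat_lit 150, nat_lit 150, nat_lit 60, nat_lit 150])
noncomputable def r55 : WT := (.node (nat_lit 13) r53 r54)
noncomputable def r56 : WT := (.leaf (nat_lit 7170) [nat_lit 120, nat_lit 60, nat_lit 120, nat_lit 120, nat_lit 120, nat_lit 60, nat_lit 120, nat_lit 60, nat_lit 120, nat_lit 120, nat_lit 120, nat_lit 60, nat_lit 120, nat_lit 60, nat_lit 120, nat_lit 120, nat_lit 120, nat_lit 60, nat_lit 120, nat_lit 60, nat_lit 120, nat_lit 120, nat_lit 120, nat_lit 60])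
noncomputable def r57 : WT := (.leaf (nat_lit 6147) [nat_lit 90, nat_lit 150, nat_lit 90, nat_lit 150, nat_lit 90, nat_lit 150, nat_lit 90, nat_lit 150, nat_lit 90, nat_lit 150, nat_lit 90, nat_lit 150, nat_lit 90, nat_lit 150, nat_lit 90, nat_lit 150])
noncomputable def r58 : WT := (.leaf (nat_lit 7174) [nat_lit 120, nat_lit 120, nat_lit 120, nat_lit 60, nat_lit 120, nat_lit 60, nat_lit 120, nat_lit 120, nat_lit 120, nat_lit 60, nat_lit 120, nat_lit 60, nat_lit 120, nat_lit 120, nat_lit 120, nat_lit 60, nat_lit 120, nat_lit 60, nat_lit 120, nat_lit 120, nat_lit 120, nat_lit 60, nat_lit 120, nat_lit 60])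
noncomputable def r59 : WT := (.node (nat_lit 15) r56 (.node (nat_lit 16) r57 r58))
noncomputable def r60 : WT := (.node (nat_lit 18) (.leaf (nat_lit 2049) [nat_lit 150, nat_lit 150, nat_lit 150, nat_lit 150, nat_lit 150, nat_lit 150]) (.leaf (nat_lit 4099) [nat_lit 90, nat_lit 120, nat_lit 60, nat_lit 150, nat_lit 90, nat_lit 120, nat_lit 60, nat_lit 150, nat_lit 90, nat_lit 120, nat_lit 60, nat_lit 150]))
noncomputable def r61 : WT := (.leaf (nat_lit 5128) [nat_lit 120, nat_lit 120, nat_lit 120, nat_lit 90, nat_lit 120, nat_lit 120, nat_lit 60, nat_lit 120, nat_lit 120, nat_lit 120, nat_lit 90, nat_lit 120, nat_lit 120, nat_lit 60, nat_lit 120, nat_lit 120, nat_lit 120, nat_lit 90, nat_lit 120, nat_lit 120, nat_lit 60])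
noncomputable def r62 : WT := (.leaf (nat_lit 5130) [nat_lit 120, nat_lit 120, nat_lit 90, nat_lit 120, nat_lit 120, nat_lit 60, nat_lit 120, nat_lit 120, nat_lit 120, nat_lit 90, nat_lit 120, nat_lit 120, nat_lit 60, nat_lit 120, nat_lit 120, nat_lit 120, nat_lit 90, nat_lit 120, nat_lit 120, nat_lit 60, nat_lit 120])
noncomputable def r63 : WT := (.leaf (nat_lit 5132) [nat_lit 120, nat_lit 90, nat_lit 120, nat_lit 120, nat_lit 60, nat_lit 120, nat_lit 120, nat_lit 120, nat_lit 90, nat_lit 120, nat_lit 120, nat_lit 60, nat_lit 120, nat_lit 120, nat_lit 120, nat_lit 90, nat_lit 120, nat_lit 120, nat_lit 60, nat_lit 120, nat_lit 120])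
noncomputable def r64 : WT := (.node (nat_lit 20) r61 (.node (nat_lit 21) r62 r63))
noncomputable def r65 : WT := (.leaf (nat_lit 7171) [nat_lit 150, nat_lit 150, nat_lit 90, nat_lit 150, nat_lit 90, nat_lit 150, nat_lit 150, nat_lit 150, nat_lit 90, nat_lit 150, nat_lit 90, nat_lit 150, nat_lit 150, nat_lit 150, nat_lit 90, nat_lit 150, nat_lit 90, nat_lit 150, nat_lit 150, nat_lit 150, nat_lit 90, nat_lit 150, nat_lit 90, nat_lit 150])
noncomputable def r66 : WT := (.leaf (nat_lit 5126) [nat_lit 60, nat_lit 120, nat_lit 120, nat_lit 120, nat_lit 90, nat_lit 120, nat_lit 120, nat_lit 60, nat_lit 120, nat_lit 120, nat_lit 120, nat_lit 90, nat_lit 120, nat_lit 120, nat_lit 60, nat_lit 120, nat_lit 120, nat_lit 120, nat_lit 90, nat_lit 120, nat_lit 120])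
noncomputable def r67 : WT := (.node (nat_lit 23) (.leaf (nat_lit 4103) [nat_lit 60, nat_lit 150, nat_lit 90, nat_lit 120, nat_lit 60, nat_lit 150, nat_lit 90, nat_lit 120, nat_lit 60, nat_lit 150, nat_lit 90, nat_lit 120]) (.node (nat_lit 24) r65 r66))
noncomputable def r68 : WT := (.leaf (nat_lit 7176) [nat_lit 120, nat_lit 120, nat_lit 60, nat_lit 120, nat_lit 60, nat_lit 120, nat_lit 120, nat_lit 120, nat_lit 60, nat_lit 120, nat_lit 60, nat_lit 120, nat_lit 120, nat_lit 120, nat_lit 60, nat_lit 120, nat_lit 60, nat_lit 120, nat_lit 120, nat_lit 120, nat_lit 60, nat_lit 120, nat_lit 60, nat_lit 120])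
noncomputable def r69 : WT := (.leaf (nat_lit 7172) [nat_lit 60, nat_lit 120, nat_lit 120, nat_lit 120, nat_lit 60, nat_lit 120, nat_lit 60, nat_lit 120, nat_lit 120, nat_lit 120, nat_lit 60, nat_lit 120, nat_lit 60, nat_lit 120, nat_lit 120, nat_lit 120, nat_lit 60, nat_lit 120, nat_lit 60, nat_lit 120, nat_lit 120, nat_lit 120, nat_lit 60, nat_lit 120])
noncomputable def r70 : WT := (.leaf (nat_lit 5120) [nat_lit 90, nat_lit 120, nat_lit 120, nat_lit 60, nat_lit 120, nat_lit 120, nat_lit 120, nat_lit 90, nat_lit 120, nat_lit 120, nat_lit 60, nat_lit 120, nat_lit 120, nat_lit 120, nat_lit 90, nat_lit 120, nat_lit 120, nat_lit 60, nat_lit 120, nat_lit 120, nat_lit 120])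
noncomputable def r71 : WT := (.leaf (nat_lit 7173) [nat_lit 150, nat_lit 90, nat_lit 150, nat_lit 90, nat_lit 150, nat_lit 150, nat_lit 150, nat_lit 90, nat_lit 150, nat_lit 90, nat_lit 150, nat_lit 150, nat_lit 150, nat_lit 90, nat_lit 150, nat_lit 90, nat_lit 150, nat_lit 150, nat_lit 150, nat_lit 90, nat_lit 150, nat_lit 90, nat_lit 150, nat_lit 150])
noncomputable def r72 : WT := (.node (nat_lit 27) (.node (nat_lit 26) r68 r69) (.node (nat_lit 28) r70 r71))
noncomputable def r73 : WT := (.leaf (nat_lit 5133) [nat_lit 60, nat_lit 150, nat_lit 150, nat_lit 150, nat_lit 90, nat_lit 150, nat_lit 150, nat_lit 60, nat_lit 150, nat_lit 150, nat_lit 150, nat_lit 90, nat_lit 150, nat_lit 150, nat_lit 60, nat_lit 150, nat_lit 150, nat_lit 150, nat_lit 90, nat_lit 150, nat_lit 150])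
noncomputable def r74 : WT := (.leaf (nat_lit 7168) [nat_lit 60, nat_lit 120, nat_lit 60, nat_lit 120, nat_lit 120, nat_lit 120, nat_lit 60, nat_lit 120, nat_lit 60, nat_lit 120, nat_lit 120, nat_lit 120, nat_lit 60, nat_lit 120, nat_lit 60, nat_lit 120, nat_lit 120, nat_lit 120, nat_lit 60, nat_lit 120, nat_lit 60, nat_lit 120, nat_lit 120, nat_lit 120])
noncomputable def r75 : WT := (.leaf (nat_lit 7178) [nat_lit 120, nat_lit 60, nat_lit 120, nat_lit 60, nat_lit 120, nat_lit 120, nat_lit 120, nat_lit 60, nat_lit 120, nat_lit 60, nat_lit 120, nat_lit 120, nat_lit 120, nat_lit 60, nat_lit 120, nat_lit 60, nat_lit 120, nat_lit 120, nat_lit 120, nat_lit 60, nat_lit 120, nat_lit 60, nat_lit 120, nat_lit 120])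
noncomputable def r76 : WT := (.leaf (nat_lit 5125) [nat_lit 150, nat_lit 90, nat_lit 150, nat_lit 150, nat_lit 60, nat_lit 150, nat_lit 150, nat_lit 150, nat_lit 90, nat_lit 150, nat_lit 150, nat_lit 60, nat_lit 150, nat_lit 150, nat_lit 150, nat_lit 90, nat_lit 150, nat_lit 150, nat_lit 60, nat_lit 150, nat_lit 150])
noncomputable def r77 : WT := (.node (nat_lit 31) (.node (nat_lit 30) r73 r74) (.node (nat_lit 32) r75 r76))
noncomputable def r78 : WT := (.leaf (nat_lit 7175) [nat_lit 90, nat_lit 150, nat_lit 90, nat_lit 150, nat_lit 150, nat_lit 150, nat_lit 90, nat_lit 150, nat_lit 90, nat_lit 150, nat_lit 150, nat_lit 150, nat_lit 90, nat_lit 150, nat_lit 90, nat_lit 150, nat_lit 150, nat_lit 150, nat_lit 90, nat_lit 150, nat_lit 90, nat_lit 150, nat_lit 150, nat_lit 150])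
noncomputable def r79 : WT := (.leaf (nat_lit 7179) [nat_lit 90, nat_lit 150, nat_lit 150, nat_lit 150, nat_lit 90, nat_lit 150, nat_lit 90, nat_lit 150, nat_lit 150, nat_lit 150, nat_lit 90, nat_lit 150, nat_lit 90, nat_lit 150, nat_lit 150, nat_lit 150, nat_lit 90, nat_lit 150, nat_lit 90, nat_lit 150, nat_lit 150, nat_lit 150, nat_lit 90, nat_lit 150])
noncomputable def r80 : WT := (.leaf (nat_lit 5127) [nat_lit 90, nat_lit 150, nat_lit 150, nat_lit 60, nat_lit 150, nat_lit 150, nat_lit 150, nat_lit 90, nat_lit 150, nat_lit 150, nat_lit 60, nat_lit 150, nat_lit 150, nat_lit 150, nat_lit 90, nat_lit 150, nat_lit 150, nat_lit 60, nat_lit 150, nat_lit 150, nat_lit 150])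
noncomputable def r81 : WT := (.node (nat_lit 40) (.leaf (nat_lit 4097) [nat_lit 150, nat_lit 90, nat_lit 120, nat_lit 60, nat_lit 150, nat_lit 90, nat_lit 120, nat_lit 60, nat_lit 150, nat_lit 90, nat_lit 120, nat_lit 60]) (.leaf (nat_lit 3083) [nat_lit 90, nat_lit 120, nat_lit 90, nat_lit 90, nat_lit 150, nat_lit 90]))
noncomputable def r82 : WT := (.node (nat_lit 35) (.node (nat_lit 34) r78 r79) (.node (nat_lit 37) (.node (nat_lit 36) r80 (.leaf (nat_lit 4096) [nat_lit 90, nat_lit 150, nat_lit 60, nat_lit 120, nat_lit 90, nat_lit 150, nat_lit 60, nat_lit 120, nat_lit 90, nat_lit 150, nat_lit 60, nat_lit 120])) (.node (nat_lit 38) (.leaf (nat_lit 4100) [nat_lit 60, nat_lit 120, nat_lit 90, nat_lit 150, nat_lit 60, nat_lit 120, nat_lit 90, nat_lit 150, nat_lit 60, nat_lit 120, nat_lit 90, nat_lit 150]) (.node (nat_lit 39) (.leaf (nat_lit 4101) [nat_lit 120, nat_lit 60, nat_lit 150, nat_lit 90, nat_lit 120, nat_lit 60, nat_lit 150, nat_lit 90, nat_lit 120, nat_lit 60, nat_lit 150, nat_lit 90]) r81))))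
noncomputable def wP : WT := (.node (nat_lit 12) (.node (nat_lit 5) (.node (nat_lit 2) (.node (nat_lit 1) (.leaf (nat_lit 4102) [nat_lit 120, nat_lit 90, nat_lit 150, nat_lit 60, nat_lit 120, nat_lit 90, nat_lit 150, nat_lit 60, nat_lit 120, nat_lit 90, nat_lit 150, nat_lit 60]) r40) (.node (nat_lit 3) r41 r43)) (.node (nat_lit 8) (.node (nat_lit 6) r44 r47) (.node (nat_lit 10) r50 r52))) (.node (nat_lit 22) (.node (nat_lit 17) (.node (nat_lit 14) r55 r59) (.node (nat_lit 19) r60 r64)) (.node (nat_lit 29) (.node (nat_lit 25) r67 r72) (.node (nat_lit 33) r77 r82))))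
noncomputable def P : Par := ⟨tb, nat_lit 240, nat_lit 0xffffffffffffffffffffffffffffffffffffffffffffffffffffffffffff, nat_lit 197650, nat_lit 1073741823, nat_lit 262143, nat_lit 30, nat_lit 18, nat_lit 126000,
  [nat_lit 60, nat_lit 90, nat_lit 120, nat_lit 150, nat_lit 180, nat_lit 210], [nat_lit 120, nat_lit 180], wP,
  (.cons (nat_lit 60) w0 (.cons (nat_lit 90) w1 (.cons (nat_lit 120) w2 (.cons (nat_lit 150) w3 .nil)))),
  (.cons (nat_lit 180) w4 (.cons (nat_lit 210) w5 .nil))⟩

end Cfsg.Agent.Lib.TCHN2
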