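import Cfsg.Agent.Lib.TCHP2D0

set_option autoImplicit false
set_option maxRecDepth 100000

namespace Cfsg.Agent.Lib.TCHP2
open Cfsg.Agent.Lib.TCCore

noncomputable def n0 : T := (.node (nat_lit 100) l0 (.node (nat_lit 200) l1 l2))
noncomputable def n1 : T := (.node (nat_lit 500) (.node (nat_lit 400) l3 l4) (.node (nat_lit 600) l5 l6))
noncomputable def n2 : T := (.node (nat_lit 800) l7 (.node (nat_lit 900) l8 l9))
noncomputable def n3 : T := (.node (nat_lit 1200) (.node (nat_lit 1100) l10 l11) (.node (nat_lit 1300) l12 l13))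
noncomputable def n4 : T := (.node (nat_lit 1500) l14 (.node (nat_lit 1600) l15 l16))
noncomputable def n5 : T := (.node (nat_lit 1900) (.node (nat_lit 1800) l17 l18) (.node (nat_lit 2000) l19 l20))
noncomputable def n6 : T := (.node (nat_lit 2200) l21 (.node (nat_lit 2300) l22 l23))
noncomputable def n7 : T := (.node (nat_lit 2600) (.node (nat_lit 2500) l24 l25) (.node (nat_lit 2700) l26 l27))
noncomputable def n8 : T := (.node (nat_lit 2900) l28 (.node (nat_lit 3000) l29 l30))
noncomputable def n9 : T := (.node (nat_lit 3300) (.node (nat_lit 3200) l31 l32) (.node (nat_lit 3400) l33 l34))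
noncomputable def n10 : T := (.node (nat_lit 3600) l35 (.node (nat_lit 3700) l36 l37))
noncomputable def n11 : T := (.node (nat_lit 4000) (.node (nat_lit 3900) l38 l39) (.node (nat_lit 4100) l40 l41))
noncomputable def n12 : T := (.node (nat_lit 4300) l42 (.node (nat_lit 4400) l43 l44))
noncomputable def n13 : T := (.node (nat_lit 4700) (.node (nat_lit 4600) l45 l46) (.node (nat_lit 4800) l47 l48))
noncomputable def n14 : T := (.node (nat_lit 5000) l49 (.node (nat_lit 5100) l50 l51))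
noncomputable def n15 : T := (.node (nat_lit 5400) (.node (nat_lit 5300) l52 l53) (.node (nat_lit 5500) l54 l55))
noncomputable def n16 : T := (.node (nat_lit 5700) l56 (.node (nat_lit 5800) l57 l58))
noncomputable def n17 : T := (.node (nat_lit 6100) (.node (nat_lit 6000) l59 l60) (.node (nat_lit 6200) l61 l62))
noncomputable def n18 : T := (.node (nat_lit 6400) l63 (.node (nat_lit 6500) l64 l65))
noncomputable def n19 : T := (.node (nat_lit 6800) (.node (nat_lit 6700) l66 l67) (.node (nat_lit 6900) l68 l69))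
noncomputable def n20 : T := (.node (nat_lit 7100) l70 (.node (nat_lit 7200) l71 l72))
noncomputable def n21 : T := (.node (nat_lit 7500) (.node (nat_lit 7400) l73 l74) (.node (nat_lit 7600) l75 l76))
noncomputable def n22 : T := (.node (nat_lit 7800) l77 (.node (nat_lit 7900) l78 l79))
noncomputable def n23 : T := (.node (nat_lit 8200) (.node (nat_lit 8100) l80 l81) (.node (nat_lit 8300) l82 l83))
noncomputable def n24 : T := (.node (nat_lit 8500) l84 (.node (nat_lit 8600) l85 l86))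
noncomputable def n25 : T := (.node (nat_lit 8900) (.node (nat_lit 8800) l87 l88) (.node (nat_lit 9000) l89 l90))
noncomputable def n26 : T := (.node (nat_lit 9200) l91 (.node (nat_lit 9300) l92 l93))
noncomputable def n27 : T := (.node (nat_lit 9600) (.node (nat_lit 9500) l94 l95) (.node (nat_lit 9700) l96 l97))
noncomputable def n28 : T := (.node (nat_lit 9900) l98 (.node (nat_lit 10000) l99 l100))
noncomputable def n29 : T := (.node (nat_lit 10300) (.node (nat_lit 10200) l101 l102) (.node (nat_lit 10400) l103 l104))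
noncomputable def n30 : T := (.node (nat_lit 10700) (.node (nat_lit 10600) l105 l106) (.node (nat_lit 10800) l107 l108))
noncomputable def n31 : T := (.node (nat_lit 11100) (.node (nat_lit 11000) l109 l110) (.node (nat_lit 11200) l111 l112))
noncomputable def tb : T := (.node (nat_lit 5600) (.node (nat_lit 2800) (.node (nat_lit 1400) (.node (nat_lit 700) (.node (nat_lit 300) n0 n1) (.node (nat_lit 1000) n2 n3)) (.node (nat_lit 2100) (.node (nat_lit 1700) n4 n5) (.node (nat_lit 2400) n6 n7))) (.node (nat_lit 4200) (.node (nat_lit 3500) (.node (nat_lit 3100) n8 n9) (.node (nat_lit 3800) n10 n11)) (.node (nat_lit 4900) (.node (nat_lit 4500) n12 n13) (.node (nat_lit 5200) n14 n15)))) (.node (nat_lit 8400) (.node (nat_lit 7000) (.node (nat_lit 6300) (.node (nat_lit 5900) n16 n17) (.node (nat_lit 6600) n18 n19)) (.node (nat_lit 7700) (.node (nat_lit 7300) n20 n21) (.node (nat_lit 8000) n22 n23))) (.node (nat_lit 9800) (.node (nat_lit 9100) (.node (nat_lit 8700) n24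 n25) (.node (nat_lit 9400) n26 n27)) (.node (nat_lit 10500) (.node (nat_lit 10100) n28 n29) (.node (nat_lit 10900) n30 n31)))))
noncomputable def r0 : WT := (.leaf (nat_lit 19482) [nat_lit 168, nat_lit 168, nat_lit 48, nat_lit 168, nat_lit 72, nat_lit 144, nat_lit 144, nat_lit 72, nat_lit 144, nat_lit 72, nat_lit 168, nat_lit 72, nat_lit 144, nat_lit 48, nat_lit 144, nat_lit 48, nat_lit 168])
noncomputable def r1 : WT := (.leaf (nat_lit 19474) [nat_lit 144, nat_lit 48, nat_lit 168, nat_lit 48, nat_lit 168, nat_lit 168, nat_lit 48, nat_lit 168, nat_lit 72, nat_lit 144, nat_lit 144, nat_lit 72, nat_lit 144, nat_lit 72, nat_lit 168, nat_lit 72, nat_lit 144])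
noncomputable def r2 : WT := (.leaf (nat_lit 19478) [nat_lit 168, nat_lit 48, nat_lit 168, nat_lit 168, nat_lit 48, nat_lit 168, nat_lit 72, nat_lit 144, nat_lit 144, nat_lit 72, nat_lit 144, nat_lit 72, nat_lit 168, nat_lit 72, nat_lit 144, nat_lit 48, nat_lit 144])
noncomputable def r3 : WT := (.leaf (nat_lit 19488) [nat_lit 168, nat_lit 72, nat_lit 144, nat_lit 144, nat_lit 72, nat_lit 144, nat_lit 72, nat_lit 168, nat_lit 72, nat_lit 144, nat_lit 48, nat_lit 144, nat_lit 48, nat_lit 168, nat_lit 48, nat_lit 168, nat_lit 168])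
noncomputable def r4 : WT := (.leaf (nat_lit 19477) [nat_lit 144, nat_lit 48, nat_lit 168, nat_lit 48, nat_lit 168, nat_lit 168, nat_lit 48, nat_lit 144, nat_lit 72, nat_lit 144, nat_lit 144, nat_lit 72, nat_lit 144, nat_lit 72, nat_lit 168, nat_lit 72, nat_lit 168])
noncomputable def r5 : WT := (.node (nat_lit 6) (.node (nat_lit 5) r0 (.leaf (nat_lit 3072) [nat_lit 48, nat_lit 48, nat_lit 48, nat_lit 48, nat_lit 48, nat_lit 48])) (.node (nat_lit 7) r1 (.node (nat_lit 8) r2 (.node (nat_lit 9) r3 r4))))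
noncomputable def r6 : WT := (.leaf (nat_lit 16388) [nat_lit 144, nat_lit 72, nat_lit 144, nat_lit 48, nat_lit 144, nat_lit 48, nat_lit 96, nat_lit 72, nat_lit 168, nat_lit 72, nat_lit 168, nat_lit 48, nat_lit 168, nat_lit 72, nat_lit 168, nat_lit 72, nat_lit 96, nat_lit 48, nat_lit 144])
noncomputable def r7 : WT := (.leaf (nat_lit 19485) [nat_lit 168, nat_lit 168, nat_lit 48, nat_lit 144, nat_lit 72, nat_lit 144, nat_lit 144, nat_lit 72, nat_lit 144, nat_lit 72, nat_lit 168, nat_lit 72, nat_lit 168, nat_lit 48, nat_lit 144, nat_lit 48, nat_lit 168])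
noncomputable def r8 : WT := (.leaf (nat_lit 16396) [nat_lit 144, nat_lit 48, nat_lit 96, nat_lit 72, nat_lit 168, nat_lit 72, nat_lit 168, nat_lit 48, nat_lit 168, nat_lit 72, nat_lit 168, nat_lit 72, nat_lit 96, nat_lit 48, nat_lit 144, nat_lit 48, nat_lit 144, nat_lit 72, nat_lit 144])
noncomputable def r9 : WT := (.node (nat_lit 12) r7 r8)
noncomputable def r10 : WT := (.leaf (nat_lit 19481) [nat_lit 168, nat_lit 48, nat_lit 168, nat_lit 168, nat_lit 48, nat_lit 144, nat_lit 72, nat_lit 144, nat_lit 144, nat_lit 72, nat_lit 144, nat_lit 72, nat_lit 168, nat_lit 72, nat_lit 168, nat_lit 48, nat_lit 144])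
noncomputable def r11 : WT := (.leaf (nat_lit 8206) [nat_lit 168, nat_lit 72, nat_lit 96, nat_lit 48, nat_lit 144, nat_lit 72, nat_lit 144, nat_lit 48, nat_lit 168, nat_lit 72, nat_lit 168, nat_lit 120, nat_lit 48, nat_lit 144, nat_lit 72, nat_lit 96, nat_lit 144, nat_lit 48, nat_lit 144, nat_lit 72, nat_lit 168])
noncomputable def r12 : WT := (.node (nat_lit 14) r10 r11)
noncomputable def r13 : WT := (.leaf (nat_lit 11270) [nat_lit 144, nat_lit 48, nat_lit 168, nat_lit 48, nat_lit 144, nat_lit 72, nat_lit 144, nat_lit 48, nat_lit 168, nat_lit 72, nat_lit 144, nat_lit 72, nat_lit 168, nat_lit 72, nat_lit 72, nat_lit 144, nat_lit 48, nat_lit 120, nat_lit 72, nat_lit 168, nat_lit 48])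
noncomputable def r14 : WT := (.leaf (nat_lit 10266) [nat_lit 168, nat_lit 48, nat_lit 144, nat_lit 48, nat_lit 144, nat_lit 48, nat_lit 48, nat_lit 120, nat_lit 72, nat_lit 72, nat_lit 168, nat_lit 72, nat_lit 168, nat_lit 72, nat_lit 144, nat_lit 72, nat_lit 144, nat_lit 72, nat_lit 144, nat_lit 48, nat_lit 168])
noncomputable def r15 : WT := (.leaf (nat_lit 9230) [nat_lit 168, nat_lit 72, nat_lit 96, nat_lit 48, nat_lit 144, nat_lit 72, nat_lit 72, nat_lit 168, nat_lit 72, nat_lit 144, nat_lit 72, nat_lit 168, nat_lit 48, nat_lit 144, nat_lit 72, nat_lit 144, nat_lit 48, nat_lit 168, nat_lit 48, nat_lit 144, nat_lit 48])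
noncomputable def r16 : WT := (.node (nat_lit 16) r13 (.node (nat_lit 17) r14 r15))
noncomputable def r17 : WT := (.leaf (nat_lit 8209) [nat_lit 168, nat_lit 72, nat_lit 120, nat_lit 48, nat_lit 144, nat_lit 72, nat_lit 144, nat_lit 48, nat_lit 168, nat_lit 72, nat_lit 168, nat_lit 120, nat_lit 48, nat_lit 168, nat_lit 72, nat_lit 96, nat_lit 144, nat_lit 48, nat_lit 144, nat_lit 72, nat_lit 168])
noncomputable def r18 : WT := (.leaf (nat_lit 15399) [nat_lit 168, nat_lit 48, nat_lit 168, nat_lit 72, nat_lit 144, nat_lit 72, nat_lit 144, nat_lit 72, nat_lit 168, nat_lit 72, nat_lit 168, nat_lit 72, nat_lit 72, nat_lit 120, nat_lit 48, nat_lit 48, nat_lit 144, nat_lit 48, nat_lit 144, nat_lit 48, nat_lit 168])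
noncomputable def r19 : WT := (.leaf (nat_lit 17427) [nat_lit 168, nat_lit 72, nat_lit 168, nat_lit 72, nat_lit 120, nat_lit 144, nat_lit 96, nat_lit 72, nat_lit 168, nat_lit 72, nat_lit 144, nat_lit 48, nat_lit 144, nat_lit 48, nat_lit 120, nat_lit 168, nat_lit 96, nat_lit 48, nat_lit 144])
noncomputable def r20 : WT := (.node (nat_lit 19) r17 (.node (nat_lit 20) r18 r19))
noncomputable def r21 : WT := (.leaf (nat_lit 16399) [nat_lit 144, nat_lit 48, nat_lit 120, nat_lit 72, nat_lit 168, nat_lit 72, nat_lit 168, nat_lit 48, nat_lit 168, nat_lit 72, nat_lit 168, nat_lit 72, nat_lit 120, nat_lit 48, nat_lit 144, nat_lit 48, nat_lit 144, nat_lit 72, nat_lit 144])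
noncomputable def r22 : WT := (.leaf (nat_lit 19491) [nat_lit 144, nat_lit 72, nat_lit 144, nat_lit 144, nat_lit 72, nat_lit 144, nat_lit 72, nat_lit 168, nat_lit 72, nat_lit 168, nat_lit 48, nat_lit 144, nat_lit 48, nat_lit 168, nat_lit 48, nat_lit 168, nat_lit 168])
noncomputable def r23 : WT := (.leaf (nat_lit 12301) [nat_lit 168, nat_lit 48, nat_lit 144, nat_lit 72, nat_lit 120, nat_lit 48, nat_lit 168, nat_lit 72, nat_lit 144, nat_lit 72, nat_lit 168, nat_lit 72, nat_lit 72, nat_lit 144, nat_lit 48, nat_lit 168, nat_lit 72, nat_lit 168, nat_lit 48, nat_lit 48, nat_lit 144])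
noncomputable def r24 : WT := (.leaf (nat_lit 9224) [nat_lit 144, nat_lit 48, nat_lit 48, nat_lit 168, nat_lit 72, nat_lit 96, nat_lit 48, nat_lit 144, nat_lit 72, nat_lit 72, nat_lit 168, nat_lit 72, nat_lit 144, nat_lit 72, nat_lit 168, nat_lit 48, nat_lit 144, nat_lit 72, nat_lit 144, nat_lit 48, nat_lit 168])
noncomputable def r25 : WT := (.node (nat_lit 23) (.node (nat_lit 22) r21 r22) (.node (nat_lit 24) r23 r24))
noncomputable def r26 : WT := (.leaf (nat_lit 8235) [nat_lit 168, nat_lit 72, nat_lit 96, nat_lit 144, nat_lit 48, nat_lit 144, nat_lit 72, nat_lit 168, nat_lit 48, nat_lit 168, nat_lit 72, nat_lit 120, nat_lit 48, nat_lit 144, nat_lit 72, nat_lit 144, nat_lit 48, nat_lit 168, nat_lit 72, nat_lit 168, nat_lit 120])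
noncomputable def r27 : WT := (.leaf (nat_lit 12298) [nat_lit 168, nat_lit 48, nat_lit 144, nat_lit 72, nat_lit 96, nat_lit 48, nat_lit 168, nat_lit 72, nat_lit 144, nat_lit 72, nat_lit 168, nat_lit 72, nat_lit 72, nat_lit 144, nat_lit 48, nat_lit 144, nat_lit 72, nat_lit 168, nat_lit 48, nat_lit 48, nat_lit 144])
noncomputable def r28 : WT := (.leaf (nat_lit 13319) [nat_lit 168, nat_lit 72, nat_lit 144, nat_lit 48, nat_lit 144, nat_lit 120, nat_lit 72, nat_lit 168, nat_lit 48, nat_lit 96, nat_lit 168, nat_lit 72, nat_lit 168, nat_lit 48, nat_lit 144, nat_lit 72, nat_lit 144, nat_lit 48, nat_lit 96, nat_lit 72, nat_lit 168])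
noncomputable def r29 : WT := (.leaf (nat_lit 16391) [nat_lit 144, nat_lit 72, nat_lit 144, nat_lit 48, nat_lit 144, nat_lit 48, nat_lit 120, nat_lit 72, nat_lit 168, nat_lit 72, nat_lit 168, nat_lit 48, nat_lit 168, nat_lit 72, nat_lit 168, nat_lit 72, nat_lit 120, nat_lit 48, nat_lit 144])
noncomputable def r30 : WT := (.node (nat_lit 27) (.node (nat_lit 26) r26 r27) (.node (nat_lit 28) r28 r29))
noncomputable def r31 : WT := (.leaf (nat_lit 14364) [nat_lit 144, nat_lit 48, nat_lit 168, nat_lit 48, nat_lit 168, nat_lit 48, nat_lit 120, nat_lit 72, nat_lit 144, nat_lit 72, nat_lit 144, nat_lit 72, nat_lit 168, nat_lit 72, nat_lit 168, nat_lit 72, nat_lit 72, nat_lit 144, nat_lit 48, nat_lit 48, nat_lit 144])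
noncomputable def r32 : WT := (.leaf (nat_lit 11281) [nat_lit 144, nat_lit 72, nat_lit 168, nat_lit 48, nat_lit 168, nat_lit 72, nat_lit 144, nat_lit 72, nat_lit 168, nat_lit 72, nat_lit 72, nat_lit 144, nat_lit 48, nat_lit 96, nat_lit 72, nat_lit 168, nat_lit 48, nat_lit 48, nat_lit 144, nat_lit 48, nat_lit 168])
noncomputable def r33 : WT := (.leaf (nat_lit 18446) [nat_lit 48, nat_lit 144, nat_lit 72, nat_lit 72, nat_lit 144, nat_lit 48, nat_lit 48, nat_lit 96, nat_lit 72, nat_lit 168, nat_lit 48, nat_lit 168, nat_lit 72, nat_lit 144, nat_lit 48, nat_lit 120, nat_lit 72, nat_lit 72, nat_lit 168])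
noncomputable def r34 : WT := (.leaf (nat_lit 10273) [nat_lit 144, nat_lit 48, nat_lit 144, nat_lit 48, nat_lit 48, nat_lit 96, nat_lit 72, nat_lit 72, nat_lit 168, nat_lit 72, nat_lit 168, nat_lit 72, nat_lit 144, nat_lit 72, nat_lit 144, nat_lit 72, nat_lit 168, nat_lit 48, nat_lit 168, nat_lit 48, nat_lit 168])
noncomputable def r35 : WT := (.node (nat_lit 31) (.node (nat_lit 30) r31 r32) (.node (nat_lit 32) r33 r34))
noncomputable def r36 : WT := (.leaf (nat_lit 16415) [nat_lit 168, nat_lit 72, nat_lit 168, nat_lit 72, nat_lit 120, nat_lit 48, nat_lit 144, nat_lit 48, nat_lit 144, nat_lit 72, nat_lit 144, nat_lit 48, nat_lit 144, nat_lit 48, nat_lit 120, nat_lit 72, nat_lit 168, nat_lit 72, nat_lit 168])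
noncomputable def r37 : WT := (.leaf (nat_lit 16400) [nat_lit 96, nat_lit 72, nat_lit 168, nat_lit 72, nat_lit 168, nat_lit 48, nat_lit 168, nat_lit 72, nat_lit 168, nat_lit 72, nat_lit 96, nat_lit 48, nat_lit 144, nat_lit 48, nat_lit 144, nat_lit 72, nat_lit 144, nat_lit 48, nat_lit 144])
noncomputable def r38 : WT := (.leaf (nat_lit 10269) [nat_lit 168, nat_lit 48, nat_lit 144, nat_lit 48, nat_lit 144, nat_lit 48, nat_lit 48, nat_lit 96, nat_lit 72, nat_lit 72, nat_lit 168, nat_lit 72, nat_lit 168, nat_lit 72, nat_lit 144, nat_lit 72, nat_lit 144, nat_lit 72, nat_lit 168, nat_lit 48, nat_lit 168])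
noncomputable def r39 : WT := (.leaf (nat_lit 11304) [nat_lit 120, nat_lit 72, nat_lit 168, nat_lit 48, nat_lit 48, nat_lit 144, nat_lit 48, nat_lit 168, nat_lit 48, nat_lit 144, nat_lit 72, nat_lit 144, nat_lit 48, nat_lit 168, nat_lit 72, nat_lit 144, nat_lit 72, nat_lit 168, nat_lit 72, nat_lit 72, nat_lit 144])
noncomputable def r40 : WT := (.node (nat_lit 35) (.node (nat_lit 34) r36 r37) (.node (nat_lit 36) r38 r39))
noncomputable def r41 : WT := (.leaf (nat_lit 11278) [nat_lit 144, nat_lit 72, nat_lit 144, nat_lit 48, nat_lit 168, nat_lit 72, nat_lit 144, nat_lit 72, nat_lit 168, nat_lit 72, nat_lit 72, nat_lit 144, nat_lit 48, nat_lit 120, nat_lit 72, nat_lit 168, nat_lit 48, nat_lit 48, nat_lit 144, nat_lit 48, nat_lit 168])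
noncomputable def r42 : WT := (.leaf (nat_lit 10277) [nat_lit 144, nat_lit 48, nat_lit 48, nat_lit 96, nat_lit 72, nat_lit 72, nat_lit 168, nat_lit 72, nat_lit 168, nat_lit 72, nat_lit 144, nat_lit 72, nat_lit 144, nat_lit 72, nat_lit 168, nat_lit 48, nat_lit 168, nat_lit 48, nat_lit 168, nat_lit 48, nat_lit 144])
noncomputable def r43 : WT := (.leaf (nat_lit 12302) [nat_lit 144, nat_lit 72, nat_lit 96, nat_lit 48, nat_lit 168, nat_lit 72, nat_lit 144, nat_lit 72, nat_lit 168, nat_lit 72, nat_lit 72, nat_lit 144, nat_lit 48, nat_lit 144, nat_lit 72, nat_lit 168, nat_lit 48, nat_lit 48, nat_lit 144, nat_lit 48, nat_lit 168])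
noncomputable def r44 : WT := (.leaf (nat_lit 17424) [nat_lit 144, nat_lit 72, nat_lit 168, nat_lit 72, nat_lit 120, nat_lit 144, nat_lit 96, nat_lit 72, nat_lit 168, nat_lit 72, nat_lit 168, nat_lit 48, nat_lit 144, nat_lit 48, nat_lit 120, nat_lit 168, nat_lit 96, nat_lit 48, nat_lit 144])
noncomputable def r45 : WT := (.leaf (nat_lit 10265) [nat_lit 168, nat_lit 48, nat_lit 168, nat_lit 48, nat_lit 144, nat_lit 48, nat_lit 144, nat_lit 48, nat_lit 48, nat_lit 96, nat_lit 72, nat_lit 72, nat_lit 168, nat_lit 72, nat_lit 168, nat_lit 72, nat_lit 144, nat_lit 72, nat_lit 144, nat_lit 72, nat_lit 168])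
noncomputable def r46 : WT := (.leaf (nat_lit 12328) [nat_lit 144, nat_lit 72, nat_lit 168, nat_lit 48, nat_lit 48, nat_lit 144, nat_lit 48, nat_lit 168, nat_lit 48, nat_lit 144, nat_lit 72, nat_lit 96, nat_lit 48, nat_lit 168, nat_lit 72, nat_lit 144, nat_lit 72, nat_lit 168, nat_lit 72, nat_lit 72, nat_lit 144])
noncomputable def r47 : WT := (.node (nat_lit 40) (.node (nat_lit 38) r41 (.node (nat_lit 39) r42 r43)) (.node (nat_lit 41) r44 (.node (nat_lit 42) r45 r46)))
noncomputable def r48 : WT := (.leaf (nat_lit 12305) [nat_lit 144, nat_lit 72, nat_lit 120, nat_lit 48, nat_lit 168, nat_lit 72, nat_lit 144, nat_lit 72, nat_lit 168, nat_lit 72, nat_lit 72, nat_lit 144, nat_lit 48, nat_lit 168, nat_lit 72, nat_lit 168, nat_lit 48, nat_lit 48, nat_lit 144, nat_lit 48, nat_lit 168])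
noncomputable def r49 : WT := (.leaf (nat_lit 13316) [nat_lit 168, nat_lit 72, nat_lit 144, nat_lit 48, nat_lit 144, nat_lit 120, nat_lit 72, nat_lit 144, nat_lit 48, nat_lit 96, nat_lit 168, nat_lit 72, nat_lit 168, nat_lit 48, nat_lit 144, nat_lit 72, nat_lit 144, nat_lit 48, nat_lit 120, nat_lit 72, nat_lit 168])
noncomputable def r50 : WT := (.leaf (nat_lit 14368) [nat_lit 168, nat_lit 48, nat_lit 168, nat_lit 48, nat_lit 120, nat_lit 72, nat_lit 144, nat_lit 72, nat_lit 144, nat_lit 72, nat_lit 168, nat_lit 72, nat_lit 168, nat_lit 72, nat_lit 72, nat_lit 144, nat_lit 48, nat_lit 48, nat_lit 144, nat_lit 48, nat_lit 144])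
noncomputable def r51 : WT := (.leaf (nat_lit 14372) [nat_lit 168, nat_lit 48, nat_lit 120, nat_lit 72, nat_lit 144, nat_lit 72, nat_lit 144, nat_lit 72, nat_lit 168, nat_lit 72, nat_lit 168, nat_lit 72, nat_lit 72, nat_lit 144, nat_lit 48, nat_lit 48, nat_lit 144, nat_lit 48, nat_lit 144, nat_lit 48, nat_lit 168])
noncomputable def r52 : WT := (.leaf (nat_lit 14376) [nat_lit 120, nat_lit 72, nat_lit 144, nat_lit 72, nat_lit 144, nat_lit 72, nat_lit 168, nat_lit 72, nat_lit 168, nat_lit 72, nat_lit 72, nat_lit 144, nat_lit 48, nat_lit 48, nat_lit 144, nat_lit 48, nat_lit 144, nat_lit 48, nat_lit 168, nat_lit 48, nat_lit 168])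
noncomputable def r53 : WT := (.leaf (nat_lit 14367) [nat_lit 144, nat_lit 48, nat_lit 168, nat_lit 48, nat_lit 168, nat_lit 48, nat_lit 96, nat_lit 72, nat_lit 144, nat_lit 72, nat_lit 144, nat_lit 72, nat_lit 168, nat_lit 72, nat_lit 168, nat_lit 72, nat_lit 72, nat_lit 168, nat_lit 48, nat_lit 48, nat_lit 144])
noncomputable def r54 : WT := (.node (nat_lit 46) (.node (nat_lit 44) r48 (.node (nat_lit 45) r49 r50)) (.node (nat_lit 47) r51 (.node (nat_lit 48) r52 r53)))
noncomputable def r55 : WT := (.leaf (nat_lit 14379) [nat_lit 96, nat_lit 72, nat_lit 144, nat_lit 72, nat_lit 144, nat_lit 72, nat_lit 168, nat_lit 72, nat_lit 168, nat_lit 72, nat_lit 72, nat_lit 168, nat_lit 48, nat_lit 48, nat_lit 144, nat_lit 48, nat_lit 144, nat_lit 48, nat_lit 168, nat_lit 48, nat_lit 168])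
noncomputable def r56 : WT := (.leaf (nat_lit 15388) [nat_lit 144, nat_lit 48, nat_lit 168, nat_lit 48, nat_lit 168, nat_lit 48, nat_lit 144, nat_lit 72, nat_lit 144, nat_lit 72, nat_lit 144, nat_lit 72, nat_lit 168, nat_lit 72, nat_lit 168, nat_lit 72, nat_lit 72, nat_lit 96, nat_lit 48, nat_lit 48, nat_lit 144])
noncomputable def r57 : WT := (.leaf (nat_lit 15396) [nat_lit 168, nat_lit 48, nat_lit 144, nat_lit 72, nat_lit 144, nat_lit 72, nat_lit 144, nat_lit 72, nat_lit 168, nat_lit 72, nat_lit 168, nat_lit 72, nat_lit 72, nat_lit 96, nat_lit 48, nat_lit 48, nat_lit 144, nat_lit 48, nat_lit 144, nat_lit 48, nat_lit 168])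
noncomputable def r58 : WT := (.leaf (nat_lit 15400) [nat_lit 144, nat_lit 72, nat_lit 144, nat_lit 72, nat_lit 144, nat_lit 72, nat_lit 168, nat_lit 72, nat_lit 168, nat_lit 72, nat_lit 72, nat_lit 96, nat_lit 48, nat_lit 48, nat_lit 144, nat_lit 48, nat_lit 144, nat_lit 48, nat_lit 168, nat_lit 48, nat_lit 168])
noncomputable def r59 : WT := (.leaf (nat_lit 10270) [nat_lit 144, nat_lit 48, nat_lit 144, nat_lit 48, nat_lit 48, nat_lit 120, nat_lit 72, nat_lit 72, nat_lit 168, nat_lit 72, nat_lit 168, nat_lit 72, nat_lit 144, nat_lit 72, nat_lit 144, nat_lit 72, nat_lit 144, nat_lit 48, nat_lit 168, nat_lit 48, nat_lit 168])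
noncomputable def r60 : WT := (.leaf (nat_lit 17412) [nat_lit 120, nat_lit 168, nat_lit 96, nat_lit 48, nat_lit 144, nat_lit 48, nat_lit 144, nat_lit 72, nat_lit 168, nat_lit 72, nat_lit 120, nat_lit 144, nat_lit 96, nat_lit 72, nat_lit 168, nat_lit 72, nat_lit 168, nat_lit 48, nat_lit 144])
noncomputable def r61 : WT := (.node (nat_lit 52) (.node (nat_lit 50) r55 (.node (nat_lit 51) r56 r57)) (.node (nat_lit 53) r58 (.node (nat_lit 54) r59 r60)))
noncomputable def r62 : WT := (.leaf (nat_lit 17415) [nat_lit 120, nat_lit 168, nat_lit 96, nat_lit 48, nat_lit 144, nat_lit 48, nat_lit 168, nat_lit 72, nat_lit 168, nat_lit 72, nat_lit 120, nat_lit 144, nat_lit 96, nat_lit 72, nat_lit 168, nat_lit 72, nat_lit 144, nat_lit 48, nat_lit 144])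
noncomputable def r63 : WT := (.leaf (nat_lit 8232) [nat_lit 144, nat_lit 72, nat_lit 96, nat_lit 144, nat_lit 48, nat_lit 144, nat_lit 72, nat_lit 168, nat_lit 48, nat_lit 168, nat_lit 72, nat_lit 96, nat_lit 48, nat_lit 144, nat_lit 72, nat_lit 144, nat_lit 48, nat_lit 168, nat_lit 72, nat_lit 168, nat_lit 120])
noncomputable def r64 : WT := (.leaf (nat_lit 8201) [nat_lit 144, nat_lit 72, nat_lit 168, nat_lit 48, nat_lit 168, nat_lit 72, nat_lit 120, nat_lit 48, nat_lit 144, nat_lit 72, nat_lit 144, nat_lit 48, nat_lit 168, nat_lit 72, nat_lit 168, nat_lit 120, nat_lit 48, nat_lit 168, nat_lit 72, nat_lit 96, nat_lit 144])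
noncomputable def r65 : WT := (.leaf (nat_lit 9220) [nat_lit 168, nat_lit 48, nat_lit 144, nat_lit 48, nat_lit 48, nat_lit 168, nat_lit 72, nat_lit 96, nat_lit 48, nat_lit 144, nat_lit 72, nat_lit 72, nat_lit 168, nat_lit 72, nat_lit 144, nat_lit 72, nat_lit 168, nat_lit 48, nat_lit 144, nat_lit 72, nat_lit 144])
noncomputable def r66 : WT := (.leaf (nat_lit 16412) [nat_lit 168, nat_lit 72, nat_lit 168, nat_lit 72, nat_lit 96, nat_lit 48, nat_lit 144, nat_lit 48, nat_lit 144, nat_lit 72, nat_lit 144, nat_lit 48, nat_lit 144, nat_lit 48, nat_lit 96, nat_lit 72, nat_lit 168, nat_lit 72, nat_lit 168])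
noncomputable def r67 : WT := (.leaf (nat_lit 9256) [nat_lit 144, nat_lit 72, nat_lit 144, nat_lit 48, nat_lit 168, nat_lit 48, nat_lit 144, nat_lit 48, nat_lit 48, nat_lit 168, nat_lit 72, nat_lit 96, nat_lit 48, nat_lit 144, nat_lit 72, nat_lit 72, nat_lit 168, nat_lit 72, nat_lit 144, nat_lit 72, nat_lit 168])
noncomputable def r68 : WT := (.node (nat_lit 58) (.node (nat_lit 56) r62 (.node (nat_lit 57) r63 r64)) (.node (nat_lit 59) r65 (.node (nat_lit 60) r66 r67)))
noncomputable def r69 : WT := (.leaf (nat_lit 9223) [nat_lit 168, nat_lit 48, nat_lit 144, nat_lit 48, nat_lit 48, nat_lit 168, nat_lit 72, nat_lit 120, nat_lit 48, nat_lit 144, nat_lit 72, nat_lit 72, nat_lit 168, nat_lit 72, nat_lit 144, nat_lit 72, nat_lit 168, nat_lit 48, nat_lit 168, nat_lit 72, nat_lit 144])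
noncomputable def r70 : WT := (.leaf (nat_lit 9231) [nat_lit 48, nat_lit 168, nat_lit 72, nat_lit 120, nat_lit 48, nat_lit 144, nat_lit 72, nat_lit 72, nat_lit 168, nat_lit 72, nat_lit 144, nat_lit 72, nat_lit 168, nat_lit 48, nat_lit 168, nat_lit 72, nat_lit 144, nat_lit 48, nat_lit 168, nat_lit 48, nat_lit 144])
noncomputable def r71 : WT := (.leaf (nat_lit 10262) [nat_lit 168, nat_lit 48, nat_lit 168, nat_lit 48, nat_lit 144, nat_lit 48, nat_lit 144, nat_lit 48, nat_lit 48, nat_lit 120, nat_lit 72, nat_lit 72, nat_lit 168, nat_lit 72, nat_lit 168, nat_lit 72, nat_lit 144, nat_lit 72, nat_lit 144, nat_lit 72, nat_lit 144])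
noncomputable def r72 : WT := (.leaf (nat_lit 17423) [nat_lit 144, nat_lit 48, nat_lit 168, nat_lit 72, nat_lit 168, nat_lit 72, nat_lit 120, nat_lit 144, nat_lit 96, nat_lit 72, nat_lit 168, nat_lit 72, nat_lit 144, nat_lit 48, nat_lit 144, nat_lit 48, nat_lit 120, nat_lit 168, nat_lit 96])
noncomputable def r73 : WT := (.leaf (nat_lit 16384) [nat_lit 144, nat_lit 48, nat_lit 144, nat_lit 72, nat_lit 144, nat_lit 48, nat_lit 144, nat_lit 48, nat_lit 96, nat_lit 72, nat_lit 168, nat_lit 72, nat_lit 168, nat_lit 48, nat_lit 168, nat_lit 72, nat_lit 168, nat_lit 72, nat_lit 96])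
noncomputable def r74 : WT := (.leaf (nat_lit 9259) [nat_lit 168, nat_lit 72, nat_lit 144, nat_lit 48, nat_lit 168, nat_lit 48, nat_lit 144, nat_lit 48, nat_lit 48, nat_lit 168, nat_lit 72, nat_lit 120, nat_lit 48, nat_lit 144, nat_lit 72, nat_lit 72, nat_lit 168, nat_lit 72, nat_lit 144, nat_lit 72, nat_lit 168])
noncomputable def r75 : WT := (.leaf (nat_lit 8198) [nat_lit 144, nat_lit 72, nat_lit 168, nat_lit 48, nat_lit 168, nat_lit 72, nat_lit 96, nat_lit 48, nat_lit 144, nat_lit 72, nat_lit 144, nat_lit 48, nat_lit 168, nat_lit 72, nat_lit 168, nat_lit 120, nat_lit 48, nat_lit 144, nat_lit 72, nat_lit 96, nat_lit 144])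
noncomputable def r76 : WT := (.leaf (nat_lit 18449) [nat_lit 48, nat_lit 168, nat_lit 72, nat_lit 72, nat_lit 144, nat_lit 48, nat_lit 48, nat_lit 96, nat_lit 72, nat_lit 168, nat_lit 48, nat_lit 144, nat_lit 72, nat_lit 144, nat_lit 48, nat_lit 120, nat_lit 72, nat_lit 72, nat_lit 168])
noncomputable def r77 : WT := (.leaf (nat_lit 18448) [nat_lit 144, nat_lit 72, nat_lit 72, nat_lit 144, nat_lit 48, nat_lit 48, nat_lit 96, nat_lit 72, nat_lit 168, nat_lit 48, nat_lit 168, nat_lit 72, nat_lit 144, nat_lit 48, nat_lit 120, nat_lit 72, nat_lit 72, nat_lit 168, nat_lit 48])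
noncomputable def r78 : WT := (.node (nat_lit 64) (.node (nat_lit 62) r69 (.node (nat_lit 63) r70 r71)) (.node (nat_lit 67) (.node (nat_lit 65) r72 (.node (nat_lit 66) r73 r74)) (.node (nat_lit 68) r75 (.node (nat_lit 69) r76 r77))))
noncomputable def r79 : WT := (.leaf (nat_lit 14375) [nat_lit 168, nat_lit 48, nat_lit 96, nat_lit 72, nat_lit 144, nat_lit 72, nat_lit 144, nat_lit 72, nat_lit 168, nat_lit 72, nat_lit 168, nat_lit 72, nat_lit 72, nat_lit 168, nat_lit 48, nat_lit 48, nat_lit 144, nat_lit 48, nat_lit 144, nat_lit 48, nat_lit 168])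
noncomputable def r80 : WT := (.leaf (nat_lit 18436) [nat_lit 120, nat_lit 72, nat_lit 72, nat_lit 168, nat_lit 48, nat_lit 48, nat_lit 144, nat_lit 72, nat_lit 72, nat_lit 144, nat_lit 48, nat_lit 48, nat_lit 96, nat_lit 72, nat_lit 168, nat_lit 48, nat_lit 168, nat_lit 72, nat_lit 144])
noncomputable def r81 : WT := (.leaf (nat_lit 15384) [nat_lit 144, nat_lit 48, nat_lit 144, nat_lit 48, nat_lit 168, nat_lit 48, nat_lit 168, nat_lit 48, nat_lit 144, nat_lit 72, nat_lit 144, nat_lit 72, nat_lit 144, nat_lit 72, nat_lit 168, nat_lit 72, nat_lit 168, nat_lit 72, nat_lit 72, nat_lit 96, nat_lit 48])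
noncomputable def r82 : WT := (.leaf (nat_lit 14360) [nat_lit 144, nat_lit 48, nat_lit 144, nat_lit 48, nat_lit 168, nat_lit 48, nat_lit 168, nat_lit 48, nat_lit 120, nat_lit 72, nat_lit 144, nat_lit 72, nat_lit 144, nat_lit 72, nat_lit 168, nat_lit 72, nat_lit 168, nat_lit 72, nat_lit 72, nat_lit 144, nat_lit 48])
noncomputable def r83 : WT := (.leaf (nat_lit 15392) [nat_lit 168, nat_lit 48, nat_lit 168, nat_lit 48, nat_lit 144, nat_lit 72, nat_lit 144, nat_lit 72, nat_lit 144, nat_lit 72, nat_lit 168, nat_lit 72, nat_lit 168, nat_lit 72, nat_lit 72, nat_lit 96, nat_lit 48, nat_lit 48, nat_lit 144, nat_lit 48, nat_lit 144])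
noncomputable def r84 : WT := (.leaf (nat_lit 17411) [nat_lit 144, nat_lit 48, nat_lit 120, nat_lit 168, nat_lit 96, nat_lit 48, nat_lit 144, nat_lit 48, nat_lit 168, nat_lit 72, nat_lit 168, nat_lit 72, nat_lit 120, nat_lit 144, nat_lit 96, nat_lit 72, nat_lit 168, nat_lit 72, nat_lit 144])
noncomputable def r85 : WT := (.leaf (nat_lit 15385) [nat_lit 48, nat_lit 144, nat_lit 48, nat_lit 144, nat_lit 48, nat_lit 168, nat_lit 48, nat_lit 168, nat_lit 48, nat_lit 168, nat_lit 72, nat_lit 144, nat_lit 72, nat_lit 144, nat_lit 72, nat_lit 168, nat_lit 72, nat_lit 168, nat_lit 72, nat_lit 72, nat_lit 120])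
noncomputable def r86 : WT := (.leaf (nat_lit 15395) [nat_lit 168, nat_lit 48, nat_lit 168, nat_lit 48, nat_lit 168, nat_lit 72, nat_lit 144, nat_lit 72, nat_lit 144, nat_lit 72, nat_lit 168, nat_lit 72, nat_lit 168, nat_lit 72, nat_lit 72, nat_lit 120, nat_lit 48, nat_lit 48, nat_lit 144, nat_lit 48, nat_lit 144])
noncomputable def r87 : WT := (.leaf (nat_lit 10274) [nat_lit 144, nat_lit 48, nat_lit 48, nat_lit 120, nat_lit 72, nat_lit 72, nat_lit 168, nat_lit 72, nat_lit 168, nat_lit 72, nat_lit 144, nat_lit 72, nat_lit 144, nat_lit 72, nat_lit 144, nat_lit 48, nat_lit 168, nat_lit 48, nat_lit 168, nat_lit 48, nat_lit 144])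
noncomputable def r88 : WT := (.leaf (nat_lit 11289) [nat_lit 168, nat_lit 72, nat_lit 144, nat_lit 72, nat_lit 168, nat_lit 72, nat_lit 72, nat_lit 144, nat_lit 48, nat_lit 96, nat_lit 72, nat_lit 168, nat_lit 48, nat_lit 48, nat_lit 144, nat_lit 48, nat_lit 168, nat_lit 48, nat_lit 144, nat_lit 72, nat_lit 168])
noncomputable def r89 : WT := (.leaf (nat_lit 13355) [nat_lit 96, nat_lit 72, nat_lit 168, nat_lit 48, nat_lit 168, nat_lit 72, nat_lit 144, nat_lit 48, nat_lit 144, nat_lit 120, nat_lit 72, nat_lit 168, nat_lit 48, nat_lit 96, nat_lit 168, nat_lit 72, nat_lit 168, nat_lit 48, nat_lit 144, nat_lit 72, nat_lit 144])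
noncomputable def r90 : WT := (.leaf (nat_lit 13327) [nat_lit 144, nat_lit 120, nat_lit 72, nat_lit 168, nat_lit 48, nat_lit 96, nat_lit 168, nat_lit 72, nat_lit 168, nat_lit 48, nat_lit 144, nat_lit 72, nat_lit 144, nat_lit 48, nat_lit 96, nat_lit 72, nat_lit 168, nat_lit 48, nat_lit 168, nat_lit 72, nat_lit 144])
noncomputable def r91 : WT := (.node (nat_lit 76) (.node (nat_lit 73) (.node (nat_lit 71) r79 (.node (nat_lit 72) r80 r81)) (.node (nat_lit 74) r82 (.node (nat_lit 75) r83 r84))) (.node (nat_lit 79) (.node (nat_lit 77) r85 (.node (nat_lit 78) r86 r87)) (.node (nat_lit 80) r88 (.node (nat_lit 81) r89 r90))))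
noncomputable def r92 : WT := (.leaf (nat_lit 8217) [nat_lit 144, nat_lit 72, nat_lit 144, nat_lit 48, nat_lit 168, nat_lit 72, nat_lit 168, nat_lit 120, nat_lit 48, nat_lit 168, nat_lit 72, nat_lit 96, nat_lit 144, nat_lit 48, nat_lit 144, nat_lit 72, nat_lit 168, nat_lit 48, nat_lit 168, nat_lit 72, nat_lit 120])
noncomputable def r93 : WT := (.leaf (nat_lit 13352) [nat_lit 120, nat_lit 72, nat_lit 168, nat_lit 48, nat_lit 168, nat_lit 72, nat_lit 144, nat_lit 48, nat_lit 144, nat_lit 120, nat_lit 72, nat_lit 144, nat_lit 48, nat_lit 96, nat_lit 168, nat_lit 72, nat_lit 168, nat_lit 48, nat_lit 144, nat_lit 72, nat_lit 144])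
noncomputable def r94 : WT := (.leaf (nat_lit 13344) [nat_lit 144, nat_lit 72, nat_lit 144, nat_lit 48, nat_lit 120, nat_lit 72, nat_lit 168, nat_lit 48, nat_lit 168, nat_lit 72, nat_lit 144, nat_lit 48, nat_lit 144, nat_lit 120, nat_lit 72, nat_lit 144, nat_lit 48, nat_lit 96, nat_lit 168, nat_lit 72, nat_lit 168])
noncomputable def r95 : WT := (.leaf (nat_lit 13334) [nat_lit 96, nat_lit 168, nat_lit 72, nat_lit 168, nat_lit 48, nat_lit 144, nat_lit 72, nat_lit 144, nat_lit 48, nat_lit 120, nat_lit 72, nat_lit 168, nat_lit 48, nat_lit 168, nat_lit 72, nat_lit 144, nat_lit 48, nat_lit 144, nat_lit 120, nat_lit 72, nat_lit 144])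
noncomputable def r96 : WT := (.leaf (nat_lit 13324) [nat_lit 144, nat_lit 120, nat_lit 72, nat_lit 144, nat_lit 48, nat_lit 96, nat_lit 168, nat_lit 72, nat_lit 168, nat_lit 48, nat_lit 144, nat_lit 72, nat_lit 144, nat_lit 48, nat_lit 120, nat_lit 72, nat_lit 168, nat_lit 48, nat_lit 168, nat_lit 72, nat_lit 144])
noncomputable def r97 : WT := (.leaf (nat_lit 8225) [nat_lit 168, nat_lit 72, nat_lit 168, nat_lit 120, nat_lit 48, nat_lit 168, nat_lit 72, nat_lit 96, nat_lit 144, nat_lit 48, nat_lit 144, nat_lit 72, nat_lit 168, nat_lit 48, nat_lit 168, nat_lit 72, nat_lit 120, nat_lit 48, nat_lit 144, nat_lit 72, nat_lit 144])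
noncomputable def r98 : WT := (.leaf (nat_lit 12313) [nat_lit 168, nat_lit 72, nat_lit 144, nat_lit 72, nat_lit 168, nat_lit 72, nat_lit 72, nat_lit 144, nat_lit 48, nat_lit 168, nat_lit 72, nat_lit 168, nat_lit 48, nat_lit 48, nat_lit 144, nat_lit 48, nat_lit 168, nat_lit 48, nat_lit 144, nat_lit 72, nat_lit 120])
noncomputable def r99 : WT := (.leaf (nat_lit 11274) [nat_lit 168, nat_lit 48, nat_lit 144, nat_lit 72, nat_lit 144, nat_lit 48, nat_lit 168, nat_lit 72, nat_lit 144, nat_lit 72, nat_lit 168, nat_lit 72, nat_lit 72, nat_lit 144, nat_lit 48, nat_lit 120, nat_lit 72, nat_lit 168, nat_lit 48, nat_lit 48, nat_lit 144])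
noncomputable def r100 : WT := (.leaf (nat_lit 9233) [nat_lit 168, nat_lit 72, nat_lit 120, nat_lit 48, nat_lit 144, nat_lit 72, nat_lit 72, nat_lit 168, nat_lit 72, nat_lit 144, nat_lit 72, nat_lit 168, nat_lit 48, nat_lit 168, nat_lit 72, nat_lit 144, nat_lit 48, nat_lit 168, nat_lit 48, nat_lit 144, nat_lit 48])
noncomputable def r101 : WT := (.leaf (nat_lit 9238) [nat_lit 144, nat_lit 72, nat_lit 72, nat_lit 168, nat_lit 72, nat_lit 144, nat_lit 72, nat_lit 168, nat_lit 48, nat_lit 144, nat_lit 72, nat_lit 144, nat_lit 48, nat_lit 168, nat_lit 48, nat_lit 144, nat_lit 48, nat_lit 48, nat_lit 168, nat_lit 72, nat_lit 96])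
noncomputable def r102 : WT := (.leaf (nat_lit 9227) [nat_lit 144, nat_lit 48, nat_lit 48, nat_lit 168, nat_lit 72, nat_lit 120, nat_lit 48, nat_lit 144, nat_lit 72, nat_lit 72, nat_lit 168, nat_lit 72, nat_lit 144, nat_lit 72, nat_lit 168, nat_lit 48, nat_lit 168, nat_lit 72, nat_lit 144, nat_lit 48, nat_lit 168])
noncomputable def r103 : WT := (.leaf (nat_lit 12294) [nat_lit 144, nat_lit 48, nat_lit 168, nat_lit 48, nat_lit 144, nat_lit 72, nat_lit 96, nat_lit 48, nat_lit 168, nat_lit 72, nat_lit 144, nat_lit 72, nat_lit 168, nat_lit 72, nat_lit 72, nat_lit 144, nat_lit 48, nat_lit 144, nat_lit 72, nat_lit 168, nat_lit 48])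
noncomputable def r104 : WT := (.node (nat_lit 88) (.node (nat_lit 85) (.node (nat_lit 83) r92 (.node (nat_lit 84) r93 r94)) (.node (nat_lit 86) r95 (.node (nat_lit 87) r96 r97))) (.node (nat_lit 91) (.node (nat_lit 89) r98 (.node (nat_lit 90) r99 r100)) (.node (nat_lit 92) r101 (.node (nat_lit 93) r102 r103))))
noncomputable def r105 : WT := (.node (nat_lit 33) (.node (nat_lit 18) (.node (nat_lit 13) (.node (nat_lit 11) r6 r9) (.node (nat_lit 15) r12 r16)) (.node (nat_lit 25) (.node (nat_lit 21) r20 r25) (.node (nat_lit 29) r30 r35))) (.node (nat_lit 55) (.node (nat_lit 43) (.node (nat_lit 37) r40 r47) (.node (nat_lit 49) r54 r61)) (.node (nat_lit 70) (.node (nat_lit 61) r68 r78) (.node (nat_lit 82) r91 r104))))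
noncomputable def w0 : WT := (.node (nat_lit 1) (.leaf (nat_lit 0) [nat_lit 72]) (.node (nat_lit 2) (.leaf (nat_lit 6147) [nat_lit 96, nat_lit 72, nat_lit 120, nat_lit 48]) (.node (nat_lit 4) (.node (nat_lit 3) (.leaf (nat_lit 6146) [nat_lit 120, nat_lit 72, nat_lit 72, nat_lit 96]) (.leaf (nat_lit 6145) [nat_lit 48, nat_lit 96, nat_lit 72, nat_lit 120])) (.node (nat_lit 10) r5 r105))))
noncomputable def r106 : WT := (.leaf (nat_lit 19470) [nat_lit 144, nat_lit 48, nat_lit 144, nat_lit 48, nat_lit 168, nat_lit 48, nat_lit 168, nat_lit 168, nat_lit 48, nat_lit 168, nat_lit 72, nat_lit 144, nat_lit 144, nat_lit 72, nat_lit 144, nat_lit 72, nat_lit 168])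
noncomputable def r107 : WT := (.leaf (nat_lit 19466) [nat_lit 168, nat_lit 72, nat_lit 144, nat_lit 48, nat_lit 144, nat_lit 48, nat_lit 168, nat_lit 48, nat_lit 168, nat_lit 168, nat_lit 48, nat_lit 168, nat_lit 72, nat_lit 144, nat_lit 144, nat_lit 72, nat_lit 144])
noncomputable def r108 : WT := (.leaf (nat_lit 19456) [nat_lit 144, nat_lit 144, nat_lit 72, nat_lit 144, nat_lit 72, nat_lit 168, nat_lit 72, nat_lit 144, nat_lit 48, nat_lit 144, nat_lit 48, nat_lit 168, nat_lit 48, nat_lit 168, nat_lit 168, nat_lit 48, nat_lit 168])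
noncomputable def r109 : WT := (.leaf (nat_lit 19462) [nat_lit 144, nat_lit 72, nat_lit 168, nat_lit 72, nat_lit 144, nat_lit 48, nat_lit 144, nat_lit 48, nat_lit 168, nat_lit 48, nat_lit 168, nat_lit 168, nat_lit 48, nat_lit 168, nat_lit 72, nat_lit 144, nat_lit 144])
noncomputable def r110 : WT := (.leaf (nat_lit 19459) [nat_lit 144, nat_lit 144, nat_lit 72, nat_lit 144, nat_lit 72, nat_lit 168, nat_lit 72, nat_lit 168, nat_lit 48, nat_lit 144, nat_lit 48, nat_lit 168, nat_lit 48, nat_lit 168, nat_lit 168, nat_lit 48, nat_lit 144])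
noncomputable def r111 : WT := (.node (nat_lit 9) (.leaf (nat_lit 3073) [nat_lit 72, nat_lit 72, nat_lit 72, nat_lit 72, nat_lit 72, nat_lit 72]) r110)
noncomputable def r112 : WT := (.leaf (nat_lit 19469) [nat_lit 168, nat_lit 72, nat_lit 168, nat_lit 48, nat_lit 144, nat_lit 48, nat_lit 168, nat_lit 48, nat_lit 168, nat_lit 168, nat_lit 48, nat_lit 144, nat_lit 72, nat_lit 144, nat_lit 144, nat_lit 72, nat_lit 144])
noncomputable def r113 : WT := (.leaf (nat_lit 19473) [nat_lit 168, nat_lit 48, nat_lit 144, nat_lit 48, nat_lit 168, nat_lit 48, nat_lit 168, nat_lit 168, nat_lit 48, nat_lit 144, nat_lit 72, nat_lit 144, nat_lit 144, nat_lit 72, nat_lit 144, nat_lit 72, nat_lit 168])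
noncomputable def r114 : WT := (.leaf (nat_lit 19465) [nat_lit 144, nat_lit 72, nat_lit 168, nat_lit 72, nat_lit 168, nat_lit 48, nat_lit 144, nat_lit 48, nat_lit 168, nat_lit 48, nat_lit 168, nat_lit 168, nat_lit 48, nat_lit 144, nat_lit 72, nat_lit 144, nat_lit 144])
noncomputable def r115 : WT := (.leaf (nat_lit 16408) [nat_lit 168, nat_lit 48, nat_lit 168, nat_lit 72, nat_lit 168, nat_lit 72, nat_lit 96, nat_lit 48, nat_lit 144, nat_lit 48, nat_lit 144, nat_lit 72, nat_lit 144, nat_lit 48, nat_lit 144, nat_lit 48, nat_lit 96, nat_lit 72, nat_lit 168])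
noncomputable def r116 : WT := (.node (nat_lit 12) (.node (nat_lit 11) r112 r113) (.node (nat_lit 13) r114 r115))
noncomputable def r117 : WT := (.leaf (nat_lit 16416) [nat_lit 168, nat_lit 72, nat_lit 96, nat_lit 48, nat_lit 144, nat_lit 48, nat_lit 144, nat_lit 72, nat_lit 144, nat_lit 48, nat_lit 144, nat_lit 48, nat_lit 96, nat_lit 72, nat_lit 168, nat_lit 72, nat_lit 168, nat_lit 48, nat_lit 168])
noncomputable def r118 : WT := (.leaf (nat_lit 9244) [nat_lit 168, nat_lit 72, nat_lit 144, nat_lit 72, nat_lit 168, nat_lit 48, nat_lit 144, nat_lit 72, nat_lit 144, nat_lit 48, nat_lit 168, nat_lit 48, nat_lit 144, nat_lit 48, nat_lit 48, nat_lit 168, nat_lit 72, nat_lit 96, nat_lit 48, nat_lit 144, nat_lit 72])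
noncomputable def r119 : WT := (.leaf (nat_lit 15371) [nat_lit 168, nat_lit 72, nat_lit 168, nat_lit 72, nat_lit 72, nat_lit 120, nat_lit 48, nat_lit 48, nat_lit 144, nat_lit 48, nat_lit 144, nat_lit 48, nat_lit 168, nat_lit 48, nat_lit 168, nat_lit 48, nat_lit 168, nat_lit 72, nat_lit 144, nat_lit 72, nat_lit 144])
noncomputable def r120 : WT := (.leaf (nat_lit 15372) [nat_lit 168, nat_lit 72, nat_lit 72, nat_lit 96, nat_lit 48, nat_lit 48, nat_lit 144, nat_lit 48, nat_lit 144, nat_lit 48, nat_lit 168, nat_lit 48, nat_lit 168, nat_lit 48, nat_lit 144, nat_lit 72, nat_lit 144, nat_lit 72, nat_lit 144, nat_lit 72, nat_lit 168])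
noncomputable def r121 : WT := (.node (nat_lit 16) (.node (nat_lit 15) r117 r118) (.node (nat_lit 17) r119 r120))
noncomputable def r122 : WT := (.leaf (nat_lit 8218) [nat_lit 144, nat_lit 48, nat_lit 168, nat_lit 72, nat_lit 168, nat_lit 120, nat_lit 48, nat_lit 144, nat_lit 72, nat_lit 96, nat_lit 144, nat_lit 48, nat_lit 144, nat_lit 72, nat_lit 168, nat_lit 48, nat_lit 168, nat_lit 72, nat_lit 96, nat_lit 48, nat_lit 144])
noncomputable def r123 : WT := (.leaf (nat_lit 9252) [nat_lit 168, nat_lit 48, nat_lit 144, nat_lit 72, nat_lit 144, nat_lit 48, nat_lit 168, nat_lit 48, nat_lit 144, nat_lit 48, nat_lit 48, nat_lit 168, nat_lit 72, nat_lit 96, nat_lit 48, nat_lit 144, nat_lit 72, nat_lit 72, nat_lit 168, nat_lit 72, nat_lit 144])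
noncomputable def r124 : WT := (.leaf (nat_lit 9216) [nat_lit 144, nat_lit 48, nat_lit 168, nat_lit 48, nat_lit 144, nat_lit 48, nat_lit 48, nat_lit 168, nat_lit 72, nat_lit 96, nat_lit 48, nat_lit 144, nat_lit 72, nat_lit 72, nat_lit 168, nat_lit 72, nat_lit 144, nat_lit 72, nat_lit 168, nat_lit 48, nat_lit 144])
noncomputable def r125 : WT := (.leaf (nat_lit 14351) [nat_lit 168, nat_lit 72, nat_lit 72, nat_lit 168, nat_lit 48, nat_lit 48, nat_lit 144, nat_lit 48, nat_lit 144, nat_lit 48, nat_lit 168, nat_lit 48, nat_lit 168, nat_lit 48, nat_lit 96, nat_lit 72, nat_lit 144, nat_lit 72, nat_lit 144, nat_lit 72, nat_lit 168])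
noncomputable def r126 : WT := (.leaf (nat_lit 8205) [nat_lit 168, nat_lit 48, nat_lit 168, nat_lit 72, nat_lit 120, nat_lit 48, nat_lit 144, nat_lit 72, nat_lit 144, nat_lit 48, nat_lit 168, nat_lit 72, nat_lit 168, nat_lit 120, nat_lit 48, nat_lit 168, nat_lit 72, nat_lit 96, nat_lit 144, nat_lit 48, nat_lit 144])
noncomputable def r127 : WT := (.leaf (nat_lit 15368) [nat_lit 168, nat_lit 72, nat_lit 168, nat_lit 72, nat_lit 72, nat_lit 96, nat_lit 48, nat_lit 48, nat_lit 144, nat_lit 48, nat_lit 144, nat_lit 48, nat_lit 168, nat_lit 48, nat_lit 168, nat_lit 48, nat_lit 144, nat_lit 72, nat_lit 144, nat_lit 72, nat_lit 144])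
noncomputable def r128 : WT := (.node (nat_lit 21) (.node (nat_lit 19) r122 (.node (nat_lit 20) r123 r124)) (.node (nat_lit 22) r125 (.node (nat_lit 23) r126 r127)))
noncomputable def r129 : WT := (.leaf (nat_lit 13330) [nat_lit 144, nat_lit 48, nat_lit 96, nat_lit 168, nat_lit 72, nat_lit 168, nat_lit 48, nat_lit 144, nat_lit 72, nat_lit 144, nat_lit 48, nat_lit 120, nat_lit 72, nat_lit 168, nat_lit 48, nat_lit 168, nat_lit 72, nat_lit 144, nat_lit 48, nat_lit 144, nat_lit 120])
noncomputable def r130 : WT := (.leaf (nat_lit 14348) [nat_lit 168, nat_lit 72, nat_lit 72, nat_lit 144, nat_lit 48, nat_lit 48, nat_lit 144, nat_lit 48, nat_lit 144, nat_lit 48, nat_lit 168, nat_lit 48, nat_lit 168, nat_lit 48, nat_lit 120, nat_lit 72, nat_lit 144, nat_lit 72, nat_lit 144, nat_lit 72, nat_lit 168])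
noncomputable def r131 : WT := (.leaf (nat_lit 11303) [nat_lit 144, nat_lit 48, nat_lit 96, nat_lit 72, nat_lit 168, nat_lit 48, nat_lit 48, nat_lit 144, nat_lit 48, nat_lit 168, nat_lit 48, nat_lit 144, nat_lit 72, nat_lit 168, nat_lit 48, nat_lit 168, nat_lit 72, nat_lit 144, nat_lit 72, nat_lit 168, nat_lit 72])
noncomputable def r132 : WT := (.leaf (nat_lit 15360) [nat_lit 144, nat_lit 72, nat_lit 144, nat_lit 72, nat_lit 168, nat_lit 72, nat_lit 168, nat_lit 72, nat_lit 72, nat_lit 96, nat_lit 48, nat_lit 48, nat_lit 144, nat_lit 48, nat_lit 144, nat_lit 48, nat_lit 168, nat_lit 48, nat_lit 168, nat_lit 48, nat_lit 144])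
noncomputable def r133 : WT := (.leaf (nat_lit 8202) [nat_lit 168, nat_lit 48, nat_lit 168, nat_lit 72, nat_lit 96, nat_lit 48, nat_lit 144, nat_lit 72, nat_lit 144, nat_lit 48, nat_lit 168, nat_lit 72, nat_lit 168, nat_lit 120, nat_lit 48, nat_lit 144, nat_lit 72, nat_lit 96, nat_lit 144, nat_lit 48, nat_lit 144])
noncomputable def r134 : WT := (.leaf (nat_lit 8192) [nat_lit 96, nat_lit 144, nat_lit 48, nat_lit 144, nat_lit 72, nat_lit 168, nat_lit 48, nat_lit 168, nat_lit 72, nat_lit 96, nat_lit 48, nat_lit 144, nat_lit 72, nat_lit 144, nat_lit 48, nat_lit 168, nat_lit 72, nat_lit 168, nat_lit 120, nat_lit 48, nat_lit 144])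
noncomputable def r135 : WT := (.leaf (nat_lit 18464) [nat_lit 168, nat_lit 48, nat_lit 168, nat_lit 72, nat_lit 144, nat_lit 48, nat_lit 120, nat_lit 72, nat_lit 72, nat_lit 168, nat_lit 48, nat_lit 48, nat_lit 144, nat_lit 72, nat_lit 72, nat_lit 144, nat_lit 48, nat_lit 48, nat_lit 96])
noncomputable def r136 : WT := (.node (nat_lit 27) (.node (nat_lit 25) r129 (.node (nat_lit 26) r130 r131)) (.node (nat_lit 29) (.node (nat_lit 28) r132 r133) (.node (nat_lit 30) r134 r135)))
noncomputable def r137 : WT := (.leaf (nat_lit 18452) [nat_lit 72, nat_lit 144, nat_lit 48, nat_lit 48, nat_lit 96, nat_lit 72, nat_lit 168, nat_lit 48, nat_lit 168, nat_lit 72, nat_lit 144, nat_lit 48, nat_lit 120, nat_lit 72, nat_lit 72, nat_lit 168, nat_lit 48, nat_lit 48, nat_lit 144])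
noncomputable def r138 : WT := (.leaf (nat_lit 17440) [nat_lit 168, nat_lit 72, nat_lit 168, nat_lit 48, nat_lit 144, nat_lit 48, nat_lit 120, nat_lit 168, nat_lit 96, nat_lit 48, nat_lit 144, nat_lit 48, nat_lit 144, nat_lit 72, nat_lit 168, nat_lit 72, nat_lit 120, nat_lit 144, nat_lit 96])
noncomputable def r139 : WT := (.leaf (nat_lit 11282) [nat_lit 144, nat_lit 48, nat_lit 168, nat_lit 72, nat_lit 144, nat_lit 72, nat_lit 168, nat_lit 72, nat_lit 72, nat_lit 144, nat_lit 48, nat_lit 120, nat_lit 72, nat_lit 168, nat_lit 48, nat_lit 48, nat_lit 144, nat_lit 48, nat_lit 168, nat_lit 48, nat_lit 144])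
noncomputable def r140 : WT := (.leaf (nat_lit 13351) [nat_lit 144, nat_lit 48, nat_lit 96, nat_lit 72, nat_lit 168, nat_lit 48, nat_lit 168, nat_lit 72, nat_lit 144, nat_lit 48, nat_lit 144, nat_lit 120, nat_lit 72, nat_lit 168, nat_lit 48, nat_lit 96, nat_lit 168, nat_lit 72, nat_lit 168, nat_lit 48, nat_lit 144])
noncomputable def r141 : WT := (.leaf (nat_lit 14340) [nat_lit 144, nat_lit 72, nat_lit 168, nat_lit 72, nat_lit 168, nat_lit 72, nat_lit 72, nat_lit 144, nat_lit 48, nat_lit 48, nat_lit 144, nat_lit 48, nat_lit 144, nat_lit 48, nat_lit 168, nat_lit 48, nat_lit 168, nat_lit 48, nat_lit 120, nat_lit 72, nat_lit 144])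
noncomputable def r142 : WT := (.leaf (nat_lit 10245) [nat_lit 168, nat_lit 72, nat_lit 168, nat_lit 72, nat_lit 144, nat_lit 72, nat_lit 144, nat_lit 72, nat_lit 168, nat_lit 48, nat_lit 168, nat_lit 48, nat_lit 168, nat_lit 48, nat_lit 144, nat_lit 48, nat_lit 144, nat_lit 48, nat_lit 48, nat_lit 96, nat_lit 72])
noncomputable def r143 : WT := (.leaf (nat_lit 10258) [nat_lit 144, nat_lit 48, nat_lit 168, nat_lit 48, nat_lit 168, nat_lit 48, nat_lit 144, nat_lit 48, nat_lit 144, nat_lit 48, nat_lit 48, nat_lit 120, nat_lit 72, nat_lit 72, nat_lit 168, nat_lit 72, nat_lit 168, nat_lit 72, nat_lit 144, nat_lit 72, nat_lit 144])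
noncomputable def r144 : WT := (.leaf (nat_lit 10254) [nat_lit 144, nat_lit 72, nat_lit 144, nat_lit 48, nat_lit 168, nat_lit 48, nat_lit 168, nat_lit 48, nat_lit 144, nat_lit 48, nat_lit 144, nat_lit 48, nat_lit 48, nat_lit 120, nat_lit 72, nat_lit 72, nat_lit 168, nat_lit 72, nat_lit 168, nat_lit 72, nat_lit 144])
noncomputable def r145 : WT := (.leaf (nat_lit 10246) [nat_lit 168, nat_lit 72, nat_lit 144, nat_lit 72, nat_lit 144, nat_lit 72, nat_lit 144, nat_lit 48, nat_lit 168, nat_lit 48, nat_lit 168, nat_lit 48, nat_lit 144, nat_lit 48, nat_lit 144, nat_lit 48, nat_lit 48, nat_lit 120, nat_lit 72, nat_lit 72, nat_lit 168])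
noncomputable def r146 : WT := (.leaf (nat_lit 17435) [nat_lit 120, nat_lit 144, nat_lit 96, nat_lit 72, nat_lit 168, nat_lit 72, nat_lit 144, nat_lit 48, nat_lit 144, nat_lit 48, nat_lit 120, nat_lit 168, nat_lit 96, nat_lit 48, nat_lit 144, nat_lit 48, nat_lit 168, nat_lit 72, nat_lit 168])
noncomputable def r147 : WT := (.node (nat_lit 36) (.node (nat_lit 33) (.node (nat_lit 32) r137 r138) (.node (nat_lit 34) r139 (.node (nat_lit 35) r140 r141))) (.node (nat_lit 38) (.node (nat_lit 37) r142 r143) (.node (nat_lit 39) r144 (.node (nat_lit 40) r145 r146))))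
noncomputable def r148 : WT := (.leaf (nat_lit 9251) [nat_lit 144, nat_lit 72, nat_lit 168, nat_lit 48, nat_lit 168, nat_lit 72, nat_lit 144, nat_lit 48, nat_lit 168, nat_lit 48, nat_lit 144, nat_lit 48, nat_lit 48, nat_lit 168, nat_lit 72, nat_lit 120, nat_lit 48, nat_lit 144, nat_lit 72, nat_lit 72, nat_lit 168])
noncomputable def r149 : WT := (.leaf (nat_lit 11285) [nat_lit 168, nat_lit 48, nat_lit 168, nat_lit 72, nat_lit 144, nat_lit 72, nat_lit 168, nat_lit 72, nat_lit 72, nat_lit 144, nat_lit 48, nat_lit 96, nat_lit 72, nat_lit 168, nat_lit 48, nat_lit 48, nat_lit 144, nat_lit 48, nat_lit 168, nat_lit 48, nat_lit 144])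
noncomputable def r150 : WT := (.leaf (nat_lit 12321) [nat_lit 168, nat_lit 72, nat_lit 72, nat_lit 144, nat_lit 48, nat_lit 168, nat_lit 72, nat_lit 168, nat_lit 48, nat_lit 48, nat_lit 144, nat_lit 48, nat_lit 168, nat_lit 48, nat_lit 144, nat_lit 72, nat_lit 120, nat_lit 48, nat_lit 168, nat_lit 72, nat_lit 144])
noncomputable def r151 : WT := (.leaf (nat_lit 18432) [nat_lit 144, nat_lit 48, nat_lit 120, nat_lit 72, nat_lit 72, nat_lit 168, nat_lit 48, nat_lit 48, nat_lit 144, nat_lit 72, nat_lit 72, nat_lit 144, nat_lit 48, nat_lit 48, nat_lit 96, nat_lit 72, nat_lit 168, nat_lit 48, nat_lit 168])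
noncomputable def r152 : WT := (.leaf (nat_lit 16392) [nat_lit 144, nat_lit 48, nat_lit 144, nat_lit 48, nat_lit 96, nat_lit 72, nat_lit 168, nat_lit 72, nat_lit 168, nat_lit 48, nat_lit 168, nat_lit 72, nat_lit 168, nat_lit 72, nat_lit 96, nat_lit 48, nat_lit 144, nat_lit 48, nat_lit 144])
noncomputable def r153 : WT := (.leaf (nat_lit 16420) [nat_lit 96, nat_lit 48, nat_lit 144, nat_lit 48, nat_lit 144, nat_lit 72, nat_lit 144, nat_lit 48, nat_lit 144, nat_lit 48, nat_lit 96, nat_lit 72, nat_lit 168, nat_lit 72, nat_lit 168, nat_lit 48, nat_lit 168, nat_lit 72, nat_lit 168])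
noncomputable def r154 : WT := (.leaf (nat_lit 9242) [nat_lit 72, nat_lit 168, nat_lit 72, nat_lit 144, nat_lit 72, nat_lit 168, nat_lit 48, nat_lit 144, nat_lit 72, nat_lit 144, nat_lit 48, nat_lit 168, nat_lit 48, nat_lit 144, nat_lit 48, nat_lit 48, nat_lit 168, nat_lit 72, nat_lit 96, nat_lit 48, nat_lit 144])
noncomputable def r155 : WT := (.leaf (nat_lit 16411) [nat_lit 168, nat_lit 48, nat_lit 168, nat_lit 72, nat_lit 168, nat_lit 72, nat_lit 120, nat_lit 48, nat_lit 144, nat_lit 48, nat_lit 144, nat_lit 72, nat_lit 144, nat_lit 48, nat_lit 144, nat_lit 48, nat_lit 120, nat_lit 72, nat_lit 168])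
noncomputable def r156 : WT := (.leaf (nat_lit 16419) [nat_lit 168, nat_lit 72, nat_lit 120, nat_lit 48, nat_lit 144, nat_lit 48, nat_lit 144, nat_lit 72, nat_lit 144, nat_lit 48, nat_lit 144, nat_lit 48, nat_lit 120, nat_lit 72, nat_lit 168, nat_lit 72, nat_lit 168, nat_lit 48, nat_lit 168])
noncomputable def r157 : WT := (.leaf (nat_lit 14357) [nat_lit 168, nat_lit 48, nat_lit 48, nat_lit 144, nat_lit 48, nat_lit 144, nat_lit 48, nat_lit 168, nat_lit 48, nat_lit 168, nat_lit 48, nat_lit 96, nat_lit 72, nat_lit 144, nat_lit 72, nat_lit 144, nat_lit 72, nat_lit 168, nat_lit 72, nat_lit 168, nat_lit 72])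
noncomputable def r158 : WT := (.leaf (nat_lit 12317) [nat_lit 144, nat_lit 72, nat_lit 168, nat_lit 72, nat_lit 72, nat_lit 144, nat_lit 48, nat_lit 168, nat_lit 72, nat_lit 168, nat_lit 48, nat_lit 48, nat_lit 144, nat_lit 48, nat_lit 168, nat_lit 48, nat_lit 144, nat_lit 72, nat_lit 120, nat_lit 48, nat_lit 168])
noncomputable def r159 : WT := (.node (nat_lit 46) (.node (nat_lit 43) (.node (nat_lit 42) r148 r149) (.node (nat_lit 44) r150 (.node (nat_lit 45) r151 r152))) (.node (nat_lit 49) (.node (nat_lit 47) r153 (.node (nat_lit 48) r154 r155)) (.node (nat_lit 50) r156 (.node (nat_lit 51) r157 r158))))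
noncomputable def r160 : WT := (.leaf (nat_lit 8226) [nat_lit 168, nat_lit 120, nat_lit 48, nat_lit 144, nat_lit 72, nat_lit 96, nat_lit 144, nat_lit 48, nat_lit 144, nat_lit 72, nat_lit 168, nat_lit 48, nat_lit 168, nat_lit 72, nat_lit 96, nat_lit 48, nat_lit 144, nat_lit 72, nat_lit 144, nat_lit 48, nat_lit 168])
noncomputable def r161 : WT := (.leaf (nat_lit 12314) [nat_lit 144, nat_lit 72, nat_lit 168, nat_lit 72, nat_lit 72, nat_lit 144, nat_lit 48, nat_lit 144, nat_lit 72, nat_lit 168, nat_lit 48, nat_lit 48, nat_lit 144, nat_lit 48, nat_lit 168, nat_lit 48, nat_lit 144, nat_lit 72, nat_lit 96, nat_lit 48, nat_lit 168])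
noncomputable def r162 : WT := (.leaf (nat_lit 18455) [nat_lit 72, nat_lit 144, nat_lit 48, nat_lit 48, nat_lit 96, nat_lit 72, nat_lit 168, nat_lit 48, nat_lit 144, nat_lit 72, nat_lit 144, nat_lit 48, nat_lit 120, nat_lit 72, nat_lit 72, nat_lit 168, nat_lit 48, nat_lit 48, nat_lit 168])
noncomputable def r163 : WT := (.leaf (nat_lit 13312) [nat_lit 168, nat_lit 48, nat_lit 168, nat_lit 72, nat_lit 144, nat_lit 48, nat_lit 144, nat_lit 120, nat_lit 72, nat_lit 144, nat_lit 48, nat_lit 96, nat_lit 168, nat_lit 72, nat_lit 168, nat_lit 48, nat_lit 144, nat_lit 72, nat_lit 144, nat_lit 48, nat_lit 120])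
noncomputable def r164 : WT := (.leaf (nat_lit 12309) [nat_lit 120, nat_lit 48, nat_lit 168, nat_lit 72, nat_lit 144, nat_lit 72, nat_lit 168, nat_lit 72, nat_lit 72, nat_lit 144, nat_lit 48, nat_lit 168, nat_lit 72, nat_lit 168, nat_lit 48, nat_lit 48, nat_lit 144, nat_lit 48, nat_lit 168, nat_lit 48, nat_lit 144])
noncomputable def r165 : WT := (.leaf (nat_lit 13323) [nat_lit 144, nat_lit 48, nat_lit 144, nat_lit 120, nat_lit 72, nat_lit 168, nat_lit 48, nat_lit 96, nat_lit 168, nat_lit 72, nat_lit 168, nat_lit 48, nat_lit 144, nat_lit 72, nat_lit 144, nat_lit 48, nat_lit 96, nat_lit 72, nat_lit 168, nat_lit 48, nat_lit 168])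
noncomputable def r166 : WT := (.leaf (nat_lit 13343) [nat_lit 168, nat_lit 48, nat_lit 144, nat_lit 72, nat_lit 144, nat_lit 48, nat_lit 96, nat_lit 72, nat_lit 168, nat_lit 48, nat_lit 168, nat_lit 72, nat_lit 144, nat_lit 48, nat_lit 144, nat_lit 120, nat_lit 72, nat_lit 168, nat_lit 48, nat_lit 96, nat_lit 168])
noncomputable def r167 : WT := (.leaf (nat_lit 14344) [nat_lit 168, nat_lit 72, nat_lit 168, nat_lit 72, nat_lit 72, nat_lit 144, nat_lit 48, nat_lit 48, nat_lit 144, nat_lit 48, nat_lit 144, nat_lit 48, nat_lit 168, nat_lit 48, nat_lit 168, nat_lit 48, nat_lit 120, nat_lit 72, nat_lit 144, nat_lit 72, nat_lit 144])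
noncomputable def r168 : WT := (.node (nat_lit 59) r166 r167)
noncomputable def r169 : WT := (.leaf (nat_lit 14339) [nat_lit 144, nat_lit 72, nat_lit 144, nat_lit 72, nat_lit 168, nat_lit 72, nat_lit 168, nat_lit 72, nat_lit 72, nat_lit 168, nat_lit 48, nat_lit 48, nat_lit 144, nat_lit 48, nat_lit 144, nat_lit 48, nat_lit 168, nat_lit 48, nat_lit 168, nat_lit 48, nat_lit 96])
noncomputable def r170 : WT := (.leaf (nat_lit 14343) [nat_lit 144, nat_lit 72, nat_lit 168, nat_lit 72, nat_lit 168, nat_lit 72, nat_lit 72, nat_lit 168, nat_lit 48, nat_lit 48, nat_lit 144, nat_lit 48, nat_lit 144, nat_lit 48, nat_lit 168, nat_lit 48, nat_lit 168, nat_lit 48, nat_lit 96, nat_lit 72, nat_lit 144])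
noncomputable def r171 : WT := (.leaf (nat_lit 14347) [nat_lit 168, nat_lit 72, nat_lit 168, nat_lit 72, nat_lit 72, nat_lit 168, nat_lit 48, nat_lit 48, nat_lit 144, nat_lit 48, nat_lit 144, nat_lit 48, nat_lit 168, nat_lit 48, nat_lit 168, nat_lit 48, nat_lit 96, nat_lit 72, nat_lit 144, nat_lit 72, nat_lit 144])
noncomputable def r172 : WT := (.leaf (nat_lit 15375) [nat_lit 168, nat_lit 72, nat_lit 72, nat_lit 120, nat_lit 48, nat_lit 48, nat_lit 144, nat_lit 48, nat_lit 144, nat_lit 48, nat_lit 168, nat_lit 48, nat_lit 168, nat_lit 48, nat_lit 168, nat_lit 72, nat_lit 144, nat_lit 72, nat_lit 144, nat_lit 72, nat_lit 168])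
noncomputable def r173 : WT := (.leaf (nat_lit 15379) [nat_lit 72, nat_lit 120, nat_lit 48, nat_lit 48, nat_lit 144, nat_lit 48, nat_lit 144, nat_lit 48, nat_lit 168, nat_lit 48, nat_lit 168, nat_lit 48, nat_lit 168, nat_lit 72, nat_lit 144, nat_lit 72, nat_lit 144, nat_lit 72, nat_lit 168, nat_lit 72, nat_lit 168])
noncomputable def r174 : WT := (.node (nat_lit 64) r172 r173)
noncomputable def r175 : WT := (.leaf (nat_lit 15364) [nat_lit 144, nat_lit 72, nat_lit 168, nat_lit 72, nat_lit 168, nat_lit 72, nat_lit 72, nat_lit 96, nat_lit 48, nat_lit 48, nat_lit 144, nat_lit 48, nat_lit 144, nat_lit 48, nat_lit 168, nat_lit 48, nat_lit 168, nat_lit 48, nat_lit 144, nat_lit 72, nat_lit 144])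
noncomputable def r176 : WT := (.leaf (nat_lit 9247) [nat_lit 168, nat_lit 72, nat_lit 144, nat_lit 72, nat_lit 168, nat_lit 48, nat_lit 168, nat_lit 72, nat_lit 144, nat_lit 48, nat_lit 168, nat_lit 48, nat_lit 144, nat_lit 48, nat_lit 48, nat_lit 168, nat_lit 72, nat_lit 120, nat_lit 48, nat_lit 144, nat_lit 72])
noncomputable def r177 : WT := (.leaf (nat_lit 16407) [nat_lit 168, nat_lit 72, nat_lit 168, nat_lit 48, nat_lit 168, nat_lit 72, nat_lit 168, nat_lit 72, nat_lit 120, nat_lit 48, nat_lit 144, nat_lit 48, nat_lit 144, nat_lit 72, nat_lit 144, nat_lit 48, nat_lit 144, nat_lit 48, nat_lit 120])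
noncomputable def r178 : WT := (.leaf (nat_lit 16423) [nat_lit 120, nat_lit 48, nat_lit 144, nat_lit 48, nat_lit 144, nat_lit 72, nat_lit 144, nat_lit 48, nat_lit 144, nat_lit 48, nat_lit 120, nat_lit 72, nat_lit 168, nat_lit 72, nat_lit 168, nat_lit 48, nat_lit 168, nat_lit 72, nat_lit 168])
noncomputable def r179 : WT := (.leaf (nat_lit 17432) [nat_lit 120, nat_lit 144, nat_lit 96, nat_lit 72, nat_lit 168, nat_lit 72, nat_lit 168, nat_lit 48, nat_lit 144, nat_lit 48, nat_lit 120, nat_lit 168, nat_lit 96, nat_lit 48, nat_lit 144, nat_lit 48, nat_lit 144, nat_lit 72, nat_lit 168])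
noncomputable def r180 : WT := (.node (nat_lit 69) r178 r179)
noncomputable def r181 : WT := (.node (nat_lit 60) (.node (nat_lit 55) (.node (nat_lit 53) r160 (.node (nat_lit 54) r161 r162)) (.node (nat_lit 57) (.node (nat_lit 56) r163 r164) (.node (nat_lit 58) r165 r168))) (.node (nat_lit 65) (.node (nat_lit 62) (.node (nat_lit 61) r169 r170) (.node (nat_lit 63) r171 r174)) (.node (nat_lit 67) (.node (nat_lit 66) r175 r176) (.node (nat_lit 68) r177 r180))))
noncomputable def r182 : WT := (.leaf (nat_lit 17444) [nat_lit 168, nat_lit 48, nat_lit 144, nat_lit 48, nat_lit 120, nat_lit 168, nat_lit 96, nat_lit 48, nat_lit 144, nat_lit 48, nat_lit 144, nat_lit 72, nat_lit 168, nat_lit 72, nat_lit 120, nat_lit 144, nat_lit 96, nat_lit 72, nat_lit 168])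
noncomputable def r183 : WT := (.leaf (nat_lit 17431) [nat_lit 168, nat_lit 72, nat_lit 120, nat_lit 144, nat_lit 96, nat_lit 72, nat_lit 168, nat_lit 72, nat_lit 144, nat_lit 48, nat_lit 144, nat_lit 48, nat_lit 120, nat_lit 168, nat_lit 96, nat_lit 48, nat_lit 144, nat_lit 48, nat_lit 168])
noncomputable def r184 : WT := (.leaf (nat_lit 18443) [nat_lit 72, nat_lit 168, nat_lit 48, nat_lit 48, nat_lit 168, nat_lit 72, nat_lit 72, nat_lit 144, nat_lit 48, nat_lit 48, nat_lit 96, nat_lit 72, nat_lit 168, nat_lit 48, nat_lit 144, nat_lit 72, nat_lit 144, nat_lit 48, nat_lit 120])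
noncomputable def r185 : WT := (.leaf (nat_lit 8195) [nat_lit 96, nat_lit 144, nat_lit 48, nat_lit 144, nat_lit 72, nat_lit 168, nat_lit 48, nat_lit 168, nat_lit 72, nat_lit 120, nat_lit 48, nat_lit 144, nat_lit 72, nat_lit 144, nat_lit 48, nat_lit 168, nat_lit 72, nat_lit 168, nat_lit 120, nat_lit 48, nat_lit 168])
noncomputable def r186 : WT := (.leaf (nat_lit 8221) [nat_lit 144, nat_lit 48, nat_lit 168, nat_lit 72, nat_lit 168, nat_lit 120, nat_lit 48, nat_lit 168, nat_lit 72, nat_lit 96, nat_lit 144, nat_lit 48, nat_lit 144, nat_lit 72, nat_lit 168, nat_lit 48, nat_lit 168, nat_lit 72, nat_lit 120, nat_lit 48, nat_lit 144])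
noncomputable def r187 : WT := (.node (nat_lit 74) r185 r186)
noncomputable def r188 : WT := (.leaf (nat_lit 8229) [nat_lit 168, nat_lit 120, nat_lit 48, nat_lit 168, nat_lit 72, nat_lit 96, nat_lit 144, nat_lit 48, nat_lit 144, nat_lit 72, nat_lit 168, nat_lit 48, nat_lit 168, nat_lit 72, nat_lit 120, nat_lit 48, nat_lit 144, nat_lit 72, nat_lit 144, nat_lit 48, nat_lit 168])
noncomputable def r189 : WT := (.leaf (nat_lit 9219) [nat_lit 144, nat_lit 48, nat_lit 168, nat_lit 48, nat_lit 144, nat_lit 48, nat_lit 48, nat_lit 168, nat_lit 72, nat_lit 120, nat_lit 48, nat_lit 144, nat_lit 72, nat_lit 72, nat_lit 168, nat_lit 72, nat_lit 144, nat_lit 72, nat_lit 168, nat_lit 48, nat_lit 168])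
noncomputable def r190 : WT := (.leaf (nat_lit 9245) [nat_lit 72, nat_lit 168, nat_lit 72, nat_lit 144, nat_lit 72, nat_lit 168, nat_lit 48, nat_lit 168, nat_lit 72, nat_lit 144, nat_lit 48, nat_lit 168, nat_lit 48, nat_lit 144, nat_lit 48, nat_lit 48, nat_lit 168, nat_lit 72, nat_lit 120, nat_lit 48, nat_lit 144])
noncomputable def r191 : WT := (.leaf (nat_lit 12324) [nat_lit 144, nat_lit 48, nat_lit 144, nat_lit 72, nat_lit 168, nat_lit 48, nat_lit 48, nat_lit 144, nat_lit 48, nat_lit 168, nat_lit 48, nat_lit 144, nat_lit 72, nat_lit 96, nat_lit 48, nat_lit 168, nat_lit 72, nat_lit 144, nat_lit 72, nat_lit 168, nat_lit 72])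
noncomputable def r192 : WT := (.leaf (nat_lit 10242) [nat_lit 168, nat_lit 72, nat_lit 168, nat_lit 72, nat_lit 144, nat_lit 72, nat_lit 144, nat_lit 72, nat_lit 144, nat_lit 48, nat_lit 168, nat_lit 48, nat_lit 168, nat_lit 48, nat_lit 144, nat_lit 48, nat_lit 144, nat_lit 48, nat_lit 48, nat_lit 120, nat_lit 72])
noncomputable def r193 : WT := (.node (nat_lit 79) r191 r192)
noncomputable def r194 : WT := (.leaf (nat_lit 10250) [nat_lit 144, nat_lit 72, nat_lit 144, nat_lit 72, nat_lit 144, nat_lit 48, nat_lit 168, nat_lit 48, nat_lit 168, nat_lit 48, nat_lit 144, nat_lit 48, nat_lit 144, nat_lit 48, nat_lit 48, nat_lit 120, nat_lit 72, nat_lit 72, nat_lit 168, nat_lit 72, nat_lit 168])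
noncomputable def r195 : WT := (.leaf (nat_lit 10253) [nat_lit 144, nat_lit 72, nat_lit 144, nat_lit 72, nat_lit 168, nat_lit 48, nat_lit 168, nat_lit 48, nat_lit 168, nat_lit 48, nat_lit 144, nat_lit 48, nat_lit 144, nat_lit 48, nat_lit 48, nat_lit 96, nat_lit 72, nat_lit 72, nat_lit 168, nat_lit 72, nat_lit 168])
noncomputable def r196 : WT := (.leaf (nat_lit 10257) [nat_lit 144, nat_lit 72, nat_lit 168, nat_lit 48, nat_lit 168, nat_lit 48, nat_lit 168, nat_lit 48, nat_lit 144, nat_lit 48, nat_lit 144, nat_lit 48, nat_lit 48, nat_lit 96, nat_lit 72, nat_lit 72, nat_lit 168, nat_lit 72, nat_lit 168, nat_lit 72, nat_lit 144])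
noncomputable def r197 : WT := (.leaf (nat_lit 11290) [nat_lit 144, nat_lit 72, nat_lit 168, nat_lit 72, nat_lit 72, nat_lit 144, nat_lit 48, nat_lit 120, nat_lit 72, nat_lit 168, nat_lit 48, nat_lit 48, nat_lit 144, nat_lit 48, nat_lit 168, nat_lit 48, nat_lit 144, nat_lit 72, nat_lit 144, nat_lit 48, nat_lit 168])
noncomputable def r198 : WT := (.leaf (nat_lit 11294) [nat_lit 168, nat_lit 72, nat_lit 72, nat_lit 144, nat_lit 48, nat_lit 120, nat_lit 72, nat_lit 168, nat_lit 48, nat_lit 48, nat_lit 144, nat_lit 48, nat_lit 168, nat_lit 48, nat_lit 144, nat_lit 72, nat_lit 144, nat_lit 48, nat_lit 168, nat_lit 72, nat_lit 144])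
noncomputable def r199 : WT := (.node (nat_lit 84) r197 r198)
noncomputable def r200 : WT := (.leaf (nat_lit 11300) [nat_lit 144, nat_lit 48, nat_lit 120, nat_lit 72, nat_lit 168, nat_lit 48, nat_lit 48, nat_lit 144, nat_lit 48, nat_lit 168, nat_lit 48, nat_lit 144, nat_lit 72, nat_lit 144, nat_lit 48, nat_lit 168, nat_lit 72, nat_lit 144, nat_lit 72, nat_lit 168, nat_lit 72])
noncomputable def r201 : WT := (.leaf (nat_lit 11267) [nat_lit 168, nat_lit 48, nat_lit 48, nat_lit 144, nat_lit 48, nat_lit 168, nat_lit 48, nat_lit 144, nat_lit 72, nat_lit 168, nat_lit 48, nat_lit 168, nat_lit 72, nat_lit 144, nat_lit 72, nat_lit 168, nat_lit 72, nat_lit 72, nat_lit 144, nat_lit 48, nat_lit 96])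
noncomputable def r202 : WT := (.leaf (nat_lit 11293) [nat_lit 144, nat_lit 72, nat_lit 168, nat_lit 72, nat_lit 72, nat_lit 144, nat_lit 48, nat_lit 96, nat_lit 72, nat_lit 168, nat_lit 48, nat_lit 48, nat_lit 144, nat_lit 48, nat_lit 168, nat_lit 48, nat_lit 144, nat_lit 72, nat_lit 168, nat_lit 48, nat_lit 168])
noncomputable def r203 : WT := (.leaf (nat_lit 12288) [nat_lit 168, nat_lit 48, nat_lit 48, nat_lit 144, nat_lit 48, nat_lit 168, nat_lit 48, nat_lit 144, nat_lit 72, nat_lit 96, nat_lit 48, nat_lit 168, nat_lit 72, nat_lit 144, nat_lit 72, nat_lit 168, nat_lit 72, nat_lit 72, nat_lit 144, nat_lit 48, nat_lit 144])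
noncomputable def r204 : WT := (.leaf (nat_lit 12318) [nat_lit 168, nat_lit 72, nat_lit 72, nat_lit 144, nat_lit 48, nat_lit 144, nat_lit 72, nat_lit 168, nat_lit 48, nat_lit 48, nat_lit 144, nat_lit 48, nat_lit 168, nat_lit 48, nat_lit 144, nat_lit 72, nat_lit 96, nat_lit 48, nat_lit 168, nat_lit 72, nat_lit 144])
noncomputable def r205 : WT := (.node (nat_lit 89) r203 r204)
noncomputable def r206 : WT := (.node (nat_lit 80) (.node (nat_lit 75) (.node (nat_lit 72) (.node (nat_lit 71) r182 r183) (.node (nat_lit 73) r184 r187)) (.node (nat_lit 77) (.node (nat_lit 76) r188 r189) (.node (nat_lit 78) r190 r193))) (.node (nat_lit 85) (.node (nat_lit 82) (.node (nat_lit 81) r194 r195) (.node (nat_lit 83) r196 r199)) (.node (nat_lit 87) (.node (nat_lit 86) r200 r201) (.node (nat_lit 88) r202 r205))))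
noncomputable def r207 : WT := (.node (nat_lit 10) (.node (nat_lit 5) r106 (.node (nat_lit 7) (.node (nat_lit 6) r107 r108) (.node (nat_lit 8) r109 r111))) (.node (nat_lit 31) (.node (nat_lit 18) (.node (nat_lit 14) r116 r121) (.node (nat_lit 24) r128 r136)) (.node (nat_lit 52) (.node (nat_lit 41) r147 r159) (.node (nat_lit 70) r181 r206))))
noncomputable def w1 : WT := (.node (nat_lit 1) (.leaf (nat_lit 2) [nat_lit 48]) (.node (nat_lit 2) (.leaf (nat_lit 6150) [nat_lit 72, nat_lit 96, nat_lit 48, nat_lit 120]) (.node (nat_lit 3) (.leaf (nat_lit 6152) [nat_lit 96, nat_lit 48, nat_lit 120, nat_lit 72]) (.node (nat_lit 4) (.leaf (nat_lit 6151) [nat_lit 120, nat_lit 48, nat_lit 48, nat_lit 96]) r207))))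
noncomputable def r208 : WT := (.leaf (nat_lit 16402) [nat_lit 72, nat_lit 168, nat_lit 72, nat_lit 168, nat_lit 48, nat_lit 168, nat_lit 72, nat_lit 168, nat_lit 72, nat_lit 96, nat_lit 48, nat_lit 144, nat_lit 48, nat_lit 144, nat_lit 72, nat_lit 144, nat_lit 48, nat_lit 144, nat_lit 48])
noncomputable def r209 : WT := (.leaf (nat_lit 16422) [nat_lit 48, nat_lit 144, nat_lit 48, nat_lit 144, nat_lit 72, nat_lit 144, nat_lit 48, nat_lit 144, nat_lit 48, nat_lit 96, nat_lit 72, nat_lit 168, nat_lit 72, nat_lit 168, nat_lit 48, nat_lit 168, nat_lit 72, nat_lit 168, nat_lit 72])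
noncomputable def r210 : WT := (.leaf (nat_lit 8194) [nat_lit 144, nat_lit 48, nat_lit 144, nat_lit 72, nat_lit 168, nat_lit 48, nat_lit 168, nat_lit 72, nat_lit 96, nat_lit 48, nat_lit 144, nat_lit 72, nat_lit 144, nat_lit 48, nat_lit 168, nat_lit 72, nat_lit 168, nat_lit 120, nat_lit 48, nat_lit 144, nat_lit 72])
noncomputable def r211 : WT := (.leaf (nat_lit 13336) [nat_lit 168, nat_lit 72, nat_lit 168, nat_lit 48, nat_lit 144, nat_lit 72, nat_lit 144, nat_lit 48, nat_lit 120, nat_lit 72, nat_lit 168, nat_lit 48, nat_lit 168, nat_lit 72, nat_lit 144, nat_lit 48, nat_lit 144, nat_lit 120, nat_lit 72, nat_lit 144, nat_lit 48])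
noncomputable def r212 : WT := (.leaf (nat_lit 17418) [nat_lit 48, nat_lit 144, nat_lit 48, nat_lit 144, nat_lit 72, nat_lit 168, nat_lit 72, nat_lit 120, nat_lit 144, nat_lit 96, nat_lit 72, nat_lit 168, nat_lit 72, nat_lit 168, nat_lit 48, nat_lit 144, nat_lit 48, nat_lit 120, nat_lit 168])
noncomputable def r213 : WT := (.leaf (nat_lit 8197) [nat_lit 144, nat_lit 48, nat_lit 144, nat_lit 72, nat_lit 168, nat_lit 48, nat_lit 168, nat_lit 72, nat_lit 120, nat_lit 48, nat_lit 144, nat_lit 72, nat_lit 144, nat_lit 48, nat_lit 168, nat_lit 72, nat_lit 168, nat_lit 120, nat_lit 48, nat_lit 168, nat_lit 72])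
noncomputable def r214 : WT := (.leaf (nat_lit 14337) [nat_lit 72, nat_lit 144, nat_lit 72, nat_lit 144, nat_lit 72, nat_lit 168, nat_lit 72, nat_lit 168, nat_lit 72, nat_lit 72, nat_lit 168, nat_lit 48, nat_lit 48, nat_lit 144, nat_lit 48, nat_lit 144, nat_lit 48, nat_lit 168, nat_lit 48, nat_lit 168, nat_lit 48])
noncomputable def r215 : WT := (.node (nat_lit 11) r212 (.node (nat_lit 12) r213 r214))
noncomputable def r216 : WT := (.node (nat_lit 6) (.leaf (nat_lit 7168) [nat_lit 144, nat_lit 120, nat_lit 168]) (.node (nat_lit 8) (.node (nat_lit 7) r208 r209) (.node (nat_lit 9) r210 (.node (nat_lit 10) r211 r215))))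
noncomputable def w2 : WT := (.node (nat_lit 1) (.leaf (nat_lit 1024) [nat_lit 120]) (.node (nat_lit 3) (.node (nat_lit 2) (.leaf (nat_lit 4096) [nat_lit 96, nat_lit 96]) (.leaf (nat_lit 6144) [nat_lit 48, nat_lit 120, nat_lit 72, nat_lit 72])) (.node (nat_lit 4) (.leaf (nat_lit 6149) [nat_lit 72, nat_lit 120, nat_lit 48, nat_lit 48]) (.node (nat_lit 5) (.leaf (nat_lit 7171) [nat_lit 168, nat_lit 120, nat_lit 144]) r216))))
noncomputable def r217 : WT := (.leaf (nat_lit 17414) [nat_lit 168, nat_lit 96, nat_lit 48, nat_lit 144, nat_lit 48, nat_lit 144, nat_lit 72, nat_lit 168, nat_lit 72, nat_lit 120, nat_lit 144, nat_lit 96, nat_lit 72, nat_lit 168, nat_lit 72, nat_lit 168, nat_lit 48, nat_lit 144, nat_lit 48])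
noncomputable def r218 : WT := (.leaf (nat_lit 17434) [nat_lit 144, nat_lit 96, nat_lit 72, nat_lit 168, nat_lit 72, nat_lit 168, nat_lit 48, nat_lit 144, nat_lit 48, nat_lit 120, nat_lit 168, nat_lit 96, nat_lit 48, nat_lit 144, nat_lit 48, nat_lit 144, nat_lit 72, nat_lit 168, nat_lit 72])
noncomputable def r219 : WT := (.leaf (nat_lit 16405) [nat_lit 72, nat_lit 168, nat_lit 72, nat_lit 168, nat_lit 48, nat_lit 168, nat_lit 72, nat_lit 168, nat_lit 72, nat_lit 120, nat_lit 48, nat_lit 144, nat_lit 48, nat_lit 144, nat_lit 72, nat_lit 144, nat_lit 48, nat_lit 144, nat_lit 48])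
noncomputable def r220 : WT := (.leaf (nat_lit 16385) [nat_lit 48, nat_lit 144, nat_lit 48, nat_lit 144, nat_lit 72, nat_lit 144, nat_lit 48, nat_lit 144, nat_lit 48, nat_lit 120, nat_lit 72, nat_lit 168, nat_lit 72, nat_lit 168, nat_lit 48, nat_lit 168, nat_lit 72, nat_lit 168, nat_lit 72])
noncomputable def r221 : WT := (.leaf (nat_lit 8230) [nat_lit 48, nat_lit 144, nat_lit 72, nat_lit 96, nat_lit 144, nat_lit 48, nat_lit 144, nat_lit 72, nat_lit 168, nat_lit 48, nat_lit 168, nat_lit 72, nat_lit 96, nat_lit 48, nat_lit 144, nat_lit 72, nat_lit 144, nat_lit 48, nat_lit 168, nat_lit 72, nat_lit 168])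
noncomputable def r222 : WT := (.node (nat_lit 9) r219 (.node (nat_lit 10) r220 r221))
noncomputable def r223 : WT := (.leaf (nat_lit 17417) [nat_lit 168, nat_lit 96, nat_lit 48, nat_lit 144, nat_lit 48, nat_lit 168, nat_lit 72, nat_lit 168, nat_lit 72, nat_lit 120, nat_lit 144, nat_lit 96, nat_lit 72, nat_lit 168, nat_lit 72, nat_lit 144, nat_lit 48, nat_lit 144, nat_lit 48])
noncomputable def r224 : WT := (.leaf (nat_lit 17437) [nat_lit 144, nat_lit 96, nat_lit 72, nat_lit 168, nat_lit 72, nat_lit 144, nat_lit 48, nat_lit 144, nat_lit 48, nat_lit 120, nat_lit 168, nat_lit 96, nat_lit 48, nat_lit 144, nat_lit 48, nat_lit 168, nat_lit 72, nat_lit 168, nat_lit 72])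
noncomputable def r225 : WT := (.leaf (nat_lit 12311) [nat_lit 48, nat_lit 168, nat_lit 72, nat_lit 144, nat_lit 72, nat_lit 168, nat_lit 72, nat_lit 72, nat_lit 144, nat_lit 48, nat_lit 168, nat_lit 72, nat_lit 168, nat_lit 48, nat_lit 48, nat_lit 144, nat_lit 48, nat_lit 168, nat_lit 48, nat_lit 144, nat_lit 72])
noncomputable def r226 : WT := (.leaf (nat_lit 13328) [nat_lit 72, nat_lit 144, nat_lit 48, nat_lit 96, nat_lit 168, nat_lit 72, nat_lit 168, nat_lit 48, nat_lit 144, nat_lit 72, nat_lit 144, nat_lit 48, nat_lit 120, nat_lit 72, nat_lit 168, nat_lit 48, nat_lit 168, nat_lit 72, nat_lit 144, nat_lit 48, nat_lit 144])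
noncomputable def r227 : WT := (.leaf (nat_lit 14378) [nat_lit 72, nat_lit 144, nat_lit 72, nat_lit 144, nat_lit 72, nat_lit 168, nat_lit 72, nat_lit 168, nat_lit 72, nat_lit 72, nat_lit 144, nat_lit 48, nat_lit 48, nat_lit 144, nat_lit 48, nat_lit 144, nat_lit 48, nat_lit 168, nat_lit 48, nat_lit 168, nat_lit 48])
noncomputable def r228 : WT := (.leaf (nat_lit 9239) [nat_lit 48, nat_lit 144, nat_lit 72, nat_lit 72, nat_lit 168, nat_lit 72, nat_lit 144, nat_lit 72, nat_lit 168, nat_lit 48, nat_lit 168, nat_lit 72, nat_lit 144, nat_lit 48, nat_lit 168, nat_lit 48, nat_lit 144, nat_lit 48, nat_lit 48, nat_lit 168, nat_lit 72])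
noncomputable def r229 : WT := (.node (nat_lit 14) (.node (nat_lit 12) r223 (.node (nat_lit 13) r224 r225)) (.node (nat_lit 15) r226 (.node (nat_lit 16) r227 r228)))
noncomputable def r230 : WT := (.node (nat_lit 5) (.leaf (nat_lit 7175) [nat_lit 144, nat_lit 96, nat_lit 168]) (.node (nat_lit 6) (.leaf (nat_lit 7172) [nat_lit 168, nat_lit 96, nat_lit 144]) (.node (nat_lit 8) (.node (nat_lit 7) r217 r218) (.node (nat_lit 11) r222 r229))))
noncomputable def w3 : WT := (.node (nat_lit 1) (.leaf (nat_lit 1026) [nat_lit 96]) (.node (nat_lit 2) (.leaf (nat_lit 4097) [nat_lit 120, nat_lit 120]) (.node (nat_lit 3) (.leaf (nat_lit 6148) [nat_lit 72, nat_lit 72, nat_lit 96, nat_lit 48]) (.node (nat_lit 4) (.leaf (nat_lit 6153) [nat_lit 48, nat_lit 48, nat_lit 96, nat_lit 72]) r230))))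
noncomputable def r231 : WT := (.leaf (nat_lit 19476) [nat_lit 48, nat_lit 168, nat_lit 48, nat_lit 168, nat_lit 168, nat_lit 48, nat_lit 168, nat_lit 72, nat_lit 144, nat_lit 144, nat_lit 72, nat_lit 144, nat_lit 72, nat_lit 168, nat_lit 72, nat_lit 144, nat_lit 48])
noncomputable def r232 : WT := (.leaf (nat_lit 19458) [nat_lit 144, nat_lit 72, nat_lit 144, nat_lit 72, nat_lit 168, nat_lit 72, nat_lit 144, nat_lit 48, nat_lit 144, nat_lit 48, nat_lit 168, nat_lit 48, nat_lit 168, nat_lit 168, nat_lit 48, nat_lit 168, nat_lit 72])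
noncomputable def r233 : WT := (.leaf (nat_lit 19464) [nat_lit 72, nat_lit 168, nat_lit 72, nat_lit 144, nat_lit 48, nat_lit 144, nat_lit 48, nat_lit 168, nat_lit 48, nat_lit 168, nat_lit 168, nat_lit 48, nat_lit 168, nat_lit 72, nat_lit 144, nat_lit 144, nat_lit 72])
noncomputable def r234 : WT := (.node (nat_lit 4) (.leaf (nat_lit 7170) [nat_lit 120, nat_lit 168, nat_lit 96]) (.node (nat_lit 5) r231 (.node (nat_lit 6) r232 r233)))
noncomputable def r235 : WT := (.leaf (nat_lit 19457) [nat_lit 72, nat_lit 144, nat_lit 144, nat_lit 72, nat_lit 144, nat_lit 72, nat_lit 168, nat_lit 72, nat_lit 168, nat_lit 48, nat_lit 144, nat_lit 48, nat_lit 168, nat_lit 48, nat_lit 168, nat_lit 168, nat_lit 48])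
noncomputable def r236 : WT := (.leaf (nat_lit 19472) [nat_lit 48, nat_lit 144, nat_lit 48, nat_lit 168, nat_lit 48, nat_lit 168, nat_lit 168, nat_lit 48, nat_lit 168, nat_lit 72, nat_lit 144, nat_lit 144, nat_lit 72, nat_lit 144, nat_lit 72, nat_lit 168, nat_lit 72])
noncomputable def r237 : WT := (.leaf (nat_lit 19479) [nat_lit 48, nat_lit 168, nat_lit 48, nat_lit 168, nat_lit 168, nat_lit 48, nat_lit 144, nat_lit 72, nat_lit 144, nat_lit 144, nat_lit 72, nat_lit 144, nat_lit 72, nat_lit 168, nat_lit 72, nat_lit 168, nat_lit 48])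
noncomputable def r238 : WT := (.leaf (nat_lit 16390) [nat_lit 72, nat_lit 144, nat_lit 48, nat_lit 144, nat_lit 48, nat_lit 96, nat_lit 72, nat_lit 168, nat_lit 72, nat_lit 168, nat_lit 48, nat_lit 168, nat_lit 72, nat_lit 168, nat_lit 72, nat_lit 96, nat_lit 48, nat_lit 144, nat_lit 48])
noncomputable def r239 : WT := (.leaf (nat_lit 19467) [nat_lit 72, nat_lit 168, nat_lit 72, nat_lit 168, nat_lit 48, nat_lit 144, nat_lit 48, nat_lit 168, nat_lit 48, nat_lit 168, nat_lit 168, nat_lit 48, nat_lit 144, nat_lit 72, nat_lit 144, nat_lit 144, nat_lit 72])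
noncomputable def r240 : WT := (.node (nat_lit 11) r238 r239)
noncomputable def r241 : WT := (.leaf (nat_lit 16386) [nat_lit 48, nat_lit 144, nat_lit 72, nat_lit 144, nat_lit 48, nat_lit 144, nat_lit 48, nat_lit 96, nat_lit 72, nat_lit 168, nat_lit 72, nat_lit 168, nat_lit 48, nat_lit 168, nat_lit 72, nat_lit 168, nat_lit 72, nat_lit 96, nat_lit 48])
noncomputable def r242 : WT := (.leaf (nat_lit 16394) [nat_lit 48, nat_lit 144, nat_lit 48, nat_lit 96, nat_lit 72, nat_lit 168, nat_lit 72, nat_lit 168, nat_lit 48, nat_lit 168, nat_lit 72, nat_lit 168, nat_lit 72, nat_lit 96, nat_lit 48, nat_lit 144, nat_lit 48, nat_lit 144, nat_lit 72])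
noncomputable def r243 : WT := (.node (nat_lit 13) r241 r242)
noncomputable def r244 : WT := (.leaf (nat_lit 19461) [nat_lit 144, nat_lit 72, nat_lit 144, nat_lit 72, nat_lit 168, nat_lit 72, nat_lit 168, nat_lit 48, nat_lit 144, nat_lit 48, nat_lit 168, nat_lit 48, nat_lit 168, nat_lit 168, nat_lit 48, nat_lit 144, nat_lit 72])
noncomputable def r245 : WT := (.leaf (nat_lit 17422) [nat_lit 48, nat_lit 144, nat_lit 72, nat_lit 168, nat_lit 72, nat_lit 120, nat_lit 144, nat_lit 96, nat_lit 72, nat_lit 168, nat_lit 72, nat_lit 168, nat_lit 48, nat_lit 144, nat_lit 48, nat_lit 120, nat_lit 168, nat_lit 96, nat_lit 48])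
noncomputable def r246 : WT := (.leaf (nat_lit 9243) [nat_lit 72, nat_lit 72, nat_lit 168, nat_lit 72, nat_lit 144, nat_lit 72, nat_lit 168, nat_lit 48, nat_lit 168, nat_lit 72, nat_lit 144, nat_lit 48, nat_lit 168, nat_lit 48, nat_lit 144, nat_lit 48, nat_lit 48, nat_lit 168, nat_lit 72, nat_lit 120, nat_lit 48])
noncomputable def r247 : WT := (.node (nat_lit 15) r244 (.node (nat_lit 16) r245 r246))
noncomputable def r248 : WT := (.leaf (nat_lit 9226) [nat_lit 48, nat_lit 48, nat_lit 168, nat_lit 72, nat_lit 96, nat_lit 48, nat_lit 144, nat_lit 72, nat_lit 72, nat_lit 168, nat_lit 72, nat_lit 144, nat_lit 72, nat_lit 168, nat_lit 48, nat_lit 144, nat_lit 72, nat_lit 144, nat_lit 48, nat_lit 168, nat_lit 48])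
noncomputable def r249 : WT := (.leaf (nat_lit 16398) [nat_lit 48, nat_lit 96, nat_lit 72, nat_lit 168, nat_lit 72, nat_lit 168, nat_lit 48, nat_lit 168, nat_lit 72, nat_lit 168, nat_lit 72, nat_lit 96, nat_lit 48, nat_lit 144, nat_lit 48, nat_lit 144, nat_lit 72, nat_lit 144, nat_lit 48])
noncomputable def r250 : WT := (.leaf (nat_lit 15386) [nat_lit 48, nat_lit 144, nat_lit 48, nat_lit 168, nat_lit 48, nat_lit 168, nat_lit 48, nat_lit 144, nat_lit 72, nat_lit 144, nat_lit 72, nat_lit 144, nat_lit 72, nat_lit 168, nat_lit 72, nat_lit 168, nat_lit 72, nat_lit 72, nat_lit 96, nat_lit 48, nat_lit 48])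
noncomputable def r251 : WT := (.leaf (nat_lit 18456) [nat_lit 48, nat_lit 48, nat_lit 96, nat_lit 72, nat_lit 168, nat_lit 48, nat_lit 168, nat_lit 72, nat_lit 144, nat_lit 48, nat_lit 120, nat_lit 72, nat_lit 72, nat_lit 168, nat_lit 48, nat_lit 48, nat_lit 144, nat_lit 72, nat_lit 72])
noncomputable def r252 : WT := (.node (nat_lit 19) (.node (nat_lit 18) r248 r249) (.node (nat_lit 20) r250 r251))
noncomputable def r253 : WT := (.leaf (nat_lit 12299) [nat_lit 48, nat_lit 168, nat_lit 48, nat_lit 144, nat_lit 72, nat_lit 120, nat_lit 48, nat_lit 168, nat_lit 72, nat_lit 144, nat_lit 72, nat_lit 168, nat_lit 72, nat_lit 72, nat_lit 144, nat_lit 48, nat_lit 168, nat_lit 72, nat_lit 168, nat_lit 48, nat_lit 48])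
noncomputable def r254 : WT := (.leaf (nat_lit 8220) [nat_lit 48, nat_lit 168, nat_lit 72, nat_lit 168, nat_lit 120, nat_lit 48, nat_lit 144, nat_lit 72, nat_lit 96, nat_lit 144, nat_lit 48, nat_lit 144, nat_lit 72, nat_lit 168, nat_lit 48, nat_lit 168, nat_lit 72, nat_lit 96, nat_lit 48, nat_lit 144, nat_lit 72])
noncomputable def r255 : WT := (.leaf (nat_lit 17436) [nat_lit 96, nat_lit 72, nat_lit 168, nat_lit 72, nat_lit 168, nat_lit 48, nat_lit 144, nat_lit 48, nat_lit 120, nat_lit 168, nat_lit 96, nat_lit 48, nat_lit 144, nat_lit 48, nat_lit 144, nat_lit 72, nat_lit 168, nat_lit 72, nat_lit 120])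
noncomputable def r256 : WT := (.leaf (nat_lit 14356) [nat_lit 48, nat_lit 48, nat_lit 144, nat_lit 48, nat_lit 144, nat_lit 48, nat_lit 168, nat_lit 48, nat_lit 168, nat_lit 48, nat_lit 120, nat_lit 72, nat_lit 144, nat_lit 72, nat_lit 144, nat_lit 72, nat_lit 168, nat_lit 72, nat_lit 168, nat_lit 72, nat_lit 72])
noncomputable def r257 : WT := (.leaf (nat_lit 10276) [nat_lit 48, nat_lit 48, nat_lit 120, nat_lit 72, nat_lit 72, nat_lit 168, nat_lit 72, nat_lit 168, nat_lit 72, nat_lit 144, nat_lit 72, nat_lit 144, nat_lit 72, nat_lit 144, nat_lit 48, nat_lit 168, nat_lit 48, nat_lit 168, nat_lit 48, nat_lit 144, nat_lit 48])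
noncomputable def r258 : WT := (.node (nat_lit 23) (.node (nat_lit 22) r253 r254) (.node (nat_lit 24) r255 (.node (nat_lit 25) r256 r257)))
noncomputable def r259 : WT := (.leaf (nat_lit 18434) [nat_lit 48, nat_lit 120, nat_lit 72, nat_lit 72, nat_lit 168, nat_lit 48, nat_lit 48, nat_lit 144, nat_lit 72, nat_lit 72, nat_lit 144, nat_lit 48, nat_lit 48, nat_lit 96, nat_lit 72, nat_lit 168, nat_lit 48, nat_lit 168, nat_lit 72])
noncomputable def r260 : WT := (.leaf (nat_lit 14341) [nat_lit 72, nat_lit 144, nat_lit 72, nat_lit 168, nat_lit 72, nat_lit 168, nat_lit 72, nat_lit 72, nat_lit 168, nat_lit 48, nat_lit 48, nat_lit 144, nat_lit 48, nat_lit 144, nat_lit 48, nat_lit 168, nat_lit 48, nat_lit 168, nat_lit 48, nat_lit 96, nat_lit 72])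
noncomputable def r261 : WT := (.leaf (nat_lit 8199) [nat_lit 48, nat_lit 144, nat_lit 72, nat_lit 168, nat_lit 48, nat_lit 168, nat_lit 72, nat_lit 120, nat_lit 48, nat_lit 144, nat_lit 72, nat_lit 144, nat_lit 48, nat_lit 168, nat_lit 72, nat_lit 168, nat_lit 120, nat_lit 48, nat_lit 168, nat_lit 72, nat_lit 96])
noncomputable def r262 : WT := (.leaf (nat_lit 8234) [nat_lit 72, nat_lit 96, nat_lit 144, nat_lit 48, nat_lit 144, nat_lit 72, nat_lit 168, nat_lit 48, nat_lit 168, nat_lit 72, nat_lit 96, nat_lit 48, nat_lit 144, nat_lit 72, nat_lit 144, nat_lit 48, nat_lit 168, nat_lit 72, nat_lit 168, nat_lit 120, nat_lit 48])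
noncomputable def r263 : WT := (.leaf (nat_lit 14366) [nat_lit 48, nat_lit 168, nat_lit 48, nat_lit 168, nat_lit 48, nat_lit 120, nat_lit 72, nat_lit 144, nat_lit 72, nat_lit 144, nat_lit 72, nat_lit 168, nat_lit 72, nat_lit 168, nat_lit 72, nat_lit 72, nat_lit 144, nat_lit 48, nat_lit 48, nat_lit 144, nat_lit 48])
noncomputable def r264 : WT := (.leaf (nat_lit 10252) [nat_lit 72, nat_lit 144, nat_lit 72, nat_lit 144, nat_lit 48, nat_lit 168, nat_lit 48, nat_lit 168, nat_lit 48, nat_lit 144, nat_lit 48, nat_lit 144, nat_lit 48, nat_lit 48, nat_lit 120, nat_lit 72, nat_lit 72, nat_lit 168, nat_lit 72, nat_lit 168, nat_lit 72])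
noncomputable def r265 : WT := (.node (nat_lit 29) (.node (nat_lit 27) r259 (.node (nat_lit 28) r260 r261)) (.node (nat_lit 30) r262 (.node (nat_lit 31) r263 r264)))
noncomputable def r266 : WT := (.leaf (nat_lit 18437) [nat_lit 48, nat_lit 120, nat_lit 72, nat_lit 72, nat_lit 168, nat_lit 48, nat_lit 48, nat_lit 168, nat_lit 72, nat_lit 72, nat_lit 144, nat_lit 48, nat_lit 48, nat_lit 96, nat_lit 72, nat_lit 168, nat_lit 48, nat_lit 144, nat_lit 72])
noncomputable def r267 : WT := (.leaf (nat_lit 13332) [nat_lit 48, nat_lit 96, nat_lit 168, nat_lit 72, nat_lit 168, nat_lit 48, nat_lit 144, nat_lit 72, nat_lit 144, nat_lit 48, nat_lit 120, nat_lit 72, nat_lit 168, nat_lit 48, nat_lit 168, nat_lit 72, nat_lit 144, nat_lit 48, nat_lit 144, nat_lit 120, nat_lit 72])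
noncomputable def r268 : WT := (.leaf (nat_lit 10256) [nat_lit 72, nat_lit 144, nat_lit 48, nat_lit 168, nat_lit 48, nat_lit 168, nat_lit 48, nat_lit 144, nat_lit 48, nat_lit 144, nat_lit 48, nat_lit 48, nat_lit 120, nat_lit 72, nat_lit 72, nat_lit 168, nat_lit 72, nat_lit 168, nat_lit 72, nat_lit 144, nat_lit 72])
noncomputable def r269 : WT := (.leaf (nat_lit 10272) [nat_lit 48, nat_lit 144, nat_lit 48, nat_lit 48, nat_lit 120, nat_lit 72, nat_lit 72, nat_lit 168, nat_lit 72, nat_lit 168, nat_lit 72, nat_lit 144, nat_lit 72, nat_lit 144, nat_lit 72, nat_lit 144, nat_lit 48, nat_lit 168, nat_lit 48, nat_lit 168, nat_lit 48])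
noncomputable def r270 : WT := (.leaf (nat_lit 9250) [nat_lit 72, nat_lit 168, nat_lit 48, nat_lit 144, nat_lit 72, nat_lit 144, nat_lit 48, nat_lit 168, nat_lit 48, nat_lit 144, nat_lit 48, nat_lit 48, nat_lit 168, nat_lit 72, nat_lit 96, nat_lit 48, nat_lit 144, nat_lit 72, nat_lit 72, nat_lit 168, nat_lit 72])
noncomputable def r271 : WT := (.leaf (nat_lit 10255) [nat_lit 72, nat_lit 144, nat_lit 72, nat_lit 168, nat_lit 48, nat_lit 168, nat_lit 48, nat_lit 168, nat_lit 48, nat_lit 144, nat_lit 48, nat_lit 144, nat_lit 48, nat_lit 48, nat_lit 96, nat_lit 72, nat_lit 72, nat_lit 168, nat_lit 72, nat_lit 168, nat_lit 72])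
noncomputable def r272 : WT := (.node (nat_lit 35) (.node (nat_lit 33) r266 (.node (nat_lit 34) r267 r268)) (.node (nat_lit 36) r269 (.node (nat_lit 37) r270 r271)))
noncomputable def r273 : WT := (.leaf (nat_lit 13329) [nat_lit 120, nat_lit 72, nat_lit 168, nat_lit 48, nat_lit 96, nat_lit 168, nat_lit 72, nat_lit 168, nat_lit 48, nat_lit 144, nat_lit 72, nat_lit 144, nat_lit 48, nat_lit 96, nat_lit 72, nat_lit 168, nat_lit 48, nat_lit 168, nat_lit 72, nat_lit 144, nat_lit 48])
noncomputable def r274 : WT := (.leaf (nat_lit 13350) [nat_lit 48, nat_lit 120, nat_lit 72, nat_lit 168, nat_lit 48, nat_lit 168, nat_lit 72, nat_lit 144, nat_lit 48, nat_lit 144, nat_lit 120, nat_lit 72, nat_lit 144, nat_lit 48, nat_lit 96, nat_lit 168, nat_lit 72, nat_lit 168, nat_lit 48, nat_lit 144, nat_lit 72])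
noncomputable def r275 : WT := (.leaf (nat_lit 11284) [nat_lit 48, nat_lit 168, nat_lit 72, nat_lit 144, nat_lit 72, nat_lit 168, nat_lit 72, nat_lit 72, nat_lit 144, nat_lit 48, nat_lit 120, nat_lit 72, nat_lit 168, nat_lit 48, nat_lit 48, nat_lit 144, nat_lit 48, nat_lit 168, nat_lit 48, nat_lit 144, nat_lit 72])
noncomputable def r276 : WT := (.leaf (nat_lit 12326) [nat_lit 48, nat_lit 144, nat_lit 72, nat_lit 168, nat_lit 48, nat_lit 48, nat_lit 144, nat_lit 48, nat_lit 168, nat_lit 48, nat_lit 144, nat_lit 72, nat_lit 96, nat_lit 48, nat_lit 168, nat_lit 72, nat_lit 144, nat_lit 72, nat_lit 168, nat_lit 72, nat_lit 72])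
noncomputable def r277 : WT := (.leaf (nat_lit 12329) [nat_lit 48, nat_lit 168, nat_lit 72, nat_lit 168, nat_lit 48, nat_lit 48, nat_lit 144, nat_lit 48, nat_lit 168, nat_lit 48, nat_lit 144, nat_lit 72, nat_lit 120, nat_lit 48, nat_lit 168, nat_lit 72, nat_lit 144, nat_lit 72, nat_lit 168, nat_lit 72, nat_lit 72])
noncomputable def r278 : WT := (.leaf (nat_lit 12319) [nat_lit 72, nat_lit 168, nat_lit 72, nat_lit 72, nat_lit 144, nat_lit 48, nat_lit 168, nat_lit 72, nat_lit 168, nat_lit 48, nat_lit 48, nat_lit 144, nat_lit 48, nat_lit 168, nat_lit 48, nat_lit 144, nat_lit 72, nat_lit 120, nat_lit 48, nat_lit 168, nat_lit 72])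
noncomputable def r279 : WT := (.node (nat_lit 41) (.node (nat_lit 39) r273 (.node (nat_lit 40) r274 r275)) (.node (nat_lit 42) r276 (.node (nat_lit 43) r277 r278)))
noncomputable def r280 : WT := (.leaf (nat_lit 16389) [nat_lit 48, nat_lit 144, nat_lit 72, nat_lit 144, nat_lit 48, nat_lit 144, nat_lit 48, nat_lit 120, nat_lit 72, nat_lit 168, nat_lit 72, nat_lit 168, nat_lit 48, nat_lit 168, nat_lit 72, nat_lit 168, nat_lit 72, nat_lit 120, nat_lit 48])
noncomputable def r281 : WT := (.leaf (nat_lit 15365) [nat_lit 72, nat_lit 144, nat_lit 72, nat_lit 168, nat_lit 72, nat_lit 168, nat_lit 72, nat_lit 72, nat_lit 120, nat_lit 48, nat_lit 48, nat_lit 144, nat_lit 48, nat_lit 144, nat_lit 48, nat_lit 168, nat_lit 48, nat_lit 168, nat_lit 48, nat_lit 168, nat_lit 72])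
noncomputable def r282 : WT := (.leaf (nat_lit 15402) [nat_lit 72, nat_lit 144, nat_lit 72, nat_lit 144, nat_lit 72, nat_lit 168, nat_lit 72, nat_lit 168, nat_lit 72, nat_lit 72, nat_lit 96, nat_lit 48, nat_lit 48, nat_lit 144, nat_lit 48, nat_lit 144, nat_lit 48, nat_lit 168, nat_lit 48, nat_lit 168, nat_lit 48])
noncomputable def r283 : WT := (.leaf (nat_lit 17439) [nat_lit 96, nat_lit 72, nat_lit 168, nat_lit 72, nat_lit 144, nat_lit 48, nat_lit 144, nat_lit 48, nat_lit 120, nat_lit 168, nat_lit 96, nat_lit 48, nat_lit 144, nat_lit 48, nat_lit 168, nat_lit 72, nat_lit 168, nat_lit 72, nat_lit 120])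
noncomputable def r284 : WT := (.leaf (nat_lit 18450) [nat_lit 72, nat_lit 72, nat_lit 144, nat_lit 48, nat_lit 48, nat_lit 96, nat_lit 72, nat_lit 168, nat_lit 48, nat_lit 168, nat_lit 72, nat_lit 144, nat_lit 48, nat_lit 120, nat_lit 72, nat_lit 72, nat_lit 168, nat_lit 48, nat_lit 48])
noncomputable def r285 : WT := (.leaf (nat_lit 8196) [nat_lit 48, nat_lit 144, nat_lit 72, nat_lit 168, nat_lit 48, nat_lit 168, nat_lit 72, nat_lit 96, nat_lit 48, nat_lit 144, nat_lit 72, nat_lit 144, nat_lit 48, nat_lit 168, nat_lit 72, nat_lit 168, nat_lit 120, nat_lit 48, nat_lit 144, nat_lit 72, nat_lit 96])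
noncomputable def r286 : WT := (.leaf (nat_lit 15389) [nat_lit 48, nat_lit 144, nat_lit 48, nat_lit 168, nat_lit 48, nat_lit 168, nat_lit 48, nat_lit 168, nat_lit 72, nat_lit 144, nat_lit 72, nat_lit 144, nat_lit 72, nat_lit 168, nat_lit 72, nat_lit 168, nat_lit 72, nat_lit 72, nat_lit 120, nat_lit 48, nat_lit 48])
noncomputable def r287 : WT := (.node (nat_lit 47) (.node (nat_lit 45) r280 (.node (nat_lit 46) r281 r282)) (.node (nat_lit 49) (.node (nat_lit 48) r283 r284) (.node (nat_lit 50) r285 r286)))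
noncomputable def r288 : WT := (.leaf (nat_lit 14369) [nat_lit 48, nat_lit 168, nat_lit 48, nat_lit 168, nat_lit 48, nat_lit 96, nat_lit 72, nat_lit 144, nat_lit 72, nat_lit 144, nat_lit 72, nat_lit 168, nat_lit 72, nat_lit 168, nat_lit 72, nat_lit 72, nat_lit 168, nat_lit 48, nat_lit 48, nat_lit 144, nat_lit 48])
noncomputable def r289 : WT := (.leaf (nat_lit 16393) [nat_lit 72, nat_lit 144, nat_lit 48, nat_lit 144, nat_lit 48, nat_lit 120, nat_lit 72, nat_lit 168, nat_lit 72, nat_lit 168, nat_lit 48, nat_lit 168, nat_lit 72, nat_lit 168, nat_lit 72, nat_lit 120, nat_lit 48, nat_lit 144, nat_lit 48])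
noncomputable def r290 : WT := (.leaf (nat_lit 19463) [nat_lit 72, nat_lit 144, nat_lit 72, nat_lit 168, nat_lit 72, nat_lit 168, nat_lit 48, nat_lit 144, nat_lit 48, nat_lit 168, nat_lit 48, nat_lit 168, nat_lit 168, nat_lit 48, nat_lit 144, nat_lit 72, nat_lit 144])
noncomputable def r291 : WT := (.leaf (nat_lit 16397) [nat_lit 48, nat_lit 144, nat_lit 48, nat_lit 120, nat_lit 72, nat_lit 168, nat_lit 72, nat_lit 168, nat_lit 48, nat_lit 168, nat_lit 72, nat_lit 168, nat_lit 72, nat_lit 120, nat_lit 48, nat_lit 144, nat_lit 48, nat_lit 144, nat_lit 72])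
noncomputable def r292 : WT := (.leaf (nat_lit 11275) [nat_lit 48, nat_lit 168, nat_lit 48, nat_lit 144, nat_lit 72, nat_lit 168, nat_lit 48, nat_lit 168, nat_lit 72, nat_lit 144, nat_lit 72, nat_lit 168, nat_lit 72, nat_lit 72, nat_lit 144, nat_lit 48, nat_lit 96, nat_lit 72, nat_lit 168, nat_lit 48, nat_lit 48])
noncomputable def r293 : WT := (.leaf (nat_lit 11302) [nat_lit 48, nat_lit 120, nat_lit 72, nat_lit 168, nat_lit 48, nat_lit 48, nat_lit 144, nat_lit 48, nat_lit 168, nat_lit 48, nat_lit 144, nat_lit 72, nat_lit 144, nat_lit 48, nat_lit 168, nat_lit 72, nat_lit 144, nat_lit 72, nat_lit 168, nat_lit 72, nat_lit 72])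
noncomputable def r294 : WT := (.leaf (nat_lit 13346) [nat_lit 72, nat_lit 144, nat_lit 48, nat_lit 120, nat_lit 72, nat_lit 168, nat_lit 48, nat_lit 168, nat_lit 72, nat_lit 144, nat_lit 48, nat_lit 144, nat_lit 120, nat_lit 72, nat_lit 144, nat_lit 48, nat_lit 96, nat_lit 168, nat_lit 72, nat_lit 168, nat_lit 48])
noncomputable def r295 : WT := (.leaf (nat_lit 11295) [nat_lit 72, nat_lit 168, nat_lit 72, nat_lit 72, nat_lit 144, nat_lit 48, nat_lit 96, nat_lit 72, nat_lit 168, nat_lit 48, nat_lit 48, nat_lit 144, nat_lit 48, nat_lit 168, nat_lit 48, nat_lit 144, nat_lit 72, nat_lit 168, nat_lit 48, nat_lit 168, nat_lit 72])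
noncomputable def r296 : WT := (.node (nat_lit 55) (.node (nat_lit 53) (.node (nat_lit 52) r288 r289) (.node (nat_lit 54) r290 r291)) (.node (nat_lit 57) (.node (nat_lit 56) r292 r293) (.node (nat_lit 58) r294 r295)))
noncomputable def r297 : WT := (.leaf (nat_lit 11305) [nat_lit 48, nat_lit 96, nat_lit 72, nat_lit 168, nat_lit 48, nat_lit 48, nat_lit 144, nat_lit 48, nat_lit 168, nat_lit 48, nat_lit 144, nat_lit 72, nat_lit 168, nat_lit 48, nat_lit 168, nat_lit 72, nat_lit 144, nat_lit 72, nat_lit 168, nat_lit 72, nat_lit 72])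
noncomputable def r298 : WT := (.leaf (nat_lit 9240) [nat_lit 72, nat_lit 72, nat_lit 168, nat_lit 72, nat_lit 144, nat_lit 72, nat_lit 168, nat_lit 48, nat_lit 144, nat_lit 72, nat_lit 144, nat_lit 48, nat_lit 168, nat_lit 48, nat_lit 144, nat_lit 48, nat_lit 48, nat_lit 168, nat_lit 72, nat_lit 96, nat_lit 48])
noncomputable def r299 : WT := (.leaf (nat_lit 12296) [nat_lit 48, nat_lit 168, nat_lit 48, nat_lit 144, nat_lit 72, nat_lit 96, nat_lit 48, nat_lit 168, nat_lit 72, nat_lit 144, nat_lit 72, nat_lit 168, nat_lit 72, nat_lit 72, nat_lit 144, nat_lit 48, nat_lit 144, nat_lit 72, nat_lit 168, nat_lit 48, nat_lit 48])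
noncomputable def r300 : WT := (.leaf (nat_lit 13326) [nat_lit 120, nat_lit 72, nat_lit 144, nat_lit 48, nat_lit 96, nat_lit 168, nat_lit 72, nat_lit 168, nat_lit 48, nat_lit 144, nat_lit 72, nat_lit 144, nat_lit 48, nat_lit 120, nat_lit 72, nat_lit 168, nat_lit 48, nat_lit 168, nat_lit 72, nat_lit 144, nat_lit 48])
noncomputable def r301 : WT := (.leaf (nat_lit 17425) [nat_lit 48, nat_lit 168, nat_lit 72, nat_lit 168, nat_lit 72, nat_lit 120, nat_lit 144, nat_lit 96, nat_lit 72, nat_lit 168, nat_lit 72, nat_lit 144, nat_lit 48, nat_lit 144, nat_lit 48, nat_lit 120, nat_lit 168, nat_lit 96, nat_lit 48])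
noncomputable def r302 : WT := (.leaf (nat_lit 9258) [nat_lit 72, nat_lit 144, nat_lit 48, nat_lit 168, nat_lit 48, nat_lit 144, nat_lit 48, nat_lit 48, nat_lit 168, nat_lit 72, nat_lit 96, nat_lit 48, nat_lit 144, nat_lit 72, nat_lit 72, nat_lit 168, nat_lit 72, nat_lit 144, nat_lit 72, nat_lit 168, nat_lit 48])
noncomputable def r303 : WT := (.leaf (nat_lit 10260) [nat_lit 48, nat_lit 168, nat_lit 48, nat_lit 168, nat_lit 48, nat_lit 144, nat_lit 48, nat_lit 144, nat_lit 48, nat_lit 48, nat_lit 120, nat_lit 72, nat_lit 72, nat_lit 168, nat_lit 72, nat_lit 168, nat_lit 72, nat_lit 144, nat_lit 72, nat_lit 144, nat_lit 72])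
noncomputable def r304 : WT := (.leaf (nat_lit 18433) [nat_lit 72, nat_lit 144, nat_lit 48, nat_lit 120, nat_lit 72, nat_lit 72, nat_lit 168, nat_lit 48, nat_lit 48, nat_lit 168, nat_lit 72, nat_lit 72, nat_lit 144, nat_lit 48, nat_lit 48, nat_lit 96, nat_lit 72, nat_lit 168, nat_lit 48])
noncomputable def r305 : WT := (.leaf (nat_lit 18459) [nat_lit 48, nat_lit 48, nat_lit 96, nat_lit 72, nat_lit 168, nat_lit 48, nat_lit 144, nat_lit 72, nat_lit 144, nat_lit 48, nat_lit 120, nat_lit 72, nat_lit 72, nat_lit 168, nat_lit 48, nat_lit 48, nat_lit 168, nat_lit 72, nat_lit 72])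
noncomputable def r306 : WT := (.node (nat_lit 63) (.node (nat_lit 61) (.node (nat_lit 60) r297 r298) (.node (nat_lit 62) r299 r300)) (.node (nat_lit 65) (.node (nat_lit 64) r301 r302) (.node (nat_lit 66) r303 (.node (nat_lit 67) r304 r305))))
noncomputable def r307 : WT := (.leaf (nat_lit 13353) [nat_lit 48, nat_lit 96, nat_lit 72, nat_lit 168, nat_lit 48, nat_lit 168, nat_lit 72, nat_lit 144, nat_lit 48, nat_lit 144, nat_lit 120, nat_lit 72, nat_lit 168, nat_lit 48, nat_lit 96, nat_lit 168, nat_lit 72, nat_lit 168, nat_lit 48, nat_lit 144, nat_lit 72])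
noncomputable def r308 : WT := (.leaf (nat_lit 15369) [nat_lit 72, nat_lit 168, nat_lit 72, nat_lit 168, nat_lit 72, nat_lit 72, nat_lit 120, nat_lit 48, nat_lit 48, nat_lit 144, nat_lit 48, nat_lit 144, nat_lit 48, nat_lit 168, nat_lit 48, nat_lit 168, nat_lit 48, nat_lit 168, nat_lit 72, nat_lit 144, nat_lit 72])
noncomputable def r309 : WT := (.leaf (nat_lit 13325) [nat_lit 48, nat_lit 144, nat_lit 120, nat_lit 72, nat_lit 168, nat_lit 48, nat_lit 96, nat_lit 168, nat_lit 72, nat_lit 168, nat_lit 48, nat_lit 144, nat_lit 72, nat_lit 144, nat_lit 48, nat_lit 96, nat_lit 72, nat_lit 168, nat_lit 48, nat_lit 168, nat_lit 72])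
noncomputable def r310 : WT := (.leaf (nat_lit 14345) [nat_lit 72, nat_lit 168, nat_lit 72, nat_lit 168, nat_lit 72, nat_lit 72, nat_lit 168, nat_lit 48, nat_lit 48, nat_lit 144, nat_lit 48, nat_lit 144, nat_lit 48, nat_lit 168, nat_lit 48, nat_lit 168, nat_lit 48, nat_lit 96, nat_lit 72, nat_lit 144, nat_lit 72])
noncomputable def r311 : WT := (.leaf (nat_lit 14338) [nat_lit 72, nat_lit 144, nat_lit 72, nat_lit 168, nat_lit 72, nat_lit 168, nat_lit 72, nat_lit 72, nat_lit 144, nat_lit 48, nat_lit 48, nat_lit 144, nat_lit 48, nat_lit 144, nat_lit 48, nat_lit 168, nat_lit 48, nat_lit 168, nat_lit 48, nat_lit 120, nat_lit 72])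
noncomputable def r312 : WT := (.leaf (nat_lit 14362) [nat_lit 48, nat_lit 144, nat_lit 48, nat_lit 168, nat_lit 48, nat_lit 168, nat_lit 48, nat_lit 120, nat_lit 72, nat_lit 144, nat_lit 72, nat_lit 144, nat_lit 72, nat_lit 168, nat_lit 72, nat_lit 168, nat_lit 72, nat_lit 72, nat_lit 144, nat_lit 48, nat_lit 48])
noncomputable def r313 : WT := (.leaf (nat_lit 15390) [nat_lit 48, nat_lit 168, nat_lit 48, nat_lit 168, nat_lit 48, nat_lit 144, nat_lit 72, nat_lit 144, nat_lit 72, nat_lit 144, nat_lit 72, nat_lit 168, nat_lit 72, nat_lit 168, nat_lit 72, nat_lit 72, nat_lit 96, nat_lit 48, nat_lit 48, nat_lit 144, nat_lit 48])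
noncomputable def r314 : WT := (.leaf (nat_lit 15393) [nat_lit 48, nat_lit 168, nat_lit 48, nat_lit 168, nat_lit 48, nat_lit 168, nat_lit 72, nat_lit 144, nat_lit 72, nat_lit 144, nat_lit 72, nat_lit 168, nat_lit 72, nat_lit 168, nat_lit 72, nat_lit 72, nat_lit 120, nat_lit 48, nat_lit 48, nat_lit 144, nat_lit 48])
noncomputable def r315 : WT := (.leaf (nat_lit 14365) [nat_lit 48, nat_lit 144, nat_lit 48, nat_lit 168, nat_lit 48, nat_lit 168, nat_lit 48, nat_lit 96, nat_lit 72, nat_lit 144, nat_lit 72, nat_lit 144, nat_lit 72, nat_lit 168, nat_lit 72, nat_lit 168, nat_lit 72, nat_lit 72, nat_lit 168, nat_lit 48, nat_lit 48])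
noncomputable def r316 : WT := (.leaf (nat_lit 12330) [nat_lit 72, nat_lit 168, nat_lit 48, nat_lit 48, nat_lit 144, nat_lit 48, nat_lit 168, nat_lit 48, nat_lit 144, nat_lit 72, nat_lit 96, nat_lit 48, nat_lit 168, nat_lit 72, nat_lit 144, nat_lit 72, nat_lit 168, nat_lit 72, nat_lit 72, nat_lit 144, nat_lit 48])
noncomputable def r317 : WT := (.leaf (nat_lit 16401) [nat_lit 48, nat_lit 120, nat_lit 72, nat_lit 168, nat_lit 72, nat_lit 168, nat_lit 48, nat_lit 168, nat_lit 72, nat_lit 168, nat_lit 72, nat_lit 120, nat_lit 48, nat_lit 144, nat_lit 48, nat_lit 144, nat_lit 72, nat_lit 144, nat_lit 48])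
noncomputable def r318 : WT := (.leaf (nat_lit 8203) [nat_lit 72, nat_lit 168, nat_lit 48, nat_lit 168, nat_lit 72, nat_lit 120, nat_lit 48, nat_lit 144, nat_lit 72, nat_lit 144, nat_lit 48, nat_lit 168, nat_lit 72, nat_lit 168, nat_lit 120, nat_lit 48, nat_lit 168, nat_lit 72, nat_lit 96, nat_lit 144, nat_lit 48])
noncomputable def r319 : WT := (.leaf (nat_lit 9229) [nat_lit 48, nat_lit 48, nat_lit 168, nat_lit 72, nat_lit 120, nat_lit 48, nat_lit 144, nat_lit 72, nat_lit 72, nat_lit 168, nat_lit 72, nat_lit 144, nat_lit 72, nat_lit 168, nat_lit 48, nat_lit 168, nat_lit 72, nat_lit 144, nat_lit 48, nat_lit 168, nat_lit 48])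
noncomputable def r320 : WT := (.leaf (nat_lit 10259) [nat_lit 72, nat_lit 168, nat_lit 48, nat_lit 168, nat_lit 48, nat_lit 168, nat_lit 48, nat_lit 144, nat_lit 48, nat_lit 144, nat_lit 48, nat_lit 48, nat_lit 96, nat_lit 72, nat_lit 72, nat_lit 168, nat_lit 72, nat_lit 168, nat_lit 72, nat_lit 144, nat_lit 72])
noncomputable def r321 : WT := (.node (nat_lit 75) (.node (nat_lit 71) (.node (nat_lit 69) r307 (.node (nat_lit 70) r308 r309)) (.node (nat_lit 73) (.node (nat_lit 72) r310 r311) (.node (nat_lit 74) r312 r313))) (.node (nat_lit 78) (.node (nat_lit 76) r314 (.node (nat_lit 77) r315 r316)) (.node (nat_lit 80) (.node (nat_lit 79) r317 r318) (.node (nat_lit 81) r319 r320))))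
noncomputable def r322 : WT := (.leaf (nat_lit 10275) [nat_lit 48, nat_lit 144, nat_lit 48, nat_lit 48, nat_lit 96, nat_lit 72, nat_lit 72, nat_lit 168, nat_lit 72, nat_lit 168, nat_lit 72, nat_lit 144, nat_lit 72, nat_lit 144, nat_lit 72, nat_lit 168, nat_lit 48, nat_lit 168, nat_lit 48, nat_lit 168, nat_lit 48])
noncomputable def r323 : WT := (.leaf (nat_lit 10279) [nat_lit 48, nat_lit 48, nat_lit 96, nat_lit 72, nat_lit 72, nat_lit 168, nat_lit 72, nat_lit 168, nat_lit 72, nat_lit 144, nat_lit 72, nat_lit 144, nat_lit 72, nat_lit 168, nat_lit 48, nat_lit 168, nat_lit 48, nat_lit 168, nat_lit 48, nat_lit 144, nat_lit 48])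
noncomputable def r324 : WT := (.leaf (nat_lit 12307) [nat_lit 72, nat_lit 120, nat_lit 48, nat_lit 168, nat_lit 72, nat_lit 144, nat_lit 72, nat_lit 168, nat_lit 72, nat_lit 72, nat_lit 144, nat_lit 48, nat_lit 168, nat_lit 72, nat_lit 168, nat_lit 48, nat_lit 48, nat_lit 144, nat_lit 48, nat_lit 168, nat_lit 48])
noncomputable def r325 : WT := (.leaf (nat_lit 11283) [nat_lit 72, nat_lit 168, nat_lit 48, nat_lit 168, nat_lit 72, nat_lit 144, nat_lit 72, nat_lit 168, nat_lit 72, nat_lit 72, nat_lit 144, nat_lit 48, nat_lit 96, nat_lit 72, nat_lit 168, nat_lit 48, nat_lit 48, nat_lit 144, nat_lit 48, nat_lit 168, nat_lit 48])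
noncomputable def r326 : WT := (.leaf (nat_lit 11272) [nat_lit 48, nat_lit 168, nat_lit 48, nat_lit 144, nat_lit 72, nat_lit 144, nat_lit 48, nat_lit 168, nat_lit 72, nat_lit 144, nat_lit 72, nat_lit 168, nat_lit 72, nat_lit 72, nat_lit 144, nat_lit 48, nat_lit 120, nat_lit 72, nat_lit 168, nat_lit 48, nat_lit 48])
noncomputable def r327 : WT := (.leaf (nat_lit 9218) [nat_lit 48, nat_lit 168, nat_lit 48, nat_lit 144, nat_lit 48, nat_lit 48, nat_lit 168, nat_lit 72, nat_lit 96, nat_lit 48, nat_lit 144, nat_lit 72, nat_lit 72, nat_lit 168, nat_lit 72, nat_lit 144, nat_lit 72, nat_lit 168, nat_lit 48, nat_lit 144, nat_lit 72])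
noncomputable def r328 : WT := (.leaf (nat_lit 17410) [nat_lit 48, nat_lit 120, nat_lit 168, nat_lit 96, nat_lit 48, nat_lit 144, nat_lit 48, nat_lit 144, nat_lit 72, nat_lit 168, nat_lit 72, nat_lit 120, nat_lit 144, nat_lit 96, nat_lit 72, nat_lit 168, nat_lit 72, nat_lit 168, nat_lit 48])
noncomputable def r329 : WT := (.leaf (nat_lit 17426) [nat_lit 72, nat_lit 168, nat_lit 72, nat_lit 120, nat_lit 144, nat_lit 96, nat_lit 72, nat_lit 168, nat_lit 72, nat_lit 168, nat_lit 48, nat_lit 144, nat_lit 48, nat_lit 120, nat_lit 168, nat_lit 96, nat_lit 48, nat_lit 144, nat_lit 48])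
noncomputable def r330 : WT := (.node (nat_lit 89) r328 r329)
noncomputable def r331 : WT := (.leaf (nat_lit 17409) [nat_lit 48, nat_lit 144, nat_lit 48, nat_lit 120, nat_lit 168, nat_lit 96, nat_lit 48, nat_lit 144, nat_lit 48, nat_lit 168, nat_lit 72, nat_lit 168, nat_lit 72, nat_lit 120, nat_lit 144, nat_lit 96, nat_lit 72, nat_lit 168, nat_lit 72])
noncomputable def r332 : WT := (.leaf (nat_lit 17413) [nat_lit 48, nat_lit 120, nat_lit 168, nat_lit 96, nat_lit 48, nat_lit 144, nat_lit 48, nat_lit 168, nat_lit 72, nat_lit 168, nat_lit 72, nat_lit 120, nat_lit 144, nat_lit 96, nat_lit 72, nat_lit 168, nat_lit 72, nat_lit 144, nat_lit 48])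
noncomputable def r333 : WT := (.leaf (nat_lit 8200) [nat_lit 72, nat_lit 168, nat_lit 48, nat_lit 168, nat_lit 72, nat_lit 96, nat_lit 48, nat_lit 144, nat_lit 72, nat_lit 144, nat_lit 48, nat_lit 168, nat_lit 72, nat_lit 168, nat_lit 120, nat_lit 48, nat_lit 144, nat_lit 72, nat_lit 96, nat_lit 144, nat_lit 48])
noncomputable def r334 : WT := (.node (nat_lit 92) r332 r333)
noncomputable def r335 : WT := (.leaf (nat_lit 8216) [nat_lit 72, nat_lit 144, nat_lit 48, nat_lit 168, nat_lit 72, nat_lit 168, nat_lit 120, nat_lit 48, nat_lit 144, nat_lit 72, nat_lit 96, nat_lit 144, nat_lit 48, nat_lit 144, nat_lit 72, nat_lit 168, nat_lit 48, nat_lit 168, nat_lit 72, nat_lit 96, nat_lit 48])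
noncomputable def r336 : WT := (.leaf (nat_lit 13322) [nat_lit 48, nat_lit 144, nat_lit 120, nat_lit 72, nat_lit 144, nat_lit 48, nat_lit 96, nat_lit 168, nat_lit 72, nat_lit 168, nat_lit 48, nat_lit 144, nat_lit 72, nat_lit 144, nat_lit 48, nat_lit 120, nat_lit 72, nat_lit 168, nat_lit 48, nat_lit 168, nat_lit 72])
noncomputable def r337 : WT := (.leaf (nat_lit 8223) [nat_lit 48, nat_lit 168, nat_lit 72, nat_lit 168, nat_lit 120, nat_lit 48, nat_lit 168, nat_lit 72, nat_lit 96, nat_lit 144, nat_lit 48, nat_lit 144, nat_lit 72, nat_lit 168, nat_lit 48, nat_lit 168, nat_lit 72, nat_lit 120, nat_lit 48, nat_lit 144, nat_lit 72])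
noncomputable def r338 : WT := (.node (nat_lit 95) r336 r337)
noncomputable def r339 : WT := (.leaf (nat_lit 9221) [nat_lit 48, nat_lit 168, nat_lit 48, nat_lit 144, nat_lit 48, nat_lit 48, nat_lit 168, nat_lit 72, nat_lit 120, nat_lit 48, nat_lit 144, nat_lit 72, nat_lit 72, nat_lit 168, nat_lit 72, nat_lit 144, nat_lit 72, nat_lit 168, nat_lit 48, nat_lit 168, nat_lit 72])
noncomputable def r340 : WT := (.leaf (nat_lit 12304) [nat_lit 72, nat_lit 96, nat_lit 48, nat_lit 168, nat_lit 72, nat_lit 144, nat_lit 72, nat_lit 168, nat_lit 72, nat_lit 72, nat_lit 144, nat_lit 48, nat_lit 144, nat_lit 72, nat_lit 168, nat_lit 48, nat_lit 48, nat_lit 144, nat_lit 48, nat_lit 168, nat_lit 48])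
noncomputable def r341 : WT := (.leaf (nat_lit 19460) [nat_lit 72, nat_lit 144, nat_lit 72, nat_lit 168, nat_lit 72, nat_lit 144, nat_lit 48, nat_lit 144, nat_lit 48, nat_lit 168, nat_lit 48, nat_lit 168, nat_lit 168, nat_lit 48, nat_lit 168, nat_lit 72, nat_lit 144])
noncomputable def r342 : WT := (.node (nat_lit 98) r340 r341)
noncomputable def r343 : WT := (.leaf (nat_lit 9253) [nat_lit 72, nat_lit 168, nat_lit 48, nat_lit 168, nat_lit 72, nat_lit 144, nat_lit 48, nat_lit 168, nat_lit 48, nat_lit 144, nat_lit 48, nat_lit 48, nat_lit 168, nat_lit 72, nat_lit 120, nat_lit 48, nat_lit 144, nat_lit 72, nat_lit 72, nat_lit 168, nat_lit 72])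
noncomputable def r344 : WT := (.leaf (nat_lit 11292) [nat_lit 72, nat_lit 168, nat_lit 72, nat_lit 72, nat_lit 144, nat_lit 48, nat_lit 120, nat_lit 72, nat_lit 168, nat_lit 48, nat_lit 48, nat_lit 144, nat_lit 48, nat_lit 168, nat_lit 48, nat_lit 144, nat_lit 72, nat_lit 144, nat_lit 48, nat_lit 168, nat_lit 72])
noncomputable def r345 : WT := (.node (nat_lit 100) r343 r344)
noncomputable def r346 : WT := (.leaf (nat_lit 13349) [nat_lit 72, nat_lit 144, nat_lit 48, nat_lit 96, nat_lit 72, nat_lit 168, nat_lit 48, nat_lit 168, nat_lit 72, nat_lit 144, nat_lit 48, nat_lit 144, nat_lit 120, nat_lit 72, nat_lit 168, nat_lit 48, nat_lit 96, nat_lit 168, nat_lit 72, nat_lit 168, nat_lit 48])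
noncomputable def r347 : WT := (.leaf (nat_lit 11280) [nat_lit 72, nat_lit 144, nat_lit 48, nat_lit 168, nat_lit 72, nat_lit 144, nat_lit 72, nat_lit 168, nat_lit 72, nat_lit 72, nat_lit 144, nat_lit 48, nat_lit 120, nat_lit 72, nat_lit 168, nat_lit 48, nat_lit 48, nat_lit 144, nat_lit 48, nat_lit 168, nat_lit 48])
noncomputable def r348 : WT := (.node (nat_lit 102) r346 r347)
noncomputable def r349 : WT := (.node (nat_lit 90) (.node (nat_lit 85) (.node (nat_lit 83) r322 (.node (nat_lit 84) r323 r324)) (.node (nat_lit 87) (.node (nat_lit 86) r325 r326) (.node (nat_lit 88) r327 r330))) (.node (nat_lit 96) (.node (nat_lit 93) (.node (nat_lit 91) r331 r334) (.node (nat_lit 94) r335 r338)) (.node (nat_lit 99) (.node (nat_lit 97) r339 r342) (.node (nat_lit 101) r345 r348))))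
noncomputable def r350 : WT := (.node (nat_lit 26) (.node (nat_lit 12) (.node (nat_lit 9) (.node (nat_lit 8) r235 r236) (.node (nat_lit 10) r237 r240)) (.node (nat_lit 17) (.node (nat_lit 14) r243 r247) (.node (nat_lit 21) r252 r258))) (.node (nat_lit 51) (.node (nat_lit 38) (.node (nat_lit 32) r265 r272) (.node (nat_lit 44) r279 r287)) (.node (nat_lit 68) (.node (nat_lit 59) r296 r306) (.node (nat_lit 82) r321 r349))))
noncomputable def w4 : WT := (.node (nat_lit 1) (.leaf (nat_lit 2048) [nat_lit 168]) (.node (nat_lit 2) (.leaf (nat_lit 7169) [nat_lit 96, nat_lit 168, nat_lit 120]) (.node (nat_lit 3) (.leaf (nat_lit 5120) [nat_lit 144, nat_lit 144]) (.node (nat_lit 7) r234 r350))))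
noncomputable def r351 : WT := (.leaf (nat_lit 19480) [nat_lit 48, nat_lit 168, nat_lit 168, nat_lit 48, nat_lit 168, nat_lit 72, nat_lit 144, nat_lit 144, nat_lit 72, nat_lit 144, nat_lit 72, nat_lit 168, nat_lit 72, nat_lit 144, nat_lit 48, nat_lit 144, nat_lit 48])
noncomputable def r352 : WT := (.node (nat_lit 4) (.leaf (nat_lit 7173) [nat_lit 120, nat_lit 144, nat_lit 96]) r351)
noncomputable def r353 : WT := (.leaf (nat_lit 19468) [nat_lit 72, nat_lit 144, nat_lit 48, nat_lit 144, nat_lit 48, nat_lit 168, nat_lit 48, nat_lit 168, nat_lit 168, nat_lit 48, nat_lit 168, nat_lit 72, nat_lit 144, nat_lit 144, nat_lit 72, nat_lit 144, nat_lit 72])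
noncomputable def r354 : WT := (.leaf (nat_lit 19484) [nat_lit 168, nat_lit 48, nat_lit 168, nat_lit 72, nat_lit 144, nat_lit 144, nat_lit 72, nat_lit 144, nat_lit 72, nat_lit 168, nat_lit 72, nat_lit 144, nat_lit 48, nat_lit 144, nat_lit 48, nat_lit 168, nat_lit 48])
noncomputable def r355 : WT := (.leaf (nat_lit 19475) [nat_lit 48, nat_lit 144, nat_lit 48, nat_lit 168, nat_lit 48, nat_lit 168, nat_lit 168, nat_lit 48, nat_lit 144, nat_lit 72, nat_lit 144, nat_lit 144, nat_lit 72, nat_lit 144, nat_lit 72, nat_lit 168, nat_lit 72])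
noncomputable def r356 : WT := (.leaf (nat_lit 19471) [nat_lit 72, nat_lit 168, nat_lit 48, nat_lit 144, nat_lit 48, nat_lit 168, nat_lit 48, nat_lit 168, nat_lit 168, nat_lit 48, nat_lit 144, nat_lit 72, nat_lit 144, nat_lit 144, nat_lit 72, nat_lit 144, nat_lit 72])
noncomputable def r357 : WT := (.leaf (nat_lit 19483) [nat_lit 48, nat_lit 168, nat_lit 168, nat_lit 48, nat_lit 144, nat_lit 72, nat_lit 144, nat_lit 144, nat_lit 72, nat_lit 144, nat_lit 72, nat_lit 168, nat_lit 72, nat_lit 168, nat_lit 48, nat_lit 144, nat_lit 48])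
noncomputable def r358 : WT := (.leaf (nat_lit 19490) [nat_lit 72, nat_lit 144, nat_lit 144, nat_lit 72, nat_lit 144, nat_lit 72, nat_lit 168, nat_lit 72, nat_lit 144, nat_lit 48, nat_lit 144, nat_lit 48, nat_lit 168, nat_lit 48, nat_lit 168, nat_lit 168, nat_lit 48])
noncomputable def r359 : WT := (.leaf (nat_lit 16418) [nat_lit 72, nat_lit 96, nat_lit 48, nat_lit 144, nat_lit 48, nat_lit 144, nat_lit 72, nat_lit 144, nat_lit 48, nat_lit 144, nat_lit 48, nat_lit 96, nat_lit 72, nat_lit 168, nat_lit 72, nat_lit 168, nat_lit 48, nat_lit 168, nat_lit 72])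
noncomputable def r360 : WT := (.leaf (nat_lit 16414) [nat_lit 72, nat_lit 168, nat_lit 72, nat_lit 96, nat_lit 48, nat_lit 144, nat_lit 48, nat_lit 144, nat_lit 72, nat_lit 144, nat_lit 48, nat_lit 144, nat_lit 48, nat_lit 96, nat_lit 72, nat_lit 168, nat_lit 72, nat_lit 168, nat_lit 48])
noncomputable def r361 : WT := (.leaf (nat_lit 16410) [nat_lit 48, nat_lit 168, nat_lit 72, nat_lit 168, nat_lit 72, nat_lit 96, nat_lit 48, nat_lit 144, nat_lit 48, nat_lit 144, nat_lit 72, nat_lit 144, nat_lit 48, nat_lit 144, nat_lit 48, nat_lit 96, nat_lit 72, nat_lit 168, nat_lit 72])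
noncomputable def r362 : WT := (.leaf (nat_lit 16406) [nat_lit 72, nat_lit 168, nat_lit 48, nat_lit 168, nat_lit 72, nat_lit 168, nat_lit 72, nat_lit 96, nat_lit 48, nat_lit 144, nat_lit 48, nat_lit 144, nat_lit 72, nat_lit 144, nat_lit 48, nat_lit 144, nat_lit 48, nat_lit 96, nat_lit 72])
noncomputable def r363 : WT := (.node (nat_lit 14) r361 r362)
noncomputable def r364 : WT := (.node (nat_lit 7) (.node (nat_lit 6) r353 r354) (.node (nat_lit 10) (.node (nat_lit 8) r355 (.node (nat_lit 9) r356 r357)) (.node (nat_lit 12) (.node (nat_lit 11) r358 r359) (.node (nat_lit 13) r360 r363))))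
noncomputable def r365 : WT := (.leaf (nat_lit 17429) [nat_lit 72, nat_lit 168, nat_lit 72, nat_lit 120, nat_lit 144, nat_lit 96, nat_lit 72, nat_lit 168, nat_lit 72, nat_lit 144, nat_lit 48, nat_lit 144, nat_lit 48, nat_lit 120, nat_lit 168, nat_lit 96, nat_lit 48, nat_lit 144, nat_lit 48])
noncomputable def r366 : WT := (.leaf (nat_lit 16421) [nat_lit 72, nat_lit 120, nat_lit 48, nat_lit 144, nat_lit 48, nat_lit 144, nat_lit 72, nat_lit 144, nat_lit 48, nat_lit 144, nat_lit 48, nat_lit 120, nat_lit 72, nat_lit 168, nat_lit 72, nat_lit 168, nat_lit 48, nat_lit 168, nat_lit 72])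
noncomputable def r367 : WT := (.node (nat_lit 16) r365 r366)
noncomputable def r368 : WT := (.leaf (nat_lit 17430) [nat_lit 72, nat_lit 120, nat_lit 144, nat_lit 96, nat_lit 72, nat_lit 168, nat_lit 72, nat_lit 168, nat_lit 48, nat_lit 144, nat_lit 48, nat_lit 120, nat_lit 168, nat_lit 96, nat_lit 48, nat_lit 144, nat_lit 48, nat_lit 144, nat_lit 72])
noncomputable def r369 : WT := (.leaf (nat_lit 19487) [nat_lit 168, nat_lit 48, nat_lit 144, nat_lit 72, nat_lit 144, nat_lit 144, nat_lit 72, nat_lit 144, nat_lit 72, nat_lit 168, nat_lit 72, nat_lit 168, nat_lit 48, nat_lit 144, nat_lit 48, nat_lit 168, nat_lit 48])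
noncomputable def r370 : WT := (.node (nat_lit 18) r368 r369)
noncomputable def r371 : WT := (.leaf (nat_lit 10271) [nat_lit 48, nat_lit 144, nat_lit 48, nat_lit 144, nat_lit 48, nat_lit 48, nat_lit 96, nat_lit 72, nat_lit 72, nat_lit 168, nat_lit 72, nat_lit 168, nat_lit 72, nat_lit 144, nat_lit 72, nat_lit 144, nat_lit 72, nat_lit 168, nat_lit 48, nat_lit 168, nat_lit 48])
noncomputable def r372 : WT := (.leaf (nat_lit 15377) [nat_lit 72, nat_lit 72, nat_lit 120, nat_lit 48, nat_lit 48, nat_lit 144, nat_lit 48, nat_lit 144, nat_lit 48, nat_lit 168, nat_lit 48, nat_lit 168, nat_lit 48, nat_lit 168, nat_lit 72, nat_lit 144, nat_lit 72, nat_lit 144, nat_lit 72, nat_lit 168, nat_lit 72])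
noncomputable def r373 : WT := (.leaf (nat_lit 18453) [nat_lit 72, nat_lit 72, nat_lit 144, nat_lit 48, nat_lit 48, nat_lit 96, nat_lit 72, nat_lit 168, nat_lit 48, nat_lit 144, nat_lit 72, nat_lit 144, nat_lit 48, nat_lit 120, nat_lit 72, nat_lit 72, nat_lit 168, nat_lit 48, nat_lit 48])
noncomputable def r374 : WT := (.node (nat_lit 20) r371 (.node (nat_lit 21) r372 r373))
noncomputable def r375 : WT := (.leaf (nat_lit 9235) [nat_lit 72, nat_lit 120, nat_lit 48, nat_lit 144, nat_lit 72, nat_lit 72, nat_lit 168, nat_lit 72, nat_lit 144, nat_lit 72, nat_lit 168, nat_lit 48, nat_lit 168, nat_lit 72, nat_lit 144, nat_lit 48, nat_lit 168, nat_lit 48, nat_lit 144, nat_lit 48, nat_lit 48])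
noncomputable def r376 : WT := (.leaf (nat_lit 14350) [nat_lit 72, nat_lit 72, nat_lit 144, nat_lit 48, nat_lit 48, nat_lit 144, nat_lit 48, nat_lit 144, nat_lit 48, nat_lit 168, nat_lit 48, nat_lit 168, nat_lit 48, nat_lit 120, nat_lit 72, nat_lit 144, nat_lit 72, nat_lit 144, nat_lit 72, nat_lit 168, nat_lit 72])
noncomputable def r377 : WT := (.leaf (nat_lit 13335) [nat_lit 48, nat_lit 96, nat_lit 168, nat_lit 72, nat_lit 168, nat_lit 48, nat_lit 144, nat_lit 72, nat_lit 144, nat_lit 48, nat_lit 96, nat_lit 72, nat_lit 168, nat_lit 48, nat_lit 168, nat_lit 72, nat_lit 144, nat_lit 48, nat_lit 144, nat_lit 120, nat_lit 72])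
noncomputable def r378 : WT := (.node (nat_lit 23) r375 (.node (nat_lit 24) r376 r377))
noncomputable def r379 : WT := (.leaf (nat_lit 13338) [nat_lit 72, nat_lit 168, nat_lit 48, nat_lit 144, nat_lit 72, nat_lit 144, nat_lit 48, nat_lit 120, nat_lit 72, nat_lit 168, nat_lit 48, nat_lit 168, nat_lit 72, nat_lit 144, nat_lit 48, nat_lit 144, nat_lit 120, nat_lit 72, nat_lit 144, nat_lit 48, nat_lit 96])
noncomputable def r380 : WT := (.leaf (nat_lit 9249) [nat_lit 72, nat_lit 144, nat_lit 72, nat_lit 168, nat_lit 48, nat_lit 168, nat_lit 72, nat_lit 144, nat_lit 48, nat_lit 168, nat_lit 48, nat_lit 144, nat_lit 48, nat_lit 48, nat_lit 168, nat_lit 72, nat_lit 120, nat_lit 48, nat_lit 144, nat_lit 72, nat_lit 72])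
noncomputable def r381 : WT := (.leaf (nat_lit 9225) [nat_lit 48, nat_lit 144, nat_lit 48, nat_lit 48, nat_lit 168, nat_lit 72, nat_lit 120, nat_lit 48, nat_lit 144, nat_lit 72, nat_lit 72, nat_lit 168, nat_lit 72, nat_lit 144, nat_lit 72, nat_lit 168, nat_lit 48, nat_lit 168, nat_lit 72, nat_lit 144, nat_lit 48])
noncomputable def r382 : WT := (.node (nat_lit 26) r379 (.node (nat_lit 27) r380 r381))
noncomputable def r383 : WT := (.leaf (nat_lit 9254) [nat_lit 48, nat_lit 144, nat_lit 72, nat_lit 144, nat_lit 48, nat_lit 168, nat_lit 48, nat_lit 144, nat_lit 48, nat_lit 48, nat_lit 168, nat_lit 72, nat_lit 96, nat_lit 48, nat_lit 144, nat_lit 72, nat_lit 72, nat_lit 168, nat_lit 72, nat_lit 144, nat_lit 72])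
noncomputable def r384 : WT := (.leaf (nat_lit 8193) [nat_lit 72, nat_lit 96, nat_lit 144, nat_lit 48, nat_lit 144, nat_lit 72, nat_lit 168, nat_lit 48, nat_lit 168, nat_lit 72, nat_lit 120, nat_lit 48, nat_lit 144, nat_lit 72, nat_lit 144, nat_lit 48, nat_lit 168, nat_lit 72, nat_lit 168, nat_lit 120, nat_lit 48])
noncomputable def r385 : WT := (.leaf (nat_lit 18444) [nat_lit 48, nat_lit 48, nat_lit 144, nat_lit 72, nat_lit 72, nat_lit 144, nat_lit 48, nat_lit 48, nat_lit 96, nat_lit 72, nat_lit 168, nat_lit 48, nat_lit 168, nat_lit 72, nat_lit 144, nat_lit 48, nat_lit 120, nat_lit 72, nat_lit 72])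
noncomputable def r386 : WT := (.node (nat_lit 29) r383 (.node (nat_lit 30) r384 r385))
noncomputable def r387 : WT := (.leaf (nat_lit 17416) [nat_lit 96, nat_lit 48, nat_lit 144, nat_lit 48, nat_lit 144, nat_lit 72, nat_lit 168, nat_lit 72, nat_lit 120, nat_lit 144, nat_lit 96, nat_lit 72, nat_lit 168, nat_lit 72, nat_lit 168, nat_lit 48, nat_lit 144, nat_lit 48, nat_lit 120])
noncomputable def r388 : WT := (.leaf (nat_lit 19486) [nat_lit 48, nat_lit 168, nat_lit 72, nat_lit 144, nat_lit 144, nat_lit 72, nat_lit 144, nat_lit 72, nat_lit 168, nat_lit 72, nat_lit 144, nat_lit 48, nat_lit 144, nat_lit 48, nat_lit 168, nat_lit 48, nat_lit 168])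
noncomputable def r389 : WT := (.leaf (nat_lit 11299) [nat_lit 72, nat_lit 72, nat_lit 144, nat_lit 48, nat_lit 96, nat_lit 72, nat_lit 168, nat_lit 48, nat_lit 48, nat_lit 144, nat_lit 48, nat_lit 168, nat_lit 48, nat_lit 144, nat_lit 72, nat_lit 168, nat_lit 48, nat_lit 168, nat_lit 72, nat_lit 144, nat_lit 72])
noncomputable def r390 : WT := (.leaf (nat_lit 9232) [nat_lit 72, nat_lit 96, nat_lit 48, nat_lit 144, nat_lit 72, nat_lit 72, nat_lit 168, nat_lit 72, nat_lit 144, nat_lit 72, nat_lit 168, nat_lit 48, nat_lit 144, nat_lit 72, nat_lit 144, nat_lit 48, nat_lit 168, nat_lit 48, nat_lit 144, nat_lit 48, nat_lit 48])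
noncomputable def r391 : WT := (.node (nat_lit 33) (.node (nat_lit 32) r387 r388) (.node (nat_lit 34) r389 r390))
noncomputable def r392 : WT := (.leaf (nat_lit 16409) [nat_lit 72, nat_lit 168, nat_lit 48, nat_lit 168, nat_lit 72, nat_lit 168, nat_lit 72, nat_lit 120, nat_lit 48, nat_lit 144, nat_lit 48, nat_lit 144, nat_lit 72, nat_lit 144, nat_lit 48, nat_lit 144, nat_lit 48, nat_lit 120, nat_lit 72])
noncomputable def r393 : WT := (.leaf (nat_lit 15374) [nat_lit 72, nat_lit 72, nat_lit 96, nat_lit 48, nat_lit 48, nat_lit 144, nat_lit 48, nat_lit 144, nat_lit 48, nat_lit 168, nat_lit 48, nat_lit 168, nat_lit 48, nat_lit 144, nat_lit 72, nat_lit 144, nat_lit 72, nat_lit 144, nat_lit 72, nat_lit 168, nat_lit 72])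
noncomputable def r394 : WT := (.leaf (nat_lit 8211) [nat_lit 72, nat_lit 120, nat_lit 48, nat_lit 144, nat_lit 72, nat_lit 144, nat_lit 48, nat_lit 168, nat_lit 72, nat_lit 168, nat_lit 120, nat_lit 48, nat_lit 168, nat_lit 72, nat_lit 96, nat_lit 144, nat_lit 48, nat_lit 144, nat_lit 72, nat_lit 168, nat_lit 48])
noncomputable def r395 : WT := (.leaf (nat_lit 16413) [nat_lit 48, nat_lit 168, nat_lit 72, nat_lit 168, nat_lit 72, nat_lit 120, nat_lit 48, nat_lit 144, nat_lit 48, nat_lit 144, nat_lit 72, nat_lit 144, nat_lit 48, nat_lit 144, nat_lit 48, nat_lit 120, nat_lit 72, nat_lit 168, nat_lit 72])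
noncomputable def r396 : WT := (.node (nat_lit 37) (.node (nat_lit 36) r392 r393) (.node (nat_lit 38) r394 r395))
noncomputable def r397 : WT := (.leaf (nat_lit 15397) [nat_lit 48, nat_lit 168, nat_lit 48, nat_lit 168, nat_lit 72, nat_lit 144, nat_lit 72, nat_lit 144, nat_lit 72, nat_lit 168, nat_lit 72, nat_lit 168, nat_lit 72, nat_lit 72, nat_lit 120, nat_lit 48, nat_lit 48, nat_lit 144, nat_lit 48, nat_lit 144, nat_lit 48])
noncomputable def r398 : WT := (.leaf (nat_lit 18447) [nat_lit 48, nat_lit 48, nat_lit 168, nat_lit 72, nat_lit 72, nat_lit 144, nat_lit 48, nat_lit 48, nat_lit 96, nat_lit 72, nat_lit 168, nat_lit 48, nat_lit 144, nat_lit 72, nat_lit 144, nat_lit 48, nat_lit 120, nat_lit 72, nat_lit 72])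
noncomputable def r399 : WT := (.leaf (nat_lit 10251) [nat_lit 72, nat_lit 144, nat_lit 72, nat_lit 144, nat_lit 72, nat_lit 168, nat_lit 48, nat_lit 168, nat_lit 48, nat_lit 168, nat_lit 48, nat_lit 144, nat_lit 48, nat_lit 144, nat_lit 48, nat_lit 48, nat_lit 96, nat_lit 72, nat_lit 72, nat_lit 168, nat_lit 72])
noncomputable def r400 : WT := (.leaf (nat_lit 14377) [nat_lit 48, nat_lit 96, nat_lit 72, nat_lit 144, nat_lit 72, nat_lit 144, nat_lit 72, nat_lit 168, nat_lit 72, nat_lit 168, nat_lit 72, nat_lit 72, nat_lit 168, nat_lit 48, nat_lit 48, nat_lit 144, nat_lit 48, nat_lit 144, nat_lit 48, nat_lit 168, nat_lit 48])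
noncomputable def r401 : WT := (.leaf (nat_lit 10247) [nat_lit 72, nat_lit 168, nat_lit 72, nat_lit 144, nat_lit 72, nat_lit 144, nat_lit 72, nat_lit 168, nat_lit 48, nat_lit 168, nat_lit 48, nat_lit 168, nat_lit 48, nat_lit 144, nat_lit 48, nat_lit 144, nat_lit 48, nat_lit 48, nat_lit 96, nat_lit 72, nat_lit 72])
noncomputable def r402 : WT := (.node (nat_lit 41) (.node (nat_lit 40) r397 r398) (.node (nat_lit 42) r399 (.node (nat_lit 43) r400 r401)))
noncomputable def r403 : WT := (.leaf (nat_lit 10268) [nat_lit 48, nat_lit 144, nat_lit 48, nat_lit 144, nat_lit 48, nat_lit 48, nat_lit 120, nat_lit 72, nat_lit 72, nat_lit 168, nat_lit 72, nat_lit 168, nat_lit 72, nat_lit 144, nat_lit 72, nat_lit 144, nat_lit 72, nat_lit 144, nat_lit 48, nat_lit 168, nat_lit 48])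
noncomputable def r404 : WT := (.leaf (nat_lit 13321) [nat_lit 72, nat_lit 144, nat_lit 48, nat_lit 144, nat_lit 120, nat_lit 72, nat_lit 168, nat_lit 48, nat_lit 96, nat_lit 168, nat_lit 72, nat_lit 168, nat_lit 48, nat_lit 144, nat_lit 72, nat_lit 144, nat_lit 48, nat_lit 96, nat_lit 72, nat_lit 168, nat_lit 48])
noncomputable def r405 : WT := (.leaf (nat_lit 12293) [nat_lit 48, nat_lit 48, nat_lit 144, nat_lit 48, nat_lit 168, nat_lit 48, nat_lit 144, nat_lit 72, nat_lit 120, nat_lit 48, nat_lit 168, nat_lit 72, nat_lit 144, nat_lit 72, nat_lit 168, nat_lit 72, nat_lit 72, nat_lit 144, nat_lit 48, nat_lit 168, nat_lit 72])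
noncomputable def r406 : WT := (.leaf (nat_lit 12289) [nat_lit 72, nat_lit 168, nat_lit 48, nat_lit 48, nat_lit 144, nat_lit 48, nat_lit 168, nat_lit 48, nat_lit 144, nat_lit 72, nat_lit 120, nat_lit 48, nat_lit 168, nat_lit 72, nat_lit 144, nat_lit 72, nat_lit 168, nat_lit 72, nat_lit 72, nat_lit 144, nat_lit 48])
noncomputable def r407 : WT := (.leaf (nat_lit 16417) [nat_lit 72, nat_lit 168, nat_lit 72, nat_lit 120, nat_lit 48, nat_lit 144, nat_lit 48, nat_lit 144, nat_lit 72, nat_lit 144, nat_lit 48, nat_lit 144, nat_lit 48, nat_lit 120, nat_lit 72, nat_lit 168, nat_lit 72, nat_lit 168, nat_lit 48])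
noncomputable def r408 : WT := (.node (nat_lit 46) (.node (nat_lit 45) r403 r404) (.node (nat_lit 47) r405 (.node (nat_lit 48) r406 r407)))
noncomputable def r409 : WT := (.leaf (nat_lit 17419) [nat_lit 96, nat_lit 48, nat_lit 144, nat_lit 48, nat_lit 168, nat_lit 72, nat_lit 168, nat_lit 72, nat_lit 120, nat_lit 144, nat_lit 96, nat_lit 72, nat_lit 168, nat_lit 72, nat_lit 144, nat_lit 48, nat_lit 144, nat_lit 48, nat_lit 120])
noncomputable def r410 : WT := (.leaf (nat_lit 9217) [nat_lit 72, nat_lit 144, nat_lit 48, nat_lit 168, nat_lit 48, nat_lit 144, nat_lit 48, nat_lit 48, nat_lit 168, nat_lit 72, nat_lit 120, nat_lit 48, nat_lit 144, nat_lit 72, nat_lit 72, nat_lit 168, nat_lit 72, nat_lit 144, nat_lit 72, nat_lit 168, nat_lit 48])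
noncomputable def r411 : WT := (.leaf (nat_lit 9222) [nat_lit 48, nat_lit 144, nat_lit 48, nat_lit 48, nat_lit 168, nat_lit 72, nat_lit 96, nat_lit 48, nat_lit 144, nat_lit 72, nat_lit 72, nat_lit 168, nat_lit 72, nat_lit 144, nat_lit 72, nat_lit 168, nat_lit 48, nat_lit 144, nat_lit 72, nat_lit 144, nat_lit 48])
noncomputable def r412 : WT := (.leaf (nat_lit 12290) [nat_lit 48, nat_lit 48, nat_lit 144, nat_lit 48, nat_lit 168, nat_lit 48, nat_lit 144, nat_lit 72, nat_lit 96, nat_lit 48, nat_lit 168, nat_lit 72, nat_lit 144, nat_lit 72, nat_lit 168, nat_lit 72, nat_lit 72, nat_lit 144, nat_lit 48, nat_lit 144, nat_lit 72])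
noncomputable def r413 : WT := (.leaf (nat_lit 15394) [nat_lit 48, nat_lit 168, nat_lit 48, nat_lit 144, nat_lit 72, nat_lit 144, nat_lit 72, nat_lit 144, nat_lit 72, nat_lit 168, nat_lit 72, nat_lit 168, nat_lit 72, nat_lit 72, nat_lit 96, nat_lit 48, nat_lit 48, nat_lit 144, nat_lit 48, nat_lit 144, nat_lit 48])
noncomputable def r414 : WT := (.node (nat_lit 51) (.node (nat_lit 50) r409 r410) (.node (nat_lit 52) r411 (.node (nat_lit 53) r412 r413)))
noncomputable def r415 : WT := (.leaf (nat_lit 8228) [nat_lit 120, nat_lit 48, nat_lit 144, nat_lit 72, nat_lit 96, nat_lit 144, nat_lit 48, nat_lit 144, nat_lit 72, nat_lit 168, nat_lit 48, nat_lit 168, nat_lit 72, nat_lit 96, nat_lit 48, nat_lit 144, nat_lit 72, nat_lit 144, nat_lit 48, nat_lit 168, nat_lit 72])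
noncomputable def r416 : WT := (.leaf (nat_lit 8224) [nat_lit 72, nat_lit 168, nat_lit 120, nat_lit 48, nat_lit 144, nat_lit 72, nat_lit 96, nat_lit 144, nat_lit 48, nat_lit 144, nat_lit 72, nat_lit 168, nat_lit 48, nat_lit 168, nat_lit 72, nat_lit 96, nat_lit 48, nat_lit 144, nat_lit 72, nat_lit 144, nat_lit 48])
noncomputable def r417 : WT := (.leaf (nat_lit 8204) [nat_lit 48, nat_lit 168, nat_lit 72, nat_lit 96, nat_lit 48, nat_lit 144, nat_lit 72, nat_lit 144, nat_lit 48, nat_lit 168, nat_lit 72, nat_lit 168, nat_lit 120, nat_lit 48, nat_lit 144, nat_lit 72, nat_lit 96, nat_lit 144, nat_lit 48, nat_lit 144, nat_lit 72])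
noncomputable def r418 : WT := (.leaf (nat_lit 18469) [nat_lit 48, nat_lit 144, nat_lit 72, nat_lit 144, nat_lit 48, nat_lit 120, nat_lit 72, nat_lit 72, nat_lit 168, nat_lit 48, nat_lit 48, nat_lit 168, nat_lit 72, nat_lit 72, nat_lit 144, nat_lit 48, nat_lit 48, nat_lit 96, nat_lit 72])
noncomputable def r419 : WT := (.leaf (nat_lit 14359) [nat_lit 48, nat_lit 48, nat_lit 144, nat_lit 48, nat_lit 144, nat_lit 48, nat_lit 168, nat_lit 48, nat_lit 168, nat_lit 48, nat_lit 96, nat_lit 72, nat_lit 144, nat_lit 72, nat_lit 144, nat_lit 72, nat_lit 168, nat_lit 72, nat_lit 168, nat_lit 72, nat_lit 72])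
noncomputable def r420 : WT := (.node (nat_lit 56) (.node (nat_lit 55) r415 r416) (.node (nat_lit 57) r417 (.node (nat_lit 58) r418 r419)))
noncomputable def r421 : WT := (.leaf (nat_lit 13314) [nat_lit 48, nat_lit 168, nat_lit 72, nat_lit 144, nat_lit 48, nat_lit 144, nat_lit 120, nat_lit 72, nat_lit 144, nat_lit 48, nat_lit 96, nat_lit 168, nat_lit 72, nat_lit 168, nat_lit 48, nat_lit 144, nat_lit 72, nat_lit 144, nat_lit 48, nat_lit 120, nat_lit 72])
noncomputable def r422 : WT := (.leaf (nat_lit 13318) [nat_lit 72, nat_lit 144, nat_lit 48, nat_lit 144, nat_lit 120, nat_lit 72, nat_lit 144, nat_lit 48, nat_lit 96, nat_lit 168, nat_lit 72, nat_lit 168, nat_lit 48, nat_lit 144, nat_lit 72, nat_lit 144, nat_lit 48, nat_lit 120, nat_lit 72, nat_lit 168, nat_lit 48])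
noncomputable def r423 : WT := (.leaf (nat_lit 12320) [nat_lit 72, nat_lit 72, nat_lit 144, nat_lit 48, nat_lit 144, nat_lit 72, nat_lit 168, nat_lit 48, nat_lit 48, nat_lit 144, nat_lit 48, nat_lit 168, nat_lit 48, nat_lit 144, nat_lit 72, nat_lit 96, nat_lit 48, nat_lit 168, nat_lit 72, nat_lit 144, nat_lit 72])
noncomputable def r424 : WT := (.leaf (nat_lit 13342) [nat_lit 48, nat_lit 144, nat_lit 72, nat_lit 144, nat_lit 48, nat_lit 120, nat_lit 72, nat_lit 168, nat_lit 48, nat_lit 168, nat_lit 72, nat_lit 144, nat_lit 48, nat_lit 144, nat_lit 120, nat_lit 72, nat_lit 144, nat_lit 48, nat_lit 96, nat_lit 168, nat_lit 72])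
noncomputable def r425 : WT := (.leaf (nat_lit 13341) [nat_lit 72, nat_lit 168, nat_lit 48, nat_lit 144, nat_lit 72, nat_lit 144, nat_lit 48, nat_lit 96, nat_lit 72, nat_lit 168, nat_lit 48, nat_lit 168, nat_lit 72, nat_lit 144, nat_lit 48, nat_lit 144, nat_lit 120, nat_lit 72, nat_lit 168, nat_lit 48, nat_lit 96])
noncomputable def r426 : WT := (.leaf (nat_lit 13345) [nat_lit 48, nat_lit 144, nat_lit 72, nat_lit 144, nat_lit 48, nat_lit 96, nat_lit 72, nat_lit 168, nat_lit 48, nat_lit 168, nat_lit 72, nat_lit 144, nat_lit 48, nat_lit 144, nat_lit 120, nat_lit 72, nat_lit 168, nat_lit 48, nat_lit 96, nat_lit 168, nat_lit 72])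
noncomputable def r427 : WT := (.leaf (nat_lit 14374) [nat_lit 48, nat_lit 120, nat_lit 72, nat_lit 144, nat_lit 72, nat_lit 144, nat_lit 72, nat_lit 168, nat_lit 72, nat_lit 168, nat_lit 72, nat_lit 72, nat_lit 144, nat_lit 48, nat_lit 48, nat_lit 144, nat_lit 48, nat_lit 144, nat_lit 48, nat_lit 168, nat_lit 48])
noncomputable def r428 : WT := (.node (nat_lit 62) (.node (nat_lit 60) r421 (.node (nat_lit 61) r422 r423)) (.node (nat_lit 64) (.node (nat_lit 63) r424 r425) (.node (nat_lit 65) r426 r427)))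
noncomputable def r429 : WT := (.leaf (nat_lit 18470) [nat_lit 72, nat_lit 144, nat_lit 48, nat_lit 120, nat_lit 72, nat_lit 72, nat_lit 168, nat_lit 48, nat_lit 48, nat_lit 144, nat_lit 72, nat_lit 72, nat_lit 144, nat_lit 48, nat_lit 48, nat_lit 96, nat_lit 72, nat_lit 168, nat_lit 48])
noncomputable def r430 : WT := (.leaf (nat_lit 14373) [nat_lit 48, nat_lit 168, nat_lit 48, nat_lit 96, nat_lit 72, nat_lit 144, nat_lit 72, nat_lit 144, nat_lit 72, nat_lit 168, nat_lit 72, nat_lit 168, nat_lit 72, nat_lit 72, nat_lit 168, nat_lit 48, nat_lit 48, nat_lit 144, nat_lit 48, nat_lit 144, nat_lit 48])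
noncomputable def r431 : WT := (.leaf (nat_lit 15370) [nat_lit 72, nat_lit 168, nat_lit 72, nat_lit 72, nat_lit 96, nat_lit 48, nat_lit 48, nat_lit 144, nat_lit 48, nat_lit 144, nat_lit 48, nat_lit 168, nat_lit 48, nat_lit 168, nat_lit 48, nat_lit 144, nat_lit 72, nat_lit 144, nat_lit 72, nat_lit 144, nat_lit 72])
noncomputable def r432 : WT := (.leaf (nat_lit 15401) [nat_lit 48, nat_lit 168, nat_lit 72, nat_lit 144, nat_lit 72, nat_lit 144, nat_lit 72, nat_lit 168, nat_lit 72, nat_lit 168, nat_lit 72, nat_lit 72, nat_lit 120, nat_lit 48, nat_lit 48, nat_lit 144, nat_lit 48, nat_lit 144, nat_lit 48, nat_lit 168, nat_lit 48])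
noncomputable def r433 : WT := (.leaf (nat_lit 18466) [nat_lit 48, nat_lit 168, nat_lit 72, nat_lit 144, nat_lit 48, nat_lit 120, nat_lit 72, nat_lit 72, nat_lit 168, nat_lit 48, nat_lit 48, nat_lit 144, nat_lit 72, nat_lit 72, nat_lit 144, nat_lit 48, nat_lit 48, nat_lit 96, nat_lit 72])
noncomputable def r434 : WT := (.leaf (nat_lit 11291) [nat_lit 72, nat_lit 144, nat_lit 72, nat_lit 168, nat_lit 72, nat_lit 72, nat_lit 144, nat_lit 48, nat_lit 96, nat_lit 72, nat_lit 168, nat_lit 48, nat_lit 48, nat_lit 144, nat_lit 48, nat_lit 168, nat_lit 48, nat_lit 144, nat_lit 72, nat_lit 168, nat_lit 48])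
noncomputable def r435 : WT := (.leaf (nat_lit 11287) [nat_lit 48, nat_lit 168, nat_lit 72, nat_lit 144, nat_lit 72, nat_lit 168, nat_lit 72, nat_lit 72, nat_lit 144, nat_lit 48, nat_lit 96, nat_lit 72, nat_lit 168, nat_lit 48, nat_lit 48, nat_lit 144, nat_lit 48, nat_lit 168, nat_lit 48, nat_lit 144, nat_lit 72])
noncomputable def r436 : WT := (.leaf (nat_lit 8208) [nat_lit 72, nat_lit 96, nat_lit 48, nat_lit 144, nat_lit 72, nat_lit 144, nat_lit 48, nat_lit 168, nat_lit 72, nat_lit 168, nat_lit 120, nat_lit 48, nat_lit 144, nat_lit 72, nat_lit 96, nat_lit 144, nat_lit 48, nat_lit 144, nat_lit 72, nat_lit 168, nat_lit 48])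
noncomputable def r437 : WT := (.node (nat_lit 70) (.node (nat_lit 68) (.node (nat_lit 67) r429 r430) (.node (nat_lit 69) r431 r432)) (.node (nat_lit 72) (.node (nat_lit 71) r433 r434) (.node (nat_lit 73) r435 r436)))
noncomputable def r438 : WT := (.leaf (nat_lit 17446) [nat_lit 48, nat_lit 144, nat_lit 48, nat_lit 120, nat_lit 168, nat_lit 96, nat_lit 48, nat_lit 144, nat_lit 48, nat_lit 144, nat_lit 72, nat_lit 168, nat_lit 72, nat_lit 120, nat_lit 144, nat_lit 96, nat_lit 72, nat_lit 168, nat_lit 72])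
noncomputable def r439 : WT := (.leaf (nat_lit 11296) [nat_lit 72, nat_lit 72, nat_lit 144, nat_lit 48, nat_lit 120, nat_lit 72, nat_lit 168, nat_lit 48, nat_lit 48, nat_lit 144, nat_lit 48, nat_lit 168, nat_lit 48, nat_lit 144, nat_lit 72, nat_lit 144, nat_lit 48, nat_lit 168, nat_lit 72, nat_lit 144, nat_lit 72])
noncomputable def r440 : WT := (.leaf (nat_lit 17433) [nat_lit 72, nat_lit 120, nat_lit 144, nat_lit 96, nat_lit 72, nat_lit 168, nat_lit 72, nat_lit 144, nat_lit 48, nat_lit 144, nat_lit 48, nat_lit 120, nat_lit 168, nat_lit 96, nat_lit 48, nat_lit 144, nat_lit 48, nat_lit 168, nat_lit 72])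
noncomputable def r441 : WT := (.leaf (nat_lit 11266) [nat_lit 48, nat_lit 48, nat_lit 144, nat_lit 48, nat_lit 168, nat_lit 48, nat_lit 144, nat_lit 72, nat_lit 144, nat_lit 48, nat_lit 168, nat_lit 72, nat_lit 144, nat_lit 72, nat_lit 168, nat_lit 72, nat_lit 72, nat_lit 144, nat_lit 48, nat_lit 120, nat_lit 72])
noncomputable def r442 : WT := (.leaf (nat_lit 10248) [nat_lit 72, nat_lit 144, nat_lit 72, nat_lit 144, nat_lit 72, nat_lit 144, nat_lit 48, nat_lit 168, nat_lit 48, nat_lit 168, nat_lit 48, nat_lit 144, nat_lit 48, nat_lit 144, nat_lit 48, nat_lit 48, nat_lit 120, nat_lit 72, nat_lit 72, nat_lit 168, nat_lit 72])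
noncomputable def r443 : WT := (.leaf (nat_lit 17442) [nat_lit 72, nat_lit 168, nat_lit 48, nat_lit 144, nat_lit 48, nat_lit 120, nat_lit 168, nat_lit 96, nat_lit 48, nat_lit 144, nat_lit 48, nat_lit 144, nat_lit 72, nat_lit 168, nat_lit 72, nat_lit 120, nat_lit 144, nat_lit 96, nat_lit 72])
noncomputable def r444 : WT := (.leaf (nat_lit 10244) [nat_lit 72, nat_lit 168, nat_lit 72, nat_lit 144, nat_lit 72, nat_lit 144, nat_lit 72, nat_lit 144, nat_lit 48, nat_lit 168, nat_lit 48, nat_lit 168, nat_lit 48, nat_lit 144, nat_lit 48, nat_lit 144, nat_lit 48, nat_lit 48, nat_lit 120, nat_lit 72, nat_lit 72])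
noncomputable def r445 : WT := (.leaf (nat_lit 8231) [nat_lit 120, nat_lit 48, nat_lit 168, nat_lit 72, nat_lit 96, nat_lit 144, nat_lit 48, nat_lit 144, nat_lit 72, nat_lit 168, nat_lit 48, nat_lit 168, nat_lit 72, nat_lit 120, nat_lit 48, nat_lit 144, nat_lit 72, nat_lit 144, nat_lit 48, nat_lit 168, nat_lit 72])
noncomputable def r446 : WT := (.leaf (nat_lit 8227) [nat_lit 72, nat_lit 168, nat_lit 120, nat_lit 48, nat_lit 168, nat_lit 72, nat_lit 96, nat_lit 144, nat_lit 48, nat_lit 144, nat_lit 72, nat_lit 168, nat_lit 48, nat_lit 168, nat_lit 72, nat_lit 120, nat_lit 48, nat_lit 144, nat_lit 72, nat_lit 144, nat_lit 48])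
noncomputable def r447 : WT := (.leaf (nat_lit 8207) [nat_lit 48, nat_lit 168, nat_lit 72, nat_lit 120, nat_lit 48, nat_lit 144, nat_lit 72, nat_lit 144, nat_lit 48, nat_lit 168, nat_lit 72, nat_lit 168, nat_lit 120, nat_lit 48, nat_lit 168, nat_lit 72, nat_lit 96, nat_lit 144, nat_lit 48, nat_lit 144, nat_lit 72])
noncomputable def r448 : WT := (.node (nat_lit 78) (.node (nat_lit 76) (.node (nat_lit 75) r438 r439) (.node (nat_lit 77) r440 r441)) (.node (nat_lit 81) (.node (nat_lit 79) r442 (.node (nat_lit 80) r443 r444)) (.node (nat_lit 82) r445 (.node (nat_lit 83) r446 r447))))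
noncomputable def r449 : WT := (.leaf (nat_lit 15398) [nat_lit 48, nat_lit 144, nat_lit 72, nat_lit 144, nat_lit 72, nat_lit 144, nat_lit 72, nat_lit 168, nat_lit 72, nat_lit 168, nat_lit 72, nat_lit 72, nat_lit 96, nat_lit 48, nat_lit 48, nat_lit 144, nat_lit 48, nat_lit 144, nat_lit 48, nat_lit 168, nat_lit 48])
noncomputable def r450 : WT := (.leaf (nat_lit 15361) [nat_lit 72, nat_lit 144, nat_lit 72, nat_lit 144, nat_lit 72, nat_lit 168, nat_lit 72, nat_lit 168, nat_lit 72, nat_lit 72, nat_lit 120, nat_lit 48, nat_lit 48, nat_lit 144, nat_lit 48, nat_lit 144, nat_lit 48, nat_lit 168, nat_lit 48, nat_lit 168, nat_lit 48])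
noncomputable def r451 : WT := (.leaf (nat_lit 17445) [nat_lit 72, nat_lit 144, nat_lit 48, nat_lit 144, nat_lit 48, nat_lit 120, nat_lit 168, nat_lit 96, nat_lit 48, nat_lit 144, nat_lit 48, nat_lit 168, nat_lit 72, nat_lit 168, nat_lit 72, nat_lit 120, nat_lit 144, nat_lit 96, nat_lit 72])
noncomputable def r452 : WT := (.leaf (nat_lit 9257) [nat_lit 48, nat_lit 168, nat_lit 72, nat_lit 144, nat_lit 48, nat_lit 168, nat_lit 48, nat_lit 144, nat_lit 48, nat_lit 48, nat_lit 168, nat_lit 72, nat_lit 120, nat_lit 48, nat_lit 144, nat_lit 72, nat_lit 72, nat_lit 168, nat_lit 72, nat_lit 144, nat_lit 72])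
noncomputable def r453 : WT := (.leaf (nat_lit 14370) [nat_lit 48, nat_lit 168, nat_lit 48, nat_lit 120, nat_lit 72, nat_lit 144, nat_lit 72, nat_lit 144, nat_lit 72, nat_lit 168, nat_lit 72, nat_lit 168, nat_lit 72, nat_lit 72, nat_lit 144, nat_lit 48, nat_lit 48, nat_lit 144, nat_lit 48, nat_lit 144, nat_lit 48])
noncomputable def r454 : WT := (.leaf (nat_lit 12312) [nat_lit 72, nat_lit 144, nat_lit 72, nat_lit 168, nat_lit 72, nat_lit 72, nat_lit 144, nat_lit 48, nat_lit 144, nat_lit 72, nat_lit 168, nat_lit 48, nat_lit 48, nat_lit 144, nat_lit 48, nat_lit 168, nat_lit 48, nat_lit 144, nat_lit 72, nat_lit 96, nat_lit 48])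
noncomputable def r455 : WT := (.leaf (nat_lit 14346) [nat_lit 72, nat_lit 168, nat_lit 72, nat_lit 72, nat_lit 144, nat_lit 48, nat_lit 48, nat_lit 144, nat_lit 48, nat_lit 144, nat_lit 48, nat_lit 168, nat_lit 48, nat_lit 168, nat_lit 48, nat_lit 120, nat_lit 72, nat_lit 144, nat_lit 72, nat_lit 144, nat_lit 72])
noncomputable def r456 : WT := (.leaf (nat_lit 10264) [nat_lit 48, nat_lit 168, nat_lit 48, nat_lit 144, nat_lit 48, nat_lit 144, nat_lit 48, nat_lit 48, nat_lit 120, nat_lit 72, nat_lit 72, nat_lit 168, nat_lit 72, nat_lit 168, nat_lit 72, nat_lit 144, nat_lit 72, nat_lit 144, nat_lit 72, nat_lit 144, nat_lit 48])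
noncomputable def r457 : WT := (.leaf (nat_lit 10267) [nat_lit 48, nat_lit 168, nat_lit 48, nat_lit 144, nat_lit 48, nat_lit 144, nat_lit 48, nat_lit 48, nat_lit 96, nat_lit 72, nat_lit 72, nat_lit 168, nat_lit 72, nat_lit 168, nat_lit 72, nat_lit 144, nat_lit 72, nat_lit 144, nat_lit 72, nat_lit 168, nat_lit 48])
noncomputable def r458 : WT := (.leaf (nat_lit 11276) [nat_lit 48, nat_lit 144, nat_lit 72, nat_lit 144, nat_lit 48, nat_lit 168, nat_lit 72, nat_lit 144, nat_lit 72, nat_lit 168, nat_lit 72, nat_lit 72, nat_lit 144, nat_lit 48, nat_lit 120, nat_lit 72, nat_lit 168, nat_lit 48, nat_lit 48, nat_lit 144, nat_lit 48])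
noncomputable def r459 : WT := (.leaf (nat_lit 11269) [nat_lit 48, nat_lit 48, nat_lit 144, nat_lit 48, nat_lit 168, nat_lit 48, nat_lit 144, nat_lit 72, nat_lit 168, nat_lit 48, nat_lit 168, nat_lit 72, nat_lit 144, nat_lit 72, nat_lit 168, nat_lit 72, nat_lit 72, nat_lit 144, nat_lit 48, nat_lit 96, nat_lit 72])
noncomputable def r460 : WT := (.leaf (nat_lit 11279) [nat_lit 48, nat_lit 144, nat_lit 72, nat_lit 168, nat_lit 48, nat_lit 168, nat_lit 72, nat_lit 144, nat_lit 72, nat_lit 168, nat_lit 72, nat_lit 72, nat_lit 144, nat_lit 48, nat_lit 96, nat_lit 72, nat_lit 168, nat_lit 48, nat_lit 48, nat_lit 144, nat_lit 48])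
noncomputable def r461 : WT := (.leaf (nat_lit 12315) [nat_lit 72, nat_lit 144, nat_lit 72, nat_lit 168, nat_lit 72, nat_lit 72, nat_lit 144, nat_lit 48, nat_lit 168, nat_lit 72, nat_lit 168, nat_lit 48, nat_lit 48, nat_lit 144, nat_lit 48, nat_lit 168, nat_lit 48, nat_lit 144, nat_lit 72, nat_lit 120, nat_lit 48])
noncomputable def r462 : WT := (.leaf (nat_lit 12300) [nat_lit 48, nat_lit 144, nat_lit 72, nat_lit 96, nat_lit 48, nat_lit 168, nat_lit 72, nat_lit 144, nat_lit 72, nat_lit 168, nat_lit 72, nat_lit 72, nat_lit 144, nat_lit 48, nat_lit 144, nat_lit 72, nat_lit 168, nat_lit 48, nat_lit 48, nat_lit 144, nat_lit 48])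
noncomputable def r463 : WT := (.node (nat_lit 91) (.node (nat_lit 87) (.node (nat_lit 85) r449 (.node (nat_lit 86) r450 r451)) (.node (nat_lit 89) (.node (nat_lit 88) r452 r453) (.node (nat_lit 90) r454 r455))) (.node (nat_lit 94) (.node (nat_lit 92) r456 (.node (nat_lit 93) r457 r458)) (.node (nat_lit 96) (.node (nat_lit 95) r459 r460) (.node (nat_lit 97) r461 r462))))
noncomputable def r464 : WT := (.node (nat_lit 39) (.node (nat_lit 25) (.node (nat_lit 19) (.node (nat_lit 17) r367 r370) (.node (nat_lit 22) r374 r378)) (.node (nat_lit 31) (.node (nat_lit 28) r382 r386) (.node (nat_lit 35) r391 r396))) (.node (nat_lit 59) (.node (nat_lit 49) (.node (nat_lit 44) r402 r408) (.node (nat_lit 54) r414 r420)) (.node (nat_lit 74) (.node (nat_lit 66) r428 r437) (.node (nat_lit 84) r448 r463))))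
noncomputable def w5 : WT := (.node (nat_lit 1) (.leaf (nat_lit 2050) [nat_lit 144]) (.node (nat_lit 2) (.leaf (nat_lit 7174) [nat_lit 96, nat_lit 144, nat_lit 120]) (.node (nat_lit 5) (.node (nat_lit 3) (.leaf (nat_lit 5121) [nat_lit 168, nat_lit 168]) r352) (.node (nat_lit 15) r364 r464))))
noncomputable def r465 : WT := (.leaf (nat_lit 14358) [nat_lit 48, nat_lit 48, nat_lit 144, nat_lit 48, nat_lit 144, nat_lit 48, nat_lit 168, nat_lit 48, nat_lit 168, nat_lit 48, nat_lit 120, nat_lit 72, nat_lit 144, nat_lit 72, nat_lit 144, nat_lit 72, nat_lit 168, nat_lit 72, nat_lit 168, nat_lit 72, nat_lit 72, nat_lit 144])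
noncomputable def r466 : WT := (.leaf (nat_lit 12301) [nat_lit 48, nat_lit 168, nat_lit 48, nat_lit 144, nat_lit 72, nat_lit 120, nat_lit 48, nat_lit 168, nat_lit 72, nat_lit 144, nat_lit 72, nat_lit 168, nat_lit 72, nat_lit 72, nat_lit 144, nat_lit 48, nat_lit 168, nat_lit 72, nat_lit 168, nat_lit 48, nat_lit 48, nat_lit 144])
noncomputable def r467 : WT := (.leaf (nat_lit 19469) [nat_lit 72, nat_lit 168, nat_lit 72, nat_lit 168, nat_lit 48, nat_lit 144, nat_lit 48, nat_lit 168, nat_lit 48, nat_lit 168, nat_lit 168, nat_lit 48, nat_lit 144, nat_lit 72, nat_lit 144, nat_lit 144, nat_lit 72, nat_lit 144])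
noncomputable def r468 : WT := (.leaf (nat_lit 16398) [nat_lit 144, nat_lit 48, nat_lit 96, nat_lit 72, nat_lit 168, nat_lit 72, nat_lit 168, nat_lit 48, nat_lit 168, nat_lit 72, nat_lit 168, nat_lit 72, nat_lit 96, nat_lit 48, nat_lit 144, nat_lit 48, nat_lit 144, nat_lit 72, nat_lit 144, nat_lit 48])
noncomputable def r469 : WT := (.leaf (nat_lit 19487) [nat_lit 168, nat_lit 168, nat_lit 48, nat_lit 144, nat_lit 72, nat_lit 144, nat_lit 144, nat_lit 72, nat_lit 144, nat_lit 72, nat_lit 168, nat_lit 72, nat_lit 168, nat_lit 48, nat_lit 144, nat_lit 48, nat_lit 168, nat_lit 48])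
noncomputable def r470 : WT := (.node (nat_lit 2) (.node (nat_lit 1) r465 r466) (.node (nat_lit 3) r467 (.node (nat_lit 4) r468 r469)))
noncomputable def r471 : WT := (.leaf (nat_lit 10268) [nat_lit 168, nat_lit 48, nat_lit 144, nat_lit 48, nat_lit 144, nat_lit 48, nat_lit 48, nat_lit 120, nat_lit 72, nat_lit 72, nat_lit 168, nat_lit 72, nat_lit 168, nat_lit 72, nat_lit 144, nat_lit 72, nat_lit 144, nat_lit 72, nat_lit 144, nat_lit 48, nat_lit 168, nat_lit 48])
noncomputable def r472 : WT := (.leaf (nat_lit 16409) [nat_lit 168, nat_lit 72, nat_lit 168, nat_lit 48, nat_lit 168, nat_lit 72, nat_lit 168, nat_lit 72, nat_lit 120, nat_lit 48, nat_lit 144, nat_lit 48, nat_lit 144, nat_lit 72, nat_lit 144, nat_lit 48, nat_lit 144, nat_lit 48, nat_lit 120, nat_lit 72])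
noncomputable def r473 : WT := (.leaf (nat_lit 14352) [nat_lit 72, nat_lit 72, nat_lit 144, nat_lit 48, nat_lit 48, nat_lit 144, nat_lit 48, nat_lit 144, nat_lit 48, nat_lit 168, nat_lit 48, nat_lit 168, nat_lit 48, nat_lit 120, nat_lit 72, nat_lit 144, nat_lit 72, nat_lit 144, nat_lit 72, nat_lit 168, nat_lit 72, nat_lit 168])
noncomputable def r474 : WT := (.leaf (nat_lit 11268) [nat_lit 48, nat_lit 48, nat_lit 144, nat_lit 48, nat_lit 168, nat_lit 48, nat_lit 144, nat_lit 72, nat_lit 144, nat_lit 48, nat_lit 168, nat_lit 72, nat_lit 144, nat_lit 72, nat_lit 168, nat_lit 72, nat_lit 72, nat_lit 144, nat_lit 48, nat_lit 120, nat_lit 72, nat_lit 168])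
noncomputable def r475 : WT := (.leaf (nat_lit 14375) [nat_lit 48, nat_lit 168, nat_lit 48, nat_lit 96, nat_lit 72, nat_lit 144, nat_lit 72, nat_lit 144, nat_lit 72, nat_lit 168, nat_lit 72, nat_lit 168, nat_lit 72, nat_lit 72, nat_lit 168, nat_lit 48, nat_lit 48, nat_lit 144, nat_lit 48, nat_lit 144, nat_lit 48, nat_lit 168])
noncomputable def r476 : WT := (.node (nat_lit 7) (.node (nat_lit 6) r471 r472) (.node (nat_lit 8) r473 (.node (nat_lit 9) r474 r475)))
noncomputable def r477 : WT := (.leaf (nat_lit 19488) [nat_lit 48, nat_lit 168, nat_lit 72, nat_lit 144, nat_lit 144, nat_lit 72, nat_lit 144, nat_lit 72, nat_lit 168, nat_lit 72, nat_lit 144, nat_lit 48, nat_lit 144, nat_lit 48, nat_lit 168, nat_lit 48, nat_lit 168, nat_lit 168])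
noncomputable def r478 : WT := (.leaf (nat_lit 17447) [nat_lit 72, nat_lit 144, nat_lit 48, nat_lit 144, nat_lit 48, nat_lit 120, nat_lit 168, nat_lit 96, nat_lit 48, nat_lit 144, nat_lit 48, nat_lit 168, nat_lit 72, nat_lit 168, nat_lit 72, nat_lit 120, nat_lit 144, nat_lit 96, nat_lit 72, nat_lit 168])
noncomputable def r479 : WT := (.leaf (nat_lit 12302) [nat_lit 48, nat_lit 144, nat_lit 72, nat_lit 96, nat_lit 48, nat_lit 168, nat_lit 72, nat_lit 144, nat_lit 72, nat_lit 168, nat_lit 72, nat_lit 72, nat_lit 144, nat_lit 48, nat_lit 144, nat_lit 72, nat_lit 168, nat_lit 48, nat_lit 48, nat_lit 144, nat_lit 48, nat_lit 168])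
noncomputable def r480 : WT := (.leaf (nat_lit 19490) [nat_lit 168, nat_lit 72, nat_lit 144, nat_lit 144, nat_lit 72, nat_lit 144, nat_lit 72, nat_lit 168, nat_lit 72, nat_lit 144, nat_lit 48, nat_lit 144, nat_lit 48, nat_lit 168, nat_lit 48, nat_lit 168, nat_lit 168, nat_lit 48])
noncomputable def r481 : WT := (.leaf (nat_lit 10266) [nat_lit 48, nat_lit 168, nat_lit 48, nat_lit 144, nat_lit 48, nat_lit 144, nat_lit 48, nat_lit 48, nat_lit 120, nat_lit 72, nat_lit 72, nat_lit 168, nat_lit 72, nat_lit 168, nat_lit 72, nat_lit 144, nat_lit 72, nat_lit 144, nat_lit 72, nat_lit 144, nat_lit 48, nat_lit 168])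
noncomputable def r482 : WT := (.leaf (nat_lit 10262) [nat_lit 48, nat_lit 168, nat_lit 48, nat_lit 168, nat_lit 48, nat_lit 144, nat_lit 48, nat_lit 144, nat_lit 48, nat_lit 48, nat_lit 120, nat_lit 72, nat_lit 72, nat_lit 168, nat_lit 72, nat_lit 168, nat_lit 72, nat_lit 144, nat_lit 72, nat_lit 144, nat_lit 72, nat_lit 144])
noncomputable def r483 : WT := (.leaf (nat_lit 10254) [nat_lit 72, nat_lit 144, nat_lit 72, nat_lit 144, nat_lit 48, nat_lit 168, nat_lit 48, nat_lit 168, nat_lit 48, nat_lit 144, nat_lit 48, nat_lit 144, nat_lit 48, nat_lit 48, nat_lit 120, nat_lit 72, nat_lit 72, nat_lit 168, nat_lit 72, nat_lit 168, nat_lit 72, nat_lit 144])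
noncomputable def r484 : WT := (.node (nat_lit 14) (.node (nat_lit 12) (.node (nat_lit 11) r477 r478) (.node (nat_lit 13) r479 r480)) (.node (nat_lit 16) (.node (nat_lit 15) r481 r482) r483))
noncomputable def r485 : WT := (.leaf (nat_lit 11298) [nat_lit 72, nat_lit 72, nat_lit 144, nat_lit 48, nat_lit 120, nat_lit 72, nat_lit 168, nat_lit 48, nat_lit 48, nat_lit 144, nat_lit 48, nat_lit 168, nat_lit 48, nat_lit 144, nat_lit 72, nat_lit 144, nat_lit 48, nat_lit 168, nat_lit 72, nat_lit 144, nat_lit 72, nat_lit 168])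
noncomputable def r486 : WT := (.leaf (nat_lit 9248) [nat_lit 72, nat_lit 144, nat_lit 72, nat_lit 168, nat_lit 48, nat_lit 144, nat_lit 72, nat_lit 144, nat_lit 48, nat_lit 168, nat_lit 48, nat_lit 144, nat_lit 48, nat_lit 48, nat_lit 168, nat_lit 72, nat_lit 96, nat_lit 48, nat_lit 144, nat_lit 72, nat_lit 72, nat_lit 168])
noncomputable def r487 : WT := (.leaf (nat_lit 15371) [nat_lit 72, nat_lit 168, nat_lit 72, nat_lit 168, nat_lit 72, nat_lit 72, nat_lit 120, nat_lit 48, nat_lit 48, nat_lit 144, nat_lit 48, nat_lit 144, nat_lit 48, nat_lit 168, nat_lit 48, nat_lit 168, nat_lit 48, nat_lit 168, nat_lit 72, nat_lit 144, nat_lit 72, nat_lit 144])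
noncomputable def r488 : WT := (.leaf (nat_lit 15395) [nat_lit 48, nat_lit 168, nat_lit 48, nat_lit 168, nat_lit 48, nat_lit 168, nat_lit 72, nat_lit 144, nat_lit 72, nat_lit 144, nat_lit 72, nat_lit 168, nat_lit 72, nat_lit 168, nat_lit 72, nat_lit 72, nat_lit 120, nat_lit 48, nat_lit 48, nat_lit 144, nat_lit 48, nat_lit 144])
noncomputable def r489 : WT := (.leaf (nat_lit 11277) [nat_lit 48, nat_lit 168, nat_lit 48, nat_lit 144, nat_lit 72, nat_lit 168, nat_lit 48, nat_lit 168, nat_lit 72, nat_lit 144, nat_lit 72, nat_lit 168, nat_lit 72, nat_lit 72, nat_lit 144, nat_lit 48, nat_lit 96, nat_lit 72, nat_lit 168, nat_lit 48, nat_lit 48, nat_lit 144])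
noncomputable def r490 : WT := (.leaf (nat_lit 16423) [nat_lit 72, nat_lit 120, nat_lit 48, nat_lit 144, nat_lit 48, nat_lit 144, nat_lit 72, nat_lit 144, nat_lit 48, nat_lit 144, nat_lit 48, nat_lit 120, nat_lit 72, nat_lit 168, nat_lit 72, nat_lit 168, nat_lit 48, nat_lit 168, nat_lit 72, nat_lit 168])
noncomputable def r491 : WT := (.leaf (nat_lit 10278) [nat_lit 48, nat_lit 48, nat_lit 120, nat_lit 72, nat_lit 72, nat_lit 168, nat_lit 72, nat_lit 168, nat_lit 72, nat_lit 144, nat_lit 72, nat_lit 144, nat_lit 72, nat_lit 144, nat_lit 48, nat_lit 168, nat_lit 48, nat_lit 168, nat_lit 48, nat_lit 144, nat_lit 48, nat_lit 144])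
noncomputable def r492 : WT := (.node (nat_lit 20) (.node (nat_lit 18) r485 (.node (nat_lit 19) r486 r487)) (.node (nat_lit 22) (.node (nat_lit 21) r488 r489) (.node (nat_lit 23) r490 r491)))
noncomputable def r493 : WT := (.leaf (nat_lit 11280) [nat_lit 144, nat_lit 72, nat_lit 144, nat_lit 48, nat_lit 168, nat_lit 72, nat_lit 144, nat_lit 72, nat_lit 168, nat_lit 72, nat_lit 72, nat_lit 144, nat_lit 48, nat_lit 120, nat_lit 72, nat_lit 168, nat_lit 48, nat_lit 48, nat_lit 144, nat_lit 48, nat_lit 168, nat_lit 48])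
noncomputable def r494 : WT := (.leaf (nat_lit 10281) [nat_lit 48, nat_lit 48, nat_lit 96, nat_lit 72, nat_lit 72, nat_lit 168, nat_lit 72, nat_lit 168, nat_lit 72, nat_lit 144, nat_lit 72, nat_lit 144, nat_lit 72, nat_lit 168, nat_lit 48, nat_lit 168, nat_lit 48, nat_lit 168, nat_lit 48, nat_lit 144, nat_lit 48, nat_lit 144])
noncomputable def r495 : WT := (.leaf (nat_lit 10277) [nat_lit 48, nat_lit 144, nat_lit 48, nat_lit 48, nat_lit 96, nat_lit 72, nat_lit 72, nat_lit 168, nat_lit 72, nat_lit 168, nat_lit 72, nat_lit 144, nat_lit 72, nat_lit 144, nat_lit 72, nat_lit 168, nat_lit 48, nat_lit 168, nat_lit 48, nat_lit 168, nat_lit 48, nat_lit 144])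
noncomputable def r496 : WT := (.leaf (nat_lit 11302) [nat_lit 144, nat_lit 48, nat_lit 120, nat_lit 72, nat_lit 168, nat_lit 48, nat_lit 48, nat_lit 144, nat_lit 48, nat_lit 168, nat_lit 48, nat_lit 144, nat_lit 72, nat_lit 144, nat_lit 48, nat_lit 168, nat_lit 72, nat_lit 144, nat_lit 72, nat_lit 168, nat_lit 72, nat_lit 72])
noncomputable def r497 : WT := (.leaf (nat_lit 10275) [nat_lit 144, nat_lit 48, nat_lit 144, nat_lit 48, nat_lit 48, nat_lit 96, nat_lit 72, nat_lit 72, nat_lit 168, nat_lit 72, nat_lit 168, nat_lit 72, nat_lit 144, nat_lit 72, nat_lit 144, nat_lit 72, nat_lit 168, nat_lit 48, nat_lit 168, nat_lit 48, nat_lit 168, nat_lit 48])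
noncomputable def r498 : WT := (.leaf (nat_lit 10271) [nat_lit 168, nat_lit 48, nat_lit 144, nat_lit 48, nat_lit 144, nat_lit 48, nat_lit 48, nat_lit 96, nat_lit 72, nat_lit 72, nat_lit 168, nat_lit 72, nat_lit 168, nat_lit 72, nat_lit 144, nat_lit 72, nat_lit 144, nat_lit 72, nat_lit 168, nat_lit 48, nat_lit 168, nat_lit 48])
noncomputable def r499 : WT := (.leaf (nat_lit 10263) [nat_lit 168, nat_lit 48, nat_lit 168, nat_lit 48, nat_lit 168, nat_lit 48, nat_lit 144, nat_lit 48, nat_lit 144, nat_lit 48, nat_lit 48, nat_lit 96, nat_lit 72, nat_lit 72, nat_lit 168, nat_lit 72, nat_lit 168, nat_lit 72, nat_lit 144, nat_lit 72, nat_lit 144, nat_lit 72])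
noncomputable def r500 : WT := (.leaf (nat_lit 10261) [nat_lit 72, nat_lit 168, nat_lit 48, nat_lit 168, nat_lit 48, nat_lit 168, nat_lit 48, nat_lit 144, nat_lit 48, nat_lit 144, nat_lit 48, nat_lit 48, nat_lit 96, nat_lit 72, nat_lit 72, nat_lit 168, nat_lit 72, nat_lit 168, nat_lit 72, nat_lit 144, nat_lit 72, nat_lit 144])
noncomputable def r501 : WT := (.leaf (nat_lit 10255) [nat_lit 144, nat_lit 72, nat_lit 144, nat_lit 72, nat_lit 168, nat_lit 48, nat_lit 168, nat_lit 48, nat_lit 168, nat_lit 48, nat_lit 144, nat_lit 48, nat_lit 144, nat_lit 48, nat_lit 48, nat_lit 96, nat_lit 72, nat_lit 72, nat_lit 168, nat_lit 72, nat_lit 168, nat_lit 72])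
noncomputable def r502 : WT := (.leaf (nat_lit 10247) [nat_lit 168, nat_lit 72, nat_lit 168, nat_lit 72, nat_lit 144, nat_lit 72, nat_lit 144, nat_lit 72, nat_lit 168, nat_lit 48, nat_lit 168, nat_lit 48, nat_lit 168, nat_lit 48, nat_lit 144, nat_lit 48, nat_lit 144, nat_lit 48, nat_lit 48, nat_lit 96, nat_lit 72, nat_lit 72])
noncomputable def r503 : WT := (.node (nat_lit 29) (.node (nat_lit 26) (.node (nat_lit 25) r493 r494) (.node (nat_lit 27) r495 (.node (nat_lit 28) r496 r497))) (.node (nat_lit 31) (.node (nat_lit 30) r498 r499) (.node (nat_lit 32) r500 (.node (nat_lit 33) r501 r502))))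
noncomputable def r504 : WT := (.leaf (nat_lit 11301) [nat_lit 72, nat_lit 72, nat_lit 144, nat_lit 48, nat_lit 96, nat_lit 72, nat_lit 168, nat_lit 48, nat_lit 48, nat_lit 144, nat_lit 48, nat_lit 168, nat_lit 48, nat_lit 144, nat_lit 72, nat_lit 168, nat_lit 48, nat_lit 168, nat_lit 72, nat_lit 144, nat_lit 72, nat_lit 168])
noncomputable def r505 : WT := (.leaf (nat_lit 10244) [nat_lit 168, nat_lit 72, nat_lit 168, nat_lit 72, nat_lit 144, nat_lit 72, nat_lit 144, nat_lit 72, nat_lit 144, nat_lit 48, nat_lit 168, nat_lit 48, nat_lit 168, nat_lit 48, nat_lit 144, nat_lit 48, nat_lit 144, nat_lit 48, nat_lit 48, nat_lit 120, nat_lit 72, nat_lit 72])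
noncomputable def r506 : WT := (.leaf (nat_lit 9251) [nat_lit 72, nat_lit 144, nat_lit 72, nat_lit 168, nat_lit 48, nat_lit 168, nat_lit 72, nat_lit 144, nat_lit 48, nat_lit 168, nat_lit 48, nat_lit 144, nat_lit 48, nat_lit 48, nat_lit 168, nat_lit 72, nat_lit 120, nat_lit 48, nat_lit 144, nat_lit 72, nat_lit 72, nat_lit 168])
noncomputable def r507 : WT := (.leaf (nat_lit 9237) [nat_lit 72, nat_lit 120, nat_lit 48, nat_lit 144, nat_lit 72, nat_lit 72, nat_lit 168, nat_lit 72, nat_lit 144, nat_lit 72, nat_lit 168, nat_lit 48, nat_lit 168, nat_lit 72, nat_lit 144, nat_lit 48, nat_lit 168, nat_lit 48, nat_lit 144, nat_lit 48, nat_lit 48, nat_lit 168])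
noncomputable def r508 : WT := (.leaf (nat_lit 9256) [nat_lit 48, nat_lit 144, nat_lit 72, nat_lit 144, nat_lit 48, nat_lit 168, nat_lit 48, nat_lit 144, nat_lit 48, nat_lit 48, nat_lit 168, nat_lit 72, nat_lit 96, nat_lit 48, nat_lit 144, nat_lit 72, nat_lit 72, nat_lit 168, nat_lit 72, nat_lit 144, nat_lit 72, nat_lit 168])
noncomputable def r509 : WT := (.leaf (nat_lit 9240) [nat_lit 144, nat_lit 72, nat_lit 72, nat_lit 168, nat_lit 72, nat_lit 144, nat_lit 72, nat_lit 168, nat_lit 48, nat_lit 144, nat_lit 72, nat_lit 144, nat_lit 48, nat_lit 168, nat_lit 48, nat_lit 144, nat_lit 48, nat_lit 48, nat_lit 168, nat_lit 72, nat_lit 96, nat_lit 48])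
noncomputable def r510 : WT := (.leaf (nat_lit 9224) [nat_lit 48, nat_lit 144, nat_lit 48, nat_lit 48, nat_lit 168, nat_lit 72, nat_lit 96, nat_lit 48, nat_lit 144, nat_lit 72, nat_lit 72, nat_lit 168, nat_lit 72, nat_lit 144, nat_lit 72, nat_lit 168, nat_lit 48, nat_lit 144, nat_lit 72, nat_lit 144, nat_lit 48, nat_lit 168])
noncomputable def r511 : WT := (.leaf (nat_lit 8229) [nat_lit 72, nat_lit 168, nat_lit 120, nat_lit 48, nat_lit 168, nat_lit 72, nat_lit 96, nat_lit 144, nat_lit 48, nat_lit 144, nat_lit 72, nat_lit 168, nat_lit 48, nat_lit 168, nat_lit 72, nat_lit 120, nat_lit 48, nat_lit 144, nat_lit 72, nat_lit 144, nat_lit 48, nat_lit 168])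
noncomputable def r512 : WT := (.leaf (nat_lit 13340) [nat_lit 72, nat_lit 168, nat_lit 48, nat_lit 144, nat_lit 72, nat_lit 144, nat_lit 48, nat_lit 120, nat_lit 72, nat_lit 168, nat_lit 48, nat_lit 168, nat_lit 72, nat_lit 144, nat_lit 48, nat_lit 144, nat_lit 120, nat_lit 72, nat_lit 144, nat_lit 48, nat_lit 96, nat_lit 168])
noncomputable def r513 : WT := (.leaf (nat_lit 15401) [nat_lit 168, nat_lit 48, nat_lit 168, nat_lit 72, nat_lit 144, nat_lit 72, nat_lit 144, nat_lit 72, nat_lit 168, nat_lit 72, nat_lit 168, nat_lit 72, nat_lit 72, nat_lit 120, nat_lit 48, nat_lit 48, nat_lit 144, nat_lit 48, nat_lit 144, nat_lit 48, nat_lit 168, nat_lit 48])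
noncomputable def r514 : WT := (.leaf (nat_lit 15399) [nat_lit 48, nat_lit 168, nat_lit 48, nat_lit 168, nat_lit 72, nat_lit 144, nat_lit 72, nat_lit 144, nat_lit 72, nat_lit 168, nat_lit 72, nat_lit 168, nat_lit 72, nat_lit 72, nat_lit 120, nat_lit 48, nat_lit 48, nat_lit 144, nat_lit 48, nat_lit 144, nat_lit 48, nat_lit 168])
noncomputable def r515 : WT := (.node (nat_lit 39) (.node (nat_lit 36) (.node (nat_lit 35) r504 r505) (.node (nat_lit 37) r506 (.node (nat_lit 38) r507 r508))) (.node (nat_lit 42) (.node (nat_lit 40) r509 (.node (nat_lit 41) r510 r511)) (.node (nat_lit 43) r512 (.node (nat_lit 44) r513 r514))))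
noncomputable def r516 : WT := (.leaf (nat_lit 15389) [nat_lit 144, nat_lit 48, nat_lit 144, nat_lit 48, nat_lit 168, nat_lit 48, nat_lit 168, nat_lit 48, nat_lit 168, nat_lit 72, nat_lit 144, nat_lit 72, nat_lit 144, nat_lit 72, nat_lit 168, nat_lit 72, nat_lit 168, nat_lit 72, nat_lit 72, nat_lit 120, nat_lit 48, nat_lit 48])
noncomputable def r517 : WT := (.leaf (nat_lit 15369) [nat_lit 144, nat_lit 72, nat_lit 168, nat_lit 72, nat_lit 168, nat_lit 72, nat_lit 72, nat_lit 120, nat_lit 48, nat_lit 48, nat_lit 144, nat_lit 48, nat_lit 144, nat_lit 48, nat_lit 168, nat_lit 48, nat_lit 168, nat_lit 48, nat_lit 168, nat_lit 72, nat_lit 144, nat_lit 72])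
noncomputable def r518 : WT := (.leaf (nat_lit 15402) [nat_lit 144, nat_lit 72, nat_lit 144, nat_lit 72, nat_lit 144, nat_lit 72, nat_lit 168, nat_lit 72, nat_lit 168, nat_lit 72, nat_lit 72, nat_lit 96, nat_lit 48, nat_lit 48, nat_lit 144, nat_lit 48, nat_lit 144, nat_lit 48, nat_lit 168, nat_lit 48, nat_lit 168, nat_lit 48])
noncomputable def r519 : WT := (.leaf (nat_lit 15400) [nat_lit 48, nat_lit 144, nat_lit 72, nat_lit 144, nat_lit 72, nat_lit 144, nat_lit 72, nat_lit 168, nat_lit 72, nat_lit 168, nat_lit 72, nat_lit 72, nat_lit 96, nat_lit 48, nat_lit 48, nat_lit 144, nat_lit 48, nat_lit 144, nat_lit 48, nat_lit 168, nat_lit 48, nat_lit 168])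
noncomputable def r520 : WT := (.leaf (nat_lit 15396) [nat_lit 48, nat_lit 168, nat_lit 48, nat_lit 144, nat_lit 72, nat_lit 144, nat_lit 72, nat_lit 144, nat_lit 72, nat_lit 168, nat_lit 72, nat_lit 168, nat_lit 72, nat_lit 72, nat_lit 96, nat_lit 48, nat_lit 48, nat_lit 144, nat_lit 48, nat_lit 144, nat_lit 48, nat_lit 168])
noncomputable def r521 : WT := (.leaf (nat_lit 15394) [nat_lit 168, nat_lit 48, nat_lit 168, nat_lit 48, nat_lit 144, nat_lit 72, nat_lit 144, nat_lit 72, nat_lit 144, nat_lit 72, nat_lit 168, nat_lit 72, nat_lit 168, nat_lit 72, nat_lit 72, nat_lit 96, nat_lit 48, nat_lit 48, nat_lit 144, nat_lit 48, nat_lit 144, nat_lit 48])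
noncomputable def r522 : WT := (.leaf (nat_lit 15370) [nat_lit 168, nat_lit 72, nat_lit 168, nat_lit 72, nat_lit 72, nat_lit 96, nat_lit 48, nat_lit 48, nat_lit 144, nat_lit 48, nat_lit 144, nat_lit 48, nat_lit 168, nat_lit 48, nat_lit 168, nat_lit 48, nat_lit 144, nat_lit 72, nat_lit 144, nat_lit 72, nat_lit 144, nat_lit 72])
noncomputable def r523 : WT := (.leaf (nat_lit 14376) [nat_lit 48, nat_lit 120, nat_lit 72, nat_lit 144, nat_lit 72, nat_lit 144, nat_lit 72, nat_lit 168, nat_lit 72, nat_lit 168, nat_lit 72, nat_lit 72, nat_lit 144, nat_lit 48, nat_lit 48, nat_lit 144, nat_lit 48, nat_lit 144, nat_lit 48, nat_lit 168, nat_lit 48, nat_lit 168])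
noncomputable def r524 : WT := (.leaf (nat_lit 14372) [nat_lit 48, nat_lit 168, nat_lit 48, nat_lit 120, nat_lit 72, nat_lit 144, nat_lit 72, nat_lit 144, nat_lit 72, nat_lit 168, nat_lit 72, nat_lit 168, nat_lit 72, nat_lit 72, nat_lit 144, nat_lit 48, nat_lit 48, nat_lit 144, nat_lit 48, nat_lit 144, nat_lit 48, nat_lit 168])
noncomputable def r525 : WT := (.leaf (nat_lit 13343) [nat_lit 72, nat_lit 168, nat_lit 48, nat_lit 144, nat_lit 72, nat_lit 144, nat_lit 48, nat_lit 96, nat_lit 72, nat_lit 168, nat_lit 48, nat_lit 168, nat_lit 72, nat_lit 144, nat_lit 48, nat_lit 144, nat_lit 120, nat_lit 72, nat_lit 168, nat_lit 48, nat_lit 96, nat_lit 168])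
noncomputable def r526 : WT := (.leaf (nat_lit 13348) [nat_lit 72, nat_lit 144, nat_lit 48, nat_lit 120, nat_lit 72, nat_lit 168, nat_lit 48, nat_lit 168, nat_lit 72, nat_lit 144, nat_lit 48, nat_lit 144, nat_lit 120, nat_lit 72, nat_lit 144, nat_lit 48, nat_lit 96, nat_lit 168, nat_lit 72, nat_lit 168, nat_lit 48, nat_lit 144])
noncomputable def r527 : WT := (.node (nat_lit 50) (.node (nat_lit 47) (.node (nat_lit 46) r516 r517) (.node (nat_lit 48) r518 (.node (nat_lit 49) r519 r520))) (.node (nat_lit 53) (.node (nat_lit 51) r521 (.node (nat_lit 52) r522 r523)) (.node (nat_lit 54) r524 (.node (nat_lit 55) r525 r526))))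
noncomputable def r528 : WT := (.leaf (nat_lit 11271) [nat_lit 48, nat_lit 48, nat_lit 144, nat_lit 48, nat_lit 168, nat_lit 48, nat_lit 144, nat_lit 72, nat_lit 168, nat_lit 48, nat_lit 168, nat_lit 72, nat_lit 144, nat_lit 72, nat_lit 168, nat_lit 72, nat_lit 72, nat_lit 144, nat_lit 48, nat_lit 96, nat_lit 72, nat_lit 168])
noncomputable def r529 : WT := (.leaf (nat_lit 13330) [nat_lit 72, nat_lit 144, nat_lit 48, nat_lit 96, nat_lit 168, nat_lit 72, nat_lit 168, nat_lit 48, nat_lit 144, nat_lit 72, nat_lit 144, nat_lit 48, nat_lit 120, nat_lit 72, nat_lit 168, nat_lit 48, nat_lit 168, nat_lit 72, nat_lit 144, nat_lit 48, nat_lit 144, nat_lit 120])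
noncomputable def r530 : WT := (.leaf (nat_lit 12331) [nat_lit 48, nat_lit 168, nat_lit 72, nat_lit 168, nat_lit 48, nat_lit 48, nat_lit 144, nat_lit 48, nat_lit 168, nat_lit 48, nat_lit 144, nat_lit 72, nat_lit 120, nat_lit 48, nat_lit 168, nat_lit 72, nat_lit 144, nat_lit 72, nat_lit 168, nat_lit 72, nat_lit 72, nat_lit 144])
noncomputable def r531 : WT := (.leaf (nat_lit 12317) [nat_lit 72, nat_lit 144, nat_lit 72, nat_lit 168, nat_lit 72, nat_lit 72, nat_lit 144, nat_lit 48, nat_lit 168, nat_lit 72, nat_lit 168, nat_lit 48, nat_lit 48, nat_lit 144, nat_lit 48, nat_lit 168, nat_lit 48, nat_lit 144, nat_lit 72, nat_lit 120, nat_lit 48, nat_lit 168])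
noncomputable def r532 : WT := (.leaf (nat_lit 12291) [nat_lit 72, nat_lit 168, nat_lit 48, nat_lit 48, nat_lit 144, nat_lit 48, nat_lit 168, nat_lit 48, nat_lit 144, nat_lit 72, nat_lit 120, nat_lit 48, nat_lit 168, nat_lit 72, nat_lit 144, nat_lit 72, nat_lit 168, nat_lit 72, nat_lit 72, nat_lit 144, nat_lit 48, nat_lit 168])
noncomputable def r533 : WT := (.leaf (nat_lit 12322) [nat_lit 72, nat_lit 72, nat_lit 144, nat_lit 48, nat_lit 144, nat_lit 72, nat_lit 168, nat_lit 48, nat_lit 48, nat_lit 144, nat_lit 48, nat_lit 168, nat_lit 48, nat_lit 144, nat_lit 72, nat_lit 96, nat_lit 48, nat_lit 168, nat_lit 72, nat_lit 144, nat_lit 72, nat_lit 168])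
noncomputable def r534 : WT := (.leaf (nat_lit 12306) [nat_lit 72, nat_lit 96, nat_lit 48, nat_lit 168, nat_lit 72, nat_lit 144, nat_lit 72, nat_lit 168, nat_lit 72, nat_lit 72, nat_lit 144, nat_lit 48, nat_lit 144, nat_lit 72, nat_lit 168, nat_lit 48, nat_lit 48, nat_lit 144, nat_lit 48, nat_lit 168, nat_lit 48, nat_lit 144])
noncomputable def r535 : WT := (.leaf (nat_lit 12298) [nat_lit 48, nat_lit 168, nat_lit 48, nat_lit 144, nat_lit 72, nat_lit 96, nat_lit 48, nat_lit 168, nat_lit 72, nat_lit 144, nat_lit 72, nat_lit 168, nat_lit 72, nat_lit 72, nat_lit 144, nat_lit 48, nat_lit 144, nat_lit 72, nat_lit 168, nat_lit 48, nat_lit 48, nat_lit 144])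
noncomputable def r536 : WT := (.leaf (nat_lit 11297) [nat_lit 72, nat_lit 168, nat_lit 72, nat_lit 72, nat_lit 144, nat_lit 48, nat_lit 96, nat_lit 72, nat_lit 168, nat_lit 48, nat_lit 48, nat_lit 144, nat_lit 48, nat_lit 168, nat_lit 48, nat_lit 144, nat_lit 72, nat_lit 168, nat_lit 48, nat_lit 168, nat_lit 72, nat_lit 144])
noncomputable def r537 : WT := (.leaf (nat_lit 11293) [nat_lit 72, nat_lit 144, nat_lit 72, nat_lit 168, nat_lit 72, nat_lit 72, nat_lit 144, nat_lit 48, nat_lit 96, nat_lit 72, nat_lit 168, nat_lit 48, nat_lit 48, nat_lit 144, nat_lit 48, nat_lit 168, nat_lit 48, nat_lit 144, nat_lit 72, nat_lit 168, nat_lit 48, nat_lit 168])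
noncomputable def r538 : WT := (.node (nat_lit 61) (.node (nat_lit 58) (.node (nat_lit 57) r528 r529) (.node (nat_lit 59) r530 (.node (nat_lit 60) r531 r532))) (.node (nat_lit 64) (.node (nat_lit 62) r533 (.node (nat_lit 63) r534 r535)) (.node (nat_lit 65) (.leaf (nat_lit 6147) [nat_lit 48, nat_lit 96, nat_lit 72, nat_lit 120, nat_lit 48]) (.node (nat_lit 66) r536 r537))))
noncomputable def r539 : WT := (.leaf (nat_lit 11289) [nat_lit 48, nat_lit 168, nat_lit 72, nat_lit 144, nat_lit 72, nat_lit 168, nat_lit 72, nat_lit 72, nat_lit 144, nat_lit 48, nat_lit 96, nat_lit 72, nat_lit 168, nat_lit 48, nat_lit 48, nat_lit 144, nat_lit 48, nat_lit 168, nat_lit 48, nat_lit 144, nat_lit 72, nat_lit 168])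
noncomputable def r540 : WT := (.leaf (nat_lit 11287) [nat_lit 168, nat_lit 48, nat_lit 168, nat_lit 72, nat_lit 144, nat_lit 72, nat_lit 168, nat_lit 72, nat_lit 72, nat_lit 144, nat_lit 48, nat_lit 96, nat_lit 72, nat_lit 168, nat_lit 48, nat_lit 48, nat_lit 144, nat_lit 48, nat_lit 168, nat_lit 48, nat_lit 144, nat_lit 72])
noncomputable def r541 : WT := (.leaf (nat_lit 19466) [nat_lit 72, nat_lit 168, nat_lit 72, nat_lit 144, nat_lit 48, nat_lit 144, nat_lit 48, nat_lit 168, nat_lit 48, nat_lit 168, nat_lit 168, nat_lit 48, nat_lit 168, nat_lit 72, nat_lit 144, nat_lit 144, nat_lit 72, nat_lit 144])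
noncomputable def r542 : WT := (.leaf (nat_lit 8222) [nat_lit 48, nat_lit 168, nat_lit 72, nat_lit 168, nat_lit 120, nat_lit 48, nat_lit 144, nat_lit 72, nat_lit 96, nat_lit 144, nat_lit 48, nat_lit 144, nat_lit 72, nat_lit 168, nat_lit 48, nat_lit 168, nat_lit 72, nat_lit 96, nat_lit 48, nat_lit 144, nat_lit 72, nat_lit 144])
noncomputable def r543 : WT := (.leaf (nat_lit 19491) [nat_lit 48, nat_lit 144, nat_lit 72, nat_lit 144, nat_lit 144, nat_lit 72, nat_lit 144, nat_lit 72, nat_lit 168, nat_lit 72, nat_lit 168, nat_lit 48, nat_lit 144, nat_lit 48, nat_lit 168, nat_lit 48, nat_lit 168, nat_lit 168])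
noncomputable def r544 : WT := (.leaf (nat_lit 8228) [nat_lit 168, nat_lit 120, nat_lit 48, nat_lit 144, nat_lit 72, nat_lit 96, nat_lit 144, nat_lit 48, nat_lit 144, nat_lit 72, nat_lit 168, nat_lit 48, nat_lit 168, nat_lit 72, nat_lit 96, nat_lit 48, nat_lit 144, nat_lit 72, nat_lit 144, nat_lit 48, nat_lit 168, nat_lit 72])
noncomputable def r545 : WT := (.leaf (nat_lit 8216) [nat_lit 144, nat_lit 72, nat_lit 144, nat_lit 48, nat_lit 168, nat_lit 72, nat_lit 168, nat_lit 120, nat_lit 48, nat_lit 144, nat_lit 72, nat_lit 96, nat_lit 144, nat_lit 48, nat_lit 144, nat_lit 72, nat_lit 168, nat_lit 48, nat_lit 168, nat_lit 72, nat_lit 96, nat_lit 48])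
noncomputable def r546 : WT := (.leaf (nat_lit 16411) [nat_lit 72, nat_lit 168, nat_lit 48, nat_lit 168, nat_lit 72, nat_lit 168, nat_lit 72, nat_lit 120, nat_lit 48, nat_lit 144, nat_lit 48, nat_lit 144, nat_lit 72, nat_lit 144, nat_lit 48, nat_lit 144, nat_lit 48, nat_lit 120, nat_lit 72, nat_lit 168])
noncomputable def r547 : WT := (.leaf (nat_lit 16397) [nat_lit 144, nat_lit 48, nat_lit 144, nat_lit 48, nat_lit 120, nat_lit 72, nat_lit 168, nat_lit 72, nat_lit 168, nat_lit 48, nat_lit 168, nat_lit 72, nat_lit 168, nat_lit 72, nat_lit 120, nat_lit 48, nat_lit 144, nat_lit 48, nat_lit 144, nat_lit 72])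
noncomputable def r548 : WT := (.leaf (nat_lit 19470) [nat_lit 72, nat_lit 144, nat_lit 48, nat_lit 144, nat_lit 48, nat_lit 168, nat_lit 48, nat_lit 168, nat_lit 168, nat_lit 48, nat_lit 168, nat_lit 72, nat_lit 144, nat_lit 144, nat_lit 72, nat_lit 144, nat_lit 72, nat_lit 168])
noncomputable def r549 : WT := (.leaf (nat_lit 19468) [nat_lit 168, nat_lit 72, nat_lit 144, nat_lit 48, nat_lit 144, nat_lit 48, nat_lit 168, nat_lit 48, nat_lit 168, nat_lit 168, nat_lit 48, nat_lit 168, nat_lit 72, nat_lit 144, nat_lit 144, nat_lit 72, nat_lit 144, nat_lit 72])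
noncomputable def r550 : WT := (.node (nat_lit 72) (.node (nat_lit 69) (.node (nat_lit 68) r539 r540) (.node (nat_lit 70) r541 (.node (nat_lit 71) r542 r543))) (.node (nat_lit 75) (.node (nat_lit 73) r544 (.node (nat_lit 74) r545 r546)) (.node (nat_lit 76) r547 (.node (nat_lit 77) r548 r549))))
noncomputable def r551 : WT := (.leaf (nat_lit 8195) [nat_lit 72, nat_lit 96, nat_lit 144, nat_lit 48, nat_lit 144, nat_lit 72, nat_lit 168, nat_lit 48, nat_lit 168, nat_lit 72, nat_lit 120, nat_lit 48, nat_lit 144, nat_lit 72, nat_lit 144, nat_lit 48, nat_lit 168, nat_lit 72, nat_lit 168, nat_lit 120, nat_lit 48, nat_lit 168])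
noncomputable def r552 : WT := (.leaf (nat_lit 17415) [nat_lit 48, nat_lit 120, nat_lit 168, nat_lit 96, nat_lit 48, nat_lit 144, nat_lit 48, nat_lit 168, nat_lit 72, nat_lit 168, nat_lit 72, nat_lit 120, nat_lit 144, nat_lit 96, nat_lit 72, nat_lit 168, nat_lit 72, nat_lit 144, nat_lit 48, nat_lit 144])
noncomputable def r553 : WT := (.leaf (nat_lit 16400) [nat_lit 48, nat_lit 96, nat_lit 72, nat_lit 168, nat_lit 72, nat_lit 168, nat_lit 48, nat_lit 168, nat_lit 72, nat_lit 168, nat_lit 72, nat_lit 96, nat_lit 48, nat_lit 144, nat_lit 48, nat_lit 144, nat_lit 72, nat_lit 144, nat_lit 48, nat_lit 144])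
noncomputable def r554 : WT := (.leaf (nat_lit 16420) [nat_lit 72, nat_lit 96, nat_lit 48, nat_lit 144, nat_lit 48, nat_lit 144, nat_lit 72, nat_lit 144, nat_lit 48, nat_lit 144, nat_lit 48, nat_lit 96, nat_lit 72, nat_lit 168, nat_lit 72, nat_lit 168, nat_lit 48, nat_lit 168, nat_lit 72, nat_lit 168])
noncomputable def r555 : WT := (.leaf (nat_lit 19464) [nat_lit 144, nat_lit 72, nat_lit 168, nat_lit 72, nat_lit 144, nat_lit 48, nat_lit 144, nat_lit 48, nat_lit 168, nat_lit 48, nat_lit 168, nat_lit 168, nat_lit 48, nat_lit 168, nat_lit 72, nat_lit 144, nat_lit 144, nat_lit 72])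
noncomputable def r556 : WT := (.leaf (nat_lit 14346) [nat_lit 168, nat_lit 72, nat_lit 168, nat_lit 72, nat_lit 72, nat_lit 144, nat_lit 48, nat_lit 48, nat_lit 144, nat_lit 48, nat_lit 144, nat_lit 48, nat_lit 168, nat_lit 48, nat_lit 168, nat_lit 48, nat_lit 120, nat_lit 72, nat_lit 144, nat_lit 72, nat_lit 144, nat_lit 72])
noncomputable def r557 : WT := (.leaf (nat_lit 14350) [nat_lit 168, nat_lit 72, nat_lit 72, nat_lit 144, nat_lit 48, nat_lit 48, nat_lit 144, nat_lit 48, nat_lit 144, nat_lit 48, nat_lit 168, nat_lit 48, nat_lit 168, nat_lit 48, nat_lit 120, nat_lit 72, nat_lit 144, nat_lit 72, nat_lit 144, nat_lit 72, nat_lit 168, nat_lit 72])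
noncomputable def r558 : WT := (.leaf (nat_lit 14348) [nat_lit 72, nat_lit 168, nat_lit 72, nat_lit 72, nat_lit 144, nat_lit 48, nat_lit 48, nat_lit 144, nat_lit 48, nat_lit 144, nat_lit 48, nat_lit 168, nat_lit 48, nat_lit 168, nat_lit 48, nat_lit 120, nat_lit 72, nat_lit 144, nat_lit 72, nat_lit 144, nat_lit 72, nat_lit 168])
noncomputable def r559 : WT := (.leaf (nat_lit 13319) [nat_lit 48, nat_lit 168, nat_lit 72, nat_lit 144, nat_lit 48, nat_lit 144, nat_lit 120, nat_lit 72, nat_lit 168, nat_lit 48, nat_lit 96, nat_lit 168, nat_lit 72, nat_lit 168, nat_lit 48, nat_lit 144, nat_lit 72, nat_lit 144, nat_lit 48, nat_lit 96, nat_lit 72, nat_lit 168])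
noncomputable def r560 : WT := (.leaf (nat_lit 13321) [nat_lit 168, nat_lit 72, nat_lit 144, nat_lit 48, nat_lit 144, nat_lit 120, nat_lit 72, nat_lit 168, nat_lit 48, nat_lit 96, nat_lit 168, nat_lit 72, nat_lit 168, nat_lit 48, nat_lit 144, nat_lit 72, nat_lit 144, nat_lit 48, nat_lit 96, nat_lit 72, nat_lit 168, nat_lit 48])
noncomputable def r561 : WT := (.leaf (nat_lit 13323) [nat_lit 72, nat_lit 144, nat_lit 48, nat_lit 144, nat_lit 120, nat_lit 72, nat_lit 168, nat_lit 48, nat_lit 96, nat_lit 168, nat_lit 72, nat_lit 168, nat_lit 48, nat_lit 144, nat_lit 72, nat_lit 144, nat_lit 48, nat_lit 96, nat_lit 72, nat_lit 168, nat_lit 48, nat_lit 168])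
noncomputable def r562 : WT := (.node (nat_lit 88) r560 r561)
noncomputable def r563 : WT := (.leaf (nat_lit 13331) [nat_lit 120, nat_lit 72, nat_lit 168, nat_lit 48, nat_lit 96, nat_lit 168, nat_lit 72, nat_lit 168, nat_lit 48, nat_lit 144, nat_lit 72, nat_lit 144, nat_lit 48, nat_lit 96, nat_lit 72, nat_lit 168, nat_lit 48, nat_lit 168, nat_lit 72, nat_lit 144, nat_lit 48, nat_lit 144])
noncomputable def r564 : WT := (.leaf (nat_lit 14342) [nat_lit 144, nat_lit 72, nat_lit 168, nat_lit 72, nat_lit 168, nat_lit 72, nat_lit 72, nat_lit 144, nat_lit 48, nat_lit 48, nat_lit 144, nat_lit 48, nat_lit 144, nat_lit 48, nat_lit 168, nat_lit 48, nat_lit 168, nat_lit 48, nat_lit 120, nat_lit 72, nat_lit 144, nat_lit 72])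
noncomputable def r565 : WT := (.leaf (nat_lit 14340) [nat_lit 72, nat_lit 144, nat_lit 72, nat_lit 168, nat_lit 72, nat_lit 168, nat_lit 72, nat_lit 72, nat_lit 144, nat_lit 48, nat_lit 48, nat_lit 144, nat_lit 48, nat_lit 144, nat_lit 48, nat_lit 168, nat_lit 48, nat_lit 168, nat_lit 48, nat_lit 120, nat_lit 72, nat_lit 144])
noncomputable def r566 : WT := (.leaf (nat_lit 19471) [nat_lit 168, nat_lit 72, nat_lit 168, nat_lit 48, nat_lit 144, nat_lit 48, nat_lit 168, nat_lit 48, nat_lit 168, nat_lit 168, nat_lit 48, nat_lit 144, nat_lit 72, nat_lit 144, nat_lit 144, nat_lit 72, nat_lit 144, nat_lit 72])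
noncomputable def r567 : WT := (.leaf (nat_lit 13324) [nat_lit 48, nat_lit 144, nat_lit 120, nat_lit 72, nat_lit 144, nat_lit 48, nat_lit 96, nat_lit 168, nat_lit 72, nat_lit 168, nat_lit 48, nat_lit 144, nat_lit 72, nat_lit 144, nat_lit 48, nat_lit 120, nat_lit 72, nat_lit 168, nat_lit 48, nat_lit 168, nat_lit 72, nat_lit 144])
noncomputable def r568 : WT := (.node (nat_lit 93) r566 r567)
noncomputable def r569 : WT := (.node (nat_lit 84) (.node (nat_lit 81) (.node (nat_lit 79) r551 (.node (nat_lit 80) r552 r553)) (.node (nat_lit 82) r554 (.node (nat_lit 83) r555 r556))) (.node (nat_lit 89) (.node (nat_lit 86) (.node (nat_lit 85) r557 r558) (.node (nat_lit 87) r559 r562)) (.node (nat_lit 91) (.node (nat_lit 90) r563 r564) (.node (nat_lit 92) r565 r568))))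
noncomputable def r570 : WT := (.leaf (nat_lit 13333) [nat_lit 72, nat_lit 168, nat_lit 48, nat_lit 96, nat_lit 168, nat_lit 72, nat_lit 168, nat_lit 48, nat_lit 144, nat_lit 72, nat_lit 144, nat_lit 48, nat_lit 96, nat_lit 72, nat_lit 168, nat_lit 48, nat_lit 168, nat_lit 72, nat_lit 144, nat_lit 48, nat_lit 144, nat_lit 120])
noncomputable def r571 : WT := (.leaf (nat_lit 13337) [nat_lit 48, nat_lit 96, nat_lit 168, nat_lit 72, nat_lit 168, nat_lit 48, nat_lit 144, nat_lit 72, nat_lit 144, nat_lit 48, nat_lit 96, nat_lit 72, nat_lit 168, nat_lit 48, nat_lit 168, nat_lit 72, nat_lit 144, nat_lit 48, nat_lit 144, nat_lit 120, nat_lit 72, nat_lit 168])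
noncomputable def r572 : WT := (.leaf (nat_lit 13339) [nat_lit 96, nat_lit 168, nat_lit 72, nat_lit 168, nat_lit 48, nat_lit 144, nat_lit 72, nat_lit 144, nat_lit 48, nat_lit 96, nat_lit 72, nat_lit 168, nat_lit 48, nat_lit 168, nat_lit 72, nat_lit 144, nat_lit 48, nat_lit 144, nat_lit 120, nat_lit 72, nat_lit 168, nat_lit 48])
noncomputable def r573 : WT := (.leaf (nat_lit 19475) [nat_lit 168, nat_lit 48, nat_lit 144, nat_lit 48, nat_lit 168, nat_lit 48, nat_lit 168, nat_lit 168, nat_lit 48, nat_lit 144, nat_lit 72, nat_lit 144, nat_lit 144, nat_lit 72, nat_lit 144, nat_lit 72, nat_lit 168, nat_lit 72])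
noncomputable def r574 : WT := (.leaf (nat_lit 16390) [nat_lit 144, nat_lit 72, nat_lit 144, nat_lit 48, nat_lit 144, nat_lit 48, nat_lit 96, nat_lit 72, nat_lit 168, nat_lit 72, nat_lit 168, nat_lit 48, nat_lit 168, nat_lit 72, nat_lit 168, nat_lit 72, nat_lit 96, nat_lit 48, nat_lit 144, nat_lit 48])
noncomputable def r575 : WT := (.node (nat_lit 98) r573 r574)
noncomputable def r576 : WT := (.leaf (nat_lit 13326) [nat_lit 144, nat_lit 120, nat_lit 72, nat_lit 144, nat_lit 48, nat_lit 96, nat_lit 168, nat_lit 72, nat_lit 168, nat_lit 48, nat_lit 144, nat_lit 72, nat_lit 144, nat_lit 48, nat_lit 120, nat_lit 72, nat_lit 168, nat_lit 48, nat_lit 168, nat_lit 72, nat_lit 144, nat_lit 48])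
noncomputable def r577 : WT := (.leaf (nat_lit 14368) [nat_lit 48, nat_lit 168, nat_lit 48, nat_lit 168, nat_lit 48, nat_lit 120, nat_lit 72, nat_lit 144, nat_lit 72, nat_lit 144, nat_lit 72, nat_lit 168, nat_lit 72, nat_lit 168, nat_lit 72, nat_lit 72, nat_lit 144, nat_lit 48, nat_lit 48, nat_lit 144, nat_lit 48, nat_lit 144])
noncomputable def r578 : WT := (.leaf (nat_lit 13320) [nat_lit 72, nat_lit 144, nat_lit 48, nat_lit 144, nat_lit 120, nat_lit 72, nat_lit 144, nat_lit 48, nat_lit 96, nat_lit 168, nat_lit 72, nat_lit 168, nat_lit 48, nat_lit 144, nat_lit 72, nat_lit 144, nat_lit 48, nat_lit 120, nat_lit 72, nat_lit 168, nat_lit 48, nat_lit 168])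
noncomputable def r579 : WT := (.leaf (nat_lit 13318) [nat_lit 168, nat_lit 72, nat_lit 144, nat_lit 48, nat_lit 144, nat_lit 120, nat_lit 72, nat_lit 144, nat_lit 48, nat_lit 96, nat_lit 168, nat_lit 72, nat_lit 168, nat_lit 48, nat_lit 144, nat_lit 72, nat_lit 144, nat_lit 48, nat_lit 120, nat_lit 72, nat_lit 168, nat_lit 48])
noncomputable def r580 : WT := (.leaf (nat_lit 16392) [nat_lit 72, nat_lit 144, nat_lit 48, nat_lit 144, nat_lit 48, nat_lit 96, nat_lit 72, nat_lit 168, nat_lit 72, nat_lit 168, nat_lit 48, nat_lit 168, nat_lit 72, nat_lit 168, nat_lit 72, nat_lit 96, nat_lit 48, nat_lit 144, nat_lit 48, nat_lit 144])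
noncomputable def r581 : WT := (.node (nat_lit 103) r579 r580)
noncomputable def r582 : WT := (.leaf (nat_lit 12323) [nat_lit 168, nat_lit 72, nat_lit 72, nat_lit 144, nat_lit 48, nat_lit 168, nat_lit 72, nat_lit 168, nat_lit 48, nat_lit 48, nat_lit 144, nat_lit 48, nat_lit 168, nat_lit 48, nat_lit 144, nat_lit 72, nat_lit 120, nat_lit 48, nat_lit 168, nat_lit 72, nat_lit 144, nat_lit 72])
noncomputable def r583 : WT := (.leaf (nat_lit 12321) [nat_lit 72, nat_lit 168, nat_lit 72, nat_lit 72, nat_lit 144, nat_lit 48, nat_lit 168, nat_lit 72, nat_lit 168, nat_lit 48, nat_lit 48, nat_lit 144, nat_lit 48, nat_lit 168, nat_lit 48, nat_lit 144, nat_lit 72, nat_lit 120, nat_lit 48, nat_lit 168, nat_lit 72, nat_lit 144])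
noncomputable def r584 : WT := (.leaf (nat_lit 16394) [nat_lit 144, nat_lit 48, nat_lit 144, nat_lit 48, nat_lit 96, nat_lit 72, nat_lit 168, nat_lit 72, nat_lit 168, nat_lit 48, nat_lit 168, nat_lit 72, nat_lit 168, nat_lit 72, nat_lit 96, nat_lit 48, nat_lit 144, nat_lit 48, nat_lit 144, nat_lit 72])
noncomputable def r585 : WT := (.leaf (nat_lit 12305) [nat_lit 48, nat_lit 144, nat_lit 72, nat_lit 120, nat_lit 48, nat_lit 168, nat_lit 72, nat_lit 144, nat_lit 72, nat_lit 168, nat_lit 72, nat_lit 72, nat_lit 144, nat_lit 48, nat_lit 168, nat_lit 72, nat_lit 168, nat_lit 48, nat_lit 48, nat_lit 144, nat_lit 48, nat_lit 168])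
noncomputable def r586 : WT := (.leaf (nat_lit 16396) [nat_lit 48, nat_lit 144, nat_lit 48, nat_lit 96, nat_lit 72, nat_lit 168, nat_lit 72, nat_lit 168, nat_lit 48, nat_lit 168, nat_lit 72, nat_lit 168, nat_lit 72, nat_lit 96, nat_lit 48, nat_lit 144, nat_lit 48, nat_lit 144, nat_lit 72, nat_lit 144])
noncomputable def r587 : WT := (.node (nat_lit 108) r585 r586)
noncomputable def r588 : WT := (.leaf (nat_lit 12295) [nat_lit 48, nat_lit 48, nat_lit 144, nat_lit 48, nat_lit 168, nat_lit 48, nat_lit 144, nat_lit 72, nat_lit 120, nat_lit 48, nat_lit 168, nat_lit 72, nat_lit 144, nat_lit 72, nat_lit 168, nat_lit 72, nat_lit 72, nat_lit 144, nat_lit 48, nat_lit 168, nat_lit 72, nat_lit 168])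
noncomputable def r589 : WT := (.leaf (nat_lit 12289) [nat_lit 168, nat_lit 72, nat_lit 168, nat_lit 48, nat_lit 48, nat_lit 144, nat_lit 48, nat_lit 168, nat_lit 48, nat_lit 144, nat_lit 72, nat_lit 120, nat_lit 48, nat_lit 168, nat_lit 72, nat_lit 144, nat_lit 72, nat_lit 168, nat_lit 72, nat_lit 72, nat_lit 144, nat_lit 48])
noncomputable def r590 : WT := (.leaf (nat_lit 16406) [nat_lit 168, nat_lit 72, nat_lit 168, nat_lit 48, nat_lit 168, nat_lit 72, nat_lit 168, nat_lit 72, nat_lit 96, nat_lit 48, nat_lit 144, nat_lit 48, nat_lit 144, nat_lit 72, nat_lit 144, nat_lit 48, nat_lit 144, nat_lit 48, nat_lit 96, nat_lit 72])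
noncomputable def r591 : WT := (.node (nat_lit 111) r589 r590)
noncomputable def r592 : WT := (.leaf (nat_lit 12318) [nat_lit 72, nat_lit 168, nat_lit 72, nat_lit 72, nat_lit 144, nat_lit 48, nat_lit 144, nat_lit 72, nat_lit 168, nat_lit 48, nat_lit 48, nat_lit 144, nat_lit 48, nat_lit 168, nat_lit 48, nat_lit 144, nat_lit 72, nat_lit 96, nat_lit 48, nat_lit 168, nat_lit 72, nat_lit 144])
noncomputable def r593 : WT := (.leaf (nat_lit 19462) [nat_lit 72, nat_lit 144, nat_lit 72, nat_lit 168, nat_lit 72, nat_lit 144, nat_lit 48, nat_lit 144, nat_lit 48, nat_lit 168, nat_lit 48, nat_lit 168, nat_lit 168, nat_lit 48, nat_lit 168, nat_lit 72, nat_lit 144, nat_lit 144])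
noncomputable def r594 : WT := (.leaf (nat_lit 19474) [nat_lit 48, nat_lit 144, nat_lit 48, nat_lit 168, nat_lit 48, nat_lit 168, nat_lit 168, nat_lit 48, nat_lit 168, nat_lit 72, nat_lit 144, nat_lit 144, nat_lit 72, nat_lit 144, nat_lit 72, nat_lit 168, nat_lit 72, nat_lit 144])
noncomputable def r595 : WT := (.node (nat_lit 114) r593 r594)
noncomputable def r596 : WT := (.node (nat_lit 104) (.node (nat_lit 99) (.node (nat_lit 96) (.node (nat_lit 95) r570 r571) (.node (nat_lit 97) r572 r575)) (.node (nat_lit 101) (.node (nat_lit 100) r576 r577) (.node (nat_lit 102) r578 r581))) (.node (nat_lit 109) (.node (nat_lit 106) (.node (nat_lit 105) r582 r583) (.node (nat_lit 107) r584 r587)) (.node (nat_lit 112) (.node (nat_lit 110) r588 r591) (.node (nat_lit 113) r592 r595))))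
noncomputable def r597 : WT := (.leaf (nat_lit 15374) [nat_lit 168, nat_lit 72, nat_lit 72, nat_lit 96, nat_lit 48, nat_lit 48, nat_lit 144, nat_lit 48, nat_lit 144, nat_lit 48, nat_lit 168, nat_lit 48, nat_lit 168, nat_lit 48, nat_lit 144, nat_lit 72, nat_lit 144, nat_lit 72, nat_lit 144, nat_lit 72, nat_lit 168, nat_lit 72])
noncomputable def r598 : WT := (.leaf (nat_lit 15388) [nat_lit 48, nat_lit 144, nat_lit 48, nat_lit 168, nat_lit 48, nat_lit 168, nat_lit 48, nat_lit 144, nat_lit 72, nat_lit 144, nat_lit 72, nat_lit 144, nat_lit 72, nat_lit 168, nat_lit 72, nat_lit 168, nat_lit 72, nat_lit 72, nat_lit 96, nat_lit 48, nat_lit 48, nat_lit 144])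
noncomputable def r599 : WT := (.leaf (nat_lit 15392) [nat_lit 48, nat_lit 168, nat_lit 48, nat_lit 168, nat_lit 48, nat_lit 144, nat_lit 72, nat_lit 144, nat_lit 72, nat_lit 144, nat_lit 72, nat_lit 168, nat_lit 72, nat_lit 168, nat_lit 72, nat_lit 72, nat_lit 96, nat_lit 48, nat_lit 48, nat_lit 144, nat_lit 48, nat_lit 144])
noncomputable def r600 : WT := (.leaf (nat_lit 19472) [nat_lit 144, nat_lit 48, nat_lit 144, nat_lit 48, nat_lit 168, nat_lit 48, nat_lit 168, nat_lit 168, nat_lit 48, nat_lit 168, nat_lit 72, nat_lit 144, nat_lit 144, nat_lit 72, nat_lit 144, nat_lit 72, nat_lit 168, nat_lit 72])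
noncomputable def r601 : WT := (.leaf (nat_lit 15361) [nat_lit 168, nat_lit 72, nat_lit 144, nat_lit 72, nat_lit 144, nat_lit 72, nat_lit 168, nat_lit 72, nat_lit 168, nat_lit 72, nat_lit 72, nat_lit 120, nat_lit 48, nat_lit 48, nat_lit 144, nat_lit 48, nat_lit 144, nat_lit 48, nat_lit 168, nat_lit 48, nat_lit 168, nat_lit 48])
noncomputable def r602 : WT := (.node (nat_lit 119) r600 r601)
noncomputable def r603 : WT := (.leaf (nat_lit 15363) [nat_lit 72, nat_lit 144, nat_lit 72, nat_lit 144, nat_lit 72, nat_lit 168, nat_lit 72, nat_lit 168, nat_lit 72, nat_lit 72, nat_lit 120, nat_lit 48, nat_lit 48, nat_lit 144, nat_lit 48, nat_lit 144, nat_lit 48, nat_lit 168, nat_lit 48, nat_lit 168, nat_lit 48, nat_lit 168])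
noncomputable def r604 : WT := (.leaf (nat_lit 15365) [nat_lit 144, nat_lit 72, nat_lit 144, nat_lit 72, nat_lit 168, nat_lit 72, nat_lit 168, nat_lit 72, nat_lit 72, nat_lit 120, nat_lit 48, nat_lit 48, nat_lit 144, nat_lit 48, nat_lit 144, nat_lit 48, nat_lit 168, nat_lit 48, nat_lit 168, nat_lit 48, nat_lit 168, nat_lit 72])
noncomputable def r605 : WT := (.leaf (nat_lit 15368) [nat_lit 72, nat_lit 168, nat_lit 72, nat_lit 168, nat_lit 72, nat_lit 72, nat_lit 96, nat_lit 48, nat_lit 48, nat_lit 144, nat_lit 48, nat_lit 144, nat_lit 48, nat_lit 168, nat_lit 48, nat_lit 168, nat_lit 48, nat_lit 144, nat_lit 72, nat_lit 144, nat_lit 72, nat_lit 144])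
noncomputable def r606 : WT := (.leaf (nat_lit 19460) [nat_lit 144, nat_lit 72, nat_lit 144, nat_lit 72, nat_lit 168, nat_lit 72, nat_lit 144, nat_lit 48, nat_lit 144, nat_lit 48, nat_lit 168, nat_lit 48, nat_lit 168, nat_lit 168, nat_lit 48, nat_lit 168, nat_lit 72, nat_lit 144])
noncomputable def r607 : WT := (.leaf (nat_lit 15391) [nat_lit 48, nat_lit 144, nat_lit 48, nat_lit 168, nat_lit 48, nat_lit 168, nat_lit 48, nat_lit 168, nat_lit 72, nat_lit 144, nat_lit 72, nat_lit 144, nat_lit 72, nat_lit 168, nat_lit 72, nat_lit 168, nat_lit 72, nat_lit 72, nat_lit 120, nat_lit 48, nat_lit 48, nat_lit 144])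
noncomputable def r608 : WT := (.node (nat_lit 124) r606 r607)
noncomputable def r609 : WT := (.leaf (nat_lit 15393) [nat_lit 144, nat_lit 48, nat_lit 168, nat_lit 48, nat_lit 168, nat_lit 48, nat_lit 168, nat_lit 72, nat_lit 144, nat_lit 72, nat_lit 144, nat_lit 72, nat_lit 168, nat_lit 72, nat_lit 168, nat_lit 72, nat_lit 72, nat_lit 120, nat_lit 48, nat_lit 48, nat_lit 144, nat_lit 48])
noncomputable def r610 : WT := (.leaf (nat_lit 19458) [nat_lit 144, nat_lit 144, nat_lit 72, nat_lit 144, nat_lit 72, nat_lit 168, nat_lit 72, nat_lit 144, nat_lit 48, nat_lit 144, nat_lit 48, nat_lit 168, nat_lit 48, nat_lit 168, nat_lit 168, nat_lit 48, nat_lit 168, nat_lit 72])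
noncomputable def r611 : WT := (.leaf (nat_lit 15397) [nat_lit 168, nat_lit 48, nat_lit 168, nat_lit 48, nat_lit 168, nat_lit 72, nat_lit 144, nat_lit 72, nat_lit 144, nat_lit 72, nat_lit 168, nat_lit 72, nat_lit 168, nat_lit 72, nat_lit 72, nat_lit 120, nat_lit 48, nat_lit 48, nat_lit 144, nat_lit 48, nat_lit 144, nat_lit 48])
noncomputable def r612 : WT := (.leaf (nat_lit 19456) [nat_lit 72, nat_lit 144, nat_lit 144, nat_lit 72, nat_lit 144, nat_lit 72, nat_lit 168, nat_lit 72, nat_lit 144, nat_lit 48, nat_lit 144, nat_lit 48, nat_lit 168, nat_lit 48, nat_lit 168, nat_lit 168, nat_lit 48, nat_lit 168])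
noncomputable def r613 : WT := (.node (nat_lit 129) r612 (.leaf (nat_lit 7175) [nat_lit 120, nat_lit 144, nat_lit 96, nat_lit 168]))
noncomputable def r614 : WT := (.leaf (nat_lit 8225) [nat_lit 48, nat_lit 168, nat_lit 72, nat_lit 168, nat_lit 120, nat_lit 48, nat_lit 168, nat_lit 72, nat_lit 96, nat_lit 144, nat_lit 48, nat_lit 144, nat_lit 72, nat_lit 168, nat_lit 48, nat_lit 168, nat_lit 72, nat_lit 120, nat_lit 48, nat_lit 144, nat_lit 72, nat_lit 144])
noncomputable def r615 : WT := (.leaf (nat_lit 14347) [nat_lit 72, nat_lit 168, nat_lit 72, nat_lit 168, nat_lit 72, nat_lit 72, nat_lit 168, nat_lit 48, nat_lit 48, nat_lit 144, nat_lit 48, nat_lit 144, nat_lit 48, nat_lit 168, nat_lit 48, nat_lit 168, nat_lit 48, nat_lit 96, nat_lit 72, nat_lit 144, nat_lit 72, nat_lit 144])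
noncomputable def r616 : WT := (.leaf (nat_lit 14356) [nat_lit 144, nat_lit 48, nat_lit 48, nat_lit 144, nat_lit 48, nat_lit 144, nat_lit 48, nat_lit 168, nat_lit 48, nat_lit 168, nat_lit 48, nat_lit 120, nat_lit 72, nat_lit 144, nat_lit 72, nat_lit 144, nat_lit 72, nat_lit 168, nat_lit 72, nat_lit 168, nat_lit 72, nat_lit 72])
noncomputable def r617 : WT := (.node (nat_lit 132) r615 r616)
noncomputable def r618 : WT := (.leaf (nat_lit 19459) [nat_lit 72, nat_lit 144, nat_lit 144, nat_lit 72, nat_lit 144, nat_lit 72, nat_lit 168, nat_lit 72, nat_lit 168, nat_lit 48, nat_lit 144, nat_lit 48, nat_lit 168, nat_lit 48, nat_lit 168, nat_lit 168, nat_lit 48, nat_lit 144])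
noncomputable def r619 : WT := (.leaf (nat_lit 14364) [nat_lit 48, nat_lit 144, nat_lit 48, nat_lit 168, nat_lit 48, nat_lit 168, nat_lit 48, nat_lit 120, nat_lit 72, nat_lit 144, nat_lit 72, nat_lit 144, nat_lit 72, nat_lit 168, nat_lit 72, nat_lit 168, nat_lit 72, nat_lit 72, nat_lit 144, nat_lit 48, nat_lit 48, nat_lit 144])
noncomputable def r620 : WT := (.leaf (nat_lit 15403) [nat_lit 48, nat_lit 168, nat_lit 72, nat_lit 144, nat_lit 72, nat_lit 144, nat_lit 72, nat_lit 168, nat_lit 72, nat_lit 168, nat_lit 72, nat_lit 72, nat_lit 120, nat_lit 48, nat_lit 48, nat_lit 144, nat_lit 48, nat_lit 144, nat_lit 48, nat_lit 168, nat_lit 48, nat_lit 168])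
noncomputable def r621 : WT := (.node (nat_lit 135) r619 r620)
noncomputable def r622 : WT := (.node (nat_lit 125) (.node (nat_lit 120) (.node (nat_lit 117) (.node (nat_lit 116) r597 r598) (.node (nat_lit 118) r599 r602)) (.node (nat_lit 122) (.node (nat_lit 121) r603 r604) (.node (nat_lit 123) r605 r608))) (.node (nat_lit 130) (.node (nat_lit 127) (.node (nat_lit 126) r609 r610) (.node (nat_lit 128) r611 r613)) (.node (nat_lit 133) (.node (nat_lit 131) r614 r617) (.node (nat_lit 134) r618 r621))))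
noncomputable def r623 : WT := (.leaf (nat_lit 19482) [nat_lit 48, nat_lit 168, nat_lit 168, nat_lit 48, nat_lit 168, nat_lit 72, nat_lit 144, nat_lit 144, nat_lit 72, nat_lit 144, nat_lit 72, nat_lit 168, nat_lit 72, nat_lit 144, nat_lit 48, nat_lit 144, nat_lit 48, nat_lit 168])
noncomputable def r624 : WT := (.leaf (nat_lit 19480) [nat_lit 168, nat_lit 48, nat_lit 168, nat_lit 168, nat_lit 48, nat_lit 168, nat_lit 72, nat_lit 144, nat_lit 144, nat_lit 72, nat_lit 144, nat_lit 72, nat_lit 168, nat_lit 72, nat_lit 144, nat_lit 48, nat_lit 144, nat_lit 48])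
noncomputable def r625 : WT := (.leaf (nat_lit 14343) [nat_lit 72, nat_lit 144, nat_lit 72, nat_lit 168, nat_lit 72, nat_lit 168, nat_lit 72, nat_lit 72, nat_lit 168, nat_lit 48, nat_lit 48, nat_lit 144, nat_lit 48, nat_lit 144, nat_lit 48, nat_lit 168, nat_lit 48, nat_lit 168, nat_lit 48, nat_lit 96, nat_lit 72, nat_lit 144])
noncomputable def r626 : WT := (.leaf (nat_lit 14345) [nat_lit 144, nat_lit 72, nat_lit 168, nat_lit 72, nat_lit 168, nat_lit 72, nat_lit 72, nat_lit 168, nat_lit 48, nat_lit 48, nat_lit 144, nat_lit 48, nat_lit 144, nat_lit 48, nat_lit 168, nat_lit 48, nat_lit 168, nat_lit 48, nat_lit 96, nat_lit 72, nat_lit 144, nat_lit 72])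
noncomputable def r627 : WT := (.leaf (nat_lit 19463) [nat_lit 144, nat_lit 72, nat_lit 144, nat_lit 72, nat_lit 168, nat_lit 72, nat_lit 168, nat_lit 48, nat_lit 144, nat_lit 48, nat_lit 168, nat_lit 48, nat_lit 168, nat_lit 168, nat_lit 48, nat_lit 144, nat_lit 72, nat_lit 144])
noncomputable def r628 : WT := (.node (nat_lit 140) r626 r627)
noncomputable def r629 : WT := (.leaf (nat_lit 14349) [nat_lit 168, nat_lit 72, nat_lit 168, nat_lit 72, nat_lit 72, nat_lit 168, nat_lit 48, nat_lit 48, nat_lit 144, nat_lit 48, nat_lit 144, nat_lit 48, nat_lit 168, nat_lit 48, nat_lit 168, nat_lit 48, nat_lit 96, nat_lit 72, nat_lit 144, nat_lit 72, nat_lit 144, nat_lit 72])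
noncomputable def r630 : WT := (.leaf (nat_lit 14351) [nat_lit 72, nat_lit 168, nat_lit 72, nat_lit 72, nat_lit 168, nat_lit 48, nat_lit 48, nat_lit 144, nat_lit 48, nat_lit 144, nat_lit 48, nat_lit 168, nat_lit 48, nat_lit 168, nat_lit 48, nat_lit 96, nat_lit 72, nat_lit 144, nat_lit 72, nat_lit 144, nat_lit 72, nat_lit 168])
noncomputable def r631 : WT := (.leaf (nat_lit 14355) [nat_lit 72, nat_lit 72, nat_lit 168, nat_lit 48, nat_lit 48, nat_lit 144, nat_lit 48, nat_lit 144, nat_lit 48, nat_lit 168, nat_lit 48, nat_lit 168, nat_lit 48, nat_lit 96, nat_lit 72, nat_lit 144, nat_lit 72, nat_lit 144, nat_lit 72, nat_lit 168, nat_lit 72, nat_lit 168])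
noncomputable def r632 : WT := (.leaf (nat_lit 14361) [nat_lit 48, nat_lit 48, nat_lit 144, nat_lit 48, nat_lit 144, nat_lit 48, nat_lit 168, nat_lit 48, nat_lit 168, nat_lit 48, nat_lit 96, nat_lit 72, nat_lit 144, nat_lit 72, nat_lit 144, nat_lit 72, nat_lit 168, nat_lit 72, nat_lit 168, nat_lit 72, nat_lit 72, nat_lit 168])
noncomputable def r633 : WT := (.leaf (nat_lit 14365) [nat_lit 144, nat_lit 48, nat_lit 144, nat_lit 48, nat_lit 168, nat_lit 48, nat_lit 168, nat_lit 48, nat_lit 96, nat_lit 72, nat_lit 144, nat_lit 72, nat_lit 144, nat_lit 72, nat_lit 168, nat_lit 72, nat_lit 168, nat_lit 72, nat_lit 72, nat_lit 168, nat_lit 48, nat_lit 48])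
noncomputable def r634 : WT := (.node (nat_lit 145) r632 r633)
noncomputable def r635 : WT := (.leaf (nat_lit 14371) [nat_lit 48, nat_lit 168, nat_lit 48, nat_lit 168, nat_lit 48, nat_lit 96, nat_lit 72, nat_lit 144, nat_lit 72, nat_lit 144, nat_lit 72, nat_lit 168, nat_lit 72, nat_lit 168, nat_lit 72, nat_lit 72, nat_lit 168, nat_lit 48, nat_lit 48, nat_lit 144, nat_lit 48, nat_lit 144])
noncomputable def r636 : WT := (.leaf (nat_lit 19476) [nat_lit 144, nat_lit 48, nat_lit 168, nat_lit 48, nat_lit 168, nat_lit 168, nat_lit 48, nat_lit 168, nat_lit 72, nat_lit 144, nat_lit 144, nat_lit 72, nat_lit 144, nat_lit 72, nat_lit 168, nat_lit 72, nat_lit 144, nat_lit 48])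
noncomputable def r637 : WT := (.leaf (nat_lit 15360) [nat_lit 72, nat_lit 144, nat_lit 72, nat_lit 144, nat_lit 72, nat_lit 168, nat_lit 72, nat_lit 168, nat_lit 72, nat_lit 72, nat_lit 96, nat_lit 48, nat_lit 48, nat_lit 144, nat_lit 48, nat_lit 144, nat_lit 48, nat_lit 168, nat_lit 48, nat_lit 168, nat_lit 48, nat_lit 144])
noncomputable def r638 : WT := (.leaf (nat_lit 8202) [nat_lit 72, nat_lit 168, nat_lit 48, nat_lit 168, nat_lit 72, nat_lit 96, nat_lit 48, nat_lit 144, nat_lit 72, nat_lit 144, nat_lit 48, nat_lit 168, nat_lit 72, nat_lit 168, nat_lit 120, nat_lit 48, nat_lit 144, nat_lit 72, nat_lit 96, nat_lit 144, nat_lit 48, nat_lit 144])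
noncomputable def r639 : WT := (.leaf (nat_lit 9229) [nat_lit 144, nat_lit 48, nat_lit 48, nat_lit 168, nat_lit 72, nat_lit 120, nat_lit 48, nat_lit 144, nat_lit 72, nat_lit 72, nat_lit 168, nat_lit 72, nat_lit 144, nat_lit 72, nat_lit 168, nat_lit 48, nat_lit 168, nat_lit 72, nat_lit 144, nat_lit 48, nat_lit 168, nat_lit 48])
noncomputable def r640 : WT := (.node (nat_lit 150) r638 r639)
noncomputable def r641 : WT := (.leaf (nat_lit 8234) [nat_lit 144, nat_lit 72, nat_lit 96, nat_lit 144, nat_lit 48, nat_lit 144, nat_lit 72, nat_lit 168, nat_lit 48, nat_lit 168, nat_lit 72, nat_lit 96, nat_lit 48, nat_lit 144, nat_lit 72, nat_lit 144, nat_lit 48, nat_lit 168, nat_lit 72, nat_lit 168, nat_lit 120, nat_lit 48])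
noncomputable def r642 : WT := (.leaf (nat_lit 9245) [nat_lit 72, nat_lit 72, nat_lit 168, nat_lit 72, nat_lit 144, nat_lit 72, nat_lit 168, nat_lit 48, nat_lit 168, nat_lit 72, nat_lit 144, nat_lit 48, nat_lit 168, nat_lit 48, nat_lit 144, nat_lit 48, nat_lit 48, nat_lit 168, nat_lit 72, nat_lit 120, nat_lit 48, nat_lit 144])
noncomputable def r643 : WT := (.leaf (nat_lit 8232) [nat_lit 48, nat_lit 144, nat_lit 72, nat_lit 96, nat_lit 144, nat_lit 48, nat_lit 144, nat_lit 72, nat_lit 168, nat_lit 48, nat_lit 168, nat_lit 72, nat_lit 96, nat_lit 48, nat_lit 144, nat_lit 72, nat_lit 144, nat_lit 48, nat_lit 168, nat_lit 72, nat_lit 168, nat_lit 120])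
noncomputable def r644 : WT := (.node (nat_lit 153) r642 r643)
noncomputable def r645 : WT := (.leaf (nat_lit 9257) [nat_lit 168, nat_lit 48, nat_lit 168, nat_lit 72, nat_lit 144, nat_lit 48, nat_lit 168, nat_lit 48, nat_lit 144, nat_lit 48, nat_lit 48, nat_lit 168, nat_lit 72, nat_lit 120, nat_lit 48, nat_lit 144, nat_lit 72, nat_lit 72, nat_lit 168, nat_lit 72, nat_lit 144, nat_lit 72])
noncomputable def r646 : WT := (.leaf (nat_lit 10250) [nat_lit 72, nat_lit 144, nat_lit 72, nat_lit 144, nat_lit 72, nat_lit 144, nat_lit 48, nat_lit 168, nat_lit 48, nat_lit 168, nat_lit 48, nat_lit 144, nat_lit 48, nat_lit 144, nat_lit 48, nat_lit 48, nat_lit 120, nat_lit 72, nat_lit 72, nat_lit 168, nat_lit 72, nat_lit 168])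
noncomputable def r647 : WT := (.leaf (nat_lit 10258) [nat_lit 72, nat_lit 144, nat_lit 48, nat_lit 168, nat_lit 48, nat_lit 168, nat_lit 48, nat_lit 144, nat_lit 48, nat_lit 144, nat_lit 48, nat_lit 48, nat_lit 120, nat_lit 72, nat_lit 72, nat_lit 168, nat_lit 72, nat_lit 168, nat_lit 72, nat_lit 144, nat_lit 72, nat_lit 144])
noncomputable def r648 : WT := (.node (nat_lit 156) r646 r647)
noncomputable def r649 : WT := (.node (nat_lit 146) (.node (nat_lit 141) (.node (nat_lit 138) (.node (nat_lit 137) r623 r624) (.node (nat_lit 139) r625 r628)) (.node (nat_lit 143) (.node (nat_lit 142) r629 r630) (.node (nat_lit 144) r631 r634))) (.node (nat_lit 151) (.node (nat_lit 148) (.node (nat_lit 147) r635 r636) (.node (nat_lit 149) r637 r640)) (.node (nat_lit 154) (.node (nat_lit 152) r641 r644) (.node (nat_lit 155) r645 r648))))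
noncomputable def r650 : WT := (.leaf (nat_lit 8210) [nat_lit 72, nat_lit 96, nat_lit 48, nat_lit 144, nat_lit 72, nat_lit 144, nat_lit 48, nat_lit 168, nat_lit 72, nat_lit 168, nat_lit 120, nat_lit 48, nat_lit 144, nat_lit 72, nat_lit 96, nat_lit 144, nat_lit 48, nat_lit 144, nat_lit 72, nat_lit 168, nat_lit 48, nat_lit 168])
noncomputable def r651 : WT := (.leaf (nat_lit 9227) [nat_lit 48, nat_lit 144, nat_lit 48, nat_lit 48, nat_lit 168, nat_lit 72, nat_lit 120, nat_lit 48, nat_lit 144, nat_lit 72, nat_lit 72, nat_lit 168, nat_lit 72, nat_lit 144, nat_lit 72, nat_lit 168, nat_lit 48, nat_lit 168, nat_lit 72, nat_lit 144, nat_lit 48, nat_lit 168])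
noncomputable def r652 : WT := (.leaf (nat_lit 10270) [nat_lit 48, nat_lit 144, nat_lit 48, nat_lit 144, nat_lit 48, nat_lit 48, nat_lit 120, nat_lit 72, nat_lit 72, nat_lit 168, nat_lit 72, nat_lit 168, nat_lit 72, nat_lit 144, nat_lit 72, nat_lit 144, nat_lit 72, nat_lit 144, nat_lit 48, nat_lit 168, nat_lit 48, nat_lit 168])
noncomputable def r653 : WT := (.leaf (nat_lit 8198) [nat_lit 48, nat_lit 144, nat_lit 72, nat_lit 168, nat_lit 48, nat_lit 168, nat_lit 72, nat_lit 96, nat_lit 48, nat_lit 144, nat_lit 72, nat_lit 144, nat_lit 48, nat_lit 168, nat_lit 72, nat_lit 168, nat_lit 120, nat_lit 48, nat_lit 144, nat_lit 72, nat_lit 96, nat_lit 144])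
noncomputable def r654 : WT := (.leaf (nat_lit 8196) [nat_lit 144, nat_lit 48, nat_lit 144, nat_lit 72, nat_lit 168, nat_lit 48, nat_lit 168, nat_lit 72, nat_lit 96, nat_lit 48, nat_lit 144, nat_lit 72, nat_lit 144, nat_lit 48, nat_lit 168, nat_lit 72, nat_lit 168, nat_lit 120, nat_lit 48, nat_lit 144, nat_lit 72, nat_lit 96])
noncomputable def r655 : WT := (.node (nat_lit 161) r653 r654)
noncomputable def r656 : WT := (.leaf (nat_lit 10249) [nat_lit 72, nat_lit 168, nat_lit 72, nat_lit 144, nat_lit 72, nat_lit 144, nat_lit 72, nat_lit 168, nat_lit 48, nat_lit 168, nat_lit 48, nat_lit 168, nat_lit 48, nat_lit 144, nat_lit 48, nat_lit 144, nat_lit 48, nat_lit 48, nat_lit 96, nat_lit 72, nat_lit 72, nat_lit 168])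
noncomputable def r657 : WT := (.leaf (nat_lit 10251) [nat_lit 168, nat_lit 72, nat_lit 144, nat_lit 72, nat_lit 144, nat_lit 72, nat_lit 168, nat_lit 48, nat_lit 168, nat_lit 48, nat_lit 168, nat_lit 48, nat_lit 144, nat_lit 48, nat_lit 144, nat_lit 48, nat_lit 48, nat_lit 96, nat_lit 72, nat_lit 72, nat_lit 168, nat_lit 72])
noncomputable def r658 : WT := (.leaf (nat_lit 10253) [nat_lit 72, nat_lit 144, nat_lit 72, nat_lit 144, nat_lit 72, nat_lit 168, nat_lit 48, nat_lit 168, nat_lit 48, nat_lit 168, nat_lit 48, nat_lit 144, nat_lit 48, nat_lit 144, nat_lit 48, nat_lit 48, nat_lit 96, nat_lit 72, nat_lit 72, nat_lit 168, nat_lit 72, nat_lit 168])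
noncomputable def r659 : WT := (.leaf (nat_lit 8194) [nat_lit 96, nat_lit 144, nat_lit 48, nat_lit 144, nat_lit 72, nat_lit 168, nat_lit 48, nat_lit 168, nat_lit 72, nat_lit 96, nat_lit 48, nat_lit 144, nat_lit 72, nat_lit 144, nat_lit 48, nat_lit 168, nat_lit 72, nat_lit 168, nat_lit 120, nat_lit 48, nat_lit 144, nat_lit 72])
noncomputable def r660 : WT := (.leaf (nat_lit 10257) [nat_lit 72, nat_lit 144, nat_lit 72, nat_lit 168, nat_lit 48, nat_lit 168, nat_lit 48, nat_lit 168, nat_lit 48, nat_lit 144, nat_lit 48, nat_lit 144, nat_lit 48, nat_lit 48, nat_lit 96, nat_lit 72, nat_lit 72, nat_lit 168, nat_lit 72, nat_lit 168, nat_lit 72, nat_lit 144])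
noncomputable def r661 : WT := (.node (nat_lit 166) r659 r660)
noncomputable def r662 : WT := (.leaf (nat_lit 8205) [nat_lit 72, nat_lit 168, nat_lit 48, nat_lit 168, nat_lit 72, nat_lit 120, nat_lit 48, nat_lit 144, nat_lit 72, nat_lit 144, nat_lit 48, nat_lit 168, nat_lit 72, nat_lit 168, nat_lit 120, nat_lit 48, nat_lit 168, nat_lit 72, nat_lit 96, nat_lit 144, nat_lit 48, nat_lit 144])
noncomputable def r663 : WT := (.leaf (nat_lit 8227) [nat_lit 168, nat_lit 72, nat_lit 168, nat_lit 120, nat_lit 48, nat_lit 168, nat_lit 72, nat_lit 96, nat_lit 144, nat_lit 48, nat_lit 144, nat_lit 72, nat_lit 168, nat_lit 48, nat_lit 168, nat_lit 72, nat_lit 120, nat_lit 48, nat_lit 144, nat_lit 72, nat_lit 144, nat_lit 48])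
noncomputable def r664 : WT := (.leaf (nat_lit 8221) [nat_lit 72, nat_lit 144, nat_lit 48, nat_lit 168, nat_lit 72, nat_lit 168, nat_lit 120, nat_lit 48, nat_lit 168, nat_lit 72, nat_lit 96, nat_lit 144, nat_lit 48, nat_lit 144, nat_lit 72, nat_lit 168, nat_lit 48, nat_lit 168, nat_lit 72, nat_lit 120, nat_lit 48, nat_lit 144])
noncomputable def r665 : WT := (.leaf (nat_lit 8233) [nat_lit 120, nat_lit 48, nat_lit 168, nat_lit 72, nat_lit 96, nat_lit 144, nat_lit 48, nat_lit 144, nat_lit 72, nat_lit 168, nat_lit 48, nat_lit 168, nat_lit 72, nat_lit 120, nat_lit 48, nat_lit 144, nat_lit 72, nat_lit 144, nat_lit 48, nat_lit 168, nat_lit 72, nat_lit 168])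
noncomputable def r666 : WT := (.leaf (nat_lit 8209) [nat_lit 48, nat_lit 168, nat_lit 72, nat_lit 120, nat_lit 48, nat_lit 144, nat_lit 72, nat_lit 144, nat_lit 48, nat_lit 168, nat_lit 72, nat_lit 168, nat_lit 120, nat_lit 48, nat_lit 168, nat_lit 72, nat_lit 96, nat_lit 144, nat_lit 48, nat_lit 144, nat_lit 72, nat_lit 168])
noncomputable def r667 : WT := (.node (nat_lit 171) r665 r666)
noncomputable def r668 : WT := (.leaf (nat_lit 9226) [nat_lit 144, nat_lit 48, nat_lit 48, nat_lit 168, nat_lit 72, nat_lit 96, nat_lit 48, nat_lit 144, nat_lit 72, nat_lit 72, nat_lit 168, nat_lit 72, nat_lit 144, nat_lit 72, nat_lit 168, nat_lit 48, nat_lit 144, nat_lit 72, nat_lit 144, nat_lit 48, nat_lit 168, nat_lit 48])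
noncomputable def r669 : WT := (.leaf (nat_lit 9228) [nat_lit 48, nat_lit 48, nat_lit 168, nat_lit 72, nat_lit 96, nat_lit 48, nat_lit 144, nat_lit 72, nat_lit 72, nat_lit 168, nat_lit 72, nat_lit 144, nat_lit 72, nat_lit 168, nat_lit 48, nat_lit 144, nat_lit 72, nat_lit 144, nat_lit 48, nat_lit 168, nat_lit 48, nat_lit 144])
noncomputable def r670 : WT := (.leaf (nat_lit 9232) [nat_lit 168, nat_lit 72, nat_lit 96, nat_lit 48, nat_lit 144, nat_lit 72, nat_lit 72, nat_lit 168, nat_lit 72, nat_lit 144, nat_lit 72, nat_lit 168, nat_lit 48, nat_lit 144, nat_lit 72, nat_lit 144, nat_lit 48, nat_lit 168, nat_lit 48, nat_lit 144, nat_lit 48, nat_lit 48])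
noncomputable def r671 : WT := (.node (nat_lit 174) r669 r670)
noncomputable def r672 : WT := (.leaf (nat_lit 9234) [nat_lit 72, nat_lit 96, nat_lit 48, nat_lit 144, nat_lit 72, nat_lit 72, nat_lit 168, nat_lit 72, nat_lit 144, nat_lit 72, nat_lit 168, nat_lit 48, nat_lit 144, nat_lit 72, nat_lit 144, nat_lit 48, nat_lit 168, nat_lit 48, nat_lit 144, nat_lit 48, nat_lit 48, nat_lit 168])
noncomputable def r673 : WT := (.leaf (nat_lit 10259) [nat_lit 144, nat_lit 72, nat_lit 168, nat_lit 48, nat_lit 168, nat_lit 48, nat_lit 168, nat_lit 48, nat_lit 144, nat_lit 48, nat_lit 144, nat_lit 48, nat_lit 48, nat_lit 96, nat_lit 72, nat_lit 72, nat_lit 168, nat_lit 72, nat_lit 168, nat_lit 72, nat_lit 144, nat_lit 72])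
noncomputable def r674 : WT := (.leaf (nat_lit 9242) [nat_lit 72, nat_lit 72, nat_lit 168, nat_lit 72, nat_lit 144, nat_lit 72, nat_lit 168, nat_lit 48, nat_lit 144, nat_lit 72, nat_lit 144, nat_lit 48, nat_lit 168, nat_lit 48, nat_lit 144, nat_lit 48, nat_lit 48, nat_lit 168, nat_lit 72, nat_lit 96, nat_lit 48, nat_lit 144])
noncomputable def r675 : WT := (.node (nat_lit 177) r673 r674)
noncomputable def r676 : WT := (.node (nat_lit 167) (.node (nat_lit 162) (.node (nat_lit 159) (.node (nat_lit 158) r650 r651) (.node (nat_lit 160) r652 r655)) (.node (nat_lit 164) (.node (nat_lit 163) r656 r657) (.node (nat_lit 165) r658 r661))) (.node (nat_lit 172) (.node (nat_lit 169) (.node (nat_lit 168) r662 r663) (.node (nat_lit 170) r664 r667)) (.node (nat_lit 175) (.node (nat_lit 173) r668 r671) (.node (nat_lit 176) r672 r675))))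
noncomputable def r677 : WT := (.leaf (nat_lit 9244) [nat_lit 72, nat_lit 168, nat_lit 72, nat_lit 144, nat_lit 72, nat_lit 168, nat_lit 48, nat_lit 144, nat_lit 72, nat_lit 144, nat_lit 48, nat_lit 168, nat_lit 48, nat_lit 144, nat_lit 48, nat_lit 48, nat_lit 168, nat_lit 72, nat_lit 96, nat_lit 48, nat_lit 144, nat_lit 72])
noncomputable def r678 : WT := (.leaf (nat_lit 8199) [nat_lit 144, nat_lit 48, nat_lit 144, nat_lit 72, nat_lit 168, nat_lit 48, nat_lit 168, nat_lit 72, nat_lit 120, nat_lit 48, nat_lit 144, nat_lit 72, nat_lit 144, nat_lit 48, nat_lit 168, nat_lit 72, nat_lit 168, nat_lit 120, nat_lit 48, nat_lit 168, nat_lit 72, nat_lit 96])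
noncomputable def r679 : WT := (.leaf (nat_lit 9250) [nat_lit 144, nat_lit 72, nat_lit 168, nat_lit 48, nat_lit 144, nat_lit 72, nat_lit 144, nat_lit 48, nat_lit 168, nat_lit 48, nat_lit 144, nat_lit 48, nat_lit 48, nat_lit 168, nat_lit 72, nat_lit 96, nat_lit 48, nat_lit 144, nat_lit 72, nat_lit 72, nat_lit 168, nat_lit 72])
noncomputable def r680 : WT := (.leaf (nat_lit 9254) [nat_lit 168, nat_lit 48, nat_lit 144, nat_lit 72, nat_lit 144, nat_lit 48, nat_lit 168, nat_lit 48, nat_lit 144, nat_lit 48, nat_lit 48, nat_lit 168, nat_lit 72, nat_lit 96, nat_lit 48, nat_lit 144, nat_lit 72, nat_lit 72, nat_lit 168, nat_lit 72, nat_lit 144, nat_lit 72])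
noncomputable def r681 : WT := (.leaf (nat_lit 9219) [nat_lit 72, nat_lit 144, nat_lit 48, nat_lit 168, nat_lit 48, nat_lit 144, nat_lit 48, nat_lit 48, nat_lit 168, nat_lit 72, nat_lit 120, nat_lit 48, nat_lit 144, nat_lit 72, nat_lit 72, nat_lit 168, nat_lit 72, nat_lit 144, nat_lit 72, nat_lit 168, nat_lit 48, nat_lit 168])
noncomputable def r682 : WT := (.node (nat_lit 182) r680 r681)
noncomputable def r683 : WT := (.leaf (nat_lit 9223) [nat_lit 48, nat_lit 168, nat_lit 48, nat_lit 144, nat_lit 48, nat_lit 48, nat_lit 168, nat_lit 72, nat_lit 120, nat_lit 48, nat_lit 144, nat_lit 72, nat_lit 72, nat_lit 168, nat_lit 72, nat_lit 144, nat_lit 72, nat_lit 168, nat_lit 48, nat_lit 168, nat_lit 72, nat_lit 144])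
noncomputable def r684 : WT := (.leaf (nat_lit 9225) [nat_lit 168, nat_lit 48, nat_lit 144, nat_lit 48, nat_lit 48, nat_lit 168, nat_lit 72, nat_lit 120, nat_lit 48, nat_lit 144, nat_lit 72, nat_lit 72, nat_lit 168, nat_lit 72, nat_lit 144, nat_lit 72, nat_lit 168, nat_lit 48, nat_lit 168, nat_lit 72, nat_lit 144, nat_lit 48])
noncomputable def r685 : WT := (.leaf (nat_lit 16391) [nat_lit 48, nat_lit 144, nat_lit 72, nat_lit 144, nat_lit 48, nat_lit 144, nat_lit 48, nat_lit 120, nat_lit 72, nat_lit 168, nat_lit 72, nat_lit 168, nat_lit 48, nat_lit 168, nat_lit 72, nat_lit 168, nat_lit 72, nat_lit 120, nat_lit 48, nat_lit 144])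
noncomputable def r686 : WT := (.leaf (nat_lit 17410) [nat_lit 144, nat_lit 48, nat_lit 120, nat_lit 168, nat_lit 96, nat_lit 48, nat_lit 144, nat_lit 48, nat_lit 144, nat_lit 72, nat_lit 168, nat_lit 72, nat_lit 120, nat_lit 144, nat_lit 96, nat_lit 72, nat_lit 168, nat_lit 72, nat_lit 168, nat_lit 48])
noncomputable def r687 : WT := (.leaf (nat_lit 11269) [nat_lit 168, nat_lit 48, nat_lit 48, nat_lit 144, nat_lit 48, nat_lit 168, nat_lit 48, nat_lit 144, nat_lit 72, nat_lit 168, nat_lit 48, nat_lit 168, nat_lit 72, nat_lit 144, nat_lit 72, nat_lit 168, nat_lit 72, nat_lit 72, nat_lit 144, nat_lit 48, nat_lit 96, nat_lit 72])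
noncomputable def r688 : WT := (.node (nat_lit 187) r686 r687)
noncomputable def r689 : WT := (.leaf (nat_lit 17408) [nat_lit 48, nat_lit 144, nat_lit 48, nat_lit 120, nat_lit 168, nat_lit 96, nat_lit 48, nat_lit 144, nat_lit 48, nat_lit 144, nat_lit 72, nat_lit 168, nat_lit 72, nat_lit 120, nat_lit 144, nat_lit 96, nat_lit 72, nat_lit 168, nat_lit 72, nat_lit 168])
noncomputable def r690 : WT := (.leaf (nat_lit 16417) [nat_lit 168, nat_lit 72, nat_lit 168, nat_lit 72, nat_lit 120, nat_lit 48, nat_lit 144, nat_lit 48, nat_lit 144, nat_lit 72, nat_lit 144, nat_lit 48, nat_lit 144, nat_lit 48, nat_lit 120, nat_lit 72, nat_lit 168, nat_lit 72, nat_lit 168, nat_lit 48])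
noncomputable def r691 : WT := (.leaf (nat_lit 11281) [nat_lit 48, nat_lit 144, nat_lit 72, nat_lit 168, nat_lit 48, nat_lit 168, nat_lit 72, nat_lit 144, nat_lit 72, nat_lit 168, nat_lit 72, nat_lit 72, nat_lit 144, nat_lit 48, nat_lit 96, nat_lit 72, nat_lit 168, nat_lit 48, nat_lit 48, nat_lit 144, nat_lit 48, nat_lit 168])
noncomputable def r692 : WT := (.leaf (nat_lit 16413) [nat_lit 168, nat_lit 48, nat_lit 168, nat_lit 72, nat_lit 168, nat_lit 72, nat_lit 120, nat_lit 48, nat_lit 144, nat_lit 48, nat_lit 144, nat_lit 72, nat_lit 144, nat_lit 48, nat_lit 144, nat_lit 48, nat_lit 120, nat_lit 72, nat_lit 168, nat_lit 72])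
noncomputable def r693 : WT := (.leaf (nat_lit 11295) [nat_lit 144, nat_lit 72, nat_lit 168, nat_lit 72, nat_lit 72, nat_lit 144, nat_lit 48, nat_lit 96, nat_lit 72, nat_lit 168, nat_lit 48, nat_lit 48, nat_lit 144, nat_lit 48, nat_lit 168, nat_lit 48, nat_lit 144, nat_lit 72, nat_lit 168, nat_lit 48, nat_lit 168, nat_lit 72])
noncomputable def r694 : WT := (.node (nat_lit 192) r692 r693)
noncomputable def r695 : WT := (.leaf (nat_lit 16393) [nat_lit 144, nat_lit 72, nat_lit 144, nat_lit 48, nat_lit 144, nat_lit 48, nat_lit 120, nat_lit 72, nat_lit 168, nat_lit 72, nat_lit 168, nat_lit 48, nat_lit 168, nat_lit 72, nat_lit 168, nat_lit 72, nat_lit 120, nat_lit 48, nat_lit 144, nat_lit 48])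
noncomputable def r696 : WT := (.leaf (nat_lit 17412) [nat_lit 48, nat_lit 120, nat_lit 168, nat_lit 96, nat_lit 48, nat_lit 144, nat_lit 48, nat_lit 144, nat_lit 72, nat_lit 168, nat_lit 72, nat_lit 120, nat_lit 144, nat_lit 96, nat_lit 72, nat_lit 168, nat_lit 72, nat_lit 168, nat_lit 48, nat_lit 144])
noncomputable def r697 : WT := (.leaf (nat_lit 11303) [nat_lit 72, nat_lit 144, nat_lit 48, nat_lit 96, nat_lit 72, nat_lit 168, nat_lit 48, nat_lit 48, nat_lit 144, nat_lit 48, nat_lit 168, nat_lit 48, nat_lit 144, nat_lit 72, nat_lit 168, nat_lit 48, nat_lit 168, nat_lit 72, nat_lit 144, nat_lit 72, nat_lit 168, nat_lit 72])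
noncomputable def r698 : WT := (.node (nat_lit 195) r696 r697)
noncomputable def r699 : WT := (.leaf (nat_lit 11307) [nat_lit 48, nat_lit 96, nat_lit 72, nat_lit 168, nat_lit 48, nat_lit 48, nat_lit 144, nat_lit 48, nat_lit 168, nat_lit 48, nat_lit 144, nat_lit 72, nat_lit 168, nat_lit 48, nat_lit 168, nat_lit 72, nat_lit 144, nat_lit 72, nat_lit 168, nat_lit 72, nat_lit 72, nat_lit 144])
noncomputable def r700 : WT := (.leaf (nat_lit 12288) [nat_lit 72, nat_lit 168, nat_lit 48, nat_lit 48, nat_lit 144, nat_lit 48, nat_lit 168, nat_lit 48, nat_lit 144, nat_lit 72, nat_lit 96, nat_lit 48, nat_lit 168, nat_lit 72, nat_lit 144, nat_lit 72, nat_lit 168, nat_lit 72, nat_lit 72, nat_lit 144, nat_lit 48, nat_lit 144])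
noncomputable def r701 : WT := (.leaf (nat_lit 12290) [nat_lit 168, nat_lit 48, nat_lit 48, nat_lit 144, nat_lit 48, nat_lit 168, nat_lit 48, nat_lit 144, nat_lit 72, nat_lit 96, nat_lit 48, nat_lit 168, nat_lit 72, nat_lit 144, nat_lit 72, nat_lit 168, nat_lit 72, nat_lit 72, nat_lit 144, nat_lit 48, nat_lit 144, nat_lit 72])
noncomputable def r702 : WT := (.node (nat_lit 198) r700 r701)
noncomputable def r703 : WT := (.node (nat_lit 188) (.node (nat_lit 183) (.node (nat_lit 180) (.node (nat_lit 179) r677 r678) (.node (nat_lit 181) r679 r682)) (.node (nat_lit 185) (.node (nat_lit 184) r683 r684) (.node (nat_lit 186) r685 r688))) (.node (nat_lit 193) (.node (nat_lit 190) (.node (nat_lit 189) r689 r690) (.node (nat_lit 191) r691 r694)) (.node (nat_lit 196) (.node (nat_lit 194) r695 r698) (.node (nat_lit 197) r699 r702))))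
noncomputable def r704 : WT := (.leaf (nat_lit 12296) [nat_lit 144, nat_lit 48, nat_lit 168, nat_lit 48, nat_lit 144, nat_lit 72, nat_lit 96, nat_lit 48, nat_lit 168, nat_lit 72, nat_lit 144, nat_lit 72, nat_lit 168, nat_lit 72, nat_lit 72, nat_lit 144, nat_lit 48, nat_lit 144, nat_lit 72, nat_lit 168, nat_lit 48, nat_lit 48])
noncomputable def r705 : WT := (.leaf (nat_lit 12300) [nat_lit 168, nat_lit 48, nat_lit 144, nat_lit 72, nat_lit 96, nat_lit 48, nat_lit 168, nat_lit 72, nat_lit 144, nat_lit 72, nat_lit 168, nat_lit 72, nat_lit 72, nat_lit 144, nat_lit 48, nat_lit 144, nat_lit 72, nat_lit 168, nat_lit 48, nat_lit 48, nat_lit 144, nat_lit 48])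
noncomputable def r706 : WT := (.leaf (nat_lit 16416) [nat_lit 72, nat_lit 168, nat_lit 72, nat_lit 96, nat_lit 48, nat_lit 144, nat_lit 48, nat_lit 144, nat_lit 72, nat_lit 144, nat_lit 48, nat_lit 144, nat_lit 48, nat_lit 96, nat_lit 72, nat_lit 168, nat_lit 72, nat_lit 168, nat_lit 48, nat_lit 168])
noncomputable def r707 : WT := (.leaf (nat_lit 16414) [nat_lit 168, nat_lit 72, nat_lit 168, nat_lit 72, nat_lit 96, nat_lit 48, nat_lit 144, nat_lit 48, nat_lit 144, nat_lit 72, nat_lit 144, nat_lit 48, nat_lit 144, nat_lit 48, nat_lit 96, nat_lit 72, nat_lit 168, nat_lit 72, nat_lit 168, nat_lit 48])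
noncomputable def r708 : WT := (.leaf (nat_lit 11266) [nat_lit 168, nat_lit 48, nat_lit 48, nat_lit 144, nat_lit 48, nat_lit 168, nat_lit 48, nat_lit 144, nat_lit 72, nat_lit 144, nat_lit 48, nat_lit 168, nat_lit 72, nat_lit 144, nat_lit 72, nat_lit 168, nat_lit 72, nat_lit 72, nat_lit 144, nat_lit 48, nat_lit 120, nat_lit 72])
noncomputable def r709 : WT := (.node (nat_lit 203) r707 r708)
noncomputable def r710 : WT := (.leaf (nat_lit 8192) [nat_lit 72, nat_lit 96, nat_lit 144, nat_lit 48, nat_lit 144, nat_lit 72, nat_lit 168, nat_lit 48, nat_lit 168, nat_lit 72, nat_lit 96, nat_lit 48, nat_lit 144, nat_lit 72, nat_lit 144, nat_lit 48, nat_lit 168, nat_lit 72, nat_lit 168, nat_lit 120, nat_lit 48, nat_lit 144])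
noncomputable def r711 : WT := (.leaf (nat_lit 18471) [nat_lit 48, nat_lit 144, nat_lit 72, nat_lit 144, nat_lit 48, nat_lit 120, nat_lit 72, nat_lit 72, nat_lit 168, nat_lit 48, nat_lit 48, nat_lit 168, nat_lit 72, nat_lit 72, nat_lit 144, nat_lit 48, nat_lit 48, nat_lit 96, nat_lit 72, nat_lit 168])
noncomputable def r712 : WT := (.leaf (nat_lit 10267) [nat_lit 168, nat_lit 48, nat_lit 168, nat_lit 48, nat_lit 144, nat_lit 48, nat_lit 144, nat_lit 48, nat_lit 48, nat_lit 96, nat_lit 72, nat_lit 72, nat_lit 168, nat_lit 72, nat_lit 168, nat_lit 72, nat_lit 144, nat_lit 72, nat_lit 144, nat_lit 72, nat_lit 168, nat_lit 48])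
noncomputable def r713 : WT := (.leaf (nat_lit 10269) [nat_lit 48, nat_lit 168, nat_lit 48, nat_lit 144, nat_lit 48, nat_lit 144, nat_lit 48, nat_lit 48, nat_lit 96, nat_lit 72, nat_lit 72, nat_lit 168, nat_lit 72, nat_lit 168, nat_lit 72, nat_lit 144, nat_lit 72, nat_lit 144, nat_lit 72, nat_lit 168, nat_lit 48, nat_lit 168])
noncomputable def r714 : WT := (.leaf (nat_lit 17433) [nat_lit 168, nat_lit 72, nat_lit 120, nat_lit 144, nat_lit 96, nat_lit 72, nat_lit 168, nat_lit 72, nat_lit 144, nat_lit 48, nat_lit 144, nat_lit 48, nat_lit 120, nat_lit 168, nat_lit 96, nat_lit 48, nat_lit 144, nat_lit 48, nat_lit 168, nat_lit 72])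
noncomputable def r715 : WT := (.node (nat_lit 208) r713 r714)
noncomputable def r716 : WT := (.leaf (nat_lit 17427) [nat_lit 48, nat_lit 168, nat_lit 72, nat_lit 168, nat_lit 72, nat_lit 120, nat_lit 144, nat_lit 96, nat_lit 72, nat_lit 168, nat_lit 72, nat_lit 144, nat_lit 48, nat_lit 144, nat_lit 48, nat_lit 120, nat_lit 168, nat_lit 96, nat_lit 48, nat_lit 144])
noncomputable def r717 : WT := (.leaf (nat_lit 10279) [nat_lit 144, nat_lit 48, nat_lit 48, nat_lit 96, nat_lit 72, nat_lit 72, nat_lit 168, nat_lit 72, nat_lit 168, nat_lit 72, nat_lit 144, nat_lit 72, nat_lit 144, nat_lit 72, nat_lit 168, nat_lit 48, nat_lit 168, nat_lit 48, nat_lit 168, nat_lit 48, nat_lit 144, nat_lit 48])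
noncomputable def r718 : WT := (.leaf (nat_lit 17432) [nat_lit 72, nat_lit 120, nat_lit 144, nat_lit 96, nat_lit 72, nat_lit 168, nat_lit 72, nat_lit 168, nat_lit 48, nat_lit 144, nat_lit 48, nat_lit 120, nat_lit 168, nat_lit 96, nat_lit 48, nat_lit 144, nat_lit 48, nat_lit 144, nat_lit 72, nat_lit 168])
noncomputable def r719 : WT := (.leaf (nat_lit 12316) [nat_lit 144, nat_lit 72, nat_lit 168, nat_lit 72, nat_lit 72, nat_lit 144, nat_lit 48, nat_lit 144, nat_lit 72, nat_lit 168, nat_lit 48, nat_lit 48, nat_lit 144, nat_lit 48, nat_lit 168, nat_lit 48, nat_lit 144, nat_lit 72, nat_lit 96, nat_lit 48, nat_lit 168, nat_lit 72])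
noncomputable def r720 : WT := (.leaf (nat_lit 17426) [nat_lit 144, nat_lit 72, nat_lit 168, nat_lit 72, nat_lit 120, nat_lit 144, nat_lit 96, nat_lit 72, nat_lit 168, nat_lit 72, nat_lit 168, nat_lit 48, nat_lit 144, nat_lit 48, nat_lit 120, nat_lit 168, nat_lit 96, nat_lit 48, nat_lit 144, nat_lit 48])
noncomputable def r721 : WT := (.node (nat_lit 213) r719 r720)
noncomputable def r722 : WT := (.leaf (nat_lit 11276) [nat_lit 168, nat_lit 48, nat_lit 144, nat_lit 72, nat_lit 144, nat_lit 48, nat_lit 168, nat_lit 72, nat_lit 144, nat_lit 72, nat_lit 168, nat_lit 72, nat_lit 72, nat_lit 144, nat_lit 48, nat_lit 120, nat_lit 72, nat_lit 168, nat_lit 48, nat_lit 48, nat_lit 144, nat_lit 48])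
noncomputable def r723 : WT := (.leaf (nat_lit 17418) [nat_lit 96, nat_lit 48, nat_lit 144, nat_lit 48, nat_lit 144, nat_lit 72, nat_lit 168, nat_lit 72, nat_lit 120, nat_lit 144, nat_lit 96, nat_lit 72, nat_lit 168, nat_lit 72, nat_lit 168, nat_lit 48, nat_lit 144, nat_lit 48, nat_lit 120, nat_lit 168])
noncomputable def r724 : WT := (.leaf (nat_lit 11282) [nat_lit 72, nat_lit 144, nat_lit 48, nat_lit 168, nat_lit 72, nat_lit 144, nat_lit 72, nat_lit 168, nat_lit 72, nat_lit 72, nat_lit 144, nat_lit 48, nat_lit 120, nat_lit 72, nat_lit 168, nat_lit 48, nat_lit 48, nat_lit 144, nat_lit 48, nat_lit 168, nat_lit 48, nat_lit 144])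
noncomputable def r725 : WT := (.node (nat_lit 216) r723 r724)
noncomputable def r726 : WT := (.leaf (nat_lit 11284) [nat_lit 144, nat_lit 48, nat_lit 168, nat_lit 72, nat_lit 144, nat_lit 72, nat_lit 168, nat_lit 72, nat_lit 72, nat_lit 144, nat_lit 48, nat_lit 120, nat_lit 72, nat_lit 168, nat_lit 48, nat_lit 48, nat_lit 144, nat_lit 48, nat_lit 168, nat_lit 48, nat_lit 144, nat_lit 72])
noncomputable def r727 : WT := (.leaf (nat_lit 11288) [nat_lit 168, nat_lit 72, nat_lit 144, nat_lit 72, nat_lit 168, nat_lit 72, nat_lit 72, nat_lit 144, nat_lit 48, nat_lit 120, nat_lit 72, nat_lit 168, nat_lit 48, nat_lit 48, nat_lit 144, nat_lit 48, nat_lit 168, nat_lit 48, nat_lit 144, nat_lit 72, nat_lit 144, nat_lit 48])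
noncomputable def r728 : WT := (.leaf (nat_lit 11294) [nat_lit 72, nat_lit 168, nat_lit 72, nat_lit 72, nat_lit 144, nat_lit 48, nat_lit 120, nat_lit 72, nat_lit 168, nat_lit 48, nat_lit 48, nat_lit 144, nat_lit 48, nat_lit 168, nat_lit 48, nat_lit 144, nat_lit 72, nat_lit 144, nat_lit 48, nat_lit 168, nat_lit 72, nat_lit 144])
noncomputable def r729 : WT := (.node (nat_lit 219) r727 r728)
noncomputable def r730 : WT := (.node (nat_lit 209) (.node (nat_lit 204) (.node (nat_lit 201) (.node (nat_lit 200) r704 r705) (.node (nat_lit 202) r706 r709)) (.node (nat_lit 206) (.node (nat_lit 205) r710 r711) (.node (nat_lit 207) r712 r715))) (.node (nat_lit 214) (.node (nat_lit 211) (.node (nat_lit 210) r716 r717) (.node (nat_lit 212) r718 r721)) (.node (nat_lit 217) (.node (nat_lit 215) r722 r725) (.node (nat_lit 218) r726 r729))))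
noncomputable def wP : WT := (.node (nat_lit 67) (.node (nat_lit 24) (.node (nat_lit 10) (.node (nat_lit 5) r470 r476) (.node (nat_lit 17) r484 r492)) (.node (nat_lit 45) (.node (nat_lit 34) r503 r515) (.node (nat_lit 56) r527 r538))) (.node (nat_lit 136) (.node (nat_lit 94) (.node (nat_lit 78) r550 r569) (.node (nat_lit 115) r596 r622)) (.node (nat_lit 178) (.node (nat_lit 157) r649 r676) (.node (nat_lit 199) r703 r730))))
noncomputable def P : Par := ⟨tb, nat_lit 192, nat_lit 0xffffffffffffffffffffffffffffffffffffffffffffffff, nat_lit 11228, nat_lit 16777215, nat_lit 16383, nat_lit 24, nat_lit 14, nat_lit 6000,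
  [nat_lit 48, nat_lit 72, nat_lit 96, nat_lit 120, nat_lit 144, nat_lit 168], [nat_lit 48, nat_lit 96], wP,
  (.cons (nat_lit 48) w0 (.cons (nat_lit 72) w1 (.cons (nat_lit 96) w2 (.cons (nat_lit 120) w3 (.cons (nat_lit 144) w4 (.cons (nat_lit 168) w5 .nil)))))),
  .nil⟩

end Cfsg.Agent.Lib.TCHP2
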