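import Cfsg.Agent.Lib.TCHP3D0

set_option autoImplicit false
set_option maxRecDepth 100000

namespace Cfsg.Agent.Lib.TCHP3
open Cfsg.Agent.Lib.TCCore

noncomputable def n0 : T := (.node (nat_lit 364) l3 l4)
noncomputable def n1 : T := (.node (nat_lit 819) l8 l9)
noncomputable def n2 : T := (.node (nat_lit 1274) l13 l14)
noncomputable def n3 : T := (.node (nat_lit 1547) l16 l17)
noncomputable def n4 : T := (.node (nat_lit 1820) l19 l20)
noncomputable def n5 : T := (.node (nat_lit 2275) l24 l25)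
noncomputable def n6 : T := (.node (nat_lit 2730) l29 l30)
noncomputable def n7 : T := (.node (nat_lit 3185) l34 l35)
noncomputable def n8 : T := (.node (nat_lit 3458) l37 l38)
noncomputable def n9 : T := (.node (nat_lit 3731) l40 l41)
noncomputable def tb : T := (.node (nat_lit 1911) (.node (nat_lit 910) (.node (nat_lit 455) (.node (nat_lit 182) (.node (nat_lit 91) l0 l1) (.node (nat_lit 273) l2 n0)) (.node (nat_lit 637) (.node (nat_lit 546) l5 l6) (.node (nat_lit 728) l7 n1))) (.node (nat_lit 1365) (.node (nat_lit 1092) (.node (nat_lit 1001) l10 l11) (.node (nat_lit 1183) l12 n2)) (.node (nat_lit 1638) (.node (nat_lit 1456) l15 n3) (.node (nat_lit 1729) l18 n4)))) (.node (nat_lit 2821) (.node (nat_lit 2366) (.node (nat_lit 2093) (.node (nat_lit 2002) l21 l22) (.node (nat_lit 2184) l23 n5)) (.node (nat_lit 2548) (.node (nat_lit 2457) l26 l27) (.node (nat_lit 2639) l28 n6))) (.node (nat_lit 3276) (.node (nat_lit 3003) (.node (nat_lit 2912) l31 l32) (.node (nat_lit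 3094) l33 n7)) (.node (nat_lit 3549) (.node (nat_lit 3367) l36 n8) (.node (nat_lit 3640) l39 n9)))))
noncomputable def r0 : WT := (.leaf (nat_lit 24588) [nat_lit 126, nat_lit 105, nat_lit 63, nat_lit 168, nat_lit 42, nat_lit 84, nat_lit 147, nat_lit 63, nat_lit 147, nat_lit 168, nat_lit 42, nat_lit 42, nat_lit 168, nat_lit 42, nat_lit 84, nat_lit 63, nat_lit 189, nat_lit 63, nat_lit 63, nat_lit 189, nat_lit 126])
noncomputable def r1 : WT := (.leaf (nat_lit 22554) [nat_lit 189, nat_lit 189, nat_lit 42, nat_lit 189, nat_lit 63, nat_lit 168, nat_lit 168, nat_lit 63, nat_lit 168, nat_lit 63, nat_lit 189, nat_lit 63, nat_lit 168, nat_lit 42, nat_lit 168, nat_lit 42, nat_lit 189])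
noncomputable def r2 : WT := (.leaf (nat_lit 22546) [nat_lit 168, nat_lit 42, nat_lit 189, nat_lit 42, nat_lit 189, nat_lit 189, nat_lit 42, nat_lit 189, nat_lit 63, nat_lit 168, nat_lit 168, nat_lit 63, nat_lit 168, nat_lit 63, nat_lit 189, nat_lit 63, nat_lit 168])
noncomputable def r3 : WT := (.leaf (nat_lit 26642) [nat_lit 126, nat_lit 63, nat_lit 189, nat_lit 147, nat_lit 42, nat_lit 126, nat_lit 42, nat_lit 126, nat_lit 189, nat_lit 84, nat_lit 42, nat_lit 126, nat_lit 63, nat_lit 105, nat_lit 168, nat_lit 147, nat_lit 63, nat_lit 147, nat_lit 63, nat_lit 126, nat_lit 168])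
noncomputable def r4 : WT := (.node (nat_lit 8) r2 r3)
noncomputable def r5 : WT := (.leaf (nat_lit 27688) [nat_lit 84, nat_lit 63, nat_lit 84, nat_lit 189, nat_lit 42, nat_lit 147, nat_lit 42, nat_lit 147, nat_lit 147, nat_lit 105, nat_lit 42, nat_lit 84, nat_lit 63, nat_lit 84, nat_lit 126, nat_lit 126, nat_lit 63, nat_lit 126, nat_lit 63, nat_lit 168, nat_lit 105])
noncomputable def r6 : WT := (.leaf (nat_lit 23581) [nat_lit 168, nat_lit 42, nat_lit 147, nat_lit 84, nat_lit 42, nat_lit 168, nat_lit 42, nat_lit 105, nat_lit 63, nat_lit 189, nat_lit 63, nat_lit 105, nat_lit 126, nat_lit 63, nat_lit 189, nat_lit 63, nat_lit 189, nat_lit 63, nat_lit 105, nat_lit 42, nat_lit 168])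
noncomputable def r7 : WT := (.leaf (nat_lit 18467) [nat_lit 189, nat_lit 42, nat_lit 189, nat_lit 42, nat_lit 189, nat_lit 63, nat_lit 168, nat_lit 63, nat_lit 168, nat_lit 63, nat_lit 189, nat_lit 63, nat_lit 189, nat_lit 63, nat_lit 63, nat_lit 105, nat_lit 42, nat_lit 42, nat_lit 168, nat_lit 42, nat_lit 168])
noncomputable def r8 : WT := (.node (nat_lit 10) r5 (.node (nat_lit 11) r6 r7))
noncomputable def r9 : WT := (.leaf (nat_lit 18463) [nat_lit 168, nat_lit 42, nat_lit 189, nat_lit 42, nat_lit 189, nat_lit 42, nat_lit 189, nat_lit 63, nat_lit 168, nat_lit 63, nat_lit 168, nat_lit 63, nat_lit 189, nat_lit 63, nat_lit 189, nat_lit 63, nat_lit 63, nat_lit 105, nat_lit 42, nat_lit 42, nat_lit 168])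
noncomputable def r10 : WT := (.leaf (nat_lit 18457) [nat_lit 42, nat_lit 168, nat_lit 42, nat_lit 168, nat_lit 42, nat_lit 189, nat_lit 42, nat_lit 189, nat_lit 42, nat_lit 189, nat_lit 63, nat_lit 168, nat_lit 63, nat_lit 168, nat_lit 63, nat_lit 189, nat_lit 63, nat_lit 189, nat_lit 63, nat_lit 63, nat_lit 105])
noncomputable def r11 : WT := (.leaf (nat_lit 18468) [nat_lit 189, nat_lit 42, nat_lit 168, nat_lit 63, nat_lit 168, nat_lit 63, nat_lit 168, nat_lit 63, nat_lit 189, nat_lit 63, nat_lit 189, nat_lit 63, nat_lit 63, nat_lit 84, nat_lit 42, nat_lit 42, nat_lit 168, nat_lit 42, nat_lit 168, nat_lit 42, nat_lit 189])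
noncomputable def r12 : WT := (.node (nat_lit 13) r9 (.node (nat_lit 14) r10 r11))
noncomputable def r13 : WT := (.leaf (nat_lit 17447) [nat_lit 189, nat_lit 42, nat_lit 84, nat_lit 63, nat_lit 168, nat_lit 63, nat_lit 168, nat_lit 63, nat_lit 189, nat_lit 63, nat_lit 189, nat_lit 63, nat_lit 63, nat_lit 189, nat_lit 42, nat_lit 42, nat_lit 168, nat_lit 42, nat_lit 168, nat_lit 42, nat_lit 189])
noncomputable def r14 : WT := (.leaf (nat_lit 17444) [nat_lit 189, nat_lit 42, nat_lit 105, nat_lit 63, nat_lit 168, nat_lit 63, nat_lit 168, nat_lit 63, nat_lit 189, nat_lit 63, nat_lit 189, nat_lit 63, nat_lit 63, nat_lit 168, nat_lit 42, nat_lit 42, nat_lit 168, nat_lit 42, nat_lit 168, nat_lit 42, nat_lit 189])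
noncomputable def r15 : WT := (.leaf (nat_lit 16391) [nat_lit 189, nat_lit 63, nat_lit 168, nat_lit 42, nat_lit 168, nat_lit 105, nat_lit 63, nat_lit 189, nat_lit 42, nat_lit 84, nat_lit 189, nat_lit 63, nat_lit 189, nat_lit 42, nat_lit 168, nat_lit 63, nat_lit 168, nat_lit 42, nat_lit 84, nat_lit 63, nat_lit 189])
noncomputable def r16 : WT := (.leaf (nat_lit 15377) [nat_lit 168, nat_lit 63, nat_lit 105, nat_lit 42, nat_lit 189, nat_lit 63, nat_lit 168, nat_lit 63, nat_lit 189, nat_lit 63, nat_lit 63, nat_lit 168, nat_lit 42, nat_lit 189, nat_lit 63, nat_lit 189, nat_lit 42, nat_lit 42, nat_lit 168, nat_lit 42, nat_lit 189])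
noncomputable def r17 : WT := (.node (nat_lit 17) (.node (nat_lit 16) r13 r14) (.node (nat_lit 18) r15 r16))
noncomputable def r18 : WT := (.leaf (nat_lit 15382) [nat_lit 189, nat_lit 63, nat_lit 168, nat_lit 63, nat_lit 189, nat_lit 63, nat_lit 63, nat_lit 168, nat_lit 42, nat_lit 168, nat_lit 63, nat_lit 189, nat_lit 42, nat_lit 42, nat_lit 168, nat_lit 42, nat_lit 189, nat_lit 42, nat_lit 168, nat_lit 63, nat_lit 84])
noncomputable def r19 : WT := (.leaf (nat_lit 14361) [nat_lit 189, nat_lit 63, nat_lit 168, nat_lit 63, nat_lit 189, nat_lit 63, nat_lit 63, nat_lit 168, nat_lit 42, nat_lit 84, nat_lit 63, nat_lit 189, nat_lit 42, nat_lit 42, nat_lit 168, nat_lit 42, nat_lit 189, nat_lit 42, nat_lit 168, nat_lit 63, nat_lit 189])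
noncomputable def r20 : WT := (.leaf (nat_lit 14358) [nat_lit 189, nat_lit 63, nat_lit 168, nat_lit 63, nat_lit 189, nat_lit 63, nat_lit 63, nat_lit 168, nat_lit 42, nat_lit 105, nat_lit 63, nat_lit 189, nat_lit 42, nat_lit 42, nat_lit 168, nat_lit 42, nat_lit 189, nat_lit 42, nat_lit 168, nat_lit 63, nat_lit 168])
noncomputable def r21 : WT := (.node (nat_lit 20) r18 (.node (nat_lit 21) r19 r20))
noncomputable def r22 : WT := (.leaf (nat_lit 13349) [nat_lit 168, nat_lit 42, nat_lit 42, nat_lit 84, nat_lit 63, nat_lit 63, nat_lit 189, nat_lit 63, nat_lit 189, nat_lit 63, nat_lit 168, nat_lit 63, nat_lit 168, nat_lit 63, nat_lit 189, nat_lit 42, nat_lit 189, nat_lit 42, nat_lit 189, nat_lit 42, nat_lit 168])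
noncomputable def r23 : WT := (.leaf (nat_lit 13338) [nat_lit 189, nat_lit 42, nat_lit 168, nat_lit 42, nat_lit 168, nat_lit 42, nat_lit 42, nat_lit 105, nat_lit 63, nat_lit 63, nat_lit 189, nat_lit 63, nat_lit 189, nat_lit 63, nat_lit 168, nat_lit 63, nat_lit 168, nat_lit 63, nat_lit 168, nat_lit 42, nat_lit 189])
noncomputable def r24 : WT := (.leaf (nat_lit 13334) [nat_lit 189, nat_lit 42, nat_lit 189, nat_lit 42, nat_lit 168, nat_lit 42, nat_lit 168, nat_lit 42, nat_lit 42, nat_lit 105, nat_lit 63, nat_lit 63, nat_lit 189, nat_lit 63, nat_lit 189, nat_lit 63, nat_lit 168, nat_lit 63, nat_lit 168, nat_lit 63, nat_lit 168])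
noncomputable def r25 : WT := (.node (nat_lit 23) r22 (.node (nat_lit 24) r23 r24))
noncomputable def r26 : WT := (.leaf (nat_lit 11278) [nat_lit 189, nat_lit 63, nat_lit 84, nat_lit 42, nat_lit 168, nat_lit 63, nat_lit 168, nat_lit 42, nat_lit 189, nat_lit 63, nat_lit 189, nat_lit 105, nat_lit 42, nat_lit 168, nat_lit 63, nat_lit 84, nat_lit 168, nat_lit 42, nat_lit 168, nat_lit 63, nat_lit 189])
noncomputable def r27 : WT := (.leaf (nat_lit 31770) [nat_lit 168, nat_lit 63, nat_lit 63, nat_lit 147, nat_lit 63, nat_lit 168, nat_lit 42, nat_lit 126, nat_lit 42, nat_lit 42, nat_lit 189, nat_lit 63, nat_lit 126, nat_lit 126, nat_lit 42, nat_lit 84, nat_lit 63, nat_lit 147, nat_lit 147])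
noncomputable def r28 : WT := (.leaf (nat_lit 31750) [nat_lit 189, nat_lit 63, nat_lit 126, nat_lit 126, nat_lit 42, nat_lit 84, nat_lit 63, nat_lit 147, nat_lit 147, nat_lit 42, nat_lit 168, nat_lit 63, nat_lit 63, nat_lit 147, nat_lit 63, nat_lit 168, nat_lit 42, nat_lit 126, nat_lit 42])
noncomputable def r29 : WT := (.node (nat_lit 26) r26 (.node (nat_lit 27) r27 r28))
noncomputable def r30 : WT := (.leaf (nat_lit 30755) [nat_lit 189, nat_lit 63, nat_lit 84, nat_lit 42, nat_lit 168, nat_lit 63, nat_lit 147, nat_lit 147, nat_lit 168, nat_lit 147, nat_lit 105, nat_lit 63, nat_lit 189, nat_lit 42, nat_lit 84, nat_lit 126, nat_lit 189, nat_lit 126, nat_lit 126])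
noncomputable def r31 : WT := (.leaf (nat_lit 21530) [nat_lit 42, nat_lit 84, nat_lit 63, nat_lit 189, nat_lit 42, nat_lit 189, nat_lit 63, nat_lit 168, nat_lit 42, nat_lit 105, nat_lit 63, nat_lit 63, nat_lit 189, nat_lit 42, nat_lit 42, nat_lit 168, nat_lit 63, nat_lit 63, nat_lit 168])
noncomputable def r32 : WT := (.leaf (nat_lit 21518) [nat_lit 42, nat_lit 168, nat_lit 63, nat_lit 63, nat_lit 168, nat_lit 42, nat_lit 42, nat_lit 84, nat_lit 63, nat_lit 189, nat_lit 42, nat_lit 189, nat_lit 63, nat_lit 168, nat_lit 42, nat_lit 105, nat_lit 63, nat_lit 63, nat_lit 189])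
noncomputable def r33 : WT := (.leaf (nat_lit 22549) [nat_lit 168, nat_lit 42, nat_lit 189, nat_lit 42, nat_lit 189, nat_lit 189, nat_lit 42, nat_lit 168, nat_lit 63, nat_lit 168, nat_lit 168, nat_lit 63, nat_lit 168, nat_lit 63, nat_lit 189, nat_lit 63, nat_lit 189])
noncomputable def r34 : WT := (.node (nat_lit 30) (.node (nat_lit 29) r30 r31) (.node (nat_lit 31) r32 r33))
noncomputable def r35 : WT := (.node (nat_lit 7) (.node (nat_lit 5) (.leaf (nat_lit 4096) [nat_lit 42, nat_lit 42, nat_lit 42, nat_lit 42, nat_lit 42, nat_lit 42]) (.node (nat_lit 6) r0 r1)) (.node (nat_lit 19) (.node (nat_lit 12) (.node (nat_lit 9) r4 r8) (.node (nat_lit 15) r12 r17)) (.node (nat_lit 25) (.node (nat_lit 22) r21 r25) (.node (nat_lit 28) r29 r34))))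
noncomputable def w0 : WT := (.node (nat_lit 1) (.leaf (nat_lit 0) [nat_lit 63]) (.node (nat_lit 2) (.leaf (nat_lit 8194) [nat_lit 105, nat_lit 63, nat_lit 63, nat_lit 84]) (.node (nat_lit 3) (.leaf (nat_lit 8195) [nat_lit 84, nat_lit 63, nat_lit 105, nat_lit 42]) (.node (nat_lit 4) (.leaf (nat_lit 8193) [nat_lit 42, nat_lit 84, nat_lit 63, nat_lit 105]) r35))))
noncomputable def r36 : WT := (.leaf (nat_lit 22534) [nat_lit 168, nat_lit 63, nat_lit 189, nat_lit 63, nat_lit 168, nat_lit 42, nat_lit 168, nat_lit 42, nat_lit 189, nat_lit 42, nat_lit 189, nat_lit 189, nat_lit 42, nat_lit 189, nat_lit 63, nat_lit 168, nat_lit 168])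
noncomputable def r37 : WT := (.leaf (nat_lit 22538) [nat_lit 189, nat_lit 63, nat_lit 168, nat_lit 42, nat_lit 168, nat_lit 42, nat_lit 189, nat_lit 42, nat_lit 189, nat_lit 189, nat_lit 42, nat_lit 189, nat_lit 63, nat_lit 168, nat_lit 168, nat_lit 63, nat_lit 168])
noncomputable def r38 : WT := (.leaf (nat_lit 22542) [nat_lit 168, nat_lit 42, nat_lit 168, nat_lit 42, nat_lit 189, nat_lit 42, nat_lit 189, nat_lit 189, nat_lit 42, nat_lit 189, nat_lit 63, nat_lit 168, nat_lit 168, nat_lit 63, nat_lit 168, nat_lit 63, nat_lit 189])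
noncomputable def r39 : WT := (.leaf (nat_lit 16384) [nat_lit 189, nat_lit 42, nat_lit 189, nat_lit 63, nat_lit 168, nat_lit 42, nat_lit 168, nat_lit 105, nat_lit 63, nat_lit 168, nat_lit 42, nat_lit 84, nat_lit 189, nat_lit 63, nat_lit 189, nat_lit 42, nat_lit 168, nat_lit 63, nat_lit 168, nat_lit 42, nat_lit 105])
noncomputable def r40 : WT := (.leaf (nat_lit 11290) [nat_lit 168, nat_lit 42, nat_lit 189, nat_lit 63, nat_lit 189, nat_lit 105, nat_lit 42, nat_lit 168, nat_lit 63, nat_lit 84, nat_lit 168, nat_lit 42, nat_lit 168, nat_lit 63, nat_lit 189, nat_lit 42, nat_lit 189, nat_lit 63, nat_lit 84, nat_lit 42, nat_lit 168])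
noncomputable def r41 : WT := (.leaf (nat_lit 14362) [nat_lit 168, nat_lit 63, nat_lit 189, nat_lit 63, nat_lit 63, nat_lit 168, nat_lit 42, nat_lit 105, nat_lit 63, nat_lit 189, nat_lit 42, nat_lit 42, nat_lit 168, nat_lit 42, nat_lit 189, nat_lit 42, nat_lit 168, nat_lit 63, nat_lit 168, nat_lit 42, nat_lit 189])
noncomputable def r42 : WT := (.leaf (nat_lit 24607) [nat_lit 147, nat_lit 168, nat_lit 42, nat_lit 42, nat_lit 168, nat_lit 42, nat_lit 105, nat_lit 63, nat_lit 189, nat_lit 63, nat_lit 63, nat_lit 189, nat_lit 126, nat_lit 42, nat_lit 126, nat_lit 105, nat_lit 63, nat_lit 189, nat_lit 42, nat_lit 84, nat_lit 147])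
noncomputable def r43 : WT := (.node (nat_lit 10) r41 r42)
noncomputable def r44 : WT := (.leaf (nat_lit 14357) [nat_lit 189, nat_lit 42, nat_lit 189, nat_lit 63, nat_lit 168, nat_lit 63, nat_lit 189, nat_lit 63, nat_lit 63, nat_lit 168, nat_lit 42, nat_lit 84, nat_lit 63, nat_lit 189, nat_lit 42, nat_lit 42, nat_lit 168, nat_lit 42, nat_lit 189, nat_lit 42, nat_lit 168])
noncomputable def r45 : WT := (.leaf (nat_lit 14369) [nat_lit 189, nat_lit 63, nat_lit 63, nat_lit 168, nat_lit 42, nat_lit 84, nat_lit 63, nat_lit 189, nat_lit 42, nat_lit 42, nat_lit 168, nat_lit 42, nat_lit 189, nat_lit 42, nat_lit 168, nat_lit 63, nat_lit 189, nat_lit 42, nat_lit 189, nat_lit 63, nat_lit 168])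
noncomputable def r46 : WT := (.node (nat_lit 12) r44 r45)
noncomputable def r47 : WT := (.leaf (nat_lit 16392) [nat_lit 168, nat_lit 42, nat_lit 168, nat_lit 105, nat_lit 63, nat_lit 168, nat_lit 42, nat_lit 84, nat_lit 189, nat_lit 63, nat_lit 189, nat_lit 42, nat_lit 168, nat_lit 63, nat_lit 168, nat_lit 42, nat_lit 105, nat_lit 63, nat_lit 189, nat_lit 42, nat_lit 189])
noncomputable def r48 : WT := (.leaf (nat_lit 16423) [nat_lit 168, nat_lit 42, nat_lit 84, nat_lit 63, nat_lit 189, nat_lit 42, nat_lit 189, nat_lit 63, nat_lit 168, nat_lit 42, nat_lit 168, nat_lit 105, nat_lit 63, nat_lit 189, nat_lit 42, nat_lit 84, nat_lit 189, nat_lit 63, nat_lit 189, nat_lit 42, nat_lit 168])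
noncomputable def r49 : WT := (.node (nat_lit 14) r47 r48)
noncomputable def r50 : WT := (.leaf (nat_lit 18440) [nat_lit 189, nat_lit 63, nat_lit 189, nat_lit 63, nat_lit 63, nat_lit 84, nat_lit 42, nat_lit 42, nat_lit 168, nat_lit 42, nat_lit 168, nat_lit 42, nat_lit 189, nat_lit 42, nat_lit 189, nat_lit 42, nat_lit 168, nat_lit 63, nat_lit 168, nat_lit 63, nat_lit 168])
noncomputable def r51 : WT := (.leaf (nat_lit 18447) [nat_lit 189, nat_lit 63, nat_lit 63, nat_lit 105, nat_lit 42, nat_lit 42, nat_lit 168, nat_lit 42, nat_lit 168, nat_lit 42, nat_lit 189, nat_lit 42, nat_lit 189, nat_lit 42, nat_lit 189, nat_lit 63, nat_lit 168, nat_lit 63, nat_lit 168, nat_lit 63, nat_lit 189])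
noncomputable def r52 : WT := (.node (nat_lit 16) r50 r51)
noncomputable def r53 : WT := (.leaf (nat_lit 23559) [nat_lit 105, nat_lit 126, nat_lit 63, nat_lit 189, nat_lit 63, nat_lit 189, nat_lit 63, nat_lit 105, nat_lit 42, nat_lit 168, nat_lit 42, nat_lit 168, nat_lit 42, nat_lit 147, nat_lit 84, nat_lit 42, nat_lit 168, nat_lit 42, nat_lit 105, nat_lit 63, nat_lit 189])
noncomputable def r54 : WT := (.leaf (nat_lit 23565) [nat_lit 189, nat_lit 63, nat_lit 189, nat_lit 63, nat_lit 105, nat_lit 42, nat_lit 168, nat_lit 42, nat_lit 168, nat_lit 42, nat_lit 147, nat_lit 84, nat_lit 42, nat_lit 168, nat_lit 42, nat_lit 105, nat_lit 63, nat_lit 189, nat_lit 63, nat_lit 105, nat_lit 126])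
noncomputable def r55 : WT := (.node (nat_lit 18) r53 r54)
noncomputable def r56 : WT := (.leaf (nat_lit 24604) [nat_lit 147, nat_lit 168, nat_lit 42, nat_lit 42, nat_lit 168, nat_lit 42, nat_lit 84, nat_lit 63, nat_lit 189, nat_lit 63, nat_lit 63, nat_lit 189, nat_lit 126, nat_lit 42, nat_lit 126, nat_lit 105, nat_lit 63, nat_lit 168, nat_lit 42, nat_lit 84, nat_lit 147])
noncomputable def r57 : WT := (.leaf (nat_lit 13333) [nat_lit 189, nat_lit 42, nat_lit 189, nat_lit 42, nat_lit 189, nat_lit 42, nat_lit 168, nat_lit 42, nat_lit 168, nat_lit 42, nat_lit 42, nat_lit 84, nat_lit 63, nat_lit 63, nat_lit 189, nat_lit 63, nat_lit 189, nat_lit 63, nat_lit 168, nat_lit 63, nat_lit 168])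
noncomputable def r58 : WT := (.leaf (nat_lit 13325) [nat_lit 168, nat_lit 63, nat_lit 168, nat_lit 63, nat_lit 189, nat_lit 42, nat_lit 189, nat_lit 42, nat_lit 189, nat_lit 42, nat_lit 168, nat_lit 42, nat_lit 168, nat_lit 42, nat_lit 42, nat_lit 84, nat_lit 63, nat_lit 63, nat_lit 189, nat_lit 63, nat_lit 189])
noncomputable def r59 : WT := (.node (nat_lit 20) r56 (.node (nat_lit 21) r57 r58))
noncomputable def r60 : WT := (.leaf (nat_lit 13321) [nat_lit 189, nat_lit 63, nat_lit 168, nat_lit 63, nat_lit 168, nat_lit 63, nat_lit 189, nat_lit 42, nat_lit 189, nat_lit 42, nat_lit 189, nat_lit 42, nat_lit 168, nat_lit 42, nat_lit 168, nat_lit 42, nat_lit 42, nat_lit 84, nat_lit 63, nat_lit 63, nat_lit 189])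
noncomputable def r61 : WT := (.leaf (nat_lit 11301) [nat_lit 189, nat_lit 105, nat_lit 42, nat_lit 189, nat_lit 63, nat_lit 84, nat_lit 168, nat_lit 42, nat_lit 168, nat_lit 63, nat_lit 189, nat_lit 42, nat_lit 189, nat_lit 63, nat_lit 105, nat_lit 42, nat_lit 168, nat_lit 63, nat_lit 168, nat_lit 42, nat_lit 189])
noncomputable def r62 : WT := (.node (nat_lit 23) r60 r61)
noncomputable def r63 : WT := (.leaf (nat_lit 11277) [nat_lit 189, nat_lit 42, nat_lit 189, nat_lit 63, nat_lit 105, nat_lit 42, nat_lit 168, nat_lit 63, nat_lit 168, nat_lit 42, nat_lit 189, nat_lit 63, nat_lit 189, nat_lit 105, nat_lit 42, nat_lit 189, nat_lit 63, nat_lit 84, nat_lit 168, nat_lit 42, nat_lit 168])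
noncomputable def r64 : WT := (.leaf (nat_lit 20500) [nat_lit 189, nat_lit 63, nat_lit 105, nat_lit 168, nat_lit 84, nat_lit 63, nat_lit 189, nat_lit 63, nat_lit 189, nat_lit 42, nat_lit 168, nat_lit 42, nat_lit 105, nat_lit 189, nat_lit 84, nat_lit 42, nat_lit 168, nat_lit 42, nat_lit 168])
noncomputable def r65 : WT := (.leaf (nat_lit 19479) [nat_lit 189, nat_lit 63, nat_lit 189, nat_lit 42, nat_lit 189, nat_lit 63, nat_lit 189, nat_lit 63, nat_lit 105, nat_lit 42, nat_lit 168, nat_lit 42, nat_lit 168, nat_lit 63, nat_lit 168, nat_lit 42, nat_lit 168, nat_lit 42, nat_lit 105])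
noncomputable def r66 : WT := (.node (nat_lit 25) r63 (.node (nat_lit 26) r64 r65))
noncomputable def r67 : WT := (.leaf (nat_lit 22545) [nat_lit 189, nat_lit 42, nat_lit 168, nat_lit 42, nat_lit 189, nat_lit 42, nat_lit 189, nat_lit 189, nat_lit 42, nat_lit 168, nat_lit 63, nat_lit 168, nat_lit 168, nat_lit 63, nat_lit 168, nat_lit 63, nat_lit 189])
noncomputable def r68 : WT := (.leaf (nat_lit 22537) [nat_lit 168, nat_lit 63, nat_lit 189, nat_lit 63, nat_lit 189, nat_lit 42, nat_lit 168, nat_lit 42, nat_lit 189, nat_lit 42, nat_lit 189, nat_lit 189, nat_lit 42, nat_lit 168, nat_lit 63, nat_lit 168, nat_lit 168])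
noncomputable def r69 : WT := (.node (nat_lit 28) r67 r68)
noncomputable def r70 : WT := (.leaf (nat_lit 22531) [nat_lit 168, nat_lit 168, nat_lit 63, nat_lit 168, nat_lit 63, nat_lit 189, nat_lit 63, nat_lit 189, nat_lit 42, nat_lit 168, nat_lit 42, nat_lit 189, nat_lit 42, nat_lit 189, nat_lit 189, nat_lit 42, nat_lit 168])
noncomputable def r71 : WT := (.leaf (nat_lit 22528) [nat_lit 168, nat_lit 168, nat_lit 63, nat_lit 168, nat_lit 63, nat_lit 189, nat_lit 63, nat_lit 168, nat_lit 42, nat_lit 168, nat_lit 42, nat_lit 189, nat_lit 42, nat_lit 189, nat_lit 189, nat_lit 42, nat_lit 189])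
noncomputable def r72 : WT := (.node (nat_lit 30) r70 (.node (nat_lit 31) r71 (.leaf (nat_lit 4097) [nat_lit 63, nat_lit 63, nat_lit 63, nat_lit 63, nat_lit 63, nat_lit 63])))
noncomputable def r73 : WT := (.node (nat_lit 13) (.node (nat_lit 7) (.node (nat_lit 5) r36 (.node (nat_lit 6) r37 r38)) (.node (nat_lit 9) (.node (nat_lit 8) r39 r40) (.node (nat_lit 11) r43 r46))) (.node (nat_lit 22) (.node (nat_lit 17) (.node (nat_lit 15) r49 r52) (.node (nat_lit 19) r55 r59)) (.node (nat_lit 27) (.node (nat_lit 24) r62 r66) (.node (nat_lit 29) r69 r72))))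
noncomputable def w1 : WT := (.node (nat_lit 1) (.leaf (nat_lit 2) [nat_lit 42]) (.node (nat_lit 2) (.leaf (nat_lit 8200) [nat_lit 84, nat_lit 42, nat_lit 105, nat_lit 63]) (.node (nat_lit 3) (.leaf (nat_lit 8198) [nat_lit 63, nat_lit 84, nat_lit 42, nat_lit 105]) (.node (nat_lit 4) (.leaf (nat_lit 8199) [nat_lit 105, nat_lit 42, nat_lit 42, nat_lit 84]) r73))))
noncomputable def r74 : WT := (.leaf (nat_lit 11266) [nat_lit 168, nat_lit 42, nat_lit 168, nat_lit 63, nat_lit 189, nat_lit 42, nat_lit 189, nat_lit 63, nat_lit 84, nat_lit 42, nat_lit 168, nat_lit 63, nat_lit 168, nat_lit 42, nat_lit 189, nat_lit 63, nat_lit 189, nat_lit 105, nat_lit 42, nat_lit 168, nat_lit 63])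
noncomputable def r75 : WT := (.leaf (nat_lit 30742) [nat_lit 126, nat_lit 189, nat_lit 126, nat_lit 126, nat_lit 42, nat_lit 189, nat_lit 63, nat_lit 105, nat_lit 42, nat_lit 168, nat_lit 63, nat_lit 147, nat_lit 147, nat_lit 168, nat_lit 147, nat_lit 105, nat_lit 63, nat_lit 168, nat_lit 42])
noncomputable def r76 : WT := (.node (nat_lit 9) r74 r75)
noncomputable def r77 : WT := (.leaf (nat_lit 31762) [nat_lit 63, nat_lit 147, nat_lit 147, nat_lit 42, nat_lit 168, nat_lit 63, nat_lit 63, nat_lit 147, nat_lit 63, nat_lit 168, nat_lit 42, nat_lit 126, nat_lit 42, nat_lit 42, nat_lit 189, nat_lit 63, nat_lit 126, nat_lit 126, nat_lit 42])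
noncomputable def r78 : WT := (.leaf (nat_lit 16408) [nat_lit 189, nat_lit 63, nat_lit 189, nat_lit 42, nat_lit 168, nat_lit 63, nat_lit 168, nat_lit 42, nat_lit 105, nat_lit 63, nat_lit 189, nat_lit 42, nat_lit 189, nat_lit 63, nat_lit 168, nat_lit 42, nat_lit 168, nat_lit 105, nat_lit 63, nat_lit 168, nat_lit 42])
noncomputable def r79 : WT := (.node (nat_lit 11) r77 r78)
noncomputable def r80 : WT := (.leaf (nat_lit 23572) [nat_lit 42, nat_lit 168, nat_lit 42, nat_lit 168, nat_lit 42, nat_lit 147, nat_lit 84, nat_lit 42, nat_lit 168, nat_lit 42, nat_lit 84, nat_lit 63, nat_lit 189, nat_lit 63, nat_lit 105, nat_lit 126, nat_lit 63, nat_lit 189, nat_lit 63, nat_lit 189, nat_lit 63])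
noncomputable def r81 : WT := (.leaf (nat_lit 23594) [nat_lit 63, nat_lit 189, nat_lit 63, nat_lit 105, nat_lit 126, nat_lit 63, nat_lit 189, nat_lit 63, nat_lit 189, nat_lit 63, nat_lit 84, nat_lit 42, nat_lit 168, nat_lit 42, nat_lit 168, nat_lit 42, nat_lit 147, nat_lit 84, nat_lit 42, nat_lit 168, nat_lit 42])
noncomputable def r82 : WT := (.node (nat_lit 13) r80 r81)
noncomputable def r83 : WT := (.leaf (nat_lit 26662) [nat_lit 42, nat_lit 126, nat_lit 63, nat_lit 105, nat_lit 168, nat_lit 147, nat_lit 63, nat_lit 147, nat_lit 63, nat_lit 126, nat_lit 168, nat_lit 42, nat_lit 126, nat_lit 63, nat_lit 189, nat_lit 147, nat_lit 42, nat_lit 126, nat_lit 42, nat_lit 126, nat_lit 189])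
noncomputable def r84 : WT := (.leaf (nat_lit 27668) [nat_lit 63, nat_lit 84, nat_lit 126, nat_lit 126, nat_lit 63, nat_lit 126, nat_lit 63, nat_lit 168, nat_lit 105, nat_lit 42, nat_lit 84, nat_lit 63, nat_lit 84, nat_lit 189, nat_lit 42, nat_lit 147, nat_lit 42, nat_lit 147, nat_lit 147, nat_lit 105, nat_lit 42])
noncomputable def r85 : WT := (.node (nat_lit 15) r83 r84)
noncomputable def r86 : WT := (.node (nat_lit 7) (.leaf (nat_lit 10240) [nat_lit 126, nat_lit 105, nat_lit 147]) (.node (nat_lit 8) (.leaf (nat_lit 9216) [nat_lit 168, nat_lit 105, nat_lit 189]) (.node (nat_lit 12) (.node (nat_lit 10) r76 r79) (.node (nat_lit 14) r82 r85))))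
noncomputable def w2 : WT := (.node (nat_lit 1) (.leaf (nat_lit 1024) [nat_lit 105]) (.node (nat_lit 3) (.node (nat_lit 2) (.leaf (nat_lit 5120) [nat_lit 84, nat_lit 84]) (.leaf (nat_lit 10243) [nat_lit 147, nat_lit 105, nat_lit 126])) (.node (nat_lit 5) (.node (nat_lit 4) (.leaf (nat_lit 8192) [nat_lit 42, nat_lit 105, nat_lit 63, nat_lit 63]) (.leaf (nat_lit 9219) [nat_lit 189, nat_lit 105, nat_lit 168])) (.node (nat_lit 6) (.leaf (nat_lit 8197) [nat_lit 63, nat_lit 105, nat_lit 42, nat_lit 42]) r86))))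
noncomputable def r87 : WT := (.leaf (nat_lit 19477) [nat_lit 63, nat_lit 189, nat_lit 63, nat_lit 189, nat_lit 42, nat_lit 189, nat_lit 63, nat_lit 189, nat_lit 63, nat_lit 105, nat_lit 42, nat_lit 168, nat_lit 42, nat_lit 168, nat_lit 63, nat_lit 168, nat_lit 42, nat_lit 168, nat_lit 42])
noncomputable def r88 : WT := (.leaf (nat_lit 20486) [nat_lit 189, nat_lit 84, nat_lit 42, nat_lit 168, nat_lit 42, nat_lit 168, nat_lit 63, nat_lit 189, nat_lit 63, nat_lit 105, nat_lit 168, nat_lit 84, nat_lit 63, nat_lit 189, nat_lit 63, nat_lit 189, nat_lit 42, nat_lit 168, nat_lit 42])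
noncomputable def r89 : WT := (.leaf (nat_lit 11302) [nat_lit 42, nat_lit 168, nat_lit 63, nat_lit 84, nat_lit 168, nat_lit 42, nat_lit 168, nat_lit 63, nat_lit 189, nat_lit 42, nat_lit 189, nat_lit 63, nat_lit 84, nat_lit 42, nat_lit 168, nat_lit 63, nat_lit 168, nat_lit 42, nat_lit 189, nat_lit 63, nat_lit 189])
noncomputable def r90 : WT := (.node (nat_lit 10) r88 r89)
noncomputable def r91 : WT := (.node (nat_lit 6) (.leaf (nat_lit 10244) [nat_lit 147, nat_lit 84, nat_lit 126]) (.node (nat_lit 7) (.leaf (nat_lit 9223) [nat_lit 168, nat_lit 84, nat_lit 189]) (.node (nat_lit 8) (.leaf (nat_lit 9220) [nat_lit 189, nat_lit 84, nat_lit 168]) (.node (nat_lit 9) r87 r90))))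
noncomputable def w3 : WT := (.node (nat_lit 1) (.leaf (nat_lit 1026) [nat_lit 84]) (.node (nat_lit 2) (.leaf (nat_lit 5121) [nat_lit 105, nat_lit 105]) (.node (nat_lit 4) (.node (nat_lit 3) (.leaf (nat_lit 10247) [nat_lit 126, nat_lit 84, nat_lit 147]) (.leaf (nat_lit 8201) [nat_lit 42, nat_lit 42, nat_lit 84, nat_lit 63])) (.node (nat_lit 5) (.leaf (nat_lit 8196) [nat_lit 63, nat_lit 63, nat_lit 84, nat_lit 42]) r91))))
noncomputable def r92 : WT := (.node (nat_lit 5) (.leaf (nat_lit 34818) [nat_lit 168, nat_lit 126, nat_lit 189, nat_lit 147, nat_lit 189, nat_lit 147, nat_lit 168]) (.leaf (nat_lit 34817) [nat_lit 168, nat_lit 126, nat_lit 168, nat_lit 147, nat_lit 189, nat_lit 147, nat_lit 189]))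
noncomputable def r93 : WT := (.leaf (nat_lit 31746) [nat_lit 42, nat_lit 42, nat_lit 189, nat_lit 63, nat_lit 126, nat_lit 126, nat_lit 42, nat_lit 84, nat_lit 63, nat_lit 147, nat_lit 147, nat_lit 42, nat_lit 168, nat_lit 63, nat_lit 63, nat_lit 147, nat_lit 63, nat_lit 168, nat_lit 42])
noncomputable def r94 : WT := (.leaf (nat_lit 33794) [nat_lit 189, nat_lit 147, nat_lit 147, nat_lit 168, nat_lit 126, nat_lit 189, nat_lit 126, nat_lit 126, nat_lit 168, nat_lit 147, nat_lit 168, nat_lit 126, nat_lit 189])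
noncomputable def r95 : WT := (.leaf (nat_lit 33810) [nat_lit 168, nat_lit 147, nat_lit 168, nat_lit 126, nat_lit 189, nat_lit 126, nat_lit 189, nat_lit 147, nat_lit 147, nat_lit 168, nat_lit 126, nat_lit 189, nat_lit 126])
noncomputable def r96 : WT := (.leaf (nat_lit 23560) [nat_lit 63, nat_lit 189, nat_lit 63, nat_lit 189, nat_lit 63, nat_lit 84, nat_lit 42, nat_lit 168, nat_lit 42, nat_lit 168, nat_lit 42, nat_lit 147, nat_lit 84, nat_lit 42, nat_lit 168, nat_lit 42, nat_lit 84, nat_lit 63, nat_lit 189, nat_lit 63, nat_lit 105])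
noncomputable def r97 : WT := (.leaf (nat_lit 29715) [nat_lit 189, nat_lit 147, nat_lit 63, nat_lit 168, nat_lit 63, nat_lit 189, nat_lit 42, nat_lit 189, nat_lit 42, nat_lit 147, nat_lit 189, nat_lit 126, nat_lit 63, nat_lit 168, nat_lit 63, nat_lit 168, nat_lit 42, nat_lit 189, nat_lit 42])
noncomputable def r98 : WT := (.node (nat_lit 8) (.node (nat_lit 7) (.leaf (nat_lit 34822) [nat_lit 189, nat_lit 147, nat_lit 189, nat_lit 147, nat_lit 168, nat_lit 126, nat_lit 168]) (.leaf (nat_lit 34821) [nat_lit 168, nat_lit 147, nat_lit 189, nat_lit 147, nat_lit 189, nat_lit 126, nat_lit 168])) (.node (nat_lit 10) (.node (nat_lit 9) r93 r94) (.node (nat_lit 11) r95 (.node (nat_lit 12) r96 r97))))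
noncomputable def r99 : WT := (.leaf (nat_lit 30751) [nat_lit 126, nat_lit 42, nat_lit 189, nat_lit 63, nat_lit 84, nat_lit 42, nat_lit 168, nat_lit 63, nat_lit 147, nat_lit 147, nat_lit 168, nat_lit 147, nat_lit 105, nat_lit 63, nat_lit 189, nat_lit 42, nat_lit 84, nat_lit 126, nat_lit 189])
noncomputable def r100 : WT := (.leaf (nat_lit 30747) [nat_lit 189, nat_lit 126, nat_lit 126, nat_lit 42, nat_lit 189, nat_lit 63, nat_lit 84, nat_lit 42, nat_lit 168, nat_lit 63, nat_lit 147, nat_lit 147, nat_lit 168, nat_lit 147, nat_lit 105, nat_lit 63, nat_lit 189, nat_lit 42, nat_lit 84])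
noncomputable def r101 : WT := (.leaf (nat_lit 33808) [nat_lit 126, nat_lit 168, nat_lit 147, nat_lit 168, nat_lit 126, nat_lit 189, nat_lit 126, nat_lit 189, nat_lit 147, nat_lit 147, nat_lit 168, nat_lit 126, nat_lit 189])
noncomputable def r102 : WT := (.leaf (nat_lit 31761) [nat_lit 42, nat_lit 105, nat_lit 63, nat_lit 147, nat_lit 147, nat_lit 42, nat_lit 168, nat_lit 63, nat_lit 63, nat_lit 147, nat_lit 63, nat_lit 189, nat_lit 42, nat_lit 126, nat_lit 42, nat_lit 42, nat_lit 189, nat_lit 63, nat_lit 126])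
noncomputable def r103 : WT := (.leaf (nat_lit 24593) [nat_lit 105, nat_lit 63, nat_lit 189, nat_lit 42, nat_lit 84, nat_lit 147, nat_lit 63, nat_lit 147, nat_lit 168, nat_lit 42, nat_lit 42, nat_lit 168, nat_lit 42, nat_lit 105, nat_lit 63, nat_lit 189, nat_lit 63, nat_lit 63, nat_lit 189, nat_lit 126, nat_lit 42])
noncomputable def r104 : WT := (.node (nat_lit 17) r102 r103)
noncomputable def r105 : WT := (.leaf (nat_lit 29712) [nat_lit 168, nat_lit 147, nat_lit 63, nat_lit 168, nat_lit 63, nat_lit 189, nat_lit 42, nat_lit 189, nat_lit 42, nat_lit 147, nat_lit 168, nat_lit 126, nat_lit 63, nat_lit 168, nat_lit 63, nat_lit 168, nat_lit 42, nat_lit 189, nat_lit 42])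
noncomputable def r106 : WT := (.leaf (nat_lit 30748) [nat_lit 126, nat_lit 42, nat_lit 189, nat_lit 63, nat_lit 105, nat_lit 42, nat_lit 168, nat_lit 63, nat_lit 147, nat_lit 147, nat_lit 168, nat_lit 147, nat_lit 105, nat_lit 63, nat_lit 168, nat_lit 42, nat_lit 84, nat_lit 126, nat_lit 189])
noncomputable def r107 : WT := (.node (nat_lit 20) r105 r106)
noncomputable def r108 : WT := (.leaf (nat_lit 23563) [nat_lit 63, nat_lit 189, nat_lit 63, nat_lit 189, nat_lit 63, nat_lit 105, nat_lit 42, nat_lit 168, nat_lit 42, nat_lit 168, nat_lit 42, nat_lit 147, nat_lit 84, nat_lit 42, nat_lit 168, nat_lit 42, nat_lit 105, nat_lit 63, nat_lit 189, nat_lit 63, nat_lit 105])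
noncomputable def r109 : WT := (.leaf (nat_lit 24586) [nat_lit 42, nat_lit 126, nat_lit 105, nat_lit 63, nat_lit 168, nat_lit 42, nat_lit 84, nat_lit 147, nat_lit 63, nat_lit 147, nat_lit 168, nat_lit 42, nat_lit 42, nat_lit 168, nat_lit 42, nat_lit 84, nat_lit 63, nat_lit 189, nat_lit 63, nat_lit 63, nat_lit 189])
noncomputable def r110 : WT := (.leaf (nat_lit 25629) [nat_lit 189, nat_lit 42, nat_lit 42, nat_lit 126, nat_lit 126, nat_lit 168, nat_lit 42, nat_lit 189, nat_lit 63, nat_lit 189, nat_lit 147, nat_lit 147, nat_lit 63, nat_lit 63, nat_lit 168, nat_lit 147, nat_lit 168, nat_lit 42, nat_lit 189, nat_lit 63, nat_lit 189])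
noncomputable def r111 : WT := (.node (nat_lit 23) r109 r110)
noncomputable def r112 : WT := (.leaf (nat_lit 26638) [nat_lit 168, nat_lit 42, nat_lit 126, nat_lit 63, nat_lit 189, nat_lit 147, nat_lit 42, nat_lit 126, nat_lit 42, nat_lit 126, nat_lit 189, nat_lit 84, nat_lit 42, nat_lit 126, nat_lit 63, nat_lit 105, nat_lit 168, nat_lit 147, nat_lit 63, nat_lit 147, nat_lit 63])
noncomputable def r113 : WT := (.leaf (nat_lit 26658) [nat_lit 189, nat_lit 84, nat_lit 42, nat_lit 126, nat_lit 63, nat_lit 105, nat_lit 168, nat_lit 147, nat_lit 63, nat_lit 147, nat_lit 63, nat_lit 126, nat_lit 168, nat_lit 42, nat_lit 126, nat_lit 63, nat_lit 189, nat_lit 147, nat_lit 42, nat_lit 126, nat_lit 42])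
noncomputable def r114 : WT := (.leaf (nat_lit 27674) [nat_lit 126, nat_lit 63, nat_lit 126, nat_lit 63, nat_lit 168, nat_lit 105, nat_lit 42, nat_lit 84, nat_lit 63, nat_lit 84, nat_lit 189, nat_lit 42, nat_lit 147, nat_lit 42, nat_lit 147, nat_lit 147, nat_lit 105, nat_lit 42, nat_lit 84, nat_lit 63, nat_lit 84])
noncomputable def r115 : WT := (.node (nat_lit 26) r113 r114)
noncomputable def r116 : WT := (.leaf (nat_lit 27680) [nat_lit 63, nat_lit 168, nat_lit 105, nat_lit 42, nat_lit 84, nat_lit 63, nat_lit 84, nat_lit 189, nat_lit 42, nat_lit 147, nat_lit 42, nat_lit 147, nat_lit 147, nat_lit 105, nat_lit 42, nat_lit 84, nat_lit 63, nat_lit 84, nat_lit 126, nat_lit 126, nat_lit 63])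
noncomputable def r117 : WT := (.leaf (nat_lit 30753) [nat_lit 42, nat_lit 189, nat_lit 63, nat_lit 84, nat_lit 42, nat_lit 168, nat_lit 63, nat_lit 147, nat_lit 147, nat_lit 168, nat_lit 147, nat_lit 105, nat_lit 63, nat_lit 189, nat_lit 42, nat_lit 84, nat_lit 126, nat_lit 189, nat_lit 126])
noncomputable def r118 : WT := (.node (nat_lit 28) r116 r117)
noncomputable def r119 : WT := (.leaf (nat_lit 30750) [nat_lit 42, nat_lit 189, nat_lit 63, nat_lit 105, nat_lit 42, nat_lit 168, nat_lit 63, nat_lit 147, nat_lit 147, nat_lit 168, nat_lit 147, nat_lit 105, nat_lit 63, nat_lit 168, nat_lit 42, nat_lit 84, nat_lit 126, nat_lit 189, nat_lit 126])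
noncomputable def r120 : WT := (.leaf (nat_lit 33797) [nat_lit 189, nat_lit 147, nat_lit 147, nat_lit 168, nat_lit 147, nat_lit 189, nat_lit 126, nat_lit 126, nat_lit 168, nat_lit 147, nat_lit 168, nat_lit 147, nat_lit 189])
noncomputable def r121 : WT := (.node (nat_lit 30) r119 r120)
noncomputable def r122 : WT := (.leaf (nat_lit 28688) [nat_lit 168, nat_lit 147, nat_lit 42, nat_lit 189, nat_lit 42, nat_lit 189, nat_lit 63, nat_lit 168, nat_lit 63, nat_lit 147, nat_lit 168, nat_lit 126, nat_lit 42, nat_lit 189, nat_lit 42, nat_lit 168, nat_lit 63, nat_lit 168, nat_lit 63])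
noncomputable def r123 : WT := (.leaf (nat_lit 28691) [nat_lit 189, nat_lit 147, nat_lit 42, nat_lit 189, nat_lit 42, nat_lit 189, nat_lit 63, nat_lit 168, nat_lit 63, nat_lit 147, nat_lit 189, nat_lit 126, nat_lit 42, nat_lit 189, nat_lit 42, nat_lit 168, nat_lit 63, nat_lit 168, nat_lit 63])
noncomputable def r124 : WT := (.leaf (nat_lit 27677) [nat_lit 126, nat_lit 63, nat_lit 126, nat_lit 63, nat_lit 168, nat_lit 105, nat_lit 42, nat_lit 105, nat_lit 63, nat_lit 84, nat_lit 189, nat_lit 42, nat_lit 147, nat_lit 42, nat_lit 147, nat_lit 147, nat_lit 105, nat_lit 42, nat_lit 105, nat_lit 63, nat_lit 84])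
noncomputable def r125 : WT := (.node (nat_lit 32) r122 (.node (nat_lit 33) r123 r124))
noncomputable def r126 : WT := (.leaf (nat_lit 33818) [nat_lit 189, nat_lit 126, nat_lit 189, nat_lit 147, nat_lit 147, nat_lit 168, nat_lit 126, nat_lit 189, nat_lit 126, nat_lit 126, nat_lit 168, nat_lit 147, nat_lit 168])
noncomputable def r127 : WT := (.leaf (nat_lit 26657) [nat_lit 42, nat_lit 126, nat_lit 189, nat_lit 84, nat_lit 42, nat_lit 147, nat_lit 63, nat_lit 105, nat_lit 168, nat_lit 147, nat_lit 63, nat_lit 147, nat_lit 63, nat_lit 126, nat_lit 168, nat_lit 42, nat_lit 147, nat_lit 63, nat_lit 189, nat_lit 147, nat_lit 42])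
noncomputable def r128 : WT := (.leaf (nat_lit 33811) [nat_lit 126, nat_lit 168, nat_lit 147, nat_lit 168, nat_lit 147, nat_lit 189, nat_lit 126, nat_lit 189, nat_lit 147, nat_lit 147, nat_lit 168, nat_lit 147, nat_lit 189])
noncomputable def r129 : WT := (.leaf (nat_lit 28675) [nat_lit 42, nat_lit 189, nat_lit 42, nat_lit 168, nat_lit 63, nat_lit 168, nat_lit 63, nat_lit 126, nat_lit 189, nat_lit 147, nat_lit 42, nat_lit 189, nat_lit 42, nat_lit 189, nat_lit 63, nat_lit 168, nat_lit 63, nat_lit 147, nat_lit 189])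
noncomputable def r130 : WT := (.node (nat_lit 36) (.node (nat_lit 35) r126 r127) (.node (nat_lit 37) r128 r129))
noncomputable def r131 : WT := (.leaf (nat_lit 25634) [nat_lit 126, nat_lit 168, nat_lit 42, nat_lit 168, nat_lit 63, nat_lit 189, nat_lit 147, nat_lit 147, nat_lit 63, nat_lit 63, nat_lit 168, nat_lit 147, nat_lit 168, nat_lit 42, nat_lit 168, nat_lit 63, nat_lit 189, nat_lit 126, nat_lit 189, nat_lit 42, nat_lit 42])
noncomputable def r132 : WT := (.leaf (nat_lit 31758) [nat_lit 42, nat_lit 84, nat_lit 63, nat_lit 147, nat_lit 147, nat_lit 42, nat_lit 168, nat_lit 63, nat_lit 63, nat_lit 147, nat_lit 63, nat_lit 168, nat_lit 42, nat_lit 126, nat_lit 42, nat_lit 42, nat_lit 189, nat_lit 63, nat_lit 126])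
noncomputable def r133 : WT := (.leaf (nat_lit 24590) [nat_lit 105, nat_lit 63, nat_lit 168, nat_lit 42, nat_lit 84, nat_lit 147, nat_lit 63, nat_lit 147, nat_lit 168, nat_lit 42, nat_lit 42, nat_lit 168, nat_lit 42, nat_lit 84, nat_lit 63, nat_lit 189, nat_lit 63, nat_lit 63, nat_lit 189, nat_lit 126, nat_lit 42])
noncomputable def r134 : WT := (.node (nat_lit 39) r131 (.node (nat_lit 40) r132 r133))
noncomputable def r135 : WT := (.leaf (nat_lit 29696) [nat_lit 63, nat_lit 168, nat_lit 63, nat_lit 168, nat_lit 42, nat_lit 189, nat_lit 42, nat_lit 126, nat_lit 168, nat_lit 147, nat_lit 63, nat_lit 168, nat_lit 63, nat_lit 189, nat_lit 42, nat_lit 189, nat_lit 42, nat_lit 147, nat_lit 168])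
noncomputable def r136 : WT := (.leaf (nat_lit 30744) [nat_lit 189, nat_lit 126, nat_lit 126, nat_lit 42, nat_lit 189, nat_lit 63, nat_lit 105, nat_lit 42, nat_lit 168, nat_lit 63, nat_lit 147, nat_lit 147, nat_lit 168, nat_lit 147, nat_lit 105, nat_lit 63, nat_lit 168, nat_lit 42, nat_lit 84])
noncomputable def r137 : WT := (.leaf (nat_lit 32770) [nat_lit 42, nat_lit 105, nat_lit 63, nat_lit 63, nat_lit 147, nat_lit 42, nat_lit 42, nat_lit 168, nat_lit 63, nat_lit 63, nat_lit 126, nat_lit 42, nat_lit 42, nat_lit 84, nat_lit 63, nat_lit 147, nat_lit 42, nat_lit 189, nat_lit 63])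
noncomputable def r138 : WT := (.leaf (nat_lit 31749) [nat_lit 42, nat_lit 42, nat_lit 189, nat_lit 63, nat_lit 126, nat_lit 126, nat_lit 42, nat_lit 105, nat_lit 63, nat_lit 147, nat_lit 147, nat_lit 42, nat_lit 168, nat_lit 63, nat_lit 63, nat_lit 147, nat_lit 63, nat_lit 189, nat_lit 42])
noncomputable def r139 : WT := (.node (nat_lit 43) (.node (nat_lit 42) r135 r136) (.node (nat_lit 44) r137 r138))
noncomputable def r140 : WT := (.node (nat_lit 24) (.node (nat_lit 18) (.node (nat_lit 15) (.node (nat_lit 14) r99 r100) (.node (nat_lit 16) r101 r104)) (.node (nat_lit 21) (.node (nat_lit 19) (.leaf (nat_lit 35842) [nat_lit 168, nat_lit 126, nat_lit 168, nat_lit 126, nat_lit 168, nat_lit 126, nat_lit 168]) r107) (.node (nat_lit 22) r108 r111))) (.node (nat_lit 31) (.node (nat_lit 27) (.node (nat_lit 25) r112 r115) (.node (nat_lit 29) r118 r121)) (.node (nat_lit 38) (.node (nat_lit 34) r125 r130) (.node (nat_lit 41) r134 r139))))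
noncomputable def w4 : WT := (.node (nat_lit 1) (.leaf (nat_lit 2048) [nat_lit 147]) (.node (nat_lit 3) (.node (nat_lit 2) (.leaf (nat_lit 10242) [nat_lit 105, nat_lit 147, nat_lit 84]) (.leaf (nat_lit 6144) [nat_lit 126, nat_lit 126, nat_lit 126, nat_lit 126])) (.node (nat_lit 6) (.node (nat_lit 4) (.leaf (nat_lit 10241) [nat_lit 84, nat_lit 147, nat_lit 105]) r92) (.node (nat_lit 13) r98 r140))))
noncomputable def r141 : WT := (.node (nat_lit 5) (.leaf (nat_lit 34830) [nat_lit 168, nat_lit 126, nat_lit 168, nat_lit 126, nat_lit 189, nat_lit 147, nat_lit 189]) (.leaf (nat_lit 34826) [nat_lit 189, nat_lit 147, nat_lit 168, nat_lit 126, nat_lit 168, nat_lit 126, nat_lit 189]))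
noncomputable def r142 : WT := (.leaf (nat_lit 33807) [nat_lit 189, nat_lit 126, nat_lit 126, nat_lit 168, nat_lit 147, nat_lit 168, nat_lit 147, nat_lit 189, nat_lit 126, nat_lit 189, nat_lit 147, nat_lit 147, nat_lit 168])
noncomputable def r143 : WT := (.leaf (nat_lit 33814) [nat_lit 168, nat_lit 126, nat_lit 189, nat_lit 126, nat_lit 189, nat_lit 147, nat_lit 147, nat_lit 168, nat_lit 126, nat_lit 189, nat_lit 126, nat_lit 126, nat_lit 168])
noncomputable def r144 : WT := (.leaf (nat_lit 30728) [nat_lit 168, nat_lit 147, nat_lit 105, nat_lit 63, nat_lit 168, nat_lit 42, nat_lit 84, nat_lit 126, nat_lit 189, nat_lit 126, nat_lit 126, nat_lit 42, nat_lit 189, nat_lit 63, nat_lit 105, nat_lit 42, nat_lit 168, nat_lit 63, nat_lit 147])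
noncomputable def r145 : WT := (.leaf (nat_lit 29732) [nat_lit 168, nat_lit 126, nat_lit 63, nat_lit 168, nat_lit 63, nat_lit 168, nat_lit 42, nat_lit 189, nat_lit 42, nat_lit 126, nat_lit 168, nat_lit 147, nat_lit 63, nat_lit 168, nat_lit 63, nat_lit 189, nat_lit 42, nat_lit 189, nat_lit 42])
noncomputable def r146 : WT := (.node (nat_lit 8) (.node (nat_lit 7) (.leaf (nat_lit 34825) [nat_lit 189, nat_lit 147, nat_lit 189, nat_lit 126, nat_lit 168, nat_lit 126, nat_lit 168]) (.leaf (nat_lit 34829) [nat_lit 189, nat_lit 126, nat_lit 168, nat_lit 126, nat_lit 168, nat_lit 147, nat_lit 189])) (.node (nat_lit 10) (.node (nat_lit 9) r142 (.leaf (nat_lit 35841) [nat_lit 189, nat_lit 147, nat_lit 189, nat_lit 147, nat_lit 189, nat_lit 147, nat_lit 189])) (.node (nat_lit 11) r143 (.node (nat_lit 12) r144 r145))))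
noncomputable def r147 : WT := (.leaf (nat_lit 23584) [nat_lit 84, nat_lit 42, nat_lit 168, nat_lit 42, nat_lit 84, nat_lit 63, nat_lit 189, nat_lit 63, nat_lit 105, nat_lit 126, nat_lit 63, nat_lit 189, nat_lit 63, nat_lit 189, nat_lit 63, nat_lit 84, nat_lit 42, nat_lit 168, nat_lit 42, nat_lit 168, nat_lit 42])
noncomputable def r148 : WT := (.leaf (nat_lit 24609) [nat_lit 168, nat_lit 42, nat_lit 42, nat_lit 168, nat_lit 42, nat_lit 105, nat_lit 63, nat_lit 189, nat_lit 63, nat_lit 63, nat_lit 189, nat_lit 126, nat_lit 42, nat_lit 126, nat_lit 105, nat_lit 63, nat_lit 189, nat_lit 42, nat_lit 84, nat_lit 147, nat_lit 63])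
noncomputable def r149 : WT := (.leaf (nat_lit 28695) [nat_lit 42, nat_lit 189, nat_lit 42, nat_lit 189, nat_lit 63, nat_lit 168, nat_lit 63, nat_lit 147, nat_lit 189, nat_lit 126, nat_lit 42, nat_lit 189, nat_lit 42, nat_lit 168, nat_lit 63, nat_lit 168, nat_lit 63, nat_lit 126, nat_lit 189])
noncomputable def r150 : WT := (.leaf (nat_lit 29735) [nat_lit 189, nat_lit 126, nat_lit 63, nat_lit 168, nat_lit 63, nat_lit 168, nat_lit 42, nat_lit 189, nat_lit 42, nat_lit 126, nat_lit 189, nat_lit 147, nat_lit 63, nat_lit 168, nat_lit 63, nat_lit 189, nat_lit 42, nat_lit 189, nat_lit 42])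
noncomputable def r151 : WT := (.leaf (nat_lit 33798) [nat_lit 147, nat_lit 168, nat_lit 126, nat_lit 189, nat_lit 126, nat_lit 126, nat_lit 168, nat_lit 147, nat_lit 168, nat_lit 126, nat_lit 189, nat_lit 126, nat_lit 189])
noncomputable def r152 : WT := (.node (nat_lit 17) r150 r151)
noncomputable def r153 : WT := (.leaf (nat_lit 32780) [nat_lit 42, nat_lit 42, nat_lit 168, nat_lit 63, nat_lit 63, nat_lit 126, nat_lit 42, nat_lit 42, nat_lit 84, nat_lit 63, nat_lit 147, nat_lit 42, nat_lit 189, nat_lit 63, nat_lit 126, nat_lit 42, nat_lit 105, nat_lit 63, nat_lit 63])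
noncomputable def r154 : WT := (.leaf (nat_lit 30735) [nat_lit 105, nat_lit 63, nat_lit 189, nat_lit 42, nat_lit 84, nat_lit 126, nat_lit 189, nat_lit 126, nat_lit 126, nat_lit 42, nat_lit 189, nat_lit 63, nat_lit 84, nat_lit 42, nat_lit 168, nat_lit 63, nat_lit 147, nat_lit 147, nat_lit 168])
noncomputable def r155 : WT := (.leaf (nat_lit 31766) [nat_lit 147, nat_lit 42, nat_lit 168, nat_lit 63, nat_lit 63, nat_lit 147, nat_lit 63, nat_lit 168, nat_lit 42, nat_lit 126, nat_lit 42, nat_lit 42, nat_lit 189, nat_lit 63, nat_lit 126, nat_lit 126, nat_lit 42, nat_lit 84, nat_lit 63])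
noncomputable def r156 : WT := (.node (nat_lit 20) r154 r155)
noncomputable def r157 : WT := (.leaf (nat_lit 26625) [nat_lit 63, nat_lit 105, nat_lit 168, nat_lit 147, nat_lit 63, nat_lit 147, nat_lit 63, nat_lit 126, nat_lit 168, nat_lit 42, nat_lit 147, nat_lit 63, nat_lit 189, nat_lit 147, nat_lit 42, nat_lit 126, nat_lit 42, nat_lit 126, nat_lit 189, nat_lit 84, nat_lit 42])
noncomputable def r158 : WT := (.leaf (nat_lit 25606) [nat_lit 63, nat_lit 63, nat_lit 168, nat_lit 147, nat_lit 168, nat_lit 42, nat_lit 168, nat_lit 63, nat_lit 189, nat_lit 126, nat_lit 189, nat_lit 42, nat_lit 42, nat_lit 126, nat_lit 126, nat_lit 168, nat_lit 42, nat_lit 168, nat_lit 63, nat_lit 189, nat_lit 147])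
noncomputable def r159 : WT := (.node (nat_lit 22) r157 r158)
noncomputable def r160 : WT := (.leaf (nat_lit 25614) [nat_lit 168, nat_lit 42, nat_lit 168, nat_lit 63, nat_lit 189, nat_lit 126, nat_lit 189, nat_lit 42, nat_lit 42, nat_lit 126, nat_lit 126, nat_lit 168, nat_lit 42, nat_lit 168, nat_lit 63, nat_lit 189, nat_lit 147, nat_lit 147, nat_lit 63, nat_lit 63, nat_lit 168])
noncomputable def r161 : WT := (.leaf (nat_lit 24602) [nat_lit 63, nat_lit 147, nat_lit 168, nat_lit 42, nat_lit 42, nat_lit 168, nat_lit 42, nat_lit 84, nat_lit 63, nat_lit 189, nat_lit 63, nat_lit 63, nat_lit 189, nat_lit 126, nat_lit 42, nat_lit 126, nat_lit 105, nat_lit 63, nat_lit 168, nat_lit 42, nat_lit 84])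
noncomputable def r162 : WT := (.node (nat_lit 24) r160 r161)
noncomputable def r163 : WT := (.leaf (nat_lit 26630) [nat_lit 63, nat_lit 147, nat_lit 63, nat_lit 126, nat_lit 168, nat_lit 42, nat_lit 126, nat_lit 63, nat_lit 189, nat_lit 147, nat_lit 42, nat_lit 126, nat_lit 42, nat_lit 126, nat_lit 189, nat_lit 84, nat_lit 42, nat_lit 126, nat_lit 63, nat_lit 105, nat_lit 168])
noncomputable def r164 : WT := (.leaf (nat_lit 26650) [nat_lit 42, nat_lit 126, nat_lit 42, nat_lit 126, nat_lit 189, nat_lit 84, nat_lit 42, nat_lit 126, nat_lit 63, nat_lit 105, nat_lit 168, nat_lit 147, nat_lit 63, nat_lit 147, nat_lit 63, nat_lit 126, nat_lit 168, nat_lit 42, nat_lit 126, nat_lit 63, nat_lit 189])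
noncomputable def r165 : WT := (.node (nat_lit 26) r163 r164)
noncomputable def r166 : WT := (.leaf (nat_lit 33803) [nat_lit 168, nat_lit 147, nat_lit 189, nat_lit 126, nat_lit 126, nat_lit 168, nat_lit 147, nat_lit 168, nat_lit 147, nat_lit 189, nat_lit 126, nat_lit 189, nat_lit 147])
noncomputable def r167 : WT := (.leaf (nat_lit 30729) [nat_lit 147, nat_lit 168, nat_lit 147, nat_lit 105, nat_lit 63, nat_lit 189, nat_lit 42, nat_lit 84, nat_lit 126, nat_lit 189, nat_lit 126, nat_lit 126, nat_lit 42, nat_lit 189, nat_lit 63, nat_lit 84, nat_lit 42, nat_lit 168, nat_lit 63])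
noncomputable def r168 : WT := (.node (nat_lit 28) r166 r167)
noncomputable def r169 : WT := (.leaf (nat_lit 27656) [nat_lit 42, nat_lit 147, nat_lit 147, nat_lit 105, nat_lit 42, nat_lit 84, nat_lit 63, nat_lit 84, nat_lit 126, nat_lit 126, nat_lit 63, nat_lit 126, nat_lit 63, nat_lit 168, nat_lit 105, nat_lit 42, nat_lit 84, nat_lit 63, nat_lit 84, nat_lit 189, nat_lit 42])
noncomputable def r170 : WT := (.leaf (nat_lit 28711) [nat_lit 189, nat_lit 126, nat_lit 42, nat_lit 189, nat_lit 42, nat_lit 168, nat_lit 63, nat_lit 168, nat_lit 63, nat_lit 126, nat_lit 189, nat_lit 147, nat_lit 42, nat_lit 189, nat_lit 42, nat_lit 189, nat_lit 63, nat_lit 168, nat_lit 63])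
noncomputable def r171 : WT := (.node (nat_lit 30) r169 r170)
noncomputable def r172 : WT := (.leaf (nat_lit 26634) [nat_lit 63, nat_lit 126, nat_lit 168, nat_lit 42, nat_lit 126, nat_lit 63, nat_lit 189, nat_lit 147, nat_lit 42, nat_lit 126, nat_lit 42, nat_lit 126, nat_lit 189, nat_lit 84, nat_lit 42, nat_lit 126, nat_lit 63, nat_lit 105, nat_lit 168, nat_lit 147, nat_lit 63])
noncomputable def r173 : WT := (.leaf (nat_lit 25617) [nat_lit 168, nat_lit 42, nat_lit 189, nat_lit 63, nat_lit 189, nat_lit 126, nat_lit 189, nat_lit 42, nat_lit 42, nat_lit 126, nat_lit 126, nat_lit 168, nat_lit 42, nat_lit 189, nat_lit 63, nat_lit 189, nat_lit 147, nat_lit 147, nat_lit 63, nat_lit 63, nat_lit 168])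
noncomputable def r174 : WT := (.leaf (nat_lit 25609) [nat_lit 63, nat_lit 63, nat_lit 168, nat_lit 147, nat_lit 168, nat_lit 42, nat_lit 189, nat_lit 63, nat_lit 189, nat_lit 126, nat_lit 189, nat_lit 42, nat_lit 42, nat_lit 126, nat_lit 126, nat_lit 168, nat_lit 42, nat_lit 189, nat_lit 63, nat_lit 189, nat_lit 147])
noncomputable def r175 : WT := (.leaf (nat_lit 26633) [nat_lit 63, nat_lit 147, nat_lit 63, nat_lit 126, nat_lit 168, nat_lit 42, nat_lit 147, nat_lit 63, nat_lit 189, nat_lit 147, nat_lit 42, nat_lit 126, nat_lit 42, nat_lit 126, nat_lit 189, nat_lit 84, nat_lit 42, nat_lit 147, nat_lit 63, nat_lit 105, nat_lit 168])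
noncomputable def r176 : WT := (.node (nat_lit 33) (.node (nat_lit 32) r172 r173) (.node (nat_lit 34) r174 r175))
noncomputable def r177 : WT := (.leaf (nat_lit 27663) [nat_lit 147, nat_lit 105, nat_lit 42, nat_lit 105, nat_lit 63, nat_lit 84, nat_lit 126, nat_lit 126, nat_lit 63, nat_lit 126, nat_lit 63, nat_lit 168, nat_lit 105, nat_lit 42, nat_lit 105, nat_lit 63, nat_lit 84, nat_lit 189, nat_lit 42, nat_lit 147, nat_lit 42])
noncomputable def r178 : WT := (.leaf (nat_lit 26637) [nat_lit 63, nat_lit 126, nat_lit 168, nat_lit 42, nat_lit 147, nat_lit 63, nat_lit 189, nat_lit 147, nat_lit 42, nat_lit 126, nat_lit 42, nat_lit 126, nat_lit 189, nat_lit 84, nat_lit 42, nat_lit 147, nat_lit 63, nat_lit 105, nat_lit 168, nat_lit 147, nat_lit 63])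
noncomputable def r179 : WT := (.leaf (nat_lit 25604) [nat_lit 147, nat_lit 63, nat_lit 63, nat_lit 168, nat_lit 147, nat_lit 168, nat_lit 42, nat_lit 168, nat_lit 63, nat_lit 189, nat_lit 126, nat_lit 189, nat_lit 42, nat_lit 42, nat_lit 126, nat_lit 126, nat_lit 168, nat_lit 42, nat_lit 168, nat_lit 63, nat_lit 189])
noncomputable def r180 : WT := (.node (nat_lit 36) r177 (.node (nat_lit 37) r178 r179))
noncomputable def r181 : WT := (.leaf (nat_lit 24605) [nat_lit 63, nat_lit 147, nat_lit 168, nat_lit 42, nat_lit 42, nat_lit 168, nat_lit 42, nat_lit 105, nat_lit 63, nat_lit 189, nat_lit 63, nat_lit 63, nat_lit 189, nat_lit 126, nat_lit 42, nat_lit 126, nat_lit 105, nat_lit 63, nat_lit 189, nat_lit 42, nat_lit 84])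
noncomputable def r182 : WT := (.leaf (nat_lit 24606) [nat_lit 168, nat_lit 42, nat_lit 42, nat_lit 168, nat_lit 42, nat_lit 84, nat_lit 63, nat_lit 189, nat_lit 63, nat_lit 63, nat_lit 189, nat_lit 126, nat_lit 42, nat_lit 126, nat_lit 105, nat_lit 63, nat_lit 168, nat_lit 42, nat_lit 84, nat_lit 147, nat_lit 63])
noncomputable def r183 : WT := (.leaf (nat_lit 32805) [nat_lit 42, nat_lit 168, nat_lit 63, nat_lit 126, nat_lit 42, nat_lit 105, nat_lit 63, nat_lit 63, nat_lit 147, nat_lit 42, nat_lit 42, nat_lit 189, nat_lit 63, nat_lit 63, nat_lit 126, nat_lit 42, nat_lit 42, nat_lit 84, nat_lit 63])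
noncomputable def r184 : WT := (.leaf (nat_lit 32783) [nat_lit 42, nat_lit 42, nat_lit 189, nat_lit 63, nat_lit 63, nat_lit 126, nat_lit 42, nat_lit 42, nat_lit 84, nat_lit 63, nat_lit 147, nat_lit 42, nat_lit 168, nat_lit 63, nat_lit 126, nat_lit 42, nat_lit 105, nat_lit 63, nat_lit 63])
noncomputable def r185 : WT := (.node (nat_lit 40) (.node (nat_lit 39) r181 r182) (.node (nat_lit 41) r183 r184))
noncomputable def r186 : WT := (.leaf (nat_lit 31781) [nat_lit 63, nat_lit 189, nat_lit 42, nat_lit 126, nat_lit 42, nat_lit 42, nat_lit 189, nat_lit 63, nat_lit 126, nat_lit 126, nat_lit 42, nat_lit 105, nat_lit 63, nat_lit 147, nat_lit 147, nat_lit 42, nat_lit 168, nat_lit 63, nat_lit 63])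
noncomputable def r187 : WT := (.leaf (nat_lit 31769) [nat_lit 147, nat_lit 42, nat_lit 168, nat_lit 63, nat_lit 63, nat_lit 147, nat_lit 63, nat_lit 189, nat_lit 42, nat_lit 126, nat_lit 42, nat_lit 42, nat_lit 189, nat_lit 63, nat_lit 126, nat_lit 126, nat_lit 42, nat_lit 105, nat_lit 63])
noncomputable def r188 : WT := (.leaf (nat_lit 31778) [nat_lit 63, nat_lit 168, nat_lit 42, nat_lit 126, nat_lit 42, nat_lit 42, nat_lit 189, nat_lit 63, nat_lit 126, nat_lit 126, nat_lit 42, nat_lit 84, nat_lit 63, nat_lit 147, nat_lit 147, nat_lit 42, nat_lit 168, nat_lit 63, nat_lit 63])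
noncomputable def r189 : WT := (.leaf (nat_lit 31768) [nat_lit 42, nat_lit 168, nat_lit 63, nat_lit 63, nat_lit 147, nat_lit 63, nat_lit 168, nat_lit 42, nat_lit 126, nat_lit 42, nat_lit 42, nat_lit 189, nat_lit 63, nat_lit 126, nat_lit 126, nat_lit 42, nat_lit 84, nat_lit 63, nat_lit 147])
noncomputable def r190 : WT := (.node (nat_lit 44) (.node (nat_lit 43) r186 r187) (.node (nat_lit 45) r188 r189))
noncomputable def r191 : WT := (.leaf (nat_lit 30726) [nat_lit 147, nat_lit 168, nat_lit 147, nat_lit 105, nat_lit 63, nat_lit 168, nat_lit 42, nat_lit 84, nat_lit 126, nat_lit 189, nat_lit 126, nat_lit 126, nat_lit 42, nat_lit 189, nat_lit 63, nat_lit 105, nat_lit 42, nat_lit 168, nat_lit 63])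
noncomputable def r192 : WT := (.leaf (nat_lit 28708) [nat_lit 168, nat_lit 126, nat_lit 42, nat_lit 189, nat_lit 42, nat_lit 168, nat_lit 63, nat_lit 168, nat_lit 63, nat_lit 126, nat_lit 168, nat_lit 147, nat_lit 42, nat_lit 189, nat_lit 42, nat_lit 189, nat_lit 63, nat_lit 168, nat_lit 63])
noncomputable def r193 : WT := (.leaf (nat_lit 33793) [nat_lit 189, nat_lit 126, nat_lit 189, nat_lit 147, nat_lit 147, nat_lit 168, nat_lit 147, nat_lit 189, nat_lit 126, nat_lit 126, nat_lit 168, nat_lit 147, nat_lit 168])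
noncomputable def r194 : WT := (.leaf (nat_lit 33800) [nat_lit 168, nat_lit 126, nat_lit 189, nat_lit 126, nat_lit 126, nat_lit 168, nat_lit 147, nat_lit 168, nat_lit 126, nat_lit 189, nat_lit 126, nat_lit 189, nat_lit 147])
noncomputable def r195 : WT := (.node (nat_lit 48) (.node (nat_lit 47) r191 r192) (.node (nat_lit 49) r193 r194))
noncomputable def r196 : WT := (.node (nat_lit 25) (.node (nat_lit 18) (.node (nat_lit 15) (.node (nat_lit 14) r147 r148) (.node (nat_lit 16) r149 r152)) (.node (nat_lit 21) (.node (nat_lit 19) r153 r156) (.node (nat_lit 23) r159 r162))) (.node (nat_lit 35) (.node (nat_lit 29) (.node (nat_lit 27) r165 r168) (.node (nat_lit 31) r171 r176)) (.node (nat_lit 42) (.node (nat_lit 38) r180 r185) (.node (nat_lit 46) r190 r195))))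
noncomputable def w5 : WT := (.node (nat_lit 1) (.leaf (nat_lit 2050) [nat_lit 126]) (.node (nat_lit 3) (.node (nat_lit 2) (.leaf (nat_lit 10246) [nat_lit 84, nat_lit 126, nat_lit 105]) (.leaf (nat_lit 6145) [nat_lit 147, nat_lit 147, nat_lit 147, nat_lit 147])) (.node (nat_lit 6) (.node (nat_lit 4) (.leaf (nat_lit 10245) [nat_lit 105, nat_lit 126, nat_lit 84]) r141) (.node (nat_lit 13) r146 r196))))
noncomputable def r197 : WT := (.node (nat_lit 4) (.leaf (nat_lit 9218) [nat_lit 105, nat_lit 189, nat_lit 84]) (.node (nat_lit 5) (.leaf (nat_lit 34820) [nat_lit 126, nat_lit 189, nat_lit 147, nat_lit 189, nat_lit 147, nat_lit 168, nat_lit 126]) (.leaf (nat_lit 34816) [nat_lit 126, nat_lit 168, nat_lit 126, nat_lit 189, nat_lit 147, nat_lit 189, nat_lit 147])))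
noncomputable def r198 : WT := (.leaf (nat_lit 22548) [nat_lit 42, nat_lit 189, nat_lit 42, nat_lit 189, nat_lit 189, nat_lit 42, nat_lit 189, nat_lit 63, nat_lit 168, nat_lit 168, nat_lit 63, nat_lit 168, nat_lit 63, nat_lit 189, nat_lit 63, nat_lit 168, nat_lit 42])
noncomputable def r199 : WT := (.leaf (nat_lit 33802) [nat_lit 126, nat_lit 189, nat_lit 126, nat_lit 126, nat_lit 168, nat_lit 147, nat_lit 168, nat_lit 126, nat_lit 189, nat_lit 126, nat_lit 189, nat_lit 147, nat_lit 147])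
noncomputable def r200 : WT := (.leaf (nat_lit 22536) [nat_lit 63, nat_lit 189, nat_lit 63, nat_lit 168, nat_lit 42, nat_lit 168, nat_lit 42, nat_lit 189, nat_lit 42, nat_lit 189, nat_lit 189, nat_lit 42, nat_lit 189, nat_lit 63, nat_lit 168, nat_lit 168, nat_lit 63])
noncomputable def r201 : WT := (.leaf (nat_lit 30730) [nat_lit 147, nat_lit 105, nat_lit 63, nat_lit 168, nat_lit 42, nat_lit 84, nat_lit 126, nat_lit 189, nat_lit 126, nat_lit 126, nat_lit 42, nat_lit 189, nat_lit 63, nat_lit 105, nat_lit 42, nat_lit 168, nat_lit 63, nat_lit 147, nat_lit 147])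
noncomputable def r202 : WT := (.leaf (nat_lit 22530) [nat_lit 168, nat_lit 63, nat_lit 168, nat_lit 63, nat_lit 189, nat_lit 63, nat_lit 168, nat_lit 42, nat_lit 168, nat_lit 42, nat_lit 189, nat_lit 42, nat_lit 189, nat_lit 189, nat_lit 42, nat_lit 189, nat_lit 63])
noncomputable def r203 : WT := (.node (nat_lit 12) r201 r202)
noncomputable def r204 : WT := (.leaf (nat_lit 22544) [nat_lit 42, nat_lit 168, nat_lit 42, nat_lit 189, nat_lit 42, nat_lit 189, nat_lit 189, nat_lit 42, nat_lit 189, nat_lit 63, nat_lit 168, nat_lit 168, nat_lit 63, nat_lit 168, nat_lit 63, nat_lit 189, nat_lit 63])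
noncomputable def r205 : WT := (.leaf (nat_lit 20508) [nat_lit 84, nat_lit 63, nat_lit 189, nat_lit 63, nat_lit 189, nat_lit 42, nat_lit 168, nat_lit 42, nat_lit 105, nat_lit 189, nat_lit 84, nat_lit 42, nat_lit 168, nat_lit 42, nat_lit 168, nat_lit 63, nat_lit 189, nat_lit 63, nat_lit 105])
noncomputable def r206 : WT := (.leaf (nat_lit 33805) [nat_lit 147, nat_lit 189, nat_lit 126, nat_lit 126, nat_lit 168, nat_lit 147, nat_lit 168, nat_lit 147, nat_lit 189, nat_lit 126, nat_lit 189, nat_lit 147, nat_lit 147])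
noncomputable def r207 : WT := (.node (nat_lit 14) r204 (.node (nat_lit 15) r205 r206))
noncomputable def r208 : WT := (.leaf (nat_lit 11272) [nat_lit 63, nat_lit 189, nat_lit 42, nat_lit 189, nat_lit 63, nat_lit 84, nat_lit 42, nat_lit 168, nat_lit 63, nat_lit 168, nat_lit 42, nat_lit 189, nat_lit 63, nat_lit 189, nat_lit 105, nat_lit 42, nat_lit 168, nat_lit 63, nat_lit 84, nat_lit 168, nat_lit 42])
noncomputable def r209 : WT := (.leaf (nat_lit 16418) [nat_lit 63, nat_lit 168, nat_lit 42, nat_lit 105, nat_lit 63, nat_lit 189, nat_lit 42, nat_lit 189, nat_lit 63, nat_lit 168, nat_lit 42, nat_lit 168, nat_lit 105, nat_lit 63, nat_lit 168, nat_lit 42, nat_lit 84, nat_lit 189, nat_lit 63, nat_lit 189, nat_lit 42])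
noncomputable def r210 : WT := (.leaf (nat_lit 29704) [nat_lit 42, nat_lit 189, nat_lit 42, nat_lit 126, nat_lit 168, nat_lit 147, nat_lit 63, nat_lit 168, nat_lit 63, nat_lit 189, nat_lit 42, nat_lit 189, nat_lit 42, nat_lit 147, nat_lit 168, nat_lit 126, nat_lit 63, nat_lit 168, nat_lit 63])
noncomputable def r211 : WT := (.node (nat_lit 17) r208 (.node (nat_lit 18) r209 r210))
noncomputable def r212 : WT := (.leaf (nat_lit 22539) [nat_lit 63, nat_lit 189, nat_lit 63, nat_lit 189, nat_lit 42, nat_lit 168, nat_lit 42, nat_lit 189, nat_lit 42, nat_lit 189, nat_lit 189, nat_lit 42, nat_lit 168, nat_lit 63, nat_lit 168, nat_lit 168, nat_lit 63])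
noncomputable def r213 : WT := (.leaf (nat_lit 13351) [nat_lit 42, nat_lit 42, nat_lit 84, nat_lit 63, nat_lit 63, nat_lit 189, nat_lit 63, nat_lit 189, nat_lit 63, nat_lit 168, nat_lit 63, nat_lit 168, nat_lit 63, nat_lit 189, nat_lit 42, nat_lit 189, nat_lit 42, nat_lit 189, nat_lit 42, nat_lit 168, nat_lit 42])
noncomputable def r214 : WT := (.leaf (nat_lit 33819) [nat_lit 147, nat_lit 189, nat_lit 126, nat_lit 189, nat_lit 147, nat_lit 147, nat_lit 168, nat_lit 147, nat_lit 189, nat_lit 126, nat_lit 126, nat_lit 168, nat_lit 147])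
noncomputable def r215 : WT := (.leaf (nat_lit 33815) [nat_lit 147, nat_lit 168, nat_lit 147, nat_lit 189, nat_lit 126, nat_lit 189, nat_lit 147, nat_lit 147, nat_lit 168, nat_lit 147, nat_lit 189, nat_lit 126, nat_lit 126])
noncomputable def r216 : WT := (.node (nat_lit 21) (.node (nat_lit 20) r212 r213) (.node (nat_lit 22) r214 r215))
noncomputable def r217 : WT := (.leaf (nat_lit 14344) [nat_lit 42, nat_lit 189, nat_lit 42, nat_lit 168, nat_lit 63, nat_lit 168, nat_lit 42, nat_lit 189, nat_lit 63, nat_lit 168, nat_lit 63, nat_lit 189, nat_lit 63, nat_lit 63, nat_lit 168, nat_lit 42, nat_lit 105, nat_lit 63, nat_lit 189, nat_lit 42, nat_lit 42])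
noncomputable def r218 : WT := (.leaf (nat_lit 14355) [nat_lit 63, nat_lit 189, nat_lit 42, nat_lit 189, nat_lit 63, nat_lit 168, nat_lit 63, nat_lit 189, nat_lit 63, nat_lit 63, nat_lit 168, nat_lit 42, nat_lit 84, nat_lit 63, nat_lit 189, nat_lit 42, nat_lit 42, nat_lit 168, nat_lit 42, nat_lit 189, nat_lit 42])
noncomputable def r219 : WT := (.leaf (nat_lit 27684) [nat_lit 105, nat_lit 42, nat_lit 84, nat_lit 63, nat_lit 84, nat_lit 189, nat_lit 42, nat_lit 147, nat_lit 42, nat_lit 147, nat_lit 147, nat_lit 105, nat_lit 42, nat_lit 84, nat_lit 63, nat_lit 84, nat_lit 126, nat_lit 126, nat_lit 63, nat_lit 126, nat_lit 63])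
noncomputable def r220 : WT := (.leaf (nat_lit 15376) [nat_lit 63, nat_lit 84, nat_lit 42, nat_lit 189, nat_lit 63, nat_lit 168, nat_lit 63, nat_lit 189, nat_lit 63, nat_lit 63, nat_lit 168, nat_lit 42, nat_lit 168, nat_lit 63, nat_lit 189, nat_lit 42, nat_lit 42, nat_lit 168, nat_lit 42, nat_lit 189, nat_lit 42])
noncomputable def r221 : WT := (.leaf (nat_lit 13331) [nat_lit 63, nat_lit 189, nat_lit 42, nat_lit 189, nat_lit 42, nat_lit 189, nat_lit 42, nat_lit 168, nat_lit 42, nat_lit 168, nat_lit 42, nat_lit 42, nat_lit 84, nat_lit 63, nat_lit 63, nat_lit 189, nat_lit 63, nat_lit 189, nat_lit 63, nat_lit 168, nat_lit 63])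
noncomputable def r222 : WT := (.leaf (nat_lit 15398) [nat_lit 42, nat_lit 168, nat_lit 63, nat_lit 189, nat_lit 42, nat_lit 42, nat_lit 168, nat_lit 42, nat_lit 189, nat_lit 42, nat_lit 168, nat_lit 63, nat_lit 84, nat_lit 42, nat_lit 189, nat_lit 63, nat_lit 168, nat_lit 63, nat_lit 189, nat_lit 63, nat_lit 63])
noncomputable def r223 : WT := (.leaf (nat_lit 16404) [nat_lit 42, nat_lit 84, nat_lit 189, nat_lit 63, nat_lit 189, nat_lit 42, nat_lit 168, nat_lit 63, nat_lit 168, nat_lit 42, nat_lit 105, nat_lit 63, nat_lit 189, nat_lit 42, nat_lit 189, nat_lit 63, nat_lit 168, nat_lit 42, nat_lit 168, nat_lit 105, nat_lit 63])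
noncomputable def r224 : WT := (.node (nat_lit 26) (.node (nat_lit 24) r217 (.node (nat_lit 25) r218 r219)) (.node (nat_lit 28) (.node (nat_lit 27) r220 r221) (.node (nat_lit 29) r222 r223)))
noncomputable def r225 : WT := (.leaf (nat_lit 16397) [nat_lit 42, nat_lit 168, nat_lit 105, nat_lit 63, nat_lit 189, nat_lit 42, nat_lit 84, nat_lit 189, nat_lit 63, nat_lit 189, nat_lit 42, nat_lit 168, nat_lit 63, nat_lit 168, nat_lit 42, nat_lit 84, nat_lit 63, nat_lit 189, nat_lit 42, nat_lit 189, nat_lit 63])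
noncomputable def r226 : WT := (.leaf (nat_lit 17410) [nat_lit 63, nat_lit 168, nat_lit 63, nat_lit 189, nat_lit 63, nat_lit 189, nat_lit 63, nat_lit 63, nat_lit 168, nat_lit 42, nat_lit 42, nat_lit 168, nat_lit 42, nat_lit 168, nat_lit 42, nat_lit 189, nat_lit 42, nat_lit 189, nat_lit 42, nat_lit 105, nat_lit 63])
noncomputable def r227 : WT := (.leaf (nat_lit 17437) [nat_lit 42, nat_lit 168, nat_lit 42, nat_lit 189, nat_lit 42, nat_lit 189, nat_lit 42, nat_lit 84, nat_lit 63, nat_lit 168, nat_lit 63, nat_lit 168, nat_lit 63, nat_lit 189, nat_lit 63, nat_lit 189, nat_lit 63, nat_lit 63, nat_lit 189, nat_lit 42, nat_lit 42])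
noncomputable def r228 : WT := (.leaf (nat_lit 18474) [nat_lit 63, nat_lit 168, nat_lit 63, nat_lit 168, nat_lit 63, nat_lit 189, nat_lit 63, nat_lit 189, nat_lit 63, nat_lit 63, nat_lit 84, nat_lit 42, nat_lit 42, nat_lit 168, nat_lit 42, nat_lit 168, nat_lit 42, nat_lit 189, nat_lit 42, nat_lit 189, nat_lit 42])
noncomputable def r229 : WT := (.leaf (nat_lit 18461) [nat_lit 42, nat_lit 168, nat_lit 42, nat_lit 189, nat_lit 42, nat_lit 189, nat_lit 42, nat_lit 189, nat_lit 63, nat_lit 168, nat_lit 63, nat_lit 168, nat_lit 63, nat_lit 189, nat_lit 63, nat_lit 189, nat_lit 63, nat_lit 63, nat_lit 105, nat_lit 42, nat_lit 42])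
noncomputable def r230 : WT := (.leaf (nat_lit 23583) [nat_lit 42, nat_lit 147, nat_lit 84, nat_lit 42, nat_lit 168, nat_lit 42, nat_lit 105, nat_lit 63, nat_lit 189, nat_lit 63, nat_lit 105, nat_lit 126, nat_lit 63, nat_lit 189, nat_lit 63, nat_lit 189, nat_lit 63, nat_lit 105, nat_lit 42, nat_lit 168, nat_lit 42])
noncomputable def r231 : WT := (.leaf (nat_lit 24596) [nat_lit 42, nat_lit 84, nat_lit 147, nat_lit 63, nat_lit 147, nat_lit 168, nat_lit 42, nat_lit 42, nat_lit 168, nat_lit 42, nat_lit 84, nat_lit 63, nat_lit 189, nat_lit 63, nat_lit 63, nat_lit 189, nat_lit 126, nat_lit 42, nat_lit 126, nat_lit 105, nat_lit 63])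
noncomputable def r232 : WT := (.node (nat_lit 33) (.node (nat_lit 31) r225 (.node (nat_lit 32) r226 r227)) (.node (nat_lit 35) (.node (nat_lit 34) r228 r229) (.node (nat_lit 36) r230 r231)))
noncomputable def r233 : WT := (.leaf (nat_lit 25620) [nat_lit 63, nat_lit 189, nat_lit 126, nat_lit 189, nat_lit 42, nat_lit 42, nat_lit 126, nat_lit 126, nat_lit 168, nat_lit 42, nat_lit 168, nat_lit 63, nat_lit 189, nat_lit 147, nat_lit 147, nat_lit 63, nat_lit 63, nat_lit 168, nat_lit 147, nat_lit 168, nat_lit 42])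
noncomputable def r234 : WT := (.leaf (nat_lit 25641) [nat_lit 42, nat_lit 189, nat_lit 63, nat_lit 189, nat_lit 147, nat_lit 147, nat_lit 63, nat_lit 63, nat_lit 168, nat_lit 147, nat_lit 168, nat_lit 42, nat_lit 189, nat_lit 63, nat_lit 189, nat_lit 126, nat_lit 189, nat_lit 42, nat_lit 42, nat_lit 126, nat_lit 126])
noncomputable def r235 : WT := (.leaf (nat_lit 26628) [nat_lit 147, nat_lit 63, nat_lit 147, nat_lit 63, nat_lit 126, nat_lit 168, nat_lit 42, nat_lit 126, nat_lit 63, nat_lit 189, nat_lit 147, nat_lit 42, nat_lit 126, nat_lit 42, nat_lit 126, nat_lit 189, nat_lit 84, nat_lit 42, nat_lit 126, nat_lit 63, nat_lit 105])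
noncomputable def r236 : WT := (.leaf (nat_lit 29714) [nat_lit 147, nat_lit 63, nat_lit 168, nat_lit 63, nat_lit 189, nat_lit 42, nat_lit 189, nat_lit 42, nat_lit 147, nat_lit 168, nat_lit 126, nat_lit 63, nat_lit 168, nat_lit 63, nat_lit 168, nat_lit 42, nat_lit 189, nat_lit 42, nat_lit 126])
noncomputable def r237 : WT := (.leaf (nat_lit 33816) [nat_lit 126, nat_lit 189, nat_lit 126, nat_lit 189, nat_lit 147, nat_lit 147, nat_lit 168, nat_lit 126, nat_lit 189, nat_lit 126, nat_lit 126, nat_lit 168, nat_lit 147])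
noncomputable def r238 : WT := (.leaf (nat_lit 22529) [nat_lit 63, nat_lit 168, nat_lit 168, nat_lit 63, nat_lit 168, nat_lit 63, nat_lit 189, nat_lit 63, nat_lit 189, nat_lit 42, nat_lit 168, nat_lit 42, nat_lit 189, nat_lit 42, nat_lit 189, nat_lit 189, nat_lit 42])
noncomputable def r239 : WT := (.node (nat_lit 40) (.node (nat_lit 38) r233 (.node (nat_lit 39) r234 r235)) (.node (nat_lit 42) (.node (nat_lit 41) r236 (.leaf (nat_lit 35840) [nat_lit 126, nat_lit 168, nat_lit 126, nat_lit 168, nat_lit 126, nat_lit 168, nat_lit 126])) (.node (nat_lit 43) r237 r238)))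
noncomputable def r240 : WT := (.leaf (nat_lit 22551) [nat_lit 42, nat_lit 189, nat_lit 42, nat_lit 189, nat_lit 189, nat_lit 42, nat_lit 168, nat_lit 63, nat_lit 168, nat_lit 168, nat_lit 63, nat_lit 168, nat_lit 63, nat_lit 189, nat_lit 63, nat_lit 189, nat_lit 42])
noncomputable def r241 : WT := (.leaf (nat_lit 19469) [nat_lit 42, nat_lit 168, nat_lit 42, nat_lit 105, nat_lit 63, nat_lit 189, nat_lit 63, nat_lit 189, nat_lit 42, nat_lit 189, nat_lit 63, nat_lit 189, nat_lit 63, nat_lit 105, nat_lit 42, nat_lit 168, nat_lit 42, nat_lit 168, nat_lit 63])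
noncomputable def r242 : WT := (.leaf (nat_lit 19473) [nat_lit 42, nat_lit 105, nat_lit 63, nat_lit 189, nat_lit 63, nat_lit 189, nat_lit 42, nat_lit 189, nat_lit 63, nat_lit 189, nat_lit 63, nat_lit 105, nat_lit 42, nat_lit 168, nat_lit 42, nat_lit 168, nat_lit 63, nat_lit 168, nat_lit 42])
noncomputable def r243 : WT := (.leaf (nat_lit 20481) [nat_lit 42, nat_lit 168, nat_lit 42, nat_lit 105, nat_lit 189, nat_lit 84, nat_lit 42, nat_lit 168, nat_lit 42, nat_lit 189, nat_lit 63, nat_lit 189, nat_lit 63, nat_lit 105, nat_lit 168, nat_lit 84, nat_lit 63, nat_lit 189, nat_lit 63])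
noncomputable def r244 : WT := (.leaf (nat_lit 20497) [nat_lit 42, nat_lit 189, nat_lit 63, nat_lit 189, nat_lit 63, nat_lit 105, nat_lit 168, nat_lit 84, nat_lit 63, nat_lit 189, nat_lit 63, nat_lit 168, nat_lit 42, nat_lit 168, nat_lit 42, nat_lit 105, nat_lit 189, nat_lit 84, nat_lit 42])
noncomputable def r245 : WT := (.leaf (nat_lit 28710) [nat_lit 126, nat_lit 42, nat_lit 189, nat_lit 42, nat_lit 168, nat_lit 63, nat_lit 168, nat_lit 63, nat_lit 126, nat_lit 168, nat_lit 147, nat_lit 42, nat_lit 189, nat_lit 42, nat_lit 189, nat_lit 63, nat_lit 168, nat_lit 63, nat_lit 147])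
noncomputable def r246 : WT := (.leaf (nat_lit 11295) [nat_lit 42, nat_lit 189, nat_lit 63, nat_lit 189, nat_lit 105, nat_lit 42, nat_lit 189, nat_lit 63, nat_lit 84, nat_lit 168, nat_lit 42, nat_lit 168, nat_lit 63, nat_lit 189, nat_lit 42, nat_lit 189, nat_lit 63, nat_lit 105, nat_lit 42, nat_lit 168, nat_lit 63])
noncomputable def r247 : WT := (.node (nat_lit 47) (.node (nat_lit 45) r240 (.node (nat_lit 46) r241 r242)) (.node (nat_lit 49) (.node (nat_lit 48) r243 r244) (.node (nat_lit 50) r245 r246)))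
noncomputable def r248 : WT := (.leaf (nat_lit 29720) [nat_lit 63, nat_lit 189, nat_lit 42, nat_lit 189, nat_lit 42, nat_lit 147, nat_lit 168, nat_lit 126, nat_lit 63, nat_lit 168, nat_lit 63, nat_lit 168, nat_lit 42, nat_lit 189, nat_lit 42, nat_lit 126, nat_lit 168, nat_lit 147, nat_lit 63])
noncomputable def r249 : WT := (.leaf (nat_lit 29703) [nat_lit 63, nat_lit 168, nat_lit 42, nat_lit 189, nat_lit 42, nat_lit 126, nat_lit 189, nat_lit 147, nat_lit 63, nat_lit 168, nat_lit 63, nat_lit 189, nat_lit 42, nat_lit 189, nat_lit 42, nat_lit 147, nat_lit 189, nat_lit 126, nat_lit 63])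
noncomputable def r250 : WT := (.leaf (nat_lit 29707) [nat_lit 42, nat_lit 189, nat_lit 42, nat_lit 126, nat_lit 189, nat_lit 147, nat_lit 63, nat_lit 168, nat_lit 63, nat_lit 189, nat_lit 42, nat_lit 189, nat_lit 42, nat_lit 147, nat_lit 189, nat_lit 126, nat_lit 63, nat_lit 168, nat_lit 63])
noncomputable def r251 : WT := (.leaf (nat_lit 29723) [nat_lit 63, nat_lit 189, nat_lit 42, nat_lit 189, nat_lit 42, nat_lit 147, nat_lit 189, nat_lit 126, nat_lit 63, nat_lit 168, nat_lit 63, nat_lit 168, nat_lit 42, nat_lit 189, nat_lit 42, nat_lit 126, nat_lit 189, nat_lit 147, nat_lit 63])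
noncomputable def r252 : WT := (.leaf (nat_lit 30738) [nat_lit 42, nat_lit 84, nat_lit 126, nat_lit 189, nat_lit 126, nat_lit 126, nat_lit 42, nat_lit 189, nat_lit 63, nat_lit 105, nat_lit 42, nat_lit 168, nat_lit 63, nat_lit 147, nat_lit 147, nat_lit 168, nat_lit 147, nat_lit 105, nat_lit 63])
noncomputable def r253 : WT := (.leaf (nat_lit 30733) [nat_lit 147, nat_lit 105, nat_lit 63, nat_lit 189, nat_lit 42, nat_lit 84, nat_lit 126, nat_lit 189, nat_lit 126, nat_lit 126, nat_lit 42, nat_lit 189, nat_lit 63, nat_lit 84, nat_lit 42, nat_lit 168, nat_lit 63, nat_lit 147, nat_lit 147])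
noncomputable def r254 : WT := (.leaf (nat_lit 11268) [nat_lit 42, nat_lit 168, nat_lit 63, nat_lit 189, nat_lit 42, nat_lit 189, nat_lit 63, nat_lit 84, nat_lit 42, nat_lit 168, nat_lit 63, nat_lit 168, nat_lit 42, nat_lit 189, nat_lit 63, nat_lit 189, nat_lit 105, nat_lit 42, nat_lit 168, nat_lit 63, nat_lit 84])
noncomputable def r255 : WT := (.leaf (nat_lit 11291) [nat_lit 63, nat_lit 168, nat_lit 42, nat_lit 189, nat_lit 63, nat_lit 189, nat_lit 105, nat_lit 42, nat_lit 189, nat_lit 63, nat_lit 84, nat_lit 168, nat_lit 42, nat_lit 168, nat_lit 63, nat_lit 189, nat_lit 42, nat_lit 189, nat_lit 63, nat_lit 105, nat_lit 42])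
noncomputable def r256 : WT := (.node (nat_lit 55) (.node (nat_lit 53) (.node (nat_lit 52) r248 r249) (.node (nat_lit 54) r250 r251)) (.node (nat_lit 57) (.node (nat_lit 56) r252 r253) (.node (nat_lit 58) r254 r255)))
noncomputable def r257 : WT := (.node (nat_lit 13) (.node (nat_lit 8) (.node (nat_lit 7) (.leaf (nat_lit 34823) [nat_lit 147, nat_lit 189, nat_lit 147, nat_lit 189, nat_lit 126, nat_lit 168, nat_lit 126]) (.leaf (nat_lit 34819) [nat_lit 126, nat_lit 168, nat_lit 147, nat_lit 189, nat_lit 147, nat_lit 189, nat_lit 126])) (.node (nat_lit 10) (.node (nat_lit 9) r198 r199) (.node (nat_lit 11) r200 r203))) (.node (nat_lit 30) (.node (nat_lit 19) (.node (nat_lit 16) r207 r211) (.node (nat_lit 23) r216 r224)) (.node (nat_lit 44) (.node (nat_lit 37) r232 r239) (.node (nat_lit 51) r247 r256))))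
noncomputable def w6 : WT := (.node (nat_lit 1) (.leaf (nat_lit 3072) [nat_lit 189]) (.node (nat_lit 2) (.leaf (nat_lit 9217) [nat_lit 84, nat_lit 189, nat_lit 105]) (.node (nat_lit 3) (.leaf (nat_lit 7168) [nat_lit 168, nat_lit 168]) (.node (nat_lit 6) r197 r257))))
noncomputable def r258 : WT := (.leaf (nat_lit 33806) [nat_lit 126, nat_lit 126, nat_lit 168, nat_lit 147, nat_lit 168, nat_lit 126, nat_lit 189, nat_lit 126, nat_lit 189, nat_lit 147, nat_lit 147, nat_lit 168, nat_lit 126])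
noncomputable def r259 : WT := (.node (nat_lit 5) (.leaf (nat_lit 34828) [nat_lit 147, nat_lit 168, nat_lit 126, nat_lit 168, nat_lit 126, nat_lit 189, nat_lit 147]) (.node (nat_lit 6) (.leaf (nat_lit 34827) [nat_lit 147, nat_lit 189, nat_lit 126, nat_lit 168, nat_lit 126, nat_lit 168, nat_lit 147]) (.node (nat_lit 7) (.leaf (nat_lit 34824) [nat_lit 147, nat_lit 189, nat_lit 147, nat_lit 168, nat_lit 126, nat_lit 168, nat_lit 126]) r258)))
noncomputable def r260 : WT := (.leaf (nat_lit 22552) [nat_lit 42, nat_lit 189, nat_lit 189, nat_lit 42, nat_lit 189, nat_lit 63, nat_lit 168, nat_lit 168, nat_lit 63, nat_lit 168, nat_lit 63, nat_lit 189, nat_lit 63, nat_lit 168, nat_lit 42, nat_lit 168, nat_lit 42])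
noncomputable def r261 : WT := (.leaf (nat_lit 30746) [nat_lit 126, nat_lit 126, nat_lit 42, nat_lit 189, nat_lit 63, nat_lit 105, nat_lit 42, nat_lit 168, nat_lit 63, nat_lit 147, nat_lit 147, nat_lit 168, nat_lit 147, nat_lit 105, nat_lit 63, nat_lit 168, nat_lit 42, nat_lit 84, nat_lit 126])
noncomputable def r262 : WT := (.leaf (nat_lit 33799) [nat_lit 147, nat_lit 147, nat_lit 168, nat_lit 147, nat_lit 189, nat_lit 126, nat_lit 126, nat_lit 168, nat_lit 147, nat_lit 168, nat_lit 147, nat_lit 189, nat_lit 126])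
noncomputable def r263 : WT := (.leaf (nat_lit 22543) [nat_lit 63, nat_lit 189, nat_lit 42, nat_lit 168, nat_lit 42, nat_lit 189, nat_lit 42, nat_lit 189, nat_lit 189, nat_lit 42, nat_lit 168, nat_lit 63, nat_lit 168, nat_lit 168, nat_lit 63, nat_lit 168, nat_lit 63])
noncomputable def r264 : WT := (.leaf (nat_lit 29711) [nat_lit 42, nat_lit 126, nat_lit 189, nat_lit 147, nat_lit 63, nat_lit 168, nat_lit 63, nat_lit 189, nat_lit 42, nat_lit 189, nat_lit 42, nat_lit 147, nat_lit 189, nat_lit 126, nat_lit 63, nat_lit 168, nat_lit 63, nat_lit 168, nat_lit 42])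
noncomputable def r265 : WT := (.node (nat_lit 14) r263 r264)
noncomputable def r266 : WT := (.leaf (nat_lit 22540) [nat_lit 63, nat_lit 168, nat_lit 42, nat_lit 168, nat_lit 42, nat_lit 189, nat_lit 42, nat_lit 189, nat_lit 189, nat_lit 42, nat_lit 189, nat_lit 63, nat_lit 168, nat_lit 168, nat_lit 63, nat_lit 168, nat_lit 63])
noncomputable def r267 : WT := (.leaf (nat_lit 33795) [nat_lit 126, nat_lit 189, nat_lit 147, nat_lit 147, nat_lit 168, nat_lit 147, nat_lit 189, nat_lit 126, nat_lit 126, nat_lit 168, nat_lit 147, nat_lit 168, nat_lit 147])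
noncomputable def r268 : WT := (.node (nat_lit 16) r266 r267)
noncomputable def r269 : WT := (.leaf (nat_lit 13319) [nat_lit 63, nat_lit 189, nat_lit 63, nat_lit 168, nat_lit 63, nat_lit 168, nat_lit 63, nat_lit 189, nat_lit 42, nat_lit 189, nat_lit 42, nat_lit 189, nat_lit 42, nat_lit 168, nat_lit 42, nat_lit 168, nat_lit 42, nat_lit 42, nat_lit 84, nat_lit 63, nat_lit 63])
noncomputable def r270 : WT := (.leaf (nat_lit 33792) [nat_lit 126, nat_lit 189, nat_lit 147, nat_lit 147, nat_lit 168, nat_lit 126, nat_lit 189, nat_lit 126, nat_lit 126, nat_lit 168, nat_lit 147, nat_lit 168, nat_lit 126])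
noncomputable def r271 : WT := (.node (nat_lit 18) r269 r270)
noncomputable def r272 : WT := (.leaf (nat_lit 33796) [nat_lit 147, nat_lit 147, nat_lit 168, nat_lit 126, nat_lit 189, nat_lit 126, nat_lit 126, nat_lit 168, nat_lit 147, nat_lit 168, nat_lit 126, nat_lit 189, nat_lit 126])
noncomputable def r273 : WT := (.leaf (nat_lit 19478) [nat_lit 63, nat_lit 189, nat_lit 42, nat_lit 189, nat_lit 63, nat_lit 189, nat_lit 63, nat_lit 84, nat_lit 42, nat_lit 168, nat_lit 42, nat_lit 168, nat_lit 63, nat_lit 168, nat_lit 42, nat_lit 168, nat_lit 42, nat_lit 84, nat_lit 63])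
noncomputable def r274 : WT := (.leaf (nat_lit 22562) [nat_lit 63, nat_lit 168, nat_lit 168, nat_lit 63, nat_lit 168, nat_lit 63, nat_lit 189, nat_lit 63, nat_lit 168, nat_lit 42, nat_lit 168, nat_lit 42, nat_lit 189, nat_lit 42, nat_lit 189, nat_lit 189, nat_lit 42])
noncomputable def r275 : WT := (.node (nat_lit 20) r272 (.node (nat_lit 21) r273 r274))
noncomputable def r276 : WT := (.leaf (nat_lit 23568) [nat_lit 63, nat_lit 84, nat_lit 42, nat_lit 168, nat_lit 42, nat_lit 168, nat_lit 42, nat_lit 147, nat_lit 84, nat_lit 42, nat_lit 168, nat_lit 42, nat_lit 84, nat_lit 63, nat_lit 189, nat_lit 63, nat_lit 105, nat_lit 126, nat_lit 63, nat_lit 189, nat_lit 63])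
noncomputable def r277 : WT := (.leaf (nat_lit 23554) [nat_lit 63, nat_lit 105, nat_lit 126, nat_lit 63, nat_lit 189, nat_lit 63, nat_lit 189, nat_lit 63, nat_lit 84, nat_lit 42, nat_lit 168, nat_lit 42, nat_lit 168, nat_lit 42, nat_lit 147, nat_lit 84, nat_lit 42, nat_lit 168, nat_lit 42, nat_lit 84, nat_lit 63])
noncomputable def r278 : WT := (.leaf (nat_lit 18433) [nat_lit 63, nat_lit 168, nat_lit 63, nat_lit 168, nat_lit 63, nat_lit 189, nat_lit 63, nat_lit 189, nat_lit 63, nat_lit 63, nat_lit 105, nat_lit 42, nat_lit 42, nat_lit 168, nat_lit 42, nat_lit 168, nat_lit 42, nat_lit 189, nat_lit 42, nat_lit 189, nat_lit 42])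
noncomputable def r279 : WT := (.leaf (nat_lit 18470) [nat_lit 42, nat_lit 168, nat_lit 63, nat_lit 168, nat_lit 63, nat_lit 168, nat_lit 63, nat_lit 189, nat_lit 63, nat_lit 189, nat_lit 63, nat_lit 63, nat_lit 84, nat_lit 42, nat_lit 42, nat_lit 168, nat_lit 42, nat_lit 168, nat_lit 42, nat_lit 189, nat_lit 42])
noncomputable def r280 : WT := (.leaf (nat_lit 18442) [nat_lit 63, nat_lit 189, nat_lit 63, nat_lit 63, nat_lit 84, nat_lit 42, nat_lit 42, nat_lit 168, nat_lit 42, nat_lit 168, nat_lit 42, nat_lit 189, nat_lit 42, nat_lit 189, nat_lit 42, nat_lit 168, nat_lit 63, nat_lit 168, nat_lit 63, nat_lit 168, nat_lit 63])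
noncomputable def r281 : WT := (.node (nat_lit 24) (.node (nat_lit 23) r276 r277) (.node (nat_lit 25) r278 (.node (nat_lit 26) r279 r280)))
noncomputable def r282 : WT := (.leaf (nat_lit 17445) [nat_lit 42, nat_lit 189, nat_lit 42, nat_lit 84, nat_lit 63, nat_lit 168, nat_lit 63, nat_lit 168, nat_lit 63, nat_lit 189, nat_lit 63, nat_lit 189, nat_lit 63, nat_lit 63, nat_lit 189, nat_lit 42, nat_lit 42, nat_lit 168, nat_lit 42, nat_lit 168, nat_lit 42])
noncomputable def r283 : WT := (.leaf (nat_lit 17421) [nat_lit 63, nat_lit 189, nat_lit 63, nat_lit 63, nat_lit 189, nat_lit 42, nat_lit 42, nat_lit 168, nat_lit 42, nat_lit 168, nat_lit 42, nat_lit 189, nat_lit 42, nat_lit 189, nat_lit 42, nat_lit 84, nat_lit 63, nat_lit 168, nat_lit 63, nat_lit 168, nat_lit 63])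
noncomputable def r284 : WT := (.leaf (nat_lit 23557) [nat_lit 63, nat_lit 105, nat_lit 126, nat_lit 63, nat_lit 189, nat_lit 63, nat_lit 189, nat_lit 63, nat_lit 105, nat_lit 42, nat_lit 168, nat_lit 42, nat_lit 168, nat_lit 42, nat_lit 147, nat_lit 84, nat_lit 42, nat_lit 168, nat_lit 42, nat_lit 105, nat_lit 63])
noncomputable def r285 : WT := (.leaf (nat_lit 25601) [nat_lit 63, nat_lit 189, nat_lit 147, nat_lit 147, nat_lit 63, nat_lit 63, nat_lit 168, nat_lit 147, nat_lit 168, nat_lit 42, nat_lit 189, nat_lit 63, nat_lit 189, nat_lit 126, nat_lit 189, nat_lit 42, nat_lit 42, nat_lit 126, nat_lit 126, nat_lit 168, nat_lit 42])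
noncomputable def r286 : WT := (.leaf (nat_lit 17446) [nat_lit 42, nat_lit 105, nat_lit 63, nat_lit 168, nat_lit 63, nat_lit 168, nat_lit 63, nat_lit 189, nat_lit 63, nat_lit 189, nat_lit 63, nat_lit 63, nat_lit 168, nat_lit 42, nat_lit 42, nat_lit 168, nat_lit 42, nat_lit 168, nat_lit 42, nat_lit 189, nat_lit 42])
noncomputable def r287 : WT := (.node (nat_lit 29) (.node (nat_lit 28) r282 r283) (.node (nat_lit 30) r284 (.node (nat_lit 31) r285 r286)))
noncomputable def r288 : WT := (.leaf (nat_lit 16390) [nat_lit 63, nat_lit 168, nat_lit 42, nat_lit 168, nat_lit 105, nat_lit 63, nat_lit 168, nat_lit 42, nat_lit 84, nat_lit 189, nat_lit 63, nat_lit 189, nat_lit 42, nat_lit 168, nat_lit 63, nat_lit 168, nat_lit 42, nat_lit 105, nat_lit 63, nat_lit 189, nat_lit 42])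
noncomputable def r289 : WT := (.leaf (nat_lit 14371) [nat_lit 63, nat_lit 63, nat_lit 168, nat_lit 42, nat_lit 84, nat_lit 63, nat_lit 189, nat_lit 42, nat_lit 42, nat_lit 168, nat_lit 42, nat_lit 189, nat_lit 42, nat_lit 168, nat_lit 63, nat_lit 189, nat_lit 42, nat_lit 189, nat_lit 63, nat_lit 168, nat_lit 63])
noncomputable def r290 : WT := (.leaf (nat_lit 14351) [nat_lit 42, nat_lit 168, nat_lit 63, nat_lit 189, nat_lit 42, nat_lit 189, nat_lit 63, nat_lit 168, nat_lit 63, nat_lit 189, nat_lit 63, nat_lit 63, nat_lit 168, nat_lit 42, nat_lit 84, nat_lit 63, nat_lit 189, nat_lit 42, nat_lit 42, nat_lit 168, nat_lit 42])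
noncomputable def r291 : WT := (.leaf (nat_lit 14368) [nat_lit 63, nat_lit 63, nat_lit 168, nat_lit 42, nat_lit 105, nat_lit 63, nat_lit 189, nat_lit 42, nat_lit 42, nat_lit 168, nat_lit 42, nat_lit 189, nat_lit 42, nat_lit 168, nat_lit 63, nat_lit 168, nat_lit 42, nat_lit 189, nat_lit 63, nat_lit 168, nat_lit 63])
noncomputable def r292 : WT := (.leaf (nat_lit 13316) [nat_lit 63, nat_lit 189, nat_lit 63, nat_lit 168, nat_lit 63, nat_lit 168, nat_lit 63, nat_lit 168, nat_lit 42, nat_lit 189, nat_lit 42, nat_lit 189, nat_lit 42, nat_lit 168, nat_lit 42, nat_lit 168, nat_lit 42, nat_lit 42, nat_lit 105, nat_lit 63, nat_lit 63])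
noncomputable def r293 : WT := (.node (nat_lit 34) (.node (nat_lit 33) r288 r289) (.node (nat_lit 35) r290 (.node (nat_lit 36) r291 r292)))
noncomputable def r294 : WT := (.leaf (nat_lit 12304) [nat_lit 63, nat_lit 84, nat_lit 42, nat_lit 168, nat_lit 63, nat_lit 63, nat_lit 189, nat_lit 63, nat_lit 168, nat_lit 63, nat_lit 189, nat_lit 42, nat_lit 168, nat_lit 63, nat_lit 168, nat_lit 42, nat_lit 189, nat_lit 42, nat_lit 168, nat_lit 42, nat_lit 42])
noncomputable def r295 : WT := (.leaf (nat_lit 11300) [nat_lit 105, nat_lit 42, nat_lit 168, nat_lit 63, nat_lit 84, nat_lit 168, nat_lit 42, nat_lit 168, nat_lit 63, nat_lit 189, nat_lit 42, nat_lit 189, nat_lit 63, nat_lit 84, nat_lit 42, nat_lit 168, nat_lit 63, nat_lit 168, nat_lit 42, nat_lit 189, nat_lit 63])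
noncomputable def r296 : WT := (.leaf (nat_lit 32806) [nat_lit 63, nat_lit 126, nat_lit 42, nat_lit 105, nat_lit 63, nat_lit 63, nat_lit 147, nat_lit 42, nat_lit 42, nat_lit 168, nat_lit 63, nat_lit 63, nat_lit 126, nat_lit 42, nat_lit 42, nat_lit 84, nat_lit 63, nat_lit 147, nat_lit 42])
noncomputable def r297 : WT := (.leaf (nat_lit 31745) [nat_lit 42, nat_lit 126, nat_lit 42, nat_lit 42, nat_lit 189, nat_lit 63, nat_lit 126, nat_lit 126, nat_lit 42, nat_lit 105, nat_lit 63, nat_lit 147, nat_lit 147, nat_lit 42, nat_lit 168, nat_lit 63, nat_lit 63, nat_lit 147, nat_lit 63])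
noncomputable def r298 : WT := (.leaf (nat_lit 31752) [nat_lit 63, nat_lit 126, nat_lit 126, nat_lit 42, nat_lit 84, nat_lit 63, nat_lit 147, nat_lit 147, nat_lit 42, nat_lit 168, nat_lit 63, nat_lit 63, nat_lit 147, nat_lit 63, nat_lit 168, nat_lit 42, nat_lit 126, nat_lit 42, nat_lit 42])
noncomputable def r299 : WT := (.node (nat_lit 39) (.node (nat_lit 38) r294 r295) (.node (nat_lit 40) r296 (.node (nat_lit 41) r297 r298)))
noncomputable def r300 : WT := (.leaf (nat_lit 30749) [nat_lit 126, nat_lit 126, nat_lit 42, nat_lit 189, nat_lit 63, nat_lit 84, nat_lit 42, nat_lit 168, nat_lit 63, nat_lit 147, nat_lit 147, nat_lit 168, nat_lit 147, nat_lit 105, nat_lit 63, nat_lit 189, nat_lit 42, nat_lit 84, nat_lit 126])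
noncomputable def r301 : WT := (.leaf (nat_lit 29728) [nat_lit 42, nat_lit 147, nat_lit 168, nat_lit 126, nat_lit 63, nat_lit 168, nat_lit 63, nat_lit 168, nat_lit 42, nat_lit 189, nat_lit 42, nat_lit 126, nat_lit 168, nat_lit 147, nat_lit 63, nat_lit 168, nat_lit 63, nat_lit 189, nat_lit 42])
noncomputable def r302 : WT := (.leaf (nat_lit 29724) [nat_lit 42, nat_lit 189, nat_lit 42, nat_lit 147, nat_lit 168, nat_lit 126, nat_lit 63, nat_lit 168, nat_lit 63, nat_lit 168, nat_lit 42, nat_lit 189, nat_lit 42, nat_lit 126, nat_lit 168, nat_lit 147, nat_lit 63, nat_lit 168, nat_lit 63])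
noncomputable def r303 : WT := (.leaf (nat_lit 28696) [nat_lit 42, nat_lit 189, nat_lit 63, nat_lit 168, nat_lit 63, nat_lit 147, nat_lit 168, nat_lit 126, nat_lit 42, nat_lit 189, nat_lit 42, nat_lit 168, nat_lit 63, nat_lit 168, nat_lit 63, nat_lit 126, nat_lit 168, nat_lit 147, nat_lit 42])
noncomputable def r304 : WT := (.leaf (nat_lit 21538) [nat_lit 42, nat_lit 189, nat_lit 63, nat_lit 168, nat_lit 42, nat_lit 105, nat_lit 63, nat_lit 63, nat_lit 189, nat_lit 42, nat_lit 42, nat_lit 168, nat_lit 63, nat_lit 63, nat_lit 168, nat_lit 42, nat_lit 42, nat_lit 84, nat_lit 63])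
noncomputable def r305 : WT := (.node (nat_lit 44) (.node (nat_lit 43) r300 r301) (.node (nat_lit 45) r302 (.node (nat_lit 46) r303 r304)))
noncomputable def r306 : WT := (.leaf (nat_lit 19489) [nat_lit 63, nat_lit 189, nat_lit 63, nat_lit 105, nat_lit 42, nat_lit 168, nat_lit 42, nat_lit 168, nat_lit 63, nat_lit 168, nat_lit 42, nat_lit 168, nat_lit 42, nat_lit 105, nat_lit 63, nat_lit 189, nat_lit 63, nat_lit 189, nat_lit 42])
noncomputable def r307 : WT := (.leaf (nat_lit 19486) [nat_lit 63, nat_lit 189, nat_lit 63, nat_lit 84, nat_lit 42, nat_lit 168, nat_lit 42, nat_lit 168, nat_lit 63, nat_lit 168, nat_lit 42, nat_lit 168, nat_lit 42, nat_lit 84, nat_lit 63, nat_lit 189, nat_lit 63, nat_lit 189, nat_lit 42])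
noncomputable def r308 : WT := (.leaf (nat_lit 22561) [nat_lit 42, nat_lit 168, nat_lit 63, nat_lit 168, nat_lit 168, nat_lit 63, nat_lit 168, nat_lit 63, nat_lit 189, nat_lit 63, nat_lit 189, nat_lit 42, nat_lit 168, nat_lit 42, nat_lit 189, nat_lit 42, nat_lit 189])
noncomputable def r309 : WT := (.leaf (nat_lit 22547) [nat_lit 42, nat_lit 168, nat_lit 42, nat_lit 189, nat_lit 42, nat_lit 189, nat_lit 189, nat_lit 42, nat_lit 168, nat_lit 63, nat_lit 168, nat_lit 168, nat_lit 63, nat_lit 168, nat_lit 63, nat_lit 189, nat_lit 63])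
noncomputable def r310 : WT := (.leaf (nat_lit 22556) [nat_lit 189, nat_lit 42, nat_lit 189, nat_lit 63, nat_lit 168, nat_lit 168, nat_lit 63, nat_lit 168, nat_lit 63, nat_lit 189, nat_lit 63, nat_lit 168, nat_lit 42, nat_lit 168, nat_lit 42, nat_lit 189, nat_lit 42])
noncomputable def r311 : WT := (.node (nat_lit 49) (.node (nat_lit 48) r306 r307) (.node (nat_lit 50) r308 (.node (nat_lit 51) r309 r310)))
noncomputable def r312 : WT := (.node (nat_lit 17) (.node (nat_lit 11) (.node (nat_lit 9) r260 (.node (nat_lit 10) (.leaf (nat_lit 34831) [nat_lit 126, nat_lit 168, nat_lit 126, nat_lit 168, nat_lit 147, nat_lit 189, nat_lit 147]) r261)) (.node (nat_lit 13) (.node (nat_lit 12) (.leaf (nat_lit 35843) [nat_lit 147, nat_lit 189, nat_lit 147, nat_lit 189, nat_lit 147, nat_lit 189, nat_lit 147]) r262) (.node (nat_lit 15) r265 r268))) (.node (nat_lit 32) (.node (nat_lit 22) (.node (nat_lit 19) r271 r275) (.node (nat_lit 27) r281 r287)) (.node (nat_lit 42) (.node (nat_lit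 37) r293 r299) (.node (nat_lit 47) r305 r311))))
noncomputable def w7 : WT := (.node (nat_lit 1) (.leaf (nat_lit 3074) [nat_lit 168]) (.node (nat_lit 2) (.leaf (nat_lit 9222) [nat_lit 84, nat_lit 168, nat_lit 105]) (.node (nat_lit 4) (.node (nat_lit 3) (.leaf (nat_lit 7169) [nat_lit 189, nat_lit 189]) (.leaf (nat_lit 9221) [nat_lit 105, nat_lit 168, nat_lit 84])) (.node (nat_lit 8) r259 r312))))
noncomputable def r313 : WT := (.leaf (nat_lit 30751) [nat_lit 126, nat_lit 126, nat_lit 42, nat_lit 189, nat_lit 63, nat_lit 84, nat_lit 42, nat_lit 168, nat_lit 63, nat_lit 147, nat_lit 147, nat_lit 168, nat_lit 147, nat_lit 105, nat_lit 63, nat_lit 189, nat_lit 42, nat_lit 84, nat_lit 126, nat_lit 189])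
noncomputable def r314 : WT := (.node (nat_lit 1) (.leaf (nat_lit 34818) [nat_lit 126, nat_lit 168, nat_lit 126, nat_lit 189, nat_lit 147, nat_lit 189, nat_lit 147, nat_lit 168]) (.node (nat_lit 2) (.leaf (nat_lit 34822) [nat_lit 126, nat_lit 189, nat_lit 147, nat_lit 189, nat_lit 147, nat_lit 168, nat_lit 126, nat_lit 168]) r313))
noncomputable def r315 : WT := (.leaf (nat_lit 30732) [nat_lit 147, nat_lit 105, nat_lit 63, nat_lit 168, nat_lit 42, nat_lit 84, nat_lit 126, nat_lit 189, nat_lit 126, nat_lit 126, nat_lit 42, nat_lit 189, nat_lit 63, nat_lit 105, nat_lit 42, nat_lit 168, nat_lit 63, nat_lit 147, nat_lit 147, nat_lit 168])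
noncomputable def r316 : WT := (.leaf (nat_lit 33804) [nat_lit 126, nat_lit 189, nat_lit 126, nat_lit 126, nat_lit 168, nat_lit 147, nat_lit 168, nat_lit 126, nat_lit 189, nat_lit 126, nat_lit 189, nat_lit 147, nat_lit 147, nat_lit 168])
noncomputable def r317 : WT := (.node (nat_lit 4) (.leaf (nat_lit 34830) [nat_lit 147, nat_lit 168, nat_lit 126, nat_lit 168, nat_lit 126, nat_lit 189, nat_lit 147, nat_lit 189]) (.node (nat_lit 5) r315 r316))
noncomputable def r318 : WT := (.leaf (nat_lit 30735) [nat_lit 147, nat_lit 105, nat_lit 63, nat_lit 189, nat_lit 42, nat_lit 84, nat_lit 126, nat_lit 189, nat_lit 126, nat_lit 126, nat_lit 42, nat_lit 189, nat_lit 63, nat_lit 84, nat_lit 42, nat_lit 168, nat_lit 63, nat_lit 147, nat_lit 147, nat_lit 168])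
noncomputable def r319 : WT := (.leaf (nat_lit 30753) [nat_lit 126, nat_lit 42, nat_lit 189, nat_lit 63, nat_lit 84, nat_lit 42, nat_lit 168, nat_lit 63, nat_lit 147, nat_lit 147, nat_lit 168, nat_lit 147, nat_lit 105, nat_lit 63, nat_lit 189, nat_lit 42, nat_lit 84, nat_lit 126, nat_lit 189, nat_lit 126])
noncomputable def r320 : WT := (.leaf (nat_lit 25612) [nat_lit 168, nat_lit 147, nat_lit 168, nat_lit 42, nat_lit 168, nat_lit 63, nat_lit 189, nat_lit 126, nat_lit 189, nat_lit 42, nat_lit 42, nat_lit 126, nat_lit 126, nat_lit 168, nat_lit 42, nat_lit 168, nat_lit 63, nat_lit 189, nat_lit 147, nat_lit 147, nat_lit 63, nat_lit 63])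
noncomputable def r321 : WT := (.leaf (nat_lit 31770) [nat_lit 42, nat_lit 168, nat_lit 63, nat_lit 63, nat_lit 147, nat_lit 63, nat_lit 168, nat_lit 42, nat_lit 126, nat_lit 42, nat_lit 42, nat_lit 189, nat_lit 63, nat_lit 126, nat_lit 126, nat_lit 42, nat_lit 84, nat_lit 63, nat_lit 147, nat_lit 147])
noncomputable def r322 : WT := (.leaf (nat_lit 24609) [nat_lit 147, nat_lit 168, nat_lit 42, nat_lit 42, nat_lit 168, nat_lit 42, nat_lit 105, nat_lit 63, nat_lit 189, nat_lit 63, nat_lit 63, nat_lit 189, nat_lit 126, nat_lit 42, nat_lit 126, nat_lit 105, nat_lit 63, nat_lit 189, nat_lit 42, nat_lit 84, nat_lit 147, nat_lit 63])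
noncomputable def r323 : WT := (.node (nat_lit 8) (.node (nat_lit 7) r318 r319) (.node (nat_lit 9) r320 (.node (nat_lit 10) r321 r322)))
noncomputable def r324 : WT := (.leaf (nat_lit 28677) [nat_lit 42, nat_lit 189, nat_lit 42, nat_lit 168, nat_lit 63, nat_lit 168, nat_lit 63, nat_lit 126, nat_lit 189, nat_lit 147, nat_lit 42, nat_lit 189, nat_lit 42, nat_lit 189, nat_lit 63, nat_lit 168, nat_lit 63, nat_lit 147, nat_lit 189, nat_lit 126])
noncomputable def r325 : WT := (.leaf (nat_lit 29735) [nat_lit 147, nat_lit 189, nat_lit 126, nat_lit 63, nat_lit 168, nat_lit 63, nat_lit 168, nat_lit 42, nat_lit 189, nat_lit 42, nat_lit 126, nat_lit 189, nat_lit 147, nat_lit 63, nat_lit 168, nat_lit 63, nat_lit 189, nat_lit 42, nat_lit 189, nat_lit 42])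
noncomputable def r326 : WT := (.leaf (nat_lit 23591) [nat_lit 42, nat_lit 168, nat_lit 42, nat_lit 105, nat_lit 63, nat_lit 189, nat_lit 63, nat_lit 105, nat_lit 126, nat_lit 63, nat_lit 189, nat_lit 63, nat_lit 189, nat_lit 63, nat_lit 105, nat_lit 42, nat_lit 168, nat_lit 42, nat_lit 168, nat_lit 42, nat_lit 147, nat_lit 84])
noncomputable def r327 : WT := (.leaf (nat_lit 12306) [nat_lit 63, nat_lit 84, nat_lit 42, nat_lit 168, nat_lit 63, nat_lit 63, nat_lit 189, nat_lit 63, nat_lit 168, nat_lit 63, nat_lit 189, nat_lit 42, nat_lit 168, nat_lit 63, nat_lit 168, nat_lit 42, nat_lit 189, nat_lit 42, nat_lit 168, nat_lit 42, nat_lit 42, nat_lit 189])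
noncomputable def r328 : WT := (.node (nat_lit 13) (.node (nat_lit 12) r324 r325) (.node (nat_lit 14) r326 (.node (nat_lit 15) (.leaf (nat_lit 34829) [nat_lit 147, nat_lit 189, nat_lit 126, nat_lit 168, nat_lit 126, nat_lit 168, nat_lit 147, nat_lit 189]) r327)))
noncomputable def r329 : WT := (.leaf (nat_lit 27663) [nat_lit 147, nat_lit 147, nat_lit 105, nat_lit 42, nat_lit 105, nat_lit 63, nat_lit 84, nat_lit 126, nat_lit 126, nat_lit 63, nat_lit 126, nat_lit 63, nat_lit 168, nat_lit 105, nat_lit 42, nat_lit 105, nat_lit 63, nat_lit 84, nat_lit 189, nat_lit 42, nat_lit 147, nat_lit 42])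
noncomputable def r330 : WT := (.leaf (nat_lit 27669) [nat_lit 42, nat_lit 105, nat_lit 63, nat_lit 84, nat_lit 126, nat_lit 126, nat_lit 63, nat_lit 126, nat_lit 63, nat_lit 168, nat_lit 105, nat_lit 42, nat_lit 105, nat_lit 63, nat_lit 84, nat_lit 189, nat_lit 42, nat_lit 147, nat_lit 42, nat_lit 147, nat_lit 147, nat_lit 105])
noncomputable def r331 : WT := (.leaf (nat_lit 27681) [nat_lit 63, nat_lit 126, nat_lit 63, nat_lit 168, nat_lit 105, nat_lit 42, nat_lit 105, nat_lit 63, nat_lit 84, nat_lit 189, nat_lit 42, nat_lit 147, nat_lit 42, nat_lit 147, nat_lit 147, nat_lit 105, nat_lit 42, nat_lit 105, nat_lit 63, nat_lit 84, nat_lit 126, nat_lit 126])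
noncomputable def r332 : WT := (.leaf (nat_lit 13344) [nat_lit 168, nat_lit 42, nat_lit 168, nat_lit 42, nat_lit 42, nat_lit 105, nat_lit 63, nat_lit 63, nat_lit 189, nat_lit 63, nat_lit 189, nat_lit 63, nat_lit 168, nat_lit 63, nat_lit 168, nat_lit 63, nat_lit 168, nat_lit 42, nat_lit 189, nat_lit 42, nat_lit 189, nat_lit 42])
noncomputable def r333 : WT := (.leaf (nat_lit 23588) [nat_lit 42, nat_lit 168, nat_lit 42, nat_lit 84, nat_lit 63, nat_lit 189, nat_lit 63, nat_lit 105, nat_lit 126, nat_lit 63, nat_lit 189, nat_lit 63, nat_lit 189, nat_lit 63, nat_lit 84, nat_lit 42, nat_lit 168, nat_lit 42, nat_lit 168, nat_lit 42, nat_lit 147, nat_lit 84])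
noncomputable def r334 : WT := (.leaf (nat_lit 23568) [nat_lit 189, nat_lit 63, nat_lit 84, nat_lit 42, nat_lit 168, nat_lit 42, nat_lit 168, nat_lit 42, nat_lit 147, nat_lit 84, nat_lit 42, nat_lit 168, nat_lit 42, nat_lit 84, nat_lit 63, nat_lit 189, nat_lit 63, nat_lit 105, nat_lit 126, nat_lit 63, nat_lit 189, nat_lit 63])
noncomputable def r335 : WT := (.node (nat_lit 19) (.node (nat_lit 17) r329 (.node (nat_lit 18) r330 r331)) (.node (nat_lit 20) r332 (.node (nat_lit 21) r333 r334)))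
noncomputable def r336 : WT := (.leaf (nat_lit 18465) [nat_lit 168, nat_lit 42, nat_lit 189, nat_lit 42, nat_lit 189, nat_lit 42, nat_lit 189, nat_lit 63, nat_lit 168, nat_lit 63, nat_lit 168, nat_lit 63, nat_lit 189, nat_lit 63, nat_lit 189, nat_lit 63, nat_lit 63, nat_lit 105, nat_lit 42, nat_lit 42, nat_lit 168, nat_lit 42])
noncomputable def r337 : WT := (.leaf (nat_lit 18451) [nat_lit 63, nat_lit 63, nat_lit 105, nat_lit 42, nat_lit 42, nat_lit 168, nat_lit 42, nat_lit 168, nat_lit 42, nat_lit 189, nat_lit 42, nat_lit 189, nat_lit 42, nat_lit 189, nat_lit 63, nat_lit 168, nat_lit 63, nat_lit 168, nat_lit 63, nat_lit 189, nat_lit 63, nat_lit 189])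
noncomputable def r338 : WT := (.leaf (nat_lit 18472) [nat_lit 42, nat_lit 168, nat_lit 63, nat_lit 168, nat_lit 63, nat_lit 168, nat_lit 63, nat_lit 189, nat_lit 63, nat_lit 189, nat_lit 63, nat_lit 63, nat_lit 84, nat_lit 42, nat_lit 42, nat_lit 168, nat_lit 42, nat_lit 168, nat_lit 42, nat_lit 189, nat_lit 42, nat_lit 189])
noncomputable def r339 : WT := (.leaf (nat_lit 18444) [nat_lit 63, nat_lit 189, nat_lit 63, nat_lit 63, nat_lit 84, nat_lit 42, nat_lit 42, nat_lit 168, nat_lit 42, nat_lit 168, nat_lit 42, nat_lit 189, nat_lit 42, nat_lit 189, nat_lit 42, nat_lit 168, nat_lit 63, nat_lit 168, nat_lit 63, nat_lit 168, nat_lit 63, nat_lit 189])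
noncomputable def r340 : WT := (.leaf (nat_lit 23576) [nat_lit 168, nat_lit 42, nat_lit 168, nat_lit 42, nat_lit 147, nat_lit 84, nat_lit 42, nat_lit 168, nat_lit 42, nat_lit 84, nat_lit 63, nat_lit 189, nat_lit 63, nat_lit 105, nat_lit 126, nat_lit 63, nat_lit 189, nat_lit 63, nat_lit 189, nat_lit 63, nat_lit 84, nat_lit 42])
noncomputable def r341 : WT := (.leaf (nat_lit 24597) [nat_lit 63, nat_lit 189, nat_lit 42, nat_lit 84, nat_lit 147, nat_lit 63, nat_lit 147, nat_lit 168, nat_lit 42, nat_lit 42, nat_lit 168, nat_lit 42, nat_lit 105, nat_lit 63, nat_lit 189, nat_lit 63, nat_lit 63, nat_lit 189, nat_lit 126, nat_lit 42, nat_lit 126, nat_lit 105])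
noncomputable def r342 : WT := (.leaf (nat_lit 18434) [nat_lit 168, nat_lit 63, nat_lit 168, nat_lit 63, nat_lit 189, nat_lit 63, nat_lit 189, nat_lit 63, nat_lit 63, nat_lit 84, nat_lit 42, nat_lit 42, nat_lit 168, nat_lit 42, nat_lit 168, nat_lit 42, nat_lit 189, nat_lit 42, nat_lit 189, nat_lit 42, nat_lit 168, nat_lit 63])
noncomputable def r343 : WT := (.leaf (nat_lit 17451) [nat_lit 42, nat_lit 84, nat_lit 63, nat_lit 168, nat_lit 63, nat_lit 168, nat_lit 63, nat_lit 189, nat_lit 63, nat_lit 189, nat_lit 63, nat_lit 63, nat_lit 189, nat_lit 42, nat_lit 42, nat_lit 168, nat_lit 42, nat_lit 168, nat_lit 42, nat_lit 189, nat_lit 42, nat_lit 189])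
noncomputable def r344 : WT := (.leaf (nat_lit 17441) [nat_lit 168, nat_lit 42, nat_lit 189, nat_lit 42, nat_lit 189, nat_lit 42, nat_lit 84, nat_lit 63, nat_lit 168, nat_lit 63, nat_lit 168, nat_lit 63, nat_lit 189, nat_lit 63, nat_lit 189, nat_lit 63, nat_lit 63, nat_lit 189, nat_lit 42, nat_lit 42, nat_lit 168, nat_lit 42])
noncomputable def r345 : WT := (.leaf (nat_lit 17417) [nat_lit 168, nat_lit 63, nat_lit 189, nat_lit 63, nat_lit 189, nat_lit 63, nat_lit 63, nat_lit 189, nat_lit 42, nat_lit 42, nat_lit 168, nat_lit 42, nat_lit 168, nat_lit 42, nat_lit 189, nat_lit 42, nat_lit 189, nat_lit 42, nat_lit 84, nat_lit 63, nat_lit 168, nat_lit 63])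
noncomputable def r346 : WT := (.node (nat_lit 27) (.node (nat_lit 24) (.node (nat_lit 23) r336 r337) (.node (nat_lit 25) r338 (.node (nat_lit 26) r339 r340))) (.node (nat_lit 29) (.node (nat_lit 28) r341 r342) (.node (nat_lit 30) r343 (.node (nat_lit 31) r344 r345))))
noncomputable def r347 : WT := (.leaf (nat_lit 17434) [nat_lit 168, nat_lit 42, nat_lit 168, nat_lit 42, nat_lit 189, nat_lit 42, nat_lit 189, nat_lit 42, nat_lit 105, nat_lit 63, nat_lit 168, nat_lit 63, nat_lit 168, nat_lit 63, nat_lit 189, nat_lit 63, nat_lit 189, nat_lit 63, nat_lit 63, nat_lit 168, nat_lit 42, nat_lit 42])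
noncomputable def r348 : WT := (.leaf (nat_lit 17430) [nat_lit 42, nat_lit 42, nat_lit 168, nat_lit 42, nat_lit 168, nat_lit 42, nat_lit 189, nat_lit 42, nat_lit 189, nat_lit 42, nat_lit 105, nat_lit 63, nat_lit 168, nat_lit 63, nat_lit 168, nat_lit 63, nat_lit 189, nat_lit 63, nat_lit 189, nat_lit 63, nat_lit 63, nat_lit 168])
noncomputable def r349 : WT := (.leaf (nat_lit 16393) [nat_lit 189, nat_lit 63, nat_lit 168, nat_lit 42, nat_lit 168, nat_lit 105, nat_lit 63, nat_lit 189, nat_lit 42, nat_lit 84, nat_lit 189, nat_lit 63, nat_lit 189, nat_lit 42, nat_lit 168, nat_lit 63, nat_lit 168, nat_lit 42, nat_lit 84, nat_lit 63, nat_lit 189, nat_lit 42])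
noncomputable def r350 : WT := (.leaf (nat_lit 16404) [nat_lit 168, nat_lit 42, nat_lit 84, nat_lit 189, nat_lit 63, nat_lit 189, nat_lit 42, nat_lit 168, nat_lit 63, nat_lit 168, nat_lit 42, nat_lit 105, nat_lit 63, nat_lit 189, nat_lit 42, nat_lit 189, nat_lit 63, nat_lit 168, nat_lit 42, nat_lit 168, nat_lit 105, nat_lit 63])
noncomputable def r351 : WT := (.leaf (nat_lit 14347) [nat_lit 168, nat_lit 42, nat_lit 189, nat_lit 42, nat_lit 168, nat_lit 63, nat_lit 189, nat_lit 42, nat_lit 189, nat_lit 63, nat_lit 168, nat_lit 63, nat_lit 189, nat_lit 63, nat_lit 63, nat_lit 168, nat_lit 42, nat_lit 84, nat_lit 63, nat_lit 189, nat_lit 42, nat_lit 42])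
noncomputable def r352 : WT := (.leaf (nat_lit 14343) [nat_lit 42, nat_lit 42, nat_lit 168, nat_lit 42, nat_lit 189, nat_lit 42, nat_lit 168, nat_lit 63, nat_lit 189, nat_lit 42, nat_lit 189, nat_lit 63, nat_lit 168, nat_lit 63, nat_lit 189, nat_lit 63, nat_lit 63, nat_lit 168, nat_lit 42, nat_lit 84, nat_lit 63, nat_lit 189])
noncomputable def r353 : WT := (.leaf (nat_lit 14356) [nat_lit 168, nat_lit 42, nat_lit 189, nat_lit 63, nat_lit 168, nat_lit 63, nat_lit 189, nat_lit 63, nat_lit 63, nat_lit 168, nat_lit 42, nat_lit 105, nat_lit 63, nat_lit 189, nat_lit 42, nat_lit 42, nat_lit 168, nat_lit 42, nat_lit 189, nat_lit 42, nat_lit 168, nat_lit 63])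
noncomputable def r354 : WT := (.leaf (nat_lit 13319) [nat_lit 189, nat_lit 63, nat_lit 189, nat_lit 63, nat_lit 168, nat_lit 63, nat_lit 168, nat_lit 63, nat_lit 189, nat_lit 42, nat_lit 189, nat_lit 42, nat_lit 189, nat_lit 42, nat_lit 168, nat_lit 42, nat_lit 168, nat_lit 42, nat_lit 42, nat_lit 84, nat_lit 63, nat_lit 63])
noncomputable def r355 : WT := (.leaf (nat_lit 13340) [nat_lit 189, nat_lit 42, nat_lit 168, nat_lit 42, nat_lit 168, nat_lit 42, nat_lit 42, nat_lit 105, nat_lit 63, nat_lit 63, nat_lit 189, nat_lit 63, nat_lit 189, nat_lit 63, nat_lit 168, nat_lit 63, nat_lit 168, nat_lit 63, nat_lit 168, nat_lit 42, nat_lit 189, nat_lit 42])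
noncomputable def r356 : WT := (.leaf (nat_lit 13332) [nat_lit 168, nat_lit 42, nat_lit 189, nat_lit 42, nat_lit 189, nat_lit 42, nat_lit 168, nat_lit 42, nat_lit 168, nat_lit 42, nat_lit 42, nat_lit 105, nat_lit 63, nat_lit 63, nat_lit 189, nat_lit 63, nat_lit 189, nat_lit 63, nat_lit 168, nat_lit 63, nat_lit 168, nat_lit 63])
noncomputable def r357 : WT := (.node (nat_lit 37) (.node (nat_lit 34) (.node (nat_lit 33) r347 r348) (.node (nat_lit 35) r349 (.node (nat_lit 36) r350 r351))) (.node (nat_lit 39) (.node (nat_lit 38) r352 r353) (.node (nat_lit 40) r354 (.node (nat_lit 41) r355 r356))))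
noncomputable def r358 : WT := (.leaf (nat_lit 26630) [nat_lit 147, nat_lit 63, nat_lit 147, nat_lit 63, nat_lit 126, nat_lit 168, nat_lit 42, nat_lit 126, nat_lit 63, nat_lit 189, nat_lit 147, nat_lit 42, nat_lit 126, nat_lit 42, nat_lit 126, nat_lit 189, nat_lit 84, nat_lit 42, nat_lit 126, nat_lit 63, nat_lit 105, nat_lit 168])
noncomputable def r359 : WT := (.leaf (nat_lit 27687) [nat_lit 168, nat_lit 105, nat_lit 42, nat_lit 105, nat_lit 63, nat_lit 84, nat_lit 189, nat_lit 42, nat_lit 147, nat_lit 42, nat_lit 147, nat_lit 147, nat_lit 105, nat_lit 42, nat_lit 105, nat_lit 63, nat_lit 84, nat_lit 126, nat_lit 126, nat_lit 63, nat_lit 126, nat_lit 63])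
noncomputable def r360 : WT := (.leaf (nat_lit 27685) [nat_lit 63, nat_lit 168, nat_lit 105, nat_lit 42, nat_lit 105, nat_lit 63, nat_lit 84, nat_lit 189, nat_lit 42, nat_lit 147, nat_lit 42, nat_lit 147, nat_lit 147, nat_lit 105, nat_lit 42, nat_lit 105, nat_lit 63, nat_lit 84, nat_lit 126, nat_lit 126, nat_lit 63, nat_lit 126])
noncomputable def r361 : WT := (.leaf (nat_lit 27683) [nat_lit 126, nat_lit 63, nat_lit 168, nat_lit 105, nat_lit 42, nat_lit 105, nat_lit 63, nat_lit 84, nat_lit 189, nat_lit 42, nat_lit 147, nat_lit 42, nat_lit 147, nat_lit 147, nat_lit 105, nat_lit 42, nat_lit 105, nat_lit 63, nat_lit 84, nat_lit 126, nat_lit 126, nat_lit 63])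
noncomputable def r362 : WT := (.leaf (nat_lit 27661) [nat_lit 42, nat_lit 147, nat_lit 147, nat_lit 105, nat_lit 42, nat_lit 105, nat_lit 63, nat_lit 84, nat_lit 126, nat_lit 126, nat_lit 63, nat_lit 126, nat_lit 63, nat_lit 168, nat_lit 105, nat_lit 42, nat_lit 105, nat_lit 63, nat_lit 84, nat_lit 189, nat_lit 42, nat_lit 147])
noncomputable def r363 : WT := (.leaf (nat_lit 27655) [nat_lit 189, nat_lit 42, nat_lit 147, nat_lit 42, nat_lit 147, nat_lit 147, nat_lit 105, nat_lit 42, nat_lit 105, nat_lit 63, nat_lit 84, nat_lit 126, nat_lit 126, nat_lit 63, nat_lit 126, nat_lit 63, nat_lit 168, nat_lit 105, nat_lit 42, nat_lit 105, nat_lit 63, nat_lit 84])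
noncomputable def r364 : WT := (.leaf (nat_lit 27680) [nat_lit 126, nat_lit 63, nat_lit 168, nat_lit 105, nat_lit 42, nat_lit 84, nat_lit 63, nat_lit 84, nat_lit 189, nat_lit 42, nat_lit 147, nat_lit 42, nat_lit 147, nat_lit 147, nat_lit 105, nat_lit 42, nat_lit 84, nat_lit 63, nat_lit 84, nat_lit 126, nat_lit 126, nat_lit 63])
noncomputable def r365 : WT := (.leaf (nat_lit 27676) [nat_lit 126, nat_lit 63, nat_lit 126, nat_lit 63, nat_lit 168, nat_lit 105, nat_lit 42, nat_lit 84, nat_lit 63, nat_lit 84, nat_lit 189, nat_lit 42, nat_lit 147, nat_lit 42, nat_lit 147, nat_lit 147, nat_lit 105, nat_lit 42, nat_lit 84, nat_lit 63, nat_lit 84, nat_lit 126])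
noncomputable def r366 : WT := (.leaf (nat_lit 26667) [nat_lit 42, nat_lit 147, nat_lit 63, nat_lit 105, nat_lit 168, nat_lit 147, nat_lit 63, nat_lit 147, nat_lit 63, nat_lit 126, nat_lit 168, nat_lit 42, nat_lit 147, nat_lit 63, nat_lit 189, nat_lit 147, nat_lit 42, nat_lit 126, nat_lit 42, nat_lit 126, nat_lit 189, nat_lit 84])
noncomputable def r367 : WT := (.leaf (nat_lit 26661) [nat_lit 126, nat_lit 189, nat_lit 84, nat_lit 42, nat_lit 147, nat_lit 63, nat_lit 105, nat_lit 168, nat_lit 147, nat_lit 63, nat_lit 147, nat_lit 63, nat_lit 126, nat_lit 168, nat_lit 42, nat_lit 147, nat_lit 63, nat_lit 189, nat_lit 147, nat_lit 42, nat_lit 126, nat_lit 42])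
noncomputable def r368 : WT := (.node (nat_lit 47) (.node (nat_lit 44) (.node (nat_lit 43) r358 r359) (.node (nat_lit 45) r360 (.node (nat_lit 46) r361 r362))) (.node (nat_lit 49) (.node (nat_lit 48) r363 r364) (.node (nat_lit 50) r365 (.node (nat_lit 51) r366 r367))))
noncomputable def r369 : WT := (.leaf (nat_lit 26659) [nat_lit 42, nat_lit 126, nat_lit 189, nat_lit 84, nat_lit 42, nat_lit 147, nat_lit 63, nat_lit 105, nat_lit 168, nat_lit 147, nat_lit 63, nat_lit 147, nat_lit 63, nat_lit 126, nat_lit 168, nat_lit 42, nat_lit 147, nat_lit 63, nat_lit 189, nat_lit 147, nat_lit 42, nat_lit 126])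
noncomputable def r370 : WT := (.leaf (nat_lit 26637) [nat_lit 147, nat_lit 63, nat_lit 126, nat_lit 168, nat_lit 42, nat_lit 147, nat_lit 63, nat_lit 189, nat_lit 147, nat_lit 42, nat_lit 126, nat_lit 42, nat_lit 126, nat_lit 189, nat_lit 84, nat_lit 42, nat_lit 147, nat_lit 63, nat_lit 105, nat_lit 168, nat_lit 147, nat_lit 63])
noncomputable def r371 : WT := (.leaf (nat_lit 26666) [nat_lit 126, nat_lit 63, nat_lit 105, nat_lit 168, nat_lit 147, nat_lit 63, nat_lit 147, nat_lit 63, nat_lit 126, nat_lit 168, nat_lit 42, nat_lit 126, nat_lit 63, nat_lit 189, nat_lit 147, nat_lit 42, nat_lit 126, nat_lit 42, nat_lit 126, nat_lit 189, nat_lit 84, nat_lit 42])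
noncomputable def r372 : WT := (.leaf (nat_lit 26654) [nat_lit 126, nat_lit 42, nat_lit 126, nat_lit 189, nat_lit 84, nat_lit 42, nat_lit 126, nat_lit 63, nat_lit 105, nat_lit 168, nat_lit 147, nat_lit 63, nat_lit 147, nat_lit 63, nat_lit 126, nat_lit 168, nat_lit 42, nat_lit 126, nat_lit 63, nat_lit 189, nat_lit 147, nat_lit 42])
noncomputable def r373 : WT := (.leaf (nat_lit 26638) [nat_lit 126, nat_lit 168, nat_lit 42, nat_lit 126, nat_lit 63, nat_lit 189, nat_lit 147, nat_lit 42, nat_lit 126, nat_lit 42, nat_lit 126, nat_lit 189, nat_lit 84, nat_lit 42, nat_lit 126, nat_lit 63, nat_lit 105, nat_lit 168, nat_lit 147, nat_lit 63, nat_lit 147, nat_lit 63])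
noncomputable def r374 : WT := (.leaf (nat_lit 23561) [nat_lit 105, nat_lit 126, nat_lit 63, nat_lit 189, nat_lit 63, nat_lit 189, nat_lit 63, nat_lit 105, nat_lit 42, nat_lit 168, nat_lit 42, nat_lit 168, nat_lit 42, nat_lit 147, nat_lit 84, nat_lit 42, nat_lit 168, nat_lit 42, nat_lit 105, nat_lit 63, nat_lit 189, nat_lit 63])
noncomputable def r375 : WT := (.leaf (nat_lit 25637) [nat_lit 126, nat_lit 126, nat_lit 168, nat_lit 42, nat_lit 189, nat_lit 63, nat_lit 189, nat_lit 147, nat_lit 147, nat_lit 63, nat_lit 63, nat_lit 168, nat_lit 147, nat_lit 168, nat_lit 42, nat_lit 189, nat_lit 63, nat_lit 189, nat_lit 126, nat_lit 189, nat_lit 42, nat_lit 42])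
noncomputable def r376 : WT := (.leaf (nat_lit 25635) [nat_lit 42, nat_lit 126, nat_lit 126, nat_lit 168, nat_lit 42, nat_lit 189, nat_lit 63, nat_lit 189, nat_lit 147, nat_lit 147, nat_lit 63, nat_lit 63, nat_lit 168, nat_lit 147, nat_lit 168, nat_lit 42, nat_lit 189, nat_lit 63, nat_lit 189, nat_lit 126, nat_lit 189, nat_lit 42])
noncomputable def r377 : WT := (.leaf (nat_lit 25617) [nat_lit 147, nat_lit 168, nat_lit 42, nat_lit 189, nat_lit 63, nat_lit 189, nat_lit 126, nat_lit 189, nat_lit 42, nat_lit 42, nat_lit 126, nat_lit 126, nat_lit 168, nat_lit 42, nat_lit 189, nat_lit 63, nat_lit 189, nat_lit 147, nat_lit 147, nat_lit 63, nat_lit 63, nat_lit 168])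
noncomputable def r378 : WT := (.node (nat_lit 56) (.node (nat_lit 54) (.node (nat_lit 53) r369 r370) (.node (nat_lit 55) r371 r372)) (.node (nat_lit 58) (.node (nat_lit 57) r373 r374) (.node (nat_lit 59) r375 (.node (nat_lit 60) r376 r377))))
noncomputable def r379 : WT := (.leaf (nat_lit 25607) [nat_lit 147, nat_lit 147, nat_lit 63, nat_lit 63, nat_lit 168, nat_lit 147, nat_lit 168, nat_lit 42, nat_lit 189, nat_lit 63, nat_lit 189, nat_lit 126, nat_lit 189, nat_lit 42, nat_lit 42, nat_lit 126, nat_lit 126, nat_lit 168, nat_lit 42, nat_lit 189, nat_lit 63, nat_lit 189])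
noncomputable def r380 : WT := (.leaf (nat_lit 25628) [nat_lit 189, nat_lit 42, nat_lit 42, nat_lit 126, nat_lit 126, nat_lit 168, nat_lit 42, nat_lit 168, nat_lit 63, nat_lit 189, nat_lit 147, nat_lit 147, nat_lit 63, nat_lit 63, nat_lit 168, nat_lit 147, nat_lit 168, nat_lit 42, nat_lit 168, nat_lit 63, nat_lit 189, nat_lit 126])
noncomputable def r381 : WT := (.leaf (nat_lit 25626) [nat_lit 126, nat_lit 189, nat_lit 42, nat_lit 42, nat_lit 126, nat_lit 126, nat_lit 168, nat_lit 42, nat_lit 168, nat_lit 63, nat_lit 189, nat_lit 147, nat_lit 147, nat_lit 63, nat_lit 63, nat_lit 168, nat_lit 147, nat_lit 168, nat_lit 42, nat_lit 168, nat_lit 63, nat_lit 189])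
noncomputable def r382 : WT := (.leaf (nat_lit 25618) [nat_lit 42, nat_lit 168, nat_lit 63, nat_lit 189, nat_lit 126, nat_lit 189, nat_lit 42, nat_lit 42, nat_lit 126, nat_lit 126, nat_lit 168, nat_lit 42, nat_lit 168, nat_lit 63, nat_lit 189, nat_lit 147, nat_lit 147, nat_lit 63, nat_lit 63, nat_lit 168, nat_lit 147, nat_lit 168])
noncomputable def r383 : WT := (.leaf (nat_lit 24605) [nat_lit 147, nat_lit 63, nat_lit 147, nat_lit 168, nat_lit 42, nat_lit 42, nat_lit 168, nat_lit 42, nat_lit 105, nat_lit 63, nat_lit 189, nat_lit 63, nat_lit 63, nat_lit 189, nat_lit 126, nat_lit 42, nat_lit 126, nat_lit 105, nat_lit 63, nat_lit 189, nat_lit 42, nat_lit 84])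
noncomputable def r384 : WT := (.leaf (nat_lit 24601) [nat_lit 42, nat_lit 84, nat_lit 147, nat_lit 63, nat_lit 147, nat_lit 168, nat_lit 42, nat_lit 42, nat_lit 168, nat_lit 42, nat_lit 105, nat_lit 63, nat_lit 189, nat_lit 63, nat_lit 63, nat_lit 189, nat_lit 126, nat_lit 42, nat_lit 126, nat_lit 105, nat_lit 63, nat_lit 189])
noncomputable def r385 : WT := (.leaf (nat_lit 11279) [nat_lit 189, nat_lit 42, nat_lit 189, nat_lit 63, nat_lit 105, nat_lit 42, nat_lit 168, nat_lit 63, nat_lit 168, nat_lit 42, nat_lit 189, nat_lit 63, nat_lit 189, nat_lit 105, nat_lit 42, nat_lit 189, nat_lit 63, nat_lit 84, nat_lit 168, nat_lit 42, nat_lit 168, nat_lit 63])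
noncomputable def r386 : WT := (.leaf (nat_lit 24602) [nat_lit 147, nat_lit 63, nat_lit 147, nat_lit 168, nat_lit 42, nat_lit 42, nat_lit 168, nat_lit 42, nat_lit 84, nat_lit 63, nat_lit 189, nat_lit 63, nat_lit 63, nat_lit 189, nat_lit 126, nat_lit 42, nat_lit 126, nat_lit 105, nat_lit 63, nat_lit 168, nat_lit 42, nat_lit 84])
noncomputable def r387 : WT := (.leaf (nat_lit 24596) [nat_lit 168, nat_lit 42, nat_lit 84, nat_lit 147, nat_lit 63, nat_lit 147, nat_lit 168, nat_lit 42, nat_lit 42, nat_lit 168, nat_lit 42, nat_lit 84, nat_lit 63, nat_lit 189, nat_lit 63, nat_lit 63, nat_lit 189, nat_lit 126, nat_lit 42, nat_lit 126, nat_lit 105, nat_lit 63])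
noncomputable def r388 : WT := (.leaf (nat_lit 23587) [nat_lit 147, nat_lit 84, nat_lit 42, nat_lit 168, nat_lit 42, nat_lit 105, nat_lit 63, nat_lit 189, nat_lit 63, nat_lit 105, nat_lit 126, nat_lit 63, nat_lit 189, nat_lit 63, nat_lit 189, nat_lit 63, nat_lit 105, nat_lit 42, nat_lit 168, nat_lit 42, nat_lit 168, nat_lit 42])
noncomputable def r389 : WT := (.node (nat_lit 66) (.node (nat_lit 63) (.node (nat_lit 62) r379 r380) (.node (nat_lit 64) r381 (.node (nat_lit 65) r382 r383))) (.node (nat_lit 68) (.node (nat_lit 67) r384 r385) (.node (nat_lit 69) r386 (.node (nat_lit 70) r387 r388))))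
noncomputable def r390 : WT := (.leaf (nat_lit 23565) [nat_lit 63, nat_lit 189, nat_lit 63, nat_lit 189, nat_lit 63, nat_lit 105, nat_lit 42, nat_lit 168, nat_lit 42, nat_lit 168, nat_lit 42, nat_lit 147, nat_lit 84, nat_lit 42, nat_lit 168, nat_lit 42, nat_lit 105, nat_lit 63, nat_lit 189, nat_lit 63, nat_lit 105, nat_lit 126])
noncomputable def r391 : WT := (.leaf (nat_lit 33819) [nat_lit 168, nat_lit 147, nat_lit 189, nat_lit 126, nat_lit 189, nat_lit 147, nat_lit 147, nat_lit 168, nat_lit 147, nat_lit 189, nat_lit 126, nat_lit 126, nat_lit 168, nat_lit 147])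
noncomputable def r392 : WT := (.leaf (nat_lit 28673) [nat_lit 189, nat_lit 126, nat_lit 42, nat_lit 189, nat_lit 42, nat_lit 168, nat_lit 63, nat_lit 168, nat_lit 63, nat_lit 126, nat_lit 189, nat_lit 147, nat_lit 42, nat_lit 189, nat_lit 42, nat_lit 189, nat_lit 63, nat_lit 168, nat_lit 63, nat_lit 147])
noncomputable def r393 : WT := (.leaf (nat_lit 28702) [nat_lit 63, nat_lit 168, nat_lit 63, nat_lit 147, nat_lit 168, nat_lit 126, nat_lit 42, nat_lit 189, nat_lit 42, nat_lit 168, nat_lit 63, nat_lit 168, nat_lit 63, nat_lit 126, nat_lit 168, nat_lit 147, nat_lit 42, nat_lit 189, nat_lit 42, nat_lit 189])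
noncomputable def r394 : WT := (.leaf (nat_lit 28698) [nat_lit 42, nat_lit 189, nat_lit 63, nat_lit 168, nat_lit 63, nat_lit 147, nat_lit 168, nat_lit 126, nat_lit 42, nat_lit 189, nat_lit 42, nat_lit 168, nat_lit 63, nat_lit 168, nat_lit 63, nat_lit 126, nat_lit 168, nat_lit 147, nat_lit 42, nat_lit 189])
noncomputable def r395 : WT := (.leaf (nat_lit 28686) [nat_lit 63, nat_lit 126, nat_lit 168, nat_lit 147, nat_lit 42, nat_lit 189, nat_lit 42, nat_lit 189, nat_lit 63, nat_lit 168, nat_lit 63, nat_lit 147, nat_lit 168, nat_lit 126, nat_lit 42, nat_lit 189, nat_lit 42, nat_lit 168, nat_lit 63, nat_lit 168])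
noncomputable def r396 : WT := (.leaf (nat_lit 28680) [nat_lit 168, nat_lit 63, nat_lit 168, nat_lit 63, nat_lit 126, nat_lit 168, nat_lit 147, nat_lit 42, nat_lit 189, nat_lit 42, nat_lit 189, nat_lit 63, nat_lit 168, nat_lit 63, nat_lit 147, nat_lit 168, nat_lit 126, nat_lit 42, nat_lit 189, nat_lit 42])
noncomputable def r397 : WT := (.leaf (nat_lit 20501) [nat_lit 189, nat_lit 63, nat_lit 189, nat_lit 63, nat_lit 105, nat_lit 168, nat_lit 84, nat_lit 63, nat_lit 189, nat_lit 63, nat_lit 168, nat_lit 42, nat_lit 168, nat_lit 42, nat_lit 105, nat_lit 189, nat_lit 84, nat_lit 42, nat_lit 168, nat_lit 42])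
noncomputable def r398 : WT := (.leaf (nat_lit 19493) [nat_lit 189, nat_lit 63, nat_lit 105, nat_lit 42, nat_lit 168, nat_lit 42, nat_lit 168, nat_lit 63, nat_lit 168, nat_lit 42, nat_lit 168, nat_lit 42, nat_lit 105, nat_lit 63, nat_lit 189, nat_lit 63, nat_lit 189, nat_lit 42, nat_lit 189, nat_lit 63])
noncomputable def r399 : WT := (.leaf (nat_lit 19481) [nat_lit 189, nat_lit 63, nat_lit 189, nat_lit 42, nat_lit 189, nat_lit 63, nat_lit 189, nat_lit 63, nat_lit 105, nat_lit 42, nat_lit 168, nat_lit 42, nat_lit 168, nat_lit 63, nat_lit 168, nat_lit 42, nat_lit 168, nat_lit 42, nat_lit 105, nat_lit 63])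
noncomputable def r400 : WT := (.node (nat_lit 76) (.node (nat_lit 73) (.node (nat_lit 72) r390 r391) (.node (nat_lit 74) r392 (.node (nat_lit 75) r393 r394))) (.node (nat_lit 78) (.node (nat_lit 77) r395 r396) (.node (nat_lit 79) r397 (.node (nat_lit 80) r398 r399))))
noncomputable def r401 : WT := (.leaf (nat_lit 19462) [nat_lit 168, nat_lit 63, nat_lit 168, nat_lit 42, nat_lit 168, nat_lit 42, nat_lit 84, nat_lit 63, nat_lit 189, nat_lit 63, nat_lit 189, nat_lit 42, nat_lit 189, nat_lit 63, nat_lit 189, nat_lit 63, nat_lit 84, nat_lit 42, nat_lit 168, nat_lit 42])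
noncomputable def r402 : WT := (.leaf (nat_lit 22543) [nat_lit 189, nat_lit 63, nat_lit 189, nat_lit 42, nat_lit 168, nat_lit 42, nat_lit 189, nat_lit 42, nat_lit 189, nat_lit 189, nat_lit 42, nat_lit 168, nat_lit 63, nat_lit 168, nat_lit 168, nat_lit 63, nat_lit 168, nat_lit 63])
noncomputable def r403 : WT := (.leaf (nat_lit 22533) [nat_lit 168, nat_lit 168, nat_lit 63, nat_lit 168, nat_lit 63, nat_lit 189, nat_lit 63, nat_lit 189, nat_lit 42, nat_lit 168, nat_lit 42, nat_lit 189, nat_lit 42, nat_lit 189, nat_lit 189, nat_lit 42, nat_lit 168, nat_lit 63])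
noncomputable def r404 : WT := (.leaf (nat_lit 22544) [nat_lit 168, nat_lit 42, nat_lit 168, nat_lit 42, nat_lit 189, nat_lit 42, nat_lit 189, nat_lit 189, nat_lit 42, nat_lit 189, nat_lit 63, nat_lit 168, nat_lit 168, nat_lit 63, nat_lit 168, nat_lit 63, nat_lit 189, nat_lit 63])
noncomputable def r405 : WT := (.leaf (nat_lit 22530) [nat_lit 168, nat_lit 168, nat_lit 63, nat_lit 168, nat_lit 63, nat_lit 189, nat_lit 63, nat_lit 168, nat_lit 42, nat_lit 168, nat_lit 42, nat_lit 189, nat_lit 42, nat_lit 189, nat_lit 189, nat_lit 42, nat_lit 189, nat_lit 63])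
noncomputable def r406 : WT := (.leaf (nat_lit 22528) [nat_lit 63, nat_lit 168, nat_lit 168, nat_lit 63, nat_lit 168, nat_lit 63, nat_lit 189, nat_lit 63, nat_lit 168, nat_lit 42, nat_lit 168, nat_lit 42, nat_lit 189, nat_lit 42, nat_lit 189, nat_lit 189, nat_lit 42, nat_lit 189])
noncomputable def r407 : WT := (.leaf (nat_lit 28683) [nat_lit 168, nat_lit 63, nat_lit 168, nat_lit 63, nat_lit 126, nat_lit 189, nat_lit 147, nat_lit 42, nat_lit 189, nat_lit 42, nat_lit 189, nat_lit 63, nat_lit 168, nat_lit 63, nat_lit 147, nat_lit 189, nat_lit 126, nat_lit 42, nat_lit 189, nat_lit 42])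
noncomputable def r408 : WT := (.leaf (nat_lit 33809) [nat_lit 189, nat_lit 126, nat_lit 126, nat_lit 168, nat_lit 147, nat_lit 168, nat_lit 147, nat_lit 189, nat_lit 126, nat_lit 189, nat_lit 147, nat_lit 147, nat_lit 168, nat_lit 147])
noncomputable def r409 : WT := (.leaf (nat_lit 33805) [nat_lit 168, nat_lit 147, nat_lit 189, nat_lit 126, nat_lit 126, nat_lit 168, nat_lit 147, nat_lit 168, nat_lit 147, nat_lit 189, nat_lit 126, nat_lit 189, nat_lit 147, nat_lit 147])
noncomputable def r410 : WT := (.leaf (nat_lit 33803) [nat_lit 147, nat_lit 168, nat_lit 147, nat_lit 189, nat_lit 126, nat_lit 126, nat_lit 168, nat_lit 147, nat_lit 168, nat_lit 147, nat_lit 189, nat_lit 126, nat_lit 189, nat_lit 147])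
noncomputable def r411 : WT := (.node (nat_lit 86) (.node (nat_lit 83) (.node (nat_lit 82) r401 r402) (.node (nat_lit 84) r403 (.node (nat_lit 85) r404 r405))) (.node (nat_lit 88) (.node (nat_lit 87) r406 r407) (.node (nat_lit 89) r408 (.node (nat_lit 90) r409 r410))))
noncomputable def r412 : WT := (.leaf (nat_lit 33793) [nat_lit 147, nat_lit 189, nat_lit 126, nat_lit 189, nat_lit 147, nat_lit 147, nat_lit 168, nat_lit 147, nat_lit 189, nat_lit 126, nat_lit 126, nat_lit 168, nat_lit 147, nat_lit 168])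
noncomputable def r413 : WT := (.leaf (nat_lit 33818) [nat_lit 126, nat_lit 189, nat_lit 126, nat_lit 189, nat_lit 147, nat_lit 147, nat_lit 168, nat_lit 126, nat_lit 189, nat_lit 126, nat_lit 126, nat_lit 168, nat_lit 147, nat_lit 168])
noncomputable def r414 : WT := (.leaf (nat_lit 33798) [nat_lit 147, nat_lit 147, nat_lit 168, nat_lit 126, nat_lit 189, nat_lit 126, nat_lit 126, nat_lit 168, nat_lit 147, nat_lit 168, nat_lit 126, nat_lit 189, nat_lit 126, nat_lit 189])
noncomputable def r415 : WT := (.leaf (nat_lit 33796) [nat_lit 189, nat_lit 147, nat_lit 147, nat_lit 168, nat_lit 126, nat_lit 189, nat_lit 126, nat_lit 126, nat_lit 168, nat_lit 147, nat_lit 168, nat_lit 126, nat_lit 189, nat_lit 126])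
noncomputable def r416 : WT := (.node (nat_lit 96) (.node (nat_lit 93) (.node (nat_lit 92) r412 r413) (.node (nat_lit 94) r414 (.node (nat_lit 95) r415 (.leaf (nat_lit 34827) [nat_lit 189, nat_lit 147, nat_lit 189, nat_lit 126, nat_lit 168, nat_lit 126, nat_lit 168, nat_lit 147])))) (.node (nat_lit 98) (.node (nat_lit 97) (.leaf (nat_lit 34821) [nat_lit 126, nat_lit 168, nat_lit 147, nat_lit 189, nat_lit 147, nat_lit 189, nat_lit 126, nat_lit 168]) (.leaf (nat_lit 34819) [nat_lit 168, nat_lit 126, nat_lit 168, nat_lit 147, nat_lit 189, nat_lit 147, nat_lit 189, nat_lit 126])) (.node (nat_lit 99) (.leaf (nat_lit 8192) [nat_lit 84, nat_lit 42, nat_lit 105, nat_lit 63, nat_lit 63]) (.node (nat_lit 100) (.leaf (nat_lit 6145) [nat_lit 147, nat_lit 147, nat_lit 147, nat_lit 147, nat_lit 147]) (.leaf (nat_lit 10244) [nat_lit 105, nat_lit 147, nat_lit 84, nat_lit 126])))))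
noncomputable def r417 : WT := (.leaf (nat_lit 30733) [nat_lit 168, nat_lit 147, nat_lit 105, nat_lit 63, nat_lit 189, nat_lit 42, nat_lit 84, nat_lit 126, nat_lit 189, nat_lit 126, nat_lit 126, nat_lit 42, nat_lit 189, nat_lit 63, nat_lit 84, nat_lit 42, nat_lit 168, nat_lit 63, nat_lit 147, nat_lit 147])
noncomputable def r418 : WT := (.leaf (nat_lit 12330) [nat_lit 168, nat_lit 63, nat_lit 168, nat_lit 42, nat_lit 189, nat_lit 42, nat_lit 168, nat_lit 42, nat_lit 42, nat_lit 189, nat_lit 63, nat_lit 84, nat_lit 42, nat_lit 168, nat_lit 63, nat_lit 63, nat_lit 189, nat_lit 63, nat_lit 168, nat_lit 63, nat_lit 189, nat_lit 42])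
noncomputable def r419 : WT := (.leaf (nat_lit 12326) [nat_lit 189, nat_lit 42, nat_lit 168, nat_lit 63, nat_lit 168, nat_lit 42, nat_lit 189, nat_lit 42, nat_lit 168, nat_lit 42, nat_lit 42, nat_lit 189, nat_lit 63, nat_lit 84, nat_lit 42, nat_lit 168, nat_lit 63, nat_lit 63, nat_lit 189, nat_lit 63, nat_lit 168, nat_lit 63])
noncomputable def r420 : WT := (.leaf (nat_lit 12320) [nat_lit 63, nat_lit 168, nat_lit 63, nat_lit 189, nat_lit 42, nat_lit 168, nat_lit 63, nat_lit 168, nat_lit 42, nat_lit 189, nat_lit 42, nat_lit 168, nat_lit 42, nat_lit 42, nat_lit 189, nat_lit 63, nat_lit 84, nat_lit 42, nat_lit 168, nat_lit 63, nat_lit 63, nat_lit 189])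
noncomputable def r421 : WT := (.leaf (nat_lit 12300) [nat_lit 42, nat_lit 42, nat_lit 189, nat_lit 63, nat_lit 84, nat_lit 42, nat_lit 168, nat_lit 63, nat_lit 63, nat_lit 189, nat_lit 63, nat_lit 168, nat_lit 63, nat_lit 189, nat_lit 42, nat_lit 168, nat_lit 63, nat_lit 168, nat_lit 42, nat_lit 189, nat_lit 42, nat_lit 168])
noncomputable def r422 : WT := (.leaf (nat_lit 12296) [nat_lit 42, nat_lit 168, nat_lit 42, nat_lit 42, nat_lit 189, nat_lit 63, nat_lit 84, nat_lit 42, nat_lit 168, nat_lit 63, nat_lit 63, nat_lit 189, nat_lit 63, nat_lit 168, nat_lit 63, nat_lit 189, nat_lit 42, nat_lit 168, nat_lit 63, nat_lit 168, nat_lit 42, nat_lit 189])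
noncomputable def r423 : WT := (.leaf (nat_lit 31781) [nat_lit 147, nat_lit 63, nat_lit 189, nat_lit 42, nat_lit 126, nat_lit 42, nat_lit 42, nat_lit 189, nat_lit 63, nat_lit 126, nat_lit 126, nat_lit 42, nat_lit 105, nat_lit 63, nat_lit 147, nat_lit 147, nat_lit 42, nat_lit 168, nat_lit 63, nat_lit 63])
noncomputable def r424 : WT := (.leaf (nat_lit 31771) [nat_lit 147, nat_lit 42, nat_lit 168, nat_lit 63, nat_lit 63, nat_lit 147, nat_lit 63, nat_lit 189, nat_lit 42, nat_lit 126, nat_lit 42, nat_lit 42, nat_lit 189, nat_lit 63, nat_lit 126, nat_lit 126, nat_lit 42, nat_lit 105, nat_lit 63, nat_lit 147])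
noncomputable def r425 : WT := (.node (nat_lit 106) (.node (nat_lit 103) (.node (nat_lit 102) (.leaf (nat_lit 9217) [nat_lit 168, nat_lit 84, nat_lit 189, nat_lit 105]) r417) (.node (nat_lit 104) r418 (.node (nat_lit 105) r419 r420))) (.node (nat_lit 108) (.node (nat_lit 107) r421 r422) (.node (nat_lit 109) (.leaf (nat_lit 7168) [nat_lit 168, nat_lit 168, nat_lit 168]) (.node (nat_lit 110) r423 r424))))
noncomputable def r426 : WT := (.leaf (nat_lit 31763) [nat_lit 42, nat_lit 105, nat_lit 63, nat_lit 147, nat_lit 147, nat_lit 42, nat_lit 168, nat_lit 63, nat_lit 63, nat_lit 147, nat_lit 63, nat_lit 189, nat_lit 42, nat_lit 126, nat_lit 42, nat_lit 42, nat_lit 189, nat_lit 63, nat_lit 126, nat_lit 126])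
noncomputable def r427 : WT := (.leaf (nat_lit 31782) [nat_lit 168, nat_lit 42, nat_lit 126, nat_lit 42, nat_lit 42, nat_lit 189, nat_lit 63, nat_lit 126, nat_lit 126, nat_lit 42, nat_lit 84, nat_lit 63, nat_lit 147, nat_lit 147, nat_lit 42, nat_lit 168, nat_lit 63, nat_lit 63, nat_lit 147, nat_lit 63])
noncomputable def r428 : WT := (.leaf (nat_lit 31778) [nat_lit 147, nat_lit 63, nat_lit 168, nat_lit 42, nat_lit 126, nat_lit 42, nat_lit 42, nat_lit 189, nat_lit 63, nat_lit 126, nat_lit 126, nat_lit 42, nat_lit 84, nat_lit 63, nat_lit 147, nat_lit 147, nat_lit 42, nat_lit 168, nat_lit 63, nat_lit 63])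
noncomputable def r429 : WT := (.leaf (nat_lit 31768) [nat_lit 147, nat_lit 42, nat_lit 168, nat_lit 63, nat_lit 63, nat_lit 147, nat_lit 63, nat_lit 168, nat_lit 42, nat_lit 126, nat_lit 42, nat_lit 42, nat_lit 189, nat_lit 63, nat_lit 126, nat_lit 126, nat_lit 42, nat_lit 84, nat_lit 63, nat_lit 147])
noncomputable def r430 : WT := (.leaf (nat_lit 31766) [nat_lit 147, nat_lit 147, nat_lit 42, nat_lit 168, nat_lit 63, nat_lit 63, nat_lit 147, nat_lit 63, nat_lit 168, nat_lit 42, nat_lit 126, nat_lit 42, nat_lit 42, nat_lit 189, nat_lit 63, nat_lit 126, nat_lit 126, nat_lit 42, nat_lit 84, nat_lit 63])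
noncomputable def r431 : WT := (.leaf (nat_lit 31760) [nat_lit 42, nat_lit 84, nat_lit 63, nat_lit 147, nat_lit 147, nat_lit 42, nat_lit 168, nat_lit 63, nat_lit 63, nat_lit 147, nat_lit 63, nat_lit 168, nat_lit 42, nat_lit 126, nat_lit 42, nat_lit 42, nat_lit 189, nat_lit 63, nat_lit 126, nat_lit 126])
noncomputable def r432 : WT := (.leaf (nat_lit 12317) [nat_lit 63, nat_lit 63, nat_lit 189, nat_lit 63, nat_lit 168, nat_lit 63, nat_lit 189, nat_lit 42, nat_lit 189, nat_lit 63, nat_lit 168, nat_lit 42, nat_lit 189, nat_lit 42, nat_lit 168, nat_lit 42, nat_lit 42, nat_lit 189, nat_lit 63, nat_lit 105, nat_lit 42, nat_lit 168])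
noncomputable def r433 : WT := (.leaf (nat_lit 30752) [nat_lit 42, nat_lit 189, nat_lit 63, nat_lit 105, nat_lit 42, nat_lit 168, nat_lit 63, nat_lit 147, nat_lit 147, nat_lit 168, nat_lit 147, nat_lit 105, nat_lit 63, nat_lit 168, nat_lit 42, nat_lit 84, nat_lit 126, nat_lit 189, nat_lit 126, nat_lit 126])
noncomputable def r434 : WT := (.leaf (nat_lit 30748) [nat_lit 126, nat_lit 126, nat_lit 42, nat_lit 189, nat_lit 63, nat_lit 105, nat_lit 42, nat_lit 168, nat_lit 63, nat_lit 147, nat_lit 147, nat_lit 168, nat_lit 147, nat_lit 105, nat_lit 63, nat_lit 168, nat_lit 42, nat_lit 84, nat_lit 126, nat_lit 189])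
noncomputable def r435 : WT := (.leaf (nat_lit 30746) [nat_lit 189, nat_lit 126, nat_lit 126, nat_lit 42, nat_lit 189, nat_lit 63, nat_lit 105, nat_lit 42, nat_lit 168, nat_lit 63, nat_lit 147, nat_lit 147, nat_lit 168, nat_lit 147, nat_lit 105, nat_lit 63, nat_lit 168, nat_lit 42, nat_lit 84, nat_lit 126])
noncomputable def r436 : WT := (.node (nat_lit 116) (.node (nat_lit 113) (.node (nat_lit 112) r426 r427) (.node (nat_lit 114) r428 (.node (nat_lit 115) r429 r430))) (.node (nat_lit 118) (.node (nat_lit 117) r431 r432) (.node (nat_lit 119) r433 (.node (nat_lit 120) r434 r435))))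
noncomputable def r437 : WT := (.leaf (nat_lit 30730) [nat_lit 168, nat_lit 147, nat_lit 105, nat_lit 63, nat_lit 168, nat_lit 42, nat_lit 84, nat_lit 126, nat_lit 189, nat_lit 126, nat_lit 126, nat_lit 42, nat_lit 189, nat_lit 63, nat_lit 105, nat_lit 42, nat_lit 168, nat_lit 63, nat_lit 147, nat_lit 147])
noncomputable def r438 : WT := (.leaf (nat_lit 30726) [nat_lit 147, nat_lit 147, nat_lit 168, nat_lit 147, nat_lit 105, nat_lit 63, nat_lit 168, nat_lit 42, nat_lit 84, nat_lit 126, nat_lit 189, nat_lit 126, nat_lit 126, nat_lit 42, nat_lit 189, nat_lit 63, nat_lit 105, nat_lit 42, nat_lit 168, nat_lit 63])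
noncomputable def r439 : WT := (.leaf (nat_lit 29721) [nat_lit 63, nat_lit 168, nat_lit 63, nat_lit 189, nat_lit 42, nat_lit 189, nat_lit 42, nat_lit 147, nat_lit 189, nat_lit 126, nat_lit 63, nat_lit 168, nat_lit 63, nat_lit 168, nat_lit 42, nat_lit 189, nat_lit 42, nat_lit 126, nat_lit 189, nat_lit 147])
noncomputable def r440 : WT := (.leaf (nat_lit 29707) [nat_lit 168, nat_lit 42, nat_lit 189, nat_lit 42, nat_lit 126, nat_lit 189, nat_lit 147, nat_lit 63, nat_lit 168, nat_lit 63, nat_lit 189, nat_lit 42, nat_lit 189, nat_lit 42, nat_lit 147, nat_lit 189, nat_lit 126, nat_lit 63, nat_lit 168, nat_lit 63])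
noncomputable def r441 : WT := (.leaf (nat_lit 29701) [nat_lit 63, nat_lit 168, nat_lit 63, nat_lit 168, nat_lit 42, nat_lit 189, nat_lit 42, nat_lit 126, nat_lit 189, nat_lit 147, nat_lit 63, nat_lit 168, nat_lit 63, nat_lit 189, nat_lit 42, nat_lit 189, nat_lit 42, nat_lit 147, nat_lit 189, nat_lit 126])
noncomputable def r442 : WT := (.leaf (nat_lit 29697) [nat_lit 189, nat_lit 126, nat_lit 63, nat_lit 168, nat_lit 63, nat_lit 168, nat_lit 42, nat_lit 189, nat_lit 42, nat_lit 126, nat_lit 189, nat_lit 147, nat_lit 63, nat_lit 168, nat_lit 63, nat_lit 189, nat_lit 42, nat_lit 189, nat_lit 42, nat_lit 147])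
noncomputable def r443 : WT := (.leaf (nat_lit 28711) [nat_lit 147, nat_lit 189, nat_lit 126, nat_lit 42, nat_lit 189, nat_lit 42, nat_lit 168, nat_lit 63, nat_lit 168, nat_lit 63, nat_lit 126, nat_lit 189, nat_lit 147, nat_lit 42, nat_lit 189, nat_lit 42, nat_lit 189, nat_lit 63, nat_lit 168, nat_lit 63])
noncomputable def r444 : WT := (.leaf (nat_lit 28709) [nat_lit 63, nat_lit 147, nat_lit 189, nat_lit 126, nat_lit 42, nat_lit 189, nat_lit 42, nat_lit 168, nat_lit 63, nat_lit 168, nat_lit 63, nat_lit 126, nat_lit 189, nat_lit 147, nat_lit 42, nat_lit 189, nat_lit 42, nat_lit 189, nat_lit 63, nat_lit 168])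
noncomputable def r445 : WT := (.leaf (nat_lit 28707) [nat_lit 168, nat_lit 63, nat_lit 147, nat_lit 189, nat_lit 126, nat_lit 42, nat_lit 189, nat_lit 42, nat_lit 168, nat_lit 63, nat_lit 168, nat_lit 63, nat_lit 126, nat_lit 189, nat_lit 147, nat_lit 42, nat_lit 189, nat_lit 42, nat_lit 189, nat_lit 63])
noncomputable def r446 : WT := (.leaf (nat_lit 28701) [nat_lit 42, nat_lit 189, nat_lit 63, nat_lit 168, nat_lit 63, nat_lit 147, nat_lit 189, nat_lit 126, nat_lit 42, nat_lit 189, nat_lit 42, nat_lit 168, nat_lit 63, nat_lit 168, nat_lit 63, nat_lit 126, nat_lit 189, nat_lit 147, nat_lit 42, nat_lit 189])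
noncomputable def r447 : WT := (.node (nat_lit 126) (.node (nat_lit 123) (.node (nat_lit 122) r437 r438) (.node (nat_lit 124) r439 (.node (nat_lit 125) r440 r441))) (.node (nat_lit 128) (.node (nat_lit 127) r442 r443) (.node (nat_lit 129) r444 (.node (nat_lit 130) r445 r446))))
noncomputable def wP : WT := (.node (nat_lit 52) (.node (nat_lit 16) (.node (nat_lit 6) (.node (nat_lit 3) r314 r317) (.node (nat_lit 11) r323 r328)) (.node (nat_lit 32) (.node (nat_lit 22) r335 r346) (.node (nat_lit 42) r357 r368))) (.node (nat_lit 91) (.node (nat_lit 71) (.node (nat_lit 61) r378 r389) (.node (nat_lit 81) r400 r411)) (.node (nat_lit 111) (.node (nat_lit 101) r416 r425) (.node (nat_lit 121) r436 r447))))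
noncomputable def P : Par := ⟨tb, nat_lit 210, nat_lit 0x3ffffffffffffffffffffffffffffffffffffffffffffffffffff, nat_lit 3806, nat_lit 2097151, nat_lit 4095, nat_lit 21, nat_lit 12, nat_lit 704,
  [nat_lit 42, nat_lit 63, nat_lit 84, nat_lit 105, nat_lit 126, nat_lit 147, nat_lit 168, nat_lit 189], [nat_lit 42, nat_lit 84, nat_lit 168], wP,
  (.cons (nat_lit 42) w0 (.cons (nat_lit 63) w1 (.cons (nat_lit 84) w2 (.cons (nat_lit 105) w3 (.cons (nat_lit 126) w4 (.cons (nat_lit 147) w5 (.cons (nat_lit 168) w6 (.cons (nat_lit 189) w7 .nil)))))))),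
  .nil⟩

end Cfsg.Agent.Lib.TCHP3
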