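import Cfsg.Agent.Lib.TCHd00aD0

set_option autoImplicit false
set_option maxRecDepth 100000

namespace Cfsg.Agent.Lib.TCHd00a
open Cfsg.Agent.Lib.TCCore

noncomputable def tb : T := (.node (nat_lit 1183) (.node (nat_lit 546) (.node (nat_lit 273) (.node (nat_lit 91) l0 (.node (nat_lit 182) l1 l2)) (.node (nat_lit 364) l3 (.node (nat_lit 455) l4 l5))) (.node (nat_lit 819) (.node (nat_lit 637) l6 (.node (nat_lit 728) l7 l8)) (.node (nat_lit 1001) (.node (nat_lit 910) l9 l10) (.node (nat_lit 1092) l11 l12)))) (.node (nat_lit 1820) (.node (nat_lit 1456) (.node (nat_lit 1274) l13 (.node (nat_lit 1365) l14 l15)) (.node (nat_lit 1638) (.node (nat_lit 1547) l16 l17) (.node (nat_lit 1729) l18 l19))) (.node (nat_lit 2093) (.node (nat_lit 1911) l20 (.node (nat_lit 2002) l21 l22)) (.node (nat_lit 2275) (.node (nat_lit 2184) l23 l24) (.node (nat_lit 2366) l25 l26)))))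
noncomputable def r0 : WT := (.node (nat_lit 6) (.leaf (nat_lit 11264) [nat_lit 126, nat_lit 42, nat_lit 126, nat_lit 42, nat_lit 126]) (.leaf (nat_lit 47104) [nat_lit 84, nat_lit 147, nat_lit 84, nat_lit 42, nat_lit 84, nat_lit 147, nat_lit 84]))
noncomputable def r1 : WT := (.node (nat_lit 9) (.node (nat_lit 8) (.leaf (nat_lit 41989) [nat_lit 126, nat_lit 84, nat_lit 42, nat_lit 126, nat_lit 84, nat_lit 42, nat_lit 126, nat_lit 84]) (.leaf (nat_lit 12288) [nat_lit 147, nat_lit 42, nat_lit 147, nat_lit 42, nat_lit 147, nat_lit 42, nat_lit 147])) (.node (nat_lit 11) (.node (nat_lit 10) (.leaf (nat_lit 9216) [nat_lit 84, nat_lit 42, nat_lit 84, nat_lit 42, nat_lit 84, nat_lit 42, nat_lit 84]) (.leaf (nat_lit 44032) [nat_lit 126, nat_lit 84, nat_lit 126, nat_lit 42, nat_lit 126, nat_lit 84, nat_lit 126])) (.node (nat_lit 12) (.leaf (nat_lit 46080) [nat_lit 84, nat_lit 147, nat_lit 42, nat_lit 84, nat_lit 147, nat_lit 42, nat_lit 84, nat_lit 147])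 (.node (nat_lit 13) (.leaf (nat_lit 46085) [nat_lit 147, nat_lit 84, nat_lit 42, nat_lit 147, nat_lit 84, nat_lit 42, nat_lit 147, nat_lit 84]) (.leaf (nat_lit 41984) [nat_lit 84, nat_lit 126, nat_lit 42, nat_lit 84, nat_lit 126, nat_lit 42, nat_lit 84, nat_lit 126])))))
noncomputable def w0 : WT := (.node (nat_lit 1) (.leaf (nat_lit 0) [nat_lit 42]) (.node (nat_lit 3) (.node (nat_lit 2) (.leaf (nat_lit 14336) [nat_lit 189, nat_lit 42, nat_lit 189]) (.leaf (nat_lit 10240) [nat_lit 105, nat_lit 42, nat_lit 105])) (.node (nat_lit 5) (.node (nat_lit 4) (.leaf (nat_lit 13312) [nat_lit 168, nat_lit 42, nat_lit 168]) (.leaf (nat_lit 8192) [nat_lit 63, nat_lit 42, nat_lit 63])) (.node (nat_lit 7) r0 r1))))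
noncomputable def r2 : WT := (.node (nat_lit 7) (.leaf (nat_lit 16384) [nat_lit 105, nat_lit 63, nat_lit 105, nat_lit 63, nat_lit 105, nat_lit 63, nat_lit 105]) (.node (nat_lit 8) (.leaf (nat_lit 19456) [nat_lit 168, nat_lit 63, nat_lit 168, nat_lit 63, nat_lit 168, nat_lit 63, nat_lit 168]) (.leaf (nat_lit 38916) [nat_lit 189, nat_lit 63, nat_lit 105, nat_lit 63, nat_lit 189, nat_lit 63, nat_lit 105])))
noncomputable def r3 : WT := (.node (nat_lit 11) (.node (nat_lit 10) (.leaf (nat_lit 37888) [nat_lit 105, nat_lit 168, nat_lit 63, nat_lit 105, nat_lit 168, nat_lit 63, nat_lit 105, nat_lit 168]) (.leaf (nat_lit 38912) [nat_lit 105, nat_lit 63, nat_lit 189, nat_lit 63, nat_lit 105, nat_lit 63, nat_lit 189])) (.node (nat_lit 12) (.leaf (nat_lit 39936) [nat_lit 105, nat_lit 168, nat_lit 105, nat_lit 63, nat_lit 105, nat_lit 168, nat_lit 105]) (.node (nat_lit 13) (.leaf (nat_lit 37893) [nat_lit 168, nat_lit 105, nat_lit 63, nat_lit 168, nat_lit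 105, nat_lit 63, nat_lit 168, nat_lit 105]) (.node (nat_lit 14) (.leaf (nat_lit 36864) [nat_lit 105, nat_lit 189, nat_lit 63, nat_lit 105, nat_lit 189, nat_lit 63, nat_lit 105, nat_lit 189]) (.leaf (nat_lit 36869) [nat_lit 189, nat_lit 105, nat_lit 63, nat_lit 189, nat_lit 105, nat_lit 63, nat_lit 189, nat_lit 105])))))
noncomputable def w1 : WT := (.node (nat_lit 1) (.leaf (nat_lit 1024) [nat_lit 63]) (.node (nat_lit 4) (.node (nat_lit 2) (.leaf (nat_lit 18432) [nat_lit 147, nat_lit 63, nat_lit 147]) (.node (nat_lit 3) (.leaf (nat_lit 15360) [nat_lit 84, nat_lit 63, nat_lit 84]) (.leaf (nat_lit 17408) [nat_lit 126, nat_lit 63, nat_lit 126]))) (.node (nat_lit 6) (.node (nat_lit 5) (.leaf (nat_lit 20480) [nat_lit 189, nat_lit 63, nat_lit 189, nat_lit 63, nat_lit 189]) (.leaf (nat_lit 8194) [nat_lit 42, nat_lit 63, nat_lit 42])) (.node (nat_lit 9) r2 r3))))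
noncomputable def r4 : WT := (.node (nat_lit 5) (.leaf (nat_lit 43008) [nat_lit 105, nat_lit 168, nat_lit 105, nat_lit 84, nat_lit 105, nat_lit 168, nat_lit 105]) (.leaf (nat_lit 44036) [nat_lit 126, nat_lit 42, nat_lit 126, nat_lit 84, nat_lit 126, nat_lit 42, nat_lit 126]))
noncomputable def r5 : WT := (.node (nat_lit 7) (.leaf (nat_lit 9218) [nat_lit 42, nat_lit 84, nat_lit 42, nat_lit 84, nat_lit 42, nat_lit 84, nat_lit 42]) (.leaf (nat_lit 47106) [nat_lit 147, nat_lit 84, nat_lit 42, nat_lit 84, nat_lit 147, nat_lit 84, nat_lit 42]))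
noncomputable def r6 : WT := (.node (nat_lit 9) (.leaf (nat_lit 21504) [nat_lit 105, nat_lit 84, nat_lit 105, nat_lit 84, nat_lit 105, nat_lit 84, nat_lit 105]) (.node (nat_lit 10) (.leaf (nat_lit 24576) [nat_lit 168, nat_lit 84, nat_lit 168, nat_lit 84, nat_lit 168, nat_lit 84, nat_lit 168]) (.leaf (nat_lit 40960) [nat_lit 105, nat_lit 168, nat_lit 84, nat_lit 105, nat_lit 168, nat_lit 84, nat_lit 105, nat_lit 168])))
noncomputable def r7 : WT := (.node (nat_lit 18) (.leaf (nat_lit 47110) [nat_lit 42, nat_lit 84, nat_lit 147, nat_lit 84, nat_lit 42, nat_lit 84, nat_lit 147]) (.leaf (nat_lit 46082) [nat_lit 147, nat_lit 42, nat_lit 84, nat_lit 147, nat_lit 42, nat_lit 84, nat_lit 147, nat_lit 42]))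
noncomputable def r8 : WT := (.node (nat_lit 13) (.node (nat_lit 12) (.leaf (nat_lit 22528) [nat_lit 126, nat_lit 84, nat_lit 126, nat_lit 84, nat_lit 126, nat_lit 84, nat_lit 126]) (.leaf (nat_lit 45056) [nat_lit 105, nat_lit 147, nat_lit 84, nat_lit 105, nat_lit 147, nat_lit 84, nat_lit 105, nat_lit 147])) (.node (nat_lit 15) (.node (nat_lit 14) (.leaf (nat_lit 40965) [nat_lit 168, nat_lit 105, nat_lit 84, nat_lit 168, nat_lit 105, nat_lit 84, nat_lit 168, nat_lit 105]) (.leaf (nat_lit 41986) [nat_lit 126, nat_lit 42, nat_lit 84, nat_lit 126, nat_lit 42, nat_lit 84, nat_lit 126, nat_lit 42])) (.node (nat_lit 16) (.leaf (nat_lit 45061) [nat_lit 147, nat_lit 105, nat_lit 84, nat_lit 147, nat_lit 105, nat_lit 84, nat_lit 147, nat_lit 105]) (.node (nat_lit 17) (.leaf (nat_lit 41987) [nat_lit 42, nat_lit 126, nat_lit 84, nat_lit 42, nat_lit 126, nat_lit 84, nat_lit 42, nat_lit 126]) r7))))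
noncomputable def w2 : WT := (.node (nat_lit 1) (.leaf (nat_lit 2048) [nat_lit 84]) (.node (nat_lit 4) (.node (nat_lit 2) (.leaf (nat_lit 25600) [nat_lit 189, nat_lit 84, nat_lit 189]) (.node (nat_lit 3) (.leaf (nat_lit 15362) [nat_lit 63, nat_lit 84, nat_lit 63]) (.leaf (nat_lit 23552) [nat_lit 147, nat_lit 84, nat_lit 147, nat_lit 84, nat_lit 147]))) (.node (nat_lit 8) (.node (nat_lit 6) r4 r5) (.node (nat_lit 11) r6 r8))))
noncomputable def r9 : WT := (.node (nat_lit 6) (.leaf (nat_lit 16386) [nat_lit 63, nat_lit 105, nat_lit 63, nat_lit 105, nat_lit 63, nat_lit 105, nat_lit 63]) (.leaf (nat_lit 21506) [nat_lit 84, nat_lit 105, nat_lit 84, nat_lit 105, nat_lit 84, nat_lit 105, nat_lit 84]))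
noncomputable def r10 : WT := (.node (nat_lit 8) (.leaf (nat_lit 38914) [nat_lit 63, nat_lit 189, nat_lit 63, nat_lit 105, nat_lit 63, nat_lit 189, nat_lit 63]) (.leaf (nat_lit 43010) [nat_lit 168, nat_lit 105, nat_lit 84, nat_lit 105, nat_lit 168, nat_lit 105, nat_lit 84]))
noncomputable def r11 : WT := (.node (nat_lit 10) (.leaf (nat_lit 36867) [nat_lit 63, nat_lit 189, nat_lit 105, nat_lit 63, nat_lit 189, nat_lit 105, nat_lit 63, nat_lit 189]) (.node (nat_lit 11) (.leaf (nat_lit 27648) [nat_lit 147, nat_lit 105, nat_lit 147, nat_lit 105, nat_lit 147, nat_lit 105, nat_lit 147]) (.leaf (nat_lit 45058) [nat_lit 147, nat_lit 84, nat_lit 105, nat_lit 147, nat_lit 84, nat_lit 105, nat_lit 147, nat_lit 84])))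
noncomputable def r12 : WT := (.node (nat_lit 17) (.leaf (nat_lit 37891) [nat_lit 63, nat_lit 168, nat_lit 105, nat_lit 63, nat_lit 168, nat_lit 105, nat_lit 63, nat_lit 168]) (.leaf (nat_lit 40963) [nat_lit 84, nat_lit 168, nat_lit 105, nat_lit 84, nat_lit 168, nat_lit 105, nat_lit 84, nat_lit 168]))
noncomputable def r13 : WT := (.node (nat_lit 19) (.leaf (nat_lit 43014) [nat_lit 84, nat_lit 105, nat_lit 168, nat_lit 105, nat_lit 84, nat_lit 105, nat_lit 168]) (.leaf (nat_lit 40962) [nat_lit 168, nat_lit 84, nat_lit 105, nat_lit 168, nat_lit 84, nat_lit 105, nat_lit 168, nat_lit 84]))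
noncomputable def r14 : WT := (.node (nat_lit 14) (.node (nat_lit 13) (.leaf (nat_lit 39938) [nat_lit 168, nat_lit 105, nat_lit 63, nat_lit 105, nat_lit 168, nat_lit 105, nat_lit 63]) (.leaf (nat_lit 36866) [nat_lit 189, nat_lit 63, nat_lit 105, nat_lit 189, nat_lit 63, nat_lit 105, nat_lit 189, nat_lit 63])) (.node (nat_lit 15) (.leaf (nat_lit 39942) [nat_lit 63, nat_lit 105, nat_lit 168, nat_lit 105, nat_lit 63, nat_lit 105, nat_lit 168]) (.node (nat_lit 16) (.leaf (nat_lit 45059) [nat_lit 84, nat_lit 147, nat_lit 105, nat_lit 84, nat_lit 147, nat_lit 105, nat_lit 84, nat_lit 147]) (.node (nat_lit 18) r12 r13))))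
noncomputable def w3 : WT := (.node (nat_lit 1) (.leaf (nat_lit 3072) [nat_lit 105]) (.node (nat_lit 5) (.node (nat_lit 3) (.node (nat_lit 2) (.leaf (nat_lit 26624) [nat_lit 126, nat_lit 105, nat_lit 126]) (.leaf (nat_lit 10242) [nat_lit 42, nat_lit 105, nat_lit 42])) (.node (nat_lit 4) (.leaf (nat_lit 28672) [nat_lit 168, nat_lit 105, nat_lit 168, nat_lit 105, nat_lit 168]) (.leaf (nat_lit 29696) [nat_lit 189, nat_lit 105, nat_lit 189, nat_lit 105, nat_lit 189, nat_lit 105, nat_lit 189]))) (.node (nat_lit 9) (.node (nat_lit 7) r9 r10) (.node (nat_lit 12) r11 r14))))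
noncomputable def r15 : WT := (.node (nat_lit 11) (.leaf (nat_lit 41985) [nat_lit 84, nat_lit 42, nat_lit 126, nat_lit 84, nat_lit 42, nat_lit 126, nat_lit 84, nat_lit 42]) (.leaf (nat_lit 41988) [nat_lit 42, nat_lit 84, nat_lit 126, nat_lit 42, nat_lit 84, nat_lit 126, nat_lit 42, nat_lit 84]))
noncomputable def r16 : WT := (.node (nat_lit 7) (.leaf (nat_lit 30720) [nat_lit 147, nat_lit 126, nat_lit 147, nat_lit 126, nat_lit 147]) (.node (nat_lit 8) (.leaf (nat_lit 44034) [nat_lit 84, nat_lit 126, nat_lit 42, nat_lit 126, nat_lit 84, nat_lit 126, nat_lit 42]) (.node (nat_lit 9) (.leaf (nat_lit 22530) [nat_lit 84, nat_lit 126, nat_lit 84, nat_lit 126, nat_lit 84, nat_lit 126, nat_lit 84]) (.node (nat_lit 10) (.leaf (nat_lit 44038) [nat_lit 42, nat_lit 126, nat_lit 84, nat_lit 126, nat_lit 42, nat_lit 126, nat_lit 84]) r15))))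
noncomputable def w4 : WT := (.node (nat_lit 1) (.leaf (nat_lit 4096) [nat_lit 126]) (.node (nat_lit 3) (.node (nat_lit 2) (.leaf (nat_lit 32768) [nat_lit 189, nat_lit 126, nat_lit 189]) (.leaf (nat_lit 31744) [nat_lit 168, nat_lit 126, nat_lit 168])) (.node (nat_lit 5) (.node (nat_lit 4) (.leaf (nat_lit 26626) [nat_lit 105, nat_lit 126, nat_lit 105]) (.leaf (nat_lit 17410) [nat_lit 63, nat_lit 126, nat_lit 63])) (.node (nat_lit 6) (.leaf (nat_lit 11266) [nat_lit 42, nat_lit 126, nat_lit 42, nat_lit 126, nat_lit 42]) r16))))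
noncomputable def r17 : WT := (.node (nat_lit 5) (.leaf (nat_lit 33792) [nat_lit 168, nat_lit 147, nat_lit 168, nat_lit 147, nat_lit 168]) (.leaf (nat_lit 30722) [nat_lit 126, nat_lit 147, nat_lit 126, nat_lit 147, nat_lit 126]))
noncomputable def r18 : WT := (.node (nat_lit 7) (.leaf (nat_lit 12290) [nat_lit 42, nat_lit 147, nat_lit 42, nat_lit 147, nat_lit 42, nat_lit 147, nat_lit 42]) (.leaf (nat_lit 45057) [nat_lit 105, nat_lit 84, nat_lit 147, nat_lit 105, nat_lit 84, nat_lit 147, nat_lit 105, nat_lit 84]))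
noncomputable def r19 : WT := (.node (nat_lit 10) (.node (nat_lit 9) (.leaf (nat_lit 27650) [nat_lit 105, nat_lit 147, nat_lit 105, nat_lit 147, nat_lit 105, nat_lit 147, nat_lit 105]) (.leaf (nat_lit 45060) [nat_lit 84, nat_lit 105, nat_lit 147, nat_lit 84, nat_lit 105, nat_lit 147, nat_lit 84, nat_lit 105])) (.node (nat_lit 11) (.leaf (nat_lit 46081) [nat_lit 84, nat_lit 42, nat_lit 147, nat_lit 84, nat_lit 42, nat_lit 147, nat_lit 84, nat_lit 42]) (.node (nat_lit 12) (.leaf (nat_lit 47108) [nat_lit 84, nat_lit 42, nat_lit 84, nat_lit 147, nat_lit 84, nat_lit 42, nat_lit 84]) (.leaf (nat_lit 46084) [nat_lit 42, nat_lit 84, nat_lit 147, nat_lit 42, nat_lit 84, nat_lit 147, nat_lit 42, nat_lit 84]))))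
noncomputable def w5 : WT := (.node (nat_lit 1) (.leaf (nat_lit 5120) [nat_lit 147]) (.node (nat_lit 3) (.node (nat_lit 2) (.leaf (nat_lit 34816) [nat_lit 189, nat_lit 147, nat_lit 189]) (.leaf (nat_lit 18434) [nat_lit 63, nat_lit 147, nat_lit 63])) (.node (nat_lit 6) (.node (nat_lit 4) (.leaf (nat_lit 23554) [nat_lit 84, nat_lit 147, nat_lit 84, nat_lit 147, nat_lit 84]) r17) (.node (nat_lit 8) r18 r19))))
noncomputable def r20 : WT := (.node (nat_lit 6) (.leaf (nat_lit 33794) [nat_lit 147, nat_lit 168, nat_lit 147, nat_lit 168, nat_lit 147]) (.leaf (nat_lit 37889) [nat_lit 105, nat_lit 63, nat_lit 168, nat_lit 105, nat_lit 63, nat_lit 168, nat_lit 105, nat_lit 63]))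
noncomputable def r21 : WT := (.node (nat_lit 8) (.leaf (nat_lit 40961) [nat_lit 105, nat_lit 84, nat_lit 168, nat_lit 105, nat_lit 84, nat_lit 168, nat_lit 105, nat_lit 84]) (.leaf (nat_lit 24578) [nat_lit 84, nat_lit 168, nat_lit 84, nat_lit 168, nat_lit 84, nat_lit 168, nat_lit 84]))
noncomputable def r22 : WT := (.node (nat_lit 11) (.node (nat_lit 10) (.leaf (nat_lit 19458) [nat_lit 63, nat_lit 168, nat_lit 63, nat_lit 168, nat_lit 63, nat_lit 168, nat_lit 63]) (.leaf (nat_lit 39940) [nat_lit 105, nat_lit 63, nat_lit 105, nat_lit 168, nat_lit 105, nat_lit 63, nat_lit 105])) (.node (nat_lit 12) (.leaf (nat_lit 37892) [nat_lit 63, nat_lit 105, nat_lit 168, nat_lit 63, nat_lit 105, nat_lit 168, nat_lit 63, nat_lit 105]) (.node (nat_lit 13) (.leaf (nat_lit 40964) [nat_lit 84, nat_lit 105, nat_lit 168, nat_lit 84, nat_lit 105, nat_lit 168, nat_lit 84, nat_lit 105]) (.leaf (nat_lit 43012) [nat_lit 105, nat_lit 84, nat_lit 105, nat_lit 168, nat_lit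 105, nat_lit 84, nat_lit 105]))))
noncomputable def w6 : WT := (.node (nat_lit 1) (.leaf (nat_lit 6144) [nat_lit 168]) (.node (nat_lit 4) (.node (nat_lit 2) (.leaf (nat_lit 31746) [nat_lit 126, nat_lit 168, nat_lit 126]) (.node (nat_lit 3) (.leaf (nat_lit 13314) [nat_lit 42, nat_lit 168, nat_lit 42]) (.leaf (nat_lit 28674) [nat_lit 105, nat_lit 168, nat_lit 105, nat_lit 168, nat_lit 105]))) (.node (nat_lit 7) (.node (nat_lit 5) (.leaf (nat_lit 35840) [nat_lit 189, nat_lit 168, nat_lit 189, nat_lit 168, nat_lit 189]) r20) (.node (nat_lit 9) r21 r22))))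
noncomputable def r23 : WT := (.node (nat_lit 7) (.leaf (nat_lit 35842) [nat_lit 168, nat_lit 189, nat_lit 168, nat_lit 189, nat_lit 168]) (.leaf (nat_lit 29698) [nat_lit 105, nat_lit 189, nat_lit 105, nat_lit 189, nat_lit 105, nat_lit 189, nat_lit 105]))
noncomputable def r24 : WT := (.node (nat_lit 9) (.leaf (nat_lit 38918) [nat_lit 63, nat_lit 105, nat_lit 63, nat_lit 189, nat_lit 63, nat_lit 105, nat_lit 63]) (.node (nat_lit 10) (.leaf (nat_lit 36868) [nat_lit 63, nat_lit 105, nat_lit 189, nat_lit 63, nat_lit 105, nat_lit 189, nat_lit 63, nat_lit 105]) (.leaf (nat_lit 36865) [nat_lit 105, nat_lit 63, nat_lit 189, nat_lit 105, nat_lit 63, nat_lit 189, nat_lit 105, nat_lit 63])))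
noncomputable def w7 : WT := (.node (nat_lit 1) (.leaf (nat_lit 7168) [nat_lit 189]) (.node (nat_lit 4) (.node (nat_lit 2) (.leaf (nat_lit 34818) [nat_lit 147, nat_lit 189, nat_lit 147]) (.node (nat_lit 3) (.leaf (nat_lit 32770) [nat_lit 126, nat_lit 189, nat_lit 126]) (.leaf (nat_lit 25602) [nat_lit 84, nat_lit 189, nat_lit 84]))) (.node (nat_lit 6) (.node (nat_lit 5) (.leaf (nat_lit 14338) [nat_lit 42, nat_lit 189, nat_lit 42]) (.leaf (nat_lit 20482) [nat_lit 63, nat_lit 189, nat_lit 63, nat_lit 189, nat_lit 63])) (.node (nat_lit 8) r23 r24))))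
noncomputable def r25 : WT := (.node (nat_lit 7) (.leaf (nat_lit 47108) [nat_lit 147, nat_lit 84, nat_lit 42, nat_lit 84, nat_lit 147, nat_lit 84, nat_lit 42, nat_lit 84]) (.leaf (nat_lit 32768) [nat_lit 126, nat_lit 189, nat_lit 126, nat_lit 189]))
noncomputable def r26 : WT := (.node (nat_lit 9) (.leaf (nat_lit 46082) [nat_lit 84, nat_lit 147, nat_lit 42, nat_lit 84, nat_lit 147, nat_lit 42, nat_lit 84, nat_lit 147, nat_lit 42]) (.leaf (nat_lit 46080) [nat_lit 42, nat_lit 84, nat_lit 147, nat_lit 42, nat_lit 84, nat_lit 147, nat_lit 42, nat_lit 84, nat_lit 147]))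
noncomputable def r27 : WT := (.node (nat_lit 11) (.leaf (nat_lit 45059) [nat_lit 105, nat_lit 84, nat_lit 147, nat_lit 105, nat_lit 84, nat_lit 147, nat_lit 105, nat_lit 84, nat_lit 147]) (.leaf (nat_lit 35842) [nat_lit 189, nat_lit 168, nat_lit 189, nat_lit 168, nat_lit 189, nat_lit 168]))
noncomputable def r28 : WT := (.node (nat_lit 13) (.leaf (nat_lit 9216) [nat_lit 42, nat_lit 84, nat_lit 42, nat_lit 84, nat_lit 42, nat_lit 84, nat_lit 42, nat_lit 84]) (.leaf (nat_lit 40961) [nat_lit 168, nat_lit 105, nat_lit 84, nat_lit 168, nat_lit 105, nat_lit 84, nat_lit 168, nat_lit 105, nat_lit 84]))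
noncomputable def r29 : WT := (.node (nat_lit 15) (.leaf (nat_lit 37889) [nat_lit 168, nat_lit 105, nat_lit 63, nat_lit 168, nat_lit 105, nat_lit 63, nat_lit 168, nat_lit 105, nat_lit 63]) (.node (nat_lit 16) (.leaf (nat_lit 37890) [nat_lit 105, nat_lit 168, nat_lit 63, nat_lit 105, nat_lit 168, nat_lit 63, nat_lit 105, nat_lit 168, nat_lit 63]) (.leaf (nat_lit 36867) [nat_lit 105, nat_lit 63, nat_lit 189, nat_lit 105, nat_lit 63, nat_lit 189, nat_lit 105, nat_lit 63, nat_lit 189])))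
noncomputable def r30 : WT := (.node (nat_lit 18) (.leaf (nat_lit 44036) [nat_lit 84, nat_lit 126, nat_lit 42, nat_lit 126, nat_lit 84, nat_lit 126, nat_lit 42, nat_lit 126]) (.leaf (nat_lit 43014) [nat_lit 105, nat_lit 84, nat_lit 105, nat_lit 168, nat_lit 105, nat_lit 84, nat_lit 105, nat_lit 168]))
noncomputable def r31 : WT := (.node (nat_lit 20) (.leaf (nat_lit 43010) [nat_lit 105, nat_lit 168, nat_lit 105, nat_lit 84, nat_lit 105, nat_lit 168, nat_lit 105, nat_lit 84]) (.leaf (nat_lit 39942) [nat_lit 105, nat_lit 63, nat_lit 105, nat_lit 168, nat_lit 105, nat_lit 63, nat_lit 105, nat_lit 168]))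
noncomputable def r32 : WT := (.node (nat_lit 22) (.leaf (nat_lit 38914) [nat_lit 105, nat_lit 63, nat_lit 189, nat_lit 63, nat_lit 105, nat_lit 63, nat_lit 189, nat_lit 63]) (.leaf (nat_lit 24578) [nat_lit 168, nat_lit 84, nat_lit 168, nat_lit 84, nat_lit 168, nat_lit 84, nat_lit 168, nat_lit 84]))
noncomputable def r33 : WT := (.node (nat_lit 24) (.leaf (nat_lit 22530) [nat_lit 126, nat_lit 84, nat_lit 126, nat_lit 84, nat_lit 126, nat_lit 84, nat_lit 126, nat_lit 84]) (.node (nat_lit 25) (.leaf (nat_lit 22528) [nat_lit 84, nat_lit 126, nat_lit 84, nat_lit 126, nat_lit 84, nat_lit 126, nat_lit 84, nat_lit 126]) (.leaf (nat_lit 19456) [nat_lit 63, nat_lit 168, nat_lit 63, nat_lit 168, nat_lit 63, nat_lit 168, nat_lit 63, nat_lit 168])))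
noncomputable def wP : WT := (.node (nat_lit 8) (.node (nat_lit 3) (.node (nat_lit 1) (.leaf (nat_lit 46081) [nat_lit 147, nat_lit 84, nat_lit 42, nat_lit 147, nat_lit 84, nat_lit 42, nat_lit 147, nat_lit 84, nat_lit 42]) (.node (nat_lit 2) (.leaf (nat_lit 41988) [nat_lit 126, nat_lit 42, nat_lit 84, nat_lit 126, nat_lit 42, nat_lit 84, nat_lit 126, nat_lit 42, nat_lit 84]) (.leaf (nat_lit 21506) [nat_lit 105, nat_lit 84, nat_lit 105, nat_lit 84, nat_lit 105, nat_lit 84, nat_lit 105, nat_lit 84]))) (.node (nat_lit 5) (.node (nat_lit 4) (.leaf (nat_lit 35840) [nat_lit 168, nat_lit 189, nat_lit 168, nat_lit 189, nat_lit 168, nat_lit 189]) (.leaf (nat_lit 41984) [nat_lit 42, nat_lit 84, nat_lit 126, nat_lit 42, nat_lit 84, nat_lit 126, nat_lit 42, nat_lit 84, nat_lit 126])) (.node (nat_lit 6) (.leaf (nat_lit 19458) [nat_lit 168, nat_lit 63, nat_lit 168, nat_lit 63, nat_lit 168, nat_lit 63, nat_lit 168, nat_lit 63]) r25))) (.node (nat_lit 17) (.node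 (nat_lit 12) (.node (nat_lit 10) r26 r27) (.node (nat_lit 14) r28 r29)) (.node (nat_lit 21) (.node (nat_lit 19) r30 r31) (.node (nat_lit 23) r32 r33))))
noncomputable def P : Par := ⟨tb, nat_lit 210, nat_lit 0x3ffffffffffffffffffffffffffffffffffffffffffffffffffff, nat_lit 2433, nat_lit 2097151, nat_lit 4095, nat_lit 21, nat_lit 12, nat_lit 155,
  [nat_lit 42, nat_lit 63, nat_lit 84, nat_lit 105, nat_lit 126, nat_lit 147, nat_lit 168, nat_lit 189], [nat_lit 42, nat_lit 63, nat_lit 84, nat_lit 105, nat_lit 126, nat_lit 168, nat_lit 189], wP,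
  (.cons (nat_lit 42) w0 (.cons (nat_lit 63) w1 (.cons (nat_lit 84) w2 (.cons (nat_lit 105) w3 (.cons (nat_lit 126) w4 (.cons (nat_lit 147) w5 (.cons (nat_lit 168) w6 (.cons (nat_lit 189) w7 .nil)))))))),
  .nil⟩

end Cfsg.Agent.Lib.TCHd00a
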