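import Cfsg.Agent.Lib.TCDefs

set_option autoImplicit false
set_option maxRecDepth 100000

namespace Cfsg.Agent.Lib.TCHd00b
open Cfsg.Agent.Lib.TCCore

noncomputable def l0 : T := .leaf (nat_lit 0) (nat_lit 0x1fff18ffffcb35fffffffffce4005b39fce9297f340ad6cacad61fff0341f0254744095f9afa35f5affff80d295b1a739dc6cce7e63da5c7ffc04f3b48de16f214d0af35f4edbffe04e95cc4f4c7af9951b94ee573fff013c6b9f507be25d24d4b792bafff8106152f9c75994ec858eb991dfffc06933c71b16d094ee2b79d4cf3ffe041656226606e6b77d4b8daa7dfff020aeadd4cfb839c2af0c6aab3fff809db6aeb965ab694c5ceb8a1efffc068e362da34d91389bb35baad3ffe05ba1e98d4c7252861824cd46bfff02094a9b4af3a91f28c5368b37fff81a09627a2517a2c9355340458fffc0d05322109cc1262ab361820cbffe05b4978e6cf6263065a2ec6e81fff02da6c0730ab2317c4f647f63ffff816e4768ae2d69a8cd6cb29594fffc09d53e41698b8a4964051528b3ffe04169c16b0d5639b25d2ead55bfff020b0dd15672c210bae565852afff8104b6682a4149289264aad2d5fffc08313a2d4a2a87310385572ebbffe04145440ec94e5b43081e75239fff027209e47c52829c9094d3c819fff80d104cf373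8cc4f4e2a51f212fffc0347a57199471a6c4a71d0129bffe0273ced1009465ad3892091237fff0271a7a67e5243971084f46818fff80d0a3e83238c14a8e267a2210fffc0343a0258986c9564a3390928bffe0682109e7c83479a2cf109463ffff00d168878229734e9228b4c3a0fff8138e4681d1ce9c5cc4072714bfffc0348243cf1078e3e209414186bffe03420e3ce8b4a9351460e69351fff01a16688606a12160c3c8369a4fff80d0c36817250190440e41c34efffc06861949c1e9a07839630ba29fffe0342cb90bcf4442918a1061147fff01a186113431f3cf0814d3231efff80d0b2c51634b0c50832505205fffc0825951ca1a5492a7a61850837ffe01a2429054c283961cc0e5051dfff00d1628b266932c99e88826311fff8068b125921889648f484123097ffc09c4882888e48a2228e1c88e4fffe0342c80c3c81a5903541824c21fff02d921c72028e1c60e6c71e58ffff813870830d187882c62230e18a7ffc08250d1c7124081a40b0c40a57ffe0271c6143061640f18e081c819fff0138a2c91638c1471234308496fff809cc261831851028a3e3951447ffc0b66120c30a2071229d3480a27ffe05b28884086122881820834615fff02d943c50e1841430a68518387fff813840c2090810c1c7062061037ffc09c5141c28c143062972cb0a13ffe041207081040e1021c4082c60bfff020880c4142831028c18406102fff80683041880c306101021820c1fffc06808104082041021020408207ffe000)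

end Cfsg.Agent.Lib.TCHd00b
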