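import Cfsg.Agent.Lib.TCHd00bD0

set_option autoImplicit false
set_option maxRecDepth 100000

namespace Cfsg.Agent.Lib.TCHd00b
open Cfsg.Agent.Lib.TCCore

noncomputable def tb : T := l0
noncomputable def r0 : WT := (.node (nat_lit 8) (.leaf (nat_lit 35840) [nat_lit 78, nat_lit 52, nat_lit 78, nat_lit 26, nat_lit 78, nat_lit 52, nat_lit 78]) (.leaf (nat_lit 33792) [nat_lit 52, nat_lit 78, nat_lit 26, nat_lit 52, nat_lit 78, nat_lit 26, nat_lit 52, nat_lit 78]))
noncomputable def w0 : WT := (.node (nat_lit 1) (.leaf (nat_lit 0) [nat_lit 26]) (.node (nat_lit 4) (.node (nat_lit 2) (.leaf (nat_lit 9216) [nat_lit 65, nat_lit 26, nat_lit 65]) (.node (nat_lit 3) (.leaf (nat_lit 10240) [nat_lit 78, nat_lit 26, nat_lit 78, nat_lit 26, nat_lit 78]) (.leaf (nat_lit 7168) [nat_lit 39, nat_lit 26, nat_lit 39]))) (.node (nat_lit 6) (.node (nat_lit 5) (.leaf (nat_lit 11264) [nat_lit 91, nat_lit 26, nat_lit 91]) (.leaf (nat_lit 12288)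 [nat_lit 104, nat_lit 26, nat_lit 104])) (.node (nat_lit 7) (.leaf (nat_lit 8192) [nat_lit 52, nat_lit 26, nat_lit 52, nat_lit 26, nat_lit 52, nat_lit 26, nat_lit 52]) r0))))
noncomputable def r1 : WT := (.node (nat_lit 5) (.leaf (nat_lit 31744) [nat_lit 65, nat_lit 91, nat_lit 65, nat_lit 39, nat_lit 65, nat_lit 91, nat_lit 65]) (.leaf (nat_lit 14336) [nat_lit 65, nat_lit 39, nat_lit 65, nat_lit 39, nat_lit 65, nat_lit 39, nat_lit 65]))
noncomputable def r2 : WT := (.node (nat_lit 7) (.leaf (nat_lit 17408) [nat_lit 104, nat_lit 39, nat_lit 104, nat_lit 39, nat_lit 104]) (.node (nat_lit 8) (.leaf (nat_lit 30724) [nat_lit 104, nat_lit 39, nat_lit 65, nat_lit 39, nat_lit 104, nat_lit 39, nat_lit 65]) (.leaf (nat_lit 28677) [nat_lit 104, nat_lit 65, nat_lit 39, nat_lit 104, nat_lit 65, nat_lit 39, nat_lit 104, nat_lit 65])))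
noncomputable def w1 : WT := (.node (nat_lit 1) (.leaf (nat_lit 1024) [nat_lit 39]) (.node (nat_lit 3) (.node (nat_lit 2) (.leaf (nat_lit 13312) [nat_lit 52, nat_lit 39, nat_lit 52]) (.leaf (nat_lit 7170) [nat_lit 26, nat_lit 39, nat_lit 26])) (.node (nat_lit 4) (.leaf (nat_lit 15360) [nat_lit 78, nat_lit 39, nat_lit 78]) (.node (nat_lit 6) r1 r2))))
noncomputable def r3 : WT := (.node (nat_lit 8) (.leaf (nat_lit 8194) [nat_lit 26, nat_lit 52, nat_lit 26, nat_lit 52, nat_lit 26, nat_lit 52, nat_lit 26]) (.leaf (nat_lit 35844) [nat_lit 78, nat_lit 26, nat_lit 78, nat_lit 52, nat_lit 78, nat_lit 26, nat_lit 78]))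
noncomputable def r4 : WT := (.node (nat_lit 10) (.leaf (nat_lit 32768) [nat_lit 65, nat_lit 91, nat_lit 52, nat_lit 65, nat_lit 91, nat_lit 52, nat_lit 65, nat_lit 91]) (.leaf (nat_lit 33795) [nat_lit 26, nat_lit 78, nat_lit 52, nat_lit 26, nat_lit 78, nat_lit 52, nat_lit 26, nat_lit 78]))
noncomputable def w2 : WT := (.node (nat_lit 1) (.leaf (nat_lit 2048) [nat_lit 52]) (.node (nat_lit 5) (.node (nat_lit 3) (.node (nat_lit 2) (.leaf (nat_lit 13314) [nat_lit 39, nat_lit 52, nat_lit 39]) (.leaf (nat_lit 19456) [nat_lit 78, nat_lit 52, nat_lit 78, nat_lit 52, nat_lit 78, nat_lit 52, nat_lit 78])) (.node (nat_lit 4) (.leaf (nat_lit 21504) [nat_lit 104, nat_lit 52, nat_lit 104]) (.leaf (nat_lit 18432) [nat_lit 65, nat_lit 52, nat_lit 65, nat_lit 52, nat_lit 65, nat_lit 52, nat_lit 65]))) (.node (nat_lit 7) (.node (nat_lit 6) (.leaf (nat_lit 32773) [nat_lit 91, nat_lit 65, nat_lit 52, nat_lit 91, nat_lit 65, nat_lit 52,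 nat_lit 91, nat_lit 65]) (.leaf (nat_lit 33794) [nat_lit 78, nat_lit 26, nat_lit 52, nat_lit 78, nat_lit 26, nat_lit 52, nat_lit 78, nat_lit 26])) (.node (nat_lit 9) r3 r4))))
noncomputable def r5 : WT := (.node (nat_lit 5) (.leaf (nat_lit 14338) [nat_lit 39, nat_lit 65, nat_lit 39, nat_lit 65, nat_lit 39, nat_lit 65, nat_lit 39]) (.leaf (nat_lit 18434) [nat_lit 52, nat_lit 65, nat_lit 52, nat_lit 65, nat_lit 52, nat_lit 65, nat_lit 52]))
noncomputable def r6 : WT := (.node (nat_lit 7) (.leaf (nat_lit 31746) [nat_lit 91, nat_lit 65, nat_lit 39, nat_lit 65, nat_lit 91, nat_lit 65, nat_lit 39]) (.leaf (nat_lit 31750) [nat_lit 39, nat_lit 65, nat_lit 91, nat_lit 65, nat_lit 39, nat_lit 65, nat_lit 91]))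
noncomputable def r7 : WT := (.node (nat_lit 9) (.leaf (nat_lit 34822) [nat_lit 52, nat_lit 65, nat_lit 91, nat_lit 65, nat_lit 52, nat_lit 65, nat_lit 91]) (.node (nat_lit 10) (.leaf (nat_lit 28675) [nat_lit 39, nat_lit 104, nat_lit 65, nat_lit 39, nat_lit 104, nat_lit 65, nat_lit 39, nat_lit 104]) (.leaf (nat_lit 32771) [nat_lit 52, nat_lit 91, nat_lit 65, nat_lit 52, nat_lit 91, nat_lit 65, nat_lit 52, nat_lit 91])))
noncomputable def w3 : WT := (.node (nat_lit 1) (.leaf (nat_lit 3072) [nat_lit 65]) (.node (nat_lit 3) (.node (nat_lit 2) (.leaf (nat_lit 23552) [nat_lit 91, nat_lit 65, nat_lit 91, nat_lit 65, nat_lit 91]) (.leaf (nat_lit 22528) [nat_lit 78, nat_lit 65, nat_lit 78])) (.node (nat_lit 6) (.node (nat_lit 4) (.leaf (nat_lit 9218) [nat_lit 26, nat_lit 65, nat_lit 26]) r5) (.node (nat_lit 8) r6 r7))))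
noncomputable def r8 : WT := (.node (nat_lit 7) (.leaf (nat_lit 26624) [nat_lit 104, nat_lit 78, nat_lit 104]) (.leaf (nat_lit 19458) [nat_lit 52, nat_lit 78, nat_lit 52, nat_lit 78, nat_lit 52, nat_lit 78, nat_lit 52]))
noncomputable def r9 : WT := (.node (nat_lit 9) (.leaf (nat_lit 33796) [nat_lit 26, nat_lit 52, nat_lit 78, nat_lit 26, nat_lit 52, nat_lit 78, nat_lit 26, nat_lit 52]) (.leaf (nat_lit 33793) [nat_lit 52, nat_lit 26, nat_lit 78, nat_lit 52, nat_lit 26, nat_lit 78, nat_lit 52, nat_lit 26]))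
noncomputable def w4 : WT := (.node (nat_lit 1) (.leaf (nat_lit 4096) [nat_lit 78]) (.node (nat_lit 4) (.node (nat_lit 2) (.leaf (nat_lit 25600) [nat_lit 91, nat_lit 78, nat_lit 91]) (.node (nat_lit 3) (.leaf (nat_lit 22530) [nat_lit 65, nat_lit 78, nat_lit 65]) (.leaf (nat_lit 10242) [nat_lit 26, nat_lit 78, nat_lit 26, nat_lit 78, nat_lit 26]))) (.node (nat_lit 6) (.node (nat_lit 5) (.leaf (nat_lit 15362) [nat_lit 39, nat_lit 78, nat_lit 39]) (.leaf (nat_lit 35842) [nat_lit 52, nat_lit 78, nat_lit 26, nat_lit 78, nat_lit 52, nat_lit 78, nat_lit 26])) (.node (nat_lit 8) r8 r9))))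
noncomputable def r10 : WT := (.node (nat_lit 7) (.leaf (nat_lit 23554) [nat_lit 65, nat_lit 91, nat_lit 65, nat_lit 91, nat_lit 65]) (.leaf (nat_lit 27648) [nat_lit 104, nat_lit 91, nat_lit 104, nat_lit 91, nat_lit 104]))
noncomputable def r11 : WT := (.node (nat_lit 9) (.leaf (nat_lit 16386) [nat_lit 39, nat_lit 91, nat_lit 39, nat_lit 91, nat_lit 39, nat_lit 91, nat_lit 39]) (.leaf (nat_lit 31748) [nat_lit 65, nat_lit 39, nat_lit 65, nat_lit 91, nat_lit 65, nat_lit 39, nat_lit 65]))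
noncomputable def r12 : WT := (.node (nat_lit 11) (.leaf (nat_lit 32772) [nat_lit 52, nat_lit 65, nat_lit 91, nat_lit 52, nat_lit 65, nat_lit 91, nat_lit 52, nat_lit 65]) (.leaf (nat_lit 32769) [nat_lit 65, nat_lit 52, nat_lit 91, nat_lit 65, nat_lit 52, nat_lit 91, nat_lit 65, nat_lit 52]))
noncomputable def w5 : WT := (.node (nat_lit 2) (.node (nat_lit 1) (.leaf (nat_lit 5120) [nat_lit 91]) (.leaf (nat_lit 34820) [nat_lit 65, nat_lit 52, nat_lit 65, nat_lit 91, nat_lit 65, nat_lit 52, nat_lit 65])) (.node (nat_lit 5) (.node (nat_lit 3) (.leaf (nat_lit 25602) [nat_lit 78, nat_lit 91, nat_lit 78]) (.node (nat_lit 4) (.leaf (nat_lit 11266) [nat_lit 26, nat_lit 91, nat_lit 26]) (.leaf (nat_lit 20482) [nat_lit 52, nat_lit 91, nat_lit 52, nat_lit 91, nat_lit 52, nat_lit 91, nat_lit 52]))) (.node (nat_lit 8) (.node (nat_lit 6) (.leaf (nat_lit 29700) [nat_lit 39, nat_lit 65, nat_lit 91, nat_lit 39, nat_lit 65, nat_lit 91,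 nat_lit 39, nat_lit 65]) r10) (.node (nat_lit 10) r11 r12))))
noncomputable def r13 : WT := (.node (nat_lit 8) (.leaf (nat_lit 27650) [nat_lit 91, nat_lit 104, nat_lit 91, nat_lit 104, nat_lit 91]) (.node (nat_lit 9) (.leaf (nat_lit 28676) [nat_lit 39, nat_lit 65, nat_lit 104, nat_lit 39, nat_lit 65, nat_lit 104, nat_lit 39, nat_lit 65]) (.leaf (nat_lit 28673) [nat_lit 65, nat_lit 39, nat_lit 104, nat_lit 65, nat_lit 39, nat_lit 104, nat_lit 65, nat_lit 39])))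
noncomputable def w6 : WT := (.node (nat_lit 2) (.node (nat_lit 1) (.leaf (nat_lit 6144) [nat_lit 104]) (.leaf (nat_lit 21506) [nat_lit 52, nat_lit 104, nat_lit 52])) (.node (nat_lit 4) (.node (nat_lit 3) (.leaf (nat_lit 12290) [nat_lit 26, nat_lit 104, nat_lit 26]) (.leaf (nat_lit 26626) [nat_lit 78, nat_lit 104, nat_lit 78])) (.node (nat_lit 6) (.node (nat_lit 5) (.leaf (nat_lit 17410) [nat_lit 39, nat_lit 104, nat_lit 39, nat_lit 104, nat_lit 39]) (.leaf (nat_lit 24578) [nat_lit 65, nat_lit 104, nat_lit 65, nat_lit 104, nat_lit 65, nat_lit 104, nat_lit 65])) (.node (nat_lit 7) (.leaf (nat_lit 30726) [nat_lit 39, nat_lit 65, nat_lit 39, nat_lit 104, nat_lit 39, nat_lit 65, nat_lit 39]) r13))))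
noncomputable def wP : WT := (.leaf (nat_lit 9216) [nat_lit 26, nat_lit 65, nat_lit 26, nat_lit 65])
noncomputable def P : Par := ⟨tb, nat_lit 117, nat_lit 0x1fffffffffffffffffffffffffffff, nat_lit 65, nat_lit 8191, nat_lit 127, nat_lit 13, nat_lit 7, nat_lit 64,
  [nat_lit 26, nat_lit 39, nat_lit 52, nat_lit 65, nat_lit 78, nat_lit 91, nat_lit 104], [nat_lit 26, nat_lit 39, nat_lit 65, nat_lit 78, nat_lit 91, nat_lit 104], wP,
  (.cons (nat_lit 26) w0 (.cons (nat_lit 39) w1 (.cons (nat_lit 52) w2 (.cons (nat_lit 65) w3 (.cons (nat_lit 78) w4 (.cons (nat_lit 91) w5 (.cons (nat_lit 104) w6 .nil))))))),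
  .nil⟩

end Cfsg.Agent.Lib.TCHd00b
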