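import Cfsg.Agent.Lib.TCHd00cD0

set_option autoImplicit false
set_option maxRecDepth 100000

namespace Cfsg.Agent.Lib.TCHd00c
open Cfsg.Agent.Lib.TCCore

noncomputable def tb : T := (.node (nat_lit 480) (.node (nat_lit 240) (.node (nat_lit 120) l0 l1) (.node (nat_lit 360) l2 l3)) (.node (nat_lit 720) (.node (nat_lit 600) l4 l5) (.node (nat_lit 840) l6 (.node (nat_lit 960) l7 l8))))
noncomputable def w0 : WT := (.node (nat_lit 1) (.leaf (nat_lit 0) [nat_lit 40]) (.node (nat_lit 3) (.node (nat_lit 2) (.leaf (nat_lit 8192) [nat_lit 100, nat_lit 40, nat_lit 100, nat_lit 40, nat_lit 100]) (.leaf (nat_lit 10240) [nat_lit 140, nat_lit 40, nat_lit 140])) (.node (nat_lit 4) (.leaf (nat_lit 9216) [nat_lit 120, nat_lit 40, nat_lit 120]) (.node (nat_lit 5) (.leaf (nat_lit 6144) [nat_lit 60, nat_lit 40, nat_lit 60]) (.leaf (nat_lit 7168) [nat_lit 80, nat_lit 40, nat_lit 80])))))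
noncomputable def r0 : WT := (.node (nat_lit 6) (.leaf (nat_lit 13312) [nat_lit 120, nat_lit 60, nat_lit 120, nat_lit 60, nat_lit 120, nat_lit 60, nat_lit 120]) (.leaf (nat_lit 23556) [nat_lit 140, nat_lit 60, nat_lit 80, nat_lit 60, nat_lit 140, nat_lit 60, nat_lit 80]))
noncomputable def r1 : WT := (.node (nat_lit 8) (.leaf (nat_lit 22528) [nat_lit 80, nat_lit 120, nat_lit 60, nat_lit 80, nat_lit 120, nat_lit 60, nat_lit 80, nat_lit 120]) (.node (nat_lit 9) (.leaf (nat_lit 24576) [nat_lit 80, nat_lit 120, nat_lit 80, nat_lit 60, nat_lit 80, nat_lit 120, nat_lit 80]) (.node (nat_lit 10) (.leaf (nat_lit 22533) [nat_lit 120, nat_lit 80, nat_lit 60, nat_lit 120, nat_lit 80, nat_lit 60, nat_lit 120, nat_lit 80]) (.leaf (nat_lit 21509) [nat_lit 140, nat_lit 80, nat_lit 60, nat_lit 140, nat_lit 80, nat_lit 60, nat_lit 140, nat_lit 80]))))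
noncomputable def w1 : WT := (.node (nat_lit 1) (.leaf (nat_lit 1024) [nat_lit 60]) (.node (nat_lit 3) (.node (nat_lit 2) (.leaf (nat_lit 12288) [nat_lit 100, nat_lit 60, nat_lit 100]) (.leaf (nat_lit 14336) [nat_lit 140, nat_lit 60, nat_lit 140, nat_lit 60, nat_lit 140])) (.node (nat_lit 5) (.node (nat_lit 4) (.leaf (nat_lit 6146) [nat_lit 40, nat_lit 60, nat_lit 40]) (.leaf (nat_lit 11264) [nat_lit 80, nat_lit 60, nat_lit 80, nat_lit 60, nat_lit 80, nat_lit 60, nat_lit 80])) (.node (nat_lit 7) r0 r1))))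
noncomputable def r2 : WT := (.node (nat_lit 6) (.leaf (nat_lit 17408) [nat_lit 140, nat_lit 80, nat_lit 140, nat_lit 80, nat_lit 140, nat_lit 80, nat_lit 140]) (.leaf (nat_lit 23554) [nat_lit 60, nat_lit 140, nat_lit 60, nat_lit 80, nat_lit 60, nat_lit 140, nat_lit 60]))
noncomputable def r3 : WT := (.node (nat_lit 8) (.leaf (nat_lit 21507) [nat_lit 60, nat_lit 140, nat_lit 80, nat_lit 60, nat_lit 140, nat_lit 80, nat_lit 60, nat_lit 140]) (.node (nat_lit 9) (.leaf (nat_lit 24578) [nat_lit 120, nat_lit 80, nat_lit 60, nat_lit 80, nat_lit 120, nat_lit 80, nat_lit 60]) (.node (nat_lit 10) (.leaf (nat_lit 24582) [nat_lit 60, nat_lit 80, nat_lit 120, nat_lit 80, nat_lit 60, nat_lit 80, nat_lit 120]) (.node (nat_lit 11) (.leaf (nat_lit 21506) [nat_lit 140, nat_lit 60, nat_lit 80, nat_lit 140, nat_lit 60, nat_lit 80, nat_lit 140, nat_lit 60]) (.leaf (nat_lit 22531) [nat_lit 60, nat_lit 120, nat_lit 80, nat_lit 60, nat_lit 120, nat_lit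 80, nat_lit 60, nat_lit 120])))))
noncomputable def w2 : WT := (.node (nat_lit 1) (.leaf (nat_lit 2048) [nat_lit 80]) (.node (nat_lit 3) (.node (nat_lit 2) (.leaf (nat_lit 15360) [nat_lit 100, nat_lit 80, nat_lit 100]) (.leaf (nat_lit 16384) [nat_lit 120, nat_lit 80, nat_lit 120, nat_lit 80, nat_lit 120])) (.node (nat_lit 5) (.node (nat_lit 4) (.leaf (nat_lit 7170) [nat_lit 40, nat_lit 80, nat_lit 40]) (.leaf (nat_lit 11266) [nat_lit 60, nat_lit 80, nat_lit 60, nat_lit 80, nat_lit 60, nat_lit 80, nat_lit 60])) (.node (nat_lit 7) r2 r3))))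
noncomputable def w3 : WT := (.node (nat_lit 1) (.leaf (nat_lit 3072) [nat_lit 100]) (.node (nat_lit 3) (.node (nat_lit 2) (.leaf (nat_lit 19456) [nat_lit 140, nat_lit 100, nat_lit 140]) (.leaf (nat_lit 18432) [nat_lit 120, nat_lit 100, nat_lit 120])) (.node (nat_lit 4) (.leaf (nat_lit 12290) [nat_lit 60, nat_lit 100, nat_lit 60]) (.node (nat_lit 5) (.leaf (nat_lit 15362) [nat_lit 80, nat_lit 100, nat_lit 80]) (.leaf (nat_lit 8194) [nat_lit 40, nat_lit 100, nat_lit 40, nat_lit 100, nat_lit 40])))))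
noncomputable def r4 : WT := (.node (nat_lit 7) (.leaf (nat_lit 24580) [nat_lit 80, nat_lit 60, nat_lit 80, nat_lit 120, nat_lit 80, nat_lit 60, nat_lit 80]) (.leaf (nat_lit 22529) [nat_lit 80, nat_lit 60, nat_lit 120, nat_lit 80, nat_lit 60, nat_lit 120, nat_lit 80, nat_lit 60]))
noncomputable def w4 : WT := (.node (nat_lit 1) (.leaf (nat_lit 4096) [nat_lit 120]) (.node (nat_lit 3) (.node (nat_lit 2) (.leaf (nat_lit 18434) [nat_lit 100, nat_lit 120, nat_lit 100]) (.leaf (nat_lit 20480) [nat_lit 140, nat_lit 120, nat_lit 140, nat_lit 120, nat_lit 140])) (.node (nat_lit 5) (.node (nat_lit 4) (.leaf (nat_lit 9218) [nat_lit 40, nat_lit 120, nat_lit 40]) (.leaf (nat_lit 13314) [nat_lit 60, nat_lit 120, nat_lit 60, nat_lit 120, nat_lit 60, nat_lit 120, nat_lit 60])) (.node (nat_lit 6) (.leaf (nat_lit 16386) [nat_lit 80, nat_lit 120, nat_lit 80, nat_lit 120, nat_lit 80]) r4))))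
noncomputable def r5 : WT := (.node (nat_lit 7) (.leaf (nat_lit 23558) [nat_lit 60, nat_lit 80, nat_lit 60, nat_lit 140, nat_lit 60, nat_lit 80, nat_lit 60]) (.node (nat_lit 8) (.leaf (nat_lit 21508) [nat_lit 60, nat_lit 80, nat_lit 140, nat_lit 60, nat_lit 80, nat_lit 140, nat_lit 60, nat_lit 80]) (.leaf (nat_lit 21505) [nat_lit 80, nat_lit 60, nat_lit 140, nat_lit 80, nat_lit 60, nat_lit 140, nat_lit 80, nat_lit 60])))
noncomputable def w5 : WT := (.node (nat_lit 1) (.leaf (nat_lit 5120) [nat_lit 140]) (.node (nat_lit 3) (.node (nat_lit 2) (.leaf (nat_lit 19458) [nat_lit 100, nat_lit 140, nat_lit 100]) (.leaf (nat_lit 14338) [nat_lit 60, nat_lit 140, nat_lit 60, nat_lit 140, nat_lit 60])) (.node (nat_lit 5) (.node (nat_lit 4) (.leaf (nat_lit 10242) [nat_lit 40, nat_lit 140, nat_lit 40]) (.leaf (nat_lit 20482) [nat_lit 120, nat_lit 140, nat_lit 120, nat_lit 140, nat_lit 120])) (.node (nat_lit 6) (.leaf (nat_lit 17410) [nat_lit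 80, nat_lit 140, nat_lit 80, nat_lit 140, nat_lit 80, nat_lit 140, nat_lit 80]) r5))))
noncomputable def wP : WT := (.node (nat_lit 3) (.node (nat_lit 1) (.leaf (nat_lit 22529) [nat_lit 120, nat_lit 80, nat_lit 60, nat_lit 120, nat_lit 80, nat_lit 60, nat_lit 120, nat_lit 80, nat_lit 60]) (.node (nat_lit 2) (.leaf (nat_lit 14336) [nat_lit 60, nat_lit 140, nat_lit 60, nat_lit 140, nat_lit 60, nat_lit 140]) (.leaf (nat_lit 20480) [nat_lit 120, nat_lit 140, nat_lit 120, nat_lit 140, nat_lit 120, nat_lit 140]))) (.node (nat_lit 4) (.leaf (nat_lit 24582) [nat_lit 80, nat_lit 60, nat_lit 80, nat_lit 120, nat_lit 80, nat_lit 60, nat_lit 80, nat_lit 120]) (.node (nat_lit 5) (.leaf (nat_lit 21508) [nat_lit 140, nat_lit 60, nat_lit 80, nat_lit 140, nat_lit 60, nat_lit 80, nat_lit 140, nat_lit 60, nat_lit 80]) (.leaf (nat_lit 21507) [nat_lit 80, nat_lit 60, nat_lit 140, nat_lit 80, nat_lit 60, nat_lit 140, nat_lit 80, nat_lit 60, nat_lit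 140]))))
noncomputable def P : Par := ⟨tb, nat_lit 160, nat_lit 0xffffffffffffffffffffffffffffffffffffffff, nat_lit 1062, nat_lit 1048575, nat_lit 2047, nat_lit 20, nat_lit 11, nat_lit 1008,
  [nat_lit 40, nat_lit 60, nat_lit 80, nat_lit 100, nat_lit 120, nat_lit 140], [], wP,
  (.cons (nat_lit 40) w0 (.cons (nat_lit 60) w1 (.cons (nat_lit 80) w2 (.cons (nat_lit 100) w3 (.cons (nat_lit 120) w4 (.cons (nat_lit 140) w5 .nil)))))),
  .nil⟩

end Cfsg.Agent.Lib.TCHd00c
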