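import Cfsg.Agent.Lib.TCHd10aD0

set_option autoImplicit false
set_option maxRecDepth 100000

namespace Cfsg.Agent.Lib.TCHd10a
open Cfsg.Agent.Lib.TCCore

noncomputable def n0 : T := (.node (nat_lit 76) l0 (.node (nat_lit 152) l1 l2))
noncomputable def n1 : T := (.node (nat_lit 380) (.node (nat_lit 304) l3 l4) (.node (nat_lit 456) l5 l6))
noncomputable def n2 : T := (.node (nat_lit 608) l7 (.node (nat_lit 684) l8 l9))
noncomputable def n3 : T := (.node (nat_lit 912) (.node (nat_lit 836) l10 l11) (.node (nat_lit 988) l12 l13))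
noncomputable def n4 : T := (.node (nat_lit 1140) l14 (.node (nat_lit 1216) l15 l16))
noncomputable def n5 : T := (.node (nat_lit 1444) (.node (nat_lit 1368) l17 l18) (.node (nat_lit 1520) l19 l20))
noncomputable def n6 : T := (.node (nat_lit 1748) (.node (nat_lit 1672) l21 l22) (.node (nat_lit 1824) l23 l24))
noncomputable def n7 : T := (.node (nat_lit 2052) (.node (nat_lit 1976) l25 l26) (.node (nat_lit 2128) l27 l28))
noncomputable def n8 : T := (.node (nat_lit 2280) l29 (.node (nat_lit 2356) l30 l31))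
noncomputable def n9 : T := (.node (nat_lit 2584) (.node (nat_lit 2508) l32 l33) (.node (nat_lit 2660) l34 l35))
noncomputable def n10 : T := (.node (nat_lit 2888) (.node (nat_lit 2812) l36 l37) (.node (nat_lit 2964) l38 l39))
noncomputable def n11 : T := (.node (nat_lit 3192) (.node (nat_lit 3116) l40 l41) (.node (nat_lit 3268) l42 l43))
noncomputable def n12 : T := (.node (nat_lit 3420) l44 (.node (nat_lit 3496) l45 l46))
noncomputable def n13 : T := (.node (nat_lit 3724) (.node (nat_lit 3648) l47 l48) (.node (nat_lit 3800) l49 l50))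
noncomputable def n14 : T := (.node (nat_lit 4028) (.node (nat_lit 3952) l51 l52) (.node (nat_lit 4104) l53 l54))
noncomputable def n15 : T := (.node (nat_lit 4332) (.node (nat_lit 4256) l55 l56) (.node (nat_lit 4408) l57 l58))
noncomputable def n16 : T := (.node (nat_lit 4560) l59 (.node (nat_lit 4636) l60 l61))
noncomputable def n17 : T := (.node (nat_lit 4864) (.node (nat_lit 4788) l62 l63) (.node (nat_lit 4940) l64 l65))
noncomputable def n18 : T := (.node (nat_lit 5168) (.node (nat_lit 5092) l66 l67) (.node (nat_lit 5244) l68 l69))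
noncomputable def n19 : T := (.node (nat_lit 5472) (.node (nat_lit 5396) l70 l71) (.node (nat_lit 5548) l72 l73))
noncomputable def n20 : T := (.node (nat_lit 5700) l74 (.node (nat_lit 5776) l75 l76))
noncomputable def n21 : T := (.node (nat_lit 6004) (.node (nat_lit 5928) l77 l78) (.node (nat_lit 6080) l79 l80))
noncomputable def n22 : T := (.node (nat_lit 6308) (.node (nat_lit 6232) l81 l82) (.node (nat_lit 6384) l83 l84))
noncomputable def n23 : T := (.node (nat_lit 6612) (.node (nat_lit 6536) l85 l86) (.node (nat_lit 6688) l87 l88))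
noncomputable def n24 : T := (.node (nat_lit 6840) l89 (.node (nat_lit 6916) l90 l91))
noncomputable def n25 : T := (.node (nat_lit 7144) (.node (nat_lit 7068) l92 l93) (.node (nat_lit 7220) l94 l95))
noncomputable def n26 : T := (.node (nat_lit 7448) (.node (nat_lit 7372) l96 l97) (.node (nat_lit 7524) l98 l99))
noncomputable def n27 : T := (.node (nat_lit 7752) (.node (nat_lit 7676) l100 l101) (.node (nat_lit 7828) l102 l103))
noncomputable def n28 : T := (.node (nat_lit 7980) l104 (.node (nat_lit 8056) l105 l106))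
noncomputable def n29 : T := (.node (nat_lit 8284) (.node (nat_lit 8208) l107 l108) (.node (nat_lit 8360) l109 l110))
noncomputable def n30 : T := (.node (nat_lit 8588) (.node (nat_lit 8512) l111 l112) (.node (nat_lit 8664) l113 l114))
noncomputable def n31 : T := (.node (nat_lit 8892) (.node (nat_lit 8816) l115 l116) (.node (nat_lit 8968) l117 l118))
noncomputable def tb : T := (.node (nat_lit 4484) (.node (nat_lit 2204) (.node (nat_lit 1064) (.node (nat_lit 532) (.node (nat_lit 228) n0 n1) (.node (nat_lit 760) n2 n3)) (.node (nat_lit 1596) (.node (nat_lit 1292) n4 n5) (.node (nat_lit 1900) n6 n7))) (.node (nat_lit 3344) (.node (nat_lit 2736) (.node (nat_lit 2432) n8 n9) (.node (nat_lit 3040) n10 n11)) (.node (nat_lit 3876) (.node (nat_lit 3572) n12 n13) (.node (nat_lit 4180) n14 n15)))) (.node (nat_lit 6764) (.node (nat_lit 5624) (.node (nat_lit 5016) (.node (nat_lit 4712) n16 n17) (.node (nat_lit 5320) n18 n19)) (.node (nat_lit 6156) (.node (nat_lit 5852) n20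 n21) (.node (nat_lit 6460) n22 n23))) (.node (nat_lit 7904) (.node (nat_lit 7296) (.node (nat_lit 6992) n24 n25) (.node (nat_lit 7600) n26 n27)) (.node (nat_lit 8436) (.node (nat_lit 8132) n28 n29) (.node (nat_lit 8740) n30 n31)))))
noncomputable def r0 : WT := (.node (nat_lit 7) (.leaf (nat_lit 9216) [nat_lit 100, nat_lit 50, nat_lit 100, nat_lit 50, nat_lit 100, nat_lit 50, nat_lit 100]) (.node (nat_lit 8) (.leaf (nat_lit 40965) [nat_lit 200, nat_lit 75, nat_lit 50, nat_lit 200, nat_lit 75]) (.leaf (nat_lit 12288) [nat_lit 175, nat_lit 50, nat_lit 175, nat_lit 50, nat_lit 175, nat_lit 50, nat_lit 175])))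
noncomputable def r1 : WT := (.leaf (nat_lit 36864) [nat_lit 200, nat_lit 150, nat_lit 125, nat_lit 225, nat_lit 50, nat_lit 200, nat_lit 150, nat_lit 125, nat_lit 225, nat_lit 50, nat_lit 200, nat_lit 150, nat_lit 125, nat_lit 225, nat_lit 50, nat_lit 200, nat_lit 150, nat_lit 125, nat_lit 225])
noncomputable def r2 : WT := (.leaf (nat_lit 36873) [nat_lit 225, nat_lit 125, nat_lit 150, nat_lit 200, nat_lit 50, nat_lit 225, nat_lit 125, nat_lit 150, nat_lit 200, nat_lit 50, nat_lit 225, nat_lit 125, nat_lit 150, nat_lit 200, nat_lit 50, nat_lit 225, nat_lit 125, nat_lit 150, nat_lit 200])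
noncomputable def r3 : WT := (.node (nat_lit 17) (.leaf (nat_lit 48133) [nat_lit 175, nat_lit 100, nat_lit 50, nat_lit 175, nat_lit 100, nat_lit 50, nat_lit 175, nat_lit 100]) (.node (nat_lit 18) r1 r2))
noncomputable def r4 : WT := (.node (nat_lit 11) (.node (nat_lit 10) (.leaf (nat_lit 46084) [nat_lit 150, nat_lit 50, nat_lit 100, nat_lit 50, nat_lit 150, nat_lit 50, nat_lit 100]) (.leaf (nat_lit 50176) [nat_lit 100, nat_lit 175, nat_lit 100, nat_lit 50, nat_lit 100, nat_lit 175, nat_lit 100])) (.node (nat_lit 13) (.node (nat_lit 12) (.leaf (nat_lit 46080) [nat_lit 100, nat_lit 50, nat_lit 150, nat_lit 50, nat_lit 100, nat_lit 50, nat_lit 150]) (.leaf (nat_lit 48128) [nat_lit 100, nat_lit 175, nat_lit 50, nat_lit 100, nat_lit 175, nat_lit 50, nat_lit 100, nat_lit 175])) (.node (nat_lit 15) (.node (nat_lit 14) (.leaf (nat_lit 13312) [nat_lit 200, nat_lit 50, nat_lit 200, nat_lit 50, nat_lit 200, nat_lit 50, nat_lit 200]) (.leaf (nat_lit 44037) [nat_lit 150, nat_lit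 100, nat_lit 50, nat_lit 150, nat_lit 100, nat_lit 50, nat_lit 150, nat_lit 100])) (.node (nat_lit 16) (.leaf (nat_lit 44032) [nat_lit 100, nat_lit 150, nat_lit 50, nat_lit 100, nat_lit 150, nat_lit 50, nat_lit 100, nat_lit 150]) r3))))
noncomputable def w0 : WT := (.node (nat_lit 1) (.leaf (nat_lit 0) [nat_lit 50]) (.node (nat_lit 4) (.node (nat_lit 2) (.leaf (nat_lit 8192) [nat_lit 75, nat_lit 50, nat_lit 75]) (.node (nat_lit 3) (.leaf (nat_lit 11264) [nat_lit 150, nat_lit 50, nat_lit 150, nat_lit 50, nat_lit 150]) (.leaf (nat_lit 14336) [nat_lit 225, nat_lit 50, nat_lit 225]))) (.node (nat_lit 6) (.node (nat_lit 5) (.leaf (nat_lit 10240) [nat_lit 125, nat_lit 50, nat_lit 125]) (.leaf (nat_lit 40960) [nat_lit 75, nat_lit 200, nat_lit 50, nat_lit 75, nat_lit 200])) (.node (nat_lit 9) r0 r4))))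
noncomputable def r5 : WT := (.node (nat_lit 7) (.leaf (nat_lit 16384) [nat_lit 125, nat_lit 75, nat_lit 125, nat_lit 75, nat_lit 125, nat_lit 75, nat_lit 125]) (.node (nat_lit 8) (.leaf (nat_lit 40963) [nat_lit 50, nat_lit 200, nat_lit 75, nat_lit 50, nat_lit 200]) (.leaf (nat_lit 38912) [nat_lit 125, nat_lit 75, nat_lit 225, nat_lit 75, nat_lit 125, nat_lit 75, nat_lit 225])))
noncomputable def r6 : WT := (.node (nat_lit 17) (.leaf (nat_lit 43008) [nat_lit 100, nat_lit 200, nat_lit 75, nat_lit 100, nat_lit 200, nat_lit 75, nat_lit 100, nat_lit 200, nat_lit 75, nat_lit 100, nat_lit 200]) (.leaf (nat_lit 43013) [nat_lit 200, nat_lit 100, nat_lit 75, nat_lit 200, nat_lit 100, nat_lit 75, nat_lit 200, nat_lit 100, nat_lit 75, nat_lit 200, nat_lit 100]))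
noncomputable def r7 : WT := (.leaf (nat_lit 47104) [nat_lit 100, nat_lit 125, nat_lit 175, nat_lit 200, nat_lit 75, nat_lit 100, nat_lit 125, nat_lit 175, nat_lit 200, nat_lit 75, nat_lit 100, nat_lit 125, nat_lit 175, nat_lit 200])
noncomputable def r8 : WT := (.leaf (nat_lit 47113) [nat_lit 200, nat_lit 175, nat_lit 125, nat_lit 100, nat_lit 75, nat_lit 200, nat_lit 175, nat_lit 125, nat_lit 100, nat_lit 75, nat_lit 200, nat_lit 175, nat_lit 125, nat_lit 100])
noncomputable def r9 : WT := (.node (nat_lit 20) (.node (nat_lit 19) r7 (.leaf (nat_lit 40962) [nat_lit 200, nat_lit 50, nat_lit 75, nat_lit 200, nat_lit 50])) (.node (nat_lit 21) (.leaf (nat_lit 37893) [nat_lit 200, nat_lit 125, nat_lit 75, nat_lit 200, nat_lit 125, nat_lit 75, nat_lit 200, nat_lit 125]) r8))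
noncomputable def r10 : WT := (.node (nat_lit 12) (.node (nat_lit 10) (.leaf (nat_lit 41989) [nat_lit 200, nat_lit 150, nat_lit 75, nat_lit 200, nat_lit 150]) (.node (nat_lit 11) (.leaf (nat_lit 38916) [nat_lit 225, nat_lit 75, nat_lit 125, nat_lit 75, nat_lit 225, nat_lit 75, nat_lit 125]) (.leaf (nat_lit 49152) [nat_lit 125, nat_lit 200, nat_lit 125, nat_lit 75, nat_lit 125, nat_lit 200, nat_lit 125]))) (.node (nat_lit 14) (.node (nat_lit 13) (.leaf (nat_lit 39936) [nat_lit 200, nat_lit 125, nat_lit 200, nat_lit 75, nat_lit 200, nat_lit 125, nat_lit 200]) (.leaf (nat_lit 19456) [nat_lit 200, nat_lit 75, nat_lit 200, nat_lit 75, nat_lit 200, nat_lit 75, nat_lit 200])) (.node (nat_lit 16) (.node (nat_lit 15) (.leaf (nat_lit 41984) [nat_lit 150, nat_lit 200, nat_lit 75, nat_lit 150, nat_lit 200]) (.leaf (nat_lit 37888) [nat_lit 125, nat_lit 200, nat_lit 75, nat_lit 125, nat_lit 200, nat_lit 75, nat_lit 125, nat_lit 200])) (.node (nat_lit 18) r6 r9))))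
noncomputable def w1 : WT := (.node (nat_lit 1) (.leaf (nat_lit 1024) [nat_lit 75]) (.node (nat_lit 4) (.node (nat_lit 2) (.leaf (nat_lit 15360) [nat_lit 100, nat_lit 75, nat_lit 100]) (.node (nat_lit 3) (.leaf (nat_lit 18432) [nat_lit 175, nat_lit 75, nat_lit 175]) (.leaf (nat_lit 17408) [nat_lit 150, nat_lit 75, nat_lit 150]))) (.node (nat_lit 6) (.node (nat_lit 5) (.leaf (nat_lit 8194) [nat_lit 50, nat_lit 75, nat_lit 50]) (.leaf (nat_lit 20480) [nat_lit 225, nat_lit 75, nat_lit 225, nat_lit 75, nat_lit 225])) (.node (nat_lit 9) r5 r10))))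
noncomputable def r11 : WT := (.node (nat_lit 5) (.leaf (nat_lit 9218) [nat_lit 50, nat_lit 100, nat_lit 50, nat_lit 100, nat_lit 50, nat_lit 100, nat_lit 50]) (.leaf (nat_lit 22528) [nat_lit 150, nat_lit 100, nat_lit 150, nat_lit 100, nat_lit 150, nat_lit 100, nat_lit 150]))
noncomputable def r12 : WT := (.node (nat_lit 7) (.leaf (nat_lit 45056) [nat_lit 125, nat_lit 200, nat_lit 125, nat_lit 100, nat_lit 125, nat_lit 200, nat_lit 125]) (.leaf (nat_lit 46082) [nat_lit 50, nat_lit 150, nat_lit 50, nat_lit 100, nat_lit 50, nat_lit 150, nat_lit 50]))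
noncomputable def r13 : WT := (.node (nat_lit 9) (.leaf (nat_lit 21504) [nat_lit 125, nat_lit 100, nat_lit 125, nat_lit 100, nat_lit 125, nat_lit 100, nat_lit 125]) (.node (nat_lit 10) (.leaf (nat_lit 24576) [nat_lit 200, nat_lit 100, nat_lit 200, nat_lit 100, nat_lit 200, nat_lit 100, nat_lit 200]) (.leaf (nat_lit 50178) [nat_lit 175, nat_lit 100, nat_lit 50, nat_lit 100, nat_lit 175, nat_lit 100, nat_lit 50])))
noncomputable def r14 : WT := (.leaf (nat_lit 47111) [nat_lit 75, nat_lit 200, nat_lit 175, nat_lit 125, nat_lit 100, nat_lit 75, nat_lit 200, nat_lit 175, nat_lit 125, nat_lit 100, nat_lit 75, nat_lit 200, nat_lit 175, nat_lit 125])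
noncomputable def r15 : WT := (.leaf (nat_lit 47106) [nat_lit 125, nat_lit 175, nat_lit 200, nat_lit 75, nat_lit 100, nat_lit 125, nat_lit 175, nat_lit 200, nat_lit 75, nat_lit 100, nat_lit 125, nat_lit 175, nat_lit 200, nat_lit 75])
noncomputable def r16 : WT := (.node (nat_lit 20) r15 (.leaf (nat_lit 48130) [nat_lit 175, nat_lit 50, nat_lit 100, nat_lit 175, nat_lit 50, nat_lit 100, nat_lit 175, nat_lit 50]))
noncomputable def r17 : WT := (.node (nat_lit 14) (.node (nat_lit 12) (.leaf (nat_lit 44035) [nat_lit 50, nat_lit 150, nat_lit 100, nat_lit 50, nat_lit 150, nat_lit 100, nat_lit 50, nat_lit 150]) (.node (nat_lit 13) (.leaf (nat_lit 51200) [nat_lit 175, nat_lit 125, nat_lit 175, nat_lit 100, nat_lit 175, nat_lit 125, nat_lit 175]) (.leaf (nat_lit 44034) [nat_lit 150, nat_lit 50, nat_lit 100, nat_lit 150, nat_lit 50, nat_lit 100, nat_lit 150, nat_lit 50]))) (.node (nat_lit 16) (.node (nat_lit 15) (.leaf (nat_lit 50182) [nat_lit 50, nat_lit 100, nat_lit 175,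 nat_lit 100, nat_lit 50, nat_lit 100, nat_lit 175]) (.leaf (nat_lit 43011) [nat_lit 75, nat_lit 200, nat_lit 100, nat_lit 75, nat_lit 200, nat_lit 100, nat_lit 75, nat_lit 200, nat_lit 100, nat_lit 75, nat_lit 200])) (.node (nat_lit 18) (.node (nat_lit 17) (.leaf (nat_lit 43010) [nat_lit 200, nat_lit 75, nat_lit 100, nat_lit 200, nat_lit 75, nat_lit 100, nat_lit 200, nat_lit 75, nat_lit 100, nat_lit 200, nat_lit 75]) r14) (.node (nat_lit 19) (.leaf (nat_lit 48131) [nat_lit 50, nat_lit 175, nat_lit 100, nat_lit 50, nat_lit 175, nat_lit 100, nat_lit 50, nat_lit 175]) r16))))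
noncomputable def w2 : WT := (.node (nat_lit 1) (.leaf (nat_lit 2048) [nat_lit 100]) (.node (nat_lit 4) (.node (nat_lit 2) (.leaf (nat_lit 15362) [nat_lit 75, nat_lit 100, nat_lit 75]) (.node (nat_lit 3) (.leaf (nat_lit 25600) [nat_lit 225, nat_lit 100, nat_lit 225]) (.leaf (nat_lit 23552) [nat_lit 175, nat_lit 100, nat_lit 175, nat_lit 100, nat_lit 175]))) (.node (nat_lit 8) (.node (nat_lit 6) r11 r12) (.node (nat_lit 11) r13 r17))))
noncomputable def r18 : WT := (.node (nat_lit 6) (.leaf (nat_lit 38914) [nat_lit 75, nat_lit 225, nat_lit 75, nat_lit 125, nat_lit 75, nat_lit 225, nat_lit 75]) (.leaf (nat_lit 49154) [nat_lit 200, nat_lit 125, nat_lit 75, nat_lit 125, nat_lit 200, nat_lit 125, nat_lit 75]))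
noncomputable def r19 : WT := (.node (nat_lit 8) (.leaf (nat_lit 51204) [nat_lit 175, nat_lit 100, nat_lit 175, nat_lit 125, nat_lit 175, nat_lit 100, nat_lit 175]) (.node (nat_lit 9) (.leaf (nat_lit 21506) [nat_lit 100, nat_lit 125, nat_lit 100, nat_lit 125, nat_lit 100, nat_lit 125, nat_lit 100]) (.leaf (nat_lit 45058) [nat_lit 200, nat_lit 125, nat_lit 100, nat_lit 125, nat_lit 200, nat_lit 125, nat_lit 100])))
noncomputable def r20 : WT := (.leaf (nat_lit 47108) [nat_lit 175, nat_lit 200, nat_lit 75, nat_lit 100, nat_lit 125, nat_lit 175, nat_lit 200, nat_lit 75, nat_lit 100, nat_lit 125, nat_lit 175, nat_lit 200, nat_lit 75, nat_lit 100])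
noncomputable def r21 : WT := (.leaf (nat_lit 47109) [nat_lit 100, nat_lit 75, nat_lit 200, nat_lit 175, nat_lit 125, nat_lit 100, nat_lit 75, nat_lit 200, nat_lit 175, nat_lit 125, nat_lit 100, nat_lit 75, nat_lit 200, nat_lit 175])
noncomputable def r22 : WT := (.leaf (nat_lit 36870) [nat_lit 225, nat_lit 50, nat_lit 200, nat_lit 150, nat_lit 125, nat_lit 225, nat_lit 50, nat_lit 200, nat_lit 150, nat_lit 125, nat_lit 225, nat_lit 50, nat_lit 200, nat_lit 150, nat_lit 125, nat_lit 225, nat_lit 50, nat_lit 200, nat_lit 150])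
noncomputable def r23 : WT := (.leaf (nat_lit 36867) [nat_lit 150, nat_lit 200, nat_lit 50, nat_lit 225, nat_lit 125, nat_lit 150, nat_lit 200, nat_lit 50, nat_lit 225, nat_lit 125, nat_lit 150, nat_lit 200, nat_lit 50, nat_lit 225, nat_lit 125, nat_lit 150, nat_lit 200, nat_lit 50, nat_lit 225])
noncomputable def r24 : WT := (.node (nat_lit 20) r22 r23)
noncomputable def r25 : WT := (.node (nat_lit 13) (.node (nat_lit 11) (.leaf (nat_lit 27648) [nat_lit 175, nat_lit 125, nat_lit 175, nat_lit 125, nat_lit 175, nat_lit 125, nat_lit 175]) (.node (nat_lit 12) (.leaf (nat_lit 29696) [nat_lit 225, nat_lit 125, nat_lit 225, nat_lit 125, nat_lit 225, nat_lit 125, nat_lit 225]) (.leaf (nat_lit 39940) [nat_lit 200, nat_lit 75, nat_lit 200, nat_lit 125, nat_lit 200, nat_lit 75, nat_lit 200]))) (.node (nat_lit 16) (.node (nat_lit 14) (.leaf (nat_lit 45062) [nat_lit 100, nat_lit 125, nat_lit 200, nat_lit 125, nat_lit 100, nat_lit 125, nat_lit 200]) (.node (nat_lit 15) r20 (.leaf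 (nat_lit 49158) [nat_lit 75, nat_lit 125, nat_lit 200, nat_lit 125, nat_lit 75, nat_lit 125, nat_lit 200]))) (.node (nat_lit 18) (.node (nat_lit 17) (.leaf (nat_lit 37890) [nat_lit 200, nat_lit 75, nat_lit 125, nat_lit 200, nat_lit 75, nat_lit 125, nat_lit 200, nat_lit 75]) (.leaf (nat_lit 37891) [nat_lit 75, nat_lit 200, nat_lit 125, nat_lit 75, nat_lit 200, nat_lit 125, nat_lit 75, nat_lit 200])) (.node (nat_lit 19) r21 r24))))
noncomputable def w3 : WT := (.node (nat_lit 1) (.leaf (nat_lit 3072) [nat_lit 125]) (.node (nat_lit 4) (.node (nat_lit 2) (.leaf (nat_lit 26624) [nat_lit 150, nat_lit 125, nat_lit 150]) (.node (nat_lit 3) (.leaf (nat_lit 10242) [nat_lit 50, nat_lit 125, nat_lit 50]) (.leaf (nat_lit 28672) [nat_lit 200, nat_lit 125, nat_lit 200, nat_lit 125, nat_lit 200]))) (.node (nat_lit 7) (.node (nat_lit 5) (.leaf (nat_lit 16386) [nat_lit 75, nat_lit 125, nat_lit 75, nat_lit 125, nat_lit 75, nat_lit 125, nat_lit 75]) r18) (.node (nat_lit 10) r19 r25))))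
noncomputable def r26 : WT := (.node (nat_lit 6) (.leaf (nat_lit 30720) [nat_lit 175, nat_lit 150, nat_lit 175, nat_lit 150, nat_lit 175]) (.leaf (nat_lit 11266) [nat_lit 50, nat_lit 150, nat_lit 50, nat_lit 150, nat_lit 50]))
noncomputable def r27 : WT := (.leaf (nat_lit 36869) [nat_lit 200, nat_lit 50, nat_lit 225, nat_lit 125, nat_lit 150, nat_lit 200, nat_lit 50, nat_lit 225, nat_lit 125, nat_lit 150, nat_lit 200, nat_lit 50, nat_lit 225, nat_lit 125, nat_lit 150, nat_lit 200, nat_lit 50, nat_lit 225, nat_lit 125])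
noncomputable def r28 : WT := (.leaf (nat_lit 36868) [nat_lit 125, nat_lit 225, nat_lit 50, nat_lit 200, nat_lit 150, nat_lit 125, nat_lit 225, nat_lit 50, nat_lit 200, nat_lit 150, nat_lit 125, nat_lit 225, nat_lit 50, nat_lit 200, nat_lit 150, nat_lit 125, nat_lit 225, nat_lit 50, nat_lit 200])
noncomputable def r29 : WT := (.node (nat_lit 13) (.leaf (nat_lit 31744) [nat_lit 200, nat_lit 150, nat_lit 200, nat_lit 150, nat_lit 200, nat_lit 150, nat_lit 200]) (.node (nat_lit 14) r27 r28))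
noncomputable def r30 : WT := (.node (nat_lit 9) (.node (nat_lit 8) (.leaf (nat_lit 22530) [nat_lit 100, nat_lit 150, nat_lit 100, nat_lit 150, nat_lit 100, nat_lit 150, nat_lit 100]) (.leaf (nat_lit 41986) [nat_lit 200, nat_lit 75, nat_lit 150, nat_lit 200, nat_lit 75])) (.node (nat_lit 10) (.leaf (nat_lit 46086) [nat_lit 50, nat_lit 100, nat_lit 50, nat_lit 150, nat_lit 50, nat_lit 100, nat_lit 50]) (.node (nat_lit 11) (.leaf (nat_lit 44036) [nat_lit 50, nat_lit 100, nat_lit 150, nat_lit 50, nat_lit 100, nat_lit 150, nat_lit 50, nat_lit 100]) (.node (nat_lit 12) (.leaf (nat_lit 44033) [nat_lit 100, nat_lit 50, nat_lit 150, nat_lit 100, nat_lit 50, nat_lit 150, nat_lit 100, nat_lit 50]) r29))))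
noncomputable def w4 : WT := (.node (nat_lit 1) (.leaf (nat_lit 4096) [nat_lit 150]) (.node (nat_lit 3) (.node (nat_lit 2) (.leaf (nat_lit 17410) [nat_lit 75, nat_lit 150, nat_lit 75]) (.leaf (nat_lit 32768) [nat_lit 225, nat_lit 150, nat_lit 225])) (.node (nat_lit 5) (.node (nat_lit 4) (.leaf (nat_lit 26626) [nat_lit 125, nat_lit 150, nat_lit 125]) (.leaf (nat_lit 41987) [nat_lit 75, nat_lit 200, nat_lit 150, nat_lit 75, nat_lit 200])) (.node (nat_lit 7) r26 r30))))
noncomputable def r31 : WT := (.node (nat_lit 6) (.leaf (nat_lit 30722) [nat_lit 150, nat_lit 175, nat_lit 150, nat_lit 175, nat_lit 150]) (.leaf (nat_lit 48129) [nat_lit 100, nat_lit 50, nat_lit 175, nat_lit 100, nat_lit 50, nat_lit 175, nat_lit 100, nat_lit 50]))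
noncomputable def r32 : WT := (.node (nat_lit 8) (.leaf (nat_lit 50180) [nat_lit 100, nat_lit 50, nat_lit 100, nat_lit 175, nat_lit 100, nat_lit 50, nat_lit 100]) (.node (nat_lit 9) (.leaf (nat_lit 51202) [nat_lit 125, nat_lit 175, nat_lit 100, nat_lit 175, nat_lit 125, nat_lit 175, nat_lit 100]) (.leaf (nat_lit 27650) [nat_lit 125, nat_lit 175, nat_lit 125, nat_lit 175, nat_lit 125, nat_lit 175, nat_lit 125])))
noncomputable def r33 : WT := (.leaf (nat_lit 47110) [nat_lit 200, nat_lit 75, nat_lit 100, nat_lit 125, nat_lit 175, nat_lit 200, nat_lit 75, nat_lit 100, nat_lit 125, nat_lit 175, nat_lit 200, nat_lit 75, nat_lit 100, nat_lit 125])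
noncomputable def r34 : WT := (.leaf (nat_lit 47107) [nat_lit 125, nat_lit 100, nat_lit 75, nat_lit 200, nat_lit 175, nat_lit 125, nat_lit 100, nat_lit 75, nat_lit 200, nat_lit 175, nat_lit 125, nat_lit 100, nat_lit 75, nat_lit 200])
noncomputable def r35 : WT := (.node (nat_lit 12) (.node (nat_lit 11) (.leaf (nat_lit 48132) [nat_lit 50, nat_lit 100, nat_lit 175, nat_lit 50, nat_lit 100, nat_lit 175, nat_lit 50, nat_lit 100]) r33) (.node (nat_lit 13) (.leaf (nat_lit 51206) [nat_lit 100, nat_lit 175, nat_lit 125, nat_lit 175, nat_lit 100, nat_lit 175, nat_lit 125]) (.node (nat_lit 14) r34 (.leaf (nat_lit 33792) [nat_lit 200, nat_lit 175, nat_lit 200, nat_lit 175, nat_lit 200, nat_lit 175, nat_lit 200, nat_lit 175, nat_lit 200, nat_lit 175, nat_lit 200]))))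
noncomputable def w5 : WT := (.node (nat_lit 1) (.leaf (nat_lit 5120) [nat_lit 175]) (.node (nat_lit 4) (.node (nat_lit 2) (.leaf (nat_lit 34816) [nat_lit 225, nat_lit 175, nat_lit 225]) (.node (nat_lit 3) (.leaf (nat_lit 18434) [nat_lit 75, nat_lit 175, nat_lit 75]) (.leaf (nat_lit 23554) [nat_lit 100, nat_lit 175, nat_lit 100, nat_lit 175, nat_lit 100]))) (.node (nat_lit 7) (.node (nat_lit 5) (.leaf (nat_lit 12290) [nat_lit 50, nat_lit 175, nat_lit 50, nat_lit 175, nat_lit 50, nat_lit 175, nat_lit 50]) r31) (.node (nat_lit 10) r32 r35))))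
noncomputable def r36 : WT := (.node (nat_lit 5) (.leaf (nat_lit 40961) [nat_lit 75, nat_lit 50, nat_lit 200, nat_lit 75, nat_lit 50]) (.leaf (nat_lit 41985) [nat_lit 150, nat_lit 75, nat_lit 200, nat_lit 150, nat_lit 75]))
noncomputable def r37 : WT := (.node (nat_lit 7) (.leaf (nat_lit 45060) [nat_lit 125, nat_lit 100, nat_lit 125, nat_lit 200, nat_lit 125, nat_lit 100, nat_lit 125]) (.leaf (nat_lit 24578) [nat_lit 100, nat_lit 200, nat_lit 100, nat_lit 200, nat_lit 100, nat_lit 200, nat_lit 100]))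
noncomputable def r38 : WT := (.node (nat_lit 10) (.node (nat_lit 9) (.leaf (nat_lit 19458) [nat_lit 75, nat_lit 200, nat_lit 75, nat_lit 200, nat_lit 75, nat_lit 200, nat_lit 75]) (.leaf (nat_lit 13314) [nat_lit 50, nat_lit 200, nat_lit 50, nat_lit 200, nat_lit 50, nat_lit 200, nat_lit 50])) (.node (nat_lit 11) (.leaf (nat_lit 39938) [nat_lit 125, nat_lit 200, nat_lit 75, nat_lit 200, nat_lit 125, nat_lit 200, nat_lit 75]) (.node (nat_lit 12) (.leaf (nat_lit 39942) [nat_lit 75, nat_lit 200, nat_lit 125, nat_lit 200, nat_lit 75, nat_lit 200, nat_lit 125]) (.leaf (nat_lit 35840) [nat_lit 225, nat_lit 200, nat_lit 225, nat_lit 200, nat_lit 225, nat_lit 200, nat_lit 225, nat_lit 200, nat_lit 225]))))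
noncomputable def r39 : WT := (.leaf (nat_lit 36871) [nat_lit 50, nat_lit 225, nat_lit 125, nat_lit 150, nat_lit 200, nat_lit 50, nat_lit 225, nat_lit 125, nat_lit 150, nat_lit 200, nat_lit 50, nat_lit 225, nat_lit 125, nat_lit 150, nat_lit 200, nat_lit 50, nat_lit 225, nat_lit 125, nat_lit 150])
noncomputable def r40 : WT := (.leaf (nat_lit 47112) [nat_lit 75, nat_lit 100, nat_lit 125, nat_lit 175, nat_lit 200, nat_lit 75, nat_lit 100, nat_lit 125, nat_lit 175, nat_lit 200, nat_lit 75, nat_lit 100, nat_lit 125, nat_lit 175])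
noncomputable def r41 : WT := (.leaf (nat_lit 47105) [nat_lit 175, nat_lit 125, nat_lit 100, nat_lit 75, nat_lit 200, nat_lit 175, nat_lit 125, nat_lit 100, nat_lit 75, nat_lit 200, nat_lit 175, nat_lit 125, nat_lit 100, nat_lit 75])
noncomputable def r42 : WT := (.leaf (nat_lit 36866) [nat_lit 150, nat_lit 125, nat_lit 225, nat_lit 50, nat_lit 200, nat_lit 150, nat_lit 125, nat_lit 225, nat_lit 50, nat_lit 200, nat_lit 150, nat_lit 125, nat_lit 225, nat_lit 50, nat_lit 200, nat_lit 150, nat_lit 125, nat_lit 225, nat_lit 50])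
noncomputable def r43 : WT := (.node (nat_lit 23) r42 (.leaf (nat_lit 43009) [nat_lit 100, nat_lit 75, nat_lit 200, nat_lit 100, nat_lit 75, nat_lit 200, nat_lit 100, nat_lit 75, nat_lit 200, nat_lit 100, nat_lit 75]))
noncomputable def r44 : WT := (.node (nat_lit 17) (.node (nat_lit 15) (.node (nat_lit 14) (.leaf (nat_lit 31746) [nat_lit 150, nat_lit 200, nat_lit 150, nat_lit 200, nat_lit 150, nat_lit 200, nat_lit 150]) (.leaf (nat_lit 43012) [nat_lit 75, nat_lit 100, nat_lit 200, nat_lit 75, nat_lit 100, nat_lit 200, nat_lit 75, nat_lit 100, nat_lit 200, nat_lit 75, nat_lit 100])) (.node (nat_lit 16) (.leaf (nat_lit 33794) [nat_lit 175, nat_lit 200, nat_lit 175, nat_lit 200, nat_lit 175, nat_lit 200, nat_lit 175, nat_lit 200, nat_lit 175, nat_lit 200, nat_lit 175]) r39)) (.node (nat_lit 20) (.node (nat_lit 18) r40 (.node (nat_lit 19) (.leaf (nat_lit 37889) [nat_lit 125, nat_lit 75, nat_lit 200, nat_lit 125, nat_lit 75, nat_lit 200, nat_lit 125, nat_lit 75]) (.leaf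 (nat_lit 49156) [nat_lit 125, nat_lit 75, nat_lit 125, nat_lit 200, nat_lit 125, nat_lit 75, nat_lit 125]))) (.node (nat_lit 21) (.leaf (nat_lit 37892) [nat_lit 75, nat_lit 125, nat_lit 200, nat_lit 75, nat_lit 125, nat_lit 200, nat_lit 75, nat_lit 125]) (.node (nat_lit 22) r41 r43))))
noncomputable def w6 : WT := (.node (nat_lit 1) (.leaf (nat_lit 6144) [nat_lit 200]) (.node (nat_lit 4) (.node (nat_lit 2) (.leaf (nat_lit 40964) [nat_lit 50, nat_lit 75, nat_lit 200, nat_lit 50, nat_lit 75]) (.node (nat_lit 3) (.leaf (nat_lit 41988) [nat_lit 75, nat_lit 150, nat_lit 200, nat_lit 75, nat_lit 150]) (.leaf (nat_lit 28674) [nat_lit 125, nat_lit 200, nat_lit 125, nat_lit 200, nat_lit 125]))) (.node (nat_lit 8) (.node (nat_lit 6) r36 r37) (.node (nat_lit 13) r38 r44))))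
noncomputable def r45 : WT := (.leaf (nat_lit 36872) [nat_lit 50, nat_lit 200, nat_lit 150, nat_lit 125, nat_lit 225, nat_lit 50, nat_lit 200, nat_lit 150, nat_lit 125, nat_lit 225, nat_lit 50, nat_lit 200, nat_lit 150, nat_lit 125, nat_lit 225, nat_lit 50, nat_lit 200, nat_lit 150, nat_lit 125])
noncomputable def r46 : WT := (.leaf (nat_lit 36865) [nat_lit 125, nat_lit 150, nat_lit 200, nat_lit 50, nat_lit 225, nat_lit 125, nat_lit 150, nat_lit 200, nat_lit 50, nat_lit 225, nat_lit 125, nat_lit 150, nat_lit 200, nat_lit 50, nat_lit 225, nat_lit 125, nat_lit 150, nat_lit 200, nat_lit 50])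
noncomputable def r47 : WT := (.node (nat_lit 10) r45 r46)
noncomputable def r48 : WT := (.node (nat_lit 6) (.leaf (nat_lit 20482) [nat_lit 75, nat_lit 225, nat_lit 75, nat_lit 225, nat_lit 75]) (.node (nat_lit 7) (.leaf (nat_lit 38918) [nat_lit 75, nat_lit 125, nat_lit 75, nat_lit 225, nat_lit 75, nat_lit 125, nat_lit 75]) (.node (nat_lit 8) (.leaf (nat_lit 29698) [nat_lit 125, nat_lit 225, nat_lit 125, nat_lit 225, nat_lit 125, nat_lit 225, nat_lit 125]) (.node (nat_lit 9) (.leaf (nat_lit 35842) [nat_lit 200, nat_lit 225, nat_lit 200, nat_lit 225, nat_lit 200, nat_lit 225, nat_lit 200, nat_lit 225, nat_lit 200]) r47))))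
noncomputable def w7 : WT := (.node (nat_lit 1) (.leaf (nat_lit 7168) [nat_lit 225]) (.node (nat_lit 3) (.node (nat_lit 2) (.leaf (nat_lit 34818) [nat_lit 175, nat_lit 225, nat_lit 175]) (.leaf (nat_lit 32770) [nat_lit 150, nat_lit 225, nat_lit 150])) (.node (nat_lit 4) (.leaf (nat_lit 25602) [nat_lit 100, nat_lit 225, nat_lit 100]) (.node (nat_lit 5) (.leaf (nat_lit 14338) [nat_lit 50, nat_lit 225, nat_lit 50]) r48))))
noncomputable def r49 : WT := (.node (nat_lit 2) (.leaf (nat_lit 39938) [nat_lit 200, nat_lit 125, nat_lit 200, nat_lit 75, nat_lit 200, nat_lit 125, nat_lit 200, nat_lit 75]) (.leaf (nat_lit 48129) [nat_lit 175, nat_lit 100, nat_lit 50, nat_lit 175, nat_lit 100, nat_lit 50, nat_lit 175, nat_lit 100, nat_lit 50]))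
noncomputable def r50 : WT := (.node (nat_lit 5) (.leaf (nat_lit 13312) [nat_lit 50, nat_lit 200, nat_lit 50, nat_lit 200, nat_lit 50, nat_lit 200, nat_lit 50, nat_lit 200]) (.leaf (nat_lit 31744) [nat_lit 150, nat_lit 200, nat_lit 150, nat_lit 200, nat_lit 150, nat_lit 200, nat_lit 150, nat_lit 200]))
noncomputable def r51 : WT := (.node (nat_lit 7) (.leaf (nat_lit 46082) [nat_lit 100, nat_lit 50, nat_lit 150, nat_lit 50, nat_lit 100, nat_lit 50, nat_lit 150, nat_lit 50]) (.leaf (nat_lit 19456) [nat_lit 75, nat_lit 200, nat_lit 75, nat_lit 200, nat_lit 75, nat_lit 200, nat_lit 75, nat_lit 200]))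
noncomputable def r52 : WT := (.node (nat_lit 9) (.leaf (nat_lit 37890) [nat_lit 125, nat_lit 200, nat_lit 75, nat_lit 125, nat_lit 200, nat_lit 75, nat_lit 125, nat_lit 200, nat_lit 75]) (.leaf (nat_lit 16386) [nat_lit 125, nat_lit 75, nat_lit 125, nat_lit 75, nat_lit 125, nat_lit 75, nat_lit 125, nat_lit 75]))
noncomputable def r53 : WT := (.node (nat_lit 11) (.leaf (nat_lit 48130) [nat_lit 100, nat_lit 175, nat_lit 50, nat_lit 100, nat_lit 175, nat_lit 50, nat_lit 100, nat_lit 175, nat_lit 50]) (.node (nat_lit 12) (.leaf (nat_lit 45060) [nat_lit 200, nat_lit 125, nat_lit 100, nat_lit 125, nat_lit 200, nat_lit 125, nat_lit 100, nat_lit 125]) (.leaf (nat_lit 37893) [nat_lit 75, nat_lit 200, nat_lit 125, nat_lit 75, nat_lit 200, nat_lit 125, nat_lit 75, nat_lit 200, nat_lit 125])))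
noncomputable def r54 : WT := (.node (nat_lit 14) (.leaf (nat_lit 37888) [nat_lit 75, nat_lit 125, nat_lit 200, nat_lit 75, nat_lit 125, nat_lit 200, nat_lit 75, nat_lit 125, nat_lit 200]) (.node (nat_lit 15) (.leaf (nat_lit 50178) [nat_lit 100, nat_lit 175, nat_lit 100, nat_lit 50, nat_lit 100, nat_lit 175, nat_lit 100, nat_lit 50]) (.leaf (nat_lit 15360) [nat_lit 75, nat_lit 100, nat_lit 75, nat_lit 100])))
noncomputable def r55 : WT := (.node (nat_lit 18) (.node (nat_lit 17) (.leaf (nat_lit 44035) [nat_lit 100, nat_lit 50, nat_lit 150, nat_lit 100, nat_lit 50, nat_lit 150, nat_lit 100, nat_lit 50, nat_lit 150]) (.leaf (nat_lit 35840) [nat_lit 200, nat_lit 225, nat_lit 200, nat_lit 225, nat_lit 200, nat_lit 225, nat_lit 200, nat_lit 225, nat_lit 200, nat_lit 225])) (.node (nat_lit 19) (.leaf (nat_lit 45056) [nat_lit 100, nat_lit 125, nat_lit 200, nat_lit 125, nat_lit 100, nat_lit 125, nat_lit 200, nat_lit 125]) (.leaf (nat_lit 43012) [nat_lit 200, nat_lit 75,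 nat_lit 100, nat_lit 200, nat_lit 75, nat_lit 100, nat_lit 200, nat_lit 75, nat_lit 100, nat_lit 200, nat_lit 75, nat_lit 100])))
noncomputable def r56 : WT := (.leaf (nat_lit 47112) [nat_lit 200, nat_lit 75, nat_lit 100, nat_lit 125, nat_lit 175, nat_lit 200, nat_lit 75, nat_lit 100, nat_lit 125, nat_lit 175, nat_lit 200, nat_lit 75, nat_lit 100, nat_lit 125, nat_lit 175])
noncomputable def r57 : WT := (.leaf (nat_lit 47111) [nat_lit 100, nat_lit 75, nat_lit 200, nat_lit 175, nat_lit 125, nat_lit 100, nat_lit 75, nat_lit 200, nat_lit 175, nat_lit 125, nat_lit 100, nat_lit 75, nat_lit 200, nat_lit 175, nat_lit 125])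
noncomputable def r58 : WT := (.node (nat_lit 22) (.node (nat_lit 21) r56 (.leaf (nat_lit 38916) [nat_lit 75, nat_lit 225, nat_lit 75, nat_lit 125, nat_lit 75, nat_lit 225, nat_lit 75, nat_lit 125])) (.node (nat_lit 23) (.leaf (nat_lit 38914) [nat_lit 125, nat_lit 75, nat_lit 225, nat_lit 75, nat_lit 125, nat_lit 75, nat_lit 225, nat_lit 75]) r57))
noncomputable def r59 : WT := (.node (nat_lit 26) (.node (nat_lit 25) (.leaf (nat_lit 40963) [nat_lit 75, nat_lit 50, nat_lit 200, nat_lit 75, nat_lit 50, nat_lit 200]) (.leaf (nat_lit 30720) [nat_lit 150, nat_lit 175, nat_lit 150, nat_lit 175, nat_lit 150, nat_lit 175])) (.node (nat_lit 27) (.leaf (nat_lit 9218) [nat_lit 100, nat_lit 50, nat_lit 100, nat_lit 50, nat_lit 100, nat_lit 50, nat_lit 100, nat_lit 50]) (.leaf (nat_lit 12288) [nat_lit 50, nat_lit 175, nat_lit 50, nat_lit 175, nat_lit 50, nat_lit 175, nat_lit 50, nat_lit 175])))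
noncomputable def r60 : WT := (.leaf (nat_lit 47105) [nat_lit 200, nat_lit 175, nat_lit 125, nat_lit 100, nat_lit 75, nat_lit 200, nat_lit 175, nat_lit 125, nat_lit 100, nat_lit 75, nat_lit 200, nat_lit 175, nat_lit 125, nat_lit 100, nat_lit 75])
noncomputable def r61 : WT := (.node (nat_lit 30) (.node (nat_lit 29) (.leaf (nat_lit 12290) [nat_lit 175, nat_lit 50, nat_lit 175, nat_lit 50, nat_lit 175, nat_lit 50, nat_lit 175, nat_lit 50]) (.leaf (nat_lit 21504) [nat_lit 100, nat_lit 125, nat_lit 100, nat_lit 125, nat_lit 100, nat_lit 125, nat_lit 100, nat_lit 125])) (.node (nat_lit 31) r60 (.node (nat_lit 32) (.leaf (nat_lit 41984) [nat_lit 75, nat_lit 150, nat_lit 200, nat_lit 75, nat_lit 150, nat_lit 200]) (.leaf (nat_lit 43008) [nat_lit 75, nat_lit 100, nat_lit 200, nat_lit 75, nat_lit 100, nat_lit 200, nat_lit 75, nat_lit 100, nat_lit 200, nat_lit 75, nat_lit 100, nat_lit 200]))))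
noncomputable def r62 : WT := (.leaf (nat_lit 47107) [nat_lit 175, nat_lit 125, nat_lit 100, nat_lit 75, nat_lit 200, nat_lit 175, nat_lit 125, nat_lit 100, nat_lit 75, nat_lit 200, nat_lit 175, nat_lit 125, nat_lit 100, nat_lit 75, nat_lit 200])
noncomputable def r63 : WT := (.leaf (nat_lit 47109) [nat_lit 125, nat_lit 100, nat_lit 75, nat_lit 200, nat_lit 175, nat_lit 125, nat_lit 100, nat_lit 75, nat_lit 200, nat_lit 175, nat_lit 125, nat_lit 100, nat_lit 75, nat_lit 200, nat_lit 175])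
noncomputable def r64 : WT := (.node (nat_lit 36) (.node (nat_lit 34) (.leaf (nat_lit 11264) [nat_lit 50, nat_lit 150, nat_lit 50, nat_lit 150, nat_lit 50, nat_lit 150]) (.node (nat_lit 35) (.leaf (nat_lit 43011) [nat_lit 100, nat_lit 75, nat_lit 200, nat_lit 100, nat_lit 75, nat_lit 200, nat_lit 100, nat_lit 75, nat_lit 200, nat_lit 100, nat_lit 75, nat_lit 200]) (.leaf (nat_lit 34818) [nat_lit 225, nat_lit 175, nat_lit 225, nat_lit 175]))) (.node (nat_lit 38) (.node (nat_lit 37) (.leaf (nat_lit 41986) [nat_lit 150, nat_lit 200, nat_lit 75, nat_lit 150, nat_lit 200, nat_lit 75]) r62) (.node (nat_lit 39) r63 (.leaf (nat_lit 10240) [nat_lit 50, nat_lit 125, nat_lit 50, nat_lit 125]))))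
noncomputable def r65 : WT := (.leaf (nat_lit 47113) [nat_lit 75, nat_lit 200, nat_lit 175, nat_lit 125, nat_lit 100, nat_lit 75, nat_lit 200, nat_lit 175, nat_lit 125, nat_lit 100, nat_lit 75, nat_lit 200, nat_lit 175, nat_lit 125, nat_lit 100])
noncomputable def r66 : WT := (.leaf (nat_lit 36864) [nat_lit 50, nat_lit 200, nat_lit 150, nat_lit 125, nat_lit 225, nat_lit 50, nat_lit 200, nat_lit 150, nat_lit 125, nat_lit 225, nat_lit 50, nat_lit 200, nat_lit 150, nat_lit 125, nat_lit 225, nat_lit 50, nat_lit 200, nat_lit 150, nat_lit 125, nat_lit 225])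
noncomputable def r67 : WT := (.leaf (nat_lit 36872) [nat_lit 225, nat_lit 50, nat_lit 200, nat_lit 150, nat_lit 125, nat_lit 225, nat_lit 50, nat_lit 200, nat_lit 150, nat_lit 125, nat_lit 225, nat_lit 50, nat_lit 200, nat_lit 150, nat_lit 125, nat_lit 225, nat_lit 50, nat_lit 200, nat_lit 150, nat_lit 125])
noncomputable def r68 : WT := (.leaf (nat_lit 36865) [nat_lit 225, nat_lit 125, nat_lit 150, nat_lit 200, nat_lit 50, nat_lit 225, nat_lit 125, nat_lit 150, nat_lit 200, nat_lit 50, nat_lit 225, nat_lit 125, nat_lit 150, nat_lit 200, nat_lit 50, nat_lit 225, nat_lit 125, nat_lit 150, nat_lit 200, nat_lit 50])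
noncomputable def r69 : WT := (.leaf (nat_lit 36867) [nat_lit 125, nat_lit 150, nat_lit 200, nat_lit 50, nat_lit 225, nat_lit 125, nat_lit 150, nat_lit 200, nat_lit 50, nat_lit 225, nat_lit 125, nat_lit 150, nat_lit 200, nat_lit 50, nat_lit 225, nat_lit 125, nat_lit 150, nat_lit 200, nat_lit 50, nat_lit 225])
noncomputable def r70 : WT := (.leaf (nat_lit 36873) [nat_lit 50, nat_lit 225, nat_lit 125, nat_lit 150, nat_lit 200, nat_lit 50, nat_lit 225, nat_lit 125, nat_lit 150, nat_lit 200, nat_lit 50, nat_lit 225, nat_lit 125, nat_lit 150, nat_lit 200, nat_lit 50, nat_lit 225, nat_lit 125, nat_lit 150, nat_lit 200])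
noncomputable def r71 : WT := (.node (nat_lit 44) (.node (nat_lit 42) (.node (nat_lit 41) r65 r66) (.node (nat_lit 43) r67 r68)) (.node (nat_lit 46) (.node (nat_lit 45) r69 r70) (.node (nat_lit 47) (.leaf (nat_lit 46080) [nat_lit 50, nat_lit 100, nat_lit 50, nat_lit 150, nat_lit 50, nat_lit 100, nat_lit 50, nat_lit 150]) (.leaf (nat_lit 27650) [nat_lit 175, nat_lit 125, nat_lit 175, nat_lit 125, nat_lit 175, nat_lit 125, nat_lit 175, nat_lit 125]))))
noncomputable def r72 : WT := (.node (nat_lit 51) (.node (nat_lit 49) (.leaf (nat_lit 24578) [nat_lit 200, nat_lit 100, nat_lit 200, nat_lit 100, nat_lit 200, nat_lit 100, nat_lit 200, nat_lit 100]) (.node (nat_lit 50) (.leaf (nat_lit 24576) [nat_lit 100, nat_lit 200, nat_lit 100, nat_lit 200, nat_lit 100, nat_lit 200, nat_lit 100, nat_lit 200]) (.leaf (nat_lit 39942) [nat_lit 200, nat_lit 75, nat_lit 200, nat_lit 125, nat_lit 200, nat_lit 75, nat_lit 200, nat_lit 125]))) (.node (nat_lit 53) (.node (nat_lit 52) (.leaf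 (nat_lit 22530) [nat_lit 150, nat_lit 100, nat_lit 150, nat_lit 100, nat_lit 150, nat_lit 100, nat_lit 150, nat_lit 100]) (.leaf (nat_lit 45058) [nat_lit 125, nat_lit 200, nat_lit 125, nat_lit 100, nat_lit 125, nat_lit 200, nat_lit 125, nat_lit 100])) (.node (nat_lit 54) (.leaf (nat_lit 21506) [nat_lit 125, nat_lit 100, nat_lit 125, nat_lit 100, nat_lit 125, nat_lit 100, nat_lit 125, nat_lit 100]) (.leaf (nat_lit 45062) [nat_lit 125, nat_lit 100, nat_lit 125, nat_lit 200, nat_lit 125, nat_lit 100, nat_lit 125, nat_lit 200]))))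
noncomputable def r73 : WT := (.node (nat_lit 59) (.node (nat_lit 57) (.node (nat_lit 56) (.leaf (nat_lit 48128) [nat_lit 50, nat_lit 100, nat_lit 175, nat_lit 50, nat_lit 100, nat_lit 175, nat_lit 50, nat_lit 100, nat_lit 175]) (.leaf (nat_lit 46084) [nat_lit 50, nat_lit 150, nat_lit 50, nat_lit 100, nat_lit 50, nat_lit 150, nat_lit 50, nat_lit 100])) (.node (nat_lit 58) (.leaf (nat_lit 49158) [nat_lit 125, nat_lit 75, nat_lit 125, nat_lit 200, nat_lit 125, nat_lit 75, nat_lit 125, nat_lit 200]) (.leaf (nat_lit 51206) [nat_lit 175, nat_lit 100, nat_lit 175, nat_lit 125, nat_lit 175, nat_lit 100, nat_lit 175, nat_lit 125]))) (.node (nat_lit 61) (.node (nat_lit 60) (.leaf (nat_lit 37889) [nat_lit 200, nat_lit 125, nat_lit 75, nat_lit 200, nat_lit 125, nat_lit 75, nat_lit 200, nat_lit 125, nat_lit 75]) (.leaf (nat_lit 41987) [nat_lit 150, nat_lit 75, nat_lit 200, nat_lit 150, nat_lit 75, nat_lit 200])) (.node (nat_lit 62) (.leaf (nat_lit 29698) [nat_lit 225, nat_lit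 125, nat_lit 225, nat_lit 125, nat_lit 225, nat_lit 125, nat_lit 225, nat_lit 125]) (.leaf (nat_lit 44037) [nat_lit 50, nat_lit 150, nat_lit 100, nat_lit 50, nat_lit 150, nat_lit 100, nat_lit 50, nat_lit 150, nat_lit 100]))))
noncomputable def wP : WT := (.node (nat_lit 16) (.node (nat_lit 6) (.node (nat_lit 3) (.node (nat_lit 1) (.leaf (nat_lit 39936) [nat_lit 75, nat_lit 200, nat_lit 125, nat_lit 200, nat_lit 75, nat_lit 200, nat_lit 125, nat_lit 200]) r49) (.node (nat_lit 4) (.leaf (nat_lit 16384) [nat_lit 75, nat_lit 125, nat_lit 75, nat_lit 125, nat_lit 75, nat_lit 125, nat_lit 75, nat_lit 125]) r50)) (.node (nat_lit 10) (.node (nat_lit 8) r51 r52) (.node (nat_lit 13) r53 r54))) (.node (nat_lit 33) (.node (nat_lit 24) (.node (nat_lit 20) r55 r58) (.node (nat_lit 28) r59 r61)) (.node (nat_lit 48) (.node (nat_lit 40) r64 r71) (.node (nat_lit 55) r72 r73))))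
noncomputable def P : Par := ⟨tb, nat_lit 250, nat_lit 0x3ffffffffffffffffffffffffffffffffffffffffffffffffffffffffffffff, nat_lit 8991, nat_lit 33554431, nat_lit 16383, nat_lit 25, nat_lit 14, nat_lit 1771,
  [nat_lit 50, nat_lit 75, nat_lit 100, nat_lit 125, nat_lit 150, nat_lit 175, nat_lit 200, nat_lit 225], [nat_lit 50, nat_lit 75, nat_lit 100, nat_lit 125, nat_lit 150, nat_lit 200, nat_lit 225], wP,
  (.cons (nat_lit 50) w0 (.cons (nat_lit 75) w1 (.cons (nat_lit 100) w2 (.cons (nat_lit 125) w3 (.cons (nat_lit 150) w4 (.cons (nat_lit 175) w5 (.cons (nat_lit 200) w6 (.cons (nat_lit 225) w7 .nil)))))))),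
  .nil⟩

end Cfsg.Agent.Lib.TCHd10a
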