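import Cfsg.Agent.Lib.TCHd10bD0

set_option autoImplicit false
set_option maxRecDepth 100000

namespace Cfsg.Agent.Lib.TCHd10b
open Cfsg.Agent.Lib.TCCore

noncomputable def tb : T := (.node (nat_lit 236) (.node (nat_lit 118) l0 l1) (.node (nat_lit 354) l2 (.node (nat_lit 472) l3 l4)))
noncomputable def r0 : WT := (.node (nat_lit 6) (.leaf (nat_lit 12288) [nat_lit 144, nat_lit 36, nat_lit 144]) (.leaf (nat_lit 32773) [nat_lit 126, nat_lit 54, nat_lit 36, nat_lit 126, nat_lit 54]))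
noncomputable def r1 : WT := (.node (nat_lit 9) (.node (nat_lit 8) (.leaf (nat_lit 37888) [nat_lit 72, nat_lit 36, nat_lit 108, nat_lit 36, nat_lit 72, nat_lit 36, nat_lit 108]) (.leaf (nat_lit 8192) [nat_lit 72, nat_lit 36, nat_lit 72, nat_lit 36, nat_lit 72, nat_lit 36, nat_lit 72])) (.node (nat_lit 10) (.leaf (nat_lit 11264) [nat_lit 126, nat_lit 36, nat_lit 126, nat_lit 36, nat_lit 126, nat_lit 36, nat_lit 126]) (.node (nat_lit 11) (.leaf (nat_lit 37892) [nat_lit 108, nat_lit 36, nat_lit 72, nat_lit 36, nat_lit 108, nat_lit 36, nat_lit 72]) (.leaf (nat_lit 35840) [nat_lit 72, nat_lit 108, nat_lit 36, nat_lit 72, nat_lit 108, nat_lit 36, nat_lit 72, nat_lit 108]))))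
noncomputable def w0 : WT := (.node (nat_lit 1) (.leaf (nat_lit 0) [nat_lit 36]) (.node (nat_lit 3) (.node (nat_lit 2) (.leaf (nat_lit 9216) [nat_lit 90, nat_lit 36, nat_lit 90]) (.leaf (nat_lit 7168) [nat_lit 54, nat_lit 36, nat_lit 54])) (.node (nat_lit 5) (.node (nat_lit 4) (.leaf (nat_lit 10240) [nat_lit 108, nat_lit 36, nat_lit 108, nat_lit 36, nat_lit 108]) (.leaf (nat_lit 32768) [nat_lit 54, nat_lit 126, nat_lit 36, nat_lit 54, nat_lit 126])) (.node (nat_lit 7) r0 r1))))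
noncomputable def r2 : WT := (.node (nat_lit 6) (.leaf (nat_lit 17408) [nat_lit 144, nat_lit 54, nat_lit 144, nat_lit 54, nat_lit 144]) (.leaf (nat_lit 32771) [nat_lit 36, nat_lit 126, nat_lit 54, nat_lit 36, nat_lit 126]))
noncomputable def r3 : WT := (.node (nat_lit 8) (.leaf (nat_lit 33797) [nat_lit 126, nat_lit 108, nat_lit 54, nat_lit 126, nat_lit 108]) (.node (nat_lit 9) (.leaf (nat_lit 38912) [nat_lit 90, nat_lit 126, nat_lit 90, nat_lit 54, nat_lit 90, nat_lit 126, nat_lit 90]) (.leaf (nat_lit 16384) [nat_lit 126, nat_lit 54, nat_lit 126, nat_lit 54, nat_lit 126, nat_lit 54, nat_lit 126])))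
noncomputable def r4 : WT := (.node (nat_lit 12) (.node (nat_lit 11) (.leaf (nat_lit 30724) [nat_lit 144, nat_lit 54, nat_lit 90, nat_lit 54, nat_lit 144, nat_lit 54, nat_lit 90]) (.leaf (nat_lit 31744) [nat_lit 126, nat_lit 90, nat_lit 126, nat_lit 54, nat_lit 126, nat_lit 90, nat_lit 126])) (.node (nat_lit 14) (.node (nat_lit 13) (.leaf (nat_lit 30720) [nat_lit 90, nat_lit 54, nat_lit 144, nat_lit 54, nat_lit 90, nat_lit 54, nat_lit 144]) (.leaf (nat_lit 32770) [nat_lit 126, nat_lit 36, nat_lit 54, nat_lit 126, nat_lit 36])) (.node (nat_lit 16) (.node (nat_lit 15) (.leaf (nat_lit 33792) [nat_lit 108, nat_lit 126, nat_lit 54, nat_lit 108, nat_lit 126]) (.leaf (nat_lit 29696) [nat_lit 90, nat_lit 126, nat_lit 54, nat_lit 90, nat_lit 126, nat_lit 54, nat_lit 90, nat_lit 126])) (.node (nat_lit 17) (.leaf (nat_lit 29701) [nat_lit 126, nat_lit 90, nat_lit 54, nat_lit 126, nat_lit 90, nat_lit 54, nat_lit 126, nat_lit 90]) (.leaf (nat_lit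 34821) [nat_lit 126, nat_lit 72, nat_lit 54, nat_lit 126, nat_lit 72, nat_lit 54, nat_lit 126, nat_lit 72, nat_lit 54, nat_lit 126, nat_lit 72])))))
noncomputable def w1 : WT := (.node (nat_lit 1) (.leaf (nat_lit 1024) [nat_lit 54]) (.node (nat_lit 4) (.node (nat_lit 2) (.leaf (nat_lit 15360) [nat_lit 108, nat_lit 54, nat_lit 108]) (.node (nat_lit 3) (.leaf (nat_lit 7170) [nat_lit 36, nat_lit 54, nat_lit 36]) (.leaf (nat_lit 13312) [nat_lit 72, nat_lit 54, nat_lit 72]))) (.node (nat_lit 7) (.node (nat_lit 5) (.leaf (nat_lit 14336) [nat_lit 90, nat_lit 54, nat_lit 90, nat_lit 54, nat_lit 90, nat_lit 54, nat_lit 90]) r2) (.node (nat_lit 10) r3 r4))))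
noncomputable def r5 : WT := (.node (nat_lit 6) (.leaf (nat_lit 19456) [nat_lit 108, nat_lit 72, nat_lit 108, nat_lit 72, nat_lit 108, nat_lit 72, nat_lit 108]) (.leaf (nat_lit 35843) [nat_lit 36, nat_lit 108, nat_lit 72, nat_lit 36, nat_lit 108, nat_lit 72, nat_lit 36, nat_lit 108]))
noncomputable def r6 : WT := (.node (nat_lit 8) (.leaf (nat_lit 37890) [nat_lit 36, nat_lit 108, nat_lit 36, nat_lit 72, nat_lit 36, nat_lit 108, nat_lit 36]) (.leaf (nat_lit 18432) [nat_lit 90, nat_lit 72, nat_lit 90, nat_lit 72, nat_lit 90, nat_lit 72, nat_lit 90]))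
noncomputable def r7 : WT := (.node (nat_lit 10) (.leaf (nat_lit 20480) [nat_lit 126, nat_lit 72, nat_lit 126, nat_lit 72, nat_lit 126, nat_lit 72, nat_lit 126]) (.node (nat_lit 11) (.leaf (nat_lit 35842) [nat_lit 108, nat_lit 36, nat_lit 72, nat_lit 108, nat_lit 36, nat_lit 72, nat_lit 108, nat_lit 36]) (.leaf (nat_lit 34819) [nat_lit 54, nat_lit 126, nat_lit 72, nat_lit 54, nat_lit 126, nat_lit 72, nat_lit 54, nat_lit 126, nat_lit 72, nat_lit 54, nat_lit 126])))
noncomputable def w2 : WT := (.node (nat_lit 1) (.leaf (nat_lit 2048) [nat_lit 72]) (.node (nat_lit 4) (.node (nat_lit 2) (.leaf (nat_lit 21504) [nat_lit 144, nat_lit 72, nat_lit 144]) (.node (nat_lit 3) (.leaf (nat_lit 13314) [nat_lit 54, nat_lit 72, nat_lit 54]) (.leaf (nat_lit 36864) [nat_lit 90, nat_lit 126, nat_lit 90, nat_lit 72, nat_lit 90, nat_lit 126, nat_lit 90]))) (.node (nat_lit 7) (.node (nat_lit 5) (.leaf (nat_lit 8194) [nat_lit 36, nat_lit 72, nat_lit 36,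 nat_lit 72, nat_lit 36, nat_lit 72, nat_lit 36]) r5) (.node (nat_lit 9) r6 r7))))
noncomputable def r8 : WT := (.node (nat_lit 6) (.leaf (nat_lit 36870) [nat_lit 72, nat_lit 90, nat_lit 126, nat_lit 90, nat_lit 72, nat_lit 90, nat_lit 126]) (.leaf (nat_lit 38914) [nat_lit 126, nat_lit 90, nat_lit 54, nat_lit 90, nat_lit 126, nat_lit 90, nat_lit 54]))
noncomputable def r9 : WT := (.node (nat_lit 9) (.node (nat_lit 8) (.leaf (nat_lit 14338) [nat_lit 54, nat_lit 90, nat_lit 54, nat_lit 90, nat_lit 54, nat_lit 90, nat_lit 54]) (.leaf (nat_lit 18434) [nat_lit 72, nat_lit 90, nat_lit 72, nat_lit 90, nat_lit 72, nat_lit 90, nat_lit 72])) (.node (nat_lit 10) (.leaf (nat_lit 24576) [nat_lit 144, nat_lit 90, nat_lit 144, nat_lit 90, nat_lit 144, nat_lit 90, nat_lit 144]) (.node (nat_lit 11) (.leaf (nat_lit 36866) [nat_lit 126, nat_lit 90, nat_lit 72, nat_lit 90, nat_lit 126, nat_lit 90, nat_lit 72]) (.leaf (nat_lit 38918) [nat_lit 54, nat_lit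 90, nat_lit 126, nat_lit 90, nat_lit 54, nat_lit 90, nat_lit 126]))))
noncomputable def w3 : WT := (.node (nat_lit 1) (.leaf (nat_lit 3072) [nat_lit 90]) (.node (nat_lit 3) (.node (nat_lit 2) (.leaf (nat_lit 22528) [nat_lit 108, nat_lit 90, nat_lit 108]) (.leaf (nat_lit 23552) [nat_lit 126, nat_lit 90, nat_lit 126, nat_lit 90, nat_lit 126])) (.node (nat_lit 5) (.node (nat_lit 4) (.leaf (nat_lit 9218) [nat_lit 36, nat_lit 90, nat_lit 36]) (.leaf (nat_lit 30722) [nat_lit 54, nat_lit 144, nat_lit 54, nat_lit 90, nat_lit 54, nat_lit 144, nat_lit 54])) (.node (nat_lit 7) r8 r9))))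
noncomputable def r10 : WT := (.node (nat_lit 6) (.leaf (nat_lit 10242) [nat_lit 36, nat_lit 108, nat_lit 36, nat_lit 108, nat_lit 36]) (.leaf (nat_lit 37894) [nat_lit 36, nat_lit 72, nat_lit 36, nat_lit 108, nat_lit 36, nat_lit 72, nat_lit 36]))
noncomputable def r11 : WT := (.node (nat_lit 9) (.node (nat_lit 8) (.leaf (nat_lit 19458) [nat_lit 72, nat_lit 108, nat_lit 72, nat_lit 108, nat_lit 72, nat_lit 108, nat_lit 72]) (.leaf (nat_lit 33794) [nat_lit 126, nat_lit 54, nat_lit 108, nat_lit 126, nat_lit 54])) (.node (nat_lit 10) (.leaf (nat_lit 35844) [nat_lit 36, nat_lit 72, nat_lit 108, nat_lit 36, nat_lit 72, nat_lit 108, nat_lit 36, nat_lit 72]) (.node (nat_lit 11) (.leaf (nat_lit 35841) [nat_lit 72, nat_lit 36, nat_lit 108, nat_lit 72, nat_lit 36, nat_lit 108, nat_lit 72, nat_lit 36]) (.leaf (nat_lit 25600) [nat_lit 126, nat_lit 108, nat_lit 126, nat_lit 108, nat_lit 126, nat_lit 108, nat_lit 126]))))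
noncomputable def w4 : WT := (.node (nat_lit 1) (.leaf (nat_lit 4096) [nat_lit 108]) (.node (nat_lit 3) (.node (nat_lit 2) (.leaf (nat_lit 22530) [nat_lit 90, nat_lit 108, nat_lit 90]) (.leaf (nat_lit 15362) [nat_lit 54, nat_lit 108, nat_lit 54])) (.node (nat_lit 5) (.node (nat_lit 4) (.leaf (nat_lit 26624) [nat_lit 144, nat_lit 108, nat_lit 144]) (.leaf (nat_lit 33795) [nat_lit 54, nat_lit 126, nat_lit 108, nat_lit 54, nat_lit 126])) (.node (nat_lit 7) r10 r11))))
noncomputable def r12 : WT := (.node (nat_lit 7) (.leaf (nat_lit 33793) [nat_lit 108, nat_lit 54, nat_lit 126, nat_lit 108, nat_lit 54]) (.node (nat_lit 8) (.leaf (nat_lit 16386) [nat_lit 54, nat_lit 126, nat_lit 54, nat_lit 126, nat_lit 54, nat_lit 126, nat_lit 54]) (.leaf (nat_lit 29700) [nat_lit 54, nat_lit 90, nat_lit 126, nat_lit 54, nat_lit 90, nat_lit 126, nat_lit 54, nat_lit 90])))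
noncomputable def r13 : WT := (.node (nat_lit 12) (.node (nat_lit 10) (.leaf (nat_lit 38916) [nat_lit 90, nat_lit 54, nat_lit 90, nat_lit 126, nat_lit 90, nat_lit 54, nat_lit 90]) (.node (nat_lit 11) (.leaf (nat_lit 31750) [nat_lit 54, nat_lit 126, nat_lit 90, nat_lit 126, nat_lit 54, nat_lit 126, nat_lit 90]) (.leaf (nat_lit 34820) [nat_lit 54, nat_lit 72, nat_lit 126, nat_lit 54, nat_lit 72, nat_lit 126, nat_lit 54, nat_lit 72, nat_lit 126, nat_lit 54, nat_lit 72]))) (.node (nat_lit 14) (.node (nat_lit 13) (.leaf (nat_lit 29697) [nat_lit 90, nat_lit 54, nat_lit 126, nat_lit 90, nat_lit 54, nat_lit 126, nat_lit 90, nat_lit 54]) (.leaf (nat_lit 31746) [nat_lit 90, nat_lit 126, nat_lit 54, nat_lit 126, nat_lit 90, nat_lit 126, nat_lit 54])) (.node (nat_lit 15) (.leaf (nat_lit 25602) [nat_lit 108, nat_lit 126, nat_lit 108, nat_lit 126, nat_lit 108, nat_lit 126, nat_lit 108]) (.node (nat_lit 16) (.leaf (nat_lit 20482) [nat_lit 72, nat_lit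 126, nat_lit 72, nat_lit 126, nat_lit 72, nat_lit 126, nat_lit 72]) (.leaf (nat_lit 11266) [nat_lit 36, nat_lit 126, nat_lit 36, nat_lit 126, nat_lit 36, nat_lit 126, nat_lit 36])))))
noncomputable def w5 : WT := (.node (nat_lit 1) (.leaf (nat_lit 5120) [nat_lit 126]) (.node (nat_lit 4) (.node (nat_lit 2) (.leaf (nat_lit 23554) [nat_lit 90, nat_lit 126, nat_lit 90, nat_lit 126, nat_lit 90]) (.node (nat_lit 3) (.leaf (nat_lit 32772) [nat_lit 36, nat_lit 54, nat_lit 126, nat_lit 36, nat_lit 54]) (.leaf (nat_lit 33796) [nat_lit 54, nat_lit 108, nat_lit 126, nat_lit 54, nat_lit 108]))) (.node (nat_lit 6) (.node (nat_lit 5) (.leaf (nat_lit 36868) [nat_lit 90, nat_lit 72, nat_lit 90, nat_lit 126, nat_lit 90, nat_lit 72, nat_lit 90]) (.leaf (nat_lit 32769) [nat_lit 54, nat_lit 36, nat_lit 126, nat_lit 54, nat_lit 36])) (.node (nat_lit 9) r12 r13))))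
noncomputable def r14 : WT := (.leaf (nat_lit 28680) [nat_lit 36, nat_lit 126, nat_lit 108, nat_lit 90, nat_lit 144, nat_lit 36, nat_lit 126, nat_lit 108, nat_lit 90, nat_lit 144, nat_lit 36, nat_lit 126, nat_lit 108, nat_lit 90, nat_lit 144, nat_lit 36, nat_lit 126, nat_lit 108, nat_lit 90])
noncomputable def r15 : WT := (.node (nat_lit 6) (.leaf (nat_lit 30726) [nat_lit 54, nat_lit 90, nat_lit 54, nat_lit 144, nat_lit 54, nat_lit 90, nat_lit 54]) (.node (nat_lit 7) (.leaf (nat_lit 24578) [nat_lit 90, nat_lit 144, nat_lit 90, nat_lit 144, nat_lit 90, nat_lit 144, nat_lit 90]) r14))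
noncomputable def w6 : WT := (.node (nat_lit 1) (.leaf (nat_lit 6144) [nat_lit 144]) (.node (nat_lit 3) (.node (nat_lit 2) (.leaf (nat_lit 12290) [nat_lit 36, nat_lit 144, nat_lit 36]) (.leaf (nat_lit 26626) [nat_lit 108, nat_lit 144, nat_lit 108])) (.node (nat_lit 4) (.leaf (nat_lit 21506) [nat_lit 72, nat_lit 144, nat_lit 72]) (.node (nat_lit 5) (.leaf (nat_lit 17410) [nat_lit 54, nat_lit 144, nat_lit 54, nat_lit 144, nat_lit 54]) r15))))
noncomputable def r16 : WT := (.leaf (nat_lit 28674) [nat_lit 126, nat_lit 108, nat_lit 90, nat_lit 144, nat_lit 36, nat_lit 126, nat_lit 108, nat_lit 90, nat_lit 144, nat_lit 36, nat_lit 126, nat_lit 108, nat_lit 90, nat_lit 144, nat_lit 36, nat_lit 126, nat_lit 108, nat_lit 90, nat_lit 144, nat_lit 36])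
noncomputable def r17 : WT := (.leaf (nat_lit 28678) [nat_lit 90, nat_lit 144, nat_lit 36, nat_lit 126, nat_lit 108, nat_lit 90, nat_lit 144, nat_lit 36, nat_lit 126, nat_lit 108, nat_lit 90, nat_lit 144, nat_lit 36, nat_lit 126, nat_lit 108, nat_lit 90, nat_lit 144, nat_lit 36, nat_lit 126, nat_lit 108])
noncomputable def r18 : WT := (.leaf (nat_lit 28675) [nat_lit 90, nat_lit 108, nat_lit 126, nat_lit 36, nat_lit 144, nat_lit 90, nat_lit 108, nat_lit 126, nat_lit 36, nat_lit 144, nat_lit 90, nat_lit 108, nat_lit 126, nat_lit 36, nat_lit 144, nat_lit 90, nat_lit 108, nat_lit 126, nat_lit 36, nat_lit 144])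
noncomputable def wP : WT := (.node (nat_lit 4) (.node (nat_lit 2) (.node (nat_lit 1) (.leaf (nat_lit 31746) [nat_lit 126, nat_lit 90, nat_lit 126, nat_lit 54, nat_lit 126, nat_lit 90, nat_lit 126, nat_lit 54]) (.leaf (nat_lit 31750) [nat_lit 126, nat_lit 54, nat_lit 126, nat_lit 90, nat_lit 126, nat_lit 54, nat_lit 126, nat_lit 90])) (.node (nat_lit 3) (.leaf (nat_lit 29698) [nat_lit 90, nat_lit 126, nat_lit 54, nat_lit 90, nat_lit 126, nat_lit 54, nat_lit 90, nat_lit 126, nat_lit 54]) (.leaf (nat_lit 27650) [nat_lit 144, nat_lit 126, nat_lit 144, nat_lit 126, nat_lit 144, nat_lit 126, nat_lit 144, nat_lit 126, nat_lit 144, nat_lit 126]))) (.node (nat_lit 5) r16 (.node (nat_lit 6) r17 r18)))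
noncomputable def P : Par := ⟨tb, nat_lit 162, nat_lit 0x3ffffffffffffffffffffffffffffffffffffffff, nat_lit 553, nat_lit 262143, nat_lit 1023, nat_lit 18, nat_lit 10, nat_lit 64,
  [nat_lit 36, nat_lit 54, nat_lit 72, nat_lit 90, nat_lit 108, nat_lit 126, nat_lit 144], [nat_lit 36, nat_lit 54, nat_lit 90, nat_lit 108, nat_lit 126, nat_lit 144], wP,
  (.cons (nat_lit 36) w0 (.cons (nat_lit 54) w1 (.cons (nat_lit 72) w2 (.cons (nat_lit 90) w3 (.cons (nat_lit 108) w4 (.cons (nat_lit 126) w5 (.cons (nat_lit 144) w6 .nil))))))),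
  .nil⟩

end Cfsg.Agent.Lib.TCHd10b
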