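import Cfsg.Agent.Lib.TCHd10cD0

set_option autoImplicit false
set_option maxRecDepth 100000

namespace Cfsg.Agent.Lib.TCHd10c
open Cfsg.Agent.Lib.TCCore

noncomputable def n0 : T := (.node (nat_lit 208) l1 l2)
noncomputable def n1 : T := (.node (nat_lit 520) l4 l5)
noncomputable def n2 : T := (.node (nat_lit 832) l7 l8)
noncomputable def n3 : T := (.node (nat_lit 1144) l10 l11)
noncomputable def n4 : T := (.node (nat_lit 1456) l13 l14)
noncomputable def n5 : T := (.node (nat_lit 1768) l16 l17)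
noncomputable def n6 : T := (.node (nat_lit 2080) l19 l20)
noncomputable def n7 : T := (.node (nat_lit 2392) l22 l23)
noncomputable def n8 : T := (.node (nat_lit 2704) l25 l26)
noncomputable def n9 : T := (.node (nat_lit 3016) l28 l29)
noncomputable def n10 : T := (.node (nat_lit 3328) l31 l32)
noncomputable def n11 : T := (.node (nat_lit 3640) l34 l35)
noncomputable def n12 : T := (.node (nat_lit 3952) l37 l38)
noncomputable def n13 : T := (.node (nat_lit 4264) l40 l41)
noncomputable def n14 : T := (.node (nat_lit 4576) l43 l44)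
noncomputable def n15 : T := (.node (nat_lit 4888) l46 l47)
noncomputable def tb : T := (.node (nat_lit 2496) (.node (nat_lit 1248) (.node (nat_lit 624) (.node (nat_lit 312) (.node (nat_lit 104) l0 n0) (.node (nat_lit 416) l3 n1)) (.node (nat_lit 936) (.node (nat_lit 728) l6 n2) (.node (nat_lit 1040) l9 n3))) (.node (nat_lit 1872) (.node (nat_lit 1560) (.node (nat_lit 1352) l12 n4) (.node (nat_lit 1664) l15 n5)) (.node (nat_lit 2184) (.node (nat_lit 1976) l18 n6) (.node (nat_lit 2288) l21 n7)))) (.node (nat_lit 3744) (.node (nat_lit 3120) (.node (nat_lit 2808) (.node (nat_lit 2600) l24 n8) (.node (nat_lit 2912) l27 n9)) (.node (nat_lit 3432) (.node (nat_lit 3224) l30 n10) (.node (nat_lit 3536) l33 n11))) (.node (nat_lit 4368) (.node (nat_lit 4056) (.node (nat_lit 3848) l36 n12) (.node (nat_lit 4160) l39 n13)) (.node (nat_lit 4680) (.node (nat_lit 4472) l42 n14) (.node (nat_lit 4784) l45 n15)))))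
noncomputable def r0 : WT := (.leaf (nat_lit 21513) [nat_lit 161, nat_lit 92, nat_lit 115, nat_lit 138, nat_lit 46, nat_lit 161, nat_lit 92, nat_lit 115, nat_lit 138, nat_lit 46, nat_lit 161, nat_lit 92, nat_lit 115, nat_lit 138, nat_lit 46, nat_lit 161, nat_lit 92, nat_lit 115, nat_lit 138])
noncomputable def r1 : WT := (.node (nat_lit 6) (.leaf (nat_lit 25600) [nat_lit 69, nat_lit 138, nat_lit 46, nat_lit 69, nat_lit 138]) (.node (nat_lit 7) (.leaf (nat_lit 25605) [nat_lit 138, nat_lit 69, nat_lit 46, nat_lit 138, nat_lit 69]) (.node (nat_lit 8) (.leaf (nat_lit 9216) [nat_lit 138, nat_lit 46, nat_lit 138, nat_lit 46, nat_lit 138, nat_lit 46, nat_lit 138]) r0)))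
noncomputable def w0 : WT := (.node (nat_lit 1) (.leaf (nat_lit 0) [nat_lit 46]) (.node (nat_lit 3) (.node (nat_lit 2) (.leaf (nat_lit 8192) [nat_lit 115, nat_lit 46, nat_lit 115, nat_lit 46, nat_lit 115]) (.leaf (nat_lit 10240) [nat_lit 161, nat_lit 46, nat_lit 161])) (.node (nat_lit 4) (.leaf (nat_lit 6144) [nat_lit 69, nat_lit 46, nat_lit 69]) (.node (nat_lit 5) (.leaf (nat_lit 7168) [nat_lit 92, nat_lit 46, nat_lit 92]) r1))))
noncomputable def r2 : WT := (.node (nat_lit 6) (.leaf (nat_lit 26629) [nat_lit 138, nat_lit 115, nat_lit 69, nat_lit 138, nat_lit 115]) (.node (nat_lit 7) (.leaf (nat_lit 11264) [nat_lit 92, nat_lit 69, nat_lit 92, nat_lit 69, nat_lit 92, nat_lit 69, nat_lit 92]) (.leaf (nat_lit 23552) [nat_lit 92, nat_lit 69, nat_lit 161, nat_lit 69, nat_lit 92, nat_lit 69, nat_lit 161])))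
noncomputable def r3 : WT := (.node (nat_lit 15) (.leaf (nat_lit 25602) [nat_lit 138, nat_lit 46, nat_lit 69, nat_lit 138, nat_lit 46]) (.leaf (nat_lit 22528) [nat_lit 92, nat_lit 138, nat_lit 69, nat_lit 92, nat_lit 138, nat_lit 69, nat_lit 92, nat_lit 138]))
noncomputable def r4 : WT := (.node (nat_lit 10) (.node (nat_lit 9) (.leaf (nat_lit 25603) [nat_lit 46, nat_lit 138, nat_lit 69, nat_lit 46, nat_lit 138]) (.leaf (nat_lit 27648) [nat_lit 92, nat_lit 138, nat_lit 92, nat_lit 69, nat_lit 92, nat_lit 138, nat_lit 92])) (.node (nat_lit 11) (.leaf (nat_lit 26624) [nat_lit 115, nat_lit 138, nat_lit 69, nat_lit 115, nat_lit 138]) (.node (nat_lit 13) (.node (nat_lit 12) (.leaf (nat_lit 13312) [nat_lit 138, nat_lit 69, nat_lit 138, nat_lit 69, nat_lit 138, nat_lit 69, nat_lit 138]) (.leaf (nat_lit 22533) [nat_lit 138, nat_lit 92, nat_lit 69, nat_lit 138, nat_lit 92, nat_lit 69, nat_lit 138, nat_lit 92])) (.node (nat_lit 14) (.leaf (nat_lit 24576) [nat_lit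 138, nat_lit 92, nat_lit 138, nat_lit 69, nat_lit 138, nat_lit 92, nat_lit 138]) r3))))
noncomputable def w1 : WT := (.node (nat_lit 1) (.leaf (nat_lit 1024) [nat_lit 69]) (.node (nat_lit 3) (.node (nat_lit 2) (.leaf (nat_lit 12288) [nat_lit 115, nat_lit 69, nat_lit 115]) (.leaf (nat_lit 14336) [nat_lit 161, nat_lit 69, nat_lit 161, nat_lit 69, nat_lit 161])) (.node (nat_lit 5) (.node (nat_lit 4) (.leaf (nat_lit 23556) [nat_lit 161, nat_lit 69, nat_lit 92, nat_lit 69, nat_lit 161, nat_lit 69, nat_lit 92]) (.leaf (nat_lit 6146) [nat_lit 46, nat_lit 69, nat_lit 46])) (.node (nat_lit 8) r2 r4))))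
noncomputable def r5 : WT := (.node (nat_lit 6) (.leaf (nat_lit 7170) [nat_lit 46, nat_lit 92, nat_lit 46]) (.leaf (nat_lit 17408) [nat_lit 161, nat_lit 92, nat_lit 161, nat_lit 92, nat_lit 161, nat_lit 92, nat_lit 161]))
noncomputable def r6 : WT := (.leaf (nat_lit 21510) [nat_lit 161, nat_lit 46, nat_lit 138, nat_lit 115, nat_lit 92, nat_lit 161, nat_lit 46, nat_lit 138, nat_lit 115, nat_lit 92, nat_lit 161, nat_lit 46, nat_lit 138, nat_lit 115, nat_lit 92, nat_lit 161, nat_lit 46, nat_lit 138, nat_lit 115])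
noncomputable def r7 : WT := (.leaf (nat_lit 21507) [nat_lit 115, nat_lit 138, nat_lit 46, nat_lit 161, nat_lit 92, nat_lit 115, nat_lit 138, nat_lit 46, nat_lit 161, nat_lit 92, nat_lit 115, nat_lit 138, nat_lit 46, nat_lit 161, nat_lit 92, nat_lit 115, nat_lit 138, nat_lit 46, nat_lit 161])
noncomputable def r8 : WT := (.node (nat_lit 13) r7 (.leaf (nat_lit 24580) [nat_lit 138, nat_lit 69, nat_lit 138, nat_lit 92, nat_lit 138, nat_lit 69, nat_lit 138]))
noncomputable def r9 : WT := (.node (nat_lit 8) (.leaf (nat_lit 23554) [nat_lit 69, nat_lit 161, nat_lit 69, nat_lit 92, nat_lit 69, nat_lit 161, nat_lit 69]) (.node (nat_lit 10) (.node (nat_lit 9) (.leaf (nat_lit 22530) [nat_lit 138, nat_lit 69, nat_lit 92, nat_lit 138, nat_lit 69, nat_lit 92, nat_lit 138, nat_lit 69]) (.leaf (nat_lit 22531) [nat_lit 69, nat_lit 138, nat_lit 92, nat_lit 69, nat_lit 138, nat_lit 92, nat_lit 69, nat_lit 138])) (.node (nat_lit 11) r6 (.node (nat_lit 12) (.leaf (nat_lit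 27654) [nat_lit 69, nat_lit 92, nat_lit 138, nat_lit 92, nat_lit 69, nat_lit 92, nat_lit 138]) r8))))
noncomputable def w2 : WT := (.node (nat_lit 1) (.leaf (nat_lit 2048) [nat_lit 92]) (.node (nat_lit 3) (.node (nat_lit 2) (.leaf (nat_lit 15360) [nat_lit 115, nat_lit 92, nat_lit 115]) (.leaf (nat_lit 16384) [nat_lit 138, nat_lit 92, nat_lit 138, nat_lit 92, nat_lit 138])) (.node (nat_lit 5) (.node (nat_lit 4) (.leaf (nat_lit 11266) [nat_lit 69, nat_lit 92, nat_lit 69, nat_lit 92, nat_lit 69, nat_lit 92, nat_lit 69]) (.leaf (nat_lit 27650) [nat_lit 138, nat_lit 92, nat_lit 69, nat_lit 92, nat_lit 138, nat_lit 92, nat_lit 69])) (.node (nat_lit 7) r5 r9))))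
noncomputable def r10 : WT := (.leaf (nat_lit 21508) [nat_lit 92, nat_lit 161, nat_lit 46, nat_lit 138, nat_lit 115, nat_lit 92, nat_lit 161, nat_lit 46, nat_lit 138, nat_lit 115, nat_lit 92, nat_lit 161, nat_lit 46, nat_lit 138, nat_lit 115, nat_lit 92, nat_lit 161, nat_lit 46, nat_lit 138])
noncomputable def r11 : WT := (.leaf (nat_lit 21509) [nat_lit 138, nat_lit 46, nat_lit 161, nat_lit 92, nat_lit 115, nat_lit 138, nat_lit 46, nat_lit 161, nat_lit 92, nat_lit 115, nat_lit 138, nat_lit 46, nat_lit 161, nat_lit 92, nat_lit 115, nat_lit 138, nat_lit 46, nat_lit 161, nat_lit 92])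
noncomputable def r12 : WT := (.node (nat_lit 6) (.leaf (nat_lit 8194) [nat_lit 46, nat_lit 115, nat_lit 46, nat_lit 115, nat_lit 46]) (.node (nat_lit 8) (.node (nat_lit 7) (.leaf (nat_lit 26626) [nat_lit 138, nat_lit 69, nat_lit 115, nat_lit 138, nat_lit 69]) (.leaf (nat_lit 18432) [nat_lit 138, nat_lit 115, nat_lit 138, nat_lit 115, nat_lit 138, nat_lit 115, nat_lit 138])) (.node (nat_lit 9) r10 r11)))
noncomputable def w3 : WT := (.node (nat_lit 1) (.leaf (nat_lit 3072) [nat_lit 115]) (.node (nat_lit 3) (.node (nat_lit 2) (.leaf (nat_lit 19456) [nat_lit 161, nat_lit 115, nat_lit 161]) (.leaf (nat_lit 15362) [nat_lit 92, nat_lit 115, nat_lit 92])) (.node (nat_lit 4) (.leaf (nat_lit 12290) [nat_lit 69, nat_lit 115, nat_lit 69]) (.node (nat_lit 5) (.leaf (nat_lit 26627) [nat_lit 69, nat_lit 138, nat_lit 115, nat_lit 69, nat_lit 138]) r12))))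
noncomputable def r13 : WT := (.node (nat_lit 5) (.leaf (nat_lit 25601) [nat_lit 69, nat_lit 46, nat_lit 138, nat_lit 69, nat_lit 46]) (.leaf (nat_lit 13314) [nat_lit 69, nat_lit 138, nat_lit 69, nat_lit 138, nat_lit 69, nat_lit 138, nat_lit 69]))
noncomputable def r14 : WT := (.node (nat_lit 7) (.leaf (nat_lit 9218) [nat_lit 46, nat_lit 138, nat_lit 46, nat_lit 138, nat_lit 46, nat_lit 138, nat_lit 46]) (.leaf (nat_lit 18434) [nat_lit 115, nat_lit 138, nat_lit 115, nat_lit 138, nat_lit 115, nat_lit 138, nat_lit 115]))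
noncomputable def r15 : WT := (.leaf (nat_lit 21511) [nat_lit 46, nat_lit 161, nat_lit 92, nat_lit 115, nat_lit 138, nat_lit 46, nat_lit 161, nat_lit 92, nat_lit 115, nat_lit 138, nat_lit 46, nat_lit 161, nat_lit 92, nat_lit 115, nat_lit 138, nat_lit 46, nat_lit 161, nat_lit 92, nat_lit 115])
noncomputable def r16 : WT := (.node (nat_lit 9) (.leaf (nat_lit 26625) [nat_lit 115, nat_lit 69, nat_lit 138, nat_lit 115, nat_lit 69]) (.node (nat_lit 10) (.leaf (nat_lit 20480) [nat_lit 161, nat_lit 138, nat_lit 161, nat_lit 138, nat_lit 161, nat_lit 138, nat_lit 161, nat_lit 138, nat_lit 161]) r15))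
noncomputable def r17 : WT := (.leaf (nat_lit 21506) [nat_lit 115, nat_lit 92, nat_lit 161, nat_lit 46, nat_lit 138, nat_lit 115, nat_lit 92, nat_lit 161, nat_lit 46, nat_lit 138, nat_lit 115, nat_lit 92, nat_lit 161, nat_lit 46, nat_lit 138, nat_lit 115, nat_lit 92, nat_lit 161, nat_lit 46])
noncomputable def r18 : WT := (.node (nat_lit 14) (.node (nat_lit 12) (.leaf (nat_lit 22529) [nat_lit 92, nat_lit 69, nat_lit 138, nat_lit 92, nat_lit 69, nat_lit 138, nat_lit 92, nat_lit 69]) (.node (nat_lit 13) r17 (.leaf (nat_lit 24582) [nat_lit 69, nat_lit 138, nat_lit 92, nat_lit 138, nat_lit 69, nat_lit 138, nat_lit 92]))) (.node (nat_lit 15) (.leaf (nat_lit 27652) [nat_lit 92, nat_lit 69, nat_lit 92, nat_lit 138, nat_lit 92, nat_lit 69, nat_lit 92]) (.node (nat_lit 16) (.leaf (nat_lit 24578) [nat_lit 92, nat_lit 138, nat_lit 69, nat_lit 138, nat_lit 92, nat_lit 138, nat_lit 69]) (.leaf (nat_lit 22532) [nat_lit 69, nat_lit 92, nat_lit 138, nat_lit 69, nat_lit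 92, nat_lit 138, nat_lit 69, nat_lit 92]))))
noncomputable def w4 : WT := (.node (nat_lit 1) (.leaf (nat_lit 4096) [nat_lit 138]) (.node (nat_lit 4) (.node (nat_lit 2) (.leaf (nat_lit 25604) [nat_lit 46, nat_lit 69, nat_lit 138, nat_lit 46, nat_lit 69]) (.node (nat_lit 3) (.leaf (nat_lit 16386) [nat_lit 92, nat_lit 138, nat_lit 92, nat_lit 138, nat_lit 92]) (.leaf (nat_lit 26628) [nat_lit 69, nat_lit 115, nat_lit 138, nat_lit 69, nat_lit 115]))) (.node (nat_lit 8) (.node (nat_lit 6) r13 r14) (.node (nat_lit 11) r16 r18))))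
noncomputable def r19 : WT := (.leaf (nat_lit 21512) [nat_lit 46, nat_lit 138, nat_lit 115, nat_lit 92, nat_lit 161, nat_lit 46, nat_lit 138, nat_lit 115, nat_lit 92, nat_lit 161, nat_lit 46, nat_lit 138, nat_lit 115, nat_lit 92, nat_lit 161, nat_lit 46, nat_lit 138, nat_lit 115, nat_lit 92])
noncomputable def r20 : WT := (.leaf (nat_lit 21505) [nat_lit 92, nat_lit 115, nat_lit 138, nat_lit 46, nat_lit 161, nat_lit 92, nat_lit 115, nat_lit 138, nat_lit 46, nat_lit 161, nat_lit 92, nat_lit 115, nat_lit 138, nat_lit 46, nat_lit 161, nat_lit 92, nat_lit 115, nat_lit 138, nat_lit 46])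
noncomputable def r21 : WT := (.node (nat_lit 6) (.leaf (nat_lit 20482) [nat_lit 138, nat_lit 161, nat_lit 138, nat_lit 161, nat_lit 138, nat_lit 161, nat_lit 138, nat_lit 161, nat_lit 138]) (.node (nat_lit 7) (.leaf (nat_lit 23558) [nat_lit 69, nat_lit 92, nat_lit 69, nat_lit 161, nat_lit 69, nat_lit 92, nat_lit 69]) (.node (nat_lit 8) r19 r20)))
noncomputable def w5 : WT := (.node (nat_lit 1) (.leaf (nat_lit 5120) [nat_lit 161]) (.node (nat_lit 2) (.leaf (nat_lit 19458) [nat_lit 115, nat_lit 161, nat_lit 115]) (.node (nat_lit 4) (.node (nat_lit 3) (.leaf (nat_lit 14338) [nat_lit 69, nat_lit 161, nat_lit 69, nat_lit 161, nat_lit 69]) (.leaf (nat_lit 17410) [nat_lit 92, nat_lit 161, nat_lit 92, nat_lit 161, nat_lit 92, nat_lit 161, nat_lit 92])) (.node (nat_lit 5) (.leaf (nat_lit 10242) [nat_lit 46, nat_lit 161, nat_lit 46]) r21))))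
noncomputable def r22 : WT := (.node (nat_lit 5) (.leaf (nat_lit 16386) [nat_lit 138, nat_lit 92, nat_lit 138, nat_lit 92, nat_lit 138, nat_lit 92]) (.leaf (nat_lit 22529) [nat_lit 138, nat_lit 92, nat_lit 69, nat_lit 138, nat_lit 92, nat_lit 69, nat_lit 138, nat_lit 92, nat_lit 69]))
noncomputable def r23 : WT := (.node (nat_lit 7) (.leaf (nat_lit 27654) [nat_lit 92, nat_lit 69, nat_lit 92, nat_lit 138, nat_lit 92, nat_lit 69, nat_lit 92, nat_lit 138]) (.leaf (nat_lit 24582) [nat_lit 138, nat_lit 69, nat_lit 138, nat_lit 92, nat_lit 138, nat_lit 69, nat_lit 138, nat_lit 92]))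
noncomputable def r24 : WT := (.node (nat_lit 9) (.leaf (nat_lit 24580) [nat_lit 92, nat_lit 138, nat_lit 69, nat_lit 138, nat_lit 92, nat_lit 138, nat_lit 69, nat_lit 138]) (.node (nat_lit 10) (.leaf (nat_lit 13312) [nat_lit 69, nat_lit 138, nat_lit 69, nat_lit 138, nat_lit 69, nat_lit 138, nat_lit 69, nat_lit 138]) (.leaf (nat_lit 17410) [nat_lit 161, nat_lit 92, nat_lit 161, nat_lit 92, nat_lit 161, nat_lit 92, nat_lit 161, nat_lit 92])))
noncomputable def r25 : WT := (.leaf (nat_lit 21512) [nat_lit 161, nat_lit 46, nat_lit 138, nat_lit 115, nat_lit 92, nat_lit 161, nat_lit 46, nat_lit 138, nat_lit 115, nat_lit 92, nat_lit 161, nat_lit 46, nat_lit 138, nat_lit 115, nat_lit 92, nat_lit 161, nat_lit 46, nat_lit 138, nat_lit 115, nat_lit 92])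
noncomputable def r26 : WT := (.node (nat_lit 12) (.leaf (nat_lit 25600) [nat_lit 46, nat_lit 69, nat_lit 138, nat_lit 46, nat_lit 69, nat_lit 138]) (.node (nat_lit 13) r25 (.leaf (nat_lit 22528) [nat_lit 69, nat_lit 92, nat_lit 138, nat_lit 69, nat_lit 92, nat_lit 138, nat_lit 69, nat_lit 92, nat_lit 138])))
noncomputable def r27 : WT := (.node (nat_lit 16) (.node (nat_lit 15) (.leaf (nat_lit 27652) [nat_lit 138, nat_lit 92, nat_lit 69, nat_lit 92, nat_lit 138, nat_lit 92, nat_lit 69, nat_lit 92]) (.leaf (nat_lit 24578) [nat_lit 138, nat_lit 92, nat_lit 138, nat_lit 69, nat_lit 138, nat_lit 92, nat_lit 138, nat_lit 69])) (.node (nat_lit 17) (.leaf (nat_lit 9218) [nat_lit 138, nat_lit 46, nat_lit 138, nat_lit 46, nat_lit 138, nat_lit 46, nat_lit 138, nat_lit 46]) (.leaf (nat_lit 26627) [nat_lit 115, nat_lit 69, nat_lit 138, nat_lit 115, nat_lit 69, nat_lit 138])))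
noncomputable def r28 : WT := (.node (nat_lit 20) (.node (nat_lit 19) (.leaf (nat_lit 25601) [nat_lit 138, nat_lit 69, nat_lit 46, nat_lit 138, nat_lit 69, nat_lit 46]) (.leaf (nat_lit 26628) [nat_lit 138, nat_lit 69, nat_lit 115, nat_lit 138, nat_lit 69, nat_lit 115])) (.node (nat_lit 21) (.leaf (nat_lit 23552) [nat_lit 69, nat_lit 92, nat_lit 69, nat_lit 161, nat_lit 69, nat_lit 92, nat_lit 69, nat_lit 161]) (.leaf (nat_lit 25603) [nat_lit 69, nat_lit 46, nat_lit 138, nat_lit 69, nat_lit 46, nat_lit 138])))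
noncomputable def r29 : WT := (.leaf (nat_lit 21511) [nat_lit 138, nat_lit 46, nat_lit 161, nat_lit 92, nat_lit 115, nat_lit 138, nat_lit 46, nat_lit 161, nat_lit 92, nat_lit 115, nat_lit 138, nat_lit 46, nat_lit 161, nat_lit 92, nat_lit 115, nat_lit 138, nat_lit 46, nat_lit 161, nat_lit 92, nat_lit 115])
noncomputable def r30 : WT := (.leaf (nat_lit 21509) [nat_lit 115, nat_lit 138, nat_lit 46, nat_lit 161, nat_lit 92, nat_lit 115, nat_lit 138, nat_lit 46, nat_lit 161, nat_lit 92, nat_lit 115, nat_lit 138, nat_lit 46, nat_lit 161, nat_lit 92, nat_lit 115, nat_lit 138, nat_lit 46, nat_lit 161, nat_lit 92])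
noncomputable def r31 : WT := (.leaf (nat_lit 21507) [nat_lit 92, nat_lit 115, nat_lit 138, nat_lit 46, nat_lit 161, nat_lit 92, nat_lit 115, nat_lit 138, nat_lit 46, nat_lit 161, nat_lit 92, nat_lit 115, nat_lit 138, nat_lit 46, nat_lit 161, nat_lit 92, nat_lit 115, nat_lit 138, nat_lit 46, nat_lit 161])
noncomputable def r32 : WT := (.leaf (nat_lit 21505) [nat_lit 161, nat_lit 92, nat_lit 115, nat_lit 138, nat_lit 46, nat_lit 161, nat_lit 92, nat_lit 115, nat_lit 138, nat_lit 46, nat_lit 161, nat_lit 92, nat_lit 115, nat_lit 138, nat_lit 46, nat_lit 161, nat_lit 92, nat_lit 115, nat_lit 138, nat_lit 46])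
noncomputable def r33 : WT := (.leaf (nat_lit 21508) [nat_lit 115, nat_lit 92, nat_lit 161, nat_lit 46, nat_lit 138, nat_lit 115, nat_lit 92, nat_lit 161, nat_lit 46, nat_lit 138, nat_lit 115, nat_lit 92, nat_lit 161, nat_lit 46, nat_lit 138, nat_lit 115, nat_lit 92, nat_lit 161, nat_lit 46, nat_lit 138])
noncomputable def r34 : WT := (.node (nat_lit 25) (.node (nat_lit 23) (.leaf (nat_lit 22532) [nat_lit 138, nat_lit 69, nat_lit 92, nat_lit 138, nat_lit 69, nat_lit 92, nat_lit 138, nat_lit 69, nat_lit 92]) (.node (nat_lit 24) r29 r30)) (.node (nat_lit 27) (.node (nat_lit 26) r31 r32) (.node (nat_lit 28) r33 (.leaf (nat_lit 22533) [nat_lit 69, nat_lit 138, nat_lit 92, nat_lit 69, nat_lit 138, nat_lit 92, nat_lit 69, nat_lit 138, nat_lit 92]))))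
noncomputable def r35 : WT := (.node (nat_lit 32) (.node (nat_lit 30) (.leaf (nat_lit 26624) [nat_lit 69, nat_lit 115, nat_lit 138, nat_lit 69, nat_lit 115, nat_lit 138]) (.node (nat_lit 31) (.leaf (nat_lit 22530) [nat_lit 92, nat_lit 138, nat_lit 69, nat_lit 92, nat_lit 138, nat_lit 69, nat_lit 92, nat_lit 138, nat_lit 69]) (.leaf (nat_lit 26625) [nat_lit 138, nat_lit 115, nat_lit 69, nat_lit 138, nat_lit 115, nat_lit 69]))) (.node (nat_lit 34) (.node (nat_lit 33) (.leaf (nat_lit 27650) [nat_lit 92, nat_lit 138, nat_lit 92, nat_lit 69, nat_lit 92, nat_lit 138, nat_lit 92, nat_lit 69]) (.leaf (nat_lit 27648) [nat_lit 69, nat_lit 92, nat_lit 138, nat_lit 92, nat_lit 69, nat_lit 92, nat_lit 138, nat_lit 92])) (.node (nat_lit 35) (.leaf (nat_lit 11264) [nat_lit 69, nat_lit 92, nat_lit 69, nat_lit 92, nat_lit 69, nat_lit 92, nat_lit 69, nat_lit 92]) (.leaf (nat_lit 13314) [nat_lit 138, nat_lit 69, nat_lit 138, nat_lit 69, nat_lit 138, nat_lit 69, nat_lit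 138, nat_lit 69]))))
noncomputable def wP : WT := (.node (nat_lit 4) (.node (nat_lit 2) (.node (nat_lit 1) (.leaf (nat_lit 24576) [nat_lit 69, nat_lit 138, nat_lit 92, nat_lit 138, nat_lit 69, nat_lit 138, nat_lit 92, nat_lit 138]) (.leaf (nat_lit 9216) [nat_lit 46, nat_lit 138, nat_lit 46, nat_lit 138, nat_lit 46, nat_lit 138, nat_lit 46, nat_lit 138])) (.node (nat_lit 3) (.leaf (nat_lit 18432) [nat_lit 115, nat_lit 138, nat_lit 115, nat_lit 138, nat_lit 115, nat_lit 138, nat_lit 115, nat_lit 138]) (.leaf (nat_lit 20482) [nat_lit 161, nat_lit 138, nat_lit 161, nat_lit 138, nat_lit 161, nat_lit 138, nat_lit 161, nat_lit 138, nat_lit 161, nat_lit 138]))) (.node (nat_lit 14) (.node (nat_lit 8) (.node (nat_lit 6) r22 r23) (.node (nat_lit 11) r24 r26)) (.node (nat_lit 22) (.node (nat_lit 18) r27 r28) (.node (nat_lit 29) r34 r35))))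
noncomputable def P : Par := ⟨tb, nat_lit 184, nat_lit 0xffffffffffffffffffffffffffffffffffffffffffffff, nat_lit 4901, nat_lit 8388607, nat_lit 8191, nat_lit 23, nat_lit 13, nat_lit 2160,
  [nat_lit 46, nat_lit 69, nat_lit 92, nat_lit 115, nat_lit 138, nat_lit 161], [], wP,
  (.cons (nat_lit 46) w0 (.cons (nat_lit 69) w1 (.cons (nat_lit 92) w2 (.cons (nat_lit 115) w3 (.cons (nat_lit 138) w4 (.cons (nat_lit 161) w5 .nil)))))),
  .nil⟩

end Cfsg.Agent.Lib.TCHd10c
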