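import Cfsg.Agent.Lib.TCHd11aD0

set_option autoImplicit false
set_option maxRecDepth 100000

namespace Cfsg.Agent.Lib.TCHd11a
open Cfsg.Agent.Lib.TCCore

noncomputable def n0 : T := (.node (nat_lit 612) (.node (nat_lit 272) (.node (nat_lit 136) (.node (nat_lit 68) l0 l1) (.node (nat_lit 204) l2 l3)) (.node (nat_lit 408) (.node (nat_lit 340) l4 l5) (.node (nat_lit 476) l6 (.node (nat_lit 544) l7 l8)))) (.node (nat_lit 952) (.node (nat_lit 748) (.node (nat_lit 680) l9 l10) (.node (nat_lit 816) l11 (.node (nat_lit 884) l12 l13))) (.node (nat_lit 1088) (.node (nat_lit 1020) l14 l15) (.node (nat_lit 1156) l16 (.node (nat_lit 1224) l17 l18)))))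
noncomputable def n1 : T := (.node (nat_lit 1904) (.node (nat_lit 1564) (.node (nat_lit 1428) (.node (nat_lit 1360) l19 l20) (.node (nat_lit 1496) l21 l22)) (.node (nat_lit 1700) (.node (nat_lit 1632) l23 l24) (.node (nat_lit 1768) l25 (.node (nat_lit 1836) l26 l27)))) (.node (nat_lit 2244) (.node (nat_lit 2040) (.node (nat_lit 1972) l28 l29) (.node (nat_lit 2108) l30 (.node (nat_lit 2176) l31 l32))) (.node (nat_lit 2380) (.node (nat_lit 2312) l33 l34) (.node (nat_lit 2448) l35 (.node (nat_lit 2516) l36 l37)))))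
noncomputable def n2 : T := (.node (nat_lit 3196) (.node (nat_lit 2856) (.node (nat_lit 2720) (.node (nat_lit 2652) l38 l39) (.node (nat_lit 2788) l40 l41)) (.node (nat_lit 2992) (.node (nat_lit 2924) l42 l43) (.node (nat_lit 3060) l44 (.node (nat_lit 3128) l45 l46)))) (.node (nat_lit 3536) (.node (nat_lit 3332) (.node (nat_lit 3264) l47 l48) (.node (nat_lit 3400) l49 (.node (nat_lit 3468) l50 l51))) (.node (nat_lit 3672) (.node (nat_lit 3604) l52 l53) (.node (nat_lit 3740) l54 (.node (nat_lit 3808) l55 l56)))))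
noncomputable def n3 : T := (.node (nat_lit 4556) (.node (nat_lit 4216) (.node (nat_lit 4012) (.node (nat_lit 3944) l57 l58) (.node (nat_lit 4080) l59 (.node (nat_lit 4148) l60 l61))) (.node (nat_lit 4352) (.node (nat_lit 4284) l62 l63) (.node (nat_lit 4420) l64 (.node (nat_lit 4488) l65 l66)))) (.node (nat_lit 4896) (.node (nat_lit 4692) (.node (nat_lit 4624) l67 l68) (.node (nat_lit 4760) l69 (.node (nat_lit 4828) l70 l71))) (.node (nat_lit 5032) (.node (nat_lit 4964) l72 l73) (.node (nat_lit 5100) l74 (.node (nat_lit 5168) l75 l76)))))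
noncomputable def n4 : T := (.node (nat_lit 5848) (.node (nat_lit 5508) (.node (nat_lit 5372) (.node (nat_lit 5304) l77 l78) (.node (nat_lit 5440) l79 l80)) (.node (nat_lit 5644) (.node (nat_lit 5576) l81 l82) (.node (nat_lit 5712) l83 (.node (nat_lit 5780) l84 l85)))) (.node (nat_lit 6188) (.node (nat_lit 5984) (.node (nat_lit 5916) l86 l87) (.node (nat_lit 6052) l88 (.node (nat_lit 6120) l89 l90))) (.node (nat_lit 6324) (.node (nat_lit 6256) l91 l92) (.node (nat_lit 6392) l93 (.node (nat_lit 6460) l94 l95)))))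
noncomputable def n5 : T := (.node (nat_lit 7140) (.node (nat_lit 6800) (.node (nat_lit 6664) (.node (nat_lit 6596) l96 l97) (.node (nat_lit 6732) l98 l99)) (.node (nat_lit 6936) (.node (nat_lit 6868) l100 l101) (.node (nat_lit 7004) l102 (.node (nat_lit 7072) l103 l104)))) (.node (nat_lit 7480) (.node (nat_lit 7276) (.node (nat_lit 7208) l105 l106) (.node (nat_lit 7344) l107 (.node (nat_lit 7412) l108 l109))) (.node (nat_lit 7616) (.node (nat_lit 7548) l110 l111) (.node (nat_lit 7684) l112 (.node (nat_lit 7752) l113 l114)))))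
noncomputable def n6 : T := (.node (nat_lit 8432) (.node (nat_lit 8092) (.node (nat_lit 7956) (.node (nat_lit 7888) l115 l116) (.node (nat_lit 8024) l117 l118)) (.node (nat_lit 8228) (.node (nat_lit 8160) l119 l120) (.node (nat_lit 8296) l121 (.node (nat_lit 8364) l122 l123)))) (.node (nat_lit 8772) (.node (nat_lit 8568) (.node (nat_lit 8500) l124 l125) (.node (nat_lit 8636) l126 (.node (nat_lit 8704) l127 l128))) (.node (nat_lit 8908) (.node (nat_lit 8840) l129 l130) (.node (nat_lit 8976) l131 (.node (nat_lit 9044) l132 l133)))))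
noncomputable def n7 : T := (.node (nat_lit 9792) (.node (nat_lit 9452) (.node (nat_lit 9248) (.node (nat_lit 9180) l134 l135) (.node (nat_lit 9316) l136 (.node (nat_lit 9384) l137 l138))) (.node (nat_lit 9588) (.node (nat_lit 9520) l139 l140) (.node (nat_lit 9656) l141 (.node (nat_lit 9724) l142 l143)))) (.node (nat_lit 10132) (.node (nat_lit 9928) (.node (nat_lit 9860) l144 l145) (.node (nat_lit 9996) l146 (.node (nat_lit 10064) l147 l148))) (.node (nat_lit 10268) (.node (nat_lit 10200) l149 l150) (.node (nat_lit 10336) l151 (.node (nat_lit 10404) l152 l153)))))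
noncomputable def n8 : T := (.node (nat_lit 11084) (.node (nat_lit 10744) (.node (nat_lit 10608) (.node (nat_lit 10540) l154 l155) (.node (nat_lit 10676) l156 l157)) (.node (nat_lit 10880) (.node (nat_lit 10812) l158 l159) (.node (nat_lit 10948) l160 (.node (nat_lit 11016) l161 l162)))) (.node (nat_lit 11424) (.node (nat_lit 11220) (.node (nat_lit 11152) l163 l164) (.node (nat_lit 11288) l165 (.node (nat_lit 11356) l166 l167))) (.node (nat_lit 11560) (.node (nat_lit 11492) l168 l169) (.node (nat_lit 11628) l170 (.node (nat_lit 11696) l171 l172)))))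
noncomputable def n9 : T := (.node (nat_lit 12376) (.node (nat_lit 12036) (.node (nat_lit 11900) (.node (nat_lit 11832) l173 l174) (.node (nat_lit 11968) l175 l176)) (.node (nat_lit 12172) (.node (nat_lit 12104) l177 l178) (.node (nat_lit 12240) l179 (.node (nat_lit 12308) l180 l181)))) (.node (nat_lit 12716) (.node (nat_lit 12512) (.node (nat_lit 12444) l182 l183) (.node (nat_lit 12580) l184 (.node (nat_lit 12648) l185 l186))) (.node (nat_lit 12852) (.node (nat_lit 12784) l187 l188) (.node (nat_lit 12920) l189 (.node (nat_lit 12988) l190 l191)))))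
noncomputable def n10 : T := (.node (nat_lit 13668) (.node (nat_lit 13328) (.node (nat_lit 13192) (.node (nat_lit 13124) l192 l193) (.node (nat_lit 13260) l194 l195)) (.node (nat_lit 13464) (.node (nat_lit 13396) l196 l197) (.node (nat_lit 13532) l198 (.node (nat_lit 13600) l199 l200)))) (.node (nat_lit 14008) (.node (nat_lit 13804) (.node (nat_lit 13736) l201 l202) (.node (nat_lit 13872) l203 (.node (nat_lit 13940) l204 l205))) (.node (nat_lit 14144) (.node (nat_lit 14076) l206 l207) (.node (nat_lit 14212) l208 (.node (nat_lit 14280) l209 l210)))))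
noncomputable def n11 : T := (.node (nat_lit 15028) (.node (nat_lit 14688) (.node (nat_lit 14484) (.node (nat_lit 14416) l211 l212) (.node (nat_lit 14552) l213 (.node (nat_lit 14620) l214 l215))) (.node (nat_lit 14824) (.node (nat_lit 14756) l216 l217) (.node (nat_lit 14892) l218 (.node (nat_lit 14960) l219 l220)))) (.node (nat_lit 15368) (.node (nat_lit 15164) (.node (nat_lit 15096) l221 l222) (.node (nat_lit 15232) l223 (.node (nat_lit 15300) l224 l225))) (.node (nat_lit 15504) (.node (nat_lit 15436) l226 l227) (.node (nat_lit 15572) l228 (.node (nat_lit 15640) l229 l230)))))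
noncomputable def n12 : T := (.node (nat_lit 16320) (.node (nat_lit 15980) (.node (nat_lit 15844) (.node (nat_lit 15776) l231 l232) (.node (nat_lit 15912) l233 l234)) (.node (nat_lit 16116) (.node (nat_lit 16048) l235 l236) (.node (nat_lit 16184) l237 (.node (nat_lit 16252) l238 l239)))) (.node (nat_lit 16660) (.node (nat_lit 16456) (.node (nat_lit 16388) l240 l241) (.node (nat_lit 16524) l242 (.node (nat_lit 16592) l243 l244))) (.node (nat_lit 16796) (.node (nat_lit 16728) l245 l246) (.node (nat_lit 16864) l247 (.node (nat_lit 16932) l248 l249)))))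
noncomputable def n13 : T := (.node (nat_lit 17680) (.node (nat_lit 17340) (.node (nat_lit 17136) (.node (nat_lit 17068) l250 l251) (.node (nat_lit 17204) l252 (.node (nat_lit 17272) l253 l254))) (.node (nat_lit 17476) (.node (nat_lit 17408) l255 l256) (.node (nat_lit 17544) l257 (.node (nat_lit 17612) l258 l259)))) (.node (nat_lit 18020) (.node (nat_lit 17816) (.node (nat_lit 17748) l260 l261) (.node (nat_lit 17884) l262 (.node (nat_lit 17952) l263 l264))) (.node (nat_lit 18156) (.node (nat_lit 18088) l265 l266) (.node (nat_lit 18224) l267 (.node (nat_lit 18292) l268 l269)))))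
noncomputable def n14 : T := (.node (nat_lit 18972) (.node (nat_lit 18632) (.node (nat_lit 18496) (.node (nat_lit 18428) l270 l271) (.node (nat_lit 18564) l272 l273)) (.node (nat_lit 18768) (.node (nat_lit 18700) l274 l275) (.node (nat_lit 18836) l276 (.node (nat_lit 18904) l277 l278)))) (.node (nat_lit 19312) (.node (nat_lit 19108) (.node (nat_lit 19040) l279 l280) (.node (nat_lit 19176) l281 (.node (nat_lit 19244) l282 l283))) (.node (nat_lit 19448) (.node (nat_lit 19380) l284 l285) (.node (nat_lit 19516) l286 (.node (nat_lit 19584) l287 l288)))))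
noncomputable def n15 : T := (.node (nat_lit 20332) (.node (nat_lit 19992) (.node (nat_lit 19788) (.node (nat_lit 19720) l289 l290) (.node (nat_lit 19856) l291 (.node (nat_lit 19924) l292 l293))) (.node (nat_lit 20128) (.node (nat_lit 20060) l294 l295) (.node (nat_lit 20196) l296 (.node (nat_lit 20264) l297 l298)))) (.node (nat_lit 20672) (.node (nat_lit 20468) (.node (nat_lit 20400) l299 l300) (.node (nat_lit 20536) l301 (.node (nat_lit 20604) l302 l303))) (.node (nat_lit 20808) (.node (nat_lit 20740) l304 l305) (.node (nat_lit 20876) l306 (.node (nat_lit 20944) l307 l308)))))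
noncomputable def n16 : T := (.node (nat_lit 21624) (.node (nat_lit 21284) (.node (nat_lit 21148) (.node (nat_lit 21080) l309 l310) (.node (nat_lit 21216) l311 l312)) (.node (nat_lit 21420) (.node (nat_lit 21352) l313 l314) (.node (nat_lit 21488) l315 (.node (nat_lit 21556) l316 l317)))) (.node (nat_lit 21964) (.node (nat_lit 21760) (.node (nat_lit 21692) l318 l319) (.node (nat_lit 21828) l320 (.node (nat_lit 21896) l321 l322))) (.node (nat_lit 22100) (.node (nat_lit 22032) l323 l324) (.node (nat_lit 22168) l325 (.node (nat_lit 22236) l326 l327)))))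
noncomputable def n17 : T := (.node (nat_lit 22916) (.node (nat_lit 22576) (.node (nat_lit 22440) (.node (nat_lit 22372) l328 l329) (.node (nat_lit 22508) l330 l331)) (.node (nat_lit 22712) (.node (nat_lit 22644) l332 l333) (.node (nat_lit 22780) l334 (.node (nat_lit 22848) l335 l336)))) (.node (nat_lit 23256) (.node (nat_lit 23052) (.node (nat_lit 22984) l337 l338) (.node (nat_lit 23120) l339 (.node (nat_lit 23188) l340 l341))) (.node (nat_lit 23392) (.node (nat_lit 23324) l342 l343) (.node (nat_lit 23460) l344 (.node (nat_lit 23528) l345 l346)))))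
noncomputable def n18 : T := (.node (nat_lit 24208) (.node (nat_lit 23868) (.node (nat_lit 23732) (.node (nat_lit 23664) l347 l348) (.node (nat_lit 23800) l349 l350)) (.node (nat_lit 24004) (.node (nat_lit 23936) l351 l352) (.node (nat_lit 24072) l353 (.node (nat_lit 24140) l354 l355)))) (.node (nat_lit 24548) (.node (nat_lit 24344) (.node (nat_lit 24276) l356 l357) (.node (nat_lit 24412) l358 (.node (nat_lit 24480) l359 l360))) (.node (nat_lit 24684) (.node (nat_lit 24616) l361 l362) (.node (nat_lit 24752) l363 (.node (nat_lit 24820) l364 l365)))))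
noncomputable def n19 : T := (.node (nat_lit 25568) (.node (nat_lit 25228) (.node (nat_lit 25024) (.node (nat_lit 24956) l366 l367) (.node (nat_lit 25092) l368 (.node (nat_lit 25160) l369 l370))) (.node (nat_lit 25364) (.node (nat_lit 25296) l371 l372) (.node (nat_lit 25432) l373 (.node (nat_lit 25500) l374 l375)))) (.node (nat_lit 25908) (.node (nat_lit 25704) (.node (nat_lit 25636) l376 l377) (.node (nat_lit 25772) l378 (.node (nat_lit 25840) l379 l380))) (.node (nat_lit 26044) (.node (nat_lit 25976) l381 l382) (.node (nat_lit 26112) l383 (.node (nat_lit 26180) l384 l385)))))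
noncomputable def n20 : T := (.node (nat_lit 26860) (.node (nat_lit 26520) (.node (nat_lit 26384) (.node (nat_lit 26316) l386 l387) (.node (nat_lit 26452) l388 l389)) (.node (nat_lit 26656) (.node (nat_lit 26588) l390 l391) (.node (nat_lit 26724) l392 (.node (nat_lit 26792) l393 l394)))) (.node (nat_lit 27200) (.node (nat_lit 26996) (.node (nat_lit 26928) l395 l396) (.node (nat_lit 27064) l397 (.node (nat_lit 27132) l398 l399))) (.node (nat_lit 27336) (.node (nat_lit 27268) l400 l401) (.node (nat_lit 27404) l402 (.node (nat_lit 27472) l403 l404)))))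
noncomputable def n21 : T := (.node (nat_lit 28220) (.node (nat_lit 27880) (.node (nat_lit 27676) (.node (nat_lit 27608) l405 l406) (.node (nat_lit 27744) l407 (.node (nat_lit 27812) l408 l409))) (.node (nat_lit 28016) (.node (nat_lit 27948) l410 l411) (.node (nat_lit 28084) l412 (.node (nat_lit 28152) l413 l414)))) (.node (nat_lit 28560) (.node (nat_lit 28356) (.node (nat_lit 28288) l415 l416) (.node (nat_lit 28424) l417 (.node (nat_lit 28492) l418 l419))) (.node (nat_lit 28696) (.node (nat_lit 28628) l420 l421) (.node (nat_lit 28764) l422 (.node (nat_lit 28832) l423 l424)))))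
noncomputable def n22 : T := (.node (nat_lit 29512) (.node (nat_lit 29172) (.node (nat_lit 29036) (.node (nat_lit 28968) l425 l426) (.node (nat_lit 29104) l427 l428)) (.node (nat_lit 29308) (.node (nat_lit 29240) l429 l430) (.node (nat_lit 29376) l431 (.node (nat_lit 29444) l432 l433)))) (.node (nat_lit 29852) (.node (nat_lit 29648) (.node (nat_lit 29580) l434 l435) (.node (nat_lit 29716) l436 (.node (nat_lit 29784) l437 l438))) (.node (nat_lit 29988) (.node (nat_lit 29920) l439 l440) (.node (nat_lit 30056) l441 (.node (nat_lit 30124) l442 l443)))))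
noncomputable def n23 : T := (.node (nat_lit 30872) (.node (nat_lit 30532) (.node (nat_lit 30328) (.node (nat_lit 30260) l444 l445) (.node (nat_lit 30396) l446 (.node (nat_lit 30464) l447 l448))) (.node (nat_lit 30668) (.node (nat_lit 30600) l449 l450) (.node (nat_lit 30736) l451 (.node (nat_lit 30804) l452 l453)))) (.node (nat_lit 31212) (.node (nat_lit 31008) (.node (nat_lit 30940) l454 l455) (.node (nat_lit 31076) l456 (.node (nat_lit 31144) l457 l458))) (.node (nat_lit 31348) (.node (nat_lit 31280) l459 l460) (.node (nat_lit 31416) l461 (.node (nat_lit 31484) l462 l463)))))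
noncomputable def n24 : T := (.node (nat_lit 32164) (.node (nat_lit 31824) (.node (nat_lit 31688) (.node (nat_lit 31620) l464 l465) (.node (nat_lit 31756) l466 l467)) (.node (nat_lit 31960) (.node (nat_lit 31892) l468 l469) (.node (nat_lit 32028) l470 (.node (nat_lit 32096) l471 l472)))) (.node (nat_lit 32504) (.node (nat_lit 32300) (.node (nat_lit 32232) l473 l474) (.node (nat_lit 32368) l475 (.node (nat_lit 32436) l476 l477))) (.node (nat_lit 32640) (.node (nat_lit 32572) l478 l479) (.node (nat_lit 32708) l480 (.node (nat_lit 32776) l481 l482)))))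
noncomputable def n25 : T := (.node (nat_lit 33456) (.node (nat_lit 33116) (.node (nat_lit 32980) (.node (nat_lit 32912) l483 l484) (.node (nat_lit 33048) l485 l486)) (.node (nat_lit 33252) (.node (nat_lit 33184) l487 l488) (.node (nat_lit 33320) l489 (.node (nat_lit 33388) l490 l491)))) (.node (nat_lit 33796) (.node (nat_lit 33592) (.node (nat_lit 33524) l492 l493) (.node (nat_lit 33660) l494 (.node (nat_lit 33728) l495 l496))) (.node (nat_lit 33932) (.node (nat_lit 33864) l497 l498) (.node (nat_lit 34000) l499 (.node (nat_lit 34068) l500 l501)))))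
noncomputable def n26 : T := (.node (nat_lit 34748) (.node (nat_lit 34408) (.node (nat_lit 34272) (.node (nat_lit 34204) l502 l503) (.node (nat_lit 34340) l504 l505)) (.node (nat_lit 34544) (.node (nat_lit 34476) l506 l507) (.node (nat_lit 34612) l508 (.node (nat_lit 34680) l509 l510)))) (.node (nat_lit 35088) (.node (nat_lit 34884) (.node (nat_lit 34816) l511 l512) (.node (nat_lit 34952) l513 (.node (nat_lit 35020) l514 l515))) (.node (nat_lit 35224) (.node (nat_lit 35156) l516 l517) (.node (nat_lit 35292) l518 (.node (nat_lit 35360) l519 l520)))))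
noncomputable def n27 : T := (.node (nat_lit 36108) (.node (nat_lit 35768) (.node (nat_lit 35564) (.node (nat_lit 35496) l521 l522) (.node (nat_lit 35632) l523 (.node (nat_lit 35700) l524 l525))) (.node (nat_lit 35904) (.node (nat_lit 35836) l526 l527) (.node (nat_lit 35972) l528 (.node (nat_lit 36040) l529 l530)))) (.node (nat_lit 36448) (.node (nat_lit 36244) (.node (nat_lit 36176) l531 l532) (.node (nat_lit 36312) l533 (.node (nat_lit 36380) l534 l535))) (.node (nat_lit 36584) (.node (nat_lit 36516) l536 l537) (.node (nat_lit 36652) l538 (.node (nat_lit 36720) l539 l540)))))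
noncomputable def n28 : T := (.node (nat_lit 37400) (.node (nat_lit 37060) (.node (nat_lit 36924) (.node (nat_lit 36856) l541 l542) (.node (nat_lit 36992) l543 l544)) (.node (nat_lit 37196) (.node (nat_lit 37128) l545 l546) (.node (nat_lit 37264) l547 (.node (nat_lit 37332) l548 l549)))) (.node (nat_lit 37740) (.node (nat_lit 37536) (.node (nat_lit 37468) l550 l551) (.node (nat_lit 37604) l552 (.node (nat_lit 37672) l553 l554))) (.node (nat_lit 37876) (.node (nat_lit 37808) l555 l556) (.node (nat_lit 37944) l557 (.node (nat_lit 38012) l558 l559)))))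
noncomputable def n29 : T := (.node (nat_lit 38760) (.node (nat_lit 38420) (.node (nat_lit 38216) (.node (nat_lit 38148) l560 l561) (.node (nat_lit 38284) l562 (.node (nat_lit 38352) l563 l564))) (.node (nat_lit 38556) (.node (nat_lit 38488) l565 l566) (.node (nat_lit 38624) l567 (.node (nat_lit 38692) l568 l569)))) (.node (nat_lit 39100) (.node (nat_lit 38896) (.node (nat_lit 38828) l570 l571) (.node (nat_lit 38964) l572 (.node (nat_lit 39032) l573 l574))) (.node (nat_lit 39236) (.node (nat_lit 39168) l575 l576) (.node (nat_lit 39304) l577 (.node (nat_lit 39372) l578 l579)))))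
noncomputable def n30 : T := (.node (nat_lit 40052) (.node (nat_lit 39712) (.node (nat_lit 39576) (.node (nat_lit 39508) l580 l581) (.node (nat_lit 39644) l582 l583)) (.node (nat_lit 39848) (.node (nat_lit 39780) l584 l585) (.node (nat_lit 39916) l586 (.node (nat_lit 39984) l587 l588)))) (.node (nat_lit 40392) (.node (nat_lit 40188) (.node (nat_lit 40120) l589 l590) (.node (nat_lit 40256) l591 (.node (nat_lit 40324) l592 l593))) (.node (nat_lit 40528) (.node (nat_lit 40460) l594 l595) (.node (nat_lit 40596) l596 (.node (nat_lit 40664) l597 l598)))))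
noncomputable def n31 : T := (.node (nat_lit 41412) (.node (nat_lit 41072) (.node (nat_lit 40868) (.node (nat_lit 40800) l599 l600) (.node (nat_lit 40936) l601 (.node (nat_lit 41004) l602 l603))) (.node (nat_lit 41208) (.node (nat_lit 41140) l604 l605) (.node (nat_lit 41276) l606 (.node (nat_lit 41344) l607 l608)))) (.node (nat_lit 41752) (.node (nat_lit 41548) (.node (nat_lit 41480) l609 l610) (.node (nat_lit 41616) l611 (.node (nat_lit 41684) l612 l613))) (.node (nat_lit 41888) (.node (nat_lit 41820) l614 l615) (.node (nat_lit 41956) l616 (.node (nat_lit 42024) l617 l618)))))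
noncomputable def tb : T := (.node (nat_lit 21012) (.node (nat_lit 10472) (.node (nat_lit 5236) (.node (nat_lit 2584) (.node (nat_lit 1292) n0 n1) (.node (nat_lit 3876) n2 n3)) (.node (nat_lit 7820) (.node (nat_lit 6528) n4 n5) (.node (nat_lit 9112) n6 n7))) (.node (nat_lit 15708) (.node (nat_lit 13056) (.node (nat_lit 11764) n8 n9) (.node (nat_lit 14348) n10 n11)) (.node (nat_lit 18360) (.node (nat_lit 17000) n12 n13) (.node (nat_lit 19652) n14 n15)))) (.node (nat_lit 31552) (.node (nat_lit 26248) (.node (nat_lit 23596) (.node (nat_lit 22304) n16 n17) (.node (nat_lit 24888) n18 n19)) (.node (nat_lit 28900) (.node (nat_lit 27540) n20 n21) (.node (nat_lit 30192) n22 n23))) (.node (nat_lit 36788) (.node (nat_lit 34136) (.node (nat_lit 32844) n24 n25) (.node (nat_lit 35428) n26 n27)) (.node (nat_lit 39440) (.node (nat_lit 38080) n28 n29) (.node (nat_lit 40732) n30 n31)))))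
noncomputable def r0 : WT := (.node (nat_lit 6) (.leaf (nat_lit 41984) [nat_lit 84, nat_lit 224, nat_lit 56, nat_lit 84, nat_lit 224]) (.leaf (nat_lit 62464) [nat_lit 84, nat_lit 196, nat_lit 56, nat_lit 84, nat_lit 196]))
noncomputable def r1 : WT := (.node (nat_lit 8) (.leaf (nat_lit 41989) [nat_lit 224, nat_lit 84, nat_lit 56, nat_lit 224, nat_lit 84]) (.node (nat_lit 9) (.leaf (nat_lit 9216) [nat_lit 112, nat_lit 56, nat_lit 112, nat_lit 56, nat_lit 112, nat_lit 56, nat_lit 112]) (.leaf (nat_lit 62469) [nat_lit 196, nat_lit 84, nat_lit 56, nat_lit 196, nat_lit 84])))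
noncomputable def r2 : WT := (.leaf (nat_lit 65536) [nat_lit 140, nat_lit 196, nat_lit 112, nat_lit 224, nat_lit 56, nat_lit 140, nat_lit 196, nat_lit 112, nat_lit 224, nat_lit 56, nat_lit 140, nat_lit 196, nat_lit 112, nat_lit 224])
noncomputable def r3 : WT := (.leaf (nat_lit 65545) [nat_lit 224, nat_lit 112, nat_lit 196, nat_lit 140, nat_lit 56, nat_lit 224, nat_lit 112, nat_lit 196, nat_lit 140, nat_lit 56, nat_lit 224, nat_lit 112, nat_lit 196, nat_lit 140])
noncomputable def r4 : WT := (.node (nat_lit 20) (.leaf (nat_lit 44032) [nat_lit 112, nat_lit 168, nat_lit 56, nat_lit 112, nat_lit 168, nat_lit 56, nat_lit 112, nat_lit 168]) r3)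
noncomputable def r5 : WT := (.leaf (nat_lit 66560) [nat_lit 84, nat_lit 252, nat_lit 140, nat_lit 168, nat_lit 56, nat_lit 84, nat_lit 252, nat_lit 140, nat_lit 168, nat_lit 56, nat_lit 84, nat_lit 252, nat_lit 140, nat_lit 168])
noncomputable def r6 : WT := (.node (nat_lit 22) (.leaf (nat_lit 58368) [nat_lit 112, nat_lit 196, nat_lit 56, nat_lit 112, nat_lit 196, nat_lit 56, nat_lit 112, nat_lit 196]) (.node (nat_lit 23) (.leaf (nat_lit 53254) [nat_lit 140, nat_lit 56, nat_lit 84, nat_lit 140, nat_lit 56, nat_lit 140, nat_lit 56, nat_lit 84, nat_lit 140]) r5))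
noncomputable def r7 : WT := (.leaf (nat_lit 36864) [nat_lit 140, nat_lit 168, nat_lit 224, nat_lit 252, nat_lit 56, nat_lit 140, nat_lit 168, nat_lit 224, nat_lit 252, nat_lit 56, nat_lit 140, nat_lit 168, nat_lit 224, nat_lit 252, nat_lit 56, nat_lit 140, nat_lit 168, nat_lit 224, nat_lit 252])
noncomputable def r8 : WT := (.leaf (nat_lit 66569) [nat_lit 168, nat_lit 140, nat_lit 252, nat_lit 84, nat_lit 56, nat_lit 168, nat_lit 140, nat_lit 252, nat_lit 84, nat_lit 56, nat_lit 168, nat_lit 140, nat_lit 252, nat_lit 84])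
noncomputable def r9 : WT := (.leaf (nat_lit 36873) [nat_lit 252, nat_lit 224, nat_lit 168, nat_lit 140, nat_lit 56, nat_lit 252, nat_lit 224, nat_lit 168, nat_lit 140, nat_lit 56, nat_lit 252, nat_lit 224, nat_lit 168, nat_lit 140, nat_lit 56, nat_lit 252, nat_lit 224, nat_lit 168, nat_lit 140])
noncomputable def r10 : WT := (.node (nat_lit 26) (.node (nat_lit 25) r7 r8) (.node (nat_lit 27) (.leaf (nat_lit 69632) [nat_lit 84, nat_lit 196, nat_lit 224, nat_lit 196, nat_lit 56, nat_lit 84, nat_lit 196, nat_lit 224, nat_lit 196]) (.node (nat_lit 28) r9 (.leaf (nat_lit 53248) [nat_lit 84, nat_lit 140, nat_lit 56, nat_lit 140, nat_lit 56, nat_lit 84, nat_lit 140, nat_lit 56, nat_lit 140]))))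
noncomputable def r11 : WT := (.node (nat_lit 14) (.node (nat_lit 12) (.node (nat_lit 11) (.leaf (nat_lit 63493) [nat_lit 252, nat_lit 196, nat_lit 56, nat_lit 252, nat_lit 196]) (.leaf (nat_lit 44037) [nat_lit 168, nat_lit 112, nat_lit 56, nat_lit 168, nat_lit 112, nat_lit 56, nat_lit 168, nat_lit 112])) (.node (nat_lit 13) (.leaf (nat_lit 58373) [nat_lit 196, nat_lit 112, nat_lit 56, nat_lit 196, nat_lit 112, nat_lit 56, nat_lit 196, nat_lit 112]) (.leaf (nat_lit 13312) [nat_lit 224, nat_lit 56, nat_lit 224, nat_lit 56, nat_lit 224, nat_lit 56, nat_lit 224]))) (.node (nat_lit 18) (.node (nat_lit 16) (.node (nat_lit 15) (.leaf (nat_lit 12288) [nat_lit 196, nat_lit 56, nat_lit 196, nat_lit 56, nat_lit 196, nat_lit 56, nat_lit 196]) (.leaf (nat_lit 46080) [nat_lit 168, nat_lit 112, nat_lit 168, nat_lit 56, nat_lit 168, nat_lit 112, nat_lit 168])) (.node (nat_lit 17) (.leaf (nat_lit 61440) [nat_lit 196, nat_lit 112, nat_lit 196, nat_lit 56, nat_lit 196, nat_lit 112, nat_lit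 196]) (.leaf (nat_lit 63488) [nat_lit 196, nat_lit 252, nat_lit 56, nat_lit 196, nat_lit 252]))) (.node (nat_lit 21) (.node (nat_lit 19) r2 r4) (.node (nat_lit 24) r6 r10))))
noncomputable def w0 : WT := (.node (nat_lit 1) (.leaf (nat_lit 0) [nat_lit 56]) (.node (nat_lit 4) (.node (nat_lit 2) (.leaf (nat_lit 10240) [nat_lit 140, nat_lit 56, nat_lit 140]) (.node (nat_lit 3) (.leaf (nat_lit 8192) [nat_lit 84, nat_lit 56, nat_lit 84]) (.leaf (nat_lit 14336) [nat_lit 252, nat_lit 56, nat_lit 252]))) (.node (nat_lit 7) (.node (nat_lit 5) (.leaf (nat_lit 11264) [nat_lit 168, nat_lit 56, nat_lit 168, nat_lit 56, nat_lit 168]) r0) (.node (nat_lit 10) r1 r11))))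
noncomputable def r12 : WT := (.node (nat_lit 7) (.leaf (nat_lit 62467) [nat_lit 56, nat_lit 196, nat_lit 84, nat_lit 56, nat_lit 196]) (.leaf (nat_lit 38916) [nat_lit 252, nat_lit 84, nat_lit 140, nat_lit 84, nat_lit 252, nat_lit 84, nat_lit 140]))
noncomputable def r13 : WT := (.node (nat_lit 10) (.node (nat_lit 9) (.leaf (nat_lit 40960) [nat_lit 168, nat_lit 224, nat_lit 84, nat_lit 168, nat_lit 224]) (.leaf (nat_lit 39936) [nat_lit 140, nat_lit 224, nat_lit 140, nat_lit 84, nat_lit 140, nat_lit 224, nat_lit 140])) (.node (nat_lit 11) (.leaf (nat_lit 41987) [nat_lit 56, nat_lit 224, nat_lit 84, nat_lit 56, nat_lit 224]) (.leaf (nat_lit 52224) [nat_lit 224, nat_lit 140, nat_lit 252, nat_lit 224, nat_lit 84, nat_lit 224, nat_lit 140, nat_lit 252, nat_lit 224])))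
noncomputable def r14 : WT := (.node (nat_lit 21) (.leaf (nat_lit 37888) [nat_lit 140, nat_lit 224, nat_lit 84, nat_lit 140, nat_lit 224, nat_lit 84, nat_lit 140, nat_lit 224]) (.leaf (nat_lit 55296) [nat_lit 224, nat_lit 252, nat_lit 140, nat_lit 252, nat_lit 84, nat_lit 224, nat_lit 252, nat_lit 140, nat_lit 252]))
noncomputable def r15 : WT := (.leaf (nat_lit 66567) [nat_lit 56, nat_lit 168, nat_lit 140, nat_lit 252, nat_lit 84, nat_lit 56, nat_lit 168, nat_lit 140, nat_lit 252, nat_lit 84, nat_lit 56, nat_lit 168, nat_lit 140, nat_lit 252])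
noncomputable def r16 : WT := (.node (nat_lit 23) (.leaf (nat_lit 37893) [nat_lit 224, nat_lit 140, nat_lit 84, nat_lit 224, nat_lit 140, nat_lit 84, nat_lit 224, nat_lit 140]) r15)
noncomputable def r17 : WT := (.node (nat_lit 25) (.leaf (nat_lit 57348) [nat_lit 140, nat_lit 168, nat_lit 84, nat_lit 140, nat_lit 84, nat_lit 140, nat_lit 168, nat_lit 84, nat_lit 140]) (.node (nat_lit 26) (.leaf (nat_lit 43008) [nat_lit 112, nat_lit 224, nat_lit 84, nat_lit 112, nat_lit 224, nat_lit 84, nat_lit 112, nat_lit 224, nat_lit 84, nat_lit 112, nat_lit 224]) (.leaf (nat_lit 43013) [nat_lit 224, nat_lit 112, nat_lit 84, nat_lit 224, nat_lit 112, nat_lit 84, nat_lit 224, nat_lit 112, nat_lit 84, nat_lit 224, nat_lit 112])))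
noncomputable def r18 : WT := (.node (nat_lit 29) (.node (nat_lit 28) (.leaf (nat_lit 57349) [nat_lit 140, nat_lit 84, nat_lit 168, nat_lit 140, nat_lit 84, nat_lit 140, nat_lit 84, nat_lit 168, nat_lit 140]) (.leaf (nat_lit 52233) [nat_lit 224, nat_lit 252, nat_lit 140, nat_lit 224, nat_lit 84, nat_lit 224, nat_lit 252, nat_lit 140, nat_lit 224])) (.node (nat_lit 30) (.leaf (nat_lit 48128) [nat_lit 168, nat_lit 84, nat_lit 168, nat_lit 252, nat_lit 84, nat_lit 168, nat_lit 84, nat_lit 168, nat_lit 252]) (.node (nat_lit 31) (.leaf (nat_lit 67584) [nat_lit 112, nat_lit 140, nat_lit 224, nat_lit 140, nat_lit 84, nat_lit 112, nat_lit 140, nat_lit 224, nat_lit 140]) (.leaf (nat_lit 49152) [nat_lit 168, nat_lit 196, nat_lit 140, nat_lit 196, nat_lit 84, nat_lit 168, nat_lit 196, nat_lit 140, nat_lit 196]))))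
noncomputable def r19 : WT := (.leaf (nat_lit 66562) [nat_lit 252, nat_lit 140, nat_lit 168, nat_lit 56, nat_lit 84, nat_lit 252, nat_lit 140, nat_lit 168, nat_lit 56, nat_lit 84, nat_lit 252, nat_lit 140, nat_lit 168, nat_lit 56])
noncomputable def r20 : WT := (.node (nat_lit 35) (.node (nat_lit 33) (.leaf (nat_lit 69639) [nat_lit 56, nat_lit 196, nat_lit 224, nat_lit 196, nat_lit 84, nat_lit 56, nat_lit 196, nat_lit 224, nat_lit 196]) (.node (nat_lit 34) (.leaf (nat_lit 55305) [nat_lit 252, nat_lit 140, nat_lit 252, nat_lit 224, nat_lit 84, nat_lit 252, nat_lit 140, nat_lit 252, nat_lit 224]) (.leaf (nat_lit 54281) [nat_lit 252, nat_lit 196, nat_lit 252, nat_lit 196, nat_lit 84, nat_lit 252, nat_lit 196, nat_lit 252, nat_lit 196]))) (.node (nat_lit 37) (.node (nat_lit 36) (.leaf (nat_lit 51200) [nat_lit 168, nat_lit 84, nat_lit 168, nat_lit 196, nat_lit 84, nat_lit 168, nat_lit 84, nat_lit 168, nat_lit 196]) r19) (.node (nat_lit 39) (.node (nat_lit 38) (.leaf (nat_lit 49161)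 [nat_lit 196, nat_lit 140, nat_lit 196, nat_lit 168, nat_lit 84, nat_lit 196, nat_lit 140, nat_lit 196, nat_lit 168]) (.leaf (nat_lit 69634) [nat_lit 196, nat_lit 224, nat_lit 196, nat_lit 56, nat_lit 84, nat_lit 196, nat_lit 224, nat_lit 196, nat_lit 56])) (.node (nat_lit 40) (.leaf (nat_lit 57344) [nat_lit 140, nat_lit 84, nat_lit 140, nat_lit 168, nat_lit 84, nat_lit 140, nat_lit 84, nat_lit 140, nat_lit 168]) (.leaf (nat_lit 57353) [nat_lit 168, nat_lit 140, nat_lit 84, nat_lit 140, nat_lit 84, nat_lit 168, nat_lit 140, nat_lit 84, nat_lit 140])))))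
noncomputable def r21 : WT := (.node (nat_lit 17) (.node (nat_lit 14) (.node (nat_lit 13) (.leaf (nat_lit 62466) [nat_lit 196, nat_lit 56, nat_lit 84, nat_lit 196, nat_lit 56]) (.leaf (nat_lit 19456) [nat_lit 224, nat_lit 84, nat_lit 224, nat_lit 84, nat_lit 224, nat_lit 84, nat_lit 224])) (.node (nat_lit 15) (.leaf (nat_lit 41986) [nat_lit 224, nat_lit 56, nat_lit 84, nat_lit 224, nat_lit 56]) (.node (nat_lit 16) (.leaf (nat_lit 38912) [nat_lit 140, nat_lit 84, nat_lit 252, nat_lit 84, nat_lit 140, nat_lit 84, nat_lit 252]) (.leaf (nat_lit 18432) [nat_lit 196, nat_lit 84, nat_lit 196, nat_lit 84, nat_lit 196, nat_lit 84, nat_lit 196])))) (.node (nat_lit 22) (.node (nat_lit 19) (.node (nat_lit 18) (.leaf (nat_lit 40965) [nat_lit 224, nat_lit 168, nat_lit 84, nat_lit 224, nat_lit 168]) (.leaf (nat_lit 54272) [nat_lit 196, nat_lit 252, nat_lit 196, nat_lit 252, nat_lit 84, nat_lit 196, nat_lit 252, nat_lit 196, nat_lit 252])) (.node (nat_lit 20) (.leaf (nat_lit 67593) [nat_lit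 140, nat_lit 224, nat_lit 140, nat_lit 112, nat_lit 84, nat_lit 140, nat_lit 224, nat_lit 140, nat_lit 112]) r14)) (.node (nat_lit 27) (.node (nat_lit 24) r16 r17) (.node (nat_lit 32) r18 r20))))
noncomputable def w1 : WT := (.node (nat_lit 1) (.leaf (nat_lit 1024) [nat_lit 84]) (.node (nat_lit 5) (.node (nat_lit 3) (.node (nat_lit 2) (.leaf (nat_lit 8194) [nat_lit 56, nat_lit 84, nat_lit 56]) (.leaf (nat_lit 17408) [nat_lit 168, nat_lit 84, nat_lit 168])) (.node (nat_lit 4) (.leaf (nat_lit 15360) [nat_lit 112, nat_lit 84, nat_lit 112]) (.leaf (nat_lit 16384) [nat_lit 140, nat_lit 84, nat_lit 140, nat_lit 84, nat_lit 140, nat_lit 84, nat_lit 140]))) (.node (nat_lit 8) (.node (nat_lit 6) (.leaf (nat_lit 20480) [nat_lit 252, nat_lit 84, nat_lit 252, nat_lit 84, nat_lit 252]) r12) (.node (nat_lit 12) r13 r21))))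
noncomputable def r22 : WT := (.node (nat_lit 6) (.leaf (nat_lit 24576) [nat_lit 224, nat_lit 112, nat_lit 224, nat_lit 112, nat_lit 224, nat_lit 112, nat_lit 224]) (.leaf (nat_lit 9218) [nat_lit 56, nat_lit 112, nat_lit 56, nat_lit 112, nat_lit 56, nat_lit 112, nat_lit 56]))
noncomputable def r23 : WT := (.node (nat_lit 8) (.leaf (nat_lit 22528) [nat_lit 168, nat_lit 112, nat_lit 168, nat_lit 112, nat_lit 168, nat_lit 112, nat_lit 168]) (.leaf (nat_lit 46084) [nat_lit 168, nat_lit 56, nat_lit 168, nat_lit 112, nat_lit 168, nat_lit 56, nat_lit 168]))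
noncomputable def r24 : WT := (.node (nat_lit 11) (.node (nat_lit 10) (.leaf (nat_lit 59392) [nat_lit 140, nat_lit 224, nat_lit 140, nat_lit 112, nat_lit 140, nat_lit 224, nat_lit 140]) (.leaf (nat_lit 45056) [nat_lit 224, nat_lit 140, nat_lit 224, nat_lit 112, nat_lit 224, nat_lit 140, nat_lit 224])) (.node (nat_lit 12) (.leaf (nat_lit 68612) [nat_lit 196, nat_lit 112, nat_lit 140, nat_lit 112, nat_lit 196, nat_lit 112, nat_lit 140]) (.leaf (nat_lit 58370) [nat_lit 196, nat_lit 56, nat_lit 112, nat_lit 196, nat_lit 56, nat_lit 112, nat_lit 196, nat_lit 56])))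
noncomputable def r25 : WT := (.leaf (nat_lit 65539) [nat_lit 196, nat_lit 140, nat_lit 56, nat_lit 224, nat_lit 112, nat_lit 196, nat_lit 140, nat_lit 56, nat_lit 224, nat_lit 112, nat_lit 196, nat_lit 140, nat_lit 56, nat_lit 224])
noncomputable def r26 : WT := (.leaf (nat_lit 65542) [nat_lit 224, nat_lit 56, nat_lit 140, nat_lit 196, nat_lit 112, nat_lit 224, nat_lit 56, nat_lit 140, nat_lit 196, nat_lit 112, nat_lit 224, nat_lit 56, nat_lit 140, nat_lit 196])
noncomputable def r27 : WT := (.node (nat_lit 22) (.leaf (nat_lit 67586) [nat_lit 140, nat_lit 224, nat_lit 140, nat_lit 84, nat_lit 112, nat_lit 140, nat_lit 224, nat_lit 140, nat_lit 84]) (.leaf (nat_lit 43010) [nat_lit 224, nat_lit 84, nat_lit 112, nat_lit 224, nat_lit 84, nat_lit 112, nat_lit 224, nat_lit 84, nat_lit 112, nat_lit 224, nat_lit 84]))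
noncomputable def r28 : WT := (.node (nat_lit 24) (.leaf (nat_lit 61444) [nat_lit 196, nat_lit 56, nat_lit 196, nat_lit 112, nat_lit 196, nat_lit 56, nat_lit 196]) (.leaf (nat_lit 64517) [nat_lit 168, nat_lit 140, nat_lit 112, nat_lit 168, nat_lit 140, nat_lit 112, nat_lit 168, nat_lit 140, nat_lit 112, nat_lit 168, nat_lit 140]))
noncomputable def r29 : WT := (.node (nat_lit 26) (.leaf (nat_lit 58371) [nat_lit 56, nat_lit 196, nat_lit 112, nat_lit 56, nat_lit 196, nat_lit 112, nat_lit 56, nat_lit 196]) (.leaf (nat_lit 67591) [nat_lit 84, nat_lit 140, nat_lit 224, nat_lit 140, nat_lit 112, nat_lit 84, nat_lit 140, nat_lit 224, nat_lit 140]))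
noncomputable def r30 : WT := (.node (nat_lit 17) (.node (nat_lit 14) (.leaf (nat_lit 44034) [nat_lit 168, nat_lit 56, nat_lit 112, nat_lit 168, nat_lit 56, nat_lit 112, nat_lit 168, nat_lit 56]) (.node (nat_lit 15) (.leaf (nat_lit 64512) [nat_lit 140, nat_lit 168, nat_lit 112, nat_lit 140, nat_lit 168, nat_lit 112, nat_lit 140, nat_lit 168, nat_lit 112, nat_lit 140, nat_lit 168]) (.node (nat_lit 16) (.leaf (nat_lit 43011) [nat_lit 84, nat_lit 224, nat_lit 112, nat_lit 84, nat_lit 224, nat_lit 112, nat_lit 84, nat_lit 224, nat_lit 112, nat_lit 84, nat_lit 224]) r25))) (.node (nat_lit 20) (.node (nat_lit 18) (.leaf (nat_lit 44035) [nat_lit 56, nat_lit 168, nat_lit 112, nat_lit 56, nat_lit 168, nat_lit 112, nat_lit 56, nat_lit 168]) (.node (nat_lit 19) (.leaf (nat_lit 60416) [nat_lit 196, nat_lit 140, nat_lit 196, nat_lit 112, nat_lit 196, nat_lit 140, nat_lit 196]) (.leaf (nat_lit 68608) [nat_lit 140, nat_lit 112, nat_lit 196, nat_lit 112, nat_lit 140, nat_lit 112, nat_lit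 196]))) (.node (nat_lit 23) (.node (nat_lit 21) r26 r27) (.node (nat_lit 25) r28 r29))))
noncomputable def w2 : WT := (.node (nat_lit 1) (.leaf (nat_lit 2048) [nat_lit 112]) (.node (nat_lit 5) (.node (nat_lit 3) (.node (nat_lit 2) (.leaf (nat_lit 15362) [nat_lit 84, nat_lit 112, nat_lit 84]) (.leaf (nat_lit 25600) [nat_lit 252, nat_lit 112, nat_lit 252])) (.node (nat_lit 4) (.leaf (nat_lit 23552) [nat_lit 196, nat_lit 112, nat_lit 196, nat_lit 112, nat_lit 196]) (.leaf (nat_lit 21504) [nat_lit 140, nat_lit 112, nat_lit 140, nat_lit 112, nat_lit 140, nat_lit 112, nat_lit 140]))) (.node (nat_lit 9) (.node (nat_lit 7) r22 r23) (.node (nat_lit 13) r24 r30))))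
noncomputable def r31 : WT := (.node (nat_lit 5) (.leaf (nat_lit 28672) [nat_lit 224, nat_lit 140, nat_lit 224, nat_lit 140, nat_lit 224]) (.leaf (nat_lit 27648) [nat_lit 196, nat_lit 140, nat_lit 196, nat_lit 140, nat_lit 196, nat_lit 140, nat_lit 196]))
noncomputable def r32 : WT := (.node (nat_lit 7) (.leaf (nat_lit 60420) [nat_lit 196, nat_lit 112, nat_lit 196, nat_lit 140, nat_lit 196, nat_lit 112, nat_lit 196]) (.node (nat_lit 8) (.leaf (nat_lit 38914) [nat_lit 84, nat_lit 252, nat_lit 84, nat_lit 140, nat_lit 84, nat_lit 252, nat_lit 84]) (.leaf (nat_lit 29696) [nat_lit 252, nat_lit 140, nat_lit 252, nat_lit 140, nat_lit 252, nat_lit 140, nat_lit 252])))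
noncomputable def r33 : WT := (.node (nat_lit 11) (.node (nat_lit 10) (.leaf (nat_lit 21506) [nat_lit 112, nat_lit 140, nat_lit 112, nat_lit 140, nat_lit 112, nat_lit 140, nat_lit 112]) (.leaf (nat_lit 39938) [nat_lit 224, nat_lit 140, nat_lit 84, nat_lit 140, nat_lit 224, nat_lit 140, nat_lit 84])) (.node (nat_lit 12) (.leaf (nat_lit 59394) [nat_lit 224, nat_lit 140, nat_lit 112, nat_lit 140, nat_lit 224, nat_lit 140, nat_lit 112]) (.leaf (nat_lit 55302) [nat_lit 252, nat_lit 84, nat_lit 224, nat_lit 252, nat_lit 140, nat_lit 252, nat_lit 84, nat_lit 224, nat_lit 252])))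
noncomputable def r34 : WT := (.leaf (nat_lit 66566) [nat_lit 168, nat_lit 56, nat_lit 84, nat_lit 252, nat_lit 140, nat_lit 168, nat_lit 56, nat_lit 84, nat_lit 252, nat_lit 140, nat_lit 168, nat_lit 56, nat_lit 84, nat_lit 252])
noncomputable def r35 : WT := (.node (nat_lit 20) (.leaf (nat_lit 56320) [nat_lit 168, nat_lit 140, nat_lit 168, nat_lit 252, nat_lit 140, nat_lit 168, nat_lit 140, nat_lit 168, nat_lit 252]) r34)
noncomputable def r36 : WT := (.leaf (nat_lit 65543) [nat_lit 56, nat_lit 224, nat_lit 112, nat_lit 196, nat_lit 140, nat_lit 56, nat_lit 224, nat_lit 112, nat_lit 196, nat_lit 140, nat_lit 56, nat_lit 224, nat_lit 112, nat_lit 196])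
noncomputable def r37 : WT := (.node (nat_lit 23) r36 (.leaf (nat_lit 55299) [nat_lit 252, nat_lit 224, nat_lit 84, nat_lit 252, nat_lit 140, nat_lit 252, nat_lit 224, nat_lit 84, nat_lit 252]))
noncomputable def r38 : WT := (.leaf (nat_lit 65538) [nat_lit 196, nat_lit 112, nat_lit 224, nat_lit 56, nat_lit 140, nat_lit 196, nat_lit 112, nat_lit 224, nat_lit 56, nat_lit 140, nat_lit 196, nat_lit 112, nat_lit 224, nat_lit 56])
noncomputable def r39 : WT := (.node (nat_lit 25) (.leaf (nat_lit 37890) [nat_lit 224, nat_lit 84, nat_lit 140, nat_lit 224, nat_lit 84, nat_lit 140, nat_lit 224, nat_lit 84]) r38)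
noncomputable def r40 : WT := (.node (nat_lit 28) (.node (nat_lit 27) (.leaf (nat_lit 53252) [nat_lit 56, nat_lit 140, nat_lit 56, nat_lit 84, nat_lit 140, nat_lit 56, nat_lit 140, nat_lit 56, nat_lit 84]) (.leaf (nat_lit 67588) [nat_lit 224, nat_lit 140, nat_lit 84, nat_lit 112, nat_lit 140, nat_lit 224, nat_lit 140, nat_lit 84, nat_lit 112])) (.node (nat_lit 29) (.leaf (nat_lit 64515) [nat_lit 112, nat_lit 168, nat_lit 140, nat_lit 112, nat_lit 168, nat_lit 140, nat_lit 112, nat_lit 168, nat_lit 140, nat_lit 112, nat_lit 168]) (.leaf (nat_lit 57347) [nat_lit 84, nat_lit 140, nat_lit 84, nat_lit 168, nat_lit 140, nat_lit 84, nat_lit 140, nat_lit 84, nat_lit 168])))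
noncomputable def r41 : WT := (.leaf (nat_lit 66563) [nat_lit 252, nat_lit 84, nat_lit 56, nat_lit 168, nat_lit 140, nat_lit 252, nat_lit 84, nat_lit 56, nat_lit 168, nat_lit 140, nat_lit 252, nat_lit 84, nat_lit 56, nat_lit 168])
noncomputable def r42 : WT := (.node (nat_lit 32) (.node (nat_lit 31) (.leaf (nat_lit 67585) [nat_lit 224, nat_lit 140, nat_lit 112, nat_lit 84, nat_lit 140, nat_lit 224, nat_lit 140, nat_lit 112, nat_lit 84]) (.leaf (nat_lit 57346) [nat_lit 84, nat_lit 140, nat_lit 168, nat_lit 84, nat_lit 140, nat_lit 84, nat_lit 140, nat_lit 168, nat_lit 84])) (.node (nat_lit 33) r41 (.node (nat_lit 34) (.leaf (nat_lit 47104) [nat_lit 196, nat_lit 140, nat_lit 224, nat_lit 140, nat_lit 196, nat_lit 140, nat_lit 224, nat_lit 140, nat_lit 196, nat_lit 140, nat_lit 224]) (.leaf (nat_lit 64514) [nat_lit 168, nat_lit 112, nat_lit 140, nat_lit 168, nat_lit 112, nat_lit 140, nat_lit 168, nat_lit 112, nat_lit 140, nat_lit 168, nat_lit 112]))))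
noncomputable def r43 : WT := (.leaf (nat_lit 36871) [nat_lit 56, nat_lit 252, nat_lit 224, nat_lit 168, nat_lit 140, nat_lit 56, nat_lit 252, nat_lit 224, nat_lit 168, nat_lit 140, nat_lit 56, nat_lit 252, nat_lit 224, nat_lit 168, nat_lit 140, nat_lit 56, nat_lit 252, nat_lit 224, nat_lit 168])
noncomputable def r44 : WT := (.leaf (nat_lit 36866) [nat_lit 168, nat_lit 224, nat_lit 252, nat_lit 56, nat_lit 140, nat_lit 168, nat_lit 224, nat_lit 252, nat_lit 56, nat_lit 140, nat_lit 168, nat_lit 224, nat_lit 252, nat_lit 56, nat_lit 140, nat_lit 168, nat_lit 224, nat_lit 252, nat_lit 56])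
noncomputable def r45 : WT := (.node (nat_lit 44) (.leaf (nat_lit 49155) [nat_lit 196, nat_lit 168, nat_lit 84, nat_lit 196, nat_lit 140, nat_lit 196, nat_lit 168, nat_lit 84, nat_lit 196]) (.node (nat_lit 45) (.leaf (nat_lit 67589) [nat_lit 112, nat_lit 84, nat_lit 140, nat_lit 224, nat_lit 140, nat_lit 112, nat_lit 84, nat_lit 140, nat_lit 224]) (.leaf (nat_lit 57351) [nat_lit 84, nat_lit 168, nat_lit 140, nat_lit 84, nat_lit 140, nat_lit 84, nat_lit 168, nat_lit 140, nat_lit 84])))
noncomputable def r46 : WT := (.node (nat_lit 39) (.node (nat_lit 37) (.node (nat_lit 36) (.leaf (nat_lit 50178) [nat_lit 168, nat_lit 140, nat_lit 168, nat_lit 112, nat_lit 140, nat_lit 168, nat_lit 140, nat_lit 168, nat_lit 112]) r43) (.node (nat_lit 38) (.leaf (nat_lit 53256) [nat_lit 56, nat_lit 84, nat_lit 140, nat_lit 56, nat_lit 140, nat_lit 56, nat_lit 84, nat_lit 140, nat_lit 56]) (.leaf (nat_lit 52228) [nat_lit 252, nat_lit 224, nat_lit 84, nat_lit 224, nat_lit 140, nat_lit 252, nat_lit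 224, nat_lit 84, nat_lit 224]))) (.node (nat_lit 41) (.node (nat_lit 40) r44 (.leaf (nat_lit 57350) [nat_lit 168, nat_lit 84, nat_lit 140, nat_lit 84, nat_lit 140, nat_lit 168, nat_lit 84, nat_lit 140, nat_lit 84])) (.node (nat_lit 42) (.leaf (nat_lit 37891) [nat_lit 84, nat_lit 224, nat_lit 140, nat_lit 84, nat_lit 224, nat_lit 140, nat_lit 84, nat_lit 224]) (.node (nat_lit 43) (.leaf (nat_lit 67592) [nat_lit 84, nat_lit 112, nat_lit 140, nat_lit 224, nat_lit 140, nat_lit 84, nat_lit 112, nat_lit 140, nat_lit 224]) r45))))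
noncomputable def r47 : WT := (.node (nat_lit 18) (.node (nat_lit 15) (.node (nat_lit 14) (.leaf (nat_lit 49158) [nat_lit 196, nat_lit 84, nat_lit 168, nat_lit 196, nat_lit 140, nat_lit 196, nat_lit 84, nat_lit 168, nat_lit 196]) (.leaf (nat_lit 68610) [nat_lit 112, nat_lit 196, nat_lit 112, nat_lit 140, nat_lit 112, nat_lit 196, nat_lit 112])) (.node (nat_lit 16) (.leaf (nat_lit 47108) [nat_lit 224, nat_lit 140, nat_lit 196, nat_lit 140, nat_lit 224, nat_lit 140, nat_lit 196, nat_lit 140, nat_lit 224, nat_lit 140, nat_lit 196]) (.node (nat_lit 17) (.leaf (nat_lit 39942) [nat_lit 84, nat_lit 140, nat_lit 224, nat_lit 140, nat_lit 84, nat_lit 140, nat_lit 224]) (.leaf (nat_lit 52229) [nat_lit 224, nat_lit 84, nat_lit 224, nat_lit 252, nat_lit 140, nat_lit 224, nat_lit 84, nat_lit 224, nat_lit 252])))) (.node (nat_lit 24) (.node (nat_lit 21) (.node (nat_lit 19) (.leaf (nat_lit 45060) [nat_lit 224, nat_lit 112, nat_lit 224, nat_lit 140, nat_lit 224, nat_lit 112, nat_lit 224])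 r35) (.node (nat_lit 22) (.leaf (nat_lit 59398) [nat_lit 112, nat_lit 140, nat_lit 224, nat_lit 140, nat_lit 112, nat_lit 140, nat_lit 224]) r37)) (.node (nat_lit 30) (.node (nat_lit 26) r39 r40) (.node (nat_lit 35) r42 r46))))
noncomputable def w3 : WT := (.node (nat_lit 1) (.leaf (nat_lit 3072) [nat_lit 140]) (.node (nat_lit 4) (.node (nat_lit 2) (.leaf (nat_lit 10242) [nat_lit 56, nat_lit 140, nat_lit 56]) (.node (nat_lit 3) (.leaf (nat_lit 26624) [nat_lit 168, nat_lit 140, nat_lit 168]) (.leaf (nat_lit 16386) [nat_lit 84, nat_lit 140, nat_lit 84, nat_lit 140, nat_lit 84, nat_lit 140, nat_lit 84]))) (.node (nat_lit 9) (.node (nat_lit 6) r31 r32) (.node (nat_lit 13) r33 r47))))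
noncomputable def r48 : WT := (.node (nat_lit 5) (.leaf (nat_lit 32768) [nat_lit 252, nat_lit 168, nat_lit 252]) (.leaf (nat_lit 11266) [nat_lit 56, nat_lit 168, nat_lit 56, nat_lit 168, nat_lit 56]))
noncomputable def r49 : WT := (.node (nat_lit 8) (.node (nat_lit 7) (.leaf (nat_lit 22530) [nat_lit 112, nat_lit 168, nat_lit 112, nat_lit 168, nat_lit 112, nat_lit 168, nat_lit 112]) (.leaf (nat_lit 30720) [nat_lit 196, nat_lit 168, nat_lit 196, nat_lit 168, nat_lit 196, nat_lit 168, nat_lit 196, nat_lit 168, nat_lit 196])) (.node (nat_lit 9) (.leaf (nat_lit 40962) [nat_lit 224, nat_lit 84, nat_lit 168, nat_lit 224, nat_lit 84]) (.leaf (nat_lit 46086) [nat_lit 56, nat_lit 168, nat_lit 112, nat_lit 168, nat_lit 56, nat_lit 168, nat_lit 112])))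
noncomputable def r50 : WT := (.leaf (nat_lit 36869) [nat_lit 140, nat_lit 56, nat_lit 252, nat_lit 224, nat_lit 168, nat_lit 140, nat_lit 56, nat_lit 252, nat_lit 224, nat_lit 168, nat_lit 140, nat_lit 56, nat_lit 252, nat_lit 224, nat_lit 168, nat_lit 140, nat_lit 56, nat_lit 252, nat_lit 224])
noncomputable def r51 : WT := (.leaf (nat_lit 66561) [nat_lit 140, nat_lit 252, nat_lit 84, nat_lit 56, nat_lit 168, nat_lit 140, nat_lit 252, nat_lit 84, nat_lit 56, nat_lit 168, nat_lit 140, nat_lit 252, nat_lit 84, nat_lit 56])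
noncomputable def r52 : WT := (.node (nat_lit 21) (.leaf (nat_lit 64516) [nat_lit 112, nat_lit 140, nat_lit 168, nat_lit 112, nat_lit 140, nat_lit 168, nat_lit 112, nat_lit 140, nat_lit 168, nat_lit 112, nat_lit 140]) (.leaf (nat_lit 50184) [nat_lit 112, nat_lit 140, nat_lit 168, nat_lit 140, nat_lit 168, nat_lit 112, nat_lit 140, nat_lit 168, nat_lit 140]))
noncomputable def r53 : WT := (.node (nat_lit 23) (.leaf (nat_lit 56322) [nat_lit 140, nat_lit 168, nat_lit 252, nat_lit 140, nat_lit 168, nat_lit 140, nat_lit 168, nat_lit 252, nat_lit 140]) (.leaf (nat_lit 44036) [nat_lit 56, nat_lit 112, nat_lit 168, nat_lit 56, nat_lit 112, nat_lit 168, nat_lit 56, nat_lit 112]))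
noncomputable def r54 : WT := (.node (nat_lit 25) (.leaf (nat_lit 51206) [nat_lit 196, nat_lit 84, nat_lit 168, nat_lit 84, nat_lit 168, nat_lit 196, nat_lit 84, nat_lit 168, nat_lit 84]) (.leaf (nat_lit 50180) [nat_lit 140, nat_lit 168, nat_lit 112, nat_lit 140, nat_lit 168, nat_lit 140, nat_lit 168, nat_lit 112, nat_lit 140]))
noncomputable def r55 : WT := (.leaf (nat_lit 66568) [nat_lit 56, nat_lit 84, nat_lit 252, nat_lit 140, nat_lit 168, nat_lit 56, nat_lit 84, nat_lit 252, nat_lit 140, nat_lit 168, nat_lit 56, nat_lit 84, nat_lit 252, nat_lit 140])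
noncomputable def r56 : WT := (.leaf (nat_lit 36868) [nat_lit 224, nat_lit 252, nat_lit 56, nat_lit 140, nat_lit 168, nat_lit 224, nat_lit 252, nat_lit 56, nat_lit 140, nat_lit 168, nat_lit 224, nat_lit 252, nat_lit 56, nat_lit 140, nat_lit 168, nat_lit 224, nat_lit 252, nat_lit 56, nat_lit 140])
noncomputable def r57 : WT := (.node (nat_lit 27) r55 (.node (nat_lit 28) r56 (.leaf (nat_lit 50181) [nat_lit 140, nat_lit 112, nat_lit 168, nat_lit 140, nat_lit 168, nat_lit 140, nat_lit 112, nat_lit 168, nat_lit 140])))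
noncomputable def r58 : WT := (.node (nat_lit 31) (.node (nat_lit 30) (.leaf (nat_lit 48134) [nat_lit 252, nat_lit 84, nat_lit 168, nat_lit 84, nat_lit 168, nat_lit 252, nat_lit 84, nat_lit 168, nat_lit 84]) (.leaf (nat_lit 50177) [nat_lit 140, nat_lit 168, nat_lit 140, nat_lit 112, nat_lit 168, nat_lit 140, nat_lit 168, nat_lit 140, nat_lit 112])) (.node (nat_lit 32) (.leaf (nat_lit 57345) [nat_lit 140, nat_lit 84, nat_lit 140, nat_lit 84, nat_lit 168, nat_lit 140, nat_lit 84, nat_lit 140, nat_lit 84]) (.node (nat_lit 33) (.leaf (nat_lit 56326) [nat_lit 252, nat_lit 140, nat_lit 168, nat_lit 140, nat_lit 168, nat_lit 252, nat_lit 140, nat_lit 168, nat_lit 140]) (.node (nat_lit 34) (.leaf (nat_lit 51202) [nat_lit 84, nat_lit 168, nat_lit 196, nat_lit 84, nat_lit 168, nat_lit 84, nat_lit 168, nat_lit 196, nat_lit 84]) (.leaf (nat_lit 51207) [nat_lit 84, nat_lit 196, nat_lit 168, nat_lit 84, nat_lit 168, nat_lit 84, nat_lit 196, nat_lit 168, nat_lit 84])))))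
noncomputable def r59 : WT := (.node (nat_lit 17) (.node (nat_lit 13) (.node (nat_lit 11) (.leaf (nat_lit 31744) [nat_lit 224, nat_lit 168, nat_lit 224, nat_lit 168, nat_lit 224, nat_lit 168, nat_lit 224]) (.node (nat_lit 12) (.leaf (nat_lit 46082) [nat_lit 112, nat_lit 168, nat_lit 56, nat_lit 168, nat_lit 112, nat_lit 168, nat_lit 56]) (.leaf (nat_lit 49159) [nat_lit 84, nat_lit 196, nat_lit 140, nat_lit 196, nat_lit 168, nat_lit 84, nat_lit 196, nat_lit 140, nat_lit 196]))) (.node (nat_lit 15) (.node (nat_lit 14) (.leaf (nat_lit 49154) [nat_lit 196, nat_lit 140, nat_lit 196, nat_lit 84, nat_lit 168, nat_lit 196, nat_lit 140, nat_lit 196, nat_lit 84]) (.leaf (nat_lit 57352) [nat_lit 84, nat_lit 140, nat_lit 84, nat_lit 140, nat_lit 168, nat_lit 84, nat_lit 140, nat_lit 84, nat_lit 140])) (.node (nat_lit 16) r50 (.leaf (nat_lit 64513) [nat_lit 140, nat_lit 112, nat_lit 168, nat_lit 140, nat_lit 112, nat_lit 168, nat_lit 140, nat_lit 112, nat_lit 168, nat_lit 140, nat_lit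 112])))) (.node (nat_lit 22) (.node (nat_lit 19) (.node (nat_lit 18) (.leaf (nat_lit 44033) [nat_lit 112, nat_lit 56, nat_lit 168, nat_lit 112, nat_lit 56, nat_lit 168, nat_lit 112, nat_lit 56]) (.leaf (nat_lit 48130) [nat_lit 84, nat_lit 168, nat_lit 252, nat_lit 84, nat_lit 168, nat_lit 84, nat_lit 168, nat_lit 252, nat_lit 84])) (.node (nat_lit 20) r51 r52)) (.node (nat_lit 26) (.node (nat_lit 24) r53 r54) (.node (nat_lit 29) r57 r58))))
noncomputable def w4 : WT := (.node (nat_lit 1) (.leaf (nat_lit 4096) [nat_lit 168]) (.node (nat_lit 3) (.node (nat_lit 2) (.leaf (nat_lit 26626) [nat_lit 140, nat_lit 168, nat_lit 140]) (.leaf (nat_lit 17410) [nat_lit 84, nat_lit 168, nat_lit 84])) (.node (nat_lit 6) (.node (nat_lit 4) (.leaf (nat_lit 40963) [nat_lit 84, nat_lit 224, nat_lit 168, nat_lit 84, nat_lit 224]) r48) (.node (nat_lit 10) r49 r59))))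
noncomputable def r60 : WT := (.node (nat_lit 5) (.leaf (nat_lit 23554) [nat_lit 112, nat_lit 196, nat_lit 112, nat_lit 196, nat_lit 112]) (.leaf (nat_lit 62468) [nat_lit 56, nat_lit 84, nat_lit 196, nat_lit 56, nat_lit 84]))
noncomputable def r61 : WT := (.node (nat_lit 7) (.leaf (nat_lit 33792) [nat_lit 224, nat_lit 196, nat_lit 224, nat_lit 196, nat_lit 224, nat_lit 196, nat_lit 224]) (.leaf (nat_lit 63490) [nat_lit 252, nat_lit 56, nat_lit 196, nat_lit 252, nat_lit 56]))
noncomputable def r62 : WT := (.node (nat_lit 9) (.leaf (nat_lit 60422) [nat_lit 112, nat_lit 196, nat_lit 140, nat_lit 196, nat_lit 112, nat_lit 196, nat_lit 140]) (.leaf (nat_lit 30722) [nat_lit 168, nat_lit 196, nat_lit 168, nat_lit 196, nat_lit 168, nat_lit 196, nat_lit 168, nat_lit 196, nat_lit 168]))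
noncomputable def r63 : WT := (.node (nat_lit 13) (.node (nat_lit 11) (.leaf (nat_lit 68614) [nat_lit 112, nat_lit 140, nat_lit 112, nat_lit 196, nat_lit 112, nat_lit 140, nat_lit 112]) (.node (nat_lit 12) (.leaf (nat_lit 47106) [nat_lit 140, nat_lit 224, nat_lit 140, nat_lit 196, nat_lit 140, nat_lit 224, nat_lit 140, nat_lit 196, nat_lit 140, nat_lit 224, nat_lit 140]) (.leaf (nat_lit 18434) [nat_lit 84, nat_lit 196, nat_lit 84, nat_lit 196, nat_lit 84, nat_lit 196, nat_lit 84]))) (.node (nat_lit 14) (.leaf (nat_lit 49160) [nat_lit 84, nat_lit 168, nat_lit 196, nat_lit 140, nat_lit 196, nat_lit 84, nat_lit 168, nat_lit 196, nat_lit 140]) (.node (nat_lit 15) (.leaf (nat_lit 60418) [nat_lit 140, nat_lit 196, nat_lit 112, nat_lit 196, nat_lit 140, nat_lit 196, nat_lit 112]) (.leaf (nat_lit 12290) [nat_lit 56, nat_lit 196, nat_lit 56, nat_lit 196, nat_lit 56, nat_lit 196, nat_lit 56]))))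
noncomputable def r64 : WT := (.leaf (nat_lit 65541) [nat_lit 140, nat_lit 56, nat_lit 224, nat_lit 112, nat_lit 196, nat_lit 140, nat_lit 56, nat_lit 224, nat_lit 112, nat_lit 196, nat_lit 140, nat_lit 56, nat_lit 224, nat_lit 112])
noncomputable def r65 : WT := (.leaf (nat_lit 65540) [nat_lit 112, nat_lit 224, nat_lit 56, nat_lit 140, nat_lit 196, nat_lit 112, nat_lit 224, nat_lit 56, nat_lit 140, nat_lit 196, nat_lit 112, nat_lit 224, nat_lit 56, nat_lit 140])
noncomputable def r66 : WT := (.node (nat_lit 27) (.leaf (nat_lit 54279) [nat_lit 84, nat_lit 252, nat_lit 196, nat_lit 252, nat_lit 196, nat_lit 84, nat_lit 252, nat_lit 196, nat_lit 252]) (.leaf (nat_lit 54275) [nat_lit 252, nat_lit 196, nat_lit 84, nat_lit 252, nat_lit 196, nat_lit 252, nat_lit 196, nat_lit 84, nat_lit 252]))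
noncomputable def r67 : WT := (.node (nat_lit 29) (.leaf (nat_lit 58369) [nat_lit 112, nat_lit 56, nat_lit 196, nat_lit 112, nat_lit 56, nat_lit 196, nat_lit 112, nat_lit 56]) (.leaf (nat_lit 58372) [nat_lit 56, nat_lit 112, nat_lit 196, nat_lit 56, nat_lit 112, nat_lit 196, nat_lit 56, nat_lit 112]))
noncomputable def r68 : WT := (.node (nat_lit 31) (.leaf (nat_lit 69636) [nat_lit 224, nat_lit 196, nat_lit 56, nat_lit 84, nat_lit 196, nat_lit 224, nat_lit 196, nat_lit 56, nat_lit 84]) (.node (nat_lit 32) (.leaf (nat_lit 49157) [nat_lit 168, nat_lit 84, nat_lit 196, nat_lit 140, nat_lit 196, nat_lit 168, nat_lit 84, nat_lit 196, nat_lit 140]) (.node (nat_lit 33) (.leaf (nat_lit 69637) [nat_lit 84, nat_lit 56, nat_lit 196, nat_lit 224, nat_lit 196, nat_lit 84, nat_lit 56, nat_lit 196, nat_lit 224]) (.leaf (nat_lit 69633) [nat_lit 224, nat_lit 196, nat_lit 84, nat_lit 56, nat_lit 196, nat_lit 224, nat_lit 196, nat_lit 84, nat_lit 56]))))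
noncomputable def r69 : WT := (.node (nat_lit 21) (.node (nat_lit 18) (.node (nat_lit 17) (.leaf (nat_lit 49156) [nat_lit 140, nat_lit 196, nat_lit 84, nat_lit 168, nat_lit 196, nat_lit 140, nat_lit 196, nat_lit 84, nat_lit 168]) (.leaf (nat_lit 61442) [nat_lit 112, nat_lit 196, nat_lit 56, nat_lit 196, nat_lit 112, nat_lit 196, nat_lit 56])) (.node (nat_lit 19) (.leaf (nat_lit 69640) [nat_lit 56, nat_lit 84, nat_lit 196, nat_lit 224, nat_lit 196, nat_lit 56, nat_lit 84, nat_lit 196, nat_lit 224]) (.node (nat_lit 20) r64 (.leaf (nat_lit 34816) [nat_lit 252, nat_lit 196, nat_lit 252, nat_lit 196, nat_lit 252, nat_lit 196, nat_lit 252])))) (.node (nat_lit 25) (.node (nat_lit 23) (.node (nat_lit 22) (.leaf (nat_lit 54278) [nat_lit 252, nat_lit 84, nat_lit 196, nat_lit 252, nat_lit 196, nat_lit 252, nat_lit 84, nat_lit 196, nat_lit 252]) (.leaf (nat_lit 49153) [nat_lit 140, nat_lit 196, nat_lit 168, nat_lit 84, nat_lit 196, nat_lit 140, nat_lit 196, nat_lit 168, nat_lit 84]))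 (.node (nat_lit 24) (.leaf (nat_lit 54274) [nat_lit 252, nat_lit 196, nat_lit 252, nat_lit 84, nat_lit 196, nat_lit 252, nat_lit 196, nat_lit 252, nat_lit 84]) r65)) (.node (nat_lit 28) (.node (nat_lit 26) (.leaf (nat_lit 61446) [nat_lit 56, nat_lit 196, nat_lit 112, nat_lit 196, nat_lit 56, nat_lit 196, nat_lit 112]) r66) (.node (nat_lit 30) r67 r68))))
noncomputable def w5 : WT := (.node (nat_lit 1) (.leaf (nat_lit 5120) [nat_lit 196]) (.node (nat_lit 6) (.node (nat_lit 3) (.node (nat_lit 2) (.leaf (nat_lit 62465) [nat_lit 84, nat_lit 56, nat_lit 196, nat_lit 84, nat_lit 56]) (.leaf (nat_lit 27650) [nat_lit 140, nat_lit 196, nat_lit 140, nat_lit 196, nat_lit 140, nat_lit 196, nat_lit 140])) (.node (nat_lit 4) (.leaf (nat_lit 63491) [nat_lit 56, nat_lit 252, nat_lit 196, nat_lit 56, nat_lit 252]) r60)) (.node (nat_lit 10) (.node (nat_lit 8) r61 r62) (.node (nat_lit 16) r63 r69))))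
noncomputable def r70 : WT := (.node (nat_lit 6) (.leaf (nat_lit 41988) [nat_lit 56, nat_lit 84, nat_lit 224, nat_lit 56, nat_lit 84]) (.leaf (nat_lit 24578) [nat_lit 112, nat_lit 224, nat_lit 112, nat_lit 224, nat_lit 112, nat_lit 224, nat_lit 112]))
noncomputable def r71 : WT := (.node (nat_lit 8) (.leaf (nat_lit 33794) [nat_lit 196, nat_lit 224, nat_lit 196, nat_lit 224, nat_lit 196, nat_lit 224, nat_lit 196]) (.node (nat_lit 9) (.leaf (nat_lit 35840) [nat_lit 252, nat_lit 224, nat_lit 252, nat_lit 224, nat_lit 252, nat_lit 224, nat_lit 252, nat_lit 224, nat_lit 252]) (.leaf (nat_lit 39940) [nat_lit 140, nat_lit 84, nat_lit 140, nat_lit 224, nat_lit 140, nat_lit 84, nat_lit 140])))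
noncomputable def r72 : WT := (.leaf (nat_lit 65544) [nat_lit 56, nat_lit 140, nat_lit 196, nat_lit 112, nat_lit 224, nat_lit 56, nat_lit 140, nat_lit 196, nat_lit 112, nat_lit 224, nat_lit 56, nat_lit 140, nat_lit 196, nat_lit 112])
noncomputable def r73 : WT := (.node (nat_lit 13) (.node (nat_lit 11) (.leaf (nat_lit 45058) [nat_lit 140, nat_lit 224, nat_lit 112, nat_lit 224, nat_lit 140, nat_lit 224, nat_lit 112]) (.node (nat_lit 12) r72 (.leaf (nat_lit 13314) [nat_lit 56, nat_lit 224, nat_lit 56, nat_lit 224, nat_lit 56, nat_lit 224, nat_lit 56]))) (.node (nat_lit 15) (.node (nat_lit 14) (.leaf (nat_lit 52226) [nat_lit 140, nat_lit 252, nat_lit 224, nat_lit 84, nat_lit 224, nat_lit 140, nat_lit 252, nat_lit 224, nat_lit 84]) (.leaf (nat_lit 69638) [nat_lit 196, nat_lit 56, nat_lit 84, nat_lit 196, nat_lit 224, nat_lit 196, nat_lit 56, nat_lit 84, nat_lit 196])) (.node (nat_lit 16) (.leaf (nat_lit 59396) [nat_lit 140, nat_lit 112, nat_lit 140, nat_lit 224, nat_lit 140, nat_lit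 112, nat_lit 140]) (.leaf (nat_lit 19458) [nat_lit 84, nat_lit 224, nat_lit 84, nat_lit 224, nat_lit 84, nat_lit 224, nat_lit 84]))))
noncomputable def r74 : WT := (.leaf (nat_lit 65537) [nat_lit 112, nat_lit 196, nat_lit 140, nat_lit 56, nat_lit 224, nat_lit 112, nat_lit 196, nat_lit 140, nat_lit 56, nat_lit 224, nat_lit 112, nat_lit 196, nat_lit 140, nat_lit 56])
noncomputable def r75 : WT := (.leaf (nat_lit 36867) [nat_lit 168, nat_lit 140, nat_lit 56, nat_lit 252, nat_lit 224, nat_lit 168, nat_lit 140, nat_lit 56, nat_lit 252, nat_lit 224, nat_lit 168, nat_lit 140, nat_lit 56, nat_lit 252, nat_lit 224, nat_lit 168, nat_lit 140, nat_lit 56, nat_lit 252])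
noncomputable def r76 : WT := (.leaf (nat_lit 36870) [nat_lit 252, nat_lit 56, nat_lit 140, nat_lit 168, nat_lit 224, nat_lit 252, nat_lit 56, nat_lit 140, nat_lit 168, nat_lit 224, nat_lit 252, nat_lit 56, nat_lit 140, nat_lit 168, nat_lit 224, nat_lit 252, nat_lit 56, nat_lit 140, nat_lit 168])
noncomputable def r77 : WT := (.node (nat_lit 28) (.leaf (nat_lit 43009) [nat_lit 112, nat_lit 84, nat_lit 224, nat_lit 112, nat_lit 84, nat_lit 224, nat_lit 112, nat_lit 84, nat_lit 224, nat_lit 112, nat_lit 84]) (.leaf (nat_lit 37892) [nat_lit 84, nat_lit 140, nat_lit 224, nat_lit 84, nat_lit 140, nat_lit 224, nat_lit 84, nat_lit 140]))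
noncomputable def r78 : WT := (.node (nat_lit 31) (.node (nat_lit 30) (.leaf (nat_lit 52231) [nat_lit 84, nat_lit 224, nat_lit 252, nat_lit 140, nat_lit 224, nat_lit 84, nat_lit 224, nat_lit 252, nat_lit 140]) (.leaf (nat_lit 52225) [nat_lit 252, nat_lit 140, nat_lit 224, nat_lit 84, nat_lit 224, nat_lit 252, nat_lit 140, nat_lit 224, nat_lit 84])) (.node (nat_lit 33) (.node (nat_lit 32) (.leaf (nat_lit 55298) [nat_lit 252, nat_lit 140, nat_lit 252, nat_lit 84, nat_lit 224, nat_lit 252, nat_lit 140, nat_lit 252, nat_lit 84]) (.leaf (nat_lit 67590) [nat_lit 140, nat_lit 84, nat_lit 112, nat_lit 140, nat_lit 224, nat_lit 140, nat_lit 84, nat_lit 112, nat_lit 140])) (.node (nat_lit 34) (.leaf (nat_lit 69635) [nat_lit 196, nat_lit 84, nat_lit 56, nat_lit 196, nat_lit 224, nat_lit 196, nat_lit 84, nat_lit 56, nat_lit 196]) (.leaf (nat_lit 67587) [nat_lit 140, nat_lit 112, nat_lit 84, nat_lit 140, nat_lit 224, nat_lit 140, nat_lit 112, nat_lit 84, nat_lit 140]))))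
noncomputable def r79 : WT := (.node (nat_lit 22) (.node (nat_lit 19) (.node (nat_lit 18) (.leaf (nat_lit 37889) [nat_lit 140, nat_lit 84, nat_lit 224, nat_lit 140, nat_lit 84, nat_lit 224, nat_lit 140, nat_lit 84]) (.leaf (nat_lit 52232) [nat_lit 84, nat_lit 224, nat_lit 140, nat_lit 252, nat_lit 224, nat_lit 84, nat_lit 224, nat_lit 140, nat_lit 252])) (.node (nat_lit 20) r74 (.node (nat_lit 21) (.leaf (nat_lit 55303) [nat_lit 84, nat_lit 252, nat_lit 140, nat_lit 252, nat_lit 224, nat_lit 84, nat_lit 252, nat_lit 140, nat_lit 252]) (.leaf (nat_lit 47110) [nat_lit 140, nat_lit 196, nat_lit 140, nat_lit 224, nat_lit 140, nat_lit 196, nat_lit 140, nat_lit 224, nat_lit 140, nat_lit 196, nat_lit 140])))) (.node (nat_lit 25) (.node (nat_lit 23) (.leaf (nat_lit 31746) [nat_lit 168, nat_lit 224, nat_lit 168, nat_lit 224, nat_lit 168, nat_lit 224, nat_lit 168]) (.node (nat_lit 24) (.leaf (nat_lit 45062) [nat_lit 112, nat_lit 224, nat_lit 140, nat_lit 224, nat_lit 112, nat_lit 224,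 nat_lit 140]) (.leaf (nat_lit 43012) [nat_lit 84, nat_lit 112, nat_lit 224, nat_lit 84, nat_lit 112, nat_lit 224, nat_lit 84, nat_lit 112, nat_lit 224, nat_lit 84, nat_lit 112]))) (.node (nat_lit 27) (.node (nat_lit 26) r75 r76) (.node (nat_lit 29) r77 r78))))
noncomputable def w6 : WT := (.node (nat_lit 1) (.leaf (nat_lit 6144) [nat_lit 224]) (.node (nat_lit 5) (.node (nat_lit 3) (.node (nat_lit 2) (.leaf (nat_lit 28674) [nat_lit 140, nat_lit 224, nat_lit 140, nat_lit 224, nat_lit 140]) (.leaf (nat_lit 40961) [nat_lit 168, nat_lit 84, nat_lit 224, nat_lit 168, nat_lit 84])) (.node (nat_lit 4) (.leaf (nat_lit 40964) [nat_lit 84, nat_lit 168, nat_lit 224, nat_lit 84, nat_lit 168]) (.leaf (nat_lit 41985) [nat_lit 84, nat_lit 56, nat_lit 224, nat_lit 84, nat_lit 56]))) (.node (nat_lit 10) (.node (nat_lit 7) r70 r71) (.node (nat_lit 17) r73 r79))))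
noncomputable def r80 : WT := (.node (nat_lit 7) (.leaf (nat_lit 63492) [nat_lit 56, nat_lit 196, nat_lit 252, nat_lit 56, nat_lit 196]) (.leaf (nat_lit 55304) [nat_lit 84, nat_lit 224, nat_lit 252, nat_lit 140, nat_lit 252, nat_lit 84, nat_lit 224, nat_lit 252, nat_lit 140]))
noncomputable def r81 : WT := (.node (nat_lit 9) (.leaf (nat_lit 35842) [nat_lit 224, nat_lit 252, nat_lit 224, nat_lit 252, nat_lit 224, nat_lit 252, nat_lit 224, nat_lit 252, nat_lit 224]) (.node (nat_lit 10) (.leaf (nat_lit 63489) [nat_lit 196, nat_lit 56, nat_lit 252, nat_lit 196, nat_lit 56]) (.node (nat_lit 11) (.leaf (nat_lit 38918) [nat_lit 84, nat_lit 140, nat_lit 84, nat_lit 252, nat_lit 84, nat_lit 140, nat_lit 84]) (.leaf (nat_lit 54273) [nat_lit 196, nat_lit 252, nat_lit 196, nat_lit 84, nat_lit 252, nat_lit 196, nat_lit 252, nat_lit 196, nat_lit 84]))))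
noncomputable def r82 : WT := (.leaf (nat_lit 66565) [nat_lit 84, nat_lit 56, nat_lit 168, nat_lit 140, nat_lit 252, nat_lit 84, nat_lit 56, nat_lit 168, nat_lit 140, nat_lit 252, nat_lit 84, nat_lit 56, nat_lit 168, nat_lit 140])
noncomputable def r83 : WT := (.leaf (nat_lit 36872) [nat_lit 56, nat_lit 140, nat_lit 168, nat_lit 224, nat_lit 252, nat_lit 56, nat_lit 140, nat_lit 168, nat_lit 224, nat_lit 252, nat_lit 56, nat_lit 140, nat_lit 168, nat_lit 224, nat_lit 252, nat_lit 56, nat_lit 140, nat_lit 168, nat_lit 224])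
noncomputable def r84 : WT := (.leaf (nat_lit 36865) [nat_lit 224, nat_lit 168, nat_lit 140, nat_lit 56, nat_lit 252, nat_lit 224, nat_lit 168, nat_lit 140, nat_lit 56, nat_lit 252, nat_lit 224, nat_lit 168, nat_lit 140, nat_lit 56, nat_lit 252, nat_lit 224, nat_lit 168, nat_lit 140, nat_lit 56])
noncomputable def r85 : WT := (.node (nat_lit 21) (.leaf (nat_lit 55297) [nat_lit 140, nat_lit 252, nat_lit 224, nat_lit 84, nat_lit 252, nat_lit 140, nat_lit 252, nat_lit 224, nat_lit 84]) (.leaf (nat_lit 54280) [nat_lit 84, nat_lit 196, nat_lit 252, nat_lit 196, nat_lit 252, nat_lit 84, nat_lit 196, nat_lit 252, nat_lit 196]))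
noncomputable def r86 : WT := (.leaf (nat_lit 66564) [nat_lit 140, nat_lit 168, nat_lit 56, nat_lit 84, nat_lit 252, nat_lit 140, nat_lit 168, nat_lit 56, nat_lit 84, nat_lit 252, nat_lit 140, nat_lit 168, nat_lit 56, nat_lit 84])
noncomputable def r87 : WT := (.node (nat_lit 24) r86 (.leaf (nat_lit 54277) [nat_lit 196, nat_lit 84, nat_lit 252, nat_lit 196, nat_lit 252, nat_lit 196, nat_lit 84, nat_lit 252, nat_lit 196]))
noncomputable def r88 : WT := (.node (nat_lit 16) (.node (nat_lit 14) (.node (nat_lit 13) (.leaf (nat_lit 52227) [nat_lit 140, nat_lit 224, nat_lit 84, nat_lit 224, nat_lit 252, nat_lit 140, nat_lit 224, nat_lit 84, nat_lit 224]) (.leaf (nat_lit 55301) [nat_lit 224, nat_lit 84, nat_lit 252, nat_lit 140, nat_lit 252, nat_lit 224, nat_lit 84, nat_lit 252, nat_lit 140])) (.node (nat_lit 15) (.leaf (nat_lit 52230) [nat_lit 224, nat_lit 84, nat_lit 224, nat_lit 140, nat_lit 252, nat_lit 224, nat_lit 84, nat_lit 224, nat_lit 140]) (.leaf (nat_lit 34818) [nat_lit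 196, nat_lit 252, nat_lit 196, nat_lit 252, nat_lit 196, nat_lit 252, nat_lit 196]))) (.node (nat_lit 19) (.node (nat_lit 17) (.leaf (nat_lit 55300) [nat_lit 140, nat_lit 252, nat_lit 84, nat_lit 224, nat_lit 252, nat_lit 140, nat_lit 252, nat_lit 84, nat_lit 224]) (.node (nat_lit 18) r82 r83)) (.node (nat_lit 22) (.node (nat_lit 20) r84 r85) (.node (nat_lit 23) (.leaf (nat_lit 54276) [nat_lit 196, nat_lit 252, nat_lit 84, nat_lit 196, nat_lit 252, nat_lit 196, nat_lit 252, nat_lit 84, nat_lit 196]) r87))))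
noncomputable def w7 : WT := (.node (nat_lit 1) (.leaf (nat_lit 7168) [nat_lit 252]) (.node (nat_lit 5) (.node (nat_lit 3) (.node (nat_lit 2) (.leaf (nat_lit 32770) [nat_lit 168, nat_lit 252, nat_lit 168]) (.leaf (nat_lit 14338) [nat_lit 56, nat_lit 252, nat_lit 56])) (.node (nat_lit 4) (.leaf (nat_lit 20482) [nat_lit 84, nat_lit 252, nat_lit 84, nat_lit 252, nat_lit 84]) (.leaf (nat_lit 29698) [nat_lit 140, nat_lit 252, nat_lit 140, nat_lit 252, nat_lit 140, nat_lit 252, nat_lit 140]))) (.node (nat_lit 8) (.node (nat_lit 6) (.leaf (nat_lit 25602) [nat_lit 112, nat_lit 252, nat_lit 112]) r80) (.node (nat_lit 12) r81 r88))))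
noncomputable def r89 : WT := (.node (nat_lit 5) (.leaf (nat_lit 52225) [nat_lit 224, nat_lit 252, nat_lit 140, nat_lit 224, nat_lit 84, nat_lit 224, nat_lit 252, nat_lit 140, nat_lit 224, nat_lit 84]) (.leaf (nat_lit 61442) [nat_lit 196, nat_lit 112, nat_lit 196, nat_lit 56, nat_lit 196, nat_lit 112, nat_lit 196, nat_lit 56]))
noncomputable def r90 : WT := (.node (nat_lit 7) (.leaf (nat_lit 52224) [nat_lit 84, nat_lit 224, nat_lit 140, nat_lit 252, nat_lit 224, nat_lit 84, nat_lit 224, nat_lit 140, nat_lit 252, nat_lit 224]) (.leaf (nat_lit 22530) [nat_lit 168, nat_lit 112, nat_lit 168, nat_lit 112, nat_lit 168, nat_lit 112, nat_lit 168, nat_lit 112]))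
noncomputable def r91 : WT := (.node (nat_lit 9) (.leaf (nat_lit 61440) [nat_lit 56, nat_lit 196, nat_lit 112, nat_lit 196, nat_lit 56, nat_lit 196, nat_lit 112, nat_lit 196]) (.leaf (nat_lit 46086) [nat_lit 168, nat_lit 56, nat_lit 168, nat_lit 112, nat_lit 168, nat_lit 56, nat_lit 168, nat_lit 112]))
noncomputable def r92 : WT := (.node (nat_lit 11) (.leaf (nat_lit 43012) [nat_lit 224, nat_lit 84, nat_lit 112, nat_lit 224, nat_lit 84, nat_lit 112, nat_lit 224, nat_lit 84, nat_lit 112, nat_lit 224, nat_lit 84, nat_lit 112]) (.node (nat_lit 12) (.leaf (nat_lit 64514) [nat_lit 140, nat_lit 168, nat_lit 112, nat_lit 140, nat_lit 168, nat_lit 112, nat_lit 140, nat_lit 168, nat_lit 112, nat_lit 140, nat_lit 168, nat_lit 112]) (.leaf (nat_lit 10242) [nat_lit 140, nat_lit 56, nat_lit 140, nat_lit 56])))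
noncomputable def r93 : WT := (.node (nat_lit 15) (.node (nat_lit 14) (.leaf (nat_lit 21506) [nat_lit 140, nat_lit 112, nat_lit 140, nat_lit 112, nat_lit 140, nat_lit 112, nat_lit 140, nat_lit 112]) (.leaf (nat_lit 60418) [nat_lit 196, nat_lit 140, nat_lit 196, nat_lit 112, nat_lit 196, nat_lit 140, nat_lit 196, nat_lit 112])) (.node (nat_lit 16) (.leaf (nat_lit 58370) [nat_lit 112, nat_lit 196, nat_lit 56, nat_lit 112, nat_lit 196, nat_lit 56, nat_lit 112, nat_lit 196, nat_lit 56]) (.leaf (nat_lit 37890) [nat_lit 140, nat_lit 224, nat_lit 84, nat_lit 140, nat_lit 224, nat_lit 84, nat_lit 140, nat_lit 224, nat_lit 84])))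
noncomputable def r94 : WT := (.leaf (nat_lit 65544) [nat_lit 224, nat_lit 56, nat_lit 140, nat_lit 196, nat_lit 112, nat_lit 224, nat_lit 56, nat_lit 140, nat_lit 196, nat_lit 112, nat_lit 224, nat_lit 56, nat_lit 140, nat_lit 196, nat_lit 112])
noncomputable def r95 : WT := (.node (nat_lit 19) (.node (nat_lit 18) (.leaf (nat_lit 49160) [nat_lit 196, nat_lit 84, nat_lit 168, nat_lit 196, nat_lit 140, nat_lit 196, nat_lit 84, nat_lit 168, nat_lit 196, nat_lit 140]) (.leaf (nat_lit 60422) [nat_lit 196, nat_lit 112, nat_lit 196, nat_lit 140, nat_lit 196, nat_lit 112, nat_lit 196, nat_lit 140])) (.node (nat_lit 20) (.leaf (nat_lit 61444) [nat_lit 112, nat_lit 196, nat_lit 56, nat_lit 196, nat_lit 112, nat_lit 196, nat_lit 56, nat_lit 196]) (.node (nat_lit 21) (.leaf (nat_lit 43009) [nat_lit 224, nat_lit 112, nat_lit 84, nat_lit 224, nat_lit 112, nat_lit 84, nat_lit 224, nat_lit 112, nat_lit 84, nat_lit 224, nat_lit 112, nat_lit 84]) r94)))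
noncomputable def r96 : WT := (.node (nat_lit 25) (.node (nat_lit 23) (.leaf (nat_lit 45058) [nat_lit 224, nat_lit 140, nat_lit 224, nat_lit 112, nat_lit 224, nat_lit 140, nat_lit 224, nat_lit 112]) (.node (nat_lit 24) (.leaf (nat_lit 45056) [nat_lit 112, nat_lit 224, nat_lit 140, nat_lit 224, nat_lit 112, nat_lit 224, nat_lit 140, nat_lit 224]) (.leaf (nat_lit 64513) [nat_lit 168, nat_lit 140, nat_lit 112, nat_lit 168, nat_lit 140, nat_lit 112, nat_lit 168, nat_lit 140, nat_lit 112, nat_lit 168, nat_lit 140, nat_lit 112]))) (.node (nat_lit 26) (.leaf (nat_lit 32768) [nat_lit 168, nat_lit 252, nat_lit 168, nat_lit 252]) (.node (nat_lit 27) (.leaf (nat_lit 61446) [nat_lit 196, nat_lit 56, nat_lit 196, nat_lit 112, nat_lit 196, nat_lit 56, nat_lit 196, nat_lit 112]) (.leaf (nat_lit 68614) [nat_lit 196, nat_lit 112, nat_lit 140, nat_lit 112, nat_lit 196, nat_lit 112, nat_lit 140, nat_lit 112]))))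
noncomputable def r97 : WT := (.leaf (nat_lit 65540) [nat_lit 196, nat_lit 112, nat_lit 224, nat_lit 56, nat_lit 140, nat_lit 196, nat_lit 112, nat_lit 224, nat_lit 56, nat_lit 140, nat_lit 196, nat_lit 112, nat_lit 224, nat_lit 56, nat_lit 140])
noncomputable def r98 : WT := (.node (nat_lit 31) (.node (nat_lit 29) (.leaf (nat_lit 44036) [nat_lit 168, nat_lit 56, nat_lit 112, nat_lit 168, nat_lit 56, nat_lit 112, nat_lit 168, nat_lit 56, nat_lit 112]) (.node (nat_lit 30) r97 (.leaf (nat_lit 58369) [nat_lit 196, nat_lit 112, nat_lit 56, nat_lit 196, nat_lit 112, nat_lit 56, nat_lit 196, nat_lit 112, nat_lit 56]))) (.node (nat_lit 33) (.node (nat_lit 32) (.leaf (nat_lit 49154) [nat_lit 168, nat_lit 196, nat_lit 140, nat_lit 196, nat_lit 84, nat_lit 168, nat_lit 196, nat_lit 140, nat_lit 196, nat_lit 84]) (.leaf (nat_lit 12288) [nat_lit 56, nat_lit 196, nat_lit 56, nat_lit 196, nat_lit 56, nat_lit 196, nat_lit 56, nat_lit 196])) (.node (nat_lit 34) (.leaf (nat_lit 49159) [nat_lit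 168, nat_lit 84, nat_lit 196, nat_lit 140, nat_lit 196, nat_lit 168, nat_lit 84, nat_lit 196, nat_lit 140, nat_lit 196]) (.leaf (nat_lit 9216) [nat_lit 56, nat_lit 112, nat_lit 56, nat_lit 112, nat_lit 56, nat_lit 112, nat_lit 56, nat_lit 112]))))
noncomputable def r99 : WT := (.node (nat_lit 40) (.node (nat_lit 37) (.node (nat_lit 36) (.leaf (nat_lit 37889) [nat_lit 224, nat_lit 140, nat_lit 84, nat_lit 224, nat_lit 140, nat_lit 84, nat_lit 224, nat_lit 140, nat_lit 84]) (.leaf (nat_lit 44035) [nat_lit 112, nat_lit 56, nat_lit 168, nat_lit 112, nat_lit 56, nat_lit 168, nat_lit 112, nat_lit 56, nat_lit 168])) (.node (nat_lit 38) (.leaf (nat_lit 68610) [nat_lit 140, nat_lit 112, nat_lit 196, nat_lit 112, nat_lit 140, nat_lit 112, nat_lit 196, nat_lit 112]) (.node (nat_lit 39) (.leaf (nat_lit 58373) [nat_lit 56, nat_lit 196, nat_lit 112, nat_lit 56, nat_lit 196, nat_lit 112, nat_lit 56, nat_lit 196, nat_lit 112]) (.leaf (nat_lit 68608) [nat_lit 112, nat_lit 140, nat_lit 112,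 nat_lit 196, nat_lit 112, nat_lit 140, nat_lit 112, nat_lit 196])))) (.node (nat_lit 42) (.node (nat_lit 41) (.leaf (nat_lit 30720) [nat_lit 168, nat_lit 196, nat_lit 168, nat_lit 196, nat_lit 168, nat_lit 196, nat_lit 168, nat_lit 196, nat_lit 168, nat_lit 196]) (.leaf (nat_lit 25600) [nat_lit 112, nat_lit 252, nat_lit 112, nat_lit 252])) (.node (nat_lit 43) (.leaf (nat_lit 35842) [nat_lit 252, nat_lit 224, nat_lit 252, nat_lit 224, nat_lit 252, nat_lit 224, nat_lit 252, nat_lit 224, nat_lit 252, nat_lit 224]) (.node (nat_lit 44) (.leaf (nat_lit 11264) [nat_lit 56, nat_lit 168, nat_lit 56, nat_lit 168, nat_lit 56, nat_lit 168]) (.leaf (nat_lit 25602) [nat_lit 252, nat_lit 112, nat_lit 252, nat_lit 112])))))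
noncomputable def r100 : WT := (.leaf (nat_lit 65539) [nat_lit 112, nat_lit 196, nat_lit 140, nat_lit 56, nat_lit 224, nat_lit 112, nat_lit 196, nat_lit 140, nat_lit 56, nat_lit 224, nat_lit 112, nat_lit 196, nat_lit 140, nat_lit 56, nat_lit 224])
noncomputable def r101 : WT := (.leaf (nat_lit 36871) [nat_lit 140, nat_lit 56, nat_lit 252, nat_lit 224, nat_lit 168, nat_lit 140, nat_lit 56, nat_lit 252, nat_lit 224, nat_lit 168, nat_lit 140, nat_lit 56, nat_lit 252, nat_lit 224, nat_lit 168, nat_lit 140, nat_lit 56, nat_lit 252, nat_lit 224, nat_lit 168])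
noncomputable def r102 : WT := (.leaf (nat_lit 65541) [nat_lit 196, nat_lit 140, nat_lit 56, nat_lit 224, nat_lit 112, nat_lit 196, nat_lit 140, nat_lit 56, nat_lit 224, nat_lit 112, nat_lit 196, nat_lit 140, nat_lit 56, nat_lit 224, nat_lit 112])
noncomputable def r103 : WT := (.leaf (nat_lit 66563) [nat_lit 140, nat_lit 252, nat_lit 84, nat_lit 56, nat_lit 168, nat_lit 140, nat_lit 252, nat_lit 84, nat_lit 56, nat_lit 168, nat_lit 140, nat_lit 252, nat_lit 84, nat_lit 56, nat_lit 168])
noncomputable def r104 : WT := (.node (nat_lit 57) r103 (.leaf (nat_lit 52231) [nat_lit 224, nat_lit 84, nat_lit 224, nat_lit 252, nat_lit 140, nat_lit 224, nat_lit 84, nat_lit 224, nat_lit 252, nat_lit 140]))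
noncomputable def r105 : WT := (.node (nat_lit 50) (.node (nat_lit 47) (.node (nat_lit 46) (.leaf (nat_lit 40964) [nat_lit 224, nat_lit 84, nat_lit 168, nat_lit 224, nat_lit 84, nat_lit 168]) (.leaf (nat_lit 63490) [nat_lit 196, nat_lit 252, nat_lit 56, nat_lit 196, nat_lit 252, nat_lit 56])) (.node (nat_lit 48) (.leaf (nat_lit 64512) [nat_lit 112, nat_lit 140, nat_lit 168, nat_lit 112, nat_lit 140, nat_lit 168, nat_lit 112, nat_lit 140, nat_lit 168, nat_lit 112, nat_lit 140, nat_lit 168]) (.node (nat_lit 49) (.leaf (nat_lit 33794) [nat_lit 224, nat_lit 196, nat_lit 224, nat_lit 196, nat_lit 224, nat_lit 196, nat_lit 224, nat_lit 196]) (.leaf (nat_lit 23552) [nat_lit 112, nat_lit 196, nat_lit 112, nat_lit 196, nat_lit 112, nat_lit 196])))) (.node (nat_lit 53) (.node (nat_lit 51) (.leaf (nat_lit 24578) [nat_lit 224, nat_lit 112, nat_lit 224, nat_lit 112, nat_lit 224, nat_lit 112, nat_lit 224, nat_lit 112]) (.node (nat_lit 52) (.leaf (nat_lit 9218) [nat_lit 112, nat_lit 56,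 nat_lit 112, nat_lit 56, nat_lit 112, nat_lit 56, nat_lit 112, nat_lit 56]) (.leaf (nat_lit 28672) [nat_lit 140, nat_lit 224, nat_lit 140, nat_lit 224, nat_lit 140, nat_lit 224]))) (.node (nat_lit 55) (.node (nat_lit 54) r100 r101) (.node (nat_lit 56) r102 r104))))
noncomputable def r106 : WT := (.leaf (nat_lit 36872) [nat_lit 252, nat_lit 56, nat_lit 140, nat_lit 168, nat_lit 224, nat_lit 252, nat_lit 56, nat_lit 140, nat_lit 168, nat_lit 224, nat_lit 252, nat_lit 56, nat_lit 140, nat_lit 168, nat_lit 224, nat_lit 252, nat_lit 56, nat_lit 140, nat_lit 168, nat_lit 224])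
noncomputable def r107 : WT := (.leaf (nat_lit 65537) [nat_lit 224, nat_lit 112, nat_lit 196, nat_lit 140, nat_lit 56, nat_lit 224, nat_lit 112, nat_lit 196, nat_lit 140, nat_lit 56, nat_lit 224, nat_lit 112, nat_lit 196, nat_lit 140, nat_lit 56])
noncomputable def r108 : WT := (.node (nat_lit 62) (.leaf (nat_lit 54276) [nat_lit 252, nat_lit 196, nat_lit 252, nat_lit 84, nat_lit 196, nat_lit 252, nat_lit 196, nat_lit 252, nat_lit 84, nat_lit 196]) r107)
noncomputable def r109 : WT := (.leaf (nat_lit 36864) [nat_lit 56, nat_lit 140, nat_lit 168, nat_lit 224, nat_lit 252, nat_lit 56, nat_lit 140, nat_lit 168, nat_lit 224, nat_lit 252, nat_lit 56, nat_lit 140, nat_lit 168, nat_lit 224, nat_lit 252, nat_lit 56, nat_lit 140, nat_lit 168, nat_lit 224, nat_lit 252])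
noncomputable def r110 : WT := (.node (nat_lit 67) (.leaf (nat_lit 55300) [nat_lit 252, nat_lit 140, nat_lit 252, nat_lit 84, nat_lit 224, nat_lit 252, nat_lit 140, nat_lit 252, nat_lit 84, nat_lit 224]) (.leaf (nat_lit 69638) [nat_lit 224, nat_lit 196, nat_lit 56, nat_lit 84, nat_lit 196, nat_lit 224, nat_lit 196, nat_lit 56, nat_lit 84, nat_lit 196]))
noncomputable def r111 : WT := (.leaf (nat_lit 36868) [nat_lit 168, nat_lit 224, nat_lit 252, nat_lit 56, nat_lit 140, nat_lit 168, nat_lit 224, nat_lit 252, nat_lit 56, nat_lit 140, nat_lit 168, nat_lit 224, nat_lit 252, nat_lit 56, nat_lit 140, nat_lit 168, nat_lit 224, nat_lit 252, nat_lit 56, nat_lit 140])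
noncomputable def r112 : WT := (.node (nat_lit 72) r111 (.leaf (nat_lit 38914) [nat_lit 140, nat_lit 84, nat_lit 252, nat_lit 84, nat_lit 140, nat_lit 84, nat_lit 252, nat_lit 84]))
noncomputable def r113 : WT := (.node (nat_lit 77) (.leaf (nat_lit 40965) [nat_lit 84, nat_lit 224, nat_lit 168, nat_lit 84, nat_lit 224, nat_lit 168]) (.leaf (nat_lit 62464) [nat_lit 56, nat_lit 84, nat_lit 196, nat_lit 56, nat_lit 84, nat_lit 196]))
noncomputable def r114 : WT := (.node (nat_lit 68) (.node (nat_lit 63) (.node (nat_lit 60) (.node (nat_lit 59) r106 (.leaf (nat_lit 52230) [nat_lit 252, nat_lit 224, nat_lit 84, nat_lit 224, nat_lit 140, nat_lit 252, nat_lit 224, nat_lit 84, nat_lit 224, nat_lit 140])) (.node (nat_lit 61) (.leaf (nat_lit 10240) [nat_lit 56, nat_lit 140, nat_lit 56, nat_lit 140]) r108)) (.node (nat_lit 65) (.node (nat_lit 64) r109 (.leaf (nat_lit 54275) [nat_lit 196, nat_lit 252, nat_lit 196, nat_lit 84, nat_lit 252, nat_lit 196, nat_lit 252, nat_lit 196, nat_lit 84,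 nat_lit 252])) (.node (nat_lit 66) (.leaf (nat_lit 54279) [nat_lit 196, nat_lit 84, nat_lit 252, nat_lit 196, nat_lit 252, nat_lit 196, nat_lit 84, nat_lit 252, nat_lit 196, nat_lit 252]) r110))) (.node (nat_lit 73) (.node (nat_lit 70) (.node (nat_lit 69) (.leaf (nat_lit 47108) [nat_lit 140, nat_lit 224, nat_lit 140, nat_lit 196, nat_lit 140, nat_lit 224, nat_lit 140, nat_lit 196, nat_lit 140, nat_lit 224, nat_lit 140, nat_lit 196]) (.leaf (nat_lit 47106) [nat_lit 196, nat_lit 140, nat_lit 224, nat_lit 140, nat_lit 196, nat_lit 140, nat_lit 224, nat_lit 140, nat_lit 196, nat_lit 140, nat_lit 224, nat_lit 140])) (.node (nat_lit 71) (.leaf (nat_lit 43013) [nat_lit 84, nat_lit 224, nat_lit 112, nat_lit 84, nat_lit 224, nat_lit 112, nat_lit 84, nat_lit 224, nat_lit 112, nat_lit 84, nat_lit 224, nat_lit 112]) r112)) (.node (nat_lit 75) (.node (nat_lit 74) (.leaf (nat_lit 14338) [nat_lit 252, nat_lit 56, nat_lit 252, nat_lit 56]) (.leaf (nat_lit 15362) [nat_lit 112, nat_lit 84,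 nat_lit 112, nat_lit 84])) (.node (nat_lit 76) (.leaf (nat_lit 11266) [nat_lit 168, nat_lit 56, nat_lit 168, nat_lit 56, nat_lit 168, nat_lit 56]) r113))))
noncomputable def r115 : WT := (.node (nat_lit 82) (.leaf (nat_lit 19456) [nat_lit 84, nat_lit 224, nat_lit 84, nat_lit 224, nat_lit 84, nat_lit 224, nat_lit 84, nat_lit 224]) (.leaf (nat_lit 22528) [nat_lit 112, nat_lit 168, nat_lit 112, nat_lit 168, nat_lit 112, nat_lit 168, nat_lit 112, nat_lit 168]))
noncomputable def r116 : WT := (.node (nat_lit 87) (.leaf (nat_lit 50181) [nat_lit 168, nat_lit 140, nat_lit 112, nat_lit 168, nat_lit 140, nat_lit 168, nat_lit 140, nat_lit 112, nat_lit 168, nat_lit 140]) (.leaf (nat_lit 39938) [nat_lit 140, nat_lit 224, nat_lit 140, nat_lit 84, nat_lit 140, nat_lit 224, nat_lit 140, nat_lit 84]))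
noncomputable def r117 : WT := (.node (nat_lit 92) (.leaf (nat_lit 37888) [nat_lit 84, nat_lit 140, nat_lit 224, nat_lit 84, nat_lit 140, nat_lit 224, nat_lit 84, nat_lit 140, nat_lit 224]) (.leaf (nat_lit 44034) [nat_lit 112, nat_lit 168, nat_lit 56, nat_lit 112, nat_lit 168, nat_lit 56, nat_lit 112, nat_lit 168, nat_lit 56]))
noncomputable def r118 : WT := (.node (nat_lit 95) (.leaf (nat_lit 58372) [nat_lit 196, nat_lit 56, nat_lit 112, nat_lit 196, nat_lit 56, nat_lit 112, nat_lit 196, nat_lit 56, nat_lit 112]) (.leaf (nat_lit 30722) [nat_lit 196, nat_lit 168, nat_lit 196, nat_lit 168, nat_lit 196, nat_lit 168, nat_lit 196, nat_lit 168, nat_lit 196, nat_lit 168]))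
noncomputable def r119 : WT := (.node (nat_lit 98) (.leaf (nat_lit 49157) [nat_lit 196, nat_lit 168, nat_lit 84, nat_lit 196, nat_lit 140, nat_lit 196, nat_lit 168, nat_lit 84, nat_lit 196, nat_lit 140]) (.leaf (nat_lit 49161) [nat_lit 84, nat_lit 196, nat_lit 140, nat_lit 196, nat_lit 168, nat_lit 84, nat_lit 196, nat_lit 140, nat_lit 196, nat_lit 168]))
noncomputable def r120 : WT := (.node (nat_lit 88) (.node (nat_lit 83) (.node (nat_lit 80) (.node (nat_lit 79) (.leaf (nat_lit 13312) [nat_lit 56, nat_lit 224, nat_lit 56, nat_lit 224, nat_lit 56, nat_lit 224, nat_lit 56, nat_lit 224]) (.leaf (nat_lit 13314) [nat_lit 224, nat_lit 56, nat_lit 224, nat_lit 56, nat_lit 224, nat_lit 56, nat_lit 224, nat_lit 56])) (.node (nat_lit 81) (.leaf (nat_lit 16386) [nat_lit 140, nat_lit 84, nat_lit 140, nat_lit 84, nat_lit 140, nat_lit 84, nat_lit 140, nat_lit 84]) r115)) (.node (nat_lit 85) (.node (nat_lit 84) (.leaf (nat_lit 27648) [nat_lit 140, nat_lit 196, nat_lit 140, nat_lit 196,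 nat_lit 140, nat_lit 196, nat_lit 140, nat_lit 196]) (.leaf (nat_lit 29698) [nat_lit 252, nat_lit 140, nat_lit 252, nat_lit 140, nat_lit 252, nat_lit 140, nat_lit 252, nat_lit 140])) (.node (nat_lit 86) (.leaf (nat_lit 34818) [nat_lit 252, nat_lit 196, nat_lit 252, nat_lit 196, nat_lit 252, nat_lit 196, nat_lit 252, nat_lit 196]) r116))) (.node (nat_lit 93) (.node (nat_lit 90) (.node (nat_lit 89) (.leaf (nat_lit 46082) [nat_lit 168, nat_lit 112, nat_lit 168, nat_lit 56, nat_lit 168, nat_lit 112, nat_lit 168, nat_lit 56]) (.leaf (nat_lit 46084) [nat_lit 112, nat_lit 168, nat_lit 56, nat_lit 168, nat_lit 112, nat_lit 168, nat_lit 56, nat_lit 168])) (.node (nat_lit 91) (.leaf (nat_lit 59394) [nat_lit 140, nat_lit 224, nat_lit 140, nat_lit 112, nat_lit 140, nat_lit 224, nat_lit 140, nat_lit 112]) r117)) (.node (nat_lit 96) (.node (nat_lit 94) (.leaf (nat_lit 44037) [nat_lit 56, nat_lit 168, nat_lit 112, nat_lit 56, nat_lit 168, nat_lit 112, nat_lit 56, nat_lit 168, nat_lit 112])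 r118) (.node (nat_lit 97) (.leaf (nat_lit 35840) [nat_lit 224, nat_lit 252, nat_lit 224, nat_lit 252, nat_lit 224, nat_lit 252, nat_lit 224, nat_lit 252, nat_lit 224, nat_lit 252]) r119))))
noncomputable def wP : WT := (.node (nat_lit 13) (.node (nat_lit 4) (.node (nat_lit 2) (.node (nat_lit 1) (.leaf (nat_lit 19458) [nat_lit 224, nat_lit 84, nat_lit 224, nat_lit 84, nat_lit 224, nat_lit 84, nat_lit 224, nat_lit 84]) (.leaf (nat_lit 12290) [nat_lit 196, nat_lit 56, nat_lit 196, nat_lit 56, nat_lit 196, nat_lit 56, nat_lit 196, nat_lit 56])) (.node (nat_lit 3) (.leaf (nat_lit 52226) [nat_lit 224, nat_lit 140, nat_lit 252, nat_lit 224, nat_lit 84, nat_lit 224, nat_lit 140, nat_lit 252, nat_lit 224, nat_lit 84]) (.leaf (nat_lit 52233) [nat_lit 84, nat_lit 224, nat_lit 252, nat_lit 140, nat_lit 224, nat_lit 84, nat_lit 224, nat_lit 252, nat_lit 140, nat_lit 224]))) (.node (nat_lit 8) (.node (nat_lit 6) r89 r90) (.node (nat_lit 10) r91 r92))) (.node (nat_lit 35) (.node (nat_lit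 22) (.node (nat_lit 17) r93 r95) (.node (nat_lit 28) r96 r98)) (.node (nat_lit 58) (.node (nat_lit 45) r99 r105) (.node (nat_lit 78) r114 r120))))
noncomputable def P : Par := ⟨tb, nat_lit 280, nat_lit 0xffffffffffffffffffffffffffffffffffffffffffffffffffffffffffffffffffffff, nat_lit 42071, nat_lit 268435455, nat_lit 65535, nat_lit 28, nat_lit 16, nat_lit 29155,
  [nat_lit 56, nat_lit 84, nat_lit 112, nat_lit 140, nat_lit 168, nat_lit 196, nat_lit 224, nat_lit 252], [nat_lit 56, nat_lit 84, nat_lit 112, nat_lit 140, nat_lit 168, nat_lit 224, nat_lit 252], wP,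
  (.cons (nat_lit 56) w0 (.cons (nat_lit 84) w1 (.cons (nat_lit 112) w2 (.cons (nat_lit 140) w3 (.cons (nat_lit 168) w4 (.cons (nat_lit 196) w5 (.cons (nat_lit 224) w6 (.cons (nat_lit 252) w7 .nil)))))))),
  .nil⟩

end Cfsg.Agent.Lib.TCHd11a
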