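import Cfsg.Agent.Lib.TCDefs

set_option autoImplicit false
set_option maxRecDepth 100000

namespace Cfsg.Agent.Lib.TCHd11b
open Cfsg.Agent.Lib.TCCore

noncomputable def l0 : T := .leaf (nat_lit 0) (nat_lit 0xf0db99fffffffffffffffffde9a01c3fff6a5ffff12e7ffffffffff7ee8046fffd91efffc3b7ffffffffffe1b6011bfff5e77fff16efffffffffff7e94046fffd42951056b4fffd3c61115c980073fff0e7d34212cffff4d144c674b4062fffc4a4430c5b1fffffff4305daa018844a2c8114410cbfff2b0c34278ac01cfffc7964f142b0fffca420f0ddac011bfff0853fff0cbffff2705144748806282ec42382ee3a68ada0b980f7fff018863c8ed453e84656b966d96bcfffc05412f62a816fe02356358b584effff01c053e68e443c869d48914e20c0fffc0541afe12612f60284ec43b75cfffff00aa14062de140191d6b314ea0befffc02a66ca01712e603956d05bb16d7fff01518b166f453a152573f8500438fffc01c5ebdf9b0ede2b5142c5bd12e7fff01516b464ec43811212b210f0336fffc01c52ce21e0ad62378d01a3f0edffff0150a3090fc3368ce020c64f863afffc0385cdd5b454bd74658e84b358cffff00a95361ccd430111573b14d15b4fffc04668e92b248c43c34cdd2310ac3fff00719394cc51b2151143c4ac91affffc0462ad43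b052cc342082832f0ccbfff00e18380abd5b40f041880ec1231fffc0381a7d2ae3054d2e12b122e2cbbfff00e069c767c4ac76ccb2a48b4598fffc0541679e1614b5e3014b91ac10affff007049a7a803aa7ac8a1144ac4acfffc0540c6de2410ade312eb50aa108bfff01c06a95318d1638a45a74a7cc29fffc0381aa233e169dfbc309529c1a67fff0150627807062884f46294678526fffc01c169a0bc12964402c4109a169ffff0150525807452680ecca83e6c423fffc01c149054414912a4108cfa0425bfff00e04a3130039982f84a43a744a5fffc0540c75d941061daf1084aa212abfff01c03a02a844a128844a22884915fffc0701084bc310807200c750241853fff00e072e11145941a7c31e4ca441ffffc03818b19c8127041d0e7d2270a6bfff00703a2611c29712783a03c8c39bfffc0541cb5fa714784970c6d328185ffff00e03aa80e029a0e6839c409441dfffc05414adf190c6c41b081d1260c7bfff00e0419712842386fc313365c728fffc0380e5dd291289d340a48a1818b7fff00e04186d2431d1470205386459cfffc0380c5884236a471608383144093fff00e08941054cae185428f0e549a1fffc03824542c1187c29406103961a83fff00e0393324c4130a483993214a0efffc0460814b8b0e483130c60992243ffff01c07871e3468f0a40aab0e44491fffc0460e403900c383112e982071043fff00a8884082871118383150c3c992fffc0620a3868e0e4068f0a581842a4ffff00a8a0920445081c3563e0c3020cfffc01c28281860a2868c0ad438d0a37fff0188a8830484890c2c5b80e24188fffc01c263028f0c3058a0ac01880a27fff00a8a8d060c40b142553d102c30afffc0622c2c102163428808bc20a082ffff0188811181c1840a1829a0a40387fffc054081820c04083070e0c206081bfff01502921614305060c297344c284fffc046203c204081c102085020e0c17fff011820308242830814306080c102fffc01c060818806181840204182060ffff00e0081020408102041020204081fffc000)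

end Cfsg.Agent.Lib.TCHd11b
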