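import Cfsg.Agent.Lib.TCHd11bD0

set_option autoImplicit false
set_option maxRecDepth 100000

namespace Cfsg.Agent.Lib.TCHd11b
open Cfsg.Agent.Lib.TCCore

noncomputable def tb : T := l0
noncomputable def r0 : WT := (.node (nat_lit 8) (.leaf (nat_lit 33792) [nat_lit 42, nat_lit 98, nat_lit 28, nat_lit 42, nat_lit 98]) (.leaf (nat_lit 33797) [nat_lit 98, nat_lit 42, nat_lit 28, nat_lit 98, nat_lit 42]))
noncomputable def w0 : WT := (.node (nat_lit 1) (.leaf (nat_lit 0) [nat_lit 28]) (.node (nat_lit 4) (.node (nat_lit 2) (.leaf (nat_lit 10240) [nat_lit 84, nat_lit 28, nat_lit 84, nat_lit 28, nat_lit 84]) (.node (nat_lit 3) (.leaf (nat_lit 9216) [nat_lit 70, nat_lit 28, nat_lit 70]) (.leaf (nat_lit 8192) [nat_lit 56, nat_lit 28, nat_lit 56, nat_lit 28, nat_lit 56, nat_lit 28, nat_lit 56]))) (.node (nat_lit 6) (.node (nat_lit 5) (.leaf (nat_lit 12288) [nat_lit 112, nat_lit 28, nat_lit 112]) (.leaf (nat_lit 37888) [nat_lit 84,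 nat_lit 56, nat_lit 84, nat_lit 28, nat_lit 84, nat_lit 56, nat_lit 84])) (.node (nat_lit 7) (.leaf (nat_lit 7168) [nat_lit 42, nat_lit 28, nat_lit 42]) r0))))
noncomputable def r1 : WT := (.node (nat_lit 6) (.leaf (nat_lit 14336) [nat_lit 70, nat_lit 42, nat_lit 70, nat_lit 42, nat_lit 70, nat_lit 42, nat_lit 70]) (.leaf (nat_lit 40960) [nat_lit 98, nat_lit 70, nat_lit 112, nat_lit 98, nat_lit 42, nat_lit 98, nat_lit 70, nat_lit 112, nat_lit 98]))
noncomputable def r2 : WT := (.node (nat_lit 8) (.leaf (nat_lit 32768) [nat_lit 84, nat_lit 98, nat_lit 42, nat_lit 84, nat_lit 98]) (.leaf (nat_lit 33794) [nat_lit 98, nat_lit 28, nat_lit 42, nat_lit 98, nat_lit 28]))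
noncomputable def r3 : WT := (.leaf (nat_lit 48135) [nat_lit 28, nat_lit 84, nat_lit 70, nat_lit 112, nat_lit 42, nat_lit 28, nat_lit 84, nat_lit 70, nat_lit 112, nat_lit 42, nat_lit 28, nat_lit 84, nat_lit 70, nat_lit 112])
noncomputable def r4 : WT := (.node (nat_lit 10) (.leaf (nat_lit 16384) [nat_lit 98, nat_lit 42, nat_lit 98, nat_lit 42, nat_lit 98, nat_lit 42, nat_lit 98]) (.node (nat_lit 11) (.leaf (nat_lit 31744) [nat_lit 70, nat_lit 98, nat_lit 70, nat_lit 42, nat_lit 70, nat_lit 98, nat_lit 70]) r3))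
noncomputable def w1 : WT := (.node (nat_lit 2) (.node (nat_lit 1) (.leaf (nat_lit 1024) [nat_lit 42]) (.leaf (nat_lit 7170) [nat_lit 28, nat_lit 42, nat_lit 28])) (.node (nat_lit 4) (.node (nat_lit 3) (.leaf (nat_lit 13312) [nat_lit 56, nat_lit 42, nat_lit 56]) (.leaf (nat_lit 15360) [nat_lit 84, nat_lit 42, nat_lit 84])) (.node (nat_lit 7) (.node (nat_lit 5) (.leaf (nat_lit 17408) [nat_lit 112, nat_lit 42, nat_lit 112, nat_lit 42, nat_lit 112]) r1) (.node (nat_lit 9) r2 r4))))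
noncomputable def r5 : WT := (.node (nat_lit 7) (.leaf (nat_lit 20480) [nat_lit 98, nat_lit 56, nat_lit 98, nat_lit 56, nat_lit 98, nat_lit 56, nat_lit 98]) (.leaf (nat_lit 35842) [nat_lit 84, nat_lit 28, nat_lit 56, nat_lit 84, nat_lit 28, nat_lit 56, nat_lit 84, nat_lit 28]))
noncomputable def w2 : WT := (.node (nat_lit 1) (.leaf (nat_lit 2048) [nat_lit 56]) (.node (nat_lit 3) (.node (nat_lit 2) (.leaf (nat_lit 37892) [nat_lit 84, nat_lit 28, nat_lit 84, nat_lit 56, nat_lit 84, nat_lit 28, nat_lit 84]) (.leaf (nat_lit 35843) [nat_lit 28, nat_lit 84, nat_lit 56, nat_lit 28, nat_lit 84, nat_lit 56, nat_lit 28, nat_lit 84])) (.node (nat_lit 5) (.node (nat_lit 4) (.leaf (nat_lit 13314) [nat_lit 42, nat_lit 56, nat_lit 42]) (.leaf (nat_lit 21504) [nat_lit 112, nat_lit 56, nat_lit 112])) (.node (nat_lit 6) (.leaf (nat_lit 19456) [nat_lit 84, nat_lit 56, nat_lit 84, nat_lit 56, nat_lit 84, nat_lit 56, nat_lit 84]) r5))))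
noncomputable def r6 : WT := (.node (nat_lit 5) (.leaf (nat_lit 23552) [nat_lit 98, nat_lit 70, nat_lit 98, nat_lit 70, nat_lit 98]) (.leaf (nat_lit 36868) [nat_lit 98, nat_lit 56, nat_lit 98, nat_lit 70, nat_lit 98, nat_lit 56, nat_lit 98]))
noncomputable def r7 : WT := (.leaf (nat_lit 48134) [nat_lit 84, nat_lit 28, nat_lit 42, nat_lit 112, nat_lit 70, nat_lit 84, nat_lit 28, nat_lit 42, nat_lit 112, nat_lit 70, nat_lit 84, nat_lit 28, nat_lit 42, nat_lit 112])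
noncomputable def r8 : WT := (.node (nat_lit 7) r7 (.node (nat_lit 8) (.leaf (nat_lit 31750) [nat_lit 42, nat_lit 70, nat_lit 98, nat_lit 70, nat_lit 42, nat_lit 70, nat_lit 98]) (.leaf (nat_lit 29699) [nat_lit 42, nat_lit 98, nat_lit 70, nat_lit 42, nat_lit 98, nat_lit 70, nat_lit 42, nat_lit 98])))
noncomputable def r9 : WT := (.leaf (nat_lit 28674) [nat_lit 84, nat_lit 98, nat_lit 112, nat_lit 28, nat_lit 70, nat_lit 84, nat_lit 98, nat_lit 112, nat_lit 28, nat_lit 70, nat_lit 84, nat_lit 98, nat_lit 112, nat_lit 28, nat_lit 70, nat_lit 84, nat_lit 98, nat_lit 112, nat_lit 28])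
noncomputable def r10 : WT := (.node (nat_lit 10) (.leaf (nat_lit 39938) [nat_lit 84, nat_lit 70, nat_lit 84, nat_lit 56, nat_lit 70, nat_lit 84, nat_lit 70, nat_lit 84, nat_lit 56]) (.node (nat_lit 11) (.leaf (nat_lit 47107) [nat_lit 56, nat_lit 84, nat_lit 70, nat_lit 56, nat_lit 84, nat_lit 70, nat_lit 56, nat_lit 84, nat_lit 70, nat_lit 56, nat_lit 84]) r9))
noncomputable def w3 : WT := (.node (nat_lit 1) (.leaf (nat_lit 3072) [nat_lit 70]) (.node (nat_lit 3) (.node (nat_lit 2) (.leaf (nat_lit 9218) [nat_lit 28, nat_lit 70, nat_lit 28]) (.leaf (nat_lit 22528) [nat_lit 84, nat_lit 70, nat_lit 84])) (.node (nat_lit 6) (.node (nat_lit 4) (.leaf (nat_lit 18434) [nat_lit 56, nat_lit 70, nat_lit 56, nat_lit 70, nat_lit 56, nat_lit 70, nat_lit 56]) r6) (.node (nat_lit 9) r8 r10))))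
noncomputable def r11 : WT := (.node (nat_lit 7) (.leaf (nat_lit 15362) [nat_lit 42, nat_lit 84, nat_lit 42]) (.leaf (nat_lit 35841) [nat_lit 56, nat_lit 28, nat_lit 84, nat_lit 56, nat_lit 28, nat_lit 84, nat_lit 56, nat_lit 28]))
noncomputable def w4 : WT := (.node (nat_lit 1) (.leaf (nat_lit 4096) [nat_lit 84]) (.node (nat_lit 3) (.node (nat_lit 2) (.leaf (nat_lit 22530) [nat_lit 70, nat_lit 84, nat_lit 70]) (.leaf (nat_lit 32771) [nat_lit 42, nat_lit 98, nat_lit 84, nat_lit 42, nat_lit 98])) (.node (nat_lit 5) (.node (nat_lit 4) (.leaf (nat_lit 19458) [nat_lit 56, nat_lit 84, nat_lit 56, nat_lit 84, nat_lit 56, nat_lit 84, nat_lit 56]) (.leaf (nat_lit 26624) [nat_lit 112, nat_lit 84, nat_lit 112])) (.node (nat_lit 6) (.leaf (nat_lit 10242) [nat_lit 28, nat_lit 84, nat_lit 28, nat_lit 84, nat_lit 28]) r11))))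
noncomputable def r12 : WT := (.node (nat_lit 6) (.leaf (nat_lit 36870) [nat_lit 56, nat_lit 98, nat_lit 70, nat_lit 98, nat_lit 56, nat_lit 98, nat_lit 70]) (.leaf (nat_lit 32769) [nat_lit 84, nat_lit 42, nat_lit 98, nat_lit 84, nat_lit 42]))
noncomputable def r13 : WT := (.node (nat_lit 8) (.leaf (nat_lit 32772) [nat_lit 42, nat_lit 84, nat_lit 98, nat_lit 42, nat_lit 84]) (.node (nat_lit 9) (.leaf (nat_lit 16386) [nat_lit 42, nat_lit 98, nat_lit 42, nat_lit 98, nat_lit 42, nat_lit 98, nat_lit 42]) (.leaf (nat_lit 20482) [nat_lit 56, nat_lit 98, nat_lit 56, nat_lit 98, nat_lit 56, nat_lit 98, nat_lit 56])))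
noncomputable def r14 : WT := (.node (nat_lit 11) (.leaf (nat_lit 25602) [nat_lit 84, nat_lit 98, nat_lit 84, nat_lit 98, nat_lit 84, nat_lit 98, nat_lit 84]) (.node (nat_lit 12) (.leaf (nat_lit 33793) [nat_lit 42, nat_lit 28, nat_lit 98, nat_lit 42, nat_lit 28]) (.leaf (nat_lit 36866) [nat_lit 70, nat_lit 98, nat_lit 56, nat_lit 98, nat_lit 70, nat_lit 98, nat_lit 56])))
noncomputable def r15 : WT := (.node (nat_lit 14) (.leaf (nat_lit 29700) [nat_lit 42, nat_lit 70, nat_lit 98, nat_lit 42, nat_lit 70, nat_lit 98, nat_lit 42, nat_lit 70]) (.node (nat_lit 15) (.leaf (nat_lit 40968) [nat_lit 42, nat_lit 98, nat_lit 70, nat_lit 112, nat_lit 98, nat_lit 42, nat_lit 98, nat_lit 70, nat_lit 112]) (.leaf (nat_lit 43010) [nat_lit 112, nat_lit 70, nat_lit 112, nat_lit 42, nat_lit 98, nat_lit 112, nat_lit 70, nat_lit 112, nat_lit 42])))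
noncomputable def r16 : WT := (.node (nat_lit 17) (.leaf (nat_lit 43015) [nat_lit 42, nat_lit 112, nat_lit 70, nat_lit 112, nat_lit 98, nat_lit 42, nat_lit 112, nat_lit 70, nat_lit 112]) (.node (nat_lit 18) (.leaf (nat_lit 34820) [nat_lit 42, nat_lit 56, nat_lit 98, nat_lit 42, nat_lit 56, nat_lit 98, nat_lit 42, nat_lit 56, nat_lit 98, nat_lit 42, nat_lit 56]) (.leaf (nat_lit 34817) [nat_lit 56, nat_lit 42, nat_lit 98, nat_lit 56, nat_lit 42, nat_lit 98, nat_lit 56, nat_lit 42, nat_lit 98, nat_lit 56, nat_lit 42])))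
noncomputable def w5 : WT := (.node (nat_lit 2) (.node (nat_lit 1) (.leaf (nat_lit 5120) [nat_lit 98]) (.leaf (nat_lit 23554) [nat_lit 70, nat_lit 98, nat_lit 70, nat_lit 98, nat_lit 70])) (.node (nat_lit 7) (.node (nat_lit 4) (.node (nat_lit 3) (.leaf (nat_lit 33796) [nat_lit 28, nat_lit 42, nat_lit 98, nat_lit 28, nat_lit 42]) (.leaf (nat_lit 46084) [nat_lit 70, nat_lit 56, nat_lit 70, nat_lit 98, nat_lit 70, nat_lit 56, nat_lit 70])) (.node (nat_lit 5) (.leaf (nat_lit 31748) [nat_lit 70, nat_lit 42, nat_lit 70, nat_lit 98, nat_lit 70, nat_lit 42, nat_lit 70]) r12)) (.node (nat_lit 13) (.node (nat_lit 10) r13 r14) (.node (nat_lit 16) r15 r16))))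
noncomputable def r17 : WT := (.node (nat_lit 5) (.leaf (nat_lit 30726) [nat_lit 42, nat_lit 70, nat_lit 42, nat_lit 112, nat_lit 42, nat_lit 70, nat_lit 42]) (.node (nat_lit 6) (.leaf (nat_lit 17410) [nat_lit 42, nat_lit 112, nat_lit 42, nat_lit 112, nat_lit 42]) (.leaf (nat_lit 24578) [nat_lit 70, nat_lit 112, nat_lit 70, nat_lit 112, nat_lit 70, nat_lit 112, nat_lit 70])))
noncomputable def r18 : WT := (.leaf (nat_lit 48132) [nat_lit 70, nat_lit 84, nat_lit 28, nat_lit 42, nat_lit 112, nat_lit 70, nat_lit 84, nat_lit 28, nat_lit 42, nat_lit 112, nat_lit 70, nat_lit 84, nat_lit 28, nat_lit 42])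
noncomputable def r19 : WT := (.leaf (nat_lit 28680) [nat_lit 28, nat_lit 70, nat_lit 84, nat_lit 98, nat_lit 112, nat_lit 28, nat_lit 70, nat_lit 84, nat_lit 98, nat_lit 112, nat_lit 28, nat_lit 70, nat_lit 84, nat_lit 98, nat_lit 112, nat_lit 28, nat_lit 70, nat_lit 84, nat_lit 98])
noncomputable def r20 : WT := (.node (nat_lit 8) (.leaf (nat_lit 43012) [nat_lit 70, nat_lit 112, nat_lit 42, nat_lit 98, nat_lit 112, nat_lit 70, nat_lit 112, nat_lit 42, nat_lit 98]) (.node (nat_lit 9) r18 r19))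
noncomputable def w6 : WT := (.node (nat_lit 1) (.leaf (nat_lit 6144) [nat_lit 112]) (.node (nat_lit 3) (.node (nat_lit 2) (.leaf (nat_lit 26626) [nat_lit 84, nat_lit 112, nat_lit 84]) (.leaf (nat_lit 21506) [nat_lit 56, nat_lit 112, nat_lit 56])) (.node (nat_lit 4) (.leaf (nat_lit 12290) [nat_lit 28, nat_lit 112, nat_lit 28]) (.node (nat_lit 7) r17 r20))))
noncomputable def wP : WT := (.node (nat_lit 2) (.node (nat_lit 1) (.leaf (nat_lit 32768) [nat_lit 42, nat_lit 84, nat_lit 98, nat_lit 42, nat_lit 84, nat_lit 98]) (.leaf (nat_lit 33792) [nat_lit 28, nat_lit 42, nat_lit 98, nat_lit 28, nat_lit 42, nat_lit 98])) (.node (nat_lit 3) (.leaf (nat_lit 40963) [nat_lit 112, nat_lit 70, nat_lit 98, nat_lit 42, nat_lit 98, nat_lit 112, nat_lit 70, nat_lit 98, nat_lit 42, nat_lit 98]) (.leaf (nat_lit 43016) [nat_lit 112, nat_lit 42, nat_lit 98, nat_lit 112, nat_lit 70, nat_lit 112, nat_lit 42, nat_lit 98, nat_lit 112, nat_lit 70])))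
noncomputable def P : Par := ⟨tb, nat_lit 126, nat_lit 0x3fffffffffffffffffffffffffffffff, nat_lit 74, nat_lit 16383, nat_lit 127, nat_lit 14, nat_lit 7, nat_lit 64,
  [nat_lit 28, nat_lit 42, nat_lit 56, nat_lit 70, nat_lit 84, nat_lit 98, nat_lit 112], [nat_lit 28, nat_lit 42, nat_lit 70, nat_lit 84, nat_lit 98, nat_lit 112], wP,
  (.cons (nat_lit 28) w0 (.cons (nat_lit 42) w1 (.cons (nat_lit 56) w2 (.cons (nat_lit 70) w3 (.cons (nat_lit 84) w4 (.cons (nat_lit 98) w5 (.cons (nat_lit 112) w6 .nil))))))),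
  .nil⟩

end Cfsg.Agent.Lib.TCHd11b
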