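import Cfsg.Agent.Lib.TCHd11cD0

set_option autoImplicit false
set_option maxRecDepth 100000

namespace Cfsg.Agent.Lib.TCHd11c
open Cfsg.Agent.Lib.TCCore

noncomputable def tb : T := (.node (nat_lit 1026) (.node (nat_lit 456) (.node (nat_lit 228) (.node (nat_lit 114) l0 l1) (.node (nat_lit 342) l2 l3)) (.node (nat_lit 684) (.node (nat_lit 570) l4 l5) (.node (nat_lit 798) l6 (.node (nat_lit 912) l7 l8)))) (.node (nat_lit 1596) (.node (nat_lit 1254) (.node (nat_lit 1140) l9 l10) (.node (nat_lit 1368) l11 (.node (nat_lit 1482) l12 l13))) (.node (nat_lit 1824) (.node (nat_lit 1710) l14 l15) (.node (nat_lit 1938) l16 (.node (nat_lit 2052) l17 l18)))))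
noncomputable def r0 : WT := (.leaf (nat_lit 33792) [nat_lit 63, nat_lit 147, nat_lit 84, nat_lit 105, nat_lit 42, nat_lit 63, nat_lit 147, nat_lit 84, nat_lit 105, nat_lit 42, nat_lit 63, nat_lit 147, nat_lit 84, nat_lit 105])
noncomputable def r1 : WT := (.leaf (nat_lit 21504) [nat_lit 84, nat_lit 105, nat_lit 126, nat_lit 147, nat_lit 42, nat_lit 84, nat_lit 105, nat_lit 126, nat_lit 147, nat_lit 42, nat_lit 84, nat_lit 105, nat_lit 126, nat_lit 147, nat_lit 42, nat_lit 84, nat_lit 105, nat_lit 126, nat_lit 147])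
noncomputable def r2 : WT := (.leaf (nat_lit 21513) [nat_lit 147, nat_lit 126, nat_lit 105, nat_lit 84, nat_lit 42, nat_lit 147, nat_lit 126, nat_lit 105, nat_lit 84, nat_lit 42, nat_lit 147, nat_lit 126, nat_lit 105, nat_lit 84, nat_lit 42, nat_lit 147, nat_lit 126, nat_lit 105, nat_lit 84])
noncomputable def r3 : WT := (.node (nat_lit 7) (.leaf (nat_lit 26629) [nat_lit 126, nat_lit 63, nat_lit 42, nat_lit 126, nat_lit 63]) (.node (nat_lit 8) r0 (.node (nat_lit 9) (.leaf (nat_lit 9216) [nat_lit 126, nat_lit 42, nat_lit 126, nat_lit 42, nat_lit 126, nat_lit 42, nat_lit 126]) (.node (nat_lit 10) r1 r2))))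
noncomputable def w0 : WT := (.node (nat_lit 1) (.leaf (nat_lit 0) [nat_lit 42]) (.node (nat_lit 3) (.node (nat_lit 2) (.leaf (nat_lit 7168) [nat_lit 84, nat_lit 42, nat_lit 84]) (.leaf (nat_lit 6144) [nat_lit 63, nat_lit 42, nat_lit 63])) (.node (nat_lit 5) (.node (nat_lit 4) (.leaf (nat_lit 8192) [nat_lit 105, nat_lit 42, nat_lit 105, nat_lit 42, nat_lit 105]) (.leaf (nat_lit 10240) [nat_lit 147, nat_lit 42, nat_lit 147])) (.node (nat_lit 6) (.leaf (nat_lit 26624) [nat_lit 63, nat_lit 126, nat_lit 42, nat_lit 63, nat_lit 126]) r3))))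
noncomputable def r4 : WT := (.node (nat_lit 6) (.leaf (nat_lit 23556) [nat_lit 147, nat_lit 63, nat_lit 84, nat_lit 63, nat_lit 147, nat_lit 63, nat_lit 84]) (.leaf (nat_lit 25600) [nat_lit 105, nat_lit 126, nat_lit 63, nat_lit 105, nat_lit 126]))
noncomputable def r5 : WT := (.leaf (nat_lit 33794) [nat_lit 147, nat_lit 84, nat_lit 105, nat_lit 42, nat_lit 63, nat_lit 147, nat_lit 84, nat_lit 105, nat_lit 42, nat_lit 63, nat_lit 147, nat_lit 84, nat_lit 105, nat_lit 42])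
noncomputable def r6 : WT := (.node (nat_lit 13) (.leaf (nat_lit 26626) [nat_lit 126, nat_lit 42, nat_lit 63, nat_lit 126, nat_lit 42]) (.leaf (nat_lit 32773) [nat_lit 84, nat_lit 63, nat_lit 105, nat_lit 84, nat_lit 63, nat_lit 84, nat_lit 63, nat_lit 105, nat_lit 84]))
noncomputable def r7 : WT := (.leaf (nat_lit 33799) [nat_lit 42, nat_lit 105, nat_lit 84, nat_lit 147, nat_lit 63, nat_lit 42, nat_lit 105, nat_lit 84, nat_lit 147, nat_lit 63, nat_lit 42, nat_lit 105, nat_lit 84, nat_lit 147])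
noncomputable def r8 : WT := (.node (nat_lit 15) r7 (.leaf (nat_lit 22533) [nat_lit 126, nat_lit 84, nat_lit 63, nat_lit 126, nat_lit 84, nat_lit 63, nat_lit 126, nat_lit 84]))
noncomputable def r9 : WT := (.node (nat_lit 17) (.leaf (nat_lit 22528) [nat_lit 84, nat_lit 126, nat_lit 63, nat_lit 84, nat_lit 126, nat_lit 63, nat_lit 84, nat_lit 126]) (.node (nat_lit 18) (.leaf (nat_lit 30720) [nat_lit 126, nat_lit 147, nat_lit 84, nat_lit 147, nat_lit 63, nat_lit 126, nat_lit 147, nat_lit 84, nat_lit 147]) (.leaf (nat_lit 23552) [nat_lit 84, nat_lit 63, nat_lit 147, nat_lit 63, nat_lit 84, nat_lit 63, nat_lit 147])))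
noncomputable def r10 : WT := (.node (nat_lit 9) (.node (nat_lit 8) (.leaf (nat_lit 26627) [nat_lit 42, nat_lit 126, nat_lit 63, nat_lit 42, nat_lit 126]) (.leaf (nat_lit 28672) [nat_lit 126, nat_lit 84, nat_lit 147, nat_lit 126, nat_lit 63, nat_lit 126, nat_lit 84, nat_lit 147, nat_lit 126])) (.node (nat_lit 11) (.node (nat_lit 10) (.leaf (nat_lit 24576) [nat_lit 84, nat_lit 126, nat_lit 84, nat_lit 63, nat_lit 84, nat_lit 126, nat_lit 84]) (.leaf (nat_lit 13312) [nat_lit 126, nat_lit 63, nat_lit 126, nat_lit 63, nat_lit 126, nat_lit 63, nat_lit 126])) (.node (nat_lit 14) (.node (nat_lit 12) r5 r6) (.node (nat_lit 16) r8 r9))))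
noncomputable def w1 : WT := (.node (nat_lit 1) (.leaf (nat_lit 1024) [nat_lit 63]) (.node (nat_lit 3) (.node (nat_lit 2) (.leaf (nat_lit 6146) [nat_lit 42, nat_lit 63, nat_lit 42]) (.leaf (nat_lit 12288) [nat_lit 105, nat_lit 63, nat_lit 105])) (.node (nat_lit 5) (.node (nat_lit 4) (.leaf (nat_lit 11264) [nat_lit 84, nat_lit 63, nat_lit 84, nat_lit 63, nat_lit 84, nat_lit 63, nat_lit 84]) (.leaf (nat_lit 14336) [nat_lit 147, nat_lit 63, nat_lit 147, nat_lit 63, nat_lit 147])) (.node (nat_lit 7) r4 r10))))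
noncomputable def r11 : WT := (.node (nat_lit 6) (.leaf (nat_lit 24578) [nat_lit 126, nat_lit 84, nat_lit 63, nat_lit 84, nat_lit 126, nat_lit 84, nat_lit 63]) (.leaf (nat_lit 23554) [nat_lit 63, nat_lit 147, nat_lit 63, nat_lit 84, nat_lit 63, nat_lit 147, nat_lit 63]))
noncomputable def r12 : WT := (.leaf (nat_lit 33798) [nat_lit 105, nat_lit 42, nat_lit 63, nat_lit 147, nat_lit 84, nat_lit 105, nat_lit 42, nat_lit 63, nat_lit 147, nat_lit 84, nat_lit 105, nat_lit 42, nat_lit 63, nat_lit 147])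
noncomputable def r13 : WT := (.node (nat_lit 13) (.leaf (nat_lit 22530) [nat_lit 126, nat_lit 63, nat_lit 84, nat_lit 126, nat_lit 63, nat_lit 84, nat_lit 126, nat_lit 63]) (.leaf (nat_lit 22531) [nat_lit 63, nat_lit 126, nat_lit 84, nat_lit 63, nat_lit 126, nat_lit 84, nat_lit 63, nat_lit 126]))
noncomputable def r14 : WT := (.leaf (nat_lit 33795) [nat_lit 147, nat_lit 63, nat_lit 42, nat_lit 105, nat_lit 84, nat_lit 147, nat_lit 63, nat_lit 42, nat_lit 105, nat_lit 84, nat_lit 147, nat_lit 63, nat_lit 42, nat_lit 105])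
noncomputable def r15 : WT := (.leaf (nat_lit 21506) [nat_lit 105, nat_lit 126, nat_lit 147, nat_lit 42, nat_lit 84, nat_lit 105, nat_lit 126, nat_lit 147, nat_lit 42, nat_lit 84, nat_lit 105, nat_lit 126, nat_lit 147, nat_lit 42, nat_lit 84, nat_lit 105, nat_lit 126, nat_lit 147, nat_lit 42])
noncomputable def r16 : WT := (.node (nat_lit 15) r14 (.node (nat_lit 16) (.leaf (nat_lit 32771) [nat_lit 63, nat_lit 84, nat_lit 63, nat_lit 105, nat_lit 84, nat_lit 63, nat_lit 84, nat_lit 63, nat_lit 105]) r15))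
noncomputable def r17 : WT := (.leaf (nat_lit 21511) [nat_lit 42, nat_lit 147, nat_lit 126, nat_lit 105, nat_lit 84, nat_lit 42, nat_lit 147, nat_lit 126, nat_lit 105, nat_lit 84, nat_lit 42, nat_lit 147, nat_lit 126, nat_lit 105, nat_lit 84, nat_lit 42, nat_lit 147, nat_lit 126, nat_lit 105])
noncomputable def r18 : WT := (.node (nat_lit 19) (.node (nat_lit 18) r17 (.leaf (nat_lit 32774) [nat_lit 105, nat_lit 63, nat_lit 84, nat_lit 63, nat_lit 84, nat_lit 105, nat_lit 63, nat_lit 84, nat_lit 63])) (.node (nat_lit 20) (.leaf (nat_lit 29700) [nat_lit 42, nat_lit 84, nat_lit 42, nat_lit 63, nat_lit 84, nat_lit 42, nat_lit 84, nat_lit 42, nat_lit 63]) (.node (nat_lit 21) (.leaf (nat_lit 28676) [nat_lit 147, nat_lit 126, nat_lit 63, nat_lit 126, nat_lit 84, nat_lit 147, nat_lit 126, nat_lit 63, nat_lit 126]) (.leaf (nat_lit 24582) [nat_lit 63, nat_lit 84, nat_lit 126, nat_lit 84, nat_lit 63, nat_lit 84, nat_lit 126]))))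
noncomputable def r19 : WT := (.node (nat_lit 9) (.node (nat_lit 8) (.leaf (nat_lit 17408) [nat_lit 147, nat_lit 84, nat_lit 147, nat_lit 84, nat_lit 147, nat_lit 84, nat_lit 147]) (.leaf (nat_lit 30726) [nat_lit 147, nat_lit 63, nat_lit 126, nat_lit 147, nat_lit 84, nat_lit 147, nat_lit 63, nat_lit 126, nat_lit 147])) (.node (nat_lit 11) (.node (nat_lit 10) (.leaf (nat_lit 28677) [nat_lit 126, nat_lit 63, nat_lit 126, nat_lit 147, nat_lit 84, nat_lit 126, nat_lit 63, nat_lit 126, nat_lit 147]) r12) (.node (nat_lit 14) (.node (nat_lit 12) (.leaf (nat_lit 30723) [nat_lit 147, nat_lit 126, nat_lit 63, nat_lit 147, nat_lit 84, nat_lit 147, nat_lit 126, nat_lit 63, nat_lit 147]) r13) (.node (nat_lit 17) r16 r18))))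
noncomputable def w2 : WT := (.node (nat_lit 1) (.leaf (nat_lit 2048) [nat_lit 84]) (.node (nat_lit 3) (.node (nat_lit 2) (.leaf (nat_lit 15360) [nat_lit 105, nat_lit 84, nat_lit 105]) (.leaf (nat_lit 7170) [nat_lit 42, nat_lit 84, nat_lit 42])) (.node (nat_lit 5) (.node (nat_lit 4) (.leaf (nat_lit 11266) [nat_lit 63, nat_lit 84, nat_lit 63, nat_lit 84, nat_lit 63, nat_lit 84, nat_lit 63]) (.leaf (nat_lit 16384) [nat_lit 126, nat_lit 84, nat_lit 126, nat_lit 84, nat_lit 126])) (.node (nat_lit 7) r11 r19))))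
noncomputable def r20 : WT := (.leaf (nat_lit 33793) [nat_lit 84, nat_lit 147, nat_lit 63, nat_lit 42, nat_lit 105, nat_lit 84, nat_lit 147, nat_lit 63, nat_lit 42, nat_lit 105, nat_lit 84, nat_lit 147, nat_lit 63, nat_lit 42])
noncomputable def r21 : WT := (.leaf (nat_lit 21509) [nat_lit 84, nat_lit 42, nat_lit 147, nat_lit 126, nat_lit 105, nat_lit 84, nat_lit 42, nat_lit 147, nat_lit 126, nat_lit 105, nat_lit 84, nat_lit 42, nat_lit 147, nat_lit 126, nat_lit 105, nat_lit 84, nat_lit 42, nat_lit 147, nat_lit 126])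
noncomputable def r22 : WT := (.node (nat_lit 7) r20 (.node (nat_lit 8) r21 (.node (nat_lit 9) (.leaf (nat_lit 25602) [nat_lit 126, nat_lit 63, nat_lit 105, nat_lit 126, nat_lit 63]) (.node (nat_lit 10) (.leaf (nat_lit 18432) [nat_lit 126, nat_lit 105, nat_lit 126, nat_lit 105, nat_lit 126, nat_lit 105, nat_lit 126]) (.leaf (nat_lit 32776) [nat_lit 63, nat_lit 84, nat_lit 63, nat_lit 84, nat_lit 105, nat_lit 63, nat_lit 84, nat_lit 63, nat_lit 84])))))
noncomputable def w3 : WT := (.node (nat_lit 1) (.leaf (nat_lit 3072) [nat_lit 105]) (.node (nat_lit 3) (.node (nat_lit 2) (.leaf (nat_lit 12290) [nat_lit 63, nat_lit 105, nat_lit 63]) (.leaf (nat_lit 15362) [nat_lit 84, nat_lit 105, nat_lit 84])) (.node (nat_lit 5) (.node (nat_lit 4) (.leaf (nat_lit 8194) [nat_lit 42, nat_lit 105, nat_lit 42, nat_lit 105, nat_lit 42]) (.leaf (nat_lit 25603) [nat_lit 63, nat_lit 126, nat_lit 105, nat_lit 63, nat_lit 126])) (.node (nat_lit 6) (.leaf (nat_lit 19456)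 [nat_lit 147, nat_lit 105, nat_lit 147]) r22))))
noncomputable def r23 : WT := (.node (nat_lit 6) (.leaf (nat_lit 26628) [nat_lit 42, nat_lit 63, nat_lit 126, nat_lit 42, nat_lit 63]) (.leaf (nat_lit 20480) [nat_lit 147, nat_lit 126, nat_lit 147, nat_lit 126, nat_lit 147, nat_lit 126, nat_lit 147, nat_lit 126, nat_lit 147]))
noncomputable def r24 : WT := (.leaf (nat_lit 21507) [nat_lit 105, nat_lit 84, nat_lit 42, nat_lit 147, nat_lit 126, nat_lit 105, nat_lit 84, nat_lit 42, nat_lit 147, nat_lit 126, nat_lit 105, nat_lit 84, nat_lit 42, nat_lit 147, nat_lit 126, nat_lit 105, nat_lit 84, nat_lit 42, nat_lit 147])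
noncomputable def r25 : WT := (.leaf (nat_lit 21510) [nat_lit 147, nat_lit 42, nat_lit 84, nat_lit 105, nat_lit 126, nat_lit 147, nat_lit 42, nat_lit 84, nat_lit 105, nat_lit 126, nat_lit 147, nat_lit 42, nat_lit 84, nat_lit 105, nat_lit 126, nat_lit 147, nat_lit 42, nat_lit 84, nat_lit 105])
noncomputable def r26 : WT := (.node (nat_lit 16) (.leaf (nat_lit 28673) [nat_lit 147, nat_lit 84, nat_lit 126, nat_lit 63, nat_lit 126, nat_lit 147, nat_lit 84, nat_lit 126, nat_lit 63]) (.leaf (nat_lit 28679) [nat_lit 63, nat_lit 126, nat_lit 147, nat_lit 84, nat_lit 126, nat_lit 63, nat_lit 126, nat_lit 147, nat_lit 84]))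
noncomputable def r27 : WT := (.node (nat_lit 18) (.leaf (nat_lit 30727) [nat_lit 63, nat_lit 147, nat_lit 84, nat_lit 147, nat_lit 126, nat_lit 63, nat_lit 147, nat_lit 84, nat_lit 147]) (.node (nat_lit 19) (.leaf (nat_lit 9218) [nat_lit 42, nat_lit 126, nat_lit 42, nat_lit 126, nat_lit 42, nat_lit 126, nat_lit 42]) (.leaf (nat_lit 22532) [nat_lit 63, nat_lit 84, nat_lit 126, nat_lit 63, nat_lit 84, nat_lit 126, nat_lit 63, nat_lit 84])))
noncomputable def r28 : WT := (.node (nat_lit 10) (.node (nat_lit 8) (.leaf (nat_lit 13314) [nat_lit 63, nat_lit 126, nat_lit 63, nat_lit 126, nat_lit 63, nat_lit 126, nat_lit 63]) (.node (nat_lit 9) (.leaf (nat_lit 28680) [nat_lit 63, nat_lit 126, nat_lit 84, nat_lit 147, nat_lit 126, nat_lit 63, nat_lit 126, nat_lit 84, nat_lit 147]) r24)) (.node (nat_lit 13) (.node (nat_lit 11) (.leaf (nat_lit 24580) [nat_lit 84, nat_lit 63, nat_lit 84, nat_lit 126, nat_lit 84, nat_lit 63, nat_lit 84]) (.node (nat_lit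 12) (.leaf (nat_lit 22529) [nat_lit 84, nat_lit 63, nat_lit 126, nat_lit 84, nat_lit 63, nat_lit 126, nat_lit 84, nat_lit 63]) (.leaf (nat_lit 28674) [nat_lit 84, nat_lit 147, nat_lit 126, nat_lit 63, nat_lit 126, nat_lit 84, nat_lit 147, nat_lit 126, nat_lit 63]))) (.node (nat_lit 15) (.node (nat_lit 14) (.leaf (nat_lit 18434) [nat_lit 105, nat_lit 126, nat_lit 105, nat_lit 126, nat_lit 105, nat_lit 126, nat_lit 105]) r25) (.node (nat_lit 17) r26 r27))))
noncomputable def w4 : WT := (.node (nat_lit 1) (.leaf (nat_lit 4096) [nat_lit 126]) (.node (nat_lit 3) (.node (nat_lit 2) (.leaf (nat_lit 25601) [nat_lit 105, nat_lit 63, nat_lit 126, nat_lit 105, nat_lit 63]) (.leaf (nat_lit 26625) [nat_lit 63, nat_lit 42, nat_lit 126, nat_lit 63, nat_lit 42])) (.node (nat_lit 5) (.node (nat_lit 4) (.leaf (nat_lit 16386) [nat_lit 84, nat_lit 126, nat_lit 84, nat_lit 126, nat_lit 84]) (.leaf (nat_lit 25604) [nat_lit 63, nat_lit 105, nat_lit 126, nat_lit 63,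 nat_lit 105])) (.node (nat_lit 7) r23 r28))))
noncomputable def r29 : WT := (.leaf (nat_lit 21512) [nat_lit 42, nat_lit 84, nat_lit 105, nat_lit 126, nat_lit 147, nat_lit 42, nat_lit 84, nat_lit 105, nat_lit 126, nat_lit 147, nat_lit 42, nat_lit 84, nat_lit 105, nat_lit 126, nat_lit 147, nat_lit 42, nat_lit 84, nat_lit 105, nat_lit 126])
noncomputable def r30 : WT := (.leaf (nat_lit 33797) [nat_lit 63, nat_lit 42, nat_lit 105, nat_lit 84, nat_lit 147, nat_lit 63, nat_lit 42, nat_lit 105, nat_lit 84, nat_lit 147, nat_lit 63, nat_lit 42, nat_lit 105, nat_lit 84])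
noncomputable def r31 : WT := (.leaf (nat_lit 21505) [nat_lit 126, nat_lit 105, nat_lit 84, nat_lit 42, nat_lit 147, nat_lit 126, nat_lit 105, nat_lit 84, nat_lit 42, nat_lit 147, nat_lit 126, nat_lit 105, nat_lit 84, nat_lit 42, nat_lit 147, nat_lit 126, nat_lit 105, nat_lit 84, nat_lit 42])
noncomputable def r32 : WT := (.node (nat_lit 14) (.leaf (nat_lit 30725) [nat_lit 126, nat_lit 63, nat_lit 147, nat_lit 84, nat_lit 147, nat_lit 126, nat_lit 63, nat_lit 147, nat_lit 84]) (.node (nat_lit 15) (.leaf (nat_lit 30721) [nat_lit 84, nat_lit 147, nat_lit 126, nat_lit 63, nat_lit 147, nat_lit 84, nat_lit 147, nat_lit 126, nat_lit 63]) r31))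
noncomputable def r33 : WT := (.node (nat_lit 9) (.node (nat_lit 8) (.leaf (nat_lit 28675) [nat_lit 84, nat_lit 126, nat_lit 63, nat_lit 126, nat_lit 147, nat_lit 84, nat_lit 126, nat_lit 63, nat_lit 126]) (.leaf (nat_lit 23558) [nat_lit 63, nat_lit 84, nat_lit 63, nat_lit 147, nat_lit 63, nat_lit 84, nat_lit 63])) (.node (nat_lit 11) (.node (nat_lit 10) r29 (.leaf (nat_lit 30724) [nat_lit 84, nat_lit 147, nat_lit 63, nat_lit 126, nat_lit 147, nat_lit 84, nat_lit 147, nat_lit 63, nat_lit 126])) (.node (nat_lit 12) r30 (.node (nat_lit 13) (.leaf (nat_lit 28678) [nat_lit 126, nat_lit 63, nat_lit 126, nat_lit 84, nat_lit 147, nat_lit 126, nat_lit 63, nat_lit 126, nat_lit 84]) r32))))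
noncomputable def w5 : WT := (.node (nat_lit 1) (.leaf (nat_lit 5120) [nat_lit 147]) (.node (nat_lit 4) (.node (nat_lit 2) (.leaf (nat_lit 19458) [nat_lit 105, nat_lit 147, nat_lit 105]) (.node (nat_lit 3) (.leaf (nat_lit 10242) [nat_lit 42, nat_lit 147, nat_lit 42]) (.leaf (nat_lit 17410) [nat_lit 84, nat_lit 147, nat_lit 84, nat_lit 147, nat_lit 84, nat_lit 147, nat_lit 84]))) (.node (nat_lit 6) (.node (nat_lit 5) (.leaf (nat_lit 14338) [nat_lit 63, nat_lit 147, nat_lit 63, nat_lit 147, nat_lit 63]) (.leaf (nat_lit 30728) [nat_lit 63, nat_lit 126, nat_lit 147, nat_lit 84, nat_lit 147, nat_lit 63, nat_lit 126, nat_lit 147, nat_lit 84])) (.node (nat_lit 7) (.leaf (nat_lit 20482) [nat_lit 126, nat_lit 147, nat_lit 126, nat_lit 147, nat_lit 126, nat_lit 147, nat_lit 126, nat_lit 147, nat_lit 126]) r33))))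
noncomputable def wP : WT := (.leaf (nat_lit 0) [nat_lit 42, nat_lit 42])
noncomputable def P : Par := ⟨tb, nat_lit 168, nat_lit 0xffffffffffffffffffffffffffffffffffffffffff, nat_lit 2160, nat_lit 2097151, nat_lit 4095, nat_lit 21, nat_lit 12, nat_lit 2160,
  [nat_lit 42, nat_lit 63, nat_lit 84, nat_lit 105, nat_lit 126, nat_lit 147], [], wP,
  (.cons (nat_lit 42) w0 (.cons (nat_lit 63) w1 (.cons (nat_lit 84) w2 (.cons (nat_lit 105) w3 (.cons (nat_lit 126) w4 (.cons (nat_lit 147) w5 .nil)))))),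
  .nil⟩

end Cfsg.Agent.Lib.TCHd11c
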