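import Cfsg.Agent.Lib.TCHe1D0

set_option autoImplicit false
set_option maxRecDepth 100000

namespace Cfsg.Agent.Lib.TCHe1
open Cfsg.Agent.Lib.TCCore

noncomputable def n0 : T := (.node (nat_lit 61) l0 l1)
noncomputable def n1 : T := (.node (nat_lit 183) l2 (.node (nat_lit 244) l3 l4))
noncomputable def n2 : T := (.node (nat_lit 366) l5 (.node (nat_lit 427) l6 l7))
noncomputable def n3 : T := (.node (nat_lit 549) l8 (.node (nat_lit 610) l9 l10))
noncomputable def n4 : T := (.node (nat_lit 732) l11 l12)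
noncomputable def n5 : T := (.node (nat_lit 854) l13 (.node (nat_lit 915) l14 l15))
noncomputable def n6 : T := (.node (nat_lit 1037) l16 (.node (nat_lit 1098) l17 l18))
noncomputable def n7 : T := (.node (nat_lit 1220) l19 (.node (nat_lit 1281) l20 l21))
noncomputable def n8 : T := (.node (nat_lit 1403) l22 l23)
noncomputable def n9 : T := (.node (nat_lit 1525) l24 (.node (nat_lit 1586) l25 l26))
noncomputable def n10 : T := (.node (nat_lit 1708) l27 (.node (nat_lit 1769) l28 l29))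
noncomputable def n11 : T := (.node (nat_lit 1891) l30 (.node (nat_lit 1952) l31 l32))
noncomputable def n12 : T := (.node (nat_lit 2074) l33 l34)
noncomputable def n13 : T := (.node (nat_lit 2196) l35 (.node (nat_lit 2257) l36 l37))
noncomputable def n14 : T := (.node (nat_lit 2379) l38 (.node (nat_lit 2440) l39 l40))
noncomputable def n15 : T := (.node (nat_lit 2562) l41 (.node (nat_lit 2623) l42 l43))
noncomputable def n16 : T := (.node (nat_lit 2745) l44 l45)
noncomputable def n17 : T := (.node (nat_lit 2867) l46 (.node (nat_lit 2928) l47 l48))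
noncomputable def n18 : T := (.node (nat_lit 3050) l49 (.node (nat_lit 3111) l50 l51))
noncomputable def n19 : T := (.node (nat_lit 3233) l52 (.node (nat_lit 3294) l53 l54))
noncomputable def n20 : T := (.node (nat_lit 3416) l55 l56)
noncomputable def n21 : T := (.node (nat_lit 3538) l57 (.node (nat_lit 3599) l58 l59))
noncomputable def n22 : T := (.node (nat_lit 3721) l60 (.node (nat_lit 3782) l61 l62))
noncomputable def n23 : T := (.node (nat_lit 3904) l63 (.node (nat_lit 3965) l64 l65))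
noncomputable def n24 : T := (.node (nat_lit 4087) l66 l67)
noncomputable def n25 : T := (.node (nat_lit 4209) l68 (.node (nat_lit 4270) l69 l70))
noncomputable def n26 : T := (.node (nat_lit 4392) l71 (.node (nat_lit 4453) l72 l73))
noncomputable def n27 : T := (.node (nat_lit 4575) l74 (.node (nat_lit 4636) l75 l76))
noncomputable def n28 : T := (.node (nat_lit 4758) l77 l78)
noncomputable def n29 : T := (.node (nat_lit 4880) l79 (.node (nat_lit 4941) l80 l81))
noncomputable def n30 : T := (.node (nat_lit 5063) l82 (.node (nat_lit 5124) l83 l84))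
noncomputable def n31 : T := (.node (nat_lit 5246) l85 (.node (nat_lit 5307) l86 l87))
noncomputable def tb : T := (.node (nat_lit 2684) (.node (nat_lit 1342) (.node (nat_lit 671) (.node (nat_lit 305) (.node (nat_lit 122) n0 n1) (.node (nat_lit 488) n2 n3)) (.node (nat_lit 976) (.node (nat_lit 793) n4 n5) (.node (nat_lit 1159) n6 n7))) (.node (nat_lit 2013) (.node (nat_lit 1647) (.node (nat_lit 1464) n8 n9) (.node (nat_lit 1830) n10 n11)) (.node (nat_lit 2318) (.node (nat_lit 2135) n12 n13) (.node (nat_lit 2501) n14 n15)))) (.node (nat_lit 4026) (.node (nat_lit 3355) (.node (nat_lit 2989) (.node (nat_lit 2806) n16 n17) (.node (nat_lit 3172) n18 n19)) (.node (nat_lit 3660) (.node (nat_lit 3477) n20 n21) (.node (nat_lit 3843) n22 n23))) (.node (nat_lit 4697) (.node (nat_lit 4331) (.node (nat_lit 4148) n24 n25) (.node (nat_lit 4514) n26 n27)) (.node (nat_lit 5002) (.node (nat_lit 4819) n28 n29) (.node (nat_lit 5185) n30 n31)))))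
noncomputable def r0 : WT := (.node (nat_lit 11) (.leaf (nat_lit 30741) [nat_lit 96, nat_lit 120, nat_lit 96, nat_lit 120, nat_lit 96, nat_lit 120, nat_lit 96, nat_lit 120, nat_lit 96, nat_lit 120]) (.node (nat_lit 12) (.leaf (nat_lit 29703) [nat_lit 72, nat_lit 96, nat_lit 48, nat_lit 72, nat_lit 96, nat_lit 144, nat_lit 48, nat_lit 72, nat_lit 96]) (.node (nat_lit 13) (.leaf (nat_lit 33798) [nat_lit 72, nat_lit 240, nat_lit 48, nat_lit 72]) (.leaf (nat_lit 30720) [nat_lit 120, nat_lit 96, nat_lit 120, nat_lit 96, nat_lit 120, nat_lit 96, nat_lit 120, nat_lit 96, nat_lit 120, nat_lit 96]))))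
noncomputable def r1 : WT := (.node (nat_lit 7) (.leaf (nat_lit 7168) [nat_lit 72, nat_lit 48, nat_lit 72, nat_lit 48, nat_lit 72, nat_lit 48, nat_lit 72]) (.node (nat_lit 8) (.leaf (nat_lit 29702) [nat_lit 96, nat_lit 72, nat_lit 48, nat_lit 96, nat_lit 72, nat_lit 48, nat_lit 144, nat_lit 96, nat_lit 72]) (.node (nat_lit 9) (.leaf (nat_lit 29697) [nat_lit 72, nat_lit 96, nat_lit 48, nat_lit 72, nat_lit 96, nat_lit 48, nat_lit 72, nat_lit 96, nat_lit 144]) (.node (nat_lit 10) (.leaf (nat_lit 29714) [nat_lit 144, nat_lit 96, nat_lit 72, nat_lit 48, nat_lit 96, nat_lit 72, nat_lit 48, nat_lit 96, nat_lit 72]) r0))))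
noncomputable def w0 : WT := (.node (nat_lit 1) (.leaf (nat_lit 0) [nat_lit 48]) (.node (nat_lit 3) (.node (nat_lit 2) (.leaf (nat_lit 12288) [nat_lit 192, nat_lit 48, nat_lit 192]) (.leaf (nat_lit 11264) [nat_lit 168, nat_lit 48, nat_lit 168])) (.node (nat_lit 5) (.node (nat_lit 4) (.leaf (nat_lit 9216) [nat_lit 120, nat_lit 48, nat_lit 120]) (.leaf (nat_lit 10240) [nat_lit 144, nat_lit 48, nat_lit 144])) (.node (nat_lit 6) (.leaf (nat_lit 8192) [nat_lit 96, nat_lit 48, nat_lit 96]) r1))))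
noncomputable def r2 : WT := (.node (nat_lit 11) (.leaf (nat_lit 29700) [nat_lit 48, nat_lit 96, nat_lit 72, nat_lit 48, nat_lit 96, nat_lit 72, nat_lit 48, nat_lit 144, nat_lit 96]) (.leaf (nat_lit 29712) [nat_lit 48, nat_lit 144, nat_lit 96, nat_lit 72, nat_lit 48, nat_lit 96, nat_lit 72, nat_lit 48, nat_lit 96]))
noncomputable def r3 : WT := (.node (nat_lit 7) (.leaf (nat_lit 7170) [nat_lit 48, nat_lit 72, nat_lit 48, nat_lit 72, nat_lit 48, nat_lit 72, nat_lit 48]) (.node (nat_lit 8) (.leaf (nat_lit 29699) [nat_lit 96, nat_lit 48, nat_lit 72, nat_lit 96, nat_lit 48, nat_lit 72, nat_lit 96, nat_lit 144, nat_lit 48]) (.node (nat_lit 9) (.leaf (nat_lit 29705) [nat_lit 96, nat_lit 48, nat_lit 72, nat_lit 96, nat_lit 144, nat_lit 48, nat_lit 72, nat_lit 96, nat_lit 48]) (.node (nat_lit 10) (.leaf (nat_lit 29706) [nat_lit 48, nat_lit 96, nat_lit 72, nat_lit 48, nat_lit 144, nat_lit 96, nat_lit 72, nat_lit 48, nat_lit 96]) r2))))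
noncomputable def w1 : WT := (.node (nat_lit 1) (.leaf (nat_lit 1024) [nat_lit 72]) (.node (nat_lit 3) (.node (nat_lit 2) (.leaf (nat_lit 17408) [nat_lit 192, nat_lit 72, nat_lit 192]) (.leaf (nat_lit 14336) [nat_lit 120, nat_lit 72, nat_lit 120])) (.node (nat_lit 5) (.node (nat_lit 4) (.leaf (nat_lit 16384) [nat_lit 168, nat_lit 72, nat_lit 168]) (.leaf (nat_lit 15360) [nat_lit 144, nat_lit 72, nat_lit 144])) (.node (nat_lit 6) (.leaf (nat_lit 13312) [nat_lit 96, nat_lit 72, nat_lit 96, nat_lit 72, nat_lit 96]) r3))))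
noncomputable def r4 : WT := (.leaf (nat_lit 31744) [nat_lit 120, nat_lit 168, nat_lit 192, nat_lit 96, nat_lit 120, nat_lit 168, nat_lit 192, nat_lit 96, nat_lit 120, nat_lit 168, nat_lit 192, nat_lit 96, nat_lit 120, nat_lit 168, nat_lit 192])
noncomputable def r5 : WT := (.leaf (nat_lit 31751) [nat_lit 192, nat_lit 168, nat_lit 120, nat_lit 96, nat_lit 192, nat_lit 168, nat_lit 120, nat_lit 96, nat_lit 192, nat_lit 168, nat_lit 120, nat_lit 96, nat_lit 192, nat_lit 168, nat_lit 120])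
noncomputable def r6 : WT := (.node (nat_lit 13) (.node (nat_lit 12) (.leaf (nat_lit 30736) [nat_lit 120, nat_lit 96, nat_lit 48, nat_lit 120, nat_lit 96, nat_lit 120, nat_lit 96, nat_lit 120, nat_lit 96, nat_lit 120]) (.leaf (nat_lit 30740) [nat_lit 48, nat_lit 120, nat_lit 96, nat_lit 120, nat_lit 96, nat_lit 120, nat_lit 96, nat_lit 120, nat_lit 96, nat_lit 120])) (.node (nat_lit 14) (.leaf (nat_lit 29707) [nat_lit 48, nat_lit 72, nat_lit 96, nat_lit 144, nat_lit 48, nat_lit 72, nat_lit 96, nat_lit 48, nat_lit 72]) (.node (nat_lit 15) (.leaf (nat_lit 29713) [nat_lit 144, nat_lit 48, nat_lit 72, nat_lit 96, nat_lit 48, nat_lit 72, nat_lit 96, nat_lit 48, nat_lit 72]) (.leaf (nat_lit 30732) [nat_lit 120, nat_lit 96, nat_lit 120, nat_lit 96, nat_lit 48, nat_lit 120, nat_lit 96, nat_lit 120, nat_lit 96, nat_lit 120]))))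
noncomputable def r7 : WT := (.node (nat_lit 8) (.node (nat_lit 7) (.leaf (nat_lit 30724) [nat_lit 120, nat_lit 96, nat_lit 120, nat_lit 96, nat_lit 120, nat_lit 96, nat_lit 120, nat_lit 96, nat_lit 48, nat_lit 120]) r4) (.node (nat_lit 9) r5 (.node (nat_lit 10) (.leaf (nat_lit 30728) [nat_lit 120, nat_lit 96, nat_lit 120, nat_lit 96, nat_lit 120, nat_lit 96, nat_lit 48, nat_lit 120, nat_lit 96, nat_lit 120]) (.node (nat_lit 11) (.leaf (nat_lit 29701) [nat_lit 48, nat_lit 72, nat_lit 96, nat_lit 48, nat_lit 72, nat_lit 96, nat_lit 144, nat_lit 48, nat_lit 72]) r6))))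
noncomputable def w2 : WT := (.node (nat_lit 1) (.leaf (nat_lit 2048) [nat_lit 96]) (.node (nat_lit 3) (.node (nat_lit 2) (.leaf (nat_lit 21504) [nat_lit 192, nat_lit 96, nat_lit 192]) (.leaf (nat_lit 20480) [nat_lit 168, nat_lit 96, nat_lit 168])) (.node (nat_lit 5) (.node (nat_lit 4) (.leaf (nat_lit 19456) [nat_lit 144, nat_lit 96, nat_lit 144]) (.leaf (nat_lit 13314) [nat_lit 72, nat_lit 96, nat_lit 72, nat_lit 96, nat_lit 72])) (.node (nat_lit 6) (.leaf (nat_lit 8194) [nat_lit 48, nat_lit 96, nat_lit 48]) r7))))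
noncomputable def r8 : WT := (.leaf (nat_lit 31746) [nat_lit 168, nat_lit 192, nat_lit 96, nat_lit 120, nat_lit 168, nat_lit 192, nat_lit 96, nat_lit 120, nat_lit 168, nat_lit 192, nat_lit 96, nat_lit 120, nat_lit 168, nat_lit 192, nat_lit 96])
noncomputable def r9 : WT := (.leaf (nat_lit 31749) [nat_lit 96, nat_lit 192, nat_lit 168, nat_lit 120, nat_lit 96, nat_lit 192, nat_lit 168, nat_lit 120, nat_lit 96, nat_lit 192, nat_lit 168, nat_lit 120, nat_lit 96, nat_lit 192, nat_lit 168])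
noncomputable def r10 : WT := (.node (nat_lit 12) (.leaf (nat_lit 30734) [nat_lit 96, nat_lit 120, nat_lit 96, nat_lit 48, nat_lit 120, nat_lit 96, nat_lit 120, nat_lit 96, nat_lit 120, nat_lit 96]) (.node (nat_lit 13) (.leaf (nat_lit 30738) [nat_lit 96, nat_lit 48, nat_lit 120, nat_lit 96, nat_lit 120, nat_lit 96, nat_lit 120, nat_lit 96, nat_lit 120, nat_lit 96]) (.leaf (nat_lit 30723) [nat_lit 96, nat_lit 120, nat_lit 96, nat_lit 120, nat_lit 96, nat_lit 120, nat_lit 96, nat_lit 120, nat_lit 48, nat_lit 96])))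
noncomputable def r11 : WT := (.node (nat_lit 8) r8 (.node (nat_lit 9) r9 (.node (nat_lit 10) (.leaf (nat_lit 30722) [nat_lit 96, nat_lit 120, nat_lit 96, nat_lit 120, nat_lit 96, nat_lit 120, nat_lit 96, nat_lit 120, nat_lit 96, nat_lit 48]) (.node (nat_lit 11) (.leaf (nat_lit 30730) [nat_lit 96, nat_lit 120, nat_lit 96, nat_lit 120, nat_lit 96, nat_lit 48, nat_lit 120, nat_lit 96, nat_lit 120, nat_lit 96]) r10))))
noncomputable def w3 : WT := (.node (nat_lit 1) (.leaf (nat_lit 3072) [nat_lit 120]) (.node (nat_lit 4) (.node (nat_lit 2) (.leaf (nat_lit 24576) [nat_lit 192, nat_lit 120, nat_lit 192, nat_lit 120, nat_lit 192]) (.node (nat_lit 3) (.leaf (nat_lit 14338) [nat_lit 72, nat_lit 120, nat_lit 72]) (.leaf (nat_lit 23552) [nat_lit 168, nat_lit 120, nat_lit 168, nat_lit 120, nat_lit 168]))) (.node (nat_lit 6) (.node (nat_lit 5) (.leaf (nat_lit 9218) [nat_lit 48, nat_lit 120, nat_lit 48]) (.leaf (nat_lit 22528) [nat_lit 144, nat_lit 120, nat_lit 144, nat_lit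 120, nat_lit 144])) (.node (nat_lit 7) (.leaf (nat_lit 30726) [nat_lit 96, nat_lit 120, nat_lit 96, nat_lit 120, nat_lit 96, nat_lit 120, nat_lit 96, nat_lit 48, nat_lit 120, nat_lit 96]) r11))))
noncomputable def r12 : WT := (.leaf (nat_lit 35888) [nat_lit 72, nat_lit 96, nat_lit 120, nat_lit 144, nat_lit 288, nat_lit 72, nat_lit 96, nat_lit 120, nat_lit 144, nat_lit 72, nat_lit 96, nat_lit 120, nat_lit 144, nat_lit 72, nat_lit 96, nat_lit 120, nat_lit 144, nat_lit 72, nat_lit 96, nat_lit 120, nat_lit 144, nat_lit 72, nat_lit 96, nat_lit 120, nat_lit 144, nat_lit 72, nat_lit 96, nat_lit 120])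
noncomputable def r13 : WT := (.node (nat_lit 11) (.leaf (nat_lit 29696) [nat_lit 96, nat_lit 72, nat_lit 48, nat_lit 96, nat_lit 72, nat_lit 48, nat_lit 96, nat_lit 72, nat_lit 48]) r12)
noncomputable def r14 : WT := (.node (nat_lit 7) (.leaf (nat_lit 10242) [nat_lit 48, nat_lit 144, nat_lit 48]) (.node (nat_lit 8) (.leaf (nat_lit 28672) [nat_lit 192, nat_lit 168, nat_lit 192, nat_lit 168]) (.node (nat_lit 9) (.leaf (nat_lit 28681) [nat_lit 168, nat_lit 192, nat_lit 168, nat_lit 192]) (.node (nat_lit 10) (.leaf (nat_lit 29715) [nat_lit 48, nat_lit 72, nat_lit 96, nat_lit 48, nat_lit 72, nat_lit 96, nat_lit 48, nat_lit 72, nat_lit 96]) r13))))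
noncomputable def w4 : WT := (.node (nat_lit 1) (.leaf (nat_lit 4096) [nat_lit 144]) (.node (nat_lit 3) (.node (nat_lit 2) (.leaf (nat_lit 26624) [nat_lit 192, nat_lit 144, nat_lit 192]) (.leaf (nat_lit 25600) [nat_lit 168, nat_lit 144, nat_lit 168])) (.node (nat_lit 5) (.node (nat_lit 4) (.leaf (nat_lit 15362) [nat_lit 72, nat_lit 144, nat_lit 72]) (.leaf (nat_lit 22530) [nat_lit 120, nat_lit 144, nat_lit 120, nat_lit 144, nat_lit 120])) (.node (nat_lit 6) (.leaf (nat_lit 19458) [nat_lit 96, nat_lit 144, nat_lit 96]) r14))))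
noncomputable def r15 : WT := (.leaf (nat_lit 31748) [nat_lit 192, nat_lit 96, nat_lit 120, nat_lit 168, nat_lit 192, nat_lit 96, nat_lit 120, nat_lit 168, nat_lit 192, nat_lit 96, nat_lit 120, nat_lit 168, nat_lit 192, nat_lit 96, nat_lit 120])
noncomputable def r16 : WT := (.leaf (nat_lit 31747) [nat_lit 120, nat_lit 96, nat_lit 192, nat_lit 168, nat_lit 120, nat_lit 96, nat_lit 192, nat_lit 168, nat_lit 120, nat_lit 96, nat_lit 192, nat_lit 168, nat_lit 120, nat_lit 96, nat_lit 192])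
noncomputable def r17 : WT := (.node (nat_lit 8) (.leaf (nat_lit 28680) [nat_lit 144, nat_lit 192, nat_lit 168, nat_lit 192]) (.node (nat_lit 9) (.leaf (nat_lit 28673) [nat_lit 192, nat_lit 168, nat_lit 192, nat_lit 144]) (.node (nat_lit 10) r15 (.node (nat_lit 11) r16 (.leaf (nat_lit 28677) [nat_lit 192, nat_lit 144, nat_lit 168, nat_lit 192])))))
noncomputable def w5 : WT := (.node (nat_lit 1) (.leaf (nat_lit 5120) [nat_lit 168]) (.node (nat_lit 4) (.node (nat_lit 2) (.leaf (nat_lit 28676) [nat_lit 192, nat_lit 168, nat_lit 144, nat_lit 192]) (.node (nat_lit 3) (.leaf (nat_lit 16386) [nat_lit 72, nat_lit 168, nat_lit 72]) (.leaf (nat_lit 20482) [nat_lit 96, nat_lit 168, nat_lit 96]))) (.node (nat_lit 6) (.node (nat_lit 5) (.leaf (nat_lit 25602) [nat_lit 144, nat_lit 168, nat_lit 144]) (.leaf (nat_lit 11266) [nat_lit 48, nat_lit 168, nat_lit 48])) (.node (nat_lit 7) (.leaf (nat_lit 23554) [nat_lit 120, nat_lit 168, nat_lit 120, nat_lit 168, nat_lit 120])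 r17))))
noncomputable def r18 : WT := (.leaf (nat_lit 31750) [nat_lit 96, nat_lit 120, nat_lit 168, nat_lit 192, nat_lit 96, nat_lit 120, nat_lit 168, nat_lit 192, nat_lit 96, nat_lit 120, nat_lit 168, nat_lit 192, nat_lit 96, nat_lit 120, nat_lit 168])
noncomputable def r19 : WT := (.leaf (nat_lit 31745) [nat_lit 168, nat_lit 120, nat_lit 96, nat_lit 192, nat_lit 168, nat_lit 120, nat_lit 96, nat_lit 192, nat_lit 168, nat_lit 120, nat_lit 96, nat_lit 192, nat_lit 168, nat_lit 120, nat_lit 96])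
noncomputable def r20 : WT := (.node (nat_lit 7) (.leaf (nat_lit 12290) [nat_lit 48, nat_lit 192, nat_lit 48]) (.node (nat_lit 9) (.node (nat_lit 8) (.leaf (nat_lit 28675) [nat_lit 168, nat_lit 192, nat_lit 144, nat_lit 168]) r18) (.node (nat_lit 10) (.leaf (nat_lit 28674) [nat_lit 168, nat_lit 192, nat_lit 168, nat_lit 144]) (.node (nat_lit 11) (.leaf (nat_lit 28679) [nat_lit 144, nat_lit 168, nat_lit 192, nat_lit 168]) r19))))
noncomputable def w6 : WT := (.node (nat_lit 1) (.leaf (nat_lit 6144) [nat_lit 192]) (.node (nat_lit 4) (.node (nat_lit 2) (.leaf (nat_lit 28678) [nat_lit 168, nat_lit 144, nat_lit 192, nat_lit 168]) (.node (nat_lit 3) (.leaf (nat_lit 21506) [nat_lit 96, nat_lit 192, nat_lit 96]) (.leaf (nat_lit 17410) [nat_lit 72, nat_lit 192, nat_lit 72]))) (.node (nat_lit 5) (.leaf (nat_lit 26626) [nat_lit 144, nat_lit 192, nat_lit 144]) (.node (nat_lit 6) (.leaf (nat_lit 24578) [nat_lit 120, nat_lit 192, nat_lit 120, nat_lit 192, nat_lit 120])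 r20))))
noncomputable def w7 : WT := (.leaf (nat_lit 32768) [nat_lit 240])
noncomputable def w8 : WT := (.leaf (nat_lit 32770) [nat_lit 216])
noncomputable def w9 : WT := (.leaf (nat_lit 34816) [nat_lit 288])
noncomputable def w10 : WT := (.leaf (nat_lit 34818) [nat_lit 264])
noncomputable def r21 : WT := (.leaf (nat_lit 31746) [nat_lit 120, nat_lit 168, nat_lit 192, nat_lit 96, nat_lit 120, nat_lit 168, nat_lit 192, nat_lit 96, nat_lit 120, nat_lit 168, nat_lit 192, nat_lit 96, nat_lit 120, nat_lit 168, nat_lit 192, nat_lit 96])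
noncomputable def r22 : WT := (.leaf (nat_lit 31750) [nat_lit 192, nat_lit 96, nat_lit 120, nat_lit 168, nat_lit 192, nat_lit 96, nat_lit 120, nat_lit 168, nat_lit 192, nat_lit 96, nat_lit 120, nat_lit 168, nat_lit 192, nat_lit 96, nat_lit 120, nat_lit 168])
noncomputable def r23 : WT := (.leaf (nat_lit 31749) [nat_lit 120, nat_lit 96, nat_lit 192, nat_lit 168, nat_lit 120, nat_lit 96, nat_lit 192, nat_lit 168, nat_lit 120, nat_lit 96, nat_lit 192, nat_lit 168, nat_lit 120, nat_lit 96, nat_lit 192, nat_lit 168])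
noncomputable def wP : WT := (.node (nat_lit 6) (.node (nat_lit 2) (.node (nat_lit 1) (.leaf (nat_lit 14336) [nat_lit 72, nat_lit 120, nat_lit 72, nat_lit 120]) (.leaf (nat_lit 23554) [nat_lit 168, nat_lit 120, nat_lit 168, nat_lit 120, nat_lit 168, nat_lit 120])) (.node (nat_lit 4) (.node (nat_lit 3) r21 (.leaf (nat_lit 15360) [nat_lit 72, nat_lit 144, nat_lit 72, nat_lit 144])) (.node (nat_lit 5) (.leaf (nat_lit 15362) [nat_lit 144, nat_lit 72, nat_lit 144, nat_lit 72]) (.leaf (nat_lit 16384) [nat_lit 72, nat_lit 168, nat_lit 72, nat_lit 168])))) (.node (nat_lit 10) (.node (nat_lit 8) (.node (nat_lit 7) (.leaf (nat_lit 13312) [nat_lit 72, nat_lit 96, nat_lit 72, nat_lit 96, nat_lit 72, nat_lit 96]) (.leaf (nat_lit 13314) [nat_lit 96, nat_lit 72, nat_lit 96, nat_lit 72, nat_lit 96, nat_lit 72])) (.node (nat_lit 9) (.leaf (nat_lit 29698) [nat_lit 96, nat_lit 72, nat_lit 48, nat_lit 96, nat_lit 72, nat_lit 48, nat_lit 96, nat_lit 72, nat_lit 48, nat_lit 144])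 (.leaf (nat_lit 29710) [nat_lit 96, nat_lit 72, nat_lit 48, nat_lit 144, nat_lit 96, nat_lit 72, nat_lit 48, nat_lit 96, nat_lit 72, nat_lit 48]))) (.node (nat_lit 12) (.node (nat_lit 11) (.leaf (nat_lit 29712) [nat_lit 72, nat_lit 48, nat_lit 144, nat_lit 96, nat_lit 72, nat_lit 48, nat_lit 96, nat_lit 72, nat_lit 48, nat_lit 96]) (.leaf (nat_lit 30734) [nat_lit 120, nat_lit 96, nat_lit 120, nat_lit 96, nat_lit 48, nat_lit 120, nat_lit 96, nat_lit 120, nat_lit 96, nat_lit 120, nat_lit 96])) (.node (nat_lit 13) r22 r23))))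
noncomputable def P : Par := ⟨tb, nat_lit 312, nat_lit 0xffffffffffffffffffffffffffffffffffffffffffffffffffffffffffffffffffffffffffffff, nat_lit 5344, nat_lit 16777215, nat_lit 8191, nat_lit 24, nat_lit 13, nat_lit 2058,
  [nat_lit 48, nat_lit 72, nat_lit 96, nat_lit 120, nat_lit 144, nat_lit 168, nat_lit 192, nat_lit 216, nat_lit 240, nat_lit 264, nat_lit 288], [nat_lit 48, nat_lit 96, nat_lit 120, nat_lit 144, nat_lit 168, nat_lit 216, nat_lit 264], wP,
  (.cons (nat_lit 48) w0 (.cons (nat_lit 72) w1 (.cons (nat_lit 96) w2 (.cons (nat_lit 120) w3 (.cons (nat_lit 144) w4 (.cons (nat_lit 168) w5 (.cons (nat_lit 192) w6 .nil))))))),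
  (.cons (nat_lit 216) w7 (.cons (nat_lit 240) w8 (.cons (nat_lit 264) w9 (.cons (nat_lit 288) w10 .nil))))⟩

end Cfsg.Agent.Lib.TCHe1
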