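import Cfsg.Agent.Lib.TCHe2D0

set_option autoImplicit false
set_option maxRecDepth 100000

namespace Cfsg.Agent.Lib.TCHe2
open Cfsg.Agent.Lib.TCCore

noncomputable def n0 : T := (.node (nat_lit 730) (.node (nat_lit 365) (.node (nat_lit 146) (.node (nat_lit 73) l0 l1) (.node (nat_lit 219) l2 (.node (nat_lit 292) l3 l4))) (.node (nat_lit 511) (.node (nat_lit 438) l5 l6) (.node (nat_lit 584) l7 (.node (nat_lit 657) l8 l9)))) (.node (nat_lit 1095) (.node (nat_lit 876) (.node (nat_lit 803) l10 l11) (.node (nat_lit 949) l12 (.node (nat_lit 1022) l13 l14))) (.node (nat_lit 1314) (.node (nat_lit 1168) l15 (.node (nat_lit 1241) l16 l17)) (.node (nat_lit 1387) l18 (.node (nat_lit 1460) l19 l20)))))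
noncomputable def n1 : T := (.node (nat_lit 2263) (.node (nat_lit 1898) (.node (nat_lit 1679) (.node (nat_lit 1606) l21 l22) (.node (nat_lit 1752) l23 (.node (nat_lit 1825) l24 l25))) (.node (nat_lit 2044) (.node (nat_lit 1971) l26 l27) (.node (nat_lit 2117) l28 (.node (nat_lit 2190) l29 l30)))) (.node (nat_lit 2628) (.node (nat_lit 2409) (.node (nat_lit 2336) l31 l32) (.node (nat_lit 2482) l33 (.node (nat_lit 2555) l34 l35))) (.node (nat_lit 2847) (.node (nat_lit 2701) l36 (.node (nat_lit 2774) l37 l38)) (.node (nat_lit 2920) l39 (.node (nat_lit 2993) l40 l41)))))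
noncomputable def n2 : T := (.node (nat_lit 3796) (.node (nat_lit 3431) (.node (nat_lit 3212) (.node (nat_lit 3139) l42 l43) (.node (nat_lit 3285) l44 (.node (nat_lit 3358) l45 l46))) (.node (nat_lit 3577) (.node (nat_lit 3504) l47 l48) (.node (nat_lit 3650) l49 (.node (nat_lit 3723) l50 l51)))) (.node (nat_lit 4161) (.node (nat_lit 3942) (.node (nat_lit 3869) l52 l53) (.node (nat_lit 4015) l54 (.node (nat_lit 4088) l55 l56))) (.node (nat_lit 4380) (.node (nat_lit 4234) l57 (.node (nat_lit 4307) l58 l59)) (.node (nat_lit 4453) l60 (.node (nat_lit 4526) l61 l62)))))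
noncomputable def n3 : T := (.node (nat_lit 5402) (.node (nat_lit 4964) (.node (nat_lit 4745) (.node (nat_lit 4672) l63 l64) (.node (nat_lit 4818) l65 (.node (nat_lit 4891) l66 l67))) (.node (nat_lit 5183) (.node (nat_lit 5037) l68 (.node (nat_lit 5110) l69 l70)) (.node (nat_lit 5256) l71 (.node (nat_lit 5329) l72 l73)))) (.node (nat_lit 5767) (.node (nat_lit 5548) (.node (nat_lit 5475) l74 l75) (.node (nat_lit 5621) l76 (.node (nat_lit 5694) l77 l78))) (.node (nat_lit 5986) (.node (nat_lit 5840) l79 (.node (nat_lit 5913) l80 l81)) (.node (nat_lit 6059) l82 (.node (nat_lit 6132) l83 l84)))))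
noncomputable def n4 : T := (.node (nat_lit 6935) (.node (nat_lit 6570) (.node (nat_lit 6351) (.node (nat_lit 6278) l85 l86) (.node (nat_lit 6424) l87 (.node (nat_lit 6497) l88 l89))) (.node (nat_lit 6716) (.node (nat_lit 6643) l90 l91) (.node (nat_lit 6789) l92 (.node (nat_lit 6862) l93 l94)))) (.node (nat_lit 7300) (.node (nat_lit 7081) (.node (nat_lit 7008) l95 l96) (.node (nat_lit 7154) l97 (.node (nat_lit 7227) l98 l99))) (.node (nat_lit 7519) (.node (nat_lit 7373) l100 (.node (nat_lit 7446) l101 l102)) (.node (nat_lit 7592) l103 (.node (nat_lit 7665) l104 l105)))))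
noncomputable def n5 : T := (.node (nat_lit 8541) (.node (nat_lit 8103) (.node (nat_lit 7884) (.node (nat_lit 7811) l106 l107) (.node (nat_lit 7957) l108 (.node (nat_lit 8030) l109 l110))) (.node (nat_lit 8322) (.node (nat_lit 8176) l111 (.node (nat_lit 8249) l112 l113)) (.node (nat_lit 8395) l114 (.node (nat_lit 8468) l115 l116)))) (.node (nat_lit 8906) (.node (nat_lit 8687) (.node (nat_lit 8614) l117 l118) (.node (nat_lit 8760) l119 (.node (nat_lit 8833) l120 l121))) (.node (nat_lit 9125) (.node (nat_lit 8979) l122 (.node (nat_lit 9052) l123 l124)) (.node (nat_lit 9198) l125 (.node (nat_lit 9271) l126 l127)))))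
noncomputable def n6 : T := (.node (nat_lit 10074) (.node (nat_lit 9709) (.node (nat_lit 9490) (.node (nat_lit 9417) l128 l129) (.node (nat_lit 9563) l130 (.node (nat_lit 9636) l131 l132))) (.node (nat_lit 9855) (.node (nat_lit 9782) l133 l134) (.node (nat_lit 9928) l135 (.node (nat_lit 10001) l136 l137)))) (.node (nat_lit 10439) (.node (nat_lit 10220) (.node (nat_lit 10147) l138 l139) (.node (nat_lit 10293) l140 (.node (nat_lit 10366) l141 l142))) (.node (nat_lit 10658) (.node (nat_lit 10512) l143 (.node (nat_lit 10585) l144 l145)) (.node (nat_lit 10731) l146 (.node (nat_lit 10804) l147 l148)))))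
noncomputable def n7 : T := (.node (nat_lit 11680) (.node (nat_lit 11242) (.node (nat_lit 11023) (.node (nat_lit 10950) l149 l150) (.node (nat_lit 11096) l151 (.node (nat_lit 11169) l152 l153))) (.node (nat_lit 11461) (.node (nat_lit 11315) l154 (.node (nat_lit 11388) l155 l156)) (.node (nat_lit 11534) l157 (.node (nat_lit 11607) l158 l159)))) (.node (nat_lit 12045) (.node (nat_lit 11826) (.node (nat_lit 11753) l160 l161) (.node (nat_lit 11899) l162 (.node (nat_lit 11972) l163 l164))) (.node (nat_lit 12264) (.node (nat_lit 12118) l165 (.node (nat_lit 12191) l166 l167)) (.node (nat_lit 12337) l168 (.node (nat_lit 12410) l169 l170)))))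
noncomputable def n8 : T := (.node (nat_lit 13213) (.node (nat_lit 12848) (.node (nat_lit 12629) (.node (nat_lit 12556) l171 l172) (.node (nat_lit 12702) l173 (.node (nat_lit 12775) l174 l175))) (.node (nat_lit 12994) (.node (nat_lit 12921) l176 l177) (.node (nat_lit 13067) l178 (.node (nat_lit 13140) l179 l180)))) (.node (nat_lit 13578) (.node (nat_lit 13359) (.node (nat_lit 13286) l181 l182) (.node (nat_lit 13432) l183 (.node (nat_lit 13505) l184 l185))) (.node (nat_lit 13797) (.node (nat_lit 13651) l186 (.node (nat_lit 13724) l187 l188)) (.node (nat_lit 13870) l189 (.node (nat_lit 13943) l190 l191)))))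
noncomputable def n9 : T := (.node (nat_lit 14819) (.node (nat_lit 14381) (.node (nat_lit 14162) (.node (nat_lit 14089) l192 l193) (.node (nat_lit 14235) l194 (.node (nat_lit 14308) l195 l196))) (.node (nat_lit 14600) (.node (nat_lit 14454) l197 (.node (nat_lit 14527) l198 l199)) (.node (nat_lit 14673) l200 (.node (nat_lit 14746) l201 l202)))) (.node (nat_lit 15184) (.node (nat_lit 14965) (.node (nat_lit 14892) l203 l204) (.node (nat_lit 15038) l205 (.node (nat_lit 15111) l206 l207))) (.node (nat_lit 15403) (.node (nat_lit 15257) l208 (.node (nat_lit 15330) l209 l210)) (.node (nat_lit 15476) l211 (.node (nat_lit 15549) l212 l213)))))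
noncomputable def n10 : T := (.node (nat_lit 16352) (.node (nat_lit 15987) (.node (nat_lit 15768) (.node (nat_lit 15695) l214 l215) (.node (nat_lit 15841) l216 (.node (nat_lit 15914) l217 l218))) (.node (nat_lit 16133) (.node (nat_lit 16060) l219 l220) (.node (nat_lit 16206) l221 (.node (nat_lit 16279) l222 l223)))) (.node (nat_lit 16717) (.node (nat_lit 16498) (.node (nat_lit 16425) l224 l225) (.node (nat_lit 16571) l226 (.node (nat_lit 16644) l227 l228))) (.node (nat_lit 16936) (.node (nat_lit 16790) l229 (.node (nat_lit 16863) l230 l231)) (.node (nat_lit 17009) l232 (.node (nat_lit 17082) l233 l234)))))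
noncomputable def n11 : T := (.node (nat_lit 17958) (.node (nat_lit 17520) (.node (nat_lit 17301) (.node (nat_lit 17228) l235 l236) (.node (nat_lit 17374) l237 (.node (nat_lit 17447) l238 l239))) (.node (nat_lit 17739) (.node (nat_lit 17593) l240 (.node (nat_lit 17666) l241 l242)) (.node (nat_lit 17812) l243 (.node (nat_lit 17885) l244 l245)))) (.node (nat_lit 18323) (.node (nat_lit 18104) (.node (nat_lit 18031) l246 l247) (.node (nat_lit 18177) l248 (.node (nat_lit 18250) l249 l250))) (.node (nat_lit 18542) (.node (nat_lit 18396) l251 (.node (nat_lit 18469) l252 l253)) (.node (nat_lit 18615) l254 (.node (nat_lit 18688) l255 l256)))))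
noncomputable def n12 : T := (.node (nat_lit 19491) (.node (nat_lit 19126) (.node (nat_lit 18907) (.node (nat_lit 18834) l257 l258) (.node (nat_lit 18980) l259 (.node (nat_lit 19053) l260 l261))) (.node (nat_lit 19272) (.node (nat_lit 19199) l262 l263) (.node (nat_lit 19345) l264 (.node (nat_lit 19418) l265 l266)))) (.node (nat_lit 19856) (.node (nat_lit 19637) (.node (nat_lit 19564) l267 l268) (.node (nat_lit 19710) l269 (.node (nat_lit 19783) l270 l271))) (.node (nat_lit 20075) (.node (nat_lit 19929) l272 (.node (nat_lit 20002) l273 l274)) (.node (nat_lit 20148) l275 (.node (nat_lit 20221) l276 l277)))))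
noncomputable def n13 : T := (.node (nat_lit 21097) (.node (nat_lit 20659) (.node (nat_lit 20440) (.node (nat_lit 20367) l278 l279) (.node (nat_lit 20513) l280 (.node (nat_lit 20586) l281 l282))) (.node (nat_lit 20878) (.node (nat_lit 20732) l283 (.node (nat_lit 20805) l284 l285)) (.node (nat_lit 20951) l286 (.node (nat_lit 21024) l287 l288)))) (.node (nat_lit 21462) (.node (nat_lit 21243) (.node (nat_lit 21170) l289 l290) (.node (nat_lit 21316) l291 (.node (nat_lit 21389) l292 l293))) (.node (nat_lit 21681) (.node (nat_lit 21535) l294 (.node (nat_lit 21608) l295 l296)) (.node (nat_lit 21754) l297 (.node (nat_lit 21827) l298 l299)))))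
noncomputable def n14 : T := (.node (nat_lit 22630) (.node (nat_lit 22265) (.node (nat_lit 22046) (.node (nat_lit 21973) l300 l301) (.node (nat_lit 22119) l302 (.node (nat_lit 22192) l303 l304))) (.node (nat_lit 22411) (.node (nat_lit 22338) l305 l306) (.node (nat_lit 22484) l307 (.node (nat_lit 22557) l308 l309)))) (.node (nat_lit 22995) (.node (nat_lit 22776) (.node (nat_lit 22703) l310 l311) (.node (nat_lit 22849) l312 (.node (nat_lit 22922) l313 l314))) (.node (nat_lit 23214) (.node (nat_lit 23068) l315 (.node (nat_lit 23141) l316 l317)) (.node (nat_lit 23287) l318 (.node (nat_lit 23360) l319 l320)))))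
noncomputable def n15 : T := (.node (nat_lit 24236) (.node (nat_lit 23798) (.node (nat_lit 23579) (.node (nat_lit 23506) l321 l322) (.node (nat_lit 23652) l323 (.node (nat_lit 23725) l324 l325))) (.node (nat_lit 24017) (.node (nat_lit 23871) l326 (.node (nat_lit 23944) l327 l328)) (.node (nat_lit 24090) l329 (.node (nat_lit 24163) l330 l331)))) (.node (nat_lit 24601) (.node (nat_lit 24382) (.node (nat_lit 24309) l332 l333) (.node (nat_lit 24455) l334 (.node (nat_lit 24528) l335 l336))) (.node (nat_lit 24820) (.node (nat_lit 24674) l337 (.node (nat_lit 24747) l338 l339)) (.node (nat_lit 24893) l340 (.node (nat_lit 24966) l341 l342)))))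
noncomputable def n16 : T := (.node (nat_lit 25769) (.node (nat_lit 25404) (.node (nat_lit 25185) (.node (nat_lit 25112) l343 l344) (.node (nat_lit 25258) l345 (.node (nat_lit 25331) l346 l347))) (.node (nat_lit 25550) (.node (nat_lit 25477) l348 l349) (.node (nat_lit 25623) l350 (.node (nat_lit 25696) l351 l352)))) (.node (nat_lit 26134) (.node (nat_lit 25915) (.node (nat_lit 25842) l353 l354) (.node (nat_lit 25988) l355 (.node (nat_lit 26061) l356 l357))) (.node (nat_lit 26353) (.node (nat_lit 26207) l358 (.node (nat_lit 26280) l359 l360)) (.node (nat_lit 26426) l361 (.node (nat_lit 26499) l362 l363)))))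
noncomputable def n17 : T := (.node (nat_lit 27302) (.node (nat_lit 26937) (.node (nat_lit 26718) (.node (nat_lit 26645) l364 l365) (.node (nat_lit 26791) l366 (.node (nat_lit 26864) l367 l368))) (.node (nat_lit 27083) (.node (nat_lit 27010) l369 l370) (.node (nat_lit 27156) l371 (.node (nat_lit 27229) l372 l373)))) (.node (nat_lit 27667) (.node (nat_lit 27448) (.node (nat_lit 27375) l374 l375) (.node (nat_lit 27521) l376 (.node (nat_lit 27594) l377 l378))) (.node (nat_lit 27886) (.node (nat_lit 27740) l379 (.node (nat_lit 27813) l380 l381)) (.node (nat_lit 27959) l382 (.node (nat_lit 28032) l383 l384)))))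
noncomputable def n18 : T := (.node (nat_lit 28835) (.node (nat_lit 28470) (.node (nat_lit 28251) (.node (nat_lit 28178) l385 l386) (.node (nat_lit 28324) l387 (.node (nat_lit 28397) l388 l389))) (.node (nat_lit 28616) (.node (nat_lit 28543) l390 l391) (.node (nat_lit 28689) l392 (.node (nat_lit 28762) l393 l394)))) (.node (nat_lit 29200) (.node (nat_lit 28981) (.node (nat_lit 28908) l395 l396) (.node (nat_lit 29054) l397 (.node (nat_lit 29127) l398 l399))) (.node (nat_lit 29419) (.node (nat_lit 29273) l400 (.node (nat_lit 29346) l401 l402)) (.node (nat_lit 29492) l403 (.node (nat_lit 29565) l404 l405)))))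
noncomputable def n19 : T := (.node (nat_lit 30441) (.node (nat_lit 30003) (.node (nat_lit 29784) (.node (nat_lit 29711) l406 l407) (.node (nat_lit 29857) l408 (.node (nat_lit 29930) l409 l410))) (.node (nat_lit 30222) (.node (nat_lit 30076) l411 (.node (nat_lit 30149) l412 l413)) (.node (nat_lit 30295) l414 (.node (nat_lit 30368) l415 l416)))) (.node (nat_lit 30806) (.node (nat_lit 30587) (.node (nat_lit 30514) l417 l418) (.node (nat_lit 30660) l419 (.node (nat_lit 30733) l420 l421))) (.node (nat_lit 31025) (.node (nat_lit 30879) l422 (.node (nat_lit 30952) l423 l424)) (.node (nat_lit 31098) l425 (.node (nat_lit 31171) l426 l427)))))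
noncomputable def n20 : T := (.node (nat_lit 31974) (.node (nat_lit 31609) (.node (nat_lit 31390) (.node (nat_lit 31317) l428 l429) (.node (nat_lit 31463) l430 (.node (nat_lit 31536) l431 l432))) (.node (nat_lit 31755) (.node (nat_lit 31682) l433 l434) (.node (nat_lit 31828) l435 (.node (nat_lit 31901) l436 l437)))) (.node (nat_lit 32339) (.node (nat_lit 32120) (.node (nat_lit 32047) l438 l439) (.node (nat_lit 32193) l440 (.node (nat_lit 32266) l441 l442))) (.node (nat_lit 32558) (.node (nat_lit 32412) l443 (.node (nat_lit 32485) l444 l445)) (.node (nat_lit 32631) l446 (.node (nat_lit 32704) l447 l448)))))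
noncomputable def n21 : T := (.node (nat_lit 33580) (.node (nat_lit 33142) (.node (nat_lit 32923) (.node (nat_lit 32850) l449 l450) (.node (nat_lit 32996) l451 (.node (nat_lit 33069) l452 l453))) (.node (nat_lit 33361) (.node (nat_lit 33215) l454 (.node (nat_lit 33288) l455 l456)) (.node (nat_lit 33434) l457 (.node (nat_lit 33507) l458 l459)))) (.node (nat_lit 33945) (.node (nat_lit 33726) (.node (nat_lit 33653) l460 l461) (.node (nat_lit 33799) l462 (.node (nat_lit 33872) l463 l464))) (.node (nat_lit 34164) (.node (nat_lit 34018) l465 (.node (nat_lit 34091) l466 l467)) (.node (nat_lit 34237) l468 (.node (nat_lit 34310) l469 l470)))))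
noncomputable def n22 : T := (.node (nat_lit 35113) (.node (nat_lit 34748) (.node (nat_lit 34529) (.node (nat_lit 34456) l471 l472) (.node (nat_lit 34602) l473 (.node (nat_lit 34675) l474 l475))) (.node (nat_lit 34894) (.node (nat_lit 34821) l476 l477) (.node (nat_lit 34967) l478 (.node (nat_lit 35040) l479 l480)))) (.node (nat_lit 35478) (.node (nat_lit 35259) (.node (nat_lit 35186) l481 l482) (.node (nat_lit 35332) l483 (.node (nat_lit 35405) l484 l485))) (.node (nat_lit 35697) (.node (nat_lit 35551) l486 (.node (nat_lit 35624) l487 l488)) (.node (nat_lit 35770) l489 (.node (nat_lit 35843) l490 l491)))))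
noncomputable def n23 : T := (.node (nat_lit 36719) (.node (nat_lit 36281) (.node (nat_lit 36062) (.node (nat_lit 35989) l492 l493) (.node (nat_lit 36135) l494 (.node (nat_lit 36208) l495 l496))) (.node (nat_lit 36500) (.node (nat_lit 36354) l497 (.node (nat_lit 36427) l498 l499)) (.node (nat_lit 36573) l500 (.node (nat_lit 36646) l501 l502)))) (.node (nat_lit 37084) (.node (nat_lit 36865) (.node (nat_lit 36792) l503 l504) (.node (nat_lit 36938) l505 (.node (nat_lit 37011) l506 l507))) (.node (nat_lit 37303) (.node (nat_lit 37157) l508 (.node (nat_lit 37230) l509 l510)) (.node (nat_lit 37376) l511 (.node (nat_lit 37449) l512 l513)))))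
noncomputable def n24 : T := (.node (nat_lit 38252) (.node (nat_lit 37887) (.node (nat_lit 37668) (.node (nat_lit 37595) l514 l515) (.node (nat_lit 37741) l516 (.node (nat_lit 37814) l517 l518))) (.node (nat_lit 38033) (.node (nat_lit 37960) l519 l520) (.node (nat_lit 38106) l521 (.node (nat_lit 38179) l522 l523)))) (.node (nat_lit 38617) (.node (nat_lit 38398) (.node (nat_lit 38325) l524 l525) (.node (nat_lit 38471) l526 (.node (nat_lit 38544) l527 l528))) (.node (nat_lit 38836) (.node (nat_lit 38690) l529 (.node (nat_lit 38763) l530 l531)) (.node (nat_lit 38909) l532 (.node (nat_lit 38982) l533 l534)))))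
noncomputable def n25 : T := (.node (nat_lit 39858) (.node (nat_lit 39420) (.node (nat_lit 39201) (.node (nat_lit 39128) l535 l536) (.node (nat_lit 39274) l537 (.node (nat_lit 39347) l538 l539))) (.node (nat_lit 39639) (.node (nat_lit 39493) l540 (.node (nat_lit 39566) l541 l542)) (.node (nat_lit 39712) l543 (.node (nat_lit 39785) l544 l545)))) (.node (nat_lit 40223) (.node (nat_lit 40004) (.node (nat_lit 39931) l546 l547) (.node (nat_lit 40077) l548 (.node (nat_lit 40150) l549 l550))) (.node (nat_lit 40442) (.node (nat_lit 40296) l551 (.node (nat_lit 40369) l552 l553)) (.node (nat_lit 40515) l554 (.node (nat_lit 40588) l555 l556)))))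
noncomputable def n26 : T := (.node (nat_lit 41391) (.node (nat_lit 41026) (.node (nat_lit 40807) (.node (nat_lit 40734) l557 l558) (.node (nat_lit 40880) l559 (.node (nat_lit 40953) l560 l561))) (.node (nat_lit 41172) (.node (nat_lit 41099) l562 l563) (.node (nat_lit 41245) l564 (.node (nat_lit 41318) l565 l566)))) (.node (nat_lit 41756) (.node (nat_lit 41537) (.node (nat_lit 41464) l567 l568) (.node (nat_lit 41610) l569 (.node (nat_lit 41683) l570 l571))) (.node (nat_lit 41975) (.node (nat_lit 41829) l572 (.node (nat_lit 41902) l573 l574)) (.node (nat_lit 42048) l575 (.node (nat_lit 42121) l576 l577)))))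
noncomputable def n27 : T := (.node (nat_lit 42997) (.node (nat_lit 42559) (.node (nat_lit 42340) (.node (nat_lit 42267) l578 l579) (.node (nat_lit 42413) l580 (.node (nat_lit 42486) l581 l582))) (.node (nat_lit 42778) (.node (nat_lit 42632) l583 (.node (nat_lit 42705) l584 l585)) (.node (nat_lit 42851) l586 (.node (nat_lit 42924) l587 l588)))) (.node (nat_lit 43362) (.node (nat_lit 43143) (.node (nat_lit 43070) l589 l590) (.node (nat_lit 43216) l591 (.node (nat_lit 43289) l592 l593))) (.node (nat_lit 43581) (.node (nat_lit 43435) l594 (.node (nat_lit 43508) l595 l596)) (.node (nat_lit 43654) l597 (.node (nat_lit 43727) l598 l599)))))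
noncomputable def n28 : T := (.node (nat_lit 44530) (.node (nat_lit 44165) (.node (nat_lit 43946) (.node (nat_lit 43873) l600 l601) (.node (nat_lit 44019) l602 (.node (nat_lit 44092) l603 l604))) (.node (nat_lit 44311) (.node (nat_lit 44238) l605 l606) (.node (nat_lit 44384) l607 (.node (nat_lit 44457) l608 l609)))) (.node (nat_lit 44895) (.node (nat_lit 44676) (.node (nat_lit 44603) l610 l611) (.node (nat_lit 44749) l612 (.node (nat_lit 44822) l613 l614))) (.node (nat_lit 45114) (.node (nat_lit 44968) l615 (.node (nat_lit 45041) l616 l617)) (.node (nat_lit 45187) l618 (.node (nat_lit 45260) l619 l620)))))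
noncomputable def n29 : T := (.node (nat_lit 46136) (.node (nat_lit 45698) (.node (nat_lit 45479) (.node (nat_lit 45406) l621 l622) (.node (nat_lit 45552) l623 (.node (nat_lit 45625) l624 l625))) (.node (nat_lit 45917) (.node (nat_lit 45771) l626 (.node (nat_lit 45844) l627 l628)) (.node (nat_lit 45990) l629 (.node (nat_lit 46063) l630 l631)))) (.node (nat_lit 46501) (.node (nat_lit 46282) (.node (nat_lit 46209) l632 l633) (.node (nat_lit 46355) l634 (.node (nat_lit 46428) l635 l636))) (.node (nat_lit 46720) (.node (nat_lit 46574) l637 (.node (nat_lit 46647) l638 l639)) (.node (nat_lit 46793) l640 (.node (nat_lit 46866) l641 l642)))))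
noncomputable def n30 : T := (.node (nat_lit 47669) (.node (nat_lit 47304) (.node (nat_lit 47085) (.node (nat_lit 47012) l643 l644) (.node (nat_lit 47158) l645 (.node (nat_lit 47231) l646 l647))) (.node (nat_lit 47450) (.node (nat_lit 47377) l648 l649) (.node (nat_lit 47523) l650 (.node (nat_lit 47596) l651 l652)))) (.node (nat_lit 48034) (.node (nat_lit 47815) (.node (nat_lit 47742) l653 l654) (.node (nat_lit 47888) l655 (.node (nat_lit 47961) l656 l657))) (.node (nat_lit 48253) (.node (nat_lit 48107) l658 (.node (nat_lit 48180) l659 l660)) (.node (nat_lit 48326) l661 (.node (nat_lit 48399) l662 l663)))))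
noncomputable def n31 : T := (.node (nat_lit 49275) (.node (nat_lit 48837) (.node (nat_lit 48618) (.node (nat_lit 48545) l664 l665) (.node (nat_lit 48691) l666 (.node (nat_lit 48764) l667 l668))) (.node (nat_lit 49056) (.node (nat_lit 48910) l669 (.node (nat_lit 48983) l670 l671)) (.node (nat_lit 49129) l672 (.node (nat_lit 49202) l673 l674)))) (.node (nat_lit 49640) (.node (nat_lit 49421) (.node (nat_lit 49348) l675 l676) (.node (nat_lit 49494) l677 (.node (nat_lit 49567) l678 l679))) (.node (nat_lit 49859) (.node (nat_lit 49713) l680 (.node (nat_lit 49786) l681 l682)) (.node (nat_lit 49932) l683 (.node (nat_lit 50005) l684 l685)))))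
noncomputable def tb : T := (.node (nat_lit 25039) (.node (nat_lit 12483) (.node (nat_lit 6205) (.node (nat_lit 3066) (.node (nat_lit 1533) n0 n1) (.node (nat_lit 4599) n2 n3)) (.node (nat_lit 9344) (.node (nat_lit 7738) n4 n5) (.node (nat_lit 10877) n6 n7))) (.node (nat_lit 18761) (.node (nat_lit 15622) (.node (nat_lit 14016) n8 n9) (.node (nat_lit 17155) n10 n11)) (.node (nat_lit 21900) (.node (nat_lit 20294) n12 n13) (.node (nat_lit 23433) n14 n15)))) (.node (nat_lit 37522) (.node (nat_lit 31244) (.node (nat_lit 28105) (.node (nat_lit 26572) n16 n17) (.node (nat_lit 29638) n18 n19)) (.node (nat_lit 34383) (.node (nat_lit 32777) n20 n21) (.node (nat_lit 35916) n22 n23))) (.node (nat_lit 43800) (.node (nat_lit 40661) (.node (nat_lit 39055) n24 n25) (.node (nat_lit 42194) n26 n27)) (.node (nat_lit 46939) (.node (nat_lit 45333) n28 n29) (.node (nat_lit 48472) n30 n31)))))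
noncomputable def r0 : WT := (.node (nat_lit 10) (.leaf (nat_lit 29703) [nat_lit 87, nat_lit 116, nat_lit 58, nat_lit 87, nat_lit 116, nat_lit 174, nat_lit 58, nat_lit 87, nat_lit 116]) (.leaf (nat_lit 30741) [nat_lit 116, nat_lit 145, nat_lit 116, nat_lit 145, nat_lit 116, nat_lit 145, nat_lit 116, nat_lit 145, nat_lit 116, nat_lit 145]))
noncomputable def r1 : WT := (.node (nat_lit 12) (.leaf (nat_lit 29697) [nat_lit 87, nat_lit 116, nat_lit 58, nat_lit 87, nat_lit 116, nat_lit 58, nat_lit 87, nat_lit 116, nat_lit 174]) (.node (nat_lit 13) (.leaf (nat_lit 29708) [nat_lit 116, nat_lit 87, nat_lit 58, nat_lit 174, nat_lit 116, nat_lit 87, nat_lit 58, nat_lit 116, nat_lit 87]) (.node (nat_lit 14) (.leaf (nat_lit 30720) [nat_lit 145, nat_lit 116, nat_lit 145, nat_lit 116, nat_lit 145, nat_lit 116, nat_lit 145, nat_lit 116, nat_lit 145, nat_lit 116]) (.leaf (nat_lit 29709) [nat_lit 87, nat_lit 116, nat_lit 174, nat_lit 58, nat_lit 87, nat_lit 116, nat_lit 58, nat_lit 87, nat_lit 116]))))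
noncomputable def r2 : WT := (.node (nat_lit 7) (.leaf (nat_lit 7168) [nat_lit 87, nat_lit 58, nat_lit 87, nat_lit 58, nat_lit 87, nat_lit 58, nat_lit 87]) (.node (nat_lit 8) (.leaf (nat_lit 29702) [nat_lit 116, nat_lit 87, nat_lit 58, nat_lit 116, nat_lit 87, nat_lit 58, nat_lit 174, nat_lit 116, nat_lit 87]) (.node (nat_lit 9) (.leaf (nat_lit 29714) [nat_lit 174, nat_lit 116, nat_lit 87, nat_lit 58, nat_lit 116, nat_lit 87, nat_lit 58, nat_lit 116, nat_lit 87]) (.node (nat_lit 11) r0 r1))))
noncomputable def w0 : WT := (.node (nat_lit 1) (.leaf (nat_lit 0) [nat_lit 58]) (.node (nat_lit 3) (.node (nat_lit 2) (.leaf (nat_lit 12288) [nat_lit 232, nat_lit 58, nat_lit 232]) (.leaf (nat_lit 11264) [nat_lit 203, nat_lit 58, nat_lit 203])) (.node (nat_lit 5) (.node (nat_lit 4) (.leaf (nat_lit 8192) [nat_lit 116, nat_lit 58, nat_lit 116]) (.leaf (nat_lit 9216) [nat_lit 145, nat_lit 58, nat_lit 145])) (.node (nat_lit 6) (.leaf (nat_lit 10240) [nat_lit 174, nat_lit 58, nat_lit 174]) r2))))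
noncomputable def r3 : WT := (.node (nat_lit 11) (.leaf (nat_lit 29706) [nat_lit 58, nat_lit 116, nat_lit 87, nat_lit 58, nat_lit 174, nat_lit 116, nat_lit 87, nat_lit 58, nat_lit 116]) (.node (nat_lit 12) (.leaf (nat_lit 29711) [nat_lit 116, nat_lit 174, nat_lit 58, nat_lit 87, nat_lit 116, nat_lit 58, nat_lit 87, nat_lit 116, nat_lit 58]) (.leaf (nat_lit 29712) [nat_lit 58, nat_lit 174, nat_lit 116, nat_lit 87, nat_lit 58, nat_lit 116, nat_lit 87, nat_lit 58, nat_lit 116])))
noncomputable def r4 : WT := (.node (nat_lit 7) (.leaf (nat_lit 15360) [nat_lit 174, nat_lit 87, nat_lit 174]) (.node (nat_lit 8) (.leaf (nat_lit 29699) [nat_lit 116, nat_lit 58, nat_lit 87, nat_lit 116, nat_lit 58, nat_lit 87, nat_lit 116, nat_lit 174, nat_lit 58]) (.node (nat_lit 9) (.leaf (nat_lit 29705) [nat_lit 116, nat_lit 58, nat_lit 87, nat_lit 116, nat_lit 174, nat_lit 58, nat_lit 87, nat_lit 116, nat_lit 58]) (.node (nat_lit 10) (.leaf (nat_lit 29700) [nat_lit 58, nat_lit 116, nat_lit 87, nat_lit 58, nat_lit 116, nat_lit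 87, nat_lit 58, nat_lit 174, nat_lit 116]) r3))))
noncomputable def w1 : WT := (.node (nat_lit 1) (.leaf (nat_lit 1024) [nat_lit 87]) (.node (nat_lit 3) (.node (nat_lit 2) (.leaf (nat_lit 17408) [nat_lit 232, nat_lit 87, nat_lit 232]) (.leaf (nat_lit 16384) [nat_lit 203, nat_lit 87, nat_lit 203])) (.node (nat_lit 5) (.node (nat_lit 4) (.leaf (nat_lit 7170) [nat_lit 58, nat_lit 87, nat_lit 58, nat_lit 87, nat_lit 58, nat_lit 87, nat_lit 58]) (.leaf (nat_lit 13312) [nat_lit 116, nat_lit 87, nat_lit 116, nat_lit 87, nat_lit 116])) (.node (nat_lit 6) (.leaf (nat_lit 14336) [nat_lit 145, nat_lit 87, nat_lit 145]) r4))))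
noncomputable def r5 : WT := (.leaf (nat_lit 31751) [nat_lit 232, nat_lit 203, nat_lit 145, nat_lit 116, nat_lit 232, nat_lit 203, nat_lit 145, nat_lit 116, nat_lit 232, nat_lit 203, nat_lit 145, nat_lit 116, nat_lit 232, nat_lit 203, nat_lit 145])
noncomputable def r6 : WT := (.leaf (nat_lit 31744) [nat_lit 145, nat_lit 203, nat_lit 232, nat_lit 116, nat_lit 145, nat_lit 203, nat_lit 232, nat_lit 116, nat_lit 145, nat_lit 203, nat_lit 232, nat_lit 116, nat_lit 145, nat_lit 203, nat_lit 232])
noncomputable def r7 : WT := (.node (nat_lit 10) (.leaf (nat_lit 29701) [nat_lit 58, nat_lit 87, nat_lit 116, nat_lit 58, nat_lit 87, nat_lit 116, nat_lit 174, nat_lit 58, nat_lit 87]) r6)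
noncomputable def r8 : WT := (.node (nat_lit 19) (.leaf (nat_lit 29710) [nat_lit 87, nat_lit 58, nat_lit 174, nat_lit 116, nat_lit 87, nat_lit 58, nat_lit 116, nat_lit 87, nat_lit 58]) (.node (nat_lit 20) (.leaf (nat_lit 30732) [nat_lit 145, nat_lit 116, nat_lit 145, nat_lit 116, nat_lit 58, nat_lit 145, nat_lit 116, nat_lit 145, nat_lit 116, nat_lit 145]) (.leaf (nat_lit 30737) [nat_lit 145, nat_lit 58, nat_lit 116, nat_lit 145, nat_lit 116, nat_lit 145, nat_lit 116, nat_lit 145, nat_lit 116, nat_lit 145])))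
noncomputable def r9 : WT := (.node (nat_lit 14) (.node (nat_lit 12) (.leaf (nat_lit 30721) [nat_lit 145, nat_lit 116, nat_lit 145, nat_lit 116, nat_lit 145, nat_lit 116, nat_lit 145, nat_lit 116, nat_lit 145, nat_lit 58]) (.node (nat_lit 13) (.leaf (nat_lit 30740) [nat_lit 58, nat_lit 145, nat_lit 116, nat_lit 145, nat_lit 116, nat_lit 145, nat_lit 116, nat_lit 145, nat_lit 116, nat_lit 145]) (.leaf (nat_lit 29698) [nat_lit 87, nat_lit 58, nat_lit 116, nat_lit 87, nat_lit 58, nat_lit 116, nat_lit 87, nat_lit 58, nat_lit 174]))) (.node (nat_lit 16) (.node (nat_lit 15) (.leaf (nat_lit 29707) [nat_lit 58, nat_lit 87, nat_lit 116, nat_lit 174, nat_lit 58, nat_lit 87, nat_lit 116, nat_lit 58, nat_lit 87]) (.leaf (nat_lit 30736) [nat_lit 145, nat_lit 116, nat_lit 58, nat_lit 145, nat_lit 116, nat_lit 145, nat_lit 116, nat_lit 145, nat_lit 116, nat_lit 145])) (.node (nat_lit 17) (.leaf (nat_lit 29704) [nat_lit 87, nat_lit 58, nat_lit 116, nat_lit 87, nat_lit 58, nat_lit 174, nat_lit 116, nat_lit 87, nat_lit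 58]) (.node (nat_lit 18) (.leaf (nat_lit 29713) [nat_lit 174, nat_lit 58, nat_lit 87, nat_lit 116, nat_lit 58, nat_lit 87, nat_lit 116, nat_lit 58, nat_lit 87]) r8))))
noncomputable def r10 : WT := (.node (nat_lit 7) (.leaf (nat_lit 30724) [nat_lit 145, nat_lit 116, nat_lit 145, nat_lit 116, nat_lit 145, nat_lit 116, nat_lit 145, nat_lit 116, nat_lit 58, nat_lit 145]) (.node (nat_lit 8) (.leaf (nat_lit 30728) [nat_lit 145, nat_lit 116, nat_lit 145, nat_lit 116, nat_lit 145, nat_lit 116, nat_lit 58, nat_lit 145, nat_lit 116, nat_lit 145]) (.node (nat_lit 9) r5 (.node (nat_lit 11) r7 r9))))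
noncomputable def w2 : WT := (.node (nat_lit 1) (.leaf (nat_lit 2048) [nat_lit 116]) (.node (nat_lit 3) (.node (nat_lit 2) (.leaf (nat_lit 21504) [nat_lit 232, nat_lit 116, nat_lit 232]) (.leaf (nat_lit 20480) [nat_lit 203, nat_lit 116, nat_lit 203])) (.node (nat_lit 5) (.node (nat_lit 4) (.leaf (nat_lit 13314) [nat_lit 87, nat_lit 116, nat_lit 87, nat_lit 116, nat_lit 87]) (.leaf (nat_lit 8194) [nat_lit 58, nat_lit 116, nat_lit 58])) (.node (nat_lit 6) (.leaf (nat_lit 19456) [nat_lit 174, nat_lit 116, nat_lit 174]) r10))))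
noncomputable def r11 : WT := (.leaf (nat_lit 31746) [nat_lit 203, nat_lit 232, nat_lit 116, nat_lit 145, nat_lit 203, nat_lit 232, nat_lit 116, nat_lit 145, nat_lit 203, nat_lit 232, nat_lit 116, nat_lit 145, nat_lit 203, nat_lit 232, nat_lit 116])
noncomputable def r12 : WT := (.leaf (nat_lit 31749) [nat_lit 116, nat_lit 232, nat_lit 203, nat_lit 145, nat_lit 116, nat_lit 232, nat_lit 203, nat_lit 145, nat_lit 116, nat_lit 232, nat_lit 203, nat_lit 145, nat_lit 116, nat_lit 232, nat_lit 203])
noncomputable def r13 : WT := (.node (nat_lit 12) (.node (nat_lit 11) (.leaf (nat_lit 30730) [nat_lit 116, nat_lit 145, nat_lit 116, nat_lit 145, nat_lit 116, nat_lit 58, nat_lit 145, nat_lit 116, nat_lit 145, nat_lit 116]) (.leaf (nat_lit 30738) [nat_lit 116, nat_lit 58, nat_lit 145, nat_lit 116, nat_lit 145, nat_lit 116, nat_lit 145, nat_lit 116, nat_lit 145, nat_lit 116])) (.node (nat_lit 13) (.leaf (nat_lit 30723) [nat_lit 116, nat_lit 145, nat_lit 116, nat_lit 145, nat_lit 116, nat_lit 145, nat_lit 116, nat_lit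 145, nat_lit 58, nat_lit 116]) (.node (nat_lit 14) (.leaf (nat_lit 30734) [nat_lit 116, nat_lit 145, nat_lit 116, nat_lit 58, nat_lit 145, nat_lit 116, nat_lit 145, nat_lit 116, nat_lit 145, nat_lit 116]) (.leaf (nat_lit 30739) [nat_lit 58, nat_lit 116, nat_lit 145, nat_lit 116, nat_lit 145, nat_lit 116, nat_lit 145, nat_lit 116, nat_lit 145, nat_lit 116]))))
noncomputable def r14 : WT := (.node (nat_lit 7) (.leaf (nat_lit 22528) [nat_lit 174, nat_lit 145, nat_lit 174, nat_lit 145, nat_lit 174]) (.node (nat_lit 8) r11 (.node (nat_lit 9) r12 (.node (nat_lit 10) (.leaf (nat_lit 30722) [nat_lit 116, nat_lit 145, nat_lit 116, nat_lit 145, nat_lit 116, nat_lit 145, nat_lit 116, nat_lit 145, nat_lit 116, nat_lit 58]) r13))))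
noncomputable def w3 : WT := (.node (nat_lit 1) (.leaf (nat_lit 3072) [nat_lit 145]) (.node (nat_lit 4) (.node (nat_lit 2) (.leaf (nat_lit 24576) [nat_lit 232, nat_lit 145, nat_lit 232, nat_lit 145, nat_lit 232]) (.node (nat_lit 3) (.leaf (nat_lit 23552) [nat_lit 203, nat_lit 145, nat_lit 203, nat_lit 145, nat_lit 203]) (.leaf (nat_lit 9218) [nat_lit 58, nat_lit 145, nat_lit 58]))) (.node (nat_lit 5) (.leaf (nat_lit 14338) [nat_lit 87, nat_lit 145, nat_lit 87]) (.node (nat_lit 6) (.leaf (nat_lit 30726) [nat_lit 116, nat_lit 145, nat_lit 116, nat_lit 145, nat_lit 116, nat_lit 145, nat_lit 116, nat_lit 58, nat_lit 145, nat_lit 116]) r14))))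
noncomputable def r15 : WT := (.node (nat_lit 7) (.leaf (nat_lit 22530) [nat_lit 145, nat_lit 174, nat_lit 145, nat_lit 174, nat_lit 145]) (.node (nat_lit 8) (.leaf (nat_lit 28672) [nat_lit 232, nat_lit 203, nat_lit 232, nat_lit 203]) (.node (nat_lit 9) (.leaf (nat_lit 28681) [nat_lit 203, nat_lit 232, nat_lit 203, nat_lit 232]) (.node (nat_lit 10) (.leaf (nat_lit 29715) [nat_lit 58, nat_lit 87, nat_lit 116, nat_lit 58, nat_lit 87, nat_lit 116, nat_lit 58, nat_lit 87, nat_lit 116]) (.leaf (nat_lit 29696) [nat_lit 116, nat_lit 87, nat_lit 58, nat_lit 116, nat_lit 87, nat_lit 58, nat_lit 116, nat_lit 87, nat_lit 58])))))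
noncomputable def w4 : WT := (.node (nat_lit 1) (.leaf (nat_lit 4096) [nat_lit 174]) (.node (nat_lit 3) (.node (nat_lit 2) (.leaf (nat_lit 26624) [nat_lit 232, nat_lit 174, nat_lit 232]) (.leaf (nat_lit 25600) [nat_lit 203, nat_lit 174, nat_lit 203])) (.node (nat_lit 5) (.node (nat_lit 4) (.leaf (nat_lit 19458) [nat_lit 116, nat_lit 174, nat_lit 116]) (.leaf (nat_lit 10242) [nat_lit 58, nat_lit 174, nat_lit 58])) (.node (nat_lit 6) (.leaf (nat_lit 15362) [nat_lit 87, nat_lit 174, nat_lit 87]) r15))))
noncomputable def r16 : WT := (.leaf (nat_lit 31748) [nat_lit 232, nat_lit 116, nat_lit 145, nat_lit 203, nat_lit 232, nat_lit 116, nat_lit 145, nat_lit 203, nat_lit 232, nat_lit 116, nat_lit 145, nat_lit 203, nat_lit 232, nat_lit 116, nat_lit 145])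
noncomputable def r17 : WT := (.leaf (nat_lit 31747) [nat_lit 145, nat_lit 116, nat_lit 232, nat_lit 203, nat_lit 145, nat_lit 116, nat_lit 232, nat_lit 203, nat_lit 145, nat_lit 116, nat_lit 232, nat_lit 203, nat_lit 145, nat_lit 116, nat_lit 232])
noncomputable def r18 : WT := (.node (nat_lit 8) (.leaf (nat_lit 28680) [nat_lit 174, nat_lit 232, nat_lit 203, nat_lit 232]) (.node (nat_lit 9) (.leaf (nat_lit 28673) [nat_lit 232, nat_lit 203, nat_lit 232, nat_lit 174]) (.node (nat_lit 10) r16 (.node (nat_lit 11) r17 (.leaf (nat_lit 28677) [nat_lit 232, nat_lit 174, nat_lit 203, nat_lit 232])))))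
noncomputable def w5 : WT := (.node (nat_lit 1) (.leaf (nat_lit 5120) [nat_lit 203]) (.node (nat_lit 4) (.node (nat_lit 2) (.leaf (nat_lit 28676) [nat_lit 232, nat_lit 203, nat_lit 174, nat_lit 232]) (.node (nat_lit 3) (.leaf (nat_lit 11266) [nat_lit 58, nat_lit 203, nat_lit 58]) (.leaf (nat_lit 20482) [nat_lit 116, nat_lit 203, nat_lit 116]))) (.node (nat_lit 6) (.node (nat_lit 5) (.leaf (nat_lit 16386) [nat_lit 87, nat_lit 203, nat_lit 87]) (.leaf (nat_lit 25602) [nat_lit 174, nat_lit 203, nat_lit 174])) (.node (nat_lit 7) (.leaf (nat_lit 23554) [nat_lit 145, nat_lit 203, nat_lit 145, nat_lit 203, nat_lit 145]) r18))))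
noncomputable def r19 : WT := (.leaf (nat_lit 31750) [nat_lit 116, nat_lit 145, nat_lit 203, nat_lit 232, nat_lit 116, nat_lit 145, nat_lit 203, nat_lit 232, nat_lit 116, nat_lit 145, nat_lit 203, nat_lit 232, nat_lit 116, nat_lit 145, nat_lit 203])
noncomputable def r20 : WT := (.leaf (nat_lit 31745) [nat_lit 203, nat_lit 145, nat_lit 116, nat_lit 232, nat_lit 203, nat_lit 145, nat_lit 116, nat_lit 232, nat_lit 203, nat_lit 145, nat_lit 116, nat_lit 232, nat_lit 203, nat_lit 145, nat_lit 116])
noncomputable def r21 : WT := (.node (nat_lit 7) (.leaf (nat_lit 24578) [nat_lit 145, nat_lit 232, nat_lit 145, nat_lit 232, nat_lit 145]) (.node (nat_lit 9) (.node (nat_lit 8) (.leaf (nat_lit 28675) [nat_lit 203, nat_lit 232, nat_lit 174, nat_lit 203]) r19) (.node (nat_lit 10) (.leaf (nat_lit 28679) [nat_lit 174, nat_lit 203, nat_lit 232, nat_lit 203]) (.node (nat_lit 11) (.leaf (nat_lit 28674) [nat_lit 203, nat_lit 232, nat_lit 203, nat_lit 174]) r20))))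
noncomputable def w6 : WT := (.node (nat_lit 1) (.leaf (nat_lit 6144) [nat_lit 232]) (.node (nat_lit 4) (.node (nat_lit 2) (.leaf (nat_lit 21506) [nat_lit 116, nat_lit 232, nat_lit 116]) (.node (nat_lit 3) (.leaf (nat_lit 12290) [nat_lit 58, nat_lit 232, nat_lit 58]) (.leaf (nat_lit 17410) [nat_lit 87, nat_lit 232, nat_lit 87]))) (.node (nat_lit 5) (.leaf (nat_lit 28678) [nat_lit 203, nat_lit 174, nat_lit 232, nat_lit 203]) (.node (nat_lit 6) (.leaf (nat_lit 26626) [nat_lit 174, nat_lit 232, nat_lit 174]) r21))))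
noncomputable def r22 : WT := (.leaf (nat_lit 31749) [nat_lit 145, nat_lit 116, nat_lit 232, nat_lit 203, nat_lit 145, nat_lit 116, nat_lit 232, nat_lit 203, nat_lit 145, nat_lit 116, nat_lit 232, nat_lit 203, nat_lit 145, nat_lit 116, nat_lit 232, nat_lit 203])
noncomputable def wP : WT := (.node (nat_lit 2) (.node (nat_lit 1) (.leaf (nat_lit 13314) [nat_lit 116, nat_lit 87, nat_lit 116, nat_lit 87, nat_lit 116, nat_lit 87]) r22) (.node (nat_lit 3) (.leaf (nat_lit 14338) [nat_lit 145, nat_lit 87, nat_lit 145, nat_lit 87]) (.node (nat_lit 4) (.leaf (nat_lit 16384) [nat_lit 87, nat_lit 203, nat_lit 87, nat_lit 203]) (.leaf (nat_lit 23552) [nat_lit 145, nat_lit 203, nat_lit 145, nat_lit 203, nat_lit 145, nat_lit 203]))))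
noncomputable def P : Par := ⟨tb, nat_lit 261, nat_lit 0x1fffffffffffffffffffffffffffffffffffffffffffffffffffffffffffffffff, nat_lit 50057, nat_lit 536870911, nat_lit 65535, nat_lit 29, nat_lit 16, nat_lit 49980,
  [nat_lit 58, nat_lit 87, nat_lit 116, nat_lit 145, nat_lit 174, nat_lit 203, nat_lit 232], [nat_lit 58, nat_lit 116, nat_lit 145, nat_lit 174, nat_lit 203, nat_lit 232], wP,
  (.cons (nat_lit 58) w0 (.cons (nat_lit 87) w1 (.cons (nat_lit 116) w2 (.cons (nat_lit 145) w3 (.cons (nat_lit 174) w4 (.cons (nat_lit 203) w5 (.cons (nat_lit 232) w6 .nil))))))),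
  .nil⟩

end Cfsg.Agent.Lib.TCHe2
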