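import Cfsg.Agent.Lib.TCHe3D0

set_option autoImplicit false
set_option maxRecDepth 100000

namespace Cfsg.Agent.Lib.TCHe3
open Cfsg.Agent.Lib.TCCore

noncomputable def tb : T := (.node (nat_lit 282) (.node (nat_lit 141) l0 l1) (.node (nat_lit 423) l2 l3))
noncomputable def r0 : WT := (.node (nat_lit 6) (.leaf (nat_lit 6144) [nat_lit 51, nat_lit 34, nat_lit 51]) (.node (nat_lit 7) (.leaf (nat_lit 22528) [nat_lit 68, nat_lit 51, nat_lit 68, nat_lit 51, nat_lit 68, nat_lit 51, nat_lit 68, nat_lit 51, nat_lit 68, nat_lit 51]) (.leaf (nat_lit 22549) [nat_lit 51, nat_lit 68, nat_lit 51, nat_lit 68, nat_lit 51, nat_lit 68, nat_lit 51, nat_lit 68, nat_lit 51, nat_lit 68])))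
noncomputable def w0 : WT := (.node (nat_lit 1) (.leaf (nat_lit 0) [nat_lit 34]) (.node (nat_lit 3) (.node (nat_lit 2) (.leaf (nat_lit 9216) [nat_lit 102, nat_lit 34, nat_lit 102]) (.leaf (nat_lit 10240) [nat_lit 119, nat_lit 34, nat_lit 119])) (.node (nat_lit 4) (.leaf (nat_lit 7168) [nat_lit 68, nat_lit 34, nat_lit 68]) (.node (nat_lit 5) (.leaf (nat_lit 8192) [nat_lit 85, nat_lit 34, nat_lit 85]) r0))))
noncomputable def r1 : WT := (.leaf (nat_lit 23559) [nat_lit 119, nat_lit 102, nat_lit 68, nat_lit 51, nat_lit 119, nat_lit 102, nat_lit 68, nat_lit 51, nat_lit 119, nat_lit 102, nat_lit 68, nat_lit 51, nat_lit 119, nat_lit 102, nat_lit 68])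
noncomputable def r2 : WT := (.leaf (nat_lit 24576) [nat_lit 68, nat_lit 85, nat_lit 51, nat_lit 68, nat_lit 85, nat_lit 51, nat_lit 68, nat_lit 85, nat_lit 51, nat_lit 68, nat_lit 85, nat_lit 51, nat_lit 68, nat_lit 85])
noncomputable def r3 : WT := (.leaf (nat_lit 24581) [nat_lit 85, nat_lit 68, nat_lit 51, nat_lit 85, nat_lit 68, nat_lit 51, nat_lit 85, nat_lit 68, nat_lit 51, nat_lit 85, nat_lit 68, nat_lit 51, nat_lit 85, nat_lit 68])
noncomputable def r4 : WT := (.node (nat_lit 6) (.leaf (nat_lit 22532) [nat_lit 68, nat_lit 51, nat_lit 68, nat_lit 51, nat_lit 68, nat_lit 51, nat_lit 68, nat_lit 51, nat_lit 34, nat_lit 68]) (.node (nat_lit 8) (.node (nat_lit 7) (.leaf (nat_lit 22536) [nat_lit 68, nat_lit 51, nat_lit 68, nat_lit 51, nat_lit 68, nat_lit 51, nat_lit 34, nat_lit 68, nat_lit 51, nat_lit 68]) r1) (.node (nat_lit 10) (.node (nat_lit 9) (.leaf (nat_lit 22540) [nat_lit 68, nat_lit 51, nat_lit 68, nat_lit 51, nat_lit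 34, nat_lit 68, nat_lit 51, nat_lit 68, nat_lit 51, nat_lit 68]) r2) (.node (nat_lit 11) (.leaf (nat_lit 22548) [nat_lit 34, nat_lit 68, nat_lit 51, nat_lit 68, nat_lit 51, nat_lit 68, nat_lit 51, nat_lit 68, nat_lit 51, nat_lit 68]) r3))))
noncomputable def w1 : WT := (.node (nat_lit 1) (.leaf (nat_lit 1024) [nat_lit 51]) (.node (nat_lit 3) (.node (nat_lit 2) (.leaf (nat_lit 13312) [nat_lit 102, nat_lit 51, nat_lit 102]) (.leaf (nat_lit 14336) [nat_lit 119, nat_lit 51, nat_lit 119])) (.node (nat_lit 4) (.leaf (nat_lit 12288) [nat_lit 85, nat_lit 51, nat_lit 85]) (.node (nat_lit 5) (.leaf (nat_lit 6146) [nat_lit 34, nat_lit 51, nat_lit 34]) r4))))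
noncomputable def r5 : WT := (.leaf (nat_lit 23557) [nat_lit 51, nat_lit 119, nat_lit 102, nat_lit 68, nat_lit 51, nat_lit 119, nat_lit 102, nat_lit 68, nat_lit 51, nat_lit 119, nat_lit 102, nat_lit 68, nat_lit 51, nat_lit 119, nat_lit 102])
noncomputable def r6 : WT := (.leaf (nat_lit 24579) [nat_lit 51, nat_lit 85, nat_lit 68, nat_lit 51, nat_lit 85, nat_lit 68, nat_lit 51, nat_lit 85, nat_lit 68, nat_lit 51, nat_lit 85, nat_lit 68, nat_lit 51, nat_lit 85])
noncomputable def r7 : WT := (.leaf (nat_lit 23554) [nat_lit 102, nat_lit 119, nat_lit 51, nat_lit 68, nat_lit 102, nat_lit 119, nat_lit 51, nat_lit 68, nat_lit 102, nat_lit 119, nat_lit 51, nat_lit 68, nat_lit 102, nat_lit 119, nat_lit 51])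
noncomputable def r8 : WT := (.leaf (nat_lit 24578) [nat_lit 85, nat_lit 51, nat_lit 68, nat_lit 85, nat_lit 51, nat_lit 68, nat_lit 85, nat_lit 51, nat_lit 68, nat_lit 85, nat_lit 51, nat_lit 68, nat_lit 85, nat_lit 51])
noncomputable def r9 : WT := (.node (nat_lit 8) (.node (nat_lit 7) r5 r6) (.node (nat_lit 9) r7 (.node (nat_lit 10) r8 (.leaf (nat_lit 22542) [nat_lit 51, nat_lit 68, nat_lit 51, nat_lit 34, nat_lit 68, nat_lit 51, nat_lit 68, nat_lit 51, nat_lit 68, nat_lit 51]))))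
noncomputable def w2 : WT := (.node (nat_lit 1) (.leaf (nat_lit 2048) [nat_lit 68]) (.node (nat_lit 3) (.node (nat_lit 2) (.leaf (nat_lit 16384) [nat_lit 102, nat_lit 68, nat_lit 102, nat_lit 68, nat_lit 102]) (.leaf (nat_lit 17408) [nat_lit 119, nat_lit 68, nat_lit 119, nat_lit 68, nat_lit 119])) (.node (nat_lit 5) (.node (nat_lit 4) (.leaf (nat_lit 22534) [nat_lit 51, nat_lit 68, nat_lit 51, nat_lit 68, nat_lit 51, nat_lit 68, nat_lit 51, nat_lit 34, nat_lit 68, nat_lit 51]) (.leaf (nat_lit 15360) [nat_lit 85, nat_lit 68, nat_lit 85, nat_lit 68, nat_lit 85])) (.node (nat_lit 6) (.leaf (nat_lit 7170) [nat_lit 34, nat_lit 68, nat_lit 34]) r9))))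
noncomputable def r10 : WT := (.node (nat_lit 6) (.leaf (nat_lit 8194) [nat_lit 34, nat_lit 85, nat_lit 34]) (.leaf (nat_lit 21513) [nat_lit 102, nat_lit 119, nat_lit 102, nat_lit 119]))
noncomputable def r11 : WT := (.leaf (nat_lit 24580) [nat_lit 51, nat_lit 68, nat_lit 85, nat_lit 51, nat_lit 68, nat_lit 85, nat_lit 51, nat_lit 68, nat_lit 85, nat_lit 51, nat_lit 68, nat_lit 85, nat_lit 51, nat_lit 68])
noncomputable def r12 : WT := (.leaf (nat_lit 24577) [nat_lit 68, nat_lit 51, nat_lit 85, nat_lit 68, nat_lit 51, nat_lit 85, nat_lit 68, nat_lit 51, nat_lit 85, nat_lit 68, nat_lit 51, nat_lit 85, nat_lit 68, nat_lit 51])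
noncomputable def r13 : WT := (.node (nat_lit 8) (.leaf (nat_lit 21504) [nat_lit 119, nat_lit 102, nat_lit 119, nat_lit 102]) (.node (nat_lit 9) r11 r12))
noncomputable def w3 : WT := (.node (nat_lit 1) (.leaf (nat_lit 3072) [nat_lit 85]) (.node (nat_lit 3) (.node (nat_lit 2) (.leaf (nat_lit 18432) [nat_lit 102, nat_lit 85, nat_lit 102]) (.leaf (nat_lit 19456) [nat_lit 119, nat_lit 85, nat_lit 119])) (.node (nat_lit 5) (.node (nat_lit 4) (.leaf (nat_lit 15362) [nat_lit 68, nat_lit 85, nat_lit 68, nat_lit 85, nat_lit 68]) (.leaf (nat_lit 12290) [nat_lit 51, nat_lit 85, nat_lit 51])) (.node (nat_lit 7) r10 r13))))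
noncomputable def r14 : WT := (.leaf (nat_lit 23555) [nat_lit 68, nat_lit 51, nat_lit 119, nat_lit 102, nat_lit 68, nat_lit 51, nat_lit 119, nat_lit 102, nat_lit 68, nat_lit 51, nat_lit 119, nat_lit 102, nat_lit 68, nat_lit 51, nat_lit 119])
noncomputable def r15 : WT := (.node (nat_lit 7) (.leaf (nat_lit 21505) [nat_lit 119, nat_lit 102, nat_lit 119, nat_lit 85]) (.node (nat_lit 8) (.leaf (nat_lit 21512) [nat_lit 85, nat_lit 119, nat_lit 102, nat_lit 119]) r14))
noncomputable def w4 : WT := (.node (nat_lit 1) (.leaf (nat_lit 4096) [nat_lit 102]) (.node (nat_lit 3) (.node (nat_lit 2) (.leaf (nat_lit 21508) [nat_lit 119, nat_lit 102, nat_lit 85, nat_lit 119]) (.leaf (nat_lit 16386) [nat_lit 68, nat_lit 102, nat_lit 68, nat_lit 102, nat_lit 68])) (.node (nat_lit 5) (.node (nat_lit 4) (.leaf (nat_lit 13314) [nat_lit 51, nat_lit 102, nat_lit 51]) (.leaf (nat_lit 18434) [nat_lit 85, nat_lit 102, nat_lit 85])) (.node (nat_lit 6) (.leaf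 (nat_lit 9218) [nat_lit 34, nat_lit 102, nat_lit 34]) r15))))
noncomputable def r16 : WT := (.leaf (nat_lit 23558) [nat_lit 51, nat_lit 68, nat_lit 102, nat_lit 119, nat_lit 51, nat_lit 68, nat_lit 102, nat_lit 119, nat_lit 51, nat_lit 68, nat_lit 102, nat_lit 119, nat_lit 51, nat_lit 68, nat_lit 102])
noncomputable def r17 : WT := (.node (nat_lit 6) (.leaf (nat_lit 10242) [nat_lit 34, nat_lit 119, nat_lit 34]) (.node (nat_lit 7) (.leaf (nat_lit 21507) [nat_lit 102, nat_lit 119, nat_lit 85, nat_lit 102]) r16))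
noncomputable def w5 : WT := (.node (nat_lit 1) (.leaf (nat_lit 5120) [nat_lit 119]) (.node (nat_lit 3) (.node (nat_lit 2) (.leaf (nat_lit 21510) [nat_lit 102, nat_lit 85, nat_lit 119, nat_lit 102]) (.leaf (nat_lit 17410) [nat_lit 68, nat_lit 119, nat_lit 68, nat_lit 119, nat_lit 68])) (.node (nat_lit 4) (.leaf (nat_lit 14338) [nat_lit 51, nat_lit 119, nat_lit 51]) (.node (nat_lit 5) (.leaf (nat_lit 19458) [nat_lit 85, nat_lit 119, nat_lit 85]) r17))))
noncomputable def wP : WT := (.leaf (nat_lit 0) [nat_lit 34, nat_lit 34])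
noncomputable def P : Par := ⟨tb, nat_lit 136, nat_lit 0xffffffffffffffffffffffffffffffffff, nat_lit 480, nat_lit 131071, nat_lit 511, nat_lit 17, nat_lit 9, nat_lit 480,
  [nat_lit 34, nat_lit 51, nat_lit 68, nat_lit 85, nat_lit 102, nat_lit 119], [nat_lit 68, nat_lit 85, nat_lit 102, nat_lit 119], wP,
  (.cons (nat_lit 34) w0 (.cons (nat_lit 51) w1 (.cons (nat_lit 68) w2 (.cons (nat_lit 85) w3 (.cons (nat_lit 102) w4 (.cons (nat_lit 119) w5 .nil)))))),
  .nil⟩

end Cfsg.Agent.Lib.TCHe3
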