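import Cfsg.Agent.Lib.TCDefs

set_option autoImplicit false
set_option maxRecDepth 100000

namespace Cfsg.Agent.Lib.TCHe4
open Cfsg.Agent.Lib.TCCore

noncomputable def l0 : T := .leaf (nat_lit 0) (nat_lit 0x369d5a45686375fffc0463aa0ca64e8a178fffc0382e94da7468df80fffc04632991a12a91086fffc02a3e8d6a82e94963fffc01c4290ba24a98866fffc01c2e84ca3529c752fffc01c32892a55aa084ffffc01c3a7d49c5265a4cfffc0463e80d9e4a69790fffc0383274e9f3a6d579fffc04636792992e70e54fffc02a326d5a03274a51fffc01c367109a3e78b74fffc01c3e6519b4e7c95efffc01c426939d5680a44fffc01c3e5d6945a45d60fffc0464260e965249b8efffc0383654f974a4d97efffc0463a592913251168fffc02a424d7983654b65fffc01c4650f924e58c88fffc01c3a45093565c84afffc01c3e493955e60842fffc01c4e3d58c622d89ffffc04652418894a39a4bfffc02a5a2d18d4e3dc97fffc038423128e5a2527dfffc04646356905228f7afffc01c5e38d8a6640a5ffffc01c2e24e8b5630857fffc01c322998f5e34737fffc01c2e1cd847e0cd93fffc0463220d812a18f64fffc02a760c9852e1d1a5fffc0382210a862e04a48fffc0462614e882608749fffc01c7a19c82822147ffffc01c220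5d832a10638fffc01c2608e873214532fffc01c51fd67c69ba0a6fffc0465601a6d4df9583fffc02a61b927d51fda96fffc03845f137e61b538dfffc04649f578059b107bfffc01c3de947851a517cfffc04641ece7949a908cfffc03851acf7a35dd69efffc02a35dd57b49ae2a7fffc04639e106a39e4c76fffc01c2dd4e7035d0d77fffc04631d8e7229ce4a8fffc02a29cce7139d8c9bfffc0462dd0c6f2dd4950fffc01c25c4f7531bcc5cfffc04629c8f7429c085dfffc01c25bcf762dc4758fffc01c29c0d7335c8831fffc01c65f8c6c6e00967fffc01c29b1b7f65f4739fffc01c2db4d6e5df0627fffc01c55e4b694de0853fffc01c2da51774de8859fffc01c31a8c6b55ec625fffc01c259cb3e2d85295fffc04629a0a282198a6efffc02a258473d259c9a3fffc0382990d5b3d88c94fffc0462d94b34258ce87fffc02a358885c2990aa4fffc038398c61e4194861fffc038299851d31a0962fffc038297cc5a3d15e98fffc0462d80b562578b8bfffc02a351485d297ca9afffc038256895e1d58971fffc02a2d6c9631cd0d72fffc02a3170e651878a5afffc02a2974d601870b5bfffc02a2488758295c96afffc03818b48592154870fffc0461cb09552d6498afffc0461870c5f2174855fffc046146ca572560956fffc046214ca3b2d34f9dfffc04625509241d4896bfffc02a253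463c214c8a2fffc0382540b473138b9cfffc0462944a30213ca73fffc02a293874825409a1fffc0382d3c51a354474dfffc0382948419315084efffc038252cb463105ba0fffc0462930a36212998ffffc02a2904749252c992fffc038211884a18d8884fffc02a211c84f18c0b85fffc02a2520c511468946fffc02a2524c4c1460a47fffc02a3978c1c4180943fffc01c250cd3a3d00b99fffc0462910a172108a45fffc02a350073f250c991fffc0382d285183530840fffc03839083164110941fffc0382ce8842205c63efffc01c1cf4c68147473ffffc02a20f886618a093cfffc02a1cec7521490a3dfffc02a20f0b54106463afffc02a30fce440c5873bfffc02a208063824dc86dfffc03814a87391cd4782fffc04618ac83528e4889fffc0461460b4b1d24735fffc046105493720e0836fffc0462478c642170633fffc01c1c505322cc4734fffc03810a463318bc681fffc0461cb8a2f30cc96ffffc0461468b501d2072ffffc0460c4cb311cc8830fffc04620c4b29205062dfffc01c1d6072c146c72efffc02a215c82d188892bfffc02a1cdc72a1480a2cfffc02a18e082b1054629fffc02a14c8c2e0c4c72afffc02a1474b671cf4726fffc0461c7c526289476cfffc03810486271c8c828fffc04614849232c9c769fffc0461064a5318f0623fffc0460c44a252098724fffc046296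451b1cb0721fffc03818944121c7c822fffc03824e441518ac61ffffc038209c3112084720fffc03828d07621d6c510fffc01c18a066118f840ffffc01c1d58d451d6850efffc01c195462218b440cfffc01c18c064e191c409fffc01c149054d14ec308fffc01c18d86411918407fffc01c1458b4324fc30dfffc01c185c44010e8206fffc01c14d452014a8305fffc01c20cc51324b830bfffc01c10bc61410a4204fffc01c1498521144430afffc01c108c41f1848203fffc01c182c40f203861efffc0380c28510143451dfffc046103070d244061cfffc046080880e183c417fffc046143830a142c51bfffc0381c402021830414fffc038103c40c0808412fffc02a14103081c1c51afffc038080c4091018419fffc0460c146062024518fffc04604047071420316fffc046101c2031010415fffc03818241011414313fffc0380c203050404311fffc02a0c3430b0c28101fffc01c0818204080c202fffc000)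

end Cfsg.Agent.Lib.TCHe4
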