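import Cfsg.Agent.Lib.TCHe5D0

set_option autoImplicit false
set_option maxRecDepth 100000

namespace Cfsg.Agent.Lib.TCHe5
open Cfsg.Agent.Lib.TCCore

noncomputable def tb : T := (.node (nat_lit 161) l0 l1)
noncomputable def r0 : WT := (.node (nat_lit 6) (.leaf (nat_lit 15378) [nat_lit 102, nat_lit 68, nat_lit 51, nat_lit 34, nat_lit 68, nat_lit 51, nat_lit 34, nat_lit 68, nat_lit 51]) (.node (nat_lit 7) (.leaf (nat_lit 15366) [nat_lit 68, nat_lit 51, nat_lit 34, nat_lit 68, nat_lit 51, nat_lit 34, nat_lit 102, nat_lit 68, nat_lit 51]) (.leaf (nat_lit 16384) [nat_lit 85, nat_lit 68, nat_lit 85, nat_lit 68, nat_lit 85, nat_lit 68, nat_lit 85, nat_lit 68, nat_lit 85, nat_lit 68])))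
noncomputable def w0 : WT := (.node (nat_lit 1) (.leaf (nat_lit 0) [nat_lit 34]) (.node (nat_lit 3) (.node (nat_lit 2) (.leaf (nat_lit 7168) [nat_lit 85, nat_lit 34, nat_lit 85]) (.leaf (nat_lit 6144) [nat_lit 68, nat_lit 34, nat_lit 68])) (.node (nat_lit 4) (.leaf (nat_lit 8192) [nat_lit 102, nat_lit 34, nat_lit 102]) (.node (nat_lit 5) (.leaf (nat_lit 5120) [nat_lit 51, nat_lit 34, nat_lit 51, nat_lit 34, nat_lit 51, nat_lit 34, nat_lit 51]) r0))))
noncomputable def r1 : WT := (.node (nat_lit 6) (.leaf (nat_lit 15363) [nat_lit 68, nat_lit 34, nat_lit 51, nat_lit 68, nat_lit 34, nat_lit 51, nat_lit 68, nat_lit 102, nat_lit 34]) (.node (nat_lit 7) (.leaf (nat_lit 15369) [nat_lit 68, nat_lit 34, nat_lit 51, nat_lit 68, nat_lit 102, nat_lit 34, nat_lit 51, nat_lit 68, nat_lit 34]) (.node (nat_lit 8) (.leaf (nat_lit 15364) [nat_lit 34, nat_lit 68, nat_lit 51, nat_lit 34, nat_lit 68, nat_lit 51, nat_lit 34, nat_lit 102,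 nat_lit 68]) (.leaf (nat_lit 15370) [nat_lit 34, nat_lit 68, nat_lit 51, nat_lit 34, nat_lit 102, nat_lit 68, nat_lit 51, nat_lit 34, nat_lit 68]))))
noncomputable def w1 : WT := (.node (nat_lit 1) (.leaf (nat_lit 1024) [nat_lit 51]) (.node (nat_lit 3) (.node (nat_lit 2) (.leaf (nat_lit 10240) [nat_lit 85, nat_lit 51, nat_lit 85]) (.leaf (nat_lit 9216) [nat_lit 68, nat_lit 51, nat_lit 68, nat_lit 51, nat_lit 68])) (.node (nat_lit 4) (.leaf (nat_lit 11264) [nat_lit 102, nat_lit 51, nat_lit 102]) (.node (nat_lit 5) (.leaf (nat_lit 5122) [nat_lit 34, nat_lit 51, nat_lit 34, nat_lit 51, nat_lit 34, nat_lit 51, nat_lit 34]) r1))))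
noncomputable def r2 : WT := (.node (nat_lit 6) (.leaf (nat_lit 15365) [nat_lit 34, nat_lit 51, nat_lit 68, nat_lit 34, nat_lit 51, nat_lit 68, nat_lit 102, nat_lit 34, nat_lit 51]) (.node (nat_lit 7) (.leaf (nat_lit 15374) [nat_lit 51, nat_lit 34, nat_lit 102, nat_lit 68, nat_lit 51, nat_lit 34, nat_lit 68, nat_lit 51, nat_lit 34]) (.leaf (nat_lit 16392) [nat_lit 85, nat_lit 68, nat_lit 85, nat_lit 68, nat_lit 85, nat_lit 68, nat_lit 34, nat_lit 85, nat_lit 68, nat_lit 85])))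
noncomputable def w2 : WT := (.node (nat_lit 1) (.leaf (nat_lit 2048) [nat_lit 68]) (.node (nat_lit 3) (.node (nat_lit 2) (.leaf (nat_lit 6146) [nat_lit 34, nat_lit 68, nat_lit 34]) (.leaf (nat_lit 13312) [nat_lit 102, nat_lit 68, nat_lit 102])) (.node (nat_lit 4) (.leaf (nat_lit 16388) [nat_lit 85, nat_lit 68, nat_lit 85, nat_lit 68, nat_lit 85, nat_lit 68, nat_lit 85, nat_lit 68, nat_lit 34, nat_lit 85]) (.node (nat_lit 5) (.leaf (nat_lit 9218) [nat_lit 51, nat_lit 68, nat_lit 51, nat_lit 68, nat_lit 51]) r2))))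
noncomputable def r3 : WT := (.node (nat_lit 6) (.leaf (nat_lit 16386) [nat_lit 68, nat_lit 85, nat_lit 68, nat_lit 85, nat_lit 68, nat_lit 85, nat_lit 68, nat_lit 85, nat_lit 68, nat_lit 34]) (.node (nat_lit 7) (.leaf (nat_lit 16394) [nat_lit 68, nat_lit 85, nat_lit 68, nat_lit 85, nat_lit 68, nat_lit 34, nat_lit 85, nat_lit 68, nat_lit 85, nat_lit 68]) (.leaf (nat_lit 16398) [nat_lit 68, nat_lit 85, nat_lit 68, nat_lit 34, nat_lit 85, nat_lit 68, nat_lit 85, nat_lit 68, nat_lit 85, nat_lit 68])))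
noncomputable def w3 : WT := (.node (nat_lit 1) (.leaf (nat_lit 3072) [nat_lit 85]) (.node (nat_lit 3) (.node (nat_lit 2) (.leaf (nat_lit 10242) [nat_lit 51, nat_lit 85, nat_lit 51]) (.leaf (nat_lit 14336) [nat_lit 102, nat_lit 85, nat_lit 102, nat_lit 85, nat_lit 102])) (.node (nat_lit 4) (.leaf (nat_lit 7170) [nat_lit 34, nat_lit 85, nat_lit 34]) (.node (nat_lit 5) (.leaf (nat_lit 16390) [nat_lit 68, nat_lit 85, nat_lit 68, nat_lit 85, nat_lit 68, nat_lit 85, nat_lit 68, nat_lit 34, nat_lit 85, nat_lit 68]) r3))))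
noncomputable def r4 : WT := (.node (nat_lit 6) (.leaf (nat_lit 15360) [nat_lit 68, nat_lit 51, nat_lit 34, nat_lit 68, nat_lit 51, nat_lit 34, nat_lit 68, nat_lit 51, nat_lit 34]) (.leaf (nat_lit 15379) [nat_lit 34, nat_lit 51, nat_lit 68, nat_lit 34, nat_lit 51, nat_lit 68, nat_lit 34, nat_lit 51, nat_lit 68]))
noncomputable def w4 : WT := (.node (nat_lit 1) (.leaf (nat_lit 4096) [nat_lit 102]) (.node (nat_lit 3) (.node (nat_lit 2) (.leaf (nat_lit 13314) [nat_lit 68, nat_lit 102, nat_lit 68]) (.leaf (nat_lit 14338) [nat_lit 85, nat_lit 102, nat_lit 85, nat_lit 102, nat_lit 85])) (.node (nat_lit 4) (.leaf (nat_lit 8194) [nat_lit 34, nat_lit 102, nat_lit 34]) (.node (nat_lit 5) (.leaf (nat_lit 11266) [nat_lit 51, nat_lit 102, nat_lit 51]) r4))))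
noncomputable def wP : WT := (.leaf (nat_lit 0) [nat_lit 34, nat_lit 34])
noncomputable def P : Par := ⟨tb, nat_lit 119, nat_lit 0x7fffffffffffffffffffffffffffff, nat_lit 315, nat_lit 131071, nat_lit 511, nat_lit 17, nat_lit 9, nat_lit 315,
  [nat_lit 34, nat_lit 51, nat_lit 68, nat_lit 85, nat_lit 102], [nat_lit 34, nat_lit 51, nat_lit 68, nat_lit 102], wP,
  (.cons (nat_lit 34) w0 (.cons (nat_lit 51) w1 (.cons (nat_lit 68) w2 (.cons (nat_lit 85) w3 (.cons (nat_lit 102) w4 .nil))))),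
  .nil⟩

end Cfsg.Agent.Lib.TCHe5
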