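import Cfsg.Agent.Lib.TCDefs

set_option autoImplicit false
set_option maxRecDepth 100000

namespace Cfsg.Agent.Lib.TCHe6
open Cfsg.Agent.Lib.TCCore

noncomputable def l0 : T := .leaf (nat_lit 0) (nat_lit 0x36b26f7202edfff0302d82b069922efff01826a1ed62926ffff0301ac22e5a6330fff03c1ed1ea52416bfff0183b01183161acfff0302ae22c3e8118fff0183a84d066e4e5fff03c3e93e242a367fff0184653213973a8fff0305241d15ed28afff0304a714f393529fff0305663a356c4dbfff0304d13e4362448fff0244504283a3321fff0183cf3672de362fff02445631f77039dfff0303cd3603c52defff01834e29d32131ffff0302552de2dc3e0fff03c21429731d3cbfff03c3ca30825a524fff02434b29229b214fff0180c31456ef149fff03c32f16b0c316afff0242132dc3e714cfff0184a02cd36b255fff01829d34e214296fff02425c1d325525afff0302572143e5192fff0181cc2da1491d3fff024523226190207fff0244a25291d114ffff0184211a510e190fff02439e31514f0cdfff01841f31608210efff02421210b184197fff03039a14c0ca41cfff02441b08710b2e6fff0301041c6192199fff03c08735b1864a3fff03c0c80ca041251fff0241412091c80c5fff01808219941f106fff03c1491411cc0c3fff018119082118104fff0300c50c30cd041fff018186184087082fff000)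

end Cfsg.Agent.Lib.TCHe6
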