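import Cfsg.Agent.Lib.TCJ3D0
import Cfsg.Agent.Lib.TCJ3D1
import Cfsg.Agent.Lib.TCJ3D2
import Cfsg.Agent.Lib.TCJ3D3
import Cfsg.Agent.Lib.TCJ3D4

set_option autoImplicit false
set_option maxRecDepth 100000

namespace Cfsg.Agent.Lib.TCJ3
open Cfsg.Agent.Lib.TCCore

noncomputable def n0 : T := (.node (nat_lit 80) (.node (nat_lit 40) l0 l1) (.node (nat_lit 120) l2 (.node (nat_lit 160) l3 l4)))
noncomputable def n1 : T := (.node (nat_lit 320) (.node (nat_lit 240) l5 (.node (nat_lit 280) l6 l7)) (.node (nat_lit 360) l8 (.node (nat_lit 400) l9 l10)))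
noncomputable def n2 : T := (.node (nat_lit 520) (.node (nat_lit 480) l11 l12) (.node (nat_lit 560) l13 (.node (nat_lit 600) l14 l15)))
noncomputable def n3 : T := (.node (nat_lit 760) (.node (nat_lit 680) l16 (.node (nat_lit 720) l17 l18)) (.node (nat_lit 800) l19 (.node (nat_lit 840) l20 l21)))
noncomputable def n4 : T := (.node (nat_lit 960) (.node (nat_lit 920) l22 l23) (.node (nat_lit 1000) l24 (.node (nat_lit 1040) l25 l26)))
noncomputable def n5 : T := (.node (nat_lit 1200) (.node (nat_lit 1120) l27 (.node (nat_lit 1160) l28 l29)) (.node (nat_lit 1240) l30 (.node (nat_lit 1280) l31 l32)))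
noncomputable def n6 : T := (.node (nat_lit 1400) (.node (nat_lit 1360) l33 l34) (.node (nat_lit 1440) l35 (.node (nat_lit 1480) l36 l37)))
noncomputable def n7 : T := (.node (nat_lit 1640) (.node (nat_lit 1560) l38 (.node (nat_lit 1600) l39 l40)) (.node (nat_lit 1680) l41 (.node (nat_lit 1720) l42 l43)))
noncomputable def n8 : T := (.node (nat_lit 1840) (.node (nat_lit 1800) l44 l45) (.node (nat_lit 1880) l46 (.node (nat_lit 1920) l47 l48)))
noncomputable def n9 : T := (.node (nat_lit 2080) (.node (nat_lit 2000) l49 (.node (nat_lit 2040) l50 l51)) (.node (nat_lit 2120) l52 (.node (nat_lit 2160) l53 l54)))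
noncomputable def n10 : T := (.node (nat_lit 2280) (.node (nat_lit 2240) l55 l56) (.node (nat_lit 2320) l57 (.node (nat_lit 2360) l58 l59)))
noncomputable def n11 : T := (.node (nat_lit 2520) (.node (nat_lit 2440) l60 (.node (nat_lit 2480) l61 l62)) (.node (nat_lit 2560) l63 (.node (nat_lit 2600) l64 l65)))
noncomputable def n12 : T := (.node (nat_lit 2720) (.node (nat_lit 2680) l66 l67) (.node (nat_lit 2760) l68 (.node (nat_lit 2800) l69 l70)))
noncomputable def n13 : T := (.node (nat_lit 2960) (.node (nat_lit 2880) l71 (.node (nat_lit 2920) l72 l73)) (.node (nat_lit 3000) l74 (.node (nat_lit 3040) l75 l76)))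
noncomputable def n14 : T := (.node (nat_lit 3160) (.node (nat_lit 3120) l77 l78) (.node (nat_lit 3200) l79 (.node (nat_lit 3240) l80 l81)))
noncomputable def n15 : T := (.node (nat_lit 3400) (.node (nat_lit 3320) l82 (.node (nat_lit 3360) l83 l84)) (.node (nat_lit 3440) l85 (.node (nat_lit 3480) l86 l87)))
noncomputable def n16 : T := (.node (nat_lit 3600) (.node (nat_lit 3560) l88 l89) (.node (nat_lit 3640) l90 (.node (nat_lit 3680) l91 l92)))
noncomputable def n17 : T := (.node (nat_lit 3840) (.node (nat_lit 3760) l93 (.node (nat_lit 3800) l94 l95)) (.node (nat_lit 3880) l96 (.node (nat_lit 3920) l97 l98)))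
noncomputable def n18 : T := (.node (nat_lit 4040) (.node (nat_lit 4000) l99 l100) (.node (nat_lit 4080) l101 (.node (nat_lit 4120) l102 l103)))
noncomputable def n19 : T := (.node (nat_lit 4280) (.node (nat_lit 4200) l104 (.node (nat_lit 4240) l105 l106)) (.node (nat_lit 4320) l107 (.node (nat_lit 4360) l108 l109)))
noncomputable def n20 : T := (.node (nat_lit 4480) (.node (nat_lit 4440) l110 l111) (.node (nat_lit 4520) l112 (.node (nat_lit 4560) l113 l114)))
noncomputable def n21 : T := (.node (nat_lit 4720) (.node (nat_lit 4640) l115 (.node (nat_lit 4680) l116 l117)) (.node (nat_lit 4760) l118 (.node (nat_lit 4800) l119 l120)))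
noncomputable def n22 : T := (.node (nat_lit 4920) (.node (nat_lit 4880) l121 l122) (.node (nat_lit 4960) l123 (.node (nat_lit 5000) l124 l125)))
noncomputable def n23 : T := (.node (nat_lit 5160) (.node (nat_lit 5080) l126 (.node (nat_lit 5120) l127 l128)) (.node (nat_lit 5200) l129 (.node (nat_lit 5240) l130 l131)))
noncomputable def n24 : T := (.node (nat_lit 5360) (.node (nat_lit 5320) l132 l133) (.node (nat_lit 5400) l134 (.node (nat_lit 5440) l135 l136)))
noncomputable def n25 : T := (.node (nat_lit 5600) (.node (nat_lit 5520) l137 (.node (nat_lit 5560) l138 l139)) (.node (nat_lit 5640) l140 (.node (nat_lit 5680) l141 l142)))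
noncomputable def n26 : T := (.node (nat_lit 5800) (.node (nat_lit 5760) l143 l144) (.node (nat_lit 5840) l145 (.node (nat_lit 5880) l146 l147)))
noncomputable def n27 : T := (.node (nat_lit 6040) (.node (nat_lit 5960) l148 (.node (nat_lit 6000) l149 l150)) (.node (nat_lit 6080) l151 (.node (nat_lit 6120) l152 l153)))
noncomputable def n28 : T := (.node (nat_lit 6240) (.node (nat_lit 6200) l154 l155) (.node (nat_lit 6280) l156 (.node (nat_lit 6320) l157 l158)))
noncomputable def n29 : T := (.node (nat_lit 6480) (.node (nat_lit 6400) l159 (.node (nat_lit 6440) l160 l161)) (.node (nat_lit 6520) l162 (.node (nat_lit 6560) l163 l164)))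
noncomputable def n30 : T := (.node (nat_lit 6720) (.node (nat_lit 6640) l165 (.node (nat_lit 6680) l166 l167)) (.node (nat_lit 6760) l168 (.node (nat_lit 6800) l169 l170)))
noncomputable def n31 : T := (.node (nat_lit 6960) (.node (nat_lit 6880) l171 (.node (nat_lit 6920) l172 l173)) (.node (nat_lit 7000) l174 (.node (nat_lit 7040) l175 l176)))
noncomputable def n32 : T := (.node (nat_lit 3520) (.node (nat_lit 1760) (.node (nat_lit 880) (.node (nat_lit 440) (.node (nat_lit 200) n0 n1) (.node (nat_lit 640) n2 n3)) (.node (nat_lit 1320) (.node (nat_lit 1080) n4 n5) (.node (nat_lit 1520) n6 n7))) (.node (nat_lit 2640) (.node (nat_lit 2200) (.node (nat_lit 1960) n8 n9) (.node (nat_lit 2400) n10 n11)) (.node (nat_lit 3080) (.node (nat_lit 2840) n12 n13) (.node (nat_lit 3280) n14 n15)))) (.node (nat_lit 5280) (.node (nat_lit 4400) (.node (nat_lit 3960) (.node (nat_lit 3720) n16 n17) (.node (nat_lit 4160) n18 n19)) (.node (nat_lit 4840) (.node (nat_lit 4600) n20 n21) (.node (nat_lit 5040) n22 n23))) (.node (nat_lit 6160) (.node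 (nat_lit 5720) (.node (nat_lit 5480) n24 n25) (.node (nat_lit 5920) n26 n27)) (.node (nat_lit 6600) (.node (nat_lit 6360) n28 n29) (.node (nat_lit 6840) n30 n31)))))
noncomputable def n33 : T := (.node (nat_lit 7160) (.node (nat_lit 7120) l177 l178) (.node (nat_lit 7200) l179 (.node (nat_lit 7240) l180 l181)))
noncomputable def n34 : T := (.node (nat_lit 7400) (.node (nat_lit 7320) l182 (.node (nat_lit 7360) l183 l184)) (.node (nat_lit 7440) l185 (.node (nat_lit 7480) l186 l187)))
noncomputable def n35 : T := (.node (nat_lit 7600) (.node (nat_lit 7560) l188 l189) (.node (nat_lit 7640) l190 (.node (nat_lit 7680) l191 l192)))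
noncomputable def n36 : T := (.node (nat_lit 7840) (.node (nat_lit 7760) l193 (.node (nat_lit 7800) l194 l195)) (.node (nat_lit 7880) l196 (.node (nat_lit 7920) l197 l198)))
noncomputable def n37 : T := (.node (nat_lit 8040) (.node (nat_lit 8000) l199 l200) (.node (nat_lit 8080) l201 (.node (nat_lit 8120) l202 l203)))
noncomputable def n38 : T := (.node (nat_lit 8280) (.node (nat_lit 8200) l204 (.node (nat_lit 8240) l205 l206)) (.node (nat_lit 8320) l207 (.node (nat_lit 8360) l208 l209)))
noncomputable def n39 : T := (.node (nat_lit 8480) (.node (nat_lit 8440) l210 l211) (.node (nat_lit 8520) l212 (.node (nat_lit 8560) l213 l214)))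
noncomputable def n40 : T := (.node (nat_lit 8720) (.node (nat_lit 8640) l215 (.node (nat_lit 8680) l216 l217)) (.node (nat_lit 8760) l218 (.node (nat_lit 8800) l219 l220)))
noncomputable def n41 : T := (.node (nat_lit 8920) (.node (nat_lit 8880) l221 l222) (.node (nat_lit 8960) l223 (.node (nat_lit 9000) l224 l225)))
noncomputable def n42 : T := (.node (nat_lit 9160) (.node (nat_lit 9080) l226 (.node (nat_lit 9120) l227 l228)) (.node (nat_lit 9200) l229 (.node (nat_lit 9240) l230 l231)))
noncomputable def n43 : T := (.node (nat_lit 9360) (.node (nat_lit 9320) l232 l233) (.node (nat_lit 9400) l234 (.node (nat_lit 9440) l235 l236)))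
noncomputable def n44 : T := (.node (nat_lit 9600) (.node (nat_lit 9520) l237 (.node (nat_lit 9560) l238 l239)) (.node (nat_lit 9640) l240 (.node (nat_lit 9680) l241 l242)))
noncomputable def n45 : T := (.node (nat_lit 9800) (.node (nat_lit 9760) l243 l244) (.node (nat_lit 9840) l245 (.node (nat_lit 9880) l246 l247)))
noncomputable def n46 : T := (.node (nat_lit 10040) (.node (nat_lit 9960) l248 (.node (nat_lit 10000) l249 l250)) (.node (nat_lit 10080) l251 (.node (nat_lit 10120) l252 l253)))
noncomputable def n47 : T := (.node (nat_lit 10240) (.node (nat_lit 10200) l254 l255) (.node (nat_lit 10280) l256 (.node (nat_lit 10320) l257 l258)))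
noncomputable def n48 : T := (.node (nat_lit 10480) (.node (nat_lit 10400) l259 (.node (nat_lit 10440) l260 l261)) (.node (nat_lit 10520) l262 (.node (nat_lit 10560) l263 l264)))
noncomputable def n49 : T := (.node (nat_lit 10680) (.node (nat_lit 10640) l265 l266) (.node (nat_lit 10720) l267 (.node (nat_lit 10760) l268 l269)))
noncomputable def n50 : T := (.node (nat_lit 10920) (.node (nat_lit 10840) l270 (.node (nat_lit 10880) l271 l272)) (.node (nat_lit 10960) l273 (.node (nat_lit 11000) l274 l275)))
noncomputable def n51 : T := (.node (nat_lit 11120) (.node (nat_lit 11080) l276 l277) (.node (nat_lit 11160) l278 (.node (nat_lit 11200) l279 l280)))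
noncomputable def n52 : T := (.node (nat_lit 11360) (.node (nat_lit 11280) l281 (.node (nat_lit 11320) l282 l283)) (.node (nat_lit 11400) l284 (.node (nat_lit 11440) l285 l286)))
noncomputable def n53 : T := (.node (nat_lit 11560) (.node (nat_lit 11520) l287 l288) (.node (nat_lit 11600) l289 (.node (nat_lit 11640) l290 l291)))
noncomputable def n54 : T := (.node (nat_lit 11800) (.node (nat_lit 11720) l292 (.node (nat_lit 11760) l293 l294)) (.node (nat_lit 11840) l295 (.node (nat_lit 11880) l296 l297)))
noncomputable def n55 : T := (.node (nat_lit 12000) (.node (nat_lit 11960) l298 l299) (.node (nat_lit 12040) l300 (.node (nat_lit 12080) l301 l302)))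
noncomputable def n56 : T := (.node (nat_lit 12240) (.node (nat_lit 12160) l303 (.node (nat_lit 12200) l304 l305)) (.node (nat_lit 12280) l306 (.node (nat_lit 12320) l307 l308)))
noncomputable def n57 : T := (.node (nat_lit 12440) (.node (nat_lit 12400) l309 l310) (.node (nat_lit 12480) l311 (.node (nat_lit 12520) l312 l313)))
noncomputable def n58 : T := (.node (nat_lit 12680) (.node (nat_lit 12600) l314 (.node (nat_lit 12640) l315 l316)) (.node (nat_lit 12720) l317 (.node (nat_lit 12760) l318 l319)))
noncomputable def n59 : T := (.node (nat_lit 12880) (.node (nat_lit 12840) l320 l321) (.node (nat_lit 12920) l322 (.node (nat_lit 12960) l323 l324)))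
noncomputable def n60 : T := (.node (nat_lit 13120) (.node (nat_lit 13040) l325 (.node (nat_lit 13080) l326 l327)) (.node (nat_lit 13160) l328 (.node (nat_lit 13200) l329 l330)))
noncomputable def n61 : T := (.node (nat_lit 13320) (.node (nat_lit 13280) l331 l332) (.node (nat_lit 13360) l333 (.node (nat_lit 13400) l334 l335)))
noncomputable def n62 : T := (.node (nat_lit 13560) (.node (nat_lit 13480) l336 (.node (nat_lit 13520) l337 l338)) (.node (nat_lit 13600) l339 (.node (nat_lit 13640) l340 l341)))
noncomputable def n63 : T := (.node (nat_lit 13800) (.node (nat_lit 13720) l342 (.node (nat_lit 13760) l343 l344)) (.node (nat_lit 13840) l345 (.node (nat_lit 13880) l346 l347)))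
noncomputable def n64 : T := (.node (nat_lit 14040) (.node (nat_lit 13960) l348 (.node (nat_lit 14000) l349 l350)) (.node (nat_lit 14080) l351 (.node (nat_lit 14120) l352 l353)))
noncomputable def n65 : T := (.node (nat_lit 10600) (.node (nat_lit 8840) (.node (nat_lit 7960) (.node (nat_lit 7520) (.node (nat_lit 7280) n33 n34) (.node (nat_lit 7720) n35 n36)) (.node (nat_lit 8400) (.node (nat_lit 8160) n37 n38) (.node (nat_lit 8600) n39 n40))) (.node (nat_lit 9720) (.node (nat_lit 9280) (.node (nat_lit 9040) n41 n42) (.node (nat_lit 9480) n43 n44)) (.node (nat_lit 10160) (.node (nat_lit 9920) n45 n46) (.node (nat_lit 10360) n47 n48)))) (.node (nat_lit 12360) (.node (nat_lit 11480) (.node (nat_lit 11040) (.node (nat_lit 10800) n49 n50) (.node (nat_lit 11240) n51 n52)) (.node (nat_lit 11920) (.node (nat_lit 11680) n53 n54) (.node (nat_lit 12120) n55 n56))) (.node (nat_lit 13240) (.node (nat_lit 12800) (.node (nat_lit 12560) n57 n58) (.node (nat_lit 13000) n59 n60)) (.node (nat_lit 13680) (.node (nat_lit 13440) n61 n62) (.node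 (nat_lit 13920) n63 n64)))))
noncomputable def n66 : T := (.node (nat_lit 14240) (.node (nat_lit 14200) l354 l355) (.node (nat_lit 14280) l356 (.node (nat_lit 14320) l357 l358)))
noncomputable def n67 : T := (.node (nat_lit 14480) (.node (nat_lit 14400) l359 (.node (nat_lit 14440) l360 l361)) (.node (nat_lit 14520) l362 (.node (nat_lit 14560) l363 l364)))
noncomputable def n68 : T := (.node (nat_lit 14680) (.node (nat_lit 14640) l365 l366) (.node (nat_lit 14720) l367 (.node (nat_lit 14760) l368 l369)))
noncomputable def n69 : T := (.node (nat_lit 14920) (.node (nat_lit 14840) l370 (.node (nat_lit 14880) l371 l372)) (.node (nat_lit 14960) l373 (.node (nat_lit 15000) l374 l375)))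
noncomputable def n70 : T := (.node (nat_lit 15120) (.node (nat_lit 15080) l376 l377) (.node (nat_lit 15160) l378 (.node (nat_lit 15200) l379 l380)))
noncomputable def n71 : T := (.node (nat_lit 15360) (.node (nat_lit 15280) l381 (.node (nat_lit 15320) l382 l383)) (.node (nat_lit 15400) l384 (.node (nat_lit 15440) l385 l386)))
noncomputable def n72 : T := (.node (nat_lit 15560) (.node (nat_lit 15520) l387 l388) (.node (nat_lit 15600) l389 (.node (nat_lit 15640) l390 l391)))
noncomputable def n73 : T := (.node (nat_lit 15800) (.node (nat_lit 15720) l392 (.node (nat_lit 15760) l393 l394)) (.node (nat_lit 15840) l395 (.node (nat_lit 15880) l396 l397)))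
noncomputable def n74 : T := (.node (nat_lit 16000) (.node (nat_lit 15960) l398 l399) (.node (nat_lit 16040) l400 (.node (nat_lit 16080) l401 l402)))
noncomputable def n75 : T := (.node (nat_lit 16240) (.node (nat_lit 16160) l403 (.node (nat_lit 16200) l404 l405)) (.node (nat_lit 16280) l406 (.node (nat_lit 16320) l407 l408)))
noncomputable def n76 : T := (.node (nat_lit 16440) (.node (nat_lit 16400) l409 l410) (.node (nat_lit 16480) l411 (.node (nat_lit 16520) l412 l413)))
noncomputable def n77 : T := (.node (nat_lit 16680) (.node (nat_lit 16600) l414 (.node (nat_lit 16640) l415 l416)) (.node (nat_lit 16720) l417 (.node (nat_lit 16760) l418 l419)))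
noncomputable def n78 : T := (.node (nat_lit 16880) (.node (nat_lit 16840) l420 l421) (.node (nat_lit 16920) l422 (.node (nat_lit 16960) l423 l424)))
noncomputable def n79 : T := (.node (nat_lit 17120) (.node (nat_lit 17040) l425 (.node (nat_lit 17080) l426 l427)) (.node (nat_lit 17160) l428 (.node (nat_lit 17200) l429 l430)))
noncomputable def n80 : T := (.node (nat_lit 17320) (.node (nat_lit 17280) l431 l432) (.node (nat_lit 17360) l433 (.node (nat_lit 17400) l434 l435)))
noncomputable def n81 : T := (.node (nat_lit 17560) (.node (nat_lit 17480) l436 (.node (nat_lit 17520) l437 l438)) (.node (nat_lit 17600) l439 (.node (nat_lit 17640) l440 l441)))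
noncomputable def n82 : T := (.node (nat_lit 17760) (.node (nat_lit 17720) l442 l443) (.node (nat_lit 17800) l444 (.node (nat_lit 17840) l445 l446)))
noncomputable def n83 : T := (.node (nat_lit 18000) (.node (nat_lit 17920) l447 (.node (nat_lit 17960) l448 l449)) (.node (nat_lit 18040) l450 (.node (nat_lit 18080) l451 l452)))
noncomputable def n84 : T := (.node (nat_lit 18200) (.node (nat_lit 18160) l453 l454) (.node (nat_lit 18240) l455 (.node (nat_lit 18280) l456 l457)))
noncomputable def n85 : T := (.node (nat_lit 18440) (.node (nat_lit 18360) l458 (.node (nat_lit 18400) l459 l460)) (.node (nat_lit 18480) l461 (.node (nat_lit 18520) l462 l463)))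
noncomputable def n86 : T := (.node (nat_lit 18640) (.node (nat_lit 18600) l464 l465) (.node (nat_lit 18680) l466 (.node (nat_lit 18720) l467 l468)))
noncomputable def n87 : T := (.node (nat_lit 18880) (.node (nat_lit 18800) l469 (.node (nat_lit 18840) l470 l471)) (.node (nat_lit 18920) l472 (.node (nat_lit 18960) l473 l474)))
noncomputable def n88 : T := (.node (nat_lit 19080) (.node (nat_lit 19040) l475 l476) (.node (nat_lit 19120) l477 (.node (nat_lit 19160) l478 l479)))
noncomputable def n89 : T := (.node (nat_lit 19320) (.node (nat_lit 19240) l480 (.node (nat_lit 19280) l481 l482)) (.node (nat_lit 19360) l483 (.node (nat_lit 19400) l484 l485)))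
noncomputable def n90 : T := (.node (nat_lit 19520) (.node (nat_lit 19480) l486 l487) (.node (nat_lit 19560) l488 (.node (nat_lit 19600) l489 l490)))
noncomputable def n91 : T := (.node (nat_lit 19760) (.node (nat_lit 19680) l491 (.node (nat_lit 19720) l492 l493)) (.node (nat_lit 19800) l494 (.node (nat_lit 19840) l495 l496)))
noncomputable def n92 : T := (.node (nat_lit 19960) (.node (nat_lit 19920) l497 l498) (.node (nat_lit 20000) l499 (.node (nat_lit 20040) l500 l501)))
noncomputable def n93 : T := (.node (nat_lit 20200) (.node (nat_lit 20120) l502 (.node (nat_lit 20160) l503 l504)) (.node (nat_lit 20240) l505 (.node (nat_lit 20280) l506 l507)))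
noncomputable def n94 : T := (.node (nat_lit 20400) (.node (nat_lit 20360) l508 l509) (.node (nat_lit 20440) l510 (.node (nat_lit 20480) l511 l512)))
noncomputable def n95 : T := (.node (nat_lit 20640) (.node (nat_lit 20560) l513 (.node (nat_lit 20600) l514 l515)) (.node (nat_lit 20680) l516 (.node (nat_lit 20720) l517 l518)))
noncomputable def n96 : T := (.node (nat_lit 20880) (.node (nat_lit 20800) l519 (.node (nat_lit 20840) l520 l521)) (.node (nat_lit 20920) l522 (.node (nat_lit 20960) l523 l524)))
noncomputable def n97 : T := (.node (nat_lit 21120) (.node (nat_lit 21040) l525 (.node (nat_lit 21080) l526 l527)) (.node (nat_lit 21160) l528 (.node (nat_lit 21200) l529 l530)))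
noncomputable def n98 : T := (.node (nat_lit 17680) (.node (nat_lit 15920) (.node (nat_lit 15040) (.node (nat_lit 14600) (.node (nat_lit 14360) n66 n67) (.node (nat_lit 14800) n68 n69)) (.node (nat_lit 15480) (.node (nat_lit 15240) n70 n71) (.node (nat_lit 15680) n72 n73))) (.node (nat_lit 16800) (.node (nat_lit 16360) (.node (nat_lit 16120) n74 n75) (.node (nat_lit 16560) n76 n77)) (.node (nat_lit 17240) (.node (nat_lit 17000) n78 n79) (.node (nat_lit 17440) n80 n81)))) (.node (nat_lit 19440) (.node (nat_lit 18560) (.node (nat_lit 18120) (.node (nat_lit 17880) n82 n83) (.node (nat_lit 18320) n84 n85)) (.node (nat_lit 19000) (.node (nat_lit 18760) n86 n87) (.node (nat_lit 19200) n88 n89))) (.node (nat_lit 20320) (.node (nat_lit 19880) (.node (nat_lit 19640) n90 n91) (.node (nat_lit 20080) n92 n93)) (.node (nat_lit 20760) (.node (nat_lit 20520) n94 n95) (.node (nat_lit 21000) n96 n97)))))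
noncomputable def n99 : T := (.node (nat_lit 21320) (.node (nat_lit 21280) l531 l532) (.node (nat_lit 21360) l533 (.node (nat_lit 21400) l534 l535)))
noncomputable def n100 : T := (.node (nat_lit 21560) (.node (nat_lit 21480) l536 (.node (nat_lit 21520) l537 l538)) (.node (nat_lit 21600) l539 (.node (nat_lit 21640) l540 l541)))
noncomputable def n101 : T := (.node (nat_lit 21760) (.node (nat_lit 21720) l542 l543) (.node (nat_lit 21800) l544 (.node (nat_lit 21840) l545 l546)))
noncomputable def n102 : T := (.node (nat_lit 22000) (.node (nat_lit 21920) l547 (.node (nat_lit 21960) l548 l549)) (.node (nat_lit 22040) l550 (.node (nat_lit 22080) l551 l552)))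
noncomputable def n103 : T := (.node (nat_lit 22200) (.node (nat_lit 22160) l553 l554) (.node (nat_lit 22240) l555 (.node (nat_lit 22280) l556 l557)))
noncomputable def n104 : T := (.node (nat_lit 22440) (.node (nat_lit 22360) l558 (.node (nat_lit 22400) l559 l560)) (.node (nat_lit 22480) l561 (.node (nat_lit 22520) l562 l563)))
noncomputable def n105 : T := (.node (nat_lit 22640) (.node (nat_lit 22600) l564 l565) (.node (nat_lit 22680) l566 (.node (nat_lit 22720) l567 l568)))
noncomputable def n106 : T := (.node (nat_lit 22880) (.node (nat_lit 22800) l569 (.node (nat_lit 22840) l570 l571)) (.node (nat_lit 22920) l572 (.node (nat_lit 22960) l573 l574)))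
noncomputable def n107 : T := (.node (nat_lit 23080) (.node (nat_lit 23040) l575 l576) (.node (nat_lit 23120) l577 (.node (nat_lit 23160) l578 l579)))
noncomputable def n108 : T := (.node (nat_lit 23320) (.node (nat_lit 23240) l580 (.node (nat_lit 23280) l581 l582)) (.node (nat_lit 23360) l583 (.node (nat_lit 23400) l584 l585)))
noncomputable def n109 : T := (.node (nat_lit 23520) (.node (nat_lit 23480) l586 l587) (.node (nat_lit 23560) l588 (.node (nat_lit 23600) l589 l590)))
noncomputable def n110 : T := (.node (nat_lit 23760) (.node (nat_lit 23680) l591 (.node (nat_lit 23720) l592 l593)) (.node (nat_lit 23800) l594 (.node (nat_lit 23840) l595 l596)))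
noncomputable def n111 : T := (.node (nat_lit 23960) (.node (nat_lit 23920) l597 l598) (.node (nat_lit 24000) l599 (.node (nat_lit 24040) l600 l601)))
noncomputable def n112 : T := (.node (nat_lit 24200) (.node (nat_lit 24120) l602 (.node (nat_lit 24160) l603 l604)) (.node (nat_lit 24240) l605 (.node (nat_lit 24280) l606 l607)))
noncomputable def n113 : T := (.node (nat_lit 24400) (.node (nat_lit 24360) l608 l609) (.node (nat_lit 24440) l610 (.node (nat_lit 24480) l611 l612)))
noncomputable def n114 : T := (.node (nat_lit 24640) (.node (nat_lit 24560) l613 (.node (nat_lit 24600) l614 l615)) (.node (nat_lit 24680) l616 (.node (nat_lit 24720) l617 l618)))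
noncomputable def n115 : T := (.node (nat_lit 24840) (.node (nat_lit 24800) l619 l620) (.node (nat_lit 24880) l621 (.node (nat_lit 24920) l622 l623)))
noncomputable def n116 : T := (.node (nat_lit 25080) (.node (nat_lit 25000) l624 (.node (nat_lit 25040) l625 l626)) (.node (nat_lit 25120) l627 (.node (nat_lit 25160) l628 l629)))
noncomputable def n117 : T := (.node (nat_lit 25280) (.node (nat_lit 25240) l630 l631) (.node (nat_lit 25320) l632 (.node (nat_lit 25360) l633 l634)))
noncomputable def n118 : T := (.node (nat_lit 25520) (.node (nat_lit 25440) l635 (.node (nat_lit 25480) l636 l637)) (.node (nat_lit 25560) l638 (.node (nat_lit 25600) l639 l640)))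
noncomputable def n119 : T := (.node (nat_lit 25720) (.node (nat_lit 25680) l641 l642) (.node (nat_lit 25760) l643 (.node (nat_lit 25800) l644 l645)))
noncomputable def n120 : T := (.node (nat_lit 25960) (.node (nat_lit 25880) l646 (.node (nat_lit 25920) l647 l648)) (.node (nat_lit 26000) l649 (.node (nat_lit 26040) l650 l651)))
noncomputable def n121 : T := (.node (nat_lit 26160) (.node (nat_lit 26120) l652 l653) (.node (nat_lit 26200) l654 (.node (nat_lit 26240) l655 l656)))
noncomputable def n122 : T := (.node (nat_lit 26400) (.node (nat_lit 26320) l657 (.node (nat_lit 26360) l658 l659)) (.node (nat_lit 26440) l660 (.node (nat_lit 26480) l661 l662)))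
noncomputable def n123 : T := (.node (nat_lit 26600) (.node (nat_lit 26560) l663 l664) (.node (nat_lit 26640) l665 (.node (nat_lit 26680) l666 l667)))
noncomputable def n124 : T := (.node (nat_lit 26840) (.node (nat_lit 26760) l668 (.node (nat_lit 26800) l669 l670)) (.node (nat_lit 26880) l671 (.node (nat_lit 26920) l672 l673)))
noncomputable def n125 : T := (.node (nat_lit 27040) (.node (nat_lit 27000) l674 l675) (.node (nat_lit 27080) l676 (.node (nat_lit 27120) l677 l678)))
noncomputable def n126 : T := (.node (nat_lit 27280) (.node (nat_lit 27200) l679 (.node (nat_lit 27240) l680 l681)) (.node (nat_lit 27320) l682 (.node (nat_lit 27360) l683 l684)))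
noncomputable def n127 : T := (.node (nat_lit 27480) (.node (nat_lit 27440) l685 l686) (.node (nat_lit 27520) l687 (.node (nat_lit 27560) l688 l689)))
noncomputable def n128 : T := (.node (nat_lit 27720) (.node (nat_lit 27640) l690 (.node (nat_lit 27680) l691 l692)) (.node (nat_lit 27760) l693 (.node (nat_lit 27800) l694 l695)))
noncomputable def n129 : T := (.node (nat_lit 27960) (.node (nat_lit 27880) l696 (.node (nat_lit 27920) l697 l698)) (.node (nat_lit 28000) l699 (.node (nat_lit 28040) l700 l701)))
noncomputable def n130 : T := (.node (nat_lit 28200) (.node (nat_lit 28120) l702 (.node (nat_lit 28160) l703 l704)) (.node (nat_lit 28240) l705 (.node (nat_lit 28280) l706 l707)))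
noncomputable def n131 : T := (.node (nat_lit 24760) (.node (nat_lit 23000) (.node (nat_lit 22120) (.node (nat_lit 21680) (.node (nat_lit 21440) n99 n100) (.node (nat_lit 21880) n101 n102)) (.node (nat_lit 22560) (.node (nat_lit 22320) n103 n104) (.node (nat_lit 22760) n105 n106))) (.node (nat_lit 23880) (.node (nat_lit 23440) (.node (nat_lit 23200) n107 n108) (.node (nat_lit 23640) n109 n110)) (.node (nat_lit 24320) (.node (nat_lit 24080) n111 n112) (.node (nat_lit 24520) n113 n114)))) (.node (nat_lit 26520) (.node (nat_lit 25640) (.node (nat_lit 25200) (.node (nat_lit 24960) n115 n116) (.node (nat_lit 25400) n117 n118)) (.node (nat_lit 26080) (.node (nat_lit 25840) n119 n120) (.node (nat_lit 26280) n121 n122))) (.node (nat_lit 27400) (.node (nat_lit 26960) (.node (nat_lit 26720) n123 n124) (.node (nat_lit 27160) n125 n126)) (.node (nat_lit 27840) (.node (nat_lit 27600) n127 n128) (.node (nat_lit 28080) n129 n130)))))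
noncomputable def n132 : T := (.node (nat_lit 28400) (.node (nat_lit 28360) l708 l709) (.node (nat_lit 28440) l710 (.node (nat_lit 28480) l711 l712)))
noncomputable def n133 : T := (.node (nat_lit 28640) (.node (nat_lit 28560) l713 (.node (nat_lit 28600) l714 l715)) (.node (nat_lit 28680) l716 (.node (nat_lit 28720) l717 l718)))
noncomputable def n134 : T := (.node (nat_lit 28840) (.node (nat_lit 28800) l719 l720) (.node (nat_lit 28880) l721 (.node (nat_lit 28920) l722 l723)))
noncomputable def n135 : T := (.node (nat_lit 29080) (.node (nat_lit 29000) l724 (.node (nat_lit 29040) l725 l726)) (.node (nat_lit 29120) l727 (.node (nat_lit 29160) l728 l729)))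
noncomputable def n136 : T := (.node (nat_lit 29280) (.node (nat_lit 29240) l730 l731) (.node (nat_lit 29320) l732 (.node (nat_lit 29360) l733 l734)))
noncomputable def n137 : T := (.node (nat_lit 29520) (.node (nat_lit 29440) l735 (.node (nat_lit 29480) l736 l737)) (.node (nat_lit 29560) l738 (.node (nat_lit 29600) l739 l740)))
noncomputable def n138 : T := (.node (nat_lit 29720) (.node (nat_lit 29680) l741 l742) (.node (nat_lit 29760) l743 (.node (nat_lit 29800) l744 l745)))
noncomputable def n139 : T := (.node (nat_lit 29960) (.node (nat_lit 29880) l746 (.node (nat_lit 29920) l747 l748)) (.node (nat_lit 30000) l749 (.node (nat_lit 30040) l750 l751)))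
noncomputable def n140 : T := (.node (nat_lit 30160) (.node (nat_lit 30120) l752 l753) (.node (nat_lit 30200) l754 (.node (nat_lit 30240) l755 l756)))
noncomputable def n141 : T := (.node (nat_lit 30400) (.node (nat_lit 30320) l757 (.node (nat_lit 30360) l758 l759)) (.node (nat_lit 30440) l760 (.node (nat_lit 30480) l761 l762)))
noncomputable def n142 : T := (.node (nat_lit 30600) (.node (nat_lit 30560) l763 l764) (.node (nat_lit 30640) l765 (.node (nat_lit 30680) l766 l767)))
noncomputable def n143 : T := (.node (nat_lit 30840) (.node (nat_lit 30760) l768 (.node (nat_lit 30800) l769 l770)) (.node (nat_lit 30880) l771 (.node (nat_lit 30920) l772 l773)))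
noncomputable def n144 : T := (.node (nat_lit 31040) (.node (nat_lit 31000) l774 l775) (.node (nat_lit 31080) l776 (.node (nat_lit 31120) l777 l778)))
noncomputable def n145 : T := (.node (nat_lit 31280) (.node (nat_lit 31200) l779 (.node (nat_lit 31240) l780 l781)) (.node (nat_lit 31320) l782 (.node (nat_lit 31360) l783 l784)))
noncomputable def n146 : T := (.node (nat_lit 31480) (.node (nat_lit 31440) l785 l786) (.node (nat_lit 31520) l787 (.node (nat_lit 31560) l788 l789)))
noncomputable def n147 : T := (.node (nat_lit 31720) (.node (nat_lit 31640) l790 (.node (nat_lit 31680) l791 l792)) (.node (nat_lit 31760) l793 (.node (nat_lit 31800) l794 l795)))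
noncomputable def n148 : T := (.node (nat_lit 31920) (.node (nat_lit 31880) l796 l797) (.node (nat_lit 31960) l798 (.node (nat_lit 32000) l799 l800)))
noncomputable def n149 : T := (.node (nat_lit 32160) (.node (nat_lit 32080) l801 (.node (nat_lit 32120) l802 l803)) (.node (nat_lit 32200) l804 (.node (nat_lit 32240) l805 l806)))
noncomputable def n150 : T := (.node (nat_lit 32360) (.node (nat_lit 32320) l807 l808) (.node (nat_lit 32400) l809 (.node (nat_lit 32440) l810 l811)))
noncomputable def n151 : T := (.node (nat_lit 32600) (.node (nat_lit 32520) l812 (.node (nat_lit 32560) l813 l814)) (.node (nat_lit 32640) l815 (.node (nat_lit 32680) l816 l817)))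
noncomputable def n152 : T := (.node (nat_lit 32800) (.node (nat_lit 32760) l818 l819) (.node (nat_lit 32840) l820 (.node (nat_lit 32880) l821 l822)))
noncomputable def n153 : T := (.node (nat_lit 33040) (.node (nat_lit 32960) l823 (.node (nat_lit 33000) l824 l825)) (.node (nat_lit 33080) l826 (.node (nat_lit 33120) l827 l828)))
noncomputable def n154 : T := (.node (nat_lit 33240) (.node (nat_lit 33200) l829 l830) (.node (nat_lit 33280) l831 (.node (nat_lit 33320) l832 l833)))
noncomputable def n155 : T := (.node (nat_lit 33480) (.node (nat_lit 33400) l834 (.node (nat_lit 33440) l835 l836)) (.node (nat_lit 33520) l837 (.node (nat_lit 33560) l838 l839)))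
noncomputable def n156 : T := (.node (nat_lit 33680) (.node (nat_lit 33640) l840 l841) (.node (nat_lit 33720) l842 (.node (nat_lit 33760) l843 l844)))
noncomputable def n157 : T := (.node (nat_lit 33920) (.node (nat_lit 33840) l845 (.node (nat_lit 33880) l846 l847)) (.node (nat_lit 33960) l848 (.node (nat_lit 34000) l849 l850)))
noncomputable def n158 : T := (.node (nat_lit 34120) (.node (nat_lit 34080) l851 l852) (.node (nat_lit 34160) l853 (.node (nat_lit 34200) l854 l855)))
noncomputable def n159 : T := (.node (nat_lit 34360) (.node (nat_lit 34280) l856 (.node (nat_lit 34320) l857 l858)) (.node (nat_lit 34400) l859 (.node (nat_lit 34440) l860 l861)))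
noncomputable def n160 : T := (.node (nat_lit 34560) (.node (nat_lit 34520) l862 l863) (.node (nat_lit 34600) l864 (.node (nat_lit 34640) l865 l866)))
noncomputable def n161 : T := (.node (nat_lit 34800) (.node (nat_lit 34720) l867 (.node (nat_lit 34760) l868 l869)) (.node (nat_lit 34840) l870 (.node (nat_lit 34880) l871 l872)))
noncomputable def n162 : T := (.node (nat_lit 35040) (.node (nat_lit 34960) l873 (.node (nat_lit 35000) l874 l875)) (.node (nat_lit 35080) l876 (.node (nat_lit 35120) l877 l878)))
noncomputable def n163 : T := (.node (nat_lit 35280) (.node (nat_lit 35200) l879 (.node (nat_lit 35240) l880 l881)) (.node (nat_lit 35320) l882 (.node (nat_lit 35360) l883 l884)))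
noncomputable def n164 : T := (.node (nat_lit 31840) (.node (nat_lit 30080) (.node (nat_lit 29200) (.node (nat_lit 28760) (.node (nat_lit 28520) n132 n133) (.node (nat_lit 28960) n134 n135)) (.node (nat_lit 29640) (.node (nat_lit 29400) n136 n137) (.node (nat_lit 29840) n138 n139))) (.node (nat_lit 30960) (.node (nat_lit 30520) (.node (nat_lit 30280) n140 n141) (.node (nat_lit 30720) n142 n143)) (.node (nat_lit 31400) (.node (nat_lit 31160) n144 n145) (.node (nat_lit 31600) n146 n147)))) (.node (nat_lit 33600) (.node (nat_lit 32720) (.node (nat_lit 32280) (.node (nat_lit 32040) n148 n149) (.node (nat_lit 32480) n150 n151)) (.node (nat_lit 33160) (.node (nat_lit 32920) n152 n153) (.node (nat_lit 33360) n154 n155))) (.node (nat_lit 34480) (.node (nat_lit 34040) (.node (nat_lit 33800) n156 n157) (.node (nat_lit 34240) n158 n159)) (.node (nat_lit 34920) (.node (nat_lit 34680) n160 n161) (.node (nat_lit 35160) n162 n163)))))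
noncomputable def n165 : T := (.node (nat_lit 35480) (.node (nat_lit 35440) l885 l886) (.node (nat_lit 35520) l887 (.node (nat_lit 35560) l888 l889)))
noncomputable def n166 : T := (.node (nat_lit 35720) (.node (nat_lit 35640) l890 (.node (nat_lit 35680) l891 l892)) (.node (nat_lit 35760) l893 (.node (nat_lit 35800) l894 l895)))
noncomputable def n167 : T := (.node (nat_lit 35920) (.node (nat_lit 35880) l896 l897) (.node (nat_lit 35960) l898 (.node (nat_lit 36000) l899 l900)))
noncomputable def n168 : T := (.node (nat_lit 36160) (.node (nat_lit 36080) l901 (.node (nat_lit 36120) l902 l903)) (.node (nat_lit 36200) l904 (.node (nat_lit 36240) l905 l906)))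
noncomputable def n169 : T := (.node (nat_lit 36360) (.node (nat_lit 36320) l907 l908) (.node (nat_lit 36400) l909 (.node (nat_lit 36440) l910 l911)))
noncomputable def n170 : T := (.node (nat_lit 36600) (.node (nat_lit 36520) l912 (.node (nat_lit 36560) l913 l914)) (.node (nat_lit 36640) l915 (.node (nat_lit 36680) l916 l917)))
noncomputable def n171 : T := (.node (nat_lit 36800) (.node (nat_lit 36760) l918 l919) (.node (nat_lit 36840) l920 (.node (nat_lit 36880) l921 l922)))
noncomputable def n172 : T := (.node (nat_lit 37040) (.node (nat_lit 36960) l923 (.node (nat_lit 37000) l924 l925)) (.node (nat_lit 37080) l926 (.node (nat_lit 37120) l927 l928)))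
noncomputable def n173 : T := (.node (nat_lit 37240) (.node (nat_lit 37200) l929 l930) (.node (nat_lit 37280) l931 (.node (nat_lit 37320) l932 l933)))
noncomputable def n174 : T := (.node (nat_lit 37480) (.node (nat_lit 37400) l934 (.node (nat_lit 37440) l935 l936)) (.node (nat_lit 37520) l937 (.node (nat_lit 37560) l938 l939)))
noncomputable def n175 : T := (.node (nat_lit 37680) (.node (nat_lit 37640) l940 l941) (.node (nat_lit 37720) l942 (.node (nat_lit 37760) l943 l944)))
noncomputable def n176 : T := (.node (nat_lit 37920) (.node (nat_lit 37840) l945 (.node (nat_lit 37880) l946 l947)) (.node (nat_lit 37960) l948 (.node (nat_lit 38000) l949 l950)))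
noncomputable def n177 : T := (.node (nat_lit 38120) (.node (nat_lit 38080) l951 l952) (.node (nat_lit 38160) l953 (.node (nat_lit 38200) l954 l955)))
noncomputable def n178 : T := (.node (nat_lit 38360) (.node (nat_lit 38280) l956 (.node (nat_lit 38320) l957 l958)) (.node (nat_lit 38400) l959 (.node (nat_lit 38440) l960 l961)))
noncomputable def n179 : T := (.node (nat_lit 38560) (.node (nat_lit 38520) l962 l963) (.node (nat_lit 38600) l964 (.node (nat_lit 38640) l965 l966)))
noncomputable def n180 : T := (.node (nat_lit 38800) (.node (nat_lit 38720) l967 (.node (nat_lit 38760) l968 l969)) (.node (nat_lit 38840) l970 (.node (nat_lit 38880) l971 l972)))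
noncomputable def n181 : T := (.node (nat_lit 39000) (.node (nat_lit 38960) l973 l974) (.node (nat_lit 39040) l975 (.node (nat_lit 39080) l976 l977)))
noncomputable def n182 : T := (.node (nat_lit 39240) (.node (nat_lit 39160) l978 (.node (nat_lit 39200) l979 l980)) (.node (nat_lit 39280) l981 (.node (nat_lit 39320) l982 l983)))
noncomputable def n183 : T := (.node (nat_lit 39440) (.node (nat_lit 39400) l984 l985) (.node (nat_lit 39480) l986 (.node (nat_lit 39520) l987 l988)))
noncomputable def n184 : T := (.node (nat_lit 39680) (.node (nat_lit 39600) l989 (.node (nat_lit 39640) l990 l991)) (.node (nat_lit 39720) l992 (.node (nat_lit 39760) l993 l994)))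
noncomputable def n185 : T := (.node (nat_lit 39880) (.node (nat_lit 39840) l995 l996) (.node (nat_lit 39920) l997 (.node (nat_lit 39960) l998 l999)))
noncomputable def n186 : T := (.node (nat_lit 40120) (.node (nat_lit 40040) l1000 (.node (nat_lit 40080) l1001 l1002)) (.node (nat_lit 40160) l1003 (.node (nat_lit 40200) l1004 l1005)))
noncomputable def n187 : T := (.node (nat_lit 40320) (.node (nat_lit 40280) l1006 l1007) (.node (nat_lit 40360) l1008 (.node (nat_lit 40400) l1009 l1010)))
noncomputable def n188 : T := (.node (nat_lit 40560) (.node (nat_lit 40480) l1011 (.node (nat_lit 40520) l1012 l1013)) (.node (nat_lit 40600) l1014 (.node (nat_lit 40640) l1015 l1016)))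
noncomputable def n189 : T := (.node (nat_lit 40760) (.node (nat_lit 40720) l1017 l1018) (.node (nat_lit 40800) l1019 (.node (nat_lit 40840) l1020 l1021)))
noncomputable def n190 : T := (.node (nat_lit 41000) (.node (nat_lit 40920) l1022 (.node (nat_lit 40960) l1023 l1024)) (.node (nat_lit 41040) l1025 (.node (nat_lit 41080) l1026 l1027)))
noncomputable def n191 : T := (.node (nat_lit 41200) (.node (nat_lit 41160) l1028 l1029) (.node (nat_lit 41240) l1030 (.node (nat_lit 41280) l1031 l1032)))
noncomputable def n192 : T := (.node (nat_lit 41440) (.node (nat_lit 41360) l1033 (.node (nat_lit 41400) l1034 l1035)) (.node (nat_lit 41480) l1036 (.node (nat_lit 41520) l1037 l1038)))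
noncomputable def n193 : T := (.node (nat_lit 41640) (.node (nat_lit 41600) l1039 l1040) (.node (nat_lit 41680) l1041 (.node (nat_lit 41720) l1042 l1043)))
noncomputable def n194 : T := (.node (nat_lit 41880) (.node (nat_lit 41800) l1044 (.node (nat_lit 41840) l1045 l1046)) (.node (nat_lit 41920) l1047 (.node (nat_lit 41960) l1048 l1049)))
noncomputable def n195 : T := (.node (nat_lit 42120) (.node (nat_lit 42040) l1050 (.node (nat_lit 42080) l1051 l1052)) (.node (nat_lit 42160) l1053 (.node (nat_lit 42200) l1054 l1055)))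
noncomputable def n196 : T := (.node (nat_lit 42360) (.node (nat_lit 42280) l1056 (.node (nat_lit 42320) l1057 l1058)) (.node (nat_lit 42400) l1059 (.node (nat_lit 42440) l1060 l1061)))
noncomputable def n197 : T := (.node (nat_lit 38920) (.node (nat_lit 37160) (.node (nat_lit 36280) (.node (nat_lit 35840) (.node (nat_lit 35600) n165 n166) (.node (nat_lit 36040) n167 n168)) (.node (nat_lit 36720) (.node (nat_lit 36480) n169 n170) (.node (nat_lit 36920) n171 n172))) (.node (nat_lit 38040) (.node (nat_lit 37600) (.node (nat_lit 37360) n173 n174) (.node (nat_lit 37800) n175 n176)) (.node (nat_lit 38480) (.node (nat_lit 38240) n177 n178) (.node (nat_lit 38680) n179 n180)))) (.node (nat_lit 40680) (.node (nat_lit 39800) (.node (nat_lit 39360) (.node (nat_lit 39120) n181 n182) (.node (nat_lit 39560) n183 n184)) (.node (nat_lit 40240) (.node (nat_lit 40000) n185 n186) (.node (nat_lit 40440) n187 n188))) (.node (nat_lit 41560) (.node (nat_lit 41120) (.node (nat_lit 40880) n189 n190) (.node (nat_lit 41320) n191 n192)) (.node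 (nat_lit 42000) (.node (nat_lit 41760) n193 n194) (.node (nat_lit 42240) n195 n196)))))
noncomputable def n198 : T := (.node (nat_lit 42560) (.node (nat_lit 42520) l1062 l1063) (.node (nat_lit 42600) l1064 (.node (nat_lit 42640) l1065 l1066)))
noncomputable def n199 : T := (.node (nat_lit 42800) (.node (nat_lit 42720) l1067 (.node (nat_lit 42760) l1068 l1069)) (.node (nat_lit 42840) l1070 (.node (nat_lit 42880) l1071 l1072)))
noncomputable def n200 : T := (.node (nat_lit 43000) (.node (nat_lit 42960) l1073 l1074) (.node (nat_lit 43040) l1075 (.node (nat_lit 43080) l1076 l1077)))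
noncomputable def n201 : T := (.node (nat_lit 43240) (.node (nat_lit 43160) l1078 (.node (nat_lit 43200) l1079 l1080)) (.node (nat_lit 43280) l1081 (.node (nat_lit 43320) l1082 l1083)))
noncomputable def n202 : T := (.node (nat_lit 43440) (.node (nat_lit 43400) l1084 l1085) (.node (nat_lit 43480) l1086 (.node (nat_lit 43520) l1087 l1088)))
noncomputable def n203 : T := (.node (nat_lit 43680) (.node (nat_lit 43600) l1089 (.node (nat_lit 43640) l1090 l1091)) (.node (nat_lit 43720) l1092 (.node (nat_lit 43760) l1093 l1094)))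
noncomputable def n204 : T := (.node (nat_lit 43880) (.node (nat_lit 43840) l1095 l1096) (.node (nat_lit 43920) l1097 (.node (nat_lit 43960) l1098 l1099)))
noncomputable def n205 : T := (.node (nat_lit 44120) (.node (nat_lit 44040) l1100 (.node (nat_lit 44080) l1101 l1102)) (.node (nat_lit 44160) l1103 (.node (nat_lit 44200) l1104 l1105)))
noncomputable def n206 : T := (.node (nat_lit 44320) (.node (nat_lit 44280) l1106 l1107) (.node (nat_lit 44360) l1108 (.node (nat_lit 44400) l1109 l1110)))
noncomputable def n207 : T := (.node (nat_lit 44560) (.node (nat_lit 44480) l1111 (.node (nat_lit 44520) l1112 l1113)) (.node (nat_lit 44600) l1114 (.node (nat_lit 44640) l1115 l1116)))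
noncomputable def n208 : T := (.node (nat_lit 44760) (.node (nat_lit 44720) l1117 l1118) (.node (nat_lit 44800) l1119 (.node (nat_lit 44840) l1120 l1121)))
noncomputable def n209 : T := (.node (nat_lit 45000) (.node (nat_lit 44920) l1122 (.node (nat_lit 44960) l1123 l1124)) (.node (nat_lit 45040) l1125 (.node (nat_lit 45080) l1126 l1127)))
noncomputable def n210 : T := (.node (nat_lit 45200) (.node (nat_lit 45160) l1128 l1129) (.node (nat_lit 45240) l1130 (.node (nat_lit 45280) l1131 l1132)))
noncomputable def n211 : T := (.node (nat_lit 45440) (.node (nat_lit 45360) l1133 (.node (nat_lit 45400) l1134 l1135)) (.node (nat_lit 45480) l1136 (.node (nat_lit 45520) l1137 l1138)))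
noncomputable def n212 : T := (.node (nat_lit 45640) (.node (nat_lit 45600) l1139 l1140) (.node (nat_lit 45680) l1141 (.node (nat_lit 45720) l1142 l1143)))
noncomputable def n213 : T := (.node (nat_lit 45880) (.node (nat_lit 45800) l1144 (.node (nat_lit 45840) l1145 l1146)) (.node (nat_lit 45920) l1147 (.node (nat_lit 45960) l1148 l1149)))
noncomputable def n214 : T := (.node (nat_lit 46080) (.node (nat_lit 46040) l1150 l1151) (.node (nat_lit 46120) l1152 (.node (nat_lit 46160) l1153 l1154)))
noncomputable def n215 : T := (.node (nat_lit 46320) (.node (nat_lit 46240) l1155 (.node (nat_lit 46280) l1156 l1157)) (.node (nat_lit 46360) l1158 (.node (nat_lit 46400) l1159 l1160)))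
noncomputable def n216 : T := (.node (nat_lit 46520) (.node (nat_lit 46480) l1161 l1162) (.node (nat_lit 46560) l1163 (.node (nat_lit 46600) l1164 l1165)))
noncomputable def n217 : T := (.node (nat_lit 46760) (.node (nat_lit 46680) l1166 (.node (nat_lit 46720) l1167 l1168)) (.node (nat_lit 46800) l1169 (.node (nat_lit 46840) l1170 l1171)))
noncomputable def n218 : T := (.node (nat_lit 46960) (.node (nat_lit 46920) l1172 l1173) (.node (nat_lit 47000) l1174 (.node (nat_lit 47040) l1175 l1176)))
noncomputable def n219 : T := (.node (nat_lit 47200) (.node (nat_lit 47120) l1177 (.node (nat_lit 47160) l1178 l1179)) (.node (nat_lit 47240) l1180 (.node (nat_lit 47280) l1181 l1182)))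
noncomputable def n220 : T := (.node (nat_lit 47400) (.node (nat_lit 47360) l1183 l1184) (.node (nat_lit 47440) l1185 (.node (nat_lit 47480) l1186 l1187)))
noncomputable def n221 : T := (.node (nat_lit 47640) (.node (nat_lit 47560) l1188 (.node (nat_lit 47600) l1189 l1190)) (.node (nat_lit 47680) l1191 (.node (nat_lit 47720) l1192 l1193)))
noncomputable def n222 : T := (.node (nat_lit 47840) (.node (nat_lit 47800) l1194 l1195) (.node (nat_lit 47880) l1196 (.node (nat_lit 47920) l1197 l1198)))
noncomputable def n223 : T := (.node (nat_lit 48080) (.node (nat_lit 48000) l1199 (.node (nat_lit 48040) l1200 l1201)) (.node (nat_lit 48120) l1202 (.node (nat_lit 48160) l1203 l1204)))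
noncomputable def n224 : T := (.node (nat_lit 48280) (.node (nat_lit 48240) l1205 l1206) (.node (nat_lit 48320) l1207 (.node (nat_lit 48360) l1208 l1209)))
noncomputable def n225 : T := (.node (nat_lit 48520) (.node (nat_lit 48440) l1210 (.node (nat_lit 48480) l1211 l1212)) (.node (nat_lit 48560) l1213 (.node (nat_lit 48600) l1214 l1215)))
noncomputable def n226 : T := (.node (nat_lit 48720) (.node (nat_lit 48680) l1216 l1217) (.node (nat_lit 48760) l1218 (.node (nat_lit 48800) l1219 l1220)))
noncomputable def n227 : T := (.node (nat_lit 48960) (.node (nat_lit 48880) l1221 (.node (nat_lit 48920) l1222 l1223)) (.node (nat_lit 49000) l1224 (.node (nat_lit 49040) l1225 l1226)))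
noncomputable def n228 : T := (.node (nat_lit 49200) (.node (nat_lit 49120) l1227 (.node (nat_lit 49160) l1228 l1229)) (.node (nat_lit 49240) l1230 (.node (nat_lit 49280) l1231 l1232)))
noncomputable def n229 : T := (.node (nat_lit 49440) (.node (nat_lit 49360) l1233 (.node (nat_lit 49400) l1234 l1235)) (.node (nat_lit 49480) l1236 (.node (nat_lit 49520) l1237 l1238)))
noncomputable def n230 : T := (.node (nat_lit 46000) (.node (nat_lit 44240) (.node (nat_lit 43360) (.node (nat_lit 42920) (.node (nat_lit 42680) n198 n199) (.node (nat_lit 43120) n200 n201)) (.node (nat_lit 43800) (.node (nat_lit 43560) n202 n203) (.node (nat_lit 44000) n204 n205))) (.node (nat_lit 45120) (.node (nat_lit 44680) (.node (nat_lit 44440) n206 n207) (.node (nat_lit 44880) n208 n209)) (.node (nat_lit 45560) (.node (nat_lit 45320) n210 n211) (.node (nat_lit 45760) n212 n213)))) (.node (nat_lit 47760) (.node (nat_lit 46880) (.node (nat_lit 46440) (.node (nat_lit 46200) n214 n215) (.node (nat_lit 46640) n216 n217)) (.node (nat_lit 47320) (.node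 (nat_lit 47080) n218 n219) (.node (nat_lit 47520) n220 n221))) (.node (nat_lit 48640) (.node (nat_lit 48200) (.node (nat_lit 47960) n222 n223) (.node (nat_lit 48400) n224 n225)) (.node (nat_lit 49080) (.node (nat_lit 48840) n226 n227) (.node (nat_lit 49320) n228 n229)))))
noncomputable def n231 : T := (.node (nat_lit 49640) (.node (nat_lit 49600) l1239 l1240) (.node (nat_lit 49680) l1241 (.node (nat_lit 49720) l1242 l1243)))
noncomputable def n232 : T := (.node (nat_lit 49880) (.node (nat_lit 49800) l1244 (.node (nat_lit 49840) l1245 l1246)) (.node (nat_lit 49920) l1247 (.node (nat_lit 49960) l1248 l1249)))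
noncomputable def n233 : T := (.node (nat_lit 50080) (.node (nat_lit 50040) l1250 l1251) (.node (nat_lit 50120) l1252 (.node (nat_lit 50160) l1253 l1254)))
noncomputable def n234 : T := (.node (nat_lit 50320) (.node (nat_lit 50240) l1255 (.node (nat_lit 50280) l1256 l1257)) (.node (nat_lit 50360) l1258 (.node (nat_lit 50400) l1259 l1260)))
noncomputable def n235 : T := (.node (nat_lit 50520) (.node (nat_lit 50480) l1261 l1262) (.node (nat_lit 50560) l1263 (.node (nat_lit 50600) l1264 l1265)))
noncomputable def n236 : T := (.node (nat_lit 50760) (.node (nat_lit 50680) l1266 (.node (nat_lit 50720) l1267 l1268)) (.node (nat_lit 50800) l1269 (.node (nat_lit 50840) l1270 l1271)))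
noncomputable def n237 : T := (.node (nat_lit 50960) (.node (nat_lit 50920) l1272 l1273) (.node (nat_lit 51000) l1274 (.node (nat_lit 51040) l1275 l1276)))
noncomputable def n238 : T := (.node (nat_lit 51200) (.node (nat_lit 51120) l1277 (.node (nat_lit 51160) l1278 l1279)) (.node (nat_lit 51240) l1280 (.node (nat_lit 51280) l1281 l1282)))
noncomputable def n239 : T := (.node (nat_lit 51400) (.node (nat_lit 51360) l1283 l1284) (.node (nat_lit 51440) l1285 (.node (nat_lit 51480) l1286 l1287)))
noncomputable def n240 : T := (.node (nat_lit 51640) (.node (nat_lit 51560) l1288 (.node (nat_lit 51600) l1289 l1290)) (.node (nat_lit 51680) l1291 (.node (nat_lit 51720) l1292 l1293)))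
noncomputable def n241 : T := (.node (nat_lit 51840) (.node (nat_lit 51800) l1294 l1295) (.node (nat_lit 51880) l1296 (.node (nat_lit 51920) l1297 l1298)))
noncomputable def n242 : T := (.node (nat_lit 52080) (.node (nat_lit 52000) l1299 (.node (nat_lit 52040) l1300 l1301)) (.node (nat_lit 52120) l1302 (.node (nat_lit 52160) l1303 l1304)))
noncomputable def n243 : T := (.node (nat_lit 52280) (.node (nat_lit 52240) l1305 l1306) (.node (nat_lit 52320) l1307 (.node (nat_lit 52360) l1308 l1309)))
noncomputable def n244 : T := (.node (nat_lit 52520) (.node (nat_lit 52440) l1310 (.node (nat_lit 52480) l1311 l1312)) (.node (nat_lit 52560) l1313 (.node (nat_lit 52600) l1314 l1315)))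
noncomputable def n245 : T := (.node (nat_lit 52760) (.node (nat_lit 52680) l1316 (.node (nat_lit 52720) l1317 l1318)) (.node (nat_lit 52800) l1319 (.node (nat_lit 52840) l1320 l1321)))
noncomputable def n246 : T := (.node (nat_lit 53000) (.node (nat_lit 52920) l1322 (.node (nat_lit 52960) l1323 l1324)) (.node (nat_lit 53040) l1325 (.node (nat_lit 53080) l1326 l1327)))
noncomputable def n247 : T := (.node (nat_lit 53200) (.node (nat_lit 53160) l1328 l1329) (.node (nat_lit 53240) l1330 (.node (nat_lit 53280) l1331 l1332)))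
noncomputable def n248 : T := (.node (nat_lit 53440) (.node (nat_lit 53360) l1333 (.node (nat_lit 53400) l1334 l1335)) (.node (nat_lit 53480) l1336 (.node (nat_lit 53520) l1337 l1338)))
noncomputable def n249 : T := (.node (nat_lit 53640) (.node (nat_lit 53600) l1339 l1340) (.node (nat_lit 53680) l1341 (.node (nat_lit 53720) l1342 l1343)))
noncomputable def n250 : T := (.node (nat_lit 53880) (.node (nat_lit 53800) l1344 (.node (nat_lit 53840) l1345 l1346)) (.node (nat_lit 53920) l1347 (.node (nat_lit 53960) l1348 l1349)))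
noncomputable def n251 : T := (.node (nat_lit 54080) (.node (nat_lit 54040) l1350 l1351) (.node (nat_lit 54120) l1352 (.node (nat_lit 54160) l1353 l1354)))
noncomputable def n252 : T := (.node (nat_lit 54320) (.node (nat_lit 54240) l1355 (.node (nat_lit 54280) l1356 l1357)) (.node (nat_lit 54360) l1358 (.node (nat_lit 54400) l1359 l1360)))
noncomputable def n253 : T := (.node (nat_lit 54520) (.node (nat_lit 54480) l1361 l1362) (.node (nat_lit 54560) l1363 (.node (nat_lit 54600) l1364 l1365)))
noncomputable def n254 : T := (.node (nat_lit 54760) (.node (nat_lit 54680) l1366 (.node (nat_lit 54720) l1367 l1368)) (.node (nat_lit 54800) l1369 (.node (nat_lit 54840) l1370 l1371)))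
noncomputable def n255 : T := (.node (nat_lit 54960) (.node (nat_lit 54920) l1372 l1373) (.node (nat_lit 55000) l1374 (.node (nat_lit 55040) l1375 l1376)))
noncomputable def n256 : T := (.node (nat_lit 55200) (.node (nat_lit 55120) l1377 (.node (nat_lit 55160) l1378 l1379)) (.node (nat_lit 55240) l1380 (.node (nat_lit 55280) l1381 l1382)))
noncomputable def n257 : T := (.node (nat_lit 55400) (.node (nat_lit 55360) l1383 l1384) (.node (nat_lit 55440) l1385 (.node (nat_lit 55480) l1386 l1387)))
noncomputable def n258 : T := (.node (nat_lit 55640) (.node (nat_lit 55560) l1388 (.node (nat_lit 55600) l1389 l1390)) (.node (nat_lit 55680) l1391 (.node (nat_lit 55720) l1392 l1393)))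
noncomputable def n259 : T := (.node (nat_lit 55840) (.node (nat_lit 55800) l1394 l1395) (.node (nat_lit 55880) l1396 (.node (nat_lit 55920) l1397 l1398)))
noncomputable def n260 : T := (.node (nat_lit 56080) (.node (nat_lit 56000) l1399 (.node (nat_lit 56040) l1400 l1401)) (.node (nat_lit 56120) l1402 (.node (nat_lit 56160) l1403 l1404)))
noncomputable def n261 : T := (.node (nat_lit 56320) (.node (nat_lit 56240) l1405 (.node (nat_lit 56280) l1406 l1407)) (.node (nat_lit 56360) l1408 (.node (nat_lit 56400) l1409 l1410)))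
noncomputable def n262 : T := (.node (nat_lit 56560) (.node (nat_lit 56480) l1411 (.node (nat_lit 56520) l1412 l1413)) (.node (nat_lit 56600) l1414 (.node (nat_lit 56640) l1415 l1416)))
noncomputable def n263 : T := (.node (nat_lit 53120) (.node (nat_lit 51320) (.node (nat_lit 50440) (.node (nat_lit 50000) (.node (nat_lit 49760) n231 n232) (.node (nat_lit 50200) n233 n234)) (.node (nat_lit 50880) (.node (nat_lit 50640) n235 n236) (.node (nat_lit 51080) n237 n238))) (.node (nat_lit 52200) (.node (nat_lit 51760) (.node (nat_lit 51520) n239 n240) (.node (nat_lit 51960) n241 n242)) (.node (nat_lit 52640) (.node (nat_lit 52400) n243 n244) (.node (nat_lit 52880) n245 n246)))) (.node (nat_lit 54880) (.node (nat_lit 54000) (.node (nat_lit 53560) (.node (nat_lit 53320) n247 n248) (.node (nat_lit 53760) n249 n250)) (.node (nat_lit 54440) (.node (nat_lit 54200) n251 n252) (.node (nat_lit 54640) n253 n254))) (.node (nat_lit 55760) (.node (nat_lit 55320) (.node (nat_lit 55080) n255 n256) (.node (nat_lit 55520) n257 n258)) (.node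 (nat_lit 56200) (.node (nat_lit 55960) n259 n260) (.node (nat_lit 56440) n261 n262)))))
noncomputable def n264 : T := (.node (nat_lit 56760) (.node (nat_lit 56720) l1417 l1418) (.node (nat_lit 56800) l1419 (.node (nat_lit 56840) l1420 l1421)))
noncomputable def n265 : T := (.node (nat_lit 57000) (.node (nat_lit 56920) l1422 (.node (nat_lit 56960) l1423 l1424)) (.node (nat_lit 57040) l1425 (.node (nat_lit 57080) l1426 l1427)))
noncomputable def n266 : T := (.node (nat_lit 57200) (.node (nat_lit 57160) l1428 l1429) (.node (nat_lit 57240) l1430 (.node (nat_lit 57280) l1431 l1432)))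
noncomputable def n267 : T := (.node (nat_lit 57440) (.node (nat_lit 57360) l1433 (.node (nat_lit 57400) l1434 l1435)) (.node (nat_lit 57480) l1436 (.node (nat_lit 57520) l1437 l1438)))
noncomputable def n268 : T := (.node (nat_lit 57640) (.node (nat_lit 57600) l1439 l1440) (.node (nat_lit 57680) l1441 (.node (nat_lit 57720) l1442 l1443)))
noncomputable def n269 : T := (.node (nat_lit 57880) (.node (nat_lit 57800) l1444 (.node (nat_lit 57840) l1445 l1446)) (.node (nat_lit 57920) l1447 (.node (nat_lit 57960) l1448 l1449)))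
noncomputable def n270 : T := (.node (nat_lit 58080) (.node (nat_lit 58040) l1450 l1451) (.node (nat_lit 58120) l1452 (.node (nat_lit 58160) l1453 l1454)))
noncomputable def n271 : T := (.node (nat_lit 58320) (.node (nat_lit 58240) l1455 (.node (nat_lit 58280) l1456 l1457)) (.node (nat_lit 58360) l1458 (.node (nat_lit 58400) l1459 l1460)))
noncomputable def n272 : T := (.node (nat_lit 58520) (.node (nat_lit 58480) l1461 l1462) (.node (nat_lit 58560) l1463 (.node (nat_lit 58600) l1464 l1465)))
noncomputable def n273 : T := (.node (nat_lit 58760) (.node (nat_lit 58680) l1466 (.node (nat_lit 58720) l1467 l1468)) (.node (nat_lit 58800) l1469 (.node (nat_lit 58840) l1470 l1471)))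
noncomputable def n274 : T := (.node (nat_lit 58960) (.node (nat_lit 58920) l1472 l1473) (.node (nat_lit 59000) l1474 (.node (nat_lit 59040) l1475 l1476)))
noncomputable def n275 : T := (.node (nat_lit 59200) (.node (nat_lit 59120) l1477 (.node (nat_lit 59160) l1478 l1479)) (.node (nat_lit 59240) l1480 (.node (nat_lit 59280) l1481 l1482)))
noncomputable def n276 : T := (.node (nat_lit 59400) (.node (nat_lit 59360) l1483 l1484) (.node (nat_lit 59440) l1485 (.node (nat_lit 59480) l1486 l1487)))
noncomputable def n277 : T := (.node (nat_lit 59640) (.node (nat_lit 59560) l1488 (.node (nat_lit 59600) l1489 l1490)) (.node (nat_lit 59680) l1491 (.node (nat_lit 59720) l1492 l1493)))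
noncomputable def n278 : T := (.node (nat_lit 59840) (.node (nat_lit 59800) l1494 l1495) (.node (nat_lit 59880) l1496 (.node (nat_lit 59920) l1497 l1498)))
noncomputable def n279 : T := (.node (nat_lit 60080) (.node (nat_lit 60000) l1499 (.node (nat_lit 60040) l1500 l1501)) (.node (nat_lit 60120) l1502 (.node (nat_lit 60160) l1503 l1504)))
noncomputable def n280 : T := (.node (nat_lit 60280) (.node (nat_lit 60240) l1505 l1506) (.node (nat_lit 60320) l1507 (.node (nat_lit 60360) l1508 l1509)))
noncomputable def n281 : T := (.node (nat_lit 60520) (.node (nat_lit 60440) l1510 (.node (nat_lit 60480) l1511 l1512)) (.node (nat_lit 60560) l1513 (.node (nat_lit 60600) l1514 l1515)))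
noncomputable def n282 : T := (.node (nat_lit 60720) (.node (nat_lit 60680) l1516 l1517) (.node (nat_lit 60760) l1518 (.node (nat_lit 60800) l1519 l1520)))
noncomputable def n283 : T := (.node (nat_lit 60960) (.node (nat_lit 60880) l1521 (.node (nat_lit 60920) l1522 l1523)) (.node (nat_lit 61000) l1524 (.node (nat_lit 61040) l1525 l1526)))
noncomputable def n284 : T := (.node (nat_lit 61160) (.node (nat_lit 61120) l1527 l1528) (.node (nat_lit 61200) l1529 (.node (nat_lit 61240) l1530 l1531)))
noncomputable def n285 : T := (.node (nat_lit 61400) (.node (nat_lit 61320) l1532 (.node (nat_lit 61360) l1533 l1534)) (.node (nat_lit 61440) l1535 (.node (nat_lit 61480) l1536 l1537)))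
noncomputable def n286 : T := (.node (nat_lit 61600) (.node (nat_lit 61560) l1538 l1539) (.node (nat_lit 61640) l1540 (.node (nat_lit 61680) l1541 l1542)))
noncomputable def n287 : T := (.node (nat_lit 61840) (.node (nat_lit 61760) l1543 (.node (nat_lit 61800) l1544 l1545)) (.node (nat_lit 61880) l1546 (.node (nat_lit 61920) l1547 l1548)))
noncomputable def n288 : T := (.node (nat_lit 62040) (.node (nat_lit 62000) l1549 l1550) (.node (nat_lit 62080) l1551 (.node (nat_lit 62120) l1552 l1553)))
noncomputable def n289 : T := (.node (nat_lit 62280) (.node (nat_lit 62200) l1554 (.node (nat_lit 62240) l1555 l1556)) (.node (nat_lit 62320) l1557 (.node (nat_lit 62360) l1558 l1559)))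
noncomputable def n290 : T := (.node (nat_lit 62480) (.node (nat_lit 62440) l1560 l1561) (.node (nat_lit 62520) l1562 (.node (nat_lit 62560) l1563 l1564)))
noncomputable def n291 : T := (.node (nat_lit 62720) (.node (nat_lit 62640) l1565 (.node (nat_lit 62680) l1566 l1567)) (.node (nat_lit 62760) l1568 (.node (nat_lit 62800) l1569 l1570)))
noncomputable def n292 : T := (.node (nat_lit 62920) (.node (nat_lit 62880) l1571 l1572) (.node (nat_lit 62960) l1573 (.node (nat_lit 63000) l1574 l1575)))
noncomputable def n293 : T := (.node (nat_lit 63160) (.node (nat_lit 63080) l1576 (.node (nat_lit 63120) l1577 l1578)) (.node (nat_lit 63200) l1579 (.node (nat_lit 63240) l1580 l1581)))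
noncomputable def n294 : T := (.node (nat_lit 63400) (.node (nat_lit 63320) l1582 (.node (nat_lit 63360) l1583 l1584)) (.node (nat_lit 63440) l1585 (.node (nat_lit 63480) l1586 l1587)))
noncomputable def n295 : T := (.node (nat_lit 63640) (.node (nat_lit 63560) l1588 (.node (nat_lit 63600) l1589 l1590)) (.node (nat_lit 63680) l1591 (.node (nat_lit 63720) l1592 l1593)))
noncomputable def n296 : T := (.node (nat_lit 60200) (.node (nat_lit 58440) (.node (nat_lit 57560) (.node (nat_lit 57120) (.node (nat_lit 56880) n264 n265) (.node (nat_lit 57320) n266 n267)) (.node (nat_lit 58000) (.node (nat_lit 57760) n268 n269) (.node (nat_lit 58200) n270 n271))) (.node (nat_lit 59320) (.node (nat_lit 58880) (.node (nat_lit 58640) n272 n273) (.node (nat_lit 59080) n274 n275)) (.node (nat_lit 59760) (.node (nat_lit 59520) n276 n277) (.node (nat_lit 59960) n278 n279)))) (.node (nat_lit 61960) (.node (nat_lit 61080) (.node (nat_lit 60640) (.node (nat_lit 60400) n280 n281) (.node (nat_lit 60840) n282 n283)) (.node (nat_lit 61520) (.node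 (nat_lit 61280) n284 n285) (.node (nat_lit 61720) n286 n287))) (.node (nat_lit 62840) (.node (nat_lit 62400) (.node (nat_lit 62160) n288 n289) (.node (nat_lit 62600) n290 n291)) (.node (nat_lit 63280) (.node (nat_lit 63040) n292 n293) (.node (nat_lit 63520) n294 n295)))))
noncomputable def n297 : T := (.node (nat_lit 63840) (.node (nat_lit 63800) l1594 l1595) (.node (nat_lit 63880) l1596 (.node (nat_lit 63920) l1597 l1598)))
noncomputable def n298 : T := (.node (nat_lit 64080) (.node (nat_lit 64000) l1599 (.node (nat_lit 64040) l1600 l1601)) (.node (nat_lit 64120) l1602 (.node (nat_lit 64160) l1603 l1604)))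
noncomputable def n299 : T := (.node (nat_lit 64280) (.node (nat_lit 64240) l1605 l1606) (.node (nat_lit 64320) l1607 (.node (nat_lit 64360) l1608 l1609)))
noncomputable def n300 : T := (.node (nat_lit 64520) (.node (nat_lit 64440) l1610 (.node (nat_lit 64480) l1611 l1612)) (.node (nat_lit 64560) l1613 (.node (nat_lit 64600) l1614 l1615)))
noncomputable def n301 : T := (.node (nat_lit 64720) (.node (nat_lit 64680) l1616 l1617) (.node (nat_lit 64760) l1618 (.node (nat_lit 64800) l1619 l1620)))
noncomputable def n302 : T := (.node (nat_lit 64960) (.node (nat_lit 64880) l1621 (.node (nat_lit 64920) l1622 l1623)) (.node (nat_lit 65000) l1624 (.node (nat_lit 65040) l1625 l1626)))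
noncomputable def n303 : T := (.node (nat_lit 65160) (.node (nat_lit 65120) l1627 l1628) (.node (nat_lit 65200) l1629 (.node (nat_lit 65240) l1630 l1631)))
noncomputable def n304 : T := (.node (nat_lit 65400) (.node (nat_lit 65320) l1632 (.node (nat_lit 65360) l1633 l1634)) (.node (nat_lit 65440) l1635 (.node (nat_lit 65480) l1636 l1637)))
noncomputable def n305 : T := (.node (nat_lit 65600) (.node (nat_lit 65560) l1638 l1639) (.node (nat_lit 65640) l1640 (.node (nat_lit 65680) l1641 l1642)))
noncomputable def n306 : T := (.node (nat_lit 65840) (.node (nat_lit 65760) l1643 (.node (nat_lit 65800) l1644 l1645)) (.node (nat_lit 65880) l1646 (.node (nat_lit 65920) l1647 l1648)))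
noncomputable def n307 : T := (.node (nat_lit 66040) (.node (nat_lit 66000) l1649 l1650) (.node (nat_lit 66080) l1651 (.node (nat_lit 66120) l1652 l1653)))
noncomputable def n308 : T := (.node (nat_lit 66280) (.node (nat_lit 66200) l1654 (.node (nat_lit 66240) l1655 l1656)) (.node (nat_lit 66320) l1657 (.node (nat_lit 66360) l1658 l1659)))
noncomputable def n309 : T := (.node (nat_lit 66480) (.node (nat_lit 66440) l1660 l1661) (.node (nat_lit 66520) l1662 (.node (nat_lit 66560) l1663 l1664)))
noncomputable def n310 : T := (.node (nat_lit 66720) (.node (nat_lit 66640) l1665 (.node (nat_lit 66680) l1666 l1667)) (.node (nat_lit 66760) l1668 (.node (nat_lit 66800) l1669 l1670)))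
noncomputable def n311 : T := (.node (nat_lit 66920) (.node (nat_lit 66880) l1671 l1672) (.node (nat_lit 66960) l1673 (.node (nat_lit 67000) l1674 l1675)))
noncomputable def n312 : T := (.node (nat_lit 67160) (.node (nat_lit 67080) l1676 (.node (nat_lit 67120) l1677 l1678)) (.node (nat_lit 67200) l1679 (.node (nat_lit 67240) l1680 l1681)))
noncomputable def n313 : T := (.node (nat_lit 67360) (.node (nat_lit 67320) l1682 l1683) (.node (nat_lit 67400) l1684 (.node (nat_lit 67440) l1685 l1686)))
noncomputable def n314 : T := (.node (nat_lit 67600) (.node (nat_lit 67520) l1687 (.node (nat_lit 67560) l1688 l1689)) (.node (nat_lit 67640) l1690 (.node (nat_lit 67680) l1691 l1692)))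
noncomputable def n315 : T := (.node (nat_lit 67800) (.node (nat_lit 67760) l1693 l1694) (.node (nat_lit 67840) l1695 (.node (nat_lit 67880) l1696 l1697)))
noncomputable def n316 : T := (.node (nat_lit 68040) (.node (nat_lit 67960) l1698 (.node (nat_lit 68000) l1699 l1700)) (.node (nat_lit 68080) l1701 (.node (nat_lit 68120) l1702 l1703)))
noncomputable def n317 : T := (.node (nat_lit 68240) (.node (nat_lit 68200) l1704 l1705) (.node (nat_lit 68280) l1706 (.node (nat_lit 68320) l1707 l1708)))
noncomputable def n318 : T := (.node (nat_lit 68480) (.node (nat_lit 68400) l1709 (.node (nat_lit 68440) l1710 l1711)) (.node (nat_lit 68520) l1712 (.node (nat_lit 68560) l1713 l1714)))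
noncomputable def n319 : T := (.node (nat_lit 68680) (.node (nat_lit 68640) l1715 l1716) (.node (nat_lit 68720) l1717 (.node (nat_lit 68760) l1718 l1719)))
noncomputable def n320 : T := (.node (nat_lit 68920) (.node (nat_lit 68840) l1720 (.node (nat_lit 68880) l1721 l1722)) (.node (nat_lit 68960) l1723 (.node (nat_lit 69000) l1724 l1725)))
noncomputable def n321 : T := (.node (nat_lit 69120) (.node (nat_lit 69080) l1726 l1727) (.node (nat_lit 69160) l1728 (.node (nat_lit 69200) l1729 l1730)))
noncomputable def n322 : T := (.node (nat_lit 69360) (.node (nat_lit 69280) l1731 (.node (nat_lit 69320) l1732 l1733)) (.node (nat_lit 69400) l1734 (.node (nat_lit 69440) l1735 l1736)))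
noncomputable def n323 : T := (.node (nat_lit 69560) (.node (nat_lit 69520) l1737 l1738) (.node (nat_lit 69600) l1739 (.node (nat_lit 69640) l1740 l1741)))
noncomputable def n324 : T := (.node (nat_lit 69800) (.node (nat_lit 69720) l1742 (.node (nat_lit 69760) l1743 l1744)) (.node (nat_lit 69840) l1745 (.node (nat_lit 69880) l1746 l1747)))
noncomputable def n325 : T := (.node (nat_lit 70000) (.node (nat_lit 69960) l1748 l1749) (.node (nat_lit 70040) l1750 (.node (nat_lit 70080) l1751 l1752)))
noncomputable def n326 : T := (.node (nat_lit 70240) (.node (nat_lit 70160) l1753 (.node (nat_lit 70200) l1754 l1755)) (.node (nat_lit 70280) l1756 (.node (nat_lit 70320) l1757 l1758)))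
noncomputable def n327 : T := (.node (nat_lit 70480) (.node (nat_lit 70400) l1759 (.node (nat_lit 70440) l1760 l1761)) (.node (nat_lit 70520) l1762 (.node (nat_lit 70560) l1763 l1764)))
noncomputable def n328 : T := (.node (nat_lit 70720) (.node (nat_lit 70640) l1765 (.node (nat_lit 70680) l1766 l1767)) (.node (nat_lit 70760) l1768 (.node (nat_lit 70800) l1769 l1770)))
noncomputable def n329 : T := (.node (nat_lit 67280) (.node (nat_lit 65520) (.node (nat_lit 64640) (.node (nat_lit 64200) (.node (nat_lit 63960) n297 n298) (.node (nat_lit 64400) n299 n300)) (.node (nat_lit 65080) (.node (nat_lit 64840) n301 n302) (.node (nat_lit 65280) n303 n304))) (.node (nat_lit 66400) (.node (nat_lit 65960) (.node (nat_lit 65720) n305 n306) (.node (nat_lit 66160) n307 n308)) (.node (nat_lit 66840) (.node (nat_lit 66600) n309 n310) (.node (nat_lit 67040) n311 n312)))) (.node (nat_lit 69040) (.node (nat_lit 68160) (.node (nat_lit 67720) (.node (nat_lit 67480) n313 n314) (.node (nat_lit 67920) n315 n316)) (.node (nat_lit 68600) (.node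 (nat_lit 68360) n317 n318) (.node (nat_lit 68800) n319 n320))) (.node (nat_lit 69920) (.node (nat_lit 69480) (.node (nat_lit 69240) n321 n322) (.node (nat_lit 69680) n323 n324)) (.node (nat_lit 70360) (.node (nat_lit 70120) n325 n326) (.node (nat_lit 70600) n327 n328)))))
noncomputable def n330 : T := (.node (nat_lit 70920) (.node (nat_lit 70880) l1771 l1772) (.node (nat_lit 70960) l1773 (.node (nat_lit 71000) l1774 l1775)))
noncomputable def n331 : T := (.node (nat_lit 71160) (.node (nat_lit 71080) l1776 (.node (nat_lit 71120) l1777 l1778)) (.node (nat_lit 71200) l1779 (.node (nat_lit 71240) l1780 l1781)))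
noncomputable def n332 : T := (.node (nat_lit 71360) (.node (nat_lit 71320) l1782 l1783) (.node (nat_lit 71400) l1784 (.node (nat_lit 71440) l1785 l1786)))
noncomputable def n333 : T := (.node (nat_lit 71600) (.node (nat_lit 71520) l1787 (.node (nat_lit 71560) l1788 l1789)) (.node (nat_lit 71640) l1790 (.node (nat_lit 71680) l1791 l1792)))
noncomputable def n334 : T := (.node (nat_lit 71800) (.node (nat_lit 71760) l1793 l1794) (.node (nat_lit 71840) l1795 (.node (nat_lit 71880) l1796 l1797)))
noncomputable def n335 : T := (.node (nat_lit 72040) (.node (nat_lit 71960) l1798 (.node (nat_lit 72000) l1799 l1800)) (.node (nat_lit 72080) l1801 (.node (nat_lit 72120) l1802 l1803)))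
noncomputable def n336 : T := (.node (nat_lit 72240) (.node (nat_lit 72200) l1804 l1805) (.node (nat_lit 72280) l1806 (.node (nat_lit 72320) l1807 l1808)))
noncomputable def n337 : T := (.node (nat_lit 72480) (.node (nat_lit 72400) l1809 (.node (nat_lit 72440) l1810 l1811)) (.node (nat_lit 72520) l1812 (.node (nat_lit 72560) l1813 l1814)))
noncomputable def n338 : T := (.node (nat_lit 72680) (.node (nat_lit 72640) l1815 l1816) (.node (nat_lit 72720) l1817 (.node (nat_lit 72760) l1818 l1819)))
noncomputable def n339 : T := (.node (nat_lit 72920) (.node (nat_lit 72840) l1820 (.node (nat_lit 72880) l1821 l1822)) (.node (nat_lit 72960) l1823 (.node (nat_lit 73000) l1824 l1825)))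
noncomputable def n340 : T := (.node (nat_lit 73120) (.node (nat_lit 73080) l1826 l1827) (.node (nat_lit 73160) l1828 (.node (nat_lit 73200) l1829 l1830)))
noncomputable def n341 : T := (.node (nat_lit 73360) (.node (nat_lit 73280) l1831 (.node (nat_lit 73320) l1832 l1833)) (.node (nat_lit 73400) l1834 (.node (nat_lit 73440) l1835 l1836)))
noncomputable def n342 : T := (.node (nat_lit 73560) (.node (nat_lit 73520) l1837 l1838) (.node (nat_lit 73600) l1839 (.node (nat_lit 73640) l1840 l1841)))
noncomputable def n343 : T := (.node (nat_lit 73800) (.node (nat_lit 73720) l1842 (.node (nat_lit 73760) l1843 l1844)) (.node (nat_lit 73840) l1845 (.node (nat_lit 73880) l1846 l1847)))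
noncomputable def n344 : T := (.node (nat_lit 74000) (.node (nat_lit 73960) l1848 l1849) (.node (nat_lit 74040) l1850 (.node (nat_lit 74080) l1851 l1852)))
noncomputable def n345 : T := (.node (nat_lit 74240) (.node (nat_lit 74160) l1853 (.node (nat_lit 74200) l1854 l1855)) (.node (nat_lit 74280) l1856 (.node (nat_lit 74320) l1857 l1858)))
noncomputable def n346 : T := (.node (nat_lit 74440) (.node (nat_lit 74400) l1859 l1860) (.node (nat_lit 74480) l1861 (.node (nat_lit 74520) l1862 l1863)))
noncomputable def n347 : T := (.node (nat_lit 74680) (.node (nat_lit 74600) l1864 (.node (nat_lit 74640) l1865 l1866)) (.node (nat_lit 74720) l1867 (.node (nat_lit 74760) l1868 l1869)))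
noncomputable def n348 : T := (.node (nat_lit 74880) (.node (nat_lit 74840) l1870 l1871) (.node (nat_lit 74920) l1872 (.node (nat_lit 74960) l1873 l1874)))
noncomputable def n349 : T := (.node (nat_lit 75120) (.node (nat_lit 75040) l1875 (.node (nat_lit 75080) l1876 l1877)) (.node (nat_lit 75160) l1878 (.node (nat_lit 75200) l1879 l1880)))
noncomputable def n350 : T := (.node (nat_lit 75320) (.node (nat_lit 75280) l1881 l1882) (.node (nat_lit 75360) l1883 (.node (nat_lit 75400) l1884 l1885)))
noncomputable def n351 : T := (.node (nat_lit 75560) (.node (nat_lit 75480) l1886 (.node (nat_lit 75520) l1887 l1888)) (.node (nat_lit 75600) l1889 (.node (nat_lit 75640) l1890 l1891)))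
noncomputable def n352 : T := (.node (nat_lit 75760) (.node (nat_lit 75720) l1892 l1893) (.node (nat_lit 75800) l1894 (.node (nat_lit 75840) l1895 l1896)))
noncomputable def n353 : T := (.node (nat_lit 76000) (.node (nat_lit 75920) l1897 (.node (nat_lit 75960) l1898 l1899)) (.node (nat_lit 76040) l1900 (.node (nat_lit 76080) l1901 l1902)))
noncomputable def n354 : T := (.node (nat_lit 76200) (.node (nat_lit 76160) l1903 l1904) (.node (nat_lit 76240) l1905 (.node (nat_lit 76280) l1906 l1907)))
noncomputable def n355 : T := (.node (nat_lit 76440) (.node (nat_lit 76360) l1908 (.node (nat_lit 76400) l1909 l1910)) (.node (nat_lit 76480) l1911 (.node (nat_lit 76520) l1912 l1913)))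
noncomputable def n356 : T := (.node (nat_lit 76640) (.node (nat_lit 76600) l1914 l1915) (.node (nat_lit 76680) l1916 (.node (nat_lit 76720) l1917 l1918)))
noncomputable def n357 : T := (.node (nat_lit 76880) (.node (nat_lit 76800) l1919 (.node (nat_lit 76840) l1920 l1921)) (.node (nat_lit 76920) l1922 (.node (nat_lit 76960) l1923 l1924)))
noncomputable def n358 : T := (.node (nat_lit 77080) (.node (nat_lit 77040) l1925 l1926) (.node (nat_lit 77120) l1927 (.node (nat_lit 77160) l1928 l1929)))
noncomputable def n359 : T := (.node (nat_lit 77320) (.node (nat_lit 77240) l1930 (.node (nat_lit 77280) l1931 l1932)) (.node (nat_lit 77360) l1933 (.node (nat_lit 77400) l1934 l1935)))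
noncomputable def n360 : T := (.node (nat_lit 77560) (.node (nat_lit 77480) l1936 (.node (nat_lit 77520) l1937 l1938)) (.node (nat_lit 77600) l1939 (.node (nat_lit 77640) l1940 l1941)))
noncomputable def n361 : T := (.node (nat_lit 77800) (.node (nat_lit 77720) l1942 (.node (nat_lit 77760) l1943 l1944)) (.node (nat_lit 77840) l1945 (.node (nat_lit 77880) l1946 l1947)))
noncomputable def n362 : T := (.node (nat_lit 74360) (.node (nat_lit 72600) (.node (nat_lit 71720) (.node (nat_lit 71280) (.node (nat_lit 71040) n330 n331) (.node (nat_lit 71480) n332 n333)) (.node (nat_lit 72160) (.node (nat_lit 71920) n334 n335) (.node (nat_lit 72360) n336 n337))) (.node (nat_lit 73480) (.node (nat_lit 73040) (.node (nat_lit 72800) n338 n339) (.node (nat_lit 73240) n340 n341)) (.node (nat_lit 73920) (.node (nat_lit 73680) n342 n343) (.node (nat_lit 74120) n344 n345)))) (.node (nat_lit 76120) (.node (nat_lit 75240) (.node (nat_lit 74800) (.node (nat_lit 74560) n346 n347) (.node (nat_lit 75000) n348 n349)) (.node (nat_lit 75680) (.node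 (nat_lit 75440) n350 n351) (.node (nat_lit 75880) n352 n353))) (.node (nat_lit 77000) (.node (nat_lit 76560) (.node (nat_lit 76320) n354 n355) (.node (nat_lit 76760) n356 n357)) (.node (nat_lit 77440) (.node (nat_lit 77200) n358 n359) (.node (nat_lit 77680) n360 n361)))))
noncomputable def n363 : T := (.node (nat_lit 78000) (.node (nat_lit 77960) l1948 l1949) (.node (nat_lit 78040) l1950 (.node (nat_lit 78080) l1951 l1952)))
noncomputable def n364 : T := (.node (nat_lit 78240) (.node (nat_lit 78160) l1953 (.node (nat_lit 78200) l1954 l1955)) (.node (nat_lit 78280) l1956 (.node (nat_lit 78320) l1957 l1958)))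
noncomputable def n365 : T := (.node (nat_lit 78440) (.node (nat_lit 78400) l1959 l1960) (.node (nat_lit 78480) l1961 (.node (nat_lit 78520) l1962 l1963)))
noncomputable def n366 : T := (.node (nat_lit 78680) (.node (nat_lit 78600) l1964 (.node (nat_lit 78640) l1965 l1966)) (.node (nat_lit 78720) l1967 (.node (nat_lit 78760) l1968 l1969)))
noncomputable def n367 : T := (.node (nat_lit 78880) (.node (nat_lit 78840) l1970 l1971) (.node (nat_lit 78920) l1972 (.node (nat_lit 78960) l1973 l1974)))
noncomputable def n368 : T := (.node (nat_lit 79120) (.node (nat_lit 79040) l1975 (.node (nat_lit 79080) l1976 l1977)) (.node (nat_lit 79160) l1978 (.node (nat_lit 79200) l1979 l1980)))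
noncomputable def n369 : T := (.node (nat_lit 79320) (.node (nat_lit 79280) l1981 l1982) (.node (nat_lit 79360) l1983 (.node (nat_lit 79400) l1984 l1985)))
noncomputable def n370 : T := (.node (nat_lit 79560) (.node (nat_lit 79480) l1986 (.node (nat_lit 79520) l1987 l1988)) (.node (nat_lit 79600) l1989 (.node (nat_lit 79640) l1990 l1991)))
noncomputable def n371 : T := (.node (nat_lit 79760) (.node (nat_lit 79720) l1992 l1993) (.node (nat_lit 79800) l1994 (.node (nat_lit 79840) l1995 l1996)))
noncomputable def n372 : T := (.node (nat_lit 80000) (.node (nat_lit 79920) l1997 (.node (nat_lit 79960) l1998 l1999)) (.node (nat_lit 80040) l2000 (.node (nat_lit 80080) l2001 l2002)))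
noncomputable def n373 : T := (.node (nat_lit 80200) (.node (nat_lit 80160) l2003 l2004) (.node (nat_lit 80240) l2005 (.node (nat_lit 80280) l2006 l2007)))
noncomputable def n374 : T := (.node (nat_lit 80440) (.node (nat_lit 80360) l2008 (.node (nat_lit 80400) l2009 l2010)) (.node (nat_lit 80480) l2011 (.node (nat_lit 80520) l2012 l2013)))
noncomputable def n375 : T := (.node (nat_lit 80640) (.node (nat_lit 80600) l2014 l2015) (.node (nat_lit 80680) l2016 (.node (nat_lit 80720) l2017 l2018)))
noncomputable def n376 : T := (.node (nat_lit 80880) (.node (nat_lit 80800) l2019 (.node (nat_lit 80840) l2020 l2021)) (.node (nat_lit 80920) l2022 (.node (nat_lit 80960) l2023 l2024)))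
noncomputable def n377 : T := (.node (nat_lit 81080) (.node (nat_lit 81040) l2025 l2026) (.node (nat_lit 81120) l2027 (.node (nat_lit 81160) l2028 l2029)))
noncomputable def n378 : T := (.node (nat_lit 81320) (.node (nat_lit 81240) l2030 (.node (nat_lit 81280) l2031 l2032)) (.node (nat_lit 81360) l2033 (.node (nat_lit 81400) l2034 l2035)))
noncomputable def n379 : T := (.node (nat_lit 81520) (.node (nat_lit 81480) l2036 l2037) (.node (nat_lit 81560) l2038 (.node (nat_lit 81600) l2039 l2040)))
noncomputable def n380 : T := (.node (nat_lit 81760) (.node (nat_lit 81680) l2041 (.node (nat_lit 81720) l2042 l2043)) (.node (nat_lit 81800) l2044 (.node (nat_lit 81840) l2045 l2046)))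
noncomputable def n381 : T := (.node (nat_lit 81960) (.node (nat_lit 81920) l2047 l2048) (.node (nat_lit 82000) l2049 (.node (nat_lit 82040) l2050 l2051)))
noncomputable def n382 : T := (.node (nat_lit 82200) (.node (nat_lit 82120) l2052 (.node (nat_lit 82160) l2053 l2054)) (.node (nat_lit 82240) l2055 (.node (nat_lit 82280) l2056 l2057)))
noncomputable def n383 : T := (.node (nat_lit 82400) (.node (nat_lit 82360) l2058 l2059) (.node (nat_lit 82440) l2060 (.node (nat_lit 82480) l2061 l2062)))
noncomputable def n384 : T := (.node (nat_lit 82640) (.node (nat_lit 82560) l2063 (.node (nat_lit 82600) l2064 l2065)) (.node (nat_lit 82680) l2066 (.node (nat_lit 82720) l2067 l2068)))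
noncomputable def n385 : T := (.node (nat_lit 82840) (.node (nat_lit 82800) l2069 l2070) (.node (nat_lit 82880) l2071 (.node (nat_lit 82920) l2072 l2073)))
noncomputable def n386 : T := (.node (nat_lit 83080) (.node (nat_lit 83000) l2074 (.node (nat_lit 83040) l2075 l2076)) (.node (nat_lit 83120) l2077 (.node (nat_lit 83160) l2078 l2079)))
noncomputable def n387 : T := (.node (nat_lit 83280) (.node (nat_lit 83240) l2080 l2081) (.node (nat_lit 83320) l2082 (.node (nat_lit 83360) l2083 l2084)))
noncomputable def n388 : T := (.node (nat_lit 83520) (.node (nat_lit 83440) l2085 (.node (nat_lit 83480) l2086 l2087)) (.node (nat_lit 83560) l2088 (.node (nat_lit 83600) l2089 l2090)))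
noncomputable def n389 : T := (.node (nat_lit 83720) (.node (nat_lit 83680) l2091 l2092) (.node (nat_lit 83760) l2093 (.node (nat_lit 83800) l2094 l2095)))
noncomputable def n390 : T := (.node (nat_lit 83960) (.node (nat_lit 83880) l2096 (.node (nat_lit 83920) l2097 l2098)) (.node (nat_lit 84000) l2099 (.node (nat_lit 84040) l2100 l2101)))
noncomputable def n391 : T := (.node (nat_lit 84160) (.node (nat_lit 84120) l2102 l2103) (.node (nat_lit 84200) l2104 (.node (nat_lit 84240) l2105 l2106)))
noncomputable def n392 : T := (.node (nat_lit 84400) (.node (nat_lit 84320) l2107 (.node (nat_lit 84360) l2108 l2109)) (.node (nat_lit 84440) l2110 (.node (nat_lit 84480) l2111 l2112)))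
noncomputable def n393 : T := (.node (nat_lit 84640) (.node (nat_lit 84560) l2113 (.node (nat_lit 84600) l2114 l2115)) (.node (nat_lit 84680) l2116 (.node (nat_lit 84720) l2117 l2118)))
noncomputable def n394 : T := (.node (nat_lit 84880) (.node (nat_lit 84800) l2119 (.node (nat_lit 84840) l2120 l2121)) (.node (nat_lit 84920) l2122 (.node (nat_lit 84960) l2123 l2124)))
noncomputable def n395 : T := (.node (nat_lit 81440) (.node (nat_lit 79680) (.node (nat_lit 78800) (.node (nat_lit 78360) (.node (nat_lit 78120) n363 n364) (.node (nat_lit 78560) n365 n366)) (.node (nat_lit 79240) (.node (nat_lit 79000) n367 n368) (.node (nat_lit 79440) n369 n370))) (.node (nat_lit 80560) (.node (nat_lit 80120) (.node (nat_lit 79880) n371 n372) (.node (nat_lit 80320) n373 n374)) (.node (nat_lit 81000) (.node (nat_lit 80760) n375 n376) (.node (nat_lit 81200) n377 n378)))) (.node (nat_lit 83200) (.node (nat_lit 82320) (.node (nat_lit 81880) (.node (nat_lit 81640) n379 n380) (.node (nat_lit 82080) n381 n382)) (.node (nat_lit 82760) (.node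 (nat_lit 82520) n383 n384) (.node (nat_lit 82960) n385 n386))) (.node (nat_lit 84080) (.node (nat_lit 83640) (.node (nat_lit 83400) n387 n388) (.node (nat_lit 83840) n389 n390)) (.node (nat_lit 84520) (.node (nat_lit 84280) n391 n392) (.node (nat_lit 84760) n393 n394)))))
noncomputable def n396 : T := (.node (nat_lit 85080) (.node (nat_lit 85040) l2125 l2126) (.node (nat_lit 85120) l2127 (.node (nat_lit 85160) l2128 l2129)))
noncomputable def n397 : T := (.node (nat_lit 85320) (.node (nat_lit 85240) l2130 (.node (nat_lit 85280) l2131 l2132)) (.node (nat_lit 85360) l2133 (.node (nat_lit 85400) l2134 l2135)))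
noncomputable def n398 : T := (.node (nat_lit 85520) (.node (nat_lit 85480) l2136 l2137) (.node (nat_lit 85560) l2138 (.node (nat_lit 85600) l2139 l2140)))
noncomputable def n399 : T := (.node (nat_lit 85760) (.node (nat_lit 85680) l2141 (.node (nat_lit 85720) l2142 l2143)) (.node (nat_lit 85800) l2144 (.node (nat_lit 85840) l2145 l2146)))
noncomputable def n400 : T := (.node (nat_lit 85960) (.node (nat_lit 85920) l2147 l2148) (.node (nat_lit 86000) l2149 (.node (nat_lit 86040) l2150 l2151)))
noncomputable def n401 : T := (.node (nat_lit 86200) (.node (nat_lit 86120) l2152 (.node (nat_lit 86160) l2153 l2154)) (.node (nat_lit 86240) l2155 (.node (nat_lit 86280) l2156 l2157)))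
noncomputable def n402 : T := (.node (nat_lit 86400) (.node (nat_lit 86360) l2158 l2159) (.node (nat_lit 86440) l2160 (.node (nat_lit 86480) l2161 l2162)))
noncomputable def n403 : T := (.node (nat_lit 86640) (.node (nat_lit 86560) l2163 (.node (nat_lit 86600) l2164 l2165)) (.node (nat_lit 86680) l2166 (.node (nat_lit 86720) l2167 l2168)))
noncomputable def n404 : T := (.node (nat_lit 86840) (.node (nat_lit 86800) l2169 l2170) (.node (nat_lit 86880) l2171 (.node (nat_lit 86920) l2172 l2173)))
noncomputable def n405 : T := (.node (nat_lit 87080) (.node (nat_lit 87000) l2174 (.node (nat_lit 87040) l2175 l2176)) (.node (nat_lit 87120) l2177 (.node (nat_lit 87160) l2178 l2179)))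
noncomputable def n406 : T := (.node (nat_lit 87280) (.node (nat_lit 87240) l2180 l2181) (.node (nat_lit 87320) l2182 (.node (nat_lit 87360) l2183 l2184)))
noncomputable def n407 : T := (.node (nat_lit 87520) (.node (nat_lit 87440) l2185 (.node (nat_lit 87480) l2186 l2187)) (.node (nat_lit 87560) l2188 (.node (nat_lit 87600) l2189 l2190)))
noncomputable def n408 : T := (.node (nat_lit 87720) (.node (nat_lit 87680) l2191 l2192) (.node (nat_lit 87760) l2193 (.node (nat_lit 87800) l2194 l2195)))
noncomputable def n409 : T := (.node (nat_lit 87960) (.node (nat_lit 87880) l2196 (.node (nat_lit 87920) l2197 l2198)) (.node (nat_lit 88000) l2199 (.node (nat_lit 88040) l2200 l2201)))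
noncomputable def n410 : T := (.node (nat_lit 88160) (.node (nat_lit 88120) l2202 l2203) (.node (nat_lit 88200) l2204 (.node (nat_lit 88240) l2205 l2206)))
noncomputable def n411 : T := (.node (nat_lit 88400) (.node (nat_lit 88320) l2207 (.node (nat_lit 88360) l2208 l2209)) (.node (nat_lit 88440) l2210 (.node (nat_lit 88480) l2211 l2212)))
noncomputable def n412 : T := (.node (nat_lit 88600) (.node (nat_lit 88560) l2213 l2214) (.node (nat_lit 88640) l2215 (.node (nat_lit 88680) l2216 l2217)))
noncomputable def n413 : T := (.node (nat_lit 88840) (.node (nat_lit 88760) l2218 (.node (nat_lit 88800) l2219 l2220)) (.node (nat_lit 88880) l2221 (.node (nat_lit 88920) l2222 l2223)))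
noncomputable def n414 : T := (.node (nat_lit 89040) (.node (nat_lit 89000) l2224 l2225) (.node (nat_lit 89080) l2226 (.node (nat_lit 89120) l2227 l2228)))
noncomputable def n415 : T := (.node (nat_lit 89280) (.node (nat_lit 89200) l2229 (.node (nat_lit 89240) l2230 l2231)) (.node (nat_lit 89320) l2232 (.node (nat_lit 89360) l2233 l2234)))
noncomputable def n416 : T := (.node (nat_lit 89480) (.node (nat_lit 89440) l2235 l2236) (.node (nat_lit 89520) l2237 (.node (nat_lit 89560) l2238 l2239)))
noncomputable def n417 : T := (.node (nat_lit 89720) (.node (nat_lit 89640) l2240 (.node (nat_lit 89680) l2241 l2242)) (.node (nat_lit 89760) l2243 (.node (nat_lit 89800) l2244 l2245)))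
noncomputable def n418 : T := (.node (nat_lit 89920) (.node (nat_lit 89880) l2246 l2247) (.node (nat_lit 89960) l2248 (.node (nat_lit 90000) l2249 l2250)))
noncomputable def n419 : T := (.node (nat_lit 90160) (.node (nat_lit 90080) l2251 (.node (nat_lit 90120) l2252 l2253)) (.node (nat_lit 90200) l2254 (.node (nat_lit 90240) l2255 l2256)))
noncomputable def n420 : T := (.node (nat_lit 90360) (.node (nat_lit 90320) l2257 l2258) (.node (nat_lit 90400) l2259 (.node (nat_lit 90440) l2260 l2261)))
noncomputable def n421 : T := (.node (nat_lit 90600) (.node (nat_lit 90520) l2262 (.node (nat_lit 90560) l2263 l2264)) (.node (nat_lit 90640) l2265 (.node (nat_lit 90680) l2266 l2267)))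
noncomputable def n422 : T := (.node (nat_lit 90800) (.node (nat_lit 90760) l2268 l2269) (.node (nat_lit 90840) l2270 (.node (nat_lit 90880) l2271 l2272)))
noncomputable def n423 : T := (.node (nat_lit 91040) (.node (nat_lit 90960) l2273 (.node (nat_lit 91000) l2274 l2275)) (.node (nat_lit 91080) l2276 (.node (nat_lit 91120) l2277 l2278)))
noncomputable def n424 : T := (.node (nat_lit 91240) (.node (nat_lit 91200) l2279 l2280) (.node (nat_lit 91280) l2281 (.node (nat_lit 91320) l2282 l2283)))
noncomputable def n425 : T := (.node (nat_lit 91480) (.node (nat_lit 91400) l2284 (.node (nat_lit 91440) l2285 l2286)) (.node (nat_lit 91520) l2287 (.node (nat_lit 91560) l2288 l2289)))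
noncomputable def n426 : T := (.node (nat_lit 91720) (.node (nat_lit 91640) l2290 (.node (nat_lit 91680) l2291 l2292)) (.node (nat_lit 91760) l2293 (.node (nat_lit 91800) l2294 l2295)))
noncomputable def n427 : T := (.node (nat_lit 91960) (.node (nat_lit 91880) l2296 (.node (nat_lit 91920) l2297 l2298)) (.node (nat_lit 92000) l2299 (.node (nat_lit 92040) l2300 l2301)))
noncomputable def n428 : T := (.node (nat_lit 88520) (.node (nat_lit 86760) (.node (nat_lit 85880) (.node (nat_lit 85440) (.node (nat_lit 85200) n396 n397) (.node (nat_lit 85640) n398 n399)) (.node (nat_lit 86320) (.node (nat_lit 86080) n400 n401) (.node (nat_lit 86520) n402 n403))) (.node (nat_lit 87640) (.node (nat_lit 87200) (.node (nat_lit 86960) n404 n405) (.node (nat_lit 87400) n406 n407)) (.node (nat_lit 88080) (.node (nat_lit 87840) n408 n409) (.node (nat_lit 88280) n410 n411)))) (.node (nat_lit 90280) (.node (nat_lit 89400) (.node (nat_lit 88960) (.node (nat_lit 88720) n412 n413) (.node (nat_lit 89160) n414 n415)) (.node (nat_lit 89840) (.node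 (nat_lit 89600) n416 n417) (.node (nat_lit 90040) n418 n419))) (.node (nat_lit 91160) (.node (nat_lit 90720) (.node (nat_lit 90480) n420 n421) (.node (nat_lit 90920) n422 n423)) (.node (nat_lit 91600) (.node (nat_lit 91360) n424 n425) (.node (nat_lit 91840) n426 n427)))))
noncomputable def n429 : T := (.node (nat_lit 92160) (.node (nat_lit 92120) l2302 l2303) (.node (nat_lit 92200) l2304 (.node (nat_lit 92240) l2305 l2306)))
noncomputable def n430 : T := (.node (nat_lit 92400) (.node (nat_lit 92320) l2307 (.node (nat_lit 92360) l2308 l2309)) (.node (nat_lit 92440) l2310 (.node (nat_lit 92480) l2311 l2312)))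
noncomputable def n431 : T := (.node (nat_lit 92600) (.node (nat_lit 92560) l2313 l2314) (.node (nat_lit 92640) l2315 (.node (nat_lit 92680) l2316 l2317)))
noncomputable def n432 : T := (.node (nat_lit 92840) (.node (nat_lit 92760) l2318 (.node (nat_lit 92800) l2319 l2320)) (.node (nat_lit 92880) l2321 (.node (nat_lit 92920) l2322 l2323)))
noncomputable def n433 : T := (.node (nat_lit 93040) (.node (nat_lit 93000) l2324 l2325) (.node (nat_lit 93080) l2326 (.node (nat_lit 93120) l2327 l2328)))
noncomputable def n434 : T := (.node (nat_lit 93280) (.node (nat_lit 93200) l2329 (.node (nat_lit 93240) l2330 l2331)) (.node (nat_lit 93320) l2332 (.node (nat_lit 93360) l2333 l2334)))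
noncomputable def n435 : T := (.node (nat_lit 93480) (.node (nat_lit 93440) l2335 l2336) (.node (nat_lit 93520) l2337 (.node (nat_lit 93560) l2338 l2339)))
noncomputable def n436 : T := (.node (nat_lit 93720) (.node (nat_lit 93640) l2340 (.node (nat_lit 93680) l2341 l2342)) (.node (nat_lit 93760) l2343 (.node (nat_lit 93800) l2344 l2345)))
noncomputable def n437 : T := (.node (nat_lit 93920) (.node (nat_lit 93880) l2346 l2347) (.node (nat_lit 93960) l2348 (.node (nat_lit 94000) l2349 l2350)))
noncomputable def n438 : T := (.node (nat_lit 94160) (.node (nat_lit 94080) l2351 (.node (nat_lit 94120) l2352 l2353)) (.node (nat_lit 94200) l2354 (.node (nat_lit 94240) l2355 l2356)))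
noncomputable def n439 : T := (.node (nat_lit 94360) (.node (nat_lit 94320) l2357 l2358) (.node (nat_lit 94400) l2359 (.node (nat_lit 94440) l2360 l2361)))
noncomputable def n440 : T := (.node (nat_lit 94600) (.node (nat_lit 94520) l2362 (.node (nat_lit 94560) l2363 l2364)) (.node (nat_lit 94640) l2365 (.node (nat_lit 94680) l2366 l2367)))
noncomputable def n441 : T := (.node (nat_lit 94800) (.node (nat_lit 94760) l2368 l2369) (.node (nat_lit 94840) l2370 (.node (nat_lit 94880) l2371 l2372)))
noncomputable def n442 : T := (.node (nat_lit 95040) (.node (nat_lit 94960) l2373 (.node (nat_lit 95000) l2374 l2375)) (.node (nat_lit 95080) l2376 (.node (nat_lit 95120) l2377 l2378)))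
noncomputable def n443 : T := (.node (nat_lit 95240) (.node (nat_lit 95200) l2379 l2380) (.node (nat_lit 95280) l2381 (.node (nat_lit 95320) l2382 l2383)))
noncomputable def n444 : T := (.node (nat_lit 95480) (.node (nat_lit 95400) l2384 (.node (nat_lit 95440) l2385 l2386)) (.node (nat_lit 95520) l2387 (.node (nat_lit 95560) l2388 l2389)))
noncomputable def n445 : T := (.node (nat_lit 95680) (.node (nat_lit 95640) l2390 l2391) (.node (nat_lit 95720) l2392 (.node (nat_lit 95760) l2393 l2394)))
noncomputable def n446 : T := (.node (nat_lit 95920) (.node (nat_lit 95840) l2395 (.node (nat_lit 95880) l2396 l2397)) (.node (nat_lit 95960) l2398 (.node (nat_lit 96000) l2399 l2400)))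
noncomputable def n447 : T := (.node (nat_lit 96120) (.node (nat_lit 96080) l2401 l2402) (.node (nat_lit 96160) l2403 (.node (nat_lit 96200) l2404 l2405)))
noncomputable def n448 : T := (.node (nat_lit 96360) (.node (nat_lit 96280) l2406 (.node (nat_lit 96320) l2407 l2408)) (.node (nat_lit 96400) l2409 (.node (nat_lit 96440) l2410 l2411)))
noncomputable def n449 : T := (.node (nat_lit 96560) (.node (nat_lit 96520) l2412 l2413) (.node (nat_lit 96600) l2414 (.node (nat_lit 96640) l2415 l2416)))
noncomputable def n450 : T := (.node (nat_lit 96800) (.node (nat_lit 96720) l2417 (.node (nat_lit 96760) l2418 l2419)) (.node (nat_lit 96840) l2420 (.node (nat_lit 96880) l2421 l2422)))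
noncomputable def n451 : T := (.node (nat_lit 97000) (.node (nat_lit 96960) l2423 l2424) (.node (nat_lit 97040) l2425 (.node (nat_lit 97080) l2426 l2427)))
noncomputable def n452 : T := (.node (nat_lit 97240) (.node (nat_lit 97160) l2428 (.node (nat_lit 97200) l2429 l2430)) (.node (nat_lit 97280) l2431 (.node (nat_lit 97320) l2432 l2433)))
noncomputable def n453 : T := (.node (nat_lit 97440) (.node (nat_lit 97400) l2434 l2435) (.node (nat_lit 97480) l2436 (.node (nat_lit 97520) l2437 l2438)))
noncomputable def n454 : T := (.node (nat_lit 97680) (.node (nat_lit 97600) l2439 (.node (nat_lit 97640) l2440 l2441)) (.node (nat_lit 97720) l2442 (.node (nat_lit 97760) l2443 l2444)))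
noncomputable def n455 : T := (.node (nat_lit 97880) (.node (nat_lit 97840) l2445 l2446) (.node (nat_lit 97920) l2447 (.node (nat_lit 97960) l2448 l2449)))
noncomputable def n456 : T := (.node (nat_lit 98120) (.node (nat_lit 98040) l2450 (.node (nat_lit 98080) l2451 l2452)) (.node (nat_lit 98160) l2453 (.node (nat_lit 98200) l2454 l2455)))
noncomputable def n457 : T := (.node (nat_lit 98320) (.node (nat_lit 98280) l2456 l2457) (.node (nat_lit 98360) l2458 (.node (nat_lit 98400) l2459 l2460)))
noncomputable def n458 : T := (.node (nat_lit 98560) (.node (nat_lit 98480) l2461 (.node (nat_lit 98520) l2462 l2463)) (.node (nat_lit 98600) l2464 (.node (nat_lit 98640) l2465 l2466)))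
noncomputable def n459 : T := (.node (nat_lit 98800) (.node (nat_lit 98720) l2467 (.node (nat_lit 98760) l2468 l2469)) (.node (nat_lit 98840) l2470 (.node (nat_lit 98880) l2471 l2472)))
noncomputable def n460 : T := (.node (nat_lit 99040) (.node (nat_lit 98960) l2473 (.node (nat_lit 99000) l2474 l2475)) (.node (nat_lit 99080) l2476 (.node (nat_lit 99120) l2477 l2478)))
noncomputable def n461 : T := (.node (nat_lit 95600) (.node (nat_lit 93840) (.node (nat_lit 92960) (.node (nat_lit 92520) (.node (nat_lit 92280) n429 n430) (.node (nat_lit 92720) n431 n432)) (.node (nat_lit 93400) (.node (nat_lit 93160) n433 n434) (.node (nat_lit 93600) n435 n436))) (.node (nat_lit 94720) (.node (nat_lit 94280) (.node (nat_lit 94040) n437 n438) (.node (nat_lit 94480) n439 n440)) (.node (nat_lit 95160) (.node (nat_lit 94920) n441 n442) (.node (nat_lit 95360) n443 n444)))) (.node (nat_lit 97360) (.node (nat_lit 96480) (.node (nat_lit 96040) (.node (nat_lit 95800) n445 n446) (.node (nat_lit 96240) n447 n448)) (.node (nat_lit 96920) (.node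 (nat_lit 96680) n449 n450) (.node (nat_lit 97120) n451 n452))) (.node (nat_lit 98240) (.node (nat_lit 97800) (.node (nat_lit 97560) n453 n454) (.node (nat_lit 98000) n455 n456)) (.node (nat_lit 98680) (.node (nat_lit 98440) n457 n458) (.node (nat_lit 98920) n459 n460)))))
noncomputable def n462 : T := (.node (nat_lit 99240) (.node (nat_lit 99200) l2479 l2480) (.node (nat_lit 99280) l2481 (.node (nat_lit 99320) l2482 l2483)))
noncomputable def n463 : T := (.node (nat_lit 99480) (.node (nat_lit 99400) l2484 (.node (nat_lit 99440) l2485 l2486)) (.node (nat_lit 99520) l2487 (.node (nat_lit 99560) l2488 l2489)))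
noncomputable def n464 : T := (.node (nat_lit 99680) (.node (nat_lit 99640) l2490 l2491) (.node (nat_lit 99720) l2492 (.node (nat_lit 99760) l2493 l2494)))
noncomputable def n465 : T := (.node (nat_lit 99920) (.node (nat_lit 99840) l2495 (.node (nat_lit 99880) l2496 l2497)) (.node (nat_lit 99960) l2498 (.node (nat_lit 100000) l2499 l2500)))
noncomputable def n466 : T := (.node (nat_lit 100120) (.node (nat_lit 100080) l2501 l2502) (.node (nat_lit 100160) l2503 (.node (nat_lit 100200) l2504 l2505)))
noncomputable def n467 : T := (.node (nat_lit 100360) (.node (nat_lit 100280) l2506 (.node (nat_lit 100320) l2507 l2508)) (.node (nat_lit 100400) l2509 (.node (nat_lit 100440) l2510 l2511)))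
noncomputable def n468 : T := (.node (nat_lit 100560) (.node (nat_lit 100520) l2512 l2513) (.node (nat_lit 100600) l2514 (.node (nat_lit 100640) l2515 l2516)))
noncomputable def n469 : T := (.node (nat_lit 100800) (.node (nat_lit 100720) l2517 (.node (nat_lit 100760) l2518 l2519)) (.node (nat_lit 100840) l2520 (.node (nat_lit 100880) l2521 l2522)))
noncomputable def n470 : T := (.node (nat_lit 101000) (.node (nat_lit 100960) l2523 l2524) (.node (nat_lit 101040) l2525 (.node (nat_lit 101080) l2526 l2527)))
noncomputable def n471 : T := (.node (nat_lit 101240) (.node (nat_lit 101160) l2528 (.node (nat_lit 101200) l2529 l2530)) (.node (nat_lit 101280) l2531 (.node (nat_lit 101320) l2532 l2533)))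
noncomputable def n472 : T := (.node (nat_lit 101440) (.node (nat_lit 101400) l2534 l2535) (.node (nat_lit 101480) l2536 (.node (nat_lit 101520) l2537 l2538)))
noncomputable def n473 : T := (.node (nat_lit 101680) (.node (nat_lit 101600) l2539 (.node (nat_lit 101640) l2540 l2541)) (.node (nat_lit 101720) l2542 (.node (nat_lit 101760) l2543 l2544)))
noncomputable def n474 : T := (.node (nat_lit 101880) (.node (nat_lit 101840) l2545 l2546) (.node (nat_lit 101920) l2547 (.node (nat_lit 101960) l2548 l2549)))
noncomputable def n475 : T := (.node (nat_lit 102120) (.node (nat_lit 102040) l2550 (.node (nat_lit 102080) l2551 l2552)) (.node (nat_lit 102160) l2553 (.node (nat_lit 102200) l2554 l2555)))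
noncomputable def n476 : T := (.node (nat_lit 102320) (.node (nat_lit 102280) l2556 l2557) (.node (nat_lit 102360) l2558 (.node (nat_lit 102400) l2559 l2560)))
noncomputable def n477 : T := (.node (nat_lit 102560) (.node (nat_lit 102480) l2561 (.node (nat_lit 102520) l2562 l2563)) (.node (nat_lit 102600) l2564 (.node (nat_lit 102640) l2565 l2566)))
noncomputable def n478 : T := (.node (nat_lit 102760) (.node (nat_lit 102720) l2567 l2568) (.node (nat_lit 102800) l2569 (.node (nat_lit 102840) l2570 l2571)))
noncomputable def n479 : T := (.node (nat_lit 103000) (.node (nat_lit 102920) l2572 (.node (nat_lit 102960) l2573 l2574)) (.node (nat_lit 103040) l2575 (.node (nat_lit 103080) l2576 l2577)))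
noncomputable def n480 : T := (.node (nat_lit 103200) (.node (nat_lit 103160) l2578 l2579) (.node (nat_lit 103240) l2580 (.node (nat_lit 103280) l2581 l2582)))
noncomputable def n481 : T := (.node (nat_lit 103440) (.node (nat_lit 103360) l2583 (.node (nat_lit 103400) l2584 l2585)) (.node (nat_lit 103480) l2586 (.node (nat_lit 103520) l2587 l2588)))
noncomputable def n482 : T := (.node (nat_lit 103640) (.node (nat_lit 103600) l2589 l2590) (.node (nat_lit 103680) l2591 (.node (nat_lit 103720) l2592 l2593)))
noncomputable def n483 : T := (.node (nat_lit 103880) (.node (nat_lit 103800) l2594 (.node (nat_lit 103840) l2595 l2596)) (.node (nat_lit 103920) l2597 (.node (nat_lit 103960) l2598 l2599)))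
noncomputable def n484 : T := (.node (nat_lit 104080) (.node (nat_lit 104040) l2600 l2601) (.node (nat_lit 104120) l2602 (.node (nat_lit 104160) l2603 l2604)))
noncomputable def n485 : T := (.node (nat_lit 104320) (.node (nat_lit 104240) l2605 (.node (nat_lit 104280) l2606 l2607)) (.node (nat_lit 104360) l2608 (.node (nat_lit 104400) l2609 l2610)))
noncomputable def n486 : T := (.node (nat_lit 104520) (.node (nat_lit 104480) l2611 l2612) (.node (nat_lit 104560) l2613 (.node (nat_lit 104600) l2614 l2615)))
noncomputable def n487 : T := (.node (nat_lit 104760) (.node (nat_lit 104680) l2616 (.node (nat_lit 104720) l2617 l2618)) (.node (nat_lit 104800) l2619 (.node (nat_lit 104840) l2620 l2621)))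
noncomputable def n488 : T := (.node (nat_lit 104960) (.node (nat_lit 104920) l2622 l2623) (.node (nat_lit 105000) l2624 (.node (nat_lit 105040) l2625 l2626)))
noncomputable def n489 : T := (.node (nat_lit 105200) (.node (nat_lit 105120) l2627 (.node (nat_lit 105160) l2628 l2629)) (.node (nat_lit 105240) l2630 (.node (nat_lit 105280) l2631 l2632)))
noncomputable def n490 : T := (.node (nat_lit 105400) (.node (nat_lit 105360) l2633 l2634) (.node (nat_lit 105440) l2635 (.node (nat_lit 105480) l2636 l2637)))
noncomputable def n491 : T := (.node (nat_lit 105640) (.node (nat_lit 105560) l2638 (.node (nat_lit 105600) l2639 l2640)) (.node (nat_lit 105680) l2641 (.node (nat_lit 105720) l2642 l2643)))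
noncomputable def n492 : T := (.node (nat_lit 105880) (.node (nat_lit 105800) l2644 (.node (nat_lit 105840) l2645 l2646)) (.node (nat_lit 105920) l2647 (.node (nat_lit 105960) l2648 l2649)))
noncomputable def n493 : T := (.node (nat_lit 106120) (.node (nat_lit 106040) l2650 (.node (nat_lit 106080) l2651 l2652)) (.node (nat_lit 106160) l2653 (.node (nat_lit 106200) l2654 l2655)))
noncomputable def n494 : T := (.node (nat_lit 102680) (.node (nat_lit 100920) (.node (nat_lit 100040) (.node (nat_lit 99600) (.node (nat_lit 99360) n462 n463) (.node (nat_lit 99800) n464 n465)) (.node (nat_lit 100480) (.node (nat_lit 100240) n466 n467) (.node (nat_lit 100680) n468 n469))) (.node (nat_lit 101800) (.node (nat_lit 101360) (.node (nat_lit 101120) n470 n471) (.node (nat_lit 101560) n472 n473)) (.node (nat_lit 102240) (.node (nat_lit 102000) n474 n475) (.node (nat_lit 102440) n476 n477)))) (.node (nat_lit 104440) (.node (nat_lit 103560) (.node (nat_lit 103120) (.node (nat_lit 102880) n478 n479) (.node (nat_lit 103320) n480 n481)) (.node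 (nat_lit 104000) (.node (nat_lit 103760) n482 n483) (.node (nat_lit 104200) n484 n485))) (.node (nat_lit 105320) (.node (nat_lit 104880) (.node (nat_lit 104640) n486 n487) (.node (nat_lit 105080) n488 n489)) (.node (nat_lit 105760) (.node (nat_lit 105520) n490 n491) (.node (nat_lit 106000) n492 n493)))))
noncomputable def n495 : T := (.node (nat_lit 106320) (.node (nat_lit 106280) l2656 l2657) (.node (nat_lit 106360) l2658 (.node (nat_lit 106400) l2659 l2660)))
noncomputable def n496 : T := (.node (nat_lit 106560) (.node (nat_lit 106480) l2661 (.node (nat_lit 106520) l2662 l2663)) (.node (nat_lit 106600) l2664 (.node (nat_lit 106640) l2665 l2666)))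
noncomputable def n497 : T := (.node (nat_lit 106760) (.node (nat_lit 106720) l2667 l2668) (.node (nat_lit 106800) l2669 (.node (nat_lit 106840) l2670 l2671)))
noncomputable def n498 : T := (.node (nat_lit 107000) (.node (nat_lit 106920) l2672 (.node (nat_lit 106960) l2673 l2674)) (.node (nat_lit 107040) l2675 (.node (nat_lit 107080) l2676 l2677)))
noncomputable def n499 : T := (.node (nat_lit 107200) (.node (nat_lit 107160) l2678 l2679) (.node (nat_lit 107240) l2680 (.node (nat_lit 107280) l2681 l2682)))
noncomputable def n500 : T := (.node (nat_lit 107440) (.node (nat_lit 107360) l2683 (.node (nat_lit 107400) l2684 l2685)) (.node (nat_lit 107480) l2686 (.node (nat_lit 107520) l2687 l2688)))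
noncomputable def n501 : T := (.node (nat_lit 107640) (.node (nat_lit 107600) l2689 l2690) (.node (nat_lit 107680) l2691 (.node (nat_lit 107720) l2692 l2693)))
noncomputable def n502 : T := (.node (nat_lit 107880) (.node (nat_lit 107800) l2694 (.node (nat_lit 107840) l2695 l2696)) (.node (nat_lit 107920) l2697 (.node (nat_lit 107960) l2698 l2699)))
noncomputable def n503 : T := (.node (nat_lit 108080) (.node (nat_lit 108040) l2700 l2701) (.node (nat_lit 108120) l2702 (.node (nat_lit 108160) l2703 l2704)))
noncomputable def n504 : T := (.node (nat_lit 108320) (.node (nat_lit 108240) l2705 (.node (nat_lit 108280) l2706 l2707)) (.node (nat_lit 108360) l2708 (.node (nat_lit 108400) l2709 l2710)))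
noncomputable def n505 : T := (.node (nat_lit 108520) (.node (nat_lit 108480) l2711 l2712) (.node (nat_lit 108560) l2713 (.node (nat_lit 108600) l2714 l2715)))
noncomputable def n506 : T := (.node (nat_lit 108760) (.node (nat_lit 108680) l2716 (.node (nat_lit 108720) l2717 l2718)) (.node (nat_lit 108800) l2719 (.node (nat_lit 108840) l2720 l2721)))
noncomputable def n507 : T := (.node (nat_lit 108960) (.node (nat_lit 108920) l2722 l2723) (.node (nat_lit 109000) l2724 (.node (nat_lit 109040) l2725 l2726)))
noncomputable def n508 : T := (.node (nat_lit 109200) (.node (nat_lit 109120) l2727 (.node (nat_lit 109160) l2728 l2729)) (.node (nat_lit 109240) l2730 (.node (nat_lit 109280) l2731 l2732)))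
noncomputable def n509 : T := (.node (nat_lit 109440) (.node (nat_lit 109360) l2733 (.node (nat_lit 109400) l2734 l2735)) (.node (nat_lit 109480) l2736 (.node (nat_lit 109520) l2737 l2738)))
noncomputable def n510 : T := (.node (nat_lit 109680) (.node (nat_lit 109600) l2739 (.node (nat_lit 109640) l2740 l2741)) (.node (nat_lit 109720) l2742 (.node (nat_lit 109760) l2743 l2744)))
noncomputable def n511 : T := (.node (nat_lit 109880) (.node (nat_lit 109840) l2745 l2746) (.node (nat_lit 109920) l2747 (.node (nat_lit 109960) l2748 l2749)))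
noncomputable def n512 : T := (.node (nat_lit 110120) (.node (nat_lit 110040) l2750 (.node (nat_lit 110080) l2751 l2752)) (.node (nat_lit 110160) l2753 (.node (nat_lit 110200) l2754 l2755)))
noncomputable def n513 : T := (.node (nat_lit 110320) (.node (nat_lit 110280) l2756 l2757) (.node (nat_lit 110360) l2758 (.node (nat_lit 110400) l2759 l2760)))
noncomputable def n514 : T := (.node (nat_lit 110560) (.node (nat_lit 110480) l2761 (.node (nat_lit 110520) l2762 l2763)) (.node (nat_lit 110600) l2764 (.node (nat_lit 110640) l2765 l2766)))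
noncomputable def n515 : T := (.node (nat_lit 110760) (.node (nat_lit 110720) l2767 l2768) (.node (nat_lit 110800) l2769 (.node (nat_lit 110840) l2770 l2771)))
noncomputable def n516 : T := (.node (nat_lit 111000) (.node (nat_lit 110920) l2772 (.node (nat_lit 110960) l2773 l2774)) (.node (nat_lit 111040) l2775 (.node (nat_lit 111080) l2776 l2777)))
noncomputable def n517 : T := (.node (nat_lit 111200) (.node (nat_lit 111160) l2778 l2779) (.node (nat_lit 111240) l2780 (.node (nat_lit 111280) l2781 l2782)))
noncomputable def n518 : T := (.node (nat_lit 111440) (.node (nat_lit 111360) l2783 (.node (nat_lit 111400) l2784 l2785)) (.node (nat_lit 111480) l2786 (.node (nat_lit 111520) l2787 l2788)))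
noncomputable def n519 : T := (.node (nat_lit 111640) (.node (nat_lit 111600) l2789 l2790) (.node (nat_lit 111680) l2791 (.node (nat_lit 111720) l2792 l2793)))
noncomputable def n520 : T := (.node (nat_lit 111880) (.node (nat_lit 111800) l2794 (.node (nat_lit 111840) l2795 l2796)) (.node (nat_lit 111920) l2797 (.node (nat_lit 111960) l2798 l2799)))
noncomputable def n521 : T := (.node (nat_lit 112080) (.node (nat_lit 112040) l2800 l2801) (.node (nat_lit 112120) l2802 (.node (nat_lit 112160) l2803 l2804)))
noncomputable def n522 : T := (.node (nat_lit 112320) (.node (nat_lit 112240) l2805 (.node (nat_lit 112280) l2806 l2807)) (.node (nat_lit 112360) l2808 (.node (nat_lit 112400) l2809 l2810)))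
noncomputable def n523 : T := (.node (nat_lit 112520) (.node (nat_lit 112480) l2811 l2812) (.node (nat_lit 112560) l2813 (.node (nat_lit 112600) l2814 l2815)))
noncomputable def n524 : T := (.node (nat_lit 112760) (.node (nat_lit 112680) l2816 (.node (nat_lit 112720) l2817 l2818)) (.node (nat_lit 112800) l2819 (.node (nat_lit 112840) l2820 l2821)))
noncomputable def n525 : T := (.node (nat_lit 113000) (.node (nat_lit 112920) l2822 (.node (nat_lit 112960) l2823 l2824)) (.node (nat_lit 113040) l2825 (.node (nat_lit 113080) l2826 l2827)))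
noncomputable def n526 : T := (.node (nat_lit 113240) (.node (nat_lit 113160) l2828 (.node (nat_lit 113200) l2829 l2830)) (.node (nat_lit 113280) l2831 (.node (nat_lit 113320) l2832 l2833)))
noncomputable def n527 : T := (.node (nat_lit 109800) (.node (nat_lit 108000) (.node (nat_lit 107120) (.node (nat_lit 106680) (.node (nat_lit 106440) n495 n496) (.node (nat_lit 106880) n497 n498)) (.node (nat_lit 107560) (.node (nat_lit 107320) n499 n500) (.node (nat_lit 107760) n501 n502))) (.node (nat_lit 108880) (.node (nat_lit 108440) (.node (nat_lit 108200) n503 n504) (.node (nat_lit 108640) n505 n506)) (.node (nat_lit 109320) (.node (nat_lit 109080) n507 n508) (.node (nat_lit 109560) n509 n510)))) (.node (nat_lit 111560) (.node (nat_lit 110680) (.node (nat_lit 110240) (.node (nat_lit 110000) n511 n512) (.node (nat_lit 110440) n513 n514)) (.node (nat_lit 111120) (.node (nat_lit 110880) n515 n516) (.node (nat_lit 111320) n517 n518))) (.node (nat_lit 112440) (.node (nat_lit 112000) (.node (nat_lit 111760) n519 n520) (.node (nat_lit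 112200) n521 n522)) (.node (nat_lit 112880) (.node (nat_lit 112640) n523 n524) (.node (nat_lit 113120) n525 n526)))))
noncomputable def n528 : T := (.node (nat_lit 113440) (.node (nat_lit 113400) l2834 l2835) (.node (nat_lit 113480) l2836 (.node (nat_lit 113520) l2837 l2838)))
noncomputable def n529 : T := (.node (nat_lit 113680) (.node (nat_lit 113600) l2839 (.node (nat_lit 113640) l2840 l2841)) (.node (nat_lit 113720) l2842 (.node (nat_lit 113760) l2843 l2844)))
noncomputable def n530 : T := (.node (nat_lit 113880) (.node (nat_lit 113840) l2845 l2846) (.node (nat_lit 113920) l2847 (.node (nat_lit 113960) l2848 l2849)))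
noncomputable def n531 : T := (.node (nat_lit 114120) (.node (nat_lit 114040) l2850 (.node (nat_lit 114080) l2851 l2852)) (.node (nat_lit 114160) l2853 (.node (nat_lit 114200) l2854 l2855)))
noncomputable def n532 : T := (.node (nat_lit 114320) (.node (nat_lit 114280) l2856 l2857) (.node (nat_lit 114360) l2858 (.node (nat_lit 114400) l2859 l2860)))
noncomputable def n533 : T := (.node (nat_lit 114560) (.node (nat_lit 114480) l2861 (.node (nat_lit 114520) l2862 l2863)) (.node (nat_lit 114600) l2864 (.node (nat_lit 114640) l2865 l2866)))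
noncomputable def n534 : T := (.node (nat_lit 114760) (.node (nat_lit 114720) l2867 l2868) (.node (nat_lit 114800) l2869 (.node (nat_lit 114840) l2870 l2871)))
noncomputable def n535 : T := (.node (nat_lit 115000) (.node (nat_lit 114920) l2872 (.node (nat_lit 114960) l2873 l2874)) (.node (nat_lit 115040) l2875 (.node (nat_lit 115080) l2876 l2877)))
noncomputable def n536 : T := (.node (nat_lit 115200) (.node (nat_lit 115160) l2878 l2879) (.node (nat_lit 115240) l2880 (.node (nat_lit 115280) l2881 l2882)))
noncomputable def n537 : T := (.node (nat_lit 115440) (.node (nat_lit 115360) l2883 (.node (nat_lit 115400) l2884 l2885)) (.node (nat_lit 115480) l2886 (.node (nat_lit 115520) l2887 l2888)))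
noncomputable def n538 : T := (.node (nat_lit 115640) (.node (nat_lit 115600) l2889 l2890) (.node (nat_lit 115680) l2891 (.node (nat_lit 115720) l2892 l2893)))
noncomputable def n539 : T := (.node (nat_lit 115880) (.node (nat_lit 115800) l2894 (.node (nat_lit 115840) l2895 l2896)) (.node (nat_lit 115920) l2897 (.node (nat_lit 115960) l2898 l2899)))
noncomputable def n540 : T := (.node (nat_lit 116080) (.node (nat_lit 116040) l2900 l2901) (.node (nat_lit 116120) l2902 (.node (nat_lit 116160) l2903 l2904)))
noncomputable def n541 : T := (.node (nat_lit 116320) (.node (nat_lit 116240) l2905 (.node (nat_lit 116280) l2906 l2907)) (.node (nat_lit 116360) l2908 (.node (nat_lit 116400) l2909 l2910)))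
noncomputable def n542 : T := (.node (nat_lit 116520) (.node (nat_lit 116480) l2911 l2912) (.node (nat_lit 116560) l2913 (.node (nat_lit 116600) l2914 l2915)))
noncomputable def n543 : T := (.node (nat_lit 116760) (.node (nat_lit 116680) l2916 (.node (nat_lit 116720) l2917 l2918)) (.node (nat_lit 116800) l2919 (.node (nat_lit 116840) l2920 l2921)))
noncomputable def n544 : T := (.node (nat_lit 116960) (.node (nat_lit 116920) l2922 l2923) (.node (nat_lit 117000) l2924 (.node (nat_lit 117040) l2925 l2926)))
noncomputable def n545 : T := (.node (nat_lit 117200) (.node (nat_lit 117120) l2927 (.node (nat_lit 117160) l2928 l2929)) (.node (nat_lit 117240) l2930 (.node (nat_lit 117280) l2931 l2932)))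
noncomputable def n546 : T := (.node (nat_lit 117400) (.node (nat_lit 117360) l2933 l2934) (.node (nat_lit 117440) l2935 (.node (nat_lit 117480) l2936 l2937)))
noncomputable def n547 : T := (.node (nat_lit 117640) (.node (nat_lit 117560) l2938 (.node (nat_lit 117600) l2939 l2940)) (.node (nat_lit 117680) l2941 (.node (nat_lit 117720) l2942 l2943)))
noncomputable def n548 : T := (.node (nat_lit 117840) (.node (nat_lit 117800) l2944 l2945) (.node (nat_lit 117880) l2946 (.node (nat_lit 117920) l2947 l2948)))
noncomputable def n549 : T := (.node (nat_lit 118080) (.node (nat_lit 118000) l2949 (.node (nat_lit 118040) l2950 l2951)) (.node (nat_lit 118120) l2952 (.node (nat_lit 118160) l2953 l2954)))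
noncomputable def n550 : T := (.node (nat_lit 118280) (.node (nat_lit 118240) l2955 l2956) (.node (nat_lit 118320) l2957 (.node (nat_lit 118360) l2958 l2959)))
noncomputable def n551 : T := (.node (nat_lit 118520) (.node (nat_lit 118440) l2960 (.node (nat_lit 118480) l2961 l2962)) (.node (nat_lit 118560) l2963 (.node (nat_lit 118600) l2964 l2965)))
noncomputable def n552 : T := (.node (nat_lit 118720) (.node (nat_lit 118680) l2966 l2967) (.node (nat_lit 118760) l2968 (.node (nat_lit 118800) l2969 l2970)))
noncomputable def n553 : T := (.node (nat_lit 118960) (.node (nat_lit 118880) l2971 (.node (nat_lit 118920) l2972 l2973)) (.node (nat_lit 119000) l2974 (.node (nat_lit 119040) l2975 l2976)))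
noncomputable def n554 : T := (.node (nat_lit 119160) (.node (nat_lit 119120) l2977 l2978) (.node (nat_lit 119200) l2979 (.node (nat_lit 119240) l2980 l2981)))
noncomputable def n555 : T := (.node (nat_lit 119400) (.node (nat_lit 119320) l2982 (.node (nat_lit 119360) l2983 l2984)) (.node (nat_lit 119440) l2985 (.node (nat_lit 119480) l2986 l2987)))
noncomputable def n556 : T := (.node (nat_lit 119600) (.node (nat_lit 119560) l2988 l2989) (.node (nat_lit 119640) l2990 (.node (nat_lit 119680) l2991 l2992)))
noncomputable def n557 : T := (.node (nat_lit 119840) (.node (nat_lit 119760) l2993 (.node (nat_lit 119800) l2994 l2995)) (.node (nat_lit 119880) l2996 (.node (nat_lit 119920) l2997 l2998)))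
noncomputable def n558 : T := (.node (nat_lit 120080) (.node (nat_lit 120000) l2999 (.node (nat_lit 120040) l3000 l3001)) (.node (nat_lit 120120) l3002 (.node (nat_lit 120160) l3003 l3004)))
noncomputable def n559 : T := (.node (nat_lit 120320) (.node (nat_lit 120240) l3005 (.node (nat_lit 120280) l3006 l3007)) (.node (nat_lit 120360) l3008 (.node (nat_lit 120400) l3009 l3010)))
noncomputable def n560 : T := (.node (nat_lit 116880) (.node (nat_lit 115120) (.node (nat_lit 114240) (.node (nat_lit 113800) (.node (nat_lit 113560) n528 n529) (.node (nat_lit 114000) n530 n531)) (.node (nat_lit 114680) (.node (nat_lit 114440) n532 n533) (.node (nat_lit 114880) n534 n535))) (.node (nat_lit 116000) (.node (nat_lit 115560) (.node (nat_lit 115320) n536 n537) (.node (nat_lit 115760) n538 n539)) (.node (nat_lit 116440) (.node (nat_lit 116200) n540 n541) (.node (nat_lit 116640) n542 n543)))) (.node (nat_lit 118640) (.node (nat_lit 117760) (.node (nat_lit 117320) (.node (nat_lit 117080) n544 n545) (.node (nat_lit 117520) n546 n547))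 (.node (nat_lit 118200) (.node (nat_lit 117960) n548 n549) (.node (nat_lit 118400) n550 n551))) (.node (nat_lit 119520) (.node (nat_lit 119080) (.node (nat_lit 118840) n552 n553) (.node (nat_lit 119280) n554 n555)) (.node (nat_lit 119960) (.node (nat_lit 119720) n556 n557) (.node (nat_lit 120200) n558 n559)))))
noncomputable def n561 : T := (.node (nat_lit 120520) (.node (nat_lit 120480) l3011 l3012) (.node (nat_lit 120560) l3013 (.node (nat_lit 120600) l3014 l3015)))
noncomputable def n562 : T := (.node (nat_lit 120760) (.node (nat_lit 120680) l3016 (.node (nat_lit 120720) l3017 l3018)) (.node (nat_lit 120800) l3019 (.node (nat_lit 120840) l3020 l3021)))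
noncomputable def n563 : T := (.node (nat_lit 120960) (.node (nat_lit 120920) l3022 l3023) (.node (nat_lit 121000) l3024 (.node (nat_lit 121040) l3025 l3026)))
noncomputable def n564 : T := (.node (nat_lit 121200) (.node (nat_lit 121120) l3027 (.node (nat_lit 121160) l3028 l3029)) (.node (nat_lit 121240) l3030 (.node (nat_lit 121280) l3031 l3032)))
noncomputable def n565 : T := (.node (nat_lit 121400) (.node (nat_lit 121360) l3033 l3034) (.node (nat_lit 121440) l3035 (.node (nat_lit 121480) l3036 l3037)))
noncomputable def n566 : T := (.node (nat_lit 121640) (.node (nat_lit 121560) l3038 (.node (nat_lit 121600) l3039 l3040)) (.node (nat_lit 121680) l3041 (.node (nat_lit 121720) l3042 l3043)))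
noncomputable def n567 : T := (.node (nat_lit 121840) (.node (nat_lit 121800) l3044 l3045) (.node (nat_lit 121880) l3046 (.node (nat_lit 121920) l3047 l3048)))
noncomputable def n568 : T := (.node (nat_lit 122080) (.node (nat_lit 122000) l3049 (.node (nat_lit 122040) l3050 l3051)) (.node (nat_lit 122120) l3052 (.node (nat_lit 122160) l3053 l3054)))
noncomputable def n569 : T := (.node (nat_lit 122280) (.node (nat_lit 122240) l3055 l3056) (.node (nat_lit 122320) l3057 (.node (nat_lit 122360) l3058 l3059)))
noncomputable def n570 : T := (.node (nat_lit 122520) (.node (nat_lit 122440) l3060 (.node (nat_lit 122480) l3061 l3062)) (.node (nat_lit 122560) l3063 (.node (nat_lit 122600) l3064 l3065)))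
noncomputable def n571 : T := (.node (nat_lit 122720) (.node (nat_lit 122680) l3066 l3067) (.node (nat_lit 122760) l3068 (.node (nat_lit 122800) l3069 l3070)))
noncomputable def n572 : T := (.node (nat_lit 122960) (.node (nat_lit 122880) l3071 (.node (nat_lit 122920) l3072 l3073)) (.node (nat_lit 123000) l3074 (.node (nat_lit 123040) l3075 l3076)))
noncomputable def n573 : T := (.node (nat_lit 123160) (.node (nat_lit 123120) l3077 l3078) (.node (nat_lit 123200) l3079 (.node (nat_lit 123240) l3080 l3081)))
noncomputable def n574 : T := (.node (nat_lit 123400) (.node (nat_lit 123320) l3082 (.node (nat_lit 123360) l3083 l3084)) (.node (nat_lit 123440) l3085 (.node (nat_lit 123480) l3086 l3087)))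
noncomputable def n575 : T := (.node (nat_lit 123600) (.node (nat_lit 123560) l3088 l3089) (.node (nat_lit 123640) l3090 (.node (nat_lit 123680) l3091 l3092)))
noncomputable def n576 : T := (.node (nat_lit 123840) (.node (nat_lit 123760) l3093 (.node (nat_lit 123800) l3094 l3095)) (.node (nat_lit 123880) l3096 (.node (nat_lit 123920) l3097 l3098)))
noncomputable def n577 : T := (.node (nat_lit 124040) (.node (nat_lit 124000) l3099 l3100) (.node (nat_lit 124080) l3101 (.node (nat_lit 124120) l3102 l3103)))
noncomputable def n578 : T := (.node (nat_lit 124280) (.node (nat_lit 124200) l3104 (.node (nat_lit 124240) l3105 l3106)) (.node (nat_lit 124320) l3107 (.node (nat_lit 124360) l3108 l3109)))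
noncomputable def n579 : T := (.node (nat_lit 124480) (.node (nat_lit 124440) l3110 l3111) (.node (nat_lit 124520) l3112 (.node (nat_lit 124560) l3113 l3114)))
noncomputable def n580 : T := (.node (nat_lit 124720) (.node (nat_lit 124640) l3115 (.node (nat_lit 124680) l3116 l3117)) (.node (nat_lit 124760) l3118 (.node (nat_lit 124800) l3119 l3120)))
noncomputable def n581 : T := (.node (nat_lit 124920) (.node (nat_lit 124880) l3121 l3122) (.node (nat_lit 124960) l3123 (.node (nat_lit 125000) l3124 l3125)))
noncomputable def n582 : T := (.node (nat_lit 125160) (.node (nat_lit 125080) l3126 (.node (nat_lit 125120) l3127 l3128)) (.node (nat_lit 125200) l3129 (.node (nat_lit 125240) l3130 l3131)))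
noncomputable def n583 : T := (.node (nat_lit 125360) (.node (nat_lit 125320) l3132 l3133) (.node (nat_lit 125400) l3134 (.node (nat_lit 125440) l3135 l3136)))
noncomputable def n584 : T := (.node (nat_lit 125600) (.node (nat_lit 125520) l3137 (.node (nat_lit 125560) l3138 l3139)) (.node (nat_lit 125640) l3140 (.node (nat_lit 125680) l3141 l3142)))
noncomputable def n585 : T := (.node (nat_lit 125800) (.node (nat_lit 125760) l3143 l3144) (.node (nat_lit 125840) l3145 (.node (nat_lit 125880) l3146 l3147)))
noncomputable def n586 : T := (.node (nat_lit 126040) (.node (nat_lit 125960) l3148 (.node (nat_lit 126000) l3149 l3150)) (.node (nat_lit 126080) l3151 (.node (nat_lit 126120) l3152 l3153)))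
noncomputable def n587 : T := (.node (nat_lit 126240) (.node (nat_lit 126200) l3154 l3155) (.node (nat_lit 126280) l3156 (.node (nat_lit 126320) l3157 l3158)))
noncomputable def n588 : T := (.node (nat_lit 126480) (.node (nat_lit 126400) l3159 (.node (nat_lit 126440) l3160 l3161)) (.node (nat_lit 126520) l3162 (.node (nat_lit 126560) l3163 l3164)))
noncomputable def n589 : T := (.node (nat_lit 126680) (.node (nat_lit 126640) l3165 l3166) (.node (nat_lit 126720) l3167 (.node (nat_lit 126760) l3168 l3169)))
noncomputable def n590 : T := (.node (nat_lit 126920) (.node (nat_lit 126840) l3170 (.node (nat_lit 126880) l3171 l3172)) (.node (nat_lit 126960) l3173 (.node (nat_lit 127000) l3174 l3175)))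
noncomputable def n591 : T := (.node (nat_lit 127160) (.node (nat_lit 127080) l3176 (.node (nat_lit 127120) l3177 l3178)) (.node (nat_lit 127200) l3179 (.node (nat_lit 127240) l3180 l3181)))
noncomputable def n592 : T := (.node (nat_lit 127400) (.node (nat_lit 127320) l3182 (.node (nat_lit 127360) l3183 l3184)) (.node (nat_lit 127440) l3185 (.node (nat_lit 127480) l3186 l3187)))
noncomputable def n593 : T := (.node (nat_lit 123960) (.node (nat_lit 122200) (.node (nat_lit 121320) (.node (nat_lit 120880) (.node (nat_lit 120640) n561 n562) (.node (nat_lit 121080) n563 n564)) (.node (nat_lit 121760) (.node (nat_lit 121520) n565 n566) (.node (nat_lit 121960) n567 n568))) (.node (nat_lit 123080) (.node (nat_lit 122640) (.node (nat_lit 122400) n569 n570) (.node (nat_lit 122840) n571 n572)) (.node (nat_lit 123520) (.node (nat_lit 123280) n573 n574) (.node (nat_lit 123720) n575 n576)))) (.node (nat_lit 125720) (.node (nat_lit 124840) (.node (nat_lit 124400) (.node (nat_lit 124160) n577 n578) (.node (nat_lit 124600) n579 n580))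 (.node (nat_lit 125280) (.node (nat_lit 125040) n581 n582) (.node (nat_lit 125480) n583 n584))) (.node (nat_lit 126600) (.node (nat_lit 126160) (.node (nat_lit 125920) n585 n586) (.node (nat_lit 126360) n587 n588)) (.node (nat_lit 127040) (.node (nat_lit 126800) n589 n590) (.node (nat_lit 127280) n591 n592)))))
noncomputable def n594 : T := (.node (nat_lit 127600) (.node (nat_lit 127560) l3188 l3189) (.node (nat_lit 127640) l3190 (.node (nat_lit 127680) l3191 l3192)))
noncomputable def n595 : T := (.node (nat_lit 127840) (.node (nat_lit 127760) l3193 (.node (nat_lit 127800) l3194 l3195)) (.node (nat_lit 127880) l3196 (.node (nat_lit 127920) l3197 l3198)))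
noncomputable def n596 : T := (.node (nat_lit 128040) (.node (nat_lit 128000) l3199 l3200) (.node (nat_lit 128080) l3201 (.node (nat_lit 128120) l3202 l3203)))
noncomputable def n597 : T := (.node (nat_lit 128280) (.node (nat_lit 128200) l3204 (.node (nat_lit 128240) l3205 l3206)) (.node (nat_lit 128320) l3207 (.node (nat_lit 128360) l3208 l3209)))
noncomputable def n598 : T := (.node (nat_lit 128480) (.node (nat_lit 128440) l3210 l3211) (.node (nat_lit 128520) l3212 (.node (nat_lit 128560) l3213 l3214)))
noncomputable def n599 : T := (.node (nat_lit 128720) (.node (nat_lit 128640) l3215 (.node (nat_lit 128680) l3216 l3217)) (.node (nat_lit 128760) l3218 (.node (nat_lit 128800) l3219 l3220)))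
noncomputable def n600 : T := (.node (nat_lit 128920) (.node (nat_lit 128880) l3221 l3222) (.node (nat_lit 128960) l3223 (.node (nat_lit 129000) l3224 l3225)))
noncomputable def n601 : T := (.node (nat_lit 129160) (.node (nat_lit 129080) l3226 (.node (nat_lit 129120) l3227 l3228)) (.node (nat_lit 129200) l3229 (.node (nat_lit 129240) l3230 l3231)))
noncomputable def n602 : T := (.node (nat_lit 129360) (.node (nat_lit 129320) l3232 l3233) (.node (nat_lit 129400) l3234 (.node (nat_lit 129440) l3235 l3236)))
noncomputable def n603 : T := (.node (nat_lit 129600) (.node (nat_lit 129520) l3237 (.node (nat_lit 129560) l3238 l3239)) (.node (nat_lit 129640) l3240 (.node (nat_lit 129680) l3241 l3242)))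
noncomputable def n604 : T := (.node (nat_lit 129800) (.node (nat_lit 129760) l3243 l3244) (.node (nat_lit 129840) l3245 (.node (nat_lit 129880) l3246 l3247)))
noncomputable def n605 : T := (.node (nat_lit 130040) (.node (nat_lit 129960) l3248 (.node (nat_lit 130000) l3249 l3250)) (.node (nat_lit 130080) l3251 (.node (nat_lit 130120) l3252 l3253)))
noncomputable def n606 : T := (.node (nat_lit 130240) (.node (nat_lit 130200) l3254 l3255) (.node (nat_lit 130280) l3256 (.node (nat_lit 130320) l3257 l3258)))
noncomputable def n607 : T := (.node (nat_lit 130480) (.node (nat_lit 130400) l3259 (.node (nat_lit 130440) l3260 l3261)) (.node (nat_lit 130520) l3262 (.node (nat_lit 130560) l3263 l3264)))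
noncomputable def n608 : T := (.node (nat_lit 130680) (.node (nat_lit 130640) l3265 l3266) (.node (nat_lit 130720) l3267 (.node (nat_lit 130760) l3268 l3269)))
noncomputable def n609 : T := (.node (nat_lit 130920) (.node (nat_lit 130840) l3270 (.node (nat_lit 130880) l3271 l3272)) (.node (nat_lit 130960) l3273 (.node (nat_lit 131000) l3274 l3275)))
noncomputable def n610 : T := (.node (nat_lit 131120) (.node (nat_lit 131080) l3276 l3277) (.node (nat_lit 131160) l3278 (.node (nat_lit 131200) l3279 l3280)))
noncomputable def n611 : T := (.node (nat_lit 131360) (.node (nat_lit 131280) l3281 (.node (nat_lit 131320) l3282 l3283)) (.node (nat_lit 131400) l3284 (.node (nat_lit 131440) l3285 l3286)))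
noncomputable def n612 : T := (.node (nat_lit 131560) (.node (nat_lit 131520) l3287 l3288) (.node (nat_lit 131600) l3289 (.node (nat_lit 131640) l3290 l3291)))
noncomputable def n613 : T := (.node (nat_lit 131800) (.node (nat_lit 131720) l3292 (.node (nat_lit 131760) l3293 l3294)) (.node (nat_lit 131840) l3295 (.node (nat_lit 131880) l3296 l3297)))
noncomputable def n614 : T := (.node (nat_lit 132000) (.node (nat_lit 131960) l3298 l3299) (.node (nat_lit 132040) l3300 (.node (nat_lit 132080) l3301 l3302)))
noncomputable def n615 : T := (.node (nat_lit 132240) (.node (nat_lit 132160) l3303 (.node (nat_lit 132200) l3304 l3305)) (.node (nat_lit 132280) l3306 (.node (nat_lit 132320) l3307 l3308)))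
noncomputable def n616 : T := (.node (nat_lit 132440) (.node (nat_lit 132400) l3309 l3310) (.node (nat_lit 132480) l3311 (.node (nat_lit 132520) l3312 l3313)))
noncomputable def n617 : T := (.node (nat_lit 132680) (.node (nat_lit 132600) l3314 (.node (nat_lit 132640) l3315 l3316)) (.node (nat_lit 132720) l3317 (.node (nat_lit 132760) l3318 l3319)))
noncomputable def n618 : T := (.node (nat_lit 132880) (.node (nat_lit 132840) l3320 l3321) (.node (nat_lit 132920) l3322 (.node (nat_lit 132960) l3323 l3324)))
noncomputable def n619 : T := (.node (nat_lit 133120) (.node (nat_lit 133040) l3325 (.node (nat_lit 133080) l3326 l3327)) (.node (nat_lit 133160) l3328 (.node (nat_lit 133200) l3329 l3330)))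
noncomputable def n620 : T := (.node (nat_lit 133320) (.node (nat_lit 133280) l3331 l3332) (.node (nat_lit 133360) l3333 (.node (nat_lit 133400) l3334 l3335)))
noncomputable def n621 : T := (.node (nat_lit 133560) (.node (nat_lit 133480) l3336 (.node (nat_lit 133520) l3337 l3338)) (.node (nat_lit 133600) l3339 (.node (nat_lit 133640) l3340 l3341)))
noncomputable def n622 : T := (.node (nat_lit 133760) (.node (nat_lit 133720) l3342 l3343) (.node (nat_lit 133800) l3344 (.node (nat_lit 133840) l3345 l3346)))
noncomputable def n623 : T := (.node (nat_lit 134000) (.node (nat_lit 133920) l3347 (.node (nat_lit 133960) l3348 l3349)) (.node (nat_lit 134040) l3350 (.node (nat_lit 134080) l3351 l3352)))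
noncomputable def n624 : T := (.node (nat_lit 134240) (.node (nat_lit 134160) l3353 (.node (nat_lit 134200) l3354 l3355)) (.node (nat_lit 134280) l3356 (.node (nat_lit 134320) l3357 l3358)))
noncomputable def n625 : T := (.node (nat_lit 134480) (.node (nat_lit 134400) l3359 (.node (nat_lit 134440) l3360 l3361)) (.node (nat_lit 134520) l3362 (.node (nat_lit 134560) l3363 l3364)))
noncomputable def n626 : T := (.node (nat_lit 131040) (.node (nat_lit 129280) (.node (nat_lit 128400) (.node (nat_lit 127960) (.node (nat_lit 127720) n594 n595) (.node (nat_lit 128160) n596 n597)) (.node (nat_lit 128840) (.node (nat_lit 128600) n598 n599) (.node (nat_lit 129040) n600 n601))) (.node (nat_lit 130160) (.node (nat_lit 129720) (.node (nat_lit 129480) n602 n603) (.node (nat_lit 129920) n604 n605)) (.node (nat_lit 130600) (.node (nat_lit 130360) n606 n607) (.node (nat_lit 130800) n608 n609)))) (.node (nat_lit 132800) (.node (nat_lit 131920) (.node (nat_lit 131480) (.node (nat_lit 131240) n610 n611) (.node (nat_lit 131680) n612 n613))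 (.node (nat_lit 132360) (.node (nat_lit 132120) n614 n615) (.node (nat_lit 132560) n616 n617))) (.node (nat_lit 133680) (.node (nat_lit 133240) (.node (nat_lit 133000) n618 n619) (.node (nat_lit 133440) n620 n621)) (.node (nat_lit 134120) (.node (nat_lit 133880) n622 n623) (.node (nat_lit 134360) n624 n625)))))
noncomputable def n627 : T := (.node (nat_lit 134680) (.node (nat_lit 134640) l3365 l3366) (.node (nat_lit 134720) l3367 (.node (nat_lit 134760) l3368 l3369)))
noncomputable def n628 : T := (.node (nat_lit 134920) (.node (nat_lit 134840) l3370 (.node (nat_lit 134880) l3371 l3372)) (.node (nat_lit 134960) l3373 (.node (nat_lit 135000) l3374 l3375)))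
noncomputable def n629 : T := (.node (nat_lit 135120) (.node (nat_lit 135080) l3376 l3377) (.node (nat_lit 135160) l3378 (.node (nat_lit 135200) l3379 l3380)))
noncomputable def n630 : T := (.node (nat_lit 135360) (.node (nat_lit 135280) l3381 (.node (nat_lit 135320) l3382 l3383)) (.node (nat_lit 135400) l3384 (.node (nat_lit 135440) l3385 l3386)))
noncomputable def n631 : T := (.node (nat_lit 135560) (.node (nat_lit 135520) l3387 l3388) (.node (nat_lit 135600) l3389 (.node (nat_lit 135640) l3390 l3391)))
noncomputable def n632 : T := (.node (nat_lit 135800) (.node (nat_lit 135720) l3392 (.node (nat_lit 135760) l3393 l3394)) (.node (nat_lit 135840) l3395 (.node (nat_lit 135880) l3396 l3397)))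
noncomputable def n633 : T := (.node (nat_lit 136000) (.node (nat_lit 135960) l3398 l3399) (.node (nat_lit 136040) l3400 (.node (nat_lit 136080) l3401 l3402)))
noncomputable def n634 : T := (.node (nat_lit 136240) (.node (nat_lit 136160) l3403 (.node (nat_lit 136200) l3404 l3405)) (.node (nat_lit 136280) l3406 (.node (nat_lit 136320) l3407 l3408)))
noncomputable def n635 : T := (.node (nat_lit 136440) (.node (nat_lit 136400) l3409 l3410) (.node (nat_lit 136480) l3411 (.node (nat_lit 136520) l3412 l3413)))
noncomputable def n636 : T := (.node (nat_lit 136680) (.node (nat_lit 136600) l3414 (.node (nat_lit 136640) l3415 l3416)) (.node (nat_lit 136720) l3417 (.node (nat_lit 136760) l3418 l3419)))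
noncomputable def n637 : T := (.node (nat_lit 136880) (.node (nat_lit 136840) l3420 l3421) (.node (nat_lit 136920) l3422 (.node (nat_lit 136960) l3423 l3424)))
noncomputable def n638 : T := (.node (nat_lit 137120) (.node (nat_lit 137040) l3425 (.node (nat_lit 137080) l3426 l3427)) (.node (nat_lit 137160) l3428 (.node (nat_lit 137200) l3429 l3430)))
noncomputable def n639 : T := (.node (nat_lit 137320) (.node (nat_lit 137280) l3431 l3432) (.node (nat_lit 137360) l3433 (.node (nat_lit 137400) l3434 l3435)))
noncomputable def n640 : T := (.node (nat_lit 137560) (.node (nat_lit 137480) l3436 (.node (nat_lit 137520) l3437 l3438)) (.node (nat_lit 137600) l3439 (.node (nat_lit 137640) l3440 l3441)))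
noncomputable def n641 : T := (.node (nat_lit 137760) (.node (nat_lit 137720) l3442 l3443) (.node (nat_lit 137800) l3444 (.node (nat_lit 137840) l3445 l3446)))
noncomputable def n642 : T := (.node (nat_lit 138000) (.node (nat_lit 137920) l3447 (.node (nat_lit 137960) l3448 l3449)) (.node (nat_lit 138040) l3450 (.node (nat_lit 138080) l3451 l3452)))
noncomputable def n643 : T := (.node (nat_lit 138200) (.node (nat_lit 138160) l3453 l3454) (.node (nat_lit 138240) l3455 (.node (nat_lit 138280) l3456 l3457)))
noncomputable def n644 : T := (.node (nat_lit 138440) (.node (nat_lit 138360) l3458 (.node (nat_lit 138400) l3459 l3460)) (.node (nat_lit 138480) l3461 (.node (nat_lit 138520) l3462 l3463)))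
noncomputable def n645 : T := (.node (nat_lit 138640) (.node (nat_lit 138600) l3464 l3465) (.node (nat_lit 138680) l3466 (.node (nat_lit 138720) l3467 l3468)))
noncomputable def n646 : T := (.node (nat_lit 138880) (.node (nat_lit 138800) l3469 (.node (nat_lit 138840) l3470 l3471)) (.node (nat_lit 138920) l3472 (.node (nat_lit 138960) l3473 l3474)))
noncomputable def n647 : T := (.node (nat_lit 139080) (.node (nat_lit 139040) l3475 l3476) (.node (nat_lit 139120) l3477 (.node (nat_lit 139160) l3478 l3479)))
noncomputable def n648 : T := (.node (nat_lit 139320) (.node (nat_lit 139240) l3480 (.node (nat_lit 139280) l3481 l3482)) (.node (nat_lit 139360) l3483 (.node (nat_lit 139400) l3484 l3485)))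
noncomputable def n649 : T := (.node (nat_lit 139520) (.node (nat_lit 139480) l3486 l3487) (.node (nat_lit 139560) l3488 (.node (nat_lit 139600) l3489 l3490)))
noncomputable def n650 : T := (.node (nat_lit 139760) (.node (nat_lit 139680) l3491 (.node (nat_lit 139720) l3492 l3493)) (.node (nat_lit 139800) l3494 (.node (nat_lit 139840) l3495 l3496)))
noncomputable def n651 : T := (.node (nat_lit 139960) (.node (nat_lit 139920) l3497 l3498) (.node (nat_lit 140000) l3499 (.node (nat_lit 140040) l3500 l3501)))
noncomputable def n652 : T := (.node (nat_lit 140200) (.node (nat_lit 140120) l3502 (.node (nat_lit 140160) l3503 l3504)) (.node (nat_lit 140240) l3505 (.node (nat_lit 140280) l3506 l3507)))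
noncomputable def n653 : T := (.node (nat_lit 140400) (.node (nat_lit 140360) l3508 l3509) (.node (nat_lit 140440) l3510 (.node (nat_lit 140480) l3511 l3512)))
noncomputable def n654 : T := (.node (nat_lit 140640) (.node (nat_lit 140560) l3513 (.node (nat_lit 140600) l3514 l3515)) (.node (nat_lit 140680) l3516 (.node (nat_lit 140720) l3517 l3518)))
noncomputable def n655 : T := (.node (nat_lit 140840) (.node (nat_lit 140800) l3519 l3520) (.node (nat_lit 140880) l3521 (.node (nat_lit 140920) l3522 l3523)))
noncomputable def n656 : T := (.node (nat_lit 141080) (.node (nat_lit 141000) l3524 (.node (nat_lit 141040) l3525 l3526)) (.node (nat_lit 141120) l3527 (.node (nat_lit 141160) l3528 l3529)))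
noncomputable def n657 : T := (.node (nat_lit 141320) (.node (nat_lit 141240) l3530 (.node (nat_lit 141280) l3531 l3532)) (.node (nat_lit 141360) l3533 (.node (nat_lit 141400) l3534 l3535)))
noncomputable def n658 : T := (.node (nat_lit 141560) (.node (nat_lit 141480) l3536 (.node (nat_lit 141520) l3537 l3538)) (.node (nat_lit 141600) l3539 (.node (nat_lit 141640) l3540 l3541)))
noncomputable def n659 : T := (.node (nat_lit 138120) (.node (nat_lit 136360) (.node (nat_lit 135480) (.node (nat_lit 135040) (.node (nat_lit 134800) n627 n628) (.node (nat_lit 135240) n629 n630)) (.node (nat_lit 135920) (.node (nat_lit 135680) n631 n632) (.node (nat_lit 136120) n633 n634))) (.node (nat_lit 137240) (.node (nat_lit 136800) (.node (nat_lit 136560) n635 n636) (.node (nat_lit 137000) n637 n638)) (.node (nat_lit 137680) (.node (nat_lit 137440) n639 n640) (.node (nat_lit 137880) n641 n642)))) (.node (nat_lit 139880) (.node (nat_lit 139000) (.node (nat_lit 138560) (.node (nat_lit 138320) n643 n644) (.node (nat_lit 138760) n645 n646))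 (.node (nat_lit 139440) (.node (nat_lit 139200) n647 n648) (.node (nat_lit 139640) n649 n650))) (.node (nat_lit 140760) (.node (nat_lit 140320) (.node (nat_lit 140080) n651 n652) (.node (nat_lit 140520) n653 n654)) (.node (nat_lit 141200) (.node (nat_lit 140960) n655 n656) (.node (nat_lit 141440) n657 n658)))))
noncomputable def n660 : T := (.node (nat_lit 141760) (.node (nat_lit 141720) l3542 l3543) (.node (nat_lit 141800) l3544 (.node (nat_lit 141840) l3545 l3546)))
noncomputable def n661 : T := (.node (nat_lit 142000) (.node (nat_lit 141920) l3547 (.node (nat_lit 141960) l3548 l3549)) (.node (nat_lit 142040) l3550 (.node (nat_lit 142080) l3551 l3552)))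
noncomputable def n662 : T := (.node (nat_lit 142200) (.node (nat_lit 142160) l3553 l3554) (.node (nat_lit 142240) l3555 (.node (nat_lit 142280) l3556 l3557)))
noncomputable def n663 : T := (.node (nat_lit 142440) (.node (nat_lit 142360) l3558 (.node (nat_lit 142400) l3559 l3560)) (.node (nat_lit 142480) l3561 (.node (nat_lit 142520) l3562 l3563)))
noncomputable def n664 : T := (.node (nat_lit 142640) (.node (nat_lit 142600) l3564 l3565) (.node (nat_lit 142680) l3566 (.node (nat_lit 142720) l3567 l3568)))
noncomputable def n665 : T := (.node (nat_lit 142880) (.node (nat_lit 142800) l3569 (.node (nat_lit 142840) l3570 l3571)) (.node (nat_lit 142920) l3572 (.node (nat_lit 142960) l3573 l3574)))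
noncomputable def n666 : T := (.node (nat_lit 143080) (.node (nat_lit 143040) l3575 l3576) (.node (nat_lit 143120) l3577 (.node (nat_lit 143160) l3578 l3579)))
noncomputable def n667 : T := (.node (nat_lit 143320) (.node (nat_lit 143240) l3580 (.node (nat_lit 143280) l3581 l3582)) (.node (nat_lit 143360) l3583 (.node (nat_lit 143400) l3584 l3585)))
noncomputable def n668 : T := (.node (nat_lit 143520) (.node (nat_lit 143480) l3586 l3587) (.node (nat_lit 143560) l3588 (.node (nat_lit 143600) l3589 l3590)))
noncomputable def n669 : T := (.node (nat_lit 143760) (.node (nat_lit 143680) l3591 (.node (nat_lit 143720) l3592 l3593)) (.node (nat_lit 143800) l3594 (.node (nat_lit 143840) l3595 l3596)))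
noncomputable def n670 : T := (.node (nat_lit 143960) (.node (nat_lit 143920) l3597 l3598) (.node (nat_lit 144000) l3599 (.node (nat_lit 144040) l3600 l3601)))
noncomputable def n671 : T := (.node (nat_lit 144200) (.node (nat_lit 144120) l3602 (.node (nat_lit 144160) l3603 l3604)) (.node (nat_lit 144240) l3605 (.node (nat_lit 144280) l3606 l3607)))
noncomputable def n672 : T := (.node (nat_lit 144400) (.node (nat_lit 144360) l3608 l3609) (.node (nat_lit 144440) l3610 (.node (nat_lit 144480) l3611 l3612)))
noncomputable def n673 : T := (.node (nat_lit 144640) (.node (nat_lit 144560) l3613 (.node (nat_lit 144600) l3614 l3615)) (.node (nat_lit 144680) l3616 (.node (nat_lit 144720) l3617 l3618)))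
noncomputable def n674 : T := (.node (nat_lit 144840) (.node (nat_lit 144800) l3619 l3620) (.node (nat_lit 144880) l3621 (.node (nat_lit 144920) l3622 l3623)))
noncomputable def n675 : T := (.node (nat_lit 145080) (.node (nat_lit 145000) l3624 (.node (nat_lit 145040) l3625 l3626)) (.node (nat_lit 145120) l3627 (.node (nat_lit 145160) l3628 l3629)))
noncomputable def n676 : T := (.node (nat_lit 145280) (.node (nat_lit 145240) l3630 l3631) (.node (nat_lit 145320) l3632 (.node (nat_lit 145360) l3633 l3634)))
noncomputable def n677 : T := (.node (nat_lit 145520) (.node (nat_lit 145440) l3635 (.node (nat_lit 145480) l3636 l3637)) (.node (nat_lit 145560) l3638 (.node (nat_lit 145600) l3639 l3640)))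
noncomputable def n678 : T := (.node (nat_lit 145720) (.node (nat_lit 145680) l3641 l3642) (.node (nat_lit 145760) l3643 (.node (nat_lit 145800) l3644 l3645)))
noncomputable def n679 : T := (.node (nat_lit 145960) (.node (nat_lit 145880) l3646 (.node (nat_lit 145920) l3647 l3648)) (.node (nat_lit 146000) l3649 (.node (nat_lit 146040) l3650 l3651)))
noncomputable def n680 : T := (.node (nat_lit 146160) (.node (nat_lit 146120) l3652 l3653) (.node (nat_lit 146200) l3654 (.node (nat_lit 146240) l3655 l3656)))
noncomputable def n681 : T := (.node (nat_lit 146400) (.node (nat_lit 146320) l3657 (.node (nat_lit 146360) l3658 l3659)) (.node (nat_lit 146440) l3660 (.node (nat_lit 146480) l3661 l3662)))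
noncomputable def n682 : T := (.node (nat_lit 146600) (.node (nat_lit 146560) l3663 l3664) (.node (nat_lit 146640) l3665 (.node (nat_lit 146680) l3666 l3667)))
noncomputable def n683 : T := (.node (nat_lit 146840) (.node (nat_lit 146760) l3668 (.node (nat_lit 146800) l3669 l3670)) (.node (nat_lit 146880) l3671 (.node (nat_lit 146920) l3672 l3673)))
noncomputable def n684 : T := (.node (nat_lit 147040) (.node (nat_lit 147000) l3674 l3675) (.node (nat_lit 147080) l3676 (.node (nat_lit 147120) l3677 l3678)))
noncomputable def n685 : T := (.node (nat_lit 147280) (.node (nat_lit 147200) l3679 (.node (nat_lit 147240) l3680 l3681)) (.node (nat_lit 147320) l3682 (.node (nat_lit 147360) l3683 l3684)))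
noncomputable def n686 : T := (.node (nat_lit 147480) (.node (nat_lit 147440) l3685 l3686) (.node (nat_lit 147520) l3687 (.node (nat_lit 147560) l3688 l3689)))
noncomputable def n687 : T := (.node (nat_lit 147720) (.node (nat_lit 147640) l3690 (.node (nat_lit 147680) l3691 l3692)) (.node (nat_lit 147760) l3693 (.node (nat_lit 147800) l3694 l3695)))
noncomputable def n688 : T := (.node (nat_lit 147920) (.node (nat_lit 147880) l3696 l3697) (.node (nat_lit 147960) l3698 (.node (nat_lit 148000) l3699 l3700)))
noncomputable def n689 : T := (.node (nat_lit 148160) (.node (nat_lit 148080) l3701 (.node (nat_lit 148120) l3702 l3703)) (.node (nat_lit 148200) l3704 (.node (nat_lit 148240) l3705 l3706)))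
noncomputable def n690 : T := (.node (nat_lit 148400) (.node (nat_lit 148320) l3707 (.node (nat_lit 148360) l3708 l3709)) (.node (nat_lit 148440) l3710 (.node (nat_lit 148480) l3711 l3712)))
noncomputable def n691 : T := (.node (nat_lit 148640) (.node (nat_lit 148560) l3713 (.node (nat_lit 148600) l3714 l3715)) (.node (nat_lit 148680) l3716 (.node (nat_lit 148720) l3717 l3718)))
noncomputable def n692 : T := (.node (nat_lit 145200) (.node (nat_lit 143440) (.node (nat_lit 142560) (.node (nat_lit 142120) (.node (nat_lit 141880) n660 n661) (.node (nat_lit 142320) n662 n663)) (.node (nat_lit 143000) (.node (nat_lit 142760) n664 n665) (.node (nat_lit 143200) n666 n667))) (.node (nat_lit 144320) (.node (nat_lit 143880) (.node (nat_lit 143640) n668 n669) (.node (nat_lit 144080) n670 n671)) (.node (nat_lit 144760) (.node (nat_lit 144520) n672 n673) (.node (nat_lit 144960) n674 n675)))) (.node (nat_lit 146960) (.node (nat_lit 146080) (.node (nat_lit 145640) (.node (nat_lit 145400) n676 n677) (.node (nat_lit 145840) n678 n679))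 (.node (nat_lit 146520) (.node (nat_lit 146280) n680 n681) (.node (nat_lit 146720) n682 n683))) (.node (nat_lit 147840) (.node (nat_lit 147400) (.node (nat_lit 147160) n684 n685) (.node (nat_lit 147600) n686 n687)) (.node (nat_lit 148280) (.node (nat_lit 148040) n688 n689) (.node (nat_lit 148520) n690 n691)))))
noncomputable def n693 : T := (.node (nat_lit 148840) (.node (nat_lit 148800) l3719 l3720) (.node (nat_lit 148880) l3721 (.node (nat_lit 148920) l3722 l3723)))
noncomputable def n694 : T := (.node (nat_lit 149080) (.node (nat_lit 149000) l3724 (.node (nat_lit 149040) l3725 l3726)) (.node (nat_lit 149120) l3727 (.node (nat_lit 149160) l3728 l3729)))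
noncomputable def n695 : T := (.node (nat_lit 149280) (.node (nat_lit 149240) l3730 l3731) (.node (nat_lit 149320) l3732 (.node (nat_lit 149360) l3733 l3734)))
noncomputable def n696 : T := (.node (nat_lit 149520) (.node (nat_lit 149440) l3735 (.node (nat_lit 149480) l3736 l3737)) (.node (nat_lit 149560) l3738 (.node (nat_lit 149600) l3739 l3740)))
noncomputable def n697 : T := (.node (nat_lit 149720) (.node (nat_lit 149680) l3741 l3742) (.node (nat_lit 149760) l3743 (.node (nat_lit 149800) l3744 l3745)))
noncomputable def n698 : T := (.node (nat_lit 149960) (.node (nat_lit 149880) l3746 (.node (nat_lit 149920) l3747 l3748)) (.node (nat_lit 150000) l3749 (.node (nat_lit 150040) l3750 l3751)))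
noncomputable def n699 : T := (.node (nat_lit 150160) (.node (nat_lit 150120) l3752 l3753) (.node (nat_lit 150200) l3754 (.node (nat_lit 150240) l3755 l3756)))
noncomputable def n700 : T := (.node (nat_lit 150400) (.node (nat_lit 150320) l3757 (.node (nat_lit 150360) l3758 l3759)) (.node (nat_lit 150440) l3760 (.node (nat_lit 150480) l3761 l3762)))
noncomputable def n701 : T := (.node (nat_lit 150600) (.node (nat_lit 150560) l3763 l3764) (.node (nat_lit 150640) l3765 (.node (nat_lit 150680) l3766 l3767)))
noncomputable def n702 : T := (.node (nat_lit 150840) (.node (nat_lit 150760) l3768 (.node (nat_lit 150800) l3769 l3770)) (.node (nat_lit 150880) l3771 (.node (nat_lit 150920) l3772 l3773)))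
noncomputable def n703 : T := (.node (nat_lit 151040) (.node (nat_lit 151000) l3774 l3775) (.node (nat_lit 151080) l3776 (.node (nat_lit 151120) l3777 l3778)))
noncomputable def n704 : T := (.node (nat_lit 151280) (.node (nat_lit 151200) l3779 (.node (nat_lit 151240) l3780 l3781)) (.node (nat_lit 151320) l3782 (.node (nat_lit 151360) l3783 l3784)))
noncomputable def n705 : T := (.node (nat_lit 151480) (.node (nat_lit 151440) l3785 l3786) (.node (nat_lit 151520) l3787 (.node (nat_lit 151560) l3788 l3789)))
noncomputable def n706 : T := (.node (nat_lit 151720) (.node (nat_lit 151640) l3790 (.node (nat_lit 151680) l3791 l3792)) (.node (nat_lit 151760) l3793 (.node (nat_lit 151800) l3794 l3795)))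
noncomputable def n707 : T := (.node (nat_lit 151920) (.node (nat_lit 151880) l3796 l3797) (.node (nat_lit 151960) l3798 (.node (nat_lit 152000) l3799 l3800)))
noncomputable def n708 : T := (.node (nat_lit 152160) (.node (nat_lit 152080) l3801 (.node (nat_lit 152120) l3802 l3803)) (.node (nat_lit 152200) l3804 (.node (nat_lit 152240) l3805 l3806)))
noncomputable def n709 : T := (.node (nat_lit 152360) (.node (nat_lit 152320) l3807 l3808) (.node (nat_lit 152400) l3809 (.node (nat_lit 152440) l3810 l3811)))
noncomputable def n710 : T := (.node (nat_lit 152600) (.node (nat_lit 152520) l3812 (.node (nat_lit 152560) l3813 l3814)) (.node (nat_lit 152640) l3815 (.node (nat_lit 152680) l3816 l3817)))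
noncomputable def n711 : T := (.node (nat_lit 152800) (.node (nat_lit 152760) l3818 l3819) (.node (nat_lit 152840) l3820 (.node (nat_lit 152880) l3821 l3822)))
noncomputable def n712 : T := (.node (nat_lit 153040) (.node (nat_lit 152960) l3823 (.node (nat_lit 153000) l3824 l3825)) (.node (nat_lit 153080) l3826 (.node (nat_lit 153120) l3827 l3828)))
noncomputable def n713 : T := (.node (nat_lit 153240) (.node (nat_lit 153200) l3829 l3830) (.node (nat_lit 153280) l3831 (.node (nat_lit 153320) l3832 l3833)))
noncomputable def n714 : T := (.node (nat_lit 153480) (.node (nat_lit 153400) l3834 (.node (nat_lit 153440) l3835 l3836)) (.node (nat_lit 153520) l3837 (.node (nat_lit 153560) l3838 l3839)))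
noncomputable def n715 : T := (.node (nat_lit 153680) (.node (nat_lit 153640) l3840 l3841) (.node (nat_lit 153720) l3842 (.node (nat_lit 153760) l3843 l3844)))
noncomputable def n716 : T := (.node (nat_lit 153920) (.node (nat_lit 153840) l3845 (.node (nat_lit 153880) l3846 l3847)) (.node (nat_lit 153960) l3848 (.node (nat_lit 154000) l3849 l3850)))
noncomputable def n717 : T := (.node (nat_lit 154120) (.node (nat_lit 154080) l3851 l3852) (.node (nat_lit 154160) l3853 (.node (nat_lit 154200) l3854 l3855)))
noncomputable def n718 : T := (.node (nat_lit 154360) (.node (nat_lit 154280) l3856 (.node (nat_lit 154320) l3857 l3858)) (.node (nat_lit 154400) l3859 (.node (nat_lit 154440) l3860 l3861)))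
noncomputable def n719 : T := (.node (nat_lit 154560) (.node (nat_lit 154520) l3862 l3863) (.node (nat_lit 154600) l3864 (.node (nat_lit 154640) l3865 l3866)))
noncomputable def n720 : T := (.node (nat_lit 154800) (.node (nat_lit 154720) l3867 (.node (nat_lit 154760) l3868 l3869)) (.node (nat_lit 154840) l3870 (.node (nat_lit 154880) l3871 l3872)))
noncomputable def n721 : T := (.node (nat_lit 155000) (.node (nat_lit 154960) l3873 l3874) (.node (nat_lit 155040) l3875 (.node (nat_lit 155080) l3876 l3877)))
noncomputable def n722 : T := (.node (nat_lit 155240) (.node (nat_lit 155160) l3878 (.node (nat_lit 155200) l3879 l3880)) (.node (nat_lit 155280) l3881 (.node (nat_lit 155320) l3882 l3883)))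
noncomputable def n723 : T := (.node (nat_lit 155480) (.node (nat_lit 155400) l3884 (.node (nat_lit 155440) l3885 l3886)) (.node (nat_lit 155520) l3887 (.node (nat_lit 155560) l3888 l3889)))
noncomputable def n724 : T := (.node (nat_lit 155720) (.node (nat_lit 155640) l3890 (.node (nat_lit 155680) l3891 l3892)) (.node (nat_lit 155760) l3893 (.node (nat_lit 155800) l3894 l3895)))
noncomputable def n725 : T := (.node (nat_lit 152280) (.node (nat_lit 150520) (.node (nat_lit 149640) (.node (nat_lit 149200) (.node (nat_lit 148960) n693 n694) (.node (nat_lit 149400) n695 n696)) (.node (nat_lit 150080) (.node (nat_lit 149840) n697 n698) (.node (nat_lit 150280) n699 n700))) (.node (nat_lit 151400) (.node (nat_lit 150960) (.node (nat_lit 150720) n701 n702) (.node (nat_lit 151160) n703 n704)) (.node (nat_lit 151840) (.node (nat_lit 151600) n705 n706) (.node (nat_lit 152040) n707 n708)))) (.node (nat_lit 154040) (.node (nat_lit 153160) (.node (nat_lit 152720) (.node (nat_lit 152480) n709 n710) (.node (nat_lit 152920) n711 n712))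 (.node (nat_lit 153600) (.node (nat_lit 153360) n713 n714) (.node (nat_lit 153800) n715 n716))) (.node (nat_lit 154920) (.node (nat_lit 154480) (.node (nat_lit 154240) n717 n718) (.node (nat_lit 154680) n719 n720)) (.node (nat_lit 155360) (.node (nat_lit 155120) n721 n722) (.node (nat_lit 155600) n723 n724)))))
noncomputable def n726 : T := (.node (nat_lit 155920) (.node (nat_lit 155880) l3896 l3897) (.node (nat_lit 155960) l3898 (.node (nat_lit 156000) l3899 l3900)))
noncomputable def n727 : T := (.node (nat_lit 156160) (.node (nat_lit 156080) l3901 (.node (nat_lit 156120) l3902 l3903)) (.node (nat_lit 156200) l3904 (.node (nat_lit 156240) l3905 l3906)))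
noncomputable def n728 : T := (.node (nat_lit 156360) (.node (nat_lit 156320) l3907 l3908) (.node (nat_lit 156400) l3909 (.node (nat_lit 156440) l3910 l3911)))
noncomputable def n729 : T := (.node (nat_lit 156600) (.node (nat_lit 156520) l3912 (.node (nat_lit 156560) l3913 l3914)) (.node (nat_lit 156640) l3915 (.node (nat_lit 156680) l3916 l3917)))
noncomputable def n730 : T := (.node (nat_lit 156800) (.node (nat_lit 156760) l3918 l3919) (.node (nat_lit 156840) l3920 (.node (nat_lit 156880) l3921 l3922)))
noncomputable def n731 : T := (.node (nat_lit 157040) (.node (nat_lit 156960) l3923 (.node (nat_lit 157000) l3924 l3925)) (.node (nat_lit 157080) l3926 (.node (nat_lit 157120) l3927 l3928)))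
noncomputable def n732 : T := (.node (nat_lit 157240) (.node (nat_lit 157200) l3929 l3930) (.node (nat_lit 157280) l3931 (.node (nat_lit 157320) l3932 l3933)))
noncomputable def n733 : T := (.node (nat_lit 157480) (.node (nat_lit 157400) l3934 (.node (nat_lit 157440) l3935 l3936)) (.node (nat_lit 157520) l3937 (.node (nat_lit 157560) l3938 l3939)))
noncomputable def n734 : T := (.node (nat_lit 157680) (.node (nat_lit 157640) l3940 l3941) (.node (nat_lit 157720) l3942 (.node (nat_lit 157760) l3943 l3944)))
noncomputable def n735 : T := (.node (nat_lit 157920) (.node (nat_lit 157840) l3945 (.node (nat_lit 157880) l3946 l3947)) (.node (nat_lit 157960) l3948 (.node (nat_lit 158000) l3949 l3950)))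
noncomputable def n736 : T := (.node (nat_lit 158120) (.node (nat_lit 158080) l3951 l3952) (.node (nat_lit 158160) l3953 (.node (nat_lit 158200) l3954 l3955)))
noncomputable def n737 : T := (.node (nat_lit 158360) (.node (nat_lit 158280) l3956 (.node (nat_lit 158320) l3957 l3958)) (.node (nat_lit 158400) l3959 (.node (nat_lit 158440) l3960 l3961)))
noncomputable def n738 : T := (.node (nat_lit 158560) (.node (nat_lit 158520) l3962 l3963) (.node (nat_lit 158600) l3964 (.node (nat_lit 158640) l3965 l3966)))
noncomputable def n739 : T := (.node (nat_lit 158800) (.node (nat_lit 158720) l3967 (.node (nat_lit 158760) l3968 l3969)) (.node (nat_lit 158840) l3970 (.node (nat_lit 158880) l3971 l3972)))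
noncomputable def n740 : T := (.node (nat_lit 159000) (.node (nat_lit 158960) l3973 l3974) (.node (nat_lit 159040) l3975 (.node (nat_lit 159080) l3976 l3977)))
noncomputable def n741 : T := (.node (nat_lit 159240) (.node (nat_lit 159160) l3978 (.node (nat_lit 159200) l3979 l3980)) (.node (nat_lit 159280) l3981 (.node (nat_lit 159320) l3982 l3983)))
noncomputable def n742 : T := (.node (nat_lit 159440) (.node (nat_lit 159400) l3984 l3985) (.node (nat_lit 159480) l3986 (.node (nat_lit 159520) l3987 l3988)))
noncomputable def n743 : T := (.node (nat_lit 159680) (.node (nat_lit 159600) l3989 (.node (nat_lit 159640) l3990 l3991)) (.node (nat_lit 159720) l3992 (.node (nat_lit 159760) l3993 l3994)))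
noncomputable def n744 : T := (.node (nat_lit 159880) (.node (nat_lit 159840) l3995 l3996) (.node (nat_lit 159920) l3997 (.node (nat_lit 159960) l3998 l3999)))
noncomputable def n745 : T := (.node (nat_lit 160120) (.node (nat_lit 160040) l4000 (.node (nat_lit 160080) l4001 l4002)) (.node (nat_lit 160160) l4003 (.node (nat_lit 160200) l4004 l4005)))
noncomputable def n746 : T := (.node (nat_lit 160320) (.node (nat_lit 160280) l4006 l4007) (.node (nat_lit 160360) l4008 (.node (nat_lit 160400) l4009 l4010)))
noncomputable def n747 : T := (.node (nat_lit 160560) (.node (nat_lit 160480) l4011 (.node (nat_lit 160520) l4012 l4013)) (.node (nat_lit 160600) l4014 (.node (nat_lit 160640) l4015 l4016)))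
noncomputable def n748 : T := (.node (nat_lit 160760) (.node (nat_lit 160720) l4017 l4018) (.node (nat_lit 160800) l4019 (.node (nat_lit 160840) l4020 l4021)))
noncomputable def n749 : T := (.node (nat_lit 161000) (.node (nat_lit 160920) l4022 (.node (nat_lit 160960) l4023 l4024)) (.node (nat_lit 161040) l4025 (.node (nat_lit 161080) l4026 l4027)))
noncomputable def n750 : T := (.node (nat_lit 161200) (.node (nat_lit 161160) l4028 l4029) (.node (nat_lit 161240) l4030 (.node (nat_lit 161280) l4031 l4032)))
noncomputable def n751 : T := (.node (nat_lit 161440) (.node (nat_lit 161360) l4033 (.node (nat_lit 161400) l4034 l4035)) (.node (nat_lit 161480) l4036 (.node (nat_lit 161520) l4037 l4038)))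
noncomputable def n752 : T := (.node (nat_lit 161640) (.node (nat_lit 161600) l4039 l4040) (.node (nat_lit 161680) l4041 (.node (nat_lit 161720) l4042 l4043)))
noncomputable def n753 : T := (.node (nat_lit 161880) (.node (nat_lit 161800) l4044 (.node (nat_lit 161840) l4045 l4046)) (.node (nat_lit 161920) l4047 (.node (nat_lit 161960) l4048 l4049)))
noncomputable def n754 : T := (.node (nat_lit 162080) (.node (nat_lit 162040) l4050 l4051) (.node (nat_lit 162120) l4052 (.node (nat_lit 162160) l4053 l4054)))
noncomputable def n755 : T := (.node (nat_lit 162320) (.node (nat_lit 162240) l4055 (.node (nat_lit 162280) l4056 l4057)) (.node (nat_lit 162360) l4058 (.node (nat_lit 162400) l4059 l4060)))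
noncomputable def n756 : T := (.node (nat_lit 162560) (.node (nat_lit 162480) l4061 (.node (nat_lit 162520) l4062 l4063)) (.node (nat_lit 162600) l4064 (.node (nat_lit 162640) l4065 l4066)))
noncomputable def n757 : T := (.node (nat_lit 162800) (.node (nat_lit 162720) l4067 (.node (nat_lit 162760) l4068 l4069)) (.node (nat_lit 162840) l4070 (.node (nat_lit 162880) l4071 l4072)))
noncomputable def n758 : T := (.node (nat_lit 159360) (.node (nat_lit 157600) (.node (nat_lit 156720) (.node (nat_lit 156280) (.node (nat_lit 156040) n726 n727) (.node (nat_lit 156480) n728 n729)) (.node (nat_lit 157160) (.node (nat_lit 156920) n730 n731) (.node (nat_lit 157360) n732 n733))) (.node (nat_lit 158480) (.node (nat_lit 158040) (.node (nat_lit 157800) n734 n735) (.node (nat_lit 158240) n736 n737)) (.node (nat_lit 158920) (.node (nat_lit 158680) n738 n739) (.node (nat_lit 159120) n740 n741)))) (.node (nat_lit 161120) (.node (nat_lit 160240) (.node (nat_lit 159800) (.node (nat_lit 159560) n742 n743) (.node (nat_lit 160000) n744 n745))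 (.node (nat_lit 160680) (.node (nat_lit 160440) n746 n747) (.node (nat_lit 160880) n748 n749))) (.node (nat_lit 162000) (.node (nat_lit 161560) (.node (nat_lit 161320) n750 n751) (.node (nat_lit 161760) n752 n753)) (.node (nat_lit 162440) (.node (nat_lit 162200) n754 n755) (.node (nat_lit 162680) n756 n757)))))
noncomputable def n759 : T := (.node (nat_lit 163000) (.node (nat_lit 162960) l4073 l4074) (.node (nat_lit 163040) l4075 (.node (nat_lit 163080) l4076 l4077)))
noncomputable def n760 : T := (.node (nat_lit 163240) (.node (nat_lit 163160) l4078 (.node (nat_lit 163200) l4079 l4080)) (.node (nat_lit 163280) l4081 (.node (nat_lit 163320) l4082 l4083)))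
noncomputable def n761 : T := (.node (nat_lit 163440) (.node (nat_lit 163400) l4084 l4085) (.node (nat_lit 163480) l4086 (.node (nat_lit 163520) l4087 l4088)))
noncomputable def n762 : T := (.node (nat_lit 163680) (.node (nat_lit 163600) l4089 (.node (nat_lit 163640) l4090 l4091)) (.node (nat_lit 163720) l4092 (.node (nat_lit 163760) l4093 l4094)))
noncomputable def n763 : T := (.node (nat_lit 163880) (.node (nat_lit 163840) l4095 l4096) (.node (nat_lit 163920) l4097 (.node (nat_lit 163960) l4098 l4099)))
noncomputable def n764 : T := (.node (nat_lit 164120) (.node (nat_lit 164040) l4100 (.node (nat_lit 164080) l4101 l4102)) (.node (nat_lit 164160) l4103 (.node (nat_lit 164200) l4104 l4105)))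
noncomputable def n765 : T := (.node (nat_lit 164320) (.node (nat_lit 164280) l4106 l4107) (.node (nat_lit 164360) l4108 (.node (nat_lit 164400) l4109 l4110)))
noncomputable def n766 : T := (.node (nat_lit 164560) (.node (nat_lit 164480) l4111 (.node (nat_lit 164520) l4112 l4113)) (.node (nat_lit 164600) l4114 (.node (nat_lit 164640) l4115 l4116)))
noncomputable def n767 : T := (.node (nat_lit 164760) (.node (nat_lit 164720) l4117 l4118) (.node (nat_lit 164800) l4119 (.node (nat_lit 164840) l4120 l4121)))
noncomputable def n768 : T := (.node (nat_lit 165000) (.node (nat_lit 164920) l4122 (.node (nat_lit 164960) l4123 l4124)) (.node (nat_lit 165040) l4125 (.node (nat_lit 165080) l4126 l4127)))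
noncomputable def n769 : T := (.node (nat_lit 165200) (.node (nat_lit 165160) l4128 l4129) (.node (nat_lit 165240) l4130 (.node (nat_lit 165280) l4131 l4132)))
noncomputable def n770 : T := (.node (nat_lit 165440) (.node (nat_lit 165360) l4133 (.node (nat_lit 165400) l4134 l4135)) (.node (nat_lit 165480) l4136 (.node (nat_lit 165520) l4137 l4138)))
noncomputable def n771 : T := (.node (nat_lit 165640) (.node (nat_lit 165600) l4139 l4140) (.node (nat_lit 165680) l4141 (.node (nat_lit 165720) l4142 l4143)))
noncomputable def n772 : T := (.node (nat_lit 165880) (.node (nat_lit 165800) l4144 (.node (nat_lit 165840) l4145 l4146)) (.node (nat_lit 165920) l4147 (.node (nat_lit 165960) l4148 l4149)))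
noncomputable def n773 : T := (.node (nat_lit 166120) (.node (nat_lit 166040) l4150 (.node (nat_lit 166080) l4151 l4152)) (.node (nat_lit 166160) l4153 (.node (nat_lit 166200) l4154 l4155)))
noncomputable def n774 : T := (.node (nat_lit 166360) (.node (nat_lit 166280) l4156 (.node (nat_lit 166320) l4157 l4158)) (.node (nat_lit 166400) l4159 (.node (nat_lit 166440) l4160 l4161)))
noncomputable def n775 : T := (.node (nat_lit 166560) (.node (nat_lit 166520) l4162 l4163) (.node (nat_lit 166600) l4164 (.node (nat_lit 166640) l4165 l4166)))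
noncomputable def n776 : T := (.node (nat_lit 166800) (.node (nat_lit 166720) l4167 (.node (nat_lit 166760) l4168 l4169)) (.node (nat_lit 166840) l4170 (.node (nat_lit 166880) l4171 l4172)))
noncomputable def n777 : T := (.node (nat_lit 167000) (.node (nat_lit 166960) l4173 l4174) (.node (nat_lit 167040) l4175 (.node (nat_lit 167080) l4176 l4177)))
noncomputable def n778 : T := (.node (nat_lit 167240) (.node (nat_lit 167160) l4178 (.node (nat_lit 167200) l4179 l4180)) (.node (nat_lit 167280) l4181 (.node (nat_lit 167320) l4182 l4183)))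
noncomputable def n779 : T := (.node (nat_lit 167440) (.node (nat_lit 167400) l4184 l4185) (.node (nat_lit 167480) l4186 (.node (nat_lit 167520) l4187 l4188)))
noncomputable def n780 : T := (.node (nat_lit 167680) (.node (nat_lit 167600) l4189 (.node (nat_lit 167640) l4190 l4191)) (.node (nat_lit 167720) l4192 (.node (nat_lit 167760) l4193 l4194)))
noncomputable def n781 : T := (.node (nat_lit 167880) (.node (nat_lit 167840) l4195 l4196) (.node (nat_lit 167920) l4197 (.node (nat_lit 167960) l4198 l4199)))
noncomputable def n782 : T := (.node (nat_lit 168120) (.node (nat_lit 168040) l4200 (.node (nat_lit 168080) l4201 l4202)) (.node (nat_lit 168160) l4203 (.node (nat_lit 168200) l4204 l4205)))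
noncomputable def n783 : T := (.node (nat_lit 168320) (.node (nat_lit 168280) l4206 l4207) (.node (nat_lit 168360) l4208 (.node (nat_lit 168400) l4209 l4210)))
noncomputable def n784 : T := (.node (nat_lit 168560) (.node (nat_lit 168480) l4211 (.node (nat_lit 168520) l4212 l4213)) (.node (nat_lit 168600) l4214 (.node (nat_lit 168640) l4215 l4216)))
noncomputable def n785 : T := (.node (nat_lit 168760) (.node (nat_lit 168720) l4217 l4218) (.node (nat_lit 168800) l4219 (.node (nat_lit 168840) l4220 l4221)))
noncomputable def n786 : T := (.node (nat_lit 169000) (.node (nat_lit 168920) l4222 (.node (nat_lit 168960) l4223 l4224)) (.node (nat_lit 169040) l4225 (.node (nat_lit 169080) l4226 l4227)))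
noncomputable def n787 : T := (.node (nat_lit 169200) (.node (nat_lit 169160) l4228 l4229) (.node (nat_lit 169240) l4230 (.node (nat_lit 169280) l4231 l4232)))
noncomputable def n788 : T := (.node (nat_lit 169440) (.node (nat_lit 169360) l4233 (.node (nat_lit 169400) l4234 l4235)) (.node (nat_lit 169480) l4236 (.node (nat_lit 169520) l4237 l4238)))
noncomputable def n789 : T := (.node (nat_lit 169680) (.node (nat_lit 169600) l4239 (.node (nat_lit 169640) l4240 l4241)) (.node (nat_lit 169720) l4242 (.node (nat_lit 169760) l4243 l4244)))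
noncomputable def n790 : T := (.node (nat_lit 169920) (.node (nat_lit 169840) l4245 (.node (nat_lit 169880) l4246 l4247)) (.node (nat_lit 169960) l4248 (.node (nat_lit 170000) l4249 l4250)))
noncomputable def n791 : T := (.node (nat_lit 166480) (.node (nat_lit 164680) (.node (nat_lit 163800) (.node (nat_lit 163360) (.node (nat_lit 163120) n759 n760) (.node (nat_lit 163560) n761 n762)) (.node (nat_lit 164240) (.node (nat_lit 164000) n763 n764) (.node (nat_lit 164440) n765 n766))) (.node (nat_lit 165560) (.node (nat_lit 165120) (.node (nat_lit 164880) n767 n768) (.node (nat_lit 165320) n769 n770)) (.node (nat_lit 166000) (.node (nat_lit 165760) n771 n772) (.node (nat_lit 166240) n773 n774)))) (.node (nat_lit 168240) (.node (nat_lit 167360) (.node (nat_lit 166920) (.node (nat_lit 166680) n775 n776) (.node (nat_lit 167120) n777 n778)) (.node (nat_lit 167800) (.node (nat_lit 167560) n779 n780) (.node (nat_lit 168000) n781 n782))) (.node (nat_lit 169120) (.node (nat_lit 168680) (.node (nat_lit 168440) n783 n784) (.node (nat_lit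 168880) n785 n786)) (.node (nat_lit 169560) (.node (nat_lit 169320) n787 n788) (.node (nat_lit 169800) n789 n790)))))
noncomputable def n792 : T := (.node (nat_lit 170120) (.node (nat_lit 170080) l4251 l4252) (.node (nat_lit 170160) l4253 (.node (nat_lit 170200) l4254 l4255)))
noncomputable def n793 : T := (.node (nat_lit 170360) (.node (nat_lit 170280) l4256 (.node (nat_lit 170320) l4257 l4258)) (.node (nat_lit 170400) l4259 (.node (nat_lit 170440) l4260 l4261)))
noncomputable def n794 : T := (.node (nat_lit 170560) (.node (nat_lit 170520) l4262 l4263) (.node (nat_lit 170600) l4264 (.node (nat_lit 170640) l4265 l4266)))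
noncomputable def n795 : T := (.node (nat_lit 170800) (.node (nat_lit 170720) l4267 (.node (nat_lit 170760) l4268 l4269)) (.node (nat_lit 170840) l4270 (.node (nat_lit 170880) l4271 l4272)))
noncomputable def n796 : T := (.node (nat_lit 171000) (.node (nat_lit 170960) l4273 l4274) (.node (nat_lit 171040) l4275 (.node (nat_lit 171080) l4276 l4277)))
noncomputable def n797 : T := (.node (nat_lit 171240) (.node (nat_lit 171160) l4278 (.node (nat_lit 171200) l4279 l4280)) (.node (nat_lit 171280) l4281 (.node (nat_lit 171320) l4282 l4283)))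
noncomputable def n798 : T := (.node (nat_lit 171440) (.node (nat_lit 171400) l4284 l4285) (.node (nat_lit 171480) l4286 (.node (nat_lit 171520) l4287 l4288)))
noncomputable def n799 : T := (.node (nat_lit 171680) (.node (nat_lit 171600) l4289 (.node (nat_lit 171640) l4290 l4291)) (.node (nat_lit 171720) l4292 (.node (nat_lit 171760) l4293 l4294)))
noncomputable def n800 : T := (.node (nat_lit 171880) (.node (nat_lit 171840) l4295 l4296) (.node (nat_lit 171920) l4297 (.node (nat_lit 171960) l4298 l4299)))
noncomputable def n801 : T := (.node (nat_lit 172120) (.node (nat_lit 172040) l4300 (.node (nat_lit 172080) l4301 l4302)) (.node (nat_lit 172160) l4303 (.node (nat_lit 172200) l4304 l4305)))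
noncomputable def n802 : T := (.node (nat_lit 172320) (.node (nat_lit 172280) l4306 l4307) (.node (nat_lit 172360) l4308 (.node (nat_lit 172400) l4309 l4310)))
noncomputable def n803 : T := (.node (nat_lit 172560) (.node (nat_lit 172480) l4311 (.node (nat_lit 172520) l4312 l4313)) (.node (nat_lit 172600) l4314 (.node (nat_lit 172640) l4315 l4316)))
noncomputable def n804 : T := (.node (nat_lit 172760) (.node (nat_lit 172720) l4317 l4318) (.node (nat_lit 172800) l4319 (.node (nat_lit 172840) l4320 l4321)))
noncomputable def n805 : T := (.node (nat_lit 173000) (.node (nat_lit 172920) l4322 (.node (nat_lit 172960) l4323 l4324)) (.node (nat_lit 173040) l4325 (.node (nat_lit 173080) l4326 l4327)))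
noncomputable def n806 : T := (.node (nat_lit 173200) (.node (nat_lit 173160) l4328 l4329) (.node (nat_lit 173240) l4330 (.node (nat_lit 173280) l4331 l4332)))
noncomputable def n807 : T := (.node (nat_lit 173440) (.node (nat_lit 173360) l4333 (.node (nat_lit 173400) l4334 l4335)) (.node (nat_lit 173480) l4336 (.node (nat_lit 173520) l4337 l4338)))
noncomputable def n808 : T := (.node (nat_lit 173640) (.node (nat_lit 173600) l4339 l4340) (.node (nat_lit 173680) l4341 (.node (nat_lit 173720) l4342 l4343)))
noncomputable def n809 : T := (.node (nat_lit 173880) (.node (nat_lit 173800) l4344 (.node (nat_lit 173840) l4345 l4346)) (.node (nat_lit 173920) l4347 (.node (nat_lit 173960) l4348 l4349)))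
noncomputable def n810 : T := (.node (nat_lit 174080) (.node (nat_lit 174040) l4350 l4351) (.node (nat_lit 174120) l4352 (.node (nat_lit 174160) l4353 l4354)))
noncomputable def n811 : T := (.node (nat_lit 174320) (.node (nat_lit 174240) l4355 (.node (nat_lit 174280) l4356 l4357)) (.node (nat_lit 174360) l4358 (.node (nat_lit 174400) l4359 l4360)))
noncomputable def n812 : T := (.node (nat_lit 174520) (.node (nat_lit 174480) l4361 l4362) (.node (nat_lit 174560) l4363 (.node (nat_lit 174600) l4364 l4365)))
noncomputable def n813 : T := (.node (nat_lit 174760) (.node (nat_lit 174680) l4366 (.node (nat_lit 174720) l4367 l4368)) (.node (nat_lit 174800) l4369 (.node (nat_lit 174840) l4370 l4371)))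
noncomputable def n814 : T := (.node (nat_lit 174960) (.node (nat_lit 174920) l4372 l4373) (.node (nat_lit 175000) l4374 (.node (nat_lit 175040) l4375 l4376)))
noncomputable def n815 : T := (.node (nat_lit 175200) (.node (nat_lit 175120) l4377 (.node (nat_lit 175160) l4378 l4379)) (.node (nat_lit 175240) l4380 (.node (nat_lit 175280) l4381 l4382)))
noncomputable def n816 : T := (.node (nat_lit 175400) (.node (nat_lit 175360) l4383 l4384) (.node (nat_lit 175440) l4385 (.node (nat_lit 175480) l4386 l4387)))
noncomputable def n817 : T := (.node (nat_lit 175640) (.node (nat_lit 175560) l4388 (.node (nat_lit 175600) l4389 l4390)) (.node (nat_lit 175680) l4391 (.node (nat_lit 175720) l4392 l4393)))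
noncomputable def n818 : T := (.node (nat_lit 175840) (.node (nat_lit 175800) l4394 l4395) (.node (nat_lit 175880) l4396 (.node (nat_lit 175920) l4397 l4398)))
noncomputable def n819 : T := (.node (nat_lit 176080) (.node (nat_lit 176000) l4399 (.node (nat_lit 176040) l4400 l4401)) (.node (nat_lit 176120) l4402 (.node (nat_lit 176160) l4403 l4404)))
noncomputable def n820 : T := (.node (nat_lit 176280) (.node (nat_lit 176240) l4405 l4406) (.node (nat_lit 176320) l4407 (.node (nat_lit 176360) l4408 l4409)))
noncomputable def n821 : T := (.node (nat_lit 176520) (.node (nat_lit 176440) l4410 (.node (nat_lit 176480) l4411 l4412)) (.node (nat_lit 176560) l4413 (.node (nat_lit 176600) l4414 l4415)))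
noncomputable def n822 : T := (.node (nat_lit 176760) (.node (nat_lit 176680) l4416 (.node (nat_lit 176720) l4417 l4418)) (.node (nat_lit 176800) l4419 (.node (nat_lit 176840) l4420 l4421)))
noncomputable def n823 : T := (.node (nat_lit 177000) (.node (nat_lit 176920) l4422 (.node (nat_lit 176960) l4423 l4424)) (.node (nat_lit 177040) l4425 (.node (nat_lit 177080) l4426 l4427)))
noncomputable def n824 : T := (.node (nat_lit 173560) (.node (nat_lit 171800) (.node (nat_lit 170920) (.node (nat_lit 170480) (.node (nat_lit 170240) n792 n793) (.node (nat_lit 170680) n794 n795)) (.node (nat_lit 171360) (.node (nat_lit 171120) n796 n797) (.node (nat_lit 171560) n798 n799))) (.node (nat_lit 172680) (.node (nat_lit 172240) (.node (nat_lit 172000) n800 n801) (.node (nat_lit 172440) n802 n803)) (.node (nat_lit 173120) (.node (nat_lit 172880) n804 n805) (.node (nat_lit 173320) n806 n807)))) (.node (nat_lit 175320) (.node (nat_lit 174440) (.node (nat_lit 174000) (.node (nat_lit 173760) n808 n809) (.node (nat_lit 174200) n810 n811))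 (.node (nat_lit 174880) (.node (nat_lit 174640) n812 n813) (.node (nat_lit 175080) n814 n815))) (.node (nat_lit 176200) (.node (nat_lit 175760) (.node (nat_lit 175520) n816 n817) (.node (nat_lit 175960) n818 n819)) (.node (nat_lit 176640) (.node (nat_lit 176400) n820 n821) (.node (nat_lit 176880) n822 n823)))))
noncomputable def n825 : T := (.node (nat_lit 177200) (.node (nat_lit 177160) l4428 l4429) (.node (nat_lit 177240) l4430 (.node (nat_lit 177280) l4431 l4432)))
noncomputable def n826 : T := (.node (nat_lit 177440) (.node (nat_lit 177360) l4433 (.node (nat_lit 177400) l4434 l4435)) (.node (nat_lit 177480) l4436 (.node (nat_lit 177520) l4437 l4438)))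
noncomputable def n827 : T := (.node (nat_lit 177640) (.node (nat_lit 177600) l4439 l4440) (.node (nat_lit 177680) l4441 (.node (nat_lit 177720) l4442 l4443)))
noncomputable def n828 : T := (.node (nat_lit 177880) (.node (nat_lit 177800) l4444 (.node (nat_lit 177840) l4445 l4446)) (.node (nat_lit 177920) l4447 (.node (nat_lit 177960) l4448 l4449)))
noncomputable def n829 : T := (.node (nat_lit 178080) (.node (nat_lit 178040) l4450 l4451) (.node (nat_lit 178120) l4452 (.node (nat_lit 178160) l4453 l4454)))
noncomputable def n830 : T := (.node (nat_lit 178320) (.node (nat_lit 178240) l4455 (.node (nat_lit 178280) l4456 l4457)) (.node (nat_lit 178360) l4458 (.node (nat_lit 178400) l4459 l4460)))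
noncomputable def n831 : T := (.node (nat_lit 178520) (.node (nat_lit 178480) l4461 l4462) (.node (nat_lit 178560) l4463 (.node (nat_lit 178600) l4464 l4465)))
noncomputable def n832 : T := (.node (nat_lit 178760) (.node (nat_lit 178680) l4466 (.node (nat_lit 178720) l4467 l4468)) (.node (nat_lit 178800) l4469 (.node (nat_lit 178840) l4470 l4471)))
noncomputable def n833 : T := (.node (nat_lit 178960) (.node (nat_lit 178920) l4472 l4473) (.node (nat_lit 179000) l4474 (.node (nat_lit 179040) l4475 l4476)))
noncomputable def n834 : T := (.node (nat_lit 179200) (.node (nat_lit 179120) l4477 (.node (nat_lit 179160) l4478 l4479)) (.node (nat_lit 179240) l4480 (.node (nat_lit 179280) l4481 l4482)))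
noncomputable def n835 : T := (.node (nat_lit 179400) (.node (nat_lit 179360) l4483 l4484) (.node (nat_lit 179440) l4485 (.node (nat_lit 179480) l4486 l4487)))
noncomputable def n836 : T := (.node (nat_lit 179640) (.node (nat_lit 179560) l4488 (.node (nat_lit 179600) l4489 l4490)) (.node (nat_lit 179680) l4491 (.node (nat_lit 179720) l4492 l4493)))
noncomputable def n837 : T := (.node (nat_lit 179840) (.node (nat_lit 179800) l4494 l4495) (.node (nat_lit 179880) l4496 (.node (nat_lit 179920) l4497 l4498)))
noncomputable def n838 : T := (.node (nat_lit 180080) (.node (nat_lit 180000) l4499 (.node (nat_lit 180040) l4500 l4501)) (.node (nat_lit 180120) l4502 (.node (nat_lit 180160) l4503 l4504)))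
noncomputable def n839 : T := (.node (nat_lit 180280) (.node (nat_lit 180240) l4505 l4506) (.node (nat_lit 180320) l4507 (.node (nat_lit 180360) l4508 l4509)))
noncomputable def n840 : T := (.node (nat_lit 180520) (.node (nat_lit 180440) l4510 (.node (nat_lit 180480) l4511 l4512)) (.node (nat_lit 180560) l4513 (.node (nat_lit 180600) l4514 l4515)))
noncomputable def n841 : T := (.node (nat_lit 180720) (.node (nat_lit 180680) l4516 l4517) (.node (nat_lit 180760) l4518 (.node (nat_lit 180800) l4519 l4520)))
noncomputable def n842 : T := (.node (nat_lit 180960) (.node (nat_lit 180880) l4521 (.node (nat_lit 180920) l4522 l4523)) (.node (nat_lit 181000) l4524 (.node (nat_lit 181040) l4525 l4526)))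
noncomputable def n843 : T := (.node (nat_lit 181160) (.node (nat_lit 181120) l4527 l4528) (.node (nat_lit 181200) l4529 (.node (nat_lit 181240) l4530 l4531)))
noncomputable def n844 : T := (.node (nat_lit 181400) (.node (nat_lit 181320) l4532 (.node (nat_lit 181360) l4533 l4534)) (.node (nat_lit 181440) l4535 (.node (nat_lit 181480) l4536 l4537)))
noncomputable def n845 : T := (.node (nat_lit 181600) (.node (nat_lit 181560) l4538 l4539) (.node (nat_lit 181640) l4540 (.node (nat_lit 181680) l4541 l4542)))
noncomputable def n846 : T := (.node (nat_lit 181840) (.node (nat_lit 181760) l4543 (.node (nat_lit 181800) l4544 l4545)) (.node (nat_lit 181880) l4546 (.node (nat_lit 181920) l4547 l4548)))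
noncomputable def n847 : T := (.node (nat_lit 182040) (.node (nat_lit 182000) l4549 l4550) (.node (nat_lit 182080) l4551 (.node (nat_lit 182120) l4552 l4553)))
noncomputable def n848 : T := (.node (nat_lit 182280) (.node (nat_lit 182200) l4554 (.node (nat_lit 182240) l4555 l4556)) (.node (nat_lit 182320) l4557 (.node (nat_lit 182360) l4558 l4559)))
noncomputable def n849 : T := (.node (nat_lit 182480) (.node (nat_lit 182440) l4560 l4561) (.node (nat_lit 182520) l4562 (.node (nat_lit 182560) l4563 l4564)))
noncomputable def n850 : T := (.node (nat_lit 182720) (.node (nat_lit 182640) l4565 (.node (nat_lit 182680) l4566 l4567)) (.node (nat_lit 182760) l4568 (.node (nat_lit 182800) l4569 l4570)))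
noncomputable def n851 : T := (.node (nat_lit 182920) (.node (nat_lit 182880) l4571 l4572) (.node (nat_lit 182960) l4573 (.node (nat_lit 183000) l4574 l4575)))
noncomputable def n852 : T := (.node (nat_lit 183160) (.node (nat_lit 183080) l4576 (.node (nat_lit 183120) l4577 l4578)) (.node (nat_lit 183200) l4579 (.node (nat_lit 183240) l4580 l4581)))
noncomputable def n853 : T := (.node (nat_lit 183360) (.node (nat_lit 183320) l4582 l4583) (.node (nat_lit 183400) l4584 (.node (nat_lit 183440) l4585 l4586)))
noncomputable def n854 : T := (.node (nat_lit 183600) (.node (nat_lit 183520) l4587 (.node (nat_lit 183560) l4588 l4589)) (.node (nat_lit 183640) l4590 (.node (nat_lit 183680) l4591 l4592)))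
noncomputable def n855 : T := (.node (nat_lit 183840) (.node (nat_lit 183760) l4593 (.node (nat_lit 183800) l4594 l4595)) (.node (nat_lit 183880) l4596 (.node (nat_lit 183920) l4597 l4598)))
noncomputable def n856 : T := (.node (nat_lit 184080) (.node (nat_lit 184000) l4599 (.node (nat_lit 184040) l4600 l4601)) (.node (nat_lit 184120) l4602 (.node (nat_lit 184160) l4603 l4604)))
noncomputable def n857 : T := (.node (nat_lit 180640) (.node (nat_lit 178880) (.node (nat_lit 178000) (.node (nat_lit 177560) (.node (nat_lit 177320) n825 n826) (.node (nat_lit 177760) n827 n828)) (.node (nat_lit 178440) (.node (nat_lit 178200) n829 n830) (.node (nat_lit 178640) n831 n832))) (.node (nat_lit 179760) (.node (nat_lit 179320) (.node (nat_lit 179080) n833 n834) (.node (nat_lit 179520) n835 n836)) (.node (nat_lit 180200) (.node (nat_lit 179960) n837 n838) (.node (nat_lit 180400) n839 n840)))) (.node (nat_lit 182400) (.node (nat_lit 181520) (.node (nat_lit 181080) (.node (nat_lit 180840) n841 n842) (.node (nat_lit 181280) n843 n844))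 (.node (nat_lit 181960) (.node (nat_lit 181720) n845 n846) (.node (nat_lit 182160) n847 n848))) (.node (nat_lit 183280) (.node (nat_lit 182840) (.node (nat_lit 182600) n849 n850) (.node (nat_lit 183040) n851 n852)) (.node (nat_lit 183720) (.node (nat_lit 183480) n853 n854) (.node (nat_lit 183960) n855 n856)))))
noncomputable def n858 : T := (.node (nat_lit 184280) (.node (nat_lit 184240) l4605 l4606) (.node (nat_lit 184320) l4607 (.node (nat_lit 184360) l4608 l4609)))
noncomputable def n859 : T := (.node (nat_lit 184520) (.node (nat_lit 184440) l4610 (.node (nat_lit 184480) l4611 l4612)) (.node (nat_lit 184560) l4613 (.node (nat_lit 184600) l4614 l4615)))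
noncomputable def n860 : T := (.node (nat_lit 184720) (.node (nat_lit 184680) l4616 l4617) (.node (nat_lit 184760) l4618 (.node (nat_lit 184800) l4619 l4620)))
noncomputable def n861 : T := (.node (nat_lit 184960) (.node (nat_lit 184880) l4621 (.node (nat_lit 184920) l4622 l4623)) (.node (nat_lit 185000) l4624 (.node (nat_lit 185040) l4625 l4626)))
noncomputable def n862 : T := (.node (nat_lit 185160) (.node (nat_lit 185120) l4627 l4628) (.node (nat_lit 185200) l4629 (.node (nat_lit 185240) l4630 l4631)))
noncomputable def n863 : T := (.node (nat_lit 185400) (.node (nat_lit 185320) l4632 (.node (nat_lit 185360) l4633 l4634)) (.node (nat_lit 185440) l4635 (.node (nat_lit 185480) l4636 l4637)))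
noncomputable def n864 : T := (.node (nat_lit 185600) (.node (nat_lit 185560) l4638 l4639) (.node (nat_lit 185640) l4640 (.node (nat_lit 185680) l4641 l4642)))
noncomputable def n865 : T := (.node (nat_lit 185840) (.node (nat_lit 185760) l4643 (.node (nat_lit 185800) l4644 l4645)) (.node (nat_lit 185880) l4646 (.node (nat_lit 185920) l4647 l4648)))
noncomputable def n866 : T := (.node (nat_lit 186040) (.node (nat_lit 186000) l4649 l4650) (.node (nat_lit 186080) l4651 (.node (nat_lit 186120) l4652 l4653)))
noncomputable def n867 : T := (.node (nat_lit 186280) (.node (nat_lit 186200) l4654 (.node (nat_lit 186240) l4655 l4656)) (.node (nat_lit 186320) l4657 (.node (nat_lit 186360) l4658 l4659)))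
noncomputable def n868 : T := (.node (nat_lit 186480) (.node (nat_lit 186440) l4660 l4661) (.node (nat_lit 186520) l4662 (.node (nat_lit 186560) l4663 l4664)))
noncomputable def n869 : T := (.node (nat_lit 186720) (.node (nat_lit 186640) l4665 (.node (nat_lit 186680) l4666 l4667)) (.node (nat_lit 186760) l4668 (.node (nat_lit 186800) l4669 l4670)))
noncomputable def n870 : T := (.node (nat_lit 186920) (.node (nat_lit 186880) l4671 l4672) (.node (nat_lit 186960) l4673 (.node (nat_lit 187000) l4674 l4675)))
noncomputable def n871 : T := (.node (nat_lit 187160) (.node (nat_lit 187080) l4676 (.node (nat_lit 187120) l4677 l4678)) (.node (nat_lit 187200) l4679 (.node (nat_lit 187240) l4680 l4681)))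
noncomputable def n872 : T := (.node (nat_lit 187360) (.node (nat_lit 187320) l4682 l4683) (.node (nat_lit 187400) l4684 (.node (nat_lit 187440) l4685 l4686)))
noncomputable def n873 : T := (.node (nat_lit 187600) (.node (nat_lit 187520) l4687 (.node (nat_lit 187560) l4688 l4689)) (.node (nat_lit 187640) l4690 (.node (nat_lit 187680) l4691 l4692)))
noncomputable def n874 : T := (.node (nat_lit 187800) (.node (nat_lit 187760) l4693 l4694) (.node (nat_lit 187840) l4695 (.node (nat_lit 187880) l4696 l4697)))
noncomputable def n875 : T := (.node (nat_lit 188040) (.node (nat_lit 187960) l4698 (.node (nat_lit 188000) l4699 l4700)) (.node (nat_lit 188080) l4701 (.node (nat_lit 188120) l4702 l4703)))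
noncomputable def n876 : T := (.node (nat_lit 188240) (.node (nat_lit 188200) l4704 l4705) (.node (nat_lit 188280) l4706 (.node (nat_lit 188320) l4707 l4708)))
noncomputable def n877 : T := (.node (nat_lit 188480) (.node (nat_lit 188400) l4709 (.node (nat_lit 188440) l4710 l4711)) (.node (nat_lit 188520) l4712 (.node (nat_lit 188560) l4713 l4714)))
noncomputable def n878 : T := (.node (nat_lit 188680) (.node (nat_lit 188640) l4715 l4716) (.node (nat_lit 188720) l4717 (.node (nat_lit 188760) l4718 l4719)))
noncomputable def n879 : T := (.node (nat_lit 188920) (.node (nat_lit 188840) l4720 (.node (nat_lit 188880) l4721 l4722)) (.node (nat_lit 188960) l4723 (.node (nat_lit 189000) l4724 l4725)))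
noncomputable def n880 : T := (.node (nat_lit 189120) (.node (nat_lit 189080) l4726 l4727) (.node (nat_lit 189160) l4728 (.node (nat_lit 189200) l4729 l4730)))
noncomputable def n881 : T := (.node (nat_lit 189360) (.node (nat_lit 189280) l4731 (.node (nat_lit 189320) l4732 l4733)) (.node (nat_lit 189400) l4734 (.node (nat_lit 189440) l4735 l4736)))
noncomputable def n882 : T := (.node (nat_lit 189560) (.node (nat_lit 189520) l4737 l4738) (.node (nat_lit 189600) l4739 (.node (nat_lit 189640) l4740 l4741)))
noncomputable def n883 : T := (.node (nat_lit 189800) (.node (nat_lit 189720) l4742 (.node (nat_lit 189760) l4743 l4744)) (.node (nat_lit 189840) l4745 (.node (nat_lit 189880) l4746 l4747)))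
noncomputable def n884 : T := (.node (nat_lit 190000) (.node (nat_lit 189960) l4748 l4749) (.node (nat_lit 190040) l4750 (.node (nat_lit 190080) l4751 l4752)))
noncomputable def n885 : T := (.node (nat_lit 190240) (.node (nat_lit 190160) l4753 (.node (nat_lit 190200) l4754 l4755)) (.node (nat_lit 190280) l4756 (.node (nat_lit 190320) l4757 l4758)))
noncomputable def n886 : T := (.node (nat_lit 190440) (.node (nat_lit 190400) l4759 l4760) (.node (nat_lit 190480) l4761 (.node (nat_lit 190520) l4762 l4763)))
noncomputable def n887 : T := (.node (nat_lit 190680) (.node (nat_lit 190600) l4764 (.node (nat_lit 190640) l4765 l4766)) (.node (nat_lit 190720) l4767 (.node (nat_lit 190760) l4768 l4769)))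
noncomputable def n888 : T := (.node (nat_lit 190920) (.node (nat_lit 190840) l4770 (.node (nat_lit 190880) l4771 l4772)) (.node (nat_lit 190960) l4773 (.node (nat_lit 191000) l4774 l4775)))
noncomputable def n889 : T := (.node (nat_lit 191160) (.node (nat_lit 191080) l4776 (.node (nat_lit 191120) l4777 l4778)) (.node (nat_lit 191200) l4779 (.node (nat_lit 191240) l4780 l4781)))
noncomputable def n890 : T := (.node (nat_lit 187720) (.node (nat_lit 185960) (.node (nat_lit 185080) (.node (nat_lit 184640) (.node (nat_lit 184400) n858 n859) (.node (nat_lit 184840) n860 n861)) (.node (nat_lit 185520) (.node (nat_lit 185280) n862 n863) (.node (nat_lit 185720) n864 n865))) (.node (nat_lit 186840) (.node (nat_lit 186400) (.node (nat_lit 186160) n866 n867) (.node (nat_lit 186600) n868 n869)) (.node (nat_lit 187280) (.node (nat_lit 187040) n870 n871) (.node (nat_lit 187480) n872 n873)))) (.node (nat_lit 189480) (.node (nat_lit 188600) (.node (nat_lit 188160) (.node (nat_lit 187920) n874 n875) (.node (nat_lit 188360) n876 n877))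 (.node (nat_lit 189040) (.node (nat_lit 188800) n878 n879) (.node (nat_lit 189240) n880 n881))) (.node (nat_lit 190360) (.node (nat_lit 189920) (.node (nat_lit 189680) n882 n883) (.node (nat_lit 190120) n884 n885)) (.node (nat_lit 190800) (.node (nat_lit 190560) n886 n887) (.node (nat_lit 191040) n888 n889)))))
noncomputable def n891 : T := (.node (nat_lit 191360) (.node (nat_lit 191320) l4782 l4783) (.node (nat_lit 191400) l4784 (.node (nat_lit 191440) l4785 l4786)))
noncomputable def n892 : T := (.node (nat_lit 191600) (.node (nat_lit 191520) l4787 (.node (nat_lit 191560) l4788 l4789)) (.node (nat_lit 191640) l4790 (.node (nat_lit 191680) l4791 l4792)))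
noncomputable def n893 : T := (.node (nat_lit 191800) (.node (nat_lit 191760) l4793 l4794) (.node (nat_lit 191840) l4795 (.node (nat_lit 191880) l4796 l4797)))
noncomputable def n894 : T := (.node (nat_lit 192040) (.node (nat_lit 191960) l4798 (.node (nat_lit 192000) l4799 l4800)) (.node (nat_lit 192080) l4801 (.node (nat_lit 192120) l4802 l4803)))
noncomputable def n895 : T := (.node (nat_lit 192240) (.node (nat_lit 192200) l4804 l4805) (.node (nat_lit 192280) l4806 (.node (nat_lit 192320) l4807 l4808)))
noncomputable def n896 : T := (.node (nat_lit 192480) (.node (nat_lit 192400) l4809 (.node (nat_lit 192440) l4810 l4811)) (.node (nat_lit 192520) l4812 (.node (nat_lit 192560) l4813 l4814)))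
noncomputable def n897 : T := (.node (nat_lit 192680) (.node (nat_lit 192640) l4815 l4816) (.node (nat_lit 192720) l4817 (.node (nat_lit 192760) l4818 l4819)))
noncomputable def n898 : T := (.node (nat_lit 192920) (.node (nat_lit 192840) l4820 (.node (nat_lit 192880) l4821 l4822)) (.node (nat_lit 192960) l4823 (.node (nat_lit 193000) l4824 l4825)))
noncomputable def n899 : T := (.node (nat_lit 193120) (.node (nat_lit 193080) l4826 l4827) (.node (nat_lit 193160) l4828 (.node (nat_lit 193200) l4829 l4830)))
noncomputable def n900 : T := (.node (nat_lit 193360) (.node (nat_lit 193280) l4831 (.node (nat_lit 193320) l4832 l4833)) (.node (nat_lit 193400) l4834 (.node (nat_lit 193440) l4835 l4836)))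
noncomputable def n901 : T := (.node (nat_lit 193560) (.node (nat_lit 193520) l4837 l4838) (.node (nat_lit 193600) l4839 (.node (nat_lit 193640) l4840 l4841)))
noncomputable def n902 : T := (.node (nat_lit 193800) (.node (nat_lit 193720) l4842 (.node (nat_lit 193760) l4843 l4844)) (.node (nat_lit 193840) l4845 (.node (nat_lit 193880) l4846 l4847)))
noncomputable def n903 : T := (.node (nat_lit 194000) (.node (nat_lit 193960) l4848 l4849) (.node (nat_lit 194040) l4850 (.node (nat_lit 194080) l4851 l4852)))
noncomputable def n904 : T := (.node (nat_lit 194240) (.node (nat_lit 194160) l4853 (.node (nat_lit 194200) l4854 l4855)) (.node (nat_lit 194280) l4856 (.node (nat_lit 194320) l4857 l4858)))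
noncomputable def n905 : T := (.node (nat_lit 194480) (.node (nat_lit 194400) l4859 (.node (nat_lit 194440) l4860 l4861)) (.node (nat_lit 194520) l4862 (.node (nat_lit 194560) l4863 l4864)))
noncomputable def n906 : T := (.node (nat_lit 194720) (.node (nat_lit 194640) l4865 (.node (nat_lit 194680) l4866 l4867)) (.node (nat_lit 194760) l4868 (.node (nat_lit 194800) l4869 l4870)))
noncomputable def n907 : T := (.node (nat_lit 194920) (.node (nat_lit 194880) l4871 l4872) (.node (nat_lit 194960) l4873 (.node (nat_lit 195000) l4874 l4875)))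
noncomputable def n908 : T := (.node (nat_lit 195160) (.node (nat_lit 195080) l4876 (.node (nat_lit 195120) l4877 l4878)) (.node (nat_lit 195200) l4879 (.node (nat_lit 195240) l4880 l4881)))
noncomputable def n909 : T := (.node (nat_lit 195360) (.node (nat_lit 195320) l4882 l4883) (.node (nat_lit 195400) l4884 (.node (nat_lit 195440) l4885 l4886)))
noncomputable def n910 : T := (.node (nat_lit 195600) (.node (nat_lit 195520) l4887 (.node (nat_lit 195560) l4888 l4889)) (.node (nat_lit 195640) l4890 (.node (nat_lit 195680) l4891 l4892)))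
noncomputable def n911 : T := (.node (nat_lit 195800) (.node (nat_lit 195760) l4893 l4894) (.node (nat_lit 195840) l4895 (.node (nat_lit 195880) l4896 l4897)))
noncomputable def n912 : T := (.node (nat_lit 196040) (.node (nat_lit 195960) l4898 (.node (nat_lit 196000) l4899 l4900)) (.node (nat_lit 196080) l4901 (.node (nat_lit 196120) l4902 l4903)))
noncomputable def n913 : T := (.node (nat_lit 196240) (.node (nat_lit 196200) l4904 l4905) (.node (nat_lit 196280) l4906 (.node (nat_lit 196320) l4907 l4908)))
noncomputable def n914 : T := (.node (nat_lit 196480) (.node (nat_lit 196400) l4909 (.node (nat_lit 196440) l4910 l4911)) (.node (nat_lit 196520) l4912 (.node (nat_lit 196560) l4913 l4914)))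
noncomputable def n915 : T := (.node (nat_lit 196680) (.node (nat_lit 196640) l4915 l4916) (.node (nat_lit 196720) l4917 (.node (nat_lit 196760) l4918 l4919)))
noncomputable def n916 : T := (.node (nat_lit 196920) (.node (nat_lit 196840) l4920 (.node (nat_lit 196880) l4921 l4922)) (.node (nat_lit 196960) l4923 (.node (nat_lit 197000) l4924 l4925)))
noncomputable def n917 : T := (.node (nat_lit 197120) (.node (nat_lit 197080) l4926 l4927) (.node (nat_lit 197160) l4928 (.node (nat_lit 197200) l4929 l4930)))
noncomputable def n918 : T := (.node (nat_lit 197360) (.node (nat_lit 197280) l4931 (.node (nat_lit 197320) l4932 l4933)) (.node (nat_lit 197400) l4934 (.node (nat_lit 197440) l4935 l4936)))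
noncomputable def n919 : T := (.node (nat_lit 197560) (.node (nat_lit 197520) l4937 l4938) (.node (nat_lit 197600) l4939 (.node (nat_lit 197640) l4940 l4941)))
noncomputable def n920 : T := (.node (nat_lit 197800) (.node (nat_lit 197720) l4942 (.node (nat_lit 197760) l4943 l4944)) (.node (nat_lit 197840) l4945 (.node (nat_lit 197880) l4946 l4947)))
noncomputable def n921 : T := (.node (nat_lit 198040) (.node (nat_lit 197960) l4948 (.node (nat_lit 198000) l4949 l4950)) (.node (nat_lit 198080) l4951 (.node (nat_lit 198120) l4952 l4953)))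
noncomputable def n922 : T := (.node (nat_lit 198280) (.node (nat_lit 198200) l4954 (.node (nat_lit 198240) l4955 l4956)) (.node (nat_lit 198320) l4957 (.node (nat_lit 198360) l4958 l4959)))
noncomputable def n923 : T := (.node (nat_lit 194840) (.node (nat_lit 193040) (.node (nat_lit 192160) (.node (nat_lit 191720) (.node (nat_lit 191480) n891 n892) (.node (nat_lit 191920) n893 n894)) (.node (nat_lit 192600) (.node (nat_lit 192360) n895 n896) (.node (nat_lit 192800) n897 n898))) (.node (nat_lit 193920) (.node (nat_lit 193480) (.node (nat_lit 193240) n899 n900) (.node (nat_lit 193680) n901 n902)) (.node (nat_lit 194360) (.node (nat_lit 194120) n903 n904) (.node (nat_lit 194600) n905 n906)))) (.node (nat_lit 196600) (.node (nat_lit 195720) (.node (nat_lit 195280) (.node (nat_lit 195040) n907 n908) (.node (nat_lit 195480) n909 n910)) (.node (nat_lit 196160) (.node (nat_lit 195920) n911 n912) (.node (nat_lit 196360) n913 n914))) (.node (nat_lit 197480) (.node (nat_lit 197040) (.node (nat_lit 196800) n915 n916) (.node (nat_lit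 197240) n917 n918)) (.node (nat_lit 197920) (.node (nat_lit 197680) n919 n920) (.node (nat_lit 198160) n921 n922)))))
noncomputable def n924 : T := (.node (nat_lit 198480) (.node (nat_lit 198440) l4960 l4961) (.node (nat_lit 198520) l4962 (.node (nat_lit 198560) l4963 l4964)))
noncomputable def n925 : T := (.node (nat_lit 198720) (.node (nat_lit 198640) l4965 (.node (nat_lit 198680) l4966 l4967)) (.node (nat_lit 198760) l4968 (.node (nat_lit 198800) l4969 l4970)))
noncomputable def n926 : T := (.node (nat_lit 198920) (.node (nat_lit 198880) l4971 l4972) (.node (nat_lit 198960) l4973 (.node (nat_lit 199000) l4974 l4975)))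
noncomputable def n927 : T := (.node (nat_lit 199160) (.node (nat_lit 199080) l4976 (.node (nat_lit 199120) l4977 l4978)) (.node (nat_lit 199200) l4979 (.node (nat_lit 199240) l4980 l4981)))
noncomputable def n928 : T := (.node (nat_lit 199360) (.node (nat_lit 199320) l4982 l4983) (.node (nat_lit 199400) l4984 (.node (nat_lit 199440) l4985 l4986)))
noncomputable def n929 : T := (.node (nat_lit 199600) (.node (nat_lit 199520) l4987 (.node (nat_lit 199560) l4988 l4989)) (.node (nat_lit 199640) l4990 (.node (nat_lit 199680) l4991 l4992)))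
noncomputable def n930 : T := (.node (nat_lit 199800) (.node (nat_lit 199760) l4993 l4994) (.node (nat_lit 199840) l4995 (.node (nat_lit 199880) l4996 l4997)))
noncomputable def n931 : T := (.node (nat_lit 200040) (.node (nat_lit 199960) l4998 (.node (nat_lit 200000) l4999 l5000)) (.node (nat_lit 200080) l5001 (.node (nat_lit 200120) l5002 l5003)))
noncomputable def n932 : T := (.node (nat_lit 200240) (.node (nat_lit 200200) l5004 l5005) (.node (nat_lit 200280) l5006 (.node (nat_lit 200320) l5007 l5008)))
noncomputable def n933 : T := (.node (nat_lit 200480) (.node (nat_lit 200400) l5009 (.node (nat_lit 200440) l5010 l5011)) (.node (nat_lit 200520) l5012 (.node (nat_lit 200560) l5013 l5014)))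
noncomputable def n934 : T := (.node (nat_lit 200680) (.node (nat_lit 200640) l5015 l5016) (.node (nat_lit 200720) l5017 (.node (nat_lit 200760) l5018 l5019)))
noncomputable def n935 : T := (.node (nat_lit 200920) (.node (nat_lit 200840) l5020 (.node (nat_lit 200880) l5021 l5022)) (.node (nat_lit 200960) l5023 (.node (nat_lit 201000) l5024 l5025)))
noncomputable def n936 : T := (.node (nat_lit 201120) (.node (nat_lit 201080) l5026 l5027) (.node (nat_lit 201160) l5028 (.node (nat_lit 201200) l5029 l5030)))
noncomputable def n937 : T := (.node (nat_lit 201360) (.node (nat_lit 201280) l5031 (.node (nat_lit 201320) l5032 l5033)) (.node (nat_lit 201400) l5034 (.node (nat_lit 201440) l5035 l5036)))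
noncomputable def n938 : T := (.node (nat_lit 201560) (.node (nat_lit 201520) l5037 l5038) (.node (nat_lit 201600) l5039 (.node (nat_lit 201640) l5040 l5041)))
noncomputable def n939 : T := (.node (nat_lit 201800) (.node (nat_lit 201720) l5042 (.node (nat_lit 201760) l5043 l5044)) (.node (nat_lit 201840) l5045 (.node (nat_lit 201880) l5046 l5047)))
noncomputable def n940 : T := (.node (nat_lit 202000) (.node (nat_lit 201960) l5048 l5049) (.node (nat_lit 202040) l5050 (.node (nat_lit 202080) l5051 l5052)))
noncomputable def n941 : T := (.node (nat_lit 202240) (.node (nat_lit 202160) l5053 (.node (nat_lit 202200) l5054 l5055)) (.node (nat_lit 202280) l5056 (.node (nat_lit 202320) l5057 l5058)))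
noncomputable def n942 : T := (.node (nat_lit 202440) (.node (nat_lit 202400) l5059 l5060) (.node (nat_lit 202480) l5061 (.node (nat_lit 202520) l5062 l5063)))
noncomputable def n943 : T := (.node (nat_lit 202680) (.node (nat_lit 202600) l5064 (.node (nat_lit 202640) l5065 l5066)) (.node (nat_lit 202720) l5067 (.node (nat_lit 202760) l5068 l5069)))
noncomputable def n944 : T := (.node (nat_lit 202880) (.node (nat_lit 202840) l5070 l5071) (.node (nat_lit 202920) l5072 (.node (nat_lit 202960) l5073 l5074)))
noncomputable def n945 : T := (.node (nat_lit 203120) (.node (nat_lit 203040) l5075 (.node (nat_lit 203080) l5076 l5077)) (.node (nat_lit 203160) l5078 (.node (nat_lit 203200) l5079 l5080)))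
noncomputable def n946 : T := (.node (nat_lit 203320) (.node (nat_lit 203280) l5081 l5082) (.node (nat_lit 203360) l5083 (.node (nat_lit 203400) l5084 l5085)))
noncomputable def n947 : T := (.node (nat_lit 203560) (.node (nat_lit 203480) l5086 (.node (nat_lit 203520) l5087 l5088)) (.node (nat_lit 203600) l5089 (.node (nat_lit 203640) l5090 l5091)))
noncomputable def n948 : T := (.node (nat_lit 203760) (.node (nat_lit 203720) l5092 l5093) (.node (nat_lit 203800) l5094 (.node (nat_lit 203840) l5095 l5096)))
noncomputable def n949 : T := (.node (nat_lit 204000) (.node (nat_lit 203920) l5097 (.node (nat_lit 203960) l5098 l5099)) (.node (nat_lit 204040) l5100 (.node (nat_lit 204080) l5101 l5102)))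
noncomputable def n950 : T := (.node (nat_lit 204200) (.node (nat_lit 204160) l5103 l5104) (.node (nat_lit 204240) l5105 (.node (nat_lit 204280) l5106 l5107)))
noncomputable def n951 : T := (.node (nat_lit 204440) (.node (nat_lit 204360) l5108 (.node (nat_lit 204400) l5109 l5110)) (.node (nat_lit 204480) l5111 (.node (nat_lit 204520) l5112 l5113)))
noncomputable def n952 : T := (.node (nat_lit 204640) (.node (nat_lit 204600) l5114 l5115) (.node (nat_lit 204680) l5116 (.node (nat_lit 204720) l5117 l5118)))
noncomputable def n953 : T := (.node (nat_lit 204880) (.node (nat_lit 204800) l5119 (.node (nat_lit 204840) l5120 l5121)) (.node (nat_lit 204920) l5122 (.node (nat_lit 204960) l5123 l5124)))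
noncomputable def n954 : T := (.node (nat_lit 205120) (.node (nat_lit 205040) l5125 (.node (nat_lit 205080) l5126 l5127)) (.node (nat_lit 205160) l5128 (.node (nat_lit 205200) l5129 l5130)))
noncomputable def n955 : T := (.node (nat_lit 205360) (.node (nat_lit 205280) l5131 (.node (nat_lit 205320) l5132 l5133)) (.node (nat_lit 205400) l5134 (.node (nat_lit 205440) l5135 l5136)))
noncomputable def n956 : T := (.node (nat_lit 201920) (.node (nat_lit 200160) (.node (nat_lit 199280) (.node (nat_lit 198840) (.node (nat_lit 198600) n924 n925) (.node (nat_lit 199040) n926 n927)) (.node (nat_lit 199720) (.node (nat_lit 199480) n928 n929) (.node (nat_lit 199920) n930 n931))) (.node (nat_lit 201040) (.node (nat_lit 200600) (.node (nat_lit 200360) n932 n933) (.node (nat_lit 200800) n934 n935)) (.node (nat_lit 201480) (.node (nat_lit 201240) n936 n937) (.node (nat_lit 201680) n938 n939)))) (.node (nat_lit 203680) (.node (nat_lit 202800) (.node (nat_lit 202360) (.node (nat_lit 202120) n940 n941) (.node (nat_lit 202560) n942 n943))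 (.node (nat_lit 203240) (.node (nat_lit 203000) n944 n945) (.node (nat_lit 203440) n946 n947))) (.node (nat_lit 204560) (.node (nat_lit 204120) (.node (nat_lit 203880) n948 n949) (.node (nat_lit 204320) n950 n951)) (.node (nat_lit 205000) (.node (nat_lit 204760) n952 n953) (.node (nat_lit 205240) n954 n955)))))
noncomputable def n957 : T := (.node (nat_lit 205560) (.node (nat_lit 205520) l5137 l5138) (.node (nat_lit 205600) l5139 (.node (nat_lit 205640) l5140 l5141)))
noncomputable def n958 : T := (.node (nat_lit 205800) (.node (nat_lit 205720) l5142 (.node (nat_lit 205760) l5143 l5144)) (.node (nat_lit 205840) l5145 (.node (nat_lit 205880) l5146 l5147)))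
noncomputable def n959 : T := (.node (nat_lit 206000) (.node (nat_lit 205960) l5148 l5149) (.node (nat_lit 206040) l5150 (.node (nat_lit 206080) l5151 l5152)))
noncomputable def n960 : T := (.node (nat_lit 206240) (.node (nat_lit 206160) l5153 (.node (nat_lit 206200) l5154 l5155)) (.node (nat_lit 206280) l5156 (.node (nat_lit 206320) l5157 l5158)))
noncomputable def n961 : T := (.node (nat_lit 206440) (.node (nat_lit 206400) l5159 l5160) (.node (nat_lit 206480) l5161 (.node (nat_lit 206520) l5162 l5163)))
noncomputable def n962 : T := (.node (nat_lit 206680) (.node (nat_lit 206600) l5164 (.node (nat_lit 206640) l5165 l5166)) (.node (nat_lit 206720) l5167 (.node (nat_lit 206760) l5168 l5169)))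
noncomputable def n963 : T := (.node (nat_lit 206880) (.node (nat_lit 206840) l5170 l5171) (.node (nat_lit 206920) l5172 (.node (nat_lit 206960) l5173 l5174)))
noncomputable def n964 : T := (.node (nat_lit 207120) (.node (nat_lit 207040) l5175 (.node (nat_lit 207080) l5176 l5177)) (.node (nat_lit 207160) l5178 (.node (nat_lit 207200) l5179 l5180)))
noncomputable def n965 : T := (.node (nat_lit 207320) (.node (nat_lit 207280) l5181 l5182) (.node (nat_lit 207360) l5183 (.node (nat_lit 207400) l5184 l5185)))
noncomputable def n966 : T := (.node (nat_lit 207560) (.node (nat_lit 207480) l5186 (.node (nat_lit 207520) l5187 l5188)) (.node (nat_lit 207600) l5189 (.node (nat_lit 207640) l5190 l5191)))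
noncomputable def n967 : T := (.node (nat_lit 207760) (.node (nat_lit 207720) l5192 l5193) (.node (nat_lit 207800) l5194 (.node (nat_lit 207840) l5195 l5196)))
noncomputable def n968 : T := (.node (nat_lit 208000) (.node (nat_lit 207920) l5197 (.node (nat_lit 207960) l5198 l5199)) (.node (nat_lit 208040) l5200 (.node (nat_lit 208080) l5201 l5202)))
noncomputable def n969 : T := (.node (nat_lit 208200) (.node (nat_lit 208160) l5203 l5204) (.node (nat_lit 208240) l5205 (.node (nat_lit 208280) l5206 l5207)))
noncomputable def n970 : T := (.node (nat_lit 208440) (.node (nat_lit 208360) l5208 (.node (nat_lit 208400) l5209 l5210)) (.node (nat_lit 208480) l5211 (.node (nat_lit 208520) l5212 l5213)))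
noncomputable def n971 : T := (.node (nat_lit 208640) (.node (nat_lit 208600) l5214 l5215) (.node (nat_lit 208680) l5216 (.node (nat_lit 208720) l5217 l5218)))
noncomputable def n972 : T := (.node (nat_lit 208880) (.node (nat_lit 208800) l5219 (.node (nat_lit 208840) l5220 l5221)) (.node (nat_lit 208920) l5222 (.node (nat_lit 208960) l5223 l5224)))
noncomputable def n973 : T := (.node (nat_lit 209080) (.node (nat_lit 209040) l5225 l5226) (.node (nat_lit 209120) l5227 (.node (nat_lit 209160) l5228 l5229)))
noncomputable def n974 : T := (.node (nat_lit 209320) (.node (nat_lit 209240) l5230 (.node (nat_lit 209280) l5231 l5232)) (.node (nat_lit 209360) l5233 (.node (nat_lit 209400) l5234 l5235)))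
noncomputable def n975 : T := (.node (nat_lit 209520) (.node (nat_lit 209480) l5236 l5237) (.node (nat_lit 209560) l5238 (.node (nat_lit 209600) l5239 l5240)))
noncomputable def n976 : T := (.node (nat_lit 209760) (.node (nat_lit 209680) l5241 (.node (nat_lit 209720) l5242 l5243)) (.node (nat_lit 209800) l5244 (.node (nat_lit 209840) l5245 l5246)))
noncomputable def n977 : T := (.node (nat_lit 209960) (.node (nat_lit 209920) l5247 l5248) (.node (nat_lit 210000) l5249 (.node (nat_lit 210040) l5250 l5251)))
noncomputable def n978 : T := (.node (nat_lit 210200) (.node (nat_lit 210120) l5252 (.node (nat_lit 210160) l5253 l5254)) (.node (nat_lit 210240) l5255 (.node (nat_lit 210280) l5256 l5257)))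
noncomputable def n979 : T := (.node (nat_lit 210400) (.node (nat_lit 210360) l5258 l5259) (.node (nat_lit 210440) l5260 (.node (nat_lit 210480) l5261 l5262)))
noncomputable def n980 : T := (.node (nat_lit 210640) (.node (nat_lit 210560) l5263 (.node (nat_lit 210600) l5264 l5265)) (.node (nat_lit 210680) l5266 (.node (nat_lit 210720) l5267 l5268)))
noncomputable def n981 : T := (.node (nat_lit 210840) (.node (nat_lit 210800) l5269 l5270) (.node (nat_lit 210880) l5271 (.node (nat_lit 210920) l5272 l5273)))
noncomputable def n982 : T := (.node (nat_lit 211080) (.node (nat_lit 211000) l5274 (.node (nat_lit 211040) l5275 l5276)) (.node (nat_lit 211120) l5277 (.node (nat_lit 211160) l5278 l5279)))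
noncomputable def n983 : T := (.node (nat_lit 211280) (.node (nat_lit 211240) l5280 l5281) (.node (nat_lit 211320) l5282 (.node (nat_lit 211360) l5283 l5284)))
noncomputable def n984 : T := (.node (nat_lit 211520) (.node (nat_lit 211440) l5285 (.node (nat_lit 211480) l5286 l5287)) (.node (nat_lit 211560) l5288 (.node (nat_lit 211600) l5289 l5290)))
noncomputable def n985 : T := (.node (nat_lit 211720) (.node (nat_lit 211680) l5291 l5292) (.node (nat_lit 211760) l5293 (.node (nat_lit 211800) l5294 l5295)))
noncomputable def n986 : T := (.node (nat_lit 211960) (.node (nat_lit 211880) l5296 (.node (nat_lit 211920) l5297 l5298)) (.node (nat_lit 212000) l5299 (.node (nat_lit 212040) l5300 l5301)))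
noncomputable def n987 : T := (.node (nat_lit 212200) (.node (nat_lit 212120) l5302 (.node (nat_lit 212160) l5303 l5304)) (.node (nat_lit 212240) l5305 (.node (nat_lit 212280) l5306 l5307)))
noncomputable def n988 : T := (.node (nat_lit 212440) (.node (nat_lit 212360) l5308 (.node (nat_lit 212400) l5309 l5310)) (.node (nat_lit 212480) l5311 (.node (nat_lit 212520) l5312 l5313)))
noncomputable def n989 : T := (.node (nat_lit 209000) (.node (nat_lit 207240) (.node (nat_lit 206360) (.node (nat_lit 205920) (.node (nat_lit 205680) n957 n958) (.node (nat_lit 206120) n959 n960)) (.node (nat_lit 206800) (.node (nat_lit 206560) n961 n962) (.node (nat_lit 207000) n963 n964))) (.node (nat_lit 208120) (.node (nat_lit 207680) (.node (nat_lit 207440) n965 n966) (.node (nat_lit 207880) n967 n968)) (.node (nat_lit 208560) (.node (nat_lit 208320) n969 n970) (.node (nat_lit 208760) n971 n972)))) (.node (nat_lit 210760) (.node (nat_lit 209880) (.node (nat_lit 209440) (.node (nat_lit 209200) n973 n974) (.node (nat_lit 209640) n975 n976))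 (.node (nat_lit 210320) (.node (nat_lit 210080) n977 n978) (.node (nat_lit 210520) n979 n980))) (.node (nat_lit 211640) (.node (nat_lit 211200) (.node (nat_lit 210960) n981 n982) (.node (nat_lit 211400) n983 n984)) (.node (nat_lit 212080) (.node (nat_lit 211840) n985 n986) (.node (nat_lit 212320) n987 n988)))))
noncomputable def n990 : T := (.node (nat_lit 212640) (.node (nat_lit 212600) l5314 l5315) (.node (nat_lit 212680) l5316 (.node (nat_lit 212720) l5317 l5318)))
noncomputable def n991 : T := (.node (nat_lit 212880) (.node (nat_lit 212800) l5319 (.node (nat_lit 212840) l5320 l5321)) (.node (nat_lit 212920) l5322 (.node (nat_lit 212960) l5323 l5324)))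
noncomputable def n992 : T := (.node (nat_lit 213080) (.node (nat_lit 213040) l5325 l5326) (.node (nat_lit 213120) l5327 (.node (nat_lit 213160) l5328 l5329)))
noncomputable def n993 : T := (.node (nat_lit 213320) (.node (nat_lit 213240) l5330 (.node (nat_lit 213280) l5331 l5332)) (.node (nat_lit 213360) l5333 (.node (nat_lit 213400) l5334 l5335)))
noncomputable def n994 : T := (.node (nat_lit 213520) (.node (nat_lit 213480) l5336 l5337) (.node (nat_lit 213560) l5338 (.node (nat_lit 213600) l5339 l5340)))
noncomputable def n995 : T := (.node (nat_lit 213760) (.node (nat_lit 213680) l5341 (.node (nat_lit 213720) l5342 l5343)) (.node (nat_lit 213800) l5344 (.node (nat_lit 213840) l5345 l5346)))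
noncomputable def n996 : T := (.node (nat_lit 213960) (.node (nat_lit 213920) l5347 l5348) (.node (nat_lit 214000) l5349 (.node (nat_lit 214040) l5350 l5351)))
noncomputable def n997 : T := (.node (nat_lit 214200) (.node (nat_lit 214120) l5352 (.node (nat_lit 214160) l5353 l5354)) (.node (nat_lit 214240) l5355 (.node (nat_lit 214280) l5356 l5357)))
noncomputable def n998 : T := (.node (nat_lit 214400) (.node (nat_lit 214360) l5358 l5359) (.node (nat_lit 214440) l5360 (.node (nat_lit 214480) l5361 l5362)))
noncomputable def n999 : T := (.node (nat_lit 214640) (.node (nat_lit 214560) l5363 (.node (nat_lit 214600) l5364 l5365)) (.node (nat_lit 214680) l5366 (.node (nat_lit 214720) l5367 l5368)))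
noncomputable def n1000 : T := (.node (nat_lit 214840) (.node (nat_lit 214800) l5369 l5370) (.node (nat_lit 214880) l5371 (.node (nat_lit 214920) l5372 l5373)))
noncomputable def n1001 : T := (.node (nat_lit 215080) (.node (nat_lit 215000) l5374 (.node (nat_lit 215040) l5375 l5376)) (.node (nat_lit 215120) l5377 (.node (nat_lit 215160) l5378 l5379)))
noncomputable def n1002 : T := (.node (nat_lit 215280) (.node (nat_lit 215240) l5380 l5381) (.node (nat_lit 215320) l5382 (.node (nat_lit 215360) l5383 l5384)))
noncomputable def n1003 : T := (.node (nat_lit 215520) (.node (nat_lit 215440) l5385 (.node (nat_lit 215480) l5386 l5387)) (.node (nat_lit 215560) l5388 (.node (nat_lit 215600) l5389 l5390)))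
noncomputable def n1004 : T := (.node (nat_lit 215720) (.node (nat_lit 215680) l5391 l5392) (.node (nat_lit 215760) l5393 (.node (nat_lit 215800) l5394 l5395)))
noncomputable def n1005 : T := (.node (nat_lit 215960) (.node (nat_lit 215880) l5396 (.node (nat_lit 215920) l5397 l5398)) (.node (nat_lit 216000) l5399 (.node (nat_lit 216040) l5400 l5401)))
noncomputable def n1006 : T := (.node (nat_lit 216160) (.node (nat_lit 216120) l5402 l5403) (.node (nat_lit 216200) l5404 (.node (nat_lit 216240) l5405 l5406)))
noncomputable def n1007 : T := (.node (nat_lit 216400) (.node (nat_lit 216320) l5407 (.node (nat_lit 216360) l5408 l5409)) (.node (nat_lit 216440) l5410 (.node (nat_lit 216480) l5411 l5412)))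
noncomputable def n1008 : T := (.node (nat_lit 216600) (.node (nat_lit 216560) l5413 l5414) (.node (nat_lit 216640) l5415 (.node (nat_lit 216680) l5416 l5417)))
noncomputable def n1009 : T := (.node (nat_lit 216840) (.node (nat_lit 216760) l5418 (.node (nat_lit 216800) l5419 l5420)) (.node (nat_lit 216880) l5421 (.node (nat_lit 216920) l5422 l5423)))
noncomputable def n1010 : T := (.node (nat_lit 217040) (.node (nat_lit 217000) l5424 l5425) (.node (nat_lit 217080) l5426 (.node (nat_lit 217120) l5427 l5428)))
noncomputable def n1011 : T := (.node (nat_lit 217280) (.node (nat_lit 217200) l5429 (.node (nat_lit 217240) l5430 l5431)) (.node (nat_lit 217320) l5432 (.node (nat_lit 217360) l5433 l5434)))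
noncomputable def n1012 : T := (.node (nat_lit 217480) (.node (nat_lit 217440) l5435 l5436) (.node (nat_lit 217520) l5437 (.node (nat_lit 217560) l5438 l5439)))
noncomputable def n1013 : T := (.node (nat_lit 217720) (.node (nat_lit 217640) l5440 (.node (nat_lit 217680) l5441 l5442)) (.node (nat_lit 217760) l5443 (.node (nat_lit 217800) l5444 l5445)))
noncomputable def n1014 : T := (.node (nat_lit 217920) (.node (nat_lit 217880) l5446 l5447) (.node (nat_lit 217960) l5448 (.node (nat_lit 218000) l5449 l5450)))
noncomputable def n1015 : T := (.node (nat_lit 218160) (.node (nat_lit 218080) l5451 (.node (nat_lit 218120) l5452 l5453)) (.node (nat_lit 218200) l5454 (.node (nat_lit 218240) l5455 l5456)))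
noncomputable def n1016 : T := (.node (nat_lit 218360) (.node (nat_lit 218320) l5457 l5458) (.node (nat_lit 218400) l5459 (.node (nat_lit 218440) l5460 l5461)))
noncomputable def n1017 : T := (.node (nat_lit 218600) (.node (nat_lit 218520) l5462 (.node (nat_lit 218560) l5463 l5464)) (.node (nat_lit 218640) l5465 (.node (nat_lit 218680) l5466 l5467)))
noncomputable def n1018 : T := (.node (nat_lit 218800) (.node (nat_lit 218760) l5468 l5469) (.node (nat_lit 218840) l5470 (.node (nat_lit 218880) l5471 l5472)))
noncomputable def n1019 : T := (.node (nat_lit 219040) (.node (nat_lit 218960) l5473 (.node (nat_lit 219000) l5474 l5475)) (.node (nat_lit 219080) l5476 (.node (nat_lit 219120) l5477 l5478)))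
noncomputable def n1020 : T := (.node (nat_lit 219280) (.node (nat_lit 219200) l5479 (.node (nat_lit 219240) l5480 l5481)) (.node (nat_lit 219320) l5482 (.node (nat_lit 219360) l5483 l5484)))
noncomputable def n1021 : T := (.node (nat_lit 219520) (.node (nat_lit 219440) l5485 (.node (nat_lit 219480) l5486 l5487)) (.node (nat_lit 219560) l5488 (.node (nat_lit 219600) l5489 l5490)))
noncomputable def n1022 : T := (.node (nat_lit 216080) (.node (nat_lit 214320) (.node (nat_lit 213440) (.node (nat_lit 213000) (.node (nat_lit 212760) n990 n991) (.node (nat_lit 213200) n992 n993)) (.node (nat_lit 213880) (.node (nat_lit 213640) n994 n995) (.node (nat_lit 214080) n996 n997))) (.node (nat_lit 215200) (.node (nat_lit 214760) (.node (nat_lit 214520) n998 n999) (.node (nat_lit 214960) n1000 n1001)) (.node (nat_lit 215640) (.node (nat_lit 215400) n1002 n1003) (.node (nat_lit 215840) n1004 n1005)))) (.node (nat_lit 217840) (.node (nat_lit 216960) (.node (nat_lit 216520) (.node (nat_lit 216280) n1006 n1007) (.node (nat_lit 216720)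 n1008 n1009)) (.node (nat_lit 217400) (.node (nat_lit 217160) n1010 n1011) (.node (nat_lit 217600) n1012 n1013))) (.node (nat_lit 218720) (.node (nat_lit 218280) (.node (nat_lit 218040) n1014 n1015) (.node (nat_lit 218480) n1016 n1017)) (.node (nat_lit 219160) (.node (nat_lit 218920) n1018 n1019) (.node (nat_lit 219400) n1020 n1021)))))
noncomputable def n1023 : T := (.node (nat_lit 219720) (.node (nat_lit 219680) l5491 l5492) (.node (nat_lit 219760) l5493 (.node (nat_lit 219800) l5494 l5495)))
noncomputable def n1024 : T := (.node (nat_lit 219960) (.node (nat_lit 219880) l5496 (.node (nat_lit 219920) l5497 l5498)) (.node (nat_lit 220000) l5499 (.node (nat_lit 220040) l5500 l5501)))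
noncomputable def n1025 : T := (.node (nat_lit 220160) (.node (nat_lit 220120) l5502 l5503) (.node (nat_lit 220200) l5504 (.node (nat_lit 220240) l5505 l5506)))
noncomputable def n1026 : T := (.node (nat_lit 220400) (.node (nat_lit 220320) l5507 (.node (nat_lit 220360) l5508 l5509)) (.node (nat_lit 220440) l5510 (.node (nat_lit 220480) l5511 l5512)))
noncomputable def n1027 : T := (.node (nat_lit 220600) (.node (nat_lit 220560) l5513 l5514) (.node (nat_lit 220640) l5515 (.node (nat_lit 220680) l5516 l5517)))
noncomputable def n1028 : T := (.node (nat_lit 220840) (.node (nat_lit 220760) l5518 (.node (nat_lit 220800) l5519 l5520)) (.node (nat_lit 220880) l5521 (.node (nat_lit 220920) l5522 l5523)))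
noncomputable def n1029 : T := (.node (nat_lit 221040) (.node (nat_lit 221000) l5524 l5525) (.node (nat_lit 221080) l5526 (.node (nat_lit 221120) l5527 l5528)))
noncomputable def n1030 : T := (.node (nat_lit 221280) (.node (nat_lit 221200) l5529 (.node (nat_lit 221240) l5530 l5531)) (.node (nat_lit 221320) l5532 (.node (nat_lit 221360) l5533 l5534)))
noncomputable def n1031 : T := (.node (nat_lit 221480) (.node (nat_lit 221440) l5535 l5536) (.node (nat_lit 221520) l5537 (.node (nat_lit 221560) l5538 l5539)))
noncomputable def n1032 : T := (.node (nat_lit 221720) (.node (nat_lit 221640) l5540 (.node (nat_lit 221680) l5541 l5542)) (.node (nat_lit 221760) l5543 (.node (nat_lit 221800) l5544 l5545)))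
noncomputable def n1033 : T := (.node (nat_lit 221920) (.node (nat_lit 221880) l5546 l5547) (.node (nat_lit 221960) l5548 (.node (nat_lit 222000) l5549 l5550)))
noncomputable def n1034 : T := (.node (nat_lit 222160) (.node (nat_lit 222080) l5551 (.node (nat_lit 222120) l5552 l5553)) (.node (nat_lit 222200) l5554 (.node (nat_lit 222240) l5555 l5556)))
noncomputable def n1035 : T := (.node (nat_lit 222360) (.node (nat_lit 222320) l5557 l5558) (.node (nat_lit 222400) l5559 (.node (nat_lit 222440) l5560 l5561)))
noncomputable def n1036 : T := (.node (nat_lit 222600) (.node (nat_lit 222520) l5562 (.node (nat_lit 222560) l5563 l5564)) (.node (nat_lit 222640) l5565 (.node (nat_lit 222680) l5566 l5567)))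
noncomputable def n1037 : T := (.node (nat_lit 222840) (.node (nat_lit 222760) l5568 (.node (nat_lit 222800) l5569 l5570)) (.node (nat_lit 222880) l5571 (.node (nat_lit 222920) l5572 l5573)))
noncomputable def n1038 : T := (.node (nat_lit 223080) (.node (nat_lit 223000) l5574 (.node (nat_lit 223040) l5575 l5576)) (.node (nat_lit 223120) l5577 (.node (nat_lit 223160) l5578 l5579)))
noncomputable def n1039 : T := (.node (nat_lit 223280) (.node (nat_lit 223240) l5580 l5581) (.node (nat_lit 223320) l5582 (.node (nat_lit 223360) l5583 l5584)))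
noncomputable def n1040 : T := (.node (nat_lit 223520) (.node (nat_lit 223440) l5585 (.node (nat_lit 223480) l5586 l5587)) (.node (nat_lit 223560) l5588 (.node (nat_lit 223600) l5589 l5590)))
noncomputable def n1041 : T := (.node (nat_lit 223720) (.node (nat_lit 223680) l5591 l5592) (.node (nat_lit 223760) l5593 (.node (nat_lit 223800) l5594 l5595)))
noncomputable def n1042 : T := (.node (nat_lit 223960) (.node (nat_lit 223880) l5596 (.node (nat_lit 223920) l5597 l5598)) (.node (nat_lit 224000) l5599 (.node (nat_lit 224040) l5600 l5601)))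
noncomputable def n1043 : T := (.node (nat_lit 224160) (.node (nat_lit 224120) l5602 l5603) (.node (nat_lit 224200) l5604 (.node (nat_lit 224240) l5605 l5606)))
noncomputable def n1044 : T := (.node (nat_lit 224400) (.node (nat_lit 224320) l5607 (.node (nat_lit 224360) l5608 l5609)) (.node (nat_lit 224440) l5610 (.node (nat_lit 224480) l5611 l5612)))
noncomputable def n1045 : T := (.node (nat_lit 224600) (.node (nat_lit 224560) l5613 l5614) (.node (nat_lit 224640) l5615 (.node (nat_lit 224680) l5616 l5617)))
noncomputable def n1046 : T := (.node (nat_lit 224840) (.node (nat_lit 224760) l5618 (.node (nat_lit 224800) l5619 l5620)) (.node (nat_lit 224880) l5621 (.node (nat_lit 224920) l5622 l5623)))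
noncomputable def n1047 : T := (.node (nat_lit 225040) (.node (nat_lit 225000) l5624 l5625) (.node (nat_lit 225080) l5626 (.node (nat_lit 225120) l5627 l5628)))
noncomputable def n1048 : T := (.node (nat_lit 225280) (.node (nat_lit 225200) l5629 (.node (nat_lit 225240) l5630 l5631)) (.node (nat_lit 225320) l5632 (.node (nat_lit 225360) l5633 l5634)))
noncomputable def n1049 : T := (.node (nat_lit 225480) (.node (nat_lit 225440) l5635 l5636) (.node (nat_lit 225520) l5637 (.node (nat_lit 225560) l5638 l5639)))
noncomputable def n1050 : T := (.node (nat_lit 225720) (.node (nat_lit 225640) l5640 (.node (nat_lit 225680) l5641 l5642)) (.node (nat_lit 225760) l5643 (.node (nat_lit 225800) l5644 l5645)))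
noncomputable def n1051 : T := (.node (nat_lit 225920) (.node (nat_lit 225880) l5646 l5647) (.node (nat_lit 225960) l5648 (.node (nat_lit 226000) l5649 l5650)))
noncomputable def n1052 : T := (.node (nat_lit 226160) (.node (nat_lit 226080) l5651 (.node (nat_lit 226120) l5652 l5653)) (.node (nat_lit 226200) l5654 (.node (nat_lit 226240) l5655 l5656)))
noncomputable def n1053 : T := (.node (nat_lit 226400) (.node (nat_lit 226320) l5657 (.node (nat_lit 226360) l5658 l5659)) (.node (nat_lit 226440) l5660 (.node (nat_lit 226480) l5661 l5662)))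
noncomputable def n1054 : T := (.node (nat_lit 226640) (.node (nat_lit 226560) l5663 (.node (nat_lit 226600) l5664 l5665)) (.node (nat_lit 226680) l5666 (.node (nat_lit 226720) l5667 l5668)))
noncomputable def n1055 : T := (.node (nat_lit 223200) (.node (nat_lit 221400) (.node (nat_lit 220520) (.node (nat_lit 220080) (.node (nat_lit 219840) n1023 n1024) (.node (nat_lit 220280) n1025 n1026)) (.node (nat_lit 220960) (.node (nat_lit 220720) n1027 n1028) (.node (nat_lit 221160) n1029 n1030))) (.node (nat_lit 222280) (.node (nat_lit 221840) (.node (nat_lit 221600) n1031 n1032) (.node (nat_lit 222040) n1033 n1034)) (.node (nat_lit 222720) (.node (nat_lit 222480) n1035 n1036) (.node (nat_lit 222960) n1037 n1038)))) (.node (nat_lit 224960) (.node (nat_lit 224080) (.node (nat_lit 223640) (.node (nat_lit 223400) n1039 n1040) (.node (nat_lit 223840) n1041 n1042)) (.node (nat_lit 224520) (.node (nat_lit 224280) n1043 n1044) (.node (nat_lit 224720) n1045 n1046))) (.node (nat_lit 225840) (.node (nat_lit 225400) (.node (nat_lit 225160)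 n1047 n1048) (.node (nat_lit 225600) n1049 n1050)) (.node (nat_lit 226280) (.node (nat_lit 226040) n1051 n1052) (.node (nat_lit 226520) n1053 n1054)))))
noncomputable def tb : T := (.node (nat_lit 113360) (.node (nat_lit 56680) (.node (nat_lit 28320) (.node (nat_lit 14160) (.node (nat_lit 7080) n32 n65) (.node (nat_lit 21240) n98 n131)) (.node (nat_lit 42480) (.node (nat_lit 35400) n164 n197) (.node (nat_lit 49560) n230 n263))) (.node (nat_lit 85000) (.node (nat_lit 70840) (.node (nat_lit 63760) n296 n329) (.node (nat_lit 77920) n362 n395)) (.node (nat_lit 99160) (.node (nat_lit 92080) n428 n461) (.node (nat_lit 106240) n494 n527)))) (.node (nat_lit 170040) (.node (nat_lit 141680) (.node (nat_lit 127520) (.node (nat_lit 120440) n560 n593) (.node (nat_lit 134600) n626 n659)) (.node (nat_lit 155840) (.node (nat_lit 148760) n692 n725) (.node (nat_lit 162920) n758 n791))) (.node (nat_lit 198400) (.node (nat_lit 184200) (.node (nat_lit 177120) n824 n857) (.node (nat_lit 191280) n890 n923)) (.node (nat_lit 212560) (.node (nat_lit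 205480) n956 n989) (.node (nat_lit 219640) n1022 n1055)))))
noncomputable def r0 : WT := (.node (nat_lit 4) (.leaf (nat_lit 29698) [nat_lit 240, nat_lit 60, nat_lit 270]) (.leaf (nat_lit 139272) [nat_lit 210, nat_lit 450, nat_lit 270, nat_lit 60, nat_lit 330]))
noncomputable def r1 : WT := (.node (nat_lit 6) (.leaf (nat_lit 29702) [nat_lit 270, nat_lit 60, nat_lit 240]) (.leaf (nat_lit 33794) [nat_lit 120, nat_lit 60, nat_lit 120]))
noncomputable def r2 : WT := (.node (nat_lit 8) (.leaf (nat_lit 86020) [nat_lit 270, nat_lit 60, nat_lit 450, nat_lit 210]) (.node (nat_lit 9) (.leaf (nat_lit 275462) [nat_lit 240, nat_lit 330, nat_lit 270, nat_lit 60, nat_lit 210]) (.node (nat_lit 10) (.leaf (nat_lit 175106) [nat_lit 270, nat_lit 330, nat_lit 60, nat_lit 210, nat_lit 450]) (.node (nat_lit 11) (.leaf (nat_lit 344066) [nat_lit 150, nat_lit 60, nat_lit 150, nat_lit 60, nat_lit 150]) (.leaf (nat_lit 139267) [nat_lit 330, nat_lit 60, nat_lit 240, nat_lit 420, nat_lit 210])))))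
noncomputable def r3 : WT := (.node (nat_lit 18) (.node (nat_lit 15) (.node (nat_lit 13) (.leaf (nat_lit 115716) [nat_lit 240, nat_lit 60, nat_lit 210, nat_lit 450, nat_lit 450]) (.node (nat_lit 14) (.leaf (nat_lit 139268) [nat_lit 330, nat_lit 60, nat_lit 210, nat_lit 450, nat_lit 270]) (.leaf (nat_lit 257027) [nat_lit 270, nat_lit 60, nat_lit 150, nat_lit 240, nat_lit 150]))) (.node (nat_lit 16) (.leaf (nat_lit 177153) [nat_lit 330, nat_lit 240, nat_lit 330, nat_lit 60, nat_lit 420]) (.node (nat_lit 17) (.leaf (nat_lit 275458) [nat_lit 210, nat_lit 60, nat_lit 240, nat_lit 330, nat_lit 270]) (.leaf (nat_lit 177154) [nat_lit 330, nat_lit 270, nat_lit 330, nat_lit 60, nat_lit 450])))) (.node (nat_lit 22) (.node (nat_lit 20) (.node (nat_lit 19) (.leaf (nat_lit 175107) [nat_lit 330, nat_lit 240, nat_lit 60, nat_lit 420, nat_lit 210]) (.leaf (nat_lit 257028) [nat_lit 240, nat_lit 60, nat_lit 150, nat_lit 270, nat_lit 150])) (.node (nat_lit 21) (.leaf (nat_lit 177162) [nat_lit 450, nat_lit 60, nat_lit 330, nat_lit 270, nat_lit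 330]) (.leaf (nat_lit 175112) [nat_lit 210, nat_lit 450, nat_lit 60, nat_lit 270, nat_lit 330]))) (.node (nat_lit 24) (.node (nat_lit 23) (.leaf (nat_lit 314372) [nat_lit 300, nat_lit 60, nat_lit 150, nat_lit 120, nat_lit 150]) (.leaf (nat_lit 177161) [nat_lit 420, nat_lit 60, nat_lit 330, nat_lit 240, nat_lit 330])) (.node (nat_lit 25) (.leaf (nat_lit 175113) [nat_lit 420, nat_lit 210, nat_lit 60, nat_lit 330, nat_lit 240]) (.leaf (nat_lit 99330) [nat_lit 300, nat_lit 60, nat_lit 300, nat_lit 120])))))
noncomputable def r4 : WT := (.node (nat_lit 30) (.leaf (nat_lit 180233) [nat_lit 420, nat_lit 270, nat_lit 60, nat_lit 330, nat_lit 270]) (.leaf (nat_lit 147457) [nat_lit 330, nat_lit 60, nat_lit 210, nat_lit 240, nat_lit 420]))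
noncomputable def r5 : WT := (.node (nat_lit 33) (.leaf (nat_lit 130054) [nat_lit 270, nat_lit 60, nat_lit 450, nat_lit 270, nat_lit 450]) (.leaf (nat_lit 290820) [nat_lit 270, nat_lit 180, nat_lit 90, nat_lit 270, nat_lit 180]))
noncomputable def r6 : WT := (.node (nat_lit 36) (.leaf (nat_lit 319490) [nat_lit 120, nat_lit 180, nat_lit 90, nat_lit 180, nat_lit 120]) (.leaf (nat_lit 99331) [nat_lit 300, nat_lit 60, nat_lit 120, nat_lit 300]))
noncomputable def r7 : WT := (.node (nat_lit 38) (.leaf (nat_lit 241674) [nat_lit 270, nat_lit 120, nat_lit 60, nat_lit 120, nat_lit 240]) (.leaf (nat_lit 241668) [nat_lit 120, nat_lit 240, nat_lit 60, nat_lit 270, nat_lit 120]))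
noncomputable def r8 : WT := (.node (nat_lit 40) (.leaf (nat_lit 359424) [nat_lit 90, nat_lit 60, nat_lit 90, nat_lit 60, nat_lit 90, nat_lit 60, nat_lit 90, nat_lit 60, nat_lit 90]) (.leaf (nat_lit 271370) [nat_lit 270, nat_lit 60, nat_lit 90, nat_lit 240, nat_lit 90]))
noncomputable def r9 : WT := (.node (nat_lit 42) (.leaf (nat_lit 86021) [nat_lit 210, nat_lit 420, nat_lit 60, nat_lit 240]) (.node (nat_lit 43) (.leaf (nat_lit 355333) [nat_lit 180, nat_lit 90, nat_lit 60, nat_lit 180, nat_lit 90]) (.leaf (nat_lit 147462) [nat_lit 330, nat_lit 60, nat_lit 450, nat_lit 270, nat_lit 210])))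
noncomputable def r10 : WT := (.leaf (nat_lit 358403) [nat_lit 150, nat_lit 120, nat_lit 90, nat_lit 60, nat_lit 150, nat_lit 120, nat_lit 90, nat_lit 60, nat_lit 150, nat_lit 120, nat_lit 90, nat_lit 60, nat_lit 150, nat_lit 120, nat_lit 90])
noncomputable def r11 : WT := (.leaf (nat_lit 360451) [nat_lit 150, nat_lit 90, nat_lit 60, nat_lit 150, nat_lit 90, nat_lit 60, nat_lit 150, nat_lit 90, nat_lit 60, nat_lit 150, nat_lit 90, nat_lit 60, nat_lit 150, nat_lit 90])
noncomputable def r12 : WT := (.node (nat_lit 45) (.leaf (nat_lit 139271) [nat_lit 240, nat_lit 420, nat_lit 210, nat_lit 60, nat_lit 330]) (.node (nat_lit 46) r10 r11))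
noncomputable def r13 : WT := (.leaf (nat_lit 360450) [nat_lit 90, nat_lit 150, nat_lit 60, nat_lit 90, nat_lit 150, nat_lit 60, nat_lit 90, nat_lit 150, nat_lit 60, nat_lit 90, nat_lit 150, nat_lit 60, nat_lit 90, nat_lit 150])
noncomputable def r14 : WT := (.leaf (nat_lit 358404) [nat_lit 90, nat_lit 120, nat_lit 150, nat_lit 60, nat_lit 90, nat_lit 120, nat_lit 150, nat_lit 60, nat_lit 90, nat_lit 120, nat_lit 150, nat_lit 60, nat_lit 90, nat_lit 120, nat_lit 150])
noncomputable def r15 : WT := (.node (nat_lit 49) (.node (nat_lit 48) (.leaf (nat_lit 271369) [nat_lit 240, nat_lit 60, nat_lit 90, nat_lit 270, nat_lit 90]) (.leaf (nat_lit 327685) [nat_lit 180, nat_lit 90, nat_lit 120, nat_lit 180, nat_lit 150])) (.node (nat_lit 50) (.leaf (nat_lit 158726) [nat_lit 120, nat_lit 60, nat_lit 450, nat_lit 120, nat_lit 420]) (.node (nat_lit 51) r13 r14)))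
noncomputable def r16 : WT := (.node (nat_lit 55) (.node (nat_lit 53) (.leaf (nat_lit 279562) [nat_lit 270, nat_lit 60, nat_lit 300, nat_lit 240, nat_lit 300]) (.node (nat_lit 54) (.leaf (nat_lit 99335) [nat_lit 120, nat_lit 300, nat_lit 60, nat_lit 300]) (.leaf (nat_lit 272393) [nat_lit 240, nat_lit 180, nat_lit 90, nat_lit 240, nat_lit 180]))) (.node (nat_lit 57) (.node (nat_lit 56) (.leaf (nat_lit 323594) [nat_lit 120, nat_lit 60, nat_lit 210, nat_lit 120, nat_lit 210]) (.leaf (nat_lit 271361) [nat_lit 90, nat_lit 270, nat_lit 90, nat_lit 60, nat_lit 240])) (.node (nat_lit 58) (.leaf (nat_lit 147466) [nat_lit 450, nat_lit 270, nat_lit 210, nat_lit 60, nat_lit 330]) (.leaf (nat_lit 271362) [nat_lit 90, nat_lit 240, nat_lit 90, nat_lit 60, nat_lit 270]))))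
noncomputable def r17 : WT := (.node (nat_lit 64) (.node (nat_lit 61) (.node (nat_lit 60) (.leaf (nat_lit 279561) [nat_lit 240, nat_lit 60, nat_lit 300, nat_lit 270, nat_lit 300]) (.leaf (nat_lit 176130) [nat_lit 120, nat_lit 60, nat_lit 420, nat_lit 120, nat_lit 450])) (.node (nat_lit 62) (.leaf (nat_lit 322569) [nat_lit 120, nat_lit 180, nat_lit 150, nat_lit 90, nat_lit 180]) (.node (nat_lit 63) (.leaf (nat_lit 147461) [nat_lit 210, nat_lit 240, nat_lit 420, nat_lit 60, nat_lit 330]) (.leaf (nat_lit 94212) [nat_lit 270, nat_lit 60, nat_lit 270, nat_lit 270])))) (.node (nat_lit 67) (.node (nat_lit 65) (.leaf (nat_lit 355328) [nat_lit 90, nat_lit 180, nat_lit 60, nat_lit 90, nat_lit 180]) (.node (nat_lit 66) (.leaf (nat_lit 314376) [nat_lit 150, nat_lit 120, nat_lit 150, nat_lit 60, nat_lit 300]) (.leaf (nat_lit 273418) [nat_lit 270, nat_lit 60, nat_lit 180, nat_lit 270, nat_lit 180]))) (.node (nat_lit 69) (.node (nat_lit 68) (.leaf (nat_lit 324618) [nat_lit 120, nat_lit 60, nat_lit 330, nat_lit 120, nat_lit 330]) (.leaf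 (nat_lit 94209) [nat_lit 240, nat_lit 60, nat_lit 240, nat_lit 240])) (.node (nat_lit 70) (.leaf (nat_lit 320521) [nat_lit 120, nat_lit 180, nat_lit 90, nat_lit 150, nat_lit 180]) (.leaf (nat_lit 276489) [nat_lit 240, nat_lit 330, nat_lit 60, nat_lit 270, nat_lit 210])))))
noncomputable def r18 : WT := (.node (nat_lit 73) (.leaf (nat_lit 181257) [nat_lit 420, nat_lit 60, nat_lit 270, nat_lit 330, nat_lit 270]) (.leaf (nat_lit 181258) [nat_lit 450, nat_lit 60, nat_lit 240, nat_lit 330, nat_lit 240]))
noncomputable def r19 : WT := (.node (nat_lit 75) (.leaf (nat_lit 356352) [nat_lit 180, nat_lit 90, nat_lit 300, nat_lit 180, nat_lit 300]) (.leaf (nat_lit 212996) [nat_lit 330, nat_lit 60, nat_lit 240, nat_lit 450, nat_lit 240]))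
noncomputable def r20 : WT := (.node (nat_lit 77) (.leaf (nat_lit 257032) [nat_lit 150, nat_lit 270, nat_lit 150, nat_lit 60, nat_lit 240]) (.leaf (nat_lit 181250) [nat_lit 240, nat_lit 330, nat_lit 240, nat_lit 60, nat_lit 450]))
noncomputable def r21 : WT := (.node (nat_lit 79) (.leaf (nat_lit 290823) [nat_lit 180, nat_lit 240, nat_lit 90, nat_lit 180, nat_lit 240]) (.leaf (nat_lit 242698) [nat_lit 270, nat_lit 120, nat_lit 60, nat_lit 240, nat_lit 120]))
noncomputable def r22 : WT := (.node (nat_lit 81) (.leaf (nat_lit 321546) [nat_lit 120, nat_lit 60, nat_lit 180, nat_lit 150, nat_lit 180]) (.leaf (nat_lit 273417) [nat_lit 240, nat_lit 60, nat_lit 180, nat_lit 240, nat_lit 180]))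
noncomputable def r23 : WT := (.node (nat_lit 83) (.leaf (nat_lit 214026) [nat_lit 450, nat_lit 240, nat_lit 60, nat_lit 330, nat_lit 240]) (.leaf (nat_lit 214023) [nat_lit 270, nat_lit 420, nat_lit 60, nat_lit 270, nat_lit 330]))
noncomputable def r24 : WT := (.node (nat_lit 85) (.leaf (nat_lit 214020) [nat_lit 330, nat_lit 240, nat_lit 60, nat_lit 450, nat_lit 240]) (.leaf (nat_lit 86024) [nat_lit 450, nat_lit 210, nat_lit 60, nat_lit 270]))
noncomputable def r25 : WT := (.node (nat_lit 87) (.leaf (nat_lit 257031) [nat_lit 150, nat_lit 240, nat_lit 150, nat_lit 60, nat_lit 270]) (.leaf (nat_lit 276482) [nat_lit 210, nat_lit 240, nat_lit 60, nat_lit 330, nat_lit 270]))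
noncomputable def r26 : WT := (.node (nat_lit 89) (.leaf (nat_lit 214017) [nat_lit 270, nat_lit 330, nat_lit 60, nat_lit 270, nat_lit 420]) (.node (nat_lit 90) (.leaf (nat_lit 194564) [nat_lit 240, nat_lit 60, nat_lit 240, nat_lit 450, nat_lit 210]) (.leaf (nat_lit 178178) [nat_lit 330, nat_lit 60, nat_lit 450, nat_lit 240, nat_lit 450])))
noncomputable def r27 : WT := (.node (nat_lit 92) (.leaf (nat_lit 243715) [nat_lit 270, nat_lit 60, nat_lit 120, nat_lit 240, nat_lit 120]) (.node (nat_lit 93) (.leaf (nat_lit 276483) [nat_lit 270, nat_lit 210, nat_lit 60, nat_lit 240, nat_lit 330]) (.leaf (nat_lit 276488) [nat_lit 330, nat_lit 270, nat_lit 60, nat_lit 210, nat_lit 240])))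
noncomputable def r28 : WT := (.node (nat_lit 96) (.node (nat_lit 95) (.leaf (nat_lit 212999) [nat_lit 270, nat_lit 420, nat_lit 270, nat_lit 60, nat_lit 330]) (.leaf (nat_lit 327686) [nat_lit 150, nat_lit 180, nat_lit 120, nat_lit 90, nat_lit 180])) (.node (nat_lit 97) (.leaf (nat_lit 130053) [nat_lit 420, nat_lit 240, nat_lit 420, nat_lit 60, nat_lit 240]) (.leaf (nat_lit 242695) [nat_lit 120, nat_lit 240, nat_lit 60, nat_lit 120, nat_lit 270])))
noncomputable def r29 : WT := (.node (nat_lit 101) (.node (nat_lit 99) (.leaf (nat_lit 322562) [nat_lit 180, nat_lit 90, nat_lit 150, nat_lit 180, nat_lit 120]) (.node (nat_lit 100) (.leaf (nat_lit 242692) [nat_lit 240, nat_lit 120, nat_lit 60, nat_lit 270, nat_lit 120]) (.leaf (nat_lit 194568) [nat_lit 240, nat_lit 450, nat_lit 210, nat_lit 60, nat_lit 240]))) (.node (nat_lit 102) (.leaf (nat_lit 356363) [nat_lit 300, nat_lit 180, nat_lit 300, nat_lit 90, nat_lit 180]) (.node (nat_lit 103) (.leaf (nat_lit 323586) [nat_lit 210, nat_lit 120, nat_lit 210, nat_lit 60, nat_lit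 120]) (.leaf (nat_lit 279554) [nat_lit 300, nat_lit 240, nat_lit 300, nat_lit 60, nat_lit 270]))))
noncomputable def r30 : WT := (.node (nat_lit 107) (.node (nat_lit 105) (.leaf (nat_lit 176134) [nat_lit 420, nat_lit 120, nat_lit 450, nat_lit 60, nat_lit 120]) (.node (nat_lit 106) (.leaf (nat_lit 178181) [nat_lit 330, nat_lit 60, nat_lit 420, nat_lit 270, nat_lit 420]) (.leaf (nat_lit 324610) [nat_lit 330, nat_lit 120, nat_lit 330, nat_lit 60, nat_lit 120]))) (.node (nat_lit 109) (.node (nat_lit 108) (.leaf (nat_lit 115719) [nat_lit 420, nat_lit 420, nat_lit 210, nat_lit 60, nat_lit 270]) (.leaf (nat_lit 158730) [nat_lit 450, nat_lit 120, nat_lit 420, nat_lit 60, nat_lit 120])) (.node (nat_lit 110) (.leaf (nat_lit 320514) [nat_lit 180, nat_lit 150, nat_lit 90, nat_lit 180, nat_lit 120]) (.leaf (nat_lit 213000) [nat_lit 240, nat_lit 450, nat_lit 240, nat_lit 60, nat_lit 330]))))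
noncomputable def r31 : WT := (.node (nat_lit 115) (.node (nat_lit 113) (.node (nat_lit 112) (.leaf (nat_lit 212995) [nat_lit 330, nat_lit 60, nat_lit 270, nat_lit 420, nat_lit 270]) (.leaf (nat_lit 242689) [nat_lit 120, nat_lit 270, nat_lit 60, nat_lit 120, nat_lit 240])) (.node (nat_lit 114) (.leaf (nat_lit 115720) [nat_lit 210, nat_lit 450, nat_lit 450, nat_lit 60, nat_lit 240]) (.leaf (nat_lit 274441) [nat_lit 240, nat_lit 180, nat_lit 240, nat_lit 90, nat_lit 180]))) (.node (nat_lit 118) (.node (nat_lit 116) (.leaf (nat_lit 130049) [nat_lit 240, nat_lit 60, nat_lit 420, nat_lit 240, nat_lit 420]) (.node (nat_lit 117) (.leaf (nat_lit 178182) [nat_lit 450, nat_lit 240, nat_lit 450, nat_lit 60, nat_lit 330]) (.leaf (nat_lit 178185) [nat_lit 420, nat_lit 270, nat_lit 420, nat_lit 60, nat_lit 330]))) (.node (nat_lit 119) (.leaf (nat_lit 325642) [nat_lit 120, nat_lit 60, nat_lit 300, nat_lit 120, nat_lit 300]) (.node (nat_lit 120) (.leaf (nat_lit 94213) [nat_lit 240, nat_lit 240, nat_lit 60, nat_lit 240]) (.leaf (nat_lit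 194567) [nat_lit 210, nat_lit 420, nat_lit 270, nat_lit 60, nat_lit 270])))))
noncomputable def r32 : WT := (.node (nat_lit 130) (.leaf (nat_lit 243716) [nat_lit 240, nat_lit 60, nat_lit 120, nat_lit 270, nat_lit 120]) (.leaf (nat_lit 248838) [nat_lit 120, nat_lit 60, nat_lit 270, nat_lit 120, nat_lit 240]))
noncomputable def r33 : WT := (.node (nat_lit 133) (.leaf (nat_lit 115715) [nat_lit 270, nat_lit 60, nat_lit 420, nat_lit 420, nat_lit 210]) (.leaf (nat_lit 270338) [nat_lit 120, nat_lit 60, nat_lit 240, nat_lit 120, nat_lit 270]))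
noncomputable def r34 : WT := (.node (nat_lit 136) (.leaf (nat_lit 179202) [nat_lit 330, nat_lit 60, nat_lit 420, nat_lit 210, nat_lit 450]) (.leaf (nat_lit 274434) [nat_lit 180, nat_lit 90, nat_lit 270, nat_lit 180, nat_lit 270]))
noncomputable def r35 : WT := (.node (nat_lit 139) (.leaf (nat_lit 279553) [nat_lit 300, nat_lit 270, nat_lit 300, nat_lit 60, nat_lit 240]) (.leaf (nat_lit 278530) [nat_lit 240, nat_lit 180, nat_lit 90, nat_lit 180, nat_lit 270]))
noncomputable def r36 : WT := (.node (nat_lit 128) (.node (nat_lit 124) (.node (nat_lit 122) (.leaf (nat_lit 195594) [nat_lit 450, nat_lit 210, nat_lit 60, nat_lit 240, nat_lit 240]) (.node (nat_lit 123) (.leaf (nat_lit 321538) [nat_lit 180, nat_lit 150, nat_lit 180, nat_lit 60, nat_lit 120]) (.leaf (nat_lit 282629) [nat_lit 180, nat_lit 90, nat_lit 240, nat_lit 180, nat_lit 240]))) (.node (nat_lit 126) (.node (nat_lit 125) (.leaf (nat_lit 179206) [nat_lit 420, nat_lit 210, nat_lit 450, nat_lit 60, nat_lit 330]) (.leaf (nat_lit 94216) [nat_lit 270, nat_lit 270,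 nat_lit 60, nat_lit 270])) (.node (nat_lit 127) (.leaf (nat_lit 273410) [nat_lit 180, nat_lit 270, nat_lit 180, nat_lit 60, nat_lit 270]) (.leaf (nat_lit 300038) [nat_lit 330, nat_lit 60, nat_lit 270, nat_lit 210, nat_lit 240])))) (.node (nat_lit 134) (.node (nat_lit 131) (.node (nat_lit 129) (.leaf (nat_lit 300042) [nat_lit 270, nat_lit 210, nat_lit 240, nat_lit 60, nat_lit 330]) r32) (.node (nat_lit 132) (.leaf (nat_lit 292874) [nat_lit 270, nat_lit 180, nat_lit 90, nat_lit 180, nat_lit 240]) r33)) (.node (nat_lit 137) (.node (nat_lit 135) (.leaf (nat_lit 273409) [nat_lit 180, nat_lit 240, nat_lit 180, nat_lit 60, nat_lit 240]) r34) (.node (nat_lit 138) (.leaf (nat_lit 282630) [nat_lit 270, nat_lit 180, nat_lit 270, nat_lit 90, nat_lit 180]) r35))))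
noncomputable def r37 : WT := (.node (nat_lit 86) (.node (nat_lit 78) (.node (nat_lit 74) (.node (nat_lit 72) (.leaf (nat_lit 181249) [nat_lit 270, nat_lit 330, nat_lit 270, nat_lit 60, nat_lit 420]) r18) (.node (nat_lit 76) r19 r20)) (.node (nat_lit 82) (.node (nat_lit 80) r21 r22) (.node (nat_lit 84) r23 r24))) (.node (nat_lit 98) (.node (nat_lit 91) (.node (nat_lit 88) r25 r26) (.node (nat_lit 94) r27 r28)) (.node (nat_lit 111) (.node (nat_lit 104) r29 r30) (.node (nat_lit 121) r31 r36))))
noncomputable def r38 : WT := (.node (nat_lit 37) (.node (nat_lit 31) (.node (nat_lit 28) (.node (nat_lit 27) (.leaf (nat_lit 180232) [nat_lit 240, nat_lit 450, nat_lit 60, nat_lit 240, nat_lit 330]) (.leaf (nat_lit 86017) [nat_lit 240, nat_lit 60, nat_lit 210, nat_lit 420])) (.node (nat_lit 29) (.leaf (nat_lit 180226) [nat_lit 240, nat_lit 330, nat_lit 60, nat_lit 240, nat_lit 450]) r4)) (.node (nat_lit 34) (.node (nat_lit 32) (.leaf (nat_lit 180227) [nat_lit 330, nat_lit 270, nat_lit 60, nat_lit 420, nat_lit 270]) r5) (.node (nat_lit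 35) (.leaf (nat_lit 272386) [nat_lit 180, nat_lit 270, nat_lit 90, nat_lit 180, nat_lit 270]) r6))) (.node (nat_lit 47) (.node (nat_lit 41) (.node (nat_lit 39) r7 r8) (.node (nat_lit 44) r9 r12)) (.node (nat_lit 59) (.node (nat_lit 52) r15 r16) (.node (nat_lit 71) r17 r37))))
noncomputable def w0 : WT := (.node (nat_lit 1) (.leaf (nat_lit 0) [nat_lit 60]) (.node (nat_lit 5) (.node (nat_lit 2) (.leaf (nat_lit 99334) [nat_lit 300, nat_lit 120, nat_lit 60, nat_lit 300]) (.node (nat_lit 3) (.leaf (nat_lit 41984) [nat_lit 180, nat_lit 90, nat_lit 180]) r0)) (.node (nat_lit 12) (.node (nat_lit 7) r1 r2) (.node (nat_lit 26) r3 r38))))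
noncomputable def r39 : WT := (.node (nat_lit 6) (.leaf (nat_lit 30722) [nat_lit 240, nat_lit 90, nat_lit 270]) (.leaf (nat_lit 100354) [nat_lit 300, nat_lit 90, nat_lit 300, nat_lit 150]))
noncomputable def r40 : WT := (.node (nat_lit 10) (.node (nat_lit 8) (.leaf (nat_lit 326658) [nat_lit 120, nat_lit 90, nat_lit 120, nat_lit 90, nat_lit 120]) (.node (nat_lit 9) (.leaf (nat_lit 271368) [nat_lit 60, nat_lit 270, nat_lit 60, nat_lit 90, nat_lit 240]) (.leaf (nat_lit 258058) [nat_lit 270, nat_lit 150, nat_lit 90, nat_lit 150, nat_lit 240]))) (.node (nat_lit 12) (.node (nat_lit 11) (.leaf (nat_lit 258052) [nat_lit 150, nat_lit 240, nat_lit 90, nat_lit 270, nat_lit 150]) (.leaf (nat_lit 290826) [nat_lit 270, nat_lit 180, nat_lit 60, nat_lit 270, nat_lit 180])) (.node (nat_lit 13) (.leaf (nat_lit 272392) [nat_lit 180, nat_lit 270, nat_lit 60, nat_lit 180, nat_lit 270]) (.node (nat_lit 14) (.leaf (nat_lit 359426) [nat_lit 60, nat_lit 90, nat_lit 60, nat_lit 90, nat_lit 60, nat_lit 90, nat_lit 60, nat_lit 90, nat_lit 60])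 (.leaf (nat_lit 244740) [nat_lit 240, nat_lit 90, nat_lit 120, nat_lit 270, nat_lit 120])))))
noncomputable def r41 : WT := (.node (nat_lit 23) (.leaf (nat_lit 271367) [nat_lit 60, nat_lit 240, nat_lit 60, nat_lit 90, nat_lit 270]) (.leaf (nat_lit 271363) [nat_lit 270, nat_lit 90, nat_lit 60, nat_lit 240, nat_lit 60]))
noncomputable def r42 : WT := (.leaf (nat_lit 358406) [nat_lit 120, nat_lit 150, nat_lit 60, nat_lit 90, nat_lit 120, nat_lit 150, nat_lit 60, nat_lit 90, nat_lit 120, nat_lit 150, nat_lit 60, nat_lit 90, nat_lit 120, nat_lit 150, nat_lit 60])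
noncomputable def r43 : WT := (.node (nat_lit 26) (.leaf (nat_lit 290817) [nat_lit 180, nat_lit 240, nat_lit 60, nat_lit 180, nat_lit 240]) r42)
noncomputable def r44 : WT := (.leaf (nat_lit 360449) [nat_lit 60, nat_lit 150, nat_lit 90, nat_lit 60, nat_lit 150, nat_lit 90, nat_lit 60, nat_lit 150, nat_lit 90, nat_lit 60, nat_lit 150, nat_lit 90, nat_lit 60, nat_lit 150])
noncomputable def r45 : WT := (.leaf (nat_lit 360452) [nat_lit 150, nat_lit 60, nat_lit 90, nat_lit 150, nat_lit 60, nat_lit 90, nat_lit 150, nat_lit 60, nat_lit 90, nat_lit 150, nat_lit 60, nat_lit 90, nat_lit 150, nat_lit 60])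
noncomputable def r46 : WT := (.node (nat_lit 28) r44 r45)
noncomputable def r47 : WT := (.leaf (nat_lit 358401) [nat_lit 60, nat_lit 150, nat_lit 120, nat_lit 90, nat_lit 60, nat_lit 150, nat_lit 120, nat_lit 90, nat_lit 60, nat_lit 150, nat_lit 120, nat_lit 90, nat_lit 60, nat_lit 150, nat_lit 120])
noncomputable def r48 : WT := (.node (nat_lit 30) r47 (.leaf (nat_lit 272387) [nat_lit 240, nat_lit 180, nat_lit 60, nat_lit 240, nat_lit 180]))
noncomputable def r49 : WT := (.node (nat_lit 32) (.leaf (nat_lit 100359) [nat_lit 150, nat_lit 300, nat_lit 90, nat_lit 300]) (.node (nat_lit 33) (.leaf (nat_lit 320515) [nat_lit 150, nat_lit 180, nat_lit 60, nat_lit 120, nat_lit 180]) (.leaf (nat_lit 313354) [nat_lit 120, nat_lit 150, nat_lit 120, nat_lit 90, nat_lit 300])))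
noncomputable def r50 : WT := (.node (nat_lit 35) (.leaf (nat_lit 244743) [nat_lit 120, nat_lit 240, nat_lit 120, nat_lit 90, nat_lit 270]) (.node (nat_lit 36) (.leaf (nat_lit 320520) [nat_lit 180, nat_lit 120, nat_lit 60, nat_lit 180, nat_lit 150]) (.leaf (nat_lit 356359) [nat_lit 180, nat_lit 60, nat_lit 300, nat_lit 180, nat_lit 300])))
noncomputable def r51 : WT := (.node (nat_lit 40) (.node (nat_lit 38) (.leaf (nat_lit 327682) [nat_lit 180, nat_lit 60, nat_lit 150, nat_lit 180, nat_lit 120]) (.node (nat_lit 39) (.leaf (nat_lit 285706) [nat_lit 270, nat_lit 90, nat_lit 300, nat_lit 240, nat_lit 300]) (.leaf (nat_lit 259082) [nat_lit 270, nat_lit 150, nat_lit 90, nat_lit 240, nat_lit 150]))) (.node (nat_lit 42) (.node (nat_lit 41) (.leaf (nat_lit 95236) [nat_lit 270, nat_lit 90, nat_lit 270, nat_lit 270]) (.leaf (nat_lit 259073) [nat_lit 150, nat_lit 270, nat_lit 90, nat_lit 150, nat_lit 240])) (.node (nat_lit 43) (.leaf (nat_lit 95233) [nat_lit 240, nat_lit 90, nat_lit 240, nat_lit 240]) (.leaf (nat_lit 327689) [nat_lit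 120, nat_lit 180, nat_lit 150, nat_lit 60, nat_lit 180]))))
noncomputable def r52 : WT := (.node (nat_lit 53) (.leaf (nat_lit 285697) [nat_lit 300, nat_lit 270, nat_lit 300, nat_lit 90, nat_lit 240]) (.leaf (nat_lit 281601) [nat_lit 180, nat_lit 240, nat_lit 180, nat_lit 90, nat_lit 240]))
noncomputable def r53 : WT := (.node (nat_lit 55) (.leaf (nat_lit 322565) [nat_lit 180, nat_lit 60, nat_lit 120, nat_lit 180, nat_lit 150]) (.leaf (nat_lit 345090) [nat_lit 150, nat_lit 180, nat_lit 60, nat_lit 180, nat_lit 150]))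
noncomputable def r54 : WT := (.node (nat_lit 57) (.leaf (nat_lit 95237) [nat_lit 240, nat_lit 240, nat_lit 90, nat_lit 240]) (.node (nat_lit 58) (.leaf (nat_lit 322566) [nat_lit 150, nat_lit 180, nat_lit 120, nat_lit 60, nat_lit 180]) (.leaf (nat_lit 284674) [nat_lit 240, nat_lit 180, nat_lit 60, nat_lit 180, nat_lit 270])))
noncomputable def r55 : WT := (.node (nat_lit 61) (.node (nat_lit 60) (.leaf (nat_lit 281602) [nat_lit 180, nat_lit 270, nat_lit 180, nat_lit 90, nat_lit 270]) (.leaf (nat_lit 346122) [nat_lit 150, nat_lit 90, nat_lit 300, nat_lit 150, nat_lit 300])) (.node (nat_lit 62) (.leaf (nat_lit 263174) [nat_lit 150, nat_lit 90, nat_lit 270, nat_lit 150, nat_lit 240]) (.node (nat_lit 63) (.leaf (nat_lit 282626) [nat_lit 180, nat_lit 60, nat_lit 270, nat_lit 180, nat_lit 270]) (.leaf (nat_lit 281609) [nat_lit 240, nat_lit 90, nat_lit 180, nat_lit 240, nat_lit 180]))))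
noncomputable def r56 : WT := (.node (nat_lit 67) (.node (nat_lit 65) (.leaf (nat_lit 263178) [nat_lit 270, nat_lit 150, nat_lit 240, nat_lit 90, nat_lit 150]) (.node (nat_lit 66) (.leaf (nat_lit 260103) [nat_lit 150, nat_lit 240, nat_lit 150, nat_lit 90, nat_lit 270]) (.leaf (nat_lit 260104) [nat_lit 150, nat_lit 270, nat_lit 150, nat_lit 90, nat_lit 240]))) (.node (nat_lit 68) (.leaf (nat_lit 329736) [nat_lit 180, nat_lit 120, nat_lit 180, nat_lit 90, nat_lit 150]) (.node (nat_lit 69) (.leaf (nat_lit 329732) [nat_lit 150, nat_lit 90, nat_lit 180, nat_lit 120, nat_lit 180]) (.leaf (nat_lit 291850) [nat_lit 270, nat_lit 180, nat_lit 60, nat_lit 180, nat_lit 240]))))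
noncomputable def r57 : WT := (.node (nat_lit 74) (.node (nat_lit 72) (.node (nat_lit 71) (.leaf (nat_lit 280582) [nat_lit 240, nat_lit 150, nat_lit 270, nat_lit 90, nat_lit 150]) (.leaf (nat_lit 280578) [nat_lit 150, nat_lit 90, nat_lit 240, nat_lit 150, nat_lit 270])) (.node (nat_lit 73) (.leaf (nat_lit 260100) [nat_lit 240, nat_lit 90, nat_lit 150, nat_lit 270, nat_lit 150]) (.leaf (nat_lit 95240) [nat_lit 270, nat_lit 270, nat_lit 90, nat_lit 270]))) (.node (nat_lit 76) (.node (nat_lit 75) (.leaf (nat_lit 282633) [nat_lit 240, nat_lit 180, nat_lit 240, nat_lit 60, nat_lit 180]) (.leaf (nat_lit 283650) [nat_lit 240, nat_lit 150, nat_lit 90, nat_lit 150, nat_lit 270])) (.node (nat_lit 78) (.node (nat_lit 77) (.leaf (nat_lit 283656) [nat_lit 150, nat_lit 270, nat_lit 90, nat_lit 240, nat_lit 150]) (.leaf (nat_lit 292868) [nat_lit 180, nat_lit 240, nat_lit 60, nat_lit 270, nat_lit 180])) (.node (nat_lit 79) (.leaf (nat_lit 237572) [nat_lit 240, nat_lit 240, nat_lit 90, nat_lit 270, nat_lit 270]) (.leaf (nat_lit 260099)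 [nat_lit 270, nat_lit 90, nat_lit 150, nat_lit 240, nat_lit 150])))))
noncomputable def r58 : WT := (.node (nat_lit 50) (.node (nat_lit 47) (.node (nat_lit 45) (.leaf (nat_lit 274437) [nat_lit 180, nat_lit 60, nat_lit 240, nat_lit 180, nat_lit 240]) (.node (nat_lit 46) (.leaf (nat_lit 285705) [nat_lit 240, nat_lit 90, nat_lit 300, nat_lit 270, nat_lit 300]) (.leaf (nat_lit 259076) [nat_lit 240, nat_lit 150, nat_lit 90, nat_lit 270, nat_lit 150]))) (.node (nat_lit 48) (.leaf (nat_lit 259079) [nat_lit 150, nat_lit 240, nat_lit 90, nat_lit 150, nat_lit 270]) (.node (nat_lit 49) (.leaf (nat_lit 356356) [nat_lit 300, nat_lit 180, nat_lit 300, nat_lit 60, nat_lit 180]) (.leaf (nat_lit 281610) [nat_lit 270, nat_lit 90, nat_lit 180, nat_lit 270, nat_lit 180])))) (.node (nat_lit 56) (.node (nat_lit 52) (.node (nat_lit 51) (.leaf (nat_lit 274438) [nat_lit 270, nat_lit 180, nat_lit 270, nat_lit 60, nat_lit 180]) (.leaf (nat_lit 285698) [nat_lit 300, nat_lit 240, nat_lit 300, nat_lit 90, nat_lit 270])) (.node (nat_lit 54) r52 r53))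 (.node (nat_lit 64) (.node (nat_lit 59) r54 r55) (.node (nat_lit 70) r56 r57))))
noncomputable def r59 : WT := (.node (nat_lit 24) (.node (nat_lit 19) (.node (nat_lit 17) (.node (nat_lit 16) (.leaf (nat_lit 319496) [nat_lit 180, nat_lit 120, nat_lit 60, nat_lit 120, nat_lit 180]) (.leaf (nat_lit 244739) [nat_lit 270, nat_lit 90, nat_lit 120, nat_lit 240, nat_lit 120])) (.node (nat_lit 18) (.leaf (nat_lit 244744) [nat_lit 120, nat_lit 270, nat_lit 120, nat_lit 90, nat_lit 240]) (.leaf (nat_lit 313350) [nat_lit 300, nat_lit 90, nat_lit 120, nat_lit 150, nat_lit 120]))) (.node (nat_lit 21) (.node (nat_lit 20) (.leaf (nat_lit 355331) [nat_lit 60, nat_lit 180, nat_lit 90, nat_lit 60, nat_lit 180]) (.leaf (nat_lit 271364) [nat_lit 240, nat_lit 90, nat_lit 60, nat_lit 270, nat_lit 60])) (.node (nat_lit 22) (.leaf (nat_lit 355330) [nat_lit 180, nat_lit 60, nat_lit 90, nat_lit 180, nat_lit 60]) r41))) (.node (nat_lit 31) (.node (nat_lit 27) (.node (nat_lit 25) (.leaf (nat_lit 100355) [nat_lit 300, nat_lit 90, nat_lit 150, nat_lit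 300]) r43) (.node (nat_lit 29) r46 r48)) (.node (nat_lit 37) (.node (nat_lit 34) r49 r50) (.node (nat_lit 44) r51 r58))))
noncomputable def w1 : WT := (.node (nat_lit 1) (.leaf (nat_lit 1024) [nat_lit 90]) (.node (nat_lit 4) (.node (nat_lit 2) (.leaf (nat_lit 41988) [nat_lit 180, nat_lit 60, nat_lit 180]) (.node (nat_lit 3) (.leaf (nat_lit 100358) [nat_lit 300, nat_lit 150, nat_lit 90, nat_lit 300]) (.leaf (nat_lit 38914) [nat_lit 150, nat_lit 90, nat_lit 150]))) (.node (nat_lit 7) (.node (nat_lit 5) (.leaf (nat_lit 30726) [nat_lit 270, nat_lit 90, nat_lit 240]) r39) (.node (nat_lit 15) r40 r59))))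
noncomputable def r60 : WT := (.node (nat_lit 6) (.leaf (nat_lit 27650) [nat_lit 240, nat_lit 120, nat_lit 270]) (.leaf (nat_lit 36864) [nat_lit 330, nat_lit 120, nat_lit 330]))
noncomputable def r61 : WT := (.node (nat_lit 9) (.node (nat_lit 8) (.leaf (nat_lit 98308) [nat_lit 150, nat_lit 300, nat_lit 120, nat_lit 150]) (.leaf (nat_lit 24578) [nat_lit 420, nat_lit 120, nat_lit 450])) (.node (nat_lit 10) (.leaf (nat_lit 24582) [nat_lit 450, nat_lit 120, nat_lit 420]) (.node (nat_lit 11) (.leaf (nat_lit 33792) [nat_lit 60, nat_lit 120, nat_lit 60]) (.leaf (nat_lit 98304) [nat_lit 150, nat_lit 120, nat_lit 150, nat_lit 300]))))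
noncomputable def r62 : WT := (.node (nat_lit 16) (.leaf (nat_lit 245769) [nat_lit 240, nat_lit 180, nat_lit 150, nat_lit 240, nat_lit 180]) (.leaf (nat_lit 78855) [nat_lit 420, nat_lit 120, nat_lit 240, nat_lit 210]))
noncomputable def r63 : WT := (.node (nat_lit 18) (.leaf (nat_lit 240650) [nat_lit 270, nat_lit 120, nat_lit 150, nat_lit 240, nat_lit 150]) (.leaf (nat_lit 92164) [nat_lit 270, nat_lit 120, nat_lit 270, nat_lit 270]))
noncomputable def r64 : WT := (.node (nat_lit 20) (.leaf (nat_lit 73732) [nat_lit 450, nat_lit 120, nat_lit 450, nat_lit 450]) (.node (nat_lit 21) (.leaf (nat_lit 244746) [nat_lit 270, nat_lit 120, nat_lit 90, nat_lit 240, nat_lit 90]) (.leaf (nat_lit 326656) [nat_lit 90, nat_lit 120, nat_lit 90, nat_lit 120, nat_lit 90])))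
noncomputable def r65 : WT := (.node (nat_lit 23) (.leaf (nat_lit 78856) [nat_lit 450, nat_lit 120, nat_lit 210, nat_lit 270]) (.node (nat_lit 24) (.leaf (nat_lit 167939) [nat_lit 450, nat_lit 300, nat_lit 120, nat_lit 420, nat_lit 300]) (.leaf (nat_lit 313344) [nat_lit 150, nat_lit 120, nat_lit 90, nat_lit 300, nat_lit 90])))
noncomputable def r66 : WT := (.node (nat_lit 27) (.node (nat_lit 26) (.leaf (nat_lit 99328) [nat_lit 60, nat_lit 300, nat_lit 60, nat_lit 300]) (.leaf (nat_lit 339973) [nat_lit 300, nat_lit 330, nat_lit 120, nat_lit 300, nat_lit 330])) (.node (nat_lit 28) (.leaf (nat_lit 98313) [nat_lit 300, nat_lit 150, nat_lit 120, nat_lit 150]) (.leaf (nat_lit 98309) [nat_lit 150, nat_lit 120, nat_lit 300, nat_lit 150])))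
noncomputable def r67 : WT := (.node (nat_lit 31) (.node (nat_lit 30) (.leaf (nat_lit 246794) [nat_lit 270, nat_lit 120, nat_lit 180, nat_lit 270, nat_lit 180]) (.leaf (nat_lit 92161) [nat_lit 240, nat_lit 120, nat_lit 240, nat_lit 240])) (.node (nat_lit 32) (.leaf (nat_lit 315397) [nat_lit 180, nat_lit 150, nat_lit 120, nat_lit 180, nat_lit 150]) (.leaf (nat_lit 245762) [nat_lit 180, nat_lit 270, nat_lit 150, nat_lit 180, nat_lit 270])))
noncomputable def r68 : WT := (.node (nat_lit 36) (.node (nat_lit 34) (.leaf (nat_lit 73729) [nat_lit 420, nat_lit 120, nat_lit 420, nat_lit 420]) (.node (nat_lit 35) (.leaf (nat_lit 316424) [nat_lit 330, nat_lit 120, nat_lit 150, nat_lit 210, nat_lit 150]) (.leaf (nat_lit 167945) [nat_lit 420, nat_lit 300, nat_lit 120, nat_lit 450, nat_lit 300]))) (.node (nat_lit 37) (.leaf (nat_lit 154632) [nat_lit 210, nat_lit 450, nat_lit 120, nat_lit 450, nat_lit 240]) (.node (nat_lit 38) (.leaf (nat_lit 337928) [nat_lit 300, nat_lit 120, nat_lit 210, nat_lit 300, nat_lit 210]) (.leaf (nat_lit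 335872) [nat_lit 210, nat_lit 300, nat_lit 120, nat_lit 210, nat_lit 300]))))
noncomputable def r69 : WT := (.node (nat_lit 42) (.node (nat_lit 40) (.leaf (nat_lit 136196) [nat_lit 450, nat_lit 270, nat_lit 120, nat_lit 450, nat_lit 270]) (.node (nat_lit 41) (.leaf (nat_lit 246793) [nat_lit 240, nat_lit 120, nat_lit 180, nat_lit 240, nat_lit 180]) (.leaf (nat_lit 154627) [nat_lit 270, nat_lit 420, nat_lit 120, nat_lit 420, nat_lit 210]))) (.node (nat_lit 44) (.node (nat_lit 43) (.leaf (nat_lit 287748) [nat_lit 270, nat_lit 180, nat_lit 150, nat_lit 270, nat_lit 180]) (.leaf (nat_lit 251912) [nat_lit 330, nat_lit 270, nat_lit 120, nat_lit 240, nat_lit 330])) (.node (nat_lit 45) (.leaf (nat_lit 157704) [nat_lit 240, nat_lit 450, nat_lit 120, nat_lit 420, nat_lit 270]) (.leaf (nat_lit 262149) [nat_lit 180, nat_lit 150, nat_lit 240, nat_lit 180, nat_lit 240]))))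
noncomputable def r70 : WT := (.node (nat_lit 50) (.node (nat_lit 48) (.node (nat_lit 47) (.leaf (nat_lit 155658) [nat_lit 450, nat_lit 120, nat_lit 450, nat_lit 240, nat_lit 210]) (.leaf (nat_lit 303114) [nat_lit 270, nat_lit 330, nat_lit 120, nat_lit 330, nat_lit 240])) (.node (nat_lit 49) (.leaf (nat_lit 252936) [nat_lit 300, nat_lit 270, nat_lit 120, nat_lit 240, nat_lit 300]) (.leaf (nat_lit 330752) [nat_lit 180, nat_lit 300, nat_lit 150, nat_lit 180, nat_lit 300]))) (.node (nat_lit 52) (.node (nat_lit 51) (.leaf (nat_lit 154626) [nat_lit 450, nat_lit 240, nat_lit 120, nat_lit 210, nat_lit 450]) (.leaf (nat_lit 244745) [nat_lit 240, nat_lit 120, nat_lit 90, nat_lit 270, nat_lit 90])) (.node (nat_lit 53) (.leaf (nat_lit 303108) [nat_lit 330, nat_lit 240, nat_lit 120, nat_lit 270, nat_lit 330]) (.leaf (nat_lit 252930) [nat_lit 240, nat_lit 300, nat_lit 120, nat_lit 300, nat_lit 270]))))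
noncomputable def r71 : WT := (.node (nat_lit 59) (.node (nat_lit 56) (.node (nat_lit 55) (.leaf (nat_lit 162824) [nat_lit 300, nat_lit 450, nat_lit 120, nat_lit 420, nat_lit 300]) (.leaf (nat_lit 157698) [nat_lit 420, nat_lit 270, nat_lit 120, nat_lit 240, nat_lit 450])) (.node (nat_lit 57) (.leaf (nat_lit 330763) [nat_lit 300, nat_lit 180, nat_lit 150, nat_lit 300, nat_lit 180]) (.node (nat_lit 58) (.leaf (nat_lit 240649) [nat_lit 240, nat_lit 120, nat_lit 150, nat_lit 270, nat_lit 150]) (.leaf (nat_lit 319488) [nat_lit 60, nat_lit 120, nat_lit 180, nat_lit 90, nat_lit 180])))) (.node (nat_lit 61) (.node (nat_lit 60) (.leaf (nat_lit 317448) [nat_lit 210, nat_lit 120, nat_lit 150, nat_lit 330, nat_lit 150]) (.leaf (nat_lit 287751) [nat_lit 180, nat_lit 240, nat_lit 150, nat_lit 180, nat_lit 240])) (.node (nat_lit 62) (.leaf (nat_lit 327691) [nat_lit 180, nat_lit 150, nat_lit 60, nat_lit 180, nat_lit 90]) (.node (nat_lit 63) (.leaf (nat_lit 251906) [nat_lit 240, nat_lit 330, nat_lit 120, nat_lit 330, nat_lit 270]) (.leaf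 (nat_lit 204804) [nat_lit 330, nat_lit 420, nat_lit 120, nat_lit 450, nat_lit 330])))))
noncomputable def r72 : WT := (.node (nat_lit 70) (.node (nat_lit 67) (.node (nat_lit 65) (.leaf (nat_lit 79874) [nat_lit 210, nat_lit 120, nat_lit 270, nat_lit 450]) (.node (nat_lit 66) (.leaf (nat_lit 334848) [nat_lit 210, nat_lit 330, nat_lit 120, nat_lit 330, nat_lit 210]) (.leaf (nat_lit 162818) [nat_lit 420, nat_lit 300, nat_lit 120, nat_lit 300, nat_lit 450]))) (.node (nat_lit 68) (.leaf (nat_lit 334854) [nat_lit 330, nat_lit 210, nat_lit 120, nat_lit 210, nat_lit 330]) (.node (nat_lit 69) (.leaf (nat_lit 99337) [nat_lit 300, nat_lit 60, nat_lit 300, nat_lit 60]) (.leaf (nat_lit 339968) [nat_lit 330, nat_lit 300, nat_lit 120, nat_lit 330, nat_lit 300])))) (.node (nat_lit 74) (.node (nat_lit 72) (.node (nat_lit 71) (.leaf (nat_lit 78850) [nat_lit 210, nat_lit 270, nat_lit 120, nat_lit 450]) (.leaf (nat_lit 335877) [nat_lit 300, nat_lit 210, nat_lit 120, nat_lit 300, nat_lit 210])) (.node (nat_lit 73) (.leaf (nat_lit 254979)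 [nat_lit 270, nat_lit 300, nat_lit 120, nat_lit 240, nat_lit 300]) (.leaf (nat_lit 328704) [nat_lit 180, nat_lit 150, nat_lit 300, nat_lit 180, nat_lit 300]))) (.node (nat_lit 76) (.node (nat_lit 75) (.leaf (nat_lit 153605) [nat_lit 420, nat_lit 120, nat_lit 420, nat_lit 210, nat_lit 270]) (.leaf (nat_lit 166914) [nat_lit 300, nat_lit 120, nat_lit 420, nat_lit 300, nat_lit 450])) (.node (nat_lit 77) (.leaf (nat_lit 332808) [nat_lit 300, nat_lit 120, nat_lit 180, nat_lit 300, nat_lit 180]) (.leaf (nat_lit 163845) [nat_lit 210, nat_lit 120, nat_lit 420, nat_lit 270, nat_lit 270])))))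
noncomputable def r73 : WT := (.node (nat_lit 82) (.leaf (nat_lit 160770) [nat_lit 420, nat_lit 330, nat_lit 120, nat_lit 330, nat_lit 450]) (.leaf (nat_lit 164872) [nat_lit 240, nat_lit 450, nat_lit 120, nat_lit 210, nat_lit 240]))
noncomputable def r74 : WT := (.node (nat_lit 85) (.leaf (nat_lit 120833) [nat_lit 210, nat_lit 120, nat_lit 270, nat_lit 420, nat_lit 420]) (.leaf (nat_lit 241666) [nat_lit 60, nat_lit 120, nat_lit 240, nat_lit 60, nat_lit 270]))
noncomputable def r75 : WT := (.node (nat_lit 88) (.leaf (nat_lit 317440) [nat_lit 150, nat_lit 330, nat_lit 150, nat_lit 120, nat_lit 210]) (.leaf (nat_lit 83969) [nat_lit 240, nat_lit 120, nat_lit 210, nat_lit 420]))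
noncomputable def r76 : WT := (.node (nat_lit 91) (.leaf (nat_lit 254984) [nat_lit 300, nat_lit 270, nat_lit 120, nat_lit 300, nat_lit 240]) (.leaf (nat_lit 242696) [nat_lit 60, nat_lit 270, nat_lit 120, nat_lit 60, nat_lit 240]))
noncomputable def r77 : WT := (.node (nat_lit 93) (.leaf (nat_lit 188420) [nat_lit 240, nat_lit 120, nat_lit 240, nat_lit 450, nat_lit 210]) (.leaf (nat_lit 164873) [nat_lit 420, nat_lit 270, nat_lit 120, nat_lit 270, nat_lit 210]))
noncomputable def r78 : WT := (.node (nat_lit 95) (.leaf (nat_lit 92168) [nat_lit 270, nat_lit 270, nat_lit 120, nat_lit 270]) (.leaf (nat_lit 254985) [nat_lit 240, nat_lit 300, nat_lit 120, nat_lit 270, nat_lit 300]))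
noncomputable def r79 : WT := (.node (nat_lit 98) (.leaf (nat_lit 111620) [nat_lit 240, nat_lit 120, nat_lit 210, nat_lit 450, nat_lit 450]) (.leaf (nat_lit 136193) [nat_lit 240, nat_lit 420, nat_lit 120, nat_lit 240, nat_lit 420]))
noncomputable def r80 : WT := (.node (nat_lit 100) (.leaf (nat_lit 328715) [nat_lit 300, nat_lit 180, nat_lit 300, nat_lit 150, nat_lit 180]) (.leaf (nat_lit 78849) [nat_lit 240, nat_lit 210, nat_lit 120, nat_lit 420]))
noncomputable def r81 : WT := (.node (nat_lit 102) (.leaf (nat_lit 128006) [nat_lit 270, nat_lit 120, nat_lit 450, nat_lit 270, nat_lit 450]) (.leaf (nat_lit 164866) [nat_lit 210, nat_lit 240, nat_lit 120, nat_lit 240, nat_lit 450]))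
noncomputable def r82 : WT := (.node (nat_lit 89) (.node (nat_lit 83) (.node (nat_lit 80) (.node (nat_lit 79) (.leaf (nat_lit 204810) [nat_lit 450, nat_lit 330, nat_lit 120, nat_lit 330, nat_lit 420]) (.leaf (nat_lit 315392) [nat_lit 150, nat_lit 180, nat_lit 120, nat_lit 150, nat_lit 180])) (.node (nat_lit 81) (.leaf (nat_lit 160776) [nat_lit 330, nat_lit 450, nat_lit 120, nat_lit 420, nat_lit 330]) r73)) (.node (nat_lit 86) (.node (nat_lit 84) (.leaf (nat_lit 247810) [nat_lit 180, nat_lit 150, nat_lit 270, nat_lit 180, nat_lit 270]) r74) (.node (nat_lit 87) (.leaf (nat_lit 154633) [nat_lit 420, nat_lit 210, nat_lit 120, nat_lit 270, nat_lit 420]) r75))) (.node (nat_lit 96) (.node (nat_lit 92) (.node (nat_lit 90) (.leaf (nat_lit 262150) [nat_lit 270, nat_lit 180, nat_lit 270, nat_lit 150, nat_lit 180]) r76) (.node (nat_lit 94) r77 r78)) (.node (nat_lit 99) (.node (nat_lit 97) (.leaf (nat_lit 164867) [nat_lit 270, nat_lit 210, nat_lit 120, nat_lit 420, nat_lit 270]) r79) (.node (nat_lit 101) r80 r81))))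
noncomputable def r83 : WT := (.node (nat_lit 104) (.leaf (nat_lit 167938) [nat_lit 300, nat_lit 420, nat_lit 120, nat_lit 300, nat_lit 450]) (.leaf (nat_lit 313348) [nat_lit 90, nat_lit 300, nat_lit 90, nat_lit 120, nat_lit 150]))
noncomputable def r84 : WT := (.node (nat_lit 106) (.leaf (nat_lit 240641) [nat_lit 150, nat_lit 270, nat_lit 150, nat_lit 120, nat_lit 240]) (.leaf (nat_lit 318472) [nat_lit 300, nat_lit 120, nat_lit 150, nat_lit 300, nat_lit 150]))
noncomputable def r85 : WT := (.leaf (nat_lit 358400) [nat_lit 150, nat_lit 60, nat_lit 90, nat_lit 120, nat_lit 150, nat_lit 60, nat_lit 90, nat_lit 120, nat_lit 150, nat_lit 60, nat_lit 90, nat_lit 120, nat_lit 150, nat_lit 60, nat_lit 90])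
noncomputable def r86 : WT := (.node (nat_lit 108) r85 (.leaf (nat_lit 168969) [nat_lit 420, nat_lit 120, nat_lit 300, nat_lit 450, nat_lit 300]))
noncomputable def r87 : WT := (.node (nat_lit 110) (.leaf (nat_lit 253954) [nat_lit 300, nat_lit 120, nat_lit 240, nat_lit 300, nat_lit 270]) (.node (nat_lit 111) (.leaf (nat_lit 137219) [nat_lit 420, nat_lit 120, nat_lit 240, nat_lit 420, nat_lit 240]) (.leaf (nat_lit 244737) [nat_lit 90, nat_lit 270, nat_lit 90, nat_lit 120, nat_lit 240])))
noncomputable def r88 : WT := (.node (nat_lit 113) (.leaf (nat_lit 92165) [nat_lit 240, nat_lit 240, nat_lit 120, nat_lit 240]) (.node (nat_lit 114) (.leaf (nat_lit 168970) [nat_lit 450, nat_lit 120, nat_lit 300, nat_lit 420, nat_lit 300]) (.leaf (nat_lit 246785) [nat_lit 180, nat_lit 240, nat_lit 180, nat_lit 120, nat_lit 240])))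
noncomputable def r89 : WT := (.node (nat_lit 116) (.leaf (nat_lit 83973) [nat_lit 210, nat_lit 420, nat_lit 120, nat_lit 240]) (.node (nat_lit 117) (.leaf (nat_lit 111619) [nat_lit 270, nat_lit 120, nat_lit 420, nat_lit 420, nat_lit 210]) (.leaf (nat_lit 338948) [nat_lit 300, nat_lit 330, nat_lit 300, nat_lit 120, nat_lit 330])))
noncomputable def r90 : WT := (.node (nat_lit 119) (.leaf (nat_lit 333824) [nat_lit 210, nat_lit 120, nat_lit 300, nat_lit 210, nat_lit 300]) (.node (nat_lit 120) (.leaf (nat_lit 240642) [nat_lit 150, nat_lit 240, nat_lit 150, nat_lit 120, nat_lit 270]) (.leaf (nat_lit 79878) [nat_lit 270, nat_lit 450, nat_lit 120, nat_lit 210])))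
noncomputable def r91 : WT := (.node (nat_lit 122) (.leaf (nat_lit 338944) [nat_lit 330, nat_lit 120, nat_lit 300, nat_lit 330, nat_lit 300]) (.node (nat_lit 123) (.leaf (nat_lit 327680) [nat_lit 90, nat_lit 180, nat_lit 60, nat_lit 150, nat_lit 180]) (.leaf (nat_lit 73733) [nat_lit 420, nat_lit 420, nat_lit 120, nat_lit 420])))
noncomputable def r92 : WT := (.leaf (nat_lit 358407) [nat_lit 90, nat_lit 60, nat_lit 150, nat_lit 120, nat_lit 90, nat_lit 60, nat_lit 150, nat_lit 120, nat_lit 90, nat_lit 60, nat_lit 150, nat_lit 120, nat_lit 90, nat_lit 60, nat_lit 150])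
noncomputable def r93 : WT := (.node (nat_lit 126) (.node (nat_lit 125) (.leaf (nat_lit 254978) [nat_lit 300, nat_lit 240, nat_lit 120, nat_lit 300, nat_lit 270]) r92) (.node (nat_lit 127) (.leaf (nat_lit 166918) [nat_lit 420, nat_lit 300, nat_lit 450, nat_lit 120, nat_lit 300]) (.leaf (nat_lit 165898) [nat_lit 450, nat_lit 120, nat_lit 210, nat_lit 240, nat_lit 240])))
noncomputable def r94 : WT := (.node (nat_lit 130) (.node (nat_lit 129) (.leaf (nat_lit 316416) [nat_lit 150, nat_lit 210, nat_lit 150, nat_lit 120, nat_lit 330]) (.leaf (nat_lit 79879) [nat_lit 420, nat_lit 240, nat_lit 120, nat_lit 210])) (.node (nat_lit 131) (.leaf (nat_lit 211972) [nat_lit 270, nat_lit 420, nat_lit 120, nat_lit 450, nat_lit 240]) (.leaf (nat_lit 225286) [nat_lit 300, nat_lit 120, nat_lit 450, nat_lit 300, nat_lit 420])))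
noncomputable def r95 : WT := (.node (nat_lit 134) (.node (nat_lit 133) (.leaf (nat_lit 244738) [nat_lit 90, nat_lit 240, nat_lit 90, nat_lit 120, nat_lit 270]) (.leaf (nat_lit 314368) [nat_lit 150, nat_lit 60, nat_lit 300, nat_lit 60, nat_lit 150])) (.node (nat_lit 135) (.leaf (nat_lit 128001) [nat_lit 240, nat_lit 120, nat_lit 420, nat_lit 240, nat_lit 420]) (.node (nat_lit 136) (.leaf (nat_lit 246786) [nat_lit 180, nat_lit 270, nat_lit 180, nat_lit 120, nat_lit 270]) (.leaf (nat_lit 241670) [nat_lit 240, nat_lit 60, nat_lit 270, nat_lit 120, nat_lit 60]))))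
noncomputable def r96 : WT := (.node (nat_lit 140) (.node (nat_lit 138) (.leaf (nat_lit 153606) [nat_lit 240, nat_lit 210, nat_lit 450, nat_lit 120, nat_lit 450]) (.node (nat_lit 139) (.leaf (nat_lit 308230) [nat_lit 300, nat_lit 120, nat_lit 270, nat_lit 300, nat_lit 240]) (.leaf (nat_lit 167944) [nat_lit 300, nat_lit 450, nat_lit 120, nat_lit 300, nat_lit 420]))) (.node (nat_lit 141) (.leaf (nat_lit 211978) [nat_lit 450, nat_lit 240, nat_lit 120, nat_lit 270, nat_lit 420]) (.node (nat_lit 142) (.leaf (nat_lit 288772) [nat_lit 180, nat_lit 240, nat_lit 150, nat_lit 270, nat_lit 180]) (.leaf (nat_lit 323590) [nat_lit 210, nat_lit 60, nat_lit 120, nat_lit 60, nat_lit 210]))))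
noncomputable def r97 : WT := (.node (nat_lit 146) (.node (nat_lit 144) (.leaf (nat_lit 197633) [nat_lit 270, nat_lit 120, nat_lit 270, nat_lit 210, nat_lit 420]) (.node (nat_lit 145) (.leaf (nat_lit 337920) [nat_lit 210, nat_lit 300, nat_lit 210, nat_lit 120, nat_lit 300]) (.leaf (nat_lit 188424) [nat_lit 240, nat_lit 450, nat_lit 210, nat_lit 120, nat_lit 240]))) (.node (nat_lit 148) (.node (nat_lit 147) (.leaf (nat_lit 289802) [nat_lit 270, nat_lit 180, nat_lit 150, nat_lit 180, nat_lit 240]) (.leaf (nat_lit 324614) [nat_lit 330, nat_lit 60, nat_lit 120, nat_lit 60, nat_lit 330])) (.node (nat_lit 149) (.leaf (nat_lit 242691) [nat_lit 270, nat_lit 60, nat_lit 120, nat_lit 240, nat_lit 60]) (.leaf (nat_lit 159752) [nat_lit 210, nat_lit 450, nat_lit 120, nat_lit 420, nat_lit 210]))))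
noncomputable def r98 : WT := (.node (nat_lit 154) (.node (nat_lit 152) (.node (nat_lit 151) (.leaf (nat_lit 155649) [nat_lit 210, nat_lit 270, nat_lit 420, nat_lit 120, nat_lit 420]) (.leaf (nat_lit 333828) [nat_lit 300, nat_lit 210, nat_lit 300, nat_lit 120, nat_lit 210])) (.node (nat_lit 153) (.leaf (nat_lit 128010) [nat_lit 450, nat_lit 270, nat_lit 450, nat_lit 120, nat_lit 270]) (.leaf (nat_lit 297988) [nat_lit 210, nat_lit 240, nat_lit 120, nat_lit 270, nat_lit 210]))) (.node (nat_lit 156) (.node (nat_lit 155) (.leaf (nat_lit 256010) [nat_lit 270, nat_lit 120, nat_lit 300, nat_lit 240, nat_lit 300]) (.leaf (nat_lit 320512) [nat_lit 60, nat_lit 180, nat_lit 150, nat_lit 90, nat_lit 180])) (.node (nat_lit 157) (.leaf (nat_lit 111624) [nat_lit 210, nat_lit 450, nat_lit 450, nat_lit 120, nat_lit 240]) (.node (nat_lit 158) (.leaf (nat_lit 340992) [nat_lit 330, nat_lit 300, nat_lit 120, nat_lit 300, nat_lit 330]) (.leaf (nat_lit 176138) [nat_lit 450, nat_lit 60, nat_lit 120, nat_lit 60, nat_lit 420])))))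
noncomputable def r99 : WT := (.node (nat_lit 173) (.leaf (nat_lit 322571) [nat_lit 180, nat_lit 150, nat_lit 90, nat_lit 180, nat_lit 60]) (.leaf (nat_lit 322560) [nat_lit 60, nat_lit 180, nat_lit 90, nat_lit 150, nat_lit 180]))
noncomputable def r100 : WT := (.node (nat_lit 165) (.node (nat_lit 162) (.node (nat_lit 160) (.leaf (nat_lit 73736) [nat_lit 450, nat_lit 450, nat_lit 120, nat_lit 450]) (.node (nat_lit 161) (.leaf (nat_lit 247817) [nat_lit 240, nat_lit 180, nat_lit 240, nat_lit 150, nat_lit 180]) (.leaf (nat_lit 256009) [nat_lit 240, nat_lit 120, nat_lit 300, nat_lit 270, nat_lit 300]))) (.node (nat_lit 163) (.leaf (nat_lit 225290) [nat_lit 450, nat_lit 300, nat_lit 420, nat_lit 120, nat_lit 300]) (.node (nat_lit 164) (.leaf (nat_lit 253958) [nat_lit 240, nat_lit 300, nat_lit 270, nat_lit 120, nat_lit 300]) (.leaf (nat_lit 223236) [nat_lit 300, nat_lit 420, nat_lit 120, nat_lit 450, nat_lit 300])))) (.node (nat_lit 169) (.node (nat_lit 167) (.node (nat_lit 166) (.leaf (nat_lit 153609) [nat_lit 420, nat_lit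 210, nat_lit 270, nat_lit 120, nat_lit 420]) (.leaf (nat_lit 188419) [nat_lit 270, nat_lit 120, nat_lit 210, nat_lit 420, nat_lit 270])) (.node (nat_lit 168) (.leaf (nat_lit 137224) [nat_lit 270, nat_lit 450, nat_lit 270, nat_lit 120, nat_lit 450]) (.leaf (nat_lit 159746) [nat_lit 420, nat_lit 210, nat_lit 120, nat_lit 210, nat_lit 450]))) (.node (nat_lit 171) (.node (nat_lit 170) (.leaf (nat_lit 128005) [nat_lit 420, nat_lit 240, nat_lit 420, nat_lit 120, nat_lit 240]) (.leaf (nat_lit 242690) [nat_lit 60, nat_lit 240, nat_lit 120, nat_lit 60, nat_lit 270])) (.node (nat_lit 172) (.leaf (nat_lit 120838) [nat_lit 210, nat_lit 120, nat_lit 450, nat_lit 450, nat_lit 240]) r99))))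
noncomputable def r101 : WT := (.node (nat_lit 178) (.leaf (nat_lit 308234) [nat_lit 270, nat_lit 300, nat_lit 240, nat_lit 120, nat_lit 300]) (.leaf (nat_lit 112641) [nat_lit 210, nat_lit 270, nat_lit 120, nat_lit 420, nat_lit 420]))
noncomputable def r102 : WT := (.node (nat_lit 180) (.leaf (nat_lit 242697) [nat_lit 240, nat_lit 60, nat_lit 120, nat_lit 270, nat_lit 60]) (.leaf (nat_lit 243714) [nat_lit 60, nat_lit 240, nat_lit 60, nat_lit 120, nat_lit 270]))
noncomputable def r103 : WT := (.node (nat_lit 182) (.leaf (nat_lit 340998) [nat_lit 300, nat_lit 330, nat_lit 120, nat_lit 330, nat_lit 300]) (.leaf (nat_lit 342016) [nat_lit 330, nat_lit 300, nat_lit 330, nat_lit 120, nat_lit 300]))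
noncomputable def r104 : WT := (.node (nat_lit 184) (.leaf (nat_lit 249858) [nat_lit 240, nat_lit 180, nat_lit 150, nat_lit 180, nat_lit 270]) (.leaf (nat_lit 138250) [nat_lit 450, nat_lit 270, nat_lit 120, nat_lit 240, nat_lit 420]))
noncomputable def r105 : WT := (.node (nat_lit 186) (.leaf (nat_lit 153602) [nat_lit 450, nat_lit 120, nat_lit 240, nat_lit 210, nat_lit 450]) (.leaf (nat_lit 158722) [nat_lit 420, nat_lit 60, nat_lit 120, nat_lit 60, nat_lit 450]))
noncomputable def r106 : WT := (.node (nat_lit 188) (.leaf (nat_lit 323584) [nat_lit 60, nat_lit 210, nat_lit 120, nat_lit 210, nat_lit 60]) (.leaf (nat_lit 168961) [nat_lit 300, nat_lit 450, nat_lit 300, nat_lit 120, nat_lit 420]))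
noncomputable def r107 : WT := (.node (nat_lit 190) (.leaf (nat_lit 188423) [nat_lit 210, nat_lit 420, nat_lit 270, nat_lit 120, nat_lit 270]) (.leaf (nat_lit 165889) [nat_lit 270, nat_lit 270, nat_lit 210, nat_lit 120, nat_lit 420]))
noncomputable def r108 : WT := (.node (nat_lit 192) (.leaf (nat_lit 318464) [nat_lit 150, nat_lit 300, nat_lit 150, nat_lit 120, nat_lit 300]) (.leaf (nat_lit 189450) [nat_lit 450, nat_lit 210, nat_lit 120, nat_lit 240, nat_lit 240]))
noncomputable def r109 : WT := (.node (nat_lit 194) (.leaf (nat_lit 319492) [nat_lit 180, nat_lit 90, nat_lit 180, nat_lit 120, nat_lit 60]) (.leaf (nat_lit 297994) [nat_lit 270, nat_lit 210, nat_lit 120, nat_lit 210, nat_lit 240]))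
noncomputable def r110 : WT := (.node (nat_lit 196) (.leaf (nat_lit 320523) [nat_lit 180, nat_lit 90, nat_lit 150, nat_lit 180, nat_lit 60]) (.leaf (nat_lit 223242) [nat_lit 450, nat_lit 300, nat_lit 120, nat_lit 300, nat_lit 420]))
noncomputable def r111 : WT := (.node (nat_lit 198) (.leaf (nat_lit 189441) [nat_lit 270, nat_lit 270, nat_lit 120, nat_lit 210, nat_lit 420]) (.leaf (nat_lit 277510) [nat_lit 60, nat_lit 120, nat_lit 270, nat_lit 60, nat_lit 240]))
noncomputable def r112 : WT := (.node (nat_lit 200) (.leaf (nat_lit 163846) [nat_lit 240, nat_lit 240, nat_lit 450, nat_lit 120, nat_lit 210]) (.leaf (nat_lit 163842) [nat_lit 210, nat_lit 120, nat_lit 240, nat_lit 240, nat_lit 450]))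
noncomputable def r113 : WT := (.node (nat_lit 202) (.leaf (nat_lit 158728) [nat_lit 60, nat_lit 450, nat_lit 120, nat_lit 420, nat_lit 60]) (.node (nat_lit 203) (.leaf (nat_lit 256002) [nat_lit 300, nat_lit 240, nat_lit 300, nat_lit 120, nat_lit 270]) (.leaf (nat_lit 332800) [nat_lit 180, nat_lit 300, nat_lit 180, nat_lit 120, nat_lit 300])))
noncomputable def r114 : WT := (.node (nat_lit 187) (.node (nat_lit 179) (.node (nat_lit 176) (.node (nat_lit 175) (.leaf (nat_lit 163849) [nat_lit 420, nat_lit 270, nat_lit 270, nat_lit 120, nat_lit 210]) (.leaf (nat_lit 83976) [nat_lit 450, nat_lit 210, nat_lit 120, nat_lit 270])) (.node (nat_lit 177) (.leaf (nat_lit 305156) [nat_lit 300, nat_lit 240, nat_lit 120, nat_lit 270, nat_lit 300]) r101)) (.node (nat_lit 183) (.node (nat_lit 181) r102 r103) (.node (nat_lit 185) r104 r105))) (.node (nat_lit 195) (.node (nat_lit 191) (.node (nat_lit 189) r106 r107) (.node (nat_lit 193) r108 r109)) (.node (nat_lit 199) (.node (nat_lit 197) r110 r111) (.node (nat_lit 201) r112 r113))))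
noncomputable def r115 : WT := (.node (nat_lit 124) (.node (nat_lit 112) (.node (nat_lit 107) (.node (nat_lit 105) r83 r84) (.node (nat_lit 109) r86 r87)) (.node (nat_lit 118) (.node (nat_lit 115) r88 r89) (.node (nat_lit 121) r90 r91))) (.node (nat_lit 143) (.node (nat_lit 132) (.node (nat_lit 128) r93 r94) (.node (nat_lit 137) r95 r96)) (.node (nat_lit 159) (.node (nat_lit 150) r97 r98) (.node (nat_lit 174) r100 r114))))
noncomputable def r116 : WT := (.node (nat_lit 29) (.node (nat_lit 17) (.node (nat_lit 14) (.node (nat_lit 13) (.leaf (nat_lit 342024) [nat_lit 300, nat_lit 120, nat_lit 330, nat_lit 300, nat_lit 330]) (.leaf (nat_lit 79875) [nat_lit 210, nat_lit 120, nat_lit 420, nat_lit 240])) (.node (nat_lit 15) (.leaf (nat_lit 83972) [nat_lit 270, nat_lit 120, nat_lit 450, nat_lit 210]) r62)) (.node (nat_lit 22) (.node (nat_lit 19) r63 r64) (.node (nat_lit 25) r65 r66))) (.node (nat_lit 54) (.node (nat_lit 39) (.node (nat_lit 33) r67 r68) (.node (nat_lit 46) r69 r70)) (.node (nat_lit 78) (.node (nat_lit 64) r71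 r72) (.node (nat_lit 103) r82 r115))))
noncomputable def w2 : WT := (.node (nat_lit 1) (.leaf (nat_lit 2048) [nat_lit 120]) (.node (nat_lit 4) (.node (nat_lit 2) (.leaf (nat_lit 37888) [nat_lit 300, nat_lit 120, nat_lit 300]) (.node (nat_lit 3) (.leaf (nat_lit 35840) [nat_lit 210, nat_lit 120, nat_lit 210]) (.leaf (nat_lit 34816) [nat_lit 180, nat_lit 150, nat_lit 180]))) (.node (nat_lit 7) (.node (nat_lit 5) (.leaf (nat_lit 27654) [nat_lit 270, nat_lit 120, nat_lit 240]) r60) (.node (nat_lit 12) r61 r116))))
noncomputable def r117 : WT := (.node (nat_lit 6) (.leaf (nat_lit 28674) [nat_lit 240, nat_lit 150, nat_lit 270]) (.leaf (nat_lit 28678) [nat_lit 270, nat_lit 150, nat_lit 240]))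
noncomputable def r118 : WT := (.node (nat_lit 9) (.node (nat_lit 8) (.leaf (nat_lit 98306) [nat_lit 120, nat_lit 150, nat_lit 300, nat_lit 120]) (.leaf (nat_lit 17414) [nat_lit 390, nat_lit 150, nat_lit 360])) (.node (nat_lit 10) (.leaf (nat_lit 84996) [nat_lit 270, nat_lit 150, nat_lit 450, nat_lit 210]) (.node (nat_lit 11) (.leaf (nat_lit 80898) [nat_lit 330, nat_lit 270, nat_lit 150, nat_lit 450]) (.leaf (nat_lit 17410) [nat_lit 360, nat_lit 150, nat_lit 390]))))
noncomputable def r119 : WT := (.node (nat_lit 17) (.leaf (nat_lit 352264) [nat_lit 300, nat_lit 150, nat_lit 210, nat_lit 300, nat_lit 210]) (.leaf (nat_lit 81923) [nat_lit 330, nat_lit 150, nat_lit 420, nat_lit 240]))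
noncomputable def r120 : WT := (.node (nat_lit 19) (.leaf (nat_lit 257034) [nat_lit 270, nat_lit 150, nat_lit 60, nat_lit 240, nat_lit 60]) (.leaf (nat_lit 245763) [nat_lit 240, nat_lit 180, nat_lit 120, nat_lit 240, nat_lit 180]))
noncomputable def r121 : WT := (.node (nat_lit 21) (.leaf (nat_lit 93188) [nat_lit 270, nat_lit 150, nat_lit 270, nat_lit 270]) (.leaf (nat_lit 80903) [nat_lit 420, nat_lit 150, nat_lit 240, nat_lit 330]))
noncomputable def r122 : WT := (.node (nat_lit 23) (.leaf (nat_lit 344064) [nat_lit 60, nat_lit 150, nat_lit 60, nat_lit 150, nat_lit 60]) (.node (nat_lit 24) (.leaf (nat_lit 80904) [nat_lit 450, nat_lit 150, nat_lit 330, nat_lit 270]) (.leaf (nat_lit 114689) [nat_lit 330, nat_lit 270, nat_lit 150, nat_lit 420, nat_lit 420])))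
noncomputable def r123 : WT := (.node (nat_lit 27) (.node (nat_lit 26) (.leaf (nat_lit 98310) [nat_lit 300, nat_lit 120, nat_lit 150, nat_lit 120]) (.leaf (nat_lit 314378) [nat_lit 120, nat_lit 150, nat_lit 60, nat_lit 300, nat_lit 60])) (.node (nat_lit 28) (.leaf (nat_lit 93185) [nat_lit 240, nat_lit 150, nat_lit 240, nat_lit 240]) (.leaf (nat_lit 100352) [nat_lit 90, nat_lit 300, nat_lit 90, nat_lit 300])))
noncomputable def r124 : WT := (.node (nat_lit 31) (.node (nat_lit 30) (.leaf (nat_lit 84993) [nat_lit 240, nat_lit 150, nat_lit 210, nat_lit 420]) (.leaf (nat_lit 354312) [nat_lit 300, nat_lit 150, nat_lit 330, nat_lit 300, nat_lit 330])) (.node (nat_lit 32) (.leaf (nat_lit 240644) [nat_lit 240, nat_lit 150, nat_lit 120, nat_lit 270, nat_lit 120]) (.leaf (nat_lit 268291) [nat_lit 270, nat_lit 300, nat_lit 150, nat_lit 240, nat_lit 300])))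
noncomputable def r125 : WT := (.node (nat_lit 35) (.node (nat_lit 34) (.leaf (nat_lit 247813) [nat_lit 180, nat_lit 120, nat_lit 240, nat_lit 180, nat_lit 240]) (.leaf (nat_lit 261130) [nat_lit 270, nat_lit 150, nat_lit 180, nat_lit 270, nat_lit 180])) (.node (nat_lit 36) (.leaf (nat_lit 245768) [nat_lit 180, nat_lit 270, nat_lit 120, nat_lit 180, nat_lit 270]) (.node (nat_lit 37) (.leaf (nat_lit 48129) [nat_lit 360, nat_lit 150, nat_lit 360, nat_lit 360]) (.leaf (nat_lit 327688) [nat_lit 180, nat_lit 120, nat_lit 90, nat_lit 180, nat_lit 60]))))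
noncomputable def r126 : WT := (.node (nat_lit 41) (.node (nat_lit 39) (.leaf (nat_lit 350219) [nat_lit 300, nat_lit 330, nat_lit 150, nat_lit 300, nat_lit 210]) (.node (nat_lit 40) (.leaf (nat_lit 114692) [nat_lit 240, nat_lit 330, nat_lit 150, nat_lit 450, nat_lit 450]) (.leaf (nat_lit 257033) [nat_lit 240, nat_lit 150, nat_lit 60, nat_lit 270, nat_lit 60]))) (.node (nat_lit 42) (.leaf (nat_lit 240643) [nat_lit 270, nat_lit 150, nat_lit 120, nat_lit 240, nat_lit 120]) (.node (nat_lit 43) (.leaf (nat_lit 347144) [nat_lit 300, nat_lit 150, nat_lit 180, nat_lit 300, nat_lit 180]) (.leaf (nat_lit 268297) [nat_lit 240, nat_lit 300, nat_lit 150, nat_lit 270, nat_lit 300]))))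
noncomputable def r127 : WT := (.node (nat_lit 48) (.node (nat_lit 46) (.node (nat_lit 45) (.leaf (nat_lit 174082) [nat_lit 300, nat_lit 150, nat_lit 420, nat_lit 300, nat_lit 450]) (.leaf (nat_lit 287754) [nat_lit 270, nat_lit 180, nat_lit 120, nat_lit 270, nat_lit 180])) (.node (nat_lit 47) (.leaf (nat_lit 261129) [nat_lit 240, nat_lit 150, nat_lit 180, nat_lit 240, nat_lit 180]) (.leaf (nat_lit 129030) [nat_lit 270, nat_lit 150, nat_lit 450, nat_lit 270, nat_lit 450]))) (.node (nat_lit 50) (.node (nat_lit 49) (.leaf (nat_lit 81922) [nat_lit 330, nat_lit 150, nat_lit 270, nat_lit 450]) (.leaf (nat_lit 348160) [nat_lit 210, nat_lit 150, nat_lit 300, nat_lit 330, nat_lit 300])) (.node (nat_lit 51) (.leaf (nat_lit 316418) [nat_lit 210, nat_lit 150, nat_lit 120, nat_lit 330, nat_lit 120]) (.node (nat_lit 52) (.leaf (nat_lit 330758) [nat_lit 180, nat_lit 300, nat_lit 120, nat_lit 180, nat_lit 300]) (.leaf (nat_lit 314370) [nat_lit 60, nat_lit 300, nat_lit 60, nat_lit 150, nat_lit 120])))))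
noncomputable def r128 : WT := (.node (nat_lit 68) (.leaf (nat_lit 287745) [nat_lit 180, nat_lit 240, nat_lit 120, nat_lit 180, nat_lit 240]) (.leaf (nat_lit 350214) [nat_lit 330, nat_lit 300, nat_lit 150, nat_lit 210, nat_lit 300]))
noncomputable def r129 : WT := (.node (nat_lit 60) (.node (nat_lit 56) (.node (nat_lit 54) (.leaf (nat_lit 315394) [nat_lit 180, nat_lit 120, nat_lit 150, nat_lit 180, nat_lit 120]) (.node (nat_lit 55) (.leaf (nat_lit 191492) [nat_lit 240, nat_lit 150, nat_lit 240, nat_lit 450, nat_lit 210]) (.leaf (nat_lit 100361) [nat_lit 300, nat_lit 90, nat_lit 300, nat_lit 90]))) (.node (nat_lit 58) (.node (nat_lit 57) (.leaf (nat_lit 350213) [nat_lit 300, nat_lit 210, nat_lit 150, nat_lit 300, nat_lit 330]) (.leaf (nat_lit 266248) [nat_lit 300, nat_lit 270, nat_lit 150, nat_lit 240, nat_lit 300])) (.node (nat_lit 59) (.leaf (nat_lit 320518) [nat_lit 90, nat_lit 180, nat_lit 120, nat_lit 60, nat_lit 180]) (.leaf (nat_lit 328711) [nat_lit 180, nat_lit 120, nat_lit 300, nat_lit 180, nat_lit 300])))) (.node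 (nat_lit 64) (.node (nat_lit 62) (.node (nat_lit 61) (.leaf (nat_lit 330757) [nat_lit 300, nat_lit 180, nat_lit 120, nat_lit 300, nat_lit 180]) (.leaf (nat_lit 48132) [nat_lit 390, nat_lit 150, nat_lit 390, nat_lit 390])) (.node (nat_lit 63) (.leaf (nat_lit 257026) [nat_lit 60, nat_lit 240, nat_lit 60, nat_lit 150, nat_lit 270]) (.leaf (nat_lit 169989) [nat_lit 330, nat_lit 150, nat_lit 420, nat_lit 270, nat_lit 270]))) (.node (nat_lit 66) (.node (nat_lit 65) (.leaf (nat_lit 172035) [nat_lit 270, nat_lit 330, nat_lit 150, nat_lit 420, nat_lit 270]) (.leaf (nat_lit 266242) [nat_lit 240, nat_lit 300, nat_lit 150, nat_lit 300, nat_lit 270])) (.node (nat_lit 67) (.leaf (nat_lit 259080) [nat_lit 90, nat_lit 270, nat_lit 150, nat_lit 90, nat_lit 240]) r128))))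
noncomputable def r130 : WT := (.node (nat_lit 71) (.leaf (nat_lit 315395) [nat_lit 120, nat_lit 180, nat_lit 150, nat_lit 120, nat_lit 180]) (.leaf (nat_lit 226310) [nat_lit 300, nat_lit 150, nat_lit 450, nat_lit 300, nat_lit 420]))
noncomputable def r131 : WT := (.node (nat_lit 73) (.leaf (nat_lit 173066) [nat_lit 450, nat_lit 150, nat_lit 330, nat_lit 240, nat_lit 240]) (.leaf (nat_lit 172040) [nat_lit 240, nat_lit 450, nat_lit 150, nat_lit 330, nat_lit 240]))
noncomputable def r132 : WT := (.node (nat_lit 75) (.leaf (nat_lit 172034) [nat_lit 330, nat_lit 240, nat_lit 150, nat_lit 240, nat_lit 450]) (.leaf (nat_lit 318466) [nat_lit 300, nat_lit 150, nat_lit 120, nat_lit 300, nat_lit 120]))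
noncomputable def r133 : WT := (.node (nat_lit 77) (.leaf (nat_lit 317442) [nat_lit 330, nat_lit 150, nat_lit 120, nat_lit 210, nat_lit 120]) (.leaf (nat_lit 258050) [nat_lit 90, nat_lit 150, nat_lit 240, nat_lit 90, nat_lit 270]))
noncomputable def r134 : WT := (.node (nat_lit 79) (.leaf (nat_lit 316422) [nat_lit 120, nat_lit 330, nat_lit 120, nat_lit 150, nat_lit 210]) (.leaf (nat_lit 98311) [nat_lit 120, nat_lit 300, nat_lit 150, nat_lit 120]))
noncomputable def r135 : WT := (.node (nat_lit 81) (.leaf (nat_lit 268296) [nat_lit 300, nat_lit 270, nat_lit 150, nat_lit 300, nat_lit 240]) (.leaf (nat_lit 269322) [nat_lit 270, nat_lit 150, nat_lit 300, nat_lit 240, nat_lit 300]))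
noncomputable def r136 : WT := (.node (nat_lit 83) (.leaf (nat_lit 348164) [nat_lit 300, nat_lit 330, nat_lit 300, nat_lit 150, nat_lit 210]) (.node (nat_lit 84) (.leaf (nat_lit 327683) [nat_lit 60, nat_lit 180, nat_lit 90, nat_lit 120, nat_lit 180]) (.leaf (nat_lit 48136) [nat_lit 390, nat_lit 390, nat_lit 150, nat_lit 390])))
noncomputable def r137 : WT := (.node (nat_lit 86) (.leaf (nat_lit 267266) [nat_lit 300, nat_lit 150, nat_lit 240, nat_lit 300, nat_lit 270]) (.node (nat_lit 87) (.leaf (nat_lit 268290) [nat_lit 300, nat_lit 240, nat_lit 150, nat_lit 300, nat_lit 270]) (.leaf (nat_lit 351243) [nat_lit 330, nat_lit 300, nat_lit 150, nat_lit 300, nat_lit 210])))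
noncomputable def r138 : WT := (.node (nat_lit 90) (.node (nat_lit 89) (.leaf (nat_lit 198657) [nat_lit 270, nat_lit 150, nat_lit 270, nat_lit 210, nat_lit 420]) (.leaf (nat_lit 172041) [nat_lit 420, nat_lit 270, nat_lit 150, nat_lit 270, nat_lit 330])) (.node (nat_lit 91) (.leaf (nat_lit 121857) [nat_lit 330, nat_lit 150, nat_lit 270, nat_lit 420, nat_lit 420]) (.leaf (nat_lit 81926) [nat_lit 270, nat_lit 450, nat_lit 150, nat_lit 330])))
noncomputable def r139 : WT := (.leaf (nat_lit 360453) [nat_lit 90, nat_lit 60, nat_lit 150, nat_lit 90, nat_lit 60, nat_lit 150, nat_lit 90, nat_lit 60, nat_lit 150, nat_lit 90, nat_lit 60, nat_lit 150, nat_lit 90, nat_lit 60])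
noncomputable def r140 : WT := (.node (nat_lit 94) (.node (nat_lit 93) (.leaf (nat_lit 349189) [nat_lit 330, nat_lit 210, nat_lit 150, nat_lit 330, nat_lit 210]) (.leaf (nat_lit 269321) [nat_lit 240, nat_lit 150, nat_lit 300, nat_lit 270, nat_lit 300])) (.node (nat_lit 95) (.leaf (nat_lit 240647) [nat_lit 120, nat_lit 240, nat_lit 120, nat_lit 150, nat_lit 270]) r139))
noncomputable def r141 : WT := (.node (nat_lit 98) (.node (nat_lit 97) (.leaf (nat_lit 258054) [nat_lit 240, nat_lit 90, nat_lit 270, nat_lit 150, nat_lit 90]) (.leaf (nat_lit 350208) [nat_lit 210, nat_lit 300, nat_lit 150, nat_lit 330, nat_lit 300])) (.node (nat_lit 99) (.leaf (nat_lit 257025) [nat_lit 60, nat_lit 270, nat_lit 60, nat_lit 150, nat_lit 240]) (.node (nat_lit 100) (.leaf (nat_lit 247814) [nat_lit 270, nat_lit 180, nat_lit 270, nat_lit 120, nat_lit 180]) (.leaf (nat_lit 171018) [nat_lit 450, nat_lit 150, nat_lit 330, nat_lit 210, nat_lit 420]))))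
noncomputable def r142 : WT := (.leaf (nat_lit 358402) [nat_lit 60, nat_lit 90, nat_lit 120, nat_lit 150, nat_lit 60, nat_lit 90, nat_lit 120, nat_lit 150, nat_lit 60, nat_lit 90, nat_lit 120, nat_lit 150, nat_lit 60, nat_lit 90, nat_lit 120])
noncomputable def r143 : WT := (.node (nat_lit 104) (.node (nat_lit 102) (.leaf (nat_lit 240648) [nat_lit 120, nat_lit 270, nat_lit 120, nat_lit 150, nat_lit 240]) (.node (nat_lit 103) (.leaf (nat_lit 114695) [nat_lit 420, nat_lit 420, nat_lit 150, nat_lit 330, nat_lit 270]) (.leaf (nat_lit 93189) [nat_lit 240, nat_lit 240, nat_lit 150, nat_lit 240]))) (.node (nat_lit 106) (.node (nat_lit 105) r142 (.leaf (nat_lit 262146) [nat_lit 180, nat_lit 120, nat_lit 270, nat_lit 180, nat_lit 270])) (.node (nat_lit 107) (.leaf (nat_lit 320517) [nat_lit 180, nat_lit 60, nat_lit 120, nat_lit 180, nat_lit 90]) (.leaf (nat_lit 309254) [nat_lit 300, nat_lit 150, nat_lit 270, nat_lit 300, nat_lit 240]))))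
noncomputable def r144 : WT := (.leaf (nat_lit 360448) [nat_lit 60, nat_lit 90, nat_lit 150, nat_lit 60, nat_lit 90, nat_lit 150, nat_lit 60, nat_lit 90, nat_lit 150, nat_lit 60, nat_lit 90, nat_lit 150, nat_lit 60, nat_lit 90])
noncomputable def r145 : WT := (.node (nat_lit 112) (.node (nat_lit 110) (.node (nat_lit 109) (.leaf (nat_lit 114698) [nat_lit 450, nat_lit 450, nat_lit 150, nat_lit 240, nat_lit 330]) (.leaf (nat_lit 259075) [nat_lit 270, nat_lit 90, nat_lit 150, nat_lit 240, nat_lit 90])) (.node (nat_lit 111) (.leaf (nat_lit 259081) [nat_lit 240, nat_lit 90, nat_lit 150, nat_lit 270, nat_lit 90]) r144)) (.node (nat_lit 114) (.node (nat_lit 113) (.leaf (nat_lit 313346) [nat_lit 120, nat_lit 90, nat_lit 300, nat_lit 90, nat_lit 120]) (.leaf (nat_lit 322568) [nat_lit 180, nat_lit 120, nat_lit 60, nat_lit 180, nat_lit 90])) (.node (nat_lit 115) (.leaf (nat_lit 265224) [nat_lit 330, nat_lit 270, nat_lit 150, nat_lit 240, nat_lit 210]) (.node (nat_lit 116) (.leaf (nat_lit 93192) [nat_lit 270, nat_lit 270, nat_lit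 150, nat_lit 270]) (.leaf (nat_lit 328708) [nat_lit 300, nat_lit 180, nat_lit 300, nat_lit 120, nat_lit 180])))))
noncomputable def r146 : WT := (.node (nat_lit 123) (.node (nat_lit 120) (.node (nat_lit 118) (.leaf (nat_lit 173057) [nat_lit 270, nat_lit 270, nat_lit 330, nat_lit 150, nat_lit 420]) (.node (nat_lit 119) (.leaf (nat_lit 171009) [nat_lit 450, nat_lit 210, nat_lit 330, nat_lit 150, nat_lit 420]) (.leaf (nat_lit 265225) [nat_lit 240, nat_lit 330, nat_lit 150, nat_lit 210, nat_lit 270]))) (.node (nat_lit 121) (.leaf (nat_lit 171010) [nat_lit 330, nat_lit 210, nat_lit 420, nat_lit 150, nat_lit 450]) (.node (nat_lit 122) (.leaf (nat_lit 129025) [nat_lit 240, nat_lit 150, nat_lit 420, nat_lit 240, nat_lit 420]) (.leaf (nat_lit 249864) [nat_lit 180, nat_lit 270, nat_lit 120, nat_lit 240, nat_lit 180])))) (.node (nat_lit 127) (.node (nat_lit 125) (.node (nat_lit 124) (.leaf (nat_lit 299018) [nat_lit 270, nat_lit 210, nat_lit 150, nat_lit 330, nat_lit 240]) (.leaf (nat_lit 113667) [nat_lit 270, nat_lit 150, nat_lit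 420, nat_lit 420, nat_lit 210])) (.node (nat_lit 126) (.leaf (nat_lit 352256) [nat_lit 210, nat_lit 300, nat_lit 210, nat_lit 150, nat_lit 300]) (.leaf (nat_lit 349184) [nat_lit 210, nat_lit 330, nat_lit 150, nat_lit 210, nat_lit 330]))) (.node (nat_lit 129) (.node (nat_lit 128) (.leaf (nat_lit 129034) [nat_lit 450, nat_lit 270, nat_lit 450, nat_lit 150, nat_lit 270]) (.leaf (nat_lit 289796) [nat_lit 180, nat_lit 240, nat_lit 120, nat_lit 270, nat_lit 180])) (.node (nat_lit 130) (.leaf (nat_lit 346118) [nat_lit 300, nat_lit 90, nat_lit 150, nat_lit 90, nat_lit 300]) (.leaf (nat_lit 353280) [nat_lit 330, nat_lit 150, nat_lit 300, nat_lit 210, nat_lit 300])))))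
noncomputable def r147 : WT := (.node (nat_lit 139) (.leaf (nat_lit 317446) [nat_lit 120, nat_lit 210, nat_lit 120, nat_lit 150, nat_lit 330]) (.leaf (nat_lit 226314) [nat_lit 450, nat_lit 300, nat_lit 420, nat_lit 150, nat_lit 300]))
noncomputable def r148 : WT := (.node (nat_lit 141) (.leaf (nat_lit 84997) [nat_lit 210, nat_lit 420, nat_lit 150, nat_lit 240]) (.leaf (nat_lit 265219) [nat_lit 210, nat_lit 270, nat_lit 150, nat_lit 240, nat_lit 330]))
noncomputable def r149 : WT := (.node (nat_lit 143) (.leaf (nat_lit 265218) [nat_lit 240, nat_lit 210, nat_lit 150, nat_lit 330, nat_lit 270]) (.leaf (nat_lit 267270) [nat_lit 240, nat_lit 300, nat_lit 270, nat_lit 150, nat_lit 300]))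
noncomputable def r150 : WT := (.node (nat_lit 145) (.leaf (nat_lit 269313) [nat_lit 300, nat_lit 270, nat_lit 300, nat_lit 150, nat_lit 240]) (.leaf (nat_lit 113672) [nat_lit 210, nat_lit 450, nat_lit 450, nat_lit 150, nat_lit 240]))
noncomputable def r151 : WT := (.leaf (nat_lit 358405) [nat_lit 120, nat_lit 90, nat_lit 60, nat_lit 150, nat_lit 120, nat_lit 90, nat_lit 60, nat_lit 150, nat_lit 120, nat_lit 90, nat_lit 60, nat_lit 150, nat_lit 120, nat_lit 90, nat_lit 60])
noncomputable def r152 : WT := (.node (nat_lit 147) r151 (.leaf (nat_lit 264194) [nat_lit 240, nat_lit 180, nat_lit 120, nat_lit 180, nat_lit 270]))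
noncomputable def r153 : WT := (.node (nat_lit 149) (.leaf (nat_lit 283658) [nat_lit 270, nat_lit 90, nat_lit 240, nat_lit 150, nat_lit 90]) (.leaf (nat_lit 121862) [nat_lit 330, nat_lit 150, nat_lit 450, nat_lit 450, nat_lit 240]))
noncomputable def r154 : WT := (.node (nat_lit 151) (.leaf (nat_lit 261121) [nat_lit 180, nat_lit 240, nat_lit 180, nat_lit 150, nat_lit 240]) (.leaf (nat_lit 345088) [nat_lit 90, nat_lit 150, nat_lit 180, nat_lit 60, nat_lit 180]))
noncomputable def r155 : WT := (.node (nat_lit 153) (.leaf (nat_lit 190468) [nat_lit 210, nat_lit 420, nat_lit 150, nat_lit 450, nat_lit 210]) (.leaf (nat_lit 306180) [nat_lit 300, nat_lit 240, nat_lit 150, nat_lit 270, nat_lit 300]))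
noncomputable def r156 : WT := (.node (nat_lit 155) (.leaf (nat_lit 309258) [nat_lit 270, nat_lit 300, nat_lit 240, nat_lit 150, nat_lit 300]) (.node (nat_lit 156) (.leaf (nat_lit 198662) [nat_lit 240, nat_lit 150, nat_lit 450, nat_lit 210, nat_lit 240]) (.leaf (nat_lit 260106) [nat_lit 270, nat_lit 150, nat_lit 90, nat_lit 240, nat_lit 90])))
noncomputable def r157 : WT := (.node (nat_lit 140) (.node (nat_lit 135) (.node (nat_lit 133) (.node (nat_lit 132) (.leaf (nat_lit 299012) [nat_lit 330, nat_lit 240, nat_lit 150, nat_lit 270, nat_lit 210]) (.leaf (nat_lit 171017) [nat_lit 420, nat_lit 150, nat_lit 450, nat_lit 210, nat_lit 330])) (.node (nat_lit 134) (.leaf (nat_lit 299009) [nat_lit 270, nat_lit 330, nat_lit 150, nat_lit 210, nat_lit 240]) (.leaf (nat_lit 299015) [nat_lit 210, nat_lit 240, nat_lit 150, nat_lit 270, nat_lit 330]))) (.node (nat_lit 137) (.node (nat_lit 136) (.leaf (nat_lit 191496) [nat_lit 240, nat_lit 450, nat_lit 210, nat_lit 150, nat_lit 240]) (.leaf (nat_lit 81927) [nat_lit 420, nat_lit 240,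 nat_lit 150, nat_lit 330])) (.node (nat_lit 138) (.leaf (nat_lit 191491) [nat_lit 270, nat_lit 150, nat_lit 210, nat_lit 420, nat_lit 270]) r147))) (.node (nat_lit 148) (.node (nat_lit 144) (.node (nat_lit 142) r148 r149) (.node (nat_lit 146) r150 r152)) (.node (nat_lit 152) (.node (nat_lit 150) r153 r154) (.node (nat_lit 154) r155 r156))))
noncomputable def r158 : WT := (.node (nat_lit 85) (.node (nat_lit 76) (.node (nat_lit 72) (.node (nat_lit 70) (.leaf (nat_lit 48133) [nat_lit 360, nat_lit 360, nat_lit 150, nat_lit 360]) r130) (.node (nat_lit 74) r131 r132)) (.node (nat_lit 80) (.node (nat_lit 78) r133 r134) (.node (nat_lit 82) r135 r136))) (.node (nat_lit 101) (.node (nat_lit 92) (.node (nat_lit 88) r137 r138) (.node (nat_lit 96) r140 r141)) (.node (nat_lit 117) (.node (nat_lit 108) r143 r145) (.node (nat_lit 131) r146 r157))))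
noncomputable def r159 : WT := (.node (nat_lit 22) (.node (nat_lit 15) (.node (nat_lit 13) (.leaf (nat_lit 80897) [nat_lit 240, nat_lit 330, nat_lit 150, nat_lit 420]) (.node (nat_lit 14) (.leaf (nat_lit 38912) [nat_lit 90, nat_lit 150, nat_lit 90]) (.leaf (nat_lit 113668) [nat_lit 240, nat_lit 150, nat_lit 210, nat_lit 450, nat_lit 450]))) (.node (nat_lit 18) (.node (nat_lit 16) (.leaf (nat_lit 98307) [nat_lit 120, nat_lit 150, nat_lit 120, nat_lit 300]) r119) (.node (nat_lit 20) r120 r121))) (.node (nat_lit 38) (.node (nat_lit 29) (.node (nat_lit 25) r122 r123) (.node (nat_lit 33) r124 r125)) (.node (nat_lit 53) (.node (nat_lit 44) r126 r127) (.node (nat_lit 69) r129 r158))))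
noncomputable def w3 : WT := (.node (nat_lit 1) (.leaf (nat_lit 3072) [nat_lit 150]) (.node (nat_lit 4) (.node (nat_lit 2) (.leaf (nat_lit 40960) [nat_lit 300, nat_lit 150, nat_lit 300]) (.node (nat_lit 3) (.leaf (nat_lit 39936) [nat_lit 210, nat_lit 150, nat_lit 330]) (.leaf (nat_lit 34820) [nat_lit 180, nat_lit 120, nat_lit 180]))) (.node (nat_lit 7) (.node (nat_lit 5) (.leaf (nat_lit 39940) [nat_lit 330, nat_lit 150, nat_lit 210]) r117) (.node (nat_lit 12) r118 r159))))
noncomputable def r160 : WT := (.node (nat_lit 5) (.leaf (nat_lit 62472) [nat_lit 390, nat_lit 270, nat_lit 180, nat_lit 210]) (.leaf (nat_lit 34822) [nat_lit 120, nat_lit 180, nat_lit 150]))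
noncomputable def r161 : WT := (.node (nat_lit 7) (.leaf (nat_lit 34818) [nat_lit 150, nat_lit 180, nat_lit 120]) (.node (nat_lit 8) (.leaf (nat_lit 19460) [nat_lit 420, nat_lit 390, nat_lit 420]) (.leaf (nat_lit 19459) [nat_lit 450, nat_lit 360, nat_lit 450])))
noncomputable def r162 : WT := (.node (nat_lit 11) (.node (nat_lit 10) (.leaf (nat_lit 20481) [nat_lit 420, nat_lit 180, nat_lit 360]) (.leaf (nat_lit 41990) [nat_lit 60, nat_lit 180, nat_lit 90])) (.node (nat_lit 12) (.leaf (nat_lit 70660) [nat_lit 450, nat_lit 270, nat_lit 390, nat_lit 210]) (.node (nat_lit 13) (.leaf (nat_lit 18433) [nat_lit 360, nat_lit 450, nat_lit 360]) (.leaf (nat_lit 41986) [nat_lit 90, nat_lit 180, nat_lit 60]))))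
noncomputable def r163 : WT := (.node (nat_lit 20) (.leaf (nat_lit 18438) [nat_lit 390, nat_lit 420, nat_lit 390]) (.leaf (nat_lit 20485) [nat_lit 360, nat_lit 180, nat_lit 420]))
noncomputable def r164 : WT := (.node (nat_lit 22) (.leaf (nat_lit 69635) [nat_lit 390, nat_lit 210, nat_lit 360, nat_lit 240]) (.leaf (nat_lit 96257) [nat_lit 270, nat_lit 180, nat_lit 240, nat_lit 240]))
noncomputable def r165 : WT := (.node (nat_lit 24) (.leaf (nat_lit 67592) [nat_lit 390, nat_lit 180, nat_lit 240, nat_lit 210]) (.node (nat_lit 25) (.leaf (nat_lit 87044) [nat_lit 240, nat_lit 180, nat_lit 450, nat_lit 210]) (.leaf (nat_lit 245770) [nat_lit 270, nat_lit 120, nat_lit 180, nat_lit 270, nat_lit 150])))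
noncomputable def r166 : WT := (.node (nat_lit 28) (.node (nat_lit 27) (.leaf (nat_lit 330755) [nat_lit 150, nat_lit 300, nat_lit 180, nat_lit 120, nat_lit 300]) (.leaf (nat_lit 294922) [nat_lit 270, nat_lit 180, nat_lit 300, nat_lit 270, nat_lit 300])) (.node (nat_lit 29) (.leaf (nat_lit 71684) [nat_lit 240, nat_lit 420, nat_lit 390, nat_lit 210]) (.leaf (nat_lit 261123) [nat_lit 240, nat_lit 180, nat_lit 150, nat_lit 240, nat_lit 150])))
noncomputable def r167 : WT := (.node (nat_lit 32) (.node (nat_lit 31) (.leaf (nat_lit 245764) [nat_lit 270, nat_lit 150, nat_lit 180, nat_lit 270, nat_lit 120]) (.leaf (nat_lit 20482) [nat_lit 450, nat_lit 180, nat_lit 390])) (.node (nat_lit 33) (.leaf (nat_lit 67591) [nat_lit 360, nat_lit 180, nat_lit 210, nat_lit 270]) (.leaf (nat_lit 246787) [nat_lit 240, nat_lit 180, nat_lit 120, nat_lit 240, nat_lit 120])))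
noncomputable def r168 : WT := (.node (nat_lit 37) (.node (nat_lit 35) (.leaf (nat_lit 70661) [nat_lit 210, nat_lit 360, nat_lit 240, nat_lit 420]) (.node (nat_lit 36) (.leaf (nat_lit 310278) [nat_lit 300, nat_lit 180, nat_lit 270, nat_lit 300, nat_lit 240]) (.leaf (nat_lit 347138) [nat_lit 300, nat_lit 180, nat_lit 150, nat_lit 300, nat_lit 150]))) (.node (nat_lit 39) (.node (nat_lit 38) (.leaf (nat_lit 245767) [nat_lit 120, nat_lit 240, nat_lit 180, nat_lit 150, nat_lit 240]) (.leaf (nat_lit 330761) [nat_lit 120, nat_lit 300, nat_lit 180, nat_lit 150, nat_lit 300])) (.node (nat_lit 40) (.leaf (nat_lit 62465) [nat_lit 210, nat_lit 180, nat_lit 240, nat_lit 360]) (.leaf (nat_lit 246788) [nat_lit 270, nat_lit 180, nat_lit 120, nat_lit 270, nat_lit 120]))))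
noncomputable def r169 : WT := (.node (nat_lit 46) (.node (nat_lit 43) (.node (nat_lit 42) (.leaf (nat_lit 245761) [nat_lit 150, nat_lit 240, nat_lit 180, nat_lit 120, nat_lit 240]) (.leaf (nat_lit 332802) [nat_lit 300, nat_lit 180, nat_lit 120, nat_lit 300, nat_lit 120])) (.node (nat_lit 44) (.leaf (nat_lit 328712) [nat_lit 300, nat_lit 120, nat_lit 180, nat_lit 150, nat_lit 300]) (.node (nat_lit 45) (.leaf (nat_lit 96260) [nat_lit 240, nat_lit 180, nat_lit 270, nat_lit 270]) (.leaf (nat_lit 261124) [nat_lit 270, nat_lit 180, nat_lit 150, nat_lit 270, nat_lit 150])))) (.node (nat_lit 49) (.node (nat_lit 47) (.leaf (nat_lit 57347) [nat_lit 420, nat_lit 420, nat_lit 360, nat_lit 450]) (.node (nat_lit 48) (.leaf (nat_lit 286728) [nat_lit 300, nat_lit 270, nat_lit 180, nat_lit 270, nat_lit 300]) (.leaf (nat_lit 87041) [nat_lit 270, nat_lit 180, nat_lit 210, nat_lit 420]))) (.node (nat_lit 50) (.leaf (nat_lit 287747) [nat_lit 240, nat_lit 120, nat_lit 180, nat_lit 240, nat_lit 150]) (.node (nat_lit 51) (.leaf (nat_lit 59397)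 [nat_lit 420, nat_lit 360, nat_lit 450, nat_lit 390]) (.leaf (nat_lit 320519) [nat_lit 60, nat_lit 120, nat_lit 180, nat_lit 90, nat_lit 150])))))
noncomputable def r170 : WT := (.node (nat_lit 60) (.leaf (nat_lit 319494) [nat_lit 90, nat_lit 180, nat_lit 120, nat_lit 60, nat_lit 120]) (.leaf (nat_lit 50180) [nat_lit 360, nat_lit 450, nat_lit 390, nat_lit 390]))
noncomputable def r171 : WT := (.node (nat_lit 63) (.leaf (nat_lit 330760) [nat_lit 300, nat_lit 120, nat_lit 180, nat_lit 300, nat_lit 150]) (.leaf (nat_lit 246791) [nat_lit 120, nat_lit 240, nat_lit 120, nat_lit 180, nat_lit 240]))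
noncomputable def r172 : WT := (.node (nat_lit 66) (.leaf (nat_lit 59396) [nat_lit 360, nat_lit 420, nat_lit 390, nat_lit 450]) (.leaf (nat_lit 294921) [nat_lit 240, nat_lit 180, nat_lit 300, nat_lit 240, nat_lit 300]))
noncomputable def r173 : WT := (.node (nat_lit 69) (.leaf (nat_lit 67586) [nat_lit 240, nat_lit 210, nat_lit 180, nat_lit 390]) (.leaf (nat_lit 272391) [nat_lit 60, nat_lit 240, nat_lit 180, nat_lit 90, nat_lit 240]))
noncomputable def r174 : WT := (.node (nat_lit 71) (.leaf (nat_lit 249862) [nat_lit 150, nat_lit 180, nat_lit 270, nat_lit 120, nat_lit 240]) (.leaf (nat_lit 246792) [nat_lit 120, nat_lit 270, nat_lit 120, nat_lit 180, nat_lit 270]))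
noncomputable def r175 : WT := (.node (nat_lit 73) (.leaf (nat_lit 307204) [nat_lit 270, nat_lit 300, nat_lit 180, nat_lit 270, nat_lit 300]) (.leaf (nat_lit 286723) [nat_lit 300, nat_lit 240, nat_lit 180, nat_lit 240, nat_lit 300]))
noncomputable def r176 : WT := (.node (nat_lit 61) (.node (nat_lit 56) (.node (nat_lit 54) (.node (nat_lit 53) (.leaf (nat_lit 71685) [nat_lit 210, nat_lit 360, nat_lit 450, nat_lit 270]) (.leaf (nat_lit 57350) [nat_lit 420, nat_lit 390, nat_lit 450, nat_lit 450])) (.node (nat_lit 55) (.leaf (nat_lit 69638) [nat_lit 270, nat_lit 390, nat_lit 210, nat_lit 360]) (.leaf (nat_lit 343044) [nat_lit 150, nat_lit 180, nat_lit 300, nat_lit 120, nat_lit 300]))) (.node (nat_lit 58) (.node (nat_lit 57) (.leaf (nat_lit 287752) [nat_lit 150, nat_lit 270, nat_lit 180, nat_lit 120, nat_lit 270]) (.leaf (nat_lit 328706) [nat_lit 150, nat_lit 300, nat_lit 180, nat_lit 300, nat_lit 120])) (.node (nat_lit 59) (.leaf (nat_lit 328707) [nat_lit 300, nat_lit 150, nat_lit 180, nat_lit 120, nat_lit 300]) r170)))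 (.node (nat_lit 67) (.node (nat_lit 64) (.node (nat_lit 62) (.leaf (nat_lit 286729) [nat_lit 240, nat_lit 300, nat_lit 180, nat_lit 300, nat_lit 240]) r171) (.node (nat_lit 65) (.leaf (nat_lit 315396) [nat_lit 120, nat_lit 150, nat_lit 180, nat_lit 120, nat_lit 150]) r172)) (.node (nat_lit 70) (.node (nat_lit 68) (.leaf (nat_lit 315393) [nat_lit 150, nat_lit 120, nat_lit 180, nat_lit 150, nat_lit 120]) r173) (.node (nat_lit 72) r174 r175))))
noncomputable def r177 : WT := (.node (nat_lit 75) (.leaf (nat_lit 96264) [nat_lit 270, nat_lit 270, nat_lit 180, nat_lit 240]) (.leaf (nat_lit 286722) [nat_lit 270, nat_lit 300, nat_lit 180, nat_lit 300, nat_lit 270]))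
noncomputable def r178 : WT := (.node (nat_lit 77) (.leaf (nat_lit 64516) [nat_lit 210, nat_lit 270, nat_lit 390, nat_lit 420]) (.node (nat_lit 78) (.leaf (nat_lit 66567) [nat_lit 360, nat_lit 180, nat_lit 450, nat_lit 450]) (.leaf (nat_lit 272388) [nat_lit 270, nat_lit 90, nat_lit 180, nat_lit 270, nat_lit 60])))
noncomputable def r179 : WT := (.node (nat_lit 80) (.leaf (nat_lit 331786) [nat_lit 120, nat_lit 180, nat_lit 300, nat_lit 150, nat_lit 300]) (.leaf (nat_lit 287753) [nat_lit 240, nat_lit 150, nat_lit 180, nat_lit 240, nat_lit 120]))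
noncomputable def r180 : WT := (.node (nat_lit 82) (.leaf (nat_lit 47107) [nat_lit 420, nat_lit 360, nat_lit 360, nat_lit 420]) (.node (nat_lit 83) (.leaf (nat_lit 87048) [nat_lit 450, nat_lit 210, nat_lit 180, nat_lit 240]) (.leaf (nat_lit 51204) [nat_lit 420, nat_lit 180, nat_lit 390, nat_lit 390])))
noncomputable def r181 : WT := (.node (nat_lit 85) (.leaf (nat_lit 50181) [nat_lit 360, nat_lit 360, nat_lit 420, nat_lit 390]) (.node (nat_lit 86) (.leaf (nat_lit 87045) [nat_lit 210, nat_lit 420, nat_lit 180, nat_lit 270]) (.leaf (nat_lit 96261) [nat_lit 240, nat_lit 240, nat_lit 180, nat_lit 270])))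
noncomputable def r182 : WT := (.node (nat_lit 88) (.leaf (nat_lit 356355) [nat_lit 300, nat_lit 90, nat_lit 180, nat_lit 60, nat_lit 300]) (.node (nat_lit 89) (.leaf (nat_lit 264198) [nat_lit 120, nat_lit 180, nat_lit 270, nat_lit 150, nat_lit 240]) (.leaf (nat_lit 290825) [nat_lit 240, nat_lit 90, nat_lit 180, nat_lit 240, nat_lit 60])))
noncomputable def r183 : WT := (.node (nat_lit 91) (.leaf (nat_lit 307201) [nat_lit 300, nat_lit 240, nat_lit 180, nat_lit 300, nat_lit 240]) (.node (nat_lit 92) (.leaf (nat_lit 328713) [nat_lit 120, nat_lit 300, nat_lit 180, nat_lit 300, nat_lit 150]) (.leaf (nat_lit 356360) [nat_lit 300, nat_lit 60, nat_lit 180, nat_lit 90, nat_lit 300])))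
noncomputable def r184 : WT := (.node (nat_lit 95) (.node (nat_lit 94) (.leaf (nat_lit 68614) [nat_lit 420, nat_lit 390, nat_lit 210, nat_lit 270]) (.leaf (nat_lit 330754) [nat_lit 300, nat_lit 150, nat_lit 180, nat_lit 300, nat_lit 120])) (.node (nat_lit 96) (.leaf (nat_lit 272385) [nat_lit 90, nat_lit 240, nat_lit 180, nat_lit 60, nat_lit 240]) (.leaf (nat_lit 320516) [nat_lit 150, nat_lit 90, nat_lit 180, nat_lit 120, nat_lit 60])))
noncomputable def r185 : WT := (.node (nat_lit 99) (.node (nat_lit 98) (.leaf (nat_lit 264202) [nat_lit 270, nat_lit 150, nat_lit 240, nat_lit 180, nat_lit 120]) (.leaf (nat_lit 290818) [nat_lit 60, nat_lit 270, nat_lit 180, nat_lit 90, nat_lit 270])) (.node (nat_lit 100) (.leaf (nat_lit 332806) [nat_lit 120, nat_lit 300, nat_lit 120, nat_lit 180, nat_lit 300]) (.leaf (nat_lit 356361) [nat_lit 60, nat_lit 300, nat_lit 180, nat_lit 300, nat_lit 90])))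
noncomputable def r186 : WT := (.node (nat_lit 103) (.node (nat_lit 102) (.leaf (nat_lit 261128) [nat_lit 150, nat_lit 270, nat_lit 150, nat_lit 180, nat_lit 270]) (.leaf (nat_lit 47110) [nat_lit 450, nat_lit 390, nat_lit 390, nat_lit 450])) (.node (nat_lit 104) (.leaf (nat_lit 273411) [nat_lit 240, nat_lit 180, nat_lit 60, nat_lit 240, nat_lit 60]) (.node (nat_lit 105) (.leaf (nat_lit 66562) [nat_lit 420, nat_lit 420, nat_lit 180, nat_lit 390]) (.leaf (nat_lit 58369) [nat_lit 450, nat_lit 390, nat_lit 420, nat_lit 360]))))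
noncomputable def r187 : WT := (.node (nat_lit 109) (.node (nat_lit 107) (.leaf (nat_lit 249866) [nat_lit 270, nat_lit 120, nat_lit 240, nat_lit 180, nat_lit 150]) (.node (nat_lit 108) (.leaf (nat_lit 319498) [nat_lit 120, nat_lit 60, nat_lit 120, nat_lit 180, nat_lit 90]) (.leaf (nat_lit 321540) [nat_lit 150, nat_lit 180, nat_lit 60, nat_lit 120, nat_lit 60]))) (.node (nat_lit 110) (.leaf (nat_lit 66568) [nat_lit 390, nat_lit 180, nat_lit 420, nat_lit 420]) (.node (nat_lit 111) (.leaf (nat_lit 287746) [nat_lit 120, nat_lit 270, nat_lit 180, nat_lit 150, nat_lit 270]) (.leaf (nat_lit 58376) [nat_lit 390, nat_lit 450, nat_lit 360, nat_lit 420]))))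
noncomputable def r188 : WT := (.node (nat_lit 115) (.node (nat_lit 113) (.leaf (nat_lit 63493) [nat_lit 450, nat_lit 360, nat_lit 420, nat_lit 420]) (.node (nat_lit 114) (.leaf (nat_lit 273416) [nat_lit 60, nat_lit 270, nat_lit 60, nat_lit 180, nat_lit 270]) (.leaf (nat_lit 68611) [nat_lit 240, nat_lit 210, nat_lit 360, nat_lit 450]))) (.node (nat_lit 116) (.leaf (nat_lit 327681) [nat_lit 150, nat_lit 60, nat_lit 180, nat_lit 90, nat_lit 120]) (.node (nat_lit 117) (.leaf (nat_lit 272394) [nat_lit 270, nat_lit 60, nat_lit 180, nat_lit 270, nat_lit 90]) (.leaf (nat_lit 262145) [nat_lit 240, nat_lit 120, nat_lit 180, nat_lit 150, nat_lit 240]))))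
noncomputable def r189 : WT := (.node (nat_lit 121) (.node (nat_lit 119) (.leaf (nat_lit 262154) [nat_lit 270, nat_lit 150, nat_lit 180, nat_lit 120, nat_lit 270]) (.node (nat_lit 120) (.leaf (nat_lit 247812) [nat_lit 150, nat_lit 270, nat_lit 180, nat_lit 270, nat_lit 120]) (.leaf (nat_lit 345094) [nat_lit 60, nat_lit 180, nat_lit 150, nat_lit 90, nat_lit 150]))) (.node (nat_lit 123) (.node (nat_lit 122) (.leaf (nat_lit 329738) [nat_lit 120, nat_lit 180, nat_lit 90, nat_lit 150, nat_lit 90]) (.leaf (nat_lit 327690) [nat_lit 120, nat_lit 90, nat_lit 180, nat_lit 60, nat_lit 150])) (.node (nat_lit 124) (.leaf (nat_lit 51205) [nat_lit 360, nat_lit 360, nat_lit 180, nat_lit 450]) (.leaf (nat_lit 321544) [nat_lit 60, nat_lit 120, nat_lit 60, nat_lit 180, nat_lit 150]))))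
noncomputable def r190 : WT := (.node (nat_lit 129) (.node (nat_lit 127) (.node (nat_lit 126) (.leaf (nat_lit 310282) [nat_lit 270, nat_lit 300, nat_lit 240, nat_lit 180, nat_lit 300]) (.leaf (nat_lit 274433) [nat_lit 240, nat_lit 90, nat_lit 180, nat_lit 60, nat_lit 240])) (.node (nat_lit 128) (.leaf (nat_lit 288774) [nat_lit 240, nat_lit 150, nat_lit 270, nat_lit 180, nat_lit 120]) (.leaf (nat_lit 289794) [nat_lit 150, nat_lit 180, nat_lit 240, nat_lit 120, nat_lit 270]))) (.node (nat_lit 131) (.node (nat_lit 130) (.leaf (nat_lit 247815) [nat_lit 120, nat_lit 240, nat_lit 180, nat_lit 240, nat_lit 150]) (.leaf (nat_lit 274439) [nat_lit 60, nat_lit 240, nat_lit 180, nat_lit 240, nat_lit 90])) (.node (nat_lit 132) (.leaf (nat_lit 56321) [nat_lit 360, nat_lit 420, nat_lit 420, nat_lit 360]) (.node (nat_lit 133) (.leaf (nat_lit 51208) [nat_lit 390, nat_lit 390, nat_lit 180, nat_lit 420]) (.leaf (nat_lit 67585) [nat_lit 210, nat_lit 270, nat_lit 180, nat_lit 360])))))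
noncomputable def r191 : WT := (.node (nat_lit 139) (.node (nat_lit 136) (.node (nat_lit 135) (.leaf (nat_lit 355332) [nat_lit 60, nat_lit 90, nat_lit 180, nat_lit 60, nat_lit 90]) (.leaf (nat_lit 273412) [nat_lit 270, nat_lit 180, nat_lit 60, nat_lit 270, nat_lit 60])) (.node (nat_lit 137) (.leaf (nat_lit 327684) [nat_lit 60, nat_lit 150, nat_lit 180, nat_lit 120, nat_lit 90]) (.node (nat_lit 138) (.leaf (nat_lit 347142) [nat_lit 150, nat_lit 300, nat_lit 150, nat_lit 180, nat_lit 300]) (.leaf (nat_lit 322570) [nat_lit 120, nat_lit 60, nat_lit 180, nat_lit 90, nat_lit 150])))) (.node (nat_lit 142) (.node (nat_lit 140) (.leaf (nat_lit 262151) [nat_lit 150, nat_lit 240, nat_lit 180, nat_lit 240, nat_lit 120]) (.node (nat_lit 141) (.leaf (nat_lit 320522) [nat_lit 120, nat_lit 60, nat_lit 180, nat_lit 150, nat_lit 90]) (.leaf (nat_lit 262148) [nat_lit 120, nat_lit 270, nat_lit 180, nat_lit 270, nat_lit 150]))) (.node (nat_lit 143) (.leaf (nat_lit 261127) [nat_lit 150, nat_lit 240, nat_lit 150, nat_lit 180, nat_lit 240])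 (.node (nat_lit 144) (.leaf (nat_lit 247809) [nat_lit 240, nat_lit 150, nat_lit 180, nat_lit 120, nat_lit 240]) (.leaf (nat_lit 51201) [nat_lit 450, nat_lit 180, nat_lit 360, nat_lit 360])))))
noncomputable def r192 : WT := (.node (nat_lit 158) (.leaf (nat_lit 322561) [nat_lit 150, nat_lit 90, nat_lit 180, nat_lit 60, nat_lit 120]) (.leaf (nat_lit 343048) [nat_lit 300, nat_lit 120, nat_lit 300, nat_lit 180, nat_lit 150]))
noncomputable def r193 : WT := (.node (nat_lit 160) (.leaf (nat_lit 247818) [nat_lit 270, nat_lit 120, nat_lit 180, nat_lit 150, nat_lit 270]) (.leaf (nat_lit 290819) [nat_lit 240, nat_lit 60, nat_lit 180, nat_lit 240, nat_lit 90]))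
noncomputable def r194 : WT := (.node (nat_lit 162) (.leaf (nat_lit 290824) [nat_lit 90, nat_lit 270, nat_lit 180, nat_lit 60, nat_lit 270]) (.leaf (nat_lit 355329) [nat_lit 90, nat_lit 60, nat_lit 180, nat_lit 90, nat_lit 60]))
noncomputable def r195 : WT := (.node (nat_lit 164) (.leaf (nat_lit 274442) [nat_lit 270, nat_lit 60, nat_lit 180, nat_lit 90, nat_lit 270]) (.leaf (nat_lit 278534) [nat_lit 90, nat_lit 180, nat_lit 270, nat_lit 60, nat_lit 240]))
noncomputable def r196 : WT := (.node (nat_lit 153) (.node (nat_lit 149) (.node (nat_lit 147) (.node (nat_lit 146) (.leaf (nat_lit 345098) [nat_lit 150, nat_lit 90, nat_lit 150, nat_lit 180, nat_lit 60]) (.leaf (nat_lit 356354) [nat_lit 90, nat_lit 300, nat_lit 180, nat_lit 300, nat_lit 60])) (.node (nat_lit 148) (.leaf (nat_lit 46081) [nat_lit 390, nat_lit 420, nat_lit 360, nat_lit 360]) (.leaf (nat_lit 281603) [nat_lit 240, nat_lit 180, nat_lit 90, nat_lit 240, nat_lit 90]))) (.node (nat_lit 151) (.node (nat_lit 150) (.leaf (nat_lit 331778) [nat_lit 300, nat_lit 150,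 nat_lit 300, nat_lit 180, nat_lit 120]) (.leaf (nat_lit 63492) [nat_lit 450, nat_lit 450, nat_lit 390, nat_lit 420])) (.node (nat_lit 152) (.leaf (nat_lit 65538) [nat_lit 390, nat_lit 210, nat_lit 270, nat_lit 390]) (.leaf (nat_lit 65543) [nat_lit 360, nat_lit 240, nat_lit 210, nat_lit 360])))) (.node (nat_lit 157) (.node (nat_lit 155) (.node (nat_lit 154) (.leaf (nat_lit 295938) [nat_lit 300, nat_lit 180, nat_lit 240, nat_lit 300, nat_lit 270]) (.leaf (nat_lit 289798) [nat_lit 240, nat_lit 120, nat_lit 270, nat_lit 180, nat_lit 150])) (.node (nat_lit 156) (.leaf (nat_lit 288770) [nat_lit 120, nat_lit 180, nat_lit 240, nat_lit 150, nat_lit 270]) (.leaf (nat_lit 273415) [nat_lit 60, nat_lit 240, nat_lit 60, nat_lit 180, nat_lit 240]))) (.node (nat_lit 161) (.node (nat_lit 159) r192 r193) (.node (nat_lit 163) r194 r195))))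
noncomputable def r197 : WT := (.node (nat_lit 97) (.node (nat_lit 84) (.node (nat_lit 79) (.node (nat_lit 76) r177 r178) (.node (nat_lit 81) r179 r180)) (.node (nat_lit 90) (.node (nat_lit 87) r181 r182) (.node (nat_lit 93) r183 r184))) (.node (nat_lit 118) (.node (nat_lit 106) (.node (nat_lit 101) r185 r186) (.node (nat_lit 112) r187 r188)) (.node (nat_lit 134) (.node (nat_lit 125) r189 r190) (.node (nat_lit 145) r191 r196))))
noncomputable def r198 : WT := (.node (nat_lit 21) (.node (nat_lit 16) (.node (nat_lit 15) (.leaf (nat_lit 62469) [nat_lit 240, nat_lit 360, nat_lit 180, nat_lit 210]) (.leaf (nat_lit 64517) [nat_lit 450, nat_lit 360, nat_lit 240, nat_lit 210])) (.node (nat_lit 18) (.node (nat_lit 17) (.leaf (nat_lit 62468) [nat_lit 210, nat_lit 180, nat_lit 390, nat_lit 270]) (.leaf (nat_lit 20486) [nat_lit 390, nat_lit 180, nat_lit 450])) (.node (nat_lit 19) (.leaf (nat_lit 293891) [nat_lit 240, nat_lit 300, nat_lit 180, nat_lit 240, nat_lit 300]) r163))) (.node (nat_lit 34) (.node (nat_lit 26) (.node (nat_lit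 23) r164 r165) (.node (nat_lit 30) r166 r167)) (.node (nat_lit 52) (.node (nat_lit 41) r168 r169) (.node (nat_lit 74) r176 r197))))
noncomputable def w4 : WT := (.node (nat_lit 1) (.leaf (nat_lit 4096) [nat_lit 180]) (.node (nat_lit 4) (.node (nat_lit 2) (.leaf (nat_lit 43008) [nat_lit 300, nat_lit 180, nat_lit 300]) (.node (nat_lit 3) (.leaf (nat_lit 31745) [nat_lit 240, nat_lit 180, nat_lit 240]) (.leaf (nat_lit 31746) [nat_lit 270, nat_lit 180, nat_lit 270]))) (.node (nat_lit 9) (.node (nat_lit 6) r160 r161) (.node (nat_lit 14) r162 r198))))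
noncomputable def r199 : WT := (.node (nat_lit 4) (.leaf (nat_lit 101380) [nat_lit 330, nat_lit 300, nat_lit 210, nat_lit 330]) (.leaf (nat_lit 25605) [nat_lit 420, nat_lit 270, nat_lit 270]))
noncomputable def r200 : WT := (.node (nat_lit 6) (.leaf (nat_lit 13314) [nat_lit 270, nat_lit 450]) (.node (nat_lit 7) (.leaf (nat_lit 22529) [nat_lit 270, nat_lit 420, nat_lit 420]) (.leaf (nat_lit 35842) [nat_lit 120, nat_lit 210, nat_lit 120])))
noncomputable def r201 : WT := (.node (nat_lit 10) (.node (nat_lit 9) (.leaf (nat_lit 62470) [nat_lit 180, nat_lit 390, nat_lit 270, nat_lit 180]) (.leaf (nat_lit 39938) [nat_lit 150, nat_lit 330, nat_lit 150])) (.node (nat_lit 11) (.leaf (nat_lit 62467) [nat_lit 180, nat_lit 240, nat_lit 360, nat_lit 180]) (.node (nat_lit 12) (.leaf (nat_lit 77827) [nat_lit 450, nat_lit 240, nat_lit 420, nat_lit 270]) (.leaf (nat_lit 68610) [nat_lit 270, nat_lit 180, nat_lit 420, nat_lit 390]))))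
noncomputable def r202 : WT := (.node (nat_lit 20) (.leaf (nat_lit 275460) [nat_lit 60, nat_lit 240, nat_lit 330, nat_lit 270, nat_lit 60]) (.leaf (nat_lit 86023) [nat_lit 420, nat_lit 60, nat_lit 240, nat_lit 60]))
noncomputable def r203 : WT := (.node (nat_lit 22) (.leaf (nat_lit 64518) [nat_lit 270, nat_lit 390, nat_lit 420, nat_lit 180]) (.leaf (nat_lit 84999) [nat_lit 420, nat_lit 150, nat_lit 240, nat_lit 150]))
noncomputable def r204 : WT := (.node (nat_lit 24) (.leaf (nat_lit 70663) [nat_lit 360, nat_lit 240, nat_lit 420, nat_lit 180]) (.leaf (nat_lit 171014) [nat_lit 420, nat_lit 150, nat_lit 450, nat_lit 150, nat_lit 330]))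
noncomputable def r205 : WT := (.node (nat_lit 26) (.leaf (nat_lit 139274) [nat_lit 450, nat_lit 270, nat_lit 60, nat_lit 330, nat_lit 60]) (.leaf (nat_lit 90116) [nat_lit 270, nat_lit 300, nat_lit 450, nat_lit 300]))
noncomputable def r206 : WT := (.node (nat_lit 28) (.leaf (nat_lit 334858) [nat_lit 120, nat_lit 210, nat_lit 330, nat_lit 120, nat_lit 330]) (.node (nat_lit 29) (.leaf (nat_lit 101385) [nat_lit 300, nat_lit 330, nat_lit 210, nat_lit 330]) (.leaf (nat_lit 101381) [nat_lit 330, nat_lit 210, nat_lit 300, nat_lit 330])))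
noncomputable def r207 : WT := (.node (nat_lit 32) (.node (nat_lit 31) (.leaf (nat_lit 67587) [nat_lit 270, nat_lit 180, nat_lit 360, nat_lit 180]) (.leaf (nat_lit 357384) [nat_lit 300, nat_lit 210, nat_lit 330, nat_lit 300, nat_lit 330])) (.node (nat_lit 33) (.leaf (nat_lit 83975) [nat_lit 420, nat_lit 120, nat_lit 240, nat_lit 120]) (.leaf (nat_lit 101376) [nat_lit 330, nat_lit 210, nat_lit 330, nat_lit 300])))
noncomputable def r208 : WT := (.node (nat_lit 37) (.node (nat_lit 35) (.leaf (nat_lit 175114) [nat_lit 450, nat_lit 60, nat_lit 270, nat_lit 330, nat_lit 60]) (.node (nat_lit 36) (.leaf (nat_lit 71687) [nat_lit 360, nat_lit 450, nat_lit 270, nat_lit 180]) (.leaf (nat_lit 349187) [nat_lit 150, nat_lit 330, nat_lit 210, nat_lit 150, nat_lit 330]))) (.node (nat_lit 39) (.node (nat_lit 38) (.leaf (nat_lit 78852) [nat_lit 270, nat_lit 120, nat_lit 450, nat_lit 120]) (.leaf (nat_lit 69639) [nat_lit 360, nat_lit 240, nat_lit 180, nat_lit 390])) (.node (nat_lit 40) (.leaf (nat_lit 87047) [nat_lit 420, nat_lit 180,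 nat_lit 270, nat_lit 180]) (.leaf (nat_lit 352258) [nat_lit 300, nat_lit 210, nat_lit 150, nat_lit 300, nat_lit 150]))))
noncomputable def r209 : WT := (.node (nat_lit 50) (.leaf (nat_lit 55304) [nat_lit 390, nat_lit 450, nat_lit 390, nat_lit 240]) (.leaf (nat_lit 88066) [nat_lit 300, nat_lit 270, nat_lit 300, nat_lit 450]))
noncomputable def r210 : WT := (.node (nat_lit 53) (.leaf (nat_lit 64515) [nat_lit 180, nat_lit 450, nat_lit 360, nat_lit 240]) (.leaf (nat_lit 348162) [nat_lit 150, nat_lit 300, nat_lit 330, nat_lit 300, nat_lit 150]))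
noncomputable def r211 : WT := (.node (nat_lit 56) (.leaf (nat_lit 147460) [nat_lit 60, nat_lit 330, nat_lit 60, nat_lit 450, nat_lit 270]) (.leaf (nat_lit 155651) [nat_lit 270, nat_lit 420, nat_lit 120, nat_lit 420, nat_lit 120]))
noncomputable def r212 : WT := (.node (nat_lit 46) (.node (nat_lit 43) (.node (nat_lit 42) (.leaf (nat_lit 77830) [nat_lit 240, nat_lit 450, nat_lit 270, nat_lit 420]) (.leaf (nat_lit 86018) [nat_lit 60, nat_lit 270, nat_lit 60, nat_lit 450])) (.node (nat_lit 44) (.leaf (nat_lit 164871) [nat_lit 120, nat_lit 420, nat_lit 270, nat_lit 120, nat_lit 270]) (.node (nat_lit 45) (.leaf (nat_lit 276487) [nat_lit 60, nat_lit 240, nat_lit 330, nat_lit 60, nat_lit 270]) (.leaf (nat_lit 139265) [nat_lit 60, nat_lit 330, nat_lit 60, nat_lit 240, nat_lit 420])))) (.node (nat_lit 51) (.node (nat_lit 48) (.node (nat_lit 47) (.leaf (nat_lit 25602) [nat_lit 240, nat_lit 240, nat_lit 450]) (.leaf (nat_lit 89092) [nat_lit 240, nat_lit 210, nat_lit 450, nat_lit 240])) (.node (nat_lit 49) (.leaf (nat_lit 22534)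 [nat_lit 450, nat_lit 450, nat_lit 240]) r209)) (.node (nat_lit 54) (.node (nat_lit 52) (.leaf (nat_lit 147463) [nat_lit 240, nat_lit 420, nat_lit 60, nat_lit 330, nat_lit 60]) r210) (.node (nat_lit 55) (.leaf (nat_lit 70658) [nat_lit 180, nat_lit 450, nat_lit 270, nat_lit 390]) r211))))
noncomputable def r213 : WT := (.node (nat_lit 58) (.leaf (nat_lit 350210) [nat_lit 300, nat_lit 150, nat_lit 330, nat_lit 300, nat_lit 150]) (.leaf (nat_lit 316420) [nat_lit 150, nat_lit 120, nat_lit 330, nat_lit 120, nat_lit 150]))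
noncomputable def r214 : WT := (.node (nat_lit 60) (.leaf (nat_lit 231431) [nat_lit 300, nat_lit 420, nat_lit 270, nat_lit 300, nat_lit 270]) (.leaf (nat_lit 60419) [nat_lit 360, nat_lit 240, nat_lit 360, nat_lit 450]))
noncomputable def r215 : WT := (.node (nat_lit 62) (.leaf (nat_lit 154634) [nat_lit 450, nat_lit 120, nat_lit 450, nat_lit 240, nat_lit 120]) (.leaf (nat_lit 65539) [nat_lit 360, nat_lit 180, nat_lit 360, nat_lit 240]))
noncomputable def r216 : WT := (.node (nat_lit 64) (.leaf (nat_lit 337922) [nat_lit 300, nat_lit 210, nat_lit 120, nat_lit 300, nat_lit 120]) (.leaf (nat_lit 333832) [nat_lit 300, nat_lit 120, nat_lit 210, nat_lit 120, nat_lit 300]))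
noncomputable def r217 : WT := (.node (nat_lit 66) (.leaf (nat_lit 90117) [nat_lit 300, nat_lit 420, nat_lit 300, nat_lit 240]) (.leaf (nat_lit 335875) [nat_lit 120, nat_lit 300, nat_lit 210, nat_lit 120, nat_lit 300]))
noncomputable def r218 : WT := (.node (nat_lit 68) (.leaf (nat_lit 68615) [nat_lit 360, nat_lit 450, nat_lit 180, nat_lit 240]) (.node (nat_lit 69) (.leaf (nat_lit 144388) [nat_lit 450, nat_lit 270, nat_lit 210, nat_lit 450, nat_lit 270]) (.leaf (nat_lit 82951) [nat_lit 420, nat_lit 270, nat_lit 210, nat_lit 420])))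
noncomputable def r219 : WT := (.node (nat_lit 71) (.leaf (nat_lit 78853) [nat_lit 120, nat_lit 420, nat_lit 120, nat_lit 240]) (.node (nat_lit 72) (.leaf (nat_lit 299010) [nat_lit 150, nat_lit 330, nat_lit 240, nat_lit 150, nat_lit 270]) (.leaf (nat_lit 205831) [nat_lit 330, nat_lit 420, nat_lit 300, nat_lit 240, nat_lit 330])))
noncomputable def r220 : WT := (.node (nat_lit 75) (.node (nat_lit 74) (.leaf (nat_lit 175105) [nat_lit 60, nat_lit 330, nat_lit 240, nat_lit 60, nat_lit 420]) (.leaf (nat_lit 164868) [nat_lit 240, nat_lit 120, nat_lit 240, nat_lit 450, nat_lit 120])) (.node (nat_lit 76) (.leaf (nat_lit 123907) [nat_lit 300, nat_lit 270, nat_lit 420, nat_lit 420, nat_lit 300]) (.leaf (nat_lit 317450) [nat_lit 120, nat_lit 150, nat_lit 330, nat_lit 150, nat_lit 120])))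
noncomputable def r221 : WT := (.node (nat_lit 79) (.node (nat_lit 78) (.leaf (nat_lit 323588) [nat_lit 120, nat_lit 210, nat_lit 60, nat_lit 120, nat_lit 60]) (.leaf (nat_lit 154625) [nat_lit 120, nat_lit 270, nat_lit 420, nat_lit 120, nat_lit 420])) (.node (nat_lit 80) (.leaf (nat_lit 336906) [nat_lit 120, nat_lit 210, nat_lit 300, nat_lit 120, nat_lit 300]) (.leaf (nat_lit 220165) [nat_lit 300, nat_lit 270, nat_lit 420, nat_lit 300, nat_lit 420])))
noncomputable def r222 : WT := (.node (nat_lit 84) (.node (nat_lit 82) (.leaf (nat_lit 146436) [nat_lit 270, nat_lit 210, nat_lit 240, nat_lit 450, nat_lit 270]) (.node (nat_lit 83) (.leaf (nat_lit 71682) [nat_lit 180, nat_lit 240, nat_lit 420, nat_lit 390]) (.leaf (nat_lit 203785) [nat_lit 420, nat_lit 270, nat_lit 300, nat_lit 270, nat_lit 300]))) (.node (nat_lit 85) (.leaf (nat_lit 208902) [nat_lit 330, nat_lit 270, nat_lit 450, nat_lit 330, nat_lit 300]) (.node (nat_lit 86) (.leaf (nat_lit 216071) [nat_lit 270, nat_lit 420, nat_lit 300, nat_lit 420, nat_lit 300]) (.leaf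 (nat_lit 220166) [nat_lit 450, nat_lit 300, nat_lit 450, nat_lit 240, nat_lit 300]))))
noncomputable def r223 : WT := (.node (nat_lit 90) (.node (nat_lit 88) (.leaf (nat_lit 231428) [nat_lit 240, nat_lit 300, nat_lit 240, nat_lit 450, nat_lit 300]) (.node (nat_lit 89) (.leaf (nat_lit 179210) [nat_lit 450, nat_lit 60, nat_lit 330, nat_lit 60, nat_lit 420]) (.leaf (nat_lit 83970) [nat_lit 120, nat_lit 270, nat_lit 120, nat_lit 450]))) (.node (nat_lit 91) (.leaf (nat_lit 141322) [nat_lit 450, nat_lit 270, nat_lit 420, nat_lit 270, nat_lit 420]) (.node (nat_lit 92) (.leaf (nat_lit 144385) [nat_lit 240, nat_lit 420, nat_lit 210, nat_lit 240, nat_lit 420]) (.leaf (nat_lit 350217) [nat_lit 150, nat_lit 300, nat_lit 330, nat_lit 150, nat_lit 300]))))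
noncomputable def r224 : WT := (.node (nat_lit 97) (.node (nat_lit 95) (.node (nat_lit 94) (.leaf (nat_lit 123912) [nat_lit 300, nat_lit 450, nat_lit 450, nat_lit 240, nat_lit 300]) (.leaf (nat_lit 208901) [nat_lit 300, nat_lit 330, nat_lit 420, nat_lit 240, nat_lit 330])) (.node (nat_lit 96) (.leaf (nat_lit 334850) [nat_lit 330, nat_lit 120, nat_lit 330, nat_lit 210, nat_lit 120]) (.leaf (nat_lit 227334) [nat_lit 300, nat_lit 210, nat_lit 450, nat_lit 300, nat_lit 420]))) (.node (nat_lit 99) (.node (nat_lit 98) (.leaf (nat_lit 67590) [nat_lit 180, nat_lit 390, nat_lit 180, nat_lit 240]) (.leaf (nat_lit 188418) [nat_lit 120, nat_lit 240, nat_lit 120, nat_lit 240, nat_lit 450])) (.node (nat_lit 100) (.leaf (nat_lit 91141) [nat_lit 300, nat_lit 420, nat_lit 240, nat_lit 300]) (.leaf (nat_lit 276484) [nat_lit 240, nat_lit 60, nat_lit 330, nat_lit 270, nat_lit 60]))))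
noncomputable def r225 : WT := (.node (nat_lit 105) (.node (nat_lit 103) (.node (nat_lit 102) (.leaf (nat_lit 108549) [nat_lit 240, nat_lit 420, nat_lit 420, nat_lit 270, nat_lit 420]) (.leaf (nat_lit 89089) [nat_lit 270, nat_lit 210, nat_lit 270, nat_lit 420])) (.node (nat_lit 104) (.leaf (nat_lit 297986) [nat_lit 120, nat_lit 210, nat_lit 240, nat_lit 120, nat_lit 270]) (.leaf (nat_lit 79877) [nat_lit 120, nat_lit 420, nat_lit 240, nat_lit 120]))) (.node (nat_lit 107) (.node (nat_lit 106) (.leaf (nat_lit 301058) [nat_lit 300, nat_lit 210, nat_lit 240, nat_lit 300, nat_lit 270]) (.leaf (nat_lit 149508) [nat_lit 240, nat_lit 420, nat_lit 210, nat_lit 450, nat_lit 270])) (.node (nat_lit 108) (.leaf (nat_lit 336898) [nat_lit 300, nat_lit 120, nat_lit 300, nat_lit 210, nat_lit 120]) (.leaf (nat_lit 351234) [nat_lit 300, nat_lit 150, nat_lit 300, nat_lit 330, nat_lit 150]))))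
noncomputable def r226 : WT := (.node (nat_lit 114) (.node (nat_lit 111) (.node (nat_lit 110) (.leaf (nat_lit 84994) [nat_lit 150, nat_lit 270, nat_lit 150, nat_lit 450]) (.leaf (nat_lit 108550) [nat_lit 450, nat_lit 240, nat_lit 450, nat_lit 450, nat_lit 270])) (.node (nat_lit 112) (.leaf (nat_lit 82950) [nat_lit 240, nat_lit 450, nat_lit 210, nat_lit 450]) (.node (nat_lit 113) (.leaf (nat_lit 265222) [nat_lit 150, nat_lit 330, nat_lit 270, nat_lit 150, nat_lit 240]) (.leaf (nat_lit 82947) [nat_lit 420, nat_lit 210, nat_lit 420, nat_lit 270])))) (.node (nat_lit 116) (.node (nat_lit 115) (.leaf (nat_lit 89096) [nat_lit 450, nat_lit 240, nat_lit 210, nat_lit 240]) (.leaf (nat_lit 72705) [nat_lit 240, nat_lit 240, nat_lit 420, nat_lit 420])) (.node (nat_lit 117) (.leaf (nat_lit 323592) [nat_lit 60, nat_lit 120, nat_lit 60, nat_lit 210, nat_lit 120]) (.node (nat_lit 118) (.leaf (nat_lit 153601) [nat_lit 270, nat_lit 120, nat_lit 420, nat_lit 120, nat_lit 420]) (.leaf (nat_lit 159750) [nat_lit 120, nat_lit 210, nat_lit 450,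 nat_lit 120, nat_lit 420])))))
noncomputable def r227 : WT := (.node (nat_lit 125) (.node (nat_lit 122) (.node (nat_lit 120) (.leaf (nat_lit 205828) [nat_lit 330, nat_lit 270, nat_lit 300, nat_lit 450, nat_lit 330]) (.node (nat_lit 121) (.leaf (nat_lit 190470) [nat_lit 420, nat_lit 150, nat_lit 450, nat_lit 210, nat_lit 150]) (.leaf (nat_lit 146440) [nat_lit 240, nat_lit 450, nat_lit 270, nat_lit 210, nat_lit 270]))) (.node (nat_lit 123) (.leaf (nat_lit 82946) [nat_lit 450, nat_lit 210, nat_lit 240, nat_lit 450]) (.node (nat_lit 124) (.leaf (nat_lit 112643) [nat_lit 270, nat_lit 120, nat_lit 420, nat_lit 420, nat_lit 120]) (.leaf (nat_lit 297990) [nat_lit 240, nat_lit 120, nat_lit 270, nat_lit 210, nat_lit 120])))) (.node (nat_lit 129) (.node (nat_lit 127) (.node (nat_lit 126) (.leaf (nat_lit 171013) [nat_lit 330, nat_lit 150, nat_lit 420, nat_lit 150, nat_lit 450]) (.leaf (nat_lit 163844) [nat_lit 120, nat_lit 240, nat_lit 240, nat_lit 450, nat_lit 120])) (.node (nat_lit 128) (.leaf (nat_lit 349186) [nat_lit 330, nat_lit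 150, nat_lit 210, nat_lit 330, nat_lit 150]) (.leaf (nat_lit 159754) [nat_lit 450, nat_lit 120, nat_lit 420, nat_lit 210, nat_lit 120]))) (.node (nat_lit 131) (.node (nat_lit 130) (.leaf (nat_lit 191497) [nat_lit 420, nat_lit 270, nat_lit 150, nat_lit 270, nat_lit 150]) (.leaf (nat_lit 193538) [nat_lit 60, nat_lit 210, nat_lit 420, nat_lit 60, nat_lit 450])) (.node (nat_lit 132) (.leaf (nat_lit 193542) [nat_lit 420, nat_lit 60, nat_lit 450, nat_lit 210, nat_lit 60]) (.leaf (nat_lit 335874) [nat_lit 300, nat_lit 120, nat_lit 210, nat_lit 300, nat_lit 120])))))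
noncomputable def r228 : WT := (.node (nat_lit 136) (.leaf (nat_lit 337926) [nat_lit 120, nat_lit 300, nat_lit 120, nat_lit 210, nat_lit 300]) (.leaf (nat_lit 155656) [nat_lit 120, nat_lit 450, nat_lit 120, nat_lit 450, nat_lit 240]))
noncomputable def r229 : WT := (.node (nat_lit 138) (.leaf (nat_lit 120840) [nat_lit 120, nat_lit 450, nat_lit 450, nat_lit 240, nat_lit 120]) (.leaf (nat_lit 153610) [nat_lit 450, nat_lit 120, nat_lit 450, nat_lit 120, nat_lit 240]))
noncomputable def r230 : WT := (.node (nat_lit 141) (.leaf (nat_lit 146435) [nat_lit 240, nat_lit 210, nat_lit 240, nat_lit 420, nat_lit 270]) (.leaf (nat_lit 145412) [nat_lit 270, nat_lit 420, nat_lit 270, nat_lit 450, nat_lit 270]))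
noncomputable def r231 : WT := (.node (nat_lit 143) (.leaf (nat_lit 134154) [nat_lit 450, nat_lit 270, nat_lit 270, nat_lit 420, nat_lit 270]) (.leaf (nat_lit 351241) [nat_lit 150, nat_lit 330, nat_lit 300, nat_lit 150, nat_lit 300]))
noncomputable def r232 : WT := (.node (nat_lit 145) (.leaf (nat_lit 134145) [nat_lit 240, nat_lit 450, nat_lit 240, nat_lit 240, nat_lit 420]) (.leaf (nat_lit 72712) [nat_lit 450, nat_lit 450, nat_lit 270, nat_lit 270]))
noncomputable def r233 : WT := (.node (nat_lit 148) (.leaf (nat_lit 301062) [nat_lit 240, nat_lit 300, nat_lit 270, nat_lit 210, nat_lit 300]) (.leaf (nat_lit 299017) [nat_lit 240, nat_lit 150, nat_lit 270, nat_lit 330, nat_lit 150]))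
noncomputable def r234 : WT := (.node (nat_lit 150) (.leaf (nat_lit 112648) [nat_lit 120, nat_lit 450, nat_lit 450, nat_lit 120, nat_lit 240]) (.leaf (nat_lit 111626) [nat_lit 450, nat_lit 450, nat_lit 120, nat_lit 240, nat_lit 120]))
noncomputable def r235 : WT := (.node (nat_lit 152) (.leaf (nat_lit 184322) [nat_lit 270, nat_lit 270, nat_lit 270, nat_lit 270, nat_lit 450]) (.leaf (nat_lit 185346) [nat_lit 270, nat_lit 420, nat_lit 240, nat_lit 210, nat_lit 450]))
noncomputable def r236 : WT := (.node (nat_lit 154) (.leaf (nat_lit 189442) [nat_lit 120, nat_lit 240, nat_lit 240, nat_lit 120, nat_lit 450]) (.leaf (nat_lit 189449) [nat_lit 420, nat_lit 120, nat_lit 270, nat_lit 270, nat_lit 120]))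
noncomputable def r237 : WT := (.node (nat_lit 156) (.leaf (nat_lit 190466) [nat_lit 150, nat_lit 210, nat_lit 420, nat_lit 150, nat_lit 450]) (.leaf (nat_lit 191490) [nat_lit 150, nat_lit 240, nat_lit 150, nat_lit 240, nat_lit 450]))
noncomputable def r238 : WT := (.node (nat_lit 158) (.leaf (nat_lit 194562) [nat_lit 60, nat_lit 240, nat_lit 60, nat_lit 240, nat_lit 450]) (.leaf (nat_lit 207879) [nat_lit 330, nat_lit 420, nat_lit 240, nat_lit 330, nat_lit 300]))
noncomputable def r239 : WT := (.node (nat_lit 160) (.leaf (nat_lit 207876) [nat_lit 300, nat_lit 330, nat_lit 270, nat_lit 450, nat_lit 330]) (.leaf (nat_lit 194569) [nat_lit 420, nat_lit 270, nat_lit 60, nat_lit 270, nat_lit 60]))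
noncomputable def r240 : WT := (.node (nat_lit 146) (.node (nat_lit 139) (.node (nat_lit 135) (.node (nat_lit 134) (.leaf (nat_lit 141313) [nat_lit 450, nat_lit 240, nat_lit 450, nat_lit 240, nat_lit 420]) (.leaf (nat_lit 115713) [nat_lit 60, nat_lit 270, nat_lit 60, nat_lit 420, nat_lit 420])) (.node (nat_lit 137) r228 r229)) (.node (nat_lit 142) (.node (nat_lit 140) (.leaf (nat_lit 113665) [nat_lit 150, nat_lit 270, nat_lit 150, nat_lit 420, nat_lit 420]) r230) (.node (nat_lit 144) r231 r232))) (.node (nat_lit 153) (.node (nat_lit 149) (.node (nat_lit 147) (.leaf (nat_lit 87042) [nat_lit 180, nat_lit 240, nat_lit 180, nat_lit 450]) r233) (.node (nat_lit 151) r234 r235)) (.node (nat_lit 157) (.node (nat_lit 155) r236 r237) (.node (nat_lit 159) r238 r239))))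
noncomputable def r241 : WT := (.node (nat_lit 77) (.node (nat_lit 65) (.node (nat_lit 61) (.node (nat_lit 59) r213 r214) (.node (nat_lit 63) r215 r216)) (.node (nat_lit 70) (.node (nat_lit 67) r217 r218) (.node (nat_lit 73) r219 r220))) (.node (nat_lit 101) (.node (nat_lit 87) (.node (nat_lit 81) r221 r222) (.node (nat_lit 93) r223 r224)) (.node (nat_lit 119) (.node (nat_lit 109) r225 r226) (.node (nat_lit 133) r227 r240))))
noncomputable def r242 : WT := (.node (nat_lit 21) (.node (nat_lit 16) (.node (nat_lit 14) (.leaf (nat_lit 69634) [nat_lit 360, nat_lit 180, nat_lit 270, nat_lit 390]) (.node (nat_lit 15) (.leaf (nat_lit 89093) [nat_lit 270, nat_lit 420, nat_lit 210, nat_lit 270]) (.leaf (nat_lit 88071) [nat_lit 420, nat_lit 300, nat_lit 240, nat_lit 300]))) (.node (nat_lit 18) (.node (nat_lit 17) (.leaf (nat_lit 65542) [nat_lit 270, nat_lit 390, nat_lit 180, nat_lit 390]) (.leaf (nat_lit 55297) [nat_lit 270, nat_lit 360, nat_lit 420, nat_lit 360])) (.node (nat_lit 19) (.leaf (nat_lit 60422) [nat_lit 420, nat_lit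 390, nat_lit 270, nat_lit 390]) r202))) (.node (nat_lit 30) (.node (nat_lit 25) (.node (nat_lit 23) r203 r204) (.node (nat_lit 27) r205 r206)) (.node (nat_lit 41) (.node (nat_lit 34) r207 r208) (.node (nat_lit 57) r212 r241))))
noncomputable def w5 : WT := (.node (nat_lit 1) (.leaf (nat_lit 5120) [nat_lit 210]) (.node (nat_lit 3) (.node (nat_lit 2) (.leaf (nat_lit 44032) [nat_lit 300, nat_lit 210, nat_lit 300]) (.leaf (nat_lit 13315) [nat_lit 420, nat_lit 240])) (.node (nat_lit 8) (.node (nat_lit 5) r199 r200) (.node (nat_lit 13) r201 r242))))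
noncomputable def r243 : WT := (.node (nat_lit 5) (.leaf (nat_lit 25604) [nat_lit 240, nat_lit 450, nat_lit 210]) (.leaf (nat_lit 28676) [nat_lit 150, nat_lit 270, nat_lit 150]))
noncomputable def r244 : WT := (.node (nat_lit 7) (.leaf (nat_lit 172038) [nat_lit 150, nat_lit 240, nat_lit 450, nat_lit 150, nat_lit 330]) (.node (nat_lit 8) (.leaf (nat_lit 13313) [nat_lit 210, nat_lit 420]) (.leaf (nat_lit 22532) [nat_lit 210, nat_lit 450, nat_lit 450])))
noncomputable def r245 : WT := (.node (nat_lit 11) (.node (nat_lit 10) (.leaf (nat_lit 27652) [nat_lit 120, nat_lit 270, nat_lit 120]) (.leaf (nat_lit 62471) [nat_lit 360, nat_lit 180, nat_lit 210, nat_lit 180])) (.node (nat_lit 12) (.leaf (nat_lit 89094) [nat_lit 210, nat_lit 450, nat_lit 240, nat_lit 210]) (.node (nat_lit 13) (.leaf (nat_lit 16385) [nat_lit 360, nat_lit 240, nat_lit 360]) (.leaf (nat_lit 30724) [nat_lit 90, nat_lit 270, nat_lit 90]))))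
noncomputable def r246 : WT := (.node (nat_lit 21) (.leaf (nat_lit 92167) [nat_lit 240, nat_lit 120, nat_lit 240, nat_lit 120]) (.leaf (nat_lit 97287) [nat_lit 240, nat_lit 300, nat_lit 240, nat_lit 300]))
noncomputable def r247 : WT := (.node (nat_lit 23) (.leaf (nat_lit 299016) [nat_lit 150, nat_lit 270, nat_lit 210, nat_lit 150, nat_lit 330]) (.leaf (nat_lit 90115) [nat_lit 210, nat_lit 300, nat_lit 420, nat_lit 300]))
noncomputable def r248 : WT := (.node (nat_lit 25) (.leaf (nat_lit 304136) [nat_lit 300, nat_lit 270, nat_lit 330, nat_lit 300, nat_lit 330]) (.leaf (nat_lit 303112) [nat_lit 120, nat_lit 270, nat_lit 330, nat_lit 120, nat_lit 330]))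
noncomputable def r249 : WT := (.node (nat_lit 27) (.leaf (nat_lit 173062) [nat_lit 240, nat_lit 150, nat_lit 450, nat_lit 150, nat_lit 330]) (.node (nat_lit 28) (.leaf (nat_lit 164870) [nat_lit 120, nat_lit 240, nat_lit 450, nat_lit 120, nat_lit 210]) (.leaf (nat_lit 76806) [nat_lit 240, nat_lit 450, nat_lit 270, nat_lit 450])))
noncomputable def r250 : WT := (.node (nat_lit 30) (.leaf (nat_lit 67588) [nat_lit 210, nat_lit 180, nat_lit 390, nat_lit 180]) (.node (nat_lit 31) (.leaf (nat_lit 78851) [nat_lit 210, nat_lit 120, nat_lit 420, nat_lit 120]) (.leaf (nat_lit 69633) [nat_lit 180, nat_lit 390, nat_lit 210, nat_lit 360])))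
noncomputable def r251 : WT := (.node (nat_lit 35) (.node (nat_lit 33) (.leaf (nat_lit 299019) [nat_lit 150, nat_lit 270, nat_lit 330, nat_lit 150, nat_lit 210]) (.node (nat_lit 34) (.leaf (nat_lit 55302) [nat_lit 210, nat_lit 390, nat_lit 450, nat_lit 390]) (.leaf (nat_lit 231430) [nat_lit 300, nat_lit 240, nat_lit 450, nat_lit 300, nat_lit 210]))) (.node (nat_lit 36) (.leaf (nat_lit 61446) [nat_lit 240, nat_lit 390, nat_lit 270, nat_lit 390]) (.node (nat_lit 37) (.leaf (nat_lit 80899) [nat_lit 330, nat_lit 150, nat_lit 420, nat_lit 150]) (.leaf (nat_lit 245765) [nat_lit 180, nat_lit 120, nat_lit 240, nat_lit 180, nat_lit 150]))))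
noncomputable def r252 : WT := (.node (nat_lit 41) (.node (nat_lit 39) (.leaf (nat_lit 286727) [nat_lit 180, nat_lit 240, nat_lit 300, nat_lit 180, nat_lit 300]) (.node (nat_lit 40) (.leaf (nat_lit 64513) [nat_lit 210, nat_lit 180, nat_lit 450, nat_lit 360]) (.leaf (nat_lit 134151) [nat_lit 240, nat_lit 420, nat_lit 210, nat_lit 240, nat_lit 450]))) (.node (nat_lit 43) (.node (nat_lit 42) (.leaf (nat_lit 276486) [nat_lit 60, nat_lit 330, nat_lit 270, nat_lit 60, nat_lit 210]) (.leaf (nat_lit 96263) [nat_lit 240, nat_lit 180, nat_lit 270, nat_lit 180])) (.node (nat_lit 44) (.leaf (nat_lit 254982) [nat_lit 120, nat_lit 300, nat_lit 270, nat_lit 120, nat_lit 300]) (.node (nat_lit 45) (.leaf (nat_lit 268294) [nat_lit 150, nat_lit 300, nat_lit 270, nat_lit 150, nat_lit 300]) (.leaf (nat_lit 287749) [nat_lit 120, nat_lit 180, nat_lit 240, nat_lit 150, nat_lit 180])))))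
noncomputable def r253 : WT := (.node (nat_lit 58) (.leaf (nat_lit 258056) [nat_lit 90, nat_lit 270, nat_lit 150, nat_lit 90, nat_lit 150]) (.leaf (nat_lit 68613) [nat_lit 210, nat_lit 360, nat_lit 450, nat_lit 180]))
noncomputable def r254 : WT := (.node (nat_lit 61) (.leaf (nat_lit 241672) [nat_lit 60, nat_lit 270, nat_lit 120, nat_lit 60, nat_lit 120]) (.leaf (nat_lit 297992) [nat_lit 120, nat_lit 270, nat_lit 210, nat_lit 120, nat_lit 210]))
noncomputable def r255 : WT := (.node (nat_lit 52) (.node (nat_lit 49) (.node (nat_lit 47) (.leaf (nat_lit 144387) [nat_lit 420, nat_lit 210, nat_lit 240, nat_lit 420, nat_lit 210]) (.node (nat_lit 48) (.leaf (nat_lit 65537) [nat_lit 210, nat_lit 360, nat_lit 180, nat_lit 360]) (.leaf (nat_lit 287755) [nat_lit 150, nat_lit 180, nat_lit 240, nat_lit 120, nat_lit 180]))) (.node (nat_lit 50) (.leaf (nat_lit 77831) [nat_lit 420, nat_lit 270, nat_lit 210, nat_lit 450]) (.node (nat_lit 51) (.leaf (nat_lit 221192) [nat_lit 210, nat_lit 450, nat_lit 300, nat_lit 450, nat_lit 300]) (.leaf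 (nat_lit 154630) [nat_lit 120, nat_lit 210, nat_lit 450, nat_lit 120, nat_lit 450])))) (.node (nat_lit 56) (.node (nat_lit 54) (.node (nat_lit 53) (.leaf (nat_lit 267272) [nat_lit 300, nat_lit 270, nat_lit 150, nat_lit 300, nat_lit 150]) (.leaf (nat_lit 219138) [nat_lit 300, nat_lit 270, nat_lit 420, nat_lit 300, nat_lit 450])) (.node (nat_lit 55) (.leaf (nat_lit 71686) [nat_lit 420, nat_lit 390, nat_lit 210, nat_lit 180]) (.leaf (nat_lit 245771) [nat_lit 180, nat_lit 150, nat_lit 240, nat_lit 180, nat_lit 120]))) (.node (nat_lit 59) (.node (nat_lit 57) (.leaf (nat_lit 147465) [nat_lit 420, nat_lit 60, nat_lit 330, nat_lit 60, nat_lit 210]) r253) (.node (nat_lit 60) (.leaf (nat_lit 290821) [nat_lit 60, nat_lit 180, nat_lit 240, nat_lit 90, nat_lit 180]) r254))))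
noncomputable def r256 : WT := (.node (nat_lit 64) (.leaf (nat_lit 253960) [nat_lit 300, nat_lit 270, nat_lit 120, nat_lit 300, nat_lit 120]) (.leaf (nat_lit 146437) [nat_lit 210, nat_lit 240, nat_lit 420, nat_lit 270, nat_lit 210]))
noncomputable def r257 : WT := (.node (nat_lit 66) (.leaf (nat_lit 301064) [nat_lit 300, nat_lit 270, nat_lit 210, nat_lit 300, nat_lit 210]) (.leaf (nat_lit 247819) [nat_lit 180, nat_lit 240, nat_lit 150, nat_lit 180, nat_lit 120]))
noncomputable def r258 : WT := (.node (nat_lit 68) (.leaf (nat_lit 153608) [nat_lit 210, nat_lit 450, nat_lit 120, nat_lit 450, nat_lit 120]) (.leaf (nat_lit 262155) [nat_lit 180, nat_lit 240, nat_lit 120, nat_lit 180, nat_lit 150]))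
noncomputable def r259 : WT := (.node (nat_lit 70) (.leaf (nat_lit 25606) [nat_lit 450, nat_lit 210, nat_lit 240]) (.leaf (nat_lit 232456) [nat_lit 240, nat_lit 450, nat_lit 300, nat_lit 210, nat_lit 300]))
noncomputable def r260 : WT := (.node (nat_lit 72) (.leaf (nat_lit 94215) [nat_lit 240, nat_lit 60, nat_lit 240, nat_lit 60]) (.node (nat_lit 73) (.leaf (nat_lit 289800) [nat_lit 120, nat_lit 270, nat_lit 180, nat_lit 150, nat_lit 180]) (.leaf (nat_lit 177157) [nat_lit 330, nat_lit 60, nat_lit 420, nat_lit 60, nat_lit 330])))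
noncomputable def r261 : WT := (.node (nat_lit 75) (.leaf (nat_lit 23553) [nat_lit 420, nat_lit 240, nat_lit 420]) (.node (nat_lit 76) (.leaf (nat_lit 259078) [nat_lit 150, nat_lit 90, nat_lit 270, nat_lit 150, nat_lit 90]) (.leaf (nat_lit 272395) [nat_lit 180, nat_lit 90, nat_lit 240, nat_lit 180, nat_lit 60])))
noncomputable def r262 : WT := (.node (nat_lit 78) (.leaf (nat_lit 288776) [nat_lit 150, nat_lit 270, nat_lit 180, nat_lit 120, nat_lit 180]) (.node (nat_lit 79) (.leaf (nat_lit 181256) [nat_lit 60, nat_lit 450, nat_lit 60, nat_lit 240, nat_lit 330]) (.leaf (nat_lit 146441) [nat_lit 420, nat_lit 270, nat_lit 210, nat_lit 240, nat_lit 210])))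
noncomputable def r263 : WT := (.node (nat_lit 82) (.node (nat_lit 81) (.leaf (nat_lit 139273) [nat_lit 420, nat_lit 210, nat_lit 60, nat_lit 330, nat_lit 60]) (.leaf (nat_lit 214018) [nat_lit 60, nat_lit 330, nat_lit 240, nat_lit 60, nat_lit 450])) (.node (nat_lit 83) (.leaf (nat_lit 178186) [nat_lit 450, nat_lit 60, nat_lit 330, nat_lit 60, nat_lit 450]) (.leaf (nat_lit 306184) [nat_lit 150, nat_lit 270, nat_lit 300, nat_lit 150, nat_lit 300])))
noncomputable def r264 : WT := (.node (nat_lit 86) (.node (nat_lit 85) (.leaf (nat_lit 95239) [nat_lit 240, nat_lit 90, nat_lit 240, nat_lit 90]) (.leaf (nat_lit 70657) [nat_lit 420, nat_lit 180, nat_lit 210, nat_lit 360])) (.node (nat_lit 87) (.leaf (nat_lit 163848) [nat_lit 240, nat_lit 450, nat_lit 120, nat_lit 210, nat_lit 120]) (.leaf (nat_lit 240646) [nat_lit 150, nat_lit 120, nat_lit 270, nat_lit 120, nat_lit 150])))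
noncomputable def r265 : WT := (.node (nat_lit 90) (.node (nat_lit 89) (.leaf (nat_lit 282635) [nat_lit 180, nat_lit 240, nat_lit 60, nat_lit 180, nat_lit 90]) (.leaf (nat_lit 150531) [nat_lit 420, nat_lit 300, nat_lit 240, nat_lit 420, nat_lit 300])) (.node (nat_lit 91) (.leaf (nat_lit 211970) [nat_lit 120, nat_lit 270, nat_lit 420, nat_lit 120, nat_lit 450]) (.node (nat_lit 92) (.leaf (nat_lit 272389) [nat_lit 180, nat_lit 60, nat_lit 240, nat_lit 180, nat_lit 90]) (.leaf (nat_lit 172042) [nat_lit 450, nat_lit 150, nat_lit 330, nat_lit 240, nat_lit 150]))))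
noncomputable def r266 : WT := (.node (nat_lit 96) (.node (nat_lit 94) (.leaf (nat_lit 290827) [nat_lit 90, nat_lit 180, nat_lit 240, nat_lit 60, nat_lit 180]) (.node (nat_lit 95) (.leaf (nat_lit 205827) [nat_lit 330, nat_lit 210, nat_lit 330, nat_lit 420, nat_lit 300]) (.leaf (nat_lit 270344) [nat_lit 120, nat_lit 270, nat_lit 60, nat_lit 120, nat_lit 60]))) (.node (nat_lit 98) (.node (nat_lit 97) (.leaf (nat_lit 305160) [nat_lit 120, nat_lit 270, nat_lit 300, nat_lit 120, nat_lit 300]) (.leaf (nat_lit 60423) [nat_lit 360, nat_lit 450, nat_lit 210, nat_lit 360])) (.node (nat_lit 99) (.leaf (nat_lit 280584) [nat_lit 150, nat_lit 270, nat_lit 90, nat_lit 150, nat_lit 90]) (.leaf (nat_lit 274443) [nat_lit 180, nat_lit 240, nat_lit 90, nat_lit 180, nat_lit 60]))))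
noncomputable def r267 : WT := (.node (nat_lit 104) (.node (nat_lit 102) (.node (nat_lit 101) (.leaf (nat_lit 108551) [nat_lit 420, nat_lit 420, nat_lit 270, nat_lit 420, nat_lit 210]) (.leaf (nat_lit 231434) [nat_lit 450, nat_lit 300, nat_lit 210, nat_lit 240, nat_lit 300])) (.node (nat_lit 103) (.leaf (nat_lit 286731) [nat_lit 300, nat_lit 180, nat_lit 300, nat_lit 240, nat_lit 180]) (.leaf (nat_lit 88067) [nat_lit 300, nat_lit 210, nat_lit 420, nat_lit 300]))) (.node (nat_lit 106) (.node (nat_lit 105) (.leaf (nat_lit 293893) [nat_lit 300, nat_lit 180, nat_lit 240, nat_lit 300, nat_lit 180]) (.leaf (nat_lit 180228) [nat_lit 330, nat_lit 60, nat_lit 240, nat_lit 450, nat_lit 60])) (.node (nat_lit 107) (.leaf (nat_lit 220162) [nat_lit 300, nat_lit 210, nat_lit 450, nat_lit 300, nat_lit 450]) (.node (nat_lit 108) (.leaf (nat_lit 97283) [nat_lit 300, nat_lit 240, nat_lit 240, nat_lit 300]) (.leaf (nat_lit 285702) [nat_lit 300, nat_lit 90, nat_lit 270, nat_lit 90, nat_lit 300])))))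
noncomputable def r268 : WT := (.node (nat_lit 114) (.node (nat_lit 111) (.node (nat_lit 110) (.leaf (nat_lit 81921) [nat_lit 150, nat_lit 330, nat_lit 150, nat_lit 420]) (.leaf (nat_lit 141321) [nat_lit 420, nat_lit 210, nat_lit 450, nat_lit 240, nat_lit 450])) (.node (nat_lit 112) (.leaf (nat_lit 97289) [nat_lit 300, nat_lit 240, nat_lit 300, nat_lit 240]) (.node (nat_lit 113) (.leaf (nat_lit 275464) [nat_lit 330, nat_lit 270, nat_lit 60, nat_lit 210, nat_lit 60]) (.leaf (nat_lit 252932) [nat_lit 300, nat_lit 120, nat_lit 300, nat_lit 270, nat_lit 120])))) (.node (nat_lit 118) (.node (nat_lit 116) (.node (nat_lit 115) (.leaf (nat_lit 164874) [nat_lit 450, nat_lit 120, nat_lit 210, nat_lit 240, nat_lit 120]) (.leaf (nat_lit 261131) [nat_lit 150, nat_lit 180, nat_lit 240, nat_lit 180, nat_lit 150])) (.node (nat_lit 117) (.leaf (nat_lit 262147) [nat_lit 120, nat_lit 180, nat_lit 150, nat_lit 240, nat_lit 180]) (.leaf (nat_lit 125958) [nat_lit 210, nat_lit 300, nat_lit 450, nat_lit 450, nat_lit 300]))) (.node (nat_lit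 120) (.node (nat_lit 119) (.leaf (nat_lit 266244) [nat_lit 300, nat_lit 150, nat_lit 300, nat_lit 270, nat_lit 150]) (.leaf (nat_lit 271371) [nat_lit 60, nat_lit 90, nat_lit 270, nat_lit 90, nat_lit 60])) (.node (nat_lit 121) (.leaf (nat_lit 61448) [nat_lit 390, nat_lit 270, nat_lit 390, nat_lit 240]) (.leaf (nat_lit 72709) [nat_lit 420, nat_lit 420, nat_lit 210, nat_lit 240])))))
noncomputable def r269 : WT := (.node (nat_lit 138) (.leaf (nat_lit 214024) [nat_lit 60, nat_lit 450, nat_lit 240, nat_lit 60, nat_lit 330]) (.leaf (nat_lit 242699) [nat_lit 60, nat_lit 120, nat_lit 270, nat_lit 60, nat_lit 120]))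
noncomputable def r270 : WT := (.node (nat_lit 130) (.node (nat_lit 126) (.node (nat_lit 124) (.node (nat_lit 123) (.leaf (nat_lit 279558) [nat_lit 300, nat_lit 60, nat_lit 270, nat_lit 60, nat_lit 300]) (.leaf (nat_lit 79873) [nat_lit 120, nat_lit 210, nat_lit 120, nat_lit 420])) (.node (nat_lit 125) (.leaf (nat_lit 173064) [nat_lit 150, nat_lit 450, nat_lit 150, nat_lit 330, nat_lit 240]) (.leaf (nat_lit 96262) [nat_lit 180, nat_lit 270, nat_lit 270, nat_lit 180]))) (.node (nat_lit 128) (.node (nat_lit 127) (.leaf (nat_lit 169994) [nat_lit 450, nat_lit 150, nat_lit 330, nat_lit 150, nat_lit 240]) (.leaf (nat_lit 148490) [nat_lit 450, nat_lit 270, nat_lit 210, nat_lit 240, nat_lit 450])) (.node (nat_lit 129) (.leaf (nat_lit 224266) [nat_lit 450, nat_lit 300, nat_lit 420, nat_lit 270, nat_lit 300]) (.leaf (nat_lit 240651) [nat_lit 120, nat_lit 150, nat_lit 270, nat_lit 150, nat_lit 120])))) (.node (nat_lit 134) (.node (nat_lit 132) (.node (nat_lit 131) (.leaf (nat_lit 242694) [nat_lit 120, nat_lit 60, nat_lit 270, nat_lit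 120, nat_lit 60]) (.leaf (nat_lit 257035) [nat_lit 150, nat_lit 60, nat_lit 270, nat_lit 60, nat_lit 150])) (.node (nat_lit 133) (.leaf (nat_lit 141317) [nat_lit 450, nat_lit 240, nat_lit 420, nat_lit 210, nat_lit 450]) (.leaf (nat_lit 140298) [nat_lit 450, nat_lit 270, nat_lit 420, nat_lit 270, nat_lit 450]))) (.node (nat_lit 136) (.node (nat_lit 135) (.leaf (nat_lit 157706) [nat_lit 450, nat_lit 120, nat_lit 420, nat_lit 270, nat_lit 120]) (.leaf (nat_lit 247811) [nat_lit 150, nat_lit 180, nat_lit 120, nat_lit 240, nat_lit 180])) (.node (nat_lit 137) (.leaf (nat_lit 254987) [nat_lit 300, nat_lit 120, nat_lit 270, nat_lit 300, nat_lit 120]) r269))))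
noncomputable def r271 : WT := (.node (nat_lit 140) (.leaf (nat_lit 165896) [nat_lit 120, nat_lit 450, nat_lit 120, nat_lit 210, nat_lit 240]) (.leaf (nat_lit 180234) [nat_lit 450, nat_lit 60, nat_lit 240, nat_lit 330, nat_lit 60]))
noncomputable def r272 : WT := (.node (nat_lit 142) (.leaf (nat_lit 61447) [nat_lit 360, nat_lit 270, nat_lit 270, nat_lit 360]) (.leaf (nat_lit 181252) [nat_lit 330, nat_lit 240, nat_lit 60, nat_lit 450, nat_lit 60]))
noncomputable def r273 : WT := (.node (nat_lit 144) (.leaf (nat_lit 192518) [nat_lit 240, nat_lit 150, nat_lit 450, nat_lit 210, nat_lit 150]) (.leaf (nat_lit 149510) [nat_lit 420, nat_lit 210, nat_lit 450, nat_lit 270, nat_lit 210]))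
noncomputable def r274 : WT := (.node (nat_lit 146) (.leaf (nat_lit 202758) [nat_lit 240, nat_lit 300, nat_lit 450, nat_lit 210, nat_lit 300]) (.leaf (nat_lit 94211) [nat_lit 60, nat_lit 240, nat_lit 240, nat_lit 60]))
noncomputable def r275 : WT := (.node (nat_lit 148) (.leaf (nat_lit 93193) [nat_lit 150, nat_lit 240, nat_lit 150, nat_lit 240]) (.leaf (nat_lit 300036) [nat_lit 60, nat_lit 330, nat_lit 60, nat_lit 270, nat_lit 210]))
noncomputable def r276 : WT := (.node (nat_lit 150) (.leaf (nat_lit 200712) [nat_lit 300, nat_lit 450, nat_lit 210, nat_lit 240, nat_lit 300]) (.leaf (nat_lit 206849) [nat_lit 300, nat_lit 330, nat_lit 210, nat_lit 330, nat_lit 420]))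
noncomputable def r277 : WT := (.node (nat_lit 152) (.leaf (nat_lit 203782) [nat_lit 300, nat_lit 240, nat_lit 450, nat_lit 210, nat_lit 300]) (.leaf (nat_lit 83971) [nat_lit 120, nat_lit 210, nat_lit 420, nat_lit 120]))
noncomputable def r278 : WT := (.node (nat_lit 154) (.leaf (nat_lit 116741) [nat_lit 210, nat_lit 420, nat_lit 420, nat_lit 240, nat_lit 210]) (.leaf (nat_lit 134147) [nat_lit 450, nat_lit 240, nat_lit 240, nat_lit 420, nat_lit 210]))
noncomputable def r279 : WT := (.node (nat_lit 156) (.leaf (nat_lit 133129) [nat_lit 420, nat_lit 240, nat_lit 210, nat_lit 240, nat_lit 240]) (.leaf (nat_lit 259083) [nat_lit 90, nat_lit 150, nat_lit 270, nat_lit 90, nat_lit 150]))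
noncomputable def r280 : WT := (.node (nat_lit 158) (.leaf (nat_lit 260107) [nat_lit 150, nat_lit 90, nat_lit 270, nat_lit 90, nat_lit 150]) (.leaf (nat_lit 257030) [nat_lit 60, nat_lit 150, nat_lit 270, nat_lit 150, nat_lit 60]))
noncomputable def r281 : WT := (.node (nat_lit 160) (.leaf (nat_lit 135177) [nat_lit 420, nat_lit 210, nat_lit 270, nat_lit 210, nat_lit 240]) (.leaf (nat_lit 265220) [nat_lit 210, nat_lit 150, nat_lit 330, nat_lit 270, nat_lit 150]))
noncomputable def r282 : WT := (.node (nat_lit 162) (.leaf (nat_lit 136195) [nat_lit 420, nat_lit 120, nat_lit 240, nat_lit 420, nat_lit 120]) (.leaf (nat_lit 148486) [nat_lit 450, nat_lit 240, nat_lit 450, nat_lit 270, nat_lit 210]))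
noncomputable def r283 : WT := (.node (nat_lit 164) (.leaf (nat_lit 249860) [nat_lit 180, nat_lit 150, nat_lit 180, nat_lit 270, nat_lit 120]) (.leaf (nat_lit 138246) [nat_lit 420, nat_lit 120, nat_lit 450, nat_lit 270, nat_lit 120]))
noncomputable def r284 : WT := (.node (nat_lit 166) (.leaf (nat_lit 271366) [nat_lit 90, nat_lit 60, nat_lit 270, nat_lit 60, nat_lit 90]) (.leaf (nat_lit 246795) [nat_lit 120, nat_lit 180, nat_lit 240, nat_lit 180, nat_lit 120]))
noncomputable def r285 : WT := (.node (nat_lit 168) (.leaf (nat_lit 104451) [nat_lit 240, nat_lit 420, nat_lit 420, nat_lit 420, nat_lit 240]) (.leaf (nat_lit 273413) [nat_lit 180, nat_lit 60, nat_lit 240, nat_lit 60, nat_lit 180]))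
noncomputable def r286 : WT := (.node (nat_lit 170) (.leaf (nat_lit 273419) [nat_lit 60, nat_lit 180, nat_lit 240, nat_lit 180, nat_lit 60]) (.leaf (nat_lit 246789) [nat_lit 180, nat_lit 120, nat_lit 240, nat_lit 120, nat_lit 180]))
noncomputable def r287 : WT := (.node (nat_lit 155) (.node (nat_lit 147) (.node (nat_lit 143) (.node (nat_lit 141) r271 r272) (.node (nat_lit 145) r273 r274)) (.node (nat_lit 151) (.node (nat_lit 149) r275 r276) (.node (nat_lit 153) r277 r278))) (.node (nat_lit 163) (.node (nat_lit 159) (.node (nat_lit 157) r279 r280) (.node (nat_lit 161) r281 r282)) (.node (nat_lit 167) (.node (nat_lit 165) r283 r284) (.node (nat_lit 169) r285 r286))))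
noncomputable def r288 : WT := (.node (nat_lit 80) (.node (nat_lit 69) (.node (nat_lit 65) (.node (nat_lit 63) (.leaf (nat_lit 169992) [nat_lit 240, nat_lit 450, nat_lit 150, nat_lit 330, nat_lit 150]) r256) (.node (nat_lit 67) r257 r258)) (.node (nat_lit 74) (.node (nat_lit 71) r259 r260) (.node (nat_lit 77) r261 r262))) (.node (nat_lit 100) (.node (nat_lit 88) (.node (nat_lit 84) r263 r264) (.node (nat_lit 93) r265 r266)) (.node (nat_lit 122) (.node (nat_lit 109) r267 r268) (.node (nat_lit 139) r270 r287))))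
noncomputable def r289 : WT := (.node (nat_lit 22) (.node (nat_lit 17) (.node (nat_lit 15) (.leaf (nat_lit 29700) [nat_lit 60, nat_lit 270, nat_lit 60]) (.node (nat_lit 16) (.leaf (nat_lit 175111) [nat_lit 60, nat_lit 420, nat_lit 210, nat_lit 60, nat_lit 330]) (.leaf (nat_lit 302083) [nat_lit 330, nat_lit 240, nat_lit 330, nat_lit 240, nat_lit 330]))) (.node (nat_lit 19) (.node (nat_lit 18) (.leaf (nat_lit 77832) [nat_lit 450, nat_lit 270, nat_lit 420, nat_lit 210]) (.leaf (nat_lit 93191) [nat_lit 240, nat_lit 150, nat_lit 240, nat_lit 150])) (.node (nat_lit 20) (.leaf (nat_lit 52228) [nat_lit 360, nat_lit 240, nat_lit 390, nat_lit 390]) r246))) (.node (nat_lit 32) (.node (nat_lit 26) (.node (nat_lit 24) r247 r248) (.node (nat_lit 29) r249 r250)) (.node (nat_lit 46) (.node (nat_lit 38) r251 r252) (.node (nat_lit 62) r255 r288))))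
noncomputable def w6 : WT := (.node (nat_lit 1) (.leaf (nat_lit 6144) [nat_lit 270]) (.node (nat_lit 4) (.node (nat_lit 2) (.leaf (nat_lit 32772) [nat_lit 300, nat_lit 270, nat_lit 300]) (.node (nat_lit 3) (.leaf (nat_lit 31747) [nat_lit 180, nat_lit 240, nat_lit 180]) (.leaf (nat_lit 14337) [nat_lit 240, nat_lit 240]))) (.node (nat_lit 9) (.node (nat_lit 6) r243 r244) (.node (nat_lit 14) r245 r289))))
noncomputable def r290 : WT := (.node (nat_lit 6) (.leaf (nat_lit 28672) [nat_lit 150, nat_lit 240, nat_lit 150]) (.leaf (nat_lit 80902) [nat_lit 150, nat_lit 450, nat_lit 150, nat_lit 330]))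
noncomputable def r291 : WT := (.node (nat_lit 8) (.leaf (nat_lit 27648) [nat_lit 120, nat_lit 240, nat_lit 120]) (.node (nat_lit 10) (.node (nat_lit 9) (.leaf (nat_lit 23554) [nat_lit 450, nat_lit 270, nat_lit 450]) (.leaf (nat_lit 70664) [nat_lit 390, nat_lit 210, nat_lit 180, nat_lit 450])) (.node (nat_lit 11) (.leaf (nat_lit 30720) [nat_lit 90, nat_lit 240, nat_lit 90]) (.leaf (nat_lit 29696) [nat_lit 60, nat_lit 240, nat_lit 60]))))
noncomputable def r292 : WT := (.node (nat_lit 21) (.leaf (nat_lit 69640) [nat_lit 390, nat_lit 210, nat_lit 360, nat_lit 180]) (.leaf (nat_lit 61441) [nat_lit 270, nat_lit 360, nat_lit 240, nat_lit 360]))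
noncomputable def r293 : WT := (.node (nat_lit 23) (.leaf (nat_lit 74753) [nat_lit 450, nat_lit 270, nat_lit 420, nat_lit 420]) (.leaf (nat_lit 72708) [nat_lit 270, nat_lit 210, nat_lit 450, nat_lit 450]))
noncomputable def r294 : WT := (.node (nat_lit 25) (.leaf (nat_lit 180231) [nat_lit 60, nat_lit 420, nat_lit 270, nat_lit 60, nat_lit 330]) (.leaf (nat_lit 251904) [nat_lit 120, nat_lit 240, nat_lit 330, nat_lit 120, nat_lit 330]))
noncomputable def r295 : WT := (.node (nat_lit 27) (.leaf (nat_lit 245766) [nat_lit 150, nat_lit 180, nat_lit 270, nat_lit 120, nat_lit 180]) (.node (nat_lit 28) (.leaf (nat_lit 302080) [nat_lit 330, nat_lit 270, nat_lit 330, nat_lit 270, nat_lit 330]) (.leaf (nat_lit 97280) [nat_lit 270, nat_lit 300, nat_lit 270, nat_lit 300])))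
noncomputable def r296 : WT := (.node (nat_lit 32) (.node (nat_lit 30) (.leaf (nat_lit 245760) [nat_lit 120, nat_lit 180, nat_lit 270, nat_lit 150, nat_lit 180]) (.node (nat_lit 31) (.leaf (nat_lit 312320) [nat_lit 300, nat_lit 240, nat_lit 330, nat_lit 300, nat_lit 330]) (.leaf (nat_lit 77825) [nat_lit 210, nat_lit 450, nat_lit 240, nat_lit 420]))) (.node (nat_lit 33) (.leaf (nat_lit 207882) [nat_lit 450, nat_lit 330, nat_lit 210, nat_lit 300, nat_lit 330]) (.node (nat_lit 34) (.leaf (nat_lit 81928) [nat_lit 450, nat_lit 150, nat_lit 330, nat_lit 150]) (.leaf (nat_lit 249856) [nat_lit 120, nat_lit 240, nat_lit 180, nat_lit 150, nat_lit 180]))))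
noncomputable def r297 : WT := (.node (nat_lit 49) (.leaf (nat_lit 264192) [nat_lit 150, nat_lit 240, nat_lit 180, nat_lit 120, nat_lit 180]) (.leaf (nat_lit 52229) [nat_lit 360, nat_lit 360, nat_lit 270, nat_lit 390]))
noncomputable def r298 : WT := (.node (nat_lit 41) (.node (nat_lit 38) (.node (nat_lit 36) (.leaf (nat_lit 247816) [nat_lit 180, nat_lit 270, nat_lit 120, nat_lit 180, nat_lit 150]) (.node (nat_lit 37) (.leaf (nat_lit 22531) [nat_lit 420, nat_lit 420, nat_lit 210]) (.leaf (nat_lit 79880) [nat_lit 450, nat_lit 120, nat_lit 210, nat_lit 120]))) (.node (nat_lit 39) (.leaf (nat_lit 266240) [nat_lit 150, nat_lit 240, nat_lit 300, nat_lit 150, nat_lit 300]) (.node (nat_lit 40) (.leaf (nat_lit 252928) [nat_lit 120, nat_lit 240, nat_lit 300, nat_lit 120, nat_lit 300]) (.leaf (nat_lit 77826) [nat_lit 420, nat_lit 210, nat_lit 240, nat_lit 450])))) (.node (nat_lit 45) (.node (nat_lit 43) (.node (nat_lit 42) (.leaf (nat_lit 93184) [nat_lit 270, nat_lit 150, nat_lit 270, nat_lit 150]) (.leaf (nat_lit 307200) [nat_lit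 300, nat_lit 180, nat_lit 270, nat_lit 300, nat_lit 180])) (.node (nat_lit 44) (.leaf (nat_lit 286720) [nat_lit 180, nat_lit 270, nat_lit 300, nat_lit 180, nat_lit 300]) (.leaf (nat_lit 272390) [nat_lit 90, nat_lit 180, nat_lit 270, nat_lit 60, nat_lit 180]))) (.node (nat_lit 47) (.node (nat_lit 46) (.leaf (nat_lit 272384) [nat_lit 60, nat_lit 180, nat_lit 270, nat_lit 90, nat_lit 180]) (.leaf (nat_lit 310272) [nat_lit 300, nat_lit 240, nat_lit 180, nat_lit 300, nat_lit 180])) (.node (nat_lit 48) (.leaf (nat_lit 259077) [nat_lit 90, nat_lit 150, nat_lit 240, nat_lit 90, nat_lit 150]) r297))))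
noncomputable def r299 : WT := (.node (nat_lit 52) (.leaf (nat_lit 262152) [nat_lit 180, nat_lit 270, nat_lit 150, nat_lit 180, nat_lit 120]) (.leaf (nat_lit 92160) [nat_lit 270, nat_lit 120, nat_lit 270, nat_lit 120]))
noncomputable def r300 : WT := (.node (nat_lit 55) (.leaf (nat_lit 242693) [nat_lit 60, nat_lit 120, nat_lit 240, nat_lit 60, nat_lit 120]) (.leaf (nat_lit 268293) [nat_lit 300, nat_lit 150, nat_lit 240, nat_lit 300, nat_lit 150]))
noncomputable def r301 : WT := (.node (nat_lit 57) (.leaf (nat_lit 96258) [nat_lit 180, nat_lit 240, nat_lit 180, nat_lit 270]) (.leaf (nat_lit 108545) [nat_lit 420, nat_lit 210, nat_lit 240, nat_lit 420, nat_lit 420]))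
noncomputable def r302 : WT := (.node (nat_lit 59) (.leaf (nat_lit 165891) [nat_lit 270, nat_lit 210, nat_lit 120, nat_lit 420, nat_lit 120]) (.node (nat_lit 60) (.leaf (nat_lit 308224) [nat_lit 300, nat_lit 240, nat_lit 120, nat_lit 300, nat_lit 120]) (.leaf (nat_lit 172037) [nat_lit 330, nat_lit 150, nat_lit 420, nat_lit 270, nat_lit 150])))
noncomputable def r303 : WT := (.node (nat_lit 62) (.leaf (nat_lit 76803) [nat_lit 420, nat_lit 240, nat_lit 420, nat_lit 270]) (.node (nat_lit 63) (.leaf (nat_lit 108548) [nat_lit 210, nat_lit 450, nat_lit 240, nat_lit 450, nat_lit 450]) (.leaf (nat_lit 220169) [nat_lit 420, nat_lit 300, nat_lit 420, nat_lit 210, nat_lit 300])))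
noncomputable def r304 : WT := (.node (nat_lit 66) (.node (nat_lit 65) (.leaf (nat_lit 154629) [nat_lit 420, nat_lit 120, nat_lit 420, nat_lit 210, nat_lit 120]) (.leaf (nat_lit 151562) [nat_lit 450, nat_lit 270, nat_lit 300, nat_lit 450, nat_lit 300])) (.node (nat_lit 67) (.leaf (nat_lit 94208) [nat_lit 270, nat_lit 60, nat_lit 270, nat_lit 60]) (.leaf (nat_lit 208906) [nat_lit 450, nat_lit 330, nat_lit 300, nat_lit 210, nat_lit 330])))
noncomputable def r305 : WT := (.node (nat_lit 70) (.node (nat_lit 69) (.leaf (nat_lit 173059) [nat_lit 270, nat_lit 330, nat_lit 150, nat_lit 420, nat_lit 150]) (.leaf (nat_lit 157702) [nat_lit 120, nat_lit 240, nat_lit 450, nat_lit 120, nat_lit 420])) (.node (nat_lit 71) (.leaf (nat_lit 88070) [nat_lit 300, nat_lit 450, nat_lit 210, nat_lit 300]) (.leaf (nat_lit 67589) [nat_lit 180, nat_lit 360, nat_lit 180, nat_lit 210])))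
noncomputable def r306 : WT := (.node (nat_lit 74) (.node (nat_lit 73) (.leaf (nat_lit 136194) [nat_lit 120, nat_lit 450, nat_lit 270, nat_lit 120, nat_lit 450]) (.leaf (nat_lit 164869) [nat_lit 210, nat_lit 120, nat_lit 420, nat_lit 270, nat_lit 120])) (.node (nat_lit 75) (.leaf (nat_lit 181255) [nat_lit 60, nat_lit 420, nat_lit 60, nat_lit 270, nat_lit 330]) (.node (nat_lit 76) (.leaf (nat_lit 213001) [nat_lit 420, nat_lit 270, nat_lit 60, nat_lit 330, nat_lit 60]) (.leaf (nat_lit 172033) [nat_lit 150, nat_lit 270, nat_lit 330, nat_lit 150, nat_lit 420]))))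
noncomputable def r307 : WT := (.node (nat_lit 80) (.node (nat_lit 78) (.leaf (nat_lit 25603) [nat_lit 210, nat_lit 420, nat_lit 270]) (.node (nat_lit 79) (.leaf (nat_lit 95232) [nat_lit 270, nat_lit 90, nat_lit 270, nat_lit 90]) (.leaf (nat_lit 97286) [nat_lit 300, nat_lit 270, nat_lit 270, nat_lit 300]))) (.node (nat_lit 81) (.leaf (nat_lit 274440) [nat_lit 180, nat_lit 270, nat_lit 60, nat_lit 180, nat_lit 90]) (.node (nat_lit 82) (.leaf (nat_lit 137226) [nat_lit 450, nat_lit 270, nat_lit 120, nat_lit 450, nat_lit 120]) (.leaf (nat_lit 254981) [nat_lit 300, nat_lit 120, nat_lit 240, nat_lit 300, nat_lit 120]))))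
noncomputable def r308 : WT := (.node (nat_lit 86) (.node (nat_lit 84) (.leaf (nat_lit 254976) [nat_lit 120, nat_lit 300, nat_lit 240, nat_lit 120, nat_lit 300]) (.node (nat_lit 85) (.leaf (nat_lit 68612) [nat_lit 180, nat_lit 420, nat_lit 390, nat_lit 210]) (.leaf (nat_lit 275456) [nat_lit 60, nat_lit 210, nat_lit 60, nat_lit 240, nat_lit 330]))) (.node (nat_lit 88) (.node (nat_lit 87) (.leaf (nat_lit 267264) [nat_lit 150, nat_lit 300, nat_lit 150, nat_lit 240, nat_lit 300]) (.leaf (nat_lit 55299) [nat_lit 360, nat_lit 420, nat_lit 360, nat_lit 210])) (.node (nat_lit 89) (.leaf (nat_lit 276485) [nat_lit 210, nat_lit 60, nat_lit 240, nat_lit 330, nat_lit 60]) (.leaf (nat_lit 206858) [nat_lit 450, nat_lit 330, nat_lit 210, nat_lit 330, nat_lit 300]))))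
noncomputable def r309 : WT := (.node (nat_lit 95) (.node (nat_lit 92) (.node (nat_lit 91) (.leaf (nat_lit 248832) [nat_lit 120, nat_lit 240, nat_lit 60, nat_lit 120, nat_lit 60]) (.leaf (nat_lit 233482) [nat_lit 450, nat_lit 300, nat_lit 330, nat_lit 210, nat_lit 330])) (.node (nat_lit 93) (.leaf (nat_lit 287750) [nat_lit 180, nat_lit 150, nat_lit 270, nat_lit 180, nat_lit 120]) (.node (nat_lit 94) (.leaf (nat_lit 240645) [nat_lit 150, nat_lit 120, nat_lit 240, nat_lit 120, nat_lit 150]) (.leaf (nat_lit 113669) [nat_lit 150, nat_lit 420, nat_lit 420, nat_lit 210, nat_lit 150])))) (.node (nat_lit 97) (.node (nat_lit 96) (.leaf (nat_lit 299008) [nat_lit 210, nat_lit 150, nat_lit 330, nat_lit 240, nat_lit 150]) (.leaf (nat_lit 268288) [nat_lit 150, nat_lit 300, nat_lit 240, nat_lit 150, nat_lit 300])) (.node (nat_lit 98) (.leaf (nat_lit 147458) [nat_lit 210, nat_lit 60, nat_lit 330, nat_lit 60, nat_lit 450]) (.node (nat_lit 99) (.leaf (nat_lit 253952) [nat_lit 120, nat_lit 300, nat_lit 120, nat_lit 240, nat_lit 300]) (.leaf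 (nat_lit 287744) [nat_lit 180, nat_lit 120, nat_lit 270, nat_lit 180, nat_lit 150])))))
noncomputable def r310 : WT := (.node (nat_lit 106) (.node (nat_lit 103) (.node (nat_lit 101) (.leaf (nat_lit 230403) [nat_lit 270, nat_lit 210, nat_lit 300, nat_lit 420, nat_lit 300]) (.node (nat_lit 102) (.leaf (nat_lit 263168) [nat_lit 150, nat_lit 240, nat_lit 90, nat_lit 150, nat_lit 90]) (.leaf (nat_lit 240640) [nat_lit 120, nat_lit 150, nat_lit 240, nat_lit 150, nat_lit 120]))) (.node (nat_lit 104) (.leaf (nat_lit 259072) [nat_lit 150, nat_lit 90, nat_lit 240, nat_lit 150, nat_lit 90]) (.node (nat_lit 105) (.leaf (nat_lit 282632) [nat_lit 180, nat_lit 270, nat_lit 90, nat_lit 180, nat_lit 60]) (.leaf (nat_lit 125957) [nat_lit 300, nat_lit 420, nat_lit 420, nat_lit 300, nat_lit 210])))) (.node (nat_lit 109) (.node (nat_lit 107) (.leaf (nat_lit 65544) [nat_lit 390, nat_lit 180, nat_lit 390, nat_lit 210]) (.node (nat_lit 108) (.leaf (nat_lit 128002) [nat_lit 450, nat_lit 120, nat_lit 270, nat_lit 120, nat_lit 450]) (.leaf (nat_lit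 164865) [nat_lit 120, nat_lit 270, nat_lit 210, nat_lit 120, nat_lit 420]))) (.node (nat_lit 110) (.leaf (nat_lit 144386) [nat_lit 210, nat_lit 450, nat_lit 270, nat_lit 210, nat_lit 450]) (.node (nat_lit 111) (.leaf (nat_lit 78854) [nat_lit 120, nat_lit 450, nat_lit 120, nat_lit 210]) (.leaf (nat_lit 214025) [nat_lit 420, nat_lit 60, nat_lit 270, nat_lit 330, nat_lit 60])))))
noncomputable def r311 : WT := (.node (nat_lit 120) (.leaf (nat_lit 258048) [nat_lit 150, nat_lit 90, nat_lit 150, nat_lit 240, nat_lit 90]) (.leaf (nat_lit 140290) [nat_lit 420, nat_lit 270, nat_lit 450, nat_lit 240, nat_lit 450]))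
noncomputable def r312 : WT := (.node (nat_lit 125) (.leaf (nat_lit 231429) [nat_lit 210, nat_lit 300, nat_lit 420, nat_lit 270, nat_lit 300]) (.leaf (nat_lit 297984) [nat_lit 210, nat_lit 120, nat_lit 210, nat_lit 240, nat_lit 120]))
noncomputable def r313 : WT := (.node (nat_lit 130) (.leaf (nat_lit 285701) [nat_lit 300, nat_lit 90, nat_lit 240, nat_lit 90, nat_lit 300]) (.leaf (nat_lit 89091) [nat_lit 210, nat_lit 270, nat_lit 420, nat_lit 210]))
noncomputable def r314 : WT := (.node (nat_lit 121) (.node (nat_lit 116) (.node (nat_lit 114) (.node (nat_lit 113) (.leaf (nat_lit 74757) [nat_lit 420, nat_lit 420, nat_lit 270, nat_lit 450]) (.leaf (nat_lit 150530) [nat_lit 300, nat_lit 450, nat_lit 270, nat_lit 300, nat_lit 450])) (.node (nat_lit 115) (.leaf (nat_lit 231425) [nat_lit 300, nat_lit 270, nat_lit 210, nat_lit 300, nat_lit 420]) (.leaf (nat_lit 152578) [nat_lit 300, nat_lit 240, nat_lit 420, nat_lit 300, nat_lit 450]))) (.node (nat_lit 118) (.node (nat_lit 117) (.leaf (nat_lit 279557) [nat_lit 300, nat_lit 60,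 nat_lit 240, nat_lit 60, nat_lit 300]) (.leaf (nat_lit 153603) [nat_lit 120, nat_lit 420, nat_lit 120, nat_lit 420, nat_lit 210])) (.node (nat_lit 119) (.leaf (nat_lit 163843) [nat_lit 120, nat_lit 210, nat_lit 120, nat_lit 420, nat_lit 270]) r311))) (.node (nat_lit 126) (.node (nat_lit 123) (.node (nat_lit 122) (.leaf (nat_lit 72710) [nat_lit 210, nat_lit 450, nat_lit 450, nat_lit 270]) (.leaf (nat_lit 131074) [nat_lit 450, nat_lit 240, nat_lit 450, nat_lit 210, nat_lit 450])) (.node (nat_lit 124) (.leaf (nat_lit 139266) [nat_lit 60, nat_lit 330, nat_lit 60, nat_lit 210, nat_lit 450]) r312)) (.node (nat_lit 128) (.node (nat_lit 127) (.leaf (nat_lit 290816) [nat_lit 180, nat_lit 60, nat_lit 270, nat_lit 180, nat_lit 90]) (.leaf (nat_lit 247808) [nat_lit 120, nat_lit 180, nat_lit 150, nat_lit 270, nat_lit 180])) (.node (nat_lit 129) (.leaf (nat_lit 246784) [nat_lit 120, nat_lit 180, nat_lit 270, nat_lit 180, nat_lit 120]) r313))))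
noncomputable def r315 : WT := (.node (nat_lit 133) (.leaf (nat_lit 244736) [nat_lit 120, nat_lit 90, nat_lit 240, nat_lit 90, nat_lit 120]) (.leaf (nat_lit 134148) [nat_lit 420, nat_lit 270, nat_lit 210, nat_lit 450, nat_lit 270]))
noncomputable def r316 : WT := (.node (nat_lit 135) (.leaf (nat_lit 301056) [nat_lit 210, nat_lit 300, nat_lit 210, nat_lit 240, nat_lit 300]) (.leaf (nat_lit 76802) [nat_lit 450, nat_lit 240, nat_lit 240, nat_lit 450]))
noncomputable def r317 : WT := (.node (nat_lit 137) (.leaf (nat_lit 278528) [nat_lit 60, nat_lit 240, nat_lit 180, nat_lit 90, nat_lit 180]) (.node (nat_lit 138) (.leaf (nat_lit 286724) [nat_lit 300, nat_lit 180, nat_lit 300, nat_lit 270, nat_lit 180]) (.leaf (nat_lit 279552) [nat_lit 60, nat_lit 300, nat_lit 240, nat_lit 300, nat_lit 60])))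
noncomputable def r318 : WT := (.node (nat_lit 140) (.leaf (nat_lit 285696) [nat_lit 90, nat_lit 300, nat_lit 240, nat_lit 300, nat_lit 90]) (.leaf (nat_lit 300032) [nat_lit 210, nat_lit 240, nat_lit 60, nat_lit 330, nat_lit 60]))
noncomputable def r319 : WT := (.node (nat_lit 142) (.leaf (nat_lit 86022) [nat_lit 60, nat_lit 450, nat_lit 210, nat_lit 60]) (.leaf (nat_lit 230405) [nat_lit 210, nat_lit 300, nat_lit 420, nat_lit 300, nat_lit 270]))
noncomputable def r320 : WT := (.node (nat_lit 144) (.leaf (nat_lit 135171) [nat_lit 210, nat_lit 240, nat_lit 240, nat_lit 420, nat_lit 210]) (.leaf (nat_lit 141318) [nat_lit 420, nat_lit 210, nat_lit 450, nat_lit 270, nat_lit 420]))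
noncomputable def r321 : WT := (.node (nat_lit 146) (.leaf (nat_lit 148485) [nat_lit 210, nat_lit 240, nat_lit 420, nat_lit 270, nat_lit 420]) (.node (nat_lit 147) (.leaf (nat_lit 132104) [nat_lit 300, nat_lit 450, nat_lit 270, nat_lit 450, nat_lit 300]) (.leaf (nat_lit 169985) [nat_lit 270, nat_lit 150, nat_lit 330, nat_lit 150, nat_lit 420])))
noncomputable def r322 : WT := (.node (nat_lit 149) (.leaf (nat_lit 175108) [nat_lit 330, nat_lit 60, nat_lit 210, nat_lit 450, nat_lit 60]) (.leaf (nat_lit 180225) [nat_lit 60, nat_lit 330, nat_lit 270, nat_lit 60, nat_lit 420]))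
noncomputable def r323 : WT := (.node (nat_lit 151) (.leaf (nat_lit 183304) [nat_lit 270, nat_lit 450, nat_lit 210, nat_lit 450, nat_lit 210]) (.leaf (nat_lit 184328) [nat_lit 270, nat_lit 450, nat_lit 210, nat_lit 270, nat_lit 270]))
noncomputable def r324 : WT := (.node (nat_lit 153) (.leaf (nat_lit 203781) [nat_lit 300, nat_lit 210, nat_lit 420, nat_lit 270, nat_lit 300]) (.leaf (nat_lit 61443) [nat_lit 360, nat_lit 240, nat_lit 360, nat_lit 270]))
noncomputable def r325 : WT := (.node (nat_lit 155) (.leaf (nat_lit 224262) [nat_lit 300, nat_lit 240, nat_lit 450, nat_lit 300, nat_lit 420]) (.node (nat_lit 156) (.leaf (nat_lit 274432) [nat_lit 60, nat_lit 180, nat_lit 90, nat_lit 270, nat_lit 180]) (.leaf (nat_lit 242688) [nat_lit 120, nat_lit 60, nat_lit 240, nat_lit 120, nat_lit 60])))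
noncomputable def r326 : WT := (.node (nat_lit 158) (.leaf (nat_lit 116742) [nat_lit 210, nat_lit 270, nat_lit 450, nat_lit 450, nat_lit 210]) (.leaf (nat_lit 244741) [nat_lit 90, nat_lit 120, nat_lit 240, nat_lit 120, nat_lit 90]))
noncomputable def r327 : WT := (.node (nat_lit 160) (.leaf (nat_lit 61442) [nat_lit 390, nat_lit 240, nat_lit 240, nat_lit 390]) (.node (nat_lit 161) (.leaf (nat_lit 246790) [nat_lit 180, nat_lit 120, nat_lit 270, nat_lit 120, nat_lit 180]) (.leaf (nat_lit 257024) [nat_lit 150, nat_lit 60, nat_lit 240, nat_lit 60, nat_lit 150])))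
noncomputable def r328 : WT := (.node (nat_lit 163) (.leaf (nat_lit 261126) [nat_lit 180, nat_lit 150, nat_lit 270, nat_lit 150, nat_lit 180]) (.leaf (nat_lit 93190) [nat_lit 150, nat_lit 270, nat_lit 270, nat_lit 150]))
noncomputable def r329 : WT := (.node (nat_lit 165) (.leaf (nat_lit 93186) [nat_lit 150, nat_lit 270, nat_lit 150, nat_lit 270]) (.node (nat_lit 166) (.leaf (nat_lit 92162) [nat_lit 120, nat_lit 270, nat_lit 120, nat_lit 270]) (.leaf (nat_lit 273414) [nat_lit 180, nat_lit 60, nat_lit 270, nat_lit 60, nat_lit 180])))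
noncomputable def r330 : WT := (.node (nat_lit 148) (.node (nat_lit 139) (.node (nat_lit 134) (.node (nat_lit 132) (.leaf (nat_lit 288768) [nat_lit 180, nat_lit 120, nat_lit 180, nat_lit 240, nat_lit 150]) r315) (.node (nat_lit 136) r316 r317)) (.node (nat_lit 143) (.node (nat_lit 141) r318 r319) (.node (nat_lit 145) r320 r321))) (.node (nat_lit 157) (.node (nat_lit 152) (.node (nat_lit 150) r322 r323) (.node (nat_lit 154) r324 r325)) (.node (nat_lit 162) (.node (nat_lit 159) r326 r327) (.node (nat_lit 164) r328 r329))))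
noncomputable def r331 : WT := (.node (nat_lit 68) (.node (nat_lit 56) (.node (nat_lit 53) (.node (nat_lit 51) (.leaf (nat_lit 62466) [nat_lit 180, nat_lit 210, nat_lit 180, nat_lit 390]) r299) (.node (nat_lit 54) (.leaf (nat_lit 309248) [nat_lit 300, nat_lit 240, nat_lit 150, nat_lit 300, nat_lit 150]) r300)) (.node (nat_lit 61) (.node (nat_lit 58) r301 r302) (.node (nat_lit 64) r303 r304))) (.node (nat_lit 90) (.node (nat_lit 77) (.node (nat_lit 72) r305 r306) (.node (nat_lit 83) r307 r308)) (.node (nat_lit 112) (.node (nat_lit 100) r309 r310) (.node (nat_lit 131) r314 r330))))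
noncomputable def r332 : WT := (.node (nat_lit 19) (.node (nat_lit 15) (.node (nat_lit 13) (.leaf (nat_lit 205832) [nat_lit 300, nat_lit 450, nat_lit 330, nat_lit 210, nat_lit 330]) (.node (nat_lit 14) (.leaf (nat_lit 52225) [nat_lit 390, nat_lit 270, nat_lit 360, nat_lit 360]) (.leaf (nat_lit 177158) [nat_lit 330, nat_lit 60, nat_lit 450, nat_lit 60, nat_lit 330]))) (.node (nat_lit 17) (.node (nat_lit 16) (.leaf (nat_lit 96256) [nat_lit 270, nat_lit 180, nat_lit 240, nat_lit 180]) (.leaf (nat_lit 25601) [nat_lit 270, nat_lit 210, nat_lit 420])) (.node (nat_lit 18) (.leaf (nat_lit 16386) [nat_lit 390, nat_lit 270, nat_lit 390]) (.leaf (nat_lit 71683) [nat_lit 180, nat_lit 210, nat_lit 360, nat_lit 450])))) (.node (nat_lit 26) (.node (nat_lit 22) (.node (nat_lit 20) (.leaf (nat_lit 91144) [nat_lit 450, nat_lit 300, nat_lit 210, nat_lit 300]) r292) (.node (nat_lit 24) r293 r294)) (.node (nat_lit 35) (.node (nat_lit 29) r295 r296) (.node (nat_lit 50) r298 r331))))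
noncomputable def w7 : WT := (.node (nat_lit 1) (.leaf (nat_lit 6146) [nat_lit 240]) (.node (nat_lit 4) (.node (nat_lit 2) (.leaf (nat_lit 32768) [nat_lit 300, nat_lit 240, nat_lit 300]) (.node (nat_lit 3) (.leaf (nat_lit 14336) [nat_lit 270, nat_lit 270]) (.leaf (nat_lit 13316) [nat_lit 450, nat_lit 210]))) (.node (nat_lit 7) (.node (nat_lit 5) (.leaf (nat_lit 31744) [nat_lit 180, nat_lit 270, nat_lit 180]) r290) (.node (nat_lit 12) r291 r332))))
noncomputable def r333 : WT := (.node (nat_lit 7) (.leaf (nat_lit 32770) [nat_lit 240, nat_lit 300, nat_lit 270]) (.leaf (nat_lit 37890) [nat_lit 120, nat_lit 300, nat_lit 120]))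
noncomputable def r334 : WT := (.node (nat_lit 16) (.leaf (nat_lit 91139) [nat_lit 210, nat_lit 300, nat_lit 420, nat_lit 240]) (.leaf (nat_lit 90120) [nat_lit 450, nat_lit 300, nat_lit 210, nat_lit 270]))
noncomputable def r335 : WT := (.node (nat_lit 18) (.leaf (nat_lit 97284) [nat_lit 270, nat_lit 300, nat_lit 270, nat_lit 270]) (.leaf (nat_lit 101384) [nat_lit 210, nat_lit 330, nat_lit 210, nat_lit 330]))
noncomputable def r336 : WT := (.node (nat_lit 21) (.node (nat_lit 20) (.leaf (nat_lit 90119) [nat_lit 420, nat_lit 300, nat_lit 240, nat_lit 210]) (.leaf (nat_lit 75780) [nat_lit 450, nat_lit 300, nat_lit 450, nat_lit 450])) (.node (nat_lit 22) (.leaf (nat_lit 293892) [nat_lit 270, nat_lit 180, nat_lit 300, nat_lit 270, nat_lit 180]) (.node (nat_lit 23) (.leaf (nat_lit 98305) [nat_lit 150, nat_lit 120, nat_lit 150, nat_lit 120]) (.leaf (nat_lit 98312) [nat_lit 120, nat_lit 150, nat_lit 120, nat_lit 150]))))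
noncomputable def r337 : WT := (.node (nat_lit 29) (.node (nat_lit 26) (.node (nat_lit 25) (.leaf (nat_lit 97281) [nat_lit 240, nat_lit 300, nat_lit 240, nat_lit 240]) (.leaf (nat_lit 75777) [nat_lit 420, nat_lit 300, nat_lit 420, nat_lit 420])) (.node (nat_lit 27) (.leaf (nat_lit 294916) [nat_lit 270, nat_lit 300, nat_lit 180, nat_lit 270, nat_lit 180]) (.node (nat_lit 28) (.leaf (nat_lit 101377) [nat_lit 330, nat_lit 210, nat_lit 330, nat_lit 210]) (.leaf (nat_lit 286721) [nat_lit 180, nat_lit 300, nat_lit 240, nat_lit 180, nat_lit 240])))) (.node (nat_lit 32) (.node (nat_lit 30) (.leaf (nat_lit 294915) [nat_lit 240, nat_lit 300, nat_lit 180, nat_lit 240, nat_lit 180]) (.node (nat_lit 31) (.leaf (nat_lit 91138) [nat_lit 210, nat_lit 300, nat_lit 270, nat_lit 450]) (.leaf (nat_lit 100353) [nat_lit 90, nat_lit 300, nat_lit 90, nat_lit 150]))) (.node (nat_lit 34) (.node (nat_lit 33) (.leaf (nat_lit 330762) [nat_lit 120, nat_lit 180, nat_lit 300, nat_lit 150, nat_lit 180]) (.leaf (nat_lit 286726) [nat_lit 180, nat_lit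 300, nat_lit 270, nat_lit 180, nat_lit 270])) (.node (nat_lit 35) (.leaf (nat_lit 99329) [nat_lit 60, nat_lit 300, nat_lit 60, nat_lit 120]) (.leaf (nat_lit 268298) [nat_lit 270, nat_lit 150, nat_lit 300, nat_lit 240, nat_lit 150])))))
noncomputable def r338 : WT := (.node (nat_lit 38) (.leaf (nat_lit 167943) [nat_lit 120, nat_lit 420, nat_lit 300, nat_lit 120, nat_lit 450]) (.leaf (nat_lit 100360) [nat_lit 150, nat_lit 90, nat_lit 300, nat_lit 90]))
noncomputable def r339 : WT := (.node (nat_lit 41) (.leaf (nat_lit 314374) [nat_lit 60, nat_lit 150, nat_lit 120, nat_lit 150, nat_lit 60]) (.leaf (nat_lit 330756) [nat_lit 150, nat_lit 180, nat_lit 300, nat_lit 120, nat_lit 180]))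
noncomputable def r340 : WT := (.node (nat_lit 43) (.leaf (nat_lit 167940) [nat_lit 420, nat_lit 120, nat_lit 300, nat_lit 450, nat_lit 120]) (.leaf (nat_lit 339972) [nat_lit 120, nat_lit 330, nat_lit 300, nat_lit 120, nat_lit 330]))
noncomputable def r341 : WT := (.node (nat_lit 45) (.leaf (nat_lit 254986) [nat_lit 270, nat_lit 120, nat_lit 300, nat_lit 240, nat_lit 120]) (.leaf (nat_lit 53249) [nat_lit 360, nat_lit 300, nat_lit 360, nat_lit 360]))
noncomputable def r342 : WT := (.node (nat_lit 47) (.leaf (nat_lit 307203) [nat_lit 240, nat_lit 180, nat_lit 300, nat_lit 240, nat_lit 180]) (.node (nat_lit 48) (.leaf (nat_lit 268295) [nat_lit 150, nat_lit 240, nat_lit 300, nat_lit 150, nat_lit 270]) (.leaf (nat_lit 356358) [nat_lit 180, nat_lit 300, nat_lit 60, nat_lit 180, nat_lit 90])))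
noncomputable def r343 : WT := (.node (nat_lit 50) (.leaf (nat_lit 99336) [nat_lit 120, nat_lit 60, nat_lit 300, nat_lit 60]) (.node (nat_lit 51) (.leaf (nat_lit 266246) [nat_lit 150, nat_lit 300, nat_lit 270, nat_lit 150, nat_lit 240]) (.leaf (nat_lit 254980) [nat_lit 240, nat_lit 120, nat_lit 300, nat_lit 270, nat_lit 120])))
noncomputable def r344 : WT := (.node (nat_lit 53) (.leaf (nat_lit 340996) [nat_lit 120, nat_lit 300, nat_lit 330, nat_lit 120, nat_lit 330]) (.node (nat_lit 54) (.leaf (nat_lit 307202) [nat_lit 180, nat_lit 270, nat_lit 300, nat_lit 180, nat_lit 270]) (.leaf (nat_lit 252934) [nat_lit 120, nat_lit 300, nat_lit 270, nat_lit 120, nat_lit 240])))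
noncomputable def r345 : WT := (.node (nat_lit 57) (.node (nat_lit 56) (.leaf (nat_lit 328710) [nat_lit 180, nat_lit 300, nat_lit 120, nat_lit 180, nat_lit 150]) (.leaf (nat_lit 279556) [nat_lit 240, nat_lit 300, nat_lit 60, nat_lit 270, nat_lit 60])) (.node (nat_lit 58) (.leaf (nat_lit 335876) [nat_lit 120, nat_lit 210, nat_lit 300, nat_lit 120, nat_lit 210]) (.leaf (nat_lit 254983) [nat_lit 120, nat_lit 240, nat_lit 300, nat_lit 120, nat_lit 270])))
noncomputable def r346 : WT := (.node (nat_lit 61) (.node (nat_lit 60) (.leaf (nat_lit 293889) [nat_lit 180, nat_lit 240, nat_lit 300, nat_lit 180, nat_lit 240]) (.leaf (nat_lit 269315) [nat_lit 270, nat_lit 300, nat_lit 150, nat_lit 240, nat_lit 150])) (.node (nat_lit 62) (.leaf (nat_lit 216070) [nat_lit 450, nat_lit 300, nat_lit 450, nat_lit 240, nat_lit 210]) (.node (nat_lit 63) (.leaf (nat_lit 167946) [nat_lit 450, nat_lit 120, nat_lit 300, nat_lit 420, nat_lit 120]) (.leaf (nat_lit 205825) [nat_lit 240, nat_lit 330, nat_lit 210, nat_lit 330, nat_lit 420]))))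
noncomputable def r347 : WT := (.node (nat_lit 67) (.node (nat_lit 65) (.leaf (nat_lit 151555) [nat_lit 420, nat_lit 300, nat_lit 240, nat_lit 420, nat_lit 240]) (.node (nat_lit 66) (.leaf (nat_lit 132102) [nat_lit 270, nat_lit 300, nat_lit 450, nat_lit 270, nat_lit 450]) (.leaf (nat_lit 220164) [nat_lit 210, nat_lit 450, nat_lit 300, nat_lit 450, nat_lit 240]))) (.node (nat_lit 68) (.leaf (nat_lit 350212) [nat_lit 150, nat_lit 330, nat_lit 300, nat_lit 150, nat_lit 210]) (.node (nat_lit 69) (.leaf (nat_lit 267268) [nat_lit 150, nat_lit 240, nat_lit 300, nat_lit 270, nat_lit 150]) (.leaf (nat_lit 269316) [nat_lit 240, nat_lit 300, nat_lit 150, nat_lit 270, nat_lit 150]))))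
noncomputable def r348 : WT := (.node (nat_lit 73) (.node (nat_lit 71) (.leaf (nat_lit 285700) [nat_lit 240, nat_lit 300, nat_lit 90, nat_lit 270, nat_lit 90]) (.node (nat_lit 72) (.leaf (nat_lit 285699) [nat_lit 270, nat_lit 300, nat_lit 90, nat_lit 240, nat_lit 90]) (.leaf (nat_lit 343050) [nat_lit 120, nat_lit 300, nat_lit 180, nat_lit 150, nat_lit 180]))) (.node (nat_lit 75) (.node (nat_lit 74) (.leaf (nat_lit 205834) [nat_lit 450, nat_lit 330, nat_lit 210, nat_lit 330, nat_lit 270]) (.leaf (nat_lit 232453) [nat_lit 210, nat_lit 300, nat_lit 420, nat_lit 270, nat_lit 270])) (.node (nat_lit 76) (.leaf (nat_lit 220170) [nat_lit 450, nat_lit 240, nat_lit 300, nat_lit 210, nat_lit 450]) (.leaf (nat_lit 220167) [nat_lit 270, nat_lit 420, nat_lit 300, nat_lit 420, nat_lit 210]))))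
noncomputable def r349 : WT := (.node (nat_lit 82) (.node (nat_lit 79) (.node (nat_lit 78) (.leaf (nat_lit 231433) [nat_lit 420, nat_lit 270, nat_lit 300, nat_lit 270, nat_lit 210]) (.leaf (nat_lit 200710) [nat_lit 240, nat_lit 300, nat_lit 450, nat_lit 210, nat_lit 240])) (.node (nat_lit 80) (.leaf (nat_lit 97288) [nat_lit 270, nat_lit 270, nat_lit 300, nat_lit 270]) (.node (nat_lit 81) (.leaf (nat_lit 208900) [nat_lit 210, nat_lit 330, nat_lit 270, nat_lit 450, nat_lit 330]) (.leaf (nat_lit 312322) [nat_lit 240, nat_lit 330, nat_lit 300, nat_lit 330, nat_lit 270])))) (.node (nat_lit 85) (.node (nat_lit 83) (.leaf (nat_lit 221189) [nat_lit 420, nat_lit 300, nat_lit 420, nat_lit 210, nat_lit 270]) (.node (nat_lit 84) (.leaf (nat_lit 126980) [nat_lit 240, nat_lit 300, nat_lit 210, nat_lit 450, nat_lit 450]) (.leaf (nat_lit 224258) [nat_lit 420, nat_lit 270, nat_lit 300, nat_lit 240, nat_lit 450]))) (.node (nat_lit 86) (.leaf (nat_lit 313352) [nat_lit 90, nat_lit 120, nat_lit 150, nat_lit 120, nat_lit 90]) (.node (nat_lit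 87) (.leaf (nat_lit 325636) [nat_lit 120, nat_lit 300, nat_lit 60, nat_lit 120, nat_lit 60]) (.leaf (nat_lit 336900) [nat_lit 120, nat_lit 300, nat_lit 210, nat_lit 120, nat_lit 210])))))
noncomputable def r350 : WT := (.node (nat_lit 92) (.leaf (nat_lit 328705) [nat_lit 180, nat_lit 300, nat_lit 150, nat_lit 180, nat_lit 120]) (.leaf (nat_lit 356362) [nat_lit 60, nat_lit 180, nat_lit 90, nat_lit 300, nat_lit 180]))
noncomputable def r351 : WT := (.node (nat_lit 97) (.leaf (nat_lit 331780) [nat_lit 150, nat_lit 300, nat_lit 180, nat_lit 120, nat_lit 180]) (.leaf (nat_lit 347140) [nat_lit 180, nat_lit 150, nat_lit 300, nat_lit 150, nat_lit 180]))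
noncomputable def r352 : WT := (.node (nat_lit 102) (.leaf (nat_lit 207878) [nat_lit 330, nat_lit 270, nat_lit 450, nat_lit 330, nat_lit 210]) (.leaf (nat_lit 53252) [nat_lit 390, nat_lit 300, nat_lit 390, nat_lit 390]))
noncomputable def r353 : WT := (.node (nat_lit 105) (.leaf (nat_lit 53253) [nat_lit 360, nat_lit 360, nat_lit 300, nat_lit 360]) (.leaf (nat_lit 88065) [nat_lit 240, nat_lit 300, nat_lit 210, nat_lit 420]))
noncomputable def r354 : WT := (.node (nat_lit 108) (.leaf (nat_lit 100357) [nat_lit 90, nat_lit 150, nat_lit 300, nat_lit 90]) (.leaf (nat_lit 123910) [nat_lit 210, nat_lit 300, nat_lit 450, nat_lit 450, nat_lit 240]))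
noncomputable def r355 : WT := (.node (nat_lit 98) (.node (nat_lit 93) (.node (nat_lit 90) (.node (nat_lit 89) (.leaf (nat_lit 226306) [nat_lit 420, nat_lit 150, nat_lit 300, nat_lit 150, nat_lit 450]) (.leaf (nat_lit 310274) [nat_lit 240, nat_lit 180, nat_lit 300, nat_lit 180, nat_lit 270])) (.node (nat_lit 91) (.leaf (nat_lit 356353) [nat_lit 180, nat_lit 300, nat_lit 90, nat_lit 180, nat_lit 60]) r350)) (.node (nat_lit 95) (.node (nat_lit 94) (.leaf (nat_lit 333834) [nat_lit 120, nat_lit 210, nat_lit 120, nat_lit 300, nat_lit 210]) (.leaf (nat_lit 350215) [nat_lit 210, nat_lit 150, nat_lit 300, nat_lit 330, nat_lit 150])) (.node (nat_lit 96) (.leaf (nat_lit 351235) [nat_lit 150, nat_lit 300, nat_lit 210, nat_lit 150, nat_lit 330]) r351))) (.node (nat_lit 103) (.node (nat_lit 100) (.node (nat_lit 99) (.leaf (nat_lit 330753) [nat_lit 180, nat_lit 150, nat_lit 300, nat_lit 180, nat_lit 120]) (.leaf (nat_lit 312328) [nat_lit 330, nat_lit 270, nat_lit 300, nat_lit 240, nat_lit 330])) (.node (nat_lit 101) (.leaf (nat_lit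 348170) [nat_lit 150, nat_lit 210, nat_lit 150, nat_lit 300, nat_lit 330]) r352)) (.node (nat_lit 106) (.node (nat_lit 104) (.leaf (nat_lit 53256) [nat_lit 390, nat_lit 390, nat_lit 300, nat_lit 390]) r353) (.node (nat_lit 107) (.leaf (nat_lit 88069) [nat_lit 210, nat_lit 420, nat_lit 300, nat_lit 240]) r354))))
noncomputable def r356 : WT := (.node (nat_lit 113) (.leaf (nat_lit 168968) [nat_lit 120, nat_lit 450, nat_lit 120, nat_lit 300, nat_lit 420]) (.leaf (nat_lit 168963) [nat_lit 450, nat_lit 300, nat_lit 120, nat_lit 420, nat_lit 120]))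
noncomputable def r357 : WT := (.node (nat_lit 116) (.leaf (nat_lit 206851) [nat_lit 330, nat_lit 210, nat_lit 330, nat_lit 420, nat_lit 240]) (.leaf (nat_lit 304132) [nat_lit 330, nat_lit 240, nat_lit 300, nat_lit 270, nat_lit 330]))
noncomputable def r358 : WT := (.node (nat_lit 119) (.leaf (nat_lit 220161) [nat_lit 420, nat_lit 210, nat_lit 300, nat_lit 270, nat_lit 420]) (.leaf (nat_lit 223234) [nat_lit 120, nat_lit 300, nat_lit 420, nat_lit 120, nat_lit 450]))
noncomputable def r359 : WT := (.node (nat_lit 124) (.leaf (nat_lit 256004) [nat_lit 240, nat_lit 300, nat_lit 120, nat_lit 270, nat_lit 120]) (.leaf (nat_lit 256008) [nat_lit 120, nat_lit 270, nat_lit 120, nat_lit 300, nat_lit 240]))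
noncomputable def r360 : WT := (.node (nat_lit 127) (.leaf (nat_lit 267274) [nat_lit 270, nat_lit 150, nat_lit 300, nat_lit 150, nat_lit 240]) (.leaf (nat_lit 285704) [nat_lit 90, nat_lit 270, nat_lit 90, nat_lit 300, nat_lit 240]))
noncomputable def r361 : WT := (.node (nat_lit 130) (.leaf (nat_lit 286725) [nat_lit 240, nat_lit 180, nat_lit 240, nat_lit 300, nat_lit 180]) (.leaf (nat_lit 294920) [nat_lit 180, nat_lit 270, nat_lit 180, nat_lit 300, nat_lit 270]))
noncomputable def r362 : WT := (.node (nat_lit 120) (.node (nat_lit 114) (.node (nat_lit 111) (.node (nat_lit 110) (.leaf (nat_lit 123905) [nat_lit 210, nat_lit 300, nat_lit 270, nat_lit 420, nat_lit 420]) (.leaf (nat_lit 132097) [nat_lit 240, nat_lit 300, nat_lit 420, nat_lit 240, nat_lit 420])) (.node (nat_lit 112) (.leaf (nat_lit 162822) [nat_lit 120, nat_lit 300, nat_lit 450, nat_lit 120, nat_lit 420]) r356)) (.node (nat_lit 117) (.node (nat_lit 115) (.leaf (nat_lit 174090) [nat_lit 450, nat_lit 150, nat_lit 300, nat_lit 150, nat_lit 420]) r357) (.node (nat_lit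 118) (.leaf (nat_lit 219140) [nat_lit 270, nat_lit 420, nat_lit 300, nat_lit 450, nat_lit 240]) r358))) (.node (nat_lit 125) (.node (nat_lit 122) (.node (nat_lit 121) (.leaf (nat_lit 227336) [nat_lit 210, nat_lit 450, nat_lit 300, nat_lit 420, nat_lit 210]) (.leaf (nat_lit 231426) [nat_lit 210, nat_lit 240, nat_lit 300, nat_lit 240, nat_lit 450])) (.node (nat_lit 123) (.leaf (nat_lit 231427) [nat_lit 270, nat_lit 210, nat_lit 300, nat_lit 420, nat_lit 270]) r359)) (.node (nat_lit 128) (.node (nat_lit 126) (.leaf (nat_lit 266250) [nat_lit 270, nat_lit 150, nat_lit 240, nat_lit 300, nat_lit 150]) r360) (.node (nat_lit 129) (.leaf (nat_lit 285703) [nat_lit 90, nat_lit 240, nat_lit 90, nat_lit 300, nat_lit 270]) r361))))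
noncomputable def r363 : WT := (.node (nat_lit 52) (.node (nat_lit 42) (.node (nat_lit 39) (.node (nat_lit 37) (.leaf (nat_lit 350218) [nat_lit 150, nat_lit 210, nat_lit 300, nat_lit 150, nat_lit 330]) r338) (.node (nat_lit 40) (.leaf (nat_lit 268292) [nat_lit 240, nat_lit 150, nat_lit 300, nat_lit 270, nat_lit 150]) r339)) (.node (nat_lit 46) (.node (nat_lit 44) r340 r341) (.node (nat_lit 49) r342 r343))) (.node (nat_lit 70) (.node (nat_lit 59) (.node (nat_lit 55) r344 r345) (.node (nat_lit 64) r346 r347)) (.node (nat_lit 88) (.node (nat_lit 77) r348 r349) (.node (nat_lit 109) r355 r362))))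
noncomputable def r364 : WT := (.node (nat_lit 12) (.node (nat_lit 9) (.leaf (nat_lit 26626) [nat_lit 420, nat_lit 300, nat_lit 450]) (.node (nat_lit 10) (.leaf (nat_lit 21510) [nat_lit 390, nat_lit 300, nat_lit 360]) (.node (nat_lit 11) (.leaf (nat_lit 26630) [nat_lit 450, nat_lit 300, nat_lit 420]) (.leaf (nat_lit 99332) [nat_lit 60, nat_lit 300, nat_lit 120, nat_lit 60])))) (.node (nat_lit 17) (.node (nat_lit 14) (.node (nat_lit 13) (.leaf (nat_lit 100356) [nat_lit 90, nat_lit 300, nat_lit 150, nat_lit 90]) (.leaf (nat_lit 21506) [nat_lit 360, nat_lit 300, nat_lit 390])) (.node (nat_lit 15) (.leaf (nat_lit 88068) [nat_lit 270, nat_lit 300, nat_lit 450, nat_lit 210]) r334)) (.node (nat_lit 24) (.node (nat_lit 19) r335 r336) (.node (nat_lit 36) r337 r363))))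
noncomputable def w8 : WT := (.node (nat_lit 1) (.leaf (nat_lit 7168) [nat_lit 300]) (.node (nat_lit 4) (.node (nat_lit 2) (.leaf (nat_lit 44034) [nat_lit 210, nat_lit 300, nat_lit 210]) (.node (nat_lit 3) (.leaf (nat_lit 45058) [nat_lit 330, nat_lit 300, nat_lit 330]) (.leaf (nat_lit 43010) [nat_lit 180, nat_lit 300, nat_lit 180]))) (.node (nat_lit 6) (.node (nat_lit 5) (.leaf (nat_lit 40962) [nat_lit 150, nat_lit 300, nat_lit 150]) (.leaf (nat_lit 32774) [nat_lit 270, nat_lit 300, nat_lit 240])) (.node (nat_lit 8) r333 r364))))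
noncomputable def r365 : WT := (.node (nat_lit 5) (.leaf (nat_lit 36866) [nat_lit 120, nat_lit 330, nat_lit 120]) (.leaf (nat_lit 80901) [nat_lit 150, nat_lit 420, nat_lit 150, nat_lit 240]))
noncomputable def r366 : WT := (.node (nat_lit 7) (.leaf (nat_lit 101382) [nat_lit 300, nat_lit 210, nat_lit 330, nat_lit 210]) (.node (nat_lit 8) (.leaf (nat_lit 172039) [nat_lit 150, nat_lit 420, nat_lit 270, nat_lit 150, nat_lit 270]) (.leaf (nat_lit 139270) [nat_lit 60, nat_lit 210, nat_lit 450, nat_lit 270, nat_lit 60])))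
noncomputable def r367 : WT := (.node (nat_lit 12) (.node (nat_lit 10) (.leaf (nat_lit 302082) [nat_lit 270, nat_lit 330, nat_lit 270, nat_lit 330, nat_lit 270]) (.node (nat_lit 11) (.leaf (nat_lit 302081) [nat_lit 240, nat_lit 330, nat_lit 240, nat_lit 330, nat_lit 240]) (.leaf (nat_lit 80900) [nat_lit 270, nat_lit 150, nat_lit 450, nat_lit 150]))) (.node (nat_lit 14) (.node (nat_lit 13) (.leaf (nat_lit 175110) [nat_lit 60, nat_lit 210, nat_lit 450, nat_lit 60, nat_lit 270]) (.leaf (nat_lit 204802) [nat_lit 120, nat_lit 330, nat_lit 420, nat_lit 120, nat_lit 450])) (.node (nat_lit 16) (.node (nat_lit 15) (.leaf (nat_lit 207875) [nat_lit 300, nat_lit 210, nat_lit 330, nat_lit 420, nat_lit 240]) (.leaf (nat_lit 205829) [nat_lit 210, nat_lit 330, nat_lit 420, nat_lit 300, nat_lit 240])) (.node (nat_lit 17) (.leaf (nat_lit 101379) [nat_lit 210, nat_lit 330, nat_lit 210, nat_lit 300]) (.leaf (nat_lit 160774) [nat_lit 120, nat_lit 330, nat_lit 450, nat_lit 120, nat_lit 420])))))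
noncomputable def r368 : WT := (.node (nat_lit 24) (.leaf (nat_lit 180230) [nat_lit 60, nat_lit 240, nat_lit 450, nat_lit 60, nat_lit 240]) (.leaf (nat_lit 173063) [nat_lit 150, nat_lit 420, nat_lit 150, nat_lit 270, nat_lit 270]))
noncomputable def r369 : WT := (.node (nat_lit 27) (.leaf (nat_lit 251910) [nat_lit 120, nat_lit 330, nat_lit 270, nat_lit 120, nat_lit 240]) (.leaf (nat_lit 338952) [nat_lit 300, nat_lit 120, nat_lit 330, nat_lit 120, nat_lit 300]))
noncomputable def r370 : WT := (.node (nat_lit 29) (.leaf (nat_lit 303106) [nat_lit 120, nat_lit 330, nat_lit 240, nat_lit 120, nat_lit 270]) (.leaf (nat_lit 299013) [nat_lit 150, nat_lit 210, nat_lit 240, nat_lit 150, nat_lit 270]))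
noncomputable def r371 : WT := (.node (nat_lit 31) (.leaf (nat_lit 339971) [nat_lit 120, nat_lit 300, nat_lit 330, nat_lit 120, nat_lit 300]) (.node (nat_lit 32) (.leaf (nat_lit 349188) [nat_lit 150, nat_lit 210, nat_lit 330, nat_lit 150, nat_lit 210]) (.leaf (nat_lit 205833) [nat_lit 420, nat_lit 300, nat_lit 240, nat_lit 330, nat_lit 210])))
noncomputable def r372 : WT := (.node (nat_lit 35) (.node (nat_lit 34) (.leaf (nat_lit 101383) [nat_lit 210, nat_lit 300, nat_lit 330, nat_lit 210]) (.leaf (nat_lit 350211) [nat_lit 150, nat_lit 300, nat_lit 210, nat_lit 150, nat_lit 300])) (.node (nat_lit 36) (.leaf (nat_lit 316426) [nat_lit 120, nat_lit 150, nat_lit 210, nat_lit 150, nat_lit 120]) (.leaf (nat_lit 209922) [nat_lit 300, nat_lit 330, nat_lit 420, nat_lit 300, nat_lit 450])))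
noncomputable def r373 : WT := (.node (nat_lit 39) (.node (nat_lit 38) (.leaf (nat_lit 175109) [nat_lit 240, nat_lit 60, nat_lit 420, nat_lit 210, nat_lit 60]) (.leaf (nat_lit 205830) [nat_lit 270, nat_lit 300, nat_lit 450, nat_lit 330, nat_lit 210])) (.node (nat_lit 40) (.leaf (nat_lit 350216) [nat_lit 300, nat_lit 150, nat_lit 210, nat_lit 300, nat_lit 150]) (.leaf (nat_lit 334856) [nat_lit 210, nat_lit 120, nat_lit 210, nat_lit 330, nat_lit 120])))
noncomputable def r374 : WT := (.node (nat_lit 44) (.node (nat_lit 42) (.leaf (nat_lit 251914) [nat_lit 270, nat_lit 120, nat_lit 240, nat_lit 330, nat_lit 120]) (.node (nat_lit 43) (.leaf (nat_lit 304130) [nat_lit 300, nat_lit 330, nat_lit 240, nat_lit 300, nat_lit 270]) (.leaf (nat_lit 228358) [nat_lit 300, nat_lit 330, nat_lit 450, nat_lit 300, nat_lit 420]))) (.node (nat_lit 45) (.leaf (nat_lit 349185) [nat_lit 210, nat_lit 150, nat_lit 330, nat_lit 210, nat_lit 150]) (.node (nat_lit 46) (.leaf (nat_lit 342018) [nat_lit 300, nat_lit 330, nat_lit 120, nat_lit 300, nat_lit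 120]) (.leaf (nat_lit 171012) [nat_lit 210, nat_lit 420, nat_lit 150, nat_lit 450, nat_lit 150]))))
noncomputable def r375 : WT := (.node (nat_lit 50) (.node (nat_lit 48) (.leaf (nat_lit 354306) [nat_lit 300, nat_lit 330, nat_lit 150, nat_lit 300, nat_lit 150]) (.node (nat_lit 49) (.leaf (nat_lit 207874) [nat_lit 210, nat_lit 300, nat_lit 330, nat_lit 270, nat_lit 450]) (.leaf (nat_lit 204806) [nat_lit 420, nat_lit 120, nat_lit 450, nat_lit 330, nat_lit 120]))) (.node (nat_lit 52) (.node (nat_lit 51) (.leaf (nat_lit 357378) [nat_lit 300, nat_lit 330, nat_lit 210, nat_lit 300, nat_lit 210]) (.leaf (nat_lit 177156) [nat_lit 270, nat_lit 330, nat_lit 60, nat_lit 450, nat_lit 60])) (.node (nat_lit 53) (.leaf (nat_lit 139269) [nat_lit 60, nat_lit 240, nat_lit 420, nat_lit 210, nat_lit 60]) (.leaf (nat_lit 207881) [nat_lit 420, nat_lit 240, nat_lit 330, nat_lit 300, nat_lit 210]))))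
noncomputable def r376 : WT := (.node (nat_lit 59) (.node (nat_lit 56) (.node (nat_lit 55) (.leaf (nat_lit 114691) [nat_lit 270, nat_lit 150, nat_lit 420, nat_lit 420, nat_lit 150]) (.leaf (nat_lit 317444) [nat_lit 150, nat_lit 120, nat_lit 210, nat_lit 120, nat_lit 150])) (.node (nat_lit 57) (.leaf (nat_lit 160778) [nat_lit 450, nat_lit 120, nat_lit 420, nat_lit 330, nat_lit 120]) (.node (nat_lit 58) (.leaf (nat_lit 312326) [nat_lit 300, nat_lit 330, nat_lit 270, nat_lit 300, nat_lit 240]) (.leaf (nat_lit 339970) [nat_lit 300, nat_lit 120, nat_lit 330, nat_lit 300, nat_lit 120])))) (.node (nat_lit 62) (.node (nat_lit 60) (.leaf (nat_lit 180229) [nat_lit 270, nat_lit 60, nat_lit 420, nat_lit 270, nat_lit 60]) (.node (nat_lit 61) (.leaf (nat_lit 338946) [nat_lit 120, nat_lit 300, nat_lit 330, nat_lit 300, nat_lit 120]) (.leaf (nat_lit 114696) [nat_lit 150, nat_lit 450, nat_lit 450, nat_lit 150, nat_lit 240]))) (.node (nat_lit 63) (.leaf (nat_lit 299014) [nat_lit 240, nat_lit 150, nat_lit 270, nat_lit 210, nat_lit 150])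 (.node (nat_lit 64) (.leaf (nat_lit 303110) [nat_lit 240, nat_lit 120, nat_lit 270, nat_lit 330, nat_lit 120]) (.leaf (nat_lit 207880) [nat_lit 270, nat_lit 450, nat_lit 330, nat_lit 210, nat_lit 300])))))
noncomputable def r377 : WT := (.node (nat_lit 69) (.leaf (nat_lit 209926) [nat_lit 420, nat_lit 300, nat_lit 450, nat_lit 330, nat_lit 300]) (.leaf (nat_lit 233475) [nat_lit 210, nat_lit 330, nat_lit 300, nat_lit 420, nat_lit 240]))
noncomputable def r378 : WT := (.node (nat_lit 72) (.leaf (nat_lit 81924) [nat_lit 150, nat_lit 270, nat_lit 450, nat_lit 150]) (.leaf (nat_lit 208898) [nat_lit 300, nat_lit 210, nat_lit 330, nat_lit 270, nat_lit 450]))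
noncomputable def r379 : WT := (.node (nat_lit 75) (.leaf (nat_lit 233479) [nat_lit 300, nat_lit 420, nat_lit 240, nat_lit 330, nat_lit 210]) (.leaf (nat_lit 177160) [nat_lit 60, nat_lit 450, nat_lit 60, nat_lit 330, nat_lit 270]))
noncomputable def r380 : WT := (.node (nat_lit 77) (.leaf (nat_lit 233476) [nat_lit 210, nat_lit 330, nat_lit 270, nat_lit 450, nat_lit 300]) (.leaf (nat_lit 324612) [nat_lit 120, nat_lit 330, nat_lit 60, nat_lit 120, nat_lit 60]))
noncomputable def r381 : WT := (.node (nat_lit 79) (.leaf (nat_lit 173060) [nat_lit 240, nat_lit 240, nat_lit 150, nat_lit 450, nat_lit 150]) (.leaf (nat_lit 177155) [nat_lit 240, nat_lit 330, nat_lit 60, nat_lit 420, nat_lit 60]))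
noncomputable def r382 : WT := (.node (nat_lit 81) (.leaf (nat_lit 228362) [nat_lit 450, nat_lit 300, nat_lit 420, nat_lit 330, nat_lit 300]) (.leaf (nat_lit 181253) [nat_lit 270, nat_lit 60, nat_lit 420, nat_lit 60, nat_lit 270]))
noncomputable def r383 : WT := (.node (nat_lit 83) (.leaf (nat_lit 342022) [nat_lit 120, nat_lit 300, nat_lit 120, nat_lit 330, nat_lit 300]) (.node (nat_lit 84) (.leaf (nat_lit 340994) [nat_lit 300, nat_lit 120, nat_lit 300, nat_lit 330, nat_lit 120]) (.leaf (nat_lit 169988) [nat_lit 150, nat_lit 240, nat_lit 240, nat_lit 450, nat_lit 150])))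
noncomputable def r384 : WT := (.node (nat_lit 86) (.leaf (nat_lit 181254) [nat_lit 240, nat_lit 60, nat_lit 450, nat_lit 60, nat_lit 240]) (.node (nat_lit 87) (.leaf (nat_lit 312330) [nat_lit 270, nat_lit 300, nat_lit 240, nat_lit 330, nat_lit 300]) (.leaf (nat_lit 304134) [nat_lit 240, nat_lit 300, nat_lit 270, nat_lit 330, nat_lit 300])))
noncomputable def r385 : WT := (.node (nat_lit 89) (.leaf (nat_lit 324616) [nat_lit 60, nat_lit 120, nat_lit 60, nat_lit 330, nat_lit 120]) (.node (nat_lit 90) (.leaf (nat_lit 354310) [nat_lit 150, nat_lit 300, nat_lit 150, nat_lit 330, nat_lit 300]) (.leaf (nat_lit 169991) [nat_lit 150, nat_lit 420, nat_lit 270, nat_lit 270, nat_lit 150])))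
noncomputable def r386 : WT := (.node (nat_lit 93) (.node (nat_lit 92) (.leaf (nat_lit 212998) [nat_lit 60, nat_lit 240, nat_lit 450, nat_lit 240, nat_lit 60]) (.leaf (nat_lit 147459) [nat_lit 60, nat_lit 210, nat_lit 240, nat_lit 420, nat_lit 60])) (.node (nat_lit 94) (.leaf (nat_lit 208905) [nat_lit 420, nat_lit 240, nat_lit 330, nat_lit 210, nat_lit 300]) (.node (nat_lit 95) (.leaf (nat_lit 206854) [nat_lit 300, nat_lit 270, nat_lit 450, nat_lit 330, nat_lit 210]) (.leaf (nat_lit 147464) [nat_lit 60, nat_lit 450, nat_lit 270, nat_lit 210, nat_lit 60]))))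
noncomputable def r387 : WT := (.node (nat_lit 104) (.leaf (nat_lit 265217) [nat_lit 150, nat_lit 210, nat_lit 270, nat_lit 150, nat_lit 240]) (.leaf (nat_lit 121859) [nat_lit 150, nat_lit 270, nat_lit 420, nat_lit 420, nat_lit 150]))
noncomputable def r388 : WT := (.node (nat_lit 107) (.leaf (nat_lit 276481) [nat_lit 60, nat_lit 270, nat_lit 210, nat_lit 60, nat_lit 240]) (.leaf (nat_lit 121864) [nat_lit 150, nat_lit 450, nat_lit 450, nat_lit 240, nat_lit 150]))
noncomputable def r389 : WT := (.node (nat_lit 110) (.leaf (nat_lit 214022) [nat_lit 240, nat_lit 60, nat_lit 450, nat_lit 240, nat_lit 60]) (.leaf (nat_lit 208904) [nat_lit 270, nat_lit 450, nat_lit 330, nat_lit 300, nat_lit 210]))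
noncomputable def r390 : WT := (.node (nat_lit 100) (.node (nat_lit 98) (.node (nat_lit 97) (.leaf (nat_lit 206857) [nat_lit 420, nat_lit 240, nat_lit 300, nat_lit 330, nat_lit 210]) (.leaf (nat_lit 81925) [nat_lit 150, nat_lit 420, nat_lit 240, nat_lit 150])) (.node (nat_lit 99) (.leaf (nat_lit 353282) [nat_lit 150, nat_lit 300, nat_lit 210, nat_lit 300, nat_lit 150]) (.leaf (nat_lit 351233) [nat_lit 300, nat_lit 150, nat_lit 300, nat_lit 210, nat_lit 150]))) (.node (nat_lit 105) (.node (nat_lit 102) (.node (nat_lit 101) (.leaf (nat_lit 276490) [nat_lit 270, nat_lit 60, nat_lit 210, nat_lit 240, nat_lit 60]) (.leaf (nat_lit 275466) [nat_lit 270, nat_lit 60, nat_lit 210, nat_lit 60, nat_lit 240])) (.node (nat_lit 103) (.leaf (nat_lit 300040) [nat_lit 60, nat_lit 270, nat_lit 210, nat_lit 240, nat_lit 60]) r387)) (.node (nat_lit 108) (.node (nat_lit 106) (.leaf (nat_lit 178180) [nat_lit 60, nat_lit 450, nat_lit 240, nat_lit 450, nat_lit 60]) r388) (.node (nat_lit 109) (.leaf (nat_lit 206853) [nat_lit 210, nat_lit 330,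 nat_lit 420, nat_lit 240, nat_lit 300]) r389))))
noncomputable def r391 : WT := (.node (nat_lit 76) (.node (nat_lit 70) (.node (nat_lit 67) (.node (nat_lit 66) (.leaf (nat_lit 206850) [nat_lit 210, nat_lit 330, nat_lit 300, nat_lit 270, nat_lit 450]) (.leaf (nat_lit 208899) [nat_lit 210, nat_lit 300, nat_lit 330, nat_lit 420, nat_lit 240])) (.node (nat_lit 68) (.leaf (nat_lit 341002) [nat_lit 120, nat_lit 330, nat_lit 300, nat_lit 120, nat_lit 300]) r377)) (.node (nat_lit 73) (.node (nat_lit 71) (.leaf (nat_lit 351242) [nat_lit 150, nat_lit 210, nat_lit 300, nat_lit 150, nat_lit 300]) r378) (.node (nat_lit 74) (.leaf (nat_lit 357382) [nat_lit 210, nat_lit 300, nat_lit 210, nat_lit 330, nat_lit 300]) r379))) (.node (nat_lit 85) (.node (nat_lit 80) (.node (nat_lit 78) r380 r381) (.node (nat_lit 82) r382 r383)) (.node (nat_lit 91) (.node (nat_lit 88) r384 r385) (.node (nat_lit 96) r386 r390))))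
noncomputable def r392 : WT := (.node (nat_lit 28) (.node (nat_lit 22) (.node (nat_lit 20) (.node (nat_lit 19) (.leaf (nat_lit 177159) [nat_lit 60, nat_lit 420, nat_lit 60, nat_lit 330, nat_lit 240]) (.leaf (nat_lit 205826) [nat_lit 210, nat_lit 330, nat_lit 270, nat_lit 300, nat_lit 450])) (.node (nat_lit 21) (.leaf (nat_lit 171015) [nat_lit 150, nat_lit 420, nat_lit 150, nat_lit 450, nat_lit 210]) (.leaf (nat_lit 172036) [nat_lit 240, nat_lit 150, nat_lit 240, nat_lit 450, nat_lit 150]))) (.node (nat_lit 25) (.node (nat_lit 23) (.leaf (nat_lit 348168) [nat_lit 300, nat_lit 150, nat_lit 210, nat_lit 150, nat_lit 300]) r368) (.node (nat_lit 26) (.leaf (nat_lit 334852) [nat_lit 120, nat_lit 330, nat_lit 210, nat_lit 120, nat_lit 210]) r369))) (.node (nat_lit 41) (.node (nat_lit 33) (.node (nat_lit 30) r370 r371) (.node (nat_lit 37) r372 r373)) (.node (nat_lit 54) (.node (nat_lit 47) r374 r375) (.node (nat_lit 65) r376 r391))))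
noncomputable def w9 : WT := (.node (nat_lit 1) (.leaf (nat_lit 8192) [nat_lit 330]) (.node (nat_lit 4) (.node (nat_lit 2) (.leaf (nat_lit 45056) [nat_lit 300, nat_lit 330, nat_lit 300]) (.node (nat_lit 3) (.leaf (nat_lit 101378) [nat_lit 210, nat_lit 330, nat_lit 300, nat_lit 210]) (.leaf (nat_lit 39942) [nat_lit 150, nat_lit 210, nat_lit 150]))) (.node (nat_lit 9) (.node (nat_lit 6) r365 r366) (.node (nat_lit 18) r367 r392))))
noncomputable def r393 : WT := (.node (nat_lit 6) (.leaf (nat_lit 18435) [nat_lit 450, nat_lit 360, nat_lit 180]) (.leaf (nat_lit 20487) [nat_lit 180, nat_lit 420, nat_lit 180]))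
noncomputable def r394 : WT := (.node (nat_lit 8) (.leaf (nat_lit 69636) [nat_lit 180, nat_lit 270, nat_lit 390, nat_lit 210]) (.leaf (nat_lit 11265) [nat_lit 360, nat_lit 360]))
noncomputable def r395 : WT := (.node (nat_lit 10) (.leaf (nat_lit 60421) [nat_lit 240, nat_lit 360, nat_lit 450, nat_lit 210]) (.leaf (nat_lit 15363) [nat_lit 420, nat_lit 360, nat_lit 420]))
noncomputable def r396 : WT := (.node (nat_lit 12) (.leaf (nat_lit 52231) [nat_lit 360, nat_lit 270, nat_lit 390, nat_lit 270]) (.node (nat_lit 13) (.leaf (nat_lit 18439) [nat_lit 180, nat_lit 360, nat_lit 450]) (.node (nat_lit 14) (.leaf (nat_lit 19463) [nat_lit 450, nat_lit 180, nat_lit 450]) (.leaf (nat_lit 68617) [nat_lit 450, nat_lit 180, nat_lit 240, nat_lit 210]))))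
noncomputable def r397 : WT := (.node (nat_lit 23) (.leaf (nat_lit 52233) [nat_lit 270, nat_lit 390, nat_lit 270, nat_lit 360]) (.leaf (nat_lit 55305) [nat_lit 210, nat_lit 270, nat_lit 360, nat_lit 420]))
noncomputable def r398 : WT := (.node (nat_lit 25) (.leaf (nat_lit 48135) [nat_lit 360, nat_lit 150, nat_lit 360, nat_lit 150]) (.leaf (nat_lit 48137) [nat_lit 150, nat_lit 360, nat_lit 150, nat_lit 360]))
noncomputable def r399 : WT := (.node (nat_lit 27) (.leaf (nat_lit 46087) [nat_lit 360, nat_lit 180, nat_lit 390, nat_lit 420]) (.node (nat_lit 28) (.leaf (nat_lit 59398) [nat_lit 420, nat_lit 390, nat_lit 450, nat_lit 180]) (.leaf (nat_lit 64521) [nat_lit 240, nat_lit 210, nat_lit 180, nat_lit 450])))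
noncomputable def r400 : WT := (.node (nat_lit 31) (.node (nat_lit 30) (.leaf (nat_lit 61449) [nat_lit 270, nat_lit 270, nat_lit 360, nat_lit 240]) (.leaf (nat_lit 58372) [nat_lit 420, nat_lit 180, nat_lit 390, nat_lit 450])) (.node (nat_lit 32) (.leaf (nat_lit 71689) [nat_lit 450, nat_lit 270, nat_lit 180, nat_lit 210]) (.node (nat_lit 33) (.leaf (nat_lit 53257) [nat_lit 300, nat_lit 360, nat_lit 300, nat_lit 360]) (.leaf (nat_lit 52230) [nat_lit 240, nat_lit 390, nat_lit 390, nat_lit 240]))))
noncomputable def r401 : WT := (.node (nat_lit 37) (.node (nat_lit 35) (.leaf (nat_lit 47113) [nat_lit 420, nat_lit 180, nat_lit 420, nat_lit 360]) (.node (nat_lit 36) (.leaf (nat_lit 51207) [nat_lit 360, nat_lit 180, nat_lit 450, nat_lit 180]) (.leaf (nat_lit 56323) [nat_lit 420, nat_lit 420, nat_lit 360, nat_lit 180]))) (.node (nat_lit 39) (.node (nat_lit 38) (.leaf (nat_lit 58377) [nat_lit 180, nat_lit 450, nat_lit 390, nat_lit 420]) (.leaf (nat_lit 57353) [nat_lit 450, nat_lit 180, nat_lit 420, nat_lit 420])) (.node (nat_lit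 40) (.leaf (nat_lit 63497) [nat_lit 420, nat_lit 420, nat_lit 180, nat_lit 450]) (.leaf (nat_lit 47111) [nat_lit 360, nat_lit 420, nat_lit 180, nat_lit 420]))))
noncomputable def r402 : WT := (.node (nat_lit 51) (.leaf (nat_lit 51209) [nat_lit 180, nat_lit 450, nat_lit 180, nat_lit 360]) (.leaf (nat_lit 60425) [nat_lit 450, nat_lit 210, nat_lit 360, nat_lit 240]))
noncomputable def r403 : WT := (.node (nat_lit 54) (.leaf (nat_lit 54277) [nat_lit 420, nat_lit 360, nat_lit 450, nat_lit 450]) (.leaf (nat_lit 46086) [nat_lit 180, nat_lit 390, nat_lit 390, nat_lit 450]))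
noncomputable def r404 : WT := (.node (nat_lit 56) (.leaf (nat_lit 54281) [nat_lit 450, nat_lit 450, nat_lit 360, nat_lit 420]) (.leaf (nat_lit 50182) [nat_lit 450, nat_lit 390, nat_lit 390, nat_lit 180]))
noncomputable def r405 : WT := (.node (nat_lit 58) (.leaf (nat_lit 50185) [nat_lit 420, nat_lit 390, nat_lit 180, nat_lit 360]) (.leaf (nat_lit 66569) [nat_lit 180, nat_lit 450, nat_lit 450, nat_lit 180]))
noncomputable def r406 : WT := (.node (nat_lit 47) (.node (nat_lit 44) (.node (nat_lit 42) (.leaf (nat_lit 67593) [nat_lit 180, nat_lit 210, nat_lit 270, nat_lit 180]) (.node (nat_lit 43) (.leaf (nat_lit 56329) [nat_lit 180, nat_lit 360, nat_lit 420, nat_lit 420]) (.leaf (nat_lit 48131) [nat_lit 150, nat_lit 360, nat_lit 360, nat_lit 150]))) (.node (nat_lit 45) (.leaf (nat_lit 65545) [nat_lit 240, nat_lit 210, nat_lit 360, nat_lit 180]) (.node (nat_lit 46) (.leaf (nat_lit 46089) [nat_lit 180, nat_lit 390, nat_lit 420, nat_lit 360]) (.leaf (nat_lit 59401) [nat_lit 450, nat_lit 390, nat_lit 180, nat_lit 420])))) (.node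 (nat_lit 52) (.node (nat_lit 49) (.node (nat_lit 48) (.leaf (nat_lit 49159) [nat_lit 360, nat_lit 450, nat_lit 390, nat_lit 450]) (.leaf (nat_lit 53251) [nat_lit 300, nat_lit 360, nat_lit 360, nat_lit 300])) (.node (nat_lit 50) (.leaf (nat_lit 49158) [nat_lit 420, nat_lit 390, nat_lit 390, nat_lit 420]) r402)) (.node (nat_lit 55) (.node (nat_lit 53) (.leaf (nat_lit 49161) [nat_lit 450, nat_lit 390, nat_lit 450, nat_lit 360]) r403) (.node (nat_lit 57) r404 r405))))
noncomputable def r407 : WT := (.node (nat_lit 20) (.node (nat_lit 17) (.node (nat_lit 16) (.leaf (nat_lit 61445) [nat_lit 240, nat_lit 360, nat_lit 270, nat_lit 270]) (.leaf (nat_lit 50183) [nat_lit 360, nat_lit 420, nat_lit 390, nat_lit 180])) (.node (nat_lit 18) (.leaf (nat_lit 62473) [nat_lit 180, nat_lit 210, nat_lit 180, nat_lit 240]) (.node (nat_lit 19) (.leaf (nat_lit 69641) [nat_lit 240, nat_lit 180, nat_lit 390, nat_lit 210]) (.leaf (nat_lit 55301) [nat_lit 420, nat_lit 360, nat_lit 210, nat_lit 270])))) (.node (nat_lit 26) (.node (nat_lit 22) (.node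 (nat_lit 21) (.leaf (nat_lit 70665) [nat_lit 240, nat_lit 420, nat_lit 180, nat_lit 210]) (.leaf (nat_lit 53255) [nat_lit 360, nat_lit 300, nat_lit 360, nat_lit 300])) (.node (nat_lit 24) r397 r398)) (.node (nat_lit 34) (.node (nat_lit 29) r399 r400) (.node (nat_lit 41) r401 r406))))
noncomputable def w10 : WT := (.node (nat_lit 2) (.node (nat_lit 1) (.leaf (nat_lit 9216) [nat_lit 390]) (.leaf (nat_lit 21508) [nat_lit 300, nat_lit 390, nat_lit 300])) (.node (nat_lit 7) (.node (nat_lit 4) (.node (nat_lit 3) (.leaf (nat_lit 16387) [nat_lit 240, nat_lit 360, nat_lit 240]) (.leaf (nat_lit 17412) [nat_lit 150, nat_lit 390, nat_lit 150])) (.node (nat_lit 5) (.leaf (nat_lit 65541) [nat_lit 180, nat_lit 360, nat_lit 240, nat_lit 210]) r393)) (.node (nat_lit 11) (.node (nat_lit 9) r394 r395) (.node (nat_lit 15) r396 r407))))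
noncomputable def r408 : WT := (.node (nat_lit 4) (.leaf (nat_lit 16384) [nat_lit 270, nat_lit 390, nat_lit 270]) (.leaf (nat_lit 17408) [nat_lit 150, nat_lit 360, nat_lit 150]))
noncomputable def r409 : WT := (.node (nat_lit 6) (.leaf (nat_lit 55296) [nat_lit 450, nat_lit 390, nat_lit 240, nat_lit 210]) (.leaf (nat_lit 20480) [nat_lit 180, nat_lit 450, nat_lit 180]))
noncomputable def r410 : WT := (.node (nat_lit 8) (.leaf (nat_lit 52224) [nat_lit 390, nat_lit 240, nat_lit 360, nat_lit 240]) (.leaf (nat_lit 15360) [nat_lit 450, nat_lit 390, nat_lit 450]))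
noncomputable def r411 : WT := (.node (nat_lit 11) (.node (nat_lit 10) (.leaf (nat_lit 18436) [nat_lit 180, nat_lit 390, nat_lit 420]) (.leaf (nat_lit 19456) [nat_lit 420, nat_lit 180, nat_lit 420])) (.node (nat_lit 12) (.leaf (nat_lit 11264) [nat_lit 390, nat_lit 390]) (.leaf (nat_lit 61440) [nat_lit 270, nat_lit 390, nat_lit 240, nat_lit 240])))
noncomputable def r412 : WT := (.node (nat_lit 21) (.leaf (nat_lit 48128) [nat_lit 390, nat_lit 150, nat_lit 390, nat_lit 150]) (.leaf (nat_lit 61444) [nat_lit 240, nat_lit 240, nat_lit 390, nat_lit 270]))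
noncomputable def r413 : WT := (.node (nat_lit 23) (.leaf (nat_lit 65540) [nat_lit 210, nat_lit 270, nat_lit 390, nat_lit 180]) (.leaf (nat_lit 68608) [nat_lit 210, nat_lit 270, nat_lit 180, nat_lit 420]))
noncomputable def r414 : WT := (.node (nat_lit 25) (.leaf (nat_lit 47104) [nat_lit 390, nat_lit 450, nat_lit 180, nat_lit 450]) (.node (nat_lit 26) (.leaf (nat_lit 69637) [nat_lit 210, nat_lit 360, nat_lit 240, nat_lit 180]) (.leaf (nat_lit 55300) [nat_lit 240, nat_lit 210, nat_lit 390, nat_lit 450])))
noncomputable def r415 : WT := (.node (nat_lit 29) (.node (nat_lit 28) (.leaf (nat_lit 56326) [nat_lit 180, nat_lit 390, nat_lit 450, nat_lit 450]) (.leaf (nat_lit 48130) [nat_lit 150, nat_lit 390, nat_lit 150, nat_lit 390])) (.node (nat_lit 30) (.leaf (nat_lit 53254) [nat_lit 300, nat_lit 390, nat_lit 390, nat_lit 300]) (.leaf (nat_lit 49154) [nat_lit 420, nat_lit 360, nat_lit 420, nat_lit 390])))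
noncomputable def r416 : WT := (.node (nat_lit 33) (.node (nat_lit 32) (.leaf (nat_lit 46082) [nat_lit 450, nat_lit 360, nat_lit 180, nat_lit 390]) (.leaf (nat_lit 52227) [nat_lit 270, nat_lit 360, nat_lit 360, nat_lit 270])) (.node (nat_lit 34) (.leaf (nat_lit 58373) [nat_lit 420, nat_lit 360, nat_lit 180, nat_lit 450]) (.leaf (nat_lit 48134) [nat_lit 150, nat_lit 390, nat_lit 390, nat_lit 150])))
noncomputable def r417 : WT := (.node (nat_lit 38) (.node (nat_lit 36) (.leaf (nat_lit 71680) [nat_lit 210, nat_lit 180, nat_lit 240, nat_lit 420]) (.node (nat_lit 37) (.leaf (nat_lit 59395) [nat_lit 180, nat_lit 420, nat_lit 360, nat_lit 450]) (.leaf (nat_lit 50176) [nat_lit 390, nat_lit 180, nat_lit 360, nat_lit 450]))) (.node (nat_lit 39) (.leaf (nat_lit 50178) [nat_lit 180, nat_lit 360, nat_lit 450, nat_lit 390]) (.node (nat_lit 40) (.leaf (nat_lit 58368) [nat_lit 450, nat_lit 360, nat_lit 420, nat_lit 180]) (.leaf (nat_lit 65536) [nat_lit 180, nat_lit 390, nat_lit 210, nat_lit 270]))))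
noncomputable def r418 : WT := (.node (nat_lit 53) (.leaf (nat_lit 67584) [nat_lit 180, nat_lit 240, nat_lit 210, nat_lit 180]) (.leaf (nat_lit 49152) [nat_lit 390, nat_lit 420, nat_lit 360, nat_lit 420]))
noncomputable def r419 : WT := (.node (nat_lit 55) (.leaf (nat_lit 47106) [nat_lit 450, nat_lit 180, nat_lit 450, nat_lit 390]) (.leaf (nat_lit 66560) [nat_lit 180, nat_lit 420, nat_lit 420, nat_lit 180]))
noncomputable def r420 : WT := (.node (nat_lit 57) (.leaf (nat_lit 50179) [nat_lit 180, nat_lit 360, nat_lit 360, nat_lit 420]) (.node (nat_lit 58) (.leaf (nat_lit 57344) [nat_lit 450, nat_lit 450, nat_lit 180, nat_lit 420]) (.leaf (nat_lit 56320) [nat_lit 450, nat_lit 450, nat_lit 390, nat_lit 180])))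
noncomputable def r421 : WT := (.node (nat_lit 47) (.node (nat_lit 44) (.node (nat_lit 42) (.leaf (nat_lit 63488) [nat_lit 420, nat_lit 180, nat_lit 450, nat_lit 450]) (.node (nat_lit 43) (.leaf (nat_lit 51202) [nat_lit 180, nat_lit 420, nat_lit 180, nat_lit 390]) (.leaf (nat_lit 49155) [nat_lit 450, nat_lit 360, nat_lit 360, nat_lit 450]))) (.node (nat_lit 45) (.leaf (nat_lit 54276) [nat_lit 420, nat_lit 420, nat_lit 390, nat_lit 450]) (.node (nat_lit 46) (.leaf (nat_lit 46080) [nat_lit 390, nat_lit 450, nat_lit 360, nat_lit 180]) (.leaf (nat_lit 59392) [nat_lit 450, nat_lit 180, nat_lit 360, nat_lit 420])))) (.node (nat_lit 51) (.node (nat_lit 49) (.node (nat_lit 48) (.leaf (nat_lit 53250) [nat_lit 300, nat_lit 390, nat_lit 300, nat_lit 390]) (.leaf (nat_lit 51200) [nat_lit 390, nat_lit 180, nat_lit 420, nat_lit 180])) (.node (nat_lit 50) (.leaf (nat_lit 46083) [nat_lit 420, nat_lit 360, nat_lit 360, nat_lit 180]) (.leaf (nat_lit 54272) [nat_lit 450, nat_lit 390, nat_lit 420, nat_lit 420]))) (.node (nat_lit 54) (.node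 (nat_lit 52) (.leaf (nat_lit 60416) [nat_lit 270, nat_lit 390, nat_lit 210, nat_lit 420]) r418) (.node (nat_lit 56) r419 r420))))
noncomputable def r422 : WT := (.node (nat_lit 19) (.node (nat_lit 15) (.node (nat_lit 14) (.leaf (nat_lit 62464) [nat_lit 270, nat_lit 180, nat_lit 210, nat_lit 180]) (.leaf (nat_lit 52226) [nat_lit 240, nat_lit 360, nat_lit 240, nat_lit 390])) (.node (nat_lit 17) (.node (nat_lit 16) (.leaf (nat_lit 53248) [nat_lit 390, nat_lit 300, nat_lit 390, nat_lit 300]) (.leaf (nat_lit 64512) [nat_lit 420, nat_lit 180, nat_lit 210, nat_lit 270])) (.node (nat_lit 18) (.leaf (nat_lit 69632) [nat_lit 210, nat_lit 360, nat_lit 180, nat_lit 270]) (.leaf (nat_lit 60420) [nat_lit 210, nat_lit 420, nat_lit 390, nat_lit 270])))) (.node (nat_lit 27) (.node (nat_lit 22) (.node (nat_lit 20) (.leaf (nat_lit 70656) [nat_lit 210, nat_lit 180, nat_lit 450, nat_lit 270]) r412) (.node (nat_lit 24) r413 r414)) (.node (nat_lit 35) (.node (nat_lit 31) r415 r416) (.node (nat_lit 41) r417 r421))))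
noncomputable def w11 : WT := (.node (nat_lit 1) (.leaf (nat_lit 9218) [nat_lit 360]) (.node (nat_lit 5) (.node (nat_lit 2) (.leaf (nat_lit 21504) [nat_lit 300, nat_lit 360, nat_lit 300]) (.node (nat_lit 3) (.leaf (nat_lit 18432) [nat_lit 420, nat_lit 390, nat_lit 180]) r408)) (.node (nat_lit 9) (.node (nat_lit 7) r409 r410) (.node (nat_lit 13) r411 r422))))
noncomputable def r423 : WT := (.node (nat_lit 4) (.leaf (nat_lit 23555) [nat_lit 240, nat_lit 420, nat_lit 240]) (.leaf (nat_lit 12289) [nat_lit 420, nat_lit 420]))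
noncomputable def r424 : WT := (.node (nat_lit 6) (.leaf (nat_lit 22533) [nat_lit 420, nat_lit 210, nat_lit 270]) (.node (nat_lit 7) (.leaf (nat_lit 19462) [nat_lit 390, nat_lit 420, nat_lit 180]) (.leaf (nat_lit 204808) [nat_lit 120, nat_lit 450, nat_lit 330, nat_lit 120, nat_lit 330])))
noncomputable def r425 : WT := (.node (nat_lit 10) (.node (nat_lit 9) (.leaf (nat_lit 205835) [nat_lit 300, nat_lit 240, nat_lit 330, nat_lit 210, nat_lit 330]) (.leaf (nat_lit 80905) [nat_lit 150, nat_lit 240, nat_lit 330, nat_lit 150])) (.node (nat_lit 11) (.leaf (nat_lit 24580) [nat_lit 120, nat_lit 450, nat_lit 120]) (.node (nat_lit 12) (.leaf (nat_lit 20483) [nat_lit 180, nat_lit 360, nat_lit 180]) (.node (nat_lit 13) (.leaf (nat_lit 76805) [nat_lit 240, nat_lit 420, nat_lit 270, nat_lit 270]) (.leaf (nat_lit 19458) [nat_lit 180, nat_lit 420, nat_lit 390])))))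
noncomputable def r426 : WT := (.node (nat_lit 20) (.leaf (nat_lit 71688) [nat_lit 390, nat_lit 210, nat_lit 180, nat_lit 240]) (.leaf (nat_lit 209928) [nat_lit 300, nat_lit 450, nat_lit 330, nat_lit 300, nat_lit 330]))
noncomputable def r427 : WT := (.node (nat_lit 22) (.leaf (nat_lit 91145) [nat_lit 240, nat_lit 300, nat_lit 210, nat_lit 300]) (.leaf (nat_lit 115721) [nat_lit 420, nat_lit 210, nat_lit 60, nat_lit 270, nat_lit 60]))
noncomputable def r428 : WT := (.node (nat_lit 24) (.leaf (nat_lit 175115) [nat_lit 210, nat_lit 60, nat_lit 330, nat_lit 240, nat_lit 60]) (.leaf (nat_lit 77828) [nat_lit 210, nat_lit 240, nat_lit 450, nat_lit 270]))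
noncomputable def r429 : WT := (.node (nat_lit 26) (.leaf (nat_lit 113673) [nat_lit 420, nat_lit 210, nat_lit 150, nat_lit 270, nat_lit 150]) (.node (nat_lit 27) (.leaf (nat_lit 73735) [nat_lit 420, nat_lit 120, nat_lit 420, nat_lit 120]) (.leaf (nat_lit 177163) [nat_lit 60, nat_lit 330, nat_lit 240, nat_lit 330, nat_lit 60])))
noncomputable def r430 : WT := (.node (nat_lit 29) (.leaf (nat_lit 207883) [nat_lit 240, nat_lit 330, nat_lit 300, nat_lit 210, nat_lit 330]) (.node (nat_lit 30) (.leaf (nat_lit 75783) [nat_lit 420, nat_lit 300, nat_lit 420, nat_lit 300]) (.leaf (nat_lit 176136) [nat_lit 120, nat_lit 450, nat_lit 60, nat_lit 120, nat_lit 60])))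
noncomputable def r431 : WT := (.node (nat_lit 33) (.node (nat_lit 32) (.leaf (nat_lit 206859) [nat_lit 240, nat_lit 300, nat_lit 330, nat_lit 210, nat_lit 330]) (.leaf (nat_lit 59399) [nat_lit 360, nat_lit 450, nat_lit 390, nat_lit 180])) (.node (nat_lit 34) (.leaf (nat_lit 174088) [nat_lit 300, nat_lit 450, nat_lit 150, nat_lit 300, nat_lit 150]) (.leaf (nat_lit 79881) [nat_lit 240, nat_lit 120, nat_lit 210, nat_lit 120])))
noncomputable def r432 : WT := (.node (nat_lit 37) (.node (nat_lit 36) (.leaf (nat_lit 134150) [nat_lit 270, nat_lit 210, nat_lit 450, nat_lit 270, nat_lit 270]) (.leaf (nat_lit 130055) [nat_lit 240, nat_lit 420, nat_lit 60, nat_lit 240, nat_lit 60])) (.node (nat_lit 38) (.leaf (nat_lit 129031) [nat_lit 240, nat_lit 420, nat_lit 150, nat_lit 240, nat_lit 150]) (.node (nat_lit 39) (.leaf (nat_lit 114697) [nat_lit 420, nat_lit 150, nat_lit 330, nat_lit 270, nat_lit 150]) (.leaf (nat_lit 81929) [nat_lit 240, nat_lit 150, nat_lit 330, nat_lit 150]))))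
noncomputable def r433 : WT := (.node (nat_lit 43) (.node (nat_lit 41) (.leaf (nat_lit 66564) [nat_lit 420, nat_lit 180, nat_lit 390, nat_lit 180]) (.node (nat_lit 42) (.leaf (nat_lit 147467) [nat_lit 60, nat_lit 330, nat_lit 60, nat_lit 210, nat_lit 240]) (.leaf (nat_lit 77833) [nat_lit 270, nat_lit 210, nat_lit 450, nat_lit 240]))) (.node (nat_lit 45) (.node (nat_lit 44) (.leaf (nat_lit 208907) [nat_lit 240, nat_lit 330, nat_lit 210, nat_lit 300, nat_lit 330]) (.leaf (nat_lit 86025) [nat_lit 60, nat_lit 240, nat_lit 60, nat_lit 210])) (.node (nat_lit 46) (.leaf (nat_lit 25607) [nat_lit 270, nat_lit 270, nat_lit 210]) (.node (nat_lit 47) (.leaf (nat_lit 167942) [nat_lit 120, nat_lit 300, nat_lit 450, nat_lit 120, nat_lit 300]) (.leaf (nat_lit 154631) [nat_lit 120, nat_lit 420, nat_lit 210, nat_lit 120, nat_lit 270])))))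
noncomputable def r434 : WT := (.node (nat_lit 60) (.leaf (nat_lit 211976) [nat_lit 120, nat_lit 450, nat_lit 240, nat_lit 120, nat_lit 270]) (.leaf (nat_lit 141320) [nat_lit 210, nat_lit 450, nat_lit 270, nat_lit 420, nat_lit 270]))
noncomputable def r435 : WT := (.node (nat_lit 63) (.leaf (nat_lit 171016) [nat_lit 150, nat_lit 450, nat_lit 150, nat_lit 330, nat_lit 210]) (.leaf (nat_lit 164875) [nat_lit 270, nat_lit 120, nat_lit 270, nat_lit 210, nat_lit 120]))
noncomputable def r436 : WT := (.node (nat_lit 65) (.leaf (nat_lit 126985) [nat_lit 420, nat_lit 210, nat_lit 300, nat_lit 270, nat_lit 300]) (.leaf (nat_lit 172043) [nat_lit 270, nat_lit 150, nat_lit 270, nat_lit 330, nat_lit 150]))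
noncomputable def r437 : WT := (.node (nat_lit 67) (.leaf (nat_lit 75785) [nat_lit 300, nat_lit 420, nat_lit 300, nat_lit 420]) (.leaf (nat_lit 139275) [nat_lit 210, nat_lit 60, nat_lit 330, nat_lit 60, nat_lit 240]))
noncomputable def r438 : WT := (.node (nat_lit 56) (.node (nat_lit 52) (.node (nat_lit 50) (.node (nat_lit 49) (.leaf (nat_lit 166920) [nat_lit 300, nat_lit 450, nat_lit 120, nat_lit 300, nat_lit 120]) (.leaf (nat_lit 47105) [nat_lit 180, nat_lit 420, nat_lit 360, nat_lit 360])) (.node (nat_lit 51) (.leaf (nat_lit 22535) [nat_lit 210, nat_lit 270, nat_lit 420]) (.leaf (nat_lit 56325) [nat_lit 420, nat_lit 360, nat_lit 180, nat_lit 360]))) (.node (nat_lit 54) (.node (nat_lit 53) (.leaf (nat_lit 128007) [nat_lit 240, nat_lit 420, nat_lit 120, nat_lit 240, nat_lit 120]) (.leaf (nat_lit 90121) [nat_lit 300, nat_lit 240, nat_lit 210, nat_lit 300])) (.node (nat_lit 55) (.leaf (nat_lit 233483) [nat_lit 240, nat_lit 330, nat_lit 210, nat_lit 330, nat_lit 300]) (.leaf (nat_lit 59400) [nat_lit 390, nat_lit 450, nat_lit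 180, nat_lit 360])))) (.node (nat_lit 61) (.node (nat_lit 58) (.node (nat_lit 57) (.leaf (nat_lit 136197) [nat_lit 120, nat_lit 240, nat_lit 420, nat_lit 120, nat_lit 240]) (.leaf (nat_lit 158724) [nat_lit 60, nat_lit 120, nat_lit 60, nat_lit 450, nat_lit 120])) (.node (nat_lit 59) (.leaf (nat_lit 111625) [nat_lit 420, nat_lit 210, nat_lit 120, nat_lit 270, nat_lit 120]) r434)) (.node (nat_lit 64) (.node (nat_lit 62) (.leaf (nat_lit 49156) [nat_lit 360, nat_lit 420, nat_lit 390, nat_lit 390]) r435) (.node (nat_lit 66) r436 r437))))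
noncomputable def r439 : WT := (.node (nat_lit 69) (.leaf (nat_lit 88073) [nat_lit 300, nat_lit 240, nat_lit 300, nat_lit 210]) (.leaf (nat_lit 213003) [nat_lit 270, nat_lit 60, nat_lit 330, nat_lit 60, nat_lit 270]))
noncomputable def r440 : WT := (.node (nat_lit 71) (.leaf (nat_lit 223240) [nat_lit 120, nat_lit 450, nat_lit 300, nat_lit 120, nat_lit 300]) (.leaf (nat_lit 83977) [nat_lit 120, nat_lit 240, nat_lit 120, nat_lit 210]))
noncomputable def r441 : WT := (.node (nat_lit 73) (.leaf (nat_lit 132103) [nat_lit 240, nat_lit 420, nat_lit 300, nat_lit 240, nat_lit 300]) (.leaf (nat_lit 114699) [nat_lit 150, nat_lit 330, nat_lit 270, nat_lit 150, nat_lit 420]))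
noncomputable def r442 : WT := (.node (nat_lit 75) (.leaf (nat_lit 150533) [nat_lit 300, nat_lit 240, nat_lit 420, nat_lit 300, nat_lit 240]) (.node (nat_lit 76) (.leaf (nat_lit 154635) [nat_lit 210, nat_lit 120, nat_lit 270, nat_lit 420, nat_lit 120]) (.leaf (nat_lit 160772) [nat_lit 330, nat_lit 120, nat_lit 330, nat_lit 450, nat_lit 120])))
noncomputable def r443 : WT := (.node (nat_lit 78) (.leaf (nat_lit 58375) [nat_lit 360, nat_lit 180, nat_lit 450, nat_lit 390]) (.leaf (nat_lit 171019) [nat_lit 150, nat_lit 450, nat_lit 210, nat_lit 330, nat_lit 150]))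
noncomputable def r444 : WT := (.node (nat_lit 80) (.leaf (nat_lit 178179) [nat_lit 60, nat_lit 330, nat_lit 60, nat_lit 420, nat_lit 270]) (.node (nat_lit 81) (.leaf (nat_lit 46085) [nat_lit 360, nat_lit 360, nat_lit 180, nat_lit 390]) (.leaf (nat_lit 74761) [nat_lit 270, nat_lit 450, nat_lit 270, nat_lit 420])))
noncomputable def r445 : WT := (.node (nat_lit 83) (.leaf (nat_lit 219144) [nat_lit 300, nat_lit 450, nat_lit 240, nat_lit 300, nat_lit 270]) (.node (nat_lit 84) (.leaf (nat_lit 108553) [nat_lit 420, nat_lit 270, nat_lit 420, nat_lit 210, nat_lit 240]) (.leaf (nat_lit 181259) [nat_lit 60, nat_lit 270, nat_lit 330, nat_lit 270, nat_lit 60])))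
noncomputable def r446 : WT := (.node (nat_lit 86) (.leaf (nat_lit 50177) [nat_lit 390, nat_lit 180, nat_lit 360, nat_lit 360]) (.node (nat_lit 87) (.leaf (nat_lit 74758) [nat_lit 240, nat_lit 450, nat_lit 450, nat_lit 240]) (.leaf (nat_lit 73737) [nat_lit 120, nat_lit 420, nat_lit 120, nat_lit 420])))
noncomputable def r447 : WT := (.node (nat_lit 90) (.node (nat_lit 89) (.leaf (nat_lit 214027) [nat_lit 60, nat_lit 270, nat_lit 330, nat_lit 60, nat_lit 270]) (.leaf (nat_lit 140291) [nat_lit 240, nat_lit 450, nat_lit 240, nat_lit 420, nat_lit 270])) (.node (nat_lit 91) (.leaf (nat_lit 231435) [nat_lit 270, nat_lit 300, nat_lit 270, nat_lit 210, nat_lit 300]) (.leaf (nat_lit 58374) [nat_lit 180, nat_lit 390, nat_lit 450, nat_lit 360])))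
noncomputable def r448 : WT := (.node (nat_lit 94) (.node (nat_lit 93) (.leaf (nat_lit 125963) [nat_lit 300, nat_lit 210, nat_lit 270, nat_lit 300, nat_lit 420]) (.leaf (nat_lit 54278) [nat_lit 420, nat_lit 390, nat_lit 450, nat_lit 390])) (.node (nat_lit 95) (.leaf (nat_lit 63489) [nat_lit 420, nat_lit 180, nat_lit 450, nat_lit 360]) (.node (nat_lit 96) (.leaf (nat_lit 85001) [nat_lit 150, nat_lit 240, nat_lit 150, nat_lit 210]) (.leaf (nat_lit 220171) [nat_lit 300, nat_lit 420, nat_lit 210, nat_lit 300, nat_lit 270]))))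
noncomputable def r449 : WT := (.node (nat_lit 100) (.node (nat_lit 98) (.leaf (nat_lit 75779) [nat_lit 300, nat_lit 420, nat_lit 420, nat_lit 300]) (.node (nat_lit 99) (.leaf (nat_lit 108547) [nat_lit 210, nat_lit 240, nat_lit 420, nat_lit 420, nat_lit 270]) (.leaf (nat_lit 60424) [nat_lit 390, nat_lit 270, nat_lit 390, nat_lit 210]))) (.node (nat_lit 101) (.leaf (nat_lit 87049) [nat_lit 180, nat_lit 270, nat_lit 180, nat_lit 210]) (.node (nat_lit 102) (.leaf (nat_lit 74759) [nat_lit 420, nat_lit 270, nat_lit 450, nat_lit 270]) (.leaf (nat_lit 173067) [nat_lit 150, nat_lit 270, nat_lit 270, nat_lit 330, nat_lit 150]))))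
noncomputable def r450 : WT := (.node (nat_lit 106) (.node (nat_lit 104) (.leaf (nat_lit 157700) [nat_lit 270, nat_lit 120, nat_lit 240, nat_lit 450, nat_lit 120]) (.node (nat_lit 105) (.leaf (nat_lit 113675) [nat_lit 210, nat_lit 150, nat_lit 270, nat_lit 150, nat_lit 420]) (.leaf (nat_lit 148483) [nat_lit 270, nat_lit 210, nat_lit 240, nat_lit 420, nat_lit 270]))) (.node (nat_lit 107) (.leaf (nat_lit 228356) [nat_lit 330, nat_lit 300, nat_lit 330, nat_lit 450, nat_lit 300]) (.node (nat_lit 108) (.leaf (nat_lit 141316) [nat_lit 270, nat_lit 420, nat_lit 210, nat_lit 450, nat_lit 270]) (.leaf (nat_lit 68616) [nat_lit 390, nat_lit 210, nat_lit 270, nat_lit 180]))))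
noncomputable def r451 : WT := (.node (nat_lit 113) (.node (nat_lit 111) (.node (nat_lit 110) (.leaf (nat_lit 123913) [nat_lit 420, nat_lit 300, nat_lit 210, nat_lit 300, nat_lit 270]) (.leaf (nat_lit 131079) [nat_lit 240, nat_lit 420, nat_lit 210, nat_lit 420, nat_lit 270])) (.node (nat_lit 112) (.leaf (nat_lit 108555) [nat_lit 270, nat_lit 420, nat_lit 210, nat_lit 240, nat_lit 420]) (.leaf (nat_lit 78857) [nat_lit 120, nat_lit 240, nat_lit 210, nat_lit 120]))) (.node (nat_lit 115) (.node (nat_lit 114) (.leaf (nat_lit 64514) [nat_lit 180, nat_lit 210, nat_lit 270, nat_lit 390]) (.leaf (nat_lit 220163) [nat_lit 210, nat_lit 300, nat_lit 270, nat_lit 420, nat_lit 300])) (.node (nat_lit 116) (.leaf (nat_lit 180235) [nat_lit 270, nat_lit 60, nat_lit 330, nat_lit 270, nat_lit 60]) (.leaf (nat_lit 167947) [nat_lit 300, nat_lit 120, nat_lit 450, nat_lit 300, nat_lit 120]))))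
noncomputable def r452 : WT := (.node (nat_lit 121) (.node (nat_lit 119) (.node (nat_lit 118) (.leaf (nat_lit 141323) [nat_lit 210, nat_lit 450, nat_lit 240, nat_lit 450, nat_lit 240]) (.leaf (nat_lit 151557) [nat_lit 300, nat_lit 240, nat_lit 420, nat_lit 240, nat_lit 300])) (.node (nat_lit 120) (.leaf (nat_lit 144389) [nat_lit 210, nat_lit 240, nat_lit 420, nat_lit 210, nat_lit 240]) (.leaf (nat_lit 140299) [nat_lit 270, nat_lit 420, nat_lit 240, nat_lit 450, nat_lit 240]))) (.node (nat_lit 124) (.node (nat_lit 122) (.leaf (nat_lit 120843) [nat_lit 120, nat_lit 210, nat_lit 120, nat_lit 270, nat_lit 420]) (.node (nat_lit 123) (.leaf (nat_lit 111627) [nat_lit 210, nat_lit 120, nat_lit 270, nat_lit 120, nat_lit 420]) (.leaf (nat_lit 162820) [nat_lit 300, nat_lit 120, nat_lit 300, nat_lit 450, nat_lit 120]))) (.node (nat_lit 125) (.leaf (nat_lit 200715) [nat_lit 300, nat_lit 270, nat_lit 300, nat_lit 270, nat_lit 210]) (.node (nat_lit 126) (.leaf (nat_lit 57352) [nat_lit 390, nat_lit 450, nat_lit 450, nat_lit 180]) (.leaf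 (nat_lit 188427) [nat_lit 270, nat_lit 120, nat_lit 270, nat_lit 120, nat_lit 210])))))
noncomputable def r453 : WT := (.node (nat_lit 141) (.leaf (nat_lit 47109) [nat_lit 360, nat_lit 360, nat_lit 420, nat_lit 180]) (.leaf (nat_lit 112649) [nat_lit 420, nat_lit 120, nat_lit 210, nat_lit 270, nat_lit 120]))
noncomputable def r454 : WT := (.node (nat_lit 143) (.leaf (nat_lit 210947) [nat_lit 270, nat_lit 420, nat_lit 270, nat_lit 420, nat_lit 270]) (.leaf (nat_lit 123915) [nat_lit 300, nat_lit 210, nat_lit 300, nat_lit 270, nat_lit 420]))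
noncomputable def r455 : WT := (.node (nat_lit 145) (.leaf (nat_lit 109576) [nat_lit 210, nat_lit 450, nat_lit 450, nat_lit 270, nat_lit 210]) (.leaf (nat_lit 163851) [nat_lit 270, nat_lit 270, nat_lit 120, nat_lit 210, nat_lit 120]))
noncomputable def r456 : WT := (.node (nat_lit 135) (.node (nat_lit 131) (.node (nat_lit 129) (.node (nat_lit 128) (.leaf (nat_lit 55303) [nat_lit 360, nat_lit 210, nat_lit 270, nat_lit 360]) (.leaf (nat_lit 148491) [nat_lit 270, nat_lit 420, nat_lit 270, nat_lit 210, nat_lit 240])) (.node (nat_lit 130) (.leaf (nat_lit 128011) [nat_lit 120, nat_lit 240, nat_lit 120, nat_lit 420, nat_lit 240]) (.leaf (nat_lit 202763) [nat_lit 300, nat_lit 270, nat_lit 270, nat_lit 300, nat_lit 210]))) (.node (nat_lit 133) (.node (nat_lit 132) (.leaf (nat_lit 203787) [nat_lit 270, nat_lit 300, nat_lit 270, nat_lit 300, nat_lit 210]) (.leaf (nat_lit 51206) [nat_lit 180, nat_lit 390, nat_lit 390, nat_lit 180])) (.node (nat_lit 134) (.leaf (nat_lit 121865) [nat_lit 420, nat_lit 150, nat_lit 330, nat_lit 150,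 nat_lit 270]) (.leaf (nat_lit 216067) [nat_lit 300, nat_lit 210, nat_lit 270, nat_lit 420, nat_lit 300])))) (.node (nat_lit 139) (.node (nat_lit 137) (.node (nat_lit 136) (.leaf (nat_lit 142347) [nat_lit 210, nat_lit 420, nat_lit 210, nat_lit 450, nat_lit 240]) (.leaf (nat_lit 66566) [nat_lit 180, nat_lit 390, nat_lit 180, nat_lit 420])) (.node (nat_lit 138) (.leaf (nat_lit 149512) [nat_lit 210, nat_lit 450, nat_lit 270, nat_lit 210, nat_lit 240]) (.leaf (nat_lit 138248) [nat_lit 120, nat_lit 450, nat_lit 270, nat_lit 120, nat_lit 240]))) (.node (nat_lit 142) (.node (nat_lit 140) (.leaf (nat_lit 109579) [nat_lit 210, nat_lit 450, nat_lit 210, nat_lit 240, nat_lit 420]) r453) (.node (nat_lit 144) r454 r455))))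
noncomputable def r457 : WT := (.node (nat_lit 148) (.leaf (nat_lit 72713) [nat_lit 210, nat_lit 240, nat_lit 240, nat_lit 420]) (.leaf (nat_lit 159748) [nat_lit 210, nat_lit 120, nat_lit 210, nat_lit 450, nat_lit 120]))
noncomputable def r458 : WT := (.node (nat_lit 150) (.leaf (nat_lit 102409) [nat_lit 420, nat_lit 240, nat_lit 210, nat_lit 420, nat_lit 420]) (.leaf (nat_lit 103427) [nat_lit 240, nat_lit 420, nat_lit 420, nat_lit 420, nat_lit 210]))
noncomputable def r459 : WT := (.node (nat_lit 152) (.leaf (nat_lit 225284) [nat_lit 120, nat_lit 300, nat_lit 120, nat_lit 450, nat_lit 300]) (.leaf (nat_lit 226308) [nat_lit 150, nat_lit 300, nat_lit 150, nat_lit 450, nat_lit 300]))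
noncomputable def r460 : WT := (.node (nat_lit 154) (.leaf (nat_lit 227332) [nat_lit 210, nat_lit 300, nat_lit 210, nat_lit 450, nat_lit 300]) (.leaf (nat_lit 112651) [nat_lit 120, nat_lit 210, nat_lit 270, nat_lit 120, nat_lit 420]))
noncomputable def r461 : WT := (.node (nat_lit 156) (.leaf (nat_lit 230411) [nat_lit 300, nat_lit 270, nat_lit 270, nat_lit 210, nat_lit 300]) (.leaf (nat_lit 104459) [nat_lit 240, nat_lit 240, nat_lit 240, nat_lit 420, nat_lit 420]))
noncomputable def r462 : WT := (.node (nat_lit 158) (.leaf (nat_lit 152584) [nat_lit 300, nat_lit 450, nat_lit 270, nat_lit 300, nat_lit 240]) (.leaf (nat_lit 191499) [nat_lit 270, nat_lit 150, nat_lit 270, nat_lit 150, nat_lit 210]))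
noncomputable def r463 : WT := (.node (nat_lit 160) (.leaf (nat_lit 56327) [nat_lit 360, nat_lit 180, nat_lit 360, nat_lit 420]) (.leaf (nat_lit 54279) [nat_lit 360, nat_lit 450, nat_lit 450, nat_lit 360]))
noncomputable def r464 : WT := (.node (nat_lit 162) (.leaf (nat_lit 63490) [nat_lit 180, nat_lit 450, nat_lit 450, nat_lit 390]) (.leaf (nat_lit 178187) [nat_lit 270, nat_lit 420, nat_lit 60, nat_lit 330, nat_lit 60]))
noncomputable def r465 : WT := (.node (nat_lit 164) (.leaf (nat_lit 179208) [nat_lit 210, nat_lit 450, nat_lit 60, nat_lit 330, nat_lit 60]) (.leaf (nat_lit 89097) [nat_lit 210, nat_lit 270, nat_lit 210, nat_lit 270]))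
noncomputable def r466 : WT := (.node (nat_lit 166) (.leaf (nat_lit 168971) [nat_lit 120, nat_lit 300, nat_lit 450, nat_lit 300, nat_lit 120]) (.leaf (nat_lit 184331) [nat_lit 240, nat_lit 240, nat_lit 240, nat_lit 240, nat_lit 210]))
noncomputable def r467 : WT := (.node (nat_lit 168) (.leaf (nat_lit 168966) [nat_lit 300, nat_lit 120, nat_lit 450, nat_lit 120, nat_lit 300]) (.leaf (nat_lit 125961) [nat_lit 420, nat_lit 300, nat_lit 210, nat_lit 270, nat_lit 300]))
noncomputable def r468 : WT := (.node (nat_lit 170) (.leaf (nat_lit 193544) [nat_lit 60, nat_lit 450, nat_lit 210, nat_lit 60, nat_lit 210]) (.leaf (nat_lit 198667) [nat_lit 150, nat_lit 270, nat_lit 150, nat_lit 270, nat_lit 210]))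
noncomputable def r469 : WT := (.node (nat_lit 172) (.leaf (nat_lit 57351) [nat_lit 360, nat_lit 450, nat_lit 180, nat_lit 420]) (.leaf (nat_lit 134155) [nat_lit 210, nat_lit 240, nat_lit 450, nat_lit 240, nat_lit 240]))
noncomputable def r470 : WT := (.node (nat_lit 174) (.leaf (nat_lit 54280) [nat_lit 390, nat_lit 450, nat_lit 390, nat_lit 420]) (.leaf (nat_lit 63491) [nat_lit 180, nat_lit 450, nat_lit 360, nat_lit 420]))
noncomputable def r471 : WT := (.node (nat_lit 176) (.leaf (nat_lit 73731) [nat_lit 120, nat_lit 420, nat_lit 420, nat_lit 120]) (.leaf (nat_lit 131075) [nat_lit 270, nat_lit 420, nat_lit 240, nat_lit 420, nat_lit 210]))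
noncomputable def r472 : WT := (.node (nat_lit 161) (.node (nat_lit 153) (.node (nat_lit 149) (.node (nat_lit 147) (.leaf (nat_lit 215051) [nat_lit 210, nat_lit 240, nat_lit 240, nat_lit 210, nat_lit 270]) r457) (.node (nat_lit 151) r458 r459)) (.node (nat_lit 157) (.node (nat_lit 155) r460 r461) (.node (nat_lit 159) r462 r463))) (.node (nat_lit 169) (.node (nat_lit 165) (.node (nat_lit 163) r464 r465) (.node (nat_lit 167) r466 r467)) (.node (nat_lit 173) (.node (nat_lit 171) r468 r469) (.node (nat_lit 175) r470 r471))))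
noncomputable def r473 : WT := (.node (nat_lit 88) (.node (nat_lit 77) (.node (nat_lit 72) (.node (nat_lit 70) r439 r440) (.node (nat_lit 74) r441 r442)) (.node (nat_lit 82) (.node (nat_lit 79) r443 r444) (.node (nat_lit 85) r445 r446))) (.node (nat_lit 109) (.node (nat_lit 97) (.node (nat_lit 92) r447 r448) (.node (nat_lit 103) r449 r450)) (.node (nat_lit 127) (.node (nat_lit 117) r451 r452) (.node (nat_lit 146) r456 r472))))
noncomputable def r474 : WT := (.node (nat_lit 23) (.node (nat_lit 17) (.node (nat_lit 15) (.leaf (nat_lit 57349) [nat_lit 420, nat_lit 360, nat_lit 450, nat_lit 180]) (.node (nat_lit 16) (.leaf (nat_lit 15361) [nat_lit 360, nat_lit 420, nat_lit 360]) (.leaf (nat_lit 70659) [nat_lit 180, nat_lit 210, nat_lit 360, nat_lit 240]))) (.node (nat_lit 19) (.node (nat_lit 18) (.leaf (nat_lit 18434) [nat_lit 390, nat_lit 180, nat_lit 390]) (.leaf (nat_lit 72711) [nat_lit 420, nat_lit 210, nat_lit 240, nat_lit 240])) (.node (nat_lit 21) r426 r427))) (.node (nat_lit 35) (.node (nat_lit 28) (.node (nat_lit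 25) r428 r429) (.node (nat_lit 31) r430 r431)) (.node (nat_lit 48) (.node (nat_lit 40) r432 r433) (.node (nat_lit 68) r438 r473))))
noncomputable def w12 : WT := (.node (nat_lit 1) (.leaf (nat_lit 10240) [nat_lit 450]) (.node (nat_lit 3) (.node (nat_lit 2) (.leaf (nat_lit 26628) [nat_lit 300, nat_lit 450, nat_lit 300]) (.leaf (nat_lit 13317) [nat_lit 240, nat_lit 210])) (.node (nat_lit 8) (.node (nat_lit 5) r423 r424) (.node (nat_lit 14) r425 r474))))
noncomputable def r475 : WT := (.node (nat_lit 5) (.leaf (nat_lit 19461) [nat_lit 360, nat_lit 450, nat_lit 180]) (.leaf (nat_lit 25600) [nat_lit 210, nat_lit 240, nat_lit 240]))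
noncomputable def r476 : WT := (.node (nat_lit 7) (.leaf (nat_lit 12288) [nat_lit 450, nat_lit 450]) (.leaf (nat_lit 24576) [nat_lit 120, nat_lit 420, nat_lit 120]))
noncomputable def r477 : WT := (.node (nat_lit 10) (.node (nat_lit 9) (.leaf (nat_lit 80896) [nat_lit 150, nat_lit 330, nat_lit 270, nat_lit 150]) (.leaf (nat_lit 160768) [nat_lit 120, nat_lit 420, nat_lit 330, nat_lit 120, nat_lit 330])) (.node (nat_lit 11) (.leaf (nat_lit 74752) [nat_lit 450, nat_lit 240, nat_lit 420, nat_lit 240]) (.node (nat_lit 12) (.leaf (nat_lit 20484) [nat_lit 180, nat_lit 390, nat_lit 180]) (.leaf (nat_lit 228352) [nat_lit 300, nat_lit 420, nat_lit 330, nat_lit 300, nat_lit 330]))))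
noncomputable def r478 : WT := (.node (nat_lit 21) (.leaf (nat_lit 114688) [nat_lit 450, nat_lit 150, nat_lit 240, nat_lit 330, nat_lit 150]) (.leaf (nat_lit 77824) [nat_lit 270, nat_lit 420, nat_lit 210, nat_lit 240]))
noncomputable def r479 : WT := (.node (nat_lit 23) (.leaf (nat_lit 19457) [nat_lit 180, nat_lit 450, nat_lit 360]) (.node (nat_lit 24) (.leaf (nat_lit 87040) [nat_lit 210, nat_lit 180, nat_lit 240, nat_lit 180]) (.leaf (nat_lit 70662) [nat_lit 270, nat_lit 390, nat_lit 210, nat_lit 180])))
noncomputable def r480 : WT := (.node (nat_lit 26) (.leaf (nat_lit 177152) [nat_lit 60, nat_lit 330, nat_lit 270, nat_lit 330, nat_lit 60]) (.node (nat_lit 27) (.leaf (nat_lit 154624) [nat_lit 120, nat_lit 450, nat_lit 240, nat_lit 120, nat_lit 210]) (.leaf (nat_lit 147456) [nat_lit 270, nat_lit 210, nat_lit 60, nat_lit 330, nat_lit 60])))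
noncomputable def r481 : WT := (.node (nat_lit 30) (.node (nat_lit 29) (.leaf (nat_lit 88064) [nat_lit 210, nat_lit 300, nat_lit 270, nat_lit 300]) (.leaf (nat_lit 158720) [nat_lit 120, nat_lit 420, nat_lit 60, nat_lit 120, nat_lit 60])) (.node (nat_lit 31) (.leaf (nat_lit 226304) [nat_lit 300, nat_lit 420, nat_lit 150, nat_lit 300, nat_lit 150]) (.leaf (nat_lit 175104) [nat_lit 60, nat_lit 270, nat_lit 330, nat_lit 60, nat_lit 210])))
noncomputable def r482 : WT := (.node (nat_lit 35) (.node (nat_lit 33) (.leaf (nat_lit 139264) [nat_lit 270, nat_lit 60, nat_lit 330, nat_lit 60, nat_lit 210]) (.node (nat_lit 34) (.leaf (nat_lit 22530) [nat_lit 240, nat_lit 210, nat_lit 450]) (.leaf (nat_lit 73728) [nat_lit 450, nat_lit 120, nat_lit 450, nat_lit 120]))) (.node (nat_lit 36) (.leaf (nat_lit 123904) [nat_lit 450, nat_lit 240, nat_lit 300, nat_lit 210, nat_lit 300]) (.node (nat_lit 37) (.leaf (nat_lit 198656) [nat_lit 210, nat_lit 240, nat_lit 150, nat_lit 240, nat_lit 150]) (.leaf (nat_lit 141312) [nat_lit 270, nat_lit 420,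 nat_lit 270, nat_lit 420, nat_lit 210]))))
noncomputable def r483 : WT := (.node (nat_lit 42) (.node (nat_lit 40) (.node (nat_lit 39) (.leaf (nat_lit 83968) [nat_lit 210, nat_lit 120, nat_lit 270, nat_lit 120]) (.leaf (nat_lit 157696) [nat_lit 120, nat_lit 420, nat_lit 270, nat_lit 120, nat_lit 240])) (.node (nat_lit 41) (.leaf (nat_lit 197632) [nat_lit 210, nat_lit 240, nat_lit 120, nat_lit 240, nat_lit 120]) (.leaf (nat_lit 23552) [nat_lit 270, nat_lit 450, nat_lit 270]))) (.node (nat_lit 45) (.node (nat_lit 43) (.leaf (nat_lit 162816) [nat_lit 120, nat_lit 420, nat_lit 300, nat_lit 120, nat_lit 300]) (.node (nat_lit 44) (.leaf (nat_lit 227328) [nat_lit 300, nat_lit 420, nat_lit 210, nat_lit 300, nat_lit 210]) (.leaf (nat_lit 205824) [nat_lit 330, nat_lit 210, nat_lit 330, nat_lit 270, nat_lit 300]))) (.node (nat_lit 46) (.leaf (nat_lit 66563) [nat_lit 450, nat_lit 180, nat_lit 360, nat_lit 180]) (.node (nat_lit 47) (.leaf (nat_lit 58371) [nat_lit 390, nat_lit 420, nat_lit 360, nat_lit 180]) (.leaf (nat_lit 171011)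 [nat_lit 210, nat_lit 330, nat_lit 150, nat_lit 420, nat_lit 150])))))
noncomputable def r484 : WT := (.node (nat_lit 56) (.leaf (nat_lit 225280) [nat_lit 300, nat_lit 420, nat_lit 120, nat_lit 300, nat_lit 120]) (.leaf (nat_lit 63494) [nat_lit 450, nat_lit 390, nat_lit 420, nat_lit 180]))
noncomputable def r485 : WT := (.node (nat_lit 61) (.leaf (nat_lit 90112) [nat_lit 300, nat_lit 210, nat_lit 270, nat_lit 300]) (.leaf (nat_lit 150528) [nat_lit 270, nat_lit 300, nat_lit 450, nat_lit 270, nat_lit 300]))
noncomputable def r486 : WT := (.node (nat_lit 64) (.leaf (nat_lit 115714) [nat_lit 60, nat_lit 240, nat_lit 60, nat_lit 210, nat_lit 450]) (.leaf (nat_lit 176128) [nat_lit 60, nat_lit 120, nat_lit 60, nat_lit 420, nat_lit 120]))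
noncomputable def r487 : WT := (.node (nat_lit 66) (.leaf (nat_lit 136192) [nat_lit 270, nat_lit 120, nat_lit 450, nat_lit 270, nat_lit 120]) (.leaf (nat_lit 167936) [nat_lit 120, nat_lit 300, nat_lit 420, nat_lit 120, nat_lit 300]))
noncomputable def r488 : WT := (.node (nat_lit 68) (.leaf (nat_lit 164864) [nat_lit 120, nat_lit 210, nat_lit 240, nat_lit 120, nat_lit 240]) (.leaf (nat_lit 79872) [nat_lit 120, nat_lit 210, nat_lit 120, nat_lit 270]))
noncomputable def r489 : WT := (.node (nat_lit 57) (.node (nat_lit 52) (.node (nat_lit 50) (.node (nat_lit 49) (.leaf (nat_lit 220168) [nat_lit 300, nat_lit 450, nat_lit 240, nat_lit 300, nat_lit 210]) (.leaf (nat_lit 46084) [nat_lit 360, nat_lit 180, nat_lit 390, nat_lit 390])) (.node (nat_lit 51) (.leaf (nat_lit 172032) [nat_lit 150, nat_lit 330, nat_lit 240, nat_lit 150, nat_lit 240]) (.leaf (nat_lit 121856) [nat_lit 450, nat_lit 240, nat_lit 150, nat_lit 330, nat_lit 150]))) (.node (nat_lit 54) (.node (nat_lit 53) (.leaf (nat_lit 120832) [nat_lit 450, nat_lit 240, nat_lit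 120, nat_lit 210, nat_lit 120]) (.leaf (nat_lit 58370) [nat_lit 360, nat_lit 420, nat_lit 180, nat_lit 390])) (.node (nat_lit 55) (.leaf (nat_lit 59394) [nat_lit 180, nat_lit 360, nat_lit 420, nat_lit 390]) r484))) (.node (nat_lit 62) (.node (nat_lit 59) (.node (nat_lit 58) (.leaf (nat_lit 75782) [nat_lit 300, nat_lit 450, nat_lit 450, nat_lit 300]) (.leaf (nat_lit 159744) [nat_lit 120, nat_lit 420, nat_lit 210, nat_lit 120, nat_lit 210])) (.node (nat_lit 60) (.leaf (nat_lit 167941) [nat_lit 300, nat_lit 120, nat_lit 420, nat_lit 300, nat_lit 120]) r485)) (.node (nat_lit 65) (.node (nat_lit 63) (.leaf (nat_lit 71681) [nat_lit 270, nat_lit 180, nat_lit 210, nat_lit 360]) r486) (.node (nat_lit 67) r487 r488))))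
noncomputable def r490 : WT := (.node (nat_lit 70) (.leaf (nat_lit 114690) [nat_lit 150, nat_lit 240, nat_lit 330, nat_lit 150, nat_lit 450]) (.leaf (nat_lit 60417) [nat_lit 210, nat_lit 360, nat_lit 240, nat_lit 360]))
noncomputable def r491 : WT := (.node (nat_lit 72) (.leaf (nat_lit 144384) [nat_lit 270, nat_lit 210, nat_lit 450, nat_lit 270, nat_lit 210]) (.leaf (nat_lit 57346) [nat_lit 450, nat_lit 180, nat_lit 420, nat_lit 390]))
noncomputable def r492 : WT := (.node (nat_lit 74) (.leaf (nat_lit 74755) [nat_lit 270, nat_lit 420, nat_lit 420, nat_lit 270]) (.leaf (nat_lit 171008) [nat_lit 150, nat_lit 330, nat_lit 210, nat_lit 420, nat_lit 150]))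
noncomputable def r493 : WT := (.node (nat_lit 76) (.leaf (nat_lit 200704) [nat_lit 210, nat_lit 240, nat_lit 300, nat_lit 240, nat_lit 300]) (.node (nat_lit 77) (.leaf (nat_lit 72706) [nat_lit 270, nat_lit 270, nat_lit 210, nat_lit 450]) (.leaf (nat_lit 142336) [nat_lit 270, nat_lit 420, nat_lit 210, nat_lit 450, nat_lit 210])))
noncomputable def r494 : WT := (.node (nat_lit 79) (.leaf (nat_lit 181248) [nat_lit 60, nat_lit 240, nat_lit 330, nat_lit 240, nat_lit 60]) (.node (nat_lit 80) (.leaf (nat_lit 47108) [nat_lit 180, nat_lit 450, nat_lit 390, nat_lit 390]) (.leaf (nat_lit 207872) [nat_lit 330, nat_lit 210, nat_lit 300, nat_lit 330, nat_lit 270])))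
noncomputable def r495 : WT := (.node (nat_lit 82) (.leaf (nat_lit 73730) [nat_lit 120, nat_lit 450, nat_lit 120, nat_lit 450]) (.node (nat_lit 83) (.leaf (nat_lit 220160) [nat_lit 240, nat_lit 300, nat_lit 210, nat_lit 450, nat_lit 300]) (.leaf (nat_lit 50184) [nat_lit 390, nat_lit 390, nat_lit 180, nat_lit 360])))
noncomputable def r496 : WT := (.node (nat_lit 85) (.leaf (nat_lit 154628) [nat_lit 240, nat_lit 120, nat_lit 210, nat_lit 450, nat_lit 120]) (.node (nat_lit 86) (.leaf (nat_lit 113664) [nat_lit 450, nat_lit 150, nat_lit 240, nat_lit 150, nat_lit 210]) (.leaf (nat_lit 233472) [nat_lit 300, nat_lit 330, nat_lit 210, nat_lit 330, nat_lit 270])))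
noncomputable def r497 : WT := (.node (nat_lit 89) (.node (nat_lit 88) (.leaf (nat_lit 108552) [nat_lit 240, nat_lit 450, nat_lit 450, nat_lit 270, nat_lit 210]) (.leaf (nat_lit 56322) [nat_lit 450, nat_lit 390, nat_lit 180, nat_lit 390])) (.node (nat_lit 90) (.leaf (nat_lit 180224) [nat_lit 60, nat_lit 240, nat_lit 330, nat_lit 60, nat_lit 240]) (.leaf (nat_lit 204800) [nat_lit 330, nat_lit 120, nat_lit 330, nat_lit 420, nat_lit 120])))
noncomputable def r498 : WT := (.node (nat_lit 93) (.node (nat_lit 92) (.leaf (nat_lit 141315) [nat_lit 240, nat_lit 450, nat_lit 240, nat_lit 420, nat_lit 210]) (.leaf (nat_lit 74754) [nat_lit 240, nat_lit 420, nat_lit 240, nat_lit 450])) (.node (nat_lit 94) (.leaf (nat_lit 47112) [nat_lit 390, nat_lit 390, nat_lit 450, nat_lit 180]) (.leaf (nat_lit 108544) [nat_lit 450, nat_lit 270, nat_lit 210, nat_lit 450, nat_lit 240])))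
noncomputable def r499 : WT := (.node (nat_lit 97) (.node (nat_lit 96) (.leaf (nat_lit 149504) [nat_lit 270, nat_lit 210, nat_lit 240, nat_lit 420, nat_lit 210]) (.leaf (nat_lit 66565) [nat_lit 180, nat_lit 360, nat_lit 180, nat_lit 450])) (.node (nat_lit 98) (.leaf (nat_lit 78848) [nat_lit 120, nat_lit 210, nat_lit 270, nat_lit 120]) (.leaf (nat_lit 208896) [nat_lit 330, nat_lit 300, nat_lit 210, nat_lit 330, nat_lit 270])))
noncomputable def r500 : WT := (.node (nat_lit 101) (.node (nat_lit 100) (.leaf (nat_lit 142344) [nat_lit 210, nat_lit 450, nat_lit 270, nat_lit 420, nat_lit 210]) (.leaf (nat_lit 148488) [nat_lit 240, nat_lit 450, nat_lit 270, nat_lit 210, nat_lit 240])) (.node (nat_lit 102) (.leaf (nat_lit 76804) [nat_lit 240, nat_lit 240, nat_lit 450, nat_lit 270]) (.node (nat_lit 103) (.leaf (nat_lit 166912) [nat_lit 120, nat_lit 300, nat_lit 120, nat_lit 420, nat_lit 300]) (.leaf (nat_lit 148480) [nat_lit 270, nat_lit 210, nat_lit 240, nat_lit 450, nat_lit 240]))))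
noncomputable def r501 : WT := (.node (nat_lit 107) (.node (nat_lit 105) (.leaf (nat_lit 111618) [nat_lit 120, nat_lit 240, nat_lit 120, nat_lit 210, nat_lit 450]) (.node (nat_lit 106) (.leaf (nat_lit 123906) [nat_lit 240, nat_lit 300, nat_lit 210, nat_lit 300, nat_lit 450]) (.leaf (nat_lit 51203) [nat_lit 180, nat_lit 360, nat_lit 360, nat_lit 180]))) (.node (nat_lit 109) (.node (nat_lit 108) (.leaf (nat_lit 128004) [nat_lit 120, nat_lit 270, nat_lit 120, nat_lit 450, nat_lit 270]) (.leaf (nat_lit 130052) [nat_lit 60, nat_lit 270, nat_lit 60, nat_lit 450, nat_lit 270])) (.node (nat_lit 110) (.leaf (nat_lit 224256) [nat_lit 300, nat_lit 420, nat_lit 270, nat_lit 300, nat_lit 240]) (.leaf (nat_lit 141319) [nat_lit 240, nat_lit 420, nat_lit 210, nat_lit 450, nat_lit 240]))))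
noncomputable def r502 : WT := (.node (nat_lit 115) (.node (nat_lit 113) (.node (nat_lit 112) (.leaf (nat_lit 64519) [nat_lit 360, nat_lit 240, nat_lit 210, nat_lit 180]) (.leaf (nat_lit 82944) [nat_lit 210, nat_lit 450, nat_lit 210, nat_lit 240])) (.node (nat_lit 114) (.leaf (nat_lit 145408) [nat_lit 270, nat_lit 210, nat_lit 270, nat_lit 420, nat_lit 270]) (.leaf (nat_lit 178176) [nat_lit 60, nat_lit 330, nat_lit 60, nat_lit 450, nat_lit 240]))) (.node (nat_lit 117) (.node (nat_lit 116) (.leaf (nat_lit 54273) [nat_lit 450, nat_lit 360, nat_lit 420, nat_lit 360]) (.leaf (nat_lit 54275) [nat_lit 360, nat_lit 420, nat_lit 360, nat_lit 450])) (.node (nat_lit 118) (.leaf (nat_lit 212992) [nat_lit 240, nat_lit 60, nat_lit 330, nat_lit 60, nat_lit 240]) (.leaf (nat_lit 209920) [nat_lit 330, nat_lit 300, nat_lit 330, nat_lit 420, nat_lit 300]))))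
noncomputable def r503 : WT := (.node (nat_lit 124) (.node (nat_lit 121) (.node (nat_lit 120) (.leaf (nat_lit 68609) [nat_lit 180, nat_lit 240, nat_lit 210, nat_lit 360]) (.leaf (nat_lit 57348) [nat_lit 180, nat_lit 420, nat_lit 390, nat_lit 450])) (.node (nat_lit 122) (.leaf (nat_lit 54274) [nat_lit 390, nat_lit 420, nat_lit 420, nat_lit 390]) (.node (nat_lit 123) (.leaf (nat_lit 108546) [nat_lit 270, nat_lit 210, nat_lit 450, nat_lit 240, nat_lit 450]) (.leaf (nat_lit 91136) [nat_lit 300, nat_lit 210, nat_lit 300, nat_lit 270])))) (.node (nat_lit 127) (.node (nat_lit 125) (.leaf (nat_lit 202752) [nat_lit 210, nat_lit 300, nat_lit 240, nat_lit 240, nat_lit 300]) (.node (nat_lit 126) (.leaf (nat_lit 206848) [nat_lit 330, nat_lit 210, nat_lit 330, nat_lit 300, nat_lit 270]) (.leaf (nat_lit 140288) [nat_lit 270, nat_lit 420, nat_lit 270, nat_lit 450, nat_lit 240]))) (.node (nat_lit 128) (.leaf (nat_lit 211968) [nat_lit 240, nat_lit 120, nat_lit 270, nat_lit 420, nat_lit 120]) (.node (nat_lit 129) (.leaf (nat_lit 214016)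 [nat_lit 240, nat_lit 60, nat_lit 330, nat_lit 240, nat_lit 60]) (.leaf (nat_lit 73734) [nat_lit 120, nat_lit 450, nat_lit 450, nat_lit 120])))))
noncomputable def r504 : WT := (.node (nat_lit 137) (.node (nat_lit 133) (.node (nat_lit 131) (.leaf (nat_lit 81920) [nat_lit 150, nat_lit 330, nat_lit 150, nat_lit 270]) (.node (nat_lit 132) (.leaf (nat_lit 76800) [nat_lit 270, nat_lit 450, nat_lit 240, nat_lit 240]) (.leaf (nat_lit 113666) [nat_lit 150, nat_lit 240, nat_lit 150, nat_lit 210, nat_lit 450]))) (.node (nat_lit 135) (.node (nat_lit 134) (.leaf (nat_lit 125952) [nat_lit 450, nat_lit 300, nat_lit 240, nat_lit 210, nat_lit 300]) (.leaf (nat_lit 134144) [nat_lit 270, nat_lit 270, nat_lit 420, nat_lit 270, nat_lit 210])) (.node (nat_lit 136) (.leaf (nat_lit 152576) [nat_lit 270, nat_lit 300, nat_lit 240, nat_lit 420, nat_lit 300]) (.leaf (nat_lit 153604) [nat_lit 120, nat_lit 240, nat_lit 210, nat_lit 450, nat_lit 120])))) (.node (nat_lit 141) (.node (nat_lit 139) (.node (nat_lit 138) (.leaf (nat_lit 59393) [nat_lit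 390, nat_lit 180, nat_lit 420, nat_lit 360]) (.leaf (nat_lit 219136) [nat_lit 240, nat_lit 300, nat_lit 270, nat_lit 420, nat_lit 300])) (.node (nat_lit 140) (.leaf (nat_lit 72704) [nat_lit 450, nat_lit 270, nat_lit 270, nat_lit 210]) (.leaf (nat_lit 131080) [nat_lit 210, nat_lit 450, nat_lit 270, nat_lit 450, nat_lit 240]))) (.node (nat_lit 143) (.node (nat_lit 142) (.leaf (nat_lit 55298) [nat_lit 390, nat_lit 240, nat_lit 210, nat_lit 390]) (.leaf (nat_lit 140295) [nat_lit 240, nat_lit 420, nat_lit 270, nat_lit 420, nat_lit 240])) (.node (nat_lit 144) (.leaf (nat_lit 112642) [nat_lit 120, nat_lit 240, nat_lit 210, nat_lit 120, nat_lit 450]) (.leaf (nat_lit 56324) [nat_lit 390, nat_lit 180, nat_lit 390, nat_lit 450])))))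
noncomputable def r505 : WT := (.node (nat_lit 149) (.leaf (nat_lit 222208) [nat_lit 300, nat_lit 270, nat_lit 450, nat_lit 300, nat_lit 270]) (.leaf (nat_lit 75778) [nat_lit 300, nat_lit 450, nat_lit 300, nat_lit 450]))
noncomputable def r506 : WT := (.node (nat_lit 151) (.leaf (nat_lit 223232) [nat_lit 300, nat_lit 120, nat_lit 300, nat_lit 420, nat_lit 120]) (.leaf (nat_lit 155648) [nat_lit 120, nat_lit 450, nat_lit 240, nat_lit 210, nat_lit 120]))
noncomputable def r507 : WT := (.node (nat_lit 153) (.leaf (nat_lit 131076) [nat_lit 240, nat_lit 450, nat_lit 210, nat_lit 450, nat_lit 270]) (.leaf (nat_lit 130048) [nat_lit 270, nat_lit 450, nat_lit 60, nat_lit 270, nat_lit 60]))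
noncomputable def r508 : WT := (.node (nat_lit 155) (.leaf (nat_lit 134149) [nat_lit 240, nat_lit 240, nat_lit 420, nat_lit 210, nat_lit 240]) (.leaf (nat_lit 129028) [nat_lit 150, nat_lit 270, nat_lit 150, nat_lit 450, nat_lit 270]))
noncomputable def r509 : WT := (.node (nat_lit 157) (.leaf (nat_lit 49157) [nat_lit 360, nat_lit 360, nat_lit 450, nat_lit 390]) (.leaf (nat_lit 137222) [nat_lit 120, nat_lit 270, nat_lit 450, nat_lit 270, nat_lit 120]))
noncomputable def r510 : WT := (.node (nat_lit 159) (.leaf (nat_lit 102402) [nat_lit 450, nat_lit 450, nat_lit 210, nat_lit 270, nat_lit 450]) (.leaf (nat_lit 168965) [nat_lit 300, nat_lit 120, nat_lit 420, nat_lit 120, nat_lit 300]))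
noncomputable def r511 : WT := (.node (nat_lit 161) (.leaf (nat_lit 102404) [nat_lit 450, nat_lit 210, nat_lit 270, nat_lit 450, nat_lit 450]) (.leaf (nat_lit 121858) [nat_lit 240, nat_lit 150, nat_lit 330, nat_lit 150, nat_lit 450]))
noncomputable def r512 : WT := (.node (nat_lit 163) (.leaf (nat_lit 163840) [nat_lit 120, nat_lit 210, nat_lit 120, nat_lit 240, nat_lit 240]) (.leaf (nat_lit 120834) [nat_lit 240, nat_lit 120, nat_lit 210, nat_lit 120, nat_lit 450]))
noncomputable def r513 : WT := (.node (nat_lit 165) (.leaf (nat_lit 183296) [nat_lit 210, nat_lit 450, nat_lit 210, nat_lit 270, nat_lit 270]) (.leaf (nat_lit 182272) [nat_lit 210, nat_lit 450, nat_lit 210, nat_lit 450, nat_lit 210]))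
noncomputable def r514 : WT := (.node (nat_lit 167) (.leaf (nat_lit 109568) [nat_lit 450, nat_lit 270, nat_lit 210, nat_lit 420, nat_lit 210]) (.leaf (nat_lit 110592) [nat_lit 450, nat_lit 120, nat_lit 420, nat_lit 420, nat_lit 120]))
noncomputable def r515 : WT := (.node (nat_lit 169) (.leaf (nat_lit 178184) [nat_lit 240, nat_lit 450, nat_lit 60, nat_lit 330, nat_lit 60]) (.leaf (nat_lit 117765) [nat_lit 210, nat_lit 420, nat_lit 420, nat_lit 210, nat_lit 240]))
noncomputable def r516 : WT := (.node (nat_lit 171) (.leaf (nat_lit 115712) [nat_lit 450, nat_lit 60, nat_lit 240, nat_lit 60, nat_lit 210]) (.leaf (nat_lit 111616) [nat_lit 450, nat_lit 120, nat_lit 240, nat_lit 120, nat_lit 210]))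
noncomputable def r517 : WT := (.node (nat_lit 173) (.leaf (nat_lit 173056) [nat_lit 150, nat_lit 330, nat_lit 240, nat_lit 240, nat_lit 150]) (.leaf (nat_lit 169984) [nat_lit 150, nat_lit 330, nat_lit 150, nat_lit 240, nat_lit 240]))
noncomputable def r518 : WT := (.node (nat_lit 158) (.node (nat_lit 150) (.node (nat_lit 147) (.node (nat_lit 146) (.leaf (nat_lit 231424) [nat_lit 300, nat_lit 210, nat_lit 240, nat_lit 300, nat_lit 240]) (.leaf (nat_lit 174080) [nat_lit 150, nat_lit 300, nat_lit 150, nat_lit 420, nat_lit 300])) (.node (nat_lit 148) (.leaf (nat_lit 230400) [nat_lit 300, nat_lit 210, nat_lit 240, nat_lit 240, nat_lit 300]) r505)) (.node (nat_lit 154) (.node (nat_lit 152) r506 r507) (.node (nat_lit 156) r508 r509))) (.node (nat_lit 166) (.node (nat_lit 162) (.node (nat_lit 160) r510 r511) (.node (nat_lit 164) r512 r513)) (.node (nat_lit 170) (.node (nat_lit 168) r514 r515) (.node (nat_lit 172) r516 r517))))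
noncomputable def r519 : WT := (.node (nat_lit 91) (.node (nat_lit 78) (.node (nat_lit 73) (.node (nat_lit 71) r490 r491) (.node (nat_lit 75) r492 r493)) (.node (nat_lit 84) (.node (nat_lit 81) r494 r495) (.node (nat_lit 87) r496 r497))) (.node (nat_lit 111) (.node (nat_lit 99) (.node (nat_lit 95) r498 r499) (.node (nat_lit 104) r500 r501)) (.node (nat_lit 130) (.node (nat_lit 119) r502 r503) (.node (nat_lit 145) r504 r518))))
noncomputable def r520 : WT := (.node (nat_lit 20) (.node (nat_lit 16) (.node (nat_lit 14) (.leaf (nat_lit 18437) [nat_lit 360, nat_lit 180, nat_lit 360]) (.node (nat_lit 15) (.leaf (nat_lit 75776) [nat_lit 450, nat_lit 300, nat_lit 450, nat_lit 300]) (.leaf (nat_lit 82948) [nat_lit 210, nat_lit 240, nat_lit 450, nat_lit 210]))) (.node (nat_lit 18) (.node (nat_lit 17) (.leaf (nat_lit 15362) [nat_lit 390, nat_lit 450, nat_lit 390]) (.leaf (nat_lit 86016) [nat_lit 210, nat_lit 60, nat_lit 270, nat_lit 60])) (.node (nat_lit 19) (.leaf (nat_lit 77829) [nat_lit 240, nat_lit 420, nat_lit 270, nat_lit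 210]) (.leaf (nat_lit 84992) [nat_lit 210, nat_lit 150, nat_lit 270, nat_lit 150])))) (.node (nat_lit 32) (.node (nat_lit 25) (.node (nat_lit 22) r478 r479) (.node (nat_lit 28) r480 r481)) (.node (nat_lit 48) (.node (nat_lit 38) r482 r483) (.node (nat_lit 69) r489 r519))))
noncomputable def w13 : WT := (.node (nat_lit 1) (.leaf (nat_lit 10242) [nat_lit 420]) (.node (nat_lit 4) (.node (nat_lit 2) (.leaf (nat_lit 26624) [nat_lit 300, nat_lit 420, nat_lit 300]) (.node (nat_lit 3) (.leaf (nat_lit 13312) [nat_lit 210, nat_lit 270]) (.leaf (nat_lit 22528) [nat_lit 450, nat_lit 240, nat_lit 210]))) (.node (nat_lit 8) (.node (nat_lit 6) r475 r476) (.node (nat_lit 13) r477 r520))))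
noncomputable def r521 : WT := (.node (nat_lit 1) (.leaf (nat_lit 17414) [nat_lit 150, nat_lit 390, nat_lit 150, nat_lit 360]) (.node (nat_lit 2) (.leaf (nat_lit 17410) [nat_lit 150, nat_lit 360, nat_lit 150, nat_lit 390]) (.leaf (nat_lit 17412) [nat_lit 360, nat_lit 150, nat_lit 390, nat_lit 150])))
noncomputable def r522 : WT := (.node (nat_lit 5) (.node (nat_lit 4) (.leaf (nat_lit 17408) [nat_lit 390, nat_lit 150, nat_lit 360, nat_lit 150]) (.leaf (nat_lit 39940) [nat_lit 150, nat_lit 330, nat_lit 150, nat_lit 210])) (.node (nat_lit 6) (.leaf (nat_lit 34820) [nat_lit 150, nat_lit 180, nat_lit 120, nat_lit 180]) (.leaf (nat_lit 28678) [nat_lit 150, nat_lit 270, nat_lit 150, nat_lit 240])))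
noncomputable def r523 : WT := (.node (nat_lit 10) (.node (nat_lit 8) (.leaf (nat_lit 24582) [nat_lit 120, nat_lit 450, nat_lit 120, nat_lit 420]) (.node (nat_lit 9) (.leaf (nat_lit 34822) [nat_lit 180, nat_lit 120, nat_lit 180, nat_lit 150]) (.leaf (nat_lit 15361) [nat_lit 420, nat_lit 360, nat_lit 420, nat_lit 360]))) (.node (nat_lit 11) (.leaf (nat_lit 15362) [nat_lit 450, nat_lit 390, nat_lit 450, nat_lit 390]) (.node (nat_lit 12) (.leaf (nat_lit 16386) [nat_lit 270, nat_lit 390, nat_lit 270, nat_lit 390]) (.leaf (nat_lit 98311) [nat_lit 150, nat_lit 120, nat_lit 300, nat_lit 150, nat_lit 120]))))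
noncomputable def r524 : WT := (.node (nat_lit 16) (.node (nat_lit 14) (.leaf (nat_lit 98309) [nat_lit 120, nat_lit 150, nat_lit 120, nat_lit 300, nat_lit 150]) (.node (nat_lit 15) (.leaf (nat_lit 24576) [nat_lit 450, nat_lit 120, nat_lit 420, nat_lit 120]) (.leaf (nat_lit 28676) [nat_lit 240, nat_lit 150, nat_lit 270, nat_lit 150]))) (.node (nat_lit 17) (.leaf (nat_lit 101378) [nat_lit 330, nat_lit 210, nat_lit 330, nat_lit 300, nat_lit 210]) (.node (nat_lit 18) (.leaf (nat_lit 101382) [nat_lit 330, nat_lit 300, nat_lit 210, nat_lit 330, nat_lit 210]) (.leaf (nat_lit 34818) [nat_lit 180, nat_lit 150, nat_lit 180, nat_lit 120]))))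
noncomputable def r525 : WT := (.leaf (nat_lit 358404) [nat_lit 60, nat_lit 90, nat_lit 120, nat_lit 150, nat_lit 60, nat_lit 90, nat_lit 120, nat_lit 150, nat_lit 60, nat_lit 90, nat_lit 120, nat_lit 150, nat_lit 60, nat_lit 90, nat_lit 120, nat_lit 150])
noncomputable def r526 : WT := (.node (nat_lit 23) (.node (nat_lit 21) (.node (nat_lit 20) (.leaf (nat_lit 302083) [nat_lit 240, nat_lit 330, nat_lit 240, nat_lit 330, nat_lit 240, nat_lit 330]) (.leaf (nat_lit 36864) [nat_lit 120, nat_lit 330, nat_lit 120, nat_lit 330])) (.node (nat_lit 22) (.leaf (nat_lit 39938) [nat_lit 210, nat_lit 150, nat_lit 330, nat_lit 150]) (.leaf (nat_lit 19461) [nat_lit 450, nat_lit 360, nat_lit 450, nat_lit 180]))) (.node (nat_lit 25) (.node (nat_lit 24) r525 (.leaf (nat_lit 13312) [nat_lit 450, nat_lit 210, nat_lit 270])) (.node (nat_lit 26) (.leaf (nat_lit 101377) [nat_lit 300, nat_lit 330, nat_lit 210, nat_lit 330, nat_lit 210]) (.leaf (nat_lit 98310) [nat_lit 150, nat_lit 300, nat_lit 120, nat_lit 150, nat_lit 120]))))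
noncomputable def r527 : WT := (.node (nat_lit 31) (.node (nat_lit 29) (.node (nat_lit 28) (.leaf (nat_lit 70662) [nat_lit 450, nat_lit 270, nat_lit 390, nat_lit 210, nat_lit 180]) (.leaf (nat_lit 15363) [nat_lit 360, nat_lit 420, nat_lit 360, nat_lit 420])) (.node (nat_lit 30) (.leaf (nat_lit 34816) [nat_lit 120, nat_lit 180, nat_lit 150, nat_lit 180]) (.leaf (nat_lit 31747) [nat_lit 240, nat_lit 180, nat_lit 240, nat_lit 180]))) (.node (nat_lit 33) (.node (nat_lit 32) (.leaf (nat_lit 27652) [nat_lit 240, nat_lit 120, nat_lit 270, nat_lit 120]) (.leaf (nat_lit 31745) [nat_lit 180, nat_lit 240, nat_lit 180, nat_lit 240])) (.node (nat_lit 34) (.leaf (nat_lit 101384) [nat_lit 300, nat_lit 210, nat_lit 330, nat_lit 210, nat_lit 330]) (.node (nat_lit 35) (.leaf (nat_lit 39936) [nat_lit 150, nat_lit 210, nat_lit 150, nat_lit 330]) (.leaf (nat_lit 114690) [nat_lit 450, nat_lit 150, nat_lit 240, nat_lit 330, nat_lit 150, nat_lit 450])))))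
noncomputable def r528 : WT := (.node (nat_lit 41) (.node (nat_lit 38) (.node (nat_lit 37) (.leaf (nat_lit 204806) [nat_lit 330, nat_lit 420, nat_lit 120, nat_lit 450, nat_lit 330, nat_lit 120]) (.leaf (nat_lit 101381) [nat_lit 210, nat_lit 330, nat_lit 210, nat_lit 300, nat_lit 330])) (.node (nat_lit 39) (.leaf (nat_lit 302082) [nat_lit 330, nat_lit 270, nat_lit 330, nat_lit 270, nat_lit 330, nat_lit 270]) (.node (nat_lit 40) (.leaf (nat_lit 12288) [nat_lit 450, nat_lit 450, nat_lit 450]) (.leaf (nat_lit 64520) [nat_lit 270, nat_lit 390, nat_lit 420, nat_lit 180, nat_lit 210])))) (.node (nat_lit 44) (.node (nat_lit 42) (.leaf (nat_lit 287744) [nat_lit 270, nat_lit 180, nat_lit 120, nat_lit 270, nat_lit 180, nat_lit 150]) (.node (nat_lit 43) (.leaf (nat_lit 101376) [nat_lit 210, nat_lit 330, nat_lit 210, nat_lit 330, nat_lit 300]) (.leaf (nat_lit 251912) [nat_lit 120, nat_lit 330, nat_lit 270, nat_lit 120, nat_lit 240, nat_lit 330]))) (.node (nat_lit 45) (.leaf (nat_lit 205827) [nat_lit 240, nat_lit 330, nat_lit 210,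 nat_lit 330, nat_lit 420, nat_lit 300]) (.node (nat_lit 46) (.leaf (nat_lit 80900) [nat_lit 330, nat_lit 270, nat_lit 150, nat_lit 450, nat_lit 150]) (.leaf (nat_lit 80904) [nat_lit 150, nat_lit 450, nat_lit 150, nat_lit 330, nat_lit 270])))))
noncomputable def r529 : WT := (.node (nat_lit 52) (.node (nat_lit 49) (.node (nat_lit 48) (.leaf (nat_lit 19456) [nat_lit 390, nat_lit 420, nat_lit 180, nat_lit 420]) (.leaf (nat_lit 20484) [nat_lit 450, nat_lit 180, nat_lit 390, nat_lit 180])) (.node (nat_lit 50) (.leaf (nat_lit 18437) [nat_lit 450, nat_lit 360, nat_lit 180, nat_lit 360]) (.node (nat_lit 51) (.leaf (nat_lit 16387) [nat_lit 360, nat_lit 240, nat_lit 360, nat_lit 240]) (.leaf (nat_lit 20487) [nat_lit 360, nat_lit 180, nat_lit 420, nat_lit 180])))) (.node (nat_lit 55) (.node (nat_lit 53) (.leaf (nat_lit 13316) [nat_lit 270, nat_lit 450, nat_lit 210]) (.node (nat_lit 54) (.leaf (nat_lit 19458) [nat_lit 420, nat_lit 180, nat_lit 420, nat_lit 390]) (.leaf (nat_lit 24580) [nat_lit 420, nat_lit 120, nat_lit 450, nat_lit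 120]))) (.node (nat_lit 56) (.leaf (nat_lit 19462) [nat_lit 420, nat_lit 390, nat_lit 420, nat_lit 180]) (.node (nat_lit 57) (.leaf (nat_lit 27648) [nat_lit 270, nat_lit 120, nat_lit 240, nat_lit 120]) (.leaf (nat_lit 101379) [nat_lit 330, nat_lit 210, nat_lit 330, nat_lit 210, nat_lit 300])))))
noncomputable def r530 : WT := (.node (nat_lit 65) (.node (nat_lit 61) (.node (nat_lit 59) (.leaf (nat_lit 302081) [nat_lit 330, nat_lit 240, nat_lit 330, nat_lit 240, nat_lit 330, nat_lit 240]) (.node (nat_lit 60) (.leaf (nat_lit 68612) [nat_lit 270, nat_lit 180, nat_lit 420, nat_lit 390, nat_lit 210]) (.leaf (nat_lit 302080) [nat_lit 270, nat_lit 330, nat_lit 270, nat_lit 330, nat_lit 270, nat_lit 330]))) (.node (nat_lit 63) (.node (nat_lit 62) (.leaf (nat_lit 18439) [nat_lit 360, nat_lit 180, nat_lit 360, nat_lit 450]) (.leaf (nat_lit 55299) [nat_lit 270, nat_lit 360, nat_lit 420, nat_lit 360, nat_lit 210])) (.node (nat_lit 64) (.leaf (nat_lit 62469) [nat_lit 180, nat_lit 240, nat_lit 360, nat_lit 180, nat_lit 210]) (.leaf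 (nat_lit 303110) [nat_lit 330, nat_lit 240, nat_lit 120, nat_lit 270, nat_lit 330, nat_lit 120])))) (.node (nat_lit 69) (.node (nat_lit 67) (.node (nat_lit 66) (.leaf (nat_lit 287748) [nat_lit 120, nat_lit 270, nat_lit 180, nat_lit 150, nat_lit 270, nat_lit 180]) (.leaf (nat_lit 64514) [nat_lit 420, nat_lit 180, nat_lit 210, nat_lit 270, nat_lit 390])) (.node (nat_lit 68) (.leaf (nat_lit 18435) [nat_lit 360, nat_lit 450, nat_lit 360, nat_lit 180]) (.leaf (nat_lit 64515) [nat_lit 210, nat_lit 180, nat_lit 450, nat_lit 360, nat_lit 240]))) (.node (nat_lit 71) (.node (nat_lit 70) (.leaf (nat_lit 205826) [nat_lit 330, nat_lit 210, nat_lit 330, nat_lit 270, nat_lit 300, nat_lit 450]) (.leaf (nat_lit 19460) [nat_lit 180, nat_lit 420, nat_lit 390, nat_lit 420])) (.node (nat_lit 72) (.leaf (nat_lit 68615) [nat_lit 210, nat_lit 360, nat_lit 450, nat_lit 180, nat_lit 240]) (.leaf (nat_lit 18432) [nat_lit 390, nat_lit 420, nat_lit 390, nat_lit 180])))))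
noncomputable def r531 : WT := (.node (nat_lit 81) (.node (nat_lit 77) (.node (nat_lit 75) (.node (nat_lit 74) (.leaf (nat_lit 16385) [nat_lit 240, nat_lit 360, nat_lit 240, nat_lit 360]) (.leaf (nat_lit 15360) [nat_lit 390, nat_lit 450, nat_lit 390, nat_lit 450])) (.node (nat_lit 76) (.leaf (nat_lit 98305) [nat_lit 300, nat_lit 150, nat_lit 120, nat_lit 150, nat_lit 120]) (.leaf (nat_lit 71687) [nat_lit 210, nat_lit 360, nat_lit 450, nat_lit 270, nat_lit 180]))) (.node (nat_lit 79) (.node (nat_lit 78) (.leaf (nat_lit 98308) [nat_lit 120, nat_lit 150, nat_lit 300, nat_lit 120, nat_lit 150]) (.leaf (nat_lit 13314) [nat_lit 210, nat_lit 270, nat_lit 450])) (.node (nat_lit 80) (.leaf (nat_lit 98304) [nat_lit 120, nat_lit 150, nat_lit 120, nat_lit 150, nat_lit 300]) (.leaf (nat_lit 245769) [nat_lit 120, nat_lit 240, nat_lit 180, nat_lit 150, nat_lit 240, nat_lit 180])))) (.node (nat_lit 85) (.node (nat_lit 83) (.node (nat_lit 82) (.leaf (nat_lit 12289) [nat_lit 420, nat_lit 420, nat_lit 420]) (.leaf (nat_lit 80897) [nat_lit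 150, nat_lit 240, nat_lit 330, nat_lit 150, nat_lit 420])) (.node (nat_lit 84) (.leaf (nat_lit 80903) [nat_lit 150, nat_lit 420, nat_lit 150, nat_lit 240, nat_lit 330]) (.leaf (nat_lit 19457) [nat_lit 450, nat_lit 180, nat_lit 450, nat_lit 360]))) (.node (nat_lit 87) (.node (nat_lit 86) (.leaf (nat_lit 24578) [nat_lit 120, nat_lit 420, nat_lit 120, nat_lit 450]) (.leaf (nat_lit 22531) [nat_lit 270, nat_lit 420, nat_lit 420, nat_lit 210])) (.node (nat_lit 88) (.leaf (nat_lit 21510) [nat_lit 300, nat_lit 390, nat_lit 300, nat_lit 360]) (.leaf (nat_lit 157698) [nat_lit 120, nat_lit 420, nat_lit 270, nat_lit 120, nat_lit 240, nat_lit 450])))))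
noncomputable def r532 : WT := (.leaf (nat_lit 360453) [nat_lit 150, nat_lit 90, nat_lit 60, nat_lit 150, nat_lit 90, nat_lit 60, nat_lit 150, nat_lit 90, nat_lit 60, nat_lit 150, nat_lit 90, nat_lit 60, nat_lit 150, nat_lit 90, nat_lit 60])
noncomputable def r533 : WT := (.leaf (nat_lit 358406) [nat_lit 90, nat_lit 120, nat_lit 150, nat_lit 60, nat_lit 90, nat_lit 120, nat_lit 150, nat_lit 60, nat_lit 90, nat_lit 120, nat_lit 150, nat_lit 60, nat_lit 90, nat_lit 120, nat_lit 150, nat_lit 60])
noncomputable def r534 : WT := (.node (nat_lit 97) (.node (nat_lit 93) (.node (nat_lit 91) (.node (nat_lit 90) (.leaf (nat_lit 171019) [nat_lit 420, nat_lit 150, nat_lit 450, nat_lit 210, nat_lit 330, nat_lit 150]) r532) (.node (nat_lit 92) (.leaf (nat_lit 35840) [nat_lit 120, nat_lit 210, nat_lit 120, nat_lit 210]) (.leaf (nat_lit 35842) [nat_lit 210, nat_lit 120, nat_lit 210, nat_lit 120]))) (.node (nat_lit 95) (.node (nat_lit 94) (.leaf (nat_lit 20486) [nat_lit 180, nat_lit 390, nat_lit 180, nat_lit 450]) (.leaf (nat_lit 36866)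 [nat_lit 330, nat_lit 120, nat_lit 330, nat_lit 120])) (.node (nat_lit 96) (.leaf (nat_lit 328712) [nat_lit 180, nat_lit 300, nat_lit 120, nat_lit 180, nat_lit 150, nat_lit 300]) r533))) (.node (nat_lit 101) (.node (nat_lit 99) (.node (nat_lit 98) (.leaf (nat_lit 39942) [nat_lit 330, nat_lit 150, nat_lit 210, nat_lit 150]) (.leaf (nat_lit 19463) [nat_lit 360, nat_lit 450, nat_lit 180, nat_lit 450])) (.node (nat_lit 100) (.leaf (nat_lit 44032) [nat_lit 210, nat_lit 300, nat_lit 210, nat_lit 300]) (.leaf (nat_lit 326658) [nat_lit 90, nat_lit 120, nat_lit 90, nat_lit 120, nat_lit 90, nat_lit 120]))) (.node (nat_lit 103) (.node (nat_lit 102) (.leaf (nat_lit 136193) [nat_lit 120, nat_lit 240, nat_lit 420, nat_lit 120, nat_lit 240, nat_lit 420]) (.leaf (nat_lit 52226) [nat_lit 390, nat_lit 240, nat_lit 360, nat_lit 240, nat_lit 390])) (.node (nat_lit 104) (.leaf (nat_lit 114699) [nat_lit 420, nat_lit 150, nat_lit 330, nat_lit 270, nat_lit 150, nat_lit 420]) (.leaf (nat_lit 19459) [nat_lit 180, nat_lit 450, nat_lit 360, nat_lit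 450])))))
noncomputable def r535 : WT := (.node (nat_lit 107) (.leaf (nat_lit 172037) [nat_lit 270, nat_lit 330, nat_lit 150, nat_lit 420, nat_lit 270, nat_lit 150]) (.leaf (nat_lit 206849) [nat_lit 240, nat_lit 300, nat_lit 330, nat_lit 210, nat_lit 330, nat_lit 420]))
noncomputable def r536 : WT := (.node (nat_lit 109) (.leaf (nat_lit 208902) [nat_lit 210, nat_lit 330, nat_lit 270, nat_lit 450, nat_lit 330, nat_lit 300]) (.leaf (nat_lit 209926) [nat_lit 330, nat_lit 420, nat_lit 300, nat_lit 450, nat_lit 330, nat_lit 300]))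
noncomputable def r537 : WT := (.node (nat_lit 111) (.leaf (nat_lit 226308) [nat_lit 420, nat_lit 150, nat_lit 300, nat_lit 150, nat_lit 450, nat_lit 300]) (.leaf (nat_lit 240646) [nat_lit 240, nat_lit 150, nat_lit 120, nat_lit 270, nat_lit 120, nat_lit 150]))
noncomputable def r538 : WT := (.node (nat_lit 113) (.leaf (nat_lit 173061) [nat_lit 270, nat_lit 330, nat_lit 150, nat_lit 420, nat_lit 150, nat_lit 270]) (.leaf (nat_lit 240648) [nat_lit 150, nat_lit 120, nat_lit 270, nat_lit 120, nat_lit 150, nat_lit 240]))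
noncomputable def r539 : WT := (.node (nat_lit 115) (.leaf (nat_lit 163851) [nat_lit 420, nat_lit 270, nat_lit 270, nat_lit 120, nat_lit 210, nat_lit 120]) (.leaf (nat_lit 172039) [nat_lit 330, nat_lit 150, nat_lit 420, nat_lit 270, nat_lit 150, nat_lit 270]))
noncomputable def r540 : WT := (.node (nat_lit 117) (.leaf (nat_lit 172040) [nat_lit 150, nat_lit 240, nat_lit 450, nat_lit 150, nat_lit 330, nat_lit 240]) (.leaf (nat_lit 177162) [nat_lit 60, nat_lit 450, nat_lit 60, nat_lit 330, nat_lit 270, nat_lit 330]))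
noncomputable def r541 : WT := (.node (nat_lit 119) (.leaf (nat_lit 177161) [nat_lit 60, nat_lit 420, nat_lit 60, nat_lit 330, nat_lit 240, nat_lit 330]) (.leaf (nat_lit 204804) [nat_lit 120, nat_lit 330, nat_lit 420, nat_lit 120, nat_lit 450, nat_lit 330]))
noncomputable def r542 : WT := (.leaf (nat_lit 358405) [nat_lit 150, nat_lit 120, nat_lit 90, nat_lit 60, nat_lit 150, nat_lit 120, nat_lit 90, nat_lit 60, nat_lit 150, nat_lit 120, nat_lit 90, nat_lit 60, nat_lit 150, nat_lit 120, nat_lit 90, nat_lit 60])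
noncomputable def r543 : WT := (.node (nat_lit 121) (.leaf (nat_lit 204800) [nat_lit 450, nat_lit 330, nat_lit 120, nat_lit 330, nat_lit 420, nat_lit 120]) r542)
noncomputable def r544 : WT := (.node (nat_lit 123) (.leaf (nat_lit 205832) [nat_lit 270, nat_lit 300, nat_lit 450, nat_lit 330, nat_lit 210, nat_lit 330]) (.leaf (nat_lit 167944) [nat_lit 120, nat_lit 300, nat_lit 450, nat_lit 120, nat_lit 300, nat_lit 420]))
noncomputable def r545 : WT := (.node (nat_lit 125) (.leaf (nat_lit 181251) [nat_lit 270, nat_lit 330, nat_lit 270, nat_lit 60, nat_lit 420, nat_lit 60]) (.leaf (nat_lit 181249) [nat_lit 60, nat_lit 270, nat_lit 330, nat_lit 270, nat_lit 60, nat_lit 420]))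
noncomputable def r546 : WT := (.node (nat_lit 127) (.leaf (nat_lit 177163) [nat_lit 420, nat_lit 60, nat_lit 330, nat_lit 240, nat_lit 330, nat_lit 60]) (.leaf (nat_lit 171010) [nat_lit 150, nat_lit 330, nat_lit 210, nat_lit 420, nat_lit 150, nat_lit 450]))
noncomputable def r547 : WT := (.node (nat_lit 129) (.leaf (nat_lit 180232) [nat_lit 60, nat_lit 240, nat_lit 450, nat_lit 60, nat_lit 240, nat_lit 330]) (.leaf (nat_lit 330758) [nat_lit 150, nat_lit 180, nat_lit 300, nat_lit 120, nat_lit 180, nat_lit 300]))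
noncomputable def r548 : WT := (.node (nat_lit 131) (.leaf (nat_lit 303114) [nat_lit 120, nat_lit 270, nat_lit 330, nat_lit 120, nat_lit 330, nat_lit 240]) (.leaf (nat_lit 304128) [nat_lit 270, nat_lit 330, nat_lit 300, nat_lit 330, nat_lit 240, nat_lit 300]))
noncomputable def r549 : WT := (.node (nat_lit 133) (.leaf (nat_lit 312324) [nat_lit 240, nat_lit 330, nat_lit 300, nat_lit 330, nat_lit 270, nat_lit 300]) (.leaf (nat_lit 313348) [nat_lit 120, nat_lit 90, nat_lit 300, nat_lit 90, nat_lit 120, nat_lit 150]))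
noncomputable def r550 : WT := (.node (nat_lit 135) (.leaf (nat_lit 314370) [nat_lit 150, nat_lit 60, nat_lit 300, nat_lit 60, nat_lit 150, nat_lit 120]) (.leaf (nat_lit 316420) [nat_lit 210, nat_lit 150, nat_lit 120, nat_lit 330, nat_lit 120, nat_lit 150]))
noncomputable def r551 : WT := (.node (nat_lit 120) (.node (nat_lit 112) (.node (nat_lit 108) (.node (nat_lit 106) (.leaf (nat_lit 205833) [nat_lit 330, nat_lit 420, nat_lit 300, nat_lit 240, nat_lit 330, nat_lit 210]) r535) (.node (nat_lit 110) r536 r537)) (.node (nat_lit 116) (.node (nat_lit 114) r538 r539) (.node (nat_lit 118) r540 r541))) (.node (nat_lit 128) (.node (nat_lit 124) (.node (nat_lit 122) r543 r544) (.node (nat_lit 126) r545 r546)) (.node (nat_lit 132) (.node (nat_lit 130) r547 r548) (.node (nat_lit 134) r549 r550))))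
noncomputable def r552 : WT := (.node (nat_lit 138) (.leaf (nat_lit 326656) [nat_lit 120, nat_lit 90, nat_lit 120, nat_lit 90, nat_lit 120, nat_lit 90]) (.leaf (nat_lit 327680) [nat_lit 120, nat_lit 90, nat_lit 180, nat_lit 60, nat_lit 150, nat_lit 180]))
noncomputable def r553 : WT := (.node (nat_lit 140) (.leaf (nat_lit 327681) [nat_lit 180, nat_lit 150, nat_lit 60, nat_lit 180, nat_lit 90, nat_lit 120]) (.leaf (nat_lit 328707) [nat_lit 180, nat_lit 300, nat_lit 150, nat_lit 180, nat_lit 120, nat_lit 300]))
noncomputable def r554 : WT := (.node (nat_lit 142) (.leaf (nat_lit 303108) [nat_lit 120, nat_lit 330, nat_lit 240, nat_lit 120, nat_lit 270, nat_lit 330]) (.leaf (nat_lit 333832) [nat_lit 210, nat_lit 300, nat_lit 120, nat_lit 210, nat_lit 120, nat_lit 300]))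
noncomputable def r555 : WT := (.node (nat_lit 144) (.leaf (nat_lit 334848) [nat_lit 120, nat_lit 210, nat_lit 330, nat_lit 120, nat_lit 330, nat_lit 210]) (.leaf (nat_lit 348162) [nat_lit 210, nat_lit 150, nat_lit 300, nat_lit 330, nat_lit 300, nat_lit 150]))
noncomputable def r556 : WT := (.node (nat_lit 146) (.leaf (nat_lit 348170) [nat_lit 300, nat_lit 150, nat_lit 210, nat_lit 150, nat_lit 300, nat_lit 330]) (.leaf (nat_lit 349184) [nat_lit 150, nat_lit 210, nat_lit 330, nat_lit 150, nat_lit 210, nat_lit 330]))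
noncomputable def r557 : WT := (.leaf (nat_lit 360451) [nat_lit 60, nat_lit 150, nat_lit 90, nat_lit 60, nat_lit 150, nat_lit 90, nat_lit 60, nat_lit 150, nat_lit 90, nat_lit 60, nat_lit 150, nat_lit 90, nat_lit 60, nat_lit 150, nat_lit 90])
noncomputable def r558 : WT := (.node (nat_lit 148) (.leaf (nat_lit 349185) [nat_lit 330, nat_lit 210, nat_lit 150, nat_lit 330, nat_lit 210, nat_lit 150]) r557)
noncomputable def r559 : WT := (.leaf (nat_lit 358401) [nat_lit 90, nat_lit 60, nat_lit 150, nat_lit 120, nat_lit 90, nat_lit 60, nat_lit 150, nat_lit 120, nat_lit 90, nat_lit 60, nat_lit 150, nat_lit 120, nat_lit 90, nat_lit 60, nat_lit 150, nat_lit 120])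
noncomputable def r560 : WT := (.leaf (nat_lit 358403) [nat_lit 60, nat_lit 150, nat_lit 120, nat_lit 90, nat_lit 60, nat_lit 150, nat_lit 120, nat_lit 90, nat_lit 60, nat_lit 150, nat_lit 120, nat_lit 90, nat_lit 60, nat_lit 150, nat_lit 120, nat_lit 90])
noncomputable def r561 : WT := (.node (nat_lit 150) r559 r560)
noncomputable def r562 : WT := (.node (nat_lit 152) (.leaf (nat_lit 11264) [nat_lit 390, nat_lit 390, nat_lit 390]) (.leaf (nat_lit 254977) [nat_lit 300, nat_lit 120, nat_lit 270, nat_lit 300, nat_lit 120, nat_lit 240]))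
noncomputable def r563 : WT := (.node (nat_lit 154) (.leaf (nat_lit 245764) [nat_lit 180, nat_lit 270, nat_lit 150, nat_lit 180, nat_lit 270, nat_lit 120]) (.leaf (nat_lit 245770) [nat_lit 180, nat_lit 270, nat_lit 120, nat_lit 180, nat_lit 270, nat_lit 150]))
noncomputable def r564 : WT := (.node (nat_lit 156) (.leaf (nat_lit 245763) [nat_lit 150, nat_lit 240, nat_lit 180, nat_lit 120, nat_lit 240, nat_lit 180]) (.leaf (nat_lit 245765) [nat_lit 240, nat_lit 180, nat_lit 120, nat_lit 240, nat_lit 180, nat_lit 150]))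
noncomputable def r565 : WT := (.node (nat_lit 158) (.leaf (nat_lit 245771) [nat_lit 240, nat_lit 180, nat_lit 150, nat_lit 240, nat_lit 180, nat_lit 120]) (.leaf (nat_lit 246790) [nat_lit 270, nat_lit 180, nat_lit 120, nat_lit 270, nat_lit 120, nat_lit 180]))
noncomputable def r566 : WT := (.node (nat_lit 160) (.leaf (nat_lit 246795) [nat_lit 240, nat_lit 120, nat_lit 180, nat_lit 240, nat_lit 180, nat_lit 120]) (.leaf (nat_lit 251906) [nat_lit 120, nat_lit 240, nat_lit 330, nat_lit 120, nat_lit 330, nat_lit 270]))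
noncomputable def r567 : WT := (.node (nat_lit 162) (.leaf (nat_lit 251908) [nat_lit 240, nat_lit 330, nat_lit 120, nat_lit 330, nat_lit 270, nat_lit 120]) (.leaf (nat_lit 251914) [nat_lit 330, nat_lit 270, nat_lit 120, nat_lit 240, nat_lit 330, nat_lit 120]))
noncomputable def r568 : WT := (.node (nat_lit 164) (.leaf (nat_lit 240647) [nat_lit 150, nat_lit 120, nat_lit 240, nat_lit 120, nat_lit 150, nat_lit 270]) (.leaf (nat_lit 254981) [nat_lit 270, nat_lit 300, nat_lit 120, nat_lit 240, nat_lit 300, nat_lit 120]))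
noncomputable def r569 : WT := (.node (nat_lit 166) (.leaf (nat_lit 261131) [nat_lit 240, nat_lit 150, nat_lit 180, nat_lit 240, nat_lit 180, nat_lit 150]) (.leaf (nat_lit 274442) [nat_lit 180, nat_lit 270, nat_lit 60, nat_lit 180, nat_lit 90, nat_lit 270]))
noncomputable def r570 : WT := (.node (nat_lit 151) (.node (nat_lit 143) (.node (nat_lit 139) (.node (nat_lit 137) (.leaf (nat_lit 316422) [nat_lit 150, nat_lit 120, nat_lit 330, nat_lit 120, nat_lit 150, nat_lit 210]) r552) (.node (nat_lit 141) r553 r554)) (.node (nat_lit 147) (.node (nat_lit 145) r555 r556) (.node (nat_lit 149) r558 r561))) (.node (nat_lit 159) (.node (nat_lit 155) (.node (nat_lit 153) r562 r563) (.node (nat_lit 157) r564 r565)) (.node (nat_lit 163) (.node (nat_lit 161) r566 r567) (.node (nat_lit 165) r568 r569))))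
noncomputable def r571 : WT := (.node (nat_lit 169) (.leaf (nat_lit 275460) [nat_lit 210, nat_lit 60, nat_lit 240, nat_lit 330, nat_lit 270, nat_lit 60]) (.leaf (nat_lit 275462) [nat_lit 60, nat_lit 240, nat_lit 330, nat_lit 270, nat_lit 60, nat_lit 210]))
noncomputable def r572 : WT := (.node (nat_lit 171) (.leaf (nat_lit 285701) [nat_lit 270, nat_lit 300, nat_lit 90, nat_lit 240, nat_lit 90, nat_lit 300]) (.leaf (nat_lit 287747) [nat_lit 180, nat_lit 240, nat_lit 120, nat_lit 180, nat_lit 240, nat_lit 150]))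
noncomputable def r573 : WT := (.node (nat_lit 173) (.leaf (nat_lit 287751) [nat_lit 120, nat_lit 180, nat_lit 240, nat_lit 150, nat_lit 180, nat_lit 240]) (.leaf (nat_lit 303104) [nat_lit 270, nat_lit 330, nat_lit 120, nat_lit 330, nat_lit 240, nat_lit 120]))
noncomputable def r574 : WT := (.node (nat_lit 175) (.leaf (nat_lit 60419) [nat_lit 210, nat_lit 360, nat_lit 240, nat_lit 360, nat_lit 450]) (.leaf (nat_lit 48134) [nat_lit 390, nat_lit 150, nat_lit 390, nat_lit 390, nat_lit 150]))
noncomputable def r575 : WT := (.node (nat_lit 177) (.leaf (nat_lit 48136) [nat_lit 150, nat_lit 390, nat_lit 390, nat_lit 150, nat_lit 390]) (.leaf (nat_lit 48131) [nat_lit 360, nat_lit 150, nat_lit 360, nat_lit 360, nat_lit 150]))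
noncomputable def r576 : WT := (.node (nat_lit 179) (.leaf (nat_lit 48133) [nat_lit 150, nat_lit 360, nat_lit 360, nat_lit 150, nat_lit 360]) (.leaf (nat_lit 52227) [nat_lit 390, nat_lit 270, nat_lit 360, nat_lit 360, nat_lit 270]))
noncomputable def r577 : WT := (.node (nat_lit 181) (.leaf (nat_lit 52229) [nat_lit 270, nat_lit 360, nat_lit 360, nat_lit 270, nat_lit 390]) (.leaf (nat_lit 56320) [nat_lit 390, nat_lit 450, nat_lit 450, nat_lit 390, nat_lit 180]))
noncomputable def r578 : WT := (.node (nat_lit 183) (.leaf (nat_lit 57351) [nat_lit 420, nat_lit 360, nat_lit 450, nat_lit 180, nat_lit 420]) (.leaf (nat_lit 58371) [nat_lit 450, nat_lit 390, nat_lit 420, nat_lit 360, nat_lit 180]))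
noncomputable def r579 : WT := (.node (nat_lit 185) (.leaf (nat_lit 60418) [nat_lit 270, nat_lit 390, nat_lit 210, nat_lit 420, nat_lit 390]) (.leaf (nat_lit 47107) [nat_lit 180, nat_lit 420, nat_lit 360, nat_lit 360, nat_lit 420]))
noncomputable def r580 : WT := (.node (nat_lit 187) (.leaf (nat_lit 62464) [nat_lit 390, nat_lit 270, nat_lit 180, nat_lit 210, nat_lit 180]) (.leaf (nat_lit 62468) [nat_lit 180, nat_lit 210, nat_lit 180, nat_lit 390, nat_lit 270]))
noncomputable def r581 : WT := (.node (nat_lit 189) (.leaf (nat_lit 62471) [nat_lit 240, nat_lit 360, nat_lit 180, nat_lit 210, nat_lit 180]) (.leaf (nat_lit 62473) [nat_lit 360, nat_lit 180, nat_lit 210, nat_lit 180, nat_lit 240]))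
noncomputable def r582 : WT := (.node (nat_lit 191) (.leaf (nat_lit 65544) [nat_lit 270, nat_lit 390, nat_lit 180, nat_lit 390, nat_lit 210]) (.leaf (nat_lit 66566) [nat_lit 420, nat_lit 180, nat_lit 390, nat_lit 180, nat_lit 420]))
noncomputable def r583 : WT := (.node (nat_lit 193) (.leaf (nat_lit 69636) [nat_lit 360, nat_lit 180, nat_lit 270, nat_lit 390, nat_lit 210]) (.leaf (nat_lit 69639) [nat_lit 210, nat_lit 360, nat_lit 240, nat_lit 180, nat_lit 390]))
noncomputable def r584 : WT := (.node (nat_lit 195) (.leaf (nat_lit 70656) [nat_lit 390, nat_lit 210, nat_lit 180, nat_lit 450, nat_lit 270]) (.leaf (nat_lit 70660) [nat_lit 180, nat_lit 450, nat_lit 270, nat_lit 390, nat_lit 210]))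
noncomputable def r585 : WT := (.node (nat_lit 197) (.leaf (nat_lit 28672) [nat_lit 270, nat_lit 150, nat_lit 240, nat_lit 150]) (.leaf (nat_lit 13315) [nat_lit 210, nat_lit 420, nat_lit 240]))
noncomputable def r586 : WT := (.node (nat_lit 182) (.node (nat_lit 174) (.node (nat_lit 170) (.node (nat_lit 168) (.leaf (nat_lit 275458) [nat_lit 60, nat_lit 210, nat_lit 60, nat_lit 240, nat_lit 330, nat_lit 270]) r571) (.node (nat_lit 172) r572 r573)) (.node (nat_lit 178) (.node (nat_lit 176) r574 r575) (.node (nat_lit 180) r576 r577))) (.node (nat_lit 190) (.node (nat_lit 186) (.node (nat_lit 184) r578 r579) (.node (nat_lit 188) r580 r581)) (.node (nat_lit 194) (.node (nat_lit 192) r582 r583) (.node (nat_lit 196) r584 r585))))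
noncomputable def r587 : WT := (.node (nat_lit 200) (.leaf (nat_lit 18438) [nat_lit 180, nat_lit 390, nat_lit 420, nat_lit 390]) (.leaf (nat_lit 20482) [nat_lit 180, nat_lit 450, nat_lit 180, nat_lit 390]))
noncomputable def r588 : WT := (.node (nat_lit 202) (.leaf (nat_lit 20481) [nat_lit 180, nat_lit 420, nat_lit 180, nat_lit 360]) (.leaf (nat_lit 20483) [nat_lit 420, nat_lit 180, nat_lit 360, nat_lit 180]))
noncomputable def r589 : WT := (.node (nat_lit 204) (.leaf (nat_lit 21506) [nat_lit 300, nat_lit 360, nat_lit 300, nat_lit 390]) (.leaf (nat_lit 21508) [nat_lit 360, nat_lit 300, nat_lit 390, nat_lit 300]))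
noncomputable def r590 : WT := (.node (nat_lit 206) (.leaf (nat_lit 23552) [nat_lit 450, nat_lit 270, nat_lit 450, nat_lit 270]) (.leaf (nat_lit 27650) [nat_lit 120, nat_lit 240, nat_lit 120, nat_lit 270]))
noncomputable def r591 : WT := (.node (nat_lit 208) (.leaf (nat_lit 70657) [nat_lit 240, nat_lit 420, nat_lit 180, nat_lit 210, nat_lit 360]) (.leaf (nat_lit 28674) [nat_lit 150, nat_lit 240, nat_lit 150, nat_lit 270]))
noncomputable def r592 : WT := (.node (nat_lit 210) (.leaf (nat_lit 30720) [nat_lit 270, nat_lit 90, nat_lit 240, nat_lit 90]) (.leaf (nat_lit 31744) [nat_lit 270, nat_lit 180, nat_lit 270, nat_lit 180]))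
noncomputable def r593 : WT := (.node (nat_lit 212) (.leaf (nat_lit 37888) [nat_lit 120, nat_lit 300, nat_lit 120, nat_lit 300]) (.leaf (nat_lit 38914) [nat_lit 90, nat_lit 150, nat_lit 90, nat_lit 150]))
noncomputable def r594 : WT := (.node (nat_lit 214) (.leaf (nat_lit 41988) [nat_lit 90, nat_lit 180, nat_lit 60, nat_lit 180]) (.leaf (nat_lit 45056) [nat_lit 330, nat_lit 300, nat_lit 330, nat_lit 300]))
noncomputable def r595 : WT := (.node (nat_lit 216) (.leaf (nat_lit 46088) [nat_lit 180, nat_lit 390, nat_lit 390, nat_lit 450, nat_lit 360]) (.leaf (nat_lit 47108) [nat_lit 450, nat_lit 180, nat_lit 450, nat_lit 390, nat_lit 390]))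
noncomputable def r596 : WT := (.node (nat_lit 218) (.leaf (nat_lit 47110) [nat_lit 180, nat_lit 450, nat_lit 390, nat_lit 390, nat_lit 450]) (.leaf (nat_lit 139272) [nat_lit 60, nat_lit 210, nat_lit 450, nat_lit 270, nat_lit 60, nat_lit 330]))
noncomputable def r597 : WT := (.node (nat_lit 220) (.leaf (nat_lit 96259) [nat_lit 270, nat_lit 180, nat_lit 240, nat_lit 240, nat_lit 180]) (.leaf (nat_lit 98306) [nat_lit 150, nat_lit 120, nat_lit 150, nat_lit 300, nat_lit 120]))
noncomputable def r598 : WT := (.node (nat_lit 222) (.leaf (nat_lit 98307) [nat_lit 150, nat_lit 120, nat_lit 150, nat_lit 120, nat_lit 300]) (.leaf (nat_lit 101380) [nat_lit 210, nat_lit 330, nat_lit 300, nat_lit 210, nat_lit 330]))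
noncomputable def r599 : WT := (.node (nat_lit 224) (.leaf (nat_lit 101383) [nat_lit 330, nat_lit 210, nat_lit 300, nat_lit 330, nat_lit 210]) (.leaf (nat_lit 101385) [nat_lit 210, nat_lit 300, nat_lit 330, nat_lit 210, nat_lit 330]))
noncomputable def r600 : WT := (.node (nat_lit 226) (.leaf (nat_lit 111627) [nat_lit 420, nat_lit 210, nat_lit 120, nat_lit 270, nat_lit 120, nat_lit 420]) (.leaf (nat_lit 125957) [nat_lit 270, nat_lit 300, nat_lit 420, nat_lit 420, nat_lit 300, nat_lit 210]))
noncomputable def r601 : WT := (.node (nat_lit 228) (.leaf (nat_lit 136195) [nat_lit 240, nat_lit 420, nat_lit 120, nat_lit 240, nat_lit 420, nat_lit 120]) (.leaf (nat_lit 139264) [nat_lit 450, nat_lit 270, nat_lit 60, nat_lit 330, nat_lit 60, nat_lit 210]))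
noncomputable def r602 : WT := (.node (nat_lit 213) (.node (nat_lit 205) (.node (nat_lit 201) (.node (nat_lit 199) (.leaf (nat_lit 13317) [nat_lit 420, nat_lit 240, nat_lit 210]) r587) (.node (nat_lit 203) r588 r589)) (.node (nat_lit 209) (.node (nat_lit 207) r590 r591) (.node (nat_lit 211) r592 r593))) (.node (nat_lit 221) (.node (nat_lit 217) (.node (nat_lit 215) r594 r595) (.node (nat_lit 219) r596 r597)) (.node (nat_lit 225) (.node (nat_lit 223) r598 r599) (.node (nat_lit 227) r600 r601))))
noncomputable def r603 : WT := (.node (nat_lit 230) (.leaf (nat_lit 96257) [nat_lit 180, nat_lit 270, nat_lit 180, nat_lit 240, nat_lit 240]) (.leaf (nat_lit 139269) [nat_lit 330, nat_lit 60, nat_lit 240, nat_lit 420, nat_lit 210, nat_lit 60]))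
noncomputable def r604 : WT := (.node (nat_lit 232) (.leaf (nat_lit 140296) [nat_lit 450, nat_lit 240, nat_lit 450, nat_lit 270, nat_lit 420, nat_lit 270]) (.leaf (nat_lit 140299) [nat_lit 420, nat_lit 270, nat_lit 420, nat_lit 240, nat_lit 450, nat_lit 240]))
noncomputable def r605 : WT := (.node (nat_lit 234) (.leaf (nat_lit 144386) [nat_lit 270, nat_lit 210, nat_lit 450, nat_lit 270, nat_lit 210, nat_lit 450]) (.leaf (nat_lit 154628) [nat_lit 450, nat_lit 240, nat_lit 120, nat_lit 210, nat_lit 450, nat_lit 120]))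
noncomputable def r606 : WT := (.node (nat_lit 236) (.leaf (nat_lit 154633) [nat_lit 120, nat_lit 420, nat_lit 210, nat_lit 120, nat_lit 270, nat_lit 420]) (.leaf (nat_lit 157706) [nat_lit 240, nat_lit 450, nat_lit 120, nat_lit 420, nat_lit 270, nat_lit 120]))
noncomputable def r607 : WT := (.node (nat_lit 238) (.leaf (nat_lit 160772) [nat_lit 420, nat_lit 330, nat_lit 120, nat_lit 330, nat_lit 450, nat_lit 120]) (.leaf (nat_lit 160776) [nat_lit 120, nat_lit 330, nat_lit 450, nat_lit 120, nat_lit 420, nat_lit 330]))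
noncomputable def r608 : WT := (.node (nat_lit 240) (.leaf (nat_lit 160778) [nat_lit 330, nat_lit 450, nat_lit 120, nat_lit 420, nat_lit 330, nat_lit 120]) (.leaf (nat_lit 77833) [nat_lit 420, nat_lit 270, nat_lit 210, nat_lit 450, nat_lit 240]))
noncomputable def r609 : WT := (.node (nat_lit 242) (.leaf (nat_lit 70661) [nat_lit 180, nat_lit 210, nat_lit 360, nat_lit 240, nat_lit 420]) (.leaf (nat_lit 70665) [nat_lit 360, nat_lit 240, nat_lit 420, nat_lit 180, nat_lit 210]))
noncomputable def r610 : WT := (.node (nat_lit 244) (.leaf (nat_lit 72706) [nat_lit 450, nat_lit 270, nat_lit 270, nat_lit 210, nat_lit 450]) (.leaf (nat_lit 73730) [nat_lit 450, nat_lit 120, nat_lit 450, nat_lit 120, nat_lit 450]))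
noncomputable def r611 : WT := (.node (nat_lit 246) (.leaf (nat_lit 73731) [nat_lit 420, nat_lit 120, nat_lit 420, nat_lit 420, nat_lit 120]) (.leaf (nat_lit 74754) [nat_lit 450, nat_lit 240, nat_lit 420, nat_lit 240, nat_lit 450]))
noncomputable def r612 : WT := (.node (nat_lit 248) (.leaf (nat_lit 74760) [nat_lit 240, nat_lit 450, nat_lit 450, nat_lit 240, nat_lit 420]) (.leaf (nat_lit 74757) [nat_lit 270, nat_lit 420, nat_lit 420, nat_lit 270, nat_lit 450]))
noncomputable def r613 : WT := (.node (nat_lit 250) (.leaf (nat_lit 77828) [nat_lit 420, nat_lit 210, nat_lit 240, nat_lit 450, nat_lit 270]) (.leaf (nat_lit 77830) [nat_lit 210, nat_lit 240, nat_lit 450, nat_lit 270, nat_lit 420]))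
noncomputable def r614 : WT := (.node (nat_lit 252) (.leaf (nat_lit 163849) [nat_lit 120, nat_lit 420, nat_lit 270, nat_lit 270, nat_lit 120, nat_lit 210]) (.leaf (nat_lit 78854) [nat_lit 270, nat_lit 120, nat_lit 450, nat_lit 120, nat_lit 210]))
noncomputable def r615 : WT := (.node (nat_lit 254) (.leaf (nat_lit 79877) [nat_lit 210, nat_lit 120, nat_lit 420, nat_lit 240, nat_lit 120]) (.leaf (nat_lit 80902) [nat_lit 270, nat_lit 150, nat_lit 450, nat_lit 150, nat_lit 330]))
noncomputable def r616 : WT := (.node (nat_lit 256) (.leaf (nat_lit 80905) [nat_lit 420, nat_lit 150, nat_lit 240, nat_lit 330, nat_lit 150]) (.leaf (nat_lit 88070) [nat_lit 270, nat_lit 300, nat_lit 450, nat_lit 210, nat_lit 300]))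
noncomputable def r617 : WT := (.node (nat_lit 258) (.leaf (nat_lit 88073) [nat_lit 420, nat_lit 300, nat_lit 240, nat_lit 300, nat_lit 210]) (.leaf (nat_lit 89090) [nat_lit 240, nat_lit 210, nat_lit 240, nat_lit 210, nat_lit 450]))
noncomputable def r618 : WT := (.node (nat_lit 260) (.leaf (nat_lit 89092) [nat_lit 210, nat_lit 240, nat_lit 210, nat_lit 450, nat_lit 240]) (.leaf (nat_lit 93187) [nat_lit 240, nat_lit 150, nat_lit 240, nat_lit 240, nat_lit 150]))
noncomputable def r619 : WT := (.node (nat_lit 245) (.node (nat_lit 237) (.node (nat_lit 233) (.node (nat_lit 231) r603 r604) (.node (nat_lit 235) r605 r606)) (.node (nat_lit 241) (.node (nat_lit 239) r607 r608) (.node (nat_lit 243) r609 r610))) (.node (nat_lit 253) (.node (nat_lit 249) (.node (nat_lit 247) r611 r612) (.node (nat_lit 251) r613 r614)) (.node (nat_lit 257) (.node (nat_lit 255) r615 r616) (.node (nat_lit 259) r617 r618))))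
noncomputable def wP : WT := (.node (nat_lit 58) (.node (nat_lit 19) (.node (nat_lit 7) (.node (nat_lit 3) r521 r522) (.node (nat_lit 13) r523 r524)) (.node (nat_lit 36) (.node (nat_lit 27) r526 r527) (.node (nat_lit 47) r528 r529))) (.node (nat_lit 136) (.node (nat_lit 89) (.node (nat_lit 73) r530 r531) (.node (nat_lit 105) r534 r551)) (.node (nat_lit 198) (.node (nat_lit 167) r570 r586) (.node (nat_lit 229) r602 r619))))
noncomputable def P : Par := ⟨tb, nat_lit 480, nat_lit 0xffffffffffffffffffffffffffffffffffffffffffffffffffffffffffffffffffffffffffffffffffffffffffffffffffffffffffffffffffffffff, nat_lit 226733, nat_lit 1073741823, nat_lit 262143, nat_lit 30, nat_lit 18, nat_lit 78489,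
  [nat_lit 60, nat_lit 90, nat_lit 120, nat_lit 150, nat_lit 180, nat_lit 210, nat_lit 240, nat_lit 270, nat_lit 300, nat_lit 330, nat_lit 360, nat_lit 390, nat_lit 420, nat_lit 450], [nat_lit 120, nat_lit 150, nat_lit 180, nat_lit 210, nat_lit 240, nat_lit 270, nat_lit 300, nat_lit 330, nat_lit 360, nat_lit 390, nat_lit 420, nat_lit 450], wP,
  (.cons (nat_lit 60) w0 (.cons (nat_lit 90) w1 (.cons (nat_lit 120) w2 (.cons (nat_lit 150) w3 (.cons (nat_lit 180) w4 (.cons (nat_lit 210) w5 (.cons (nat_lit 240) w6 (.cons (nat_lit 270) w7 .nil)))))))),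
  (.cons (nat_lit 300) w8 (.cons (nat_lit 330) w9 (.cons (nat_lit 360) w10 (.cons (nat_lit 390) w11 (.cons (nat_lit 420) w12 (.cons (nat_lit 450) w13 .nil))))))⟩

end Cfsg.Agent.Lib.TCJ3
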