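import Cfsg.Agent.Lib.TCDefs

set_option autoImplicit false
set_option maxRecDepth 100000

namespace Cfsg.Agent.Lib.TCJ41
open Cfsg.Agent.Lib.TCCore

noncomputable def l0 : T := .leaf (nat_lit 0) (nat_lit 0x3ffffffda150c49b4a6527fff7264046fffffff0c99bcb6a4bffffffdd180153fff17218a3ffffffffffd9cb806c06214657a41924628ffffffffffe09c01c3ffffffffff12958a4fffffff8680046ffffffffffc523504c445fffde0a00abfff128439effffffffffc4c67a30054fffffff410c6181467ffffffdd1200e3ffffffffff0c2bfff3d04cc2764c046fffffff1469142430bfff3905e170153ffffffffff1050c0f3b0bfff7820046cc8f440cf0063dc4ef0b4d2d7fff011b194c6eacb612fb2b8c8db2bdfffc046ae80438c0ef1b814ff0bec4fbfff018b0babcf05bcc0ec6c0ccff1b6fffc054c08463dbef6e3abed4537b8c7fff00aaaaec2fafb7c7030bdbee82affffc01cc4f4539c8feeb5baf2f2fc0effff018aeb712d85bab6c6d32bae6f39fffc062aa32db712fb33fc8faab30ecbfff0072e39c0eee38b4c04b6b8c45bcfffc03810d6d3f14e4537b0c313dcafffff01c04b6aad2b34c0f2f3ad5003b4fffc01cacb6bb5acd433310bc435c503fff01183969ece8330abc3b4a8cab38fffc0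46a6b29afaac6db90cc4438aacffff00e0289a8ca8b00ecae39baf2db7fffc070108a93188becb6b6de3308ec3fff01c02088ac2a3212d03330ceefbafffc070acec8900ab6b1a8a8a5a39aaffff0152bb40cb820592a618c8466a1bfffc054a8ca9ab1eae92180767aa789ffff015268d20b2a2c1ca9f109cba923fffc046889279a1aa5e101eae5a7a0b3fff01525271caa697903252d18a1d26fffc02a8c7a42590963111721c261aa7fff00e24a99699b96107da267ab262afffc0460a543ca949daa7667dda972a3fff01c041f8ea23a85e90547863a292fffc0708aa8523612194760957055813fff018b3c065245a4544c4c6a2ae62efffc03812c13a2508a32e82683a14c27fff00ab0bc0c745454c769ac4824422fffc062b0f841f803a22588914075443fff01884a592444a068984a7505839efffc01c8aa04450c7551e527841f4c5bfff01522930e783a182b13a1485029cfffc01c8466124086e128764431d4453fff015219a0a720a34024184aab6099fffc038886c5c2a0aa122aeb8d0d1263fff00705c83455d15171049875261adfffc038105e61676985191b1051a3037fff01c04989ca5e9a7a5de970e4cb08fffc02a10cdc27966020d0c5539e527ffff0118326672cd990e5820d2e18c91fffc038c8fc3931e18b0f130519c4a77fff018a21d0c484145319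5a32820417fffc0620a446860e4db4a0f2e325243bfff01c0312083a51f78723a83054386fffc062063c80524b9fab7aa95a0121ffff01c02101c2e00b3304b940a0c102fffc01c182e0a00a441830e189928897fff011a72b06102830a542963260d9afffc062ace1f217c7a22d92a440b0c2bfff007068e7e3c78f16084870c2848cfffc02a0e103870a25ea30f0c38c0e2ffff01503310c282083e1109b4e892a1fffc0540abc289061de947a3cb972a4ffff0150203082040a142c10214414a0fffc03808148141c4840e0c0c4113057fff01c02860ab4890261490506116a4fffc02a1028102083421b3c256a40817fff01882870c341020e1820e080830ffffc05402041830610187142c18f0a0ffff01c0102040408104040810404081fffc000)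

end Cfsg.Agent.Lib.TCJ41
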