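import Cfsg.Agent.Lib.TCJ41D0

set_option autoImplicit false
set_option maxRecDepth 100000

namespace Cfsg.Agent.Lib.TCJ41
open Cfsg.Agent.Lib.TCCore

noncomputable def tb : T := l0
noncomputable def r0 : WT := (.node (nat_lit 7) (.leaf (nat_lit 9230) [nat_lit 98, nat_lit 28, nat_lit 28, nat_lit 70, nat_lit 98, nat_lit 56, nat_lit 98, nat_lit 98]) (.leaf (nat_lit 10240) [nat_lit 56, nat_lit 112, nat_lit 84, nat_lit 28, nat_lit 112, nat_lit 56, nat_lit 84, nat_lit 112]))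
noncomputable def r1 : WT := (.node (nat_lit 9) (.leaf (nat_lit 12297) [nat_lit 70, nat_lit 98, nat_lit 56, nat_lit 42, nat_lit 84, nat_lit 42, nat_lit 98, nat_lit 98]) (.node (nat_lit 10) (.leaf (nat_lit 14336) [nat_lit 28, nat_lit 84, nat_lit 84, nat_lit 70, nat_lit 84, nat_lit 56, nat_lit 28, nat_lit 84]) (.leaf (nat_lit 14350) [nat_lit 84, nat_lit 28, nat_lit 28, nat_lit 84, nat_lit 84, nat_lit 70, nat_lit 84, nat_lit 56])))
noncomputable def w0 : WT := (.node (nat_lit 1) (.leaf (nat_lit 0) [nat_lit 42]) (.node (nat_lit 4) (.node (nat_lit 2) (.leaf (nat_lit 4096) [nat_lit 28, nat_lit 28]) (.node (nat_lit 3) (.leaf (nat_lit 8192) [nat_lit 84, nat_lit 112, nat_lit 98, nat_lit 42, nat_lit 112]) (.leaf (nat_lit 11275) [nat_lit 84, nat_lit 70, nat_lit 42, nat_lit 84, nat_lit 42, nat_lit 98, nat_lit 56, nat_lit 98]))) (.node (nat_lit 6) (.node (nat_lit 5) (.leaf (nat_lit 12288) [nat_lit 70, nat_lit 84, nat_lit 56, nat_lit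 42, nat_lit 84, nat_lit 84, nat_lit 28, nat_lit 98]) (.leaf (nat_lit 7168) [nat_lit 56, nat_lit 84, nat_lit 28, nat_lit 56, nat_lit 84])) (.node (nat_lit 8) r0 r1))))
noncomputable def r2 : WT := (.node (nat_lit 6) (.leaf (nat_lit 9231) [nat_lit 42, nat_lit 84, nat_lit 42, nat_lit 84, nat_lit 84, nat_lit 70, nat_lit 84, nat_lit 56]) (.leaf (nat_lit 11270) [nat_lit 84, nat_lit 70, nat_lit 84, nat_lit 28, nat_lit 98, nat_lit 28, nat_lit 56, nat_lit 98]))
noncomputable def r3 : WT := (.node (nat_lit 9) (.node (nat_lit 8) (.leaf (nat_lit 11281) [nat_lit 84, nat_lit 42, nat_lit 98, nat_lit 56, nat_lit 98, nat_lit 28, nat_lit 84, nat_lit 70]) (.leaf (nat_lit 12296) [nat_lit 84, nat_lit 84, nat_lit 28, nat_lit 98, nat_lit 28, nat_lit 70, nat_lit 84, nat_lit 56])) (.node (nat_lit 10) (.leaf (nat_lit 12291) [nat_lit 98, nat_lit 98, nat_lit 28, nat_lit 70, nat_lit 98, nat_lit 56, nat_lit 42, nat_lit 84]) (.leaf (nat_lit 12305)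 [nat_lit 84, nat_lit 42, nat_lit 98, nat_lit 98, nat_lit 28, nat_lit 70, nat_lit 98, nat_lit 56])))
noncomputable def w1 : WT := (.node (nat_lit 1) (.leaf (nat_lit 2) [nat_lit 28]) (.node (nat_lit 3) (.node (nat_lit 2) (.leaf (nat_lit 4097) [nat_lit 42, nat_lit 42]) (.leaf (nat_lit 8200) [nat_lit 112, nat_lit 28, nat_lit 84, nat_lit 112, nat_lit 98])) (.node (nat_lit 5) (.node (nat_lit 4) (.leaf (nat_lit 9219) [nat_lit 84, nat_lit 84, nat_lit 70, nat_lit 84, nat_lit 56, nat_lit 42, nat_lit 42, nat_lit 84]) (.leaf (nat_lit 7173) [nat_lit 98, nat_lit 70, nat_lit 42, nat_lit 98, nat_lit 70])) (.node (nat_lit 7) r2 r3))))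
noncomputable def r4 : WT := (.node (nat_lit 5) (.leaf (nat_lit 10242) [nat_lit 112, nat_lit 84, nat_lit 28, nat_lit 112, nat_lit 56, nat_lit 84, nat_lit 112, nat_lit 28]) (.leaf (nat_lit 12303) [nat_lit 42, nat_lit 84, nat_lit 42, nat_lit 98, nat_lit 98, nat_lit 28, nat_lit 70, nat_lit 98]))
noncomputable def r5 : WT := (.node (nat_lit 7) (.leaf (nat_lit 15360) [nat_lit 112, nat_lit 70, nat_lit 98, nat_lit 98, nat_lit 98, nat_lit 112, nat_lit 98, nat_lit 112]) (.leaf (nat_lit 9229) [nat_lit 42, nat_lit 42, nat_lit 84, nat_lit 42, nat_lit 84, nat_lit 84, nat_lit 70, nat_lit 84]))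
noncomputable def r6 : WT := (.node (nat_lit 9) (.leaf (nat_lit 10252) [nat_lit 84, nat_lit 112, nat_lit 28, nat_lit 56, nat_lit 112, nat_lit 84, nat_lit 28, nat_lit 112]) (.node (nat_lit 10) (.leaf (nat_lit 11266) [nat_lit 98, nat_lit 42, nat_lit 84, nat_lit 70, nat_lit 84, nat_lit 28, nat_lit 98, nat_lit 28]) (.leaf (nat_lit 11271) [nat_lit 98, nat_lit 28, nat_lit 84, nat_lit 70, nat_lit 42, nat_lit 84, nat_lit 42, nat_lit 98])))
noncomputable def w2 : WT := (.node (nat_lit 1) (.leaf (nat_lit 1024) [nat_lit 70]) (.node (nat_lit 3) (.node (nat_lit 2) (.leaf (nat_lit 5120) [nat_lit 56, nat_lit 56]) (.leaf (nat_lit 9224) [nat_lit 98, nat_lit 98, nat_lit 28, nat_lit 98, nat_lit 28, nat_lit 28, nat_lit 70, nat_lit 98])) (.node (nat_lit 6) (.node (nat_lit 4) (.leaf (nat_lit 7170) [nat_lit 84, nat_lit 28, nat_lit 56, nat_lit 84, nat_lit 28]) r4) (.node (nat_lit 8) r5 r6))))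
noncomputable def r7 : WT := (.node (nat_lit 4) (.leaf (nat_lit 11279) [nat_lit 42, nat_lit 84, nat_lit 42, nat_lit 98, nat_lit 56, nat_lit 98, nat_lit 28, nat_lit 84]) (.leaf (nat_lit 9220) [nat_lit 98, nat_lit 56, nat_lit 98, nat_lit 98, nat_lit 28, nat_lit 98, nat_lit 28, nat_lit 28]))
noncomputable def r8 : WT := (.node (nat_lit 6) (.leaf (nat_lit 10255) [nat_lit 42, nat_lit 112, nat_lit 98, nat_lit 70, nat_lit 112, nat_lit 42, nat_lit 98, nat_lit 112]) (.leaf (nat_lit 11274) [nat_lit 84, nat_lit 28, nat_lit 98, nat_lit 28, nat_lit 56, nat_lit 98, nat_lit 42, nat_lit 84]))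
noncomputable def r9 : WT := (.node (nat_lit 8) (.leaf (nat_lit 12290) [nat_lit 84, nat_lit 56, nat_lit 42, nat_lit 84, nat_lit 84, nat_lit 28, nat_lit 98, nat_lit 28]) (.leaf (nat_lit 13318) [nat_lit 84, nat_lit 70, nat_lit 84, nat_lit 70, nat_lit 84, nat_lit 56, nat_lit 56, nat_lit 84]))
noncomputable def r10 : WT := (.node (nat_lit 10) (.leaf (nat_lit 13322) [nat_lit 84, nat_lit 70, nat_lit 84, nat_lit 56, nat_lit 56, nat_lit 84, nat_lit 70, nat_lit 84]) (.leaf (nat_lit 15377) [nat_lit 112, nat_lit 84, nat_lit 112, nat_lit 84, nat_lit 84, nat_lit 84, nat_lit 56, nat_lit 112]))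
noncomputable def w3 : WT := (.node (nat_lit 1) (.leaf (nat_lit 1026) [nat_lit 56]) (.node (nat_lit 3) (.node (nat_lit 2) (.leaf (nat_lit 7171) [nat_lit 42, nat_lit 98, nat_lit 70, nat_lit 42, nat_lit 98]) (.leaf (nat_lit 5121) [nat_lit 70, nat_lit 70])) (.node (nat_lit 7) (.node (nat_lit 5) r7 r8) (.node (nat_lit 9) r9 r10))))
noncomputable def r11 : WT := (.node (nat_lit 5) (.leaf (nat_lit 9217) [nat_lit 42, nat_lit 84, nat_lit 84, nat_lit 70, nat_lit 84, nat_lit 56, nat_lit 42, nat_lit 42]) (.leaf (nat_lit 10246) [nat_lit 28, nat_lit 112, nat_lit 56, nat_lit 84, nat_lit 112, nat_lit 28, nat_lit 56, nat_lit 112]))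
noncomputable def r12 : WT := (.node (nat_lit 7) (.leaf (nat_lit 11265) [nat_lit 42, nat_lit 98, nat_lit 56, nat_lit 98, nat_lit 28, nat_lit 84, nat_lit 70, nat_lit 42]) (.leaf (nat_lit 11277) [nat_lit 70, nat_lit 42, nat_lit 84, nat_lit 42, nat_lit 98, nat_lit 56, nat_lit 98, nat_lit 28]))
noncomputable def r13 : WT := (.node (nat_lit 9) (.leaf (nat_lit 12298) [nat_lit 84, nat_lit 28, nat_lit 98, nat_lit 28, nat_lit 70, nat_lit 84, nat_lit 56, nat_lit 42]) (.leaf (nat_lit 13316) [nat_lit 70, nat_lit 84, nat_lit 70, nat_lit 84, nat_lit 70, nat_lit 84, nat_lit 56, nat_lit 56]))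
noncomputable def r14 : WT := (.node (nat_lit 11) (.leaf (nat_lit 13320) [nat_lit 70, nat_lit 84, nat_lit 70, nat_lit 84, nat_lit 56, nat_lit 56, nat_lit 84, nat_lit 70]) (.leaf (nat_lit 15363) [nat_lit 112, nat_lit 84, nat_lit 84, nat_lit 84, nat_lit 56, nat_lit 112, nat_lit 70, nat_lit 112]))
noncomputable def w4 : WT := (.node (nat_lit 1) (.leaf (nat_lit 2048) [nat_lit 98]) (.node (nat_lit 4) (.node (nat_lit 2) (.leaf (nat_lit 6144) [nat_lit 84, nat_lit 84, nat_lit 84]) (.node (nat_lit 3) (.leaf (nat_lit 8194) [nat_lit 112, nat_lit 98, nat_lit 42, nat_lit 112, nat_lit 28]) (.leaf (nat_lit 10254) [nat_lit 112, nat_lit 28, nat_lit 56, nat_lit 112, nat_lit 84, nat_lit 28, nat_lit 112, nat_lit 56]))) (.node (nat_lit 8) (.node (nat_lit 6) r11 r12) (.node (nat_lit 10) r13 r14))))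
noncomputable def r15 : WT := (.node (nat_lit 4) (.leaf (nat_lit 8198) [nat_lit 42, nat_lit 112, nat_lit 28, nat_lit 84, nat_lit 112]) (.leaf (nat_lit 10243) [nat_lit 70, nat_lit 112, nat_lit 42, nat_lit 98, nat_lit 112, nat_lit 70, nat_lit 42, nat_lit 112]))
noncomputable def r16 : WT := (.node (nat_lit 7) (.leaf (nat_lit 12295) [nat_lit 28, nat_lit 70, nat_lit 98, nat_lit 56, nat_lit 42, nat_lit 84, nat_lit 42, nat_lit 98]) (.leaf (nat_lit 9226) [nat_lit 98, nat_lit 28, nat_lit 98, nat_lit 28, nat_lit 28, nat_lit 70, nat_lit 98, nat_lit 56]))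
noncomputable def r17 : WT := (.node (nat_lit 9) (.leaf (nat_lit 10251) [nat_lit 112, nat_lit 70, nat_lit 42, nat_lit 112, nat_lit 98, nat_lit 70, nat_lit 112, nat_lit 42]) (.leaf (nat_lit 11280) [nat_lit 28, nat_lit 56, nat_lit 98, nat_lit 42, nat_lit 84, nat_lit 70, nat_lit 84, nat_lit 28]))
noncomputable def r18 : WT := (.node (nat_lit 11) (.leaf (nat_lit 11269) [nat_lit 56, nat_lit 98, nat_lit 28, nat_lit 84, nat_lit 70, nat_lit 42, nat_lit 84, nat_lit 42]) (.node (nat_lit 12) (.leaf (nat_lit 14343) [nat_lit 56, nat_lit 98, nat_lit 98, nat_lit 42, nat_lit 42, nat_lit 98, nat_lit 42, nat_lit 70]) (.leaf (nat_lit 15366) [nat_lit 98, nat_lit 98, nat_lit 112, nat_lit 98, nat_lit 112, nat_lit 56, nat_lit 112, nat_lit 70])))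
noncomputable def w5 : WT := (.node (nat_lit 1) (.leaf (nat_lit 2050) [nat_lit 84]) (.node (nat_lit 5) (.node (nat_lit 2) (.leaf (nat_lit 6145) [nat_lit 98, nat_lit 98, nat_lit 98]) (.node (nat_lit 3) (.leaf (nat_lit 7169) [nat_lit 70, nat_lit 42, nat_lit 98, nat_lit 70, nat_lit 42]) r15)) (.node (nat_lit 8) (.node (nat_lit 6) (.leaf (nat_lit 11268) [nat_lit 42, nat_lit 84, nat_lit 70, nat_lit 84, nat_lit 28, nat_lit 98, nat_lit 28, nat_lit 56]) r16) (.node (nat_lit 10) r17 r18))))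
noncomputable def r19 : WT := (.node (nat_lit 7) (.leaf (nat_lit 10253) [nat_lit 70, nat_lit 42, nat_lit 112, nat_lit 98, nat_lit 70, nat_lit 112, nat_lit 42, nat_lit 98]) (.leaf (nat_lit 8196) [nat_lit 98, nat_lit 42, nat_lit 112, nat_lit 28, nat_lit 84]))
noncomputable def r20 : WT := (.node (nat_lit 9) (.leaf (nat_lit 10250) [nat_lit 56, nat_lit 84, nat_lit 112, nat_lit 28, nat_lit 56, nat_lit 112, nat_lit 84, nat_lit 28]) (.leaf (nat_lit 15361) [nat_lit 84, nat_lit 112, nat_lit 84, nat_lit 84, nat_lit 84, nat_lit 56, nat_lit 112, nat_lit 70]))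
noncomputable def w6 : WT := (.node (nat_lit 1) (.leaf (nat_lit 3072) [nat_lit 112]) (.node (nat_lit 4) (.node (nat_lit 2) (.leaf (nat_lit 10244) [nat_lit 84, nat_lit 28, nat_lit 112, nat_lit 56, nat_lit 84, nat_lit 112, nat_lit 28, nat_lit 56]) (.node (nat_lit 3) (.leaf (nat_lit 8202) [nat_lit 28, nat_lit 84, nat_lit 112, nat_lit 98, nat_lit 42]) (.leaf (nat_lit 15362) [nat_lit 70, nat_lit 98, nat_lit 98, nat_lit 98, nat_lit 112, nat_lit 98, nat_lit 112, nat_lit 56]))) (.node (nat_lit 6) (.node (nat_lit 5) (.leaf (nat_lit 15372) [nat_lit 98, nat_lit 112, nat_lit 56, nat_lit 112, nat_lit 70, nat_lit 98, nat_lit 98, nat_lit 98]) (.leaf (nat_lit 10247) [nat_lit 42, nat_lit 98, nat_lit 112, nat_lit 70, nat_lit 42, nat_lit 112, nat_lit 98, nat_lit 70])) (.node (nat_lit 8) r19 r20))))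
noncomputable def wP : WT := (.node (nat_lit 1) (.leaf (nat_lit 7173) [nat_lit 42, nat_lit 98, nat_lit 70, nat_lit 42, nat_lit 98, nat_lit 70]) (.node (nat_lit 2) (.leaf (nat_lit 10253) [nat_lit 112, nat_lit 70, nat_lit 42, nat_lit 112, nat_lit 98, nat_lit 70, nat_lit 112, nat_lit 42, nat_lit 98]) (.leaf (nat_lit 13323) [nat_lit 56, nat_lit 98, nat_lit 70, nat_lit 70, nat_lit 98, nat_lit 56, nat_lit 98, nat_lit 56, nat_lit 98])))
noncomputable def P : Par := ⟨tb, nat_lit 126, nat_lit 0x3fffffffffffffffffffffffffffffff, nat_lit 75, nat_lit 16383, nat_lit 127, nat_lit 14, nat_lit 7, nat_lit 64,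
  [nat_lit 28, nat_lit 42, nat_lit 56, nat_lit 70, nat_lit 84, nat_lit 98, nat_lit 112], [nat_lit 28, nat_lit 56, nat_lit 84], wP,
  (.cons (nat_lit 28) w0 (.cons (nat_lit 42) w1 (.cons (nat_lit 56) w2 (.cons (nat_lit 70) w3 (.cons (nat_lit 84) w4 (.cons (nat_lit 98) w5 (.cons (nat_lit 112) w6 .nil))))))),
  .nil⟩

end Cfsg.Agent.Lib.TCJ41
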