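import Cfsg.Agent.Lib.TCJ42D0

set_option autoImplicit false
set_option maxRecDepth 100000

namespace Cfsg.Agent.Lib.TCJ42
open Cfsg.Agent.Lib.TCCore

noncomputable def tb : T := (.node (nat_lit 1140) (.node (nat_lit 570) (.node (nat_lit 228) (.node (nat_lit 114) l0 l1) (.node (nat_lit 342) l2 (.node (nat_lit 456) l3 l4))) (.node (nat_lit 798) (.node (nat_lit 684) l5 l6) (.node (nat_lit 912) l7 (.node (nat_lit 1026) l8 l9)))) (.node (nat_lit 1710) (.node (nat_lit 1368) (.node (nat_lit 1254) l10 l11) (.node (nat_lit 1482) l12 (.node (nat_lit 1596) l13 l14))) (.node (nat_lit 1938) (.node (nat_lit 1824) l15 l16) (.node (nat_lit 2052) l17 (.node (nat_lit 2166) l18 l19)))))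
noncomputable def r0 : WT := (.node (nat_lit 6) (.leaf (nat_lit 7168) [nat_lit 42, nat_lit 105, nat_lit 147, nat_lit 84, nat_lit 147, nat_lit 147, nat_lit 42, nat_lit 147]) (.node (nat_lit 7) (.leaf (nat_lit 8192) [nat_lit 84, nat_lit 147, nat_lit 63, nat_lit 126, nat_lit 105, nat_lit 126, nat_lit 42, nat_lit 147]) (.leaf (nat_lit 8206) [nat_lit 147, nat_lit 42, nat_lit 84, nat_lit 147, nat_lit 63, nat_lit 126, nat_lit 105, nat_lit 126])))
noncomputable def r1 : WT := (.node (nat_lit 10) (.node (nat_lit 9) (.leaf (nat_lit 8203) [nat_lit 126, nat_lit 105, nat_lit 63, nat_lit 126, nat_lit 63, nat_lit 147, nat_lit 84, nat_lit 147]) (.leaf (nat_lit 9216) [nat_lit 105, nat_lit 126, nat_lit 84, nat_lit 63, nat_lit 126, nat_lit 126, nat_lit 42, nat_lit 147])) (.node (nat_lit 12) (.node (nat_lit 11) (.leaf (nat_lit 9225) [nat_lit 105, nat_lit 147, nat_lit 84, nat_lit 63, nat_lit 126, nat_lit 63, nat_lit 147, nat_lit 147]) (.leaf (nat_lit 9230)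 [nat_lit 147, nat_lit 42, nat_lit 105, nat_lit 126, nat_lit 84, nat_lit 63, nat_lit 126, nat_lit 126])) (.node (nat_lit 13) (.leaf (nat_lit 7170) [nat_lit 105, nat_lit 147, nat_lit 84, nat_lit 147, nat_lit 147, nat_lit 42, nat_lit 147, nat_lit 42]) (.node (nat_lit 14) (.leaf (nat_lit 11264) [nat_lit 42, nat_lit 126, nat_lit 126, nat_lit 105, nat_lit 126, nat_lit 84, nat_lit 42, nat_lit 126]) (.leaf (nat_lit 11266) [nat_lit 126, nat_lit 126, nat_lit 105, nat_lit 126, nat_lit 84, nat_lit 42, nat_lit 126, nat_lit 42])))))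
noncomputable def w0 : WT := (.node (nat_lit 1) (.leaf (nat_lit 0) [nat_lit 63]) (.node (nat_lit 3) (.node (nat_lit 2) (.leaf (nat_lit 3072) [nat_lit 42, nat_lit 42]) (.leaf (nat_lit 6144) [nat_lit 84, nat_lit 126, nat_lit 42, nat_lit 84, nat_lit 126])) (.node (nat_lit 5) (.node (nat_lit 4) (.leaf (nat_lit 7182) [nat_lit 147, nat_lit 42, nat_lit 42, nat_lit 105, nat_lit 147, nat_lit 84, nat_lit 147, nat_lit 147]) (.leaf (nat_lit 11278) [nat_lit 126, nat_lit 42, nat_lit 42, nat_lit 126, nat_lit 126, nat_lit 105, nat_lit 126, nat_lit 84])) (.node (nat_lit 8) r0 r1))))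
noncomputable def r2 : WT := (.node (nat_lit 6) (.leaf (nat_lit 11267) [nat_lit 105, nat_lit 147, nat_lit 84, nat_lit 147, nat_lit 147, nat_lit 63, nat_lit 63, nat_lit 147]) (.node (nat_lit 7) (.leaf (nat_lit 7183) [nat_lit 63, nat_lit 126, nat_lit 63, nat_lit 126, nat_lit 126, nat_lit 105, nat_lit 126, nat_lit 84]) (.leaf (nat_lit 8195) [nat_lit 147, nat_lit 84, nat_lit 147, nat_lit 42, nat_lit 126, nat_lit 105, nat_lit 63, nat_lit 126])))
noncomputable def r3 : WT := (.node (nat_lit 10) (.node (nat_lit 9) (.leaf (nat_lit 9224) [nat_lit 126, nat_lit 126, nat_lit 42, nat_lit 147, nat_lit 42, nat_lit 105, nat_lit 126, nat_lit 84]) (.leaf (nat_lit 9233) [nat_lit 126, nat_lit 63, nat_lit 147, nat_lit 147, nat_lit 42, nat_lit 105, nat_lit 147, nat_lit 84])) (.node (nat_lit 12) (.node (nat_lit 11) (.leaf (nat_lit 11279) [nat_lit 63, nat_lit 147, nat_lit 63, nat_lit 105, nat_lit 147, nat_lit 84, nat_lit 147, nat_lit 147]) (.leaf (nat_lit 8209)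 [nat_lit 126, nat_lit 63, nat_lit 147, nat_lit 84, nat_lit 147, nat_lit 42, nat_lit 126, nat_lit 105])) (.node (nat_lit 13) (.leaf (nat_lit 7185) [nat_lit 126, nat_lit 63, nat_lit 126, nat_lit 126, nat_lit 105, nat_lit 126, nat_lit 84, nat_lit 63]) (.leaf (nat_lit 9219) [nat_lit 147, nat_lit 147, nat_lit 42, nat_lit 105, nat_lit 147, nat_lit 84, nat_lit 63, nat_lit 126]))))
noncomputable def w1 : WT := (.node (nat_lit 1) (.leaf (nat_lit 2) [nat_lit 42]) (.node (nat_lit 3) (.node (nat_lit 2) (.leaf (nat_lit 3073) [nat_lit 63, nat_lit 63]) (.leaf (nat_lit 8198) [nat_lit 126, nat_lit 105, nat_lit 126, nat_lit 42, nat_lit 147, nat_lit 42, nat_lit 84, nat_lit 147])) (.node (nat_lit 5) (.node (nat_lit 4) (.leaf (nat_lit 6149) [nat_lit 147, nat_lit 105, nat_lit 63, nat_lit 147, nat_lit 105]) (.leaf (nat_lit 7171) [nat_lit 126, nat_lit 126, nat_lit 105, nat_lit 126, nat_lit 84, nat_lit 63, nat_lit 63, nat_lit 126])) (.node (nat_lit 8) r2 r3))))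
noncomputable def r4 : WT := (.node (nat_lit 6) (.leaf (nat_lit 9231) [nat_lit 63, nat_lit 126, nat_lit 63, nat_lit 147, nat_lit 147, nat_lit 42, nat_lit 105, nat_lit 147]) (.node (nat_lit 7) (.leaf (nat_lit 8199) [nat_lit 147, nat_lit 42, nat_lit 126, nat_lit 105, nat_lit 63, nat_lit 126, nat_lit 63, nat_lit 147]) (.leaf (nat_lit 9222) [nat_lit 63, nat_lit 126, nat_lit 126, nat_lit 42, nat_lit 147, nat_lit 42, nat_lit 105, nat_lit 126])))
noncomputable def r5 : WT := (.node (nat_lit 15) (.leaf (nat_lit 10251) [nat_lit 147, nat_lit 105, nat_lit 105, nat_lit 147, nat_lit 84, nat_lit 147, nat_lit 84, nat_lit 147]) (.leaf (nat_lit 11273) [nat_lit 147, nat_lit 147, nat_lit 63, nat_lit 63, nat_lit 147, nat_lit 63, nat_lit 105, nat_lit 147]))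
noncomputable def r6 : WT := (.node (nat_lit 10) (.node (nat_lit 9) (.leaf (nat_lit 8194) [nat_lit 147, nat_lit 63, nat_lit 126, nat_lit 105, nat_lit 126, nat_lit 42, nat_lit 147, nat_lit 42]) (.leaf (nat_lit 10243) [nat_lit 147, nat_lit 84, nat_lit 147, nat_lit 84, nat_lit 147, nat_lit 105, nat_lit 105, nat_lit 147])) (.node (nat_lit 12) (.node (nat_lit 11) (.leaf (nat_lit 10247) [nat_lit 147, nat_lit 84, nat_lit 147, nat_lit 105, nat_lit 105, nat_lit 147, nat_lit 84, nat_lit 147]) (.leaf (nat_lit 11276) [nat_lit 42, nat_lit 126, nat_lit 42, nat_lit 42, nat_lit 126, nat_lit 126, nat_lit 105, nat_lit 126])) (.node (nat_lit 13) (.leaf (nat_lit 10240) [nat_lit 84, nat_lit 126, nat_lit 105, nat_lit 126, nat_lit 105, nat_lit 126, nat_lit 105, nat_lit 126]) (.node (nat_lit 14) (.leaf (nat_lit 10242) [nat_lit 126, nat_lit 105, nat_lit 126, nat_lit 105, nat_lit 126, nat_lit 105, nat_lit 126, nat_lit 84]) r5))))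
noncomputable def w2 : WT := (.node (nat_lit 1) (.leaf (nat_lit 1024) [nat_lit 105]) (.node (nat_lit 3) (.node (nat_lit 2) (.leaf (nat_lit 4096) [nat_lit 84, nat_lit 84]) (.leaf (nat_lit 7176) [nat_lit 147, nat_lit 147, nat_lit 42, nat_lit 147, nat_lit 42, nat_lit 42, nat_lit 105, nat_lit 147])) (.node (nat_lit 5) (.node (nat_lit 4) (.leaf (nat_lit 6146) [nat_lit 126, nat_lit 42, nat_lit 84, nat_lit 126, nat_lit 42]) (.leaf (nat_lit 7181) [nat_lit 63, nat_lit 63, nat_lit 126, nat_lit 63, nat_lit 126, nat_lit 126, nat_lit 105, nat_lit 126])) (.node (nat_lit 8) r4 r6))))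
noncomputable def r7 : WT := (.node (nat_lit 5) (.leaf (nat_lit 11269) [nat_lit 147, nat_lit 84, nat_lit 147, nat_lit 147, nat_lit 63, nat_lit 63, nat_lit 147, nat_lit 63]) (.leaf (nat_lit 7172) [nat_lit 147, nat_lit 84, nat_lit 147, nat_lit 147, nat_lit 42, nat_lit 147, nat_lit 42, nat_lit 42]))
noncomputable def r8 : WT := (.node (nat_lit 7) (.leaf (nat_lit 8202) [nat_lit 126, nat_lit 42, nat_lit 147, nat_lit 42, nat_lit 84, nat_lit 147, nat_lit 63, nat_lit 126]) (.node (nat_lit 8) (.leaf (nat_lit 10255) [nat_lit 105, nat_lit 147, nat_lit 84, nat_lit 147, nat_lit 84, nat_lit 147, nat_lit 84, nat_lit 147]) (.leaf (nat_lit 9218) [nat_lit 126, nat_lit 84, nat_lit 63, nat_lit 126, nat_lit 126, nat_lit 42, nat_lit 147, nat_lit 42])))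
noncomputable def r9 : WT := (.node (nat_lit 11) (.node (nat_lit 10) (.leaf (nat_lit 10246) [nat_lit 126, nat_lit 105, nat_lit 126, nat_lit 105, nat_lit 126, nat_lit 84, nat_lit 84, nat_lit 126]) (.leaf (nat_lit 8207) [nat_lit 63, nat_lit 126, nat_lit 63, nat_lit 147, nat_lit 84, nat_lit 147, nat_lit 42, nat_lit 126])) (.node (nat_lit 12) (.leaf (nat_lit 9227) [nat_lit 147, nat_lit 84, nat_lit 63, nat_lit 126, nat_lit 63, nat_lit 147, nat_lit 147, nat_lit 42]) (.node (nat_lit 13) (.leaf (nat_lit 10250) [nat_lit 126, nat_lit 105, nat_lit 126, nat_lit 84, nat_lit 84, nat_lit 126, nat_lit 105, nat_lit 126]) (.node (nat_lit 14) (.leaf (nat_lit 10254) [nat_lit 126, nat_lit 84, nat_lit 84, nat_lit 126, nat_lit 105, nat_lit 126, nat_lit 105, nat_lit 126]) (.leaf (nat_lit 11272) [nat_lit 126, nat_lit 84, nat_lit 42, nat_lit 126, nat_lit 42, nat_lit 42, nat_lit 126, nat_lit 126])))))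
noncomputable def w3 : WT := (.node (nat_lit 1) (.leaf (nat_lit 1026) [nat_lit 84]) (.node (nat_lit 3) (.node (nat_lit 2) (.leaf (nat_lit 4097) [nat_lit 105, nat_lit 105]) (.leaf (nat_lit 6147) [nat_lit 63, nat_lit 147, nat_lit 105, nat_lit 63, nat_lit 147])) (.node (nat_lit 6) (.node (nat_lit 4) (.leaf (nat_lit 7177) [nat_lit 126, nat_lit 84, nat_lit 63, nat_lit 63, nat_lit 126, nat_lit 63, nat_lit 126, nat_lit 126]) r7) (.node (nat_lit 9) r8 r9))))
noncomputable def r10 : WT := (.node (nat_lit 5) (.leaf (nat_lit 7179) [nat_lit 84, nat_lit 63, nat_lit 63, nat_lit 126, nat_lit 63, nat_lit 126, nat_lit 126, nat_lit 105]) (.leaf (nat_lit 11280) [nat_lit 42, nat_lit 42, nat_lit 126, nat_lit 126, nat_lit 105, nat_lit 126, nat_lit 84, nat_lit 42]))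
noncomputable def r11 : WT := (.node (nat_lit 7) (.leaf (nat_lit 7173) [nat_lit 126, nat_lit 105, nat_lit 126, nat_lit 84, nat_lit 63, nat_lit 63, nat_lit 126, nat_lit 63]) (.leaf (nat_lit 9220) [nat_lit 84, nat_lit 63, nat_lit 126, nat_lit 126, nat_lit 42, nat_lit 147, nat_lit 42, nat_lit 105]))
noncomputable def r12 : WT := (.node (nat_lit 10) (.node (nat_lit 9) (.leaf (nat_lit 11268) [nat_lit 126, nat_lit 105, nat_lit 126, nat_lit 84, nat_lit 42, nat_lit 126, nat_lit 42, nat_lit 42]) (.leaf (nat_lit 7169) [nat_lit 63, nat_lit 126, nat_lit 126, nat_lit 105, nat_lit 126, nat_lit 84, nat_lit 63, nat_lit 63])) (.node (nat_lit 11) (.leaf (nat_lit 8204) [nat_lit 42, nat_lit 147, nat_lit 42, nat_lit 84, nat_lit 147, nat_lit 63, nat_lit 126, nat_lit 105]) (.leaf (nat_lit 8193) [nat_lit 63, nat_lit 147, nat_lit 84, nat_lit 147, nat_lit 42, nat_lit 126, nat_lit 105, nat_lit 63])))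
noncomputable def r13 : WT := (.node (nat_lit 20) (.leaf (nat_lit 11274) [nat_lit 84, nat_lit 42, nat_lit 126, nat_lit 42, nat_lit 42, nat_lit 126, nat_lit 126, nat_lit 105]) (.leaf (nat_lit 10256) [nat_lit 84, nat_lit 84, nat_lit 126, nat_lit 105, nat_lit 126, nat_lit 105, nat_lit 126, nat_lit 105]))
noncomputable def r14 : WT := (.node (nat_lit 15) (.node (nat_lit 13) (.leaf (nat_lit 8200) [nat_lit 105, nat_lit 126, nat_lit 42, nat_lit 147, nat_lit 42, nat_lit 84, nat_lit 147, nat_lit 63]) (.node (nat_lit 14) (.leaf (nat_lit 7175) [nat_lit 105, nat_lit 126, nat_lit 84, nat_lit 63, nat_lit 63, nat_lit 126, nat_lit 63, nat_lit 126]) (.leaf (nat_lit 10244) [nat_lit 105, nat_lit 126, nat_lit 105, nat_lit 126, nat_lit 105, nat_lit 126, nat_lit 84, nat_lit 84]))) (.node (nat_lit 17) (.node (nat_lit 16) (.leaf (nat_lit 10248) [nat_lit 105, nat_lit 126, nat_lit 105, nat_lit 126, nat_lit 84, nat_lit 84, nat_lit 126, nat_lit 105]) (.leaf (nat_lit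 9226) [nat_lit 126, nat_lit 42, nat_lit 147, nat_lit 42, nat_lit 105, nat_lit 126, nat_lit 84, nat_lit 63])) (.node (nat_lit 18) (.leaf (nat_lit 9217) [nat_lit 63, nat_lit 147, nat_lit 147, nat_lit 42, nat_lit 105, nat_lit 147, nat_lit 84, nat_lit 63]) (.node (nat_lit 19) (.leaf (nat_lit 9228) [nat_lit 42, nat_lit 147, nat_lit 42, nat_lit 105, nat_lit 126, nat_lit 84, nat_lit 63, nat_lit 126]) r13))))
noncomputable def w4 : WT := (.node (nat_lit 1) (.leaf (nat_lit 2048) [nat_lit 147]) (.node (nat_lit 4) (.node (nat_lit 2) (.leaf (nat_lit 5120) [nat_lit 126, nat_lit 126, nat_lit 126]) (.node (nat_lit 3) (.leaf (nat_lit 6148) [nat_lit 42, nat_lit 84, nat_lit 126, nat_lit 42, nat_lit 84]) (.leaf (nat_lit 8205) [nat_lit 105, nat_lit 63, nat_lit 126, nat_lit 63, nat_lit 147, nat_lit 84, nat_lit 147, nat_lit 42]))) (.node (nat_lit 8) (.node (nat_lit 6) r10 r11) (.node (nat_lit 12) r12 r14))))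
noncomputable def r15 : WT := (.node (nat_lit 4) (.leaf (nat_lit 7174) [nat_lit 84, nat_lit 147, nat_lit 147, nat_lit 42, nat_lit 147, nat_lit 42, nat_lit 42, nat_lit 105]) (.leaf (nat_lit 7184) [nat_lit 42, nat_lit 42, nat_lit 105, nat_lit 147, nat_lit 84, nat_lit 147, nat_lit 147, nat_lit 42]))
noncomputable def r16 : WT := (.node (nat_lit 6) (.leaf (nat_lit 7178) [nat_lit 147, nat_lit 42, nat_lit 147, nat_lit 42, nat_lit 42, nat_lit 105, nat_lit 147, nat_lit 84]) (.leaf (nat_lit 8196) [nat_lit 63, nat_lit 126, nat_lit 105, nat_lit 126, nat_lit 42, nat_lit 147, nat_lit 42, nat_lit 84]))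
noncomputable def r17 : WT := (.node (nat_lit 9) (.node (nat_lit 8) (.leaf (nat_lit 9229) [nat_lit 84, nat_lit 63, nat_lit 126, nat_lit 63, nat_lit 147, nat_lit 147, nat_lit 42, nat_lit 105]) (.leaf (nat_lit 9232) [nat_lit 42, nat_lit 105, nat_lit 126, nat_lit 84, nat_lit 63, nat_lit 126, nat_lit 126, nat_lit 42])) (.node (nat_lit 10) (.leaf (nat_lit 8197) [nat_lit 84, nat_lit 147, nat_lit 42, nat_lit 126, nat_lit 105, nat_lit 63, nat_lit 126, nat_lit 63]) (.leaf (nat_lit 7180) [nat_lit 42, nat_lit 147, nat_lit 42, nat_lit 42, nat_lit 105, nat_lit 147, nat_lit 84, nat_lit 147])))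
noncomputable def r18 : WT := (.node (nat_lit 20) (.leaf (nat_lit 11277) [nat_lit 63, nat_lit 63, nat_lit 147, nat_lit 63, nat_lit 105, nat_lit 147, nat_lit 84, nat_lit 147]) (.node (nat_lit 21) (.leaf (nat_lit 10249) [nat_lit 84, nat_lit 147, nat_lit 105, nat_lit 105, nat_lit 147, nat_lit 84, nat_lit 147, nat_lit 84]) (.leaf (nat_lit 10253) [nat_lit 105, nat_lit 105, nat_lit 147, nat_lit 84, nat_lit 147, nat_lit 84, nat_lit 147, nat_lit 84])))
noncomputable def r19 : WT := (.node (nat_lit 14) (.node (nat_lit 12) (.leaf (nat_lit 8201) [nat_lit 42, nat_lit 126, nat_lit 105, nat_lit 63, nat_lit 126, nat_lit 63, nat_lit 147, nat_lit 84]) (.node (nat_lit 13) (.leaf (nat_lit 8208) [nat_lit 42, nat_lit 84, nat_lit 147, nat_lit 63, nat_lit 126, nat_lit 105, nat_lit 126, nat_lit 42]) (.leaf (nat_lit 9223) [nat_lit 42, nat_lit 105, nat_lit 147, nat_lit 84, nat_lit 63, nat_lit 126, nat_lit 63, nat_lit 147]))) (.node (nat_lit 16) (.node (nat_lit 15)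 (.leaf (nat_lit 10245) [nat_lit 84, nat_lit 147, nat_lit 84, nat_lit 147, nat_lit 105, nat_lit 105, nat_lit 147, nat_lit 84]) (.leaf (nat_lit 11265) [nat_lit 63, nat_lit 105, nat_lit 147, nat_lit 84, nat_lit 147, nat_lit 147, nat_lit 63, nat_lit 63])) (.node (nat_lit 18) (.node (nat_lit 17) (.leaf (nat_lit 9221) [nat_lit 147, nat_lit 42, nat_lit 105, nat_lit 147, nat_lit 84, nat_lit 63, nat_lit 126, nat_lit 63]) (.leaf (nat_lit 10241) [nat_lit 84, nat_lit 147, nat_lit 84, nat_lit 147, nat_lit 84, nat_lit 147, nat_lit 105, nat_lit 105])) (.node (nat_lit 19) (.leaf (nat_lit 11271) [nat_lit 84, nat_lit 147, nat_lit 147, nat_lit 63, nat_lit 63, nat_lit 147, nat_lit 63, nat_lit 105]) r18))))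
noncomputable def w5 : WT := (.node (nat_lit 1) (.leaf (nat_lit 2050) [nat_lit 126]) (.node (nat_lit 3) (.node (nat_lit 2) (.leaf (nat_lit 5121) [nat_lit 147, nat_lit 147, nat_lit 147]) (.leaf (nat_lit 6145) [nat_lit 105, nat_lit 63, nat_lit 147, nat_lit 105, nat_lit 63])) (.node (nat_lit 7) (.node (nat_lit 5) r15 r16) (.node (nat_lit 11) r17 r19))))
noncomputable def r20 : WT := (.node (nat_lit 5) (.leaf (nat_lit 8193) [nat_lit 126, nat_lit 63, nat_lit 147, nat_lit 84, nat_lit 147, nat_lit 42, nat_lit 126, nat_lit 105, nat_lit 63]) (.leaf (nat_lit 7178) [nat_lit 147, nat_lit 147, nat_lit 42, nat_lit 147, nat_lit 42, nat_lit 42, nat_lit 105, nat_lit 147, nat_lit 84]))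
noncomputable def r21 : WT := (.node (nat_lit 8) (.leaf (nat_lit 7183) [nat_lit 63, nat_lit 63, nat_lit 126, nat_lit 63, nat_lit 126, nat_lit 126, nat_lit 105, nat_lit 126, nat_lit 84]) (.leaf (nat_lit 9232) [nat_lit 147, nat_lit 42, nat_lit 105, nat_lit 126, nat_lit 84, nat_lit 63, nat_lit 126, nat_lit 126, nat_lit 42]))
noncomputable def r22 : WT := (.node (nat_lit 10) (.leaf (nat_lit 11275) [nat_lit 147, nat_lit 147, nat_lit 63, nat_lit 63, nat_lit 147, nat_lit 63, nat_lit 105, nat_lit 147, nat_lit 84]) (.leaf (nat_lit 9220) [nat_lit 126, nat_lit 84, nat_lit 63, nat_lit 126, nat_lit 126, nat_lit 42, nat_lit 147, nat_lit 42, nat_lit 105]))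
noncomputable def r23 : WT := (.node (nat_lit 12) (.leaf (nat_lit 9224) [nat_lit 63, nat_lit 126, nat_lit 126, nat_lit 42, nat_lit 147, nat_lit 42, nat_lit 105, nat_lit 126, nat_lit 84]) (.leaf (nat_lit 9226) [nat_lit 126, nat_lit 126, nat_lit 42, nat_lit 147, nat_lit 42, nat_lit 105, nat_lit 126, nat_lit 84, nat_lit 63]))
noncomputable def r24 : WT := (.node (nat_lit 14) (.leaf (nat_lit 9230) [nat_lit 42, nat_lit 147, nat_lit 42, nat_lit 105, nat_lit 126, nat_lit 84, nat_lit 63, nat_lit 126, nat_lit 126]) (.node (nat_lit 15) (.leaf (nat_lit 5120) [nat_lit 126, nat_lit 126, nat_lit 126, nat_lit 126]) (.leaf (nat_lit 10249) [nat_lit 147, nat_lit 84, nat_lit 147, nat_lit 105, nat_lit 105, nat_lit 147, nat_lit 84, nat_lit 147, nat_lit 84])))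
noncomputable def r25 : WT := (.node (nat_lit 17) (.leaf (nat_lit 11264) [nat_lit 42, nat_lit 42, nat_lit 126, nat_lit 126, nat_lit 105, nat_lit 126, nat_lit 84, nat_lit 42, nat_lit 126]) (.leaf (nat_lit 11268) [nat_lit 126, nat_lit 126, nat_lit 105, nat_lit 126, nat_lit 84, nat_lit 42, nat_lit 126, nat_lit 42, nat_lit 42]))
noncomputable def r26 : WT := (.node (nat_lit 19) (.leaf (nat_lit 11280) [nat_lit 126, nat_lit 42, nat_lit 42, nat_lit 126, nat_lit 126, nat_lit 105, nat_lit 126, nat_lit 84, nat_lit 42]) (.node (nat_lit 20) (.leaf (nat_lit 11271) [nat_lit 147, nat_lit 84, nat_lit 147, nat_lit 147, nat_lit 63, nat_lit 63, nat_lit 147, nat_lit 63, nat_lit 105]) (.leaf (nat_lit 8195) [nat_lit 63, nat_lit 147, nat_lit 84, nat_lit 147, nat_lit 42, nat_lit 126, nat_lit 105, nat_lit 63, nat_lit 126])))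
noncomputable def r27 : WT := (.node (nat_lit 22) (.leaf (nat_lit 8208) [nat_lit 147, nat_lit 42, nat_lit 84, nat_lit 147, nat_lit 63, nat_lit 126, nat_lit 105, nat_lit 126, nat_lit 42]) (.leaf (nat_lit 8194) [nat_lit 84, nat_lit 147, nat_lit 63, nat_lit 126, nat_lit 105, nat_lit 126, nat_lit 42, nat_lit 147, nat_lit 42]))
noncomputable def r28 : WT := (.node (nat_lit 24) (.leaf (nat_lit 7177) [nat_lit 105, nat_lit 126, nat_lit 84, nat_lit 63, nat_lit 63, nat_lit 126, nat_lit 63, nat_lit 126, nat_lit 126]) (.node (nat_lit 25) (.leaf (nat_lit 7173) [nat_lit 126, nat_lit 126, nat_lit 105, nat_lit 126, nat_lit 84, nat_lit 63, nat_lit 63, nat_lit 126, nat_lit 63]) (.leaf (nat_lit 7169) [nat_lit 126, nat_lit 63, nat_lit 126, nat_lit 126, nat_lit 105, nat_lit 126, nat_lit 84, nat_lit 63, nat_lit 63])))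
noncomputable def r29 : WT := (.node (nat_lit 27) (.leaf (nat_lit 7182) [nat_lit 42, nat_lit 147, nat_lit 42, nat_lit 42, nat_lit 105, nat_lit 147, nat_lit 84, nat_lit 147, nat_lit 147]) (.node (nat_lit 28) (.leaf (nat_lit 7172) [nat_lit 105, nat_lit 147, nat_lit 84, nat_lit 147, nat_lit 147, nat_lit 42, nat_lit 147, nat_lit 42, nat_lit 42]) (.leaf (nat_lit 6149) [nat_lit 63, nat_lit 147, nat_lit 105, nat_lit 63, nat_lit 147, nat_lit 105])))
noncomputable def r30 : WT := (.node (nat_lit 30) (.leaf (nat_lit 6145) [nat_lit 147, nat_lit 105, nat_lit 63, nat_lit 147, nat_lit 105, nat_lit 63]) (.node (nat_lit 31) (.leaf (nat_lit 6146) [nat_lit 84, nat_lit 126, nat_lit 42, nat_lit 84, nat_lit 126, nat_lit 42]) (.leaf (nat_lit 6144) [nat_lit 42, nat_lit 84, nat_lit 126, nat_lit 42, nat_lit 84, nat_lit 126])))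
noncomputable def wP : WT := (.node (nat_lit 11) (.node (nat_lit 4) (.node (nat_lit 2) (.node (nat_lit 1) (.leaf (nat_lit 5121) [nat_lit 147, nat_lit 147, nat_lit 147, nat_lit 147]) (.leaf (nat_lit 9218) [nat_lit 105, nat_lit 126, nat_lit 84, nat_lit 63, nat_lit 126, nat_lit 126, nat_lit 42, nat_lit 147, nat_lit 42])) (.node (nat_lit 3) (.leaf (nat_lit 6148) [nat_lit 126, nat_lit 42, nat_lit 84, nat_lit 126, nat_lit 42, nat_lit 84]) (.leaf (nat_lit 11278) [nat_lit 42, nat_lit 126, nat_lit 42, nat_lit 42, nat_lit 126, nat_lit 126, nat_lit 105, nat_lit 126, nat_lit 84]))) (.node (nat_lit 7) (.node (nat_lit 6) r20 (.leaf (nat_lit 8196) [nat_lit 147, nat_lit 63, nat_lit 126, nat_lit 105, nat_lit 126, nat_lit 42, nat_lit 147, nat_lit 42, nat_lit 84])) (.node (nat_lit 9) r21 r22))) (.node (nat_lit 21) (.node (nat_lit 16) (.node (nat_lit 13) r23 r24) (.node (nat_lit 18) r25 r26)) (.node (nat_lit 26) (.node (nat_lit 23) r27 r28) (.node (nat_lit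 29) r29 r30))))
noncomputable def P : Par := ⟨tb, nat_lit 168, nat_lit 0xffffffffffffffffffffffffffffffffffffffffff, nat_lit 2221, nat_lit 2097151, nat_lit 4095, nat_lit 21, nat_lit 12, nat_lit 2160,
  [nat_lit 42, nat_lit 63, nat_lit 84, nat_lit 105, nat_lit 126, nat_lit 147], [], wP,
  (.cons (nat_lit 42) w0 (.cons (nat_lit 63) w1 (.cons (nat_lit 84) w2 (.cons (nat_lit 105) w3 (.cons (nat_lit 126) w4 (.cons (nat_lit 147) w5 .nil)))))),
  .nil⟩

end Cfsg.Agent.Lib.TCJ42
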