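import Cfsg.Agent.Lib.TCDefs

set_option autoImplicit false
set_option maxRecDepth 100000

namespace Cfsg.Agent.Lib.TCJ43
open Cfsg.Agent.Lib.TCCore

noncomputable def l0 : T := .leaf (nat_lit 0) (nat_lit 0xffffffffffc7225e8bffffffe1a20118287ffffffffffc186fffffff0a180387cbe6999a1e1b99ef483f1cb7fff00726a096c60a596e9daa1ab08c0fffc02a9af5b329af612d9ad072018a3fff007273e9cfa632a1007b822de737fffc03882ba1bc84f209928ce5b898d7fff00e259c84ce10886ee23b8ae8723fffc01c90a5fb08eddb3098fc5398ceffff00aa335127602086e2240888c5bafffc062948e42894b083d88e472298f3fff00a9c3090ea3301a855889ef493dfffc0468aa87b58ad20ac827e1b688dbfff018a3b986d08361cd1aad9af1a22fffc046649623688d673e1ed60b31a87fff007188f6e221bb2af1fab26ca134fffc02a86926bd6ef8a25249e02128cffff00e1ca67c9663f24be0a376adcabfffc04672de3b780e9caa6ee9a9e24bffff0071fc06e6db9a82909b126c08a6fffc01c84f1fa71cb5e9e766df2e7abbfff0151a271eba0a76cd61be1f006acfffc01c4e5a4b818a1ca984d872d1cfffff0151e9d6aa9a2680cc31974c5e31fffc0388cd9a266cade3f74c06295273fff00aa4ba70a5ba9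167dd2c4e6c6aafffc0464a346ac92e129a4a686be167ffff0071aad80b5f2e26c88a66a75a9afffc03874c5aab66a8927209492f667bfff00e19b484fdeb12298ab21e91887fffc02a88ca0a4849072380bd7882097fff011a4b81e886a184c47a41eee2b9fffc0545a0c6a1208d8421f09ab51ee3fff01895971c8c72218807371cd20b2fffc0469cfe0b97e754881a8459f1efbfff00a918e4e7051e84d862918a0620fffc054425059f4a7049d78b9a266cc3fff0119f2b8080539106c51e4665b27fffc04698ed31e507d087421d52a106ffff0070f920e69c2f78b849d1271429fffc0623a45c2f106d3284ca1b270c67fff00702903a1e7400eae13c0e6921dfffc0703854a8338582120c50a84385bfff01196210e5428d325888e364cb93fffc05450b0e982e0ca89345ce98082bfff0070e980a344172a3ca902844b11fffc0624478a89262c3980a4c5101c37fff00e0e0c10484060c50212305cd17fffc038406c186124c2930a60a830c0ffff0188f1a10302902a10a842e54a95fffc0540c643110c30b1508304851653fff00e19330a3838a2430b15283c98ffffc062487c20a0c3c917262488b1a2ffff01893280c5c315082878a1a50585fffc046364c3901244290263c489061bfff007020a28508090c148051c3890efffc0700a2c40f0a3870d0a342960613fff0070308222ca142438b16100850cfffc0700e261bb70cd63754802876093fff00a82419d00f19447111c6494308fffc0700c1c49308482410c1820c040bfff00701840e102821e2c38b1834510fffc07008141020c14b11284420a2c63fff01897223058b1804082020e48a12fffc04602043050610283060c1861227fff01c0102040408104040810404081fffc000)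

end Cfsg.Agent.Lib.TCJ43
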