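import Cfsg.Agent.Lib.TCJ43D0

set_option autoImplicit false
set_option maxRecDepth 100000

namespace Cfsg.Agent.Lib.TCJ43
open Cfsg.Agent.Lib.TCCore

noncomputable def tb : T := l0
noncomputable def r0 : WT := (.node (nat_lit 7) (.leaf (nat_lit 19472) [nat_lit 112, nat_lit 28, nat_lit 28, nat_lit 28, nat_lit 56, nat_lit 28, nat_lit 112, nat_lit 42, nat_lit 70]) (.leaf (nat_lit 8199) [nat_lit 70, nat_lit 42, nat_lit 70, nat_lit 98, nat_lit 98]))
noncomputable def r1 : WT := (.node (nat_lit 9) (.leaf (nat_lit 12288) [nat_lit 112, nat_lit 42, nat_lit 70, nat_lit 112, nat_lit 28, nat_lit 112, nat_lit 42, nat_lit 112, nat_lit 56]) (.leaf (nat_lit 14352) [nat_lit 84, nat_lit 28, nat_lit 28, nat_lit 28, nat_lit 56, nat_lit 28, nat_lit 84, nat_lit 42, nat_lit 56]))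
noncomputable def w0 : WT := (.node (nat_lit 1) (.leaf (nat_lit 0) [nat_lit 42]) (.node (nat_lit 4) (.node (nat_lit 2) (.leaf (nat_lit 7173) [nat_lit 70, nat_lit 42, nat_lit 70, nat_lit 84]) (.node (nat_lit 3) (.leaf (nat_lit 7168) [nat_lit 56, nat_lit 42, nat_lit 98, nat_lit 56]) (.leaf (nat_lit 5120) [nat_lit 28, nat_lit 28, nat_lit 28]))) (.node (nat_lit 6) (.node (nat_lit 5) (.leaf (nat_lit 14343) [nat_lit 98, nat_lit 42, nat_lit 70, nat_lit 42, nat_lit 42, nat_lit 42, nat_lit 98, nat_lit 42, nat_lit 70]) (.leaf (nat_lit 17408) [nat_lit 70, nat_lit 70, nat_lit 84, nat_lit 28, nat_lit 98, nat_lit 28, nat_lit 84, nat_lit 84, nat_lit 70])) (.node (nat_lit 8) r0 r1))))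
noncomputable def r2 : WT := (.node (nat_lit 5) (.leaf (nat_lit 12302) [nat_lit 112, nat_lit 56, nat_lit 28, nat_lit 112, nat_lit 42, nat_lit 70, nat_lit 112, nat_lit 28, nat_lit 112]) (.leaf (nat_lit 13315) [nat_lit 98, nat_lit 56, nat_lit 84, nat_lit 70, nat_lit 42, nat_lit 84, nat_lit 70, nat_lit 42, nat_lit 84]))
noncomputable def r3 : WT := (.node (nat_lit 7) (.leaf (nat_lit 13325) [nat_lit 84, nat_lit 70, nat_lit 42, nat_lit 84, nat_lit 42, nat_lit 98, nat_lit 56, nat_lit 84, nat_lit 70]) (.leaf (nat_lit 15379) [nat_lit 112, nat_lit 98, nat_lit 56, nat_lit 112, nat_lit 28, nat_lit 98, nat_lit 112, nat_lit 84, nat_lit 56]))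
noncomputable def r4 : WT := (.node (nat_lit 9) (.leaf (nat_lit 16393) [nat_lit 84, nat_lit 42, nat_lit 98, nat_lit 70, nat_lit 42, nat_lit 98, nat_lit 70, nat_lit 70, nat_lit 84]) (.node (nat_lit 10) (.leaf (nat_lit 18451) [nat_lit 98, nat_lit 98, nat_lit 42, nat_lit 84, nat_lit 70, nat_lit 84, nat_lit 56, nat_lit 42, nat_lit 70]) (.leaf (nat_lit 19471) [nat_lit 42, nat_lit 42, nat_lit 112, nat_lit 42, nat_lit 56, nat_lit 28, nat_lit 112, nat_lit 42, nat_lit 70])))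
noncomputable def w1 : WT := (.node (nat_lit 1) (.leaf (nat_lit 2) [nat_lit 28]) (.node (nat_lit 3) (.node (nat_lit 2) (.leaf (nat_lit 5121) [nat_lit 42, nat_lit 42, nat_lit 42]) (.leaf (nat_lit 7172) [nat_lit 98, nat_lit 56, nat_lit 28, nat_lit 56])) (.node (nat_lit 6) (.node (nat_lit 4) (.leaf (nat_lit 7177) [nat_lit 70, nat_lit 84, nat_lit 28, nat_lit 70]) r2) (.node (nat_lit 8) r3 r4))))
noncomputable def r5 : WT := (.node (nat_lit 8) (.leaf (nat_lit 19461) [nat_lit 28, nat_lit 112, nat_lit 42, nat_lit 70, nat_lit 42, nat_lit 42, nat_lit 42, nat_lit 112, nat_lit 42]) (.leaf (nat_lit 13314) [nat_lit 98, nat_lit 28, nat_lit 56, nat_lit 98, nat_lit 70, nat_lit 84, nat_lit 28, nat_lit 98, nat_lit 28]))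
noncomputable def r6 : WT := (.node (nat_lit 10) (.leaf (nat_lit 17409) [nat_lit 98, nat_lit 98, nat_lit 42, nat_lit 84, nat_lit 42, nat_lit 98, nat_lit 56, nat_lit 56, nat_lit 42]) (.leaf (nat_lit 18442) [nat_lit 98, nat_lit 28, nat_lit 84, nat_lit 84, nat_lit 28, nat_lit 56, nat_lit 28, nat_lit 70, nat_lit 98]))
noncomputable def w2 : WT := (.node (nat_lit 1) (.leaf (nat_lit 1024) [nat_lit 70]) (.node (nat_lit 5) (.node (nat_lit 3) (.node (nat_lit 2) (.leaf (nat_lit 6144) [nat_lit 56, nat_lit 56, nat_lit 56]) (.leaf (nat_lit 9218) [nat_lit 112, nat_lit 56, nat_lit 56, nat_lit 112, nat_lit 56])) (.node (nat_lit 4) (.leaf (nat_lit 7170) [nat_lit 42, nat_lit 98, nat_lit 56, nat_lit 28]) (.leaf (nat_lit 7176) [nat_lit 28, nat_lit 56, nat_lit 42, nat_lit 98]))) (.node (nat_lit 7) (.node (nat_lit 6) (.leaf (nat_lit 14350) [nat_lit 28, nat_lit 84, nat_lit 28, nat_lit 28, nat_lit 28, nat_lit 56, nat_lit 28, nat_lit 84, nat_lit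 42]) (.leaf (nat_lit 18445) [nat_lit 42, nat_lit 70, nat_lit 42, nat_lit 98, nat_lit 98, nat_lit 42, nat_lit 84, nat_lit 70, nat_lit 84])) (.node (nat_lit 9) r5 r6))))
noncomputable def r7 : WT := (.node (nat_lit 6) (.leaf (nat_lit 13323) [nat_lit 42, nat_lit 84, nat_lit 70, nat_lit 42, nat_lit 84, nat_lit 42, nat_lit 98, nat_lit 56, nat_lit 84]) (.leaf (nat_lit 8193) [nat_lit 98, nat_lit 98, nat_lit 28, nat_lit 70, nat_lit 42]))
noncomputable def r8 : WT := (.node (nat_lit 8) (.leaf (nat_lit 9221) [nat_lit 112, nat_lit 70, nat_lit 70, nat_lit 112, nat_lit 70]) (.node (nat_lit 9) (.leaf (nat_lit 13324) [nat_lit 84, nat_lit 28, nat_lit 98, nat_lit 28, nat_lit 56, nat_lit 98, nat_lit 28, nat_lit 56, nat_lit 98]) (.leaf (nat_lit 14341) [nat_lit 28, nat_lit 98, nat_lit 42, nat_lit 70, nat_lit 42, nat_lit 42, nat_lit 42, nat_lit 98, nat_lit 42])))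
noncomputable def r9 : WT := (.node (nat_lit 11) (.leaf (nat_lit 15374) [nat_lit 84, nat_lit 112, nat_lit 28, nat_lit 70, nat_lit 98, nat_lit 112, nat_lit 84, nat_lit 42, nat_lit 112]) (.leaf (nat_lit 16387) [nat_lit 70, nat_lit 84, nat_lit 42, nat_lit 84, nat_lit 42, nat_lit 98, nat_lit 70, nat_lit 42, nat_lit 98]))
noncomputable def r10 : WT := (.node (nat_lit 13) (.leaf (nat_lit 16401) [nat_lit 42, nat_lit 98, nat_lit 70, nat_lit 70, nat_lit 84, nat_lit 42, nat_lit 84, nat_lit 42, nat_lit 98]) (.node (nat_lit 14) (.leaf (nat_lit 18441) [nat_lit 84, nat_lit 56, nat_lit 42, nat_lit 70, nat_lit 42, nat_lit 98, nat_lit 98, nat_lit 42, nat_lit 84]) (.leaf (nat_lit 19469) [nat_lit 42, nat_lit 42, nat_lit 42, nat_lit 112, nat_lit 42, nat_lit 56, nat_lit 28, nat_lit 112, nat_lit 42])))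
noncomputable def w3 : WT := (.node (nat_lit 1) (.leaf (nat_lit 1026) [nat_lit 56]) (.node (nat_lit 5) (.node (nat_lit 3) (.node (nat_lit 2) (.leaf (nat_lit 7175) [nat_lit 42, nat_lit 70, nat_lit 84, nat_lit 28]) (.leaf (nat_lit 7169) [nat_lit 84, nat_lit 28, nat_lit 70, nat_lit 42])) (.node (nat_lit 4) (.leaf (nat_lit 6145) [nat_lit 70, nat_lit 70, nat_lit 70]) (.leaf (nat_lit 12294) [nat_lit 112, nat_lit 28, nat_lit 112, nat_lit 42, nat_lit 112, nat_lit 56, nat_lit 28, nat_lit 112, nat_lit 42]))) (.node (nat_lit 10) (.node (nat_lit 7) r7 r8) (.node (nat_lit 12) r9 r10))))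
noncomputable def r11 : WT := (.node (nat_lit 6) (.leaf (nat_lit 15376) [nat_lit 112, nat_lit 28, nat_lit 70, nat_lit 98, nat_lit 112, nat_lit 84, nat_lit 42, nat_lit 112, nat_lit 70]) (.leaf (nat_lit 17422) [nat_lit 84, nat_lit 70, nat_lit 28, nat_lit 70, nat_lit 70, nat_lit 84, nat_lit 28, nat_lit 98, nat_lit 28]))
noncomputable def r12 : WT := (.node (nat_lit 8) (.leaf (nat_lit 11264) [nat_lit 112, nat_lit 84, nat_lit 112, nat_lit 84, nat_lit 112]) (.node (nat_lit 9) (.leaf (nat_lit 13321) [nat_lit 70, nat_lit 42, nat_lit 84, nat_lit 70, nat_lit 42, nat_lit 84, nat_lit 42, nat_lit 98, nat_lit 56]) (.leaf (nat_lit 14346) [nat_lit 42, nat_lit 56, nat_lit 28, nat_lit 84, nat_lit 28, nat_lit 28, nat_lit 28, nat_lit 56, nat_lit 28])))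
noncomputable def r13 : WT := (.node (nat_lit 11) (.leaf (nat_lit 14354) [nat_lit 28, nat_lit 28, nat_lit 28, nat_lit 56, nat_lit 28, nat_lit 84, nat_lit 42, nat_lit 56, nat_lit 28]) (.node (nat_lit 12) (.leaf (nat_lit 16395) [nat_lit 42, nat_lit 98, nat_lit 70, nat_lit 42, nat_lit 98, nat_lit 70, nat_lit 70, nat_lit 84, nat_lit 42]) (.leaf (nat_lit 17417) [nat_lit 42, nat_lit 98, nat_lit 56, nat_lit 56, nat_lit 42, nat_lit 56, nat_lit 98, nat_lit 98, nat_lit 42])))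
noncomputable def w4 : WT := (.node (nat_lit 1) (.leaf (nat_lit 2048) [nat_lit 98]) (.node (nat_lit 4) (.node (nat_lit 2) (.leaf (nat_lit 7171) [nat_lit 28, nat_lit 70, nat_lit 42, nat_lit 70]) (.node (nat_lit 3) (.leaf (nat_lit 4096) [nat_lit 84, nat_lit 84]) (.leaf (nat_lit 8198) [nat_lit 84, nat_lit 56, nat_lit 28, nat_lit 56, nat_lit 42]))) (.node (nat_lit 7) (.node (nat_lit 5) (.leaf (nat_lit 16388) [nat_lit 28, nat_lit 98, nat_lit 28, nat_lit 98, nat_lit 56, nat_lit 56, nat_lit 84, nat_lit 28, nat_lit 56]) r11) (.node (nat_lit 10) r12 r13))))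
noncomputable def r14 : WT := (.node (nat_lit 6) (.leaf (nat_lit 8197) [nat_lit 28, nat_lit 70, nat_lit 42, nat_lit 70, nat_lit 98]) (.leaf (nat_lit 11267) [nat_lit 112, nat_lit 98, nat_lit 112, nat_lit 98, nat_lit 112]))
noncomputable def r15 : WT := (.node (nat_lit 8) (.leaf (nat_lit 14345) [nat_lit 42, nat_lit 70, nat_lit 42, nat_lit 42, nat_lit 42, nat_lit 98, nat_lit 42, nat_lit 70, nat_lit 28]) (.leaf (nat_lit 18444) [nat_lit 28, nat_lit 84, nat_lit 84, nat_lit 28, nat_lit 56, nat_lit 28, nat_lit 70, nat_lit 98, nat_lit 56]))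
noncomputable def w5 : WT := (.node (nat_lit 1) (.leaf (nat_lit 2050) [nat_lit 84]) (.node (nat_lit 3) (.node (nat_lit 2) (.leaf (nat_lit 4097) [nat_lit 98, nat_lit 98]) (.leaf (nat_lit 7174) [nat_lit 56, nat_lit 28, nat_lit 56, nat_lit 42])) (.node (nat_lit 5) (.node (nat_lit 4) (.leaf (nat_lit 13330) [nat_lit 28, nat_lit 56, nat_lit 98, nat_lit 28, nat_lit 56, nat_lit 98, nat_lit 70, nat_lit 84, nat_lit 28]) (.leaf (nat_lit 8195) [nat_lit 98, nat_lit 28, nat_lit 70, nat_lit 42, nat_lit 70])) (.node (nat_lit 7) r14 r15))))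
noncomputable def r16 : WT := (.node (nat_lit 6) (.leaf (nat_lit 9217) [nat_lit 70, nat_lit 70, nat_lit 112, nat_lit 70, nat_lit 70]) (.leaf (nat_lit 15367) [nat_lit 28, nat_lit 98, nat_lit 112, nat_lit 84, nat_lit 56, nat_lit 42, nat_lit 112, nat_lit 98, nat_lit 56]))
noncomputable def r17 : WT := (.node (nat_lit 8) (.leaf (nat_lit 19466) [nat_lit 42, nat_lit 70, nat_lit 28, nat_lit 112, nat_lit 28, nat_lit 28, nat_lit 28, nat_lit 56, nat_lit 28]) (.leaf (nat_lit 12290) [nat_lit 42, nat_lit 70, nat_lit 112, nat_lit 28, nat_lit 112, nat_lit 42, nat_lit 112, nat_lit 56, nat_lit 28]))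
noncomputable def r18 : WT := (.node (nat_lit 10) (.leaf (nat_lit 12296) [nat_lit 28, nat_lit 112, nat_lit 42, nat_lit 112, nat_lit 56, nat_lit 28, nat_lit 112, nat_lit 42, nat_lit 70]) (.node (nat_lit 11) (.leaf (nat_lit 12300) [nat_lit 42, nat_lit 112, nat_lit 56, nat_lit 28, nat_lit 112, nat_lit 42, nat_lit 70, nat_lit 112, nat_lit 28]) (.leaf (nat_lit 19474) [nat_lit 28, nat_lit 28, nat_lit 28, nat_lit 56, nat_lit 28, nat_lit 112, nat_lit 42, nat_lit 70, nat_lit 28])))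
noncomputable def w6 : WT := (.node (nat_lit 1) (.leaf (nat_lit 3072) [nat_lit 112]) (.node (nat_lit 4) (.node (nat_lit 2) (.leaf (nat_lit 12304) [nat_lit 56, nat_lit 28, nat_lit 112, nat_lit 42, nat_lit 70, nat_lit 112, nat_lit 28, nat_lit 112, nat_lit 42]) (.node (nat_lit 3) (.leaf (nat_lit 11265) [nat_lit 98, nat_lit 112, nat_lit 98, nat_lit 112, nat_lit 98]) (.leaf (nat_lit 9220) [nat_lit 56, nat_lit 56, nat_lit 112, nat_lit 56, nat_lit 56]))) (.node (nat_lit 7) (.node (nat_lit 5) (.leaf (nat_lit 11266) [nat_lit 84, nat_lit 112, nat_lit 84, nat_lit 112, nat_lit 84]) r16) (.node (nat_lit 9) r17 r18))))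
noncomputable def wP : WT := (.node (nat_lit 1) (.leaf (nat_lit 13322) [nat_lit 98, nat_lit 70, nat_lit 84, nat_lit 28, nat_lit 98, nat_lit 28, nat_lit 56, nat_lit 98, nat_lit 28, nat_lit 56]) (.leaf (nat_lit 19472) [nat_lit 28, nat_lit 112, nat_lit 28, nat_lit 28, nat_lit 28, nat_lit 56, nat_lit 28, nat_lit 112, nat_lit 42, nat_lit 70]))
noncomputable def P : Par := ⟨tb, nat_lit 126, nat_lit 0x3fffffffffffffffffffffffffffffff, nat_lit 66, nat_lit 16383, nat_lit 127, nat_lit 14, nat_lit 7, nat_lit 64,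
  [nat_lit 28, nat_lit 42, nat_lit 56, nat_lit 70, nat_lit 84, nat_lit 98, nat_lit 112], [nat_lit 28, nat_lit 56, nat_lit 84], wP,
  (.cons (nat_lit 28) w0 (.cons (nat_lit 42) w1 (.cons (nat_lit 56) w2 (.cons (nat_lit 70) w3 (.cons (nat_lit 84) w4 (.cons (nat_lit 98) w5 (.cons (nat_lit 112) w6 .nil))))))),
  .nil⟩

end Cfsg.Agent.Lib.TCJ43
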