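import Cfsg.Agent.Lib.TCJ44D0

set_option autoImplicit false
set_option maxRecDepth 100000

namespace Cfsg.Agent.Lib.TCJ44
open Cfsg.Agent.Lib.TCCore

noncomputable def tb : T := (.node (nat_lit 504) (.node (nat_lit 252) (.node (nat_lit 126) l0 l1) (.node (nat_lit 378) l2 l3)) (.node (nat_lit 756) (.node (nat_lit 630) l4 l5) (.node (nat_lit 882) l6 (.node (nat_lit 1008) l7 l8))))
noncomputable def r0 : WT := (.node (nat_lit 6) (.leaf (nat_lit 9223) [nat_lit 133, nat_lit 57, nat_lit 95, nat_lit 57, nat_lit 57, nat_lit 57, nat_lit 133, nat_lit 57, nat_lit 95]) (.node (nat_lit 7) (.leaf (nat_lit 8198) [nat_lit 76, nat_lit 133, nat_lit 95, nat_lit 114, nat_lit 38, nat_lit 133, nat_lit 38, nat_lit 76, nat_lit 133]) (.leaf (nat_lit 10250) [nat_lit 133, nat_lit 76, nat_lit 76, nat_lit 114, nat_lit 38, nat_lit 76, nat_lit 114, nat_lit 38, nat_lit 133])))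
noncomputable def r1 : WT := (.node (nat_lit 18) (.leaf (nat_lit 8192) [nat_lit 76, nat_lit 133, nat_lit 38, nat_lit 76, nat_lit 133, nat_lit 95, nat_lit 114, nat_lit 38, nat_lit 133]) (.leaf (nat_lit 12288) [nat_lit 76, nat_lit 38, nat_lit 95, nat_lit 133, nat_lit 76, nat_lit 133, nat_lit 38, nat_lit 114, nat_lit 114]))
noncomputable def r2 : WT := (.node (nat_lit 20) (.leaf (nat_lit 9232) [nat_lit 114, nat_lit 38, nat_lit 38, nat_lit 38, nat_lit 76, nat_lit 38, nat_lit 114, nat_lit 57, nat_lit 76]) (.leaf (nat_lit 7168) [nat_lit 76, nat_lit 57, nat_lit 114, nat_lit 114, nat_lit 76]))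
noncomputable def r3 : WT := (.node (nat_lit 12) (.node (nat_lit 10) (.node (nat_lit 9) (.leaf (nat_lit 12302) [nat_lit 114, nat_lit 114, nat_lit 38, nat_lit 76, nat_lit 38, nat_lit 95, nat_lit 133, nat_lit 76, nat_lit 133]) (.leaf (nat_lit 10246) [nat_lit 133, nat_lit 38, nat_lit 133, nat_lit 76, nat_lit 76, nat_lit 114, nat_lit 38, nat_lit 76, nat_lit 114])) (.node (nat_lit 11) (.leaf (nat_lit 8208) [nat_lit 133, nat_lit 38, nat_lit 76, nat_lit 133, nat_lit 38, nat_lit 76, nat_lit 133, nat_lit 95, nat_lit 114]) (.leaf (nat_lit 10240) [nat_lit 76, nat_lit 114, nat_lit 38, nat_lit 133, nat_lit 38, nat_lit 133, nat_lit 76, nat_lit 76, nat_lit 114]))) (.node (nat_lit 15) (.node (nat_lit 13) (.leaf (nat_lit 11264) [nat_lit 95, nat_lit 95, nat_lit 114, nat_lit 38, nat_lit 133, nat_lit 38, nat_lit 114, nat_lit 114, nat_lit 95]) (.node (nat_lit 14) (.leaf (nat_lit 11276) [nat_lit 114, nat_lit 114, nat_lit 95, nat_lit 38, nat_lit 95,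 nat_lit 95, nat_lit 114, nat_lit 38, nat_lit 133]) (.leaf (nat_lit 12292) [nat_lit 95, nat_lit 133, nat_lit 76, nat_lit 133, nat_lit 38, nat_lit 114, nat_lit 114, nat_lit 38, nat_lit 76]))) (.node (nat_lit 17) (.node (nat_lit 16) (.leaf (nat_lit 9216) [nat_lit 38, nat_lit 38, nat_lit 76, nat_lit 38, nat_lit 114, nat_lit 57, nat_lit 76, nat_lit 38, nat_lit 114]) (.leaf (nat_lit 9224) [nat_lit 114, nat_lit 57, nat_lit 76, nat_lit 38, nat_lit 114, nat_lit 38, nat_lit 38, nat_lit 38, nat_lit 76])) (.node (nat_lit 19) r1 r2))))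
noncomputable def w0 : WT := (.node (nat_lit 1) (.leaf (nat_lit 0) [nat_lit 57]) (.node (nat_lit 3) (.node (nat_lit 2) (.leaf (nat_lit 4096) [nat_lit 38, nat_lit 38, nat_lit 38]) (.leaf (nat_lit 6149) [nat_lit 95, nat_lit 57, nat_lit 95, nat_lit 114])) (.node (nat_lit 5) (.node (nat_lit 4) (.leaf (nat_lit 6144) [nat_lit 76, nat_lit 57, nat_lit 133, nat_lit 76]) (.leaf (nat_lit 7175) [nat_lit 95, nat_lit 57, nat_lit 95, nat_lit 133, nat_lit 133])) (.node (nat_lit 8) r0 r3))))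
noncomputable def r4 : WT := (.node (nat_lit 5) (.leaf (nat_lit 9219) [nat_lit 95, nat_lit 38, nat_lit 133, nat_lit 57, nat_lit 95, nat_lit 57, nat_lit 57, nat_lit 57, nat_lit 133]) (.leaf (nat_lit 9228) [nat_lit 76, nat_lit 38, nat_lit 114, nat_lit 38, nat_lit 38, nat_lit 38, nat_lit 76, nat_lit 38, nat_lit 114]))
noncomputable def r5 : WT := (.node (nat_lit 7) (.leaf (nat_lit 8195) [nat_lit 133, nat_lit 76, nat_lit 114, nat_lit 95, nat_lit 57, nat_lit 114, nat_lit 95, nat_lit 57, nat_lit 114]) (.leaf (nat_lit 11271) [nat_lit 114, nat_lit 57, nat_lit 133, nat_lit 76, nat_lit 76, nat_lit 57, nat_lit 76, nat_lit 133, nat_lit 133]))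
noncomputable def r6 : WT := (.node (nat_lit 10) (.node (nat_lit 9) (.leaf (nat_lit 12303) [nat_lit 95, nat_lit 57, nat_lit 133, nat_lit 133, nat_lit 57, nat_lit 114, nat_lit 95, nat_lit 114, nat_lit 76]) (.leaf (nat_lit 10249) [nat_lit 114, nat_lit 57, nat_lit 133, nat_lit 95, nat_lit 57, nat_lit 133, nat_lit 95, nat_lit 95, nat_lit 114])) (.node (nat_lit 11) (.leaf (nat_lit 11283) [nat_lit 76, nat_lit 133, nat_lit 133, nat_lit 57, nat_lit 114, nat_lit 57, nat_lit 133, nat_lit 76, nat_lit 76]) (.leaf (nat_lit 9227) [nat_lit 95, nat_lit 57, nat_lit 57, nat_lit 57, nat_lit 133, nat_lit 57, nat_lit 95, nat_lit 38, nat_lit 133])))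
noncomputable def r7 : WT := (.node (nat_lit 21) (.leaf (nat_lit 7179) [nat_lit 95, nat_lit 133, nat_lit 133, nat_lit 38, nat_lit 95]) (.leaf (nat_lit 12307) [nat_lit 133, nat_lit 133, nat_lit 57, nat_lit 114, nat_lit 95, nat_lit 114, nat_lit 76, nat_lit 57, nat_lit 95]))
noncomputable def r8 : WT := (.node (nat_lit 15) (.node (nat_lit 13) (.leaf (nat_lit 10253) [nat_lit 133, nat_lit 95, nat_lit 57, nat_lit 133, nat_lit 95, nat_lit 95, nat_lit 114, nat_lit 57, nat_lit 114]) (.node (nat_lit 14) (.leaf (nat_lit 9231) [nat_lit 57, nat_lit 57, nat_lit 133, nat_lit 57, nat_lit 95, nat_lit 38, nat_lit 133, nat_lit 57, nat_lit 95]) (.leaf (nat_lit 8211) [nat_lit 114, nat_lit 57, nat_lit 133, nat_lit 76, nat_lit 114, nat_lit 95, nat_lit 57, nat_lit 114, nat_lit 95]))) (.node (nat_lit 17) (.node (nat_lit 16) (.leaf (nat_lit 8205) [nat_lit 114, nat_lit 95, nat_lit 57, nat_lit 114, nat_lit 57, nat_lit 133, nat_lit 76, nat_lit 114, nat_lit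 95]) (.leaf (nat_lit 10259) [nat_lit 133, nat_lit 95, nat_lit 95, nat_lit 114, nat_lit 57, nat_lit 114, nat_lit 57, nat_lit 133, nat_lit 95])) (.node (nat_lit 19) (.node (nat_lit 18) (.leaf (nat_lit 12293) [nat_lit 114, nat_lit 95, nat_lit 114, nat_lit 76, nat_lit 57, nat_lit 95, nat_lit 57, nat_lit 133, nat_lit 133]) (.leaf (nat_lit 9235) [nat_lit 133, nat_lit 57, nat_lit 95, nat_lit 38, nat_lit 133, nat_lit 57, nat_lit 95, nat_lit 57, nat_lit 57])) (.node (nat_lit 20) (.leaf (nat_lit 11275) [nat_lit 133, nat_lit 76, nat_lit 76, nat_lit 57, nat_lit 76, nat_lit 133, nat_lit 133, nat_lit 57, nat_lit 114]) r7))))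
noncomputable def w1 : WT := (.node (nat_lit 1) (.leaf (nat_lit 2) [nat_lit 38]) (.node (nat_lit 4) (.node (nat_lit 2) (.leaf (nat_lit 4097) [nat_lit 57, nat_lit 57, nat_lit 57]) (.node (nat_lit 3) (.leaf (nat_lit 6148) [nat_lit 133, nat_lit 76, nat_lit 38, nat_lit 76]) (.leaf (nat_lit 6153) [nat_lit 95, nat_lit 114, nat_lit 38, nat_lit 95]))) (.node (nat_lit 8) (.node (nat_lit 6) r4 r5) (.node (nat_lit 12) r6 r8))))
noncomputable def r9 : WT := (.node (nat_lit 6) (.leaf (nat_lit 7178) [nat_lit 38, nat_lit 76, nat_lit 57, nat_lit 114, nat_lit 114]) (.leaf (nat_lit 12301) [nat_lit 57, nat_lit 95, nat_lit 57, nat_lit 133, nat_lit 133, nat_lit 57, nat_lit 114, nat_lit 95, nat_lit 114]))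
noncomputable def r10 : WT := (.node (nat_lit 15) (.leaf (nat_lit 10254) [nat_lit 76, nat_lit 114, nat_lit 38, nat_lit 76, nat_lit 114, nat_lit 38, nat_lit 133, nat_lit 38, nat_lit 133]) (.leaf (nat_lit 11281) [nat_lit 57, nat_lit 76, nat_lit 133, nat_lit 133, nat_lit 57, nat_lit 114, nat_lit 57, nat_lit 133, nat_lit 76]))
noncomputable def r11 : WT := (.node (nat_lit 17) (.leaf (nat_lit 12290) [nat_lit 38, nat_lit 95, nat_lit 133, nat_lit 76, nat_lit 133, nat_lit 38, nat_lit 114, nat_lit 114, nat_lit 38]) (.node (nat_lit 18) (.leaf (nat_lit 7170) [nat_lit 57, nat_lit 114, nat_lit 114, nat_lit 76, nat_lit 38]) (.leaf (nat_lit 11279) [nat_lit 76, nat_lit 57, nat_lit 76, nat_lit 133, nat_lit 133, nat_lit 57, nat_lit 114, nat_lit 57, nat_lit 133])))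
noncomputable def r12 : WT := (.node (nat_lit 9) (.node (nat_lit 8) (.leaf (nat_lit 11265) [nat_lit 133, nat_lit 133, nat_lit 57, nat_lit 114, nat_lit 57, nat_lit 133, nat_lit 76, nat_lit 76, nat_lit 57]) (.leaf (nat_lit 8194) [nat_lit 133, nat_lit 38, nat_lit 76, nat_lit 133, nat_lit 95, nat_lit 114, nat_lit 38, nat_lit 133, nat_lit 38])) (.node (nat_lit 12) (.node (nat_lit 10) (.leaf (nat_lit 12298) [nat_lit 133, nat_lit 38, nat_lit 114, nat_lit 114, nat_lit 38, nat_lit 76, nat_lit 38, nat_lit 95, nat_lit 133]) (.node (nat_lit 11) (.leaf (nat_lit 8199) [nat_lit 114, nat_lit 95, nat_lit 57, nat_lit 114, nat_lit 95, nat_lit 57, nat_lit 114, nat_lit 57, nat_lit 133]) (.leaf (nat_lit 8200) [nat_lit 133, nat_lit 95, nat_lit 114, nat_lit 38, nat_lit 133, nat_lit 38, nat_lit 76, nat_lit 133, nat_lit 38]))) (.node (nat_lit 14) (.node (nat_lit 13) (.leaf (nat_lit 10242) [nat_lit 114, nat_lit 38, nat_lit 133, nat_lit 38, nat_lit 133,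 nat_lit 76, nat_lit 76, nat_lit 114, nat_lit 38]) (.leaf (nat_lit 10256) [nat_lit 114, nat_lit 38, nat_lit 76, nat_lit 114, nat_lit 38, nat_lit 133, nat_lit 38, nat_lit 133, nat_lit 76])) (.node (nat_lit 16) r10 r11))))
noncomputable def w2 : WT := (.node (nat_lit 1) (.leaf (nat_lit 1024) [nat_lit 95]) (.node (nat_lit 3) (.node (nat_lit 2) (.leaf (nat_lit 5120) [nat_lit 76, nat_lit 76, nat_lit 76]) (.leaf (nat_lit 6152) [nat_lit 38, nat_lit 76, nat_lit 57, nat_lit 133])) (.node (nat_lit 5) (.node (nat_lit 4) (.leaf (nat_lit 6146) [nat_lit 57, nat_lit 133, nat_lit 76, nat_lit 38]) (.leaf (nat_lit 9230) [nat_lit 38, nat_lit 114, nat_lit 38, nat_lit 38, nat_lit 38, nat_lit 76, nat_lit 38, nat_lit 114, nat_lit 57])) (.node (nat_lit 7) r9 r12))))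
noncomputable def r13 : WT := (.node (nat_lit 5) (.leaf (nat_lit 8203) [nat_lit 57, nat_lit 114, nat_lit 95, nat_lit 57, nat_lit 114, nat_lit 57, nat_lit 133, nat_lit 76, nat_lit 114]) (.leaf (nat_lit 10257) [nat_lit 57, nat_lit 133, nat_lit 95, nat_lit 95, nat_lit 114, nat_lit 57, nat_lit 114, nat_lit 57, nat_lit 133]))
noncomputable def r14 : WT := (.node (nat_lit 7) (.leaf (nat_lit 11282) [nat_lit 38, nat_lit 95, nat_lit 95, nat_lit 114, nat_lit 38, nat_lit 133, nat_lit 38, nat_lit 114, nat_lit 114]) (.node (nat_lit 8) (.leaf (nat_lit 8204) [nat_lit 114, nat_lit 38, nat_lit 133, nat_lit 38, nat_lit 76, nat_lit 133, nat_lit 38, nat_lit 76, nat_lit 133]) (.leaf (nat_lit 12297) [nat_lit 114, nat_lit 76, nat_lit 57, nat_lit 95, nat_lit 57, nat_lit 133, nat_lit 133, nat_lit 57, nat_lit 114])))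
noncomputable def r15 : WT := (.node (nat_lit 18) (.leaf (nat_lit 11268) [nat_lit 114, nat_lit 38, nat_lit 133, nat_lit 38, nat_lit 114, nat_lit 114, nat_lit 95, nat_lit 38, nat_lit 95]) (.leaf (nat_lit 7177) [nat_lit 57, nat_lit 95, nat_lit 133, nat_lit 133, nat_lit 38]))
noncomputable def r16 : WT := (.node (nat_lit 12) (.node (nat_lit 10) (.leaf (nat_lit 9221) [nat_lit 38, nat_lit 133, nat_lit 57, nat_lit 95, nat_lit 57, nat_lit 57, nat_lit 57, nat_lit 133, nat_lit 57]) (.node (nat_lit 11) (.leaf (nat_lit 10243) [nat_lit 95, nat_lit 114, nat_lit 57, nat_lit 114, nat_lit 57, nat_lit 133, nat_lit 95, nat_lit 57, nat_lit 133]) (.leaf (nat_lit 11266) [nat_lit 95, nat_lit 114, nat_lit 38, nat_lit 133, nat_lit 38, nat_lit 114, nat_lit 114, nat_lit 95, nat_lit 38]))) (.node (nat_lit 14) (.node (nat_lit 13) (.leaf (nat_lit 12294) [nat_lit 133, nat_lit 76, nat_lit 133, nat_lit 38, nat_lit 114, nat_lit 114, nat_lit 38, nat_lit 76,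 nat_lit 38]) (.leaf (nat_lit 12305) [nat_lit 57, nat_lit 133, nat_lit 133, nat_lit 57, nat_lit 114, nat_lit 95, nat_lit 114, nat_lit 76, nat_lit 57])) (.node (nat_lit 16) (.node (nat_lit 15) (.leaf (nat_lit 10245) [nat_lit 114, nat_lit 57, nat_lit 114, nat_lit 57, nat_lit 133, nat_lit 95, nat_lit 57, nat_lit 133, nat_lit 95]) (.leaf (nat_lit 8209) [nat_lit 57, nat_lit 114, nat_lit 57, nat_lit 133, nat_lit 76, nat_lit 114, nat_lit 95, nat_lit 57, nat_lit 114])) (.node (nat_lit 17) (.leaf (nat_lit 7169) [nat_lit 133, nat_lit 133, nat_lit 38, nat_lit 95, nat_lit 57]) r15))))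
noncomputable def w3 : WT := (.node (nat_lit 1) (.leaf (nat_lit 1026) [nat_lit 76]) (.node (nat_lit 3) (.node (nat_lit 2) (.leaf (nat_lit 6145) [nat_lit 114, nat_lit 38, nat_lit 95, nat_lit 57]) (.leaf (nat_lit 5121) [nat_lit 95, nat_lit 95, nat_lit 95])) (.node (nat_lit 6) (.node (nat_lit 4) (.leaf (nat_lit 6151) [nat_lit 57, nat_lit 95, nat_lit 114, nat_lit 38]) r13) (.node (nat_lit 9) r14 r16))))
noncomputable def r17 : WT := (.node (nat_lit 5) (.leaf (nat_lit 9226) [nat_lit 57, nat_lit 76, nat_lit 38, nat_lit 114, nat_lit 38, nat_lit 38, nat_lit 38, nat_lit 76, nat_lit 38]) (.leaf (nat_lit 8207) [nat_lit 95, nat_lit 57, nat_lit 114, nat_lit 57, nat_lit 133, nat_lit 76, nat_lit 114, nat_lit 95, nat_lit 57]))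
noncomputable def r18 : WT := (.node (nat_lit 8) (.node (nat_lit 7) (.leaf (nat_lit 8201) [nat_lit 95, nat_lit 57, nat_lit 114, nat_lit 95, nat_lit 57, nat_lit 114, nat_lit 57, nat_lit 133, nat_lit 76]) (.leaf (nat_lit 12299) [nat_lit 76, nat_lit 57, nat_lit 95, nat_lit 57, nat_lit 133, nat_lit 133, nat_lit 57, nat_lit 114, nat_lit 95])) (.node (nat_lit 9) (.leaf (nat_lit 10244) [nat_lit 38, nat_lit 133, nat_lit 38, nat_lit 133, nat_lit 76, nat_lit 76, nat_lit 114, nat_lit 38, nat_lit 76]) (.leaf (nat_lit 10247) [nat_lit 57, nat_lit 114, nat_lit 57, nat_lit 133, nat_lit 95, nat_lit 57, nat_lit 133, nat_lit 95, nat_lit 95])))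
noncomputable def r19 : WT := (.node (nat_lit 20) (.leaf (nat_lit 11280) [nat_lit 95, nat_lit 38, nat_lit 95, nat_lit 95, nat_lit 114, nat_lit 38, nat_lit 133, nat_lit 38, nat_lit 114]) (.leaf (nat_lit 9234) [nat_lit 38, nat_lit 38, nat_lit 38, nat_lit 76, nat_lit 38, nat_lit 114, nat_lit 57, nat_lit 76, nat_lit 38]))
noncomputable def r20 : WT := (.node (nat_lit 13) (.node (nat_lit 11) (.leaf (nat_lit 10251) [nat_lit 57, nat_lit 133, nat_lit 95, nat_lit 57, nat_lit 133, nat_lit 95, nat_lit 95, nat_lit 114, nat_lit 57]) (.node (nat_lit 12) (.leaf (nat_lit 12304) [nat_lit 114, nat_lit 38, nat_lit 76, nat_lit 38, nat_lit 95, nat_lit 133, nat_lit 76, nat_lit 133, nat_lit 38]) (.leaf (nat_lit 12295) [nat_lit 95, nat_lit 114, nat_lit 76, nat_lit 57, nat_lit 95, nat_lit 57, nat_lit 133, nat_lit 133, nat_lit 57]))) (.node (nat_lit 16) (.node (nat_lit 14) (.leaf (nat_lit 8206) [nat_lit 38, nat_lit 133, nat_lit 38, nat_lit 76, nat_lit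 133, nat_lit 38, nat_lit 76, nat_lit 133, nat_lit 95]) (.node (nat_lit 15) (.leaf (nat_lit 7176) [nat_lit 76, nat_lit 38, nat_lit 76, nat_lit 57, nat_lit 114]) (.leaf (nat_lit 8193) [nat_lit 57, nat_lit 133, nat_lit 76, nat_lit 114, nat_lit 95, nat_lit 57, nat_lit 114, nat_lit 95, nat_lit 57]))) (.node (nat_lit 18) (.node (nat_lit 17) (.leaf (nat_lit 10258) [nat_lit 38, nat_lit 76, nat_lit 114, nat_lit 38, nat_lit 133, nat_lit 38, nat_lit 133, nat_lit 76, nat_lit 76]) (.leaf (nat_lit 11270) [nat_lit 38, nat_lit 133, nat_lit 38, nat_lit 114, nat_lit 114, nat_lit 95, nat_lit 38, nat_lit 95, nat_lit 95])) (.node (nat_lit 19) (.leaf (nat_lit 11278) [nat_lit 114, nat_lit 95, nat_lit 38, nat_lit 95, nat_lit 95, nat_lit 114, nat_lit 38, nat_lit 133, nat_lit 38]) r19))))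
noncomputable def w4 : WT := (.node (nat_lit 1) (.leaf (nat_lit 2048) [nat_lit 133]) (.node (nat_lit 3) (.node (nat_lit 2) (.leaf (nat_lit 3072) [nat_lit 114, nat_lit 114]) (.leaf (nat_lit 6147) [nat_lit 38, nat_lit 95, nat_lit 57, nat_lit 95])) (.node (nat_lit 6) (.node (nat_lit 4) (.leaf (nat_lit 7174) [nat_lit 114, nat_lit 76, nat_lit 38, nat_lit 76, nat_lit 57]) r17) (.node (nat_lit 10) r18 r20))))
noncomputable def r21 : WT := (.node (nat_lit 5) (.leaf (nat_lit 12296) [nat_lit 76, nat_lit 133, nat_lit 38, nat_lit 114, nat_lit 114, nat_lit 38, nat_lit 76, nat_lit 38, nat_lit 95]) (.leaf (nat_lit 8196) [nat_lit 38, nat_lit 76, nat_lit 133, nat_lit 95, nat_lit 114, nat_lit 38, nat_lit 133, nat_lit 38, nat_lit 76]))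
noncomputable def r22 : WT := (.node (nat_lit 7) (.leaf (nat_lit 7171) [nat_lit 133, nat_lit 38, nat_lit 95, nat_lit 57, nat_lit 95]) (.node (nat_lit 8) (.leaf (nat_lit 8210) [nat_lit 38, nat_lit 76, nat_lit 133, nat_lit 38, nat_lit 76, nat_lit 133, nat_lit 95, nat_lit 114, nat_lit 38]) (.leaf (nat_lit 12300) [nat_lit 38, nat_lit 114, nat_lit 114, nat_lit 38, nat_lit 76, nat_lit 38, nat_lit 95, nat_lit 133, nat_lit 76])))
noncomputable def r23 : WT := (.node (nat_lit 18) (.leaf (nat_lit 7173) [nat_lit 38, nat_lit 95, nat_lit 57, nat_lit 95, nat_lit 133]) (.leaf (nat_lit 10241) [nat_lit 95, nat_lit 95, nat_lit 114, nat_lit 57, nat_lit 114, nat_lit 57, nat_lit 133, nat_lit 95, nat_lit 57]))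
noncomputable def r24 : WT := (.node (nat_lit 20) (.leaf (nat_lit 11274) [nat_lit 38, nat_lit 114, nat_lit 114, nat_lit 95, nat_lit 38, nat_lit 95, nat_lit 95, nat_lit 114, nat_lit 38]) (.leaf (nat_lit 11277) [nat_lit 76, nat_lit 76, nat_lit 57, nat_lit 76, nat_lit 133, nat_lit 133, nat_lit 57, nat_lit 114, nat_lit 57]))
noncomputable def r25 : WT := (.node (nat_lit 12) (.node (nat_lit 10) (.leaf (nat_lit 10252) [nat_lit 76, nat_lit 76, nat_lit 114, nat_lit 38, nat_lit 76, nat_lit 114, nat_lit 38, nat_lit 133, nat_lit 38]) (.node (nat_lit 11) (.leaf (nat_lit 9217) [nat_lit 57, nat_lit 95, nat_lit 38, nat_lit 133, nat_lit 57, nat_lit 95, nat_lit 57, nat_lit 57, nat_lit 57]) (.leaf (nat_lit 10255) [nat_lit 95, nat_lit 57, nat_lit 133, nat_lit 95, nat_lit 95, nat_lit 114, nat_lit 57, nat_lit 114, nat_lit 57]))) (.node (nat_lit 15) (.node (nat_lit 13) (.leaf (nat_lit 10248) [nat_lit 38, nat_lit 133, nat_lit 76, nat_lit 76, nat_lit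 114, nat_lit 38, nat_lit 76, nat_lit 114, nat_lit 38]) (.node (nat_lit 14) (.leaf (nat_lit 8202) [nat_lit 95, nat_lit 114, nat_lit 38, nat_lit 133, nat_lit 38, nat_lit 76, nat_lit 133, nat_lit 38, nat_lit 76]) (.leaf (nat_lit 11267) [nat_lit 133, nat_lit 57, nat_lit 114, nat_lit 57, nat_lit 133, nat_lit 76, nat_lit 76, nat_lit 57, nat_lit 76]))) (.node (nat_lit 17) (.node (nat_lit 16) (.leaf (nat_lit 8197) [nat_lit 76, nat_lit 114, nat_lit 95, nat_lit 57, nat_lit 114, nat_lit 95, nat_lit 57, nat_lit 114, nat_lit 57]) (.leaf (nat_lit 12289) [nat_lit 133, nat_lit 57, nat_lit 114, nat_lit 95, nat_lit 114, nat_lit 76, nat_lit 57, nat_lit 95, nat_lit 57])) (.node (nat_lit 19) r23 r24))))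
noncomputable def w5 : WT := (.node (nat_lit 1) (.leaf (nat_lit 2050) [nat_lit 114]) (.node (nat_lit 3) (.node (nat_lit 2) (.leaf (nat_lit 3073) [nat_lit 133, nat_lit 133]) (.leaf (nat_lit 6150) [nat_lit 76, nat_lit 38, nat_lit 76, nat_lit 57])) (.node (nat_lit 6) (.node (nat_lit 4) (.leaf (nat_lit 9225) [nat_lit 57, nat_lit 95, nat_lit 57, nat_lit 57, nat_lit 57, nat_lit 133, nat_lit 57, nat_lit 95, nat_lit 38]) r21) (.node (nat_lit 9) r22 r25))))
noncomputable def wP : WT := (.node (nat_lit 5) (.node (nat_lit 3) (.node (nat_lit 1) (.leaf (nat_lit 6144) [nat_lit 38, nat_lit 76, nat_lit 57, nat_lit 133, nat_lit 76]) (.node (nat_lit 2) (.leaf (nat_lit 6149) [nat_lit 38, nat_lit 95, nat_lit 57, nat_lit 95, nat_lit 114]) (.leaf (nat_lit 8201) [nat_lit 114, nat_lit 95, nat_lit 57, nat_lit 114, nat_lit 95, nat_lit 57, nat_lit 114, nat_lit 57, nat_lit 133, nat_lit 76]))) (.node (nat_lit 4) (.leaf (nat_lit 10243) [nat_lit 95, nat_lit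 95, nat_lit 114, nat_lit 57, nat_lit 114, nat_lit 57, nat_lit 133, nat_lit 95, nat_lit 57, nat_lit 133]) (.leaf (nat_lit 10247) [nat_lit 114, nat_lit 57, nat_lit 114, nat_lit 57, nat_lit 133, nat_lit 95, nat_lit 57, nat_lit 133, nat_lit 95, nat_lit 95]))) (.node (nat_lit 7) (.node (nat_lit 6) (.leaf (nat_lit 11264) [nat_lit 38, nat_lit 95, nat_lit 95, nat_lit 114, nat_lit 38, nat_lit 133, nat_lit 38, nat_lit 114, nat_lit 114, nat_lit 95]) (.leaf (nat_lit 11282) [nat_lit 95, nat_lit 38, nat_lit 95, nat_lit 95, nat_lit 114, nat_lit 38, nat_lit 133, nat_lit 38, nat_lit 114, nat_lit 114])) (.node (nat_lit 8) (.leaf (nat_lit 11281) [nat_lit 76, nat_lit 57, nat_lit 76, nat_lit 133, nat_lit 133, nat_lit 57, nat_lit 114, nat_lit 57, nat_lit 133, nat_lit 76]) (.node (nat_lit 9) (.leaf (nat_lit 12300) [nat_lit 133, nat_lit 38, nat_lit 114, nat_lit 114, nat_lit 38, nat_lit 76, nat_lit 38, nat_lit 95, nat_lit 133, nat_lit 76]) (.leaf (nat_lit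 12301) [nat_lit 76, nat_lit 57, nat_lit 95, nat_lit 57, nat_lit 133, nat_lit 133, nat_lit 57, nat_lit 114, nat_lit 95, nat_lit 114])))))
noncomputable def P : Par := ⟨tb, nat_lit 152, nat_lit 0xffffffffffffffffffffffffffffffffffffff, nat_lit 1023, nat_lit 524287, nat_lit 2047, nat_lit 19, nat_lit 11, nat_lit 1008,
  [nat_lit 38, nat_lit 57, nat_lit 76, nat_lit 95, nat_lit 114, nat_lit 133], [], wP,
  (.cons (nat_lit 38) w0 (.cons (nat_lit 57) w1 (.cons (nat_lit 76) w2 (.cons (nat_lit 95) w3 (.cons (nat_lit 114) w4 (.cons (nat_lit 133) w5 .nil)))))),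
  .nil⟩

end Cfsg.Agent.Lib.TCJ44
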