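import Cfsg.Agent.Lib.TCDefs

set_option autoImplicit false
set_option maxRecDepth 100000

namespace Cfsg.Agent.Lib.TCJ45
open Cfsg.Agent.Lib.TCCore

noncomputable def l0 : T := .leaf (nat_lit 0) (nat_lit 0xfffffff1b0bffffffdda0fffddc07cf8062ffffffffffc74372f4641ffffffffffc038fffffff1703fff1b09bbdfffffff7cfc062ffffffffffc64114fdabe790ffff7af4046ffffffffffc4a066f85c0fffffff7e80054fffffff5af963e6d01a3f12805bd828002afffffff5c83fff7105d4218f84a0808001cfffffff1eeffff4abd292fffd29e5a78062ffffffffffc83c469873afffffff6c64038fffffff1ae7fff1eed0a6fffffff6c5c062ffffffffffc73afffcf9818e3fff4e5802afffffff3adfffffffc59ffffc6b95054038ffffffffffcf380e584b6fffffff5060046fffffff20d3fff14dc396fffffff6474038fffffffffffffffffffff0ed053358cc02affffffffffc8b63cc431510cc43556cc038fffffff0cb96363cc961516d44b46268062ffffffffffc631fffcfb33e74faf547c054fffcfb11ac859f3a54fb4fffffff527c054fffffff32684afffffffffffc59f5674054fffffff14c099bfffd33c40c841d587001cffffffffffc3b30a4fffffffffff606c046fffffff207bffffffc293fffffff609c038fffffffffffffffffc41dffffff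f66600380a37ffffffffffffffffffffffff5a6c07efffffff1ea7fff1077ffffffc327665801cffffffffffc82a12645a8fffffff685c046fffffff189ffff18a4499fffffff6a44038fffffff62786a80e6c2a50eabfff6850038fffffff0c53fff44e923b0c942125e4401cfffc8250c907980c9c31b08483a65e4c02afffc5240c543a50c7831c08443135c4802afffc6a3fffc422140ffff268c9232a24054fffffff128fffffffc3a1203060b28200380c24721fffffff108bffffffffff2a1c07e107512014fd7bd790e03d14f453efffc07e363ce9f18c551f18e153414c15affffc02a704dc9e5cec8ad0e702a44cf171efffc038128109d586889c12b03aa12bd032fffc038704089c24749ab0a9041e5a7d69dfffc0465c3489b28bcb9a0a94427726dd1bfffc0460a2051a306cd30647d915646991afffc07e7055d191c45b9e14a05291460417fffc01c6e588181c9471540e54b6105c599fffc02a18287176e583966a65b111264498fffc0546c61c16105d43a10d84370c54514fffc02a72648151e602a40ed0f311050396fffc05406144146a782a66a6da931658495fffc07e6e798130c498180cb432e0e90211fffc01c06103925e543934cf179c0a982a5fffc07e060c791605079960e983b0a4c2a4fffc07e7270d102c20d8e2634c8e081c30ffffc02a387c88f122c5072e24c830e40207fffc01c302cc0e34403093440b0d2c1898dfffc0540cac98d243020c2e38a102838686fffc054321878c0a3488d0a081861e2c8a2fffc0382e3840b161850f0a14184168880cfffc0381a5c38a060c3050c1c408122850afffc0620e846890e382882c0cc0f1624609fffc0540c684880c24b900e282072a30a8bfffc0382c24b07163c1860a2038a0a3c290fffc0543030806081c60b08301021c34b8efffc03808503850e28102081030b1014385fffc05408483040810284082c2850408203fffc02a0844703080820a303c5a30a10102fffc01c02041820614283061830c060c184fffc07e0408081040408104040810404081fffc000)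

end Cfsg.Agent.Lib.TCJ45
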