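import Cfsg.Agent.Lib.TCJ45D0

set_option autoImplicit false
set_option maxRecDepth 100000

namespace Cfsg.Agent.Lib.TCJ45
open Cfsg.Agent.Lib.TCCore

noncomputable def tb : T := l0
noncomputable def w0 : WT := (.node (nat_lit 1) (.leaf (nat_lit 0) [nat_lit 42]) (.node (nat_lit 2) (.leaf (nat_lit 5120) [nat_lit 28, nat_lit 28]) (.node (nat_lit 4) (.node (nat_lit 3) (.leaf (nat_lit 8192) [nat_lit 56, nat_lit 84, nat_lit 28, nat_lit 56, nat_lit 84]) (.leaf (nat_lit 12299) [nat_lit 84, nat_lit 70, nat_lit 42, nat_lit 84, nat_lit 42, nat_lit 98, nat_lit 56, nat_lit 98])) (.node (nat_lit 5) (.leaf (nat_lit 15374) [nat_lit 84, nat_lit 28, nat_lit 28, nat_lit 84, nat_lit 84, nat_lit 70, nat_lit 84, nat_lit 56]) (.leaf (nat_lit 10254) [nat_lit 98, nat_lit 28, nat_lit 28, nat_lit 70, nat_lit 98, nat_lit 56, nat_lit 98, nat_lit 98])))))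
noncomputable def r0 : WT := (.node (nat_lit 7) (.leaf (nat_lit 12291) [nat_lit 98, nat_lit 56, nat_lit 98, nat_lit 28, nat_lit 84, nat_lit 70, nat_lit 42, nat_lit 84]) (.leaf (nat_lit 13329) [nat_lit 84, nat_lit 42, nat_lit 98, nat_lit 98, nat_lit 28, nat_lit 70, nat_lit 98, nat_lit 56]))
noncomputable def w1 : WT := (.node (nat_lit 1) (.leaf (nat_lit 2) [nat_lit 28]) (.node (nat_lit 3) (.node (nat_lit 2) (.leaf (nat_lit 5121) [nat_lit 42, nat_lit 42]) (.leaf (nat_lit 12294) [nat_lit 84, nat_lit 70, nat_lit 84, nat_lit 28, nat_lit 98, nat_lit 28, nat_lit 56, nat_lit 98])) (.node (nat_lit 5) (.node (nat_lit 4) (.leaf (nat_lit 8197) [nat_lit 98, nat_lit 70, nat_lit 42, nat_lit 98, nat_lit 70]) (.leaf (nat_lit 18438) [nat_lit 98, nat_lit 126, nat_lit 84, nat_lit 28, nat_lit 126])) (.node (nat_lit 6) (.leaf (nat_lit 19468) [nat_lit 126, nat_lit 28, nat_lit 84, nat_lit 42, nat_lit 126, nat_lit 28, nat_lit 98]) r0))))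
noncomputable def r1 : WT := (.leaf (nat_lit 21513) [nat_lit 126, nat_lit 84, nat_lit 56, nat_lit 84, nat_lit 56, nat_lit 126, nat_lit 84, nat_lit 56, nat_lit 84, nat_lit 56, nat_lit 126, nat_lit 84, nat_lit 56, nat_lit 84])
noncomputable def w2 : WT := (.node (nat_lit 1) (.leaf (nat_lit 1024) [nat_lit 70]) (.node (nat_lit 3) (.node (nat_lit 2) (.leaf (nat_lit 6144) [nat_lit 56, nat_lit 56]) (.leaf (nat_lit 8194) [nat_lit 84, nat_lit 28, nat_lit 56, nat_lit 84, nat_lit 28])) (.node (nat_lit 4) (.leaf (nat_lit 10253) [nat_lit 42, nat_lit 42, nat_lit 84, nat_lit 42, nat_lit 84, nat_lit 84, nat_lit 70, nat_lit 84]) (.node (nat_lit 5) r1 (.leaf (nat_lit 14343) [nat_lit 98, nat_lit 56, nat_lit 98, nat_lit 70, nat_lit 70, nat_lit 98, nat_lit 56, nat_lit 98])))))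
noncomputable def r2 : WT := (.node (nat_lit 5) (.leaf (nat_lit 10244) [nat_lit 98, nat_lit 56, nat_lit 98, nat_lit 98, nat_lit 28, nat_lit 98, nat_lit 28, nat_lit 28]) (.leaf (nat_lit 10249) [nat_lit 84, nat_lit 56, nat_lit 42, nat_lit 42, nat_lit 84, nat_lit 42, nat_lit 84, nat_lit 84]))
noncomputable def r3 : WT := (.leaf (nat_lit 21508) [nat_lit 98, nat_lit 126, nat_lit 70, nat_lit 98, nat_lit 70, nat_lit 98, nat_lit 126, nat_lit 70, nat_lit 98, nat_lit 70, nat_lit 98, nat_lit 126, nat_lit 70, nat_lit 98])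
noncomputable def r4 : WT := (.node (nat_lit 7) (.leaf (nat_lit 15365) [nat_lit 98, nat_lit 56, nat_lit 98, nat_lit 98, nat_lit 42, nat_lit 42, nat_lit 98, nat_lit 42]) r3)
noncomputable def w3 : WT := (.node (nat_lit 1) (.leaf (nat_lit 1026) [nat_lit 56]) (.node (nat_lit 2) (.leaf (nat_lit 6145) [nat_lit 70, nat_lit 70]) (.node (nat_lit 4) (.node (nat_lit 3) (.leaf (nat_lit 20490) [nat_lit 42, nat_lit 126, nat_lit 28, nat_lit 56, nat_lit 84, nat_lit 126, nat_lit 98]) (.leaf (nat_lit 14342) [nat_lit 84, nat_lit 70, nat_lit 84, nat_lit 70, nat_lit 84, nat_lit 56, nat_lit 56, nat_lit 84])) (.node (nat_lit 6) r2 r4))))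
noncomputable def r5 : WT := (.node (nat_lit 8) (.leaf (nat_lit 12289) [nat_lit 42, nat_lit 98, nat_lit 56, nat_lit 98, nat_lit 28, nat_lit 84, nat_lit 70, nat_lit 42]) (.leaf (nat_lit 14344) [nat_lit 70, nat_lit 84, nat_lit 70, nat_lit 84, nat_lit 56, nat_lit 56, nat_lit 84, nat_lit 70]))
noncomputable def w4 : WT := (.node (nat_lit 1) (.leaf (nat_lit 2048) [nat_lit 98]) (.node (nat_lit 4) (.node (nat_lit 2) (.leaf (nat_lit 19458) [nat_lit 42, nat_lit 126, nat_lit 28, nat_lit 98, nat_lit 42, nat_lit 126, nat_lit 28]) (.node (nat_lit 3) (.leaf (nat_lit 20484) [nat_lit 126, nat_lit 98, nat_lit 70, nat_lit 42, nat_lit 126, nat_lit 28, nat_lit 56]) (.leaf (nat_lit 7168) [nat_lit 84, nat_lit 84, nat_lit 84]))) (.node (nat_lit 6) (.node (nat_lit 5) (.leaf (nat_lit 18432) [nat_lit 28, nat_lit 126, nat_lit 42, nat_lit 98, nat_lit 126]) (.leaf (nat_lit 11270) [nat_lit 28, nat_lit 112, nat_lit 56, nat_lit 84, nat_lit 112, nat_lit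 28, nat_lit 56, nat_lit 112])) (.node (nat_lit 7) (.leaf (nat_lit 12296) [nat_lit 70, nat_lit 84, nat_lit 28, nat_lit 98, nat_lit 28, nat_lit 56, nat_lit 98, nat_lit 42]) r5))))
noncomputable def r6 : WT := (.node (nat_lit 6) (.leaf (nat_lit 7169) [nat_lit 98, nat_lit 98, nat_lit 98]) (.leaf (nat_lit 10256) [nat_lit 28, nat_lit 28, nat_lit 70, nat_lit 98, nat_lit 56, nat_lit 98, nat_lit 98, nat_lit 28]))
noncomputable def r7 : WT := (.leaf (nat_lit 21506) [nat_lit 70, nat_lit 98, nat_lit 126, nat_lit 70, nat_lit 98, nat_lit 70, nat_lit 98, nat_lit 126, nat_lit 70, nat_lit 98, nat_lit 70, nat_lit 98, nat_lit 126, nat_lit 70])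
noncomputable def r8 : WT := (.node (nat_lit 8) (.leaf (nat_lit 12292) [nat_lit 42, nat_lit 84, nat_lit 70, nat_lit 84, nat_lit 28, nat_lit 98, nat_lit 28, nat_lit 56]) r7)
noncomputable def w5 : WT := (.node (nat_lit 1) (.leaf (nat_lit 2050) [nat_lit 84]) (.node (nat_lit 3) (.node (nat_lit 2) (.leaf (nat_lit 18440) [nat_lit 126, nat_lit 84, nat_lit 28, nat_lit 126, nat_lit 42]) (.leaf (nat_lit 10246) [nat_lit 56, nat_lit 98, nat_lit 98, nat_lit 28, nat_lit 98, nat_lit 28, nat_lit 28, nat_lit 70])) (.node (nat_lit 5) (.node (nat_lit 4) (.leaf (nat_lit 19466) [nat_lit 42, nat_lit 126, nat_lit 28, nat_lit 84, nat_lit 42, nat_lit 126, nat_lit 28]) (.leaf (nat_lit 8193) [nat_lit 70, nat_lit 42, nat_lit 98, nat_lit 70, nat_lit 42])) (.node (nat_lit 7) r6 r8))))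
noncomputable def r9 : WT := (.node (nat_lit 7) (.leaf (nat_lit 11268) [nat_lit 84, nat_lit 28, nat_lit 112, nat_lit 56, nat_lit 84, nat_lit 112, nat_lit 28, nat_lit 56]) (.leaf (nat_lit 16396) [nat_lit 98, nat_lit 112, nat_lit 56, nat_lit 112, nat_lit 70, nat_lit 98, nat_lit 98, nat_lit 98]))
noncomputable def w6 : WT := (.node (nat_lit 2) (.node (nat_lit 1) (.leaf (nat_lit 17408) [nat_lit 126, nat_lit 112, nat_lit 126]) (.leaf (nat_lit 16386) [nat_lit 70, nat_lit 98, nat_lit 98, nat_lit 98, nat_lit 112, nat_lit 98, nat_lit 112, nat_lit 56])) (.node (nat_lit 4) (.node (nat_lit 3) (.leaf (nat_lit 9220) [nat_lit 98, nat_lit 42, nat_lit 112, nat_lit 28, nat_lit 84]) (.leaf (nat_lit 9226) [nat_lit 28, nat_lit 84, nat_lit 112, nat_lit 98, nat_lit 42])) (.node (nat_lit 6) (.node (nat_lit 5) (.leaf (nat_lit 11274) [nat_lit 56, nat_lit 84, nat_lit 112, nat_lit 28, nat_lit 56, nat_lit 112, nat_lit 84, nat_lit 28]) (.leaf (nat_lit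 11277) [nat_lit 70, nat_lit 42, nat_lit 112, nat_lit 98, nat_lit 70, nat_lit 112, nat_lit 42, nat_lit 98])) (.node (nat_lit 8) r9 (.leaf (nat_lit 16400) [nat_lit 56, nat_lit 112, nat_lit 70, nat_lit 98, nat_lit 98, nat_lit 98, nat_lit 112, nat_lit 98])))))
noncomputable def r10 : WT := (.leaf (nat_lit 21512) [nat_lit 70, nat_lit 98, nat_lit 70, nat_lit 98, nat_lit 126, nat_lit 70, nat_lit 98, nat_lit 70, nat_lit 98, nat_lit 126, nat_lit 70, nat_lit 98, nat_lit 70, nat_lit 98])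
noncomputable def w7 : WT := (.node (nat_lit 1) (.leaf (nat_lit 4096) [nat_lit 126]) (.node (nat_lit 3) (.node (nat_lit 2) (.leaf (nat_lit 18436) [nat_lit 42, nat_lit 98, nat_lit 126, nat_lit 84, nat_lit 28]) (.leaf (nat_lit 18442) [nat_lit 84, nat_lit 28, nat_lit 126, nat_lit 42, nat_lit 98])) (.node (nat_lit 4) (.leaf (nat_lit 19470) [nat_lit 28, nat_lit 84, nat_lit 42, nat_lit 126, nat_lit 28, nat_lit 98, nat_lit 42]) (.node (nat_lit 5) (.leaf (nat_lit 20494) [nat_lit 28, nat_lit 56, nat_lit 84, nat_lit 126, nat_lit 98, nat_lit 70, nat_lit 42]) r10))))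
noncomputable def wP : WT := (.node (nat_lit 1) (.leaf (nat_lit 10252) [nat_lit 98, nat_lit 28, nat_lit 98, nat_lit 28, nat_lit 28, nat_lit 70, nat_lit 98, nat_lit 56, nat_lit 98]) (.leaf (nat_lit 13323) [nat_lit 70, nat_lit 98, nat_lit 56, nat_lit 42, nat_lit 84, nat_lit 42, nat_lit 98, nat_lit 98, nat_lit 28]))
noncomputable def P : Par := ⟨tb, nat_lit 140, nat_lit 0xfffffffffffffffffffffffffffffffffff, nat_lit 67, nat_lit 16383, nat_lit 127, nat_lit 14, nat_lit 7, nat_lit 32,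
  [nat_lit 28, nat_lit 42, nat_lit 56, nat_lit 70, nat_lit 84, nat_lit 98, nat_lit 112, nat_lit 126], [nat_lit 28, nat_lit 56, nat_lit 84, nat_lit 112], wP,
  (.cons (nat_lit 28) w0 (.cons (nat_lit 42) w1 (.cons (nat_lit 56) w2 (.cons (nat_lit 70) w3 (.cons (nat_lit 84) w4 (.cons (nat_lit 98) w5 (.cons (nat_lit 112) w6 (.cons (nat_lit 126) w7 .nil)))))))),
  .nil⟩

end Cfsg.Agent.Lib.TCJ45
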