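import Cfsg.Agent.Lib.TCJ46D0

set_option autoImplicit false
set_option maxRecDepth 100000

namespace Cfsg.Agent.Lib.TCJ46
open Cfsg.Agent.Lib.TCCore

noncomputable def tb : T := (.node (nat_lit 728) (.node (nat_lit 364) (.node (nat_lit 182) (.node (nat_lit 91) l0 l1) (.node (nat_lit 273) l2 l3)) (.node (nat_lit 546) (.node (nat_lit 455) l4 l5) (.node (nat_lit 637) l6 l7))) (.node (nat_lit 1092) (.node (nat_lit 910) (.node (nat_lit 819) l8 l9) (.node (nat_lit 1001) l10 l11)) (.node (nat_lit 1274) (.node (nat_lit 1183) l12 l13) (.node (nat_lit 1365) l14 l15))))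
noncomputable def r0 : WT := (.node (nat_lit 5) (.leaf (nat_lit 9223) [nat_lit 105, nat_lit 63, nat_lit 105, nat_lit 147, nat_lit 147]) (.node (nat_lit 6) (.leaf (nat_lit 15367) [nat_lit 147, nat_lit 63, nat_lit 105, nat_lit 63, nat_lit 63, nat_lit 63, nat_lit 147, nat_lit 63, nat_lit 105]) (.leaf (nat_lit 23552) [nat_lit 147, nat_lit 42, nat_lit 84, nat_lit 189, nat_lit 105, nat_lit 63, nat_lit 126, nat_lit 63, nat_lit 189])))
noncomputable def r1 : WT := (.node (nat_lit 9) (.node (nat_lit 8) (.leaf (nat_lit 18432) [nat_lit 105, nat_lit 105, nat_lit 126, nat_lit 42, nat_lit 147, nat_lit 42, nat_lit 126, nat_lit 126, nat_lit 105]) (.leaf (nat_lit 14342) [nat_lit 84, nat_lit 147, nat_lit 105, nat_lit 126, nat_lit 42, nat_lit 147, nat_lit 42, nat_lit 84, nat_lit 147])) (.node (nat_lit 10) (.leaf (nat_lit 25604) [nat_lit 189, nat_lit 84, nat_lit 147, nat_lit 42, nat_lit 189, nat_lit 84, nat_lit 147, nat_lit 42, nat_lit 189, nat_lit 84, nat_lit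 147]) (.leaf (nat_lit 23556) [nat_lit 84, nat_lit 189, nat_lit 105, nat_lit 63, nat_lit 126, nat_lit 63, nat_lit 189, nat_lit 42, nat_lit 147])))
noncomputable def r2 : WT := (.node (nat_lit 14) (.node (nat_lit 12) (.leaf (nat_lit 13322) [nat_lit 168, nat_lit 63, nat_lit 168, nat_lit 84, nat_lit 42, nat_lit 168, nat_lit 63, nat_lit 105, nat_lit 168]) (.node (nat_lit 13) (.leaf (nat_lit 15368) [nat_lit 126, nat_lit 63, nat_lit 84, nat_lit 42, nat_lit 126, nat_lit 42, nat_lit 42, nat_lit 42, nat_lit 84]) (.leaf (nat_lit 21504) [nat_lit 168, nat_lit 63, nat_lit 189, nat_lit 42, nat_lit 168, nat_lit 63, nat_lit 189]))) (.node (nat_lit 15) (.leaf (nat_lit 19460) [nat_lit 105, nat_lit 147, nat_lit 84, nat_lit 147, nat_lit 42, nat_lit 126, nat_lit 126, nat_lit 42, nat_lit 84]) (.node (nat_lit 16) (.leaf (nat_lit 16384) [nat_lit 105, nat_lit 147, nat_lit 168, nat_lit 126, nat_lit 63, nat_lit 168, nat_lit 105, nat_lit 126, nat_lit 168]) (.leaf (nat_lit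 14352) [nat_lit 147, nat_lit 42, nat_lit 84, nat_lit 147, nat_lit 42, nat_lit 84, nat_lit 147, nat_lit 105, nat_lit 126]))))
noncomputable def r3 : WT := (.leaf (nat_lit 26634) [nat_lit 126, nat_lit 189, nat_lit 84, nat_lit 189, nat_lit 105, nat_lit 126, nat_lit 84, nat_lit 168, nat_lit 42, nat_lit 84, nat_lit 42, nat_lit 126, nat_lit 189, nat_lit 84, nat_lit 189, nat_lit 105, nat_lit 126, nat_lit 84, nat_lit 168, nat_lit 42, nat_lit 84])
noncomputable def r4 : WT := (.node (nat_lit 28) (.leaf (nat_lit 19456) [nat_lit 84, nat_lit 42, nat_lit 105, nat_lit 147, nat_lit 84, nat_lit 147, nat_lit 42, nat_lit 126, nat_lit 126]) (.leaf (nat_lit 20496) [nat_lit 168, nat_lit 42, nat_lit 42, nat_lit 42, nat_lit 84, nat_lit 42, nat_lit 168, nat_lit 63, nat_lit 105]))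
noncomputable def r5 : WT := (.node (nat_lit 30) (.leaf (nat_lit 17408) [nat_lit 84, nat_lit 126, nat_lit 42, nat_lit 147, nat_lit 42, nat_lit 147, nat_lit 84, nat_lit 84, nat_lit 126]) (.node (nat_lit 31) (.leaf (nat_lit 18440) [nat_lit 147, nat_lit 42, nat_lit 126, nat_lit 126, nat_lit 105, nat_lit 42, nat_lit 105, nat_lit 105, nat_lit 126]) (.leaf (nat_lit 20480) [nat_lit 42, nat_lit 42, nat_lit 84, nat_lit 42, nat_lit 168, nat_lit 63, nat_lit 105, nat_lit 42, nat_lit 168])))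
noncomputable def r6 : WT := (.leaf (nat_lit 26630) [nat_lit 84, nat_lit 42, nat_lit 126, nat_lit 189, nat_lit 84, nat_lit 189, nat_lit 105, nat_lit 126, nat_lit 84, nat_lit 168, nat_lit 42, nat_lit 84, nat_lit 42, nat_lit 126, nat_lit 189, nat_lit 84, nat_lit 189, nat_lit 105, nat_lit 126, nat_lit 84, nat_lit 168])
noncomputable def r7 : WT := (.node (nat_lit 33) (.leaf (nat_lit 20482) [nat_lit 42, nat_lit 84, nat_lit 42, nat_lit 168, nat_lit 63, nat_lit 105, nat_lit 42, nat_lit 168, nat_lit 42]) (.node (nat_lit 34) (.leaf (nat_lit 15360) [nat_lit 42, nat_lit 42, nat_lit 84, nat_lit 42, nat_lit 126, nat_lit 63, nat_lit 84, nat_lit 42, nat_lit 126]) r6))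
noncomputable def r8 : WT := (.node (nat_lit 22) (.node (nat_lit 19) (.node (nat_lit 18) (.leaf (nat_lit 18444) [nat_lit 126, nat_lit 126, nat_lit 105, nat_lit 42, nat_lit 105, nat_lit 105, nat_lit 126, nat_lit 42, nat_lit 147]) (.leaf (nat_lit 16393) [nat_lit 147, nat_lit 168, nat_lit 126, nat_lit 84, nat_lit 63, nat_lit 168, nat_lit 147, nat_lit 84, nat_lit 168])) (.node (nat_lit 20) r3 (.node (nat_lit 21) (.leaf (nat_lit 19470) [nat_lit 126, nat_lit 126, nat_lit 42, nat_lit 84, nat_lit 42, nat_lit 105, nat_lit 147, nat_lit 84, nat_lit 147]) (.leaf (nat_lit 13312) [nat_lit 168, nat_lit 63, nat_lit 105, nat_lit 168, nat_lit 42, nat_lit 168, nat_lit 63, nat_lit 168, nat_lit 84])))) (.node (nat_lit 26) (.node (nat_lit 24) (.node (nat_lit 23) (.leaf (nat_lit 15376) [nat_lit 126, nat_lit 42, nat_lit 42, nat_lit 42, nat_lit 84, nat_lit 42, nat_lit 126, nat_lit 63, nat_lit 84]) (.leaf (nat_lit 15362) [nat_lit 42, nat_lit 84, nat_lit 42, nat_lit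 126, nat_lit 63, nat_lit 84, nat_lit 42, nat_lit 126, nat_lit 42])) (.node (nat_lit 25) (.leaf (nat_lit 14336) [nat_lit 84, nat_lit 147, nat_lit 42, nat_lit 84, nat_lit 147, nat_lit 105, nat_lit 126, nat_lit 42, nat_lit 147]) (.leaf (nat_lit 17414) [nat_lit 147, nat_lit 42, nat_lit 147, nat_lit 84, nat_lit 84, nat_lit 126, nat_lit 42, nat_lit 84, nat_lit 126]))) (.node (nat_lit 29) (.node (nat_lit 27) (.leaf (nat_lit 17418) [nat_lit 147, nat_lit 84, nat_lit 84, nat_lit 126, nat_lit 42, nat_lit 84, nat_lit 126, nat_lit 42, nat_lit 147]) r4) (.node (nat_lit 32) r5 r7))))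
noncomputable def w0 : WT := (.node (nat_lit 1) (.leaf (nat_lit 0) [nat_lit 63]) (.node (nat_lit 4) (.node (nat_lit 2) (.leaf (nat_lit 8192) [nat_lit 84, nat_lit 63, nat_lit 147, nat_lit 84]) (.node (nat_lit 3) (.leaf (nat_lit 6144) [nat_lit 42, nat_lit 42, nat_lit 42]) (.leaf (nat_lit 8197) [nat_lit 105, nat_lit 63, nat_lit 105, nat_lit 126]))) (.node (nat_lit 11) (.node (nat_lit 7) r0 r1) (.node (nat_lit 17) r2 r8))))
noncomputable def r9 : WT := (.node (nat_lit 5) (.leaf (nat_lit 23568) [nat_lit 189, nat_lit 42, nat_lit 147, nat_lit 42, nat_lit 84, nat_lit 189, nat_lit 105, nat_lit 63, nat_lit 126]) (.leaf (nat_lit 15363) [nat_lit 105, nat_lit 42, nat_lit 147, nat_lit 63, nat_lit 105, nat_lit 63, nat_lit 63, nat_lit 63, nat_lit 147]))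
noncomputable def r10 : WT := (.node (nat_lit 7) (.leaf (nat_lit 14339) [nat_lit 147, nat_lit 84, nat_lit 126, nat_lit 105, nat_lit 63, nat_lit 126, nat_lit 105, nat_lit 63, nat_lit 126]) (.node (nat_lit 8) (.leaf (nat_lit 21508) [nat_lit 189, nat_lit 42, nat_lit 168, nat_lit 63, nat_lit 189, nat_lit 42, nat_lit 168]) (.leaf (nat_lit 25603) [nat_lit 126, nat_lit 105, nat_lit 189, nat_lit 63, nat_lit 126, nat_lit 105, nat_lit 189, nat_lit 63, nat_lit 126, nat_lit 105, nat_lit 189])))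
noncomputable def r11 : WT := (.node (nat_lit 12) (.node (nat_lit 10) (.leaf (nat_lit 18451) [nat_lit 84, nat_lit 147, nat_lit 147, nat_lit 63, nat_lit 126, nat_lit 63, nat_lit 147, nat_lit 84, nat_lit 84]) (.node (nat_lit 11) (.leaf (nat_lit 15372) [nat_lit 84, nat_lit 42, nat_lit 126, nat_lit 42, nat_lit 42, nat_lit 42, nat_lit 84, nat_lit 42, nat_lit 126]) (.leaf (nat_lit 19461) [nat_lit 126, nat_lit 105, nat_lit 126, nat_lit 84, nat_lit 63, nat_lit 105, nat_lit 63, nat_lit 147, nat_lit 147]))) (.node (nat_lit 14) (.node (nat_lit 13) (.leaf (nat_lit 13316) [nat_lit 105, nat_lit 168, nat_lit 42, nat_lit 168, nat_lit 63, nat_lit 168, nat_lit 84, nat_lit 42, nat_lit 168]) (.leaf (nat_lit 13326) [nat_lit 168, nat_lit 84, nat_lit 42, nat_lit 168, nat_lit 63, nat_lit 105, nat_lit 168, nat_lit 42, nat_lit 168])) (.node (nat_lit 15) (.leaf (nat_lit 19471) [nat_lit 105, nat_lit 63, nat_lit 147, nat_lit 147, nat_lit 63, nat_lit 126, nat_lit 105, nat_lit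 126, nat_lit 84]) (.leaf (nat_lit 16394) [nat_lit 168, nat_lit 105, nat_lit 126, nat_lit 168, nat_lit 42, nat_lit 105, nat_lit 147, nat_lit 168, nat_lit 126]))))
noncomputable def r12 : WT := (.node (nat_lit 27) (.leaf (nat_lit 20492) [nat_lit 105, nat_lit 42, nat_lit 168, nat_lit 42, nat_lit 42, nat_lit 42, nat_lit 84, nat_lit 42, nat_lit 168]) (.leaf (nat_lit 18439) [nat_lit 126, nat_lit 63, nat_lit 147, nat_lit 84, nat_lit 84, nat_lit 63, nat_lit 84, nat_lit 147, nat_lit 147]))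
noncomputable def r13 : WT := (.node (nat_lit 29) (.leaf (nat_lit 17427) [nat_lit 147, nat_lit 105, nat_lit 105, nat_lit 126, nat_lit 63, nat_lit 126, nat_lit 63, nat_lit 147, nat_lit 105]) (.leaf (nat_lit 20497) [nat_lit 63, nat_lit 168, nat_lit 63, nat_lit 84, nat_lit 42, nat_lit 168, nat_lit 63, nat_lit 105, nat_lit 63]))
noncomputable def r14 : WT := (.node (nat_lit 31) (.leaf (nat_lit 20499) [nat_lit 168, nat_lit 63, nat_lit 84, nat_lit 42, nat_lit 168, nat_lit 63, nat_lit 105, nat_lit 63, nat_lit 63]) (.leaf (nat_lit 16403) [nat_lit 168, nat_lit 147, nat_lit 84, nat_lit 168, nat_lit 42, nat_lit 147, nat_lit 168, nat_lit 126, nat_lit 84]))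
noncomputable def r15 : WT := (.node (nat_lit 21) (.node (nat_lit 18) (.node (nat_lit 17) (.leaf (nat_lit 23564) [nat_lit 126, nat_lit 63, nat_lit 189, nat_lit 42, nat_lit 147, nat_lit 42, nat_lit 84, nat_lit 189, nat_lit 105]) (.leaf (nat_lit 14355) [nat_lit 126, nat_lit 63, nat_lit 147, nat_lit 84, nat_lit 126, nat_lit 105, nat_lit 63, nat_lit 126, nat_lit 105])) (.node (nat_lit 19) (.leaf (nat_lit 19475) [nat_lit 147, nat_lit 147, nat_lit 63, nat_lit 126, nat_lit 105, nat_lit 126, nat_lit 84, nat_lit 63, nat_lit 105]) (.node (nat_lit 20) (.leaf (nat_lit 17421) [nat_lit 147, nat_lit 105, nat_lit 63, nat_lit 147, nat_lit 105, nat_lit 105, nat_lit 126, nat_lit 63, nat_lit 126]) (.leaf (nat_lit 14349) [nat_lit 126, nat_lit 105, nat_lit 63, nat_lit 126, nat_lit 63, nat_lit 147, nat_lit 84, nat_lit 126, nat_lit 105])))) (.node (nat_lit 25) (.node (nat_lit 23) (.node (nat_lit 22) (.leaf (nat_lit 15377) [nat_lit 63, nat_lit 147, nat_lit 63, nat_lit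 105, nat_lit 42, nat_lit 147, nat_lit 63, nat_lit 105, nat_lit 63]) (.leaf (nat_lit 17417) [nat_lit 126, nat_lit 63, nat_lit 147, nat_lit 105, nat_lit 63, nat_lit 147, nat_lit 105, nat_lit 105, nat_lit 126])) (.node (nat_lit 24) (.leaf (nat_lit 18443) [nat_lit 147, nat_lit 84, nat_lit 84, nat_lit 63, nat_lit 84, nat_lit 147, nat_lit 147, nat_lit 63, nat_lit 126]) (.leaf (nat_lit 15371) [nat_lit 105, nat_lit 63, nat_lit 63, nat_lit 63, nat_lit 147, nat_lit 63, nat_lit 105, nat_lit 42, nat_lit 147]))) (.node (nat_lit 28) (.node (nat_lit 26) (.leaf (nat_lit 9220) [nat_lit 126, nat_lit 126, nat_lit 84, nat_lit 42, nat_lit 84]) r12) (.node (nat_lit 30) r13 r14))))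
noncomputable def w1 : WT := (.node (nat_lit 1) (.leaf (nat_lit 2) [nat_lit 42]) (.node (nat_lit 4) (.node (nat_lit 2) (.leaf (nat_lit 6145) [nat_lit 63, nat_lit 63, nat_lit 63]) (.node (nat_lit 3) (.leaf (nat_lit 8196) [nat_lit 147, nat_lit 84, nat_lit 42, nat_lit 84]) (.leaf (nat_lit 8201) [nat_lit 105, nat_lit 126, nat_lit 42, nat_lit 105]))) (.node (nat_lit 9) (.node (nat_lit 6) r9 r10) (.node (nat_lit 16) r11 r15))))
noncomputable def r16 : WT := (.node (nat_lit 5) (.leaf (nat_lit 15374) [nat_lit 42, nat_lit 126, nat_lit 42, nat_lit 42, nat_lit 42, nat_lit 84, nat_lit 42, nat_lit 126, nat_lit 63]) (.leaf (nat_lit 9226) [nat_lit 42, nat_lit 84, nat_lit 63, nat_lit 126, nat_lit 126]))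
noncomputable def r17 : WT := (.leaf (nat_lit 26640) [nat_lit 189, nat_lit 105, nat_lit 126, nat_lit 84, nat_lit 168, nat_lit 42, nat_lit 84, nat_lit 42, nat_lit 126, nat_lit 189, nat_lit 84, nat_lit 189, nat_lit 105, nat_lit 126, nat_lit 84, nat_lit 168, nat_lit 42, nat_lit 84, nat_lit 42, nat_lit 126, nat_lit 189])
noncomputable def r18 : WT := (.node (nat_lit 8) (.node (nat_lit 7) (.leaf (nat_lit 18433) [nat_lit 147, nat_lit 147, nat_lit 63, nat_lit 126, nat_lit 63, nat_lit 147, nat_lit 84, nat_lit 84, nat_lit 63]) (.leaf (nat_lit 25600) [nat_lit 147, nat_lit 42, nat_lit 189, nat_lit 84, nat_lit 147, nat_lit 42, nat_lit 189, nat_lit 84, nat_lit 147, nat_lit 42, nat_lit 189])) (.node (nat_lit 9) (.leaf (nat_lit 10240) [nat_lit 84, nat_lit 168, nat_lit 84, nat_lit 84, nat_lit 168]) r17))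
noncomputable def r19 : WT := (.node (nat_lit 13) (.node (nat_lit 11) (.leaf (nat_lit 17424) [nat_lit 126, nat_lit 42, nat_lit 84, nat_lit 126, nat_lit 42, nat_lit 147, nat_lit 42, nat_lit 147, nat_lit 84]) (.node (nat_lit 12) (.leaf (nat_lit 19466) [nat_lit 147, nat_lit 42, nat_lit 126, nat_lit 126, nat_lit 42, nat_lit 84, nat_lit 42, nat_lit 105, nat_lit 147]) (.leaf (nat_lit 22532) [nat_lit 189, nat_lit 105, nat_lit 168, nat_lit 84, nat_lit 189, nat_lit 105, nat_lit 168]))) (.node (nat_lit 14) (.leaf (nat_lit 24580) [nat_lit 126, nat_lit 189, nat_lit 147, nat_lit 105, nat_lit 147, nat_lit 84, nat_lit 189, nat_lit 105, nat_lit 126]) (.node (nat_lit 15) (.leaf (nat_lit 19469) [nat_lit 63, nat_lit 105, nat_lit 63, nat_lit 147, nat_lit 147, nat_lit 63, nat_lit 126, nat_lit 105, nat_lit 126]) (.leaf (nat_lit 10242) [nat_lit 168, nat_lit 84, nat_lit 84, nat_lit 168, nat_lit 84]))))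
noncomputable def r20 : WT := (.node (nat_lit 25) (.leaf (nat_lit 14344) [nat_lit 147, nat_lit 105, nat_lit 126, nat_lit 42, nat_lit 147, nat_lit 42, nat_lit 84, nat_lit 147, nat_lit 42]) (.leaf (nat_lit 16389) [nat_lit 168, nat_lit 42, nat_lit 147, nat_lit 168, nat_lit 126, nat_lit 84, nat_lit 63, nat_lit 168, nat_lit 147]))
noncomputable def r21 : WT := (.leaf (nat_lit 26626) [nat_lit 168, nat_lit 42, nat_lit 84, nat_lit 42, nat_lit 126, nat_lit 189, nat_lit 84, nat_lit 189, nat_lit 105, nat_lit 126, nat_lit 84, nat_lit 168, nat_lit 42, nat_lit 84, nat_lit 42, nat_lit 126, nat_lit 189, nat_lit 84, nat_lit 189, nat_lit 105, nat_lit 126])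
noncomputable def r22 : WT := (.node (nat_lit 27) r21 (.leaf (nat_lit 11266) [nat_lit 168, nat_lit 105, nat_lit 105, nat_lit 168, nat_lit 84]))
noncomputable def r23 : WT := (.node (nat_lit 29) (.leaf (nat_lit 15366) [nat_lit 42, nat_lit 126, nat_lit 63, nat_lit 84, nat_lit 42, nat_lit 126, nat_lit 42, nat_lit 42, nat_lit 42]) (.node (nat_lit 30) (.leaf (nat_lit 11264) [nat_lit 84, nat_lit 168, nat_lit 105, nat_lit 105, nat_lit 168]) (.leaf (nat_lit 14343) [nat_lit 126, nat_lit 105, nat_lit 63, nat_lit 126, nat_lit 105, nat_lit 63, nat_lit 126, nat_lit 63, nat_lit 147])))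
noncomputable def r24 : WT := (.node (nat_lit 20) (.node (nat_lit 18) (.node (nat_lit 17) (.leaf (nat_lit 24592) [nat_lit 189, nat_lit 105, nat_lit 126, nat_lit 84, nat_lit 126, nat_lit 189, nat_lit 147, nat_lit 105, nat_lit 147]) (.leaf (nat_lit 20485) [nat_lit 42, nat_lit 168, nat_lit 63, nat_lit 105, nat_lit 63, nat_lit 63, nat_lit 63, nat_lit 168, nat_lit 63])) (.node (nat_lit 19) (.leaf (nat_lit 18449) [nat_lit 63, nat_lit 84, nat_lit 147, nat_lit 147, nat_lit 63, nat_lit 126, nat_lit 63, nat_lit 147, nat_lit 84]) (.leaf (nat_lit 17410) [nat_lit 126, nat_lit 42, nat_lit 147, nat_lit 42, nat_lit 147, nat_lit 84, nat_lit 84, nat_lit 126, nat_lit 42]))) (.node (nat_lit 23) (.node (nat_lit 21) (.leaf (nat_lit 16401) [nat_lit 63, nat_lit 168, nat_lit 147, nat_lit 84, nat_lit 168, nat_lit 42, nat_lit 147, nat_lit 168, nat_lit 126]) (.node (nat_lit 22) (.leaf (nat_lit 14338) [nat_lit 147, nat_lit 42, nat_lit 84, nat_lit 147, nat_lit 105, nat_lit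 126, nat_lit 42, nat_lit 147, nat_lit 42]) (.leaf (nat_lit 23558) [nat_lit 189, nat_lit 105, nat_lit 63, nat_lit 126, nat_lit 63, nat_lit 189, nat_lit 42, nat_lit 147, nat_lit 42]))) (.node (nat_lit 26) (.node (nat_lit 24) (.leaf (nat_lit 17422) [nat_lit 84, nat_lit 126, nat_lit 42, nat_lit 84, nat_lit 126, nat_lit 42, nat_lit 147, nat_lit 42, nat_lit 147]) r20) (.node (nat_lit 28) r22 r23))))
noncomputable def w2 : WT := (.node (nat_lit 1) (.leaf (nat_lit 1024) [nat_lit 105]) (.node (nat_lit 4) (.node (nat_lit 2) (.leaf (nat_lit 7168) [nat_lit 84, nat_lit 84, nat_lit 84]) (.node (nat_lit 3) (.leaf (nat_lit 8200) [nat_lit 42, nat_lit 84, nat_lit 63, nat_lit 147]) (.leaf (nat_lit 8194) [nat_lit 63, nat_lit 147, nat_lit 84, nat_lit 42]))) (.node (nat_lit 10) (.node (nat_lit 6) r16 r18) (.node (nat_lit 16) r19 r24))))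
noncomputable def r25 : WT := (.leaf (nat_lit 26629) [nat_lit 189, nat_lit 147, nat_lit 63, nat_lit 105, nat_lit 63, nat_lit 168, nat_lit 105, nat_lit 147, nat_lit 84, nat_lit 189, nat_lit 105, nat_lit 189, nat_lit 147, nat_lit 63, nat_lit 105, nat_lit 63, nat_lit 168, nat_lit 105, nat_lit 147, nat_lit 84, nat_lit 189])
noncomputable def r26 : WT := (.node (nat_lit 5) r25 (.node (nat_lit 6) (.leaf (nat_lit 14347) [nat_lit 63, nat_lit 126, nat_lit 105, nat_lit 63, nat_lit 126, nat_lit 63, nat_lit 147, nat_lit 84, nat_lit 126]) (.leaf (nat_lit 14348) [nat_lit 126, nat_lit 42, nat_lit 147, nat_lit 42, nat_lit 84, nat_lit 147, nat_lit 42, nat_lit 84, nat_lit 147])))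
noncomputable def r27 : WT := (.node (nat_lit 9) (.node (nat_lit 8) (.leaf (nat_lit 10243) [nat_lit 105, nat_lit 168, nat_lit 105, nat_lit 105, nat_lit 168]) (.leaf (nat_lit 10245) [nat_lit 168, nat_lit 105, nat_lit 105, nat_lit 168, nat_lit 105])) (.node (nat_lit 10) (.leaf (nat_lit 19465) [nat_lit 126, nat_lit 84, nat_lit 63, nat_lit 105, nat_lit 63, nat_lit 147, nat_lit 147, nat_lit 63, nat_lit 126]) (.leaf (nat_lit 24588) [nat_lit 147, nat_lit 84, nat_lit 189, nat_lit 105, nat_lit 126, nat_lit 84, nat_lit 126, nat_lit 189, nat_lit 147])))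
noncomputable def r28 : WT := (.node (nat_lit 14) (.node (nat_lit 12) (.leaf (nat_lit 22528) [nat_lit 168, nat_lit 84, nat_lit 189, nat_lit 105, nat_lit 168, nat_lit 84, nat_lit 189]) (.node (nat_lit 13) (.leaf (nat_lit 18450) [nat_lit 42, nat_lit 105, nat_lit 105, nat_lit 126, nat_lit 42, nat_lit 147, nat_lit 42, nat_lit 126, nat_lit 126]) (.leaf (nat_lit 23562) [nat_lit 63, nat_lit 126, nat_lit 63, nat_lit 189, nat_lit 42, nat_lit 147, nat_lit 42, nat_lit 84, nat_lit 189]))) (.node (nat_lit 16) (.node (nat_lit 15) (.leaf (nat_lit 17411) [nat_lit 105, nat_lit 126, nat_lit 63, nat_lit 126, nat_lit 63, nat_lit 147, nat_lit 105, nat_lit 63, nat_lit 147]) (.leaf (nat_lit 13318) [nat_lit 168, nat_lit 42, nat_lit 168, nat_lit 63, nat_lit 168, nat_lit 84, nat_lit 42, nat_lit 168, nat_lit 63])) (.node (nat_lit 17) (.leaf (nat_lit 16386) [nat_lit 147, nat_lit 168, nat_lit 126, nat_lit 63, nat_lit 168, nat_lit 105, nat_lit 126, nat_lit 168, nat_lit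 42]) (.leaf (nat_lit 19462) [nat_lit 147, nat_lit 84, nat_lit 147, nat_lit 42, nat_lit 126, nat_lit 126, nat_lit 42, nat_lit 84, nat_lit 42]))))
noncomputable def r29 : WT := (.leaf (nat_lit 26637) [nat_lit 63, nat_lit 168, nat_lit 105, nat_lit 147, nat_lit 84, nat_lit 189, nat_lit 105, nat_lit 189, nat_lit 147, nat_lit 63, nat_lit 105, nat_lit 63, nat_lit 168, nat_lit 105, nat_lit 147, nat_lit 84, nat_lit 189, nat_lit 105, nat_lit 189, nat_lit 147, nat_lit 63])
noncomputable def r30 : WT := (.leaf (nat_lit 26644) [nat_lit 126, nat_lit 84, nat_lit 168, nat_lit 42, nat_lit 84, nat_lit 42, nat_lit 126, nat_lit 189, nat_lit 84, nat_lit 189, nat_lit 105, nat_lit 126, nat_lit 84, nat_lit 168, nat_lit 42, nat_lit 84, nat_lit 42, nat_lit 126, nat_lit 189, nat_lit 84, nat_lit 189])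
noncomputable def r31 : WT := (.node (nat_lit 30) (.leaf (nat_lit 15365) [nat_lit 42, nat_lit 147, nat_lit 63, nat_lit 105, nat_lit 63, nat_lit 63, nat_lit 63, nat_lit 147, nat_lit 63]) r30)
noncomputable def r32 : WT := (.node (nat_lit 32) (.leaf (nat_lit 14353) [nat_lit 63, nat_lit 126, nat_lit 63, nat_lit 147, nat_lit 84, nat_lit 126, nat_lit 105, nat_lit 63, nat_lit 126]) (.leaf (nat_lit 11272) [nat_lit 168, nat_lit 84, nat_lit 84, nat_lit 168, nat_lit 105]))
noncomputable def r33 : WT := (.leaf (nat_lit 26643) [nat_lit 147, nat_lit 84, nat_lit 189, nat_lit 105, nat_lit 189, nat_lit 147, nat_lit 63, nat_lit 105, nat_lit 63, nat_lit 168, nat_lit 105, nat_lit 147, nat_lit 84, nat_lit 189, nat_lit 105, nat_lit 189, nat_lit 147, nat_lit 63, nat_lit 105, nat_lit 63, nat_lit 168])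
noncomputable def r34 : WT := (.node (nat_lit 34) (.leaf (nat_lit 11270) [nat_lit 105, nat_lit 168, nat_lit 84, nat_lit 84, nat_lit 168]) (.node (nat_lit 35) (.leaf (nat_lit 9225) [nat_lit 63, nat_lit 105, nat_lit 147, nat_lit 147, nat_lit 42]) r33))
noncomputable def r35 : WT := (.node (nat_lit 24) (.node (nat_lit 21) (.node (nat_lit 19) (.leaf (nat_lit 25607) [nat_lit 189, nat_lit 63, nat_lit 126, nat_lit 105, nat_lit 189, nat_lit 63, nat_lit 126, nat_lit 105, nat_lit 189, nat_lit 63, nat_lit 126]) (.node (nat_lit 20) (.leaf (nat_lit 16398) [nat_lit 126, nat_lit 168, nat_lit 42, nat_lit 105, nat_lit 147, nat_lit 168, nat_lit 126, nat_lit 63, nat_lit 168]) r29)) (.node (nat_lit 22) (.leaf (nat_lit 18434) [nat_lit 105, nat_lit 126, nat_lit 42, nat_lit 147, nat_lit 42, nat_lit 126, nat_lit 126, nat_lit 105, nat_lit 42]) (.node (nat_lit 23) (.leaf (nat_lit 17413) [nat_lit 126, nat_lit 63, nat_lit 126, nat_lit 63, nat_lit 147, nat_lit 105, nat_lit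 63, nat_lit 147, nat_lit 105]) (.leaf (nat_lit 18436) [nat_lit 126, nat_lit 42, nat_lit 147, nat_lit 42, nat_lit 126, nat_lit 126, nat_lit 105, nat_lit 42, nat_lit 105])))) (.node (nat_lit 28) (.node (nat_lit 26) (.node (nat_lit 25) (.leaf (nat_lit 20494) [nat_lit 42, nat_lit 168, nat_lit 42, nat_lit 42, nat_lit 42, nat_lit 84, nat_lit 42, nat_lit 168, nat_lit 63]) (.leaf (nat_lit 24576) [nat_lit 126, nat_lit 84, nat_lit 126, nat_lit 189, nat_lit 147, nat_lit 105, nat_lit 147, nat_lit 84, nat_lit 189])) (.node (nat_lit 27) (.leaf (nat_lit 9217) [nat_lit 147, nat_lit 147, nat_lit 42, nat_lit 105, nat_lit 63]) (.leaf (nat_lit 17425) [nat_lit 63, nat_lit 147, nat_lit 105, nat_lit 105, nat_lit 126, nat_lit 63, nat_lit 126, nat_lit 63, nat_lit 147]))) (.node (nat_lit 31) (.node (nat_lit 29) (.leaf (nat_lit 15373) [nat_lit 63, nat_lit 63, nat_lit 63, nat_lit 147, nat_lit 63, nat_lit 105, nat_lit 42, nat_lit 147, nat_lit 63]) r31) (.node (nat_lit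 33) r32 r34))))
noncomputable def w3 : WT := (.node (nat_lit 1) (.leaf (nat_lit 1026) [nat_lit 84]) (.node (nat_lit 4) (.node (nat_lit 2) (.leaf (nat_lit 7169) [nat_lit 105, nat_lit 105, nat_lit 105]) (.node (nat_lit 3) (.leaf (nat_lit 8199) [nat_lit 63, nat_lit 105, nat_lit 126, nat_lit 42]) (.leaf (nat_lit 8193) [nat_lit 126, nat_lit 42, nat_lit 105, nat_lit 63]))) (.node (nat_lit 11) (.node (nat_lit 7) r26 r27) (.node (nat_lit 18) r28 r35))))
noncomputable def r36 : WT := (.node (nat_lit 5) (.leaf (nat_lit 24582) [nat_lit 189, nat_lit 147, nat_lit 105, nat_lit 147, nat_lit 84, nat_lit 189, nat_lit 105, nat_lit 126, nat_lit 84]) (.leaf (nat_lit 15370) [nat_lit 63, nat_lit 84, nat_lit 42, nat_lit 126, nat_lit 42, nat_lit 42, nat_lit 42, nat_lit 84, nat_lit 42]))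
noncomputable def r37 : WT := (.node (nat_lit 8) (.node (nat_lit 7) (.leaf (nat_lit 9222) [nat_lit 126, nat_lit 84, nat_lit 42, nat_lit 84, nat_lit 63]) (.leaf (nat_lit 12288) [nat_lit 168, nat_lit 126, nat_lit 168, nat_lit 126, nat_lit 168])) (.node (nat_lit 9) (.leaf (nat_lit 14351) [nat_lit 105, nat_lit 63, nat_lit 126, nat_lit 63, nat_lit 147, nat_lit 84, nat_lit 126, nat_lit 105, nat_lit 63]) (.leaf (nat_lit 19467) [nat_lit 84, nat_lit 63, nat_lit 105, nat_lit 63, nat_lit 147, nat_lit 147, nat_lit 63, nat_lit 126, nat_lit 105])))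
noncomputable def r38 : WT := (.node (nat_lit 12) (.node (nat_lit 11) (.leaf (nat_lit 17419) [nat_lit 63, nat_lit 147, nat_lit 105, nat_lit 63, nat_lit 147, nat_lit 105, nat_lit 105, nat_lit 126, nat_lit 63]) (.leaf (nat_lit 23566) [nat_lit 63, nat_lit 189, nat_lit 42, nat_lit 147, nat_lit 42, nat_lit 84, nat_lit 189, nat_lit 105, nat_lit 63])) (.node (nat_lit 13) (.leaf (nat_lit 17426) [nat_lit 42, nat_lit 84, nat_lit 126, nat_lit 42, nat_lit 147, nat_lit 42, nat_lit 147, nat_lit 84, nat_lit 84]) (.node (nat_lit 14) (.leaf (nat_lit 17412) [nat_lit 42, nat_lit 147, nat_lit 42, nat_lit 147, nat_lit 84, nat_lit 84, nat_lit 126, nat_lit 42, nat_lit 84]) (.leaf (nat_lit 25605) [nat_lit 105, nat_lit 189, nat_lit 63, nat_lit 126, nat_lit 105, nat_lit 189, nat_lit 63, nat_lit 126, nat_lit 105, nat_lit 189, nat_lit 63]))))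
noncomputable def r39 : WT := (.node (nat_lit 24) (.leaf (nat_lit 19472) [nat_lit 126, nat_lit 42, nat_lit 84, nat_lit 42, nat_lit 105, nat_lit 147, nat_lit 84, nat_lit 147, nat_lit 42]) (.leaf (nat_lit 14350) [nat_lit 42, nat_lit 147, nat_lit 42, nat_lit 84, nat_lit 147, nat_lit 42, nat_lit 84, nat_lit 147, nat_lit 105]))
noncomputable def r40 : WT := (.leaf (nat_lit 26636) [nat_lit 189, nat_lit 84, nat_lit 189, nat_lit 105, nat_lit 126, nat_lit 84, nat_lit 168, nat_lit 42, nat_lit 84, nat_lit 42, nat_lit 126, nat_lit 189, nat_lit 84, nat_lit 189, nat_lit 105, nat_lit 126, nat_lit 84, nat_lit 168, nat_lit 42, nat_lit 84, nat_lit 42])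
noncomputable def r41 : WT := (.node (nat_lit 26) r40 (.leaf (nat_lit 16399) [nat_lit 84, nat_lit 63, nat_lit 168, nat_lit 147, nat_lit 84, nat_lit 168, nat_lit 42, nat_lit 147, nat_lit 168]))
noncomputable def r42 : WT := (.node (nat_lit 28) (.leaf (nat_lit 18448) [nat_lit 105, nat_lit 42, nat_lit 105, nat_lit 105, nat_lit 126, nat_lit 42, nat_lit 147, nat_lit 42, nat_lit 126]) (.leaf (nat_lit 16392) [nat_lit 63, nat_lit 168, nat_lit 105, nat_lit 126, nat_lit 168, nat_lit 42, nat_lit 105, nat_lit 147, nat_lit 168]))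
noncomputable def r43 : WT := (.node (nat_lit 19) (.node (nat_lit 17) (.node (nat_lit 16) (.leaf (nat_lit 24578) [nat_lit 84, nat_lit 126, nat_lit 189, nat_lit 147, nat_lit 105, nat_lit 147, nat_lit 84, nat_lit 189, nat_lit 105]) (.leaf (nat_lit 16400) [nat_lit 168, nat_lit 42, nat_lit 105, nat_lit 147, nat_lit 168, nat_lit 126, nat_lit 63, nat_lit 168, nat_lit 105])) (.node (nat_lit 18) (.leaf (nat_lit 18446) [nat_lit 126, nat_lit 105, nat_lit 42, nat_lit 105, nat_lit 105, nat_lit 126, nat_lit 42, nat_lit 147, nat_lit 42]) (.leaf (nat_lit 15378) [nat_lit 42, nat_lit 42, nat_lit 42, nat_lit 84, nat_lit 42, nat_lit 126, nat_lit 63, nat_lit 84, nat_lit 42]))) (.node (nat_lit 22) (.node (nat_lit 20) (.leaf (nat_lit 14337) [nat_lit 63, nat_lit 147, nat_lit 84, nat_lit 126, nat_lit 105, nat_lit 63, nat_lit 126, nat_lit 105, nat_lit 63]) (.node (nat_lit 21) (.leaf (nat_lit 18441) [nat_lit 63, nat_lit 147, nat_lit 84, nat_lit 84, nat_lit 63, nat_lit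 84, nat_lit 147, nat_lit 147, nat_lit 63]) (.leaf (nat_lit 19463) [nat_lit 105, nat_lit 126, nat_lit 84, nat_lit 63, nat_lit 105, nat_lit 63, nat_lit 147, nat_lit 147, nat_lit 63]))) (.node (nat_lit 25) (.node (nat_lit 23) (.leaf (nat_lit 17415) [nat_lit 63, nat_lit 126, nat_lit 63, nat_lit 147, nat_lit 105, nat_lit 63, nat_lit 147, nat_lit 105, nat_lit 105]) r39) (.node (nat_lit 27) r41 r42))))
noncomputable def w4 : WT := (.node (nat_lit 1) (.leaf (nat_lit 2048) [nat_lit 147]) (.node (nat_lit 4) (.node (nat_lit 2) (.leaf (nat_lit 5120) [nat_lit 126, nat_lit 126]) (.node (nat_lit 3) (.leaf (nat_lit 8195) [nat_lit 42, nat_lit 105, nat_lit 63, nat_lit 105]) (.leaf (nat_lit 14345) [nat_lit 105, nat_lit 63, nat_lit 126, nat_lit 105, nat_lit 63, nat_lit 126, nat_lit 63, nat_lit 147, nat_lit 84]))) (.node (nat_lit 10) (.node (nat_lit 6) r36 r37) (.node (nat_lit 15) r38 r43))))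
noncomputable def r44 : WT := (.node (nat_lit 4) (.leaf (nat_lit 14340) [nat_lit 42, nat_lit 84, nat_lit 147, nat_lit 105, nat_lit 126, nat_lit 42, nat_lit 147, nat_lit 42, nat_lit 84]) (.leaf (nat_lit 24586) [nat_lit 105, nat_lit 147, nat_lit 84, nat_lit 189, nat_lit 105, nat_lit 126, nat_lit 84, nat_lit 126, nat_lit 189]))
noncomputable def r45 : WT := (.node (nat_lit 7) (.node (nat_lit 6) (.leaf (nat_lit 9219) [nat_lit 147, nat_lit 42, nat_lit 105, nat_lit 63, nat_lit 105]) (.leaf (nat_lit 14354) [nat_lit 42, nat_lit 84, nat_lit 147, nat_lit 42, nat_lit 84, nat_lit 147, nat_lit 105, nat_lit 126, nat_lit 42])) (.node (nat_lit 8) (.leaf (nat_lit 12291) [nat_lit 168, nat_lit 147, nat_lit 168, nat_lit 147, nat_lit 168]) (.leaf (nat_lit 24590) [nat_lit 84, nat_lit 189, nat_lit 105, nat_lit 126, nat_lit 84, nat_lit 126, nat_lit 189, nat_lit 147, nat_lit 105])))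
noncomputable def r46 : WT := (.node (nat_lit 12) (.node (nat_lit 10) (.leaf (nat_lit 17420) [nat_lit 84, nat_lit 84, nat_lit 126, nat_lit 42, nat_lit 84, nat_lit 126, nat_lit 42, nat_lit 147, nat_lit 42]) (.node (nat_lit 11) (.leaf (nat_lit 19468) [nat_lit 42, nat_lit 126, nat_lit 126, nat_lit 42, nat_lit 84, nat_lit 42, nat_lit 105, nat_lit 147, nat_lit 84]) (.leaf (nat_lit 14346) [nat_lit 105, nat_lit 126, nat_lit 42, nat_lit 147, nat_lit 42, nat_lit 84, nat_lit 147, nat_lit 42, nat_lit 84]))) (.node (nat_lit 13) (.leaf (nat_lit 19464) [nat_lit 84, nat_lit 147, nat_lit 42, nat_lit 126, nat_lit 126, nat_lit 42, nat_lit 84, nat_lit 42, nat_lit 105]) (.node (nat_lit 14) (.leaf (nat_lit 18435) [nat_lit 147, nat_lit 63, nat_lit 126, nat_lit 63, nat_lit 147, nat_lit 84, nat_lit 84, nat_lit 63, nat_lit 84]) (.leaf (nat_lit 17416) [nat_lit 42, nat_lit 147, nat_lit 84, nat_lit 84, nat_lit 126, nat_lit 42, nat_lit 84, nat_lit 126, nat_lit 42]))))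
noncomputable def r47 : WT := (.leaf (nat_lit 26633) [nat_lit 63, nat_lit 105, nat_lit 63, nat_lit 168, nat_lit 105, nat_lit 147, nat_lit 84, nat_lit 189, nat_lit 105, nat_lit 189, nat_lit 147, nat_lit 63, nat_lit 105, nat_lit 63, nat_lit 168, nat_lit 105, nat_lit 147, nat_lit 84, nat_lit 189, nat_lit 105, nat_lit 189])
noncomputable def r48 : WT := (.node (nat_lit 26) r47 (.leaf (nat_lit 17409) [nat_lit 105, nat_lit 105, nat_lit 126, nat_lit 63, nat_lit 126, nat_lit 63, nat_lit 147, nat_lit 105, nat_lit 63]))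
noncomputable def r49 : WT := (.node (nat_lit 28) (.leaf (nat_lit 18445) [nat_lit 84, nat_lit 84, nat_lit 63, nat_lit 84, nat_lit 147, nat_lit 147, nat_lit 63, nat_lit 126, nat_lit 63]) (.leaf (nat_lit 18442) [nat_lit 42, nat_lit 126, nat_lit 126, nat_lit 105, nat_lit 42, nat_lit 105, nat_lit 105, nat_lit 126, nat_lit 42]))
noncomputable def r50 : WT := (.leaf (nat_lit 26645) [nat_lit 84, nat_lit 189, nat_lit 105, nat_lit 189, nat_lit 147, nat_lit 63, nat_lit 105, nat_lit 63, nat_lit 168, nat_lit 105, nat_lit 147, nat_lit 84, nat_lit 189, nat_lit 105, nat_lit 189, nat_lit 147, nat_lit 63, nat_lit 105, nat_lit 63, nat_lit 168, nat_lit 105])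
noncomputable def r51 : WT := (.node (nat_lit 30) (.leaf (nat_lit 19459) [nat_lit 63, nat_lit 126, nat_lit 105, nat_lit 126, nat_lit 84, nat_lit 63, nat_lit 105, nat_lit 63, nat_lit 147]) (.node (nat_lit 31) (.leaf (nat_lit 19457) [nat_lit 147, nat_lit 63, nat_lit 126, nat_lit 105, nat_lit 126, nat_lit 84, nat_lit 63, nat_lit 105, nat_lit 63]) r50))
noncomputable def r52 : WT := (.node (nat_lit 20) (.node (nat_lit 17) (.node (nat_lit 16) (.leaf (nat_lit 17423) [nat_lit 105, nat_lit 63, nat_lit 147, nat_lit 105, nat_lit 105, nat_lit 126, nat_lit 63, nat_lit 126, nat_lit 63]) (.leaf (nat_lit 15369) [nat_lit 63, nat_lit 105, nat_lit 63, nat_lit 63, nat_lit 63, nat_lit 147, nat_lit 63, nat_lit 105, nat_lit 42])) (.node (nat_lit 18) (.leaf (nat_lit 15361) [nat_lit 63, nat_lit 105, nat_lit 42, nat_lit 147, nat_lit 63, nat_lit 105, nat_lit 63, nat_lit 63, nat_lit 63]) (.node (nat_lit 19) (.leaf (nat_lit 23554) [nat_lit 42, nat_lit 84, nat_lit 189,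 nat_lit 105, nat_lit 63, nat_lit 126, nat_lit 63, nat_lit 189, nat_lit 42]) (.leaf (nat_lit 18437) [nat_lit 63, nat_lit 126, nat_lit 63, nat_lit 147, nat_lit 84, nat_lit 84, nat_lit 63, nat_lit 84, nat_lit 147])))) (.node (nat_lit 24) (.node (nat_lit 22) (.node (nat_lit 21) (.leaf (nat_lit 25602) [nat_lit 42, nat_lit 189, nat_lit 84, nat_lit 147, nat_lit 42, nat_lit 189, nat_lit 84, nat_lit 147, nat_lit 42, nat_lit 189, nat_lit 84]) (.leaf (nat_lit 16395) [nat_lit 168, nat_lit 126, nat_lit 84, nat_lit 63, nat_lit 168, nat_lit 147, nat_lit 84, nat_lit 168, nat_lit 42])) (.node (nat_lit 23) (.leaf (nat_lit 16388) [nat_lit 168, nat_lit 126, nat_lit 63, nat_lit 168, nat_lit 105, nat_lit 126, nat_lit 168, nat_lit 42, nat_lit 105]) (.leaf (nat_lit 14341) [nat_lit 84, nat_lit 126, nat_lit 105, nat_lit 63, nat_lit 126, nat_lit 105, nat_lit 63, nat_lit 126, nat_lit 63]))) (.node (nat_lit 27) (.node (nat_lit 25) (.leaf (nat_lit 16387) [nat_lit 84, nat_lit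 168, nat_lit 42, nat_lit 147, nat_lit 168, nat_lit 126, nat_lit 84, nat_lit 63, nat_lit 168]) r48) (.node (nat_lit 29) r49 r51))))
noncomputable def w5 : WT := (.node (nat_lit 1) (.leaf (nat_lit 2050) [nat_lit 126]) (.node (nat_lit 3) (.node (nat_lit 2) (.leaf (nat_lit 5121) [nat_lit 147, nat_lit 147]) (.leaf (nat_lit 8198) [nat_lit 84, nat_lit 42, nat_lit 84, nat_lit 63])) (.node (nat_lit 9) (.node (nat_lit 5) r44 r45) (.node (nat_lit 15) r46 r52))))
noncomputable def r53 : WT := (.node (nat_lit 8) (.leaf (nat_lit 11268) [nat_lit 105, nat_lit 105, nat_lit 168, nat_lit 84, nat_lit 84]) (.leaf (nat_lit 16396) [nat_lit 105, nat_lit 126, nat_lit 168, nat_lit 42, nat_lit 105, nat_lit 147, nat_lit 168, nat_lit 126, nat_lit 63]))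
noncomputable def r54 : WT := (.node (nat_lit 10) (.leaf (nat_lit 13314) [nat_lit 63, nat_lit 105, nat_lit 168, nat_lit 42, nat_lit 168, nat_lit 63, nat_lit 168, nat_lit 84, nat_lit 42]) (.leaf (nat_lit 16402) [nat_lit 42, nat_lit 105, nat_lit 147, nat_lit 168, nat_lit 126, nat_lit 63, nat_lit 168, nat_lit 105, nat_lit 126]))
noncomputable def r55 : WT := (.node (nat_lit 12) (.leaf (nat_lit 13324) [nat_lit 63, nat_lit 168, nat_lit 84, nat_lit 42, nat_lit 168, nat_lit 63, nat_lit 105, nat_lit 168, nat_lit 42]) (.leaf (nat_lit 16390) [nat_lit 126, nat_lit 63, nat_lit 168, nat_lit 105, nat_lit 126, nat_lit 168, nat_lit 42, nat_lit 105, nat_lit 147]))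
noncomputable def r56 : WT := (.node (nat_lit 14) (.leaf (nat_lit 16391) [nat_lit 42, nat_lit 147, nat_lit 168, nat_lit 126, nat_lit 84, nat_lit 63, nat_lit 168, nat_lit 147, nat_lit 84]) (.node (nat_lit 15) (.leaf (nat_lit 11274) [nat_lit 84, nat_lit 84, nat_lit 168, nat_lit 105, nat_lit 105]) (.leaf (nat_lit 16385) [nat_lit 147, nat_lit 84, nat_lit 168, nat_lit 42, nat_lit 147, nat_lit 168, nat_lit 126, nat_lit 84, nat_lit 63])))
noncomputable def r57 : WT := (.leaf (nat_lit 26628) [nat_lit 42, nat_lit 84, nat_lit 42, nat_lit 126, nat_lit 189, nat_lit 84, nat_lit 189, nat_lit 105, nat_lit 126, nat_lit 84, nat_lit 168, nat_lit 42, nat_lit 84, nat_lit 42, nat_lit 126, nat_lit 189, nat_lit 84, nat_lit 189, nat_lit 105, nat_lit 126, nat_lit 84])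
noncomputable def r58 : WT := (.leaf (nat_lit 26641) [nat_lit 105, nat_lit 147, nat_lit 84, nat_lit 189, nat_lit 105, nat_lit 189, nat_lit 147, nat_lit 63, nat_lit 105, nat_lit 63, nat_lit 168, nat_lit 105, nat_lit 147, nat_lit 84, nat_lit 189, nat_lit 105, nat_lit 189, nat_lit 147, nat_lit 63, nat_lit 105, nat_lit 63])
noncomputable def r59 : WT := (.node (nat_lit 19) (.node (nat_lit 17) (.leaf (nat_lit 20490) [nat_lit 63, nat_lit 105, nat_lit 42, nat_lit 168, nat_lit 42, nat_lit 42, nat_lit 42, nat_lit 84, nat_lit 42]) (.node (nat_lit 18) (.leaf (nat_lit 20498) [nat_lit 42, nat_lit 42, nat_lit 42, nat_lit 84, nat_lit 42, nat_lit 168, nat_lit 63, nat_lit 105, nat_lit 42]) (.leaf (nat_lit 16397) [nat_lit 126, nat_lit 84, nat_lit 63, nat_lit 168, nat_lit 147, nat_lit 84, nat_lit 168, nat_lit 42, nat_lit 147]))) (.node (nat_lit 21) (.node (nat_lit 20) (.leaf (nat_lit 20481) [nat_lit 63, nat_lit 84, nat_lit 42, nat_lit 168, nat_lit 63, nat_lit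 105, nat_lit 63, nat_lit 63, nat_lit 63]) (.leaf (nat_lit 13328) [nat_lit 84, nat_lit 42, nat_lit 168, nat_lit 63, nat_lit 105, nat_lit 168, nat_lit 42, nat_lit 168, nat_lit 63])) (.node (nat_lit 23) (.node (nat_lit 22) r57 (.leaf (nat_lit 13320) [nat_lit 42, nat_lit 168, nat_lit 63, nat_lit 168, nat_lit 84, nat_lit 42, nat_lit 168, nat_lit 63, nat_lit 105])) (.node (nat_lit 24) (.leaf (nat_lit 20489) [nat_lit 63, nat_lit 105, nat_lit 63, nat_lit 63, nat_lit 63, nat_lit 168, nat_lit 63, nat_lit 84, nat_lit 42]) r58))))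
noncomputable def w6 : WT := (.node (nat_lit 4) (.node (nat_lit 1) (.leaf (nat_lit 3072) [nat_lit 168]) (.node (nat_lit 2) (.leaf (nat_lit 21506) [nat_lit 63, nat_lit 189, nat_lit 42, nat_lit 168, nat_lit 63, nat_lit 189, nat_lit 42]) (.node (nat_lit 3) (.leaf (nat_lit 12290) [nat_lit 126, nat_lit 168, nat_lit 126, nat_lit 168, nat_lit 126]) (.leaf (nat_lit 10244) [nat_lit 84, nat_lit 84, nat_lit 168, nat_lit 84, nat_lit 84])))) (.node (nat_lit 9) (.node (nat_lit 6) (.node (nat_lit 5) (.leaf (nat_lit 12289) [nat_lit 147, nat_lit 168, nat_lit 147, nat_lit 168, nat_lit 147]) (.leaf (nat_lit 22530) [nat_lit 84, nat_lit 189, nat_lit 105, nat_lit 168, nat_lit 84, nat_lit 189, nat_lit 105])) (.node (nat_lit 7) (.leaf (nat_lit 10241) [nat_lit 105, nat_lit 105, nat_lit 168, nat_lit 105, nat_lit 105]) r53)) (.node (nat_lit 13) (.node (nat_lit 11) r54 r55) (.node (nat_lit 16) r56 r59))))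
noncomputable def r60 : WT := (.node (nat_lit 7) (.leaf (nat_lit 25601) [nat_lit 63, nat_lit 126, nat_lit 105, nat_lit 189, nat_lit 63, nat_lit 126, nat_lit 105, nat_lit 189, nat_lit 63, nat_lit 126, nat_lit 105]) (.leaf (nat_lit 22534) [nat_lit 105, nat_lit 168, nat_lit 84, nat_lit 189, nat_lit 105, nat_lit 168, nat_lit 84]))
noncomputable def r61 : WT := (.leaf (nat_lit 26642) [nat_lit 105, nat_lit 126, nat_lit 84, nat_lit 168, nat_lit 42, nat_lit 84, nat_lit 42, nat_lit 126, nat_lit 189, nat_lit 84, nat_lit 189, nat_lit 105, nat_lit 126, nat_lit 84, nat_lit 168, nat_lit 42, nat_lit 84, nat_lit 42, nat_lit 126, nat_lit 189, nat_lit 84])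
noncomputable def r62 : WT := (.node (nat_lit 9) (.leaf (nat_lit 24594) [nat_lit 105, nat_lit 126, nat_lit 84, nat_lit 126, nat_lit 189, nat_lit 147, nat_lit 105, nat_lit 147, nat_lit 84]) r61)
noncomputable def r63 : WT := (.leaf (nat_lit 26638) [nat_lit 84, nat_lit 189, nat_lit 105, nat_lit 126, nat_lit 84, nat_lit 168, nat_lit 42, nat_lit 84, nat_lit 42, nat_lit 126, nat_lit 189, nat_lit 84, nat_lit 189, nat_lit 105, nat_lit 126, nat_lit 84, nat_lit 168, nat_lit 42, nat_lit 84, nat_lit 42, nat_lit 126])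
noncomputable def r64 : WT := (.leaf (nat_lit 26631) [nat_lit 147, nat_lit 63, nat_lit 105, nat_lit 63, nat_lit 168, nat_lit 105, nat_lit 147, nat_lit 84, nat_lit 189, nat_lit 105, nat_lit 189, nat_lit 147, nat_lit 63, nat_lit 105, nat_lit 63, nat_lit 168, nat_lit 105, nat_lit 147, nat_lit 84, nat_lit 189, nat_lit 105])
noncomputable def r65 : WT := (.leaf (nat_lit 26627) [nat_lit 105, nat_lit 189, nat_lit 147, nat_lit 63, nat_lit 105, nat_lit 63, nat_lit 168, nat_lit 105, nat_lit 147, nat_lit 84, nat_lit 189, nat_lit 105, nat_lit 189, nat_lit 147, nat_lit 63, nat_lit 105, nat_lit 63, nat_lit 168, nat_lit 105, nat_lit 147, nat_lit 84])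
noncomputable def r66 : WT := (.node (nat_lit 11) r63 (.node (nat_lit 12) r64 r65))
noncomputable def w7 : WT := (.node (nat_lit 1) (.leaf (nat_lit 4096) [nat_lit 189]) (.node (nat_lit 5) (.node (nat_lit 3) (.node (nat_lit 2) (.leaf (nat_lit 24584) [nat_lit 147, nat_lit 105, nat_lit 147, nat_lit 84, nat_lit 189, nat_lit 105, nat_lit 126, nat_lit 84, nat_lit 126]) (.leaf (nat_lit 23570) [nat_lit 42, nat_lit 147, nat_lit 42, nat_lit 84, nat_lit 189, nat_lit 105, nat_lit 63, nat_lit 126, nat_lit 63])) (.node (nat_lit 4) (.leaf (nat_lit 23560) [nat_lit 105, nat_lit 63, nat_lit 126, nat_lit 63, nat_lit 189, nat_lit 42, nat_lit 147, nat_lit 42, nat_lit 84]) (.leaf (nat_lit 21510) [nat_lit 42, nat_lit 168, nat_lit 63, nat_lit 189, nat_lit 42, nat_lit 168, nat_lit 63]))) (.node (nat_lit 8) (.node (nat_lit 6) (.leaf (nat_lit 25606) [nat_lit 84, nat_lit 147, nat_lit 42, nat_lit 189, nat_lit 84, nat_lit 147, nat_lit 42, nat_lit 189, nat_lit 84, nat_lit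 147, nat_lit 42]) r60) (.node (nat_lit 10) r62 r66))))
noncomputable def r67 : WT := (.leaf (nat_lit 26631) [nat_lit 189, nat_lit 147, nat_lit 63, nat_lit 105, nat_lit 63, nat_lit 168, nat_lit 105, nat_lit 147, nat_lit 84, nat_lit 189, nat_lit 105, nat_lit 189, nat_lit 147, nat_lit 63, nat_lit 105, nat_lit 63, nat_lit 168, nat_lit 105, nat_lit 147, nat_lit 84, nat_lit 189, nat_lit 105])
noncomputable def r68 : WT := (.node (nat_lit 6) r67 (.leaf (nat_lit 22534) [nat_lit 189, nat_lit 105, nat_lit 168, nat_lit 84, nat_lit 189, nat_lit 105, nat_lit 168, nat_lit 84]))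
noncomputable def r69 : WT := (.leaf (nat_lit 26629) [nat_lit 105, nat_lit 189, nat_lit 147, nat_lit 63, nat_lit 105, nat_lit 63, nat_lit 168, nat_lit 105, nat_lit 147, nat_lit 84, nat_lit 189, nat_lit 105, nat_lit 189, nat_lit 147, nat_lit 63, nat_lit 105, nat_lit 63, nat_lit 168, nat_lit 105, nat_lit 147, nat_lit 84, nat_lit 189])
noncomputable def r70 : WT := (.node (nat_lit 8) (.leaf (nat_lit 16384) [nat_lit 42, nat_lit 105, nat_lit 147, nat_lit 168, nat_lit 126, nat_lit 63, nat_lit 168, nat_lit 105, nat_lit 126, nat_lit 168]) r69)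
noncomputable def r71 : WT := (.node (nat_lit 10) (.leaf (nat_lit 22532) [nat_lit 84, nat_lit 189, nat_lit 105, nat_lit 168, nat_lit 84, nat_lit 189, nat_lit 105, nat_lit 168]) (.node (nat_lit 11) (.leaf (nat_lit 25600) [nat_lit 84, nat_lit 147, nat_lit 42, nat_lit 189, nat_lit 84, nat_lit 147, nat_lit 42, nat_lit 189, nat_lit 84, nat_lit 147, nat_lit 42, nat_lit 189]) (.leaf (nat_lit 10240) [nat_lit 84, nat_lit 84, nat_lit 168, nat_lit 84, nat_lit 84, nat_lit 168])))
noncomputable def r72 : WT := (.leaf (nat_lit 26642) [nat_lit 189, nat_lit 105, nat_lit 126, nat_lit 84, nat_lit 168, nat_lit 42, nat_lit 84, nat_lit 42, nat_lit 126, nat_lit 189, nat_lit 84, nat_lit 189, nat_lit 105, nat_lit 126, nat_lit 84, nat_lit 168, nat_lit 42, nat_lit 84, nat_lit 42, nat_lit 126, nat_lit 189, nat_lit 84])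
noncomputable def r73 : WT := (.node (nat_lit 14) (.node (nat_lit 13) (.leaf (nat_lit 19463) [nat_lit 126, nat_lit 105, nat_lit 126, nat_lit 84, nat_lit 63, nat_lit 105, nat_lit 63, nat_lit 147, nat_lit 147, nat_lit 63]) (.leaf (nat_lit 15366) [nat_lit 84, nat_lit 42, nat_lit 126, nat_lit 63, nat_lit 84, nat_lit 42, nat_lit 126, nat_lit 42, nat_lit 42, nat_lit 42])) (.node (nat_lit 15) (.leaf (nat_lit 25601) [nat_lit 189, nat_lit 63, nat_lit 126, nat_lit 105, nat_lit 189, nat_lit 63, nat_lit 126, nat_lit 105, nat_lit 189, nat_lit 63, nat_lit 126, nat_lit 105]) r72))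
noncomputable def r74 : WT := (.node (nat_lit 18) (.node (nat_lit 17) (.leaf (nat_lit 21510) [nat_lit 189, nat_lit 42, nat_lit 168, nat_lit 63, nat_lit 189, nat_lit 42, nat_lit 168, nat_lit 63]) (.leaf (nat_lit 19473) [nat_lit 105, nat_lit 63, nat_lit 147, nat_lit 147, nat_lit 63, nat_lit 126, nat_lit 105, nat_lit 126, nat_lit 84, nat_lit 63])) (.node (nat_lit 20) (.node (nat_lit 19) (.leaf (nat_lit 20480) [nat_lit 42, nat_lit 42, nat_lit 42, nat_lit 84, nat_lit 42, nat_lit 168, nat_lit 63, nat_lit 105, nat_lit 42, nat_lit 168]) (.leaf (nat_lit 19465) [nat_lit 105, nat_lit 126, nat_lit 84, nat_lit 63, nat_lit 105, nat_lit 63, nat_lit 147, nat_lit 147, nat_lit 63, nat_lit 126])) (.leaf (nat_lit 20484) [nat_lit 42, nat_lit 84, nat_lit 42, nat_lit 168, nat_lit 63, nat_lit 105, nat_lit 42, nat_lit 168, nat_lit 42, nat_lit 42])))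
noncomputable def r75 : WT := (.node (nat_lit 24) (.node (nat_lit 22) (.leaf (nat_lit 23552) [nat_lit 42, nat_lit 147, nat_lit 42, nat_lit 84, nat_lit 189, nat_lit 105, nat_lit 63, nat_lit 126, nat_lit 63, nat_lit 189]) (.node (nat_lit 23) (.leaf (nat_lit 23554) [nat_lit 147, nat_lit 42, nat_lit 84, nat_lit 189, nat_lit 105, nat_lit 63, nat_lit 126, nat_lit 63, nat_lit 189, nat_lit 42]) (.leaf (nat_lit 24586) [nat_lit 147, nat_lit 105, nat_lit 147, nat_lit 84, nat_lit 189, nat_lit 105, nat_lit 126, nat_lit 84, nat_lit 126, nat_lit 189]))) (.node (nat_lit 25) (.leaf (nat_lit 8199) [nat_lit 105, nat_lit 63, nat_lit 105, nat_lit 126, nat_lit 42]) (.node (nat_lit 26) (.leaf (nat_lit 23562) [nat_lit 105, nat_lit 63, nat_lit 126, nat_lit 63, nat_lit 189, nat_lit 42, nat_lit 147, nat_lit 42, nat_lit 84, nat_lit 189]) (.leaf (nat_lit 23564) [nat_lit 63, nat_lit 126, nat_lit 63, nat_lit 189, nat_lit 42, nat_lit 147, nat_lit 42, nat_lit 84, nat_lit 189,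 nat_lit 105]))))
noncomputable def r76 : WT := (.leaf (nat_lit 26630) [nat_lit 42, nat_lit 84, nat_lit 42, nat_lit 126, nat_lit 189, nat_lit 84, nat_lit 189, nat_lit 105, nat_lit 126, nat_lit 84, nat_lit 168, nat_lit 42, nat_lit 84, nat_lit 42, nat_lit 126, nat_lit 189, nat_lit 84, nat_lit 189, nat_lit 105, nat_lit 126, nat_lit 84, nat_lit 168])
noncomputable def r77 : WT := (.node (nat_lit 30) (.node (nat_lit 28) (.leaf (nat_lit 8197) [nat_lit 42, nat_lit 105, nat_lit 63, nat_lit 105, nat_lit 126]) (.node (nat_lit 29) (.leaf (nat_lit 8193) [nat_lit 105, nat_lit 126, nat_lit 42, nat_lit 105, nat_lit 63]) (.leaf (nat_lit 19470) [nat_lit 42, nat_lit 126, nat_lit 126, nat_lit 42, nat_lit 84, nat_lit 42, nat_lit 105, nat_lit 147, nat_lit 84, nat_lit 147]))) (.node (nat_lit 32) (.node (nat_lit 31) (.leaf (nat_lit 8198) [nat_lit 147, nat_lit 84, nat_lit 42, nat_lit 84, nat_lit 63]) (.leaf (nat_lit 25606) [nat_lit 189, nat_lit 84, nat_lit 147, nat_lit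 42, nat_lit 189, nat_lit 84, nat_lit 147, nat_lit 42, nat_lit 189, nat_lit 84, nat_lit 147, nat_lit 42])) (.node (nat_lit 33) (.leaf (nat_lit 25603) [nat_lit 63, nat_lit 126, nat_lit 105, nat_lit 189, nat_lit 63, nat_lit 126, nat_lit 105, nat_lit 189, nat_lit 63, nat_lit 126, nat_lit 105, nat_lit 189]) r76)))
noncomputable def r78 : WT := (.leaf (nat_lit 26627) [nat_lit 189, nat_lit 105, nat_lit 189, nat_lit 147, nat_lit 63, nat_lit 105, nat_lit 63, nat_lit 168, nat_lit 105, nat_lit 147, nat_lit 84, nat_lit 189, nat_lit 105, nat_lit 189, nat_lit 147, nat_lit 63, nat_lit 105, nat_lit 63, nat_lit 168, nat_lit 105, nat_lit 147, nat_lit 84])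
noncomputable def r79 : WT := (.node (nat_lit 37) (.node (nat_lit 35) r78 (.node (nat_lit 36) (.leaf (nat_lit 8192) [nat_lit 42, nat_lit 84, nat_lit 63, nat_lit 147, nat_lit 84]) (.leaf (nat_lit 15369) [nat_lit 147, nat_lit 63, nat_lit 105, nat_lit 63, nat_lit 63, nat_lit 63, nat_lit 147, nat_lit 63, nat_lit 105, nat_lit 42]))) (.node (nat_lit 38) (.leaf (nat_lit 12291) [nat_lit 147, nat_lit 168, nat_lit 147, nat_lit 168, nat_lit 147, nat_lit 168]) (.node (nat_lit 39) (.leaf (nat_lit 21504) [nat_lit 42, nat_lit 168, nat_lit 63, nat_lit 189, nat_lit 42, nat_lit 168, nat_lit 63, nat_lit 189]) (.leaf (nat_lit 8201) [nat_lit 63, nat_lit 105, nat_lit 126, nat_lit 42, nat_lit 105]))))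
noncomputable def r80 : WT := (.node (nat_lit 43) (.node (nat_lit 41) (.leaf (nat_lit 13312) [nat_lit 42, nat_lit 168, nat_lit 63, nat_lit 105, nat_lit 168, nat_lit 42, nat_lit 168, nat_lit 63, nat_lit 168, nat_lit 84]) (.node (nat_lit 42) (.leaf (nat_lit 13316) [nat_lit 63, nat_lit 105, nat_lit 168, nat_lit 42, nat_lit 168, nat_lit 63, nat_lit 168, nat_lit 84, nat_lit 42, nat_lit 168]) (.leaf (nat_lit 13326) [nat_lit 63, nat_lit 168, nat_lit 84, nat_lit 42, nat_lit 168, nat_lit 63, nat_lit 105, nat_lit 168, nat_lit 42, nat_lit 168]))) (.node (nat_lit 45) (.node (nat_lit 44) (.leaf (nat_lit 14349) [nat_lit 63, nat_lit 126, nat_lit 105, nat_lit 63, nat_lit 126, nat_lit 63, nat_lit 147, nat_lit 84, nat_lit 126, nat_lit 105]) (.leaf (nat_lit 14351) [nat_lit 126, nat_lit 105, nat_lit 63, nat_lit 126, nat_lit 63, nat_lit 147, nat_lit 84, nat_lit 126, nat_lit 105, nat_lit 63])) (.node (nat_lit 46) (.leaf (nat_lit 15360) [nat_lit 42, nat_lit 42, nat_lit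 42, nat_lit 84, nat_lit 42, nat_lit 126, nat_lit 63, nat_lit 84, nat_lit 42, nat_lit 126]) (.leaf (nat_lit 15374) [nat_lit 84, nat_lit 42, nat_lit 126, nat_lit 42, nat_lit 42, nat_lit 42, nat_lit 84, nat_lit 42, nat_lit 126, nat_lit 63]))))
noncomputable def r81 : WT := (.node (nat_lit 50) (.node (nat_lit 48) (.leaf (nat_lit 15367) [nat_lit 42, nat_lit 147, nat_lit 63, nat_lit 105, nat_lit 63, nat_lit 63, nat_lit 63, nat_lit 147, nat_lit 63, nat_lit 105]) (.node (nat_lit 49) (.leaf (nat_lit 19461) [nat_lit 63, nat_lit 126, nat_lit 105, nat_lit 126, nat_lit 84, nat_lit 63, nat_lit 105, nat_lit 63, nat_lit 147, nat_lit 147]) (.leaf (nat_lit 16394) [nat_lit 63, nat_lit 168, nat_lit 105, nat_lit 126, nat_lit 168, nat_lit 42, nat_lit 105, nat_lit 147, nat_lit 168, nat_lit 126]))) (.node (nat_lit 51) (.leaf (nat_lit 16396) [nat_lit 168, nat_lit 105, nat_lit 126, nat_lit 168, nat_lit 42, nat_lit 105, nat_lit 147, nat_lit 168, nat_lit 126, nat_lit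 63]) (.node (nat_lit 52) (.leaf (nat_lit 16400) [nat_lit 126, nat_lit 168, nat_lit 42, nat_lit 105, nat_lit 147, nat_lit 168, nat_lit 126, nat_lit 63, nat_lit 168, nat_lit 105]) (.leaf (nat_lit 16387) [nat_lit 147, nat_lit 84, nat_lit 168, nat_lit 42, nat_lit 147, nat_lit 168, nat_lit 126, nat_lit 84, nat_lit 63, nat_lit 168]))))
noncomputable def r82 : WT := (.node (nat_lit 56) (.node (nat_lit 54) (.leaf (nat_lit 16389) [nat_lit 84, nat_lit 168, nat_lit 42, nat_lit 147, nat_lit 168, nat_lit 126, nat_lit 84, nat_lit 63, nat_lit 168, nat_lit 147]) (.node (nat_lit 55) (.leaf (nat_lit 17417) [nat_lit 63, nat_lit 126, nat_lit 63, nat_lit 147, nat_lit 105, nat_lit 63, nat_lit 147, nat_lit 105, nat_lit 105, nat_lit 126]) (.leaf (nat_lit 18446) [nat_lit 126, nat_lit 126, nat_lit 105, nat_lit 42, nat_lit 105, nat_lit 105, nat_lit 126, nat_lit 42, nat_lit 147, nat_lit 42]))) (.node (nat_lit 58) (.node (nat_lit 57) (.leaf (nat_lit 18441) [nat_lit 126,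 nat_lit 63, nat_lit 147, nat_lit 84, nat_lit 84, nat_lit 63, nat_lit 84, nat_lit 147, nat_lit 147, nat_lit 63]) (.leaf (nat_lit 19464) [nat_lit 147, nat_lit 84, nat_lit 147, nat_lit 42, nat_lit 126, nat_lit 126, nat_lit 42, nat_lit 84, nat_lit 42, nat_lit 105])) (.node (nat_lit 59) (.leaf (nat_lit 19472) [nat_lit 126, nat_lit 126, nat_lit 42, nat_lit 84, nat_lit 42, nat_lit 105, nat_lit 147, nat_lit 84, nat_lit 147, nat_lit 42]) (.leaf (nat_lit 19457) [nat_lit 147, nat_lit 147, nat_lit 63, nat_lit 126, nat_lit 105, nat_lit 126, nat_lit 84, nat_lit 63, nat_lit 105, nat_lit 63]))))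
noncomputable def wP : WT := (.node (nat_lit 12) (.node (nat_lit 4) (.node (nat_lit 2) (.node (nat_lit 1) (.leaf (nat_lit 24594) [nat_lit 189, nat_lit 105, nat_lit 126, nat_lit 84, nat_lit 126, nat_lit 189, nat_lit 147, nat_lit 105, nat_lit 147, nat_lit 84]) (.leaf (nat_lit 23570) [nat_lit 189, nat_lit 42, nat_lit 147, nat_lit 42, nat_lit 84, nat_lit 189, nat_lit 105, nat_lit 63, nat_lit 126, nat_lit 63])) (.node (nat_lit 3) (.leaf (nat_lit 8194) [nat_lit 84, nat_lit 63, nat_lit 147, nat_lit 84, nat_lit 42]) (.leaf (nat_lit 24584) [nat_lit 189, nat_lit 147, nat_lit 105, nat_lit 147, nat_lit 84, nat_lit 189, nat_lit 105, nat_lit 126, nat_lit 84, nat_lit 126]))) (.node (nat_lit 7) (.node (nat_lit 5) (.leaf (nat_lit 23560) [nat_lit 189, nat_lit 105, nat_lit 63, nat_lit 126, nat_lit 63, nat_lit 189, nat_lit 42, nat_lit 147, nat_lit 42, nat_lit 84]) r68) (.node (nat_lit 9) r70 r71))) (.node (nat_lit 34) (.node (nat_lit 21) (.node (nat_lit 16) r73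 r74) (.node (nat_lit 27) r75 r77)) (.node (nat_lit 47) (.node (nat_lit 40) r79 r80) (.node (nat_lit 53) r81 r82))))
noncomputable def P : Par := ⟨tb, nat_lit 210, nat_lit 0x3ffffffffffffffffffffffffffffffffffffffffffffffffffff, nat_lit 1424, nat_lit 2097151, nat_lit 2047, nat_lit 21, nat_lit 11, nat_lit 1024,
  [nat_lit 42, nat_lit 63, nat_lit 84, nat_lit 105, nat_lit 126, nat_lit 147, nat_lit 168, nat_lit 189], [nat_lit 42, nat_lit 84, nat_lit 126, nat_lit 168], wP,
  (.cons (nat_lit 42) w0 (.cons (nat_lit 63) w1 (.cons (nat_lit 84) w2 (.cons (nat_lit 105) w3 (.cons (nat_lit 126) w4 (.cons (nat_lit 147) w5 (.cons (nat_lit 168) w6 (.cons (nat_lit 189) w7 .nil)))))))),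
  .nil⟩

end Cfsg.Agent.Lib.TCJ46
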