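import Cfsg.Agent.Lib.TCJ47D0

set_option autoImplicit false
set_option maxRecDepth 100000

namespace Cfsg.Agent.Lib.TCJ47
open Cfsg.Agent.Lib.TCCore

noncomputable def tb : T := (.node (nat_lit 455) (.node (nat_lit 182) (.node (nat_lit 91) l0 l1) (.node (nat_lit 273) l2 (.node (nat_lit 364) l3 l4))) (.node (nat_lit 637) (.node (nat_lit 546) l5 l6) (.node (nat_lit 728) l7 (.node (nat_lit 819) l8 l9))))
noncomputable def r0 : WT := (.leaf (nat_lit 28675) [nat_lit 152, nat_lit 190, nat_lit 152, nat_lit 57, nat_lit 76, nat_lit 76, nat_lit 133, nat_lit 38, nat_lit 190, nat_lit 57, nat_lit 114, nat_lit 95, nat_lit 190, nat_lit 95])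
noncomputable def r1 : WT := (.node (nat_lit 5) (.leaf (nat_lit 23554) [nat_lit 114, nat_lit 190, nat_lit 133, nat_lit 57, nat_lit 114, nat_lit 190, nat_lit 133]) (.node (nat_lit 6) (.leaf (nat_lit 11278) [nat_lit 133, nat_lit 38, nat_lit 38, nat_lit 95, nat_lit 133, nat_lit 76, nat_lit 133, nat_lit 133]) r0))
noncomputable def r2 : WT := (.node (nat_lit 9) (.node (nat_lit 8) (.leaf (nat_lit 16398) [nat_lit 114, nat_lit 38, nat_lit 38, nat_lit 114, nat_lit 114, nat_lit 95, nat_lit 114, nat_lit 76]) (.leaf (nat_lit 10240) [nat_lit 114, nat_lit 152, nat_lit 133, nat_lit 57, nat_lit 152])) (.node (nat_lit 11) (.node (nat_lit 10) (.leaf (nat_lit 11264) [nat_lit 38, nat_lit 95, nat_lit 133, nat_lit 76, nat_lit 133, nat_lit 133, nat_lit 38, nat_lit 133]) (.leaf (nat_lit 13312) [nat_lit 76, nat_lit 133, nat_lit 57, nat_lit 114, nat_lit 95, nat_lit 114, nat_lit 38, nat_lit 133])) (.node (nat_lit 12) (.leaf (nat_lit 13326) [nat_lit 133, nat_lit 38, nat_lit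 76, nat_lit 133, nat_lit 57, nat_lit 114, nat_lit 95, nat_lit 114]) (.leaf (nat_lit 14336) [nat_lit 95, nat_lit 114, nat_lit 76, nat_lit 57, nat_lit 114, nat_lit 114, nat_lit 38, nat_lit 133]))))
noncomputable def r3 : WT := (.leaf (nat_lit 27654) [nat_lit 190, nat_lit 57, nat_lit 57, nat_lit 152, nat_lit 114, nat_lit 57, nat_lit 190, nat_lit 38, nat_lit 133, nat_lit 152, nat_lit 38, nat_lit 133, nat_lit 190, nat_lit 114])
noncomputable def r4 : WT := (.leaf (nat_lit 28678) [nat_lit 190, nat_lit 57, nat_lit 114, nat_lit 95, nat_lit 95, nat_lit 38, nat_lit 152, nat_lit 190, nat_lit 152, nat_lit 57, nat_lit 76, nat_lit 190, nat_lit 76, nat_lit 133])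
noncomputable def r5 : WT := (.leaf (nat_lit 28690) [nat_lit 152, nat_lit 190, nat_lit 152, nat_lit 57, nat_lit 76, nat_lit 190, nat_lit 76, nat_lit 133, nat_lit 38, nat_lit 190, nat_lit 57, nat_lit 114, nat_lit 95, nat_lit 95])
noncomputable def r6 : WT := (.node (nat_lit 24) (.leaf (nat_lit 12296) [nat_lit 152, nat_lit 76, nat_lit 114, nat_lit 152, nat_lit 38, nat_lit 76, nat_lit 152, nat_lit 114]) (.leaf (nat_lit 16384) [nat_lit 38, nat_lit 114, nat_lit 114, nat_lit 95, nat_lit 114, nat_lit 76, nat_lit 38, nat_lit 114]))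
noncomputable def r7 : WT := (.node (nat_lit 17) (.node (nat_lit 15) (.node (nat_lit 14) (.leaf (nat_lit 11266) [nat_lit 95, nat_lit 133, nat_lit 76, nat_lit 133, nat_lit 133, nat_lit 38, nat_lit 133, nat_lit 38]) r3) (.node (nat_lit 16) r4 (.leaf (nat_lit 24576) [nat_lit 76, nat_lit 114, nat_lit 190, nat_lit 133, nat_lit 95, nat_lit 57, nat_lit 190]))) (.node (nat_lit 20) (.node (nat_lit 18) (.leaf (nat_lit 12288) [nat_lit 76, nat_lit 152, nat_lit 114, nat_lit 38, nat_lit 152, nat_lit 76, nat_lit 114, nat_lit 152]) (.node (nat_lit 19) (.leaf (nat_lit 13323) [nat_lit 114, nat_lit 95, nat_lit 57, nat_lit 114, nat_lit 57, nat_lit 133, nat_lit 76, nat_lit 133]) (.leaf (nat_lit 14350) [nat_lit 133, nat_lit 38, nat_lit 95, nat_lit 114, nat_lit 76, nat_lit 57, nat_lit 114, nat_lit 114]))) (.node (nat_lit 22) (.node (nat_lit 21) (.leaf (nat_lit 14345) [nat_lit 95, nat_lit 133, nat_lit 76, nat_lit 57, nat_lit 114, nat_lit 57, nat_lit 133, nat_lit 133])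 r5) (.node (nat_lit 23) (.leaf (nat_lit 22528) [nat_lit 152, nat_lit 57, nat_lit 190, nat_lit 38, nat_lit 152, nat_lit 57, nat_lit 190]) r6))))
noncomputable def w0 : WT := (.node (nat_lit 1) (.leaf (nat_lit 0) [nat_lit 57]) (.node (nat_lit 3) (.node (nat_lit 2) (.leaf (nat_lit 6144) [nat_lit 38, nat_lit 38]) (.leaf (nat_lit 18432) [nat_lit 171, nat_lit 57, nat_lit 171])) (.node (nat_lit 7) (.node (nat_lit 4) (.leaf (nat_lit 9216) [nat_lit 76, nat_lit 114, nat_lit 38, nat_lit 76, nat_lit 114]) r1) (.node (nat_lit 13) r2 r7))))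
noncomputable def r8 : WT := (.node (nat_lit 4) (.leaf (nat_lit 9221) [nat_lit 133, nat_lit 95, nat_lit 57, nat_lit 133, nat_lit 95]) (.leaf (nat_lit 23562) [nat_lit 114, nat_lit 190, nat_lit 133, nat_lit 38, nat_lit 114, nat_lit 190, nat_lit 133]))
noncomputable def r9 : WT := (.node (nat_lit 6) (.leaf (nat_lit 11267) [nat_lit 114, nat_lit 114, nat_lit 95, nat_lit 114, nat_lit 76, nat_lit 57, nat_lit 57, nat_lit 114]) (.node (nat_lit 7) (.leaf (nat_lit 16387) [nat_lit 95, nat_lit 133, nat_lit 76, nat_lit 133, nat_lit 133, nat_lit 57, nat_lit 57, nat_lit 133]) (.leaf (nat_lit 25606) [nat_lit 190, nat_lit 38, nat_lit 95, nat_lit 133, nat_lit 76, nat_lit 190, nat_lit 95, nat_lit 114, nat_lit 76])))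
noncomputable def r10 : WT := (.node (nat_lit 10) (.node (nat_lit 9) (.leaf (nat_lit 24588) [nat_lit 190, nat_lit 38, nat_lit 76, nat_lit 114, nat_lit 190, nat_lit 133, nat_lit 95]) (.leaf (nat_lit 13315) [nat_lit 133, nat_lit 76, nat_lit 133, nat_lit 38, nat_lit 114, nat_lit 95, nat_lit 57, nat_lit 114])) (.node (nat_lit 11) (.leaf (nat_lit 22532) [nat_lit 190, nat_lit 38, nat_lit 152, nat_lit 57, nat_lit 190, nat_lit 38, nat_lit 152]) (.node (nat_lit 12) (.leaf (nat_lit 13318) [nat_lit 114, nat_lit 95, nat_lit 114, nat_lit 38, nat_lit 133, nat_lit 38, nat_lit 76, nat_lit 133]) (.leaf (nat_lit 13329) [nat_lit 114, nat_lit 57, nat_lit 133, nat_lit 76, nat_lit 133, nat_lit 38, nat_lit 114, nat_lit 95]))))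
noncomputable def r11 : WT := (.leaf (nat_lit 28695) [nat_lit 114, nat_lit 95, nat_lit 190, nat_lit 95, nat_lit 38, nat_lit 152, nat_lit 190, nat_lit 152, nat_lit 57, nat_lit 76, nat_lit 76, nat_lit 133, nat_lit 38, nat_lit 190])
noncomputable def r12 : WT := (.node (nat_lit 16) (.node (nat_lit 14) (.leaf (nat_lit 14344) [nat_lit 114, nat_lit 114, nat_lit 38, nat_lit 133, nat_lit 38, nat_lit 95, nat_lit 114, nat_lit 76]) (.node (nat_lit 15) (.leaf (nat_lit 11279) [nat_lit 57, nat_lit 114, nat_lit 57, nat_lit 114, nat_lit 114, nat_lit 95, nat_lit 114, nat_lit 76]) (.leaf (nat_lit 14353) [nat_lit 114, nat_lit 57, nat_lit 133, nat_lit 133, nat_lit 38, nat_lit 95, nat_lit 133, nat_lit 76]))) (.node (nat_lit 18) (.node (nat_lit 17) (.leaf (nat_lit 10248) [nat_lit 152, nat_lit 38, nat_lit 114, nat_lit 152, nat_lit 133]) (.leaf (nat_lit 12297) [nat_lit 133, nat_lit 152, nat_lit 95, nat_lit 57, nat_lit 152, nat_lit 133, nat_lit 95, nat_lit 152])) (.node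 (nat_lit 20) (.node (nat_lit 19) (.leaf (nat_lit 14339) [nat_lit 133, nat_lit 133, nat_lit 38, nat_lit 95, nat_lit 133, nat_lit 76, nat_lit 57, nat_lit 114]) (.leaf (nat_lit 16399) [nat_lit 57, nat_lit 133, nat_lit 57, nat_lit 95, nat_lit 133, nat_lit 76, nat_lit 133, nat_lit 133])) (.node (nat_lit 21) r11 (.leaf (nat_lit 12305) [nat_lit 152, nat_lit 133, nat_lit 95, nat_lit 152, nat_lit 57, nat_lit 133, nat_lit 152, nat_lit 95])))))
noncomputable def w1 : WT := (.node (nat_lit 1) (.leaf (nat_lit 2) [nat_lit 38]) (.node (nat_lit 3) (.node (nat_lit 2) (.leaf (nat_lit 18436) [nat_lit 171, nat_lit 38, nat_lit 171]) (.leaf (nat_lit 6145) [nat_lit 57, nat_lit 57])) (.node (nat_lit 8) (.node (nat_lit 5) r8 r9) (.node (nat_lit 13) r10 r12))))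
noncomputable def r13 : WT := (.node (nat_lit 4) (.leaf (nat_lit 9218) [nat_lit 114, nat_lit 38, nat_lit 76, nat_lit 114, nat_lit 38]) (.leaf (nat_lit 11277) [nat_lit 57, nat_lit 57, nat_lit 114, nat_lit 57, nat_lit 114, nat_lit 114, nat_lit 95, nat_lit 114]))
noncomputable def r14 : WT := (.node (nat_lit 6) (.leaf (nat_lit 25616) [nat_lit 190, nat_lit 95, nat_lit 114, nat_lit 76, nat_lit 57, nat_lit 190, nat_lit 38, nat_lit 95, nat_lit 133]) (.node (nat_lit 7) (.leaf (nat_lit 11272) [nat_lit 133, nat_lit 133, nat_lit 38, nat_lit 133, nat_lit 38, nat_lit 38, nat_lit 95, nat_lit 133]) (.leaf (nat_lit 13319) [nat_lit 133, nat_lit 38, nat_lit 114, nat_lit 95, nat_lit 57, nat_lit 114, nat_lit 57, nat_lit 133])))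
noncomputable def r15 : WT := (.node (nat_lit 10) (.node (nat_lit 9) (.leaf (nat_lit 13314) [nat_lit 133, nat_lit 57, nat_lit 114, nat_lit 95, nat_lit 114, nat_lit 38, nat_lit 133, nat_lit 38]) (.leaf (nat_lit 14342) [nat_lit 57, nat_lit 114, nat_lit 114, nat_lit 38, nat_lit 133, nat_lit 38, nat_lit 95, nat_lit 114])) (.node (nat_lit 11) (.leaf (nat_lit 15360) [nat_lit 76, nat_lit 114, nat_lit 95, nat_lit 114, nat_lit 95, nat_lit 114, nat_lit 95, nat_lit 114]) (.leaf (nat_lit 14351) [nat_lit 57, nat_lit 114, nat_lit 57, nat_lit 133, nat_lit 133, nat_lit 38, nat_lit 95, nat_lit 133])))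
noncomputable def r16 : WT := (.leaf (nat_lit 28700) [nat_lit 190, nat_lit 76, nat_lit 133, nat_lit 38, nat_lit 190, nat_lit 57, nat_lit 114, nat_lit 95, nat_lit 95, nat_lit 38, nat_lit 152, nat_lit 190, nat_lit 152, nat_lit 57])
noncomputable def r17 : WT := (.leaf (nat_lit 28674) [nat_lit 133, nat_lit 38, nat_lit 190, nat_lit 57, nat_lit 114, nat_lit 95, nat_lit 95, nat_lit 38, nat_lit 152, nat_lit 190, nat_lit 152, nat_lit 57, nat_lit 76, nat_lit 190])
noncomputable def r18 : WT := (.node (nat_lit 15) (.node (nat_lit 13) (.leaf (nat_lit 15363) [nat_lit 133, nat_lit 76, nat_lit 133, nat_lit 76, nat_lit 133, nat_lit 95, nat_lit 95, nat_lit 133]) (.node (nat_lit 14) (.leaf (nat_lit 12300) [nat_lit 114, nat_lit 152, nat_lit 38, nat_lit 76, nat_lit 152, nat_lit 114, nat_lit 38, nat_lit 152]) (.leaf (nat_lit 15367) [nat_lit 133, nat_lit 76, nat_lit 133, nat_lit 95, nat_lit 95, nat_lit 133, nat_lit 76, nat_lit 133]))) (.node (nat_lit 17) (.node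 (nat_lit 16) (.leaf (nat_lit 24578) [nat_lit 114, nat_lit 190, nat_lit 133, nat_lit 95, nat_lit 57, nat_lit 190, nat_lit 38]) (.leaf (nat_lit 15362) [nat_lit 114, nat_lit 95, nat_lit 114, nat_lit 95, nat_lit 114, nat_lit 95, nat_lit 114, nat_lit 76])) (.node (nat_lit 19) (.node (nat_lit 18) (.leaf (nat_lit 25604) [nat_lit 57, nat_lit 190, nat_lit 38, nat_lit 95, nat_lit 133, nat_lit 76, nat_lit 190, nat_lit 95, nat_lit 114]) r16) (.node (nat_lit 20) (.leaf (nat_lit 12290) [nat_lit 152, nat_lit 114, nat_lit 38, nat_lit 152, nat_lit 76, nat_lit 114, nat_lit 152, nat_lit 38]) r17))))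
noncomputable def w2 : WT := (.node (nat_lit 1) (.leaf (nat_lit 1024) [nat_lit 95]) (.node (nat_lit 3) (.node (nat_lit 2) (.leaf (nat_lit 19456) [nat_lit 171, nat_lit 95, nat_lit 171]) (.leaf (nat_lit 7168) [nat_lit 76, nat_lit 76])) (.node (nat_lit 8) (.node (nat_lit 5) r13 r14) (.node (nat_lit 12) r15 r18))))
noncomputable def r19 : WT := (.node (nat_lit 5) (.leaf (nat_lit 11273) [nat_lit 114, nat_lit 76, nat_lit 57, nat_lit 57, nat_lit 114, nat_lit 57, nat_lit 114, nat_lit 114]) (.node (nat_lit 6) (.leaf (nat_lit 12303) [nat_lit 57, nat_lit 152, nat_lit 133, nat_lit 95, nat_lit 152, nat_lit 57, nat_lit 133, nat_lit 152]) (.leaf (nat_lit 24586) [nat_lit 57, nat_lit 190, nat_lit 38, nat_lit 76, nat_lit 114, nat_lit 190, nat_lit 133])))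
noncomputable def r20 : WT := (.node (nat_lit 9) (.node (nat_lit 8) (.leaf (nat_lit 11268) [nat_lit 133, nat_lit 76, nat_lit 133, nat_lit 133, nat_lit 38, nat_lit 133, nat_lit 38, nat_lit 38]) (.leaf (nat_lit 16389) [nat_lit 133, nat_lit 76, nat_lit 133, nat_lit 133, nat_lit 57, nat_lit 57, nat_lit 133, nat_lit 57])) (.node (nat_lit 10) (.leaf (nat_lit 15366) [nat_lit 114, nat_lit 95, nat_lit 114, nat_lit 95, nat_lit 114, nat_lit 76, nat_lit 76, nat_lit 114]) (.leaf (nat_lit 14347) [nat_lit 133, nat_lit 76, nat_lit 57, nat_lit 114, nat_lit 57, nat_lit 133, nat_lit 133, nat_lit 38])))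
noncomputable def r21 : WT := (.leaf (nat_lit 28699) [nat_lit 190, nat_lit 95, nat_lit 38, nat_lit 152, nat_lit 190, nat_lit 152, nat_lit 57, nat_lit 76, nat_lit 76, nat_lit 133, nat_lit 38, nat_lit 190, nat_lit 57, nat_lit 114])
noncomputable def r22 : WT := (.node (nat_lit 20) (.leaf (nat_lit 12293) [nat_lit 152, nat_lit 57, nat_lit 133, nat_lit 152, nat_lit 95, nat_lit 57, nat_lit 152, nat_lit 133]) (.leaf (nat_lit 17425) [nat_lit 152, nat_lit 114, nat_lit 152, nat_lit 114, nat_lit 114, nat_lit 114, nat_lit 76, nat_lit 152]))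
noncomputable def r23 : WT := (.leaf (nat_lit 28688) [nat_lit 38, nat_lit 152, nat_lit 190, nat_lit 152, nat_lit 57, nat_lit 76, nat_lit 190, nat_lit 76, nat_lit 133, nat_lit 38, nat_lit 190, nat_lit 57, nat_lit 114, nat_lit 95])
noncomputable def r24 : WT := (.leaf (nat_lit 28673) [nat_lit 38, nat_lit 152, nat_lit 190, nat_lit 152, nat_lit 57, nat_lit 76, nat_lit 76, nat_lit 133, nat_lit 38, nat_lit 190, nat_lit 57, nat_lit 114, nat_lit 95, nat_lit 190])
noncomputable def r25 : WT := (.node (nat_lit 23) r23 r24)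
noncomputable def r26 : WT := (.node (nat_lit 15) (.node (nat_lit 13) (.node (nat_lit 12) (.leaf (nat_lit 13322) [nat_lit 114, nat_lit 38, nat_lit 133, nat_lit 38, nat_lit 76, nat_lit 133, nat_lit 57, nat_lit 114]) (.leaf (nat_lit 14338) [nat_lit 114, nat_lit 76, nat_lit 57, nat_lit 114, nat_lit 114, nat_lit 38, nat_lit 133, nat_lit 38])) (.node (nat_lit 14) (.leaf (nat_lit 13327) [nat_lit 57, nat_lit 114, nat_lit 57, nat_lit 133, nat_lit 76, nat_lit 133, nat_lit 38, nat_lit 114]) (.leaf (nat_lit 17412) [nat_lit 133, nat_lit 133, nat_lit 133, nat_lit 152, nat_lit 133, nat_lit 152, nat_lit 76, nat_lit 152]))) (.node (nat_lit 18) (.node (nat_lit 16) (.leaf (nat_lit 25612) [nat_lit 133, nat_lit 76, nat_lit 190, nat_lit 95, nat_lit 114, nat_lit 76, nat_lit 57, nat_lit 190, nat_lit 38]) (.node (nat_lit 17) (.leaf (nat_lit 15374) [nat_lit 114, nat_lit 76, nat_lit 76, nat_lit 114, nat_lit 95, nat_lit 114, nat_lit 95, nat_lit 114]) r21)) (.node (nat_lit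 21) (.node (nat_lit 19) (.leaf (nat_lit 15375) [nat_lit 95, nat_lit 133, nat_lit 76, nat_lit 133, nat_lit 76, nat_lit 133, nat_lit 76, nat_lit 133]) r22) (.node (nat_lit 22) (.leaf (nat_lit 25600) [nat_lit 114, nat_lit 76, nat_lit 57, nat_lit 190, nat_lit 38, nat_lit 95, nat_lit 133, nat_lit 76, nat_lit 190]) r25))))
noncomputable def w3 : WT := (.node (nat_lit 1) (.leaf (nat_lit 1026) [nat_lit 76]) (.node (nat_lit 3) (.node (nat_lit 2) (.leaf (nat_lit 19460) [nat_lit 171, nat_lit 76, nat_lit 171]) (.leaf (nat_lit 7169) [nat_lit 95, nat_lit 95])) (.node (nat_lit 7) (.node (nat_lit 4) (.leaf (nat_lit 9219) [nat_lit 57, nat_lit 133, nat_lit 95, nat_lit 57, nat_lit 133]) r19) (.node (nat_lit 11) r20 r26))))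
noncomputable def r27 : WT := (.node (nat_lit 4) (.leaf (nat_lit 23564) [nat_lit 190, nat_lit 133, nat_lit 38, nat_lit 114, nat_lit 190, nat_lit 133, nat_lit 57]) (.leaf (nat_lit 9220) [nat_lit 38, nat_lit 76, nat_lit 114, nat_lit 38, nat_lit 76]))
noncomputable def r28 : WT := (.node (nat_lit 6) (.leaf (nat_lit 12294) [nat_lit 38, nat_lit 152, nat_lit 76, nat_lit 114, nat_lit 152, nat_lit 38, nat_lit 76, nat_lit 152]) (.node (nat_lit 7) (.leaf (nat_lit 13325) [nat_lit 95, nat_lit 57, nat_lit 114, nat_lit 57, nat_lit 133, nat_lit 76, nat_lit 133, nat_lit 38]) (.leaf (nat_lit 11269) [nat_lit 114, nat_lit 95, nat_lit 114, nat_lit 76, nat_lit 57, nat_lit 57, nat_lit 114, nat_lit 57])))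
noncomputable def r29 : WT := (.node (nat_lit 10) (.node (nat_lit 9) (.leaf (nat_lit 24580) [nat_lit 190, nat_lit 133, nat_lit 95, nat_lit 57, nat_lit 190, nat_lit 38, nat_lit 76]) (.leaf (nat_lit 14337) [nat_lit 57, nat_lit 133, nat_lit 133, nat_lit 38, nat_lit 95, nat_lit 133, nat_lit 76, nat_lit 57])) (.node (nat_lit 11) (.leaf (nat_lit 11275) [nat_lit 76, nat_lit 57, nat_lit 57, nat_lit 114, nat_lit 57, nat_lit 114, nat_lit 114, nat_lit 95]) (.node (nat_lit 12) (.leaf (nat_lit 13313) [nat_lit 57, nat_lit 133, nat_lit 76, nat_lit 133, nat_lit 38, nat_lit 114, nat_lit 95, nat_lit 57]) (.leaf (nat_lit 16388) [nat_lit 114, nat_lit 95, nat_lit 114, nat_lit 76, nat_lit 38, nat_lit 114, nat_lit 38, nat_lit 38]))))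
noncomputable def r30 : WT := (.leaf (nat_lit 27664) [nat_lit 57, nat_lit 190, nat_lit 38, nat_lit 133, nat_lit 152, nat_lit 38, nat_lit 133, nat_lit 190, nat_lit 114, nat_lit 38, nat_lit 190, nat_lit 57, nat_lit 57, nat_lit 152])
noncomputable def r31 : WT := (.node (nat_lit 17) (.node (nat_lit 15) (.node (nat_lit 14) (.leaf (nat_lit 11271) [nat_lit 95, nat_lit 114, nat_lit 76, nat_lit 57, nat_lit 57, nat_lit 114, nat_lit 57, nat_lit 114]) (.leaf (nat_lit 13320) [nat_lit 95, nat_lit 114, nat_lit 38, nat_lit 133, nat_lit 38, nat_lit 76, nat_lit 133, nat_lit 57])) (.node (nat_lit 16) (.leaf (nat_lit 10242) [nat_lit 152, nat_lit 133, nat_lit 57, nat_lit 152, nat_lit 38]) (.leaf (nat_lit 11265) [nat_lit 57, nat_lit 114, nat_lit 114, nat_lit 95, nat_lit 114, nat_lit 76, nat_lit 57, nat_lit 57]))) (.node (nat_lit 19) (.node (nat_lit 18) (.leaf (nat_lit 16400) [nat_lit 38, nat_lit 38, nat_lit 114, nat_lit 114, nat_lit 95, nat_lit 114, nat_lit 76,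 nat_lit 38]) (.leaf (nat_lit 14340) [nat_lit 76, nat_lit 57, nat_lit 114, nat_lit 114, nat_lit 38, nat_lit 133, nat_lit 38, nat_lit 95])) (.node (nat_lit 20) r30 (.leaf (nat_lit 15364) [nat_lit 95, nat_lit 114, nat_lit 95, nat_lit 114, nat_lit 95, nat_lit 114, nat_lit 76, nat_lit 76]))))
noncomputable def r32 : WT := (.leaf (nat_lit 27677) [nat_lit 57, nat_lit 152, nat_lit 114, nat_lit 57, nat_lit 190, nat_lit 38, nat_lit 133, nat_lit 152, nat_lit 38, nat_lit 38, nat_lit 190, nat_lit 57, nat_lit 133, nat_lit 190])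
noncomputable def r33 : WT := (.leaf (nat_lit 27653) [nat_lit 57, nat_lit 190, nat_lit 38, nat_lit 133, nat_lit 152, nat_lit 38, nat_lit 38, nat_lit 190, nat_lit 57, nat_lit 133, nat_lit 190, nat_lit 114, nat_lit 57, nat_lit 152])
noncomputable def r34 : WT := (.leaf (nat_lit 27652) [nat_lit 38, nat_lit 190, nat_lit 57, nat_lit 57, nat_lit 152, nat_lit 114, nat_lit 57, nat_lit 190, nat_lit 38, nat_lit 133, nat_lit 152, nat_lit 38, nat_lit 133, nat_lit 190])
noncomputable def r35 : WT := (.leaf (nat_lit 28697) [nat_lit 95, nat_lit 190, nat_lit 95, nat_lit 38, nat_lit 152, nat_lit 190, nat_lit 152, nat_lit 57, nat_lit 76, nat_lit 76, nat_lit 133, nat_lit 38, nat_lit 190, nat_lit 57])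
noncomputable def r36 : WT := (.node (nat_lit 34) (.leaf (nat_lit 12302) [nat_lit 152, nat_lit 38, nat_lit 76, nat_lit 152, nat_lit 114, nat_lit 38, nat_lit 152, nat_lit 76]) r35)
noncomputable def r37 : WT := (.node (nat_lit 27) (.node (nat_lit 24) (.node (nat_lit 22) (.leaf (nat_lit 25602) [nat_lit 76, nat_lit 57, nat_lit 190, nat_lit 38, nat_lit 95, nat_lit 133, nat_lit 76, nat_lit 190, nat_lit 95]) (.node (nat_lit 23) (.leaf (nat_lit 17415) [nat_lit 114, nat_lit 114, nat_lit 76, nat_lit 152, nat_lit 95, nat_lit 152, nat_lit 114, nat_lit 152]) (.leaf (nat_lit 23556) [nat_lit 190, nat_lit 133, nat_lit 57, nat_lit 114, nat_lit 190, nat_lit 133, nat_lit 38]))) (.node (nat_lit 25) r32 (.node (nat_lit 26) r33 r34))) (.node (nat_lit 30) (.node (nat_lit 28) (.leaf (nat_lit 15368) [nat_lit 95, nat_lit 114, nat_lit 95, nat_lit 114, nat_lit 76, nat_lit 76, nat_lit 114, nat_lit 95]) (.node (nat_lit 29) (.leaf (nat_lit 14348) [nat_lit 38, nat_lit 133,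 nat_lit 38, nat_lit 95, nat_lit 114, nat_lit 76, nat_lit 57, nat_lit 114]) (.leaf (nat_lit 14346) [nat_lit 114, nat_lit 38, nat_lit 133, nat_lit 38, nat_lit 95, nat_lit 114, nat_lit 76, nat_lit 57]))) (.node (nat_lit 32) (.node (nat_lit 31) (.leaf (nat_lit 13324) [nat_lit 38, nat_lit 133, nat_lit 38, nat_lit 76, nat_lit 133, nat_lit 57, nat_lit 114, nat_lit 95]) (.leaf (nat_lit 17411) [nat_lit 152, nat_lit 114, nat_lit 114, nat_lit 114, nat_lit 76, nat_lit 152, nat_lit 95, nat_lit 152])) (.node (nat_lit 33) (.leaf (nat_lit 16394) [nat_lit 76, nat_lit 38, nat_lit 114, nat_lit 38, nat_lit 38, nat_lit 114, nat_lit 114, nat_lit 95]) r36))))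
noncomputable def w4 : WT := (.node (nat_lit 1) (.leaf (nat_lit 2048) [nat_lit 133]) (.node (nat_lit 5) (.node (nat_lit 2) (.leaf (nat_lit 20480) [nat_lit 171, nat_lit 133, nat_lit 171]) (.node (nat_lit 3) (.leaf (nat_lit 8192) [nat_lit 114, nat_lit 114, nat_lit 114]) r27)) (.node (nat_lit 13) (.node (nat_lit 8) r28 r29) (.node (nat_lit 21) r31 r37))))
noncomputable def r38 : WT := (.node (nat_lit 5) (.leaf (nat_lit 9217) [nat_lit 95, nat_lit 57, nat_lit 133, nat_lit 95, nat_lit 57]) (.leaf (nat_lit 10246) [nat_lit 57, nat_lit 152, nat_lit 38, nat_lit 114, nat_lit 152]))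
noncomputable def r39 : WT := (.node (nat_lit 8) (.node (nat_lit 7) (.leaf (nat_lit 14349) [nat_lit 76, nat_lit 57, nat_lit 114, nat_lit 57, nat_lit 133, nat_lit 133, nat_lit 38, nat_lit 95]) (.leaf (nat_lit 11270) [nat_lit 76, nat_lit 133, nat_lit 133, nat_lit 38, nat_lit 133, nat_lit 38, nat_lit 38, nat_lit 95])) (.node (nat_lit 9) (.leaf (nat_lit 11274) [nat_lit 133, nat_lit 38, nat_lit 133, nat_lit 38, nat_lit 38, nat_lit 95, nat_lit 133, nat_lit 76]) (.leaf (nat_lit 16385) [nat_lit 57, nat_lit 95, nat_lit 133, nat_lit 76, nat_lit 133, nat_lit 133, nat_lit 57, nat_lit 57])))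
noncomputable def r40 : WT := (.leaf (nat_lit 28676) [nat_lit 38, nat_lit 190, nat_lit 57, nat_lit 114, nat_lit 95, nat_lit 95, nat_lit 38, nat_lit 152, nat_lit 190, nat_lit 152, nat_lit 57, nat_lit 76, nat_lit 190, nat_lit 76])
noncomputable def r41 : WT := (.node (nat_lit 13) (.node (nat_lit 11) (.leaf (nat_lit 13328) [nat_lit 38, nat_lit 76, nat_lit 133, nat_lit 57, nat_lit 114, nat_lit 95, nat_lit 114, nat_lit 38]) (.node (nat_lit 12) (.leaf (nat_lit 13317) [nat_lit 76, nat_lit 133, nat_lit 38, nat_lit 114, nat_lit 95, nat_lit 57, nat_lit 114, nat_lit 57]) r40)) (.node (nat_lit 15) (.node (nat_lit 14) (.leaf (nat_lit 12299) [nat_lit 152, nat_lit 95, nat_lit 57, nat_lit 152, nat_lit 133, nat_lit 95, nat_lit 152, nat_lit 57]) (.leaf (nat_lit 13316) [nat_lit 57, nat_lit 114, nat_lit 95, nat_lit 114, nat_lit 38, nat_lit 133, nat_lit 38, nat_lit 76])) (.node (nat_lit 16) (.leaf (nat_lit 25614) [nat_lit 76, nat_lit 190, nat_lit 95, nat_lit 114,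 nat_lit 76, nat_lit 57, nat_lit 190, nat_lit 38, nat_lit 95]) (.leaf (nat_lit 17422) [nat_lit 152, nat_lit 76, nat_lit 152, nat_lit 95, nat_lit 133, nat_lit 133, nat_lit 133, nat_lit 152]))))
noncomputable def r42 : WT := (.leaf (nat_lit 28689) [nat_lit 38, nat_lit 190, nat_lit 57, nat_lit 114, nat_lit 95, nat_lit 190, nat_lit 95, nat_lit 38, nat_lit 152, nat_lit 190, nat_lit 152, nat_lit 57, nat_lit 76, nat_lit 76])
noncomputable def r43 : WT := (.leaf (nat_lit 27673) [nat_lit 190, nat_lit 114, nat_lit 57, nat_lit 152, nat_lit 114, nat_lit 57, nat_lit 190, nat_lit 38, nat_lit 133, nat_lit 152, nat_lit 38, nat_lit 38, nat_lit 190, nat_lit 57])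
noncomputable def r44 : WT := (.node (nat_lit 29) r43 (.leaf (nat_lit 24584) [nat_lit 95, nat_lit 57, nat_lit 190, nat_lit 38, nat_lit 76, nat_lit 114, nat_lit 190]))
noncomputable def r45 : WT := (.node (nat_lit 21) (.node (nat_lit 19) (.node (nat_lit 18) (.leaf (nat_lit 11276) [nat_lit 38, nat_lit 133, nat_lit 38, nat_lit 38, nat_lit 95, nat_lit 133, nat_lit 76, nat_lit 133]) (.leaf (nat_lit 15361) [nat_lit 76, nat_lit 133, nat_lit 76, nat_lit 133, nat_lit 76, nat_lit 133, nat_lit 95, nat_lit 95])) (.node (nat_lit 20) (.leaf (nat_lit 16391) [nat_lit 76, nat_lit 133, nat_lit 133, nat_lit 57, nat_lit 57, nat_lit 133, nat_lit 57, nat_lit 95]) r42)) (.node (nat_lit 25) (.node (nat_lit 23) (.node (nat_lit 22) (.leaf (nat_lit 14341) [nat_lit 133, nat_lit 38, nat_lit 95, nat_lit 133, nat_lit 76, nat_lit 57, nat_lit 114, nat_lit 57]) (.leaf (nat_lit 13321) [nat_lit 38, nat_lit 114, nat_lit 95, nat_lit 57, nat_lit 114, nat_lit 57, nat_lit 133, nat_lit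 76])) (.node (nat_lit 24) (.leaf (nat_lit 15365) [nat_lit 76, nat_lit 133, nat_lit 76, nat_lit 133, nat_lit 95, nat_lit 95, nat_lit 133, nat_lit 76]) (.leaf (nat_lit 14343) [nat_lit 38, nat_lit 95, nat_lit 133, nat_lit 76, nat_lit 57, nat_lit 114, nat_lit 57, nat_lit 133]))) (.node (nat_lit 27) (.node (nat_lit 26) (.leaf (nat_lit 17414) [nat_lit 133, nat_lit 133, nat_lit 152, nat_lit 133, nat_lit 152, nat_lit 76, nat_lit 152, nat_lit 95]) (.leaf (nat_lit 17418) [nat_lit 152, nat_lit 133, nat_lit 152, nat_lit 76, nat_lit 152, nat_lit 95, nat_lit 133, nat_lit 133])) (.node (nat_lit 28) (.leaf (nat_lit 14352) [nat_lit 38, nat_lit 95, nat_lit 114, nat_lit 76, nat_lit 57, nat_lit 114, nat_lit 114, nat_lit 38]) r44))))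
noncomputable def w5 : WT := (.node (nat_lit 1) (.leaf (nat_lit 2050) [nat_lit 114]) (.node (nat_lit 4) (.node (nat_lit 2) (.leaf (nat_lit 20484) [nat_lit 171, nat_lit 114, nat_lit 171]) (.node (nat_lit 3) (.leaf (nat_lit 8193) [nat_lit 133, nat_lit 133, nat_lit 133]) (.leaf (nat_lit 11280) [nat_lit 38, nat_lit 38, nat_lit 95, nat_lit 133, nat_lit 76, nat_lit 133, nat_lit 133, nat_lit 38]))) (.node (nat_lit 10) (.node (nat_lit 6) r38 r39) (.node (nat_lit 17) r41 r45))))
noncomputable def r46 : WT := (.node (nat_lit 7) (.leaf (nat_lit 17410) [nat_lit 95, nat_lit 133, nat_lit 133, nat_lit 133, nat_lit 152, nat_lit 133, nat_lit 152, nat_lit 76]) (.leaf (nat_lit 12292) [nat_lit 114, nat_lit 38, nat_lit 152, nat_lit 76, nat_lit 114, nat_lit 152, nat_lit 38, nat_lit 76]))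
noncomputable def r47 : WT := (.node (nat_lit 9) (.leaf (nat_lit 12295) [nat_lit 57, nat_lit 133, nat_lit 152, nat_lit 95, nat_lit 57, nat_lit 152, nat_lit 133, nat_lit 95]) (.leaf (nat_lit 17420) [nat_lit 133, nat_lit 152, nat_lit 76, nat_lit 152, nat_lit 95, nat_lit 133, nat_lit 133, nat_lit 133]))
noncomputable def r48 : WT := (.node (nat_lit 11) (.leaf (nat_lit 12301) [nat_lit 95, nat_lit 57, nat_lit 152, nat_lit 133, nat_lit 95, nat_lit 152, nat_lit 57, nat_lit 133]) (.node (nat_lit 12) (.leaf (nat_lit 17424) [nat_lit 76, nat_lit 152, nat_lit 95, nat_lit 133, nat_lit 133, nat_lit 133, nat_lit 152, nat_lit 133]) (.leaf (nat_lit 12298) [nat_lit 76, nat_lit 114, nat_lit 152, nat_lit 38, nat_lit 76, nat_lit 152, nat_lit 114, nat_lit 38])))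
noncomputable def r49 : WT := (.leaf (nat_lit 27662) [nat_lit 114, nat_lit 57, nat_lit 190, nat_lit 38, nat_lit 133, nat_lit 152, nat_lit 38, nat_lit 133, nat_lit 190, nat_lit 114, nat_lit 38, nat_lit 190, nat_lit 57, nat_lit 57])
noncomputable def r50 : WT := (.leaf (nat_lit 27651) [nat_lit 114, nat_lit 57, nat_lit 190, nat_lit 38, nat_lit 133, nat_lit 152, nat_lit 38, nat_lit 38, nat_lit 190, nat_lit 57, nat_lit 133, nat_lit 190, nat_lit 114, nat_lit 57])
noncomputable def r51 : WT := (.leaf (nat_lit 27663) [nat_lit 38, nat_lit 38, nat_lit 190, nat_lit 57, nat_lit 133, nat_lit 190, nat_lit 114, nat_lit 57, nat_lit 152, nat_lit 114, nat_lit 57, nat_lit 190, nat_lit 38, nat_lit 133])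
noncomputable def r52 : WT := (.leaf (nat_lit 28681) [nat_lit 57, nat_lit 76, nat_lit 76, nat_lit 133, nat_lit 38, nat_lit 190, nat_lit 57, nat_lit 114, nat_lit 95, nat_lit 190, nat_lit 95, nat_lit 38, nat_lit 152, nat_lit 190])
noncomputable def r53 : WT := (.node (nat_lit 23) r51 r52)
noncomputable def r54 : WT := (.node (nat_lit 16) (.node (nat_lit 14) (.leaf (nat_lit 12304) [nat_lit 38, nat_lit 76, nat_lit 152, nat_lit 114, nat_lit 38, nat_lit 152, nat_lit 76, nat_lit 114]) (.node (nat_lit 15) (.leaf (nat_lit 17423) [nat_lit 95, nat_lit 152, nat_lit 114, nat_lit 152, nat_lit 114, nat_lit 114, nat_lit 114, nat_lit 76]) (.leaf (nat_lit 12289) [nat_lit 133, nat_lit 95, nat_lit 152, nat_lit 57, nat_lit 133, nat_lit 152, nat_lit 95, nat_lit 57]))) (.node (nat_lit 19) (.node (nat_lit 17) (.leaf (nat_lit 17413) [nat_lit 114, nat_lit 114, nat_lit 114, nat_lit 76, nat_lit 152, nat_lit 95, nat_lit 152, nat_lit 114]) (.node (nat_lit 18) (.leaf (nat_lit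 26629) [nat_lit 171, nat_lit 190, nat_lit 152, nat_lit 190]) (.leaf (nat_lit 26628) [nat_lit 190, nat_lit 152, nat_lit 190, nat_lit 171]))) (.node (nat_lit 21) (.node (nat_lit 20) (.leaf (nat_lit 17409) [nat_lit 114, nat_lit 152, nat_lit 114, nat_lit 114, nat_lit 114, nat_lit 76, nat_lit 152, nat_lit 95]) r49) (.node (nat_lit 22) r50 r53))))
noncomputable def w6 : WT := (.node (nat_lit 3) (.node (nat_lit 1) (.leaf (nat_lit 3072) [nat_lit 152]) (.node (nat_lit 2) (.leaf (nat_lit 21504) [nat_lit 171, nat_lit 152, nat_lit 171]) (.leaf (nat_lit 10250) [nat_lit 38, nat_lit 114, nat_lit 152, nat_lit 133, nat_lit 57]))) (.node (nat_lit 6) (.node (nat_lit 4) (.leaf (nat_lit 10244) [nat_lit 133, nat_lit 57, nat_lit 152, nat_lit 38, nat_lit 114]) (.node (nat_lit 5) (.leaf (nat_lit 26632) [nat_lit 190, nat_lit 171, nat_lit 152, nat_lit 190]) (.leaf (nat_lit 22530) [nat_lit 57, nat_lit 190, nat_lit 38, nat_lit 152, nat_lit 57, nat_lit 190, nat_lit 38])))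 (.node (nat_lit 10) (.node (nat_lit 8) r46 r47) (.node (nat_lit 13) r48 r54))))
noncomputable def r55 : WT := (.node (nat_lit 8) (.leaf (nat_lit 18438) [nat_lit 38, nat_lit 171, nat_lit 57]) (.node (nat_lit 9) (.leaf (nat_lit 21506) [nat_lit 152, nat_lit 171, nat_lit 152]) (.leaf (nat_lit 26626) [nat_lit 152, nat_lit 190, nat_lit 152, nat_lit 190])))
noncomputable def w7 : WT := (.node (nat_lit 1) (.leaf (nat_lit 4096) [nat_lit 171]) (.node (nat_lit 4) (.node (nat_lit 2) (.leaf (nat_lit 20486) [nat_lit 114, nat_lit 171, nat_lit 133]) (.node (nat_lit 3) (.leaf (nat_lit 18434) [nat_lit 57, nat_lit 171, nat_lit 38]) (.leaf (nat_lit 19458) [nat_lit 95, nat_lit 171, nat_lit 76]))) (.node (nat_lit 6) (.node (nat_lit 5) (.leaf (nat_lit 20482) [nat_lit 133, nat_lit 171, nat_lit 114]) (.leaf (nat_lit 19462) [nat_lit 76, nat_lit 171, nat_lit 95])) (.node (nat_lit 7) (.leaf (nat_lit 26631) [nat_lit 190, nat_lit 152, nat_lit 190, nat_lit 152]) r55))))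
noncomputable def r56 : WT := (.leaf (nat_lit 28672) [nat_lit 76, nat_lit 133, nat_lit 38, nat_lit 190, nat_lit 57, nat_lit 114, nat_lit 95, nat_lit 95, nat_lit 38, nat_lit 152, nat_lit 190, nat_lit 152, nat_lit 57, nat_lit 76])
noncomputable def r57 : WT := (.node (nat_lit 5) r56 (.leaf (nat_lit 23566) [nat_lit 133, nat_lit 38, nat_lit 114, nat_lit 190, nat_lit 133, nat_lit 57, nat_lit 114]))
noncomputable def r58 : WT := (.leaf (nat_lit 28701) [nat_lit 95, nat_lit 38, nat_lit 152, nat_lit 190, nat_lit 152, nat_lit 57, nat_lit 76, nat_lit 76, nat_lit 133, nat_lit 38, nat_lit 190, nat_lit 57, nat_lit 114, nat_lit 95])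
noncomputable def r59 : WT := (.leaf (nat_lit 28679) [nat_lit 152, nat_lit 57, nat_lit 76, nat_lit 76, nat_lit 133, nat_lit 38, nat_lit 190, nat_lit 57, nat_lit 114, nat_lit 95, nat_lit 190, nat_lit 95, nat_lit 38, nat_lit 152])
noncomputable def r60 : WT := (.node (nat_lit 7) r58 r59)
noncomputable def r61 : WT := (.leaf (nat_lit 27675) [nat_lit 114, nat_lit 57, nat_lit 152, nat_lit 114, nat_lit 57, nat_lit 190, nat_lit 38, nat_lit 133, nat_lit 152, nat_lit 38, nat_lit 38, nat_lit 190, nat_lit 57, nat_lit 133])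
noncomputable def r62 : WT := (.node (nat_lit 9) (.leaf (nat_lit 24590) [nat_lit 38, nat_lit 76, nat_lit 114, nat_lit 190, nat_lit 133, nat_lit 95, nat_lit 57]) (.node (nat_lit 10) (.leaf (nat_lit 25618) [nat_lit 95, nat_lit 114, nat_lit 76, nat_lit 57, nat_lit 190, nat_lit 38, nat_lit 95, nat_lit 133, nat_lit 76]) r61))
noncomputable def r63 : WT := (.leaf (nat_lit 27656) [nat_lit 57, nat_lit 57, nat_lit 152, nat_lit 114, nat_lit 57, nat_lit 190, nat_lit 38, nat_lit 133, nat_lit 152, nat_lit 38, nat_lit 133, nat_lit 190, nat_lit 114, nat_lit 38])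
noncomputable def r64 : WT := (.leaf (nat_lit 28680) [nat_lit 57, nat_lit 114, nat_lit 95, nat_lit 95, nat_lit 38, nat_lit 152, nat_lit 190, nat_lit 152, nat_lit 57, nat_lit 76, nat_lit 190, nat_lit 76, nat_lit 133, nat_lit 38])
noncomputable def r65 : WT := (.leaf (nat_lit 28694) [nat_lit 152, nat_lit 57, nat_lit 76, nat_lit 190, nat_lit 76, nat_lit 133, nat_lit 38, nat_lit 190, nat_lit 57, nat_lit 114, nat_lit 95, nat_lit 95, nat_lit 38, nat_lit 152])
noncomputable def r66 : WT := (.leaf (nat_lit 27669) [nat_lit 57, nat_lit 133, nat_lit 190, nat_lit 114, nat_lit 57, nat_lit 152, nat_lit 114, nat_lit 57, nat_lit 190, nat_lit 38, nat_lit 133, nat_lit 152, nat_lit 38, nat_lit 38])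
noncomputable def r67 : WT := (.node (nat_lit 13) (.node (nat_lit 12) (.leaf (nat_lit 24582) [nat_lit 133, nat_lit 95, nat_lit 57, nat_lit 190, nat_lit 38, nat_lit 76, nat_lit 114]) r63) (.node (nat_lit 15) (.node (nat_lit 14) r64 r65) (.node (nat_lit 16) r66 (.leaf (nat_lit 25608) [nat_lit 38, nat_lit 95, nat_lit 133, nat_lit 76, nat_lit 190, nat_lit 95, nat_lit 114, nat_lit 76, nat_lit 57]))))
noncomputable def w8 : WT := (.node (nat_lit 1) (.leaf (nat_lit 5120) [nat_lit 190]) (.node (nat_lit 4) (.node (nat_lit 2) (.leaf (nat_lit 26630) [nat_lit 152, nat_lit 190, nat_lit 171, nat_lit 152]) (.node (nat_lit 3) (.leaf (nat_lit 26624) [nat_lit 171, nat_lit 152, nat_lit 190, nat_lit 152]) (.leaf (nat_lit 23558) [nat_lit 133, nat_lit 57, nat_lit 114, nat_lit 190, nat_lit 133, nat_lit 38, nat_lit 114]))) (.node (nat_lit 8) (.node (nat_lit 6) r57 r60) (.node (nat_lit 11) r62 r67))))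
noncomputable def r68 : WT := (.leaf (nat_lit 27649) [nat_lit 57, nat_lit 152, nat_lit 114, nat_lit 57, nat_lit 190, nat_lit 38, nat_lit 133, nat_lit 152, nat_lit 38, nat_lit 38, nat_lit 190, nat_lit 57, nat_lit 133, nat_lit 190, nat_lit 114])
noncomputable def wP : WT := (.node (nat_lit 5) (.node (nat_lit 2) (.node (nat_lit 1) (.leaf (nat_lit 26626) [nat_lit 171, nat_lit 152, nat_lit 190, nat_lit 152, nat_lit 190]) (.leaf (nat_lit 8193) [nat_lit 133, nat_lit 133, nat_lit 133, nat_lit 133])) (.node (nat_lit 3) (.leaf (nat_lit 26625) [nat_lit 152, nat_lit 190, nat_lit 152, nat_lit 171, nat_lit 190]) (.node (nat_lit 4) (.leaf (nat_lit 9218) [nat_lit 76, nat_lit 114, nat_lit 38, nat_lit 76, nat_lit 114, nat_lit 38]) (.leaf (nat_lit 24586) [nat_lit 95, nat_lit 57, nat_lit 190, nat_lit 38, nat_lit 76, nat_lit 114, nat_lit 190, nat_lit 133])))) (.node (nat_lit 8) (.node (nat_lit 6) (.leaf (nat_lit 11267) [nat_lit 57, nat_lit 114, nat_lit 114, nat_lit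 95, nat_lit 114, nat_lit 76, nat_lit 57, nat_lit 57, nat_lit 114]) (.node (nat_lit 7) (.leaf (nat_lit 13312) [nat_lit 38, nat_lit 76, nat_lit 133, nat_lit 57, nat_lit 114, nat_lit 95, nat_lit 114, nat_lit 38, nat_lit 133]) (.leaf (nat_lit 13314) [nat_lit 76, nat_lit 133, nat_lit 57, nat_lit 114, nat_lit 95, nat_lit 114, nat_lit 38, nat_lit 133, nat_lit 38]))) (.node (nat_lit 10) (.node (nat_lit 9) (.leaf (nat_lit 13326) [nat_lit 38, nat_lit 133, nat_lit 38, nat_lit 76, nat_lit 133, nat_lit 57, nat_lit 114, nat_lit 95, nat_lit 114]) (.leaf (nat_lit 14340) [nat_lit 114, nat_lit 76, nat_lit 57, nat_lit 114, nat_lit 114, nat_lit 38, nat_lit 133, nat_lit 38, nat_lit 95])) (.node (nat_lit 11) (.leaf (nat_lit 15375) [nat_lit 95, nat_lit 95, nat_lit 133, nat_lit 76, nat_lit 133, nat_lit 76, nat_lit 133, nat_lit 76, nat_lit 133]) r68))))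
noncomputable def P : Par := ⟨tb, nat_lit 209, nat_lit 0x1ffffffffffffffffffffffffffffffffffffffffffffffffffff, nat_lit 850, nat_lit 524287, nat_lit 1023, nat_lit 19, nat_lit 10, nat_lit 128,
  [nat_lit 38, nat_lit 57, nat_lit 76, nat_lit 95, nat_lit 114, nat_lit 133, nat_lit 152, nat_lit 171, nat_lit 190], [nat_lit 38, nat_lit 76, nat_lit 114, nat_lit 152], wP,
  (.cons (nat_lit 38) w0 (.cons (nat_lit 57) w1 (.cons (nat_lit 76) w2 (.cons (nat_lit 95) w3 (.cons (nat_lit 114) w4 (.cons (nat_lit 133) w5 (.cons (nat_lit 152) w6 (.cons (nat_lit 171) w7 (.cons (nat_lit 190) w8 .nil))))))))),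
  .nil⟩

end Cfsg.Agent.Lib.TCJ47
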