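import Cfsg.Agent.Lib.TCJ48D0

set_option autoImplicit false
set_option maxRecDepth 100000

namespace Cfsg.Agent.Lib.TCJ48
open Cfsg.Agent.Lib.TCCore

noncomputable def n0 : T := (.node (nat_lit 232) l3 l4)
noncomputable def n1 : T := (.node (nat_lit 522) l8 l9)
noncomputable def n2 : T := (.node (nat_lit 812) l13 l14)
noncomputable def n3 : T := (.node (nat_lit 986) l16 l17)
noncomputable def n4 : T := (.node (nat_lit 1160) l19 l20)
noncomputable def n5 : T := (.node (nat_lit 1450) l24 l25)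
noncomputable def n6 : T := (.node (nat_lit 1624) l27 l28)
noncomputable def n7 : T := (.node (nat_lit 1798) l30 l31)
noncomputable def n8 : T := (.node (nat_lit 2088) l35 l36)
noncomputable def n9 : T := (.node (nat_lit 2262) l38 l39)
noncomputable def n10 : T := (.node (nat_lit 2436) l41 l42)
noncomputable def tb : T := (.node (nat_lit 1218) (.node (nat_lit 580) (.node (nat_lit 290) (.node (nat_lit 116) (.node (nat_lit 58) l0 l1) (.node (nat_lit 174) l2 n0)) (.node (nat_lit 406) (.node (nat_lit 348) l5 l6) (.node (nat_lit 464) l7 n1))) (.node (nat_lit 870) (.node (nat_lit 696) (.node (nat_lit 638) l10 l11) (.node (nat_lit 754) l12 n2)) (.node (nat_lit 1044) (.node (nat_lit 928) l15 n3) (.node (nat_lit 1102) l18 n4)))) (.node (nat_lit 1856) (.node (nat_lit 1508) (.node (nat_lit 1334) (.node (nat_lit 1276) l21 l22) (.node (nat_lit 1392) l23 n5)) (.node (nat_lit 1682) (.node (nat_lit 1566) l26 n6) (.node (nat_lit 1740) l29 n7))) (.node (nat_lit 2146) (.node (nat_lit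 1972) (.node (nat_lit 1914) l32 l33) (.node (nat_lit 2030) l34 n8)) (.node (nat_lit 2320) (.node (nat_lit 2204) l37 n9) (.node (nat_lit 2378) l40 n10)))))
noncomputable def w0 : WT := (.node (nat_lit 1) (.leaf (nat_lit 0) [nat_lit 44]) (.node (nat_lit 2) (.leaf (nat_lit 9216) [nat_lit 110, nat_lit 286, nat_lit 154, nat_lit 242, nat_lit 110, nat_lit 198, nat_lit 132, nat_lit 176, nat_lit 198, nat_lit 264, nat_lit 132]) (.leaf (nat_lit 9239) [nat_lit 110, nat_lit 286, nat_lit 220, nat_lit 154, nat_lit 110, nat_lit 220, nat_lit 132, nat_lit 242, nat_lit 176, nat_lit 264, nat_lit 132])))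
noncomputable def w1 : WT := (.node (nat_lit 1) (.leaf (nat_lit 1024) [nat_lit 88]) (.node (nat_lit 2) (.leaf (nat_lit 10253) [nat_lit 176, nat_lit 110, nat_lit 154, nat_lit 132, nat_lit 242, nat_lit 154]) (.leaf (nat_lit 8192) [nat_lit 66, nat_lit 66])))
noncomputable def w2 : WT := (.node (nat_lit 1) (.leaf (nat_lit 1026) [nat_lit 66]) (.node (nat_lit 2) (.leaf (nat_lit 10240) [nat_lit 176, nat_lit 242, nat_lit 110, nat_lit 176, nat_lit 132, nat_lit 154]) (.leaf (nat_lit 8193) [nat_lit 88, nat_lit 88])))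
noncomputable def r0 : WT := (.node (nat_lit 4) (.leaf (nat_lit 15360) [nat_lit 154, nat_lit 198, nat_lit 110, nat_lit 154, nat_lit 198]) (.leaf (nat_lit 16384) [nat_lit 198, nat_lit 242, nat_lit 220, nat_lit 132, nat_lit 242]))
noncomputable def r1 : WT := (.leaf (nat_lit 40987) [nat_lit 264, nat_lit 308, nat_lit 286, nat_lit 242, nat_lit 198, nat_lit 198, nat_lit 264, nat_lit 308, nat_lit 286, nat_lit 220, nat_lit 220, nat_lit 242, nat_lit 132, nat_lit 264, nat_lit 308, nat_lit 286])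
noncomputable def r2 : WT := (.node (nat_lit 7) (.node (nat_lit 6) (.leaf (nat_lit 9218) [nat_lit 286, nat_lit 154, nat_lit 242, nat_lit 110, nat_lit 198, nat_lit 132, nat_lit 176, nat_lit 198, nat_lit 264, nat_lit 132, nat_lit 44]) (.leaf (nat_lit 23556) [nat_lit 176, nat_lit 220, nat_lit 176, nat_lit 220, nat_lit 176, nat_lit 198, nat_lit 154, nat_lit 220, nat_lit 110, nat_lit 176])) (.node (nat_lit 8) (.leaf (nat_lit 20480) [nat_lit 110, nat_lit 220, nat_lit 176, nat_lit 198, nat_lit 198, nat_lit 154, nat_lit 198, nat_lit 110, nat_lit 220, nat_lit 220]) r1))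
noncomputable def r3 : WT := (.leaf (nat_lit 40974) [nat_lit 242, nat_lit 198, nat_lit 198, nat_lit 264, nat_lit 308, nat_lit 286, nat_lit 220, nat_lit 220, nat_lit 242, nat_lit 264, nat_lit 308, nat_lit 286, nat_lit 132, nat_lit 264, nat_lit 308, nat_lit 286])
noncomputable def r4 : WT := (.node (nat_lit 12) (.node (nat_lit 10) r3 (.node (nat_lit 11) (.leaf (nat_lit 26633) [nat_lit 176, nat_lit 110, nat_lit 220, nat_lit 220, nat_lit 132, nat_lit 132, nat_lit 198, nat_lit 198, nat_lit 132, nat_lit 154]) (.leaf (nat_lit 22528) [nat_lit 110, nat_lit 242, nat_lit 110, nat_lit 286, nat_lit 132, nat_lit 220, nat_lit 132, nat_lit 242, nat_lit 220, nat_lit 264]))) (.node (nat_lit 14) (.node (nat_lit 13) (.leaf (nat_lit 21515) [nat_lit 154, nat_lit 220, nat_lit 110, nat_lit 176, nat_lit 132, nat_lit 220, nat_lit 220, nat_lit 154, nat_lit 132, nat_lit 220]) (.leaf (nat_lit 25618) [nat_lit 176, nat_lit 110, nat_lit 110, nat_lit 220, nat_lit 132, nat_lit 220, nat_lit 220, nat_lit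 176, nat_lit 220, nat_lit 176])) (.node (nat_lit 15) (.leaf (nat_lit 18436) [nat_lit 242, nat_lit 198, nat_lit 110, nat_lit 198, nat_lit 242, nat_lit 110, nat_lit 242, nat_lit 198, nat_lit 110, nat_lit 198]) (.leaf (nat_lit 10243) [nat_lit 154, nat_lit 132, nat_lit 242, nat_lit 154, nat_lit 66, nat_lit 176]))))
noncomputable def r5 : WT := (.node (nat_lit 21) (.node (nat_lit 18) (.node (nat_lit 17) (.leaf (nat_lit 23552) [nat_lit 176, nat_lit 110, nat_lit 176, nat_lit 220, nat_lit 176, nat_lit 220, nat_lit 176, nat_lit 198, nat_lit 154, nat_lit 220]) (.leaf (nat_lit 28688) [nat_lit 220, nat_lit 220, nat_lit 110, nat_lit 154, nat_lit 132, nat_lit 176, nat_lit 176, nat_lit 198, nat_lit 198, nat_lit 154])) (.node (nat_lit 19) (.leaf (nat_lit 19456) [nat_lit 198, nat_lit 110, nat_lit 286, nat_lit 242, nat_lit 198, nat_lit 242, nat_lit 220, nat_lit 242, nat_lit 264, nat_lit 198]) (.node (nat_lit 20) (.leaf (nat_lit 31753) [nat_lit 264, nat_lit 154, nat_lit 220, nat_lit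 176, nat_lit 286, nat_lit 132, nat_lit 154, nat_lit 242, nat_lit 264, nat_lit 176]) (.leaf (nat_lit 31744) [nat_lit 264, nat_lit 154, nat_lit 198, nat_lit 176, nat_lit 286, nat_lit 132, nat_lit 154, nat_lit 286, nat_lit 242, nat_lit 176])))) (.node (nat_lit 24) (.node (nat_lit 22) (.leaf (nat_lit 17408) [nat_lit 154, nat_lit 286, nat_lit 176, nat_lit 242, nat_lit 154, nat_lit 242, nat_lit 264, nat_lit 176, nat_lit 132, nat_lit 242]) (.node (nat_lit 23) (.leaf (nat_lit 32777) [nat_lit 176, nat_lit 198, nat_lit 176, nat_lit 220, nat_lit 154, nat_lit 132, nat_lit 220, nat_lit 176, nat_lit 198, nat_lit 176]) (.leaf (nat_lit 21518) [nat_lit 176, nat_lit 198, nat_lit 198, nat_lit 110, nat_lit 154, nat_lit 132, nat_lit 198, nat_lit 176, nat_lit 132, nat_lit 198]))) (.node (nat_lit 26) (.node (nat_lit 25) (.leaf (nat_lit 18448) [nat_lit 242, nat_lit 198, nat_lit 110, nat_lit 198, nat_lit 110, nat_lit 242, nat_lit 198, nat_lit 110, nat_lit 198, nat_lit 242]) (.leaf (nat_lit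 25600) [nat_lit 110, nat_lit 220, nat_lit 132, nat_lit 220, nat_lit 220, nat_lit 176, nat_lit 220, nat_lit 176, nat_lit 110, nat_lit 176])) (.node (nat_lit 27) (.leaf (nat_lit 29706) [nat_lit 220, nat_lit 154, nat_lit 198, nat_lit 154, nat_lit 198, nat_lit 110, nat_lit 110, nat_lit 154, nat_lit 220, nat_lit 176]) (.leaf (nat_lit 22539) [nat_lit 264, nat_lit 132, nat_lit 242, nat_lit 132, nat_lit 132, nat_lit 286, nat_lit 198, nat_lit 242, nat_lit 110, nat_lit 198])))))
noncomputable def r6 : WT := (.node (nat_lit 32) (.leaf (nat_lit 9217) [nat_lit 286, nat_lit 220, nat_lit 154, nat_lit 110, nat_lit 220, nat_lit 132, nat_lit 242, nat_lit 176, nat_lit 264, nat_lit 132, nat_lit 44]) (.leaf (nat_lit 28689) [nat_lit 176, nat_lit 132, nat_lit 198, nat_lit 198, nat_lit 132, nat_lit 176, nat_lit 220, nat_lit 220, nat_lit 154, nat_lit 154]))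
noncomputable def r7 : WT := (.node (nat_lit 37) (.leaf (nat_lit 20482) [nat_lit 220, nat_lit 176, nat_lit 198, nat_lit 198, nat_lit 154, nat_lit 198, nat_lit 110, nat_lit 220, nat_lit 220, nat_lit 110]) (.leaf (nat_lit 21521) [nat_lit 176, nat_lit 132, nat_lit 220, nat_lit 220, nat_lit 154, nat_lit 132, nat_lit 220, nat_lit 110, nat_lit 154, nat_lit 220]))
noncomputable def r8 : WT := (.node (nat_lit 40) (.leaf (nat_lit 26640) [nat_lit 220, nat_lit 220, nat_lit 110, nat_lit 110, nat_lit 198, nat_lit 198, nat_lit 132, nat_lit 154, nat_lit 132, nat_lit 176]) (.leaf (nat_lit 19460) [nat_lit 286, nat_lit 242, nat_lit 198, nat_lit 242, nat_lit 220, nat_lit 242, nat_lit 264, nat_lit 198, nat_lit 110, nat_lit 198]))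
noncomputable def r9 : WT := (.node (nat_lit 42) (.leaf (nat_lit 33797) [nat_lit 198, nat_lit 110, nat_lit 176, nat_lit 220, nat_lit 176, nat_lit 198, nat_lit 176, nat_lit 132, nat_lit 198, nat_lit 176]) (.leaf (nat_lit 30720) [nat_lit 198, nat_lit 132, nat_lit 220, nat_lit 220, nat_lit 242, nat_lit 176, nat_lit 242, nat_lit 198, nat_lit 242, nat_lit 154]))
noncomputable def r10 : WT := (.node (nat_lit 44) (.leaf (nat_lit 26624) [nat_lit 110, nat_lit 198, nat_lit 198, nat_lit 132, nat_lit 154, nat_lit 132, nat_lit 176, nat_lit 110, nat_lit 220, nat_lit 220]) (.leaf (nat_lit 32768) [nat_lit 176, nat_lit 198, nat_lit 154, nat_lit 220, nat_lit 154, nat_lit 132, nat_lit 154, nat_lit 220, nat_lit 154, nat_lit 198]))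
noncomputable def r11 : WT := (.node (nat_lit 46) (.leaf (nat_lit 20496) [nat_lit 220, nat_lit 220, nat_lit 110, nat_lit 110, nat_lit 220, nat_lit 176, nat_lit 198, nat_lit 198, nat_lit 154, nat_lit 198]) (.leaf (nat_lit 33792) [nat_lit 154, nat_lit 220, nat_lit 154, nat_lit 198, nat_lit 154, nat_lit 132, nat_lit 220, nat_lit 132, nat_lit 154, nat_lit 220]))
noncomputable def r12 : WT := (.node (nat_lit 48) (.leaf (nat_lit 28672) [nat_lit 154, nat_lit 132, nat_lit 176, nat_lit 176, nat_lit 198, nat_lit 198, nat_lit 154, nat_lit 110, nat_lit 220, nat_lit 220]) (.node (nat_lit 49) (.leaf (nat_lit 30737) [nat_lit 220, nat_lit 132, nat_lit 176, nat_lit 242, nat_lit 220, nat_lit 242, nat_lit 154, nat_lit 242, nat_lit 198, nat_lit 198]) (.leaf (nat_lit 21504) [nat_lit 154, nat_lit 132, nat_lit 198, nat_lit 176, nat_lit 132, nat_lit 198, nat_lit 110, nat_lit 176, nat_lit 198, nat_lit 198])))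
noncomputable def r13 : WT := (.node (nat_lit 52) (.node (nat_lit 51) (.leaf (nat_lit 27663) [nat_lit 286, nat_lit 154, nat_lit 132, nat_lit 220, nat_lit 154, nat_lit 286, nat_lit 198, nat_lit 110, nat_lit 286, nat_lit 198]) (.leaf (nat_lit 9225) [nat_lit 220, nat_lit 132, nat_lit 242, nat_lit 176, nat_lit 264, nat_lit 132, nat_lit 44, nat_lit 110, nat_lit 286, nat_lit 220, nat_lit 154])) (.node (nat_lit 53) (.leaf (nat_lit 29698) [nat_lit 154, nat_lit 220, nat_lit 176, nat_lit 110, nat_lit 220, nat_lit 154, nat_lit 198, nat_lit 154, nat_lit 198, nat_lit 110]) (.leaf (nat_lit 22530) [nat_lit 242, nat_lit 110, nat_lit 286, nat_lit 132, nat_lit 220, nat_lit 132, nat_lit 242, nat_lit 220, nat_lit 264, nat_lit 110])))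
noncomputable def r14 : WT := (.node (nat_lit 56) (.node (nat_lit 55) (.leaf (nat_lit 25602) [nat_lit 220, nat_lit 132, nat_lit 220, nat_lit 220, nat_lit 176, nat_lit 220, nat_lit 176, nat_lit 110, nat_lit 176, nat_lit 110]) (.leaf (nat_lit 25615) [nat_lit 198, nat_lit 132, nat_lit 132, nat_lit 154, nat_lit 132, nat_lit 154, nat_lit 198, nat_lit 154, nat_lit 198, nat_lit 198])) (.node (nat_lit 57) (.leaf (nat_lit 34816) [nat_lit 176, nat_lit 198, nat_lit 110, nat_lit 198, nat_lit 110, nat_lit 220, nat_lit 154, nat_lit 154, nat_lit 220, nat_lit 176]) (.node (nat_lit 58) (.leaf (nat_lit 17411) [nat_lit 154, nat_lit 286, nat_lit 242, nat_lit 176, nat_lit 242, nat_lit 154, nat_lit 264, nat_lit 176, nat_lit 132, nat_lit 242]) (.leaf (nat_lit 26626) [nat_lit 198, nat_lit 198, nat_lit 132, nat_lit 154, nat_lit 132, nat_lit 176, nat_lit 110, nat_lit 220, nat_lit 220, nat_lit 110]))))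
noncomputable def r15 : WT := (.node (nat_lit 38) (.node (nat_lit 33) (.node (nat_lit 30) (.node (nat_lit 29) (.leaf (nat_lit 22534) [nat_lit 286, nat_lit 132, nat_lit 220, nat_lit 132, nat_lit 242, nat_lit 220, nat_lit 264, nat_lit 110, nat_lit 110, nat_lit 242]) (.leaf (nat_lit 18442) [nat_lit 198, nat_lit 242, nat_lit 110, nat_lit 242, nat_lit 198, nat_lit 110, nat_lit 198, nat_lit 110, nat_lit 242, nat_lit 198])) (.node (nat_lit 31) (.leaf (nat_lit 27648) [nat_lit 176, nat_lit 264, nat_lit 132, nat_lit 220, nat_lit 264, nat_lit 132, nat_lit 220, nat_lit 264, nat_lit 176, nat_lit 198]) r6)) (.node (nat_lit 35) (.node (nat_lit 34) (.leaf (nat_lit 10246) [nat_lit 176, nat_lit 132, nat_lit 154, nat_lit 88, nat_lit 176, nat_lit 242]) (.leaf (nat_lit 27657) [nat_lit 286, nat_lit 198, nat_lit 110, nat_lit 286, nat_lit 154, nat_lit 132, nat_lit 220, nat_lit 154, nat_lit 286, nat_lit 198])) (.node (nat_lit 36) (.leaf (nat_lit 26637) [nat_lit 220, nat_lit 220, nat_lit 132,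 nat_lit 132, nat_lit 198, nat_lit 198, nat_lit 132, nat_lit 154, nat_lit 110, nat_lit 176]) r7))) (.node (nat_lit 45) (.node (nat_lit 41) (.node (nat_lit 39) (.leaf (nat_lit 18432) [nat_lit 198, nat_lit 110, nat_lit 242, nat_lit 198, nat_lit 110, nat_lit 198, nat_lit 242, nat_lit 110, nat_lit 242, nat_lit 198]) r8) (.node (nat_lit 43) r9 r10)) (.node (nat_lit 50) (.node (nat_lit 47) r11 r12) (.node (nat_lit 54) r13 r14))))
noncomputable def w3 : WT := (.node (nat_lit 1) (.leaf (nat_lit 2048) [nat_lit 132]) (.node (nat_lit 5) (.node (nat_lit 2) (.leaf (nat_lit 11264) [nat_lit 110, nat_lit 110]) (.node (nat_lit 3) (.leaf (nat_lit 35840) [nat_lit 308, nat_lit 132, nat_lit 308]) r0)) (.node (nat_lit 16) (.node (nat_lit 9) r2 r4) (.node (nat_lit 28) r5 r15))))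
noncomputable def r16 : WT := (.node (nat_lit 5) (.leaf (nat_lit 16392) [nat_lit 242, nat_lit 110, nat_lit 198, nat_lit 242, nat_lit 220]) (.node (nat_lit 6) (.leaf (nat_lit 20485) [nat_lit 220, nat_lit 176, nat_lit 220, nat_lit 220, nat_lit 154, nat_lit 198, nat_lit 132, nat_lit 132, nat_lit 198, nat_lit 198]) (.leaf (nat_lit 31756) [nat_lit 154, nat_lit 286, nat_lit 242, nat_lit 176, nat_lit 110, nat_lit 264, nat_lit 154, nat_lit 198, nat_lit 176, nat_lit 286])))
noncomputable def r17 : WT := (.node (nat_lit 10) (.node (nat_lit 8) (.leaf (nat_lit 22538) [nat_lit 220, nat_lit 132, nat_lit 242, nat_lit 220, nat_lit 264, nat_lit 110, nat_lit 110, nat_lit 242, nat_lit 110, nat_lit 286]) (.node (nat_lit 9) (.leaf (nat_lit 18437) [nat_lit 242, nat_lit 220, nat_lit 132, nat_lit 220, nat_lit 242, nat_lit 132, nat_lit 220, nat_lit 132, nat_lit 220, nat_lit 242]) (.leaf (nat_lit 19473) [nat_lit 220, nat_lit 132, nat_lit 220, nat_lit 286, nat_lit 242, nat_lit 198, nat_lit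 242, nat_lit 220, nat_lit 242, nat_lit 264]))) (.node (nat_lit 12) (.node (nat_lit 11) (.leaf (nat_lit 9238) [nat_lit 44, nat_lit 110, nat_lit 286, nat_lit 154, nat_lit 242, nat_lit 110, nat_lit 198, nat_lit 132, nat_lit 176, nat_lit 198, nat_lit 264]) (.leaf (nat_lit 10247) [nat_lit 242, nat_lit 154, nat_lit 66, nat_lit 176, nat_lit 110, nat_lit 154])) (.node (nat_lit 13) (.leaf (nat_lit 20499) [nat_lit 132, nat_lit 198, nat_lit 198, nat_lit 132, nat_lit 220, nat_lit 176, nat_lit 220, nat_lit 220, nat_lit 154, nat_lit 198]) (.leaf (nat_lit 21508) [nat_lit 198, nat_lit 176, nat_lit 132, nat_lit 198, nat_lit 110, nat_lit 176, nat_lit 198, nat_lit 198, nat_lit 110, nat_lit 154]))))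
noncomputable def r18 : WT := (.leaf (nat_lit 40966) [nat_lit 264, nat_lit 308, nat_lit 286, nat_lit 110, nat_lit 242, nat_lit 198, nat_lit 198, nat_lit 264, nat_lit 308, nat_lit 286, nat_lit 220, nat_lit 220, nat_lit 242, nat_lit 264, nat_lit 308, nat_lit 286])
noncomputable def r19 : WT := (.node (nat_lit 19) (.node (nat_lit 16) (.node (nat_lit 15) r18 (.leaf (nat_lit 21511) [nat_lit 220, nat_lit 110, nat_lit 154, nat_lit 220, nat_lit 110, nat_lit 176, nat_lit 132, nat_lit 220, nat_lit 220, nat_lit 154])) (.node (nat_lit 17) (.leaf (nat_lit 25619) [nat_lit 132, nat_lit 154, nat_lit 132, nat_lit 154, nat_lit 198, nat_lit 154, nat_lit 198, nat_lit 198, nat_lit 110, nat_lit 198]) (.node (nat_lit 18) (.leaf (nat_lit 23569) [nat_lit 154, nat_lit 132, nat_lit 198, nat_lit 176, nat_lit 220, nat_lit 154, nat_lit 198, nat_lit 154, nat_lit 198, nat_lit 154]) (.leaf (nat_lit 30741) [nat_lit 176, nat_lit 242, nat_lit 220, nat_lit 242, nat_lit 154, nat_lit 242, nat_lit 198,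 nat_lit 198, nat_lit 110, nat_lit 220])))) (.node (nat_lit 23) (.node (nat_lit 21) (.node (nat_lit 20) (.leaf (nat_lit 22543) [nat_lit 242, nat_lit 132, nat_lit 132, nat_lit 286, nat_lit 198, nat_lit 242, nat_lit 110, nat_lit 198, nat_lit 110, nat_lit 264]) (.leaf (nat_lit 31765) [nat_lit 154, nat_lit 242, nat_lit 264, nat_lit 176, nat_lit 110, nat_lit 264, nat_lit 154, nat_lit 220, nat_lit 176, nat_lit 286])) (.node (nat_lit 22) (.leaf (nat_lit 21514) [nat_lit 198, nat_lit 110, nat_lit 176, nat_lit 198, nat_lit 198, nat_lit 110, nat_lit 154, nat_lit 132, nat_lit 198, nat_lit 176]) (.leaf (nat_lit 19477) [nat_lit 220, nat_lit 286, nat_lit 242, nat_lit 198, nat_lit 242, nat_lit 220, nat_lit 242, nat_lit 264, nat_lit 132, nat_lit 220]))) (.node (nat_lit 25) (.node (nat_lit 24) (.leaf (nat_lit 32780) [nat_lit 154, nat_lit 220, nat_lit 154, nat_lit 198, nat_lit 110, nat_lit 176, nat_lit 198, nat_lit 154, nat_lit 220, nat_lit 154]) (.leaf (nat_lit 28693) [nat_lit 198,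 nat_lit 198, nat_lit 132, nat_lit 176, nat_lit 220, nat_lit 220, nat_lit 154, nat_lit 154, nat_lit 110, nat_lit 176])) (.node (nat_lit 26) (.leaf (nat_lit 27669) [nat_lit 220, nat_lit 154, nat_lit 286, nat_lit 198, nat_lit 110, nat_lit 286, nat_lit 198, nat_lit 110, nat_lit 286, nat_lit 154]) (.leaf (nat_lit 10250) [nat_lit 154, nat_lit 88, nat_lit 176, nat_lit 242, nat_lit 110, nat_lit 176])))))
noncomputable def r20 : WT := (.node (nat_lit 31) (.leaf (nat_lit 30724) [nat_lit 220, nat_lit 220, nat_lit 242, nat_lit 176, nat_lit 242, nat_lit 198, nat_lit 242, nat_lit 154, nat_lit 110, nat_lit 198]) (.leaf (nat_lit 26629) [nat_lit 154, nat_lit 110, nat_lit 176, nat_lit 110, nat_lit 220, nat_lit 220, nat_lit 132, nat_lit 132, nat_lit 198, nat_lit 198]))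
noncomputable def r21 : WT := (.node (nat_lit 34) (.leaf (nat_lit 27654) [nat_lit 220, nat_lit 264, nat_lit 132, nat_lit 220, nat_lit 264, nat_lit 176, nat_lit 198, nat_lit 110, nat_lit 176, nat_lit 264]) (.leaf (nat_lit 27660) [nat_lit 220, nat_lit 264, nat_lit 176, nat_lit 198, nat_lit 110, nat_lit 176, nat_lit 264, nat_lit 132, nat_lit 220, nat_lit 264]))
noncomputable def r22 : WT := (.node (nat_lit 37) (.leaf (nat_lit 32789) [nat_lit 220, nat_lit 176, nat_lit 198, nat_lit 176, nat_lit 110, nat_lit 176, nat_lit 198, nat_lit 176, nat_lit 220, nat_lit 154]) (.leaf (nat_lit 18453) [nat_lit 220, nat_lit 242, nat_lit 132, nat_lit 242, nat_lit 220, nat_lit 132, nat_lit 220, nat_lit 242, nat_lit 132, nat_lit 220]))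
noncomputable def r23 : WT := (.node (nat_lit 40) (.leaf (nat_lit 28677) [nat_lit 176, nat_lit 220, nat_lit 220, nat_lit 154, nat_lit 154, nat_lit 110, nat_lit 176, nat_lit 132, nat_lit 198, nat_lit 198]) (.leaf (nat_lit 21525) [nat_lit 220, nat_lit 220, nat_lit 154, nat_lit 132, nat_lit 220, nat_lit 110, nat_lit 154, nat_lit 220, nat_lit 110, nat_lit 176]))
noncomputable def r24 : WT := (.node (nat_lit 42) (.leaf (nat_lit 23573) [nat_lit 198, nat_lit 176, nat_lit 220, nat_lit 154, nat_lit 198, nat_lit 154, nat_lit 198, nat_lit 154, nat_lit 132, nat_lit 154]) (.leaf (nat_lit 25606) [nat_lit 220, nat_lit 220, nat_lit 176, nat_lit 220, nat_lit 176, nat_lit 110, nat_lit 176, nat_lit 110, nat_lit 110, nat_lit 220]))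
noncomputable def r25 : WT := (.node (nat_lit 44) (.leaf (nat_lit 25603) [nat_lit 154, nat_lit 198, nat_lit 154, nat_lit 198, nat_lit 198, nat_lit 110, nat_lit 198, nat_lit 132, nat_lit 132, nat_lit 154]) (.leaf (nat_lit 28676) [nat_lit 176, nat_lit 176, nat_lit 198, nat_lit 198, nat_lit 154, nat_lit 110, nat_lit 220, nat_lit 220, nat_lit 110, nat_lit 154]))
noncomputable def r26 : WT := (.node (nat_lit 46) (.leaf (nat_lit 17426) [nat_lit 242, nat_lit 110, nat_lit 154, nat_lit 286, nat_lit 176, nat_lit 242, nat_lit 154, nat_lit 242, nat_lit 264, nat_lit 176]) (.node (nat_lit 47) (.leaf (nat_lit 22549) [nat_lit 286, nat_lit 198, nat_lit 242, nat_lit 110, nat_lit 198, nat_lit 110, nat_lit 264, nat_lit 132, nat_lit 242, nat_lit 132]) (.leaf (nat_lit 22547) [nat_lit 132, nat_lit 286, nat_lit 198, nat_lit 242, nat_lit 110, nat_lit 198, nat_lit 110, nat_lit 264, nat_lit 132, nat_lit 242])))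
noncomputable def r27 : WT := (.leaf (nat_lit 40979) [nat_lit 264, nat_lit 308, nat_lit 286, nat_lit 110, nat_lit 264, nat_lit 308, nat_lit 286, nat_lit 242, nat_lit 198, nat_lit 198, nat_lit 264, nat_lit 308, nat_lit 286, nat_lit 220, nat_lit 220, nat_lit 242])
noncomputable def r28 : WT := (.node (nat_lit 49) r27 (.node (nat_lit 50) (.leaf (nat_lit 9237) [nat_lit 44, nat_lit 110, nat_lit 286, nat_lit 220, nat_lit 154, nat_lit 110, nat_lit 220, nat_lit 132, nat_lit 242, nat_lit 176, nat_lit 264]) (.leaf (nat_lit 34831) [nat_lit 220, nat_lit 154, nat_lit 132, nat_lit 154, nat_lit 198, nat_lit 176, nat_lit 176, nat_lit 198, nat_lit 132, nat_lit 220])))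
noncomputable def r29 : WT := (.node (nat_lit 52) (.leaf (nat_lit 33808) [nat_lit 154, nat_lit 220, nat_lit 110, nat_lit 154, nat_lit 220, nat_lit 154, nat_lit 198, nat_lit 154, nat_lit 132, nat_lit 220]) (.node (nat_lit 53) (.leaf (nat_lit 29707) [nat_lit 154, nat_lit 198, nat_lit 176, nat_lit 132, nat_lit 132, nat_lit 220, nat_lit 176, nat_lit 220, nat_lit 176, nat_lit 198]) (.leaf (nat_lit 26645) [nat_lit 198, nat_lit 198, nat_lit 132, nat_lit 154, nat_lit 110, nat_lit 176, nat_lit 110, nat_lit 220, nat_lit 220, nat_lit 132])))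
noncomputable def r30 : WT := (.node (nat_lit 57) (.node (nat_lit 55) (.leaf (nat_lit 25621) [nat_lit 154, nat_lit 132, nat_lit 154, nat_lit 198, nat_lit 154, nat_lit 198, nat_lit 198, nat_lit 110, nat_lit 198, nat_lit 132]) (.node (nat_lit 56) (.leaf (nat_lit 33813) [nat_lit 198, nat_lit 176, nat_lit 110, nat_lit 198, nat_lit 110, nat_lit 176, nat_lit 220, nat_lit 176, nat_lit 198, nat_lit 176]) (.leaf (nat_lit 34827) [nat_lit 220, nat_lit 132, nat_lit 220, nat_lit 154, nat_lit 132, nat_lit 154, nat_lit 198, nat_lit 176, nat_lit 176, nat_lit 198]))) (.node (nat_lit 58) (.leaf (nat_lit 17429) [nat_lit 242, nat_lit 110, nat_lit 154, nat_lit 286, nat_lit 242, nat_lit 176, nat_lit 242, nat_lit 154, nat_lit 264, nat_lit 176]) (.node (nat_lit 59) (.leaf (nat_lit 29715) [nat_lit 132, nat_lit 220, nat_lit 176, nat_lit 220, nat_lit 176, nat_lit 198, nat_lit 132, nat_lit 154, nat_lit 198, nat_lit 176]) (.leaf (nat_lit 9229) [nat_lit 242, nat_lit 176, nat_lit 264, nat_lit 132,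 nat_lit 44, nat_lit 110, nat_lit 286, nat_lit 220, nat_lit 154, nat_lit 110, nat_lit 220]))))
noncomputable def r31 : WT := (.node (nat_lit 38) (.node (nat_lit 32) (.node (nat_lit 29) (.node (nat_lit 28) (.leaf (nat_lit 26636) [nat_lit 176, nat_lit 110, nat_lit 220, nat_lit 220, nat_lit 110, nat_lit 110, nat_lit 198, nat_lit 198, nat_lit 132, nat_lit 154]) (.leaf (nat_lit 18443) [nat_lit 220, nat_lit 242, nat_lit 132, nat_lit 220, nat_lit 132, nat_lit 220, nat_lit 242, nat_lit 132, nat_lit 242, nat_lit 220])) (.node (nat_lit 30) (.leaf (nat_lit 26632) [nat_lit 154, nat_lit 132, nat_lit 176, nat_lit 110, nat_lit 220, nat_lit 220, nat_lit 110, nat_lit 110, nat_lit 198, nat_lit 198]) r20)) (.node (nat_lit 35) (.node (nat_lit 33) (.leaf (nat_lit 26643) [nat_lit 132, nat_lit 198, nat_lit 198, nat_lit 132, nat_lit 154, nat_lit 110, nat_lit 176, nat_lit 110, nat_lit 220, nat_lit 220]) r21) (.node (nat_lit 36) (.leaf (nat_lit 20501) [nat_lit 198, nat_lit 198, nat_lit 132,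 nat_lit 220, nat_lit 176, nat_lit 220, nat_lit 220, nat_lit 154, nat_lit 198, nat_lit 132]) r22))) (.node (nat_lit 45) (.node (nat_lit 41) (.node (nat_lit 39) (.leaf (nat_lit 18449) [nat_lit 220, nat_lit 132, nat_lit 220, nat_lit 242, nat_lit 132, nat_lit 242, nat_lit 220, nat_lit 132, nat_lit 220, nat_lit 242]) r23) (.node (nat_lit 43) r24 r25)) (.node (nat_lit 51) (.node (nat_lit 48) r26 r28) (.node (nat_lit 54) r29 r30))))
noncomputable def w4 : WT := (.node (nat_lit 1) (.leaf (nat_lit 2050) [nat_lit 110]) (.node (nat_lit 4) (.node (nat_lit 2) (.leaf (nat_lit 11265) [nat_lit 132, nat_lit 132]) (.node (nat_lit 3) (.leaf (nat_lit 35844) [nat_lit 308, nat_lit 110, nat_lit 308]) (.leaf (nat_lit 15365) [nat_lit 220, nat_lit 176, nat_lit 132, nat_lit 220, nat_lit 176]))) (.node (nat_lit 14) (.node (nat_lit 7) r16 r17) (.node (nat_lit 27) r19 r31))))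
noncomputable def r32 : WT := (.node (nat_lit 5) (.node (nat_lit 4) (.leaf (nat_lit 15362) [nat_lit 198, nat_lit 110, nat_lit 154, nat_lit 198, nat_lit 110]) (.leaf (nat_lit 21509) [nat_lit 132, nat_lit 220, nat_lit 110, nat_lit 154, nat_lit 220, nat_lit 110, nat_lit 176, nat_lit 132, nat_lit 220, nat_lit 220])) (.node (nat_lit 6) (.leaf (nat_lit 23571) [nat_lit 132, nat_lit 198, nat_lit 176, nat_lit 220, nat_lit 154, nat_lit 198, nat_lit 154, nat_lit 198, nat_lit 154, nat_lit 132]) (.leaf (nat_lit 17418) [nat_lit 242, nat_lit 264, nat_lit 176, nat_lit 132, nat_lit 242, nat_lit 110, nat_lit 154, nat_lit 286, nat_lit 176, nat_lit 242])))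
noncomputable def r33 : WT := (.node (nat_lit 9) (.node (nat_lit 8) (.leaf (nat_lit 20495) [nat_lit 198, nat_lit 132, nat_lit 132, nat_lit 198, nat_lit 198, nat_lit 132, nat_lit 220, nat_lit 176, nat_lit 220, nat_lit 220]) (.leaf (nat_lit 20492) [nat_lit 198, nat_lit 110, nat_lit 220, nat_lit 220, nat_lit 110, nat_lit 110, nat_lit 220, nat_lit 176, nat_lit 198, nat_lit 198])) (.node (nat_lit 10) (.leaf (nat_lit 24576) [nat_lit 154, nat_lit 198, nat_lit 176, nat_lit 198, nat_lit 264, nat_lit 176, nat_lit 198, nat_lit 176, nat_lit 198, nat_lit 286]) (.node (nat_lit 11) (.leaf (nat_lit 31748) [nat_lit 198, nat_lit 176, nat_lit 286, nat_lit 132, nat_lit 154, nat_lit 286, nat_lit 242, nat_lit 176, nat_lit 110, nat_lit 264]) (.leaf (nat_lit 31758) [nat_lit 286, nat_lit 242, nat_lit 176, nat_lit 110, nat_lit 264, nat_lit 154, nat_lit 198, nat_lit 176, nat_lit 286, nat_lit 132]))))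
noncomputable def r34 : WT := (.node (nat_lit 16) (.node (nat_lit 14) (.node (nat_lit 13) (.leaf (nat_lit 24581) [nat_lit 220, nat_lit 154, nat_lit 286, nat_lit 220, nat_lit 154, nat_lit 220, nat_lit 176, nat_lit 176, nat_lit 264, nat_lit 220]) (.leaf (nat_lit 10251) [nat_lit 66, nat_lit 176, nat_lit 110, nat_lit 154, nat_lit 132, nat_lit 242])) (.node (nat_lit 15) (.leaf (nat_lit 24585) [nat_lit 286, nat_lit 220, nat_lit 154, nat_lit 220, nat_lit 176, nat_lit 176, nat_lit 264, nat_lit 220, nat_lit 154, nat_lit 220]) (.leaf (nat_lit 23570) [nat_lit 220, nat_lit 110, nat_lit 176, nat_lit 110, nat_lit 176, nat_lit 220, nat_lit 176, nat_lit 220, nat_lit 176, nat_lit 198]))) (.node (nat_lit 18) (.node (nat_lit 17) (.leaf (nat_lit 17423) [nat_lit 264, nat_lit 176, nat_lit 132, nat_lit 242, nat_lit 110, nat_lit 154, nat_lit 286, nat_lit 242, nat_lit 176, nat_lit 242]) (.leaf (nat_lit 26631) [nat_lit 110, nat_lit 176, nat_lit 110, nat_lit 220, nat_lit 220, nat_lit 132, nat_lit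 132, nat_lit 198, nat_lit 198, nat_lit 132])) (.node (nat_lit 19) (.leaf (nat_lit 25605) [nat_lit 198, nat_lit 154, nat_lit 198, nat_lit 198, nat_lit 110, nat_lit 198, nat_lit 132, nat_lit 132, nat_lit 154, nat_lit 132]) (.leaf (nat_lit 31757) [nat_lit 220, nat_lit 176, nat_lit 286, nat_lit 132, nat_lit 154, nat_lit 242, nat_lit 264, nat_lit 176, nat_lit 110, nat_lit 264]))))
noncomputable def r35 : WT := (.node (nat_lit 25) (.node (nat_lit 22) (.node (nat_lit 21) (.leaf (nat_lit 23559) [nat_lit 198, nat_lit 154, nat_lit 198, nat_lit 154, nat_lit 132, nat_lit 154, nat_lit 132, nat_lit 198, nat_lit 176, nat_lit 220]) (.leaf (nat_lit 10252) [nat_lit 88, nat_lit 176, nat_lit 242, nat_lit 110, nat_lit 176, nat_lit 132])) (.node (nat_lit 23) (.leaf (nat_lit 30729) [nat_lit 242, nat_lit 198, nat_lit 198, nat_lit 110, nat_lit 220, nat_lit 132, nat_lit 176, nat_lit 242, nat_lit 220, nat_lit 242]) (.node (nat_lit 24) (.leaf (nat_lit 23567) [nat_lit 132, nat_lit 154, nat_lit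 132, nat_lit 198, nat_lit 176, nat_lit 220, nat_lit 154, nat_lit 198, nat_lit 154, nat_lit 198]) (.leaf (nat_lit 23563) [nat_lit 198, nat_lit 154, nat_lit 132, nat_lit 154, nat_lit 132, nat_lit 198, nat_lit 176, nat_lit 220, nat_lit 154, nat_lit 198])))) (.node (nat_lit 28) (.node (nat_lit 26) (.leaf (nat_lit 28686) [nat_lit 110, nat_lit 220, nat_lit 220, nat_lit 110, nat_lit 154, nat_lit 132, nat_lit 176, nat_lit 176, nat_lit 198, nat_lit 198]) (.node (nat_lit 27) (.leaf (nat_lit 29700) [nat_lit 220, nat_lit 176, nat_lit 110, nat_lit 220, nat_lit 154, nat_lit 198, nat_lit 154, nat_lit 198, nat_lit 110, nat_lit 110]) (.leaf (nat_lit 26634) [nat_lit 132, nat_lit 176, nat_lit 110, nat_lit 220, nat_lit 220, nat_lit 110, nat_lit 110, nat_lit 198, nat_lit 198, nat_lit 132]))) (.node (nat_lit 29) (.leaf (nat_lit 17410) [nat_lit 286, nat_lit 176, nat_lit 242, nat_lit 154, nat_lit 242, nat_lit 264, nat_lit 176, nat_lit 132, nat_lit 242, nat_lit 110]) (.node (nat_lit 30) (.leaf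 (nat_lit 10245) [nat_lit 132, nat_lit 242, nat_lit 154, nat_lit 66, nat_lit 176, nat_lit 110]) (.leaf (nat_lit 27651) [nat_lit 286, nat_lit 198, nat_lit 110, nat_lit 286, nat_lit 198, nat_lit 110, nat_lit 286, nat_lit 154, nat_lit 132, nat_lit 220])))))
noncomputable def r36 : WT := (.node (nat_lit 41) (.leaf (nat_lit 33802) [nat_lit 132, nat_lit 220, nat_lit 132, nat_lit 154, nat_lit 220, nat_lit 110, nat_lit 154, nat_lit 220, nat_lit 154, nat_lit 198]) (.leaf (nat_lit 31745) [nat_lit 242, nat_lit 264, nat_lit 176, nat_lit 110, nat_lit 264, nat_lit 154, nat_lit 220, nat_lit 176, nat_lit 286, nat_lit 132]))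
noncomputable def r37 : WT := (.node (nat_lit 44) (.leaf (nat_lit 25609) [nat_lit 198, nat_lit 198, nat_lit 110, nat_lit 198, nat_lit 132, nat_lit 132, nat_lit 154, nat_lit 132, nat_lit 154, nat_lit 198]) (.leaf (nat_lit 33794) [nat_lit 220, nat_lit 154, nat_lit 198, nat_lit 154, nat_lit 132, nat_lit 220, nat_lit 132, nat_lit 154, nat_lit 220, nat_lit 110]))
noncomputable def r38 : WT := (.node (nat_lit 46) (.leaf (nat_lit 25601) [nat_lit 132, nat_lit 154, nat_lit 198, nat_lit 154, nat_lit 198, nat_lit 198, nat_lit 110, nat_lit 198, nat_lit 132, nat_lit 132]) (.leaf (nat_lit 29709) [nat_lit 198, nat_lit 176, nat_lit 132, nat_lit 132, nat_lit 220, nat_lit 176, nat_lit 220, nat_lit 176, nat_lit 198, nat_lit 132]))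
noncomputable def r39 : WT := (.node (nat_lit 48) (.leaf (nat_lit 29714) [nat_lit 198, nat_lit 110, nat_lit 110, nat_lit 154, nat_lit 220, nat_lit 176, nat_lit 110, nat_lit 220, nat_lit 154, nat_lit 198]) (.node (nat_lit 49) (.leaf (nat_lit 32787) [nat_lit 132, nat_lit 220, nat_lit 176, nat_lit 198, nat_lit 176, nat_lit 110, nat_lit 176, nat_lit 198, nat_lit 176, nat_lit 220]) (.leaf (nat_lit 33798) [nat_lit 198, nat_lit 154, nat_lit 132, nat_lit 220, nat_lit 132, nat_lit 154, nat_lit 220, nat_lit 110, nat_lit 154, nat_lit 220])))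
noncomputable def r40 : WT := (.node (nat_lit 52) (.node (nat_lit 51) (.leaf (nat_lit 28687) [nat_lit 110, nat_lit 176, nat_lit 132, nat_lit 198, nat_lit 198, nat_lit 132, nat_lit 176, nat_lit 220, nat_lit 220, nat_lit 154]) (.leaf (nat_lit 9223) [nat_lit 110, nat_lit 220, nat_lit 132, nat_lit 242, nat_lit 176, nat_lit 264, nat_lit 132, nat_lit 44, nat_lit 110, nat_lit 286, nat_lit 220])) (.node (nat_lit 53) (.leaf (nat_lit 17413) [nat_lit 286, nat_lit 242, nat_lit 176, nat_lit 242, nat_lit 154, nat_lit 264, nat_lit 176, nat_lit 132, nat_lit 242, nat_lit 110]) (.leaf (nat_lit 32778) [nat_lit 132, nat_lit 154, nat_lit 220, nat_lit 154, nat_lit 198, nat_lit 110, nat_lit 176, nat_lit 198, nat_lit 154, nat_lit 220])))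
noncomputable def r41 : WT := (.node (nat_lit 56) (.node (nat_lit 55) (.leaf (nat_lit 32786) [nat_lit 198, nat_lit 110, nat_lit 176, nat_lit 198, nat_lit 154, nat_lit 220, nat_lit 154, nat_lit 132, nat_lit 154, nat_lit 220]) (.leaf (nat_lit 29710) [nat_lit 198, nat_lit 154, nat_lit 198, nat_lit 110, nat_lit 110, nat_lit 154, nat_lit 220, nat_lit 176, nat_lit 110, nat_lit 220])) (.node (nat_lit 57) (.leaf (nat_lit 24578) [nat_lit 198, nat_lit 176, nat_lit 198, nat_lit 264, nat_lit 176, nat_lit 198, nat_lit 176, nat_lit 198, nat_lit 286, nat_lit 154]) (.node (nat_lit 58) (.leaf (nat_lit 34817) [nat_lit 198, nat_lit 176, nat_lit 176, nat_lit 198, nat_lit 132, nat_lit 220, nat_lit 132, nat_lit 220, nat_lit 154, nat_lit 132]) (.leaf (nat_lit 28674) [nat_lit 132, nat_lit 176, nat_lit 176, nat_lit 198, nat_lit 198, nat_lit 154, nat_lit 110, nat_lit 220, nat_lit 220, nat_lit 110]))))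
noncomputable def r42 : WT := (.node (nat_lit 39) (.node (nat_lit 35) (.node (nat_lit 33) (.node (nat_lit 32) (.leaf (nat_lit 27667) [nat_lit 132, nat_lit 220, nat_lit 154, nat_lit 286, nat_lit 198, nat_lit 110, nat_lit 286, nat_lit 198, nat_lit 110, nat_lit 286]) (.leaf (nat_lit 24591) [nat_lit 220, nat_lit 176, nat_lit 176, nat_lit 264, nat_lit 220, nat_lit 154, nat_lit 220, nat_lit 154, nat_lit 286, nat_lit 220])) (.node (nat_lit 34) (.leaf (nat_lit 32774) [nat_lit 220, nat_lit 154, nat_lit 132, nat_lit 154, nat_lit 220, nat_lit 154, nat_lit 198, nat_lit 110, nat_lit 176, nat_lit 198]) (.leaf (nat_lit 21506) [nat_lit 132, nat_lit 198, nat_lit 176, nat_lit 132, nat_lit 198, nat_lit 110, nat_lit 176, nat_lit 198, nat_lit 198, nat_lit 110]))) (.node (nat_lit 37) (.node (nat_lit 36) (.leaf (nat_lit 34835) [nat_lit 132, nat_lit 154, nat_lit 198, nat_lit 176, nat_lit 176, nat_lit 198, nat_lit 132, nat_lit 220, nat_lit 132, nat_lit 220]) (.leaf (nat_lit 33810) [nat_lit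 220, nat_lit 110, nat_lit 154, nat_lit 220, nat_lit 154, nat_lit 198, nat_lit 154, nat_lit 132, nat_lit 220, nat_lit 132])) (.node (nat_lit 38) (.leaf (nat_lit 21517) [nat_lit 220, nat_lit 110, nat_lit 176, nat_lit 132, nat_lit 220, nat_lit 220, nat_lit 154, nat_lit 132, nat_lit 220, nat_lit 110]) (.leaf (nat_lit 32782) [nat_lit 220, nat_lit 154, nat_lit 198, nat_lit 110, nat_lit 176, nat_lit 198, nat_lit 154, nat_lit 220, nat_lit 154, nat_lit 132])))) (.node (nat_lit 45) (.node (nat_lit 42) (.node (nat_lit 40) (.leaf (nat_lit 30740) [nat_lit 110, nat_lit 198, nat_lit 132, nat_lit 220, nat_lit 220, nat_lit 242, nat_lit 176, nat_lit 242, nat_lit 198, nat_lit 242]) r36) (.node (nat_lit 43) (.leaf (nat_lit 34830) [nat_lit 154, nat_lit 220, nat_lit 176, nat_lit 110, nat_lit 176, nat_lit 198, nat_lit 110, nat_lit 198, nat_lit 110, nat_lit 220]) r37)) (.node (nat_lit 50) (.node (nat_lit 47) r38 r39) (.node (nat_lit 54) r40 r41))))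
noncomputable def w5 : WT := (.node (nat_lit 1) (.leaf (nat_lit 3072) [nat_lit 176]) (.node (nat_lit 7) (.node (nat_lit 2) (.leaf (nat_lit 12288) [nat_lit 154, nat_lit 154]) (.node (nat_lit 3) (.leaf (nat_lit 36864) [nat_lit 308, nat_lit 176, nat_lit 308]) r32)) (.node (nat_lit 20) (.node (nat_lit 12) r33 r34) (.node (nat_lit 31) r35 r42))))
noncomputable def r43 : WT := (.node (nat_lit 6) (.node (nat_lit 5) (.leaf (nat_lit 26638) [nat_lit 110, nat_lit 220, nat_lit 220, nat_lit 110, nat_lit 110, nat_lit 198, nat_lit 198, nat_lit 132, nat_lit 154, nat_lit 132]) (.leaf (nat_lit 21512) [nat_lit 132, nat_lit 198, nat_lit 110, nat_lit 176, nat_lit 198, nat_lit 198, nat_lit 110, nat_lit 154, nat_lit 132, nat_lit 198])) (.node (nat_lit 7) (.leaf (nat_lit 17414) [nat_lit 242, nat_lit 154, nat_lit 242, nat_lit 264, nat_lit 176, nat_lit 132, nat_lit 242, nat_lit 110, nat_lit 154, nat_lit 286]) (.leaf (nat_lit 17419) [nat_lit 242, nat_lit 154, nat_lit 264, nat_lit 176, nat_lit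 132, nat_lit 242, nat_lit 110, nat_lit 154, nat_lit 286, nat_lit 242])))
noncomputable def r44 : WT := (.node (nat_lit 11) (.node (nat_lit 9) (.leaf (nat_lit 10241) [nat_lit 110, nat_lit 154, nat_lit 132, nat_lit 242, nat_lit 154, nat_lit 66]) (.node (nat_lit 10) (.leaf (nat_lit 17424) [nat_lit 132, nat_lit 242, nat_lit 110, nat_lit 154, nat_lit 286, nat_lit 176, nat_lit 242, nat_lit 154, nat_lit 242, nat_lit 264]) (.leaf (nat_lit 21520) [nat_lit 198, nat_lit 198, nat_lit 110, nat_lit 154, nat_lit 132, nat_lit 198, nat_lit 176, nat_lit 132, nat_lit 198, nat_lit 110]))) (.node (nat_lit 13) (.node (nat_lit 12) (.leaf (nat_lit 10242) [nat_lit 242, nat_lit 110, nat_lit 176, nat_lit 132, nat_lit 154, nat_lit 88]) (.leaf (nat_lit 23554) [nat_lit 110, nat_lit 176, nat_lit 220, nat_lit 176, nat_lit 220, nat_lit 176, nat_lit 198, nat_lit 154, nat_lit 220, nat_lit 110])) (.node (nat_lit 14) (.leaf (nat_lit 24582) [nat_lit 198, nat_lit 264, nat_lit 176, nat_lit 198, nat_lit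 176, nat_lit 198, nat_lit 286, nat_lit 154, nat_lit 154, nat_lit 198]) (.leaf (nat_lit 10248) [nat_lit 132, nat_lit 154, nat_lit 88, nat_lit 176, nat_lit 242, nat_lit 110]))))
noncomputable def r45 : WT := (.node (nat_lit 20) (.node (nat_lit 17) (.node (nat_lit 16) (.leaf (nat_lit 31752) [nat_lit 286, nat_lit 132, nat_lit 154, nat_lit 286, nat_lit 242, nat_lit 176, nat_lit 110, nat_lit 264, nat_lit 154, nat_lit 198]) (.leaf (nat_lit 25616) [nat_lit 110, nat_lit 176, nat_lit 110, nat_lit 110, nat_lit 220, nat_lit 132, nat_lit 220, nat_lit 220, nat_lit 176, nat_lit 220])) (.node (nat_lit 18) (.leaf (nat_lit 30732) [nat_lit 242, nat_lit 198, nat_lit 242, nat_lit 154, nat_lit 110, nat_lit 198, nat_lit 132, nat_lit 220, nat_lit 220, nat_lit 242]) (.node (nat_lit 19) (.leaf (nat_lit 31751) [nat_lit 110, nat_lit 264, nat_lit 154, nat_lit 220, nat_lit 176, nat_lit 286, nat_lit 132, nat_lit 154, nat_lit 242, nat_lit 264]) (.leaf (nat_lit 28678) [nat_lit 176, nat_lit 198, nat_lit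 198, nat_lit 154, nat_lit 110, nat_lit 220, nat_lit 220, nat_lit 110, nat_lit 154, nat_lit 132])))) (.node (nat_lit 23) (.node (nat_lit 21) (.leaf (nat_lit 27650) [nat_lit 264, nat_lit 132, nat_lit 220, nat_lit 264, nat_lit 132, nat_lit 220, nat_lit 264, nat_lit 176, nat_lit 198, nat_lit 110]) (.node (nat_lit 22) (.leaf (nat_lit 31764) [nat_lit 110, nat_lit 264, nat_lit 154, nat_lit 198, nat_lit 176, nat_lit 286, nat_lit 132, nat_lit 154, nat_lit 286, nat_lit 242]) (.leaf (nat_lit 24592) [nat_lit 198, nat_lit 286, nat_lit 154, nat_lit 154, nat_lit 198, nat_lit 176, nat_lit 198, nat_lit 264, nat_lit 176, nat_lit 198]))) (.node (nat_lit 25) (.node (nat_lit 24) (.leaf (nat_lit 23555) [nat_lit 220, nat_lit 154, nat_lit 198, nat_lit 154, nat_lit 198, nat_lit 154, nat_lit 132, nat_lit 154, nat_lit 132, nat_lit 198]) (.leaf (nat_lit 23562) [nat_lit 220, nat_lit 176, nat_lit 198, nat_lit 154, nat_lit 220, nat_lit 110, nat_lit 176, nat_lit 110, nat_lit 176, nat_lit 220]))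 (.node (nat_lit 26) (.leaf (nat_lit 31761) [nat_lit 286, nat_lit 132, nat_lit 154, nat_lit 242, nat_lit 264, nat_lit 176, nat_lit 110, nat_lit 264, nat_lit 154, nat_lit 220]) (.leaf (nat_lit 20486) [nat_lit 198, nat_lit 198, nat_lit 154, nat_lit 198, nat_lit 110, nat_lit 220, nat_lit 220, nat_lit 110, nat_lit 110, nat_lit 220])))))
noncomputable def r46 : WT := (.node (nat_lit 35) (.leaf (nat_lit 27666) [nat_lit 198, nat_lit 110, nat_lit 176, nat_lit 264, nat_lit 132, nat_lit 220, nat_lit 264, nat_lit 132, nat_lit 220, nat_lit 264]) (.leaf (nat_lit 28679) [nat_lit 220, nat_lit 220, nat_lit 154, nat_lit 154, nat_lit 110, nat_lit 176, nat_lit 132, nat_lit 198, nat_lit 198, nat_lit 132]))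
noncomputable def r47 : WT := (.node (nat_lit 38) (.leaf (nat_lit 23558) [nat_lit 220, nat_lit 176, nat_lit 220, nat_lit 176, nat_lit 198, nat_lit 154, nat_lit 220, nat_lit 110, nat_lit 176, nat_lit 110]) (.leaf (nat_lit 21523) [nat_lit 132, nat_lit 220, nat_lit 220, nat_lit 154, nat_lit 132, nat_lit 220, nat_lit 110, nat_lit 154, nat_lit 220, nat_lit 110]))
noncomputable def r48 : WT := (.node (nat_lit 41) (.leaf (nat_lit 23566) [nat_lit 198, nat_lit 154, nat_lit 220, nat_lit 110, nat_lit 176, nat_lit 110, nat_lit 176, nat_lit 220, nat_lit 176, nat_lit 220]) (.leaf (nat_lit 30721) [nat_lit 242, nat_lit 220, nat_lit 242, nat_lit 154, nat_lit 242, nat_lit 198, nat_lit 198, nat_lit 110, nat_lit 220, nat_lit 132]))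
noncomputable def r49 : WT := (.node (nat_lit 43) (.leaf (nat_lit 33811) [nat_lit 132, nat_lit 198, nat_lit 176, nat_lit 110, nat_lit 198, nat_lit 110, nat_lit 176, nat_lit 220, nat_lit 176, nat_lit 198]) (.node (nat_lit 44) (.leaf (nat_lit 32775) [nat_lit 110, nat_lit 176, nat_lit 198, nat_lit 176, nat_lit 220, nat_lit 154, nat_lit 132, nat_lit 220, nat_lit 176, nat_lit 198]) (.leaf (nat_lit 33803) [nat_lit 220, nat_lit 176, nat_lit 198, nat_lit 176, nat_lit 132, nat_lit 198, nat_lit 176, nat_lit 110, nat_lit 198, nat_lit 110])))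
noncomputable def r50 : WT := (.node (nat_lit 46) (.leaf (nat_lit 9233) [nat_lit 264, nat_lit 132, nat_lit 44, nat_lit 110, nat_lit 286, nat_lit 220, nat_lit 154, nat_lit 110, nat_lit 220, nat_lit 132, nat_lit 242]) (.node (nat_lit 47) (.leaf (nat_lit 29703) [nat_lit 198, nat_lit 132, nat_lit 154, nat_lit 198, nat_lit 176, nat_lit 132, nat_lit 132, nat_lit 220, nat_lit 176, nat_lit 220]) (.leaf (nat_lit 26635) [nat_lit 110, nat_lit 220, nat_lit 220, nat_lit 132, nat_lit 132, nat_lit 198, nat_lit 198, nat_lit 132, nat_lit 154, nat_lit 110])))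
noncomputable def r51 : WT := (.node (nat_lit 50) (.node (nat_lit 49) (.leaf (nat_lit 24595) [nat_lit 176, nat_lit 264, nat_lit 220, nat_lit 154, nat_lit 220, nat_lit 154, nat_lit 286, nat_lit 220, nat_lit 154, nat_lit 220]) (.leaf (nat_lit 17427) [nat_lit 132, nat_lit 242, nat_lit 110, nat_lit 154, nat_lit 286, nat_lit 242, nat_lit 176, nat_lit 242, nat_lit 154, nat_lit 264])) (.node (nat_lit 51) (.leaf (nat_lit 32771) [nat_lit 198, nat_lit 176, nat_lit 110, nat_lit 176, nat_lit 198, nat_lit 176, nat_lit 220, nat_lit 154, nat_lit 132, nat_lit 220]) (.node (nat_lit 52) (.leaf (nat_lit 29699) [nat_lit 220, nat_lit 176, nat_lit 198, nat_lit 132, nat_lit 154, nat_lit 198, nat_lit 176, nat_lit 132, nat_lit 132, nat_lit 220]) (.leaf (nat_lit 32779) [nat_lit 198, nat_lit 176, nat_lit 220, nat_lit 154, nat_lit 132, nat_lit 220, nat_lit 176, nat_lit 198, nat_lit 176, nat_lit 110]))))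
noncomputable def r52 : WT := (.node (nat_lit 56) (.node (nat_lit 54) (.leaf (nat_lit 28691) [nat_lit 132, nat_lit 198, nat_lit 198, nat_lit 132, nat_lit 176, nat_lit 220, nat_lit 220, nat_lit 154, nat_lit 154, nat_lit 110]) (.node (nat_lit 55) (.leaf (nat_lit 33795) [nat_lit 110, nat_lit 198, nat_lit 110, nat_lit 176, nat_lit 220, nat_lit 176, nat_lit 198, nat_lit 176, nat_lit 132, nat_lit 198]) (.leaf (nat_lit 24597) [nat_lit 264, nat_lit 220, nat_lit 154, nat_lit 220, nat_lit 154, nat_lit 286, nat_lit 220, nat_lit 154, nat_lit 220, nat_lit 176]))) (.node (nat_lit 58) (.node (nat_lit 57) (.leaf (nat_lit 34818) [nat_lit 198, nat_lit 110, nat_lit 198, nat_lit 110, nat_lit 220, nat_lit 154, nat_lit 154, nat_lit 220, nat_lit 176, nat_lit 110]) (.leaf (nat_lit 34836) [nat_lit 110, nat_lit 176, nat_lit 198, nat_lit 110, nat_lit 198, nat_lit 110, nat_lit 220, nat_lit 154, nat_lit 154, nat_lit 220])) (.node (nat_lit 59) (.leaf (nat_lit 34821) [nat_lit 176, nat_lit 198,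 nat_lit 132, nat_lit 220, nat_lit 132, nat_lit 220, nat_lit 154, nat_lit 132, nat_lit 154, nat_lit 198]) (.leaf (nat_lit 34823) [nat_lit 198, nat_lit 132, nat_lit 220, nat_lit 132, nat_lit 220, nat_lit 154, nat_lit 132, nat_lit 154, nat_lit 198, nat_lit 176]))))
noncomputable def r53 : WT := (.node (nat_lit 36) (.node (nat_lit 31) (.node (nat_lit 29) (.node (nat_lit 28) (.leaf (nat_lit 20489) [nat_lit 220, nat_lit 220, nat_lit 154, nat_lit 198, nat_lit 132, nat_lit 132, nat_lit 198, nat_lit 198, nat_lit 132, nat_lit 220]) (.leaf (nat_lit 24588) [nat_lit 198, nat_lit 176, nat_lit 198, nat_lit 286, nat_lit 154, nat_lit 154, nat_lit 198, nat_lit 176, nat_lit 198, nat_lit 264])) (.node (nat_lit 30) (.leaf (nat_lit 25620) [nat_lit 110, nat_lit 110, nat_lit 220, nat_lit 132, nat_lit 220, nat_lit 220, nat_lit 176, nat_lit 220, nat_lit 176, nat_lit 110]) (.leaf (nat_lit 9232) [nat_lit 198, nat_lit 264, nat_lit 132, nat_lit 44, nat_lit 110, nat_lit 286, nat_lit 154, nat_lit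 242, nat_lit 110, nat_lit 198, nat_lit 132]))) (.node (nat_lit 33) (.node (nat_lit 32) (.leaf (nat_lit 29713) [nat_lit 132, nat_lit 132, nat_lit 220, nat_lit 176, nat_lit 220, nat_lit 176, nat_lit 198, nat_lit 132, nat_lit 154, nat_lit 198]) (.leaf (nat_lit 32770) [nat_lit 198, nat_lit 154, nat_lit 220, nat_lit 154, nat_lit 132, nat_lit 154, nat_lit 220, nat_lit 154, nat_lit 198, nat_lit 110])) (.node (nat_lit 34) (.leaf (nat_lit 25612) [nat_lit 220, nat_lit 176, nat_lit 110, nat_lit 176, nat_lit 110, nat_lit 110, nat_lit 220, nat_lit 132, nat_lit 220, nat_lit 220]) r46))) (.node (nat_lit 42) (.node (nat_lit 39) (.node (nat_lit 37) (.leaf (nat_lit 29704) [nat_lit 110, nat_lit 220, nat_lit 154, nat_lit 198, nat_lit 154, nat_lit 198, nat_lit 110, nat_lit 110, nat_lit 154, nat_lit 220]) r47) (.node (nat_lit 40) (.leaf (nat_lit 32783) [nat_lit 220, nat_lit 154, nat_lit 132, nat_lit 220, nat_lit 176, nat_lit 198, nat_lit 176, nat_lit 110, nat_lit 176, nat_lit 198]) r48))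 (.node (nat_lit 48) (.node (nat_lit 45) r49 r50) (.node (nat_lit 53) r51 r52))))
noncomputable def w6 : WT := (.node (nat_lit 1) (.leaf (nat_lit 3074) [nat_lit 154]) (.node (nat_lit 4) (.node (nat_lit 2) (.leaf (nat_lit 12289) [nat_lit 176, nat_lit 176]) (.node (nat_lit 3) (.leaf (nat_lit 36868) [nat_lit 308, nat_lit 154, nat_lit 308]) (.leaf (nat_lit 15363) [nat_lit 132, nat_lit 220, nat_lit 176, nat_lit 132, nat_lit 220]))) (.node (nat_lit 15) (.node (nat_lit 8) r43 r44) (.node (nat_lit 27) r45 r53))))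
noncomputable def r54 : WT := (.node (nat_lit 5) (.leaf (nat_lit 16386) [nat_lit 242, nat_lit 220, nat_lit 132, nat_lit 242, nat_lit 110]) (.node (nat_lit 6) (.leaf (nat_lit 20488) [nat_lit 198, nat_lit 154, nat_lit 198, nat_lit 110, nat_lit 220, nat_lit 220, nat_lit 110, nat_lit 110, nat_lit 220, nat_lit 176]) (.leaf (nat_lit 20481) [nat_lit 198, nat_lit 132, nat_lit 220, nat_lit 176, nat_lit 220, nat_lit 220, nat_lit 154, nat_lit 198, nat_lit 132, nat_lit 132])))
noncomputable def r55 : WT := (.node (nat_lit 10) (.node (nat_lit 8) (.leaf (nat_lit 27655) [nat_lit 110, nat_lit 286, nat_lit 198, nat_lit 110, nat_lit 286, nat_lit 154, nat_lit 132, nat_lit 220, nat_lit 154, nat_lit 286]) (.node (nat_lit 9) (.leaf (nat_lit 21510) [nat_lit 176, nat_lit 132, nat_lit 198, nat_lit 110, nat_lit 176, nat_lit 198, nat_lit 198, nat_lit 110, nat_lit 154, nat_lit 132]) (.leaf (nat_lit 22531) [nat_lit 242, nat_lit 110, nat_lit 198, nat_lit 110, nat_lit 264, nat_lit 132, nat_lit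 242, nat_lit 132, nat_lit 132, nat_lit 286]))) (.node (nat_lit 11) (.leaf (nat_lit 24594) [nat_lit 286, nat_lit 154, nat_lit 154, nat_lit 198, nat_lit 176, nat_lit 198, nat_lit 264, nat_lit 176, nat_lit 198, nat_lit 176]) (.node (nat_lit 12) (.leaf (nat_lit 23553) [nat_lit 176, nat_lit 220, nat_lit 154, nat_lit 198, nat_lit 154, nat_lit 198, nat_lit 154, nat_lit 132, nat_lit 154, nat_lit 132]) (.leaf (nat_lit 18440) [nat_lit 110, nat_lit 198, nat_lit 242, nat_lit 110, nat_lit 242, nat_lit 198, nat_lit 110, nat_lit 198, nat_lit 110, nat_lit 242]))))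
noncomputable def r56 : WT := (.node (nat_lit 17) (.node (nat_lit 15) (.node (nat_lit 14) (.leaf (nat_lit 19476) [nat_lit 110, nat_lit 198, nat_lit 110, nat_lit 286, nat_lit 242, nat_lit 198, nat_lit 242, nat_lit 220, nat_lit 242, nat_lit 264]) (.leaf (nat_lit 24590) [nat_lit 176, nat_lit 198, nat_lit 286, nat_lit 154, nat_lit 154, nat_lit 198, nat_lit 176, nat_lit 198, nat_lit 264, nat_lit 176])) (.node (nat_lit 16) (.leaf (nat_lit 21522) [nat_lit 198, nat_lit 110, nat_lit 154, nat_lit 132, nat_lit 198, nat_lit 176, nat_lit 132, nat_lit 198, nat_lit 110, nat_lit 176]) (.leaf (nat_lit 33793) [nat_lit 176, nat_lit 110, nat_lit 198, nat_lit 110, nat_lit 176, nat_lit 220, nat_lit 176, nat_lit 198, nat_lit 176, nat_lit 132]))) (.node (nat_lit 19) (.node (nat_lit 18) (.leaf (nat_lit 34824) [nat_lit 110, nat_lit 220, nat_lit 154, nat_lit 154, nat_lit 220, nat_lit 176, nat_lit 110, nat_lit 176, nat_lit 198, nat_lit 110]) (.leaf (nat_lit 27661) [nat_lit 110, nat_lit 286,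 nat_lit 154, nat_lit 132, nat_lit 220, nat_lit 154, nat_lit 286, nat_lit 198, nat_lit 110, nat_lit 286])) (.node (nat_lit 20) (.leaf (nat_lit 24584) [nat_lit 264, nat_lit 176, nat_lit 198, nat_lit 176, nat_lit 198, nat_lit 286, nat_lit 154, nat_lit 154, nat_lit 198, nat_lit 176]) (.node (nat_lit 21) (.leaf (nat_lit 21516) [nat_lit 110, nat_lit 176, nat_lit 198, nat_lit 198, nat_lit 110, nat_lit 154, nat_lit 132, nat_lit 198, nat_lit 176, nat_lit 132]) (.leaf (nat_lit 30736) [nat_lit 242, nat_lit 154, nat_lit 110, nat_lit 198, nat_lit 132, nat_lit 220, nat_lit 220, nat_lit 242, nat_lit 176, nat_lit 242])))))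
noncomputable def r57 : WT := (.leaf (nat_lit 40965) [nat_lit 264, nat_lit 308, nat_lit 286, nat_lit 220, nat_lit 220, nat_lit 242, nat_lit 132, nat_lit 264, nat_lit 308, nat_lit 286, nat_lit 110, nat_lit 264, nat_lit 308, nat_lit 286, nat_lit 242, nat_lit 198])
noncomputable def r58 : WT := (.leaf (nat_lit 40978) [nat_lit 198, nat_lit 264, nat_lit 308, nat_lit 286, nat_lit 220, nat_lit 220, nat_lit 242, nat_lit 264, nat_lit 308, nat_lit 286, nat_lit 132, nat_lit 264, nat_lit 308, nat_lit 286, nat_lit 110, nat_lit 242])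
noncomputable def r59 : WT := (.node (nat_lit 37) (.leaf (nat_lit 32772) [nat_lit 154, nat_lit 220, nat_lit 154, nat_lit 132, nat_lit 154, nat_lit 220, nat_lit 154, nat_lit 198, nat_lit 110, nat_lit 176]) (.leaf (nat_lit 31750) [nat_lit 176, nat_lit 286, nat_lit 132, nat_lit 154, nat_lit 286, nat_lit 242, nat_lit 176, nat_lit 110, nat_lit 264, nat_lit 154]))
noncomputable def r60 : WT := (.node (nat_lit 29) (.node (nat_lit 25) (.node (nat_lit 23) (.leaf (nat_lit 23568) [nat_lit 154, nat_lit 220, nat_lit 110, nat_lit 176, nat_lit 110, nat_lit 176, nat_lit 220, nat_lit 176, nat_lit 220, nat_lit 176]) (.node (nat_lit 24) (.leaf (nat_lit 20494) [nat_lit 110, nat_lit 220, nat_lit 220, nat_lit 110, nat_lit 110, nat_lit 220, nat_lit 176, nat_lit 198, nat_lit 198, nat_lit 154]) (.leaf (nat_lit 32773) [nat_lit 176, nat_lit 110, nat_lit 176, nat_lit 198, nat_lit 176, nat_lit 220, nat_lit 154, nat_lit 132, nat_lit 220, nat_lit 176]))) (.node (nat_lit 27) (.node (nat_lit 26)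 (.leaf (nat_lit 25607) [nat_lit 154, nat_lit 198, nat_lit 198, nat_lit 110, nat_lit 198, nat_lit 132, nat_lit 132, nat_lit 154, nat_lit 132, nat_lit 154]) (.leaf (nat_lit 32781) [nat_lit 176, nat_lit 220, nat_lit 154, nat_lit 132, nat_lit 220, nat_lit 176, nat_lit 198, nat_lit 176, nat_lit 110, nat_lit 176])) (.node (nat_lit 28) (.leaf (nat_lit 19458) [nat_lit 110, nat_lit 286, nat_lit 242, nat_lit 198, nat_lit 242, nat_lit 220, nat_lit 242, nat_lit 264, nat_lit 198, nat_lit 110]) (.leaf (nat_lit 18434) [nat_lit 110, nat_lit 242, nat_lit 198, nat_lit 110, nat_lit 198, nat_lit 242, nat_lit 110, nat_lit 242, nat_lit 198, nat_lit 110])))) (.node (nat_lit 33) (.node (nat_lit 31) (.node (nat_lit 30) r57 (.leaf (nat_lit 23565) [nat_lit 154, nat_lit 132, nat_lit 154, nat_lit 132, nat_lit 198, nat_lit 176, nat_lit 220, nat_lit 154, nat_lit 198, nat_lit 154])) (.node (nat_lit 32) (.leaf (nat_lit 19466) [nat_lit 242, nat_lit 220, nat_lit 242, nat_lit 264, nat_lit 198, nat_lit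 110, nat_lit 198, nat_lit 110, nat_lit 286, nat_lit 242]) (.leaf (nat_lit 20490) [nat_lit 154, nat_lit 198, nat_lit 110, nat_lit 220, nat_lit 220, nat_lit 110, nat_lit 110, nat_lit 220, nat_lit 176, nat_lit 198]))) (.node (nat_lit 35) (.node (nat_lit 34) (.leaf (nat_lit 29711) [nat_lit 176, nat_lit 132, nat_lit 132, nat_lit 220, nat_lit 176, nat_lit 220, nat_lit 176, nat_lit 198, nat_lit 132, nat_lit 154]) r58) (.node (nat_lit 36) (.leaf (nat_lit 18452) [nat_lit 110, nat_lit 198, nat_lit 110, nat_lit 242, nat_lit 198, nat_lit 110, nat_lit 198, nat_lit 242, nat_lit 110, nat_lit 242]) r59))))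
noncomputable def r61 : WT := (.node (nat_lit 42) (.leaf (nat_lit 26625) [nat_lit 198, nat_lit 132, nat_lit 154, nat_lit 110, nat_lit 176, nat_lit 110, nat_lit 220, nat_lit 220, nat_lit 132, nat_lit 132]) (.leaf (nat_lit 25617) [nat_lit 132, nat_lit 132, nat_lit 154, nat_lit 132, nat_lit 154, nat_lit 198, nat_lit 154, nat_lit 198, nat_lit 198, nat_lit 110]))
noncomputable def r62 : WT := (.node (nat_lit 45) (.leaf (nat_lit 34819) [nat_lit 176, nat_lit 176, nat_lit 198, nat_lit 132, nat_lit 220, nat_lit 132, nat_lit 220, nat_lit 154, nat_lit 132, nat_lit 154]) (.leaf (nat_lit 33809) [nat_lit 176, nat_lit 132, nat_lit 198, nat_lit 176, nat_lit 110, nat_lit 198, nat_lit 110, nat_lit 176, nat_lit 220, nat_lit 176]))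
noncomputable def r63 : WT := (.node (nat_lit 48) (.leaf (nat_lit 30733) [nat_lit 198, nat_lit 110, nat_lit 220, nat_lit 132, nat_lit 176, nat_lit 242, nat_lit 220, nat_lit 242, nat_lit 154, nat_lit 242]) (.leaf (nat_lit 28673) [nat_lit 198, nat_lit 132, nat_lit 176, nat_lit 220, nat_lit 220, nat_lit 154, nat_lit 154, nat_lit 110, nat_lit 176, nat_lit 132]))
noncomputable def r64 : WT := (.node (nat_lit 50) (.leaf (nat_lit 27668) [nat_lit 110, nat_lit 176, nat_lit 264, nat_lit 132, nat_lit 220, nat_lit 264, nat_lit 132, nat_lit 220, nat_lit 264, nat_lit 176]) (.leaf (nat_lit 29705) [nat_lit 132, nat_lit 154, nat_lit 198, nat_lit 176, nat_lit 132, nat_lit 132, nat_lit 220, nat_lit 176, nat_lit 220, nat_lit 176]))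
noncomputable def r65 : WT := (.node (nat_lit 52) (.leaf (nat_lit 30722) [nat_lit 132, nat_lit 220, nat_lit 220, nat_lit 242, nat_lit 176, nat_lit 242, nat_lit 198, nat_lit 242, nat_lit 154, nat_lit 110]) (.leaf (nat_lit 26628) [nat_lit 198, nat_lit 132, nat_lit 154, nat_lit 132, nat_lit 176, nat_lit 110, nat_lit 220, nat_lit 220, nat_lit 110, nat_lit 110]))
noncomputable def r66 : WT := (.node (nat_lit 54) (.leaf (nat_lit 26627) [nat_lit 132, nat_lit 154, nat_lit 110, nat_lit 176, nat_lit 110, nat_lit 220, nat_lit 220, nat_lit 132, nat_lit 132, nat_lit 198]) (.leaf (nat_lit 23561) [nat_lit 154, nat_lit 198, nat_lit 154, nat_lit 132, nat_lit 154, nat_lit 132, nat_lit 198, nat_lit 176, nat_lit 220, nat_lit 154]))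
noncomputable def r67 : WT := (.leaf (nat_lit 40963) [nat_lit 198, nat_lit 264, nat_lit 308, nat_lit 286, nat_lit 220, nat_lit 220, nat_lit 242, nat_lit 132, nat_lit 264, nat_lit 308, nat_lit 286, nat_lit 110, nat_lit 264, nat_lit 308, nat_lit 286, nat_lit 242])
noncomputable def r68 : WT := (.node (nat_lit 56) (.leaf (nat_lit 34825) [nat_lit 132, nat_lit 220, nat_lit 132, nat_lit 220, nat_lit 154, nat_lit 132, nat_lit 154, nat_lit 198, nat_lit 176, nat_lit 176]) (.node (nat_lit 57) (.leaf (nat_lit 28684) [nat_lit 154, nat_lit 110, nat_lit 220, nat_lit 220, nat_lit 110, nat_lit 154, nat_lit 132, nat_lit 176, nat_lit 176, nat_lit 198]) r67))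
noncomputable def r69 : WT := (.leaf (nat_lit 40980) [nat_lit 264, nat_lit 308, nat_lit 286, nat_lit 220, nat_lit 220, nat_lit 242, nat_lit 264, nat_lit 308, nat_lit 286, nat_lit 132, nat_lit 264, nat_lit 308, nat_lit 286, nat_lit 110, nat_lit 242, nat_lit 198])
noncomputable def r70 : WT := (.node (nat_lit 59) r69 (.node (nat_lit 60) (.leaf (nat_lit 9228) [nat_lit 132, nat_lit 176, nat_lit 198, nat_lit 264, nat_lit 132, nat_lit 44, nat_lit 110, nat_lit 286, nat_lit 154, nat_lit 242, nat_lit 110]) (.leaf (nat_lit 22537) [nat_lit 110, nat_lit 264, nat_lit 132, nat_lit 242, nat_lit 132, nat_lit 132, nat_lit 286, nat_lit 198, nat_lit 242, nat_lit 110])))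
noncomputable def r71 : WT := (.node (nat_lit 62) (.leaf (nat_lit 34820) [nat_lit 110, nat_lit 198, nat_lit 110, nat_lit 220, nat_lit 154, nat_lit 154, nat_lit 220, nat_lit 176, nat_lit 110, nat_lit 176]) (.node (nat_lit 63) (.leaf (nat_lit 20497) [nat_lit 132, nat_lit 132, nat_lit 198, nat_lit 198, nat_lit 132, nat_lit 220, nat_lit 176, nat_lit 220, nat_lit 220, nat_lit 154]) (.leaf (nat_lit 28682) [nat_lit 198, nat_lit 154, nat_lit 110, nat_lit 220, nat_lit 220, nat_lit 110, nat_lit 154, nat_lit 132, nat_lit 176, nat_lit 176])))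
noncomputable def r72 : WT := (.node (nat_lit 65) (.leaf (nat_lit 25613) [nat_lit 110, nat_lit 198, nat_lit 132, nat_lit 132, nat_lit 154, nat_lit 132, nat_lit 154, nat_lit 198, nat_lit 154, nat_lit 198]) (.node (nat_lit 66) (.leaf (nat_lit 26630) [nat_lit 132, nat_lit 154, nat_lit 132, nat_lit 176, nat_lit 110, nat_lit 220, nat_lit 220, nat_lit 110, nat_lit 110, nat_lit 198]) (.leaf (nat_lit 28675) [nat_lit 132, nat_lit 176, nat_lit 220, nat_lit 220, nat_lit 154, nat_lit 154, nat_lit 110, nat_lit 176, nat_lit 132, nat_lit 198])))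
noncomputable def r73 : WT := (.node (nat_lit 70) (.node (nat_lit 68) (.leaf (nat_lit 29712) [nat_lit 154, nat_lit 198, nat_lit 110, nat_lit 110, nat_lit 154, nat_lit 220, nat_lit 176, nat_lit 110, nat_lit 220, nat_lit 154]) (.node (nat_lit 69) (.leaf (nat_lit 21524) [nat_lit 110, nat_lit 154, nat_lit 132, nat_lit 198, nat_lit 176, nat_lit 132, nat_lit 198, nat_lit 110, nat_lit 176, nat_lit 198]) (.leaf (nat_lit 33800) [nat_lit 154, nat_lit 132, nat_lit 220, nat_lit 132, nat_lit 154, nat_lit 220, nat_lit 110, nat_lit 154, nat_lit 220, nat_lit 154]))) (.node (nat_lit 71) (.leaf (nat_lit 19463) [nat_lit 242, nat_lit 220, nat_lit 242, nat_lit 264, nat_lit 132, nat_lit 220, nat_lit 132, nat_lit 220, nat_lit 286, nat_lit 242]) (.node (nat_lit 72) (.leaf (nat_lit 9234) [nat_lit 264, nat_lit 132, nat_lit 44, nat_lit 110, nat_lit 286, nat_lit 154, nat_lit 242, nat_lit 110, nat_lit 198, nat_lit 132, nat_lit 176]) (.leaf (nat_lit 20483) [nat_lit 132, nat_lit 220, nat_lit 176,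 nat_lit 220, nat_lit 220, nat_lit 154, nat_lit 198, nat_lit 132, nat_lit 132, nat_lit 198]))))
noncomputable def r74 : WT := (.node (nat_lit 49) (.node (nat_lit 43) (.node (nat_lit 40) (.node (nat_lit 39) (.leaf (nat_lit 24580) [nat_lit 176, nat_lit 198, nat_lit 264, nat_lit 176, nat_lit 198, nat_lit 176, nat_lit 198, nat_lit 286, nat_lit 154, nat_lit 154]) (.leaf (nat_lit 29716) [nat_lit 110, nat_lit 110, nat_lit 154, nat_lit 220, nat_lit 176, nat_lit 110, nat_lit 220, nat_lit 154, nat_lit 198, nat_lit 154])) (.node (nat_lit 41) (.leaf (nat_lit 25611) [nat_lit 198, nat_lit 110, nat_lit 198, nat_lit 132, nat_lit 132, nat_lit 154, nat_lit 132, nat_lit 154, nat_lit 198, nat_lit 154]) r61)) (.node (nat_lit 46) (.node (nat_lit 44) (.leaf (nat_lit 18444) [nat_lit 242, nat_lit 110, nat_lit 242, nat_lit 198, nat_lit 110, nat_lit 198, nat_lit 110, nat_lit 242, nat_lit 198, nat_lit 110]) r62) (.node (nat_lit 47) (.leaf (nat_lit 33799) [nat_lit 110, nat_lit 176, nat_lit 220,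 nat_lit 176, nat_lit 198, nat_lit 176, nat_lit 132, nat_lit 198, nat_lit 176, nat_lit 110]) r63))) (.node (nat_lit 58) (.node (nat_lit 53) (.node (nat_lit 51) r64 r65) (.node (nat_lit 55) r66 r68)) (.node (nat_lit 64) (.node (nat_lit 61) r70 r71) (.node (nat_lit 67) r72 r73))))
noncomputable def w7 : WT := (.node (nat_lit 1) (.leaf (nat_lit 4096) [nat_lit 220]) (.node (nat_lit 7) (.node (nat_lit 3) (.node (nat_lit 2) (.leaf (nat_lit 37888) [nat_lit 308, nat_lit 220, nat_lit 308]) (.leaf (nat_lit 14336) [nat_lit 198, nat_lit 198, nat_lit 198])) (.node (nat_lit 4) (.leaf (nat_lit 15364) [nat_lit 110, nat_lit 154, nat_lit 198, nat_lit 110, nat_lit 154]) r54)) (.node (nat_lit 22) (.node (nat_lit 13) r55 r56) (.node (nat_lit 38) r60 r74))))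
noncomputable def r75 : WT := (.node (nat_lit 5) (.leaf (nat_lit 16390) [nat_lit 132, nat_lit 242, nat_lit 110, nat_lit 198, nat_lit 242]) (.leaf (nat_lit 24589) [nat_lit 154, nat_lit 220, nat_lit 176, nat_lit 176, nat_lit 264, nat_lit 220, nat_lit 154, nat_lit 220, nat_lit 154, nat_lit 286]))
noncomputable def r76 : WT := (.node (nat_lit 8) (.node (nat_lit 7) (.leaf (nat_lit 20491) [nat_lit 220, nat_lit 154, nat_lit 198, nat_lit 132, nat_lit 132, nat_lit 198, nat_lit 198, nat_lit 132, nat_lit 220, nat_lit 176]) (.leaf (nat_lit 21519) [nat_lit 110, nat_lit 176, nat_lit 132, nat_lit 220, nat_lit 220, nat_lit 154, nat_lit 132, nat_lit 220, nat_lit 110, nat_lit 154])) (.node (nat_lit 9) (.leaf (nat_lit 23572) [nat_lit 110, nat_lit 176, nat_lit 110, nat_lit 176, nat_lit 220, nat_lit 176, nat_lit 220, nat_lit 176, nat_lit 198, nat_lit 154]) (.leaf (nat_lit 24579) [nat_lit 154, nat_lit 220, nat_lit 154, nat_lit 286, nat_lit 220, nat_lit 154, nat_lit 220, nat_lit 176, nat_lit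 176, nat_lit 264])))
noncomputable def r77 : WT := (.node (nat_lit 14) (.node (nat_lit 12) (.node (nat_lit 11) (.leaf (nat_lit 20500) [nat_lit 110, nat_lit 110, nat_lit 220, nat_lit 176, nat_lit 198, nat_lit 198, nat_lit 154, nat_lit 198, nat_lit 110, nat_lit 220]) (.leaf (nat_lit 20498) [nat_lit 220, nat_lit 110, nat_lit 110, nat_lit 220, nat_lit 176, nat_lit 198, nat_lit 198, nat_lit 154, nat_lit 198, nat_lit 110])) (.node (nat_lit 13) (.leaf (nat_lit 18445) [nat_lit 242, nat_lit 132, nat_lit 220, nat_lit 132, nat_lit 220, nat_lit 242, nat_lit 132, nat_lit 242, nat_lit 220, nat_lit 132]) (.leaf (nat_lit 23560) [nat_lit 176, nat_lit 220, nat_lit 176, nat_lit 198, nat_lit 154, nat_lit 220, nat_lit 110, nat_lit 176, nat_lit 110, nat_lit 176]))) (.node (nat_lit 17) (.node (nat_lit 15) (.leaf (nat_lit 31759) [nat_lit 176, nat_lit 286, nat_lit 132, nat_lit 154, nat_lit 242, nat_lit 264, nat_lit 176, nat_lit 110, nat_lit 264, nat_lit 154]) (.node (nat_lit 16) (.leaf (nat_lit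 18451) [nat_lit 132, nat_lit 220, nat_lit 242, nat_lit 132, nat_lit 242, nat_lit 220, nat_lit 132, nat_lit 220, nat_lit 242, nat_lit 132]) (.leaf (nat_lit 19457) [nat_lit 286, nat_lit 242, nat_lit 198, nat_lit 242, nat_lit 220, nat_lit 242, nat_lit 264, nat_lit 132, nat_lit 220, nat_lit 132]))) (.node (nat_lit 18) (.leaf (nat_lit 20484) [nat_lit 176, nat_lit 198, nat_lit 198, nat_lit 154, nat_lit 198, nat_lit 110, nat_lit 220, nat_lit 220, nat_lit 110, nat_lit 110]) (.node (nat_lit 19) (.leaf (nat_lit 30725) [nat_lit 242, nat_lit 154, nat_lit 242, nat_lit 198, nat_lit 198, nat_lit 110, nat_lit 220, nat_lit 132, nat_lit 176, nat_lit 242]) (.leaf (nat_lit 25614) [nat_lit 176, nat_lit 110, nat_lit 176, nat_lit 110, nat_lit 110, nat_lit 220, nat_lit 132, nat_lit 220, nat_lit 220, nat_lit 176])))))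
noncomputable def r78 : WT := (.leaf (nat_lit 40988) [nat_lit 220, nat_lit 242, nat_lit 264, nat_lit 308, nat_lit 286, nat_lit 132, nat_lit 264, nat_lit 308, nat_lit 286, nat_lit 110, nat_lit 242, nat_lit 198, nat_lit 198, nat_lit 264, nat_lit 308, nat_lit 286])
noncomputable def r79 : WT := (.leaf (nat_lit 40973) [nat_lit 220, nat_lit 242, nat_lit 132, nat_lit 264, nat_lit 308, nat_lit 286, nat_lit 110, nat_lit 264, nat_lit 308, nat_lit 286, nat_lit 242, nat_lit 198, nat_lit 198, nat_lit 264, nat_lit 308, nat_lit 286])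
noncomputable def r80 : WT := (.node (nat_lit 35) (.leaf (nat_lit 27656) [nat_lit 264, nat_lit 132, nat_lit 220, nat_lit 264, nat_lit 176, nat_lit 198, nat_lit 110, nat_lit 176, nat_lit 264, nat_lit 132]) (.leaf (nat_lit 29708) [nat_lit 154, nat_lit 198, nat_lit 154, nat_lit 198, nat_lit 110, nat_lit 110, nat_lit 154, nat_lit 220, nat_lit 176, nat_lit 110]))
noncomputable def r81 : WT := (.node (nat_lit 27) (.node (nat_lit 23) (.node (nat_lit 21) r78 (.node (nat_lit 22) (.leaf (nat_lit 24583) [nat_lit 154, nat_lit 286, nat_lit 220, nat_lit 154, nat_lit 220, nat_lit 176, nat_lit 176, nat_lit 264, nat_lit 220, nat_lit 154]) r79)) (.node (nat_lit 25) (.node (nat_lit 24) (.leaf (nat_lit 26642) [nat_lit 220, nat_lit 110, nat_lit 110, nat_lit 198, nat_lit 198, nat_lit 132, nat_lit 154, nat_lit 132, nat_lit 176, nat_lit 110]) (.leaf (nat_lit 33812) [nat_lit 110, nat_lit 154, nat_lit 220, nat_lit 154, nat_lit 198, nat_lit 154, nat_lit 132, nat_lit 220, nat_lit 132, nat_lit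 154])) (.node (nat_lit 26) (.leaf (nat_lit 27649) [nat_lit 154, nat_lit 286, nat_lit 198, nat_lit 110, nat_lit 286, nat_lit 198, nat_lit 110, nat_lit 286, nat_lit 154, nat_lit 132]) (.leaf (nat_lit 29702) [nat_lit 176, nat_lit 110, nat_lit 220, nat_lit 154, nat_lit 198, nat_lit 154, nat_lit 198, nat_lit 110, nat_lit 110, nat_lit 154])))) (.node (nat_lit 31) (.node (nat_lit 29) (.node (nat_lit 28) (.leaf (nat_lit 32785) [nat_lit 154, nat_lit 132, nat_lit 220, nat_lit 176, nat_lit 198, nat_lit 176, nat_lit 110, nat_lit 176, nat_lit 198, nat_lit 176]) (.leaf (nat_lit 22546) [nat_lit 264, nat_lit 110, nat_lit 110, nat_lit 242, nat_lit 110, nat_lit 286, nat_lit 132, nat_lit 220, nat_lit 132, nat_lit 242])) (.node (nat_lit 30) (.leaf (nat_lit 20487) [nat_lit 176, nat_lit 220, nat_lit 220, nat_lit 154, nat_lit 198, nat_lit 132, nat_lit 132, nat_lit 198, nat_lit 198, nat_lit 132]) (.leaf (nat_lit 19475) [nat_lit 132, nat_lit 220, nat_lit 286, nat_lit 242, nat_lit 198, nat_lit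 242, nat_lit 220, nat_lit 242, nat_lit 264, nat_lit 132]))) (.node (nat_lit 33) (.node (nat_lit 32) (.leaf (nat_lit 23564) [nat_lit 176, nat_lit 198, nat_lit 154, nat_lit 220, nat_lit 110, nat_lit 176, nat_lit 110, nat_lit 176, nat_lit 220, nat_lit 176]) (.leaf (nat_lit 29701) [nat_lit 176, nat_lit 198, nat_lit 132, nat_lit 154, nat_lit 198, nat_lit 176, nat_lit 132, nat_lit 132, nat_lit 220, nat_lit 176])) (.node (nat_lit 34) (.leaf (nat_lit 18433) [nat_lit 242, nat_lit 132, nat_lit 242, nat_lit 220, nat_lit 132, nat_lit 220, nat_lit 242, nat_lit 132, nat_lit 220, nat_lit 132]) r80))))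
noncomputable def r82 : WT := (.node (nat_lit 38) (.leaf (nat_lit 32784) [nat_lit 154, nat_lit 198, nat_lit 110, nat_lit 176, nat_lit 198, nat_lit 154, nat_lit 220, nat_lit 154, nat_lit 132, nat_lit 154]) (.leaf (nat_lit 21505) [nat_lit 220, nat_lit 154, nat_lit 132, nat_lit 220, nat_lit 110, nat_lit 154, nat_lit 220, nat_lit 110, nat_lit 176, nat_lit 132]))
noncomputable def r83 : WT := (.node (nat_lit 41) (.leaf (nat_lit 21507) [nat_lit 154, nat_lit 132, nat_lit 220, nat_lit 110, nat_lit 154, nat_lit 220, nat_lit 110, nat_lit 176, nat_lit 132, nat_lit 220]) (.leaf (nat_lit 21513) [nat_lit 110, nat_lit 154, nat_lit 220, nat_lit 110, nat_lit 176, nat_lit 132, nat_lit 220, nat_lit 220, nat_lit 154, nat_lit 132]))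
noncomputable def r84 : WT := (.node (nat_lit 44) (.leaf (nat_lit 33806) [nat_lit 132, nat_lit 154, nat_lit 220, nat_lit 110, nat_lit 154, nat_lit 220, nat_lit 154, nat_lit 198, nat_lit 154, nat_lit 132]) (.leaf (nat_lit 34828) [nat_lit 154, nat_lit 154, nat_lit 220, nat_lit 176, nat_lit 110, nat_lit 176, nat_lit 198, nat_lit 110, nat_lit 198, nat_lit 110]))
noncomputable def r85 : WT := (.leaf (nat_lit 40975) [nat_lit 242, nat_lit 132, nat_lit 264, nat_lit 308, nat_lit 286, nat_lit 110, nat_lit 264, nat_lit 308, nat_lit 286, nat_lit 242, nat_lit 198, nat_lit 198, nat_lit 264, nat_lit 308, nat_lit 286, nat_lit 220])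
noncomputable def r86 : WT := (.node (nat_lit 47) r85 (.leaf (nat_lit 20493) [nat_lit 154, nat_lit 198, nat_lit 132, nat_lit 132, nat_lit 198, nat_lit 198, nat_lit 132, nat_lit 220, nat_lit 176, nat_lit 220]))
noncomputable def r87 : WT := (.node (nat_lit 49) (.leaf (nat_lit 24593) [nat_lit 176, nat_lit 176, nat_lit 264, nat_lit 220, nat_lit 154, nat_lit 220, nat_lit 154, nat_lit 286, nat_lit 220, nat_lit 154]) (.leaf (nat_lit 28681) [nat_lit 220, nat_lit 154, nat_lit 154, nat_lit 110, nat_lit 176, nat_lit 132, nat_lit 198, nat_lit 198, nat_lit 132, nat_lit 176]))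
noncomputable def r88 : WT := (.node (nat_lit 51) (.leaf (nat_lit 28690) [nat_lit 220, nat_lit 110, nat_lit 154, nat_lit 132, nat_lit 176, nat_lit 176, nat_lit 198, nat_lit 198, nat_lit 154, nat_lit 110]) (.leaf (nat_lit 22540) [nat_lit 132, nat_lit 242, nat_lit 220, nat_lit 264, nat_lit 110, nat_lit 110, nat_lit 242, nat_lit 110, nat_lit 286, nat_lit 132]))
noncomputable def r89 : WT := (.leaf (nat_lit 40990) [nat_lit 242, nat_lit 264, nat_lit 308, nat_lit 286, nat_lit 132, nat_lit 264, nat_lit 308, nat_lit 286, nat_lit 110, nat_lit 242, nat_lit 198, nat_lit 198, nat_lit 264, nat_lit 308, nat_lit 286, nat_lit 220])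
noncomputable def r90 : WT := (.node (nat_lit 53) r89 (.leaf (nat_lit 18441) [nat_lit 132, nat_lit 220, nat_lit 242, nat_lit 132, nat_lit 220, nat_lit 132, nat_lit 220, nat_lit 242, nat_lit 132, nat_lit 242]))
noncomputable def r91 : WT := (.node (nat_lit 55) (.leaf (nat_lit 34833) [nat_lit 154, nat_lit 132, nat_lit 154, nat_lit 198, nat_lit 176, nat_lit 176, nat_lit 198, nat_lit 132, nat_lit 220, nat_lit 132]) (.node (nat_lit 56) (.leaf (nat_lit 25604) [nat_lit 132, nat_lit 220, nat_lit 220, nat_lit 176, nat_lit 220, nat_lit 176, nat_lit 110, nat_lit 176, nat_lit 110, nat_lit 110]) (.leaf (nat_lit 19470) [nat_lit 242, nat_lit 264, nat_lit 198, nat_lit 110, nat_lit 198, nat_lit 110, nat_lit 286, nat_lit 242, nat_lit 198, nat_lit 242])))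
noncomputable def r92 : WT := (.node (nat_lit 58) (.leaf (nat_lit 32776) [nat_lit 154, nat_lit 132, nat_lit 154, nat_lit 220, nat_lit 154, nat_lit 198, nat_lit 110, nat_lit 176, nat_lit 198, nat_lit 154]) (.node (nat_lit 59) (.leaf (nat_lit 19467) [nat_lit 242, nat_lit 264, nat_lit 132, nat_lit 220, nat_lit 132, nat_lit 220, nat_lit 286, nat_lit 242, nat_lit 198, nat_lit 242]) (.leaf (nat_lit 33796) [nat_lit 154, nat_lit 198, nat_lit 154, nat_lit 132, nat_lit 220, nat_lit 132, nat_lit 154, nat_lit 220, nat_lit 110, nat_lit 154])))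
noncomputable def r93 : WT := (.node (nat_lit 61) (.leaf (nat_lit 27662) [nat_lit 264, nat_lit 176, nat_lit 198, nat_lit 110, nat_lit 176, nat_lit 264, nat_lit 132, nat_lit 220, nat_lit 264, nat_lit 132]) (.node (nat_lit 62) (.leaf (nat_lit 33805) [nat_lit 176, nat_lit 198, nat_lit 176, nat_lit 132, nat_lit 198, nat_lit 176, nat_lit 110, nat_lit 198, nat_lit 110, nat_lit 176]) (.leaf (nat_lit 26639) [nat_lit 220, nat_lit 132, nat_lit 132, nat_lit 198, nat_lit 198, nat_lit 132, nat_lit 154, nat_lit 110, nat_lit 176, nat_lit 110])))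
noncomputable def r94 : WT := (.node (nat_lit 65) (.node (nat_lit 64) (.leaf (nat_lit 34829) [nat_lit 132, nat_lit 220, nat_lit 154, nat_lit 132, nat_lit 154, nat_lit 198, nat_lit 176, nat_lit 176, nat_lit 198, nat_lit 132]) (.leaf (nat_lit 28692) [nat_lit 110, nat_lit 154, nat_lit 132, nat_lit 176, nat_lit 176, nat_lit 198, nat_lit 198, nat_lit 154, nat_lit 110, nat_lit 220])) (.node (nat_lit 66) (.leaf (nat_lit 9221) [nat_lit 154, nat_lit 110, nat_lit 220, nat_lit 132, nat_lit 242, nat_lit 176, nat_lit 264, nat_lit 132, nat_lit 44, nat_lit 110, nat_lit 286]) (.leaf (nat_lit 28683) [nat_lit 154, nat_lit 154, nat_lit 110, nat_lit 176, nat_lit 132, nat_lit 198, nat_lit 198, nat_lit 132, nat_lit 176, nat_lit 220])))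
noncomputable def r95 : WT := (.node (nat_lit 69) (.node (nat_lit 68) (.leaf (nat_lit 30726) [nat_lit 220, nat_lit 242, nat_lit 176, nat_lit 242, nat_lit 198, nat_lit 242, nat_lit 154, nat_lit 110, nat_lit 198, nat_lit 132]) (.leaf (nat_lit 29697) [nat_lit 176, nat_lit 220, nat_lit 176, nat_lit 198, nat_lit 132, nat_lit 154, nat_lit 198, nat_lit 176, nat_lit 132, nat_lit 132])) (.node (nat_lit 70) (.leaf (nat_lit 32769) [nat_lit 176, nat_lit 198, nat_lit 176, nat_lit 110, nat_lit 176, nat_lit 198, nat_lit 176, nat_lit 220, nat_lit 154, nat_lit 132]) (.leaf (nat_lit 30728) [nat_lit 242, nat_lit 176, nat_lit 242, nat_lit 198, nat_lit 242, nat_lit 154, nat_lit 110, nat_lit 198, nat_lit 132, nat_lit 220])))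
noncomputable def r96 : WT := (.node (nat_lit 48) (.node (nat_lit 42) (.node (nat_lit 39) (.node (nat_lit 37) (.leaf (nat_lit 30739) [nat_lit 132, nat_lit 176, nat_lit 242, nat_lit 220, nat_lit 242, nat_lit 154, nat_lit 242, nat_lit 198, nat_lit 198, nat_lit 110]) r82) (.node (nat_lit 40) (.leaf (nat_lit 26644) [nat_lit 110, nat_lit 110, nat_lit 198, nat_lit 198, nat_lit 132, nat_lit 154, nat_lit 132, nat_lit 176, nat_lit 110, nat_lit 220]) r83)) (.node (nat_lit 45) (.node (nat_lit 43) (.leaf (nat_lit 23557) [nat_lit 154, nat_lit 198, nat_lit 154, nat_lit 198, nat_lit 154, nat_lit 132, nat_lit 154, nat_lit 132, nat_lit 198, nat_lit 176]) r84) (.node (nat_lit 46) (.leaf (nat_lit 34834) [nat_lit 176, nat_lit 110, nat_lit 176, nat_lit 198, nat_lit 110, nat_lit 198, nat_lit 110, nat_lit 220, nat_lit 154, nat_lit 154]) r86))) (.node (nat_lit 57) (.node (nat_lit 52) (.node (nat_lit 50) r87 r88) (.node (nat_lit 54) r90 r91)) (.node (nat_lit 63) (.node (nat_lit 60) r92 r93)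 (.node (nat_lit 67) r94 r95))))
noncomputable def w8 : WT := (.node (nat_lit 1) (.leaf (nat_lit 4098) [nat_lit 198]) (.node (nat_lit 6) (.node (nat_lit 3) (.node (nat_lit 2) (.leaf (nat_lit 37892) [nat_lit 308, nat_lit 198, nat_lit 308]) (.leaf (nat_lit 14337) [nat_lit 220, nat_lit 220, nat_lit 220])) (.node (nat_lit 4) (.leaf (nat_lit 15361) [nat_lit 176, nat_lit 132, nat_lit 220, nat_lit 176, nat_lit 132]) r75)) (.node (nat_lit 20) (.node (nat_lit 10) r76 r77) (.node (nat_lit 36) r81 r96))))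
noncomputable def r97 : WT := (.node (nat_lit 5) (.leaf (nat_lit 17416) [nat_lit 154, nat_lit 242, nat_lit 264, nat_lit 176, nat_lit 132, nat_lit 242, nat_lit 110, nat_lit 154, nat_lit 286, nat_lit 176]) (.leaf (nat_lit 17417) [nat_lit 176, nat_lit 242, nat_lit 154, nat_lit 264, nat_lit 176, nat_lit 132, nat_lit 242, nat_lit 110, nat_lit 154, nat_lit 286]))
noncomputable def r98 : WT := (.node (nat_lit 8) (.node (nat_lit 7) (.leaf (nat_lit 18435) [nat_lit 132, nat_lit 242, nat_lit 220, nat_lit 132, nat_lit 220, nat_lit 242, nat_lit 132, nat_lit 220, nat_lit 132, nat_lit 220]) (.leaf (nat_lit 17428) [nat_lit 110, nat_lit 154, nat_lit 286, nat_lit 176, nat_lit 242, nat_lit 154, nat_lit 242, nat_lit 264, nat_lit 176, nat_lit 132])) (.node (nat_lit 9) (.leaf (nat_lit 18438) [nat_lit 198, nat_lit 110, nat_lit 198, nat_lit 242, nat_lit 110, nat_lit 242, nat_lit 198, nat_lit 110, nat_lit 198, nat_lit 110]) (.leaf (nat_lit 10244) [nat_lit 110, nat_lit 176, nat_lit 132, nat_lit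 154, nat_lit 88, nat_lit 176])))
noncomputable def r99 : WT := (.node (nat_lit 12) (.node (nat_lit 11) (.leaf (nat_lit 22545) [nat_lit 132, nat_lit 132, nat_lit 286, nat_lit 198, nat_lit 242, nat_lit 110, nat_lit 198, nat_lit 110, nat_lit 264, nat_lit 132]) (.leaf (nat_lit 17420) [nat_lit 264, nat_lit 176, nat_lit 132, nat_lit 242, nat_lit 110, nat_lit 154, nat_lit 286, nat_lit 176, nat_lit 242, nat_lit 154])) (.node (nat_lit 13) (.leaf (nat_lit 30734) [nat_lit 198, nat_lit 242, nat_lit 154, nat_lit 110, nat_lit 198, nat_lit 132, nat_lit 220, nat_lit 220, nat_lit 242, nat_lit 176]) (.node (nat_lit 14) (.leaf (nat_lit 30730) [nat_lit 176, nat_lit 242, nat_lit 198, nat_lit 242, nat_lit 154, nat_lit 110, nat_lit 198, nat_lit 132, nat_lit 220, nat_lit 220]) (.leaf (nat_lit 22532) [nat_lit 110, nat_lit 286, nat_lit 132, nat_lit 220, nat_lit 132, nat_lit 242, nat_lit 220, nat_lit 264, nat_lit 110, nat_lit 110]))))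
noncomputable def r100 : WT := (.node (nat_lit 18) (.node (nat_lit 16) (.leaf (nat_lit 30731) [nat_lit 198, nat_lit 198, nat_lit 110, nat_lit 220, nat_lit 132, nat_lit 176, nat_lit 242, nat_lit 220, nat_lit 242, nat_lit 154]) (.node (nat_lit 17) (.leaf (nat_lit 17421) [nat_lit 154, nat_lit 264, nat_lit 176, nat_lit 132, nat_lit 242, nat_lit 110, nat_lit 154, nat_lit 286, nat_lit 242, nat_lit 176]) (.leaf (nat_lit 30727) [nat_lit 154, nat_lit 242, nat_lit 198, nat_lit 198, nat_lit 110, nat_lit 220, nat_lit 132, nat_lit 176, nat_lit 242, nat_lit 220]))) (.node (nat_lit 20) (.node (nat_lit 19) (.leaf (nat_lit 31762) [nat_lit 176, nat_lit 110, nat_lit 264, nat_lit 154, nat_lit 198, nat_lit 176, nat_lit 286, nat_lit 132, nat_lit 154, nat_lit 286]) (.leaf (nat_lit 19464) [nat_lit 198, nat_lit 242, nat_lit 220, nat_lit 242, nat_lit 264, nat_lit 198, nat_lit 110, nat_lit 198, nat_lit 110, nat_lit 286])) (.node (nat_lit 21) (.leaf (nat_lit 31747) [nat_lit 264, nat_lit 176,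 nat_lit 110, nat_lit 264, nat_lit 154, nat_lit 220, nat_lit 176, nat_lit 286, nat_lit 132, nat_lit 154]) (.leaf (nat_lit 30738) [nat_lit 154, nat_lit 110, nat_lit 198, nat_lit 132, nat_lit 220, nat_lit 220, nat_lit 242, nat_lit 176, nat_lit 242, nat_lit 198]))))
noncomputable def r101 : WT := (.leaf (nat_lit 40961) [nat_lit 198, nat_lit 198, nat_lit 264, nat_lit 308, nat_lit 286, nat_lit 220, nat_lit 220, nat_lit 242, nat_lit 132, nat_lit 264, nat_lit 308, nat_lit 286, nat_lit 110, nat_lit 264, nat_lit 308, nat_lit 286])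
noncomputable def r102 : WT := (.leaf (nat_lit 40977) [nat_lit 132, nat_lit 264, nat_lit 308, nat_lit 286, nat_lit 110, nat_lit 264, nat_lit 308, nat_lit 286, nat_lit 242, nat_lit 198, nat_lit 198, nat_lit 264, nat_lit 308, nat_lit 286, nat_lit 220, nat_lit 220])
noncomputable def r103 : WT := (.node (nat_lit 33) (.leaf (nat_lit 19468) [nat_lit 220, nat_lit 242, nat_lit 264, nat_lit 198, nat_lit 110, nat_lit 198, nat_lit 110, nat_lit 286, nat_lit 242, nat_lit 198]) r102)
noncomputable def r104 : WT := (.leaf (nat_lit 40976) [nat_lit 198, nat_lit 198, nat_lit 264, nat_lit 308, nat_lit 286, nat_lit 220, nat_lit 220, nat_lit 242, nat_lit 264, nat_lit 308, nat_lit 286, nat_lit 132, nat_lit 264, nat_lit 308, nat_lit 286, nat_lit 110])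
noncomputable def r105 : WT := (.node (nat_lit 35) (.leaf (nat_lit 17409) [nat_lit 110, nat_lit 154, nat_lit 286, nat_lit 242, nat_lit 176, nat_lit 242, nat_lit 154, nat_lit 264, nat_lit 176, nat_lit 132]) r104)
noncomputable def r106 : WT := (.leaf (nat_lit 40992) [nat_lit 264, nat_lit 308, nat_lit 286, nat_lit 132, nat_lit 264, nat_lit 308, nat_lit 286, nat_lit 110, nat_lit 242, nat_lit 198, nat_lit 198, nat_lit 264, nat_lit 308, nat_lit 286, nat_lit 220, nat_lit 220])
noncomputable def r107 : WT := (.node (nat_lit 37) r106 (.node (nat_lit 38) (.leaf (nat_lit 19465) [nat_lit 220, nat_lit 242, nat_lit 264, nat_lit 132, nat_lit 220, nat_lit 132, nat_lit 220, nat_lit 286, nat_lit 242, nat_lit 198]) (.node (nat_lit 39) (.leaf (nat_lit 9224) [nat_lit 110, nat_lit 198, nat_lit 132, nat_lit 176, nat_lit 198, nat_lit 264, nat_lit 132, nat_lit 44, nat_lit 110, nat_lit 286, nat_lit 154]) (.leaf (nat_lit 9231) [nat_lit 176, nat_lit 264, nat_lit 132, nat_lit 44, nat_lit 110,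 nat_lit 286, nat_lit 220, nat_lit 154, nat_lit 110, nat_lit 220, nat_lit 132]))))
noncomputable def r108 : WT := (.node (nat_lit 27) (.node (nat_lit 24) (.node (nat_lit 23) (.leaf (nat_lit 19472) [nat_lit 264, nat_lit 198, nat_lit 110, nat_lit 198, nat_lit 110, nat_lit 286, nat_lit 242, nat_lit 198, nat_lit 242, nat_lit 220]) (.leaf (nat_lit 18439) [nat_lit 220, nat_lit 132, nat_lit 220, nat_lit 242, nat_lit 132, nat_lit 220, nat_lit 132, nat_lit 220, nat_lit 242, nat_lit 132])) (.node (nat_lit 25) (.leaf (nat_lit 18450) [nat_lit 198, nat_lit 110, nat_lit 198, nat_lit 110, nat_lit 242, nat_lit 198, nat_lit 110, nat_lit 198, nat_lit 242, nat_lit 110]) (.node (nat_lit 26) (.leaf (nat_lit 18446) [nat_lit 110, nat_lit 242, nat_lit 198, nat_lit 110, nat_lit 198, nat_lit 110, nat_lit 242, nat_lit 198, nat_lit 110, nat_lit 198]) r101))) (.node (nat_lit 31) (.node (nat_lit 29) (.node (nat_lit 28) (.leaf (nat_lit 10249) [nat_lit 154, nat_lit 66, nat_lit 176, nat_lit 110, nat_lit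 154, nat_lit 132]) (.leaf (nat_lit 18447) [nat_lit 132, nat_lit 220, nat_lit 132, nat_lit 220, nat_lit 242, nat_lit 132, nat_lit 242, nat_lit 220, nat_lit 132, nat_lit 220])) (.node (nat_lit 30) (.leaf (nat_lit 22533) [nat_lit 110, nat_lit 198, nat_lit 110, nat_lit 264, nat_lit 132, nat_lit 242, nat_lit 132, nat_lit 132, nat_lit 286, nat_lit 198]) (.leaf (nat_lit 30723) [nat_lit 220, nat_lit 242, nat_lit 154, nat_lit 242, nat_lit 198, nat_lit 198, nat_lit 110, nat_lit 220, nat_lit 132, nat_lit 176]))) (.node (nat_lit 34) (.node (nat_lit 32) (.leaf (nat_lit 22544) [nat_lit 220, nat_lit 264, nat_lit 110, nat_lit 110, nat_lit 242, nat_lit 110, nat_lit 286, nat_lit 132, nat_lit 220, nat_lit 132]) r103) (.node (nat_lit 36) r105 r107))))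
noncomputable def w9 : WT := (.node (nat_lit 1) (.leaf (nat_lit 5120) [nat_lit 242]) (.node (nat_lit 6) (.node (nat_lit 3) (.node (nat_lit 2) (.leaf (nat_lit 38912) [nat_lit 308, nat_lit 242, nat_lit 308]) (.leaf (nat_lit 16394) [nat_lit 110, nat_lit 198, nat_lit 242, nat_lit 220, nat_lit 132])) (.node (nat_lit 4) (.leaf (nat_lit 16388) [nat_lit 220, nat_lit 132, nat_lit 242, nat_lit 110, nat_lit 198]) r97)) (.node (nat_lit 15) (.node (nat_lit 10) r98 r99) (.node (nat_lit 22) r100 r108))))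
noncomputable def r109 : WT := (.node (nat_lit 4) (.leaf (nat_lit 24586) [nat_lit 176, nat_lit 198, nat_lit 176, nat_lit 198, nat_lit 286, nat_lit 154, nat_lit 154, nat_lit 198, nat_lit 176, nat_lit 198]) (.leaf (nat_lit 22548) [nat_lit 110, nat_lit 110, nat_lit 242, nat_lit 110, nat_lit 286, nat_lit 132, nat_lit 220, nat_lit 132, nat_lit 242, nat_lit 220]))
noncomputable def r110 : WT := (.node (nat_lit 6) (.leaf (nat_lit 17422) [nat_lit 176, nat_lit 132, nat_lit 242, nat_lit 110, nat_lit 154, nat_lit 286, nat_lit 176, nat_lit 242, nat_lit 154, nat_lit 242]) (.node (nat_lit 7) (.leaf (nat_lit 24577) [nat_lit 220, nat_lit 154, nat_lit 220, nat_lit 154, nat_lit 286, nat_lit 220, nat_lit 154, nat_lit 220, nat_lit 176, nat_lit 176]) (.leaf (nat_lit 31746) [nat_lit 154, nat_lit 198, nat_lit 176, nat_lit 286, nat_lit 132, nat_lit 154, nat_lit 286, nat_lit 242, nat_lit 176, nat_lit 110])))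
noncomputable def r111 : WT := (.node (nat_lit 9) (.leaf (nat_lit 17425) [nat_lit 176, nat_lit 132, nat_lit 242, nat_lit 110, nat_lit 154, nat_lit 286, nat_lit 242, nat_lit 176, nat_lit 242, nat_lit 154]) (.node (nat_lit 10) (.leaf (nat_lit 31749) [nat_lit 176, nat_lit 110, nat_lit 264, nat_lit 154, nat_lit 220, nat_lit 176, nat_lit 286, nat_lit 132, nat_lit 154, nat_lit 242]) (.leaf (nat_lit 27658) [nat_lit 132, nat_lit 220, nat_lit 264, nat_lit 176, nat_lit 198, nat_lit 110, nat_lit 176, nat_lit 264, nat_lit 132, nat_lit 220])))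
noncomputable def r112 : WT := (.node (nat_lit 13) (.node (nat_lit 12) (.leaf (nat_lit 19474) [nat_lit 198, nat_lit 110, nat_lit 198, nat_lit 110, nat_lit 286, nat_lit 242, nat_lit 198, nat_lit 242, nat_lit 220, nat_lit 242]) (.leaf (nat_lit 27652) [nat_lit 132, nat_lit 220, nat_lit 264, nat_lit 132, nat_lit 220, nat_lit 264, nat_lit 176, nat_lit 198, nat_lit 110, nat_lit 176])) (.node (nat_lit 14) (.leaf (nat_lit 31755) [nat_lit 154, nat_lit 220, nat_lit 176, nat_lit 286, nat_lit 132, nat_lit 154, nat_lit 242, nat_lit 264, nat_lit 176, nat_lit 110]) (.leaf (nat_lit 22541) [nat_lit 132, nat_lit 242, nat_lit 132, nat_lit 132, nat_lit 286, nat_lit 198, nat_lit 242, nat_lit 110, nat_lit 198, nat_lit 110])))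
noncomputable def r113 : WT := (.leaf (nat_lit 40968) [nat_lit 308, nat_lit 286, nat_lit 110, nat_lit 242, nat_lit 198, nat_lit 198, nat_lit 264, nat_lit 308, nat_lit 286, nat_lit 220, nat_lit 220, nat_lit 242, nat_lit 264, nat_lit 308, nat_lit 286, nat_lit 132])
noncomputable def r114 : WT := (.leaf (nat_lit 40989) [nat_lit 308, nat_lit 286, nat_lit 242, nat_lit 198, nat_lit 198, nat_lit 264, nat_lit 308, nat_lit 286, nat_lit 220, nat_lit 220, nat_lit 242, nat_lit 132, nat_lit 264, nat_lit 308, nat_lit 286, nat_lit 110])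
noncomputable def r115 : WT := (.leaf (nat_lit 40982) [nat_lit 308, nat_lit 286, nat_lit 220, nat_lit 220, nat_lit 242, nat_lit 264, nat_lit 308, nat_lit 286, nat_lit 132, nat_lit 264, nat_lit 308, nat_lit 286, nat_lit 110, nat_lit 242, nat_lit 198, nat_lit 198])
noncomputable def r116 : WT := (.leaf (nat_lit 40981) [nat_lit 308, nat_lit 286, nat_lit 110, nat_lit 264, nat_lit 308, nat_lit 286, nat_lit 242, nat_lit 198, nat_lit 198, nat_lit 264, nat_lit 308, nat_lit 286, nat_lit 220, nat_lit 220, nat_lit 242, nat_lit 132])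
noncomputable def r117 : WT := (.leaf (nat_lit 40967) [nat_lit 308, nat_lit 286, nat_lit 220, nat_lit 220, nat_lit 242, nat_lit 132, nat_lit 264, nat_lit 308, nat_lit 286, nat_lit 110, nat_lit 264, nat_lit 308, nat_lit 286, nat_lit 242, nat_lit 198, nat_lit 198])
noncomputable def r118 : WT := (.leaf (nat_lit 40960) [nat_lit 308, nat_lit 286, nat_lit 132, nat_lit 264, nat_lit 308, nat_lit 286, nat_lit 110, nat_lit 242, nat_lit 198, nat_lit 198, nat_lit 264, nat_lit 308, nat_lit 286, nat_lit 220, nat_lit 220, nat_lit 242])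
noncomputable def r119 : WT := (.node (nat_lit 18) (.node (nat_lit 16) (.leaf (nat_lit 19471) [nat_lit 132, nat_lit 220, nat_lit 132, nat_lit 220, nat_lit 286, nat_lit 242, nat_lit 198, nat_lit 242, nat_lit 220, nat_lit 242]) (.node (nat_lit 17) (.leaf (nat_lit 27664) [nat_lit 176, nat_lit 198, nat_lit 110, nat_lit 176, nat_lit 264, nat_lit 132, nat_lit 220, nat_lit 264, nat_lit 132, nat_lit 220]) r113)) (.node (nat_lit 20) (.node (nat_lit 19) r114 r115) (.node (nat_lit 21) r116 (.node (nat_lit 22) r117 r118))))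
noncomputable def w10 : WT := (.node (nat_lit 1) (.leaf (nat_lit 6144) [nat_lit 286]) (.node (nat_lit 5) (.node (nat_lit 2) (.leaf (nat_lit 13312) [nat_lit 264, nat_lit 264]) (.node (nat_lit 3) (.leaf (nat_lit 39936) [nat_lit 308, nat_lit 264, nat_lit 308, nat_lit 264, nat_lit 308]) r109)) (.node (nat_lit 11) (.node (nat_lit 8) r110 r111) (.node (nat_lit 15) r112 r119))))
noncomputable def r120 : WT := (.node (nat_lit 5) (.leaf (nat_lit 24596) [nat_lit 154, nat_lit 154, nat_lit 198, nat_lit 176, nat_lit 198, nat_lit 264, nat_lit 176, nat_lit 198, nat_lit 176, nat_lit 198]) (.leaf (nat_lit 17412) [nat_lit 176, nat_lit 242, nat_lit 154, nat_lit 242, nat_lit 264, nat_lit 176, nat_lit 132, nat_lit 242, nat_lit 110, nat_lit 154]))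
noncomputable def r121 : WT := (.node (nat_lit 8) (.node (nat_lit 7) (.leaf (nat_lit 22536) [nat_lit 132, nat_lit 220, nat_lit 132, nat_lit 242, nat_lit 220, nat_lit 264, nat_lit 110, nat_lit 110, nat_lit 242, nat_lit 110]) (.leaf (nat_lit 19462) [nat_lit 242, nat_lit 198, nat_lit 242, nat_lit 220, nat_lit 242, nat_lit 264, nat_lit 198, nat_lit 110, nat_lit 198, nat_lit 110])) (.node (nat_lit 9) (.leaf (nat_lit 31760) [nat_lit 242, nat_lit 176, nat_lit 110, nat_lit 264, nat_lit 154, nat_lit 198, nat_lit 176, nat_lit 286, nat_lit 132, nat_lit 154]) (.leaf (nat_lit 19459) [nat_lit 242, nat_lit 198, nat_lit 242, nat_lit 220, nat_lit 242, nat_lit 264, nat_lit 132, nat_lit 220, nat_lit 132, nat_lit 220])))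
noncomputable def r122 : WT := (.node (nat_lit 12) (.node (nat_lit 11) (.leaf (nat_lit 24587) [nat_lit 220, nat_lit 154, nat_lit 220, nat_lit 176, nat_lit 176, nat_lit 264, nat_lit 220, nat_lit 154, nat_lit 220, nat_lit 154]) (.leaf (nat_lit 27653) [nat_lit 198, nat_lit 110, nat_lit 286, nat_lit 198, nat_lit 110, nat_lit 286, nat_lit 154, nat_lit 132, nat_lit 220, nat_lit 154])) (.node (nat_lit 13) (.leaf (nat_lit 27665) [nat_lit 154, nat_lit 132, nat_lit 220, nat_lit 154, nat_lit 286, nat_lit 198, nat_lit 110, nat_lit 286, nat_lit 198, nat_lit 110]) (.leaf (nat_lit 27659) [nat_lit 198, nat_lit 110, nat_lit 286, nat_lit 154, nat_lit 132, nat_lit 220, nat_lit 154, nat_lit 286, nat_lit 198, nat_lit 110])))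
noncomputable def r123 : WT := (.leaf (nat_lit 40972) [nat_lit 110, nat_lit 242, nat_lit 198, nat_lit 198, nat_lit 264, nat_lit 308, nat_lit 286, nat_lit 220, nat_lit 220, nat_lit 242, nat_lit 264, nat_lit 308, nat_lit 286, nat_lit 132, nat_lit 264, nat_lit 308])
noncomputable def r124 : WT := (.leaf (nat_lit 40964) [nat_lit 132, nat_lit 264, nat_lit 308, nat_lit 286, nat_lit 110, nat_lit 242, nat_lit 198, nat_lit 198, nat_lit 264, nat_lit 308, nat_lit 286, nat_lit 220, nat_lit 220, nat_lit 242, nat_lit 264, nat_lit 308])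
noncomputable def r125 : WT := (.leaf (nat_lit 40985) [nat_lit 110, nat_lit 264, nat_lit 308, nat_lit 286, nat_lit 242, nat_lit 198, nat_lit 198, nat_lit 264, nat_lit 308, nat_lit 286, nat_lit 220, nat_lit 220, nat_lit 242, nat_lit 132, nat_lit 264, nat_lit 308])
noncomputable def r126 : WT := (.leaf (nat_lit 40986) [nat_lit 220, nat_lit 220, nat_lit 242, nat_lit 264, nat_lit 308, nat_lit 286, nat_lit 132, nat_lit 264, nat_lit 308, nat_lit 286, nat_lit 110, nat_lit 242, nat_lit 198, nat_lit 198, nat_lit 264, nat_lit 308])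
noncomputable def r127 : WT := (.leaf (nat_lit 40971) [nat_lit 220, nat_lit 220, nat_lit 242, nat_lit 132, nat_lit 264, nat_lit 308, nat_lit 286, nat_lit 110, nat_lit 264, nat_lit 308, nat_lit 286, nat_lit 242, nat_lit 198, nat_lit 198, nat_lit 264, nat_lit 308])
noncomputable def r128 : WT := (.leaf (nat_lit 40993) [nat_lit 242, nat_lit 198, nat_lit 198, nat_lit 264, nat_lit 308, nat_lit 286, nat_lit 220, nat_lit 220, nat_lit 242, nat_lit 132, nat_lit 264, nat_lit 308, nat_lit 286, nat_lit 110, nat_lit 264, nat_lit 308])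
noncomputable def r129 : WT := (.node (nat_lit 23) (.node (nat_lit 22) r127 (.leaf (nat_lit 9220) [nat_lit 154, nat_lit 242, nat_lit 110, nat_lit 198, nat_lit 132, nat_lit 176, nat_lit 198, nat_lit 264, nat_lit 132, nat_lit 44, nat_lit 110])) (.node (nat_lit 24) r128 (.leaf (nat_lit 9219) [nat_lit 220, nat_lit 154, nat_lit 110, nat_lit 220, nat_lit 132, nat_lit 242, nat_lit 176, nat_lit 264, nat_lit 132, nat_lit 44, nat_lit 110])))
noncomputable def r130 : WT := (.node (nat_lit 16) (.node (nat_lit 15) (.leaf (nat_lit 22529) [nat_lit 198, nat_lit 242, nat_lit 110, nat_lit 198, nat_lit 110, nat_lit 264, nat_lit 132, nat_lit 242, nat_lit 132, nat_lit 132]) (.leaf (nat_lit 31763) [nat_lit 132, nat_lit 154, nat_lit 242, nat_lit 264, nat_lit 176, nat_lit 110, nat_lit 264, nat_lit 154, nat_lit 220, nat_lit 176])) (.node (nat_lit 18) (.node (nat_lit 17) (.leaf (nat_lit 17415) [nat_lit 242, nat_lit 176, nat_lit 242, nat_lit 154, nat_lit 264, nat_lit 176, nat_lit 132, nat_lit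 242, nat_lit 110, nat_lit 154]) r123) (.node (nat_lit 20) (.node (nat_lit 19) r124 r125) (.node (nat_lit 21) r126 r129))))
noncomputable def w11 : WT := (.node (nat_lit 1) (.leaf (nat_lit 6146) [nat_lit 264]) (.node (nat_lit 4) (.node (nat_lit 2) (.leaf (nat_lit 13313) [nat_lit 286, nat_lit 286]) (.node (nat_lit 3) (.leaf (nat_lit 39939) [nat_lit 308, nat_lit 286, nat_lit 308, nat_lit 286, nat_lit 308]) (.leaf (nat_lit 31754) [nat_lit 132, nat_lit 154, nat_lit 286, nat_lit 242, nat_lit 176, nat_lit 110, nat_lit 264, nat_lit 154, nat_lit 198, nat_lit 176]))) (.node (nat_lit 10) (.node (nat_lit 6) r120 r121) (.node (nat_lit 14) r122 r130))))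
noncomputable def r131 : WT := (.leaf (nat_lit 40970) [nat_lit 286, nat_lit 110, nat_lit 242, nat_lit 198, nat_lit 198, nat_lit 264, nat_lit 308, nat_lit 286, nat_lit 220, nat_lit 220, nat_lit 242, nat_lit 264, nat_lit 308, nat_lit 286, nat_lit 132, nat_lit 264])
noncomputable def r132 : WT := (.leaf (nat_lit 40962) [nat_lit 286, nat_lit 132, nat_lit 264, nat_lit 308, nat_lit 286, nat_lit 110, nat_lit 242, nat_lit 198, nat_lit 198, nat_lit 264, nat_lit 308, nat_lit 286, nat_lit 220, nat_lit 220, nat_lit 242, nat_lit 264])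
noncomputable def r133 : WT := (.leaf (nat_lit 40969) [nat_lit 286, nat_lit 220, nat_lit 220, nat_lit 242, nat_lit 132, nat_lit 264, nat_lit 308, nat_lit 286, nat_lit 110, nat_lit 264, nat_lit 308, nat_lit 286, nat_lit 242, nat_lit 198, nat_lit 198, nat_lit 264])
noncomputable def r134 : WT := (.leaf (nat_lit 40991) [nat_lit 286, nat_lit 242, nat_lit 198, nat_lit 198, nat_lit 264, nat_lit 308, nat_lit 286, nat_lit 220, nat_lit 220, nat_lit 242, nat_lit 132, nat_lit 264, nat_lit 308, nat_lit 286, nat_lit 110, nat_lit 264])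
noncomputable def r135 : WT := (.leaf (nat_lit 40983) [nat_lit 286, nat_lit 110, nat_lit 264, nat_lit 308, nat_lit 286, nat_lit 242, nat_lit 198, nat_lit 198, nat_lit 264, nat_lit 308, nat_lit 286, nat_lit 220, nat_lit 220, nat_lit 242, nat_lit 132, nat_lit 264])
noncomputable def r136 : WT := (.leaf (nat_lit 40984) [nat_lit 286, nat_lit 220, nat_lit 220, nat_lit 242, nat_lit 264, nat_lit 308, nat_lit 286, nat_lit 132, nat_lit 264, nat_lit 308, nat_lit 286, nat_lit 110, nat_lit 242, nat_lit 198, nat_lit 198, nat_lit 264])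
noncomputable def r137 : WT := (.node (nat_lit 14) r134 (.node (nat_lit 15) r135 r136))
noncomputable def r138 : WT := (.node (nat_lit 9) (.leaf (nat_lit 38914) [nat_lit 242, nat_lit 308, nat_lit 242]) (.node (nat_lit 10) (.leaf (nat_lit 39938) [nat_lit 264, nat_lit 308, nat_lit 264, nat_lit 308, nat_lit 264]) (.node (nat_lit 12) (.node (nat_lit 11) r131 r132) (.node (nat_lit 13) r133 r137))))
noncomputable def w12 : WT := (.node (nat_lit 1) (.leaf (nat_lit 7168) [nat_lit 308]) (.node (nat_lit 5) (.node (nat_lit 3) (.node (nat_lit 2) (.leaf (nat_lit 36866) [nat_lit 176, nat_lit 308, nat_lit 154]) (.leaf (nat_lit 37894) [nat_lit 198, nat_lit 308, nat_lit 220])) (.node (nat_lit 4) (.leaf (nat_lit 37890) [nat_lit 220, nat_lit 308, nat_lit 198]) (.leaf (nat_lit 35842) [nat_lit 132, nat_lit 308, nat_lit 110]))) (.node (nat_lit 7) (.node (nat_lit 6) (.leaf (nat_lit 35846) [nat_lit 110, nat_lit 308, nat_lit 132]) (.leaf (nat_lit 39937) [nat_lit 286, nat_lit 308, nat_lit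 286, nat_lit 308, nat_lit 286])) (.node (nat_lit 8) (.leaf (nat_lit 36870) [nat_lit 154, nat_lit 308, nat_lit 176]) r138))))
noncomputable def r139 : WT := (.node (nat_lit 5) (.leaf (nat_lit 10241) [nat_lit 176, nat_lit 110, nat_lit 154, nat_lit 132, nat_lit 242, nat_lit 154, nat_lit 66]) (.leaf (nat_lit 10253) [nat_lit 66, nat_lit 176, nat_lit 110, nat_lit 154, nat_lit 132, nat_lit 242, nat_lit 154]))
noncomputable def r140 : WT := (.node (nat_lit 8) (.leaf (nat_lit 17425) [nat_lit 264, nat_lit 176, nat_lit 132, nat_lit 242, nat_lit 110, nat_lit 154, nat_lit 286, nat_lit 242, nat_lit 176, nat_lit 242, nat_lit 154]) (.node (nat_lit 9) (.leaf (nat_lit 10242) [nat_lit 176, nat_lit 242, nat_lit 110, nat_lit 176, nat_lit 132, nat_lit 154, nat_lit 88]) (.leaf (nat_lit 20485) [nat_lit 132, nat_lit 220, nat_lit 176, nat_lit 220, nat_lit 220, nat_lit 154, nat_lit 198, nat_lit 132, nat_lit 132, nat_lit 198, nat_lit 198])))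
noncomputable def r141 : WT := (.node (nat_lit 12) (.node (nat_lit 11) (.leaf (nat_lit 30737) [nat_lit 110, nat_lit 220, nat_lit 132, nat_lit 176, nat_lit 242, nat_lit 220, nat_lit 242, nat_lit 154, nat_lit 242, nat_lit 198, nat_lit 198]) (.leaf (nat_lit 18437) [nat_lit 132, nat_lit 242, nat_lit 220, nat_lit 132, nat_lit 220, nat_lit 242, nat_lit 132, nat_lit 220, nat_lit 132, nat_lit 220, nat_lit 242])) (.node (nat_lit 13) (.leaf (nat_lit 24577) [nat_lit 264, nat_lit 220, nat_lit 154, nat_lit 220, nat_lit 154, nat_lit 286, nat_lit 220, nat_lit 154, nat_lit 220, nat_lit 176, nat_lit 176]) (.node (nat_lit 14) (.leaf (nat_lit 25618) [nat_lit 110, nat_lit 176, nat_lit 110, nat_lit 110, nat_lit 220, nat_lit 132, nat_lit 220, nat_lit 220, nat_lit 176, nat_lit 220, nat_lit 176]) (.leaf (nat_lit 31751) [nat_lit 176, nat_lit 110, nat_lit 264, nat_lit 154, nat_lit 220, nat_lit 176, nat_lit 286, nat_lit 132, nat_lit 154, nat_lit 242, nat_lit 264]))))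
noncomputable def r142 : WT := (.node (nat_lit 19) (.node (nat_lit 17) (.node (nat_lit 16) (.leaf (nat_lit 31744) [nat_lit 110, nat_lit 264, nat_lit 154, nat_lit 198, nat_lit 176, nat_lit 286, nat_lit 132, nat_lit 154, nat_lit 286, nat_lit 242, nat_lit 176]) (.leaf (nat_lit 31754) [nat_lit 286, nat_lit 132, nat_lit 154, nat_lit 286, nat_lit 242, nat_lit 176, nat_lit 110, nat_lit 264, nat_lit 154, nat_lit 198, nat_lit 176])) (.node (nat_lit 18) (.leaf (nat_lit 31760) [nat_lit 286, nat_lit 242, nat_lit 176, nat_lit 110, nat_lit 264, nat_lit 154, nat_lit 198, nat_lit 176, nat_lit 286, nat_lit 132, nat_lit 154]) (.leaf (nat_lit 30738) [nat_lit 242, nat_lit 154, nat_lit 110, nat_lit 198, nat_lit 132, nat_lit 220, nat_lit 220, nat_lit 242, nat_lit 176, nat_lit 242, nat_lit 198]))) (.node (nat_lit 21) (.node (nat_lit 20) (.leaf (nat_lit 30741) [nat_lit 132, nat_lit 176, nat_lit 242, nat_lit 220, nat_lit 242, nat_lit 154, nat_lit 242, nat_lit 198, nat_lit 198, nat_lit 110,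 nat_lit 220]) (.leaf (nat_lit 27650) [nat_lit 176, nat_lit 264, nat_lit 132, nat_lit 220, nat_lit 264, nat_lit 132, nat_lit 220, nat_lit 264, nat_lit 176, nat_lit 198, nat_lit 110])) (.node (nat_lit 22) (.leaf (nat_lit 30730) [nat_lit 242, nat_lit 176, nat_lit 242, nat_lit 198, nat_lit 242, nat_lit 154, nat_lit 110, nat_lit 198, nat_lit 132, nat_lit 220, nat_lit 220]) (.leaf (nat_lit 29711) [nat_lit 198, nat_lit 176, nat_lit 132, nat_lit 132, nat_lit 220, nat_lit 176, nat_lit 220, nat_lit 176, nat_lit 198, nat_lit 132, nat_lit 154]))))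
noncomputable def r143 : WT := (.node (nat_lit 27) (.node (nat_lit 25) (.node (nat_lit 24) (.leaf (nat_lit 29696) [nat_lit 110, nat_lit 110, nat_lit 154, nat_lit 220, nat_lit 176, nat_lit 110, nat_lit 220, nat_lit 154, nat_lit 198, nat_lit 154, nat_lit 198]) (.leaf (nat_lit 27661) [nat_lit 198, nat_lit 110, nat_lit 286, nat_lit 154, nat_lit 132, nat_lit 220, nat_lit 154, nat_lit 286, nat_lit 198, nat_lit 110, nat_lit 286])) (.node (nat_lit 26) (.leaf (nat_lit 27664) [nat_lit 264, nat_lit 176, nat_lit 198, nat_lit 110, nat_lit 176, nat_lit 264, nat_lit 132, nat_lit 220, nat_lit 264, nat_lit 132, nat_lit 220]) (.leaf (nat_lit 24593) [nat_lit 220, nat_lit 176, nat_lit 176, nat_lit 264, nat_lit 220, nat_lit 154, nat_lit 220, nat_lit 154, nat_lit 286, nat_lit 220, nat_lit 154]))) (.node (nat_lit 29) (.node (nat_lit 28) (.leaf (nat_lit 31762) [nat_lit 242, nat_lit 176, nat_lit 110, nat_lit 264, nat_lit 154, nat_lit 198, nat_lit 176, nat_lit 286, nat_lit 132, nat_lit 154,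 nat_lit 286]) (.leaf (nat_lit 31749) [nat_lit 264, nat_lit 176, nat_lit 110, nat_lit 264, nat_lit 154, nat_lit 220, nat_lit 176, nat_lit 286, nat_lit 132, nat_lit 154, nat_lit 242])) (.node (nat_lit 30) (.leaf (nat_lit 31757) [nat_lit 154, nat_lit 220, nat_lit 176, nat_lit 286, nat_lit 132, nat_lit 154, nat_lit 242, nat_lit 264, nat_lit 176, nat_lit 110, nat_lit 264]) (.leaf (nat_lit 31763) [nat_lit 286, nat_lit 132, nat_lit 154, nat_lit 242, nat_lit 264, nat_lit 176, nat_lit 110, nat_lit 264, nat_lit 154, nat_lit 220, nat_lit 176]))))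
noncomputable def r144 : WT := (.leaf (nat_lit 40963) [nat_lit 198, nat_lit 198, nat_lit 264, nat_lit 308, nat_lit 286, nat_lit 220, nat_lit 220, nat_lit 242, nat_lit 132, nat_lit 264, nat_lit 308, nat_lit 286, nat_lit 110, nat_lit 264, nat_lit 308, nat_lit 286, nat_lit 242])
noncomputable def r145 : WT := (.node (nat_lit 35) (.node (nat_lit 33) (.node (nat_lit 32) (.leaf (nat_lit 31765) [nat_lit 132, nat_lit 154, nat_lit 242, nat_lit 264, nat_lit 176, nat_lit 110, nat_lit 264, nat_lit 154, nat_lit 220, nat_lit 176, nat_lit 286]) (.leaf (nat_lit 32774) [nat_lit 154, nat_lit 220, nat_lit 154, nat_lit 132, nat_lit 154, nat_lit 220, nat_lit 154, nat_lit 198, nat_lit 110, nat_lit 176, nat_lit 198])) (.node (nat_lit 34) (.leaf (nat_lit 32784) [nat_lit 220, nat_lit 154, nat_lit 198, nat_lit 110, nat_lit 176, nat_lit 198, nat_lit 154, nat_lit 220, nat_lit 154, nat_lit 132, nat_lit 154]) (.leaf (nat_lit 32777) [nat_lit 110, nat_lit 176, nat_lit 198, nat_lit 176, nat_lit 220,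 nat_lit 154, nat_lit 132, nat_lit 220, nat_lit 176, nat_lit 198, nat_lit 176]))) (.node (nat_lit 37) (.node (nat_lit 36) (.leaf (nat_lit 32785) [nat_lit 220, nat_lit 154, nat_lit 132, nat_lit 220, nat_lit 176, nat_lit 198, nat_lit 176, nat_lit 110, nat_lit 176, nat_lit 198, nat_lit 176]) (.leaf (nat_lit 33798) [nat_lit 154, nat_lit 198, nat_lit 154, nat_lit 132, nat_lit 220, nat_lit 132, nat_lit 154, nat_lit 220, nat_lit 110, nat_lit 154, nat_lit 220])) (.node (nat_lit 38) (.leaf (nat_lit 34817) [nat_lit 154, nat_lit 198, nat_lit 176, nat_lit 176, nat_lit 198, nat_lit 132, nat_lit 220, nat_lit 132, nat_lit 220, nat_lit 154, nat_lit 132]) (.node (nat_lit 39) (.leaf (nat_lit 9238) [nat_lit 132, nat_lit 44, nat_lit 110, nat_lit 286, nat_lit 154, nat_lit 242, nat_lit 110, nat_lit 198, nat_lit 132, nat_lit 176, nat_lit 198, nat_lit 264]) r144))))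
noncomputable def r146 : WT := (.leaf (nat_lit 40967) [nat_lit 264, nat_lit 308, nat_lit 286, nat_lit 220, nat_lit 220, nat_lit 242, nat_lit 132, nat_lit 264, nat_lit 308, nat_lit 286, nat_lit 110, nat_lit 264, nat_lit 308, nat_lit 286, nat_lit 242, nat_lit 198, nat_lit 198])
noncomputable def r147 : WT := (.leaf (nat_lit 40989) [nat_lit 264, nat_lit 308, nat_lit 286, nat_lit 242, nat_lit 198, nat_lit 198, nat_lit 264, nat_lit 308, nat_lit 286, nat_lit 220, nat_lit 220, nat_lit 242, nat_lit 132, nat_lit 264, nat_lit 308, nat_lit 286, nat_lit 110])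
noncomputable def r148 : WT := (.node (nat_lit 44) (.node (nat_lit 42) (.node (nat_lit 41) r146 r147) (.node (nat_lit 43) (.leaf (nat_lit 17420) [nat_lit 242, nat_lit 264, nat_lit 176, nat_lit 132, nat_lit 242, nat_lit 110, nat_lit 154, nat_lit 286, nat_lit 176, nat_lit 242, nat_lit 154]) (.leaf (nat_lit 11265) [nat_lit 132, nat_lit 132, nat_lit 132]))) (.node (nat_lit 46) (.node (nat_lit 45) (.leaf (nat_lit 12289) [nat_lit 176, nat_lit 176, nat_lit 176]) (.leaf (nat_lit 35844) [nat_lit 132, nat_lit 308, nat_lit 110, nat_lit 308])) (.node (nat_lit 47) (.leaf (nat_lit 35846) [nat_lit 308, nat_lit 110, nat_lit 308, nat_lit 132]) (.leaf (nat_lit 36866) [nat_lit 308, nat_lit 176, nat_lit 308, nat_lit 154]))))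
noncomputable def r149 : WT := (.node (nat_lit 52) (.node (nat_lit 50) (.node (nat_lit 49) (.leaf (nat_lit 37888) [nat_lit 198, nat_lit 308, nat_lit 220, nat_lit 308]) (.leaf (nat_lit 38912) [nat_lit 242, nat_lit 308, nat_lit 242, nat_lit 308])) (.node (nat_lit 51) (.leaf (nat_lit 38914) [nat_lit 308, nat_lit 242, nat_lit 308, nat_lit 242]) (.leaf (nat_lit 15362) [nat_lit 154, nat_lit 198, nat_lit 110, nat_lit 154, nat_lit 198, nat_lit 110]))) (.node (nat_lit 54) (.node (nat_lit 53) (.leaf (nat_lit 15361) [nat_lit 220, nat_lit 176, nat_lit 132, nat_lit 220, nat_lit 176, nat_lit 132]) (.leaf (nat_lit 15365) [nat_lit 132, nat_lit 220, nat_lit 176, nat_lit 132, nat_lit 220, nat_lit 176])) (.node (nat_lit 55) (.leaf (nat_lit 39938) [nat_lit 308, nat_lit 264, nat_lit 308, nat_lit 264, nat_lit 308, nat_lit 264]) (.node (nat_lit 56) (.leaf (nat_lit 39937) [nat_lit 308, nat_lit 286, nat_lit 308, nat_lit 286, nat_lit 308, nat_lit 286]) (.leaf (nat_lit 39939) [nat_lit 286,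 nat_lit 308, nat_lit 286, nat_lit 308, nat_lit 286, nat_lit 308])))))
noncomputable def r150 : WT := (.node (nat_lit 61) (.node (nat_lit 59) (.node (nat_lit 58) (.leaf (nat_lit 17414) [nat_lit 176, nat_lit 242, nat_lit 154, nat_lit 242, nat_lit 264, nat_lit 176, nat_lit 132, nat_lit 242, nat_lit 110, nat_lit 154, nat_lit 286]) (.leaf (nat_lit 26637) [nat_lit 110, nat_lit 220, nat_lit 220, nat_lit 132, nat_lit 132, nat_lit 198, nat_lit 198, nat_lit 132, nat_lit 154, nat_lit 110, nat_lit 176])) (.node (nat_lit 60) (.leaf (nat_lit 18453) [nat_lit 132, nat_lit 220, nat_lit 242, nat_lit 132, nat_lit 242, nat_lit 220, nat_lit 132, nat_lit 220, nat_lit 242, nat_lit 132, nat_lit 220]) (.leaf (nat_lit 19461) [nat_lit 242, nat_lit 198, nat_lit 242, nat_lit 220, nat_lit 242, nat_lit 264, nat_lit 132, nat_lit 220, nat_lit 132, nat_lit 220, nat_lit 286]))) (.node (nat_lit 63) (.node (nat_lit 62) (.leaf (nat_lit 19469) [nat_lit 242, nat_lit 264, nat_lit 132, nat_lit 220, nat_lit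 132, nat_lit 220, nat_lit 286, nat_lit 242, nat_lit 198, nat_lit 242, nat_lit 220]) (.leaf (nat_lit 21514) [nat_lit 132, nat_lit 198, nat_lit 110, nat_lit 176, nat_lit 198, nat_lit 198, nat_lit 110, nat_lit 154, nat_lit 132, nat_lit 198, nat_lit 176])) (.node (nat_lit 64) (.leaf (nat_lit 21507) [nat_lit 220, nat_lit 154, nat_lit 132, nat_lit 220, nat_lit 110, nat_lit 154, nat_lit 220, nat_lit 110, nat_lit 176, nat_lit 132, nat_lit 220]) (.leaf (nat_lit 22532) [nat_lit 242, nat_lit 110, nat_lit 286, nat_lit 132, nat_lit 220, nat_lit 132, nat_lit 242, nat_lit 220, nat_lit 264, nat_lit 110, nat_lit 110]))))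
noncomputable def r151 : WT := (.node (nat_lit 69) (.node (nat_lit 67) (.node (nat_lit 66) (.leaf (nat_lit 22548) [nat_lit 264, nat_lit 110, nat_lit 110, nat_lit 242, nat_lit 110, nat_lit 286, nat_lit 132, nat_lit 220, nat_lit 132, nat_lit 242, nat_lit 220]) (.leaf (nat_lit 22543) [nat_lit 132, nat_lit 242, nat_lit 132, nat_lit 132, nat_lit 286, nat_lit 198, nat_lit 242, nat_lit 110, nat_lit 198, nat_lit 110, nat_lit 264])) (.node (nat_lit 68) (.leaf (nat_lit 23554) [nat_lit 176, nat_lit 110, nat_lit 176, nat_lit 220, nat_lit 176, nat_lit 220, nat_lit 176, nat_lit 198, nat_lit 154, nat_lit 220, nat_lit 110]) (.leaf (nat_lit 23556) [nat_lit 110, nat_lit 176, nat_lit 220, nat_lit 176, nat_lit 220, nat_lit 176, nat_lit 198, nat_lit 154, nat_lit 220, nat_lit 110, nat_lit 176]))) (.node (nat_lit 71) (.node (nat_lit 70) (.leaf (nat_lit 23569) [nat_lit 132, nat_lit 154, nat_lit 132, nat_lit 198, nat_lit 176, nat_lit 220, nat_lit 154, nat_lit 198, nat_lit 154, nat_lit 198,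 nat_lit 154]) (.leaf (nat_lit 23573) [nat_lit 132, nat_lit 198, nat_lit 176, nat_lit 220, nat_lit 154, nat_lit 198, nat_lit 154, nat_lit 198, nat_lit 154, nat_lit 132, nat_lit 154])) (.node (nat_lit 72) (.leaf (nat_lit 11264) [nat_lit 110, nat_lit 110, nat_lit 110]) (.node (nat_lit 73) (.leaf (nat_lit 25603) [nat_lit 132, nat_lit 154, nat_lit 198, nat_lit 154, nat_lit 198, nat_lit 198, nat_lit 110, nat_lit 198, nat_lit 132, nat_lit 132, nat_lit 154]) (.leaf (nat_lit 25613) [nat_lit 198, nat_lit 110, nat_lit 198, nat_lit 132, nat_lit 132, nat_lit 154, nat_lit 132, nat_lit 154, nat_lit 198, nat_lit 154, nat_lit 198])))))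
noncomputable def wP : WT := (.node (nat_lit 10) (.node (nat_lit 3) (.node (nat_lit 1) (.leaf (nat_lit 9216) [nat_lit 44, nat_lit 110, nat_lit 286, nat_lit 154, nat_lit 242, nat_lit 110, nat_lit 198, nat_lit 132, nat_lit 176, nat_lit 198, nat_lit 264, nat_lit 132]) (.node (nat_lit 2) (.leaf (nat_lit 10240) [nat_lit 88, nat_lit 176, nat_lit 242, nat_lit 110, nat_lit 176, nat_lit 132, nat_lit 154]) (.leaf (nat_lit 9239) [nat_lit 44, nat_lit 110, nat_lit 286, nat_lit 220, nat_lit 154, nat_lit 110, nat_lit 220, nat_lit 132, nat_lit 242, nat_lit 176, nat_lit 264, nat_lit 132]))) (.node (nat_lit 6) (.node (nat_lit 4) (.leaf (nat_lit 9218) [nat_lit 110, nat_lit 286, nat_lit 154, nat_lit 242, nat_lit 110, nat_lit 198, nat_lit 132, nat_lit 176, nat_lit 198, nat_lit 264, nat_lit 132, nat_lit 44]) r139) (.node (nat_lit 7) (.leaf (nat_lit 9217) [nat_lit 110, nat_lit 286, nat_lit 220, nat_lit 154, nat_lit 110, nat_lit 220, nat_lit 132, nat_lit 242, nat_lit 176, nat_lit 264, nat_lit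 132, nat_lit 44]) r140))) (.node (nat_lit 40) (.node (nat_lit 23) (.node (nat_lit 15) r141 r142) (.node (nat_lit 31) r143 r145)) (.node (nat_lit 57) (.node (nat_lit 48) r148 r149) (.node (nat_lit 65) r150 r151))))
noncomputable def P : Par := ⟨tb, nat_lit 330, nat_lit 0x3ffffffffffffffffffffffffffffffffffffffffffffffffffffffffffffffffffffffffffffffffff, nat_lit 2448, nat_lit 4194303, nat_lit 4095, nat_lit 22, nat_lit 12, nat_lit 2048,
  [nat_lit 44, nat_lit 66, nat_lit 88, nat_lit 110, nat_lit 132, nat_lit 154, nat_lit 176, nat_lit 198, nat_lit 220, nat_lit 242, nat_lit 264, nat_lit 286, nat_lit 308], [nat_lit 44, nat_lit 66, nat_lit 110, nat_lit 154, nat_lit 198, nat_lit 242, nat_lit 264], wP,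
  (.cons (nat_lit 44) w0 (.cons (nat_lit 66) w1 (.cons (nat_lit 88) w2 (.cons (nat_lit 110) w3 (.cons (nat_lit 132) w4 (.cons (nat_lit 154) w5 (.cons (nat_lit 176) w6 (.cons (nat_lit 198) w7 (.cons (nat_lit 220) w8 (.cons (nat_lit 242) w9 (.cons (nat_lit 264) w10 (.cons (nat_lit 286) w11 (.cons (nat_lit 308) w12 .nil))))))))))))),
  .nil⟩

end Cfsg.Agent.Lib.TCJ48
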