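import Cfsg.Agent.Lib.TCJ4aD0

set_option autoImplicit false
set_option maxRecDepth 100000

namespace Cfsg.Agent.Lib.TCJ4a
open Cfsg.Agent.Lib.TCCore

noncomputable def n0 : T := (.node (nat_lit 500) (.node (nat_lit 250) (.node (nat_lit 100) (.node (nat_lit 50) l0 l1) (.node (nat_lit 150) l2 (.node (nat_lit 200) l3 l4))) (.node (nat_lit 350) (.node (nat_lit 300) l5 l6) (.node (nat_lit 400) l7 (.node (nat_lit 450) l8 l9)))) (.node (nat_lit 750) (.node (nat_lit 600) (.node (nat_lit 550) l10 l11) (.node (nat_lit 650) l12 (.node (nat_lit 700) l13 l14))) (.node (nat_lit 850) (.node (nat_lit 800) l15 l16) (.node (nat_lit 900) l17 (.node (nat_lit 950) l18 l19)))))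
noncomputable def n1 : T := (.node (nat_lit 1500) (.node (nat_lit 1250) (.node (nat_lit 1100) (.node (nat_lit 1050) l20 l21) (.node (nat_lit 1150) l22 (.node (nat_lit 1200) l23 l24))) (.node (nat_lit 1350) (.node (nat_lit 1300) l25 l26) (.node (nat_lit 1400) l27 (.node (nat_lit 1450) l28 l29)))) (.node (nat_lit 1750) (.node (nat_lit 1600) (.node (nat_lit 1550) l30 l31) (.node (nat_lit 1650) l32 (.node (nat_lit 1700) l33 l34))) (.node (nat_lit 1900) (.node (nat_lit 1800) l35 (.node (nat_lit 1850) l36 l37)) (.node (nat_lit 1950) l38 (.node (nat_lit 2000) l39 l40)))))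
noncomputable def n2 : T := (.node (nat_lit 2550) (.node (nat_lit 2300) (.node (nat_lit 2150) (.node (nat_lit 2100) l41 l42) (.node (nat_lit 2200) l43 (.node (nat_lit 2250) l44 l45))) (.node (nat_lit 2400) (.node (nat_lit 2350) l46 l47) (.node (nat_lit 2450) l48 (.node (nat_lit 2500) l49 l50)))) (.node (nat_lit 2800) (.node (nat_lit 2650) (.node (nat_lit 2600) l51 l52) (.node (nat_lit 2700) l53 (.node (nat_lit 2750) l54 l55))) (.node (nat_lit 2950) (.node (nat_lit 2850) l56 (.node (nat_lit 2900) l57 l58)) (.node (nat_lit 3000) l59 (.node (nat_lit 3050) l60 l61)))))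
noncomputable def n3 : T := (.node (nat_lit 3600) (.node (nat_lit 3350) (.node (nat_lit 3200) (.node (nat_lit 3150) l62 l63) (.node (nat_lit 3250) l64 (.node (nat_lit 3300) l65 l66))) (.node (nat_lit 3450) (.node (nat_lit 3400) l67 l68) (.node (nat_lit 3500) l69 (.node (nat_lit 3550) l70 l71)))) (.node (nat_lit 3850) (.node (nat_lit 3700) (.node (nat_lit 3650) l72 l73) (.node (nat_lit 3750) l74 (.node (nat_lit 3800) l75 l76))) (.node (nat_lit 4000) (.node (nat_lit 3900) l77 (.node (nat_lit 3950) l78 l79)) (.node (nat_lit 4050) l80 (.node (nat_lit 4100) l81 l82)))))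
noncomputable def n4 : T := (.node (nat_lit 4650) (.node (nat_lit 4400) (.node (nat_lit 4250) (.node (nat_lit 4200) l83 l84) (.node (nat_lit 4300) l85 (.node (nat_lit 4350) l86 l87))) (.node (nat_lit 4500) (.node (nat_lit 4450) l88 l89) (.node (nat_lit 4550) l90 (.node (nat_lit 4600) l91 l92)))) (.node (nat_lit 4900) (.node (nat_lit 4750) (.node (nat_lit 4700) l93 l94) (.node (nat_lit 4800) l95 (.node (nat_lit 4850) l96 l97))) (.node (nat_lit 5000) (.node (nat_lit 4950) l98 l99) (.node (nat_lit 5050) l100 (.node (nat_lit 5100) l101 l102)))))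
noncomputable def n5 : T := (.node (nat_lit 5650) (.node (nat_lit 5400) (.node (nat_lit 5250) (.node (nat_lit 5200) l103 l104) (.node (nat_lit 5300) l105 (.node (nat_lit 5350) l106 l107))) (.node (nat_lit 5500) (.node (nat_lit 5450) l108 l109) (.node (nat_lit 5550) l110 (.node (nat_lit 5600) l111 l112)))) (.node (nat_lit 5900) (.node (nat_lit 5750) (.node (nat_lit 5700) l113 l114) (.node (nat_lit 5800) l115 (.node (nat_lit 5850) l116 l117))) (.node (nat_lit 6050) (.node (nat_lit 5950) l118 (.node (nat_lit 6000) l119 l120)) (.node (nat_lit 6100) l121 (.node (nat_lit 6150) l122 l123)))))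
noncomputable def n6 : T := (.node (nat_lit 6700) (.node (nat_lit 6450) (.node (nat_lit 6300) (.node (nat_lit 6250) l124 l125) (.node (nat_lit 6350) l126 (.node (nat_lit 6400) l127 l128))) (.node (nat_lit 6550) (.node (nat_lit 6500) l129 l130) (.node (nat_lit 6600) l131 (.node (nat_lit 6650) l132 l133)))) (.node (nat_lit 6950) (.node (nat_lit 6800) (.node (nat_lit 6750) l134 l135) (.node (nat_lit 6850) l136 (.node (nat_lit 6900) l137 l138))) (.node (nat_lit 7100) (.node (nat_lit 7000) l139 (.node (nat_lit 7050) l140 l141)) (.node (nat_lit 7150) l142 (.node (nat_lit 7200) l143 l144)))))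
noncomputable def n7 : T := (.node (nat_lit 7750) (.node (nat_lit 7500) (.node (nat_lit 7350) (.node (nat_lit 7300) l145 l146) (.node (nat_lit 7400) l147 (.node (nat_lit 7450) l148 l149))) (.node (nat_lit 7600) (.node (nat_lit 7550) l150 l151) (.node (nat_lit 7650) l152 (.node (nat_lit 7700) l153 l154)))) (.node (nat_lit 8000) (.node (nat_lit 7850) (.node (nat_lit 7800) l155 l156) (.node (nat_lit 7900) l157 (.node (nat_lit 7950) l158 l159))) (.node (nat_lit 8150) (.node (nat_lit 8050) l160 (.node (nat_lit 8100) l161 l162)) (.node (nat_lit 8200) l163 (.node (nat_lit 8250) l164 l165)))))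
noncomputable def n8 : T := (.node (nat_lit 8800) (.node (nat_lit 8550) (.node (nat_lit 8400) (.node (nat_lit 8350) l166 l167) (.node (nat_lit 8450) l168 (.node (nat_lit 8500) l169 l170))) (.node (nat_lit 8650) (.node (nat_lit 8600) l171 l172) (.node (nat_lit 8700) l173 (.node (nat_lit 8750) l174 l175)))) (.node (nat_lit 9050) (.node (nat_lit 8900) (.node (nat_lit 8850) l176 l177) (.node (nat_lit 8950) l178 (.node (nat_lit 9000) l179 l180))) (.node (nat_lit 9150) (.node (nat_lit 9100) l181 l182) (.node (nat_lit 9200) l183 (.node (nat_lit 9250) l184 l185)))))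
noncomputable def n9 : T := (.node (nat_lit 9800) (.node (nat_lit 9550) (.node (nat_lit 9400) (.node (nat_lit 9350) l186 l187) (.node (nat_lit 9450) l188 (.node (nat_lit 9500) l189 l190))) (.node (nat_lit 9650) (.node (nat_lit 9600) l191 l192) (.node (nat_lit 9700) l193 (.node (nat_lit 9750) l194 l195)))) (.node (nat_lit 10050) (.node (nat_lit 9900) (.node (nat_lit 9850) l196 l197) (.node (nat_lit 9950) l198 (.node (nat_lit 10000) l199 l200))) (.node (nat_lit 10200) (.node (nat_lit 10100) l201 (.node (nat_lit 10150) l202 l203)) (.node (nat_lit 10250) l204 (.node (nat_lit 10300) l205 l206)))))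
noncomputable def n10 : T := (.node (nat_lit 10850) (.node (nat_lit 10600) (.node (nat_lit 10450) (.node (nat_lit 10400) l207 l208) (.node (nat_lit 10500) l209 (.node (nat_lit 10550) l210 l211))) (.node (nat_lit 10700) (.node (nat_lit 10650) l212 l213) (.node (nat_lit 10750) l214 (.node (nat_lit 10800) l215 l216)))) (.node (nat_lit 11100) (.node (nat_lit 10950) (.node (nat_lit 10900) l217 l218) (.node (nat_lit 11000) l219 (.node (nat_lit 11050) l220 l221))) (.node (nat_lit 11250) (.node (nat_lit 11150) l222 (.node (nat_lit 11200) l223 l224)) (.node (nat_lit 11300) l225 (.node (nat_lit 11350) l226 l227)))))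
noncomputable def n11 : T := (.node (nat_lit 11900) (.node (nat_lit 11650) (.node (nat_lit 11500) (.node (nat_lit 11450) l228 l229) (.node (nat_lit 11550) l230 (.node (nat_lit 11600) l231 l232))) (.node (nat_lit 11750) (.node (nat_lit 11700) l233 l234) (.node (nat_lit 11800) l235 (.node (nat_lit 11850) l236 l237)))) (.node (nat_lit 12150) (.node (nat_lit 12000) (.node (nat_lit 11950) l238 l239) (.node (nat_lit 12050) l240 (.node (nat_lit 12100) l241 l242))) (.node (nat_lit 12300) (.node (nat_lit 12200) l243 (.node (nat_lit 12250) l244 l245)) (.node (nat_lit 12350) l246 (.node (nat_lit 12400) l247 l248)))))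
noncomputable def n12 : T := (.node (nat_lit 12950) (.node (nat_lit 12700) (.node (nat_lit 12550) (.node (nat_lit 12500) l249 l250) (.node (nat_lit 12600) l251 (.node (nat_lit 12650) l252 l253))) (.node (nat_lit 12800) (.node (nat_lit 12750) l254 l255) (.node (nat_lit 12850) l256 (.node (nat_lit 12900) l257 l258)))) (.node (nat_lit 13200) (.node (nat_lit 13050) (.node (nat_lit 13000) l259 l260) (.node (nat_lit 13100) l261 (.node (nat_lit 13150) l262 l263))) (.node (nat_lit 13350) (.node (nat_lit 13250) l264 (.node (nat_lit 13300) l265 l266)) (.node (nat_lit 13400) l267 (.node (nat_lit 13450) l268 l269)))))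
noncomputable def n13 : T := (.node (nat_lit 14000) (.node (nat_lit 13750) (.node (nat_lit 13600) (.node (nat_lit 13550) l270 l271) (.node (nat_lit 13650) l272 (.node (nat_lit 13700) l273 l274))) (.node (nat_lit 13850) (.node (nat_lit 13800) l275 l276) (.node (nat_lit 13900) l277 (.node (nat_lit 13950) l278 l279)))) (.node (nat_lit 14250) (.node (nat_lit 14100) (.node (nat_lit 14050) l280 l281) (.node (nat_lit 14150) l282 (.node (nat_lit 14200) l283 l284))) (.node (nat_lit 14400) (.node (nat_lit 14300) l285 (.node (nat_lit 14350) l286 l287)) (.node (nat_lit 14450) l288 (.node (nat_lit 14500) l289 l290)))))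
noncomputable def n14 : T := (.node (nat_lit 15050) (.node (nat_lit 14800) (.node (nat_lit 14650) (.node (nat_lit 14600) l291 l292) (.node (nat_lit 14700) l293 (.node (nat_lit 14750) l294 l295))) (.node (nat_lit 14900) (.node (nat_lit 14850) l296 l297) (.node (nat_lit 14950) l298 (.node (nat_lit 15000) l299 l300)))) (.node (nat_lit 15300) (.node (nat_lit 15150) (.node (nat_lit 15100) l301 l302) (.node (nat_lit 15200) l303 (.node (nat_lit 15250) l304 l305))) (.node (nat_lit 15450) (.node (nat_lit 15350) l306 (.node (nat_lit 15400) l307 l308)) (.node (nat_lit 15500) l309 (.node (nat_lit 15550) l310 l311)))))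
noncomputable def n15 : T := (.node (nat_lit 16100) (.node (nat_lit 15850) (.node (nat_lit 15700) (.node (nat_lit 15650) l312 l313) (.node (nat_lit 15750) l314 (.node (nat_lit 15800) l315 l316))) (.node (nat_lit 15950) (.node (nat_lit 15900) l317 l318) (.node (nat_lit 16000) l319 (.node (nat_lit 16050) l320 l321)))) (.node (nat_lit 16350) (.node (nat_lit 16200) (.node (nat_lit 16150) l322 l323) (.node (nat_lit 16250) l324 (.node (nat_lit 16300) l325 l326))) (.node (nat_lit 16500) (.node (nat_lit 16400) l327 (.node (nat_lit 16450) l328 l329)) (.node (nat_lit 16550) l330 (.node (nat_lit 16600) l331 l332)))))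
noncomputable def n16 : T := (.node (nat_lit 17150) (.node (nat_lit 16900) (.node (nat_lit 16750) (.node (nat_lit 16700) l333 l334) (.node (nat_lit 16800) l335 (.node (nat_lit 16850) l336 l337))) (.node (nat_lit 17000) (.node (nat_lit 16950) l338 l339) (.node (nat_lit 17050) l340 (.node (nat_lit 17100) l341 l342)))) (.node (nat_lit 17400) (.node (nat_lit 17250) (.node (nat_lit 17200) l343 l344) (.node (nat_lit 17300) l345 (.node (nat_lit 17350) l346 l347))) (.node (nat_lit 17500) (.node (nat_lit 17450) l348 l349) (.node (nat_lit 17550) l350 (.node (nat_lit 17600) l351 l352)))))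
noncomputable def n17 : T := (.node (nat_lit 18150) (.node (nat_lit 17900) (.node (nat_lit 17750) (.node (nat_lit 17700) l353 l354) (.node (nat_lit 17800) l355 (.node (nat_lit 17850) l356 l357))) (.node (nat_lit 18000) (.node (nat_lit 17950) l358 l359) (.node (nat_lit 18050) l360 (.node (nat_lit 18100) l361 l362)))) (.node (nat_lit 18400) (.node (nat_lit 18250) (.node (nat_lit 18200) l363 l364) (.node (nat_lit 18300) l365 (.node (nat_lit 18350) l366 l367))) (.node (nat_lit 18550) (.node (nat_lit 18450) l368 (.node (nat_lit 18500) l369 l370)) (.node (nat_lit 18600) l371 (.node (nat_lit 18650) l372 l373)))))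
noncomputable def n18 : T := (.node (nat_lit 19200) (.node (nat_lit 18950) (.node (nat_lit 18800) (.node (nat_lit 18750) l374 l375) (.node (nat_lit 18850) l376 (.node (nat_lit 18900) l377 l378))) (.node (nat_lit 19050) (.node (nat_lit 19000) l379 l380) (.node (nat_lit 19100) l381 (.node (nat_lit 19150) l382 l383)))) (.node (nat_lit 19450) (.node (nat_lit 19300) (.node (nat_lit 19250) l384 l385) (.node (nat_lit 19350) l386 (.node (nat_lit 19400) l387 l388))) (.node (nat_lit 19600) (.node (nat_lit 19500) l389 (.node (nat_lit 19550) l390 l391)) (.node (nat_lit 19650) l392 (.node (nat_lit 19700) l393 l394)))))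
noncomputable def n19 : T := (.node (nat_lit 20250) (.node (nat_lit 20000) (.node (nat_lit 19850) (.node (nat_lit 19800) l395 l396) (.node (nat_lit 19900) l397 (.node (nat_lit 19950) l398 l399))) (.node (nat_lit 20100) (.node (nat_lit 20050) l400 l401) (.node (nat_lit 20150) l402 (.node (nat_lit 20200) l403 l404)))) (.node (nat_lit 20500) (.node (nat_lit 20350) (.node (nat_lit 20300) l405 l406) (.node (nat_lit 20400) l407 (.node (nat_lit 20450) l408 l409))) (.node (nat_lit 20650) (.node (nat_lit 20550) l410 (.node (nat_lit 20600) l411 l412)) (.node (nat_lit 20700) l413 (.node (nat_lit 20750) l414 l415)))))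
noncomputable def n20 : T := (.node (nat_lit 21300) (.node (nat_lit 21050) (.node (nat_lit 20900) (.node (nat_lit 20850) l416 l417) (.node (nat_lit 20950) l418 (.node (nat_lit 21000) l419 l420))) (.node (nat_lit 21150) (.node (nat_lit 21100) l421 l422) (.node (nat_lit 21200) l423 (.node (nat_lit 21250) l424 l425)))) (.node (nat_lit 21550) (.node (nat_lit 21400) (.node (nat_lit 21350) l426 l427) (.node (nat_lit 21450) l428 (.node (nat_lit 21500) l429 l430))) (.node (nat_lit 21650) (.node (nat_lit 21600) l431 l432) (.node (nat_lit 21700) l433 (.node (nat_lit 21750) l434 l435)))))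
noncomputable def n21 : T := (.node (nat_lit 22300) (.node (nat_lit 22050) (.node (nat_lit 21900) (.node (nat_lit 21850) l436 l437) (.node (nat_lit 21950) l438 (.node (nat_lit 22000) l439 l440))) (.node (nat_lit 22150) (.node (nat_lit 22100) l441 l442) (.node (nat_lit 22200) l443 (.node (nat_lit 22250) l444 l445)))) (.node (nat_lit 22550) (.node (nat_lit 22400) (.node (nat_lit 22350) l446 l447) (.node (nat_lit 22450) l448 (.node (nat_lit 22500) l449 l450))) (.node (nat_lit 22700) (.node (nat_lit 22600) l451 (.node (nat_lit 22650) l452 l453)) (.node (nat_lit 22750) l454 (.node (nat_lit 22800) l455 l456)))))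
noncomputable def n22 : T := (.node (nat_lit 23350) (.node (nat_lit 23100) (.node (nat_lit 22950) (.node (nat_lit 22900) l457 l458) (.node (nat_lit 23000) l459 (.node (nat_lit 23050) l460 l461))) (.node (nat_lit 23200) (.node (nat_lit 23150) l462 l463) (.node (nat_lit 23250) l464 (.node (nat_lit 23300) l465 l466)))) (.node (nat_lit 23600) (.node (nat_lit 23450) (.node (nat_lit 23400) l467 l468) (.node (nat_lit 23500) l469 (.node (nat_lit 23550) l470 l471))) (.node (nat_lit 23750) (.node (nat_lit 23650) l472 (.node (nat_lit 23700) l473 l474)) (.node (nat_lit 23800) l475 (.node (nat_lit 23850) l476 l477)))))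
noncomputable def n23 : T := (.node (nat_lit 24400) (.node (nat_lit 24150) (.node (nat_lit 24000) (.node (nat_lit 23950) l478 l479) (.node (nat_lit 24050) l480 (.node (nat_lit 24100) l481 l482))) (.node (nat_lit 24250) (.node (nat_lit 24200) l483 l484) (.node (nat_lit 24300) l485 (.node (nat_lit 24350) l486 l487)))) (.node (nat_lit 24650) (.node (nat_lit 24500) (.node (nat_lit 24450) l488 l489) (.node (nat_lit 24550) l490 (.node (nat_lit 24600) l491 l492))) (.node (nat_lit 24800) (.node (nat_lit 24700) l493 (.node (nat_lit 24750) l494 l495)) (.node (nat_lit 24850) l496 (.node (nat_lit 24900) l497 l498)))))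
noncomputable def n24 : T := (.node (nat_lit 25450) (.node (nat_lit 25200) (.node (nat_lit 25050) (.node (nat_lit 25000) l499 l500) (.node (nat_lit 25100) l501 (.node (nat_lit 25150) l502 l503))) (.node (nat_lit 25300) (.node (nat_lit 25250) l504 l505) (.node (nat_lit 25350) l506 (.node (nat_lit 25400) l507 l508)))) (.node (nat_lit 25700) (.node (nat_lit 25550) (.node (nat_lit 25500) l509 l510) (.node (nat_lit 25600) l511 (.node (nat_lit 25650) l512 l513))) (.node (nat_lit 25800) (.node (nat_lit 25750) l514 l515) (.node (nat_lit 25850) l516 (.node (nat_lit 25900) l517 l518)))))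
noncomputable def n25 : T := (.node (nat_lit 26450) (.node (nat_lit 26200) (.node (nat_lit 26050) (.node (nat_lit 26000) l519 l520) (.node (nat_lit 26100) l521 (.node (nat_lit 26150) l522 l523))) (.node (nat_lit 26300) (.node (nat_lit 26250) l524 l525) (.node (nat_lit 26350) l526 (.node (nat_lit 26400) l527 l528)))) (.node (nat_lit 26700) (.node (nat_lit 26550) (.node (nat_lit 26500) l529 l530) (.node (nat_lit 26600) l531 (.node (nat_lit 26650) l532 l533))) (.node (nat_lit 26850) (.node (nat_lit 26750) l534 (.node (nat_lit 26800) l535 l536)) (.node (nat_lit 26900) l537 (.node (nat_lit 26950) l538 l539)))))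
noncomputable def n26 : T := (.node (nat_lit 27500) (.node (nat_lit 27250) (.node (nat_lit 27100) (.node (nat_lit 27050) l540 l541) (.node (nat_lit 27150) l542 (.node (nat_lit 27200) l543 l544))) (.node (nat_lit 27350) (.node (nat_lit 27300) l545 l546) (.node (nat_lit 27400) l547 (.node (nat_lit 27450) l548 l549)))) (.node (nat_lit 27750) (.node (nat_lit 27600) (.node (nat_lit 27550) l550 l551) (.node (nat_lit 27650) l552 (.node (nat_lit 27700) l553 l554))) (.node (nat_lit 27900) (.node (nat_lit 27800) l555 (.node (nat_lit 27850) l556 l557)) (.node (nat_lit 27950) l558 (.node (nat_lit 28000) l559 l560)))))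
noncomputable def n27 : T := (.node (nat_lit 28550) (.node (nat_lit 28300) (.node (nat_lit 28150) (.node (nat_lit 28100) l561 l562) (.node (nat_lit 28200) l563 (.node (nat_lit 28250) l564 l565))) (.node (nat_lit 28400) (.node (nat_lit 28350) l566 l567) (.node (nat_lit 28450) l568 (.node (nat_lit 28500) l569 l570)))) (.node (nat_lit 28800) (.node (nat_lit 28650) (.node (nat_lit 28600) l571 l572) (.node (nat_lit 28700) l573 (.node (nat_lit 28750) l574 l575))) (.node (nat_lit 28950) (.node (nat_lit 28850) l576 (.node (nat_lit 28900) l577 l578)) (.node (nat_lit 29000) l579 (.node (nat_lit 29050) l580 l581)))))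
noncomputable def n28 : T := (.node (nat_lit 29600) (.node (nat_lit 29350) (.node (nat_lit 29200) (.node (nat_lit 29150) l582 l583) (.node (nat_lit 29250) l584 (.node (nat_lit 29300) l585 l586))) (.node (nat_lit 29450) (.node (nat_lit 29400) l587 l588) (.node (nat_lit 29500) l589 (.node (nat_lit 29550) l590 l591)))) (.node (nat_lit 29850) (.node (nat_lit 29700) (.node (nat_lit 29650) l592 l593) (.node (nat_lit 29750) l594 (.node (nat_lit 29800) l595 l596))) (.node (nat_lit 30000) (.node (nat_lit 29900) l597 (.node (nat_lit 29950) l598 l599)) (.node (nat_lit 30050) l600 (.node (nat_lit 30100) l601 l602)))))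
noncomputable def n29 : T := (.node (nat_lit 30650) (.node (nat_lit 30400) (.node (nat_lit 30250) (.node (nat_lit 30200) l603 l604) (.node (nat_lit 30300) l605 (.node (nat_lit 30350) l606 l607))) (.node (nat_lit 30500) (.node (nat_lit 30450) l608 l609) (.node (nat_lit 30550) l610 (.node (nat_lit 30600) l611 l612)))) (.node (nat_lit 30900) (.node (nat_lit 30750) (.node (nat_lit 30700) l613 l614) (.node (nat_lit 30800) l615 (.node (nat_lit 30850) l616 l617))) (.node (nat_lit 31050) (.node (nat_lit 30950) l618 (.node (nat_lit 31000) l619 l620)) (.node (nat_lit 31100) l621 (.node (nat_lit 31150) l622 l623)))))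
noncomputable def n30 : T := (.node (nat_lit 31700) (.node (nat_lit 31450) (.node (nat_lit 31300) (.node (nat_lit 31250) l624 l625) (.node (nat_lit 31350) l626 (.node (nat_lit 31400) l627 l628))) (.node (nat_lit 31550) (.node (nat_lit 31500) l629 l630) (.node (nat_lit 31600) l631 (.node (nat_lit 31650) l632 l633)))) (.node (nat_lit 31950) (.node (nat_lit 31800) (.node (nat_lit 31750) l634 l635) (.node (nat_lit 31850) l636 (.node (nat_lit 31900) l637 l638))) (.node (nat_lit 32100) (.node (nat_lit 32000) l639 (.node (nat_lit 32050) l640 l641)) (.node (nat_lit 32150) l642 (.node (nat_lit 32200) l643 l644)))))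
noncomputable def n31 : T := (.node (nat_lit 32750) (.node (nat_lit 32500) (.node (nat_lit 32350) (.node (nat_lit 32300) l645 l646) (.node (nat_lit 32400) l647 (.node (nat_lit 32450) l648 l649))) (.node (nat_lit 32600) (.node (nat_lit 32550) l650 l651) (.node (nat_lit 32650) l652 (.node (nat_lit 32700) l653 l654)))) (.node (nat_lit 33000) (.node (nat_lit 32850) (.node (nat_lit 32800) l655 l656) (.node (nat_lit 32900) l657 (.node (nat_lit 32950) l658 l659))) (.node (nat_lit 33150) (.node (nat_lit 33050) l660 (.node (nat_lit 33100) l661 l662)) (.node (nat_lit 33200) l663 (.node (nat_lit 33250) l664 l665)))))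
noncomputable def tb : T := (.node (nat_lit 16650) (.node (nat_lit 8300) (.node (nat_lit 4150) (.node (nat_lit 2050) (.node (nat_lit 1000) n0 n1) (.node (nat_lit 3100) n2 n3)) (.node (nat_lit 6200) (.node (nat_lit 5150) n4 n5) (.node (nat_lit 7250) n6 n7))) (.node (nat_lit 12450) (.node (nat_lit 10350) (.node (nat_lit 9300) n8 n9) (.node (nat_lit 11400) n10 n11)) (.node (nat_lit 14550) (.node (nat_lit 13500) n12 n13) (.node (nat_lit 15600) n14 n15)))) (.node (nat_lit 24950) (.node (nat_lit 20800) (.node (nat_lit 18700) (.node (nat_lit 17650) n16 n17) (.node (nat_lit 19750) n18 n19)) (.node (nat_lit 22850) (.node (nat_lit 21800) n20 n21) (.node (nat_lit 23900) n22 n23))) (.node (nat_lit 29100) (.node (nat_lit 27000) (.node (nat_lit 25950) n24 n25) (.node (nat_lit 28050) n26 n27)) (.node (nat_lit 31200) (.node (nat_lit 30150) n28 n29) (.node (nat_lit 32250) n30 n31)))))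
noncomputable def r0 : WT := (.node (nat_lit 4) (.leaf (nat_lit 11264) [nat_lit 216, nat_lit 54, nat_lit 216, nat_lit 54, nat_lit 216]) (.leaf (nat_lit 20480) [nat_lit 135, nat_lit 189, nat_lit 108, nat_lit 54, nat_lit 135, nat_lit 189, nat_lit 108]))
noncomputable def r1 : WT := (.node (nat_lit 6) (.leaf (nat_lit 35843) [nat_lit 108, nat_lit 189, nat_lit 135, nat_lit 189, nat_lit 54, nat_lit 135, nat_lit 81, nat_lit 135]) (.node (nat_lit 7) (.leaf (nat_lit 12288) [nat_lit 54, nat_lit 189, nat_lit 135, nat_lit 81, nat_lit 189, nat_lit 135]) (.leaf (nat_lit 23563) [nat_lit 189, nat_lit 81, nat_lit 135, nat_lit 189, nat_lit 108, nat_lit 189, nat_lit 189])))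
noncomputable def r2 : WT := (.node (nat_lit 10) (.node (nat_lit 9) (.leaf (nat_lit 16384) [nat_lit 108, nat_lit 162, nat_lit 54, nat_lit 108, nat_lit 189, nat_lit 189, nat_lit 189]) (.leaf (nat_lit 67584) [nat_lit 243, nat_lit 81, nat_lit 189, nat_lit 243, nat_lit 162, nat_lit 243])) (.node (nat_lit 12) (.node (nat_lit 11) (.leaf (nat_lit 22528) [nat_lit 162, nat_lit 54, nat_lit 162, nat_lit 54, nat_lit 162, nat_lit 54, nat_lit 162]) (.leaf (nat_lit 23552) [nat_lit 162, nat_lit 81, nat_lit 162, nat_lit 162, nat_lit 135, nat_lit 162, nat_lit 108])) (.node (nat_lit 13) (.leaf (nat_lit 29696) [nat_lit 54, nat_lit 135, nat_lit 189, nat_lit 108, nat_lit 162, nat_lit 162, nat_lit 54, nat_lit 189]) (.leaf (nat_lit 35840) [nat_lit 108, nat_lit 81, nat_lit 162, nat_lit 108, nat_lit 162, nat_lit 135, nat_lit 81, nat_lit 108]))))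
noncomputable def r3 : WT := (.node (nat_lit 18) (.node (nat_lit 16) (.node (nat_lit 15) (.leaf (nat_lit 35853) [nat_lit 135, nat_lit 81, nat_lit 135, nat_lit 54, nat_lit 108, nat_lit 189, nat_lit 135, nat_lit 189]) (.leaf (nat_lit 40964) [nat_lit 162, nat_lit 108, nat_lit 189, nat_lit 135, nat_lit 162, nat_lit 162, nat_lit 54, nat_lit 135])) (.node (nat_lit 17) (.leaf (nat_lit 52224) [nat_lit 216, nat_lit 81, nat_lit 162, nat_lit 162, nat_lit 216, nat_lit 162, nat_lit 216, nat_lit 162]) (.leaf (nat_lit 18440) [nat_lit 216, nat_lit 54, nat_lit 216, nat_lit 54, nat_lit 108, nat_lit 216, nat_lit 135]))) (.node (nat_lit 21) (.node (nat_lit 19) (.leaf (nat_lit 39947) [nat_lit 162, nat_lit 135, nat_lit 81, nat_lit 162, nat_lit 81, nat_lit 189, nat_lit 108, nat_lit 189]) (.node (nat_lit 20) (.leaf (nat_lit 73728) [nat_lit 108, nat_lit 243, nat_lit 135, nat_lit 81, nat_lit 108, nat_lit 243, nat_lit 135]) (.leaf (nat_lit 24587) [nat_lit 189, nat_lit 81, nat_lit 135, nat_lit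 189, nat_lit 108, nat_lit 162, nat_lit 162]))) (.node (nat_lit 23) (.node (nat_lit 22) (.leaf (nat_lit 67593) [nat_lit 243, nat_lit 81, nat_lit 243, nat_lit 189, nat_lit 243, nat_lit 162]) (.leaf (nat_lit 48128) [nat_lit 162, nat_lit 81, nat_lit 162, nat_lit 108, nat_lit 189, nat_lit 108, nat_lit 189, nat_lit 135])) (.node (nat_lit 24) (.leaf (nat_lit 39936) [nat_lit 108, nat_lit 189, nat_lit 81, nat_lit 162, nat_lit 135, nat_lit 162, nat_lit 54, nat_lit 189]) (.leaf (nat_lit 21512) [nat_lit 216, nat_lit 54, nat_lit 216, nat_lit 54, nat_lit 135, nat_lit 216, nat_lit 108])))))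
noncomputable def r4 : WT := (.node (nat_lit 27) (.leaf (nat_lit 47111) [nat_lit 162, nat_lit 108, nat_lit 162, nat_lit 108, nat_lit 81, nat_lit 162, nat_lit 108, nat_lit 189]) (.leaf (nat_lit 69632) [nat_lit 54, nat_lit 189, nat_lit 243, nat_lit 162, nat_lit 243, nat_lit 54, nat_lit 243]))
noncomputable def r5 : WT := (.node (nat_lit 30) (.leaf (nat_lit 52237) [nat_lit 216, nat_lit 81, nat_lit 189, nat_lit 216, nat_lit 189, nat_lit 216, nat_lit 189, nat_lit 189]) (.leaf (nat_lit 28672) [nat_lit 54, nat_lit 135, nat_lit 162, nat_lit 108, nat_lit 81, nat_lit 135, nat_lit 162, nat_lit 108]))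
noncomputable def r6 : WT := (.node (nat_lit 32) (.leaf (nat_lit 31744) [nat_lit 54, nat_lit 162, nat_lit 162, nat_lit 135, nat_lit 162, nat_lit 108, nat_lit 54, nat_lit 162]) (.leaf (nat_lit 39950) [nat_lit 189, nat_lit 54, nat_lit 108, nat_lit 189, nat_lit 81, nat_lit 162, nat_lit 135, nat_lit 162]))
noncomputable def r7 : WT := (.node (nat_lit 34) (.leaf (nat_lit 47104) [nat_lit 135, nat_lit 189, nat_lit 135, nat_lit 189, nat_lit 81, nat_lit 162, nat_lit 135, nat_lit 189]) (.leaf (nat_lit 41984) [nat_lit 135, nat_lit 54, nat_lit 162, nat_lit 108, nat_lit 189, nat_lit 135, nat_lit 189, nat_lit 189]))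
noncomputable def r8 : WT := (.node (nat_lit 36) (.leaf (nat_lit 44032) [nat_lit 135, nat_lit 162, nat_lit 108, nat_lit 81, nat_lit 162, nat_lit 162, nat_lit 54, nat_lit 189]) (.leaf (nat_lit 72704) [nat_lit 108, nat_lit 162, nat_lit 243, nat_lit 189, nat_lit 135, nat_lit 81, nat_lit 243]))
noncomputable def r9 : WT := (.node (nat_lit 38) (.leaf (nat_lit 40960) [nat_lit 135, nat_lit 54, nat_lit 162, nat_lit 108, nat_lit 189, nat_lit 135, nat_lit 162, nat_lit 162]) (.leaf (nat_lit 71680) [nat_lit 108, nat_lit 162, nat_lit 243, nat_lit 54, nat_lit 108, nat_lit 162, nat_lit 243]))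
noncomputable def r10 : WT := (.node (nat_lit 40) (.leaf (nat_lit 63488) [nat_lit 54, nat_lit 162, nat_lit 108, nat_lit 162, nat_lit 135, nat_lit 81, nat_lit 108, nat_lit 54, nat_lit 108]) (.leaf (nat_lit 48141) [nat_lit 189, nat_lit 81, nat_lit 108, nat_lit 162, nat_lit 135, nat_lit 162, nat_lit 135, nat_lit 189]))
noncomputable def r11 : WT := (.node (nat_lit 42) (.leaf (nat_lit 44041) [nat_lit 135, nat_lit 189, nat_lit 108, nat_lit 81, nat_lit 162, nat_lit 81, nat_lit 189, nat_lit 189]) (.node (nat_lit 43) (.leaf (nat_lit 24576) [nat_lit 162, nat_lit 81, nat_lit 189, nat_lit 189, nat_lit 135, nat_lit 162, nat_lit 108]) (.leaf (nat_lit 74752) [nat_lit 243, nat_lit 81, nat_lit 243, nat_lit 54, nat_lit 243, nat_lit 81, nat_lit 243])))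
noncomputable def r12 : WT := (.node (nat_lit 46) (.node (nat_lit 45) (.leaf (nat_lit 30720) [nat_lit 54, nat_lit 135, nat_lit 189, nat_lit 108, nat_lit 189, nat_lit 189, nat_lit 54, nat_lit 189]) (.leaf (nat_lit 90116) [nat_lit 243, nat_lit 81, nat_lit 108, nat_lit 243, nat_lit 81, nat_lit 243, nat_lit 54, nat_lit 135])) (.node (nat_lit 47) (.leaf (nat_lit 41988) [nat_lit 162, nat_lit 108, nat_lit 189, nat_lit 135, nat_lit 189, nat_lit 189, nat_lit 54, nat_lit 135]) (.leaf (nat_lit 70656) [nat_lit 54, nat_lit 243, nat_lit 189, nat_lit 243, nat_lit 162, nat_lit 54, nat_lit 243])))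
noncomputable def r13 : WT := (.node (nat_lit 50) (.node (nat_lit 49) (.leaf (nat_lit 14342) [nat_lit 135, nat_lit 135, nat_lit 162, nat_lit 54, nat_lit 108, nat_lit 162]) (.leaf (nat_lit 45056) [nat_lit 135, nat_lit 162, nat_lit 108, nat_lit 81, nat_lit 189, nat_lit 189, nat_lit 54, nat_lit 189])) (.node (nat_lit 51) (.leaf (nat_lit 87040) [nat_lit 108, nat_lit 243, nat_lit 135, nat_lit 81, nat_lit 135, nat_lit 243, nat_lit 108, nat_lit 243]) (.leaf (nat_lit 90112) [nat_lit 135, nat_lit 54, nat_lit 243, nat_lit 81, nat_lit 108, nat_lit 243, nat_lit 81, nat_lit 243])))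
noncomputable def r14 : WT := (.node (nat_lit 55) (.node (nat_lit 53) (.leaf (nat_lit 44046) [nat_lit 189, nat_lit 54, nat_lit 135, nat_lit 162, nat_lit 108, nat_lit 81, nat_lit 162, nat_lit 162]) (.node (nat_lit 54) (.leaf (nat_lit 13312) [nat_lit 54, nat_lit 216, nat_lit 81, nat_lit 216, nat_lit 81, nat_lit 216]) (.leaf (nat_lit 45065) [nat_lit 135, nat_lit 189, nat_lit 108, nat_lit 81, nat_lit 162, nat_lit 81, nat_lit 162, nat_lit 162]))) (.node (nat_lit 56) (.leaf (nat_lit 45070) [nat_lit 189, nat_lit 54, nat_lit 135, nat_lit 162, nat_lit 108, nat_lit 81, nat_lit 189, nat_lit 189]) (.node (nat_lit 57) (.leaf (nat_lit 49152) [nat_lit 162, nat_lit 81, nat_lit 162, nat_lit 162, nat_lit 135, nat_lit 162, nat_lit 135, nat_lit 135]) (.leaf (nat_lit 21504) [nat_lit 135, nat_lit 216, nat_lit 108, nat_lit 54, nat_lit 216, nat_lit 54, nat_lit 216]))))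
noncomputable def r15 : WT := (.node (nat_lit 62) (.node (nat_lit 60) (.node (nat_lit 59) (.leaf (nat_lit 65536) [nat_lit 54, nat_lit 162, nat_lit 108, nat_lit 189, nat_lit 108, nat_lit 189, nat_lit 135, nat_lit 54, nat_lit 162]) (.leaf (nat_lit 86016) [nat_lit 108, nat_lit 243, nat_lit 135, nat_lit 81, nat_lit 108, nat_lit 243, nat_lit 108, nat_lit 108])) (.node (nat_lit 61) (.leaf (nat_lit 53261) [nat_lit 216, nat_lit 81, nat_lit 189, nat_lit 216, nat_lit 189, nat_lit 216, nat_lit 162, nat_lit 162]) (.leaf (nat_lit 87049) [nat_lit 108, nat_lit 243, nat_lit 135, nat_lit 81, nat_lit 243, nat_lit 135, nat_lit 243, nat_lit 108]))) (.node (nat_lit 64) (.node (nat_lit 63) (.leaf (nat_lit 92160) [nat_lit 162, nat_lit 162, nat_lit 243, nat_lit 162, nat_lit 162, nat_lit 243, nat_lit 81, nat_lit 243]) (.leaf (nat_lit 56320) [nat_lit 54, nat_lit 108, nat_lit 54, nat_lit 108, nat_lit 81, nat_lit 162, nat_lit 108, nat_lit 162, nat_lit 135])) (.node (nat_lit 65) (.leaf (nat_lit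 12290) [nat_lit 189, nat_lit 135, nat_lit 81, nat_lit 189, nat_lit 135, nat_lit 54]) (.node (nat_lit 66) (.leaf (nat_lit 90115) [nat_lit 243, nat_lit 135, nat_lit 54, nat_lit 243, nat_lit 81, nat_lit 108, nat_lit 81, nat_lit 243]) (.leaf (nat_lit 60416) [nat_lit 54, nat_lit 135, nat_lit 54, nat_lit 108, nat_lit 189, nat_lit 135, nat_lit 189, nat_lit 54, nat_lit 135])))))
noncomputable def r16 : WT := (.node (nat_lit 77) (.leaf (nat_lit 51200) [nat_lit 162, nat_lit 81, nat_lit 189, nat_lit 189, nat_lit 135, nat_lit 162, nat_lit 135, nat_lit 135]) (.leaf (nat_lit 60418) [nat_lit 135, nat_lit 54, nat_lit 108, nat_lit 189, nat_lit 135, nat_lit 189, nat_lit 54, nat_lit 135, nat_lit 54]))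
noncomputable def r17 : WT := (.node (nat_lit 80) (.leaf (nat_lit 13319) [nat_lit 216, nat_lit 81, nat_lit 81, nat_lit 216, nat_lit 54, nat_lit 216]) (.leaf (nat_lit 65538) [nat_lit 162, nat_lit 108, nat_lit 189, nat_lit 108, nat_lit 189, nat_lit 135, nat_lit 54, nat_lit 162, nat_lit 54]))
noncomputable def r18 : WT := (.node (nat_lit 83) (.leaf (nat_lit 46088) [nat_lit 135, nat_lit 189, nat_lit 135, nat_lit 135, nat_lit 54, nat_lit 135, nat_lit 189, nat_lit 108]) (.leaf (nat_lit 21516) [nat_lit 216, nat_lit 54, nat_lit 135, nat_lit 216, nat_lit 108, nat_lit 54, nat_lit 216]))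
noncomputable def r19 : WT := (.node (nat_lit 73) (.node (nat_lit 70) (.node (nat_lit 68) (.leaf (nat_lit 32770) [nat_lit 189, nat_lit 81, nat_lit 189, nat_lit 81, nat_lit 189, nat_lit 81, nat_lit 189, nat_lit 54]) (.node (nat_lit 69) (.leaf (nat_lit 59392) [nat_lit 54, nat_lit 108, nat_lit 162, nat_lit 135, nat_lit 162, nat_lit 135, nat_lit 189, nat_lit 54, nat_lit 189]) (.leaf (nat_lit 62464) [nat_lit 54, nat_lit 162, nat_lit 81, nat_lit 189, nat_lit 108, nat_lit 189, nat_lit 54, nat_lit 162, nat_lit 135]))) (.node (nat_lit 71) (.leaf (nat_lit 90121) [nat_lit 243, nat_lit 81, nat_lit 108, nat_lit 81, nat_lit 243, nat_lit 54, nat_lit 243, nat_lit 135]) (.node (nat_lit 72) (.leaf (nat_lit 79872) [nat_lit 54, nat_lit 243, nat_lit 54, nat_lit 108, nat_lit 162, nat_lit 243, nat_lit 189, nat_lit 135]) (.leaf (nat_lit 78848) [nat_lit 54, nat_lit 108, nat_lit 243, nat_lit 135, nat_lit 54, nat_lit 108, nat_lit 243, nat_lit 135])))) (.node (nat_lit 78) (.node (nat_lit 75)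 (.node (nat_lit 74) (.leaf (nat_lit 88072) [nat_lit 243, nat_lit 108, nat_lit 162, nat_lit 243, nat_lit 54, nat_lit 108, nat_lit 243, nat_lit 162]) (.leaf (nat_lit 17414) [nat_lit 216, nat_lit 108, nat_lit 216, nat_lit 162, nat_lit 54, nat_lit 108, nat_lit 162])) (.node (nat_lit 76) (.leaf (nat_lit 63504) [nat_lit 108, nat_lit 54, nat_lit 54, nat_lit 162, nat_lit 108, nat_lit 162, nat_lit 135, nat_lit 81, nat_lit 108]) r16)) (.node (nat_lit 81) (.node (nat_lit 79) (.leaf (nat_lit 28679) [nat_lit 135, nat_lit 189, nat_lit 108, nat_lit 81, nat_lit 81, nat_lit 135, nat_lit 189, nat_lit 108]) r17) (.node (nat_lit 82) (.leaf (nat_lit 70658) [nat_lit 243, nat_lit 189, nat_lit 243, nat_lit 162, nat_lit 54, nat_lit 243, nat_lit 54]) r18))))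
noncomputable def r20 : WT := (.node (nat_lit 85) (.leaf (nat_lit 18432) [nat_lit 108, nat_lit 216, nat_lit 135, nat_lit 54, nat_lit 216, nat_lit 54, nat_lit 216]) (.leaf (nat_lit 28674) [nat_lit 135, nat_lit 162, nat_lit 108, nat_lit 81, nat_lit 135, nat_lit 162, nat_lit 108, nat_lit 54]))
noncomputable def r21 : WT := (.node (nat_lit 87) (.leaf (nat_lit 36864) [nat_lit 108, nat_lit 108, nat_lit 189, nat_lit 108, nat_lit 54, nat_lit 135, nat_lit 189, nat_lit 108]) (.leaf (nat_lit 13314) [nat_lit 216, nat_lit 81, nat_lit 216, nat_lit 81, nat_lit 216, nat_lit 54]))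
noncomputable def r22 : WT := (.node (nat_lit 89) (.leaf (nat_lit 70668) [nat_lit 243, nat_lit 54, nat_lit 54, nat_lit 243, nat_lit 189, nat_lit 243, nat_lit 162]) (.leaf (nat_lit 91136) [nat_lit 135, nat_lit 243, nat_lit 108, nat_lit 243, nat_lit 81, nat_lit 108, nat_lit 243, nat_lit 135]))
noncomputable def r23 : WT := (.node (nat_lit 91) (.leaf (nat_lit 93187) [nat_lit 243, nat_lit 162, nat_lit 162, nat_lit 243, nat_lit 189, nat_lit 189, nat_lit 81, nat_lit 243]) (.leaf (nat_lit 96269) [nat_lit 243, nat_lit 81, nat_lit 243, nat_lit 189, nat_lit 243, nat_lit 189, nat_lit 189, nat_lit 189]))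
noncomputable def r24 : WT := (.node (nat_lit 93) (.leaf (nat_lit 31746) [nat_lit 162, nat_lit 162, nat_lit 135, nat_lit 162, nat_lit 108, nat_lit 54, nat_lit 162, nat_lit 54]) (.leaf (nat_lit 56329) [nat_lit 135, nat_lit 81, nat_lit 135, nat_lit 81, nat_lit 81, nat_lit 108, nat_lit 189, nat_lit 135, nat_lit 189]))
noncomputable def r25 : WT := (.node (nat_lit 95) (.leaf (nat_lit 57344) [nat_lit 54, nat_lit 108, nat_lit 81, nat_lit 162, nat_lit 162, nat_lit 108, nat_lit 162, nat_lit 135, nat_lit 189]) (.leaf (nat_lit 105472) [nat_lit 54, nat_lit 108, nat_lit 243, nat_lit 81, nat_lit 243, nat_lit 54, nat_lit 135, nat_lit 54, nat_lit 243]))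
noncomputable def r26 : WT := (.node (nat_lit 97) (.leaf (nat_lit 50189) [nat_lit 189, nat_lit 81, nat_lit 135, nat_lit 189, nat_lit 135, nat_lit 135, nat_lit 162, nat_lit 162]) (.leaf (nat_lit 53248) [nat_lit 216, nat_lit 81, nat_lit 189, nat_lit 189, nat_lit 216, nat_lit 162, nat_lit 216, nat_lit 162]))
noncomputable def r27 : WT := (.node (nat_lit 99) (.leaf (nat_lit 104448) [nat_lit 54, nat_lit 108, nat_lit 81, nat_lit 243, nat_lit 54, nat_lit 243, nat_lit 135, nat_lit 54, nat_lit 243]) (.leaf (nat_lit 62478) [nat_lit 162, nat_lit 135, nat_lit 54, nat_lit 54, nat_lit 162, nat_lit 81, nat_lit 189, nat_lit 108, nat_lit 189]))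
noncomputable def r28 : WT := (.leaf (nat_lit 131074) [nat_lit 54, nat_lit 243, nat_lit 54, nat_lit 54, nat_lit 243, nat_lit 54, nat_lit 54, nat_lit 243, nat_lit 54, nat_lit 54, nat_lit 243, nat_lit 54, nat_lit 54, nat_lit 243, nat_lit 54, nat_lit 54, nat_lit 243])
noncomputable def r29 : WT := (.node (nat_lit 102) (.node (nat_lit 101) (.leaf (nat_lit 64512) [nat_lit 54, nat_lit 162, nat_lit 108, nat_lit 189, nat_lit 54, nat_lit 162, nat_lit 108, nat_lit 162, nat_lit 108]) (.leaf (nat_lit 61442) [nat_lit 135, nat_lit 162, nat_lit 108, nat_lit 54, nat_lit 54, nat_lit 135, nat_lit 162, nat_lit 108, nat_lit 54])) (.node (nat_lit 103) (.leaf (nat_lit 80910) [nat_lit 243, nat_lit 54, nat_lit 54, nat_lit 243, nat_lit 54, nat_lit 243, nat_lit 81, nat_lit 243]) r28))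
noncomputable def r30 : WT := (.node (nat_lit 106) (.node (nat_lit 105) (.leaf (nat_lit 64522) [nat_lit 162, nat_lit 108, nat_lit 162, nat_lit 108, nat_lit 54, nat_lit 54, nat_lit 162, nat_lit 108, nat_lit 189]) (.leaf (nat_lit 61440) [nat_lit 54, nat_lit 135, nat_lit 162, nat_lit 108, nat_lit 54, nat_lit 54, nat_lit 135, nat_lit 162, nat_lit 108])) (.node (nat_lit 107) (.leaf (nat_lit 65552) [nat_lit 162, nat_lit 54, nat_lit 54, nat_lit 162, nat_lit 108, nat_lit 189, nat_lit 108, nat_lit 189, nat_lit 135]) (.leaf (nat_lit 63495) [nat_lit 108, nat_lit 189, nat_lit 135, nat_lit 189, nat_lit 81, nat_lit 81, nat_lit 135, nat_lit 81, nat_lit 135])))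
noncomputable def r31 : WT := (.node (nat_lit 110) (.node (nat_lit 109) (.leaf (nat_lit 125954) [nat_lit 243, nat_lit 54, nat_lit 243, nat_lit 54, nat_lit 243, nat_lit 54, nat_lit 243, nat_lit 54, nat_lit 243, nat_lit 54, nat_lit 243]) (.leaf (nat_lit 104458) [nat_lit 243, nat_lit 135, nat_lit 54, nat_lit 243, nat_lit 54, nat_lit 54, nat_lit 108, nat_lit 81, nat_lit 243])) (.node (nat_lit 111) (.leaf (nat_lit 112643) [nat_lit 243, nat_lit 162, nat_lit 54, nat_lit 243, nat_lit 162, nat_lit 54, nat_lit 243, nat_lit 162, nat_lit 54, nat_lit 243, nat_lit 162]) (.leaf (nat_lit 104464) [nat_lit 243, nat_lit 54, nat_lit 54, nat_lit 108, nat_lit 81, nat_lit 243, nat_lit 54, nat_lit 243, nat_lit 135])))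
noncomputable def r32 : WT := (.node (nat_lit 114) (.node (nat_lit 113) (.leaf (nat_lit 111618) [nat_lit 162, nat_lit 243, nat_lit 54, nat_lit 162, nat_lit 243, nat_lit 54, nat_lit 162, nat_lit 243, nat_lit 54, nat_lit 162, nat_lit 243]) (.leaf (nat_lit 51213) [nat_lit 189, nat_lit 81, nat_lit 108, nat_lit 108, nat_lit 189, nat_lit 108, nat_lit 162, nat_lit 162])) (.node (nat_lit 115) (.leaf (nat_lit 29710) [nat_lit 189, nat_lit 54, nat_lit 54, nat_lit 135, nat_lit 189, nat_lit 108, nat_lit 162, nat_lit 162]) (.node (nat_lit 116) (.leaf (nat_lit 32775) [nat_lit 162, nat_lit 54, nat_lit 162, nat_lit 81, nat_lit 81, nat_lit 162, nat_lit 54, nat_lit 162]) (.leaf (nat_lit 34819) [nat_lit 135, nat_lit 216, nat_lit 108, nat_lit 54, nat_lit 216, nat_lit 81, nat_lit 81, nat_lit 216]))))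
noncomputable def r33 : WT := (.node (nat_lit 119) (.node (nat_lit 118) (.leaf (nat_lit 37888) [nat_lit 108, nat_lit 162, nat_lit 54, nat_lit 135, nat_lit 216, nat_lit 135, nat_lit 216, nat_lit 162]) (.leaf (nat_lit 37894) [nat_lit 135, nat_lit 216, nat_lit 135, nat_lit 216, nat_lit 162, nat_lit 54, nat_lit 108, nat_lit 162])) (.node (nat_lit 120) (.leaf (nat_lit 69634) [nat_lit 189, nat_lit 243, nat_lit 162, nat_lit 243, nat_lit 54, nat_lit 243, nat_lit 54]) (.leaf (nat_lit 43008) [nat_lit 135, nat_lit 135, nat_lit 162, nat_lit 54, nat_lit 216, nat_lit 108, nat_lit 216, nat_lit 162])))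
noncomputable def r34 : WT := (.node (nat_lit 123) (.node (nat_lit 122) (.leaf (nat_lit 17408) [nat_lit 108, nat_lit 162, nat_lit 54, nat_lit 216, nat_lit 108, nat_lit 216, nat_lit 162]) (.leaf (nat_lit 16390) [nat_lit 108, nat_lit 189, nat_lit 189, nat_lit 189, nat_lit 54, nat_lit 108, nat_lit 162])) (.node (nat_lit 124) (.leaf (nat_lit 15362) [nat_lit 189, nat_lit 135, nat_lit 54, nat_lit 54, nat_lit 189, nat_lit 135, nat_lit 54]) (.leaf (nat_lit 60432) [nat_lit 135, nat_lit 54, nat_lit 54, nat_lit 135, nat_lit 54, nat_lit 108, nat_lit 189, nat_lit 135, nat_lit 189])))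
noncomputable def r35 : WT := (.node (nat_lit 127) (.node (nat_lit 126) (.leaf (nat_lit 12293) [nat_lit 108, nat_lit 162, nat_lit 81, nat_lit 81, nat_lit 108, nat_lit 162]) (.leaf (nat_lit 78858) [nat_lit 108, nat_lit 243, nat_lit 135, nat_lit 54, nat_lit 54, nat_lit 108, nat_lit 243, nat_lit 135])) (.node (nat_lit 128) (.leaf (nat_lit 29698) [nat_lit 135, nat_lit 189, nat_lit 108, nat_lit 162, nat_lit 162, nat_lit 54, nat_lit 189, nat_lit 54]) (.leaf (nat_lit 86025) [nat_lit 108, nat_lit 243, nat_lit 135, nat_lit 81, nat_lit 135, nat_lit 135, nat_lit 243, nat_lit 135])))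
noncomputable def r36 : WT := (.node (nat_lit 131) (.node (nat_lit 130) (.leaf (nat_lit 88064) [nat_lit 108, nat_lit 243, nat_lit 162, nat_lit 54, nat_lit 243, nat_lit 108, nat_lit 162, nat_lit 243]) (.leaf (nat_lit 89088) [nat_lit 108, nat_lit 243, nat_lit 162, nat_lit 243, nat_lit 54, nat_lit 243, nat_lit 108, nat_lit 162])) (.node (nat_lit 132) (.leaf (nat_lit 92163) [nat_lit 243, nat_lit 189, nat_lit 189, nat_lit 243, nat_lit 189, nat_lit 189, nat_lit 81, nat_lit 243]) (.node (nat_lit 133) (.leaf (nat_lit 96256) [nat_lit 243, nat_lit 81, nat_lit 162, nat_lit 162, nat_lit 162, nat_lit 243, nat_lit 162, nat_lit 243]) (.leaf (nat_lit 56322) [nat_lit 108, nat_lit 54, nat_lit 108, nat_lit 81, nat_lit 162, nat_lit 108, nat_lit 162, nat_lit 135, nat_lit 54]))))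
noncomputable def r37 : WT := (.node (nat_lit 100) (.node (nat_lit 92) (.node (nat_lit 88) (.node (nat_lit 86) r20 r21) (.node (nat_lit 90) r22 r23)) (.node (nat_lit 96) (.node (nat_lit 94) r24 r25) (.node (nat_lit 98) r26 r27))) (.node (nat_lit 117) (.node (nat_lit 108) (.node (nat_lit 104) r29 r30) (.node (nat_lit 112) r31 r32)) (.node (nat_lit 125) (.node (nat_lit 121) r33 r34) (.node (nat_lit 129) r35 r36))))
noncomputable def r38 : WT := (.node (nat_lit 39) (.node (nat_lit 31) (.node (nat_lit 28) (.node (nat_lit 26) (.leaf (nat_lit 32768) [nat_lit 54, nat_lit 189, nat_lit 81, nat_lit 189, nat_lit 81, nat_lit 189, nat_lit 81, nat_lit 189]) r4) (.node (nat_lit 29) (.leaf (nat_lit 46080) [nat_lit 135, nat_lit 189, nat_lit 108, nat_lit 54, nat_lit 135, nat_lit 189, nat_lit 135, nat_lit 135]) r5)) (.node (nat_lit 35) (.node (nat_lit 33) r6 r7) (.node (nat_lit 37) r8 r9))) (.node (nat_lit 52) (.node (nat_lit 44) (.node (nat_lit 41) r10 r11) (.node (nat_lit 48) r12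 r13)) (.node (nat_lit 67) (.node (nat_lit 58) r14 r15) (.node (nat_lit 84) r19 r37))))
noncomputable def w0 : WT := (.node (nat_lit 1) (.leaf (nat_lit 0) [nat_lit 81]) (.node (nat_lit 5) (.node (nat_lit 2) (.leaf (nat_lit 5120) [nat_lit 54, nat_lit 54]) (.node (nat_lit 3) (.leaf (nat_lit 10240) [nat_lit 108, nat_lit 162, nat_lit 54, nat_lit 108, nat_lit 162]) r0)) (.node (nat_lit 14) (.node (nat_lit 8) r1 r2) (.node (nat_lit 25) r3 r38))))
noncomputable def r39 : WT := (.node (nat_lit 4) (.leaf (nat_lit 22531) [nat_lit 189, nat_lit 81, nat_lit 189, nat_lit 81, nat_lit 189, nat_lit 81, nat_lit 189]) (.leaf (nat_lit 11267) [nat_lit 216, nat_lit 81, nat_lit 216, nat_lit 81, nat_lit 216]))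
noncomputable def r40 : WT := (.node (nat_lit 6) (.leaf (nat_lit 23556) [nat_lit 162, nat_lit 162, nat_lit 135, nat_lit 162, nat_lit 108, nat_lit 54, nat_lit 162]) (.node (nat_lit 7) (.leaf (nat_lit 23567) [nat_lit 135, nat_lit 189, nat_lit 108, nat_lit 189, nat_lit 189, nat_lit 54, nat_lit 189]) (.leaf (nat_lit 12299) [nat_lit 81, nat_lit 108, nat_lit 162, nat_lit 54, nat_lit 108, nat_lit 162])))
noncomputable def r41 : WT := (.node (nat_lit 10) (.node (nat_lit 9) (.leaf (nat_lit 14343) [nat_lit 189, nat_lit 135, nat_lit 81, nat_lit 189, nat_lit 108, nat_lit 108]) (.leaf (nat_lit 20487) [nat_lit 135, nat_lit 162, nat_lit 108, nat_lit 81, nat_lit 135, nat_lit 162, nat_lit 108])) (.node (nat_lit 11) (.leaf (nat_lit 67588) [nat_lit 189, nat_lit 243, nat_lit 162, nat_lit 243, nat_lit 54, nat_lit 243]) (.leaf (nat_lit 39942) [nat_lit 162, nat_lit 135, nat_lit 162, nat_lit 54, nat_lit 189, nat_lit 54, nat_lit 108, nat_lit 189])))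
noncomputable def r42 : WT := (.node (nat_lit 16) (.node (nat_lit 14) (.node (nat_lit 13) (.leaf (nat_lit 35844) [nat_lit 162, nat_lit 108, nat_lit 162, nat_lit 135, nat_lit 81, nat_lit 108, nat_lit 54, nat_lit 108]) (.leaf (nat_lit 35857) [nat_lit 135, nat_lit 54, nat_lit 108, nat_lit 189, nat_lit 135, nat_lit 189, nat_lit 54, nat_lit 135])) (.node (nat_lit 15) (.leaf (nat_lit 35854) [nat_lit 108, nat_lit 54, nat_lit 108, nat_lit 81, nat_lit 162, nat_lit 108, nat_lit 162, nat_lit 135]) (.leaf (nat_lit 40973) [nat_lit 108, nat_lit 81, nat_lit 189, nat_lit 189, nat_lit 108, nat_lit 162, nat_lit 135, nat_lit 189]))) (.node (nat_lit 19) (.node (nat_lit 17) (.leaf (nat_lit 39939) [nat_lit 189, nat_lit 108, nat_lit 189, nat_lit 54, nat_lit 162, nat_lit 135, nat_lit 81, nat_lit 162]) (.node (nat_lit 18) (.leaf (nat_lit 40977) [nat_lit 189, nat_lit 189, nat_lit 108, nat_lit 162, nat_lit 135, nat_lit 189, nat_lit 81, nat_lit 108]) (.leaf (nat_lit 31759) [nat_lit 81, nat_lit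 189, nat_lit 81, nat_lit 135, nat_lit 189, nat_lit 108, nat_lit 189, nat_lit 189]))) (.node (nat_lit 21) (.node (nat_lit 20) (.leaf (nat_lit 67597) [nat_lit 243, nat_lit 189, nat_lit 243, nat_lit 162, nat_lit 54, nat_lit 243]) (.leaf (nat_lit 18447) [nat_lit 216, nat_lit 81, nat_lit 216, nat_lit 81, nat_lit 108, nat_lit 216, nat_lit 135])) (.node (nat_lit 22) (.leaf (nat_lit 24580) [nat_lit 189, nat_lit 189, nat_lit 135, nat_lit 162, nat_lit 108, nat_lit 54, nat_lit 162]) (.leaf (nat_lit 28687) [nat_lit 81, nat_lit 135, nat_lit 189, nat_lit 108, nat_lit 54, nat_lit 135, nat_lit 189, nat_lit 108])))))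
noncomputable def r43 : WT := (.node (nat_lit 27) (.leaf (nat_lit 47114) [nat_lit 162, nat_lit 135, nat_lit 189, nat_lit 54, nat_lit 135, nat_lit 189, nat_lit 135, nat_lit 189]) (.leaf (nat_lit 48132) [nat_lit 162, nat_lit 108, nat_lit 189, nat_lit 108, nat_lit 189, nat_lit 135, nat_lit 54, nat_lit 162]))
noncomputable def r44 : WT := (.node (nat_lit 30) (.leaf (nat_lit 24591) [nat_lit 135, nat_lit 189, nat_lit 108, nat_lit 162, nat_lit 162, nat_lit 54, nat_lit 189]) (.leaf (nat_lit 73736) [nat_lit 108, nat_lit 243, nat_lit 135, nat_lit 54, nat_lit 108, nat_lit 243, nat_lit 135]))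
noncomputable def r45 : WT := (.node (nat_lit 32) (.leaf (nat_lit 39953) [nat_lit 162, nat_lit 81, nat_lit 189, nat_lit 108, nat_lit 189, nat_lit 54, nat_lit 162, nat_lit 135]) (.leaf (nat_lit 71687) [nat_lit 243, nat_lit 189, nat_lit 135, nat_lit 81, nat_lit 243, nat_lit 189, nat_lit 135]))
noncomputable def r46 : WT := (.node (nat_lit 34) (.leaf (nat_lit 44035) [nat_lit 189, nat_lit 189, nat_lit 54, nat_lit 135, nat_lit 189, nat_lit 108, nat_lit 81, nat_lit 162]) (.leaf (nat_lit 52241) [nat_lit 189, nat_lit 216, nat_lit 189, nat_lit 216, nat_lit 189, nat_lit 189, nat_lit 54, nat_lit 216]))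
noncomputable def r47 : WT := (.node (nat_lit 36) (.leaf (nat_lit 90129) [nat_lit 243, nat_lit 54, nat_lit 243, nat_lit 135, nat_lit 54, nat_lit 243, nat_lit 81, nat_lit 108]) (.node (nat_lit 37) (.leaf (nat_lit 42001) [nat_lit 162, nat_lit 162, nat_lit 108, nat_lit 162, nat_lit 135, nat_lit 189, nat_lit 81, nat_lit 108]) (.leaf (nat_lit 47121) [nat_lit 162, nat_lit 108, nat_lit 189, nat_lit 54, nat_lit 162, nat_lit 108, nat_lit 162, nat_lit 108])))
noncomputable def r48 : WT := (.node (nat_lit 40) (.node (nat_lit 39) (.leaf (nat_lit 32783) [nat_lit 81, nat_lit 162, nat_lit 54, nat_lit 162, nat_lit 54, nat_lit 162, nat_lit 54, nat_lit 162]) (.leaf (nat_lit 29711) [nat_lit 81, nat_lit 162, nat_lit 81, nat_lit 189, nat_lit 189, nat_lit 135, nat_lit 162, nat_lit 108])) (.node (nat_lit 41) (.leaf (nat_lit 41997) [nat_lit 108, nat_lit 81, nat_lit 162, nat_lit 162, nat_lit 108, nat_lit 162, nat_lit 135, nat_lit 189]) (.leaf (nat_lit 36881) [nat_lit 135, nat_lit 162, nat_lit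 108, nat_lit 81, nat_lit 135, nat_lit 162, nat_lit 135, nat_lit 135])))
noncomputable def r49 : WT := (.node (nat_lit 44) (.node (nat_lit 43) (.leaf (nat_lit 94225) [nat_lit 243, nat_lit 54, nat_lit 243, nat_lit 189, nat_lit 189, nat_lit 243, nat_lit 162, nat_lit 162]) (.leaf (nat_lit 90126) [nat_lit 243, nat_lit 54, nat_lit 135, nat_lit 54, nat_lit 243, nat_lit 81, nat_lit 108, nat_lit 243])) (.node (nat_lit 45) (.leaf (nat_lit 56337) [nat_lit 81, nat_lit 108, nat_lit 189, nat_lit 135, nat_lit 189, nat_lit 54, nat_lit 135, nat_lit 81, nat_lit 135]) (.leaf (nat_lit 92177) [nat_lit 243, nat_lit 54, nat_lit 243, nat_lit 189, nat_lit 189, nat_lit 243, nat_lit 189, nat_lit 189])))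
noncomputable def r50 : WT := (.node (nat_lit 48) (.node (nat_lit 47) (.leaf (nat_lit 90120) [nat_lit 108, nat_lit 243, nat_lit 81, nat_lit 243, nat_lit 54, nat_lit 135, nat_lit 54, nat_lit 243]) (.leaf (nat_lit 44049) [nat_lit 162, nat_lit 81, nat_lit 189, nat_lit 189, nat_lit 54, nat_lit 135, nat_lit 189, nat_lit 108])) (.node (nat_lit 49) (.leaf (nat_lit 45059) [nat_lit 162, nat_lit 162, nat_lit 54, nat_lit 135, nat_lit 189, nat_lit 108, nat_lit 81, nat_lit 162]) (.leaf (nat_lit 69645) [nat_lit 81, nat_lit 243, nat_lit 81, nat_lit 243, nat_lit 189, nat_lit 243, nat_lit 162])))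
noncomputable def r51 : WT := (.node (nat_lit 53) (.node (nat_lit 51) (.leaf (nat_lit 17417) [nat_lit 189, nat_lit 135, nat_lit 81, nat_lit 189, nat_lit 216, nat_lit 135, nat_lit 216]) (.node (nat_lit 52) (.leaf (nat_lit 13323) [nat_lit 81, nat_lit 216, nat_lit 54, nat_lit 216, nat_lit 54, nat_lit 216]) (.leaf (nat_lit 59409) [nat_lit 81, nat_lit 162, nat_lit 81, nat_lit 162, nat_lit 108, nat_lit 189, nat_lit 108, nat_lit 189, nat_lit 135]))) (.node (nat_lit 54) (.leaf (nat_lit 63505) [nat_lit 81, nat_lit 135, nat_lit 81, nat_lit 135, nat_lit 54, nat_lit 108, nat_lit 189, nat_lit 135, nat_lit 189]) (.node (nat_lit 55) (.leaf (nat_lit 44040) [nat_lit 162, nat_lit 162, nat_lit 54, nat_lit 189, nat_lit 54, nat_lit 135, nat_lit 162, nat_lit 108]) (.leaf (nat_lit 72716) [nat_lit 243, nat_lit 54, nat_lit 108, nat_lit 162, nat_lit 243, nat_lit 189, nat_lit 135]))))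
noncomputable def r52 : WT := (.node (nat_lit 60) (.node (nat_lit 58) (.node (nat_lit 57) (.leaf (nat_lit 111619) [nat_lit 243, nat_lit 189, nat_lit 81, nat_lit 243, nat_lit 189, nat_lit 81, nat_lit 243, nat_lit 189, nat_lit 81, nat_lit 243, nat_lit 189]) (.leaf (nat_lit 57361) [nat_lit 81, nat_lit 162, nat_lit 108, nat_lit 189, nat_lit 135, nat_lit 189, nat_lit 189, nat_lit 54, nat_lit 135])) (.node (nat_lit 59) (.leaf (nat_lit 79887) [nat_lit 81, nat_lit 108, nat_lit 162, nat_lit 243, nat_lit 189, nat_lit 135, nat_lit 81, nat_lit 243]) (.leaf (nat_lit 62481) [nat_lit 81, nat_lit 108, nat_lit 189, nat_lit 81, nat_lit 162, nat_lit 135, nat_lit 162, nat_lit 54, nat_lit 189]))) (.node (nat_lit 62) (.node (nat_lit 61) (.leaf (nat_lit 82953) [nat_lit 243, nat_lit 189, nat_lit 135, nat_lit 81, nat_lit 243, nat_lit 189, nat_lit 108, nat_lit 108]) (.leaf (nat_lit 46097) [nat_lit 108, nat_lit 108, nat_lit 162, nat_lit 108, nat_lit 81, nat_lit 135, nat_lit 162, nat_lit 108]))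 (.node (nat_lit 63) (.leaf (nat_lit 74756) [nat_lit 243, nat_lit 54, nat_lit 243, nat_lit 81, nat_lit 243, nat_lit 54, nat_lit 243]) (.leaf (nat_lit 16399) [nat_lit 162, nat_lit 162, nat_lit 162, nat_lit 135, nat_lit 81, nat_lit 189, nat_lit 135]))))
noncomputable def r53 : WT := (.node (nat_lit 71) (.node (nat_lit 67) (.node (nat_lit 65) (.leaf (nat_lit 92174) [nat_lit 243, nat_lit 54, nat_lit 162, nat_lit 162, nat_lit 243, nat_lit 162, nat_lit 162, nat_lit 243]) (.node (nat_lit 66) (.leaf (nat_lit 91146) [nat_lit 108, nat_lit 243, nat_lit 135, nat_lit 54, nat_lit 135, nat_lit 243, nat_lit 108, nat_lit 243]) (.leaf (nat_lit 53252) [nat_lit 189, nat_lit 189, nat_lit 216, nat_lit 162, nat_lit 216, nat_lit 162, nat_lit 54, nat_lit 216]))) (.node (nat_lit 69) (.node (nat_lit 68) (.leaf (nat_lit 53265) [nat_lit 189, nat_lit 216, nat_lit 189, nat_lit 216, nat_lit 162, nat_lit 162, nat_lit 54, nat_lit 216]) (.leaf (nat_lit 60433) [nat_lit 81, nat_lit 108, nat_lit 81, nat_lit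 162, nat_lit 108, nat_lit 162, nat_lit 135, nat_lit 81, nat_lit 108])) (.node (nat_lit 70) (.leaf (nat_lit 81935) [nat_lit 81, nat_lit 108, nat_lit 162, nat_lit 243, nat_lit 54, nat_lit 108, nat_lit 162, nat_lit 243]) (.leaf (nat_lit 14349) [nat_lit 189, nat_lit 108, nat_lit 108, nat_lit 81, nat_lit 189, nat_lit 135])))) (.node (nat_lit 75) (.node (nat_lit 73) (.node (nat_lit 72) (.leaf (nat_lit 64529) [nat_lit 81, nat_lit 135, nat_lit 189, nat_lit 135, nat_lit 189, nat_lit 81, nat_lit 162, nat_lit 135, nat_lit 189]) (.leaf (nat_lit 13325) [nat_lit 216, nat_lit 54, nat_lit 216, nat_lit 54, nat_lit 216, nat_lit 81])) (.node (nat_lit 74) (.leaf (nat_lit 45073) [nat_lit 162, nat_lit 81, nat_lit 162, nat_lit 162, nat_lit 54, nat_lit 135, nat_lit 189, nat_lit 108]) (.leaf (nat_lit 89095) [nat_lit 243, nat_lit 189, nat_lit 243, nat_lit 135, nat_lit 81, nat_lit 189, nat_lit 135, nat_lit 243]))) (.node (nat_lit 77) (.node (nat_lit 76) (.leaf (nat_lit 28682) [nat_lit 135,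 nat_lit 162, nat_lit 108, nat_lit 54, nat_lit 54, nat_lit 135, nat_lit 162, nat_lit 108]) (.leaf (nat_lit 88073) [nat_lit 189, nat_lit 243, nat_lit 135, nat_lit 81, nat_lit 243, nat_lit 189, nat_lit 135, nat_lit 243])) (.node (nat_lit 78) (.leaf (nat_lit 58385) [nat_lit 81, nat_lit 162, nat_lit 108, nat_lit 189, nat_lit 135, nat_lit 162, nat_lit 162, nat_lit 54, nat_lit 135]) (.leaf (nat_lit 104465) [nat_lit 81, nat_lit 243, nat_lit 81, nat_lit 108, nat_lit 243, nat_lit 81, nat_lit 243, nat_lit 54, nat_lit 135])))))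
noncomputable def r54 : WT := (.node (nat_lit 80) (.leaf (nat_lit 12301) [nat_lit 108, nat_lit 162, nat_lit 54, nat_lit 108, nat_lit 162, nat_lit 81]) (.leaf (nat_lit 90125) [nat_lit 108, nat_lit 81, nat_lit 243, nat_lit 54, nat_lit 243, nat_lit 135, nat_lit 54, nat_lit 243]))
noncomputable def r55 : WT := (.node (nat_lit 82) (.leaf (nat_lit 13322) [nat_lit 216, nat_lit 54, nat_lit 54, nat_lit 216, nat_lit 81, nat_lit 216]) (.leaf (nat_lit 87048) [nat_lit 135, nat_lit 243, nat_lit 108, nat_lit 243, nat_lit 54, nat_lit 108, nat_lit 243, nat_lit 135]))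
noncomputable def r56 : WT := (.node (nat_lit 84) (.leaf (nat_lit 56330) [nat_lit 162, nat_lit 108, nat_lit 162, nat_lit 135, nat_lit 54, nat_lit 54, nat_lit 108, nat_lit 54, nat_lit 108]) (.leaf (nat_lit 12296) [nat_lit 189, nat_lit 135, nat_lit 54, nat_lit 54, nat_lit 189, nat_lit 135]))
noncomputable def r57 : WT := (.node (nat_lit 86) (.leaf (nat_lit 60435) [nat_lit 108, nat_lit 81, nat_lit 162, nat_lit 108, nat_lit 162, nat_lit 135, nat_lit 81, nat_lit 108, nat_lit 81]) (.leaf (nat_lit 112642) [nat_lit 189, nat_lit 243, nat_lit 81, nat_lit 189, nat_lit 243, nat_lit 81, nat_lit 189, nat_lit 243, nat_lit 81, nat_lit 189, nat_lit 243]))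
noncomputable def r58 : WT := (.node (nat_lit 88) (.leaf (nat_lit 18439) [nat_lit 108, nat_lit 216, nat_lit 135, nat_lit 81, nat_lit 216, nat_lit 81, nat_lit 216]) (.leaf (nat_lit 21507) [nat_lit 216, nat_lit 81, nat_lit 135, nat_lit 216, nat_lit 108, nat_lit 81, nat_lit 216]))
noncomputable def r59 : WT := (.node (nat_lit 90) (.leaf (nat_lit 31761) [nat_lit 189, nat_lit 81, nat_lit 135, nat_lit 189, nat_lit 108, nat_lit 189, nat_lit 189, nat_lit 81]) (.leaf (nat_lit 31747) [nat_lit 135, nat_lit 189, nat_lit 108, nat_lit 189, nat_lit 189, nat_lit 81, nat_lit 81, nat_lit 189]))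
noncomputable def r60 : WT := (.node (nat_lit 92) (.leaf (nat_lit 21511) [nat_lit 135, nat_lit 216, nat_lit 108, nat_lit 81, nat_lit 216, nat_lit 81, nat_lit 216]) (.leaf (nat_lit 65553) [nat_lit 81, nat_lit 189, nat_lit 81, nat_lit 108, nat_lit 162, nat_lit 135, nat_lit 162, nat_lit 135, nat_lit 189]))
noncomputable def r61 : WT := (.node (nat_lit 94) (.leaf (nat_lit 65555) [nat_lit 189, nat_lit 81, nat_lit 108, nat_lit 162, nat_lit 135, nat_lit 162, nat_lit 135, nat_lit 189, nat_lit 81]) (.node (nat_lit 95) (.leaf (nat_lit 87057) [nat_lit 243, nat_lit 135, nat_lit 243, nat_lit 108, nat_lit 54, nat_lit 108, nat_lit 243, nat_lit 135]) (.leaf (nat_lit 60429) [nat_lit 108, nat_lit 81, nat_lit 81, nat_lit 108, nat_lit 81, nat_lit 162, nat_lit 108, nat_lit 162, nat_lit 135])))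
noncomputable def r62 : WT := (.node (nat_lit 98) (.node (nat_lit 97) (.leaf (nat_lit 56339) [nat_lit 108, nat_lit 189, nat_lit 135, nat_lit 189, nat_lit 54, nat_lit 135, nat_lit 81, nat_lit 135, nat_lit 81]) (.leaf (nat_lit 106506) [nat_lit 243, nat_lit 189, nat_lit 243, nat_lit 135, nat_lit 54, nat_lit 54, nat_lit 189, nat_lit 135, nat_lit 243])) (.node (nat_lit 99) (.leaf (nat_lit 104451) [nat_lit 108, nat_lit 243, nat_lit 81, nat_lit 243, nat_lit 54, nat_lit 135, nat_lit 81, nat_lit 81, nat_lit 243]) (.leaf (nat_lit 64521) [nat_lit 162, nat_lit 135, nat_lit 189, nat_lit 81, nat_lit 81, nat_lit 135, nat_lit 189, nat_lit 135, nat_lit 189])))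
noncomputable def r63 : WT := (.node (nat_lit 102) (.node (nat_lit 101) (.leaf (nat_lit 63507) [nat_lit 135, nat_lit 81, nat_lit 135, nat_lit 54, nat_lit 108, nat_lit 189, nat_lit 135, nat_lit 189, nat_lit 81]) (.leaf (nat_lit 62483) [nat_lit 108, nat_lit 189, nat_lit 81, nat_lit 162, nat_lit 135, nat_lit 162, nat_lit 54, nat_lit 189, nat_lit 81])) (.node (nat_lit 103) (.leaf (nat_lit 62469) [nat_lit 162, nat_lit 135, nat_lit 162, nat_lit 54, nat_lit 189, nat_lit 81, nat_lit 81, nat_lit 108, nat_lit 189]) (.leaf (nat_lit 59411) [nat_lit 162, nat_lit 81, nat_lit 162, nat_lit 108, nat_lit 189, nat_lit 108, nat_lit 189, nat_lit 135, nat_lit 81])))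
noncomputable def r64 : WT := (.node (nat_lit 106) (.node (nat_lit 105) (.leaf (nat_lit 60419) [nat_lit 162, nat_lit 108, nat_lit 162, nat_lit 135, nat_lit 81, nat_lit 108, nat_lit 81, nat_lit 81, nat_lit 108]) (.leaf (nat_lit 49169) [nat_lit 108, nat_lit 108, nat_lit 189, nat_lit 108, nat_lit 189, nat_lit 189, nat_lit 54, nat_lit 189])) (.node (nat_lit 107) (.leaf (nat_lit 32785) [nat_lit 162, nat_lit 54, nat_lit 162, nat_lit 54, nat_lit 162, nat_lit 54, nat_lit 162, nat_lit 81]) (.leaf (nat_lit 32778) [nat_lit 189, nat_lit 81, nat_lit 189, nat_lit 54, nat_lit 54, nat_lit 189, nat_lit 81, nat_lit 189])))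
noncomputable def r65 : WT := (.node (nat_lit 110) (.node (nat_lit 109) (.leaf (nat_lit 36871) [nat_lit 135, nat_lit 162, nat_lit 135, nat_lit 135, nat_lit 81, nat_lit 135, nat_lit 162, nat_lit 108]) (.leaf (nat_lit 37905) [nat_lit 189, nat_lit 216, nat_lit 108, nat_lit 216, nat_lit 108, nat_lit 81, nat_lit 189, nat_lit 135])) (.node (nat_lit 111) (.leaf (nat_lit 30735) [nat_lit 81, nat_lit 162, nat_lit 81, nat_lit 162, nat_lit 162, nat_lit 135, nat_lit 162, nat_lit 108]) (.leaf (nat_lit 29713) [nat_lit 162, nat_lit 81, nat_lit 189, nat_lit 189, nat_lit 135, nat_lit 162, nat_lit 108, nat_lit 81])))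
noncomputable def r66 : WT := (.node (nat_lit 114) (.node (nat_lit 113) (.leaf (nat_lit 28689) [nat_lit 135, nat_lit 189, nat_lit 108, nat_lit 54, nat_lit 135, nat_lit 189, nat_lit 108, nat_lit 81]) (.leaf (nat_lit 43017) [nat_lit 189, nat_lit 108, nat_lit 108, nat_lit 81, nat_lit 189, nat_lit 216, nat_lit 135, nat_lit 216])) (.node (nat_lit 115) (.leaf (nat_lit 45064) [nat_lit 189, nat_lit 189, nat_lit 54, nat_lit 189, nat_lit 54, nat_lit 135, nat_lit 162, nat_lit 108]) (.leaf (nat_lit 46089) [nat_lit 135, nat_lit 162, nat_lit 108, nat_lit 81, nat_lit 108, nat_lit 108, nat_lit 162, nat_lit 108])))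
noncomputable def r67 : WT := (.node (nat_lit 118) (.node (nat_lit 117) (.leaf (nat_lit 18435) [nat_lit 216, nat_lit 81, nat_lit 108, nat_lit 216, nat_lit 135, nat_lit 81, nat_lit 216]) (.leaf (nat_lit 56333) [nat_lit 135, nat_lit 81, nat_lit 81, nat_lit 108, nat_lit 189, nat_lit 135, nat_lit 189, nat_lit 54, nat_lit 135])) (.node (nat_lit 119) (.leaf (nat_lit 50193) [nat_lit 135, nat_lit 189, nat_lit 135, nat_lit 135, nat_lit 162, nat_lit 162, nat_lit 54, nat_lit 189]) (.leaf (nat_lit 16393) [nat_lit 189, nat_lit 135, nat_lit 81, nat_lit 162, nat_lit 162, nat_lit 162, nat_lit 135])))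
noncomputable def r68 : WT := (.node (nat_lit 122) (.node (nat_lit 121) (.leaf (nat_lit 78863) [nat_lit 81, nat_lit 108, nat_lit 243, nat_lit 135, nat_lit 81, nat_lit 108, nat_lit 243, nat_lit 135]) (.leaf (nat_lit 80911) [nat_lit 81, nat_lit 243, nat_lit 81, nat_lit 243, nat_lit 54, nat_lit 243, nat_lit 81, nat_lit 243])) (.node (nat_lit 123) (.leaf (nat_lit 81930) [nat_lit 243, nat_lit 189, nat_lit 135, nat_lit 54, nat_lit 54, nat_lit 243, nat_lit 189, nat_lit 135]) (.leaf (nat_lit 85002) [nat_lit 108, nat_lit 243, nat_lit 135, nat_lit 54, nat_lit 108, nat_lit 243, nat_lit 108, nat_lit 108])))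
noncomputable def r69 : WT := (.node (nat_lit 126) (.node (nat_lit 125) (.leaf (nat_lit 33806) [nat_lit 216, nat_lit 54, nat_lit 54, nat_lit 216, nat_lit 81, nat_lit 108, nat_lit 216, nat_lit 135]) (.leaf (nat_lit 91153) [nat_lit 108, nat_lit 243, nat_lit 135, nat_lit 54, nat_lit 243, nat_lit 135, nat_lit 243, nat_lit 108])) (.node (nat_lit 127) (.leaf (nat_lit 93198) [nat_lit 243, nat_lit 54, nat_lit 162, nat_lit 162, nat_lit 243, nat_lit 189, nat_lit 189, nat_lit 243]) (.node (nat_lit 128) (.leaf (nat_lit 93201) [nat_lit 243, nat_lit 54, nat_lit 243, nat_lit 162, nat_lit 162, nat_lit 243, nat_lit 189, nat_lit 189]) (.leaf (nat_lit 96260) [nat_lit 162, nat_lit 162, nat_lit 162, nat_lit 243, nat_lit 162, nat_lit 243, nat_lit 54, nat_lit 243]))))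
noncomputable def r70 : WT := (.node (nat_lit 96) (.node (nat_lit 87) (.node (nat_lit 83) (.node (nat_lit 81) r54 r55) (.node (nat_lit 85) r56 r57)) (.node (nat_lit 91) (.node (nat_lit 89) r58 r59) (.node (nat_lit 93) r60 r61))) (.node (nat_lit 112) (.node (nat_lit 104) (.node (nat_lit 100) r62 r63) (.node (nat_lit 108) r64 r65)) (.node (nat_lit 120) (.node (nat_lit 116) r66 r67) (.node (nat_lit 124) r68 r69))))
noncomputable def r71 : WT := (.node (nat_lit 35) (.node (nat_lit 28) (.node (nat_lit 25) (.node (nat_lit 24) (.leaf (nat_lit 52228) [nat_lit 162, nat_lit 162, nat_lit 216, nat_lit 162, nat_lit 216, nat_lit 162, nat_lit 54, nat_lit 216]) (.leaf (nat_lit 21519) [nat_lit 216, nat_lit 81, nat_lit 216, nat_lit 81, nat_lit 135, nat_lit 216, nat_lit 108])) (.node (nat_lit 26) (.leaf (nat_lit 48145) [nat_lit 108, nat_lit 162, nat_lit 135, nat_lit 162, nat_lit 135, nat_lit 189, nat_lit 54, nat_lit 189]) r43)) (.node (nat_lit 31) (.node (nat_lit 29) (.leaf (nat_lit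 70669) [nat_lit 81, nat_lit 243, nat_lit 81, nat_lit 189, nat_lit 243, nat_lit 162, nat_lit 243]) r44) (.node (nat_lit 33) r45 r46))) (.node (nat_lit 50) (.node (nat_lit 42) (.node (nat_lit 38) r47 r48) (.node (nat_lit 46) r49 r50)) (.node (nat_lit 64) (.node (nat_lit 56) r51 r52) (.node (nat_lit 79) r53 r70))))
noncomputable def w1 : WT := (.node (nat_lit 1) (.leaf (nat_lit 2) [nat_lit 54]) (.node (nat_lit 5) (.node (nat_lit 2) (.leaf (nat_lit 5121) [nat_lit 81, nat_lit 81]) (.node (nat_lit 3) (.leaf (nat_lit 10245) [nat_lit 189, nat_lit 135, nat_lit 81, nat_lit 189, nat_lit 135]) r39)) (.node (nat_lit 12) (.node (nat_lit 8) r40 r41) (.node (nat_lit 23) r42 r71))))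
noncomputable def r72 : WT := (.node (nat_lit 5) (.leaf (nat_lit 14339) [nat_lit 108, nat_lit 81, nat_lit 189, nat_lit 135, nat_lit 81, nat_lit 189]) (.leaf (nat_lit 10242) [nat_lit 162, nat_lit 54, nat_lit 108, nat_lit 162, nat_lit 54]))
noncomputable def r73 : WT := (.node (nat_lit 7) (.leaf (nat_lit 12289) [nat_lit 162, nat_lit 54, nat_lit 108, nat_lit 162, nat_lit 81, nat_lit 81]) (.node (nat_lit 8) (.leaf (nat_lit 66560) [nat_lit 243, nat_lit 108, nat_lit 243, nat_lit 108, nat_lit 243]) (.leaf (nat_lit 20486) [nat_lit 54, nat_lit 135, nat_lit 189, nat_lit 108, nat_lit 54, nat_lit 135, nat_lit 189])))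
noncomputable def r74 : WT := (.node (nat_lit 11) (.node (nat_lit 10) (.leaf (nat_lit 35856) [nat_lit 54, nat_lit 108, nat_lit 81, nat_lit 162, nat_lit 108, nat_lit 162, nat_lit 135, nat_lit 81]) (.leaf (nat_lit 23566) [nat_lit 54, nat_lit 162, nat_lit 81, nat_lit 162, nat_lit 162, nat_lit 135, nat_lit 162])) (.node (nat_lit 12) (.leaf (nat_lit 25600) [nat_lit 162, nat_lit 216, nat_lit 189, nat_lit 135, nat_lit 162, nat_lit 216, nat_lit 189]) (.node (nat_lit 13) (.leaf (nat_lit 35848) [nat_lit 162, nat_lit 135, nat_lit 81, nat_lit 108, nat_lit 54, nat_lit 108, nat_lit 81, nat_lit 162]) (.leaf (nat_lit 40975) [nat_lit 81, nat_lit 189, nat_lit 189, nat_lit 108, nat_lit 162, nat_lit 135, nat_lit 189, nat_lit 81]))))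
noncomputable def r75 : WT := (.node (nat_lit 18) (.node (nat_lit 16) (.node (nat_lit 15) (.leaf (nat_lit 35842) [nat_lit 81, nat_lit 162, nat_lit 108, nat_lit 162, nat_lit 135, nat_lit 81, nat_lit 108, nat_lit 54]) (.leaf (nat_lit 40968) [nat_lit 189, nat_lit 135, nat_lit 162, nat_lit 162, nat_lit 54, nat_lit 135, nat_lit 54, nat_lit 162])) (.node (nat_lit 17) (.leaf (nat_lit 23557) [nat_lit 189, nat_lit 189, nat_lit 54, nat_lit 189, nat_lit 81, nat_lit 135, nat_lit 189]) (.leaf (nat_lit 73738) [nat_lit 243, nat_lit 135, nat_lit 54, nat_lit 108, nat_lit 243, nat_lit 135, nat_lit 81]))) (.node (nat_lit 21) (.node (nat_lit 19) (.leaf (nat_lit 26624) [nat_lit 189, nat_lit 108, nat_lit 189, nat_lit 108, nat_lit 189, nat_lit 108, nat_lit 189]) (.node (nat_lit 20) (.leaf (nat_lit 18441) [nat_lit 216, nat_lit 135, nat_lit 81, nat_lit 216, nat_lit 81, nat_lit 216, nat_lit 81]) (.leaf (nat_lit 48129) [nat_lit 162, nat_lit 135, nat_lit 162, nat_lit 135, nat_lit 189, nat_lit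 54, nat_lit 189, nat_lit 81]))) (.node (nat_lit 23) (.node (nat_lit 22) (.leaf (nat_lit 71682) [nat_lit 162, nat_lit 243, nat_lit 54, nat_lit 108, nat_lit 162, nat_lit 243, nat_lit 54]) (.leaf (nat_lit 47107) [nat_lit 189, nat_lit 54, nat_lit 162, nat_lit 108, nat_lit 162, nat_lit 108, nat_lit 81, nat_lit 162])) (.node (nat_lit 24) (.leaf (nat_lit 35845) [nat_lit 189, nat_lit 135, nat_lit 189, nat_lit 54, nat_lit 135, nat_lit 81, nat_lit 135, nat_lit 54]) (.leaf (nat_lit 41989) [nat_lit 162, nat_lit 135, nat_lit 189, nat_lit 81, nat_lit 108, nat_lit 81, nat_lit 162, nat_lit 162])))))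
noncomputable def r76 : WT := (.node (nat_lit 29) (.leaf (nat_lit 68608) [nat_lit 108, nat_lit 243, nat_lit 135, nat_lit 243, nat_lit 135, nat_lit 243]) (.leaf (nat_lit 47119) [nat_lit 81, nat_lit 162, nat_lit 108, nat_lit 189, nat_lit 54, nat_lit 162, nat_lit 108, nat_lit 162]))
noncomputable def r77 : WT := (.node (nat_lit 31) (.leaf (nat_lit 39943) [nat_lit 189, nat_lit 54, nat_lit 162, nat_lit 135, nat_lit 81, nat_lit 162, nat_lit 81, nat_lit 189]) (.leaf (nat_lit 75784) [nat_lit 189, nat_lit 135, nat_lit 243, nat_lit 108, nat_lit 162, nat_lit 135, nat_lit 243]))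
noncomputable def r78 : WT := (.node (nat_lit 33) (.leaf (nat_lit 46081) [nat_lit 108, nat_lit 162, nat_lit 108, nat_lit 81, nat_lit 135, nat_lit 162, nat_lit 108, nat_lit 81]) (.leaf (nat_lit 40965) [nat_lit 162, nat_lit 135, nat_lit 189, nat_lit 81, nat_lit 108, nat_lit 81, nat_lit 189, nat_lit 189]))
noncomputable def r79 : WT := (.node (nat_lit 35) (.leaf (nat_lit 48136) [nat_lit 189, nat_lit 108, nat_lit 189, nat_lit 135, nat_lit 54, nat_lit 162, nat_lit 81, nat_lit 162]) (.leaf (nat_lit 44038) [nat_lit 81, nat_lit 162, nat_lit 162, nat_lit 54, nat_lit 189, nat_lit 54, nat_lit 135, nat_lit 162]))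
noncomputable def r80 : WT := (.node (nat_lit 37) (.leaf (nat_lit 24590) [nat_lit 54, nat_lit 162, nat_lit 81, nat_lit 189, nat_lit 189, nat_lit 135, nat_lit 162]) (.leaf (nat_lit 75776) [nat_lit 162, nat_lit 135, nat_lit 243, nat_lit 108, nat_lit 189, nat_lit 135, nat_lit 243]))
noncomputable def r81 : WT := (.node (nat_lit 39) (.leaf (nat_lit 39938) [nat_lit 189, nat_lit 81, nat_lit 162, nat_lit 135, nat_lit 162, nat_lit 54, nat_lit 189, nat_lit 54]) (.node (nat_lit 40) (.leaf (nat_lit 90122) [nat_lit 243, nat_lit 81, nat_lit 243, nat_lit 54, nat_lit 135, nat_lit 54, nat_lit 243, nat_lit 81]) (.leaf (nat_lit 57348) [nat_lit 81, nat_lit 162, nat_lit 162, nat_lit 108, nat_lit 162, nat_lit 135, nat_lit 189, nat_lit 54, nat_lit 54])))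
noncomputable def r82 : WT := (.node (nat_lit 42) (.leaf (nat_lit 48140) [nat_lit 189, nat_lit 135, nat_lit 54, nat_lit 162, nat_lit 81, nat_lit 162, nat_lit 108, nat_lit 189]) (.node (nat_lit 43) (.leaf (nat_lit 103433) [nat_lit 189, nat_lit 243, nat_lit 162, nat_lit 135, nat_lit 243, nat_lit 162, nat_lit 243, nat_lit 189]) (.leaf (nat_lit 56324) [nat_lit 54, nat_lit 108, nat_lit 81, nat_lit 162, nat_lit 108, nat_lit 162, nat_lit 135, nat_lit 54, nat_lit 54])))
noncomputable def r83 : WT := (.node (nat_lit 46) (.node (nat_lit 45) (.leaf (nat_lit 100352) [nat_lit 108, nat_lit 243, nat_lit 108, nat_lit 189, nat_lit 135, nat_lit 243, nat_lit 108, nat_lit 162]) (.leaf (nat_lit 36866) [nat_lit 108, nat_lit 189, nat_lit 108, nat_lit 54, nat_lit 135, nat_lit 189, nat_lit 108, nat_lit 54])) (.node (nat_lit 47) (.leaf (nat_lit 84998) [nat_lit 108, nat_lit 81, nat_lit 108, nat_lit 243, nat_lit 135, nat_lit 54, nat_lit 108, nat_lit 243]) (.node (nat_lit 48) (.leaf (nat_lit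 49153) [nat_lit 108, nat_lit 189, nat_lit 108, nat_lit 189, nat_lit 189, nat_lit 54, nat_lit 189, nat_lit 81]) (.leaf (nat_lit 44047) [nat_lit 81, nat_lit 162, nat_lit 81, nat_lit 189, nat_lit 189, nat_lit 54, nat_lit 135, nat_lit 189]))))
noncomputable def r84 : WT := (.node (nat_lit 51) (.node (nat_lit 50) (.leaf (nat_lit 24581) [nat_lit 162, nat_lit 162, nat_lit 54, nat_lit 189, nat_lit 81, nat_lit 135, nat_lit 189]) (.leaf (nat_lit 41992) [nat_lit 189, nat_lit 135, nat_lit 189, nat_lit 189, nat_lit 54, nat_lit 135, nat_lit 54, nat_lit 162])) (.node (nat_lit 52) (.leaf (nat_lit 82949) [nat_lit 108, nat_lit 81, nat_lit 243, nat_lit 189, nat_lit 135, nat_lit 81, nat_lit 243, nat_lit 189]) (.node (nat_lit 53) (.leaf (nat_lit 88076) [nat_lit 162, nat_lit 243, nat_lit 54, nat_lit 108, nat_lit 243, nat_lit 162, nat_lit 54, nat_lit 243]) (.leaf (nat_lit 54272) [nat_lit 108, nat_lit 162, nat_lit 135, nat_lit 162, nat_lit 135, nat_lit 162, nat_lit 135, nat_lit 162]))))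
noncomputable def r85 : WT := (.node (nat_lit 57) (.node (nat_lit 55) (.leaf (nat_lit 101380) [nat_lit 243, nat_lit 135, nat_lit 243, nat_lit 189, nat_lit 135, nat_lit 243, nat_lit 108, nat_lit 162]) (.node (nat_lit 56) (.leaf (nat_lit 41999) [nat_lit 81, nat_lit 162, nat_lit 162, nat_lit 108, nat_lit 162, nat_lit 135, nat_lit 189, nat_lit 81]) (.leaf (nat_lit 50186) [nat_lit 108, nat_lit 162, nat_lit 108, nat_lit 54, nat_lit 162, nat_lit 81, nat_lit 189, nat_lit 189]))) (.node (nat_lit 59) (.node (nat_lit 58) (.leaf (nat_lit 60417) [nat_lit 81, nat_lit 162, nat_lit 108, nat_lit 162, nat_lit 135, nat_lit 81, nat_lit 108, nat_lit 81, nat_lit 81]) (.leaf (nat_lit 62465) [nat_lit 189, nat_lit 81, nat_lit 162, nat_lit 135, nat_lit 162, nat_lit 54, nat_lit 189, nat_lit 81, nat_lit 81])) (.node (nat_lit 60) (.leaf (nat_lit 72706) [nat_lit 162, nat_lit 243, nat_lit 189, nat_lit 135, nat_lit 81, nat_lit 243, nat_lit 54]) (.leaf (nat_lit 101385) [nat_lit 243, nat_lit 135,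 nat_lit 189, nat_lit 135, nat_lit 243, nat_lit 108, nat_lit 162, nat_lit 243]))))
noncomputable def r86 : WT := (.leaf (nat_lit 134147) [nat_lit 243, nat_lit 162, nat_lit 108, nat_lit 243, nat_lit 162, nat_lit 108, nat_lit 243, nat_lit 162, nat_lit 108, nat_lit 243, nat_lit 162, nat_lit 108, nat_lit 243, nat_lit 162, nat_lit 108, nat_lit 243, nat_lit 162])
noncomputable def r87 : WT := (.node (nat_lit 65) (.node (nat_lit 63) (.node (nat_lit 62) (.leaf (nat_lit 21510) [nat_lit 54, nat_lit 216, nat_lit 54, nat_lit 216, nat_lit 54, nat_lit 135, nat_lit 216]) (.leaf (nat_lit 79873) [nat_lit 162, nat_lit 243, nat_lit 189, nat_lit 135, nat_lit 81, nat_lit 243, nat_lit 81, nat_lit 81])) (.node (nat_lit 64) (.leaf (nat_lit 99328) [nat_lit 108, nat_lit 243, nat_lit 108, nat_lit 162, nat_lit 135, nat_lit 243, nat_lit 108, nat_lit 189]) (.leaf (nat_lit 103424) [nat_lit 189, nat_lit 243, nat_lit 162, nat_lit 135, nat_lit 162, nat_lit 243, nat_lit 189, nat_lit 243]))) (.node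 (nat_lit 67) (.node (nat_lit 66) (.leaf (nat_lit 59396) [nat_lit 162, nat_lit 135, nat_lit 162, nat_lit 135, nat_lit 189, nat_lit 54, nat_lit 189, nat_lit 54, nat_lit 54]) (.leaf (nat_lit 56321) [nat_lit 189, nat_lit 135, nat_lit 189, nat_lit 54, nat_lit 135, nat_lit 81, nat_lit 135, nat_lit 81, nat_lit 81])) (.node (nat_lit 68) (.leaf (nat_lit 55296) [nat_lit 108, nat_lit 162, nat_lit 216, nat_lit 189, nat_lit 108, nat_lit 162, nat_lit 216, nat_lit 189]) (.node (nat_lit 69) (.leaf (nat_lit 102404) [nat_lit 243, nat_lit 135, nat_lit 243, nat_lit 162, nat_lit 135, nat_lit 243, nat_lit 108, nat_lit 189]) r86))))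
noncomputable def r88 : WT := (.node (nat_lit 81) (.leaf (nat_lit 58372) [nat_lit 81, nat_lit 189, nat_lit 189, nat_lit 108, nat_lit 162, nat_lit 135, nat_lit 189, nat_lit 54, nat_lit 54]) (.leaf (nat_lit 83978) [nat_lit 108, nat_lit 81, nat_lit 243, nat_lit 54, nat_lit 108, nat_lit 162, nat_lit 243, nat_lit 189]))
noncomputable def r89 : WT := (.node (nat_lit 86) (.leaf (nat_lit 78852) [nat_lit 243, nat_lit 135, nat_lit 54, nat_lit 108, nat_lit 243, nat_lit 135, nat_lit 54, nat_lit 54]) (.leaf (nat_lit 45062) [nat_lit 81, nat_lit 189, nat_lit 189, nat_lit 54, nat_lit 189, nat_lit 54, nat_lit 135, nat_lit 162]))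
noncomputable def r90 : WT := (.node (nat_lit 77) (.node (nat_lit 73) (.node (nat_lit 71) (.leaf (nat_lit 87047) [nat_lit 54, nat_lit 108, nat_lit 243, nat_lit 135, nat_lit 81, nat_lit 243, nat_lit 135, nat_lit 243]) (.node (nat_lit 72) (.leaf (nat_lit 78849) [nat_lit 243, nat_lit 135, nat_lit 81, nat_lit 108, nat_lit 243, nat_lit 135, nat_lit 81, nat_lit 81]) (.leaf (nat_lit 9216) [nat_lit 108, nat_lit 216, nat_lit 108, nat_lit 216]))) (.node (nat_lit 75) (.node (nat_lit 74) (.leaf (nat_lit 55306) [nat_lit 162, nat_lit 216, nat_lit 189, nat_lit 108, nat_lit 108, nat_lit 162, nat_lit 216, nat_lit 189]) (.leaf (nat_lit 45071) [nat_lit 81, nat_lit 162, nat_lit 81, nat_lit 162, nat_lit 162, nat_lit 54, nat_lit 135, nat_lit 189])) (.node (nat_lit 76) (.leaf (nat_lit 90127) [nat_lit 81, nat_lit 243, nat_lit 54, nat_lit 243, nat_lit 135, nat_lit 54, nat_lit 243, nat_lit 81]) (.leaf (nat_lit 16392) [nat_lit 189, nat_lit 189, nat_lit 189, nat_lit 54, nat_lit 108, nat_lit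 162, nat_lit 54])))) (.node (nat_lit 82) (.node (nat_lit 79) (.node (nat_lit 78) (.leaf (nat_lit 14341) [nat_lit 81, nat_lit 189, nat_lit 135, nat_lit 81, nat_lit 189, nat_lit 108]) (.leaf (nat_lit 12295) [nat_lit 162, nat_lit 81, nat_lit 81, nat_lit 108, nat_lit 162, nat_lit 54])) (.node (nat_lit 80) (.leaf (nat_lit 115715) [nat_lit 243, nat_lit 189, nat_lit 108, nat_lit 243, nat_lit 189, nat_lit 108, nat_lit 243, nat_lit 189, nat_lit 108, nat_lit 243, nat_lit 189]) r88)) (.node (nat_lit 84) (.node (nat_lit 83) (.leaf (nat_lit 86032) [nat_lit 54, nat_lit 108, nat_lit 243, nat_lit 135, nat_lit 81, nat_lit 108, nat_lit 243, nat_lit 108]) (.leaf (nat_lit 87054) [nat_lit 243, nat_lit 54, nat_lit 108, nat_lit 243, nat_lit 135, nat_lit 81, nat_lit 135, nat_lit 243])) (.node (nat_lit 85) (.leaf (nat_lit 116739) [nat_lit 243, nat_lit 216, nat_lit 108, nat_lit 243, nat_lit 216, nat_lit 108, nat_lit 243, nat_lit 216, nat_lit 108, nat_lit 243, nat_lit 216]) r89))))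
noncomputable def r91 : WT := (.node (nat_lit 88) (.leaf (nat_lit 17410) [nat_lit 162, nat_lit 54, nat_lit 216, nat_lit 108, nat_lit 216, nat_lit 162, nat_lit 54]) (.leaf (nat_lit 104452) [nat_lit 81, nat_lit 243, nat_lit 54, nat_lit 243, nat_lit 135, nat_lit 54, nat_lit 243, nat_lit 54, nat_lit 54]))
noncomputable def r92 : WT := (.node (nat_lit 90) (.leaf (nat_lit 21517) [nat_lit 81, nat_lit 216, nat_lit 81, nat_lit 216, nat_lit 81, nat_lit 135, nat_lit 216]) (.leaf (nat_lit 89102) [nat_lit 162, nat_lit 54, nat_lit 108, nat_lit 243, nat_lit 162, nat_lit 243, nat_lit 54, nat_lit 243]))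
noncomputable def r93 : WT := (.node (nat_lit 92) (.leaf (nat_lit 9222) [nat_lit 216, nat_lit 108, nat_lit 108, nat_lit 216]) (.leaf (nat_lit 68610) [nat_lit 243, nat_lit 135, nat_lit 243, nat_lit 135, nat_lit 243, nat_lit 108]))
noncomputable def r94 : WT := (.node (nat_lit 94) (.leaf (nat_lit 58380) [nat_lit 162, nat_lit 135, nat_lit 189, nat_lit 54, nat_lit 54, nat_lit 108, nat_lit 81, nat_lit 189, nat_lit 189]) (.leaf (nat_lit 85000) [nat_lit 81, nat_lit 108, nat_lit 243, nat_lit 135, nat_lit 54, nat_lit 108, nat_lit 243, nat_lit 108]))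
noncomputable def r95 : WT := (.node (nat_lit 96) (.leaf (nat_lit 51201) [nat_lit 108, nat_lit 189, nat_lit 108, nat_lit 162, nat_lit 162, nat_lit 54, nat_lit 189, nat_lit 81]) (.leaf (nat_lit 37890) [nat_lit 162, nat_lit 54, nat_lit 135, nat_lit 216, nat_lit 135, nat_lit 216, nat_lit 162, nat_lit 54]))
noncomputable def r96 : WT := (.node (nat_lit 98) (.leaf (nat_lit 54274) [nat_lit 162, nat_lit 135, nat_lit 162, nat_lit 135, nat_lit 162, nat_lit 135, nat_lit 162, nat_lit 108]) (.node (nat_lit 99) (.leaf (nat_lit 50188) [nat_lit 162, nat_lit 108, nat_lit 54, nat_lit 162, nat_lit 81, nat_lit 189, nat_lit 189, nat_lit 108]) (.leaf (nat_lit 50192) [nat_lit 54, nat_lit 162, nat_lit 81, nat_lit 189, nat_lit 189, nat_lit 108, nat_lit 108, nat_lit 162])))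
noncomputable def r97 : WT := (.node (nat_lit 101) (.leaf (nat_lit 56328) [nat_lit 81, nat_lit 162, nat_lit 108, nat_lit 162, nat_lit 135, nat_lit 54, nat_lit 54, nat_lit 108, nat_lit 54]) (.node (nat_lit 102) (.leaf (nat_lit 56334) [nat_lit 162, nat_lit 135, nat_lit 54, nat_lit 54, nat_lit 108, nat_lit 54, nat_lit 108, nat_lit 81, nat_lit 162]) (.leaf (nat_lit 36880) [nat_lit 54, nat_lit 108, nat_lit 108, nat_lit 189, nat_lit 108, nat_lit 54, nat_lit 135, nat_lit 189])))
noncomputable def r98 : WT := (.node (nat_lit 105) (.node (nat_lit 104) (.leaf (nat_lit 14338) [nat_lit 162, nat_lit 54, nat_lit 135, nat_lit 135, nat_lit 162, nat_lit 54]) (.leaf (nat_lit 36869) [nat_lit 81, nat_lit 135, nat_lit 162, nat_lit 135, nat_lit 135, nat_lit 81, nat_lit 135, nat_lit 162])) (.node (nat_lit 106) (.leaf (nat_lit 37893) [nat_lit 216, nat_lit 108, nat_lit 81, nat_lit 189, nat_lit 135, nat_lit 81, nat_lit 189, nat_lit 216]) (.leaf (nat_lit 59399) [nat_lit 189, nat_lit 108, nat_lit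 189, nat_lit 135, nat_lit 81, nat_lit 81, nat_lit 162, nat_lit 81, nat_lit 162])))
noncomputable def r99 : WT := (.node (nat_lit 109) (.node (nat_lit 108) (.leaf (nat_lit 37897) [nat_lit 81, nat_lit 189, nat_lit 135, nat_lit 81, nat_lit 189, nat_lit 216, nat_lit 108, nat_lit 216]) (.leaf (nat_lit 60431) [nat_lit 81, nat_lit 81, nat_lit 108, nat_lit 81, nat_lit 162, nat_lit 108, nat_lit 162, nat_lit 135, nat_lit 81])) (.node (nat_lit 110) (.leaf (nat_lit 9218) [nat_lit 216, nat_lit 108, nat_lit 216, nat_lit 108]) (.leaf (nat_lit 63506) [nat_lit 54, nat_lit 54, nat_lit 162, nat_lit 108, nat_lit 162, nat_lit 135, nat_lit 81, nat_lit 108, nat_lit 54])))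
noncomputable def r100 : WT := (.node (nat_lit 113) (.node (nat_lit 112) (.leaf (nat_lit 63497) [nat_lit 189, nat_lit 135, nat_lit 189, nat_lit 81, nat_lit 81, nat_lit 135, nat_lit 81, nat_lit 135, nat_lit 54]) (.leaf (nat_lit 64526) [nat_lit 162, nat_lit 108, nat_lit 54, nat_lit 54, nat_lit 162, nat_lit 108, nat_lit 189, nat_lit 54, nat_lit 162])) (.node (nat_lit 114) (.leaf (nat_lit 38919) [nat_lit 216, nat_lit 81, nat_lit 189, nat_lit 135, nat_lit 81, nat_lit 189, nat_lit 216, nat_lit 108]) (.leaf (nat_lit 105476) [nat_lit 243, nat_lit 81, nat_lit 243, nat_lit 54, nat_lit 135, nat_lit 54, nat_lit 243, nat_lit 54, nat_lit 54])))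
noncomputable def r101 : WT := (.node (nat_lit 117) (.node (nat_lit 116) (.leaf (nat_lit 43023) [nat_lit 81, nat_lit 189, nat_lit 216, nat_lit 135, nat_lit 216, nat_lit 81, nat_lit 189, nat_lit 108]) (.leaf (nat_lit 46087) [nat_lit 81, nat_lit 135, nat_lit 162, nat_lit 108, nat_lit 81, nat_lit 108, nat_lit 108, nat_lit 162])) (.node (nat_lit 118) (.leaf (nat_lit 46083) [nat_lit 162, nat_lit 108, nat_lit 81, nat_lit 135, nat_lit 162, nat_lit 108, nat_lit 81, nat_lit 108]) (.leaf (nat_lit 91142) [nat_lit 243, nat_lit 81, nat_lit 108, nat_lit 243, nat_lit 135, nat_lit 54, nat_lit 135, nat_lit 243])))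
noncomputable def r102 : WT := (.node (nat_lit 121) (.node (nat_lit 120) (.leaf (nat_lit 86030) [nat_lit 108, nat_lit 54, nat_lit 108, nat_lit 243, nat_lit 135, nat_lit 81, nat_lit 108, nat_lit 243]) (.leaf (nat_lit 33800) [nat_lit 216, nat_lit 135, nat_lit 81, nat_lit 216, nat_lit 54, nat_lit 54, nat_lit 216, nat_lit 81])) (.node (nat_lit 122) (.leaf (nat_lit 87042) [nat_lit 243, nat_lit 135, nat_lit 81, nat_lit 135, nat_lit 243, nat_lit 108, nat_lit 243, nat_lit 54]) (.leaf (nat_lit 81921) [nat_lit 162, nat_lit 243, nat_lit 54, nat_lit 108, nat_lit 162, nat_lit 243, nat_lit 81, nat_lit 81])))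
noncomputable def r103 : WT := (.node (nat_lit 125) (.node (nat_lit 124) (.leaf (nat_lit 34828) [nat_lit 81, nat_lit 216, nat_lit 54, nat_lit 54, nat_lit 216, nat_lit 81, nat_lit 135, nat_lit 216]) (.leaf (nat_lit 87051) [nat_lit 243, nat_lit 135, nat_lit 81, nat_lit 243, nat_lit 135, nat_lit 243, nat_lit 108, nat_lit 54])) (.node (nat_lit 126) (.leaf (nat_lit 88066) [nat_lit 243, nat_lit 162, nat_lit 54, nat_lit 243, nat_lit 108, nat_lit 162, nat_lit 243, nat_lit 54]) (.leaf (nat_lit 30733) [nat_lit 81, nat_lit 81, nat_lit 162, nat_lit 81, nat_lit 162, nat_lit 162, nat_lit 135, nat_lit 162])))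
noncomputable def r104 : WT := (.node (nat_lit 129) (.node (nat_lit 128) (.leaf (nat_lit 36868) [nat_lit 189, nat_lit 108, nat_lit 54, nat_lit 135, nat_lit 189, nat_lit 108, nat_lit 54, nat_lit 108]) (.leaf (nat_lit 29709) [nat_lit 81, nat_lit 81, nat_lit 162, nat_lit 81, nat_lit 189, nat_lit 189, nat_lit 135, nat_lit 162])) (.node (nat_lit 130) (.leaf (nat_lit 16386) [nat_lit 162, nat_lit 54, nat_lit 108, nat_lit 189, nat_lit 189, nat_lit 189, nat_lit 54]) (.leaf (nat_lit 91148) [nat_lit 243, nat_lit 135, nat_lit 54, nat_lit 135, nat_lit 243, nat_lit 108, nat_lit 243, nat_lit 81])))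
noncomputable def r105 : WT := (.node (nat_lit 133) (.node (nat_lit 132) (.leaf (nat_lit 28680) [nat_lit 81, nat_lit 135, nat_lit 162, nat_lit 108, nat_lit 54, nat_lit 54, nat_lit 135, nat_lit 162]) (.leaf (nat_lit 76800) [nat_lit 216, nat_lit 243, nat_lit 108, nat_lit 243, nat_lit 108, nat_lit 243, nat_lit 216])) (.node (nat_lit 134) (.leaf (nat_lit 100358) [nat_lit 189, nat_lit 135, nat_lit 243, nat_lit 108, nat_lit 162, nat_lit 108, nat_lit 108, nat_lit 243]) (.leaf (nat_lit 100359) [nat_lit 162, nat_lit 135, nat_lit 243, nat_lit 135, nat_lit 135, nat_lit 189, nat_lit 135, nat_lit 243])))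
noncomputable def r106 : WT := (.node (nat_lit 137) (.node (nat_lit 136) (.leaf (nat_lit 36872) [nat_lit 54, nat_lit 135, nat_lit 189, nat_lit 108, nat_lit 54, nat_lit 108, nat_lit 108, nat_lit 189]) (.leaf (nat_lit 17418) [nat_lit 216, nat_lit 162, nat_lit 54, nat_lit 108, nat_lit 162, nat_lit 54, nat_lit 216])) (.node (nat_lit 138) (.leaf (nat_lit 102400) [nat_lit 189, nat_lit 108, nat_lit 243, nat_lit 135, nat_lit 243, nat_lit 162, nat_lit 135, nat_lit 243]) (.leaf (nat_lit 31756) [nat_lit 54, nat_lit 162, nat_lit 54, nat_lit 54, nat_lit 162, nat_lit 162, nat_lit 135, nat_lit 162])))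
noncomputable def r107 : WT := (.node (nat_lit 107) (.node (nat_lit 95) (.node (nat_lit 91) (.node (nat_lit 89) r91 r92) (.node (nat_lit 93) r93 r94)) (.node (nat_lit 100) (.node (nat_lit 97) r95 r96) (.node (nat_lit 103) r97 r98))) (.node (nat_lit 123) (.node (nat_lit 115) (.node (nat_lit 111) r99 r100) (.node (nat_lit 119) r101 r102)) (.node (nat_lit 131) (.node (nat_lit 127) r103 r104) (.node (nat_lit 135) r105 r106))))
noncomputable def r108 : WT := (.node (nat_lit 38) (.node (nat_lit 30) (.node (nat_lit 27) (.node (nat_lit 26) (.leaf (nat_lit 18434) [nat_lit 216, nat_lit 135, nat_lit 54, nat_lit 216, nat_lit 54, nat_lit 216, nat_lit 54]) (.leaf (nat_lit 73730) [nat_lit 243, nat_lit 135, nat_lit 81, nat_lit 108, nat_lit 243, nat_lit 135, nat_lit 54])) (.node (nat_lit 28) (.leaf (nat_lit 47115) [nat_lit 162, nat_lit 108, nat_lit 81, nat_lit 162, nat_lit 108, nat_lit 189, nat_lit 54, nat_lit 162]) r76)) (.node (nat_lit 34) (.node (nat_lit 32) r77 r78) (.node (nat_lit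 36) r79 r80))) (.node (nat_lit 54) (.node (nat_lit 44) (.node (nat_lit 41) r81 r82) (.node (nat_lit 49) r83 r84)) (.node (nat_lit 70) (.node (nat_lit 61) r85 r87) (.node (nat_lit 87) r90 r107))))
noncomputable def w2 : WT := (.node (nat_lit 1) (.leaf (nat_lit 1024) [nat_lit 135]) (.node (nat_lit 6) (.node (nat_lit 3) (.node (nat_lit 2) (.leaf (nat_lit 6144) [nat_lit 108, nat_lit 108]) (.leaf (nat_lit 7168) [nat_lit 216, nat_lit 135, nat_lit 216])) (.node (nat_lit 4) (.leaf (nat_lit 20485) [nat_lit 81, nat_lit 135, nat_lit 162, nat_lit 108, nat_lit 81, nat_lit 135, nat_lit 162]) r72)) (.node (nat_lit 14) (.node (nat_lit 9) r73 r74) (.node (nat_lit 25) r75 r108))))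
noncomputable def r109 : WT := (.node (nat_lit 6) (.node (nat_lit 5) (.leaf (nat_lit 20481) [nat_lit 162, nat_lit 108, nat_lit 81, nat_lit 135, nat_lit 162, nat_lit 108, nat_lit 81]) (.leaf (nat_lit 16391) [nat_lit 81, nat_lit 189, nat_lit 135, nat_lit 81, nat_lit 162, nat_lit 162, nat_lit 162])) (.node (nat_lit 7) (.leaf (nat_lit 66563) [nat_lit 243, nat_lit 135, nat_lit 243, nat_lit 135, nat_lit 243]) (.leaf (nat_lit 26627) [nat_lit 162, nat_lit 135, nat_lit 162, nat_lit 135, nat_lit 162, nat_lit 135, nat_lit 162])))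
noncomputable def r110 : WT := (.node (nat_lit 10) (.node (nat_lit 9) (.leaf (nat_lit 14344) [nat_lit 135, nat_lit 162, nat_lit 54, nat_lit 108, nat_lit 162, nat_lit 54]) (.leaf (nat_lit 23562) [nat_lit 162, nat_lit 108, nat_lit 54, nat_lit 162, nat_lit 81, nat_lit 162, nat_lit 162])) (.node (nat_lit 11) (.leaf (nat_lit 25608) [nat_lit 162, nat_lit 216, nat_lit 189, nat_lit 108, nat_lit 162, nat_lit 216, nat_lit 189]) (.leaf (nat_lit 23553) [nat_lit 189, nat_lit 108, nat_lit 189, nat_lit 189, nat_lit 54, nat_lit 189, nat_lit 81])))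
noncomputable def r111 : WT := (.node (nat_lit 16) (.node (nat_lit 14) (.node (nat_lit 13) (.leaf (nat_lit 20482) [nat_lit 189, nat_lit 108, nat_lit 54, nat_lit 135, nat_lit 189, nat_lit 108, nat_lit 54]) (.leaf (nat_lit 24586) [nat_lit 162, nat_lit 108, nat_lit 54, nat_lit 162, nat_lit 81, nat_lit 189, nat_lit 189])) (.node (nat_lit 15) (.leaf (nat_lit 35852) [nat_lit 81, nat_lit 108, nat_lit 54, nat_lit 108, nat_lit 81, nat_lit 162, nat_lit 108, nat_lit 162]) (.leaf (nat_lit 35841) [nat_lit 54, nat_lit 108, nat_lit 189, nat_lit 135, nat_lit 189, nat_lit 54, nat_lit 135, nat_lit 81]))) (.node (nat_lit 19) (.node (nat_lit 17) (.leaf (nat_lit 35855) [nat_lit 81, nat_lit 135, nat_lit 54, nat_lit 108, nat_lit 189, nat_lit 135, nat_lit 189, nat_lit 54]) (.node (nat_lit 18) (.leaf (nat_lit 28676) [nat_lit 162, nat_lit 108, nat_lit 81, nat_lit 135, nat_lit 162, nat_lit 108, nat_lit 54, nat_lit 54]) (.leaf (nat_lit 39951) [nat_lit 81, nat_lit 162, nat_lit 81, nat_lit 189,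 nat_lit 108, nat_lit 189, nat_lit 54, nat_lit 162]))) (.node (nat_lit 21) (.node (nat_lit 20) (.leaf (nat_lit 75780) [nat_lit 243, nat_lit 108, nat_lit 189, nat_lit 135, nat_lit 243, nat_lit 108, nat_lit 162]) (.leaf (nat_lit 71685) [nat_lit 81, nat_lit 243, nat_lit 189, nat_lit 135, nat_lit 81, nat_lit 243, nat_lit 189])) (.node (nat_lit 22) (.leaf (nat_lit 39946) [nat_lit 162, nat_lit 54, nat_lit 189, nat_lit 54, nat_lit 108, nat_lit 189, nat_lit 81, nat_lit 162]) (.leaf (nat_lit 75788) [nat_lit 243, nat_lit 108, nat_lit 162, nat_lit 135, nat_lit 243, nat_lit 108, nat_lit 189])))))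
noncomputable def r112 : WT := (.node (nat_lit 27) (.leaf (nat_lit 35849) [nat_lit 189, nat_lit 54, nat_lit 135, nat_lit 81, nat_lit 135, nat_lit 54, nat_lit 108, nat_lit 189]) (.leaf (nat_lit 40962) [nat_lit 54, nat_lit 162, nat_lit 108, nat_lit 189, nat_lit 135, nat_lit 162, nat_lit 162, nat_lit 54]))
noncomputable def r113 : WT := (.node (nat_lit 30) (.leaf (nat_lit 36877) [nat_lit 135, nat_lit 81, nat_lit 135, nat_lit 162, nat_lit 108, nat_lit 81, nat_lit 135, nat_lit 162]) (.leaf (nat_lit 21506) [nat_lit 216, nat_lit 108, nat_lit 54, nat_lit 216, nat_lit 54, nat_lit 216, nat_lit 54]))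
noncomputable def r114 : WT := (.node (nat_lit 33) (.leaf (nat_lit 47118) [nat_lit 189, nat_lit 54, nat_lit 135, nat_lit 189, nat_lit 135, nat_lit 189, nat_lit 81, nat_lit 162]) (.leaf (nat_lit 40969) [nat_lit 189, nat_lit 81, nat_lit 108, nat_lit 81, nat_lit 189, nat_lit 189, nat_lit 108, nat_lit 162]))
noncomputable def r115 : WT := (.node (nat_lit 35) (.leaf (nat_lit 40972) [nat_lit 162, nat_lit 162, nat_lit 54, nat_lit 135, nat_lit 54, nat_lit 162, nat_lit 108, nat_lit 189]) (.leaf (nat_lit 48144) [nat_lit 54, nat_lit 162, nat_lit 81, nat_lit 162, nat_lit 108, nat_lit 189, nat_lit 108, nat_lit 189]))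
noncomputable def r116 : WT := (.node (nat_lit 37) (.leaf (nat_lit 46094) [nat_lit 135, nat_lit 54, nat_lit 135, nat_lit 189, nat_lit 108, nat_lit 54, nat_lit 135, nat_lit 189]) (.node (nat_lit 38) (.leaf (nat_lit 47110) [nat_lit 189, nat_lit 81, nat_lit 162, nat_lit 135, nat_lit 189, nat_lit 54, nat_lit 135, nat_lit 189]) (.leaf (nat_lit 48133) [nat_lit 162, nat_lit 135, nat_lit 189, nat_lit 54, nat_lit 189, nat_lit 81, nat_lit 108, nat_lit 162])))
noncomputable def r117 : WT := (.node (nat_lit 40) (.leaf (nat_lit 90114) [nat_lit 54, nat_lit 243, nat_lit 81, nat_lit 108, nat_lit 243, nat_lit 81, nat_lit 243, nat_lit 54]) (.node (nat_lit 41) (.leaf (nat_lit 29700) [nat_lit 189, nat_lit 108, nat_lit 162, nat_lit 162, nat_lit 54, nat_lit 189, nat_lit 54, nat_lit 54]) (.leaf (nat_lit 24577) [nat_lit 189, nat_lit 108, nat_lit 162, nat_lit 162, nat_lit 54, nat_lit 189, nat_lit 81])))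
noncomputable def r118 : WT := (.node (nat_lit 44) (.node (nat_lit 43) (.leaf (nat_lit 73742) [nat_lit 54, nat_lit 108, nat_lit 243, nat_lit 135, nat_lit 81, nat_lit 108, nat_lit 243]) (.leaf (nat_lit 86017) [nat_lit 135, nat_lit 243, nat_lit 135, nat_lit 54, nat_lit 108, nat_lit 243, nat_lit 135, nat_lit 81])) (.node (nat_lit 45) (.leaf (nat_lit 102414) [nat_lit 243, nat_lit 108, nat_lit 189, nat_lit 108, nat_lit 243, nat_lit 135, nat_lit 243, nat_lit 162]) (.node (nat_lit 46) (.leaf (nat_lit 48137) [nat_lit 189, nat_lit 54, nat_lit 189, nat_lit 81, nat_lit 108, nat_lit 162, nat_lit 135, nat_lit 162]) (.leaf (nat_lit 44034) [nat_lit 162, nat_lit 108, nat_lit 81, nat_lit 162, nat_lit 162, nat_lit 54, nat_lit 189, nat_lit 54]))))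
noncomputable def r119 : WT := (.node (nat_lit 50) (.node (nat_lit 48) (.leaf (nat_lit 41986) [nat_lit 54, nat_lit 162, nat_lit 108, nat_lit 189, nat_lit 135, nat_lit 189, nat_lit 189, nat_lit 54]) (.node (nat_lit 49) (.leaf (nat_lit 41996) [nat_lit 189, nat_lit 189, nat_lit 54, nat_lit 135, nat_lit 54, nat_lit 162, nat_lit 108, nat_lit 189]) (.leaf (nat_lit 87050) [nat_lit 243, nat_lit 108, nat_lit 243, nat_lit 54, nat_lit 108, nat_lit 243, nat_lit 135, nat_lit 81]))) (.node (nat_lit 52) (.node (nat_lit 51) (.leaf (nat_lit 18438) [nat_lit 54, nat_lit 216, nat_lit 54, nat_lit 216, nat_lit 54, nat_lit 108, nat_lit 216]) (.leaf (nat_lit 44043) [nat_lit 189, nat_lit 108, nat_lit 81, nat_lit 162, nat_lit 81, nat_lit 189, nat_lit 189, nat_lit 54])) (.node (nat_lit 53) (.leaf (nat_lit 60420) [nat_lit 54, nat_lit 108, nat_lit 189, nat_lit 135, nat_lit 189, nat_lit 54, nat_lit 135, nat_lit 54, nat_lit 54]) (.leaf (nat_lit 47106) [nat_lit 189, nat_lit 135, nat_lit 189, nat_lit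 81, nat_lit 162, nat_lit 135, nat_lit 189, nat_lit 54]))))
noncomputable def r120 : WT := (.node (nat_lit 58) (.node (nat_lit 56) (.node (nat_lit 55) (.leaf (nat_lit 90119) [nat_lit 54, nat_lit 243, nat_lit 81, nat_lit 108, nat_lit 81, nat_lit 243, nat_lit 54, nat_lit 243]) (.leaf (nat_lit 82954) [nat_lit 135, nat_lit 162, nat_lit 243, nat_lit 54, nat_lit 108, nat_lit 162, nat_lit 243, nat_lit 54])) (.node (nat_lit 57) (.leaf (nat_lit 14346) [nat_lit 162, nat_lit 54, nat_lit 108, nat_lit 162, nat_lit 54, nat_lit 135]) (.leaf (nat_lit 50181) [nat_lit 135, nat_lit 162, nat_lit 162, nat_lit 54, nat_lit 189, nat_lit 81, nat_lit 135, nat_lit 189]))) (.node (nat_lit 60) (.node (nat_lit 59) (.leaf (nat_lit 87043) [nat_lit 243, nat_lit 108, nat_lit 54, nat_lit 108, nat_lit 243, nat_lit 135, nat_lit 81, nat_lit 243]) (.leaf (nat_lit 103432) [nat_lit 162, nat_lit 243, nat_lit 189, nat_lit 243, nat_lit 108, nat_lit 189, nat_lit 243, nat_lit 162])) (.node (nat_lit 61) (.leaf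 (nat_lit 88069) [nat_lit 243, nat_lit 81, nat_lit 189, nat_lit 243, nat_lit 135, nat_lit 81, nat_lit 243, nat_lit 189]) (.node (nat_lit 62) (.leaf (nat_lit 91138) [nat_lit 243, nat_lit 108, nat_lit 243, nat_lit 81, nat_lit 108, nat_lit 243, nat_lit 135, nat_lit 54]) (.leaf (nat_lit 54287) [nat_lit 135, nat_lit 189, nat_lit 108, nat_lit 189, nat_lit 108, nat_lit 189, nat_lit 108, nat_lit 189])))))
noncomputable def r121 : WT := (.node (nat_lit 76) (.leaf (nat_lit 115714) [nat_lit 162, nat_lit 243, nat_lit 135, nat_lit 162, nat_lit 243, nat_lit 135, nat_lit 162, nat_lit 243, nat_lit 135, nat_lit 162, nat_lit 243]) (.leaf (nat_lit 45058) [nat_lit 162, nat_lit 108, nat_lit 81, nat_lit 189, nat_lit 189, nat_lit 54, nat_lit 189, nat_lit 54]))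
noncomputable def r122 : WT := (.node (nat_lit 68) (.node (nat_lit 65) (.node (nat_lit 64) (.leaf (nat_lit 49166) [nat_lit 135, nat_lit 54, nat_lit 162, nat_lit 81, nat_lit 162, nat_lit 162, nat_lit 135, nat_lit 162]) (.leaf (nat_lit 64513) [nat_lit 189, nat_lit 135, nat_lit 189, nat_lit 81, nat_lit 162, nat_lit 135, nat_lit 189, nat_lit 81, nat_lit 81])) (.node (nat_lit 66) (.leaf (nat_lit 103441) [nat_lit 243, nat_lit 162, nat_lit 243, nat_lit 189, nat_lit 108, nat_lit 189, nat_lit 243, nat_lit 162]) (.node (nat_lit 67) (.leaf (nat_lit 12300) [nat_lit 54, nat_lit 54, nat_lit 189, nat_lit 135, nat_lit 81, nat_lit 189]) (.leaf (nat_lit 72714) [nat_lit 81, nat_lit 243, nat_lit 54, nat_lit 108, nat_lit 162, nat_lit 243, nat_lit 189])))) (.node (nat_lit 72) (.node (nat_lit 70) (.node (nat_lit 69) (.leaf (nat_lit 55311) [nat_lit 135, nat_lit 162, nat_lit 216, nat_lit 189, nat_lit 135, nat_lit 162, nat_lit 216, nat_lit 189]) (.leaf (nat_lit 36879) [nat_lit 81, nat_lit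 135, nat_lit 162, nat_lit 108, nat_lit 81, nat_lit 135, nat_lit 162, nat_lit 135])) (.node (nat_lit 71) (.leaf (nat_lit 85001) [nat_lit 135, nat_lit 243, nat_lit 135, nat_lit 81, nat_lit 108, nat_lit 243, nat_lit 135, nat_lit 54]) (.leaf (nat_lit 56335) [nat_lit 81, nat_lit 81, nat_lit 108, nat_lit 189, nat_lit 135, nat_lit 189, nat_lit 54, nat_lit 135, nat_lit 81]))) (.node (nat_lit 74) (.node (nat_lit 73) (.leaf (nat_lit 88079) [nat_lit 81, nat_lit 243, nat_lit 189, nat_lit 135, nat_lit 243, nat_lit 81, nat_lit 189, nat_lit 243]) (.leaf (nat_lit 101390) [nat_lit 243, nat_lit 108, nat_lit 162, nat_lit 108, nat_lit 243, nat_lit 135, nat_lit 243, nat_lit 189])) (.node (nat_lit 75) (.leaf (nat_lit 89103) [nat_lit 81, nat_lit 189, nat_lit 135, nat_lit 243, nat_lit 81, nat_lit 243, nat_lit 189, nat_lit 243]) r121))))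
noncomputable def r123 : WT := (.node (nat_lit 79) (.leaf (nat_lit 41993) [nat_lit 189, nat_lit 81, nat_lit 108, nat_lit 81, nat_lit 162, nat_lit 162, nat_lit 108, nat_lit 162]) (.leaf (nat_lit 9223) [nat_lit 135, nat_lit 216, nat_lit 135, nat_lit 216]))
noncomputable def r124 : WT := (.node (nat_lit 82) (.leaf (nat_lit 55303) [nat_lit 162, nat_lit 216, nat_lit 189, nat_lit 135, nat_lit 135, nat_lit 162, nat_lit 216, nat_lit 189]) (.leaf (nat_lit 57359) [nat_lit 81, nat_lit 81, nat_lit 162, nat_lit 108, nat_lit 189, nat_lit 135, nat_lit 189, nat_lit 189, nat_lit 54]))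
noncomputable def r125 : WT := (.node (nat_lit 84) (.leaf (nat_lit 45067) [nat_lit 189, nat_lit 108, nat_lit 81, nat_lit 162, nat_lit 81, nat_lit 162, nat_lit 162, nat_lit 54]) (.leaf (nat_lit 28684) [nat_lit 162, nat_lit 108, nat_lit 54, nat_lit 54, nat_lit 135, nat_lit 162, nat_lit 108, nat_lit 81]))
noncomputable def r126 : WT := (.node (nat_lit 86) (.leaf (nat_lit 30724) [nat_lit 189, nat_lit 108, nat_lit 189, nat_lit 189, nat_lit 54, nat_lit 189, nat_lit 54, nat_lit 54]) (.leaf (nat_lit 51214) [nat_lit 135, nat_lit 54, nat_lit 162, nat_lit 81, nat_lit 189, nat_lit 189, nat_lit 135, nat_lit 162]))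
noncomputable def r127 : WT := (.node (nat_lit 88) (.leaf (nat_lit 65550) [nat_lit 54, nat_lit 162, nat_lit 54, nat_lit 54, nat_lit 162, nat_lit 108, nat_lit 189, nat_lit 108, nat_lit 189]) (.leaf (nat_lit 68621) [nat_lit 243, nat_lit 108, nat_lit 243, nat_lit 108, nat_lit 243, nat_lit 135]))
noncomputable def r128 : WT := (.node (nat_lit 90) (.leaf (nat_lit 101384) [nat_lit 243, nat_lit 189, nat_lit 135, nat_lit 243, nat_lit 108, nat_lit 162, nat_lit 108, nat_lit 243]) (.node (nat_lit 91) (.leaf (nat_lit 99345) [nat_lit 162, nat_lit 135, nat_lit 243, nat_lit 108, nat_lit 189, nat_lit 135, nat_lit 243, nat_lit 135]) (.leaf (nat_lit 91152) [nat_lit 54, nat_lit 135, nat_lit 243, nat_lit 108, nat_lit 243, nat_lit 81, nat_lit 108, nat_lit 243])))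
noncomputable def r129 : WT := (.node (nat_lit 93) (.leaf (nat_lit 37900) [nat_lit 216, nat_lit 162, nat_lit 54, nat_lit 108, nat_lit 162, nat_lit 54, nat_lit 135, nat_lit 216]) (.leaf (nat_lit 89091) [nat_lit 243, nat_lit 81, nat_lit 243, nat_lit 189, nat_lit 243, nat_lit 135, nat_lit 81, nat_lit 189]))
noncomputable def r130 : WT := (.node (nat_lit 95) (.leaf (nat_lit 46082) [nat_lit 189, nat_lit 108, nat_lit 54, nat_lit 135, nat_lit 189, nat_lit 135, nat_lit 135, nat_lit 54]) (.node (nat_lit 96) (.leaf (nat_lit 87046) [nat_lit 81, nat_lit 135, nat_lit 243, nat_lit 108, nat_lit 243, nat_lit 54, nat_lit 108, nat_lit 243]) (.leaf (nat_lit 49168) [nat_lit 54, nat_lit 162, nat_lit 81, nat_lit 162, nat_lit 162, nat_lit 135, nat_lit 162, nat_lit 135])))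
noncomputable def r131 : WT := (.leaf (nat_lit 133123) [nat_lit 243, nat_lit 189, nat_lit 135, nat_lit 243, nat_lit 189, nat_lit 135, nat_lit 243, nat_lit 189, nat_lit 135, nat_lit 243, nat_lit 189, nat_lit 135, nat_lit 243, nat_lit 189, nat_lit 135, nat_lit 243, nat_lit 189])
noncomputable def r132 : WT := (.node (nat_lit 99) (.node (nat_lit 98) (.leaf (nat_lit 50183) [nat_lit 162, nat_lit 162, nat_lit 54, nat_lit 189, nat_lit 81, nat_lit 135, nat_lit 189, nat_lit 135]) (.leaf (nat_lit 113667) [nat_lit 243, nat_lit 162, nat_lit 135, nat_lit 243, nat_lit 162, nat_lit 135, nat_lit 243, nat_lit 162, nat_lit 135, nat_lit 243, nat_lit 162])) (.node (nat_lit 100) r131 (.node (nat_lit 101) (.leaf (nat_lit 54289) [nat_lit 189, nat_lit 108, nat_lit 189, nat_lit 108, nat_lit 189, nat_lit 108, nat_lit 189, nat_lit 135]) (.leaf (nat_lit 63493) [nat_lit 54, nat_lit 108, nat_lit 189, nat_lit 135, nat_lit 189, nat_lit 81, nat_lit 81, nat_lit 135, nat_lit 81]))))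
noncomputable def r133 : WT := (.node (nat_lit 104) (.node (nat_lit 103) (.leaf (nat_lit 37903) [nat_lit 81, nat_lit 189, nat_lit 216, nat_lit 108, nat_lit 216, nat_lit 108, nat_lit 81, nat_lit 189]) (.leaf (nat_lit 14347) [nat_lit 81, nat_lit 189, nat_lit 108, nat_lit 108, nat_lit 81, nat_lit 189])) (.node (nat_lit 105) (.leaf (nat_lit 62482) [nat_lit 54, nat_lit 54, nat_lit 162, nat_lit 81, nat_lit 189, nat_lit 108, nat_lit 189, nat_lit 54, nat_lit 162]) (.node (nat_lit 106) (.leaf (nat_lit 61441) [nat_lit 189, nat_lit 108, nat_lit 81, nat_lit 81, nat_lit 135, nat_lit 189, nat_lit 108, nat_lit 81, nat_lit 81]) (.leaf (nat_lit 46096) [nat_lit 54, nat_lit 135, nat_lit 189, nat_lit 108, nat_lit 54, nat_lit 135, nat_lit 189, nat_lit 135]))))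
noncomputable def r134 : WT := (.leaf (nat_lit 134146) [nat_lit 189, nat_lit 243, nat_lit 135, nat_lit 189, nat_lit 243, nat_lit 135, nat_lit 189, nat_lit 243, nat_lit 135, nat_lit 189, nat_lit 243, nat_lit 135, nat_lit 189, nat_lit 243, nat_lit 135, nat_lit 189, nat_lit 243])
noncomputable def r135 : WT := (.node (nat_lit 109) (.node (nat_lit 108) (.leaf (nat_lit 59404) [nat_lit 189, nat_lit 54, nat_lit 189, nat_lit 54, nat_lit 54, nat_lit 108, nat_lit 162, nat_lit 135, nat_lit 162]) r134) (.node (nat_lit 110) (.leaf (nat_lit 57351) [nat_lit 189, nat_lit 189, nat_lit 54, nat_lit 135, nat_lit 81, nat_lit 81, nat_lit 162, nat_lit 108, nat_lit 189]) (.node (nat_lit 111) (.leaf (nat_lit 57360) [nat_lit 189, nat_lit 54, nat_lit 54, nat_lit 108, nat_lit 81, nat_lit 162, nat_lit 162, nat_lit 108, nat_lit 162]) (.leaf (nat_lit 16397) [nat_lit 81, nat_lit 162, nat_lit 162, nat_lit 162, nat_lit 135, nat_lit 81, nat_lit 189]))))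
noncomputable def r136 : WT := (.node (nat_lit 114) (.node (nat_lit 113) (.leaf (nat_lit 56331) [nat_lit 81, nat_lit 135, nat_lit 81, nat_lit 81, nat_lit 108, nat_lit 189, nat_lit 135, nat_lit 189, nat_lit 54]) (.leaf (nat_lit 56338) [nat_lit 54, nat_lit 54, nat_lit 108, nat_lit 54, nat_lit 108, nat_lit 81, nat_lit 162, nat_lit 108, nat_lit 162])) (.node (nat_lit 115) (.leaf (nat_lit 85007) [nat_lit 81, nat_lit 108, nat_lit 243, nat_lit 135, nat_lit 54, nat_lit 135, nat_lit 135, nat_lit 243]) (.node (nat_lit 116) (.leaf (nat_lit 18445) [nat_lit 81, nat_lit 216, nat_lit 81, nat_lit 216, nat_lit 81, nat_lit 108, nat_lit 216]) (.leaf (nat_lit 102417) [nat_lit 243, nat_lit 108, nat_lit 189, nat_lit 243, nat_lit 108, nat_lit 243, nat_lit 135, nat_lit 162]))))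
noncomputable def r137 : WT := (.node (nat_lit 119) (.node (nat_lit 118) (.leaf (nat_lit 19460) [nat_lit 162, nat_lit 54, nat_lit 135, nat_lit 135, nat_lit 162, nat_lit 54, nat_lit 135]) (.leaf (nat_lit 102408) [nat_lit 243, nat_lit 162, nat_lit 135, nat_lit 243, nat_lit 108, nat_lit 189, nat_lit 108, nat_lit 243])) (.node (nat_lit 120) (.leaf (nat_lit 43012) [nat_lit 162, nat_lit 54, nat_lit 216, nat_lit 108, nat_lit 216, nat_lit 162, nat_lit 54, nat_lit 135]) (.node (nat_lit 121) (.leaf (nat_lit 100367) [nat_lit 135, nat_lit 189, nat_lit 135, nat_lit 243, nat_lit 108, nat_lit 162, nat_lit 135, nat_lit 243]) (.leaf (nat_lit 100362) [nat_lit 243, nat_lit 108, nat_lit 162, nat_lit 108, nat_lit 108, nat_lit 243, nat_lit 108, nat_lit 189]))))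
noncomputable def r138 : WT := (.node (nat_lit 124) (.node (nat_lit 123) (.leaf (nat_lit 43010) [nat_lit 135, nat_lit 162, nat_lit 54, nat_lit 216, nat_lit 108, nat_lit 216, nat_lit 162, nat_lit 54]) (.leaf (nat_lit 99343) [nat_lit 135, nat_lit 162, nat_lit 135, nat_lit 243, nat_lit 108, nat_lit 189, nat_lit 135, nat_lit 243])) (.node (nat_lit 125) (.leaf (nat_lit 38927) [nat_lit 81, nat_lit 189, nat_lit 216, nat_lit 108, nat_lit 108, nat_lit 216, nat_lit 81, nat_lit 189]) (.node (nat_lit 126) (.leaf (nat_lit 38922) [nat_lit 135, nat_lit 216, nat_lit 162, nat_lit 54, nat_lit 108, nat_lit 162, nat_lit 54, nat_lit 216]) (.leaf (nat_lit 36865) [nat_lit 162, nat_lit 108, nat_lit 81, nat_lit 135, nat_lit 162, nat_lit 135, nat_lit 135, nat_lit 81]))))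
noncomputable def r139 : WT := (.node (nat_lit 92) (.node (nat_lit 83) (.node (nat_lit 80) (.node (nat_lit 78) (.leaf (nat_lit 17413) [nat_lit 216, nat_lit 81, nat_lit 189, nat_lit 135, nat_lit 81, nat_lit 189, nat_lit 216]) r123) (.node (nat_lit 81) (.leaf (nat_lit 12294) [nat_lit 81, nat_lit 189, nat_lit 135, nat_lit 54, nat_lit 54, nat_lit 189]) r124)) (.node (nat_lit 87) (.node (nat_lit 85) r125 r126) (.node (nat_lit 89) r127 r128))) (.node (nat_lit 107) (.node (nat_lit 97) (.node (nat_lit 94) r129 r130) (.node (nat_lit 102) r132 r133)) (.node (nat_lit 117) (.node (nat_lit 112) r135 r136) (.node (nat_lit 122) r137 r138))))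
noncomputable def r140 : WT := (.node (nat_lit 34) (.node (nat_lit 28) (.node (nat_lit 25) (.node (nat_lit 24) (.leaf (nat_lit 21513) [nat_lit 216, nat_lit 108, nat_lit 81, nat_lit 216, nat_lit 81, nat_lit 216, nat_lit 81]) (.leaf (nat_lit 68619) [nat_lit 135, nat_lit 243, nat_lit 108, nat_lit 243, nat_lit 108, nat_lit 243])) (.node (nat_lit 26) (.leaf (nat_lit 28673) [nat_lit 189, nat_lit 108, nat_lit 54, nat_lit 135, nat_lit 189, nat_lit 108, nat_lit 81, nat_lit 81]) r112)) (.node (nat_lit 31) (.node (nat_lit 29) (.leaf (nat_lit 73734) [nat_lit 81, nat_lit 108, nat_lit 243, nat_lit 135, nat_lit 54, nat_lit 108, nat_lit 243]) r113) (.node (nat_lit 32) (.leaf (nat_lit 63489) [nat_lit 81, nat_lit 135, nat_lit 54, nat_lit 108, nat_lit 189, nat_lit 135, nat_lit 189, nat_lit 81, nat_lit 81]) r114))) (.node (nat_lit 47) (.node (nat_lit 39) (.node (nat_lit 36) r115 r116) (.node (nat_lit 42) r117 r118)) (.node (nat_lit 63) (.node (nat_lit 54) r119 r120) (.node (nat_lit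 77) r122 r139))))
noncomputable def w3 : WT := (.node (nat_lit 1) (.leaf (nat_lit 1026) [nat_lit 108]) (.node (nat_lit 4) (.node (nat_lit 2) (.leaf (nat_lit 6145) [nat_lit 135, nat_lit 135]) (.node (nat_lit 3) (.leaf (nat_lit 7172) [nat_lit 216, nat_lit 108, nat_lit 216]) (.leaf (nat_lit 10243) [nat_lit 81, nat_lit 189, nat_lit 135, nat_lit 81, nat_lit 189]))) (.node (nat_lit 12) (.node (nat_lit 8) r109 r110) (.node (nat_lit 23) r111 r140))))
noncomputable def r141 : WT := (.node (nat_lit 4) (.leaf (nat_lit 22530) [nat_lit 54, nat_lit 162, nat_lit 54, nat_lit 162, nat_lit 54, nat_lit 162, nat_lit 54]) (.leaf (nat_lit 14348) [nat_lit 54, nat_lit 108, nat_lit 162, nat_lit 54, nat_lit 135, nat_lit 135]))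
noncomputable def r142 : WT := (.node (nat_lit 6) (.leaf (nat_lit 23554) [nat_lit 81, nat_lit 162, nat_lit 162, nat_lit 135, nat_lit 162, nat_lit 108, nat_lit 54]) (.leaf (nat_lit 20483) [nat_lit 108, nat_lit 81, nat_lit 135, nat_lit 162, nat_lit 108, nat_lit 81, nat_lit 135]))
noncomputable def r143 : WT := (.node (nat_lit 8) (.leaf (nat_lit 25610) [nat_lit 216, nat_lit 189, nat_lit 108, nat_lit 162, nat_lit 216, nat_lit 189, nat_lit 135]) (.node (nat_lit 9) (.leaf (nat_lit 23558) [nat_lit 162, nat_lit 135, nat_lit 162, nat_lit 108, nat_lit 54, nat_lit 162, nat_lit 81]) (.leaf (nat_lit 67594) [nat_lit 243, nat_lit 54, nat_lit 243, nat_lit 81, nat_lit 189, nat_lit 243])))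
noncomputable def r144 : WT := (.node (nat_lit 13) (.node (nat_lit 11) (.leaf (nat_lit 16385) [nat_lit 162, nat_lit 162, nat_lit 135, nat_lit 81, nat_lit 189, nat_lit 135, nat_lit 81]) (.node (nat_lit 12) (.leaf (nat_lit 23564) [nat_lit 108, nat_lit 54, nat_lit 162, nat_lit 81, nat_lit 162, nat_lit 162, nat_lit 135]) (.leaf (nat_lit 25602) [nat_lit 216, nat_lit 189, nat_lit 135, nat_lit 162, nat_lit 216, nat_lit 189, nat_lit 108]))) (.node (nat_lit 15) (.node (nat_lit 14) (.leaf (nat_lit 24583) [nat_lit 162, nat_lit 54, nat_lit 189, nat_lit 81, nat_lit 135, nat_lit 189, nat_lit 108]) (.leaf (nat_lit 29697) [nat_lit 81, nat_lit 189, nat_lit 189, nat_lit 135, nat_lit 162, nat_lit 108, nat_lit 81, nat_lit 81])) (.node (nat_lit 16) (.leaf (nat_lit 26625) [nat_lit 135, nat_lit 162, nat_lit 135, nat_lit 162, nat_lit 135, nat_lit 162, nat_lit 135]) (.node (nat_lit 17) (.leaf (nat_lit 35846) [nat_lit 108, nat_lit 162, nat_lit 135, nat_lit 81, nat_lit 108, nat_lit 54, nat_lit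 108, nat_lit 81]) (.leaf (nat_lit 27648) [nat_lit 216, nat_lit 189, nat_lit 216, nat_lit 162, nat_lit 216, nat_lit 189, nat_lit 216])))))
noncomputable def r145 : WT := (.node (nat_lit 32) (.leaf (nat_lit 47116) [nat_lit 135, nat_lit 189, nat_lit 54, nat_lit 135, nat_lit 189, nat_lit 135, nat_lit 189, nat_lit 81]) (.leaf (nat_lit 75778) [nat_lit 135, nat_lit 243, nat_lit 108, nat_lit 189, nat_lit 135, nat_lit 243, nat_lit 108]))
noncomputable def r146 : WT := (.node (nat_lit 24) (.node (nat_lit 21) (.node (nat_lit 19) (.leaf (nat_lit 39949) [nat_lit 135, nat_lit 81, nat_lit 162, nat_lit 81, nat_lit 189, nat_lit 108, nat_lit 189, nat_lit 54]) (.node (nat_lit 20) (.leaf (nat_lit 39944) [nat_lit 135, nat_lit 162, nat_lit 54, nat_lit 189, nat_lit 54, nat_lit 108, nat_lit 189, nat_lit 81]) (.leaf (nat_lit 40966) [nat_lit 108, nat_lit 189, nat_lit 135, nat_lit 162, nat_lit 162, nat_lit 54, nat_lit 135, nat_lit 54]))) (.node (nat_lit 22) (.leaf (nat_lit 31748) [nat_lit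 162, nat_lit 135, nat_lit 162, nat_lit 108, nat_lit 54, nat_lit 162, nat_lit 54, nat_lit 54]) (.node (nat_lit 23) (.leaf (nat_lit 52236) [nat_lit 216, nat_lit 162, nat_lit 54, nat_lit 216, nat_lit 81, nat_lit 162, nat_lit 162, nat_lit 216]) (.leaf (nat_lit 23560) [nat_lit 135, nat_lit 162, nat_lit 108, nat_lit 54, nat_lit 162, nat_lit 81, nat_lit 162])))) (.node (nat_lit 28) (.node (nat_lit 26) (.node (nat_lit 25) (.leaf (nat_lit 52240) [nat_lit 54, nat_lit 216, nat_lit 81, nat_lit 162, nat_lit 162, nat_lit 216, nat_lit 162, nat_lit 216]) (.leaf (nat_lit 35850) [nat_lit 135, nat_lit 81, nat_lit 108, nat_lit 54, nat_lit 108, nat_lit 81, nat_lit 162, nat_lit 108])) (.node (nat_lit 27) (.leaf (nat_lit 24578) [nat_lit 81, nat_lit 189, nat_lit 189, nat_lit 135, nat_lit 162, nat_lit 108, nat_lit 54]) (.leaf (nat_lit 67591) [nat_lit 54, nat_lit 243, nat_lit 81, nat_lit 243, nat_lit 189, nat_lit 243]))) (.node (nat_lit 30) (.node (nat_lit 29) (.leaf (nat_lit 48130) [nat_lit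 81, nat_lit 162, nat_lit 108, nat_lit 189, nat_lit 108, nat_lit 189, nat_lit 135, nat_lit 54]) (.leaf (nat_lit 48131) [nat_lit 135, nat_lit 162, nat_lit 135, nat_lit 189, nat_lit 54, nat_lit 189, nat_lit 81, nat_lit 108])) (.node (nat_lit 31) (.leaf (nat_lit 39948) [nat_lit 54, nat_lit 189, nat_lit 54, nat_lit 108, nat_lit 189, nat_lit 81, nat_lit 162, nat_lit 135]) r145))))
noncomputable def r147 : WT := (.node (nat_lit 35) (.leaf (nat_lit 24585) [nat_lit 54, nat_lit 189, nat_lit 81, nat_lit 135, nat_lit 189, nat_lit 108, nat_lit 162]) (.leaf (nat_lit 39937) [nat_lit 81, nat_lit 189, nat_lit 108, nat_lit 189, nat_lit 54, nat_lit 162, nat_lit 135, nat_lit 81]))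
noncomputable def r148 : WT := (.node (nat_lit 38) (.leaf (nat_lit 47113) [nat_lit 108, nat_lit 162, nat_lit 108, nat_lit 81, nat_lit 162, nat_lit 108, nat_lit 189, nat_lit 54]) (.leaf (nat_lit 40976) [nat_lit 54, nat_lit 135, nat_lit 54, nat_lit 162, nat_lit 108, nat_lit 189, nat_lit 135, nat_lit 162]))
noncomputable def r149 : WT := (.node (nat_lit 40) (.leaf (nat_lit 71684) [nat_lit 243, nat_lit 54, nat_lit 108, nat_lit 162, nat_lit 243, nat_lit 54, nat_lit 108]) (.leaf (nat_lit 93191) [nat_lit 162, nat_lit 243, nat_lit 189, nat_lit 189, nat_lit 81, nat_lit 243, nat_lit 54, nat_lit 243]))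
noncomputable def r150 : WT := (.node (nat_lit 42) (.leaf (nat_lit 40974) [nat_lit 162, nat_lit 54, nat_lit 135, nat_lit 54, nat_lit 162, nat_lit 108, nat_lit 189, nat_lit 135]) (.leaf (nat_lit 92168) [nat_lit 162, nat_lit 243, nat_lit 81, nat_lit 243, nat_lit 54, nat_lit 162, nat_lit 162, nat_lit 243]))
noncomputable def r151 : WT := (.node (nat_lit 44) (.leaf (nat_lit 17422) [nat_lit 54, nat_lit 108, nat_lit 162, nat_lit 54, nat_lit 216, nat_lit 108, nat_lit 216]) (.node (nat_lit 45) (.leaf (nat_lit 40967) [nat_lit 135, nat_lit 189, nat_lit 81, nat_lit 108, nat_lit 81, nat_lit 189, nat_lit 189, nat_lit 108]) (.leaf (nat_lit 52230) [nat_lit 162, nat_lit 216, nat_lit 162, nat_lit 216, nat_lit 162, nat_lit 54, nat_lit 216, nat_lit 81])))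
noncomputable def r152 : WT := (.node (nat_lit 47) (.leaf (nat_lit 41985) [nat_lit 162, nat_lit 108, nat_lit 162, nat_lit 135, nat_lit 189, nat_lit 81, nat_lit 108, nat_lit 81]) (.node (nat_lit 48) (.leaf (nat_lit 47117) [nat_lit 108, nat_lit 81, nat_lit 162, nat_lit 108, nat_lit 189, nat_lit 54, nat_lit 162, nat_lit 108]) (.leaf (nat_lit 44033) [nat_lit 81, nat_lit 189, nat_lit 189, nat_lit 54, nat_lit 135, nat_lit 189, nat_lit 108, nat_lit 81])))
noncomputable def r153 : WT := (.node (nat_lit 51) (.node (nat_lit 50) (.leaf (nat_lit 24588) [nat_lit 108, nat_lit 54, nat_lit 162, nat_lit 81, nat_lit 189, nat_lit 189, nat_lit 135]) (.leaf (nat_lit 41987) [nat_lit 108, nat_lit 162, nat_lit 135, nat_lit 189, nat_lit 81, nat_lit 108, nat_lit 81, nat_lit 162])) (.node (nat_lit 52) (.leaf (nat_lit 92164) [nat_lit 243, nat_lit 162, nat_lit 162, nat_lit 243, nat_lit 81, nat_lit 243, nat_lit 54, nat_lit 162]) (.leaf (nat_lit 44036) [nat_lit 108, nat_lit 81, nat_lit 162, nat_lit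 162, nat_lit 54, nat_lit 189, nat_lit 54, nat_lit 135])))
noncomputable def r154 : WT := (.node (nat_lit 55) (.node (nat_lit 54) (.leaf (nat_lit 53257) [nat_lit 162, nat_lit 54, nat_lit 216, nat_lit 81, nat_lit 189, nat_lit 216, nat_lit 189, nat_lit 216]) (.leaf (nat_lit 46085) [nat_lit 108, nat_lit 81, nat_lit 135, nat_lit 162, nat_lit 108, nat_lit 81, nat_lit 108, nat_lit 108])) (.node (nat_lit 56) (.leaf (nat_lit 92162) [nat_lit 162, nat_lit 243, nat_lit 162, nat_lit 162, nat_lit 243, nat_lit 81, nat_lit 243, nat_lit 54]) (.leaf (nat_lit 48135) [nat_lit 135, nat_lit 189, nat_lit 54, nat_lit 189, nat_lit 81, nat_lit 108, nat_lit 162, nat_lit 135])))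
noncomputable def r155 : WT := (.node (nat_lit 59) (.node (nat_lit 58) (.leaf (nat_lit 45061) [nat_lit 162, nat_lit 54, nat_lit 135, nat_lit 189, nat_lit 108, nat_lit 81, nat_lit 162, nat_lit 81]) (.leaf (nat_lit 89094) [nat_lit 243, nat_lit 54, nat_lit 243, nat_lit 108, nat_lit 162, nat_lit 54, nat_lit 108, nat_lit 243])) (.node (nat_lit 60) (.leaf (nat_lit 47105) [nat_lit 108, nat_lit 189, nat_lit 54, nat_lit 162, nat_lit 108, nat_lit 162, nat_lit 108, nat_lit 81]) (.node (nat_lit 61) (.leaf (nat_lit 88070) [nat_lit 54, nat_lit 243, nat_lit 108, nat_lit 162, nat_lit 243, nat_lit 54, nat_lit 108, nat_lit 243]) (.leaf (nat_lit 62468) [nat_lit 81, nat_lit 189, nat_lit 108, nat_lit 189, nat_lit 54, nat_lit 162, nat_lit 135, nat_lit 54, nat_lit 54]))))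
noncomputable def r156 : WT := (.node (nat_lit 64) (.node (nat_lit 63) (.leaf (nat_lit 52232) [nat_lit 216, nat_lit 162, nat_lit 216, nat_lit 162, nat_lit 54, nat_lit 216, nat_lit 81, nat_lit 162]) (.leaf (nat_lit 44044) [nat_lit 54, nat_lit 189, nat_lit 54, nat_lit 135, nat_lit 162, nat_lit 108, nat_lit 81, nat_lit 162])) (.node (nat_lit 65) (.leaf (nat_lit 44042) [nat_lit 162, nat_lit 54, nat_lit 189, nat_lit 54, nat_lit 135, nat_lit 162, nat_lit 108, nat_lit 81]) (.node (nat_lit 66) (.leaf (nat_lit 45057) [nat_lit 81, nat_lit 162, nat_lit 162, nat_lit 54, nat_lit 135, nat_lit 189, nat_lit 108, nat_lit 81]) (.leaf (nat_lit 41991) [nat_lit 135, nat_lit 189, nat_lit 81, nat_lit 108, nat_lit 81, nat_lit 162, nat_lit 162, nat_lit 108]))))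
noncomputable def r157 : WT := (.node (nat_lit 70) (.node (nat_lit 68) (.leaf (nat_lit 64516) [nat_lit 108, nat_lit 189, nat_lit 54, nat_lit 162, nat_lit 108, nat_lit 162, nat_lit 108, nat_lit 54, nat_lit 54]) (.node (nat_lit 69) (.leaf (nat_lit 99329) [nat_lit 135, nat_lit 243, nat_lit 108, nat_lit 189, nat_lit 135, nat_lit 243, nat_lit 135, nat_lit 135]) (.leaf (nat_lit 48134) [nat_lit 108, nat_lit 189, nat_lit 108, nat_lit 189, nat_lit 135, nat_lit 54, nat_lit 162, nat_lit 81]))) (.node (nat_lit 71) (.leaf (nat_lit 30721) [nat_lit 81, nat_lit 162, nat_lit 162, nat_lit 135, nat_lit 162, nat_lit 108, nat_lit 81, nat_lit 81]) (.node (nat_lit 72) (.leaf (nat_lit 102415) [nat_lit 135, nat_lit 243, nat_lit 108, nat_lit 189, nat_lit 243, nat_lit 108, nat_lit 243, nat_lit 135]) (.leaf (nat_lit 103434) [nat_lit 243, nat_lit 189, nat_lit 243, nat_lit 108, nat_lit 189, nat_lit 243, nat_lit 162, nat_lit 135]))))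
noncomputable def r158 : WT := (.node (nat_lit 77) (.node (nat_lit 75) (.node (nat_lit 74) (.leaf (nat_lit 45063) [nat_lit 54, nat_lit 135, nat_lit 189, nat_lit 108, nat_lit 81, nat_lit 162, nat_lit 81, nat_lit 162]) (.leaf (nat_lit 41990) [nat_lit 108, nat_lit 189, nat_lit 135, nat_lit 189, nat_lit 189, nat_lit 54, nat_lit 135, nat_lit 54])) (.node (nat_lit 76) (.leaf (nat_lit 92170) [nat_lit 243, nat_lit 81, nat_lit 243, nat_lit 54, nat_lit 162, nat_lit 162, nat_lit 243, nat_lit 162]) (.leaf (nat_lit 53260) [nat_lit 216, nat_lit 162, nat_lit 54, nat_lit 216, nat_lit 81, nat_lit 189, nat_lit 189, nat_lit 216]))) (.node (nat_lit 79) (.node (nat_lit 78) (.leaf (nat_lit 102412) [nat_lit 135, nat_lit 243, nat_lit 108, nat_lit 189, nat_lit 108, nat_lit 243, nat_lit 135, nat_lit 243]) (.leaf (nat_lit 72708) [nat_lit 243, nat_lit 189, nat_lit 135, nat_lit 81, nat_lit 243, nat_lit 54, nat_lit 108])) (.node (nat_lit 80) (.leaf (nat_lit 88078) [nat_lit 243, nat_lit 54, nat_lit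 108, nat_lit 243, nat_lit 162, nat_lit 54, nat_lit 243, nat_lit 108]) (.node (nat_lit 81) (.leaf (nat_lit 111620) [nat_lit 243, nat_lit 54, nat_lit 162, nat_lit 243, nat_lit 54, nat_lit 162, nat_lit 243, nat_lit 54, nat_lit 162, nat_lit 243, nat_lit 54]) (.leaf (nat_lit 63492) [nat_lit 108, nat_lit 162, nat_lit 135, nat_lit 81, nat_lit 108, nat_lit 54, nat_lit 108, nat_lit 54, nat_lit 54])))))
noncomputable def r159 : WT := (.node (nat_lit 97) (.leaf (nat_lit 101378) [nat_lit 108, nat_lit 243, nat_lit 135, nat_lit 243, nat_lit 189, nat_lit 135, nat_lit 243, nat_lit 108]) (.leaf (nat_lit 54276) [nat_lit 135, nat_lit 162, nat_lit 135, nat_lit 162, nat_lit 135, nat_lit 162, nat_lit 108, nat_lit 108]))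
noncomputable def r160 : WT := (.node (nat_lit 89) (.node (nat_lit 85) (.node (nat_lit 83) (.leaf (nat_lit 94223) [nat_lit 81, nat_lit 243, nat_lit 54, nat_lit 243, nat_lit 189, nat_lit 189, nat_lit 243, nat_lit 162]) (.node (nat_lit 84) (.leaf (nat_lit 50185) [nat_lit 162, nat_lit 54, nat_lit 189, nat_lit 81, nat_lit 135, nat_lit 189, nat_lit 135, nat_lit 135]) (.leaf (nat_lit 115716) [nat_lit 243, nat_lit 135, nat_lit 162, nat_lit 243, nat_lit 135, nat_lit 162, nat_lit 243, nat_lit 135, nat_lit 162, nat_lit 243, nat_lit 135]))) (.node (nat_lit 87) (.node (nat_lit 86) (.leaf (nat_lit 96262) [nat_lit 162, nat_lit 162, nat_lit 243, nat_lit 162, nat_lit 243, nat_lit 54, nat_lit 243, nat_lit 81]) (.leaf (nat_lit 12297) [nat_lit 81, nat_lit 81, nat_lit 108, nat_lit 162, nat_lit 54, nat_lit 108])) (.node (nat_lit 88) (.leaf (nat_lit 53264) [nat_lit 54, nat_lit 216, nat_lit 81, nat_lit 189, nat_lit 189, nat_lit 216, nat_lit 162, nat_lit 216]) (.leaf (nat_lit 65540) [nat_lit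 108, nat_lit 189, nat_lit 108, nat_lit 189, nat_lit 135, nat_lit 54, nat_lit 162, nat_lit 54, nat_lit 54])))) (.node (nat_lit 93) (.node (nat_lit 91) (.node (nat_lit 90) (.leaf (nat_lit 55297) [nat_lit 216, nat_lit 189, nat_lit 135, nat_lit 162, nat_lit 216, nat_lit 189, nat_lit 135, nat_lit 135]) (.leaf (nat_lit 82958) [nat_lit 243, nat_lit 54, nat_lit 108, nat_lit 162, nat_lit 243, nat_lit 54, nat_lit 135, nat_lit 135])) (.node (nat_lit 92) (.leaf (nat_lit 97283) [nat_lit 162, nat_lit 162, nat_lit 243, nat_lit 162, nat_lit 54, nat_lit 243, nat_lit 81, nat_lit 243]) (.leaf (nat_lit 37904) [nat_lit 54, nat_lit 108, nat_lit 162, nat_lit 54, nat_lit 135, nat_lit 216, nat_lit 135, nat_lit 216]))) (.node (nat_lit 95) (.node (nat_lit 94) (.leaf (nat_lit 45060) [nat_lit 108, nat_lit 81, nat_lit 189, nat_lit 189, nat_lit 54, nat_lit 189, nat_lit 54, nat_lit 135]) (.leaf (nat_lit 103427) [nat_lit 243, nat_lit 189, nat_lit 108, nat_lit 189, nat_lit 243, nat_lit 162, nat_lit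 135, nat_lit 243])) (.node (nat_lit 96) (.leaf (nat_lit 94221) [nat_lit 162, nat_lit 81, nat_lit 243, nat_lit 54, nat_lit 243, nat_lit 189, nat_lit 189, nat_lit 243]) r159))))
noncomputable def r161 : WT := (.leaf (nat_lit 133124) [nat_lit 243, nat_lit 108, nat_lit 162, nat_lit 243, nat_lit 108, nat_lit 162, nat_lit 243, nat_lit 108, nat_lit 162, nat_lit 243, nat_lit 108, nat_lit 162, nat_lit 243, nat_lit 108, nat_lit 162, nat_lit 243, nat_lit 108])
noncomputable def r162 : WT := (.node (nat_lit 100) r161 (.leaf (nat_lit 55300) [nat_lit 216, nat_lit 189, nat_lit 108, nat_lit 162, nat_lit 216, nat_lit 189, nat_lit 108, nat_lit 108]))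
noncomputable def r163 : WT := (.node (nat_lit 103) (.leaf (nat_lit 17412) [nat_lit 54, nat_lit 216, nat_lit 108, nat_lit 216, nat_lit 162, nat_lit 54, nat_lit 108]) (.leaf (nat_lit 32773) [nat_lit 54, nat_lit 162, nat_lit 54, nat_lit 162, nat_lit 81, nat_lit 81, nat_lit 162, nat_lit 54]))
noncomputable def r164 : WT := (.node (nat_lit 105) (.leaf (nat_lit 55308) [nat_lit 216, nat_lit 189, nat_lit 108, nat_lit 108, nat_lit 162, nat_lit 216, nat_lit 189, nat_lit 108]) (.leaf (nat_lit 64524) [nat_lit 108, nat_lit 162, nat_lit 108, nat_lit 54, nat_lit 54, nat_lit 162, nat_lit 108, nat_lit 189, nat_lit 54]))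
noncomputable def r165 : WT := (.node (nat_lit 107) (.leaf (nat_lit 36875) [nat_lit 135, nat_lit 135, nat_lit 81, nat_lit 135, nat_lit 162, nat_lit 108, nat_lit 81, nat_lit 135]) (.leaf (nat_lit 59393) [nat_lit 81, nat_lit 162, nat_lit 108, nat_lit 189, nat_lit 108, nat_lit 189, nat_lit 135, nat_lit 81, nat_lit 81]))
noncomputable def r166 : WT := (.node (nat_lit 109) (.leaf (nat_lit 58369) [nat_lit 108, nat_lit 189, nat_lit 135, nat_lit 162, nat_lit 162, nat_lit 54, nat_lit 135, nat_lit 81, nat_lit 81]) (.leaf (nat_lit 43014) [nat_lit 54, nat_lit 216, nat_lit 108, nat_lit 216, nat_lit 162, nat_lit 54, nat_lit 135, nat_lit 135]))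
noncomputable def r167 : WT := (.node (nat_lit 111) (.leaf (nat_lit 96266) [nat_lit 243, nat_lit 162, nat_lit 243, nat_lit 54, nat_lit 243, nat_lit 81, nat_lit 162, nat_lit 162]) (.node (nat_lit 112) (.leaf (nat_lit 95239) [nat_lit 162, nat_lit 243, nat_lit 162, nat_lit 162, nat_lit 81, nat_lit 243, nat_lit 54, nat_lit 243]) (.leaf (nat_lit 94216) [nat_lit 162, nat_lit 243, nat_lit 81, nat_lit 243, nat_lit 54, nat_lit 189, nat_lit 189, nat_lit 243])))
noncomputable def r168 : WT := (.node (nat_lit 114) (.leaf (nat_lit 50190) [nat_lit 108, nat_lit 54, nat_lit 162, nat_lit 81, nat_lit 189, nat_lit 189, nat_lit 108, nat_lit 108]) (.leaf (nat_lit 31760) [nat_lit 54, nat_lit 54, nat_lit 162, nat_lit 162, nat_lit 135, nat_lit 162, nat_lit 108, nat_lit 54]))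
noncomputable def r169 : WT := (.node (nat_lit 117) (.node (nat_lit 116) (.leaf (nat_lit 93186) [nat_lit 162, nat_lit 243, nat_lit 189, nat_lit 189, nat_lit 243, nat_lit 81, nat_lit 243, nat_lit 54]) (.leaf (nat_lit 28678) [nat_lit 108, nat_lit 81, nat_lit 135, nat_lit 162, nat_lit 108, nat_lit 54, nat_lit 54, nat_lit 135])) (.node (nat_lit 118) (.leaf (nat_lit 70666) [nat_lit 54, nat_lit 243, nat_lit 54, nat_lit 54, nat_lit 243, nat_lit 189, nat_lit 243]) (.leaf (nat_lit 62475) [nat_lit 54, nat_lit 189, nat_lit 81, nat_lit 81, nat_lit 108, nat_lit 189, nat_lit 81, nat_lit 162, nat_lit 135])))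
noncomputable def r170 : WT := (.node (nat_lit 121) (.node (nat_lit 120) (.leaf (nat_lit 77824) [nat_lit 243, nat_lit 189, nat_lit 243, nat_lit 162, nat_lit 243, nat_lit 189, nat_lit 243]) (.leaf (nat_lit 63496) [nat_lit 135, nat_lit 81, nat_lit 108, nat_lit 54, nat_lit 108, nat_lit 54, nat_lit 54, nat_lit 162, nat_lit 108])) (.node (nat_lit 122) (.leaf (nat_lit 12291) [nat_lit 54, nat_lit 108, nat_lit 162, nat_lit 81, nat_lit 81, nat_lit 108]) (.leaf (nat_lit 64523) [nat_lit 135, nat_lit 189, nat_lit 81, nat_lit 81, nat_lit 135, nat_lit 189, nat_lit 135, nat_lit 189, nat_lit 81])))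
noncomputable def r171 : WT := (.node (nat_lit 125) (.node (nat_lit 124) (.leaf (nat_lit 58377) [nat_lit 162, nat_lit 54, nat_lit 135, nat_lit 81, nat_lit 81, nat_lit 162, nat_lit 108, nat_lit 189, nat_lit 135]) (.leaf (nat_lit 112641) [nat_lit 54, nat_lit 243, nat_lit 162, nat_lit 54, nat_lit 243, nat_lit 162, nat_lit 54, nat_lit 243, nat_lit 162, nat_lit 54, nat_lit 243])) (.node (nat_lit 126) (.leaf (nat_lit 32777) [nat_lit 54, nat_lit 162, nat_lit 81, nat_lit 81, nat_lit 162, nat_lit 54, nat_lit 162, nat_lit 54]) (.node (nat_lit 127) (.leaf (nat_lit 119810) [nat_lit 162, nat_lit 243, nat_lit 162, nat_lit 162, nat_lit 243, nat_lit 162, nat_lit 162, nat_lit 243, nat_lit 162, nat_lit 162, nat_lit 243]) (.leaf (nat_lit 119812) [nat_lit 243, nat_lit 162, nat_lit 162, nat_lit 243, nat_lit 162, nat_lit 162, nat_lit 243, nat_lit 162, nat_lit 162, nat_lit 243, nat_lit 162]))))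
noncomputable def r172 : WT := (.leaf (nat_lit 129026) [nat_lit 243, nat_lit 162, nat_lit 243, nat_lit 162, nat_lit 243, nat_lit 162, nat_lit 243, nat_lit 162, nat_lit 243, nat_lit 162, nat_lit 243, nat_lit 162, nat_lit 243, nat_lit 162, nat_lit 243])
noncomputable def r173 : WT := (.node (nat_lit 130) (.node (nat_lit 129) r172 (.leaf (nat_lit 54284) [nat_lit 135, nat_lit 162, nat_lit 108, nat_lit 108, nat_lit 162, nat_lit 135, nat_lit 162, nat_lit 135])) (.node (nat_lit 131) (.leaf (nat_lit 15363) [nat_lit 81, nat_lit 81, nat_lit 108, nat_lit 162, nat_lit 81, nat_lit 81, nat_lit 108]) (.leaf (nat_lit 95241) [nat_lit 243, nat_lit 162, nat_lit 162, nat_lit 81, nat_lit 243, nat_lit 54, nat_lit 243, nat_lit 162])))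
noncomputable def r174 : WT := (.node (nat_lit 134) (.node (nat_lit 133) (.leaf (nat_lit 46093) [nat_lit 108, nat_lit 81, nat_lit 108, nat_lit 108, nat_lit 162, nat_lit 108, nat_lit 81, nat_lit 135]) (.leaf (nat_lit 50178) [nat_lit 81, nat_lit 189, nat_lit 189, nat_lit 108, nat_lit 108, nat_lit 162, nat_lit 108, nat_lit 54])) (.node (nat_lit 135) (.leaf (nat_lit 103430) [nat_lit 135, nat_lit 162, nat_lit 243, nat_lit 189, nat_lit 243, nat_lit 108, nat_lit 189, nat_lit 243]) (.leaf (nat_lit 16389) [nat_lit 135, nat_lit 81, nat_lit 189, nat_lit 135, nat_lit 81, nat_lit 162, nat_lit 162])))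
noncomputable def r175 : WT := (.node (nat_lit 138) (.node (nat_lit 137) (.leaf (nat_lit 16387) [nat_lit 162, nat_lit 135, nat_lit 81, nat_lit 189, nat_lit 135, nat_lit 81, nat_lit 162]) (.leaf (nat_lit 101381) [nat_lit 243, nat_lit 108, nat_lit 243, nat_lit 135, nat_lit 189, nat_lit 135, nat_lit 243, nat_lit 108])) (.node (nat_lit 139) (.leaf (nat_lit 16388) [nat_lit 54, nat_lit 108, nat_lit 189, nat_lit 189, nat_lit 189, nat_lit 54, nat_lit 108]) (.leaf (nat_lit 100368) [nat_lit 108, nat_lit 108, nat_lit 243, nat_lit 108, nat_lit 189, nat_lit 135, nat_lit 243, nat_lit 108])))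
noncomputable def r176 : WT := (.node (nat_lit 142) (.node (nat_lit 141) (.leaf (nat_lit 49158) [nat_lit 162, nat_lit 135, nat_lit 162, nat_lit 135, nat_lit 135, nat_lit 54, nat_lit 162, nat_lit 81]) (.leaf (nat_lit 49160) [nat_lit 135, nat_lit 162, nat_lit 135, nat_lit 135, nat_lit 54, nat_lit 162, nat_lit 81, nat_lit 162])) (.node (nat_lit 143) (.leaf (nat_lit 96270) [nat_lit 243, nat_lit 54, nat_lit 243, nat_lit 81, nat_lit 162, nat_lit 162, nat_lit 162, nat_lit 243]) (.node (nat_lit 144) (.leaf (nat_lit 49164) [nat_lit 135, nat_lit 135, nat_lit 54, nat_lit 162, nat_lit 81, nat_lit 162, nat_lit 162, nat_lit 135]) (.leaf (nat_lit 95245) [nat_lit 162, nat_lit 81, nat_lit 243, nat_lit 54, nat_lit 243, nat_lit 162, nat_lit 162, nat_lit 243]))))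
noncomputable def r177 : WT := (.node (nat_lit 113) (.node (nat_lit 104) (.node (nat_lit 101) (.node (nat_lit 99) (.leaf (nat_lit 57345) [nat_lit 108, nat_lit 189, nat_lit 135, nat_lit 189, nat_lit 189, nat_lit 54, nat_lit 135, nat_lit 81, nat_lit 81]) r162) (.node (nat_lit 102) (.leaf (nat_lit 32781) [nat_lit 81, nat_lit 81, nat_lit 162, nat_lit 54, nat_lit 162, nat_lit 54, nat_lit 162, nat_lit 54]) r163)) (.node (nat_lit 108) (.node (nat_lit 106) r164 r165) (.node (nat_lit 110) r166 r167))) (.node (nat_lit 128) (.node (nat_lit 119) (.node (nat_lit 115) r168 r169) (.node (nat_lit 123) r170 r171)) (.node (nat_lit 136) (.node (nat_lit 132) r173 r174) (.node (nat_lit 140) r175 r176))))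
noncomputable def r178 : WT := (.node (nat_lit 49) (.node (nat_lit 39) (.node (nat_lit 36) (.node (nat_lit 34) (.leaf (nat_lit 32769) [nat_lit 54, nat_lit 162, nat_lit 54, nat_lit 162, nat_lit 54, nat_lit 162, nat_lit 81, nat_lit 81]) r147) (.node (nat_lit 37) (.leaf (nat_lit 53259) [nat_lit 54, nat_lit 216, nat_lit 81, nat_lit 189, nat_lit 216, nat_lit 189, nat_lit 216, nat_lit 162]) r148)) (.node (nat_lit 43) (.node (nat_lit 41) r149 r150) (.node (nat_lit 46) r151 r152))) (.node (nat_lit 67) (.node (nat_lit 57) (.node (nat_lit 53) r153 r154) (.node (nat_lit 62) r155 r156)) (.node (nat_lit 82) (.node (nat_lit 73) r157 r158) (.node (nat_lit 98) r160 r177))))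
noncomputable def w4 : WT := (.node (nat_lit 1) (.leaf (nat_lit 2048) [nat_lit 189]) (.node (nat_lit 7) (.node (nat_lit 3) (.node (nat_lit 2) (.leaf (nat_lit 8192) [nat_lit 162, nat_lit 162, nat_lit 162]) (.leaf (nat_lit 10244) [nat_lit 54, nat_lit 108, nat_lit 162, nat_lit 54, nat_lit 108])) (.node (nat_lit 5) r141 r142)) (.node (nat_lit 18) (.node (nat_lit 10) r143 r144) (.node (nat_lit 33) r146 r178))))
noncomputable def r179 : WT := (.node (nat_lit 4) (.leaf (nat_lit 20484) [nat_lit 108, nat_lit 54, nat_lit 135, nat_lit 189, nat_lit 108, nat_lit 54, nat_lit 135]) (.leaf (nat_lit 12292) [nat_lit 135, nat_lit 81, nat_lit 189, nat_lit 135, nat_lit 54, nat_lit 54]))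
noncomputable def r180 : WT := (.node (nat_lit 6) (.leaf (nat_lit 16394) [nat_lit 189, nat_lit 189, nat_lit 54, nat_lit 108, nat_lit 162, nat_lit 54, nat_lit 108]) (.leaf (nat_lit 23565) [nat_lit 81, nat_lit 135, nat_lit 189, nat_lit 108, nat_lit 189, nat_lit 189, nat_lit 54]))
noncomputable def r181 : WT := (.node (nat_lit 9) (.node (nat_lit 8) (.leaf (nat_lit 67587) [nat_lit 243, nat_lit 162, nat_lit 54, nat_lit 243, nat_lit 81, nat_lit 243]) (.leaf (nat_lit 23555) [nat_lit 108, nat_lit 189, nat_lit 189, nat_lit 54, nat_lit 189, nat_lit 81, nat_lit 135])) (.node (nat_lit 10) (.leaf (nat_lit 23559) [nat_lit 189, nat_lit 54, nat_lit 189, nat_lit 81, nat_lit 135, nat_lit 189, nat_lit 108]) (.leaf (nat_lit 22529) [nat_lit 81, nat_lit 189, nat_lit 81, nat_lit 189, nat_lit 81, nat_lit 189, nat_lit 81])))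
noncomputable def r182 : WT := (.node (nat_lit 14) (.node (nat_lit 12) (.leaf (nat_lit 26626) [nat_lit 108, nat_lit 189, nat_lit 108, nat_lit 189, nat_lit 108, nat_lit 189, nat_lit 108]) (.node (nat_lit 13) (.leaf (nat_lit 25606) [nat_lit 135, nat_lit 162, nat_lit 216, nat_lit 189, nat_lit 108, nat_lit 162, nat_lit 216]) (.leaf (nat_lit 35851) [nat_lit 54, nat_lit 135, nat_lit 81, nat_lit 135, nat_lit 54, nat_lit 108, nat_lit 189, nat_lit 135]))) (.node (nat_lit 16) (.node (nat_lit 15) (.leaf (nat_lit 35847) [nat_lit 135, nat_lit 189, nat_lit 54, nat_lit 135, nat_lit 81, nat_lit 135, nat_lit 54, nat_lit 108]) (.leaf (nat_lit 67590) [nat_lit 243, nat_lit 162, nat_lit 243, nat_lit 54, nat_lit 243, nat_lit 81])) (.node (nat_lit 17) (.leaf (nat_lit 40971) [nat_lit 81, nat_lit 108, nat_lit 81, nat_lit 189, nat_lit 189, nat_lit 108, nat_lit 162, nat_lit 135]) (.leaf (nat_lit 24582) [nat_lit 189, nat_lit 135, nat_lit 162, nat_lit 108, nat_lit 54, nat_lit 162, nat_lit 81]))))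
noncomputable def r183 : WT := (.node (nat_lit 30) (.leaf (nat_lit 24589) [nat_lit 81, nat_lit 135, nat_lit 189, nat_lit 108, nat_lit 162, nat_lit 162, nat_lit 54]) (.leaf (nat_lit 47112) [nat_lit 81, nat_lit 162, nat_lit 135, nat_lit 189, nat_lit 54, nat_lit 135, nat_lit 189, nat_lit 135]))
noncomputable def r184 : WT := (.node (nat_lit 33) (.leaf (nat_lit 47108) [nat_lit 135, nat_lit 189, nat_lit 81, nat_lit 162, nat_lit 135, nat_lit 189, nat_lit 54, nat_lit 135]) (.leaf (nat_lit 31745) [nat_lit 81, nat_lit 135, nat_lit 189, nat_lit 108, nat_lit 189, nat_lit 189, nat_lit 81, nat_lit 81]))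
noncomputable def r185 : WT := (.node (nat_lit 24) (.node (nat_lit 21) (.node (nat_lit 19) (.leaf (nat_lit 52229) [nat_lit 216, nat_lit 189, nat_lit 189, nat_lit 54, nat_lit 216, nat_lit 81, nat_lit 189, nat_lit 216]) (.node (nat_lit 20) (.leaf (nat_lit 39940) [nat_lit 81, nat_lit 162, nat_lit 135, nat_lit 162, nat_lit 54, nat_lit 189, nat_lit 54, nat_lit 108]) (.leaf (nat_lit 25614) [nat_lit 108, nat_lit 162, nat_lit 216, nat_lit 189, nat_lit 135, nat_lit 162, nat_lit 216]))) (.node (nat_lit 22) (.leaf (nat_lit 39952) [nat_lit 54, nat_lit 108, nat_lit 189, nat_lit 81, nat_lit 162, nat_lit 135, nat_lit 162, nat_lit 54]) (.node (nat_lit 23) (.leaf (nat_lit 52225) [nat_lit 216, nat_lit 189, nat_lit 216, nat_lit 189, nat_lit 189, nat_lit 54, nat_lit 216, nat_lit 81]) (.leaf (nat_lit 27652) [nat_lit 216, nat_lit 162, nat_lit 216, nat_lit 189, nat_lit 216, nat_lit 162, nat_lit 216])))) (.node (nat_lit 28) (.node (nat_lit 26) (.node (nat_lit 25) (.leaf (nat_lit 75786)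 [nat_lit 135, nat_lit 243, nat_lit 108, nat_lit 162, nat_lit 135, nat_lit 243, nat_lit 108]) (.leaf (nat_lit 39945) [nat_lit 54, nat_lit 162, nat_lit 135, nat_lit 81, nat_lit 162, nat_lit 81, nat_lit 189, nat_lit 108])) (.node (nat_lit 27) (.leaf (nat_lit 23561) [nat_lit 54, nat_lit 189, nat_lit 81, nat_lit 135, nat_lit 189, nat_lit 108, nat_lit 189]) (.leaf (nat_lit 41998) [nat_lit 189, nat_lit 54, nat_lit 135, nat_lit 54, nat_lit 162, nat_lit 108, nat_lit 189, nat_lit 135]))) (.node (nat_lit 31) (.node (nat_lit 29) (.leaf (nat_lit 47109) [nat_lit 54, nat_lit 162, nat_lit 108, nat_lit 162, nat_lit 108, nat_lit 81, nat_lit 162, nat_lit 108]) r183) (.node (nat_lit 32) (.leaf (nat_lit 71683) [nat_lit 135, nat_lit 81, nat_lit 243, nat_lit 189, nat_lit 135, nat_lit 81, nat_lit 243]) r184))))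
noncomputable def r186 : WT := (.node (nat_lit 36) (.leaf (nat_lit 40970) [nat_lit 135, nat_lit 162, nat_lit 162, nat_lit 54, nat_lit 135, nat_lit 54, nat_lit 162, nat_lit 108]) (.leaf (nat_lit 48143) [nat_lit 81, nat_lit 108, nat_lit 162, nat_lit 135, nat_lit 162, nat_lit 135, nat_lit 189, nat_lit 54]))
noncomputable def r187 : WT := (.node (nat_lit 39) (.leaf (nat_lit 69636) [nat_lit 243, nat_lit 162, nat_lit 243, nat_lit 54, nat_lit 243, nat_lit 54, nat_lit 54]) (.leaf (nat_lit 36870) [nat_lit 108, nat_lit 54, nat_lit 135, nat_lit 189, nat_lit 108, nat_lit 54, nat_lit 108, nat_lit 108]))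
noncomputable def r188 : WT := (.node (nat_lit 41) (.leaf (nat_lit 39941) [nat_lit 108, nat_lit 189, nat_lit 54, nat_lit 162, nat_lit 135, nat_lit 81, nat_lit 162, nat_lit 81]) (.leaf (nat_lit 44045) [nat_lit 108, nat_lit 81, nat_lit 162, nat_lit 81, nat_lit 189, nat_lit 189, nat_lit 54, nat_lit 135]))
noncomputable def r189 : WT := (.node (nat_lit 43) (.leaf (nat_lit 40961) [nat_lit 189, nat_lit 108, nat_lit 162, nat_lit 135, nat_lit 189, nat_lit 81, nat_lit 108, nat_lit 81]) (.leaf (nat_lit 24579) [nat_lit 108, nat_lit 162, nat_lit 162, nat_lit 54, nat_lit 189, nat_lit 81, nat_lit 135]))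
noncomputable def r190 : WT := (.node (nat_lit 45) (.leaf (nat_lit 44048) [nat_lit 54, nat_lit 135, nat_lit 162, nat_lit 108, nat_lit 81, nat_lit 162, nat_lit 162, nat_lit 54]) (.leaf (nat_lit 24584) [nat_lit 135, nat_lit 162, nat_lit 108, nat_lit 54, nat_lit 162, nat_lit 81, nat_lit 189]))
noncomputable def r191 : WT := (.node (nat_lit 47) (.leaf (nat_lit 32772) [nat_lit 81, nat_lit 189, nat_lit 81, nat_lit 189, nat_lit 81, nat_lit 189, nat_lit 54, nat_lit 54]) (.leaf (nat_lit 92167) [nat_lit 189, nat_lit 243, nat_lit 189, nat_lit 189, nat_lit 81, nat_lit 243, nat_lit 54, nat_lit 243]))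
noncomputable def r192 : WT := (.node (nat_lit 49) (.leaf (nat_lit 48138) [nat_lit 108, nat_lit 189, nat_lit 135, nat_lit 54, nat_lit 162, nat_lit 81, nat_lit 162, nat_lit 108]) (.leaf (nat_lit 48139) [nat_lit 54, nat_lit 189, nat_lit 81, nat_lit 108, nat_lit 162, nat_lit 135, nat_lit 162, nat_lit 135]))
noncomputable def r193 : WT := (.node (nat_lit 51) (.leaf (nat_lit 72712) [nat_lit 135, nat_lit 81, nat_lit 243, nat_lit 54, nat_lit 108, nat_lit 162, nat_lit 243]) (.node (nat_lit 52) (.leaf (nat_lit 40963) [nat_lit 108, nat_lit 162, nat_lit 135, nat_lit 189, nat_lit 81, nat_lit 108, nat_lit 81, nat_lit 189]) (.leaf (nat_lit 92169) [nat_lit 243, nat_lit 189, nat_lit 189, nat_lit 81, nat_lit 243, nat_lit 54, nat_lit 243, nat_lit 189])))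
noncomputable def r194 : WT := (.node (nat_lit 55) (.node (nat_lit 54) (.leaf (nat_lit 52233) [nat_lit 189, nat_lit 54, nat_lit 216, nat_lit 81, nat_lit 189, nat_lit 216, nat_lit 189, nat_lit 216]) (.leaf (nat_lit 92173) [nat_lit 189, nat_lit 81, nat_lit 243, nat_lit 54, nat_lit 243, nat_lit 189, nat_lit 189, nat_lit 243])) (.node (nat_lit 56) (.leaf (nat_lit 77828) [nat_lit 243, nat_lit 162, nat_lit 243, nat_lit 189, nat_lit 243, nat_lit 162, nat_lit 243]) (.leaf (nat_lit 94210) [nat_lit 189, nat_lit 243, nat_lit 162, nat_lit 162, nat_lit 243, nat_lit 81, nat_lit 243, nat_lit 54])))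
noncomputable def r195 : WT := (.node (nat_lit 59) (.node (nat_lit 58) (.leaf (nat_lit 41995) [nat_lit 81, nat_lit 108, nat_lit 81, nat_lit 162, nat_lit 162, nat_lit 108, nat_lit 162, nat_lit 135]) (.leaf (nat_lit 52235) [nat_lit 54, nat_lit 216, nat_lit 81, nat_lit 189, nat_lit 216, nat_lit 189, nat_lit 216, nat_lit 189])) (.node (nat_lit 60) (.leaf (nat_lit 42000) [nat_lit 54, nat_lit 135, nat_lit 54, nat_lit 162, nat_lit 108, nat_lit 189, nat_lit 135, nat_lit 189]) (.leaf (nat_lit 88067) [nat_lit 135, nat_lit 243, nat_lit 81, nat_lit 189, nat_lit 243, nat_lit 135, nat_lit 81, nat_lit 243])))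
noncomputable def r196 : WT := (.node (nat_lit 64) (.node (nat_lit 62) (.leaf (nat_lit 48142) [nat_lit 135, nat_lit 54, nat_lit 162, nat_lit 81, nat_lit 162, nat_lit 108, nat_lit 189, nat_lit 108]) (.node (nat_lit 63) (.leaf (nat_lit 102402) [nat_lit 108, nat_lit 243, nat_lit 135, nat_lit 243, nat_lit 162, nat_lit 135, nat_lit 243, nat_lit 108]) (.leaf (nat_lit 41994) [nat_lit 135, nat_lit 189, nat_lit 189, nat_lit 54, nat_lit 135, nat_lit 54, nat_lit 162, nat_lit 108]))) (.node (nat_lit 66) (.node (nat_lit 65) (.leaf (nat_lit 53254) [nat_lit 189, nat_lit 216, nat_lit 162, nat_lit 216, nat_lit 162, nat_lit 54, nat_lit 216, nat_lit 81]) (.leaf (nat_lit 16398) [nat_lit 54, nat_lit 108, nat_lit 162, nat_lit 54, nat_lit 108, nat_lit 189, nat_lit 189])) (.node (nat_lit 67) (.leaf (nat_lit 45066) [nat_lit 189, nat_lit 54, nat_lit 189, nat_lit 54, nat_lit 135, nat_lit 162, nat_lit 108, nat_lit 81]) (.leaf (nat_lit 14337) [nat_lit 108, nat_lit 108, nat_lit 81, nat_lit 189,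 nat_lit 135, nat_lit 81]))))
noncomputable def r197 : WT := (.node (nat_lit 72) (.node (nat_lit 70) (.node (nat_lit 69) (.leaf (nat_lit 45072) [nat_lit 54, nat_lit 135, nat_lit 162, nat_lit 108, nat_lit 81, nat_lit 189, nat_lit 189, nat_lit 54]) (.leaf (nat_lit 96263) [nat_lit 189, nat_lit 189, nat_lit 54, nat_lit 243, nat_lit 81, nat_lit 243, nat_lit 189, nat_lit 243])) (.node (nat_lit 71) (.leaf (nat_lit 44039) [nat_lit 54, nat_lit 135, nat_lit 189, nat_lit 108, nat_lit 81, nat_lit 162, nat_lit 81, nat_lit 189]) (.leaf (nat_lit 103438) [nat_lit 243, nat_lit 108, nat_lit 189, nat_lit 243, nat_lit 162, nat_lit 135, nat_lit 162, nat_lit 243]))) (.node (nat_lit 74) (.node (nat_lit 73) (.leaf (nat_lit 49157) [nat_lit 108, nat_lit 189, nat_lit 189, nat_lit 54, nat_lit 189, nat_lit 81, nat_lit 108, nat_lit 108]) (.leaf (nat_lit 45068) [nat_lit 54, nat_lit 189, nat_lit 54, nat_lit 135, nat_lit 162, nat_lit 108, nat_lit 81, nat_lit 189])) (.node (nat_lit 75) (.leaf (nat_lit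 102405) [nat_lit 243, nat_lit 108, nat_lit 243, nat_lit 135, nat_lit 162, nat_lit 135, nat_lit 243, nat_lit 108]) (.node (nat_lit 76) (.leaf (nat_lit 65537) [nat_lit 81, nat_lit 108, nat_lit 162, nat_lit 135, nat_lit 162, nat_lit 135, nat_lit 189, nat_lit 81, nat_lit 81]) (.leaf (nat_lit 54273) [nat_lit 108, nat_lit 189, nat_lit 108, nat_lit 189, nat_lit 108, nat_lit 189, nat_lit 135, nat_lit 135])))))
noncomputable def r198 : WT := (.leaf (nat_lit 134148) [nat_lit 243, nat_lit 135, nat_lit 189, nat_lit 243, nat_lit 135, nat_lit 189, nat_lit 243, nat_lit 135, nat_lit 189, nat_lit 243, nat_lit 135, nat_lit 189, nat_lit 243, nat_lit 135, nat_lit 189, nat_lit 243, nat_lit 135])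
noncomputable def r199 : WT := (.node (nat_lit 92) (.leaf (nat_lit 101388) [nat_lit 135, nat_lit 243, nat_lit 108, nat_lit 162, nat_lit 108, nat_lit 243, nat_lit 135, nat_lit 243]) r198)
noncomputable def r200 : WT := (.node (nat_lit 84) (.node (nat_lit 80) (.node (nat_lit 78) (.leaf (nat_lit 53249) [nat_lit 216, nat_lit 189, nat_lit 216, nat_lit 162, nat_lit 162, nat_lit 54, nat_lit 216, nat_lit 81]) (.node (nat_lit 79) (.leaf (nat_lit 88075) [nat_lit 243, nat_lit 135, nat_lit 81, nat_lit 243, nat_lit 189, nat_lit 135, nat_lit 243, nat_lit 81]) (.leaf (nat_lit 103431) [nat_lit 108, nat_lit 189, nat_lit 243, nat_lit 162, nat_lit 135, nat_lit 243, nat_lit 162, nat_lit 243]))) (.node (nat_lit 82) (.node (nat_lit 81) (.leaf (nat_lit 94212) [nat_lit 243, nat_lit 162, nat_lit 162, nat_lit 243, nat_lit 81, nat_lit 243, nat_lit 54, nat_lit 189]) (.leaf (nat_lit 101391) [nat_lit 135, nat_lit 243, nat_lit 108, nat_lit 162, nat_lit 243, nat_lit 108, nat_lit 243, nat_lit 135]))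 (.node (nat_lit 83) (.leaf (nat_lit 92175) [nat_lit 81, nat_lit 243, nat_lit 54, nat_lit 243, nat_lit 189, nat_lit 189, nat_lit 243, nat_lit 189]) (.leaf (nat_lit 93192) [nat_lit 189, nat_lit 243, nat_lit 81, nat_lit 243, nat_lit 54, nat_lit 162, nat_lit 162, nat_lit 243])))) (.node (nat_lit 88) (.node (nat_lit 86) (.node (nat_lit 85) (.leaf (nat_lit 100353) [nat_lit 135, nat_lit 243, nat_lit 108, nat_lit 162, nat_lit 135, nat_lit 243, nat_lit 135, nat_lit 135]) (.leaf (nat_lit 111617) [nat_lit 81, nat_lit 243, nat_lit 189, nat_lit 81, nat_lit 243, nat_lit 189, nat_lit 81, nat_lit 243, nat_lit 189, nat_lit 81, nat_lit 243])) (.node (nat_lit 87) (.leaf (nat_lit 97290) [nat_lit 189, nat_lit 189, nat_lit 243, nat_lit 54, nat_lit 243, nat_lit 81, nat_lit 189, nat_lit 243]) (.leaf (nat_lit 37889) [nat_lit 216, nat_lit 108, nat_lit 216, nat_lit 108, nat_lit 81, nat_lit 189, nat_lit 135, nat_lit 81]))) (.node (nat_lit 90) (.node (nat_lit 89) (.leaf (nat_lit 44037) [nat_lit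 189, nat_lit 54, nat_lit 135, nat_lit 189, nat_lit 108, nat_lit 81, nat_lit 162, nat_lit 81]) (.leaf (nat_lit 112644) [nat_lit 243, nat_lit 81, nat_lit 189, nat_lit 243, nat_lit 81, nat_lit 189, nat_lit 243, nat_lit 81, nat_lit 189, nat_lit 243, nat_lit 81])) (.node (nat_lit 91) (.leaf (nat_lit 103426) [nat_lit 243, nat_lit 162, nat_lit 135, nat_lit 162, nat_lit 243, nat_lit 189, nat_lit 243, nat_lit 108]) r199))))
noncomputable def r201 : WT := (.node (nat_lit 95) (.leaf (nat_lit 54277) [nat_lit 108, nat_lit 189, nat_lit 108, nat_lit 189, nat_lit 135, nat_lit 135, nat_lit 189, nat_lit 108]) (.leaf (nat_lit 53253) [nat_lit 216, nat_lit 162, nat_lit 162, nat_lit 54, nat_lit 216, nat_lit 81, nat_lit 189, nat_lit 216]))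
noncomputable def r202 : WT := (.node (nat_lit 98) (.leaf (nat_lit 17419) [nat_lit 135, nat_lit 81, nat_lit 189, nat_lit 216, nat_lit 135, nat_lit 216, nat_lit 81]) (.leaf (nat_lit 32784) [nat_lit 54, nat_lit 54, nat_lit 189, nat_lit 81, nat_lit 189, nat_lit 81, nat_lit 189, nat_lit 81]))
noncomputable def r203 : WT := (.node (nat_lit 100) (.leaf (nat_lit 45069) [nat_lit 108, nat_lit 81, nat_lit 162, nat_lit 81, nat_lit 162, nat_lit 162, nat_lit 54, nat_lit 135]) (.leaf (nat_lit 106500) [nat_lit 135, nat_lit 243, nat_lit 81, nat_lit 243, nat_lit 189, nat_lit 243, nat_lit 135, nat_lit 54, nat_lit 54]))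
noncomputable def r204 : WT := (.node (nat_lit 102) (.leaf (nat_lit 58386) [nat_lit 54, nat_lit 54, nat_lit 108, nat_lit 81, nat_lit 189, nat_lit 189, nat_lit 108, nat_lit 162, nat_lit 135]) (.leaf (nat_lit 103435) [nat_lit 243, nat_lit 162, nat_lit 135, nat_lit 243, nat_lit 162, nat_lit 243, nat_lit 189, nat_lit 108]))
noncomputable def r205 : WT := (.node (nat_lit 104) (.leaf (nat_lit 30736) [nat_lit 54, nat_lit 54, nat_lit 135, nat_lit 189, nat_lit 108, nat_lit 189, nat_lit 189, nat_lit 54]) (.leaf (nat_lit 31757) [nat_lit 81, nat_lit 81, nat_lit 189, nat_lit 81, nat_lit 135, nat_lit 189, nat_lit 108, nat_lit 189]))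
noncomputable def r206 : WT := (.node (nat_lit 106) (.leaf (nat_lit 36878) [nat_lit 108, nat_lit 54, nat_lit 108, nat_lit 108, nat_lit 189, nat_lit 108, nat_lit 54, nat_lit 135]) (.leaf (nat_lit 17409) [nat_lit 216, nat_lit 135, nat_lit 216, nat_lit 81, nat_lit 189, nat_lit 135, nat_lit 81]))
noncomputable def r207 : WT := (.node (nat_lit 108) (.leaf (nat_lit 12298) [nat_lit 135, nat_lit 54, nat_lit 54, nat_lit 189, nat_lit 135, nat_lit 81]) (.leaf (nat_lit 93197) [nat_lit 189, nat_lit 81, nat_lit 243, nat_lit 54, nat_lit 243, nat_lit 162, nat_lit 162, nat_lit 243]))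
noncomputable def r208 : WT := (.node (nat_lit 110) (.leaf (nat_lit 93194) [nat_lit 243, nat_lit 81, nat_lit 243, nat_lit 54, nat_lit 162, nat_lit 162, nat_lit 243, nat_lit 189]) (.leaf (nat_lit 113668) [nat_lit 243, nat_lit 108, nat_lit 189, nat_lit 243, nat_lit 108, nat_lit 189, nat_lit 243, nat_lit 108, nat_lit 189, nat_lit 243, nat_lit 108]))
noncomputable def r209 : WT := (.node (nat_lit 112) (.leaf (nat_lit 51205) [nat_lit 108, nat_lit 162, nat_lit 162, nat_lit 54, nat_lit 189, nat_lit 81, nat_lit 108, nat_lit 108]) (.node (nat_lit 113) (.leaf (nat_lit 89099) [nat_lit 243, nat_lit 135, nat_lit 81, nat_lit 189, nat_lit 135, nat_lit 243, nat_lit 81, nat_lit 243]) (.leaf (nat_lit 106510) [nat_lit 243, nat_lit 135, nat_lit 54, nat_lit 54, nat_lit 189, nat_lit 135, nat_lit 243, nat_lit 81, nat_lit 243])))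
noncomputable def r210 : WT := (.leaf (nat_lit 133121) [nat_lit 135, nat_lit 243, nat_lit 189, nat_lit 135, nat_lit 243, nat_lit 189, nat_lit 135, nat_lit 243, nat_lit 189, nat_lit 135, nat_lit 243, nat_lit 189, nat_lit 135, nat_lit 243, nat_lit 189, nat_lit 135, nat_lit 243])
noncomputable def r211 : WT := (.node (nat_lit 116) (.node (nat_lit 115) (.leaf (nat_lit 30732) [nat_lit 54, nat_lit 189, nat_lit 54, nat_lit 54, nat_lit 135, nat_lit 189, nat_lit 108, nat_lit 189]) r210) (.node (nat_lit 117) (.leaf (nat_lit 65548) [nat_lit 135, nat_lit 54, nat_lit 162, nat_lit 54, nat_lit 54, nat_lit 162, nat_lit 108, nat_lit 189, nat_lit 108]) (.leaf (nat_lit 64520) [nat_lit 54, nat_lit 162, nat_lit 108, nat_lit 162, nat_lit 108, nat_lit 54, nat_lit 54, nat_lit 162, nat_lit 108])))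
noncomputable def r212 : WT := (.node (nat_lit 120) (.node (nat_lit 119) (.leaf (nat_lit 60430) [nat_lit 54, nat_lit 135, nat_lit 54, nat_lit 54, nat_lit 135, nat_lit 54, nat_lit 108, nat_lit 189, nat_lit 135]) (.leaf (nat_lit 59405) [nat_lit 135, nat_lit 81, nat_lit 81, nat_lit 162, nat_lit 81, nat_lit 162, nat_lit 108, nat_lit 189, nat_lit 108])) (.node (nat_lit 121) (.leaf (nat_lit 59401) [nat_lit 108, nat_lit 189, nat_lit 135, nat_lit 81, nat_lit 81, nat_lit 162, nat_lit 81, nat_lit 162, nat_lit 108]) (.leaf (nat_lit 140296) [nat_lit 351, nat_lit 81, nat_lit 108, nat_lit 81])))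
noncomputable def r213 : WT := (.node (nat_lit 124) (.node (nat_lit 123) (.leaf (nat_lit 57353) [nat_lit 189, nat_lit 54, nat_lit 135, nat_lit 81, nat_lit 81, nat_lit 162, nat_lit 108, nat_lit 189, nat_lit 135]) (.leaf (nat_lit 56323) [nat_lit 135, nat_lit 189, nat_lit 54, nat_lit 135, nat_lit 81, nat_lit 135, nat_lit 81, nat_lit 81, nat_lit 108])) (.node (nat_lit 125) (.leaf (nat_lit 28683) [nat_lit 108, nat_lit 81, nat_lit 81, nat_lit 135, nat_lit 189, nat_lit 108, nat_lit 54, nat_lit 135]) (.leaf (nat_lit 29712) [nat_lit 54, nat_lit 54, nat_lit 135, nat_lit 189, nat_lit 108, nat_lit 162, nat_lit 162, nat_lit 54])))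
noncomputable def r214 : WT := (.node (nat_lit 128) (.node (nat_lit 127) (.leaf (nat_lit 55312) [nat_lit 108, nat_lit 108, nat_lit 162, nat_lit 216, nat_lit 189, nat_lit 108, nat_lit 162, nat_lit 216]) (.leaf (nat_lit 32780) [nat_lit 81, nat_lit 189, nat_lit 54, nat_lit 54, nat_lit 189, nat_lit 81, nat_lit 189, nat_lit 81])) (.node (nat_lit 129) (.leaf (nat_lit 97286) [nat_lit 243, nat_lit 189, nat_lit 189, nat_lit 189, nat_lit 243, nat_lit 54, nat_lit 243, nat_lit 81]) (.leaf (nat_lit 43009) [nat_lit 216, nat_lit 135, nat_lit 216, nat_lit 81, nat_lit 189, nat_lit 108, nat_lit 108, nat_lit 81])))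
noncomputable def r215 : WT := (.node (nat_lit 132) (.node (nat_lit 131) (.leaf (nat_lit 49161) [nat_lit 189, nat_lit 54, nat_lit 189, nat_lit 81, nat_lit 108, nat_lit 108, nat_lit 189, nat_lit 108]) (.leaf (nat_lit 49167) [nat_lit 81, nat_lit 108, nat_lit 108, nat_lit 189, nat_lit 108, nat_lit 189, nat_lit 189, nat_lit 54])) (.node (nat_lit 133) (.leaf (nat_lit 50191) [nat_lit 81, nat_lit 135, nat_lit 189, nat_lit 135, nat_lit 135, nat_lit 162, nat_lit 162, nat_lit 54]) (.node (nat_lit 134) (.leaf (nat_lit 51208) [nat_lit 135, nat_lit 162, nat_lit 135, nat_lit 135, nat_lit 54, nat_lit 162, nat_lit 81, nat_lit 189]) (.leaf (nat_lit 89089) [nat_lit 135, nat_lit 243, nat_lit 81, nat_lit 243, nat_lit 189, nat_lit 243, nat_lit 135, nat_lit 81]))))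
noncomputable def r216 : WT := (.node (nat_lit 107) (.node (nat_lit 99) (.node (nat_lit 96) (.node (nat_lit 94) (.leaf (nat_lit 95240) [nat_lit 189, nat_lit 243, nat_lit 81, nat_lit 243, nat_lit 54, nat_lit 189, nat_lit 189, nat_lit 243]) r201) (.node (nat_lit 97) (.leaf (nat_lit 29701) [nat_lit 189, nat_lit 135, nat_lit 162, nat_lit 108, nat_lit 81, nat_lit 81, nat_lit 162, nat_lit 81]) r202)) (.node (nat_lit 103) (.node (nat_lit 101) r203 r204) (.node (nat_lit 105) r205 r206))) (.node (nat_lit 118) (.node (nat_lit 111) (.node (nat_lit 109) r207 r208) (.node (nat_lit 114) r209 r211)) (.node (nat_lit 126) (.node (nat_lit 122) r212 r213) (.node (nat_lit 130) r214 r215))))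
noncomputable def r217 : WT := (.node (nat_lit 48) (.node (nat_lit 40) (.node (nat_lit 37) (.node (nat_lit 35) (.leaf (nat_lit 53256) [nat_lit 216, nat_lit 162, nat_lit 216, nat_lit 162, nat_lit 54, nat_lit 216, nat_lit 81, nat_lit 189]) r186) (.node (nat_lit 38) (.leaf (nat_lit 47120) [nat_lit 54, nat_lit 135, nat_lit 189, nat_lit 135, nat_lit 189, nat_lit 81, nat_lit 162, nat_lit 135]) r187)) (.node (nat_lit 44) (.node (nat_lit 42) r188 r189) (.node (nat_lit 46) r190 r191))) (.node (nat_lit 61) (.node (nat_lit 53) (.node (nat_lit 50) r192 r193) (.node (nat_lit 57) r194 r195)) (.node (nat_lit 77) (.node (nat_lit 68) r196 r197) (.node (nat_lit 93) r200 r216))))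
noncomputable def w5 : WT := (.node (nat_lit 1) (.leaf (nat_lit 2050) [nat_lit 162]) (.node (nat_lit 7) (.node (nat_lit 3) (.node (nat_lit 2) (.leaf (nat_lit 8193) [nat_lit 189, nat_lit 189, nat_lit 189]) (.leaf (nat_lit 10241) [nat_lit 135, nat_lit 81, nat_lit 189, nat_lit 135, nat_lit 81])) (.node (nat_lit 5) r179 r180)) (.node (nat_lit 18) (.node (nat_lit 11) r181 r182) (.node (nat_lit 34) r185 r217))))
noncomputable def r218 : WT := (.node (nat_lit 5) (.leaf (nat_lit 11265) [nat_lit 81, nat_lit 216, nat_lit 81, nat_lit 216, nat_lit 81]) (.leaf (nat_lit 11266) [nat_lit 54, nat_lit 216, nat_lit 54, nat_lit 216, nat_lit 54]))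
noncomputable def r219 : WT := (.node (nat_lit 7) (.leaf (nat_lit 27654) [nat_lit 162, nat_lit 216, nat_lit 189, nat_lit 216, nat_lit 162, nat_lit 216, nat_lit 189]) (.leaf (nat_lit 25612) [nat_lit 189, nat_lit 108, nat_lit 162, nat_lit 216, nat_lit 189, nat_lit 135, nat_lit 162]))
noncomputable def r220 : WT := (.node (nat_lit 10) (.node (nat_lit 9) (.leaf (nat_lit 52227) [nat_lit 189, nat_lit 216, nat_lit 189, nat_lit 189, nat_lit 54, nat_lit 216, nat_lit 81, nat_lit 189]) (.leaf (nat_lit 17411) [nat_lit 135, nat_lit 216, nat_lit 81, nat_lit 189, nat_lit 135, nat_lit 81, nat_lit 189])) (.node (nat_lit 11) (.leaf (nat_lit 52226) [nat_lit 81, nat_lit 162, nat_lit 162, nat_lit 216, nat_lit 162, nat_lit 216, nat_lit 162, nat_lit 54]) (.node (nat_lit 12) (.leaf (nat_lit 27650) [nat_lit 189, nat_lit 216, nat_lit 162, nat_lit 216, nat_lit 189, nat_lit 216, nat_lit 162]) (.leaf (nat_lit 52231) [nat_lit 189, nat_lit 189, nat_lit 54, nat_lit 216, nat_lit 81, nat_lit 189,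 nat_lit 216, nat_lit 189]))))
noncomputable def r221 : WT := (.node (nat_lit 21) (.leaf (nat_lit 53255) [nat_lit 162, nat_lit 162, nat_lit 54, nat_lit 216, nat_lit 81, nat_lit 189, nat_lit 216, nat_lit 189]) (.node (nat_lit 22) (.leaf (nat_lit 9217) [nat_lit 135, nat_lit 216, nat_lit 135, nat_lit 135]) (.leaf (nat_lit 37891) [nat_lit 108, nat_lit 216, nat_lit 108, nat_lit 81, nat_lit 189, nat_lit 135, nat_lit 81, nat_lit 189])))
noncomputable def r222 : WT := (.node (nat_lit 26) (.node (nat_lit 24) (.leaf (nat_lit 17420) [nat_lit 162, nat_lit 54, nat_lit 108, nat_lit 162, nat_lit 54, nat_lit 216, nat_lit 108]) (.node (nat_lit 25) (.leaf (nat_lit 9220) [nat_lit 108, nat_lit 216, nat_lit 108, nat_lit 108]) (.leaf (nat_lit 21508) [nat_lit 108, nat_lit 54, nat_lit 216, nat_lit 54, nat_lit 216, nat_lit 54, nat_lit 135]))) (.node (nat_lit 27) (.leaf (nat_lit 13324) [nat_lit 54, nat_lit 54, nat_lit 216, nat_lit 81, nat_lit 216, nat_lit 81]) (.node (nat_lit 28) (.leaf (nat_lit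 9224) [nat_lit 108, nat_lit 108, nat_lit 216, nat_lit 108]) (.leaf (nat_lit 53262) [nat_lit 162, nat_lit 54, nat_lit 216, nat_lit 81, nat_lit 189, nat_lit 189, nat_lit 216, nat_lit 162]))))
noncomputable def r223 : WT := (.node (nat_lit 33) (.node (nat_lit 31) (.node (nat_lit 30) (.leaf (nat_lit 9221) [nat_lit 135, nat_lit 135, nat_lit 216, nat_lit 135]) (.leaf (nat_lit 17415) [nat_lit 81, nat_lit 189, nat_lit 135, nat_lit 81, nat_lit 189, nat_lit 216, nat_lit 135])) (.node (nat_lit 32) (.leaf (nat_lit 18443) [nat_lit 135, nat_lit 81, nat_lit 216, nat_lit 81, nat_lit 216, nat_lit 81, nat_lit 108]) (.leaf (nat_lit 53250) [nat_lit 81, nat_lit 189, nat_lit 189, nat_lit 216, nat_lit 162, nat_lit 216, nat_lit 162, nat_lit 54]))) (.node (nat_lit 35) (.node (nat_lit 34) (.leaf (nat_lit 18436) [nat_lit 135, nat_lit 54, nat_lit 216, nat_lit 54, nat_lit 216, nat_lit 54, nat_lit 108]) (.leaf (nat_lit 21514) [nat_lit 54, nat_lit 216, nat_lit 54, nat_lit 135, nat_lit 216, nat_lit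 108, nat_lit 54])) (.node (nat_lit 36) (.leaf (nat_lit 53251) [nat_lit 189, nat_lit 216, nat_lit 162, nat_lit 162, nat_lit 54, nat_lit 216, nat_lit 81, nat_lit 189]) (.node (nat_lit 37) (.leaf (nat_lit 114692) [nat_lit 243, nat_lit 108, nat_lit 216, nat_lit 243, nat_lit 108, nat_lit 216, nat_lit 243, nat_lit 108, nat_lit 216, nat_lit 243, nat_lit 108]) (.leaf (nat_lit 13321) [nat_lit 81, nat_lit 81, nat_lit 216, nat_lit 54, nat_lit 216, nat_lit 54])))))
noncomputable def r224 : WT := (.node (nat_lit 48) (.leaf (nat_lit 37895) [nat_lit 108, nat_lit 81, nat_lit 189, nat_lit 135, nat_lit 81, nat_lit 189, nat_lit 216, nat_lit 108]) (.leaf (nat_lit 18433) [nat_lit 81, nat_lit 216, nat_lit 81, nat_lit 108, nat_lit 216, nat_lit 135, nat_lit 81]))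
noncomputable def r225 : WT := (.node (nat_lit 51) (.leaf (nat_lit 18437) [nat_lit 81, nat_lit 108, nat_lit 216, nat_lit 135, nat_lit 81, nat_lit 216, nat_lit 81]) (.leaf (nat_lit 43018) [nat_lit 108, nat_lit 216, nat_lit 162, nat_lit 54, nat_lit 135, nat_lit 135, nat_lit 162, nat_lit 54]))
noncomputable def r226 : WT := (.node (nat_lit 53) (.leaf (nat_lit 21509) [nat_lit 81, nat_lit 135, nat_lit 216, nat_lit 108, nat_lit 81, nat_lit 216, nat_lit 81]) (.leaf (nat_lit 138244) [nat_lit 81, nat_lit 297, nat_lit 54]))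
noncomputable def r227 : WT := (.node (nat_lit 55) (.leaf (nat_lit 114689) [nat_lit 135, nat_lit 243, nat_lit 216, nat_lit 135, nat_lit 243, nat_lit 216, nat_lit 135, nat_lit 243, nat_lit 216, nat_lit 135, nat_lit 243]) (.node (nat_lit 56) (.leaf (nat_lit 55299) [nat_lit 189, nat_lit 135, nat_lit 162, nat_lit 216, nat_lit 189, nat_lit 135, nat_lit 135, nat_lit 162]) (.leaf (nat_lit 76813) [nat_lit 135, nat_lit 216, nat_lit 243, nat_lit 135, nat_lit 243, nat_lit 135, nat_lit 243])))
noncomputable def r228 : WT := (.node (nat_lit 58) (.leaf (nat_lit 34820) [nat_lit 81, nat_lit 135, nat_lit 216, nat_lit 108, nat_lit 81, nat_lit 216, nat_lit 54, nat_lit 54]) (.node (nat_lit 59) (.leaf (nat_lit 37898) [nat_lit 135, nat_lit 216, nat_lit 162, nat_lit 54, nat_lit 108, nat_lit 162, nat_lit 54, nat_lit 135]) (.leaf (nat_lit 38920) [nat_lit 135, nat_lit 135, nat_lit 216, nat_lit 162, nat_lit 54, nat_lit 108, nat_lit 162, nat_lit 54])))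
noncomputable def r229 : WT := (.node (nat_lit 61) (.leaf (nat_lit 38915) [nat_lit 108, nat_lit 108, nat_lit 216, nat_lit 81, nat_lit 189, nat_lit 135, nat_lit 81, nat_lit 189]) (.node (nat_lit 62) (.leaf (nat_lit 38921) [nat_lit 81, nat_lit 189, nat_lit 135, nat_lit 81, nat_lit 189, nat_lit 216, nat_lit 108, nat_lit 108]) (.leaf (nat_lit 43011) [nat_lit 135, nat_lit 216, nat_lit 81, nat_lit 189, nat_lit 108, nat_lit 108, nat_lit 81, nat_lit 189])))
noncomputable def r230 : WT := (.node (nat_lit 46) (.node (nat_lit 42) (.node (nat_lit 40) (.node (nat_lit 39) (.leaf (nat_lit 55302) [nat_lit 189, nat_lit 108, nat_lit 162, nat_lit 216, nat_lit 189, nat_lit 108, nat_lit 108, nat_lit 162]) (.leaf (nat_lit 21518) [nat_lit 54, nat_lit 135, nat_lit 216, nat_lit 108, nat_lit 54, nat_lit 216, nat_lit 54])) (.node (nat_lit 41) (.leaf (nat_lit 55310) [nat_lit 189, nat_lit 108, nat_lit 108, nat_lit 162, nat_lit 216, nat_lit 189, nat_lit 108, nat_lit 162]) (.leaf (nat_lit 53263)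 [nat_lit 81, nat_lit 189, nat_lit 216, nat_lit 189, nat_lit 216, nat_lit 162, nat_lit 162, nat_lit 54]))) (.node (nat_lit 44) (.node (nat_lit 43) (.leaf (nat_lit 116740) [nat_lit 243, nat_lit 135, nat_lit 216, nat_lit 243, nat_lit 135, nat_lit 216, nat_lit 243, nat_lit 135, nat_lit 216, nat_lit 243, nat_lit 135]) (.leaf (nat_lit 18446) [nat_lit 54, nat_lit 108, nat_lit 216, nat_lit 135, nat_lit 54, nat_lit 216, nat_lit 54])) (.node (nat_lit 45) (.leaf (nat_lit 21505) [nat_lit 81, nat_lit 216, nat_lit 81, nat_lit 135, nat_lit 216, nat_lit 108, nat_lit 81]) (.leaf (nat_lit 21515) [nat_lit 108, nat_lit 81, nat_lit 216, nat_lit 81, nat_lit 216, nat_lit 81, nat_lit 135])))) (.node (nat_lit 52) (.node (nat_lit 49) (.node (nat_lit 47) (.leaf (nat_lit 18442) [nat_lit 54, nat_lit 216, nat_lit 54, nat_lit 108, nat_lit 216, nat_lit 135, nat_lit 54]) r224) (.node (nat_lit 50) (.leaf (nat_lit 34826) [nat_lit 108, nat_lit 81, nat_lit 216, nat_lit 54, nat_lit 54, nat_lit 216, nat_lit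 81, nat_lit 135]) r225)) (.node (nat_lit 57) (.node (nat_lit 54) r226 r227) (.node (nat_lit 60) r228 r229))))
noncomputable def r231 : WT := (.node (nat_lit 17) (.node (nat_lit 15) (.node (nat_lit 14) (.leaf (nat_lit 52238) [nat_lit 162, nat_lit 54, nat_lit 216, nat_lit 81, nat_lit 162, nat_lit 162, nat_lit 216, nat_lit 162]) (.leaf (nat_lit 52234) [nat_lit 162, nat_lit 216, nat_lit 162, nat_lit 54, nat_lit 216, nat_lit 81, nat_lit 162, nat_lit 162])) (.node (nat_lit 16) (.leaf (nat_lit 13316) [nat_lit 81, nat_lit 216, nat_lit 81, nat_lit 216, nat_lit 54, nat_lit 54]) (.leaf (nat_lit 13313) [nat_lit 54, nat_lit 216, nat_lit 54, nat_lit 216, nat_lit 81, nat_lit 81]))) (.node (nat_lit 20) (.node (nat_lit 18) (.leaf (nat_lit 52239) [nat_lit 81, nat_lit 189, nat_lit 216, nat_lit 189, nat_lit 216, nat_lit 189, nat_lit 189, nat_lit 54]) (.node (nat_lit 19) (.leaf (nat_lit 53258) [nat_lit 162, nat_lit 216, nat_lit 162, nat_lit 54, nat_lit 216, nat_lit 81, nat_lit 189, nat_lit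 189]) (.leaf (nat_lit 17416) [nat_lit 108, nat_lit 216, nat_lit 162, nat_lit 54, nat_lit 108, nat_lit 162, nat_lit 54]))) (.node (nat_lit 29) (.node (nat_lit 23) r221 r222) (.node (nat_lit 38) r223 r230))))
noncomputable def w6 : WT := (.node (nat_lit 1) (.leaf (nat_lit 3072) [nat_lit 216]) (.node (nat_lit 4) (.node (nat_lit 2) (.leaf (nat_lit 7174) [nat_lit 108, nat_lit 216, nat_lit 135]) (.node (nat_lit 3) (.leaf (nat_lit 25604) [nat_lit 189, nat_lit 135, nat_lit 162, nat_lit 216, nat_lit 189, nat_lit 108, nat_lit 162]) (.leaf (nat_lit 7170) [nat_lit 135, nat_lit 216, nat_lit 108]))) (.node (nat_lit 8) (.node (nat_lit 6) r218 r219) (.node (nat_lit 13) r220 r231))))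
noncomputable def r232 : WT := (.node (nat_lit 3) (.leaf (nat_lit 67586) [nat_lit 81, nat_lit 189, nat_lit 243, nat_lit 162, nat_lit 243, nat_lit 54]) (.leaf (nat_lit 66562) [nat_lit 108, nat_lit 243, nat_lit 108, nat_lit 243, nat_lit 108]))
noncomputable def r233 : WT := (.node (nat_lit 6) (.leaf (nat_lit 67592) [nat_lit 162, nat_lit 243, nat_lit 54, nat_lit 243, nat_lit 81, nat_lit 189]) (.leaf (nat_lit 66561) [nat_lit 135, nat_lit 243, nat_lit 135, nat_lit 243, nat_lit 135]))
noncomputable def r234 : WT := (.node (nat_lit 8) (.leaf (nat_lit 67589) [nat_lit 162, nat_lit 54, nat_lit 243, nat_lit 81, nat_lit 243, nat_lit 189]) (.node (nat_lit 9) (.leaf (nat_lit 73732) [nat_lit 135, nat_lit 81, nat_lit 108, nat_lit 243, nat_lit 135, nat_lit 54, nat_lit 108]) (.leaf (nat_lit 75782) [nat_lit 108, nat_lit 189, nat_lit 135, nat_lit 243, nat_lit 108, nat_lit 162, nat_lit 135])))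
noncomputable def r235 : WT := (.node (nat_lit 12) (.node (nat_lit 11) (.leaf (nat_lit 71686) [nat_lit 54, nat_lit 108, nat_lit 162, nat_lit 243, nat_lit 54, nat_lit 108, nat_lit 162]) (.leaf (nat_lit 75790) [nat_lit 108, nat_lit 162, nat_lit 135, nat_lit 243, nat_lit 108, nat_lit 189, nat_lit 135])) (.node (nat_lit 14) (.node (nat_lit 13) (.leaf (nat_lit 71681) [nat_lit 189, nat_lit 135, nat_lit 81, nat_lit 243, nat_lit 189, nat_lit 135, nat_lit 81]) (.leaf (nat_lit 73740) [nat_lit 135, nat_lit 54, nat_lit 108, nat_lit 243, nat_lit 135, nat_lit 81, nat_lit 108])) (.node (nat_lit 15) (.leaf (nat_lit 69633) [nat_lit 81, nat_lit 243, nat_lit 189, nat_lit 243, nat_lit 162, nat_lit 81, nat_lit 81]) (.leaf (nat_lit 67595) [nat_lit 81, nat_lit 243, nat_lit 189, nat_lit 243, nat_lit 162, nat_lit 54]))))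
noncomputable def r236 : WT := (.node (nat_lit 29) (.leaf (nat_lit 77826) [nat_lit 189, nat_lit 243, nat_lit 162, nat_lit 243, nat_lit 189, nat_lit 243, nat_lit 162]) (.leaf (nat_lit 87056) [nat_lit 54, nat_lit 108, nat_lit 243, nat_lit 135, nat_lit 81, nat_lit 135, nat_lit 243, nat_lit 108]))
noncomputable def r237 : WT := (.node (nat_lit 31) (.leaf (nat_lit 90128) [nat_lit 54, nat_lit 135, nat_lit 54, nat_lit 243, nat_lit 81, nat_lit 108, nat_lit 243, nat_lit 81]) (.leaf (nat_lit 77830) [nat_lit 162, nat_lit 243, nat_lit 189, nat_lit 243, nat_lit 162, nat_lit 243, nat_lit 189]))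
noncomputable def r238 : WT := (.node (nat_lit 33) (.leaf (nat_lit 74754) [nat_lit 81, nat_lit 243, nat_lit 54, nat_lit 243, nat_lit 81, nat_lit 243, nat_lit 54]) (.leaf (nat_lit 70657) [nat_lit 81, nat_lit 189, nat_lit 243, nat_lit 162, nat_lit 243, nat_lit 81, nat_lit 81]))
noncomputable def r239 : WT := (.node (nat_lit 23) (.node (nat_lit 19) (.node (nat_lit 17) (.leaf (nat_lit 114688) [nat_lit 108, nat_lit 216, nat_lit 243, nat_lit 108, nat_lit 216, nat_lit 243, nat_lit 108, nat_lit 216, nat_lit 243, nat_lit 108, nat_lit 216]) (.node (nat_lit 18) (.leaf (nat_lit 92171) [nat_lit 189, nat_lit 189, nat_lit 81, nat_lit 243, nat_lit 54, nat_lit 243, nat_lit 189, nat_lit 189]) (.leaf (nat_lit 68612) [nat_lit 135, nat_lit 243, nat_lit 135, nat_lit 243, nat_lit 108, nat_lit 108]))) (.node (nat_lit 21) (.node (nat_lit 20) (.leaf (nat_lit 72710) [nat_lit 189, nat_lit 135, nat_lit 81, nat_lit 243, nat_lit 54, nat_lit 108, nat_lit 162]) (.leaf (nat_lit 79876) [nat_lit 54,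 nat_lit 108, nat_lit 162, nat_lit 243, nat_lit 189, nat_lit 135, nat_lit 54, nat_lit 54])) (.node (nat_lit 22) (.leaf (nat_lit 90118) [nat_lit 81, nat_lit 108, nat_lit 243, nat_lit 81, nat_lit 243, nat_lit 54, nat_lit 135, nat_lit 54]) (.leaf (nat_lit 68609) [nat_lit 108, nat_lit 243, nat_lit 108, nat_lit 243, nat_lit 135, nat_lit 135])))) (.node (nat_lit 27) (.node (nat_lit 25) (.node (nat_lit 24) (.leaf (nat_lit 72718) [nat_lit 54, nat_lit 108, nat_lit 162, nat_lit 243, nat_lit 189, nat_lit 135, nat_lit 81]) (.leaf (nat_lit 70660) [nat_lit 189, nat_lit 243, nat_lit 162, nat_lit 54, nat_lit 243, nat_lit 54, nat_lit 54])) (.node (nat_lit 26) (.leaf (nat_lit 92166) [nat_lit 162, nat_lit 162, nat_lit 243, nat_lit 81, nat_lit 243, nat_lit 54, nat_lit 162, nat_lit 162]) (.leaf (nat_lit 114693) [nat_lit 216, nat_lit 135, nat_lit 243, nat_lit 216, nat_lit 135, nat_lit 243, nat_lit 216, nat_lit 135, nat_lit 243, nat_lit 216, nat_lit 135]))) (.node (nat_lit 30) (.node (nat_lit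 28) (.leaf (nat_lit 74758) [nat_lit 54, nat_lit 243, nat_lit 81, nat_lit 243, nat_lit 54, nat_lit 243, nat_lit 81]) r236) (.node (nat_lit 32) r237 r238))))
noncomputable def r240 : WT := (.node (nat_lit 35) (.leaf (nat_lit 93196) [nat_lit 81, nat_lit 243, nat_lit 54, nat_lit 162, nat_lit 162, nat_lit 243, nat_lit 189, nat_lit 189]) (.leaf (nat_lit 92172) [nat_lit 81, nat_lit 243, nat_lit 54, nat_lit 162, nat_lit 162, nat_lit 243, nat_lit 162, nat_lit 162]))
noncomputable def r241 : WT := (.node (nat_lit 37) (.leaf (nat_lit 90117) [nat_lit 135, nat_lit 54, nat_lit 243, nat_lit 81, nat_lit 108, nat_lit 81, nat_lit 243, nat_lit 54]) (.node (nat_lit 38) (.leaf (nat_lit 102407) [nat_lit 108, nat_lit 243, nat_lit 135, nat_lit 162, nat_lit 135, nat_lit 243, nat_lit 108, nat_lit 189]) (.leaf (nat_lit 99332) [nat_lit 108, nat_lit 162, nat_lit 135, nat_lit 243, nat_lit 108, nat_lit 189, nat_lit 108, nat_lit 108])))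
noncomputable def r242 : WT := (.node (nat_lit 40) (.leaf (nat_lit 92176) [nat_lit 54, nat_lit 162, nat_lit 162, nat_lit 243, nat_lit 162, nat_lit 162, nat_lit 243, nat_lit 81]) (.leaf (nat_lit 103436) [nat_lit 189, nat_lit 243, nat_lit 108, nat_lit 189, nat_lit 243, nat_lit 162, nat_lit 135, nat_lit 162]))
noncomputable def r243 : WT := (.node (nat_lit 42) (.leaf (nat_lit 90124) [nat_lit 81, nat_lit 243, nat_lit 54, nat_lit 135, nat_lit 54, nat_lit 243, nat_lit 81, nat_lit 108]) (.node (nat_lit 43) (.leaf (nat_lit 69642) [nat_lit 54, nat_lit 243, nat_lit 54, nat_lit 54, nat_lit 189, nat_lit 243, nat_lit 162]) (.leaf (nat_lit 102416) [nat_lit 108, nat_lit 189, nat_lit 108, nat_lit 243, nat_lit 135, nat_lit 243, nat_lit 162, nat_lit 135])))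
noncomputable def r244 : WT := (.node (nat_lit 45) (.leaf (nat_lit 87041) [nat_lit 135, nat_lit 243, nat_lit 108, nat_lit 54, nat_lit 108, nat_lit 243, nat_lit 135, nat_lit 81]) (.node (nat_lit 46) (.leaf (nat_lit 85005) [nat_lit 135, nat_lit 81, nat_lit 108, nat_lit 243, nat_lit 135, nat_lit 54, nat_lit 135, nat_lit 135]) (.leaf (nat_lit 94214) [nat_lit 162, nat_lit 162, nat_lit 243, nat_lit 81, nat_lit 243, nat_lit 54, nat_lit 189, nat_lit 189])))
noncomputable def r245 : WT := (.node (nat_lit 48) (.leaf (nat_lit 93195) [nat_lit 189, nat_lit 189, nat_lit 81, nat_lit 243, nat_lit 54, nat_lit 243, nat_lit 162, nat_lit 162]) (.node (nat_lit 49) (.leaf (nat_lit 102410) [nat_lit 162, nat_lit 135, nat_lit 243, nat_lit 108, nat_lit 189, nat_lit 108, nat_lit 243, nat_lit 135]) (.leaf (nat_lit 90113) [nat_lit 54, nat_lit 243, nat_lit 135, nat_lit 54, nat_lit 243, nat_lit 81, nat_lit 108, nat_lit 81])))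
noncomputable def r246 : WT := (.node (nat_lit 51) (.leaf (nat_lit 88080) [nat_lit 54, nat_lit 108, nat_lit 243, nat_lit 162, nat_lit 54, nat_lit 243, nat_lit 108, nat_lit 162]) (.node (nat_lit 52) (.leaf (nat_lit 116736) [nat_lit 135, nat_lit 216, nat_lit 243, nat_lit 135, nat_lit 216, nat_lit 243, nat_lit 135, nat_lit 216, nat_lit 243, nat_lit 135, nat_lit 216]) (.leaf (nat_lit 101383) [nat_lit 108, nat_lit 243, nat_lit 135, nat_lit 189, nat_lit 135, nat_lit 243, nat_lit 108, nat_lit 162])))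
noncomputable def r247 : WT := (.node (nat_lit 55) (.node (nat_lit 54) (.leaf (nat_lit 87044) [nat_lit 135, nat_lit 81, nat_lit 135, nat_lit 243, nat_lit 108, nat_lit 243, nat_lit 54, nat_lit 108]) (.leaf (nat_lit 103428) [nat_lit 162, nat_lit 135, nat_lit 162, nat_lit 243, nat_lit 189, nat_lit 243, nat_lit 108, nat_lit 189])) (.node (nat_lit 56) (.leaf (nat_lit 80900) [nat_lit 54, nat_lit 243, nat_lit 81, nat_lit 243, nat_lit 54, nat_lit 243, nat_lit 54, nat_lit 54]) (.leaf (nat_lit 101382) [nat_lit 135, nat_lit 243, nat_lit 189, nat_lit 135, nat_lit 243, nat_lit 108, nat_lit 162, nat_lit 108])))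
noncomputable def r248 : WT := (.node (nat_lit 59) (.node (nat_lit 58) (.leaf (nat_lit 97296) [nat_lit 54, nat_lit 243, nat_lit 81, nat_lit 189, nat_lit 243, nat_lit 189, nat_lit 189, nat_lit 189]) (.leaf (nat_lit 90123) [nat_lit 81, nat_lit 108, nat_lit 81, nat_lit 243, nat_lit 54, nat_lit 243, nat_lit 135, nat_lit 54])) (.node (nat_lit 60) (.leaf (nat_lit 92161) [nat_lit 54, nat_lit 243, nat_lit 189, nat_lit 189, nat_lit 243, nat_lit 189, nat_lit 189, nat_lit 81]) (.leaf (nat_lit 91140) [nat_lit 108, nat_lit 243, nat_lit 81, nat_lit 108, nat_lit 243, nat_lit 135, nat_lit 54, nat_lit 135])))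
noncomputable def r249 : WT := (.node (nat_lit 63) (.node (nat_lit 62) (.leaf (nat_lit 99341) [nat_lit 135, nat_lit 135, nat_lit 162, nat_lit 135, nat_lit 243, nat_lit 108, nat_lit 189, nat_lit 135]) (.leaf (nat_lit 91150) [nat_lit 135, nat_lit 54, nat_lit 135, nat_lit 243, nat_lit 108, nat_lit 243, nat_lit 81, nat_lit 108])) (.node (nat_lit 64) (.leaf (nat_lit 99340) [nat_lit 108, nat_lit 189, nat_lit 108, nat_lit 108, nat_lit 243, nat_lit 108, nat_lit 162, nat_lit 135]) (.node (nat_lit 65) (.leaf (nat_lit 102406) [nat_lit 135, nat_lit 243, nat_lit 162, nat_lit 135, nat_lit 243, nat_lit 108, nat_lit 189, nat_lit 108]) (.leaf (nat_lit 96268) [nat_lit 162, nat_lit 243, nat_lit 54, nat_lit 243, nat_lit 81, nat_lit 162, nat_lit 162, nat_lit 162]))))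
noncomputable def r250 : WT := (.node (nat_lit 69) (.node (nat_lit 67) (.leaf (nat_lit 87052) [nat_lit 108, nat_lit 243, nat_lit 54, nat_lit 108, nat_lit 243, nat_lit 135, nat_lit 81, nat_lit 135]) (.node (nat_lit 68) (.leaf (nat_lit 103440) [nat_lit 108, nat_lit 189, nat_lit 243, nat_lit 162, nat_lit 135, nat_lit 162, nat_lit 243, nat_lit 189]) (.leaf (nat_lit 89101) [nat_lit 135, nat_lit 81, nat_lit 189, nat_lit 135, nat_lit 243, nat_lit 81, nat_lit 243, nat_lit 189]))) (.node (nat_lit 70) (.leaf (nat_lit 101386) [nat_lit 189, nat_lit 135, nat_lit 243, nat_lit 108, nat_lit 162, nat_lit 108, nat_lit 243, nat_lit 135]) (.node (nat_lit 71) (.leaf (nat_lit 101392) [nat_lit 108, nat_lit 162, nat_lit 108, nat_lit 243, nat_lit 135, nat_lit 243, nat_lit 189, nat_lit 135]) (.leaf (nat_lit 89092) [nat_lit 162, nat_lit 243, nat_lit 54, nat_lit 243, nat_lit 108, nat_lit 162, nat_lit 54, nat_lit 108]))))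
noncomputable def r251 : WT := (.node (nat_lit 75) (.node (nat_lit 73) (.leaf (nat_lit 88077) [nat_lit 135, nat_lit 81, nat_lit 243, nat_lit 189, nat_lit 135, nat_lit 243, nat_lit 81, nat_lit 189]) (.node (nat_lit 74) (.leaf (nat_lit 88068) [nat_lit 162, nat_lit 54, nat_lit 243, nat_lit 108, nat_lit 162, nat_lit 243, nat_lit 54, nat_lit 108]) (.leaf (nat_lit 88074) [nat_lit 108, nat_lit 162, nat_lit 243, nat_lit 54, nat_lit 108, nat_lit 243, nat_lit 162, nat_lit 54]))) (.node (nat_lit 76) (.leaf (nat_lit 81924) [nat_lit 189, nat_lit 135, nat_lit 81, nat_lit 243, nat_lit 189, nat_lit 135, nat_lit 54, nat_lit 54]) (.node (nat_lit 77) (.leaf (nat_lit 111616) [nat_lit 54, nat_lit 162, nat_lit 243, nat_lit 54, nat_lit 162, nat_lit 243, nat_lit 54, nat_lit 162, nat_lit 243, nat_lit 54, nat_lit 162]) (.leaf (nat_lit 87045) [nat_lit 108, nat_lit 54, nat_lit 108, nat_lit 243, nat_lit 135, nat_lit 81, nat_lit 243, nat_lit 135]))))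
noncomputable def r252 : WT := (.node (nat_lit 82) (.node (nat_lit 80) (.node (nat_lit 79) (.leaf (nat_lit 103429) [nat_lit 189, nat_lit 108, nat_lit 189, nat_lit 243, nat_lit 162, nat_lit 135, nat_lit 243, nat_lit 162]) (.leaf (nat_lit 93190) [nat_lit 189, nat_lit 189, nat_lit 243, nat_lit 81, nat_lit 243, nat_lit 54, nat_lit 162, nat_lit 162])) (.node (nat_lit 81) (.leaf (nat_lit 88065) [nat_lit 189, nat_lit 135, nat_lit 243, nat_lit 81, nat_lit 189, nat_lit 243, nat_lit 135, nat_lit 81]) (.leaf (nat_lit 88071) [nat_lit 81, nat_lit 189, nat_lit 243, nat_lit 135, nat_lit 81, nat_lit 243, nat_lit 189, nat_lit 135]))) (.node (nat_lit 84) (.node (nat_lit 83) (.leaf (nat_lit 91149) [nat_lit 108, nat_lit 81, nat_lit 108, nat_lit 243, nat_lit 135, nat_lit 54, nat_lit 243, nat_lit 135]) (.leaf (nat_lit 91145) [nat_lit 135, nat_lit 243, nat_lit 108, nat_lit 81, nat_lit 108, nat_lit 243, nat_lit 135, nat_lit 54])) (.node (nat_lit 85) (.leaf (nat_lit 89096) [nat_lit 54, nat_lit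 243, nat_lit 108, nat_lit 162, nat_lit 54, nat_lit 108, nat_lit 243, nat_lit 162]) (.leaf (nat_lit 78859) [nat_lit 135, nat_lit 81, nat_lit 81, nat_lit 108, nat_lit 243, nat_lit 135, nat_lit 81, nat_lit 108]))))
noncomputable def r253 : WT := (.node (nat_lit 92) (.node (nat_lit 89) (.node (nat_lit 87) (.leaf (nat_lit 101387) [nat_lit 135, nat_lit 189, nat_lit 135, nat_lit 243, nat_lit 108, nat_lit 162, nat_lit 243, nat_lit 108]) (.node (nat_lit 88) (.leaf (nat_lit 78851) [nat_lit 135, nat_lit 81, nat_lit 108, nat_lit 243, nat_lit 135, nat_lit 81, nat_lit 81, nat_lit 108]) (.leaf (nat_lit 103437) [nat_lit 162, nat_lit 135, nat_lit 243, nat_lit 162, nat_lit 243, nat_lit 189, nat_lit 108, nat_lit 189]))) (.node (nat_lit 90) (.leaf (nat_lit 97289) [nat_lit 162, nat_lit 54, nat_lit 243, nat_lit 81, nat_lit 243, nat_lit 162, nat_lit 162, nat_lit 162]) (.node (nat_lit 91) (.leaf (nat_lit 68617) [nat_lit 135, nat_lit 135, nat_lit 243, nat_lit 108, nat_lit 243, nat_lit 108])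 (.leaf (nat_lit 100356) [nat_lit 108, nat_lit 189, nat_lit 135, nat_lit 243, nat_lit 108, nat_lit 162, nat_lit 108, nat_lit 108])))) (.node (nat_lit 95) (.node (nat_lit 93) (.leaf (nat_lit 89093) [nat_lit 81, nat_lit 243, nat_lit 189, nat_lit 243, nat_lit 135, nat_lit 81, nat_lit 189, nat_lit 135]) (.node (nat_lit 94) (.leaf (nat_lit 89097) [nat_lit 189, nat_lit 243, nat_lit 135, nat_lit 81, nat_lit 189, nat_lit 135, nat_lit 243, nat_lit 81]) (.leaf (nat_lit 112640) [nat_lit 81, nat_lit 189, nat_lit 243, nat_lit 81, nat_lit 189, nat_lit 243, nat_lit 81, nat_lit 189, nat_lit 243, nat_lit 81, nat_lit 189]))) (.node (nat_lit 96) (.leaf (nat_lit 84996) [nat_lit 108, nat_lit 108, nat_lit 81, nat_lit 108, nat_lit 243, nat_lit 135, nat_lit 54, nat_lit 108]) (.node (nat_lit 97) (.leaf (nat_lit 68620) [nat_lit 108, nat_lit 108, nat_lit 243, nat_lit 135, nat_lit 243, nat_lit 135]) (.leaf (nat_lit 128000) [nat_lit 216, nat_lit 243, nat_lit 216, nat_lit 243, nat_lit 216, nat_lit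 243, nat_lit 216, nat_lit 243, nat_lit 216, nat_lit 243, nat_lit 216])))))
noncomputable def r254 : WT := (.leaf (nat_lit 129024) [nat_lit 162, nat_lit 243, nat_lit 162, nat_lit 243, nat_lit 162, nat_lit 243, nat_lit 162, nat_lit 243, nat_lit 162, nat_lit 243, nat_lit 162, nat_lit 243, nat_lit 162, nat_lit 243, nat_lit 162])
noncomputable def r255 : WT := (.node (nat_lit 108) r254 (.leaf (nat_lit 104456) [nat_lit 54, nat_lit 243, nat_lit 135, nat_lit 54, nat_lit 243, nat_lit 54, nat_lit 54, nat_lit 108, nat_lit 81]))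
noncomputable def r256 : WT := (.leaf (nat_lit 134144) [nat_lit 135, nat_lit 189, nat_lit 243, nat_lit 135, nat_lit 189, nat_lit 243, nat_lit 135, nat_lit 189, nat_lit 243, nat_lit 135, nat_lit 189, nat_lit 243, nat_lit 135, nat_lit 189, nat_lit 243, nat_lit 135, nat_lit 189])
noncomputable def r257 : WT := (.node (nat_lit 111) (.leaf (nat_lit 115712) [nat_lit 135, nat_lit 162, nat_lit 243, nat_lit 135, nat_lit 162, nat_lit 243, nat_lit 135, nat_lit 162, nat_lit 243, nat_lit 135, nat_lit 162]) (.leaf (nat_lit 103425) [nat_lit 162, nat_lit 243, nat_lit 189, nat_lit 108, nat_lit 189, nat_lit 243, nat_lit 162, nat_lit 135]))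
noncomputable def r258 : WT := (.node (nat_lit 114) (.leaf (nat_lit 112645) [nat_lit 162, nat_lit 54, nat_lit 243, nat_lit 162, nat_lit 54, nat_lit 243, nat_lit 162, nat_lit 54, nat_lit 243, nat_lit 162, nat_lit 54]) (.leaf (nat_lit 106512) [nat_lit 135, nat_lit 54, nat_lit 54, nat_lit 189, nat_lit 135, nat_lit 243, nat_lit 81, nat_lit 243, nat_lit 189]))
noncomputable def r259 : WT := (.node (nat_lit 104) (.node (nat_lit 101) (.node (nat_lit 99) (.leaf (nat_lit 86028) [nat_lit 108, nat_lit 108, nat_lit 54, nat_lit 108, nat_lit 243, nat_lit 135, nat_lit 81, nat_lit 108]) (.node (nat_lit 100) (.leaf (nat_lit 79885) [nat_lit 81, nat_lit 81, nat_lit 108, nat_lit 162, nat_lit 243, nat_lit 189, nat_lit 135, nat_lit 81]) (.leaf (nat_lit 115717) [nat_lit 189, nat_lit 108, nat_lit 243, nat_lit 189, nat_lit 108, nat_lit 243, nat_lit 189, nat_lit 108, nat_lit 243, nat_lit 189, nat_lit 108]))) (.node (nat_lit 102) (.leaf (nat_lit 89100) [nat_lit 108, nat_lit 162, nat_lit 54,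 nat_lit 108, nat_lit 243, nat_lit 162, nat_lit 243, nat_lit 54]) (.node (nat_lit 103) (.leaf (nat_lit 91144) [nat_lit 81, nat_lit 108, nat_lit 243, nat_lit 135, nat_lit 54, nat_lit 135, nat_lit 243, nat_lit 108]) (.leaf (nat_lit 79884) [nat_lit 189, nat_lit 135, nat_lit 54, nat_lit 54, nat_lit 243, nat_lit 54, nat_lit 108, nat_lit 162])))) (.node (nat_lit 109) (.node (nat_lit 106) (.node (nat_lit 105) (.leaf (nat_lit 79877) [nat_lit 189, nat_lit 135, nat_lit 81, nat_lit 243, nat_lit 81, nat_lit 81, nat_lit 108, nat_lit 162]) (.leaf (nat_lit 102401) [nat_lit 108, nat_lit 189, nat_lit 243, nat_lit 108, nat_lit 243, nat_lit 135, nat_lit 162, nat_lit 135])) (.node (nat_lit 107) (.leaf (nat_lit 80904) [nat_lit 81, nat_lit 243, nat_lit 54, nat_lit 243, nat_lit 54, nat_lit 54, nat_lit 243, nat_lit 54]) r255)) (.node (nat_lit 112) (.node (nat_lit 110) r256 r257) (.node (nat_lit 113) (.leaf (nat_lit 68616) [nat_lit 135, nat_lit 243, nat_lit 108, nat_lit 108, nat_lit 243,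 nat_lit 135]) r258))))
noncomputable def r260 : WT := (.node (nat_lit 119) (.leaf (nat_lit 81932) [nat_lit 189, nat_lit 135, nat_lit 54, nat_lit 54, nat_lit 243, nat_lit 189, nat_lit 135, nat_lit 81]) (.leaf (nat_lit 85006) [nat_lit 135, nat_lit 54, nat_lit 108, nat_lit 243, nat_lit 108, nat_lit 108, nat_lit 81, nat_lit 108]))
noncomputable def r261 : WT := (.node (nat_lit 122) (.leaf (nat_lit 78862) [nat_lit 135, nat_lit 54, nat_lit 54, nat_lit 108, nat_lit 243, nat_lit 135, nat_lit 54, nat_lit 108]) (.leaf (nat_lit 78854) [nat_lit 135, nat_lit 54, nat_lit 108, nat_lit 243, nat_lit 135, nat_lit 54, nat_lit 54, nat_lit 108]))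
noncomputable def r262 : WT := (.node (nat_lit 125) (.leaf (nat_lit 76803) [nat_lit 135, nat_lit 243, nat_lit 135, nat_lit 243, nat_lit 216, nat_lit 135, nat_lit 216]) (.leaf (nat_lit 76812) [nat_lit 216, nat_lit 108, nat_lit 216, nat_lit 243, nat_lit 108, nat_lit 243, nat_lit 108]))
noncomputable def r263 : WT := (.node (nat_lit 128) (.leaf (nat_lit 101377) [nat_lit 108, nat_lit 162, nat_lit 243, nat_lit 108, nat_lit 243, nat_lit 135, nat_lit 189, nat_lit 135]) (.leaf (nat_lit 94224) [nat_lit 54, nat_lit 189, nat_lit 189, nat_lit 243, nat_lit 162, nat_lit 162, nat_lit 243, nat_lit 81]))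
noncomputable def r264 : WT := (.node (nat_lit 131) (.leaf (nat_lit 95244) [nat_lit 81, nat_lit 243, nat_lit 54, nat_lit 189, nat_lit 189, nat_lit 243, nat_lit 189, nat_lit 189]) (.leaf (nat_lit 95243) [nat_lit 162, nat_lit 162, nat_lit 81, nat_lit 243, nat_lit 54, nat_lit 243, nat_lit 162, nat_lit 162]))
noncomputable def r265 : WT := (.node (nat_lit 134) (.leaf (nat_lit 98314) [nat_lit 135, nat_lit 243, nat_lit 216, nat_lit 108, nat_lit 108, nat_lit 216, nat_lit 243, nat_lit 135]) (.leaf (nat_lit 70663) [nat_lit 162, nat_lit 243, nat_lit 81, nat_lit 81, nat_lit 243, nat_lit 81, nat_lit 189]))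
noncomputable def r266 : WT := (.node (nat_lit 137) (.leaf (nat_lit 100364) [nat_lit 108, nat_lit 162, nat_lit 108, nat_lit 108, nat_lit 243, nat_lit 108, nat_lit 189, nat_lit 135]) (.leaf (nat_lit 100357) [nat_lit 108, nat_lit 162, nat_lit 135, nat_lit 243, nat_lit 135, nat_lit 135, nat_lit 189, nat_lit 135]))
noncomputable def r267 : WT := (.node (nat_lit 126) (.node (nat_lit 120) (.node (nat_lit 117) (.node (nat_lit 116) (.leaf (nat_lit 109568) [nat_lit 108, nat_lit 108, nat_lit 243, nat_lit 108, nat_lit 108, nat_lit 243, nat_lit 108, nat_lit 108]) (.leaf (nat_lit 93185) [nat_lit 54, nat_lit 243, nat_lit 162, nat_lit 162, nat_lit 243, nat_lit 189, nat_lit 189, nat_lit 81])) (.node (nat_lit 118) (.leaf (nat_lit 80897) [nat_lit 81, nat_lit 243, nat_lit 54, nat_lit 243, nat_lit 81, nat_lit 243, nat_lit 81, nat_lit 81]) r260)) (.node (nat_lit 123) (.node (nat_lit 121) (.leaf (nat_lit 84995) [nat_lit 135, nat_lit 54, nat_lit 135, nat_lit 135, nat_lit 243, nat_lit 135,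 nat_lit 81, nat_lit 108]) r261) (.node (nat_lit 124) (.leaf (nat_lit 92165) [nat_lit 189, nat_lit 189, nat_lit 243, nat_lit 189, nat_lit 189, nat_lit 81, nat_lit 243, nat_lit 54]) r262))) (.node (nat_lit 132) (.node (nat_lit 129) (.node (nat_lit 127) (.leaf (nat_lit 93200) [nat_lit 54, nat_lit 162, nat_lit 162, nat_lit 243, nat_lit 189, nat_lit 189, nat_lit 243, nat_lit 81]) r263) (.node (nat_lit 130) (.leaf (nat_lit 95238) [nat_lit 189, nat_lit 189, nat_lit 243, nat_lit 81, nat_lit 243, nat_lit 54, nat_lit 189, nat_lit 189]) r264)) (.node (nat_lit 135) (.node (nat_lit 133) (.leaf (nat_lit 96272) [nat_lit 54, nat_lit 243, nat_lit 81, nat_lit 162, nat_lit 162, nat_lit 162, nat_lit 243, nat_lit 162]) r265) (.node (nat_lit 136) (.leaf (nat_lit 99333) [nat_lit 108, nat_lit 189, nat_lit 135, nat_lit 243, nat_lit 135, nat_lit 135, nat_lit 162, nat_lit 135]) r266))))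
noncomputable def r268 : WT := (.node (nat_lit 57) (.node (nat_lit 44) (.node (nat_lit 39) (.node (nat_lit 36) r240 r241) (.node (nat_lit 41) r242 r243)) (.node (nat_lit 50) (.node (nat_lit 47) r244 r245) (.node (nat_lit 53) r246 r247))) (.node (nat_lit 78) (.node (nat_lit 66) (.node (nat_lit 61) r248 r249) (.node (nat_lit 72) r250 r251)) (.node (nat_lit 98) (.node (nat_lit 86) r252 r253) (.node (nat_lit 115) r259 r267))))
noncomputable def w7 : WT := (.node (nat_lit 1) (.leaf (nat_lit 4096) [nat_lit 243]) (.node (nat_lit 7) (.node (nat_lit 4) (.node (nat_lit 2) (.leaf (nat_lit 67596) [nat_lit 54, nat_lit 243, nat_lit 81, nat_lit 189, nat_lit 243, nat_lit 162]) r232) (.node (nat_lit 5) (.leaf (nat_lit 67585) [nat_lit 189, nat_lit 243, nat_lit 162, nat_lit 54, nat_lit 243, nat_lit 81]) r233)) (.node (nat_lit 16) (.node (nat_lit 10) r234 r235) (.node (nat_lit 34) r239 r268))))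
noncomputable def w8 : WT := (.leaf (nat_lit 137216) [nat_lit 297])
noncomputable def w9 : WT := (.leaf (nat_lit 137218) [nat_lit 270])
noncomputable def w10 : WT := (.leaf (nat_lit 139264) [nat_lit 351])
noncomputable def w11 : WT := (.leaf (nat_lit 139266) [nat_lit 324])
noncomputable def r269 : WT := (.node (nat_lit 2) (.leaf (nat_lit 7174) [nat_lit 216, nat_lit 108, nat_lit 216, nat_lit 135]) (.node (nat_lit 3) (.leaf (nat_lit 10241) [nat_lit 189, nat_lit 135, nat_lit 81, nat_lit 189, nat_lit 135, nat_lit 81]) (.leaf (nat_lit 7168) [nat_lit 108, nat_lit 216, nat_lit 135, nat_lit 216])))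
noncomputable def r270 : WT := (.node (nat_lit 6) (.node (nat_lit 5) (.leaf (nat_lit 27650) [nat_lit 216, nat_lit 189, nat_lit 216, nat_lit 162, nat_lit 216, nat_lit 189, nat_lit 216, nat_lit 162]) (.leaf (nat_lit 25612) [nat_lit 216, nat_lit 189, nat_lit 108, nat_lit 162, nat_lit 216, nat_lit 189, nat_lit 135, nat_lit 162])) (.node (nat_lit 7) (.leaf (nat_lit 52233) [nat_lit 189, nat_lit 189, nat_lit 54, nat_lit 216, nat_lit 81, nat_lit 189, nat_lit 216, nat_lit 189, nat_lit 216]) (.leaf (nat_lit 52230) [nat_lit 162, nat_lit 162, nat_lit 216, nat_lit 162, nat_lit 216, nat_lit 162, nat_lit 54, nat_lit 216, nat_lit 81])))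
noncomputable def r271 : WT := (.node (nat_lit 10) (.node (nat_lit 9) (.leaf (nat_lit 48144) [nat_lit 135, nat_lit 54, nat_lit 162, nat_lit 81, nat_lit 162, nat_lit 108, nat_lit 189, nat_lit 108, nat_lit 189]) (.leaf (nat_lit 23554) [nat_lit 162, nat_lit 81, nat_lit 162, nat_lit 162, nat_lit 135, nat_lit 162, nat_lit 108, nat_lit 54])) (.node (nat_lit 11) (.leaf (nat_lit 35845) [nat_lit 108, nat_lit 189, nat_lit 135, nat_lit 189, nat_lit 54, nat_lit 135, nat_lit 81, nat_lit 135, nat_lit 54]) (.leaf (nat_lit 11267) [nat_lit 81, nat_lit 216, nat_lit 81, nat_lit 216, nat_lit 81, nat_lit 216])))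
noncomputable def r272 : WT := (.node (nat_lit 14) (.node (nat_lit 13) (.leaf (nat_lit 11265) [nat_lit 216, nat_lit 81, nat_lit 216, nat_lit 81, nat_lit 216, nat_lit 81]) (.leaf (nat_lit 5121) [nat_lit 81, nat_lit 81, nat_lit 81])) (.node (nat_lit 15) (.leaf (nat_lit 8193) [nat_lit 189, nat_lit 189, nat_lit 189, nat_lit 189]) (.leaf (nat_lit 10243) [nat_lit 135, nat_lit 81, nat_lit 189, nat_lit 135, nat_lit 81, nat_lit 189])))
noncomputable def r273 : WT := (.node (nat_lit 18) (.node (nat_lit 17) (.leaf (nat_lit 114689) [nat_lit 216, nat_lit 135, nat_lit 243, nat_lit 216, nat_lit 135, nat_lit 243, nat_lit 216, nat_lit 135, nat_lit 243, nat_lit 216, nat_lit 135, nat_lit 243]) (.leaf (nat_lit 10245) [nat_lit 81, nat_lit 189, nat_lit 135, nat_lit 81, nat_lit 189, nat_lit 135])) (.node (nat_lit 20) (.node (nat_lit 19) (.leaf (nat_lit 40977) [nat_lit 81, nat_lit 189, nat_lit 189, nat_lit 108, nat_lit 162, nat_lit 135, nat_lit 189, nat_lit 81, nat_lit 108]) (.leaf (nat_lit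 52231) [nat_lit 216, nat_lit 189, nat_lit 189, nat_lit 54, nat_lit 216, nat_lit 81, nat_lit 189, nat_lit 216, nat_lit 189])) (.node (nat_lit 21) (.leaf (nat_lit 52240) [nat_lit 162, nat_lit 54, nat_lit 216, nat_lit 81, nat_lit 162, nat_lit 162, nat_lit 216, nat_lit 162, nat_lit 216]) (.leaf (nat_lit 128002) [nat_lit 216, nat_lit 243, nat_lit 216, nat_lit 243, nat_lit 216, nat_lit 243, nat_lit 216, nat_lit 243, nat_lit 216, nat_lit 243, nat_lit 216, nat_lit 243]))))
noncomputable def r274 : WT := (.node (nat_lit 25) (.node (nat_lit 23) (.leaf (nat_lit 52236) [nat_lit 162, nat_lit 216, nat_lit 162, nat_lit 54, nat_lit 216, nat_lit 81, nat_lit 162, nat_lit 162, nat_lit 216]) (.node (nat_lit 24) (.leaf (nat_lit 52228) [nat_lit 81, nat_lit 162, nat_lit 162, nat_lit 216, nat_lit 162, nat_lit 216, nat_lit 162, nat_lit 54, nat_lit 216]) (.leaf (nat_lit 52226) [nat_lit 216, nat_lit 81, nat_lit 162, nat_lit 162, nat_lit 216, nat_lit 162, nat_lit 216, nat_lit 162, nat_lit 54])))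 (.node (nat_lit 27) (.node (nat_lit 26) (.leaf (nat_lit 50186) [nat_lit 108, nat_lit 108, nat_lit 162, nat_lit 108, nat_lit 54, nat_lit 162, nat_lit 81, nat_lit 189, nat_lit 189]) (.leaf (nat_lit 48140) [nat_lit 108, nat_lit 189, nat_lit 135, nat_lit 54, nat_lit 162, nat_lit 81, nat_lit 162, nat_lit 108, nat_lit 189])) (.node (nat_lit 28) (.leaf (nat_lit 48132) [nat_lit 81, nat_lit 162, nat_lit 108, nat_lit 189, nat_lit 108, nat_lit 189, nat_lit 135, nat_lit 54, nat_lit 162]) (.leaf (nat_lit 48130) [nat_lit 162, nat_lit 81, nat_lit 162, nat_lit 108, nat_lit 189, nat_lit 108, nat_lit 189, nat_lit 135, nat_lit 54]))))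
noncomputable def r275 : WT := (.node (nat_lit 33) (.node (nat_lit 31) (.node (nat_lit 30) (.leaf (nat_lit 41987) [nat_lit 162, nat_lit 108, nat_lit 162, nat_lit 135, nat_lit 189, nat_lit 81, nat_lit 108, nat_lit 81, nat_lit 162]) (.leaf (nat_lit 47115) [nat_lit 108, nat_lit 162, nat_lit 108, nat_lit 81, nat_lit 162, nat_lit 108, nat_lit 189, nat_lit 54, nat_lit 162])) (.node (nat_lit 32) (.leaf (nat_lit 47112) [nat_lit 189, nat_lit 81, nat_lit 162, nat_lit 135, nat_lit 189, nat_lit 54, nat_lit 135, nat_lit 189, nat_lit 135]) (.leaf (nat_lit 45068) [nat_lit 189, nat_lit 54, nat_lit 189, nat_lit 54, nat_lit 135, nat_lit 162, nat_lit 108, nat_lit 81, nat_lit 189]))) (.node (nat_lit 35) (.node (nat_lit 34) (.leaf (nat_lit 44037) [nat_lit 189, nat_lit 189, nat_lit 54, nat_lit 135, nat_lit 189, nat_lit 108, nat_lit 81, nat_lit 162, nat_lit 81]) (.leaf (nat_lit 44038) [nat_lit 108, nat_lit 81, nat_lit 162, nat_lit 162, nat_lit 54, nat_lit 189, nat_lit 54, nat_lit 135,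 nat_lit 162])) (.node (nat_lit 36) (.leaf (nat_lit 41999) [nat_lit 108, nat_lit 81, nat_lit 162, nat_lit 162, nat_lit 108, nat_lit 162, nat_lit 135, nat_lit 189, nat_lit 81]) (.leaf (nat_lit 56320) [nat_lit 54, nat_lit 54, nat_lit 108, nat_lit 54, nat_lit 108, nat_lit 81, nat_lit 162, nat_lit 108, nat_lit 162, nat_lit 135]))))
noncomputable def r276 : WT := (.node (nat_lit 40) (.node (nat_lit 39) (.node (nat_lit 38) (.leaf (nat_lit 114693) [nat_lit 243, nat_lit 216, nat_lit 135, nat_lit 243, nat_lit 216, nat_lit 135, nat_lit 243, nat_lit 216, nat_lit 135, nat_lit 243, nat_lit 216, nat_lit 135]) (.leaf (nat_lit 114692) [nat_lit 216, nat_lit 243, nat_lit 108, nat_lit 216, nat_lit 243, nat_lit 108, nat_lit 216, nat_lit 243, nat_lit 108, nat_lit 216, nat_lit 243, nat_lit 108])) (.leaf (nat_lit 114688) [nat_lit 243, nat_lit 108, nat_lit 216, nat_lit 243, nat_lit 108, nat_lit 216, nat_lit 243, nat_lit 108, nat_lit 216, nat_lit 243, nat_lit 108, nat_lit 216])) (.node (nat_lit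 42) (.node (nat_lit 41) (.leaf (nat_lit 64529) [nat_lit 81, nat_lit 81, nat_lit 135, nat_lit 189, nat_lit 135, nat_lit 189, nat_lit 81, nat_lit 162, nat_lit 135, nat_lit 189]) (.leaf (nat_lit 63500) [nat_lit 81, nat_lit 108, nat_lit 54, nat_lit 108, nat_lit 54, nat_lit 54, nat_lit 162, nat_lit 108, nat_lit 162, nat_lit 135])) (.node (nat_lit 43) (.leaf (nat_lit 62470) [nat_lit 81, nat_lit 189, nat_lit 108, nat_lit 189, nat_lit 54, nat_lit 162, nat_lit 135, nat_lit 54, nat_lit 54, nat_lit 162]) (.leaf (nat_lit 57351) [nat_lit 135, nat_lit 189, nat_lit 189, nat_lit 54, nat_lit 135, nat_lit 81, nat_lit 81, nat_lit 162, nat_lit 108, nat_lit 189]))))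
noncomputable def r277 : WT := (.node (nat_lit 48) (.node (nat_lit 46) (.node (nat_lit 45) (.leaf (nat_lit 56329) [nat_lit 54, nat_lit 135, nat_lit 81, nat_lit 135, nat_lit 81, nat_lit 81, nat_lit 108, nat_lit 189, nat_lit 135, nat_lit 189]) (.leaf (nat_lit 56324) [nat_lit 108, nat_lit 54, nat_lit 108, nat_lit 81, nat_lit 162, nat_lit 108, nat_lit 162, nat_lit 135, nat_lit 54, nat_lit 54])) (.node (nat_lit 47) (.leaf (nat_lit 52235) [nat_lit 189, nat_lit 54, nat_lit 216, nat_lit 81, nat_lit 189, nat_lit 216, nat_lit 189, nat_lit 216, nat_lit 189]) (.leaf (nat_lit 102411) [nat_lit 243, nat_lit 135, nat_lit 162, nat_lit 135, nat_lit 243, nat_lit 108, nat_lit 189, nat_lit 243, nat_lit 108]))) (.node (nat_lit 50) (.node (nat_lit 49) (.leaf (nat_lit 92177) [nat_lit 81, nat_lit 243, nat_lit 54, nat_lit 243, nat_lit 189, nat_lit 189, nat_lit 243, nat_lit 189, nat_lit 189]) (.leaf (nat_lit 87044) [nat_lit 243, nat_lit 135, nat_lit 81, nat_lit 135, nat_lit 243, nat_lit 108,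 nat_lit 243, nat_lit 54, nat_lit 108])) (.node (nat_lit 51) (.leaf (nat_lit 55297) [nat_lit 162, nat_lit 216, nat_lit 189, nat_lit 135, nat_lit 162, nat_lit 216, nat_lit 189, nat_lit 135, nat_lit 135]) (.leaf (nat_lit 55310) [nat_lit 216, nat_lit 189, nat_lit 108, nat_lit 108, nat_lit 162, nat_lit 216, nat_lit 189, nat_lit 108, nat_lit 162]))))
noncomputable def r278 : WT := (.node (nat_lit 56) (.node (nat_lit 54) (.node (nat_lit 53) (.leaf (nat_lit 55300) [nat_lit 162, nat_lit 216, nat_lit 189, nat_lit 108, nat_lit 162, nat_lit 216, nat_lit 189, nat_lit 108, nat_lit 108]) (.leaf (nat_lit 53263) [nat_lit 216, nat_lit 81, nat_lit 189, nat_lit 216, nat_lit 189, nat_lit 216, nat_lit 162, nat_lit 162, nat_lit 54])) (.node (nat_lit 55) (.leaf (nat_lit 53260) [nat_lit 162, nat_lit 216, nat_lit 162, nat_lit 54, nat_lit 216, nat_lit 81, nat_lit 189, nat_lit 189, nat_lit 216]) (.leaf (nat_lit 53248) [nat_lit 54, nat_lit 216, nat_lit 81, nat_lit 189, nat_lit 189, nat_lit 216,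 nat_lit 162, nat_lit 216, nat_lit 162]))) (.node (nat_lit 58) (.node (nat_lit 57) (.leaf (nat_lit 20487) [nat_lit 81, nat_lit 135, nat_lit 162, nat_lit 108, nat_lit 81, nat_lit 135, nat_lit 162, nat_lit 108]) (.leaf (nat_lit 25606) [nat_lit 189, nat_lit 135, nat_lit 162, nat_lit 216, nat_lit 189, nat_lit 108, nat_lit 162, nat_lit 216])) (.node (nat_lit 59) (.leaf (nat_lit 25602) [nat_lit 162, nat_lit 216, nat_lit 189, nat_lit 135, nat_lit 162, nat_lit 216, nat_lit 189, nat_lit 108]) (.leaf (nat_lit 24587) [nat_lit 54, nat_lit 189, nat_lit 81, nat_lit 135, nat_lit 189, nat_lit 108, nat_lit 162, nat_lit 162]))))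
noncomputable def r279 : WT := (.node (nat_lit 64) (.node (nat_lit 62) (.node (nat_lit 61) (.leaf (nat_lit 24579) [nat_lit 189, nat_lit 108, nat_lit 162, nat_lit 162, nat_lit 54, nat_lit 189, nat_lit 81, nat_lit 135]) (.leaf (nat_lit 24580) [nat_lit 81, nat_lit 189, nat_lit 189, nat_lit 135, nat_lit 162, nat_lit 108, nat_lit 54, nat_lit 162])) (.node (nat_lit 63) (.leaf (nat_lit 24576) [nat_lit 54, nat_lit 162, nat_lit 81, nat_lit 189, nat_lit 189, nat_lit 135, nat_lit 162, nat_lit 108]) (.leaf (nat_lit 23567) [nat_lit 81, nat_lit 135, nat_lit 189, nat_lit 108, nat_lit 189, nat_lit 189, nat_lit 54, nat_lit 189]))) (.node (nat_lit 66) (.node (nat_lit 65) (.leaf (nat_lit 22531) [nat_lit 81, nat_lit 189, nat_lit 81, nat_lit 189, nat_lit 81, nat_lit 189, nat_lit 81, nat_lit 189]) (.leaf (nat_lit 22529) [nat_lit 189, nat_lit 81, nat_lit 189, nat_lit 81, nat_lit 189, nat_lit 81, nat_lit 189, nat_lit 81])) (.node (nat_lit 67) (.leaf (nat_lit 21516) [nat_lit 54, nat_lit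 216, nat_lit 54, nat_lit 135, nat_lit 216, nat_lit 108, nat_lit 54, nat_lit 216]) (.leaf (nat_lit 25608) [nat_lit 135, nat_lit 162, nat_lit 216, nat_lit 189, nat_lit 108, nat_lit 162, nat_lit 216, nat_lit 189]))))
noncomputable def r280 : WT := (.node (nat_lit 71) (.node (nat_lit 69) (.leaf (nat_lit 20482) [nat_lit 135, nat_lit 189, nat_lit 108, nat_lit 54, nat_lit 135, nat_lit 189, nat_lit 108, nat_lit 54]) (.node (nat_lit 70) (.leaf (nat_lit 18444) [nat_lit 54, nat_lit 216, nat_lit 54, nat_lit 108, nat_lit 216, nat_lit 135, nat_lit 54, nat_lit 216]) (.leaf (nat_lit 17415) [nat_lit 216, nat_lit 81, nat_lit 189, nat_lit 135, nat_lit 81, nat_lit 189, nat_lit 216, nat_lit 135]))) (.node (nat_lit 73) (.node (nat_lit 72) (.leaf (nat_lit 16388) [nat_lit 162, nat_lit 54, nat_lit 108, nat_lit 189, nat_lit 189, nat_lit 189, nat_lit 54, nat_lit 108]) (.leaf (nat_lit 12290) [nat_lit 54, nat_lit 189, nat_lit 135, nat_lit 81, nat_lit 189, nat_lit 135, nat_lit 54])) (.node (nat_lit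 74) (.leaf (nat_lit 66561) [nat_lit 243, nat_lit 135, nat_lit 243, nat_lit 135, nat_lit 243, nat_lit 135]) (.leaf (nat_lit 11266) [nat_lit 216, nat_lit 54, nat_lit 216, nat_lit 54, nat_lit 216, nat_lit 54]))))
noncomputable def r281 : WT := (.node (nat_lit 79) (.node (nat_lit 77) (.node (nat_lit 76) (.leaf (nat_lit 11264) [nat_lit 54, nat_lit 216, nat_lit 54, nat_lit 216, nat_lit 54, nat_lit 216]) (.leaf (nat_lit 10240) [nat_lit 54, nat_lit 108, nat_lit 162, nat_lit 54, nat_lit 108, nat_lit 162])) (.node (nat_lit 78) (.leaf (nat_lit 7170) [nat_lit 216, nat_lit 135, nat_lit 216, nat_lit 108]) (.leaf (nat_lit 35842) [nat_lit 108, nat_lit 81, nat_lit 162, nat_lit 108, nat_lit 162, nat_lit 135, nat_lit 81, nat_lit 108, nat_lit 54]))) (.node (nat_lit 81) (.node (nat_lit 80) (.leaf (nat_lit 40963) [nat_lit 189, nat_lit 108, nat_lit 162, nat_lit 135, nat_lit 189, nat_lit 81, nat_lit 108, nat_lit 81, nat_lit 189]) (.leaf (nat_lit 39953) [nat_lit 81, nat_lit 162, nat_lit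 81, nat_lit 189, nat_lit 108, nat_lit 189, nat_lit 54, nat_lit 162, nat_lit 135])) (.node (nat_lit 82) (.leaf (nat_lit 39944) [nat_lit 162, nat_lit 135, nat_lit 162, nat_lit 54, nat_lit 189, nat_lit 54, nat_lit 108, nat_lit 189, nat_lit 81]) (.leaf (nat_lit 39942) [nat_lit 81, nat_lit 162, nat_lit 135, nat_lit 162, nat_lit 54, nat_lit 189, nat_lit 54, nat_lit 108, nat_lit 189]))))
noncomputable def r282 : WT := (.node (nat_lit 87) (.node (nat_lit 85) (.node (nat_lit 84) (.leaf (nat_lit 38929) [nat_lit 81, nat_lit 189, nat_lit 216, nat_lit 108, nat_lit 108, nat_lit 216, nat_lit 81, nat_lit 189, nat_lit 135]) (.leaf (nat_lit 36874) [nat_lit 54, nat_lit 135, nat_lit 189, nat_lit 108, nat_lit 54, nat_lit 108, nat_lit 108, nat_lit 189, nat_lit 108])) (.node (nat_lit 86) (.leaf (nat_lit 35857) [nat_lit 81, nat_lit 135, nat_lit 54, nat_lit 108, nat_lit 189, nat_lit 135, nat_lit 189, nat_lit 54, nat_lit 135]) (.leaf (nat_lit 35853) [nat_lit 54, nat_lit 135, nat_lit 81, nat_lit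 135, nat_lit 54, nat_lit 108, nat_lit 189, nat_lit 135, nat_lit 189]))) (.node (nat_lit 89) (.node (nat_lit 88) (.leaf (nat_lit 35841) [nat_lit 135, nat_lit 54, nat_lit 108, nat_lit 189, nat_lit 135, nat_lit 189, nat_lit 54, nat_lit 135, nat_lit 81]) (.leaf (nat_lit 35844) [nat_lit 81, nat_lit 162, nat_lit 108, nat_lit 162, nat_lit 135, nat_lit 81, nat_lit 108, nat_lit 54, nat_lit 108])) (.node (nat_lit 90) (.leaf (nat_lit 40973) [nat_lit 81, nat_lit 108, nat_lit 81, nat_lit 189, nat_lit 189, nat_lit 108, nat_lit 162, nat_lit 135, nat_lit 189]) (.leaf (nat_lit 31758) [nat_lit 54, nat_lit 162, nat_lit 54, nat_lit 54, nat_lit 162, nat_lit 162, nat_lit 135, nat_lit 162, nat_lit 108]))))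
noncomputable def r283 : WT := (.node (nat_lit 95) (.node (nat_lit 93) (.node (nat_lit 92) (.leaf (nat_lit 77830) [nat_lit 243, nat_lit 162, nat_lit 243, nat_lit 189, nat_lit 243, nat_lit 162, nat_lit 243, nat_lit 189]) (.leaf (nat_lit 75786) [nat_lit 189, nat_lit 135, nat_lit 243, nat_lit 108, nat_lit 162, nat_lit 135, nat_lit 243, nat_lit 108])) (.node (nat_lit 94) (.leaf (nat_lit 75776) [nat_lit 108, nat_lit 162, nat_lit 135, nat_lit 243, nat_lit 108, nat_lit 189, nat_lit 135, nat_lit 243]) (.leaf (nat_lit 74758) [nat_lit 243, nat_lit 54, nat_lit 243, nat_lit 81, nat_lit 243, nat_lit 54, nat_lit 243, nat_lit 81]))) (.node (nat_lit 97) (.node (nat_lit 96) (.leaf (nat_lit 73742) [nat_lit 135, nat_lit 54, nat_lit 108, nat_lit 243, nat_lit 135, nat_lit 81, nat_lit 108, nat_lit 243]) (.leaf (nat_lit 73736) [nat_lit 81, nat_lit 108, nat_lit 243, nat_lit 135, nat_lit 54, nat_lit 108, nat_lit 243, nat_lit 135])) (.node (nat_lit 98) (.leaf (nat_lit 27652) [nat_lit 189,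 nat_lit 216, nat_lit 162, nat_lit 216, nat_lit 189, nat_lit 216, nat_lit 162, nat_lit 216]) (.leaf (nat_lit 25610) [nat_lit 162, nat_lit 216, nat_lit 189, nat_lit 108, nat_lit 162, nat_lit 216, nat_lit 189, nat_lit 135]))))
noncomputable def wP : WT := (.node (nat_lit 37) (.node (nat_lit 12) (.node (nat_lit 4) (.node (nat_lit 1) (.leaf (nat_lit 25604) [nat_lit 216, nat_lit 189, nat_lit 135, nat_lit 162, nat_lit 216, nat_lit 189, nat_lit 108, nat_lit 162]) r269) (.node (nat_lit 8) r270 r271)) (.node (nat_lit 22) (.node (nat_lit 16) r272 r273) (.node (nat_lit 29) r274 r275))) (.node (nat_lit 68) (.node (nat_lit 52) (.node (nat_lit 44) r276 r277) (.node (nat_lit 60) r278 r279)) (.node (nat_lit 83) (.node (nat_lit 75) r280 r281) (.node (nat_lit 91) r282 r283))))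
noncomputable def P : Par := ⟨tb, nat_lit 378, nat_lit 0x3ffffffffffffffffffffffffffffffffffffffffffffffffffffffffffffffffffffffffffffffffffffffffffffff, nat_lit 33298, nat_lit 134217727, nat_lit 65535, nat_lit 27, nat_lit 16, nat_lit 693,
  [nat_lit 54, nat_lit 81, nat_lit 108, nat_lit 135, nat_lit 162, nat_lit 189, nat_lit 216, nat_lit 243, nat_lit 270, nat_lit 297, nat_lit 324, nat_lit 351], [nat_lit 243, nat_lit 270, nat_lit 324], wP,
  (.cons (nat_lit 54) w0 (.cons (nat_lit 81) w1 (.cons (nat_lit 108) w2 (.cons (nat_lit 135) w3 (.cons (nat_lit 162) w4 (.cons (nat_lit 189) w5 (.cons (nat_lit 216) w6 (.cons (nat_lit 243) w7 .nil)))))))),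
  (.cons (nat_lit 270) w8 (.cons (nat_lit 297) w9 (.cons (nat_lit 324) w10 (.cons (nat_lit 351) w11 .nil))))⟩

end Cfsg.Agent.Lib.TCJ4a
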