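import Cfsg.Agent.Lib.TCJ4bD0

set_option autoImplicit false
set_option maxRecDepth 100000

namespace Cfsg.Agent.Lib.TCJ4b
open Cfsg.Agent.Lib.TCCore

noncomputable def n0 : T := (.node (nat_lit 366) (.node (nat_lit 183) (.node (nat_lit 61) l0 (.node (nat_lit 122) l1 l2)) (.node (nat_lit 244) l3 (.node (nat_lit 305) l4 l5))) (.node (nat_lit 549) (.node (nat_lit 427) l6 (.node (nat_lit 488) l7 l8)) (.node (nat_lit 671) (.node (nat_lit 610) l9 l10) (.node (nat_lit 732) l11 l12))))
noncomputable def n1 : T := (.node (nat_lit 1220) (.node (nat_lit 976) (.node (nat_lit 854) l13 (.node (nat_lit 915) l14 l15)) (.node (nat_lit 1098) (.node (nat_lit 1037) l16 l17) (.node (nat_lit 1159) l18 l19))) (.node (nat_lit 1403) (.node (nat_lit 1281) l20 (.node (nat_lit 1342) l21 l22)) (.node (nat_lit 1525) (.node (nat_lit 1464) l23 l24) (.node (nat_lit 1586) l25 l26))))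
noncomputable def n2 : T := (.node (nat_lit 2013) (.node (nat_lit 1830) (.node (nat_lit 1708) l27 (.node (nat_lit 1769) l28 l29)) (.node (nat_lit 1891) l30 (.node (nat_lit 1952) l31 l32))) (.node (nat_lit 2196) (.node (nat_lit 2074) l33 (.node (nat_lit 2135) l34 l35)) (.node (nat_lit 2318) (.node (nat_lit 2257) l36 l37) (.node (nat_lit 2379) l38 l39))))
noncomputable def n3 : T := (.node (nat_lit 2867) (.node (nat_lit 2623) (.node (nat_lit 2501) l40 (.node (nat_lit 2562) l41 l42)) (.node (nat_lit 2745) (.node (nat_lit 2684) l43 l44) (.node (nat_lit 2806) l45 l46))) (.node (nat_lit 3050) (.node (nat_lit 2928) l47 (.node (nat_lit 2989) l48 l49)) (.node (nat_lit 3172) (.node (nat_lit 3111) l50 l51) (.node (nat_lit 3233) l52 l53))))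
noncomputable def n4 : T := (.node (nat_lit 3660) (.node (nat_lit 3477) (.node (nat_lit 3355) l54 (.node (nat_lit 3416) l55 l56)) (.node (nat_lit 3538) l57 (.node (nat_lit 3599) l58 l59))) (.node (nat_lit 3843) (.node (nat_lit 3721) l60 (.node (nat_lit 3782) l61 l62)) (.node (nat_lit 3965) (.node (nat_lit 3904) l63 l64) (.node (nat_lit 4026) l65 l66))))
noncomputable def n5 : T := (.node (nat_lit 4514) (.node (nat_lit 4270) (.node (nat_lit 4148) l67 (.node (nat_lit 4209) l68 l69)) (.node (nat_lit 4392) (.node (nat_lit 4331) l70 l71) (.node (nat_lit 4453) l72 l73))) (.node (nat_lit 4697) (.node (nat_lit 4575) l74 (.node (nat_lit 4636) l75 l76)) (.node (nat_lit 4819) (.node (nat_lit 4758) l77 l78) (.node (nat_lit 4880) l79 l80))))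
noncomputable def n6 : T := (.node (nat_lit 5307) (.node (nat_lit 5124) (.node (nat_lit 5002) l81 (.node (nat_lit 5063) l82 l83)) (.node (nat_lit 5185) l84 (.node (nat_lit 5246) l85 l86))) (.node (nat_lit 5490) (.node (nat_lit 5368) l87 (.node (nat_lit 5429) l88 l89)) (.node (nat_lit 5612) (.node (nat_lit 5551) l90 l91) (.node (nat_lit 5673) l92 l93))))
noncomputable def n7 : T := (.node (nat_lit 6161) (.node (nat_lit 5917) (.node (nat_lit 5795) l94 (.node (nat_lit 5856) l95 l96)) (.node (nat_lit 6039) (.node (nat_lit 5978) l97 l98) (.node (nat_lit 6100) l99 l100))) (.node (nat_lit 6344) (.node (nat_lit 6222) l101 (.node (nat_lit 6283) l102 l103)) (.node (nat_lit 6466) (.node (nat_lit 6405) l104 l105) (.node (nat_lit 6527) l106 l107))))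
noncomputable def n8 : T := (.node (nat_lit 6954) (.node (nat_lit 6771) (.node (nat_lit 6649) l108 (.node (nat_lit 6710) l109 l110)) (.node (nat_lit 6832) l111 (.node (nat_lit 6893) l112 l113))) (.node (nat_lit 7137) (.node (nat_lit 7015) l114 (.node (nat_lit 7076) l115 l116)) (.node (nat_lit 7259) (.node (nat_lit 7198) l117 l118) (.node (nat_lit 7320) l119 l120))))
noncomputable def n9 : T := (.node (nat_lit 7808) (.node (nat_lit 7564) (.node (nat_lit 7442) l121 (.node (nat_lit 7503) l122 l123)) (.node (nat_lit 7686) (.node (nat_lit 7625) l124 l125) (.node (nat_lit 7747) l126 l127))) (.node (nat_lit 7991) (.node (nat_lit 7869) l128 (.node (nat_lit 7930) l129 l130)) (.node (nat_lit 8113) (.node (nat_lit 8052) l131 l132) (.node (nat_lit 8174) l133 l134))))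
noncomputable def n10 : T := (.node (nat_lit 8601) (.node (nat_lit 8418) (.node (nat_lit 8296) l135 (.node (nat_lit 8357) l136 l137)) (.node (nat_lit 8479) l138 (.node (nat_lit 8540) l139 l140))) (.node (nat_lit 8784) (.node (nat_lit 8662) l141 (.node (nat_lit 8723) l142 l143)) (.node (nat_lit 8906) (.node (nat_lit 8845) l144 l145) (.node (nat_lit 8967) l146 l147))))
noncomputable def n11 : T := (.node (nat_lit 9455) (.node (nat_lit 9211) (.node (nat_lit 9089) l148 (.node (nat_lit 9150) l149 l150)) (.node (nat_lit 9333) (.node (nat_lit 9272) l151 l152) (.node (nat_lit 9394) l153 l154))) (.node (nat_lit 9638) (.node (nat_lit 9516) l155 (.node (nat_lit 9577) l156 l157)) (.node (nat_lit 9760) (.node (nat_lit 9699) l158 l159) (.node (nat_lit 9821) l160 l161))))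
noncomputable def n12 : T := (.node (nat_lit 10248) (.node (nat_lit 10065) (.node (nat_lit 9943) l162 (.node (nat_lit 10004) l163 l164)) (.node (nat_lit 10126) l165 (.node (nat_lit 10187) l166 l167))) (.node (nat_lit 10431) (.node (nat_lit 10309) l168 (.node (nat_lit 10370) l169 l170)) (.node (nat_lit 10553) (.node (nat_lit 10492) l171 l172) (.node (nat_lit 10614) l173 l174))))
noncomputable def n13 : T := (.node (nat_lit 11102) (.node (nat_lit 10858) (.node (nat_lit 10736) l175 (.node (nat_lit 10797) l176 l177)) (.node (nat_lit 10980) (.node (nat_lit 10919) l178 l179) (.node (nat_lit 11041) l180 l181))) (.node (nat_lit 11285) (.node (nat_lit 11163) l182 (.node (nat_lit 11224) l183 l184)) (.node (nat_lit 11407) (.node (nat_lit 11346) l185 l186) (.node (nat_lit 11468) l187 l188))))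
noncomputable def n14 : T := (.node (nat_lit 11956) (.node (nat_lit 11712) (.node (nat_lit 11590) l189 (.node (nat_lit 11651) l190 l191)) (.node (nat_lit 11834) (.node (nat_lit 11773) l192 l193) (.node (nat_lit 11895) l194 l195))) (.node (nat_lit 12139) (.node (nat_lit 12017) l196 (.node (nat_lit 12078) l197 l198)) (.node (nat_lit 12261) (.node (nat_lit 12200) l199 l200) (.node (nat_lit 12322) l201 l202))))
noncomputable def n15 : T := (.node (nat_lit 12810) (.node (nat_lit 12566) (.node (nat_lit 12444) l203 (.node (nat_lit 12505) l204 l205)) (.node (nat_lit 12688) (.node (nat_lit 12627) l206 l207) (.node (nat_lit 12749) l208 l209))) (.node (nat_lit 12993) (.node (nat_lit 12871) l210 (.node (nat_lit 12932) l211 l212)) (.node (nat_lit 13115) (.node (nat_lit 13054) l213 l214) (.node (nat_lit 13176) l215 l216))))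
noncomputable def n16 : T := (.node (nat_lit 13603) (.node (nat_lit 13420) (.node (nat_lit 13298) l217 (.node (nat_lit 13359) l218 l219)) (.node (nat_lit 13481) l220 (.node (nat_lit 13542) l221 l222))) (.node (nat_lit 13786) (.node (nat_lit 13664) l223 (.node (nat_lit 13725) l224 l225)) (.node (nat_lit 13908) (.node (nat_lit 13847) l226 l227) (.node (nat_lit 13969) l228 l229))))
noncomputable def n17 : T := (.node (nat_lit 14457) (.node (nat_lit 14213) (.node (nat_lit 14091) l230 (.node (nat_lit 14152) l231 l232)) (.node (nat_lit 14335) (.node (nat_lit 14274) l233 l234) (.node (nat_lit 14396) l235 l236))) (.node (nat_lit 14640) (.node (nat_lit 14518) l237 (.node (nat_lit 14579) l238 l239)) (.node (nat_lit 14762) (.node (nat_lit 14701) l240 l241) (.node (nat_lit 14823) l242 l243))))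
noncomputable def n18 : T := (.node (nat_lit 15250) (.node (nat_lit 15067) (.node (nat_lit 14945) l244 (.node (nat_lit 15006) l245 l246)) (.node (nat_lit 15128) l247 (.node (nat_lit 15189) l248 l249))) (.node (nat_lit 15433) (.node (nat_lit 15311) l250 (.node (nat_lit 15372) l251 l252)) (.node (nat_lit 15555) (.node (nat_lit 15494) l253 l254) (.node (nat_lit 15616) l255 l256))))
noncomputable def n19 : T := (.node (nat_lit 16104) (.node (nat_lit 15860) (.node (nat_lit 15738) l257 (.node (nat_lit 15799) l258 l259)) (.node (nat_lit 15982) (.node (nat_lit 15921) l260 l261) (.node (nat_lit 16043) l262 l263))) (.node (nat_lit 16287) (.node (nat_lit 16165) l264 (.node (nat_lit 16226) l265 l266)) (.node (nat_lit 16409) (.node (nat_lit 16348) l267 l268) (.node (nat_lit 16470) l269 l270))))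
noncomputable def n20 : T := (.node (nat_lit 16897) (.node (nat_lit 16714) (.node (nat_lit 16592) l271 (.node (nat_lit 16653) l272 l273)) (.node (nat_lit 16775) l274 (.node (nat_lit 16836) l275 l276))) (.node (nat_lit 17080) (.node (nat_lit 16958) l277 (.node (nat_lit 17019) l278 l279)) (.node (nat_lit 17202) (.node (nat_lit 17141) l280 l281) (.node (nat_lit 17263) l282 l283))))
noncomputable def n21 : T := (.node (nat_lit 17751) (.node (nat_lit 17507) (.node (nat_lit 17385) l284 (.node (nat_lit 17446) l285 l286)) (.node (nat_lit 17629) (.node (nat_lit 17568) l287 l288) (.node (nat_lit 17690) l289 l290))) (.node (nat_lit 17934) (.node (nat_lit 17812) l291 (.node (nat_lit 17873) l292 l293)) (.node (nat_lit 18056) (.node (nat_lit 17995) l294 l295) (.node (nat_lit 18117) l296 l297))))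
noncomputable def n22 : T := (.node (nat_lit 18544) (.node (nat_lit 18361) (.node (nat_lit 18239) l298 (.node (nat_lit 18300) l299 l300)) (.node (nat_lit 18422) l301 (.node (nat_lit 18483) l302 l303))) (.node (nat_lit 18727) (.node (nat_lit 18605) l304 (.node (nat_lit 18666) l305 l306)) (.node (nat_lit 18849) (.node (nat_lit 18788) l307 l308) (.node (nat_lit 18910) l309 l310))))
noncomputable def n23 : T := (.node (nat_lit 19398) (.node (nat_lit 19154) (.node (nat_lit 19032) l311 (.node (nat_lit 19093) l312 l313)) (.node (nat_lit 19276) (.node (nat_lit 19215) l314 l315) (.node (nat_lit 19337) l316 l317))) (.node (nat_lit 19581) (.node (nat_lit 19459) l318 (.node (nat_lit 19520) l319 l320)) (.node (nat_lit 19703) (.node (nat_lit 19642) l321 l322) (.node (nat_lit 19764) l323 l324))))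
noncomputable def n24 : T := (.node (nat_lit 20191) (.node (nat_lit 20008) (.node (nat_lit 19886) l325 (.node (nat_lit 19947) l326 l327)) (.node (nat_lit 20069) l328 (.node (nat_lit 20130) l329 l330))) (.node (nat_lit 20374) (.node (nat_lit 20252) l331 (.node (nat_lit 20313) l332 l333)) (.node (nat_lit 20496) (.node (nat_lit 20435) l334 l335) (.node (nat_lit 20557) l336 l337))))
noncomputable def n25 : T := (.node (nat_lit 21045) (.node (nat_lit 20801) (.node (nat_lit 20679) l338 (.node (nat_lit 20740) l339 l340)) (.node (nat_lit 20923) (.node (nat_lit 20862) l341 l342) (.node (nat_lit 20984) l343 l344))) (.node (nat_lit 21228) (.node (nat_lit 21106) l345 (.node (nat_lit 21167) l346 l347)) (.node (nat_lit 21350) (.node (nat_lit 21289) l348 l349) (.node (nat_lit 21411) l350 l351))))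
noncomputable def n26 : T := (.node (nat_lit 21838) (.node (nat_lit 21655) (.node (nat_lit 21533) l352 (.node (nat_lit 21594) l353 l354)) (.node (nat_lit 21716) l355 (.node (nat_lit 21777) l356 l357))) (.node (nat_lit 22021) (.node (nat_lit 21899) l358 (.node (nat_lit 21960) l359 l360)) (.node (nat_lit 22143) (.node (nat_lit 22082) l361 l362) (.node (nat_lit 22204) l363 l364))))
noncomputable def n27 : T := (.node (nat_lit 22692) (.node (nat_lit 22448) (.node (nat_lit 22326) l365 (.node (nat_lit 22387) l366 l367)) (.node (nat_lit 22570) (.node (nat_lit 22509) l368 l369) (.node (nat_lit 22631) l370 l371))) (.node (nat_lit 22875) (.node (nat_lit 22753) l372 (.node (nat_lit 22814) l373 l374)) (.node (nat_lit 22997) (.node (nat_lit 22936) l375 l376) (.node (nat_lit 23058) l377 l378))))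
noncomputable def n28 : T := (.node (nat_lit 23485) (.node (nat_lit 23302) (.node (nat_lit 23180) l379 (.node (nat_lit 23241) l380 l381)) (.node (nat_lit 23363) l382 (.node (nat_lit 23424) l383 l384))) (.node (nat_lit 23668) (.node (nat_lit 23546) l385 (.node (nat_lit 23607) l386 l387)) (.node (nat_lit 23790) (.node (nat_lit 23729) l388 l389) (.node (nat_lit 23851) l390 l391))))
noncomputable def n29 : T := (.node (nat_lit 24339) (.node (nat_lit 24095) (.node (nat_lit 23973) l392 (.node (nat_lit 24034) l393 l394)) (.node (nat_lit 24217) (.node (nat_lit 24156) l395 l396) (.node (nat_lit 24278) l397 l398))) (.node (nat_lit 24522) (.node (nat_lit 24400) l399 (.node (nat_lit 24461) l400 l401)) (.node (nat_lit 24644) (.node (nat_lit 24583) l402 l403) (.node (nat_lit 24705) l404 l405))))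
noncomputable def n30 : T := (.node (nat_lit 25193) (.node (nat_lit 24949) (.node (nat_lit 24827) l406 (.node (nat_lit 24888) l407 l408)) (.node (nat_lit 25071) (.node (nat_lit 25010) l409 l410) (.node (nat_lit 25132) l411 l412))) (.node (nat_lit 25376) (.node (nat_lit 25254) l413 (.node (nat_lit 25315) l414 l415)) (.node (nat_lit 25498) (.node (nat_lit 25437) l416 l417) (.node (nat_lit 25559) l418 l419))))
noncomputable def n31 : T := (.node (nat_lit 26047) (.node (nat_lit 25803) (.node (nat_lit 25681) l420 (.node (nat_lit 25742) l421 l422)) (.node (nat_lit 25925) (.node (nat_lit 25864) l423 l424) (.node (nat_lit 25986) l425 l426))) (.node (nat_lit 26230) (.node (nat_lit 26108) l427 (.node (nat_lit 26169) l428 l429)) (.node (nat_lit 26352) (.node (nat_lit 26291) l430 l431) (.node (nat_lit 26413) l432 l433))))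
noncomputable def tb : T := (.node (nat_lit 13237) (.node (nat_lit 6588) (.node (nat_lit 3294) (.node (nat_lit 1647) (.node (nat_lit 793) n0 n1) (.node (nat_lit 2440) n2 n3)) (.node (nat_lit 4941) (.node (nat_lit 4087) n4 n5) (.node (nat_lit 5734) n6 n7))) (.node (nat_lit 9882) (.node (nat_lit 8235) (.node (nat_lit 7381) n8 n9) (.node (nat_lit 9028) n10 n11)) (.node (nat_lit 11529) (.node (nat_lit 10675) n12 n13) (.node (nat_lit 12383) n14 n15)))) (.node (nat_lit 19825) (.node (nat_lit 16531) (.node (nat_lit 14884) (.node (nat_lit 14030) n16 n17) (.node (nat_lit 15677) n18 n19)) (.node (nat_lit 18178) (.node (nat_lit 17324) n20 n21) (.node (nat_lit 18971) n22 n23))) (.node (nat_lit 23119) (.node (nat_lit 21472) (.node (nat_lit 20618) n24 n25) (.node (nat_lit 22265) n26 n27)) (.node (nat_lit 24766) (.node (nat_lit 23912) n28 n29) (.node (nat_lit 25620) n30 n31)))))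
noncomputable def r0 : WT := (.node (nat_lit 5) (.leaf (nat_lit 22528) [nat_lit 52, nat_lit 208, nat_lit 52, nat_lit 156, nat_lit 208, nat_lit 182]) (.leaf (nat_lit 33792) [nat_lit 130, nat_lit 182, nat_lit 104, nat_lit 52, nat_lit 130, nat_lit 182, nat_lit 104]))
noncomputable def r1 : WT := (.node (nat_lit 7) (.leaf (nat_lit 20480) [nat_lit 156, nat_lit 208, nat_lit 182, nat_lit 78, nat_lit 208]) (.node (nat_lit 8) (.leaf (nat_lit 34816) [nat_lit 156, nat_lit 52, nat_lit 156, nat_lit 52, nat_lit 156, nat_lit 52, nat_lit 156]) (.leaf (nat_lit 35840) [nat_lit 156, nat_lit 78, nat_lit 156, nat_lit 156, nat_lit 130, nat_lit 156, nat_lit 104])))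
noncomputable def r2 : WT := (.node (nat_lit 11) (.node (nat_lit 10) (.leaf (nat_lit 35851) [nat_lit 182, nat_lit 78, nat_lit 130, nat_lit 182, nat_lit 104, nat_lit 182, nat_lit 182]) (.leaf (nat_lit 29696) [nat_lit 104, nat_lit 156, nat_lit 52, nat_lit 104, nat_lit 182, nat_lit 182, nat_lit 182])) (.node (nat_lit 12) (.leaf (nat_lit 24576) [nat_lit 104, nat_lit 208, nat_lit 130, nat_lit 208, nat_lit 78, nat_lit 208]) (.node (nat_lit 13) (.leaf (nat_lit 38912) [nat_lit 208, nat_lit 78, nat_lit 156, nat_lit 130, nat_lit 208, nat_lit 104, nat_lit 182]) (.leaf (nat_lit 60419) [nat_lit 104, nat_lit 182, nat_lit 130, nat_lit 182, nat_lit 52, nat_lit 130, nat_lit 78, nat_lit 130]))))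
noncomputable def r3 : WT := (.node (nat_lit 24) (.leaf (nat_lit 48128) [nat_lit 52, nat_lit 130, nat_lit 156, nat_lit 104, nat_lit 78, nat_lit 130, nat_lit 156, nat_lit 104]) (.leaf (nat_lit 91136) [nat_lit 52, nat_lit 156, nat_lit 104, nat_lit 156, nat_lit 130, nat_lit 78, nat_lit 104, nat_lit 52, nat_lit 104]))
noncomputable def r4 : WT := (.node (nat_lit 26) (.leaf (nat_lit 36864) [nat_lit 156, nat_lit 78, nat_lit 182, nat_lit 182, nat_lit 130, nat_lit 156, nat_lit 104]) (.leaf (nat_lit 63499) [nat_lit 156, nat_lit 130, nat_lit 78, nat_lit 156, nat_lit 78, nat_lit 182, nat_lit 104, nat_lit 182]))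
noncomputable def r5 : WT := (.node (nat_lit 18) (.node (nat_lit 16) (.node (nat_lit 15) (.leaf (nat_lit 36875) [nat_lit 182, nat_lit 78, nat_lit 130, nat_lit 182, nat_lit 104, nat_lit 156, nat_lit 156]) (.leaf (nat_lit 49152) [nat_lit 52, nat_lit 130, nat_lit 182, nat_lit 104, nat_lit 156, nat_lit 156, nat_lit 52, nat_lit 182])) (.node (nat_lit 17) (.leaf (nat_lit 60416) [nat_lit 104, nat_lit 78, nat_lit 156, nat_lit 104, nat_lit 156, nat_lit 130, nat_lit 78, nat_lit 104]) (.leaf (nat_lit 60429) [nat_lit 130, nat_lit 78, nat_lit 130, nat_lit 52, nat_lit 104, nat_lit 182, nat_lit 130, nat_lit 182]))) (.node (nat_lit 21) (.node (nat_lit 19) (.leaf (nat_lit 39936) [nat_lit 208, nat_lit 78, nat_lit 182, nat_lit 130, nat_lit 208, nat_lit 104, nat_lit 156]) (.node (nat_lit 20) (.leaf (nat_lit 24579) [nat_lit 208, nat_lit 104, nat_lit 208, nat_lit 130, nat_lit 78, nat_lit 208]) (.leaf (nat_lit 28672) [nat_lit 52, nat_lit 208, nat_lit 52, nat_lit 208, nat_lit 104, nat_lit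 208, nat_lit 130]))) (.node (nat_lit 23) (.node (nat_lit 22) (.leaf (nat_lit 65540) [nat_lit 156, nat_lit 104, nat_lit 182, nat_lit 130, nat_lit 156, nat_lit 156, nat_lit 52, nat_lit 130]) (.leaf (nat_lit 12302) [nat_lit 208, nat_lit 130, nat_lit 234, nat_lit 104, nat_lit 208, nat_lit 130, nat_lit 234, nat_lit 130, nat_lit 156])) (.node (nat_lit 25) r3 r4))))
noncomputable def r6 : WT := (.node (nat_lit 28) (.leaf (nat_lit 53248) [nat_lit 52, nat_lit 182, nat_lit 78, nat_lit 182, nat_lit 78, nat_lit 182, nat_lit 78, nat_lit 182]) (.leaf (nat_lit 52224) [nat_lit 52, nat_lit 156, nat_lit 156, nat_lit 130, nat_lit 156, nat_lit 104, nat_lit 52, nat_lit 156]))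
noncomputable def r7 : WT := (.node (nat_lit 30) (.leaf (nat_lit 63488) [nat_lit 104, nat_lit 182, nat_lit 78, nat_lit 156, nat_lit 130, nat_lit 156, nat_lit 52, nat_lit 182]) (.leaf (nat_lit 15378) [nat_lit 234, nat_lit 78, nat_lit 130, nat_lit 156, nat_lit 104, nat_lit 234, nat_lit 130, nat_lit 182, nat_lit 104]))
noncomputable def r8 : WT := (.node (nat_lit 32) (.leaf (nat_lit 69632) [nat_lit 130, nat_lit 182, nat_lit 104, nat_lit 52, nat_lit 130, nat_lit 182, nat_lit 130, nat_lit 130]) (.leaf (nat_lit 64520) [nat_lit 208, nat_lit 104, nat_lit 156, nat_lit 208, nat_lit 52, nat_lit 104, nat_lit 208, nat_lit 156]))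
noncomputable def r9 : WT := (.node (nat_lit 34) (.leaf (nat_lit 106496) [nat_lit 52, nat_lit 182, nat_lit 208, nat_lit 156, nat_lit 208, nat_lit 52, nat_lit 130, nat_lit 208, nat_lit 104]) (.leaf (nat_lit 63502) [nat_lit 182, nat_lit 52, nat_lit 104, nat_lit 182, nat_lit 78, nat_lit 156, nat_lit 130, nat_lit 156]))
noncomputable def r10 : WT := (.node (nat_lit 36) (.leaf (nat_lit 98304) [nat_lit 52, nat_lit 156, nat_lit 156, nat_lit 104, nat_lit 156, nat_lit 130, nat_lit 182, nat_lit 78, nat_lit 104]) (.leaf (nat_lit 111620) [nat_lit 104, nat_lit 182, nat_lit 52, nat_lit 130, nat_lit 182, nat_lit 78, nat_lit 130, nat_lit 52, nat_lit 104]))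
noncomputable def r11 : WT := (.node (nat_lit 38) (.leaf (nat_lit 72704) [nat_lit 156, nat_lit 78, nat_lit 156, nat_lit 104, nat_lit 182, nat_lit 104, nat_lit 182, nat_lit 130]) (.node (nat_lit 39) (.leaf (nat_lit 110592) [nat_lit 52, nat_lit 208, nat_lit 182, nat_lit 208, nat_lit 156, nat_lit 52, nat_lit 130, nat_lit 208, nat_lit 104]) (.leaf (nat_lit 62464) [nat_lit 104, nat_lit 156, nat_lit 208, nat_lit 52, nat_lit 208, nat_lit 104, nat_lit 208, nat_lit 156])))
noncomputable def r12 : WT := (.node (nat_lit 42) (.node (nat_lit 41) (.leaf (nat_lit 9220) [nat_lit 208, nat_lit 78, nat_lit 104, nat_lit 260, nat_lit 130]) (.leaf (nat_lit 72717) [nat_lit 182, nat_lit 78, nat_lit 104, nat_lit 156, nat_lit 130, nat_lit 156, nat_lit 130, nat_lit 182])) (.node (nat_lit 43) (.leaf (nat_lit 111616) [nat_lit 104, nat_lit 52, nat_lit 104, nat_lit 182, nat_lit 52, nat_lit 130, nat_lit 182, nat_lit 78, nat_lit 130]) (.leaf (nat_lit 111619) [nat_lit 156, nat_lit 104, nat_lit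 78, nat_lit 156, nat_lit 130, nat_lit 78, nat_lit 130, nat_lit 78, nat_lit 104])))
noncomputable def r13 : WT := (.node (nat_lit 46) (.node (nat_lit 45) (.leaf (nat_lit 66560) [nat_lit 130, nat_lit 52, nat_lit 156, nat_lit 104, nat_lit 182, nat_lit 130, nat_lit 182, nat_lit 182]) (.leaf (nat_lit 10252) [nat_lit 286, nat_lit 78, nat_lit 208, nat_lit 156, nat_lit 156, nat_lit 208])) (.node (nat_lit 47) (.leaf (nat_lit 116739) [nat_lit 130, nat_lit 78, nat_lit 156, nat_lit 104, nat_lit 182, nat_lit 78, nat_lit 130, nat_lit 78, nat_lit 130]) (.leaf (nat_lit 67593) [nat_lit 130, nat_lit 182, nat_lit 104, nat_lit 78, nat_lit 156, nat_lit 78, nat_lit 182, nat_lit 182])))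
noncomputable def r14 : WT := (.node (nat_lit 50) (.node (nat_lit 49) (.leaf (nat_lit 14338) [nat_lit 156, nat_lit 52, nat_lit 156, nat_lit 234, nat_lit 182, nat_lit 78, nat_lit 182, nat_lit 78, nat_lit 234]) (.leaf (nat_lit 14342) [nat_lit 156, nat_lit 234, nat_lit 182, nat_lit 78, nat_lit 182, nat_lit 78, nat_lit 234, nat_lit 52, nat_lit 156])) (.node (nat_lit 51) (.leaf (nat_lit 66564) [nat_lit 156, nat_lit 104, nat_lit 182, nat_lit 130, nat_lit 182, nat_lit 182, nat_lit 52, nat_lit 130]) (.node (nat_lit 52) (.leaf (nat_lit 27648) [nat_lit 52, nat_lit 208, nat_lit 52, nat_lit 104, nat_lit 208, nat_lit 130, nat_lit 208]) (.leaf (nat_lit 13316) [nat_lit 104, nat_lit 234, nat_lit 208, nat_lit 130, nat_lit 78, nat_lit 104, nat_lit 208, nat_lit 234, nat_lit 130]))))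
noncomputable def r15 : WT := (.node (nat_lit 56) (.node (nat_lit 54) (.leaf (nat_lit 70663) [nat_lit 156, nat_lit 104, nat_lit 156, nat_lit 104, nat_lit 78, nat_lit 156, nat_lit 104, nat_lit 182]) (.node (nat_lit 55) (.leaf (nat_lit 65536) [nat_lit 130, nat_lit 52, nat_lit 156, nat_lit 104, nat_lit 182, nat_lit 130, nat_lit 156, nat_lit 156]) (.leaf (nat_lit 125952) [nat_lit 104, nat_lit 78, nat_lit 130, nat_lit 52, nat_lit 156, nat_lit 52, nat_lit 130, nat_lit 156, nat_lit 104]))) (.node (nat_lit 57) (.leaf (nat_lit 83968) [nat_lit 52, nat_lit 104, nat_lit 52, nat_lit 104, nat_lit 78, nat_lit 156, nat_lit 104, nat_lit 156, nat_lit 130]) (.node (nat_lit 58) (.leaf (nat_lit 116736) [nat_lit 104, nat_lit 52, nat_lit 156, nat_lit 130, nat_lit 182, nat_lit 52, nat_lit 104, nat_lit 78, nat_lit 104]) (.leaf (nat_lit 50176) [nat_lit 52, nat_lit 130, nat_lit 182, nat_lit 104, nat_lit 182, nat_lit 182, nat_lit 52, nat_lit 182]))))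
noncomputable def r16 : WT := (.node (nat_lit 62) (.node (nat_lit 60) (.leaf (nat_lit 114692) [nat_lit 156, nat_lit 130, nat_lit 156, nat_lit 78, nat_lit 130, nat_lit 156, nat_lit 156, nat_lit 52, nat_lit 104]) (.node (nat_lit 61) (.leaf (nat_lit 88064) [nat_lit 52, nat_lit 130, nat_lit 52, nat_lit 104, nat_lit 182, nat_lit 130, nat_lit 182, nat_lit 52, nat_lit 130]) (.leaf (nat_lit 71680) [nat_lit 130, nat_lit 208, nat_lit 104, nat_lit 78, nat_lit 182, nat_lit 208, nat_lit 156, nat_lit 208]))) (.node (nat_lit 64) (.node (nat_lit 63) (.leaf (nat_lit 117760) [nat_lit 104, nat_lit 52, nat_lit 182, nat_lit 130, nat_lit 52, nat_lit 104, nat_lit 52, nat_lit 182, nat_lit 130]) (.leaf (nat_lit 97280) [nat_lit 52, nat_lit 156, nat_lit 156, nat_lit 52, nat_lit 130, nat_lit 182, nat_lit 104, nat_lit 78, nat_lit 156])) (.node (nat_lit 65) (.leaf (nat_lit 119823) [nat_lit 130, nat_lit 78, nat_lit 182, nat_lit 78, nat_lit 182, nat_lit 182, nat_lit 130, nat_lit 182, nat_lit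 130]) (.leaf (nat_lit 92160) [nat_lit 52, nat_lit 156, nat_lit 104, nat_lit 182, nat_lit 52, nat_lit 156, nat_lit 104, nat_lit 156, nat_lit 104]))))
noncomputable def r17 : WT := (.node (nat_lit 69) (.node (nat_lit 67) (.leaf (nat_lit 121870) [nat_lit 156, nat_lit 156, nat_lit 52, nat_lit 104, nat_lit 78, nat_lit 104, nat_lit 156, nat_lit 156, nat_lit 104]) (.node (nat_lit 68) (.leaf (nat_lit 68622) [nat_lit 182, nat_lit 52, nat_lit 130, nat_lit 156, nat_lit 104, nat_lit 78, nat_lit 182, nat_lit 182]) (.leaf (nat_lit 112644) [nat_lit 130, nat_lit 182, nat_lit 52, nat_lit 104, nat_lit 52, nat_lit 130, nat_lit 182, nat_lit 52, nat_lit 104]))) (.node (nat_lit 71) (.node (nat_lit 70) (.leaf (nat_lit 67584) [nat_lit 130, nat_lit 156, nat_lit 104, nat_lit 78, nat_lit 156, nat_lit 156, nat_lit 52, nat_lit 182]) (.leaf (nat_lit 113664) [nat_lit 104, nat_lit 52, nat_lit 130, nat_lit 182, nat_lit 52, nat_lit 156, nat_lit 104, nat_lit 78, nat_lit 130])) (.node (nat_lit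 72) (.leaf (nat_lit 73728) [nat_lit 156, nat_lit 78, nat_lit 156, nat_lit 156, nat_lit 130, nat_lit 156, nat_lit 130, nat_lit 130]) (.leaf (nat_lit 68617) [nat_lit 130, nat_lit 182, nat_lit 104, nat_lit 78, nat_lit 156, nat_lit 78, nat_lit 156, nat_lit 156]))))
noncomputable def r18 : WT := (.node (nat_lit 78) (.node (nat_lit 75) (.node (nat_lit 74) (.leaf (nat_lit 145408) [nat_lit 104, nat_lit 156, nat_lit 78, nat_lit 156, nat_lit 78, nat_lit 156, nat_lit 104, nat_lit 182, nat_lit 104]) (.leaf (nat_lit 70656) [nat_lit 130, nat_lit 182, nat_lit 130, nat_lit 182, nat_lit 78, nat_lit 156, nat_lit 130, nat_lit 182])) (.node (nat_lit 76) (.leaf (nat_lit 114695) [nat_lit 182, nat_lit 104, nat_lit 182, nat_lit 78, nat_lit 130, nat_lit 78, nat_lit 182, nat_lit 182, nat_lit 104]) (.node (nat_lit 77) (.leaf (nat_lit 118799) [nat_lit 130, nat_lit 78, nat_lit 104, nat_lit 156, nat_lit 78, nat_lit 130, nat_lit 52, nat_lit 182, nat_lit 130]) (.leaf (nat_lit 146440) [nat_lit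 182, nat_lit 130, nat_lit 182, nat_lit 78, nat_lit 182, nat_lit 52, nat_lit 104, nat_lit 156, nat_lit 104])))) (.node (nat_lit 80) (.node (nat_lit 79) (.leaf (nat_lit 90112) [nat_lit 52, nat_lit 156, nat_lit 78, nat_lit 182, nat_lit 104, nat_lit 182, nat_lit 52, nat_lit 156, nat_lit 130]) (.leaf (nat_lit 119824) [nat_lit 156, nat_lit 52, nat_lit 104, nat_lit 78, nat_lit 104, nat_lit 156, nat_lit 104, nat_lit 156, nat_lit 156])) (.node (nat_lit 81) (.leaf (nat_lit 115719) [nat_lit 182, nat_lit 104, nat_lit 182, nat_lit 78, nat_lit 130, nat_lit 78, nat_lit 156, nat_lit 156, nat_lit 104]) (.node (nat_lit 82) (.leaf (nat_lit 113667) [nat_lit 130, nat_lit 182, nat_lit 78, nat_lit 156, nat_lit 104, nat_lit 78, nat_lit 130, nat_lit 78, nat_lit 104]) (.leaf (nat_lit 132096) [nat_lit 104, nat_lit 78, nat_lit 182, nat_lit 78, nat_lit 130, nat_lit 52, nat_lit 130, nat_lit 156, nat_lit 130])))))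
noncomputable def r19 : WT := (.node (nat_lit 89) (.node (nat_lit 86) (.node (nat_lit 84) (.leaf (nat_lit 118793) [nat_lit 182, nat_lit 130, nat_lit 52, nat_lit 130, nat_lit 78, nat_lit 104, nat_lit 156, nat_lit 78, nat_lit 130]) (.node (nat_lit 85) (.leaf (nat_lit 67598) [nat_lit 182, nat_lit 52, nat_lit 130, nat_lit 156, nat_lit 104, nat_lit 78, nat_lit 156, nat_lit 156]) (.leaf (nat_lit 51200) [nat_lit 52, nat_lit 156, nat_lit 130, nat_lit 208, nat_lit 104, nat_lit 182, nat_lit 52, nat_lit 208]))) (.node (nat_lit 87) (.leaf (nat_lit 125964) [nat_lit 130, nat_lit 156, nat_lit 104, nat_lit 52, nat_lit 104, nat_lit 78, nat_lit 130, nat_lit 52, nat_lit 156]) (.node (nat_lit 88) (.leaf (nat_lit 118798) [nat_lit 182, nat_lit 130, nat_lit 52, nat_lit 104, nat_lit 78, nat_lit 104, nat_lit 156, nat_lit 78, nat_lit 104]) (.leaf (nat_lit 131080) [nat_lit 130, nat_lit 52, nat_lit 156, nat_lit 78, nat_lit 104, nat_lit 52, nat_lit 104, nat_lit 78, nat_lit 182])))) (.node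 (nat_lit 93) (.node (nat_lit 91) (.node (nat_lit 90) (.leaf (nat_lit 125967) [nat_lit 130, nat_lit 78, nat_lit 130, nat_lit 182, nat_lit 104, nat_lit 78, nat_lit 182, nat_lit 78, nat_lit 104]) (.leaf (nat_lit 126979) [nat_lit 182, nat_lit 130, nat_lit 156, nat_lit 78, nat_lit 182, nat_lit 52, nat_lit 130, nat_lit 78, nat_lit 156])) (.node (nat_lit 92) (.leaf (nat_lit 126991) [nat_lit 130, nat_lit 78, nat_lit 156, nat_lit 52, nat_lit 182, nat_lit 130, nat_lit 156, nat_lit 78, nat_lit 182]) (.leaf (nat_lit 132108) [nat_lit 130, nat_lit 156, nat_lit 130, nat_lit 52, nat_lit 104, nat_lit 78, nat_lit 182, nat_lit 78, nat_lit 130]))) (.node (nat_lit 95) (.node (nat_lit 94) (.leaf (nat_lit 128000) [nat_lit 104, nat_lit 78, nat_lit 156, nat_lit 104, nat_lit 156, nat_lit 130, nat_lit 78, nat_lit 130, nat_lit 130]) (.leaf (nat_lit 116740) [nat_lit 156, nat_lit 130, nat_lit 182, nat_lit 52, nat_lit 104, nat_lit 78, nat_lit 104, nat_lit 52, nat_lit 104])) (.node (nat_lit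 96) (.leaf (nat_lit 113668) [nat_lit 130, nat_lit 182, nat_lit 52, nat_lit 156, nat_lit 104, nat_lit 78, nat_lit 130, nat_lit 52, nat_lit 104]) (.leaf (nat_lit 54272) [nat_lit 52, nat_lit 182, nat_lit 130, nat_lit 208, nat_lit 78, nat_lit 182, nat_lit 130, nat_lit 208])))))
noncomputable def r20 : WT := (.node (nat_lit 101) (.leaf (nat_lit 118784) [nat_lit 104, nat_lit 78, nat_lit 104, nat_lit 156, nat_lit 78, nat_lit 104, nat_lit 52, nat_lit 182, nat_lit 130]) (.leaf (nat_lit 125960) [nat_lit 156, nat_lit 52, nat_lit 130, nat_lit 156, nat_lit 104, nat_lit 52, nat_lit 104, nat_lit 78, nat_lit 130]))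
noncomputable def r21 : WT := (.node (nat_lit 106) (.leaf (nat_lit 111626) [nat_lit 130, nat_lit 182, nat_lit 78, nat_lit 130, nat_lit 52, nat_lit 104, nat_lit 52, nat_lit 104, nat_lit 182]) (.leaf (nat_lit 93184) [nat_lit 52, nat_lit 156, nat_lit 104, nat_lit 182, nat_lit 104, nat_lit 182, nat_lit 130, nat_lit 52, nat_lit 156]))
noncomputable def r22 : WT := (.node (nat_lit 111) (.leaf (nat_lit 147456) [nat_lit 104, nat_lit 156, nat_lit 156, nat_lit 52, nat_lit 156, nat_lit 104, nat_lit 156, nat_lit 78, nat_lit 130]) (.leaf (nat_lit 124943) [nat_lit 130, nat_lit 78, nat_lit 156, nat_lit 156, nat_lit 78, nat_lit 130, nat_lit 156, nat_lit 156, nat_lit 130]))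
noncomputable def r23 : WT := (.node (nat_lit 114) (.leaf (nat_lit 145421) [nat_lit 182, nat_lit 130, nat_lit 78, nat_lit 130, nat_lit 156, nat_lit 130, nat_lit 182, nat_lit 52, nat_lit 182]) (.leaf (nat_lit 144396) [nat_lit 156, nat_lit 78, nat_lit 182, nat_lit 52, nat_lit 104, nat_lit 156, nat_lit 52, nat_lit 156, nat_lit 104]))
noncomputable def r24 : WT := (.node (nat_lit 116) (.leaf (nat_lit 126976) [nat_lit 104, nat_lit 78, nat_lit 156, nat_lit 52, nat_lit 182, nat_lit 104, nat_lit 156, nat_lit 78, nat_lit 182]) (.leaf (nat_lit 144390) [nat_lit 156, nat_lit 104, nat_lit 52, nat_lit 156, nat_lit 78, nat_lit 182, nat_lit 52, nat_lit 104, nat_lit 156]))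
noncomputable def r25 : WT := (.node (nat_lit 118) (.leaf (nat_lit 135182) [nat_lit 104, nat_lit 156, nat_lit 52, nat_lit 104, nat_lit 78, nat_lit 208, nat_lit 52, nat_lit 156, nat_lit 208]) (.leaf (nat_lit 132111) [nat_lit 130, nat_lit 78, nat_lit 104, nat_lit 182, nat_lit 104, nat_lit 78, nat_lit 104, nat_lit 52, nat_lit 156]))
noncomputable def r26 : WT := (.node (nat_lit 107) (.node (nat_lit 102) (.node (nat_lit 99) (.node (nat_lit 98) (.leaf (nat_lit 131072) [nat_lit 104, nat_lit 78, nat_lit 182, nat_lit 52, nat_lit 130, nat_lit 52, nat_lit 156, nat_lit 78, nat_lit 104]) (.leaf (nat_lit 41984) [nat_lit 208, nat_lit 104, nat_lit 156, nat_lit 52, nat_lit 208, nat_lit 104, nat_lit 156])) (.node (nat_lit 100) (.leaf (nat_lit 147459) [nat_lit 182, nat_lit 130, nat_lit 182, nat_lit 78, nat_lit 182, nat_lit 182, nat_lit 130, nat_lit 78, nat_lit 104]) r20)) (.node (nat_lit 104) (.node (nat_lit 103) (.leaf (nat_lit 119808) [nat_lit 104, nat_lit 78, nat_lit 104, nat_lit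 156, nat_lit 104, nat_lit 156, nat_lit 156, nat_lit 52, nat_lit 156]) (.leaf (nat_lit 131075) [nat_lit 182, nat_lit 78, nat_lit 104, nat_lit 78, nat_lit 156, nat_lit 52, nat_lit 130, nat_lit 78, nat_lit 130])) (.node (nat_lit 105) (.leaf (nat_lit 131084) [nat_lit 156, nat_lit 78, nat_lit 104, nat_lit 52, nat_lit 104, nat_lit 78, nat_lit 182, nat_lit 52, nat_lit 130]) r21))) (.node (nat_lit 112) (.node (nat_lit 109) (.node (nat_lit 108) (.leaf (nat_lit 68608) [nat_lit 130, nat_lit 156, nat_lit 104, nat_lit 78, nat_lit 182, nat_lit 182, nat_lit 52, nat_lit 182]) (.leaf (nat_lit 71689) [nat_lit 130, nat_lit 208, nat_lit 104, nat_lit 78, nat_lit 208, nat_lit 182, nat_lit 208, nat_lit 156])) (.node (nat_lit 110) (.leaf (nat_lit 94208) [nat_lit 52, nat_lit 156, nat_lit 130, nat_lit 156, nat_lit 52, nat_lit 182, nat_lit 52, nat_lit 104, nat_lit 182]) r22)) (.node (nat_lit 115) (.node (nat_lit 113) (.leaf (nat_lit 120847) [nat_lit 130, nat_lit 78, nat_lit 182, nat_lit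 78, nat_lit 156, nat_lit 156, nat_lit 130, nat_lit 182, nat_lit 130]) r23) (.node (nat_lit 117) r24 r25))))
noncomputable def r27 : WT := (.node (nat_lit 121) (.leaf (nat_lit 132107) [nat_lit 156, nat_lit 52, nat_lit 130, nat_lit 78, nat_lit 104, nat_lit 182, nat_lit 104, nat_lit 78, nat_lit 104]) (.leaf (nat_lit 131087) [nat_lit 130, nat_lit 78, nat_lit 130, nat_lit 52, nat_lit 182, nat_lit 78, nat_lit 104, nat_lit 78, nat_lit 156]))
noncomputable def r28 : WT := (.node (nat_lit 123) (.leaf (nat_lit 75776) [nat_lit 156, nat_lit 78, nat_lit 182, nat_lit 182, nat_lit 130, nat_lit 156, nat_lit 130, nat_lit 130]) (.leaf (nat_lit 114688) [nat_lit 104, nat_lit 52, nat_lit 156, nat_lit 130, nat_lit 156, nat_lit 78, nat_lit 130, nat_lit 156, nat_lit 156]))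
noncomputable def r29 : WT := (.node (nat_lit 125) (.leaf (nat_lit 51202) [nat_lit 156, nat_lit 130, nat_lit 208, nat_lit 104, nat_lit 182, nat_lit 52, nat_lit 208, nat_lit 52]) (.leaf (nat_lit 55310) [nat_lit 208, nat_lit 52, nat_lit 52, nat_lit 182, nat_lit 130, nat_lit 208, nat_lit 104, nat_lit 156]))
noncomputable def r30 : WT := (.node (nat_lit 127) (.leaf (nat_lit 116748) [nat_lit 104, nat_lit 78, nat_lit 104, nat_lit 52, nat_lit 104, nat_lit 52, nat_lit 156, nat_lit 130, nat_lit 182]) (.leaf (nat_lit 117764) [nat_lit 182, nat_lit 130, nat_lit 52, nat_lit 104, nat_lit 52, nat_lit 182, nat_lit 130, nat_lit 52, nat_lit 104]))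
noncomputable def r31 : WT := (.node (nat_lit 129) (.leaf (nat_lit 95232) [nat_lit 52, nat_lit 156, nat_lit 130, nat_lit 182, nat_lit 52, nat_lit 130, nat_lit 182, nat_lit 130, nat_lit 182]) (.leaf (nat_lit 146432) [nat_lit 104, nat_lit 156, nat_lit 104, nat_lit 52, nat_lit 182, nat_lit 130, nat_lit 182, nat_lit 78, nat_lit 182]))
noncomputable def r32 : WT := (.node (nat_lit 131) (.leaf (nat_lit 87040) [nat_lit 52, nat_lit 104, nat_lit 156, nat_lit 130, nat_lit 156, nat_lit 130, nat_lit 182, nat_lit 52, nat_lit 182]) (.node (nat_lit 132) (.leaf (nat_lit 147464) [nat_lit 156, nat_lit 104, nat_lit 156, nat_lit 78, nat_lit 130, nat_lit 52, nat_lit 104, nat_lit 156, nat_lit 156]) (.leaf (nat_lit 94218) [nat_lit 182, nat_lit 52, nat_lit 104, nat_lit 182, nat_lit 52, nat_lit 52, nat_lit 156, nat_lit 130, nat_lit 156])))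
noncomputable def r33 : WT := (.node (nat_lit 135) (.node (nat_lit 134) (.leaf (nat_lit 57344) [nat_lit 52, nat_lit 208, nat_lit 52, nat_lit 208, nat_lit 78, nat_lit 208, nat_lit 52, nat_lit 208]) (.leaf (nat_lit 112640) [nat_lit 104, nat_lit 52, nat_lit 130, nat_lit 182, nat_lit 52, nat_lit 104, nat_lit 52, nat_lit 130, nat_lit 182])) (.node (nat_lit 136) (.leaf (nat_lit 10251) [nat_lit 286, nat_lit 78, nat_lit 208, nat_lit 182, nat_lit 182, nat_lit 208]) (.leaf (nat_lit 22530) [nat_lit 208, nat_lit 52, nat_lit 156, nat_lit 208, nat_lit 182, nat_lit 52])))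
noncomputable def r34 : WT := (.node (nat_lit 138) (.leaf (nat_lit 58368) [nat_lit 52, nat_lit 208, nat_lit 52, nat_lit 208, nat_lit 130, nat_lit 130, nat_lit 208, nat_lit 130]) (.node (nat_lit 139) (.leaf (nat_lit 59392) [nat_lit 52, nat_lit 208, nat_lit 52, nat_lit 208, nat_lit 156, nat_lit 208, nat_lit 182, nat_lit 208]) (.leaf (nat_lit 100352) [nat_lit 52, nat_lit 182, nat_lit 104, nat_lit 182, nat_lit 52, nat_lit 156, nat_lit 130, nat_lit 78, nat_lit 156])))
noncomputable def r35 : WT := (.node (nat_lit 142) (.node (nat_lit 141) (.leaf (nat_lit 130064) [nat_lit 156, nat_lit 52, nat_lit 104, nat_lit 78, nat_lit 156, nat_lit 156, nat_lit 130, nat_lit 182, nat_lit 130]) (.leaf (nat_lit 144384) [nat_lit 104, nat_lit 156, nat_lit 52, nat_lit 156, nat_lit 104, nat_lit 52, nat_lit 156, nat_lit 78, nat_lit 182])) (.node (nat_lit 143) (.leaf (nat_lit 97288) [nat_lit 130, nat_lit 182, nat_lit 104, nat_lit 78, nat_lit 156, nat_lit 52, nat_lit 52, nat_lit 156, nat_lit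 156]) (.leaf (nat_lit 83974) [nat_lit 104, nat_lit 78, nat_lit 156, nat_lit 104, nat_lit 156, nat_lit 130, nat_lit 52, nat_lit 52, nat_lit 104])))
noncomputable def r36 : WT := (.node (nat_lit 145) (.leaf (nat_lit 144387) [nat_lit 182, nat_lit 78, nat_lit 130, nat_lit 182, nat_lit 78, nat_lit 182, nat_lit 130, nat_lit 78, nat_lit 156]) (.node (nat_lit 146) (.leaf (nat_lit 21506) [nat_lit 182, nat_lit 130, nat_lit 78, nat_lit 182, nat_lit 130, nat_lit 52]) (.leaf (nat_lit 124928) [nat_lit 104, nat_lit 78, nat_lit 104, nat_lit 182, nat_lit 182, nat_lit 104, nat_lit 52, nat_lit 182, nat_lit 182])))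
noncomputable def r37 : WT := (.node (nat_lit 149) (.node (nat_lit 148) (.leaf (nat_lit 120848) [nat_lit 156, nat_lit 52, nat_lit 104, nat_lit 78, nat_lit 104, nat_lit 156, nat_lit 104, nat_lit 182, nat_lit 182]) (.leaf (nat_lit 90114) [nat_lit 156, nat_lit 78, nat_lit 182, nat_lit 104, nat_lit 182, nat_lit 52, nat_lit 156, nat_lit 130, nat_lit 52])) (.node (nat_lit 150) (.leaf (nat_lit 121856) [nat_lit 104, nat_lit 78, nat_lit 104, nat_lit 156, nat_lit 156, nat_lit 104, nat_lit 52, nat_lit 156, nat_lit 156]) (.leaf (nat_lit 23558) [nat_lit 130, nat_lit 130, nat_lit 156, nat_lit 52, nat_lit 104, nat_lit 156])))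
noncomputable def r38 : WT := (.node (nat_lit 152) (.leaf (nat_lit 121871) [nat_lit 130, nat_lit 78, nat_lit 182, nat_lit 182, nat_lit 78, nat_lit 130, nat_lit 182, nat_lit 182, nat_lit 130]) (.node (nat_lit 153) (.leaf (nat_lit 122894) [nat_lit 182, nat_lit 182, nat_lit 52, nat_lit 104, nat_lit 78, nat_lit 104, nat_lit 156, nat_lit 156, nat_lit 104]) (.leaf (nat_lit 122895) [nat_lit 130, nat_lit 78, nat_lit 156, nat_lit 156, nat_lit 78, nat_lit 130, nat_lit 182, nat_lit 182, nat_lit 130])))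
noncomputable def r39 : WT := (.node (nat_lit 156) (.node (nat_lit 155) (.leaf (nat_lit 123918) [nat_lit 156, nat_lit 156, nat_lit 52, nat_lit 104, nat_lit 78, nat_lit 104, nat_lit 182, nat_lit 182, nat_lit 104]) (.leaf (nat_lit 123919) [nat_lit 130, nat_lit 78, nat_lit 182, nat_lit 182, nat_lit 78, nat_lit 130, nat_lit 156, nat_lit 156, nat_lit 130])) (.node (nat_lit 157) (.leaf (nat_lit 27654) [nat_lit 104, nat_lit 208, nat_lit 130, nat_lit 208, nat_lit 52, nat_lit 52, nat_lit 208]) (.leaf (nat_lit 29702) [nat_lit 104, nat_lit 182, nat_lit 182, nat_lit 182, nat_lit 52, nat_lit 104, nat_lit 156])))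
noncomputable def r40 : WT := (.node (nat_lit 159) (.leaf (nat_lit 23552) [nat_lit 104, nat_lit 156, nat_lit 52, nat_lit 130, nat_lit 130, nat_lit 156]) (.node (nat_lit 160) (.leaf (nat_lit 30720) [nat_lit 104, nat_lit 208, nat_lit 104, nat_lit 104, nat_lit 208, nat_lit 78, nat_lit 208]) (.leaf (nat_lit 32771) [nat_lit 208, nat_lit 104, nat_lit 208, nat_lit 104, nat_lit 104, nat_lit 78, nat_lit 208])))
noncomputable def r41 : WT := (.node (nat_lit 163) (.node (nat_lit 162) (.leaf (nat_lit 37891) [nat_lit 182, nat_lit 182, nat_lit 182, nat_lit 208, nat_lit 182, nat_lit 78, nat_lit 208]) (.leaf (nat_lit 40960) [nat_lit 208, nat_lit 78, nat_lit 208, nat_lit 52, nat_lit 208, nat_lit 78, nat_lit 208])) (.node (nat_lit 164) (.leaf (nat_lit 48130) [nat_lit 130, nat_lit 156, nat_lit 104, nat_lit 78, nat_lit 130, nat_lit 156, nat_lit 104, nat_lit 52]) (.leaf (nat_lit 115712) [nat_lit 104, nat_lit 52, nat_lit 156, nat_lit 130, nat_lit 156, nat_lit 78, nat_lit 130, nat_lit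 182, nat_lit 182])))
noncomputable def r42 : WT := (.node (nat_lit 137) (.node (nat_lit 126) (.node (nat_lit 122) (.node (nat_lit 120) (.leaf (nat_lit 130048) [nat_lit 104, nat_lit 78, nat_lit 156, nat_lit 156, nat_lit 130, nat_lit 182, nat_lit 130, nat_lit 52, nat_lit 156]) r27) (.node (nat_lit 124) r28 r29)) (.node (nat_lit 130) (.node (nat_lit 128) r30 r31) (.node (nat_lit 133) r32 r33))) (.node (nat_lit 151) (.node (nat_lit 144) (.node (nat_lit 140) r34 r35) (.node (nat_lit 147) r36 r37)) (.node (nat_lit 158) (.node (nat_lit 154) r38 r39) (.node (nat_lit 161) r40 r41))))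
noncomputable def r43 : WT := (.node (nat_lit 48) (.node (nat_lit 35) (.node (nat_lit 31) (.node (nat_lit 29) r6 r7) (.node (nat_lit 33) r8 r9)) (.node (nat_lit 40) (.node (nat_lit 37) r10 r11) (.node (nat_lit 44) r12 r13))) (.node (nat_lit 73) (.node (nat_lit 59) (.node (nat_lit 53) r14 r15) (.node (nat_lit 66) r16 r17)) (.node (nat_lit 97) (.node (nat_lit 83) r18 r19) (.node (nat_lit 119) r26 r42))))
noncomputable def w0 : WT := (.node (nat_lit 1) (.leaf (nat_lit 0) [nat_lit 78]) (.node (nat_lit 6) (.node (nat_lit 3) (.node (nat_lit 2) (.leaf (nat_lit 16384) [nat_lit 52, nat_lit 52]) (.leaf (nat_lit 19456) [nat_lit 104, nat_lit 156, nat_lit 52, nat_lit 104, nat_lit 156])) (.node (nat_lit 4) (.leaf (nat_lit 21504) [nat_lit 52, nat_lit 182, nat_lit 130, nat_lit 78, nat_lit 182, nat_lit 130]) r0)) (.node (nat_lit 14) (.node (nat_lit 9) r1 r2) (.node (nat_lit 27) r5 r43))))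
noncomputable def r44 : WT := (.node (nat_lit 5) (.leaf (nat_lit 21515) [nat_lit 78, nat_lit 104, nat_lit 156, nat_lit 52, nat_lit 104, nat_lit 156]) (.leaf (nat_lit 34819) [nat_lit 182, nat_lit 78, nat_lit 182, nat_lit 78, nat_lit 182, nat_lit 78, nat_lit 182]))
noncomputable def r45 : WT := (.node (nat_lit 8) (.node (nat_lit 7) (.leaf (nat_lit 35844) [nat_lit 156, nat_lit 156, nat_lit 130, nat_lit 156, nat_lit 104, nat_lit 52, nat_lit 156]) (.leaf (nat_lit 23559) [nat_lit 182, nat_lit 130, nat_lit 78, nat_lit 182, nat_lit 104, nat_lit 104])) (.node (nat_lit 9) (.leaf (nat_lit 33799) [nat_lit 130, nat_lit 156, nat_lit 104, nat_lit 78, nat_lit 130, nat_lit 156, nat_lit 104]) (.leaf (nat_lit 35855) [nat_lit 130, nat_lit 182, nat_lit 104, nat_lit 182, nat_lit 182, nat_lit 52, nat_lit 182])))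
noncomputable def r46 : WT := (.node (nat_lit 21) (.leaf (nat_lit 53263) [nat_lit 78, nat_lit 156, nat_lit 52, nat_lit 156, nat_lit 52, nat_lit 156, nat_lit 52, nat_lit 156]) (.leaf (nat_lit 65553) [nat_lit 182, nat_lit 182, nat_lit 104, nat_lit 156, nat_lit 130, nat_lit 182, nat_lit 78, nat_lit 104]))
noncomputable def r47 : WT := (.node (nat_lit 14) (.node (nat_lit 11) (.leaf (nat_lit 22539) [nat_lit 78, nat_lit 156, nat_lit 208, nat_lit 182, nat_lit 78, nat_lit 208]) (.node (nat_lit 12) (.leaf (nat_lit 24586) [nat_lit 208, nat_lit 52, nat_lit 104, nat_lit 208, nat_lit 130, nat_lit 208]) (.node (nat_lit 13) (.leaf (nat_lit 24589) [nat_lit 208, nat_lit 52, nat_lit 208, nat_lit 104, nat_lit 208, nat_lit 130]) (.leaf (nat_lit 48143) [nat_lit 78, nat_lit 130, nat_lit 182, nat_lit 104, nat_lit 52, nat_lit 130, nat_lit 182, nat_lit 104])))) (.node (nat_lit 17) (.node (nat_lit 15) (.leaf (nat_lit 60430) [nat_lit 104, nat_lit 52, nat_lit 104, nat_lit 78, nat_lit 156,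 nat_lit 104, nat_lit 156, nat_lit 130]) (.node (nat_lit 16) (.leaf (nat_lit 32783) [nat_lit 208, nat_lit 52, nat_lit 208, nat_lit 104, nat_lit 208, nat_lit 104, nat_lit 104]) (.leaf (nat_lit 63491) [nat_lit 182, nat_lit 104, nat_lit 182, nat_lit 52, nat_lit 156, nat_lit 130, nat_lit 78, nat_lit 156]))) (.node (nat_lit 19) (.node (nat_lit 18) (.leaf (nat_lit 37900) [nat_lit 208, nat_lit 52, nat_lit 156, nat_lit 208, nat_lit 156, nat_lit 156, nat_lit 156]) (.leaf (nat_lit 60420) [nat_lit 156, nat_lit 104, nat_lit 156, nat_lit 130, nat_lit 78, nat_lit 104, nat_lit 52, nat_lit 104])) (.node (nat_lit 20) (.leaf (nat_lit 60433) [nat_lit 130, nat_lit 52, nat_lit 104, nat_lit 182, nat_lit 130, nat_lit 182, nat_lit 52, nat_lit 130]) r46))))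
noncomputable def r48 : WT := (.node (nat_lit 24) (.leaf (nat_lit 71688) [nat_lit 182, nat_lit 208, nat_lit 156, nat_lit 208, nat_lit 52, nat_lit 130, nat_lit 208, nat_lit 104]) (.leaf (nat_lit 54287) [nat_lit 78, nat_lit 208, nat_lit 104, nat_lit 156, nat_lit 52, nat_lit 208, nat_lit 104, nat_lit 156]))
noncomputable def r49 : WT := (.node (nat_lit 26) (.leaf (nat_lit 114700) [nat_lit 130, nat_lit 156, nat_lit 156, nat_lit 52, nat_lit 104, nat_lit 52, nat_lit 156, nat_lit 130, nat_lit 156]) (.leaf (nat_lit 36868) [nat_lit 182, nat_lit 182, nat_lit 130, nat_lit 156, nat_lit 104, nat_lit 52, nat_lit 156]))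
noncomputable def r50 : WT := (.node (nat_lit 28) (.leaf (nat_lit 51215) [nat_lit 78, nat_lit 208, nat_lit 78, nat_lit 156, nat_lit 130, nat_lit 208, nat_lit 104, nat_lit 182]) (.leaf (nat_lit 65549) [nat_lit 104, nat_lit 78, nat_lit 182, nat_lit 182, nat_lit 104, nat_lit 156, nat_lit 130, nat_lit 182]))
noncomputable def r51 : WT := (.node (nat_lit 30) (.leaf (nat_lit 38916) [nat_lit 156, nat_lit 130, nat_lit 208, nat_lit 104, nat_lit 182, nat_lit 52, nat_lit 208]) (.leaf (nat_lit 49167) [nat_lit 78, nat_lit 156, nat_lit 78, nat_lit 182, nat_lit 182, nat_lit 130, nat_lit 156, nat_lit 104]))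
noncomputable def r52 : WT := (.node (nat_lit 32) (.leaf (nat_lit 52239) [nat_lit 78, nat_lit 182, nat_lit 78, nat_lit 130, nat_lit 182, nat_lit 104, nat_lit 182, nat_lit 182]) (.leaf (nat_lit 13326) [nat_lit 104, nat_lit 208, nat_lit 234, nat_lit 130, nat_lit 52, nat_lit 104, nat_lit 234, nat_lit 208, nat_lit 130]))
noncomputable def r53 : WT := (.node (nat_lit 34) (.leaf (nat_lit 61457) [nat_lit 130, nat_lit 156, nat_lit 104, nat_lit 78, nat_lit 130, nat_lit 156, nat_lit 130, nat_lit 130]) (.node (nat_lit 35) (.leaf (nat_lit 71697) [nat_lit 208, nat_lit 182, nat_lit 208, nat_lit 156, nat_lit 52, nat_lit 130, nat_lit 208, nat_lit 104]) (.leaf (nat_lit 27661) [nat_lit 78, nat_lit 208, nat_lit 104, nat_lit 208, nat_lit 130, nat_lit 78, nat_lit 208])))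
noncomputable def r54 : WT := (.node (nat_lit 37) (.leaf (nat_lit 15362) [nat_lit 130, nat_lit 156, nat_lit 104, nat_lit 234, nat_lit 130, nat_lit 182, nat_lit 104, nat_lit 52, nat_lit 234]) (.node (nat_lit 38) (.leaf (nat_lit 67587) [nat_lit 182, nat_lit 182, nat_lit 52, nat_lit 130, nat_lit 182, nat_lit 104, nat_lit 78, nat_lit 156]) (.leaf (nat_lit 14354) [nat_lit 234, nat_lit 52, nat_lit 156, nat_lit 52, nat_lit 156, nat_lit 234, nat_lit 182, nat_lit 78, nat_lit 182])))
noncomputable def r55 : WT := (.node (nat_lit 41) (.node (nat_lit 40) (.leaf (nat_lit 36879) [nat_lit 130, nat_lit 182, nat_lit 104, nat_lit 156, nat_lit 156, nat_lit 52, nat_lit 182]) (.leaf (nat_lit 72708) [nat_lit 156, nat_lit 104, nat_lit 182, nat_lit 104, nat_lit 182, nat_lit 130, nat_lit 52, nat_lit 156])) (.node (nat_lit 42) (.leaf (nat_lit 67601) [nat_lit 156, nat_lit 78, nat_lit 182, nat_lit 182, nat_lit 52, nat_lit 130, nat_lit 182, nat_lit 104]) (.leaf (nat_lit 63505) [nat_lit 156,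 nat_lit 78, nat_lit 182, nat_lit 104, nat_lit 182, nat_lit 52, nat_lit 156, nat_lit 130])))
noncomputable def r56 : WT := (.node (nat_lit 45) (.node (nat_lit 44) (.leaf (nat_lit 117765) [nat_lit 130, nat_lit 78, nat_lit 104, nat_lit 156, nat_lit 78, nat_lit 130, nat_lit 78, nat_lit 104, nat_lit 156]) (.leaf (nat_lit 9224) [nat_lit 104, nat_lit 260, nat_lit 130, nat_lit 52, nat_lit 208])) (.node (nat_lit 46) (.leaf (nat_lit 68611) [nat_lit 156, nat_lit 156, nat_lit 52, nat_lit 130, nat_lit 182, nat_lit 104, nat_lit 78, nat_lit 156]) (.node (nat_lit 47) (.leaf (nat_lit 10242) [nat_lit 208, nat_lit 156, nat_lit 156, nat_lit 208, nat_lit 52, nat_lit 286]) (.leaf (nat_lit 83985) [nat_lit 78, nat_lit 104, nat_lit 182, nat_lit 130, nat_lit 182, nat_lit 52, nat_lit 130, nat_lit 78, nat_lit 130]))))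
noncomputable def r57 : WT := (.node (nat_lit 51) (.node (nat_lit 49) (.leaf (nat_lit 104465) [nat_lit 78, nat_lit 208, nat_lit 104, nat_lit 156, nat_lit 208, nat_lit 52, nat_lit 104, nat_lit 208, nat_lit 156]) (.node (nat_lit 50) (.leaf (nat_lit 100369) [nat_lit 78, nat_lit 182, nat_lit 52, nat_lit 104, nat_lit 182, nat_lit 78, nat_lit 156, nat_lit 130, nat_lit 156]) (.leaf (nat_lit 111635) [nat_lit 104, nat_lit 52, nat_lit 156, nat_lit 104, nat_lit 78, nat_lit 156, nat_lit 130, nat_lit 78, nat_lit 130]))) (.node (nat_lit 53) (.node (nat_lit 52) (.leaf (nat_lit 39940) [nat_lit 182, nat_lit 130, nat_lit 208, nat_lit 104, nat_lit 156, nat_lit 52, nat_lit 208]) (.leaf (nat_lit 103441) [nat_lit 78, nat_lit 182, nat_lit 52, nat_lit 130, nat_lit 156, nat_lit 104, nat_lit 78, nat_lit 156, nat_lit 156])) (.node (nat_lit 54) (.leaf (nat_lit 112645) [nat_lit 130, nat_lit 78, nat_lit 156, nat_lit 104, nat_lit 78, nat_lit 130, nat_lit 78, nat_lit 156, nat_lit 104]) (.leaf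 (nat_lit 70673) [nat_lit 156, nat_lit 104, nat_lit 182, nat_lit 52, nat_lit 156, nat_lit 104, nat_lit 156, nat_lit 104]))))
noncomputable def r58 : WT := (.node (nat_lit 59) (.node (nat_lit 57) (.node (nat_lit 56) (.leaf (nat_lit 131088) [nat_lit 104, nat_lit 52, nat_lit 104, nat_lit 78, nat_lit 182, nat_lit 52, nat_lit 130, nat_lit 52, nat_lit 156]) (.leaf (nat_lit 88081) [nat_lit 78, nat_lit 104, nat_lit 78, nat_lit 156, nat_lit 104, nat_lit 156, nat_lit 130, nat_lit 78, nat_lit 104])) (.node (nat_lit 58) (.leaf (nat_lit 116743) [nat_lit 156, nat_lit 104, nat_lit 182, nat_lit 78, nat_lit 130, nat_lit 78, nat_lit 130, nat_lit 52, nat_lit 130]) (.leaf (nat_lit 111632) [nat_lit 130, nat_lit 52, nat_lit 104, nat_lit 52, nat_lit 104, nat_lit 182, nat_lit 52, nat_lit 130, nat_lit 182]))) (.node (nat_lit 61) (.node (nat_lit 60) (.leaf (nat_lit 112649) [nat_lit 156, nat_lit 104, nat_lit 78, nat_lit 130, nat_lit 78, nat_lit 156, nat_lit 104, nat_lit 78, nat_lit 130])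 (.leaf (nat_lit 70666) [nat_lit 156, nat_lit 130, nat_lit 182, nat_lit 52, nat_lit 130, nat_lit 182, nat_lit 130, nat_lit 182])) (.node (nat_lit 62) (.leaf (nat_lit 132115) [nat_lit 104, nat_lit 182, nat_lit 104, nat_lit 78, nat_lit 104, nat_lit 52, nat_lit 156, nat_lit 52, nat_lit 130]) (.node (nat_lit 63) (.leaf (nat_lit 146443) [nat_lit 130, nat_lit 182, nat_lit 130, nat_lit 78, nat_lit 156, nat_lit 52, nat_lit 156, nat_lit 104, nat_lit 156]) (.leaf (nat_lit 126992) [nat_lit 182, nat_lit 52, nat_lit 104, nat_lit 78, nat_lit 156, nat_lit 52, nat_lit 182, nat_lit 104, nat_lit 156])))))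
noncomputable def r59 : WT := (.node (nat_lit 69) (.node (nat_lit 66) (.node (nat_lit 65) (.leaf (nat_lit 68625) [nat_lit 156, nat_lit 78, nat_lit 156, nat_lit 156, nat_lit 52, nat_lit 130, nat_lit 182, nat_lit 104]) (.leaf (nat_lit 116752) [nat_lit 104, nat_lit 52, nat_lit 104, nat_lit 52, nat_lit 156, nat_lit 130, nat_lit 182, nat_lit 52, nat_lit 104])) (.node (nat_lit 67) (.leaf (nat_lit 131079) [nat_lit 104, nat_lit 78, nat_lit 156, nat_lit 52, nat_lit 130, nat_lit 78, nat_lit 130, nat_lit 52, nat_lit 182]) (.node (nat_lit 68) (.leaf (nat_lit 118788) [nat_lit 104, nat_lit 156, nat_lit 78, nat_lit 104, nat_lit 52, nat_lit 182, nat_lit 130, nat_lit 52, nat_lit 104]) (.leaf (nat_lit 50191) [nat_lit 78, nat_lit 156, nat_lit 78, nat_lit 156, nat_lit 156, nat_lit 130, nat_lit 156, nat_lit 104])))) (.node (nat_lit 72) (.node (nat_lit 70) (.leaf (nat_lit 85009) [nat_lit 78, nat_lit 156, nat_lit 104, nat_lit 182, nat_lit 130, nat_lit 182, nat_lit 182, nat_lit 52,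 nat_lit 130]) (.node (nat_lit 71) (.leaf (nat_lit 113673) [nat_lit 156, nat_lit 104, nat_lit 78, nat_lit 130, nat_lit 78, nat_lit 104, nat_lit 52, nat_lit 130, nat_lit 182]) (.leaf (nat_lit 111631) [nat_lit 130, nat_lit 78, nat_lit 104, nat_lit 52, nat_lit 156, nat_lit 104, nat_lit 78, nat_lit 156, nat_lit 130]))) (.node (nat_lit 73) (.leaf (nat_lit 67592) [nat_lit 156, nat_lit 156, nat_lit 52, nat_lit 182, nat_lit 52, nat_lit 130, nat_lit 156, nat_lit 104]) (.node (nat_lit 74) (.leaf (nat_lit 72721) [nat_lit 104, nat_lit 156, nat_lit 130, nat_lit 156, nat_lit 130, nat_lit 182, nat_lit 52, nat_lit 182]) (.leaf (nat_lit 125956) [nat_lit 130, nat_lit 52, nat_lit 156, nat_lit 52, nat_lit 130, nat_lit 156, nat_lit 104, nat_lit 52, nat_lit 104])))))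
noncomputable def r60 : WT := (.node (nat_lit 82) (.node (nat_lit 78) (.node (nat_lit 76) (.leaf (nat_lit 114707) [nat_lit 182, nat_lit 182, nat_lit 104, nat_lit 52, nat_lit 182, nat_lit 104, nat_lit 182, nat_lit 78, nat_lit 130]) (.node (nat_lit 77) (.leaf (nat_lit 132104) [nat_lit 130, nat_lit 52, nat_lit 130, nat_lit 156, nat_lit 130, nat_lit 52, nat_lit 104, nat_lit 78, nat_lit 182]) (.leaf (nat_lit 66577) [nat_lit 156, nat_lit 156, nat_lit 104, nat_lit 156, nat_lit 130, nat_lit 182, nat_lit 78, nat_lit 104]))) (.node (nat_lit 80) (.node (nat_lit 79) (.leaf (nat_lit 118794) [nat_lit 104, nat_lit 52, nat_lit 182, nat_lit 130, nat_lit 52, nat_lit 104, nat_lit 78, nat_lit 104, nat_lit 156]) (.leaf (nat_lit 119812) [nat_lit 104, nat_lit 156, nat_lit 104, nat_lit 156, nat_lit 156, nat_lit 52, nat_lit 156, nat_lit 52, nat_lit 104])) (.node (nat_lit 81) (.leaf (nat_lit 144403) [nat_lit 156, nat_lit 52, nat_lit 182, nat_lit 78, nat_lit 130, nat_lit 182, nat_lit 78,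 nat_lit 182, nat_lit 130]) (.leaf (nat_lit 111625) [nat_lit 156, nat_lit 130, nat_lit 78, nat_lit 130, nat_lit 78, nat_lit 104, nat_lit 52, nat_lit 156, nat_lit 104])))) (.node (nat_lit 86) (.node (nat_lit 84) (.node (nat_lit 83) (.leaf (nat_lit 145418) [nat_lit 156, nat_lit 104, nat_lit 182, nat_lit 104, nat_lit 52, nat_lit 104, nat_lit 156, nat_lit 78, nat_lit 156]) (.leaf (nat_lit 146451) [nat_lit 156, nat_lit 52, nat_lit 156, nat_lit 104, nat_lit 156, nat_lit 78, nat_lit 130, nat_lit 182, nat_lit 130])) (.node (nat_lit 85) (.leaf (nat_lit 145414) [nat_lit 156, nat_lit 78, nat_lit 156, nat_lit 104, nat_lit 182, nat_lit 104, nat_lit 52, nat_lit 104, nat_lit 156]) (.leaf (nat_lit 113679) [nat_lit 130, nat_lit 78, nat_lit 104, nat_lit 52, nat_lit 130, nat_lit 182, nat_lit 78, nat_lit 156, nat_lit 104]))) (.node (nat_lit 88) (.node (nat_lit 87) (.leaf (nat_lit 68616) [nat_lit 182, nat_lit 182, nat_lit 52, nat_lit 182, nat_lit 52, nat_lit 130, nat_lit 156, nat_lit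 104]) (.leaf (nat_lit 132103) [nat_lit 104, nat_lit 52, nat_lit 156, nat_lit 52, nat_lit 130, nat_lit 78, nat_lit 104, nat_lit 182, nat_lit 104])) (.node (nat_lit 89) (.leaf (nat_lit 118789) [nat_lit 130, nat_lit 52, nat_lit 182, nat_lit 130, nat_lit 52, nat_lit 130, nat_lit 78, nat_lit 104, nat_lit 156]) (.leaf (nat_lit 126995) [nat_lit 156, nat_lit 52, nat_lit 182, nat_lit 130, nat_lit 156, nat_lit 78, nat_lit 182, nat_lit 52, nat_lit 130])))))
noncomputable def r61 : WT := (.node (nat_lit 96) (.leaf (nat_lit 114703) [nat_lit 130, nat_lit 78, nat_lit 182, nat_lit 182, nat_lit 104, nat_lit 52, nat_lit 182, nat_lit 104, nat_lit 182]) (.leaf (nat_lit 115724) [nat_lit 130, nat_lit 182, nat_lit 182, nat_lit 52, nat_lit 104, nat_lit 52, nat_lit 156, nat_lit 130, nat_lit 156]))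
noncomputable def r62 : WT := (.node (nat_lit 99) (.leaf (nat_lit 118803) [nat_lit 104, nat_lit 156, nat_lit 78, nat_lit 130, nat_lit 52, nat_lit 182, nat_lit 130, nat_lit 52, nat_lit 130]) (.leaf (nat_lit 121861) [nat_lit 130, nat_lit 182, nat_lit 182, nat_lit 130, nat_lit 52, nat_lit 130, nat_lit 78, nat_lit 182, nat_lit 182]))
noncomputable def r63 : WT := (.node (nat_lit 104) (.leaf (nat_lit 30735) [nat_lit 208, nat_lit 52, nat_lit 208, nat_lit 130, nat_lit 130, nat_lit 208, nat_lit 130]) (.leaf (nat_lit 87057) [nat_lit 78, nat_lit 156, nat_lit 78, nat_lit 156, nat_lit 104, nat_lit 182, nat_lit 104, nat_lit 182, nat_lit 130]))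
noncomputable def r64 : WT := (.node (nat_lit 106) (.leaf (nat_lit 90129) [nat_lit 78, nat_lit 104, nat_lit 182, nat_lit 78, nat_lit 156, nat_lit 130, nat_lit 156, nat_lit 52, nat_lit 182]) (.leaf (nat_lit 144400) [nat_lit 182, nat_lit 52, nat_lit 104, nat_lit 156, nat_lit 52, nat_lit 156, nat_lit 104, nat_lit 52, nat_lit 156]))
noncomputable def r65 : WT := (.node (nat_lit 108) (.leaf (nat_lit 55311) [nat_lit 78, nat_lit 208, nat_lit 78, nat_lit 182, nat_lit 130, nat_lit 208, nat_lit 104, nat_lit 156]) (.leaf (nat_lit 62481) [nat_lit 182, nat_lit 208, nat_lit 130, nat_lit 208, nat_lit 78, nat_lit 208, nat_lit 182, nat_lit 130]))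
noncomputable def r66 : WT := (.node (nat_lit 110) (.leaf (nat_lit 130052) [nat_lit 156, nat_lit 156, nat_lit 130, nat_lit 182, nat_lit 130, nat_lit 52, nat_lit 156, nat_lit 52, nat_lit 104]) (.leaf (nat_lit 49169) [nat_lit 156, nat_lit 78, nat_lit 182, nat_lit 182, nat_lit 130, nat_lit 156, nat_lit 104, nat_lit 78]))
noncomputable def r67 : WT := (.node (nat_lit 112) (.leaf (nat_lit 43020) [nat_lit 208, nat_lit 52, nat_lit 208, nat_lit 156, nat_lit 208, nat_lit 182, nat_lit 208]) (.leaf (nat_lit 132100) [nat_lit 182, nat_lit 78, nat_lit 130, nat_lit 52, nat_lit 130, nat_lit 156, nat_lit 130, nat_lit 52, nat_lit 104]))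
noncomputable def r68 : WT := (.node (nat_lit 100) (.node (nat_lit 94) (.node (nat_lit 92) (.node (nat_lit 91) (.leaf (nat_lit 126987) [nat_lit 182, nat_lit 52, nat_lit 130, nat_lit 78, nat_lit 156, nat_lit 52, nat_lit 182, nat_lit 130, nat_lit 156]) (.leaf (nat_lit 14350) [nat_lit 182, nat_lit 78, nat_lit 234, nat_lit 52, nat_lit 156, nat_lit 52, nat_lit 156, nat_lit 234, nat_lit 182])) (.node (nat_lit 93) (.leaf (nat_lit 125963) [nat_lit 104, nat_lit 52, nat_lit 130, nat_lit 78, nat_lit 130, nat_lit 182, nat_lit 104, nat_lit 78, nat_lit 182]) (.leaf (nat_lit 122885) [nat_lit 130, nat_lit 182, nat_lit 182, nat_lit 130, nat_lit 52, nat_lit 130, nat_lit 78, nat_lit 156, nat_lit 156]))) (.node (nat_lit 97) (.node (nat_lit 95) (.leaf (nat_lit 123908) [nat_lit 104, nat_lit 182, nat_lit 182, nat_lit 104, nat_lit 52, nat_lit 156, nat_lit 156, nat_lit 52, nat_lit 104]) r61) (.node (nat_lit 98) (.leaf (nat_lit 131083) [nat_lit 156, nat_lit 52, nat_lit 130, nat_lit 78,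 nat_lit 130, nat_lit 52, nat_lit 182, nat_lit 78, nat_lit 104]) r62))) (.node (nat_lit 105) (.node (nat_lit 102) (.node (nat_lit 101) (.leaf (nat_lit 91153) [nat_lit 78, nat_lit 130, nat_lit 78, nat_lit 130, nat_lit 52, nat_lit 104, nat_lit 182, nat_lit 130, nat_lit 182]) (.leaf (nat_lit 66573) [nat_lit 104, nat_lit 78, nat_lit 156, nat_lit 156, nat_lit 104, nat_lit 156, nat_lit 130, nat_lit 182])) (.node (nat_lit 103) (.leaf (nat_lit 40964) [nat_lit 208, nat_lit 52, nat_lit 208, nat_lit 78, nat_lit 208, nat_lit 52, nat_lit 208]) r63)) (.node (nat_lit 109) (.node (nat_lit 107) r64 r65) (.node (nat_lit 111) r66 r67))))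
noncomputable def r69 : WT := (.node (nat_lit 114) (.leaf (nat_lit 122884) [nat_lit 104, nat_lit 156, nat_lit 156, nat_lit 104, nat_lit 52, nat_lit 182, nat_lit 182, nat_lit 52, nat_lit 104]) (.leaf (nat_lit 137235) [nat_lit 156, nat_lit 78, nat_lit 156, nat_lit 156, nat_lit 52, nat_lit 130, nat_lit 182, nat_lit 130, nat_lit 130]))
noncomputable def r70 : WT := (.node (nat_lit 116) (.leaf (nat_lit 119811) [nat_lit 182, nat_lit 182, nat_lit 130, nat_lit 182, nat_lit 130, nat_lit 52, nat_lit 130, nat_lit 78, nat_lit 182]) (.leaf (nat_lit 147475) [nat_lit 104, nat_lit 52, nat_lit 182, nat_lit 130, nat_lit 182, nat_lit 78, nat_lit 182, nat_lit 182, nat_lit 130]))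
noncomputable def r71 : WT := (.node (nat_lit 118) (.leaf (nat_lit 147467) [nat_lit 182, nat_lit 182, nat_lit 130, nat_lit 78, nat_lit 104, nat_lit 52, nat_lit 182, nat_lit 130, nat_lit 182]) (.leaf (nat_lit 113683) [nat_lit 104, nat_lit 52, nat_lit 130, nat_lit 182, nat_lit 78, nat_lit 156, nat_lit 104, nat_lit 78, nat_lit 130]))
noncomputable def r72 : WT := (.node (nat_lit 120) (.leaf (nat_lit 147472) [nat_lit 130, nat_lit 52, nat_lit 104, nat_lit 156, nat_lit 156, nat_lit 52, nat_lit 156, nat_lit 104, nat_lit 156]) (.leaf (nat_lit 116751) [nat_lit 130, nat_lit 78, nat_lit 130, nat_lit 52, nat_lit 130, nat_lit 78, nat_lit 156, nat_lit 104, nat_lit 182]))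
noncomputable def r73 : WT := (.node (nat_lit 122) (.leaf (nat_lit 94225) [nat_lit 78, nat_lit 156, nat_lit 130, nat_lit 78, nat_lit 156, nat_lit 78, nat_lit 182, nat_lit 104, nat_lit 182]) (.leaf (nat_lit 95249) [nat_lit 78, nat_lit 156, nat_lit 104, nat_lit 156, nat_lit 104, nat_lit 78, nat_lit 156, nat_lit 104, nat_lit 182]))
noncomputable def r74 : WT := (.node (nat_lit 124) (.leaf (nat_lit 30732) [nat_lit 208, nat_lit 52, nat_lit 104, nat_lit 208, nat_lit 104, nat_lit 104, nat_lit 208]) (.leaf (nat_lit 97297) [nat_lit 78, nat_lit 182, nat_lit 52, nat_lit 130, nat_lit 156, nat_lit 104, nat_lit 78, nat_lit 182, nat_lit 182]))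
noncomputable def r75 : WT := (.node (nat_lit 127) (.node (nat_lit 126) (.leaf (nat_lit 21517) [nat_lit 104, nat_lit 156, nat_lit 52, nat_lit 104, nat_lit 156, nat_lit 78]) (.leaf (nat_lit 41991) [nat_lit 182, nat_lit 130, nat_lit 208, nat_lit 78, nat_lit 182, nat_lit 130, nat_lit 208])) (.node (nat_lit 128) (.leaf (nat_lit 131076) [nat_lit 182, nat_lit 52, nat_lit 130, nat_lit 52, nat_lit 156, nat_lit 78, nat_lit 104, nat_lit 52, nat_lit 104]) (.leaf (nat_lit 48138) [nat_lit 130, nat_lit 156, nat_lit 104, nat_lit 52, nat_lit 52, nat_lit 130, nat_lit 156, nat_lit 104])))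
noncomputable def r76 : WT := (.node (nat_lit 131) (.node (nat_lit 130) (.leaf (nat_lit 10241) [nat_lit 208, nat_lit 182, nat_lit 182, nat_lit 208, nat_lit 52, nat_lit 286]) (.leaf (nat_lit 131091) [nat_lit 130, nat_lit 52, nat_lit 182, nat_lit 78, nat_lit 104, nat_lit 78, nat_lit 156, nat_lit 52, nat_lit 130])) (.node (nat_lit 132) (.leaf (nat_lit 146448) [nat_lit 182, nat_lit 52, nat_lit 104, nat_lit 156, nat_lit 104, nat_lit 52, nat_lit 182, nat_lit 130, nat_lit 182]) (.leaf (nat_lit 145427) [nat_lit 130, nat_lit 156, nat_lit 130, nat_lit 182, nat_lit 52, nat_lit 182, nat_lit 52, nat_lit 182, nat_lit 130])))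
noncomputable def r77 : WT := (.node (nat_lit 135) (.node (nat_lit 134) (.leaf (nat_lit 135172) [nat_lit 208, nat_lit 52, nat_lit 156, nat_lit 208, nat_lit 52, nat_lit 104, nat_lit 156, nat_lit 52, nat_lit 104]) (.leaf (nat_lit 141331) [nat_lit 208, nat_lit 182, nat_lit 208, nat_lit 156, nat_lit 52, nat_lit 130, nat_lit 208, nat_lit 130, nat_lit 130])) (.node (nat_lit 136) (.leaf (nat_lit 64529) [nat_lit 208, nat_lit 182, nat_lit 130, nat_lit 208, nat_lit 78, nat_lit 182, nat_lit 208, nat_lit 130]) (.leaf (nat_lit 28685) [nat_lit 78, nat_lit 104, nat_lit 208, nat_lit 130, nat_lit 208, nat_lit 78, nat_lit 208])))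
noncomputable def r78 : WT := (.node (nat_lit 139) (.node (nat_lit 138) (.leaf (nat_lit 29711) [nat_lit 156, nat_lit 156, nat_lit 156, nat_lit 130, nat_lit 78, nat_lit 182, nat_lit 130]) (.leaf (nat_lit 144397) [nat_lit 182, nat_lit 130, nat_lit 78, nat_lit 156, nat_lit 52, nat_lit 182, nat_lit 78, nat_lit 130, nat_lit 182])) (.node (nat_lit 140) (.leaf (nat_lit 13327) [nat_lit 104, nat_lit 234, nat_lit 208, nat_lit 130, nat_lit 52, nat_lit 104, nat_lit 208, nat_lit 234, nat_lit 130]) (.leaf (nat_lit 110611) [nat_lit 130, nat_lit 208, nat_lit 104, nat_lit 78, nat_lit 182, nat_lit 208, nat_lit 156, nat_lit 208, nat_lit 78])))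
noncomputable def r79 : WT := (.node (nat_lit 143) (.node (nat_lit 142) (.leaf (nat_lit 110609) [nat_lit 78, nat_lit 130, nat_lit 208, nat_lit 104, nat_lit 78, nat_lit 182, nat_lit 208, nat_lit 156, nat_lit 208]) (.leaf (nat_lit 105489) [nat_lit 78, nat_lit 104, nat_lit 156, nat_lit 208, nat_lit 52, nat_lit 208, nat_lit 104, nat_lit 208, nat_lit 156])) (.node (nat_lit 144) (.leaf (nat_lit 98323) [nat_lit 130, nat_lit 52, nat_lit 156, nat_lit 104, nat_lit 182, nat_lit 130, nat_lit 182, nat_lit 182, nat_lit 78]) (.leaf (nat_lit 98321) [nat_lit 78, nat_lit 130, nat_lit 52, nat_lit 156, nat_lit 104, nat_lit 182, nat_lit 130, nat_lit 182, nat_lit 182])))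
noncomputable def r80 : WT := (.node (nat_lit 147) (.node (nat_lit 146) (.leaf (nat_lit 115727) [nat_lit 130, nat_lit 78, nat_lit 156, nat_lit 156, nat_lit 104, nat_lit 52, nat_lit 182, nat_lit 104, nat_lit 182]) (.leaf (nat_lit 115731) [nat_lit 156, nat_lit 156, nat_lit 104, nat_lit 52, nat_lit 182, nat_lit 104, nat_lit 182, nat_lit 78, nat_lit 130])) (.node (nat_lit 148) (.leaf (nat_lit 116755) [nat_lit 130, nat_lit 52, nat_lit 130, nat_lit 78, nat_lit 156, nat_lit 104, nat_lit 182, nat_lit 78, nat_lit 130]) (.leaf (nat_lit 93201) [nat_lit 78, nat_lit 182, nat_lit 78, nat_lit 104, nat_lit 156, nat_lit 130, nat_lit 156, nat_lit 130, nat_lit 182])))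
noncomputable def r81 : WT := (.node (nat_lit 151) (.node (nat_lit 150) (.leaf (nat_lit 117769) [nat_lit 104, nat_lit 156, nat_lit 78, nat_lit 130, nat_lit 78, nat_lit 104, nat_lit 156, nat_lit 78, nat_lit 130]) (.leaf (nat_lit 90131) [nat_lit 104, nat_lit 182, nat_lit 78, nat_lit 156, nat_lit 130, nat_lit 156, nat_lit 52, nat_lit 182, nat_lit 78])) (.node (nat_lit 152) (.leaf (nat_lit 86033) [nat_lit 78, nat_lit 156, nat_lit 104, nat_lit 182, nat_lit 130, nat_lit 156, nat_lit 156, nat_lit 52, nat_lit 130]) (.leaf (nat_lit 56331) [nat_lit 208, nat_lit 78, nat_lit 78, nat_lit 156, nat_lit 208, nat_lit 156, nat_lit 156, nat_lit 156])))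
noncomputable def r82 : WT := (.node (nat_lit 155) (.node (nat_lit 154) (.leaf (nat_lit 119827) [nat_lit 182, nat_lit 78, nat_lit 182, nat_lit 182, nat_lit 130, nat_lit 182, nat_lit 130, nat_lit 52, nat_lit 130]) (.leaf (nat_lit 120851) [nat_lit 182, nat_lit 78, nat_lit 156, nat_lit 156, nat_lit 130, nat_lit 182, nat_lit 130, nat_lit 52, nat_lit 130])) (.node (nat_lit 156) (.leaf (nat_lit 121860) [nat_lit 104, nat_lit 156, nat_lit 156, nat_lit 104, nat_lit 52, nat_lit 156, nat_lit 156, nat_lit 52, nat_lit 104]) (.leaf (nat_lit 12293) [nat_lit 182, nat_lit 104, nat_lit 234, nat_lit 104, nat_lit 208, nat_lit 130, nat_lit 234, nat_lit 104, nat_lit 208])))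
noncomputable def r83 : WT := (.node (nat_lit 159) (.node (nat_lit 158) (.leaf (nat_lit 121875) [nat_lit 182, nat_lit 182, nat_lit 78, nat_lit 130, nat_lit 182, nat_lit 182, nat_lit 130, nat_lit 52, nat_lit 130]) (.leaf (nat_lit 73732) [nat_lit 156, nat_lit 156, nat_lit 130, nat_lit 156, nat_lit 130, nat_lit 130, nat_lit 52, nat_lit 156])) (.node (nat_lit 160) (.leaf (nat_lit 123923) [nat_lit 182, nat_lit 182, nat_lit 78, nat_lit 130, nat_lit 156, nat_lit 156, nat_lit 130, nat_lit 52, nat_lit 130]) (.leaf (nat_lit 124933) [nat_lit 130, nat_lit 156, nat_lit 156, nat_lit 130, nat_lit 52, nat_lit 130, nat_lit 78, nat_lit 156, nat_lit 156])))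
noncomputable def r84 : WT := (.node (nat_lit 163) (.node (nat_lit 162) (.leaf (nat_lit 113680) [nat_lit 130, nat_lit 52, nat_lit 104, nat_lit 52, nat_lit 130, nat_lit 182, nat_lit 52, nat_lit 156, nat_lit 104]) (.leaf (nat_lit 125959) [nat_lit 182, nat_lit 78, nat_lit 104, nat_lit 52, nat_lit 130, nat_lit 78, nat_lit 130, nat_lit 182, nat_lit 104])) (.node (nat_lit 164) (.leaf (nat_lit 64521) [nat_lit 182, nat_lit 208, nat_lit 130, nat_lit 78, nat_lit 208, nat_lit 182, nat_lit 130, nat_lit 208]) (.leaf (nat_lit 125971) [nat_lit 130, nat_lit 182, nat_lit 104, nat_lit 78, nat_lit 182, nat_lit 78, nat_lit 104, nat_lit 52, nat_lit 130])))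
noncomputable def r85 : WT := (.node (nat_lit 133) (.node (nat_lit 121) (.node (nat_lit 117) (.node (nat_lit 115) r69 r70) (.node (nat_lit 119) r71 r72)) (.node (nat_lit 125) (.node (nat_lit 123) r73 r74) (.node (nat_lit 129) r75 r76))) (.node (nat_lit 149) (.node (nat_lit 141) (.node (nat_lit 137) r77 r78) (.node (nat_lit 145) r79 r80)) (.node (nat_lit 157) (.node (nat_lit 153) r81 r82) (.node (nat_lit 161) r83 r84))))
noncomputable def r86 : WT := (.node (nat_lit 39) (.node (nat_lit 29) (.node (nat_lit 25) (.node (nat_lit 23) (.leaf (nat_lit 63494) [nat_lit 156, nat_lit 130, nat_lit 156, nat_lit 52, nat_lit 182, nat_lit 52, nat_lit 104, nat_lit 182]) r48) (.node (nat_lit 27) r49 r50)) (.node (nat_lit 33) (.node (nat_lit 31) r51 r52) (.node (nat_lit 36) r53 r54))) (.node (nat_lit 64) (.node (nat_lit 48) (.node (nat_lit 43) r55 r56) (.node (nat_lit 55) r57 r58)) (.node (nat_lit 90) (.node (nat_lit 75) r59 r60) (.node (nat_lit 113) r68 r85))))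
noncomputable def w1 : WT := (.node (nat_lit 1) (.leaf (nat_lit 2) [nat_lit 52]) (.node (nat_lit 4) (.node (nat_lit 2) (.leaf (nat_lit 16385) [nat_lit 78, nat_lit 78]) (.node (nat_lit 3) (.leaf (nat_lit 19461) [nat_lit 182, nat_lit 130, nat_lit 78, nat_lit 182, nat_lit 130]) (.leaf (nat_lit 20488) [nat_lit 208, nat_lit 52, nat_lit 156, nat_lit 208, nat_lit 182]))) (.node (nat_lit 10) (.node (nat_lit 6) r44 r45) (.node (nat_lit 22) r47 r86))))
noncomputable def r87 : WT := (.node (nat_lit 4) (.leaf (nat_lit 23555) [nat_lit 104, nat_lit 78, nat_lit 182, nat_lit 130, nat_lit 78, nat_lit 182]) (.leaf (nat_lit 33797) [nat_lit 78, nat_lit 130, nat_lit 156, nat_lit 104, nat_lit 78, nat_lit 130, nat_lit 156]))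
noncomputable def r88 : WT := (.node (nat_lit 6) (.leaf (nat_lit 24583) [nat_lit 208, nat_lit 130, nat_lit 78, nat_lit 208, nat_lit 52, nat_lit 208]) (.node (nat_lit 7) (.leaf (nat_lit 21505) [nat_lit 156, nat_lit 52, nat_lit 104, nat_lit 156, nat_lit 78, nat_lit 78]) (.leaf (nat_lit 60432) [nat_lit 52, nat_lit 104, nat_lit 78, nat_lit 156, nat_lit 104, nat_lit 156, nat_lit 130, nat_lit 78])))
noncomputable def r89 : WT := (.node (nat_lit 10) (.node (nat_lit 9) (.leaf (nat_lit 13328) [nat_lit 208, nat_lit 234, nat_lit 130, nat_lit 52, nat_lit 104, nat_lit 234, nat_lit 208, nat_lit 130, nat_lit 78]) (.leaf (nat_lit 33798) [nat_lit 52, nat_lit 130, nat_lit 182, nat_lit 104, nat_lit 52, nat_lit 130, nat_lit 182])) (.node (nat_lit 11) (.leaf (nat_lit 35854) [nat_lit 52, nat_lit 156, nat_lit 78, nat_lit 156, nat_lit 156, nat_lit 130, nat_lit 156]) (.leaf (nat_lit 25609) [nat_lit 208, nat_lit 130, nat_lit 208, nat_lit 156, nat_lit 208, nat_lit 182])))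
noncomputable def r90 : WT := (.node (nat_lit 22) (.leaf (nat_lit 60421) [nat_lit 182, nat_lit 130, nat_lit 182, nat_lit 52, nat_lit 130, nat_lit 78, nat_lit 130, nat_lit 52]) (.leaf (nat_lit 30726) [nat_lit 104, nat_lit 208, nat_lit 78, nat_lit 208, nat_lit 52, nat_lit 104, nat_lit 208]))
noncomputable def r91 : WT := (.node (nat_lit 15) (.node (nat_lit 13) (.leaf (nat_lit 24578) [nat_lit 208, nat_lit 130, nat_lit 208, nat_lit 78, nat_lit 208, nat_lit 52]) (.node (nat_lit 14) (.leaf (nat_lit 60424) [nat_lit 156, nat_lit 130, nat_lit 78, nat_lit 104, nat_lit 52, nat_lit 104, nat_lit 78, nat_lit 156]) (.leaf (nat_lit 65551) [nat_lit 78, nat_lit 182, nat_lit 182, nat_lit 104, nat_lit 156, nat_lit 130, nat_lit 182, nat_lit 78]))) (.node (nat_lit 18) (.node (nat_lit 16) (.leaf (nat_lit 60418) [nat_lit 78, nat_lit 156, nat_lit 104, nat_lit 156, nat_lit 130, nat_lit 78, nat_lit 104, nat_lit 52]) (.node (nat_lit 17) (.leaf (nat_lit 65544) [nat_lit 182, nat_lit 130,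 nat_lit 156, nat_lit 156, nat_lit 52, nat_lit 130, nat_lit 52, nat_lit 156]) (.leaf (nat_lit 28673) [nat_lit 208, nat_lit 130, nat_lit 208, nat_lit 78, nat_lit 208, nat_lit 78, nat_lit 78]))) (.node (nat_lit 20) (.node (nat_lit 19) (.leaf (nat_lit 35845) [nat_lit 182, nat_lit 182, nat_lit 52, nat_lit 182, nat_lit 78, nat_lit 130, nat_lit 182]) (.leaf (nat_lit 69633) [nat_lit 104, nat_lit 156, nat_lit 104, nat_lit 78, nat_lit 130, nat_lit 156, nat_lit 104, nat_lit 78])) (.node (nat_lit 21) (.leaf (nat_lit 45056) [nat_lit 182, nat_lit 104, nat_lit 182, nat_lit 104, nat_lit 182, nat_lit 104, nat_lit 182]) r90))))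
noncomputable def r92 : WT := (.node (nat_lit 24) (.leaf (nat_lit 38924) [nat_lit 182, nat_lit 52, nat_lit 208, nat_lit 78, nat_lit 156, nat_lit 130, nat_lit 208]) (.leaf (nat_lit 66565) [nat_lit 156, nat_lit 130, nat_lit 182, nat_lit 78, nat_lit 104, nat_lit 78, nat_lit 156, nat_lit 156]))
noncomputable def r93 : WT := (.node (nat_lit 26) (.leaf (nat_lit 13318) [nat_lit 234, nat_lit 208, nat_lit 130, nat_lit 78, nat_lit 104, nat_lit 208, nat_lit 234, nat_lit 130, nat_lit 52]) (.leaf (nat_lit 36878) [nat_lit 52, nat_lit 156, nat_lit 78, nat_lit 182, nat_lit 182, nat_lit 130, nat_lit 156]))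
noncomputable def r94 : WT := (.node (nat_lit 28) (.leaf (nat_lit 70659) [nat_lit 182, nat_lit 52, nat_lit 156, nat_lit 104, nat_lit 156, nat_lit 104, nat_lit 78, nat_lit 156]) (.leaf (nat_lit 70667) [nat_lit 156, nat_lit 104, nat_lit 78, nat_lit 156, nat_lit 104, nat_lit 182, nat_lit 52, nat_lit 156]))
noncomputable def r95 : WT := (.node (nat_lit 30) (.leaf (nat_lit 9226) [nat_lit 260, nat_lit 130, nat_lit 52, nat_lit 208, nat_lit 78]) (.leaf (nat_lit 72705) [nat_lit 156, nat_lit 130, nat_lit 156, nat_lit 130, nat_lit 182, nat_lit 52, nat_lit 182, nat_lit 78]))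
noncomputable def r96 : WT := (.node (nat_lit 32) (.leaf (nat_lit 65541) [nat_lit 156, nat_lit 130, nat_lit 182, nat_lit 78, nat_lit 104, nat_lit 78, nat_lit 182, nat_lit 182]) (.leaf (nat_lit 61442) [nat_lit 104, nat_lit 182, nat_lit 104, nat_lit 52, nat_lit 130, nat_lit 182, nat_lit 104, nat_lit 52]))
noncomputable def r97 : WT := (.node (nat_lit 34) (.leaf (nat_lit 63495) [nat_lit 182, nat_lit 52, nat_lit 156, nat_lit 130, nat_lit 78, nat_lit 156, nat_lit 78, nat_lit 182]) (.node (nat_lit 35) (.leaf (nat_lit 67590) [nat_lit 78, nat_lit 156, nat_lit 156, nat_lit 52, nat_lit 182, nat_lit 52, nat_lit 130, nat_lit 156]) (.leaf (nat_lit 76808) [nat_lit 104, nat_lit 208, nat_lit 104, nat_lit 182, nat_lit 52, nat_lit 208, nat_lit 78, nat_lit 156])))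
noncomputable def r98 : WT := (.node (nat_lit 37) (.leaf (nat_lit 70671) [nat_lit 78, nat_lit 156, nat_lit 104, nat_lit 182, nat_lit 52, nat_lit 156, nat_lit 104, nat_lit 156]) (.node (nat_lit 38) (.leaf (nat_lit 72716) [nat_lit 182, nat_lit 130, nat_lit 52, nat_lit 156, nat_lit 78, nat_lit 156, nat_lit 104, nat_lit 182]) (.leaf (nat_lit 15376) [nat_lit 52, nat_lit 234, nat_lit 78, nat_lit 130, nat_lit 156, nat_lit 104, nat_lit 234, nat_lit 130, nat_lit 182])))
noncomputable def r99 : WT := (.node (nat_lit 41) (.node (nat_lit 40) (.leaf (nat_lit 111617) [nat_lit 52, nat_lit 156, nat_lit 104, nat_lit 78, nat_lit 156, nat_lit 130, nat_lit 78, nat_lit 130, nat_lit 78]) (.leaf (nat_lit 72712) [nat_lit 182, nat_lit 104, nat_lit 182, nat_lit 130, nat_lit 52, nat_lit 156, nat_lit 78, nat_lit 156])) (.node (nat_lit 42) (.leaf (nat_lit 73729) [nat_lit 104, nat_lit 182, nat_lit 104, nat_lit 182, nat_lit 182, nat_lit 52, nat_lit 182, nat_lit 78]) (.leaf (nat_lit 66575)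 [nat_lit 78, nat_lit 156, nat_lit 156, nat_lit 104, nat_lit 156, nat_lit 130, nat_lit 182, nat_lit 78])))
noncomputable def r100 : WT := (.node (nat_lit 45) (.node (nat_lit 44) (.leaf (nat_lit 63490) [nat_lit 182, nat_lit 78, nat_lit 156, nat_lit 130, nat_lit 156, nat_lit 52, nat_lit 182, nat_lit 52]) (.leaf (nat_lit 39948) [nat_lit 156, nat_lit 52, nat_lit 208, nat_lit 78, nat_lit 182, nat_lit 130, nat_lit 208])) (.node (nat_lit 46) (.leaf (nat_lit 67599) [nat_lit 78, nat_lit 156, nat_lit 78, nat_lit 182, nat_lit 182, nat_lit 52, nat_lit 130, nat_lit 182]) (.leaf (nat_lit 15368) [nat_lit 234, nat_lit 130, nat_lit 182, nat_lit 104, nat_lit 52, nat_lit 234, nat_lit 78, nat_lit 130, nat_lit 156])))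
noncomputable def r101 : WT := (.node (nat_lit 49) (.node (nat_lit 48) (.leaf (nat_lit 25600) [nat_lit 208, nat_lit 130, nat_lit 156, nat_lit 208, nat_lit 182, nat_lit 208]) (.leaf (nat_lit 113665) [nat_lit 52, nat_lit 130, nat_lit 182, nat_lit 78, nat_lit 156, nat_lit 104, nat_lit 78, nat_lit 130, nat_lit 78])) (.node (nat_lit 50) (.leaf (nat_lit 12297) [nat_lit 234, nat_lit 104, nat_lit 208, nat_lit 130, nat_lit 234, nat_lit 104, nat_lit 208, nat_lit 78, nat_lit 182]) (.node (nat_lit 51) (.leaf (nat_lit 118796) [nat_lit 52, nat_lit 182, nat_lit 130, nat_lit 52, nat_lit 104, nat_lit 78, nat_lit 104, nat_lit 156, nat_lit 78]) (.leaf (nat_lit 131090) [nat_lit 52, nat_lit 104, nat_lit 78, nat_lit 182, nat_lit 52, nat_lit 130, nat_lit 52, nat_lit 156, nat_lit 78]))))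
noncomputable def r102 : WT := (.node (nat_lit 55) (.node (nat_lit 53) (.leaf (nat_lit 117761) [nat_lit 156, nat_lit 78, nat_lit 130, nat_lit 78, nat_lit 104, nat_lit 156, nat_lit 78, nat_lit 130, nat_lit 78]) (.node (nat_lit 54) (.leaf (nat_lit 111623) [nat_lit 78, nat_lit 156, nat_lit 130, nat_lit 78, nat_lit 130, nat_lit 78, nat_lit 104, nat_lit 52, nat_lit 156]) (.leaf (nat_lit 114693) [nat_lit 52, nat_lit 182, nat_lit 104, nat_lit 182, nat_lit 78, nat_lit 130, nat_lit 78, nat_lit 182, nat_lit 182]))) (.node (nat_lit 57) (.node (nat_lit 56) (.leaf (nat_lit 12290) [nat_lit 208, nat_lit 130, nat_lit 234, nat_lit 130, nat_lit 156, nat_lit 52, nat_lit 208, nat_lit 130, nat_lit 234]) (.leaf (nat_lit 80896) [nat_lit 104, nat_lit 208, nat_lit 104, nat_lit 208, nat_lit 130, nat_lit 208, nat_lit 104, nat_lit 208])) (.node (nat_lit 58) (.leaf (nat_lit 118790) [nat_lit 156, nat_lit 78, nat_lit 104, nat_lit 52, nat_lit 182, nat_lit 130, nat_lit 52, nat_lit 104, nat_lit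 78]) (.leaf (nat_lit 116754) [nat_lit 52, nat_lit 104, nat_lit 52, nat_lit 156, nat_lit 130, nat_lit 182, nat_lit 52, nat_lit 104, nat_lit 78]))))
noncomputable def r103 : WT := (.node (nat_lit 62) (.node (nat_lit 60) (.leaf (nat_lit 36869) [nat_lit 156, nat_lit 156, nat_lit 52, nat_lit 182, nat_lit 78, nat_lit 130, nat_lit 182]) (.node (nat_lit 61) (.leaf (nat_lit 116750) [nat_lit 78, nat_lit 104, nat_lit 52, nat_lit 104, nat_lit 52, nat_lit 156, nat_lit 130, nat_lit 182, nat_lit 52]) (.leaf (nat_lit 114699) [nat_lit 182, nat_lit 78, nat_lit 130, nat_lit 78, nat_lit 182, nat_lit 182, nat_lit 104, nat_lit 52, nat_lit 182]))) (.node (nat_lit 64) (.node (nat_lit 63) (.leaf (nat_lit 66568) [nat_lit 182, nat_lit 130, nat_lit 182, nat_lit 182, nat_lit 52, nat_lit 130, nat_lit 52, nat_lit 156]) (.leaf (nat_lit 64524) [nat_lit 156, nat_lit 208, nat_lit 52, nat_lit 104, nat_lit 208, nat_lit 156, nat_lit 52, nat_lit 208])) (.node (nat_lit 65) (.leaf (nat_lit 112642) [nat_lit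 52, nat_lit 130, nat_lit 182, nat_lit 52, nat_lit 104, nat_lit 52, nat_lit 130, nat_lit 182, nat_lit 52]) (.leaf (nat_lit 83969) [nat_lit 182, nat_lit 130, nat_lit 182, nat_lit 52, nat_lit 130, nat_lit 78, nat_lit 130, nat_lit 78, nat_lit 78]))))
noncomputable def r104 : WT := (.node (nat_lit 71) (.node (nat_lit 68) (.node (nat_lit 67) (.leaf (nat_lit 32779) [nat_lit 104, nat_lit 78, nat_lit 208, nat_lit 52, nat_lit 208, nat_lit 104, nat_lit 208]) (.leaf (nat_lit 147458) [nat_lit 156, nat_lit 156, nat_lit 52, nat_lit 156, nat_lit 104, nat_lit 156, nat_lit 78, nat_lit 130, nat_lit 52])) (.node (nat_lit 69) (.leaf (nat_lit 125965) [nat_lit 52, nat_lit 130, nat_lit 78, nat_lit 130, nat_lit 182, nat_lit 104, nat_lit 78, nat_lit 182, nat_lit 78]) (.node (nat_lit 70) (.leaf (nat_lit 83972) [nat_lit 52, nat_lit 104, nat_lit 78, nat_lit 156, nat_lit 104, nat_lit 156, nat_lit 130, nat_lit 52, nat_lit 52]) (.leaf (nat_lit 119818) [nat_lit 156, nat_lit 156, nat_lit 52,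 nat_lit 156, nat_lit 52, nat_lit 104, nat_lit 78, nat_lit 104, nat_lit 156])))) (.node (nat_lit 73) (.node (nat_lit 72) (.leaf (nat_lit 77832) [nat_lit 104, nat_lit 208, nat_lit 104, nat_lit 156, nat_lit 52, nat_lit 208, nat_lit 78, nat_lit 182]) (.leaf (nat_lit 147457) [nat_lit 52, nat_lit 182, nat_lit 130, nat_lit 182, nat_lit 78, nat_lit 182, nat_lit 182, nat_lit 130, nat_lit 78])) (.node (nat_lit 74) (.leaf (nat_lit 74762) [nat_lit 104, nat_lit 156, nat_lit 104, nat_lit 52, nat_lit 156, nat_lit 78, nat_lit 182, nat_lit 182]) (.node (nat_lit 75) (.leaf (nat_lit 82957) [nat_lit 208, nat_lit 130, nat_lit 208, nat_lit 156, nat_lit 208, nat_lit 156, nat_lit 156, nat_lit 156]) (.leaf (nat_lit 112643) [nat_lit 78, nat_lit 130, nat_lit 78, nat_lit 156, nat_lit 104, nat_lit 78, nat_lit 130, nat_lit 78, nat_lit 156])))))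
noncomputable def r105 : WT := (.node (nat_lit 82) (.node (nat_lit 79) (.node (nat_lit 77) (.leaf (nat_lit 111618) [nat_lit 52, nat_lit 104, nat_lit 182, nat_lit 52, nat_lit 130, nat_lit 182, nat_lit 78, nat_lit 130, nat_lit 52]) (.node (nat_lit 78) (.leaf (nat_lit 125970) [nat_lit 52, nat_lit 104, nat_lit 78, nat_lit 130, nat_lit 52, nat_lit 156, nat_lit 52, nat_lit 130, nat_lit 156]) (.leaf (nat_lit 88065) [nat_lit 78, nat_lit 156, nat_lit 104, nat_lit 156, nat_lit 130, nat_lit 78, nat_lit 104, nat_lit 78, nat_lit 78]))) (.node (nat_lit 80) (.leaf (nat_lit 119814) [nat_lit 156, nat_lit 104, nat_lit 156, nat_lit 156, nat_lit 52, nat_lit 156, nat_lit 52, nat_lit 104, nat_lit 78]) (.node (nat_lit 81) (.leaf (nat_lit 115717) [nat_lit 52, nat_lit 182, nat_lit 104, nat_lit 182, nat_lit 78, nat_lit 130, nat_lit 78, nat_lit 156, nat_lit 156]) (.leaf (nat_lit 111622) [nat_lit 182, nat_lit 52, nat_lit 130, nat_lit 182, nat_lit 78, nat_lit 130, nat_lit 52, nat_lit 104,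 nat_lit 52])))) (.node (nat_lit 86) (.node (nat_lit 84) (.node (nat_lit 83) (.leaf (nat_lit 125954) [nat_lit 78, nat_lit 130, nat_lit 52, nat_lit 156, nat_lit 52, nat_lit 130, nat_lit 156, nat_lit 104, nat_lit 52]) (.leaf (nat_lit 126988) [nat_lit 156, nat_lit 78, nat_lit 182, nat_lit 52, nat_lit 104, nat_lit 78, nat_lit 156, nat_lit 52, nat_lit 182])) (.node (nat_lit 85) (.leaf (nat_lit 116738) [nat_lit 52, nat_lit 156, nat_lit 130, nat_lit 182, nat_lit 52, nat_lit 104, nat_lit 78, nat_lit 104, nat_lit 52]) (.leaf (nat_lit 114690) [nat_lit 52, nat_lit 156, nat_lit 130, nat_lit 156, nat_lit 78, nat_lit 130, nat_lit 156, nat_lit 156, nat_lit 52]))) (.node (nat_lit 88) (.node (nat_lit 87) (.leaf (nat_lit 113677) [nat_lit 78, nat_lit 130, nat_lit 78, nat_lit 104, nat_lit 52, nat_lit 130, nat_lit 182, nat_lit 78, nat_lit 156]) (.leaf (nat_lit 84996) [nat_lit 78, nat_lit 156, nat_lit 156, nat_lit 104, nat_lit 156, nat_lit 130, nat_lit 182, nat_lit 52, nat_lit 52]))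 (.node (nat_lit 89) (.leaf (nat_lit 118786) [nat_lit 78, nat_lit 104, nat_lit 156, nat_lit 78, nat_lit 104, nat_lit 52, nat_lit 182, nat_lit 130, nat_lit 52]) (.leaf (nat_lit 75777) [nat_lit 104, nat_lit 182, nat_lit 104, nat_lit 156, nat_lit 156, nat_lit 52, nat_lit 182, nat_lit 78])))))
noncomputable def r106 : WT := (.node (nat_lit 98) (.leaf (nat_lit 121862) [nat_lit 156, nat_lit 156, nat_lit 104, nat_lit 52, nat_lit 156, nat_lit 156, nat_lit 52, nat_lit 104, nat_lit 78]) (.leaf (nat_lit 132105) [nat_lit 52, nat_lit 156, nat_lit 52, nat_lit 130, nat_lit 78, nat_lit 104, nat_lit 182, nat_lit 104, nat_lit 78]))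
noncomputable def r107 : WT := (.node (nat_lit 101) (.leaf (nat_lit 41988) [nat_lit 156, nat_lit 52, nat_lit 208, nat_lit 104, nat_lit 156, nat_lit 52, nat_lit 208]) (.leaf (nat_lit 148496) [nat_lit 156, nat_lit 52, nat_lit 104, nat_lit 156, nat_lit 208, nat_lit 52, nat_lit 156, nat_lit 208, nat_lit 182]))
noncomputable def r108 : WT := (.node (nat_lit 104) (.leaf (nat_lit 44032) [nat_lit 104, nat_lit 208, nat_lit 156, nat_lit 208, nat_lit 182, nat_lit 104, nat_lit 208]) (.leaf (nat_lit 27651) [nat_lit 208, nat_lit 130, nat_lit 78, nat_lit 208, nat_lit 78, nat_lit 78, nat_lit 208]))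
noncomputable def r109 : WT := (.node (nat_lit 107) (.leaf (nat_lit 133136) [nat_lit 156, nat_lit 52, nat_lit 104, nat_lit 78, nat_lit 182, nat_lit 78, nat_lit 182, nat_lit 78, nat_lit 182]) (.leaf (nat_lit 123910) [nat_lit 182, nat_lit 182, nat_lit 104, nat_lit 52, nat_lit 156, nat_lit 156, nat_lit 52, nat_lit 104, nat_lit 78]))
noncomputable def r110 : WT := (.node (nat_lit 109) (.leaf (nat_lit 68623) [nat_lit 78, nat_lit 156, nat_lit 78, nat_lit 156, nat_lit 156, nat_lit 52, nat_lit 130, nat_lit 182]) (.leaf (nat_lit 125957) [nat_lit 78, nat_lit 182, nat_lit 78, nat_lit 104, nat_lit 52, nat_lit 130, nat_lit 78, nat_lit 130, nat_lit 182]))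
noncomputable def r111 : WT := (.node (nat_lit 111) (.leaf (nat_lit 113678) [nat_lit 78, nat_lit 130, nat_lit 52, nat_lit 104, nat_lit 52, nat_lit 130, nat_lit 182, nat_lit 52, nat_lit 156]) (.leaf (nat_lit 128001) [nat_lit 104, nat_lit 52, nat_lit 104, nat_lit 182, nat_lit 130, nat_lit 182, nat_lit 52, nat_lit 130, nat_lit 78]))
noncomputable def r112 : WT := (.node (nat_lit 99) (.node (nat_lit 94) (.node (nat_lit 92) (.node (nat_lit 91) (.leaf (nat_lit 123916) [nat_lit 52, nat_lit 156, nat_lit 156, nat_lit 52, nat_lit 104, nat_lit 78, nat_lit 104, nat_lit 182, nat_lit 182]) (.leaf (nat_lit 23557) [nat_lit 78, nat_lit 182, nat_lit 130, nat_lit 78, nat_lit 182, nat_lit 104])) (.node (nat_lit 93) (.leaf (nat_lit 68614) [nat_lit 78, nat_lit 182, nat_lit 182, nat_lit 52, nat_lit 182, nat_lit 52, nat_lit 130, nat_lit 156]) (.leaf (nat_lit 62466) [nat_lit 156, nat_lit 208, nat_lit 52, nat_lit 208, nat_lit 104, nat_lit 208, nat_lit 156, nat_lit 52]))) (.node (nat_lit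 96) (.node (nat_lit 95) (.leaf (nat_lit 130057) [nat_lit 182, nat_lit 182, nat_lit 52, nat_lit 130, nat_lit 78, nat_lit 182, nat_lit 78, nat_lit 104, nat_lit 156]) (.leaf (nat_lit 132101) [nat_lit 78, nat_lit 104, nat_lit 52, nat_lit 156, nat_lit 52, nat_lit 130, nat_lit 78, nat_lit 104, nat_lit 182])) (.node (nat_lit 97) (.leaf (nat_lit 117762) [nat_lit 52, nat_lit 182, nat_lit 130, nat_lit 52, nat_lit 104, nat_lit 52, nat_lit 182, nat_lit 130, nat_lit 52]) r106))) (.node (nat_lit 105) (.node (nat_lit 102) (.node (nat_lit 100) (.leaf (nat_lit 146438) [nat_lit 52, nat_lit 182, nat_lit 130, nat_lit 182, nat_lit 78, nat_lit 182, nat_lit 52, nat_lit 104, nat_lit 156]) r107) (.node (nat_lit 103) (.leaf (nat_lit 64514) [nat_lit 208, nat_lit 156, nat_lit 52, nat_lit 208, nat_lit 104, nat_lit 156, nat_lit 208, nat_lit 52]) r108)) (.node (nat_lit 108) (.node (nat_lit 106) (.leaf (nat_lit 79872) [nat_lit 104, nat_lit 156, nat_lit 130, nat_lit 156, nat_lit 130, nat_lit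 156, nat_lit 130, nat_lit 156]) r109) (.node (nat_lit 110) r110 r111))))
noncomputable def r113 : WT := (.node (nat_lit 113) (.leaf (nat_lit 32781) [nat_lit 78, nat_lit 208, nat_lit 52, nat_lit 208, nat_lit 104, nat_lit 208, nat_lit 104]) (.leaf (nat_lit 132098) [nat_lit 78, nat_lit 182, nat_lit 78, nat_lit 130, nat_lit 52, nat_lit 130, nat_lit 156, nat_lit 130, nat_lit 52]))
noncomputable def r114 : WT := (.node (nat_lit 115) (.leaf (nat_lit 132097) [nat_lit 182, nat_lit 104, nat_lit 78, nat_lit 104, nat_lit 52, nat_lit 156, nat_lit 52, nat_lit 130, nat_lit 78]) (.leaf (nat_lit 129033) [nat_lit 104, nat_lit 182, nat_lit 52, nat_lit 130, nat_lit 78, nat_lit 130, nat_lit 52, nat_lit 104, nat_lit 182]))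
noncomputable def r115 : WT := (.node (nat_lit 117) (.leaf (nat_lit 141314) [nat_lit 104, nat_lit 208, nat_lit 104, nat_lit 78, nat_lit 182, nat_lit 208, nat_lit 156, nat_lit 208, nat_lit 52]) (.leaf (nat_lit 144386) [nat_lit 156, nat_lit 52, nat_lit 156, nat_lit 104, nat_lit 52, nat_lit 156, nat_lit 78, nat_lit 182, nat_lit 52]))
noncomputable def r116 : WT := (.node (nat_lit 119) (.leaf (nat_lit 145426) [nat_lit 52, nat_lit 104, nat_lit 156, nat_lit 78, nat_lit 156, nat_lit 78, nat_lit 156, nat_lit 104, nat_lit 182]) (.leaf (nat_lit 46080) [nat_lit 208, nat_lit 130, nat_lit 208, nat_lit 104, nat_lit 208, nat_lit 130, nat_lit 208]))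
noncomputable def r117 : WT := (.node (nat_lit 121) (.leaf (nat_lit 44044) [nat_lit 208, nat_lit 104, nat_lit 104, nat_lit 208, nat_lit 156, nat_lit 208, nat_lit 182]) (.leaf (nat_lit 44034) [nat_lit 208, nat_lit 156, nat_lit 208, nat_lit 182, nat_lit 104, nat_lit 208, nat_lit 104]))
noncomputable def r118 : WT := (.node (nat_lit 123) (.leaf (nat_lit 113666) [nat_lit 52, nat_lit 130, nat_lit 182, nat_lit 52, nat_lit 156, nat_lit 104, nat_lit 78, nat_lit 130, nat_lit 52]) (.leaf (nat_lit 90113) [nat_lit 182, nat_lit 78, nat_lit 156, nat_lit 130, nat_lit 156, nat_lit 52, nat_lit 182, nat_lit 78, nat_lit 78]))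
noncomputable def r119 : WT := (.node (nat_lit 125) (.leaf (nat_lit 71695) [nat_lit 78, nat_lit 208, nat_lit 182, nat_lit 208, nat_lit 156, nat_lit 52, nat_lit 130, nat_lit 208]) (.leaf (nat_lit 87044) [nat_lit 156, nat_lit 130, nat_lit 156, nat_lit 130, nat_lit 182, nat_lit 52, nat_lit 182, nat_lit 52, nat_lit 52]))
noncomputable def r120 : WT := (.node (nat_lit 127) (.leaf (nat_lit 121868) [nat_lit 52, nat_lit 156, nat_lit 156, nat_lit 52, nat_lit 104, nat_lit 78, nat_lit 104, nat_lit 156, nat_lit 156]) (.node (nat_lit 128) (.leaf (nat_lit 23554) [nat_lit 156, nat_lit 52, nat_lit 130, nat_lit 130, nat_lit 156, nat_lit 52]) (.leaf (nat_lit 115714) [nat_lit 52, nat_lit 156, nat_lit 130, nat_lit 156, nat_lit 78, nat_lit 130, nat_lit 182, nat_lit 182, nat_lit 52])))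
noncomputable def r121 : WT := (.node (nat_lit 130) (.leaf (nat_lit 118785) [nat_lit 156, nat_lit 78, nat_lit 130, nat_lit 52, nat_lit 182, nat_lit 130, nat_lit 52, nat_lit 130, nat_lit 78]) (.leaf (nat_lit 12301) [nat_lit 208, nat_lit 130, nat_lit 234, nat_lit 104, nat_lit 208, nat_lit 78, nat_lit 182, nat_lit 104, nat_lit 234]))
noncomputable def r122 : WT := (.node (nat_lit 132) (.leaf (nat_lit 119810) [nat_lit 78, nat_lit 104, nat_lit 156, nat_lit 104, nat_lit 156, nat_lit 156, nat_lit 52, nat_lit 156, nat_lit 52]) (.node (nat_lit 133) (.leaf (nat_lit 136194) [nat_lit 104, nat_lit 78, nat_lit 130, nat_lit 52, nat_lit 104, nat_lit 182, nat_lit 130, nat_lit 182, nat_lit 52]) (.leaf (nat_lit 49160) [nat_lit 156, nat_lit 156, nat_lit 52, nat_lit 182, nat_lit 52, nat_lit 52, nat_lit 130, nat_lit 182])))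
noncomputable def r123 : WT := (.node (nat_lit 136) (.node (nat_lit 135) (.leaf (nat_lit 137218) [nat_lit 104, nat_lit 156, nat_lit 104, nat_lit 78, nat_lit 182, nat_lit 182, nat_lit 52, nat_lit 182, nat_lit 52]) (.leaf (nat_lit 12289) [nat_lit 208, nat_lit 78, nat_lit 182, nat_lit 104, nat_lit 234, nat_lit 104, nat_lit 208, nat_lit 130, nat_lit 234])) (.node (nat_lit 137) (.leaf (nat_lit 142338) [nat_lit 104, nat_lit 208, nat_lit 104, nat_lit 78, nat_lit 208, nat_lit 182, nat_lit 208, nat_lit 156, nat_lit 52]) (.leaf (nat_lit 144394) [nat_lit 52, nat_lit 156, nat_lit 78, nat_lit 182, nat_lit 52, nat_lit 104, nat_lit 156, nat_lit 52, nat_lit 156])))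
noncomputable def r124 : WT := (.node (nat_lit 140) (.node (nat_lit 139) (.leaf (nat_lit 145410) [nat_lit 156, nat_lit 78, nat_lit 156, nat_lit 78, nat_lit 156, nat_lit 104, nat_lit 182, nat_lit 104, nat_lit 52]) (.leaf (nat_lit 146434) [nat_lit 156, nat_lit 104, nat_lit 52, nat_lit 182, nat_lit 130, nat_lit 182, nat_lit 78, nat_lit 182, nat_lit 52])) (.node (nat_lit 141) (.leaf (nat_lit 116747) [nat_lit 182, nat_lit 78, nat_lit 130, nat_lit 78, nat_lit 130, nat_lit 52, nat_lit 130, nat_lit 78, nat_lit 156]) (.leaf (nat_lit 146439) [nat_lit 156, nat_lit 78, nat_lit 130, nat_lit 182, nat_lit 130, nat_lit 78, nat_lit 156, nat_lit 52, nat_lit 156])))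
noncomputable def r125 : WT := (.node (nat_lit 144) (.node (nat_lit 143) (.leaf (nat_lit 13329) [nat_lit 234, nat_lit 208, nat_lit 130, nat_lit 52, nat_lit 104, nat_lit 208, nat_lit 234, nat_lit 130, nat_lit 78]) (.leaf (nat_lit 134153) [nat_lit 156, nat_lit 156, nat_lit 52, nat_lit 130, nat_lit 78, nat_lit 182, nat_lit 78, nat_lit 104, nat_lit 156])) (.node (nat_lit 145) (.leaf (nat_lit 79879) [nat_lit 182, nat_lit 104, nat_lit 182, nat_lit 130, nat_lit 130, nat_lit 182, nat_lit 104, nat_lit 182]) (.leaf (nat_lit 133122) [nat_lit 78, nat_lit 182, nat_lit 78, nat_lit 182, nat_lit 78, nat_lit 182, nat_lit 104, nat_lit 156, nat_lit 52])))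
noncomputable def r126 : WT := (.node (nat_lit 148) (.node (nat_lit 147) (.leaf (nat_lit 49165) [nat_lit 78, nat_lit 78, nat_lit 156, nat_lit 78, nat_lit 182, nat_lit 182, nat_lit 130, nat_lit 156]) (.leaf (nat_lit 58369) [nat_lit 208, nat_lit 104, nat_lit 104, nat_lit 208, nat_lit 78, nat_lit 208, nat_lit 78, nat_lit 78])) (.node (nat_lit 149) (.leaf (nat_lit 130053) [nat_lit 156, nat_lit 104, nat_lit 182, nat_lit 182, nat_lit 52, nat_lit 130, nat_lit 78, nat_lit 182, nat_lit 78]) (.leaf (nat_lit 130050) [nat_lit 78, nat_lit 156, nat_lit 156, nat_lit 130, nat_lit 182, nat_lit 130, nat_lit 52, nat_lit 156, nat_lit 52])))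
noncomputable def r127 : WT := (.node (nat_lit 152) (.node (nat_lit 151) (.leaf (nat_lit 91142) [nat_lit 156, nat_lit 130, nat_lit 78, nat_lit 104, nat_lit 52, nat_lit 104, nat_lit 52, nat_lit 52, nat_lit 156]) (.leaf (nat_lit 76814) [nat_lit 182, nat_lit 52, nat_lit 208, nat_lit 78, nat_lit 156, nat_lit 104, nat_lit 104, nat_lit 208])) (.node (nat_lit 153) (.leaf (nat_lit 75779) [nat_lit 182, nat_lit 104, nat_lit 156, nat_lit 156, nat_lit 52, nat_lit 182, nat_lit 78, nat_lit 104]) (.leaf (nat_lit 126978) [nat_lit 78, nat_lit 156, nat_lit 52, nat_lit 182, nat_lit 104, nat_lit 156, nat_lit 78, nat_lit 182, nat_lit 52])))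
noncomputable def r128 : WT := (.node (nat_lit 156) (.node (nat_lit 155) (.leaf (nat_lit 102409) [nat_lit 208, nat_lit 104, nat_lit 156, nat_lit 78, nat_lit 78, nat_lit 208, nat_lit 78, nat_lit 182, nat_lit 104]) (.leaf (nat_lit 120842) [nat_lit 182, nat_lit 182, nat_lit 52, nat_lit 156, nat_lit 52, nat_lit 104, nat_lit 78, nat_lit 104, nat_lit 156])) (.node (nat_lit 157) (.leaf (nat_lit 27656) [nat_lit 208, nat_lit 130, nat_lit 208, nat_lit 52, nat_lit 52, nat_lit 208, nat_lit 52]) (.leaf (nat_lit 71686) [nat_lit 78, nat_lit 182, nat_lit 208, nat_lit 156, nat_lit 208, nat_lit 52, nat_lit 130, nat_lit 208])))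
noncomputable def r129 : WT := (.node (nat_lit 129) (.node (nat_lit 120) (.node (nat_lit 116) (.node (nat_lit 114) r113 r114) (.node (nat_lit 118) r115 r116)) (.node (nat_lit 124) (.node (nat_lit 122) r117 r118) (.node (nat_lit 126) r119 r120))) (.node (nat_lit 142) (.node (nat_lit 134) (.node (nat_lit 131) r121 r122) (.node (nat_lit 138) r123 r124)) (.node (nat_lit 150) (.node (nat_lit 146) r125 r126) (.node (nat_lit 154) r127 r128))))
noncomputable def r130 : WT := (.node (nat_lit 43) (.node (nat_lit 31) (.node (nat_lit 27) (.node (nat_lit 25) r92 r93) (.node (nat_lit 29) r94 r95)) (.node (nat_lit 36) (.node (nat_lit 33) r96 r97) (.node (nat_lit 39) r98 r99))) (.node (nat_lit 66) (.node (nat_lit 52) (.node (nat_lit 47) r100 r101) (.node (nat_lit 59) r102 r103)) (.node (nat_lit 90) (.node (nat_lit 76) r104 r105) (.node (nat_lit 112) r112 r129))))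
noncomputable def w2 : WT := (.node (nat_lit 1) (.leaf (nat_lit 1024) [nat_lit 130]) (.node (nat_lit 5) (.node (nat_lit 2) (.leaf (nat_lit 17408) [nat_lit 104, nat_lit 104]) (.node (nat_lit 3) (.leaf (nat_lit 19458) [nat_lit 156, nat_lit 52, nat_lit 104, nat_lit 156, nat_lit 52]) r87)) (.node (nat_lit 12) (.node (nat_lit 8) r88 r89) (.node (nat_lit 23) r91 r130))))
noncomputable def r131 : WT := (.node (nat_lit 4) (.leaf (nat_lit 33793) [nat_lit 156, nat_lit 104, nat_lit 78, nat_lit 130, nat_lit 156, nat_lit 104, nat_lit 78]) (.leaf (nat_lit 23560) [nat_lit 130, nat_lit 156, nat_lit 52, nat_lit 104, nat_lit 156, nat_lit 52]))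
noncomputable def r132 : WT := (.node (nat_lit 6) (.leaf (nat_lit 24582) [nat_lit 208, nat_lit 78, nat_lit 208, nat_lit 52, nat_lit 104, nat_lit 208]) (.node (nat_lit 7) (.leaf (nat_lit 38920) [nat_lit 208, nat_lit 104, nat_lit 182, nat_lit 52, nat_lit 208, nat_lit 78, nat_lit 156]) (.leaf (nat_lit 35841) [nat_lit 182, nat_lit 104, nat_lit 182, nat_lit 182, nat_lit 52, nat_lit 182, nat_lit 78])))
noncomputable def r133 : WT := (.node (nat_lit 10) (.node (nat_lit 9) (.leaf (nat_lit 35850) [nat_lit 156, nat_lit 104, nat_lit 52, nat_lit 156, nat_lit 78, nat_lit 156, nat_lit 156]) (.leaf (nat_lit 29703) [nat_lit 78, nat_lit 182, nat_lit 130, nat_lit 78, nat_lit 156, nat_lit 156, nat_lit 156])) (.node (nat_lit 11) (.leaf (nat_lit 36874) [nat_lit 156, nat_lit 104, nat_lit 52, nat_lit 156, nat_lit 78, nat_lit 182, nat_lit 182]) (.node (nat_lit 12) (.leaf (nat_lit 45059) [nat_lit 156, nat_lit 130, nat_lit 156, nat_lit 130, nat_lit 156, nat_lit 130, nat_lit 156]) (.leaf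 (nat_lit 33794) [nat_lit 182, nat_lit 104, nat_lit 52, nat_lit 130, nat_lit 182, nat_lit 104, nat_lit 52]))))
noncomputable def r134 : WT := (.node (nat_lit 26) (.leaf (nat_lit 9218) [nat_lit 52, nat_lit 208, nat_lit 78, nat_lit 104, nat_lit 260]) (.leaf (nat_lit 48129) [nat_lit 182, nat_lit 104, nat_lit 52, nat_lit 130, nat_lit 182, nat_lit 104, nat_lit 78, nat_lit 78]))
noncomputable def r135 : WT := (.node (nat_lit 18) (.node (nat_lit 15) (.node (nat_lit 14) (.leaf (nat_lit 39944) [nat_lit 208, nat_lit 104, nat_lit 156, nat_lit 52, nat_lit 208, nat_lit 78, nat_lit 182]) (.leaf (nat_lit 12294) [nat_lit 234, nat_lit 130, nat_lit 156, nat_lit 52, nat_lit 208, nat_lit 130, nat_lit 234, nat_lit 104, nat_lit 208])) (.node (nat_lit 16) (.leaf (nat_lit 60417) [nat_lit 52, nat_lit 104, nat_lit 182, nat_lit 130, nat_lit 182, nat_lit 52, nat_lit 130, nat_lit 78]) (.node (nat_lit 17) (.leaf (nat_lit 32770) [nat_lit 130, nat_lit 208, nat_lit 130, nat_lit 208, nat_lit 78,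 nat_lit 208, nat_lit 52]) (.leaf (nat_lit 60425) [nat_lit 182, nat_lit 52, nat_lit 130, nat_lit 78, nat_lit 130, nat_lit 52, nat_lit 104, nat_lit 182])))) (.node (nat_lit 22) (.node (nat_lit 20) (.node (nat_lit 19) (.leaf (nat_lit 60428) [nat_lit 78, nat_lit 104, nat_lit 52, nat_lit 104, nat_lit 78, nat_lit 156, nat_lit 104, nat_lit 156]) (.leaf (nat_lit 46084) [nat_lit 208, nat_lit 104, nat_lit 208, nat_lit 130, nat_lit 208, nat_lit 104, nat_lit 208])) (.node (nat_lit 21) (.leaf (nat_lit 24587) [nat_lit 78, nat_lit 208, nat_lit 52, nat_lit 208, nat_lit 104, nat_lit 208]) (.leaf (nat_lit 60431) [nat_lit 78, nat_lit 130, nat_lit 52, nat_lit 104, nat_lit 182, nat_lit 130, nat_lit 182, nat_lit 52]))) (.node (nat_lit 24) (.node (nat_lit 23) (.leaf (nat_lit 61453) [nat_lit 130, nat_lit 78, nat_lit 130, nat_lit 156, nat_lit 104, nat_lit 78, nat_lit 130, nat_lit 156]) (.leaf (nat_lit 71682) [nat_lit 208, nat_lit 104, nat_lit 78, nat_lit 182, nat_lit 208, nat_lit 156,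 nat_lit 208, nat_lit 52])) (.node (nat_lit 25) (.leaf (nat_lit 63498) [nat_lit 156, nat_lit 52, nat_lit 182, nat_lit 52, nat_lit 104, nat_lit 182, nat_lit 78, nat_lit 156]) r134))))
noncomputable def r136 : WT := (.node (nat_lit 28) (.leaf (nat_lit 64517) [nat_lit 208, nat_lit 78, nat_lit 182, nat_lit 208, nat_lit 130, nat_lit 78, nat_lit 208, nat_lit 182]) (.leaf (nat_lit 65538) [nat_lit 52, nat_lit 156, nat_lit 104, nat_lit 182, nat_lit 130, nat_lit 156, nat_lit 156, nat_lit 52]))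
noncomputable def r137 : WT := (.node (nat_lit 30) (.leaf (nat_lit 65548) [nat_lit 156, nat_lit 156, nat_lit 52, nat_lit 130, nat_lit 52, nat_lit 156, nat_lit 104, nat_lit 182]) (.leaf (nat_lit 48132) [nat_lit 156, nat_lit 104, nat_lit 78, nat_lit 130, nat_lit 156, nat_lit 104, nat_lit 52, nat_lit 52]))
noncomputable def r138 : WT := (.node (nat_lit 32) (.leaf (nat_lit 69646) [nat_lit 130, nat_lit 52, nat_lit 130, nat_lit 182, nat_lit 104, nat_lit 52, nat_lit 130, nat_lit 182]) (.leaf (nat_lit 36865) [nat_lit 182, nat_lit 104, nat_lit 156, nat_lit 156, nat_lit 52, nat_lit 182, nat_lit 78]))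
noncomputable def r139 : WT := (.node (nat_lit 34) (.leaf (nat_lit 65545) [nat_lit 182, nat_lit 78, nat_lit 104, nat_lit 78, nat_lit 182, nat_lit 182, nat_lit 104, nat_lit 156]) (.leaf (nat_lit 63503) [nat_lit 78, nat_lit 156, nat_lit 78, nat_lit 182, nat_lit 104, nat_lit 182, nat_lit 52, nat_lit 156]))
noncomputable def r140 : WT := (.node (nat_lit 36) (.leaf (nat_lit 91137) [nat_lit 78, nat_lit 130, nat_lit 52, nat_lit 104, nat_lit 182, nat_lit 130, nat_lit 182, nat_lit 78, nat_lit 78]) (.node (nat_lit 37) (.leaf (nat_lit 111633) [nat_lit 78, nat_lit 104, nat_lit 52, nat_lit 156, nat_lit 104, nat_lit 78, nat_lit 156, nat_lit 130, nat_lit 78]) (.leaf (nat_lit 25604) [nat_lit 156, nat_lit 208, nat_lit 182, nat_lit 208, nat_lit 104, nat_lit 208])))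
noncomputable def r141 : WT := (.node (nat_lit 39) (.leaf (nat_lit 70662) [nat_lit 182, nat_lit 78, nat_lit 156, nat_lit 130, nat_lit 182, nat_lit 52, nat_lit 130, nat_lit 182]) (.node (nat_lit 40) (.leaf (nat_lit 111634) [nat_lit 52, nat_lit 104, nat_lit 52, nat_lit 104, nat_lit 182, nat_lit 52, nat_lit 130, nat_lit 182, nat_lit 78]) (.leaf (nat_lit 30727) [nat_lit 130, nat_lit 208, nat_lit 130, nat_lit 78, nat_lit 208, nat_lit 52, nat_lit 208])))
noncomputable def r142 : WT := (.node (nat_lit 43) (.node (nat_lit 42) (.leaf (nat_lit 67586) [nat_lit 156, nat_lit 104, nat_lit 78, nat_lit 156, nat_lit 156, nat_lit 52, nat_lit 182, nat_lit 52]) (.leaf (nat_lit 15364) [nat_lit 156, nat_lit 104, nat_lit 234, nat_lit 130, nat_lit 182, nat_lit 104, nat_lit 52, nat_lit 234, nat_lit 78])) (.node (nat_lit 44) (.leaf (nat_lit 72720) [nat_lit 52, nat_lit 156, nat_lit 78, nat_lit 156, nat_lit 104, nat_lit 182, nat_lit 104, nat_lit 182]) (.leaf (nat_lit 72713) [nat_lit 182,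 nat_lit 52, nat_lit 182, nat_lit 78, nat_lit 104, nat_lit 156, nat_lit 130, nat_lit 156])))
noncomputable def r143 : WT := (.node (nat_lit 47) (.node (nat_lit 46) (.leaf (nat_lit 70670) [nat_lit 182, nat_lit 52, nat_lit 130, nat_lit 182, nat_lit 130, nat_lit 182, nat_lit 78, nat_lit 156]) (.leaf (nat_lit 76807) [nat_lit 130, nat_lit 182, nat_lit 52, nat_lit 208, nat_lit 78, nat_lit 156, nat_lit 130, nat_lit 208])) (.node (nat_lit 48) (.leaf (nat_lit 106497) [nat_lit 208, nat_lit 104, nat_lit 78, nat_lit 208, nat_lit 182, nat_lit 208, nat_lit 156, nat_lit 78, nat_lit 78]) (.leaf (nat_lit 92161) [nat_lit 182, nat_lit 130, nat_lit 182, nat_lit 78, nat_lit 156, nat_lit 130, nat_lit 182, nat_lit 78, nat_lit 78])))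
noncomputable def r144 : WT := (.node (nat_lit 51) (.node (nat_lit 50) (.leaf (nat_lit 49156) [nat_lit 182, nat_lit 104, nat_lit 156, nat_lit 156, nat_lit 52, nat_lit 182, nat_lit 52, nat_lit 52]) (.leaf (nat_lit 114702) [nat_lit 156, nat_lit 156, nat_lit 52, nat_lit 104, nat_lit 52, nat_lit 156, nat_lit 130, nat_lit 156, nat_lit 78])) (.node (nat_lit 52) (.leaf (nat_lit 66562) [nat_lit 52, nat_lit 156, nat_lit 104, nat_lit 182, nat_lit 130, nat_lit 182, nat_lit 182, nat_lit 52]) (.node (nat_lit 53) (.leaf (nat_lit 116737) [nat_lit 52, nat_lit 130, nat_lit 78, nat_lit 156, nat_lit 104, nat_lit 182, nat_lit 78, nat_lit 130, nat_lit 78]) (.leaf (nat_lit 114696) [nat_lit 156, nat_lit 78, nat_lit 130, nat_lit 156, nat_lit 156, nat_lit 52, nat_lit 104, nat_lit 52, nat_lit 156]))))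
noncomputable def r145 : WT := (.node (nat_lit 57) (.node (nat_lit 55) (.leaf (nat_lit 123917) [nat_lit 52, nat_lit 130, nat_lit 78, nat_lit 182, nat_lit 182, nat_lit 78, nat_lit 130, nat_lit 156, nat_lit 156]) (.node (nat_lit 56) (.leaf (nat_lit 110593) [nat_lit 208, nat_lit 104, nat_lit 78, nat_lit 182, nat_lit 208, nat_lit 156, nat_lit 208, nat_lit 78, nat_lit 78]) (.leaf (nat_lit 67595) [nat_lit 182, nat_lit 104, nat_lit 78, nat_lit 156, nat_lit 78, nat_lit 182, nat_lit 182, nat_lit 52]))) (.node (nat_lit 58) (.leaf (nat_lit 112647) [nat_lit 78, nat_lit 156, nat_lit 104, nat_lit 78, nat_lit 130, nat_lit 78, nat_lit 156, nat_lit 104, nat_lit 78]) (.node (nat_lit 59) (.leaf (nat_lit 62479) [nat_lit 78, nat_lit 182, nat_lit 208, nat_lit 130, nat_lit 208, nat_lit 78, nat_lit 208, nat_lit 182]) (.leaf (nat_lit 72709) [nat_lit 156, nat_lit 130, nat_lit 182, nat_lit 52, nat_lit 182, nat_lit 78, nat_lit 104, nat_lit 156]))))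
noncomputable def r146 : WT := (.node (nat_lit 63) (.node (nat_lit 61) (.leaf (nat_lit 120841) [nat_lit 182, nat_lit 130, nat_lit 52, nat_lit 130, nat_lit 78, nat_lit 182, nat_lit 78, nat_lit 156, nat_lit 156]) (.node (nat_lit 62) (.leaf (nat_lit 12298) [nat_lit 156, nat_lit 52, nat_lit 208, nat_lit 130, nat_lit 234, nat_lit 104, nat_lit 208, nat_lit 130, nat_lit 234]) (.leaf (nat_lit 126983) [nat_lit 156, nat_lit 78, nat_lit 182, nat_lit 52, nat_lit 130, nat_lit 78, nat_lit 156, nat_lit 52, nat_lit 182]))) (.node (nat_lit 65) (.node (nat_lit 64) (.leaf (nat_lit 71691) [nat_lit 208, nat_lit 104, nat_lit 78, nat_lit 208, nat_lit 182, nat_lit 208, nat_lit 156, nat_lit 52]) (.leaf (nat_lit 119817) [nat_lit 182, nat_lit 130, nat_lit 52, nat_lit 130, nat_lit 78, nat_lit 182, nat_lit 78, nat_lit 182, nat_lit 182])) (.node (nat_lit 66) (.leaf (nat_lit 114705) [nat_lit 78, nat_lit 182, nat_lit 182, nat_lit 104, nat_lit 52, nat_lit 182, nat_lit 104, nat_lit 182, nat_lit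 78]) (.leaf (nat_lit 121863) [nat_lit 182, nat_lit 182, nat_lit 130, nat_lit 52, nat_lit 130, nat_lit 78, nat_lit 182, nat_lit 182, nat_lit 78]))))
noncomputable def r147 : WT := (.node (nat_lit 71) (.node (nat_lit 69) (.node (nat_lit 68) (.leaf (nat_lit 66572) [nat_lit 182, nat_lit 182, nat_lit 52, nat_lit 130, nat_lit 52, nat_lit 156, nat_lit 104, nat_lit 182]) (.leaf (nat_lit 145425) [nat_lit 78, nat_lit 130, nat_lit 156, nat_lit 130, nat_lit 182, nat_lit 52, nat_lit 182, nat_lit 52, nat_lit 182])) (.node (nat_lit 70) (.leaf (nat_lit 117767) [nat_lit 78, nat_lit 104, nat_lit 156, nat_lit 78, nat_lit 130, nat_lit 78, nat_lit 104, nat_lit 156, nat_lit 78]) (.leaf (nat_lit 117768) [nat_lit 52, nat_lit 104, nat_lit 52, nat_lit 182, nat_lit 130, nat_lit 52, nat_lit 104, nat_lit 52, nat_lit 182]))) (.node (nat_lit 73) (.node (nat_lit 72) (.leaf (nat_lit 125953) [nat_lit 182, nat_lit 104, nat_lit 78, nat_lit 182, nat_lit 78, nat_lit 104, nat_lit 52, nat_lit 130,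 nat_lit 78]) (.leaf (nat_lit 125958) [nat_lit 52, nat_lit 156, nat_lit 52, nat_lit 130, nat_lit 156, nat_lit 104, nat_lit 52, nat_lit 104, nat_lit 78])) (.node (nat_lit 74) (.leaf (nat_lit 98305) [nat_lit 52, nat_lit 156, nat_lit 104, nat_lit 182, nat_lit 130, nat_lit 182, nat_lit 182, nat_lit 78, nat_lit 78]) (.leaf (nat_lit 66569) [nat_lit 182, nat_lit 78, nat_lit 104, nat_lit 78, nat_lit 156, nat_lit 156, nat_lit 104, nat_lit 156]))))
noncomputable def r148 : WT := (.node (nat_lit 80) (.node (nat_lit 77) (.node (nat_lit 76) (.leaf (nat_lit 74757) [nat_lit 130, nat_lit 156, nat_lit 156, nat_lit 52, nat_lit 182, nat_lit 78, nat_lit 130, nat_lit 182]) (.leaf (nat_lit 125969) [nat_lit 78, nat_lit 130, nat_lit 182, nat_lit 104, nat_lit 78, nat_lit 182, nat_lit 78, nat_lit 104, nat_lit 52])) (.node (nat_lit 78) (.leaf (nat_lit 118791) [nat_lit 52, nat_lit 182, nat_lit 130, nat_lit 52, nat_lit 130, nat_lit 78, nat_lit 104, nat_lit 156, nat_lit 78]) (.node (nat_lit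 79) (.leaf (nat_lit 116741) [nat_lit 78, nat_lit 156, nat_lit 104, nat_lit 182, nat_lit 78, nat_lit 130, nat_lit 78, nat_lit 130, nat_lit 52]) (.leaf (nat_lit 115726) [nat_lit 182, nat_lit 182, nat_lit 52, nat_lit 104, nat_lit 52, nat_lit 156, nat_lit 130, nat_lit 156, nat_lit 78])))) (.node (nat_lit 82) (.node (nat_lit 81) (.leaf (nat_lit 146444) [nat_lit 182, nat_lit 78, nat_lit 182, nat_lit 52, nat_lit 104, nat_lit 156, nat_lit 104, nat_lit 52, nat_lit 182]) (.leaf (nat_lit 146445) [nat_lit 182, nat_lit 130, nat_lit 78, nat_lit 156, nat_lit 52, nat_lit 156, nat_lit 104, nat_lit 156, nat_lit 78])) (.node (nat_lit 83) (.leaf (nat_lit 132114) [nat_lit 52, nat_lit 104, nat_lit 78, nat_lit 182, nat_lit 78, nat_lit 130, nat_lit 52, nat_lit 130, nat_lit 156]) (.node (nat_lit 84) (.leaf (nat_lit 128016) [nat_lit 130, nat_lit 52, nat_lit 104, nat_lit 78, nat_lit 156, nat_lit 104, nat_lit 156, nat_lit 130, nat_lit 78]) (.leaf (nat_lit 44045) [nat_lit 130, nat_lit 208,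 nat_lit 130, nat_lit 156, nat_lit 208, nat_lit 182, nat_lit 208])))))
noncomputable def r149 : WT := (.node (nat_lit 91) (.node (nat_lit 88) (.node (nat_lit 86) (.leaf (nat_lit 70658) [nat_lit 182, nat_lit 130, nat_lit 182, nat_lit 78, nat_lit 156, nat_lit 130, nat_lit 182, nat_lit 52]) (.node (nat_lit 87) (.leaf (nat_lit 25613) [nat_lit 208, nat_lit 156, nat_lit 208, nat_lit 182, nat_lit 104, nat_lit 208]) (.leaf (nat_lit 118797) [nat_lit 52, nat_lit 130, nat_lit 78, nat_lit 104, nat_lit 156, nat_lit 78, nat_lit 130, nat_lit 52, nat_lit 182]))) (.node (nat_lit 89) (.leaf (nat_lit 111628) [nat_lit 182, nat_lit 78, nat_lit 130, nat_lit 52, nat_lit 104, nat_lit 52, nat_lit 104, nat_lit 182, nat_lit 52]) (.node (nat_lit 90) (.leaf (nat_lit 113669) [nat_lit 182, nat_lit 78, nat_lit 156, nat_lit 104, nat_lit 78, nat_lit 130, nat_lit 78, nat_lit 104, nat_lit 52]) (.leaf (nat_lit 88068) [nat_lit 52, nat_lit 104, nat_lit 182, nat_lit 130, nat_lit 182, nat_lit 52, nat_lit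 130, nat_lit 52, nat_lit 52])))) (.node (nat_lit 95) (.node (nat_lit 93) (.node (nat_lit 92) (.leaf (nat_lit 116753) [nat_lit 78, nat_lit 130, nat_lit 52, nat_lit 130, nat_lit 78, nat_lit 156, nat_lit 104, nat_lit 182, nat_lit 78]) (.leaf (nat_lit 118801) [nat_lit 78, nat_lit 104, nat_lit 156, nat_lit 78, nat_lit 130, nat_lit 52, nat_lit 182, nat_lit 130, nat_lit 52])) (.node (nat_lit 94) (.leaf (nat_lit 145409) [nat_lit 156, nat_lit 130, nat_lit 182, nat_lit 52, nat_lit 182, nat_lit 52, nat_lit 182, nat_lit 130, nat_lit 78]) (.leaf (nat_lit 50180) [nat_lit 182, nat_lit 104, nat_lit 182, nat_lit 182, nat_lit 52, nat_lit 182, nat_lit 52, nat_lit 52]))) (.node (nat_lit 97) (.node (nat_lit 96) (.leaf (nat_lit 131073) [nat_lit 52, nat_lit 182, nat_lit 78, nat_lit 104, nat_lit 78, nat_lit 156, nat_lit 52, nat_lit 130, nat_lit 78]) (.leaf (nat_lit 132106) [nat_lit 52, nat_lit 130, nat_lit 156, nat_lit 130, nat_lit 52, nat_lit 104, nat_lit 78, nat_lit 182, nat_lit 78]))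 (.node (nat_lit 98) (.leaf (nat_lit 112646) [nat_lit 182, nat_lit 52, nat_lit 104, nat_lit 52, nat_lit 130, nat_lit 182, nat_lit 52, nat_lit 104, nat_lit 52]) (.leaf (nat_lit 113682) [nat_lit 52, nat_lit 104, nat_lit 52, nat_lit 130, nat_lit 182, nat_lit 52, nat_lit 156, nat_lit 104, nat_lit 78])))))
noncomputable def r150 : WT := (.node (nat_lit 103) (.leaf (nat_lit 132113) [nat_lit 78, nat_lit 104, nat_lit 182, nat_lit 104, nat_lit 78, nat_lit 104, nat_lit 52, nat_lit 156, nat_lit 52]) (.leaf (nat_lit 119821) [nat_lit 52, nat_lit 130, nat_lit 78, nat_lit 182, nat_lit 78, nat_lit 182, nat_lit 182, nat_lit 130, nat_lit 182]))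
noncomputable def r151 : WT := (.node (nat_lit 108) (.leaf (nat_lit 122887) [nat_lit 182, nat_lit 182, nat_lit 130, nat_lit 52, nat_lit 130, nat_lit 78, nat_lit 156, nat_lit 156, nat_lit 78]) (.leaf (nat_lit 125966) [nat_lit 156, nat_lit 104, nat_lit 52, nat_lit 104, nat_lit 78, nat_lit 130, nat_lit 52, nat_lit 156, nat_lit 52]))
noncomputable def r152 : WT := (.node (nat_lit 113) (.leaf (nat_lit 68619) [nat_lit 182, nat_lit 104, nat_lit 78, nat_lit 156, nat_lit 78, nat_lit 156, nat_lit 156, nat_lit 52]) (.leaf (nat_lit 73742) [nat_lit 130, nat_lit 52, nat_lit 156, nat_lit 78, nat_lit 156, nat_lit 156, nat_lit 130, nat_lit 156]))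
noncomputable def r153 : WT := (.node (nat_lit 116) (.leaf (nat_lit 62469) [nat_lit 208, nat_lit 78, nat_lit 208, nat_lit 182, nat_lit 130, nat_lit 78, nat_lit 182, nat_lit 208]) (.leaf (nat_lit 13324) [nat_lit 78, nat_lit 104, nat_lit 208, nat_lit 234, nat_lit 130, nat_lit 52, nat_lit 104, nat_lit 234, nat_lit 208]))
noncomputable def r154 : WT := (.node (nat_lit 119) (.leaf (nat_lit 113670) [nat_lit 182, nat_lit 52, nat_lit 156, nat_lit 104, nat_lit 78, nat_lit 130, nat_lit 52, nat_lit 104, nat_lit 52]) (.leaf (nat_lit 48137) [nat_lit 182, nat_lit 104, nat_lit 78, nat_lit 78, nat_lit 130, nat_lit 182, nat_lit 104, nat_lit 52]))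
noncomputable def r155 : WT := (.node (nat_lit 109) (.node (nat_lit 104) (.node (nat_lit 101) (.node (nat_lit 100) (.leaf (nat_lit 77831) [nat_lit 130, nat_lit 156, nat_lit 52, nat_lit 208, nat_lit 78, nat_lit 182, nat_lit 130, nat_lit 208]) (.leaf (nat_lit 15372) [nat_lit 182, nat_lit 104, nat_lit 52, nat_lit 234, nat_lit 78, nat_lit 130, nat_lit 156, nat_lit 104, nat_lit 234])) (.node (nat_lit 102) (.leaf (nat_lit 139279) [nat_lit 130, nat_lit 78, nat_lit 156, nat_lit 156, nat_lit 52, nat_lit 182, nat_lit 52, nat_lit 130, nat_lit 156]) r150)) (.node (nat_lit 106) (.node (nat_lit 105) (.leaf (nat_lit 119825) [nat_lit 78, nat_lit 182, nat_lit 78, nat_lit 182, nat_lit 182, nat_lit 130, nat_lit 182, nat_lit 130, nat_lit 52]) (.leaf (nat_lit 132110) [nat_lit 156, nat_lit 130, nat_lit 52, nat_lit 104, nat_lit 78, nat_lit 182, nat_lit 78, nat_lit 130, nat_lit 52])) (.node (nat_lit 107) (.leaf (nat_lit 121873) [nat_lit 78, nat_lit 182, nat_lit 182, nat_lit 78, nat_lit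 130, nat_lit 182, nat_lit 182, nat_lit 130, nat_lit 52]) r151))) (.node (nat_lit 114) (.node (nat_lit 111) (.node (nat_lit 110) (.leaf (nat_lit 131082) [nat_lit 52, nat_lit 156, nat_lit 78, nat_lit 104, nat_lit 52, nat_lit 104, nat_lit 78, nat_lit 182, nat_lit 52]) (.leaf (nat_lit 23562) [nat_lit 156, nat_lit 52, nat_lit 104, nat_lit 156, nat_lit 52, nat_lit 130])) (.node (nat_lit 112) (.leaf (nat_lit 68610) [nat_lit 156, nat_lit 104, nat_lit 78, nat_lit 182, nat_lit 182, nat_lit 52, nat_lit 182, nat_lit 52]) r152)) (.node (nat_lit 117) (.node (nat_lit 115) (.leaf (nat_lit 64527) [nat_lit 78, nat_lit 208, nat_lit 182, nat_lit 130, nat_lit 208, nat_lit 78, nat_lit 182, nat_lit 208]) r153) (.node (nat_lit 118) (.leaf (nat_lit 115720) [nat_lit 156, nat_lit 78, nat_lit 130, nat_lit 182, nat_lit 182, nat_lit 52, nat_lit 104, nat_lit 52, nat_lit 156]) r154))))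
noncomputable def r156 : WT := (.node (nat_lit 121) (.leaf (nat_lit 113681) [nat_lit 78, nat_lit 104, nat_lit 52, nat_lit 130, nat_lit 182, nat_lit 78, nat_lit 156, nat_lit 104, nat_lit 78]) (.leaf (nat_lit 75790) [nat_lit 130, nat_lit 52, nat_lit 156, nat_lit 78, nat_lit 182, nat_lit 182, nat_lit 130, nat_lit 156]))
noncomputable def r157 : WT := (.node (nat_lit 123) (.leaf (nat_lit 76809) [nat_lit 182, nat_lit 52, nat_lit 208, nat_lit 78, nat_lit 156, nat_lit 130, nat_lit 208, nat_lit 130]) (.leaf (nat_lit 118802) [nat_lit 52, nat_lit 104, nat_lit 78, nat_lit 104, nat_lit 156, nat_lit 78, nat_lit 104, nat_lit 52, nat_lit 182]))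
noncomputable def r158 : WT := (.node (nat_lit 125) (.leaf (nat_lit 123921) [nat_lit 78, nat_lit 182, nat_lit 182, nat_lit 78, nat_lit 130, nat_lit 156, nat_lit 156, nat_lit 130, nat_lit 52]) (.leaf (nat_lit 129032) [nat_lit 130, nat_lit 156, nat_lit 130, nat_lit 78, nat_lit 104, nat_lit 52, nat_lit 104, nat_lit 78, nat_lit 156]))
noncomputable def r159 : WT := (.node (nat_lit 127) (.leaf (nat_lit 130062) [nat_lit 52, nat_lit 156, nat_lit 52, nat_lit 104, nat_lit 78, nat_lit 156, nat_lit 156, nat_lit 130, nat_lit 182]) (.leaf (nat_lit 145413) [nat_lit 182, nat_lit 52, nat_lit 182, nat_lit 52, nat_lit 182, nat_lit 130, nat_lit 78, nat_lit 130, nat_lit 156]))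
noncomputable def r160 : WT := (.node (nat_lit 129) (.leaf (nat_lit 120849) [nat_lit 78, nat_lit 182, nat_lit 78, nat_lit 156, nat_lit 156, nat_lit 130, nat_lit 182, nat_lit 130, nat_lit 52]) (.leaf (nat_lit 120845) [nat_lit 52, nat_lit 130, nat_lit 78, nat_lit 182, nat_lit 78, nat_lit 156, nat_lit 156, nat_lit 130, nat_lit 182]))
noncomputable def r161 : WT := (.node (nat_lit 131) (.leaf (nat_lit 13314) [nat_lit 52, nat_lit 104, nat_lit 234, nat_lit 208, nat_lit 130, nat_lit 78, nat_lit 104, nat_lit 208, nat_lit 234]) (.leaf (nat_lit 41987) [nat_lit 208, nat_lit 78, nat_lit 182, nat_lit 130, nat_lit 208, nat_lit 78, nat_lit 182]))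
noncomputable def r162 : WT := (.node (nat_lit 133) (.leaf (nat_lit 147474) [nat_lit 52, nat_lit 104, nat_lit 156, nat_lit 156, nat_lit 52, nat_lit 156, nat_lit 104, nat_lit 156, nat_lit 78]) (.node (nat_lit 134) (.leaf (nat_lit 137233) [nat_lit 78, nat_lit 156, nat_lit 78, nat_lit 156, nat_lit 156, nat_lit 52, nat_lit 130, nat_lit 182, nat_lit 130]) (.leaf (nat_lit 137231) [nat_lit 130, nat_lit 78, nat_lit 156, nat_lit 78, nat_lit 156, nat_lit 156, nat_lit 52, nat_lit 130, nat_lit 182])))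
noncomputable def r163 : WT := (.node (nat_lit 136) (.leaf (nat_lit 142347) [nat_lit 208, nat_lit 130, nat_lit 130, nat_lit 78, nat_lit 182, nat_lit 208, nat_lit 156, nat_lit 208, nat_lit 52]) (.node (nat_lit 137) (.leaf (nat_lit 136207) [nat_lit 130, nat_lit 78, nat_lit 156, nat_lit 104, nat_lit 156, nat_lit 130, nat_lit 78, nat_lit 104, nat_lit 52]) (.leaf (nat_lit 134154) [nat_lit 182, nat_lit 130, nat_lit 52, nat_lit 156, nat_lit 52, nat_lit 104, nat_lit 78, nat_lit 182, nat_lit 182])))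
noncomputable def r164 : WT := (.node (nat_lit 139) (.leaf (nat_lit 28686) [nat_lit 52, nat_lit 52, nat_lit 208, nat_lit 52, nat_lit 208, nat_lit 104, nat_lit 208]) (.node (nat_lit 140) (.leaf (nat_lit 139281) [nat_lit 78, nat_lit 156, nat_lit 156, nat_lit 52, nat_lit 182, nat_lit 52, nat_lit 130, nat_lit 156, nat_lit 130]) (.leaf (nat_lit 140296) [nat_lit 182, nat_lit 78, nat_lit 156, nat_lit 130, nat_lit 182, nat_lit 52, nat_lit 104, nat_lit 104, nat_lit 182])))
noncomputable def r165 : WT := (.node (nat_lit 143) (.node (nat_lit 142) (.leaf (nat_lit 147473) [nat_lit 78, nat_lit 104, nat_lit 52, nat_lit 182, nat_lit 130, nat_lit 182, nat_lit 78, nat_lit 182, nat_lit 182]) (.leaf (nat_lit 144401) [nat_lit 78, nat_lit 156, nat_lit 52, nat_lit 182, nat_lit 78, nat_lit 130, nat_lit 182, nat_lit 78, nat_lit 182])) (.node (nat_lit 144) (.leaf (nat_lit 27655) [nat_lit 78, nat_lit 208, nat_lit 78, nat_lit 78, nat_lit 208, nat_lit 104, nat_lit 208]) (.leaf (nat_lit 23563)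 [nat_lit 78, nat_lit 182, nat_lit 104, nat_lit 104, nat_lit 78, nat_lit 182])))
noncomputable def r166 : WT := (.node (nat_lit 147) (.node (nat_lit 146) (.leaf (nat_lit 21516) [nat_lit 52, nat_lit 52, nat_lit 182, nat_lit 130, nat_lit 78, nat_lit 182]) (.leaf (nat_lit 146449) [nat_lit 78, nat_lit 156, nat_lit 52, nat_lit 156, nat_lit 104, nat_lit 156, nat_lit 78, nat_lit 130, nat_lit 182])) (.node (nat_lit 148) (.leaf (nat_lit 147463) [nat_lit 182, nat_lit 78, nat_lit 182, nat_lit 182, nat_lit 130, nat_lit 78, nat_lit 104, nat_lit 52, nat_lit 182]) (.leaf (nat_lit 116744) [nat_lit 182, nat_lit 52, nat_lit 104, nat_lit 78, nat_lit 104, nat_lit 52, nat_lit 104, nat_lit 52, nat_lit 156])))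
noncomputable def r167 : WT := (.node (nat_lit 151) (.node (nat_lit 150) (.leaf (nat_lit 122897) [nat_lit 78, nat_lit 156, nat_lit 156, nat_lit 78, nat_lit 130, nat_lit 182, nat_lit 182, nat_lit 130, nat_lit 52]) (.leaf (nat_lit 115729) [nat_lit 78, nat_lit 156, nat_lit 156, nat_lit 104, nat_lit 52, nat_lit 182, nat_lit 104, nat_lit 182, nat_lit 78])) (.node (nat_lit 152) (.leaf (nat_lit 111629) [nat_lit 78, nat_lit 130, nat_lit 78, nat_lit 104, nat_lit 52, nat_lit 156, nat_lit 104, nat_lit 78, nat_lit 156]) (.leaf (nat_lit 93198) [nat_lit 52, nat_lit 156, nat_lit 52, nat_lit 52, nat_lit 156, nat_lit 104, nat_lit 182, nat_lit 104, nat_lit 182])))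
noncomputable def r168 : WT := (.node (nat_lit 154) (.leaf (nat_lit 13325) [nat_lit 78, nat_lit 104, nat_lit 234, nat_lit 208, nat_lit 130, nat_lit 52, nat_lit 104, nat_lit 208, nat_lit 234]) (.node (nat_lit 155) (.leaf (nat_lit 12306) [nat_lit 234, nat_lit 104, nat_lit 208, nat_lit 130, nat_lit 234, nat_lit 130, nat_lit 156, nat_lit 52, nat_lit 208]) (.leaf (nat_lit 80911) [nat_lit 130, nat_lit 208, nat_lit 130, nat_lit 208, nat_lit 104, nat_lit 208, nat_lit 130, nat_lit 208])))
noncomputable def r169 : WT := (.node (nat_lit 158) (.node (nat_lit 157) (.leaf (nat_lit 121869) [nat_lit 52, nat_lit 130, nat_lit 78, nat_lit 182, nat_lit 182, nat_lit 78, nat_lit 130, nat_lit 182, nat_lit 182]) (.leaf (nat_lit 80899) [nat_lit 208, nat_lit 104, nat_lit 208, nat_lit 130, nat_lit 208, nat_lit 130, nat_lit 130, nat_lit 208])) (.node (nat_lit 159) (.leaf (nat_lit 79887) [nat_lit 130, nat_lit 182, nat_lit 104, nat_lit 182, nat_lit 104, nat_lit 182, nat_lit 104, nat_lit 182])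 (.leaf (nat_lit 28677) [nat_lit 208, nat_lit 78, nat_lit 208, nat_lit 78, nat_lit 78, nat_lit 104, nat_lit 208])))
noncomputable def r170 : WT := (.node (nat_lit 162) (.node (nat_lit 161) (.leaf (nat_lit 123911) [nat_lit 156, nat_lit 156, nat_lit 130, nat_lit 52, nat_lit 130, nat_lit 78, nat_lit 182, nat_lit 182, nat_lit 78]) (.leaf (nat_lit 78862) [nat_lit 156, nat_lit 52, nat_lit 208, nat_lit 104, nat_lit 156, nat_lit 52, nat_lit 208, nat_lit 130])) (.node (nat_lit 163) (.leaf (nat_lit 124935) [nat_lit 156, nat_lit 156, nat_lit 130, nat_lit 52, nat_lit 130, nat_lit 78, nat_lit 156, nat_lit 156, nat_lit 78]) (.leaf (nat_lit 126993) [nat_lit 78, nat_lit 156, nat_lit 52, nat_lit 182, nat_lit 130, nat_lit 156, nat_lit 78, nat_lit 182, nat_lit 52])))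
noncomputable def r171 : WT := (.node (nat_lit 166) (.node (nat_lit 165) (.leaf (nat_lit 130065) [nat_lit 78, nat_lit 182, nat_lit 78, nat_lit 104, nat_lit 156, nat_lit 104, nat_lit 182, nat_lit 182, nat_lit 52]) (.leaf (nat_lit 49161) [nat_lit 156, nat_lit 104, nat_lit 78, nat_lit 78, nat_lit 156, nat_lit 78, nat_lit 182, nat_lit 182])) (.node (nat_lit 167) (.leaf (nat_lit 131089) [nat_lit 78, nat_lit 130, nat_lit 52, nat_lit 182, nat_lit 78, nat_lit 104, nat_lit 78, nat_lit 156, nat_lit 52]) (.leaf (nat_lit 30729) [nat_lit 208, nat_lit 130, nat_lit 78, nat_lit 208, nat_lit 52, nat_lit 208, nat_lit 130])))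
noncomputable def r172 : WT := (.node (nat_lit 138) (.node (nat_lit 128) (.node (nat_lit 124) (.node (nat_lit 122) r156 r157) (.node (nat_lit 126) r158 r159)) (.node (nat_lit 132) (.node (nat_lit 130) r160 r161) (.node (nat_lit 135) r162 r163))) (.node (nat_lit 153) (.node (nat_lit 145) (.node (nat_lit 141) r164 r165) (.node (nat_lit 149) r166 r167)) (.node (nat_lit 160) (.node (nat_lit 156) r168 r169) (.node (nat_lit 164) r170 r171))))
noncomputable def r173 : WT := (.node (nat_lit 49) (.node (nat_lit 35) (.node (nat_lit 31) (.node (nat_lit 29) r136 r137) (.node (nat_lit 33) r138 r139)) (.node (nat_lit 41) (.node (nat_lit 38) r140 r141) (.node (nat_lit 45) r142 r143))) (.node (nat_lit 75) (.node (nat_lit 60) (.node (nat_lit 54) r144 r145) (.node (nat_lit 67) r146 r147)) (.node (nat_lit 99) (.node (nat_lit 85) r148 r149) (.node (nat_lit 120) r155 r172))))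
noncomputable def w3 : WT := (.node (nat_lit 1) (.leaf (nat_lit 1026) [nat_lit 104]) (.node (nat_lit 5) (.node (nat_lit 2) (.leaf (nat_lit 17409) [nat_lit 130, nat_lit 130]) (.node (nat_lit 3) (.leaf (nat_lit 19459) [nat_lit 78, nat_lit 182, nat_lit 130, nat_lit 78, nat_lit 182]) r131)) (.node (nat_lit 13) (.node (nat_lit 8) r132 r133) (.node (nat_lit 27) r135 r173))))
noncomputable def r174 : WT := (.node (nat_lit 4) (.leaf (nat_lit 20482) [nat_lit 208, nat_lit 182, nat_lit 78, nat_lit 208, nat_lit 52]) (.node (nat_lit 5) (.leaf (nat_lit 29697) [nat_lit 156, nat_lit 156, nat_lit 130, nat_lit 78, nat_lit 182, nat_lit 130, nat_lit 78]) (.leaf (nat_lit 25603) [nat_lit 208, nat_lit 182, nat_lit 104, nat_lit 208, nat_lit 130, nat_lit 208])))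
noncomputable def r175 : WT := (.node (nat_lit 8) (.node (nat_lit 7) (.leaf (nat_lit 34818) [nat_lit 52, nat_lit 156, nat_lit 52, nat_lit 156, nat_lit 52, nat_lit 156, nat_lit 52]) (.leaf (nat_lit 23564) [nat_lit 52, nat_lit 104, nat_lit 156, nat_lit 52, nat_lit 130, nat_lit 130])) (.node (nat_lit 9) (.leaf (nat_lit 22529) [nat_lit 208, nat_lit 182, nat_lit 78, nat_lit 208, nat_lit 78, nat_lit 78]) (.leaf (nat_lit 33795) [nat_lit 104, nat_lit 78, nat_lit 130, nat_lit 156, nat_lit 104, nat_lit 78, nat_lit 130])))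
noncomputable def r176 : WT := (.node (nat_lit 12) (.node (nat_lit 11) (.leaf (nat_lit 35846) [nat_lit 156, nat_lit 130, nat_lit 156, nat_lit 104, nat_lit 52, nat_lit 156, nat_lit 78]) (.leaf (nat_lit 35842) [nat_lit 78, nat_lit 156, nat_lit 156, nat_lit 130, nat_lit 156, nat_lit 104, nat_lit 52])) (.node (nat_lit 13) (.leaf (nat_lit 25606) [nat_lit 208, nat_lit 182, nat_lit 208, nat_lit 104, nat_lit 208, nat_lit 130]) (.node (nat_lit 14) (.leaf (nat_lit 38918) [nat_lit 130, nat_lit 208, nat_lit 104, nat_lit 182, nat_lit 52, nat_lit 208, nat_lit 78]) (.leaf (nat_lit 36871) [nat_lit 156, nat_lit 52, nat_lit 182, nat_lit 78, nat_lit 130, nat_lit 182, nat_lit 104]))))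
noncomputable def r177 : WT := (.node (nat_lit 24) (.leaf (nat_lit 45057) [nat_lit 130, nat_lit 156, nat_lit 130, nat_lit 156, nat_lit 130, nat_lit 156, nat_lit 130]) (.leaf (nat_lit 49153) [nat_lit 78, nat_lit 182, nat_lit 182, nat_lit 130, nat_lit 156, nat_lit 104, nat_lit 78, nat_lit 78]))
noncomputable def r178 : WT := (.node (nat_lit 27) (.leaf (nat_lit 65543) [nat_lit 130, nat_lit 182, nat_lit 78, nat_lit 104, nat_lit 78, nat_lit 182, nat_lit 182, nat_lit 104]) (.leaf (nat_lit 36873) [nat_lit 52, nat_lit 182, nat_lit 78, nat_lit 130, nat_lit 182, nat_lit 104, nat_lit 156]))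
noncomputable def r179 : WT := (.node (nat_lit 19) (.node (nat_lit 17) (.node (nat_lit 16) (.leaf (nat_lit 39950) [nat_lit 52, nat_lit 208, nat_lit 78, nat_lit 182, nat_lit 130, nat_lit 208, nat_lit 104]) (.leaf (nat_lit 60422) [nat_lit 104, nat_lit 156, nat_lit 130, nat_lit 78, nat_lit 104, nat_lit 52, nat_lit 104, nat_lit 78])) (.node (nat_lit 18) (.leaf (nat_lit 37894) [nat_lit 156, nat_lit 156, nat_lit 78, nat_lit 208, nat_lit 52, nat_lit 156, nat_lit 208]) (.leaf (nat_lit 35848) [nat_lit 130, nat_lit 156, nat_lit 104, nat_lit 52, nat_lit 156, nat_lit 78, nat_lit 156]))) (.node (nat_lit 22) (.node (nat_lit 20) (.leaf (nat_lit 35852) [nat_lit 104, nat_lit 52, nat_lit 156, nat_lit 78, nat_lit 156, nat_lit 156, nat_lit 130]) (.node (nat_lit 21) (.leaf (nat_lit 60426) [nat_lit 130, nat_lit 78, nat_lit 104, nat_lit 52, nat_lit 104, nat_lit 78, nat_lit 156, nat_lit 104]) (.leaf (nat_lit 63501) [nat_lit 130, nat_lit 78, nat_lit 156, nat_lit 78, nat_lit 182, nat_lit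 104, nat_lit 182, nat_lit 52]))) (.node (nat_lit 25) (.node (nat_lit 23) (.leaf (nat_lit 63496) [nat_lit 130, nat_lit 156, nat_lit 52, nat_lit 182, nat_lit 52, nat_lit 104, nat_lit 182, nat_lit 78]) r177) (.node (nat_lit 26) (.leaf (nat_lit 64526) [nat_lit 208, nat_lit 52, nat_lit 104, nat_lit 208, nat_lit 156, nat_lit 52, nat_lit 208, nat_lit 104]) r178))))
noncomputable def r180 : WT := (.node (nat_lit 29) (.leaf (nat_lit 36866) [nat_lit 78, nat_lit 182, nat_lit 182, nat_lit 130, nat_lit 156, nat_lit 104, nat_lit 52]) (.leaf (nat_lit 63500) [nat_lit 52, nat_lit 182, nat_lit 52, nat_lit 104, nat_lit 182, nat_lit 78, nat_lit 156, nat_lit 130]))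
noncomputable def r181 : WT := (.node (nat_lit 31) (.leaf (nat_lit 70669) [nat_lit 104, nat_lit 78, nat_lit 156, nat_lit 104, nat_lit 182, nat_lit 52, nat_lit 156, nat_lit 104]) (.leaf (nat_lit 63489) [nat_lit 78, nat_lit 182, nat_lit 104, nat_lit 182, nat_lit 52, nat_lit 156, nat_lit 130, nat_lit 78]))
noncomputable def r182 : WT := (.node (nat_lit 33) (.leaf (nat_lit 65542) [nat_lit 104, nat_lit 182, nat_lit 130, nat_lit 156, nat_lit 156, nat_lit 52, nat_lit 130, nat_lit 52]) (.leaf (nat_lit 15366) [nat_lit 104, nat_lit 234, nat_lit 130, nat_lit 182, nat_lit 104, nat_lit 52, nat_lit 234, nat_lit 78, nat_lit 130]))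
noncomputable def r183 : WT := (.node (nat_lit 35) (.leaf (nat_lit 51204) [nat_lit 130, nat_lit 208, nat_lit 104, nat_lit 182, nat_lit 52, nat_lit 208, nat_lit 52, nat_lit 52]) (.node (nat_lit 36) (.leaf (nat_lit 64518) [nat_lit 52, nat_lit 208, nat_lit 104, nat_lit 156, nat_lit 208, nat_lit 52, nat_lit 104, nat_lit 208]) (.leaf (nat_lit 14344) [nat_lit 234, nat_lit 182, nat_lit 78, nat_lit 182, nat_lit 78, nat_lit 234, nat_lit 52, nat_lit 156, nat_lit 52])))
noncomputable def r184 : WT := (.node (nat_lit 38) (.leaf (nat_lit 65550) [nat_lit 156, nat_lit 52, nat_lit 130, nat_lit 52, nat_lit 156, nat_lit 104, nat_lit 182, nat_lit 130]) (.node (nat_lit 39) (.leaf (nat_lit 114698) [nat_lit 78, nat_lit 130, nat_lit 156, nat_lit 156, nat_lit 52, nat_lit 104, nat_lit 52, nat_lit 156, nat_lit 130]) (.leaf (nat_lit 52228) [nat_lit 156, nat_lit 130, nat_lit 156, nat_lit 104, nat_lit 52, nat_lit 156, nat_lit 52, nat_lit 52])))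
noncomputable def r185 : WT := (.node (nat_lit 41) (.leaf (nat_lit 72711) [nat_lit 130, nat_lit 182, nat_lit 52, nat_lit 182, nat_lit 78, nat_lit 104, nat_lit 156, nat_lit 130]) (.node (nat_lit 42) (.leaf (nat_lit 36876) [nat_lit 104, nat_lit 52, nat_lit 156, nat_lit 78, nat_lit 182, nat_lit 182, nat_lit 130]) (.leaf (nat_lit 66561) [nat_lit 156, nat_lit 104, nat_lit 156, nat_lit 130, nat_lit 182, nat_lit 78, nat_lit 104, nat_lit 78])))
noncomputable def r186 : WT := (.node (nat_lit 45) (.node (nat_lit 44) (.leaf (nat_lit 66563) [nat_lit 104, nat_lit 156, nat_lit 130, nat_lit 182, nat_lit 78, nat_lit 104, nat_lit 78, nat_lit 156]) (.leaf (nat_lit 53249) [nat_lit 52, nat_lit 156, nat_lit 52, nat_lit 156, nat_lit 52, nat_lit 156, nat_lit 78, nat_lit 78])) (.node (nat_lit 46) (.leaf (nat_lit 65552) [nat_lit 52, nat_lit 130, nat_lit 52, nat_lit 156, nat_lit 104, nat_lit 182, nat_lit 130, nat_lit 156]) (.leaf (nat_lit 67594) [nat_lit 156, nat_lit 52, nat_lit 182,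 nat_lit 52, nat_lit 130, nat_lit 156, nat_lit 104, nat_lit 78])))
noncomputable def r187 : WT := (.node (nat_lit 49) (.node (nat_lit 48) (.leaf (nat_lit 117763) [nat_lit 78, nat_lit 130, nat_lit 78, nat_lit 104, nat_lit 156, nat_lit 78, nat_lit 130, nat_lit 78, nat_lit 104]) (.leaf (nat_lit 72707) [nat_lit 130, nat_lit 156, nat_lit 130, nat_lit 182, nat_lit 52, nat_lit 182, nat_lit 78, nat_lit 104])) (.node (nat_lit 50) (.leaf (nat_lit 123915) [nat_lit 130, nat_lit 52, nat_lit 130, nat_lit 78, nat_lit 182, nat_lit 182, nat_lit 78, nat_lit 130, nat_lit 156]) (.node (nat_lit 51) (.leaf (nat_lit 70665) [nat_lit 104, nat_lit 156, nat_lit 104, nat_lit 78, nat_lit 156, nat_lit 104, nat_lit 182, nat_lit 52]) (.leaf (nat_lit 62480) [nat_lit 52, nat_lit 104, nat_lit 156, nat_lit 208, nat_lit 52, nat_lit 208, nat_lit 104, nat_lit 208]))))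
noncomputable def r188 : WT := (.node (nat_lit 55) (.node (nat_lit 53) (.leaf (nat_lit 70657) [nat_lit 104, nat_lit 182, nat_lit 52, nat_lit 156, nat_lit 104, nat_lit 156, nat_lit 104, nat_lit 78]) (.node (nat_lit 54) (.leaf (nat_lit 126985) [nat_lit 78, nat_lit 182, nat_lit 52, nat_lit 130, nat_lit 78, nat_lit 156, nat_lit 52, nat_lit 182, nat_lit 130]) (.leaf (nat_lit 67588) [nat_lit 104, nat_lit 78, nat_lit 156, nat_lit 156, nat_lit 52, nat_lit 182, nat_lit 52, nat_lit 130]))) (.node (nat_lit 56) (.leaf (nat_lit 70668) [nat_lit 130, nat_lit 182, nat_lit 52, nat_lit 130, nat_lit 182, nat_lit 130, nat_lit 182, nat_lit 78]) (.node (nat_lit 57) (.leaf (nat_lit 111621) [nat_lit 104, nat_lit 78, nat_lit 156, nat_lit 130, nat_lit 78, nat_lit 130, nat_lit 78, nat_lit 104, nat_lit 52]) (.leaf (nat_lit 119820) [nat_lit 156, nat_lit 52, nat_lit 156, nat_lit 52, nat_lit 104, nat_lit 78, nat_lit 104, nat_lit 156, nat_lit 104]))))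
noncomputable def r189 : WT := (.node (nat_lit 61) (.node (nat_lit 59) (.leaf (nat_lit 68613) [nat_lit 156, nat_lit 52, nat_lit 130, nat_lit 182, nat_lit 104, nat_lit 78, nat_lit 156, nat_lit 78]) (.node (nat_lit 60) (.leaf (nat_lit 43012) [nat_lit 208, nat_lit 182, nat_lit 208, nat_lit 78, nat_lit 208, nat_lit 52, nat_lit 208]) (.leaf (nat_lit 72710) [nat_lit 104, nat_lit 182, nat_lit 104, nat_lit 182, nat_lit 130, nat_lit 52, nat_lit 156, nat_lit 78]))) (.node (nat_lit 62) (.leaf (nat_lit 10246) [nat_lit 156, nat_lit 208, nat_lit 52, nat_lit 286, nat_lit 78, nat_lit 208]) (.node (nat_lit 63) (.leaf (nat_lit 123913) [nat_lit 156, nat_lit 130, nat_lit 52, nat_lit 130, nat_lit 78, nat_lit 182, nat_lit 182, nat_lit 78, nat_lit 130]) (.leaf (nat_lit 67585) [nat_lit 78, nat_lit 182, nat_lit 182, nat_lit 52, nat_lit 130, nat_lit 182, nat_lit 104, nat_lit 78]))))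
noncomputable def r190 : WT := (.node (nat_lit 68) (.node (nat_lit 66) (.node (nat_lit 65) (.leaf (nat_lit 68612) [nat_lit 104, nat_lit 78, nat_lit 182, nat_lit 182, nat_lit 52, nat_lit 182, nat_lit 52, nat_lit 130]) (.leaf (nat_lit 147462) [nat_lit 52, nat_lit 156, nat_lit 104, nat_lit 156, nat_lit 78, nat_lit 130, nat_lit 52, nat_lit 104, nat_lit 156])) (.node (nat_lit 67) (.leaf (nat_lit 69637) [nat_lit 104, nat_lit 78, nat_lit 130, nat_lit 156, nat_lit 104, nat_lit 78, nat_lit 104, nat_lit 104]) (.leaf (nat_lit 121866) [nat_lit 104, nat_lit 52, nat_lit 156, nat_lit 156, nat_lit 52, nat_lit 104, nat_lit 78, nat_lit 104, nat_lit 156]))) (.node (nat_lit 70) (.node (nat_lit 69) (.leaf (nat_lit 119826) [nat_lit 52, nat_lit 104, nat_lit 78, nat_lit 104, nat_lit 156, nat_lit 104, nat_lit 156, nat_lit 156, nat_lit 52]) (.leaf (nat_lit 67596) [nat_lit 52, nat_lit 182, nat_lit 52, nat_lit 130, nat_lit 156, nat_lit 104, nat_lit 78, nat_lit 156])) (.node (nat_lit 71)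 (.leaf (nat_lit 66566) [nat_lit 104, nat_lit 182, nat_lit 130, nat_lit 182, nat_lit 182, nat_lit 52, nat_lit 130, nat_lit 52]) (.leaf (nat_lit 81932) [nat_lit 156, nat_lit 208, nat_lit 104, nat_lit 208, nat_lit 130, nat_lit 156, nat_lit 208, nat_lit 156]))))
noncomputable def r191 : WT := (.node (nat_lit 76) (.node (nat_lit 74) (.node (nat_lit 73) (.leaf (nat_lit 145416) [nat_lit 78, nat_lit 156, nat_lit 104, nat_lit 182, nat_lit 104, nat_lit 52, nat_lit 104, nat_lit 156, nat_lit 78]) (.leaf (nat_lit 114704) [nat_lit 156, nat_lit 52, nat_lit 104, nat_lit 52, nat_lit 156, nat_lit 130, nat_lit 156, nat_lit 78, nat_lit 130])) (.node (nat_lit 75) (.leaf (nat_lit 114694) [nat_lit 130, nat_lit 156, nat_lit 78, nat_lit 130, nat_lit 156, nat_lit 156, nat_lit 52, nat_lit 104, nat_lit 52]) (.leaf (nat_lit 131085) [nat_lit 52, nat_lit 130, nat_lit 78, nat_lit 130, nat_lit 52, nat_lit 182, nat_lit 78, nat_lit 104, nat_lit 78]))) (.node (nat_lit 78) (.node (nat_lit 77) (.leaf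 (nat_lit 132112) [nat_lit 130, nat_lit 52, nat_lit 104, nat_lit 78, nat_lit 182, nat_lit 78, nat_lit 130, nat_lit 52, nat_lit 130]) (.leaf (nat_lit 62468) [nat_lit 208, nat_lit 52, nat_lit 208, nat_lit 104, nat_lit 208, nat_lit 156, nat_lit 52, nat_lit 104])) (.node (nat_lit 79) (.leaf (nat_lit 121874) [nat_lit 52, nat_lit 104, nat_lit 78, nat_lit 104, nat_lit 156, nat_lit 156, nat_lit 104, nat_lit 52, nat_lit 156]) (.node (nat_lit 80) (.leaf (nat_lit 125962) [nat_lit 52, nat_lit 130, nat_lit 156, nat_lit 104, nat_lit 52, nat_lit 104, nat_lit 78, nat_lit 130, nat_lit 52]) (.leaf (nat_lit 125968) [nat_lit 104, nat_lit 52, nat_lit 104, nat_lit 78, nat_lit 130, nat_lit 52, nat_lit 156, nat_lit 52, nat_lit 130])))))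
noncomputable def r192 : WT := (.node (nat_lit 86) (.node (nat_lit 83) (.node (nat_lit 82) (.leaf (nat_lit 50177) [nat_lit 78, nat_lit 156, nat_lit 156, nat_lit 130, nat_lit 156, nat_lit 104, nat_lit 78, nat_lit 78]) (.leaf (nat_lit 68615) [nat_lit 52, nat_lit 130, nat_lit 182, nat_lit 104, nat_lit 78, nat_lit 156, nat_lit 78, nat_lit 156])) (.node (nat_lit 84) (.leaf (nat_lit 94212) [nat_lit 130, nat_lit 156, nat_lit 52, nat_lit 182, nat_lit 52, nat_lit 104, nat_lit 182, nat_lit 52, nat_lit 52]) (.node (nat_lit 85) (.leaf (nat_lit 54285) [nat_lit 78, nat_lit 78, nat_lit 208, nat_lit 104, nat_lit 156, nat_lit 52, nat_lit 208, nat_lit 104]) (.leaf (nat_lit 37896) [nat_lit 156, nat_lit 78, nat_lit 208, nat_lit 52, nat_lit 156, nat_lit 208, nat_lit 156])))) (.node (nat_lit 89) (.node (nat_lit 87) (.leaf (nat_lit 112641) [nat_lit 104, nat_lit 78, nat_lit 130, nat_lit 78, nat_lit 156, nat_lit 104, nat_lit 78, nat_lit 130, nat_lit 78]) (.node (nat_lit 88) (.leaf (nat_lit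 146437) [nat_lit 104, nat_lit 156, nat_lit 78, nat_lit 130, nat_lit 182, nat_lit 130, nat_lit 78, nat_lit 156, nat_lit 52]) (.leaf (nat_lit 81930) [nat_lit 156, nat_lit 156, nat_lit 208, nat_lit 104, nat_lit 208, nat_lit 130, nat_lit 156, nat_lit 208]))) (.node (nat_lit 90) (.leaf (nat_lit 113676) [nat_lit 104, nat_lit 78, nat_lit 130, nat_lit 52, nat_lit 104, nat_lit 52, nat_lit 130, nat_lit 182, nat_lit 52]) (.node (nat_lit 91) (.leaf (nat_lit 126990) [nat_lit 78, nat_lit 182, nat_lit 52, nat_lit 104, nat_lit 78, nat_lit 156, nat_lit 52, nat_lit 182, nat_lit 104]) (.leaf (nat_lit 126982) [nat_lit 52, nat_lit 182, nat_lit 104, nat_lit 156, nat_lit 78, nat_lit 182, nat_lit 52, nat_lit 104, nat_lit 78])))))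
noncomputable def r193 : WT := (.node (nat_lit 99) (.node (nat_lit 95) (.node (nat_lit 93) (.leaf (nat_lit 111627) [nat_lit 130, nat_lit 78, nat_lit 130, nat_lit 78, nat_lit 104, nat_lit 52, nat_lit 156, nat_lit 104, nat_lit 78]) (.node (nat_lit 94) (.leaf (nat_lit 116742) [nat_lit 130, nat_lit 182, nat_lit 52, nat_lit 104, nat_lit 78, nat_lit 104, nat_lit 52, nat_lit 104, nat_lit 52]) (.leaf (nat_lit 116745) [nat_lit 104, nat_lit 182, nat_lit 78, nat_lit 130, nat_lit 78, nat_lit 130, nat_lit 52, nat_lit 130, nat_lit 78]))) (.node (nat_lit 97) (.node (nat_lit 96) (.leaf (nat_lit 119816) [nat_lit 104, nat_lit 156, nat_lit 156, nat_lit 52, nat_lit 156, nat_lit 52, nat_lit 104, nat_lit 78, nat_lit 104]) (.leaf (nat_lit 14340) [nat_lit 52, nat_lit 156, nat_lit 234, nat_lit 182, nat_lit 78, nat_lit 182, nat_lit 78, nat_lit 234, nat_lit 52])) (.node (nat_lit 98) (.leaf (nat_lit 72706) [nat_lit 78, nat_lit 156, nat_lit 104, nat_lit 182, nat_lit 104, nat_lit 182, nat_lit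 130, nat_lit 52]) (.leaf (nat_lit 49162) [nat_lit 156, nat_lit 52, nat_lit 182, nat_lit 52, nat_lit 52, nat_lit 130, nat_lit 182, nat_lit 104])))) (.node (nat_lit 103) (.node (nat_lit 101) (.node (nat_lit 100) (.leaf (nat_lit 37898) [nat_lit 78, nat_lit 208, nat_lit 52, nat_lit 156, nat_lit 208, nat_lit 156, nat_lit 156]) (.leaf (nat_lit 66567) [nat_lit 130, nat_lit 182, nat_lit 78, nat_lit 104, nat_lit 78, nat_lit 156, nat_lit 156, nat_lit 104])) (.node (nat_lit 102) (.leaf (nat_lit 12300) [nat_lit 52, nat_lit 208, nat_lit 130, nat_lit 234, nat_lit 104, nat_lit 208, nat_lit 130, nat_lit 234, nat_lit 130]) (.leaf (nat_lit 120839) [nat_lit 130, nat_lit 182, nat_lit 130, nat_lit 52, nat_lit 130, nat_lit 78, nat_lit 182, nat_lit 78, nat_lit 156]))) (.node (nat_lit 105) (.node (nat_lit 104) (.leaf (nat_lit 114706) [nat_lit 52, nat_lit 104, nat_lit 52, nat_lit 156, nat_lit 130, nat_lit 156, nat_lit 78, nat_lit 130, nat_lit 156]) (.leaf (nat_lit 74761) [nat_lit 156,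 nat_lit 52, nat_lit 182, nat_lit 78, nat_lit 130, nat_lit 182, nat_lit 130, nat_lit 130])) (.node (nat_lit 106) (.leaf (nat_lit 10248) [nat_lit 208, nat_lit 52, nat_lit 286, nat_lit 78, nat_lit 208, nat_lit 156]) (.leaf (nat_lit 71687) [nat_lit 52, nat_lit 130, nat_lit 208, nat_lit 104, nat_lit 78, nat_lit 208, nat_lit 182, nat_lit 208])))))
noncomputable def r194 : WT := (.node (nat_lit 111) (.leaf (nat_lit 121872) [nat_lit 156, nat_lit 52, nat_lit 104, nat_lit 78, nat_lit 104, nat_lit 156, nat_lit 156, nat_lit 104, nat_lit 52]) (.leaf (nat_lit 41990) [nat_lit 52, nat_lit 208, nat_lit 104, nat_lit 156, nat_lit 52, nat_lit 208, nat_lit 104]))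
noncomputable def r195 : WT := (.node (nat_lit 114) (.leaf (nat_lit 121864) [nat_lit 156, nat_lit 104, nat_lit 52, nat_lit 156, nat_lit 156, nat_lit 52, nat_lit 104, nat_lit 78, nat_lit 104]) (.leaf (nat_lit 120850) [nat_lit 52, nat_lit 104, nat_lit 78, nat_lit 104, nat_lit 156, nat_lit 104, nat_lit 182, nat_lit 182, nat_lit 52]))
noncomputable def r196 : WT := (.node (nat_lit 117) (.leaf (nat_lit 119822) [nat_lit 52, nat_lit 156, nat_lit 52, nat_lit 104, nat_lit 78, nat_lit 104, nat_lit 156, nat_lit 104, nat_lit 156]) (.leaf (nat_lit 122890) [nat_lit 104, nat_lit 52, nat_lit 182, nat_lit 182, nat_lit 52, nat_lit 104, nat_lit 78, nat_lit 104, nat_lit 156]))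
noncomputable def r197 : WT := (.node (nat_lit 120) (.leaf (nat_lit 118787) [nat_lit 78, nat_lit 130, nat_lit 52, nat_lit 182, nat_lit 130, nat_lit 52, nat_lit 130, nat_lit 78, nat_lit 104]) (.leaf (nat_lit 118792) [nat_lit 78, nat_lit 104, nat_lit 52, nat_lit 182, nat_lit 130, nat_lit 52, nat_lit 104, nat_lit 78, nat_lit 104]))
noncomputable def r198 : WT := (.node (nat_lit 122) (.leaf (nat_lit 123922) [nat_lit 52, nat_lit 104, nat_lit 78, nat_lit 104, nat_lit 182, nat_lit 182, nat_lit 104, nat_lit 52, nat_lit 156]) (.leaf (nat_lit 47104) [nat_lit 208, nat_lit 182, nat_lit 208, nat_lit 156, nat_lit 208, nat_lit 182, nat_lit 208]))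
noncomputable def r199 : WT := (.node (nat_lit 124) (.leaf (nat_lit 53261) [nat_lit 78, nat_lit 78, nat_lit 156, nat_lit 52, nat_lit 156, nat_lit 52, nat_lit 156, nat_lit 52]) (.leaf (nat_lit 146433) [nat_lit 52, nat_lit 156, nat_lit 104, nat_lit 156, nat_lit 78, nat_lit 130, nat_lit 182, nat_lit 130, nat_lit 78]))
noncomputable def r200 : WT := (.node (nat_lit 127) (.leaf (nat_lit 147470) [nat_lit 78, nat_lit 130, nat_lit 52, nat_lit 104, nat_lit 156, nat_lit 156, nat_lit 52, nat_lit 156, nat_lit 104]) (.leaf (nat_lit 84993) [nat_lit 104, nat_lit 182, nat_lit 130, nat_lit 182, nat_lit 182, nat_lit 52, nat_lit 130, nat_lit 78, nat_lit 78]))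
noncomputable def r201 : WT := (.node (nat_lit 129) (.leaf (nat_lit 134155) [nat_lit 156, nat_lit 52, nat_lit 130, nat_lit 78, nat_lit 182, nat_lit 78, nat_lit 104, nat_lit 156, nat_lit 104]) (.leaf (nat_lit 90116) [nat_lit 78, nat_lit 182, nat_lit 104, nat_lit 182, nat_lit 52, nat_lit 156, nat_lit 130, nat_lit 52, nat_lit 52]))
noncomputable def r202 : WT := (.node (nat_lit 131) (.leaf (nat_lit 94209) [nat_lit 130, nat_lit 78, nat_lit 156, nat_lit 78, nat_lit 182, nat_lit 104, nat_lit 182, nat_lit 78, nat_lit 78]) (.leaf (nat_lit 132109) [nat_lit 52, nat_lit 130, nat_lit 78, nat_lit 104, nat_lit 182, nat_lit 104, nat_lit 78, nat_lit 104, nat_lit 52]))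
noncomputable def r203 : WT := (.node (nat_lit 118) (.node (nat_lit 112) (.node (nat_lit 109) (.node (nat_lit 108) (.leaf (nat_lit 79876) [nat_lit 130, nat_lit 156, nat_lit 130, nat_lit 156, nat_lit 130, nat_lit 156, nat_lit 104, nat_lit 104]) (.leaf (nat_lit 71694) [nat_lit 208, nat_lit 52, nat_lit 130, nat_lit 208, nat_lit 104, nat_lit 78, nat_lit 182, nat_lit 208])) (.node (nat_lit 110) (.leaf (nat_lit 120837) [nat_lit 156, nat_lit 130, nat_lit 182, nat_lit 130, nat_lit 52, nat_lit 130, nat_lit 78, nat_lit 182, nat_lit 78]) r194)) (.node (nat_lit 115) (.node (nat_lit 113) (.leaf (nat_lit 115713) [nat_lit 156, nat_lit 104, nat_lit 52, nat_lit 182, nat_lit 104, nat_lit 182, nat_lit 78, nat_lit 130, nat_lit 78]) r195) (.node (nat_lit 116) (.leaf (nat_lit 146441) [nat_lit 78, nat_lit 130, nat_lit 182, nat_lit 130, nat_lit 78, nat_lit 156, nat_lit 52, nat_lit 156, nat_lit 104]) r196))) (.node (nat_lit 125) (.node (nat_lit 121) (.node (nat_lit 119) (.leaf (nat_lit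 122883) [nat_lit 78, nat_lit 130, nat_lit 182, nat_lit 182, nat_lit 130, nat_lit 52, nat_lit 130, nat_lit 78, nat_lit 156]) r197) (.node (nat_lit 123) r198 r199)) (.node (nat_lit 128) (.node (nat_lit 126) (.leaf (nat_lit 130055) [nat_lit 104, nat_lit 182, nat_lit 182, nat_lit 52, nat_lit 130, nat_lit 78, nat_lit 182, nat_lit 78, nat_lit 104]) r200) (.node (nat_lit 130) r201 r202))))
noncomputable def r204 : WT := (.node (nat_lit 133) (.leaf (nat_lit 144388) [nat_lit 52, nat_lit 156, nat_lit 104, nat_lit 52, nat_lit 156, nat_lit 78, nat_lit 182, nat_lit 52, nat_lit 104]) (.leaf (nat_lit 77835) [nat_lit 52, nat_lit 208, nat_lit 78, nat_lit 182, nat_lit 130, nat_lit 208, nat_lit 130, nat_lit 130]))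
noncomputable def r205 : WT := (.node (nat_lit 135) (.leaf (nat_lit 21513) [nat_lit 78, nat_lit 78, nat_lit 104, nat_lit 156, nat_lit 52, nat_lit 104]) (.leaf (nat_lit 76806) [nat_lit 104, nat_lit 104, nat_lit 208, nat_lit 104, nat_lit 182, nat_lit 52, nat_lit 208, nat_lit 78]))
noncomputable def r206 : WT := (.node (nat_lit 137) (.leaf (nat_lit 144385) [nat_lit 52, nat_lit 182, nat_lit 78, nat_lit 130, nat_lit 182, nat_lit 78, nat_lit 182, nat_lit 130, nat_lit 78]) (.leaf (nat_lit 147460) [nat_lit 156, nat_lit 52, nat_lit 156, nat_lit 104, nat_lit 156, nat_lit 78, nat_lit 130, nat_lit 52, nat_lit 104]))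
noncomputable def r207 : WT := (.node (nat_lit 139) (.leaf (nat_lit 148484) [nat_lit 208, nat_lit 52, nat_lit 156, nat_lit 208, nat_lit 182, nat_lit 104, nat_lit 156, nat_lit 52, nat_lit 104]) (.node (nat_lit 140) (.leaf (nat_lit 143364) [nat_lit 52, nat_lit 130, nat_lit 208, nat_lit 130, nat_lit 208, nat_lit 156, nat_lit 208, nat_lit 52, nat_lit 104]) (.leaf (nat_lit 140297) [nat_lit 104, nat_lit 156, nat_lit 130, nat_lit 130, nat_lit 78, nat_lit 156, nat_lit 104, nat_lit 182, nat_lit 52])))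
noncomputable def r208 : WT := (.node (nat_lit 142) (.leaf (nat_lit 126977) [nat_lit 52, nat_lit 182, nat_lit 130, nat_lit 156, nat_lit 78, nat_lit 182, nat_lit 52, nat_lit 130, nat_lit 78]) (.node (nat_lit 143) (.leaf (nat_lit 139267) [nat_lit 52, nat_lit 182, nat_lit 52, nat_lit 130, nat_lit 156, nat_lit 130, nat_lit 130, nat_lit 78, nat_lit 156]) (.leaf (nat_lit 137217) [nat_lit 78, nat_lit 156, nat_lit 156, nat_lit 52, nat_lit 130, nat_lit 182, nat_lit 130, nat_lit 130, nat_lit 78])))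
noncomputable def r209 : WT := (.node (nat_lit 145) (.leaf (nat_lit 134151) [nat_lit 104, nat_lit 156, nat_lit 156, nat_lit 52, nat_lit 130, nat_lit 78, nat_lit 182, nat_lit 78, nat_lit 104]) (.node (nat_lit 146) (.leaf (nat_lit 146436) [nat_lit 104, nat_lit 52, nat_lit 182, nat_lit 130, nat_lit 182, nat_lit 78, nat_lit 182, nat_lit 52, nat_lit 104]) (.leaf (nat_lit 133133) [nat_lit 52, nat_lit 130, nat_lit 78, nat_lit 182, nat_lit 130, nat_lit 156, nat_lit 52, nat_lit 156, nat_lit 52])))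
noncomputable def r210 : WT := (.node (nat_lit 148) (.leaf (nat_lit 148485) [nat_lit 208, nat_lit 182, nat_lit 78, nat_lit 208, nat_lit 182, nat_lit 130, nat_lit 78, nat_lit 182, nat_lit 130]) (.node (nat_lit 149) (.leaf (nat_lit 133129) [nat_lit 52, nat_lit 156, nat_lit 52, nat_lit 130, nat_lit 78, nat_lit 182, nat_lit 130, nat_lit 156, nat_lit 52]) (.leaf (nat_lit 133125) [nat_lit 52, nat_lit 156, nat_lit 52, nat_lit 156, nat_lit 52, nat_lit 130, nat_lit 78, nat_lit 182, nat_lit 130])))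
noncomputable def r211 : WT := (.node (nat_lit 152) (.node (nat_lit 151) (.leaf (nat_lit 144392) [nat_lit 104, nat_lit 52, nat_lit 156, nat_lit 78, nat_lit 182, nat_lit 52, nat_lit 104, nat_lit 156, nat_lit 52]) (.leaf (nat_lit 143376) [nat_lit 208, nat_lit 52, nat_lit 104, nat_lit 156, nat_lit 52, nat_lit 130, nat_lit 208, nat_lit 130, nat_lit 208])) (.node (nat_lit 153) (.leaf (nat_lit 83984) [nat_lit 130, nat_lit 52, nat_lit 52, nat_lit 104, nat_lit 52, nat_lit 104, nat_lit 78, nat_lit 156, nat_lit 104]) (.leaf (nat_lit 21507) [nat_lit 52, nat_lit 104, nat_lit 156, nat_lit 78, nat_lit 78, nat_lit 104])))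
noncomputable def r212 : WT := (.node (nat_lit 155) (.leaf (nat_lit 22536) [nat_lit 208, nat_lit 182, nat_lit 52, nat_lit 52, nat_lit 208, nat_lit 52]) (.node (nat_lit 156) (.leaf (nat_lit 23556) [nat_lit 52, nat_lit 130, nat_lit 130, nat_lit 156, nat_lit 52, nat_lit 104]) (.leaf (nat_lit 26627) [nat_lit 78, nat_lit 78, nat_lit 104, nat_lit 156, nat_lit 78, nat_lit 78, nat_lit 104])))
noncomputable def r213 : WT := (.node (nat_lit 158) (.leaf (nat_lit 29701) [nat_lit 130, nat_lit 78, nat_lit 182, nat_lit 130, nat_lit 78, nat_lit 156, nat_lit 156]) (.node (nat_lit 159) (.leaf (nat_lit 37890) [nat_lit 208, nat_lit 156, nat_lit 156, nat_lit 156, nat_lit 78, nat_lit 208, nat_lit 52]) (.leaf (nat_lit 53253) [nat_lit 52, nat_lit 156, nat_lit 52, nat_lit 156, nat_lit 78, nat_lit 78, nat_lit 156, nat_lit 52])))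
noncomputable def r214 : WT := (.node (nat_lit 161) (.leaf (nat_lit 61443) [nat_lit 104, nat_lit 78, nat_lit 130, nat_lit 156, nat_lit 130, nat_lit 130, nat_lit 78, nat_lit 130]) (.node (nat_lit 162) (.leaf (nat_lit 68609) [nat_lit 78, nat_lit 156, nat_lit 156, nat_lit 52, nat_lit 130, nat_lit 182, nat_lit 104, nat_lit 78]) (.leaf (nat_lit 74766) [nat_lit 104, nat_lit 52, nat_lit 156, nat_lit 78, nat_lit 182, nat_lit 182, nat_lit 104, nat_lit 104])))
noncomputable def r215 : WT := (.node (nat_lit 165) (.node (nat_lit 164) (.leaf (nat_lit 74763) [nat_lit 52, nat_lit 182, nat_lit 78, nat_lit 130, nat_lit 182, nat_lit 130, nat_lit 130, nat_lit 156]) (.leaf (nat_lit 81926) [nat_lit 208, nat_lit 156, nat_lit 156, nat_lit 156, nat_lit 208, nat_lit 104, nat_lit 208, nat_lit 130])) (.node (nat_lit 166) (.leaf (nat_lit 82953) [nat_lit 156, nat_lit 104, nat_lit 208, nat_lit 130, nat_lit 208, nat_lit 156, nat_lit 208, nat_lit 156]) (.leaf (nat_lit 82955) [nat_lit 104, nat_lit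 208, nat_lit 130, nat_lit 208, nat_lit 156, nat_lit 208, nat_lit 156, nat_lit 156])))
noncomputable def r216 : WT := (.node (nat_lit 168) (.leaf (nat_lit 124939) [nat_lit 130, nat_lit 52, nat_lit 130, nat_lit 78, nat_lit 156, nat_lit 156, nat_lit 78, nat_lit 130, nat_lit 156]) (.node (nat_lit 169) (.leaf (nat_lit 85006) [nat_lit 130, nat_lit 182, nat_lit 52, nat_lit 52, nat_lit 104, nat_lit 78, nat_lit 156, nat_lit 156, nat_lit 104]) (.leaf (nat_lit 87041) [nat_lit 78, nat_lit 156, nat_lit 104, nat_lit 182, nat_lit 104, nat_lit 182, nat_lit 130, nat_lit 78, nat_lit 78])))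
noncomputable def r217 : WT := (.node (nat_lit 172) (.node (nat_lit 171) (.leaf (nat_lit 88073) [nat_lit 130, nat_lit 78, nat_lit 104, nat_lit 78, nat_lit 78, nat_lit 104, nat_lit 78, nat_lit 156, nat_lit 104]) (.leaf (nat_lit 89094) [nat_lit 104, nat_lit 52, nat_lit 52, nat_lit 130, nat_lit 156, nat_lit 104, nat_lit 52, nat_lit 52, nat_lit 130])) (.node (nat_lit 173) (.leaf (nat_lit 91140) [nat_lit 104, nat_lit 156, nat_lit 130, nat_lit 78, nat_lit 104, nat_lit 52, nat_lit 104, nat_lit 52, nat_lit 52]) (.leaf (nat_lit 92164) [nat_lit 104, nat_lit 182, nat_lit 52, nat_lit 156, nat_lit 104, nat_lit 156, nat_lit 104, nat_lit 52, nat_lit 52])))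
noncomputable def r218 : WT := (.node (nat_lit 175) (.leaf (nat_lit 93191) [nat_lit 130, nat_lit 156, nat_lit 130, nat_lit 182, nat_lit 78, nat_lit 78, nat_lit 182, nat_lit 78, nat_lit 104]) (.node (nat_lit 176) (.leaf (nat_lit 95233) [nat_lit 104, nat_lit 156, nat_lit 104, nat_lit 78, nat_lit 156, nat_lit 104, nat_lit 182, nat_lit 78, nat_lit 78]) (.leaf (nat_lit 98308) [nat_lit 156, nat_lit 104, nat_lit 156, nat_lit 130, nat_lit 182, nat_lit 78, nat_lit 104, nat_lit 52, nat_lit 52])))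
noncomputable def r219 : WT := (.node (nat_lit 179) (.node (nat_lit 178) (.leaf (nat_lit 98310) [nat_lit 104, nat_lit 156, nat_lit 130, nat_lit 182, nat_lit 78, nat_lit 104, nat_lit 52, nat_lit 52, nat_lit 156]) (.leaf (nat_lit 104463) [nat_lit 78, nat_lit 78, nat_lit 208, nat_lit 104, nat_lit 156, nat_lit 208, nat_lit 52, nat_lit 104, nat_lit 208])) (.node (nat_lit 180) (.leaf (nat_lit 115722) [nat_lit 78, nat_lit 130, nat_lit 182, nat_lit 182, nat_lit 52, nat_lit 104, nat_lit 52, nat_lit 156, nat_lit 130]) (.leaf (nat_lit 122881) [nat_lit 156, nat_lit 78, nat_lit 130, nat_lit 182, nat_lit 182, nat_lit 130, nat_lit 52, nat_lit 130, nat_lit 78])))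
noncomputable def r220 : WT := (.node (nat_lit 154) (.node (nat_lit 141) (.node (nat_lit 136) (.node (nat_lit 134) r204 r205) (.node (nat_lit 138) r206 r207)) (.node (nat_lit 147) (.node (nat_lit 144) r208 r209) (.node (nat_lit 150) r210 r211))) (.node (nat_lit 167) (.node (nat_lit 160) (.node (nat_lit 157) r212 r213) (.node (nat_lit 163) r214 r215)) (.node (nat_lit 174) (.node (nat_lit 170) r216 r217) (.node (nat_lit 177) r218 r219))))
noncomputable def r221 : WT := (.node (nat_lit 52) (.node (nat_lit 37) (.node (nat_lit 32) (.node (nat_lit 30) r180 r181) (.node (nat_lit 34) r182 r183)) (.node (nat_lit 43) (.node (nat_lit 40) r184 r185) (.node (nat_lit 47) r186 r187))) (.node (nat_lit 81) (.node (nat_lit 64) (.node (nat_lit 58) r188 r189) (.node (nat_lit 72) r190 r191)) (.node (nat_lit 107) (.node (nat_lit 92) r192 r193) (.node (nat_lit 132) r203 r220))))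
noncomputable def w4 : WT := (.node (nat_lit 1) (.leaf (nat_lit 2048) [nat_lit 182]) (.node (nat_lit 6) (.node (nat_lit 2) (.leaf (nat_lit 18432) [nat_lit 156, nat_lit 156, nat_lit 156]) (.node (nat_lit 3) (.leaf (nat_lit 19460) [nat_lit 52, nat_lit 104, nat_lit 156, nat_lit 52, nat_lit 104]) r174)) (.node (nat_lit 15) (.node (nat_lit 10) r175 r176) (.node (nat_lit 28) r179 r221))))
noncomputable def r222 : WT := (.node (nat_lit 5) (.leaf (nat_lit 33796) [nat_lit 104, nat_lit 52, nat_lit 130, nat_lit 182, nat_lit 104, nat_lit 52, nat_lit 130]) (.leaf (nat_lit 29706) [nat_lit 182, nat_lit 182, nat_lit 52, nat_lit 104, nat_lit 156, nat_lit 52, nat_lit 104]))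
noncomputable def r223 : WT := (.node (nat_lit 7) (.leaf (nat_lit 35853) [nat_lit 78, nat_lit 130, nat_lit 182, nat_lit 104, nat_lit 182, nat_lit 182, nat_lit 52]) (.node (nat_lit 8) (.leaf (nat_lit 21508) [nat_lit 130, nat_lit 78, nat_lit 182, nat_lit 130, nat_lit 52, nat_lit 52]) (.leaf (nat_lit 35843) [nat_lit 104, nat_lit 182, nat_lit 182, nat_lit 52, nat_lit 182, nat_lit 78, nat_lit 130])))
noncomputable def r224 : WT := (.node (nat_lit 12) (.node (nat_lit 10) (.leaf (nat_lit 38926) [nat_lit 52, nat_lit 208, nat_lit 78, nat_lit 156, nat_lit 130, nat_lit 208, nat_lit 104]) (.node (nat_lit 11) (.leaf (nat_lit 34817) [nat_lit 78, nat_lit 182, nat_lit 78, nat_lit 182, nat_lit 78, nat_lit 182, nat_lit 78]) (.leaf (nat_lit 35847) [nat_lit 182, nat_lit 52, nat_lit 182, nat_lit 78, nat_lit 130, nat_lit 182, nat_lit 104]))) (.node (nat_lit 13) (.leaf (nat_lit 25610) [nat_lit 208, nat_lit 104, nat_lit 208, nat_lit 130, nat_lit 156, nat_lit 208]) (.node (nat_lit 14)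 (.leaf (nat_lit 36870) [nat_lit 182, nat_lit 130, nat_lit 156, nat_lit 104, nat_lit 52, nat_lit 156, nat_lit 78]) (.leaf (nat_lit 60427) [nat_lit 52, nat_lit 130, nat_lit 78, nat_lit 130, nat_lit 52, nat_lit 104, nat_lit 182, nat_lit 130]))))
noncomputable def r225 : WT := (.node (nat_lit 28) (.leaf (nat_lit 66574) [nat_lit 182, nat_lit 52, nat_lit 130, nat_lit 52, nat_lit 156, nat_lit 104, nat_lit 182, nat_lit 130]) (.leaf (nat_lit 64523) [nat_lit 208, nat_lit 130, nat_lit 78, nat_lit 208, nat_lit 182, nat_lit 130, nat_lit 208, nat_lit 78]))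
noncomputable def r226 : WT := (.node (nat_lit 20) (.node (nat_lit 17) (.node (nat_lit 16) (.leaf (nat_lit 37893) [nat_lit 182, nat_lit 182, nat_lit 208, nat_lit 182, nat_lit 78, nat_lit 208, nat_lit 52]) (.leaf (nat_lit 39942) [nat_lit 130, nat_lit 208, nat_lit 104, nat_lit 156, nat_lit 52, nat_lit 208, nat_lit 78])) (.node (nat_lit 18) (.leaf (nat_lit 45058) [nat_lit 104, nat_lit 182, nat_lit 104, nat_lit 182, nat_lit 104, nat_lit 182, nat_lit 104]) (.node (nat_lit 19) (.leaf (nat_lit 35849) [nat_lit 52, nat_lit 182, nat_lit 78, nat_lit 130, nat_lit 182, nat_lit 104, nat_lit 182]) (.leaf (nat_lit 65547) [nat_lit 78, nat_lit 104, nat_lit 78, nat_lit 182, nat_lit 182, nat_lit 104, nat_lit 156, nat_lit 130])))) (.node (nat_lit 24) (.node (nat_lit 22) (.node (nat_lit 21) (.leaf (nat_lit 63504) [nat_lit 52, nat_lit 104, nat_lit 182, nat_lit 78, nat_lit 156, nat_lit 130, nat_lit 156, nat_lit 52]) (.leaf (nat_lit 36877) [nat_lit 78, nat_lit 130, nat_lit 182, nat_lit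 104, nat_lit 156, nat_lit 156, nat_lit 52])) (.node (nat_lit 23) (.leaf (nat_lit 60423) [nat_lit 130, nat_lit 182, nat_lit 52, nat_lit 130, nat_lit 78, nat_lit 130, nat_lit 52, nat_lit 104]) (.leaf (nat_lit 36872) [nat_lit 130, nat_lit 156, nat_lit 104, nat_lit 52, nat_lit 156, nat_lit 78, nat_lit 182]))) (.node (nat_lit 26) (.node (nat_lit 25) (.leaf (nat_lit 65546) [nat_lit 130, nat_lit 156, nat_lit 156, nat_lit 52, nat_lit 130, nat_lit 52, nat_lit 156, nat_lit 104]) (.leaf (nat_lit 114697) [nat_lit 104, nat_lit 182, nat_lit 78, nat_lit 130, nat_lit 78, nat_lit 182, nat_lit 182, nat_lit 104, nat_lit 52])) (.node (nat_lit 27) (.leaf (nat_lit 72719) [nat_lit 78, nat_lit 104, nat_lit 156, nat_lit 130, nat_lit 156, nat_lit 130, nat_lit 182, nat_lit 52]) r225))))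
noncomputable def r227 : WT := (.node (nat_lit 30) (.leaf (nat_lit 54276) [nat_lit 130, nat_lit 208, nat_lit 78, nat_lit 182, nat_lit 130, nat_lit 208, nat_lit 52, nat_lit 52]) (.leaf (nat_lit 67600) [nat_lit 52, nat_lit 130, nat_lit 156, nat_lit 104, nat_lit 78, nat_lit 156, nat_lit 156, nat_lit 52]))
noncomputable def r228 : WT := (.node (nat_lit 32) (.leaf (nat_lit 61446) [nat_lit 104, nat_lit 52, nat_lit 130, nat_lit 182, nat_lit 104, nat_lit 52, nat_lit 104, nat_lit 104]) (.leaf (nat_lit 53252) [nat_lit 78, nat_lit 182, nat_lit 78, nat_lit 182, nat_lit 78, nat_lit 182, nat_lit 52, nat_lit 52]))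
noncomputable def r229 : WT := (.node (nat_lit 34) (.leaf (nat_lit 70672) [nat_lit 52, nat_lit 130, nat_lit 182, nat_lit 130, nat_lit 182, nat_lit 78, nat_lit 156, nat_lit 130]) (.node (nat_lit 35) (.leaf (nat_lit 36867) [nat_lit 104, nat_lit 156, nat_lit 156, nat_lit 52, nat_lit 182, nat_lit 78, nat_lit 130]) (.leaf (nat_lit 70664) [nat_lit 78, nat_lit 156, nat_lit 130, nat_lit 182, nat_lit 52, nat_lit 130, nat_lit 182, nat_lit 130])))
noncomputable def r230 : WT := (.node (nat_lit 37) (.leaf (nat_lit 65537) [nat_lit 182, nat_lit 104, nat_lit 156, nat_lit 130, nat_lit 182, nat_lit 78, nat_lit 104, nat_lit 78]) (.node (nat_lit 38) (.leaf (nat_lit 52225) [nat_lit 78, nat_lit 130, nat_lit 182, nat_lit 104, nat_lit 182, nat_lit 182, nat_lit 78, nat_lit 78]) (.leaf (nat_lit 70660) [nat_lit 130, nat_lit 182, nat_lit 78, nat_lit 156, nat_lit 130, nat_lit 182, nat_lit 52, nat_lit 130])))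
noncomputable def r231 : WT := (.node (nat_lit 40) (.leaf (nat_lit 62465) [nat_lit 208, nat_lit 130, nat_lit 208, nat_lit 78, nat_lit 208, nat_lit 182, nat_lit 130, nat_lit 78]) (.node (nat_lit 41) (.leaf (nat_lit 71690) [nat_lit 208, nat_lit 156, nat_lit 208, nat_lit 52, nat_lit 130, nat_lit 208, nat_lit 104, nat_lit 78]) (.leaf (nat_lit 65539) [nat_lit 104, nat_lit 156, nat_lit 130, nat_lit 182, nat_lit 78, nat_lit 104, nat_lit 78, nat_lit 182])))
noncomputable def r232 : WT := (.node (nat_lit 44) (.node (nat_lit 43) (.leaf (nat_lit 67597) [nat_lit 104, nat_lit 78, nat_lit 156, nat_lit 78, nat_lit 182, nat_lit 182, nat_lit 52, nat_lit 130]) (.leaf (nat_lit 63493) [nat_lit 104, nat_lit 182, nat_lit 52, nat_lit 156, nat_lit 130, nat_lit 78, nat_lit 156, nat_lit 78])) (.node (nat_lit 45) (.leaf (nat_lit 117766) [nat_lit 130, nat_lit 52, nat_lit 104, nat_lit 52, nat_lit 182, nat_lit 130, nat_lit 52, nat_lit 104, nat_lit 52]) (.leaf (nat_lit 119819) [nat_lit 130,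 nat_lit 52, nat_lit 130, nat_lit 78, nat_lit 182, nat_lit 78, nat_lit 182, nat_lit 182, nat_lit 130])))
noncomputable def r233 : WT := (.node (nat_lit 48) (.node (nat_lit 47) (.leaf (nat_lit 72715) [nat_lit 52, nat_lit 182, nat_lit 78, nat_lit 104, nat_lit 156, nat_lit 130, nat_lit 156, nat_lit 130]) (.leaf (nat_lit 70661) [nat_lit 52, nat_lit 156, nat_lit 104, nat_lit 156, nat_lit 104, nat_lit 78, nat_lit 156, nat_lit 104])) (.node (nat_lit 49) (.leaf (nat_lit 76811) [nat_lit 52, nat_lit 208, nat_lit 78, nat_lit 156, nat_lit 130, nat_lit 208, nat_lit 130, nat_lit 130]) (.leaf (nat_lit 68624) [nat_lit 52, nat_lit 130, nat_lit 156, nat_lit 104, nat_lit 78, nat_lit 182, nat_lit 182, nat_lit 52])))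
noncomputable def r234 : WT := (.node (nat_lit 52) (.node (nat_lit 51) (.leaf (nat_lit 63497) [nat_lit 52, nat_lit 156, nat_lit 130, nat_lit 78, nat_lit 156, nat_lit 78, nat_lit 182, nat_lit 104]) (.leaf (nat_lit 131077) [nat_lit 78, nat_lit 104, nat_lit 78, nat_lit 156, nat_lit 52, nat_lit 130, nat_lit 78, nat_lit 130, nat_lit 52])) (.node (nat_lit 53) (.leaf (nat_lit 14348) [nat_lit 78, nat_lit 182, nat_lit 78, nat_lit 234, nat_lit 52, nat_lit 156, nat_lit 52, nat_lit 156, nat_lit 234]) (.leaf (nat_lit 82950) [nat_lit 182, nat_lit 182, nat_lit 208, nat_lit 182, nat_lit 208, nat_lit 104, nat_lit 208, nat_lit 130])))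
noncomputable def r235 : WT := (.node (nat_lit 56) (.node (nat_lit 55) (.leaf (nat_lit 63492) [nat_lit 78, nat_lit 156, nat_lit 130, nat_lit 156, nat_lit 52, nat_lit 182, nat_lit 52, nat_lit 104]) (.leaf (nat_lit 118795) [nat_lit 130, nat_lit 52, nat_lit 130, nat_lit 78, nat_lit 104, nat_lit 156, nat_lit 78, nat_lit 130, nat_lit 52])) (.node (nat_lit 57) (.leaf (nat_lit 12295) [nat_lit 104, nat_lit 234, nat_lit 104, nat_lit 208, nat_lit 130, nat_lit 234, nat_lit 104, nat_lit 208, nat_lit 78]) (.node (nat_lit 58) (.leaf (nat_lit 68618) [nat_lit 182, nat_lit 52, nat_lit 182, nat_lit 52, nat_lit 130, nat_lit 156, nat_lit 104, nat_lit 78]) (.leaf (nat_lit 25607) [nat_lit 104, nat_lit 208, nat_lit 130, nat_lit 208, nat_lit 156, nat_lit 208]))))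
noncomputable def r236 : WT := (.node (nat_lit 62) (.node (nat_lit 60) (.leaf (nat_lit 118800) [nat_lit 130, nat_lit 52, nat_lit 104, nat_lit 78, nat_lit 104, nat_lit 156, nat_lit 78, nat_lit 104, nat_lit 52]) (.node (nat_lit 61) (.leaf (nat_lit 120844) [nat_lit 182, nat_lit 52, nat_lit 156, nat_lit 52, nat_lit 104, nat_lit 78, nat_lit 104, nat_lit 156, nat_lit 104]) (.leaf (nat_lit 81925) [nat_lit 182, nat_lit 208, nat_lit 182, nat_lit 104, nat_lit 208, nat_lit 130, nat_lit 208, nat_lit 182]))) (.node (nat_lit 63) (.leaf (nat_lit 122896) [nat_lit 182, nat_lit 52, nat_lit 104, nat_lit 78, nat_lit 104, nat_lit 156, nat_lit 156, nat_lit 104, nat_lit 52]) (.node (nat_lit 64) (.leaf (nat_lit 10247) [nat_lit 208, nat_lit 52, nat_lit 286, nat_lit 78, nat_lit 208, nat_lit 182]) (.leaf (nat_lit 125955) [nat_lit 104, nat_lit 78, nat_lit 182, nat_lit 78, nat_lit 104, nat_lit 52, nat_lit 130, nat_lit 78, nat_lit 130]))))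
noncomputable def r237 : WT := (.node (nat_lit 68) (.node (nat_lit 66) (.leaf (nat_lit 72714) [nat_lit 104, nat_lit 182, nat_lit 130, nat_lit 52, nat_lit 156, nat_lit 78, nat_lit 156, nat_lit 104]) (.node (nat_lit 67) (.leaf (nat_lit 114691) [nat_lit 104, nat_lit 52, nat_lit 182, nat_lit 104, nat_lit 182, nat_lit 78, nat_lit 130, nat_lit 78, nat_lit 182]) (.leaf (nat_lit 66576) [nat_lit 52, nat_lit 130, nat_lit 52, nat_lit 156, nat_lit 104, nat_lit 182, nat_lit 130, nat_lit 182]))) (.node (nat_lit 70) (.node (nat_lit 69) (.leaf (nat_lit 68621) [nat_lit 104, nat_lit 78, nat_lit 156, nat_lit 78, nat_lit 156, nat_lit 156, nat_lit 52, nat_lit 130]) (.leaf (nat_lit 123914) [nat_lit 104, nat_lit 52, nat_lit 156, nat_lit 156, nat_lit 52, nat_lit 104, nat_lit 78, nat_lit 104, nat_lit 182])) (.node (nat_lit 71) (.leaf (nat_lit 72718) [nat_lit 130, nat_lit 52, nat_lit 156, nat_lit 78, nat_lit 156, nat_lit 104, nat_lit 182, nat_lit 104]) (.leaf (nat_lit 123912) [nat_lit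 182, nat_lit 104, nat_lit 52, nat_lit 156, nat_lit 156, nat_lit 52, nat_lit 104, nat_lit 78, nat_lit 104]))))
noncomputable def r238 : WT := (.node (nat_lit 76) (.node (nat_lit 74) (.node (nat_lit 73) (.leaf (nat_lit 71683) [nat_lit 208, nat_lit 156, nat_lit 52, nat_lit 130, nat_lit 208, nat_lit 104, nat_lit 78, nat_lit 208]) (.leaf (nat_lit 126986) [nat_lit 104, nat_lit 156, nat_lit 78, nat_lit 182, nat_lit 52, nat_lit 104, nat_lit 78, nat_lit 156, nat_lit 52])) (.node (nat_lit 75) (.leaf (nat_lit 100356) [nat_lit 104, nat_lit 182, nat_lit 52, nat_lit 156, nat_lit 130, nat_lit 78, nat_lit 156, nat_lit 52, nat_lit 52]) (.leaf (nat_lit 67591) [nat_lit 52, nat_lit 130, nat_lit 182, nat_lit 104, nat_lit 78, nat_lit 156, nat_lit 78, nat_lit 182]))) (.node (nat_lit 78) (.node (nat_lit 77) (.leaf (nat_lit 115728) [nat_lit 182, nat_lit 52, nat_lit 104, nat_lit 52, nat_lit 156, nat_lit 130, nat_lit 156, nat_lit 78, nat_lit 130]) (.leaf (nat_lit 126994) [nat_lit 52, nat_lit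 104, nat_lit 78, nat_lit 156, nat_lit 52, nat_lit 182, nat_lit 104, nat_lit 156, nat_lit 78])) (.node (nat_lit 79) (.leaf (nat_lit 119813) [nat_lit 182, nat_lit 130, nat_lit 182, nat_lit 130, nat_lit 52, nat_lit 130, nat_lit 78, nat_lit 182, nat_lit 78]) (.leaf (nat_lit 126981) [nat_lit 130, nat_lit 156, nat_lit 78, nat_lit 182, nat_lit 52, nat_lit 130, nat_lit 78, nat_lit 156, nat_lit 52]))))
noncomputable def r239 : WT := (.node (nat_lit 85) (.node (nat_lit 82) (.node (nat_lit 81) (.leaf (nat_lit 121857) [nat_lit 182, nat_lit 78, nat_lit 130, nat_lit 182, nat_lit 182, nat_lit 130, nat_lit 52, nat_lit 130, nat_lit 78]) (.leaf (nat_lit 126989) [nat_lit 52, nat_lit 130, nat_lit 78, nat_lit 156, nat_lit 52, nat_lit 182, nat_lit 130, nat_lit 156, nat_lit 78])) (.node (nat_lit 83) (.leaf (nat_lit 147471) [nat_lit 130, nat_lit 78, nat_lit 104, nat_lit 52, nat_lit 182, nat_lit 130, nat_lit 182, nat_lit 78, nat_lit 182]) (.node (nat_lit 84) (.leaf (nat_lit 115721) [nat_lit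 104, nat_lit 182, nat_lit 78, nat_lit 130, nat_lit 78, nat_lit 156, nat_lit 156, nat_lit 104, nat_lit 52]) (.leaf (nat_lit 66571) [nat_lit 78, nat_lit 104, nat_lit 78, nat_lit 156, nat_lit 156, nat_lit 104, nat_lit 156, nat_lit 130])))) (.node (nat_lit 87) (.node (nat_lit 86) (.leaf (nat_lit 146446) [nat_lit 78, nat_lit 182, nat_lit 52, nat_lit 104, nat_lit 156, nat_lit 104, nat_lit 52, nat_lit 182, nat_lit 130]) (.leaf (nat_lit 146442) [nat_lit 130, nat_lit 182, nat_lit 78, nat_lit 182, nat_lit 52, nat_lit 104, nat_lit 156, nat_lit 104, nat_lit 52])) (.node (nat_lit 88) (.leaf (nat_lit 119815) [nat_lit 130, nat_lit 182, nat_lit 130, nat_lit 52, nat_lit 130, nat_lit 78, nat_lit 182, nat_lit 78, nat_lit 182]) (.node (nat_lit 89) (.leaf (nat_lit 121867) [nat_lit 130, nat_lit 52, nat_lit 130, nat_lit 78, nat_lit 182, nat_lit 182, nat_lit 78, nat_lit 130, nat_lit 182]) (.leaf (nat_lit 121865) [nat_lit 182, nat_lit 130, nat_lit 52, nat_lit 130, nat_lit 78, nat_lit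 182, nat_lit 182, nat_lit 78, nat_lit 130])))))
noncomputable def r240 : WT := (.node (nat_lit 96) (.node (nat_lit 93) (.node (nat_lit 91) (.leaf (nat_lit 62477) [nat_lit 130, nat_lit 78, nat_lit 182, nat_lit 208, nat_lit 130, nat_lit 208, nat_lit 78, nat_lit 208]) (.node (nat_lit 92) (.leaf (nat_lit 113672) [nat_lit 52, nat_lit 156, nat_lit 104, nat_lit 78, nat_lit 130, nat_lit 52, nat_lit 104, nat_lit 52, nat_lit 130]) (.leaf (nat_lit 116749) [nat_lit 78, nat_lit 130, nat_lit 78, nat_lit 130, nat_lit 52, nat_lit 130, nat_lit 78, nat_lit 156, nat_lit 104]))) (.node (nat_lit 94) (.leaf (nat_lit 119809) [nat_lit 78, nat_lit 182, nat_lit 182, nat_lit 130, nat_lit 182, nat_lit 130, nat_lit 52, nat_lit 130, nat_lit 78]) (.node (nat_lit 95) (.leaf (nat_lit 15374) [nat_lit 104, nat_lit 52, nat_lit 234, nat_lit 78, nat_lit 130, nat_lit 156, nat_lit 104, nat_lit 234, nat_lit 130]) (.leaf (nat_lit 132099) [nat_lit 104, nat_lit 78, nat_lit 104, nat_lit 52, nat_lit 156,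 nat_lit 52, nat_lit 130, nat_lit 78, nat_lit 104])))) (.node (nat_lit 99) (.node (nat_lit 97) (.leaf (nat_lit 79873) [nat_lit 104, nat_lit 182, nat_lit 104, nat_lit 182, nat_lit 104, nat_lit 182, nat_lit 130, nat_lit 130]) (.node (nat_lit 98) (.leaf (nat_lit 67589) [nat_lit 182, nat_lit 52, nat_lit 130, nat_lit 182, nat_lit 104, nat_lit 78, nat_lit 156, nat_lit 78]) (.leaf (nat_lit 29708) [nat_lit 182, nat_lit 52, nat_lit 104, nat_lit 156, nat_lit 52, nat_lit 104, nat_lit 182]))) (.node (nat_lit 101) (.node (nat_lit 100) (.leaf (nat_lit 14352) [nat_lit 78, nat_lit 234, nat_lit 52, nat_lit 156, nat_lit 52, nat_lit 156, nat_lit 234, nat_lit 182, nat_lit 78]) (.leaf (nat_lit 43016) [nat_lit 208, nat_lit 78, nat_lit 208, nat_lit 52, nat_lit 208, nat_lit 156, nat_lit 208])) (.node (nat_lit 102) (.leaf (nat_lit 120846) [nat_lit 52, nat_lit 156, nat_lit 52, nat_lit 104, nat_lit 78, nat_lit 104, nat_lit 156, nat_lit 104, nat_lit 182]) (.leaf (nat_lit 114701) [nat_lit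 78, nat_lit 130, nat_lit 78, nat_lit 182, nat_lit 182, nat_lit 104, nat_lit 52, nat_lit 182, nat_lit 104])))))
noncomputable def r241 : WT := (.node (nat_lit 113) (.leaf (nat_lit 130060) [nat_lit 130, nat_lit 52, nat_lit 156, nat_lit 52, nat_lit 104, nat_lit 78, nat_lit 156, nat_lit 156, nat_lit 130]) (.leaf (nat_lit 146447) [nat_lit 130, nat_lit 78, nat_lit 156, nat_lit 52, nat_lit 156, nat_lit 104, nat_lit 156, nat_lit 78, nat_lit 130]))
noncomputable def r242 : WT := (.node (nat_lit 115) (.leaf (nat_lit 147461) [nat_lit 130, nat_lit 182, nat_lit 78, nat_lit 182, nat_lit 182, nat_lit 130, nat_lit 78, nat_lit 104, nat_lit 52]) (.leaf (nat_lit 129037) [nat_lit 52, nat_lit 130, nat_lit 78, nat_lit 130, nat_lit 52, nat_lit 104, nat_lit 182, nat_lit 104, nat_lit 104]))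
noncomputable def r243 : WT := (.node (nat_lit 117) (.leaf (nat_lit 122889) [nat_lit 182, nat_lit 130, nat_lit 52, nat_lit 130, nat_lit 78, nat_lit 156, nat_lit 156, nat_lit 78, nat_lit 130]) (.leaf (nat_lit 146450) [nat_lit 52, nat_lit 104, nat_lit 156, nat_lit 104, nat_lit 52, nat_lit 182, nat_lit 130, nat_lit 182, nat_lit 78]))
noncomputable def r244 : WT := (.node (nat_lit 120) (.leaf (nat_lit 145424) [nat_lit 104, nat_lit 52, nat_lit 104, nat_lit 156, nat_lit 78, nat_lit 156, nat_lit 78, nat_lit 156, nat_lit 104]) (.leaf (nat_lit 144399) [nat_lit 130, nat_lit 78, nat_lit 156, nat_lit 52, nat_lit 182, nat_lit 78, nat_lit 130, nat_lit 182, nat_lit 78]))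
noncomputable def r245 : WT := (.node (nat_lit 122) (.leaf (nat_lit 124946) [nat_lit 52, nat_lit 104, nat_lit 78, nat_lit 104, nat_lit 182, nat_lit 182, nat_lit 104, nat_lit 52, nat_lit 182]) (.leaf (nat_lit 144389) [nat_lit 78, nat_lit 130, nat_lit 182, nat_lit 78, nat_lit 182, nat_lit 130, nat_lit 78, nat_lit 156, nat_lit 52]))
noncomputable def r246 : WT := (.node (nat_lit 124) (.leaf (nat_lit 140294) [nat_lit 130, nat_lit 182, nat_lit 78, nat_lit 156, nat_lit 130, nat_lit 182, nat_lit 52, nat_lit 104, nat_lit 104]) (.leaf (nat_lit 133121) [nat_lit 130, nat_lit 156, nat_lit 52, nat_lit 156, nat_lit 52, nat_lit 156, nat_lit 52, nat_lit 130, nat_lit 78]))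
noncomputable def r247 : WT := (.node (nat_lit 111) (.node (nat_lit 107) (.node (nat_lit 105) (.node (nat_lit 104) (.leaf (nat_lit 22533) [nat_lit 78, nat_lit 208, nat_lit 78, nat_lit 78, nat_lit 156, nat_lit 208]) (.leaf (nat_lit 69644) [nat_lit 130, nat_lit 130, nat_lit 52, nat_lit 130, nat_lit 182, nat_lit 104, nat_lit 52, nat_lit 130])) (.node (nat_lit 106) (.leaf (nat_lit 111624) [nat_lit 52, nat_lit 130, nat_lit 182, nat_lit 78, nat_lit 130, nat_lit 52, nat_lit 104, nat_lit 52, nat_lit 104]) (.leaf (nat_lit 113671) [nat_lit 78, nat_lit 156, nat_lit 104, nat_lit 78, nat_lit 130, nat_lit 78, nat_lit 104, nat_lit 52, nat_lit 130]))) (.node (nat_lit 109) (.node (nat_lit 108) (.leaf (nat_lit 87049) [nat_lit 104, nat_lit 182, nat_lit 130, nat_lit 78, nat_lit 78, nat_lit 156, nat_lit 78, nat_lit 156, nat_lit 104]) (.leaf (nat_lit 37895) [nat_lit 182, nat_lit 208, nat_lit 182, nat_lit 78, nat_lit 208, nat_lit 52, nat_lit 182])) (.node (nat_lit 110) (.leaf (nat_lit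 112648) [nat_lit 52, nat_lit 104, nat_lit 52, nat_lit 130, nat_lit 182, nat_lit 52, nat_lit 104, nat_lit 52, nat_lit 130]) (.leaf (nat_lit 75781) [nat_lit 104, nat_lit 156, nat_lit 156, nat_lit 52, nat_lit 182, nat_lit 78, nat_lit 104, nat_lit 104])))) (.node (nat_lit 118) (.node (nat_lit 114) (.node (nat_lit 112) (.leaf (nat_lit 122898) [nat_lit 52, nat_lit 104, nat_lit 78, nat_lit 104, nat_lit 156, nat_lit 156, nat_lit 104, nat_lit 52, nat_lit 182]) r241) (.node (nat_lit 116) r242 r243)) (.node (nat_lit 121) (.node (nat_lit 119) (.leaf (nat_lit 145423) [nat_lit 130, nat_lit 78, nat_lit 130, nat_lit 156, nat_lit 130, nat_lit 182, nat_lit 52, nat_lit 182, nat_lit 52]) r244) (.node (nat_lit 123) r245 r246))))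
noncomputable def r248 : WT := (.node (nat_lit 127) (.leaf (nat_lit 115730) [nat_lit 52, nat_lit 104, nat_lit 52, nat_lit 156, nat_lit 130, nat_lit 156, nat_lit 78, nat_lit 130, nat_lit 182]) (.leaf (nat_lit 41985) [nat_lit 130, nat_lit 208, nat_lit 78, nat_lit 182, nat_lit 130, nat_lit 208, nat_lit 78]))
noncomputable def r249 : WT := (.node (nat_lit 129) (.leaf (nat_lit 50182) [nat_lit 104, nat_lit 182, nat_lit 182, nat_lit 52, nat_lit 182, nat_lit 52, nat_lit 52, nat_lit 130]) (.leaf (nat_lit 64515) [nat_lit 130, nat_lit 208, nat_lit 78, nat_lit 182, nat_lit 208, nat_lit 130, nat_lit 78, nat_lit 208]))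
noncomputable def r250 : WT := (.node (nat_lit 131) (.leaf (nat_lit 68620) [nat_lit 52, nat_lit 182, nat_lit 52, nat_lit 130, nat_lit 156, nat_lit 104, nat_lit 78, nat_lit 182]) (.leaf (nat_lit 81923) [nat_lit 182, nat_lit 182, nat_lit 208, nat_lit 182, nat_lit 104, nat_lit 208, nat_lit 130, nat_lit 208]))
noncomputable def r251 : WT := (.node (nat_lit 133) (.leaf (nat_lit 93185) [nat_lit 78, nat_lit 104, nat_lit 156, nat_lit 130, nat_lit 156, nat_lit 130, nat_lit 182, nat_lit 78, nat_lit 78]) (.leaf (nat_lit 100353) [nat_lit 52, nat_lit 104, nat_lit 182, nat_lit 78, nat_lit 156, nat_lit 130, nat_lit 156, nat_lit 78, nat_lit 78]))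
noncomputable def r252 : WT := (.node (nat_lit 136) (.node (nat_lit 135) (.leaf (nat_lit 48139) [nat_lit 104, nat_lit 78, nat_lit 78, nat_lit 130, nat_lit 182, nat_lit 104, nat_lit 52, nat_lit 130]) (.leaf (nat_lit 134152) [nat_lit 130, nat_lit 182, nat_lit 130, nat_lit 52, nat_lit 156, nat_lit 52, nat_lit 104, nat_lit 78, nat_lit 182])) (.node (nat_lit 137) (.leaf (nat_lit 135177) [nat_lit 78, nat_lit 208, nat_lit 52, nat_lit 130, nat_lit 78, nat_lit 182, nat_lit 130, nat_lit 78, nat_lit 208]) (.leaf (nat_lit 137229) [nat_lit 130, nat_lit 130, nat_lit 78, nat_lit 156, nat_lit 78, nat_lit 156, nat_lit 156, nat_lit 52, nat_lit 130])))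
noncomputable def r253 : WT := (.node (nat_lit 139) (.leaf (nat_lit 139270) [nat_lit 104, nat_lit 78, nat_lit 156, nat_lit 78, nat_lit 182, nat_lit 182, nat_lit 52, nat_lit 104, nat_lit 104]) (.node (nat_lit 140) (.leaf (nat_lit 53264) [nat_lit 52, nat_lit 52, nat_lit 182, nat_lit 78, nat_lit 182, nat_lit 78, nat_lit 182, nat_lit 78]) (.leaf (nat_lit 51213) [nat_lit 78, nat_lit 78, nat_lit 208, nat_lit 78, nat_lit 156, nat_lit 130, nat_lit 208, nat_lit 104])))
noncomputable def r254 : WT := (.node (nat_lit 143) (.node (nat_lit 142) (.leaf (nat_lit 120843) [nat_lit 130, nat_lit 52, nat_lit 130, nat_lit 78, nat_lit 182, nat_lit 78, nat_lit 156, nat_lit 156, nat_lit 130]) (.leaf (nat_lit 49158) [nat_lit 104, nat_lit 156, nat_lit 156, nat_lit 52, nat_lit 182, nat_lit 52, nat_lit 52, nat_lit 130])) (.node (nat_lit 144) (.leaf (nat_lit 145415) [nat_lit 52, nat_lit 182, nat_lit 52, nat_lit 182, nat_lit 130, nat_lit 78, nat_lit 130, nat_lit 156, nat_lit 130]) (.leaf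 (nat_lit 134150) [nat_lit 182, nat_lit 130, nat_lit 182, nat_lit 130, nat_lit 52, nat_lit 156, nat_lit 52, nat_lit 104, nat_lit 78])))
noncomputable def r255 : WT := (.node (nat_lit 146) (.leaf (nat_lit 44042) [nat_lit 104, nat_lit 208, nat_lit 104, nat_lit 104, nat_lit 208, nat_lit 156, nat_lit 208]) (.node (nat_lit 147) (.leaf (nat_lit 116746) [nat_lit 52, nat_lit 104, nat_lit 78, nat_lit 104, nat_lit 52, nat_lit 104, nat_lit 52, nat_lit 156, nat_lit 130]) (.leaf (nat_lit 37897) [nat_lit 208, nat_lit 182, nat_lit 78, nat_lit 208, nat_lit 52, nat_lit 182, nat_lit 182])))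
noncomputable def r256 : WT := (.node (nat_lit 150) (.node (nat_lit 149) (.leaf (nat_lit 29707) [nat_lit 130, nat_lit 78, nat_lit 156, nat_lit 156, nat_lit 156, nat_lit 130, nat_lit 78]) (.leaf (nat_lit 29710) [nat_lit 52, nat_lit 104, nat_lit 156, nat_lit 52, nat_lit 104, nat_lit 182, nat_lit 182])) (.node (nat_lit 151) (.leaf (nat_lit 147465) [nat_lit 78, nat_lit 182, nat_lit 182, nat_lit 130, nat_lit 78, nat_lit 104, nat_lit 52, nat_lit 182, nat_lit 130]) (.leaf (nat_lit 147469) [nat_lit 182, nat_lit 130, nat_lit 78, nat_lit 104, nat_lit 52, nat_lit 182, nat_lit 130, nat_lit 182, nat_lit 78])))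
noncomputable def r257 : WT := (.node (nat_lit 153) (.leaf (nat_lit 23561) [nat_lit 130, nat_lit 78, nat_lit 182, nat_lit 104, nat_lit 104, nat_lit 78]) (.node (nat_lit 154) (.leaf (nat_lit 21514) [nat_lit 130, nat_lit 52, nat_lit 52, nat_lit 182, nat_lit 130, nat_lit 78]) (.leaf (nat_lit 106500) [nat_lit 208, nat_lit 156, nat_lit 208, nat_lit 52, nat_lit 130, nat_lit 208, nat_lit 104, nat_lit 52, nat_lit 52])))
noncomputable def r258 : WT := (.node (nat_lit 157) (.node (nat_lit 156) (.leaf (nat_lit 97293) [nat_lit 182, nat_lit 78, nat_lit 78, nat_lit 182, nat_lit 52, nat_lit 130, nat_lit 156, nat_lit 104, nat_lit 78]) (.leaf (nat_lit 95240) [nat_lit 52, nat_lit 130, nat_lit 182, nat_lit 130, nat_lit 182, nat_lit 52, nat_lit 52, nat_lit 156, nat_lit 130])) (.node (nat_lit 158) (.leaf (nat_lit 94220) [nat_lit 52, nat_lit 104, nat_lit 182, nat_lit 52, nat_lit 52, nat_lit 156, nat_lit 130, nat_lit 156, nat_lit 52]) (.leaf (nat_lit 103428) [nat_lit 182, nat_lit 52,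 nat_lit 130, nat_lit 182, nat_lit 104, nat_lit 78, nat_lit 156, nat_lit 52, nat_lit 52])))
noncomputable def r259 : WT := (.node (nat_lit 160) (.leaf (nat_lit 123905) [nat_lit 182, nat_lit 78, nat_lit 130, nat_lit 156, nat_lit 156, nat_lit 130, nat_lit 52, nat_lit 130, nat_lit 78]) (.node (nat_lit 161) (.leaf (nat_lit 90124) [nat_lit 52, nat_lit 156, nat_lit 130, nat_lit 52, nat_lit 52, nat_lit 156, nat_lit 78, nat_lit 182, nat_lit 104]) (.leaf (nat_lit 87053) [nat_lit 130, nat_lit 78, nat_lit 78, nat_lit 156, nat_lit 78, nat_lit 156, nat_lit 104, nat_lit 182, nat_lit 104])))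
noncomputable def r260 : WT := (.node (nat_lit 164) (.node (nat_lit 163) (.leaf (nat_lit 125961) [nat_lit 78, nat_lit 104, nat_lit 52, nat_lit 130, nat_lit 78, nat_lit 130, nat_lit 182, nat_lit 104, nat_lit 78]) (.leaf (nat_lit 83971) [nat_lit 130, nat_lit 182, nat_lit 52, nat_lit 130, nat_lit 78, nat_lit 130, nat_lit 78, nat_lit 78, nat_lit 104])) (.node (nat_lit 165) (.leaf (nat_lit 56332) [nat_lit 208, nat_lit 182, nat_lit 52, nat_lit 52, nat_lit 208, nat_lit 52, nat_lit 182, nat_lit 182]) (.leaf (nat_lit 79877) [nat_lit 104, nat_lit 182, nat_lit 104, nat_lit 182, nat_lit 130, nat_lit 130, nat_lit 182, nat_lit 104])))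
noncomputable def r261 : WT := (.node (nat_lit 167) (.leaf (nat_lit 73733) [nat_lit 104, nat_lit 182, nat_lit 182, nat_lit 52, nat_lit 182, nat_lit 78, nat_lit 104, nat_lit 104]) (.node (nat_lit 168) (.leaf (nat_lit 69636) [nat_lit 104, nat_lit 52, nat_lit 130, nat_lit 182, nat_lit 130, nat_lit 130, nat_lit 52, nat_lit 130]) (.leaf (nat_lit 121859) [nat_lit 78, nat_lit 130, nat_lit 182, nat_lit 182, nat_lit 130, nat_lit 52, nat_lit 130, nat_lit 78, nat_lit 182])))
noncomputable def r262 : WT := (.node (nat_lit 171) (.node (nat_lit 170) (.leaf (nat_lit 66570) [nat_lit 130, nat_lit 182, nat_lit 182, nat_lit 52, nat_lit 130, nat_lit 52, nat_lit 156, nat_lit 104]) (.leaf (nat_lit 111630) [nat_lit 78, nat_lit 130, nat_lit 52, nat_lit 104, nat_lit 52, nat_lit 104, nat_lit 182, nat_lit 52, nat_lit 130])) (.node (nat_lit 172) (.leaf (nat_lit 133130) [nat_lit 78, nat_lit 182, nat_lit 104, nat_lit 156, nat_lit 52, nat_lit 104, nat_lit 78, nat_lit 182, nat_lit 78]) (.leaf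 (nat_lit 133134) [nat_lit 104, nat_lit 156, nat_lit 52, nat_lit 104, nat_lit 78, nat_lit 182, nat_lit 78, nat_lit 182, nat_lit 78])))
noncomputable def r263 : WT := (.node (nat_lit 145) (.node (nat_lit 132) (.node (nat_lit 128) (.node (nat_lit 126) (.leaf (nat_lit 148495) [nat_lit 130, nat_lit 78, nat_lit 182, nat_lit 130, nat_lit 156, nat_lit 208, nat_lit 182, nat_lit 78, nat_lit 208]) r248) (.node (nat_lit 130) r249 r250)) (.node (nat_lit 138) (.node (nat_lit 134) r251 r252) (.node (nat_lit 141) r253 r254))) (.node (nat_lit 159) (.node (nat_lit 152) (.node (nat_lit 148) r255 r256) (.node (nat_lit 155) r257 r258)) (.node (nat_lit 166) (.node (nat_lit 162) r259 r260) (.node (nat_lit 169) r261 r262))))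
noncomputable def r264 : WT := (.node (nat_lit 54) (.node (nat_lit 39) (.node (nat_lit 33) (.node (nat_lit 31) r227 r228) (.node (nat_lit 36) r229 r230)) (.node (nat_lit 46) (.node (nat_lit 42) r231 r232) (.node (nat_lit 50) r233 r234))) (.node (nat_lit 80) (.node (nat_lit 65) (.node (nat_lit 59) r235 r236) (.node (nat_lit 72) r237 r238)) (.node (nat_lit 103) (.node (nat_lit 90) r239 r240) (.node (nat_lit 125) r247 r263))))
noncomputable def w5 : WT := (.node (nat_lit 1) (.leaf (nat_lit 2050) [nat_lit 156]) (.node (nat_lit 6) (.node (nat_lit 3) (.node (nat_lit 2) (.leaf (nat_lit 18433) [nat_lit 182, nat_lit 182, nat_lit 182]) (.leaf (nat_lit 19457) [nat_lit 130, nat_lit 78, nat_lit 182, nat_lit 130, nat_lit 78])) (.node (nat_lit 4) (.leaf (nat_lit 20486) [nat_lit 78, nat_lit 208, nat_lit 52, nat_lit 156, nat_lit 208]) r222)) (.node (nat_lit 15) (.node (nat_lit 9) r223 r224) (.node (nat_lit 29) r226 r264))))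
noncomputable def r265 : WT := (.node (nat_lit 6) (.leaf (nat_lit 24584) [nat_lit 78, nat_lit 208, nat_lit 52, nat_lit 104, nat_lit 208, nat_lit 130]) (.leaf (nat_lit 24580) [nat_lit 130, nat_lit 208, nat_lit 78, nat_lit 208, nat_lit 52, nat_lit 104]))
noncomputable def r266 : WT := (.node (nat_lit 8) (.leaf (nat_lit 24581) [nat_lit 104, nat_lit 208, nat_lit 130, nat_lit 78, nat_lit 208, nat_lit 52]) (.node (nat_lit 9) (.leaf (nat_lit 11266) [nat_lit 234, nat_lit 208, nat_lit 234]) (.leaf (nat_lit 24588) [nat_lit 52, nat_lit 104, nat_lit 208, nat_lit 130, nat_lit 208, nat_lit 78])))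
noncomputable def r267 : WT := (.node (nat_lit 13) (.node (nat_lit 11) (.leaf (nat_lit 22532) [nat_lit 52, nat_lit 156, nat_lit 208, nat_lit 182, nat_lit 52, nat_lit 52]) (.node (nat_lit 12) (.leaf (nat_lit 25605) [nat_lit 182, nat_lit 104, nat_lit 208, nat_lit 130, nat_lit 208, nat_lit 156]) (.leaf (nat_lit 25608) [nat_lit 182, nat_lit 208, nat_lit 104, nat_lit 208, nat_lit 130, nat_lit 156]))) (.node (nat_lit 15) (.node (nat_lit 14) (.leaf (nat_lit 38914) [nat_lit 78, nat_lit 156, nat_lit 130, nat_lit 208, nat_lit 104, nat_lit 182, nat_lit 52]) (.leaf (nat_lit 38922) [nat_lit 104, nat_lit 182, nat_lit 52, nat_lit 208, nat_lit 78, nat_lit 156, nat_lit 130])) (.node (nat_lit 16) (.leaf (nat_lit 37899) [nat_lit 182, nat_lit 78, nat_lit 208, nat_lit 52, nat_lit 182, nat_lit 182, nat_lit 182]) (.leaf (nat_lit 39946) [nat_lit 104, nat_lit 156, nat_lit 52, nat_lit 208, nat_lit 78, nat_lit 182, nat_lit 130]))))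
noncomputable def r268 : WT := (.node (nat_lit 22) (.leaf (nat_lit 27652) [nat_lit 52, nat_lit 104, nat_lit 208, nat_lit 130, nat_lit 208, nat_lit 52, nat_lit 52]) (.leaf (nat_lit 64525) [nat_lit 130, nat_lit 78, nat_lit 208, nat_lit 182, nat_lit 130, nat_lit 208, nat_lit 78, nat_lit 182]))
noncomputable def r269 : WT := (.node (nat_lit 24) (.leaf (nat_lit 64519) [nat_lit 78, nat_lit 182, nat_lit 208, nat_lit 130, nat_lit 78, nat_lit 208, nat_lit 182, nat_lit 130]) (.leaf (nat_lit 43018) [nat_lit 78, nat_lit 208, nat_lit 52, nat_lit 208, nat_lit 156, nat_lit 208, nat_lit 182]))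
noncomputable def r270 : WT := (.node (nat_lit 26) (.leaf (nat_lit 12292) [nat_lit 130, nat_lit 234, nat_lit 130, nat_lit 156, nat_lit 52, nat_lit 208, nat_lit 130, nat_lit 234, nat_lit 104]) (.leaf (nat_lit 40962) [nat_lit 78, nat_lit 208, nat_lit 52, nat_lit 208, nat_lit 78, nat_lit 208, nat_lit 52]))
noncomputable def r271 : WT := (.node (nat_lit 28) (.leaf (nat_lit 25602) [nat_lit 130, nat_lit 156, nat_lit 208, nat_lit 182, nat_lit 208, nat_lit 104]) (.node (nat_lit 29) (.leaf (nat_lit 76812) [nat_lit 104, nat_lit 182, nat_lit 52, nat_lit 208, nat_lit 78, nat_lit 156, nat_lit 104, nat_lit 104]) (.leaf (nat_lit 25611) [nat_lit 130, nat_lit 208, nat_lit 156, nat_lit 208, nat_lit 182, nat_lit 104])))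
noncomputable def r272 : WT := (.node (nat_lit 31) (.leaf (nat_lit 27649) [nat_lit 104, nat_lit 208, nat_lit 130, nat_lit 78, nat_lit 208, nat_lit 78, nat_lit 78]) (.node (nat_lit 32) (.leaf (nat_lit 71684) [nat_lit 104, nat_lit 78, nat_lit 182, nat_lit 208, nat_lit 156, nat_lit 208, nat_lit 52, nat_lit 130]) (.leaf (nat_lit 9222) [nat_lit 78, nat_lit 104, nat_lit 260, nat_lit 130, nat_lit 52])))
noncomputable def r273 : WT := (.node (nat_lit 34) (.leaf (nat_lit 30730) [nat_lit 78, nat_lit 208, nat_lit 52, nat_lit 104, nat_lit 208, nat_lit 104, nat_lit 104]) (.node (nat_lit 35) (.leaf (nat_lit 32774) [nat_lit 130, nat_lit 208, nat_lit 78, nat_lit 208, nat_lit 52, nat_lit 130, nat_lit 130]) (.leaf (nat_lit 62470) [nat_lit 52, nat_lit 208, nat_lit 104, nat_lit 208, nat_lit 156, nat_lit 52, nat_lit 104, nat_lit 156])))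
noncomputable def r274 : WT := (.node (nat_lit 38) (.node (nat_lit 37) (.leaf (nat_lit 71692) [nat_lit 156, nat_lit 208, nat_lit 52, nat_lit 130, nat_lit 208, nat_lit 104, nat_lit 78, nat_lit 182]) (.leaf (nat_lit 25601) [nat_lit 156, nat_lit 208, nat_lit 182, nat_lit 104, nat_lit 208, nat_lit 130])) (.node (nat_lit 39) (.leaf (nat_lit 71681) [nat_lit 182, nat_lit 208, nat_lit 156, nat_lit 52, nat_lit 130, nat_lit 208, nat_lit 104, nat_lit 78]) (.leaf (nat_lit 51201) [nat_lit 78, nat_lit 156, nat_lit 130, nat_lit 208, nat_lit 104, nat_lit 182, nat_lit 78, nat_lit 78])))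
noncomputable def r275 : WT := (.node (nat_lit 42) (.node (nat_lit 41) (.leaf (nat_lit 22537) [nat_lit 78, nat_lit 78, nat_lit 156, nat_lit 208, nat_lit 182, nat_lit 78]) (.leaf (nat_lit 13330) [nat_lit 234, nat_lit 130, nat_lit 52, nat_lit 104, nat_lit 234, nat_lit 208, nat_lit 130, nat_lit 78, nat_lit 104])) (.node (nat_lit 43) (.leaf (nat_lit 13322) [nat_lit 130, nat_lit 78, nat_lit 104, nat_lit 208, nat_lit 234, nat_lit 130, nat_lit 52, nat_lit 104, nat_lit 234]) (.node (nat_lit 44) (.leaf (nat_lit 71693) [nat_lit 104, nat_lit 78, nat_lit 208, nat_lit 182, nat_lit 208, nat_lit 156, nat_lit 52, nat_lit 130]) (.leaf (nat_lit 81929) [nat_lit 182, nat_lit 104, nat_lit 208, nat_lit 130, nat_lit 208, nat_lit 182, nat_lit 182, nat_lit 182]))))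
noncomputable def r276 : WT := (.node (nat_lit 49) (.node (nat_lit 47) (.node (nat_lit 46) (.leaf (nat_lit 47110) [nat_lit 156, nat_lit 208, nat_lit 182, nat_lit 208, nat_lit 156, nat_lit 208, nat_lit 182]) (.leaf (nat_lit 64522) [nat_lit 104, nat_lit 156, nat_lit 208, nat_lit 52, nat_lit 104, nat_lit 208, nat_lit 156, nat_lit 52])) (.node (nat_lit 48) (.leaf (nat_lit 71685) [nat_lit 156, nat_lit 52, nat_lit 130, nat_lit 208, nat_lit 104, nat_lit 78, nat_lit 208, nat_lit 182]) (.leaf (nat_lit 148486) [nat_lit 52, nat_lit 156, nat_lit 208, nat_lit 182, nat_lit 104, nat_lit 156, nat_lit 52, nat_lit 104, nat_lit 156]))) (.node (nat_lit 51) (.node (nat_lit 50) (.leaf (nat_lit 64516) [nat_lit 156, nat_lit 52, nat_lit 208, nat_lit 104, nat_lit 156, nat_lit 208, nat_lit 52, nat_lit 104]) (.leaf (nat_lit 41986) [nat_lit 104, nat_lit 156, nat_lit 52, nat_lit 208, nat_lit 104, nat_lit 156, nat_lit 52])) (.node (nat_lit 52) (.leaf (nat_lit 64528) [nat_lit 52, nat_lit 104,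 nat_lit 208, nat_lit 156, nat_lit 52, nat_lit 208, nat_lit 104, nat_lit 156]) (.leaf (nat_lit 44036) [nat_lit 156, nat_lit 208, nat_lit 182, nat_lit 104, nat_lit 208, nat_lit 104, nat_lit 104]))))
noncomputable def r277 : WT := (.node (nat_lit 58) (.node (nat_lit 55) (.node (nat_lit 54) (.leaf (nat_lit 76805) [nat_lit 130, nat_lit 130, nat_lit 182, nat_lit 52, nat_lit 208, nat_lit 78, nat_lit 156, nat_lit 130]) (.leaf (nat_lit 81936) [nat_lit 104, nat_lit 208, nat_lit 130, nat_lit 156, nat_lit 208, nat_lit 156, nat_lit 156, nat_lit 156])) (.node (nat_lit 56) (.leaf (nat_lit 28679) [nat_lit 78, nat_lit 208, nat_lit 78, nat_lit 78, nat_lit 104, nat_lit 208, nat_lit 130]) (.node (nat_lit 57) (.leaf (nat_lit 71696) [nat_lit 52, nat_lit 130, nat_lit 208, nat_lit 104, nat_lit 78, nat_lit 182, nat_lit 208, nat_lit 156]) (.leaf (nat_lit 46082) [nat_lit 130, nat_lit 208, nat_lit 104, nat_lit 208, nat_lit 130, nat_lit 208, nat_lit 104])))) (.node (nat_lit 60) (.node (nat_lit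 59) (.leaf (nat_lit 10244) [nat_lit 156, nat_lit 156, nat_lit 208, nat_lit 52, nat_lit 286, nat_lit 78]) (.leaf (nat_lit 135175) [nat_lit 182, nat_lit 78, nat_lit 208, nat_lit 52, nat_lit 130, nat_lit 78, nat_lit 182, nat_lit 130, nat_lit 78])) (.node (nat_lit 61) (.leaf (nat_lit 77836) [nat_lit 104, nat_lit 156, nat_lit 52, nat_lit 208, nat_lit 78, nat_lit 182, nat_lit 104, nat_lit 104]) (.node (nat_lit 62) (.leaf (nat_lit 13321) [nat_lit 234, nat_lit 130, nat_lit 78, nat_lit 104, nat_lit 234, nat_lit 208, nat_lit 130, nat_lit 52, nat_lit 104]) (.leaf (nat_lit 64513) [nat_lit 182, nat_lit 130, nat_lit 208, nat_lit 78, nat_lit 182, nat_lit 208, nat_lit 130, nat_lit 78])))))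
noncomputable def r278 : WT := (.node (nat_lit 74) (.leaf (nat_lit 77839) [nat_lit 78, nat_lit 182, nat_lit 130, nat_lit 208, nat_lit 130, nat_lit 130, nat_lit 156, nat_lit 52]) (.leaf (nat_lit 27659) [nat_lit 78, nat_lit 78, nat_lit 208, nat_lit 104, nat_lit 208, nat_lit 130, nat_lit 78]))
noncomputable def r279 : WT := (.node (nat_lit 79) (.leaf (nat_lit 10249) [nat_lit 52, nat_lit 286, nat_lit 78, nat_lit 208, nat_lit 182, nat_lit 182]) (.leaf (nat_lit 141318) [nat_lit 104, nat_lit 78, nat_lit 182, nat_lit 208, nat_lit 156, nat_lit 208, nat_lit 52, nat_lit 104, nat_lit 104]))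
noncomputable def r280 : WT := (.node (nat_lit 70) (.node (nat_lit 66) (.node (nat_lit 64) (.leaf (nat_lit 37892) [nat_lit 156, nat_lit 156, nat_lit 156, nat_lit 78, nat_lit 208, nat_lit 52, nat_lit 156]) (.node (nat_lit 65) (.leaf (nat_lit 28676) [nat_lit 52, nat_lit 208, nat_lit 104, nat_lit 208, nat_lit 130, nat_lit 52, nat_lit 52]) (.leaf (nat_lit 41989) [nat_lit 78, nat_lit 182, nat_lit 130, nat_lit 208, nat_lit 78, nat_lit 182, nat_lit 130]))) (.node (nat_lit 68) (.node (nat_lit 67) (.leaf (nat_lit 40966) [nat_lit 52, nat_lit 208, nat_lit 78, nat_lit 208, nat_lit 52, nat_lit 208, nat_lit 78]) (.leaf (nat_lit 13313) [nat_lit 130, nat_lit 52, nat_lit 104, nat_lit 208, nat_lit 234, nat_lit 130, nat_lit 78, nat_lit 104, nat_lit 234])) (.node (nat_lit 69) (.leaf (nat_lit 82960) [nat_lit 104, nat_lit 208, nat_lit 130, nat_lit 182, nat_lit 182, nat_lit 182, nat_lit 208, nat_lit 182]) (.leaf (nat_lit 135181) [nat_lit 52, nat_lit 130, nat_lit 78, nat_lit 182, nat_lit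 130, nat_lit 78, nat_lit 208, nat_lit 182, nat_lit 78])))) (.node (nat_lit 75) (.node (nat_lit 72) (.node (nat_lit 71) (.leaf (nat_lit 54273) [nat_lit 104, nat_lit 156, nat_lit 52, nat_lit 208, nat_lit 104, nat_lit 156, nat_lit 78, nat_lit 78]) (.leaf (nat_lit 43014) [nat_lit 182, nat_lit 208, nat_lit 78, nat_lit 208, nat_lit 52, nat_lit 208, nat_lit 156])) (.node (nat_lit 73) (.leaf (nat_lit 30724) [nat_lit 104, nat_lit 104, nat_lit 208, nat_lit 78, nat_lit 208, nat_lit 52, nat_lit 104]) r278)) (.node (nat_lit 77) (.node (nat_lit 76) (.leaf (nat_lit 37889) [nat_lit 52, nat_lit 182, nat_lit 182, nat_lit 182, nat_lit 208, nat_lit 182, nat_lit 78]) (.leaf (nat_lit 76802) [nat_lit 78, nat_lit 156, nat_lit 104, nat_lit 104, nat_lit 208, nat_lit 104, nat_lit 182, nat_lit 52])) (.node (nat_lit 78) (.leaf (nat_lit 12303) [nat_lit 130, nat_lit 234, nat_lit 104, nat_lit 208, nat_lit 78, nat_lit 182, nat_lit 104, nat_lit 234, nat_lit 104]) r279))))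
noncomputable def r281 : WT := (.node (nat_lit 81) (.leaf (nat_lit 30725) [nat_lit 130, nat_lit 130, nat_lit 208, nat_lit 130, nat_lit 78, nat_lit 208, nat_lit 52]) (.leaf (nat_lit 51216) [nat_lit 52, nat_lit 52, nat_lit 156, nat_lit 130, nat_lit 208, nat_lit 104, nat_lit 182, nat_lit 52]))
noncomputable def r282 : WT := (.node (nat_lit 83) (.leaf (nat_lit 142342) [nat_lit 104, nat_lit 78, nat_lit 208, nat_lit 182, nat_lit 208, nat_lit 156, nat_lit 52, nat_lit 104, nat_lit 104]) (.leaf (nat_lit 47106) [nat_lit 182, nat_lit 208, nat_lit 156, nat_lit 208, nat_lit 182, nat_lit 208, nat_lit 156]))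
noncomputable def r283 : WT := (.node (nat_lit 85) (.leaf (nat_lit 135174) [nat_lit 52, nat_lit 156, nat_lit 208, nat_lit 52, nat_lit 104, nat_lit 156, nat_lit 52, nat_lit 104, nat_lit 78]) (.leaf (nat_lit 105481) [nat_lit 104, nat_lit 208, nat_lit 156, nat_lit 78, nat_lit 78, nat_lit 104, nat_lit 156, nat_lit 208, nat_lit 52]))
noncomputable def r284 : WT := (.node (nat_lit 87) (.leaf (nat_lit 12291) [nat_lit 78, nat_lit 182, nat_lit 104, nat_lit 234, nat_lit 104, nat_lit 208, nat_lit 130, nat_lit 234, nat_lit 104]) (.leaf (nat_lit 81922) [nat_lit 130, nat_lit 156, nat_lit 208, nat_lit 156, nat_lit 156, nat_lit 156, nat_lit 208, nat_lit 104]))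
noncomputable def r285 : WT := (.node (nat_lit 89) (.leaf (nat_lit 10243) [nat_lit 182, nat_lit 182, nat_lit 208, nat_lit 52, nat_lit 286, nat_lit 78]) (.leaf (nat_lit 37902) [nat_lit 52, nat_lit 156, nat_lit 208, nat_lit 156, nat_lit 156, nat_lit 156, nat_lit 78]))
noncomputable def r286 : WT := (.node (nat_lit 91) (.leaf (nat_lit 28684) [nat_lit 130, nat_lit 52, nat_lit 52, nat_lit 208, nat_lit 52, nat_lit 208, nat_lit 104]) (.leaf (nat_lit 62474) [nat_lit 104, nat_lit 208, nat_lit 156, nat_lit 52, nat_lit 104, nat_lit 156, nat_lit 208, nat_lit 52]))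
noncomputable def r287 : WT := (.node (nat_lit 93) (.leaf (nat_lit 28675) [nat_lit 130, nat_lit 208, nat_lit 78, nat_lit 208, nat_lit 78, nat_lit 78, nat_lit 104]) (.node (nat_lit 94) (.leaf (nat_lit 12304) [nat_lit 130, nat_lit 234, nat_lit 104, nat_lit 208, nat_lit 130, nat_lit 234, nat_lit 130, nat_lit 156, nat_lit 52]) (.leaf (nat_lit 104460) [nat_lit 182, nat_lit 130, nat_lit 208, nat_lit 52, nat_lit 52, nat_lit 182, nat_lit 208, nat_lit 130, nat_lit 78])))
noncomputable def r288 : WT := (.node (nat_lit 97) (.node (nat_lit 96) (.leaf (nat_lit 27662) [nat_lit 52, nat_lit 52, nat_lit 208, nat_lit 52, nat_lit 104, nat_lit 208, nat_lit 130]) (.leaf (nat_lit 96257) [nat_lit 78, nat_lit 156, nat_lit 104, nat_lit 104, nat_lit 208, nat_lit 104, nat_lit 182, nat_lit 78, nat_lit 78])) (.node (nat_lit 98) (.leaf (nat_lit 102401) [nat_lit 78, nat_lit 182, nat_lit 104, nat_lit 104, nat_lit 208, nat_lit 104, nat_lit 156, nat_lit 78, nat_lit 78]) (.leaf (nat_lit 104454)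 [nat_lit 130, nat_lit 78, nat_lit 208, nat_lit 182, nat_lit 130, nat_lit 208, nat_lit 52, nat_lit 52, nat_lit 182])))
noncomputable def r289 : WT := (.node (nat_lit 100) (.leaf (nat_lit 81928) [nat_lit 156, nat_lit 156, nat_lit 156, nat_lit 208, nat_lit 104, nat_lit 208, nat_lit 130, nat_lit 156]) (.node (nat_lit 101) (.leaf (nat_lit 104466) [nat_lit 52, nat_lit 52, nat_lit 182, nat_lit 208, nat_lit 130, nat_lit 78, nat_lit 208, nat_lit 182, nat_lit 130]) (.leaf (nat_lit 22538) [nat_lit 182, nat_lit 52, nat_lit 52, nat_lit 208, nat_lit 52, nat_lit 156])))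
noncomputable def r290 : WT := (.node (nat_lit 104) (.node (nat_lit 103) (.leaf (nat_lit 141325) [nat_lit 130, nat_lit 130, nat_lit 78, nat_lit 208, nat_lit 182, nat_lit 208, nat_lit 156, nat_lit 52, nat_lit 130]) (.leaf (nat_lit 142349) [nat_lit 130, nat_lit 130, nat_lit 78, nat_lit 182, nat_lit 208, nat_lit 156, nat_lit 208, nat_lit 52, nat_lit 130])) (.node (nat_lit 105) (.leaf (nat_lit 143370) [nat_lit 130, nat_lit 208, nat_lit 156, nat_lit 208, nat_lit 52, nat_lit 104, nat_lit 156, nat_lit 52, nat_lit 130]) (.leaf (nat_lit 148492) [nat_lit 182, nat_lit 104, nat_lit 156, nat_lit 52, nat_lit 104, nat_lit 156, nat_lit 208, nat_lit 52, nat_lit 156])))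
noncomputable def r291 : WT := (.node (nat_lit 108) (.node (nat_lit 107) (.leaf (nat_lit 43022) [nat_lit 52, nat_lit 208, nat_lit 156, nat_lit 208, nat_lit 182, nat_lit 208, nat_lit 78]) (.leaf (nat_lit 57360) [nat_lit 52, nat_lit 52, nat_lit 208, nat_lit 52, nat_lit 208, nat_lit 78, nat_lit 208, nat_lit 52])) (.node (nat_lit 109) (.leaf (nat_lit 62478) [nat_lit 156, nat_lit 52, nat_lit 104, nat_lit 156, nat_lit 208, nat_lit 52, nat_lit 208, nat_lit 104]) (.leaf (nat_lit 57348) [nat_lit 52, nat_lit 208, nat_lit 78, nat_lit 208, nat_lit 52, nat_lit 208, nat_lit 52, nat_lit 52])))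
noncomputable def r292 : WT := (.node (nat_lit 112) (.node (nat_lit 111) (.leaf (nat_lit 62475) [nat_lit 182, nat_lit 130, nat_lit 78, nat_lit 182, nat_lit 208, nat_lit 130, nat_lit 208, nat_lit 78]) (.leaf (nat_lit 55297) [nat_lit 78, nat_lit 182, nat_lit 130, nat_lit 208, nat_lit 104, nat_lit 156, nat_lit 78, nat_lit 78])) (.node (nat_lit 113) (.leaf (nat_lit 55312) [nat_lit 52, nat_lit 52, nat_lit 182, nat_lit 130, nat_lit 208, nat_lit 104, nat_lit 156, nat_lit 52]) (.leaf (nat_lit 54281) [nat_lit 104, nat_lit 156, nat_lit 78, nat_lit 78, nat_lit 208, nat_lit 104, nat_lit 156, nat_lit 52])))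
noncomputable def r293 : WT := (.node (nat_lit 116) (.node (nat_lit 115) (.leaf (nat_lit 54288) [nat_lit 52, nat_lit 52, nat_lit 182, nat_lit 130, nat_lit 208, nat_lit 78, nat_lit 182, nat_lit 130]) (.leaf (nat_lit 51208) [nat_lit 104, nat_lit 182, nat_lit 52, nat_lit 208, nat_lit 52, nat_lit 52, nat_lit 156, nat_lit 130])) (.node (nat_lit 117) (.leaf (nat_lit 46086) [nat_lit 104, nat_lit 208, nat_lit 130, nat_lit 208, nat_lit 104, nat_lit 208, nat_lit 130]) (.leaf (nat_lit 44043) [nat_lit 130, nat_lit 130, nat_lit 208, nat_lit 130, nat_lit 156, nat_lit 208, nat_lit 182])))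
noncomputable def r294 : WT := (.node (nat_lit 120) (.node (nat_lit 119) (.leaf (nat_lit 82959) [nat_lit 130, nat_lit 208, nat_lit 156, nat_lit 208, nat_lit 156, nat_lit 156, nat_lit 156, nat_lit 104]) (.leaf (nat_lit 43010) [nat_lit 156, nat_lit 208, nat_lit 182, nat_lit 208, nat_lit 78, nat_lit 208, nat_lit 52])) (.node (nat_lit 121) (.leaf (nat_lit 76815) [nat_lit 78, nat_lit 156, nat_lit 130, nat_lit 208, nat_lit 130, nat_lit 130, nat_lit 182, nat_lit 52]) (.leaf (nat_lit 77826) [nat_lit 78, nat_lit 182, nat_lit 104, nat_lit 104, nat_lit 208, nat_lit 104, nat_lit 156, nat_lit 52])))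
noncomputable def r295 : WT := (.node (nat_lit 124) (.node (nat_lit 123) (.leaf (nat_lit 32777) [nat_lit 104, nat_lit 104, nat_lit 78, nat_lit 208, nat_lit 52, nat_lit 208, nat_lit 104]) (.leaf (nat_lit 77829) [nat_lit 130, nat_lit 130, nat_lit 156, nat_lit 52, nat_lit 208, nat_lit 78, nat_lit 182, nat_lit 130])) (.node (nat_lit 125) (.leaf (nat_lit 78858) [nat_lit 130, nat_lit 130, nat_lit 156, nat_lit 52, nat_lit 208, nat_lit 104, nat_lit 156, nat_lit 52]) (.leaf (nat_lit 80900) [nat_lit 104, nat_lit 208, nat_lit 130, nat_lit 208, nat_lit 104, nat_lit 208, nat_lit 104, nat_lit 104])))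
noncomputable def r296 : WT := (.node (nat_lit 128) (.node (nat_lit 127) (.leaf (nat_lit 57357) [nat_lit 78, nat_lit 78, nat_lit 208, nat_lit 78, nat_lit 208, nat_lit 52, nat_lit 208, nat_lit 78]) (.leaf (nat_lit 32773) [nat_lit 104, nat_lit 208, nat_lit 104, nat_lit 104, nat_lit 78, nat_lit 208, nat_lit 52])) (.node (nat_lit 129) (.leaf (nat_lit 81935) [nat_lit 130, nat_lit 208, nat_lit 182, nat_lit 182, nat_lit 182, nat_lit 208, nat_lit 182, nat_lit 104]) (.leaf (nat_lit 30721) [nat_lit 52, nat_lit 208, nat_lit 130, nat_lit 130, nat_lit 208, nat_lit 130, nat_lit 78])))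
noncomputable def r297 : WT := (.node (nat_lit 99) (.node (nat_lit 88) (.node (nat_lit 84) (.node (nat_lit 82) r281 r282) (.node (nat_lit 86) r283 r284)) (.node (nat_lit 92) (.node (nat_lit 90) r285 r286) (.node (nat_lit 95) r287 r288))) (.node (nat_lit 114) (.node (nat_lit 106) (.node (nat_lit 102) r289 r290) (.node (nat_lit 110) r291 r292)) (.node (nat_lit 122) (.node (nat_lit 118) r293 r294) (.node (nat_lit 126) r295 r296))))
noncomputable def r298 : WT := (.node (nat_lit 30) (.node (nat_lit 21) (.node (nat_lit 19) (.node (nat_lit 18) (.leaf (nat_lit 30731) [nat_lit 130, nat_lit 78, nat_lit 208, nat_lit 52, nat_lit 208, nat_lit 130, nat_lit 130]) (.leaf (nat_lit 62467) [nat_lit 130, nat_lit 208, nat_lit 78, nat_lit 208, nat_lit 182, nat_lit 130, nat_lit 78, nat_lit 182])) (.node (nat_lit 20) (.leaf (nat_lit 24577) [nat_lit 52, nat_lit 208, nat_lit 104, nat_lit 208, nat_lit 130, nat_lit 78]) (.leaf (nat_lit 39938) [nat_lit 78, nat_lit 182, nat_lit 130, nat_lit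 208, nat_lit 104, nat_lit 156, nat_lit 52]))) (.node (nat_lit 25) (.node (nat_lit 23) r268 r269) (.node (nat_lit 27) r270 r271))) (.node (nat_lit 45) (.node (nat_lit 36) (.node (nat_lit 33) r272 r273) (.node (nat_lit 40) r274 r275)) (.node (nat_lit 63) (.node (nat_lit 53) r276 r277) (.node (nat_lit 80) r280 r297))))
noncomputable def w6 : WT := (.node (nat_lit 1) (.leaf (nat_lit 3072) [nat_lit 208]) (.node (nat_lit 5) (.node (nat_lit 3) (.node (nat_lit 2) (.leaf (nat_lit 20484) [nat_lit 182, nat_lit 78, nat_lit 208, nat_lit 52, nat_lit 156]) (.leaf (nat_lit 20490) [nat_lit 52, nat_lit 156, nat_lit 208, nat_lit 182, nat_lit 78])) (.node (nat_lit 4) (.leaf (nat_lit 25612) [nat_lit 104, nat_lit 208, nat_lit 130, nat_lit 156, nat_lit 208, nat_lit 182]) (.leaf (nat_lit 24585) [nat_lit 130, nat_lit 78, nat_lit 208, nat_lit 52, nat_lit 208, nat_lit 104]))) (.node (nat_lit 10) (.node (nat_lit 7) r265 r266) (.node (nat_lit 17) r267 r298))))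
noncomputable def r299 : WT := (.node (nat_lit 5) (.leaf (nat_lit 13312) [nat_lit 130, nat_lit 52, nat_lit 104, nat_lit 234, nat_lit 208, nat_lit 130, nat_lit 78, nat_lit 104, nat_lit 208]) (.leaf (nat_lit 12296) [nat_lit 130, nat_lit 156, nat_lit 52, nat_lit 208, nat_lit 130, nat_lit 234, nat_lit 104, nat_lit 208, nat_lit 130]))
noncomputable def r300 : WT := (.node (nat_lit 8) (.leaf (nat_lit 12288) [nat_lit 104, nat_lit 208, nat_lit 130, nat_lit 234, nat_lit 130, nat_lit 156, nat_lit 52, nat_lit 208, nat_lit 130]) (.leaf (nat_lit 13323) [nat_lit 130, nat_lit 78, nat_lit 104, nat_lit 234, nat_lit 208, nat_lit 130, nat_lit 52, nat_lit 104, nat_lit 208]))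
noncomputable def r301 : WT := (.node (nat_lit 10) (.leaf (nat_lit 13331) [nat_lit 208, nat_lit 130, nat_lit 52, nat_lit 104, nat_lit 208, nat_lit 234, nat_lit 130, nat_lit 78, nat_lit 104]) (.leaf (nat_lit 7170) [nat_lit 260, nat_lit 234, nat_lit 260, nat_lit 234, nat_lit 260]))
noncomputable def r302 : WT := (.node (nat_lit 13) (.node (nat_lit 12) (.leaf (nat_lit 15360) [nat_lit 78, nat_lit 130, nat_lit 156, nat_lit 104, nat_lit 234, nat_lit 130, nat_lit 182, nat_lit 104, nat_lit 52]) (.leaf (nat_lit 14336) [nat_lit 52, nat_lit 156, nat_lit 52, nat_lit 156, nat_lit 234, nat_lit 182, nat_lit 78, nat_lit 182, nat_lit 78])) (.node (nat_lit 14) (.leaf (nat_lit 8192) [nat_lit 286, nat_lit 234, nat_lit 286, nat_lit 234, nat_lit 286]) (.node (nat_lit 15) (.leaf (nat_lit 12299) [nat_lit 104, nat_lit 208, nat_lit 130, nat_lit 234, nat_lit 104, nat_lit 208, nat_lit 78, nat_lit 182, nat_lit 104]) (.leaf (nat_lit 12307) [nat_lit 104, nat_lit 208, nat_lit 78, nat_lit 182,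 nat_lit 104, nat_lit 234, nat_lit 104, nat_lit 208, nat_lit 130]))))
noncomputable def w7 : WT := (.node (nat_lit 1) (.leaf (nat_lit 4096) [nat_lit 234]) (.node (nat_lit 6) (.node (nat_lit 3) (.node (nat_lit 2) (.leaf (nat_lit 11264) [nat_lit 208, nat_lit 234, nat_lit 208]) (.leaf (nat_lit 14346) [nat_lit 182, nat_lit 78, nat_lit 182, nat_lit 78, nat_lit 234, nat_lit 52, nat_lit 156, nat_lit 52, nat_lit 156])) (.node (nat_lit 4) (.leaf (nat_lit 15370) [nat_lit 130, nat_lit 182, nat_lit 104, nat_lit 52, nat_lit 234, nat_lit 78, nat_lit 130, nat_lit 156, nat_lit 104]) r299)) (.node (nat_lit 9) (.node (nat_lit 7) (.leaf (nat_lit 13320) [nat_lit 208, nat_lit 130, nat_lit 78, nat_lit 104, nat_lit 208, nat_lit 234, nat_lit 130, nat_lit 52, nat_lit 104]) r300) (.node (nat_lit 11) r301 r302))))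
noncomputable def w8 : WT := (.node (nat_lit 1) (.leaf (nat_lit 9216) [nat_lit 130, nat_lit 52, nat_lit 208, nat_lit 78, nat_lit 104]) (.node (nat_lit 2) (.leaf (nat_lit 5120) [nat_lit 260]) (.leaf (nat_lit 7168) [nat_lit 234, nat_lit 260, nat_lit 234, nat_lit 260, nat_lit 234])))
noncomputable def w9 : WT := (.node (nat_lit 1) (.leaf (nat_lit 10240) [nat_lit 78, nat_lit 208, nat_lit 156, nat_lit 156, nat_lit 208, nat_lit 52]) (.node (nat_lit 2) (.leaf (nat_lit 6144) [nat_lit 286]) (.node (nat_lit 3) (.leaf (nat_lit 10253) [nat_lit 78, nat_lit 208, nat_lit 182, nat_lit 182, nat_lit 208, nat_lit 52]) (.leaf (nat_lit 8194) [nat_lit 234, nat_lit 286, nat_lit 234, nat_lit 286, nat_lit 234]))))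
noncomputable def r303 : WT := (.node (nat_lit 3) (.leaf (nat_lit 10253) [nat_lit 286, nat_lit 78, nat_lit 208, nat_lit 182, nat_lit 182, nat_lit 208, nat_lit 52]) (.leaf (nat_lit 9218) [nat_lit 130, nat_lit 52, nat_lit 208, nat_lit 78, nat_lit 104, nat_lit 260]))
noncomputable def r304 : WT := (.node (nat_lit 5) (.leaf (nat_lit 38920) [nat_lit 130, nat_lit 208, nat_lit 104, nat_lit 182, nat_lit 52, nat_lit 208, nat_lit 78, nat_lit 156]) (.leaf (nat_lit 38922) [nat_lit 208, nat_lit 104, nat_lit 182, nat_lit 52, nat_lit 208, nat_lit 78, nat_lit 156, nat_lit 130]))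
noncomputable def r305 : WT := (.node (nat_lit 8) (.node (nat_lit 7) (.leaf (nat_lit 24577) [nat_lit 208, nat_lit 52, nat_lit 208, nat_lit 104, nat_lit 208, nat_lit 130, nat_lit 78]) (.leaf (nat_lit 12293) [nat_lit 78, nat_lit 182, nat_lit 104, nat_lit 234, nat_lit 104, nat_lit 208, nat_lit 130, nat_lit 234, nat_lit 104, nat_lit 208])) (.node (nat_lit 9) (.leaf (nat_lit 14336) [nat_lit 234, nat_lit 52, nat_lit 156, nat_lit 52, nat_lit 156, nat_lit 234, nat_lit 182, nat_lit 78, nat_lit 182, nat_lit 78]) (.leaf (nat_lit 13331) [nat_lit 234, nat_lit 208, nat_lit 130, nat_lit 52, nat_lit 104, nat_lit 208, nat_lit 234, nat_lit 130, nat_lit 78, nat_lit 104])))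
noncomputable def r306 : WT := (.node (nat_lit 12) (.node (nat_lit 11) (.leaf (nat_lit 13329) [nat_lit 104, nat_lit 234, nat_lit 208, nat_lit 130, nat_lit 52, nat_lit 104, nat_lit 208, nat_lit 234, nat_lit 130, nat_lit 78]) (.leaf (nat_lit 13323) [nat_lit 234, nat_lit 130, nat_lit 78, nat_lit 104, nat_lit 234, nat_lit 208, nat_lit 130, nat_lit 52, nat_lit 104, nat_lit 208])) (.node (nat_lit 13) (.leaf (nat_lit 12307) [nat_lit 234, nat_lit 104, nat_lit 208, nat_lit 78, nat_lit 182, nat_lit 104, nat_lit 234, nat_lit 104, nat_lit 208, nat_lit 130]) (.node (nat_lit 14) (.leaf (nat_lit 111617) [nat_lit 104, nat_lit 52, nat_lit 156, nat_lit 104, nat_lit 78, nat_lit 156, nat_lit 130, nat_lit 78, nat_lit 130, nat_lit 78]) (.leaf (nat_lit 12291) [nat_lit 208, nat_lit 78, nat_lit 182, nat_lit 104, nat_lit 234, nat_lit 104, nat_lit 208, nat_lit 130, nat_lit 234, nat_lit 104]))))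
noncomputable def r307 : WT := (.node (nat_lit 17) (.node (nat_lit 16) (.leaf (nat_lit 12304) [nat_lit 208, nat_lit 130, nat_lit 234, nat_lit 104, nat_lit 208, nat_lit 130, nat_lit 234, nat_lit 130, nat_lit 156, nat_lit 52]) (.leaf (nat_lit 12288) [nat_lit 234, nat_lit 104, nat_lit 208, nat_lit 130, nat_lit 234, nat_lit 130, nat_lit 156, nat_lit 52, nat_lit 208, nat_lit 130])) (.node (nat_lit 18) (.leaf (nat_lit 82945) [nat_lit 208, nat_lit 156, nat_lit 208, nat_lit 156, nat_lit 156, nat_lit 156, nat_lit 104, nat_lit 208, nat_lit 130]) (.leaf (nat_lit 72720) [nat_lit 130, nat_lit 52, nat_lit 156, nat_lit 78, nat_lit 156, nat_lit 104, nat_lit 182, nat_lit 104, nat_lit 182])))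
noncomputable def r308 : WT := (.node (nat_lit 21) (.node (nat_lit 20) (.leaf (nat_lit 68612) [nat_lit 156, nat_lit 104, nat_lit 78, nat_lit 182, nat_lit 182, nat_lit 52, nat_lit 182, nat_lit 52, nat_lit 130]) (.leaf (nat_lit 14346) [nat_lit 234, nat_lit 182, nat_lit 78, nat_lit 182, nat_lit 78, nat_lit 234, nat_lit 52, nat_lit 156, nat_lit 52, nat_lit 156])) (.node (nat_lit 22) (.leaf (nat_lit 90118) [nat_lit 78, nat_lit 182, nat_lit 104, nat_lit 182, nat_lit 52, nat_lit 156, nat_lit 130, nat_lit 52, nat_lit 52, nat_lit 156]) (.node (nat_lit 23) (.leaf (nat_lit 64522) [nat_lit 208, nat_lit 104, nat_lit 156, nat_lit 208, nat_lit 52, nat_lit 104, nat_lit 208, nat_lit 156, nat_lit 52]) (.leaf (nat_lit 112641) [nat_lit 156, nat_lit 104, nat_lit 78, nat_lit 130, nat_lit 78, nat_lit 156, nat_lit 104, nat_lit 78, nat_lit 130, nat_lit 78]))))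
noncomputable def r309 : WT := (.node (nat_lit 26) (.node (nat_lit 25) (.leaf (nat_lit 114698) [nat_lit 156, nat_lit 78, nat_lit 130, nat_lit 156, nat_lit 156, nat_lit 52, nat_lit 104, nat_lit 52, nat_lit 156, nat_lit 130]) (.leaf (nat_lit 117765) [nat_lit 78, nat_lit 130, nat_lit 78, nat_lit 104, nat_lit 156, nat_lit 78, nat_lit 130, nat_lit 78, nat_lit 104, nat_lit 156])) (.node (nat_lit 27) (.leaf (nat_lit 117767) [nat_lit 130, nat_lit 78, nat_lit 104, nat_lit 156, nat_lit 78, nat_lit 130, nat_lit 78, nat_lit 104, nat_lit 156, nat_lit 78]) (.node (nat_lit 28) (.leaf (nat_lit 125958) [nat_lit 130, nat_lit 52, nat_lit 156, nat_lit 52, nat_lit 130, nat_lit 156, nat_lit 104, nat_lit 52, nat_lit 104, nat_lit 78]) (.leaf (nat_lit 125970) [nat_lit 104, nat_lit 52, nat_lit 104, nat_lit 78, nat_lit 130, nat_lit 52, nat_lit 156, nat_lit 52, nat_lit 130, nat_lit 156]))))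
noncomputable def r310 : WT := (.node (nat_lit 31) (.node (nat_lit 30) (.leaf (nat_lit 125957) [nat_lit 104, nat_lit 78, nat_lit 182, nat_lit 78, nat_lit 104, nat_lit 52, nat_lit 130, nat_lit 78, nat_lit 130, nat_lit 182]) (.leaf (nat_lit 131072) [nat_lit 52, nat_lit 104, nat_lit 78, nat_lit 182, nat_lit 52, nat_lit 130, nat_lit 52, nat_lit 156, nat_lit 78, nat_lit 104])) (.node (nat_lit 32) (.leaf (nat_lit 132098) [nat_lit 104, nat_lit 78, nat_lit 182, nat_lit 78, nat_lit 130, nat_lit 52, nat_lit 130, nat_lit 156, nat_lit 130, nat_lit 52]) (.node (nat_lit 33) (.leaf (nat_lit 133136) [nat_lit 104, nat_lit 156, nat_lit 52, nat_lit 104, nat_lit 78, nat_lit 182, nat_lit 78, nat_lit 182, nat_lit 78, nat_lit 182]) (.leaf (nat_lit 145420) [nat_lit 156, nat_lit 104, nat_lit 182, nat_lit 104, nat_lit 52, nat_lit 104, nat_lit 156, nat_lit 78, nat_lit 156, nat_lit 78]))))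
noncomputable def r311 : WT := (.node (nat_lit 36) (.node (nat_lit 35) (.leaf (nat_lit 146447) [nat_lit 182, nat_lit 130, nat_lit 78, nat_lit 156, nat_lit 52, nat_lit 156, nat_lit 104, nat_lit 156, nat_lit 78, nat_lit 130]) (.leaf (nat_lit 35850) [nat_lit 130, nat_lit 156, nat_lit 104, nat_lit 52, nat_lit 156, nat_lit 78, nat_lit 156, nat_lit 156])) (.node (nat_lit 37) (.leaf (nat_lit 18433) [nat_lit 182, nat_lit 182, nat_lit 182, nat_lit 182]) (.node (nat_lit 38) (.leaf (nat_lit 20482) [nat_lit 156, nat_lit 208, nat_lit 182, nat_lit 78, nat_lit 208, nat_lit 52]) (.leaf (nat_lit 20488) [nat_lit 78, nat_lit 208, nat_lit 52, nat_lit 156, nat_lit 208, nat_lit 182]))))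
noncomputable def r312 : WT := (.node (nat_lit 41) (.node (nat_lit 40) (.leaf (nat_lit 20490) [nat_lit 208, nat_lit 52, nat_lit 156, nat_lit 208, nat_lit 182, nat_lit 78]) (.leaf (nat_lit 10240) [nat_lit 286, nat_lit 78, nat_lit 208, nat_lit 156, nat_lit 156, nat_lit 208, nat_lit 52])) (.node (nat_lit 42) (.leaf (nat_lit 10241) [nat_lit 78, nat_lit 208, nat_lit 182, nat_lit 182, nat_lit 208, nat_lit 52, nat_lit 286]) (.node (nat_lit 43) (.leaf (nat_lit 21516) [nat_lit 130, nat_lit 52, nat_lit 52, nat_lit 182, nat_lit 130, nat_lit 78, nat_lit 182]) (.leaf (nat_lit 24576) [nat_lit 52, nat_lit 104, nat_lit 208, nat_lit 130, nat_lit 208, nat_lit 78, nat_lit 208]))))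
noncomputable def r313 : WT := (.node (nat_lit 47) (.node (nat_lit 45) (.leaf (nat_lit 24578) [nat_lit 104, nat_lit 208, nat_lit 130, nat_lit 208, nat_lit 78, nat_lit 208, nat_lit 52]) (.node (nat_lit 46) (.leaf (nat_lit 24582) [nat_lit 130, nat_lit 208, nat_lit 78, nat_lit 208, nat_lit 52, nat_lit 104, nat_lit 208]) (.leaf (nat_lit 24586) [nat_lit 78, nat_lit 208, nat_lit 52, nat_lit 104, nat_lit 208, nat_lit 130, nat_lit 208]))) (.node (nat_lit 48) (.leaf (nat_lit 24579) [nat_lit 52, nat_lit 208, nat_lit 104, nat_lit 208, nat_lit 130, nat_lit 78, nat_lit 208]) (.leaf (nat_lit 34819) [nat_lit 78, nat_lit 182, nat_lit 78, nat_lit 182, nat_lit 78, nat_lit 182, nat_lit 78, nat_lit 182])))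
noncomputable def r314 : WT := (.node (nat_lit 51) (.node (nat_lit 50) (.leaf (nat_lit 67587) [nat_lit 78, nat_lit 182, nat_lit 182, nat_lit 52, nat_lit 130, nat_lit 182, nat_lit 104, nat_lit 78, nat_lit 156]) (.leaf (nat_lit 35855) [nat_lit 78, nat_lit 130, nat_lit 182, nat_lit 104, nat_lit 182, nat_lit 182, nat_lit 52, nat_lit 182])) (.node (nat_lit 52) (.leaf (nat_lit 38916) [nat_lit 78, nat_lit 156, nat_lit 130, nat_lit 208, nat_lit 104, nat_lit 182, nat_lit 52, nat_lit 208]) (.node (nat_lit 53) (.leaf (nat_lit 38918) [nat_lit 156, nat_lit 130, nat_lit 208, nat_lit 104, nat_lit 182, nat_lit 52, nat_lit 208, nat_lit 78]) (.leaf (nat_lit 39938) [nat_lit 208, nat_lit 78, nat_lit 182, nat_lit 130, nat_lit 208, nat_lit 104, nat_lit 156, nat_lit 52]))))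
noncomputable def r315 : WT := (.node (nat_lit 56) (.node (nat_lit 55) (.leaf (nat_lit 39940) [nat_lit 78, nat_lit 182, nat_lit 130, nat_lit 208, nat_lit 104, nat_lit 156, nat_lit 52, nat_lit 208]) (.leaf (nat_lit 50187) [nat_lit 156, nat_lit 104, nat_lit 78, nat_lit 78, nat_lit 156, nat_lit 78, nat_lit 156, nat_lit 156, nat_lit 130])) (.node (nat_lit 57) (.leaf (nat_lit 51204) [nat_lit 156, nat_lit 130, nat_lit 208, nat_lit 104, nat_lit 182, nat_lit 52, nat_lit 208, nat_lit 52, nat_lit 52]) (.leaf (nat_lit 60417) [nat_lit 130, nat_lit 52, nat_lit 104, nat_lit 182, nat_lit 130, nat_lit 182, nat_lit 52, nat_lit 130, nat_lit 78])))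
noncomputable def r316 : WT := (.node (nat_lit 60) (.node (nat_lit 59) (.leaf (nat_lit 60431) [nat_lit 130, nat_lit 78, nat_lit 130, nat_lit 52, nat_lit 104, nat_lit 182, nat_lit 130, nat_lit 182, nat_lit 52]) (.leaf (nat_lit 63504) [nat_lit 182, nat_lit 52, nat_lit 104, nat_lit 182, nat_lit 78, nat_lit 156, nat_lit 130, nat_lit 156, nat_lit 52])) (.node (nat_lit 61) (.leaf (nat_lit 18432) [nat_lit 156, nat_lit 156, nat_lit 156, nat_lit 156]) (.node (nat_lit 62) (.leaf (nat_lit 65538) [nat_lit 130, nat_lit 52, nat_lit 156, nat_lit 104, nat_lit 182, nat_lit 130, nat_lit 156, nat_lit 156, nat_lit 52]) (.leaf (nat_lit 67592) [nat_lit 78, nat_lit 156, nat_lit 156, nat_lit 52, nat_lit 182, nat_lit 52, nat_lit 130, nat_lit 156, nat_lit 104]))))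
noncomputable def wP : WT := (.node (nat_lit 24) (.node (nat_lit 6) (.node (nat_lit 2) (.node (nat_lit 1) (.leaf (nat_lit 9216) [nat_lit 260, nat_lit 130, nat_lit 52, nat_lit 208, nat_lit 78, nat_lit 104]) (.leaf (nat_lit 15360) [nat_lit 234, nat_lit 78, nat_lit 130, nat_lit 156, nat_lit 104, nat_lit 234, nat_lit 130, nat_lit 182, nat_lit 104, nat_lit 52])) (.node (nat_lit 4) r303 r304)) (.node (nat_lit 15) (.node (nat_lit 10) r305 r306) (.node (nat_lit 19) r307 r308))) (.node (nat_lit 44) (.node (nat_lit 34) (.node (nat_lit 29) r309 r310) (.node (nat_lit 39) r311 r312)) (.node (nat_lit 54) (.node (nat_lit 49) r313 r314) (.node (nat_lit 58) r315 r316))))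
noncomputable def P : Par := ⟨tb, nat_lit 312, nat_lit 0xffffffffffffffffffffffffffffffffffffffffffffffffffffffffffffffffffffffffffffff, nat_lit 26439, nat_lit 67108863, nat_lit 32767, nat_lit 26, nat_lit 15, nat_lit 1771,
  [nat_lit 52, nat_lit 78, nat_lit 104, nat_lit 130, nat_lit 156, nat_lit 182, nat_lit 208, nat_lit 234, nat_lit 260, nat_lit 286], [nat_lit 52, nat_lit 104, nat_lit 156, nat_lit 208, nat_lit 260, nat_lit 286], wP,
  (.cons (nat_lit 52) w0 (.cons (nat_lit 78) w1 (.cons (nat_lit 104) w2 (.cons (nat_lit 130) w3 (.cons (nat_lit 156) w4 (.cons (nat_lit 182) w5 (.cons (nat_lit 208) w6 (.cons (nat_lit 234) w7 (.cons (nat_lit 260) w8 (.cons (nat_lit 286) w9 .nil)))))))))),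
  .nil⟩

end Cfsg.Agent.Lib.TCJ4b
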