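import Cfsg.Agent.Lib.TCDefs

set_option autoImplicit false
set_option maxRecDepth 100000

namespace Cfsg.Agent.Lib.TCL32
open Cfsg.Agent.Lib.TCCore

noncomputable def l0 : T := .leaf (nat_lit 0) (nat_lit 0x753c28baf1a78fff8105b4cfa8c50ee87ffe041652ba9f301680fff8105748da6a505e83ffe041551b296b04e82fff8105344ba4642ce17ffe0418d42a8d0eca76fff809d72b36ce53e69fffe0414c0b61314b5a5fff81054e8c8a54f227bffe01ab4e9db533eb9ffff80d193979eac64633ffe041ab83675b36b9bfff806951b37564e3a73ffe0418bec221d32c99fff806a130b916cd3e6bffe0344cbc66630ee87fff810511ca9864b2a5bffe041435365172ed97fff8106328ca163ca9e7ffe01a64b4a550cea67fff809e30a9927bbc5dfffe034549bdf90e4a72fff809d932a906bdbdefffe0345c8ba3d2fcb7efff809df2088e5b2b597ffe0344c7a65cec8964fff809d2f4b9b8c5be2fffe041444ba2e53b69dfff8105f18a62846c237ffe0346cfa18d712d89fff80d0ebe98c645322bffe0418cd25e9f0d186fff80d150c7697cc4a63ffe0344af2e1e111088fff81050b5293a51b68fffe04175021d1706d83fff80d10baf826423213ffe041841a165f496a4fff80d10c6aa09bfc5ffffe041435adfe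f4daa6fff8105900a57940ca07ffe0348492151920a90fff80d12eb29a6be2df3ffe04183da5618fac7dfff80d0ea717c748ba47ffe0415442a350a4a52fff809d6f09685cab657ffe0343a6b1e7751ea8fff81052e6b76849c24fffe04163b9d317449a2fff80d2936a7d425a92fffe0274c22e7ce90948fff809d09ca77738b1c7ffe0413b2a5c5724992fff81054e47466b9b5cfffe0344b7da71c92c49fff81050dca705272d3bffe041536a5bd28c746fff806913cb6e322a117ffe027a509d114d6c6bfff80d0e849805b62db3ffe0413a226596d2969fff810510e64053529abffe03453ca141ecd166fff80d12cc7645ca2653ffe03439fa99e0d1068fff8104c7c872647b23fffe04143398f551c88efff80d131498139e24f3ffe0275c5a58589ee4ffff80d14c4d604282943ffe0277309d7d47ec3ffff80d10c088931d20ebffe02742e2a19ca2c51fff8105ab69834a39d1fffe01a3a0a5794b6b5bfff8105070e5d62e2d73ffe04139ca6156b2959fff810530473752d296bffe03453e3955094a4afff809d6fe95671dc0efffe03452ba10d8aac55fff80d1eb07366ab355bffe0344bf1ce54a6c53fff80d0c6a87b5aa2d53ffe0413a7a5456f497afff81054a47346af357bffe0344b41ccd6c2961fff80d0c648526b1358bffe04139825cd8deb6ffff8104c62878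5262133ffe04143b18bd29a94dfff80d12947495baa5d7ffe034397292d6b0958fff810509662d6b835c3ffe034322a11d4e8874fff810529062c42ea977ffe03443898ad0dca6efff80d0a547484b69db7ffe04143621a8c52829fff809d2ac74251730bbffe034421a1acc50828fff809d28085c41618b3ffe01a3b4a904a4e727fff809cc4a8665b02d83ffe0412931d9527a73dfff8104ec852441f20fbffe03441d98e94c6863fff80d0c4693c7abbd5fffe04139e14892be75ffff80d10a885a310a087ffe02751ba56d268734fff80690b2b383102083ffe02742a98d5246b23fff80d0e6c75328f9c7fffe0274289879070a38fff80d10a06314992ccbffe03428e9d3d466a33fff8104e6674d28e1c73ffe027417a13905a62dfff8068e9893028d9c6fffe02730d2129686b43fff8104e9251939824c3ffe0343a39460e82941fff80d0e8c52641528abffe03420b991525692bfff8104a4e7284a21d13ffe0414149459284742fff80d082a6294201903ffe04131598f8828614fff809ce4873f391148bffe01a31ea094826613fff809ca2473b51b28dbffe04131d1044c4a825fff80d0e4051f49c9ce7ffe034288208526e737fff8104c4240f41a98d7ffe03439a1475020a10fff80d0c3c632207183bffe02730d9039062631fff80d081a71c41798bfffe04140c9cb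8e2c516fff8068c5a91a2069837ffe027316105ce2a915fff80d0a3052a1861433ffe027314102cc3481afff80d061452740c2063ffe0412898c30e4c526fff80d06126143921493ffe041308988cc1e40ffff8068a447121849427ffe027204188123c91efff8104a3e3072891c4bffe03428e0c18e3a51dfff80d060a51b38c9467ffe04120a0810c2e417fff80d0a2c30a302a017ffe0342059054408404fff809c4064133089047ffe0412839440a0c306fff806881e608101900fffe0272070808810608fff80d040440d3859c2fffe0411860404a1430afff80d02023092838c1fffe0411830c14202301fff809c408203201080bffe000)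

end Cfsg.Agent.Lib.TCL32
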