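import Cfsg.Agent.Lib.TCL32D0

set_option autoImplicit false
set_option maxRecDepth 100000

namespace Cfsg.Agent.Lib.TCL32
open Cfsg.Agent.Lib.TCCore

noncomputable def tb : T := l0
noncomputable def r0 : WT := (.leaf (nat_lit 5124) [nat_lit 65, nat_lit 26, nat_lit 52, nat_lit 26, nat_lit 65, nat_lit 26, nat_lit 52, nat_lit 26, nat_lit 65, nat_lit 26, nat_lit 52, nat_lit 26, nat_lit 65, nat_lit 26, nat_lit 52])
noncomputable def r1 : WT := (.leaf (nat_lit 5120) [nat_lit 52, nat_lit 26, nat_lit 65, nat_lit 26, nat_lit 52, nat_lit 26, nat_lit 65, nat_lit 26, nat_lit 52, nat_lit 26, nat_lit 65, nat_lit 26, nat_lit 52, nat_lit 26, nat_lit 65])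
noncomputable def w0 : WT := (.node (nat_lit 1) (.leaf (nat_lit 0) [nat_lit 39]) (.node (nat_lit 2) (.leaf (nat_lit 2048) [nat_lit 26]) (.node (nat_lit 3) (.leaf (nat_lit 4096) [nat_lit 52, nat_lit 26, nat_lit 52, nat_lit 26, nat_lit 52]) (.node (nat_lit 4) r0 r1))))
noncomputable def r2 : WT := (.leaf (nat_lit 5123) [nat_lit 65, nat_lit 39, nat_lit 52, nat_lit 39, nat_lit 65, nat_lit 39, nat_lit 52, nat_lit 39, nat_lit 65, nat_lit 39, nat_lit 52, nat_lit 39, nat_lit 65, nat_lit 39, nat_lit 52])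
noncomputable def r3 : WT := (.leaf (nat_lit 5127) [nat_lit 52, nat_lit 39, nat_lit 65, nat_lit 39, nat_lit 52, nat_lit 39, nat_lit 65, nat_lit 39, nat_lit 52, nat_lit 39, nat_lit 65, nat_lit 39, nat_lit 52, nat_lit 39, nat_lit 65])
noncomputable def w1 : WT := (.node (nat_lit 1) (.leaf (nat_lit 2) [nat_lit 26]) (.node (nat_lit 2) (.leaf (nat_lit 2049) [nat_lit 39]) (.node (nat_lit 3) (.leaf (nat_lit 4099) [nat_lit 65, nat_lit 39, nat_lit 65, nat_lit 39, nat_lit 65]) (.node (nat_lit 4) r2 r3))))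
noncomputable def r4 : WT := (.leaf (nat_lit 5122) [nat_lit 26, nat_lit 65, nat_lit 26, nat_lit 52, nat_lit 26, nat_lit 65, nat_lit 26, nat_lit 52, nat_lit 26, nat_lit 65, nat_lit 26, nat_lit 52, nat_lit 26, nat_lit 65, nat_lit 26])
noncomputable def r5 : WT := (.leaf (nat_lit 5121) [nat_lit 39, nat_lit 65, nat_lit 39, nat_lit 52, nat_lit 39, nat_lit 65, nat_lit 39, nat_lit 52, nat_lit 39, nat_lit 65, nat_lit 39, nat_lit 52, nat_lit 39, nat_lit 65, nat_lit 39])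
noncomputable def w2 : WT := (.node (nat_lit 1) (.leaf (nat_lit 1024) [nat_lit 65]) (.node (nat_lit 2) (.leaf (nat_lit 3072) [nat_lit 52, nat_lit 52, nat_lit 52, nat_lit 52, nat_lit 52, nat_lit 52]) (.node (nat_lit 3) (.leaf (nat_lit 4098) [nat_lit 26, nat_lit 52, nat_lit 26, nat_lit 52, nat_lit 26]) (.node (nat_lit 4) r4 r5))))
noncomputable def w3 : WT := (.node (nat_lit 1) (.leaf (nat_lit 1026) [nat_lit 52]) (.node (nat_lit 2) (.leaf (nat_lit 4097) [nat_lit 39, nat_lit 65, nat_lit 39, nat_lit 65, nat_lit 39]) (.leaf (nat_lit 3073) [nat_lit 65, nat_lit 65, nat_lit 65, nat_lit 65, nat_lit 65, nat_lit 65])))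
noncomputable def wP : WT := (.leaf (nat_lit 0) [nat_lit 26, nat_lit 39])
noncomputable def P : Par := ⟨tb, nat_lit 78, nat_lit 0x3fffffffffffffffffff, nat_lit 168, nat_lit 8191, nat_lit 255, nat_lit 13, nat_lit 8, nat_lit 168,
  [nat_lit 26, nat_lit 39, nat_lit 52, nat_lit 65], [], wP,
  (.cons (nat_lit 26) w0 (.cons (nat_lit 39) w1 (.cons (nat_lit 52) w2 (.cons (nat_lit 65) w3 .nil)))),
  .nil⟩

end Cfsg.Agent.Lib.TCL32
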