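import Cfsg.Agent.Lib.TCLy1D0

set_option autoImplicit false
set_option maxRecDepth 100000

namespace Cfsg.Agent.Lib.TCLy1
open Cfsg.Agent.Lib.TCCore

noncomputable def n0 : T := (.node (nat_lit 45) l0 l1)
noncomputable def n1 : T := (.node (nat_lit 135) l2 (.node (nat_lit 180) l3 l4))
noncomputable def n2 : T := (.node (nat_lit 270) l5 (.node (nat_lit 315) l6 l7))
noncomputable def n3 : T := (.node (nat_lit 405) l8 (.node (nat_lit 450) l9 l10))
noncomputable def n4 : T := (.node (nat_lit 540) l11 l12)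
noncomputable def n5 : T := (.node (nat_lit 630) l13 (.node (nat_lit 675) l14 l15))
noncomputable def n6 : T := (.node (nat_lit 765) l16 (.node (nat_lit 810) l17 l18))
noncomputable def n7 : T := (.node (nat_lit 900) l19 (.node (nat_lit 945) l20 l21))
noncomputable def n8 : T := (.node (nat_lit 1035) l22 l23)
noncomputable def n9 : T := (.node (nat_lit 1125) l24 (.node (nat_lit 1170) l25 l26))
noncomputable def n10 : T := (.node (nat_lit 1260) l27 (.node (nat_lit 1305) l28 l29))
noncomputable def n11 : T := (.node (nat_lit 1395) l30 (.node (nat_lit 1440) l31 l32))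
noncomputable def n12 : T := (.node (nat_lit 1530) l33 l34)
noncomputable def n13 : T := (.node (nat_lit 1620) l35 (.node (nat_lit 1665) l36 l37))
noncomputable def n14 : T := (.node (nat_lit 1755) l38 (.node (nat_lit 1800) l39 l40))
noncomputable def n15 : T := (.node (nat_lit 1890) l41 (.node (nat_lit 1935) l42 l43))
noncomputable def n16 : T := (.node (nat_lit 2025) l44 l45)
noncomputable def n17 : T := (.node (nat_lit 2115) l46 (.node (nat_lit 2160) l47 l48))
noncomputable def n18 : T := (.node (nat_lit 2250) l49 (.node (nat_lit 2295) l50 l51))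
noncomputable def n19 : T := (.node (nat_lit 2385) l52 (.node (nat_lit 2430) l53 l54))
noncomputable def n20 : T := (.node (nat_lit 2520) l55 l56)
noncomputable def n21 : T := (.node (nat_lit 2610) l57 (.node (nat_lit 2655) l58 l59))
noncomputable def n22 : T := (.node (nat_lit 2745) l60 (.node (nat_lit 2790) l61 l62))
noncomputable def n23 : T := (.node (nat_lit 2880) l63 (.node (nat_lit 2925) l64 l65))
noncomputable def n24 : T := (.node (nat_lit 3015) l66 l67)
noncomputable def n25 : T := (.node (nat_lit 3105) l68 (.node (nat_lit 3150) l69 l70))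
noncomputable def n26 : T := (.node (nat_lit 3240) l71 (.node (nat_lit 3285) l72 l73))
noncomputable def n27 : T := (.node (nat_lit 3375) l74 (.node (nat_lit 3420) l75 l76))
noncomputable def n28 : T := (.node (nat_lit 3510) l77 (.node (nat_lit 3555) l78 l79))
noncomputable def n29 : T := (.node (nat_lit 3645) l80 (.node (nat_lit 3690) l81 l82))
noncomputable def n30 : T := (.node (nat_lit 3780) l83 (.node (nat_lit 3825) l84 l85))
noncomputable def n31 : T := (.node (nat_lit 3915) l86 (.node (nat_lit 3960) l87 l88))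
noncomputable def tb : T := (.node (nat_lit 1980) (.node (nat_lit 990) (.node (nat_lit 495) (.node (nat_lit 225) (.node (nat_lit 90) n0 n1) (.node (nat_lit 360) n2 n3)) (.node (nat_lit 720) (.node (nat_lit 585) n4 n5) (.node (nat_lit 855) n6 n7))) (.node (nat_lit 1485) (.node (nat_lit 1215) (.node (nat_lit 1080) n8 n9) (.node (nat_lit 1350) n10 n11)) (.node (nat_lit 1710) (.node (nat_lit 1575) n12 n13) (.node (nat_lit 1845) n14 n15)))) (.node (nat_lit 2970) (.node (nat_lit 2475) (.node (nat_lit 2205) (.node (nat_lit 2070) n16 n17) (.node (nat_lit 2340) n18 n19)) (.node (nat_lit 2700) (.node (nat_lit 2565) n20 n21) (.node (nat_lit 2835) n22 n23))) (.node (nat_lit 3465) (.node (nat_lit 3195) (.node (nat_lit 3060) n24 n25) (.node (nat_lit 3330) n26 n27)) (.node (nat_lit 3735) (.node (nat_lit 3600) n28 n29) (.node (nat_lit 3870) n30 n31)))))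
noncomputable def r0 : WT := (.node (nat_lit 3) (.leaf (nat_lit 14342) [nat_lit 220, nat_lit 66, nat_lit 154]) (.leaf (nat_lit 12296) [nat_lit 88, nat_lit 66, nat_lit 66, nat_lit 110, nat_lit 44]))
noncomputable def r1 : WT := (.node (nat_lit 5) (.leaf (nat_lit 12297) [nat_lit 44, nat_lit 110, nat_lit 66, nat_lit 66, nat_lit 88]) (.leaf (nat_lit 12294) [nat_lit 44, nat_lit 88, nat_lit 66, nat_lit 66, nat_lit 110]))
noncomputable def r2 : WT := (.node (nat_lit 7) (.leaf (nat_lit 32777) [nat_lit 352, nat_lit 352, nat_lit 66, nat_lit 374]) (.leaf (nat_lit 29705) [nat_lit 154, nat_lit 154, nat_lit 66, nat_lit 242]))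
noncomputable def r3 : WT := (.node (nat_lit 9) (.leaf (nat_lit 32772) [nat_lit 374, nat_lit 374, nat_lit 66, nat_lit 352]) (.node (nat_lit 10) (.leaf (nat_lit 29700) [nat_lit 132, nat_lit 132, nat_lit 66, nat_lit 220]) (.leaf (nat_lit 12299) [nat_lit 110, nat_lit 66, nat_lit 66, nat_lit 88, nat_lit 44])))
noncomputable def r4 : WT := (.node (nat_lit 13) (.node (nat_lit 12) (.leaf (nat_lit 30733) [nat_lit 286, nat_lit 286, nat_lit 132, nat_lit 308, nat_lit 66, nat_lit 286]) (.leaf (nat_lit 49154) [nat_lit 176, nat_lit 66, nat_lit 66, nat_lit 66, nat_lit 198])) (.node (nat_lit 14) (.leaf (nat_lit 38918) [nat_lit 308, nat_lit 132, nat_lit 242, nat_lit 66, nat_lit 110, nat_lit 110, nat_lit 396, nat_lit 264, nat_lit 396]) (.leaf (nat_lit 49153) [nat_lit 44, nat_lit 44, nat_lit 198, nat_lit 66, nat_lit 176])))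
noncomputable def r5 : WT := (.node (nat_lit 17) (.node (nat_lit 16) (.leaf (nat_lit 31761) [nat_lit 132, nat_lit 242, nat_lit 286, nat_lit 308, nat_lit 132, nat_lit 308, nat_lit 66, nat_lit 330]) (.leaf (nat_lit 47105) [nat_lit 44, nat_lit 44, nat_lit 44, nat_lit 198, nat_lit 198])) (.node (nat_lit 19) (.node (nat_lit 18) (.leaf (nat_lit 31748) [nat_lit 330, nat_lit 154, nat_lit 330, nat_lit 264, nat_lit 220, nat_lit 154, nat_lit 66, nat_lit 308]) (.leaf (nat_lit 30724) [nat_lit 330, nat_lit 154, nat_lit 264, nat_lit 264, nat_lit 66, nat_lit 264])) (.node (nat_lit 20) (.leaf (nat_lit 47107) [nat_lit 44, nat_lit 44, nat_lit 198, nat_lit 198, nat_lit 44]) (.leaf (nat_lit 11264) [nat_lit 88, nat_lit 44, nat_lit 88, nat_lit 44, nat_lit 88, nat_lit 44, nat_lit 88]))))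
noncomputable def r6 : WT := (.leaf (nat_lit 41986) [nat_lit 44, nat_lit 396, nat_lit 308, nat_lit 374, nat_lit 154, nat_lit 66, nat_lit 88, nat_lit 66, nat_lit 110, nat_lit 110, nat_lit 66, nat_lit 396])
noncomputable def r7 : WT := (.leaf (nat_lit 41985) [nat_lit 88, nat_lit 88, nat_lit 44, nat_lit 110, nat_lit 44, nat_lit 132, nat_lit 352, nat_lit 330, nat_lit 396, nat_lit 66, nat_lit 66, nat_lit 396])
noncomputable def r8 : WT := (.leaf (nat_lit 41988) [nat_lit 396, nat_lit 308, nat_lit 374, nat_lit 154, nat_lit 66, nat_lit 88, nat_lit 66, nat_lit 110, nat_lit 110, nat_lit 66, nat_lit 396, nat_lit 44])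
noncomputable def r9 : WT := (.leaf (nat_lit 41995) [nat_lit 132, nat_lit 352, nat_lit 330, nat_lit 396, nat_lit 66, nat_lit 66, nat_lit 396, nat_lit 44, nat_lit 88, nat_lit 88, nat_lit 44, nat_lit 110])
noncomputable def r10 : WT := (.node (nat_lit 28) (.leaf (nat_lit 47109) [nat_lit 44, nat_lit 198, nat_lit 198, nat_lit 44, nat_lit 44]) (.leaf (nat_lit 45078) [nat_lit 396, nat_lit 220, nat_lit 396, nat_lit 242, nat_lit 396, nat_lit 220, nat_lit 330, nat_lit 44, nat_lit 264, nat_lit 44, nat_lit 44]))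
noncomputable def r11 : WT := (.leaf (nat_lit 46105) [nat_lit 242, nat_lit 88, nat_lit 396, nat_lit 198, nat_lit 44, nat_lit 88, nat_lit 88, nat_lit 66, nat_lit 110, nat_lit 154, nat_lit 330, nat_lit 374, nat_lit 44, nat_lit 396, nat_lit 44, nat_lit 396])
noncomputable def r12 : WT := (.leaf (nat_lit 46101) [nat_lit 396, nat_lit 44, nat_lit 242, nat_lit 88, nat_lit 396, nat_lit 198, nat_lit 44, nat_lit 88, nat_lit 88, nat_lit 66, nat_lit 110, nat_lit 154, nat_lit 330, nat_lit 374, nat_lit 44, nat_lit 396])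
noncomputable def r13 : WT := (.node (nat_lit 31) r12 (.leaf (nat_lit 51201) [nat_lit 44, nat_lit 374, nat_lit 198, nat_lit 352, nat_lit 198, nat_lit 374, nat_lit 198]))
noncomputable def r14 : WT := (.leaf (nat_lit 46097) [nat_lit 396, nat_lit 44, nat_lit 396, nat_lit 44, nat_lit 242, nat_lit 88, nat_lit 396, nat_lit 198, nat_lit 44, nat_lit 88, nat_lit 88, nat_lit 66, nat_lit 110, nat_lit 154, nat_lit 330, nat_lit 374])
noncomputable def r15 : WT := (.node (nat_lit 33) (.leaf (nat_lit 49157) [nat_lit 198, nat_lit 66, nat_lit 176, nat_lit 44, nat_lit 44]) r14)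
noncomputable def r16 : WT := (.leaf (nat_lit 41991) [nat_lit 110, nat_lit 44, nat_lit 132, nat_lit 352, nat_lit 330, nat_lit 396, nat_lit 66, nat_lit 66, nat_lit 396, nat_lit 44, nat_lit 88, nat_lit 88])
noncomputable def r17 : WT := (.node (nat_lit 35) (.leaf (nat_lit 51203) [nat_lit 374, nat_lit 198, nat_lit 352, nat_lit 198, nat_lit 374, nat_lit 198, nat_lit 44]) r16)
noncomputable def r18 : WT := (.node (nat_lit 37) (.leaf (nat_lit 45070) [nat_lit 264, nat_lit 44, nat_lit 44, nat_lit 44, nat_lit 396, nat_lit 220, nat_lit 396, nat_lit 242, nat_lit 396, nat_lit 220, nat_lit 330]) (.leaf (nat_lit 45074) [nat_lit 44, nat_lit 44, nat_lit 396, nat_lit 220, nat_lit 396, nat_lit 242, nat_lit 396, nat_lit 220, nat_lit 330, nat_lit 44, nat_lit 264]))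
noncomputable def r19 : WT := (.leaf (nat_lit 44034) [nat_lit 88, nat_lit 88, nat_lit 44, nat_lit 110, nat_lit 44, nat_lit 396, nat_lit 308, nat_lit 374, nat_lit 154, nat_lit 66, nat_lit 66, nat_lit 396])
noncomputable def r20 : WT := (.node (nat_lit 39) (.leaf (nat_lit 13316) [nat_lit 88, nat_lit 66, nat_lit 110, nat_lit 44, nat_lit 88, nat_lit 66, nat_lit 110, nat_lit 44, nat_lit 88, nat_lit 66, nat_lit 110]) (.node (nat_lit 40) r19 (.leaf (nat_lit 9216) [nat_lit 44, nat_lit 44, nat_lit 44, nat_lit 44, nat_lit 44, nat_lit 44, nat_lit 44])))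
noncomputable def r21 : WT := (.leaf (nat_lit 44040) [nat_lit 110, nat_lit 44, nat_lit 396, nat_lit 308, nat_lit 374, nat_lit 154, nat_lit 66, nat_lit 66, nat_lit 396, nat_lit 44, nat_lit 88, nat_lit 88])
noncomputable def r22 : WT := (.leaf (nat_lit 44033) [nat_lit 44, nat_lit 132, nat_lit 352, nat_lit 330, nat_lit 396, nat_lit 66, nat_lit 88, nat_lit 66, nat_lit 110, nat_lit 110, nat_lit 66, nat_lit 396])
noncomputable def r23 : WT := (.node (nat_lit 42) r21 (.node (nat_lit 43) (.leaf (nat_lit 13319) [nat_lit 110, nat_lit 66, nat_lit 88, nat_lit 44, nat_lit 110, nat_lit 66, nat_lit 88, nat_lit 44, nat_lit 110, nat_lit 66, nat_lit 88]) r22))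
noncomputable def r24 : WT := (.leaf (nat_lit 44035) [nat_lit 132, nat_lit 352, nat_lit 330, nat_lit 396, nat_lit 66, nat_lit 88, nat_lit 66, nat_lit 110, nat_lit 110, nat_lit 66, nat_lit 396, nat_lit 44])
noncomputable def r25 : WT := (.leaf (nat_lit 36889) [nat_lit 110, nat_lit 176, nat_lit 132, nat_lit 176, nat_lit 396, nat_lit 110, nat_lit 110, nat_lit 66, nat_lit 154, nat_lit 44, nat_lit 132, nat_lit 66, nat_lit 132, nat_lit 44, nat_lit 176, nat_lit 132, nat_lit 88])
noncomputable def r26 : WT := (.leaf (nat_lit 46081) [nat_lit 88, nat_lit 88, nat_lit 66, nat_lit 110, nat_lit 154, nat_lit 330, nat_lit 374, nat_lit 44, nat_lit 396, nat_lit 44, nat_lit 396, nat_lit 44, nat_lit 242, nat_lit 88, nat_lit 396, nat_lit 198])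
noncomputable def r27 : WT := (.leaf (nat_lit 44044) [nat_lit 396, nat_lit 308, nat_lit 374, nat_lit 154, nat_lit 66, nat_lit 66, nat_lit 396, nat_lit 44, nat_lit 88, nat_lit 88, nat_lit 44, nat_lit 110])
noncomputable def r28 : WT := (.node (nat_lit 46) (.node (nat_lit 45) r24 (.leaf (nat_lit 45076) [nat_lit 44, nat_lit 396, nat_lit 220, nat_lit 396, nat_lit 242, nat_lit 396, nat_lit 220, nat_lit 330, nat_lit 44, nat_lit 264, nat_lit 44])) (.node (nat_lit 47) r25 (.node (nat_lit 48) r26 (.node (nat_lit 49) r27 (.leaf (nat_lit 49155) [nat_lit 44, nat_lit 198, nat_lit 66, nat_lit 176, nat_lit 44])))))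
noncomputable def r29 : WT := (.node (nat_lit 29) (.node (nat_lit 24) (.node (nat_lit 22) r6 (.node (nat_lit 23) r7 (.leaf (nat_lit 38917) [nat_lit 220, nat_lit 154, nat_lit 330, nat_lit 66, nat_lit 396, nat_lit 286, nat_lit 396, nat_lit 88, nat_lit 88]))) (.node (nat_lit 26) (.node (nat_lit 25) r8 (.leaf (nat_lit 47111) [nat_lit 198, nat_lit 198, nat_lit 44, nat_lit 44, nat_lit 44])) (.node (nat_lit 27) r9 r10))) (.node (nat_lit 36) (.node (nat_lit 32) (.node (nat_lit 30) r11 r13) (.node (nat_lit 34) r15 r17)) (.node (nat_lit 41) (.node (nat_lit 38) r18 r20) (.node (nat_lit 44) r23 r28))))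
noncomputable def w0 : WT := (.node (nat_lit 1) (.leaf (nat_lit 0) [nat_lit 66]) (.node (nat_lit 8) (.node (nat_lit 4) (.node (nat_lit 2) (.leaf (nat_lit 14341) [nat_lit 242, nat_lit 66, nat_lit 132]) r0) (.node (nat_lit 6) r1 r2)) (.node (nat_lit 15) (.node (nat_lit 11) r3 r4) (.node (nat_lit 21) r5 r29))))
noncomputable def r30 : WT := (.node (nat_lit 3) (.leaf (nat_lit 14337) [nat_lit 132, nat_lit 44, nat_lit 242]) (.leaf (nat_lit 12288) [nat_lit 66, nat_lit 110, nat_lit 44, nat_lit 44, nat_lit 88]))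
noncomputable def r31 : WT := (.node (nat_lit 5) (.leaf (nat_lit 29696) [nat_lit 220, nat_lit 44, nat_lit 132, nat_lit 132]) (.leaf (nat_lit 29701) [nat_lit 242, nat_lit 44, nat_lit 154, nat_lit 154]))
noncomputable def r32 : WT := (.node (nat_lit 7) (.leaf (nat_lit 14338) [nat_lit 154, nat_lit 44, nat_lit 220]) (.leaf (nat_lit 12291) [nat_lit 66, nat_lit 88, nat_lit 44, nat_lit 44, nat_lit 110]))
noncomputable def r33 : WT := (.node (nat_lit 9) (.leaf (nat_lit 32768) [nat_lit 352, nat_lit 44, nat_lit 374, nat_lit 374]) (.node (nat_lit 10) (.leaf (nat_lit 32773) [nat_lit 374, nat_lit 44, nat_lit 352, nat_lit 352]) (.leaf (nat_lit 12293) [nat_lit 88, nat_lit 44, nat_lit 44, nat_lit 110, nat_lit 66])))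
noncomputable def r34 : WT := (.node (nat_lit 13) (.node (nat_lit 12) (.leaf (nat_lit 30729) [nat_lit 286, nat_lit 44, nat_lit 286, nat_lit 286, nat_lit 132, nat_lit 308]) (.leaf (nat_lit 47108) [nat_lit 66, nat_lit 66, nat_lit 66, nat_lit 176, nat_lit 176])) (.node (nat_lit 14) (.leaf (nat_lit 49161) [nat_lit 176, nat_lit 44, nat_lit 44, nat_lit 44, nat_lit 198]) (.leaf (nat_lit 30720) [nat_lit 264, nat_lit 44, nat_lit 330, nat_lit 154, nat_lit 264, nat_lit 264])))
noncomputable def r35 : WT := (.leaf (nat_lit 42005) [nat_lit 66, nat_lit 396, nat_lit 44, nat_lit 88, nat_lit 88, nat_lit 44, nat_lit 110, nat_lit 44, nat_lit 132, nat_lit 352, nat_lit 330, nat_lit 396])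
noncomputable def r36 : WT := (.node (nat_lit 18) (.node (nat_lit 16) (.leaf (nat_lit 38925) [nat_lit 396, nat_lit 286, nat_lit 396, nat_lit 88, nat_lit 88, nat_lit 44, nat_lit 220, nat_lit 154, nat_lit 330]) (.node (nat_lit 17) r35 (.leaf (nat_lit 45057) [nat_lit 66, nat_lit 66, nat_lit 286, nat_lit 66, nat_lit 308, nat_lit 242, nat_lit 396, nat_lit 220, nat_lit 396, nat_lit 242, nat_lit 396]))) (.node (nat_lit 20) (.node (nat_lit 19) (.leaf (nat_lit 11267) [nat_lit 110, nat_lit 66, nat_lit 110, nat_lit 66, nat_lit 110, nat_lit 66, nat_lit 110]) (.leaf (nat_lit 47110) [nat_lit 66, nat_lit 66, nat_lit 176, nat_lit 176, nat_lit 66])) (.node (nat_lit 21) (.leaf (nat_lit 31744) [nat_lit 308, nat_lit 44, nat_lit 330, nat_lit 154, nat_lit 330, nat_lit 264, nat_lit 220, nat_lit 154]) (.leaf (nat_lit 31757) [nat_lit 330, nat_lit 44, nat_lit 132, nat_lit 242, nat_lit 286, nat_lit 308, nat_lit 132, nat_lit 308]))))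
noncomputable def r37 : WT := (.leaf (nat_lit 42002) [nat_lit 110, nat_lit 110, nat_lit 66, nat_lit 396, nat_lit 44, nat_lit 44, nat_lit 396, nat_lit 308, nat_lit 374, nat_lit 154, nat_lit 66, nat_lit 88])
noncomputable def r38 : WT := (.leaf (nat_lit 44045) [nat_lit 88, nat_lit 66, nat_lit 110, nat_lit 110, nat_lit 66, nat_lit 396, nat_lit 44, nat_lit 44, nat_lit 132, nat_lit 352, nat_lit 330, nat_lit 396])
noncomputable def r39 : WT := (.leaf (nat_lit 46092) [nat_lit 396, nat_lit 66, nat_lit 352, nat_lit 308, nat_lit 132, nat_lit 88, nat_lit 44, nat_lit 110, nat_lit 110, nat_lit 66, nat_lit 176, nat_lit 396, nat_lit 110, nat_lit 220, nat_lit 66, nat_lit 396])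
noncomputable def r40 : WT := (.leaf (nat_lit 42008) [nat_lit 396, nat_lit 44, nat_lit 44, nat_lit 396, nat_lit 308, nat_lit 374, nat_lit 154, nat_lit 66, nat_lit 88, nat_lit 66, nat_lit 110, nat_lit 110])
noncomputable def r41 : WT := (.node (nat_lit 29) r40 (.leaf (nat_lit 13315) [nat_lit 88, nat_lit 44, nat_lit 110, nat_lit 66, nat_lit 88, nat_lit 44, nat_lit 110, nat_lit 66, nat_lit 88, nat_lit 44, nat_lit 110]))
noncomputable def r42 : WT := (.leaf (nat_lit 36877) [nat_lit 132, nat_lit 44, nat_lit 176, nat_lit 132, nat_lit 88, nat_lit 44, nat_lit 110, nat_lit 176, nat_lit 132, nat_lit 176, nat_lit 396, nat_lit 110, nat_lit 110, nat_lit 66, nat_lit 154, nat_lit 44, nat_lit 132])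
noncomputable def r43 : WT := (.node (nat_lit 32) (.leaf (nat_lit 13312) [nat_lit 110, nat_lit 44, nat_lit 88, nat_lit 66, nat_lit 110, nat_lit 44, nat_lit 88, nat_lit 66, nat_lit 110, nat_lit 44, nat_lit 88]) r42)
noncomputable def r44 : WT := (.node (nat_lit 34) (.leaf (nat_lit 47112) [nat_lit 66, nat_lit 176, nat_lit 176, nat_lit 66, nat_lit 66]) (.leaf (nat_lit 51212) [nat_lit 66, nat_lit 176, nat_lit 352, nat_lit 176, nat_lit 374, nat_lit 176, nat_lit 352]))
noncomputable def r45 : WT := (.leaf (nat_lit 42007) [nat_lit 396, nat_lit 44, nat_lit 88, nat_lit 88, nat_lit 44, nat_lit 110, nat_lit 44, nat_lit 132, nat_lit 352, nat_lit 330, nat_lit 396, nat_lit 66])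
noncomputable def r46 : WT := (.leaf (nat_lit 36874) [nat_lit 110, nat_lit 154, nat_lit 198, nat_lit 66, nat_lit 154, nat_lit 44, nat_lit 154, nat_lit 66, nat_lit 132, nat_lit 44, nat_lit 88, nat_lit 88, nat_lit 396, nat_lit 198, nat_lit 154, nat_lit 198, nat_lit 88])
noncomputable def r47 : WT := (.node (nat_lit 36) r45 r46)
noncomputable def r48 : WT := (.leaf (nat_lit 46096) [nat_lit 352, nat_lit 308, nat_lit 132, nat_lit 88, nat_lit 44, nat_lit 110, nat_lit 110, nat_lit 66, nat_lit 176, nat_lit 396, nat_lit 110, nat_lit 220, nat_lit 66, nat_lit 396, nat_lit 66, nat_lit 396])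
noncomputable def r49 : WT := (.node (nat_lit 38) r48 (.leaf (nat_lit 9217) [nat_lit 66, nat_lit 66, nat_lit 66, nat_lit 66, nat_lit 66, nat_lit 66, nat_lit 66]))
noncomputable def r50 : WT := (.leaf (nat_lit 46088) [nat_lit 396, nat_lit 66, nat_lit 396, nat_lit 66, nat_lit 352, nat_lit 308, nat_lit 132, nat_lit 88, nat_lit 44, nat_lit 110, nat_lit 110, nat_lit 66, nat_lit 176, nat_lit 396, nat_lit 110, nat_lit 220])
noncomputable def r51 : WT := (.leaf (nat_lit 44055) [nat_lit 396, nat_lit 44, nat_lit 44, nat_lit 132, nat_lit 352, nat_lit 330, nat_lit 396, nat_lit 66, nat_lit 88, nat_lit 66, nat_lit 110, nat_lit 110])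
noncomputable def r52 : WT := (.leaf (nat_lit 46087) [nat_lit 110, nat_lit 154, nat_lit 330, nat_lit 374, nat_lit 44, nat_lit 396, nat_lit 44, nat_lit 396, nat_lit 44, nat_lit 242, nat_lit 88, nat_lit 396, nat_lit 198, nat_lit 44, nat_lit 88, nat_lit 88])
noncomputable def r53 : WT := (.node (nat_lit 40) r50 (.node (nat_lit 41) r51 r52))
noncomputable def r54 : WT := (.leaf (nat_lit 41998) [nat_lit 88, nat_lit 66, nat_lit 110, nat_lit 110, nat_lit 66, nat_lit 396, nat_lit 44, nat_lit 44, nat_lit 396, nat_lit 308, nat_lit 374, nat_lit 154])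
noncomputable def r55 : WT := (.leaf (nat_lit 44056) [nat_lit 396, nat_lit 44, nat_lit 88, nat_lit 88, nat_lit 44, nat_lit 110, nat_lit 44, nat_lit 396, nat_lit 308, nat_lit 374, nat_lit 154, nat_lit 66])
noncomputable def r56 : WT := (.node (nat_lit 44) (.node (nat_lit 43) (.leaf (nat_lit 45061) [nat_lit 286, nat_lit 66, nat_lit 308, nat_lit 242, nat_lit 396, nat_lit 220, nat_lit 396, nat_lit 242, nat_lit 396, nat_lit 66, nat_lit 66]) r54) (.node (nat_lit 45) r55 (.leaf (nat_lit 51214) [nat_lit 176, nat_lit 352, nat_lit 176, nat_lit 374, nat_lit 176, nat_lit 352, nat_lit 66])))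
noncomputable def r57 : WT := (.leaf (nat_lit 36890) [nat_lit 132, nat_lit 44, nat_lit 88, nat_lit 88, nat_lit 396, nat_lit 198, nat_lit 154, nat_lit 198, nat_lit 88, nat_lit 66, nat_lit 110, nat_lit 154, nat_lit 198, nat_lit 66, nat_lit 154, nat_lit 44, nat_lit 154])
noncomputable def r58 : WT := (.leaf (nat_lit 44054) [nat_lit 66, nat_lit 396, nat_lit 44, nat_lit 88, nat_lit 88, nat_lit 44, nat_lit 110, nat_lit 44, nat_lit 396, nat_lit 308, nat_lit 374, nat_lit 154])
noncomputable def r59 : WT := (.leaf (nat_lit 46112) [nat_lit 176, nat_lit 396, nat_lit 110, nat_lit 220, nat_lit 66, nat_lit 396, nat_lit 66, nat_lit 396, nat_lit 66, nat_lit 352, nat_lit 308, nat_lit 132, nat_lit 88, nat_lit 44, nat_lit 110, nat_lit 110])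
noncomputable def r60 : WT := (.leaf (nat_lit 36869) [nat_lit 154, nat_lit 44, nat_lit 132, nat_lit 66, nat_lit 132, nat_lit 44, nat_lit 176, nat_lit 132, nat_lit 88, nat_lit 44, nat_lit 110, nat_lit 176, nat_lit 132, nat_lit 176, nat_lit 396, nat_lit 110, nat_lit 110])
noncomputable def r61 : WT := (.node (nat_lit 48) (.node (nat_lit 47) (.leaf (nat_lit 38926) [nat_lit 110, nat_lit 110, nat_lit 396, nat_lit 264, nat_lit 396, nat_lit 44, nat_lit 308, nat_lit 132, nat_lit 242]) r57) (.node (nat_lit 50) (.node (nat_lit 49) r58 r59) (.node (nat_lit 51) (.leaf (nat_lit 45059) [nat_lit 66, nat_lit 286, nat_lit 66, nat_lit 308, nat_lit 242, nat_lit 396, nat_lit 220, nat_lit 396, nat_lit 242, nat_lit 396, nat_lit 66]) r60)))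
noncomputable def r62 : WT := (.node (nat_lit 30) (.node (nat_lit 25) (.node (nat_lit 23) (.leaf (nat_lit 45065) [nat_lit 308, nat_lit 242, nat_lit 396, nat_lit 220, nat_lit 396, nat_lit 242, nat_lit 396, nat_lit 66, nat_lit 66, nat_lit 66, nat_lit 286]) (.node (nat_lit 24) r37 r38)) (.node (nat_lit 27) (.node (nat_lit 26) (.leaf (nat_lit 49158) [nat_lit 66, nat_lit 66, nat_lit 198, nat_lit 44, nat_lit 176]) r39) (.node (nat_lit 28) (.leaf (nat_lit 47114) [nat_lit 176, nat_lit 176, nat_lit 66, nat_lit 66, nat_lit 66]) r41))) (.node (nat_lit 37) (.node (nat_lit 33) (.node (nat_lit 31) (.leaf (nat_lit 49162) [nat_lit 198, nat_lit 44, nat_lit 176, nat_lit 66, nat_lit 66]) r43) (.node (nat_lit 35) r44 r47)) (.node (nat_lit 42) (.node (nat_lit 39) r49 r53) (.node (nat_lit 46) r56 r61))))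
noncomputable def w1 : WT := (.node (nat_lit 1) (.leaf (nat_lit 2) [nat_lit 44]) (.node (nat_lit 8) (.node (nat_lit 4) (.node (nat_lit 2) (.leaf (nat_lit 12290) [nat_lit 110, nat_lit 44, nat_lit 44, nat_lit 88, nat_lit 66]) r30) (.node (nat_lit 6) r31 r32)) (.node (nat_lit 15) (.node (nat_lit 11) r33 r34) (.node (nat_lit 22) r36 r62))))
noncomputable def r63 : WT := (.node (nat_lit 3) (.leaf (nat_lit 15366) [nat_lit 264, nat_lit 110, nat_lit 154]) (.leaf (nat_lit 10240) [nat_lit 88, nat_lit 88, nat_lit 88, nat_lit 88]))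
noncomputable def r64 : WT := (.node (nat_lit 5) (.leaf (nat_lit 16385) [nat_lit 132, nat_lit 110, nat_lit 330]) (.leaf (nat_lit 12295) [nat_lit 44, nat_lit 44, nat_lit 110, nat_lit 66, nat_lit 66]))
noncomputable def r65 : WT := (.node (nat_lit 7) (.leaf (nat_lit 16386) [nat_lit 154, nat_lit 110, nat_lit 308]) (.leaf (nat_lit 12298) [nat_lit 66, nat_lit 66, nat_lit 110, nat_lit 44, nat_lit 44]))
noncomputable def r66 : WT := (.node (nat_lit 9) (.leaf (nat_lit 48135) [nat_lit 198, nat_lit 110, nat_lit 176]) (.leaf (nat_lit 48132) [nat_lit 176, nat_lit 110, nat_lit 198]))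
noncomputable def r67 : WT := (.node (nat_lit 11) (.leaf (nat_lit 35844) [nat_lit 374, nat_lit 110, nat_lit 352]) (.node (nat_lit 12) (.leaf (nat_lit 37889) [nat_lit 264, nat_lit 88, nat_lit 154, nat_lit 396, nat_lit 154, nat_lit 396]) (.leaf (nat_lit 35847) [nat_lit 352, nat_lit 110, nat_lit 374])))
noncomputable def r68 : WT := (.node (nat_lit 15) (.node (nat_lit 14) (.leaf (nat_lit 43010) [nat_lit 396, nat_lit 308, nat_lit 308, nat_lit 264, nat_lit 154, nat_lit 396]) (.leaf (nat_lit 34831) [nat_lit 132, nat_lit 132, nat_lit 308, nat_lit 286, nat_lit 286, nat_lit 110, nat_lit 286])) (.node (nat_lit 16) (.leaf (nat_lit 33807) [nat_lit 220, nat_lit 264, nat_lit 330, nat_lit 154, nat_lit 330, nat_lit 110, nat_lit 242]) (.node (nat_lit 17) (.leaf (nat_lit 11266) [nat_lit 44, nat_lit 88, nat_lit 44, nat_lit 88, nat_lit 44, nat_lit 88, nat_lit 44]) (.leaf (nat_lit 33796) [nat_lit 308, nat_lit 132, nat_lit 308, nat_lit 286, nat_lit 242, nat_lit 110, nat_lit 220]))))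
noncomputable def r69 : WT := (.leaf (nat_lit 42000) [nat_lit 66, nat_lit 110, nat_lit 110, nat_lit 66, nat_lit 396, nat_lit 44, nat_lit 44, nat_lit 396, nat_lit 308, nat_lit 374, nat_lit 154, nat_lit 66])
noncomputable def r70 : WT := (.leaf (nat_lit 41989) [nat_lit 44, nat_lit 110, nat_lit 44, nat_lit 132, nat_lit 352, nat_lit 330, nat_lit 396, nat_lit 66, nat_lit 66, nat_lit 396, nat_lit 44, nat_lit 88])
noncomputable def r71 : WT := (.leaf (nat_lit 46109) [nat_lit 396, nat_lit 198, nat_lit 44, nat_lit 88, nat_lit 88, nat_lit 66, nat_lit 110, nat_lit 154, nat_lit 330, nat_lit 374, nat_lit 44, nat_lit 396, nat_lit 44, nat_lit 396, nat_lit 44, nat_lit 242])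
noncomputable def r72 : WT := (.leaf (nat_lit 41987) [nat_lit 88, nat_lit 44, nat_lit 110, nat_lit 44, nat_lit 132, nat_lit 352, nat_lit 330, nat_lit 396, nat_lit 66, nat_lit 66, nat_lit 396, nat_lit 44])
noncomputable def r73 : WT := (.leaf (nat_lit 36887) [nat_lit 44, nat_lit 110, nat_lit 176, nat_lit 132, nat_lit 176, nat_lit 396, nat_lit 110, nat_lit 110, nat_lit 66, nat_lit 154, nat_lit 44, nat_lit 132, nat_lit 66, nat_lit 132, nat_lit 44, nat_lit 176, nat_lit 132])
noncomputable def r74 : WT := (.node (nat_lit 29) (.leaf (nat_lit 38913) [nat_lit 88, nat_lit 44, nat_lit 220, nat_lit 154, nat_lit 330, nat_lit 66, nat_lit 396, nat_lit 286, nat_lit 396]) (.node (nat_lit 30) (.leaf (nat_lit 38915) [nat_lit 44, nat_lit 220, nat_lit 154, nat_lit 330, nat_lit 66, nat_lit 396, nat_lit 286, nat_lit 396, nat_lit 88]) r73))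
noncomputable def r75 : WT := (.leaf (nat_lit 46085) [nat_lit 66, nat_lit 110, nat_lit 154, nat_lit 330, nat_lit 374, nat_lit 44, nat_lit 396, nat_lit 44, nat_lit 396, nat_lit 44, nat_lit 242, nat_lit 88, nat_lit 396, nat_lit 198, nat_lit 44, nat_lit 88])
noncomputable def r76 : WT := (.leaf (nat_lit 46083) [nat_lit 88, nat_lit 66, nat_lit 110, nat_lit 154, nat_lit 330, nat_lit 374, nat_lit 44, nat_lit 396, nat_lit 44, nat_lit 396, nat_lit 44, nat_lit 242, nat_lit 88, nat_lit 396, nat_lit 198, nat_lit 44])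
noncomputable def r77 : WT := (.leaf (nat_lit 46104) [nat_lit 44, nat_lit 110, nat_lit 110, nat_lit 66, nat_lit 176, nat_lit 396, nat_lit 110, nat_lit 220, nat_lit 66, nat_lit 396, nat_lit 66, nat_lit 396, nat_lit 66, nat_lit 352, nat_lit 308, nat_lit 132])
noncomputable def r78 : WT := (.node (nat_lit 32) r75 (.node (nat_lit 33) r76 r77))
noncomputable def r79 : WT := (.leaf (nat_lit 36872) [nat_lit 66, nat_lit 110, nat_lit 154, nat_lit 198, nat_lit 66, nat_lit 154, nat_lit 44, nat_lit 154, nat_lit 66, nat_lit 132, nat_lit 44, nat_lit 88, nat_lit 88, nat_lit 396, nat_lit 198, nat_lit 154, nat_lit 198])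
noncomputable def r80 : WT := (.leaf (nat_lit 44047) [nat_lit 66, nat_lit 110, nat_lit 110, nat_lit 66, nat_lit 396, nat_lit 44, nat_lit 44, nat_lit 132, nat_lit 352, nat_lit 330, nat_lit 396, nat_lit 66])
noncomputable def r81 : WT := (.leaf (nat_lit 36896) [nat_lit 88, nat_lit 396, nat_lit 198, nat_lit 154, nat_lit 198, nat_lit 88, nat_lit 66, nat_lit 110, nat_lit 154, nat_lit 198, nat_lit 66, nat_lit 154, nat_lit 44, nat_lit 154, nat_lit 66, nat_lit 132, nat_lit 44])
noncomputable def r82 : WT := (.leaf (nat_lit 44036) [nat_lit 88, nat_lit 44, nat_lit 110, nat_lit 44, nat_lit 396, nat_lit 308, nat_lit 374, nat_lit 154, nat_lit 66, nat_lit 66, nat_lit 396, nat_lit 44])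
noncomputable def r83 : WT := (.leaf (nat_lit 44038) [nat_lit 44, nat_lit 110, nat_lit 44, nat_lit 396, nat_lit 308, nat_lit 374, nat_lit 154, nat_lit 66, nat_lit 66, nat_lit 396, nat_lit 44, nat_lit 88])
noncomputable def r84 : WT := (.leaf (nat_lit 36898) [nat_lit 396, nat_lit 198, nat_lit 154, nat_lit 198, nat_lit 88, nat_lit 66, nat_lit 110, nat_lit 154, nat_lit 198, nat_lit 66, nat_lit 154, nat_lit 44, nat_lit 154, nat_lit 66, nat_lit 132, nat_lit 44, nat_lit 88])
noncomputable def r85 : WT := (.node (nat_lit 36) (.node (nat_lit 35) r79 r80) (.node (nat_lit 38) (.node (nat_lit 37) r81 r82) (.node (nat_lit 39) r83 r84)))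
noncomputable def r86 : WT := (.node (nat_lit 23) (.node (nat_lit 20) (.node (nat_lit 19) (.leaf (nat_lit 39937) [nat_lit 88, nat_lit 286, nat_lit 308, nat_lit 396, nat_lit 330, nat_lit 396]) (.leaf (nat_lit 34820) [nat_lit 264, nat_lit 264, nat_lit 330, nat_lit 154, nat_lit 154, nat_lit 110, nat_lit 264])) (.node (nat_lit 21) (.leaf (nat_lit 37893) [nat_lit 154, nat_lit 396, nat_lit 154, nat_lit 396, nat_lit 88, nat_lit 264]) (.node (nat_lit 22) (.leaf (nat_lit 39939) [nat_lit 286, nat_lit 308, nat_lit 396, nat_lit 330, nat_lit 396, nat_lit 88]) (.leaf (nat_lit 13317) [nat_lit 44, nat_lit 110, nat_lit 66, nat_lit 88, nat_lit 44, nat_lit 110, nat_lit 66, nat_lit 88, nat_lit 44, nat_lit 110, nat_lit 66])))) (.node (nat_lit 27) (.node (nat_lit 25) (.node (nat_lit 24) r69 r70) (.node (nat_lit 26) r71 (.leaf (nat_lit 13318) [nat_lit 66, nat_lit 110, nat_lit 44, nat_lit 88, nat_lit 66, nat_lit 110, nat_lit 44, nat_lit 88, nat_lit 66, nat_lit 110, nat_lit 44]))) (.node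 (nat_lit 31) (.node (nat_lit 28) r72 r74) (.node (nat_lit 34) r78 r85))))
noncomputable def w2 : WT := (.node (nat_lit 1) (.leaf (nat_lit 1024) [nat_lit 110]) (.node (nat_lit 8) (.node (nat_lit 4) (.node (nat_lit 2) (.leaf (nat_lit 15365) [nat_lit 286, nat_lit 110, nat_lit 132]) r63) (.node (nat_lit 6) r64 r65)) (.node (nat_lit 13) (.node (nat_lit 10) r66 r67) (.node (nat_lit 18) r68 r86))))
noncomputable def r87 : WT := (.node (nat_lit 3) (.leaf (nat_lit 12292) [nat_lit 44, nat_lit 44, nat_lit 88, nat_lit 66, nat_lit 66]) (.leaf (nat_lit 16390) [nat_lit 308, nat_lit 88, nat_lit 154]))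
noncomputable def r88 : WT := (.node (nat_lit 6) (.leaf (nat_lit 15361) [nat_lit 132, nat_lit 88, nat_lit 286]) (.leaf (nat_lit 10241) [nat_lit 110, nat_lit 110, nat_lit 110, nat_lit 110]))
noncomputable def r89 : WT := (.node (nat_lit 8) (.leaf (nat_lit 48128) [nat_lit 198, nat_lit 88, nat_lit 176]) (.leaf (nat_lit 35843) [nat_lit 374, nat_lit 88, nat_lit 352]))
noncomputable def r90 : WT := (.node (nat_lit 10) (.leaf (nat_lit 15362) [nat_lit 154, nat_lit 88, nat_lit 264]) (.node (nat_lit 11) (.leaf (nat_lit 35840) [nat_lit 352, nat_lit 88, nat_lit 374]) (.leaf (nat_lit 43019) [nat_lit 396, nat_lit 132, nat_lit 286, nat_lit 330, nat_lit 330, nat_lit 396])))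
noncomputable def r91 : WT := (.node (nat_lit 13) (.leaf (nat_lit 48131) [nat_lit 176, nat_lit 88, nat_lit 198]) (.node (nat_lit 14) (.leaf (nat_lit 33792) [nat_lit 220, nat_lit 88, nat_lit 308, nat_lit 132, nat_lit 308, nat_lit 286, nat_lit 242]) (.node (nat_lit 15) (.leaf (nat_lit 11265) [nat_lit 66, nat_lit 110, nat_lit 66, nat_lit 110, nat_lit 66, nat_lit 110, nat_lit 66]) (.leaf (nat_lit 33803) [nat_lit 242, nat_lit 88, nat_lit 220, nat_lit 264, nat_lit 330, nat_lit 154, nat_lit 330]))))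
noncomputable def r92 : WT := (.leaf (nat_lit 41993) [nat_lit 44, nat_lit 132, nat_lit 352, nat_lit 330, nat_lit 396, nat_lit 66, nat_lit 66, nat_lit 396, nat_lit 44, nat_lit 88, nat_lit 88, nat_lit 44])
noncomputable def r93 : WT := (.leaf (nat_lit 42004) [nat_lit 110, nat_lit 66, nat_lit 396, nat_lit 44, nat_lit 44, nat_lit 396, nat_lit 308, nat_lit 374, nat_lit 154, nat_lit 66, nat_lit 88, nat_lit 66])
noncomputable def r94 : WT := (.leaf (nat_lit 46084) [nat_lit 220, nat_lit 66, nat_lit 396, nat_lit 66, nat_lit 396, nat_lit 66, nat_lit 352, nat_lit 308, nat_lit 132, nat_lit 88, nat_lit 44, nat_lit 110, nat_lit 110, nat_lit 66, nat_lit 176, nat_lit 396])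
noncomputable def r95 : WT := (.leaf (nat_lit 36891) [nat_lit 176, nat_lit 132, nat_lit 176, nat_lit 396, nat_lit 110, nat_lit 110, nat_lit 66, nat_lit 154, nat_lit 44, nat_lit 132, nat_lit 66, nat_lit 132, nat_lit 44, nat_lit 176, nat_lit 132, nat_lit 88, nat_lit 44])
noncomputable def r96 : WT := (.node (nat_lit 23) r95 (.leaf (nat_lit 38930) [nat_lit 396, nat_lit 264, nat_lit 396, nat_lit 44, nat_lit 308, nat_lit 132, nat_lit 242, nat_lit 66, nat_lit 110]))
noncomputable def r97 : WT := (.node (nat_lit 25) (.leaf (nat_lit 34827) [nat_lit 286, nat_lit 88, nat_lit 132, nat_lit 132, nat_lit 308, nat_lit 286, nat_lit 286]) (.leaf (nat_lit 34816) [nat_lit 264, nat_lit 88, nat_lit 264, nat_lit 264, nat_lit 330, nat_lit 154, nat_lit 154]))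
noncomputable def r98 : WT := (.node (nat_lit 27) (.leaf (nat_lit 37896) [nat_lit 286, nat_lit 110, nat_lit 396, nat_lit 132, nat_lit 396, nat_lit 132]) (.leaf (nat_lit 13314) [nat_lit 44, nat_lit 88, nat_lit 66, nat_lit 110, nat_lit 44, nat_lit 88, nat_lit 66, nat_lit 110, nat_lit 44, nat_lit 88, nat_lit 66]))
noncomputable def r99 : WT := (.leaf (nat_lit 46108) [nat_lit 110, nat_lit 66, nat_lit 176, nat_lit 396, nat_lit 110, nat_lit 220, nat_lit 66, nat_lit 396, nat_lit 66, nat_lit 396, nat_lit 66, nat_lit 352, nat_lit 308, nat_lit 132, nat_lit 88, nat_lit 44])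
noncomputable def r100 : WT := (.node (nat_lit 29) r99 (.leaf (nat_lit 38928) [nat_lit 110, nat_lit 396, nat_lit 264, nat_lit 396, nat_lit 44, nat_lit 308, nat_lit 132, nat_lit 242, nat_lit 66]))
noncomputable def r101 : WT := (.leaf (nat_lit 44053) [nat_lit 66, nat_lit 396, nat_lit 44, nat_lit 44, nat_lit 132, nat_lit 352, nat_lit 330, nat_lit 396, nat_lit 66, nat_lit 88, nat_lit 66, nat_lit 110])
noncomputable def r102 : WT := (.leaf (nat_lit 36865) [nat_lit 110, nat_lit 66, nat_lit 154, nat_lit 44, nat_lit 132, nat_lit 66, nat_lit 132, nat_lit 44, nat_lit 176, nat_lit 132, nat_lit 88, nat_lit 44, nat_lit 110, nat_lit 176, nat_lit 132, nat_lit 176, nat_lit 396])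
noncomputable def r103 : WT := (.leaf (nat_lit 42006) [nat_lit 66, nat_lit 396, nat_lit 44, nat_lit 44, nat_lit 396, nat_lit 308, nat_lit 374, nat_lit 154, nat_lit 66, nat_lit 88, nat_lit 66, nat_lit 110])
noncomputable def r104 : WT := (.leaf (nat_lit 36876) [nat_lit 154, nat_lit 198, nat_lit 66, nat_lit 154, nat_lit 44, nat_lit 154, nat_lit 66, nat_lit 132, nat_lit 44, nat_lit 88, nat_lit 88, nat_lit 396, nat_lit 198, nat_lit 154, nat_lit 198, nat_lit 88, nat_lit 66])
noncomputable def r105 : WT := (.node (nat_lit 32) (.node (nat_lit 31) r101 r102) (.node (nat_lit 33) r103 r104))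
noncomputable def r106 : WT := (.leaf (nat_lit 46110) [nat_lit 66, nat_lit 176, nat_lit 396, nat_lit 110, nat_lit 220, nat_lit 66, nat_lit 396, nat_lit 66, nat_lit 396, nat_lit 66, nat_lit 352, nat_lit 308, nat_lit 132, nat_lit 88, nat_lit 44, nat_lit 110])
noncomputable def r107 : WT := (.leaf (nat_lit 44042) [nat_lit 44, nat_lit 396, nat_lit 308, nat_lit 374, nat_lit 154, nat_lit 66, nat_lit 66, nat_lit 396, nat_lit 44, nat_lit 88, nat_lit 88, nat_lit 44])
noncomputable def r108 : WT := (.leaf (nat_lit 36867) [nat_lit 66, nat_lit 154, nat_lit 44, nat_lit 132, nat_lit 66, nat_lit 132, nat_lit 44, nat_lit 176, nat_lit 132, nat_lit 88, nat_lit 44, nat_lit 110, nat_lit 176, nat_lit 132, nat_lit 176, nat_lit 396, nat_lit 110])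
noncomputable def r109 : WT := (.leaf (nat_lit 46089) [nat_lit 154, nat_lit 330, nat_lit 374, nat_lit 44, nat_lit 396, nat_lit 44, nat_lit 396, nat_lit 44, nat_lit 242, nat_lit 88, nat_lit 396, nat_lit 198, nat_lit 44, nat_lit 88, nat_lit 88, nat_lit 66])
noncomputable def r110 : WT := (.node (nat_lit 36) (.node (nat_lit 35) r106 r107) (.node (nat_lit 37) (.leaf (nat_lit 39946) [nat_lit 110, nat_lit 396, nat_lit 308, nat_lit 396, nat_lit 330, nat_lit 264]) (.node (nat_lit 38) r108 r109)))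
noncomputable def r111 : WT := (.node (nat_lit 20) (.node (nat_lit 18) (.node (nat_lit 17) (.leaf (nat_lit 37900) [nat_lit 396, nat_lit 132, nat_lit 396, nat_lit 132, nat_lit 110, nat_lit 286]) (.leaf (nat_lit 39948) [nat_lit 396, nat_lit 308, nat_lit 396, nat_lit 330, nat_lit 264, nat_lit 110])) (.node (nat_lit 19) r92 r93)) (.node (nat_lit 26) (.node (nat_lit 22) (.node (nat_lit 21) r94 (.leaf (nat_lit 13313) [nat_lit 66, nat_lit 88, nat_lit 44, nat_lit 110, nat_lit 66, nat_lit 88, nat_lit 44, nat_lit 110, nat_lit 66, nat_lit 88, nat_lit 44])) (.node (nat_lit 24) r96 r97)) (.node (nat_lit 30) (.node (nat_lit 28) r98 r100) (.node (nat_lit 34) r105 r110))))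
noncomputable def w3 : WT := (.node (nat_lit 1) (.leaf (nat_lit 1026) [nat_lit 88]) (.node (nat_lit 7) (.node (nat_lit 4) (.node (nat_lit 2) (.leaf (nat_lit 16389) [nat_lit 330, nat_lit 88, nat_lit 132]) r87) (.node (nat_lit 5) (.leaf (nat_lit 12289) [nat_lit 66, nat_lit 66, nat_lit 88, nat_lit 44, nat_lit 44]) r88)) (.node (nat_lit 12) (.node (nat_lit 9) r89 r90) (.node (nat_lit 16) r91 r111))))
noncomputable def r112 : WT := (.node (nat_lit 3) (.leaf (nat_lit 15363) [nat_lit 88, nat_lit 286, nat_lit 110]) (.leaf (nat_lit 16387) [nat_lit 110, nat_lit 330, nat_lit 88]))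
noncomputable def r113 : WT := (.node (nat_lit 6) (.leaf (nat_lit 29702) [nat_lit 132, nat_lit 66, nat_lit 220, nat_lit 44]) (.leaf (nat_lit 37890) [nat_lit 396, nat_lit 132, nat_lit 110, nat_lit 286, nat_lit 110, nat_lit 396]))
noncomputable def r114 : WT := (.node (nat_lit 8) (.leaf (nat_lit 20487) [nat_lit 374, nat_lit 154, nat_lit 352]) (.node (nat_lit 9) (.leaf (nat_lit 20484) [nat_lit 352, nat_lit 154, nat_lit 374]) (.leaf (nat_lit 25604) [nat_lit 308, nat_lit 374, nat_lit 374, nat_lit 154, nat_lit 330])))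
noncomputable def r115 : WT := (.node (nat_lit 11) (.leaf (nat_lit 25611) [nat_lit 352, nat_lit 352, nat_lit 330, nat_lit 154, nat_lit 308]) (.node (nat_lit 12) (.leaf (nat_lit 17413) [nat_lit 220, nat_lit 374, nat_lit 154, nat_lit 242]) (.leaf (nat_lit 24580) [nat_lit 264, nat_lit 352, nat_lit 352, nat_lit 154, nat_lit 286])))
noncomputable def r116 : WT := (.node (nat_lit 15) (.node (nat_lit 14) (.leaf (nat_lit 29704) [nat_lit 66, nat_lit 220, nat_lit 44, nat_lit 132]) (.leaf (nat_lit 24587) [nat_lit 374, nat_lit 374, nat_lit 286, nat_lit 154, nat_lit 264])) (.node (nat_lit 16) (.leaf (nat_lit 40961) [nat_lit 286, nat_lit 132, nat_lit 330, nat_lit 396, nat_lit 374, nat_lit 396]) (.node (nat_lit 17) (.leaf (nat_lit 17416) [nat_lit 352, nat_lit 242, nat_lit 154, nat_lit 220]) (.leaf (nat_lit 31745) [nat_lit 242, nat_lit 286, nat_lit 308, nat_lit 132, nat_lit 308, nat_lit 66, nat_lit 330, nat_lit 44]))))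
noncomputable def r117 : WT := (.leaf (nat_lit 36895) [nat_lit 176, nat_lit 396, nat_lit 110, nat_lit 110, nat_lit 66, nat_lit 154, nat_lit 44, nat_lit 132, nat_lit 66, nat_lit 132, nat_lit 44, nat_lit 176, nat_lit 132, nat_lit 88, nat_lit 44, nat_lit 110, nat_lit 176])
noncomputable def r118 : WT := (.leaf (nat_lit 36885) [nat_lit 88, nat_lit 44, nat_lit 110, nat_lit 176, nat_lit 132, nat_lit 176, nat_lit 396, nat_lit 110, nat_lit 110, nat_lit 66, nat_lit 154, nat_lit 44, nat_lit 132, nat_lit 66, nat_lit 132, nat_lit 44, nat_lit 176])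
noncomputable def r119 : WT := (.leaf (nat_lit 41997) [nat_lit 352, nat_lit 330, nat_lit 396, nat_lit 66, nat_lit 66, nat_lit 396, nat_lit 44, nat_lit 88, nat_lit 88, nat_lit 44, nat_lit 110, nat_lit 44])
noncomputable def r120 : WT := (.node (nat_lit 28) (.leaf (nat_lit 31753) [nat_lit 308, nat_lit 66, nat_lit 330, nat_lit 44, nat_lit 132, nat_lit 242, nat_lit 286, nat_lit 308]) r119)
noncomputable def r121 : WT := (.leaf (nat_lit 36875) [nat_lit 66, nat_lit 132, nat_lit 44, nat_lit 176, nat_lit 132, nat_lit 88, nat_lit 44, nat_lit 110, nat_lit 176, nat_lit 132, nat_lit 176, nat_lit 396, nat_lit 110, nat_lit 110, nat_lit 66, nat_lit 154, nat_lit 44])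
noncomputable def r122 : WT := (.leaf (nat_lit 44037) [nat_lit 352, nat_lit 330, nat_lit 396, nat_lit 66, nat_lit 88, nat_lit 66, nat_lit 110, nat_lit 110, nat_lit 66, nat_lit 396, nat_lit 44, nat_lit 44])
noncomputable def r123 : WT := (.leaf (nat_lit 46102) [nat_lit 88, nat_lit 44, nat_lit 110, nat_lit 110, nat_lit 66, nat_lit 176, nat_lit 396, nat_lit 110, nat_lit 220, nat_lit 66, nat_lit 396, nat_lit 66, nat_lit 396, nat_lit 66, nat_lit 352, nat_lit 308])
noncomputable def r124 : WT := (.node (nat_lit 31) (.node (nat_lit 30) (.leaf (nat_lit 34819) [nat_lit 308, nat_lit 286, nat_lit 286, nat_lit 110, nat_lit 286, nat_lit 88, nat_lit 132]) r121) (.node (nat_lit 32) r122 r123))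
noncomputable def r125 : WT := (.node (nat_lit 22) (.node (nat_lit 20) (.node (nat_lit 19) r117 r118) (.node (nat_lit 21) (.leaf (nat_lit 37894) [nat_lit 110, nat_lit 286, nat_lit 110, nat_lit 396, nat_lit 132, nat_lit 396]) (.leaf (nat_lit 38922) [nat_lit 242, nat_lit 66, nat_lit 110, nat_lit 110, nat_lit 396, nat_lit 264, nat_lit 396, nat_lit 44, nat_lit 308]))) (.node (nat_lit 25) (.node (nat_lit 23) (.leaf (nat_lit 40965) [nat_lit 330, nat_lit 396, nat_lit 374, nat_lit 396, nat_lit 132, nat_lit 286]) (.node (nat_lit 24) (.leaf (nat_lit 33800) [nat_lit 308, nat_lit 286, nat_lit 242, nat_lit 110, nat_lit 220, nat_lit 88, nat_lit 308]) (.leaf (nat_lit 30725) [nat_lit 308, nat_lit 66, nat_lit 286, nat_lit 44, nat_lit 286, nat_lit 286]))) (.node (nat_lit 27) (.node (nat_lit 26) (.leaf (nat_lit 34817) [nat_lit 132, nat_lit 308, nat_lit 286, nat_lit 286, nat_lit 110, nat_lit 286, nat_lit 88]) (.leaf (nat_lit 43009) [nat_lit 286, nat_lit 330, nat_lit 330, nat_lit 396,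 nat_lit 110, nat_lit 396])) (.node (nat_lit 29) r120 r124))))
noncomputable def w4 : WT := (.node (nat_lit 1) (.leaf (nat_lit 2048) [nat_lit 154]) (.node (nat_lit 7) (.node (nat_lit 4) (.node (nat_lit 2) (.leaf (nat_lit 14339) [nat_lit 44, nat_lit 242, nat_lit 66]) r112) (.node (nat_lit 5) (.leaf (nat_lit 18432) [nat_lit 132, nat_lit 132, nat_lit 132, nat_lit 132]) r113)) (.node (nat_lit 13) (.node (nat_lit 10) r114 r115) (.node (nat_lit 18) r116 r125))))
noncomputable def r126 : WT := (.node (nat_lit 5) (.leaf (nat_lit 29697) [nat_lit 154, nat_lit 66, nat_lit 242, nat_lit 44]) (.leaf (nat_lit 18433) [nat_lit 154, nat_lit 154, nat_lit 154, nat_lit 154]))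
noncomputable def r127 : WT := (.node (nat_lit 7) (.leaf (nat_lit 37899) [nat_lit 396, nat_lit 88, nat_lit 264, nat_lit 88, nat_lit 154, nat_lit 396]) (.leaf (nat_lit 20483) [nat_lit 352, nat_lit 132, nat_lit 374]))
noncomputable def r128 : WT := (.node (nat_lit 9) (.leaf (nat_lit 20480) [nat_lit 374, nat_lit 132, nat_lit 352]) (.node (nat_lit 10) (.leaf (nat_lit 17412) [nat_lit 220, nat_lit 132, nat_lit 352, nat_lit 242]) (.leaf (nat_lit 25607) [nat_lit 308, nat_lit 132, nat_lit 352, nat_lit 352, nat_lit 330])))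
noncomputable def r129 : WT := (.leaf (nat_lit 36868) [nat_lit 198, nat_lit 88, nat_lit 66, nat_lit 110, nat_lit 154, nat_lit 198, nat_lit 66, nat_lit 154, nat_lit 44, nat_lit 154, nat_lit 66, nat_lit 132, nat_lit 44, nat_lit 88, nat_lit 88, nat_lit 396, nat_lit 198])
noncomputable def r130 : WT := (.node (nat_lit 13) (.node (nat_lit 12) (.leaf (nat_lit 24583) [nat_lit 264, nat_lit 132, nat_lit 374, nat_lit 374, nat_lit 286]) (.leaf (nat_lit 29699) [nat_lit 66, nat_lit 242, nat_lit 44, nat_lit 154])) (.node (nat_lit 14) (.leaf (nat_lit 40968) [nat_lit 264, nat_lit 154, nat_lit 396, nat_lit 352, nat_lit 396, nat_lit 308]) (.node (nat_lit 15) r129 (.leaf (nat_lit 37895) [nat_lit 396, nat_lit 154, nat_lit 396, nat_lit 88, nat_lit 264, nat_lit 88]))))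
noncomputable def r131 : WT := (.leaf (nat_lit 36878) [nat_lit 198, nat_lit 66, nat_lit 154, nat_lit 44, nat_lit 154, nat_lit 66, nat_lit 132, nat_lit 44, nat_lit 88, nat_lit 88, nat_lit 396, nat_lit 198, nat_lit 154, nat_lit 198, nat_lit 88, nat_lit 66, nat_lit 110])
noncomputable def r132 : WT := (.leaf (nat_lit 36888) [nat_lit 66, nat_lit 132, nat_lit 44, nat_lit 88, nat_lit 88, nat_lit 396, nat_lit 198, nat_lit 154, nat_lit 198, nat_lit 88, nat_lit 66, nat_lit 110, nat_lit 154, nat_lit 198, nat_lit 66, nat_lit 154, nat_lit 44])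
noncomputable def r133 : WT := (.node (nat_lit 27) r131 r132)
noncomputable def r134 : WT := (.leaf (nat_lit 46091) [nat_lit 330, nat_lit 374, nat_lit 44, nat_lit 396, nat_lit 44, nat_lit 396, nat_lit 44, nat_lit 242, nat_lit 88, nat_lit 396, nat_lit 198, nat_lit 44, nat_lit 88, nat_lit 88, nat_lit 66, nat_lit 110])
noncomputable def r135 : WT := (.leaf (nat_lit 41996) [nat_lit 66, nat_lit 88, nat_lit 66, nat_lit 110, nat_lit 110, nat_lit 66, nat_lit 396, nat_lit 44, nat_lit 44, nat_lit 396, nat_lit 308, nat_lit 374])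
noncomputable def r136 : WT := (.node (nat_lit 29) (.leaf (nat_lit 34830) [nat_lit 110, nat_lit 264, nat_lit 88, nat_lit 264, nat_lit 264, nat_lit 330, nat_lit 154]) (.node (nat_lit 30) r134 r135))
noncomputable def r137 : WT := (.node (nat_lit 20) (.node (nat_lit 18) (.node (nat_lit 17) (.leaf (nat_lit 40972) [nat_lit 396, nat_lit 352, nat_lit 396, nat_lit 308, nat_lit 154, nat_lit 264]) (.leaf (nat_lit 30728) [nat_lit 264, nat_lit 264, nat_lit 66, nat_lit 264, nat_lit 44, nat_lit 330])) (.node (nat_lit 19) (.leaf (nat_lit 31760) [nat_lit 66, nat_lit 308, nat_lit 44, nat_lit 330, nat_lit 154, nat_lit 330, nat_lit 264, nat_lit 220]) (.leaf (nat_lit 17409) [nat_lit 242, nat_lit 132, nat_lit 220, nat_lit 374]))) (.node (nat_lit 24) (.node (nat_lit 22) (.node (nat_lit 21) (.leaf (nat_lit 38921) [nat_lit 330, nat_lit 66, nat_lit 396, nat_lit 286, nat_lit 396, nat_lit 88, nat_lit 88, nat_lit 44, nat_lit 220]) (.leaf (nat_lit 24576) [nat_lit 286, nat_lit 132, nat_lit 264,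 nat_lit 352, nat_lit 352])) (.node (nat_lit 23) (.leaf (nat_lit 25600) [nat_lit 330, nat_lit 132, nat_lit 308, nat_lit 374, nat_lit 374]) (.leaf (nat_lit 33799) [nat_lit 330, nat_lit 110, nat_lit 242, nat_lit 88, nat_lit 220, nat_lit 264, nat_lit 330]))) (.node (nat_lit 26) (.node (nat_lit 25) (.leaf (nat_lit 43020) [nat_lit 396, nat_lit 88, nat_lit 396, nat_lit 308, nat_lit 308, nat_lit 264]) (.leaf (nat_lit 34828) [nat_lit 154, nat_lit 110, nat_lit 264, nat_lit 88, nat_lit 264, nat_lit 264, nat_lit 330])) (.node (nat_lit 28) r133 r136))))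
noncomputable def w5 : WT := (.node (nat_lit 1) (.leaf (nat_lit 2050) [nat_lit 132]) (.node (nat_lit 6) (.node (nat_lit 3) (.node (nat_lit 2) (.leaf (nat_lit 14340) [nat_lit 44, nat_lit 220, nat_lit 66]) (.leaf (nat_lit 15364) [nat_lit 88, nat_lit 264, nat_lit 110])) (.node (nat_lit 4) (.leaf (nat_lit 16388) [nat_lit 110, nat_lit 308, nat_lit 88]) r126)) (.node (nat_lit 11) (.node (nat_lit 8) r127 r128) (.node (nat_lit 16) r130 r137))))
noncomputable def r138 : WT := (.node (nat_lit 7) (.leaf (nat_lit 49163) [nat_lit 44, nat_lit 44, nat_lit 44, nat_lit 198, nat_lit 66]) (.leaf (nat_lit 51204) [nat_lit 374, nat_lit 176, nat_lit 352, nat_lit 66, nat_lit 66, nat_lit 176, nat_lit 352]))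
noncomputable def r139 : WT := (.leaf (nat_lit 36897) [nat_lit 396, nat_lit 110, nat_lit 110, nat_lit 66, nat_lit 154, nat_lit 44, nat_lit 132, nat_lit 66, nat_lit 132, nat_lit 44, nat_lit 176, nat_lit 132, nat_lit 88, nat_lit 44, nat_lit 110, nat_lit 176, nat_lit 132])
noncomputable def r140 : WT := (.leaf (nat_lit 46080) [nat_lit 396, nat_lit 110, nat_lit 220, nat_lit 66, nat_lit 396, nat_lit 66, nat_lit 396, nat_lit 66, nat_lit 352, nat_lit 308, nat_lit 132, nat_lit 88, nat_lit 44, nat_lit 110, nat_lit 110, nat_lit 66])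
noncomputable def r141 : WT := (.leaf (nat_lit 36893) [nat_lit 132, nat_lit 176, nat_lit 396, nat_lit 110, nat_lit 110, nat_lit 66, nat_lit 154, nat_lit 44, nat_lit 132, nat_lit 66, nat_lit 132, nat_lit 44, nat_lit 176, nat_lit 132, nat_lit 88, nat_lit 44, nat_lit 110])
noncomputable def r142 : WT := (.leaf (nat_lit 36883) [nat_lit 132, nat_lit 88, nat_lit 44, nat_lit 110, nat_lit 176, nat_lit 132, nat_lit 176, nat_lit 396, nat_lit 110, nat_lit 110, nat_lit 66, nat_lit 154, nat_lit 44, nat_lit 132, nat_lit 66, nat_lit 132, nat_lit 44])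
noncomputable def r143 : WT := (.node (nat_lit 10) (.node (nat_lit 9) (.leaf (nat_lit 51208) [nat_lit 352, nat_lit 66, nat_lit 66, nat_lit 176, nat_lit 352, nat_lit 176, nat_lit 374]) r139) (.node (nat_lit 12) (.node (nat_lit 11) (.leaf (nat_lit 51200) [nat_lit 352, nat_lit 176, nat_lit 374, nat_lit 176, nat_lit 352, nat_lit 66, nat_lit 66]) r140) (.node (nat_lit 13) (.leaf (nat_lit 50176) [nat_lit 352, nat_lit 176, nat_lit 352, nat_lit 176, nat_lit 352, nat_lit 176, nat_lit 352, nat_lit 176, nat_lit 352]) (.node (nat_lit 14) r141 r142))))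
noncomputable def w6 : WT := (.node (nat_lit 1) (.leaf (nat_lit 3072) [nat_lit 198]) (.node (nat_lit 4) (.node (nat_lit 2) (.leaf (nat_lit 48134) [nat_lit 110, nat_lit 198, nat_lit 88]) (.node (nat_lit 3) (.leaf (nat_lit 48133) [nat_lit 88, nat_lit 198, nat_lit 110]) (.leaf (nat_lit 47104) [nat_lit 176, nat_lit 66, nat_lit 66, nat_lit 66, nat_lit 66]))) (.node (nat_lit 6) (.node (nat_lit 5) (.leaf (nat_lit 49156) [nat_lit 66, nat_lit 66, nat_lit 66, nat_lit 198, nat_lit 44]) (.leaf (nat_lit 47106) [nat_lit 66, nat_lit 66, nat_lit 66, nat_lit 66, nat_lit 176])) (.node (nat_lit 8) r138 r143))))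
noncomputable def r144 : WT := (.node (nat_lit 6) (.leaf (nat_lit 49152) [nat_lit 44, nat_lit 176, nat_lit 66, nat_lit 66, nat_lit 66]) (.leaf (nat_lit 49159) [nat_lit 66, nat_lit 176, nat_lit 44, nat_lit 44, nat_lit 44]))
noncomputable def r145 : WT := (.node (nat_lit 8) (.leaf (nat_lit 51211) [nat_lit 374, nat_lit 198, nat_lit 44, nat_lit 44, nat_lit 374, nat_lit 198, nat_lit 352]) (.leaf (nat_lit 51207) [nat_lit 352, nat_lit 198, nat_lit 374, nat_lit 198, nat_lit 44, nat_lit 44, nat_lit 374]))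
noncomputable def r146 : WT := (.leaf (nat_lit 46113) [nat_lit 44, nat_lit 88, nat_lit 88, nat_lit 66, nat_lit 110, nat_lit 154, nat_lit 330, nat_lit 374, nat_lit 44, nat_lit 396, nat_lit 44, nat_lit 396, nat_lit 44, nat_lit 242, nat_lit 88, nat_lit 396])
noncomputable def r147 : WT := (.leaf (nat_lit 36870) [nat_lit 88, nat_lit 66, nat_lit 110, nat_lit 154, nat_lit 198, nat_lit 66, nat_lit 154, nat_lit 44, nat_lit 154, nat_lit 66, nat_lit 132, nat_lit 44, nat_lit 88, nat_lit 88, nat_lit 396, nat_lit 198, nat_lit 154])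
noncomputable def r148 : WT := (.leaf (nat_lit 36866) [nat_lit 154, nat_lit 198, nat_lit 88, nat_lit 66, nat_lit 110, nat_lit 154, nat_lit 198, nat_lit 66, nat_lit 154, nat_lit 44, nat_lit 154, nat_lit 66, nat_lit 132, nat_lit 44, nat_lit 88, nat_lit 88, nat_lit 396])
noncomputable def r149 : WT := (.leaf (nat_lit 36880) [nat_lit 66, nat_lit 154, nat_lit 44, nat_lit 154, nat_lit 66, nat_lit 132, nat_lit 44, nat_lit 88, nat_lit 88, nat_lit 396, nat_lit 198, nat_lit 154, nat_lit 198, nat_lit 88, nat_lit 66, nat_lit 110, nat_lit 154])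
noncomputable def r150 : WT := (.node (nat_lit 11) (.node (nat_lit 10) r146 r147) (.node (nat_lit 13) (.node (nat_lit 12) (.leaf (nat_lit 51215) [nat_lit 44, nat_lit 44, nat_lit 374, nat_lit 198, nat_lit 352, nat_lit 198, nat_lit 374]) r148) (.node (nat_lit 14) (.leaf (nat_lit 50179) [nat_lit 374, nat_lit 198, nat_lit 374, nat_lit 198, nat_lit 374, nat_lit 198, nat_lit 374, nat_lit 198, nat_lit 374]) r149)))
noncomputable def w7 : WT := (.node (nat_lit 1) (.leaf (nat_lit 3074) [nat_lit 176]) (.node (nat_lit 4) (.node (nat_lit 2) (.leaf (nat_lit 48129) [nat_lit 110, nat_lit 176, nat_lit 88]) (.node (nat_lit 3) (.leaf (nat_lit 48130) [nat_lit 88, nat_lit 176, nat_lit 110]) (.leaf (nat_lit 47113) [nat_lit 198, nat_lit 44, nat_lit 44, nat_lit 44, nat_lit 44]))) (.node (nat_lit 7) (.node (nat_lit 5) (.leaf (nat_lit 47115) [nat_lit 44, nat_lit 44, nat_lit 44, nat_lit 44, nat_lit 198]) r144) (.node (nat_lit 9) r145 r150))))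
noncomputable def r151 : WT := (.node (nat_lit 5) (.leaf (nat_lit 27655) [nat_lit 330, nat_lit 242, nat_lit 308]) (.leaf (nat_lit 27652) [nat_lit 308, nat_lit 242, nat_lit 330]))
noncomputable def r152 : WT := (.node (nat_lit 7) (.leaf (nat_lit 21508) [nat_lit 352, nat_lit 242, nat_lit 374]) (.leaf (nat_lit 26628) [nat_lit 264, nat_lit 352, nat_lit 242, nat_lit 286]))
noncomputable def r153 : WT := (.node (nat_lit 9) (.leaf (nat_lit 17415) [nat_lit 374, nat_lit 154, nat_lit 242, nat_lit 132]) (.leaf (nat_lit 33794) [nat_lit 88, nat_lit 308, nat_lit 132, nat_lit 308, nat_lit 286, nat_lit 242, nat_lit 110]))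
noncomputable def r154 : WT := (.node (nat_lit 11) (.leaf (nat_lit 21511) [nat_lit 374, nat_lit 242, nat_lit 352]) (.leaf (nat_lit 33793) [nat_lit 264, nat_lit 330, nat_lit 154, nat_lit 330, nat_lit 110, nat_lit 242, nat_lit 88]))
noncomputable def r155 : WT := (.leaf (nat_lit 46086) [nat_lit 66, nat_lit 396, nat_lit 66, nat_lit 396, nat_lit 66, nat_lit 352, nat_lit 308, nat_lit 132, nat_lit 88, nat_lit 44, nat_lit 110, nat_lit 110, nat_lit 66, nat_lit 176, nat_lit 396, nat_lit 110])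
noncomputable def r156 : WT := (.node (nat_lit 14) (.node (nat_lit 13) (.leaf (nat_lit 45058) [nat_lit 396, nat_lit 242, nat_lit 396, nat_lit 220, nat_lit 330, nat_lit 44, nat_lit 264, nat_lit 44, nat_lit 44, nat_lit 44, nat_lit 396]) (.leaf (nat_lit 26633) [nat_lit 374, nat_lit 286, nat_lit 242, nat_lit 264])) (.node (nat_lit 16) (.node (nat_lit 15) (.leaf (nat_lit 45066) [nat_lit 330, nat_lit 44, nat_lit 264, nat_lit 44, nat_lit 44, nat_lit 44, nat_lit 396, nat_lit 220, nat_lit 396, nat_lit 242, nat_lit 396]) (.leaf (nat_lit 45073) [nat_lit 396, nat_lit 242, nat_lit 396, nat_lit 66, nat_lit 66, nat_lit 66, nat_lit 286, nat_lit 66, nat_lit 308, nat_lit 242, nat_lit 396])) (.node (nat_lit 17) (.leaf (nat_lit 31758) [nat_lit 154, nat_lit 66, nat_lit 308, nat_lit 44, nat_lit 330, nat_lit 154, nat_lit 330, nat_lit 264]) (.node (nat_lit 18) (.leaf (nat_lit 38919) [nat_lit 154, nat_lit 330, nat_lit 66, nat_lit 396, nat_lit 286, nat_lit 396, nat_lit 88, nat_lit 88, nat_lit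 44]) r155))))
noncomputable def w8 : WT := (.node (nat_lit 1) (.leaf (nat_lit 4096) [nat_lit 242]) (.node (nat_lit 6) (.node (nat_lit 3) (.node (nat_lit 2) (.leaf (nat_lit 14336) [nat_lit 66, nat_lit 154, nat_lit 44]) (.leaf (nat_lit 29698) [nat_lit 44, nat_lit 132, nat_lit 132, nat_lit 66])) (.node (nat_lit 4) (.leaf (nat_lit 17414) [nat_lit 132, nat_lit 352, nat_lit 242, nat_lit 154]) r151)) (.node (nat_lit 10) (.node (nat_lit 8) r152 r153) (.node (nat_lit 12) r154 r156))))
noncomputable def r157 : WT := (.node (nat_lit 6) (.leaf (nat_lit 27648) [nat_lit 330, nat_lit 220, nat_lit 308]) (.leaf (nat_lit 21507) [nat_lit 352, nat_lit 220, nat_lit 374]))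
noncomputable def r158 : WT := (.node (nat_lit 8) (.leaf (nat_lit 21504) [nat_lit 374, nat_lit 220, nat_lit 352]) (.leaf (nat_lit 26629) [nat_lit 264, nat_lit 220, nat_lit 374, nat_lit 286]))
noncomputable def r159 : WT := (.node (nat_lit 10) (.leaf (nat_lit 45062) [nat_lit 396, nat_lit 220, nat_lit 330, nat_lit 44, nat_lit 264, nat_lit 44, nat_lit 44, nat_lit 44, nat_lit 396, nat_lit 220, nat_lit 396]) (.leaf (nat_lit 33805) [nat_lit 88, nat_lit 220, nat_lit 264, nat_lit 330, nat_lit 154, nat_lit 330, nat_lit 110]))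
noncomputable def r160 : WT := (.leaf (nat_lit 46107) [nat_lit 88, nat_lit 396, nat_lit 198, nat_lit 44, nat_lit 88, nat_lit 88, nat_lit 66, nat_lit 110, nat_lit 154, nat_lit 330, nat_lit 374, nat_lit 44, nat_lit 396, nat_lit 44, nat_lit 396, nat_lit 44])
noncomputable def r161 : WT := (.node (nat_lit 18) (.leaf (nat_lit 45069) [nat_lit 396, nat_lit 220, nat_lit 396, nat_lit 242, nat_lit 396, nat_lit 66, nat_lit 66, nat_lit 66, nat_lit 286, nat_lit 66, nat_lit 308]) r160)
noncomputable def r162 : WT := (.node (nat_lit 13) (.node (nat_lit 12) (.leaf (nat_lit 31747) [nat_lit 286, nat_lit 308, nat_lit 132, nat_lit 308, nat_lit 66, nat_lit 330, nat_lit 44, nat_lit 132]) (.leaf (nat_lit 17410) [nat_lit 154, nat_lit 220, nat_lit 132, nat_lit 352])) (.node (nat_lit 15) (.node (nat_lit 14) (.leaf (nat_lit 26624) [nat_lit 286, nat_lit 220, nat_lit 264, nat_lit 352]) (.leaf (nat_lit 45077) [nat_lit 396, nat_lit 66, nat_lit 66, nat_lit 66, nat_lit 286, nat_lit 66, nat_lit 308,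 nat_lit 242, nat_lit 396, nat_lit 220, nat_lit 396])) (.node (nat_lit 16) (.leaf (nat_lit 33806) [nat_lit 110, nat_lit 220, nat_lit 88, nat_lit 308, nat_lit 132, nat_lit 308, nat_lit 286]) (.node (nat_lit 17) (.leaf (nat_lit 38924) [nat_lit 66, nat_lit 110, nat_lit 110, nat_lit 396, nat_lit 264, nat_lit 396, nat_lit 44, nat_lit 308, nat_lit 132]) r161))))
noncomputable def w9 : WT := (.node (nat_lit 1) (.leaf (nat_lit 4098) [nat_lit 220]) (.node (nat_lit 5) (.node (nat_lit 3) (.node (nat_lit 2) (.leaf (nat_lit 14343) [nat_lit 66, nat_lit 132, nat_lit 44]) (.leaf (nat_lit 29703) [nat_lit 44, nat_lit 154, nat_lit 154, nat_lit 66])) (.node (nat_lit 4) (.leaf (nat_lit 27651) [nat_lit 308, nat_lit 220, nat_lit 330]) (.leaf (nat_lit 17411) [nat_lit 132, nat_lit 220, nat_lit 374, nat_lit 154]))) (.node (nat_lit 9) (.node (nat_lit 7) r157 r158) (.node (nat_lit 11) r159 r162))))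
noncomputable def r163 : WT := (.node (nat_lit 5) (.leaf (nat_lit 28676) [nat_lit 308, nat_lit 352, nat_lit 286, nat_lit 330]) (.leaf (nat_lit 24585) [nat_lit 132, nat_lit 374, nat_lit 374, nat_lit 286, nat_lit 154]))
noncomputable def r164 : WT := (.node (nat_lit 7) (.leaf (nat_lit 22532) [nat_lit 352, nat_lit 286, nat_lit 374]) (.leaf (nat_lit 38914) [nat_lit 396, nat_lit 44, nat_lit 308, nat_lit 132, nat_lit 242, nat_lit 66, nat_lit 110, nat_lit 110, nat_lit 396]))
noncomputable def r165 : WT := (.node (nat_lit 9) (.leaf (nat_lit 26631) [nat_lit 220, nat_lit 374, nat_lit 286, nat_lit 242]) (.node (nat_lit 10) (.leaf (nat_lit 28681) [nat_lit 374, nat_lit 330, nat_lit 286, nat_lit 308]) (.leaf (nat_lit 45072) [nat_lit 44, nat_lit 44, nat_lit 44, nat_lit 396, nat_lit 220, nat_lit 396, nat_lit 242, nat_lit 396, nat_lit 220, nat_lit 330, nat_lit 44])))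
noncomputable def r166 : WT := (.node (nat_lit 13) (.node (nat_lit 12) (.leaf (nat_lit 24582) [nat_lit 352, nat_lit 352, nat_lit 154, nat_lit 286, nat_lit 132]) (.leaf (nat_lit 30732) [nat_lit 66, nat_lit 264, nat_lit 44, nat_lit 330, nat_lit 154, nat_lit 264])) (.node (nat_lit 14) (.leaf (nat_lit 34818) [nat_lit 88, nat_lit 264, nat_lit 264, nat_lit 330, nat_lit 154, nat_lit 154, nat_lit 110]) (.leaf (nat_lit 26630) [nat_lit 352, nat_lit 242, nat_lit 286, nat_lit 220])))
noncomputable def r167 : WT := (.node (nat_lit 18) (.node (nat_lit 16) (.leaf (nat_lit 40970) [nat_lit 154, nat_lit 396, nat_lit 352, nat_lit 396, nat_lit 308, nat_lit 154]) (.node (nat_lit 17) (.leaf (nat_lit 30730) [nat_lit 264, nat_lit 66, nat_lit 264, nat_lit 44, nat_lit 330, nat_lit 154]) (.leaf (nat_lit 34824) [nat_lit 330, nat_lit 154, nat_lit 154, nat_lit 110, nat_lit 264, nat_lit 88, nat_lit 264]))) (.node (nat_lit 20) (.node (nat_lit 19) (.leaf (nat_lit 37891) [nat_lit 88, nat_lit 154,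 nat_lit 396, nat_lit 154, nat_lit 396, nat_lit 88]) (.leaf (nat_lit 39944) [nat_lit 110, nat_lit 110, nat_lit 396, nat_lit 308, nat_lit 396, nat_lit 330])) (.node (nat_lit 22) (.node (nat_lit 21) (.leaf (nat_lit 43018) [nat_lit 154, nat_lit 396, nat_lit 88, nat_lit 396, nat_lit 308, nat_lit 308]) (.leaf (nat_lit 33795) [nat_lit 330, nat_lit 154, nat_lit 330, nat_lit 110, nat_lit 242, nat_lit 88, nat_lit 220])) (.node (nat_lit 23) (.leaf (nat_lit 31756) [nat_lit 220, nat_lit 154, nat_lit 66, nat_lit 308, nat_lit 44, nat_lit 330, nat_lit 154, nat_lit 330]) (.leaf (nat_lit 34822) [nat_lit 264, nat_lit 330, nat_lit 154, nat_lit 154, nat_lit 110, nat_lit 264, nat_lit 88])))))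
noncomputable def w10 : WT := (.node (nat_lit 1) (.leaf (nat_lit 5120) [nat_lit 286]) (.node (nat_lit 6) (.node (nat_lit 3) (.node (nat_lit 2) (.leaf (nat_lit 15360) [nat_lit 110, nat_lit 154, nat_lit 88]) (.leaf (nat_lit 30722) [nat_lit 44, nat_lit 330, nat_lit 154, nat_lit 264, nat_lit 264, nat_lit 66])) (.node (nat_lit 4) (.leaf (nat_lit 22535) [nat_lit 374, nat_lit 286, nat_lit 352]) r163)) (.node (nat_lit 11) (.node (nat_lit 8) r164 r165) (.node (nat_lit 15) r166 r167))))
noncomputable def r168 : WT := (.node (nat_lit 3) (.leaf (nat_lit 30731) [nat_lit 44, nat_lit 286, nat_lit 286, nat_lit 132, nat_lit 308, nat_lit 66]) (.leaf (nat_lit 30721) [nat_lit 286, nat_lit 132, nat_lit 308, nat_lit 66, nat_lit 286, nat_lit 44]))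
noncomputable def r169 : WT := (.node (nat_lit 6) (.leaf (nat_lit 22528) [nat_lit 374, nat_lit 264, nat_lit 352]) (.leaf (nat_lit 26626) [nat_lit 220, nat_lit 264, nat_lit 352, nat_lit 242]))
noncomputable def r170 : WT := (.node (nat_lit 8) (.leaf (nat_lit 22531) [nat_lit 352, nat_lit 264, nat_lit 374]) (.leaf (nat_lit 28677) [nat_lit 308, nat_lit 264, nat_lit 374, nat_lit 330]))
noncomputable def r171 : WT := (.node (nat_lit 10) (.leaf (nat_lit 38929) [nat_lit 396, nat_lit 88, nat_lit 88, nat_lit 44, nat_lit 220, nat_lit 154, nat_lit 330, nat_lit 66, nat_lit 396]) (.node (nat_lit 11) (.leaf (nat_lit 37898) [nat_lit 110, nat_lit 396, nat_lit 132, nat_lit 396, nat_lit 132, nat_lit 110]) (.leaf (nat_lit 40963) [nat_lit 132, nat_lit 330, nat_lit 396, nat_lit 374, nat_lit 396, nat_lit 132])))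
noncomputable def r172 : WT := (.node (nat_lit 14) (.node (nat_lit 13) (.leaf (nat_lit 26627) [nat_lit 242, nat_lit 264, nat_lit 220, nat_lit 374]) (.leaf (nat_lit 34829) [nat_lit 88, nat_lit 132, nat_lit 132, nat_lit 308, nat_lit 286, nat_lit 286, nat_lit 110])) (.node (nat_lit 15) (.leaf (nat_lit 33804) [nat_lit 242, nat_lit 110, nat_lit 220, nat_lit 88, nat_lit 308, nat_lit 132, nat_lit 308]) (.leaf (nat_lit 30723) [nat_lit 132, nat_lit 308, nat_lit 66, nat_lit 286, nat_lit 44, nat_lit 286])))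
noncomputable def r173 : WT := (.node (nat_lit 19) (.node (nat_lit 17) (.leaf (nat_lit 28672) [nat_lit 330, nat_lit 264, nat_lit 308, nat_lit 352]) (.node (nat_lit 18) (.leaf (nat_lit 34823) [nat_lit 286, nat_lit 110, nat_lit 286, nat_lit 88, nat_lit 132, nat_lit 132, nat_lit 308]) (.leaf (nat_lit 24581) [nat_lit 154, nat_lit 264, nat_lit 132, nat_lit 374, nat_lit 374]))) (.node (nat_lit 21) (.node (nat_lit 20) (.leaf (nat_lit 43011) [nat_lit 330, nat_lit 330, nat_lit 396, nat_lit 110, nat_lit 396, nat_lit 132]) (.leaf (nat_lit 34825) [nat_lit 110, nat_lit 286, nat_lit 88, nat_lit 132, nat_lit 132, nat_lit 308, nat_lit 286])) (.node (nat_lit 22) (.leaf (nat_lit 45063) [nat_lit 66, nat_lit 308, nat_lit 242, nat_lit 396, nat_lit 220, nat_lit 396, nat_lit 242, nat_lit 396, nat_lit 66, nat_lit 66, nat_lit 66]) (.node (nat_lit 23) (.leaf (nat_lit 39941) [nat_lit 308, nat_lit 396, nat_lit 330, nat_lit 396, nat_lit 88, nat_lit 88]) (.leaf (nat_lit 31749) [nat_lit 308, nat_lit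 132, nat_lit 308, nat_lit 66, nat_lit 330, nat_lit 44, nat_lit 132, nat_lit 242])))))
noncomputable def w11 : WT := (.node (nat_lit 1) (.leaf (nat_lit 5122) [nat_lit 264]) (.node (nat_lit 7) (.node (nat_lit 4) (.node (nat_lit 2) (.leaf (nat_lit 15367) [nat_lit 110, nat_lit 132, nat_lit 88]) r168) (.node (nat_lit 5) (.leaf (nat_lit 24578) [nat_lit 132, nat_lit 264, nat_lit 352, nat_lit 352, nat_lit 154]) r169)) (.node (nat_lit 12) (.node (nat_lit 9) r170 r171) (.node (nat_lit 16) r172 r173))))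
noncomputable def r174 : WT := (.node (nat_lit 4) (.leaf (nat_lit 27653) [nat_lit 220, nat_lit 330, nat_lit 242]) (.leaf (nat_lit 25609) [nat_lit 132, nat_lit 352, nat_lit 352, nat_lit 330, nat_lit 154]))
noncomputable def r175 : WT := (.node (nat_lit 6) (.leaf (nat_lit 23556) [nat_lit 352, nat_lit 330, nat_lit 374]) (.leaf (nat_lit 23559) [nat_lit 374, nat_lit 330, nat_lit 352]))
noncomputable def r176 : WT := (.node (nat_lit 8) (.leaf (nat_lit 28679) [nat_lit 264, nat_lit 374, nat_lit 330, nat_lit 286]) (.leaf (nat_lit 31746) [nat_lit 44, nat_lit 330, nat_lit 154, nat_lit 330, nat_lit 264, nat_lit 220, nat_lit 154, nat_lit 66]))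
noncomputable def r177 : WT := (.node (nat_lit 10) (.leaf (nat_lit 27654) [nat_lit 242, nat_lit 330, nat_lit 220]) (.node (nat_lit 11) (.leaf (nat_lit 25606) [nat_lit 374, nat_lit 374, nat_lit 154, nat_lit 330, nat_lit 132]) (.leaf (nat_lit 38920) [nat_lit 132, nat_lit 242, nat_lit 66, nat_lit 110, nat_lit 110, nat_lit 396, nat_lit 264, nat_lit 396, nat_lit 44])))
noncomputable def r178 : WT := (.node (nat_lit 14) (.node (nat_lit 13) (.leaf (nat_lit 40966) [nat_lit 154, nat_lit 264, nat_lit 154, nat_lit 396, nat_lit 352, nat_lit 396]) (.leaf (nat_lit 33798) [nat_lit 132, nat_lit 308, nat_lit 286, nat_lit 242, nat_lit 110, nat_lit 220, nat_lit 88])) (.node (nat_lit 15) (.leaf (nat_lit 30727) [nat_lit 66, nat_lit 286, nat_lit 44, nat_lit 286, nat_lit 286, nat_lit 132]) (.leaf (nat_lit 28678) [nat_lit 352, nat_lit 286, nat_lit 330, nat_lit 264])))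
noncomputable def r179 : WT := (.node (nat_lit 23) (.leaf (nat_lit 31755) [nat_lit 66, nat_lit 330, nat_lit 44, nat_lit 132, nat_lit 242, nat_lit 286, nat_lit 308, nat_lit 132]) (.leaf (nat_lit 31751) [nat_lit 132, nat_lit 308, nat_lit 66, nat_lit 330, nat_lit 44, nat_lit 132, nat_lit 242, nat_lit 286]))
noncomputable def r180 : WT := (.leaf (nat_lit 41992) [nat_lit 374, nat_lit 154, nat_lit 66, nat_lit 88, nat_lit 66, nat_lit 110, nat_lit 110, nat_lit 66, nat_lit 396, nat_lit 44, nat_lit 44, nat_lit 396])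
noncomputable def r181 : WT := (.leaf (nat_lit 44048) [nat_lit 374, nat_lit 154, nat_lit 66, nat_lit 66, nat_lit 396, nat_lit 44, nat_lit 88, nat_lit 88, nat_lit 44, nat_lit 110, nat_lit 44, nat_lit 396])
noncomputable def r182 : WT := (.leaf (nat_lit 46100) [nat_lit 132, nat_lit 88, nat_lit 44, nat_lit 110, nat_lit 110, nat_lit 66, nat_lit 176, nat_lit 396, nat_lit 110, nat_lit 220, nat_lit 66, nat_lit 396, nat_lit 66, nat_lit 396, nat_lit 66, nat_lit 352])
noncomputable def r183 : WT := (.node (nat_lit 25) r180 (.node (nat_lit 26) r181 r182))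
noncomputable def r184 : WT := (.node (nat_lit 18) (.node (nat_lit 17) (.leaf (nat_lit 43014) [nat_lit 308, nat_lit 264, nat_lit 154, nat_lit 396, nat_lit 88, nat_lit 396]) (.leaf (nat_lit 43016) [nat_lit 264, nat_lit 154, nat_lit 396, nat_lit 88, nat_lit 396, nat_lit 308])) (.node (nat_lit 20) (.node (nat_lit 19) (.leaf (nat_lit 39943) [nat_lit 396, nat_lit 330, nat_lit 396, nat_lit 88, nat_lit 88, nat_lit 286]) (.leaf (nat_lit 33802) [nat_lit 286, nat_lit 242, nat_lit 110, nat_lit 220, nat_lit 88, nat_lit 308, nat_lit 132])) (.node (nat_lit 22) (.node (nat_lit 21) (.leaf (nat_lit 45067) [nat_lit 242, nat_lit 396, nat_lit 220, nat_lit 396, nat_lit 242, nat_lit 396, nat_lit 66, nat_lit 66, nat_lit 66, nat_lit 286, nat_lit 66]) (.leaf (nat_lit 34821) [nat_lit 286, nat_lit 286, nat_lit 110, nat_lit 286, nat_lit 88, nat_lit 132, nat_lit 132])) (.node (nat_lit 24) r179 r183))))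
noncomputable def w12 : WT := (.node (nat_lit 1) (.leaf (nat_lit 6144) [nat_lit 330]) (.node (nat_lit 7) (.node (nat_lit 3) (.node (nat_lit 2) (.leaf (nat_lit 16384) [nat_lit 88, nat_lit 154, nat_lit 110]) (.leaf (nat_lit 39938) [nat_lit 396, nat_lit 330, nat_lit 264, nat_lit 110, nat_lit 110, nat_lit 396])) (.node (nat_lit 5) r174 r175)) (.node (nat_lit 12) (.node (nat_lit 9) r176 r177) (.node (nat_lit 16) r178 r184))))
noncomputable def r185 : WT := (.node (nat_lit 4) (.leaf (nat_lit 39947) [nat_lit 396, nat_lit 88, nat_lit 88, nat_lit 286, nat_lit 308, nat_lit 396]) (.leaf (nat_lit 31759) [nat_lit 44, nat_lit 132, nat_lit 242, nat_lit 286, nat_lit 308, nat_lit 132, nat_lit 308, nat_lit 66]))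
noncomputable def r186 : WT := (.node (nat_lit 6) (.leaf (nat_lit 23552) [nat_lit 374, nat_lit 308, nat_lit 352]) (.leaf (nat_lit 23555) [nat_lit 352, nat_lit 308, nat_lit 374]))
noncomputable def r187 : WT := (.node (nat_lit 8) (.leaf (nat_lit 27650) [nat_lit 220, nat_lit 308, nat_lit 242]) (.leaf (nat_lit 27649) [nat_lit 242, nat_lit 308, nat_lit 220]))
noncomputable def r188 : WT := (.node (nat_lit 10) (.leaf (nat_lit 28674) [nat_lit 264, nat_lit 308, nat_lit 352, nat_lit 286]) (.leaf (nat_lit 30726) [nat_lit 154, nat_lit 264, nat_lit 264, nat_lit 66, nat_lit 264, nat_lit 44]))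
noncomputable def r189 : WT := (.node (nat_lit 12) (.leaf (nat_lit 39942) [nat_lit 264, nat_lit 110, nat_lit 110, nat_lit 396, nat_lit 308, nat_lit 396]) (.node (nat_lit 13) (.leaf (nat_lit 40967) [nat_lit 396, nat_lit 374, nat_lit 396, nat_lit 132, nat_lit 286, nat_lit 132]) (.leaf (nat_lit 43015) [nat_lit 396, nat_lit 110, nat_lit 396, nat_lit 132, nat_lit 286, nat_lit 330])))
noncomputable def r190 : WT := (.leaf (nat_lit 42001) [nat_lit 396, nat_lit 66, nat_lit 66, nat_lit 396, nat_lit 44, nat_lit 88, nat_lit 88, nat_lit 44, nat_lit 110, nat_lit 44, nat_lit 132, nat_lit 352])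
noncomputable def r191 : WT := (.leaf (nat_lit 44041) [nat_lit 396, nat_lit 66, nat_lit 88, nat_lit 66, nat_lit 110, nat_lit 110, nat_lit 66, nat_lit 396, nat_lit 44, nat_lit 44, nat_lit 132, nat_lit 352])
noncomputable def r192 : WT := (.leaf (nat_lit 46093) [nat_lit 374, nat_lit 44, nat_lit 396, nat_lit 44, nat_lit 396, nat_lit 44, nat_lit 242, nat_lit 88, nat_lit 396, nat_lit 198, nat_lit 44, nat_lit 88, nat_lit 88, nat_lit 66, nat_lit 110, nat_lit 154])
noncomputable def r193 : WT := (.node (nat_lit 24) (.leaf (nat_lit 45068) [nat_lit 44, nat_lit 264, nat_lit 44, nat_lit 44, nat_lit 44, nat_lit 396, nat_lit 220, nat_lit 396, nat_lit 242, nat_lit 396, nat_lit 220]) (.node (nat_lit 25) r190 (.node (nat_lit 26) r191 r192)))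
noncomputable def r194 : WT := (.node (nat_lit 18) (.node (nat_lit 16) (.node (nat_lit 15) (.leaf (nat_lit 28675) [nat_lit 286, nat_lit 308, nat_lit 264, nat_lit 374]) (.leaf (nat_lit 33797) [nat_lit 154, nat_lit 330, nat_lit 110, nat_lit 242, nat_lit 88, nat_lit 220, nat_lit 264])) (.node (nat_lit 17) (.leaf (nat_lit 25605) [nat_lit 154, nat_lit 308, nat_lit 132, nat_lit 352, nat_lit 352]) (.leaf (nat_lit 38923) [nat_lit 66, nat_lit 396, nat_lit 286, nat_lit 396, nat_lit 88, nat_lit 88, nat_lit 44, nat_lit 220, nat_lit 154]))) (.node (nat_lit 20) (.node (nat_lit 19) (.leaf (nat_lit 31750) [nat_lit 154, nat_lit 330, nat_lit 264, nat_lit 220, nat_lit 154, nat_lit 66, nat_lit 308, nat_lit 44]) (.leaf (nat_lit 33801) [nat_lit 110, nat_lit 242, nat_lit 88, nat_lit 220, nat_lit 264, nat_lit 330, nat_lit 154])) (.node (nat_lit 22) (.node (nat_lit 21) (.leaf (nat_lit 43013) [nat_lit 330, nat_lit 396, nat_lit 110, nat_lit 396, nat_lit 132, nat_lit 286]) (.leaf (nat_lit 34826)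 [nat_lit 154, nat_lit 154, nat_lit 110, nat_lit 264, nat_lit 88, nat_lit 264, nat_lit 264])) (.node (nat_lit 23) (.leaf (nat_lit 31754) [nat_lit 264, nat_lit 220, nat_lit 154, nat_lit 66, nat_lit 308, nat_lit 44, nat_lit 330, nat_lit 154]) r193))))
noncomputable def w13 : WT := (.node (nat_lit 1) (.leaf (nat_lit 6146) [nat_lit 308]) (.node (nat_lit 7) (.node (nat_lit 3) (.node (nat_lit 2) (.leaf (nat_lit 16391) [nat_lit 88, nat_lit 132, nat_lit 110]) (.leaf (nat_lit 25602) [nat_lit 132, nat_lit 308, nat_lit 374, nat_lit 374, nat_lit 154])) (.node (nat_lit 5) r185 r186)) (.node (nat_lit 11) (.node (nat_lit 9) r187 r188) (.node (nat_lit 14) r189 r194))))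
noncomputable def r195 : WT := (.node (nat_lit 3) (.leaf (nat_lit 35841) [nat_lit 110, nat_lit 374, nat_lit 88]) (.leaf (nat_lit 32769) [nat_lit 352, nat_lit 66, nat_lit 374, nat_lit 44]))
noncomputable def r196 : WT := (.node (nat_lit 6) (.leaf (nat_lit 35842) [nat_lit 88, nat_lit 374, nat_lit 110]) (.leaf (nat_lit 20486) [nat_lit 154, nat_lit 374, nat_lit 132]))
noncomputable def r197 : WT := (.node (nat_lit 8) (.leaf (nat_lit 40962) [nat_lit 396, nat_lit 308, nat_lit 154, nat_lit 264, nat_lit 154, nat_lit 396]) (.leaf (nat_lit 23558) [nat_lit 330, nat_lit 374, nat_lit 308]))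
noncomputable def r198 : WT := (.node (nat_lit 10) (.leaf (nat_lit 23557) [nat_lit 308, nat_lit 374, nat_lit 330]) (.node (nat_lit 11) (.leaf (nat_lit 22533) [nat_lit 264, nat_lit 374, nat_lit 286]) (.leaf (nat_lit 19456) [nat_lit 352, nat_lit 352, nat_lit 352, nat_lit 352])))
noncomputable def r199 : WT := (.node (nat_lit 14) (.node (nat_lit 13) (.leaf (nat_lit 21509) [nat_lit 220, nat_lit 374, nat_lit 242]) (.leaf (nat_lit 22534) [nat_lit 286, nat_lit 374, nat_lit 264])) (.node (nat_lit 15) (.leaf (nat_lit 21510) [nat_lit 242, nat_lit 374, nat_lit 220]) (.leaf (nat_lit 51209) [nat_lit 198, nat_lit 374, nat_lit 198, nat_lit 44, nat_lit 44, nat_lit 374, nat_lit 198])))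
noncomputable def r200 : WT := (.node (nat_lit 25) (.leaf (nat_lit 24584) [nat_lit 352, nat_lit 154, nat_lit 286, nat_lit 132, nat_lit 264]) (.leaf (nat_lit 25603) [nat_lit 330, nat_lit 154, nat_lit 308, nat_lit 132, nat_lit 352]))
noncomputable def r201 : WT := (.leaf (nat_lit 46098) [nat_lit 308, nat_lit 132, nat_lit 88, nat_lit 44, nat_lit 110, nat_lit 110, nat_lit 66, nat_lit 176, nat_lit 396, nat_lit 110, nat_lit 220, nat_lit 66, nat_lit 396, nat_lit 66, nat_lit 396, nat_lit 66])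
noncomputable def r202 : WT := (.leaf (nat_lit 41999) [nat_lit 330, nat_lit 396, nat_lit 66, nat_lit 66, nat_lit 396, nat_lit 44, nat_lit 88, nat_lit 88, nat_lit 44, nat_lit 110, nat_lit 44, nat_lit 132])
noncomputable def r203 : WT := (.leaf (nat_lit 44039) [nat_lit 330, nat_lit 396, nat_lit 66, nat_lit 88, nat_lit 66, nat_lit 110, nat_lit 110, nat_lit 66, nat_lit 396, nat_lit 44, nat_lit 44, nat_lit 132])
noncomputable def r204 : WT := (.node (nat_lit 28) (.node (nat_lit 27) (.leaf (nat_lit 24586) [nat_lit 154, nat_lit 286, nat_lit 132, nat_lit 264, nat_lit 352]) r201) (.node (nat_lit 29) r202 r203))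
noncomputable def r205 : WT := (.node (nat_lit 19) (.node (nat_lit 17) (.leaf (nat_lit 51202) [nat_lit 176, nat_lit 374, nat_lit 176, nat_lit 352, nat_lit 66, nat_lit 66, nat_lit 176]) (.node (nat_lit 18) (.leaf (nat_lit 32771) [nat_lit 66, nat_lit 374, nat_lit 44, nat_lit 352]) (.leaf (nat_lit 51210) [nat_lit 66, nat_lit 66, nat_lit 176, nat_lit 352, nat_lit 176, nat_lit 374, nat_lit 176]))) (.node (nat_lit 22) (.node (nat_lit 20) (.leaf (nat_lit 17408) [nat_lit 242, nat_lit 154, nat_lit 220, nat_lit 132]) (.node (nat_lit 21) (.leaf (nat_lit 28680) [nat_lit 286, nat_lit 330, nat_lit 264, nat_lit 308]) (.leaf (nat_lit 50178) [nat_lit 176, nat_lit 352, nat_lit 176, nat_lit 352, nat_lit 176, nat_lit 352, nat_lit 176, nat_lit 352, nat_lit 176]))) (.node (nat_lit 24) (.node (nat_lit 23) (.leaf (nat_lit 26632) [nat_lit 242, nat_lit 286, nat_lit 220, nat_lit 264]) (.leaf (nat_lit 25601) [nat_lit 352, nat_lit 330, nat_lit 154, nat_lit 308, nat_lit 132])) (.node (nat_lit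 26) r200 r204))))
noncomputable def w14 : WT := (.node (nat_lit 1) (.leaf (nat_lit 7168) [nat_lit 374]) (.node (nat_lit 7) (.node (nat_lit 4) (.node (nat_lit 2) (.leaf (nat_lit 32770) [nat_lit 44, nat_lit 374, nat_lit 374, nat_lit 66]) r195) (.node (nat_lit 5) (.leaf (nat_lit 20485) [nat_lit 132, nat_lit 374, nat_lit 154]) r196)) (.node (nat_lit 12) (.node (nat_lit 9) r197 r198) (.node (nat_lit 16) r199 r205))))
noncomputable def r206 : WT := (.node (nat_lit 3) (.leaf (nat_lit 35846) [nat_lit 110, nat_lit 352, nat_lit 88]) (.leaf (nat_lit 35845) [nat_lit 88, nat_lit 352, nat_lit 110]))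
noncomputable def r207 : WT := (.node (nat_lit 6) (.leaf (nat_lit 32774) [nat_lit 374, nat_lit 66, nat_lit 352, nat_lit 44]) (.leaf (nat_lit 20482) [nat_lit 132, nat_lit 352, nat_lit 154]))
noncomputable def r208 : WT := (.node (nat_lit 8) (.leaf (nat_lit 23553) [nat_lit 330, nat_lit 352, nat_lit 308]) (.leaf (nat_lit 40971) [nat_lit 396, nat_lit 132, nat_lit 286, nat_lit 132, nat_lit 330, nat_lit 396]))
noncomputable def r209 : WT := (.node (nat_lit 10) (.leaf (nat_lit 22530) [nat_lit 264, nat_lit 352, nat_lit 286]) (.leaf (nat_lit 23554) [nat_lit 308, nat_lit 352, nat_lit 330]))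
noncomputable def r210 : WT := (.node (nat_lit 12) (.leaf (nat_lit 21506) [nat_lit 220, nat_lit 352, nat_lit 242]) (.node (nat_lit 13) (.leaf (nat_lit 21505) [nat_lit 242, nat_lit 352, nat_lit 220]) (.leaf (nat_lit 22529) [nat_lit 286, nat_lit 352, nat_lit 264])))
noncomputable def r211 : WT := (.node (nat_lit 22) (.leaf (nat_lit 28673) [nat_lit 330, nat_lit 286, nat_lit 308, nat_lit 264]) (.leaf (nat_lit 24579) [nat_lit 286, nat_lit 154, nat_lit 264, nat_lit 132, nat_lit 374]))
noncomputable def r212 : WT := (.node (nat_lit 24) (.leaf (nat_lit 17417) [nat_lit 154, nat_lit 242, nat_lit 132, nat_lit 220]) (.node (nat_lit 25) (.leaf (nat_lit 25608) [nat_lit 374, nat_lit 154, nat_lit 330, nat_lit 132, nat_lit 308]) (.leaf (nat_lit 26625) [nat_lit 286, nat_lit 242, nat_lit 264, nat_lit 220])))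
noncomputable def r213 : WT := (.leaf (nat_lit 46095) [nat_lit 44, nat_lit 396, nat_lit 44, nat_lit 396, nat_lit 44, nat_lit 242, nat_lit 88, nat_lit 396, nat_lit 198, nat_lit 44, nat_lit 88, nat_lit 88, nat_lit 66, nat_lit 110, nat_lit 154, nat_lit 330])
noncomputable def r214 : WT := (.leaf (nat_lit 41994) [nat_lit 154, nat_lit 66, nat_lit 88, nat_lit 66, nat_lit 110, nat_lit 110, nat_lit 66, nat_lit 396, nat_lit 44, nat_lit 44, nat_lit 396, nat_lit 308])
noncomputable def r215 : WT := (.leaf (nat_lit 44050) [nat_lit 154, nat_lit 66, nat_lit 66, nat_lit 396, nat_lit 44, nat_lit 88, nat_lit 88, nat_lit 44, nat_lit 110, nat_lit 44, nat_lit 396, nat_lit 308])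
noncomputable def r216 : WT := (.node (nat_lit 28) (.node (nat_lit 27) (.leaf (nat_lit 25610) [nat_lit 154, nat_lit 330, nat_lit 132, nat_lit 308, nat_lit 374]) r213) (.node (nat_lit 29) r214 r215))
noncomputable def r217 : WT := (.node (nat_lit 17) (.node (nat_lit 15) (.leaf (nat_lit 19457) [nat_lit 374, nat_lit 374, nat_lit 374, nat_lit 374]) (.node (nat_lit 16) (.leaf (nat_lit 51206) [nat_lit 176, nat_lit 352, nat_lit 66, nat_lit 66, nat_lit 176, nat_lit 352, nat_lit 176]) (.leaf (nat_lit 51213) [nat_lit 198, nat_lit 44, nat_lit 44, nat_lit 374, nat_lit 198, nat_lit 352, nat_lit 198]))) (.node (nat_lit 20) (.node (nat_lit 18) (.leaf (nat_lit 32776) [nat_lit 66, nat_lit 352, nat_lit 44, nat_lit 374]) (.node (nat_lit 19) (.leaf (nat_lit 51205) [nat_lit 198, nat_lit 352, nat_lit 198, nat_lit 374, nat_lit 198, nat_lit 44, nat_lit 44]) (.leaf (nat_lit 24577) [nat_lit 374, nat_lit 286, nat_lit 154, nat_lit 264, nat_lit 132]))) (.node (nat_lit 23) (.node (nat_lit 21)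 (.leaf (nat_lit 50177) [nat_lit 198, nat_lit 374, nat_lit 198, nat_lit 374, nat_lit 198, nat_lit 374, nat_lit 198, nat_lit 374, nat_lit 198]) r211) (.node (nat_lit 26) r212 r216))))
noncomputable def w15 : WT := (.node (nat_lit 1) (.leaf (nat_lit 7170) [nat_lit 352]) (.node (nat_lit 7) (.node (nat_lit 4) (.node (nat_lit 2) (.leaf (nat_lit 32775) [nat_lit 44, nat_lit 352, nat_lit 352, nat_lit 66]) r206) (.node (nat_lit 5) (.leaf (nat_lit 20481) [nat_lit 154, nat_lit 352, nat_lit 132]) r207)) (.node (nat_lit 11) (.node (nat_lit 9) r208 r209) (.node (nat_lit 14) r210 r217))))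
noncomputable def r218 : WT := (.node (nat_lit 2) (.leaf (nat_lit 37888) [nat_lit 132, nat_lit 396, nat_lit 132, nat_lit 110, nat_lit 286, nat_lit 110]) (.leaf (nat_lit 43012) [nat_lit 308, nat_lit 308, nat_lit 264, nat_lit 154, nat_lit 396, nat_lit 88]))
noncomputable def r219 : WT := (.node (nat_lit 4) (.leaf (nat_lit 37892) [nat_lit 132, nat_lit 110, nat_lit 286, nat_lit 110, nat_lit 396, nat_lit 132]) (.node (nat_lit 5) (.leaf (nat_lit 37897) [nat_lit 154, nat_lit 396, nat_lit 88, nat_lit 264, nat_lit 88, nat_lit 154]) (.leaf (nat_lit 39940) [nat_lit 330, nat_lit 264, nat_lit 110, nat_lit 110, nat_lit 396, nat_lit 308])))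
noncomputable def r220 : WT := (.node (nat_lit 7) (.leaf (nat_lit 38927) [nat_lit 286, nat_lit 396, nat_lit 88, nat_lit 88, nat_lit 44, nat_lit 220, nat_lit 154, nat_lit 330, nat_lit 66]) (.node (nat_lit 8) (.leaf (nat_lit 45060) [nat_lit 242, nat_lit 396, nat_lit 220, nat_lit 330, nat_lit 44, nat_lit 264, nat_lit 44, nat_lit 44, nat_lit 44, nat_lit 396, nat_lit 220]) (.leaf (nat_lit 40964) [nat_lit 308, nat_lit 154, nat_lit 264, nat_lit 154, nat_lit 396, nat_lit 352])))
noncomputable def r221 : WT := (.node (nat_lit 10) (.leaf (nat_lit 39949) [nat_lit 88, nat_lit 88, nat_lit 286, nat_lit 308, nat_lit 396, nat_lit 330]) (.node (nat_lit 11) (.leaf (nat_lit 39936) [nat_lit 308, nat_lit 396, nat_lit 330, nat_lit 264, nat_lit 110, nat_lit 110]) (.leaf (nat_lit 37901) [nat_lit 88, nat_lit 264, nat_lit 88, nat_lit 154, nat_lit 396, nat_lit 154])))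
noncomputable def r222 : WT := (.leaf (nat_lit 46082) [nat_lit 110, nat_lit 220, nat_lit 66, nat_lit 396, nat_lit 66, nat_lit 396, nat_lit 66, nat_lit 352, nat_lit 308, nat_lit 132, nat_lit 88, nat_lit 44, nat_lit 110, nat_lit 110, nat_lit 66, nat_lit 176])
noncomputable def r223 : WT := (.leaf (nat_lit 46111) [nat_lit 198, nat_lit 44, nat_lit 88, nat_lit 88, nat_lit 66, nat_lit 110, nat_lit 154, nat_lit 330, nat_lit 374, nat_lit 44, nat_lit 396, nat_lit 44, nat_lit 396, nat_lit 44, nat_lit 242, nat_lit 88])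
noncomputable def r224 : WT := (.node (nat_lit 14) (.node (nat_lit 13) (.leaf (nat_lit 40969) [nat_lit 374, nat_lit 396, nat_lit 132, nat_lit 286, nat_lit 132, nat_lit 330]) r222) (.node (nat_lit 15) r223 (.leaf (nat_lit 38931) [nat_lit 88, nat_lit 88, nat_lit 44, nat_lit 220, nat_lit 154, nat_lit 330, nat_lit 66, nat_lit 396, nat_lit 286])))
noncomputable def r225 : WT := (.node (nat_lit 18) (.node (nat_lit 17) (.leaf (nat_lit 39945) [nat_lit 330, nat_lit 396, nat_lit 88, nat_lit 88, nat_lit 286, nat_lit 308]) (.leaf (nat_lit 40973) [nat_lit 132, nat_lit 286, nat_lit 132, nat_lit 330, nat_lit 396, nat_lit 374])) (.node (nat_lit 19) (.leaf (nat_lit 45056) [nat_lit 220, nat_lit 396, nat_lit 242, nat_lit 396, nat_lit 220, nat_lit 330, nat_lit 44, nat_lit 264, nat_lit 44, nat_lit 44, nat_lit 44]) (.node (nat_lit 20) (.leaf (nat_lit 40960) [nat_lit 352, nat_lit 396, nat_lit 308, nat_lit 154, nat_lit 264, nat_lit 154]) (.leaf (nat_lit 38916) [nat_lit 44, nat_lit 308,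 nat_lit 132, nat_lit 242, nat_lit 66, nat_lit 110, nat_lit 110, nat_lit 396, nat_lit 264]))))
noncomputable def r226 : WT := (.leaf (nat_lit 41990) [nat_lit 308, nat_lit 374, nat_lit 154, nat_lit 66, nat_lit 88, nat_lit 66, nat_lit 110, nat_lit 110, nat_lit 66, nat_lit 396, nat_lit 44, nat_lit 44])
noncomputable def r227 : WT := (.leaf (nat_lit 41984) [nat_lit 44, nat_lit 44, nat_lit 396, nat_lit 308, nat_lit 374, nat_lit 154, nat_lit 66, nat_lit 88, nat_lit 66, nat_lit 110, nat_lit 110, nat_lit 66])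
noncomputable def r228 : WT := (.leaf (nat_lit 36899) [nat_lit 110, nat_lit 110, nat_lit 66, nat_lit 154, nat_lit 44, nat_lit 132, nat_lit 66, nat_lit 132, nat_lit 44, nat_lit 176, nat_lit 132, nat_lit 88, nat_lit 44, nat_lit 110, nat_lit 176, nat_lit 132, nat_lit 176])
noncomputable def r229 : WT := (.leaf (nat_lit 46103) [nat_lit 44, nat_lit 242, nat_lit 88, nat_lit 396, nat_lit 198, nat_lit 44, nat_lit 88, nat_lit 88, nat_lit 66, nat_lit 110, nat_lit 154, nat_lit 330, nat_lit 374, nat_lit 44, nat_lit 396, nat_lit 44])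
noncomputable def r230 : WT := (.node (nat_lit 24) (.node (nat_lit 22) (.leaf (nat_lit 43017) [nat_lit 110, nat_lit 396, nat_lit 132, nat_lit 286, nat_lit 330, nat_lit 330]) (.node (nat_lit 23) r226 (.leaf (nat_lit 43021) [nat_lit 132, nat_lit 286, nat_lit 330, nat_lit 330, nat_lit 396, nat_lit 110]))) (.node (nat_lit 26) (.node (nat_lit 25) (.leaf (nat_lit 45064) [nat_lit 220, nat_lit 330, nat_lit 44, nat_lit 264, nat_lit 44, nat_lit 44, nat_lit 44, nat_lit 396, nat_lit 220, nat_lit 396, nat_lit 242]) r227) (.node (nat_lit 27) r228 r229)))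
noncomputable def r231 : WT := (.leaf (nat_lit 46090) [nat_lit 66, nat_lit 396, nat_lit 66, nat_lit 352, nat_lit 308, nat_lit 132, nat_lit 88, nat_lit 44, nat_lit 110, nat_lit 110, nat_lit 66, nat_lit 176, nat_lit 396, nat_lit 110, nat_lit 220, nat_lit 66])
noncomputable def r232 : WT := (.leaf (nat_lit 42009) [nat_lit 44, nat_lit 88, nat_lit 88, nat_lit 44, nat_lit 110, nat_lit 44, nat_lit 132, nat_lit 352, nat_lit 330, nat_lit 396, nat_lit 66, nat_lit 66])
noncomputable def r233 : WT := (.leaf (nat_lit 44032) [nat_lit 44, nat_lit 88, nat_lit 88, nat_lit 44, nat_lit 110, nat_lit 44, nat_lit 396, nat_lit 308, nat_lit 374, nat_lit 154, nat_lit 66, nat_lit 66])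
noncomputable def r234 : WT := (.leaf (nat_lit 46094) [nat_lit 66, nat_lit 352, nat_lit 308, nat_lit 132, nat_lit 88, nat_lit 44, nat_lit 110, nat_lit 110, nat_lit 66, nat_lit 176, nat_lit 396, nat_lit 110, nat_lit 220, nat_lit 66, nat_lit 396, nat_lit 66])
noncomputable def r235 : WT := (.leaf (nat_lit 42003) [nat_lit 66, nat_lit 66, nat_lit 396, nat_lit 44, nat_lit 88, nat_lit 88, nat_lit 44, nat_lit 110, nat_lit 44, nat_lit 132, nat_lit 352, nat_lit 330])
noncomputable def r236 : WT := (.leaf (nat_lit 46099) [nat_lit 44, nat_lit 396, nat_lit 44, nat_lit 242, nat_lit 88, nat_lit 396, nat_lit 198, nat_lit 44, nat_lit 88, nat_lit 88, nat_lit 66, nat_lit 110, nat_lit 154, nat_lit 330, nat_lit 374, nat_lit 44])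
noncomputable def r237 : WT := (.leaf (nat_lit 44046) [nat_lit 308, nat_lit 374, nat_lit 154, nat_lit 66, nat_lit 66, nat_lit 396, nat_lit 44, nat_lit 88, nat_lit 88, nat_lit 44, nat_lit 110, nat_lit 44])
noncomputable def r238 : WT := (.leaf (nat_lit 36864) [nat_lit 198, nat_lit 154, nat_lit 198, nat_lit 88, nat_lit 66, nat_lit 110, nat_lit 154, nat_lit 198, nat_lit 66, nat_lit 154, nat_lit 44, nat_lit 154, nat_lit 66, nat_lit 132, nat_lit 44, nat_lit 88, nat_lit 88])
noncomputable def r239 : WT := (.node (nat_lit 39) r237 r238)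
noncomputable def r240 : WT := (.leaf (nat_lit 44043) [nat_lit 66, nat_lit 88, nat_lit 66, nat_lit 110, nat_lit 110, nat_lit 66, nat_lit 396, nat_lit 44, nat_lit 44, nat_lit 132, nat_lit 352, nat_lit 330])
noncomputable def r241 : WT := (.leaf (nat_lit 44057) [nat_lit 44, nat_lit 44, nat_lit 132, nat_lit 352, nat_lit 330, nat_lit 396, nat_lit 66, nat_lit 88, nat_lit 66, nat_lit 110, nat_lit 110, nat_lit 66])
noncomputable def r242 : WT := (.node (nat_lit 41) (.leaf (nat_lit 45079) [nat_lit 66, nat_lit 66, nat_lit 66, nat_lit 286, nat_lit 66, nat_lit 308, nat_lit 242, nat_lit 396, nat_lit 220, nat_lit 396, nat_lit 242]) (.node (nat_lit 42) r240 r241))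
noncomputable def r243 : WT := (.node (nat_lit 33) (.node (nat_lit 30) (.node (nat_lit 29) r231 (.leaf (nat_lit 45071) [nat_lit 220, nat_lit 396, nat_lit 242, nat_lit 396, nat_lit 66, nat_lit 66, nat_lit 66, nat_lit 286, nat_lit 66, nat_lit 308, nat_lit 242])) (.node (nat_lit 31) (.leaf (nat_lit 43008) [nat_lit 88, nat_lit 396, nat_lit 308, nat_lit 308, nat_lit 264, nat_lit 154]) (.node (nat_lit 32) r232 r233))) (.node (nat_lit 36) (.node (nat_lit 34) r234 (.node (nat_lit 35) (.leaf (nat_lit 38912) [nat_lit 264, nat_lit 396, nat_lit 44, nat_lit 308, nat_lit 132, nat_lit 242, nat_lit 66, nat_lit 110, nat_lit 110]) (.leaf (nat_lit 45075) [nat_lit 242, nat_lit 396, nat_lit 66, nat_lit 66, nat_lit 66, nat_lit 286, nat_lit 66, nat_lit 308, nat_lit 242, nat_lit 396, nat_lit 220]))) (.node (nat_lit 38) (.node (nat_lit 37) r235 r236) (.node (nat_lit 40) r239 r242))))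
noncomputable def w16 : WT := (.node (nat_lit 1) (.leaf (nat_lit 8192) [nat_lit 396]) (.node (nat_lit 12) (.node (nat_lit 6) (.node (nat_lit 3) r218 r219) (.node (nat_lit 9) r220 r221)) (.node (nat_lit 21) (.node (nat_lit 16) r224 r225) (.node (nat_lit 28) r230 r243))))
noncomputable def r244 : WT := (.node (nat_lit 1) (.leaf (nat_lit 32777) [nat_lit 44, nat_lit 352, nat_lit 352, nat_lit 66, nat_lit 374]) (.leaf (nat_lit 32775) [nat_lit 374, nat_lit 44, nat_lit 352, nat_lit 352, nat_lit 66]))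
noncomputable def r245 : WT := (.node (nat_lit 4) (.leaf (nat_lit 43017) [nat_lit 396, nat_lit 110, nat_lit 396, nat_lit 132, nat_lit 286, nat_lit 330, nat_lit 330]) (.leaf (nat_lit 40960) [nat_lit 396, nat_lit 352, nat_lit 396, nat_lit 308, nat_lit 154, nat_lit 264, nat_lit 154]))
noncomputable def r246 : WT := (.node (nat_lit 6) (.leaf (nat_lit 24580) [nat_lit 132, nat_lit 264, nat_lit 352, nat_lit 352, nat_lit 154, nat_lit 286]) (.node (nat_lit 7) (.leaf (nat_lit 25602) [nat_lit 330, nat_lit 132, nat_lit 308, nat_lit 374, nat_lit 374, nat_lit 154]) (.leaf (nat_lit 49156) [nat_lit 176, nat_lit 66, nat_lit 66, nat_lit 66, nat_lit 198, nat_lit 44])))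
noncomputable def r247 : WT := (.node (nat_lit 9) (.leaf (nat_lit 49158) [nat_lit 66, nat_lit 66, nat_lit 66, nat_lit 198, nat_lit 44, nat_lit 176]) (.node (nat_lit 10) (.leaf (nat_lit 49162) [nat_lit 66, nat_lit 198, nat_lit 44, nat_lit 176, nat_lit 66, nat_lit 66]) (.leaf (nat_lit 49155) [nat_lit 44, nat_lit 44, nat_lit 198, nat_lit 66, nat_lit 176, nat_lit 44])))
noncomputable def r248 : WT := (.node (nat_lit 12) (.leaf (nat_lit 30721) [nat_lit 286, nat_lit 286, nat_lit 132, nat_lit 308, nat_lit 66, nat_lit 286, nat_lit 44]) (.node (nat_lit 13) (.leaf (nat_lit 37888) [nat_lit 396, nat_lit 132, nat_lit 396, nat_lit 132, nat_lit 110, nat_lit 286, nat_lit 110]) (.leaf (nat_lit 39943) [nat_lit 308, nat_lit 396, nat_lit 330, nat_lit 396, nat_lit 88, nat_lit 88, nat_lit 286])))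
noncomputable def r249 : WT := (.leaf (nat_lit 36880) [nat_lit 198, nat_lit 66, nat_lit 154, nat_lit 44, nat_lit 154, nat_lit 66, nat_lit 132, nat_lit 44, nat_lit 88, nat_lit 88, nat_lit 396, nat_lit 198, nat_lit 154, nat_lit 198, nat_lit 88, nat_lit 66, nat_lit 110, nat_lit 154])
noncomputable def r250 : WT := (.node (nat_lit 15) r249 (.leaf (nat_lit 40961) [nat_lit 132, nat_lit 286, nat_lit 132, nat_lit 330, nat_lit 396, nat_lit 374, nat_lit 396]))
noncomputable def r251 : WT := (.node (nat_lit 17) (.leaf (nat_lit 11267) [nat_lit 66, nat_lit 110, nat_lit 66, nat_lit 110, nat_lit 66, nat_lit 110, nat_lit 66, nat_lit 110]) (.node (nat_lit 18) (.leaf (nat_lit 51208) [nat_lit 176, nat_lit 352, nat_lit 66, nat_lit 66, nat_lit 176, nat_lit 352, nat_lit 176, nat_lit 374]) (.leaf (nat_lit 13312) [nat_lit 66, nat_lit 110, nat_lit 44, nat_lit 88, nat_lit 66, nat_lit 110, nat_lit 44, nat_lit 88, nat_lit 66, nat_lit 110, nat_lit 44, nat_lit 88])))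
noncomputable def r252 : WT := (.leaf (nat_lit 44034) [nat_lit 44, nat_lit 88, nat_lit 88, nat_lit 44, nat_lit 110, nat_lit 44, nat_lit 396, nat_lit 308, nat_lit 374, nat_lit 154, nat_lit 66, nat_lit 66, nat_lit 396])
noncomputable def r253 : WT := (.leaf (nat_lit 44041) [nat_lit 330, nat_lit 396, nat_lit 66, nat_lit 88, nat_lit 66, nat_lit 110, nat_lit 110, nat_lit 66, nat_lit 396, nat_lit 44, nat_lit 44, nat_lit 132, nat_lit 352])
noncomputable def r254 : WT := (.node (nat_lit 20) r252 r253)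
noncomputable def r255 : WT := (.leaf (nat_lit 36872) [nat_lit 88, nat_lit 66, nat_lit 110, nat_lit 154, nat_lit 198, nat_lit 66, nat_lit 154, nat_lit 44, nat_lit 154, nat_lit 66, nat_lit 132, nat_lit 44, nat_lit 88, nat_lit 88, nat_lit 396, nat_lit 198, nat_lit 154, nat_lit 198])
noncomputable def r256 : WT := (.node (nat_lit 22) r255 (.node (nat_lit 23) (.leaf (nat_lit 14342) [nat_lit 44, nat_lit 220, nat_lit 66, nat_lit 154]) (.leaf (nat_lit 23553) [nat_lit 374, nat_lit 330, nat_lit 352, nat_lit 308])))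
noncomputable def r257 : WT := (.node (nat_lit 25) (.leaf (nat_lit 14343) [nat_lit 242, nat_lit 66, nat_lit 132, nat_lit 44]) (.node (nat_lit 26) (.leaf (nat_lit 15362) [nat_lit 110, nat_lit 154, nat_lit 88, nat_lit 264]) (.leaf (nat_lit 15361) [nat_lit 110, nat_lit 132, nat_lit 88, nat_lit 286])))
noncomputable def r258 : WT := (.node (nat_lit 28) (.leaf (nat_lit 15363) [nat_lit 132, nat_lit 88, nat_lit 286, nat_lit 110]) (.node (nat_lit 29) (.leaf (nat_lit 16384) [nat_lit 308, nat_lit 88, nat_lit 154, nat_lit 110]) (.leaf (nat_lit 16387) [nat_lit 132, nat_lit 110, nat_lit 330, nat_lit 88])))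
noncomputable def r259 : WT := (.node (nat_lit 31) (.leaf (nat_lit 20485) [nat_lit 352, nat_lit 132, nat_lit 374, nat_lit 154]) (.node (nat_lit 32) (.leaf (nat_lit 21511) [nat_lit 220, nat_lit 374, nat_lit 242, nat_lit 352]) (.leaf (nat_lit 22533) [nat_lit 352, nat_lit 264, nat_lit 374, nat_lit 286])))
noncomputable def r260 : WT := (.node (nat_lit 34) (.leaf (nat_lit 32769) [nat_lit 352, nat_lit 352, nat_lit 66, nat_lit 374, nat_lit 44]) (.node (nat_lit 35) (.leaf (nat_lit 35841) [nat_lit 352, nat_lit 110, nat_lit 374, nat_lit 88]) (.leaf (nat_lit 35845) [nat_lit 374, nat_lit 88, nat_lit 352, nat_lit 110])))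
noncomputable def r261 : WT := (.node (nat_lit 37) (.leaf (nat_lit 35847) [nat_lit 88, nat_lit 352, nat_lit 110, nat_lit 374]) (.node (nat_lit 38) (.leaf (nat_lit 48134) [nat_lit 176, nat_lit 110, nat_lit 198, nat_lit 88]) (.leaf (nat_lit 48135) [nat_lit 88, nat_lit 198, nat_lit 110, nat_lit 176])))
noncomputable def r262 : WT := (.node (nat_lit 40) (.leaf (nat_lit 10241) [nat_lit 110, nat_lit 110, nat_lit 110, nat_lit 110, nat_lit 110]) (.node (nat_lit 41) (.leaf (nat_lit 29698) [nat_lit 220, nat_lit 44, nat_lit 132, nat_lit 132, nat_lit 66]) (.leaf (nat_lit 29700) [nat_lit 44, nat_lit 132, nat_lit 132, nat_lit 66, nat_lit 220])))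
noncomputable def wP : WT := (.node (nat_lit 19) (.node (nat_lit 8) (.node (nat_lit 3) (.node (nat_lit 2) r244 (.leaf (nat_lit 16386) [nat_lit 88, nat_lit 154, nat_lit 110, nat_lit 308])) (.node (nat_lit 5) r245 r246)) (.node (nat_lit 14) (.node (nat_lit 11) r247 r248) (.node (nat_lit 16) r250 r251))) (.node (nat_lit 30) (.node (nat_lit 24) (.node (nat_lit 21) r254 r256) (.node (nat_lit 27) r257 r258)) (.node (nat_lit 36) (.node (nat_lit 33) r259 r260) (.node (nat_lit 39) r261 r262))))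
noncomputable def P : Par := ⟨tb, nat_lit 418, nat_lit 0x3ffffffffffffffffffffffffffffffffffffffffffffffffffffffffffffffffffffffffffffffffffffffffffffffffffffffff, nat_lit 3987, nat_lit 4194303, nat_lit 4095, nat_lit 22, nat_lit 12, nat_lit 3906,
  [nat_lit 44, nat_lit 66, nat_lit 88, nat_lit 110, nat_lit 132, nat_lit 154, nat_lit 176, nat_lit 198, nat_lit 220, nat_lit 242, nat_lit 264, nat_lit 286, nat_lit 308, nat_lit 330, nat_lit 352, nat_lit 374, nat_lit 396], [nat_lit 44, nat_lit 88, nat_lit 132, nat_lit 220, nat_lit 264, nat_lit 308, nat_lit 352], wP,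
  (.cons (nat_lit 44) w0 (.cons (nat_lit 66) w1 (.cons (nat_lit 88) w2 (.cons (nat_lit 110) w3 (.cons (nat_lit 132) w4 (.cons (nat_lit 154) w5 (.cons (nat_lit 176) w6 (.cons (nat_lit 198) w7 (.cons (nat_lit 220) w8 (.cons (nat_lit 242) w9 (.cons (nat_lit 264) w10 (.cons (nat_lit 286) w11 (.cons (nat_lit 308) w12 (.cons (nat_lit 330) w13 (.cons (nat_lit 352) w14 (.cons (nat_lit 374) w15 (.cons (nat_lit 396) w16 .nil))))))))))))))))),
  .nil⟩

end Cfsg.Agent.Lib.TCLy1
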