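import Cfsg.Agent.Lib.TCLy2D0

set_option autoImplicit false
set_option maxRecDepth 100000

namespace Cfsg.Agent.Lib.TCLy2
open Cfsg.Agent.Lib.TCCore

noncomputable def n0 : T := (.node (nat_lit 114) l1 l2)
noncomputable def n1 : T := (.node (nat_lit 228) l3 l4)
noncomputable def n2 : T := (.node (nat_lit 342) l5 l6)
noncomputable def n3 : T := (.node (nat_lit 513) l8 l9)
noncomputable def n4 : T := (.node (nat_lit 627) l10 l11)
noncomputable def n5 : T := (.node (nat_lit 741) l12 l13)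
noncomputable def n6 : T := (.node (nat_lit 912) l15 l16)
noncomputable def n7 : T := (.node (nat_lit 1026) l17 l18)
noncomputable def n8 : T := (.node (nat_lit 1140) l19 l20)
noncomputable def n9 : T := (.node (nat_lit 1311) l22 l23)
noncomputable def n10 : T := (.node (nat_lit 1425) l24 l25)
noncomputable def n11 : T := (.node (nat_lit 1539) l26 l27)
noncomputable def n12 : T := (.node (nat_lit 1710) l29 l30)
noncomputable def n13 : T := (.node (nat_lit 1824) l31 l32)
noncomputable def n14 : T := (.node (nat_lit 1938) l33 l34)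
noncomputable def n15 : T := (.node (nat_lit 2109) l36 l37)
noncomputable def n16 : T := (.node (nat_lit 2223) l38 l39)
noncomputable def n17 : T := (.node (nat_lit 2337) l40 l41)
noncomputable def n18 : T := (.node (nat_lit 2508) l43 l44)
noncomputable def n19 : T := (.node (nat_lit 2622) l45 l46)
noncomputable def n20 : T := (.node (nat_lit 2736) l47 l48)
noncomputable def n21 : T := (.node (nat_lit 2907) l50 l51)
noncomputable def n22 : T := (.node (nat_lit 3021) l52 l53)
noncomputable def n23 : T := (.node (nat_lit 3135) l54 l55)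
noncomputable def tb : T := (.node (nat_lit 1596) (.node (nat_lit 798) (.node (nat_lit 399) (.node (nat_lit 171) (.node (nat_lit 57) l0 n0) (.node (nat_lit 285) n1 n2)) (.node (nat_lit 570) (.node (nat_lit 456) l7 n3) (.node (nat_lit 684) n4 n5))) (.node (nat_lit 1197) (.node (nat_lit 969) (.node (nat_lit 855) l14 n6) (.node (nat_lit 1083) n7 n8)) (.node (nat_lit 1368) (.node (nat_lit 1254) l21 n9) (.node (nat_lit 1482) n10 n11)))) (.node (nat_lit 2394) (.node (nat_lit 1995) (.node (nat_lit 1767) (.node (nat_lit 1653) l28 n12) (.node (nat_lit 1881) n13 n14)) (.node (nat_lit 2166) (.node (nat_lit 2052) l35 n15) (.node (nat_lit 2280) n16 n17))) (.node (nat_lit 2793) (.node (nat_lit 2565) (.node (nat_lit 2451) l42 n18) (.node (nat_lit 2679) n19 n20)) (.node (nat_lit 2964) (.node (nat_lit 2850) l49 n21) (.node (nat_lit 3078) n22 n23)))))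
noncomputable def r0 : WT := (.node (nat_lit 5) (.leaf (nat_lit 10248) [nat_lit 84, nat_lit 63, nat_lit 63, nat_lit 105, nat_lit 42]) (.leaf (nat_lit 28685) [nat_lit 231, nat_lit 231, nat_lit 126, nat_lit 252, nat_lit 63, nat_lit 231]))
noncomputable def r1 : WT := (.node (nat_lit 7) (.leaf (nat_lit 10249) [nat_lit 42, nat_lit 105, nat_lit 63, nat_lit 63, nat_lit 84]) (.leaf (nat_lit 28676) [nat_lit 273, nat_lit 147, nat_lit 210, nat_lit 210, nat_lit 63, nat_lit 210]))
noncomputable def r2 : WT := (.node (nat_lit 9) (.leaf (nat_lit 27657) [nat_lit 147, nat_lit 147, nat_lit 63, nat_lit 189]) (.leaf (nat_lit 29713) [nat_lit 126, nat_lit 189, nat_lit 231, nat_lit 252, nat_lit 126, nat_lit 252, nat_lit 63, nat_lit 273]))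
noncomputable def r3 : WT := (.node (nat_lit 11) (.leaf (nat_lit 30729) [nat_lit 294, nat_lit 294, nat_lit 63, nat_lit 315]) (.node (nat_lit 12) (.leaf (nat_lit 30724) [nat_lit 315, nat_lit 315, nat_lit 63, nat_lit 294]) (.leaf (nat_lit 27652) [nat_lit 126, nat_lit 126, nat_lit 63, nat_lit 168])))
noncomputable def r4 : WT := (.node (nat_lit 18) (.leaf (nat_lit 11271) [nat_lit 105, nat_lit 63, nat_lit 84, nat_lit 42, nat_lit 105, nat_lit 63, nat_lit 84, nat_lit 42, nat_lit 105, nat_lit 63, nat_lit 84]) (.leaf (nat_lit 11268) [nat_lit 84, nat_lit 63, nat_lit 105, nat_lit 42, nat_lit 84, nat_lit 63, nat_lit 105, nat_lit 42, nat_lit 84, nat_lit 63, nat_lit 105]))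
noncomputable def r5 : WT := (.node (nat_lit 14) (.leaf (nat_lit 29700) [nat_lit 273, nat_lit 147, nat_lit 273, nat_lit 210, nat_lit 168, nat_lit 147, nat_lit 63, nat_lit 252]) (.node (nat_lit 15) (.leaf (nat_lit 10251) [nat_lit 105, nat_lit 63, nat_lit 63, nat_lit 84, nat_lit 42]) (.node (nat_lit 16) (.leaf (nat_lit 9216) [nat_lit 84, nat_lit 42, nat_lit 84, nat_lit 42, nat_lit 84, nat_lit 42, nat_lit 84]) (.node (nat_lit 17) (.leaf (nat_lit 7168) [nat_lit 42, nat_lit 42, nat_lit 42, nat_lit 42, nat_lit 42, nat_lit 42, nat_lit 42]) r4))))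
noncomputable def w0 : WT := (.node (nat_lit 1) (.leaf (nat_lit 0) [nat_lit 63]) (.node (nat_lit 6) (.node (nat_lit 3) (.node (nat_lit 2) (.leaf (nat_lit 12294) [nat_lit 168, nat_lit 63, nat_lit 147]) (.leaf (nat_lit 10246) [nat_lit 42, nat_lit 84, nat_lit 63, nat_lit 63, nat_lit 105])) (.node (nat_lit 4) (.leaf (nat_lit 12293) [nat_lit 189, nat_lit 63, nat_lit 126]) r0)) (.node (nat_lit 10) (.node (nat_lit 8) r1 r2) (.node (nat_lit 13) r3 r5))))
noncomputable def r6 : WT := (.node (nat_lit 5) (.leaf (nat_lit 10240) [nat_lit 63, nat_lit 105, nat_lit 42, nat_lit 42, nat_lit 84]) (.leaf (nat_lit 10242) [nat_lit 105, nat_lit 42, nat_lit 42, nat_lit 84, nat_lit 63]))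
noncomputable def r7 : WT := (.node (nat_lit 7) (.leaf (nat_lit 12289) [nat_lit 126, nat_lit 42, nat_lit 189]) (.leaf (nat_lit 28681) [nat_lit 231, nat_lit 42, nat_lit 231, nat_lit 231, nat_lit 126, nat_lit 252]))
noncomputable def r8 : WT := (.node (nat_lit 9) (.leaf (nat_lit 30720) [nat_lit 294, nat_lit 42, nat_lit 315, nat_lit 315]) (.leaf (nat_lit 28672) [nat_lit 210, nat_lit 42, nat_lit 273, nat_lit 147, nat_lit 210, nat_lit 210]))
noncomputable def r9 : WT := (.node (nat_lit 11) (.leaf (nat_lit 10243) [nat_lit 63, nat_lit 84, nat_lit 42, nat_lit 42, nat_lit 105]) (.leaf (nat_lit 30725) [nat_lit 315, nat_lit 42, nat_lit 294, nat_lit 294]))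
noncomputable def r10 : WT := (.node (nat_lit 18) (.leaf (nat_lit 11264) [nat_lit 105, nat_lit 42, nat_lit 84, nat_lit 63, nat_lit 105, nat_lit 42, nat_lit 84, nat_lit 63, nat_lit 105, nat_lit 42, nat_lit 84]) (.leaf (nat_lit 11267) [nat_lit 84, nat_lit 42, nat_lit 105, nat_lit 63, nat_lit 84, nat_lit 42, nat_lit 105, nat_lit 63, nat_lit 84, nat_lit 42, nat_lit 105]))
noncomputable def r11 : WT := (.node (nat_lit 14) (.node (nat_lit 13) (.leaf (nat_lit 10245) [nat_lit 84, nat_lit 42, nat_lit 42, nat_lit 105, nat_lit 63]) (.leaf (nat_lit 29696) [nat_lit 252, nat_lit 42, nat_lit 273, nat_lit 147, nat_lit 273, nat_lit 210, nat_lit 168, nat_lit 147])) (.node (nat_lit 15) (.leaf (nat_lit 9219) [nat_lit 105, nat_lit 63, nat_lit 105, nat_lit 63, nat_lit 105, nat_lit 63, nat_lit 105]) (.node (nat_lit 16) (.leaf (nat_lit 29709) [nat_lit 273, nat_lit 42, nat_lit 126, nat_lit 189, nat_lit 231, nat_lit 252, nat_lit 126, nat_lit 252]) (.node (nat_lit 17) (.leaf (nat_lit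 7169) [nat_lit 63, nat_lit 63, nat_lit 63, nat_lit 63, nat_lit 63, nat_lit 63, nat_lit 63]) r10))))
noncomputable def w1 : WT := (.node (nat_lit 1) (.leaf (nat_lit 2) [nat_lit 42]) (.node (nat_lit 6) (.node (nat_lit 3) (.node (nat_lit 2) (.leaf (nat_lit 12290) [nat_lit 147, nat_lit 42, nat_lit 168]) (.leaf (nat_lit 27653) [nat_lit 189, nat_lit 42, nat_lit 147, nat_lit 147])) (.node (nat_lit 4) (.leaf (nat_lit 27648) [nat_lit 168, nat_lit 42, nat_lit 126, nat_lit 126]) r6)) (.node (nat_lit 10) (.node (nat_lit 8) r7 r8) (.node (nat_lit 12) r9 r11))))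
noncomputable def r12 : WT := (.node (nat_lit 6) (.leaf (nat_lit 13318) [nat_lit 210, nat_lit 105, nat_lit 147]) (.leaf (nat_lit 10247) [nat_lit 42, nat_lit 42, nat_lit 105, nat_lit 63, nat_lit 63]))
noncomputable def r13 : WT := (.node (nat_lit 8) (.leaf (nat_lit 33799) [nat_lit 294, nat_lit 105, nat_lit 315]) (.leaf (nat_lit 33796) [nat_lit 315, nat_lit 105, nat_lit 294]))
noncomputable def r14 : WT := (.node (nat_lit 10) (.leaf (nat_lit 10250) [nat_lit 63, nat_lit 63, nat_lit 105, nat_lit 42, nat_lit 42]) (.leaf (nat_lit 32783) [nat_lit 126, nat_lit 126, nat_lit 252, nat_lit 231, nat_lit 231, nat_lit 105, nat_lit 231]))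
noncomputable def r15 : WT := (.node (nat_lit 13) (.node (nat_lit 12) (.leaf (nat_lit 31759) [nat_lit 168, nat_lit 210, nat_lit 273, nat_lit 147, nat_lit 273, nat_lit 105, nat_lit 189]) (.leaf (nat_lit 32772) [nat_lit 210, nat_lit 210, nat_lit 273, nat_lit 147, nat_lit 147, nat_lit 105, nat_lit 210])) (.node (nat_lit 14) (.leaf (nat_lit 9218) [nat_lit 42, nat_lit 84, nat_lit 42, nat_lit 84, nat_lit 42, nat_lit 84, nat_lit 42]) (.node (nat_lit 15) (.leaf (nat_lit 31748) [nat_lit 252, nat_lit 126, nat_lit 252, nat_lit 231, nat_lit 189, nat_lit 105, nat_lit 168]) (.node (nat_lit 16) (.leaf (nat_lit 11269) [nat_lit 42, nat_lit 105, nat_lit 63, nat_lit 84, nat_lit 42, nat_lit 105, nat_lit 63, nat_lit 84, nat_lit 42, nat_lit 105, nat_lit 63]) (.leaf (nat_lit 11270) [nat_lit 63, nat_lit 105, nat_lit 42, nat_lit 84, nat_lit 63, nat_lit 105, nat_lit 42, nat_lit 84, nat_lit 63, nat_lit 105, nat_lit 42])))))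
noncomputable def w2 : WT := (.node (nat_lit 1) (.leaf (nat_lit 1024) [nat_lit 105]) (.node (nat_lit 5) (.node (nat_lit 3) (.node (nat_lit 2) (.leaf (nat_lit 13317) [nat_lit 231, nat_lit 105, nat_lit 126]) (.leaf (nat_lit 14338) [nat_lit 147, nat_lit 105, nat_lit 252])) (.node (nat_lit 4) (.leaf (nat_lit 14337) [nat_lit 126, nat_lit 105, nat_lit 273]) (.leaf (nat_lit 8192) [nat_lit 84, nat_lit 84, nat_lit 84, nat_lit 84]))) (.node (nat_lit 9) (.node (nat_lit 7) r12 r13) (.node (nat_lit 11) r14 r15))))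
noncomputable def r16 : WT := (.node (nat_lit 7) (.leaf (nat_lit 33795) [nat_lit 315, nat_lit 84, nat_lit 294]) (.leaf (nat_lit 8193) [nat_lit 105, nat_lit 105, nat_lit 105, nat_lit 105]))
noncomputable def r17 : WT := (.node (nat_lit 9) (.leaf (nat_lit 33792) [nat_lit 294, nat_lit 84, nat_lit 315]) (.leaf (nat_lit 10241) [nat_lit 63, nat_lit 63, nat_lit 84, nat_lit 42, nat_lit 42]))
noncomputable def r18 : WT := (.node (nat_lit 12) (.node (nat_lit 11) (.leaf (nat_lit 31755) [nat_lit 189, nat_lit 84, nat_lit 168, nat_lit 210, nat_lit 273, nat_lit 147, nat_lit 273]) (.leaf (nat_lit 31744) [nat_lit 168, nat_lit 84, nat_lit 252, nat_lit 126, nat_lit 252, nat_lit 231, nat_lit 189])) (.node (nat_lit 14) (.node (nat_lit 13) (.leaf (nat_lit 32779) [nat_lit 231, nat_lit 84, nat_lit 126, nat_lit 126, nat_lit 252, nat_lit 231, nat_lit 231]) (.leaf (nat_lit 32768) [nat_lit 210, nat_lit 84, nat_lit 210, nat_lit 210, nat_lit 273, nat_lit 147, nat_lit 147])) (.node (nat_lit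 15) (.leaf (nat_lit 9217) [nat_lit 63, nat_lit 105, nat_lit 63, nat_lit 105, nat_lit 63, nat_lit 105, nat_lit 63]) (.node (nat_lit 16) (.leaf (nat_lit 11265) [nat_lit 63, nat_lit 84, nat_lit 42, nat_lit 105, nat_lit 63, nat_lit 84, nat_lit 42, nat_lit 105, nat_lit 63, nat_lit 84, nat_lit 42]) (.leaf (nat_lit 11266) [nat_lit 42, nat_lit 84, nat_lit 63, nat_lit 105, nat_lit 42, nat_lit 84, nat_lit 63, nat_lit 105, nat_lit 42, nat_lit 84, nat_lit 63])))))
noncomputable def w3 : WT := (.node (nat_lit 1) (.leaf (nat_lit 1026) [nat_lit 84]) (.node (nat_lit 5) (.node (nat_lit 3) (.node (nat_lit 2) (.leaf (nat_lit 14341) [nat_lit 273, nat_lit 84, nat_lit 126]) (.leaf (nat_lit 13313) [nat_lit 126, nat_lit 84, nat_lit 231])) (.node (nat_lit 4) (.leaf (nat_lit 14342) [nat_lit 252, nat_lit 84, nat_lit 147]) (.leaf (nat_lit 13314) [nat_lit 147, nat_lit 84, nat_lit 210]))) (.node (nat_lit 8) (.node (nat_lit 6) (.leaf (nat_lit 10244) [nat_lit 42, nat_lit 42, nat_lit 84,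 nat_lit 63, nat_lit 63]) r16) (.node (nat_lit 10) r17 r18))))
noncomputable def r19 : WT := (.node (nat_lit 5) (.leaf (nat_lit 16384) [nat_lit 126, nat_lit 126, nat_lit 126, nat_lit 126]) (.leaf (nat_lit 22532) [nat_lit 210, nat_lit 294, nat_lit 294, nat_lit 147, nat_lit 231]))
noncomputable def r20 : WT := (.node (nat_lit 7) (.leaf (nat_lit 23556) [nat_lit 252, nat_lit 315, nat_lit 315, nat_lit 147, nat_lit 273]) (.leaf (nat_lit 18439) [nat_lit 315, nat_lit 147, nat_lit 294]))
noncomputable def r21 : WT := (.node (nat_lit 9) (.leaf (nat_lit 15365) [nat_lit 168, nat_lit 315, nat_lit 147, nat_lit 189]) (.leaf (nat_lit 23563) [nat_lit 294, nat_lit 294, nat_lit 273, nat_lit 147, nat_lit 252]))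
noncomputable def r22 : WT := (.node (nat_lit 11) (.leaf (nat_lit 18436) [nat_lit 294, nat_lit 147, nat_lit 315]) (.node (nat_lit 12) (.leaf (nat_lit 27654) [nat_lit 126, nat_lit 63, nat_lit 168, nat_lit 42]) (.leaf (nat_lit 22539) [nat_lit 315, nat_lit 315, nat_lit 231, nat_lit 147, nat_lit 210])))
noncomputable def r23 : WT := (.node (nat_lit 20) (.leaf (nat_lit 29705) [nat_lit 252, nat_lit 63, nat_lit 273, nat_lit 42, nat_lit 126, nat_lit 189, nat_lit 231, nat_lit 252]) (.leaf (nat_lit 32771) [nat_lit 252, nat_lit 231, nat_lit 231, nat_lit 105, nat_lit 231, nat_lit 84, nat_lit 126]))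
noncomputable def r24 : WT := (.node (nat_lit 15) (.node (nat_lit 14) (.leaf (nat_lit 27656) [nat_lit 63, nat_lit 168, nat_lit 42, nat_lit 126]) (.leaf (nat_lit 15368) [nat_lit 294, nat_lit 189, nat_lit 147, nat_lit 168])) (.node (nat_lit 17) (.node (nat_lit 16) (.leaf (nat_lit 29697) [nat_lit 189, nat_lit 231, nat_lit 252, nat_lit 126, nat_lit 252, nat_lit 63, nat_lit 273, nat_lit 42]) (.leaf (nat_lit 31752) [nat_lit 252, nat_lit 231, nat_lit 189, nat_lit 105, nat_lit 168, nat_lit 84, nat_lit 252])) (.node (nat_lit 18) (.leaf (nat_lit 28677) [nat_lit 252, nat_lit 63, nat_lit 231, nat_lit 42, nat_lit 231, nat_lit 231]) (.node (nat_lit 19) (.leaf (nat_lit 32769) [nat_lit 126, nat_lit 252, nat_lit 231, nat_lit 231, nat_lit 105, nat_lit 231, nat_lit 84]) r23))))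
noncomputable def w4 : WT := (.node (nat_lit 1) (.leaf (nat_lit 2048) [nat_lit 147]) (.node (nat_lit 6) (.node (nat_lit 3) (.node (nat_lit 2) (.leaf (nat_lit 13315) [nat_lit 84, nat_lit 231, nat_lit 105]) (.leaf (nat_lit 12291) [nat_lit 42, nat_lit 189, nat_lit 63])) (.node (nat_lit 4) (.leaf (nat_lit 14339) [nat_lit 105, nat_lit 273, nat_lit 84]) r19)) (.node (nat_lit 10) (.node (nat_lit 8) r20 r21) (.node (nat_lit 13) r22 r24))))
noncomputable def r25 : WT := (.node (nat_lit 5) (.leaf (nat_lit 12292) [nat_lit 42, nat_lit 168, nat_lit 63]) (.leaf (nat_lit 23559) [nat_lit 252, nat_lit 126, nat_lit 294, nat_lit 294, nat_lit 273]))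
noncomputable def r26 : WT := (.node (nat_lit 8) (.leaf (nat_lit 15364) [nat_lit 168, nat_lit 126, nat_lit 294, nat_lit 189]) (.leaf (nat_lit 18435) [nat_lit 294, nat_lit 126, nat_lit 315]))
noncomputable def r27 : WT := (.node (nat_lit 10) (.leaf (nat_lit 27649) [nat_lit 147, nat_lit 63, nat_lit 189, nat_lit 42]) (.leaf (nat_lit 18432) [nat_lit 315, nat_lit 126, nat_lit 294]))
noncomputable def r28 : WT := (.node (nat_lit 20) (.leaf (nat_lit 29704) [nat_lit 273, nat_lit 210, nat_lit 168, nat_lit 147, nat_lit 63, nat_lit 252, nat_lit 42, nat_lit 273]) (.leaf (nat_lit 32782) [nat_lit 105, nat_lit 210, nat_lit 84, nat_lit 210, nat_lit 210, nat_lit 273, nat_lit 147]))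
noncomputable def r29 : WT := (.node (nat_lit 14) (.node (nat_lit 12) (.leaf (nat_lit 29712) [nat_lit 63, nat_lit 252, nat_lit 42, nat_lit 273, nat_lit 147, nat_lit 273, nat_lit 210, nat_lit 168]) (.node (nat_lit 13) (.leaf (nat_lit 27651) [nat_lit 63, nat_lit 189, nat_lit 42, nat_lit 147]) (.leaf (nat_lit 28680) [nat_lit 210, nat_lit 210, nat_lit 63, nat_lit 210, nat_lit 42, nat_lit 273]))) (.node (nat_lit 16) (.node (nat_lit 15) (.leaf (nat_lit 22528) [nat_lit 231, nat_lit 126, nat_lit 210, nat_lit 294, nat_lit 294]) (.leaf (nat_lit 31751) [nat_lit 273, nat_lit 105, nat_lit 189, nat_lit 84, nat_lit 168, nat_lit 210, nat_lit 273])) (.node (nat_lit 18) (.node (nat_lit 17) (.leaf (nat_lit 15361) [nat_lit 189, nat_lit 126, nat_lit 168, nat_lit 315]) (.leaf (nat_lit 23552) [nat_lit 273, nat_lit 126, nat_lit 252, nat_lit 315, nat_lit 315])) (.node (nat_lit 19) (.leaf (nat_lit 32780) [nat_lit 147, nat_lit 105, nat_lit 210, nat_lit 84, nat_lit 210, nat_lit 210,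 nat_lit 273]) r28))))
noncomputable def w5 : WT := (.node (nat_lit 1) (.leaf (nat_lit 2050) [nat_lit 126]) (.node (nat_lit 6) (.node (nat_lit 3) (.node (nat_lit 2) (.leaf (nat_lit 13316) [nat_lit 84, nat_lit 210, nat_lit 105]) (.leaf (nat_lit 22535) [nat_lit 210, nat_lit 126, nat_lit 315, nat_lit 315, nat_lit 231])) (.node (nat_lit 4) (.leaf (nat_lit 14340) [nat_lit 105, nat_lit 252, nat_lit 84]) r25)) (.node (nat_lit 9) (.node (nat_lit 7) (.leaf (nat_lit 16385) [nat_lit 147, nat_lit 147, nat_lit 147, nat_lit 147]) r26) (.node (nat_lit 11) r27 r29))))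
noncomputable def r30 : WT := (.node (nat_lit 8) (.leaf (nat_lit 15367) [nat_lit 315, nat_lit 147, nat_lit 189, nat_lit 126]) (.leaf (nat_lit 15366) [nat_lit 126, nat_lit 294, nat_lit 189, nat_lit 147]))
noncomputable def r31 : WT := (.node (nat_lit 10) (.leaf (nat_lit 31746) [nat_lit 84, nat_lit 252, nat_lit 126, nat_lit 252, nat_lit 231, nat_lit 189, nat_lit 105]) (.leaf (nat_lit 24585) [nat_lit 315, nat_lit 231, nat_lit 189, nat_lit 210]))
noncomputable def r32 : WT := (.node (nat_lit 12) (.leaf (nat_lit 19460) [nat_lit 294, nat_lit 189, nat_lit 315]) (.node (nat_lit 13) (.leaf (nat_lit 19463) [nat_lit 315, nat_lit 189, nat_lit 294]) (.leaf (nat_lit 29710) [nat_lit 147, nat_lit 63, nat_lit 252, nat_lit 42, nat_lit 273, nat_lit 147, nat_lit 273, nat_lit 210])))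
noncomputable def w6 : WT := (.node (nat_lit 2) (.node (nat_lit 1) (.leaf (nat_lit 3072) [nat_lit 189]) (.leaf (nat_lit 25604) [nat_lit 252, nat_lit 189, nat_lit 273])) (.node (nat_lit 6) (.node (nat_lit 4) (.node (nat_lit 3) (.leaf (nat_lit 12288) [nat_lit 63, nat_lit 147, nat_lit 42]) (.leaf (nat_lit 24580) [nat_lit 210, nat_lit 294, nat_lit 189, nat_lit 231])) (.node (nat_lit 5) (.leaf (nat_lit 25607) [nat_lit 273, nat_lit 189, nat_lit 252]) (.leaf (nat_lit 27650) [nat_lit 42, nat_lit 126, nat_lit 126, nat_lit 63]))) (.node (nat_lit 9) (.node (nat_lit 7) (.leaf (nat_lit 31745) [nat_lit 210, nat_lit 273, nat_lit 147, nat_lit 273, nat_lit 105, nat_lit 189, nat_lit 84]) r30) (.node (nat_lit 11) r31 r32))))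
noncomputable def r33 : WT := (.node (nat_lit 7) (.leaf (nat_lit 15363) [nat_lit 126, nat_lit 168, nat_lit 315, nat_lit 147]) (.leaf (nat_lit 19459) [nat_lit 294, nat_lit 168, nat_lit 315]))
noncomputable def r34 : WT := (.node (nat_lit 9) (.leaf (nat_lit 19456) [nat_lit 315, nat_lit 168, nat_lit 294]) (.leaf (nat_lit 29699) [nat_lit 231, nat_lit 252, nat_lit 126, nat_lit 252, nat_lit 63, nat_lit 273, nat_lit 42, nat_lit 126]))
noncomputable def r35 : WT := (.node (nat_lit 11) (.leaf (nat_lit 31757) [nat_lit 84, nat_lit 168, nat_lit 210, nat_lit 273, nat_lit 147, nat_lit 273, nat_lit 105]) (.node (nat_lit 12) (.leaf (nat_lit 15362) [nat_lit 147, nat_lit 168, nat_lit 126, nat_lit 294]) (.node (nat_lit 13) (.leaf (nat_lit 31758) [nat_lit 105, nat_lit 168, nat_lit 84, nat_lit 252, nat_lit 126, nat_lit 252, nat_lit 231]) (.leaf (nat_lit 24576) [nat_lit 231, nat_lit 168, nat_lit 210, nat_lit 294]))))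
noncomputable def w7 : WT := (.node (nat_lit 1) (.leaf (nat_lit 3074) [nat_lit 168]) (.node (nat_lit 5) (.node (nat_lit 3) (.node (nat_lit 2) (.leaf (nat_lit 12295) [nat_lit 63, nat_lit 126, nat_lit 42]) (.leaf (nat_lit 25600) [nat_lit 273, nat_lit 168, nat_lit 252])) (.node (nat_lit 4) (.leaf (nat_lit 25603) [nat_lit 252, nat_lit 168, nat_lit 273]) (.leaf (nat_lit 27655) [nat_lit 42, nat_lit 147, nat_lit 147, nat_lit 63]))) (.node (nat_lit 8) (.node (nat_lit 6) (.leaf (nat_lit 24581) [nat_lit 210, nat_lit 168, nat_lit 315, nat_lit 231]) r33) (.node (nat_lit 10) r34 r35))))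
noncomputable def r36 : WT := (.node (nat_lit 5) (.leaf (nat_lit 22537) [nat_lit 126, nat_lit 315, nat_lit 315, nat_lit 231, nat_lit 147]) (.leaf (nat_lit 24583) [nat_lit 168, nat_lit 315, nat_lit 231, nat_lit 189]))
noncomputable def r37 : WT := (.node (nat_lit 7) (.leaf (nat_lit 26633) [nat_lit 315, nat_lit 273, nat_lit 231, nat_lit 252]) (.leaf (nat_lit 20487) [nat_lit 315, nat_lit 231, nat_lit 294]))
noncomputable def r38 : WT := (.node (nat_lit 9) (.leaf (nat_lit 20484) [nat_lit 294, nat_lit 231, nat_lit 315]) (.leaf (nat_lit 22534) [nat_lit 294, nat_lit 294, nat_lit 147, nat_lit 231, nat_lit 126]))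
noncomputable def r39 : WT := (.node (nat_lit 11) (.leaf (nat_lit 24582) [nat_lit 294, nat_lit 189, nat_lit 231, nat_lit 168]) (.node (nat_lit 12) (.leaf (nat_lit 32770) [nat_lit 84, nat_lit 210, nat_lit 210, nat_lit 273, nat_lit 147, nat_lit 147, nat_lit 105]) (.leaf (nat_lit 28684) [nat_lit 63, nat_lit 210, nat_lit 42, nat_lit 273, nat_lit 147, nat_lit 210])))
noncomputable def r40 : WT := (.node (nat_lit 15) (.node (nat_lit 14) (.leaf (nat_lit 32776) [nat_lit 273, nat_lit 147, nat_lit 147, nat_lit 105, nat_lit 210, nat_lit 84, nat_lit 210]) (.leaf (nat_lit 28682) [nat_lit 210, nat_lit 63, nat_lit 210, nat_lit 42, nat_lit 273, nat_lit 147])) (.node (nat_lit 16) (.leaf (nat_lit 31747) [nat_lit 273, nat_lit 147, nat_lit 273, nat_lit 105, nat_lit 189, nat_lit 84, nat_lit 168]) (.node (nat_lit 17) (.leaf (nat_lit 32774) [nat_lit 210, nat_lit 273, nat_lit 147, nat_lit 147, nat_lit 105, nat_lit 210, nat_lit 84]) (.leaf (nat_lit 29708) [nat_lit 168, nat_lit 147,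 nat_lit 63, nat_lit 252, nat_lit 42, nat_lit 273, nat_lit 147, nat_lit 273]))))
noncomputable def w8 : WT := (.node (nat_lit 1) (.leaf (nat_lit 4096) [nat_lit 231]) (.node (nat_lit 6) (.node (nat_lit 3) (.node (nat_lit 2) (.leaf (nat_lit 26628) [nat_lit 252, nat_lit 294, nat_lit 231, nat_lit 273]) (.leaf (nat_lit 13312) [nat_lit 105, nat_lit 147, nat_lit 84])) (.node (nat_lit 4) (.leaf (nat_lit 28674) [nat_lit 42, nat_lit 273, nat_lit 147, nat_lit 210, nat_lit 210, nat_lit 63]) r36)) (.node (nat_lit 10) (.node (nat_lit 8) r37 r38) (.node (nat_lit 13) r39 r40))))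
noncomputable def r41 : WT := (.node (nat_lit 5) (.leaf (nat_lit 24578) [nat_lit 168, nat_lit 210, nat_lit 294, nat_lit 189]) (.leaf (nat_lit 20480) [nat_lit 315, nat_lit 210, nat_lit 294]))
noncomputable def r42 : WT := (.node (nat_lit 7) (.leaf (nat_lit 20483) [nat_lit 294, nat_lit 210, nat_lit 315]) (.leaf (nat_lit 22530) [nat_lit 126, nat_lit 210, nat_lit 294, nat_lit 294, nat_lit 147]))
noncomputable def r43 : WT := (.node (nat_lit 9) (.leaf (nat_lit 28673) [nat_lit 231, nat_lit 126, nat_lit 252, nat_lit 63, nat_lit 231, nat_lit 42]) (.leaf (nat_lit 28675) [nat_lit 126, nat_lit 252, nat_lit 63, nat_lit 231, nat_lit 42, nat_lit 231]))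
noncomputable def r44 : WT := (.node (nat_lit 11) (.leaf (nat_lit 31756) [nat_lit 189, nat_lit 105, nat_lit 168, nat_lit 84, nat_lit 252, nat_lit 126, nat_lit 252]) (.node (nat_lit 12) (.leaf (nat_lit 26624) [nat_lit 273, nat_lit 210, nat_lit 252, nat_lit 294]) (.leaf (nat_lit 32781) [nat_lit 84, nat_lit 126, nat_lit 126, nat_lit 252, nat_lit 231, nat_lit 231, nat_lit 105])))
noncomputable def r45 : WT := (.node (nat_lit 15) (.node (nat_lit 14) (.leaf (nat_lit 32775) [nat_lit 231, nat_lit 105, nat_lit 231, nat_lit 84, nat_lit 126, nat_lit 126, nat_lit 252]) (.leaf (nat_lit 32777) [nat_lit 105, nat_lit 231, nat_lit 84, nat_lit 126, nat_lit 126, nat_lit 252, nat_lit 231])) (.node (nat_lit 16) (.leaf (nat_lit 24579) [nat_lit 189, nat_lit 210, nat_lit 168, nat_lit 315]) (.node (nat_lit 17) (.leaf (nat_lit 22533) [nat_lit 147, nat_lit 210, nat_lit 126, nat_lit 315, nat_lit 315]) (.leaf (nat_lit 29701) [nat_lit 252, nat_lit 126, nat_lit 252, nat_lit 63, nat_lit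 273, nat_lit 42, nat_lit 126, nat_lit 189]))))
noncomputable def w9 : WT := (.node (nat_lit 1) (.leaf (nat_lit 4098) [nat_lit 210]) (.node (nat_lit 6) (.node (nat_lit 3) (.node (nat_lit 2) (.leaf (nat_lit 13319) [nat_lit 105, nat_lit 126, nat_lit 84]) (.leaf (nat_lit 26629) [nat_lit 252, nat_lit 210, nat_lit 315, nat_lit 273])) (.node (nat_lit 4) (.leaf (nat_lit 28683) [nat_lit 42, nat_lit 231, nat_lit 231, nat_lit 126, nat_lit 252, nat_lit 63]) r41)) (.node (nat_lit 10) (.node (nat_lit 8) r42 r43) (.node (nat_lit 13) r44 r45))))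
noncomputable def r46 : WT := (.node (nat_lit 5) (.leaf (nat_lit 25606) [nat_lit 189, nat_lit 273, nat_lit 168]) (.leaf (nat_lit 23558) [nat_lit 315, nat_lit 315, nat_lit 147, nat_lit 273, nat_lit 126]))
noncomputable def r47 : WT := (.node (nat_lit 8) (.leaf (nat_lit 23561) [nat_lit 126, nat_lit 294, nat_lit 294, nat_lit 273, nat_lit 147]) (.leaf (nat_lit 29698) [nat_lit 42, nat_lit 273, nat_lit 147, nat_lit 273, nat_lit 210, nat_lit 168, nat_lit 147, nat_lit 63]))
noncomputable def r48 : WT := (.node (nat_lit 10) (.leaf (nat_lit 21508) [nat_lit 294, nat_lit 273, nat_lit 315]) (.leaf (nat_lit 26630) [nat_lit 294, nat_lit 231, nat_lit 273, nat_lit 210]))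
noncomputable def r49 : WT := (.node (nat_lit 16) (.leaf (nat_lit 29703) [nat_lit 126, nat_lit 252, nat_lit 63, nat_lit 273, nat_lit 42, nat_lit 126, nat_lit 189, nat_lit 231]) (.leaf (nat_lit 29707) [nat_lit 63, nat_lit 273, nat_lit 42, nat_lit 126, nat_lit 189, nat_lit 231, nat_lit 252, nat_lit 126]))
noncomputable def r50 : WT := (.node (nat_lit 12) (.leaf (nat_lit 31750) [nat_lit 126, nat_lit 252, nat_lit 231, nat_lit 189, nat_lit 105, nat_lit 168, nat_lit 84]) (.node (nat_lit 13) (.leaf (nat_lit 28679) [nat_lit 63, nat_lit 231, nat_lit 42, nat_lit 231, nat_lit 231, nat_lit 126]) (.node (nat_lit 14) (.leaf (nat_lit 32773) [nat_lit 231, nat_lit 231, nat_lit 105, nat_lit 231, nat_lit 84, nat_lit 126, nat_lit 126]) (.node (nat_lit 15) (.leaf (nat_lit 31754) [nat_lit 231, nat_lit 189, nat_lit 105, nat_lit 168, nat_lit 84, nat_lit 252, nat_lit 126]) r49))))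
noncomputable def w10 : WT := (.node (nat_lit 1) (.leaf (nat_lit 5120) [nat_lit 273]) (.node (nat_lit 6) (.node (nat_lit 3) (.node (nat_lit 2) (.leaf (nat_lit 26631) [nat_lit 210, nat_lit 315, nat_lit 273, nat_lit 231]) (.leaf (nat_lit 25605) [nat_lit 168, nat_lit 273, nat_lit 189])) (.node (nat_lit 4) (.leaf (nat_lit 14336) [nat_lit 84, nat_lit 147, nat_lit 105]) r46)) (.node (nat_lit 9) (.node (nat_lit 7) (.leaf (nat_lit 21511) [nat_lit 315, nat_lit 273, nat_lit 294]) r47) (.node (nat_lit 11) r48 r50))))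
noncomputable def r51 : WT := (.node (nat_lit 5) (.leaf (nat_lit 23554) [nat_lit 126, nat_lit 252, nat_lit 315, nat_lit 315, nat_lit 147]) (.leaf (nat_lit 25601) [nat_lit 189, nat_lit 252, nat_lit 168]))
noncomputable def r52 : WT := (.node (nat_lit 8) (.leaf (nat_lit 21507) [nat_lit 294, nat_lit 252, nat_lit 315]) (.leaf (nat_lit 21504) [nat_lit 315, nat_lit 252, nat_lit 294]))
noncomputable def r53 : WT := (.node (nat_lit 10) (.leaf (nat_lit 26627) [nat_lit 231, nat_lit 252, nat_lit 210, nat_lit 315]) (.leaf (nat_lit 28678) [nat_lit 147, nat_lit 210, nat_lit 210, nat_lit 63, nat_lit 210, nat_lit 42]))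
noncomputable def r54 : WT := (.node (nat_lit 13) (.node (nat_lit 12) (.leaf (nat_lit 31749) [nat_lit 147, nat_lit 273, nat_lit 105, nat_lit 189, nat_lit 84, nat_lit 168, nat_lit 210]) (.leaf (nat_lit 32778) [nat_lit 147, nat_lit 147, nat_lit 105, nat_lit 210, nat_lit 84, nat_lit 210, nat_lit 210])) (.node (nat_lit 14) (.leaf (nat_lit 31753) [nat_lit 105, nat_lit 189, nat_lit 84, nat_lit 168, nat_lit 210, nat_lit 273, nat_lit 147]) (.node (nat_lit 15) (.leaf (nat_lit 23557) [nat_lit 147, nat_lit 252, nat_lit 126, nat_lit 294, nat_lit 294]) (.node (nat_lit 16) (.leaf (nat_lit 29702) [nat_lit 147, nat_lit 273, nat_lit 210, nat_lit 168, nat_lit 147, nat_lit 63, nat_lit 252, nat_lit 42]) (.leaf (nat_lit 29706) [nat_lit 210, nat_lit 168, nat_lit 147, nat_lit 63, nat_lit 252, nat_lit 42, nat_lit 273, nat_lit 147])))))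
noncomputable def w11 : WT := (.node (nat_lit 1) (.leaf (nat_lit 5122) [nat_lit 252]) (.node (nat_lit 6) (.node (nat_lit 3) (.node (nat_lit 2) (.leaf (nat_lit 25602) [nat_lit 168, nat_lit 252, nat_lit 189]) (.leaf (nat_lit 14343) [nat_lit 84, nat_lit 126, nat_lit 105])) (.node (nat_lit 4) (.leaf (nat_lit 26626) [nat_lit 210, nat_lit 252, nat_lit 294, nat_lit 231]) r51)) (.node (nat_lit 9) (.node (nat_lit 7) (.leaf (nat_lit 29711) [nat_lit 42, nat_lit 126, nat_lit 189, nat_lit 231, nat_lit 252, nat_lit 126, nat_lit 252, nat_lit 63]) r52) (.node (nat_lit 11) r53 r54))))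
noncomputable def r55 : WT := (.node (nat_lit 3) (.leaf (nat_lit 21509) [nat_lit 252, nat_lit 315, nat_lit 273]) (.leaf (nat_lit 33793) [nat_lit 105, nat_lit 315, nat_lit 84]))
noncomputable def r56 : WT := (.node (nat_lit 6) (.leaf (nat_lit 18438) [nat_lit 147, nat_lit 315, nat_lit 126]) (.leaf (nat_lit 18437) [nat_lit 126, nat_lit 315, nat_lit 147]))
noncomputable def r57 : WT := (.node (nat_lit 9) (.leaf (nat_lit 20486) [nat_lit 231, nat_lit 315, nat_lit 210]) (.leaf (nat_lit 33794) [nat_lit 84, nat_lit 315, nat_lit 105]))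
noncomputable def r58 : WT := (.node (nat_lit 11) (.leaf (nat_lit 30721) [nat_lit 294, nat_lit 63, nat_lit 315, nat_lit 42]) (.node (nat_lit 12) (.leaf (nat_lit 17408) [nat_lit 294, nat_lit 294, nat_lit 294, nat_lit 294]) (.leaf (nat_lit 19461) [nat_lit 168, nat_lit 315, nat_lit 189])))
noncomputable def r59 : WT := (.node (nat_lit 21) (.leaf (nat_lit 22538) [nat_lit 147, nat_lit 231, nat_lit 126, nat_lit 210, nat_lit 294]) (.leaf (nat_lit 23555) [nat_lit 273, nat_lit 147, nat_lit 252, nat_lit 126, nat_lit 294]))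
noncomputable def r60 : WT := (.node (nat_lit 15) (.node (nat_lit 14) (.leaf (nat_lit 19462) [nat_lit 189, nat_lit 315, nat_lit 168]) (.leaf (nat_lit 30723) [nat_lit 63, nat_lit 315, nat_lit 42, nat_lit 294])) (.node (nat_lit 17) (.node (nat_lit 16) (.leaf (nat_lit 15360) [nat_lit 189, nat_lit 147, nat_lit 168, nat_lit 126]) (.leaf (nat_lit 24584) [nat_lit 189, nat_lit 231, nat_lit 168, nat_lit 210])) (.node (nat_lit 19) (.node (nat_lit 18) (.leaf (nat_lit 26632) [nat_lit 231, nat_lit 273, nat_lit 210, nat_lit 252]) (.leaf (nat_lit 23553) [nat_lit 294, nat_lit 273, nat_lit 147, nat_lit 252, nat_lit 126])) (.node (nat_lit 20) (.leaf (nat_lit 22536) [nat_lit 294, nat_lit 147, nat_lit 231, nat_lit 126, nat_lit 210]) r59))))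
noncomputable def w12 : WT := (.node (nat_lit 1) (.leaf (nat_lit 6144) [nat_lit 315]) (.node (nat_lit 7) (.node (nat_lit 4) (.node (nat_lit 2) (.leaf (nat_lit 20485) [nat_lit 210, nat_lit 315, nat_lit 231]) r55) (.node (nat_lit 5) (.leaf (nat_lit 30722) [nat_lit 42, nat_lit 315, nat_lit 315, nat_lit 63]) r56)) (.node (nat_lit 10) (.node (nat_lit 8) (.leaf (nat_lit 21510) [nat_lit 273, nat_lit 315, nat_lit 252]) r57) (.node (nat_lit 13) r58 r60))))
noncomputable def r61 : WT := (.node (nat_lit 3) (.leaf (nat_lit 21505) [nat_lit 273, nat_lit 294, nat_lit 252]) (.leaf (nat_lit 20482) [nat_lit 210, nat_lit 294, nat_lit 231]))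
noncomputable def r62 : WT := (.node (nat_lit 6) (.leaf (nat_lit 30727) [nat_lit 42, nat_lit 294, nat_lit 294, nat_lit 63]) (.leaf (nat_lit 18434) [nat_lit 126, nat_lit 294, nat_lit 147]))
noncomputable def r63 : WT := (.node (nat_lit 9) (.leaf (nat_lit 33797) [nat_lit 84, nat_lit 294, nat_lit 105]) (.leaf (nat_lit 20481) [nat_lit 231, nat_lit 294, nat_lit 210]))
noncomputable def r64 : WT := (.node (nat_lit 11) (.leaf (nat_lit 30726) [nat_lit 315, nat_lit 63, nat_lit 294, nat_lit 42]) (.leaf (nat_lit 19458) [nat_lit 168, nat_lit 294, nat_lit 189]))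
noncomputable def r65 : WT := (.node (nat_lit 19) (.leaf (nat_lit 15369) [nat_lit 147, nat_lit 189, nat_lit 126, nat_lit 168]) (.leaf (nat_lit 22531) [nat_lit 231, nat_lit 147, nat_lit 210, nat_lit 126, nat_lit 315]))
noncomputable def r66 : WT := (.node (nat_lit 21) (.leaf (nat_lit 23562) [nat_lit 147, nat_lit 273, nat_lit 126, nat_lit 252, nat_lit 315]) (.leaf (nat_lit 24577) [nat_lit 231, nat_lit 189, nat_lit 210, nat_lit 168]))
noncomputable def r67 : WT := (.node (nat_lit 14) (.node (nat_lit 13) (.leaf (nat_lit 19457) [nat_lit 189, nat_lit 294, nat_lit 168]) (.leaf (nat_lit 17409) [nat_lit 315, nat_lit 315, nat_lit 315, nat_lit 315])) (.node (nat_lit 16) (.node (nat_lit 15) (.leaf (nat_lit 26625) [nat_lit 273, nat_lit 231, nat_lit 252, nat_lit 210]) (.leaf (nat_lit 22529) [nat_lit 315, nat_lit 231, nat_lit 147, nat_lit 210, nat_lit 126])) (.node (nat_lit 18) (.node (nat_lit 17) (.leaf (nat_lit 30728) [nat_lit 63, nat_lit 294, nat_lit 42, nat_lit 315])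 (.leaf (nat_lit 23560) [nat_lit 315, nat_lit 147, nat_lit 273, nat_lit 126, nat_lit 252])) (.node (nat_lit 20) r65 r66))))
noncomputable def w13 : WT := (.node (nat_lit 1) (.leaf (nat_lit 6146) [nat_lit 294]) (.node (nat_lit 7) (.node (nat_lit 4) (.node (nat_lit 2) (.leaf (nat_lit 21506) [nat_lit 252, nat_lit 294, nat_lit 273]) r61) (.node (nat_lit 5) (.leaf (nat_lit 33798) [nat_lit 105, nat_lit 294, nat_lit 84]) r62)) (.node (nat_lit 10) (.node (nat_lit 8) (.leaf (nat_lit 18433) [nat_lit 147, nat_lit 294, nat_lit 126]) r63) (.node (nat_lit 12) r64 r67))))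
noncomputable def r68 : WT := (.node (nat_lit 12) (.leaf (nat_lit 19459) [nat_lit 189, nat_lit 294, nat_lit 168, nat_lit 315]) (.leaf (nat_lit 18435) [nat_lit 147, nat_lit 294, nat_lit 126, nat_lit 315]))
noncomputable def wP : WT := (.node (nat_lit 8) (.node (nat_lit 4) (.node (nat_lit 2) (.node (nat_lit 1) (.leaf (nat_lit 14340) [nat_lit 147, nat_lit 105, nat_lit 252, nat_lit 84]) (.leaf (nat_lit 25601) [nat_lit 273, nat_lit 189, nat_lit 252, nat_lit 168])) (.node (nat_lit 3) (.leaf (nat_lit 31744) [nat_lit 105, nat_lit 168, nat_lit 84, nat_lit 252, nat_lit 126, nat_lit 252, nat_lit 231, nat_lit 189]) (.leaf (nat_lit 27657) [nat_lit 42, nat_lit 147, nat_lit 147, nat_lit 63, nat_lit 189]))) (.node (nat_lit 6) (.node (nat_lit 5) (.leaf (nat_lit 27652) [nat_lit 42, nat_lit 126, nat_lit 126, nat_lit 63, nat_lit 168]) (.leaf (nat_lit 27648) [nat_lit 63, nat_lit 168, nat_lit 42, nat_lit 126, nat_lit 126])) (.node (nat_lit 7) (.leaf (nat_lit 24580) [nat_lit 168,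 nat_lit 210, nat_lit 294, nat_lit 189, nat_lit 231]) (.leaf (nat_lit 33798) [nat_lit 315, nat_lit 105, nat_lit 294, nat_lit 84])))) (.node (nat_lit 13) (.node (nat_lit 10) (.node (nat_lit 9) (.leaf (nat_lit 33796) [nat_lit 84, nat_lit 315, nat_lit 105, nat_lit 294]) (.leaf (nat_lit 25607) [nat_lit 168, nat_lit 273, nat_lit 189, nat_lit 252])) (.node (nat_lit 11) (.leaf (nat_lit 12290) [nat_lit 63, nat_lit 147, nat_lit 42, nat_lit 168]) r68)) (.node (nat_lit 15) (.node (nat_lit 14) (.leaf (nat_lit 13319) [nat_lit 231, nat_lit 105, nat_lit 126, nat_lit 84]) (.leaf (nat_lit 13315) [nat_lit 126, nat_lit 84, nat_lit 231, nat_lit 105])) (.node (nat_lit 16) (.leaf (nat_lit 12293) [nat_lit 42, nat_lit 189, nat_lit 63, nat_lit 126]) (.leaf (nat_lit 12292) [nat_lit 147, nat_lit 42, nat_lit 168, nat_lit 63])))))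
noncomputable def P : Par := ⟨tb, nat_lit 336, nat_lit 0xffffffffffffffffffffffffffffffffffffffffffffffffffffffffffffffffffffffffffffffffffff, nat_lit 3147, nat_lit 2097151, nat_lit 4095, nat_lit 21, nat_lit 12, nat_lit 3125,
  [nat_lit 42, nat_lit 63, nat_lit 84, nat_lit 105, nat_lit 126, nat_lit 147, nat_lit 168, nat_lit 189, nat_lit 210, nat_lit 231, nat_lit 252, nat_lit 273, nat_lit 294, nat_lit 315], [nat_lit 42, nat_lit 84], wP,
  (.cons (nat_lit 42) w0 (.cons (nat_lit 63) w1 (.cons (nat_lit 84) w2 (.cons (nat_lit 105) w3 (.cons (nat_lit 126) w4 (.cons (nat_lit 147) w5 (.cons (nat_lit 168) w6 (.cons (nat_lit 189) w7 (.cons (nat_lit 210) w8 (.cons (nat_lit 231) w9 (.cons (nat_lit 252) w10 (.cons (nat_lit 273) w11 (.cons (nat_lit 294) w12 (.cons (nat_lit 315) w13 .nil)))))))))))))),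
  .nil⟩

end Cfsg.Agent.Lib.TCLy2
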