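import Cfsg.Agent.Lib.TCLy3D0

set_option autoImplicit false
set_option maxRecDepth 100000

namespace Cfsg.Agent.Lib.TCLy3
open Cfsg.Agent.Lib.TCCore

noncomputable def tb : T := (.node (nat_lit 200) l0 (.node (nat_lit 400) l1 l2))
noncomputable def r0 : WT := (.node (nat_lit 5) (.leaf (nat_lit 5129) [nat_lit 32, nat_lit 80, nat_lit 48, nat_lit 48, nat_lit 64]) (.node (nat_lit 6) (.leaf (nat_lit 4096) [nat_lit 64, nat_lit 32, nat_lit 64, nat_lit 32, nat_lit 64, nat_lit 32, nat_lit 64]) (.node (nat_lit 7) (.leaf (nat_lit 6151) [nat_lit 80, nat_lit 48, nat_lit 64, nat_lit 32, nat_lit 80, nat_lit 48, nat_lit 64, nat_lit 32, nat_lit 80, nat_lit 48, nat_lit 64]) (.leaf (nat_lit 2048) [nat_lit 32, nat_lit 32, nat_lit 32, nat_lit 32, nat_lit 32, nat_lit 32, nat_lit 32]))))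
noncomputable def w0 : WT := (.node (nat_lit 1) (.leaf (nat_lit 0) [nat_lit 48]) (.node (nat_lit 2) (.leaf (nat_lit 5128) [nat_lit 64, nat_lit 48, nat_lit 48, nat_lit 80, nat_lit 32]) (.node (nat_lit 3) (.leaf (nat_lit 5131) [nat_lit 80, nat_lit 48, nat_lit 48, nat_lit 64, nat_lit 32]) (.node (nat_lit 4) (.leaf (nat_lit 5126) [nat_lit 32, nat_lit 64, nat_lit 48, nat_lit 48, nat_lit 80]) r0))))
noncomputable def r1 : WT := (.node (nat_lit 5) (.leaf (nat_lit 5123) [nat_lit 48, nat_lit 64, nat_lit 32, nat_lit 32, nat_lit 80]) (.node (nat_lit 6) (.leaf (nat_lit 4099) [nat_lit 80, nat_lit 48, nat_lit 80, nat_lit 48, nat_lit 80, nat_lit 48, nat_lit 80]) (.leaf (nat_lit 6147) [nat_lit 64, nat_lit 32, nat_lit 80, nat_lit 48, nat_lit 64, nat_lit 32, nat_lit 80, nat_lit 48, nat_lit 64, nat_lit 32, nat_lit 80])))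
noncomputable def w1 : WT := (.node (nat_lit 1) (.leaf (nat_lit 2) [nat_lit 32]) (.node (nat_lit 2) (.leaf (nat_lit 5122) [nat_lit 80, nat_lit 32, nat_lit 32, nat_lit 64, nat_lit 48]) (.node (nat_lit 3) (.leaf (nat_lit 5125) [nat_lit 64, nat_lit 32, nat_lit 32, nat_lit 80, nat_lit 48]) (.node (nat_lit 4) (.leaf (nat_lit 5120) [nat_lit 48, nat_lit 80, nat_lit 32, nat_lit 32, nat_lit 64]) r1))))
noncomputable def r2 : WT := (.node (nat_lit 5) (.leaf (nat_lit 4098) [nat_lit 32, nat_lit 64, nat_lit 32, nat_lit 64, nat_lit 32, nat_lit 64, nat_lit 32]) (.node (nat_lit 6) (.leaf (nat_lit 6149) [nat_lit 32, nat_lit 80, nat_lit 48, nat_lit 64, nat_lit 32, nat_lit 80, nat_lit 48, nat_lit 64, nat_lit 32, nat_lit 80, nat_lit 48]) (.leaf (nat_lit 6150) [nat_lit 48, nat_lit 80, nat_lit 32, nat_lit 64, nat_lit 48, nat_lit 80, nat_lit 32, nat_lit 64, nat_lit 48, nat_lit 80, nat_lit 32])))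
noncomputable def w2 : WT := (.node (nat_lit 1) (.leaf (nat_lit 1024) [nat_lit 80]) (.node (nat_lit 2) (.leaf (nat_lit 5127) [nat_lit 32, nat_lit 32, nat_lit 80, nat_lit 48, nat_lit 48]) (.node (nat_lit 3) (.leaf (nat_lit 5130) [nat_lit 48, nat_lit 48, nat_lit 80, nat_lit 32, nat_lit 32]) (.node (nat_lit 4) (.leaf (nat_lit 3072) [nat_lit 64, nat_lit 64, nat_lit 64, nat_lit 64]) r2))))
noncomputable def r3 : WT := (.node (nat_lit 5) (.leaf (nat_lit 4097) [nat_lit 48, nat_lit 80, nat_lit 48, nat_lit 80, nat_lit 48, nat_lit 80, nat_lit 48]) (.node (nat_lit 6) (.leaf (nat_lit 6145) [nat_lit 48, nat_lit 64, nat_lit 32, nat_lit 80, nat_lit 48, nat_lit 64, nat_lit 32, nat_lit 80, nat_lit 48, nat_lit 64, nat_lit 32]) (.leaf (nat_lit 6146) [nat_lit 32, nat_lit 64, nat_lit 48, nat_lit 80, nat_lit 32, nat_lit 64, nat_lit 48, nat_lit 80, nat_lit 32, nat_lit 64, nat_lit 48])))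
noncomputable def w3 : WT := (.node (nat_lit 1) (.leaf (nat_lit 1026) [nat_lit 64]) (.node (nat_lit 2) (.leaf (nat_lit 5124) [nat_lit 32, nat_lit 32, nat_lit 64, nat_lit 48, nat_lit 48]) (.node (nat_lit 3) (.leaf (nat_lit 5121) [nat_lit 48, nat_lit 48, nat_lit 64, nat_lit 32, nat_lit 32]) (.node (nat_lit 4) (.leaf (nat_lit 3073) [nat_lit 80, nat_lit 80, nat_lit 80, nat_lit 80]) r3))))
noncomputable def wP : WT := (.leaf (nat_lit 0) [nat_lit 32, nat_lit 48])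
noncomputable def P : Par := ⟨tb, nat_lit 96, nat_lit 0xffffffffffffffffffffffff, nat_lit 480, nat_lit 65535, nat_lit 511, nat_lit 16, nat_lit 9, nat_lit 480,
  [nat_lit 32, nat_lit 48, nat_lit 64, nat_lit 80], [], wP,
  (.cons (nat_lit 32) w0 (.cons (nat_lit 48) w1 (.cons (nat_lit 64) w2 (.cons (nat_lit 80) w3 .nil)))),
  .nil⟩

end Cfsg.Agent.Lib.TCLy3
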