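import Cfsg.Agent.Lib.TCLyH1D0

set_option autoImplicit false
set_option maxRecDepth 100000

namespace Cfsg.Agent.Lib.TCLyH1
open Cfsg.Agent.Lib.TCCore

noncomputable def tb : T := (.node (nat_lit 160) l0 l1)
noncomputable def r0 : WT := (.node (nat_lit 5) (.leaf (nat_lit 6144) [nat_lit 75, nat_lit 30, nat_lit 60, nat_lit 45, nat_lit 60]) (.leaf (nat_lit 8196) [nat_lit 90, nat_lit 45, nat_lit 60, nat_lit 45, nat_lit 90, nat_lit 30, nat_lit 75]))
noncomputable def r1 : WT := (.node (nat_lit 7) (.leaf (nat_lit 7168) [nat_lit 105, nat_lit 30, nat_lit 90, nat_lit 45, nat_lit 90]) (.node (nat_lit 8) (.leaf (nat_lit 6147) [nat_lit 75, nat_lit 45, nat_lit 60, nat_lit 45, nat_lit 75]) (.leaf (nat_lit 7171) [nat_lit 105, nat_lit 45, nat_lit 90, nat_lit 45, nat_lit 105])))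
noncomputable def w0 : WT := (.node (nat_lit 1) (.leaf (nat_lit 0) [nat_lit 45]) (.node (nat_lit 2) (.leaf (nat_lit 3072) [nat_lit 30, nat_lit 30]) (.node (nat_lit 4) (.node (nat_lit 3) (.leaf (nat_lit 7172) [nat_lit 90, nat_lit 45, nat_lit 90, nat_lit 30, nat_lit 105]) (.leaf (nat_lit 6148) [nat_lit 60, nat_lit 45, nat_lit 60, nat_lit 30, nat_lit 75])) (.node (nat_lit 6) r0 r1))))
noncomputable def r2 : WT := (.node (nat_lit 5) (.leaf (nat_lit 6152) [nat_lit 60, nat_lit 30, nat_lit 75, nat_lit 30, nat_lit 60]) (.leaf (nat_lit 7176) [nat_lit 90, nat_lit 30, nat_lit 105, nat_lit 30, nat_lit 90]))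
noncomputable def r3 : WT := (.node (nat_lit 7) (.leaf (nat_lit 8200) [nat_lit 60, nat_lit 45, nat_lit 90, nat_lit 30, nat_lit 75, nat_lit 30, nat_lit 90]) (.leaf (nat_lit 6155) [nat_lit 75, nat_lit 30, nat_lit 75, nat_lit 45, nat_lit 60]))
noncomputable def r4 : WT := (.node (nat_lit 10) (.node (nat_lit 9) (.leaf (nat_lit 8204) [nat_lit 90, nat_lit 30, nat_lit 75, nat_lit 30, nat_lit 90, nat_lit 45, nat_lit 60]) (.leaf (nat_lit 7179) [nat_lit 105, nat_lit 30, nat_lit 105, nat_lit 45, nat_lit 90])) (.node (nat_lit 11) (.leaf (nat_lit 8203) [nat_lit 60, nat_lit 45, nat_lit 105, nat_lit 30, nat_lit 75, nat_lit 30, nat_lit 105]) (.leaf (nat_lit 8207) [nat_lit 105, nat_lit 30, nat_lit 75, nat_lit 30, nat_lit 105, nat_lit 45, nat_lit 60])))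
noncomputable def w1 : WT := (.node (nat_lit 1) (.leaf (nat_lit 2) [nat_lit 30]) (.node (nat_lit 3) (.node (nat_lit 2) (.leaf (nat_lit 3073) [nat_lit 45, nat_lit 45]) (.leaf (nat_lit 7175) [nat_lit 90, nat_lit 45, nat_lit 105, nat_lit 30, nat_lit 105])) (.node (nat_lit 6) (.node (nat_lit 4) (.leaf (nat_lit 6151) [nat_lit 60, nat_lit 45, nat_lit 75, nat_lit 30, nat_lit 75]) r2) (.node (nat_lit 8) r3 r4))))
noncomputable def r5 : WT := (.node (nat_lit 6) (.leaf (nat_lit 6153) [nat_lit 45, nat_lit 75, nat_lit 30, nat_lit 75, nat_lit 45]) (.leaf (nat_lit 8205) [nat_lit 45, nat_lit 105, nat_lit 30, nat_lit 75, nat_lit 30, nat_lit 105, nat_lit 45]))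
noncomputable def w2 : WT := (.node (nat_lit 1) (.leaf (nat_lit 1024) [nat_lit 75]) (.node (nat_lit 3) (.node (nat_lit 2) (.leaf (nat_lit 4096) [nat_lit 60, nat_lit 60]) (.leaf (nat_lit 6154) [nat_lit 30, nat_lit 75, nat_lit 30, nat_lit 60, nat_lit 45])) (.node (nat_lit 4) (.leaf (nat_lit 8202) [nat_lit 45, nat_lit 90, nat_lit 30, nat_lit 75, nat_lit 30, nat_lit 90, nat_lit 45]) (.node (nat_lit 5) (.leaf (nat_lit 6150) [nat_lit 45, nat_lit 60, nat_lit 30, nat_lit 75, nat_lit 30]) r5))))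
noncomputable def r6 : WT := (.node (nat_lit 6) (.leaf (nat_lit 6149) [nat_lit 45, nat_lit 60, nat_lit 45, nat_lit 75, nat_lit 30]) (.leaf (nat_lit 8197) [nat_lit 30, nat_lit 105, nat_lit 45, nat_lit 60, nat_lit 45, nat_lit 105, nat_lit 30]))
noncomputable def w3 : WT := (.node (nat_lit 1) (.leaf (nat_lit 1026) [nat_lit 60]) (.node (nat_lit 2) (.leaf (nat_lit 4097) [nat_lit 75, nat_lit 75]) (.node (nat_lit 4) (.node (nat_lit 3) (.leaf (nat_lit 6146) [nat_lit 30, nat_lit 60, nat_lit 45, nat_lit 60, nat_lit 30]) (.leaf (nat_lit 6145) [nat_lit 30, nat_lit 75, nat_lit 45, nat_lit 60, nat_lit 45])) (.node (nat_lit 5) (.leaf (nat_lit 8194) [nat_lit 30, nat_lit 90, nat_lit 45, nat_lit 60, nat_lit 45, nat_lit 90, nat_lit 30]) r6))))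
noncomputable def r7 : WT := (.node (nat_lit 6) (.leaf (nat_lit 7177) [nat_lit 45, nat_lit 105, nat_lit 30, nat_lit 105, nat_lit 45]) (.leaf (nat_lit 7174) [nat_lit 45, nat_lit 90, nat_lit 30, nat_lit 105, nat_lit 30]))
noncomputable def w4 : WT := (.node (nat_lit 1) (.leaf (nat_lit 2048) [nat_lit 105]) (.node (nat_lit 2) (.leaf (nat_lit 5120) [nat_lit 90, nat_lit 90]) (.node (nat_lit 4) (.node (nat_lit 3) (.leaf (nat_lit 7178) [nat_lit 30, nat_lit 105, nat_lit 30, nat_lit 90, nat_lit 45]) (.leaf (nat_lit 8198) [nat_lit 45, nat_lit 60, nat_lit 45, nat_lit 90, nat_lit 30, nat_lit 75, nat_lit 30])) (.node (nat_lit 5) (.leaf (nat_lit 8206) [nat_lit 30, nat_lit 75, nat_lit 30, nat_lit 90, nat_lit 45, nat_lit 60, nat_lit 45]) r7))))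
noncomputable def r8 : WT := (.node (nat_lit 6) (.leaf (nat_lit 8201) [nat_lit 45, nat_lit 60, nat_lit 45, nat_lit 105, nat_lit 30, nat_lit 75, nat_lit 30]) (.leaf (nat_lit 7173) [nat_lit 45, nat_lit 90, nat_lit 45, nat_lit 105, nat_lit 30]))
noncomputable def w5 : WT := (.node (nat_lit 1) (.leaf (nat_lit 2050) [nat_lit 90]) (.node (nat_lit 2) (.leaf (nat_lit 5121) [nat_lit 105, nat_lit 105]) (.node (nat_lit 4) (.node (nat_lit 3) (.leaf (nat_lit 7170) [nat_lit 30, nat_lit 90, nat_lit 45, nat_lit 90, nat_lit 30]) (.leaf (nat_lit 7169) [nat_lit 30, nat_lit 105, nat_lit 45, nat_lit 90, nat_lit 45])) (.node (nat_lit 5) (.leaf (nat_lit 8193) [nat_lit 30, nat_lit 75, nat_lit 30, nat_lit 105, nat_lit 45, nat_lit 60, nat_lit 45]) r8))))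
noncomputable def wP : WT := (.leaf (nat_lit 6155) [nat_lit 45, nat_lit 75, nat_lit 30, nat_lit 75, nat_lit 45, nat_lit 60])
noncomputable def P : Par := ⟨tb, nat_lit 120, nat_lit 0xffffffffffffffffffffffffffffff, nat_lit 215, nat_lit 32767, nat_lit 255, nat_lit 15, nat_lit 8, nat_lit 120,
  [nat_lit 30, nat_lit 45, nat_lit 60, nat_lit 75, nat_lit 90, nat_lit 105], [], wP,
  (.cons (nat_lit 30) w0 (.cons (nat_lit 45) w1 (.cons (nat_lit 60) w2 (.cons (nat_lit 75) w3 (.cons (nat_lit 90) w4 (.cons (nat_lit 105) w5 .nil)))))),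
  .nil⟩

end Cfsg.Agent.Lib.TCLyH1
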