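import Cfsg.Agent.Lib.TCDefs

set_option autoImplicit false
set_option maxRecDepth 100000

namespace Cfsg.Agent.Lib.TCLyH2
open Cfsg.Agent.Lib.TCCore

noncomputable def l0 : T := .leaf (nat_lit 0) (nat_lit 0x50d86372707fff15dbfff8a8c02afffca9bfffc5f213d45f78c9002afffffff11d09c2fffc576fffc046fffffff23084f513c83f3fffc01c3d48e51fffc7c311d0372fffc01c0a2ce3319dbfff0fcc5748aa00628294a70ffffffffffffff86d00542bc5fa5ffffffffffc9ef826801cfffffff7b7c96e29c3fff7e64038fffffff27bdddffffc8edfffc01cfffffff7327fff25b886cfffc01cffffffffffc7eb23b7ffffffc038fffffff21b08e01da9bc9587c02afffffff1ba7fff6b247ebfffc04619a3ffffffc76a1f819dffffc062fffc6e9fffc5e71b918e5fffc038fffffff19a3fff5f70566fffc01cffffffffffc4e4179d6dcfffc03856b55a2fffffff65a04e45a4c01c5260463159bfff159476858240541391398fffd3d013843e256b001c4b30413fffffff118c36156b401c0b806a1fffffff0f8856354c0062168436125affff097c869564002a0ab018979b9f6f69a42e05860054ffffffffffd7c4fffc85dfffc01c1f4c8d4fffffff237bfff8a2c0625a98b5afffffff5d998675614054fffffff5abd4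b03164b5a534401c2f715a62ed159e2f6cad9549c01cfffffff52b0a352d6bfff5540038ffffffffffd2ccfffc957fffc01c4a689b4472bfff27608d65a9401cfffffff2554854255fffffffc038fffffff21509d647311cbfffc04625747d323588d543350ca5aa0054215085dfffd1b93ea875288cc01c1b44ff36237fff1f4ceaa88c80623bcc7525cbcee11940da78ac402a173ffff518d5b5329c6d188ac062fffc650fffcec718c853386a801cffffffffffffff12c4dab8a9c02a12c84b10f2ffff2f291545aa40462a4d3624d63fff0f2d255588802a26c0310fffc44d495444c56840540a9c185fffd2574550c4d5898054041029efffdd6d71adb6a7074062fffc6c71e64798203880786500541d206463d3ffff1d007bf84300541b1fffffffffff1713ffffffc02a1e58795ffffffffffc5c4880c01c1af8542fffffff1914646fffc054fffc68d21cffff1904542885c01c17105be29d4974170c4c1fffc01c1100703fffca77150bfff8858062180c4c1fffffff0efc7c7865402a0c5c43dfffce32211c44086340621908744fffffff14503bd881c01c12fc317fffffff10f84148838054947e52f88c9b8d20ec93afffc02a90ba4126a548b71ee88bcfffc02a6e4631c1ce633326f083bfffc0466a6e0a4454c7ba1edc6b8fffc01c6ed4b996a3102a1ce4637fffc01c17dd5362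4ed9951ae0839fffc06256dd4f752b54ae2cd0a35fffc01c7065c382b653ac2ad89b4fffc01c255d39a5278c5a28d4bb6fffc0623bc8d8b8eea2b9173c4b2fffc01c14c444d3afe2bc14cc6cffffc05411345b28cbe33032ac54efffc0622440a4b556c52f18b482cfffc03896f1d1f16c175b1c784aefffc01c744a4bb54d842d14bc61efffc0380e8966512b953614b06b0fffc062062435f50d555922c05adfffc0620aa81888ab22b53938d31fffc054062032b42e188c3d49053fffc0625cc97313a84c971c98628fffc01c5d757531a90da01aa45a6fffc01c061434a56d161e3944d50fffc062596975c321852518a07a9fffc03881c21711698b86168c4a4fffc01c84e639b14807281494423fffc01c8cda3372e583a21290625fffc038599442d108ca960c84420fffc02a1d84660265cf290a803a2fffc02a0c3c20a38a05a41288321fffc05472be5bc3438b102a7099dfffc01c092410459695341ab87affffc0547211c9e2868c07287c91cfffc01c8ae9d912c3c89b2674b1ffffc0382dd9b392470a0f246481afffc01c50d1357241ca9d226c799fffc01c30e1cb52060748206899bfffc038518d5641d20899243c910fffc0460ef43bf34a4a210a58506fffc02a08548452c88c231018317fffc062211429668ddb3b0a3418cfffc01c040820c886621812f45befffc0621388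b4c160c2121628389fffc03892eddae0a4c4830a10191fffc01c7471b3a0e2c48a0848104fffc01c0f2c8b02e7c38e266028ffffc01c08283a02a6cb9c0c40998fffc06208347431040d9f0c1c8c8fffc0621d0c28e70f19520630315fffc02a0a5010260a9a38085420dfffc05438cc37208284110c14408fffc0460a8028f144428b0624613fffc02a097c22c1020102104c20afffc03808ac22a04084890e2c285fffc0460418201327499a232038efffc06202041873094d26165c496fffc062092822704102010c2038bfffc04606781c902041850644312fffc0461f046c014486130408201fffc02a063019406241880204183fffc02a0a1c1060a141040a0c102fffc000)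

end Cfsg.Agent.Lib.TCLyH2
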