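import Cfsg.Agent.Lib.TCLyH2D0

set_option autoImplicit false
set_option maxRecDepth 100000

namespace Cfsg.Agent.Lib.TCLyH2
open Cfsg.Agent.Lib.TCCore

noncomputable def tb : T := l0
noncomputable def r0 : WT := (.node (nat_lit 7) (.leaf (nat_lit 7172) [nat_lit 56, nat_lit 42, nat_lit 56, nat_lit 28, nat_lit 70]) (.leaf (nat_lit 9223) [nat_lit 98, nat_lit 42, nat_lit 56, nat_lit 42, nat_lit 98, nat_lit 28, nat_lit 70]))
noncomputable def w0 : WT := (.node (nat_lit 1) (.leaf (nat_lit 0) [nat_lit 42]) (.node (nat_lit 3) (.node (nat_lit 2) (.leaf (nat_lit 4096) [nat_lit 28, nat_lit 28]) (.leaf (nat_lit 8196) [nat_lit 84, nat_lit 42, nat_lit 84, nat_lit 28, nat_lit 98])) (.node (nat_lit 5) (.node (nat_lit 4) (.leaf (nat_lit 3072) [nat_lit 56, nat_lit 28, nat_lit 56]) (.leaf (nat_lit 9220) [nat_lit 84, nat_lit 42, nat_lit 56, nat_lit 42, nat_lit 84, nat_lit 28, nat_lit 70])) (.node (nat_lit 6) (.leaf (nat_lit 8192)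 [nat_lit 98, nat_lit 28, nat_lit 84, nat_lit 42, nat_lit 84]) r0))))
noncomputable def r1 : WT := (.node (nat_lit 5) (.leaf (nat_lit 8199) [nat_lit 84, nat_lit 42, nat_lit 98, nat_lit 28, nat_lit 98]) (.leaf (nat_lit 9228) [nat_lit 84, nat_lit 28, nat_lit 70, nat_lit 28, nat_lit 84, nat_lit 42, nat_lit 56]))
noncomputable def r2 : WT := (.node (nat_lit 7) (.leaf (nat_lit 9231) [nat_lit 98, nat_lit 28, nat_lit 70, nat_lit 28, nat_lit 98, nat_lit 42, nat_lit 56]) (.node (nat_lit 8) (.leaf (nat_lit 7176) [nat_lit 56, nat_lit 28, nat_lit 70, nat_lit 28, nat_lit 56]) (.leaf (nat_lit 8203) [nat_lit 98, nat_lit 28, nat_lit 98, nat_lit 42, nat_lit 84])))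
noncomputable def w1 : WT := (.node (nat_lit 1) (.leaf (nat_lit 2) [nat_lit 28]) (.node (nat_lit 2) (.leaf (nat_lit 4097) [nat_lit 42, nat_lit 42]) (.node (nat_lit 4) (.node (nat_lit 3) (.leaf (nat_lit 8200) [nat_lit 84, nat_lit 28, nat_lit 98, nat_lit 28, nat_lit 84]) (.leaf (nat_lit 3075) [nat_lit 70, nat_lit 42, nat_lit 70])) (.node (nat_lit 6) r1 r2))))
noncomputable def r3 : WT := (.node (nat_lit 5) (.leaf (nat_lit 5120) [nat_lit 56, nat_lit 56]) (.leaf (nat_lit 7177) [nat_lit 42, nat_lit 70, nat_lit 28, nat_lit 70, nat_lit 42]))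
noncomputable def r4 : WT := (.node (nat_lit 7) (.leaf (nat_lit 9229) [nat_lit 42, nat_lit 98, nat_lit 28, nat_lit 70, nat_lit 28, nat_lit 98, nat_lit 42]) (.leaf (nat_lit 7174) [nat_lit 42, nat_lit 56, nat_lit 28, nat_lit 70, nat_lit 28]))
noncomputable def w2 : WT := (.node (nat_lit 1) (.leaf (nat_lit 1024) [nat_lit 70]) (.node (nat_lit 3) (.node (nat_lit 2) (.leaf (nat_lit 7178) [nat_lit 28, nat_lit 70, nat_lit 28, nat_lit 56, nat_lit 42]) (.leaf (nat_lit 9226) [nat_lit 42, nat_lit 84, nat_lit 28, nat_lit 70, nat_lit 28, nat_lit 84, nat_lit 42])) (.node (nat_lit 4) (.leaf (nat_lit 3074) [nat_lit 28, nat_lit 56, nat_lit 28]) (.node (nat_lit 6) r3 r4))))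
noncomputable def r5 : WT := (.node (nat_lit 5) (.leaf (nat_lit 7173) [nat_lit 42, nat_lit 56, nat_lit 42, nat_lit 70, nat_lit 28]) (.leaf (nat_lit 9218) [nat_lit 28, nat_lit 84, nat_lit 42, nat_lit 56, nat_lit 42, nat_lit 84, nat_lit 28]))
noncomputable def w3 : WT := (.node (nat_lit 1) (.leaf (nat_lit 1026) [nat_lit 56]) (.node (nat_lit 2) (.leaf (nat_lit 3073) [nat_lit 42, nat_lit 70, nat_lit 42]) (.node (nat_lit 3) (.leaf (nat_lit 5121) [nat_lit 70, nat_lit 70]) (.node (nat_lit 4) (.leaf (nat_lit 7170) [nat_lit 28, nat_lit 56, nat_lit 42, nat_lit 56, nat_lit 28]) r5))))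
noncomputable def r6 : WT := (.node (nat_lit 4) (.leaf (nat_lit 9230) [nat_lit 28, nat_lit 70, nat_lit 28, nat_lit 84, nat_lit 42, nat_lit 56, nat_lit 42]) (.leaf (nat_lit 8201) [nat_lit 42, nat_lit 98, nat_lit 28, nat_lit 98, nat_lit 42]))
noncomputable def r7 : WT := (.node (nat_lit 6) (.leaf (nat_lit 9222) [nat_lit 42, nat_lit 56, nat_lit 42, nat_lit 84, nat_lit 28, nat_lit 70, nat_lit 28]) (.leaf (nat_lit 8198) [nat_lit 42, nat_lit 84, nat_lit 28, nat_lit 98, nat_lit 28]))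
noncomputable def w4 : WT := (.node (nat_lit 1) (.leaf (nat_lit 2048) [nat_lit 98]) (.node (nat_lit 2) (.leaf (nat_lit 6144) [nat_lit 84, nat_lit 84]) (.node (nat_lit 3) (.leaf (nat_lit 8202) [nat_lit 28, nat_lit 98, nat_lit 28, nat_lit 84, nat_lit 42]) (.node (nat_lit 5) r6 r7))))
noncomputable def w5 : WT := (.node (nat_lit 1) (.leaf (nat_lit 2050) [nat_lit 84]) (.node (nat_lit 3) (.node (nat_lit 2) (.leaf (nat_lit 6145) [nat_lit 98, nat_lit 98]) (.leaf (nat_lit 8194) [nat_lit 28, nat_lit 84, nat_lit 42, nat_lit 84, nat_lit 28])) (.node (nat_lit 5) (.node (nat_lit 4) (.leaf (nat_lit 8193) [nat_lit 28, nat_lit 98, nat_lit 42, nat_lit 84, nat_lit 42]) (.leaf (nat_lit 9217) [nat_lit 28, nat_lit 70, nat_lit 28, nat_lit 98, nat_lit 42, nat_lit 56, nat_lit 42])) (.node (nat_lit 6) (.leaf (nat_lit 8197) [nat_lit 42, nat_lit 84, nat_lit 42, nat_lit 98, nat_lit 28]) (.leaf (nat_lit 9225) [nat_lit 42, nat_lit 56, nat_lit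 42, nat_lit 98, nat_lit 28, nat_lit 70, nat_lit 28])))))
noncomputable def wP : WT := (.node (nat_lit 1) (.leaf (nat_lit 9226) [nat_lit 56, nat_lit 42, nat_lit 84, nat_lit 28, nat_lit 70, nat_lit 28, nat_lit 84, nat_lit 42]) (.leaf (nat_lit 9217) [nat_lit 98, nat_lit 28, nat_lit 70, nat_lit 28, nat_lit 98, nat_lit 42, nat_lit 56, nat_lit 42]))
noncomputable def P : Par := ⟨tb, nat_lit 112, nat_lit 0xffffffffffffffffffffffffffff, nat_lit 119, nat_lit 16383, nat_lit 127, nat_lit 14, nat_lit 7, nat_lit 60,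
  [nat_lit 28, nat_lit 42, nat_lit 56, nat_lit 70, nat_lit 84, nat_lit 98], [], wP,
  (.cons (nat_lit 28) w0 (.cons (nat_lit 42) w1 (.cons (nat_lit 56) w2 (.cons (nat_lit 70) w3 (.cons (nat_lit 84) w4 (.cons (nat_lit 98) w5 .nil)))))),
  .nil⟩

end Cfsg.Agent.Lib.TCLyH2
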