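import Cfsg.Agent.Lib.TCLyH3D0

set_option autoImplicit false
set_option maxRecDepth 100000

namespace Cfsg.Agent.Lib.TCLyH3
open Cfsg.Agent.Lib.TCCore

noncomputable def n0 : T := (.node (nat_lit 130) l1 l2)
noncomputable def n1 : T := (.node (nat_lit 325) l4 l5)
noncomputable def n2 : T := (.node (nat_lit 520) l7 l8)
noncomputable def n3 : T := (.node (nat_lit 715) l10 l11)
noncomputable def n4 : T := (.node (nat_lit 910) l13 l14)
noncomputable def n5 : T := (.node (nat_lit 1105) l16 l17)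
noncomputable def n6 : T := (.node (nat_lit 1300) l19 l20)
noncomputable def n7 : T := (.node (nat_lit 1495) l22 l23)
noncomputable def n8 : T := (.node (nat_lit 1690) l25 l26)
noncomputable def n9 : T := (.node (nat_lit 1885) l28 l29)
noncomputable def n10 : T := (.node (nat_lit 2080) l31 l32)
noncomputable def n11 : T := (.node (nat_lit 2275) l34 l35)
noncomputable def n12 : T := (.node (nat_lit 2470) l37 l38)
noncomputable def n13 : T := (.node (nat_lit 2665) l40 l41)
noncomputable def n14 : T := (.node (nat_lit 2860) l43 l44)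
noncomputable def n15 : T := (.node (nat_lit 2990) l45 l46)
noncomputable def n16 : T := (.node (nat_lit 3120) l47 l48)
noncomputable def tb : T := (.node (nat_lit 1560) (.node (nat_lit 780) (.node (nat_lit 390) (.node (nat_lit 195) (.node (nat_lit 65) l0 n0) (.node (nat_lit 260) l3 n1)) (.node (nat_lit 585) (.node (nat_lit 455) l6 n2) (.node (nat_lit 650) l9 n3))) (.node (nat_lit 1170) (.node (nat_lit 975) (.node (nat_lit 845) l12 n4) (.node (nat_lit 1040) l15 n5)) (.node (nat_lit 1365) (.node (nat_lit 1235) l18 n6) (.node (nat_lit 1430) l21 n7)))) (.node (nat_lit 2340) (.node (nat_lit 1950) (.node (nat_lit 1755) (.node (nat_lit 1625) l24 n8) (.node (nat_lit 1820) l27 n9)) (.node (nat_lit 2145) (.node (nat_lit 2015) l30 n10) (.node (nat_lit 2210) l33 n11))) (.node (nat_lit 2730) (.node (nat_lit 2535) (.node (nat_lit 2405) l36 n12) (.node (nat_lit 2600) l39 n13)) (.node (nat_lit 2925) (.node (nat_lit 2795) l42 n14) (.node (nat_lit 3055) n15 n16)))))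
noncomputable def r0 : WT := (.node (nat_lit 5) (.leaf (nat_lit 18436) [nat_lit 210, nat_lit 63, nat_lit 210, nat_lit 42, nat_lit 231]) (.leaf (nat_lit 22532) [nat_lit 252, nat_lit 63, nat_lit 252, nat_lit 42, nat_lit 273]))
noncomputable def r1 : WT := (.node (nat_lit 7) (.leaf (nat_lit 12288) [nat_lit 105, nat_lit 42, nat_lit 84, nat_lit 63, nat_lit 84]) (.node (nat_lit 8) (.leaf (nat_lit 13315) [nat_lit 147, nat_lit 63, nat_lit 126, nat_lit 63, nat_lit 147]) (.leaf (nat_lit 14340) [nat_lit 126, nat_lit 63, nat_lit 84, nat_lit 63, nat_lit 126, nat_lit 42, nat_lit 105])))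
noncomputable def r2 : WT := (.node (nat_lit 12) (.node (nat_lit 10) (.leaf (nat_lit 13312) [nat_lit 147, nat_lit 42, nat_lit 126, nat_lit 63, nat_lit 126]) (.node (nat_lit 11) (.leaf (nat_lit 15360) [nat_lit 189, nat_lit 42, nat_lit 168, nat_lit 63, nat_lit 168]) (.leaf (nat_lit 17412) [nat_lit 168, nat_lit 63, nat_lit 84, nat_lit 63, nat_lit 168, nat_lit 42, nat_lit 105]))) (.node (nat_lit 13) (.leaf (nat_lit 22528) [nat_lit 273, nat_lit 42, nat_lit 252, nat_lit 63, nat_lit 252]) (.node (nat_lit 14) (.leaf (nat_lit 22531) [nat_lit 273, nat_lit 63, nat_lit 252, nat_lit 63, nat_lit 273]) (.leaf (nat_lit 12291) [nat_lit 105, nat_lit 63, nat_lit 84, nat_lit 63, nat_lit 105]))))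
noncomputable def r3 : WT := (.node (nat_lit 24) (.leaf (nat_lit 14336) [nat_lit 105, nat_lit 42, nat_lit 126, nat_lit 63, nat_lit 84, nat_lit 63, nat_lit 126]) (.leaf (nat_lit 17408) [nat_lit 105, nat_lit 42, nat_lit 168, nat_lit 63, nat_lit 84, nat_lit 63, nat_lit 168]))
noncomputable def r4 : WT := (.node (nat_lit 26) (.leaf (nat_lit 17415) [nat_lit 189, nat_lit 63, nat_lit 84, nat_lit 63, nat_lit 189, nat_lit 42, nat_lit 105]) (.node (nat_lit 27) (.leaf (nat_lit 17411) [nat_lit 105, nat_lit 42, nat_lit 189, nat_lit 63, nat_lit 84, nat_lit 63, nat_lit 189]) (.leaf (nat_lit 26624) [nat_lit 105, nat_lit 42, nat_lit 252, nat_lit 63, nat_lit 84, nat_lit 63, nat_lit 252])))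
noncomputable def r5 : WT := (.node (nat_lit 19) (.node (nat_lit 17) (.node (nat_lit 16) (.leaf (nat_lit 18432) [nat_lit 231, nat_lit 42, nat_lit 210, nat_lit 63, nat_lit 210]) (.leaf (nat_lit 14343) [nat_lit 147, nat_lit 63, nat_lit 84, nat_lit 63, nat_lit 147, nat_lit 42, nat_lit 105])) (.node (nat_lit 18) (.leaf (nat_lit 15363) [nat_lit 189, nat_lit 63, nat_lit 168, nat_lit 63, nat_lit 189]) (.leaf (nat_lit 26628) [nat_lit 252, nat_lit 63, nat_lit 84, nat_lit 63, nat_lit 252, nat_lit 42, nat_lit 105]))) (.node (nat_lit 21) (.node (nat_lit 20) (.leaf (nat_lit 18435) [nat_lit 231, nat_lit 63, nat_lit 210, nat_lit 63, nat_lit 231]) (.leaf (nat_lit 21508) [nat_lit 210, nat_lit 63, nat_lit 84, nat_lit 63, nat_lit 210, nat_lit 42, nat_lit 105])) (.node (nat_lit 23) (.node (nat_lit 22) (.leaf (nat_lit 26631) [nat_lit 273, nat_lit 63, nat_lit 84, nat_lit 63, nat_lit 273, nat_lit 42, nat_lit 105]) (.leaf (nat_lit 14339) [nat_lit 105, nat_lit 42, nat_lit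 147, nat_lit 63, nat_lit 84, nat_lit 63, nat_lit 147])) (.node (nat_lit 25) r3 r4))))
noncomputable def w0 : WT := (.node (nat_lit 1) (.leaf (nat_lit 0) [nat_lit 63]) (.node (nat_lit 4) (.node (nat_lit 2) (.leaf (nat_lit 6144) [nat_lit 42, nat_lit 42]) (.node (nat_lit 3) (.leaf (nat_lit 13316) [nat_lit 126, nat_lit 63, nat_lit 126, nat_lit 42, nat_lit 147]) (.leaf (nat_lit 15364) [nat_lit 168, nat_lit 63, nat_lit 168, nat_lit 42, nat_lit 189]))) (.node (nat_lit 9) (.node (nat_lit 6) r0 r1) (.node (nat_lit 15) r2 r5))))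
noncomputable def r6 : WT := (.node (nat_lit 4) (.leaf (nat_lit 13319) [nat_lit 126, nat_lit 63, nat_lit 147, nat_lit 42, nat_lit 147]) (.leaf (nat_lit 26636) [nat_lit 252, nat_lit 42, nat_lit 105, nat_lit 42, nat_lit 252, nat_lit 63, nat_lit 84]))
noncomputable def r7 : WT := (.node (nat_lit 7) (.node (nat_lit 6) (.leaf (nat_lit 14348) [nat_lit 126, nat_lit 42, nat_lit 105, nat_lit 42, nat_lit 126, nat_lit 63, nat_lit 84]) (.leaf (nat_lit 18439) [nat_lit 210, nat_lit 63, nat_lit 231, nat_lit 42, nat_lit 231])) (.node (nat_lit 8) (.leaf (nat_lit 22535) [nat_lit 252, nat_lit 63, nat_lit 273, nat_lit 42, nat_lit 273]) (.leaf (nat_lit 15368) [nat_lit 168, nat_lit 42, nat_lit 189, nat_lit 42, nat_lit 168])))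
noncomputable def r8 : WT := (.node (nat_lit 11) (.node (nat_lit 10) (.leaf (nat_lit 18440) [nat_lit 210, nat_lit 42, nat_lit 231, nat_lit 42, nat_lit 210]) (.leaf (nat_lit 12296) [nat_lit 84, nat_lit 42, nat_lit 105, nat_lit 42, nat_lit 84])) (.node (nat_lit 12) (.leaf (nat_lit 17420) [nat_lit 168, nat_lit 42, nat_lit 105, nat_lit 42, nat_lit 168, nat_lit 63, nat_lit 84]) (.node (nat_lit 13) (.leaf (nat_lit 13320) [nat_lit 126, nat_lit 42, nat_lit 147, nat_lit 42, nat_lit 126]) (.leaf (nat_lit 21516) [nat_lit 210, nat_lit 42, nat_lit 105, nat_lit 42, nat_lit 210, nat_lit 63, nat_lit 84]))))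
noncomputable def r9 : WT := (.node (nat_lit 26) (.leaf (nat_lit 26632) [nat_lit 84, nat_lit 63, nat_lit 252, nat_lit 42, nat_lit 105, nat_lit 42, nat_lit 252]) (.leaf (nat_lit 26635) [nat_lit 84, nat_lit 63, nat_lit 273, nat_lit 42, nat_lit 105, nat_lit 42, nat_lit 273]))
noncomputable def r10 : WT := (.node (nat_lit 28) (.leaf (nat_lit 14344) [nat_lit 84, nat_lit 63, nat_lit 126, nat_lit 42, nat_lit 105, nat_lit 42, nat_lit 126]) (.leaf (nat_lit 22539) [nat_lit 273, nat_lit 42, nat_lit 273, nat_lit 63, nat_lit 252]))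
noncomputable def r11 : WT := (.node (nat_lit 30) (.leaf (nat_lit 21512) [nat_lit 84, nat_lit 63, nat_lit 210, nat_lit 42, nat_lit 105, nat_lit 42, nat_lit 210]) (.leaf (nat_lit 21519) [nat_lit 231, nat_lit 42, nat_lit 105, nat_lit 42, nat_lit 231, nat_lit 63, nat_lit 84]))
noncomputable def r12 : WT := (.node (nat_lit 20) (.node (nat_lit 16) (.node (nat_lit 15) (.leaf (nat_lit 22536) [nat_lit 252, nat_lit 42, nat_lit 273, nat_lit 42, nat_lit 252]) (.leaf (nat_lit 14351) [nat_lit 147, nat_lit 42, nat_lit 105, nat_lit 42, nat_lit 147, nat_lit 63, nat_lit 84])) (.node (nat_lit 18) (.node (nat_lit 17) (.leaf (nat_lit 12295) [nat_lit 84, nat_lit 63, nat_lit 105, nat_lit 42, nat_lit 105]) (.leaf (nat_lit 26639) [nat_lit 273, nat_lit 42, nat_lit 105, nat_lit 42, nat_lit 273, nat_lit 63, nat_lit 84])) (.node (nat_lit 19) (.leaf (nat_lit 17423) [nat_lit 189, nat_lit 42, nat_lit 105, nat_lit 42, nat_lit 189, nat_lit 63, nat_lit 84]) (.leaf (nat_lit 14347)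 [nat_lit 84, nat_lit 63, nat_lit 147, nat_lit 42, nat_lit 105, nat_lit 42, nat_lit 147])))) (.node (nat_lit 24) (.node (nat_lit 22) (.node (nat_lit 21) (.leaf (nat_lit 18443) [nat_lit 231, nat_lit 42, nat_lit 231, nat_lit 63, nat_lit 210]) (.leaf (nat_lit 13323) [nat_lit 147, nat_lit 42, nat_lit 147, nat_lit 63, nat_lit 126])) (.node (nat_lit 23) (.leaf (nat_lit 17419) [nat_lit 84, nat_lit 63, nat_lit 189, nat_lit 42, nat_lit 105, nat_lit 42, nat_lit 189]) (.leaf (nat_lit 21515) [nat_lit 84, nat_lit 63, nat_lit 231, nat_lit 42, nat_lit 105, nat_lit 42, nat_lit 231]))) (.node (nat_lit 27) (.node (nat_lit 25) (.leaf (nat_lit 15371) [nat_lit 189, nat_lit 42, nat_lit 189, nat_lit 63, nat_lit 168]) r9) (.node (nat_lit 29) r10 r11))))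
noncomputable def w1 : WT := (.node (nat_lit 1) (.leaf (nat_lit 2) [nat_lit 42]) (.node (nat_lit 3) (.node (nat_lit 2) (.leaf (nat_lit 6145) [nat_lit 63, nat_lit 63]) (.leaf (nat_lit 15367) [nat_lit 168, nat_lit 63, nat_lit 189, nat_lit 42, nat_lit 189])) (.node (nat_lit 9) (.node (nat_lit 5) r6 r7) (.node (nat_lit 14) r8 r12))))
noncomputable def r13 : WT := (.node (nat_lit 5) (.leaf (nat_lit 14349) [nat_lit 63, nat_lit 147, nat_lit 42, nat_lit 105, nat_lit 42, nat_lit 147, nat_lit 63]) (.leaf (nat_lit 17421) [nat_lit 63, nat_lit 189, nat_lit 42, nat_lit 105, nat_lit 42, nat_lit 189, nat_lit 63]))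
noncomputable def r14 : WT := (.node (nat_lit 7) (.leaf (nat_lit 17418) [nat_lit 63, nat_lit 168, nat_lit 42, nat_lit 105, nat_lit 42, nat_lit 168, nat_lit 63]) (.node (nat_lit 8) (.leaf (nat_lit 21514) [nat_lit 63, nat_lit 210, nat_lit 42, nat_lit 105, nat_lit 42, nat_lit 210, nat_lit 63]) (.leaf (nat_lit 21517) [nat_lit 63, nat_lit 231, nat_lit 42, nat_lit 105, nat_lit 42, nat_lit 231, nat_lit 63])))
noncomputable def r15 : WT := (.node (nat_lit 11) (.node (nat_lit 10) (.leaf (nat_lit 26637) [nat_lit 63, nat_lit 273, nat_lit 42, nat_lit 105, nat_lit 42, nat_lit 273, nat_lit 63]) (.leaf (nat_lit 14346) [nat_lit 63, nat_lit 126, nat_lit 42, nat_lit 105, nat_lit 42, nat_lit 126, nat_lit 63])) (.node (nat_lit 12) (.leaf (nat_lit 26634) [nat_lit 63, nat_lit 252, nat_lit 42, nat_lit 105, nat_lit 42, nat_lit 252, nat_lit 63]) (.leaf (nat_lit 12297) [nat_lit 63, nat_lit 105, nat_lit 42, nat_lit 105, nat_lit 63])))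
noncomputable def w2 : WT := (.node (nat_lit 1) (.leaf (nat_lit 1024) [nat_lit 105]) (.node (nat_lit 3) (.node (nat_lit 2) (.leaf (nat_lit 12298) [nat_lit 42, nat_lit 105, nat_lit 42, nat_lit 84, nat_lit 63]) (.leaf (nat_lit 12294) [nat_lit 63, nat_lit 84, nat_lit 42, nat_lit 105, nat_lit 42])) (.node (nat_lit 6) (.node (nat_lit 4) (.leaf (nat_lit 7168) [nat_lit 84, nat_lit 84]) r13) (.node (nat_lit 9) r14 r15))))
noncomputable def r16 : WT := (.node (nat_lit 5) (.leaf (nat_lit 14338) [nat_lit 42, nat_lit 126, nat_lit 63, nat_lit 84, nat_lit 63, nat_lit 126, nat_lit 42]) (.leaf (nat_lit 17410) [nat_lit 42, nat_lit 168, nat_lit 63, nat_lit 84, nat_lit 63, nat_lit 168, nat_lit 42]))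
noncomputable def r17 : WT := (.node (nat_lit 7) (.leaf (nat_lit 12290) [nat_lit 42, nat_lit 84, nat_lit 63, nat_lit 84, nat_lit 42]) (.node (nat_lit 8) (.leaf (nat_lit 14341) [nat_lit 42, nat_lit 147, nat_lit 63, nat_lit 84, nat_lit 63, nat_lit 147, nat_lit 42]) (.leaf (nat_lit 21506) [nat_lit 42, nat_lit 210, nat_lit 63, nat_lit 84, nat_lit 63, nat_lit 210, nat_lit 42])))
noncomputable def r18 : WT := (.node (nat_lit 11) (.node (nat_lit 10) (.leaf (nat_lit 21509) [nat_lit 42, nat_lit 231, nat_lit 63, nat_lit 84, nat_lit 63, nat_lit 231, nat_lit 42]) (.leaf (nat_lit 26626) [nat_lit 42, nat_lit 252, nat_lit 63, nat_lit 84, nat_lit 63, nat_lit 252, nat_lit 42])) (.node (nat_lit 12) (.leaf (nat_lit 17413) [nat_lit 42, nat_lit 189, nat_lit 63, nat_lit 84, nat_lit 63, nat_lit 189, nat_lit 42]) (.leaf (nat_lit 26629) [nat_lit 42, nat_lit 273, nat_lit 63, nat_lit 84, nat_lit 63, nat_lit 273, nat_lit 42])))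
noncomputable def w3 : WT := (.node (nat_lit 1) (.leaf (nat_lit 1026) [nat_lit 84]) (.node (nat_lit 3) (.node (nat_lit 2) (.leaf (nat_lit 7169) [nat_lit 105, nat_lit 105]) (.leaf (nat_lit 12289) [nat_lit 42, nat_lit 105, nat_lit 63, nat_lit 84, nat_lit 63])) (.node (nat_lit 6) (.node (nat_lit 4) (.leaf (nat_lit 12293) [nat_lit 63, nat_lit 84, nat_lit 63, nat_lit 105, nat_lit 42]) r16) (.node (nat_lit 9) r17 r18))))
noncomputable def r19 : WT := (.node (nat_lit 4) (.leaf (nat_lit 13318) [nat_lit 63, nat_lit 126, nat_lit 42, nat_lit 147, nat_lit 42]) (.leaf (nat_lit 16388) [nat_lit 168, nat_lit 147, nat_lit 168, nat_lit 126, nat_lit 189]))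
noncomputable def r20 : WT := (.node (nat_lit 6) (.leaf (nat_lit 23556) [nat_lit 252, nat_lit 147, nat_lit 252, nat_lit 126, nat_lit 273]) (.leaf (nat_lit 19456) [nat_lit 231, nat_lit 126, nat_lit 210, nat_lit 147, nat_lit 210]))
noncomputable def r21 : WT := (.node (nat_lit 8) (.leaf (nat_lit 16384) [nat_lit 189, nat_lit 126, nat_lit 168, nat_lit 147, nat_lit 168]) (.node (nat_lit 9) (.leaf (nat_lit 23552) [nat_lit 273, nat_lit 126, nat_lit 252, nat_lit 147, nat_lit 252]) (.leaf (nat_lit 13322) [nat_lit 42, nat_lit 147, nat_lit 42, nat_lit 126, nat_lit 63])))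
noncomputable def r22 : WT := (.node (nat_lit 12) (.node (nat_lit 11) (.leaf (nat_lit 13321) [nat_lit 63, nat_lit 147, nat_lit 42, nat_lit 147, nat_lit 63]) (.leaf (nat_lit 14342) [nat_lit 63, nat_lit 84, nat_lit 63, nat_lit 126, nat_lit 42, nat_lit 105, nat_lit 42])) (.node (nat_lit 13) (.leaf (nat_lit 14350) [nat_lit 42, nat_lit 105, nat_lit 42, nat_lit 126, nat_lit 63, nat_lit 84, nat_lit 63]) (.node (nat_lit 14) (.leaf (nat_lit 19459) [nat_lit 231, nat_lit 147, nat_lit 210, nat_lit 147, nat_lit 231]) (.node (nat_lit 15) (.leaf (nat_lit 16387) [nat_lit 189, nat_lit 147, nat_lit 168, nat_lit 147, nat_lit 189]) (.leaf (nat_lit 23555) [nat_lit 273, nat_lit 147, nat_lit 252, nat_lit 147, nat_lit 273])))))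
noncomputable def w4 : WT := (.node (nat_lit 1) (.leaf (nat_lit 2048) [nat_lit 147]) (.node (nat_lit 3) (.node (nat_lit 2) (.leaf (nat_lit 8192) [nat_lit 126, nat_lit 126]) (.leaf (nat_lit 19460) [nat_lit 210, nat_lit 147, nat_lit 210, nat_lit 126, nat_lit 231])) (.node (nat_lit 7) (.node (nat_lit 5) r19 r20) (.node (nat_lit 10) r21 r22))))
noncomputable def r23 : WT := (.node (nat_lit 6) (.leaf (nat_lit 19463) [nat_lit 210, nat_lit 147, nat_lit 231, nat_lit 126, nat_lit 231]) (.leaf (nat_lit 16391) [nat_lit 168, nat_lit 147, nat_lit 189, nat_lit 126, nat_lit 189]))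
noncomputable def r24 : WT := (.node (nat_lit 14) (.leaf (nat_lit 14337) [nat_lit 42, nat_lit 105, nat_lit 42, nat_lit 147, nat_lit 63, nat_lit 84, nat_lit 63]) (.leaf (nat_lit 16395) [nat_lit 189, nat_lit 126, nat_lit 189, nat_lit 147, nat_lit 168]))
noncomputable def r25 : WT := (.node (nat_lit 9) (.node (nat_lit 8) (.leaf (nat_lit 13314) [nat_lit 42, nat_lit 126, nat_lit 63, nat_lit 126, nat_lit 42]) (.leaf (nat_lit 23559) [nat_lit 252, nat_lit 147, nat_lit 273, nat_lit 126, nat_lit 273])) (.node (nat_lit 11) (.node (nat_lit 10) (.leaf (nat_lit 13313) [nat_lit 42, nat_lit 147, nat_lit 63, nat_lit 126, nat_lit 63]) (.leaf (nat_lit 14345) [nat_lit 63, nat_lit 84, nat_lit 63, nat_lit 147, nat_lit 42, nat_lit 105, nat_lit 42])) (.node (nat_lit 12) (.leaf (nat_lit 13317) [nat_lit 63, nat_lit 126, nat_lit 63, nat_lit 147, nat_lit 42]) (.node (nat_lit 13) (.leaf (nat_lit 23563) [nat_lit 273, nat_lit 126, nat_lit 273, nat_lit 147, nat_lit 252]) r24))))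
noncomputable def w5 : WT := (.node (nat_lit 1) (.leaf (nat_lit 2050) [nat_lit 126]) (.node (nat_lit 3) (.node (nat_lit 2) (.leaf (nat_lit 8193) [nat_lit 147, nat_lit 147]) (.leaf (nat_lit 23560) [nat_lit 252, nat_lit 126, nat_lit 273, nat_lit 126, nat_lit 252])) (.node (nat_lit 5) (.node (nat_lit 4) (.leaf (nat_lit 19464) [nat_lit 210, nat_lit 126, nat_lit 231, nat_lit 126, nat_lit 210]) (.leaf (nat_lit 16392) [nat_lit 168, nat_lit 126, nat_lit 189, nat_lit 126, nat_lit 168])) (.node (nat_lit 7) r23 r25))))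
noncomputable def r26 : WT := (.node (nat_lit 5) (.leaf (nat_lit 17422) [nat_lit 42, nat_lit 105, nat_lit 42, nat_lit 168, nat_lit 63, nat_lit 84, nat_lit 63]) (.leaf (nat_lit 20484) [nat_lit 210, nat_lit 189, nat_lit 210, nat_lit 168, nat_lit 231]))
noncomputable def r27 : WT := (.node (nat_lit 7) (.leaf (nat_lit 15369) [nat_lit 63, nat_lit 189, nat_lit 42, nat_lit 189, nat_lit 63]) (.leaf (nat_lit 16394) [nat_lit 126, nat_lit 189, nat_lit 126, nat_lit 168, nat_lit 147]))
noncomputable def r28 : WT := (.node (nat_lit 9) (.leaf (nat_lit 24580) [nat_lit 252, nat_lit 189, nat_lit 252, nat_lit 168, nat_lit 273]) (.node (nat_lit 10) (.leaf (nat_lit 16393) [nat_lit 147, nat_lit 189, nat_lit 126, nat_lit 189, nat_lit 147]) (.leaf (nat_lit 16390) [nat_lit 147, nat_lit 168, nat_lit 126, nat_lit 189, nat_lit 126])))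
noncomputable def r29 : WT := (.node (nat_lit 13) (.node (nat_lit 12) (.leaf (nat_lit 17414) [nat_lit 63, nat_lit 84, nat_lit 63, nat_lit 168, nat_lit 42, nat_lit 105, nat_lit 42]) (.leaf (nat_lit 20480) [nat_lit 231, nat_lit 168, nat_lit 210, nat_lit 189, nat_lit 210])) (.node (nat_lit 14) (.leaf (nat_lit 24576) [nat_lit 273, nat_lit 168, nat_lit 252, nat_lit 189, nat_lit 252]) (.node (nat_lit 15) (.leaf (nat_lit 20483) [nat_lit 231, nat_lit 189, nat_lit 210, nat_lit 189, nat_lit 231]) (.leaf (nat_lit 24579) [nat_lit 273, nat_lit 189, nat_lit 252, nat_lit 189, nat_lit 273]))))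
noncomputable def w6 : WT := (.node (nat_lit 1) (.leaf (nat_lit 3072) [nat_lit 189]) (.node (nat_lit 4) (.node (nat_lit 2) (.leaf (nat_lit 9216) [nat_lit 168, nat_lit 168]) (.node (nat_lit 3) (.leaf (nat_lit 15370) [nat_lit 42, nat_lit 189, nat_lit 42, nat_lit 168, nat_lit 63]) (.leaf (nat_lit 15366) [nat_lit 63, nat_lit 168, nat_lit 42, nat_lit 189, nat_lit 42]))) (.node (nat_lit 8) (.node (nat_lit 6) r26 r27) (.node (nat_lit 11) r28 r29))))
noncomputable def r30 : WT := (.node (nat_lit 4) (.leaf (nat_lit 15362) [nat_lit 42, nat_lit 168, nat_lit 63, nat_lit 168, nat_lit 42]) (.leaf (nat_lit 24584) [nat_lit 252, nat_lit 168, nat_lit 273, nat_lit 168, nat_lit 252]))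
noncomputable def r31 : WT := (.node (nat_lit 6) (.leaf (nat_lit 16385) [nat_lit 126, nat_lit 189, nat_lit 147, nat_lit 168, nat_lit 147]) (.leaf (nat_lit 17417) [nat_lit 63, nat_lit 84, nat_lit 63, nat_lit 189, nat_lit 42, nat_lit 105, nat_lit 42]))
noncomputable def r32 : WT := (.node (nat_lit 8) (.leaf (nat_lit 20487) [nat_lit 210, nat_lit 189, nat_lit 231, nat_lit 168, nat_lit 231]) (.node (nat_lit 9) (.leaf (nat_lit 24583) [nat_lit 252, nat_lit 189, nat_lit 273, nat_lit 168, nat_lit 273]) (.leaf (nat_lit 16386) [nat_lit 126, nat_lit 168, nat_lit 147, nat_lit 168, nat_lit 126])))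
noncomputable def r33 : WT := (.node (nat_lit 12) (.node (nat_lit 11) (.leaf (nat_lit 15361) [nat_lit 42, nat_lit 189, nat_lit 63, nat_lit 168, nat_lit 63]) (.leaf (nat_lit 15365) [nat_lit 63, nat_lit 168, nat_lit 63, nat_lit 189, nat_lit 42])) (.node (nat_lit 13) (.leaf (nat_lit 17409) [nat_lit 42, nat_lit 105, nat_lit 42, nat_lit 189, nat_lit 63, nat_lit 84, nat_lit 63]) (.node (nat_lit 14) (.leaf (nat_lit 16389) [nat_lit 147, nat_lit 168, nat_lit 147, nat_lit 189, nat_lit 126]) (.node (nat_lit 15) (.leaf (nat_lit 20491) [nat_lit 231, nat_lit 168, nat_lit 231, nat_lit 189, nat_lit 210]) (.leaf (nat_lit 24587) [nat_lit 273, nat_lit 168, nat_lit 273, nat_lit 189, nat_lit 252])))))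
noncomputable def w7 : WT := (.node (nat_lit 1) (.leaf (nat_lit 3074) [nat_lit 168]) (.node (nat_lit 3) (.node (nat_lit 2) (.leaf (nat_lit 9217) [nat_lit 189, nat_lit 189]) (.leaf (nat_lit 20488) [nat_lit 210, nat_lit 168, nat_lit 231, nat_lit 168, nat_lit 210])) (.node (nat_lit 7) (.node (nat_lit 5) r30 r31) (.node (nat_lit 10) r32 r33))))
noncomputable def r34 : WT := (.node (nat_lit 5) (.leaf (nat_lit 25604) [nat_lit 252, nat_lit 231, nat_lit 252, nat_lit 210, nat_lit 273]) (.leaf (nat_lit 18438) [nat_lit 63, nat_lit 210, nat_lit 42, nat_lit 231, nat_lit 42]))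
noncomputable def r35 : WT := (.node (nat_lit 7) (.leaf (nat_lit 19466) [nat_lit 126, nat_lit 231, nat_lit 126, nat_lit 210, nat_lit 147]) (.leaf (nat_lit 21518) [nat_lit 42, nat_lit 105, nat_lit 42, nat_lit 210, nat_lit 63, nat_lit 84, nat_lit 63]))
noncomputable def r36 : WT := (.node (nat_lit 9) (.leaf (nat_lit 18441) [nat_lit 63, nat_lit 231, nat_lit 42, nat_lit 231, nat_lit 63]) (.node (nat_lit 10) (.leaf (nat_lit 19465) [nat_lit 147, nat_lit 231, nat_lit 126, nat_lit 231, nat_lit 147]) (.leaf (nat_lit 20489) [nat_lit 189, nat_lit 231, nat_lit 168, nat_lit 231, nat_lit 189])))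
noncomputable def r37 : WT := (.node (nat_lit 13) (.node (nat_lit 12) (.leaf (nat_lit 19462) [nat_lit 147, nat_lit 210, nat_lit 126, nat_lit 231, nat_lit 126]) (.leaf (nat_lit 25600) [nat_lit 273, nat_lit 210, nat_lit 252, nat_lit 231, nat_lit 252])) (.node (nat_lit 14) (.leaf (nat_lit 21510) [nat_lit 63, nat_lit 84, nat_lit 63, nat_lit 210, nat_lit 42, nat_lit 105, nat_lit 42]) (.node (nat_lit 15) (.leaf (nat_lit 20486) [nat_lit 189, nat_lit 210, nat_lit 168, nat_lit 231, nat_lit 168]) (.leaf (nat_lit 25603) [nat_lit 273, nat_lit 231, nat_lit 252, nat_lit 231, nat_lit 273]))))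
noncomputable def w8 : WT := (.node (nat_lit 1) (.leaf (nat_lit 4096) [nat_lit 231]) (.node (nat_lit 4) (.node (nat_lit 2) (.leaf (nat_lit 10240) [nat_lit 210, nat_lit 210]) (.node (nat_lit 3) (.leaf (nat_lit 20490) [nat_lit 168, nat_lit 231, nat_lit 168, nat_lit 210, nat_lit 189]) (.leaf (nat_lit 18442) [nat_lit 42, nat_lit 231, nat_lit 42, nat_lit 210, nat_lit 63]))) (.node (nat_lit 8) (.node (nat_lit 6) r34 r35) (.node (nat_lit 11) r36 r37))))
noncomputable def r38 : WT := (.node (nat_lit 5) (.leaf (nat_lit 19458) [nat_lit 126, nat_lit 210, nat_lit 147, nat_lit 210, nat_lit 126]) (.leaf (nat_lit 19457) [nat_lit 126, nat_lit 231, nat_lit 147, nat_lit 210, nat_lit 147]))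
noncomputable def r39 : WT := (.node (nat_lit 7) (.leaf (nat_lit 25607) [nat_lit 252, nat_lit 231, nat_lit 273, nat_lit 210, nat_lit 273]) (.node (nat_lit 8) (.leaf (nat_lit 20482) [nat_lit 168, nat_lit 210, nat_lit 189, nat_lit 210, nat_lit 168]) (.leaf (nat_lit 20481) [nat_lit 168, nat_lit 231, nat_lit 189, nat_lit 210, nat_lit 189])))
noncomputable def r40 : WT := (.node (nat_lit 11) (.node (nat_lit 10) (.leaf (nat_lit 21513) [nat_lit 63, nat_lit 84, nat_lit 63, nat_lit 231, nat_lit 42, nat_lit 105, nat_lit 42]) (.leaf (nat_lit 18433) [nat_lit 42, nat_lit 231, nat_lit 63, nat_lit 210, nat_lit 63])) (.node (nat_lit 13) (.node (nat_lit 12) (.leaf (nat_lit 21505) [nat_lit 42, nat_lit 105, nat_lit 42, nat_lit 231, nat_lit 63, nat_lit 84, nat_lit 63]) (.leaf (nat_lit 18437) [nat_lit 63, nat_lit 210, nat_lit 63, nat_lit 231, nat_lit 42])) (.node (nat_lit 14) (.leaf (nat_lit 25611) [nat_lit 273, nat_lit 210, nat_lit 273, nat_lit 231, nat_lit 252]) (.node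 (nat_lit 15) (.leaf (nat_lit 19461) [nat_lit 147, nat_lit 210, nat_lit 147, nat_lit 231, nat_lit 126]) (.leaf (nat_lit 20485) [nat_lit 189, nat_lit 210, nat_lit 189, nat_lit 231, nat_lit 168])))))
noncomputable def w9 : WT := (.node (nat_lit 1) (.leaf (nat_lit 4098) [nat_lit 210]) (.node (nat_lit 3) (.node (nat_lit 2) (.leaf (nat_lit 10241) [nat_lit 231, nat_lit 231]) (.leaf (nat_lit 25608) [nat_lit 252, nat_lit 210, nat_lit 273, nat_lit 210, nat_lit 252])) (.node (nat_lit 6) (.node (nat_lit 4) (.leaf (nat_lit 18434) [nat_lit 42, nat_lit 210, nat_lit 63, nat_lit 210, nat_lit 42]) r38) (.node (nat_lit 9) r39 r40))))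
noncomputable def r41 : WT := (.node (nat_lit 5) (.leaf (nat_lit 22534) [nat_lit 63, nat_lit 252, nat_lit 42, nat_lit 273, nat_lit 42]) (.leaf (nat_lit 23561) [nat_lit 147, nat_lit 273, nat_lit 126, nat_lit 273, nat_lit 147]))
noncomputable def r42 : WT := (.node (nat_lit 7) (.leaf (nat_lit 22537) [nat_lit 63, nat_lit 273, nat_lit 42, nat_lit 273, nat_lit 63]) (.leaf (nat_lit 25610) [nat_lit 210, nat_lit 273, nat_lit 210, nat_lit 252, nat_lit 231]))
noncomputable def r43 : WT := (.node (nat_lit 9) (.leaf (nat_lit 26630) [nat_lit 63, nat_lit 84, nat_lit 63, nat_lit 252, nat_lit 42, nat_lit 105, nat_lit 42]) (.node (nat_lit 10) (.leaf (nat_lit 24586) [nat_lit 168, nat_lit 273, nat_lit 168, nat_lit 252, nat_lit 189]) (.leaf (nat_lit 24585) [nat_lit 189, nat_lit 273, nat_lit 168, nat_lit 273, nat_lit 189])))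
noncomputable def r44 : WT := (.node (nat_lit 13) (.node (nat_lit 12) (.leaf (nat_lit 25609) [nat_lit 231, nat_lit 273, nat_lit 210, nat_lit 273, nat_lit 231]) (.leaf (nat_lit 23562) [nat_lit 126, nat_lit 273, nat_lit 126, nat_lit 252, nat_lit 147])) (.node (nat_lit 14) (.leaf (nat_lit 24582) [nat_lit 189, nat_lit 252, nat_lit 168, nat_lit 273, nat_lit 168]) (.node (nat_lit 15) (.leaf (nat_lit 23558) [nat_lit 147, nat_lit 252, nat_lit 126, nat_lit 273, nat_lit 126]) (.leaf (nat_lit 25606) [nat_lit 231, nat_lit 252, nat_lit 210, nat_lit 273, nat_lit 210]))))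
noncomputable def w10 : WT := (.node (nat_lit 1) (.leaf (nat_lit 5120) [nat_lit 273]) (.node (nat_lit 4) (.node (nat_lit 2) (.leaf (nat_lit 11264) [nat_lit 252, nat_lit 252]) (.node (nat_lit 3) (.leaf (nat_lit 26638) [nat_lit 42, nat_lit 105, nat_lit 42, nat_lit 252, nat_lit 63, nat_lit 84, nat_lit 63]) (.leaf (nat_lit 22538) [nat_lit 42, nat_lit 273, nat_lit 42, nat_lit 252, nat_lit 63]))) (.node (nat_lit 8) (.node (nat_lit 6) r41 r42) (.node (nat_lit 11) r43 r44))))
noncomputable def r45 : WT := (.node (nat_lit 3) (.leaf (nat_lit 22530) [nat_lit 42, nat_lit 252, nat_lit 63, nat_lit 252, nat_lit 42]) (.leaf (nat_lit 24578) [nat_lit 168, nat_lit 252, nat_lit 189, nat_lit 252, nat_lit 168]))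
noncomputable def r46 : WT := (.node (nat_lit 5) (.leaf (nat_lit 25602) [nat_lit 210, nat_lit 252, nat_lit 231, nat_lit 252, nat_lit 210]) (.leaf (nat_lit 23554) [nat_lit 126, nat_lit 252, nat_lit 147, nat_lit 252, nat_lit 126]))
noncomputable def r47 : WT := (.node (nat_lit 7) (.leaf (nat_lit 22529) [nat_lit 42, nat_lit 273, nat_lit 63, nat_lit 252, nat_lit 63]) (.node (nat_lit 8) (.leaf (nat_lit 22533) [nat_lit 63, nat_lit 252, nat_lit 63, nat_lit 273, nat_lit 42]) (.leaf (nat_lit 24577) [nat_lit 168, nat_lit 273, nat_lit 189, nat_lit 252, nat_lit 189])))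
noncomputable def r48 : WT := (.node (nat_lit 11) (.node (nat_lit 10) (.leaf (nat_lit 25601) [nat_lit 210, nat_lit 273, nat_lit 231, nat_lit 252, nat_lit 231]) (.leaf (nat_lit 23553) [nat_lit 126, nat_lit 273, nat_lit 147, nat_lit 252, nat_lit 147])) (.node (nat_lit 13) (.node (nat_lit 12) (.leaf (nat_lit 26625) [nat_lit 42, nat_lit 105, nat_lit 42, nat_lit 273, nat_lit 63, nat_lit 84, nat_lit 63]) (.leaf (nat_lit 26633) [nat_lit 63, nat_lit 84, nat_lit 63, nat_lit 273, nat_lit 42, nat_lit 105, nat_lit 42])) (.node (nat_lit 14) (.leaf (nat_lit 24581) [nat_lit 189, nat_lit 252, nat_lit 189, nat_lit 273, nat_lit 168]) (.node (nat_lit 15) (.leaf (nat_lit 23557) [nat_lit 147, nat_lit 252, nat_lit 147, nat_lit 273, nat_lit 126]) (.leaf (nat_lit 25605) [nat_lit 231, nat_lit 252, nat_lit 231, nat_lit 273, nat_lit 210])))))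
noncomputable def w11 : WT := (.node (nat_lit 1) (.leaf (nat_lit 5122) [nat_lit 252]) (.node (nat_lit 2) (.leaf (nat_lit 11265) [nat_lit 273, nat_lit 273]) (.node (nat_lit 6) (.node (nat_lit 4) r45 r46) (.node (nat_lit 9) r47 r48))))
noncomputable def r49 : WT := (.node (nat_lit 4) (.leaf (nat_lit 12299) [nat_lit 63, nat_lit 105, nat_lit 42, nat_lit 105, nat_lit 63, nat_lit 84]) (.leaf (nat_lit 22535) [nat_lit 63, nat_lit 252, nat_lit 63, nat_lit 273, nat_lit 42, nat_lit 273]))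
noncomputable def r50 : WT := (.node (nat_lit 6) (.leaf (nat_lit 18439) [nat_lit 63, nat_lit 210, nat_lit 63, nat_lit 231, nat_lit 42, nat_lit 231]) (.leaf (nat_lit 22534) [nat_lit 252, nat_lit 63, nat_lit 252, nat_lit 42, nat_lit 273, nat_lit 42]))
noncomputable def r51 : WT := (.node (nat_lit 8) (.leaf (nat_lit 21519) [nat_lit 63, nat_lit 231, nat_lit 42, nat_lit 105, nat_lit 42, nat_lit 231, nat_lit 63, nat_lit 84]) (.leaf (nat_lit 14341) [nat_lit 105, nat_lit 42, nat_lit 147, nat_lit 63, nat_lit 84, nat_lit 63, nat_lit 147, nat_lit 42]))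
noncomputable def r52 : WT := (.node (nat_lit 10) (.leaf (nat_lit 17423) [nat_lit 63, nat_lit 189, nat_lit 42, nat_lit 105, nat_lit 42, nat_lit 189, nat_lit 63, nat_lit 84]) (.leaf (nat_lit 15367) [nat_lit 63, nat_lit 168, nat_lit 63, nat_lit 189, nat_lit 42, nat_lit 189]))
noncomputable def r53 : WT := (.node (nat_lit 12) (.leaf (nat_lit 15366) [nat_lit 168, nat_lit 63, nat_lit 168, nat_lit 42, nat_lit 189, nat_lit 42]) (.leaf (nat_lit 12291) [nat_lit 42, nat_lit 105, nat_lit 63, nat_lit 84, nat_lit 63, nat_lit 105]))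
noncomputable def r54 : WT := (.node (nat_lit 14) (.leaf (nat_lit 26639) [nat_lit 63, nat_lit 273, nat_lit 42, nat_lit 105, nat_lit 42, nat_lit 273, nat_lit 63, nat_lit 84]) (.node (nat_lit 15) (.leaf (nat_lit 8192) [nat_lit 126, nat_lit 126, nat_lit 126]) (.leaf (nat_lit 16386) [nat_lit 189, nat_lit 126, nat_lit 168, nat_lit 147, nat_lit 168, nat_lit 126])))
noncomputable def r55 : WT := (.node (nat_lit 18) (.node (nat_lit 17) (.leaf (nat_lit 18440) [nat_lit 63, nat_lit 210, nat_lit 42, nat_lit 231, nat_lit 42, nat_lit 210]) (.leaf (nat_lit 18436) [nat_lit 42, nat_lit 210, nat_lit 63, nat_lit 210, nat_lit 42, nat_lit 231])) (.node (nat_lit 19) (.leaf (nat_lit 18443) [nat_lit 63, nat_lit 231, nat_lit 42, nat_lit 231, nat_lit 63, nat_lit 210]) (.node (nat_lit 20) (.leaf (nat_lit 16385) [nat_lit 189, nat_lit 126, nat_lit 189, nat_lit 147, nat_lit 168, nat_lit 147]) (.leaf (nat_lit 8193) [nat_lit 147, nat_lit 147, nat_lit 147]))))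
noncomputable def r56 : WT := (.node (nat_lit 23) (.node (nat_lit 22) (.leaf (nat_lit 14344) [nat_lit 63, nat_lit 84, nat_lit 63, nat_lit 126, nat_lit 42, nat_lit 105, nat_lit 42, nat_lit 126]) (.leaf (nat_lit 14346) [nat_lit 84, nat_lit 63, nat_lit 126, nat_lit 42, nat_lit 105, nat_lit 42, nat_lit 126, nat_lit 63])) (.node (nat_lit 24) (.leaf (nat_lit 9217) [nat_lit 189, nat_lit 189, nat_lit 189]) (.leaf (nat_lit 22532) [nat_lit 42, nat_lit 252, nat_lit 63, nat_lit 252, nat_lit 42, nat_lit 273])))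
noncomputable def r57 : WT := (.node (nat_lit 27) (.node (nat_lit 26) (.leaf (nat_lit 22537) [nat_lit 252, nat_lit 63, nat_lit 273, nat_lit 42, nat_lit 273, nat_lit 63]) (.leaf (nat_lit 11265) [nat_lit 273, nat_lit 273, nat_lit 273])) (.node (nat_lit 28) (.leaf (nat_lit 13323) [nat_lit 63, nat_lit 147, nat_lit 42, nat_lit 147, nat_lit 63, nat_lit 126]) (.node (nat_lit 29) (.leaf (nat_lit 13315) [nat_lit 42, nat_lit 147, nat_lit 63, nat_lit 126, nat_lit 63, nat_lit 147]) (.leaf (nat_lit 12292) [nat_lit 42, nat_lit 84, nat_lit 63, nat_lit 84, nat_lit 42, nat_lit 105]))))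
noncomputable def r58 : WT := (.node (nat_lit 34) (.node (nat_lit 32) (.node (nat_lit 31) (.leaf (nat_lit 14337) [nat_lit 147, nat_lit 42, nat_lit 105, nat_lit 42, nat_lit 147, nat_lit 63, nat_lit 84, nat_lit 63]) (.leaf (nat_lit 14339) [nat_lit 42, nat_lit 105, nat_lit 42, nat_lit 147, nat_lit 63, nat_lit 84, nat_lit 63, nat_lit 147])) (.node (nat_lit 33) (.leaf (nat_lit 14336) [nat_lit 42, nat_lit 105, nat_lit 42, nat_lit 126, nat_lit 63, nat_lit 84, nat_lit 63, nat_lit 126]) (.leaf (nat_lit 18433) [nat_lit 231, nat_lit 42, nat_lit 231, nat_lit 63, nat_lit 210, nat_lit 63]))) (.node (nat_lit 36) (.node (nat_lit 35) (.leaf (nat_lit 14347) [nat_lit 63, nat_lit 84, nat_lit 63, nat_lit 147, nat_lit 42, nat_lit 105, nat_lit 42, nat_lit 147]) (.leaf (nat_lit 17413) [nat_lit 105, nat_lit 42, nat_lit 189, nat_lit 63, nat_lit 84, nat_lit 63, nat_lit 189, nat_lit 42])) (.node (nat_lit 37) (.leaf (nat_lit 17417) [nat_lit 189, nat_lit 63, nat_lit 84, nat_lit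 63, nat_lit 189, nat_lit 42, nat_lit 105, nat_lit 42]) (.leaf (nat_lit 21504) [nat_lit 42, nat_lit 105, nat_lit 42, nat_lit 210, nat_lit 63, nat_lit 84, nat_lit 63, nat_lit 210]))))
noncomputable def r59 : WT := (.node (nat_lit 42) (.node (nat_lit 40) (.node (nat_lit 39) (.leaf (nat_lit 21512) [nat_lit 63, nat_lit 84, nat_lit 63, nat_lit 210, nat_lit 42, nat_lit 105, nat_lit 42, nat_lit 210]) (.leaf (nat_lit 21509) [nat_lit 105, nat_lit 42, nat_lit 231, nat_lit 63, nat_lit 84, nat_lit 63, nat_lit 231, nat_lit 42])) (.node (nat_lit 41) (.leaf (nat_lit 26630) [nat_lit 252, nat_lit 63, nat_lit 84, nat_lit 63, nat_lit 252, nat_lit 42, nat_lit 105, nat_lit 42]) (.leaf (nat_lit 26634) [nat_lit 84, nat_lit 63, nat_lit 252, nat_lit 42, nat_lit 105, nat_lit 42, nat_lit 252, nat_lit 63]))) (.node (nat_lit 44) (.node (nat_lit 43) (.leaf (nat_lit 26629) [nat_lit 105, nat_lit 42, nat_lit 273, nat_lit 63, nat_lit 84, nat_lit 63, nat_lit 273, nat_lit 42]) (.leaf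 (nat_lit 26633) [nat_lit 273, nat_lit 63, nat_lit 84, nat_lit 63, nat_lit 273, nat_lit 42, nat_lit 105, nat_lit 42])) (.node (nat_lit 45) (.leaf (nat_lit 16390) [nat_lit 168, nat_lit 147, nat_lit 168, nat_lit 126, nat_lit 189, nat_lit 126]) (.node (nat_lit 46) (.leaf (nat_lit 7168) [nat_lit 84, nat_lit 84, nat_lit 84]) (.leaf (nat_lit 7169) [nat_lit 105, nat_lit 105, nat_lit 105])))))
noncomputable def r60 : WT := (.node (nat_lit 51) (.node (nat_lit 49) (.node (nat_lit 48) (.leaf (nat_lit 10240) [nat_lit 210, nat_lit 210, nat_lit 210]) (.leaf (nat_lit 10241) [nat_lit 231, nat_lit 231, nat_lit 231])) (.node (nat_lit 50) (.leaf (nat_lit 12298) [nat_lit 84, nat_lit 42, nat_lit 105, nat_lit 42, nat_lit 84, nat_lit 63]) (.leaf (nat_lit 15362) [nat_lit 189, nat_lit 42, nat_lit 168, nat_lit 63, nat_lit 168, nat_lit 42]))) (.node (nat_lit 53) (.node (nat_lit 52) (.leaf (nat_lit 15364) [nat_lit 42, nat_lit 168, nat_lit 63, nat_lit 168, nat_lit 42, nat_lit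 189]) (.leaf (nat_lit 15368) [nat_lit 63, nat_lit 168, nat_lit 42, nat_lit 189, nat_lit 42, nat_lit 168])) (.node (nat_lit 54) (.leaf (nat_lit 15371) [nat_lit 63, nat_lit 189, nat_lit 42, nat_lit 189, nat_lit 63, nat_lit 168]) (.node (nat_lit 55) (.leaf (nat_lit 16388) [nat_lit 126, nat_lit 168, nat_lit 147, nat_lit 168, nat_lit 126, nat_lit 189]) (.leaf (nat_lit 25601) [nat_lit 273, nat_lit 210, nat_lit 273, nat_lit 231, nat_lit 252, nat_lit 231])))))
noncomputable def r61 : WT := (.node (nat_lit 60) (.node (nat_lit 58) (.node (nat_lit 57) (.leaf (nat_lit 16394) [nat_lit 168, nat_lit 126, nat_lit 189, nat_lit 126, nat_lit 168, nat_lit 147]) (.leaf (nat_lit 16395) [nat_lit 147, nat_lit 189, nat_lit 126, nat_lit 189, nat_lit 147, nat_lit 168])) (.node (nat_lit 59) (.leaf (nat_lit 18432) [nat_lit 42, nat_lit 231, nat_lit 42, nat_lit 210, nat_lit 63, nat_lit 210]) (.leaf (nat_lit 6144) [nat_lit 42, nat_lit 42, nat_lit 42]))) (.node (nat_lit 62) (.node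 (nat_lit 61) (.leaf (nat_lit 19458) [nat_lit 231, nat_lit 126, nat_lit 210, nat_lit 147, nat_lit 210, nat_lit 126]) (.leaf (nat_lit 19457) [nat_lit 231, nat_lit 126, nat_lit 231, nat_lit 147, nat_lit 210, nat_lit 147])) (.node (nat_lit 63) (.leaf (nat_lit 19465) [nat_lit 210, nat_lit 147, nat_lit 231, nat_lit 126, nat_lit 231, nat_lit 147]) (.node (nat_lit 64) (.leaf (nat_lit 22536) [nat_lit 63, nat_lit 252, nat_lit 42, nat_lit 273, nat_lit 42, nat_lit 252]) (.leaf (nat_lit 24578) [nat_lit 273, nat_lit 168, nat_lit 252, nat_lit 189, nat_lit 252, nat_lit 168])))))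
noncomputable def wP : WT := (.node (nat_lit 13) (.node (nat_lit 5) (.node (nat_lit 2) (.node (nat_lit 1) (.leaf (nat_lit 12290) [nat_lit 105, nat_lit 42, nat_lit 84, nat_lit 63, nat_lit 84, nat_lit 42]) (.leaf (nat_lit 14351) [nat_lit 63, nat_lit 147, nat_lit 42, nat_lit 105, nat_lit 42, nat_lit 147, nat_lit 63, nat_lit 84])) (.node (nat_lit 3) (.leaf (nat_lit 12288) [nat_lit 42, nat_lit 105, nat_lit 42, nat_lit 84, nat_lit 63, nat_lit 84]) r49)) (.node (nat_lit 9) (.node (nat_lit 7) r50 r51) (.node (nat_lit 11) r52 r53))) (.node (nat_lit 30) (.node (nat_lit 21) (.node (nat_lit 16) r54 r55) (.node (nat_lit 25) r56 r57)) (.node (nat_lit 47) (.node (nat_lit 38) r58 r59) (.node (nat_lit 56) r60 r61))))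
noncomputable def P : Par := ⟨tb, nat_lit 294, nat_lit 0x3fffffffffffffffffffffffffffffffffffffffffffffffffffffffffffffffffffffffff, nat_lit 3169, nat_lit 2097151, nat_lit 4095, nat_lit 21, nat_lit 12, nat_lit 336,
  [nat_lit 42, nat_lit 63, nat_lit 84, nat_lit 105, nat_lit 126, nat_lit 147, nat_lit 168, nat_lit 189, nat_lit 210, nat_lit 231, nat_lit 252, nat_lit 273], [nat_lit 42, nat_lit 84, nat_lit 126], wP,
  (.cons (nat_lit 42) w0 (.cons (nat_lit 63) w1 (.cons (nat_lit 84) w2 (.cons (nat_lit 105) w3 (.cons (nat_lit 126) w4 (.cons (nat_lit 147) w5 (.cons (nat_lit 168) w6 (.cons (nat_lit 189) w7 (.cons (nat_lit 210) w8 (.cons (nat_lit 231) w9 (.cons (nat_lit 252) w10 (.cons (nat_lit 273) w11 .nil)))))))))))),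
  .nil⟩

end Cfsg.Agent.Lib.TCLyH3
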