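import Cfsg.Agent.Lib.TCLyH4D0

set_option autoImplicit false
set_option maxRecDepth 100000

namespace Cfsg.Agent.Lib.TCLyH4
open Cfsg.Agent.Lib.TCCore

noncomputable def n0 : T := (.node (nat_lit 176) (.node (nat_lit 88) (.node (nat_lit 44) l0 l1) (.node (nat_lit 132) l2 l3)) (.node (nat_lit 264) (.node (nat_lit 220) l4 l5) (.node (nat_lit 308) l6 l7)))
noncomputable def n1 : T := (.node (nat_lit 528) (.node (nat_lit 440) (.node (nat_lit 396) l8 l9) (.node (nat_lit 484) l10 l11)) (.node (nat_lit 616) (.node (nat_lit 572) l12 l13) (.node (nat_lit 660) l14 l15)))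
noncomputable def n2 : T := (.node (nat_lit 880) (.node (nat_lit 792) (.node (nat_lit 748) l16 l17) (.node (nat_lit 836) l18 l19)) (.node (nat_lit 968) (.node (nat_lit 924) l20 l21) (.node (nat_lit 1012) l22 l23)))
noncomputable def n3 : T := (.node (nat_lit 1232) (.node (nat_lit 1144) (.node (nat_lit 1100) l24 l25) (.node (nat_lit 1188) l26 l27)) (.node (nat_lit 1320) (.node (nat_lit 1276) l28 l29) (.node (nat_lit 1364) l30 l31)))
noncomputable def n4 : T := (.node (nat_lit 1584) (.node (nat_lit 1496) (.node (nat_lit 1452) l32 l33) (.node (nat_lit 1540) l34 l35)) (.node (nat_lit 1672) (.node (nat_lit 1628) l36 l37) (.node (nat_lit 1716) l38 l39)))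
noncomputable def n5 : T := (.node (nat_lit 1936) (.node (nat_lit 1848) (.node (nat_lit 1804) l40 l41) (.node (nat_lit 1892) l42 l43)) (.node (nat_lit 2024) (.node (nat_lit 1980) l44 l45) (.node (nat_lit 2068) l46 l47)))
noncomputable def n6 : T := (.node (nat_lit 2288) (.node (nat_lit 2200) (.node (nat_lit 2156) l48 l49) (.node (nat_lit 2244) l50 l51)) (.node (nat_lit 2376) (.node (nat_lit 2332) l52 l53) (.node (nat_lit 2420) l54 l55)))
noncomputable def n7 : T := (.node (nat_lit 2640) (.node (nat_lit 2552) (.node (nat_lit 2508) l56 l57) (.node (nat_lit 2596) l58 l59)) (.node (nat_lit 2728) (.node (nat_lit 2684) l60 l61) (.node (nat_lit 2772) l62 l63)))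
noncomputable def n8 : T := (.node (nat_lit 2992) (.node (nat_lit 2904) (.node (nat_lit 2860) l64 l65) (.node (nat_lit 2948) l66 l67)) (.node (nat_lit 3080) (.node (nat_lit 3036) l68 l69) (.node (nat_lit 3124) l70 l71)))
noncomputable def n9 : T := (.node (nat_lit 3344) (.node (nat_lit 3256) (.node (nat_lit 3212) l72 l73) (.node (nat_lit 3300) l74 l75)) (.node (nat_lit 3432) (.node (nat_lit 3388) l76 l77) (.node (nat_lit 3476) l78 l79)))
noncomputable def n10 : T := (.node (nat_lit 3696) (.node (nat_lit 3608) (.node (nat_lit 3564) l80 l81) (.node (nat_lit 3652) l82 l83)) (.node (nat_lit 3784) (.node (nat_lit 3740) l84 l85) (.node (nat_lit 3828) l86 l87)))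
noncomputable def n11 : T := (.node (nat_lit 4048) (.node (nat_lit 3960) (.node (nat_lit 3916) l88 l89) (.node (nat_lit 4004) l90 l91)) (.node (nat_lit 4136) (.node (nat_lit 4092) l92 l93) (.node (nat_lit 4180) l94 l95)))
noncomputable def n12 : T := (.node (nat_lit 4400) (.node (nat_lit 4312) (.node (nat_lit 4268) l96 l97) (.node (nat_lit 4356) l98 l99)) (.node (nat_lit 4488) (.node (nat_lit 4444) l100 l101) (.node (nat_lit 4532) l102 l103)))
noncomputable def n13 : T := (.node (nat_lit 4752) (.node (nat_lit 4664) (.node (nat_lit 4620) l104 l105) (.node (nat_lit 4708) l106 l107)) (.node (nat_lit 4840) (.node (nat_lit 4796) l108 l109) (.node (nat_lit 4884) l110 l111)))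
noncomputable def n14 : T := (.node (nat_lit 5104) (.node (nat_lit 5016) (.node (nat_lit 4972) l112 l113) (.node (nat_lit 5060) l114 l115)) (.node (nat_lit 5192) (.node (nat_lit 5148) l116 l117) (.node (nat_lit 5236) l118 l119)))
noncomputable def n15 : T := (.node (nat_lit 5456) (.node (nat_lit 5368) (.node (nat_lit 5324) l120 l121) (.node (nat_lit 5412) l122 l123)) (.node (nat_lit 5544) (.node (nat_lit 5500) l124 l125) (.node (nat_lit 5588) l126 (.node (nat_lit 5632) l127 l128))))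
noncomputable def n16 : T := (.node (nat_lit 5852) (.node (nat_lit 5764) (.node (nat_lit 5720) l129 l130) (.node (nat_lit 5808) l131 l132)) (.node (nat_lit 5940) (.node (nat_lit 5896) l133 l134) (.node (nat_lit 5984) l135 l136)))
noncomputable def n17 : T := (.node (nat_lit 6204) (.node (nat_lit 6116) (.node (nat_lit 6072) l137 l138) (.node (nat_lit 6160) l139 l140)) (.node (nat_lit 6292) (.node (nat_lit 6248) l141 l142) (.node (nat_lit 6336) l143 l144)))
noncomputable def n18 : T := (.node (nat_lit 6556) (.node (nat_lit 6468) (.node (nat_lit 6424) l145 l146) (.node (nat_lit 6512) l147 l148)) (.node (nat_lit 6644) (.node (nat_lit 6600) l149 l150) (.node (nat_lit 6688) l151 l152)))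
noncomputable def n19 : T := (.node (nat_lit 6908) (.node (nat_lit 6820) (.node (nat_lit 6776) l153 l154) (.node (nat_lit 6864) l155 l156)) (.node (nat_lit 6996) (.node (nat_lit 6952) l157 l158) (.node (nat_lit 7040) l159 l160)))
noncomputable def n20 : T := (.node (nat_lit 7260) (.node (nat_lit 7172) (.node (nat_lit 7128) l161 l162) (.node (nat_lit 7216) l163 l164)) (.node (nat_lit 7348) (.node (nat_lit 7304) l165 l166) (.node (nat_lit 7392) l167 l168)))
noncomputable def n21 : T := (.node (nat_lit 7612) (.node (nat_lit 7524) (.node (nat_lit 7480) l169 l170) (.node (nat_lit 7568) l171 l172)) (.node (nat_lit 7700) (.node (nat_lit 7656) l173 l174) (.node (nat_lit 7744) l175 l176)))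
noncomputable def n22 : T := (.node (nat_lit 7964) (.node (nat_lit 7876) (.node (nat_lit 7832) l177 l178) (.node (nat_lit 7920) l179 l180)) (.node (nat_lit 8052) (.node (nat_lit 8008) l181 l182) (.node (nat_lit 8096) l183 l184)))
noncomputable def n23 : T := (.node (nat_lit 8316) (.node (nat_lit 8228) (.node (nat_lit 8184) l185 l186) (.node (nat_lit 8272) l187 l188)) (.node (nat_lit 8404) (.node (nat_lit 8360) l189 l190) (.node (nat_lit 8448) l191 (.node (nat_lit 8492) l192 l193))))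
noncomputable def n24 : T := (.node (nat_lit 8712) (.node (nat_lit 8624) (.node (nat_lit 8580) l194 l195) (.node (nat_lit 8668) l196 l197)) (.node (nat_lit 8800) (.node (nat_lit 8756) l198 l199) (.node (nat_lit 8844) l200 l201)))
noncomputable def n25 : T := (.node (nat_lit 9064) (.node (nat_lit 8976) (.node (nat_lit 8932) l202 l203) (.node (nat_lit 9020) l204 l205)) (.node (nat_lit 9152) (.node (nat_lit 9108) l206 l207) (.node (nat_lit 9196) l208 l209)))
noncomputable def n26 : T := (.node (nat_lit 9416) (.node (nat_lit 9328) (.node (nat_lit 9284) l210 l211) (.node (nat_lit 9372) l212 l213)) (.node (nat_lit 9504) (.node (nat_lit 9460) l214 l215) (.node (nat_lit 9548) l216 l217)))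
noncomputable def n27 : T := (.node (nat_lit 9768) (.node (nat_lit 9680) (.node (nat_lit 9636) l218 l219) (.node (nat_lit 9724) l220 l221)) (.node (nat_lit 9856) (.node (nat_lit 9812) l222 l223) (.node (nat_lit 9900) l224 l225)))
noncomputable def n28 : T := (.node (nat_lit 10120) (.node (nat_lit 10032) (.node (nat_lit 9988) l226 l227) (.node (nat_lit 10076) l228 l229)) (.node (nat_lit 10208) (.node (nat_lit 10164) l230 l231) (.node (nat_lit 10252) l232 l233)))
noncomputable def n29 : T := (.node (nat_lit 10472) (.node (nat_lit 10384) (.node (nat_lit 10340) l234 l235) (.node (nat_lit 10428) l236 l237)) (.node (nat_lit 10560) (.node (nat_lit 10516) l238 l239) (.node (nat_lit 10604) l240 l241)))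
noncomputable def n30 : T := (.node (nat_lit 10824) (.node (nat_lit 10736) (.node (nat_lit 10692) l242 l243) (.node (nat_lit 10780) l244 l245)) (.node (nat_lit 10912) (.node (nat_lit 10868) l246 l247) (.node (nat_lit 10956) l248 l249)))
noncomputable def n31 : T := (.node (nat_lit 11176) (.node (nat_lit 11088) (.node (nat_lit 11044) l250 l251) (.node (nat_lit 11132) l252 l253)) (.node (nat_lit 11264) (.node (nat_lit 11220) l254 l255) (.node (nat_lit 11308) l256 (.node (nat_lit 11352) l257 l258))))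
noncomputable def tb : T := (.node (nat_lit 5676) (.node (nat_lit 2816) (.node (nat_lit 1408) (.node (nat_lit 704) (.node (nat_lit 352) n0 n1) (.node (nat_lit 1056) n2 n3)) (.node (nat_lit 2112) (.node (nat_lit 1760) n4 n5) (.node (nat_lit 2464) n6 n7))) (.node (nat_lit 4224) (.node (nat_lit 3520) (.node (nat_lit 3168) n8 n9) (.node (nat_lit 3872) n10 n11)) (.node (nat_lit 4928) (.node (nat_lit 4576) n12 n13) (.node (nat_lit 5280) n14 n15)))) (.node (nat_lit 8536) (.node (nat_lit 7084) (.node (nat_lit 6380) (.node (nat_lit 6028) n16 n17) (.node (nat_lit 6732) n18 n19)) (.node (nat_lit 7788) (.node (nat_lit 7436) n20 n21) (.node (nat_lit 8140) n22 n23))) (.node (nat_lit 9944) (.node (nat_lit 9240) (.node (nat_lit 8888) n24 n25) (.node (nat_lit 9592) n26 n27)) (.node (nat_lit 10648) (.node (nat_lit 10296) n28 n29) (.node (nat_lit 11000) n30 n31)))))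
noncomputable def r0 : WT := (.node (nat_lit 4) (.leaf (nat_lit 31747) [nat_lit 360, nat_lit 72, nat_lit 336]) (.leaf (nat_lit 15364) [nat_lit 144, nat_lit 72, nat_lit 144, nat_lit 48, nat_lit 168]))
noncomputable def r1 : WT := (.node (nat_lit 6) (.leaf (nat_lit 17412) [nat_lit 192, nat_lit 72, nat_lit 192, nat_lit 48, nat_lit 216]) (.node (nat_lit 7) (.leaf (nat_lit 20484) [nat_lit 240, nat_lit 72, nat_lit 240, nat_lit 48, nat_lit 264]) (.leaf (nat_lit 24580) [nat_lit 288, nat_lit 72, nat_lit 288, nat_lit 48, nat_lit 312])))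
noncomputable def r2 : WT := (.node (nat_lit 10) (.node (nat_lit 9) (.leaf (nat_lit 15360) [nat_lit 168, nat_lit 48, nat_lit 144, nat_lit 72, nat_lit 144]) (.leaf (nat_lit 15363) [nat_lit 168, nat_lit 72, nat_lit 144, nat_lit 72, nat_lit 168])) (.node (nat_lit 11) (.leaf (nat_lit 17408) [nat_lit 216, nat_lit 48, nat_lit 192, nat_lit 72, nat_lit 192]) (.leaf (nat_lit 14336) [nat_lit 120, nat_lit 48, nat_lit 96, nat_lit 72, nat_lit 96])))
noncomputable def r3 : WT := (.node (nat_lit 15) (.node (nat_lit 13) (.leaf (nat_lit 20480) [nat_lit 264, nat_lit 48, nat_lit 240, nat_lit 72, nat_lit 240]) (.node (nat_lit 14) (.leaf (nat_lit 24576) [nat_lit 312, nat_lit 48, nat_lit 288, nat_lit 72, nat_lit 288]) (.leaf (nat_lit 17411) [nat_lit 216, nat_lit 72, nat_lit 192, nat_lit 72, nat_lit 216]))) (.node (nat_lit 17) (.node (nat_lit 16) (.leaf (nat_lit 16388) [nat_lit 144, nat_lit 72, nat_lit 96, nat_lit 72, nat_lit 144, nat_lit 48, nat_lit 120]) (.leaf (nat_lit 14340)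 [nat_lit 96, nat_lit 72, nat_lit 96, nat_lit 48, nat_lit 120])) (.node (nat_lit 18) (.leaf (nat_lit 19460) [nat_lit 192, nat_lit 72, nat_lit 96, nat_lit 72, nat_lit 192, nat_lit 48, nat_lit 120]) (.leaf (nat_lit 20483) [nat_lit 264, nat_lit 72, nat_lit 240, nat_lit 72, nat_lit 264]))))
noncomputable def r4 : WT := (.node (nat_lit 29) (.leaf (nat_lit 37888) [nat_lit 408, nat_lit 48, nat_lit 384, nat_lit 72, nat_lit 384]) (.node (nat_lit 30) (.leaf (nat_lit 43012) [nat_lit 384, nat_lit 72, nat_lit 96, nat_lit 72, nat_lit 384, nat_lit 48, nat_lit 120]) (.node (nat_lit 31) (.leaf (nat_lit 23555) [nat_lit 120, nat_lit 48, nat_lit 264, nat_lit 72, nat_lit 96, nat_lit 72, nat_lit 264]) (.leaf (nat_lit 16384) [nat_lit 120, nat_lit 48, nat_lit 144, nat_lit 72, nat_lit 96, nat_lit 72, nat_lit 144]))))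
noncomputable def r5 : WT := (.node (nat_lit 35) (.node (nat_lit 33) (.leaf (nat_lit 43011) [nat_lit 120, nat_lit 48, nat_lit 408, nat_lit 72, nat_lit 96, nat_lit 72, nat_lit 408]) (.node (nat_lit 34) (.leaf (nat_lit 28675) [nat_lit 120, nat_lit 48, nat_lit 312, nat_lit 72, nat_lit 96, nat_lit 72, nat_lit 312]) (.leaf (nat_lit 19459) [nat_lit 120, nat_lit 48, nat_lit 216, nat_lit 72, nat_lit 96, nat_lit 72, nat_lit 216]))) (.node (nat_lit 37) (.node (nat_lit 36) (.leaf (nat_lit 16387) [nat_lit 120, nat_lit 48, nat_lit 168, nat_lit 72, nat_lit 96, nat_lit 72, nat_lit 168]) (.leaf (nat_lit 28672) [nat_lit 120, nat_lit 48, nat_lit 288, nat_lit 72, nat_lit 96, nat_lit 72, nat_lit 288])) (.node (nat_lit 39) (.node (nat_lit 38) (.leaf (nat_lit 23552) [nat_lit 120, nat_lit 48, nat_lit 240, nat_lit 72, nat_lit 96, nat_lit 72, nat_lit 240]) (.leaf (nat_lit 37891) [nat_lit 408, nat_lit 72, nat_lit 384, nat_lit 72, nat_lit 408])) (.node (nat_lit 40) (.leaf (nat_lit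 19456) [nat_lit 120, nat_lit 48, nat_lit 192, nat_lit 72, nat_lit 96, nat_lit 72, nat_lit 192]) (.leaf (nat_lit 43015) [nat_lit 408, nat_lit 72, nat_lit 96, nat_lit 72, nat_lit 408, nat_lit 48, nat_lit 120])))))
noncomputable def r6 : WT := (.node (nat_lit 23) (.node (nat_lit 21) (.node (nat_lit 20) (.leaf (nat_lit 24579) [nat_lit 312, nat_lit 72, nat_lit 288, nat_lit 72, nat_lit 312]) (.leaf (nat_lit 23556) [nat_lit 240, nat_lit 72, nat_lit 96, nat_lit 72, nat_lit 240, nat_lit 48, nat_lit 120])) (.node (nat_lit 22) (.leaf (nat_lit 16391) [nat_lit 168, nat_lit 72, nat_lit 96, nat_lit 72, nat_lit 168, nat_lit 48, nat_lit 120]) (.leaf (nat_lit 28676) [nat_lit 288, nat_lit 72, nat_lit 96, nat_lit 72, nat_lit 288, nat_lit 48, nat_lit 120]))) (.node (nat_lit 26) (.node (nat_lit 24) (.leaf (nat_lit 37892) [nat_lit 384, nat_lit 72, nat_lit 384, nat_lit 48, nat_lit 408]) (.node (nat_lit 25) (.leaf (nat_lit 14339) [nat_lit 120, nat_lit 72, nat_lit 96, nat_lit 72,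 nat_lit 120]) (.leaf (nat_lit 19463) [nat_lit 216, nat_lit 72, nat_lit 96, nat_lit 72, nat_lit 216, nat_lit 48, nat_lit 120]))) (.node (nat_lit 28) (.node (nat_lit 27) (.leaf (nat_lit 23559) [nat_lit 264, nat_lit 72, nat_lit 96, nat_lit 72, nat_lit 264, nat_lit 48, nat_lit 120]) (.leaf (nat_lit 28679) [nat_lit 312, nat_lit 72, nat_lit 96, nat_lit 72, nat_lit 312, nat_lit 48, nat_lit 120])) (.node (nat_lit 32) r4 r5))))
noncomputable def w0 : WT := (.node (nat_lit 1) (.leaf (nat_lit 0) [nat_lit 72]) (.node (nat_lit 5) (.node (nat_lit 2) (.leaf (nat_lit 8192) [nat_lit 48, nat_lit 48]) (.node (nat_lit 3) (.leaf (nat_lit 31744) [nat_lit 336, nat_lit 72, nat_lit 360]) r0)) (.node (nat_lit 12) (.node (nat_lit 8) r1 r2) (.node (nat_lit 19) r3 r6))))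
noncomputable def r7 : WT := (.node (nat_lit 5) (.leaf (nat_lit 15367) [nat_lit 144, nat_lit 72, nat_lit 168, nat_lit 48, nat_lit 168]) (.node (nat_lit 6) (.leaf (nat_lit 17415) [nat_lit 192, nat_lit 72, nat_lit 216, nat_lit 48, nat_lit 216]) (.leaf (nat_lit 20487) [nat_lit 240, nat_lit 72, nat_lit 264, nat_lit 48, nat_lit 264])))
noncomputable def r8 : WT := (.node (nat_lit 9) (.node (nat_lit 8) (.leaf (nat_lit 14343) [nat_lit 96, nat_lit 72, nat_lit 120, nat_lit 48, nat_lit 120]) (.leaf (nat_lit 14344) [nat_lit 96, nat_lit 48, nat_lit 120, nat_lit 48, nat_lit 96])) (.node (nat_lit 10) (.leaf (nat_lit 24583) [nat_lit 288, nat_lit 72, nat_lit 312, nat_lit 48, nat_lit 312]) (.leaf (nat_lit 15368) [nat_lit 144, nat_lit 48, nat_lit 168, nat_lit 48, nat_lit 144])))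
noncomputable def r9 : WT := (.node (nat_lit 14) (.node (nat_lit 12) (.leaf (nat_lit 17416) [nat_lit 192, nat_lit 48, nat_lit 216, nat_lit 48, nat_lit 192]) (.node (nat_lit 13) (.leaf (nat_lit 16396) [nat_lit 144, nat_lit 48, nat_lit 120, nat_lit 48, nat_lit 144, nat_lit 72, nat_lit 96]) (.leaf (nat_lit 20488) [nat_lit 240, nat_lit 48, nat_lit 264, nat_lit 48, nat_lit 240]))) (.node (nat_lit 16) (.node (nat_lit 15) (.leaf (nat_lit 24584) [nat_lit 288, nat_lit 48, nat_lit 312, nat_lit 48, nat_lit 288]) (.leaf (nat_lit 19468) [nat_lit 192, nat_lit 48, nat_lit 120, nat_lit 48, nat_lit 192, nat_lit 72, nat_lit 96])) (.node (nat_lit 17) (.leaf (nat_lit 23564) [nat_lit 240, nat_lit 48, nat_lit 120, nat_lit 48, nat_lit 240, nat_lit 72, nat_lit 96]) (.leaf (nat_lit 28684) [nat_lit 288, nat_lit 48, nat_lit 120, nat_lit 48, nat_lit 288, nat_lit 72, nat_lit 96]))))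
noncomputable def r10 : WT := (.node (nat_lit 30) (.leaf (nat_lit 16392) [nat_lit 96, nat_lit 72, nat_lit 144, nat_lit 48, nat_lit 120, nat_lit 48, nat_lit 144]) (.node (nat_lit 31) (.leaf (nat_lit 19464) [nat_lit 96, nat_lit 72, nat_lit 192, nat_lit 48, nat_lit 120, nat_lit 48, nat_lit 192]) (.leaf (nat_lit 23560) [nat_lit 96, nat_lit 72, nat_lit 240, nat_lit 48, nat_lit 120, nat_lit 48, nat_lit 240])))
noncomputable def r11 : WT := (.node (nat_lit 34) (.node (nat_lit 33) (.leaf (nat_lit 28680) [nat_lit 96, nat_lit 72, nat_lit 288, nat_lit 48, nat_lit 120, nat_lit 48, nat_lit 288]) (.leaf (nat_lit 37899) [nat_lit 408, nat_lit 48, nat_lit 408, nat_lit 72, nat_lit 384])) (.node (nat_lit 37) (.node (nat_lit 35) (.leaf (nat_lit 28683) [nat_lit 96, nat_lit 72, nat_lit 312, nat_lit 48, nat_lit 120, nat_lit 48, nat_lit 312]) (.node (nat_lit 36) (.leaf (nat_lit 43020) [nat_lit 384, nat_lit 48, nat_lit 120, nat_lit 48, nat_lit 384, nat_lit 72, nat_lit 96]) (.leaf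 (nat_lit 19467) [nat_lit 96, nat_lit 72, nat_lit 216, nat_lit 48, nat_lit 120, nat_lit 48, nat_lit 216]))) (.node (nat_lit 39) (.node (nat_lit 38) (.leaf (nat_lit 23563) [nat_lit 96, nat_lit 72, nat_lit 264, nat_lit 48, nat_lit 120, nat_lit 48, nat_lit 264]) (.leaf (nat_lit 16395) [nat_lit 96, nat_lit 72, nat_lit 168, nat_lit 48, nat_lit 120, nat_lit 48, nat_lit 168])) (.node (nat_lit 40) (.leaf (nat_lit 43016) [nat_lit 96, nat_lit 72, nat_lit 384, nat_lit 48, nat_lit 120, nat_lit 48, nat_lit 384]) (.leaf (nat_lit 43023) [nat_lit 408, nat_lit 48, nat_lit 120, nat_lit 48, nat_lit 408, nat_lit 72, nat_lit 96])))))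
noncomputable def r12 : WT := (.node (nat_lit 24) (.node (nat_lit 21) (.node (nat_lit 19) (.leaf (nat_lit 15371) [nat_lit 168, nat_lit 48, nat_lit 168, nat_lit 72, nat_lit 144]) (.node (nat_lit 20) (.leaf (nat_lit 16399) [nat_lit 168, nat_lit 48, nat_lit 120, nat_lit 48, nat_lit 168, nat_lit 72, nat_lit 96]) (.leaf (nat_lit 37895) [nat_lit 384, nat_lit 72, nat_lit 408, nat_lit 48, nat_lit 408]))) (.node (nat_lit 22) (.leaf (nat_lit 28687) [nat_lit 312, nat_lit 48, nat_lit 120, nat_lit 48, nat_lit 312, nat_lit 72, nat_lit 96]) (.node (nat_lit 23) (.leaf (nat_lit 37896) [nat_lit 384, nat_lit 48, nat_lit 408, nat_lit 48, nat_lit 384]) (.leaf (nat_lit 24587) [nat_lit 312, nat_lit 48, nat_lit 312, nat_lit 72, nat_lit 288])))) (.node (nat_lit 27) (.node (nat_lit 25) (.leaf (nat_lit 23567) [nat_lit 264, nat_lit 48, nat_lit 120, nat_lit 48, nat_lit 264, nat_lit 72, nat_lit 96]) (.node (nat_lit 26) (.leaf (nat_lit 20491) [nat_lit 264, nat_lit 48, nat_lit 264, nat_lit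 72, nat_lit 240]) (.leaf (nat_lit 19471) [nat_lit 216, nat_lit 48, nat_lit 120, nat_lit 48, nat_lit 216, nat_lit 72, nat_lit 96]))) (.node (nat_lit 29) (.node (nat_lit 28) (.leaf (nat_lit 17419) [nat_lit 216, nat_lit 48, nat_lit 216, nat_lit 72, nat_lit 192]) (.leaf (nat_lit 14347) [nat_lit 120, nat_lit 48, nat_lit 120, nat_lit 72, nat_lit 96])) (.node (nat_lit 32) r10 r11))))
noncomputable def w1 : WT := (.node (nat_lit 1) (.leaf (nat_lit 2) [nat_lit 48]) (.node (nat_lit 4) (.node (nat_lit 2) (.leaf (nat_lit 8193) [nat_lit 72, nat_lit 72]) (.node (nat_lit 3) (.leaf (nat_lit 31751) [nat_lit 336, nat_lit 48, nat_lit 360]) (.leaf (nat_lit 31748) [nat_lit 360, nat_lit 48, nat_lit 336]))) (.node (nat_lit 11) (.node (nat_lit 7) r7 r8) (.node (nat_lit 18) r9 r12))))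
noncomputable def r13 : WT := (.node (nat_lit 6) (.leaf (nat_lit 32768) [nat_lit 336, nat_lit 120, nat_lit 360]) (.leaf (nat_lit 16394) [nat_lit 72, nat_lit 144, nat_lit 48, nat_lit 120, nat_lit 48, nat_lit 144, nat_lit 72]))
noncomputable def r14 : WT := (.node (nat_lit 9) (.node (nat_lit 8) (.leaf (nat_lit 19466) [nat_lit 72, nat_lit 192, nat_lit 48, nat_lit 120, nat_lit 48, nat_lit 192, nat_lit 72]) (.leaf (nat_lit 23562) [nat_lit 72, nat_lit 240, nat_lit 48, nat_lit 120, nat_lit 48, nat_lit 240, nat_lit 72])) (.node (nat_lit 10) (.leaf (nat_lit 14345) [nat_lit 72, nat_lit 120, nat_lit 48, nat_lit 120, nat_lit 72]) (.leaf (nat_lit 16397) [nat_lit 72, nat_lit 168, nat_lit 48, nat_lit 120, nat_lit 48, nat_lit 168, nat_lit 72])))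
noncomputable def r15 : WT := (.node (nat_lit 14) (.node (nat_lit 12) (.leaf (nat_lit 19469) [nat_lit 72, nat_lit 216, nat_lit 48, nat_lit 120, nat_lit 48, nat_lit 216, nat_lit 72]) (.node (nat_lit 13) (.leaf (nat_lit 23565) [nat_lit 72, nat_lit 264, nat_lit 48, nat_lit 120, nat_lit 48, nat_lit 264, nat_lit 72]) (.leaf (nat_lit 28685) [nat_lit 72, nat_lit 312, nat_lit 48, nat_lit 120, nat_lit 48, nat_lit 312, nat_lit 72]))) (.node (nat_lit 15) (.leaf (nat_lit 28682) [nat_lit 72, nat_lit 288, nat_lit 48, nat_lit 120, nat_lit 48, nat_lit 288, nat_lit 72]) (.node (nat_lit 16) (.leaf (nat_lit 43018) [nat_lit 72, nat_lit 384, nat_lit 48, nat_lit 120, nat_lit 48, nat_lit 384, nat_lit 72]) (.leaf (nat_lit 43021) [nat_lit 72, nat_lit 408, nat_lit 48, nat_lit 120, nat_lit 48, nat_lit 408, nat_lit 72]))))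
noncomputable def w2 : WT := (.node (nat_lit 1) (.leaf (nat_lit 1024) [nat_lit 120]) (.node (nat_lit 4) (.node (nat_lit 2) (.leaf (nat_lit 14346) [nat_lit 48, nat_lit 120, nat_lit 48, nat_lit 96, nat_lit 72]) (.node (nat_lit 3) (.leaf (nat_lit 9216) [nat_lit 96, nat_lit 96]) (.leaf (nat_lit 32771) [nat_lit 360, nat_lit 120, nat_lit 336]))) (.node (nat_lit 7) (.node (nat_lit 5) (.leaf (nat_lit 14342) [nat_lit 72, nat_lit 96, nat_lit 48, nat_lit 120, nat_lit 48]) r13) (.node (nat_lit 11) r14 r15))))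
noncomputable def r16 : WT := (.node (nat_lit 6) (.leaf (nat_lit 14338) [nat_lit 48, nat_lit 96, nat_lit 72, nat_lit 96, nat_lit 48]) (.leaf (nat_lit 14341) [nat_lit 72, nat_lit 96, nat_lit 72, nat_lit 120, nat_lit 48]))
noncomputable def r17 : WT := (.node (nat_lit 8) (.leaf (nat_lit 16389) [nat_lit 48, nat_lit 168, nat_lit 72, nat_lit 96, nat_lit 72, nat_lit 168, nat_lit 48]) (.node (nat_lit 9) (.leaf (nat_lit 16386) [nat_lit 48, nat_lit 144, nat_lit 72, nat_lit 96, nat_lit 72, nat_lit 144, nat_lit 48]) (.leaf (nat_lit 23554) [nat_lit 48, nat_lit 240, nat_lit 72, nat_lit 96, nat_lit 72, nat_lit 240, nat_lit 48])))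
noncomputable def r18 : WT := (.node (nat_lit 12) (.node (nat_lit 11) (.leaf (nat_lit 19458) [nat_lit 48, nat_lit 192, nat_lit 72, nat_lit 96, nat_lit 72, nat_lit 192, nat_lit 48]) (.leaf (nat_lit 28674) [nat_lit 48, nat_lit 288, nat_lit 72, nat_lit 96, nat_lit 72, nat_lit 288, nat_lit 48])) (.node (nat_lit 14) (.node (nat_lit 13) (.leaf (nat_lit 19461) [nat_lit 48, nat_lit 216, nat_lit 72, nat_lit 96, nat_lit 72, nat_lit 216, nat_lit 48]) (.leaf (nat_lit 23557) [nat_lit 48, nat_lit 264, nat_lit 72, nat_lit 96, nat_lit 72, nat_lit 264, nat_lit 48])) (.node (nat_lit 15) (.leaf (nat_lit 28677) [nat_lit 48, nat_lit 312, nat_lit 72, nat_lit 96, nat_lit 72, nat_lit 312, nat_lit 48]) (.node (nat_lit 16) (.leaf (nat_lit 43010) [nat_lit 48, nat_lit 384, nat_lit 72, nat_lit 96, nat_lit 72, nat_lit 384, nat_lit 48]) (.leaf (nat_lit 43013) [nat_lit 48, nat_lit 408, nat_lit 72, nat_lit 96, nat_lit 72, nat_lit 408, nat_lit 48])))))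
noncomputable def w3 : WT := (.node (nat_lit 1) (.leaf (nat_lit 1026) [nat_lit 96]) (.node (nat_lit 4) (.node (nat_lit 2) (.leaf (nat_lit 32772) [nat_lit 360, nat_lit 96, nat_lit 336]) (.node (nat_lit 3) (.leaf (nat_lit 9217) [nat_lit 120, nat_lit 120]) (.leaf (nat_lit 14337) [nat_lit 48, nat_lit 120, nat_lit 72, nat_lit 96, nat_lit 72]))) (.node (nat_lit 7) (.node (nat_lit 5) (.leaf (nat_lit 32775) [nat_lit 336, nat_lit 96, nat_lit 360]) r16) (.node (nat_lit 10) r17 r18))))
noncomputable def r19 : WT := (.node (nat_lit 4) (.leaf (nat_lit 33792) [nat_lit 336, nat_lit 168, nat_lit 360]) (.leaf (nat_lit 21508) [nat_lit 240, nat_lit 168, nat_lit 240, nat_lit 144, nat_lit 264]))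
noncomputable def r20 : WT := (.node (nat_lit 6) (.leaf (nat_lit 25604) [nat_lit 288, nat_lit 168, nat_lit 288, nat_lit 144, nat_lit 312]) (.leaf (nat_lit 18436) [nat_lit 192, nat_lit 168, nat_lit 192, nat_lit 144, nat_lit 216]))
noncomputable def r21 : WT := (.node (nat_lit 9) (.node (nat_lit 8) (.leaf (nat_lit 16398) [nat_lit 48, nat_lit 120, nat_lit 48, nat_lit 144, nat_lit 72, nat_lit 96, nat_lit 72]) (.leaf (nat_lit 18432) [nat_lit 216, nat_lit 144, nat_lit 192, nat_lit 168, nat_lit 192])) (.node (nat_lit 10) (.leaf (nat_lit 15370) [nat_lit 48, nat_lit 168, nat_lit 48, nat_lit 144, nat_lit 72]) (.node (nat_lit 11) (.leaf (nat_lit 21504) [nat_lit 264, nat_lit 144, nat_lit 240, nat_lit 168, nat_lit 240]) (.leaf (nat_lit 38916) [nat_lit 384, nat_lit 168, nat_lit 384, nat_lit 144, nat_lit 408]))))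
noncomputable def r22 : WT := (.node (nat_lit 16) (.node (nat_lit 14) (.node (nat_lit 13) (.leaf (nat_lit 15366) [nat_lit 72, nat_lit 144, nat_lit 48, nat_lit 168, nat_lit 48]) (.leaf (nat_lit 18435) [nat_lit 216, nat_lit 168, nat_lit 192, nat_lit 168, nat_lit 216])) (.node (nat_lit 15) (.leaf (nat_lit 25600) [nat_lit 312, nat_lit 144, nat_lit 288, nat_lit 168, nat_lit 288]) (.leaf (nat_lit 21507) [nat_lit 264, nat_lit 168, nat_lit 240, nat_lit 168, nat_lit 264]))) (.node (nat_lit 18) (.node (nat_lit 17) (.leaf (nat_lit 16390) [nat_lit 72, nat_lit 96, nat_lit 72, nat_lit 144, nat_lit 48, nat_lit 120, nat_lit 48]) (.leaf (nat_lit 38912) [nat_lit 408, nat_lit 144, nat_lit 384, nat_lit 168, nat_lit 384])) (.node (nat_lit 19) (.leaf (nat_lit 25603) [nat_lit 312, nat_lit 168, nat_lit 288, nat_lit 168, nat_lit 312]) (.node (nat_lit 20) (.leaf (nat_lit 38915) [nat_lit 408, nat_lit 168, nat_lit 384, nat_lit 168, nat_lit 408]) (.leaf (nat_lit 15369) [nat_lit 72,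 nat_lit 168, nat_lit 48, nat_lit 168, nat_lit 72])))))
noncomputable def w4 : WT := (.node (nat_lit 1) (.leaf (nat_lit 2048) [nat_lit 168]) (.node (nat_lit 3) (.node (nat_lit 2) (.leaf (nat_lit 10240) [nat_lit 144, nat_lit 144]) (.leaf (nat_lit 33795) [nat_lit 360, nat_lit 168, nat_lit 336])) (.node (nat_lit 7) (.node (nat_lit 5) r19 r20) (.node (nat_lit 12) r21 r22))))
noncomputable def r23 : WT := (.node (nat_lit 5) (.leaf (nat_lit 21511) [nat_lit 240, nat_lit 168, nat_lit 264, nat_lit 144, nat_lit 264]) (.leaf (nat_lit 18439) [nat_lit 192, nat_lit 168, nat_lit 216, nat_lit 144, nat_lit 216]))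
noncomputable def r24 : WT := (.node (nat_lit 7) (.leaf (nat_lit 25607) [nat_lit 288, nat_lit 168, nat_lit 312, nat_lit 144, nat_lit 312]) (.leaf (nat_lit 18440) [nat_lit 192, nat_lit 144, nat_lit 216, nat_lit 144, nat_lit 192]))
noncomputable def r25 : WT := (.node (nat_lit 10) (.node (nat_lit 9) (.leaf (nat_lit 21512) [nat_lit 240, nat_lit 144, nat_lit 264, nat_lit 144, nat_lit 240]) (.leaf (nat_lit 15361) [nat_lit 48, nat_lit 168, nat_lit 72, nat_lit 144, nat_lit 72])) (.node (nat_lit 11) (.leaf (nat_lit 25608) [nat_lit 288, nat_lit 144, nat_lit 312, nat_lit 144, nat_lit 288]) (.leaf (nat_lit 15362) [nat_lit 48, nat_lit 144, nat_lit 72, nat_lit 144, nat_lit 48])))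
noncomputable def r26 : WT := (.node (nat_lit 14) (.node (nat_lit 13) (.leaf (nat_lit 38920) [nat_lit 384, nat_lit 144, nat_lit 408, nat_lit 144, nat_lit 384]) (.leaf (nat_lit 16393) [nat_lit 72, nat_lit 96, nat_lit 72, nat_lit 168, nat_lit 48, nat_lit 120, nat_lit 48])) (.node (nat_lit 17) (.node (nat_lit 15) (.leaf (nat_lit 16385) [nat_lit 48, nat_lit 120, nat_lit 48, nat_lit 168, nat_lit 72, nat_lit 96, nat_lit 72]) (.node (nat_lit 16) (.leaf (nat_lit 38919) [nat_lit 384, nat_lit 168, nat_lit 408, nat_lit 144, nat_lit 408]) (.leaf (nat_lit 18443) [nat_lit 216, nat_lit 144, nat_lit 216, nat_lit 168, nat_lit 192]))) (.node (nat_lit 19) (.node (nat_lit 18) (.leaf (nat_lit 21515) [nat_lit 264, nat_lit 144, nat_lit 264, nat_lit 168, nat_lit 240]) (.leaf (nat_lit 25611) [nat_lit 312, nat_lit 144, nat_lit 312, nat_lit 168, nat_lit 288])) (.node (nat_lit 20) (.leaf (nat_lit 38923) [nat_lit 408, nat_lit 144, nat_lit 408, nat_lit 168, nat_lit 384]) (.leaf (nat_lit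 15365) [nat_lit 72, nat_lit 144, nat_lit 72, nat_lit 168, nat_lit 48])))))
noncomputable def w5 : WT := (.node (nat_lit 1) (.leaf (nat_lit 2050) [nat_lit 144]) (.node (nat_lit 4) (.node (nat_lit 2) (.leaf (nat_lit 10241) [nat_lit 168, nat_lit 168]) (.node (nat_lit 3) (.leaf (nat_lit 33796) [nat_lit 360, nat_lit 144, nat_lit 336]) (.leaf (nat_lit 33799) [nat_lit 336, nat_lit 144, nat_lit 360]))) (.node (nat_lit 8) (.node (nat_lit 6) r23 r24) (.node (nat_lit 12) r25 r26))))
noncomputable def r27 : WT := (.node (nat_lit 5) (.leaf (nat_lit 22532) [nat_lit 240, nat_lit 216, nat_lit 240, nat_lit 192, nat_lit 264]) (.leaf (nat_lit 26628) [nat_lit 288, nat_lit 216, nat_lit 288, nat_lit 192, nat_lit 312]))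
noncomputable def r28 : WT := (.node (nat_lit 7) (.leaf (nat_lit 18442) [nat_lit 144, nat_lit 216, nat_lit 144, nat_lit 192, nat_lit 168]) (.node (nat_lit 8) (.leaf (nat_lit 18441) [nat_lit 168, nat_lit 216, nat_lit 144, nat_lit 216, nat_lit 168]) (.leaf (nat_lit 19470) [nat_lit 48, nat_lit 120, nat_lit 48, nat_lit 192, nat_lit 72, nat_lit 96, nat_lit 72])))
noncomputable def r29 : WT := (.node (nat_lit 11) (.node (nat_lit 10) (.leaf (nat_lit 39940) [nat_lit 384, nat_lit 216, nat_lit 384, nat_lit 192, nat_lit 408]) (.leaf (nat_lit 22528) [nat_lit 264, nat_lit 192, nat_lit 240, nat_lit 216, nat_lit 240])) (.node (nat_lit 12) (.leaf (nat_lit 17414) [nat_lit 72, nat_lit 192, nat_lit 48, nat_lit 216, nat_lit 48]) (.node (nat_lit 13) (.leaf (nat_lit 18438) [nat_lit 168, nat_lit 192, nat_lit 144, nat_lit 216, nat_lit 144]) (.leaf (nat_lit 26624) [nat_lit 312, nat_lit 192, nat_lit 288, nat_lit 216, nat_lit 288]))))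
noncomputable def r30 : WT := (.node (nat_lit 17) (.node (nat_lit 15) (.leaf (nat_lit 17418) [nat_lit 48, nat_lit 216, nat_lit 48, nat_lit 192, nat_lit 72]) (.node (nat_lit 16) (.leaf (nat_lit 22531) [nat_lit 264, nat_lit 216, nat_lit 240, nat_lit 216, nat_lit 264]) (.leaf (nat_lit 19462) [nat_lit 72, nat_lit 96, nat_lit 72, nat_lit 192, nat_lit 48, nat_lit 120, nat_lit 48]))) (.node (nat_lit 19) (.node (nat_lit 18) (.leaf (nat_lit 26627) [nat_lit 312, nat_lit 216, nat_lit 288, nat_lit 216, nat_lit 312]) (.leaf (nat_lit 39936) [nat_lit 408, nat_lit 192, nat_lit 384, nat_lit 216, nat_lit 384])) (.node (nat_lit 20) (.leaf (nat_lit 17417) [nat_lit 72, nat_lit 216, nat_lit 48, nat_lit 216, nat_lit 72]) (.leaf (nat_lit 39939) [nat_lit 408, nat_lit 216, nat_lit 384, nat_lit 216, nat_lit 408]))))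
noncomputable def w6 : WT := (.node (nat_lit 1) (.leaf (nat_lit 3072) [nat_lit 216]) (.node (nat_lit 4) (.node (nat_lit 2) (.leaf (nat_lit 34819) [nat_lit 360, nat_lit 216, nat_lit 336]) (.node (nat_lit 3) (.leaf (nat_lit 11264) [nat_lit 192, nat_lit 192]) (.leaf (nat_lit 34816) [nat_lit 336, nat_lit 216, nat_lit 360]))) (.node (nat_lit 9) (.node (nat_lit 6) r27 r28) (.node (nat_lit 14) r29 r30))))
noncomputable def r31 : WT := (.node (nat_lit 5) (.leaf (nat_lit 22535) [nat_lit 240, nat_lit 216, nat_lit 264, nat_lit 192, nat_lit 264]) (.leaf (nat_lit 26631) [nat_lit 288, nat_lit 216, nat_lit 312, nat_lit 192, nat_lit 312]))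
noncomputable def r32 : WT := (.node (nat_lit 7) (.leaf (nat_lit 22536) [nat_lit 240, nat_lit 192, nat_lit 264, nat_lit 192, nat_lit 240]) (.node (nat_lit 8) (.leaf (nat_lit 26632) [nat_lit 288, nat_lit 192, nat_lit 312, nat_lit 192, nat_lit 288]) (.leaf (nat_lit 17410) [nat_lit 48, nat_lit 192, nat_lit 72, nat_lit 192, nat_lit 48])))
noncomputable def r33 : WT := (.node (nat_lit 10) (.leaf (nat_lit 18434) [nat_lit 144, nat_lit 192, nat_lit 168, nat_lit 192, nat_lit 144]) (.node (nat_lit 11) (.leaf (nat_lit 18433) [nat_lit 144, nat_lit 216, nat_lit 168, nat_lit 192, nat_lit 168]) (.leaf (nat_lit 17409) [nat_lit 48, nat_lit 216, nat_lit 72, nat_lit 192, nat_lit 72])))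
noncomputable def r34 : WT := (.node (nat_lit 20) (.leaf (nat_lit 17413) [nat_lit 72, nat_lit 192, nat_lit 72, nat_lit 216, nat_lit 48]) (.leaf (nat_lit 18437) [nat_lit 168, nat_lit 192, nat_lit 168, nat_lit 216, nat_lit 144]))
noncomputable def r35 : WT := (.node (nat_lit 14) (.node (nat_lit 13) (.leaf (nat_lit 39944) [nat_lit 384, nat_lit 192, nat_lit 408, nat_lit 192, nat_lit 384]) (.leaf (nat_lit 19465) [nat_lit 72, nat_lit 96, nat_lit 72, nat_lit 216, nat_lit 48, nat_lit 120, nat_lit 48])) (.node (nat_lit 16) (.node (nat_lit 15) (.leaf (nat_lit 39943) [nat_lit 384, nat_lit 216, nat_lit 408, nat_lit 192, nat_lit 408]) (.leaf (nat_lit 19457) [nat_lit 48, nat_lit 120, nat_lit 48, nat_lit 216, nat_lit 72, nat_lit 96, nat_lit 72])) (.node (nat_lit 18) (.node (nat_lit 17) (.leaf (nat_lit 26635) [nat_lit 312, nat_lit 192, nat_lit 312, nat_lit 216, nat_lit 288]) (.leaf (nat_lit 22539) [nat_lit 264, nat_lit 192, nat_lit 264, nat_lit 216, nat_lit 240])) (.node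 (nat_lit 19) (.leaf (nat_lit 39947) [nat_lit 408, nat_lit 192, nat_lit 408, nat_lit 216, nat_lit 384]) r34))))
noncomputable def w7 : WT := (.node (nat_lit 1) (.leaf (nat_lit 3074) [nat_lit 192]) (.node (nat_lit 4) (.node (nat_lit 2) (.leaf (nat_lit 11265) [nat_lit 216, nat_lit 216]) (.node (nat_lit 3) (.leaf (nat_lit 34820) [nat_lit 360, nat_lit 192, nat_lit 336]) (.leaf (nat_lit 34823) [nat_lit 336, nat_lit 192, nat_lit 360]))) (.node (nat_lit 9) (.node (nat_lit 6) r31 r32) (.node (nat_lit 12) r33 r35))))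
noncomputable def r36 : WT := (.node (nat_lit 5) (.leaf (nat_lit 27652) [nat_lit 288, nat_lit 264, nat_lit 288, nat_lit 240, nat_lit 312]) (.leaf (nat_lit 23566) [nat_lit 48, nat_lit 120, nat_lit 48, nat_lit 240, nat_lit 72, nat_lit 96, nat_lit 72]))
noncomputable def r37 : WT := (.node (nat_lit 8) (.node (nat_lit 7) (.leaf (nat_lit 21514) [nat_lit 144, nat_lit 264, nat_lit 144, nat_lit 240, nat_lit 168]) (.leaf (nat_lit 22538) [nat_lit 192, nat_lit 264, nat_lit 192, nat_lit 240, nat_lit 216])) (.node (nat_lit 9) (.leaf (nat_lit 21510) [nat_lit 168, nat_lit 240, nat_lit 144, nat_lit 264, nat_lit 144]) (.leaf (nat_lit 40964) [nat_lit 384, nat_lit 264, nat_lit 384, nat_lit 240, nat_lit 408])))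
noncomputable def r38 : WT := (.node (nat_lit 12) (.node (nat_lit 11) (.leaf (nat_lit 20486) [nat_lit 72, nat_lit 240, nat_lit 48, nat_lit 264, nat_lit 48]) (.leaf (nat_lit 22537) [nat_lit 216, nat_lit 264, nat_lit 192, nat_lit 264, nat_lit 216])) (.node (nat_lit 13) (.leaf (nat_lit 27648) [nat_lit 312, nat_lit 240, nat_lit 288, nat_lit 264, nat_lit 288]) (.leaf (nat_lit 21513) [nat_lit 168, nat_lit 264, nat_lit 144, nat_lit 264, nat_lit 168])))
noncomputable def r39 : WT := (.node (nat_lit 17) (.node (nat_lit 15) (.leaf (nat_lit 22534) [nat_lit 216, nat_lit 240, nat_lit 192, nat_lit 264, nat_lit 192]) (.node (nat_lit 16) (.leaf (nat_lit 20490) [nat_lit 48, nat_lit 264, nat_lit 48, nat_lit 240, nat_lit 72]) (.leaf (nat_lit 23558) [nat_lit 72, nat_lit 96, nat_lit 72, nat_lit 240, nat_lit 48, nat_lit 120, nat_lit 48]))) (.node (nat_lit 19) (.node (nat_lit 18) (.leaf (nat_lit 27651) [nat_lit 312, nat_lit 264, nat_lit 288, nat_lit 264, nat_lit 312]) (.leaf (nat_lit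 40963) [nat_lit 408, nat_lit 264, nat_lit 384, nat_lit 264, nat_lit 408])) (.node (nat_lit 20) (.leaf (nat_lit 20489) [nat_lit 72, nat_lit 264, nat_lit 48, nat_lit 264, nat_lit 72]) (.leaf (nat_lit 40960) [nat_lit 408, nat_lit 240, nat_lit 384, nat_lit 264, nat_lit 384]))))
noncomputable def w8 : WT := (.node (nat_lit 1) (.leaf (nat_lit 4096) [nat_lit 264]) (.node (nat_lit 4) (.node (nat_lit 2) (.leaf (nat_lit 35843) [nat_lit 360, nat_lit 264, nat_lit 336]) (.node (nat_lit 3) (.leaf (nat_lit 12288) [nat_lit 240, nat_lit 240]) (.leaf (nat_lit 35840) [nat_lit 336, nat_lit 264, nat_lit 360]))) (.node (nat_lit 10) (.node (nat_lit 6) r36 r37) (.node (nat_lit 14) r38 r39))))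
noncomputable def r40 : WT := (.node (nat_lit 5) (.leaf (nat_lit 27655) [nat_lit 288, nat_lit 264, nat_lit 312, nat_lit 240, nat_lit 312]) (.node (nat_lit 6) (.leaf (nat_lit 27656) [nat_lit 288, nat_lit 240, nat_lit 312, nat_lit 240, nat_lit 288]) (.leaf (nat_lit 20482) [nat_lit 48, nat_lit 240, nat_lit 72, nat_lit 240, nat_lit 48])))
noncomputable def r41 : WT := (.node (nat_lit 9) (.node (nat_lit 8) (.leaf (nat_lit 21505) [nat_lit 144, nat_lit 264, nat_lit 168, nat_lit 240, nat_lit 168]) (.leaf (nat_lit 22530) [nat_lit 192, nat_lit 240, nat_lit 216, nat_lit 240, nat_lit 192])) (.node (nat_lit 10) (.leaf (nat_lit 21506) [nat_lit 144, nat_lit 240, nat_lit 168, nat_lit 240, nat_lit 144]) (.leaf (nat_lit 20481) [nat_lit 48, nat_lit 264, nat_lit 72, nat_lit 240, nat_lit 72])))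
noncomputable def r42 : WT := (.node (nat_lit 20) (.leaf (nat_lit 21509) [nat_lit 168, nat_lit 240, nat_lit 168, nat_lit 264, nat_lit 144]) (.leaf (nat_lit 22533) [nat_lit 216, nat_lit 240, nat_lit 216, nat_lit 264, nat_lit 192]))
noncomputable def r43 : WT := (.node (nat_lit 14) (.node (nat_lit 12) (.leaf (nat_lit 40968) [nat_lit 384, nat_lit 240, nat_lit 408, nat_lit 240, nat_lit 384]) (.node (nat_lit 13) (.leaf (nat_lit 23561) [nat_lit 72, nat_lit 96, nat_lit 72, nat_lit 264, nat_lit 48, nat_lit 120, nat_lit 48]) (.leaf (nat_lit 22529) [nat_lit 192, nat_lit 264, nat_lit 216, nat_lit 240, nat_lit 216]))) (.node (nat_lit 16) (.node (nat_lit 15) (.leaf (nat_lit 40967) [nat_lit 384, nat_lit 264, nat_lit 408, nat_lit 240, nat_lit 408]) (.leaf (nat_lit 23553) [nat_lit 48, nat_lit 120, nat_lit 48, nat_lit 264, nat_lit 72, nat_lit 96, nat_lit 72])) (.node (nat_lit 18) (.node (nat_lit 17) (.leaf (nat_lit 27659) [nat_lit 312, nat_lit 240, nat_lit 312, nat_lit 264,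 nat_lit 288]) (.leaf (nat_lit 40971) [nat_lit 408, nat_lit 240, nat_lit 408, nat_lit 264, nat_lit 384])) (.node (nat_lit 19) (.leaf (nat_lit 20485) [nat_lit 72, nat_lit 240, nat_lit 72, nat_lit 264, nat_lit 48]) r42))))
noncomputable def w9 : WT := (.node (nat_lit 1) (.leaf (nat_lit 4098) [nat_lit 240]) (.node (nat_lit 3) (.node (nat_lit 2) (.leaf (nat_lit 12289) [nat_lit 264, nat_lit 264]) (.leaf (nat_lit 35844) [nat_lit 360, nat_lit 240, nat_lit 336])) (.node (nat_lit 7) (.node (nat_lit 4) (.leaf (nat_lit 35847) [nat_lit 336, nat_lit 240, nat_lit 360]) r40) (.node (nat_lit 11) r41 r43))))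
noncomputable def r44 : WT := (.node (nat_lit 5) (.leaf (nat_lit 26634) [nat_lit 192, nat_lit 312, nat_lit 192, nat_lit 288, nat_lit 216]) (.node (nat_lit 6) (.leaf (nat_lit 25610) [nat_lit 144, nat_lit 312, nat_lit 144, nat_lit 288, nat_lit 168]) (.leaf (nat_lit 28686) [nat_lit 48, nat_lit 120, nat_lit 48, nat_lit 288, nat_lit 72, nat_lit 96, nat_lit 72])))
noncomputable def r45 : WT := (.node (nat_lit 8) (.leaf (nat_lit 27658) [nat_lit 240, nat_lit 312, nat_lit 240, nat_lit 288, nat_lit 264]) (.node (nat_lit 9) (.leaf (nat_lit 25606) [nat_lit 168, nat_lit 288, nat_lit 144, nat_lit 312, nat_lit 144]) (.leaf (nat_lit 28678) [nat_lit 72, nat_lit 96, nat_lit 72, nat_lit 288, nat_lit 48, nat_lit 120, nat_lit 48])))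
noncomputable def r46 : WT := (.node (nat_lit 12) (.node (nat_lit 11) (.leaf (nat_lit 24582) [nat_lit 72, nat_lit 288, nat_lit 48, nat_lit 312, nat_lit 48]) (.leaf (nat_lit 41988) [nat_lit 384, nat_lit 312, nat_lit 384, nat_lit 288, nat_lit 408])) (.node (nat_lit 13) (.leaf (nat_lit 25609) [nat_lit 168, nat_lit 312, nat_lit 144, nat_lit 312, nat_lit 168]) (.leaf (nat_lit 26633) [nat_lit 216, nat_lit 312, nat_lit 192, nat_lit 312, nat_lit 216])))
noncomputable def r47 : WT := (.node (nat_lit 17) (.node (nat_lit 15) (.leaf (nat_lit 26630) [nat_lit 216, nat_lit 288, nat_lit 192, nat_lit 312, nat_lit 192]) (.node (nat_lit 16) (.leaf (nat_lit 27657) [nat_lit 264, nat_lit 312, nat_lit 240, nat_lit 312, nat_lit 264]) (.leaf (nat_lit 24586) [nat_lit 48, nat_lit 312, nat_lit 48, nat_lit 288, nat_lit 72]))) (.node (nat_lit 19) (.node (nat_lit 18) (.leaf (nat_lit 27654) [nat_lit 264, nat_lit 288, nat_lit 240, nat_lit 312, nat_lit 240]) (.leaf (nat_lit 24585) [nat_lit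 72, nat_lit 312, nat_lit 48, nat_lit 312, nat_lit 72])) (.node (nat_lit 20) (.leaf (nat_lit 41984) [nat_lit 408, nat_lit 288, nat_lit 384, nat_lit 312, nat_lit 384]) (.leaf (nat_lit 41987) [nat_lit 408, nat_lit 312, nat_lit 384, nat_lit 312, nat_lit 408]))))
noncomputable def w10 : WT := (.node (nat_lit 1) (.leaf (nat_lit 5120) [nat_lit 312]) (.node (nat_lit 4) (.node (nat_lit 2) (.leaf (nat_lit 36867) [nat_lit 360, nat_lit 312, nat_lit 336]) (.node (nat_lit 3) (.leaf (nat_lit 13312) [nat_lit 288, nat_lit 288]) (.leaf (nat_lit 36864) [nat_lit 336, nat_lit 312, nat_lit 360]))) (.node (nat_lit 10) (.node (nat_lit 7) r44 r45) (.node (nat_lit 14) r46 r47))))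
noncomputable def r48 : WT := (.node (nat_lit 5) (.leaf (nat_lit 25601) [nat_lit 144, nat_lit 312, nat_lit 168, nat_lit 288, nat_lit 168]) (.node (nat_lit 6) (.leaf (nat_lit 26625) [nat_lit 192, nat_lit 312, nat_lit 216, nat_lit 288, nat_lit 216]) (.leaf (nat_lit 24578) [nat_lit 48, nat_lit 288, nat_lit 72, nat_lit 288, nat_lit 48])))
noncomputable def r49 : WT := (.node (nat_lit 9) (.node (nat_lit 8) (.leaf (nat_lit 25602) [nat_lit 144, nat_lit 288, nat_lit 168, nat_lit 288, nat_lit 144]) (.leaf (nat_lit 26626) [nat_lit 192, nat_lit 288, nat_lit 216, nat_lit 288, nat_lit 192])) (.node (nat_lit 10) (.leaf (nat_lit 27649) [nat_lit 240, nat_lit 312, nat_lit 264, nat_lit 288, nat_lit 264]) (.leaf (nat_lit 24577) [nat_lit 48, nat_lit 312, nat_lit 72, nat_lit 288, nat_lit 72])))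
noncomputable def r50 : WT := (.node (nat_lit 20) (.leaf (nat_lit 26629) [nat_lit 216, nat_lit 288, nat_lit 216, nat_lit 312, nat_lit 192]) (.leaf (nat_lit 27653) [nat_lit 264, nat_lit 288, nat_lit 264, nat_lit 312, nat_lit 240]))
noncomputable def r51 : WT := (.node (nat_lit 14) (.node (nat_lit 12) (.leaf (nat_lit 27650) [nat_lit 240, nat_lit 288, nat_lit 264, nat_lit 288, nat_lit 240]) (.node (nat_lit 13) (.leaf (nat_lit 41992) [nat_lit 384, nat_lit 288, nat_lit 408, nat_lit 288, nat_lit 384]) (.leaf (nat_lit 41991) [nat_lit 384, nat_lit 312, nat_lit 408, nat_lit 288, nat_lit 408]))) (.node (nat_lit 16) (.node (nat_lit 15) (.leaf (nat_lit 28681) [nat_lit 72, nat_lit 96, nat_lit 72, nat_lit 312, nat_lit 48, nat_lit 120, nat_lit 48]) (.leaf (nat_lit 28673) [nat_lit 48, nat_lit 120, nat_lit 48, nat_lit 312, nat_lit 72, nat_lit 96, nat_lit 72])) (.node (nat_lit 18) (.node (nat_lit 17) (.leaf (nat_lit 41995) [nat_lit 408, nat_lit 288, nat_lit 408, nat_lit 312,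 nat_lit 384]) (.leaf (nat_lit 25605) [nat_lit 168, nat_lit 288, nat_lit 168, nat_lit 312, nat_lit 144])) (.node (nat_lit 19) (.leaf (nat_lit 24581) [nat_lit 72, nat_lit 288, nat_lit 72, nat_lit 312, nat_lit 48]) r50))))
noncomputable def w11 : WT := (.node (nat_lit 1) (.leaf (nat_lit 5122) [nat_lit 288]) (.node (nat_lit 3) (.node (nat_lit 2) (.leaf (nat_lit 13313) [nat_lit 312, nat_lit 312]) (.leaf (nat_lit 36868) [nat_lit 360, nat_lit 288, nat_lit 336])) (.node (nat_lit 7) (.node (nat_lit 4) (.leaf (nat_lit 36871) [nat_lit 336, nat_lit 288, nat_lit 360]) r48) (.node (nat_lit 11) r49 r51))))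
noncomputable def r52 : WT := (.node (nat_lit 4) (.leaf (nat_lit 35841) [nat_lit 240, nat_lit 360, nat_lit 264]) (.leaf (nat_lit 33793) [nat_lit 144, nat_lit 360, nat_lit 168]))
noncomputable def r53 : WT := (.node (nat_lit 6) (.leaf (nat_lit 34817) [nat_lit 192, nat_lit 360, nat_lit 216]) (.leaf (nat_lit 31745) [nat_lit 48, nat_lit 360, nat_lit 72]))
noncomputable def r54 : WT := (.node (nat_lit 8) (.leaf (nat_lit 32769) [nat_lit 96, nat_lit 360, nat_lit 120]) (.leaf (nat_lit 31746) [nat_lit 72, nat_lit 360, nat_lit 48]))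
noncomputable def r55 : WT := (.node (nat_lit 10) (.leaf (nat_lit 32770) [nat_lit 120, nat_lit 360, nat_lit 96]) (.leaf (nat_lit 36866) [nat_lit 312, nat_lit 360, nat_lit 288]))
noncomputable def r56 : WT := (.node (nat_lit 17) (.leaf (nat_lit 44052) [nat_lit 384, nat_lit 360, nat_lit 384, nat_lit 336, nat_lit 408, nat_lit 360, nat_lit 384, nat_lit 336, nat_lit 384, nat_lit 360, nat_lit 408]) (.leaf (nat_lit 44055) [nat_lit 408, nat_lit 360, nat_lit 384, nat_lit 336, nat_lit 408, nat_lit 360, nat_lit 408, nat_lit 336, nat_lit 384, nat_lit 360, nat_lit 408]))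
noncomputable def r57 : WT := (.node (nat_lit 13) (.node (nat_lit 12) (.leaf (nat_lit 33794) [nat_lit 168, nat_lit 360, nat_lit 144]) (.leaf (nat_lit 35842) [nat_lit 264, nat_lit 360, nat_lit 240])) (.node (nat_lit 14) (.leaf (nat_lit 34818) [nat_lit 216, nat_lit 360, nat_lit 192]) (.node (nat_lit 15) (.leaf (nat_lit 45062) [nat_lit 384, nat_lit 360, nat_lit 408, nat_lit 360, nat_lit 408, nat_lit 360, nat_lit 384, nat_lit 336, nat_lit 384]) (.node (nat_lit 16) (.leaf (nat_lit 45058) [nat_lit 384, nat_lit 336, nat_lit 384, nat_lit 360, nat_lit 408, nat_lit 360, nat_lit 408, nat_lit 360, nat_lit 384]) r56))))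
noncomputable def w12 : WT := (.node (nat_lit 1) (.leaf (nat_lit 6144) [nat_lit 360]) (.node (nat_lit 5) (.node (nat_lit 2) (.leaf (nat_lit 29696) [nat_lit 336, nat_lit 336]) (.node (nat_lit 3) (.leaf (nat_lit 36865) [nat_lit 288, nat_lit 360, nat_lit 312]) r52)) (.node (nat_lit 9) (.node (nat_lit 7) r53 r54) (.node (nat_lit 11) r55 r57))))
noncomputable def r58 : WT := (.node (nat_lit 5) (.leaf (nat_lit 36869) [nat_lit 312, nat_lit 336, nat_lit 288]) (.leaf (nat_lit 36870) [nat_lit 288, nat_lit 336, nat_lit 312]))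
noncomputable def r59 : WT := (.node (nat_lit 7) (.leaf (nat_lit 35846) [nat_lit 240, nat_lit 336, nat_lit 264]) (.leaf (nat_lit 33797) [nat_lit 168, nat_lit 336, nat_lit 144]))
noncomputable def r60 : WT := (.node (nat_lit 9) (.leaf (nat_lit 34821) [nat_lit 216, nat_lit 336, nat_lit 192]) (.leaf (nat_lit 32773) [nat_lit 120, nat_lit 336, nat_lit 96]))
noncomputable def r61 : WT := (.node (nat_lit 11) (.leaf (nat_lit 34822) [nat_lit 192, nat_lit 336, nat_lit 216]) (.leaf (nat_lit 33798) [nat_lit 144, nat_lit 336, nat_lit 168]))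
noncomputable def r62 : WT := (.node (nat_lit 17) (.leaf (nat_lit 44051) [nat_lit 408, nat_lit 336, nat_lit 408, nat_lit 360, nat_lit 384, nat_lit 336, nat_lit 408, nat_lit 360, nat_lit 408, nat_lit 336, nat_lit 384]) (.leaf (nat_lit 45070) [nat_lit 408, nat_lit 360, nat_lit 384, nat_lit 336, nat_lit 384, nat_lit 336, nat_lit 384, nat_lit 360, nat_lit 408]))
noncomputable def r63 : WT := (.node (nat_lit 13) (.leaf (nat_lit 31749) [nat_lit 72, nat_lit 336, nat_lit 48]) (.node (nat_lit 14) (.leaf (nat_lit 32774) [nat_lit 96, nat_lit 336, nat_lit 120]) (.node (nat_lit 15) (.leaf (nat_lit 45074) [nat_lit 384, nat_lit 336, nat_lit 384, nat_lit 336, nat_lit 384, nat_lit 360, nat_lit 408, nat_lit 360, nat_lit 408]) (.node (nat_lit 16) (.leaf (nat_lit 45066) [nat_lit 408, nat_lit 360, nat_lit 408, nat_lit 360, nat_lit 384, nat_lit 336, nat_lit 384, nat_lit 336, nat_lit 384]) r62))))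
noncomputable def w13 : WT := (.node (nat_lit 1) (.leaf (nat_lit 6146) [nat_lit 336]) (.node (nat_lit 6) (.node (nat_lit 3) (.node (nat_lit 2) (.leaf (nat_lit 29697) [nat_lit 360, nat_lit 360]) (.leaf (nat_lit 31750) [nat_lit 48, nat_lit 336, nat_lit 72])) (.node (nat_lit 4) (.leaf (nat_lit 35845) [nat_lit 264, nat_lit 336, nat_lit 240]) r58)) (.node (nat_lit 10) (.node (nat_lit 8) r59 r60) (.node (nat_lit 12) r61 r63))))
noncomputable def r64 : WT := (.node (nat_lit 3) (.leaf (nat_lit 43022) [nat_lit 48, nat_lit 120, nat_lit 48, nat_lit 384, nat_lit 72, nat_lit 96, nat_lit 72]) (.leaf (nat_lit 39946) [nat_lit 192, nat_lit 408, nat_lit 192, nat_lit 384, nat_lit 216]))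
noncomputable def r65 : WT := (.node (nat_lit 5) (.leaf (nat_lit 37898) [nat_lit 48, nat_lit 408, nat_lit 48, nat_lit 384, nat_lit 72]) (.leaf (nat_lit 41994) [nat_lit 288, nat_lit 408, nat_lit 288, nat_lit 384, nat_lit 312]))
noncomputable def r66 : WT := (.node (nat_lit 7) (.leaf (nat_lit 38922) [nat_lit 144, nat_lit 408, nat_lit 144, nat_lit 384, nat_lit 168]) (.node (nat_lit 8) (.leaf (nat_lit 40970) [nat_lit 240, nat_lit 408, nat_lit 240, nat_lit 384, nat_lit 264]) (.leaf (nat_lit 43014) [nat_lit 72, nat_lit 96, nat_lit 72, nat_lit 384, nat_lit 48, nat_lit 120, nat_lit 48])))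
noncomputable def r67 : WT := (.node (nat_lit 10) (.leaf (nat_lit 37897) [nat_lit 72, nat_lit 408, nat_lit 48, nat_lit 408, nat_lit 72]) (.node (nat_lit 11) (.leaf (nat_lit 38918) [nat_lit 168, nat_lit 384, nat_lit 144, nat_lit 408, nat_lit 144]) (.leaf (nat_lit 39942) [nat_lit 216, nat_lit 384, nat_lit 192, nat_lit 408, nat_lit 192])))
noncomputable def r68 : WT := (.node (nat_lit 14) (.node (nat_lit 13) (.leaf (nat_lit 39945) [nat_lit 216, nat_lit 408, nat_lit 192, nat_lit 408, nat_lit 216]) (.leaf (nat_lit 38921) [nat_lit 168, nat_lit 408, nat_lit 144, nat_lit 408, nat_lit 168])) (.node (nat_lit 15) (.leaf (nat_lit 37894) [nat_lit 72, nat_lit 384, nat_lit 48, nat_lit 408, nat_lit 48]) (.node (nat_lit 16) (.leaf (nat_lit 45064) [nat_lit 360, nat_lit 408, nat_lit 360, nat_lit 408, nat_lit 360, nat_lit 384, nat_lit 336, nat_lit 384, nat_lit 336]) (.leaf (nat_lit 41990) [nat_lit 312, nat_lit 384, nat_lit 288, nat_lit 408, nat_lit 288]))))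
noncomputable def r69 : WT := (.node (nat_lit 24) (.leaf (nat_lit 45060) [nat_lit 336, nat_lit 384, nat_lit 360, nat_lit 408, nat_lit 360, nat_lit 408, nat_lit 360, nat_lit 384, nat_lit 336]) (.leaf (nat_lit 45063) [nat_lit 336, nat_lit 408, nat_lit 360, nat_lit 408, nat_lit 360, nat_lit 408, nat_lit 336, nat_lit 384, nat_lit 336]))
noncomputable def r70 : WT := (.node (nat_lit 26) (.leaf (nat_lit 45059) [nat_lit 336, nat_lit 384, nat_lit 336, nat_lit 408, nat_lit 360, nat_lit 408, nat_lit 360, nat_lit 408, nat_lit 336]) (.node (nat_lit 27) (.leaf (nat_lit 44034) [nat_lit 336, nat_lit 408, nat_lit 360, nat_lit 384, nat_lit 336, nat_lit 384, nat_lit 360, nat_lit 408, nat_lit 336, nat_lit 384, nat_lit 360]) (.leaf (nat_lit 44049) [nat_lit 360, nat_lit 408, nat_lit 336, nat_lit 408, nat_lit 360, nat_lit 384, nat_lit 336, nat_lit 408, nat_lit 360, nat_lit 408, nat_lit 336])))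
noncomputable def r71 : WT := (.node (nat_lit 19) (.node (nat_lit 18) (.leaf (nat_lit 40966) [nat_lit 264, nat_lit 384, nat_lit 240, nat_lit 408, nat_lit 240]) (.leaf (nat_lit 41993) [nat_lit 312, nat_lit 408, nat_lit 288, nat_lit 408, nat_lit 312])) (.node (nat_lit 21) (.node (nat_lit 20) (.leaf (nat_lit 40969) [nat_lit 264, nat_lit 408, nat_lit 240, nat_lit 408, nat_lit 264]) (.leaf (nat_lit 44042) [nat_lit 336, nat_lit 384, nat_lit 360, nat_lit 408, nat_lit 336, nat_lit 384, nat_lit 360, nat_lit 384, nat_lit 336, nat_lit 408, nat_lit 360])) (.node (nat_lit 23) (.node (nat_lit 22) (.leaf (nat_lit 44046) [nat_lit 360, nat_lit 408, nat_lit 336, nat_lit 384, nat_lit 360, nat_lit 384, nat_lit 336, nat_lit 408, nat_lit 360, nat_lit 384, nat_lit 336]) (.leaf (nat_lit 45056) [nat_lit 336, nat_lit 384, nat_lit 336, nat_lit 384, nat_lit 360, nat_lit 408, nat_lit 360, nat_lit 408, nat_lit 360])) (.node (nat_lit 25) r69 r70))))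
noncomputable def w14 : WT := (.node (nat_lit 1) (.leaf (nat_lit 7168) [nat_lit 408]) (.node (nat_lit 6) (.node (nat_lit 2) (.leaf (nat_lit 30720) [nat_lit 384, nat_lit 384]) (.node (nat_lit 4) r64 r65)) (.node (nat_lit 12) (.node (nat_lit 9) r66 r67) (.node (nat_lit 17) r68 r71))))
noncomputable def r72 : WT := (.node (nat_lit 4) (.leaf (nat_lit 38914) [nat_lit 144, nat_lit 384, nat_lit 168, nat_lit 384, nat_lit 144]) (.leaf (nat_lit 40962) [nat_lit 240, nat_lit 384, nat_lit 264, nat_lit 384, nat_lit 240]))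
noncomputable def r73 : WT := (.node (nat_lit 6) (.leaf (nat_lit 41986) [nat_lit 288, nat_lit 384, nat_lit 312, nat_lit 384, nat_lit 288]) (.leaf (nat_lit 39938) [nat_lit 192, nat_lit 384, nat_lit 216, nat_lit 384, nat_lit 192]))
noncomputable def r74 : WT := (.node (nat_lit 8) (.leaf (nat_lit 39937) [nat_lit 192, nat_lit 408, nat_lit 216, nat_lit 384, nat_lit 216]) (.leaf (nat_lit 38913) [nat_lit 144, nat_lit 408, nat_lit 168, nat_lit 384, nat_lit 168]))
noncomputable def r75 : WT := (.node (nat_lit 10) (.leaf (nat_lit 40961) [nat_lit 240, nat_lit 408, nat_lit 264, nat_lit 384, nat_lit 264]) (.node (nat_lit 11) (.leaf (nat_lit 41985) [nat_lit 288, nat_lit 408, nat_lit 312, nat_lit 384, nat_lit 312]) (.leaf (nat_lit 43017) [nat_lit 72, nat_lit 96, nat_lit 72, nat_lit 408, nat_lit 48, nat_lit 120, nat_lit 48])))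
noncomputable def r76 : WT := (.node (nat_lit 18) (.leaf (nat_lit 45075) [nat_lit 336, nat_lit 384, nat_lit 336, nat_lit 384, nat_lit 336, nat_lit 408, nat_lit 360, nat_lit 408, nat_lit 360]) (.leaf (nat_lit 38917) [nat_lit 168, nat_lit 384, nat_lit 168, nat_lit 408, nat_lit 144]))
noncomputable def r77 : WT := (.node (nat_lit 20) (.leaf (nat_lit 37893) [nat_lit 72, nat_lit 384, nat_lit 72, nat_lit 408, nat_lit 48]) (.leaf (nat_lit 39941) [nat_lit 216, nat_lit 384, nat_lit 216, nat_lit 408, nat_lit 192]))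
noncomputable def r78 : WT := (.node (nat_lit 23) (.node (nat_lit 22) (.leaf (nat_lit 41989) [nat_lit 312, nat_lit 384, nat_lit 312, nat_lit 408, nat_lit 288]) (.leaf (nat_lit 45072) [nat_lit 360, nat_lit 384, nat_lit 336, nat_lit 384, nat_lit 336, nat_lit 384, nat_lit 360, nat_lit 408, nat_lit 360])) (.node (nat_lit 24) (.leaf (nat_lit 40965) [nat_lit 264, nat_lit 384, nat_lit 264, nat_lit 408, nat_lit 240]) (.leaf (nat_lit 44041) [nat_lit 360, nat_lit 408, nat_lit 336, nat_lit 384, nat_lit 360, nat_lit 408, nat_lit 336, nat_lit 408, nat_lit 360, nat_lit 384, nat_lit 336])))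
noncomputable def r79 : WT := (.node (nat_lit 14) (.node (nat_lit 13) (.leaf (nat_lit 37889) [nat_lit 48, nat_lit 408, nat_lit 72, nat_lit 384, nat_lit 72]) (.leaf (nat_lit 43009) [nat_lit 48, nat_lit 120, nat_lit 48, nat_lit 408, nat_lit 72, nat_lit 96, nat_lit 72])) (.node (nat_lit 16) (.node (nat_lit 15) (.leaf (nat_lit 45067) [nat_lit 360, nat_lit 408, nat_lit 360, nat_lit 408, nat_lit 336, nat_lit 384, nat_lit 336, nat_lit 384, nat_lit 336]) (.leaf (nat_lit 45068) [nat_lit 360, nat_lit 408, nat_lit 360, nat_lit 384, nat_lit 336, nat_lit 384, nat_lit 336, nat_lit 384, nat_lit 360])) (.node (nat_lit 19) (.node (nat_lit 17) (.leaf (nat_lit 45071) [nat_lit 360, nat_lit 408, nat_lit 336, nat_lit 384, nat_lit 336, nat_lit 384, nat_lit 336, nat_lit 408, nat_lit 360]) r76) (.node (nat_lit 21) r77 r78))))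
noncomputable def w15 : WT := (.node (nat_lit 1) (.leaf (nat_lit 7170) [nat_lit 384]) (.node (nat_lit 5) (.node (nat_lit 2) (.leaf (nat_lit 30721) [nat_lit 408, nat_lit 408]) (.node (nat_lit 3) (.leaf (nat_lit 37890) [nat_lit 48, nat_lit 384, nat_lit 72, nat_lit 384, nat_lit 48]) r72)) (.node (nat_lit 9) (.node (nat_lit 7) r73 r74) (.node (nat_lit 12) r75 r79))))
noncomputable def r80 : WT := (.node (nat_lit 6) (.leaf (nat_lit 37895) [nat_lit 72, nat_lit 384, nat_lit 72, nat_lit 408, nat_lit 48, nat_lit 408]) (.leaf (nat_lit 14346) [nat_lit 96, nat_lit 48, nat_lit 120, nat_lit 48, nat_lit 96, nat_lit 72]))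
noncomputable def r81 : WT := (.node (nat_lit 8) (.leaf (nat_lit 16385) [nat_lit 168, nat_lit 48, nat_lit 120, nat_lit 48, nat_lit 168, nat_lit 72, nat_lit 96, nat_lit 72]) (.node (nat_lit 9) (.leaf (nat_lit 14343) [nat_lit 72, nat_lit 96, nat_lit 72, nat_lit 120, nat_lit 48, nat_lit 120]) (.leaf (nat_lit 18443) [nat_lit 168, nat_lit 216, nat_lit 144, nat_lit 216, nat_lit 168, nat_lit 192])))
noncomputable def r82 : WT := (.node (nat_lit 12) (.node (nat_lit 11) (.leaf (nat_lit 45057) [nat_lit 336, nat_lit 384, nat_lit 336, nat_lit 384, nat_lit 336, nat_lit 408, nat_lit 360, nat_lit 408, nat_lit 360, nat_lit 408]) (.leaf (nat_lit 21515) [nat_lit 168, nat_lit 264, nat_lit 144, nat_lit 264, nat_lit 168, nat_lit 240])) (.node (nat_lit 13) (.leaf (nat_lit 24580) [nat_lit 48, nat_lit 288, nat_lit 72, nat_lit 288, nat_lit 48, nat_lit 312]) (.leaf (nat_lit 25611) [nat_lit 168, nat_lit 312, nat_lit 144, nat_lit 312, nat_lit 168, nat_lit 288])))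
noncomputable def r83 : WT := (.node (nat_lit 16) (.node (nat_lit 15) (.leaf (nat_lit 37896) [nat_lit 72, nat_lit 384, nat_lit 48, nat_lit 408, nat_lit 48, nat_lit 384]) (.leaf (nat_lit 19457) [nat_lit 216, nat_lit 48, nat_lit 120, nat_lit 48, nat_lit 216, nat_lit 72, nat_lit 96, nat_lit 72])) (.node (nat_lit 17) (.leaf (nat_lit 45070) [nat_lit 360, nat_lit 408, nat_lit 360, nat_lit 384, nat_lit 336, nat_lit 384, nat_lit 336, nat_lit 384, nat_lit 360, nat_lit 408]) (.leaf (nat_lit 30720) [nat_lit 384, nat_lit 384, nat_lit 384])))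
noncomputable def r84 : WT := (.node (nat_lit 20) (.node (nat_lit 19) (.leaf (nat_lit 14347) [nat_lit 72, nat_lit 120, nat_lit 48, nat_lit 120, nat_lit 72, nat_lit 96]) (.leaf (nat_lit 22539) [nat_lit 216, nat_lit 264, nat_lit 192, nat_lit 264, nat_lit 216, nat_lit 240])) (.node (nat_lit 21) (.leaf (nat_lit 37894) [nat_lit 384, nat_lit 72, nat_lit 384, nat_lit 48, nat_lit 408, nat_lit 48]) (.node (nat_lit 22) (.leaf (nat_lit 19459) [nat_lit 48, nat_lit 120, nat_lit 48, nat_lit 216, nat_lit 72, nat_lit 96, nat_lit 72, nat_lit 216]) (.leaf (nat_lit 19471) [nat_lit 72, nat_lit 216, nat_lit 48, nat_lit 120, nat_lit 48, nat_lit 216, nat_lit 72, nat_lit 96]))))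
noncomputable def r85 : WT := (.node (nat_lit 26) (.node (nat_lit 24) (.leaf (nat_lit 26635) [nat_lit 216, nat_lit 312, nat_lit 192, nat_lit 312, nat_lit 216, nat_lit 288]) (.node (nat_lit 25) (.leaf (nat_lit 23555) [nat_lit 48, nat_lit 120, nat_lit 48, nat_lit 264, nat_lit 72, nat_lit 96, nat_lit 72, nat_lit 264]) (.leaf (nat_lit 16387) [nat_lit 48, nat_lit 120, nat_lit 48, nat_lit 168, nat_lit 72, nat_lit 96, nat_lit 72, nat_lit 168]))) (.node (nat_lit 27) (.leaf (nat_lit 15366) [nat_lit 144, nat_lit 72, nat_lit 144, nat_lit 48, nat_lit 168, nat_lit 48]) (.node (nat_lit 28) (.leaf (nat_lit 38920) [nat_lit 168, nat_lit 384, nat_lit 144, nat_lit 408, nat_lit 144, nat_lit 384]) (.leaf (nat_lit 39945) [nat_lit 384, nat_lit 216, nat_lit 408, nat_lit 192, nat_lit 408, nat_lit 216]))))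
noncomputable def r86 : WT := (.node (nat_lit 32) (.node (nat_lit 30) (.leaf (nat_lit 38918) [nat_lit 384, nat_lit 168, nat_lit 384, nat_lit 144, nat_lit 408, nat_lit 144]) (.node (nat_lit 31) (.leaf (nat_lit 23567) [nat_lit 72, nat_lit 264, nat_lit 48, nat_lit 120, nat_lit 48, nat_lit 264, nat_lit 72, nat_lit 96]) (.leaf (nat_lit 37897) [nat_lit 384, nat_lit 72, nat_lit 408, nat_lit 48, nat_lit 408, nat_lit 72]))) (.node (nat_lit 34) (.node (nat_lit 33) (.leaf (nat_lit 28682) [nat_lit 96, nat_lit 72, nat_lit 288, nat_lit 48, nat_lit 120, nat_lit 48, nat_lit 288, nat_lit 72]) (.leaf (nat_lit 38921) [nat_lit 384, nat_lit 168, nat_lit 408, nat_lit 144, nat_lit 408, nat_lit 168])) (.node (nat_lit 35) (.leaf (nat_lit 23553) [nat_lit 264, nat_lit 48, nat_lit 120, nat_lit 48, nat_lit 264, nat_lit 72, nat_lit 96, nat_lit 72]) (.leaf (nat_lit 40969) [nat_lit 384, nat_lit 264, nat_lit 408, nat_lit 240, nat_lit 408, nat_lit 264]))))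
noncomputable def r87 : WT := (.node (nat_lit 40) (.node (nat_lit 38) (.node (nat_lit 37) (.leaf (nat_lit 39944) [nat_lit 216, nat_lit 384, nat_lit 192, nat_lit 408, nat_lit 192, nat_lit 384]) (.leaf (nat_lit 27659) [nat_lit 264, nat_lit 312, nat_lit 240, nat_lit 312, nat_lit 264, nat_lit 288])) (.node (nat_lit 39) (.leaf (nat_lit 28675) [nat_lit 48, nat_lit 120, nat_lit 48, nat_lit 312, nat_lit 72, nat_lit 96, nat_lit 72, nat_lit 312]) (.leaf (nat_lit 16390) [nat_lit 144, nat_lit 72, nat_lit 96, nat_lit 72, nat_lit 144, nat_lit 48, nat_lit 120, nat_lit 48]))) (.node (nat_lit 42) (.node (nat_lit 41) (.leaf (nat_lit 28687) [nat_lit 72, nat_lit 312, nat_lit 48, nat_lit 120, nat_lit 48, nat_lit 312, nat_lit 72, nat_lit 96]) (.leaf (nat_lit 20483) [nat_lit 48, nat_lit 264, nat_lit 72, nat_lit 240, nat_lit 72, nat_lit 264])) (.node (nat_lit 43) (.leaf (nat_lit 20484) [nat_lit 48, nat_lit 240, nat_lit 72, nat_lit 240, nat_lit 48, nat_lit 264]) (.leaf (nat_lit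 17411) [nat_lit 48, nat_lit 216, nat_lit 72, nat_lit 192, nat_lit 72, nat_lit 216]))))
noncomputable def r88 : WT := (.node (nat_lit 50) (.node (nat_lit 46) (.node (nat_lit 45) (.leaf (nat_lit 17414) [nat_lit 192, nat_lit 72, nat_lit 192, nat_lit 48, nat_lit 216, nat_lit 48]) (.leaf (nat_lit 16399) [nat_lit 72, nat_lit 168, nat_lit 48, nat_lit 120, nat_lit 48, nat_lit 168, nat_lit 72, nat_lit 96])) (.node (nat_lit 48) (.node (nat_lit 47) (.leaf (nat_lit 23556) [nat_lit 48, nat_lit 240, nat_lit 72, nat_lit 96, nat_lit 72, nat_lit 240, nat_lit 48, nat_lit 120]) (.leaf (nat_lit 12288) [nat_lit 240, nat_lit 240, nat_lit 240])) (.node (nat_lit 49) (.leaf (nat_lit 19470) [nat_lit 192, nat_lit 48, nat_lit 120, nat_lit 48, nat_lit 192, nat_lit 72, nat_lit 96, nat_lit 72]) (.leaf (nat_lit 40966) [nat_lit 384, nat_lit 264, nat_lit 384, nat_lit 240, nat_lit 408, nat_lit 240])))) (.node (nat_lit 53) (.node (nat_lit 51) (.leaf (nat_lit 19468) [nat_lit 72, nat_lit 192,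 nat_lit 48, nat_lit 120, nat_lit 48, nat_lit 192, nat_lit 72, nat_lit 96]) (.node (nat_lit 52) (.leaf (nat_lit 23558) [nat_lit 240, nat_lit 72, nat_lit 96, nat_lit 72, nat_lit 240, nat_lit 48, nat_lit 120, nat_lit 48]) (.leaf (nat_lit 23564) [nat_lit 72, nat_lit 240, nat_lit 48, nat_lit 120, nat_lit 48, nat_lit 240, nat_lit 72, nat_lit 96]))) (.node (nat_lit 55) (.node (nat_lit 54) (.leaf (nat_lit 23566) [nat_lit 240, nat_lit 48, nat_lit 120, nat_lit 48, nat_lit 240, nat_lit 72, nat_lit 96, nat_lit 72]) (.leaf (nat_lit 28676) [nat_lit 48, nat_lit 288, nat_lit 72, nat_lit 96, nat_lit 72, nat_lit 288, nat_lit 48, nat_lit 120])) (.node (nat_lit 56) (.leaf (nat_lit 28684) [nat_lit 72, nat_lit 288, nat_lit 48, nat_lit 120, nat_lit 48, nat_lit 288, nat_lit 72, nat_lit 96]) (.leaf (nat_lit 28686) [nat_lit 288, nat_lit 48, nat_lit 120, nat_lit 48, nat_lit 288, nat_lit 72, nat_lit 96, nat_lit 72])))))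
noncomputable def r89 : WT := (.node (nat_lit 64) (.node (nat_lit 60) (.node (nat_lit 58) (.leaf (nat_lit 28681) [nat_lit 312, nat_lit 72, nat_lit 96, nat_lit 72, nat_lit 312, nat_lit 48, nat_lit 120, nat_lit 48]) (.node (nat_lit 59) (.leaf (nat_lit 43012) [nat_lit 48, nat_lit 384, nat_lit 72, nat_lit 96, nat_lit 72, nat_lit 384, nat_lit 48, nat_lit 120]) (.leaf (nat_lit 43018) [nat_lit 96, nat_lit 72, nat_lit 384, nat_lit 48, nat_lit 120, nat_lit 48, nat_lit 384, nat_lit 72]))) (.node (nat_lit 62) (.node (nat_lit 61) (.leaf (nat_lit 43019) [nat_lit 72, nat_lit 96, nat_lit 72, nat_lit 408, nat_lit 48, nat_lit 120, nat_lit 48, nat_lit 408]) (.leaf (nat_lit 11265) [nat_lit 216, nat_lit 216, nat_lit 216])) (.node (nat_lit 63) (.leaf (nat_lit 10240) [nat_lit 144, nat_lit 144, nat_lit 144]) (.leaf (nat_lit 13313) [nat_lit 312, nat_lit 312, nat_lit 312])))) (.node (nat_lit 68) (.node (nat_lit 66) (.node (nat_lit 65) (.leaf (nat_lit 15363) [nat_lit 48, nat_lit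 168, nat_lit 72, nat_lit 144, nat_lit 72, nat_lit 168]) (.leaf (nat_lit 17412) [nat_lit 48, nat_lit 192, nat_lit 72, nat_lit 192, nat_lit 48, nat_lit 216])) (.node (nat_lit 67) (.leaf (nat_lit 20486) [nat_lit 240, nat_lit 72, nat_lit 240, nat_lit 48, nat_lit 264, nat_lit 48]) (.leaf (nat_lit 14345) [nat_lit 96, nat_lit 72, nat_lit 120, nat_lit 48, nat_lit 120, nat_lit 72]))) (.node (nat_lit 70) (.node (nat_lit 69) (.leaf (nat_lit 14340) [nat_lit 48, nat_lit 96, nat_lit 72, nat_lit 96, nat_lit 48, nat_lit 120]) (.leaf (nat_lit 24579) [nat_lit 48, nat_lit 312, nat_lit 72, nat_lit 288, nat_lit 72, nat_lit 312])) (.node (nat_lit 71) (.leaf (nat_lit 24583) [nat_lit 72, nat_lit 288, nat_lit 72, nat_lit 312, nat_lit 48, nat_lit 312]) (.leaf (nat_lit 30721) [nat_lit 408, nat_lit 408, nat_lit 408])))))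
noncomputable def r90 : WT := (.node (nat_lit 79) (.node (nat_lit 75) (.node (nat_lit 73) (.leaf (nat_lit 37892) [nat_lit 48, nat_lit 384, nat_lit 72, nat_lit 384, nat_lit 48, nat_lit 408]) (.node (nat_lit 74) (.leaf (nat_lit 37898) [nat_lit 384, nat_lit 48, nat_lit 408, nat_lit 48, nat_lit 384, nat_lit 72]) (.leaf (nat_lit 37889) [nat_lit 408, nat_lit 48, nat_lit 408, nat_lit 72, nat_lit 384, nat_lit 72]))) (.node (nat_lit 77) (.node (nat_lit 76) (.leaf (nat_lit 19462) [nat_lit 192, nat_lit 72, nat_lit 96, nat_lit 72, nat_lit 192, nat_lit 48, nat_lit 120, nat_lit 48]) (.leaf (nat_lit 38916) [nat_lit 144, nat_lit 384, nat_lit 168, nat_lit 384, nat_lit 144, nat_lit 408])) (.node (nat_lit 78) (.leaf (nat_lit 38922) [nat_lit 384, nat_lit 144, nat_lit 408, nat_lit 144, nat_lit 384, nat_lit 168]) (.leaf (nat_lit 39940) [nat_lit 192, nat_lit 384, nat_lit 216, nat_lit 384, nat_lit 192, nat_lit 408])))) (.node (nat_lit 83) (.node (nat_lit 81) (.node (nat_lit 80)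 (.leaf (nat_lit 39942) [nat_lit 384, nat_lit 216, nat_lit 384, nat_lit 192, nat_lit 408, nat_lit 192]) (.leaf (nat_lit 39946) [nat_lit 384, nat_lit 192, nat_lit 408, nat_lit 192, nat_lit 384, nat_lit 216])) (.node (nat_lit 82) (.leaf (nat_lit 40964) [nat_lit 240, nat_lit 384, nat_lit 264, nat_lit 384, nat_lit 240, nat_lit 408]) (.leaf (nat_lit 41988) [nat_lit 288, nat_lit 384, nat_lit 312, nat_lit 384, nat_lit 288, nat_lit 408]))) (.node (nat_lit 85) (.node (nat_lit 84) (.leaf (nat_lit 41989) [nat_lit 408, nat_lit 312, nat_lit 384, nat_lit 312, nat_lit 408, nat_lit 288]) (.leaf (nat_lit 41993) [nat_lit 384, nat_lit 312, nat_lit 408, nat_lit 288, nat_lit 408, nat_lit 312])) (.node (nat_lit 86) (.leaf (nat_lit 16396) [nat_lit 72, nat_lit 144, nat_lit 48, nat_lit 120, nat_lit 48, nat_lit 144, nat_lit 72, nat_lit 96]) (.leaf (nat_lit 12289) [nat_lit 264, nat_lit 264, nat_lit 264])))))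
noncomputable def wP : WT := (.node (nat_lit 14) (.node (nat_lit 4) (.node (nat_lit 2) (.node (nat_lit 1) (.leaf (nat_lit 9217) [nat_lit 120, nat_lit 120, nat_lit 120]) (.leaf (nat_lit 14339) [nat_lit 48, nat_lit 120, nat_lit 72, nat_lit 96, nat_lit 72, nat_lit 120])) (.node (nat_lit 3) (.leaf (nat_lit 9216) [nat_lit 96, nat_lit 96, nat_lit 96]) (.leaf (nat_lit 14336) [nat_lit 48, nat_lit 120, nat_lit 48, nat_lit 96, nat_lit 72, nat_lit 96]))) (.node (nat_lit 7) (.node (nat_lit 5) (.leaf (nat_lit 14337) [nat_lit 120, nat_lit 48, nat_lit 120, nat_lit 72, nat_lit 96, nat_lit 72]) r80) (.node (nat_lit 10) r81 r82))) (.node (nat_lit 36) (.node (nat_lit 23) (.node (nat_lit 18) r83 r84) (.node (nat_lit 29) r85 r86)) (.node (nat_lit 57) (.node (nat_lit 44) r87 r88) (.node (nat_lit 72) r89 r90))))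
noncomputable def P : Par := ⟨tb, nat_lit 432, nat_lit 0xffffffffffffffffffffffffffffffffffffffffffffffffffffffffffffffffffffffffffffffffffffffffffffffffffffffffffff, nat_lit 11387, nat_lit 16777215, nat_lit 16383, nat_lit 24, nat_lit 14, nat_lit 990,
  [nat_lit 48, nat_lit 72, nat_lit 96, nat_lit 120, nat_lit 144, nat_lit 168, nat_lit 192, nat_lit 216, nat_lit 240, nat_lit 264, nat_lit 288, nat_lit 312, nat_lit 336, nat_lit 360, nat_lit 384, nat_lit 408], [nat_lit 48, nat_lit 96, nat_lit 144, nat_lit 192, nat_lit 240, nat_lit 288], wP,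
  (.cons (nat_lit 48) w0 (.cons (nat_lit 72) w1 (.cons (nat_lit 96) w2 (.cons (nat_lit 120) w3 (.cons (nat_lit 144) w4 (.cons (nat_lit 168) w5 (.cons (nat_lit 192) w6 (.cons (nat_lit 216) w7 (.cons (nat_lit 240) w8 (.cons (nat_lit 264) w9 (.cons (nat_lit 288) w10 (.cons (nat_lit 312) w11 (.cons (nat_lit 336) w12 (.cons (nat_lit 360) w13 (.cons (nat_lit 384) w14 (.cons (nat_lit 408) w15 .nil)))))))))))))))),
  .nil⟩

end Cfsg.Agent.Lib.TCLyH4
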