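import Cfsg.Agent.Lib.TCM241D0

set_option autoImplicit false
set_option maxRecDepth 100000

namespace Cfsg.Agent.Lib.TCM241
open Cfsg.Agent.Lib.TCCore

noncomputable def tb : T := (.node (nat_lit 77) l0 l1)
noncomputable def w0 : WT := (.leaf (nat_lit 0) [nat_lit 26])
noncomputable def r0 : WT := (.leaf (nat_lit 13326) [nat_lit 26, nat_lit 52, nat_lit 26, nat_lit 52, nat_lit 26, nat_lit 52, nat_lit 130, nat_lit 39, nat_lit 26, nat_lit 39, nat_lit 26, nat_lit 39, nat_lit 26])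
noncomputable def r1 : WT := (.node (nat_lit 4) (.leaf (nat_lit 11270) [nat_lit 26, nat_lit 39, nat_lit 104, nat_lit 52, nat_lit 26]) r0)
noncomputable def r2 : WT := (.leaf (nat_lit 15374) [nat_lit 26, nat_lit 39, nat_lit 26, nat_lit 39, nat_lit 26, nat_lit 52, nat_lit 156, nat_lit 39, nat_lit 26, nat_lit 52, nat_lit 26, nat_lit 52, nat_lit 26])
noncomputable def r3 : WT := (.leaf (nat_lit 19474) [nat_lit 26, nat_lit 52, nat_lit 26, nat_lit 39, nat_lit 26, nat_lit 52, nat_lit 26, nat_lit 52, nat_lit 208, nat_lit 39, nat_lit 26, nat_lit 39, nat_lit 26, nat_lit 52, nat_lit 26, nat_lit 39, nat_lit 26])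
noncomputable def r4 : WT := (.leaf (nat_lit 21522) [nat_lit 26, nat_lit 39, nat_lit 26, nat_lit 39, nat_lit 26, nat_lit 52, nat_lit 26, nat_lit 52, nat_lit 234, nat_lit 39, nat_lit 26, nat_lit 39, nat_lit 26, nat_lit 52, nat_lit 26, nat_lit 52, nat_lit 26])
noncomputable def r5 : WT := (.leaf (nat_lit 3074) [nat_lit 26, nat_lit 39, nat_lit 26, nat_lit 39, nat_lit 26, nat_lit 39, nat_lit 26, nat_lit 39, nat_lit 26, nat_lit 39, nat_lit 26, nat_lit 39, nat_lit 26, nat_lit 39, nat_lit 26, nat_lit 39, nat_lit 26, nat_lit 39, nat_lit 26, nat_lit 39, nat_lit 26, nat_lit 39, nat_lit 26, nat_lit 39, nat_lit 26, nat_lit 39, nat_lit 26, nat_lit 39, nat_lit 26, nat_lit 39, nat_lit 26, nat_lit 39, nat_lit 26, nat_lit 39, nat_lit 26, nat_lit 39, nat_lit 26, nat_lit 39, nat_lit 26, nat_lit 39, nat_lit 26, nat_lit 39, nat_lit 26, nat_lit 39, nat_lit 26])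
noncomputable def r6 : WT := (.leaf (nat_lit 6146) [nat_lit 26, nat_lit 39, nat_lit 26, nat_lit 52, nat_lit 26, nat_lit 39, nat_lit 26, nat_lit 52, nat_lit 26, nat_lit 39, nat_lit 26, nat_lit 52, nat_lit 26, nat_lit 39, nat_lit 26, nat_lit 39, nat_lit 26, nat_lit 52, nat_lit 26, nat_lit 39, nat_lit 26, nat_lit 52, nat_lit 26, nat_lit 39, nat_lit 26, nat_lit 52, nat_lit 26, nat_lit 39, nat_lit 26, nat_lit 39, nat_lit 26, nat_lit 52, nat_lit 26, nat_lit 39, nat_lit 26, nat_lit 52, nat_lit 26, nat_lit 39, nat_lit 26, nat_lit 52, nat_lit 26, nat_lit 39, nat_lit 26, nat_lit 39, nat_lit 26, nat_lit 52, nat_lit 26, nat_lit 39, nat_lit 26, nat_lit 52, nat_lit 26, nat_lit 39, nat_lit 26, nat_lit 52, nat_lit 26])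
noncomputable def r7 : WT := (.node (nat_lit 9) r5 r6)
noncomputable def w1 : WT := (.node (nat_lit 1) (.leaf (nat_lit 1024) [nat_lit 52]) (.node (nat_lit 5) (.node (nat_lit 2) (.leaf (nat_lit 2048) [nat_lit 39, nat_lit 39]) (.node (nat_lit 3) (.leaf (nat_lit 9220) [nat_lit 26, nat_lit 78, nat_lit 26]) r1)) (.node (nat_lit 7) (.node (nat_lit 6) r2 r3) (.node (nat_lit 8) r4 r7))))
noncomputable def r8 : WT := (.leaf (nat_lit 17426) [nat_lit 26, nat_lit 52, nat_lit 26, nat_lit 39, nat_lit 26, nat_lit 52, nat_lit 182, nat_lit 39, nat_lit 26, nat_lit 52, nat_lit 26, nat_lit 39, nat_lit 26, nat_lit 52, nat_lit 26])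
noncomputable def r9 : WT := (.leaf (nat_lit 7210) [nat_lit 26, nat_lit 52, nat_lit 26, nat_lit 39, nat_lit 26, nat_lit 52, nat_lit 26, nat_lit 52, nat_lit 26, nat_lit 39, nat_lit 26, nat_lit 52, nat_lit 26, nat_lit 52, nat_lit 26, nat_lit 39, nat_lit 26, nat_lit 39, nat_lit 26, nat_lit 52, nat_lit 26, nat_lit 39, nat_lit 26, nat_lit 39, nat_lit 26, nat_lit 52, nat_lit 26, nat_lit 39, nat_lit 26, nat_lit 39, nat_lit 26, nat_lit 52, nat_lit 26, nat_lit 39, nat_lit 26])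
noncomputable def r10 : WT := (.leaf (nat_lit 4098) [nat_lit 26, nat_lit 39, nat_lit 26, nat_lit 52, nat_lit 26, nat_lit 39, nat_lit 26, nat_lit 52, nat_lit 26, nat_lit 39, nat_lit 26, nat_lit 52, nat_lit 26, nat_lit 39, nat_lit 26, nat_lit 52, nat_lit 26, nat_lit 39, nat_lit 26, nat_lit 52, nat_lit 26, nat_lit 39, nat_lit 26, nat_lit 52, nat_lit 26, nat_lit 39, nat_lit 26, nat_lit 52, nat_lit 26, nat_lit 39, nat_lit 26, nat_lit 52, nat_lit 26, nat_lit 39, nat_lit 26, nat_lit 52, nat_lit 26, nat_lit 39, nat_lit 26, nat_lit 52, nat_lit 26, nat_lit 39, nat_lit 26, nat_lit 52, nat_lit 26, nat_lit 39, nat_lit 26])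
noncomputable def w2 : WT := (.node (nat_lit 1) (.leaf (nat_lit 1026) [nat_lit 39]) (.node (nat_lit 2) r8 (.node (nat_lit 3) r9 r10)))
noncomputable def w3 : WT := (.leaf (nat_lit 8192) [nat_lit 78])
noncomputable def w4 : WT := (.leaf (nat_lit 8194) [nat_lit 65])
noncomputable def w5 : WT := (.leaf (nat_lit 10240) [nat_lit 104])
noncomputable def w6 : WT := (.leaf (nat_lit 10242) [nat_lit 91])
noncomputable def w7 : WT := (.leaf (nat_lit 12288) [nat_lit 130])
noncomputable def w8 : WT := (.leaf (nat_lit 12290) [nat_lit 117])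
noncomputable def w9 : WT := (.leaf (nat_lit 14336) [nat_lit 156])
noncomputable def w10 : WT := (.leaf (nat_lit 14338) [nat_lit 143])
noncomputable def w11 : WT := (.leaf (nat_lit 16384) [nat_lit 182])
noncomputable def w12 : WT := (.leaf (nat_lit 16386) [nat_lit 169])
noncomputable def w13 : WT := (.leaf (nat_lit 18432) [nat_lit 208])
noncomputable def w14 : WT := (.leaf (nat_lit 18434) [nat_lit 195])
noncomputable def w15 : WT := (.leaf (nat_lit 20480) [nat_lit 234])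
noncomputable def w16 : WT := (.leaf (nat_lit 20482) [nat_lit 221])
noncomputable def r11 : WT := (.leaf (nat_lit 5130) [nat_lit 39, nat_lit 26, nat_lit 39, nat_lit 26, nat_lit 52, nat_lit 26, nat_lit 52, nat_lit 26, nat_lit 39, nat_lit 26, nat_lit 39, nat_lit 26, nat_lit 52, nat_lit 26, nat_lit 52, nat_lit 26, nat_lit 39, nat_lit 26, nat_lit 39, nat_lit 26, nat_lit 52, nat_lit 26, nat_lit 52, nat_lit 26, nat_lit 39, nat_lit 26, nat_lit 39, nat_lit 26, nat_lit 52, nat_lit 26, nat_lit 52, nat_lit 26, nat_lit 39, nat_lit 26, nat_lit 39, nat_lit 26, nat_lit 52, nat_lit 26, nat_lit 52, nat_lit 26])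
noncomputable def wP : WT := (.node (nat_lit 1) (.leaf (nat_lit 2048) [nat_lit 39, nat_lit 39, nat_lit 39]) (.node (nat_lit 2) (.leaf (nat_lit 2049) [nat_lit 52, nat_lit 52, nat_lit 52]) r11))
noncomputable def P : Par := ⟨tb, nat_lit 247, nat_lit 0x7fffffffffffffffffffffffffffffffffffffffffffffffffffffffffffff, nat_lit 104, nat_lit 8191, nat_lit 127, nat_lit 13, nat_lit 7, nat_lit 24,
  [nat_lit 26, nat_lit 39, nat_lit 52, nat_lit 65, nat_lit 78, nat_lit 91, nat_lit 104, nat_lit 117, nat_lit 130, nat_lit 143, nat_lit 156, nat_lit 169, nat_lit 182, nat_lit 195, nat_lit 208, nat_lit 221, nat_lit 234], [nat_lit 65, nat_lit 91, nat_lit 117, nat_lit 143, nat_lit 169, nat_lit 195, nat_lit 221], wP,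
  (.cons (nat_lit 26) w0 (.cons (nat_lit 39) w1 (.cons (nat_lit 52) w2 .nil))),
  (.cons (nat_lit 65) w3 (.cons (nat_lit 78) w4 (.cons (nat_lit 91) w5 (.cons (nat_lit 104) w6 (.cons (nat_lit 117) w7 (.cons (nat_lit 130) w8 (.cons (nat_lit 143) w9 (.cons (nat_lit 156) w10 (.cons (nat_lit 169) w11 (.cons (nat_lit 182) w12 (.cons (nat_lit 195) w13 (.cons (nat_lit 208) w14 (.cons (nat_lit 221) w15 (.cons (nat_lit 234) w16 .nil))))))))))))))⟩

end Cfsg.Agent.Lib.TCM241
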