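import Cfsg.Agent.Lib.TCM242D0

set_option autoImplicit false
set_option maxRecDepth 100000

namespace Cfsg.Agent.Lib.TCM242
open Cfsg.Agent.Lib.TCCore

noncomputable def n0 : T := (.node (nat_lit 176) (.node (nat_lit 88) (.node (nat_lit 44) l0 l1) (.node (nat_lit 132) l2 l3)) (.node (nat_lit 264) (.node (nat_lit 220) l4 l5) (.node (nat_lit 308) l6 (.node (nat_lit 352) l7 l8))))
noncomputable def n1 : T := (.node (nat_lit 572) (.node (nat_lit 484) (.node (nat_lit 440) l9 l10) (.node (nat_lit 528) l11 l12)) (.node (nat_lit 660) (.node (nat_lit 616) l13 l14) (.node (nat_lit 704) l15 (.node (nat_lit 748) l16 l17))))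
noncomputable def n2 : T := (.node (nat_lit 968) (.node (nat_lit 880) (.node (nat_lit 836) l18 l19) (.node (nat_lit 924) l20 l21)) (.node (nat_lit 1056) (.node (nat_lit 1012) l22 l23) (.node (nat_lit 1100) l24 (.node (nat_lit 1144) l25 l26))))
noncomputable def n3 : T := (.node (nat_lit 1364) (.node (nat_lit 1276) (.node (nat_lit 1232) l27 l28) (.node (nat_lit 1320) l29 l30)) (.node (nat_lit 1452) (.node (nat_lit 1408) l31 l32) (.node (nat_lit 1496) l33 (.node (nat_lit 1540) l34 l35))))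
noncomputable def n4 : T := (.node (nat_lit 1760) (.node (nat_lit 1672) (.node (nat_lit 1628) l36 l37) (.node (nat_lit 1716) l38 l39)) (.node (nat_lit 1848) (.node (nat_lit 1804) l40 l41) (.node (nat_lit 1892) l42 (.node (nat_lit 1936) l43 l44))))
noncomputable def n5 : T := (.node (nat_lit 2156) (.node (nat_lit 2068) (.node (nat_lit 2024) l45 l46) (.node (nat_lit 2112) l47 l48)) (.node (nat_lit 2244) (.node (nat_lit 2200) l49 l50) (.node (nat_lit 2288) l51 (.node (nat_lit 2332) l52 l53))))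
noncomputable def n6 : T := (.node (nat_lit 2552) (.node (nat_lit 2464) (.node (nat_lit 2420) l54 l55) (.node (nat_lit 2508) l56 l57)) (.node (nat_lit 2640) (.node (nat_lit 2596) l58 l59) (.node (nat_lit 2684) l60 (.node (nat_lit 2728) l61 l62))))
noncomputable def n7 : T := (.node (nat_lit 2948) (.node (nat_lit 2860) (.node (nat_lit 2816) l63 l64) (.node (nat_lit 2904) l65 l66)) (.node (nat_lit 3036) (.node (nat_lit 2992) l67 l68) (.node (nat_lit 3080) l69 (.node (nat_lit 3124) l70 l71))))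
noncomputable def n8 : T := (.node (nat_lit 3344) (.node (nat_lit 3256) (.node (nat_lit 3212) l72 l73) (.node (nat_lit 3300) l74 l75)) (.node (nat_lit 3432) (.node (nat_lit 3388) l76 l77) (.node (nat_lit 3476) l78 (.node (nat_lit 3520) l79 l80))))
noncomputable def n9 : T := (.node (nat_lit 3740) (.node (nat_lit 3652) (.node (nat_lit 3608) l81 l82) (.node (nat_lit 3696) l83 l84)) (.node (nat_lit 3828) (.node (nat_lit 3784) l85 l86) (.node (nat_lit 3872) l87 (.node (nat_lit 3916) l88 l89))))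
noncomputable def n10 : T := (.node (nat_lit 4136) (.node (nat_lit 4048) (.node (nat_lit 4004) l90 l91) (.node (nat_lit 4092) l92 l93)) (.node (nat_lit 4224) (.node (nat_lit 4180) l94 l95) (.node (nat_lit 4268) l96 (.node (nat_lit 4312) l97 l98))))
noncomputable def n11 : T := (.node (nat_lit 4532) (.node (nat_lit 4444) (.node (nat_lit 4400) l99 l100) (.node (nat_lit 4488) l101 l102)) (.node (nat_lit 4620) (.node (nat_lit 4576) l103 l104) (.node (nat_lit 4664) l105 (.node (nat_lit 4708) l106 l107))))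
noncomputable def n12 : T := (.node (nat_lit 4928) (.node (nat_lit 4840) (.node (nat_lit 4796) l108 l109) (.node (nat_lit 4884) l110 l111)) (.node (nat_lit 5016) (.node (nat_lit 4972) l112 l113) (.node (nat_lit 5060) l114 (.node (nat_lit 5104) l115 l116))))
noncomputable def n13 : T := (.node (nat_lit 5324) (.node (nat_lit 5236) (.node (nat_lit 5192) l117 l118) (.node (nat_lit 5280) l119 l120)) (.node (nat_lit 5412) (.node (nat_lit 5368) l121 l122) (.node (nat_lit 5456) l123 (.node (nat_lit 5500) l124 l125))))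
noncomputable def n14 : T := (.node (nat_lit 5720) (.node (nat_lit 5632) (.node (nat_lit 5588) l126 l127) (.node (nat_lit 5676) l128 l129)) (.node (nat_lit 5808) (.node (nat_lit 5764) l130 l131) (.node (nat_lit 5852) l132 (.node (nat_lit 5896) l133 l134))))
noncomputable def n15 : T := (.node (nat_lit 6116) (.node (nat_lit 6028) (.node (nat_lit 5984) l135 l136) (.node (nat_lit 6072) l137 l138)) (.node (nat_lit 6204) (.node (nat_lit 6160) l139 l140) (.node (nat_lit 6248) l141 (.node (nat_lit 6292) l142 l143))))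
noncomputable def n16 : T := (.node (nat_lit 6512) (.node (nat_lit 6424) (.node (nat_lit 6380) l144 l145) (.node (nat_lit 6468) l146 l147)) (.node (nat_lit 6600) (.node (nat_lit 6556) l148 l149) (.node (nat_lit 6644) l150 (.node (nat_lit 6688) l151 l152))))
noncomputable def n17 : T := (.node (nat_lit 6908) (.node (nat_lit 6820) (.node (nat_lit 6776) l153 l154) (.node (nat_lit 6864) l155 l156)) (.node (nat_lit 6996) (.node (nat_lit 6952) l157 l158) (.node (nat_lit 7040) l159 (.node (nat_lit 7084) l160 l161))))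
noncomputable def n18 : T := (.node (nat_lit 7304) (.node (nat_lit 7216) (.node (nat_lit 7172) l162 l163) (.node (nat_lit 7260) l164 l165)) (.node (nat_lit 7392) (.node (nat_lit 7348) l166 l167) (.node (nat_lit 7436) l168 (.node (nat_lit 7480) l169 l170))))
noncomputable def n19 : T := (.node (nat_lit 7700) (.node (nat_lit 7612) (.node (nat_lit 7568) l171 l172) (.node (nat_lit 7656) l173 l174)) (.node (nat_lit 7788) (.node (nat_lit 7744) l175 l176) (.node (nat_lit 7832) l177 (.node (nat_lit 7876) l178 l179))))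
noncomputable def n20 : T := (.node (nat_lit 8096) (.node (nat_lit 8008) (.node (nat_lit 7964) l180 l181) (.node (nat_lit 8052) l182 l183)) (.node (nat_lit 8184) (.node (nat_lit 8140) l184 l185) (.node (nat_lit 8228) l186 (.node (nat_lit 8272) l187 l188))))
noncomputable def n21 : T := (.node (nat_lit 8492) (.node (nat_lit 8404) (.node (nat_lit 8360) l189 l190) (.node (nat_lit 8448) l191 l192)) (.node (nat_lit 8580) (.node (nat_lit 8536) l193 l194) (.node (nat_lit 8624) l195 (.node (nat_lit 8668) l196 l197))))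
noncomputable def n22 : T := (.node (nat_lit 8888) (.node (nat_lit 8800) (.node (nat_lit 8756) l198 l199) (.node (nat_lit 8844) l200 l201)) (.node (nat_lit 8976) (.node (nat_lit 8932) l202 l203) (.node (nat_lit 9020) l204 (.node (nat_lit 9064) l205 l206))))
noncomputable def n23 : T := (.node (nat_lit 9284) (.node (nat_lit 9196) (.node (nat_lit 9152) l207 l208) (.node (nat_lit 9240) l209 l210)) (.node (nat_lit 9372) (.node (nat_lit 9328) l211 l212) (.node (nat_lit 9416) l213 (.node (nat_lit 9460) l214 l215))))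
noncomputable def n24 : T := (.node (nat_lit 9680) (.node (nat_lit 9592) (.node (nat_lit 9548) l216 l217) (.node (nat_lit 9636) l218 l219)) (.node (nat_lit 9768) (.node (nat_lit 9724) l220 l221) (.node (nat_lit 9812) l222 (.node (nat_lit 9856) l223 l224))))
noncomputable def n25 : T := (.node (nat_lit 10076) (.node (nat_lit 9988) (.node (nat_lit 9944) l225 l226) (.node (nat_lit 10032) l227 l228)) (.node (nat_lit 10164) (.node (nat_lit 10120) l229 l230) (.node (nat_lit 10208) l231 (.node (nat_lit 10252) l232 l233))))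
noncomputable def n26 : T := (.node (nat_lit 10472) (.node (nat_lit 10384) (.node (nat_lit 10340) l234 l235) (.node (nat_lit 10428) l236 l237)) (.node (nat_lit 10560) (.node (nat_lit 10516) l238 l239) (.node (nat_lit 10604) l240 (.node (nat_lit 10648) l241 l242))))
noncomputable def n27 : T := (.node (nat_lit 10868) (.node (nat_lit 10780) (.node (nat_lit 10736) l243 l244) (.node (nat_lit 10824) l245 l246)) (.node (nat_lit 10956) (.node (nat_lit 10912) l247 l248) (.node (nat_lit 11000) l249 (.node (nat_lit 11044) l250 l251))))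
noncomputable def n28 : T := (.node (nat_lit 11264) (.node (nat_lit 11176) (.node (nat_lit 11132) l252 l253) (.node (nat_lit 11220) l254 l255)) (.node (nat_lit 11352) (.node (nat_lit 11308) l256 l257) (.node (nat_lit 11396) l258 (.node (nat_lit 11440) l259 l260))))
noncomputable def n29 : T := (.node (nat_lit 11660) (.node (nat_lit 11572) (.node (nat_lit 11528) l261 l262) (.node (nat_lit 11616) l263 l264)) (.node (nat_lit 11748) (.node (nat_lit 11704) l265 l266) (.node (nat_lit 11792) l267 (.node (nat_lit 11836) l268 l269))))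
noncomputable def n30 : T := (.node (nat_lit 12056) (.node (nat_lit 11968) (.node (nat_lit 11924) l270 l271) (.node (nat_lit 12012) l272 l273)) (.node (nat_lit 12144) (.node (nat_lit 12100) l274 l275) (.node (nat_lit 12188) l276 (.node (nat_lit 12232) l277 l278))))
noncomputable def n31 : T := (.node (nat_lit 12452) (.node (nat_lit 12364) (.node (nat_lit 12320) l279 l280) (.node (nat_lit 12408) l281 l282)) (.node (nat_lit 12540) (.node (nat_lit 12496) l283 l284) (.node (nat_lit 12584) l285 (.node (nat_lit 12628) l286 l287))))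
noncomputable def tb : T := (.node (nat_lit 6336) (.node (nat_lit 3168) (.node (nat_lit 1584) (.node (nat_lit 792) (.node (nat_lit 396) n0 n1) (.node (nat_lit 1188) n2 n3)) (.node (nat_lit 2376) (.node (nat_lit 1980) n4 n5) (.node (nat_lit 2772) n6 n7))) (.node (nat_lit 4752) (.node (nat_lit 3960) (.node (nat_lit 3564) n8 n9) (.node (nat_lit 4356) n10 n11)) (.node (nat_lit 5544) (.node (nat_lit 5148) n12 n13) (.node (nat_lit 5940) n14 n15)))) (.node (nat_lit 9504) (.node (nat_lit 7920) (.node (nat_lit 7128) (.node (nat_lit 6732) n16 n17) (.node (nat_lit 7524) n18 n19)) (.node (nat_lit 8712) (.node (nat_lit 8316) n20 n21) (.node (nat_lit 9108) n22 n23))) (.node (nat_lit 11088) (.node (nat_lit 10296) (.node (nat_lit 9900) n24 n25) (.node (nat_lit 10692) n26 n27)) (.node (nat_lit 11880) (.node (nat_lit 11484) n28 n29) (.node (nat_lit 12276) n30 n31)))))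
noncomputable def r0 : WT := (.node (nat_lit 6) (.leaf (nat_lit 28672) [nat_lit 96, nat_lit 312, nat_lit 360, nat_lit 144, nat_lit 192, nat_lit 264, nat_lit 264]) (.leaf (nat_lit 18432) [nat_lit 96, nat_lit 72, nat_lit 312, nat_lit 48, nat_lit 120]))
noncomputable def r1 : WT := (.node (nat_lit 8) (.leaf (nat_lit 25600) [nat_lit 144, nat_lit 288, nat_lit 336, nat_lit 264, nat_lit 192, nat_lit 96]) (.leaf (nat_lit 18440) [nat_lit 120, nat_lit 48, nat_lit 96, nat_lit 72, nat_lit 312]))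
noncomputable def r2 : WT := (.node (nat_lit 10) (.leaf (nat_lit 18439) [nat_lit 120, nat_lit 72, nat_lit 96, nat_lit 72, nat_lit 288]) (.node (nat_lit 11) (.leaf (nat_lit 34816) [nat_lit 96, nat_lit 240, nat_lit 240, nat_lit 216, nat_lit 264, nat_lit 264, nat_lit 72, nat_lit 240, nat_lit 240]) (.leaf (nat_lit 34821) [nat_lit 240, nat_lit 240, nat_lit 192, nat_lit 264, nat_lit 264, nat_lit 120, nat_lit 72, nat_lit 264, nat_lit 264])))
noncomputable def r3 : WT := (.node (nat_lit 21) (.leaf (nat_lit 33792) [nat_lit 120, nat_lit 48, nat_lit 120, nat_lit 48, nat_lit 120, nat_lit 48, nat_lit 120, nat_lit 48, nat_lit 120]) (.leaf (nat_lit 23552) [nat_lit 96, nat_lit 72, nat_lit 192, nat_lit 240, nat_lit 240, nat_lit 120]))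
noncomputable def r4 : WT := (.node (nat_lit 15) (.node (nat_lit 13) (.leaf (nat_lit 29696) [nat_lit 96, nat_lit 336, nat_lit 288, nat_lit 48, nat_lit 96, nat_lit 336, nat_lit 288]) (.node (nat_lit 14) (.leaf (nat_lit 24576) [nat_lit 240, nat_lit 216, nat_lit 264, nat_lit 264, nat_lit 264, nat_lit 216]) (.leaf (nat_lit 23561) [nat_lit 120, nat_lit 72, nat_lit 96, nat_lit 264, nat_lit 264, nat_lit 216]))) (.node (nat_lit 17) (.node (nat_lit 16) (.leaf (nat_lit 19456) [nat_lit 96, nat_lit 240, nat_lit 216, nat_lit 264, nat_lit 120]) (.leaf (nat_lit 35855) [nat_lit 120, nat_lit 72, nat_lit 240, nat_lit 216, nat_lit 168, nat_lit 192, nat_lit 264, nat_lit 264, nat_lit 264])) (.node (nat_lit 19) (.node (nat_lit 18) (.leaf (nat_lit 35840) [nat_lit 96, nat_lit 72, nat_lit 240, nat_lit 240, nat_lit 240, nat_lit 216, nat_lit 144, nat_lit 192, nat_lit 264]) (.leaf (nat_lit 37888) [nat_lit 96, nat_lit 168, nat_lit 336, nat_lit 288, nat_lit 360, nat_lit 144, nat_lit 240, nat_lit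 240, nat_lit 216])) (.node (nat_lit 20) (.leaf (nat_lit 30720) [nat_lit 96, nat_lit 288, nat_lit 120, nat_lit 48, nat_lit 96, nat_lit 288, nat_lit 120]) r3))))
noncomputable def w0 : WT := (.node (nat_lit 1) (.leaf (nat_lit 0) [nat_lit 72]) (.node (nat_lit 5) (.node (nat_lit 3) (.node (nat_lit 2) (.leaf (nat_lit 7168) [nat_lit 48, nat_lit 48]) (.leaf (nat_lit 16384) [nat_lit 192, nat_lit 288, nat_lit 144, nat_lit 360])) (.node (nat_lit 4) (.leaf (nat_lit 14336) [nat_lit 264, nat_lit 264, nat_lit 168, nat_lit 216]) (.leaf (nat_lit 15360) [nat_lit 264, nat_lit 264, nat_lit 216, nat_lit 312]))) (.node (nat_lit 9) (.node (nat_lit 7) r0 r1) (.node (nat_lit 12) r2 r4))))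
noncomputable def r5 : WT := (.node (nat_lit 5) (.leaf (nat_lit 24589) [nat_lit 192, nat_lit 240, nat_lit 240, nat_lit 240, nat_lit 192, nat_lit 264]) (.leaf (nat_lit 18436) [nat_lit 312, nat_lit 48, nat_lit 120, nat_lit 48, nat_lit 96]))
noncomputable def r6 : WT := (.node (nat_lit 7) (.leaf (nat_lit 18443) [nat_lit 96, nat_lit 72, nat_lit 288, nat_lit 48, nat_lit 120]) (.leaf (nat_lit 25613) [nat_lit 120, nat_lit 216, nat_lit 240, nat_lit 360, nat_lit 312, nat_lit 168]))
noncomputable def r7 : WT := (.node (nat_lit 10) (.node (nat_lit 9) (.leaf (nat_lit 15369) [nat_lit 288, nat_lit 192, nat_lit 240, nat_lit 240]) (.leaf (nat_lit 18435) [nat_lit 288, nat_lit 48, nat_lit 120, nat_lit 72, nat_lit 96])) (.node (nat_lit 11) (.leaf (nat_lit 28687) [nat_lit 240, nat_lit 240, nat_lit 216, nat_lit 168, nat_lit 336, nat_lit 288, nat_lit 120]) (.leaf (nat_lit 34830) [nat_lit 240, nat_lit 240, nat_lit 48, nat_lit 96, nat_lit 240, nat_lit 240, nat_lit 216, nat_lit 264, nat_lit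 264])))
noncomputable def r8 : WT := (.node (nat_lit 21) (.leaf (nat_lit 30727) [nat_lit 96, nat_lit 312, nat_lit 120, nat_lit 72, nat_lit 96, nat_lit 312, nat_lit 120]) (.leaf (nat_lit 23565) [nat_lit 96, nat_lit 264, nat_lit 264, nat_lit 216, nat_lit 48, nat_lit 120]))
noncomputable def r9 : WT := (.node (nat_lit 15) (.node (nat_lit 13) (.leaf (nat_lit 34835) [nat_lit 264, nat_lit 264, nat_lit 48, nat_lit 240, nat_lit 240, nat_lit 192, nat_lit 264, nat_lit 264, nat_lit 120]) (.node (nat_lit 14) (.leaf (nat_lit 19467) [nat_lit 96, nat_lit 240, nat_lit 192, nat_lit 264, nat_lit 120]) (.leaf (nat_lit 29703) [nat_lit 312, nat_lit 360, nat_lit 120, nat_lit 72, nat_lit 312, nat_lit 360, nat_lit 120]))) (.node (nat_lit 17) (.node (nat_lit 16) (.leaf (nat_lit 23556) [nat_lit 192, nat_lit 240, nat_lit 240, nat_lit 120, nat_lit 48, nat_lit 96]) (.leaf (nat_lit 37907) [nat_lit 192, nat_lit 264, nat_lit 264, nat_lit 168, nat_lit 336, nat_lit 312, nat_lit 360, nat_lit 144,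 nat_lit 120])) (.node (nat_lit 19) (.node (nat_lit 18) (.leaf (nat_lit 33795) [nat_lit 96, nat_lit 72, nat_lit 96, nat_lit 72, nat_lit 96, nat_lit 72, nat_lit 96, nat_lit 72, nat_lit 96]) (.leaf (nat_lit 35844) [nat_lit 240, nat_lit 240, nat_lit 240, nat_lit 216, nat_lit 144, nat_lit 192, nat_lit 264, nat_lit 48, nat_lit 96])) (.node (nat_lit 20) (.leaf (nat_lit 35859) [nat_lit 240, nat_lit 216, nat_lit 168, nat_lit 192, nat_lit 264, nat_lit 264, nat_lit 264, nat_lit 48, nat_lit 120]) r8))))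
noncomputable def w1 : WT := (.node (nat_lit 1) (.leaf (nat_lit 2) [nat_lit 48]) (.node (nat_lit 4) (.node (nat_lit 2) (.leaf (nat_lit 7169) [nat_lit 72, nat_lit 72]) (.node (nat_lit 3) (.leaf (nat_lit 14345) [nat_lit 192, nat_lit 144, nat_lit 240, nat_lit 240]) (.leaf (nat_lit 16393) [nat_lit 336, nat_lit 168, nat_lit 312, nat_lit 216]))) (.node (nat_lit 8) (.node (nat_lit 6) r5 r6) (.node (nat_lit 12) r7 r9))))
noncomputable def r10 : WT := (.node (nat_lit 4) (.leaf (nat_lit 20480) [nat_lit 168, nat_lit 312, nat_lit 360, nat_lit 288, nat_lit 144]) (.leaf (nat_lit 22528) [nat_lit 264, nat_lit 264, nat_lit 264, nat_lit 216, nat_lit 264, nat_lit 144]))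
noncomputable def r11 : WT := (.node (nat_lit 6) (.leaf (nat_lit 18433) [nat_lit 72, nat_lit 288, nat_lit 48, nat_lit 120, nat_lit 72]) (.leaf (nat_lit 21504) [nat_lit 336, nat_lit 312, nat_lit 360, nat_lit 288, nat_lit 360]))
noncomputable def r12 : WT := (.node (nat_lit 8) (.leaf (nat_lit 32768) [nat_lit 312, nat_lit 336, nat_lit 288, nat_lit 96, nat_lit 312, nat_lit 336, nat_lit 288]) (.leaf (nat_lit 18434) [nat_lit 72, nat_lit 312, nat_lit 48, nat_lit 120, nat_lit 48]))
noncomputable def r13 : WT := (.node (nat_lit 10) (.leaf (nat_lit 25612) [nat_lit 48, nat_lit 144, nat_lit 288, nat_lit 336, nat_lit 264, nat_lit 192]) (.node (nat_lit 11) (.leaf (nat_lit 19458) [nat_lit 240, nat_lit 216, nat_lit 264, nat_lit 120, nat_lit 48]) (.leaf (nat_lit 28674) [nat_lit 312, nat_lit 360, nat_lit 144, nat_lit 192, nat_lit 264, nat_lit 264, nat_lit 48])))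
noncomputable def r14 : WT := (.node (nat_lit 21) (.leaf (nat_lit 35842) [nat_lit 72, nat_lit 240, nat_lit 240, nat_lit 240, nat_lit 216, nat_lit 144, nat_lit 192, nat_lit 264, nat_lit 48]) (.leaf (nat_lit 23554) [nat_lit 72, nat_lit 192, nat_lit 240, nat_lit 240, nat_lit 120, nat_lit 48]))
noncomputable def r15 : WT := (.node (nat_lit 15) (.node (nat_lit 13) (.leaf (nat_lit 19457) [nat_lit 240, nat_lit 192, nat_lit 264, nat_lit 120, nat_lit 72]) (.node (nat_lit 14) (.leaf (nat_lit 29698) [nat_lit 336, nat_lit 288, nat_lit 48, nat_lit 96, nat_lit 336, nat_lit 288, nat_lit 48]) (.leaf (nat_lit 30722) [nat_lit 288, nat_lit 120, nat_lit 48, nat_lit 96, nat_lit 288, nat_lit 120, nat_lit 48]))) (.node (nat_lit 17) (.node (nat_lit 16) (.leaf (nat_lit 23553) [nat_lit 264, nat_lit 264, nat_lit 216, nat_lit 48, nat_lit 120, nat_lit 72]) (.leaf (nat_lit 30721) [nat_lit 312, nat_lit 120, nat_lit 72, nat_lit 96, nat_lit 312, nat_lit 120, nat_lit 72])) (.node (nat_lit 19) (.node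 (nat_lit 18) (.leaf (nat_lit 34818) [nat_lit 240, nat_lit 240, nat_lit 216, nat_lit 264, nat_lit 264, nat_lit 72, nat_lit 240, nat_lit 240, nat_lit 48]) (.leaf (nat_lit 37890) [nat_lit 168, nat_lit 336, nat_lit 288, nat_lit 360, nat_lit 144, nat_lit 240, nat_lit 240, nat_lit 216, nat_lit 48])) (.node (nat_lit 20) (.leaf (nat_lit 33793) [nat_lit 72, nat_lit 96, nat_lit 72, nat_lit 96, nat_lit 72, nat_lit 96, nat_lit 72, nat_lit 96, nat_lit 72]) r14))))
noncomputable def w2 : WT := (.node (nat_lit 1) (.leaf (nat_lit 1024) [nat_lit 120]) (.node (nat_lit 5) (.node (nat_lit 2) (.leaf (nat_lit 8192) [nat_lit 96, nat_lit 96]) (.node (nat_lit 3) (.leaf (nat_lit 17408) [nat_lit 168, nat_lit 360, nat_lit 168, nat_lit 360]) r10)) (.node (nat_lit 9) (.node (nat_lit 7) r11 r12) (.node (nat_lit 12) r13 r15))))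
noncomputable def r16 : WT := (.node (nat_lit 4) (.leaf (nat_lit 18442) [nat_lit 48, nat_lit 96, nat_lit 72, nat_lit 312, nat_lit 48]) (.leaf (nat_lit 19466) [nat_lit 48, nat_lit 96, nat_lit 240, nat_lit 216, nat_lit 264]))
noncomputable def r17 : WT := (.node (nat_lit 6) (.leaf (nat_lit 22541) [nat_lit 168, nat_lit 240, nat_lit 192, nat_lit 240, nat_lit 240, nat_lit 240]) (.leaf (nat_lit 21515) [nat_lit 336, nat_lit 312, nat_lit 336, nat_lit 288, nat_lit 360]))
noncomputable def r18 : WT := (.node (nat_lit 8) (.leaf (nat_lit 20491) [nat_lit 168, nat_lit 312, nat_lit 336, nat_lit 288, nat_lit 144]) (.leaf (nat_lit 25601) [nat_lit 216, nat_lit 240, nat_lit 360, nat_lit 312, nat_lit 168, nat_lit 72]))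
noncomputable def r19 : WT := (.node (nat_lit 11) (.node (nat_lit 10) (.leaf (nat_lit 28685) [nat_lit 72, nat_lit 240, nat_lit 240, nat_lit 216, nat_lit 168, nat_lit 336, nat_lit 288]) (.leaf (nat_lit 18441) [nat_lit 72, nat_lit 96, nat_lit 72, nat_lit 288, nat_lit 48])) (.node (nat_lit 12) (.leaf (nat_lit 30725) [nat_lit 72, nat_lit 96, nat_lit 312, nat_lit 120, nat_lit 72, nat_lit 96, nat_lit 312]) (.leaf (nat_lit 32775) [nat_lit 312, nat_lit 360, nat_lit 288, nat_lit 120, nat_lit 312, nat_lit 360, nat_lit 288])))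
noncomputable def r20 : WT := (.node (nat_lit 21) (.leaf (nat_lit 35857) [nat_lit 72, nat_lit 240, nat_lit 216, nat_lit 168, nat_lit 192, nat_lit 264, nat_lit 264, nat_lit 264, nat_lit 48]) (.leaf (nat_lit 23563) [nat_lit 72, nat_lit 96, nat_lit 264, nat_lit 264, nat_lit 216, nat_lit 48]))
noncomputable def r21 : WT := (.node (nat_lit 15) (.node (nat_lit 14) (.leaf (nat_lit 19465) [nat_lit 72, nat_lit 96, nat_lit 240, nat_lit 192, nat_lit 264]) (.leaf (nat_lit 29701) [nat_lit 72, nat_lit 312, nat_lit 360, nat_lit 120, nat_lit 72, nat_lit 312, nat_lit 360])) (.node (nat_lit 17) (.node (nat_lit 16) (.leaf (nat_lit 30726) [nat_lit 48, nat_lit 96, nat_lit 288, nat_lit 120, nat_lit 48, nat_lit 96, nat_lit 288]) (.leaf (nat_lit 23564) [nat_lit 48, nat_lit 96, nat_lit 72, nat_lit 192, nat_lit 240, nat_lit 240])) (.node (nat_lit 19) (.node (nat_lit 18) (.leaf (nat_lit 33794) [nat_lit 48, nat_lit 120, nat_lit 48, nat_lit 120, nat_lit 48, nat_lit 120, nat_lit 48, nat_lit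 120, nat_lit 48]) (.leaf (nat_lit 34833) [nat_lit 72, nat_lit 264, nat_lit 264, nat_lit 48, nat_lit 240, nat_lit 240, nat_lit 192, nat_lit 264, nat_lit 264])) (.node (nat_lit 20) (.leaf (nat_lit 37905) [nat_lit 72, nat_lit 192, nat_lit 264, nat_lit 264, nat_lit 168, nat_lit 336, nat_lit 312, nat_lit 360, nat_lit 144]) r20))))
noncomputable def w3 : WT := (.node (nat_lit 1) (.leaf (nat_lit 1026) [nat_lit 96]) (.node (nat_lit 5) (.node (nat_lit 2) (.leaf (nat_lit 8193) [nat_lit 120, nat_lit 120]) (.node (nat_lit 3) (.leaf (nat_lit 17417) [nat_lit 336, nat_lit 144, nat_lit 336, nat_lit 144]) r16)) (.node (nat_lit 9) (.node (nat_lit 7) r17 r18) (.node (nat_lit 13) r19 r21))))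
noncomputable def r22 : WT := (.node (nat_lit 4) (.leaf (nat_lit 16390) [nat_lit 360, nat_lit 48, nat_lit 192, nat_lit 288]) (.leaf (nat_lit 17411) [nat_lit 336, nat_lit 144, nat_lit 120, nat_lit 336]))
noncomputable def r23 : WT := (.node (nat_lit 6) (.leaf (nat_lit 22540) [nat_lit 96, nat_lit 264, nat_lit 264, nat_lit 264, nat_lit 216, nat_lit 264]) (.leaf (nat_lit 17415) [nat_lit 120, nat_lit 336, nat_lit 144, nat_lit 336]))
noncomputable def r24 : WT := (.node (nat_lit 8) (.leaf (nat_lit 20490) [nat_lit 96, nat_lit 168, nat_lit 312, nat_lit 360, nat_lit 288]) (.leaf (nat_lit 28680) [nat_lit 192, nat_lit 264, nat_lit 264, nat_lit 48, nat_lit 96, nat_lit 312, nat_lit 360]))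
noncomputable def r25 : WT := (.node (nat_lit 10) (.leaf (nat_lit 14339) [nat_lit 240, nat_lit 240, nat_lit 72, nat_lit 192]) (.node (nat_lit 11) (.leaf (nat_lit 25602) [nat_lit 288, nat_lit 336, nat_lit 264, nat_lit 192, nat_lit 96, nat_lit 48]) (.leaf (nat_lit 35854) [nat_lit 192, nat_lit 264, nat_lit 48, nat_lit 96, nat_lit 72, nat_lit 240, nat_lit 240, nat_lit 240, nat_lit 216])))
noncomputable def r26 : WT := (.node (nat_lit 21) (.leaf (nat_lit 26624) [nat_lit 336, nat_lit 144, nat_lit 336, nat_lit 312, nat_lit 360, nat_lit 288]) (.leaf (nat_lit 26628) [nat_lit 336, nat_lit 312, nat_lit 360, nat_lit 288, nat_lit 144, nat_lit 336]))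
noncomputable def r27 : WT := (.node (nat_lit 15) (.node (nat_lit 13) (.leaf (nat_lit 27648) [nat_lit 240, nat_lit 240, nat_lit 240, nat_lit 216, nat_lit 264, nat_lit 264, nat_lit 264]) (.node (nat_lit 14) (.leaf (nat_lit 31747) [nat_lit 216, nat_lit 168, nat_lit 360, nat_lit 144, nat_lit 216, nat_lit 168, nat_lit 360]) (.leaf (nat_lit 20489) [nat_lit 120, nat_lit 168, nat_lit 312, nat_lit 336, nat_lit 288]))) (.node (nat_lit 17) (.node (nat_lit 16) (.leaf (nat_lit 31744) [nat_lit 192, nat_lit 168, nat_lit 336, nat_lit 144, nat_lit 192, nat_lit 168, nat_lit 336]) (.leaf (nat_lit 37900) [nat_lit 240, nat_lit 240, nat_lit 216, nat_lit 48, nat_lit 96, nat_lit 168, nat_lit 336, nat_lit 288, nat_lit 360])) (.node (nat_lit 19) (.node (nat_lit 18) (.leaf (nat_lit 37903) [nat_lit 120, nat_lit 72, nat_lit 192, nat_lit 264, nat_lit 264, nat_lit 168, nat_lit 336, nat_lit 312, nat_lit 360]) (.leaf (nat_lit 38917) [nat_lit 336, nat_lit 288, nat_lit 192, nat_lit 264, nat_lit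 264, nat_lit 216, nat_lit 168, nat_lit 312, nat_lit 360])) (.node (nat_lit 20) (.leaf (nat_lit 38912) [nat_lit 192, nat_lit 240, nat_lit 240, nat_lit 216, nat_lit 312, nat_lit 360, nat_lit 168, nat_lit 336, nat_lit 288]) r26))))
noncomputable def w4 : WT := (.node (nat_lit 1) (.leaf (nat_lit 2048) [nat_lit 168]) (.node (nat_lit 5) (.node (nat_lit 2) (.leaf (nat_lit 10240) [nat_lit 144, nat_lit 144]) (.node (nat_lit 3) (.leaf (nat_lit 13312) [nat_lit 216, nat_lit 312, nat_lit 192]) r22)) (.node (nat_lit 9) (.node (nat_lit 7) r23 r24) (.node (nat_lit 12) r25 r27))))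
noncomputable def r28 : WT := (.node (nat_lit 4) (.leaf (nat_lit 16387) [nat_lit 312, nat_lit 216, nat_lit 72, nat_lit 336]) (.leaf (nat_lit 14342) [nat_lit 216, nat_lit 48, nat_lit 264, nat_lit 264]))
noncomputable def r29 : WT := (.node (nat_lit 6) (.leaf (nat_lit 17410) [nat_lit 360, nat_lit 168, nat_lit 360, nat_lit 96]) (.leaf (nat_lit 17414) [nat_lit 360, nat_lit 96, nat_lit 168, nat_lit 360]))
noncomputable def r30 : WT := (.node (nat_lit 8) (.leaf (nat_lit 22529) [nat_lit 240, nat_lit 192, nat_lit 240, nat_lit 240, nat_lit 240, nat_lit 120]) (.leaf (nat_lit 25611) [nat_lit 72, nat_lit 120, nat_lit 216, nat_lit 240, nat_lit 360, nat_lit 312]))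
noncomputable def r31 : WT := (.node (nat_lit 10) (.leaf (nat_lit 28679) [nat_lit 336, nat_lit 288, nat_lit 120, nat_lit 72, nat_lit 240, nat_lit 240, nat_lit 216]) (.node (nat_lit 11) (.leaf (nat_lit 20481) [nat_lit 312, nat_lit 336, nat_lit 288, nat_lit 144, nat_lit 120]) (.leaf (nat_lit 20482) [nat_lit 312, nat_lit 360, nat_lit 288, nat_lit 144, nat_lit 96])))
noncomputable def r32 : WT := (.node (nat_lit 15) (.node (nat_lit 13) (.leaf (nat_lit 31751) [nat_lit 360, nat_lit 144, nat_lit 216, nat_lit 168, nat_lit 360, nat_lit 144, nat_lit 216]) (.node (nat_lit 14) (.leaf (nat_lit 27663) [nat_lit 240, nat_lit 240, nat_lit 240, nat_lit 192, nat_lit 264, nat_lit 264, nat_lit 264]) (.leaf (nat_lit 31748) [nat_lit 336, nat_lit 144, nat_lit 192, nat_lit 168, nat_lit 336, nat_lit 144, nat_lit 192]))) (.node (nat_lit 18) (.node (nat_lit 16) (.leaf (nat_lit 35845) [nat_lit 192, nat_lit 264, nat_lit 264, nat_lit 264, nat_lit 48, nat_lit 120, nat_lit 72, nat_lit 240, nat_lit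 216]) (.node (nat_lit 17) (.leaf (nat_lit 37892) [nat_lit 336, nat_lit 288, nat_lit 360, nat_lit 144, nat_lit 240, nat_lit 240, nat_lit 216, nat_lit 48, nat_lit 96]) (.leaf (nat_lit 38931) [nat_lit 312, nat_lit 360, nat_lit 144, nat_lit 336, nat_lit 288, nat_lit 192, nat_lit 264, nat_lit 264, nat_lit 216]))) (.node (nat_lit 20) (.node (nat_lit 19) (.leaf (nat_lit 37895) [nat_lit 336, nat_lit 312, nat_lit 360, nat_lit 144, nat_lit 120, nat_lit 72, nat_lit 192, nat_lit 264, nat_lit 264]) (.leaf (nat_lit 26633) [nat_lit 360, nat_lit 168, nat_lit 312, nat_lit 336, nat_lit 288, nat_lit 360])) (.node (nat_lit 21) (.leaf (nat_lit 38926) [nat_lit 336, nat_lit 288, nat_lit 144, nat_lit 192, nat_lit 240, nat_lit 240, nat_lit 216, nat_lit 312, nat_lit 360]) (.leaf (nat_lit 26637) [nat_lit 312, nat_lit 336, nat_lit 288, nat_lit 360, nat_lit 168, nat_lit 360])))))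
noncomputable def w5 : WT := (.node (nat_lit 1) (.leaf (nat_lit 2050) [nat_lit 144]) (.node (nat_lit 5) (.node (nat_lit 2) (.leaf (nat_lit 10241) [nat_lit 168, nat_lit 168]) (.node (nat_lit 3) (.leaf (nat_lit 13319) [nat_lit 216, nat_lit 288, nat_lit 192]) r28)) (.node (nat_lit 9) (.node (nat_lit 7) r29 r30) (.node (nat_lit 12) r31 r32))))
noncomputable def r33 : WT := (.node (nat_lit 6) (.leaf (nat_lit 16386) [nat_lit 288, nat_lit 144, nat_lit 360, nat_lit 48]) (.leaf (nat_lit 25610) [nat_lit 96, nat_lit 48, nat_lit 144, nat_lit 288, nat_lit 336, nat_lit 264]))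
noncomputable def r34 : WT := (.node (nat_lit 8) (.leaf (nat_lit 14337) [nat_lit 144, nat_lit 240, nat_lit 240, nat_lit 72]) (.node (nat_lit 9) (.leaf (nat_lit 15363) [nat_lit 240, nat_lit 240, nat_lit 72, nat_lit 288]) (.leaf (nat_lit 28682) [nat_lit 264, nat_lit 264, nat_lit 48, nat_lit 96, nat_lit 312, nat_lit 360, nat_lit 144])))
noncomputable def r35 : WT := (.node (nat_lit 20) (.leaf (nat_lit 24577) [nat_lit 240, nat_lit 240, nat_lit 240, nat_lit 192, nat_lit 264, nat_lit 72]) (.node (nat_lit 21) (.leaf (nat_lit 27655) [nat_lit 264, nat_lit 264, nat_lit 264, nat_lit 168, nat_lit 240, nat_lit 240, nat_lit 240]) (.leaf (nat_lit 34827) [nat_lit 264, nat_lit 264, nat_lit 120, nat_lit 72, nat_lit 264, nat_lit 264, nat_lit 48, nat_lit 240, nat_lit 240])))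
noncomputable def r36 : WT := (.node (nat_lit 13) (.node (nat_lit 11) (.leaf (nat_lit 35847) [nat_lit 264, nat_lit 264, nat_lit 264, nat_lit 48, nat_lit 120, nat_lit 72, nat_lit 240, nat_lit 216, nat_lit 168]) (.node (nat_lit 12) (.leaf (nat_lit 31746) [nat_lit 168, nat_lit 336, nat_lit 144, nat_lit 192, nat_lit 168, nat_lit 336, nat_lit 144]) (.leaf (nat_lit 22533) [nat_lit 240, nat_lit 240, nat_lit 240, nat_lit 120, nat_lit 168, nat_lit 240]))) (.node (nat_lit 16) (.node (nat_lit 14) (.leaf (nat_lit 24585) [nat_lit 264, nat_lit 72, nat_lit 192, nat_lit 240, nat_lit 240, nat_lit 240]) (.node (nat_lit 15) (.leaf (nat_lit 23558) [nat_lit 240, nat_lit 240, nat_lit 120, nat_lit 48, nat_lit 96, nat_lit 72]) (.leaf (nat_lit 37889) [nat_lit 264, nat_lit 264, nat_lit 168, nat_lit 336, nat_lit 312, nat_lit 360, nat_lit 144, nat_lit 120, nat_lit 72]))) (.node (nat_lit 18) (.node (nat_lit 17) (.leaf (nat_lit 38914) [nat_lit 240, nat_lit 240, nat_lit 216, nat_lit 312, nat_lit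 360, nat_lit 168, nat_lit 336, nat_lit 288, nat_lit 144]) (.leaf (nat_lit 38923) [nat_lit 264, nat_lit 264, nat_lit 216, nat_lit 168, nat_lit 312, nat_lit 360, nat_lit 144, nat_lit 336, nat_lit 288])) (.node (nat_lit 19) (.leaf (nat_lit 35856) [nat_lit 264, nat_lit 48, nat_lit 96, nat_lit 72, nat_lit 240, nat_lit 240, nat_lit 240, nat_lit 216, nat_lit 144]) r35))))
noncomputable def w6 : WT := (.node (nat_lit 1) (.leaf (nat_lit 3072) [nat_lit 216]) (.node (nat_lit 4) (.node (nat_lit 2) (.leaf (nat_lit 12288) [nat_lit 192, nat_lit 192]) (.node (nat_lit 3) (.leaf (nat_lit 13318) [nat_lit 144, nat_lit 216, nat_lit 312]) (.leaf (nat_lit 13317) [nat_lit 168, nat_lit 216, nat_lit 288]))) (.node (nat_lit 7) (.node (nat_lit 5) (.leaf (nat_lit 19461) [nat_lit 264, nat_lit 120, nat_lit 72, nat_lit 96, nat_lit 240]) r33) (.node (nat_lit 10) r34 r36))))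
noncomputable def r37 : WT := (.node (nat_lit 6) (.leaf (nat_lit 19462) [nat_lit 264, nat_lit 120, nat_lit 48, nat_lit 96, nat_lit 240]) (.leaf (nat_lit 15366) [nat_lit 312, nat_lit 48, nat_lit 264, nat_lit 264]))
noncomputable def r38 : WT := (.node (nat_lit 9) (.node (nat_lit 8) (.leaf (nat_lit 25603) [nat_lit 240, nat_lit 360, nat_lit 312, nat_lit 168, nat_lit 72, nat_lit 120]) (.leaf (nat_lit 14344) [nat_lit 48, nat_lit 264, nat_lit 264, nat_lit 168])) (.node (nat_lit 10) (.leaf (nat_lit 35852) [nat_lit 144, nat_lit 192, nat_lit 264, nat_lit 48, nat_lit 96, nat_lit 72, nat_lit 240, nat_lit 240, nat_lit 240]) (.leaf (nat_lit 22536) [nat_lit 264, nat_lit 144, nat_lit 96, nat_lit 264, nat_lit 264, nat_lit 264])))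
noncomputable def r39 : WT := (.node (nat_lit 21) (.leaf (nat_lit 27656) [nat_lit 264, nat_lit 264, nat_lit 264, nat_lit 144, nat_lit 240, nat_lit 240, nat_lit 240]) (.leaf (nat_lit 34824) [nat_lit 264, nat_lit 264, nat_lit 72, nat_lit 240, nat_lit 240, nat_lit 48, nat_lit 96, nat_lit 240, nat_lit 240]))
noncomputable def r40 : WT := (.node (nat_lit 14) (.node (nat_lit 12) (.leaf (nat_lit 31749) [nat_lit 168, nat_lit 360, nat_lit 144, nat_lit 216, nat_lit 168, nat_lit 360, nat_lit 144]) (.node (nat_lit 13) (.leaf (nat_lit 24580) [nat_lit 264, nat_lit 264, nat_lit 264, nat_lit 216, nat_lit 48, nat_lit 240]) (.leaf (nat_lit 28677) [nat_lit 168, nat_lit 336, nat_lit 288, nat_lit 120, nat_lit 72, nat_lit 240, nat_lit 240]))) (.node (nat_lit 17) (.node (nat_lit 15) (.leaf (nat_lit 23559) [nat_lit 48, nat_lit 120, nat_lit 72, nat_lit 96, nat_lit 264, nat_lit 264]) (.node (nat_lit 16) (.leaf (nat_lit 35843) [nat_lit 168, nat_lit 192, nat_lit 264, nat_lit 264, nat_lit 264,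 nat_lit 48, nat_lit 120, nat_lit 72, nat_lit 240]) (.leaf (nat_lit 38929) [nat_lit 168, nat_lit 312, nat_lit 360, nat_lit 144, nat_lit 336, nat_lit 288, nat_lit 192, nat_lit 264, nat_lit 264]))) (.node (nat_lit 19) (.node (nat_lit 18) (.leaf (nat_lit 37906) [nat_lit 48, nat_lit 96, nat_lit 168, nat_lit 336, nat_lit 288, nat_lit 360, nat_lit 144, nat_lit 240, nat_lit 240]) (.leaf (nat_lit 24588) [nat_lit 48, nat_lit 240, nat_lit 216, nat_lit 264, nat_lit 264, nat_lit 264])) (.node (nat_lit 20) (.leaf (nat_lit 38920) [nat_lit 312, nat_lit 360, nat_lit 168, nat_lit 336, nat_lit 288, nat_lit 144, nat_lit 192, nat_lit 240, nat_lit 240]) r39))))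
noncomputable def w7 : WT := (.node (nat_lit 1) (.leaf (nat_lit 3074) [nat_lit 192]) (.node (nat_lit 4) (.node (nat_lit 2) (.leaf (nat_lit 12289) [nat_lit 216, nat_lit 216]) (.node (nat_lit 3) (.leaf (nat_lit 13313) [nat_lit 288, nat_lit 192, nat_lit 168]) (.leaf (nat_lit 13314) [nat_lit 312, nat_lit 192, nat_lit 144]))) (.node (nat_lit 7) (.node (nat_lit 5) (.leaf (nat_lit 16391) [nat_lit 72, nat_lit 336, nat_lit 168, nat_lit 312]) r37) (.node (nat_lit 11) r38 r40))))
noncomputable def r41 : WT := (.node (nat_lit 5) (.leaf (nat_lit 19459) [nat_lit 192, nat_lit 264, nat_lit 120, nat_lit 72, nat_lit 96]) (.leaf (nat_lit 22531) [nat_lit 192, nat_lit 240, nat_lit 240, nat_lit 240, nat_lit 120, nat_lit 168]))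
noncomputable def r42 : WT := (.node (nat_lit 7) (.leaf (nat_lit 19460) [nat_lit 216, nat_lit 264, nat_lit 120, nat_lit 48, nat_lit 96]) (.leaf (nat_lit 15365) [nat_lit 240, nat_lit 72, nat_lit 288, nat_lit 192]))
noncomputable def r43 : WT := (.node (nat_lit 9) (.leaf (nat_lit 24578) [nat_lit 216, nat_lit 264, nat_lit 264, nat_lit 264, nat_lit 216, nat_lit 48]) (.leaf (nat_lit 22539) [nat_lit 120, nat_lit 168, nat_lit 240, nat_lit 192, nat_lit 240, nat_lit 240]))
noncomputable def r44 : WT := (.node (nat_lit 12) (.node (nat_lit 11) (.leaf (nat_lit 28673) [nat_lit 240, nat_lit 216, nat_lit 168, nat_lit 336, nat_lit 288, nat_lit 120, nat_lit 72]) (.leaf (nat_lit 15367) [nat_lit 72, nat_lit 288, nat_lit 192, nat_lit 240])) (.node (nat_lit 14) (.node (nat_lit 13) (.leaf (nat_lit 35841) [nat_lit 216, nat_lit 168, nat_lit 192, nat_lit 264, nat_lit 264, nat_lit 264, nat_lit 48, nat_lit 120, nat_lit 72]) (.leaf (nat_lit 22535) [nat_lit 240, nat_lit 240, nat_lit 120, nat_lit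 168, nat_lit 240, nat_lit 192])) (.node (nat_lit 15) (.leaf (nat_lit 27649) [nat_lit 240, nat_lit 240, nat_lit 192, nat_lit 264, nat_lit 264, nat_lit 264, nat_lit 168]) (.leaf (nat_lit 23562) [nat_lit 120, nat_lit 48, nat_lit 96, nat_lit 72, nat_lit 192, nat_lit 240]))))
noncomputable def r45 : WT := (.node (nat_lit 27) (.leaf (nat_lit 37902) [nat_lit 240, nat_lit 216, nat_lit 48, nat_lit 96, nat_lit 168, nat_lit 336, nat_lit 288, nat_lit 360, nat_lit 144]) (.leaf (nat_lit 34820) [nat_lit 240, nat_lit 216, nat_lit 264, nat_lit 264, nat_lit 72, nat_lit 240, nat_lit 240, nat_lit 48, nat_lit 96]))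
noncomputable def r46 : WT := (.node (nat_lit 29) (.leaf (nat_lit 38918) [nat_lit 216, nat_lit 312, nat_lit 360, nat_lit 168, nat_lit 336, nat_lit 288, nat_lit 144, nat_lit 192, nat_lit 240]) (.leaf (nat_lit 38916) [nat_lit 240, nat_lit 216, nat_lit 312, nat_lit 360, nat_lit 168, nat_lit 336, nat_lit 288, nat_lit 144, nat_lit 192]))
noncomputable def r47 : WT := (.node (nat_lit 31) (.leaf (nat_lit 27653) [nat_lit 192, nat_lit 264, nat_lit 264, nat_lit 264, nat_lit 168, nat_lit 240, nat_lit 240]) (.leaf (nat_lit 35850) [nat_lit 216, nat_lit 144, nat_lit 192, nat_lit 264, nat_lit 48, nat_lit 96, nat_lit 72, nat_lit 240, nat_lit 240]))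
noncomputable def r48 : WT := (.node (nat_lit 33) (.leaf (nat_lit 37904) [nat_lit 216, nat_lit 48, nat_lit 96, nat_lit 168, nat_lit 336, nat_lit 288, nat_lit 360, nat_lit 144, nat_lit 240]) (.node (nat_lit 34) (.leaf (nat_lit 24581) [nat_lit 240, nat_lit 192, nat_lit 264, nat_lit 72, nat_lit 192, nat_lit 240]) (.leaf (nat_lit 34825) [nat_lit 192, nat_lit 264, nat_lit 264, nat_lit 120, nat_lit 72, nat_lit 264, nat_lit 264, nat_lit 48, nat_lit 240])))
noncomputable def r49 : WT := (.node (nat_lit 37) (.node (nat_lit 36) (.leaf (nat_lit 27651) [nat_lit 240, nat_lit 192, nat_lit 264, nat_lit 264, nat_lit 264, nat_lit 168, nat_lit 240]) (.leaf (nat_lit 27652) [nat_lit 240, nat_lit 216, nat_lit 264, nat_lit 264, nat_lit 264, nat_lit 144, nat_lit 240])) (.node (nat_lit 38) (.leaf (nat_lit 34822) [nat_lit 216, nat_lit 264, nat_lit 264, nat_lit 72, nat_lit 240, nat_lit 240, nat_lit 48, nat_lit 96, nat_lit 240]) (.node (nat_lit 39) (.leaf (nat_lit 27654) [nat_lit 216, nat_lit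 264, nat_lit 264, nat_lit 264, nat_lit 144, nat_lit 240, nat_lit 240]) (.leaf (nat_lit 35848) [nat_lit 240, nat_lit 216, nat_lit 144, nat_lit 192, nat_lit 264, nat_lit 48, nat_lit 96, nat_lit 72, nat_lit 240]))))
noncomputable def r50 : WT := (.node (nat_lit 23) (.node (nat_lit 19) (.node (nat_lit 17) (.leaf (nat_lit 28675) [nat_lit 216, nat_lit 168, nat_lit 336, nat_lit 288, nat_lit 120, nat_lit 72, nat_lit 240]) (.node (nat_lit 18) (.leaf (nat_lit 34823) [nat_lit 240, nat_lit 192, nat_lit 264, nat_lit 264, nat_lit 120, nat_lit 72, nat_lit 264, nat_lit 264, nat_lit 48]) (.leaf (nat_lit 27650) [nat_lit 240, nat_lit 240, nat_lit 216, nat_lit 264, nat_lit 264, nat_lit 264, nat_lit 144]))) (.node (nat_lit 21) (.node (nat_lit 20) (.leaf (nat_lit 24583) [nat_lit 192, nat_lit 264, nat_lit 72, nat_lit 192, nat_lit 240, nat_lit 240]) (.leaf (nat_lit 35846) [nat_lit 240, nat_lit 240, nat_lit 216, nat_lit 144, nat_lit 192, nat_lit 264, nat_lit 48, nat_lit 96, nat_lit 72]))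 (.node (nat_lit 22) (.leaf (nat_lit 24579) [nat_lit 240, nat_lit 240, nat_lit 192, nat_lit 264, nat_lit 72, nat_lit 192]) (.leaf (nat_lit 34834) [nat_lit 48, nat_lit 96, nat_lit 240, nat_lit 240, nat_lit 216, nat_lit 264, nat_lit 264, nat_lit 72, nat_lit 240])))) (.node (nat_lit 28) (.node (nat_lit 25) (.node (nat_lit 24) (.leaf (nat_lit 34832) [nat_lit 240, nat_lit 48, nat_lit 96, nat_lit 240, nat_lit 240, nat_lit 216, nat_lit 264, nat_lit 264, nat_lit 72]) (.leaf (nat_lit 23560) [nat_lit 240, nat_lit 120, nat_lit 48, nat_lit 96, nat_lit 72, nat_lit 192])) (.node (nat_lit 26) (.leaf (nat_lit 22537) [nat_lit 240, nat_lit 120, nat_lit 168, nat_lit 240, nat_lit 192, nat_lit 240]) r45)) (.node (nat_lit 32) (.node (nat_lit 30) r46 r47) (.node (nat_lit 35) r48 r49))))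
noncomputable def w8 : WT := (.node (nat_lit 1) (.leaf (nat_lit 4096) [nat_lit 264]) (.node (nat_lit 6) (.node (nat_lit 3) (.node (nat_lit 2) (.leaf (nat_lit 14343) [nat_lit 72, nat_lit 192, nat_lit 144, nat_lit 240]) (.leaf (nat_lit 14341) [nat_lit 240, nat_lit 72, nat_lit 192, nat_lit 144])) (.node (nat_lit 4) (.leaf (nat_lit 25605) [nat_lit 360, nat_lit 312, nat_lit 168, nat_lit 72, nat_lit 120, nat_lit 216]) r41)) (.node (nat_lit 10) (.node (nat_lit 8) r42 r43) (.node (nat_lit 16) r44 r50))))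
noncomputable def r51 : WT := (.node (nat_lit 7) (.leaf (nat_lit 22538) [nat_lit 144, nat_lit 96, nat_lit 264, nat_lit 264, nat_lit 264, nat_lit 216]) (.node (nat_lit 8) (.leaf (nat_lit 22530) [nat_lit 264, nat_lit 264, nat_lit 216, nat_lit 264, nat_lit 144, nat_lit 96]) (.leaf (nat_lit 24587) [nat_lit 72, nat_lit 192, nat_lit 240, nat_lit 240, nat_lit 240, nat_lit 192])))
noncomputable def r52 : WT := (.node (nat_lit 12) (.node (nat_lit 10) (.leaf (nat_lit 15364) [nat_lit 216, nat_lit 312, nat_lit 48, nat_lit 264]) (.node (nat_lit 11) (.leaf (nat_lit 34817) [nat_lit 264, nat_lit 48, nat_lit 240, nat_lit 240, nat_lit 192, nat_lit 264, nat_lit 264, nat_lit 120, nat_lit 72]) (.leaf (nat_lit 35858) [nat_lit 48, nat_lit 96, nat_lit 72, nat_lit 240, nat_lit 240, nat_lit 240, nat_lit 216, nat_lit 144, nat_lit 192]))) (.node (nat_lit 14) (.node (nat_lit 13) (.leaf (nat_lit 28684) [nat_lit 264, nat_lit 48, nat_lit 96, nat_lit 312, nat_lit 360, nat_lit 144, nat_lit 192])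 (.leaf (nat_lit 28686) [nat_lit 48, nat_lit 96, nat_lit 312, nat_lit 360, nat_lit 144, nat_lit 192, nat_lit 264])) (.node (nat_lit 15) (.leaf (nat_lit 22534) [nat_lit 216, nat_lit 264, nat_lit 144, nat_lit 96, nat_lit 264, nat_lit 264]) (.leaf (nat_lit 15362) [nat_lit 264, nat_lit 216, nat_lit 312, nat_lit 48]))))
noncomputable def r53 : WT := (.node (nat_lit 26) (.leaf (nat_lit 37891) [nat_lit 264, nat_lit 168, nat_lit 336, nat_lit 312, nat_lit 360, nat_lit 144, nat_lit 120, nat_lit 72, nat_lit 192]) (.leaf (nat_lit 34831) [nat_lit 120, nat_lit 72, nat_lit 264, nat_lit 264, nat_lit 48, nat_lit 240, nat_lit 240, nat_lit 192, nat_lit 264]))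
noncomputable def r54 : WT := (.node (nat_lit 28) (.leaf (nat_lit 34819) [nat_lit 48, nat_lit 240, nat_lit 240, nat_lit 192, nat_lit 264, nat_lit 264, nat_lit 120, nat_lit 72, nat_lit 264]) (.leaf (nat_lit 37893) [nat_lit 168, nat_lit 336, nat_lit 312, nat_lit 360, nat_lit 144, nat_lit 120, nat_lit 72, nat_lit 192, nat_lit 264]))
noncomputable def r55 : WT := (.node (nat_lit 30) (.leaf (nat_lit 38927) [nat_lit 216, nat_lit 168, nat_lit 312, nat_lit 360, nat_lit 144, nat_lit 336, nat_lit 288, nat_lit 192, nat_lit 264]) (.leaf (nat_lit 38925) [nat_lit 264, nat_lit 216, nat_lit 168, nat_lit 312, nat_lit 360, nat_lit 144, nat_lit 336, nat_lit 288, nat_lit 192]))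
noncomputable def r56 : WT := (.node (nat_lit 32) (.leaf (nat_lit 35853) [nat_lit 48, nat_lit 120, nat_lit 72, nat_lit 240, nat_lit 216, nat_lit 168, nat_lit 192, nat_lit 264, nat_lit 264]) (.node (nat_lit 33) (.leaf (nat_lit 24584) [nat_lit 264, nat_lit 216, nat_lit 48, nat_lit 240, nat_lit 216, nat_lit 264]) (.leaf (nat_lit 34826) [nat_lit 264, nat_lit 72, nat_lit 240, nat_lit 240, nat_lit 48, nat_lit 96, nat_lit 240, nat_lit 240, nat_lit 216])))
noncomputable def r57 : WT := (.node (nat_lit 36) (.node (nat_lit 35) (.leaf (nat_lit 27658) [nat_lit 264, nat_lit 264, nat_lit 144, nat_lit 240, nat_lit 240, nat_lit 240, nat_lit 216]) (.leaf (nat_lit 34829) [nat_lit 264, nat_lit 120, nat_lit 72, nat_lit 264, nat_lit 264, nat_lit 48, nat_lit 240, nat_lit 240, nat_lit 192])) (.node (nat_lit 38) (.node (nat_lit 37) (.leaf (nat_lit 27657) [nat_lit 264, nat_lit 264, nat_lit 168, nat_lit 240, nat_lit 240, nat_lit 240, nat_lit 192]) (.leaf (nat_lit 27659) [nat_lit 264, nat_lit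 168, nat_lit 240, nat_lit 240, nat_lit 240, nat_lit 192, nat_lit 264])) (.node (nat_lit 39) (.leaf (nat_lit 27660) [nat_lit 264, nat_lit 144, nat_lit 240, nat_lit 240, nat_lit 240, nat_lit 216, nat_lit 264]) (.leaf (nat_lit 35851) [nat_lit 264, nat_lit 48, nat_lit 120, nat_lit 72, nat_lit 240, nat_lit 216, nat_lit 168, nat_lit 192, nat_lit 264]))))
noncomputable def r58 : WT := (.node (nat_lit 22) (.node (nat_lit 18) (.node (nat_lit 17) (.leaf (nat_lit 23555) [nat_lit 264, nat_lit 216, nat_lit 48, nat_lit 120, nat_lit 72, nat_lit 96]) (.leaf (nat_lit 27662) [nat_lit 144, nat_lit 240, nat_lit 240, nat_lit 240, nat_lit 216, nat_lit 264, nat_lit 264])) (.node (nat_lit 20) (.node (nat_lit 19) (.leaf (nat_lit 22532) [nat_lit 264, nat_lit 216, nat_lit 264, nat_lit 144, nat_lit 96, nat_lit 264]) (.leaf (nat_lit 24582) [nat_lit 264, nat_lit 264, nat_lit 216, nat_lit 48, nat_lit 240, nat_lit 216])) (.node (nat_lit 21) (.leaf (nat_lit 34828) [nat_lit 72, nat_lit 240, nat_lit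 240, nat_lit 48, nat_lit 96, nat_lit 240, nat_lit 240, nat_lit 216, nat_lit 264]) (.leaf (nat_lit 23557) [nat_lit 216, nat_lit 48, nat_lit 120, nat_lit 72, nat_lit 96, nat_lit 264])))) (.node (nat_lit 27) (.node (nat_lit 24) (.node (nat_lit 23) (.leaf (nat_lit 24586) [nat_lit 216, nat_lit 48, nat_lit 240, nat_lit 216, nat_lit 264, nat_lit 264]) (.leaf (nat_lit 27661) [nat_lit 168, nat_lit 240, nat_lit 240, nat_lit 240, nat_lit 192, nat_lit 264, nat_lit 264])) (.node (nat_lit 25) (.leaf (nat_lit 35849) [nat_lit 264, nat_lit 264, nat_lit 48, nat_lit 120, nat_lit 72, nat_lit 240, nat_lit 216, nat_lit 168, nat_lit 192]) r53)) (.node (nat_lit 31) (.node (nat_lit 29) r54 r55) (.node (nat_lit 34) r56 r57))))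
noncomputable def w9 : WT := (.node (nat_lit 1) (.leaf (nat_lit 4098) [nat_lit 240]) (.node (nat_lit 5) (.node (nat_lit 3) (.node (nat_lit 2) (.leaf (nat_lit 14340) [nat_lit 168, nat_lit 216, nat_lit 48, nat_lit 264]) (.leaf (nat_lit 14338) [nat_lit 264, nat_lit 168, nat_lit 216, nat_lit 48])) (.node (nat_lit 4) (.leaf (nat_lit 19464) [nat_lit 120, nat_lit 48, nat_lit 96, nat_lit 240, nat_lit 216]) (.leaf (nat_lit 25608) [nat_lit 192, nat_lit 96, nat_lit 48, nat_lit 144, nat_lit 288, nat_lit 336]))) (.node (nat_lit 9) (.node (nat_lit 6) (.leaf (nat_lit 19463) [nat_lit 120, nat_lit 72, nat_lit 96, nat_lit 240, nat_lit 192]) r51) (.node (nat_lit 16) r52 r58))))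
noncomputable def r59 : WT := (.node (nat_lit 7) (.leaf (nat_lit 20487) [nat_lit 144, nat_lit 120, nat_lit 168, nat_lit 312, nat_lit 336]) (.leaf (nat_lit 15361) [nat_lit 192, nat_lit 240, nat_lit 240, nat_lit 72]))
noncomputable def r60 : WT := (.node (nat_lit 9) (.leaf (nat_lit 25604) [nat_lit 336, nat_lit 264, nat_lit 192, nat_lit 96, nat_lit 48, nat_lit 144]) (.node (nat_lit 10) (.leaf (nat_lit 30724) [nat_lit 120, nat_lit 48, nat_lit 96, nat_lit 288, nat_lit 120, nat_lit 48, nat_lit 96]) (.leaf (nat_lit 21512) [nat_lit 360, nat_lit 96, nat_lit 336, nat_lit 312, nat_lit 360])))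
noncomputable def r61 : WT := (.node (nat_lit 19) (.leaf (nat_lit 38930) [nat_lit 144, nat_lit 192, nat_lit 240, nat_lit 240, nat_lit 216, nat_lit 312, nat_lit 360, nat_lit 168, nat_lit 336]) (.leaf (nat_lit 37896) [nat_lit 360, nat_lit 144, nat_lit 240, nat_lit 240, nat_lit 216, nat_lit 48, nat_lit 96, nat_lit 168, nat_lit 336]))
noncomputable def r62 : WT := (.node (nat_lit 21) (.leaf (nat_lit 26636) [nat_lit 144, nat_lit 336, nat_lit 144, nat_lit 336, nat_lit 312, nat_lit 360]) (.leaf (nat_lit 26629) [nat_lit 360, nat_lit 168, nat_lit 360, nat_lit 168, nat_lit 312, nat_lit 336]))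
noncomputable def r63 : WT := (.node (nat_lit 14) (.node (nat_lit 12) (.leaf (nat_lit 28683) [nat_lit 120, nat_lit 72, nat_lit 240, nat_lit 240, nat_lit 216, nat_lit 168, nat_lit 336]) (.node (nat_lit 13) (.leaf (nat_lit 29702) [nat_lit 48, nat_lit 96, nat_lit 336, nat_lit 288, nat_lit 48, nat_lit 96, nat_lit 336]) (.leaf (nat_lit 32774) [nat_lit 96, nat_lit 312, nat_lit 336, nat_lit 288, nat_lit 96, nat_lit 312, nat_lit 336]))) (.node (nat_lit 16) (.node (nat_lit 15) (.leaf (nat_lit 21511) [nat_lit 360, nat_lit 120, nat_lit 336, nat_lit 312, nat_lit 336]) (.leaf (nat_lit 32773) [nat_lit 120, nat_lit 312, nat_lit 360, nat_lit 288, nat_lit 120, nat_lit 312, nat_lit 360])) (.node (nat_lit 18) (.node (nat_lit 17) (.leaf (nat_lit 38921) [nat_lit 192, nat_lit 264, nat_lit 264, nat_lit 216, nat_lit 168, nat_lit 312, nat_lit 360, nat_lit 144, nat_lit 336]) (.leaf (nat_lit 36864) [nat_lit 360, nat_lit 288, nat_lit 360, nat_lit 288, nat_lit 360, nat_lit 288, nat_lit 360,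 nat_lit 288, nat_lit 360])) (.node (nat_lit 20) r61 r62))))
noncomputable def w10 : WT := (.node (nat_lit 1) (.leaf (nat_lit 5120) [nat_lit 312]) (.node (nat_lit 5) (.node (nat_lit 3) (.node (nat_lit 2) (.leaf (nat_lit 11264) [nat_lit 288, nat_lit 288]) (.leaf (nat_lit 13315) [nat_lit 192, nat_lit 168, nat_lit 216])) (.node (nat_lit 4) (.leaf (nat_lit 16388) [nat_lit 144, nat_lit 360, nat_lit 48, nat_lit 192]) (.leaf (nat_lit 18437) [nat_lit 48, nat_lit 120, nat_lit 72, nat_lit 96, nat_lit 72]))) (.node (nat_lit 8) (.node (nat_lit 6) (.leaf (nat_lit 20488) [nat_lit 144, nat_lit 96, nat_lit 168, nat_lit 312, nat_lit 360]) r59) (.node (nat_lit 11) r60 r63))))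
noncomputable def r64 : WT := (.node (nat_lit 5) (.leaf (nat_lit 16389) [nat_lit 216, nat_lit 72, nat_lit 336, nat_lit 168]) (.leaf (nat_lit 18438) [nat_lit 48, nat_lit 120, nat_lit 48, nat_lit 96, nat_lit 72]))
noncomputable def r65 : WT := (.node (nat_lit 7) (.leaf (nat_lit 21508) [nat_lit 360, nat_lit 288, nat_lit 360, nat_lit 96, nat_lit 336]) (.leaf (nat_lit 25609) [nat_lit 168, nat_lit 72, nat_lit 120, nat_lit 216, nat_lit 240, nat_lit 360]))
noncomputable def r66 : WT := (.node (nat_lit 9) (.leaf (nat_lit 20483) [nat_lit 336, nat_lit 288, nat_lit 144, nat_lit 120, nat_lit 168]) (.node (nat_lit 10) (.leaf (nat_lit 20484) [nat_lit 360, nat_lit 288, nat_lit 144, nat_lit 96, nat_lit 168]) (.leaf (nat_lit 30723) [nat_lit 120, nat_lit 72, nat_lit 96, nat_lit 312, nat_lit 120, nat_lit 72, nat_lit 96])))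
noncomputable def r67 : WT := (.node (nat_lit 18) (.leaf (nat_lit 38913) [nat_lit 360, nat_lit 144, nat_lit 336, nat_lit 288, nat_lit 192, nat_lit 264, nat_lit 264, nat_lit 216, nat_lit 168]) (.leaf (nat_lit 26625) [nat_lit 336, nat_lit 288, nat_lit 360, nat_lit 168, nat_lit 360, nat_lit 168]))
noncomputable def r68 : WT := (.node (nat_lit 20) (.leaf (nat_lit 38922) [nat_lit 360, nat_lit 168, nat_lit 336, nat_lit 288, nat_lit 144, nat_lit 192, nat_lit 240, nat_lit 240, nat_lit 216]) (.node (nat_lit 21) (.leaf (nat_lit 37899) [nat_lit 360, nat_lit 144, nat_lit 120, nat_lit 72, nat_lit 192, nat_lit 264, nat_lit 264, nat_lit 168, nat_lit 336]) (.node (nat_lit 22) (.leaf (nat_lit 26632) [nat_lit 360, nat_lit 288, nat_lit 144, nat_lit 336, nat_lit 144, nat_lit 336]) (.leaf (nat_lit 41990) [nat_lit 408, nat_lit 120, nat_lit 48]))))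
noncomputable def r69 : WT := (.node (nat_lit 13) (.node (nat_lit 12) (.leaf (nat_lit 32769) [nat_lit 360, nat_lit 288, nat_lit 120, nat_lit 312, nat_lit 360, nat_lit 288, nat_lit 120]) (.leaf (nat_lit 28676) [nat_lit 360, nat_lit 144, nat_lit 192, nat_lit 264, nat_lit 264, nat_lit 48, nat_lit 96])) (.node (nat_lit 15) (.node (nat_lit 14) (.leaf (nat_lit 21507) [nat_lit 336, nat_lit 288, nat_lit 360, nat_lit 120, nat_lit 336]) (.leaf (nat_lit 32770) [nat_lit 336, nat_lit 288, nat_lit 96, nat_lit 312, nat_lit 336, nat_lit 288, nat_lit 96])) (.node (nat_lit 17) (.node (nat_lit 16) (.leaf (nat_lit 29697) [nat_lit 360, nat_lit 120, nat_lit 72, nat_lit 312, nat_lit 360, nat_lit 120, nat_lit 72]) (.leaf (nat_lit 36867) [nat_lit 336, nat_lit 312, nat_lit 336, nat_lit 312, nat_lit 336, nat_lit 312, nat_lit 336, nat_lit 312, nat_lit 336])) (.node (nat_lit 19) r67 r68))))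
noncomputable def w11 : WT := (.node (nat_lit 1) (.leaf (nat_lit 5122) [nat_lit 288]) (.node (nat_lit 4) (.node (nat_lit 2) (.leaf (nat_lit 11265) [nat_lit 312, nat_lit 312]) (.node (nat_lit 3) (.leaf (nat_lit 13316) [nat_lit 192, nat_lit 144, nat_lit 216]) (.leaf (nat_lit 15368) [nat_lit 48, nat_lit 264, nat_lit 264, nat_lit 216]))) (.node (nat_lit 8) (.node (nat_lit 6) r64 r65) (.node (nat_lit 11) r66 r69))))
noncomputable def r70 : WT := (.node (nat_lit 6) (.leaf (nat_lit 17413) [nat_lit 144, nat_lit 120, nat_lit 336, nat_lit 144]) (.leaf (nat_lit 25606) [nat_lit 264, nat_lit 192, nat_lit 96, nat_lit 48, nat_lit 144, nat_lit 288]))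
noncomputable def r71 : WT := (.node (nat_lit 8) (.leaf (nat_lit 21506) [nat_lit 312, nat_lit 360, nat_lit 288, nat_lit 360, nat_lit 96]) (.node (nat_lit 9) (.leaf (nat_lit 28681) [nat_lit 288, nat_lit 120, nat_lit 72, nat_lit 240, nat_lit 240, nat_lit 216, nat_lit 168]) (.leaf (nat_lit 31750) [nat_lit 144, nat_lit 192, nat_lit 168, nat_lit 336, nat_lit 144, nat_lit 192, nat_lit 168])))
noncomputable def r72 : WT := (.node (nat_lit 21) (.leaf (nat_lit 38928) [nat_lit 288, nat_lit 144, nat_lit 192, nat_lit 240, nat_lit 240, nat_lit 216, nat_lit 312, nat_lit 360, nat_lit 168]) (.leaf (nat_lit 26627) [nat_lit 288, nat_lit 360, nat_lit 168, nat_lit 360, nat_lit 168, nat_lit 312]))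
noncomputable def r73 : WT := (.node (nat_lit 14) (.node (nat_lit 12) (.node (nat_lit 11) (.leaf (nat_lit 21505) [nat_lit 312, nat_lit 336, nat_lit 288, nat_lit 360, nat_lit 120]) (.leaf (nat_lit 21509) [nat_lit 288, nat_lit 360, nat_lit 120, nat_lit 336, nat_lit 312])) (.node (nat_lit 13) (.leaf (nat_lit 29700) [nat_lit 288, nat_lit 48, nat_lit 96, nat_lit 336, nat_lit 288, nat_lit 48, nat_lit 96]) (.leaf (nat_lit 37894) [nat_lit 288, nat_lit 360, nat_lit 144, nat_lit 240, nat_lit 240, nat_lit 216, nat_lit 48, nat_lit 96, nat_lit 168]))) (.node (nat_lit 17) (.node (nat_lit 15) (.leaf (nat_lit 38919) [nat_lit 288, nat_lit 192, nat_lit 264, nat_lit 264, nat_lit 216, nat_lit 168, nat_lit 312, nat_lit 360, nat_lit 144]) (.node (nat_lit 16) (.leaf (nat_lit 26630) [nat_lit 312, nat_lit 360, nat_lit 288, nat_lit 144, nat_lit 336, nat_lit 144]) (.leaf (nat_lit 37897) [nat_lit 312, nat_lit 360, nat_lit 144, nat_lit 120, nat_lit 72, nat_lit 192, nat_lit 264, nat_lit 264,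 nat_lit 168]))) (.node (nat_lit 19) (.node (nat_lit 18) (.leaf (nat_lit 26626) [nat_lit 144, nat_lit 336, nat_lit 312, nat_lit 360, nat_lit 288, nat_lit 144]) (.leaf (nat_lit 32772) [nat_lit 288, nat_lit 96, nat_lit 312, nat_lit 336, nat_lit 288, nat_lit 96, nat_lit 312])) (.node (nat_lit 20) (.leaf (nat_lit 36865) [nat_lit 312, nat_lit 336, nat_lit 312, nat_lit 336, nat_lit 312, nat_lit 336, nat_lit 312, nat_lit 336, nat_lit 312]) r72))))
noncomputable def w12 : WT := (.node (nat_lit 1) (.leaf (nat_lit 6144) [nat_lit 360]) (.node (nat_lit 4) (.node (nat_lit 2) (.leaf (nat_lit 9216) [nat_lit 336, nat_lit 336]) (.node (nat_lit 3) (.leaf (nat_lit 17409) [nat_lit 144, nat_lit 336, nat_lit 144, nat_lit 120]) (.leaf (nat_lit 16385) [nat_lit 168, nat_lit 312, nat_lit 216, nat_lit 72]))) (.node (nat_lit 7) (.node (nat_lit 5) (.leaf (nat_lit 20485) [nat_lit 288, nat_lit 144, nat_lit 120, nat_lit 168, nat_lit 312]) r70) (.node (nat_lit 10) r71 r73))))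
noncomputable def r74 : WT := (.node (nat_lit 6) (.leaf (nat_lit 20486) [nat_lit 288, nat_lit 144, nat_lit 96, nat_lit 168, nat_lit 312]) (.leaf (nat_lit 17416) [nat_lit 96, nat_lit 168, nat_lit 360, nat_lit 168]))
noncomputable def r75 : WT := (.node (nat_lit 8) (.leaf (nat_lit 25607) [nat_lit 312, nat_lit 168, nat_lit 72, nat_lit 120, nat_lit 216, nat_lit 240]) (.node (nat_lit 9) (.leaf (nat_lit 21513) [nat_lit 120, nat_lit 336, nat_lit 312, nat_lit 336, nat_lit 288]) (.leaf (nat_lit 28678) [nat_lit 144, nat_lit 192, nat_lit 264, nat_lit 264, nat_lit 48, nat_lit 96, nat_lit 312])))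
noncomputable def r76 : WT := (.node (nat_lit 21) (.leaf (nat_lit 37901) [nat_lit 144, nat_lit 120, nat_lit 72, nat_lit 192, nat_lit 264, nat_lit 264, nat_lit 168, nat_lit 336, nat_lit 312]) (.leaf (nat_lit 26634) [nat_lit 288, nat_lit 144, nat_lit 336, nat_lit 144, nat_lit 336, nat_lit 312]))
noncomputable def r77 : WT := (.node (nat_lit 13) (.node (nat_lit 11) (.leaf (nat_lit 31745) [nat_lit 144, nat_lit 216, nat_lit 168, nat_lit 360, nat_lit 144, nat_lit 216, nat_lit 168]) (.node (nat_lit 12) (.leaf (nat_lit 29699) [nat_lit 120, nat_lit 72, nat_lit 312, nat_lit 360, nat_lit 120, nat_lit 72, nat_lit 312]) (.leaf (nat_lit 21510) [nat_lit 288, nat_lit 360, nat_lit 96, nat_lit 336, nat_lit 312]))) (.node (nat_lit 17) (.node (nat_lit 15) (.node (nat_lit 14) (.leaf (nat_lit 38924) [nat_lit 168, nat_lit 336, nat_lit 288, nat_lit 144, nat_lit 192, nat_lit 240, nat_lit 240, nat_lit 216, nat_lit 312]) (.leaf (nat_lit 36866) [nat_lit 288, nat_lit 360, nat_lit 288, nat_lit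 360, nat_lit 288, nat_lit 360, nat_lit 288, nat_lit 360, nat_lit 288])) (.node (nat_lit 16) (.leaf (nat_lit 37898) [nat_lit 144, nat_lit 240, nat_lit 240, nat_lit 216, nat_lit 48, nat_lit 96, nat_lit 168, nat_lit 336, nat_lit 288]) (.leaf (nat_lit 26631) [nat_lit 168, nat_lit 360, nat_lit 168, nat_lit 312, nat_lit 336, nat_lit 288]))) (.node (nat_lit 19) (.node (nat_lit 18) (.leaf (nat_lit 26635) [nat_lit 168, nat_lit 312, nat_lit 336, nat_lit 288, nat_lit 360, nat_lit 168]) (.leaf (nat_lit 32771) [nat_lit 288, nat_lit 120, nat_lit 312, nat_lit 360, nat_lit 288, nat_lit 120, nat_lit 312])) (.node (nat_lit 20) (.leaf (nat_lit 38915) [nat_lit 144, nat_lit 336, nat_lit 288, nat_lit 192, nat_lit 264, nat_lit 264, nat_lit 216, nat_lit 168, nat_lit 312]) r76))))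
noncomputable def w13 : WT := (.node (nat_lit 1) (.leaf (nat_lit 6146) [nat_lit 336]) (.node (nat_lit 4) (.node (nat_lit 2) (.leaf (nat_lit 9217) [nat_lit 360, nat_lit 360]) (.node (nat_lit 3) (.leaf (nat_lit 16392) [nat_lit 48, nat_lit 192, nat_lit 288, nat_lit 144]) (.leaf (nat_lit 17412) [nat_lit 168, nat_lit 360, nat_lit 96, nat_lit 168]))) (.node (nat_lit 7) (.node (nat_lit 5) (.leaf (nat_lit 21514) [nat_lit 96, nat_lit 336, nat_lit 312, nat_lit 360, nat_lit 288]) r74) (.node (nat_lit 10) r75 r77))))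
noncomputable def w14 : WT := (.leaf (nat_lit 40960) [nat_lit 408])
noncomputable def w15 : WT := (.leaf (nat_lit 40962) [nat_lit 384])
noncomputable def r78 : WT := (.node (nat_lit 2) (.node (nat_lit 1) (.leaf (nat_lit 16384) [nat_lit 48, nat_lit 192, nat_lit 288, nat_lit 144, nat_lit 360]) (.leaf (nat_lit 14337) [nat_lit 192, nat_lit 144, nat_lit 240, nat_lit 240, nat_lit 72])) (.node (nat_lit 3) (.leaf (nat_lit 16386) [nat_lit 192, nat_lit 288, nat_lit 144, nat_lit 360, nat_lit 48]) (.leaf (nat_lit 16393) [nat_lit 72, nat_lit 336, nat_lit 168, nat_lit 312, nat_lit 216])))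
noncomputable def r79 : WT := (.node (nat_lit 6) (.node (nat_lit 5) (.leaf (nat_lit 16385) [nat_lit 336, nat_lit 168, nat_lit 312, nat_lit 216, nat_lit 72]) (.leaf (nat_lit 16389) [nat_lit 312, nat_lit 216, nat_lit 72, nat_lit 336, nat_lit 168])) (.node (nat_lit 7) (.leaf (nat_lit 31746) [nat_lit 192, nat_lit 168, nat_lit 336, nat_lit 144, nat_lit 192, nat_lit 168, nat_lit 336, nat_lit 144]) (.leaf (nat_lit 31750) [nat_lit 336, nat_lit 144, nat_lit 192, nat_lit 168, nat_lit 336, nat_lit 144, nat_lit 192, nat_lit 168])))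
noncomputable def r80 : WT := (.node (nat_lit 11) (.node (nat_lit 9) (.leaf (nat_lit 17409) [nat_lit 336, nat_lit 144, nat_lit 336, nat_lit 144, nat_lit 120]) (.node (nat_lit 10) (.leaf (nat_lit 31751) [nat_lit 168, nat_lit 360, nat_lit 144, nat_lit 216, nat_lit 168, nat_lit 360, nat_lit 144, nat_lit 216]) (.leaf (nat_lit 22538) [nat_lit 264, nat_lit 144, nat_lit 96, nat_lit 264, nat_lit 264, nat_lit 264, nat_lit 216]))) (.node (nat_lit 12) (.leaf (nat_lit 24589) [nat_lit 72, nat_lit 192, nat_lit 240, nat_lit 240, nat_lit 240, nat_lit 192, nat_lit 264]) (.node (nat_lit 13) (.leaf (nat_lit 22540) [nat_lit 144, nat_lit 96, nat_lit 264, nat_lit 264, nat_lit 264, nat_lit 216, nat_lit 264]) (.leaf (nat_lit 30724) [nat_lit 288, nat_lit 120, nat_lit 48, nat_lit 96, nat_lit 288, nat_lit 120, nat_lit 48, nat_lit 96]))))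
noncomputable def r81 : WT := (.node (nat_lit 18) (.node (nat_lit 16) (.node (nat_lit 15) (.leaf (nat_lit 16391) [nat_lit 216, nat_lit 72, nat_lit 336, nat_lit 168, nat_lit 312]) (.leaf (nat_lit 31748) [nat_lit 168, nat_lit 336, nat_lit 144, nat_lit 192, nat_lit 168, nat_lit 336, nat_lit 144, nat_lit 192])) (.node (nat_lit 17) (.leaf (nat_lit 31749) [nat_lit 216, nat_lit 168, nat_lit 360, nat_lit 144, nat_lit 216, nat_lit 168, nat_lit 360, nat_lit 144]) (.leaf (nat_lit 31747) [nat_lit 144, nat_lit 216, nat_lit 168, nat_lit 360, nat_lit 144, nat_lit 216, nat_lit 168, nat_lit 360]))) (.node (nat_lit 20) (.node (nat_lit 19) (.leaf (nat_lit 25613) [nat_lit 72, nat_lit 120, nat_lit 216, nat_lit 240, nat_lit 360, nat_lit 312, nat_lit 168]) (.leaf (nat_lit 16390) [nat_lit 144, nat_lit 360, nat_lit 48, nat_lit 192, nat_lit 288])) (.node (nat_lit 21) (.leaf (nat_lit 14345) [nat_lit 72, nat_lit 192, nat_lit 144, nat_lit 240, nat_lit 240]) (.leaf (nat_lit 16392) [nat_lit 360,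 nat_lit 48, nat_lit 192, nat_lit 288, nat_lit 144]))))
noncomputable def r82 : WT := (.node (nat_lit 26) (.node (nat_lit 24) (.node (nat_lit 23) (.leaf (nat_lit 17410) [nat_lit 168, nat_lit 360, nat_lit 168, nat_lit 360, nat_lit 96]) (.leaf (nat_lit 13319) [nat_lit 168, nat_lit 216, nat_lit 288, nat_lit 192])) (.node (nat_lit 25) (.leaf (nat_lit 22531) [nat_lit 240, nat_lit 192, nat_lit 240, nat_lit 240, nat_lit 240, nat_lit 120, nat_lit 168]) (.leaf (nat_lit 19466) [nat_lit 120, nat_lit 48, nat_lit 96, nat_lit 240, nat_lit 216, nat_lit 264]))) (.node (nat_lit 28) (.node (nat_lit 27) (.leaf (nat_lit 38924) [nat_lit 360, nat_lit 168, nat_lit 336, nat_lit 288, nat_lit 144, nat_lit 192, nat_lit 240, nat_lit 240, nat_lit 216, nat_lit 312]) (.leaf (nat_lit 13314) [nat_lit 216, nat_lit 312, nat_lit 192, nat_lit 144])) (.node (nat_lit 29) (.leaf (nat_lit 14341) [nat_lit 240, nat_lit 240, nat_lit 72, nat_lit 192, nat_lit 144]) (.leaf (nat_lit 19465) [nat_lit 120, nat_lit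 72, nat_lit 96, nat_lit 240, nat_lit 192, nat_lit 264]))))
noncomputable def r83 : WT := (.node (nat_lit 35) (.node (nat_lit 32) (.node (nat_lit 31) (.leaf (nat_lit 16387) [nat_lit 168, nat_lit 312, nat_lit 216, nat_lit 72, nat_lit 336]) (.leaf (nat_lit 22541) [nat_lit 120, nat_lit 168, nat_lit 240, nat_lit 192, nat_lit 240, nat_lit 240, nat_lit 240])) (.node (nat_lit 33) (.leaf (nat_lit 13318) [nat_lit 192, nat_lit 144, nat_lit 216, nat_lit 312]) (.node (nat_lit 34) (.leaf (nat_lit 25607) [nat_lit 360, nat_lit 312, nat_lit 168, nat_lit 72, nat_lit 120, nat_lit 216, nat_lit 240]) (.leaf (nat_lit 20481) [nat_lit 168, nat_lit 312, nat_lit 336, nat_lit 288, nat_lit 144, nat_lit 120])))) (.node (nat_lit 37) (.node (nat_lit 36) (.leaf (nat_lit 18434) [nat_lit 96, nat_lit 72, nat_lit 312, nat_lit 48, nat_lit 120, nat_lit 48]) (.leaf (nat_lit 28673) [nat_lit 240, nat_lit 240, nat_lit 216, nat_lit 168, nat_lit 336, nat_lit 288, nat_lit 120, nat_lit 72])) (.node (nat_lit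 38) (.leaf (nat_lit 28684) [nat_lit 264, nat_lit 264, nat_lit 48, nat_lit 96, nat_lit 312, nat_lit 360, nat_lit 144, nat_lit 192]) (.node (nat_lit 39) (.leaf (nat_lit 19460) [nat_lit 240, nat_lit 216, nat_lit 264, nat_lit 120, nat_lit 48, nat_lit 96]) (.leaf (nat_lit 30726) [nat_lit 120, nat_lit 48, nat_lit 96, nat_lit 288, nat_lit 120, nat_lit 48, nat_lit 96, nat_lit 288])))))
noncomputable def r84 : WT := (.node (nat_lit 45) (.node (nat_lit 42) (.node (nat_lit 41) (.leaf (nat_lit 32770) [nat_lit 312, nat_lit 336, nat_lit 288, nat_lit 96, nat_lit 312, nat_lit 336, nat_lit 288, nat_lit 96]) (.leaf (nat_lit 20487) [nat_lit 288, nat_lit 144, nat_lit 120, nat_lit 168, nat_lit 312, nat_lit 336])) (.node (nat_lit 43) (.leaf (nat_lit 29703) [nat_lit 72, nat_lit 312, nat_lit 360, nat_lit 120, nat_lit 72, nat_lit 312, nat_lit 360, nat_lit 120]) (.node (nat_lit 44) (.leaf (nat_lit 19461) [nat_lit 192, nat_lit 264, nat_lit 120, nat_lit 72, nat_lit 96, nat_lit 240]) (.leaf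 (nat_lit 29702) [nat_lit 288, nat_lit 48, nat_lit 96, nat_lit 336, nat_lit 288, nat_lit 48, nat_lit 96, nat_lit 336])))) (.node (nat_lit 48) (.node (nat_lit 46) (.leaf (nat_lit 20482) [nat_lit 168, nat_lit 312, nat_lit 360, nat_lit 288, nat_lit 144, nat_lit 96]) (.node (nat_lit 47) (.leaf (nat_lit 29699) [nat_lit 360, nat_lit 120, nat_lit 72, nat_lit 312, nat_lit 360, nat_lit 120, nat_lit 72, nat_lit 312]) (.leaf (nat_lit 34832) [nat_lit 240, nat_lit 240, nat_lit 48, nat_lit 96, nat_lit 240, nat_lit 240, nat_lit 216, nat_lit 264, nat_lit 264, nat_lit 72]))) (.node (nat_lit 49) (.leaf (nat_lit 13316) [nat_lit 312, nat_lit 192, nat_lit 144, nat_lit 216]) (.node (nat_lit 50) (.leaf (nat_lit 14336) [nat_lit 48, nat_lit 264, nat_lit 264, nat_lit 168, nat_lit 216]) (.leaf (nat_lit 36866) [nat_lit 360, nat_lit 288, nat_lit 360, nat_lit 288, nat_lit 360, nat_lit 288, nat_lit 360, nat_lit 288, nat_lit 360, nat_lit 288])))))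
noncomputable def r85 : WT := (.node (nat_lit 56) (.node (nat_lit 53) (.node (nat_lit 52) (.leaf (nat_lit 13312) [nat_lit 144, nat_lit 216, nat_lit 312, nat_lit 192]) (.leaf (nat_lit 26628) [nat_lit 144, nat_lit 336, nat_lit 312, nat_lit 360, nat_lit 288, nat_lit 144, nat_lit 336])) (.node (nat_lit 54) (.leaf (nat_lit 21515) [nat_lit 120, nat_lit 336, nat_lit 312, nat_lit 336, nat_lit 288, nat_lit 360]) (.node (nat_lit 55) (.leaf (nat_lit 11265) [nat_lit 312, nat_lit 312, nat_lit 312]) (.leaf (nat_lit 25603) [nat_lit 216, nat_lit 240, nat_lit 360, nat_lit 312, nat_lit 168, nat_lit 72, nat_lit 120])))) (.node (nat_lit 59) (.node (nat_lit 57) (.leaf (nat_lit 25612) [nat_lit 96, nat_lit 48, nat_lit 144, nat_lit 288, nat_lit 336, nat_lit 264, nat_lit 192]) (.node (nat_lit 58) (.leaf (nat_lit 10240) [nat_lit 144, nat_lit 144, nat_lit 144]) (.leaf (nat_lit 9216) [nat_lit 336, nat_lit 336, nat_lit 336]))) (.node (nat_lit 60) (.leaf (nat_lit 32775) [nat_lit 120, nat_lit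 312, nat_lit 360, nat_lit 288, nat_lit 120, nat_lit 312, nat_lit 360, nat_lit 288]) (.node (nat_lit 61) (.leaf (nat_lit 16388) [nat_lit 288, nat_lit 144, nat_lit 360, nat_lit 48, nat_lit 192]) (.leaf (nat_lit 24576) [nat_lit 48, nat_lit 240, nat_lit 216, nat_lit 264, nat_lit 264, nat_lit 264, nat_lit 216])))))
noncomputable def r86 : WT := (.node (nat_lit 68) (.node (nat_lit 65) (.node (nat_lit 63) (.leaf (nat_lit 25611) [nat_lit 168, nat_lit 72, nat_lit 120, nat_lit 216, nat_lit 240, nat_lit 360, nat_lit 312]) (.node (nat_lit 64) (.leaf (nat_lit 29696) [nat_lit 48, nat_lit 96, nat_lit 336, nat_lit 288, nat_lit 48, nat_lit 96, nat_lit 336, nat_lit 288]) (.leaf (nat_lit 24578) [nat_lit 240, nat_lit 216, nat_lit 264, nat_lit 264, nat_lit 264, nat_lit 216, nat_lit 48]))) (.node (nat_lit 66) (.leaf (nat_lit 18440) [nat_lit 48, nat_lit 120, nat_lit 48, nat_lit 96, nat_lit 72, nat_lit 312]) (.node (nat_lit 67) (.leaf (nat_lit 20490) [nat_lit 144, nat_lit 96, nat_lit 168,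 nat_lit 312, nat_lit 360, nat_lit 288]) (.leaf (nat_lit 22529) [nat_lit 168, nat_lit 240, nat_lit 192, nat_lit 240, nat_lit 240, nat_lit 240, nat_lit 120])))) (.node (nat_lit 71) (.node (nat_lit 69) (.leaf (nat_lit 28676) [nat_lit 312, nat_lit 360, nat_lit 144, nat_lit 192, nat_lit 264, nat_lit 264, nat_lit 48, nat_lit 96]) (.node (nat_lit 70) (.leaf (nat_lit 27648) [nat_lit 144, nat_lit 240, nat_lit 240, nat_lit 240, nat_lit 216, nat_lit 264, nat_lit 264, nat_lit 264]) (.leaf (nat_lit 20489) [nat_lit 144, nat_lit 120, nat_lit 168, nat_lit 312, nat_lit 336, nat_lit 288]))) (.node (nat_lit 73) (.node (nat_lit 72) (.leaf (nat_lit 28677) [nat_lit 216, nat_lit 168, nat_lit 336, nat_lit 288, nat_lit 120, nat_lit 72, nat_lit 240, nat_lit 240]) (.leaf (nat_lit 28672) [nat_lit 48, nat_lit 96, nat_lit 312, nat_lit 360, nat_lit 144, nat_lit 192, nat_lit 264, nat_lit 264])) (.node (nat_lit 74) (.leaf (nat_lit 21504) [nat_lit 96, nat_lit 336, nat_lit 312, nat_lit 360, nat_lit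 288, nat_lit 360]) (.leaf (nat_lit 21506) [nat_lit 336, nat_lit 312, nat_lit 360, nat_lit 288, nat_lit 360, nat_lit 96])))))
noncomputable def r87 : WT := (.node (nat_lit 82) (.node (nat_lit 78) (.node (nat_lit 76) (.leaf (nat_lit 28674) [nat_lit 96, nat_lit 312, nat_lit 360, nat_lit 144, nat_lit 192, nat_lit 264, nat_lit 264, nat_lit 48]) (.node (nat_lit 77) (.leaf (nat_lit 21505) [nat_lit 336, nat_lit 312, nat_lit 336, nat_lit 288, nat_lit 360, nat_lit 120]) (.leaf (nat_lit 28680) [nat_lit 144, nat_lit 192, nat_lit 264, nat_lit 264, nat_lit 48, nat_lit 96, nat_lit 312, nat_lit 360]))) (.node (nat_lit 80) (.node (nat_lit 79) (.leaf (nat_lit 17415) [nat_lit 144, nat_lit 120, nat_lit 336, nat_lit 144, nat_lit 336]) (.leaf (nat_lit 14342) [nat_lit 168, nat_lit 216, nat_lit 48, nat_lit 264, nat_lit 264])) (.node (nat_lit 81) (.leaf (nat_lit 35855) [nat_lit 48, nat_lit 120, nat_lit 72, nat_lit 240, nat_lit 216, nat_lit 168, nat_lit 192, nat_lit 264, nat_lit 264, nat_lit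 264]) (.leaf (nat_lit 35858) [nat_lit 264, nat_lit 48, nat_lit 96, nat_lit 72, nat_lit 240, nat_lit 240, nat_lit 240, nat_lit 216, nat_lit 144, nat_lit 192])))) (.node (nat_lit 85) (.node (nat_lit 83) (.leaf (nat_lit 20480) [nat_lit 96, nat_lit 168, nat_lit 312, nat_lit 360, nat_lit 288, nat_lit 144]) (.node (nat_lit 84) (.leaf (nat_lit 13313) [nat_lit 216, nat_lit 288, nat_lit 192, nat_lit 168]) (.leaf (nat_lit 17408) [nat_lit 96, nat_lit 168, nat_lit 360, nat_lit 168, nat_lit 360]))) (.node (nat_lit 87) (.node (nat_lit 86) (.leaf (nat_lit 17412) [nat_lit 360, nat_lit 168, nat_lit 360, nat_lit 96, nat_lit 168]) (.leaf (nat_lit 32769) [nat_lit 312, nat_lit 360, nat_lit 288, nat_lit 120, nat_lit 312, nat_lit 360, nat_lit 288, nat_lit 120])) (.node (nat_lit 88) (.leaf (nat_lit 17413) [nat_lit 336, nat_lit 144, nat_lit 120, nat_lit 336, nat_lit 144]) (.leaf (nat_lit 17417) [nat_lit 120, nat_lit 336, nat_lit 144, nat_lit 336, nat_lit 144])))))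
noncomputable def r88 : WT := (.node (nat_lit 104) (.leaf (nat_lit 38931) [nat_lit 168, nat_lit 312, nat_lit 360, nat_lit 144, nat_lit 336, nat_lit 288, nat_lit 192, nat_lit 264, nat_lit 264, nat_lit 216]) (.leaf (nat_lit 37889) [nat_lit 192, nat_lit 264, nat_lit 264, nat_lit 168, nat_lit 336, nat_lit 312, nat_lit 360, nat_lit 144, nat_lit 120, nat_lit 72]))
noncomputable def r89 : WT := (.node (nat_lit 96) (.node (nat_lit 92) (.node (nat_lit 90) (.leaf (nat_lit 32768) [nat_lit 96, nat_lit 312, nat_lit 336, nat_lit 288, nat_lit 96, nat_lit 312, nat_lit 336, nat_lit 288]) (.node (nat_lit 91) (.leaf (nat_lit 18438) [nat_lit 312, nat_lit 48, nat_lit 120, nat_lit 48, nat_lit 96, nat_lit 72]) (.leaf (nat_lit 31745) [nat_lit 360, nat_lit 144, nat_lit 216, nat_lit 168, nat_lit 360, nat_lit 144, nat_lit 216, nat_lit 168]))) (.node (nat_lit 94) (.node (nat_lit 93) (.leaf (nat_lit 9217) [nat_lit 360, nat_lit 360, nat_lit 360]) (.leaf (nat_lit 30722) [nat_lit 96, nat_lit 288,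 nat_lit 120, nat_lit 48, nat_lit 96, nat_lit 288, nat_lit 120, nat_lit 48])) (.node (nat_lit 95) (.leaf (nat_lit 34830) [nat_lit 72, nat_lit 240, nat_lit 240, nat_lit 48, nat_lit 96, nat_lit 240, nat_lit 240, nat_lit 216, nat_lit 264, nat_lit 264]) (.leaf (nat_lit 25605) [nat_lit 240, nat_lit 360, nat_lit 312, nat_lit 168, nat_lit 72, nat_lit 120, nat_lit 216])))) (.node (nat_lit 100) (.node (nat_lit 98) (.node (nat_lit 97) (.leaf (nat_lit 37907) [nat_lit 72, nat_lit 192, nat_lit 264, nat_lit 264, nat_lit 168, nat_lit 336, nat_lit 312, nat_lit 360, nat_lit 144, nat_lit 120]) (.leaf (nat_lit 38926) [nat_lit 168, nat_lit 336, nat_lit 288, nat_lit 144, nat_lit 192, nat_lit 240, nat_lit 240, nat_lit 216, nat_lit 312, nat_lit 360])) (.node (nat_lit 99) (.leaf (nat_lit 38930) [nat_lit 288, nat_lit 144, nat_lit 192, nat_lit 240, nat_lit 240, nat_lit 216, nat_lit 312, nat_lit 360, nat_lit 168, nat_lit 336]) (.leaf (nat_lit 25609) [nat_lit 312, nat_lit 168, nat_lit 72, nat_lit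 120, nat_lit 216, nat_lit 240, nat_lit 360]))) (.node (nat_lit 102) (.node (nat_lit 101) (.leaf (nat_lit 37897) [nat_lit 336, nat_lit 312, nat_lit 360, nat_lit 144, nat_lit 120, nat_lit 72, nat_lit 192, nat_lit 264, nat_lit 264, nat_lit 168]) (.leaf (nat_lit 38921) [nat_lit 288, nat_lit 192, nat_lit 264, nat_lit 264, nat_lit 216, nat_lit 168, nat_lit 312, nat_lit 360, nat_lit 144, nat_lit 336])) (.node (nat_lit 103) (.leaf (nat_lit 37891) [nat_lit 264, nat_lit 264, nat_lit 168, nat_lit 336, nat_lit 312, nat_lit 360, nat_lit 144, nat_lit 120, nat_lit 72, nat_lit 192]) r88))))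
noncomputable def r90 : WT := (.node (nat_lit 113) (.leaf (nat_lit 30723) [nat_lit 312, nat_lit 120, nat_lit 72, nat_lit 96, nat_lit 312, nat_lit 120, nat_lit 72, nat_lit 96]) (.leaf (nat_lit 30721) [nat_lit 96, nat_lit 312, nat_lit 120, nat_lit 72, nat_lit 96, nat_lit 312, nat_lit 120, nat_lit 72]))
noncomputable def r91 : WT := (.node (nat_lit 122) (.leaf (nat_lit 15368) [nat_lit 312, nat_lit 48, nat_lit 264, nat_lit 264, nat_lit 216]) (.leaf (nat_lit 17411) [nat_lit 144, nat_lit 336, nat_lit 144, nat_lit 120, nat_lit 336]))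
noncomputable def r92 : WT := (.node (nat_lit 114) (.node (nat_lit 109) (.node (nat_lit 107) (.node (nat_lit 106) (.leaf (nat_lit 36864) [nat_lit 288, nat_lit 360, nat_lit 288, nat_lit 360, nat_lit 288, nat_lit 360, nat_lit 288, nat_lit 360, nat_lit 288, nat_lit 360]) (.leaf (nat_lit 34835) [nat_lit 72, nat_lit 264, nat_lit 264, nat_lit 48, nat_lit 240, nat_lit 240, nat_lit 192, nat_lit 264, nat_lit 264, nat_lit 120])) (.node (nat_lit 108) (.leaf (nat_lit 34821) [nat_lit 48, nat_lit 240, nat_lit 240, nat_lit 192, nat_lit 264, nat_lit 264, nat_lit 120, nat_lit 72, nat_lit 264, nat_lit 264]) (.leaf (nat_lit 33793) [nat_lit 96, nat_lit 72, nat_lit 96, nat_lit 72, nat_lit 96, nat_lit 72, nat_lit 96, nat_lit 72, nat_lit 96, nat_lit 72]))) (.node (nat_lit 111) (.node (nat_lit 110) (.leaf (nat_lit 7169) [nat_lit 72, nat_lit 72, nat_lit 72]) (.leaf (nat_lit 28679) [nat_lit 168, nat_lit 336, nat_lit 288, nat_lit 120, nat_lit 72, nat_lit 240, nat_lit 240, nat_lit 216])) (.node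 (nat_lit 112) (.leaf (nat_lit 28687) [nat_lit 72, nat_lit 240, nat_lit 240, nat_lit 216, nat_lit 168, nat_lit 336, nat_lit 288, nat_lit 120]) r90))) (.node (nat_lit 118) (.node (nat_lit 116) (.node (nat_lit 115) (.leaf (nat_lit 29701) [nat_lit 120, nat_lit 72, nat_lit 312, nat_lit 360, nat_lit 120, nat_lit 72, nat_lit 312, nat_lit 360]) (.leaf (nat_lit 29697) [nat_lit 312, nat_lit 360, nat_lit 120, nat_lit 72, nat_lit 312, nat_lit 360, nat_lit 120, nat_lit 72])) (.node (nat_lit 117) (.leaf (nat_lit 22533) [nat_lit 192, nat_lit 240, nat_lit 240, nat_lit 240, nat_lit 120, nat_lit 168, nat_lit 240]) (.leaf (nat_lit 15365) [nat_lit 240, nat_lit 240, nat_lit 72, nat_lit 288, nat_lit 192]))) (.node (nat_lit 120) (.node (nat_lit 119) (.leaf (nat_lit 15369) [nat_lit 72, nat_lit 288, nat_lit 192, nat_lit 240, nat_lit 240]) (.leaf (nat_lit 17414) [nat_lit 168, nat_lit 360, nat_lit 96, nat_lit 168, nat_lit 360])) (.node (nat_lit 121) (.leaf (nat_lit 15363) [nat_lit 192, nat_lit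 240, nat_lit 240, nat_lit 72, nat_lit 288]) r91))))
noncomputable def r93 : WT := (.node (nat_lit 131) (.leaf (nat_lit 23560) [nat_lit 240, nat_lit 240, nat_lit 120, nat_lit 48, nat_lit 96, nat_lit 72, nat_lit 192]) (.leaf (nat_lit 19459) [nat_lit 240, nat_lit 192, nat_lit 264, nat_lit 120, nat_lit 72, nat_lit 96]))
noncomputable def r94 : WT := (.node (nat_lit 138) (.leaf (nat_lit 13317) [nat_lit 192, nat_lit 168, nat_lit 216, nat_lit 288]) (.leaf (nat_lit 30725) [nat_lit 120, nat_lit 72, nat_lit 96, nat_lit 312, nat_lit 120, nat_lit 72, nat_lit 96, nat_lit 312]))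
noncomputable def r95 : WT := (.node (nat_lit 141) (.leaf (nat_lit 18442) [nat_lit 120, nat_lit 48, nat_lit 96, nat_lit 72, nat_lit 312, nat_lit 48]) (.leaf (nat_lit 18435) [nat_lit 72, nat_lit 288, nat_lit 48, nat_lit 120, nat_lit 72, nat_lit 96]))
noncomputable def r96 : WT := (.node (nat_lit 132) (.node (nat_lit 127) (.node (nat_lit 125) (.node (nat_lit 124) (.leaf (nat_lit 18432) [nat_lit 48, nat_lit 96, nat_lit 72, nat_lit 312, nat_lit 48, nat_lit 120]) (.leaf (nat_lit 15362) [nat_lit 264, nat_lit 264, nat_lit 216, nat_lit 312, nat_lit 48])) (.node (nat_lit 126) (.leaf (nat_lit 22528) [nat_lit 96, nat_lit 264, nat_lit 264, nat_lit 264, nat_lit 216, nat_lit 264, nat_lit 144]) (.leaf (nat_lit 18437) [nat_lit 288, nat_lit 48, nat_lit 120, nat_lit 72, nat_lit 96, nat_lit 72]))) (.node (nat_lit 129) (.node (nat_lit 128) (.leaf (nat_lit 22530) [nat_lit 264, nat_lit 264, nat_lit 264, nat_lit 216, nat_lit 264, nat_lit 144, nat_lit 96]) (.leaf (nat_lit 22535) [nat_lit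 240, nat_lit 240, nat_lit 240, nat_lit 120, nat_lit 168, nat_lit 240, nat_lit 192])) (.node (nat_lit 130) (.leaf (nat_lit 14344) [nat_lit 216, nat_lit 48, nat_lit 264, nat_lit 264, nat_lit 168]) r93))) (.node (nat_lit 136) (.node (nat_lit 134) (.node (nat_lit 133) (.leaf (nat_lit 19457) [nat_lit 96, nat_lit 240, nat_lit 192, nat_lit 264, nat_lit 120, nat_lit 72]) (.leaf (nat_lit 10241) [nat_lit 168, nat_lit 168, nat_lit 168])) (.node (nat_lit 135) (.leaf (nat_lit 11264) [nat_lit 288, nat_lit 288, nat_lit 288]) (.leaf (nat_lit 19462) [nat_lit 216, nat_lit 264, nat_lit 120, nat_lit 48, nat_lit 96, nat_lit 240]))) (.node (nat_lit 139) (.node (nat_lit 137) (.leaf (nat_lit 20488) [nat_lit 288, nat_lit 144, nat_lit 96, nat_lit 168, nat_lit 312, nat_lit 360]) r94) (.node (nat_lit 140) (.leaf (nat_lit 18433) [nat_lit 96, nat_lit 72, nat_lit 288, nat_lit 48, nat_lit 120, nat_lit 72]) r95))))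
noncomputable def r97 : WT := (.node (nat_lit 144) (.leaf (nat_lit 18443) [nat_lit 72, nat_lit 96, nat_lit 72, nat_lit 288, nat_lit 48, nat_lit 120]) (.leaf (nat_lit 30727) [nat_lit 72, nat_lit 96, nat_lit 312, nat_lit 120, nat_lit 72, nat_lit 96, nat_lit 312, nat_lit 120]))
noncomputable def r98 : WT := (.node (nat_lit 147) (.leaf (nat_lit 19464) [nat_lit 264, nat_lit 120, nat_lit 48, nat_lit 96, nat_lit 240, nat_lit 216]) (.leaf (nat_lit 18441) [nat_lit 120, nat_lit 72, nat_lit 96, nat_lit 72, nat_lit 288, nat_lit 48]))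
noncomputable def r99 : WT := (.node (nat_lit 150) (.leaf (nat_lit 37900) [nat_lit 144, nat_lit 240, nat_lit 240, nat_lit 216, nat_lit 48, nat_lit 96, nat_lit 168, nat_lit 336, nat_lit 288, nat_lit 360]) (.leaf (nat_lit 38919) [nat_lit 336, nat_lit 288, nat_lit 192, nat_lit 264, nat_lit 264, nat_lit 216, nat_lit 168, nat_lit 312, nat_lit 360, nat_lit 144]))
noncomputable def r100 : WT := (.node (nat_lit 152) (.leaf (nat_lit 38917) [nat_lit 144, nat_lit 336, nat_lit 288, nat_lit 192, nat_lit 264, nat_lit 264, nat_lit 216, nat_lit 168, nat_lit 312, nat_lit 360]) (.leaf (nat_lit 38928) [nat_lit 336, nat_lit 288, nat_lit 144, nat_lit 192, nat_lit 240, nat_lit 240, nat_lit 216, nat_lit 312, nat_lit 360, nat_lit 168]))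
noncomputable def r101 : WT := (.node (nat_lit 154) (.leaf (nat_lit 38920) [nat_lit 216, nat_lit 312, nat_lit 360, nat_lit 168, nat_lit 336, nat_lit 288, nat_lit 144, nat_lit 192, nat_lit 240, nat_lit 240]) (.leaf (nat_lit 38914) [nat_lit 192, nat_lit 240, nat_lit 240, nat_lit 216, nat_lit 312, nat_lit 360, nat_lit 168, nat_lit 336, nat_lit 288, nat_lit 144]))
noncomputable def r102 : WT := (.node (nat_lit 157) (.leaf (nat_lit 12289) [nat_lit 216, nat_lit 216, nat_lit 216]) (.leaf (nat_lit 37905) [nat_lit 120, nat_lit 72, nat_lit 192, nat_lit 264, nat_lit 264, nat_lit 168, nat_lit 336, nat_lit 312, nat_lit 360, nat_lit 144]))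
noncomputable def r103 : WT := (.node (nat_lit 159) (.leaf (nat_lit 37895) [nat_lit 168, nat_lit 336, nat_lit 312, nat_lit 360, nat_lit 144, nat_lit 120, nat_lit 72, nat_lit 192, nat_lit 264, nat_lit 264]) (.leaf (nat_lit 34822) [nat_lit 240, nat_lit 216, nat_lit 264, nat_lit 264, nat_lit 72, nat_lit 240, nat_lit 240, nat_lit 48, nat_lit 96, nat_lit 240]))
noncomputable def r104 : WT := (.node (nat_lit 161) (.leaf (nat_lit 37890) [nat_lit 96, nat_lit 168, nat_lit 336, nat_lit 288, nat_lit 360, nat_lit 144, nat_lit 240, nat_lit 240, nat_lit 216, nat_lit 48]) (.leaf (nat_lit 36865) [nat_lit 336, nat_lit 312, nat_lit 336, nat_lit 312, nat_lit 336, nat_lit 312, nat_lit 336, nat_lit 312, nat_lit 336, nat_lit 312]))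
noncomputable def r105 : WT := (.node (nat_lit 164) (.leaf (nat_lit 15360) [nat_lit 48, nat_lit 264, nat_lit 264, nat_lit 216, nat_lit 312]) (.leaf (nat_lit 35849) [nat_lit 264, nat_lit 264, nat_lit 264, nat_lit 48, nat_lit 120, nat_lit 72, nat_lit 240, nat_lit 216, nat_lit 168, nat_lit 192]))
noncomputable def r106 : WT := (.node (nat_lit 166) (.leaf (nat_lit 23559) [nat_lit 216, nat_lit 48, nat_lit 120, nat_lit 72, nat_lit 96, nat_lit 264, nat_lit 264]) (.leaf (nat_lit 35844) [nat_lit 72, nat_lit 240, nat_lit 240, nat_lit 240, nat_lit 216, nat_lit 144, nat_lit 192, nat_lit 264, nat_lit 48, nat_lit 96]))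
noncomputable def r107 : WT := (.node (nat_lit 168) (.leaf (nat_lit 34824) [nat_lit 216, nat_lit 264, nat_lit 264, nat_lit 72, nat_lit 240, nat_lit 240, nat_lit 48, nat_lit 96, nat_lit 240, nat_lit 240]) (.leaf (nat_lit 21512) [nat_lit 288, nat_lit 360, nat_lit 96, nat_lit 336, nat_lit 312, nat_lit 360]))
noncomputable def r108 : WT := (.node (nat_lit 155) (.node (nat_lit 148) (.node (nat_lit 145) (.node (nat_lit 143) (.leaf (nat_lit 18436) [nat_lit 72, nat_lit 312, nat_lit 48, nat_lit 120, nat_lit 48, nat_lit 96]) r97) (.node (nat_lit 146) (.leaf (nat_lit 31744) [nat_lit 144, nat_lit 192, nat_lit 168, nat_lit 336, nat_lit 144, nat_lit 192, nat_lit 168, nat_lit 336]) r98)) (.node (nat_lit 151) (.node (nat_lit 149) (.leaf (nat_lit 35843) [nat_lit 216, nat_lit 168, nat_lit 192, nat_lit 264, nat_lit 264, nat_lit 264, nat_lit 48, nat_lit 120, nat_lit 72, nat_lit 240]) r99) (.node (nat_lit 153) r100 r101))) (.node (nat_lit 162) (.node (nat_lit 158) (.node (nat_lit 156)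 (.leaf (nat_lit 38912) [nat_lit 144, nat_lit 192, nat_lit 240, nat_lit 240, nat_lit 216, nat_lit 312, nat_lit 360, nat_lit 168, nat_lit 336, nat_lit 288]) r102) (.node (nat_lit 160) r103 r104)) (.node (nat_lit 165) (.node (nat_lit 163) (.leaf (nat_lit 14339) [nat_lit 144, nat_lit 240, nat_lit 240, nat_lit 72, nat_lit 192]) r105) (.node (nat_lit 167) r106 r107))))
noncomputable def r109 : WT := (.node (nat_lit 171) (.leaf (nat_lit 25610) [nat_lit 192, nat_lit 96, nat_lit 48, nat_lit 144, nat_lit 288, nat_lit 336, nat_lit 264]) (.leaf (nat_lit 27649) [nat_lit 240, nat_lit 240, nat_lit 240, nat_lit 192, nat_lit 264, nat_lit 264, nat_lit 264, nat_lit 168]))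
noncomputable def r110 : WT := (.node (nat_lit 174) (.leaf (nat_lit 27650) [nat_lit 240, nat_lit 240, nat_lit 240, nat_lit 216, nat_lit 264, nat_lit 264, nat_lit 264, nat_lit 144]) (.leaf (nat_lit 27653) [nat_lit 240, nat_lit 192, nat_lit 264, nat_lit 264, nat_lit 264, nat_lit 168, nat_lit 240, nat_lit 240]))
noncomputable def r111 : WT := (.node (nat_lit 177) (.leaf (nat_lit 24577) [nat_lit 192, nat_lit 240, nat_lit 240, nat_lit 240, nat_lit 192, nat_lit 264, nat_lit 72]) (.leaf (nat_lit 24588) [nat_lit 216, nat_lit 48, nat_lit 240, nat_lit 216, nat_lit 264, nat_lit 264, nat_lit 264]))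
noncomputable def r112 : WT := (.node (nat_lit 179) (.leaf (nat_lit 21511) [nat_lit 288, nat_lit 360, nat_lit 120, nat_lit 336, nat_lit 312, nat_lit 336]) (.leaf (nat_lit 21510) [nat_lit 360, nat_lit 288, nat_lit 360, nat_lit 96, nat_lit 336, nat_lit 312]))
noncomputable def r113 : WT := (.node (nat_lit 181) (.leaf (nat_lit 21508) [nat_lit 312, nat_lit 360, nat_lit 288, nat_lit 360, nat_lit 96, nat_lit 336]) (.leaf (nat_lit 20485) [nat_lit 336, nat_lit 288, nat_lit 144, nat_lit 120, nat_lit 168, nat_lit 312]))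
noncomputable def r114 : WT := (.node (nat_lit 184) (.leaf (nat_lit 20484) [nat_lit 312, nat_lit 360, nat_lit 288, nat_lit 144, nat_lit 96, nat_lit 168]) (.leaf (nat_lit 28685) [nat_lit 120, nat_lit 72, nat_lit 240, nat_lit 240, nat_lit 216, nat_lit 168, nat_lit 336, nat_lit 288]))
noncomputable def r115 : WT := (.node (nat_lit 186) (.leaf (nat_lit 20483) [nat_lit 312, nat_lit 336, nat_lit 288, nat_lit 144, nat_lit 120, nat_lit 168]) (.leaf (nat_lit 24580) [nat_lit 216, nat_lit 264, nat_lit 264, nat_lit 264, nat_lit 216, nat_lit 48, nat_lit 240]))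
noncomputable def r116 : WT := (.node (nat_lit 188) (.leaf (nat_lit 26635) [nat_lit 360, nat_lit 168, nat_lit 312, nat_lit 336, nat_lit 288, nat_lit 360, nat_lit 168]) (.leaf (nat_lit 29700) [nat_lit 336, nat_lit 288, nat_lit 48, nat_lit 96, nat_lit 336, nat_lit 288, nat_lit 48, nat_lit 96]))
noncomputable def r117 : WT := (.node (nat_lit 190) (.leaf (nat_lit 37888) [nat_lit 48, nat_lit 96, nat_lit 168, nat_lit 336, nat_lit 288, nat_lit 360, nat_lit 144, nat_lit 240, nat_lit 240, nat_lit 216]) (.node (nat_lit 191) (.leaf (nat_lit 35841) [nat_lit 240, nat_lit 216, nat_lit 168, nat_lit 192, nat_lit 264, nat_lit 264, nat_lit 264, nat_lit 48, nat_lit 120, nat_lit 72]) (.leaf (nat_lit 26626) [nat_lit 336, nat_lit 144, nat_lit 336, nat_lit 312, nat_lit 360, nat_lit 288, nat_lit 144])))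
noncomputable def r118 : WT := (.node (nat_lit 193) (.leaf (nat_lit 22539) [nat_lit 240, nat_lit 120, nat_lit 168, nat_lit 240, nat_lit 192, nat_lit 240, nat_lit 240]) (.node (nat_lit 194) (.leaf (nat_lit 37906) [nat_lit 216, nat_lit 48, nat_lit 96, nat_lit 168, nat_lit 336, nat_lit 288, nat_lit 360, nat_lit 144, nat_lit 240, nat_lit 240]) (.leaf (nat_lit 37904) [nat_lit 240, nat_lit 216, nat_lit 48, nat_lit 96, nat_lit 168, nat_lit 336, nat_lit 288, nat_lit 360, nat_lit 144, nat_lit 240])))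
noncomputable def r119 : WT := (.node (nat_lit 196) (.leaf (nat_lit 36867) [nat_lit 312, nat_lit 336, nat_lit 312, nat_lit 336, nat_lit 312, nat_lit 336, nat_lit 312, nat_lit 336, nat_lit 312, nat_lit 336]) (.node (nat_lit 197) (.leaf (nat_lit 37902) [nat_lit 240, nat_lit 240, nat_lit 216, nat_lit 48, nat_lit 96, nat_lit 168, nat_lit 336, nat_lit 288, nat_lit 360, nat_lit 144]) (.leaf (nat_lit 37898) [nat_lit 360, nat_lit 144, nat_lit 240, nat_lit 240, nat_lit 216, nat_lit 48, nat_lit 96, nat_lit 168, nat_lit 336, nat_lit 288])))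
noncomputable def r120 : WT := (.node (nat_lit 200) (.node (nat_lit 199) (.leaf (nat_lit 37896) [nat_lit 288, nat_lit 360, nat_lit 144, nat_lit 240, nat_lit 240, nat_lit 216, nat_lit 48, nat_lit 96, nat_lit 168, nat_lit 336]) (.leaf (nat_lit 37892) [nat_lit 168, nat_lit 336, nat_lit 288, nat_lit 360, nat_lit 144, nat_lit 240, nat_lit 240, nat_lit 216, nat_lit 48, nat_lit 96])) (.node (nat_lit 201) (.leaf (nat_lit 26632) [nat_lit 312, nat_lit 360, nat_lit 288, nat_lit 144, nat_lit 336, nat_lit 144, nat_lit 336]) (.leaf (nat_lit 26624) [nat_lit 144, nat_lit 336, nat_lit 144, nat_lit 336, nat_lit 312, nat_lit 360, nat_lit 288])))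
noncomputable def r121 : WT := (.node (nat_lit 182) (.node (nat_lit 175) (.node (nat_lit 172) (.node (nat_lit 170) (.leaf (nat_lit 27658) [nat_lit 264, nat_lit 264, nat_lit 264, nat_lit 144, nat_lit 240, nat_lit 240, nat_lit 240, nat_lit 216]) r109) (.node (nat_lit 173) (.leaf (nat_lit 25602) [nat_lit 144, nat_lit 288, nat_lit 336, nat_lit 264, nat_lit 192, nat_lit 96, nat_lit 48]) r110)) (.node (nat_lit 178) (.node (nat_lit 176) (.leaf (nat_lit 22536) [nat_lit 216, nat_lit 264, nat_lit 144, nat_lit 96, nat_lit 264, nat_lit 264, nat_lit 264]) r111) (.node (nat_lit 180) r112 r113))) (.node (nat_lit 189) (.node (nat_lit 185) (.node (nat_lit 183) (.leaf (nat_lit 28681) [nat_lit 336, nat_lit 288, nat_lit 120, nat_lit 72, nat_lit 240, nat_lit 240, nat_lit 216, nat_lit 168]) r114) (.node (nat_lit 187) r115 r116)) (.node (nat_lit 195) (.node (nat_lit 192) r117 r118) (.node (nat_lit 198) r119 r120))))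
noncomputable def r122 : WT := (.node (nat_lit 203) (.leaf (nat_lit 24584) [nat_lit 264, nat_lit 264, nat_lit 216, nat_lit 48, nat_lit 240, nat_lit 216, nat_lit 264]) (.node (nat_lit 204) (.leaf (nat_lit 7168) [nat_lit 48, nat_lit 48, nat_lit 48]) (.leaf (nat_lit 38929) [nat_lit 216, nat_lit 168, nat_lit 312, nat_lit 360, nat_lit 144, nat_lit 336, nat_lit 288, nat_lit 192, nat_lit 264, nat_lit 264])))
noncomputable def r123 : WT := (.node (nat_lit 206) (.leaf (nat_lit 38925) [nat_lit 264, nat_lit 264, nat_lit 216, nat_lit 168, nat_lit 312, nat_lit 360, nat_lit 144, nat_lit 336, nat_lit 288, nat_lit 192]) (.node (nat_lit 207) (.leaf (nat_lit 38923) [nat_lit 192, nat_lit 264, nat_lit 264, nat_lit 216, nat_lit 168, nat_lit 312, nat_lit 360, nat_lit 144, nat_lit 336, nat_lit 288]) (.leaf (nat_lit 8192) [nat_lit 96, nat_lit 96, nat_lit 96])))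
noncomputable def r124 : WT := (.node (nat_lit 209) (.leaf (nat_lit 23563) [nat_lit 120, nat_lit 72, nat_lit 96, nat_lit 264, nat_lit 264, nat_lit 216, nat_lit 48]) (.node (nat_lit 210) (.leaf (nat_lit 38913) [nat_lit 312, nat_lit 360, nat_lit 144, nat_lit 336, nat_lit 288, nat_lit 192, nat_lit 264, nat_lit 264, nat_lit 216, nat_lit 168]) (.leaf (nat_lit 24582) [nat_lit 264, nat_lit 264, nat_lit 264, nat_lit 216, nat_lit 48, nat_lit 240, nat_lit 216])))
noncomputable def r125 : WT := (.node (nat_lit 213) (.node (nat_lit 212) (.leaf (nat_lit 23556) [nat_lit 72, nat_lit 192, nat_lit 240, nat_lit 240, nat_lit 120, nat_lit 48, nat_lit 96]) (.leaf (nat_lit 12288) [nat_lit 192, nat_lit 192, nat_lit 192])) (.node (nat_lit 214) (.leaf (nat_lit 38916) [nat_lit 240, nat_lit 240, nat_lit 216, nat_lit 312, nat_lit 360, nat_lit 168, nat_lit 336, nat_lit 288, nat_lit 144, nat_lit 192]) (.leaf (nat_lit 23564) [nat_lit 120, nat_lit 48, nat_lit 96, nat_lit 72, nat_lit 192, nat_lit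 240, nat_lit 240])))
noncomputable def r126 : WT := (.node (nat_lit 216) (.leaf (nat_lit 25600) [nat_lit 48, nat_lit 144, nat_lit 288, nat_lit 336, nat_lit 264, nat_lit 192, nat_lit 96]) (.node (nat_lit 217) (.leaf (nat_lit 25608) [nat_lit 264, nat_lit 192, nat_lit 96, nat_lit 48, nat_lit 144, nat_lit 288, nat_lit 336]) (.leaf (nat_lit 37903) [nat_lit 144, nat_lit 120, nat_lit 72, nat_lit 192, nat_lit 264, nat_lit 264, nat_lit 168, nat_lit 336, nat_lit 312, nat_lit 360])))
noncomputable def r127 : WT := (.node (nat_lit 219) (.leaf (nat_lit 13315) [nat_lit 288, nat_lit 192, nat_lit 168, nat_lit 216]) (.node (nat_lit 220) (.leaf (nat_lit 28678) [nat_lit 360, nat_lit 144, nat_lit 192, nat_lit 264, nat_lit 264, nat_lit 48, nat_lit 96, nat_lit 312]) (.leaf (nat_lit 34816) [nat_lit 48, nat_lit 96, nat_lit 240, nat_lit 240, nat_lit 216, nat_lit 264, nat_lit 264, nat_lit 72, nat_lit 240, nat_lit 240])))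
noncomputable def r128 : WT := (.node (nat_lit 222) (.leaf (nat_lit 33795) [nat_lit 72, nat_lit 96, nat_lit 72, nat_lit 96, nat_lit 72, nat_lit 96, nat_lit 72, nat_lit 96, nat_lit 72, nat_lit 96]) (.node (nat_lit 223) (.leaf (nat_lit 33794) [nat_lit 120, nat_lit 48, nat_lit 120, nat_lit 48, nat_lit 120, nat_lit 48, nat_lit 120, nat_lit 48, nat_lit 120, nat_lit 48]) (.leaf (nat_lit 21509) [nat_lit 336, nat_lit 288, nat_lit 360, nat_lit 120, nat_lit 336, nat_lit 312])))
noncomputable def r129 : WT := (.node (nat_lit 226) (.node (nat_lit 225) (.leaf (nat_lit 32773) [nat_lit 288, nat_lit 120, nat_lit 312, nat_lit 360, nat_lit 288, nat_lit 120, nat_lit 312, nat_lit 360]) (.leaf (nat_lit 32771) [nat_lit 360, nat_lit 288, nat_lit 120, nat_lit 312, nat_lit 360, nat_lit 288, nat_lit 120, nat_lit 312])) (.node (nat_lit 227) (.leaf (nat_lit 21507) [nat_lit 312, nat_lit 336, nat_lit 288, nat_lit 360, nat_lit 120, nat_lit 336]) (.leaf (nat_lit 21514) [nat_lit 360, nat_lit 96,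 nat_lit 336, nat_lit 312, nat_lit 360, nat_lit 288])))
noncomputable def r130 : WT := (.node (nat_lit 229) (.leaf (nat_lit 34818) [nat_lit 96, nat_lit 240, nat_lit 240, nat_lit 216, nat_lit 264, nat_lit 264, nat_lit 72, nat_lit 240, nat_lit 240, nat_lit 48]) (.node (nat_lit 230) (.leaf (nat_lit 28682) [nat_lit 192, nat_lit 264, nat_lit 264, nat_lit 48, nat_lit 96, nat_lit 312, nat_lit 360, nat_lit 144]) (.leaf (nat_lit 20491) [nat_lit 120, nat_lit 168, nat_lit 312, nat_lit 336, nat_lit 288, nat_lit 144])))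
noncomputable def r131 : WT := (.node (nat_lit 232) (.leaf (nat_lit 18439) [nat_lit 48, nat_lit 120, nat_lit 72, nat_lit 96, nat_lit 72, nat_lit 288]) (.node (nat_lit 233) (.leaf (nat_lit 29698) [nat_lit 96, nat_lit 336, nat_lit 288, nat_lit 48, nat_lit 96, nat_lit 336, nat_lit 288, nat_lit 48]) (.leaf (nat_lit 19458) [nat_lit 96, nat_lit 240, nat_lit 216, nat_lit 264, nat_lit 120, nat_lit 48])))
noncomputable def r132 : WT := (.node (nat_lit 235) (.leaf (nat_lit 20486) [nat_lit 360, nat_lit 288, nat_lit 144, nat_lit 96, nat_lit 168, nat_lit 312]) (.node (nat_lit 236) (.leaf (nat_lit 30720) [nat_lit 48, nat_lit 96, nat_lit 288, nat_lit 120, nat_lit 48, nat_lit 96, nat_lit 288, nat_lit 120]) (.leaf (nat_lit 19467) [nat_lit 72, nat_lit 96, nat_lit 240, nat_lit 192, nat_lit 264, nat_lit 120])))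
noncomputable def r133 : WT := (.node (nat_lit 239) (.node (nat_lit 238) (.leaf (nat_lit 35846) [nat_lit 240, nat_lit 240, nat_lit 240, nat_lit 216, nat_lit 144, nat_lit 192, nat_lit 264, nat_lit 48, nat_lit 96, nat_lit 72]) (.leaf (nat_lit 35857) [nat_lit 120, nat_lit 72, nat_lit 240, nat_lit 216, nat_lit 168, nat_lit 192, nat_lit 264, nat_lit 264, nat_lit 264, nat_lit 48])) (.node (nat_lit 240) (.leaf (nat_lit 26636) [nat_lit 288, nat_lit 144, nat_lit 336, nat_lit 144, nat_lit 336, nat_lit 312, nat_lit 360]) (.leaf (nat_lit 35847) [nat_lit 192, nat_lit 264, nat_lit 264, nat_lit 264, nat_lit 48, nat_lit 120, nat_lit 72, nat_lit 240, nat_lit 216, nat_lit 168])))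
noncomputable def r134 : WT := (.node (nat_lit 242) (.leaf (nat_lit 35845) [nat_lit 168, nat_lit 192, nat_lit 264, nat_lit 264, nat_lit 264, nat_lit 48, nat_lit 120, nat_lit 72, nat_lit 240, nat_lit 216]) (.node (nat_lit 243) (.leaf (nat_lit 19463) [nat_lit 264, nat_lit 120, nat_lit 72, nat_lit 96, nat_lit 240, nat_lit 192]) (.leaf (nat_lit 15364) [nat_lit 264, nat_lit 216, nat_lit 312, nat_lit 48, nat_lit 264])))
noncomputable def r135 : WT := (.node (nat_lit 245) (.leaf (nat_lit 35856) [nat_lit 192, nat_lit 264, nat_lit 48, nat_lit 96, nat_lit 72, nat_lit 240, nat_lit 240, nat_lit 240, nat_lit 216, nat_lit 144]) (.node (nat_lit 246) (.leaf (nat_lit 35852) [nat_lit 216, nat_lit 144, nat_lit 192, nat_lit 264, nat_lit 48, nat_lit 96, nat_lit 72, nat_lit 240, nat_lit 240, nat_lit 240]) (.leaf (nat_lit 26634) [nat_lit 360, nat_lit 288, nat_lit 144, nat_lit 336, nat_lit 144, nat_lit 336, nat_lit 312])))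
noncomputable def r136 : WT := (.node (nat_lit 248) (.leaf (nat_lit 35840) [nat_lit 48, nat_lit 96, nat_lit 72, nat_lit 240, nat_lit 240, nat_lit 240, nat_lit 216, nat_lit 144, nat_lit 192, nat_lit 264]) (.node (nat_lit 249) (.leaf (nat_lit 15366) [nat_lit 216, nat_lit 312, nat_lit 48, nat_lit 264, nat_lit 264]) (.leaf (nat_lit 34823) [nat_lit 240, nat_lit 240, nat_lit 192, nat_lit 264, nat_lit 264, nat_lit 120, nat_lit 72, nat_lit 264, nat_lit 264, nat_lit 48])))
noncomputable def r137 : WT := (.node (nat_lit 252) (.node (nat_lit 251) (.leaf (nat_lit 15361) [nat_lit 288, nat_lit 192, nat_lit 240, nat_lit 240, nat_lit 72]) (.leaf (nat_lit 27660) [nat_lit 264, nat_lit 264, nat_lit 144, nat_lit 240, nat_lit 240, nat_lit 240, nat_lit 216, nat_lit 264])) (.node (nat_lit 253) (.leaf (nat_lit 27662) [nat_lit 264, nat_lit 144, nat_lit 240, nat_lit 240, nat_lit 240, nat_lit 216, nat_lit 264, nat_lit 264]) (.leaf (nat_lit 34820) [nat_lit 240, nat_lit 240, nat_lit 216, nat_lit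 264, nat_lit 264, nat_lit 72, nat_lit 240, nat_lit 240, nat_lit 48, nat_lit 96])))
noncomputable def r138 : WT := (.node (nat_lit 228) (.node (nat_lit 215) (.node (nat_lit 208) (.node (nat_lit 205) r122 r123) (.node (nat_lit 211) r124 r125)) (.node (nat_lit 221) (.node (nat_lit 218) r126 r127) (.node (nat_lit 224) r128 r129))) (.node (nat_lit 241) (.node (nat_lit 234) (.node (nat_lit 231) r130 r131) (.node (nat_lit 237) r132 r133)) (.node (nat_lit 247) (.node (nat_lit 244) r134 r135) (.node (nat_lit 250) r136 r137))))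
noncomputable def wP : WT := (.node (nat_lit 62) (.node (nat_lit 22) (.node (nat_lit 8) (.node (nat_lit 4) r78 r79) (.node (nat_lit 14) r80 r81)) (.node (nat_lit 40) (.node (nat_lit 30) r82 r83) (.node (nat_lit 51) r84 r85))) (.node (nat_lit 123) (.node (nat_lit 89) (.node (nat_lit 75) r86 r87) (.node (nat_lit 105) r89 r92)) (.node (nat_lit 169) (.node (nat_lit 142) r96 r108) (.node (nat_lit 202) r121 r138))))
noncomputable def P : Par := ⟨tb, nat_lit 432, nat_lit 0xffffffffffffffffffffffffffffffffffffffffffffffffffffffffffffffffffffffffffffffffffffffffffffffffffffffffffff, nat_lit 12646, nat_lit 16777215, nat_lit 16383, nat_lit 24, nat_lit 14, nat_lit 10626,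
  [nat_lit 48, nat_lit 72, nat_lit 96, nat_lit 120, nat_lit 144, nat_lit 168, nat_lit 192, nat_lit 216, nat_lit 240, nat_lit 264, nat_lit 288, nat_lit 312, nat_lit 336, nat_lit 360, nat_lit 384, nat_lit 408], [nat_lit 48, nat_lit 384], wP,
  (.cons (nat_lit 48) w0 (.cons (nat_lit 72) w1 (.cons (nat_lit 96) w2 (.cons (nat_lit 120) w3 (.cons (nat_lit 144) w4 (.cons (nat_lit 168) w5 (.cons (nat_lit 192) w6 (.cons (nat_lit 216) w7 (.cons (nat_lit 240) w8 (.cons (nat_lit 264) w9 (.cons (nat_lit 288) w10 (.cons (nat_lit 312) w11 (.cons (nat_lit 336) w12 (.cons (nat_lit 360) w13 .nil)))))))))))))),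
  (.cons (nat_lit 384) w14 (.cons (nat_lit 408) w15 .nil))⟩

end Cfsg.Agent.Lib.TCM242
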