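import Cfsg.Agent.Lib.TCM243D0

set_option autoImplicit false
set_option maxRecDepth 100000

namespace Cfsg.Agent.Lib.TCM243
open Cfsg.Agent.Lib.TCCore

noncomputable def n0 : T := (.node (nat_lit 29) l0 (.node (nat_lit 58) l1 l2))
noncomputable def n1 : T := (.node (nat_lit 145) (.node (nat_lit 116) l3 l4) (.node (nat_lit 174) l5 l6))
noncomputable def n2 : T := (.node (nat_lit 232) l7 (.node (nat_lit 261) l8 l9))
noncomputable def n3 : T := (.node (nat_lit 348) (.node (nat_lit 319) l10 l11) (.node (nat_lit 377) l12 l13))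
noncomputable def n4 : T := (.node (nat_lit 435) l14 (.node (nat_lit 464) l15 l16))
noncomputable def n5 : T := (.node (nat_lit 551) (.node (nat_lit 522) l17 l18) (.node (nat_lit 580) l19 l20))
noncomputable def n6 : T := (.node (nat_lit 667) (.node (nat_lit 638) l21 l22) (.node (nat_lit 696) l23 l24))
noncomputable def n7 : T := (.node (nat_lit 783) (.node (nat_lit 754) l25 l26) (.node (nat_lit 812) l27 l28))
noncomputable def n8 : T := (.node (nat_lit 870) l29 (.node (nat_lit 899) l30 l31))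
noncomputable def n9 : T := (.node (nat_lit 986) (.node (nat_lit 957) l32 l33) (.node (nat_lit 1015) l34 l35))
noncomputable def n10 : T := (.node (nat_lit 1102) (.node (nat_lit 1073) l36 l37) (.node (nat_lit 1131) l38 l39))
noncomputable def n11 : T := (.node (nat_lit 1218) (.node (nat_lit 1189) l40 l41) (.node (nat_lit 1247) l42 l43))
noncomputable def n12 : T := (.node (nat_lit 1305) l44 (.node (nat_lit 1334) l45 l46))
noncomputable def n13 : T := (.node (nat_lit 1421) (.node (nat_lit 1392) l47 l48) (.node (nat_lit 1450) l49 l50))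
noncomputable def n14 : T := (.node (nat_lit 1537) (.node (nat_lit 1508) l51 l52) (.node (nat_lit 1566) l53 l54))
noncomputable def n15 : T := (.node (nat_lit 1653) (.node (nat_lit 1624) l55 l56) (.node (nat_lit 1682) l57 l58))
noncomputable def n16 : T := (.node (nat_lit 1740) l59 (.node (nat_lit 1769) l60 l61))
noncomputable def n17 : T := (.node (nat_lit 1856) (.node (nat_lit 1827) l62 l63) (.node (nat_lit 1885) l64 l65))
noncomputable def n18 : T := (.node (nat_lit 1972) (.node (nat_lit 1943) l66 l67) (.node (nat_lit 2001) l68 l69))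
noncomputable def n19 : T := (.node (nat_lit 2088) (.node (nat_lit 2059) l70 l71) (.node (nat_lit 2117) l72 l73))
noncomputable def n20 : T := (.node (nat_lit 2175) l74 (.node (nat_lit 2204) l75 l76))
noncomputable def n21 : T := (.node (nat_lit 2291) (.node (nat_lit 2262) l77 l78) (.node (nat_lit 2320) l79 l80))
noncomputable def n22 : T := (.node (nat_lit 2407) (.node (nat_lit 2378) l81 l82) (.node (nat_lit 2436) l83 l84))
noncomputable def n23 : T := (.node (nat_lit 2523) (.node (nat_lit 2494) l85 l86) (.node (nat_lit 2552) l87 l88))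
noncomputable def n24 : T := (.node (nat_lit 2610) l89 (.node (nat_lit 2639) l90 l91))
noncomputable def n25 : T := (.node (nat_lit 2726) (.node (nat_lit 2697) l92 l93) (.node (nat_lit 2755) l94 l95))
noncomputable def n26 : T := (.node (nat_lit 2842) (.node (nat_lit 2813) l96 l97) (.node (nat_lit 2871) l98 l99))
noncomputable def n27 : T := (.node (nat_lit 2958) (.node (nat_lit 2929) l100 l101) (.node (nat_lit 2987) l102 l103))
noncomputable def n28 : T := (.node (nat_lit 3045) l104 (.node (nat_lit 3074) l105 l106))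
noncomputable def n29 : T := (.node (nat_lit 3161) (.node (nat_lit 3132) l107 l108) (.node (nat_lit 3190) l109 l110))
noncomputable def n30 : T := (.node (nat_lit 3277) (.node (nat_lit 3248) l111 l112) (.node (nat_lit 3306) l113 l114))
noncomputable def n31 : T := (.node (nat_lit 3393) (.node (nat_lit 3364) l115 l116) (.node (nat_lit 3422) l117 l118))
noncomputable def tb : T := (.node (nat_lit 1711) (.node (nat_lit 841) (.node (nat_lit 406) (.node (nat_lit 203) (.node (nat_lit 87) n0 n1) (.node (nat_lit 290) n2 n3)) (.node (nat_lit 609) (.node (nat_lit 493) n4 n5) (.node (nat_lit 725) n6 n7))) (.node (nat_lit 1276) (.node (nat_lit 1044) (.node (nat_lit 928) n8 n9) (.node (nat_lit 1160) n10 n11)) (.node (nat_lit 1479) (.node (nat_lit 1363) n12 n13) (.node (nat_lit 1595) n14 n15)))) (.node (nat_lit 2581) (.node (nat_lit 2146) (.node (nat_lit 1914) (.node (nat_lit 1798) n16 n17) (.node (nat_lit 2030) n18 n19)) (.node (nat_lit 2349) (.node (nat_lit 2233) n20 n21) (.node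 (nat_lit 2465) n22 n23))) (.node (nat_lit 3016) (.node (nat_lit 2784) (.node (nat_lit 2668) n24 n25) (.node (nat_lit 2900) n26 n27)) (.node (nat_lit 3219) (.node (nat_lit 3103) n28 n29) (.node (nat_lit 3335) n30 n31)))))
noncomputable def r0 : WT := (.node (nat_lit 11) (.leaf (nat_lit 36870) [nat_lit 575, nat_lit 299, nat_lit 391, nat_lit 207, nat_lit 46, nat_lit 138, nat_lit 207]) (.leaf (nat_lit 36864) [nat_lit 138, nat_lit 207, nat_lit 46, nat_lit 575, nat_lit 299, nat_lit 391, nat_lit 207]))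
noncomputable def r1 : WT := (.node (nat_lit 6) (.node (nat_lit 5) (.leaf (nat_lit 24576) [nat_lit 138, nat_lit 207, nat_lit 529]) (.leaf (nat_lit 23552) [nat_lit 161, nat_lit 598, nat_lit 207])) (.node (nat_lit 8) (.node (nat_lit 7) (.leaf (nat_lit 26624) [nat_lit 138, nat_lit 46, nat_lit 138, nat_lit 207]) (.leaf (nat_lit 26628) [nat_lit 138, nat_lit 207, nat_lit 46, nat_lit 138])) (.node (nat_lit 9) (.leaf (nat_lit 33792) [nat_lit 92, nat_lit 322, nat_lit 460, nat_lit 138, nat_lit 207]) (.node (nat_lit 10) (.leaf (nat_lit 27648) [nat_lit 322, nat_lit 414, nat_lit 138, nat_lit 207]) r0))))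
noncomputable def w0 : WT := (.node (nat_lit 1) (.leaf (nat_lit 0) [nat_lit 69]) (.node (nat_lit 2) (.leaf (nat_lit 16384) [nat_lit 46, nat_lit 46]) (.node (nat_lit 3) (.leaf (nat_lit 21504) [nat_lit 230, nat_lit 46, nat_lit 230]) (.node (nat_lit 4) (.leaf (nat_lit 19456) [nat_lit 92, nat_lit 46, nat_lit 92]) r1))))
noncomputable def r2 : WT := (.node (nat_lit 4) (.leaf (nat_lit 19459) [nat_lit 115, nat_lit 69, nat_lit 115]) (.leaf (nat_lit 26633) [nat_lit 184, nat_lit 161, nat_lit 69, nat_lit 161]))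
noncomputable def r3 : WT := (.leaf (nat_lit 40965) [nat_lit 184, nat_lit 161, nat_lit 69, nat_lit 184, nat_lit 161, nat_lit 69, nat_lit 184, nat_lit 161, nat_lit 69, nat_lit 184, nat_lit 161, nat_lit 69, nat_lit 184, nat_lit 161])
noncomputable def r4 : WT := (.node (nat_lit 12) (.leaf (nat_lit 36879) [nat_lit 184, nat_lit 368, nat_lit 276, nat_lit 552, nat_lit 69, nat_lit 184, nat_lit 161]) r3)
noncomputable def r5 : WT := (.node (nat_lit 7) (.node (nat_lit 6) (.leaf (nat_lit 24583) [nat_lit 506, nat_lit 184, nat_lit 161]) (.leaf (nat_lit 33803) [nat_lit 184, nat_lit 161, nat_lit 483, nat_lit 345, nat_lit 115])) (.node (nat_lit 9) (.node (nat_lit 8) (.leaf (nat_lit 26629) [nat_lit 161, nat_lit 69, nat_lit 184, nat_lit 161]) (.leaf (nat_lit 27657) [nat_lit 184, nat_lit 161, nat_lit 437, nat_lit 345])) (.node (nat_lit 10) (.leaf (nat_lit 23559) [nat_lit 184, nat_lit 621, nat_lit 138]) (.node (nat_lit 11) (.leaf (nat_lit 36873) [nat_lit 184, nat_lit 161, nat_lit 69,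 nat_lit 184, nat_lit 368, nat_lit 276, nat_lit 552]) r4))))
noncomputable def w1 : WT := (.node (nat_lit 1) (.leaf (nat_lit 2) [nat_lit 46]) (.node (nat_lit 2) (.leaf (nat_lit 16385) [nat_lit 69, nat_lit 69]) (.node (nat_lit 3) (.leaf (nat_lit 21507) [nat_lit 253, nat_lit 69, nat_lit 253]) (.node (nat_lit 5) r2 r5))))
noncomputable def r6 : WT := (.node (nat_lit 6) (.leaf (nat_lit 30720) [nat_lit 322, nat_lit 437, nat_lit 437, nat_lit 184, nat_lit 345]) (.leaf (nat_lit 37888) [nat_lit 322, nat_lit 460, nat_lit 138, nat_lit 207, nat_lit 437, nat_lit 184, nat_lit 345]))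
noncomputable def w2 : WT := (.node (nat_lit 1) (.leaf (nat_lit 1024) [nat_lit 115]) (.node (nat_lit 3) (.node (nat_lit 2) (.leaf (nat_lit 15360) [nat_lit 92, nat_lit 92]) (.leaf (nat_lit 20480) [nat_lit 230, nat_lit 92, nat_lit 230])) (.node (nat_lit 4) (.leaf (nat_lit 19458) [nat_lit 46, nat_lit 92, nat_lit 46]) (.node (nat_lit 5) (.leaf (nat_lit 33794) [nat_lit 322, nat_lit 460, nat_lit 138, nat_lit 207, nat_lit 46]) r6))))
noncomputable def w3 : WT := (.node (nat_lit 1) (.leaf (nat_lit 1026) [nat_lit 92]) (.node (nat_lit 3) (.node (nat_lit 2) (.leaf (nat_lit 15361) [nat_lit 115, nat_lit 115]) (.leaf (nat_lit 19457) [nat_lit 69, nat_lit 115, nat_lit 69])) (.node (nat_lit 4) (.leaf (nat_lit 20483) [nat_lit 253, nat_lit 115, nat_lit 253]) (.node (nat_lit 5) (.leaf (nat_lit 33801) [nat_lit 69, nat_lit 184, nat_lit 161, nat_lit 483, nat_lit 345]) (.leaf (nat_lit 30731) [nat_lit 322, nat_lit 207, nat_lit 414, nat_lit 414, nat_lit 345])))))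
noncomputable def r7 : WT := (.leaf (nat_lit 40962) [nat_lit 207, nat_lit 46, nat_lit 138, nat_lit 207, nat_lit 46, nat_lit 138, nat_lit 207, nat_lit 46, nat_lit 138, nat_lit 207, nat_lit 46, nat_lit 138, nat_lit 207, nat_lit 46])
noncomputable def r8 : WT := (.node (nat_lit 7) (.node (nat_lit 6) (.leaf (nat_lit 26630) [nat_lit 207, nat_lit 46, nat_lit 138, nat_lit 46]) (.leaf (nat_lit 27654) [nat_lit 207, nat_lit 46, nat_lit 322, nat_lit 414])) (.node (nat_lit 9) (.node (nat_lit 8) (.leaf (nat_lit 28672) [nat_lit 207, nat_lit 345, nat_lit 230, nat_lit 276]) (.leaf (nat_lit 33800) [nat_lit 207, nat_lit 46, nat_lit 92, nat_lit 322, nat_lit 460])) (.node (nat_lit 11) (.node (nat_lit 10) (.leaf (nat_lit 18432) [nat_lit 207, nat_lit 529, nat_lit 575]) (.leaf (nat_lit 37894) [nat_lit 207, nat_lit 437, nat_lit 184, nat_lit 345, nat_lit 92, nat_lit 322, nat_lit 460])) (.node (nat_lit 12) (.leaf (nat_lit 35840) [nat_lit 207, nat_lit 414, nat_lit 414, nat_lit 529, nat_lit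 391, nat_lit 621]) r7))))
noncomputable def w4 : WT := (.node (nat_lit 1) (.leaf (nat_lit 2048) [nat_lit 161]) (.node (nat_lit 2) (.leaf (nat_lit 26626) [nat_lit 46, nat_lit 138, nat_lit 207, nat_lit 46]) (.node (nat_lit 4) (.node (nat_lit 3) (.leaf (nat_lit 23557) [nat_lit 69, nat_lit 184, nat_lit 621]) (.leaf (nat_lit 17408) [nat_lit 207, nat_lit 414, nat_lit 460])) (.node (nat_lit 5) (.leaf (nat_lit 24578) [nat_lit 207, nat_lit 529, nat_lit 46]) r8))))
noncomputable def r9 : WT := (.node (nat_lit 5) (.leaf (nat_lit 24581) [nat_lit 69, nat_lit 506, nat_lit 184]) (.leaf (nat_lit 26627) [nat_lit 69, nat_lit 161, nat_lit 69, nat_lit 184]))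
noncomputable def r10 : WT := (.leaf (nat_lit 40963) [nat_lit 69, nat_lit 184, nat_lit 161, nat_lit 69, nat_lit 184, nat_lit 161, nat_lit 69, nat_lit 184, nat_lit 161, nat_lit 69, nat_lit 184, nat_lit 161, nat_lit 69, nat_lit 184])
noncomputable def r11 : WT := (.node (nat_lit 13) (.leaf (nat_lit 37897) [nat_lit 483, nat_lit 345, nat_lit 115, nat_lit 322, nat_lit 207, nat_lit 414, nat_lit 184]) r10)
noncomputable def r12 : WT := (.node (nat_lit 7) (.leaf (nat_lit 27651) [nat_lit 437, nat_lit 345, nat_lit 69, nat_lit 184]) (.node (nat_lit 9) (.node (nat_lit 8) (.leaf (nat_lit 28681) [nat_lit 299, nat_lit 253, nat_lit 322, nat_lit 184]) (.leaf (nat_lit 18439) [nat_lit 552, nat_lit 506, nat_lit 184])) (.node (nat_lit 11) (.node (nat_lit 10) (.leaf (nat_lit 33795) [nat_lit 483, nat_lit 345, nat_lit 115, nat_lit 69, nat_lit 184]) (.leaf (nat_lit 35853) [nat_lit 598, nat_lit 368, nat_lit 506, nat_lit 437, nat_lit 437, nat_lit 184])) (.node (nat_lit 12) (.leaf (nat_lit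 36877) [nat_lit 69, nat_lit 184, nat_lit 368, nat_lit 276, nat_lit 552, nat_lit 69, nat_lit 184]) r11))))
noncomputable def w5 : WT := (.node (nat_lit 1) (.leaf (nat_lit 2050) [nat_lit 138]) (.node (nat_lit 2) (.leaf (nat_lit 26631) [nat_lit 69, nat_lit 184, nat_lit 161, nat_lit 69]) (.node (nat_lit 4) (.node (nat_lit 3) (.leaf (nat_lit 23554) [nat_lit 598, nat_lit 207, nat_lit 46]) (.leaf (nat_lit 17415) [nat_lit 483, nat_lit 437, nat_lit 184])) (.node (nat_lit 6) r9 r12))))
noncomputable def r13 : WT := (.leaf (nat_lit 40961) [nat_lit 161, nat_lit 69, nat_lit 184, nat_lit 161, nat_lit 69, nat_lit 184, nat_lit 161, nat_lit 69, nat_lit 184, nat_lit 161, nat_lit 69, nat_lit 184, nat_lit 161, nat_lit 69])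
noncomputable def r14 : WT := (.node (nat_lit 6) r13 (.leaf (nat_lit 26625) [nat_lit 161, nat_lit 69, nat_lit 161, nat_lit 69]))
noncomputable def r15 : WT := (.node (nat_lit 8) (.leaf (nat_lit 37900) [nat_lit 345, nat_lit 92, nat_lit 322, nat_lit 460, nat_lit 138, nat_lit 207, nat_lit 437]) (.leaf (nat_lit 28679) [nat_lit 161, nat_lit 299, nat_lit 253, nat_lit 322]))
noncomputable def r16 : WT := (.node (nat_lit 10) (.leaf (nat_lit 27649) [nat_lit 161, nat_lit 437, nat_lit 345, nat_lit 69]) (.node (nat_lit 11) (.leaf (nat_lit 38928) [nat_lit 460, nat_lit 138, nat_lit 207, nat_lit 345, nat_lit 575, nat_lit 299, nat_lit 506, nat_lit 437, nat_lit 437]) (.leaf (nat_lit 18437) [nat_lit 161, nat_lit 552, nat_lit 506])))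
noncomputable def r17 : WT := (.node (nat_lit 19) (.leaf (nat_lit 38929) [nat_lit 161, nat_lit 483, nat_lit 207, nat_lit 414, nat_lit 414, nat_lit 529, nat_lit 276, nat_lit 552, nat_lit 322]) (.leaf (nat_lit 32768) [nat_lit 621, nat_lit 299, nat_lit 575, nat_lit 299, nat_lit 506]))
noncomputable def r18 : WT := (.node (nat_lit 14) (.node (nat_lit 13) (.leaf (nat_lit 33793) [nat_lit 161, nat_lit 483, nat_lit 345, nat_lit 115, nat_lit 69]) (.leaf (nat_lit 35851) [nat_lit 161, nat_lit 598, nat_lit 368, nat_lit 506, nat_lit 437, nat_lit 437])) (.node (nat_lit 16) (.node (nat_lit 15) (.leaf (nat_lit 17413) [nat_lit 161, nat_lit 483, nat_lit 437]) (.leaf (nat_lit 25600) [nat_lit 368, nat_lit 230, nat_lit 506])) (.node (nat_lit 17) (.leaf (nat_lit 37895) [nat_lit 161, nat_lit 483, nat_lit 345, nat_lit 115, nat_lit 322, nat_lit 207, nat_lit 414]) (.node (nat_lit 18) (.leaf (nat_lit 36865) [nat_lit 368, nat_lit 276, nat_lit 552, nat_lit 69, nat_lit 184, nat_lit 161, nat_lit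 69]) r17))))
noncomputable def w6 : WT := (.node (nat_lit 1) (.leaf (nat_lit 3072) [nat_lit 207]) (.node (nat_lit 5) (.node (nat_lit 3) (.node (nat_lit 2) (.leaf (nat_lit 30728) [nat_lit 345, nat_lit 92, nat_lit 322, nat_lit 437, nat_lit 437]) (.leaf (nat_lit 24579) [nat_lit 161, nat_lit 69, nat_lit 506])) (.node (nat_lit 4) (.leaf (nat_lit 23553) [nat_lit 621, nat_lit 138, nat_lit 69]) (.leaf (nat_lit 36875) [nat_lit 161, nat_lit 69, nat_lit 184, nat_lit 368, nat_lit 276, nat_lit 552, nat_lit 69]))) (.node (nat_lit 9) (.node (nat_lit 7) r14 r15) (.node (nat_lit 12) r16 r18))))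
noncomputable def r19 : WT := (.leaf (nat_lit 40964) [nat_lit 46, nat_lit 138, nat_lit 207, nat_lit 46, nat_lit 138, nat_lit 207, nat_lit 46, nat_lit 138, nat_lit 207, nat_lit 46, nat_lit 138, nat_lit 207, nat_lit 46, nat_lit 138])
noncomputable def r20 : WT := (.node (nat_lit 6) (.leaf (nat_lit 26632) [nat_lit 46, nat_lit 138, nat_lit 46, nat_lit 138]) (.leaf (nat_lit 27656) [nat_lit 46, nat_lit 322, nat_lit 414, nat_lit 138]))
noncomputable def r21 : WT := (.node (nat_lit 8) (.leaf (nat_lit 24580) [nat_lit 529, nat_lit 46, nat_lit 138]) (.leaf (nat_lit 37891) [nat_lit 414, nat_lit 184, nat_lit 161, nat_lit 483, nat_lit 345, nat_lit 115, nat_lit 322]))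
noncomputable def r22 : WT := (.node (nat_lit 10) (.leaf (nat_lit 33802) [nat_lit 46, nat_lit 92, nat_lit 322, nat_lit 460, nat_lit 138]) (.node (nat_lit 11) (.leaf (nat_lit 18434) [nat_lit 529, nat_lit 575, nat_lit 138]) (.leaf (nat_lit 28674) [nat_lit 345, nat_lit 230, nat_lit 276, nat_lit 138])))
noncomputable def r23 : WT := (.node (nat_lit 19) (.leaf (nat_lit 38914) [nat_lit 345, nat_lit 575, nat_lit 299, nat_lit 506, nat_lit 437, nat_lit 437, nat_lit 184, nat_lit 460, nat_lit 138]) (.leaf (nat_lit 32779) [nat_lit 529, nat_lit 276, nat_lit 552, nat_lit 276, nat_lit 598]))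
noncomputable def r24 : WT := (.node (nat_lit 14) (.node (nat_lit 13) (.leaf (nat_lit 36878) [nat_lit 46, nat_lit 138, nat_lit 207, nat_lit 46, nat_lit 575, nat_lit 299, nat_lit 391]) (.leaf (nat_lit 38915) [nat_lit 414, nat_lit 414, nat_lit 529, nat_lit 276, nat_lit 552, nat_lit 322, nat_lit 184, nat_lit 161, nat_lit 483])) (.node (nat_lit 16) (.node (nat_lit 15) (.leaf (nat_lit 35842) [nat_lit 414, nat_lit 414, nat_lit 529, nat_lit 391, nat_lit 621, nat_lit 138]) (.leaf (nat_lit 17410) [nat_lit 414, nat_lit 460, nat_lit 138])) (.node (nat_lit 17) (.leaf (nat_lit 25607) [nat_lit 529, nat_lit 253, nat_lit 391]) (.node (nat_lit 18) (.leaf (nat_lit 37896) [nat_lit 437, nat_lit 184, nat_lit 345, nat_lit 92, nat_lit 322, nat_lit 460, nat_lit 138]) r23))))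
noncomputable def w7 : WT := (.node (nat_lit 1) (.leaf (nat_lit 3074) [nat_lit 184]) (.node (nat_lit 5) (.node (nat_lit 3) (.node (nat_lit 2) (.leaf (nat_lit 30723) [nat_lit 414, nat_lit 414, nat_lit 345, nat_lit 115, nat_lit 322]) (.leaf (nat_lit 23558) [nat_lit 46, nat_lit 161, nat_lit 598])) (.node (nat_lit 4) r19 (.leaf (nat_lit 36868) [nat_lit 46, nat_lit 575, nat_lit 299, nat_lit 391, nat_lit 207, nat_lit 46, nat_lit 138]))) (.node (nat_lit 9) (.node (nat_lit 7) r20 r21) (.node (nat_lit 12) r22 r24))))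
noncomputable def r25 : WT := (.node (nat_lit 5) (.leaf (nat_lit 20482) [nat_lit 92, nat_lit 230, nat_lit 92]) (.node (nat_lit 6) (.leaf (nat_lit 28678) [nat_lit 276, nat_lit 138, nat_lit 207, nat_lit 345]) (.leaf (nat_lit 31744) [nat_lit 276, nat_lit 552, nat_lit 276, nat_lit 598, nat_lit 368])))
noncomputable def w8 : WT := (.node (nat_lit 1) (.leaf (nat_lit 4096) [nat_lit 253]) (.node (nat_lit 2) (.leaf (nat_lit 14336) [nat_lit 230, nat_lit 230]) (.node (nat_lit 3) (.leaf (nat_lit 25604) [nat_lit 506, nat_lit 184, nat_lit 368]) (.node (nat_lit 4) (.leaf (nat_lit 21506) [nat_lit 46, nat_lit 230, nat_lit 46]) r25))))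
noncomputable def r26 : WT := (.node (nat_lit 5) (.leaf (nat_lit 25603) [nat_lit 391, nat_lit 207, nat_lit 529]) (.leaf (nat_lit 28675) [nat_lit 322, nat_lit 184, nat_lit 161, nat_lit 299]))
noncomputable def w9 : WT := (.node (nat_lit 1) (.leaf (nat_lit 4098) [nat_lit 230]) (.node (nat_lit 2) (.leaf (nat_lit 14337) [nat_lit 253, nat_lit 253]) (.node (nat_lit 3) (.leaf (nat_lit 21505) [nat_lit 69, nat_lit 253, nat_lit 69]) (.node (nat_lit 4) (.leaf (nat_lit 20481) [nat_lit 115, nat_lit 253, nat_lit 115]) r26))))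
noncomputable def r27 : WT := (.node (nat_lit 4) (.leaf (nat_lit 34816) [nat_lit 483, nat_lit 345, nat_lit 276, nat_lit 483, nat_lit 345]) (.leaf (nat_lit 36869) [nat_lit 552, nat_lit 69, nat_lit 184, nat_lit 161, nat_lit 69, nat_lit 184, nat_lit 368]))
noncomputable def r28 : WT := (.node (nat_lit 6) (.leaf (nat_lit 31750) [nat_lit 598, nat_lit 368, nat_lit 230, nat_lit 276, nat_lit 552]) (.node (nat_lit 8) (.node (nat_lit 7) (.leaf (nat_lit 31746) [nat_lit 552, nat_lit 276, nat_lit 598, nat_lit 368, nat_lit 230]) (.leaf (nat_lit 32775) [nat_lit 598, nat_lit 207, nat_lit 529, nat_lit 276, nat_lit 552])) (.node (nat_lit 9) (.leaf (nat_lit 32771) [nat_lit 552, nat_lit 276, nat_lit 598, nat_lit 207, nat_lit 529]) (.node (nat_lit 10) (.leaf (nat_lit 39936) [nat_lit 552, nat_lit 276, nat_lit 552, nat_lit 276, nat_lit 552, nat_lit 276, nat_lit 552, nat_lit 276, nat_lit 552]) (.leaf (nat_lit 38923) [nat_lit 552, nat_lit 322, nat_lit 184, nat_lit 161, nat_lit 483, nat_lit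 207, nat_lit 414, nat_lit 414, nat_lit 529])))))
noncomputable def w10 : WT := (.node (nat_lit 1) (.leaf (nat_lit 5120) [nat_lit 299]) (.node (nat_lit 2) (.leaf (nat_lit 13312) [nat_lit 276]) (.node (nat_lit 3) (.leaf (nat_lit 28680) [nat_lit 138, nat_lit 207, nat_lit 345, nat_lit 230]) (.node (nat_lit 5) r27 r28))))
noncomputable def r29 : WT := (.node (nat_lit 5) (.leaf (nat_lit 34821) [nat_lit 322, nat_lit 460, nat_lit 299, nat_lit 322, nat_lit 460]) (.leaf (nat_lit 31749) [nat_lit 575, nat_lit 299, nat_lit 253, nat_lit 391, nat_lit 621]))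
noncomputable def r30 : WT := (.node (nat_lit 8) (.node (nat_lit 7) (.leaf (nat_lit 31753) [nat_lit 253, nat_lit 391, nat_lit 621, nat_lit 299, nat_lit 575]) (.leaf (nat_lit 32776) [nat_lit 506, nat_lit 184, nat_lit 621, nat_lit 299, nat_lit 575])) (.node (nat_lit 9) (.leaf (nat_lit 38920) [nat_lit 506, nat_lit 437, nat_lit 437, nat_lit 184, nat_lit 460, nat_lit 138, nat_lit 207, nat_lit 345, nat_lit 575]) (.node (nat_lit 10) (.leaf (nat_lit 32772) [nat_lit 575, nat_lit 299, nat_lit 506, nat_lit 184, nat_lit 621]) (.leaf (nat_lit 39939) [nat_lit 575, nat_lit 299, nat_lit 575, nat_lit 299, nat_lit 575, nat_lit 299, nat_lit 575, nat_lit 299, nat_lit 575]))))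
noncomputable def w11 : WT := (.node (nat_lit 1) (.leaf (nat_lit 5122) [nat_lit 276]) (.node (nat_lit 2) (.leaf (nat_lit 13313) [nat_lit 299]) (.node (nat_lit 4) (.node (nat_lit 3) (.leaf (nat_lit 28673) [nat_lit 253, nat_lit 322, nat_lit 184, nat_lit 161]) (.leaf (nat_lit 36874) [nat_lit 391, nat_lit 207, nat_lit 46, nat_lit 138, nat_lit 207, nat_lit 46, nat_lit 575])) (.node (nat_lit 6) r29 r30))))
noncomputable def r31 : WT := (.node (nat_lit 6) (.leaf (nat_lit 27650) [nat_lit 414, nat_lit 138, nat_lit 207, nat_lit 46]) (.leaf (nat_lit 22528) [nat_lit 460, nat_lit 322, nat_lit 460]))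
noncomputable def r32 : WT := (.node (nat_lit 8) (.leaf (nat_lit 38927) [nat_lit 184, nat_lit 161, nat_lit 483, nat_lit 207, nat_lit 414, nat_lit 414, nat_lit 529, nat_lit 276, nat_lit 552]) (.node (nat_lit 9) (.leaf (nat_lit 37889) [nat_lit 207, nat_lit 414, nat_lit 184, nat_lit 161, nat_lit 483, nat_lit 345, nat_lit 115]) (.leaf (nat_lit 34817) [nat_lit 460, nat_lit 299, nat_lit 322, nat_lit 460, nat_lit 299])))
noncomputable def w12 : WT := (.node (nat_lit 1) (.leaf (nat_lit 6144) [nat_lit 345]) (.node (nat_lit 3) (.node (nat_lit 2) (.leaf (nat_lit 28677) [nat_lit 184, nat_lit 161, nat_lit 299, nat_lit 253]) (.leaf (nat_lit 33796) [nat_lit 460, nat_lit 138, nat_lit 207, nat_lit 46, nat_lit 92])) (.node (nat_lit 5) (.node (nat_lit 4) (.leaf (nat_lit 30722) [nat_lit 437, nat_lit 437, nat_lit 184, nat_lit 345, nat_lit 92]) (.leaf (nat_lit 30721) [nat_lit 207, nat_lit 414, nat_lit 414, nat_lit 345, nat_lit 115])) (.node (nat_lit 7) r31 r32))))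
noncomputable def r33 : WT := (.node (nat_lit 5) (.leaf (nat_lit 33799) [nat_lit 115, nat_lit 69, nat_lit 184, nat_lit 161, nat_lit 483]) (.leaf (nat_lit 30729) [nat_lit 115, nat_lit 322, nat_lit 207, nat_lit 414, nat_lit 414]))
noncomputable def r34 : WT := (.node (nat_lit 8) (.leaf (nat_lit 37902) [nat_lit 92, nat_lit 322, nat_lit 460, nat_lit 138, nat_lit 207, nat_lit 437, nat_lit 184]) (.node (nat_lit 9) (.leaf (nat_lit 38916) [nat_lit 575, nat_lit 299, nat_lit 506, nat_lit 437, nat_lit 437, nat_lit 184, nat_lit 460, nat_lit 138, nat_lit 207]) (.leaf (nat_lit 34820) [nat_lit 276, nat_lit 483, nat_lit 345, nat_lit 276, nat_lit 483])))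
noncomputable def w13 : WT := (.node (nat_lit 1) (.leaf (nat_lit 6146) [nat_lit 322]) (.node (nat_lit 3) (.node (nat_lit 2) (.leaf (nat_lit 28676) [nat_lit 230, nat_lit 276, nat_lit 138, nat_lit 207]) (.leaf (nat_lit 27655) [nat_lit 69, nat_lit 184, nat_lit 161, nat_lit 437])) (.node (nat_lit 6) (.node (nat_lit 4) (.leaf (nat_lit 30730) [nat_lit 92, nat_lit 322, nat_lit 437, nat_lit 437, nat_lit 184]) r33) (.node (nat_lit 7) (.leaf (nat_lit 22531) [nat_lit 483, nat_lit 345, nat_lit 483]) r34))))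
noncomputable def w14 : WT := (.node (nat_lit 1) (.leaf (nat_lit 7168) [nat_lit 391]) (.node (nat_lit 2) (.leaf (nat_lit 25602) [nat_lit 230, nat_lit 506, nat_lit 184]) (.node (nat_lit 3) (.leaf (nat_lit 36867) [nat_lit 276, nat_lit 552, nat_lit 69, nat_lit 184, nat_lit 161, nat_lit 69, nat_lit 184]) (.node (nat_lit 4) (.leaf (nat_lit 31754) [nat_lit 230, nat_lit 276, nat_lit 552, nat_lit 276, nat_lit 598]) (.leaf (nat_lit 35843) [nat_lit 506, nat_lit 437, nat_lit 437, nat_lit 184, nat_lit 161, nat_lit 598])))))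
noncomputable def w15 : WT := (.node (nat_lit 1) (.leaf (nat_lit 7170) [nat_lit 368]) (.node (nat_lit 2) (.leaf (nat_lit 25605) [nat_lit 207, nat_lit 529, nat_lit 253]) (.node (nat_lit 3) (.leaf (nat_lit 36876) [nat_lit 207, nat_lit 46, nat_lit 138, nat_lit 207, nat_lit 46, nat_lit 575, nat_lit 299]) (.node (nat_lit 4) (.leaf (nat_lit 31745) [nat_lit 621, nat_lit 299, nat_lit 575, nat_lit 299, nat_lit 253]) (.leaf (nat_lit 35850) [nat_lit 621, nat_lit 138, nat_lit 207, nat_lit 414, nat_lit 414, nat_lit 529])))))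
noncomputable def r35 : WT := (.node (nat_lit 6) (.leaf (nat_lit 30727) [nat_lit 345, nat_lit 115, nat_lit 322, nat_lit 207, nat_lit 414]) (.leaf (nat_lit 35846) [nat_lit 529, nat_lit 391, nat_lit 621, nat_lit 138, nat_lit 207, nat_lit 414]))
noncomputable def r36 : WT := (.node (nat_lit 8) (.leaf (nat_lit 37893) [nat_lit 184, nat_lit 161, nat_lit 483, nat_lit 345, nat_lit 115, nat_lit 322, nat_lit 207]) (.node (nat_lit 9) (.leaf (nat_lit 35844) [nat_lit 414, nat_lit 529, nat_lit 391, nat_lit 621, nat_lit 138, nat_lit 207]) (.node (nat_lit 10) (.leaf (nat_lit 38917) [nat_lit 414, nat_lit 529, nat_lit 276, nat_lit 552, nat_lit 322, nat_lit 184, nat_lit 161, nat_lit 483, nat_lit 207]) (.leaf (nat_lit 38919) [nat_lit 529, nat_lit 276, nat_lit 552, nat_lit 322, nat_lit 184, nat_lit 161, nat_lit 483, nat_lit 207, nat_lit 414]))))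
noncomputable def w16 : WT := (.node (nat_lit 1) (.leaf (nat_lit 8192) [nat_lit 437]) (.node (nat_lit 3) (.node (nat_lit 2) (.leaf (nat_lit 27652) [nat_lit 138, nat_lit 207, nat_lit 46, nat_lit 322]) (.leaf (nat_lit 17412) [nat_lit 460, nat_lit 138, nat_lit 207])) (.node (nat_lit 5) (.node (nat_lit 4) (.leaf (nat_lit 29696) [nat_lit 414, nat_lit 414, nat_lit 414, nat_lit 414]) (.leaf (nat_lit 30725) [nat_lit 414, nat_lit 345, nat_lit 115, nat_lit 322, nat_lit 207])) (.node (nat_lit 7) r35 r36))))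
noncomputable def r37 : WT := (.node (nat_lit 6) (.leaf (nat_lit 37898) [nat_lit 184, nat_lit 345, nat_lit 92, nat_lit 322, nat_lit 460, nat_lit 138, nat_lit 207]) (.leaf (nat_lit 30724) [nat_lit 437, nat_lit 184, nat_lit 345, nat_lit 92, nat_lit 322]))
noncomputable def r38 : WT := (.node (nat_lit 8) (.leaf (nat_lit 35849) [nat_lit 184, nat_lit 161, nat_lit 598, nat_lit 368, nat_lit 506, nat_lit 437]) (.node (nat_lit 9) (.leaf (nat_lit 30726) [nat_lit 184, nat_lit 345, nat_lit 92, nat_lit 322, nat_lit 437]) (.node (nat_lit 10) (.leaf (nat_lit 38924) [nat_lit 437, nat_lit 184, nat_lit 460, nat_lit 138, nat_lit 207, nat_lit 345, nat_lit 575, nat_lit 299, nat_lit 506]) (.leaf (nat_lit 38926) [nat_lit 184, nat_lit 460, nat_lit 138, nat_lit 207, nat_lit 345, nat_lit 575, nat_lit 299, nat_lit 506, nat_lit 437]))))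
noncomputable def w17 : WT := (.node (nat_lit 1) (.leaf (nat_lit 8194) [nat_lit 414]) (.node (nat_lit 3) (.node (nat_lit 2) (.leaf (nat_lit 27653) [nat_lit 345, nat_lit 69, nat_lit 184, nat_lit 161]) (.leaf (nat_lit 17411) [nat_lit 184, nat_lit 161, nat_lit 483])) (.node (nat_lit 5) (.node (nat_lit 4) (.leaf (nat_lit 29697) [nat_lit 437, nat_lit 437, nat_lit 437, nat_lit 437]) (.leaf (nat_lit 35847) [nat_lit 437, nat_lit 184, nat_lit 161, nat_lit 598, nat_lit 368, nat_lit 506])) (.node (nat_lit 7) r37 r38))))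
noncomputable def r39 : WT := (.node (nat_lit 5) (.leaf (nat_lit 34819) [nat_lit 299, nat_lit 322, nat_lit 460, nat_lit 299, nat_lit 322]) (.node (nat_lit 6) (.leaf (nat_lit 38930) [nat_lit 138, nat_lit 207, nat_lit 345, nat_lit 575, nat_lit 299, nat_lit 506, nat_lit 437, nat_lit 437, nat_lit 184]) (.leaf (nat_lit 37892) [nat_lit 138, nat_lit 207, nat_lit 437, nat_lit 184, nat_lit 345, nat_lit 92, nat_lit 322])))
noncomputable def w18 : WT := (.node (nat_lit 1) (.leaf (nat_lit 9216) [nat_lit 483]) (.node (nat_lit 2) (.leaf (nat_lit 17414) [nat_lit 138, nat_lit 207, nat_lit 414]) (.node (nat_lit 3) (.leaf (nat_lit 22530) [nat_lit 322, nat_lit 460, nat_lit 322]) (.node (nat_lit 4) (.leaf (nat_lit 33798) [nat_lit 138, nat_lit 207, nat_lit 46, nat_lit 92, nat_lit 322]) r39))))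
noncomputable def r40 : WT := (.node (nat_lit 4) (.leaf (nat_lit 33797) [nat_lit 345, nat_lit 115, nat_lit 69, nat_lit 184, nat_lit 161]) (.leaf (nat_lit 34818) [nat_lit 345, nat_lit 276, nat_lit 483, nat_lit 345, nat_lit 276]))
noncomputable def r41 : WT := (.node (nat_lit 6) (.leaf (nat_lit 38913) [nat_lit 207, nat_lit 414, nat_lit 414, nat_lit 529, nat_lit 276, nat_lit 552, nat_lit 322, nat_lit 184, nat_lit 161]) (.leaf (nat_lit 37899) [nat_lit 345, nat_lit 115, nat_lit 322, nat_lit 207, nat_lit 414, nat_lit 184, nat_lit 161]))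
noncomputable def w19 : WT := (.node (nat_lit 1) (.leaf (nat_lit 9218) [nat_lit 460]) (.node (nat_lit 2) (.leaf (nat_lit 17409) [nat_lit 437, nat_lit 184, nat_lit 161]) (.node (nat_lit 3) (.leaf (nat_lit 22529) [nat_lit 345, nat_lit 483, nat_lit 345]) (.node (nat_lit 5) r40 r41))))
noncomputable def r42 : WT := (.node (nat_lit 6) (.leaf (nat_lit 25606) [nat_lit 184, nat_lit 368, nat_lit 230]) (.leaf (nat_lit 38922) [nat_lit 437, nat_lit 437, nat_lit 184, nat_lit 460, nat_lit 138, nat_lit 207, nat_lit 345, nat_lit 575, nat_lit 299]))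
noncomputable def w20 : WT := (.node (nat_lit 1) (.leaf (nat_lit 10240) [nat_lit 529]) (.node (nat_lit 2) (.leaf (nat_lit 24577) [nat_lit 184, nat_lit 161, nat_lit 69]) (.node (nat_lit 4) (.node (nat_lit 3) (.leaf (nat_lit 35845) [nat_lit 437, nat_lit 437, nat_lit 184, nat_lit 161, nat_lit 598, nat_lit 368]) (.leaf (nat_lit 18435) [nat_lit 184, nat_lit 161, nat_lit 552])) (.node (nat_lit 5) (.leaf (nat_lit 32778) [nat_lit 184, nat_lit 621, nat_lit 299, nat_lit 575, nat_lit 299]) r42))))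
noncomputable def r43 : WT := (.node (nat_lit 6) (.leaf (nat_lit 38921) [nat_lit 276, nat_lit 552, nat_lit 322, nat_lit 184, nat_lit 161, nat_lit 483, nat_lit 207, nat_lit 414, nat_lit 414]) (.leaf (nat_lit 32769) [nat_lit 276, nat_lit 552, nat_lit 276, nat_lit 598, nat_lit 207]))
noncomputable def w21 : WT := (.node (nat_lit 1) (.leaf (nat_lit 10242) [nat_lit 506]) (.node (nat_lit 2) (.leaf (nat_lit 24582) [nat_lit 46, nat_lit 138, nat_lit 207]) (.node (nat_lit 4) (.node (nat_lit 3) (.leaf (nat_lit 18436) [nat_lit 575, nat_lit 138, nat_lit 207]) (.leaf (nat_lit 35848) [nat_lit 391, nat_lit 621, nat_lit 138, nat_lit 207, nat_lit 414, nat_lit 414])) (.node (nat_lit 5) (.leaf (nat_lit 25601) [nat_lit 253, nat_lit 391, nat_lit 207]) r43))))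
noncomputable def r44 : WT := (.node (nat_lit 6) (.leaf (nat_lit 38925) [nat_lit 322, nat_lit 184, nat_lit 161, nat_lit 483, nat_lit 207, nat_lit 414, nat_lit 414, nat_lit 529, nat_lit 276]) (.leaf (nat_lit 32773) [nat_lit 276, nat_lit 598, nat_lit 207, nat_lit 529, nat_lit 276]))
noncomputable def w22 : WT := (.node (nat_lit 1) (.leaf (nat_lit 11264) [nat_lit 575]) (.node (nat_lit 2) (.leaf (nat_lit 18433) [nat_lit 506, nat_lit 184, nat_lit 161]) (.node (nat_lit 4) (.node (nat_lit 3) (.leaf (nat_lit 36871) [nat_lit 69, nat_lit 184, nat_lit 161, nat_lit 69, nat_lit 184, nat_lit 368, nat_lit 276]) (.leaf (nat_lit 31748) [nat_lit 276, nat_lit 598, nat_lit 368, nat_lit 230, nat_lit 276])) (.node (nat_lit 5) (.leaf (nat_lit 39938) [nat_lit 276, nat_lit 552, nat_lit 276, nat_lit 552, nat_lit 276, nat_lit 552, nat_lit 276, nat_lit 552, nat_lit 276]) r44))))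
noncomputable def r45 : WT := (.node (nat_lit 5) (.leaf (nat_lit 38918) [nat_lit 299, nat_lit 506, nat_lit 437, nat_lit 437, nat_lit 184, nat_lit 460, nat_lit 138, nat_lit 207, nat_lit 345]) (.node (nat_lit 6) (.leaf (nat_lit 39937) [nat_lit 299, nat_lit 575, nat_lit 299, nat_lit 575, nat_lit 299, nat_lit 575, nat_lit 299, nat_lit 575, nat_lit 299]) (.leaf (nat_lit 32774) [nat_lit 299, nat_lit 506, nat_lit 184, nat_lit 621, nat_lit 299])))
noncomputable def w23 : WT := (.node (nat_lit 1) (.leaf (nat_lit 11266) [nat_lit 552]) (.node (nat_lit 2) (.leaf (nat_lit 18438) [nat_lit 138, nat_lit 207, nat_lit 529]) (.node (nat_lit 3) (.leaf (nat_lit 31751) [nat_lit 299, nat_lit 253, nat_lit 391, nat_lit 621, nat_lit 299]) (.node (nat_lit 4) (.leaf (nat_lit 36872) [nat_lit 299, nat_lit 391, nat_lit 207, nat_lit 46, nat_lit 138, nat_lit 207, nat_lit 46]) r45))))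
noncomputable def w24 : WT := (.node (nat_lit 1) (.leaf (nat_lit 12288) [nat_lit 621]) (.node (nat_lit 2) (.leaf (nat_lit 23556) [nat_lit 207, nat_lit 46, nat_lit 161]) (.node (nat_lit 3) (.leaf (nat_lit 32777) [nat_lit 207, nat_lit 529, nat_lit 276, nat_lit 552, nat_lit 276]) (.node (nat_lit 4) (.leaf (nat_lit 31752) [nat_lit 368, nat_lit 230, nat_lit 276, nat_lit 552, nat_lit 276]) (.leaf (nat_lit 35841) [nat_lit 368, nat_lit 506, nat_lit 437, nat_lit 437, nat_lit 184, nat_lit 161])))))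
noncomputable def w25 : WT := (.node (nat_lit 1) (.leaf (nat_lit 12290) [nat_lit 598]) (.node (nat_lit 2) (.leaf (nat_lit 23555) [nat_lit 138, nat_lit 69, nat_lit 184]) (.node (nat_lit 3) (.leaf (nat_lit 31747) [nat_lit 299, nat_lit 575, nat_lit 299, nat_lit 253, nat_lit 391]) (.node (nat_lit 4) (.leaf (nat_lit 32770) [nat_lit 299, nat_lit 575, nat_lit 299, nat_lit 506, nat_lit 184]) (.leaf (nat_lit 35852) [nat_lit 138, nat_lit 207, nat_lit 414, nat_lit 414, nat_lit 529, nat_lit 391])))))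
noncomputable def r46 : WT := (.node (nat_lit 3) (.leaf (nat_lit 24576) [nat_lit 46, nat_lit 138, nat_lit 207, nat_lit 529]) (.leaf (nat_lit 27654) [nat_lit 138, nat_lit 207, nat_lit 46, nat_lit 322, nat_lit 414]))
noncomputable def r47 : WT := (.node (nat_lit 5) (.leaf (nat_lit 33792) [nat_lit 46, nat_lit 92, nat_lit 322, nat_lit 460, nat_lit 138, nat_lit 207]) (.leaf (nat_lit 23559) [nat_lit 69, nat_lit 184, nat_lit 621, nat_lit 138]))
noncomputable def r48 : WT := (.node (nat_lit 7) (.leaf (nat_lit 24583) [nat_lit 69, nat_lit 506, nat_lit 184, nat_lit 161]) (.node (nat_lit 8) (.leaf (nat_lit 26625) [nat_lit 184, nat_lit 161, nat_lit 69, nat_lit 161, nat_lit 69]) (.leaf (nat_lit 27653) [nat_lit 437, nat_lit 345, nat_lit 69, nat_lit 184, nat_lit 161])))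
noncomputable def r49 : WT := (.node (nat_lit 11) (.node (nat_lit 10) (.leaf (nat_lit 18432) [nat_lit 138, nat_lit 207, nat_lit 529, nat_lit 575]) (.leaf (nat_lit 30730) [nat_lit 345, nat_lit 92, nat_lit 322, nat_lit 437, nat_lit 437, nat_lit 184])) (.node (nat_lit 12) (.leaf (nat_lit 28675) [nat_lit 253, nat_lit 322, nat_lit 184, nat_lit 161, nat_lit 299]) (.leaf (nat_lit 23554) [nat_lit 161, nat_lit 598, nat_lit 207, nat_lit 46])))
noncomputable def r50 : WT := (.node (nat_lit 15) (.node (nat_lit 14) (.leaf (nat_lit 28679) [nat_lit 184, nat_lit 161, nat_lit 299, nat_lit 253, nat_lit 322]) (.leaf (nat_lit 37891) [nat_lit 207, nat_lit 414, nat_lit 184, nat_lit 161, nat_lit 483, nat_lit 345, nat_lit 115, nat_lit 322])) (.node (nat_lit 16) (.leaf (nat_lit 33794) [nat_lit 92, nat_lit 322, nat_lit 460, nat_lit 138, nat_lit 207, nat_lit 46]) (.node (nat_lit 17) (.leaf (nat_lit 24577) [nat_lit 506, nat_lit 184, nat_lit 161, nat_lit 69]) (.leaf (nat_lit 33793) [nat_lit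 184, nat_lit 161, nat_lit 483, nat_lit 345, nat_lit 115, nat_lit 69]))))
noncomputable def r51 : WT := (.leaf (nat_lit 40960) [nat_lit 46, nat_lit 138, nat_lit 207, nat_lit 46, nat_lit 138, nat_lit 207, nat_lit 46, nat_lit 138, nat_lit 207, nat_lit 46, nat_lit 138, nat_lit 207, nat_lit 46, nat_lit 138, nat_lit 207])
noncomputable def r52 : WT := (.node (nat_lit 21) (.node (nat_lit 19) (.leaf (nat_lit 25602) [nat_lit 368, nat_lit 230, nat_lit 506, nat_lit 184]) (.node (nat_lit 20) (.leaf (nat_lit 31749) [nat_lit 299, nat_lit 575, nat_lit 299, nat_lit 253, nat_lit 391, nat_lit 621]) (.leaf (nat_lit 28678) [nat_lit 230, nat_lit 276, nat_lit 138, nat_lit 207, nat_lit 345]))) (.node (nat_lit 22) r51 (.node (nat_lit 23) (.leaf (nat_lit 37902) [nat_lit 345, nat_lit 92, nat_lit 322, nat_lit 460, nat_lit 138, nat_lit 207, nat_lit 437, nat_lit 184]) (.leaf (nat_lit 30723) [nat_lit 207, nat_lit 414, nat_lit 414, nat_lit 345, nat_lit 115, nat_lit 322]))))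
noncomputable def r53 : WT := (.node (nat_lit 27) (.node (nat_lit 25) (.leaf (nat_lit 19456) [nat_lit 46, nat_lit 92, nat_lit 46, nat_lit 92]) (.node (nat_lit 26) (.leaf (nat_lit 27648) [nat_lit 46, nat_lit 322, nat_lit 414, nat_lit 138, nat_lit 207]) (.leaf (nat_lit 25607) [nat_lit 207, nat_lit 529, nat_lit 253, nat_lit 391]))) (.node (nat_lit 29) (.node (nat_lit 28) (.leaf (nat_lit 25603) [nat_lit 253, nat_lit 391, nat_lit 207, nat_lit 529]) (.leaf (nat_lit 17408) [nat_lit 138, nat_lit 207, nat_lit 414, nat_lit 460])) (.node (nat_lit 30) (.leaf (nat_lit 17411) [nat_lit 437, nat_lit 184, nat_lit 161, nat_lit 483]) (.leaf (nat_lit 23558) [nat_lit 207, nat_lit 46, nat_lit 161, nat_lit 598]))))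
noncomputable def r54 : WT := (.node (nat_lit 35) (.node (nat_lit 33) (.node (nat_lit 32) (.leaf (nat_lit 19457) [nat_lit 115, nat_lit 69, nat_lit 115, nat_lit 69]) (.leaf (nat_lit 26624) [nat_lit 46, nat_lit 138, nat_lit 46, nat_lit 138, nat_lit 207])) (.node (nat_lit 34) (.leaf (nat_lit 36869) [nat_lit 276, nat_lit 552, nat_lit 69, nat_lit 184, nat_lit 161, nat_lit 69, nat_lit 184, nat_lit 368]) (.leaf (nat_lit 18435) [nat_lit 506, nat_lit 184, nat_lit 161, nat_lit 552]))) (.node (nat_lit 37) (.node (nat_lit 36) (.leaf (nat_lit 28677) [nat_lit 322, nat_lit 184, nat_lit 161, nat_lit 299, nat_lit 253]) (.leaf (nat_lit 21507) [nat_lit 69, nat_lit 253, nat_lit 69, nat_lit 253])) (.node (nat_lit 38) (.leaf (nat_lit 38915) [nat_lit 207, nat_lit 414, nat_lit 414, nat_lit 529, nat_lit 276, nat_lit 552, nat_lit 322, nat_lit 184, nat_lit 161, nat_lit 483]) (.leaf (nat_lit 32778) [nat_lit 506, nat_lit 184, nat_lit 621, nat_lit 299, nat_lit 575, nat_lit 299]))))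
noncomputable def r55 : WT := (.node (nat_lit 44) (.node (nat_lit 41) (.node (nat_lit 40) (.leaf (nat_lit 20482) [nat_lit 230, nat_lit 92, nat_lit 230, nat_lit 92]) (.leaf (nat_lit 18433) [nat_lit 552, nat_lit 506, nat_lit 184, nat_lit 161])) (.node (nat_lit 42) (.leaf (nat_lit 22528) [nat_lit 322, nat_lit 460, nat_lit 322, nat_lit 460]) (.node (nat_lit 43) (.leaf (nat_lit 37895) [nat_lit 184, nat_lit 161, nat_lit 483, nat_lit 345, nat_lit 115, nat_lit 322, nat_lit 207, nat_lit 414]) (.leaf (nat_lit 24578) [nat_lit 138, nat_lit 207, nat_lit 529, nat_lit 46])))) (.node (nat_lit 47) (.node (nat_lit 45) (.leaf (nat_lit 36870) [nat_lit 46, nat_lit 575, nat_lit 299, nat_lit 391, nat_lit 207, nat_lit 46, nat_lit 138, nat_lit 207]) (.node (nat_lit 46) (.leaf (nat_lit 36877) [nat_lit 161, nat_lit 69, nat_lit 184, nat_lit 368, nat_lit 276, nat_lit 552, nat_lit 69, nat_lit 184]) (.leaf (nat_lit 39936) [nat_lit 276, nat_lit 552, nat_lit 276, nat_lit 552, nat_lit 276, nat_lit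 552, nat_lit 276, nat_lit 552, nat_lit 276, nat_lit 552]))) (.node (nat_lit 48) (.leaf (nat_lit 36873) [nat_lit 69, nat_lit 184, nat_lit 161, nat_lit 69, nat_lit 184, nat_lit 368, nat_lit 276, nat_lit 552]) (.node (nat_lit 49) (.leaf (nat_lit 27651) [nat_lit 161, nat_lit 437, nat_lit 345, nat_lit 69, nat_lit 184]) (.leaf (nat_lit 26633) [nat_lit 69, nat_lit 184, nat_lit 161, nat_lit 69, nat_lit 161])))))
noncomputable def r56 : WT := (.leaf (nat_lit 40963) [nat_lit 161, nat_lit 69, nat_lit 184, nat_lit 161, nat_lit 69, nat_lit 184, nat_lit 161, nat_lit 69, nat_lit 184, nat_lit 161, nat_lit 69, nat_lit 184, nat_lit 161, nat_lit 69, nat_lit 184])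
noncomputable def r57 : WT := (.node (nat_lit 56) (.node (nat_lit 53) (.node (nat_lit 51) (.leaf (nat_lit 37898) [nat_lit 437, nat_lit 184, nat_lit 345, nat_lit 92, nat_lit 322, nat_lit 460, nat_lit 138, nat_lit 207]) (.node (nat_lit 52) (.leaf (nat_lit 23552) [nat_lit 46, nat_lit 161, nat_lit 598, nat_lit 207]) (.leaf (nat_lit 33803) [nat_lit 69, nat_lit 184, nat_lit 161, nat_lit 483, nat_lit 345, nat_lit 115]))) (.node (nat_lit 54) (.leaf (nat_lit 34816) [nat_lit 276, nat_lit 483, nat_lit 345, nat_lit 276, nat_lit 483, nat_lit 345]) (.node (nat_lit 55) (.leaf (nat_lit 31750) [nat_lit 276, nat_lit 598, nat_lit 368, nat_lit 230, nat_lit 276, nat_lit 552]) (.leaf (nat_lit 31752) [nat_lit 598, nat_lit 368, nat_lit 230, nat_lit 276, nat_lit 552, nat_lit 276])))) (.node (nat_lit 59) (.node (nat_lit 57) (.leaf (nat_lit 35845) [nat_lit 506, nat_lit 437, nat_lit 437, nat_lit 184, nat_lit 161, nat_lit 598, nat_lit 368]) (.node (nat_lit 58) r56 (.leaf (nat_lit 33801) [nat_lit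 115, nat_lit 69, nat_lit 184, nat_lit 161, nat_lit 483, nat_lit 345]))) (.node (nat_lit 61) (.node (nat_lit 60) (.leaf (nat_lit 35850) [nat_lit 391, nat_lit 621, nat_lit 138, nat_lit 207, nat_lit 414, nat_lit 414, nat_lit 529]) (.leaf (nat_lit 31755) [nat_lit 253, nat_lit 391, nat_lit 621, nat_lit 299, nat_lit 575, nat_lit 299])) (.node (nat_lit 62) (.leaf (nat_lit 35853) [nat_lit 161, nat_lit 598, nat_lit 368, nat_lit 506, nat_lit 437, nat_lit 437, nat_lit 184]) (.leaf (nat_lit 30724) [nat_lit 437, nat_lit 437, nat_lit 184, nat_lit 345, nat_lit 92, nat_lit 322])))))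
noncomputable def r58 : WT := (.leaf (nat_lit 40964) [nat_lit 207, nat_lit 46, nat_lit 138, nat_lit 207, nat_lit 46, nat_lit 138, nat_lit 207, nat_lit 46, nat_lit 138, nat_lit 207, nat_lit 46, nat_lit 138, nat_lit 207, nat_lit 46, nat_lit 138])
noncomputable def r59 : WT := (.node (nat_lit 70) (.node (nat_lit 66) (.node (nat_lit 64) (.leaf (nat_lit 36878) [nat_lit 207, nat_lit 46, nat_lit 138, nat_lit 207, nat_lit 46, nat_lit 575, nat_lit 299, nat_lit 391]) (.node (nat_lit 65) (.leaf (nat_lit 30722) [nat_lit 322, nat_lit 437, nat_lit 437, nat_lit 184, nat_lit 345, nat_lit 92]) (.leaf (nat_lit 28676) [nat_lit 345, nat_lit 230, nat_lit 276, nat_lit 138, nat_lit 207]))) (.node (nat_lit 68) (.node (nat_lit 67) (.leaf (nat_lit 28673) [nat_lit 299, nat_lit 253, nat_lit 322, nat_lit 184, nat_lit 161]) (.leaf (nat_lit 17413) [nat_lit 184, nat_lit 161, nat_lit 483, nat_lit 437])) (.node (nat_lit 69) (.leaf (nat_lit 20483) [nat_lit 115, nat_lit 253, nat_lit 115, nat_lit 253])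 (.leaf (nat_lit 19459) [nat_lit 69, nat_lit 115, nat_lit 69, nat_lit 115])))) (.node (nat_lit 74) (.node (nat_lit 72) (.node (nat_lit 71) (.leaf (nat_lit 21505) [nat_lit 253, nat_lit 69, nat_lit 253, nat_lit 69]) (.leaf (nat_lit 38930) [nat_lit 460, nat_lit 138, nat_lit 207, nat_lit 345, nat_lit 575, nat_lit 299, nat_lit 506, nat_lit 437, nat_lit 437, nat_lit 184])) (.node (nat_lit 73) (.leaf (nat_lit 22529) [nat_lit 483, nat_lit 345, nat_lit 483, nat_lit 345]) (.leaf (nat_lit 17414) [nat_lit 460, nat_lit 138, nat_lit 207, nat_lit 414]))) (.node (nat_lit 76) (.node (nat_lit 75) (.leaf (nat_lit 39937) [nat_lit 575, nat_lit 299, nat_lit 575, nat_lit 299, nat_lit 575, nat_lit 299, nat_lit 575, nat_lit 299, nat_lit 575, nat_lit 299]) (.leaf (nat_lit 26626) [nat_lit 138, nat_lit 46, nat_lit 138, nat_lit 207, nat_lit 46])) (.node (nat_lit 77) r58 (.leaf (nat_lit 26627) [nat_lit 161, nat_lit 69, nat_lit 161, nat_lit 69, nat_lit 184])))))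
noncomputable def r60 : WT := (.node (nat_lit 82) (.leaf (nat_lit 17409) [nat_lit 483, nat_lit 437, nat_lit 184, nat_lit 161]) (.leaf (nat_lit 33797) [nat_lit 483, nat_lit 345, nat_lit 115, nat_lit 69, nat_lit 184, nat_lit 161]))
noncomputable def r61 : WT := (.node (nat_lit 87) (.leaf (nat_lit 31747) [nat_lit 621, nat_lit 299, nat_lit 575, nat_lit 299, nat_lit 253, nat_lit 391]) (.leaf (nat_lit 18439) [nat_lit 161, nat_lit 552, nat_lit 506, nat_lit 184]))
noncomputable def r62 : WT := (.leaf (nat_lit 40961) [nat_lit 184, nat_lit 161, nat_lit 69, nat_lit 184, nat_lit 161, nat_lit 69, nat_lit 184, nat_lit 161, nat_lit 69, nat_lit 184, nat_lit 161, nat_lit 69, nat_lit 184, nat_lit 161, nat_lit 69])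
noncomputable def r63 : WT := (.node (nat_lit 92) (.leaf (nat_lit 25605) [nat_lit 391, nat_lit 207, nat_lit 529, nat_lit 253]) (.leaf (nat_lit 30720) [nat_lit 92, nat_lit 322, nat_lit 437, nat_lit 437, nat_lit 184, nat_lit 345]))
noncomputable def r64 : WT := (.node (nat_lit 97) (.leaf (nat_lit 23555) [nat_lit 621, nat_lit 138, nat_lit 69, nat_lit 184]) (.leaf (nat_lit 21504) [nat_lit 46, nat_lit 230, nat_lit 46, nat_lit 230]))
noncomputable def r65 : WT := (.node (nat_lit 88) (.node (nat_lit 83) (.node (nat_lit 80) (.node (nat_lit 79) (.leaf (nat_lit 26629) [nat_lit 69, nat_lit 161, nat_lit 69, nat_lit 184, nat_lit 161]) (.leaf (nat_lit 34818) [nat_lit 483, nat_lit 345, nat_lit 276, nat_lit 483, nat_lit 345, nat_lit 276])) (.node (nat_lit 81) (.leaf (nat_lit 35844) [nat_lit 414, nat_lit 414, nat_lit 529, nat_lit 391, nat_lit 621, nat_lit 138, nat_lit 207]) r60)) (.node (nat_lit 85) (.node (nat_lit 84) (.leaf (nat_lit 18438) [nat_lit 575, nat_lit 138, nat_lit 207,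 nat_lit 529]) (.leaf (nat_lit 31751) [nat_lit 575, nat_lit 299, nat_lit 253, nat_lit 391, nat_lit 621, nat_lit 299])) (.node (nat_lit 86) (.leaf (nat_lit 18437) [nat_lit 184, nat_lit 161, nat_lit 552, nat_lit 506]) r61))) (.node (nat_lit 93) (.node (nat_lit 90) (.node (nat_lit 89) r62 (.leaf (nat_lit 30729) [nat_lit 345, nat_lit 115, nat_lit 322, nat_lit 207, nat_lit 414, nat_lit 414])) (.node (nat_lit 91) (.leaf (nat_lit 28672) [nat_lit 138, nat_lit 207, nat_lit 345, nat_lit 230, nat_lit 276]) r63)) (.node (nat_lit 95) (.node (nat_lit 94) (.leaf (nat_lit 29697) [nat_lit 437, nat_lit 437, nat_lit 437, nat_lit 437, nat_lit 437]) (.leaf (nat_lit 29696) [nat_lit 414, nat_lit 414, nat_lit 414, nat_lit 414, nat_lit 414])) (.node (nat_lit 96) (.leaf (nat_lit 25606) [nat_lit 506, nat_lit 184, nat_lit 368, nat_lit 230]) r64))))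
noncomputable def r66 : WT := (.node (nat_lit 100) (.leaf (nat_lit 37893) [nat_lit 414, nat_lit 184, nat_lit 161, nat_lit 483, nat_lit 345, nat_lit 115, nat_lit 322, nat_lit 207]) (.leaf (nat_lit 37894) [nat_lit 138, nat_lit 207, nat_lit 437, nat_lit 184, nat_lit 345, nat_lit 92, nat_lit 322, nat_lit 460]))
noncomputable def r67 : WT := (.leaf (nat_lit 40965) [nat_lit 69, nat_lit 184, nat_lit 161, nat_lit 69, nat_lit 184, nat_lit 161, nat_lit 69, nat_lit 184, nat_lit 161, nat_lit 69, nat_lit 184, nat_lit 161, nat_lit 69, nat_lit 184, nat_lit 161])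
noncomputable def r68 : WT := (.node (nat_lit 102) r67 (.leaf (nat_lit 36871) [nat_lit 552, nat_lit 69, nat_lit 184, nat_lit 161, nat_lit 69, nat_lit 184, nat_lit 368, nat_lit 276]))
noncomputable def r69 : WT := (.node (nat_lit 104) (.leaf (nat_lit 39939) [nat_lit 299, nat_lit 575, nat_lit 299, nat_lit 575, nat_lit 299, nat_lit 575, nat_lit 299, nat_lit 575, nat_lit 299, nat_lit 575]) (.leaf (nat_lit 34820) [nat_lit 345, nat_lit 276, nat_lit 483, nat_lit 345, nat_lit 276, nat_lit 483]))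
noncomputable def r70 : WT := (.node (nat_lit 107) (.leaf (nat_lit 34819) [nat_lit 460, nat_lit 299, nat_lit 322, nat_lit 460, nat_lit 299, nat_lit 322]) (.leaf (nat_lit 34821) [nat_lit 299, nat_lit 322, nat_lit 460, nat_lit 299, nat_lit 322, nat_lit 460]))
noncomputable def r71 : WT := (.node (nat_lit 109) (.leaf (nat_lit 37900) [nat_lit 184, nat_lit 345, nat_lit 92, nat_lit 322, nat_lit 460, nat_lit 138, nat_lit 207, nat_lit 437]) (.leaf (nat_lit 35843) [nat_lit 368, nat_lit 506, nat_lit 437, nat_lit 437, nat_lit 184, nat_lit 161, nat_lit 598]))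
noncomputable def r72 : WT := (.node (nat_lit 111) (.leaf (nat_lit 38918) [nat_lit 575, nat_lit 299, nat_lit 506, nat_lit 437, nat_lit 437, nat_lit 184, nat_lit 460, nat_lit 138, nat_lit 207, nat_lit 345]) (.leaf (nat_lit 36876) [nat_lit 391, nat_lit 207, nat_lit 46, nat_lit 138, nat_lit 207, nat_lit 46, nat_lit 575, nat_lit 299]))
noncomputable def r73 : WT := (.node (nat_lit 114) (.leaf (nat_lit 36872) [nat_lit 575, nat_lit 299, nat_lit 391, nat_lit 207, nat_lit 46, nat_lit 138, nat_lit 207, nat_lit 46]) (.leaf (nat_lit 38927) [nat_lit 322, nat_lit 184, nat_lit 161, nat_lit 483, nat_lit 207, nat_lit 414, nat_lit 414, nat_lit 529, nat_lit 276, nat_lit 552]))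
noncomputable def r74 : WT := (.node (nat_lit 116) (.leaf (nat_lit 38923) [nat_lit 276, nat_lit 552, nat_lit 322, nat_lit 184, nat_lit 161, nat_lit 483, nat_lit 207, nat_lit 414, nat_lit 414, nat_lit 529]) (.leaf (nat_lit 36864) [nat_lit 46, nat_lit 138, nat_lit 207, nat_lit 46, nat_lit 575, nat_lit 299, nat_lit 391, nat_lit 207]))
noncomputable def r75 : WT := (.node (nat_lit 118) (.leaf (nat_lit 33795) [nat_lit 161, nat_lit 483, nat_lit 345, nat_lit 115, nat_lit 69, nat_lit 184]) (.leaf (nat_lit 23553) [nat_lit 184, nat_lit 621, nat_lit 138, nat_lit 69]))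
noncomputable def r76 : WT := (.node (nat_lit 120) (.leaf (nat_lit 27650) [nat_lit 322, nat_lit 414, nat_lit 138, nat_lit 207, nat_lit 46]) (.leaf (nat_lit 27652) [nat_lit 414, nat_lit 138, nat_lit 207, nat_lit 46, nat_lit 322]))
noncomputable def r77 : WT := (.node (nat_lit 122) (.leaf (nat_lit 27649) [nat_lit 184, nat_lit 161, nat_lit 437, nat_lit 345, nat_lit 69]) (.leaf (nat_lit 27655) [nat_lit 345, nat_lit 69, nat_lit 184, nat_lit 161, nat_lit 437]))
noncomputable def r78 : WT := (.node (nat_lit 124) (.leaf (nat_lit 27657) [nat_lit 69, nat_lit 184, nat_lit 161, nat_lit 437, nat_lit 345]) (.leaf (nat_lit 22530) [nat_lit 460, nat_lit 322, nat_lit 460, nat_lit 322]))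
noncomputable def r79 : WT := (.node (nat_lit 126) (.leaf (nat_lit 21506) [nat_lit 230, nat_lit 46, nat_lit 230, nat_lit 46]) (.leaf (nat_lit 30731) [nat_lit 115, nat_lit 322, nat_lit 207, nat_lit 414, nat_lit 414, nat_lit 345]))
noncomputable def r80 : WT := (.node (nat_lit 112) (.node (nat_lit 105) (.node (nat_lit 101) (.node (nat_lit 99) (.leaf (nat_lit 28680) [nat_lit 276, nat_lit 138, nat_lit 207, nat_lit 345, nat_lit 230]) r66) (.node (nat_lit 103) r68 r69)) (.node (nat_lit 108) (.node (nat_lit 106) (.leaf (nat_lit 34817) [nat_lit 322, nat_lit 460, nat_lit 299, nat_lit 322, nat_lit 460, nat_lit 299]) r70) (.node (nat_lit 110) r71 r72))) (.node (nat_lit 119) (.node (nat_lit 115) (.node (nat_lit 113) (.leaf (nat_lit 35847) [nat_lit 437, nat_lit 437, nat_lit 184, nat_lit 161, nat_lit 598, nat_lit 368, nat_lit 506]) r73) (.node (nat_lit 117) r74 r75)) (.node (nat_lit 123) (.node (nat_lit 121) r76 r77) (.node (nat_lit 125) r78 r79))))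
noncomputable def r81 : WT := (.node (nat_lit 128) (.leaf (nat_lit 17412) [nat_lit 414, nat_lit 460, nat_lit 138, nat_lit 207]) (.leaf (nat_lit 31754) [nat_lit 368, nat_lit 230, nat_lit 276, nat_lit 552, nat_lit 276, nat_lit 598]))
noncomputable def r82 : WT := (.node (nat_lit 130) (.leaf (nat_lit 31745) [nat_lit 391, nat_lit 621, nat_lit 299, nat_lit 575, nat_lit 299, nat_lit 253]) (.leaf (nat_lit 16385) [nat_lit 69, nat_lit 69, nat_lit 69]))
noncomputable def r83 : WT := (.node (nat_lit 132) (.leaf (nat_lit 32774) [nat_lit 575, nat_lit 299, nat_lit 506, nat_lit 184, nat_lit 621, nat_lit 299]) (.leaf (nat_lit 14337) [nat_lit 253, nat_lit 253, nat_lit 253]))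
noncomputable def r84 : WT := (.node (nat_lit 134) (.leaf (nat_lit 33799) [nat_lit 345, nat_lit 115, nat_lit 69, nat_lit 184, nat_lit 161, nat_lit 483]) (.leaf (nat_lit 33800) [nat_lit 138, nat_lit 207, nat_lit 46, nat_lit 92, nat_lit 322, nat_lit 460]))
noncomputable def r85 : WT := (.node (nat_lit 136) (.leaf (nat_lit 32777) [nat_lit 598, nat_lit 207, nat_lit 529, nat_lit 276, nat_lit 552, nat_lit 276]) (.leaf (nat_lit 32779) [nat_lit 207, nat_lit 529, nat_lit 276, nat_lit 552, nat_lit 276, nat_lit 598]))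
noncomputable def r86 : WT := (.node (nat_lit 138) (.leaf (nat_lit 33796) [nat_lit 322, nat_lit 460, nat_lit 138, nat_lit 207, nat_lit 46, nat_lit 92]) (.leaf (nat_lit 23557) [nat_lit 138, nat_lit 69, nat_lit 184, nat_lit 621]))
noncomputable def r87 : WT := (.node (nat_lit 140) (.leaf (nat_lit 13312) [nat_lit 276, nat_lit 276]) (.node (nat_lit 141) (.leaf (nat_lit 37899) [nat_lit 483, nat_lit 345, nat_lit 115, nat_lit 322, nat_lit 207, nat_lit 414, nat_lit 184, nat_lit 161]) (.leaf (nat_lit 38912) [nat_lit 138, nat_lit 207, nat_lit 345, nat_lit 575, nat_lit 299, nat_lit 506, nat_lit 437, nat_lit 437, nat_lit 184, nat_lit 460])))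
noncomputable def r88 : WT := (.node (nat_lit 144) (.node (nat_lit 143) (.leaf (nat_lit 22531) [nat_lit 345, nat_lit 483, nat_lit 345, nat_lit 483]) (.leaf (nat_lit 38922) [nat_lit 506, nat_lit 437, nat_lit 437, nat_lit 184, nat_lit 460, nat_lit 138, nat_lit 207, nat_lit 345, nat_lit 575, nat_lit 299])) (.node (nat_lit 145) (.leaf (nat_lit 13313) [nat_lit 299, nat_lit 299]) (.leaf (nat_lit 38913) [nat_lit 483, nat_lit 207, nat_lit 414, nat_lit 414, nat_lit 529, nat_lit 276, nat_lit 552, nat_lit 322, nat_lit 184, nat_lit 161])))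
noncomputable def r89 : WT := (.node (nat_lit 147) (.leaf (nat_lit 14336) [nat_lit 230, nat_lit 230, nat_lit 230]) (.node (nat_lit 148) (.leaf (nat_lit 38921) [nat_lit 529, nat_lit 276, nat_lit 552, nat_lit 322, nat_lit 184, nat_lit 161, nat_lit 483, nat_lit 207, nat_lit 414, nat_lit 414]) (.leaf (nat_lit 20481) [nat_lit 253, nat_lit 115, nat_lit 253, nat_lit 115])))
noncomputable def r90 : WT := (.node (nat_lit 151) (.node (nat_lit 150) (.leaf (nat_lit 38925) [nat_lit 552, nat_lit 322, nat_lit 184, nat_lit 161, nat_lit 483, nat_lit 207, nat_lit 414, nat_lit 414, nat_lit 529, nat_lit 276]) (.leaf (nat_lit 20480) [nat_lit 92, nat_lit 230, nat_lit 92, nat_lit 230])) (.node (nat_lit 152) (.leaf (nat_lit 38929) [nat_lit 184, nat_lit 161, nat_lit 483, nat_lit 207, nat_lit 414, nat_lit 414, nat_lit 529, nat_lit 276, nat_lit 552, nat_lit 322]) (.leaf (nat_lit 19458) [nat_lit 92, nat_lit 46, nat_lit 92, nat_lit 46])))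
noncomputable def r91 : WT := (.node (nat_lit 155) (.node (nat_lit 154) (.leaf (nat_lit 15360) [nat_lit 92, nat_lit 92, nat_lit 92]) (.leaf (nat_lit 30727) [nat_lit 414, nat_lit 345, nat_lit 115, nat_lit 322, nat_lit 207, nat_lit 414])) (.node (nat_lit 156) (.leaf (nat_lit 33802) [nat_lit 207, nat_lit 46, nat_lit 92, nat_lit 322, nat_lit 460, nat_lit 138]) (.leaf (nat_lit 33798) [nat_lit 460, nat_lit 138, nat_lit 207, nat_lit 46, nat_lit 92, nat_lit 322])))
noncomputable def r92 : WT := (.node (nat_lit 159) (.node (nat_lit 158) (.leaf (nat_lit 32775) [nat_lit 276, nat_lit 598, nat_lit 207, nat_lit 529, nat_lit 276, nat_lit 552]) (.leaf (nat_lit 32769) [nat_lit 529, nat_lit 276, nat_lit 552, nat_lit 276, nat_lit 598, nat_lit 207])) (.node (nat_lit 160) (.leaf (nat_lit 35852) [nat_lit 621, nat_lit 138, nat_lit 207, nat_lit 414, nat_lit 414, nat_lit 529, nat_lit 391]) (.leaf (nat_lit 32772) [nat_lit 299, nat_lit 575, nat_lit 299, nat_lit 506, nat_lit 184, nat_lit 621])))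
noncomputable def r93 : WT := (.node (nat_lit 162) (.leaf (nat_lit 35849) [nat_lit 437, nat_lit 184, nat_lit 161, nat_lit 598, nat_lit 368, nat_lit 506, nat_lit 437]) (.node (nat_lit 163) (.leaf (nat_lit 35851) [nat_lit 184, nat_lit 161, nat_lit 598, nat_lit 368, nat_lit 506, nat_lit 437, nat_lit 437]) (.leaf (nat_lit 31744) [nat_lit 230, nat_lit 276, nat_lit 552, nat_lit 276, nat_lit 598, nat_lit 368])))
noncomputable def r94 : WT := (.node (nat_lit 166) (.node (nat_lit 165) (.leaf (nat_lit 36868) [nat_lit 207, nat_lit 46, nat_lit 575, nat_lit 299, nat_lit 391, nat_lit 207, nat_lit 46, nat_lit 138]) (.leaf (nat_lit 24582) [nat_lit 529, nat_lit 46, nat_lit 138, nat_lit 207])) (.node (nat_lit 167) (.leaf (nat_lit 30721) [nat_lit 322, nat_lit 207, nat_lit 414, nat_lit 414, nat_lit 345, nat_lit 115]) (.leaf (nat_lit 30728) [nat_lit 184, nat_lit 345, nat_lit 92, nat_lit 322, nat_lit 437, nat_lit 437])))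
noncomputable def r95 : WT := (.node (nat_lit 170) (.node (nat_lit 169) (.leaf (nat_lit 28674) [nat_lit 207, nat_lit 345, nat_lit 230, nat_lit 276, nat_lit 138]) (.leaf (nat_lit 36865) [nat_lit 184, nat_lit 368, nat_lit 276, nat_lit 552, nat_lit 69, nat_lit 184, nat_lit 161, nat_lit 69])) (.node (nat_lit 171) (.leaf (nat_lit 36867) [nat_lit 368, nat_lit 276, nat_lit 552, nat_lit 69, nat_lit 184, nat_lit 161, nat_lit 69, nat_lit 184]) (.leaf (nat_lit 36875) [nat_lit 184, nat_lit 161, nat_lit 69, nat_lit 184, nat_lit 368, nat_lit 276, nat_lit 552, nat_lit 69])))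
noncomputable def r96 : WT := (.node (nat_lit 174) (.node (nat_lit 173) (.leaf (nat_lit 36879) [nat_lit 69, nat_lit 184, nat_lit 368, nat_lit 276, nat_lit 552, nat_lit 69, nat_lit 184, nat_lit 161]) (.leaf (nat_lit 25604) [nat_lit 230, nat_lit 506, nat_lit 184, nat_lit 368])) (.node (nat_lit 175) (.leaf (nat_lit 24581) [nat_lit 161, nat_lit 69, nat_lit 506, nat_lit 184]) (.leaf (nat_lit 24579) [nat_lit 184, nat_lit 161, nat_lit 69, nat_lit 506])))
noncomputable def r97 : WT := (.node (nat_lit 146) (.node (nat_lit 135) (.node (nat_lit 131) (.node (nat_lit 129) r81 r82) (.node (nat_lit 133) r83 r84)) (.node (nat_lit 139) (.node (nat_lit 137) r85 r86) (.node (nat_lit 142) r87 r88))) (.node (nat_lit 161) (.node (nat_lit 153) (.node (nat_lit 149) r89 r90) (.node (nat_lit 157) r91 r92)) (.node (nat_lit 168) (.node (nat_lit 164) r93 r94) (.node (nat_lit 172) r95 r96))))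
noncomputable def wP : WT := (.node (nat_lit 24) (.node (nat_lit 6) (.node (nat_lit 2) (.node (nat_lit 1) (.leaf (nat_lit 26631) [nat_lit 161, nat_lit 69, nat_lit 184, nat_lit 161, nat_lit 69]) (.leaf (nat_lit 26628) [nat_lit 46, nat_lit 138, nat_lit 207, nat_lit 46, nat_lit 138])) (.node (nat_lit 4) r46 r47)) (.node (nat_lit 13) (.node (nat_lit 9) r48 r49) (.node (nat_lit 18) r50 r52))) (.node (nat_lit 63) (.node (nat_lit 39) (.node (nat_lit 31) r53 r54) (.node (nat_lit 50) r55 r57)) (.node (nat_lit 98) (.node (nat_lit 78) r59 r65) (.node (nat_lit 127) r80 r97))))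
noncomputable def P : Par := ⟨tb, nat_lit 644, nat_lit 0xfffffffffffffffffffffffffffffffffffffffffffffffffffffffffffffffffffffffffffffffffffffffffffffffffffffffffffffffffffffffffffffffffffffffffffffffffffffffffffffffff, nat_lit 3435, nat_lit 8388607, nat_lit 4095, nat_lit 23, nat_lit 12, nat_lit 960,
  [nat_lit 46, nat_lit 69, nat_lit 92, nat_lit 115, nat_lit 138, nat_lit 161, nat_lit 184, nat_lit 207, nat_lit 230, nat_lit 253, nat_lit 276, nat_lit 299, nat_lit 322, nat_lit 345, nat_lit 368, nat_lit 391, nat_lit 414, nat_lit 437, nat_lit 460, nat_lit 483, nat_lit 506, nat_lit 529, nat_lit 552, nat_lit 575, nat_lit 598, nat_lit 621], [], wP,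
  (.cons (nat_lit 46) w0 (.cons (nat_lit 69) w1 (.cons (nat_lit 92) w2 (.cons (nat_lit 115) w3 (.cons (nat_lit 138) w4 (.cons (nat_lit 161) w5 (.cons (nat_lit 184) w6 (.cons (nat_lit 207) w7 (.cons (nat_lit 230) w8 (.cons (nat_lit 253) w9 (.cons (nat_lit 276) w10 (.cons (nat_lit 299) w11 (.cons (nat_lit 322) w12 (.cons (nat_lit 345) w13 (.cons (nat_lit 368) w14 (.cons (nat_lit 391) w15 (.cons (nat_lit 414) w16 (.cons (nat_lit 437) w17 (.cons (nat_lit 460) w18 (.cons (nat_lit 483) w19 (.cons (nat_lit 506) w20 (.cons (nat_lit 529) w21 (.cons (nat_lit 552) w22 (.cons (nat_lit 575) w23 (.cons (nat_lit 598) w24 (.cons (nat_lit 621) w25 .nil)))))))))))))))))))))))))),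
  .nil⟩

end Cfsg.Agent.Lib.TCM243
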