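import Cfsg.Agent.Lib.TCON1D0
import Cfsg.Agent.Lib.TCON1D1
import Cfsg.Agent.Lib.TCON1D2

set_option autoImplicit false
set_option maxRecDepth 100000

namespace Cfsg.Agent.Lib.TCON1
open Cfsg.Agent.Lib.TCCore

noncomputable def n0 : T := (.node (nat_lit 61) l0 (.node (nat_lit 122) l1 l2))
noncomputable def n1 : T := (.node (nat_lit 244) l3 (.node (nat_lit 305) l4 l5))
noncomputable def n2 : T := (.node (nat_lit 427) l6 (.node (nat_lit 488) l7 l8))
noncomputable def n3 : T := (.node (nat_lit 610) l9 (.node (nat_lit 671) l10 l11))
noncomputable def n4 : T := (.node (nat_lit 793) l12 (.node (nat_lit 854) l13 l14))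
noncomputable def n5 : T := (.node (nat_lit 976) l15 (.node (nat_lit 1037) l16 l17))
noncomputable def n6 : T := (.node (nat_lit 1159) l18 (.node (nat_lit 1220) l19 l20))
noncomputable def n7 : T := (.node (nat_lit 1403) (.node (nat_lit 1342) l21 l22) (.node (nat_lit 1464) l23 l24))
noncomputable def n8 : T := (.node (nat_lit 1586) l25 (.node (nat_lit 1647) l26 l27))
noncomputable def n9 : T := (.node (nat_lit 1769) l28 (.node (nat_lit 1830) l29 l30))
noncomputable def n10 : T := (.node (nat_lit 1952) l31 (.node (nat_lit 2013) l32 l33))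
noncomputable def n11 : T := (.node (nat_lit 2135) l34 (.node (nat_lit 2196) l35 l36))
noncomputable def n12 : T := (.node (nat_lit 2318) l37 (.node (nat_lit 2379) l38 l39))
noncomputable def n13 : T := (.node (nat_lit 2501) l40 (.node (nat_lit 2562) l41 l42))
noncomputable def n14 : T := (.node (nat_lit 2684) l43 (.node (nat_lit 2745) l44 l45))
noncomputable def n15 : T := (.node (nat_lit 2928) (.node (nat_lit 2867) l46 l47) (.node (nat_lit 2989) l48 l49))
noncomputable def n16 : T := (.node (nat_lit 3111) l50 (.node (nat_lit 3172) l51 l52))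
noncomputable def n17 : T := (.node (nat_lit 3294) l53 (.node (nat_lit 3355) l54 l55))
noncomputable def n18 : T := (.node (nat_lit 3477) l56 (.node (nat_lit 3538) l57 l58))
noncomputable def n19 : T := (.node (nat_lit 3660) l59 (.node (nat_lit 3721) l60 l61))
noncomputable def n20 : T := (.node (nat_lit 3843) l62 (.node (nat_lit 3904) l63 l64))
noncomputable def n21 : T := (.node (nat_lit 4026) l65 (.node (nat_lit 4087) l66 l67))
noncomputable def n22 : T := (.node (nat_lit 4209) l68 (.node (nat_lit 4270) l69 l70))
noncomputable def n23 : T := (.node (nat_lit 4453) (.node (nat_lit 4392) l71 l72) (.node (nat_lit 4514) l73 l74))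
noncomputable def n24 : T := (.node (nat_lit 4636) l75 (.node (nat_lit 4697) l76 l77))
noncomputable def n25 : T := (.node (nat_lit 4819) l78 (.node (nat_lit 4880) l79 l80))
noncomputable def n26 : T := (.node (nat_lit 5002) l81 (.node (nat_lit 5063) l82 l83))
noncomputable def n27 : T := (.node (nat_lit 5185) l84 (.node (nat_lit 5246) l85 l86))
noncomputable def n28 : T := (.node (nat_lit 5368) l87 (.node (nat_lit 5429) l88 l89))
noncomputable def n29 : T := (.node (nat_lit 5551) l90 (.node (nat_lit 5612) l91 l92))
noncomputable def n30 : T := (.node (nat_lit 5734) l93 (.node (nat_lit 5795) l94 l95))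
noncomputable def n31 : T := (.node (nat_lit 5978) (.node (nat_lit 5917) l96 l97) (.node (nat_lit 6039) l98 l99))
noncomputable def n32 : T := (.node (nat_lit 3050) (.node (nat_lit 1525) (.node (nat_lit 732) (.node (nat_lit 366) (.node (nat_lit 183) n0 n1) (.node (nat_lit 549) n2 n3)) (.node (nat_lit 1098) (.node (nat_lit 915) n4 n5) (.node (nat_lit 1281) n6 n7))) (.node (nat_lit 2257) (.node (nat_lit 1891) (.node (nat_lit 1708) n8 n9) (.node (nat_lit 2074) n10 n11)) (.node (nat_lit 2623) (.node (nat_lit 2440) n12 n13) (.node (nat_lit 2806) n14 n15)))) (.node (nat_lit 4575) (.node (nat_lit 3782) (.node (nat_lit 3416) (.node (nat_lit 3233) n16 n17) (.node (nat_lit 3599) n18 n19)) (.node (nat_lit 4148) (.node (nat_lit 3965) n20 n21) (.node (nat_lit 4331) n22 n23))) (.node (nat_lit 5307) (.node (nat_lit 4941) (.node (nat_lit 4758) n24 n25) (.node (nat_lit 5124) n26 n27)) (.node (nat_lit 5673) (.node (nat_lit 5490) n28 n29) (.node (nat_lit 5856) n30 n31)))))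
noncomputable def n33 : T := (.node (nat_lit 6161) l100 (.node (nat_lit 6222) l101 l102))
noncomputable def n34 : T := (.node (nat_lit 6344) l103 (.node (nat_lit 6405) l104 l105))
noncomputable def n35 : T := (.node (nat_lit 6527) l106 (.node (nat_lit 6588) l107 l108))
noncomputable def n36 : T := (.node (nat_lit 6710) l109 (.node (nat_lit 6771) l110 l111))
noncomputable def n37 : T := (.node (nat_lit 6893) l112 (.node (nat_lit 6954) l113 l114))
noncomputable def n38 : T := (.node (nat_lit 7076) l115 (.node (nat_lit 7137) l116 l117))
noncomputable def n39 : T := (.node (nat_lit 7259) l118 (.node (nat_lit 7320) l119 l120))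
noncomputable def n40 : T := (.node (nat_lit 7503) (.node (nat_lit 7442) l121 l122) (.node (nat_lit 7564) l123 l124))
noncomputable def n41 : T := (.node (nat_lit 7686) l125 (.node (nat_lit 7747) l126 l127))
noncomputable def n42 : T := (.node (nat_lit 7869) l128 (.node (nat_lit 7930) l129 l130))
noncomputable def n43 : T := (.node (nat_lit 8052) l131 (.node (nat_lit 8113) l132 l133))
noncomputable def n44 : T := (.node (nat_lit 8235) l134 (.node (nat_lit 8296) l135 l136))
noncomputable def n45 : T := (.node (nat_lit 8418) l137 (.node (nat_lit 8479) l138 l139))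
noncomputable def n46 : T := (.node (nat_lit 8601) l140 (.node (nat_lit 8662) l141 l142))
noncomputable def n47 : T := (.node (nat_lit 8784) l143 (.node (nat_lit 8845) l144 l145))
noncomputable def n48 : T := (.node (nat_lit 9028) (.node (nat_lit 8967) l146 l147) (.node (nat_lit 9089) l148 l149))
noncomputable def n49 : T := (.node (nat_lit 9211) l150 (.node (nat_lit 9272) l151 l152))
noncomputable def n50 : T := (.node (nat_lit 9394) l153 (.node (nat_lit 9455) l154 l155))
noncomputable def n51 : T := (.node (nat_lit 9577) l156 (.node (nat_lit 9638) l157 l158))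
noncomputable def n52 : T := (.node (nat_lit 9760) l159 (.node (nat_lit 9821) l160 l161))
noncomputable def n53 : T := (.node (nat_lit 9943) l162 (.node (nat_lit 10004) l163 l164))
noncomputable def n54 : T := (.node (nat_lit 10126) l165 (.node (nat_lit 10187) l166 l167))
noncomputable def n55 : T := (.node (nat_lit 10309) l168 (.node (nat_lit 10370) l169 l170))
noncomputable def n56 : T := (.node (nat_lit 10553) (.node (nat_lit 10492) l171 l172) (.node (nat_lit 10614) l173 l174))
noncomputable def n57 : T := (.node (nat_lit 10736) l175 (.node (nat_lit 10797) l176 l177))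
noncomputable def n58 : T := (.node (nat_lit 10919) l178 (.node (nat_lit 10980) l179 l180))
noncomputable def n59 : T := (.node (nat_lit 11102) l181 (.node (nat_lit 11163) l182 l183))
noncomputable def n60 : T := (.node (nat_lit 11346) (.node (nat_lit 11285) l184 l185) (.node (nat_lit 11407) l186 l187))
noncomputable def n61 : T := (.node (nat_lit 11529) l188 (.node (nat_lit 11590) l189 l190))
noncomputable def n62 : T := (.node (nat_lit 11712) l191 (.node (nat_lit 11773) l192 l193))
noncomputable def n63 : T := (.node (nat_lit 11895) l194 (.node (nat_lit 11956) l195 l196))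
noncomputable def n64 : T := (.node (nat_lit 12139) (.node (nat_lit 12078) l197 l198) (.node (nat_lit 12200) l199 l200))
noncomputable def n65 : T := (.node (nat_lit 9150) (.node (nat_lit 7625) (.node (nat_lit 6832) (.node (nat_lit 6466) (.node (nat_lit 6283) n33 n34) (.node (nat_lit 6649) n35 n36)) (.node (nat_lit 7198) (.node (nat_lit 7015) n37 n38) (.node (nat_lit 7381) n39 n40))) (.node (nat_lit 8357) (.node (nat_lit 7991) (.node (nat_lit 7808) n41 n42) (.node (nat_lit 8174) n43 n44)) (.node (nat_lit 8723) (.node (nat_lit 8540) n45 n46) (.node (nat_lit 8906) n47 n48)))) (.node (nat_lit 10675) (.node (nat_lit 9882) (.node (nat_lit 9516) (.node (nat_lit 9333) n49 n50) (.node (nat_lit 9699) n51 n52)) (.node (nat_lit 10248) (.node (nat_lit 10065) n53 n54) (.node (nat_lit 10431) n55 n56))) (.node (nat_lit 11468) (.node (nat_lit 11041) (.node (nat_lit 10858) n57 n58) (.node (nat_lit 11224) n59 n60)) (.node (nat_lit 11834) (.node (nat_lit 11651) n61 n62) (.node (nat_lit 12017) n63 n64)))))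
noncomputable def n66 : T := (.node (nat_lit 12322) l201 (.node (nat_lit 12383) l202 l203))
noncomputable def n67 : T := (.node (nat_lit 12505) l204 (.node (nat_lit 12566) l205 l206))
noncomputable def n68 : T := (.node (nat_lit 12688) l207 (.node (nat_lit 12749) l208 l209))
noncomputable def n69 : T := (.node (nat_lit 12871) l210 (.node (nat_lit 12932) l211 l212))
noncomputable def n70 : T := (.node (nat_lit 13054) l213 (.node (nat_lit 13115) l214 l215))
noncomputable def n71 : T := (.node (nat_lit 13237) l216 (.node (nat_lit 13298) l217 l218))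
noncomputable def n72 : T := (.node (nat_lit 13420) l219 (.node (nat_lit 13481) l220 l221))
noncomputable def n73 : T := (.node (nat_lit 13664) (.node (nat_lit 13603) l222 l223) (.node (nat_lit 13725) l224 l225))
noncomputable def n74 : T := (.node (nat_lit 13847) l226 (.node (nat_lit 13908) l227 l228))
noncomputable def n75 : T := (.node (nat_lit 14030) l229 (.node (nat_lit 14091) l230 l231))
noncomputable def n76 : T := (.node (nat_lit 14213) l232 (.node (nat_lit 14274) l233 l234))
noncomputable def n77 : T := (.node (nat_lit 14396) l235 (.node (nat_lit 14457) l236 l237))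
noncomputable def n78 : T := (.node (nat_lit 14579) l238 (.node (nat_lit 14640) l239 l240))
noncomputable def n79 : T := (.node (nat_lit 14762) l241 (.node (nat_lit 14823) l242 l243))
noncomputable def n80 : T := (.node (nat_lit 14945) l244 (.node (nat_lit 15006) l245 l246))
noncomputable def n81 : T := (.node (nat_lit 15189) (.node (nat_lit 15128) l247 l248) (.node (nat_lit 15250) l249 l250))
noncomputable def n82 : T := (.node (nat_lit 15372) l251 (.node (nat_lit 15433) l252 l253))
noncomputable def n83 : T := (.node (nat_lit 15555) l254 (.node (nat_lit 15616) l255 l256))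
noncomputable def n84 : T := (.node (nat_lit 15738) l257 (.node (nat_lit 15799) l258 l259))
noncomputable def n85 : T := (.node (nat_lit 15921) l260 (.node (nat_lit 15982) l261 l262))
noncomputable def n86 : T := (.node (nat_lit 16104) l263 (.node (nat_lit 16165) l264 l265))
noncomputable def n87 : T := (.node (nat_lit 16287) l266 (.node (nat_lit 16348) l267 l268))
noncomputable def n88 : T := (.node (nat_lit 16470) l269 (.node (nat_lit 16531) l270 l271))
noncomputable def n89 : T := (.node (nat_lit 16714) (.node (nat_lit 16653) l272 l273) (.node (nat_lit 16775) l274 l275))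
noncomputable def n90 : T := (.node (nat_lit 16897) l276 (.node (nat_lit 16958) l277 l278))
noncomputable def n91 : T := (.node (nat_lit 17080) l279 (.node (nat_lit 17141) l280 l281))
noncomputable def n92 : T := (.node (nat_lit 17263) l282 (.node (nat_lit 17324) l283 l284))
noncomputable def n93 : T := (.node (nat_lit 17507) (.node (nat_lit 17446) l285 l286) (.node (nat_lit 17568) l287 l288))
noncomputable def n94 : T := (.node (nat_lit 17690) l289 (.node (nat_lit 17751) l290 l291))
noncomputable def n95 : T := (.node (nat_lit 17873) l292 (.node (nat_lit 17934) l293 l294))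
noncomputable def n96 : T := (.node (nat_lit 18056) l295 (.node (nat_lit 18117) l296 l297))
noncomputable def n97 : T := (.node (nat_lit 18300) (.node (nat_lit 18239) l298 l299) (.node (nat_lit 18361) l300 l301))
noncomputable def n98 : T := (.node (nat_lit 15311) (.node (nat_lit 13786) (.node (nat_lit 12993) (.node (nat_lit 12627) (.node (nat_lit 12444) n66 n67) (.node (nat_lit 12810) n68 n69)) (.node (nat_lit 13359) (.node (nat_lit 13176) n70 n71) (.node (nat_lit 13542) n72 n73))) (.node (nat_lit 14518) (.node (nat_lit 14152) (.node (nat_lit 13969) n74 n75) (.node (nat_lit 14335) n76 n77)) (.node (nat_lit 14884) (.node (nat_lit 14701) n78 n79) (.node (nat_lit 15067) n80 n81)))) (.node (nat_lit 16836) (.node (nat_lit 16043) (.node (nat_lit 15677) (.node (nat_lit 15494) n82 n83) (.node (nat_lit 15860) n84 n85)) (.node (nat_lit 16409) (.node (nat_lit 16226) n86 n87) (.node (nat_lit 16592) n88 n89))) (.node (nat_lit 17629) (.node (nat_lit 17202) (.node (nat_lit 17019) n90 n91) (.node (nat_lit 17385) n92 n93)) (.node (nat_lit 17995) (.node (nat_lit 17812) n94 n95) (.node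 (nat_lit 18178) n96 n97)))))
noncomputable def n99 : T := (.node (nat_lit 18483) l302 (.node (nat_lit 18544) l303 l304))
noncomputable def n100 : T := (.node (nat_lit 18666) l305 (.node (nat_lit 18727) l306 l307))
noncomputable def n101 : T := (.node (nat_lit 18849) l308 (.node (nat_lit 18910) l309 l310))
noncomputable def n102 : T := (.node (nat_lit 19032) l311 (.node (nat_lit 19093) l312 l313))
noncomputable def n103 : T := (.node (nat_lit 19215) l314 (.node (nat_lit 19276) l315 l316))
noncomputable def n104 : T := (.node (nat_lit 19398) l317 (.node (nat_lit 19459) l318 l319))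
noncomputable def n105 : T := (.node (nat_lit 19581) l320 (.node (nat_lit 19642) l321 l322))
noncomputable def n106 : T := (.node (nat_lit 19825) (.node (nat_lit 19764) l323 l324) (.node (nat_lit 19886) l325 l326))
noncomputable def n107 : T := (.node (nat_lit 20008) l327 (.node (nat_lit 20069) l328 l329))
noncomputable def n108 : T := (.node (nat_lit 20191) l330 (.node (nat_lit 20252) l331 l332))
noncomputable def n109 : T := (.node (nat_lit 20374) l333 (.node (nat_lit 20435) l334 l335))
noncomputable def n110 : T := (.node (nat_lit 20557) l336 (.node (nat_lit 20618) l337 l338))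
noncomputable def n111 : T := (.node (nat_lit 20740) l339 (.node (nat_lit 20801) l340 l341))
noncomputable def n112 : T := (.node (nat_lit 20923) l342 (.node (nat_lit 20984) l343 l344))
noncomputable def n113 : T := (.node (nat_lit 21106) l345 (.node (nat_lit 21167) l346 l347))
noncomputable def n114 : T := (.node (nat_lit 21350) (.node (nat_lit 21289) l348 l349) (.node (nat_lit 21411) l350 l351))
noncomputable def n115 : T := (.node (nat_lit 21533) l352 (.node (nat_lit 21594) l353 l354))
noncomputable def n116 : T := (.node (nat_lit 21716) l355 (.node (nat_lit 21777) l356 l357))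
noncomputable def n117 : T := (.node (nat_lit 21899) l358 (.node (nat_lit 21960) l359 l360))
noncomputable def n118 : T := (.node (nat_lit 22082) l361 (.node (nat_lit 22143) l362 l363))
noncomputable def n119 : T := (.node (nat_lit 22265) l364 (.node (nat_lit 22326) l365 l366))
noncomputable def n120 : T := (.node (nat_lit 22448) l367 (.node (nat_lit 22509) l368 l369))
noncomputable def n121 : T := (.node (nat_lit 22631) l370 (.node (nat_lit 22692) l371 l372))
noncomputable def n122 : T := (.node (nat_lit 22875) (.node (nat_lit 22814) l373 l374) (.node (nat_lit 22936) l375 l376))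
noncomputable def n123 : T := (.node (nat_lit 23058) l377 (.node (nat_lit 23119) l378 l379))
noncomputable def n124 : T := (.node (nat_lit 23241) l380 (.node (nat_lit 23302) l381 l382))
noncomputable def n125 : T := (.node (nat_lit 23424) l383 (.node (nat_lit 23485) l384 l385))
noncomputable def n126 : T := (.node (nat_lit 23668) (.node (nat_lit 23607) l386 l387) (.node (nat_lit 23729) l388 l389))
noncomputable def n127 : T := (.node (nat_lit 23851) l390 (.node (nat_lit 23912) l391 l392))
noncomputable def n128 : T := (.node (nat_lit 24034) l393 (.node (nat_lit 24095) l394 l395))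
noncomputable def n129 : T := (.node (nat_lit 24217) l396 (.node (nat_lit 24278) l397 l398))
noncomputable def n130 : T := (.node (nat_lit 24461) (.node (nat_lit 24400) l399 l400) (.node (nat_lit 24522) l401 l402))
noncomputable def n131 : T := (.node (nat_lit 21472) (.node (nat_lit 19947) (.node (nat_lit 19154) (.node (nat_lit 18788) (.node (nat_lit 18605) n99 n100) (.node (nat_lit 18971) n101 n102)) (.node (nat_lit 19520) (.node (nat_lit 19337) n103 n104) (.node (nat_lit 19703) n105 n106))) (.node (nat_lit 20679) (.node (nat_lit 20313) (.node (nat_lit 20130) n107 n108) (.node (nat_lit 20496) n109 n110)) (.node (nat_lit 21045) (.node (nat_lit 20862) n111 n112) (.node (nat_lit 21228) n113 n114)))) (.node (nat_lit 22997) (.node (nat_lit 22204) (.node (nat_lit 21838) (.node (nat_lit 21655) n115 n116) (.node (nat_lit 22021) n117 n118)) (.node (nat_lit 22570) (.node (nat_lit 22387) n119 n120) (.node (nat_lit 22753) n121 n122))) (.node (nat_lit 23790) (.node (nat_lit 23363) (.node (nat_lit 23180) n123 n124) (.node (nat_lit 23546) n125 n126)) (.node (nat_lit 24156) (.node (nat_lit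 23973) n127 n128) (.node (nat_lit 24339) n129 n130)))))
noncomputable def n132 : T := (.node (nat_lit 24644) l403 (.node (nat_lit 24705) l404 l405))
noncomputable def n133 : T := (.node (nat_lit 24827) l406 (.node (nat_lit 24888) l407 l408))
noncomputable def n134 : T := (.node (nat_lit 25010) l409 (.node (nat_lit 25071) l410 l411))
noncomputable def n135 : T := (.node (nat_lit 25193) l412 (.node (nat_lit 25254) l413 l414))
noncomputable def n136 : T := (.node (nat_lit 25376) l415 (.node (nat_lit 25437) l416 l417))
noncomputable def n137 : T := (.node (nat_lit 25559) l418 (.node (nat_lit 25620) l419 l420))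
noncomputable def n138 : T := (.node (nat_lit 25742) l421 (.node (nat_lit 25803) l422 l423))
noncomputable def n139 : T := (.node (nat_lit 25986) (.node (nat_lit 25925) l424 l425) (.node (nat_lit 26047) l426 l427))
noncomputable def n140 : T := (.node (nat_lit 26169) l428 (.node (nat_lit 26230) l429 l430))
noncomputable def n141 : T := (.node (nat_lit 26352) l431 (.node (nat_lit 26413) l432 l433))
noncomputable def n142 : T := (.node (nat_lit 26535) l434 (.node (nat_lit 26596) l435 l436))
noncomputable def n143 : T := (.node (nat_lit 26718) l437 (.node (nat_lit 26779) l438 l439))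
noncomputable def n144 : T := (.node (nat_lit 26901) l440 (.node (nat_lit 26962) l441 l442))
noncomputable def n145 : T := (.node (nat_lit 27084) l443 (.node (nat_lit 27145) l444 l445))
noncomputable def n146 : T := (.node (nat_lit 27267) l446 (.node (nat_lit 27328) l447 l448))
noncomputable def n147 : T := (.node (nat_lit 27511) (.node (nat_lit 27450) l449 l450) (.node (nat_lit 27572) l451 l452))
noncomputable def n148 : T := (.node (nat_lit 27694) l453 (.node (nat_lit 27755) l454 l455))
noncomputable def n149 : T := (.node (nat_lit 27877) l456 (.node (nat_lit 27938) l457 l458))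
noncomputable def n150 : T := (.node (nat_lit 28060) l459 (.node (nat_lit 28121) l460 l461))
noncomputable def n151 : T := (.node (nat_lit 28243) l462 (.node (nat_lit 28304) l463 l464))
noncomputable def n152 : T := (.node (nat_lit 28426) l465 (.node (nat_lit 28487) l466 l467))
noncomputable def n153 : T := (.node (nat_lit 28609) l468 (.node (nat_lit 28670) l469 l470))
noncomputable def n154 : T := (.node (nat_lit 28792) l471 (.node (nat_lit 28853) l472 l473))
noncomputable def n155 : T := (.node (nat_lit 29036) (.node (nat_lit 28975) l474 l475) (.node (nat_lit 29097) l476 l477))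
noncomputable def n156 : T := (.node (nat_lit 29219) l478 (.node (nat_lit 29280) l479 l480))
noncomputable def n157 : T := (.node (nat_lit 29402) l481 (.node (nat_lit 29463) l482 l483))
noncomputable def n158 : T := (.node (nat_lit 29585) l484 (.node (nat_lit 29646) l485 l486))
noncomputable def n159 : T := (.node (nat_lit 29768) l487 (.node (nat_lit 29829) l488 l489))
noncomputable def n160 : T := (.node (nat_lit 29951) l490 (.node (nat_lit 30012) l491 l492))
noncomputable def n161 : T := (.node (nat_lit 30134) l493 (.node (nat_lit 30195) l494 l495))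
noncomputable def n162 : T := (.node (nat_lit 30317) l496 (.node (nat_lit 30378) l497 l498))
noncomputable def n163 : T := (.node (nat_lit 30561) (.node (nat_lit 30500) l499 l500) (.node (nat_lit 30622) l501 l502))
noncomputable def n164 : T := (.node (nat_lit 27633) (.node (nat_lit 26108) (.node (nat_lit 25315) (.node (nat_lit 24949) (.node (nat_lit 24766) n132 n133) (.node (nat_lit 25132) n134 n135)) (.node (nat_lit 25681) (.node (nat_lit 25498) n136 n137) (.node (nat_lit 25864) n138 n139))) (.node (nat_lit 26840) (.node (nat_lit 26474) (.node (nat_lit 26291) n140 n141) (.node (nat_lit 26657) n142 n143)) (.node (nat_lit 27206) (.node (nat_lit 27023) n144 n145) (.node (nat_lit 27389) n146 n147)))) (.node (nat_lit 29158) (.node (nat_lit 28365) (.node (nat_lit 27999) (.node (nat_lit 27816) n148 n149) (.node (nat_lit 28182) n150 n151)) (.node (nat_lit 28731) (.node (nat_lit 28548) n152 n153) (.node (nat_lit 28914) n154 n155))) (.node (nat_lit 29890) (.node (nat_lit 29524) (.node (nat_lit 29341) n156 n157) (.node (nat_lit 29707) n158 n159)) (.node (nat_lit 30256) (.node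 (nat_lit 30073) n160 n161) (.node (nat_lit 30439) n162 n163)))))
noncomputable def n165 : T := (.node (nat_lit 30744) l503 (.node (nat_lit 30805) l504 l505))
noncomputable def n166 : T := (.node (nat_lit 30927) l506 (.node (nat_lit 30988) l507 l508))
noncomputable def n167 : T := (.node (nat_lit 31110) l509 (.node (nat_lit 31171) l510 l511))
noncomputable def n168 : T := (.node (nat_lit 31293) l512 (.node (nat_lit 31354) l513 l514))
noncomputable def n169 : T := (.node (nat_lit 31476) l515 (.node (nat_lit 31537) l516 l517))
noncomputable def n170 : T := (.node (nat_lit 31659) l518 (.node (nat_lit 31720) l519 l520))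
noncomputable def n171 : T := (.node (nat_lit 31842) l521 (.node (nat_lit 31903) l522 l523))
noncomputable def n172 : T := (.node (nat_lit 32086) (.node (nat_lit 32025) l524 l525) (.node (nat_lit 32147) l526 l527))
noncomputable def n173 : T := (.node (nat_lit 32269) l528 (.node (nat_lit 32330) l529 l530))
noncomputable def n174 : T := (.node (nat_lit 32452) l531 (.node (nat_lit 32513) l532 l533))
noncomputable def n175 : T := (.node (nat_lit 32635) l534 (.node (nat_lit 32696) l535 l536))
noncomputable def n176 : T := (.node (nat_lit 32818) l537 (.node (nat_lit 32879) l538 l539))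
noncomputable def n177 : T := (.node (nat_lit 33001) l540 (.node (nat_lit 33062) l541 l542))
noncomputable def n178 : T := (.node (nat_lit 33184) l543 (.node (nat_lit 33245) l544 l545))
noncomputable def n179 : T := (.node (nat_lit 33367) l546 (.node (nat_lit 33428) l547 l548))
noncomputable def n180 : T := (.node (nat_lit 33611) (.node (nat_lit 33550) l549 l550) (.node (nat_lit 33672) l551 l552))
noncomputable def n181 : T := (.node (nat_lit 33794) l553 (.node (nat_lit 33855) l554 l555))
noncomputable def n182 : T := (.node (nat_lit 33977) l556 (.node (nat_lit 34038) l557 l558))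
noncomputable def n183 : T := (.node (nat_lit 34160) l559 (.node (nat_lit 34221) l560 l561))
noncomputable def n184 : T := (.node (nat_lit 34343) l562 (.node (nat_lit 34404) l563 l564))
noncomputable def n185 : T := (.node (nat_lit 34526) l565 (.node (nat_lit 34587) l566 l567))
noncomputable def n186 : T := (.node (nat_lit 34709) l568 (.node (nat_lit 34770) l569 l570))
noncomputable def n187 : T := (.node (nat_lit 34892) l571 (.node (nat_lit 34953) l572 l573))
noncomputable def n188 : T := (.node (nat_lit 35136) (.node (nat_lit 35075) l574 l575) (.node (nat_lit 35197) l576 l577))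
noncomputable def n189 : T := (.node (nat_lit 35319) l578 (.node (nat_lit 35380) l579 l580))
noncomputable def n190 : T := (.node (nat_lit 35502) l581 (.node (nat_lit 35563) l582 l583))
noncomputable def n191 : T := (.node (nat_lit 35685) l584 (.node (nat_lit 35746) l585 l586))
noncomputable def n192 : T := (.node (nat_lit 35929) (.node (nat_lit 35868) l587 l588) (.node (nat_lit 35990) l589 l590))
noncomputable def n193 : T := (.node (nat_lit 36112) l591 (.node (nat_lit 36173) l592 l593))
noncomputable def n194 : T := (.node (nat_lit 36295) l594 (.node (nat_lit 36356) l595 l596))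
noncomputable def n195 : T := (.node (nat_lit 36478) l597 (.node (nat_lit 36539) l598 l599))
noncomputable def n196 : T := (.node (nat_lit 36722) (.node (nat_lit 36661) l600 l601) (.node (nat_lit 36783) l602 l603))
noncomputable def n197 : T := (.node (nat_lit 33733) (.node (nat_lit 32208) (.node (nat_lit 31415) (.node (nat_lit 31049) (.node (nat_lit 30866) n165 n166) (.node (nat_lit 31232) n167 n168)) (.node (nat_lit 31781) (.node (nat_lit 31598) n169 n170) (.node (nat_lit 31964) n171 n172))) (.node (nat_lit 32940) (.node (nat_lit 32574) (.node (nat_lit 32391) n173 n174) (.node (nat_lit 32757) n175 n176)) (.node (nat_lit 33306) (.node (nat_lit 33123) n177 n178) (.node (nat_lit 33489) n179 n180)))) (.node (nat_lit 35258) (.node (nat_lit 34465) (.node (nat_lit 34099) (.node (nat_lit 33916) n181 n182) (.node (nat_lit 34282) n183 n184)) (.node (nat_lit 34831) (.node (nat_lit 34648) n185 n186) (.node (nat_lit 35014) n187 n188))) (.node (nat_lit 36051) (.node (nat_lit 35624) (.node (nat_lit 35441) n189 n190) (.node (nat_lit 35807) n191 n192)) (.node (nat_lit 36417) (.node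 (nat_lit 36234) n193 n194) (.node (nat_lit 36600) n195 n196)))))
noncomputable def n198 : T := (.node (nat_lit 36905) l604 (.node (nat_lit 36966) l605 l606))
noncomputable def n199 : T := (.node (nat_lit 37088) l607 (.node (nat_lit 37149) l608 l609))
noncomputable def n200 : T := (.node (nat_lit 37271) l610 (.node (nat_lit 37332) l611 l612))
noncomputable def n201 : T := (.node (nat_lit 37454) l613 (.node (nat_lit 37515) l614 l615))
noncomputable def n202 : T := (.node (nat_lit 37637) l616 (.node (nat_lit 37698) l617 l618))
noncomputable def n203 : T := (.node (nat_lit 37820) l619 (.node (nat_lit 37881) l620 l621))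
noncomputable def n204 : T := (.node (nat_lit 38003) l622 (.node (nat_lit 38064) l623 l624))
noncomputable def n205 : T := (.node (nat_lit 38247) (.node (nat_lit 38186) l625 l626) (.node (nat_lit 38308) l627 l628))
noncomputable def n206 : T := (.node (nat_lit 38430) l629 (.node (nat_lit 38491) l630 l631))
noncomputable def n207 : T := (.node (nat_lit 38613) l632 (.node (nat_lit 38674) l633 l634))
noncomputable def n208 : T := (.node (nat_lit 38796) l635 (.node (nat_lit 38857) l636 l637))
noncomputable def n209 : T := (.node (nat_lit 38979) l638 (.node (nat_lit 39040) l639 l640))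
noncomputable def n210 : T := (.node (nat_lit 39162) l641 (.node (nat_lit 39223) l642 l643))
noncomputable def n211 : T := (.node (nat_lit 39345) l644 (.node (nat_lit 39406) l645 l646))
noncomputable def n212 : T := (.node (nat_lit 39528) l647 (.node (nat_lit 39589) l648 l649))
noncomputable def n213 : T := (.node (nat_lit 39772) (.node (nat_lit 39711) l650 l651) (.node (nat_lit 39833) l652 l653))
noncomputable def n214 : T := (.node (nat_lit 39955) l654 (.node (nat_lit 40016) l655 l656))
noncomputable def n215 : T := (.node (nat_lit 40138) l657 (.node (nat_lit 40199) l658 l659))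
noncomputable def n216 : T := (.node (nat_lit 40321) l660 (.node (nat_lit 40382) l661 l662))
noncomputable def n217 : T := (.node (nat_lit 40504) l663 (.node (nat_lit 40565) l664 l665))
noncomputable def n218 : T := (.node (nat_lit 40687) l666 (.node (nat_lit 40748) l667 l668))
noncomputable def n219 : T := (.node (nat_lit 40870) l669 (.node (nat_lit 40931) l670 l671))
noncomputable def n220 : T := (.node (nat_lit 41053) l672 (.node (nat_lit 41114) l673 l674))
noncomputable def n221 : T := (.node (nat_lit 41297) (.node (nat_lit 41236) l675 l676) (.node (nat_lit 41358) l677 l678))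
noncomputable def n222 : T := (.node (nat_lit 41480) l679 (.node (nat_lit 41541) l680 l681))
noncomputable def n223 : T := (.node (nat_lit 41663) l682 (.node (nat_lit 41724) l683 l684))
noncomputable def n224 : T := (.node (nat_lit 41846) l685 (.node (nat_lit 41907) l686 l687))
noncomputable def n225 : T := (.node (nat_lit 42090) (.node (nat_lit 42029) l688 l689) (.node (nat_lit 42151) l690 l691))
noncomputable def n226 : T := (.node (nat_lit 42273) l692 (.node (nat_lit 42334) l693 l694))
noncomputable def n227 : T := (.node (nat_lit 42456) l695 (.node (nat_lit 42517) l696 l697))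
noncomputable def n228 : T := (.node (nat_lit 42639) l698 (.node (nat_lit 42700) l699 l700))
noncomputable def n229 : T := (.node (nat_lit 42883) (.node (nat_lit 42822) l701 l702) (.node (nat_lit 42944) l703 l704))
noncomputable def n230 : T := (.node (nat_lit 39894) (.node (nat_lit 38369) (.node (nat_lit 37576) (.node (nat_lit 37210) (.node (nat_lit 37027) n198 n199) (.node (nat_lit 37393) n200 n201)) (.node (nat_lit 37942) (.node (nat_lit 37759) n202 n203) (.node (nat_lit 38125) n204 n205))) (.node (nat_lit 39101) (.node (nat_lit 38735) (.node (nat_lit 38552) n206 n207) (.node (nat_lit 38918) n208 n209)) (.node (nat_lit 39467) (.node (nat_lit 39284) n210 n211) (.node (nat_lit 39650) n212 n213)))) (.node (nat_lit 41419) (.node (nat_lit 40626) (.node (nat_lit 40260) (.node (nat_lit 40077) n214 n215) (.node (nat_lit 40443) n216 n217)) (.node (nat_lit 40992) (.node (nat_lit 40809) n218 n219) (.node (nat_lit 41175) n220 n221))) (.node (nat_lit 42212) (.node (nat_lit 41785) (.node (nat_lit 41602) n222 n223) (.node (nat_lit 41968) n224 n225)) (.node (nat_lit 42578) (.node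 (nat_lit 42395) n226 n227) (.node (nat_lit 42761) n228 n229)))))
noncomputable def n231 : T := (.node (nat_lit 43066) l705 (.node (nat_lit 43127) l706 l707))
noncomputable def n232 : T := (.node (nat_lit 43249) l708 (.node (nat_lit 43310) l709 l710))
noncomputable def n233 : T := (.node (nat_lit 43432) l711 (.node (nat_lit 43493) l712 l713))
noncomputable def n234 : T := (.node (nat_lit 43615) l714 (.node (nat_lit 43676) l715 l716))
noncomputable def n235 : T := (.node (nat_lit 43798) l717 (.node (nat_lit 43859) l718 l719))
noncomputable def n236 : T := (.node (nat_lit 43981) l720 (.node (nat_lit 44042) l721 l722))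
noncomputable def n237 : T := (.node (nat_lit 44164) l723 (.node (nat_lit 44225) l724 l725))
noncomputable def n238 : T := (.node (nat_lit 44408) (.node (nat_lit 44347) l726 l727) (.node (nat_lit 44469) l728 l729))
noncomputable def n239 : T := (.node (nat_lit 44591) l730 (.node (nat_lit 44652) l731 l732))
noncomputable def n240 : T := (.node (nat_lit 44774) l733 (.node (nat_lit 44835) l734 l735))
noncomputable def n241 : T := (.node (nat_lit 44957) l736 (.node (nat_lit 45018) l737 l738))
noncomputable def n242 : T := (.node (nat_lit 45140) l739 (.node (nat_lit 45201) l740 l741))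
noncomputable def n243 : T := (.node (nat_lit 45323) l742 (.node (nat_lit 45384) l743 l744))
noncomputable def n244 : T := (.node (nat_lit 45506) l745 (.node (nat_lit 45567) l746 l747))
noncomputable def n245 : T := (.node (nat_lit 45689) l748 (.node (nat_lit 45750) l749 l750))
noncomputable def n246 : T := (.node (nat_lit 45933) (.node (nat_lit 45872) l751 l752) (.node (nat_lit 45994) l753 l754))
noncomputable def n247 : T := (.node (nat_lit 46116) l755 (.node (nat_lit 46177) l756 l757))
noncomputable def n248 : T := (.node (nat_lit 46299) l758 (.node (nat_lit 46360) l759 l760))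
noncomputable def n249 : T := (.node (nat_lit 46482) l761 (.node (nat_lit 46543) l762 l763))
noncomputable def n250 : T := (.node (nat_lit 46665) l764 (.node (nat_lit 46726) l765 l766))
noncomputable def n251 : T := (.node (nat_lit 46848) l767 (.node (nat_lit 46909) l768 l769))
noncomputable def n252 : T := (.node (nat_lit 47031) l770 (.node (nat_lit 47092) l771 l772))
noncomputable def n253 : T := (.node (nat_lit 47214) l773 (.node (nat_lit 47275) l774 l775))
noncomputable def n254 : T := (.node (nat_lit 47458) (.node (nat_lit 47397) l776 l777) (.node (nat_lit 47519) l778 l779))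
noncomputable def n255 : T := (.node (nat_lit 47641) l780 (.node (nat_lit 47702) l781 l782))
noncomputable def n256 : T := (.node (nat_lit 47824) l783 (.node (nat_lit 47885) l784 l785))
noncomputable def n257 : T := (.node (nat_lit 48007) l786 (.node (nat_lit 48068) l787 l788))
noncomputable def n258 : T := (.node (nat_lit 48251) (.node (nat_lit 48190) l789 l790) (.node (nat_lit 48312) l791 l792))
noncomputable def n259 : T := (.node (nat_lit 48434) l793 (.node (nat_lit 48495) l794 l795))
noncomputable def n260 : T := (.node (nat_lit 48617) l796 (.node (nat_lit 48678) l797 l798))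
noncomputable def n261 : T := (.node (nat_lit 48800) l799 (.node (nat_lit 48861) l800 l801))
noncomputable def n262 : T := (.node (nat_lit 49044) (.node (nat_lit 48983) l802 l803) (.node (nat_lit 49105) l804 l805))
noncomputable def n263 : T := (.node (nat_lit 46055) (.node (nat_lit 44530) (.node (nat_lit 43737) (.node (nat_lit 43371) (.node (nat_lit 43188) n231 n232) (.node (nat_lit 43554) n233 n234)) (.node (nat_lit 44103) (.node (nat_lit 43920) n235 n236) (.node (nat_lit 44286) n237 n238))) (.node (nat_lit 45262) (.node (nat_lit 44896) (.node (nat_lit 44713) n239 n240) (.node (nat_lit 45079) n241 n242)) (.node (nat_lit 45628) (.node (nat_lit 45445) n243 n244) (.node (nat_lit 45811) n245 n246)))) (.node (nat_lit 47580) (.node (nat_lit 46787) (.node (nat_lit 46421) (.node (nat_lit 46238) n247 n248) (.node (nat_lit 46604) n249 n250)) (.node (nat_lit 47153) (.node (nat_lit 46970) n251 n252) (.node (nat_lit 47336) n253 n254))) (.node (nat_lit 48373) (.node (nat_lit 47946) (.node (nat_lit 47763) n255 n256) (.node (nat_lit 48129) n257 n258)) (.node (nat_lit 48739) (.node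 (nat_lit 48556) n259 n260) (.node (nat_lit 48922) n261 n262)))))
noncomputable def n264 : T := (.node (nat_lit 49227) l806 (.node (nat_lit 49288) l807 l808))
noncomputable def n265 : T := (.node (nat_lit 49410) l809 (.node (nat_lit 49471) l810 l811))
noncomputable def n266 : T := (.node (nat_lit 49593) l812 (.node (nat_lit 49654) l813 l814))
noncomputable def n267 : T := (.node (nat_lit 49776) l815 (.node (nat_lit 49837) l816 l817))
noncomputable def n268 : T := (.node (nat_lit 49959) l818 (.node (nat_lit 50020) l819 l820))
noncomputable def n269 : T := (.node (nat_lit 50142) l821 (.node (nat_lit 50203) l822 l823))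
noncomputable def n270 : T := (.node (nat_lit 50325) l824 (.node (nat_lit 50386) l825 l826))
noncomputable def n271 : T := (.node (nat_lit 50569) (.node (nat_lit 50508) l827 l828) (.node (nat_lit 50630) l829 l830))
noncomputable def n272 : T := (.node (nat_lit 50752) l831 (.node (nat_lit 50813) l832 l833))
noncomputable def n273 : T := (.node (nat_lit 50935) l834 (.node (nat_lit 50996) l835 l836))
noncomputable def n274 : T := (.node (nat_lit 51118) l837 (.node (nat_lit 51179) l838 l839))
noncomputable def n275 : T := (.node (nat_lit 51301) l840 (.node (nat_lit 51362) l841 l842))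
noncomputable def n276 : T := (.node (nat_lit 51484) l843 (.node (nat_lit 51545) l844 l845))
noncomputable def n277 : T := (.node (nat_lit 51667) l846 (.node (nat_lit 51728) l847 l848))
noncomputable def n278 : T := (.node (nat_lit 51850) l849 (.node (nat_lit 51911) l850 l851))
noncomputable def n279 : T := (.node (nat_lit 52094) (.node (nat_lit 52033) l852 l853) (.node (nat_lit 52155) l854 l855))
noncomputable def n280 : T := (.node (nat_lit 52277) l856 (.node (nat_lit 52338) l857 l858))
noncomputable def n281 : T := (.node (nat_lit 52460) l859 (.node (nat_lit 52521) l860 l861))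
noncomputable def n282 : T := (.node (nat_lit 52643) l862 (.node (nat_lit 52704) l863 l864))
noncomputable def n283 : T := (.node (nat_lit 52826) l865 (.node (nat_lit 52887) l866 l867))
noncomputable def n284 : T := (.node (nat_lit 53009) l868 (.node (nat_lit 53070) l869 l870))
noncomputable def n285 : T := (.node (nat_lit 53192) l871 (.node (nat_lit 53253) l872 l873))
noncomputable def n286 : T := (.node (nat_lit 53375) l874 (.node (nat_lit 53436) l875 l876))
noncomputable def n287 : T := (.node (nat_lit 53619) (.node (nat_lit 53558) l877 l878) (.node (nat_lit 53680) l879 l880))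
noncomputable def n288 : T := (.node (nat_lit 53802) l881 (.node (nat_lit 53863) l882 l883))
noncomputable def n289 : T := (.node (nat_lit 53985) l884 (.node (nat_lit 54046) l885 l886))
noncomputable def n290 : T := (.node (nat_lit 54168) l887 (.node (nat_lit 54229) l888 l889))
noncomputable def n291 : T := (.node (nat_lit 54351) l890 (.node (nat_lit 54412) l891 l892))
noncomputable def n292 : T := (.node (nat_lit 54534) l893 (.node (nat_lit 54595) l894 l895))
noncomputable def n293 : T := (.node (nat_lit 54717) l896 (.node (nat_lit 54778) l897 l898))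
noncomputable def n294 : T := (.node (nat_lit 54900) l899 (.node (nat_lit 54961) l900 l901))
noncomputable def n295 : T := (.node (nat_lit 55144) (.node (nat_lit 55083) l902 l903) (.node (nat_lit 55205) l904 l905))
noncomputable def n296 : T := (.node (nat_lit 52216) (.node (nat_lit 50691) (.node (nat_lit 49898) (.node (nat_lit 49532) (.node (nat_lit 49349) n264 n265) (.node (nat_lit 49715) n266 n267)) (.node (nat_lit 50264) (.node (nat_lit 50081) n268 n269) (.node (nat_lit 50447) n270 n271))) (.node (nat_lit 51423) (.node (nat_lit 51057) (.node (nat_lit 50874) n272 n273) (.node (nat_lit 51240) n274 n275)) (.node (nat_lit 51789) (.node (nat_lit 51606) n276 n277) (.node (nat_lit 51972) n278 n279)))) (.node (nat_lit 53741) (.node (nat_lit 52948) (.node (nat_lit 52582) (.node (nat_lit 52399) n280 n281) (.node (nat_lit 52765) n282 n283)) (.node (nat_lit 53314) (.node (nat_lit 53131) n284 n285) (.node (nat_lit 53497) n286 n287))) (.node (nat_lit 54473) (.node (nat_lit 54107) (.node (nat_lit 53924) n288 n289) (.node (nat_lit 54290) n290 n291)) (.node (nat_lit 54839) (.node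 (nat_lit 54656) n292 n293) (.node (nat_lit 55022) n294 n295)))))
noncomputable def n297 : T := (.node (nat_lit 55327) l906 (.node (nat_lit 55388) l907 l908))
noncomputable def n298 : T := (.node (nat_lit 55510) l909 (.node (nat_lit 55571) l910 l911))
noncomputable def n299 : T := (.node (nat_lit 55693) l912 (.node (nat_lit 55754) l913 l914))
noncomputable def n300 : T := (.node (nat_lit 55876) l915 (.node (nat_lit 55937) l916 l917))
noncomputable def n301 : T := (.node (nat_lit 56059) l918 (.node (nat_lit 56120) l919 l920))
noncomputable def n302 : T := (.node (nat_lit 56242) l921 (.node (nat_lit 56303) l922 l923))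
noncomputable def n303 : T := (.node (nat_lit 56425) l924 (.node (nat_lit 56486) l925 l926))
noncomputable def n304 : T := (.node (nat_lit 56669) (.node (nat_lit 56608) l927 l928) (.node (nat_lit 56730) l929 l930))
noncomputable def n305 : T := (.node (nat_lit 56852) l931 (.node (nat_lit 56913) l932 l933))
noncomputable def n306 : T := (.node (nat_lit 57035) l934 (.node (nat_lit 57096) l935 l936))
noncomputable def n307 : T := (.node (nat_lit 57218) l937 (.node (nat_lit 57279) l938 l939))
noncomputable def n308 : T := (.node (nat_lit 57401) l940 (.node (nat_lit 57462) l941 l942))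
noncomputable def n309 : T := (.node (nat_lit 57584) l943 (.node (nat_lit 57645) l944 l945))
noncomputable def n310 : T := (.node (nat_lit 57767) l946 (.node (nat_lit 57828) l947 l948))
noncomputable def n311 : T := (.node (nat_lit 57950) l949 (.node (nat_lit 58011) l950 l951))
noncomputable def n312 : T := (.node (nat_lit 58194) (.node (nat_lit 58133) l952 l953) (.node (nat_lit 58255) l954 l955))
noncomputable def n313 : T := (.node (nat_lit 58377) l956 (.node (nat_lit 58438) l957 l958))
noncomputable def n314 : T := (.node (nat_lit 58560) l959 (.node (nat_lit 58621) l960 l961))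
noncomputable def n315 : T := (.node (nat_lit 58743) l962 (.node (nat_lit 58804) l963 l964))
noncomputable def n316 : T := (.node (nat_lit 58926) l965 (.node (nat_lit 58987) l966 l967))
noncomputable def n317 : T := (.node (nat_lit 59109) l968 (.node (nat_lit 59170) l969 l970))
noncomputable def n318 : T := (.node (nat_lit 59292) l971 (.node (nat_lit 59353) l972 l973))
noncomputable def n319 : T := (.node (nat_lit 59475) l974 (.node (nat_lit 59536) l975 l976))
noncomputable def n320 : T := (.node (nat_lit 59719) (.node (nat_lit 59658) l977 l978) (.node (nat_lit 59780) l979 l980))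
noncomputable def n321 : T := (.node (nat_lit 59902) l981 (.node (nat_lit 59963) l982 l983))
noncomputable def n322 : T := (.node (nat_lit 60085) l984 (.node (nat_lit 60146) l985 l986))
noncomputable def n323 : T := (.node (nat_lit 60268) l987 (.node (nat_lit 60329) l988 l989))
noncomputable def n324 : T := (.node (nat_lit 60512) (.node (nat_lit 60451) l990 l991) (.node (nat_lit 60573) l992 l993))
noncomputable def n325 : T := (.node (nat_lit 60695) l994 (.node (nat_lit 60756) l995 l996))
noncomputable def n326 : T := (.node (nat_lit 60878) l997 (.node (nat_lit 60939) l998 l999))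
noncomputable def n327 : T := (.node (nat_lit 61061) l1000 (.node (nat_lit 61122) l1001 l1002))
noncomputable def n328 : T := (.node (nat_lit 61305) (.node (nat_lit 61244) l1003 l1004) (.node (nat_lit 61366) l1005 l1006))
noncomputable def n329 : T := (.node (nat_lit 58316) (.node (nat_lit 56791) (.node (nat_lit 55998) (.node (nat_lit 55632) (.node (nat_lit 55449) n297 n298) (.node (nat_lit 55815) n299 n300)) (.node (nat_lit 56364) (.node (nat_lit 56181) n301 n302) (.node (nat_lit 56547) n303 n304))) (.node (nat_lit 57523) (.node (nat_lit 57157) (.node (nat_lit 56974) n305 n306) (.node (nat_lit 57340) n307 n308)) (.node (nat_lit 57889) (.node (nat_lit 57706) n309 n310) (.node (nat_lit 58072) n311 n312)))) (.node (nat_lit 59841) (.node (nat_lit 59048) (.node (nat_lit 58682) (.node (nat_lit 58499) n313 n314) (.node (nat_lit 58865) n315 n316)) (.node (nat_lit 59414) (.node (nat_lit 59231) n317 n318) (.node (nat_lit 59597) n319 n320))) (.node (nat_lit 60634) (.node (nat_lit 60207) (.node (nat_lit 60024) n321 n322) (.node (nat_lit 60390) n323 n324)) (.node (nat_lit 61000)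 (.node (nat_lit 60817) n325 n326) (.node (nat_lit 61183) n327 n328)))))
noncomputable def n330 : T := (.node (nat_lit 61488) l1007 (.node (nat_lit 61549) l1008 l1009))
noncomputable def n331 : T := (.node (nat_lit 61671) l1010 (.node (nat_lit 61732) l1011 l1012))
noncomputable def n332 : T := (.node (nat_lit 61854) l1013 (.node (nat_lit 61915) l1014 l1015))
noncomputable def n333 : T := (.node (nat_lit 62037) l1016 (.node (nat_lit 62098) l1017 l1018))
noncomputable def n334 : T := (.node (nat_lit 62220) l1019 (.node (nat_lit 62281) l1020 l1021))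
noncomputable def n335 : T := (.node (nat_lit 62403) l1022 (.node (nat_lit 62464) l1023 l1024))
noncomputable def n336 : T := (.node (nat_lit 62586) l1025 (.node (nat_lit 62647) l1026 l1027))
noncomputable def n337 : T := (.node (nat_lit 62830) (.node (nat_lit 62769) l1028 l1029) (.node (nat_lit 62891) l1030 l1031))
noncomputable def n338 : T := (.node (nat_lit 63013) l1032 (.node (nat_lit 63074) l1033 l1034))
noncomputable def n339 : T := (.node (nat_lit 63196) l1035 (.node (nat_lit 63257) l1036 l1037))
noncomputable def n340 : T := (.node (nat_lit 63379) l1038 (.node (nat_lit 63440) l1039 l1040))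
noncomputable def n341 : T := (.node (nat_lit 63562) l1041 (.node (nat_lit 63623) l1042 l1043))
noncomputable def n342 : T := (.node (nat_lit 63745) l1044 (.node (nat_lit 63806) l1045 l1046))
noncomputable def n343 : T := (.node (nat_lit 63928) l1047 (.node (nat_lit 63989) l1048 l1049))
noncomputable def n344 : T := (.node (nat_lit 64111) l1050 (.node (nat_lit 64172) l1051 l1052))
noncomputable def n345 : T := (.node (nat_lit 64355) (.node (nat_lit 64294) l1053 l1054) (.node (nat_lit 64416) l1055 l1056))
noncomputable def n346 : T := (.node (nat_lit 64538) l1057 (.node (nat_lit 64599) l1058 l1059))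
noncomputable def n347 : T := (.node (nat_lit 64721) l1060 (.node (nat_lit 64782) l1061 l1062))
noncomputable def n348 : T := (.node (nat_lit 64904) l1063 (.node (nat_lit 64965) l1064 l1065))
noncomputable def n349 : T := (.node (nat_lit 65087) l1066 (.node (nat_lit 65148) l1067 l1068))
noncomputable def n350 : T := (.node (nat_lit 65270) l1069 (.node (nat_lit 65331) l1070 l1071))
noncomputable def n351 : T := (.node (nat_lit 65453) l1072 (.node (nat_lit 65514) l1073 l1074))
noncomputable def n352 : T := (.node (nat_lit 65636) l1075 (.node (nat_lit 65697) l1076 l1077))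
noncomputable def n353 : T := (.node (nat_lit 65880) (.node (nat_lit 65819) l1078 l1079) (.node (nat_lit 65941) l1080 l1081))
noncomputable def n354 : T := (.node (nat_lit 66063) l1082 (.node (nat_lit 66124) l1083 l1084))
noncomputable def n355 : T := (.node (nat_lit 66246) l1085 (.node (nat_lit 66307) l1086 l1087))
noncomputable def n356 : T := (.node (nat_lit 66429) l1088 (.node (nat_lit 66490) l1089 l1090))
noncomputable def n357 : T := (.node (nat_lit 66673) (.node (nat_lit 66612) l1091 l1092) (.node (nat_lit 66734) l1093 l1094))
noncomputable def n358 : T := (.node (nat_lit 66856) l1095 (.node (nat_lit 66917) l1096 l1097))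
noncomputable def n359 : T := (.node (nat_lit 67039) l1098 (.node (nat_lit 67100) l1099 l1100))
noncomputable def n360 : T := (.node (nat_lit 67222) l1101 (.node (nat_lit 67283) l1102 l1103))
noncomputable def n361 : T := (.node (nat_lit 67466) (.node (nat_lit 67405) l1104 l1105) (.node (nat_lit 67527) l1106 l1107))
noncomputable def n362 : T := (.node (nat_lit 64477) (.node (nat_lit 62952) (.node (nat_lit 62159) (.node (nat_lit 61793) (.node (nat_lit 61610) n330 n331) (.node (nat_lit 61976) n332 n333)) (.node (nat_lit 62525) (.node (nat_lit 62342) n334 n335) (.node (nat_lit 62708) n336 n337))) (.node (nat_lit 63684) (.node (nat_lit 63318) (.node (nat_lit 63135) n338 n339) (.node (nat_lit 63501) n340 n341)) (.node (nat_lit 64050) (.node (nat_lit 63867) n342 n343) (.node (nat_lit 64233) n344 n345)))) (.node (nat_lit 66002) (.node (nat_lit 65209) (.node (nat_lit 64843) (.node (nat_lit 64660) n346 n347) (.node (nat_lit 65026) n348 n349)) (.node (nat_lit 65575) (.node (nat_lit 65392) n350 n351) (.node (nat_lit 65758) n352 n353))) (.node (nat_lit 66795) (.node (nat_lit 66368)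 (.node (nat_lit 66185) n354 n355) (.node (nat_lit 66551) n356 n357)) (.node (nat_lit 67161) (.node (nat_lit 66978) n358 n359) (.node (nat_lit 67344) n360 n361)))))
noncomputable def n363 : T := (.node (nat_lit 67649) l1108 (.node (nat_lit 67710) l1109 l1110))
noncomputable def n364 : T := (.node (nat_lit 67832) l1111 (.node (nat_lit 67893) l1112 l1113))
noncomputable def n365 : T := (.node (nat_lit 68015) l1114 (.node (nat_lit 68076) l1115 l1116))
noncomputable def n366 : T := (.node (nat_lit 68198) l1117 (.node (nat_lit 68259) l1118 l1119))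
noncomputable def n367 : T := (.node (nat_lit 68381) l1120 (.node (nat_lit 68442) l1121 l1122))
noncomputable def n368 : T := (.node (nat_lit 68564) l1123 (.node (nat_lit 68625) l1124 l1125))
noncomputable def n369 : T := (.node (nat_lit 68747) l1126 (.node (nat_lit 68808) l1127 l1128))
noncomputable def n370 : T := (.node (nat_lit 68991) (.node (nat_lit 68930) l1129 l1130) (.node (nat_lit 69052) l1131 l1132))
noncomputable def n371 : T := (.node (nat_lit 69174) l1133 (.node (nat_lit 69235) l1134 l1135))
noncomputable def n372 : T := (.node (nat_lit 69357) l1136 (.node (nat_lit 69418) l1137 l1138))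
noncomputable def n373 : T := (.node (nat_lit 69540) l1139 (.node (nat_lit 69601) l1140 l1141))
noncomputable def n374 : T := (.node (nat_lit 69723) l1142 (.node (nat_lit 69784) l1143 l1144))
noncomputable def n375 : T := (.node (nat_lit 69906) l1145 (.node (nat_lit 69967) l1146 l1147))
noncomputable def n376 : T := (.node (nat_lit 70089) l1148 (.node (nat_lit 70150) l1149 l1150))
noncomputable def n377 : T := (.node (nat_lit 70272) l1151 (.node (nat_lit 70333) l1152 l1153))
noncomputable def n378 : T := (.node (nat_lit 70516) (.node (nat_lit 70455) l1154 l1155) (.node (nat_lit 70577) l1156 l1157))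
noncomputable def n379 : T := (.node (nat_lit 70699) l1158 (.node (nat_lit 70760) l1159 l1160))
noncomputable def n380 : T := (.node (nat_lit 70882) l1161 (.node (nat_lit 70943) l1162 l1163))
noncomputable def n381 : T := (.node (nat_lit 71065) l1164 (.node (nat_lit 71126) l1165 l1166))
noncomputable def n382 : T := (.node (nat_lit 71248) l1167 (.node (nat_lit 71309) l1168 l1169))
noncomputable def n383 : T := (.node (nat_lit 71431) l1170 (.node (nat_lit 71492) l1171 l1172))
noncomputable def n384 : T := (.node (nat_lit 71614) l1173 (.node (nat_lit 71675) l1174 l1175))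
noncomputable def n385 : T := (.node (nat_lit 71797) l1176 (.node (nat_lit 71858) l1177 l1178))
noncomputable def n386 : T := (.node (nat_lit 72041) (.node (nat_lit 71980) l1179 l1180) (.node (nat_lit 72102) l1181 l1182))
noncomputable def n387 : T := (.node (nat_lit 72224) l1183 (.node (nat_lit 72285) l1184 l1185))
noncomputable def n388 : T := (.node (nat_lit 72407) l1186 (.node (nat_lit 72468) l1187 l1188))
noncomputable def n389 : T := (.node (nat_lit 72590) l1189 (.node (nat_lit 72651) l1190 l1191))
noncomputable def n390 : T := (.node (nat_lit 72834) (.node (nat_lit 72773) l1192 l1193) (.node (nat_lit 72895) l1194 l1195))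
noncomputable def n391 : T := (.node (nat_lit 73017) l1196 (.node (nat_lit 73078) l1197 l1198))
noncomputable def n392 : T := (.node (nat_lit 73200) l1199 (.node (nat_lit 73261) l1200 l1201))
noncomputable def n393 : T := (.node (nat_lit 73383) l1202 (.node (nat_lit 73444) l1203 l1204))
noncomputable def n394 : T := (.node (nat_lit 73627) (.node (nat_lit 73566) l1205 l1206) (.node (nat_lit 73688) l1207 l1208))
noncomputable def n395 : T := (.node (nat_lit 70638) (.node (nat_lit 69113) (.node (nat_lit 68320) (.node (nat_lit 67954) (.node (nat_lit 67771) n363 n364) (.node (nat_lit 68137) n365 n366)) (.node (nat_lit 68686) (.node (nat_lit 68503) n367 n368) (.node (nat_lit 68869) n369 n370))) (.node (nat_lit 69845) (.node (nat_lit 69479) (.node (nat_lit 69296) n371 n372) (.node (nat_lit 69662) n373 n374)) (.node (nat_lit 70211) (.node (nat_lit 70028) n375 n376) (.node (nat_lit 70394) n377 n378)))) (.node (nat_lit 72163) (.node (nat_lit 71370) (.node (nat_lit 71004) (.node (nat_lit 70821) n379 n380) (.node (nat_lit 71187) n381 n382)) (.node (nat_lit 71736) (.node (nat_lit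 71553) n383 n384) (.node (nat_lit 71919) n385 n386))) (.node (nat_lit 72956) (.node (nat_lit 72529) (.node (nat_lit 72346) n387 n388) (.node (nat_lit 72712) n389 n390)) (.node (nat_lit 73322) (.node (nat_lit 73139) n391 n392) (.node (nat_lit 73505) n393 n394)))))
noncomputable def n396 : T := (.node (nat_lit 73810) l1209 (.node (nat_lit 73871) l1210 l1211))
noncomputable def n397 : T := (.node (nat_lit 73993) l1212 (.node (nat_lit 74054) l1213 l1214))
noncomputable def n398 : T := (.node (nat_lit 74176) l1215 (.node (nat_lit 74237) l1216 l1217))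
noncomputable def n399 : T := (.node (nat_lit 74359) l1218 (.node (nat_lit 74420) l1219 l1220))
noncomputable def n400 : T := (.node (nat_lit 74542) l1221 (.node (nat_lit 74603) l1222 l1223))
noncomputable def n401 : T := (.node (nat_lit 74725) l1224 (.node (nat_lit 74786) l1225 l1226))
noncomputable def n402 : T := (.node (nat_lit 74908) l1227 (.node (nat_lit 74969) l1228 l1229))
noncomputable def n403 : T := (.node (nat_lit 75152) (.node (nat_lit 75091) l1230 l1231) (.node (nat_lit 75213) l1232 l1233))
noncomputable def n404 : T := (.node (nat_lit 75335) l1234 (.node (nat_lit 75396) l1235 l1236))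
noncomputable def n405 : T := (.node (nat_lit 75518) l1237 (.node (nat_lit 75579) l1238 l1239))
noncomputable def n406 : T := (.node (nat_lit 75701) l1240 (.node (nat_lit 75762) l1241 l1242))
noncomputable def n407 : T := (.node (nat_lit 75884) l1243 (.node (nat_lit 75945) l1244 l1245))
noncomputable def n408 : T := (.node (nat_lit 76067) l1246 (.node (nat_lit 76128) l1247 l1248))
noncomputable def n409 : T := (.node (nat_lit 76250) l1249 (.node (nat_lit 76311) l1250 l1251))
noncomputable def n410 : T := (.node (nat_lit 76433) l1252 (.node (nat_lit 76494) l1253 l1254))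
noncomputable def n411 : T := (.node (nat_lit 76677) (.node (nat_lit 76616) l1255 l1256) (.node (nat_lit 76738) l1257 l1258))
noncomputable def n412 : T := (.node (nat_lit 76860) l1259 (.node (nat_lit 76921) l1260 l1261))
noncomputable def n413 : T := (.node (nat_lit 77043) l1262 (.node (nat_lit 77104) l1263 l1264))
noncomputable def n414 : T := (.node (nat_lit 77226) l1265 (.node (nat_lit 77287) l1266 l1267))
noncomputable def n415 : T := (.node (nat_lit 77409) l1268 (.node (nat_lit 77470) l1269 l1270))
noncomputable def n416 : T := (.node (nat_lit 77592) l1271 (.node (nat_lit 77653) l1272 l1273))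
noncomputable def n417 : T := (.node (nat_lit 77775) l1274 (.node (nat_lit 77836) l1275 l1276))
noncomputable def n418 : T := (.node (nat_lit 77958) l1277 (.node (nat_lit 78019) l1278 l1279))
noncomputable def n419 : T := (.node (nat_lit 78202) (.node (nat_lit 78141) l1280 l1281) (.node (nat_lit 78263) l1282 l1283))
noncomputable def n420 : T := (.node (nat_lit 78385) l1284 (.node (nat_lit 78446) l1285 l1286))
noncomputable def n421 : T := (.node (nat_lit 78568) l1287 (.node (nat_lit 78629) l1288 l1289))
noncomputable def n422 : T := (.node (nat_lit 78751) l1290 (.node (nat_lit 78812) l1291 l1292))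
noncomputable def n423 : T := (.node (nat_lit 78995) (.node (nat_lit 78934) l1293 l1294) (.node (nat_lit 79056) l1295 l1296))
noncomputable def n424 : T := (.node (nat_lit 79178) l1297 (.node (nat_lit 79239) l1298 l1299))
noncomputable def n425 : T := (.node (nat_lit 79361) l1300 (.node (nat_lit 79422) l1301 l1302))
noncomputable def n426 : T := (.node (nat_lit 79544) l1303 (.node (nat_lit 79605) l1304 l1305))
noncomputable def n427 : T := (.node (nat_lit 79788) (.node (nat_lit 79727) l1306 l1307) (.node (nat_lit 79849) l1308 l1309))
noncomputable def n428 : T := (.node (nat_lit 76799) (.node (nat_lit 75274) (.node (nat_lit 74481) (.node (nat_lit 74115) (.node (nat_lit 73932) n396 n397) (.node (nat_lit 74298) n398 n399)) (.node (nat_lit 74847) (.node (nat_lit 74664) n400 n401) (.node (nat_lit 75030) n402 n403))) (.node (nat_lit 76006) (.node (nat_lit 75640) (.node (nat_lit 75457) n404 n405) (.node (nat_lit 75823) n406 n407)) (.node (nat_lit 76372) (.node (nat_lit 76189) n408 n409) (.node (nat_lit 76555) n410 n411)))) (.node (nat_lit 78324) (.node (nat_lit 77531) (.node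 (nat_lit 77165) (.node (nat_lit 76982) n412 n413) (.node (nat_lit 77348) n414 n415)) (.node (nat_lit 77897) (.node (nat_lit 77714) n416 n417) (.node (nat_lit 78080) n418 n419))) (.node (nat_lit 79117) (.node (nat_lit 78690) (.node (nat_lit 78507) n420 n421) (.node (nat_lit 78873) n422 n423)) (.node (nat_lit 79483) (.node (nat_lit 79300) n424 n425) (.node (nat_lit 79666) n426 n427)))))
noncomputable def n429 : T := (.node (nat_lit 79971) l1310 (.node (nat_lit 80032) l1311 l1312))
noncomputable def n430 : T := (.node (nat_lit 80154) l1313 (.node (nat_lit 80215) l1314 l1315))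
noncomputable def n431 : T := (.node (nat_lit 80337) l1316 (.node (nat_lit 80398) l1317 l1318))
noncomputable def n432 : T := (.node (nat_lit 80520) l1319 (.node (nat_lit 80581) l1320 l1321))
noncomputable def n433 : T := (.node (nat_lit 80703) l1322 (.node (nat_lit 80764) l1323 l1324))
noncomputable def n434 : T := (.node (nat_lit 80886) l1325 (.node (nat_lit 80947) l1326 l1327))
noncomputable def n435 : T := (.node (nat_lit 81069) l1328 (.node (nat_lit 81130) l1329 l1330))
noncomputable def n436 : T := (.node (nat_lit 81313) (.node (nat_lit 81252) l1331 l1332) (.node (nat_lit 81374) l1333 l1334))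
noncomputable def n437 : T := (.node (nat_lit 81496) l1335 (.node (nat_lit 81557) l1336 l1337))
noncomputable def n438 : T := (.node (nat_lit 81679) l1338 (.node (nat_lit 81740) l1339 l1340))
noncomputable def n439 : T := (.node (nat_lit 81862) l1341 (.node (nat_lit 81923) l1342 l1343))
noncomputable def n440 : T := (.node (nat_lit 82045) l1344 (.node (nat_lit 82106) l1345 l1346))
noncomputable def n441 : T := (.node (nat_lit 82228) l1347 (.node (nat_lit 82289) l1348 l1349))
noncomputable def n442 : T := (.node (nat_lit 82411) l1350 (.node (nat_lit 82472) l1351 l1352))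
noncomputable def n443 : T := (.node (nat_lit 82594) l1353 (.node (nat_lit 82655) l1354 l1355))
noncomputable def n444 : T := (.node (nat_lit 82838) (.node (nat_lit 82777) l1356 l1357) (.node (nat_lit 82899) l1358 l1359))
noncomputable def n445 : T := (.node (nat_lit 83021) l1360 (.node (nat_lit 83082) l1361 l1362))
noncomputable def n446 : T := (.node (nat_lit 83204) l1363 (.node (nat_lit 83265) l1364 l1365))
noncomputable def n447 : T := (.node (nat_lit 83387) l1366 (.node (nat_lit 83448) l1367 l1368))
noncomputable def n448 : T := (.node (nat_lit 83570) l1369 (.node (nat_lit 83631) l1370 l1371))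
noncomputable def n449 : T := (.node (nat_lit 83753) l1372 (.node (nat_lit 83814) l1373 l1374))
noncomputable def n450 : T := (.node (nat_lit 83936) l1375 (.node (nat_lit 83997) l1376 l1377))
noncomputable def n451 : T := (.node (nat_lit 84119) l1378 (.node (nat_lit 84180) l1379 l1380))
noncomputable def n452 : T := (.node (nat_lit 84363) (.node (nat_lit 84302) l1381 l1382) (.node (nat_lit 84424) l1383 l1384))
noncomputable def n453 : T := (.node (nat_lit 84546) l1385 (.node (nat_lit 84607) l1386 l1387))
noncomputable def n454 : T := (.node (nat_lit 84729) l1388 (.node (nat_lit 84790) l1389 l1390))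
noncomputable def n455 : T := (.node (nat_lit 84912) l1391 (.node (nat_lit 84973) l1392 l1393))
noncomputable def n456 : T := (.node (nat_lit 85156) (.node (nat_lit 85095) l1394 l1395) (.node (nat_lit 85217) l1396 l1397))
noncomputable def n457 : T := (.node (nat_lit 85339) l1398 (.node (nat_lit 85400) l1399 l1400))
noncomputable def n458 : T := (.node (nat_lit 85522) l1401 (.node (nat_lit 85583) l1402 l1403))
noncomputable def n459 : T := (.node (nat_lit 85705) l1404 (.node (nat_lit 85766) l1405 l1406))
noncomputable def n460 : T := (.node (nat_lit 85949) (.node (nat_lit 85888) l1407 l1408) (.node (nat_lit 86010) l1409 l1410))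
noncomputable def n461 : T := (.node (nat_lit 82960) (.node (nat_lit 81435) (.node (nat_lit 80642) (.node (nat_lit 80276) (.node (nat_lit 80093) n429 n430) (.node (nat_lit 80459) n431 n432)) (.node (nat_lit 81008) (.node (nat_lit 80825) n433 n434) (.node (nat_lit 81191) n435 n436))) (.node (nat_lit 82167) (.node (nat_lit 81801) (.node (nat_lit 81618) n437 n438) (.node (nat_lit 81984) n439 n440)) (.node (nat_lit 82533) (.node (nat_lit 82350) n441 n442) (.node (nat_lit 82716) n443 n444)))) (.node (nat_lit 84485) (.node (nat_lit 83692) (.node (nat_lit 83326) (.node (nat_lit 83143) n445 n446) (.node (nat_lit 83509) n447 n448)) (.node (nat_lit 84058) (.node (nat_lit 83875) n449 n450) (.node (nat_lit 84241) n451 n452))) (.node (nat_lit 85278) (.node (nat_lit 84851) (.node (nat_lit 84668) n453 n454) (.node (nat_lit 85034) n455 n456)) (.node (nat_lit 85644) (.node (nat_lit 85461) n457 n458) (.node (nat_lit 85827) n459 n460)))))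
noncomputable def n462 : T := (.node (nat_lit 86132) l1411 (.node (nat_lit 86193) l1412 l1413))
noncomputable def n463 : T := (.node (nat_lit 86315) l1414 (.node (nat_lit 86376) l1415 l1416))
noncomputable def n464 : T := (.node (nat_lit 86498) l1417 (.node (nat_lit 86559) l1418 l1419))
noncomputable def n465 : T := (.node (nat_lit 86681) l1420 (.node (nat_lit 86742) l1421 l1422))
noncomputable def n466 : T := (.node (nat_lit 86864) l1423 (.node (nat_lit 86925) l1424 l1425))
noncomputable def n467 : T := (.node (nat_lit 87047) l1426 (.node (nat_lit 87108) l1427 l1428))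
noncomputable def n468 : T := (.node (nat_lit 87230) l1429 (.node (nat_lit 87291) l1430 l1431))
noncomputable def n469 : T := (.node (nat_lit 87474) (.node (nat_lit 87413) l1432 l1433) (.node (nat_lit 87535) l1434 l1435))
noncomputable def n470 : T := (.node (nat_lit 87657) l1436 (.node (nat_lit 87718) l1437 l1438))
noncomputable def n471 : T := (.node (nat_lit 87840) l1439 (.node (nat_lit 87901) l1440 l1441))
noncomputable def n472 : T := (.node (nat_lit 88023) l1442 (.node (nat_lit 88084) l1443 l1444))
noncomputable def n473 : T := (.node (nat_lit 88206) l1445 (.node (nat_lit 88267) l1446 l1447))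
noncomputable def n474 : T := (.node (nat_lit 88389) l1448 (.node (nat_lit 88450) l1449 l1450))
noncomputable def n475 : T := (.node (nat_lit 88572) l1451 (.node (nat_lit 88633) l1452 l1453))
noncomputable def n476 : T := (.node (nat_lit 88755) l1454 (.node (nat_lit 88816) l1455 l1456))
noncomputable def n477 : T := (.node (nat_lit 88999) (.node (nat_lit 88938) l1457 l1458) (.node (nat_lit 89060) l1459 l1460))
noncomputable def n478 : T := (.node (nat_lit 89182) l1461 (.node (nat_lit 89243) l1462 l1463))
noncomputable def n479 : T := (.node (nat_lit 89365) l1464 (.node (nat_lit 89426) l1465 l1466))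
noncomputable def n480 : T := (.node (nat_lit 89548) l1467 (.node (nat_lit 89609) l1468 l1469))
noncomputable def n481 : T := (.node (nat_lit 89731) l1470 (.node (nat_lit 89792) l1471 l1472))
noncomputable def n482 : T := (.node (nat_lit 89914) l1473 (.node (nat_lit 89975) l1474 l1475))
noncomputable def n483 : T := (.node (nat_lit 90097) l1476 (.node (nat_lit 90158) l1477 l1478))
noncomputable def n484 : T := (.node (nat_lit 90280) l1479 (.node (nat_lit 90341) l1480 l1481))
noncomputable def n485 : T := (.node (nat_lit 90524) (.node (nat_lit 90463) l1482 l1483) (.node (nat_lit 90585) l1484 l1485))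
noncomputable def n486 : T := (.node (nat_lit 90707) l1486 (.node (nat_lit 90768) l1487 l1488))
noncomputable def n487 : T := (.node (nat_lit 90890) l1489 (.node (nat_lit 90951) l1490 l1491))
noncomputable def n488 : T := (.node (nat_lit 91073) l1492 (.node (nat_lit 91134) l1493 l1494))
noncomputable def n489 : T := (.node (nat_lit 91317) (.node (nat_lit 91256) l1495 l1496) (.node (nat_lit 91378) l1497 l1498))
noncomputable def n490 : T := (.node (nat_lit 91500) l1499 (.node (nat_lit 91561) l1500 l1501))
noncomputable def n491 : T := (.node (nat_lit 91683) l1502 (.node (nat_lit 91744) l1503 l1504))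
noncomputable def n492 : T := (.node (nat_lit 91866) l1505 (.node (nat_lit 91927) l1506 l1507))
noncomputable def n493 : T := (.node (nat_lit 92110) (.node (nat_lit 92049) l1508 l1509) (.node (nat_lit 92171) l1510 l1511))
noncomputable def n494 : T := (.node (nat_lit 89121) (.node (nat_lit 87596) (.node (nat_lit 86803) (.node (nat_lit 86437) (.node (nat_lit 86254) n462 n463) (.node (nat_lit 86620) n464 n465)) (.node (nat_lit 87169) (.node (nat_lit 86986) n466 n467) (.node (nat_lit 87352) n468 n469))) (.node (nat_lit 88328) (.node (nat_lit 87962) (.node (nat_lit 87779) n470 n471) (.node (nat_lit 88145) n472 n473)) (.node (nat_lit 88694) (.node (nat_lit 88511) n474 n475) (.node (nat_lit 88877) n476 n477)))) (.node (nat_lit 90646) (.node (nat_lit 89853) (.node (nat_lit 89487) (.node (nat_lit 89304) n478 n479) (.node (nat_lit 89670) n480 n481)) (.node (nat_lit 90219) (.node (nat_lit 90036) n482 n483) (.node (nat_lit 90402) n484 n485))) (.node (nat_lit 91439) (.node (nat_lit 91012) (.node (nat_lit 90829) n486 n487) (.node (nat_lit 91195) n488 n489)) (.node (nat_lit 91805)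 (.node (nat_lit 91622) n490 n491) (.node (nat_lit 91988) n492 n493)))))
noncomputable def n495 : T := (.node (nat_lit 92293) l1512 (.node (nat_lit 92354) l1513 l1514))
noncomputable def n496 : T := (.node (nat_lit 92476) l1515 (.node (nat_lit 92537) l1516 l1517))
noncomputable def n497 : T := (.node (nat_lit 92659) l1518 (.node (nat_lit 92720) l1519 l1520))
noncomputable def n498 : T := (.node (nat_lit 92842) l1521 (.node (nat_lit 92903) l1522 l1523))
noncomputable def n499 : T := (.node (nat_lit 93025) l1524 (.node (nat_lit 93086) l1525 l1526))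
noncomputable def n500 : T := (.node (nat_lit 93208) l1527 (.node (nat_lit 93269) l1528 l1529))
noncomputable def n501 : T := (.node (nat_lit 93391) l1530 (.node (nat_lit 93452) l1531 l1532))
noncomputable def n502 : T := (.node (nat_lit 93635) (.node (nat_lit 93574) l1533 l1534) (.node (nat_lit 93696) l1535 l1536))
noncomputable def n503 : T := (.node (nat_lit 93818) l1537 (.node (nat_lit 93879) l1538 l1539))
noncomputable def n504 : T := (.node (nat_lit 94001) l1540 (.node (nat_lit 94062) l1541 l1542))
noncomputable def n505 : T := (.node (nat_lit 94184) l1543 (.node (nat_lit 94245) l1544 l1545))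
noncomputable def n506 : T := (.node (nat_lit 94367) l1546 (.node (nat_lit 94428) l1547 l1548))
noncomputable def n507 : T := (.node (nat_lit 94550) l1549 (.node (nat_lit 94611) l1550 l1551))
noncomputable def n508 : T := (.node (nat_lit 94733) l1552 (.node (nat_lit 94794) l1553 l1554))
noncomputable def n509 : T := (.node (nat_lit 94916) l1555 (.node (nat_lit 94977) l1556 l1557))
noncomputable def n510 : T := (.node (nat_lit 95160) (.node (nat_lit 95099) l1558 l1559) (.node (nat_lit 95221) l1560 l1561))
noncomputable def n511 : T := (.node (nat_lit 95343) l1562 (.node (nat_lit 95404) l1563 l1564))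
noncomputable def n512 : T := (.node (nat_lit 95526) l1565 (.node (nat_lit 95587) l1566 l1567))
noncomputable def n513 : T := (.node (nat_lit 95709) l1568 (.node (nat_lit 95770) l1569 l1570))
noncomputable def n514 : T := (.node (nat_lit 95892) l1571 (.node (nat_lit 95953) l1572 l1573))
noncomputable def n515 : T := (.node (nat_lit 96075) l1574 (.node (nat_lit 96136) l1575 l1576))
noncomputable def n516 : T := (.node (nat_lit 96258) l1577 (.node (nat_lit 96319) l1578 l1579))
noncomputable def n517 : T := (.node (nat_lit 96441) l1580 (.node (nat_lit 96502) l1581 l1582))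
noncomputable def n518 : T := (.node (nat_lit 96685) (.node (nat_lit 96624) l1583 l1584) (.node (nat_lit 96746) l1585 l1586))
noncomputable def n519 : T := (.node (nat_lit 96868) l1587 (.node (nat_lit 96929) l1588 l1589))
noncomputable def n520 : T := (.node (nat_lit 97051) l1590 (.node (nat_lit 97112) l1591 l1592))
noncomputable def n521 : T := (.node (nat_lit 97234) l1593 (.node (nat_lit 97295) l1594 l1595))
noncomputable def n522 : T := (.node (nat_lit 97478) (.node (nat_lit 97417) l1596 l1597) (.node (nat_lit 97539) l1598 l1599))
noncomputable def n523 : T := (.node (nat_lit 97661) l1600 (.node (nat_lit 97722) l1601 l1602))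
noncomputable def n524 : T := (.node (nat_lit 97844) l1603 (.node (nat_lit 97905) l1604 l1605))
noncomputable def n525 : T := (.node (nat_lit 98027) l1606 (.node (nat_lit 98088) l1607 l1608))
noncomputable def n526 : T := (.node (nat_lit 98271) (.node (nat_lit 98210) l1609 l1610) (.node (nat_lit 98332) l1611 l1612))
noncomputable def n527 : T := (.node (nat_lit 95282) (.node (nat_lit 93757) (.node (nat_lit 92964) (.node (nat_lit 92598) (.node (nat_lit 92415) n495 n496) (.node (nat_lit 92781) n497 n498)) (.node (nat_lit 93330) (.node (nat_lit 93147) n499 n500) (.node (nat_lit 93513) n501 n502))) (.node (nat_lit 94489) (.node (nat_lit 94123) (.node (nat_lit 93940) n503 n504) (.node (nat_lit 94306) n505 n506)) (.node (nat_lit 94855) (.node (nat_lit 94672) n507 n508) (.node (nat_lit 95038) n509 n510)))) (.node (nat_lit 96807) (.node (nat_lit 96014) (.node (nat_lit 95648) (.node (nat_lit 95465) n511 n512) (.node (nat_lit 95831) n513 n514)) (.node (nat_lit 96380) (.node (nat_lit 96197) n515 n516) (.node (nat_lit 96563) n517 n518))) (.node (nat_lit 97600) (.node (nat_lit 97173)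 (.node (nat_lit 96990) n519 n520) (.node (nat_lit 97356) n521 n522)) (.node (nat_lit 97966) (.node (nat_lit 97783) n523 n524) (.node (nat_lit 98149) n525 n526)))))
noncomputable def n528 : T := (.node (nat_lit 98454) l1613 (.node (nat_lit 98515) l1614 l1615))
noncomputable def n529 : T := (.node (nat_lit 98637) l1616 (.node (nat_lit 98698) l1617 l1618))
noncomputable def n530 : T := (.node (nat_lit 98820) l1619 (.node (nat_lit 98881) l1620 l1621))
noncomputable def n531 : T := (.node (nat_lit 99003) l1622 (.node (nat_lit 99064) l1623 l1624))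
noncomputable def n532 : T := (.node (nat_lit 99186) l1625 (.node (nat_lit 99247) l1626 l1627))
noncomputable def n533 : T := (.node (nat_lit 99369) l1628 (.node (nat_lit 99430) l1629 l1630))
noncomputable def n534 : T := (.node (nat_lit 99552) l1631 (.node (nat_lit 99613) l1632 l1633))
noncomputable def n535 : T := (.node (nat_lit 99796) (.node (nat_lit 99735) l1634 l1635) (.node (nat_lit 99857) l1636 l1637))
noncomputable def n536 : T := (.node (nat_lit 99979) l1638 (.node (nat_lit 100040) l1639 l1640))
noncomputable def n537 : T := (.node (nat_lit 100162) l1641 (.node (nat_lit 100223) l1642 l1643))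
noncomputable def n538 : T := (.node (nat_lit 100345) l1644 (.node (nat_lit 100406) l1645 l1646))
noncomputable def n539 : T := (.node (nat_lit 100528) l1647 (.node (nat_lit 100589) l1648 l1649))
noncomputable def n540 : T := (.node (nat_lit 100711) l1650 (.node (nat_lit 100772) l1651 l1652))
noncomputable def n541 : T := (.node (nat_lit 100894) l1653 (.node (nat_lit 100955) l1654 l1655))
noncomputable def n542 : T := (.node (nat_lit 101077) l1656 (.node (nat_lit 101138) l1657 l1658))
noncomputable def n543 : T := (.node (nat_lit 101321) (.node (nat_lit 101260) l1659 l1660) (.node (nat_lit 101382) l1661 l1662))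
noncomputable def n544 : T := (.node (nat_lit 101504) l1663 (.node (nat_lit 101565) l1664 l1665))
noncomputable def n545 : T := (.node (nat_lit 101687) l1666 (.node (nat_lit 101748) l1667 l1668))
noncomputable def n546 : T := (.node (nat_lit 101870) l1669 (.node (nat_lit 101931) l1670 l1671))
noncomputable def n547 : T := (.node (nat_lit 102053) l1672 (.node (nat_lit 102114) l1673 l1674))
noncomputable def n548 : T := (.node (nat_lit 102236) l1675 (.node (nat_lit 102297) l1676 l1677))
noncomputable def n549 : T := (.node (nat_lit 102419) l1678 (.node (nat_lit 102480) l1679 l1680))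
noncomputable def n550 : T := (.node (nat_lit 102602) l1681 (.node (nat_lit 102663) l1682 l1683))
noncomputable def n551 : T := (.node (nat_lit 102846) (.node (nat_lit 102785) l1684 l1685) (.node (nat_lit 102907) l1686 l1687))
noncomputable def n552 : T := (.node (nat_lit 103029) l1688 (.node (nat_lit 103090) l1689 l1690))
noncomputable def n553 : T := (.node (nat_lit 103212) l1691 (.node (nat_lit 103273) l1692 l1693))
noncomputable def n554 : T := (.node (nat_lit 103395) l1694 (.node (nat_lit 103456) l1695 l1696))
noncomputable def n555 : T := (.node (nat_lit 103578) l1697 (.node (nat_lit 103639) l1698 l1699))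
noncomputable def n556 : T := (.node (nat_lit 103761) l1700 (.node (nat_lit 103822) l1701 l1702))
noncomputable def n557 : T := (.node (nat_lit 103944) l1703 (.node (nat_lit 104005) l1704 l1705))
noncomputable def n558 : T := (.node (nat_lit 104127) l1706 (.node (nat_lit 104188) l1707 l1708))
noncomputable def n559 : T := (.node (nat_lit 104371) (.node (nat_lit 104310) l1709 l1710) (.node (nat_lit 104432) l1711 l1712))
noncomputable def n560 : T := (.node (nat_lit 101443) (.node (nat_lit 99918) (.node (nat_lit 99125) (.node (nat_lit 98759) (.node (nat_lit 98576) n528 n529) (.node (nat_lit 98942) n530 n531)) (.node (nat_lit 99491) (.node (nat_lit 99308) n532 n533) (.node (nat_lit 99674) n534 n535))) (.node (nat_lit 100650) (.node (nat_lit 100284) (.node (nat_lit 100101) n536 n537) (.node (nat_lit 100467) n538 n539)) (.node (nat_lit 101016) (.node (nat_lit 100833) n540 n541) (.node (nat_lit 101199) n542 n543)))) (.node (nat_lit 102968) (.node (nat_lit 102175) (.node (nat_lit 101809) (.node (nat_lit 101626) n544 n545) (.node (nat_lit 101992) n546 n547)) (.node (nat_lit 102541)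 (.node (nat_lit 102358) n548 n549) (.node (nat_lit 102724) n550 n551))) (.node (nat_lit 103700) (.node (nat_lit 103334) (.node (nat_lit 103151) n552 n553) (.node (nat_lit 103517) n554 n555)) (.node (nat_lit 104066) (.node (nat_lit 103883) n556 n557) (.node (nat_lit 104249) n558 n559)))))
noncomputable def n561 : T := (.node (nat_lit 104554) l1713 (.node (nat_lit 104615) l1714 l1715))
noncomputable def n562 : T := (.node (nat_lit 104737) l1716 (.node (nat_lit 104798) l1717 l1718))
noncomputable def n563 : T := (.node (nat_lit 104920) l1719 (.node (nat_lit 104981) l1720 l1721))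
noncomputable def n564 : T := (.node (nat_lit 105103) l1722 (.node (nat_lit 105164) l1723 l1724))
noncomputable def n565 : T := (.node (nat_lit 105286) l1725 (.node (nat_lit 105347) l1726 l1727))
noncomputable def n566 : T := (.node (nat_lit 105469) l1728 (.node (nat_lit 105530) l1729 l1730))
noncomputable def n567 : T := (.node (nat_lit 105652) l1731 (.node (nat_lit 105713) l1732 l1733))
noncomputable def n568 : T := (.node (nat_lit 105896) (.node (nat_lit 105835) l1734 l1735) (.node (nat_lit 105957) l1736 l1737))
noncomputable def n569 : T := (.node (nat_lit 106079) l1738 (.node (nat_lit 106140) l1739 l1740))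
noncomputable def n570 : T := (.node (nat_lit 106262) l1741 (.node (nat_lit 106323) l1742 l1743))
noncomputable def n571 : T := (.node (nat_lit 106445) l1744 (.node (nat_lit 106506) l1745 l1746))
noncomputable def n572 : T := (.node (nat_lit 106628) l1747 (.node (nat_lit 106689) l1748 l1749))
noncomputable def n573 : T := (.node (nat_lit 106811) l1750 (.node (nat_lit 106872) l1751 l1752))
noncomputable def n574 : T := (.node (nat_lit 106994) l1753 (.node (nat_lit 107055) l1754 l1755))
noncomputable def n575 : T := (.node (nat_lit 107177) l1756 (.node (nat_lit 107238) l1757 l1758))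
noncomputable def n576 : T := (.node (nat_lit 107421) (.node (nat_lit 107360) l1759 l1760) (.node (nat_lit 107482) l1761 l1762))
noncomputable def n577 : T := (.node (nat_lit 107604) l1763 (.node (nat_lit 107665) l1764 l1765))
noncomputable def n578 : T := (.node (nat_lit 107787) l1766 (.node (nat_lit 107848) l1767 l1768))
noncomputable def n579 : T := (.node (nat_lit 107970) l1769 (.node (nat_lit 108031) l1770 l1771))
noncomputable def n580 : T := (.node (nat_lit 108153) l1772 (.node (nat_lit 108214) l1773 l1774))
noncomputable def n581 : T := (.node (nat_lit 108336) l1775 (.node (nat_lit 108397) l1776 l1777))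
noncomputable def n582 : T := (.node (nat_lit 108519) l1778 (.node (nat_lit 108580) l1779 l1780))
noncomputable def n583 : T := (.node (nat_lit 108702) l1781 (.node (nat_lit 108763) l1782 l1783))
noncomputable def n584 : T := (.node (nat_lit 108946) (.node (nat_lit 108885) l1784 l1785) (.node (nat_lit 109007) l1786 l1787))
noncomputable def n585 : T := (.node (nat_lit 109129) l1788 (.node (nat_lit 109190) l1789 l1790))
noncomputable def n586 : T := (.node (nat_lit 109312) l1791 (.node (nat_lit 109373) l1792 l1793))
noncomputable def n587 : T := (.node (nat_lit 109495) l1794 (.node (nat_lit 109556) l1795 l1796))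
noncomputable def n588 : T := (.node (nat_lit 109739) (.node (nat_lit 109678) l1797 l1798) (.node (nat_lit 109800) l1799 l1800))
noncomputable def n589 : T := (.node (nat_lit 109922) l1801 (.node (nat_lit 109983) l1802 l1803))
noncomputable def n590 : T := (.node (nat_lit 110105) l1804 (.node (nat_lit 110166) l1805 l1806))
noncomputable def n591 : T := (.node (nat_lit 110288) l1807 (.node (nat_lit 110349) l1808 l1809))
noncomputable def n592 : T := (.node (nat_lit 110532) (.node (nat_lit 110471) l1810 l1811) (.node (nat_lit 110593) l1812 l1813))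
noncomputable def n593 : T := (.node (nat_lit 107543) (.node (nat_lit 106018) (.node (nat_lit 105225) (.node (nat_lit 104859) (.node (nat_lit 104676) n561 n562) (.node (nat_lit 105042) n563 n564)) (.node (nat_lit 105591) (.node (nat_lit 105408) n565 n566) (.node (nat_lit 105774) n567 n568))) (.node (nat_lit 106750) (.node (nat_lit 106384) (.node (nat_lit 106201) n569 n570) (.node (nat_lit 106567) n571 n572)) (.node (nat_lit 107116) (.node (nat_lit 106933) n573 n574) (.node (nat_lit 107299) n575 n576)))) (.node (nat_lit 109068) (.node (nat_lit 108275) (.node (nat_lit 107909) (.node (nat_lit 107726) n577 n578) (.node (nat_lit 108092) n579 n580)) (.node (nat_lit 108641) (.node (nat_lit 108458) n581 n582) (.node (nat_lit 108824) n583 n584))) (.node (nat_lit 109861) (.node (nat_lit 109434) (.node (nat_lit 109251) n585 n586) (.node (nat_lit 109617) n587 n588)) (.node (nat_lit 110227) (.node (nat_lit 110044) n589 n590) (.node (nat_lit 110410) n591 n592)))))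
noncomputable def n594 : T := (.node (nat_lit 110715) l1814 (.node (nat_lit 110776) l1815 l1816))
noncomputable def n595 : T := (.node (nat_lit 110898) l1817 (.node (nat_lit 110959) l1818 l1819))
noncomputable def n596 : T := (.node (nat_lit 111081) l1820 (.node (nat_lit 111142) l1821 l1822))
noncomputable def n597 : T := (.node (nat_lit 111264) l1823 (.node (nat_lit 111325) l1824 l1825))
noncomputable def n598 : T := (.node (nat_lit 111447) l1826 (.node (nat_lit 111508) l1827 l1828))
noncomputable def n599 : T := (.node (nat_lit 111630) l1829 (.node (nat_lit 111691) l1830 l1831))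
noncomputable def n600 : T := (.node (nat_lit 111813) l1832 (.node (nat_lit 111874) l1833 l1834))
noncomputable def n601 : T := (.node (nat_lit 112057) (.node (nat_lit 111996) l1835 l1836) (.node (nat_lit 112118) l1837 l1838))
noncomputable def n602 : T := (.node (nat_lit 112240) l1839 (.node (nat_lit 112301) l1840 l1841))
noncomputable def n603 : T := (.node (nat_lit 112423) l1842 (.node (nat_lit 112484) l1843 l1844))
noncomputable def n604 : T := (.node (nat_lit 112606) l1845 (.node (nat_lit 112667) l1846 l1847))
noncomputable def n605 : T := (.node (nat_lit 112789) l1848 (.node (nat_lit 112850) l1849 l1850))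
noncomputable def n606 : T := (.node (nat_lit 112972) l1851 (.node (nat_lit 113033) l1852 l1853))
noncomputable def n607 : T := (.node (nat_lit 113155) l1854 (.node (nat_lit 113216) l1855 l1856))
noncomputable def n608 : T := (.node (nat_lit 113338) l1857 (.node (nat_lit 113399) l1858 l1859))
noncomputable def n609 : T := (.node (nat_lit 113582) (.node (nat_lit 113521) l1860 l1861) (.node (nat_lit 113643) l1862 l1863))
noncomputable def n610 : T := (.node (nat_lit 113765) l1864 (.node (nat_lit 113826) l1865 l1866))
noncomputable def n611 : T := (.node (nat_lit 113948) l1867 (.node (nat_lit 114009) l1868 l1869))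
noncomputable def n612 : T := (.node (nat_lit 114131) l1870 (.node (nat_lit 114192) l1871 l1872))
noncomputable def n613 : T := (.node (nat_lit 114314) l1873 (.node (nat_lit 114375) l1874 l1875))
noncomputable def n614 : T := (.node (nat_lit 114497) l1876 (.node (nat_lit 114558) l1877 l1878))
noncomputable def n615 : T := (.node (nat_lit 114680) l1879 (.node (nat_lit 114741) l1880 l1881))
noncomputable def n616 : T := (.node (nat_lit 114863) l1882 (.node (nat_lit 114924) l1883 l1884))
noncomputable def n617 : T := (.node (nat_lit 115107) (.node (nat_lit 115046) l1885 l1886) (.node (nat_lit 115168) l1887 l1888))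
noncomputable def n618 : T := (.node (nat_lit 115290) l1889 (.node (nat_lit 115351) l1890 l1891))
noncomputable def n619 : T := (.node (nat_lit 115473) l1892 (.node (nat_lit 115534) l1893 l1894))
noncomputable def n620 : T := (.node (nat_lit 115656) l1895 (.node (nat_lit 115717) l1896 l1897))
noncomputable def n621 : T := (.node (nat_lit 115900) (.node (nat_lit 115839) l1898 l1899) (.node (nat_lit 115961) l1900 l1901))
noncomputable def n622 : T := (.node (nat_lit 116083) l1902 (.node (nat_lit 116144) l1903 l1904))
noncomputable def n623 : T := (.node (nat_lit 116266) l1905 (.node (nat_lit 116327) l1906 l1907))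
noncomputable def n624 : T := (.node (nat_lit 116449) l1908 (.node (nat_lit 116510) l1909 l1910))
noncomputable def n625 : T := (.node (nat_lit 116693) (.node (nat_lit 116632) l1911 l1912) (.node (nat_lit 116754) l1913 l1914))
noncomputable def n626 : T := (.node (nat_lit 113704) (.node (nat_lit 112179) (.node (nat_lit 111386) (.node (nat_lit 111020) (.node (nat_lit 110837) n594 n595) (.node (nat_lit 111203) n596 n597)) (.node (nat_lit 111752) (.node (nat_lit 111569) n598 n599) (.node (nat_lit 111935) n600 n601))) (.node (nat_lit 112911) (.node (nat_lit 112545) (.node (nat_lit 112362) n602 n603) (.node (nat_lit 112728) n604 n605)) (.node (nat_lit 113277) (.node (nat_lit 113094) n606 n607) (.node (nat_lit 113460) n608 n609)))) (.node (nat_lit 115229) (.node (nat_lit 114436) (.node (nat_lit 114070) (.node (nat_lit 113887) n610 n611) (.node (nat_lit 114253) n612 n613)) (.node (nat_lit 114802) (.node (nat_lit 114619) n614 n615) (.node (nat_lit 114985) n616 n617))) (.node (nat_lit 116022) (.node (nat_lit 115595) (.node (nat_lit 115412) n618 n619) (.node (nat_lit 115778) n620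 n621)) (.node (nat_lit 116388) (.node (nat_lit 116205) n622 n623) (.node (nat_lit 116571) n624 n625)))))
noncomputable def n627 : T := (.node (nat_lit 116876) l1915 (.node (nat_lit 116937) l1916 l1917))
noncomputable def n628 : T := (.node (nat_lit 117059) l1918 (.node (nat_lit 117120) l1919 l1920))
noncomputable def n629 : T := (.node (nat_lit 117242) l1921 (.node (nat_lit 117303) l1922 l1923))
noncomputable def n630 : T := (.node (nat_lit 117425) l1924 (.node (nat_lit 117486) l1925 l1926))
noncomputable def n631 : T := (.node (nat_lit 117608) l1927 (.node (nat_lit 117669) l1928 l1929))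
noncomputable def n632 : T := (.node (nat_lit 117791) l1930 (.node (nat_lit 117852) l1931 l1932))
noncomputable def n633 : T := (.node (nat_lit 117974) l1933 (.node (nat_lit 118035) l1934 l1935))
noncomputable def n634 : T := (.node (nat_lit 118218) (.node (nat_lit 118157) l1936 l1937) (.node (nat_lit 118279) l1938 l1939))
noncomputable def n635 : T := (.node (nat_lit 118401) l1940 (.node (nat_lit 118462) l1941 l1942))
noncomputable def n636 : T := (.node (nat_lit 118584) l1943 (.node (nat_lit 118645) l1944 l1945))
noncomputable def n637 : T := (.node (nat_lit 118767) l1946 (.node (nat_lit 118828) l1947 l1948))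
noncomputable def n638 : T := (.node (nat_lit 118950) l1949 (.node (nat_lit 119011) l1950 l1951))
noncomputable def n639 : T := (.node (nat_lit 119133) l1952 (.node (nat_lit 119194) l1953 l1954))
noncomputable def n640 : T := (.node (nat_lit 119316) l1955 (.node (nat_lit 119377) l1956 l1957))
noncomputable def n641 : T := (.node (nat_lit 119499) l1958 (.node (nat_lit 119560) l1959 l1960))
noncomputable def n642 : T := (.node (nat_lit 119743) (.node (nat_lit 119682) l1961 l1962) (.node (nat_lit 119804) l1963 l1964))
noncomputable def n643 : T := (.node (nat_lit 119926) l1965 (.node (nat_lit 119987) l1966 l1967))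
noncomputable def n644 : T := (.node (nat_lit 120109) l1968 (.node (nat_lit 120170) l1969 l1970))
noncomputable def n645 : T := (.node (nat_lit 120292) l1971 (.node (nat_lit 120353) l1972 l1973))
noncomputable def n646 : T := (.node (nat_lit 120475) l1974 (.node (nat_lit 120536) l1975 l1976))
noncomputable def n647 : T := (.node (nat_lit 120658) l1977 (.node (nat_lit 120719) l1978 l1979))
noncomputable def n648 : T := (.node (nat_lit 120841) l1980 (.node (nat_lit 120902) l1981 l1982))
noncomputable def n649 : T := (.node (nat_lit 121024) l1983 (.node (nat_lit 121085) l1984 l1985))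
noncomputable def n650 : T := (.node (nat_lit 121268) (.node (nat_lit 121207) l1986 l1987) (.node (nat_lit 121329) l1988 l1989))
noncomputable def n651 : T := (.node (nat_lit 121451) l1990 (.node (nat_lit 121512) l1991 l1992))
noncomputable def n652 : T := (.node (nat_lit 121634) l1993 (.node (nat_lit 121695) l1994 l1995))
noncomputable def n653 : T := (.node (nat_lit 121817) l1996 (.node (nat_lit 121878) l1997 l1998))
noncomputable def n654 : T := (.node (nat_lit 122061) (.node (nat_lit 122000) l1999 l2000) (.node (nat_lit 122122) l2001 l2002))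
noncomputable def n655 : T := (.node (nat_lit 122244) l2003 (.node (nat_lit 122305) l2004 l2005))
noncomputable def n656 : T := (.node (nat_lit 122427) l2006 (.node (nat_lit 122488) l2007 l2008))
noncomputable def n657 : T := (.node (nat_lit 122610) l2009 (.node (nat_lit 122671) l2010 l2011))
noncomputable def n658 : T := (.node (nat_lit 122854) (.node (nat_lit 122793) l2012 l2013) (.node (nat_lit 122915) l2014 l2015))
noncomputable def n659 : T := (.node (nat_lit 119865) (.node (nat_lit 118340) (.node (nat_lit 117547) (.node (nat_lit 117181) (.node (nat_lit 116998) n627 n628) (.node (nat_lit 117364) n629 n630)) (.node (nat_lit 117913) (.node (nat_lit 117730) n631 n632) (.node (nat_lit 118096) n633 n634))) (.node (nat_lit 119072) (.node (nat_lit 118706) (.node (nat_lit 118523) n635 n636) (.node (nat_lit 118889) n637 n638)) (.node (nat_lit 119438) (.node (nat_lit 119255) n639 n640) (.node (nat_lit 119621) n641 n642)))) (.node (nat_lit 121390) (.node (nat_lit 120597) (.node (nat_lit 120231) (.node (nat_lit 120048) n643 n644) (.node (nat_lit 120414) n645 n646)) (.node (nat_lit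 120963) (.node (nat_lit 120780) n647 n648) (.node (nat_lit 121146) n649 n650))) (.node (nat_lit 122183) (.node (nat_lit 121756) (.node (nat_lit 121573) n651 n652) (.node (nat_lit 121939) n653 n654)) (.node (nat_lit 122549) (.node (nat_lit 122366) n655 n656) (.node (nat_lit 122732) n657 n658)))))
noncomputable def n660 : T := (.node (nat_lit 123037) l2016 (.node (nat_lit 123098) l2017 l2018))
noncomputable def n661 : T := (.node (nat_lit 123220) l2019 (.node (nat_lit 123281) l2020 l2021))
noncomputable def n662 : T := (.node (nat_lit 123403) l2022 (.node (nat_lit 123464) l2023 l2024))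
noncomputable def n663 : T := (.node (nat_lit 123586) l2025 (.node (nat_lit 123647) l2026 l2027))
noncomputable def n664 : T := (.node (nat_lit 123769) l2028 (.node (nat_lit 123830) l2029 l2030))
noncomputable def n665 : T := (.node (nat_lit 123952) l2031 (.node (nat_lit 124013) l2032 l2033))
noncomputable def n666 : T := (.node (nat_lit 124135) l2034 (.node (nat_lit 124196) l2035 l2036))
noncomputable def n667 : T := (.node (nat_lit 124379) (.node (nat_lit 124318) l2037 l2038) (.node (nat_lit 124440) l2039 l2040))
noncomputable def n668 : T := (.node (nat_lit 124562) l2041 (.node (nat_lit 124623) l2042 l2043))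
noncomputable def n669 : T := (.node (nat_lit 124745) l2044 (.node (nat_lit 124806) l2045 l2046))
noncomputable def n670 : T := (.node (nat_lit 124928) l2047 (.node (nat_lit 124989) l2048 l2049))
noncomputable def n671 : T := (.node (nat_lit 125111) l2050 (.node (nat_lit 125172) l2051 l2052))
noncomputable def n672 : T := (.node (nat_lit 125294) l2053 (.node (nat_lit 125355) l2054 l2055))
noncomputable def n673 : T := (.node (nat_lit 125477) l2056 (.node (nat_lit 125538) l2057 l2058))
noncomputable def n674 : T := (.node (nat_lit 125660) l2059 (.node (nat_lit 125721) l2060 l2061))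
noncomputable def n675 : T := (.node (nat_lit 125904) (.node (nat_lit 125843) l2062 l2063) (.node (nat_lit 125965) l2064 l2065))
noncomputable def n676 : T := (.node (nat_lit 126087) l2066 (.node (nat_lit 126148) l2067 l2068))
noncomputable def n677 : T := (.node (nat_lit 126270) l2069 (.node (nat_lit 126331) l2070 l2071))
noncomputable def n678 : T := (.node (nat_lit 126453) l2072 (.node (nat_lit 126514) l2073 l2074))
noncomputable def n679 : T := (.node (nat_lit 126636) l2075 (.node (nat_lit 126697) l2076 l2077))
noncomputable def n680 : T := (.node (nat_lit 126819) l2078 (.node (nat_lit 126880) l2079 l2080))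
noncomputable def n681 : T := (.node (nat_lit 127002) l2081 (.node (nat_lit 127063) l2082 l2083))
noncomputable def n682 : T := (.node (nat_lit 127185) l2084 (.node (nat_lit 127246) l2085 l2086))
noncomputable def n683 : T := (.node (nat_lit 127429) (.node (nat_lit 127368) l2087 l2088) (.node (nat_lit 127490) l2089 l2090))
noncomputable def n684 : T := (.node (nat_lit 127612) l2091 (.node (nat_lit 127673) l2092 l2093))
noncomputable def n685 : T := (.node (nat_lit 127795) l2094 (.node (nat_lit 127856) l2095 l2096))
noncomputable def n686 : T := (.node (nat_lit 127978) l2097 (.node (nat_lit 128039) l2098 l2099))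
noncomputable def n687 : T := (.node (nat_lit 128161) l2100 (.node (nat_lit 128222) l2101 l2102))
noncomputable def n688 : T := (.node (nat_lit 128344) l2103 (.node (nat_lit 128405) l2104 l2105))
noncomputable def n689 : T := (.node (nat_lit 128527) l2106 (.node (nat_lit 128588) l2107 l2108))
noncomputable def n690 : T := (.node (nat_lit 128710) l2109 (.node (nat_lit 128771) l2110 l2111))
noncomputable def n691 : T := (.node (nat_lit 128954) (.node (nat_lit 128893) l2112 l2113) (.node (nat_lit 129015) l2114 l2115))
noncomputable def n692 : T := (.node (nat_lit 126026) (.node (nat_lit 124501) (.node (nat_lit 123708) (.node (nat_lit 123342) (.node (nat_lit 123159) n660 n661) (.node (nat_lit 123525) n662 n663)) (.node (nat_lit 124074) (.node (nat_lit 123891) n664 n665) (.node (nat_lit 124257) n666 n667))) (.node (nat_lit 125233) (.node (nat_lit 124867) (.node (nat_lit 124684) n668 n669) (.node (nat_lit 125050) n670 n671)) (.node (nat_lit 125599) (.node (nat_lit 125416) n672 n673) (.node (nat_lit 125782) n674 n675)))) (.node (nat_lit 127551) (.node (nat_lit 126758) (.node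 (nat_lit 126392) (.node (nat_lit 126209) n676 n677) (.node (nat_lit 126575) n678 n679)) (.node (nat_lit 127124) (.node (nat_lit 126941) n680 n681) (.node (nat_lit 127307) n682 n683))) (.node (nat_lit 128283) (.node (nat_lit 127917) (.node (nat_lit 127734) n684 n685) (.node (nat_lit 128100) n686 n687)) (.node (nat_lit 128649) (.node (nat_lit 128466) n688 n689) (.node (nat_lit 128832) n690 n691)))))
noncomputable def n693 : T := (.node (nat_lit 129137) l2116 (.node (nat_lit 129198) l2117 l2118))
noncomputable def n694 : T := (.node (nat_lit 129320) l2119 (.node (nat_lit 129381) l2120 l2121))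
noncomputable def n695 : T := (.node (nat_lit 129503) l2122 (.node (nat_lit 129564) l2123 l2124))
noncomputable def n696 : T := (.node (nat_lit 129686) l2125 (.node (nat_lit 129747) l2126 l2127))
noncomputable def n697 : T := (.node (nat_lit 129869) l2128 (.node (nat_lit 129930) l2129 l2130))
noncomputable def n698 : T := (.node (nat_lit 130052) l2131 (.node (nat_lit 130113) l2132 l2133))
noncomputable def n699 : T := (.node (nat_lit 130235) l2134 (.node (nat_lit 130296) l2135 l2136))
noncomputable def n700 : T := (.node (nat_lit 130479) (.node (nat_lit 130418) l2137 l2138) (.node (nat_lit 130540) l2139 l2140))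
noncomputable def n701 : T := (.node (nat_lit 130662) l2141 (.node (nat_lit 130723) l2142 l2143))
noncomputable def n702 : T := (.node (nat_lit 130845) l2144 (.node (nat_lit 130906) l2145 l2146))
noncomputable def n703 : T := (.node (nat_lit 131028) l2147 (.node (nat_lit 131089) l2148 l2149))
noncomputable def n704 : T := (.node (nat_lit 131211) l2150 (.node (nat_lit 131272) l2151 l2152))
noncomputable def n705 : T := (.node (nat_lit 131394) l2153 (.node (nat_lit 131455) l2154 l2155))
noncomputable def n706 : T := (.node (nat_lit 131577) l2156 (.node (nat_lit 131638) l2157 l2158))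
noncomputable def n707 : T := (.node (nat_lit 131760) l2159 (.node (nat_lit 131821) l2160 l2161))
noncomputable def n708 : T := (.node (nat_lit 132004) (.node (nat_lit 131943) l2162 l2163) (.node (nat_lit 132065) l2164 l2165))
noncomputable def n709 : T := (.node (nat_lit 132187) l2166 (.node (nat_lit 132248) l2167 l2168))
noncomputable def n710 : T := (.node (nat_lit 132370) l2169 (.node (nat_lit 132431) l2170 l2171))
noncomputable def n711 : T := (.node (nat_lit 132553) l2172 (.node (nat_lit 132614) l2173 l2174))
noncomputable def n712 : T := (.node (nat_lit 132736) l2175 (.node (nat_lit 132797) l2176 l2177))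
noncomputable def n713 : T := (.node (nat_lit 132919) l2178 (.node (nat_lit 132980) l2179 l2180))
noncomputable def n714 : T := (.node (nat_lit 133102) l2181 (.node (nat_lit 133163) l2182 l2183))
noncomputable def n715 : T := (.node (nat_lit 133285) l2184 (.node (nat_lit 133346) l2185 l2186))
noncomputable def n716 : T := (.node (nat_lit 133529) (.node (nat_lit 133468) l2187 l2188) (.node (nat_lit 133590) l2189 l2190))
noncomputable def n717 : T := (.node (nat_lit 133712) l2191 (.node (nat_lit 133773) l2192 l2193))
noncomputable def n718 : T := (.node (nat_lit 133895) l2194 (.node (nat_lit 133956) l2195 l2196))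
noncomputable def n719 : T := (.node (nat_lit 134078) l2197 (.node (nat_lit 134139) l2198 l2199))
noncomputable def n720 : T := (.node (nat_lit 134322) (.node (nat_lit 134261) l2200 l2201) (.node (nat_lit 134383) l2202 l2203))
noncomputable def n721 : T := (.node (nat_lit 134505) l2204 (.node (nat_lit 134566) l2205 l2206))
noncomputable def n722 : T := (.node (nat_lit 134688) l2207 (.node (nat_lit 134749) l2208 l2209))
noncomputable def n723 : T := (.node (nat_lit 134871) l2210 (.node (nat_lit 134932) l2211 l2212))
noncomputable def n724 : T := (.node (nat_lit 135115) (.node (nat_lit 135054) l2213 l2214) (.node (nat_lit 135176) l2215 l2216))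
noncomputable def n725 : T := (.node (nat_lit 132126) (.node (nat_lit 130601) (.node (nat_lit 129808) (.node (nat_lit 129442) (.node (nat_lit 129259) n693 n694) (.node (nat_lit 129625) n695 n696)) (.node (nat_lit 130174) (.node (nat_lit 129991) n697 n698) (.node (nat_lit 130357) n699 n700))) (.node (nat_lit 131333) (.node (nat_lit 130967) (.node (nat_lit 130784) n701 n702) (.node (nat_lit 131150) n703 n704)) (.node (nat_lit 131699) (.node (nat_lit 131516) n705 n706) (.node (nat_lit 131882) n707 n708)))) (.node (nat_lit 133651) (.node (nat_lit 132858) (.node (nat_lit 132492) (.node (nat_lit 132309) n709 n710) (.node (nat_lit 132675) n711 n712)) (.node (nat_lit 133224) (.node (nat_lit 133041) n713 n714) (.node (nat_lit 133407) n715 n716))) (.node (nat_lit 134444) (.node (nat_lit 134017) (.node (nat_lit 133834) n717 n718) (.node (nat_lit 134200) n719 n720)) (.node (nat_lit 134810) (.node (nat_lit 134627) n721 n722) (.node (nat_lit 134993) n723 n724)))))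
noncomputable def n726 : T := (.node (nat_lit 135298) l2217 (.node (nat_lit 135359) l2218 l2219))
noncomputable def n727 : T := (.node (nat_lit 135481) l2220 (.node (nat_lit 135542) l2221 l2222))
noncomputable def n728 : T := (.node (nat_lit 135664) l2223 (.node (nat_lit 135725) l2224 l2225))
noncomputable def n729 : T := (.node (nat_lit 135847) l2226 (.node (nat_lit 135908) l2227 l2228))
noncomputable def n730 : T := (.node (nat_lit 136030) l2229 (.node (nat_lit 136091) l2230 l2231))
noncomputable def n731 : T := (.node (nat_lit 136213) l2232 (.node (nat_lit 136274) l2233 l2234))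
noncomputable def n732 : T := (.node (nat_lit 136396) l2235 (.node (nat_lit 136457) l2236 l2237))
noncomputable def n733 : T := (.node (nat_lit 136640) (.node (nat_lit 136579) l2238 l2239) (.node (nat_lit 136701) l2240 l2241))
noncomputable def n734 : T := (.node (nat_lit 136823) l2242 (.node (nat_lit 136884) l2243 l2244))
noncomputable def n735 : T := (.node (nat_lit 137006) l2245 (.node (nat_lit 137067) l2246 l2247))
noncomputable def n736 : T := (.node (nat_lit 137189) l2248 (.node (nat_lit 137250) l2249 l2250))
noncomputable def n737 : T := (.node (nat_lit 137372) l2251 (.node (nat_lit 137433) l2252 l2253))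
noncomputable def n738 : T := (.node (nat_lit 137555) l2254 (.node (nat_lit 137616) l2255 l2256))
noncomputable def n739 : T := (.node (nat_lit 137738) l2257 (.node (nat_lit 137799) l2258 l2259))
noncomputable def n740 : T := (.node (nat_lit 137921) l2260 (.node (nat_lit 137982) l2261 l2262))
noncomputable def n741 : T := (.node (nat_lit 138165) (.node (nat_lit 138104) l2263 l2264) (.node (nat_lit 138226) l2265 l2266))
noncomputable def n742 : T := (.node (nat_lit 138348) l2267 (.node (nat_lit 138409) l2268 l2269))
noncomputable def n743 : T := (.node (nat_lit 138531) l2270 (.node (nat_lit 138592) l2271 l2272))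
noncomputable def n744 : T := (.node (nat_lit 138714) l2273 (.node (nat_lit 138775) l2274 l2275))
noncomputable def n745 : T := (.node (nat_lit 138897) l2276 (.node (nat_lit 138958) l2277 l2278))
noncomputable def n746 : T := (.node (nat_lit 139080) l2279 (.node (nat_lit 139141) l2280 l2281))
noncomputable def n747 : T := (.node (nat_lit 139263) l2282 (.node (nat_lit 139324) l2283 l2284))
noncomputable def n748 : T := (.node (nat_lit 139446) l2285 (.node (nat_lit 139507) l2286 l2287))
noncomputable def n749 : T := (.node (nat_lit 139690) (.node (nat_lit 139629) l2288 l2289) (.node (nat_lit 139751) l2290 l2291))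
noncomputable def n750 : T := (.node (nat_lit 139873) l2292 (.node (nat_lit 139934) l2293 l2294))
noncomputable def n751 : T := (.node (nat_lit 140056) l2295 (.node (nat_lit 140117) l2296 l2297))
noncomputable def n752 : T := (.node (nat_lit 140239) l2298 (.node (nat_lit 140300) l2299 l2300))
noncomputable def n753 : T := (.node (nat_lit 140483) (.node (nat_lit 140422) l2301 l2302) (.node (nat_lit 140544) l2303 l2304))
noncomputable def n754 : T := (.node (nat_lit 140666) l2305 (.node (nat_lit 140727) l2306 l2307))
noncomputable def n755 : T := (.node (nat_lit 140849) l2308 (.node (nat_lit 140910) l2309 l2310))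
noncomputable def n756 : T := (.node (nat_lit 141032) l2311 (.node (nat_lit 141093) l2312 l2313))
noncomputable def n757 : T := (.node (nat_lit 141276) (.node (nat_lit 141215) l2314 l2315) (.node (nat_lit 141337) l2316 l2317))
noncomputable def n758 : T := (.node (nat_lit 138287) (.node (nat_lit 136762) (.node (nat_lit 135969) (.node (nat_lit 135603) (.node (nat_lit 135420) n726 n727) (.node (nat_lit 135786) n728 n729)) (.node (nat_lit 136335) (.node (nat_lit 136152) n730 n731) (.node (nat_lit 136518) n732 n733))) (.node (nat_lit 137494) (.node (nat_lit 137128) (.node (nat_lit 136945) n734 n735) (.node (nat_lit 137311) n736 n737)) (.node (nat_lit 137860) (.node (nat_lit 137677) n738 n739) (.node (nat_lit 138043) n740 n741)))) (.node (nat_lit 139812) (.node (nat_lit 139019) (.node (nat_lit 138653) (.node (nat_lit 138470) n742 n743) (.node (nat_lit 138836) n744 n745)) (.node (nat_lit 139385) (.node (nat_lit 139202) n746 n747) (.node (nat_lit 139568) n748 n749))) (.node (nat_lit 140605) (.node (nat_lit 140178) (.node (nat_lit 139995) n750 n751) (.node (nat_lit 140361) n752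 n753)) (.node (nat_lit 140971) (.node (nat_lit 140788) n754 n755) (.node (nat_lit 141154) n756 n757)))))
noncomputable def n759 : T := (.node (nat_lit 141459) l2318 (.node (nat_lit 141520) l2319 l2320))
noncomputable def n760 : T := (.node (nat_lit 141642) l2321 (.node (nat_lit 141703) l2322 l2323))
noncomputable def n761 : T := (.node (nat_lit 141825) l2324 (.node (nat_lit 141886) l2325 l2326))
noncomputable def n762 : T := (.node (nat_lit 142008) l2327 (.node (nat_lit 142069) l2328 l2329))
noncomputable def n763 : T := (.node (nat_lit 142191) l2330 (.node (nat_lit 142252) l2331 l2332))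
noncomputable def n764 : T := (.node (nat_lit 142374) l2333 (.node (nat_lit 142435) l2334 l2335))
noncomputable def n765 : T := (.node (nat_lit 142557) l2336 (.node (nat_lit 142618) l2337 l2338))
noncomputable def n766 : T := (.node (nat_lit 142801) (.node (nat_lit 142740) l2339 l2340) (.node (nat_lit 142862) l2341 l2342))
noncomputable def n767 : T := (.node (nat_lit 142984) l2343 (.node (nat_lit 143045) l2344 l2345))
noncomputable def n768 : T := (.node (nat_lit 143167) l2346 (.node (nat_lit 143228) l2347 l2348))
noncomputable def n769 : T := (.node (nat_lit 143350) l2349 (.node (nat_lit 143411) l2350 l2351))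
noncomputable def n770 : T := (.node (nat_lit 143533) l2352 (.node (nat_lit 143594) l2353 l2354))
noncomputable def n771 : T := (.node (nat_lit 143716) l2355 (.node (nat_lit 143777) l2356 l2357))
noncomputable def n772 : T := (.node (nat_lit 143899) l2358 (.node (nat_lit 143960) l2359 l2360))
noncomputable def n773 : T := (.node (nat_lit 144082) l2361 (.node (nat_lit 144143) l2362 l2363))
noncomputable def n774 : T := (.node (nat_lit 144326) (.node (nat_lit 144265) l2364 l2365) (.node (nat_lit 144387) l2366 l2367))
noncomputable def n775 : T := (.node (nat_lit 144509) l2368 (.node (nat_lit 144570) l2369 l2370))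
noncomputable def n776 : T := (.node (nat_lit 144692) l2371 (.node (nat_lit 144753) l2372 l2373))
noncomputable def n777 : T := (.node (nat_lit 144875) l2374 (.node (nat_lit 144936) l2375 l2376))
noncomputable def n778 : T := (.node (nat_lit 145058) l2377 (.node (nat_lit 145119) l2378 l2379))
noncomputable def n779 : T := (.node (nat_lit 145241) l2380 (.node (nat_lit 145302) l2381 l2382))
noncomputable def n780 : T := (.node (nat_lit 145424) l2383 (.node (nat_lit 145485) l2384 l2385))
noncomputable def n781 : T := (.node (nat_lit 145607) l2386 (.node (nat_lit 145668) l2387 l2388))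
noncomputable def n782 : T := (.node (nat_lit 145851) (.node (nat_lit 145790) l2389 l2390) (.node (nat_lit 145912) l2391 l2392))
noncomputable def n783 : T := (.node (nat_lit 146034) l2393 (.node (nat_lit 146095) l2394 l2395))
noncomputable def n784 : T := (.node (nat_lit 146217) l2396 (.node (nat_lit 146278) l2397 l2398))
noncomputable def n785 : T := (.node (nat_lit 146400) l2399 (.node (nat_lit 146461) l2400 l2401))
noncomputable def n786 : T := (.node (nat_lit 146644) (.node (nat_lit 146583) l2402 l2403) (.node (nat_lit 146705) l2404 l2405))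
noncomputable def n787 : T := (.node (nat_lit 146827) l2406 (.node (nat_lit 146888) l2407 l2408))
noncomputable def n788 : T := (.node (nat_lit 147010) l2409 (.node (nat_lit 147071) l2410 l2411))
noncomputable def n789 : T := (.node (nat_lit 147193) l2412 (.node (nat_lit 147254) l2413 l2414))
noncomputable def n790 : T := (.node (nat_lit 147437) (.node (nat_lit 147376) l2415 l2416) (.node (nat_lit 147498) l2417 l2418))
noncomputable def n791 : T := (.node (nat_lit 144448) (.node (nat_lit 142923) (.node (nat_lit 142130) (.node (nat_lit 141764) (.node (nat_lit 141581) n759 n760) (.node (nat_lit 141947) n761 n762)) (.node (nat_lit 142496) (.node (nat_lit 142313) n763 n764) (.node (nat_lit 142679) n765 n766))) (.node (nat_lit 143655) (.node (nat_lit 143289) (.node (nat_lit 143106) n767 n768) (.node (nat_lit 143472) n769 n770)) (.node (nat_lit 144021) (.node (nat_lit 143838) n771 n772) (.node (nat_lit 144204) n773 n774)))) (.node (nat_lit 145973) (.node (nat_lit 145180) (.node (nat_lit 144814) (.node (nat_lit 144631) n775 n776) (.node (nat_lit 144997) n777 n778)) (.node (nat_lit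 145546) (.node (nat_lit 145363) n779 n780) (.node (nat_lit 145729) n781 n782))) (.node (nat_lit 146766) (.node (nat_lit 146339) (.node (nat_lit 146156) n783 n784) (.node (nat_lit 146522) n785 n786)) (.node (nat_lit 147132) (.node (nat_lit 146949) n787 n788) (.node (nat_lit 147315) n789 n790)))))
noncomputable def n792 : T := (.node (nat_lit 147620) l2419 (.node (nat_lit 147681) l2420 l2421))
noncomputable def n793 : T := (.node (nat_lit 147803) l2422 (.node (nat_lit 147864) l2423 l2424))
noncomputable def n794 : T := (.node (nat_lit 147986) l2425 (.node (nat_lit 148047) l2426 l2427))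
noncomputable def n795 : T := (.node (nat_lit 148169) l2428 (.node (nat_lit 148230) l2429 l2430))
noncomputable def n796 : T := (.node (nat_lit 148352) l2431 (.node (nat_lit 148413) l2432 l2433))
noncomputable def n797 : T := (.node (nat_lit 148535) l2434 (.node (nat_lit 148596) l2435 l2436))
noncomputable def n798 : T := (.node (nat_lit 148718) l2437 (.node (nat_lit 148779) l2438 l2439))
noncomputable def n799 : T := (.node (nat_lit 148962) (.node (nat_lit 148901) l2440 l2441) (.node (nat_lit 149023) l2442 l2443))
noncomputable def n800 : T := (.node (nat_lit 149145) l2444 (.node (nat_lit 149206) l2445 l2446))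
noncomputable def n801 : T := (.node (nat_lit 149328) l2447 (.node (nat_lit 149389) l2448 l2449))
noncomputable def n802 : T := (.node (nat_lit 149511) l2450 (.node (nat_lit 149572) l2451 l2452))
noncomputable def n803 : T := (.node (nat_lit 149694) l2453 (.node (nat_lit 149755) l2454 l2455))
noncomputable def n804 : T := (.node (nat_lit 149877) l2456 (.node (nat_lit 149938) l2457 l2458))
noncomputable def n805 : T := (.node (nat_lit 150060) l2459 (.node (nat_lit 150121) l2460 l2461))
noncomputable def n806 : T := (.node (nat_lit 150243) l2462 (.node (nat_lit 150304) l2463 l2464))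
noncomputable def n807 : T := (.node (nat_lit 150487) (.node (nat_lit 150426) l2465 l2466) (.node (nat_lit 150548) l2467 l2468))
noncomputable def n808 : T := (.node (nat_lit 150670) l2469 (.node (nat_lit 150731) l2470 l2471))
noncomputable def n809 : T := (.node (nat_lit 150853) l2472 (.node (nat_lit 150914) l2473 l2474))
noncomputable def n810 : T := (.node (nat_lit 151036) l2475 (.node (nat_lit 151097) l2476 l2477))
noncomputable def n811 : T := (.node (nat_lit 151219) l2478 (.node (nat_lit 151280) l2479 l2480))
noncomputable def n812 : T := (.node (nat_lit 151402) l2481 (.node (nat_lit 151463) l2482 l2483))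
noncomputable def n813 : T := (.node (nat_lit 151585) l2484 (.node (nat_lit 151646) l2485 l2486))
noncomputable def n814 : T := (.node (nat_lit 151768) l2487 (.node (nat_lit 151829) l2488 l2489))
noncomputable def n815 : T := (.node (nat_lit 152012) (.node (nat_lit 151951) l2490 l2491) (.node (nat_lit 152073) l2492 l2493))
noncomputable def n816 : T := (.node (nat_lit 152195) l2494 (.node (nat_lit 152256) l2495 l2496))
noncomputable def n817 : T := (.node (nat_lit 152378) l2497 (.node (nat_lit 152439) l2498 l2499))
noncomputable def n818 : T := (.node (nat_lit 152561) l2500 (.node (nat_lit 152622) l2501 l2502))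
noncomputable def n819 : T := (.node (nat_lit 152744) l2503 (.node (nat_lit 152805) l2504 l2505))
noncomputable def n820 : T := (.node (nat_lit 152927) l2506 (.node (nat_lit 152988) l2507 l2508))
noncomputable def n821 : T := (.node (nat_lit 153110) l2509 (.node (nat_lit 153171) l2510 l2511))
noncomputable def n822 : T := (.node (nat_lit 153293) l2512 (.node (nat_lit 153354) l2513 l2514))
noncomputable def n823 : T := (.node (nat_lit 153537) (.node (nat_lit 153476) l2515 l2516) (.node (nat_lit 153598) l2517 l2518))
noncomputable def n824 : T := (.node (nat_lit 150609) (.node (nat_lit 149084) (.node (nat_lit 148291) (.node (nat_lit 147925) (.node (nat_lit 147742) n792 n793) (.node (nat_lit 148108) n794 n795)) (.node (nat_lit 148657) (.node (nat_lit 148474) n796 n797) (.node (nat_lit 148840) n798 n799))) (.node (nat_lit 149816) (.node (nat_lit 149450) (.node (nat_lit 149267) n800 n801) (.node (nat_lit 149633) n802 n803)) (.node (nat_lit 150182) (.node (nat_lit 149999) n804 n805) (.node (nat_lit 150365) n806 n807)))) (.node (nat_lit 152134) (.node (nat_lit 151341) (.node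 (nat_lit 150975) (.node (nat_lit 150792) n808 n809) (.node (nat_lit 151158) n810 n811)) (.node (nat_lit 151707) (.node (nat_lit 151524) n812 n813) (.node (nat_lit 151890) n814 n815))) (.node (nat_lit 152866) (.node (nat_lit 152500) (.node (nat_lit 152317) n816 n817) (.node (nat_lit 152683) n818 n819)) (.node (nat_lit 153232) (.node (nat_lit 153049) n820 n821) (.node (nat_lit 153415) n822 n823)))))
noncomputable def n825 : T := (.node (nat_lit 153720) l2519 (.node (nat_lit 153781) l2520 l2521))
noncomputable def n826 : T := (.node (nat_lit 153903) l2522 (.node (nat_lit 153964) l2523 l2524))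
noncomputable def n827 : T := (.node (nat_lit 154086) l2525 (.node (nat_lit 154147) l2526 l2527))
noncomputable def n828 : T := (.node (nat_lit 154269) l2528 (.node (nat_lit 154330) l2529 l2530))
noncomputable def n829 : T := (.node (nat_lit 154452) l2531 (.node (nat_lit 154513) l2532 l2533))
noncomputable def n830 : T := (.node (nat_lit 154635) l2534 (.node (nat_lit 154696) l2535 l2536))
noncomputable def n831 : T := (.node (nat_lit 154818) l2537 (.node (nat_lit 154879) l2538 l2539))
noncomputable def n832 : T := (.node (nat_lit 155062) (.node (nat_lit 155001) l2540 l2541) (.node (nat_lit 155123) l2542 l2543))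
noncomputable def n833 : T := (.node (nat_lit 155245) l2544 (.node (nat_lit 155306) l2545 l2546))
noncomputable def n834 : T := (.node (nat_lit 155428) l2547 (.node (nat_lit 155489) l2548 l2549))
noncomputable def n835 : T := (.node (nat_lit 155611) l2550 (.node (nat_lit 155672) l2551 l2552))
noncomputable def n836 : T := (.node (nat_lit 155794) l2553 (.node (nat_lit 155855) l2554 l2555))
noncomputable def n837 : T := (.node (nat_lit 155977) l2556 (.node (nat_lit 156038) l2557 l2558))
noncomputable def n838 : T := (.node (nat_lit 156160) l2559 (.node (nat_lit 156221) l2560 l2561))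
noncomputable def n839 : T := (.node (nat_lit 156343) l2562 (.node (nat_lit 156404) l2563 l2564))
noncomputable def n840 : T := (.node (nat_lit 156587) (.node (nat_lit 156526) l2565 l2566) (.node (nat_lit 156648) l2567 l2568))
noncomputable def n841 : T := (.node (nat_lit 156770) l2569 (.node (nat_lit 156831) l2570 l2571))
noncomputable def n842 : T := (.node (nat_lit 156953) l2572 (.node (nat_lit 157014) l2573 l2574))
noncomputable def n843 : T := (.node (nat_lit 157136) l2575 (.node (nat_lit 157197) l2576 l2577))
noncomputable def n844 : T := (.node (nat_lit 157319) l2578 (.node (nat_lit 157380) l2579 l2580))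
noncomputable def n845 : T := (.node (nat_lit 157502) l2581 (.node (nat_lit 157563) l2582 l2583))
noncomputable def n846 : T := (.node (nat_lit 157685) l2584 (.node (nat_lit 157746) l2585 l2586))
noncomputable def n847 : T := (.node (nat_lit 157868) l2587 (.node (nat_lit 157929) l2588 l2589))
noncomputable def n848 : T := (.node (nat_lit 158112) (.node (nat_lit 158051) l2590 l2591) (.node (nat_lit 158173) l2592 l2593))
noncomputable def n849 : T := (.node (nat_lit 158295) l2594 (.node (nat_lit 158356) l2595 l2596))
noncomputable def n850 : T := (.node (nat_lit 158478) l2597 (.node (nat_lit 158539) l2598 l2599))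
noncomputable def n851 : T := (.node (nat_lit 158661) l2600 (.node (nat_lit 158722) l2601 l2602))
noncomputable def n852 : T := (.node (nat_lit 158905) (.node (nat_lit 158844) l2603 l2604) (.node (nat_lit 158966) l2605 l2606))
noncomputable def n853 : T := (.node (nat_lit 159088) l2607 (.node (nat_lit 159149) l2608 l2609))
noncomputable def n854 : T := (.node (nat_lit 159271) l2610 (.node (nat_lit 159332) l2611 l2612))
noncomputable def n855 : T := (.node (nat_lit 159454) l2613 (.node (nat_lit 159515) l2614 l2615))
noncomputable def n856 : T := (.node (nat_lit 159698) (.node (nat_lit 159637) l2616 l2617) (.node (nat_lit 159759) l2618 l2619))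
noncomputable def n857 : T := (.node (nat_lit 156709) (.node (nat_lit 155184) (.node (nat_lit 154391) (.node (nat_lit 154025) (.node (nat_lit 153842) n825 n826) (.node (nat_lit 154208) n827 n828)) (.node (nat_lit 154757) (.node (nat_lit 154574) n829 n830) (.node (nat_lit 154940) n831 n832))) (.node (nat_lit 155916) (.node (nat_lit 155550) (.node (nat_lit 155367) n833 n834) (.node (nat_lit 155733) n835 n836)) (.node (nat_lit 156282) (.node (nat_lit 156099) n837 n838) (.node (nat_lit 156465) n839 n840)))) (.node (nat_lit 158234) (.node (nat_lit 157441) (.node (nat_lit 157075) (.node (nat_lit 156892) n841 n842) (.node (nat_lit 157258) n843 n844)) (.node (nat_lit 157807) (.node (nat_lit 157624) n845 n846) (.node (nat_lit 157990) n847 n848))) (.node (nat_lit 159027) (.node (nat_lit 158600) (.node (nat_lit 158417) n849 n850) (.node (nat_lit 158783) n851 n852)) (.node (nat_lit 159393) (.node (nat_lit 159210) n853 n854) (.node (nat_lit 159576) n855 n856)))))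
noncomputable def n858 : T := (.node (nat_lit 159881) l2620 (.node (nat_lit 159942) l2621 l2622))
noncomputable def n859 : T := (.node (nat_lit 160064) l2623 (.node (nat_lit 160125) l2624 l2625))
noncomputable def n860 : T := (.node (nat_lit 160247) l2626 (.node (nat_lit 160308) l2627 l2628))
noncomputable def n861 : T := (.node (nat_lit 160430) l2629 (.node (nat_lit 160491) l2630 l2631))
noncomputable def n862 : T := (.node (nat_lit 160613) l2632 (.node (nat_lit 160674) l2633 l2634))
noncomputable def n863 : T := (.node (nat_lit 160796) l2635 (.node (nat_lit 160857) l2636 l2637))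
noncomputable def n864 : T := (.node (nat_lit 160979) l2638 (.node (nat_lit 161040) l2639 l2640))
noncomputable def n865 : T := (.node (nat_lit 161223) (.node (nat_lit 161162) l2641 l2642) (.node (nat_lit 161284) l2643 l2644))
noncomputable def n866 : T := (.node (nat_lit 161406) l2645 (.node (nat_lit 161467) l2646 l2647))
noncomputable def n867 : T := (.node (nat_lit 161589) l2648 (.node (nat_lit 161650) l2649 l2650))
noncomputable def n868 : T := (.node (nat_lit 161772) l2651 (.node (nat_lit 161833) l2652 l2653))
noncomputable def n869 : T := (.node (nat_lit 161955) l2654 (.node (nat_lit 162016) l2655 l2656))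
noncomputable def n870 : T := (.node (nat_lit 162138) l2657 (.node (nat_lit 162199) l2658 l2659))
noncomputable def n871 : T := (.node (nat_lit 162321) l2660 (.node (nat_lit 162382) l2661 l2662))
noncomputable def n872 : T := (.node (nat_lit 162504) l2663 (.node (nat_lit 162565) l2664 l2665))
noncomputable def n873 : T := (.node (nat_lit 162748) (.node (nat_lit 162687) l2666 l2667) (.node (nat_lit 162809) l2668 l2669))
noncomputable def n874 : T := (.node (nat_lit 162931) l2670 (.node (nat_lit 162992) l2671 l2672))
noncomputable def n875 : T := (.node (nat_lit 163114) l2673 (.node (nat_lit 163175) l2674 l2675))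
noncomputable def n876 : T := (.node (nat_lit 163297) l2676 (.node (nat_lit 163358) l2677 l2678))
noncomputable def n877 : T := (.node (nat_lit 163480) l2679 (.node (nat_lit 163541) l2680 l2681))
noncomputable def n878 : T := (.node (nat_lit 163663) l2682 (.node (nat_lit 163724) l2683 l2684))
noncomputable def n879 : T := (.node (nat_lit 163846) l2685 (.node (nat_lit 163907) l2686 l2687))
noncomputable def n880 : T := (.node (nat_lit 164029) l2688 (.node (nat_lit 164090) l2689 l2690))
noncomputable def n881 : T := (.node (nat_lit 164273) (.node (nat_lit 164212) l2691 l2692) (.node (nat_lit 164334) l2693 l2694))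
noncomputable def n882 : T := (.node (nat_lit 164456) l2695 (.node (nat_lit 164517) l2696 l2697))
noncomputable def n883 : T := (.node (nat_lit 164639) l2698 (.node (nat_lit 164700) l2699 l2700))
noncomputable def n884 : T := (.node (nat_lit 164822) l2701 (.node (nat_lit 164883) l2702 l2703))
noncomputable def n885 : T := (.node (nat_lit 165066) (.node (nat_lit 165005) l2704 l2705) (.node (nat_lit 165127) l2706 l2707))
noncomputable def n886 : T := (.node (nat_lit 165249) l2708 (.node (nat_lit 165310) l2709 l2710))
noncomputable def n887 : T := (.node (nat_lit 165432) l2711 (.node (nat_lit 165493) l2712 l2713))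
noncomputable def n888 : T := (.node (nat_lit 165615) l2714 (.node (nat_lit 165676) l2715 l2716))
noncomputable def n889 : T := (.node (nat_lit 165859) (.node (nat_lit 165798) l2717 l2718) (.node (nat_lit 165920) l2719 l2720))
noncomputable def n890 : T := (.node (nat_lit 162870) (.node (nat_lit 161345) (.node (nat_lit 160552) (.node (nat_lit 160186) (.node (nat_lit 160003) n858 n859) (.node (nat_lit 160369) n860 n861)) (.node (nat_lit 160918) (.node (nat_lit 160735) n862 n863) (.node (nat_lit 161101) n864 n865))) (.node (nat_lit 162077) (.node (nat_lit 161711) (.node (nat_lit 161528) n866 n867) (.node (nat_lit 161894) n868 n869)) (.node (nat_lit 162443) (.node (nat_lit 162260) n870 n871) (.node (nat_lit 162626) n872 n873)))) (.node (nat_lit 164395) (.node (nat_lit 163602) (.node (nat_lit 163236) (.node (nat_lit 163053) n874 n875) (.node (nat_lit 163419) n876 n877)) (.node (nat_lit 163968) (.node (nat_lit 163785) n878 n879) (.node (nat_lit 164151) n880 n881))) (.node (nat_lit 165188) (.node (nat_lit 164761) (.node (nat_lit 164578) n882 n883) (.node (nat_lit 164944) n884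 n885)) (.node (nat_lit 165554) (.node (nat_lit 165371) n886 n887) (.node (nat_lit 165737) n888 n889)))))
noncomputable def n891 : T := (.node (nat_lit 166042) l2721 (.node (nat_lit 166103) l2722 l2723))
noncomputable def n892 : T := (.node (nat_lit 166225) l2724 (.node (nat_lit 166286) l2725 l2726))
noncomputable def n893 : T := (.node (nat_lit 166408) l2727 (.node (nat_lit 166469) l2728 l2729))
noncomputable def n894 : T := (.node (nat_lit 166591) l2730 (.node (nat_lit 166652) l2731 l2732))
noncomputable def n895 : T := (.node (nat_lit 166774) l2733 (.node (nat_lit 166835) l2734 l2735))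
noncomputable def n896 : T := (.node (nat_lit 166957) l2736 (.node (nat_lit 167018) l2737 l2738))
noncomputable def n897 : T := (.node (nat_lit 167140) l2739 (.node (nat_lit 167201) l2740 l2741))
noncomputable def n898 : T := (.node (nat_lit 167384) (.node (nat_lit 167323) l2742 l2743) (.node (nat_lit 167445) l2744 l2745))
noncomputable def n899 : T := (.node (nat_lit 167567) l2746 (.node (nat_lit 167628) l2747 l2748))
noncomputable def n900 : T := (.node (nat_lit 167750) l2749 (.node (nat_lit 167811) l2750 l2751))
noncomputable def n901 : T := (.node (nat_lit 167933) l2752 (.node (nat_lit 167994) l2753 l2754))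
noncomputable def n902 : T := (.node (nat_lit 168116) l2755 (.node (nat_lit 168177) l2756 l2757))
noncomputable def n903 : T := (.node (nat_lit 168299) l2758 (.node (nat_lit 168360) l2759 l2760))
noncomputable def n904 : T := (.node (nat_lit 168482) l2761 (.node (nat_lit 168543) l2762 l2763))
noncomputable def n905 : T := (.node (nat_lit 168665) l2764 (.node (nat_lit 168726) l2765 l2766))
noncomputable def n906 : T := (.node (nat_lit 168909) (.node (nat_lit 168848) l2767 l2768) (.node (nat_lit 168970) l2769 l2770))
noncomputable def n907 : T := (.node (nat_lit 169092) l2771 (.node (nat_lit 169153) l2772 l2773))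
noncomputable def n908 : T := (.node (nat_lit 169275) l2774 (.node (nat_lit 169336) l2775 l2776))
noncomputable def n909 : T := (.node (nat_lit 169458) l2777 (.node (nat_lit 169519) l2778 l2779))
noncomputable def n910 : T := (.node (nat_lit 169641) l2780 (.node (nat_lit 169702) l2781 l2782))
noncomputable def n911 : T := (.node (nat_lit 169824) l2783 (.node (nat_lit 169885) l2784 l2785))
noncomputable def n912 : T := (.node (nat_lit 170007) l2786 (.node (nat_lit 170068) l2787 l2788))
noncomputable def n913 : T := (.node (nat_lit 170190) l2789 (.node (nat_lit 170251) l2790 l2791))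
noncomputable def n914 : T := (.node (nat_lit 170434) (.node (nat_lit 170373) l2792 l2793) (.node (nat_lit 170495) l2794 l2795))
noncomputable def n915 : T := (.node (nat_lit 170617) l2796 (.node (nat_lit 170678) l2797 l2798))
noncomputable def n916 : T := (.node (nat_lit 170800) l2799 (.node (nat_lit 170861) l2800 l2801))
noncomputable def n917 : T := (.node (nat_lit 170983) l2802 (.node (nat_lit 171044) l2803 l2804))
noncomputable def n918 : T := (.node (nat_lit 171227) (.node (nat_lit 171166) l2805 l2806) (.node (nat_lit 171288) l2807 l2808))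
noncomputable def n919 : T := (.node (nat_lit 171410) l2809 (.node (nat_lit 171471) l2810 l2811))
noncomputable def n920 : T := (.node (nat_lit 171593) l2812 (.node (nat_lit 171654) l2813 l2814))
noncomputable def n921 : T := (.node (nat_lit 171776) l2815 (.node (nat_lit 171837) l2816 l2817))
noncomputable def n922 : T := (.node (nat_lit 172020) (.node (nat_lit 171959) l2818 l2819) (.node (nat_lit 172081) l2820 l2821))
noncomputable def n923 : T := (.node (nat_lit 169031) (.node (nat_lit 167506) (.node (nat_lit 166713) (.node (nat_lit 166347) (.node (nat_lit 166164) n891 n892) (.node (nat_lit 166530) n893 n894)) (.node (nat_lit 167079) (.node (nat_lit 166896) n895 n896) (.node (nat_lit 167262) n897 n898))) (.node (nat_lit 168238) (.node (nat_lit 167872) (.node (nat_lit 167689) n899 n900) (.node (nat_lit 168055) n901 n902)) (.node (nat_lit 168604) (.node (nat_lit 168421) n903 n904) (.node (nat_lit 168787) n905 n906)))) (.node (nat_lit 170556) (.node (nat_lit 169763) (.node (nat_lit 169397) (.node (nat_lit 169214) n907 n908) (.node (nat_lit 169580) n909 n910)) (.node (nat_lit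 170129) (.node (nat_lit 169946) n911 n912) (.node (nat_lit 170312) n913 n914))) (.node (nat_lit 171349) (.node (nat_lit 170922) (.node (nat_lit 170739) n915 n916) (.node (nat_lit 171105) n917 n918)) (.node (nat_lit 171715) (.node (nat_lit 171532) n919 n920) (.node (nat_lit 171898) n921 n922)))))
noncomputable def n924 : T := (.node (nat_lit 172203) l2822 (.node (nat_lit 172264) l2823 l2824))
noncomputable def n925 : T := (.node (nat_lit 172386) l2825 (.node (nat_lit 172447) l2826 l2827))
noncomputable def n926 : T := (.node (nat_lit 172569) l2828 (.node (nat_lit 172630) l2829 l2830))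
noncomputable def n927 : T := (.node (nat_lit 172752) l2831 (.node (nat_lit 172813) l2832 l2833))
noncomputable def n928 : T := (.node (nat_lit 172935) l2834 (.node (nat_lit 172996) l2835 l2836))
noncomputable def n929 : T := (.node (nat_lit 173118) l2837 (.node (nat_lit 173179) l2838 l2839))
noncomputable def n930 : T := (.node (nat_lit 173301) l2840 (.node (nat_lit 173362) l2841 l2842))
noncomputable def n931 : T := (.node (nat_lit 173545) (.node (nat_lit 173484) l2843 l2844) (.node (nat_lit 173606) l2845 l2846))
noncomputable def n932 : T := (.node (nat_lit 173728) l2847 (.node (nat_lit 173789) l2848 l2849))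
noncomputable def n933 : T := (.node (nat_lit 173911) l2850 (.node (nat_lit 173972) l2851 l2852))
noncomputable def n934 : T := (.node (nat_lit 174094) l2853 (.node (nat_lit 174155) l2854 l2855))
noncomputable def n935 : T := (.node (nat_lit 174277) l2856 (.node (nat_lit 174338) l2857 l2858))
noncomputable def n936 : T := (.node (nat_lit 174460) l2859 (.node (nat_lit 174521) l2860 l2861))
noncomputable def n937 : T := (.node (nat_lit 174643) l2862 (.node (nat_lit 174704) l2863 l2864))
noncomputable def n938 : T := (.node (nat_lit 174826) l2865 (.node (nat_lit 174887) l2866 l2867))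
noncomputable def n939 : T := (.node (nat_lit 175070) (.node (nat_lit 175009) l2868 l2869) (.node (nat_lit 175131) l2870 l2871))
noncomputable def n940 : T := (.node (nat_lit 175253) l2872 (.node (nat_lit 175314) l2873 l2874))
noncomputable def n941 : T := (.node (nat_lit 175436) l2875 (.node (nat_lit 175497) l2876 l2877))
noncomputable def n942 : T := (.node (nat_lit 175619) l2878 (.node (nat_lit 175680) l2879 l2880))
noncomputable def n943 : T := (.node (nat_lit 175802) l2881 (.node (nat_lit 175863) l2882 l2883))
noncomputable def n944 : T := (.node (nat_lit 175985) l2884 (.node (nat_lit 176046) l2885 l2886))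
noncomputable def n945 : T := (.node (nat_lit 176168) l2887 (.node (nat_lit 176229) l2888 l2889))
noncomputable def n946 : T := (.node (nat_lit 176351) l2890 (.node (nat_lit 176412) l2891 l2892))
noncomputable def n947 : T := (.node (nat_lit 176595) (.node (nat_lit 176534) l2893 l2894) (.node (nat_lit 176656) l2895 l2896))
noncomputable def n948 : T := (.node (nat_lit 176778) l2897 (.node (nat_lit 176839) l2898 l2899))
noncomputable def n949 : T := (.node (nat_lit 176961) l2900 (.node (nat_lit 177022) l2901 l2902))
noncomputable def n950 : T := (.node (nat_lit 177144) l2903 (.node (nat_lit 177205) l2904 l2905))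
noncomputable def n951 : T := (.node (nat_lit 177388) (.node (nat_lit 177327) l2906 l2907) (.node (nat_lit 177449) l2908 l2909))
noncomputable def n952 : T := (.node (nat_lit 177571) l2910 (.node (nat_lit 177632) l2911 l2912))
noncomputable def n953 : T := (.node (nat_lit 177754) l2913 (.node (nat_lit 177815) l2914 l2915))
noncomputable def n954 : T := (.node (nat_lit 177937) l2916 (.node (nat_lit 177998) l2917 l2918))
noncomputable def n955 : T := (.node (nat_lit 178181) (.node (nat_lit 178120) l2919 l2920) (.node (nat_lit 178242) l2921 l2922))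
noncomputable def n956 : T := (.node (nat_lit 175192) (.node (nat_lit 173667) (.node (nat_lit 172874) (.node (nat_lit 172508) (.node (nat_lit 172325) n924 n925) (.node (nat_lit 172691) n926 n927)) (.node (nat_lit 173240) (.node (nat_lit 173057) n928 n929) (.node (nat_lit 173423) n930 n931))) (.node (nat_lit 174399) (.node (nat_lit 174033) (.node (nat_lit 173850) n932 n933) (.node (nat_lit 174216) n934 n935)) (.node (nat_lit 174765) (.node (nat_lit 174582) n936 n937) (.node (nat_lit 174948) n938 n939)))) (.node (nat_lit 176717) (.node (nat_lit 175924) (.node (nat_lit 175558) (.node (nat_lit 175375) n940 n941) (.node (nat_lit 175741) n942 n943)) (.node (nat_lit 176290) (.node (nat_lit 176107) n944 n945) (.node (nat_lit 176473) n946 n947))) (.node (nat_lit 177510) (.node (nat_lit 177083) (.node (nat_lit 176900) n948 n949) (.node (nat_lit 177266) n950 n951)) (.node (nat_lit 177876) (.node (nat_lit 177693) n952 n953) (.node (nat_lit 178059) n954 n955)))))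
noncomputable def n957 : T := (.node (nat_lit 178364) l2923 (.node (nat_lit 178425) l2924 l2925))
noncomputable def n958 : T := (.node (nat_lit 178547) l2926 (.node (nat_lit 178608) l2927 l2928))
noncomputable def n959 : T := (.node (nat_lit 178730) l2929 (.node (nat_lit 178791) l2930 l2931))
noncomputable def n960 : T := (.node (nat_lit 178913) l2932 (.node (nat_lit 178974) l2933 l2934))
noncomputable def n961 : T := (.node (nat_lit 179096) l2935 (.node (nat_lit 179157) l2936 l2937))
noncomputable def n962 : T := (.node (nat_lit 179279) l2938 (.node (nat_lit 179340) l2939 l2940))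
noncomputable def n963 : T := (.node (nat_lit 179462) l2941 (.node (nat_lit 179523) l2942 l2943))
noncomputable def n964 : T := (.node (nat_lit 179706) (.node (nat_lit 179645) l2944 l2945) (.node (nat_lit 179767) l2946 l2947))
noncomputable def n965 : T := (.node (nat_lit 179889) l2948 (.node (nat_lit 179950) l2949 l2950))
noncomputable def n966 : T := (.node (nat_lit 180072) l2951 (.node (nat_lit 180133) l2952 l2953))
noncomputable def n967 : T := (.node (nat_lit 180255) l2954 (.node (nat_lit 180316) l2955 l2956))
noncomputable def n968 : T := (.node (nat_lit 180438) l2957 (.node (nat_lit 180499) l2958 l2959))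
noncomputable def n969 : T := (.node (nat_lit 180621) l2960 (.node (nat_lit 180682) l2961 l2962))
noncomputable def n970 : T := (.node (nat_lit 180804) l2963 (.node (nat_lit 180865) l2964 l2965))
noncomputable def n971 : T := (.node (nat_lit 180987) l2966 (.node (nat_lit 181048) l2967 l2968))
noncomputable def n972 : T := (.node (nat_lit 181231) (.node (nat_lit 181170) l2969 l2970) (.node (nat_lit 181292) l2971 l2972))
noncomputable def n973 : T := (.node (nat_lit 181414) l2973 (.node (nat_lit 181475) l2974 l2975))
noncomputable def n974 : T := (.node (nat_lit 181597) l2976 (.node (nat_lit 181658) l2977 l2978))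
noncomputable def n975 : T := (.node (nat_lit 181780) l2979 (.node (nat_lit 181841) l2980 l2981))
noncomputable def n976 : T := (.node (nat_lit 181963) l2982 (.node (nat_lit 182024) l2983 l2984))
noncomputable def n977 : T := (.node (nat_lit 182146) l2985 (.node (nat_lit 182207) l2986 l2987))
noncomputable def n978 : T := (.node (nat_lit 182329) l2988 (.node (nat_lit 182390) l2989 l2990))
noncomputable def n979 : T := (.node (nat_lit 182512) l2991 (.node (nat_lit 182573) l2992 l2993))
noncomputable def n980 : T := (.node (nat_lit 182756) (.node (nat_lit 182695) l2994 l2995) (.node (nat_lit 182817) l2996 l2997))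
noncomputable def n981 : T := (.node (nat_lit 182939) l2998 (.node (nat_lit 183000) l2999 l3000))
noncomputable def n982 : T := (.node (nat_lit 183122) l3001 (.node (nat_lit 183183) l3002 l3003))
noncomputable def n983 : T := (.node (nat_lit 183305) l3004 (.node (nat_lit 183366) l3005 l3006))
noncomputable def n984 : T := (.node (nat_lit 183549) (.node (nat_lit 183488) l3007 l3008) (.node (nat_lit 183610) l3009 l3010))
noncomputable def n985 : T := (.node (nat_lit 183732) l3011 (.node (nat_lit 183793) l3012 l3013))
noncomputable def n986 : T := (.node (nat_lit 183915) l3014 (.node (nat_lit 183976) l3015 l3016))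
noncomputable def n987 : T := (.node (nat_lit 184098) l3017 (.node (nat_lit 184159) l3018 l3019))
noncomputable def n988 : T := (.node (nat_lit 184342) (.node (nat_lit 184281) l3020 l3021) (.node (nat_lit 184403) l3022 l3023))
noncomputable def n989 : T := (.node (nat_lit 181353) (.node (nat_lit 179828) (.node (nat_lit 179035) (.node (nat_lit 178669) (.node (nat_lit 178486) n957 n958) (.node (nat_lit 178852) n959 n960)) (.node (nat_lit 179401) (.node (nat_lit 179218) n961 n962) (.node (nat_lit 179584) n963 n964))) (.node (nat_lit 180560) (.node (nat_lit 180194) (.node (nat_lit 180011) n965 n966) (.node (nat_lit 180377) n967 n968)) (.node (nat_lit 180926) (.node (nat_lit 180743) n969 n970) (.node (nat_lit 181109) n971 n972)))) (.node (nat_lit 182878) (.node (nat_lit 182085) (.node (nat_lit 181719) (.node (nat_lit 181536) n973 n974) (.node (nat_lit 181902) n975 n976)) (.node (nat_lit 182451) (.node (nat_lit 182268) n977 n978) (.node (nat_lit 182634) n979 n980))) (.node (nat_lit 183671) (.node (nat_lit 183244) (.node (nat_lit 183061) n981 n982) (.node (nat_lit 183427) n983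 n984)) (.node (nat_lit 184037) (.node (nat_lit 183854) n985 n986) (.node (nat_lit 184220) n987 n988)))))
noncomputable def n990 : T := (.node (nat_lit 184525) l3024 (.node (nat_lit 184586) l3025 l3026))
noncomputable def n991 : T := (.node (nat_lit 184708) l3027 (.node (nat_lit 184769) l3028 l3029))
noncomputable def n992 : T := (.node (nat_lit 184891) l3030 (.node (nat_lit 184952) l3031 l3032))
noncomputable def n993 : T := (.node (nat_lit 185074) l3033 (.node (nat_lit 185135) l3034 l3035))
noncomputable def n994 : T := (.node (nat_lit 185257) l3036 (.node (nat_lit 185318) l3037 l3038))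
noncomputable def n995 : T := (.node (nat_lit 185440) l3039 (.node (nat_lit 185501) l3040 l3041))
noncomputable def n996 : T := (.node (nat_lit 185623) l3042 (.node (nat_lit 185684) l3043 l3044))
noncomputable def n997 : T := (.node (nat_lit 185867) (.node (nat_lit 185806) l3045 l3046) (.node (nat_lit 185928) l3047 l3048))
noncomputable def n998 : T := (.node (nat_lit 186050) l3049 (.node (nat_lit 186111) l3050 l3051))
noncomputable def n999 : T := (.node (nat_lit 186233) l3052 (.node (nat_lit 186294) l3053 l3054))
noncomputable def n1000 : T := (.node (nat_lit 186416) l3055 (.node (nat_lit 186477) l3056 l3057))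
noncomputable def n1001 : T := (.node (nat_lit 186599) l3058 (.node (nat_lit 186660) l3059 l3060))
noncomputable def n1002 : T := (.node (nat_lit 186782) l3061 (.node (nat_lit 186843) l3062 l3063))
noncomputable def n1003 : T := (.node (nat_lit 186965) l3064 (.node (nat_lit 187026) l3065 l3066))
noncomputable def n1004 : T := (.node (nat_lit 187148) l3067 (.node (nat_lit 187209) l3068 l3069))
noncomputable def n1005 : T := (.node (nat_lit 187392) (.node (nat_lit 187331) l3070 l3071) (.node (nat_lit 187453) l3072 l3073))
noncomputable def n1006 : T := (.node (nat_lit 187575) l3074 (.node (nat_lit 187636) l3075 l3076))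
noncomputable def n1007 : T := (.node (nat_lit 187758) l3077 (.node (nat_lit 187819) l3078 l3079))
noncomputable def n1008 : T := (.node (nat_lit 187941) l3080 (.node (nat_lit 188002) l3081 l3082))
noncomputable def n1009 : T := (.node (nat_lit 188124) l3083 (.node (nat_lit 188185) l3084 l3085))
noncomputable def n1010 : T := (.node (nat_lit 188307) l3086 (.node (nat_lit 188368) l3087 l3088))
noncomputable def n1011 : T := (.node (nat_lit 188490) l3089 (.node (nat_lit 188551) l3090 l3091))
noncomputable def n1012 : T := (.node (nat_lit 188673) l3092 (.node (nat_lit 188734) l3093 l3094))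
noncomputable def n1013 : T := (.node (nat_lit 188917) (.node (nat_lit 188856) l3095 l3096) (.node (nat_lit 188978) l3097 l3098))
noncomputable def n1014 : T := (.node (nat_lit 189100) l3099 (.node (nat_lit 189161) l3100 l3101))
noncomputable def n1015 : T := (.node (nat_lit 189283) l3102 (.node (nat_lit 189344) l3103 l3104))
noncomputable def n1016 : T := (.node (nat_lit 189466) l3105 (.node (nat_lit 189527) l3106 l3107))
noncomputable def n1017 : T := (.node (nat_lit 189710) (.node (nat_lit 189649) l3108 l3109) (.node (nat_lit 189771) l3110 l3111))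
noncomputable def n1018 : T := (.node (nat_lit 189893) l3112 (.node (nat_lit 189954) l3113 l3114))
noncomputable def n1019 : T := (.node (nat_lit 190076) l3115 (.node (nat_lit 190137) l3116 l3117))
noncomputable def n1020 : T := (.node (nat_lit 190259) l3118 (.node (nat_lit 190320) l3119 l3120))
noncomputable def n1021 : T := (.node (nat_lit 190503) (.node (nat_lit 190442) l3121 l3122) (.node (nat_lit 190564) l3123 l3124))
noncomputable def n1022 : T := (.node (nat_lit 187514) (.node (nat_lit 185989) (.node (nat_lit 185196) (.node (nat_lit 184830) (.node (nat_lit 184647) n990 n991) (.node (nat_lit 185013) n992 n993)) (.node (nat_lit 185562) (.node (nat_lit 185379) n994 n995) (.node (nat_lit 185745) n996 n997))) (.node (nat_lit 186721) (.node (nat_lit 186355) (.node (nat_lit 186172) n998 n999) (.node (nat_lit 186538) n1000 n1001)) (.node (nat_lit 187087) (.node (nat_lit 186904) n1002 n1003) (.node (nat_lit 187270) n1004 n1005)))) (.node (nat_lit 189039) (.node (nat_lit 188246) (.node (nat_lit 187880) (.node (nat_lit 187697) n1006 n1007) (.node (nat_lit 188063) n1008 n1009))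 (.node (nat_lit 188612) (.node (nat_lit 188429) n1010 n1011) (.node (nat_lit 188795) n1012 n1013))) (.node (nat_lit 189832) (.node (nat_lit 189405) (.node (nat_lit 189222) n1014 n1015) (.node (nat_lit 189588) n1016 n1017)) (.node (nat_lit 190198) (.node (nat_lit 190015) n1018 n1019) (.node (nat_lit 190381) n1020 n1021)))))
noncomputable def n1023 : T := (.node (nat_lit 190686) l3125 (.node (nat_lit 190747) l3126 l3127))
noncomputable def n1024 : T := (.node (nat_lit 190869) l3128 (.node (nat_lit 190930) l3129 l3130))
noncomputable def n1025 : T := (.node (nat_lit 191052) l3131 (.node (nat_lit 191113) l3132 l3133))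
noncomputable def n1026 : T := (.node (nat_lit 191235) l3134 (.node (nat_lit 191296) l3135 l3136))
noncomputable def n1027 : T := (.node (nat_lit 191418) l3137 (.node (nat_lit 191479) l3138 l3139))
noncomputable def n1028 : T := (.node (nat_lit 191601) l3140 (.node (nat_lit 191662) l3141 l3142))
noncomputable def n1029 : T := (.node (nat_lit 191784) l3143 (.node (nat_lit 191845) l3144 l3145))
noncomputable def n1030 : T := (.node (nat_lit 192028) (.node (nat_lit 191967) l3146 l3147) (.node (nat_lit 192089) l3148 l3149))
noncomputable def n1031 : T := (.node (nat_lit 192211) l3150 (.node (nat_lit 192272) l3151 l3152))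
noncomputable def n1032 : T := (.node (nat_lit 192394) l3153 (.node (nat_lit 192455) l3154 l3155))
noncomputable def n1033 : T := (.node (nat_lit 192577) l3156 (.node (nat_lit 192638) l3157 l3158))
noncomputable def n1034 : T := (.node (nat_lit 192760) l3159 (.node (nat_lit 192821) l3160 l3161))
noncomputable def n1035 : T := (.node (nat_lit 192943) l3162 (.node (nat_lit 193004) l3163 l3164))
noncomputable def n1036 : T := (.node (nat_lit 193126) l3165 (.node (nat_lit 193187) l3166 l3167))
noncomputable def n1037 : T := (.node (nat_lit 193309) l3168 (.node (nat_lit 193370) l3169 l3170))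
noncomputable def n1038 : T := (.node (nat_lit 193553) (.node (nat_lit 193492) l3171 l3172) (.node (nat_lit 193614) l3173 l3174))
noncomputable def n1039 : T := (.node (nat_lit 193736) l3175 (.node (nat_lit 193797) l3176 l3177))
noncomputable def n1040 : T := (.node (nat_lit 193919) l3178 (.node (nat_lit 193980) l3179 l3180))
noncomputable def n1041 : T := (.node (nat_lit 194102) l3181 (.node (nat_lit 194163) l3182 l3183))
noncomputable def n1042 : T := (.node (nat_lit 194285) l3184 (.node (nat_lit 194346) l3185 l3186))
noncomputable def n1043 : T := (.node (nat_lit 194468) l3187 (.node (nat_lit 194529) l3188 l3189))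
noncomputable def n1044 : T := (.node (nat_lit 194651) l3190 (.node (nat_lit 194712) l3191 l3192))
noncomputable def n1045 : T := (.node (nat_lit 194834) l3193 (.node (nat_lit 194895) l3194 l3195))
noncomputable def n1046 : T := (.node (nat_lit 195078) (.node (nat_lit 195017) l3196 l3197) (.node (nat_lit 195139) l3198 l3199))
noncomputable def n1047 : T := (.node (nat_lit 195261) l3200 (.node (nat_lit 195322) l3201 l3202))
noncomputable def n1048 : T := (.node (nat_lit 195444) l3203 (.node (nat_lit 195505) l3204 l3205))
noncomputable def n1049 : T := (.node (nat_lit 195627) l3206 (.node (nat_lit 195688) l3207 l3208))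
noncomputable def n1050 : T := (.node (nat_lit 195871) (.node (nat_lit 195810) l3209 l3210) (.node (nat_lit 195932) l3211 l3212))
noncomputable def n1051 : T := (.node (nat_lit 196054) l3213 (.node (nat_lit 196115) l3214 l3215))
noncomputable def n1052 : T := (.node (nat_lit 196237) l3216 (.node (nat_lit 196298) l3217 l3218))
noncomputable def n1053 : T := (.node (nat_lit 196420) l3219 (.node (nat_lit 196481) l3220 l3221))
noncomputable def n1054 : T := (.node (nat_lit 196664) (.node (nat_lit 196603) l3222 l3223) (.node (nat_lit 196725) l3224 l3225))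
noncomputable def n1055 : T := (.node (nat_lit 193675) (.node (nat_lit 192150) (.node (nat_lit 191357) (.node (nat_lit 190991) (.node (nat_lit 190808) n1023 n1024) (.node (nat_lit 191174) n1025 n1026)) (.node (nat_lit 191723) (.node (nat_lit 191540) n1027 n1028) (.node (nat_lit 191906) n1029 n1030))) (.node (nat_lit 192882) (.node (nat_lit 192516) (.node (nat_lit 192333) n1031 n1032) (.node (nat_lit 192699) n1033 n1034)) (.node (nat_lit 193248) (.node (nat_lit 193065) n1035 n1036) (.node (nat_lit 193431) n1037 n1038)))) (.node (nat_lit 195200) (.node (nat_lit 194407) (.node (nat_lit 194041) (.node (nat_lit 193858) n1039 n1040) (.node (nat_lit 194224) n1041 n1042)) (.node (nat_lit 194773) (.node (nat_lit 194590) n1043 n1044) (.node (nat_lit 194956) n1045 n1046))) (.node (nat_lit 195993) (.node (nat_lit 195566) (.node (nat_lit 195383) n1047 n1048) (.node (nat_lit 195749) n1049 n1050)) (.node (nat_lit 196359) (.node (nat_lit 196176) n1051 n1052) (.node (nat_lit 196542) n1053 n1054)))))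
noncomputable def tb : T := (.node (nat_lit 98393) (.node (nat_lit 49166) (.node (nat_lit 24583) (.node (nat_lit 12261) (.node (nat_lit 6100) n32 n65) (.node (nat_lit 18422) n98 n131)) (.node (nat_lit 36844) (.node (nat_lit 30683) n164 n197) (.node (nat_lit 43005) n230 n263))) (.node (nat_lit 73749) (.node (nat_lit 61427) (.node (nat_lit 55266) n296 n329) (.node (nat_lit 67588) n362 n395)) (.node (nat_lit 86071) (.node (nat_lit 79910) n428 n461) (.node (nat_lit 92232) n494 n527)))) (.node (nat_lit 147559) (.node (nat_lit 122976) (.node (nat_lit 110654) (.node (nat_lit 104493) n560 n593) (.node (nat_lit 116815) n626 n659)) (.node (nat_lit 135237) (.node (nat_lit 129076) n692 n725) (.node (nat_lit 141398) n758 n791))) (.node (nat_lit 172142) (.node (nat_lit 159820) (.node (nat_lit 153659) n824 n857) (.node (nat_lit 165981) n890 n923)) (.node (nat_lit 184464) (.node (nat_lit 178303) n956 n989) (.node (nat_lit 190625) n1022 n1055)))))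
noncomputable def r0 : WT := (.node (nat_lit 8) (.leaf (nat_lit 22528) [nat_lit 217, nat_lit 279, nat_lit 279]) (.node (nat_lit 9) (.leaf (nat_lit 23571) [nat_lit 124, nat_lit 155, nat_lit 124, nat_lit 155, nat_lit 124, nat_lit 155, nat_lit 124, nat_lit 155, nat_lit 217]) (.leaf (nat_lit 23552) [nat_lit 217, nat_lit 155, nat_lit 124, nat_lit 155, nat_lit 124, nat_lit 155, nat_lit 124, nat_lit 155, nat_lit 124])))
noncomputable def w0 : WT := (.node (nat_lit 1) (.leaf (nat_lit 0) [nat_lit 62]) (.node (nat_lit 4) (.node (nat_lit 2) (.leaf (nat_lit 8192) [nat_lit 124, nat_lit 62, nat_lit 124]) (.node (nat_lit 3) (.leaf (nat_lit 9216) [nat_lit 155, nat_lit 62, nat_lit 155]) (.leaf (nat_lit 10240) [nat_lit 186, nat_lit 62, nat_lit 186]))) (.node (nat_lit 6) (.node (nat_lit 5) (.leaf (nat_lit 7168) [nat_lit 93, nat_lit 62, nat_lit 93, nat_lit 62, nat_lit 93]) (.leaf (nat_lit 22535) [nat_lit 248, nat_lit 248, nat_lit 217])) (.node (nat_lit 7) (.leaf (nat_lit 11264) [nat_lit 217, nat_lit 62, nat_lit 217]) r0))))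
noncomputable def r1 : WT := (.leaf (nat_lit 26624) [nat_lit 124, nat_lit 155, nat_lit 248, nat_lit 93, nat_lit 124, nat_lit 155, nat_lit 248, nat_lit 93, nat_lit 124, nat_lit 155, nat_lit 248, nat_lit 93, nat_lit 124, nat_lit 155, nat_lit 248, nat_lit 93, nat_lit 124, nat_lit 155, nat_lit 248])
noncomputable def r2 : WT := (.node (nat_lit 5) (.leaf (nat_lit 15360) [nat_lit 217, nat_lit 93, nat_lit 217]) r1)
noncomputable def r3 : WT := (.node (nat_lit 7) (.leaf (nat_lit 27658) [nat_lit 248, nat_lit 93, nat_lit 124, nat_lit 248, nat_lit 124, nat_lit 248, nat_lit 93, nat_lit 124, nat_lit 248, nat_lit 124]) (.leaf (nat_lit 7170) [nat_lit 62, nat_lit 93, nat_lit 62, nat_lit 93, nat_lit 62]))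
noncomputable def r4 : WT := (.leaf (nat_lit 26631) [nat_lit 279, nat_lit 155, nat_lit 124, nat_lit 93, nat_lit 279, nat_lit 155, nat_lit 124, nat_lit 93, nat_lit 279, nat_lit 155, nat_lit 124, nat_lit 93, nat_lit 279, nat_lit 155, nat_lit 124, nat_lit 93, nat_lit 279, nat_lit 155, nat_lit 124])
noncomputable def r5 : WT := (.node (nat_lit 13) (.leaf (nat_lit 27667) [nat_lit 279, nat_lit 124, nat_lit 279, nat_lit 124, nat_lit 93, nat_lit 279, nat_lit 93, nat_lit 124, nat_lit 279, nat_lit 124]) r4)
noncomputable def r6 : WT := (.node (nat_lit 9) (.leaf (nat_lit 27662) [nat_lit 124, nat_lit 248, nat_lit 124, nat_lit 248, nat_lit 93, nat_lit 124, nat_lit 248, nat_lit 124, nat_lit 93, nat_lit 248]) (.node (nat_lit 10) (.leaf (nat_lit 27659) [nat_lit 124, nat_lit 279, nat_lit 124, nat_lit 93, nat_lit 279, nat_lit 124, nat_lit 279, nat_lit 124, nat_lit 93, nat_lit 279]) (.node (nat_lit 11) (.leaf (nat_lit 27655) [nat_lit 279, nat_lit 93, nat_lit 124, nat_lit 279, nat_lit 124, nat_lit 93, nat_lit 279, nat_lit 124, nat_lit 279, nat_lit 124]) (.node (nat_lit 12) (.leaf (nat_lit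 27650) [nat_lit 124, nat_lit 248, nat_lit 124, nat_lit 93, nat_lit 248, nat_lit 93, nat_lit 124, nat_lit 248, nat_lit 124, nat_lit 248]) r5))))
noncomputable def w1 : WT := (.node (nat_lit 1) (.leaf (nat_lit 1024) [nat_lit 93]) (.node (nat_lit 3) (.node (nat_lit 2) (.leaf (nat_lit 14336) [nat_lit 186, nat_lit 93, nat_lit 186]) (.leaf (nat_lit 13312) [nat_lit 155, nat_lit 93, nat_lit 155])) (.node (nat_lit 6) (.node (nat_lit 4) (.leaf (nat_lit 12288) [nat_lit 124, nat_lit 93, nat_lit 124, nat_lit 93, nat_lit 124]) r2) (.node (nat_lit 8) r3 r6))))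
noncomputable def r7 : WT := (.leaf (nat_lit 26626) [nat_lit 155, nat_lit 248, nat_lit 93, nat_lit 124, nat_lit 155, nat_lit 248, nat_lit 93, nat_lit 124, nat_lit 155, nat_lit 248, nat_lit 93, nat_lit 124, nat_lit 155, nat_lit 248, nat_lit 93, nat_lit 124, nat_lit 155, nat_lit 248, nat_lit 93])
noncomputable def r8 : WT := (.node (nat_lit 4) r7 (.leaf (nat_lit 8194) [nat_lit 62, nat_lit 124, nat_lit 62]))
noncomputable def r9 : WT := (.node (nat_lit 6) (.leaf (nat_lit 18432) [nat_lit 217, nat_lit 124, nat_lit 217]) (.leaf (nat_lit 27664) [nat_lit 248, nat_lit 124, nat_lit 248, nat_lit 93, nat_lit 124, nat_lit 248, nat_lit 124, nat_lit 93, nat_lit 248, nat_lit 93]))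
noncomputable def r10 : WT := (.leaf (nat_lit 16384) [nat_lit 155, nat_lit 124, nat_lit 155, nat_lit 124, nat_lit 155, nat_lit 124, nat_lit 155, nat_lit 124, nat_lit 155, nat_lit 124, nat_lit 155, nat_lit 124, nat_lit 155, nat_lit 124, nat_lit 155])
noncomputable def r11 : WT := (.node (nat_lit 9) (.node (nat_lit 8) (.leaf (nat_lit 25612) [nat_lit 248, nat_lit 124, nat_lit 248, nat_lit 155, nat_lit 279, nat_lit 124, nat_lit 279, nat_lit 124, nat_lit 155]) (.leaf (nat_lit 25616) [nat_lit 248, nat_lit 155, nat_lit 279, nat_lit 124, nat_lit 279, nat_lit 124, nat_lit 155, nat_lit 124, nat_lit 248])) (.node (nat_lit 10) r10 (.leaf (nat_lit 23566) [nat_lit 155, nat_lit 124, nat_lit 62, nat_lit 217, nat_lit 155, nat_lit 124, nat_lit 155, nat_lit 124, nat_lit 155])))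
noncomputable def r12 : WT := (.node (nat_lit 13) (.node (nat_lit 12) (.leaf (nat_lit 24586) [nat_lit 155, nat_lit 248, nat_lit 155, nat_lit 248, nat_lit 124, nat_lit 279, nat_lit 155, nat_lit 279, nat_lit 155]) (.leaf (nat_lit 23558) [nat_lit 155, nat_lit 124, nat_lit 155, nat_lit 124, nat_lit 155, nat_lit 124, nat_lit 62, nat_lit 217, nat_lit 155])) (.node (nat_lit 14) (.leaf (nat_lit 27656) [nat_lit 93, nat_lit 248, nat_lit 93, nat_lit 124, nat_lit 248, nat_lit 124, nat_lit 248, nat_lit 93, nat_lit 124, nat_lit 248]) (.node (nat_lit 15) (.leaf (nat_lit 23562) [nat_lit 155, nat_lit 124, nat_lit 155, nat_lit 124, nat_lit 62, nat_lit 217, nat_lit 155, nat_lit 124, nat_lit 155]) (.leaf (nat_lit 24576) [nat_lit 279, nat_lit 155, nat_lit 279, nat_lit 155, nat_lit 124, nat_lit 155, nat_lit 248, nat_lit 155, nat_lit 248]))))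
noncomputable def r13 : WT := (.node (nat_lit 24) (.leaf (nat_lit 27665) [nat_lit 93, nat_lit 279, nat_lit 124, nat_lit 279, nat_lit 124, nat_lit 93, nat_lit 279, nat_lit 93, nat_lit 124, nat_lit 279]) (.leaf (nat_lit 27661) [nat_lit 279, nat_lit 124, nat_lit 93, nat_lit 279, nat_lit 124, nat_lit 279, nat_lit 124, nat_lit 93, nat_lit 279, nat_lit 93]))
noncomputable def r14 : WT := (.node (nat_lit 26) (.leaf (nat_lit 23553) [nat_lit 155, nat_lit 124, nat_lit 155, nat_lit 124, nat_lit 155, nat_lit 124, nat_lit 155, nat_lit 217, nat_lit 62]) (.leaf (nat_lit 23565) [nat_lit 155, nat_lit 217, nat_lit 62, nat_lit 124, nat_lit 155, nat_lit 124, nat_lit 155, nat_lit 124, nat_lit 155]))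
noncomputable def r15 : WT := (.leaf (nat_lit 26629) [nat_lit 93, nat_lit 279, nat_lit 155, nat_lit 124, nat_lit 93, nat_lit 279, nat_lit 155, nat_lit 124, nat_lit 93, nat_lit 279, nat_lit 155, nat_lit 124, nat_lit 93, nat_lit 279, nat_lit 155, nat_lit 124, nat_lit 93, nat_lit 279, nat_lit 155])
noncomputable def r16 : WT := (.node (nat_lit 28) (.leaf (nat_lit 23561) [nat_lit 155, nat_lit 124, nat_lit 155, nat_lit 217, nat_lit 62, nat_lit 124, nat_lit 155, nat_lit 124, nat_lit 155]) (.node (nat_lit 29) (.leaf (nat_lit 23557) [nat_lit 155, nat_lit 124, nat_lit 155, nat_lit 124, nat_lit 155, nat_lit 217, nat_lit 62, nat_lit 124, nat_lit 155]) r15))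
noncomputable def r17 : WT := (.node (nat_lit 19) (.node (nat_lit 17) (.leaf (nat_lit 25608) [nat_lit 155, nat_lit 124, nat_lit 248, nat_lit 124, nat_lit 248, nat_lit 155, nat_lit 279, nat_lit 124, nat_lit 279]) (.node (nat_lit 18) (.leaf (nat_lit 25604) [nat_lit 279, nat_lit 124, nat_lit 155, nat_lit 124, nat_lit 248, nat_lit 124, nat_lit 248, nat_lit 155, nat_lit 279]) (.leaf (nat_lit 27668) [nat_lit 248, nat_lit 93, nat_lit 124, nat_lit 248, nat_lit 124, nat_lit 93, nat_lit 248, nat_lit 93, nat_lit 124, nat_lit 248]))) (.node (nat_lit 22) (.node (nat_lit 20) (.leaf (nat_lit 27652) [nat_lit 248, nat_lit 124, nat_lit 93, nat_lit 248, nat_lit 93, nat_lit 124, nat_lit 248, nat_lit 124, nat_lit 248, nat_lit 93]) (.node (nat_lit 21) (.leaf (nat_lit 27649) [nat_lit 279, nat_lit 124, nat_lit 93, nat_lit 279, nat_lit 93, nat_lit 124, nat_lit 279, nat_lit 124, nat_lit 93, nat_lit 279]) (.leaf (nat_lit 27653) [nat_lit 93, nat_lit 279, nat_lit 93, nat_lit 124, nat_lit 279, nat_lit 124, nat_lit 93, nat_lit 279, nat_lit 124, nat_lit 279]))) (.node (nat_lit 25) (.node (nat_lit 23)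 (.leaf (nat_lit 23570) [nat_lit 62, nat_lit 217, nat_lit 155, nat_lit 124, nat_lit 155, nat_lit 124, nat_lit 155, nat_lit 124, nat_lit 155]) r13) (.node (nat_lit 27) r14 r16))))
noncomputable def w2 : WT := (.node (nat_lit 1) (.leaf (nat_lit 2048) [nat_lit 124]) (.node (nat_lit 5) (.node (nat_lit 2) (.leaf (nat_lit 17408) [nat_lit 186, nat_lit 124, nat_lit 186]) (.node (nat_lit 3) (.leaf (nat_lit 12290) [nat_lit 93, nat_lit 124, nat_lit 93, nat_lit 124, nat_lit 93]) r8)) (.node (nat_lit 11) (.node (nat_lit 7) r9 r11) (.node (nat_lit 16) r12 r17))))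
noncomputable def r18 : WT := (.node (nat_lit 4) (.leaf (nat_lit 20480) [nat_lit 217, nat_lit 155, nat_lit 217]) (.leaf (nat_lit 9218) [nat_lit 62, nat_lit 155, nat_lit 62]))
noncomputable def r19 : WT := (.node (nat_lit 6) (.leaf (nat_lit 23556) [nat_lit 124, nat_lit 155, nat_lit 124, nat_lit 155, nat_lit 124, nat_lit 155, nat_lit 124, nat_lit 62, nat_lit 217]) (.node (nat_lit 7) (.leaf (nat_lit 25610) [nat_lit 124, nat_lit 248, nat_lit 124, nat_lit 248, nat_lit 155, nat_lit 279, nat_lit 124, nat_lit 279, nat_lit 124]) (.leaf (nat_lit 24592) [nat_lit 248, nat_lit 124, nat_lit 279, nat_lit 155, nat_lit 279, nat_lit 155, nat_lit 124, nat_lit 155, nat_lit 248])))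
noncomputable def r20 : WT := (.leaf (nat_lit 26628) [nat_lit 248, nat_lit 93, nat_lit 124, nat_lit 155, nat_lit 248, nat_lit 93, nat_lit 124, nat_lit 155, nat_lit 248, nat_lit 93, nat_lit 124, nat_lit 155, nat_lit 248, nat_lit 93, nat_lit 124, nat_lit 155, nat_lit 248, nat_lit 93, nat_lit 124])
noncomputable def r21 : WT := (.node (nat_lit 9) (.leaf (nat_lit 24584) [nat_lit 124, nat_lit 155, nat_lit 248, nat_lit 155, nat_lit 248, nat_lit 124, nat_lit 279, nat_lit 155, nat_lit 279]) (.node (nat_lit 10) r20 (.leaf (nat_lit 28680) [nat_lit 186, nat_lit 248, nat_lit 186, nat_lit 155, nat_lit 248, nat_lit 155, nat_lit 248, nat_lit 186, nat_lit 155, nat_lit 248])))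
noncomputable def r22 : WT := (.node (nat_lit 13) (.node (nat_lit 12) (.leaf (nat_lit 24588) [nat_lit 248, nat_lit 155, nat_lit 248, nat_lit 124, nat_lit 279, nat_lit 155, nat_lit 279, nat_lit 155, nat_lit 124]) (.leaf (nat_lit 23560) [nat_lit 124, nat_lit 155, nat_lit 124, nat_lit 155, nat_lit 124, nat_lit 62, nat_lit 217, nat_lit 155, nat_lit 124])) (.node (nat_lit 14) (.leaf (nat_lit 28688) [nat_lit 248, nat_lit 155, nat_lit 248, nat_lit 186, nat_lit 155, nat_lit 248, nat_lit 155, nat_lit 186, nat_lit 248, nat_lit 186]) (.leaf (nat_lit 24580) [nat_lit 279, nat_lit 155, nat_lit 124, nat_lit 155, nat_lit 248, nat_lit 155, nat_lit 248, nat_lit 124, nat_lit 279])))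
noncomputable def r23 : WT := (.leaf (nat_lit 16386) [nat_lit 124, nat_lit 155, nat_lit 124, nat_lit 155, nat_lit 124, nat_lit 155, nat_lit 124, nat_lit 155, nat_lit 124, nat_lit 155, nat_lit 124, nat_lit 155, nat_lit 124, nat_lit 155, nat_lit 124])
noncomputable def r24 : WT := (.node (nat_lit 22) (.leaf (nat_lit 28673) [nat_lit 279, nat_lit 155, nat_lit 186, nat_lit 279, nat_lit 186, nat_lit 155, nat_lit 279, nat_lit 155, nat_lit 186, nat_lit 279]) (.leaf (nat_lit 28685) [nat_lit 279, nat_lit 155, nat_lit 186, nat_lit 279, nat_lit 155, nat_lit 279, nat_lit 155, nat_lit 186, nat_lit 279, nat_lit 186]))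
noncomputable def r25 : WT := (.node (nat_lit 24) (.leaf (nat_lit 23563) [nat_lit 124, nat_lit 155, nat_lit 217, nat_lit 62, nat_lit 124, nat_lit 155, nat_lit 124, nat_lit 155, nat_lit 124]) (.leaf (nat_lit 23555) [nat_lit 124, nat_lit 155, nat_lit 124, nat_lit 155, nat_lit 124, nat_lit 155, nat_lit 217, nat_lit 62, nat_lit 124]))
noncomputable def r26 : WT := (.node (nat_lit 26) (.leaf (nat_lit 23567) [nat_lit 217, nat_lit 62, nat_lit 124, nat_lit 155, nat_lit 124, nat_lit 155, nat_lit 124, nat_lit 155, nat_lit 124]) (.leaf (nat_lit 28677) [nat_lit 186, nat_lit 279, nat_lit 186, nat_lit 155, nat_lit 279, nat_lit 155, nat_lit 186, nat_lit 279, nat_lit 155, nat_lit 279]))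
noncomputable def r27 : WT := (.leaf (nat_lit 26627) [nat_lit 124, nat_lit 93, nat_lit 279, nat_lit 155, nat_lit 124, nat_lit 93, nat_lit 279, nat_lit 155, nat_lit 124, nat_lit 93, nat_lit 279, nat_lit 155, nat_lit 124, nat_lit 93, nat_lit 279, nat_lit 155, nat_lit 124, nat_lit 93, nat_lit 279])
noncomputable def r28 : WT := (.node (nat_lit 28) r27 (.node (nat_lit 29) (.leaf (nat_lit 28689) [nat_lit 186, nat_lit 279, nat_lit 155, nat_lit 279, nat_lit 155, nat_lit 186, nat_lit 279, nat_lit 186, nat_lit 155, nat_lit 279]) (.leaf (nat_lit 23559) [nat_lit 124, nat_lit 155, nat_lit 124, nat_lit 155, nat_lit 217, nat_lit 62, nat_lit 124, nat_lit 155, nat_lit 124])))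
noncomputable def r29 : WT := (.node (nat_lit 18) (.node (nat_lit 16) (.leaf (nat_lit 23564) [nat_lit 124, nat_lit 155, nat_lit 124, nat_lit 62, nat_lit 217, nat_lit 155, nat_lit 124, nat_lit 155, nat_lit 124]) (.node (nat_lit 17) r23 (.leaf (nat_lit 23568) [nat_lit 124, nat_lit 62, nat_lit 217, nat_lit 155, nat_lit 124, nat_lit 155, nat_lit 124, nat_lit 155, nat_lit 124]))) (.node (nat_lit 21) (.node (nat_lit 19) (.leaf (nat_lit 25600) [nat_lit 279, nat_lit 124, nat_lit 279, nat_lit 124, nat_lit 155, nat_lit 124, nat_lit 248, nat_lit 124, nat_lit 248]) (.node (nat_lit 20) (.leaf (nat_lit 28676) [nat_lit 248, nat_lit 155, nat_lit 186, nat_lit 248, nat_lit 186, nat_lit 155, nat_lit 248, nat_lit 155, nat_lit 248, nat_lit 186]) (.leaf (nat_lit 28692) [nat_lit 248, nat_lit 186, nat_lit 155, nat_lit 248, nat_lit 155, nat_lit 186, nat_lit 248, nat_lit 186, nat_lit 155, nat_lit 248]))) (.node (nat_lit 25) (.node (nat_lit 23) r24 r25) (.node (nat_lit 27) r26 r28))))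
noncomputable def w3 : WT := (.node (nat_lit 1) (.leaf (nat_lit 3072) [nat_lit 155]) (.node (nat_lit 5) (.node (nat_lit 2) (.leaf (nat_lit 13314) [nat_lit 93, nat_lit 155, nat_lit 93]) (.node (nat_lit 3) (.leaf (nat_lit 19456) [nat_lit 186, nat_lit 155, nat_lit 186, nat_lit 155, nat_lit 186]) r18)) (.node (nat_lit 11) (.node (nat_lit 8) r19 r21) (.node (nat_lit 15) r22 r29))))
noncomputable def r30 : WT := (.node (nat_lit 7) (.leaf (nat_lit 28682) [nat_lit 248, nat_lit 186, nat_lit 155, nat_lit 248, nat_lit 155, nat_lit 248, nat_lit 186, nat_lit 155, nat_lit 248, nat_lit 155]) (.leaf (nat_lit 10242) [nat_lit 62, nat_lit 186, nat_lit 62]))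
noncomputable def r31 : WT := (.node (nat_lit 10) (.node (nat_lit 9) (.leaf (nat_lit 28683) [nat_lit 155, nat_lit 279, nat_lit 155, nat_lit 186, nat_lit 279, nat_lit 155, nat_lit 279, nat_lit 155, nat_lit 186, nat_lit 279]) (.leaf (nat_lit 28674) [nat_lit 155, nat_lit 248, nat_lit 155, nat_lit 186, nat_lit 248, nat_lit 186, nat_lit 155, nat_lit 248, nat_lit 155, nat_lit 248])) (.node (nat_lit 11) (.leaf (nat_lit 28679) [nat_lit 279, nat_lit 186, nat_lit 155, nat_lit 279, nat_lit 155, nat_lit 186, nat_lit 279, nat_lit 155, nat_lit 279, nat_lit 155]) (.leaf (nat_lit 28691) [nat_lit 279, nat_lit 155, nat_lit 279, nat_lit 155, nat_lit 186, nat_lit 279, nat_lit 186, nat_lit 155, nat_lit 279, nat_lit 155])))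
noncomputable def w4 : WT := (.node (nat_lit 1) (.leaf (nat_lit 4096) [nat_lit 186]) (.node (nat_lit 4) (.node (nat_lit 2) (.leaf (nat_lit 17410) [nat_lit 124, nat_lit 186, nat_lit 124]) (.node (nat_lit 3) (.leaf (nat_lit 19458) [nat_lit 155, nat_lit 186, nat_lit 155, nat_lit 186, nat_lit 155]) (.leaf (nat_lit 14338) [nat_lit 93, nat_lit 186, nat_lit 93]))) (.node (nat_lit 6) (.node (nat_lit 5) (.leaf (nat_lit 21504) [nat_lit 217, nat_lit 186, nat_lit 217, nat_lit 186, nat_lit 217]) (.leaf (nat_lit 28686) [nat_lit 155, nat_lit 248, nat_lit 155, nat_lit 248, nat_lit 186, nat_lit 155, nat_lit 248, nat_lit 155, nat_lit 186, nat_lit 248])) (.node (nat_lit 8) r30 r31))))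
noncomputable def r32 : WT := (.node (nat_lit 7) (.leaf (nat_lit 22533) [nat_lit 62, nat_lit 248, nat_lit 248]) (.node (nat_lit 8) (.leaf (nat_lit 22530) [nat_lit 279, nat_lit 279, nat_lit 62]) (.node (nat_lit 9) (.leaf (nat_lit 23554) [nat_lit 155, nat_lit 124, nat_lit 155, nat_lit 124, nat_lit 155, nat_lit 124, nat_lit 155, nat_lit 124, nat_lit 62]) (.leaf (nat_lit 23569) [nat_lit 62, nat_lit 124, nat_lit 155, nat_lit 124, nat_lit 155, nat_lit 124, nat_lit 155, nat_lit 124, nat_lit 155]))))
noncomputable def w5 : WT := (.node (nat_lit 1) (.leaf (nat_lit 5120) [nat_lit 217]) (.node (nat_lit 3) (.node (nat_lit 2) (.leaf (nat_lit 18434) [nat_lit 124, nat_lit 217, nat_lit 124]) (.leaf (nat_lit 20482) [nat_lit 155, nat_lit 217, nat_lit 155])) (.node (nat_lit 5) (.node (nat_lit 4) (.leaf (nat_lit 15362) [nat_lit 93, nat_lit 217, nat_lit 93]) (.leaf (nat_lit 21506) [nat_lit 186, nat_lit 217, nat_lit 186, nat_lit 217, nat_lit 186])) (.node (nat_lit 6) (.leaf (nat_lit 11266) [nat_lit 62, nat_lit 217, nat_lit 62]) r32))))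
noncomputable def r33 : WT := (.node (nat_lit 5) (.leaf (nat_lit 24590) [nat_lit 155, nat_lit 248, nat_lit 124, nat_lit 279, nat_lit 155, nat_lit 279, nat_lit 155, nat_lit 124, nat_lit 155]) (.leaf (nat_lit 24594) [nat_lit 124, nat_lit 279, nat_lit 155, nat_lit 279, nat_lit 155, nat_lit 124, nat_lit 155, nat_lit 248, nat_lit 155]))
noncomputable def r34 : WT := (.leaf (nat_lit 26630) [nat_lit 93, nat_lit 124, nat_lit 155, nat_lit 248, nat_lit 93, nat_lit 124, nat_lit 155, nat_lit 248, nat_lit 93, nat_lit 124, nat_lit 155, nat_lit 248, nat_lit 93, nat_lit 124, nat_lit 155, nat_lit 248, nat_lit 93, nat_lit 124, nat_lit 155])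
noncomputable def r35 : WT := (.node (nat_lit 7) (.leaf (nat_lit 25614) [nat_lit 124, nat_lit 248, nat_lit 155, nat_lit 279, nat_lit 124, nat_lit 279, nat_lit 124, nat_lit 155, nat_lit 124]) r34)
noncomputable def r36 : WT := (.node (nat_lit 9) (.leaf (nat_lit 27654) [nat_lit 124, nat_lit 93, nat_lit 248, nat_lit 93, nat_lit 124, nat_lit 248, nat_lit 124, nat_lit 248, nat_lit 93, nat_lit 124]) (.node (nat_lit 10) (.leaf (nat_lit 27660) [nat_lit 93, nat_lit 124, nat_lit 248, nat_lit 124, nat_lit 248, nat_lit 93, nat_lit 124, nat_lit 248, nat_lit 124, nat_lit 93]) (.leaf (nat_lit 28678) [nat_lit 155, nat_lit 186, nat_lit 248, nat_lit 186, nat_lit 155, nat_lit 248, nat_lit 155, nat_lit 248, nat_lit 186, nat_lit 155])))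
noncomputable def r37 : WT := (.node (nat_lit 13) (.node (nat_lit 12) (.leaf (nat_lit 25618) [nat_lit 155, nat_lit 279, nat_lit 124, nat_lit 279, nat_lit 124, nat_lit 155, nat_lit 124, nat_lit 248, nat_lit 124]) (.leaf (nat_lit 28672) [nat_lit 186, nat_lit 155, nat_lit 248, nat_lit 155, nat_lit 186, nat_lit 248, nat_lit 186, nat_lit 155, nat_lit 248, nat_lit 155])) (.node (nat_lit 14) (.leaf (nat_lit 27648) [nat_lit 93, nat_lit 124, nat_lit 248, nat_lit 124, nat_lit 93, nat_lit 248, nat_lit 93, nat_lit 124, nat_lit 248, nat_lit 124]) (.node (nat_lit 15) (.leaf (nat_lit 27666) [nat_lit 124, nat_lit 248, nat_lit 93, nat_lit 124, nat_lit 248, nat_lit 124, nat_lit 93, nat_lit 248, nat_lit 93, nat_lit 124]) (.leaf (nat_lit 28690) [nat_lit 155, nat_lit 248, nat_lit 186, nat_lit 155, nat_lit 248, nat_lit 155, nat_lit 186, nat_lit 248, nat_lit 186, nat_lit 155]))))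
noncomputable def w6 : WT := (.node (nat_lit 1) (.leaf (nat_lit 6144) [nat_lit 279]) (.node (nat_lit 4) (.node (nat_lit 2) (.leaf (nat_lit 22529) [nat_lit 248, nat_lit 217, nat_lit 62]) (.node (nat_lit 3) (.leaf (nat_lit 22531) [nat_lit 217, nat_lit 62, nat_lit 248]) (.leaf (nat_lit 28684) [nat_lit 186, nat_lit 155, nat_lit 248, nat_lit 155, nat_lit 248, nat_lit 186, nat_lit 155, nat_lit 248, nat_lit 155, nat_lit 186]))) (.node (nat_lit 8) (.node (nat_lit 6) r33 r35) (.node (nat_lit 11) r36 r37))))
noncomputable def r38 : WT := (.node (nat_lit 6) (.leaf (nat_lit 25602) [nat_lit 124, nat_lit 279, nat_lit 124, nat_lit 155, nat_lit 124, nat_lit 248, nat_lit 124, nat_lit 248, nat_lit 155]) (.leaf (nat_lit 27657) [nat_lit 93, nat_lit 124, nat_lit 279, nat_lit 124, nat_lit 93, nat_lit 279, nat_lit 124, nat_lit 279, nat_lit 124, nat_lit 93]))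
noncomputable def r39 : WT := (.node (nat_lit 8) (.leaf (nat_lit 24582) [nat_lit 155, nat_lit 124, nat_lit 155, nat_lit 248, nat_lit 155, nat_lit 248, nat_lit 124, nat_lit 279, nat_lit 155]) (.leaf (nat_lit 28681) [nat_lit 186, nat_lit 155, nat_lit 279, nat_lit 155, nat_lit 186, nat_lit 279, nat_lit 155, nat_lit 279, nat_lit 155, nat_lit 186]))
noncomputable def r40 : WT := (.leaf (nat_lit 26625) [nat_lit 155, nat_lit 124, nat_lit 93, nat_lit 279, nat_lit 155, nat_lit 124, nat_lit 93, nat_lit 279, nat_lit 155, nat_lit 124, nat_lit 93, nat_lit 279, nat_lit 155, nat_lit 124, nat_lit 93, nat_lit 279, nat_lit 155, nat_lit 124, nat_lit 93])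
noncomputable def r41 : WT := (.node (nat_lit 11) (.node (nat_lit 10) (.leaf (nat_lit 27651) [nat_lit 124, nat_lit 93, nat_lit 279, nat_lit 93, nat_lit 124, nat_lit 279, nat_lit 124, nat_lit 93, nat_lit 279, nat_lit 124]) (.leaf (nat_lit 28675) [nat_lit 155, nat_lit 186, nat_lit 279, nat_lit 186, nat_lit 155, nat_lit 279, nat_lit 155, nat_lit 186, nat_lit 279, nat_lit 155])) (.node (nat_lit 13) (.node (nat_lit 12) (.leaf (nat_lit 27663) [nat_lit 124, nat_lit 93, nat_lit 279, nat_lit 124, nat_lit 279, nat_lit 124, nat_lit 93, nat_lit 279, nat_lit 93, nat_lit 124]) (.leaf (nat_lit 28687) [nat_lit 155, nat_lit 186, nat_lit 279, nat_lit 155, nat_lit 279, nat_lit 155, nat_lit 186, nat_lit 279, nat_lit 186, nat_lit 155])) (.node (nat_lit 14) (.leaf (nat_lit 28693) [nat_lit 155, nat_lit 279, nat_lit 155, nat_lit 186, nat_lit 279, nat_lit 186, nat_lit 155, nat_lit 279, nat_lit 155, nat_lit 186]) (.node (nat_lit 15) (.leaf (nat_lit 27669) [nat_lit 124, nat_lit 279, nat_lit 124, nat_lit 93, nat_lit 279, nat_lit 93, nat_lit 124, nat_lit 279, nat_lit 124, nat_lit 93]) r40))))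
noncomputable def w7 : WT := (.node (nat_lit 1) (.leaf (nat_lit 6146) [nat_lit 248]) (.node (nat_lit 4) (.node (nat_lit 2) (.leaf (nat_lit 22534) [nat_lit 62, nat_lit 217, nat_lit 279]) (.node (nat_lit 3) (.leaf (nat_lit 22532) [nat_lit 279, nat_lit 62, nat_lit 217]) (.leaf (nat_lit 25606) [nat_lit 124, nat_lit 155, nat_lit 124, nat_lit 248, nat_lit 124, nat_lit 248, nat_lit 155, nat_lit 279, nat_lit 124]))) (.node (nat_lit 7) (.node (nat_lit 5) (.leaf (nat_lit 24578) [nat_lit 155, nat_lit 279, nat_lit 155, nat_lit 124, nat_lit 155, nat_lit 248, nat_lit 155, nat_lit 248, nat_lit 124]) r38) (.node (nat_lit 9) r39 r41))))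
noncomputable def r42 : WT := (.node (nat_lit 3) (.leaf (nat_lit 12290) [nat_lit 124, nat_lit 93, nat_lit 124, nat_lit 93, nat_lit 124, nat_lit 93]) (.leaf (nat_lit 22534) [nat_lit 279, nat_lit 62, nat_lit 217, nat_lit 279]))
noncomputable def r43 : WT := (.node (nat_lit 5) (.leaf (nat_lit 27659) [nat_lit 93, nat_lit 124, nat_lit 279, nat_lit 124, nat_lit 93, nat_lit 279, nat_lit 124, nat_lit 279, nat_lit 124, nat_lit 93, nat_lit 279]) (.leaf (nat_lit 13312) [nat_lit 93, nat_lit 155, nat_lit 93, nat_lit 155]))
noncomputable def r44 : WT := (.node (nat_lit 7) (.leaf (nat_lit 13314) [nat_lit 155, nat_lit 93, nat_lit 155, nat_lit 93]) (.leaf (nat_lit 24582) [nat_lit 279, nat_lit 155, nat_lit 124, nat_lit 155, nat_lit 248, nat_lit 155, nat_lit 248, nat_lit 124, nat_lit 279, nat_lit 155]))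
noncomputable def r45 : WT := (.node (nat_lit 9) (.leaf (nat_lit 12288) [nat_lit 93, nat_lit 124, nat_lit 93, nat_lit 124, nat_lit 93, nat_lit 124]) (.node (nat_lit 10) (.leaf (nat_lit 19458) [nat_lit 186, nat_lit 155, nat_lit 186, nat_lit 155, nat_lit 186, nat_lit 155]) (.leaf (nat_lit 24592) [nat_lit 155, nat_lit 248, nat_lit 124, nat_lit 279, nat_lit 155, nat_lit 279, nat_lit 155, nat_lit 124, nat_lit 155, nat_lit 248])))
noncomputable def r46 : WT := (.node (nat_lit 12) (.leaf (nat_lit 22528) [nat_lit 62, nat_lit 217, nat_lit 279, nat_lit 279]) (.node (nat_lit 13) (.leaf (nat_lit 22531) [nat_lit 248, nat_lit 217, nat_lit 62, nat_lit 248]) (.leaf (nat_lit 22529) [nat_lit 248, nat_lit 248, nat_lit 217, nat_lit 62])))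
noncomputable def r47 : WT := (.node (nat_lit 16) (.node (nat_lit 15) (.leaf (nat_lit 27648) [nat_lit 248, nat_lit 93, nat_lit 124, nat_lit 248, nat_lit 124, nat_lit 93, nat_lit 248, nat_lit 93, nat_lit 124, nat_lit 248, nat_lit 124]) (.leaf (nat_lit 27660) [nat_lit 248, nat_lit 93, nat_lit 124, nat_lit 248, nat_lit 124, nat_lit 248, nat_lit 93, nat_lit 124, nat_lit 248, nat_lit 124, nat_lit 93])) (.node (nat_lit 17) (.leaf (nat_lit 17410) [nat_lit 186, nat_lit 124, nat_lit 186, nat_lit 124]) (.node (nat_lit 18) (.leaf (nat_lit 17408) [nat_lit 124, nat_lit 186, nat_lit 124, nat_lit 186]) (.leaf (nat_lit 14336) [nat_lit 93, nat_lit 186, nat_lit 93, nat_lit 186]))))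
noncomputable def r48 : WT := (.node (nat_lit 21) (.node (nat_lit 20) (.leaf (nat_lit 22532) [nat_lit 279, nat_lit 279, nat_lit 62, nat_lit 217]) (.leaf (nat_lit 14338) [nat_lit 186, nat_lit 93, nat_lit 186, nat_lit 93])) (.node (nat_lit 22) (.leaf (nat_lit 22533) [nat_lit 217, nat_lit 62, nat_lit 248, nat_lit 248]) (.leaf (nat_lit 27654) [nat_lit 248, nat_lit 124, nat_lit 93, nat_lit 248, nat_lit 93, nat_lit 124, nat_lit 248, nat_lit 124, nat_lit 248, nat_lit 93, nat_lit 124])))
noncomputable def r49 : WT := (.node (nat_lit 26) (.node (nat_lit 24) (.leaf (nat_lit 24588) [nat_lit 155, nat_lit 248, nat_lit 155, nat_lit 248, nat_lit 124, nat_lit 279, nat_lit 155, nat_lit 279, nat_lit 155, nat_lit 124]) (.node (nat_lit 25) (.leaf (nat_lit 24586) [nat_lit 124, nat_lit 155, nat_lit 248, nat_lit 155, nat_lit 248, nat_lit 124, nat_lit 279, nat_lit 155, nat_lit 279, nat_lit 155]) (.leaf (nat_lit 27665) [nat_lit 124, nat_lit 93, nat_lit 279, nat_lit 124, nat_lit 279, nat_lit 124, nat_lit 93, nat_lit 279, nat_lit 93, nat_lit 124, nat_lit 279]))) (.node (nat_lit 27) (.leaf (nat_lit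 24580) [nat_lit 155, nat_lit 279, nat_lit 155, nat_lit 124, nat_lit 155, nat_lit 248, nat_lit 155, nat_lit 248, nat_lit 124, nat_lit 279]) (.node (nat_lit 28) (.leaf (nat_lit 15362) [nat_lit 217, nat_lit 93, nat_lit 217, nat_lit 93]) (.leaf (nat_lit 24578) [nat_lit 279, nat_lit 155, nat_lit 279, nat_lit 155, nat_lit 124, nat_lit 155, nat_lit 248, nat_lit 155, nat_lit 248, nat_lit 124]))))
noncomputable def r50 : WT := (.node (nat_lit 32) (.node (nat_lit 30) (.leaf (nat_lit 28683) [nat_lit 186, nat_lit 155, nat_lit 279, nat_lit 155, nat_lit 186, nat_lit 279, nat_lit 155, nat_lit 279, nat_lit 155, nat_lit 186, nat_lit 279]) (.node (nat_lit 31) (.leaf (nat_lit 20482) [nat_lit 217, nat_lit 155, nat_lit 217, nat_lit 155]) (.leaf (nat_lit 27666) [nat_lit 248, nat_lit 124, nat_lit 248, nat_lit 93, nat_lit 124, nat_lit 248, nat_lit 124, nat_lit 93, nat_lit 248, nat_lit 93, nat_lit 124]))) (.node (nat_lit 34) (.node (nat_lit 33) (.leaf (nat_lit 25618) [nat_lit 248, nat_lit 155, nat_lit 279, nat_lit 124, nat_lit 279, nat_lit 124, nat_lit 155, nat_lit 124, nat_lit 248, nat_lit 124])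 (.leaf (nat_lit 27653) [nat_lit 124, nat_lit 93, nat_lit 279, nat_lit 93, nat_lit 124, nat_lit 279, nat_lit 124, nat_lit 93, nat_lit 279, nat_lit 124, nat_lit 279])) (.node (nat_lit 35) (.leaf (nat_lit 19456) [nat_lit 155, nat_lit 186, nat_lit 155, nat_lit 186, nat_lit 155, nat_lit 186]) (.leaf (nat_lit 18434) [nat_lit 217, nat_lit 124, nat_lit 217, nat_lit 124]))))
noncomputable def r51 : WT := (.node (nat_lit 40) (.node (nat_lit 38) (.node (nat_lit 37) (.leaf (nat_lit 23567) [nat_lit 155, nat_lit 217, nat_lit 62, nat_lit 124, nat_lit 155, nat_lit 124, nat_lit 155, nat_lit 124, nat_lit 155, nat_lit 124]) (.leaf (nat_lit 25604) [nat_lit 124, nat_lit 279, nat_lit 124, nat_lit 155, nat_lit 124, nat_lit 248, nat_lit 124, nat_lit 248, nat_lit 155, nat_lit 279])) (.node (nat_lit 39) (.leaf (nat_lit 24594) [nat_lit 248, nat_lit 124, nat_lit 279, nat_lit 155, nat_lit 279, nat_lit 155, nat_lit 124, nat_lit 155, nat_lit 248, nat_lit 155]) (.leaf (nat_lit 28675) [nat_lit 279, nat_lit 155, nat_lit 186, nat_lit 279, nat_lit 186, nat_lit 155, nat_lit 279, nat_lit 155, nat_lit 186,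 nat_lit 279, nat_lit 155]))) (.node (nat_lit 42) (.node (nat_lit 41) (.leaf (nat_lit 24576) [nat_lit 124, nat_lit 279, nat_lit 155, nat_lit 279, nat_lit 155, nat_lit 124, nat_lit 155, nat_lit 248, nat_lit 155, nat_lit 248]) (.leaf (nat_lit 28691) [nat_lit 186, nat_lit 279, nat_lit 155, nat_lit 279, nat_lit 155, nat_lit 186, nat_lit 279, nat_lit 186, nat_lit 155, nat_lit 279, nat_lit 155])) (.node (nat_lit 43) (.leaf (nat_lit 20480) [nat_lit 155, nat_lit 217, nat_lit 155, nat_lit 217]) (.node (nat_lit 44) (.leaf (nat_lit 9216) [nat_lit 62, nat_lit 155, nat_lit 62, nat_lit 155]) (.leaf (nat_lit 23569) [nat_lit 217, nat_lit 62, nat_lit 124, nat_lit 155, nat_lit 124, nat_lit 155, nat_lit 124, nat_lit 155, nat_lit 124, nat_lit 155])))))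
noncomputable def r52 : WT := (.node (nat_lit 50) (.node (nat_lit 47) (.node (nat_lit 46) (.leaf (nat_lit 28679) [nat_lit 186, nat_lit 279, nat_lit 186, nat_lit 155, nat_lit 279, nat_lit 155, nat_lit 186, nat_lit 279, nat_lit 155, nat_lit 279, nat_lit 155]) (.leaf (nat_lit 28693) [nat_lit 279, nat_lit 155, nat_lit 279, nat_lit 155, nat_lit 186, nat_lit 279, nat_lit 186, nat_lit 155, nat_lit 279, nat_lit 155, nat_lit 186])) (.node (nat_lit 48) (.leaf (nat_lit 15360) [nat_lit 93, nat_lit 217, nat_lit 93, nat_lit 217]) (.node (nat_lit 49) (.leaf (nat_lit 27655) [nat_lit 93, nat_lit 279, nat_lit 93, nat_lit 124, nat_lit 279, nat_lit 124, nat_lit 93, nat_lit 279, nat_lit 124, nat_lit 279, nat_lit 124]) (.leaf (nat_lit 28672) [nat_lit 248, nat_lit 186, nat_lit 155, nat_lit 248, nat_lit 155, nat_lit 186, nat_lit 248, nat_lit 186, nat_lit 155, nat_lit 248, nat_lit 155])))) (.node (nat_lit 53) (.node (nat_lit 51) (.leaf (nat_lit 25606) [nat_lit 279, nat_lit 124, nat_lit 155, nat_lit 124, nat_lit 248, nat_lit 124, nat_lit 248, nat_lit 155, nat_lit 279, nat_lit 124]) (.node (nat_lit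 52) (.leaf (nat_lit 18432) [nat_lit 124, nat_lit 217, nat_lit 124, nat_lit 217]) (.leaf (nat_lit 27669) [nat_lit 279, nat_lit 124, nat_lit 279, nat_lit 124, nat_lit 93, nat_lit 279, nat_lit 93, nat_lit 124, nat_lit 279, nat_lit 124, nat_lit 93]))) (.node (nat_lit 54) (.leaf (nat_lit 25608) [nat_lit 124, nat_lit 155, nat_lit 124, nat_lit 248, nat_lit 124, nat_lit 248, nat_lit 155, nat_lit 279, nat_lit 124, nat_lit 279]) (.node (nat_lit 55) (.leaf (nat_lit 25614) [nat_lit 248, nat_lit 124, nat_lit 248, nat_lit 155, nat_lit 279, nat_lit 124, nat_lit 279, nat_lit 124, nat_lit 155, nat_lit 124]) (.leaf (nat_lit 8192) [nat_lit 62, nat_lit 124, nat_lit 62, nat_lit 124])))))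
noncomputable def r53 : WT := (.node (nat_lit 62) (.node (nat_lit 59) (.node (nat_lit 57) (.leaf (nat_lit 28680) [nat_lit 155, nat_lit 186, nat_lit 248, nat_lit 186, nat_lit 155, nat_lit 248, nat_lit 155, nat_lit 248, nat_lit 186, nat_lit 155, nat_lit 248]) (.node (nat_lit 58) (.leaf (nat_lit 25610) [nat_lit 155, nat_lit 124, nat_lit 248, nat_lit 124, nat_lit 248, nat_lit 155, nat_lit 279, nat_lit 124, nat_lit 279, nat_lit 124]) (.leaf (nat_lit 9218) [nat_lit 155, nat_lit 62, nat_lit 155, nat_lit 62]))) (.node (nat_lit 60) (.leaf (nat_lit 23560) [nat_lit 155, nat_lit 124, nat_lit 155, nat_lit 124, nat_lit 155, nat_lit 124, nat_lit 62, nat_lit 217, nat_lit 155, nat_lit 124]) (.node (nat_lit 61) (.leaf (nat_lit 10240) [nat_lit 62, nat_lit 186, nat_lit 62, nat_lit 186]) (.leaf (nat_lit 28688) [nat_lit 155, nat_lit 248, nat_lit 155, nat_lit 248, nat_lit 186, nat_lit 155, nat_lit 248, nat_lit 155, nat_lit 186, nat_lit 248, nat_lit 186])))) (.node (nat_lit 65) (.node (nat_lit 63) (.leaf (nat_lit 28684) [nat_lit 248, nat_lit 186, nat_lit 155, nat_lit 248, nat_lit 155, nat_lit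 248, nat_lit 186, nat_lit 155, nat_lit 248, nat_lit 155, nat_lit 186]) (.node (nat_lit 64) (.leaf (nat_lit 7168) [nat_lit 62, nat_lit 93, nat_lit 62, nat_lit 93, nat_lit 62, nat_lit 93]) (.leaf (nat_lit 23562) [nat_lit 124, nat_lit 155, nat_lit 124, nat_lit 155, nat_lit 124, nat_lit 62, nat_lit 217, nat_lit 155, nat_lit 124, nat_lit 155]))) (.node (nat_lit 67) (.node (nat_lit 66) (.leaf (nat_lit 27663) [nat_lit 279, nat_lit 124, nat_lit 93, nat_lit 279, nat_lit 124, nat_lit 279, nat_lit 124, nat_lit 93, nat_lit 279, nat_lit 93, nat_lit 124]) (.leaf (nat_lit 8194) [nat_lit 124, nat_lit 62, nat_lit 124, nat_lit 62])) (.node (nat_lit 68) (.leaf (nat_lit 25600) [nat_lit 155, nat_lit 279, nat_lit 124, nat_lit 279, nat_lit 124, nat_lit 155, nat_lit 124, nat_lit 248, nat_lit 124, nat_lit 248]) (.leaf (nat_lit 25602) [nat_lit 279, nat_lit 124, nat_lit 279, nat_lit 124, nat_lit 155, nat_lit 124, nat_lit 248, nat_lit 124, nat_lit 248, nat_lit 155])))))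
noncomputable def r54 : WT := (.node (nat_lit 81) (.leaf (nat_lit 27667) [nat_lit 93, nat_lit 279, nat_lit 124, nat_lit 279, nat_lit 124, nat_lit 93, nat_lit 279, nat_lit 93, nat_lit 124, nat_lit 279, nat_lit 124]) (.leaf (nat_lit 27656) [nat_lit 124, nat_lit 93, nat_lit 248, nat_lit 93, nat_lit 124, nat_lit 248, nat_lit 124, nat_lit 248, nat_lit 93, nat_lit 124, nat_lit 248]))
noncomputable def r55 : WT := (.node (nat_lit 86) (.leaf (nat_lit 28686) [nat_lit 186, nat_lit 155, nat_lit 248, nat_lit 155, nat_lit 248, nat_lit 186, nat_lit 155, nat_lit 248, nat_lit 155, nat_lit 186, nat_lit 248]) (.leaf (nat_lit 24590) [nat_lit 248, nat_lit 155, nat_lit 248, nat_lit 124, nat_lit 279, nat_lit 155, nat_lit 279, nat_lit 155, nat_lit 124, nat_lit 155]))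
noncomputable def r56 : WT := (.node (nat_lit 77) (.node (nat_lit 73) (.node (nat_lit 71) (.node (nat_lit 70) (.leaf (nat_lit 25616) [nat_lit 124, nat_lit 248, nat_lit 155, nat_lit 279, nat_lit 124, nat_lit 279, nat_lit 124, nat_lit 155, nat_lit 124, nat_lit 248]) (.leaf (nat_lit 25612) [nat_lit 124, nat_lit 248, nat_lit 124, nat_lit 248, nat_lit 155, nat_lit 279, nat_lit 124, nat_lit 279, nat_lit 124, nat_lit 155])) (.node (nat_lit 72) (.leaf (nat_lit 23559) [nat_lit 155, nat_lit 124, nat_lit 155, nat_lit 124, nat_lit 155, nat_lit 217, nat_lit 62, nat_lit 124, nat_lit 155, nat_lit 124]) (.leaf (nat_lit 23564) [nat_lit 155, nat_lit 124, nat_lit 155, nat_lit 124, nat_lit 62, nat_lit 217, nat_lit 155, nat_lit 124, nat_lit 155, nat_lit 124]))) (.node (nat_lit 75) (.node (nat_lit 74) (.leaf (nat_lit 28687) [nat_lit 279, nat_lit 155, nat_lit 186, nat_lit 279, nat_lit 155, nat_lit 279, nat_lit 155, nat_lit 186, nat_lit 279, nat_lit 186, nat_lit 155]) (.leaf (nat_lit 23563) [nat_lit 155, nat_lit 124, nat_lit 155, nat_lit 217, nat_lit 62, nat_lit 124, nat_lit 155, nat_lit 124,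 nat_lit 155, nat_lit 124])) (.node (nat_lit 76) (.leaf (nat_lit 24584) [nat_lit 155, nat_lit 124, nat_lit 155, nat_lit 248, nat_lit 155, nat_lit 248, nat_lit 124, nat_lit 279, nat_lit 155, nat_lit 279]) (.leaf (nat_lit 28681) [nat_lit 279, nat_lit 186, nat_lit 155, nat_lit 279, nat_lit 155, nat_lit 186, nat_lit 279, nat_lit 155, nat_lit 279, nat_lit 155, nat_lit 186])))) (.node (nat_lit 82) (.node (nat_lit 79) (.node (nat_lit 78) (.leaf (nat_lit 28692) [nat_lit 155, nat_lit 248, nat_lit 186, nat_lit 155, nat_lit 248, nat_lit 155, nat_lit 186, nat_lit 248, nat_lit 186, nat_lit 155, nat_lit 248]) (.leaf (nat_lit 28677) [nat_lit 155, nat_lit 186, nat_lit 279, nat_lit 186, nat_lit 155, nat_lit 279, nat_lit 155, nat_lit 186, nat_lit 279, nat_lit 155, nat_lit 279])) (.node (nat_lit 80) (.leaf (nat_lit 23565) [nat_lit 124, nat_lit 155, nat_lit 217, nat_lit 62, nat_lit 124, nat_lit 155, nat_lit 124, nat_lit 155, nat_lit 124, nat_lit 155]) r54)) (.node (nat_lit 84) (.node (nat_lit 83) (.leaf (nat_lit 10242) [nat_lit 186, nat_lit 62, nat_lit 186, nat_lit 62]) (.leaf (nat_lit 28674)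 [nat_lit 186, nat_lit 155, nat_lit 248, nat_lit 155, nat_lit 186, nat_lit 248, nat_lit 186, nat_lit 155, nat_lit 248, nat_lit 155, nat_lit 248])) (.node (nat_lit 85) (.leaf (nat_lit 23552) [nat_lit 62, nat_lit 217, nat_lit 155, nat_lit 124, nat_lit 155, nat_lit 124, nat_lit 155, nat_lit 124, nat_lit 155, nat_lit 124]) r55))))
noncomputable def r57 : WT := (.node (nat_lit 89) (.leaf (nat_lit 27661) [nat_lit 124, nat_lit 279, nat_lit 124, nat_lit 93, nat_lit 279, nat_lit 124, nat_lit 279, nat_lit 124, nat_lit 93, nat_lit 279, nat_lit 93]) (.leaf (nat_lit 28689) [nat_lit 155, nat_lit 186, nat_lit 279, nat_lit 155, nat_lit 279, nat_lit 155, nat_lit 186, nat_lit 279, nat_lit 186, nat_lit 155, nat_lit 279]))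
noncomputable def r58 : WT := (.node (nat_lit 92) (.leaf (nat_lit 27657) [nat_lit 279, nat_lit 93, nat_lit 124, nat_lit 279, nat_lit 124, nat_lit 93, nat_lit 279, nat_lit 124, nat_lit 279, nat_lit 124, nat_lit 93]) (.leaf (nat_lit 23568) [nat_lit 155, nat_lit 124, nat_lit 62, nat_lit 217, nat_lit 155, nat_lit 124, nat_lit 155, nat_lit 124, nat_lit 155, nat_lit 124]))
noncomputable def r59 : WT := (.node (nat_lit 95) (.leaf (nat_lit 27664) [nat_lit 124, nat_lit 248, nat_lit 124, nat_lit 248, nat_lit 93, nat_lit 124, nat_lit 248, nat_lit 124, nat_lit 93, nat_lit 248, nat_lit 93]) (.leaf (nat_lit 23561) [nat_lit 124, nat_lit 155, nat_lit 124, nat_lit 155, nat_lit 217, nat_lit 62, nat_lit 124, nat_lit 155, nat_lit 124, nat_lit 155]))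
noncomputable def r60 : WT := (.node (nat_lit 97) (.leaf (nat_lit 23566) [nat_lit 124, nat_lit 155, nat_lit 124, nat_lit 62, nat_lit 217, nat_lit 155, nat_lit 124, nat_lit 155, nat_lit 124, nat_lit 155]) (.leaf (nat_lit 28685) [nat_lit 155, nat_lit 279, nat_lit 155, nat_lit 186, nat_lit 279, nat_lit 155, nat_lit 279, nat_lit 155, nat_lit 186, nat_lit 279, nat_lit 186]))
noncomputable def r61 : WT := (.node (nat_lit 99) (.leaf (nat_lit 21506) [nat_lit 217, nat_lit 186, nat_lit 217, nat_lit 186, nat_lit 217, nat_lit 186]) (.leaf (nat_lit 28678) [nat_lit 248, nat_lit 155, nat_lit 186, nat_lit 248, nat_lit 186, nat_lit 155, nat_lit 248, nat_lit 155, nat_lit 248, nat_lit 186, nat_lit 155]))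
noncomputable def r62 : WT := (.node (nat_lit 101) (.leaf (nat_lit 27668) [nat_lit 124, nat_lit 248, nat_lit 93, nat_lit 124, nat_lit 248, nat_lit 124, nat_lit 93, nat_lit 248, nat_lit 93, nat_lit 124, nat_lit 248]) (.leaf (nat_lit 28676) [nat_lit 155, nat_lit 248, nat_lit 155, nat_lit 186, nat_lit 248, nat_lit 186, nat_lit 155, nat_lit 248, nat_lit 155, nat_lit 248, nat_lit 186]))
noncomputable def r63 : WT := (.node (nat_lit 103) (.leaf (nat_lit 23557) [nat_lit 124, nat_lit 155, nat_lit 124, nat_lit 155, nat_lit 124, nat_lit 155, nat_lit 217, nat_lit 62, nat_lit 124, nat_lit 155]) (.leaf (nat_lit 22535) [nat_lit 62, nat_lit 248, nat_lit 248, nat_lit 217]))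
noncomputable def r64 : WT := (.node (nat_lit 105) (.leaf (nat_lit 7170) [nat_lit 93, nat_lit 62, nat_lit 93, nat_lit 62, nat_lit 93, nat_lit 62]) (.leaf (nat_lit 27652) [nat_lit 124, nat_lit 248, nat_lit 124, nat_lit 93, nat_lit 248, nat_lit 93, nat_lit 124, nat_lit 248, nat_lit 124, nat_lit 248, nat_lit 93]))
noncomputable def r65 : WT := (.node (nat_lit 107) (.leaf (nat_lit 21504) [nat_lit 186, nat_lit 217, nat_lit 186, nat_lit 217, nat_lit 186, nat_lit 217]) (.leaf (nat_lit 23555) [nat_lit 155, nat_lit 124, nat_lit 155, nat_lit 124, nat_lit 155, nat_lit 124, nat_lit 155, nat_lit 217, nat_lit 62, nat_lit 124]))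
noncomputable def r66 : WT := (.node (nat_lit 109) (.leaf (nat_lit 23570) [nat_lit 124, nat_lit 62, nat_lit 217, nat_lit 155, nat_lit 124, nat_lit 155, nat_lit 124, nat_lit 155, nat_lit 124, nat_lit 155]) (.leaf (nat_lit 11264) [nat_lit 62, nat_lit 217, nat_lit 62, nat_lit 217]))
noncomputable def r67 : WT := (.node (nat_lit 111) (.leaf (nat_lit 27658) [nat_lit 93, nat_lit 248, nat_lit 93, nat_lit 124, nat_lit 248, nat_lit 124, nat_lit 248, nat_lit 93, nat_lit 124, nat_lit 248, nat_lit 124]) (.node (nat_lit 112) (.leaf (nat_lit 28690) [nat_lit 248, nat_lit 155, nat_lit 248, nat_lit 186, nat_lit 155, nat_lit 248, nat_lit 155, nat_lit 186, nat_lit 248, nat_lit 186, nat_lit 155]) (.leaf (nat_lit 27650) [nat_lit 93, nat_lit 124, nat_lit 248, nat_lit 124, nat_lit 93, nat_lit 248, nat_lit 93, nat_lit 124, nat_lit 248, nat_lit 124, nat_lit 248])))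
noncomputable def r68 : WT := (.node (nat_lit 115) (.node (nat_lit 114) (.leaf (nat_lit 23556) [nat_lit 155, nat_lit 124, nat_lit 155, nat_lit 124, nat_lit 155, nat_lit 124, nat_lit 155, nat_lit 124, nat_lit 62, nat_lit 217]) (.leaf (nat_lit 11266) [nat_lit 217, nat_lit 62, nat_lit 217, nat_lit 62])) (.node (nat_lit 116) (.leaf (nat_lit 22530) [nat_lit 217, nat_lit 279, nat_lit 279, nat_lit 62]) (.leaf (nat_lit 23553) [nat_lit 124, nat_lit 155, nat_lit 124, nat_lit 155, nat_lit 124, nat_lit 155, nat_lit 124, nat_lit 155, nat_lit 217, nat_lit 62])))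
noncomputable def r69 : WT := (.leaf (nat_lit 26627) [nat_lit 155, nat_lit 124, nat_lit 93, nat_lit 279, nat_lit 155, nat_lit 124, nat_lit 93, nat_lit 279, nat_lit 155, nat_lit 124, nat_lit 93, nat_lit 279, nat_lit 155, nat_lit 124, nat_lit 93, nat_lit 279, nat_lit 155, nat_lit 124, nat_lit 93, nat_lit 279])
noncomputable def r70 : WT := (.leaf (nat_lit 26624) [nat_lit 93, nat_lit 124, nat_lit 155, nat_lit 248, nat_lit 93, nat_lit 124, nat_lit 155, nat_lit 248, nat_lit 93, nat_lit 124, nat_lit 155, nat_lit 248, nat_lit 93, nat_lit 124, nat_lit 155, nat_lit 248, nat_lit 93, nat_lit 124, nat_lit 155, nat_lit 248])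
noncomputable def r71 : WT := (.leaf (nat_lit 26630) [nat_lit 248, nat_lit 93, nat_lit 124, nat_lit 155, nat_lit 248, nat_lit 93, nat_lit 124, nat_lit 155, nat_lit 248, nat_lit 93, nat_lit 124, nat_lit 155, nat_lit 248, nat_lit 93, nat_lit 124, nat_lit 155, nat_lit 248, nat_lit 93, nat_lit 124, nat_lit 155])
noncomputable def r72 : WT := (.leaf (nat_lit 26629) [nat_lit 124, nat_lit 93, nat_lit 279, nat_lit 155, nat_lit 124, nat_lit 93, nat_lit 279, nat_lit 155, nat_lit 124, nat_lit 93, nat_lit 279, nat_lit 155, nat_lit 124, nat_lit 93, nat_lit 279, nat_lit 155, nat_lit 124, nat_lit 93, nat_lit 279, nat_lit 155])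
noncomputable def r73 : WT := (.leaf (nat_lit 26625) [nat_lit 279, nat_lit 155, nat_lit 124, nat_lit 93, nat_lit 279, nat_lit 155, nat_lit 124, nat_lit 93, nat_lit 279, nat_lit 155, nat_lit 124, nat_lit 93, nat_lit 279, nat_lit 155, nat_lit 124, nat_lit 93, nat_lit 279, nat_lit 155, nat_lit 124, nat_lit 93])
noncomputable def r74 : WT := (.leaf (nat_lit 26626) [nat_lit 124, nat_lit 155, nat_lit 248, nat_lit 93, nat_lit 124, nat_lit 155, nat_lit 248, nat_lit 93, nat_lit 124, nat_lit 155, nat_lit 248, nat_lit 93, nat_lit 124, nat_lit 155, nat_lit 248, nat_lit 93, nat_lit 124, nat_lit 155, nat_lit 248, nat_lit 93])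
noncomputable def r75 : WT := (.leaf (nat_lit 26628) [nat_lit 155, nat_lit 248, nat_lit 93, nat_lit 124, nat_lit 155, nat_lit 248, nat_lit 93, nat_lit 124, nat_lit 155, nat_lit 248, nat_lit 93, nat_lit 124, nat_lit 155, nat_lit 248, nat_lit 93, nat_lit 124, nat_lit 155, nat_lit 248, nat_lit 93, nat_lit 124])
noncomputable def r76 : WT := (.leaf (nat_lit 16386) [nat_lit 155, nat_lit 124, nat_lit 155, nat_lit 124, nat_lit 155, nat_lit 124, nat_lit 155, nat_lit 124, nat_lit 155, nat_lit 124, nat_lit 155, nat_lit 124, nat_lit 155, nat_lit 124, nat_lit 155, nat_lit 124])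
noncomputable def r77 : WT := (.leaf (nat_lit 16384) [nat_lit 124, nat_lit 155, nat_lit 124, nat_lit 155, nat_lit 124, nat_lit 155, nat_lit 124, nat_lit 155, nat_lit 124, nat_lit 155, nat_lit 124, nat_lit 155, nat_lit 124, nat_lit 155, nat_lit 124, nat_lit 155])
noncomputable def r78 : WT := (.leaf (nat_lit 26631) [nat_lit 93, nat_lit 279, nat_lit 155, nat_lit 124, nat_lit 93, nat_lit 279, nat_lit 155, nat_lit 124, nat_lit 93, nat_lit 279, nat_lit 155, nat_lit 124, nat_lit 93, nat_lit 279, nat_lit 155, nat_lit 124, nat_lit 93, nat_lit 279, nat_lit 155, nat_lit 124])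
noncomputable def r79 : WT := (.node (nat_lit 129) (.leaf (nat_lit 23571) [nat_lit 62, nat_lit 124, nat_lit 155, nat_lit 124, nat_lit 155, nat_lit 124, nat_lit 155, nat_lit 124, nat_lit 155, nat_lit 217]) r78)
noncomputable def r80 : WT := (.node (nat_lit 121) (.node (nat_lit 118) (.leaf (nat_lit 23558) [nat_lit 124, nat_lit 155, nat_lit 124, nat_lit 155, nat_lit 124, nat_lit 155, nat_lit 124, nat_lit 62, nat_lit 217, nat_lit 155]) (.node (nat_lit 119) r69 (.node (nat_lit 120) r70 r71))) (.node (nat_lit 125) (.node (nat_lit 123) (.node (nat_lit 122) (.leaf (nat_lit 23554) [nat_lit 217, nat_lit 155, nat_lit 124, nat_lit 155, nat_lit 124, nat_lit 155, nat_lit 124, nat_lit 155, nat_lit 124, nat_lit 62]) r72) (.node (nat_lit 124) r73 r74)) (.node (nat_lit 127) (.node (nat_lit 126) r75 r76) (.node (nat_lit 128) r77 r79))))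
noncomputable def r81 : WT := (.node (nat_lit 100) (.node (nat_lit 93) (.node (nat_lit 90) (.node (nat_lit 88) (.leaf (nat_lit 27651) [nat_lit 279, nat_lit 124, nat_lit 93, nat_lit 279, nat_lit 93, nat_lit 124, nat_lit 279, nat_lit 124, nat_lit 93, nat_lit 279, nat_lit 124]) r57) (.node (nat_lit 91) (.leaf (nat_lit 28682) [nat_lit 186, nat_lit 248, nat_lit 186, nat_lit 155, nat_lit 248, nat_lit 155, nat_lit 248, nat_lit 186, nat_lit 155, nat_lit 248, nat_lit 155]) r58)) (.node (nat_lit 96) (.node (nat_lit 94) (.leaf (nat_lit 27662) [nat_lit 93, nat_lit 124, nat_lit 248, nat_lit 124, nat_lit 248, nat_lit 93, nat_lit 124, nat_lit 248, nat_lit 124, nat_lit 93, nat_lit 248]) r59) (.node (nat_lit 98) r60 r61))) (.node (nat_lit 108) (.node (nat_lit 104) (.node (nat_lit 102) r62 r63) (.node (nat_lit 106) r64 r65)) (.node (nat_lit 113) (.node (nat_lit 110) r66 r67) (.node (nat_lit 117) r68 r80))))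
noncomputable def wP : WT := (.node (nat_lit 19) (.node (nat_lit 6) (.node (nat_lit 2) (.node (nat_lit 1) (.leaf (nat_lit 27649) [nat_lit 124, nat_lit 279, nat_lit 124, nat_lit 93, nat_lit 279, nat_lit 93, nat_lit 124, nat_lit 279, nat_lit 124, nat_lit 93, nat_lit 279]) (.leaf (nat_lit 28673) [nat_lit 155, nat_lit 279, nat_lit 155, nat_lit 186, nat_lit 279, nat_lit 186, nat_lit 155, nat_lit 279, nat_lit 155, nat_lit 186, nat_lit 279])) (.node (nat_lit 4) r42 r43)) (.node (nat_lit 11) (.node (nat_lit 8) r44 r45) (.node (nat_lit 14) r46 r47))) (.node (nat_lit 45) (.node (nat_lit 29) (.node (nat_lit 23) r48 r49) (.node (nat_lit 36) r50 r51)) (.node (nat_lit 69) (.node (nat_lit 56) r52 r53) (.node (nat_lit 87) r56 r81))))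
noncomputable def P : Par := ⟨tb, nat_lit 310, nat_lit 0x3fffffffffffffffffffffffffffffffffffffffffffffffffffffffffffffffffffffffffffff, nat_lit 196777, nat_lit 2147483647, nat_lit 262143, nat_lit 31, nat_lit 18, nat_lit 122760,
  [nat_lit 62, nat_lit 93, nat_lit 124, nat_lit 155, nat_lit 186, nat_lit 217, nat_lit 248, nat_lit 279], [nat_lit 62, nat_lit 93, nat_lit 124, nat_lit 155, nat_lit 186, nat_lit 217], wP,
  (.cons (nat_lit 62) w0 (.cons (nat_lit 93) w1 (.cons (nat_lit 124) w2 (.cons (nat_lit 155) w3 (.cons (nat_lit 186) w4 (.cons (nat_lit 217) w5 (.cons (nat_lit 248) w6 (.cons (nat_lit 279) w7 .nil)))))))),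
  .nil⟩

end Cfsg.Agent.Lib.TCON1
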