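import Cfsg.Agent.Lib.TCON2D0

set_option autoImplicit false
set_option maxRecDepth 100000

namespace Cfsg.Agent.Lib.TCON2
open Cfsg.Agent.Lib.TCCore

noncomputable def n0 : T := (.node (nat_lit 200) l1 l2)
noncomputable def n1 : T := (.node (nat_lit 400) l3 l4)
noncomputable def n2 : T := (.node (nat_lit 600) l5 l6)
noncomputable def n3 : T := (.node (nat_lit 900) l8 l9)
noncomputable def n4 : T := (.node (nat_lit 1100) l10 l11)
noncomputable def n5 : T := (.node (nat_lit 1300) l12 l13)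
noncomputable def n6 : T := (.node (nat_lit 1600) l15 l16)
noncomputable def n7 : T := (.node (nat_lit 1800) l17 l18)
noncomputable def n8 : T := (.node (nat_lit 2000) l19 l20)
noncomputable def n9 : T := (.node (nat_lit 2300) l22 l23)
noncomputable def n10 : T := (.node (nat_lit 2500) l24 l25)
noncomputable def n11 : T := (.node (nat_lit 2700) l26 l27)
noncomputable def n12 : T := (.node (nat_lit 3000) l29 l30)
noncomputable def n13 : T := (.node (nat_lit 3200) l31 l32)
noncomputable def n14 : T := (.node (nat_lit 3400) l33 l34)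
noncomputable def n15 : T := (.node (nat_lit 3700) l36 l37)
noncomputable def n16 : T := (.node (nat_lit 3900) l38 l39)
noncomputable def n17 : T := (.node (nat_lit 4100) l40 l41)
noncomputable def n18 : T := (.node (nat_lit 4400) l43 l44)
noncomputable def n19 : T := (.node (nat_lit 4600) l45 l46)
noncomputable def n20 : T := (.node (nat_lit 4800) l47 l48)
noncomputable def n21 : T := (.node (nat_lit 5100) l50 l51)
noncomputable def n22 : T := (.node (nat_lit 5300) l52 l53)
noncomputable def n23 : T := (.node (nat_lit 5500) l54 l55)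
noncomputable def tb : T := (.node (nat_lit 2800) (.node (nat_lit 1400) (.node (nat_lit 700) (.node (nat_lit 300) (.node (nat_lit 100) l0 n0) (.node (nat_lit 500) n1 n2)) (.node (nat_lit 1000) (.node (nat_lit 800) l7 n3) (.node (nat_lit 1200) n4 n5))) (.node (nat_lit 2100) (.node (nat_lit 1700) (.node (nat_lit 1500) l14 n6) (.node (nat_lit 1900) n7 n8)) (.node (nat_lit 2400) (.node (nat_lit 2200) l21 n9) (.node (nat_lit 2600) n10 n11)))) (.node (nat_lit 4200) (.node (nat_lit 3500) (.node (nat_lit 3100) (.node (nat_lit 2900) l28 n12) (.node (nat_lit 3300) n13 n14)) (.node (nat_lit 3800) (.node (nat_lit 3600) l35 n15) (.node (nat_lit 4000) n16 n17))) (.node (nat_lit 4900) (.node (nat_lit 4500) (.node (nat_lit 4300) l42 n18) (.node (nat_lit 4700) n19 n20)) (.node (nat_lit 5200) (.node (nat_lit 5000) l49 n21) (.node (nat_lit 5400) n22 n23)))))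
noncomputable def r0 : WT := (.node (nat_lit 7) (.leaf (nat_lit 21523) [nat_lit 96, nat_lit 120, nat_lit 96, nat_lit 120, nat_lit 96, nat_lit 120, nat_lit 96, nat_lit 120, nat_lit 168]) (.leaf (nat_lit 21504) [nat_lit 168, nat_lit 120, nat_lit 96, nat_lit 120, nat_lit 96, nat_lit 120, nat_lit 96, nat_lit 120, nat_lit 96]))
noncomputable def w0 : WT := (.node (nat_lit 1) (.leaf (nat_lit 0) [nat_lit 48]) (.node (nat_lit 3) (.node (nat_lit 2) (.leaf (nat_lit 10240) [nat_lit 168, nat_lit 48, nat_lit 168]) (.leaf (nat_lit 7168) [nat_lit 96, nat_lit 48, nat_lit 96])) (.node (nat_lit 5) (.node (nat_lit 4) (.leaf (nat_lit 8192) [nat_lit 120, nat_lit 48, nat_lit 120]) (.leaf (nat_lit 6144) [nat_lit 72, nat_lit 48, nat_lit 72, nat_lit 48, nat_lit 72])) (.node (nat_lit 6) (.leaf (nat_lit 9216) [nat_lit 144, nat_lit 48, nat_lit 144]) r0))))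
noncomputable def w1 : WT := (.node (nat_lit 1) (.leaf (nat_lit 1024) [nat_lit 72]) (.node (nat_lit 3) (.node (nat_lit 2) (.leaf (nat_lit 14336) [nat_lit 168, nat_lit 72, nat_lit 168]) (.leaf (nat_lit 12288) [nat_lit 120, nat_lit 72, nat_lit 120])) (.node (nat_lit 4) (.leaf (nat_lit 11264) [nat_lit 96, nat_lit 72, nat_lit 96, nat_lit 72, nat_lit 96]) (.node (nat_lit 5) (.leaf (nat_lit 13312) [nat_lit 144, nat_lit 72, nat_lit 144]) (.leaf (nat_lit 6146) [nat_lit 48, nat_lit 72, nat_lit 48, nat_lit 72, nat_lit 48])))))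
noncomputable def r1 : WT := (.node (nat_lit 11) (.leaf (nat_lit 21509) [nat_lit 120, nat_lit 96, nat_lit 120, nat_lit 96, nat_lit 120, nat_lit 168, nat_lit 48, nat_lit 96, nat_lit 120]) (.leaf (nat_lit 21517) [nat_lit 120, nat_lit 168, nat_lit 48, nat_lit 96, nat_lit 120, nat_lit 96, nat_lit 120, nat_lit 96, nat_lit 120]))
noncomputable def r2 : WT := (.node (nat_lit 6) (.leaf (nat_lit 21510) [nat_lit 120, nat_lit 96, nat_lit 120, nat_lit 96, nat_lit 120, nat_lit 96, nat_lit 48, nat_lit 168, nat_lit 120]) (.node (nat_lit 7) (.leaf (nat_lit 21514) [nat_lit 120, nat_lit 96, nat_lit 120, nat_lit 96, nat_lit 48, nat_lit 168, nat_lit 120, nat_lit 96, nat_lit 120]) (.node (nat_lit 9) (.node (nat_lit 8) (.leaf (nat_lit 21522) [nat_lit 48, nat_lit 168, nat_lit 120, nat_lit 96, nat_lit 120, nat_lit 96, nat_lit 120, nat_lit 96, nat_lit 120]) (.leaf (nat_lit 21518) [nat_lit 120, nat_lit 96, nat_lit 48, nat_lit 168, nat_lit 120, nat_lit 96, nat_lit 120, nat_lit 96, nat_lit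 120])) (.node (nat_lit 10) (.leaf (nat_lit 21505) [nat_lit 120, nat_lit 96, nat_lit 120, nat_lit 96, nat_lit 120, nat_lit 96, nat_lit 120, nat_lit 168, nat_lit 48]) r1))))
noncomputable def w2 : WT := (.node (nat_lit 1) (.leaf (nat_lit 2048) [nat_lit 96]) (.node (nat_lit 3) (.node (nat_lit 2) (.leaf (nat_lit 17408) [nat_lit 168, nat_lit 96, nat_lit 168]) (.leaf (nat_lit 16384) [nat_lit 144, nat_lit 96, nat_lit 144])) (.node (nat_lit 4) (.leaf (nat_lit 7170) [nat_lit 48, nat_lit 96, nat_lit 48]) (.node (nat_lit 5) (.leaf (nat_lit 11266) [nat_lit 72, nat_lit 96, nat_lit 72, nat_lit 96, nat_lit 72]) r2))))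
noncomputable def r3 : WT := (.node (nat_lit 6) (.leaf (nat_lit 8194) [nat_lit 48, nat_lit 120, nat_lit 48]) (.node (nat_lit 8) (.node (nat_lit 7) (.leaf (nat_lit 21507) [nat_lit 96, nat_lit 120, nat_lit 96, nat_lit 120, nat_lit 96, nat_lit 120, nat_lit 168, nat_lit 48, nat_lit 96]) (.leaf (nat_lit 21516) [nat_lit 96, nat_lit 120, nat_lit 96, nat_lit 48, nat_lit 168, nat_lit 120, nat_lit 96, nat_lit 120, nat_lit 96])) (.node (nat_lit 9) (.leaf (nat_lit 21508) [nat_lit 96, nat_lit 120, nat_lit 96, nat_lit 120, nat_lit 96, nat_lit 120, nat_lit 96, nat_lit 48, nat_lit 168]) (.node (nat_lit 10) (.leaf (nat_lit 21520) [nat_lit 96, nat_lit 48, nat_lit 168, nat_lit 120, nat_lit 96, nat_lit 120, nat_lit 96, nat_lit 120, nat_lit 96]) (.leaf (nat_lit 21519) [nat_lit 168, nat_lit 48, nat_lit 96, nat_lit 120, nat_lit 96, nat_lit 120, nat_lit 96, nat_lit 120, nat_lit 96])))))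
noncomputable def w3 : WT := (.node (nat_lit 1) (.leaf (nat_lit 3072) [nat_lit 120]) (.node (nat_lit 3) (.node (nat_lit 2) (.leaf (nat_lit 19456) [nat_lit 168, nat_lit 120, nat_lit 168]) (.leaf (nat_lit 12290) [nat_lit 72, nat_lit 120, nat_lit 72])) (.node (nat_lit 4) (.leaf (nat_lit 21512) [nat_lit 96, nat_lit 120, nat_lit 96, nat_lit 120, nat_lit 96, nat_lit 48, nat_lit 168, nat_lit 120, nat_lit 96]) (.node (nat_lit 5) (.leaf (nat_lit 18432) [nat_lit 144, nat_lit 120, nat_lit 144, nat_lit 120, nat_lit 144]) r3))))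
noncomputable def w4 : WT := (.node (nat_lit 1) (.leaf (nat_lit 4096) [nat_lit 144]) (.node (nat_lit 3) (.node (nat_lit 2) (.leaf (nat_lit 16386) [nat_lit 96, nat_lit 144, nat_lit 96]) (.leaf (nat_lit 13314) [nat_lit 72, nat_lit 144, nat_lit 72])) (.node (nat_lit 4) (.leaf (nat_lit 18434) [nat_lit 120, nat_lit 144, nat_lit 120, nat_lit 144, nat_lit 120]) (.node (nat_lit 5) (.leaf (nat_lit 20480) [nat_lit 168, nat_lit 144, nat_lit 168, nat_lit 144, nat_lit 168]) (.leaf (nat_lit 9218) [nat_lit 48, nat_lit 144, nat_lit 48])))))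
noncomputable def r4 : WT := (.node (nat_lit 6) (.leaf (nat_lit 10242) [nat_lit 48, nat_lit 168, nat_lit 48]) (.node (nat_lit 7) (.leaf (nat_lit 21521) [nat_lit 48, nat_lit 96, nat_lit 120, nat_lit 96, nat_lit 120, nat_lit 96, nat_lit 120, nat_lit 96, nat_lit 120]) (.leaf (nat_lit 21506) [nat_lit 120, nat_lit 96, nat_lit 120, nat_lit 96, nat_lit 120, nat_lit 96, nat_lit 120, nat_lit 96, nat_lit 48])))
noncomputable def w5 : WT := (.node (nat_lit 1) (.leaf (nat_lit 5120) [nat_lit 168]) (.node (nat_lit 3) (.node (nat_lit 2) (.leaf (nat_lit 17410) [nat_lit 96, nat_lit 168, nat_lit 96]) (.leaf (nat_lit 19458) [nat_lit 120, nat_lit 168, nat_lit 120])) (.node (nat_lit 4) (.leaf (nat_lit 14338) [nat_lit 72, nat_lit 168, nat_lit 72]) (.node (nat_lit 5) (.leaf (nat_lit 20482) [nat_lit 144, nat_lit 168, nat_lit 144, nat_lit 168, nat_lit 144]) r4))))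
noncomputable def wP : WT := (.node (nat_lit 1) (.leaf (nat_lit 6144) [nat_lit 48, nat_lit 72, nat_lit 48, nat_lit 72, nat_lit 48, nat_lit 72]) (.node (nat_lit 2) (.leaf (nat_lit 6146) [nat_lit 72, nat_lit 48, nat_lit 72, nat_lit 48, nat_lit 72, nat_lit 48]) (.leaf (nat_lit 20482) [nat_lit 168, nat_lit 144, nat_lit 168, nat_lit 144, nat_lit 168, nat_lit 144])))
noncomputable def P : Par := ⟨tb, nat_lit 192, nat_lit 0xffffffffffffffffffffffffffffffffffffffffffffffff, nat_lit 5589, nat_lit 16777215, nat_lit 8191, nat_lit 24, nat_lit 13, nat_lit 5586,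
  [nat_lit 48, nat_lit 72, nat_lit 96, nat_lit 120, nat_lit 144, nat_lit 168], [nat_lit 48, nat_lit 72, nat_lit 96, nat_lit 120, nat_lit 168], wP,
  (.cons (nat_lit 48) w0 (.cons (nat_lit 72) w1 (.cons (nat_lit 96) w2 (.cons (nat_lit 120) w3 (.cons (nat_lit 144) w4 (.cons (nat_lit 168) w5 .nil)))))),
  .nil⟩

end Cfsg.Agent.Lib.TCON2
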