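import Cfsg.Agent.Lib.TCDefs

set_option autoImplicit false
set_option maxRecDepth 100000

namespace Cfsg.Agent.Lib.TCON3
open Cfsg.Agent.Lib.TCCore

noncomputable def l0 : T := .leaf (nat_lit 0) (nat_lit 0x1bb2392bb1f627bfff0481dc1fa29c19725cfff0241b921b1da174219fff0241da25c1f915323afff0242951d2277235176fff0181761b42981bb255fff04819715321521c198fff03c2b8111236218277fff03c1531d718f19a1d1fff048174176130179192fff0301511f810c1f11b3fff0301721350eb2121f4fff03010f1cd1531d014cfff04813014e1b41af0ebfff01818d16f16e16e10afff0181ae1f010d16d0a9fff0180eb1891321a6170fff04810c10a1110c710ffff02414912b14a0e812efff02416a1ac0e90850cdfff0241450c710210a148fff03c1a60e80a60eb187fff0301870850c71cc166fff03c1280a60640a9145fff0300420830850c4124fff0480210a4063063063fff048064021128062062fff03c043042021021021fff000)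

end Cfsg.Agent.Lib.TCON3
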