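import Cfsg.Agent.Lib.TCOP1D0

set_option autoImplicit false
set_option maxRecDepth 100000

namespace Cfsg.Agent.Lib.TCOP1
open Cfsg.Agent.Lib.TCCore

noncomputable def n0 : T := (.node (nat_lit 208) l1 l2)
noncomputable def n1 : T := (.node (nat_lit 520) l4 l5)
noncomputable def n2 : T := (.node (nat_lit 832) l7 l8)
noncomputable def n3 : T := (.node (nat_lit 1144) l10 l11)
noncomputable def n4 : T := (.node (nat_lit 1456) l13 l14)
noncomputable def n5 : T := (.node (nat_lit 1768) l16 l17)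
noncomputable def n6 : T := (.node (nat_lit 2080) l19 l20)
noncomputable def n7 : T := (.node (nat_lit 2288) l21 l22)
noncomputable def n8 : T := (.node (nat_lit 2496) l23 l24)
noncomputable def n9 : T := (.node (nat_lit 2808) l26 l27)
noncomputable def n10 : T := (.node (nat_lit 3120) l29 l30)
noncomputable def n11 : T := (.node (nat_lit 3432) l32 l33)
noncomputable def n12 : T := (.node (nat_lit 3744) l35 l36)
noncomputable def n13 : T := (.node (nat_lit 4056) l38 l39)
noncomputable def n14 : T := (.node (nat_lit 4368) l41 l42)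
noncomputable def n15 : T := (.node (nat_lit 4680) l44 l45)
noncomputable def n16 : T := (.node (nat_lit 4888) l46 l47)
noncomputable def n17 : T := (.node (nat_lit 5096) l48 l49)
noncomputable def tb : T := (.node (nat_lit 2600) (.node (nat_lit 1248) (.node (nat_lit 624) (.node (nat_lit 312) (.node (nat_lit 104) l0 n0) (.node (nat_lit 416) l3 n1)) (.node (nat_lit 936) (.node (nat_lit 728) l6 n2) (.node (nat_lit 1040) l9 n3))) (.node (nat_lit 1872) (.node (nat_lit 1560) (.node (nat_lit 1352) l12 n4) (.node (nat_lit 1664) l15 n5)) (.node (nat_lit 2184) (.node (nat_lit 1976) l18 n6) (.node (nat_lit 2392) n7 n8)))) (.node (nat_lit 3848) (.node (nat_lit 3224) (.node (nat_lit 2912) (.node (nat_lit 2704) l25 n9) (.node (nat_lit 3016) l28 n10)) (.node (nat_lit 3536) (.node (nat_lit 3328) l31 n11) (.node (nat_lit 3640) l34 n12))) (.node (nat_lit 4472) (.node (nat_lit 4160) (.node (nat_lit 3952) l37 n13) (.node (nat_lit 4264) l40 n14)) (.node (nat_lit 4784) (.node (nat_lit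 4576) l43 n15) (.node (nat_lit 4992) n16 n17)))))
noncomputable def r0 : WT := (.leaf (nat_lit 8196) [nat_lit 161, nat_lit 46, nat_lit 161, nat_lit 46, nat_lit 161, nat_lit 46, nat_lit 92, nat_lit 69, nat_lit 138, nat_lit 69, nat_lit 138, nat_lit 69, nat_lit 138, nat_lit 69, nat_lit 138, nat_lit 69, nat_lit 115, nat_lit 46, nat_lit 161])
noncomputable def r1 : WT := (.leaf (nat_lit 9224) [nat_lit 138, nat_lit 69, nat_lit 138, nat_lit 46, nat_lit 92, nat_lit 69, nat_lit 161, nat_lit 46, nat_lit 161, nat_lit 69, nat_lit 138, nat_lit 46, nat_lit 138, nat_lit 69, nat_lit 92, nat_lit 46, nat_lit 161, nat_lit 69, nat_lit 161])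
noncomputable def r2 : WT := (.leaf (nat_lit 11280) [nat_lit 138, nat_lit 69, nat_lit 92, nat_lit 161, nat_lit 46, nat_lit 138, nat_lit 69, nat_lit 161, nat_lit 115, nat_lit 46, nat_lit 92, nat_lit 69, nat_lit 92, nat_lit 138, nat_lit 46, nat_lit 161, nat_lit 69, nat_lit 138, nat_lit 115])
noncomputable def r3 : WT := (.leaf (nat_lit 9240) [nat_lit 161, nat_lit 69, nat_lit 138, nat_lit 46, nat_lit 138, nat_lit 69, nat_lit 92, nat_lit 46, nat_lit 161, nat_lit 69, nat_lit 161, nat_lit 46, nat_lit 138, nat_lit 69, nat_lit 138, nat_lit 46, nat_lit 92, nat_lit 69, nat_lit 161])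
noncomputable def r4 : WT := (.leaf (nat_lit 8200) [nat_lit 161, nat_lit 46, nat_lit 161, nat_lit 46, nat_lit 92, nat_lit 69, nat_lit 138, nat_lit 69, nat_lit 138, nat_lit 69, nat_lit 138, nat_lit 69, nat_lit 138, nat_lit 69, nat_lit 115, nat_lit 46, nat_lit 161, nat_lit 46, nat_lit 161])
noncomputable def r5 : WT := (.leaf (nat_lit 12314) [nat_lit 138, nat_lit 69, nat_lit 161, nat_lit 115, nat_lit 46, nat_lit 161, nat_lit 69, nat_lit 92, nat_lit 138, nat_lit 46, nat_lit 161, nat_lit 69, nat_lit 138, nat_lit 115, nat_lit 46, nat_lit 92, nat_lit 69, nat_lit 92, nat_lit 161])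
noncomputable def r6 : WT := (.node (nat_lit 7) (.node (nat_lit 6) r0 (.leaf (nat_lit 3072) [nat_lit 46, nat_lit 46, nat_lit 46, nat_lit 46, nat_lit 46, nat_lit 46])) (.node (nat_lit 9) (.node (nat_lit 8) r1 r2) (.node (nat_lit 10) r3 (.node (nat_lit 11) r4 r5))))
noncomputable def r7 : WT := (.leaf (nat_lit 12327) [nat_lit 138, nat_lit 69, nat_lit 92, nat_lit 138, nat_lit 46, nat_lit 161, nat_lit 69, nat_lit 138, nat_lit 115, nat_lit 46, nat_lit 115, nat_lit 69, nat_lit 92, nat_lit 161, nat_lit 46, nat_lit 138, nat_lit 69, nat_lit 161, nat_lit 115])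
noncomputable def r8 : WT := (.leaf (nat_lit 11300) [nat_lit 92, nat_lit 69, nat_lit 92, nat_lit 138, nat_lit 46, nat_lit 161, nat_lit 69, nat_lit 138, nat_lit 115, nat_lit 46, nat_lit 138, nat_lit 69, nat_lit 92, nat_lit 161, nat_lit 46, nat_lit 138, nat_lit 69, nat_lit 161, nat_lit 115])
noncomputable def r9 : WT := (.leaf (nat_lit 9232) [nat_lit 92, nat_lit 69, nat_lit 161, nat_lit 46, nat_lit 161, nat_lit 69, nat_lit 138, nat_lit 46, nat_lit 138, nat_lit 69, nat_lit 92, nat_lit 46, nat_lit 161, nat_lit 69, nat_lit 161, nat_lit 46, nat_lit 138, nat_lit 69, nat_lit 138])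
noncomputable def r10 : WT := (.leaf (nat_lit 9248) [nat_lit 138, nat_lit 69, nat_lit 92, nat_lit 46, nat_lit 161, nat_lit 69, nat_lit 161, nat_lit 46, nat_lit 138, nat_lit 69, nat_lit 138, nat_lit 46, nat_lit 92, nat_lit 69, nat_lit 161, nat_lit 46, nat_lit 161, nat_lit 69, nat_lit 138])
noncomputable def r11 : WT := (.leaf (nat_lit 9219) [nat_lit 161, nat_lit 69, nat_lit 161, nat_lit 46, nat_lit 138, nat_lit 69, nat_lit 138, nat_lit 46, nat_lit 115, nat_lit 69, nat_lit 161, nat_lit 46, nat_lit 161, nat_lit 69, nat_lit 138, nat_lit 46, nat_lit 138, nat_lit 69, nat_lit 115])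
noncomputable def r12 : WT := (.node (nat_lit 16) r10 r11)
noncomputable def r13 : WT := (.leaf (nat_lit 9243) [nat_lit 161, nat_lit 69, nat_lit 138, nat_lit 46, nat_lit 138, nat_lit 69, nat_lit 115, nat_lit 46, nat_lit 161, nat_lit 69, nat_lit 161, nat_lit 46, nat_lit 138, nat_lit 69, nat_lit 138, nat_lit 46, nat_lit 115, nat_lit 69, nat_lit 161])
noncomputable def r14 : WT := (.leaf (nat_lit 9251) [nat_lit 138, nat_lit 69, nat_lit 115, nat_lit 46, nat_lit 161, nat_lit 69, nat_lit 161, nat_lit 46, nat_lit 138, nat_lit 69, nat_lit 138, nat_lit 46, nat_lit 115, nat_lit 69, nat_lit 161, nat_lit 46, nat_lit 161, nat_lit 69, nat_lit 138])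
noncomputable def r15 : WT := (.leaf (nat_lit 10240) [nat_lit 138, nat_lit 46, nat_lit 138, nat_lit 46, nat_lit 138, nat_lit 46, nat_lit 138, nat_lit 46, nat_lit 92, nat_lit 69, nat_lit 161, nat_lit 69, nat_lit 161, nat_lit 69, nat_lit 161, nat_lit 69, nat_lit 161, nat_lit 69, nat_lit 115])
noncomputable def r16 : WT := (.node (nat_lit 19) r14 r15)
noncomputable def r17 : WT := (.leaf (nat_lit 11273) [nat_lit 161, nat_lit 69, nat_lit 138, nat_lit 115, nat_lit 46, nat_lit 161, nat_lit 69, nat_lit 92, nat_lit 161, nat_lit 46, nat_lit 138, nat_lit 69, nat_lit 161, nat_lit 115, nat_lit 46, nat_lit 115, nat_lit 69, nat_lit 92, nat_lit 138])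
noncomputable def r18 : WT := (.leaf (nat_lit 11290) [nat_lit 138, nat_lit 69, nat_lit 161, nat_lit 115, nat_lit 46, nat_lit 92, nat_lit 69, nat_lit 92, nat_lit 138, nat_lit 46, nat_lit 161, nat_lit 69, nat_lit 138, nat_lit 115, nat_lit 46, nat_lit 138, nat_lit 69, nat_lit 92, nat_lit 161])
noncomputable def r19 : WT := (.leaf (nat_lit 8199) [nat_lit 161, nat_lit 46, nat_lit 161, nat_lit 46, nat_lit 161, nat_lit 46, nat_lit 115, nat_lit 69, nat_lit 138, nat_lit 69, nat_lit 138, nat_lit 69, nat_lit 138, nat_lit 69, nat_lit 138, nat_lit 69, nat_lit 92, nat_lit 46, nat_lit 161])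
noncomputable def r20 : WT := (.node (nat_lit 22) r18 r19)
noncomputable def r21 : WT := (.leaf (nat_lit 11270) [nat_lit 161, nat_lit 69, nat_lit 138, nat_lit 115, nat_lit 46, nat_lit 138, nat_lit 69, nat_lit 92, nat_lit 161, nat_lit 46, nat_lit 138, nat_lit 69, nat_lit 161, nat_lit 115, nat_lit 46, nat_lit 92, nat_lit 69, nat_lit 92, nat_lit 138])
noncomputable def r22 : WT := (.leaf (nat_lit 12297) [nat_lit 161, nat_lit 69, nat_lit 138, nat_lit 115, nat_lit 46, nat_lit 115, nat_lit 69, nat_lit 92, nat_lit 161, nat_lit 46, nat_lit 138, nat_lit 69, nat_lit 161, nat_lit 115, nat_lit 46, nat_lit 138, nat_lit 69, nat_lit 92, nat_lit 138])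
noncomputable def r23 : WT := (.leaf (nat_lit 12294) [nat_lit 161, nat_lit 69, nat_lit 138, nat_lit 115, nat_lit 46, nat_lit 92, nat_lit 69, nat_lit 92, nat_lit 161, nat_lit 46, nat_lit 138, nat_lit 69, nat_lit 161, nat_lit 115, nat_lit 46, nat_lit 161, nat_lit 69, nat_lit 92, nat_lit 138])
noncomputable def r24 : WT := (.node (nat_lit 25) r22 r23)
noncomputable def r25 : WT := (.leaf (nat_lit 11293) [nat_lit 138, nat_lit 69, nat_lit 161, nat_lit 115, nat_lit 46, nat_lit 115, nat_lit 69, nat_lit 92, nat_lit 138, nat_lit 46, nat_lit 161, nat_lit 69, nat_lit 138, nat_lit 115, nat_lit 46, nat_lit 161, nat_lit 69, nat_lit 92, nat_lit 161])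
noncomputable def r26 : WT := (.leaf (nat_lit 11283) [nat_lit 161, nat_lit 69, nat_lit 92, nat_lit 161, nat_lit 46, nat_lit 138, nat_lit 69, nat_lit 161, nat_lit 115, nat_lit 46, nat_lit 115, nat_lit 69, nat_lit 92, nat_lit 138, nat_lit 46, nat_lit 161, nat_lit 69, nat_lit 138, nat_lit 115])
noncomputable def r27 : WT := (.node (nat_lit 27) r25 r26)
noncomputable def r28 : WT := (.leaf (nat_lit 8204) [nat_lit 161, nat_lit 46, nat_lit 92, nat_lit 69, nat_lit 138, nat_lit 69, nat_lit 138, nat_lit 69, nat_lit 138, nat_lit 69, nat_lit 138, nat_lit 69, nat_lit 115, nat_lit 46, nat_lit 161, nat_lit 46, nat_lit 161, nat_lit 46, nat_lit 161])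
noncomputable def r29 : WT := (.leaf (nat_lit 10251) [nat_lit 138, nat_lit 46, nat_lit 138, nat_lit 46, nat_lit 115, nat_lit 69, nat_lit 161, nat_lit 69, nat_lit 161, nat_lit 69, nat_lit 161, nat_lit 69, nat_lit 161, nat_lit 69, nat_lit 92, nat_lit 46, nat_lit 138, nat_lit 46, nat_lit 138])
noncomputable def r30 : WT := (.node (nat_lit 29) r28 r29)
noncomputable def r31 : WT := (.leaf (nat_lit 9235) [nat_lit 115, nat_lit 69, nat_lit 161, nat_lit 46, nat_lit 161, nat_lit 69, nat_lit 138, nat_lit 46, nat_lit 138, nat_lit 69, nat_lit 115, nat_lit 46, nat_lit 161, nat_lit 69, nat_lit 161, nat_lit 46, nat_lit 138, nat_lit 69, nat_lit 138])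
noncomputable def r32 : WT := (.leaf (nat_lit 12324) [nat_lit 161, nat_lit 69, nat_lit 92, nat_lit 138, nat_lit 46, nat_lit 161, nat_lit 69, nat_lit 138, nat_lit 115, nat_lit 46, nat_lit 92, nat_lit 69, nat_lit 92, nat_lit 161, nat_lit 46, nat_lit 138, nat_lit 69, nat_lit 161, nat_lit 115])
noncomputable def r33 : WT := (.node (nat_lit 31) r31 r32)
noncomputable def r34 : WT := (.leaf (nat_lit 10248) [nat_lit 138, nat_lit 46, nat_lit 138, nat_lit 46, nat_lit 92, nat_lit 69, nat_lit 161, nat_lit 69, nat_lit 161, nat_lit 69, nat_lit 161, nat_lit 69, nat_lit 161, nat_lit 69, nat_lit 115, nat_lit 46, nat_lit 138, nat_lit 46, nat_lit 138])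
noncomputable def r35 : WT := (.leaf (nat_lit 12317) [nat_lit 138, nat_lit 69, nat_lit 161, nat_lit 115, nat_lit 46, nat_lit 138, nat_lit 69, nat_lit 92, nat_lit 138, nat_lit 46, nat_lit 161, nat_lit 69, nat_lit 138, nat_lit 115, nat_lit 46, nat_lit 115, nat_lit 69, nat_lit 92, nat_lit 161])
noncomputable def r36 : WT := (.leaf (nat_lit 9227) [nat_lit 138, nat_lit 69, nat_lit 138, nat_lit 46, nat_lit 115, nat_lit 69, nat_lit 161, nat_lit 46, nat_lit 161, nat_lit 69, nat_lit 138, nat_lit 46, nat_lit 138, nat_lit 69, nat_lit 115, nat_lit 46, nat_lit 161, nat_lit 69, nat_lit 161])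
noncomputable def r37 : WT := (.node (nat_lit 33) r34 (.node (nat_lit 34) r35 r36))
noncomputable def r38 : WT := (.leaf (nat_lit 11303) [nat_lit 115, nat_lit 69, nat_lit 92, nat_lit 138, nat_lit 46, nat_lit 161, nat_lit 69, nat_lit 138, nat_lit 115, nat_lit 46, nat_lit 161, nat_lit 69, nat_lit 92, nat_lit 161, nat_lit 46, nat_lit 138, nat_lit 69, nat_lit 161, nat_lit 115])
noncomputable def r39 : WT := (.leaf (nat_lit 8211) [nat_lit 115, nat_lit 69, nat_lit 138, nat_lit 69, nat_lit 138, nat_lit 69, nat_lit 138, nat_lit 69, nat_lit 138, nat_lit 69, nat_lit 92, nat_lit 46, nat_lit 161, nat_lit 46, nat_lit 161, nat_lit 46, nat_lit 161, nat_lit 46, nat_lit 161])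
noncomputable def r40 : WT := (.leaf (nat_lit 8192) [nat_lit 161, nat_lit 46, nat_lit 161, nat_lit 46, nat_lit 161, nat_lit 46, nat_lit 161, nat_lit 46, nat_lit 92, nat_lit 69, nat_lit 138, nat_lit 69, nat_lit 138, nat_lit 69, nat_lit 138, nat_lit 69, nat_lit 138, nat_lit 69, nat_lit 115])
noncomputable def r41 : WT := (.node (nat_lit 36) r38 (.node (nat_lit 37) r39 r40))
noncomputable def r42 : WT := (.leaf (nat_lit 8208) [nat_lit 92, nat_lit 69, nat_lit 138, nat_lit 69, nat_lit 138, nat_lit 69, nat_lit 138, nat_lit 69, nat_lit 138, nat_lit 69, nat_lit 115, nat_lit 46, nat_lit 161, nat_lit 46, nat_lit 161, nat_lit 46, nat_lit 161, nat_lit 46, nat_lit 161])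
noncomputable def r43 : WT := (.leaf (nat_lit 10247) [nat_lit 138, nat_lit 46, nat_lit 138, nat_lit 46, nat_lit 138, nat_lit 46, nat_lit 115, nat_lit 69, nat_lit 161, nat_lit 69, nat_lit 161, nat_lit 69, nat_lit 161, nat_lit 69, nat_lit 161, nat_lit 69, nat_lit 92, nat_lit 46, nat_lit 138])
noncomputable def r44 : WT := (.leaf (nat_lit 10243) [nat_lit 138, nat_lit 46, nat_lit 138, nat_lit 46, nat_lit 138, nat_lit 46, nat_lit 138, nat_lit 46, nat_lit 115, nat_lit 69, nat_lit 161, nat_lit 69, nat_lit 161, nat_lit 69, nat_lit 161, nat_lit 69, nat_lit 161, nat_lit 69, nat_lit 92])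
noncomputable def r45 : WT := (.leaf (nat_lit 10244) [nat_lit 138, nat_lit 46, nat_lit 138, nat_lit 46, nat_lit 138, nat_lit 46, nat_lit 92, nat_lit 69, nat_lit 161, nat_lit 69, nat_lit 161, nat_lit 69, nat_lit 161, nat_lit 69, nat_lit 161, nat_lit 69, nat_lit 115, nat_lit 46, nat_lit 138])
noncomputable def r46 : WT := (.leaf (nat_lit 8207) [nat_lit 161, nat_lit 46, nat_lit 115, nat_lit 69, nat_lit 138, nat_lit 69, nat_lit 138, nat_lit 69, nat_lit 138, nat_lit 69, nat_lit 138, nat_lit 69, nat_lit 92, nat_lit 46, nat_lit 161, nat_lit 46, nat_lit 161, nat_lit 46, nat_lit 161])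
noncomputable def r47 : WT := (.node (nat_lit 40) (.node (nat_lit 39) r42 r43) (.node (nat_lit 41) r44 (.node (nat_lit 42) r45 r46)))
noncomputable def r48 : WT := (.node (nat_lit 23) (.node (nat_lit 17) (.node (nat_lit 14) (.node (nat_lit 13) r7 r8) (.node (nat_lit 15) r9 r12)) (.node (nat_lit 20) (.node (nat_lit 18) r13 r16) (.node (nat_lit 21) r17 r20))) (.node (nat_lit 30) (.node (nat_lit 26) (.node (nat_lit 24) r21 r24) (.node (nat_lit 28) r27 r30)) (.node (nat_lit 35) (.node (nat_lit 32) r33 r37) (.node (nat_lit 38) r41 r47))))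
noncomputable def w0 : WT := (.node (nat_lit 1) (.leaf (nat_lit 0) [nat_lit 69]) (.node (nat_lit 3) (.node (nat_lit 2) (.leaf (nat_lit 6147) [nat_lit 92, nat_lit 69, nat_lit 115, nat_lit 46]) (.leaf (nat_lit 6146) [nat_lit 115, nat_lit 69, nat_lit 69, nat_lit 92])) (.node (nat_lit 5) (.node (nat_lit 4) (.leaf (nat_lit 6145) [nat_lit 46, nat_lit 92, nat_lit 69, nat_lit 115]) (.leaf (nat_lit 13312) [nat_lit 138, nat_lit 46, nat_lit 138, nat_lit 46, nat_lit 138, nat_lit 46, nat_lit 138, nat_lit 46, nat_lit 138])) (.node (nat_lit 12) r6 r48))))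
noncomputable def r49 : WT := (.leaf (nat_lit 8216) [nat_lit 138, nat_lit 69, nat_lit 138, nat_lit 69, nat_lit 138, nat_lit 69, nat_lit 115, nat_lit 46, nat_lit 161, nat_lit 46, nat_lit 161, nat_lit 46, nat_lit 161, nat_lit 46, nat_lit 161, nat_lit 46, nat_lit 92, nat_lit 69, nat_lit 138])
noncomputable def r50 : WT := (.leaf (nat_lit 8220) [nat_lit 138, nat_lit 69, nat_lit 138, nat_lit 69, nat_lit 115, nat_lit 46, nat_lit 161, nat_lit 46, nat_lit 161, nat_lit 46, nat_lit 161, nat_lit 46, nat_lit 161, nat_lit 46, nat_lit 92, nat_lit 69, nat_lit 138, nat_lit 69, nat_lit 138])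
noncomputable def r51 : WT := (.leaf (nat_lit 9228) [nat_lit 138, nat_lit 46, nat_lit 92, nat_lit 69, nat_lit 161, nat_lit 46, nat_lit 161, nat_lit 69, nat_lit 138, nat_lit 46, nat_lit 138, nat_lit 69, nat_lit 92, nat_lit 46, nat_lit 161, nat_lit 69, nat_lit 161, nat_lit 46, nat_lit 138])
noncomputable def r52 : WT := (.leaf (nat_lit 9220) [nat_lit 161, nat_lit 46, nat_lit 138, nat_lit 69, nat_lit 138, nat_lit 46, nat_lit 92, nat_lit 69, nat_lit 161, nat_lit 46, nat_lit 161, nat_lit 69, nat_lit 138, nat_lit 46, nat_lit 138, nat_lit 69, nat_lit 92, nat_lit 46, nat_lit 161])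
noncomputable def r53 : WT := (.node (nat_lit 9) r51 r52)
noncomputable def r54 : WT := (.leaf (nat_lit 9252) [nat_lit 92, nat_lit 46, nat_lit 161, nat_lit 69, nat_lit 161, nat_lit 46, nat_lit 138, nat_lit 69, nat_lit 138, nat_lit 46, nat_lit 92, nat_lit 69, nat_lit 161, nat_lit 46, nat_lit 161, nat_lit 69, nat_lit 138, nat_lit 46, nat_lit 138])
noncomputable def r55 : WT := (.leaf (nat_lit 12298) [nat_lit 138, nat_lit 115, nat_lit 46, nat_lit 92, nat_lit 69, nat_lit 92, nat_lit 161, nat_lit 46, nat_lit 138, nat_lit 69, nat_lit 161, nat_lit 115, nat_lit 46, nat_lit 161, nat_lit 69, nat_lit 92, nat_lit 138, nat_lit 46, nat_lit 161])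
noncomputable def r56 : WT := (.node (nat_lit 11) r54 r55)
noncomputable def r57 : WT := (.leaf (nat_lit 9244) [nat_lit 138, nat_lit 46, nat_lit 138, nat_lit 69, nat_lit 92, nat_lit 46, nat_lit 161, nat_lit 69, nat_lit 161, nat_lit 46, nat_lit 138, nat_lit 69, nat_lit 138, nat_lit 46, nat_lit 92, nat_lit 69, nat_lit 161, nat_lit 46, nat_lit 161])
noncomputable def r58 : WT := (.leaf (nat_lit 11294) [nat_lit 161, nat_lit 115, nat_lit 46, nat_lit 92, nat_lit 69, nat_lit 92, nat_lit 138, nat_lit 46, nat_lit 161, nat_lit 69, nat_lit 138, nat_lit 115, nat_lit 46, nat_lit 138, nat_lit 69, nat_lit 92, nat_lit 161, nat_lit 46, nat_lit 138])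
noncomputable def r59 : WT := (.node (nat_lit 13) r57 r58)
noncomputable def r60 : WT := (.leaf (nat_lit 8224) [nat_lit 138, nat_lit 69, nat_lit 115, nat_lit 46, nat_lit 161, nat_lit 46, nat_lit 161, nat_lit 46, nat_lit 161, nat_lit 46, nat_lit 161, nat_lit 46, nat_lit 92, nat_lit 69, nat_lit 138, nat_lit 69, nat_lit 138, nat_lit 69, nat_lit 138])
noncomputable def r61 : WT := (.leaf (nat_lit 9231) [nat_lit 138, nat_lit 46, nat_lit 115, nat_lit 69, nat_lit 161, nat_lit 46, nat_lit 161, nat_lit 69, nat_lit 138, nat_lit 46, nat_lit 138, nat_lit 69, nat_lit 115, nat_lit 46, nat_lit 161, nat_lit 69, nat_lit 161, nat_lit 46, nat_lit 138])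
noncomputable def r62 : WT := (.leaf (nat_lit 11284) [nat_lit 92, nat_lit 161, nat_lit 46, nat_lit 138, nat_lit 69, nat_lit 161, nat_lit 115, nat_lit 46, nat_lit 92, nat_lit 69, nat_lit 92, nat_lit 138, nat_lit 46, nat_lit 161, nat_lit 69, nat_lit 138, nat_lit 115, nat_lit 46, nat_lit 138])
noncomputable def r63 : WT := (.node (nat_lit 15) r60 (.node (nat_lit 16) r61 r62))
noncomputable def r64 : WT := (.leaf (nat_lit 12301) [nat_lit 138, nat_lit 115, nat_lit 46, nat_lit 115, nat_lit 69, nat_lit 92, nat_lit 161, nat_lit 46, nat_lit 138, nat_lit 69, nat_lit 161, nat_lit 115, nat_lit 46, nat_lit 138, nat_lit 69, nat_lit 92, nat_lit 138, nat_lit 46, nat_lit 161])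
noncomputable def r65 : WT := (.leaf (nat_lit 8219) [nat_lit 138, nat_lit 69, nat_lit 138, nat_lit 69, nat_lit 138, nat_lit 69, nat_lit 92, nat_lit 46, nat_lit 161, nat_lit 46, nat_lit 161, nat_lit 46, nat_lit 161, nat_lit 46, nat_lit 161, nat_lit 46, nat_lit 115, nat_lit 69, nat_lit 138])
noncomputable def r66 : WT := (.leaf (nat_lit 9247) [nat_lit 138, nat_lit 46, nat_lit 138, nat_lit 69, nat_lit 115, nat_lit 46, nat_lit 161, nat_lit 69, nat_lit 161, nat_lit 46, nat_lit 138, nat_lit 69, nat_lit 138, nat_lit 46, nat_lit 115, nat_lit 69, nat_lit 161, nat_lit 46, nat_lit 161])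
noncomputable def r67 : WT := (.leaf (nat_lit 11277) [nat_lit 138, nat_lit 115, nat_lit 46, nat_lit 161, nat_lit 69, nat_lit 92, nat_lit 161, nat_lit 46, nat_lit 138, nat_lit 69, nat_lit 161, nat_lit 115, nat_lit 46, nat_lit 115, nat_lit 69, nat_lit 92, nat_lit 138, nat_lit 46, nat_lit 161])
noncomputable def r68 : WT := (.node (nat_lit 19) (.node (nat_lit 18) r64 r65) (.node (nat_lit 20) r66 r67))
noncomputable def r69 : WT := (.leaf (nat_lit 11274) [nat_lit 138, nat_lit 115, nat_lit 46, nat_lit 138, nat_lit 69, nat_lit 92, nat_lit 161, nat_lit 46, nat_lit 138, nat_lit 69, nat_lit 161, nat_lit 115, nat_lit 46, nat_lit 92, nat_lit 69, nat_lit 92, nat_lit 138, nat_lit 46, nat_lit 161])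
noncomputable def r70 : WT := (.leaf (nat_lit 12291) [nat_lit 92, nat_lit 138, nat_lit 46, nat_lit 161, nat_lit 69, nat_lit 138, nat_lit 115, nat_lit 46, nat_lit 115, nat_lit 69, nat_lit 92, nat_lit 161, nat_lit 46, nat_lit 138, nat_lit 69, nat_lit 161, nat_lit 115, nat_lit 46, nat_lit 138])
noncomputable def r71 : WT := (.leaf (nat_lit 9223) [nat_lit 161, nat_lit 46, nat_lit 138, nat_lit 69, nat_lit 138, nat_lit 46, nat_lit 115, nat_lit 69, nat_lit 161, nat_lit 46, nat_lit 161, nat_lit 69, nat_lit 138, nat_lit 46, nat_lit 138, nat_lit 69, nat_lit 115, nat_lit 46, nat_lit 161])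
noncomputable def r72 : WT := (.leaf (nat_lit 11297) [nat_lit 161, nat_lit 115, nat_lit 46, nat_lit 115, nat_lit 69, nat_lit 92, nat_lit 138, nat_lit 46, nat_lit 161, nat_lit 69, nat_lit 138, nat_lit 115, nat_lit 46, nat_lit 161, nat_lit 69, nat_lit 92, nat_lit 161, nat_lit 46, nat_lit 138])
noncomputable def r73 : WT := (.leaf (nat_lit 11287) [nat_lit 92, nat_lit 161, nat_lit 46, nat_lit 138, nat_lit 69, nat_lit 161, nat_lit 115, nat_lit 46, nat_lit 115, nat_lit 69, nat_lit 92, nat_lit 138, nat_lit 46, nat_lit 161, nat_lit 69, nat_lit 138, nat_lit 115, nat_lit 46, nat_lit 161])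
noncomputable def r74 : WT := (.node (nat_lit 23) (.node (nat_lit 22) r69 r70) (.node (nat_lit 24) r71 (.node (nat_lit 25) r72 r73)))
noncomputable def r75 : WT := (.leaf (nat_lit 8227) [nat_lit 138, nat_lit 69, nat_lit 92, nat_lit 46, nat_lit 161, nat_lit 46, nat_lit 161, nat_lit 46, nat_lit 161, nat_lit 46, nat_lit 161, nat_lit 46, nat_lit 115, nat_lit 69, nat_lit 138, nat_lit 69, nat_lit 138, nat_lit 69, nat_lit 138])
noncomputable def r76 : WT := (.leaf (nat_lit 12318) [nat_lit 161, nat_lit 115, nat_lit 46, nat_lit 161, nat_lit 69, nat_lit 92, nat_lit 138, nat_lit 46, nat_lit 161, nat_lit 69, nat_lit 138, nat_lit 115, nat_lit 46, nat_lit 92, nat_lit 69, nat_lit 92, nat_lit 161, nat_lit 46, nat_lit 138])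
noncomputable def r77 : WT := (.leaf (nat_lit 8228) [nat_lit 115, nat_lit 46, nat_lit 161, nat_lit 46, nat_lit 161, nat_lit 46, nat_lit 161, nat_lit 46, nat_lit 161, nat_lit 46, nat_lit 92, nat_lit 69, nat_lit 138, nat_lit 69, nat_lit 138, nat_lit 69, nat_lit 138, nat_lit 69, nat_lit 138])
noncomputable def r78 : WT := (.leaf (nat_lit 10275) [nat_lit 161, nat_lit 69, nat_lit 92, nat_lit 46, nat_lit 138, nat_lit 46, nat_lit 138, nat_lit 46, nat_lit 138, nat_lit 46, nat_lit 138, nat_lit 46, nat_lit 115, nat_lit 69, nat_lit 161, nat_lit 69, nat_lit 161, nat_lit 69, nat_lit 161])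
noncomputable def r79 : WT := (.leaf (nat_lit 10267) [nat_lit 161, nat_lit 69, nat_lit 161, nat_lit 69, nat_lit 161, nat_lit 69, nat_lit 92, nat_lit 46, nat_lit 138, nat_lit 46, nat_lit 138, nat_lit 46, nat_lit 138, nat_lit 46, nat_lit 138, nat_lit 46, nat_lit 115, nat_lit 69, nat_lit 161])
noncomputable def r80 : WT := (.leaf (nat_lit 10272) [nat_lit 161, nat_lit 69, nat_lit 115, nat_lit 46, nat_lit 138, nat_lit 46, nat_lit 138, nat_lit 46, nat_lit 138, nat_lit 46, nat_lit 138, nat_lit 46, nat_lit 92, nat_lit 69, nat_lit 161, nat_lit 69, nat_lit 161, nat_lit 69, nat_lit 161])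
noncomputable def r81 : WT := (.leaf (nat_lit 10260) [nat_lit 161, nat_lit 69, nat_lit 161, nat_lit 69, nat_lit 161, nat_lit 69, nat_lit 161, nat_lit 69, nat_lit 115, nat_lit 46, nat_lit 138, nat_lit 46, nat_lit 138, nat_lit 46, nat_lit 138, nat_lit 46, nat_lit 138, nat_lit 46, nat_lit 92])
noncomputable def r82 : WT := (.leaf (nat_lit 9239) [nat_lit 161, nat_lit 46, nat_lit 161, nat_lit 69, nat_lit 138, nat_lit 46, nat_lit 138, nat_lit 69, nat_lit 115, nat_lit 46, nat_lit 161, nat_lit 69, nat_lit 161, nat_lit 46, nat_lit 138, nat_lit 69, nat_lit 138, nat_lit 46, nat_lit 115])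
noncomputable def r83 : WT := (.leaf (nat_lit 8212) [nat_lit 138, nat_lit 69, nat_lit 138, nat_lit 69, nat_lit 138, nat_lit 69, nat_lit 138, nat_lit 69, nat_lit 115, nat_lit 46, nat_lit 161, nat_lit 46, nat_lit 161, nat_lit 46, nat_lit 161, nat_lit 46, nat_lit 161, nat_lit 46, nat_lit 92])
noncomputable def r84 : WT := (.leaf (nat_lit 9236) [nat_lit 161, nat_lit 46, nat_lit 161, nat_lit 69, nat_lit 138, nat_lit 46, nat_lit 138, nat_lit 69, nat_lit 92, nat_lit 46, nat_lit 161, nat_lit 69, nat_lit 161, nat_lit 46, nat_lit 138, nat_lit 69, nat_lit 138, nat_lit 46, nat_lit 92])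
noncomputable def r85 : WT := (.leaf (nat_lit 8223) [nat_lit 138, nat_lit 69, nat_lit 138, nat_lit 69, nat_lit 92, nat_lit 46, nat_lit 161, nat_lit 46, nat_lit 161, nat_lit 46, nat_lit 161, nat_lit 46, nat_lit 161, nat_lit 46, nat_lit 115, nat_lit 69, nat_lit 138, nat_lit 69, nat_lit 138])
noncomputable def r86 : WT := (.node (nat_lit 30) (.node (nat_lit 28) (.node (nat_lit 27) r75 r76) (.node (nat_lit 29) r77 r78)) (.node (nat_lit 33) (.node (nat_lit 31) r79 (.node (nat_lit 32) r80 r81)) (.node (nat_lit 35) (.node (nat_lit 34) r82 r83) (.node (nat_lit 36) r84 r85))))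
noncomputable def r87 : WT := (.node (nat_lit 7) (.node (nat_lit 5) (.leaf (nat_lit 13315) [nat_lit 161, nat_lit 69, nat_lit 161, nat_lit 69, nat_lit 161, nat_lit 69, nat_lit 161, nat_lit 69, nat_lit 161]) (.node (nat_lit 6) r49 (.leaf (nat_lit 3073) [nat_lit 69, nat_lit 69, nat_lit 69, nat_lit 69, nat_lit 69, nat_lit 69]))) (.node (nat_lit 14) (.node (nat_lit 10) (.node (nat_lit 8) r50 r53) (.node (nat_lit 12) r56 r59)) (.node (nat_lit 21) (.node (nat_lit 17) r63 r68) (.node (nat_lit 26) r74 r86))))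
noncomputable def w1 : WT := (.node (nat_lit 1) (.leaf (nat_lit 2) [nat_lit 46]) (.node (nat_lit 2) (.leaf (nat_lit 6150) [nat_lit 69, nat_lit 92, nat_lit 46, nat_lit 115]) (.node (nat_lit 3) (.leaf (nat_lit 6152) [nat_lit 92, nat_lit 46, nat_lit 115, nat_lit 69]) (.node (nat_lit 4) (.leaf (nat_lit 6151) [nat_lit 115, nat_lit 46, nat_lit 46, nat_lit 92]) r87))))
noncomputable def r88 : WT := (.leaf (nat_lit 8210) [nat_lit 69, nat_lit 138, nat_lit 69, nat_lit 138, nat_lit 69, nat_lit 138, nat_lit 69, nat_lit 138, nat_lit 69, nat_lit 115, nat_lit 46, nat_lit 161, nat_lit 46, nat_lit 161, nat_lit 46, nat_lit 161, nat_lit 46, nat_lit 161, nat_lit 46])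
noncomputable def r89 : WT := (.leaf (nat_lit 11286) [nat_lit 161, nat_lit 46, nat_lit 138, nat_lit 69, nat_lit 161, nat_lit 115, nat_lit 46, nat_lit 92, nat_lit 69, nat_lit 92, nat_lit 138, nat_lit 46, nat_lit 161, nat_lit 69, nat_lit 138, nat_lit 115, nat_lit 46, nat_lit 138, nat_lit 69])
noncomputable def r90 : WT := (.leaf (nat_lit 9254) [nat_lit 46, nat_lit 161, nat_lit 69, nat_lit 161, nat_lit 46, nat_lit 138, nat_lit 69, nat_lit 138, nat_lit 46, nat_lit 92, nat_lit 69, nat_lit 161, nat_lit 46, nat_lit 161, nat_lit 69, nat_lit 138, nat_lit 46, nat_lit 138, nat_lit 69])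
noncomputable def r91 : WT := (.leaf (nat_lit 11266) [nat_lit 138, nat_lit 46, nat_lit 161, nat_lit 69, nat_lit 138, nat_lit 115, nat_lit 46, nat_lit 138, nat_lit 69, nat_lit 92, nat_lit 161, nat_lit 46, nat_lit 138, nat_lit 69, nat_lit 161, nat_lit 115, nat_lit 46, nat_lit 92, nat_lit 69])
noncomputable def r92 : WT := (.leaf (nat_lit 10258) [nat_lit 69, nat_lit 161, nat_lit 69, nat_lit 161, nat_lit 69, nat_lit 161, nat_lit 69, nat_lit 161, nat_lit 69, nat_lit 115, nat_lit 46, nat_lit 138, nat_lit 46, nat_lit 138, nat_lit 46, nat_lit 138, nat_lit 46, nat_lit 138, nat_lit 46])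
noncomputable def r93 : WT := (.leaf (nat_lit 9234) [nat_lit 69, nat_lit 161, nat_lit 46, nat_lit 161, nat_lit 69, nat_lit 138, nat_lit 46, nat_lit 138, nat_lit 69, nat_lit 92, nat_lit 46, nat_lit 161, nat_lit 69, nat_lit 161, nat_lit 46, nat_lit 138, nat_lit 69, nat_lit 138, nat_lit 46])
noncomputable def r94 : WT := (.node (nat_lit 11) r92 r93)
noncomputable def r95 : WT := (.leaf (nat_lit 11289) [nat_lit 161, nat_lit 46, nat_lit 138, nat_lit 69, nat_lit 161, nat_lit 115, nat_lit 46, nat_lit 115, nat_lit 69, nat_lit 92, nat_lit 138, nat_lit 46, nat_lit 161, nat_lit 69, nat_lit 138, nat_lit 115, nat_lit 46, nat_lit 161, nat_lit 69])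
noncomputable def r96 : WT := (.leaf (nat_lit 12293) [nat_lit 138, nat_lit 46, nat_lit 161, nat_lit 69, nat_lit 138, nat_lit 115, nat_lit 46, nat_lit 115, nat_lit 69, nat_lit 92, nat_lit 161, nat_lit 46, nat_lit 138, nat_lit 69, nat_lit 161, nat_lit 115, nat_lit 46, nat_lit 138, nat_lit 69])
noncomputable def r97 : WT := (.node (nat_lit 13) r95 r96)
noncomputable def r98 : WT := (.leaf (nat_lit 10241) [nat_lit 46, nat_lit 138, nat_lit 46, nat_lit 138, nat_lit 46, nat_lit 138, nat_lit 46, nat_lit 138, nat_lit 46, nat_lit 115, nat_lit 69, nat_lit 161, nat_lit 69, nat_lit 161, nat_lit 69, nat_lit 161, nat_lit 69, nat_lit 161, nat_lit 69])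
noncomputable def r99 : WT := (.leaf (nat_lit 8193) [nat_lit 46, nat_lit 161, nat_lit 46, nat_lit 161, nat_lit 46, nat_lit 161, nat_lit 46, nat_lit 161, nat_lit 46, nat_lit 115, nat_lit 69, nat_lit 138, nat_lit 69, nat_lit 138, nat_lit 69, nat_lit 138, nat_lit 69, nat_lit 138, nat_lit 69])
noncomputable def r100 : WT := (.leaf (nat_lit 12290) [nat_lit 138, nat_lit 46, nat_lit 161, nat_lit 69, nat_lit 138, nat_lit 115, nat_lit 46, nat_lit 92, nat_lit 69, nat_lit 92, nat_lit 161, nat_lit 46, nat_lit 138, nat_lit 69, nat_lit 161, nat_lit 115, nat_lit 46, nat_lit 161, nat_lit 69])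
noncomputable def r101 : WT := (.leaf (nat_lit 12306) [nat_lit 69, nat_lit 92, nat_lit 161, nat_lit 46, nat_lit 138, nat_lit 69, nat_lit 161, nat_lit 115, nat_lit 46, nat_lit 161, nat_lit 69, nat_lit 92, nat_lit 138, nat_lit 46, nat_lit 161, nat_lit 69, nat_lit 138, nat_lit 115, nat_lit 46])
noncomputable def r102 : WT := (.node (nat_lit 16) (.node (nat_lit 15) r98 r99) (.node (nat_lit 17) r100 r101))
noncomputable def r103 : WT := (.node (nat_lit 6) (.leaf (nat_lit 7168) [nat_lit 138, nat_lit 115, nat_lit 161]) (.node (nat_lit 9) (.node (nat_lit 7) r88 (.node (nat_lit 8) r89 r90)) (.node (nat_lit 12) (.node (nat_lit 10) r91 r94) (.node (nat_lit 14) r97 r102))))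
noncomputable def w2 : WT := (.node (nat_lit 1) (.leaf (nat_lit 1024) [nat_lit 115]) (.node (nat_lit 3) (.node (nat_lit 2) (.leaf (nat_lit 4096) [nat_lit 92, nat_lit 92]) (.leaf (nat_lit 6144) [nat_lit 46, nat_lit 115, nat_lit 69, nat_lit 69])) (.node (nat_lit 4) (.leaf (nat_lit 6149) [nat_lit 69, nat_lit 115, nat_lit 46, nat_lit 46]) (.node (nat_lit 5) (.leaf (nat_lit 7171) [nat_lit 161, nat_lit 115, nat_lit 138]) r103))))
noncomputable def r104 : WT := (.leaf (nat_lit 11278) [nat_lit 46, nat_lit 138, nat_lit 69, nat_lit 92, nat_lit 161, nat_lit 46, nat_lit 138, nat_lit 69, nat_lit 161, nat_lit 115, nat_lit 46, nat_lit 92, nat_lit 69, nat_lit 92, nat_lit 138, nat_lit 46, nat_lit 161, nat_lit 69, nat_lit 138])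
noncomputable def r105 : WT := (.leaf (nat_lit 11298) [nat_lit 46, nat_lit 92, nat_lit 69, nat_lit 92, nat_lit 138, nat_lit 46, nat_lit 161, nat_lit 69, nat_lit 138, nat_lit 115, nat_lit 46, nat_lit 138, nat_lit 69, nat_lit 92, nat_lit 161, nat_lit 46, nat_lit 138, nat_lit 69, nat_lit 161])
noncomputable def r106 : WT := (.node (nat_lit 7) r104 r105)
noncomputable def r107 : WT := (.leaf (nat_lit 8213) [nat_lit 69, nat_lit 138, nat_lit 69, nat_lit 138, nat_lit 69, nat_lit 138, nat_lit 69, nat_lit 138, nat_lit 69, nat_lit 92, nat_lit 46, nat_lit 161, nat_lit 46, nat_lit 161, nat_lit 46, nat_lit 161, nat_lit 46, nat_lit 161, nat_lit 46])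
noncomputable def r108 : WT := (.leaf (nat_lit 12325) [nat_lit 46, nat_lit 138, nat_lit 69, nat_lit 92, nat_lit 138, nat_lit 46, nat_lit 161, nat_lit 69, nat_lit 138, nat_lit 115, nat_lit 46, nat_lit 115, nat_lit 69, nat_lit 92, nat_lit 161, nat_lit 46, nat_lit 138, nat_lit 69, nat_lit 161])
noncomputable def r109 : WT := (.node (nat_lit 9) r107 r108)
noncomputable def r110 : WT := (.leaf (nat_lit 12305) [nat_lit 46, nat_lit 115, nat_lit 69, nat_lit 92, nat_lit 161, nat_lit 46, nat_lit 138, nat_lit 69, nat_lit 161, nat_lit 115, nat_lit 46, nat_lit 138, nat_lit 69, nat_lit 92, nat_lit 138, nat_lit 46, nat_lit 161, nat_lit 69, nat_lit 138])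
noncomputable def r111 : WT := (.leaf (nat_lit 12322) [nat_lit 46, nat_lit 161, nat_lit 69, nat_lit 92, nat_lit 138, nat_lit 46, nat_lit 161, nat_lit 69, nat_lit 138, nat_lit 115, nat_lit 46, nat_lit 92, nat_lit 69, nat_lit 92, nat_lit 161, nat_lit 46, nat_lit 138, nat_lit 69, nat_lit 161])
noncomputable def r112 : WT := (.leaf (nat_lit 11281) [nat_lit 46, nat_lit 161, nat_lit 69, nat_lit 92, nat_lit 161, nat_lit 46, nat_lit 138, nat_lit 69, nat_lit 161, nat_lit 115, nat_lit 46, nat_lit 115, nat_lit 69, nat_lit 92, nat_lit 138, nat_lit 46, nat_lit 161, nat_lit 69, nat_lit 138])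
noncomputable def r113 : WT := (.leaf (nat_lit 11265) [nat_lit 69, nat_lit 92, nat_lit 138, nat_lit 46, nat_lit 161, nat_lit 69, nat_lit 138, nat_lit 115, nat_lit 46, nat_lit 161, nat_lit 69, nat_lit 92, nat_lit 161, nat_lit 46, nat_lit 138, nat_lit 69, nat_lit 161, nat_lit 115, nat_lit 46])
noncomputable def r114 : WT := (.node (nat_lit 12) (.node (nat_lit 11) r110 r111) (.node (nat_lit 13) r112 r113))
noncomputable def r115 : WT := (.leaf (nat_lit 10261) [nat_lit 69, nat_lit 161, nat_lit 69, nat_lit 161, nat_lit 69, nat_lit 161, nat_lit 69, nat_lit 161, nat_lit 69, nat_lit 92, nat_lit 46, nat_lit 138, nat_lit 46, nat_lit 138, nat_lit 46, nat_lit 138, nat_lit 46, nat_lit 138, nat_lit 46])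
noncomputable def r116 : WT := (.leaf (nat_lit 9237) [nat_lit 69, nat_lit 161, nat_lit 46, nat_lit 161, nat_lit 69, nat_lit 138, nat_lit 46, nat_lit 138, nat_lit 69, nat_lit 115, nat_lit 46, nat_lit 161, nat_lit 69, nat_lit 161, nat_lit 46, nat_lit 138, nat_lit 69, nat_lit 138, nat_lit 46])
noncomputable def r117 : WT := (.leaf (nat_lit 9217) [nat_lit 46, nat_lit 161, nat_lit 69, nat_lit 161, nat_lit 46, nat_lit 138, nat_lit 69, nat_lit 138, nat_lit 46, nat_lit 115, nat_lit 69, nat_lit 161, nat_lit 46, nat_lit 161, nat_lit 69, nat_lit 138, nat_lit 46, nat_lit 138, nat_lit 69])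
noncomputable def r118 : WT := (.leaf (nat_lit 8230) [nat_lit 46, nat_lit 161, nat_lit 46, nat_lit 161, nat_lit 46, nat_lit 161, nat_lit 46, nat_lit 161, nat_lit 46, nat_lit 92, nat_lit 69, nat_lit 138, nat_lit 69, nat_lit 138, nat_lit 69, nat_lit 138, nat_lit 69, nat_lit 138, nat_lit 69])
noncomputable def r119 : WT := (.node (nat_lit 16) (.node (nat_lit 15) r115 r116) (.node (nat_lit 17) r117 r118))
noncomputable def r120 : WT := (.node (nat_lit 5) (.leaf (nat_lit 7175) [nat_lit 138, nat_lit 92, nat_lit 161]) (.node (nat_lit 6) (.leaf (nat_lit 7172) [nat_lit 161, nat_lit 92, nat_lit 138]) (.node (nat_lit 10) (.node (nat_lit 8) r106 r109) (.node (nat_lit 14) r114 r119))))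
noncomputable def w3 : WT := (.node (nat_lit 1) (.leaf (nat_lit 1026) [nat_lit 92]) (.node (nat_lit 2) (.leaf (nat_lit 4097) [nat_lit 115, nat_lit 115]) (.node (nat_lit 3) (.leaf (nat_lit 6148) [nat_lit 69, nat_lit 69, nat_lit 92, nat_lit 46]) (.node (nat_lit 4) (.leaf (nat_lit 6153) [nat_lit 46, nat_lit 46, nat_lit 92, nat_lit 69]) r120))))
noncomputable def r121 : WT := (.leaf (nat_lit 8214) [nat_lit 69, nat_lit 138, nat_lit 69, nat_lit 138, nat_lit 69, nat_lit 138, nat_lit 69, nat_lit 115, nat_lit 46, nat_lit 161, nat_lit 46, nat_lit 161, nat_lit 46, nat_lit 161, nat_lit 46, nat_lit 161, nat_lit 46, nat_lit 92, nat_lit 69])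
noncomputable def r122 : WT := (.leaf (nat_lit 8218) [nat_lit 69, nat_lit 138, nat_lit 69, nat_lit 138, nat_lit 69, nat_lit 115, nat_lit 46, nat_lit 161, nat_lit 46, nat_lit 161, nat_lit 46, nat_lit 161, nat_lit 46, nat_lit 161, nat_lit 46, nat_lit 92, nat_lit 69, nat_lit 138, nat_lit 69])
noncomputable def r123 : WT := (.leaf (nat_lit 9226) [nat_lit 69, nat_lit 138, nat_lit 46, nat_lit 92, nat_lit 69, nat_lit 161, nat_lit 46, nat_lit 161, nat_lit 69, nat_lit 138, nat_lit 46, nat_lit 138, nat_lit 69, nat_lit 92, nat_lit 46, nat_lit 161, nat_lit 69, nat_lit 161, nat_lit 46])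
noncomputable def r124 : WT := (.leaf (nat_lit 9246) [nat_lit 46, nat_lit 138, nat_lit 69, nat_lit 92, nat_lit 46, nat_lit 161, nat_lit 69, nat_lit 161, nat_lit 46, nat_lit 138, nat_lit 69, nat_lit 138, nat_lit 46, nat_lit 92, nat_lit 69, nat_lit 161, nat_lit 46, nat_lit 161, nat_lit 69])
noncomputable def r125 : WT := (.leaf (nat_lit 8222) [nat_lit 69, nat_lit 138, nat_lit 69, nat_lit 115, nat_lit 46, nat_lit 161, nat_lit 46, nat_lit 161, nat_lit 46, nat_lit 161, nat_lit 46, nat_lit 161, nat_lit 46, nat_lit 92, nat_lit 69, nat_lit 138, nat_lit 69, nat_lit 138, nat_lit 69])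
noncomputable def r126 : WT := (.leaf (nat_lit 9230) [nat_lit 46, nat_lit 92, nat_lit 69, nat_lit 161, nat_lit 46, nat_lit 161, nat_lit 69, nat_lit 138, nat_lit 46, nat_lit 138, nat_lit 69, nat_lit 92, nat_lit 46, nat_lit 161, nat_lit 69, nat_lit 161, nat_lit 46, nat_lit 138, nat_lit 69])
noncomputable def r127 : WT := (.node (nat_lit 7) (.node (nat_lit 6) r121 r122) (.node (nat_lit 9) (.node (nat_lit 8) r123 r124) (.node (nat_lit 10) r125 r126)))
noncomputable def r128 : WT := (.leaf (nat_lit 9250) [nat_lit 69, nat_lit 92, nat_lit 46, nat_lit 161, nat_lit 69, nat_lit 161, nat_lit 46, nat_lit 138, nat_lit 69, nat_lit 138, nat_lit 46, nat_lit 92, nat_lit 69, nat_lit 161, nat_lit 46, nat_lit 161, nat_lit 69, nat_lit 138, nat_lit 46])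
noncomputable def r129 : WT := (.leaf (nat_lit 11292) [nat_lit 69, nat_lit 161, nat_lit 115, nat_lit 46, nat_lit 92, nat_lit 69, nat_lit 92, nat_lit 138, nat_lit 46, nat_lit 161, nat_lit 69, nat_lit 138, nat_lit 115, nat_lit 46, nat_lit 138, nat_lit 69, nat_lit 92, nat_lit 161, nat_lit 46])
noncomputable def r130 : WT := (.leaf (nat_lit 11282) [nat_lit 69, nat_lit 92, nat_lit 161, nat_lit 46, nat_lit 138, nat_lit 69, nat_lit 161, nat_lit 115, nat_lit 46, nat_lit 92, nat_lit 69, nat_lit 92, nat_lit 138, nat_lit 46, nat_lit 161, nat_lit 69, nat_lit 138, nat_lit 115, nat_lit 46])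
noncomputable def r131 : WT := (.leaf (nat_lit 8226) [nat_lit 69, nat_lit 115, nat_lit 46, nat_lit 161, nat_lit 46, nat_lit 161, nat_lit 46, nat_lit 161, nat_lit 46, nat_lit 161, nat_lit 46, nat_lit 92, nat_lit 69, nat_lit 138, nat_lit 69, nat_lit 138, nat_lit 69, nat_lit 138, nat_lit 69])
noncomputable def r132 : WT := (.leaf (nat_lit 11276) [nat_lit 115, nat_lit 46, nat_lit 138, nat_lit 69, nat_lit 92, nat_lit 161, nat_lit 46, nat_lit 138, nat_lit 69, nat_lit 161, nat_lit 115, nat_lit 46, nat_lit 92, nat_lit 69, nat_lit 92, nat_lit 138, nat_lit 46, nat_lit 161, nat_lit 69])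
noncomputable def r133 : WT := (.leaf (nat_lit 12319) [nat_lit 69, nat_lit 161, nat_lit 115, nat_lit 46, nat_lit 138, nat_lit 69, nat_lit 92, nat_lit 138, nat_lit 46, nat_lit 161, nat_lit 69, nat_lit 138, nat_lit 115, nat_lit 46, nat_lit 115, nat_lit 69, nat_lit 92, nat_lit 161, nat_lit 46])
noncomputable def r134 : WT := (.leaf (nat_lit 12289) [nat_lit 69, nat_lit 92, nat_lit 138, nat_lit 46, nat_lit 161, nat_lit 69, nat_lit 138, nat_lit 115, nat_lit 46, nat_lit 115, nat_lit 69, nat_lit 92, nat_lit 161, nat_lit 46, nat_lit 138, nat_lit 69, nat_lit 161, nat_lit 115, nat_lit 46])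
noncomputable def r135 : WT := (.leaf (nat_lit 11295) [nat_lit 69, nat_lit 161, nat_lit 115, nat_lit 46, nat_lit 115, nat_lit 69, nat_lit 92, nat_lit 138, nat_lit 46, nat_lit 161, nat_lit 69, nat_lit 138, nat_lit 115, nat_lit 46, nat_lit 161, nat_lit 69, nat_lit 92, nat_lit 161, nat_lit 46])
noncomputable def r136 : WT := (.leaf (nat_lit 9249) [nat_lit 46, nat_lit 138, nat_lit 69, nat_lit 115, nat_lit 46, nat_lit 161, nat_lit 69, nat_lit 161, nat_lit 46, nat_lit 138, nat_lit 69, nat_lit 138, nat_lit 46, nat_lit 115, nat_lit 69, nat_lit 161, nat_lit 46, nat_lit 161, nat_lit 69])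
noncomputable def r137 : WT := (.node (nat_lit 19) r135 r136)
noncomputable def r138 : WT := (.leaf (nat_lit 9229) [nat_lit 69, nat_lit 138, nat_lit 46, nat_lit 115, nat_lit 69, nat_lit 161, nat_lit 46, nat_lit 161, nat_lit 69, nat_lit 138, nat_lit 46, nat_lit 138, nat_lit 69, nat_lit 115, nat_lit 46, nat_lit 161, nat_lit 69, nat_lit 161, nat_lit 46])
noncomputable def r139 : WT := (.leaf (nat_lit 11268) [nat_lit 46, nat_lit 161, nat_lit 69, nat_lit 138, nat_lit 115, nat_lit 46, nat_lit 138, nat_lit 69, nat_lit 92, nat_lit 161, nat_lit 46, nat_lit 138, nat_lit 69, nat_lit 161, nat_lit 115, nat_lit 46, nat_lit 92, nat_lit 69, nat_lit 92])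
noncomputable def r140 : WT := (.leaf (nat_lit 12300) [nat_lit 115, nat_lit 46, nat_lit 92, nat_lit 69, nat_lit 92, nat_lit 161, nat_lit 46, nat_lit 138, nat_lit 69, nat_lit 161, nat_lit 115, nat_lit 46, nat_lit 161, nat_lit 69, nat_lit 92, nat_lit 138, nat_lit 46, nat_lit 161, nat_lit 69])
noncomputable def r141 : WT := (.node (nat_lit 22) r139 r140)
noncomputable def r142 : WT := (.leaf (nat_lit 8217) [nat_lit 69, nat_lit 138, nat_lit 69, nat_lit 138, nat_lit 69, nat_lit 138, nat_lit 69, nat_lit 92, nat_lit 46, nat_lit 161, nat_lit 46, nat_lit 161, nat_lit 46, nat_lit 161, nat_lit 46, nat_lit 161, nat_lit 46, nat_lit 115, nat_lit 69])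
noncomputable def r143 : WT := (.leaf (nat_lit 12303) [nat_lit 115, nat_lit 46, nat_lit 115, nat_lit 69, nat_lit 92, nat_lit 161, nat_lit 46, nat_lit 138, nat_lit 69, nat_lit 161, nat_lit 115, nat_lit 46, nat_lit 138, nat_lit 69, nat_lit 92, nat_lit 138, nat_lit 46, nat_lit 161, nat_lit 69])
noncomputable def r144 : WT := (.leaf (nat_lit 8221) [nat_lit 69, nat_lit 138, nat_lit 69, nat_lit 138, nat_lit 69, nat_lit 92, nat_lit 46, nat_lit 161, nat_lit 46, nat_lit 161, nat_lit 46, nat_lit 161, nat_lit 46, nat_lit 161, nat_lit 46, nat_lit 115, nat_lit 69, nat_lit 138, nat_lit 69])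
noncomputable def r145 : WT := (.node (nat_lit 25) r143 r144)
noncomputable def r146 : WT := (.leaf (nat_lit 9233) [nat_lit 46, nat_lit 115, nat_lit 69, nat_lit 161, nat_lit 46, nat_lit 161, nat_lit 69, nat_lit 138, nat_lit 46, nat_lit 138, nat_lit 69, nat_lit 115, nat_lit 46, nat_lit 161, nat_lit 69, nat_lit 161, nat_lit 46, nat_lit 138, nat_lit 69])
noncomputable def r147 : WT := (.leaf (nat_lit 12292) [nat_lit 46, nat_lit 161, nat_lit 69, nat_lit 138, nat_lit 115, nat_lit 46, nat_lit 92, nat_lit 69, nat_lit 92, nat_lit 161, nat_lit 46, nat_lit 138, nat_lit 69, nat_lit 161, nat_lit 115, nat_lit 46, nat_lit 161, nat_lit 69, nat_lit 92])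
noncomputable def r148 : WT := (.node (nat_lit 27) r146 r147)
noncomputable def r149 : WT := (.leaf (nat_lit 8225) [nat_lit 69, nat_lit 138, nat_lit 69, nat_lit 92, nat_lit 46, nat_lit 161, nat_lit 46, nat_lit 161, nat_lit 46, nat_lit 161, nat_lit 46, nat_lit 161, nat_lit 46, nat_lit 115, nat_lit 69, nat_lit 138, nat_lit 69, nat_lit 138, nat_lit 69])
noncomputable def r150 : WT := (.leaf (nat_lit 11279) [nat_lit 115, nat_lit 46, nat_lit 161, nat_lit 69, nat_lit 92, nat_lit 161, nat_lit 46, nat_lit 138, nat_lit 69, nat_lit 161, nat_lit 115, nat_lit 46, nat_lit 115, nat_lit 69, nat_lit 92, nat_lit 138, nat_lit 46, nat_lit 161, nat_lit 69])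
noncomputable def r151 : WT := (.node (nat_lit 29) r149 r150)
noncomputable def r152 : WT := (.leaf (nat_lit 12316) [nat_lit 69, nat_lit 161, nat_lit 115, nat_lit 46, nat_lit 161, nat_lit 69, nat_lit 92, nat_lit 138, nat_lit 46, nat_lit 161, nat_lit 69, nat_lit 138, nat_lit 115, nat_lit 46, nat_lit 92, nat_lit 69, nat_lit 92, nat_lit 161, nat_lit 46])
noncomputable def r153 : WT := (.leaf (nat_lit 9253) [nat_lit 69, nat_lit 115, nat_lit 46, nat_lit 161, nat_lit 69, nat_lit 161, nat_lit 46, nat_lit 138, nat_lit 69, nat_lit 138, nat_lit 46, nat_lit 115, nat_lit 69, nat_lit 161, nat_lit 46, nat_lit 161, nat_lit 69, nat_lit 138, nat_lit 46])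
noncomputable def r154 : WT := (.leaf (nat_lit 10245) [nat_lit 46, nat_lit 138, nat_lit 46, nat_lit 138, nat_lit 46, nat_lit 138, nat_lit 46, nat_lit 115, nat_lit 69, nat_lit 161, nat_lit 69, nat_lit 161, nat_lit 69, nat_lit 161, nat_lit 69, nat_lit 161, nat_lit 69, nat_lit 92, nat_lit 46])
noncomputable def r155 : WT := (.leaf (nat_lit 10250) [nat_lit 46, nat_lit 138, nat_lit 46, nat_lit 92, nat_lit 69, nat_lit 161, nat_lit 69, nat_lit 161, nat_lit 69, nat_lit 161, nat_lit 69, nat_lit 161, nat_lit 69, nat_lit 115, nat_lit 46, nat_lit 138, nat_lit 46, nat_lit 138, nat_lit 46])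
noncomputable def r156 : WT := (.node (nat_lit 32) (.node (nat_lit 31) r152 r153) (.node (nat_lit 33) r154 r155))
noncomputable def r157 : WT := (.leaf (nat_lit 11271) [nat_lit 46, nat_lit 161, nat_lit 69, nat_lit 138, nat_lit 115, nat_lit 46, nat_lit 161, nat_lit 69, nat_lit 92, nat_lit 161, nat_lit 46, nat_lit 138, nat_lit 69, nat_lit 161, nat_lit 115, nat_lit 46, nat_lit 115, nat_lit 69, nat_lit 92])
noncomputable def r158 : WT := (.leaf (nat_lit 10253) [nat_lit 46, nat_lit 138, nat_lit 46, nat_lit 115, nat_lit 69, nat_lit 161, nat_lit 69, nat_lit 161, nat_lit 69, nat_lit 161, nat_lit 69, nat_lit 161, nat_lit 69, nat_lit 92, nat_lit 46, nat_lit 138, nat_lit 46, nat_lit 138, nat_lit 46])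
noncomputable def r159 : WT := (.leaf (nat_lit 10249) [nat_lit 46, nat_lit 138, nat_lit 46, nat_lit 138, nat_lit 46, nat_lit 115, nat_lit 69, nat_lit 161, nat_lit 69, nat_lit 161, nat_lit 69, nat_lit 161, nat_lit 69, nat_lit 161, nat_lit 69, nat_lit 92, nat_lit 46, nat_lit 138, nat_lit 46])
noncomputable def r160 : WT := (.leaf (nat_lit 10242) [nat_lit 46, nat_lit 138, nat_lit 46, nat_lit 138, nat_lit 46, nat_lit 138, nat_lit 46, nat_lit 92, nat_lit 69, nat_lit 161, nat_lit 69, nat_lit 161, nat_lit 69, nat_lit 161, nat_lit 69, nat_lit 161, nat_lit 69, nat_lit 115, nat_lit 46])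
noncomputable def r161 : WT := (.leaf (nat_lit 8229) [nat_lit 69, nat_lit 92, nat_lit 46, nat_lit 161, nat_lit 46, nat_lit 161, nat_lit 46, nat_lit 161, nat_lit 46, nat_lit 161, nat_lit 46, nat_lit 115, nat_lit 69, nat_lit 138, nat_lit 69, nat_lit 138, nat_lit 69, nat_lit 138, nat_lit 69])
noncomputable def r162 : WT := (.leaf (nat_lit 12295) [nat_lit 46, nat_lit 161, nat_lit 69, nat_lit 138, nat_lit 115, nat_lit 46, nat_lit 115, nat_lit 69, nat_lit 92, nat_lit 161, nat_lit 46, nat_lit 138, nat_lit 69, nat_lit 161, nat_lit 115, nat_lit 46, nat_lit 138, nat_lit 69, nat_lit 92])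
noncomputable def r163 : WT := (.leaf (nat_lit 10246) [nat_lit 46, nat_lit 138, nat_lit 46, nat_lit 138, nat_lit 46, nat_lit 92, nat_lit 69, nat_lit 161, nat_lit 69, nat_lit 161, nat_lit 69, nat_lit 161, nat_lit 69, nat_lit 161, nat_lit 69, nat_lit 115, nat_lit 46, nat_lit 138, nat_lit 46])
noncomputable def r164 : WT := (.node (nat_lit 37) (.node (nat_lit 35) r157 (.node (nat_lit 36) r158 r159)) (.node (nat_lit 39) (.node (nat_lit 38) r160 r161) (.node (nat_lit 40) r162 r163)))
noncomputable def r165 : WT := (.node (nat_lit 20) (.node (nat_lit 15) (.node (nat_lit 13) (.node (nat_lit 12) r128 r129) (.node (nat_lit 14) r130 r131)) (.node (nat_lit 17) (.node (nat_lit 16) r132 r133) (.node (nat_lit 18) r134 r137))) (.node (nat_lit 26) (.node (nat_lit 23) (.node (nat_lit 21) r138 r141) (.node (nat_lit 24) r142 r145)) (.node (nat_lit 30) (.node (nat_lit 28) r148 r151) (.node (nat_lit 34) r156 r164))))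
noncomputable def w4 : WT := (.node (nat_lit 1) (.leaf (nat_lit 2048) [nat_lit 161]) (.node (nat_lit 3) (.node (nat_lit 2) (.leaf (nat_lit 7169) [nat_lit 92, nat_lit 161, nat_lit 115]) (.leaf (nat_lit 5120) [nat_lit 138, nat_lit 138])) (.node (nat_lit 5) (.node (nat_lit 4) (.leaf (nat_lit 7170) [nat_lit 115, nat_lit 161, nat_lit 92]) (.leaf (nat_lit 13314) [nat_lit 46, nat_lit 138, nat_lit 46, nat_lit 138, nat_lit 46, nat_lit 138, nat_lit 46, nat_lit 138, nat_lit 46])) (.node (nat_lit 11) r127 r165))))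
noncomputable def r166 : WT := (.leaf (nat_lit 8198) [nat_lit 46, nat_lit 161, nat_lit 46, nat_lit 161, nat_lit 46, nat_lit 92, nat_lit 69, nat_lit 138, nat_lit 69, nat_lit 138, nat_lit 69, nat_lit 138, nat_lit 69, nat_lit 138, nat_lit 69, nat_lit 115, nat_lit 46, nat_lit 161, nat_lit 46])
noncomputable def r167 : WT := (.leaf (nat_lit 8194) [nat_lit 46, nat_lit 161, nat_lit 46, nat_lit 161, nat_lit 46, nat_lit 161, nat_lit 46, nat_lit 92, nat_lit 69, nat_lit 138, nat_lit 69, nat_lit 138, nat_lit 69, nat_lit 138, nat_lit 69, nat_lit 138, nat_lit 69, nat_lit 115, nat_lit 46])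
noncomputable def r168 : WT := (.leaf (nat_lit 9222) [nat_lit 46, nat_lit 138, nat_lit 69, nat_lit 138, nat_lit 46, nat_lit 92, nat_lit 69, nat_lit 161, nat_lit 46, nat_lit 161, nat_lit 69, nat_lit 138, nat_lit 46, nat_lit 138, nat_lit 69, nat_lit 92, nat_lit 46, nat_lit 161, nat_lit 69])
noncomputable def r169 : WT := (.leaf (nat_lit 11296) [nat_lit 115, nat_lit 46, nat_lit 92, nat_lit 69, nat_lit 92, nat_lit 138, nat_lit 46, nat_lit 161, nat_lit 69, nat_lit 138, nat_lit 115, nat_lit 46, nat_lit 138, nat_lit 69, nat_lit 92, nat_lit 161, nat_lit 46, nat_lit 138, nat_lit 69])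
noncomputable def r170 : WT := (.leaf (nat_lit 9218) [nat_lit 69, nat_lit 161, nat_lit 46, nat_lit 138, nat_lit 69, nat_lit 138, nat_lit 46, nat_lit 92, nat_lit 69, nat_lit 161, nat_lit 46, nat_lit 161, nat_lit 69, nat_lit 138, nat_lit 46, nat_lit 138, nat_lit 69, nat_lit 92, nat_lit 46])
noncomputable def r171 : WT := (.node (nat_lit 6) r166 (.node (nat_lit 7) r167 (.node (nat_lit 8) r168 (.node (nat_lit 9) r169 r170))))
noncomputable def r172 : WT := (.leaf (nat_lit 9242) [nat_lit 69, nat_lit 138, nat_lit 46, nat_lit 138, nat_lit 69, nat_lit 92, nat_lit 46, nat_lit 161, nat_lit 69, nat_lit 161, nat_lit 46, nat_lit 138, nat_lit 69, nat_lit 138, nat_lit 46, nat_lit 92, nat_lit 69, nat_lit 161, nat_lit 46])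
noncomputable def r173 : WT := (.leaf (nat_lit 11272) [nat_lit 69, nat_lit 138, nat_lit 115, nat_lit 46, nat_lit 138, nat_lit 69, nat_lit 92, nat_lit 161, nat_lit 46, nat_lit 138, nat_lit 69, nat_lit 161, nat_lit 115, nat_lit 46, nat_lit 92, nat_lit 69, nat_lit 92, nat_lit 138, nat_lit 46])
noncomputable def r174 : WT := (.leaf (nat_lit 8202) [nat_lit 46, nat_lit 161, nat_lit 46, nat_lit 92, nat_lit 69, nat_lit 138, nat_lit 69, nat_lit 138, nat_lit 69, nat_lit 138, nat_lit 69, nat_lit 138, nat_lit 69, nat_lit 115, nat_lit 46, nat_lit 161, nat_lit 46, nat_lit 161, nat_lit 46])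
noncomputable def r175 : WT := (.leaf (nat_lit 9238) [nat_lit 46, nat_lit 161, nat_lit 69, nat_lit 138, nat_lit 46, nat_lit 138, nat_lit 69, nat_lit 92, nat_lit 46, nat_lit 161, nat_lit 69, nat_lit 161, nat_lit 46, nat_lit 138, nat_lit 69, nat_lit 138, nat_lit 46, nat_lit 92, nat_lit 69])
noncomputable def r176 : WT := (.leaf (nat_lit 8206) [nat_lit 46, nat_lit 92, nat_lit 69, nat_lit 138, nat_lit 69, nat_lit 138, nat_lit 69, nat_lit 138, nat_lit 69, nat_lit 138, nat_lit 69, nat_lit 115, nat_lit 46, nat_lit 161, nat_lit 46, nat_lit 161, nat_lit 46, nat_lit 161, nat_lit 46])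
noncomputable def r177 : WT := (.leaf (nat_lit 11299) [nat_lit 115, nat_lit 46, nat_lit 115, nat_lit 69, nat_lit 92, nat_lit 138, nat_lit 46, nat_lit 161, nat_lit 69, nat_lit 138, nat_lit 115, nat_lit 46, nat_lit 161, nat_lit 69, nat_lit 92, nat_lit 161, nat_lit 46, nat_lit 138, nat_lit 69])
noncomputable def r178 : WT := (.leaf (nat_lit 9221) [nat_lit 69, nat_lit 161, nat_lit 46, nat_lit 138, nat_lit 69, nat_lit 138, nat_lit 46, nat_lit 115, nat_lit 69, nat_lit 161, nat_lit 46, nat_lit 161, nat_lit 69, nat_lit 138, nat_lit 46, nat_lit 138, nat_lit 69, nat_lit 115, nat_lit 46])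
noncomputable def r179 : WT := (.leaf (nat_lit 12326) [nat_lit 69, nat_lit 92, nat_lit 138, nat_lit 46, nat_lit 161, nat_lit 69, nat_lit 138, nat_lit 115, nat_lit 46, nat_lit 92, nat_lit 69, nat_lit 92, nat_lit 161, nat_lit 46, nat_lit 138, nat_lit 69, nat_lit 161, nat_lit 115, nat_lit 46])
noncomputable def r180 : WT := (.leaf (nat_lit 11288) [nat_lit 46, nat_lit 138, nat_lit 69, nat_lit 161, nat_lit 115, nat_lit 46, nat_lit 92, nat_lit 69, nat_lit 92, nat_lit 138, nat_lit 46, nat_lit 161, nat_lit 69, nat_lit 138, nat_lit 115, nat_lit 46, nat_lit 138, nat_lit 69, nat_lit 92])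
noncomputable def r181 : WT := (.leaf (nat_lit 12296) [nat_lit 69, nat_lit 138, nat_lit 115, nat_lit 46, nat_lit 92, nat_lit 69, nat_lit 92, nat_lit 161, nat_lit 46, nat_lit 138, nat_lit 69, nat_lit 161, nat_lit 115, nat_lit 46, nat_lit 161, nat_lit 69, nat_lit 92, nat_lit 138, nat_lit 46])
noncomputable def r182 : WT := (.node (nat_lit 19) r180 r181)
noncomputable def r183 : WT := (.leaf (nat_lit 12320) [nat_lit 115, nat_lit 46, nat_lit 161, nat_lit 69, nat_lit 92, nat_lit 138, nat_lit 46, nat_lit 161, nat_lit 69, nat_lit 138, nat_lit 115, nat_lit 46, nat_lit 92, nat_lit 69, nat_lit 92, nat_lit 161, nat_lit 46, nat_lit 138, nat_lit 69])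
noncomputable def r184 : WT := (.leaf (nat_lit 11285) [nat_lit 69, nat_lit 92, nat_lit 161, nat_lit 46, nat_lit 138, nat_lit 69, nat_lit 161, nat_lit 115, nat_lit 46, nat_lit 115, nat_lit 69, nat_lit 92, nat_lit 138, nat_lit 46, nat_lit 161, nat_lit 69, nat_lit 138, nat_lit 115, nat_lit 46])
noncomputable def r185 : WT := (.node (nat_lit 21) r183 r184)
noncomputable def r186 : WT := (.leaf (nat_lit 12323) [nat_lit 115, nat_lit 46, nat_lit 138, nat_lit 69, nat_lit 92, nat_lit 138, nat_lit 46, nat_lit 161, nat_lit 69, nat_lit 138, nat_lit 115, nat_lit 46, nat_lit 115, nat_lit 69, nat_lit 92, nat_lit 161, nat_lit 46, nat_lit 138, nat_lit 69])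
noncomputable def r187 : WT := (.leaf (nat_lit 9245) [nat_lit 69, nat_lit 138, nat_lit 46, nat_lit 138, nat_lit 69, nat_lit 115, nat_lit 46, nat_lit 161, nat_lit 69, nat_lit 161, nat_lit 46, nat_lit 138, nat_lit 69, nat_lit 138, nat_lit 46, nat_lit 115, nat_lit 69, nat_lit 161, nat_lit 46])
noncomputable def r188 : WT := (.node (nat_lit 23) r186 r187)
noncomputable def r189 : WT := (.leaf (nat_lit 8197) [nat_lit 46, nat_lit 161, nat_lit 46, nat_lit 161, nat_lit 46, nat_lit 161, nat_lit 46, nat_lit 115, nat_lit 69, nat_lit 138, nat_lit 69, nat_lit 138, nat_lit 69, nat_lit 138, nat_lit 69, nat_lit 138, nat_lit 69, nat_lit 92, nat_lit 46])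
noncomputable def r190 : WT := (.leaf (nat_lit 8205) [nat_lit 46, nat_lit 161, nat_lit 46, nat_lit 115, nat_lit 69, nat_lit 138, nat_lit 69, nat_lit 138, nat_lit 69, nat_lit 138, nat_lit 69, nat_lit 138, nat_lit 69, nat_lit 92, nat_lit 46, nat_lit 161, nat_lit 46, nat_lit 161, nat_lit 46])
noncomputable def r191 : WT := (.node (nat_lit 25) r189 r190)
noncomputable def r192 : WT := (.leaf (nat_lit 9225) [nat_lit 46, nat_lit 138, nat_lit 69, nat_lit 138, nat_lit 46, nat_lit 115, nat_lit 69, nat_lit 161, nat_lit 46, nat_lit 161, nat_lit 69, nat_lit 138, nat_lit 46, nat_lit 138, nat_lit 69, nat_lit 115, nat_lit 46, nat_lit 161, nat_lit 69])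
noncomputable def r193 : WT := (.leaf (nat_lit 12315) [nat_lit 46, nat_lit 138, nat_lit 69, nat_lit 161, nat_lit 115, nat_lit 46, nat_lit 138, nat_lit 69, nat_lit 92, nat_lit 138, nat_lit 46, nat_lit 161, nat_lit 69, nat_lit 138, nat_lit 115, nat_lit 46, nat_lit 115, nat_lit 69, nat_lit 92])
noncomputable def r194 : WT := (.node (nat_lit 27) r192 r193)
noncomputable def r195 : WT := (.leaf (nat_lit 12299) [nat_lit 69, nat_lit 138, nat_lit 115, nat_lit 46, nat_lit 115, nat_lit 69, nat_lit 92, nat_lit 161, nat_lit 46, nat_lit 138, nat_lit 69, nat_lit 161, nat_lit 115, nat_lit 46, nat_lit 138, nat_lit 69, nat_lit 92, nat_lit 138, nat_lit 46])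
noncomputable def r196 : WT := (.leaf (nat_lit 8201) [nat_lit 46, nat_lit 161, nat_lit 46, nat_lit 161, nat_lit 46, nat_lit 115, nat_lit 69, nat_lit 138, nat_lit 69, nat_lit 138, nat_lit 69, nat_lit 138, nat_lit 69, nat_lit 138, nat_lit 69, nat_lit 92, nat_lit 46, nat_lit 161, nat_lit 46])
noncomputable def r197 : WT := (.leaf (nat_lit 9241) [nat_lit 46, nat_lit 161, nat_lit 69, nat_lit 138, nat_lit 46, nat_lit 138, nat_lit 69, nat_lit 115, nat_lit 46, nat_lit 161, nat_lit 69, nat_lit 161, nat_lit 46, nat_lit 138, nat_lit 69, nat_lit 138, nat_lit 46, nat_lit 115, nat_lit 69])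
noncomputable def r198 : WT := (.node (nat_lit 29) r195 (.node (nat_lit 30) r196 r197))
noncomputable def r199 : WT := (.leaf (nat_lit 10270) [nat_lit 69, nat_lit 161, nat_lit 69, nat_lit 115, nat_lit 46, nat_lit 138, nat_lit 46, nat_lit 138, nat_lit 46, nat_lit 138, nat_lit 46, nat_lit 138, nat_lit 46, nat_lit 92, nat_lit 69, nat_lit 161, nat_lit 69, nat_lit 161, nat_lit 69])
noncomputable def r200 : WT := (.leaf (nat_lit 11275) [nat_lit 69, nat_lit 138, nat_lit 115, nat_lit 46, nat_lit 161, nat_lit 69, nat_lit 92, nat_lit 161, nat_lit 46, nat_lit 138, nat_lit 69, nat_lit 161, nat_lit 115, nat_lit 46, nat_lit 115, nat_lit 69, nat_lit 92, nat_lit 138, nat_lit 46])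
noncomputable def r201 : WT := (.leaf (nat_lit 12312) [nat_lit 46, nat_lit 138, nat_lit 69, nat_lit 161, nat_lit 115, nat_lit 46, nat_lit 161, nat_lit 69, nat_lit 92, nat_lit 138, nat_lit 46, nat_lit 161, nat_lit 69, nat_lit 138, nat_lit 115, nat_lit 46, nat_lit 92, nat_lit 69, nat_lit 92])
noncomputable def r202 : WT := (.leaf (nat_lit 10274) [nat_lit 69, nat_lit 115, nat_lit 46, nat_lit 138, nat_lit 46, nat_lit 138, nat_lit 46, nat_lit 138, nat_lit 46, nat_lit 138, nat_lit 46, nat_lit 92, nat_lit 69, nat_lit 161, nat_lit 69, nat_lit 161, nat_lit 69, nat_lit 161, nat_lit 69])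
noncomputable def r203 : WT := (.node (nat_lit 33) (.node (nat_lit 32) r199 r200) (.node (nat_lit 34) r201 r202))
noncomputable def r204 : WT := (.leaf (nat_lit 8209) [nat_lit 46, nat_lit 115, nat_lit 69, nat_lit 138, nat_lit 69, nat_lit 138, nat_lit 69, nat_lit 138, nat_lit 69, nat_lit 138, nat_lit 69, nat_lit 92, nat_lit 46, nat_lit 161, nat_lit 46, nat_lit 161, nat_lit 46, nat_lit 161, nat_lit 46])
noncomputable def r205 : WT := (.leaf (nat_lit 10262) [nat_lit 69, nat_lit 161, nat_lit 69, nat_lit 161, nat_lit 69, nat_lit 161, nat_lit 69, nat_lit 115, nat_lit 46, nat_lit 138, nat_lit 46, nat_lit 138, nat_lit 46, nat_lit 138, nat_lit 46, nat_lit 138, nat_lit 46, nat_lit 92, nat_lit 69])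
noncomputable def r206 : WT := (.leaf (nat_lit 10266) [nat_lit 69, nat_lit 161, nat_lit 69, nat_lit 161, nat_lit 69, nat_lit 115, nat_lit 46, nat_lit 138, nat_lit 46, nat_lit 138, nat_lit 46, nat_lit 138, nat_lit 46, nat_lit 138, nat_lit 46, nat_lit 92, nat_lit 69, nat_lit 161, nat_lit 69])
noncomputable def r207 : WT := (.leaf (nat_lit 10269) [nat_lit 69, nat_lit 161, nat_lit 69, nat_lit 161, nat_lit 69, nat_lit 92, nat_lit 46, nat_lit 138, nat_lit 46, nat_lit 138, nat_lit 46, nat_lit 138, nat_lit 46, nat_lit 138, nat_lit 46, nat_lit 115, nat_lit 69, nat_lit 161, nat_lit 69])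
noncomputable def r208 : WT := (.leaf (nat_lit 11291) [nat_lit 46, nat_lit 138, nat_lit 69, nat_lit 161, nat_lit 115, nat_lit 46, nat_lit 115, nat_lit 69, nat_lit 92, nat_lit 138, nat_lit 46, nat_lit 161, nat_lit 69, nat_lit 138, nat_lit 115, nat_lit 46, nat_lit 161, nat_lit 69, nat_lit 92])
noncomputable def r209 : WT := (.leaf (nat_lit 10273) [nat_lit 69, nat_lit 161, nat_lit 69, nat_lit 92, nat_lit 46, nat_lit 138, nat_lit 46, nat_lit 138, nat_lit 46, nat_lit 138, nat_lit 46, nat_lit 138, nat_lit 46, nat_lit 115, nat_lit 69, nat_lit 161, nat_lit 69, nat_lit 161, nat_lit 69])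
noncomputable def r210 : WT := (.node (nat_lit 38) (.node (nat_lit 36) r204 (.node (nat_lit 37) r205 r206)) (.node (nat_lit 39) r207 (.node (nat_lit 40) r208 r209)))
noncomputable def r211 : WT := (.node (nat_lit 18) (.node (nat_lit 14) (.node (nat_lit 12) (.node (nat_lit 11) r172 r173) (.node (nat_lit 13) r174 r175)) (.node (nat_lit 16) (.node (nat_lit 15) r176 r177) (.node (nat_lit 17) r178 r179))) (.node (nat_lit 26) (.node (nat_lit 22) (.node (nat_lit 20) r182 r185) (.node (nat_lit 24) r188 r191)) (.node (nat_lit 31) (.node (nat_lit 28) r194 r198) (.node (nat_lit 35) r203 r210))))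
noncomputable def w5 : WT := (.node (nat_lit 1) (.leaf (nat_lit 2050) [nat_lit 138]) (.node (nat_lit 3) (.node (nat_lit 2) (.leaf (nat_lit 7174) [nat_lit 92, nat_lit 138, nat_lit 115]) (.leaf (nat_lit 7173) [nat_lit 115, nat_lit 138, nat_lit 92])) (.node (nat_lit 5) (.node (nat_lit 4) (.leaf (nat_lit 5121) [nat_lit 161, nat_lit 161]) (.leaf (nat_lit 13313) [nat_lit 69, nat_lit 161, nat_lit 69, nat_lit 161, nat_lit 69, nat_lit 161, nat_lit 69, nat_lit 161, nat_lit 69])) (.node (nat_lit 10) r171 r211))))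
noncomputable def r212 : WT := (.leaf (nat_lit 9218) [nat_lit 161, nat_lit 69, nat_lit 161, nat_lit 46, nat_lit 138, nat_lit 69, nat_lit 138, nat_lit 46, nat_lit 92, nat_lit 69, nat_lit 161, nat_lit 46, nat_lit 161, nat_lit 69, nat_lit 138, nat_lit 46, nat_lit 138, nat_lit 69, nat_lit 92, nat_lit 46])
noncomputable def r213 : WT := (.node (nat_lit 1) (.leaf (nat_lit 13313) [nat_lit 161, nat_lit 69, nat_lit 161, nat_lit 69, nat_lit 161, nat_lit 69, nat_lit 161, nat_lit 69, nat_lit 161, nat_lit 69]) r212)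
noncomputable def r214 : WT := (.leaf (nat_lit 11287) [nat_lit 69, nat_lit 92, nat_lit 161, nat_lit 46, nat_lit 138, nat_lit 69, nat_lit 161, nat_lit 115, nat_lit 46, nat_lit 115, nat_lit 69, nat_lit 92, nat_lit 138, nat_lit 46, nat_lit 161, nat_lit 69, nat_lit 138, nat_lit 115, nat_lit 46, nat_lit 161])
noncomputable def r215 : WT := (.leaf (nat_lit 9235) [nat_lit 46, nat_lit 115, nat_lit 69, nat_lit 161, nat_lit 46, nat_lit 161, nat_lit 69, nat_lit 138, nat_lit 46, nat_lit 138, nat_lit 69, nat_lit 115, nat_lit 46, nat_lit 161, nat_lit 69, nat_lit 161, nat_lit 46, nat_lit 138, nat_lit 69, nat_lit 138])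
noncomputable def r216 : WT := (.node (nat_lit 3) r214 r215)
noncomputable def r217 : WT := (.leaf (nat_lit 9228) [nat_lit 69, nat_lit 138, nat_lit 46, nat_lit 92, nat_lit 69, nat_lit 161, nat_lit 46, nat_lit 161, nat_lit 69, nat_lit 138, nat_lit 46, nat_lit 138, nat_lit 69, nat_lit 92, nat_lit 46, nat_lit 161, nat_lit 69, nat_lit 161, nat_lit 46, nat_lit 138])
noncomputable def r218 : WT := (.leaf (nat_lit 11290) [nat_lit 46, nat_lit 138, nat_lit 69, nat_lit 161, nat_lit 115, nat_lit 46, nat_lit 92, nat_lit 69, nat_lit 92, nat_lit 138, nat_lit 46, nat_lit 161, nat_lit 69, nat_lit 138, nat_lit 115, nat_lit 46, nat_lit 138, nat_lit 69, nat_lit 92, nat_lit 161])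
noncomputable def r219 : WT := (.node (nat_lit 5) r217 r218)
noncomputable def r220 : WT := (.leaf (nat_lit 11280) [nat_lit 46, nat_lit 138, nat_lit 69, nat_lit 92, nat_lit 161, nat_lit 46, nat_lit 138, nat_lit 69, nat_lit 161, nat_lit 115, nat_lit 46, nat_lit 92, nat_lit 69, nat_lit 92, nat_lit 138, nat_lit 46, nat_lit 161, nat_lit 69, nat_lit 138, nat_lit 115])
noncomputable def r221 : WT := (.leaf (nat_lit 11274) [nat_lit 69, nat_lit 138, nat_lit 115, nat_lit 46, nat_lit 138, nat_lit 69, nat_lit 92, nat_lit 161, nat_lit 46, nat_lit 138, nat_lit 69, nat_lit 161, nat_lit 115, nat_lit 46, nat_lit 92, nat_lit 69, nat_lit 92, nat_lit 138, nat_lit 46, nat_lit 161])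
noncomputable def r222 : WT := (.leaf (nat_lit 9249) [nat_lit 138, nat_lit 46, nat_lit 138, nat_lit 69, nat_lit 115, nat_lit 46, nat_lit 161, nat_lit 69, nat_lit 161, nat_lit 46, nat_lit 138, nat_lit 69, nat_lit 138, nat_lit 46, nat_lit 115, nat_lit 69, nat_lit 161, nat_lit 46, nat_lit 161, nat_lit 69])
noncomputable def r223 : WT := (.node (nat_lit 7) r220 (.node (nat_lit 8) r221 r222))
noncomputable def r224 : WT := (.leaf (nat_lit 10244) [nat_lit 46, nat_lit 138, nat_lit 46, nat_lit 138, nat_lit 46, nat_lit 138, nat_lit 46, nat_lit 92, nat_lit 69, nat_lit 161, nat_lit 69, nat_lit 161, nat_lit 69, nat_lit 161, nat_lit 69, nat_lit 161, nat_lit 69, nat_lit 115, nat_lit 46, nat_lit 138])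
noncomputable def r225 : WT := (.leaf (nat_lit 11279) [nat_lit 138, nat_lit 115, nat_lit 46, nat_lit 161, nat_lit 69, nat_lit 92, nat_lit 161, nat_lit 46, nat_lit 138, nat_lit 69, nat_lit 161, nat_lit 115, nat_lit 46, nat_lit 115, nat_lit 69, nat_lit 92, nat_lit 138, nat_lit 46, nat_lit 161, nat_lit 69])
noncomputable def r226 : WT := (.leaf (nat_lit 11297) [nat_lit 69, nat_lit 161, nat_lit 115, nat_lit 46, nat_lit 115, nat_lit 69, nat_lit 92, nat_lit 138, nat_lit 46, nat_lit 161, nat_lit 69, nat_lit 138, nat_lit 115, nat_lit 46, nat_lit 161, nat_lit 69, nat_lit 92, nat_lit 161, nat_lit 46, nat_lit 138])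
noncomputable def r227 : WT := (.node (nat_lit 10) r224 (.node (nat_lit 11) r225 r226))
noncomputable def r228 : WT := (.leaf (nat_lit 11300) [nat_lit 46, nat_lit 92, nat_lit 69, nat_lit 92, nat_lit 138, nat_lit 46, nat_lit 161, nat_lit 69, nat_lit 138, nat_lit 115, nat_lit 46, nat_lit 138, nat_lit 69, nat_lit 92, nat_lit 161, nat_lit 46, nat_lit 138, nat_lit 69, nat_lit 161, nat_lit 115])
noncomputable def r229 : WT := (.leaf (nat_lit 11294) [nat_lit 69, nat_lit 161, nat_lit 115, nat_lit 46, nat_lit 92, nat_lit 69, nat_lit 92, nat_lit 138, nat_lit 46, nat_lit 161, nat_lit 69, nat_lit 138, nat_lit 115, nat_lit 46, nat_lit 138, nat_lit 69, nat_lit 92, nat_lit 161, nat_lit 46, nat_lit 138])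
noncomputable def r230 : WT := (.leaf (nat_lit 12318) [nat_lit 69, nat_lit 161, nat_lit 115, nat_lit 46, nat_lit 161, nat_lit 69, nat_lit 92, nat_lit 138, nat_lit 46, nat_lit 161, nat_lit 69, nat_lit 138, nat_lit 115, nat_lit 46, nat_lit 92, nat_lit 69, nat_lit 92, nat_lit 161, nat_lit 46, nat_lit 138])
noncomputable def r231 : WT := (.node (nat_lit 14) (.node (nat_lit 13) r228 r229) (.node (nat_lit 15) r230 (.leaf (nat_lit 6146) [nat_lit 46, nat_lit 115, nat_lit 69, nat_lit 69, nat_lit 92])))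
noncomputable def r232 : WT := (.leaf (nat_lit 9224) [nat_lit 46, nat_lit 138, nat_lit 69, nat_lit 138, nat_lit 46, nat_lit 92, nat_lit 69, nat_lit 161, nat_lit 46, nat_lit 161, nat_lit 69, nat_lit 138, nat_lit 46, nat_lit 138, nat_lit 69, nat_lit 92, nat_lit 46, nat_lit 161, nat_lit 69, nat_lit 161])
noncomputable def r233 : WT := (.leaf (nat_lit 10257) [nat_lit 138, nat_lit 46, nat_lit 115, nat_lit 69, nat_lit 161, nat_lit 69, nat_lit 161, nat_lit 69, nat_lit 161, nat_lit 69, nat_lit 161, nat_lit 69, nat_lit 92, nat_lit 46, nat_lit 138, nat_lit 46, nat_lit 138, nat_lit 46, nat_lit 138, nat_lit 46])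
noncomputable def r234 : WT := (.leaf (nat_lit 12291) [nat_lit 69, nat_lit 92, nat_lit 138, nat_lit 46, nat_lit 161, nat_lit 69, nat_lit 138, nat_lit 115, nat_lit 46, nat_lit 115, nat_lit 69, nat_lit 92, nat_lit 161, nat_lit 46, nat_lit 138, nat_lit 69, nat_lit 161, nat_lit 115, nat_lit 46, nat_lit 138])
noncomputable def r235 : WT := (.node (nat_lit 17) r232 (.node (nat_lit 18) r233 r234))
noncomputable def r236 : WT := (.leaf (nat_lit 8207) [nat_lit 46, nat_lit 161, nat_lit 46, nat_lit 115, nat_lit 69, nat_lit 138, nat_lit 69, nat_lit 138, nat_lit 69, nat_lit 138, nat_lit 69, nat_lit 138, nat_lit 69, nat_lit 92, nat_lit 46, nat_lit 161, nat_lit 46, nat_lit 161, nat_lit 46, nat_lit 161])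
noncomputable def r237 : WT := (.leaf (nat_lit 8201) [nat_lit 161, nat_lit 46, nat_lit 161, nat_lit 46, nat_lit 161, nat_lit 46, nat_lit 115, nat_lit 69, nat_lit 138, nat_lit 69, nat_lit 138, nat_lit 69, nat_lit 138, nat_lit 69, nat_lit 138, nat_lit 69, nat_lit 92, nat_lit 46, nat_lit 161, nat_lit 46])
noncomputable def r238 : WT := (.leaf (nat_lit 12295) [nat_lit 138, nat_lit 46, nat_lit 161, nat_lit 69, nat_lit 138, nat_lit 115, nat_lit 46, nat_lit 115, nat_lit 69, nat_lit 92, nat_lit 161, nat_lit 46, nat_lit 138, nat_lit 69, nat_lit 161, nat_lit 115, nat_lit 46, nat_lit 138, nat_lit 69, nat_lit 92])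
noncomputable def r239 : WT := (.leaf (nat_lit 12297) [nat_lit 46, nat_lit 161, nat_lit 69, nat_lit 138, nat_lit 115, nat_lit 46, nat_lit 115, nat_lit 69, nat_lit 92, nat_lit 161, nat_lit 46, nat_lit 138, nat_lit 69, nat_lit 161, nat_lit 115, nat_lit 46, nat_lit 138, nat_lit 69, nat_lit 92, nat_lit 138])
noncomputable def r240 : WT := (.node (nat_lit 21) (.node (nat_lit 20) r236 r237) (.node (nat_lit 22) r238 r239))
noncomputable def r241 : WT := (.leaf (nat_lit 10269) [nat_lit 161, nat_lit 69, nat_lit 161, nat_lit 69, nat_lit 161, nat_lit 69, nat_lit 92, nat_lit 46, nat_lit 138, nat_lit 46, nat_lit 138, nat_lit 46, nat_lit 138, nat_lit 46, nat_lit 138, nat_lit 46, nat_lit 115, nat_lit 69, nat_lit 161, nat_lit 69])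
noncomputable def r242 : WT := (.leaf (nat_lit 8202) [nat_lit 161, nat_lit 46, nat_lit 161, nat_lit 46, nat_lit 92, nat_lit 69, nat_lit 138, nat_lit 69, nat_lit 138, nat_lit 69, nat_lit 138, nat_lit 69, nat_lit 138, nat_lit 69, nat_lit 115, nat_lit 46, nat_lit 161, nat_lit 46, nat_lit 161, nat_lit 46])
noncomputable def r243 : WT := (.leaf (nat_lit 12321) [nat_lit 69, nat_lit 161, nat_lit 115, nat_lit 46, nat_lit 138, nat_lit 69, nat_lit 92, nat_lit 138, nat_lit 46, nat_lit 161, nat_lit 69, nat_lit 138, nat_lit 115, nat_lit 46, nat_lit 115, nat_lit 69, nat_lit 92, nat_lit 161, nat_lit 46, nat_lit 138])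
noncomputable def r244 : WT := (.leaf (nat_lit 11296) [nat_lit 161, nat_lit 115, nat_lit 46, nat_lit 92, nat_lit 69, nat_lit 92, nat_lit 138, nat_lit 46, nat_lit 161, nat_lit 69, nat_lit 138, nat_lit 115, nat_lit 46, nat_lit 138, nat_lit 69, nat_lit 92, nat_lit 161, nat_lit 46, nat_lit 138, nat_lit 69])
noncomputable def r245 : WT := (.node (nat_lit 25) (.node (nat_lit 24) r241 r242) (.node (nat_lit 26) r243 r244))
noncomputable def r246 : WT := (.leaf (nat_lit 11298) [nat_lit 115, nat_lit 46, nat_lit 92, nat_lit 69, nat_lit 92, nat_lit 138, nat_lit 46, nat_lit 161, nat_lit 69, nat_lit 138, nat_lit 115, nat_lit 46, nat_lit 138, nat_lit 69, nat_lit 92, nat_lit 161, nat_lit 46, nat_lit 138, nat_lit 69, nat_lit 161])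
noncomputable def r247 : WT := (.leaf (nat_lit 11273) [nat_lit 46, nat_lit 161, nat_lit 69, nat_lit 138, nat_lit 115, nat_lit 46, nat_lit 161, nat_lit 69, nat_lit 92, nat_lit 161, nat_lit 46, nat_lit 138, nat_lit 69, nat_lit 161, nat_lit 115, nat_lit 46, nat_lit 115, nat_lit 69, nat_lit 92, nat_lit 138])
noncomputable def r248 : WT := (.leaf (nat_lit 11292) [nat_lit 138, nat_lit 69, nat_lit 161, nat_lit 115, nat_lit 46, nat_lit 92, nat_lit 69, nat_lit 92, nat_lit 138, nat_lit 46, nat_lit 161, nat_lit 69, nat_lit 138, nat_lit 115, nat_lit 46, nat_lit 138, nat_lit 69, nat_lit 92, nat_lit 161, nat_lit 46])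
noncomputable def r249 : WT := (.leaf (nat_lit 11285) [nat_lit 161, nat_lit 69, nat_lit 92, nat_lit 161, nat_lit 46, nat_lit 138, nat_lit 69, nat_lit 161, nat_lit 115, nat_lit 46, nat_lit 115, nat_lit 69, nat_lit 92, nat_lit 138, nat_lit 46, nat_lit 161, nat_lit 69, nat_lit 138, nat_lit 115, nat_lit 46])
noncomputable def r250 : WT := (.leaf (nat_lit 12288) [nat_lit 69, nat_lit 92, nat_lit 138, nat_lit 46, nat_lit 161, nat_lit 69, nat_lit 138, nat_lit 115, nat_lit 46, nat_lit 92, nat_lit 69, nat_lit 92, nat_lit 161, nat_lit 46, nat_lit 138, nat_lit 69, nat_lit 161, nat_lit 115, nat_lit 46, nat_lit 161])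
noncomputable def r251 : WT := (.leaf (nat_lit 11289) [nat_lit 92, nat_lit 161, nat_lit 46, nat_lit 138, nat_lit 69, nat_lit 161, nat_lit 115, nat_lit 46, nat_lit 115, nat_lit 69, nat_lit 92, nat_lit 138, nat_lit 46, nat_lit 161, nat_lit 69, nat_lit 138, nat_lit 115, nat_lit 46, nat_lit 161, nat_lit 69])
noncomputable def r252 : WT := (.leaf (nat_lit 11293) [nat_lit 46, nat_lit 138, nat_lit 69, nat_lit 161, nat_lit 115, nat_lit 46, nat_lit 115, nat_lit 69, nat_lit 92, nat_lit 138, nat_lit 46, nat_lit 161, nat_lit 69, nat_lit 138, nat_lit 115, nat_lit 46, nat_lit 161, nat_lit 69, nat_lit 92, nat_lit 161])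
noncomputable def r253 : WT := (.node (nat_lit 31) (.node (nat_lit 29) (.node (nat_lit 28) r246 r247) (.node (nat_lit 30) r248 r249)) (.node (nat_lit 32) r250 (.node (nat_lit 33) r251 r252)))
noncomputable def r254 : WT := (.leaf (nat_lit 11295) [nat_lit 138, nat_lit 69, nat_lit 161, nat_lit 115, nat_lit 46, nat_lit 115, nat_lit 69, nat_lit 92, nat_lit 138, nat_lit 46, nat_lit 161, nat_lit 69, nat_lit 138, nat_lit 115, nat_lit 46, nat_lit 161, nat_lit 69, nat_lit 92, nat_lit 161, nat_lit 46])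
noncomputable def r255 : WT := (.leaf (nat_lit 11299) [nat_lit 161, nat_lit 115, nat_lit 46, nat_lit 115, nat_lit 69, nat_lit 92, nat_lit 138, nat_lit 46, nat_lit 161, nat_lit 69, nat_lit 138, nat_lit 115, nat_lit 46, nat_lit 161, nat_lit 69, nat_lit 92, nat_lit 161, nat_lit 46, nat_lit 138, nat_lit 69])
noncomputable def r256 : WT := (.leaf (nat_lit 10247) [nat_lit 46, nat_lit 138, nat_lit 46, nat_lit 138, nat_lit 46, nat_lit 138, nat_lit 46, nat_lit 115, nat_lit 69, nat_lit 161, nat_lit 69, nat_lit 161, nat_lit 69, nat_lit 161, nat_lit 69, nat_lit 161, nat_lit 69, nat_lit 92, nat_lit 46, nat_lit 138])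
noncomputable def r257 : WT := (.leaf (nat_lit 12298) [nat_lit 69, nat_lit 138, nat_lit 115, nat_lit 46, nat_lit 92, nat_lit 69, nat_lit 92, nat_lit 161, nat_lit 46, nat_lit 138, nat_lit 69, nat_lit 161, nat_lit 115, nat_lit 46, nat_lit 161, nat_lit 69, nat_lit 92, nat_lit 138, nat_lit 46, nat_lit 161])
noncomputable def r258 : WT := (.leaf (nat_lit 12302) [nat_lit 115, nat_lit 46, nat_lit 92, nat_lit 69, nat_lit 92, nat_lit 161, nat_lit 46, nat_lit 138, nat_lit 69, nat_lit 161, nat_lit 115, nat_lit 46, nat_lit 161, nat_lit 69, nat_lit 92, nat_lit 138, nat_lit 46, nat_lit 161, nat_lit 69, nat_lit 138])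
noncomputable def r259 : WT := (.leaf (nat_lit 12314) [nat_lit 46, nat_lit 138, nat_lit 69, nat_lit 161, nat_lit 115, nat_lit 46, nat_lit 161, nat_lit 69, nat_lit 92, nat_lit 138, nat_lit 46, nat_lit 161, nat_lit 69, nat_lit 138, nat_lit 115, nat_lit 46, nat_lit 92, nat_lit 69, nat_lit 92, nat_lit 161])
noncomputable def r260 : WT := (.leaf (nat_lit 12289) [nat_lit 138, nat_lit 69, nat_lit 92, nat_lit 138, nat_lit 46, nat_lit 161, nat_lit 69, nat_lit 138, nat_lit 115, nat_lit 46, nat_lit 115, nat_lit 69, nat_lit 92, nat_lit 161, nat_lit 46, nat_lit 138, nat_lit 69, nat_lit 161, nat_lit 115, nat_lit 46])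
noncomputable def r261 : WT := (.node (nat_lit 37) (.node (nat_lit 35) r254 (.node (nat_lit 36) r255 r256)) (.node (nat_lit 39) (.node (nat_lit 38) r257 r258) (.node (nat_lit 40) r259 r260)))
noncomputable def r262 : WT := (.leaf (nat_lit 12305) [nat_lit 115, nat_lit 46, nat_lit 115, nat_lit 69, nat_lit 92, nat_lit 161, nat_lit 46, nat_lit 138, nat_lit 69, nat_lit 161, nat_lit 115, nat_lit 46, nat_lit 138, nat_lit 69, nat_lit 92, nat_lit 138, nat_lit 46, nat_lit 161, nat_lit 69, nat_lit 138])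
noncomputable def r263 : WT := (.leaf (nat_lit 12315) [nat_lit 161, nat_lit 46, nat_lit 138, nat_lit 69, nat_lit 161, nat_lit 115, nat_lit 46, nat_lit 138, nat_lit 69, nat_lit 92, nat_lit 138, nat_lit 46, nat_lit 161, nat_lit 69, nat_lit 138, nat_lit 115, nat_lit 46, nat_lit 115, nat_lit 69, nat_lit 92])
noncomputable def r264 : WT := (.leaf (nat_lit 12319) [nat_lit 138, nat_lit 69, nat_lit 161, nat_lit 115, nat_lit 46, nat_lit 138, nat_lit 69, nat_lit 92, nat_lit 138, nat_lit 46, nat_lit 161, nat_lit 69, nat_lit 138, nat_lit 115, nat_lit 46, nat_lit 115, nat_lit 69, nat_lit 92, nat_lit 161, nat_lit 46])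
noncomputable def r265 : WT := (.leaf (nat_lit 12325) [nat_lit 115, nat_lit 46, nat_lit 138, nat_lit 69, nat_lit 92, nat_lit 138, nat_lit 46, nat_lit 161, nat_lit 69, nat_lit 138, nat_lit 115, nat_lit 46, nat_lit 115, nat_lit 69, nat_lit 92, nat_lit 161, nat_lit 46, nat_lit 138, nat_lit 69, nat_lit 161])
noncomputable def r266 : WT := (.leaf (nat_lit 12327) [nat_lit 46, nat_lit 138, nat_lit 69, nat_lit 92, nat_lit 138, nat_lit 46, nat_lit 161, nat_lit 69, nat_lit 138, nat_lit 115, nat_lit 46, nat_lit 115, nat_lit 69, nat_lit 92, nat_lit 161, nat_lit 46, nat_lit 138, nat_lit 69, nat_lit 161, nat_lit 115])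
noncomputable def r267 : WT := (.leaf (nat_lit 9252) [nat_lit 69, nat_lit 92, nat_lit 46, nat_lit 161, nat_lit 69, nat_lit 161, nat_lit 46, nat_lit 138, nat_lit 69, nat_lit 138, nat_lit 46, nat_lit 92, nat_lit 69, nat_lit 161, nat_lit 46, nat_lit 161, nat_lit 69, nat_lit 138, nat_lit 46, nat_lit 138])
noncomputable def r268 : WT := (.node (nat_lit 44) (.node (nat_lit 42) r262 (.node (nat_lit 43) r263 r264)) (.node (nat_lit 46) (.node (nat_lit 45) r265 r266) (.node (nat_lit 47) r267 (.leaf (nat_lit 6144) [nat_lit 92, nat_lit 46, nat_lit 115, nat_lit 69, nat_lit 69]))))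
noncomputable def r269 : WT := (.leaf (nat_lit 8196) [nat_lit 46, nat_lit 161, nat_lit 46, nat_lit 161, nat_lit 46, nat_lit 161, nat_lit 46, nat_lit 92, nat_lit 69, nat_lit 138, nat_lit 69, nat_lit 138, nat_lit 69, nat_lit 138, nat_lit 69, nat_lit 138, nat_lit 69, nat_lit 115, nat_lit 46, nat_lit 161])
noncomputable def r270 : WT := (.leaf (nat_lit 8198) [nat_lit 161, nat_lit 46, nat_lit 161, nat_lit 46, nat_lit 161, nat_lit 46, nat_lit 92, nat_lit 69, nat_lit 138, nat_lit 69, nat_lit 138, nat_lit 69, nat_lit 138, nat_lit 69, nat_lit 138, nat_lit 69, nat_lit 115, nat_lit 46, nat_lit 161, nat_lit 46])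
noncomputable def r271 : WT := (.leaf (nat_lit 8208) [nat_lit 46, nat_lit 92, nat_lit 69, nat_lit 138, nat_lit 69, nat_lit 138, nat_lit 69, nat_lit 138, nat_lit 69, nat_lit 138, nat_lit 69, nat_lit 115, nat_lit 46, nat_lit 161, nat_lit 46, nat_lit 161, nat_lit 46, nat_lit 161, nat_lit 46, nat_lit 161])
noncomputable def r272 : WT := (.leaf (nat_lit 8214) [nat_lit 138, nat_lit 69, nat_lit 138, nat_lit 69, nat_lit 138, nat_lit 69, nat_lit 138, nat_lit 69, nat_lit 115, nat_lit 46, nat_lit 161, nat_lit 46, nat_lit 161, nat_lit 46, nat_lit 161, nat_lit 46, nat_lit 161, nat_lit 46, nat_lit 92, nat_lit 69])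
noncomputable def r273 : WT := (.leaf (nat_lit 8222) [nat_lit 138, nat_lit 69, nat_lit 138, nat_lit 69, nat_lit 115, nat_lit 46, nat_lit 161, nat_lit 46, nat_lit 161, nat_lit 46, nat_lit 161, nat_lit 46, nat_lit 161, nat_lit 46, nat_lit 92, nat_lit 69, nat_lit 138, nat_lit 69, nat_lit 138, nat_lit 69])
noncomputable def r274 : WT := (.leaf (nat_lit 8228) [nat_lit 69, nat_lit 115, nat_lit 46, nat_lit 161, nat_lit 46, nat_lit 161, nat_lit 46, nat_lit 161, nat_lit 46, nat_lit 161, nat_lit 46, nat_lit 92, nat_lit 69, nat_lit 138, nat_lit 69, nat_lit 138, nat_lit 69, nat_lit 138, nat_lit 69, nat_lit 138])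
noncomputable def r275 : WT := (.node (nat_lit 51) (.node (nat_lit 49) (.leaf (nat_lit 13315) [nat_lit 69, nat_lit 161, nat_lit 69, nat_lit 161, nat_lit 69, nat_lit 161, nat_lit 69, nat_lit 161, nat_lit 69, nat_lit 161]) (.node (nat_lit 50) r269 r270)) (.node (nat_lit 53) (.node (nat_lit 52) r271 r272) (.node (nat_lit 54) r273 r274)))
noncomputable def r276 : WT := (.leaf (nat_lit 8223) [nat_lit 69, nat_lit 138, nat_lit 69, nat_lit 138, nat_lit 69, nat_lit 92, nat_lit 46, nat_lit 161, nat_lit 46, nat_lit 161, nat_lit 46, nat_lit 161, nat_lit 46, nat_lit 161, nat_lit 46, nat_lit 115, nat_lit 69, nat_lit 138, nat_lit 69, nat_lit 138])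
noncomputable def r277 : WT := (.leaf (nat_lit 8225) [nat_lit 138, nat_lit 69, nat_lit 138, nat_lit 69, nat_lit 92, nat_lit 46, nat_lit 161, nat_lit 46, nat_lit 161, nat_lit 46, nat_lit 161, nat_lit 46, nat_lit 161, nat_lit 46, nat_lit 115, nat_lit 69, nat_lit 138, nat_lit 69, nat_lit 138, nat_lit 69])
noncomputable def r278 : WT := (.leaf (nat_lit 9230) [nat_lit 138, nat_lit 46, nat_lit 92, nat_lit 69, nat_lit 161, nat_lit 46, nat_lit 161, nat_lit 69, nat_lit 138, nat_lit 46, nat_lit 138, nat_lit 69, nat_lit 92, nat_lit 46, nat_lit 161, nat_lit 69, nat_lit 161, nat_lit 46, nat_lit 138, nat_lit 69])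
noncomputable def r279 : WT := (.leaf (nat_lit 9238) [nat_lit 161, nat_lit 46, nat_lit 161, nat_lit 69, nat_lit 138, nat_lit 46, nat_lit 138, nat_lit 69, nat_lit 92, nat_lit 46, nat_lit 161, nat_lit 69, nat_lit 161, nat_lit 46, nat_lit 138, nat_lit 69, nat_lit 138, nat_lit 46, nat_lit 92, nat_lit 69])
noncomputable def r280 : WT := (.leaf (nat_lit 9240) [nat_lit 46, nat_lit 161, nat_lit 69, nat_lit 138, nat_lit 46, nat_lit 138, nat_lit 69, nat_lit 92, nat_lit 46, nat_lit 161, nat_lit 69, nat_lit 161, nat_lit 46, nat_lit 138, nat_lit 69, nat_lit 138, nat_lit 46, nat_lit 92, nat_lit 69, nat_lit 161])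
noncomputable def r281 : WT := (.leaf (nat_lit 9242) [nat_lit 161, nat_lit 69, nat_lit 138, nat_lit 46, nat_lit 138, nat_lit 69, nat_lit 92, nat_lit 46, nat_lit 161, nat_lit 69, nat_lit 161, nat_lit 46, nat_lit 138, nat_lit 69, nat_lit 138, nat_lit 46, nat_lit 92, nat_lit 69, nat_lit 161, nat_lit 46])
noncomputable def r282 : WT := (.leaf (nat_lit 11282) [nat_lit 138, nat_lit 69, nat_lit 92, nat_lit 161, nat_lit 46, nat_lit 138, nat_lit 69, nat_lit 161, nat_lit 115, nat_lit 46, nat_lit 92, nat_lit 69, nat_lit 92, nat_lit 138, nat_lit 46, nat_lit 161, nat_lit 69, nat_lit 138, nat_lit 115, nat_lit 46])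
noncomputable def r283 : WT := (.node (nat_lit 58) (.node (nat_lit 56) r276 (.node (nat_lit 57) r277 r278)) (.node (nat_lit 60) (.node (nat_lit 59) r279 r280) (.node (nat_lit 61) r281 r282)))
noncomputable def r284 : WT := (.leaf (nat_lit 9221) [nat_lit 161, nat_lit 69, nat_lit 161, nat_lit 46, nat_lit 138, nat_lit 69, nat_lit 138, nat_lit 46, nat_lit 115, nat_lit 69, nat_lit 161, nat_lit 46, nat_lit 161, nat_lit 69, nat_lit 138, nat_lit 46, nat_lit 138, nat_lit 69, nat_lit 115, nat_lit 46])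
noncomputable def r285 : WT := (.leaf (nat_lit 9227) [nat_lit 46, nat_lit 138, nat_lit 69, nat_lit 138, nat_lit 46, nat_lit 115, nat_lit 69, nat_lit 161, nat_lit 46, nat_lit 161, nat_lit 69, nat_lit 138, nat_lit 46, nat_lit 138, nat_lit 69, nat_lit 115, nat_lit 46, nat_lit 161, nat_lit 69, nat_lit 161])
noncomputable def r286 : WT := (.leaf (nat_lit 9243) [nat_lit 46, nat_lit 161, nat_lit 69, nat_lit 138, nat_lit 46, nat_lit 138, nat_lit 69, nat_lit 115, nat_lit 46, nat_lit 161, nat_lit 69, nat_lit 161, nat_lit 46, nat_lit 138, nat_lit 69, nat_lit 138, nat_lit 46, nat_lit 115, nat_lit 69, nat_lit 161])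
noncomputable def r287 : WT := (.leaf (nat_lit 9245) [nat_lit 161, nat_lit 69, nat_lit 138, nat_lit 46, nat_lit 138, nat_lit 69, nat_lit 115, nat_lit 46, nat_lit 161, nat_lit 69, nat_lit 161, nat_lit 46, nat_lit 138, nat_lit 69, nat_lit 138, nat_lit 46, nat_lit 115, nat_lit 69, nat_lit 161, nat_lit 46])
noncomputable def r288 : WT := (.leaf (nat_lit 9247) [nat_lit 69, nat_lit 138, nat_lit 46, nat_lit 138, nat_lit 69, nat_lit 115, nat_lit 46, nat_lit 161, nat_lit 69, nat_lit 161, nat_lit 46, nat_lit 138, nat_lit 69, nat_lit 138, nat_lit 46, nat_lit 115, nat_lit 69, nat_lit 161, nat_lit 46, nat_lit 161])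
noncomputable def r289 : WT := (.leaf (nat_lit 10240) [nat_lit 46, nat_lit 138, nat_lit 46, nat_lit 138, nat_lit 46, nat_lit 138, nat_lit 46, nat_lit 138, nat_lit 46, nat_lit 92, nat_lit 69, nat_lit 161, nat_lit 69, nat_lit 161, nat_lit 69, nat_lit 161, nat_lit 69, nat_lit 161, nat_lit 69, nat_lit 115])
noncomputable def r290 : WT := (.leaf (nat_lit 10242) [nat_lit 138, nat_lit 46, nat_lit 138, nat_lit 46, nat_lit 138, nat_lit 46, nat_lit 138, nat_lit 46, nat_lit 92, nat_lit 69, nat_lit 161, nat_lit 69, nat_lit 161, nat_lit 69, nat_lit 161, nat_lit 69, nat_lit 161, nat_lit 69, nat_lit 115, nat_lit 46])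
noncomputable def r291 : WT := (.node (nat_lit 65) (.node (nat_lit 63) r284 (.node (nat_lit 64) r285 r286)) (.node (nat_lit 67) (.node (nat_lit 66) r287 r288) (.node (nat_lit 68) r289 r290)))
noncomputable def r292 : WT := (.leaf (nat_lit 10246) [nat_lit 138, nat_lit 46, nat_lit 138, nat_lit 46, nat_lit 138, nat_lit 46, nat_lit 92, nat_lit 69, nat_lit 161, nat_lit 69, nat_lit 161, nat_lit 69, nat_lit 161, nat_lit 69, nat_lit 161, nat_lit 69, nat_lit 115, nat_lit 46, nat_lit 138, nat_lit 46])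
noncomputable def r293 : WT := (.leaf (nat_lit 10248) [nat_lit 46, nat_lit 138, nat_lit 46, nat_lit 138, nat_lit 46, nat_lit 92, nat_lit 69, nat_lit 161, nat_lit 69, nat_lit 161, nat_lit 69, nat_lit 161, nat_lit 69, nat_lit 161, nat_lit 69, nat_lit 115, nat_lit 46, nat_lit 138, nat_lit 46, nat_lit 138])
noncomputable def r294 : WT := (.leaf (nat_lit 10254) [nat_lit 138, nat_lit 46, nat_lit 92, nat_lit 69, nat_lit 161, nat_lit 69, nat_lit 161, nat_lit 69, nat_lit 161, nat_lit 69, nat_lit 161, nat_lit 69, nat_lit 115, nat_lit 46, nat_lit 138, nat_lit 46, nat_lit 138, nat_lit 46, nat_lit 138, nat_lit 46])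
noncomputable def r295 : WT := (.leaf (nat_lit 10270) [nat_lit 161, nat_lit 69, nat_lit 161, nat_lit 69, nat_lit 115, nat_lit 46, nat_lit 138, nat_lit 46, nat_lit 138, nat_lit 46, nat_lit 138, nat_lit 46, nat_lit 138, nat_lit 46, nat_lit 92, nat_lit 69, nat_lit 161, nat_lit 69, nat_lit 161, nat_lit 69])
noncomputable def r296 : WT := (.leaf (nat_lit 10251) [nat_lit 46, nat_lit 138, nat_lit 46, nat_lit 138, nat_lit 46, nat_lit 115, nat_lit 69, nat_lit 161, nat_lit 69, nat_lit 161, nat_lit 69, nat_lit 161, nat_lit 69, nat_lit 161, nat_lit 69, nat_lit 92, nat_lit 46, nat_lit 138, nat_lit 46, nat_lit 138])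
noncomputable def r297 : WT := (.leaf (nat_lit 10263) [nat_lit 69, nat_lit 161, nat_lit 69, nat_lit 161, nat_lit 69, nat_lit 161, nat_lit 69, nat_lit 161, nat_lit 69, nat_lit 92, nat_lit 46, nat_lit 138, nat_lit 46, nat_lit 138, nat_lit 46, nat_lit 138, nat_lit 46, nat_lit 138, nat_lit 46, nat_lit 115])
noncomputable def r298 : WT := (.node (nat_lit 72) (.node (nat_lit 70) r292 (.node (nat_lit 71) r293 r294)) (.node (nat_lit 74) (.node (nat_lit 73) r295 (.leaf (nat_lit 7171) [nat_lit 92, nat_lit 161, nat_lit 115, nat_lit 138])) (.node (nat_lit 75) r296 r297)))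
noncomputable def wP : WT := (.node (nat_lit 23) (.node (nat_lit 9) (.node (nat_lit 4) (.node (nat_lit 2) r213 r216) (.node (nat_lit 6) r219 r223)) (.node (nat_lit 16) (.node (nat_lit 12) r227 r231) (.node (nat_lit 19) r235 r240))) (.node (nat_lit 48) (.node (nat_lit 34) (.node (nat_lit 27) r245 r253) (.node (nat_lit 41) r261 r268)) (.node (nat_lit 62) (.node (nat_lit 55) r275 r283) (.node (nat_lit 69) r291 r298))))
noncomputable def P : Par := ⟨tb, nat_lit 184, nat_lit 0xffffffffffffffffffffffffffffffffffffffffffffff, nat_lit 5191, nat_lit 8388607, nat_lit 8191, nat_lit 23, nat_lit 13, nat_lit 3840,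
  [nat_lit 46, nat_lit 69, nat_lit 92, nat_lit 115, nat_lit 138, nat_lit 161], [nat_lit 46, nat_lit 92], wP,
  (.cons (nat_lit 46) w0 (.cons (nat_lit 69) w1 (.cons (nat_lit 92) w2 (.cons (nat_lit 115) w3 (.cons (nat_lit 138) w4 (.cons (nat_lit 161) w5 .nil)))))),
  .nil⟩

end Cfsg.Agent.Lib.TCOP1
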